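import Cfsg.Agent.Lib.H75ZProps

/-! # Project 3357, piece Cop (45 min) -/

set_option autoImplicit false

namespace Cfsg.Agent.Lib.H11FpCop

/-- **If `A × B` is a Frobenius complement, `|A|` and `|B|` are coprime.** -/
theorem coprime_of_frob {A B : Type*} [Group A] [Group B] [Finite A] [Finite B]
    (h : ∃ (L : Type) (_ : Group L) (_ : Finite L) (H : Subgroup L),
      Cfsg.IsFrobeniusComplement H ∧ Nonempty ((A × B) ≃* H)) :
    (Nat.card A).Coprime (Nat.card B) := by
  classical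
  by_contra hcop
  obtain ⟨r, hr, hrA, hrB⟩ := Nat.Prime.not_coprime_iff_dvd.mp hcop
  have : Fact r.Prime := ⟨hr⟩
  obtain ⟨a, ha⟩ := exists_prime_orderOf_dvd_card' r hrA
  obtain ⟨b, hb⟩ := exists_prime_orderOf_dvd_card' r hrB
  set E : Subgroup (A × B) := (Subgroup.zpowers a).prod (Subgroup.zpowers b) with hE
  have hab : ∀ x ∈ E, ∀ y ∈ E, x * y = y * x := by
    intro x hx y hy
    rw [hE, Subgroup.mem_prod] at hx hy
    obtain ⟨⟨i, hi⟩, ⟨j, hj⟩⟩ := hx
    obtain ⟨⟨k, hk⟩, ⟨l, hl⟩⟩ := hy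
    apply Prod.ext
    · simp only [Prod.fst_mul]
      rw [← hi, ← hk]
      exact ((Commute.refl a).zpow_zpow i k)
    · simp only [Prod.snd_mul]
      rw [← hj, ← hl]
      exact ((Commute.refl b).zpow_zpow j l)
  have hcyc : IsCyclic E := (Cfsg.Agent.Lib.H75ZProps.props h).2.1 E hab
  have hpow : ∀ x : E, x ^ r = 1 := by
    intro x
    have hx : (x : A × B) ∈ (Subgroup.zpowers a).prod (Subgroup.zpowers b) := x.2
    rw [Subgroup.mem_prod] at hx
    obtain ⟨⟨i, hi⟩, ⟨j, hj⟩⟩ := hx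
    apply Subtype.ext
    apply Prod.ext
    · simp only [Subgroup.coe_pow, Prod.pow_fst, Subgroup.coe_one, Prod.fst_one]
      rw [← hi]
      simp only
      rw [← zpow_natCast, ← zpow_mul, mul_comm, zpow_mul, zpow_natCast, ← ha, pow_orderOf_eq_one,
        one_zpow]
    · simp only [Subgroup.coe_pow, Prod.pow_snd, Subgroup.coe_one, Prod.snd_one]
      rw [← hj]
      simp only
      rw [← zpow_natCast, ← zpow_mul, mul_comm, zpow_mul, zpow_natCast, ← hb, pow_orderOf_eq_one,
        one_zpow]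
  obtain ⟨x, hx⟩ := hcyc.exists_generator
  have hcard : orderOf x = Nat.card E := orderOf_eq_card_of_forall_mem_zpowers hx
  have hle : orderOf x ≤ r := Nat.le_of_dvd hr.pos (orderOf_dvd_of_pow_eq_one (hpow x))
  have hcE : Nat.card E = r * r := by
    rw [hE, Nat.card_congr (Subgroup.prodEquiv _ _).toEquiv, Nat.card_prod, Nat.card_zpowers,
      Nat.card_zpowers, ha, hb]
  rw [hcard, hcE] at hle
  have := hr.one_lt
  nlinarith

end Cfsg.Agent.Lib.H11FpCop
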