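import Cfsg.Agent.Lib.Helper1Fpf
import Cfsg.Agent.Lib.Helper1UniqInv
import Cfsg.Agent.Lib.Helper1SylowInv
import Cfsg.Agent.Lib.Helper1Char
import Cfsg.Agent.Lib.Helper29Basic

set_option autoImplicit false

namespace Cfsg.Agent.Lib.Helper1FpfSylow

open Subgroup

variable {G : Type*} [Group G]

/-- a subgroup acting by conjugation without fixed points on `K` has order dividing `|K| - 1` -/
theorem card_dvd_card_sub_one [Finite G] (E K : Subgroup G) (hEK : E ≤ normalizer (K : Set G))
    (hfpf : ∀ h ∈ E, h ≠ 1 → K ⊓ centralizer {h} = ⊥) : Nat.card E ∣ Nat.card K - 1 := by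
  let _ : MulAction E K :=
    { smul := fun a v => ⟨a * v * a⁻¹, (mem_normalizer_iff.mp (hEK a.2) v).mp v.2⟩
      one_smul := fun v => by ext; change (1 : G) * v * (1 : G)⁻¹ = v; simp
      mul_smul := fun a b v => by
        ext; change (a * b : G) * v * (a * b : G)⁻¹ = a * (b * v * (b : G)⁻¹) * (a : G)⁻¹; group }
  have hs : ∀ (a : E) (v : K), ((a • v : K) : G) = a * v * (a : G)⁻¹ := fun a v => rfl
  let S : SubMulAction E K :=
    { carrier := {v | v ≠ 1}
      smul_mem' := by
        intro a v hv he
        apply hv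
        have h1 : (a : G) * v * (a : G)⁻¹ = 1 := by rw [← hs, he]; rfl
        apply Subtype.ext
        have : (v : G) = (a : G)⁻¹ * (a * v * (a : G)⁻¹) * a := by group
        rw [this, h1]; simp }
  have h1 : Nat.card E ∣ Nat.card S := by
    apply Cfsg.Agent.Lib.Helper1Frob.card_dvd_of_free
    intro x
    rw [eq_bot_iff]
    intro a ha
    rw [mem_bot]
    by_contra ha1
    have h2 : a • x = x := ha
    have h3 : (a : G) * (x : K) * (a : G)⁻¹ = (x : K) := by
      have := congrArg (fun y : S => ((y : K) : G)) h2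
      exact this
    have h4 : ((x : K) : G) ∈ K ⊓ centralizer {(a : G)} := by
      refine mem_inf.mpr ⟨(x : K).2, ?_⟩
      rw [mem_centralizer_singleton_iff]
      calc ((x : K) : G) * a = (a * (x : K) * (a : G)⁻¹) * a := by rw [h3]
        _ = a * (x : K) := by group
    rw [hfpf a a.2 (fun e => ha1 (Subtype.ext e)), mem_bot] at h4
    exact x.2 (Subtype.ext h4)
  have h2 : Nat.card S + 1 = Nat.card K := by
    have := Fintype.ofFinite K
    classical
    have e : Nat.card S = Nat.card {v : K // v ≠ 1} := rfl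
    rw [e, Nat.card_eq_fintype_card, Nat.card_eq_fintype_card, Fintype.card_subtype_compl]
    simp only [Fintype.card_unique]
    have : 0 < Fintype.card K := Fintype.card_pos
    omega
  have h3 : Nat.card K - 1 = Nat.card S := by omega
  rw [h3]; exact h1

theorem coprime_card [Finite G] (E K : Subgroup G) (hEK : E ≤ normalizer (K : Set G))
    (hfpf : ∀ h ∈ E, h ≠ 1 → K ⊓ centralizer {h} = ⊥) : (Nat.card E).Coprime (Nat.card K) := by
  obtain ⟨k, hk⟩ := card_dvd_card_sub_one E K hEK hfpf
  have hpos : 0 < Nat.card K := Nat.card_pos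
  have e : Nat.card K = Nat.card E * k + 1 := by omega
  rw [e]
  simp

/-- there is an `E`-invariant nontrivial abelian subgroup of `K` -/
theorem exists_invariant_abelian [Finite G] (E K : Subgroup G) (hEK : E ≤ normalizer (K : Set G))
    (hK : K ≠ ⊥) (hcop : (Nat.card E).Coprime (Nat.card K))
    (hsolv : Group.IsSolvable E ∨ Group.IsSolvable K) :
    ∃ V : Subgroup G, V ≤ K ∧ V ≠ ⊥ ∧ IsMulCommutative V ∧ E ≤ normalizer (V : Set G) := by
  have hK1 : Nat.card K ≠ 1 := fun h => hK ((Subgroup.card_eq_one).mp h)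
  obtain ⟨r, hr, hrK⟩ := Nat.exists_prime_and_dvd hK1
  have : Fact r.Prime := ⟨hr⟩
  obtain ⟨R, hR⟩ := Cfsg.Agent.Lib.Helper1SylowInv.exists_invariant_sylow E K hEK hcop hsolv r
  set R' : Subgroup G := (R : Subgroup K).map K.subtype with hR'
  have hRp : IsPGroup r R' := R.isPGroup'.map _
  have hRnt : Nontrivial R' := by
    have h1 : Nat.card R' = Nat.card R :=
      Subgroup.card_map_of_injective K.subtype_injective
    have h2 : r ∣ Nat.card R := by
      rw [Sylow.card_eq_multiplicity]
      exact dvd_pow_self r (hr.factorization_pos_of_dvd Nat.card_pos.ne' hrK).ne'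
    have h3 : 1 < Nat.card R' := by
      rw [h1]
      exact lt_of_lt_of_le hr.one_lt (Nat.le_of_dvd Nat.card_pos h2)
    exact (Finite.one_lt_card_iff_nontrivial).mp h3
  have hcnt : Nontrivial (center R') := hRp.center_nontrivial
  refine ⟨(center R').map R'.subtype, ?_, ?_, inferInstance, ?_⟩
  · refine (map_subtype_le _).trans ?_
    rw [hR']
    exact map_subtype_le _
  · intro h
    rw [(map_eq_bot_iff_of_injective _ R'.subtype_injective)] at h
    exact (Subgroup.nontrivial_iff_ne_bot _).mp hcnt h
  · exact hR.trans (Cfsg.Agent.Lib.Helper1Char.normalizer_le_normalizer_map_of_characteristic _)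

/-- abelian subgroups acting fixed-point-freely are cyclic -/
theorem isCyclic_of_abelian [Finite G] (E K : Subgroup G) (hEK : E ≤ normalizer (K : Set G))
    (hK : K ≠ ⊥) (hfpf : ∀ h ∈ E, h ≠ 1 → K ⊓ centralizer {h} = ⊥) [hE : IsMulCommutative E] :
    IsCyclic E := by
  open scoped IsMulCommutative in
  have hsol : Group.IsSolvable E := inferInstance
  obtain ⟨V, hVK, hV, hVc, hVE⟩ := exists_invariant_abelian E K hEK hK
    (coprime_card E K hEK hfpf) (Or.inl hsol)
  exact Cfsg.Agent.Lib.Helper1Fpf.isCyclic_of_fpf E V hV hVE (fun a ha ha1 => by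
    rw [eq_bot_iff, ← hfpf a ha ha1]
    exact inf_le_inf_right _ hVK) (Or.inl hE)

theorem unique_of_abelian_cyclic {P : Type*} [Group P] [Finite P] {p : ℕ} [hp : Fact p.Prime]
    (hP : IsPGroup p P) (hab : ∀ E : Subgroup P, IsMulCommutative E → IsCyclic E) :
    ∀ H K : Subgroup P, Nat.card H = p → Nat.card K = p → H = K := by
  intro H K hH hK
  have hnt : Nontrivial P := by
    have h1 : 1 < Nat.card H := hH ▸ hp.out.one_lt
    have h2 : Nat.card H ≤ Nat.card P := Subgroup.card_le_card_group H
    exact (Finite.one_lt_card_iff_nontrivial).mp (lt_of_lt_of_le h1 h2)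
  have hcnt : Nontrivial (center P) := hP.center_nontrivial
  have hdvd : p ∣ Nat.card (center P) := by
    rcases (hP.to_subgroup (center P)).card_eq_or_dvd with h | h
    · exact absurd ((Finite.one_lt_card_iff_nontrivial).mpr hcnt) (by omega)
    · exact h
  obtain ⟨⟨z, hzc⟩, hz⟩ := exists_prime_orderOf_dvd_card' p hdvd
  rw [Subgroup.orderOf_mk] at hz
  have key : ∀ H : Subgroup P, Nat.card H = p → H = zpowers z := by
    intro H hH
    have hHne : H ≠ ⊥ := by
      intro h
      rw [h, Subgroup.card_bot] at hH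
      exact hp.out.one_lt.ne hH
    obtain ⟨⟨h, hhH⟩, hh1'⟩ := Subgroup.ne_bot_iff_exists_ne_one.mp hHne
    have hh1 : h ≠ 1 := fun e => hh1' (Subtype.ext e)
    have oh : orderOf h = p := by
      have h1 : orderOf h ∣ p := by
        have := orderOf_dvd_natCard (⟨h, hhH⟩ : H)
        rwa [Subgroup.orderOf_mk, hH] at this
      rcases (Nat.dvd_prime hp.out).mp h1 with h2 | h2
      · exact absurd (orderOf_eq_one_iff.mp h2) hh1
      · exact h2
    have hHz : zpowers h = H :=
      Subgroup.eq_of_le_of_card_ge (zpowers_le.mpr hhH) (by rw [Nat.card_zpowers, oh, hH])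
    have hEc : IsMulCommutative (closure ({h, z} : Set P)) := by
      apply Subgroup.isMulCommutative_closure
      have hzz : ∀ y : P, z * y = y * z := fun y => ((mem_center_iff.mp hzc) y).symm
      intro x hx y hy
      rcases hx with rfl | rfl
      · rcases hy with rfl | rfl
        · rfl
        · exact (hzz x).symm
      · exact hzz y
    have hcyc := hab _ hEc
    rw [← hHz]
    apply Cfsg.Agent.Lib.Helper29Basic.eq_of_card_eq_of_le_cyclic hcyc
    · exact zpowers_le.mpr (subset_closure (by simp))
    · exact zpowers_le.mpr (subset_closure (by simp))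
    · rw [Nat.card_zpowers, Nat.card_zpowers, oh, hz]
  rw [key H hH, key K hK]

/-- S0040 -/
theorem sylow_cyclic_or_quaternion [Finite G] (K H : Subgroup G) [K.Normal]
    (hK : K ≠ ⊥) (hfpf : ∀ h ∈ H, h ≠ 1 → K ⊓ Subgroup.centralizer {h} = ⊥)
    (p : ℕ) [Fact p.Prime] (P : Sylow p H) :
    IsCyclic P ∨ ∃ n : ℕ, Nonempty (P ≃* QuaternionGroup (2 ^ n)) := by
  have huniq := unique_of_abelian_cyclic (P := P) P.isPGroup' (by
    intro E hE
    let f : (P : Subgroup H) →* G := H.subtype.comp (P : Subgroup H).subtype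
    have hf : Function.Injective f :=
      H.subtype_injective.comp (P : Subgroup H).subtype_injective
    have h1 : IsCyclic (E.map f) := by
      apply isCyclic_of_abelian (E.map f) K _ hK
      · rintro _ ⟨x, -, rfl⟩ hx1
        exact hfpf _ (x : H).2 hx1
      · rw [normalizer_eq_top]
        exact le_top
    exact (E.equivMapOfInjective f hf).isCyclic.mpr h1)
  rcases Cfsg.Agent.Lib.Helper1UniqInv.main p P.isPGroup' huniq with h | ⟨-, h⟩
  · exact Or.inl h
  · exact Or.inr h

end Cfsg.Agent.Lib.Helper1FpfSylow
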