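import Cfsg.Agent.Lib.Helper1Frob
import Cfsg.Agent.Lib.Helper32Virt
import Cfsg.Agent.Lib.Helper32Ind
import Cfsg.Agent.Lib.Helper82Quot
import Cfsg.Agent.Lib.Helper82Mult
import Cfsg.Agent.Lib.Helper4Burnside
import Cfsg.Agent.S0148

set_option autoImplicit false

namespace Cfsg.Agent.Lib.Helper1FrobThm

open Subgroup Pointwise Cfsg Cfsg.Agent.Lib.Helper1Basic Cfsg.Agent.Lib.Helper1Frob
open Cfsg.Agent.Lib.Helper4Char Cfsg.Agent.Lib.Helper4Char2 Cfsg.Agent.Lib.Helper4Char4
open Cfsg.Agent.Lib.Helper32Virt Cfsg.Agent.Lib.Helper32Ind Cfsg.Agent.Lib.Helper19Ind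
open Cfsg.Agent.Lib.Helper82Quot
open scoped ComplexConjugate

variable {G : Type*} [Group G]

theorem extendByZero_sub (H : Subgroup G) (θ₁ θ₂ : H → ℂ) (y : G) :
    extendByZero H (θ₁ - θ₂) y = extendByZero H θ₁ y - extendByZero H θ₂ y := by
  by_cases hy : y ∈ H
  · rw [extendByZero_of_mem H _ hy, extendByZero_of_mem H _ hy, extendByZero_of_mem H _ hy]; rfl
  · rw [extendByZero_of_not_mem H _ hy, extendByZero_of_not_mem H _ hy,
      extendByZero_of_not_mem H _ hy, sub_zero]

theorem indFun_sub [Fintype G] (H : Subgroup G) (θ₁ θ₂ : H → ℂ) :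
    indFun H (θ₁ - θ₂) = indFun H θ₁ - indFun H θ₂ := by
  funext g
  rw [Pi.sub_apply, indFun_apply, indFun_apply, indFun_apply, ← mul_sub, ← Finset.sum_sub_distrib]
  congr 1
  exact Finset.sum_congr rfl fun x _ => extendByZero_sub H θ₁ θ₂ _

/-- the canonical extension of a class function of a Frobenius complement -/
noncomputable def ext [Fintype G] (H : Subgroup G) (φ : H → ℂ) : G → ℂ :=
  indFun H (φ - (φ 1) • (fun _ => (1 : ℂ))) + (φ 1) • (fun _ => (1 : ℂ))

theorem ext_one [Fintype G] (H : Subgroup G) (φ : H → ℂ) : ext H φ 1 = φ 1 := by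
  unfold ext
  rw [Pi.add_apply, Cfsg.Agent.Lib.Helper82Mult.indFun_one]
  simp

theorem ext_of_mem [Fintype G] {H : Subgroup G} (hH : IsFrobeniusComplement H) (φ : H → ℂ)
    (hφ : IsClassFunction H φ) (h : H) : ext H φ h = φ h := by
  by_cases h1 : h = 1
  · rw [h1]; exact ext_one H φ
  unfold ext
  rw [Pi.add_apply, indFun_eq_of_TI H (H : Set G) (fun g hg t ht hgt => by
      by_contra ht1
      exact hg (mem_of_conj_mem' hH ht ht1 hgt)) _ ?_ (fun x hx => absurd x.2 hx) h h.2 h1]
  · simp
  · intro a b
    simp only [Pi.sub_apply, Pi.smul_apply, hφ a b]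

theorem ext_of_kernel [Fintype G] {H : Subgroup G} (φ : H → ℂ) {g : G}
    (hg : g ∈ frobeniusKernel H) : ext H φ g = φ 1 := by
  rw [mem_kernel_iff] at hg
  rcases hg with rfl | hg
  · exact ext_one H φ
  unfold ext
  rw [Pi.add_apply, indFun_apply, Finset.sum_eq_zero (fun x _ => extendByZero_of_not_mem H _ (hg x))]
  simp

theorem ext_gen [Fintype G] (H : Subgroup G) {φ : H → ℂ} (hφ : IsIrrCharacter H φ) :
    IsGeneralizedCharacter G (ext H φ) := by
  obtain ⟨d, -, hd⟩ := IsIrrCharacter.exists_degree hφ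
  unfold ext
  rw [indFun_sub, hd]
  apply gen_add
  · apply gen_sub
    · exact gen_of_char (Cfsg.Agent.S0148.result H φ (IsIrrCharacter.isCharacter hφ))
    · exact gen_of_char (Cfsg.Agent.S0148.result H _ (IsCharacter.natCast_smul d IsCharacter.one))
  · exact gen_of_char (IsCharacter.natCast_smul d IsCharacter.one)

theorem ext_norm [Fintype G] {H : Subgroup G} (hH : IsFrobeniusComplement H) {φ : H → ℂ}
    (hφ : IsIrrCharacter H φ) (hne : φ ≠ fun _ => 1) : classInner (ext H φ) (ext H φ) = 1 := by
  have : Fintype H := Fintype.ofFinite H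
  obtain ⟨d, -, hd⟩ := IsIrrCharacter.exists_degree hφ
  set c : ℂ := φ 1 with hc
  have hcc : conj c = c := by rw [hd, Complex.conj_natCast]
  set oneH : H → ℂ := fun _ => 1 with honeH
  set oneG : G → ℂ := fun _ => 1 with honeG
  have h1H : IsIrrCharacter H oneH := Cfsg.Agent.Lib.Helper4Burnside.isIrrCharacter_one
  have h1G : IsIrrCharacter G oneG := Cfsg.Agent.Lib.Helper4Burnside.isIrrCharacter_one
  set θ : H → ℂ := φ - c • oneH with hθ
  have hθcl : IsClassFunction H θ :=
    IsClassFunction.sub (IsIrrCharacter.isClassFunction hφ)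
      (IsClassFunction.smul c (IsIrrCharacter.isClassFunction h1H))
  have hθ1 : θ 1 = 0 := by simp [hθ, honeH, hc]
  have e1 : classInner φ oneH = 0 := classInner_irr_ne hφ h1H hne
  have e2 : classInner oneH φ = 0 := classInner_irr_ne h1H hφ (Ne.symm hne)
  have e3 : classInner oneH oneH = 1 := classInner_irr_self h1H
  have e4 : classInner φ φ = 1 := classInner_irr_self hφ
  have e5 : classInner oneG oneG = 1 := classInner_irr_self h1G
  have hA : classInner (indFun H θ) (indFun H θ) = 1 + c * c := by
    rw [classInner_indFun_of_TI H (H : Set G) (fun g hg t ht hgt => by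
      by_contra ht1
      exact hg (mem_of_conj_mem' hH ht ht1 hgt)) θ θ hθcl (fun x hx => absurd x.2 hx)
      (fun x hx => absurd x.2 hx) hθ1]
    rw [hθ, classInner_sub_left, classInner_sub_right, classInner_sub_right,
      classInner_smul_right, classInner_smul_right, classInner_smul_left, classInner_smul_left,
      e1, e2, e3, e4, hcc]
    ring
  have hB : classInner (indFun H θ) (c • oneG) = - (c * c) := by
    rw [frobenius H θ _ (IsClassFunction.smul c (IsIrrCharacter.isClassFunction h1G))]
    have : (fun h : H => (c • oneG) (h : G)) = c • oneH := rfl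
    rw [this, hθ, classInner_sub_left, classInner_smul_left, classInner_smul_right,
      classInner_smul_right, e1, e3, hcc]
    ring
  have hB' : classInner (c • oneG) (indFun H θ) = - (c * c) := by
    rw [← classInner_conj_symm, hB, map_neg, map_mul, hcc]
  have hC : classInner (c • oneG) (c • oneG) = c * c := by
    rw [classInner_smul_left, classInner_smul_right, e5, hcc]; ring
  change classInner (indFun H θ + c • oneG) (indFun H θ + c • oneG) = 1
  rw [classInner_add_left, classInner_add_right, classInner_add_right, hA, hB, hB', hC]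
  ring

theorem ext_isCharacter [Fintype G] {H : Subgroup G} (hH : IsFrobeniusComplement H) {φ : H → ℂ}
    (hφ : IsIrrCharacter H φ) (hne : φ ≠ fun _ => 1) : IsCharacter G (ext H φ) := by
  rcases gen_norm_one (ext_gen H hφ) (ext_norm hH hφ hne) with h | h
  · exact IsIrrCharacter.isCharacter h
  · exfalso
    obtain ⟨d, hd0, hd⟩ := IsIrrCharacter.exists_degree hφ
    obtain ⟨e, he0, he⟩ := IsIrrCharacter.exists_degree h
    rw [Pi.neg_apply, ext_one, hd] at he
    have : ((d + e : ℕ) : ℂ) = 0 := by push_cast; rw [← he]; ring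
    have h2 : d + e = 0 := by exact_mod_cast this
    omega

/-- **Frobenius' theorem** -/
theorem frobenius_theorem [Finite G] (H : Subgroup G) (hH : IsFrobeniusComplement H) :
    ∃ N : Subgroup G, (N : Set G) = frobeniusKernel H ∧ N.Normal ∧ IsComplement' N H := by
  have : Fintype G := Fintype.ofFinite G
  have : Fintype H := Fintype.ofFinite H
  let ι := {φ : IrrCharacter H // (φ : H → ℂ) ≠ fun _ => 1}
  let N : Subgroup G := ⨅ φ : ι, charKer (ext_isCharacter hH φ.1.2 φ.2)
  have hNn : N.Normal := normal_iInf_normal fun φ => inferInstance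
  have hNK : (N : Set G) = frobeniusKernel H := by
    apply Set.Subset.antisymm
    · intro g hg
      by_contra hgK
      rw [not_mem_kernel_iff] at hgK
      obtain ⟨hg1, a, ha⟩ := hgK
      have hyN : a⁻¹ * g * a ∈ N := by
        have := hNn.conj_mem g hg a⁻¹
        simpa using this
      have hconj : IsConj (⟨a⁻¹ * g * a, ha⟩ : H) 1 := by
        rw [isConj_iff_irr]
        intro φ
        by_cases hφ : (φ : H → ℂ) = fun _ => 1
        · rw [hφ]
        · have h1 := (mem_iInf.mp hyN) ⟨φ, hφ⟩
          rw [mem_charKer, ext_one] at h1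
          rw [← h1]
          exact (ext_of_mem hH φ (IsIrrCharacter.isClassFunction φ.2) ⟨a⁻¹ * g * a, ha⟩).symm
      have h2 : (⟨a⁻¹ * g * a, ha⟩ : H) = 1 := by
        rw [isConj_comm, isConj_one_right] at hconj
        exact hconj
      have h3 : a⁻¹ * g * a = 1 := congrArg Subtype.val h2
      apply hg1
      have e : g = a * (a⁻¹ * g * a) * a⁻¹ := by group
      rw [e, h3]; group
    · intro g hg
      rw [SetLike.mem_coe, mem_iInf]
      intro φ
      rw [mem_charKer, ext_one]
      exact ext_of_kernel _ hg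
  refine ⟨N, hNK, hNn, ?_⟩
  apply isComplement'_of_card_mul_and_disjoint
  · have h1 : Nat.card N = H.index := by
      rw [← card_kernel hH, ← hNK]; rfl
    rw [h1, index_mul_card]
  · rw [disjoint_iff, eq_bot_iff]
    intro x hx
    have hxK : x ∈ frobeniusKernel H := hNK ▸ hx.1
    rw [mem_kernel_iff] at hxK
    rcases hxK with rfl | hxK
    · exact one_mem _
    · exact absurd (by simpa using hx.2) (hxK 1)

end Cfsg.Agent.Lib.Helper1FrobThm
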