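import Cfsg.Agent.Lib.Helper1Frob
import Cfsg.Agent.Lib.Helper30Gen

set_option autoImplicit false

namespace Cfsg.Agent.Lib.Helper1Fpf

open Subgroup Cfsg.Agent.Lib.Helper30Gen

section abstract
variable {A V : Type*} [Group A] [CommGroup V] [MulDistribMulAction A V]

/-- a fixed-point-free action: no nonidentity element fixes a nonidentity point -/
def Fpf (A V : Type*) [Group A] [CommGroup V] [MulDistribMulAction A V] : Prop :=
  ∀ a : A, a ≠ 1 → ∀ v : V, a • v = v → v = 1

theorem card_dvd_sub_one [Finite V] (h : Fpf A V) : Nat.card A ∣ Nat.card V - 1 := by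
  let S : SubMulAction A V :=
    { carrier := {v | v ≠ 1}
      smul_mem' := by
        intro a v hv he
        apply hv
        have : a⁻¹ • (a • v) = a⁻¹ • (1 : V) := by rw [he]
        rwa [inv_smul_smul, smul_one] at this }
  have h1 : Nat.card A ∣ Nat.card S := by
    apply Cfsg.Agent.Lib.Helper1Frob.card_dvd_of_free
    intro x
    rw [eq_bot_iff]
    intro a ha
    rw [mem_bot]
    by_contra ha1
    have h2 : a • x = x := ha
    have h3 : a • (x : V) = x := congrArg Subtype.val h2
    exact x.2 (h a ha1 _ h3)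
  have h2 : Nat.card S + 1 = Nat.card V := by
    have := Fintype.ofFinite V
    classical
    have e : Nat.card S = Nat.card {v : V // v ≠ 1} := rfl
    rw [e, Nat.card_eq_fintype_card, Nat.card_eq_fintype_card, Fintype.card_subtype_compl]
    simp only [Fintype.card_unique]
    have : 0 < Fintype.card V := Fintype.card_pos
    omega
  have h3 : Nat.card V - 1 = Nat.card S := by omega
  rw [h3]; exact h1

theorem coprime_card [Finite V] (h : Fpf A V) : (Nat.card A).Coprime (Nat.card V) := by
  obtain ⟨k, hk⟩ := card_dvd_sub_one h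
  have hpos : 0 < Nat.card V := Nat.card_pos
  have e : Nat.card V = Nat.card A * k + 1 := by omega
  rw [e]
  simp

theorem eq_one_of_pow_card [Finite V] (h : Fpf A V) {n : ℕ} (hn : n ∣ Nat.card A) {v : V}
    (hv : v ^ n = 1) : v = 1 := by
  have h1 : orderOf v ∣ n := orderOf_dvd_of_pow_eq_one hv
  have h2 : orderOf v ∣ Nat.card V := orderOf_dvd_natCard v
  have h3 := Nat.Coprime.eq_one_of_dvd
    ((coprime_card h).coprime_dvd_left (h1.trans hn)) h2
  exact orderOf_eq_one_iff.mp h3

/-- abelian groups acting fixed point freely are cyclic -/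
theorem isCyclic_of_comm {A V : Type*} [CommGroup A] [Finite A] [CommGroup V] [Finite V]
    [MulDistribMulAction A V] (h : Fpf A V) (hV : ∃ v : V, v ≠ 1) : IsCyclic A := by
  by_contra hnc
  obtain ⟨r, w, z, hr, hw, hz, hw1, hzw⟩ := exists_rank_two hnc
  have : Fact r.Prime := ⟨hr⟩
  obtain ⟨v, hv⟩ := hV
  apply hv
  have hnrm : ∀ (g : A), g ≠ 1 → g ^ r = 1 → ∀ u : V, nrm r g u = 1 := by
    intro g hg1 hg u
    exact h g hg1 _ (smul_nrm hg u)
  have key := norm_identity (V := V) (Commute.all w z) hw v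
  rw [hnrm w hw1 hw, hnrm w hw1 hw, Finset.prod_eq_one, mul_one, mul_one] at key
  · apply eq_one_of_pow_card h (n := r) _ key.symm
    have : orderOf w = r := orderOf_eq_prime hw hw1
    rw [← this]
    exact orderOf_dvd_natCard w
  · intro j _
    apply hnrm _ (hzw j)
    rw [mul_pow, hz, one_mul, ← pow_mul, mul_comm j r, pow_mul, hw, one_pow]

/-- the norm over a nontrivial subgroup vanishes -/
theorem norm_subgroup [Fintype A] (h : Fpf A V) (B : Subgroup A) [DecidablePred (· ∈ B)]
    (hB : B ≠ ⊥) (v : V) : ∏ a : A, (if a ∈ B then a • v else 1) = 1 := by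
  obtain ⟨⟨b, hbB⟩, hb1'⟩ := Subgroup.ne_bot_iff_exists_ne_one.mp hB
  have hb1 : b ≠ 1 := fun e => hb1' (Subtype.ext e)
  apply h b hb1
  rw [Finset.smul_prod']
  apply Fintype.prod_equiv (Equiv.mulLeft b)
  intro a
  have hiff : (Equiv.mulLeft b a ∈ B) ↔ a ∈ B := B.mul_mem_cancel_left hbB
  by_cases ha : a ∈ B
  · rw [if_pos ha, if_pos (hiff.mpr ha)]; exact (mul_smul b a v).symm
  · rw [if_neg ha, if_neg (fun hc => ha (hiff.mp hc)), smul_one]

theorem card_sylow_of_card_mul [Finite A] {p q : ℕ} [hp : Fact p.Prime] (hq : q.Prime) (hne : p ≠ q)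
    (hcard : Nat.card A = p * q) (P : Sylow p A) : Nat.card P = p := by
  rw [Sylow.card_eq_multiplicity, hcard, Nat.factorization_mul hp.out.ne_zero hq.ne_zero]
  simp only [Finsupp.coe_add, Pi.add_apply]
  rw [Nat.Prime.factorization_self hp.out, Nat.factorization_eq_zero_of_not_dvd, pow_one]
  intro hd
  exact hne ((Nat.prime_dvd_prime_iff_eq hp.out hq).mp hd)

theorem count_sylow [Fintype A] {p q : ℕ} [hp : Fact p.Prime] [hq : Fact q.Prime] (hne : p ≠ q)
    (hcard : Nat.card A = p * q) [Fintype (Sylow p A)] [Fintype (Sylow q A)] {a : A}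
    [DecidablePred fun P : Sylow p A => a ∈ P] [DecidablePred fun P : Sylow q A => a ∈ P]
    (ha : orderOf a = p) :
    (Finset.univ.filter (fun P : Sylow p A => a ∈ P)).card = 1 ∧
    (Finset.univ.filter (fun P : Sylow q A => a ∈ P)).card = 0 := by
  constructor
  · rw [Finset.card_eq_one]
    have hz : IsPGroup p (zpowers a) := by
      apply IsPGroup.of_card (n := 1)
      rw [Nat.card_zpowers, ha, pow_one]
    obtain ⟨P, hP⟩ := hz.exists_le_sylow
    refine ⟨P, ?_⟩
    have key : ∀ P' : Sylow p A, a ∈ P' → (P' : Subgroup A) = zpowers a := by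
      intro P' h'
      symm
      apply Subgroup.eq_of_le_of_card_ge ((zpowers_le).mpr h')
      rw [card_sylow_of_card_mul hq.out hne hcard P', Nat.card_zpowers, ha]
    ext P'
    simp only [Finset.mem_filter, Finset.mem_univ, true_and, Finset.mem_singleton]
    constructor
    · intro h'
      apply Sylow.ext
      rw [key P' h', key P (hP (mem_zpowers a))]
    · rintro rfl
      exact hP (mem_zpowers a)
  · rw [Finset.card_eq_zero, Finset.filter_eq_empty_iff]
    intro Q _ haQ
    have h1 : orderOf a ∣ Nat.card Q := by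
      have := orderOf_dvd_natCard (⟨a, haQ⟩ : (Q : Subgroup A))
      rwa [Subgroup.orderOf_mk] at this
    rw [ha, card_sylow_of_card_mul hp.out hne.symm (by rw [hcard, mul_comm]) Q] at h1
    exact hne ((Nat.prime_dvd_prime_iff_eq hp.out hq.out).mp h1)

theorem prod_sylow_norm [Fintype A] (h : Fpf A V) {p : ℕ} [hp : Fact p.Prime]
    (hpA : p ∣ Nat.card A) [Fintype (Sylow p A)] [DecidableEq A]
    [∀ a : A, DecidablePred fun P : Sylow p A => a ∈ P] (v : V) :
    ∏ a : A, (a • v) ^ (Finset.univ.filter (fun P : Sylow p A => a ∈ P)).card = 1 := by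
  classical
  have h1 : ∀ P : Sylow p A, ∏ a : A, (if a ∈ (P : Subgroup A) then a • v else 1) = 1 := by
    intro P
    apply norm_subgroup h
    intro hb
    have h2 := P.card_eq_multiplicity
    rw [hb, Subgroup.card_bot] at h2
    have h3 : 0 < (Nat.card A).factorization p :=
      hp.out.factorization_pos_of_dvd Nat.card_pos.ne' hpA
    have h4 : 1 < p ^ (Nat.card A).factorization p := Nat.one_lt_pow h3.ne' hp.out.one_lt
    omega
  have h2 : ∏ P : Sylow p A, ∏ a : A, (if a ∈ (P : Subgroup A) then a • v else 1) = 1 :=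
    Finset.prod_eq_one fun P _ => h1 P
  rw [Finset.prod_comm] at h2
  rw [← h2]
  apply Finset.prod_congr rfl
  intro a _
  rw [Finset.prod_ite, Finset.prod_const, Finset.prod_const_one, mul_one]
  rfl

theorem isCyclic_of_card_mul [Finite A] [Finite V] (h : Fpf A V) (hV : ∃ v : V, v ≠ 1) {p q : ℕ}
    (hp : p.Prime) (hq : q.Prime) (hne : p ≠ q) (hcard : Nat.card A = p * q) : IsCyclic A := by
  by_contra hnc
  have := Fintype.ofFinite A
  classical
  have : Fact p.Prime := ⟨hp⟩
  have : Fact q.Prime := ⟨hq⟩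
  have := Fintype.ofFinite (Sylow p A)
  have := Fintype.ofFinite (Sylow q A)
  obtain ⟨v, hv⟩ := hV
  apply hv
  have hord : ∀ a : A, a ≠ 1 → orderOf a = p ∨ orderOf a = q := by
    intro a ha
    have h1 : orderOf a ∣ p * q := hcard ▸ orderOf_dvd_natCard a
    obtain ⟨k1, k2, hk1, hk2, hk⟩ := (Nat.dvd_mul).mp h1
    rcases (Nat.dvd_prime hp).mp hk1 with rfl | rfl <;> rcases (Nat.dvd_prime hq).mp hk2 with rfl | rfl
    · exact absurd (orderOf_eq_one_iff.mp (by rw [← hk])) ha
    · right; rw [← hk, one_mul]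
    · left; rw [← hk, mul_one]
    · exact absurd (isCyclic_of_orderOf_eq_card a (by rw [← hk, hcard])) hnc
  set np := Nat.card (Sylow p A) with hnp
  set nq := Nat.card (Sylow q A) with hnq
  have e1 := prod_sylow_norm h (p := p) (hcard ▸ dvd_mul_right p q) v
  have e2 := prod_sylow_norm h (p := q) (hcard ▸ dvd_mul_left q p) v
  have e3 : ∏ a : A, (a • v) ^ ((Finset.univ.filter (fun P : Sylow p A => a ∈ P)).card +
      (Finset.univ.filter (fun P : Sylow q A => a ∈ P)).card) = 1 := by
    simp only [pow_add]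
    rw [Finset.prod_mul_distrib, e1, e2, one_mul]
  have e4 : ∏ a : A, a • v = 1 := by
    have := norm_subgroup h (⊤ : Subgroup A) (by
      intro hb
      have h1 : Nat.card (⊤ : Subgroup A) = 1 := by rw [hb, Subgroup.card_bot]
      rw [Subgroup.card_top, hcard] at h1
      have := hp.two_le
      have := hq.two_le
      nlinarith) v
    simpa using this
  rw [← Finset.mul_prod_erase Finset.univ _ (Finset.mem_univ (1 : A))] at e3 e4
  have e5 : ∏ a ∈ Finset.univ.erase (1 : A), (a • v) ^ ((Finset.univ.filter (fun P : Sylow p A => a ∈ P)).card +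
      (Finset.univ.filter (fun P : Sylow q A => a ∈ P)).card) = ∏ a ∈ Finset.univ.erase (1 : A), a • v := by
    apply Finset.prod_congr rfl
    intro a ha
    have ha1 : a ≠ 1 := (Finset.mem_erase.mp ha).1
    rcases hord a ha1 with ho | ho
    · obtain ⟨c1, c2⟩ := count_sylow hne hcard ho
      rw [c1, c2, pow_one]
    · obtain ⟨c1, c2⟩ := count_sylow hne.symm (by rw [hcard, mul_comm]) ho
      rw [c1, c2, pow_one]
  rw [e5] at e3
  have c1 : (Finset.univ.filter (fun P : Sylow p A => (1 : A) ∈ P)).card = np := by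
    rw [hnp, Nat.card_eq_fintype_card, ← Finset.card_univ]
    congr 1
    ext P; simp [one_mem]
  have c2 : (Finset.univ.filter (fun P : Sylow q A => (1 : A) ∈ P)).card = nq := by
    rw [hnq, Nat.card_eq_fintype_card, ← Finset.card_univ]
    congr 1
    ext P; simp [one_mem]
  rw [c1, c2, one_smul] at e3
  rw [one_smul] at e4
  have e6 : v ^ (np + nq) = v := by
    have := e3.trans e4.symm
    exact mul_right_cancel this
  obtain ⟨P⟩ : Nonempty (Sylow p A) := inferInstance
  obtain ⟨Q⟩ : Nonempty (Sylow q A) := inferInstance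
  have hPi : (P : Subgroup A).index = q := by
    have h1 := (P : Subgroup A).card_mul_index
    rw [card_sylow_of_card_mul hq hne hcard P, hcard] at h1
    exact Nat.eq_of_mul_eq_mul_left hp.pos h1
  have hQi : (Q : Subgroup A).index = p := by
    have h1 := (Q : Subgroup A).card_mul_index
    rw [card_sylow_of_card_mul hp hne.symm (by rw [hcard, mul_comm]) Q, hcard, mul_comm p q] at h1
    exact Nat.eq_of_mul_eq_mul_left hq.pos h1
  have d1 : np ∣ q := hPi ▸ Sylow.card_dvd_index P
  have d2 : nq ∣ p := hQi ▸ Sylow.card_dvd_index Q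
  have m1 : np ≡ 1 [MOD p] := card_sylow_modEq_one p A
  have m2 : nq ≡ 1 [MOD q] := card_sylow_modEq_one q A
  have fin : ∀ d : ℕ, d ∣ p * q → np + nq = d + 1 → v = 1 := by
    intro d hd he
    rw [he, pow_succ] at e6
    have : v ^ d = 1 := by
      have h2 : v ^ d * v = 1 * v := by rw [e6, one_mul]
      exact mul_right_cancel h2
    exact eq_one_of_pow_card h (hcard ▸ hd) this
  rcases (Nat.dvd_prime hq).mp d1 with h1 | h1 <;> rcases (Nat.dvd_prime hp).mp d2 with h2 | h2
  · exact fin 1 (one_dvd _) (by rw [h1, h2])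
  · exact fin p (dvd_mul_right p q) (by rw [h1, h2]; ring)
  · exact fin q (dvd_mul_left q p) (by rw [h1, h2])
  · exfalso
    rw [h1] at m1
    rw [h2] at m2
    have a1 : p ∣ q - 1 := (Nat.modEq_iff_dvd' hq.one_lt.le).mp m1.symm
    have a2 : q ∣ p - 1 := (Nat.modEq_iff_dvd' hp.one_lt.le).mp m2.symm
    have b1 := Nat.le_of_dvd (by have := hq.two_le; omega) a1
    have b2 := Nat.le_of_dvd (by have := hp.two_le; omega) a2
    omega

end abstract

section ambient
variable {G : Type*} [Group G]

open scoped IsMulCommutative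

/-- conjugation action of a subgroup `A` on a subgroup `V` it normalizes -/
@[reducible] def conjAct (A V : Subgroup G) [IsMulCommutative V]
    (hAV : A ≤ Subgroup.normalizer (V : Set G)) : MulDistribMulAction A V where
  smul a v := ⟨a * v * a⁻¹, (mem_normalizer_iff.mp (hAV a.2) v).mp v.2⟩
  one_smul v := by ext; change (1 : G) * v * (1 : G)⁻¹ = v; simp
  mul_smul a b v := by
    ext; change (a * b : G) * v * (a * b : G)⁻¹ = a * (b * v * (b : G)⁻¹) * (a : G)⁻¹; group
  smul_mul a v w := by
    ext; change (a : G) * (v * w) * (a : G)⁻¹ = (a * v * (a : G)⁻¹) * (a * w * (a : G)⁻¹); group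
  smul_one a := by ext; change (a : G) * 1 * (a : G)⁻¹ = 1; simp

theorem fpf_conjAct (A V : Subgroup G) [IsMulCommutative V]
    (hAV : A ≤ Subgroup.normalizer (V : Set G))
    (hfpf : ∀ a ∈ A, a ≠ 1 → V ⊓ Subgroup.centralizer {a} = ⊥) :
    @Fpf A V _ _ (conjAct A V hAV) := by
  intro a ha v hv
  have h1 : (a : G) * v * (a : G)⁻¹ = v := congrArg Subtype.val hv
  have h2 : (v : G) ∈ V ⊓ Subgroup.centralizer {(a : G)} := by
    refine mem_inf.mpr ⟨v.2, ?_⟩
    rw [mem_centralizer_singleton_iff]
    calc (v : G) * a = (a * v * (a : G)⁻¹) * a := by rw [h1]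
      _ = a * v := by group
  rw [hfpf a a.2 (fun e => ha (Subtype.ext e)), mem_bot] at h2
  exact Subtype.ext h2

/-- S0041 -/
theorem isCyclic_of_fpf [Finite G] (A V : Subgroup G) [IsMulCommutative V]
    (hV : V ≠ ⊥) (hAV : A ≤ Subgroup.normalizer (V : Set G))
    (hfpf : ∀ a ∈ A, a ≠ 1 → V ⊓ Subgroup.centralizer {a} = ⊥)
    (hA : IsMulCommutative A ∨ ∃ p q : ℕ, p.Prime ∧ q.Prime ∧ Nat.card A = p * q) :
    IsCyclic A := by
  have hV' : ∃ v : V, v ≠ 1 := Subgroup.ne_bot_iff_exists_ne_one.mp hV
  have hf := fpf_conjAct A V hAV hfpf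
  have hcomm : IsMulCommutative A → IsCyclic A := by
    intro hc
    exact @isCyclic_of_comm A V _ _ _ _ (conjAct A V hAV) hf hV'
  rcases hA with hc | ⟨p, q, hp, hq, hcard⟩
  · exact hcomm hc
  · by_cases hne : p = q
    · subst hne
      have : Fact p.Prime := ⟨hp⟩
      exact hcomm (IsPGroup.isMulCommutative_of_card_eq_prime_sq (by rw [hcard, sq]))
    · exact @isCyclic_of_card_mul A V _ _ (conjAct A V hAV) _ _ hf hV' p q hp hq hne hcard

end ambient

end Cfsg.Agent.Lib.Helper1Fpf
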