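import Mathlib
import Cfsg.Agent.Lib.Helper24Final
import Cfsg.Agent.Lib.Helper24Thompson

set_option autoImplicit false

/-! The last step of Thompson's normal `p`-complement theorem (`p`-stable situation). -/

namespace Cfsg.Agent.Lib.Helper24ThompsonFinal

open Subgroup Cfsg
open scoped commutatorElement
open Cfsg.Agent.Lib.Helper11Frobenius Cfsg.Agent.Lib.Helper24NPC Cfsg.Agent.Lib.Helper24Functor
open Cfsg.Agent.Lib.Helper24Star Cfsg.Agent.Lib.Helper24PStable Cfsg.Agent.Lib.Helper14ZJ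

theorem mem_of_pow_mem_coprime {X : Type*} [Group X] (S : Subgroup X) (x : X) {a b : ℕ}
    (hab : a.Coprime b) (ha : x ^ a ∈ S) (hb : x ^ b ∈ S) : x ∈ S := by
  have h1 : x ^ ((a : ℤ) * Nat.gcdA a b + (b : ℤ) * Nat.gcdB a b) = x := by
    rw [← Nat.gcd_eq_gcd_ab, hab]; simp
  rw [← h1, zpow_add, zpow_mul, zpow_mul, zpow_natCast, zpow_natCast]
  exact S.mul_mem (S.zpow_mem ha _) (S.zpow_mem hb _)

/-- a `p'`-element centralising `Ω₁` of an abelian normal `p`-subgroup centralises it -/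
theorem cf {X : Type*} [Group X] {p : ℕ} (U : Subgroup X) [hU : U.Normal]
    (hUc : ∀ u ∈ U, ∀ w ∈ U, u * w = w * u) (y : X) (hy : (orderOf y).Coprime p)
    (h : ∀ u ∈ U, u ^ p = 1 → y * u = u * y) :
    ∀ k : ℕ, ∀ u ∈ U, u ^ (p ^ k) = 1 → y * u = u * y := by
  intro k
  induction k with
  | zero =>
    intro u _ hu1
    rw [pow_zero, pow_one] at hu1
    rw [hu1]; simp
  | succ k ih =>
    intro u hu hu1
    have h1 : y * u ^ p = u ^ p * y := by
      apply ih _ (U.pow_mem hu p)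
      rw [← pow_mul, ← pow_succ']
      exact hu1
    have hcU : y * u * y⁻¹ ∈ U := hU.conj_mem u hu y
    have hc : y * u * y⁻¹ * u⁻¹ ∈ U := U.mul_mem hcU (U.inv_mem hu)
    have hcp : (y * u * y⁻¹ * u⁻¹) ^ p = 1 := by
      have hcomm : Commute (y * u * y⁻¹) u⁻¹ := hUc _ hcU _ (U.inv_mem hu)
      rw [hcomm.mul_pow, conj_pow, inv_pow]
      rw [h1]; group
    have h2 := h _ hc hcp
    have h3 : y * u * y⁻¹ * u⁻¹ = 1 :=
      Helper11OddAut.eq_one_of_step (p := p) y u (y * u * y⁻¹ * u⁻¹) (by group) h2 hy 1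
        (by rwa [pow_one])
    calc y * u = (y * u * y⁻¹ * u⁻¹) * (u * y) := by group
      _ = u * y := by rw [h3, one_mul]

variable {X : Type*} [Group X] [Finite X] {p : ℕ} [Fact p.Prime]

theorem sup_sylow_eq_top (K : Subgroup X) (hidx : ∃ k, K.index = p ^ k) (T : Sylow p X) :
    K ⊔ (T : Subgroup X) = ⊤ := by
  have hpp : p.Prime := Fact.out
  rw [← Subgroup.index_eq_one]
  obtain ⟨k, hk⟩ := hidx
  have h1 : (K ⊔ (T : Subgroup X)).index ∣ p ^ k := hk ▸ Subgroup.index_dvd_of_le le_sup_left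
  have h2 : (K ⊔ (T : Subgroup X)).index ∣ (T : Subgroup X).index :=
    Subgroup.index_dvd_of_le le_sup_right
  have h3 : ((T : Subgroup X).index).Coprime (p ^ k) :=
    Nat.Coprime.pow_right k ((Nat.Prime.coprime_iff_not_dvd hpp).mpr T.not_dvd_index).symm
  exact Nat.eq_one_of_dvd_coprimes h3 h2 h1

theorem thompson_final (𝔉 : Subgroup X → Set (Subgroup X))
    (F1 : ∀ P A : Subgroup X, A ∈ 𝔉 P → A ≤ P ∧ IsMulCommutative A)
    (F2 : ∀ (φ : X ≃* X) (P A : Subgroup X), A ∈ 𝔉 P →
      A.map φ.toMonoidHom ∈ 𝔉 (P.map φ.toMonoidHom))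
    (F3 : ∀ P T A : Subgroup X, A ∈ 𝔉 P → A ≤ T → T ≤ P → 𝔉 T ⊆ 𝔉 P)
    (F3' : ∀ P T A : Subgroup X, A ∈ 𝔉 P → A ≤ T → T ≤ P → A ∈ 𝔉 T)
    (F4 : ∀ P : Subgroup X, (𝔉 P).Nonempty)
    (F5 : ∀ P B A : Subgroup X, IsPGroup p P → B ≤ P → P ≤ normalizer (B : Set X) →
      A ∈ 𝔉 P → ⁅B, B⁆ ≤ A → ¬ B ≤ normalizer (A : Set X) →
      ∃ K ∈ 𝔉 P, ⁅B, B⁆ ≤ K ∧ A ⊓ B < K ⊓ B ∧ K ⊓ B < B)
    (Fabs : ∀ P A V : Subgroup X, A ∈ 𝔉 P → V ≤ P → IsElementaryAbelian p V →
      V ≤ centralizer (A : Set X) → V ≤ A)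
    (hc : centralizer (pCore p X : Set X) ≤ pCore p X) (K : Subgroup X)
    (hK : Star p (pCore p X) K)
    (hst : ∀ (B : Subgroup X) [B.Normal], IsPGroup p B → IsPStableOn p B) (T : Sylow p X)
    (h1 : HasNPC p (normalizer ((sSup (𝔉 T) : Subgroup X) : Set X)))
    (h2 : HasNPC p (centralizer (((T : Subgroup X) ⊓ centralizer (T : Set X) : Subgroup X) : Set X))) :
    HasNPC p X := by
  have hpp : p.Prime := Fact.out
  set H := pCore p X with hH
  have hHn : H.Normal := hK.hnormal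
  have hKn : K.Normal := hK.normal
  have hHp : IsPGroup p H := hK.hp
  have hHT : H ≤ T := Helper40Cores.pCore_le_sylow T
  set Z := (T : Subgroup X) ⊓ centralizer (T : Set X) with hZ
  have hZHn : (H ⊓ centralizer (H : Set X)).Normal := inferInstance
  have hZZH : Z ≤ H ⊓ centralizer (H : Set X) := by
    intro z hz
    have h3 : z ∈ centralizer (H : Set X) := Subgroup.centralizer_le hHT hz.2
    exact ⟨hc h3, h3⟩
  set U := normalClosure (Z : Set X) with hU
  have hUn : U.Normal := normalClosure_normal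
  have hUZH : U ≤ H ⊓ centralizer (H : Set X) := normalClosure_le_normal hZZH
  have hUc : ∀ u ∈ U, ∀ w ∈ U, u * w = w * u := by
    intro u hu w hw
    exact (hUZH hw).2 u (hUZH hu).1
  let V : Subgroup X :=
    { carrier := {u | u ∈ U ∧ u ^ p = 1}
      mul_mem' := by
        rintro a b ⟨ha, ha1⟩ ⟨hb, hb1⟩
        refine ⟨U.mul_mem ha hb, ?_⟩
        rw [(show Commute a b from hUc a ha b hb).mul_pow, ha1, hb1, one_mul]
      one_mem' := ⟨U.one_mem, one_pow _⟩
      inv_mem' := by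
        rintro a ⟨ha, ha1⟩
        exact ⟨U.inv_mem ha, by rw [inv_pow, ha1, inv_one]⟩ }
  have hVmem : ∀ u, u ∈ V ↔ u ∈ U ∧ u ^ p = 1 := fun u => Iff.rfl
  have hVU : V ≤ U := fun u hu => hu.1
  have hVn : V.Normal := by
    constructor
    intro v hv g
    exact ⟨hUn.conj_mem v hv.1 g, by rw [conj_pow, hv.2]; group⟩
  have hVH : V ≤ H := fun v hv => (hUZH hv.1).1
  have hVp : IsPGroup p V := hHp.to_le hVH
  have hVe : IsElementaryAbelian p V :=
    ⟨IsMulCommutative.of_setLike_mul_comm fun a ha b hb => hUc a ha.1 b hb.1, fun a ha => ha.2⟩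
  set C := centralizer (V : Set X) with hC
  have hCn : C.Normal := inferInstance
  have hHC : H ≤ C := by
    intro h hh v hv
    exact ((hUZH hv.1).2 h hh).symm
  have hHCU : H ≤ centralizer (U : Set X) := by
    intro h hh v hv
    exact ((hUZH hv).2 h hh).symm
  obtain ⟨k, hk⟩ := hK.index
  by_cases hKC : K ≤ C
  · -- `K` centralises `Z(T)`
    have hKU : K ≤ centralizer (U : Set X) := by
      intro x hx
      obtain ⟨j, hj⟩ := exists_pow_coprime (p := p) x
      have h3 : x ^ (p ^ j) ∈ centralizer (U : Set X) := by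
        intro u hu
        obtain ⟨i, hi⟩ := (hHp.to_le (hUZH.trans inf_le_left)) ⟨u, hu⟩
        have hi' : u ^ (p ^ i) = 1 := congrArg Subtype.val hi
        refine (cf U hUc _ hj ?_ i u hu hi').symm
        intro w hw hw1
        exact ((hKC (K.pow_mem hx _)) w ⟨hw, hw1⟩).symm
      have h4 : x ^ (H.relIndex K) ∈ centralizer (U : Set X) := by
        apply hHCU
        have h5 : (H.subgroupOf K).Normal := inferInstance
        exact Subgroup.pow_index_mem (H.subgroupOf K) (⟨x, hx⟩ : K)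
      exact mem_of_pow_mem_coprime _ x (Nat.Coprime.pow_left j hK.coprime.symm) h3 h4
    have htop : centralizer (Z : Set X) = ⊤ := by
      rw [eq_top_iff, ← sup_sylow_eq_top K hK.index T]
      apply sup_le
      · exact hKU.trans (Subgroup.centralizer_le (Subgroup.subset_normalClosure))
      · intro t ht z hz
        exact (hz.2 t ht).symm
    have h3 : HasNPC p (⊤ : Subgroup X) := htop ▸ h2
    exact HasNPC.of_equiv Subgroup.topEquiv h3
  · have hCK : C ⊓ K = H := by
      rcases hK.irred (C ⊓ K) inferInstance (le_inf hHC hK.le) inf_le_right with h | h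
      · exact h
      · exact absurd (h ▸ inf_le_left) hKC
    have hCp : IsPGroup p C := by
      intro c
      have h3 : (c : X) ^ (p ^ k) ∈ K := by
        rw [← hk]
        exact Subgroup.pow_index_mem K c
      have h4 : (c : X) ^ (p ^ k) ∈ H := hCK ▸ (⟨C.pow_mem c.2 _, h3⟩ : (c : X) ^ (p ^ k) ∈ C ⊓ K)
      obtain ⟨j, hj⟩ := hHp ⟨_, h4⟩
      refine ⟨k + j, ?_⟩
      apply Subtype.ext
      have := congrArg Subtype.val hj
      simpa [pow_add, pow_mul] using this
    have hLp : IsPGroup p (LL p V) := by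
      unfold LL
      apply IsPGroup.comap_of_ker_isPGroup
      · exact Helper40Cores.pCore_isPGroup
      · rw [QuotientGroup.ker_mk']
        exact hCp
    have hLH : LL p V ≤ H := Helper40Cores.le_pCore inferInstance hLp
    have hVT : V ≤ T := hVH.trans hHT
    have hTV : (T : Subgroup X) ≤ normalizer (V : Set X) := by
      rw [normalizer_eq_top]; exact le_top
    have hVV : ⁅V, V⁆ = ⊥ := by
      rw [Subgroup.commutator_eq_bot_iff_le_centralizer]
      intro v hv w hw
      exact hUc w hw.1 v hv.1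
    have claim : ∀ A ∈ 𝔉 T, A ≤ H := by
      by_contra hcon
      push Not at hcon
      obtain ⟨A₁, hA₁, hA₁H⟩ := hcon
      obtain ⟨A, hA, hAH, hA'⟩ := max_arg 𝔉 F5 T V T.2 hVT hTV
        (fun A _ => by rw [hVV]; exact bot_le) {A | ¬ A ≤ H} ⟨A₁, hA₁, hA₁H⟩
      rcases hA' with h | ⟨A', hA', hA'H, hA'V⟩
      · exact hAH ((le_LL_of_le_normalizer V (hst V hVp) A (F1 _ A hA).2 h).trans hLH)
      · have hA'H' : A' ≤ H := by
          by_contra h
          exact hA'H h
        have h3 : V ≤ A' := by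
          apply Fabs T A' V hA' hVT hVe
          rw [Subgroup.le_centralizer_iff]
          exact hA'H'.trans hHC
        exact hA'V.ne (inf_eq_right.mpr h3)
    obtain ⟨A₀, hA₀⟩ := F4 T
    have hFH : 𝔉 H ⊆ 𝔉 T := F3 T H A₀ hA₀ (claim A₀ hA₀) hHT
    have hJn : (sSup (𝔉 T)).Normal := by
      constructor
      intro n hn g
      have h3 : sSup (𝔉 T) ≤ (sSup (𝔉 T)).comap (MulAut.conj g).toMonoidHom := by
        apply sSup_le
        intro A hA
        rw [← Subgroup.map_le_iff_le_comap]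
        apply le_sSup
        apply hFH
        have h4 := F2 (MulAut.conj g) H A (F3' T H A hA (claim A hA) hHT)
        have h5 : H.map (MulAut.conj g).toMonoidHom = H := by
          have : g ∈ normalizer (H : Set X) := by rw [normalizer_eq_top]; trivial
          exact Helper40Sylow.mem_normalizer_iff_cj.mp this
        rwa [h5] at h4
      exact h3 hn
    have htop : normalizer ((sSup (𝔉 T) : Subgroup X) : Set X) = ⊤ := normalizer_eq_top_iff.mpr hJn
    have h3 : HasNPC p (⊤ : Subgroup X) := htop ▸ h1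
    exact HasNPC.of_equiv Subgroup.topEquiv h3

end Cfsg.Agent.Lib.Helper24ThompsonFinal
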