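import Mathlib
import Cfsg.Agent.Lib.Helper24ThompsonFinal
import Cfsg.Agent.Lib.Helper14ReplaceSub
import Cfsg.Agent.Lib.Helper14ElemAb

set_option autoImplicit false

/-! Thompson's normal `p`-complement theorem for odd `p`, both versions of `J`. -/

namespace Cfsg.Agent.Lib.Helper24ThompsonOdd

open Subgroup Cfsg
open Cfsg.Agent.Lib.Helper11Frobenius Cfsg.Agent.Lib.Helper24NPC Cfsg.Agent.Lib.Helper24Functor
open Cfsg.Agent.Lib.Helper24Star Cfsg.Agent.Lib.Helper24PStable Cfsg.Agent.Lib.Helper24Final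
open Cfsg.Agent.Lib.Helper24Reduce Cfsg.Agent.Lib.Helper24Thompson
open Cfsg.Agent.Lib.Helper24ThompsonFinal
open Cfsg.Agent.Lib.Helper14Family Cfsg.Agent.Lib.Helper14FamProps Cfsg.Agent.Lib.Helper14ReplaceSub
open Cfsg.Agent.Lib.Helper14ElemAb

universe u

theorem thompsonSubgroupOf_eq {G : Type u} [Group G] (p : ℕ) (P : Subgroup G) :
    thompsonSubgroupOf p P = sSup (famE p P) := by
  unfold thompsonSubgroupOf thompsonSubgroup
  rw [map_subtype_sSup, image_maxElemAb]

theorem famE_abs {X : Type*} [Group X] [Finite X] {p : ℕ} (P A V : Subgroup X) (hA : A ∈ famE p P)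
    (hVP : V ≤ P) (hV : IsElementaryAbelian p V) (hVA : V ≤ centralizer (A : Set X)) : V ≤ A := by
  intro v hv
  have h1 := hA.2.2 (A ⊔ zpowers v) (sup_le hA.1 (by rw [zpowers_le]; exact hVP hv))
    (elemAb_sup_zpowers A hA.2.1 v (hVA hv) (hV.2 v hv))
  have h2 : A = A ⊔ zpowers v := Subgroup.eq_of_le_of_card_ge le_sup_left h1
  rw [h2]
  exact (le_sup_right : zpowers v ≤ A ⊔ zpowers v) (mem_zpowers v)

theorem famA_abs {X : Type*} [Group X] [Finite X] (P A V : Subgroup X) (hA : A ∈ famA P)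
    (hVP : V ≤ P) (hVA : V ≤ centralizer (A : Set X)) : V ≤ A := by
  intro v hv
  have h1 := hA.2.2 (A ⊔ zpowers v) (sup_le hA.1 (by rw [zpowers_le]; exact hVP hv))
    (comm_sup_zpowers A hA.2.1 v (hVA hv))
  have h2 : A = A ⊔ zpowers v := Subgroup.eq_of_le_of_card_ge le_sup_left h1
  rw [h2]
  exact (le_sup_right : zpowers v ≤ A ⊔ zpowers v) (mem_zpowers v)

variable {p : ℕ} [Fact p.Prime]

theorem thompson_odd_E (hp : p ≠ 2) (G : Type u) [Group G] [Finite G] (P : Sylow p G)
    (h1 : HasNPC p (normalizer (thompsonSubgroupOf p (P : Subgroup G) : Set G)))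
    (h2 : HasNPC p (centralizer (((P : Subgroup G) ⊓ centralizer (P : Set G) : Subgroup G) : Set G))) :
    HasNPC p G := by
  have h𝒲 : ∀ w ∈ ({(true, fJE p), (false, fZ)} :
      Set (Bool × (∀ (Q : Type u) [Group Q], Subgroup Q))), IsCharPFunctor.{u} p w.2 := by
    rintro w (rfl | rfl)
    · exact isChar_fJE p
    · exact isChar_fZ p
  refine reduction (𝒲 := {(true, fJE p), (false, fZ)}) (p := p) h𝒲 (fun _ _ => True) ?_ ?_ ?_ G
    trivial ?_
  · intros; trivial
  · intros; trivial
  · intro X _ _ _ hHyp _ _ hc hq hT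
    obtain ⟨T⟩ : Nonempty (Sylow p X) := inferInstance
    obtain ⟨K, hK⟩ := exists_star (pCore p X) Helper40Cores.pCore_isPGroup hq hT
    apply thompson_final (famE p) (fun P A hA => ⟨hA.1, hA.2.1.1⟩) famE_F2 famE_F3 famE_F3'
      (famE_F4 p)
      (fun P B A hP hBP hPB hA hBA hnot => famE_replace hp P B A hP hBP hPB hA hBA hnot)
      (fun P A V hA hVP hV hVA => famE_abs P A V hA hVP hV hVA) hc K hK
      (pstable_of_final hp hq hT) T
    · rw [← thompsonSubgroupOf_eq]
      exact hHyp T (true, fJE p) (Or.inl rfl)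
    · have := hHyp T (false, fZ) (Or.inr rfl)
      rw [ind_fZ] at this
      exact this
  · apply hyp_of_one h𝒲 P
    rintro w (rfl | rfl)
    · exact h1
    · show HasNPC p (centralizer ((inducedFunctor fZ (P : Subgroup G) : Subgroup G) : Set G))
      rw [ind_fZ]
      exact h2

theorem thompson_odd_A (hp : p ≠ 2) (G : Type u) [Group G] [Finite G] (P : Sylow p G)
    (h1 : HasNPC p (normalizer (thompsonSubgroupAOf (P : Subgroup G) : Set G)))
    (h2 : HasNPC p (centralizer (((P : Subgroup G) ⊓ centralizer (P : Set G) : Subgroup G) : Set G))) :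
    HasNPC p G := by
  have h𝒲 : ∀ w ∈ ({(true, fJA), (false, fZ)} :
      Set (Bool × (∀ (Q : Type u) [Group Q], Subgroup Q))), IsCharPFunctor.{u} p w.2 := by
    rintro w (rfl | rfl)
    · exact isChar_fJA p
    · exact isChar_fZ p
  refine reduction (𝒲 := {(true, fJA), (false, fZ)}) (p := p) h𝒲 (fun _ _ => True) ?_ ?_ ?_ G
    trivial ?_
  · intros; trivial
  · intros; trivial
  · intro X _ _ _ hHyp _ _ hc hq hT
    obtain ⟨T⟩ : Nonempty (Sylow p X) := inferInstance
    obtain ⟨K, hK⟩ := exists_star (pCore p X) Helper40Cores.pCore_isPGroup hq hT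
    apply thompson_final famA (fun P A hA => ⟨hA.1, hA.2.1⟩) famA_F2 famA_F3 famA_F3'
      famA_F4
      (fun P B A hP hBP hPB hA hBA hnot => famA_replace hp P B A hP hBP hPB hA hBA hnot)
      (fun P A V hA hVP _ hVA => famA_abs P A V hA hVP hVA) hc K hK
      (pstable_of_final hp hq hT) T
    · rw [← thompsonSubgroupAOf_eq]
      exact hHyp T (true, fJA) (Or.inl rfl)
    · have := hHyp T (false, fZ) (Or.inr rfl)
      rw [ind_fZ] at this
      exact this
  · apply hyp_of_one h𝒲 P
    rintro w (rfl | rfl)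
    · exact h1
    · show HasNPC p (centralizer ((inducedFunctor fZ (P : Subgroup G) : Subgroup G) : Set G))
      rw [ind_fZ]
      exact h2

end Cfsg.Agent.Lib.Helper24ThompsonOdd
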