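import Cfsg.Agent.Lib.Helper2TateB
import Cfsg.Agent.Lib.Helper2Frattini

set_option autoImplicit false
open Pointwise
open scoped commutatorElement

namespace Cfsg.Agent.Lib.Helper2TateC

open Subgroup Cfsg.Agent.Lib.Helper2Tate Cfsg.Agent.Lib.Helper2TateB
  Cfsg.Agent.Lib.Helper2Residual

/-- In a nilpotent group elements of coprime orders commute. -/
theorem commute_of_coprime_orderOf (H : Type*) [Group H] [Group.IsNilpotent H] :
    ∀ x y : H, (orderOf x).Coprime (orderOf y) → Commute x y := by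
  refine Group.nilpotent_center_quotient_ind
    (P := fun H _ _ => ∀ x y : H, (orderOf x).Coprime (orderOf y) → Commute x y) H ?_ ?_
  · intro H _ _ x y _; exact Subsingleton.elim _ _
  · intro H _ _ ih
    intro x y hxy
    have h1 : Commute (x : H ⧸ center H) (y : H ⧸ center H) := by
      apply ih
      exact Nat.Coprime.coprime_dvd_left (orderOf_map_dvd (QuotientGroup.mk' (center H)) x)
        (Nat.Coprime.coprime_dvd_right (orderOf_map_dvd (QuotientGroup.mk' (center H)) y) hxy)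
    set z : H := ⁅x, y⁆ with hz
    have hzc : z ∈ center H := by
      rw [← QuotientGroup.eq_one_iff, hz]
      have : ((⁅x, y⁆ : H) : H ⧸ center H) = ⁅(x : H ⧸ center H), (y : H ⧸ center H)⁆ :=
        map_commutatorElement (QuotientGroup.mk' (center H)) x y
      rw [this]
      exact h1.commutator_eq
    have hzc' : ∀ g : H, Commute z g := fun g => ((mem_center_iff.1 hzc) g).symm
    -- `x y x⁻¹ = z y`
    have e1 : x * y * x⁻¹ = z * y := by rw [hz, commutatorElement_def]; group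
    have e2 : z ^ orderOf y = 1 := by
      have h2 : (x * y * x⁻¹) ^ orderOf y = 1 := by
        rw [conj_pow, pow_orderOf_eq_one]; group
      rw [e1, (hzc' y).mul_pow, pow_orderOf_eq_one, mul_one] at h2
      exact h2
    -- `y x⁻¹ y⁻¹ = x⁻¹ z`
    have e3 : y * x⁻¹ * y⁻¹ = z * x⁻¹ := by
      have : y * x⁻¹ * y⁻¹ = x⁻¹ * z := by rw [hz, commutatorElement_def]; group
      rw [this]; exact ((hzc' x⁻¹).eq).symm
    have e4 : z ^ orderOf x = 1 := by
      have h2 : (y * x⁻¹ * y⁻¹) ^ orderOf x = 1 := by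
        rw [conj_pow, inv_pow, pow_orderOf_eq_one]; group
      rw [e3, (hzc' x⁻¹).mul_pow, inv_pow, pow_orderOf_eq_one, inv_one, mul_one] at h2
      exact h2
    have e5 : orderOf z = 1 := Nat.eq_one_of_dvd_coprimes hxy (orderOf_dvd_of_pow_eq_one e4)
      (orderOf_dvd_of_pow_eq_one e2)
    rw [orderOf_eq_one_iff] at e5
    exact commutatorElement_eq_one_iff_commute.1 e5

/-- In a finite nilpotent group, conjugation on a Sylow subgroup is induced from inside it. -/
theorem exists_conj_in_sylow_of_nilpotent {H : Type*} [Group H] [Finite H] [Group.IsNilpotent H]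
    {p : ℕ} [Fact p.Prime] (P : Sylow p H) (x : H) (hx : x ∈ P) (h : H) :
    ∃ u ∈ P, h * x * h⁻¹ = u * x * u⁻¹ := by
  have hp : p.Prime := Fact.out
  obtain ⟨k, m, hm, hn⟩ := Nat.exists_eq_pow_mul_and_not_dvd (orderOf_pos h).ne' p hp.ne_one
  have hcop : (p ^ k).Coprime m := ((Nat.Prime.coprime_iff_not_dvd hp).2 hm).pow_left k
  have hbez : ((p ^ k : ℕ) : ℤ) * (p ^ k).gcdA m + (m : ℤ) * (p ^ k).gcdB m = 1 := by
    have := Nat.gcd_eq_gcd_ab (p ^ k) m
    rw [hcop.gcd_eq_one] at this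
    exact_mod_cast this.symm
  set v : H := (h ^ (p ^ k)) ^ ((p ^ k).gcdA m) with hv
  set u : H := (h ^ m) ^ ((p ^ k).gcdB m) with hu
  have hvu : h = u * v := by
    have : h ^ (((p ^ k : ℕ) : ℤ) * (p ^ k).gcdA m + (m : ℤ) * (p ^ k).gcdB m) = v * u := by
      rw [zpow_add, zpow_mul, zpow_mul, zpow_natCast, zpow_natCast]
    rw [hbez, zpow_one] at this
    rw [this]
    have hc : Commute v u := by
      apply Commute.zpow_zpow
      exact (Commute.refl h).pow_pow _ _
    exact hc.eq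
  have hu1 : u ^ (p ^ k) = 1 := by
    rw [hu, ← zpow_natCast, ← zpow_mul, mul_comm, zpow_mul, zpow_natCast, ← pow_mul, mul_comm m,
      ← hn, pow_orderOf_eq_one, one_zpow]
  have hv1 : v ^ m = 1 := by
    rw [hv, ← zpow_natCast, ← zpow_mul, mul_comm, zpow_mul, zpow_natCast, ← pow_mul,
      ← hn, pow_orderOf_eq_one, one_zpow]
  have huP : u ∈ P := by
    obtain ⟨j, -, hj⟩ := (Nat.dvd_prime_pow hp).1 (orderOf_dvd_of_pow_eq_one hu1)
    have hpg : IsPGroup p (zpowers u) := by
      apply IsPGroup.of_card (n := j)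
      rw [Nat.card_zpowers, hj]
    obtain ⟨Q, hQ⟩ := hpg.exists_le_sylow
    rw [Cfsg.Agent.Lib.Helper2Frattini.sylow_eq_of_nilpotent P Q]
    exact hQ (mem_zpowers u)
  have hvx : Commute v x := by
    apply commute_of_coprime_orderOf
    obtain ⟨j, hj⟩ := (P.2 ⟨x, hx⟩)
    have hj' : x ^ p ^ j = 1 := by
      have := congrArg Subtype.val hj
      simpa using this
    obtain ⟨i, -, hi⟩ := (Nat.dvd_prime_pow hp).1 (orderOf_dvd_of_pow_eq_one hj')
    rw [hi]
    apply Nat.Coprime.pow_right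
    exact Nat.Coprime.coprime_dvd_left (orderOf_dvd_of_pow_eq_one hv1)
      ((Nat.Prime.coprime_iff_not_dvd hp).2 hm).symm
  refine ⟨u, huP, ?_⟩
  rw [hvu]
  calc u * v * x * (u * v)⁻¹ = u * (v * x) * v⁻¹ * u⁻¹ := by group
    _ = u * (x * v) * v⁻¹ * u⁻¹ := by rw [hvx.eq]
    _ = u * x * u⁻¹ := by group

/-- Control of fusion gives control of `O^p`. -/
theorem tate_control {G : Type*} [Group G] [Finite G] {p : ℕ} [Fact p.Prime] (P : Sylow p G)
    (V : Subgroup G) (hPV : (P : Subgroup G) ≤ V)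
    (hctl : ∀ x ∈ (P : Subgroup G), ∀ g : G, g * x * g⁻¹ ∈ (P : Subgroup G) →
      ∃ w ∈ V, g * x * g⁻¹ = w * x * w⁻¹) :
    (P : Subgroup G) ⊓ Cfsg.pResidual p G ≤ closure {g : G | g ∈ V ∧ (orderOf g).Coprime p} := by
  apply tate_general P V hPV
  rw [inf_comm, commutator_inf_eq_focalSubgroup, focalSubgroup_def, closure_le]
  rintro g ⟨hg, x, hx, u, rfl⟩
  have h1 : u * x⁻¹ * u⁻¹ ∈ (P : Subgroup G) := by
    have := mul_mem (inv_mem hx) hg
    rw [commutatorElement_def] at this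
    simpa [mul_assoc] using this
  obtain ⟨w, hw, hw2⟩ := hctl x⁻¹ (inv_mem hx) u h1
  have h2 : ⁅x, u⁆ = ⁅x, w⁆ := by
    rw [commutatorElement_def, commutatorElement_def]
    calc x * u * x⁻¹ * u⁻¹ = x * (u * x⁻¹ * u⁻¹) := by group
      _ = x * (w * x⁻¹ * w⁻¹) := by rw [hw2]
      _ = x * w * x⁻¹ * w⁻¹ := by group
  rw [SetLike.mem_coe, h2]
  exact commutator_mem_commutator (hPV hx) hw

/-- If a Sylow `p`-subgroup controls its own fusion, `O^p(G)` is a `p'`-group. -/
theorem coprime_card_pResidual_of_control {G : Type*} [Group G] [Finite G] {p : ℕ} [Fact p.Prime]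
    (P : Sylow p G)
    (hctl : ∀ x ∈ (P : Subgroup G), ∀ g : G, g * x * g⁻¹ ∈ (P : Subgroup G) →
      ∃ w ∈ (P : Subgroup G), g * x * g⁻¹ = w * x * w⁻¹) :
    (Nat.card (Cfsg.pResidual p G)).Coprime p := by
  have hp : p.Prime := Fact.out
  have hn := pResidual_normal (G := G) p
  apply coprime_card_of_sylow_inf_eq_bot P
  rw [eq_bot_iff]
  refine (tate_control P P le_rfl hctl).trans ?_
  rw [closure_le]
  rintro g ⟨hg, hc⟩
  obtain ⟨j, hj⟩ := (P.2 ⟨g, hg⟩)
  have hj' : g ^ p ^ j = 1 := by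
    have := congrArg Subtype.val hj
    simpa using this
  have h1 : orderOf g = 1 :=
    Nat.eq_one_of_dvd_coprimes (hc.pow_right j) dvd_rfl (orderOf_dvd_of_pow_eq_one hj')
  rw [orderOf_eq_one_iff] at h1
  rw [h1]; exact one_mem _

end Cfsg.Agent.Lib.Helper2TateC
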