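import Mathlib
import Cfsg.Agent.S0031
import Cfsg.Agent.S0032
import Cfsg.Agent.Lib.Helper3Nilp
import Cfsg.Agent.Lib.Helper2TateC
import Cfsg.Agent.Lib.Helper24ThompsonOdd

/-! Thompson: a finite group with a fixed-point-free automorphism of prime order is nilpotent. -/

set_option autoImplicit false

namespace Cfsg.Agent.Lib.Helper24Fpf

open Subgroup

universe u

theorem fa_abstract {W P : Type*} [CommGroup W] [Group P] [Fintype P] (α : P →* MulAut W)
    (f : W →* W) (g : P →* P) (r : ℕ)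
    (hfg : ∀ u w, f (α u w) = α (g u) (f w))
    (hprod : ∀ w, ∏ i ∈ Finset.range (r+1), f^[i] w = 1)
    (hbij : ∀ i, i < r → Function.Bijective (fun u => u⁻¹ * g^[i+1] u)) (w : W) (v : P) :
    α v (w ^ Fintype.card P) = w ^ Fintype.card P := by
  have hit : ∀ i u w, f^[i] (α u w) = α (g^[i] u) (f^[i] w) := by
    intro i
    induction i with
    | zero => intro u w; rfl
    | succ n ih =>
      intro u w
      rw [Function.iterate_succ_apply', ih, hfg, Function.iterate_succ_apply',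
        Function.iterate_succ_apply']
  let τ : W → W := fun x => ∏ u : P, α u x
  have hτ : ∀ x v, α v (τ x) = τ x := by
    intro x v
    simp only [τ, map_prod]
    rw [← Equiv.prod_comp (Equiv.mulLeft v) (fun u => α u x)]
    refine Finset.prod_congr rfl fun u _ => ?_
    simp [map_mul]
  have h1 : ∀ u, ∏ i ∈ Finset.range (r+1), α (u⁻¹ * g^[i] u) (f^[i] w) = 1 := by
    intro u
    have := hprod (α u w)
    have h2 := congrArg (α u⁻¹) this
    rw [map_prod, map_one] at h2
    rw [← h2]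
    refine Finset.prod_congr rfl fun i _ => ?_
    rw [hit, map_mul]; rfl
  have h2 : ∏ u : P, ∏ i ∈ Finset.range (r+1), α (u⁻¹ * g^[i] u) (f^[i] w) = 1 :=
    Finset.prod_eq_one fun u _ => h1 u
  rw [Finset.prod_comm, Finset.prod_range_succ'] at h2
  have h3 : ∏ u : P, α (u⁻¹ * g^[0] u) (f^[0] w) = w ^ Fintype.card P := by
    simp
  have h4 : ∀ i ∈ Finset.range r, ∏ u : P, α (u⁻¹ * g^[i+1] u) (f^[i+1] w) = τ (f^[i+1] w) := by
    intro i hi
    exact (hbij i (Finset.mem_range.mp hi)).prod_comp (fun u => α u (f^[i+1] w))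
  rw [h3, Finset.prod_congr rfl h4] at h2
  have h5 : w ^ Fintype.card P = (∏ i ∈ Finset.range r, τ (f^[i+1] w))⁻¹ :=
    eq_inv_of_mul_eq_one_right h2
  rw [h5, map_inv, map_prod]
  congr 1
  exact Finset.prod_congr rfl fun i _ => hτ _ _

/-- fixed-point-free endomorphism with `φ^r = id`. -/
structure FP (r : ℕ) {G : Type*} [Group G] (φ : G →* G) : Prop where
  fpf : ∀ x, φ x = x → x = 1
  pow : ∀ x, φ^[r] x = x

section
variable {G : Type*} [Group G] {φ : G →* G} {r : ℕ}

/-- restriction to an invariant subgroup -/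
def res (φ : G →* G) (H : Subgroup G) (h : ∀ x ∈ H, φ x ∈ H) : H →* H :=
  (φ.comp H.subtype).codRestrict H (fun x => h x x.2)

theorem res_iterate (H : Subgroup G) (h : ∀ x ∈ H, φ x ∈ H) (k : ℕ) (x : H) :
    (((res φ H h)^[k] x : H) : G) = φ^[k] x := by
  induction k with
  | zero => rfl
  | succ n ih =>
    rw [Function.iterate_succ_apply', Function.iterate_succ_apply', ← ih]
    rfl

theorem FP.res (hφ : FP r φ) (H : Subgroup G) (h : ∀ x ∈ H, φ x ∈ H) : FP r (res φ H h) := by
  refine ⟨fun x hx => ?_, fun x => ?_⟩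
  · apply Subtype.ext
    exact hφ.fpf x (congrArg Subtype.val hx)
  · apply Subtype.ext
    rw [res_iterate]
    exact hφ.pow x

theorem FP.bijective (hr : r ≠ 0) (hφ : FP r φ) : Function.Bijective φ := by
  obtain ⟨k, rfl⟩ := Nat.exists_eq_succ_of_ne_zero hr
  refine ⟨fun x y h => ?_, fun y => ⟨φ^[k] y, ?_⟩⟩
  · rw [← hφ.pow x, ← hφ.pow y, Function.iterate_succ_apply, Function.iterate_succ_apply, h]
  · have := hφ.pow y
    rwa [Function.iterate_succ_apply'] at this

theorem FP.iterate_fpf (hr : r.Prime) (hφ : FP r φ) (i : ℕ) (h0 : 0 < i) (hi : i < r) (x : G)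
    (hx : φ^[i] x = x) : x = 1 := by
  have h1 : Function.IsPeriodicPt φ i x := hx
  have h2 : Function.IsPeriodicPt φ r x := hφ.pow x
  have h3 := h1.gcd h2
  have h4 : Nat.gcd i r = 1 :=
    (Nat.coprime_of_lt_prime h0.ne' hi hr).symm
  rw [h4] at h3
  exact hφ.fpf x h3

theorem FP.beta_bijective [Finite G] (hr : r.Prime) (hφ : FP r φ) (i : ℕ) (h0 : 0 < i)
    (hi : i < r) : Function.Bijective (fun u : G => u⁻¹ * φ^[i] u) := by
  rw [← Finite.injective_iff_bijective]
  intro u v huv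
  have huv' : u⁻¹ * φ^[i] u = v⁻¹ * φ^[i] v := huv
  have h1 : φ^[i] (v * u⁻¹) = v * u⁻¹ := by
    rw [iterate_map_mul, iterate_map_inv]
    have : φ^[i] u = u * (v⁻¹ * φ^[i] v) := by rw [← huv']; group
    rw [this]; group
  have h2 := hφ.iterate_fpf hr i h0 hi _ h1
  exact (mul_inv_eq_one.mp h2).symm

/-- the automorphism as a `MulEquiv` -/
noncomputable def FP.equiv (hr : r ≠ 0) (hφ : FP r φ) : G ≃* G :=
  MulEquiv.ofBijective φ (hφ.bijective hr)

theorem FP.equiv_fpf (hr : r ≠ 0) (hφ : FP r φ) :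
    MonoidHom.FixedPointFree ((hφ.equiv hr : G ≃* G) : G →* G) := fun x hx => hφ.fpf x hx

/-- induced map on the quotient by an invariant normal subgroup -/
def quo (φ : G →* G) (N : Subgroup G) [N.Normal] (h : ∀ x ∈ N, φ x ∈ N) : G ⧸ N →* G ⧸ N :=
  QuotientGroup.map N N φ (fun x hx => h x hx)

theorem quo_iterate (N : Subgroup G) [N.Normal] (h : ∀ x ∈ N, φ x ∈ N) (k : ℕ) (x : G) :
    (quo φ N h)^[k] (x : G ⧸ N) = ((φ^[k] x : G) : G ⧸ N) := by
  induction k with
  | zero => rfl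
  | succ n ih =>
    rw [Function.iterate_succ_apply', Function.iterate_succ_apply', ih]
    rfl

theorem FP.quo [Finite G] (hr : r ≠ 0) (hφ : FP r φ) (N : Subgroup G) [N.Normal]
    (h : ∀ x ∈ N, φ x ∈ N) : FP r (quo φ N h) := by
  refine ⟨fun x hx => ?_, fun x => ?_⟩
  · obtain ⟨x, rfl⟩ := QuotientGroup.mk_surjective x
    have h1 : ((φ x : G) : G ⧸ N) = (x : G ⧸ N) := hx
    rw [QuotientGroup.eq] at h1
    have := Cfsg.Agent.S0032.result (hφ.equiv hr) (hφ.equiv_fpf hr) N h x h1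
    exact (QuotientGroup.eq_one_iff x).mpr this
  · obtain ⟨x, rfl⟩ := QuotientGroup.mk_surjective x
    rw [quo_iterate, hφ.pow]

theorem FP.exists_sylow [Finite G] (hr : r ≠ 0) (hφ : FP r φ) (p : ℕ) [Fact p.Prime] :
    ∃ P : Sylow p G, (P : Subgroup G).map φ = P :=
  Cfsg.Agent.S0031.result (hφ.equiv hr) (hφ.equiv_fpf hr) p

theorem list_prod_range {M : Type*} [CommMonoid M] (f : ℕ → M) (n : ℕ) :
    ((List.range n).map f).prod = ∏ i ∈ Finset.range n, f i := by
  induction n with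
  | zero => simp
  | succ n ih => rw [List.range_succ, List.map_append, List.prod_append, ih,
      Finset.prod_range_succ]; simp

theorem FP.centralizes [Finite G] (hr : r.Prime) (hφ : FP r φ) (W P : Subgroup G) [W.Normal]
    (hWc : ∀ a ∈ W, ∀ b ∈ W, a * b = b * a) (hW : ∀ x ∈ W, φ x ∈ W) (hP : ∀ x ∈ P, φ x ∈ P)
    (hcop : (Nat.card P).Coprime (Nat.card W)) : P ≤ centralizer (W : Set G) := by
  classical
  let _ : CommGroup W :=
    { (inferInstance : Group W) with mul_comm := fun a b => Subtype.ext (hWc a a.2 b b.2) }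
  have : Fintype P := Fintype.ofFinite P
  obtain ⟨k, rfl⟩ := Nat.exists_eq_succ_of_ne_zero hr.ne_zero
  have key := fa_abstract ((MulAut.conjNormal : G →* MulAut W).comp P.subtype)
    (Helper24Fpf.res φ W hW) (Helper24Fpf.res φ P hP) k
    (by
      intro u w
      apply Subtype.ext
      show φ (u * w * u⁻¹) = φ u * φ w * (φ u)⁻¹
      simp)
    (by
      intro w
      have h1 := MonoidHom.FixedPointFree.prod_pow_eq_one (φ := Helper24Fpf.res φ W hW)
        (fun x hx => (hφ.res W hW).fpf x hx) (n := k + 1) (funext fun x => (hφ.res W hW).pow x) w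
      rw [← list_prod_range]
      exact h1)
    (by
      intro i hi
      exact (hφ.res P hP).beta_bijective hr (i + 1) (Nat.succ_pos i) (Nat.succ_lt_succ hi))
  rw [le_centralizer_iff]
  intro w hw
  apply Cfsg.Agent.Lib.Helper24ThompsonFinal.mem_of_pow_mem_coprime _ w hcop
  · intro v hv
    have h1 := congrArg Subtype.val (key ⟨w, hw⟩ ⟨v, hv⟩)
    have h2 : v * w ^ Fintype.card P * v⁻¹ = w ^ Fintype.card P := h1
    rw [Nat.card_eq_fintype_card]
    calc v * w ^ Fintype.card P = (v * w ^ Fintype.card P * v⁻¹) * v := by group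
      _ = w ^ Fintype.card P * v := by rw [h2]
  · have : w ^ Nat.card W = 1 := by
      have := pow_card_eq_one' (G := W) (x := ⟨w, hw⟩)
      exact congrArg Subtype.val this
    rw [this]
    exact one_mem _

theorem eq_top_of_sylow_le [Finite G] (C : Subgroup G)
    (h : ∀ (p : ℕ) [Fact p.Prime], ∃ P : Sylow p G, (P : Subgroup G) ≤ C) : C = ⊤ := by
  rw [← index_eq_one]
  by_contra hne
  obtain ⟨p, hp, hdvd⟩ := Nat.exists_prime_and_dvd hne
  have := Fact.mk hp
  obtain ⟨P, hP⟩ := h p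
  exact P.not_dvd_index (hdvd.trans (index_dvd_of_le hP))

theorem normal_le_sylow [Finite G] {q : ℕ} [Fact q.Prime] (B : Subgroup G) [hBn : B.Normal]
    (hB : IsPGroup q B) (Q : Sylow q G) : B ≤ Q := by
  obtain ⟨Q', hQ'⟩ := hB.exists_le_sylow
  obtain ⟨g, hg⟩ := MulAction.exists_smul_eq G Q' Q
  intro x hx
  have h1 : g⁻¹ * x * g⁻¹⁻¹ ∈ B := hBn.conj_mem x hx g⁻¹
  have h2 := Cfsg.Agent.Lib.Helper11Frobenius.mem_smul_sylow g Q' _ (hQ' h1)
  rw [hg] at h2
  have h3 : g * (g⁻¹ * x * g⁻¹⁻¹) * g⁻¹ = x := by group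
  rwa [h3] at h2

theorem FP.center_ne_bot [Finite G] (hr : r.Prime) (hφ : FP r φ) (N : Subgroup G)
    [hNn : N.Normal] (hN : ∀ x ∈ N, φ x ∈ N) (hnil : Group.IsNilpotent N) (hne : N ≠ ⊥) :
    center G ≠ ⊥ := by
  classical
  have hnt : Nontrivial N := (Subgroup.nontrivial_iff_ne_bot N).mpr hne
  obtain ⟨a, -, haZ, ha1⟩ :=
    Cfsg.Agent.Lib.Helper3Nilp.normal_inf_center_ne_bot (G := N) ⊤ top_ne_bot
  have hord : orderOf a ≠ 1 := by rwa [Ne, orderOf_eq_one_iff]
  obtain ⟨q, hq, hqd⟩ := Nat.exists_prime_and_dvd hord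
  have := Fact.mk hq
  have hbq : orderOf (a ^ (orderOf a / q)) = q :=
    orderOf_pow_orderOf_div (orderOf_pos a).ne' hqd
  have hbZ : a ^ (orderOf a / q) ∈ center N := (center N).pow_mem haZ _
  generalize a ^ (orderOf a / q) = b at hbq hbZ
  let B : Subgroup G :=
    { carrier := {x | x ∈ N ∧ (∀ n ∈ N, n * x = x * n) ∧ x ^ q = 1}
      one_mem' := ⟨N.one_mem, by simp, one_pow q⟩
      mul_mem' := by
        rintro x y ⟨hx, hxc, hxq⟩ ⟨hy, hyc, hyq⟩
        refine ⟨N.mul_mem hx hy, fun n hn => ?_, ?_⟩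
        · rw [← mul_assoc, hxc n hn, mul_assoc, hyc n hn, mul_assoc]
        · rw [(show Commute x y from (hyc x hx)).mul_pow, hxq, hyq, one_mul]
      inv_mem' := by
        rintro x ⟨hx, hxc, hxq⟩
        refine ⟨N.inv_mem hx, fun n hn => ?_, by rw [inv_pow, hxq, inv_one]⟩
        have := hxc n hn
        calc n * x⁻¹ = x⁻¹ * (x * n) * x⁻¹ := by group
          _ = x⁻¹ * (n * x) * x⁻¹ := by rw [this]
          _ = x⁻¹ * n := by group }
  have hBn : B.Normal := by
    refine ⟨fun x hx g => ?_⟩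
    obtain ⟨hx, hxc, hxq⟩ := hx
    refine ⟨hNn.conj_mem x hx g, fun n hn => ?_, by rw [conj_pow, hxq]; group⟩
    have h1 : g⁻¹ * n * g⁻¹⁻¹ ∈ N := hNn.conj_mem n hn g⁻¹
    have h2 := hxc _ h1
    calc n * (g * x * g⁻¹) = g * ((g⁻¹ * n * g⁻¹⁻¹) * x) * g⁻¹ := by group
      _ = g * (x * (g⁻¹ * n * g⁻¹⁻¹)) * g⁻¹ := by rw [h2]
      _ = g * x * g⁻¹ * n := by group
  have hBφ : ∀ x ∈ B, φ x ∈ B := by
    rintro x ⟨hx, hxc, hxq⟩
    refine ⟨hN x hx, fun n hn => ?_, by rw [← map_pow, hxq, map_one]⟩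
    obtain ⟨n', hn'⟩ := ((hφ.res N hN).bijective hr.ne_zero).2 ⟨n, hn⟩
    have h1 : φ n' = n := congrArg Subtype.val hn'
    rw [← h1, ← map_mul, ← map_mul, hxc _ n'.2]
  have hBp : IsPGroup q B := fun x => ⟨1, Subtype.ext (by simpa using x.2.2.2)⟩
  have hBc : ∀ x ∈ B, ∀ y ∈ B, x * y = y * x := fun x hx y hy => hy.2.1 x hx.1
  have hbB : (b : G) ∈ B := by
    refine ⟨b.2, fun n hn => ?_, ?_⟩
    · have := (mem_center_iff.mp hbZ) ⟨n, hn⟩
      exact congrArg Subtype.val this
    · have : b ^ q = 1 := by rw [← hbq]; exact pow_orderOf_eq_one b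
      exact congrArg Subtype.val this
  have hb1 : b ≠ 1 := by
    intro h
    rw [h, orderOf_one] at hbq
    exact hq.one_lt.ne hbq
  obtain ⟨Q, hQ⟩ := hφ.exists_sylow hr.ne_zero q
  have hBQ : B ≤ Q := normal_le_sylow B hBp Q
  have hQnil : Group.IsNilpotent (Q : Subgroup G) := Q.isPGroup'.isNilpotent
  have hne' : B.subgroupOf (Q : Subgroup G) ≠ ⊥ := by
    intro h
    have : (⟨b, hBQ hbB⟩ : (Q : Subgroup G)) ∈ B.subgroupOf (Q : Subgroup G) := hbB
    rw [h, mem_bot] at this
    apply hb1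
    apply Subtype.ext
    exact congrArg (fun t : (Q : Subgroup G) => (t : G)) this
  obtain ⟨z, hzB, hzZ, hz1⟩ :=
    Cfsg.Agent.Lib.Helper3Nilp.normal_inf_center_ne_bot (G := (Q : Subgroup G))
      (B.subgroupOf (Q : Subgroup G)) hne'
  have hzB' : (z : G) ∈ B := hzB
  have htop : centralizer ({(z : G)} : Set G) = ⊤ := by
    apply eq_top_of_sylow_le
    intro p _
    by_cases hpq : p = q
    · subst hpq
      refine ⟨Q, fun x hx => ?_⟩
      rw [mem_centralizer_singleton_iff]
      have := (mem_center_iff.mp hzZ) ⟨x, hx⟩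
      exact (congrArg Subtype.val this)
    · obtain ⟨P, hP⟩ := hφ.exists_sylow hr.ne_zero p
      refine ⟨P, fun x hx => ?_⟩
      have hPφ : ∀ x ∈ (P : Subgroup G), φ x ∈ (P : Subgroup G) := by
        intro x hx
        rw [← hP]
        exact ⟨x, hx, rfl⟩
      have h1 := hφ.centralizes hr B P hBc hBφ hPφ
        (IsPGroup.coprime_card_of_ne p q hpq _ _ P.isPGroup' hBp)
      rw [mem_centralizer_singleton_iff]
      exact ((h1 hx) z hzB').symm
  intro hbot
  have hzc : (z : G) ∈ center G := by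
    rw [mem_center_iff]
    intro g
    have : g ∈ centralizer ({(z : G)} : Set G) := by rw [htop]; trivial
    rw [mem_centralizer_singleton_iff] at this
    exact this
  rw [hbot, mem_bot] at hzc
  exact hz1 (Subtype.ext hzc)

end

open Cfsg Cfsg.Agent.Lib.Helper11Frobenius Cfsg.Agent.Lib.Helper24Functor
  Cfsg.Agent.Lib.Helper24Thompson Cfsg.Agent.Lib.Helper24ThompsonOdd

theorem hasNPC_of_nilpotent {H : Type u} [Group H] [Finite H] (p : ℕ) [Fact p.Prime]
    (h : Group.IsNilpotent H) : HasNPC p H := by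
  apply Cfsg.Agent.Lib.Helper11Frobenius.frobenius
  intro Q hQ g hg hgp x hx
  obtain ⟨k, hk⟩ := (IsPGroup.iff_orderOf.mp hQ) ⟨x, hx⟩
  rw [Subgroup.orderOf_mk] at hk
  have : (orderOf x).Coprime (orderOf g) := by
    rw [hk]
    exact (Nat.Coprime.pow_left k hgp.symm)
  exact Cfsg.Agent.Lib.Helper2TateC.commute_of_coprime_orderOf H x g this

theorem nilpotent_aux (r : ℕ) (hr : r.Prime) : ∀ (n : ℕ) (G : Type u) [Group G] [Finite G]
    (φ : G →* G), Nat.card G = n → FP r φ → Group.IsNilpotent G := by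
  intro n
  induction n using Nat.strong_induction_on with
  | _ n ih =>
  intro G _ _ φ hn hφ
  have hbij := hφ.bijective hr.ne_zero
  have key : ∀ N : Subgroup G, N.Normal → (∀ x ∈ N, φ x ∈ N) → Group.IsNilpotent N → N ≠ ⊥ →
      Group.IsNilpotent G := by
    intro N hNn hN hnil hne
    have hZ := hφ.center_ne_bot hr N hN hnil hne
    have hinv : ∀ x ∈ center G, φ x ∈ center G := by
      intro x hx
      rw [mem_center_iff] at hx ⊢
      intro g
      obtain ⟨g', rfl⟩ := hbij.2 g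
      rw [← map_mul, ← map_mul, hx]
    have hlt : Nat.card (G ⧸ center G) < n := by
      rw [← hn, ← index_eq_card, ← (center G).card_mul_index]
      have h1 : 1 < Nat.card (center G) := (one_lt_card_iff_ne_bot _).mpr hZ
      have h2 : 0 < (center G).index := Nat.pos_of_ne_zero (center G).index_ne_zero_of_finite
      nlinarith
    have : Group.IsNilpotent (G ⧸ center G) :=
      ih _ hlt _ (quo φ (center G) hinv) rfl (hφ.quo hr.ne_zero _ hinv)
    exact Group.of_quotient_center_nilpotent this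
  have sub : ∀ H : Subgroup G, (∀ x ∈ H, φ x ∈ H) → H ≠ ⊤ → Group.IsNilpotent H := by
    intro H hH hne
    refine ih _ ?_ H (res φ H hH) rfl (hφ.res H hH)
    rw [← hn]
    exact lt_of_le_of_ne (card_le_card_group H) (fun h => hne (eq_top_of_card_eq H h))
  by_cases hodd : ∃ p, p.Prime ∧ p ≠ 2 ∧ p ∣ Nat.card G
  swap
  · push Not at hodd
    have : Fact (Nat.Prime 2) := ⟨Nat.prime_two⟩
    have h2 : Nat.card G = 2 ^ (Nat.card G).primeFactorsList.length :=
      Nat.eq_prime_pow_of_unique_prime_dvd Nat.card_pos.ne' (fun {d} hd hdvd => by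
        by_contra hne
        exact hodd d hd hne hdvd)
    exact (IsPGroup.of_card h2).isNilpotent
  obtain ⟨p, hp, hp2, hpd⟩ := hodd
  have := Fact.mk hp
  obtain ⟨P, hP⟩ := hφ.exists_sylow hr.ne_zero p
  have hPne : (P : Subgroup G) ≠ ⊥ := by
    intro h
    have h1 := P.not_dvd_index
    rw [h, index_bot] at h1
    exact h1 hpd
  by_contra hnot
  have step : ∀ (W : ∀ (Q : Type u) [Group Q], Subgroup Q), IsCharPFunctor.{u} p W →
      ∀ b : Bool, HasNPC p (loc b (inducedFunctor W (P : Subgroup G))) := by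
    intro W hW b
    have hUφ : (inducedFunctor W (P : Subgroup G)).map φ = inducedFunctor W (P : Subgroup G) := by
      rw [← ind_map hW φ (P : Subgroup G) P.isPGroup' hbij.1.injOn, hP]
    have hUne : inducedFunctor W (P : Subgroup G) ≠ ⊥ := ind_ne_bot hW (P : Subgroup G) P.isPGroup' hPne
    have hUp : IsPGroup p (inducedFunctor W (P : Subgroup G)) := P.isPGroup'.to_le (ind_le _)
    generalize inducedFunctor W (P : Subgroup G) = U at hUφ hUne hUp
    have hLφ : ∀ x ∈ loc b U, φ x ∈ loc b U := by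
      intro x hx
      have := map_loc_le b φ U ⟨x, hx, rfl⟩
      rwa [hUφ] at this
    by_cases htop : loc b U = ⊤
    · exfalso
      apply hnot
      have hUn : U.Normal := by
        rw [← normalizer_eq_top_iff]
        exact top_le_iff.mp (htop ▸ loc_le_normalizer b U)
      exact key U hUn (fun x hx => by rw [← hUφ]; exact ⟨x, hx, rfl⟩) hUp.isNilpotent hUne
    · exact hasNPC_of_nilpotent p (sub _ hLφ htop)
  have hnpc : HasNPC p G := thompson_odd_A hp2 G P (step fJA (isChar_fJA p) true)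
    (by have := step fZ (isChar_fZ p) false; rwa [ind_fZ] at this)
  obtain ⟨K, hKn, hK1, k, hK2⟩ := hnpc
  have hKφ : ∀ x ∈ K, φ x ∈ K := by
    intro x hx
    rw [mem_iff_coprime K hK1 k hK2] at hx ⊢
    rwa [orderOf_injective φ hbij.1 x]
  have hKtop : K ≠ ⊤ := by
    intro h
    rw [h, card_top] at hK1
    exact (Nat.Prime.coprime_iff_not_dvd hp).mp hK1.symm hpd
  by_cases hKbot : K = ⊥
  · apply hnot
    have : Nat.card G = p ^ k := by rw [← hK2, hKbot, index_bot]
    exact (IsPGroup.of_card this).isNilpotent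
  · exact hnot (key K hKn hKφ (sub K hKφ hKtop) hKbot)

/-- **Thompson**: a finite group with a fixed-point-free endomorphism `φ` with `φ^r = id`,
`r` prime, is nilpotent. -/
theorem nilpotent_of_fp {G : Type u} [Group G] [Finite G] {r : ℕ} (hr : r.Prime) (φ : G →* G)
    (hφ : FP r φ) : Group.IsNilpotent G := nilpotent_aux r hr _ G φ rfl hφ

end Cfsg.Agent.Lib.Helper24Fpf
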