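import Mathlib
import Cfsg.Agent.S0035
import Cfsg.Agent.S0040
import Cfsg.Agent.S0041
import Cfsg.Agent.S0042
import Cfsg.Agent.S0666
import Cfsg.Agent.Lib.Helper1FrobConj
import Cfsg.Agent.Lib.Helper72Frob

set_option autoImplicit false
set_option linter.unusedSectionVars false

namespace Cfsg.Agent.Lib.Helper71TwoFrob

open Cfsg Subgroup Pointwise

/-- `C` is a Frobenius complement with kernel the subgroup `N`. -/
structure FD {X : Type*} [Group X] (N C : Subgroup X) : Prop where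
  frob : IsFrobeniusComplement C
  ker : frobeniusKernel C = (N : Set X)

namespace FD

variable {X : Type*} [Group X] [Finite X] {N C : Subgroup X}

theorem compl (h : FD N C) : IsComplement' N C := by
  obtain ⟨N', h1, -, h3⟩ := Cfsg.Agent.S0035.result C h.frob
  have : N' = N := SetLike.coe_injective (h1.trans h.ker)
  exact this ▸ h3

theorem nilpotent (h : FD N C) : Group.IsNilpotent N := by
  obtain ⟨N', h1, -, h3⟩ := Cfsg.Agent.S0042.result C h.frob
  have : N' = N := SetLike.coe_injective (h1.trans h.ker)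
  exact this ▸ h3

theorem normal (h : FD N C) : N.Normal := by
  obtain ⟨N', h1, h2, -⟩ := Cfsg.Agent.S0035.result C h.frob
  have : N' = N := SetLike.coe_injective (h1.trans h.ker)
  exact this ▸ h2

theorem ne_bot (h : FD N C) : N ≠ ⊥ :=
  Cfsg.Agent.Lib.Helper1FrobConj.ne_bot_of_isComplement' h.compl h.frob.2.1

theorem fpf (h : FD N C) : ∀ c ∈ C, c ≠ 1 → N ⊓ centralizer {c} = ⊥ :=
  Cfsg.Agent.Lib.Helper1FrobConj.fpf_of_complement h.frob h.compl.disjoint

theorem coprime (h : FD N C) : (Nat.card N).Coprime (Nat.card C) := by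
  obtain ⟨k, hk⟩ := Cfsg.Agent.Lib.Helper1Frob.card_dvd_index_sub_one h.frob
  have h2 : C.index = Nat.card N := h.compl.index_eq_card
  have h3 : 0 < Nat.card N := Nat.card_pos
  have h4 : Nat.card N = Nat.card C * k + 1 := by omega
  rw [h4]
  simp

theorem index_eq (h : FD N C) : N.index = Nat.card C := h.compl.symm.index_eq_card

theorem fpf' (h : FD N C) {c n : X} (hc : c ∈ C) (hc1 : c ≠ 1) (hn : n ∈ N) (hcn : Commute c n) :
    n = 1 := by
  have h2 : n ∈ N ⊓ centralizer {c} :=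
    Subgroup.mem_inf.mpr ⟨hn, mem_centralizer_singleton_iff.mpr hcn.eq.symm⟩
  rwa [h.fpf _ hc hc1, mem_bot] at h2

theorem exists_conj (h : FD N C) {x : X} (hx : x ∉ N) : x ≠ 1 ∧ ∃ g : X, g⁻¹ * x * g ∈ C := by
  have : x ∉ frobeniusKernel C := by rw [h.ker]; exact hx
  exact Cfsg.Agent.Lib.Helper1Frob.not_mem_kernel_iff.mp this

theorem cent (h : FD N C) {x n : X} (hx : x ∉ N) (hn : n ∈ N) (hc : Commute x n) : n = 1 := by
  have := h.normal
  obtain ⟨hx1, g, hg⟩ := h.exists_conj hx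
  have h1 : g⁻¹ * x * g ≠ 1 := by
    intro h0
    apply hx1
    have : x = g * (g⁻¹ * x * g) * g⁻¹ := by group
    rw [this, h0]; group
  have h2 : g⁻¹ * n * g = 1 := by
    apply h.fpf' hg h1
    · have := this.conj_mem n hn g⁻¹
      simpa using this
    · show g⁻¹ * x * g * (g⁻¹ * n * g) = g⁻¹ * n * g * (g⁻¹ * x * g)
      have e1 : g⁻¹ * n * g * (g⁻¹ * x * g) = g⁻¹ * (n * x) * g := by group
      rw [e1, ← hc.eq]; group
  have : n = g * (g⁻¹ * n * g) * g⁻¹ := by group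
  rw [this, h2]; group

theorem orderOf_dvd (h : FD N C) {x y : X} (hx : x ∉ N) (hc : Commute x y) :
    orderOf y ∣ Nat.card C := by
  obtain ⟨hx1, g, hg⟩ := h.exists_conj hx
  have h1 : g⁻¹ * x * g ≠ 1 := by
    intro h0
    apply hx1
    have : x = g * (g⁻¹ * x * g) * g⁻¹ := by group
    rw [this, h0]; group
  have h2 : g⁻¹ * y * g ∈ C := by
    apply Cfsg.Agent.Lib.Helper1Frob.mem_of_conj_mem' h.frob hg h1
    have : g⁻¹ * y * g * (g⁻¹ * x * g) * (g⁻¹ * y * g)⁻¹ = g⁻¹ * (y * x * y⁻¹) * g := by group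
    rw [this, ← hc.eq]
    simpa using hg
  have h3 : orderOf (g⁻¹ * y * g) = orderOf y := by
    have := (MulAut.conj g⁻¹).orderOf_eq y
    simpa using this
  rw [← h3]
  exact Subgroup.orderOf_dvd_natCard C h2

/-- An involution of the complement inverts the kernel. -/
theorem inverts (h : FD N C) {t : X} (ht : t ∈ C) (ht1 : t ≠ 1) (ht2 : t * t = 1) {n : X}
    (hn : n ∈ N) : t * n * t⁻¹ = n⁻¹ := by
  have := h.normal
  obtain ⟨k, hk, hk2⟩ := Cfsg.Agent.Lib.Helper72Frob.exists_conj_of_fixedPointFree N t (by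
    intro c hc hct
    apply h.fpf' ht ht1 hc
    show t * c = c * t
    calc t * c = c * t * c⁻¹ * c := by rw [hct]
      _ = c * t := by group) n hn
  have h3 : (n * t) * (n * t) = 1 := by
    rw [← hk2]
    calc k * t * k⁻¹ * (k * t * k⁻¹) = k * (t * t) * k⁻¹ := by group
      _ = 1 := by rw [ht2]; group
  have h4 : t⁻¹ = t := inv_eq_of_mul_eq_one_left ht2
  rw [h4]
  apply eq_inv_of_mul_eq_one_right
  calc n * (t * n * t) = (n * t) * (n * t) := by group
    _ = 1 := h3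

theorem unique_involution (h : FD N C) (s t : C) (hs : orderOf s = 2) (ht : orderOf t = 2) :
    s = t := by
  have hs2 : (s : X) * s = 1 := by
    have : s ^ 2 = 1 := hs ▸ pow_orderOf_eq_one s
    have := congrArg Subtype.val this
    simpa [pow_two] using this
  have ht2 : (t : X) * t = 1 := by
    have : t ^ 2 = 1 := ht ▸ pow_orderOf_eq_one t
    have := congrArg Subtype.val this
    simpa [pow_two] using this
  have hs1 : (s : X) ≠ 1 := by
    intro h0
    have : s = 1 := Subtype.ext h0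
    rw [this, orderOf_one] at hs; omega
  have ht1 : (t : X) ≠ 1 := by
    intro h0
    have : t = 1 := Subtype.ext h0
    rw [this, orderOf_one] at ht; omega
  by_contra hne
  have hst : (s : X) * t ≠ 1 := by
    intro h0
    apply hne
    apply Subtype.ext
    have : (s : X) = (t : X)⁻¹ := eq_inv_of_mul_eq_one_left h0
    rw [this]
    exact inv_eq_of_mul_eq_one_left ht2
  apply h.ne_bot
  rw [eq_bot_iff_forall]
  intro n hn
  apply h.fpf' (C.mul_mem s.2 t.2) hst hn
  show (s : X) * t * n = n * ((s : X) * t)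
  symm
  have h1 := h.inverts t.2 ht1 ht2 hn
  have h2 := h.inverts s.2 hs1 hs2 (N.inv_mem hn)
  rw [inv_inv] at h2
  have h3 : (s : X) * t * n * ((s : X) * t)⁻¹ = n := by
    calc (s : X) * t * n * ((s : X) * t)⁻¹ = s * (t * n * (t : X)⁻¹) * (s : X)⁻¹ := by group
      _ = n := by rw [h1, h2]
  calc n * ((s : X) * t) = ((s : X) * t * n * ((s : X) * t)⁻¹) * ((s : X) * t) := by rw [h3]
    _ = (s : X) * t * n := by group

theorem isCyclic_of_odd_nilpotent (h : FD N C) (hodd : Odd (Nat.card C)) [Group.IsNilpotent C] :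
    IsCyclic C := by
  have := h.normal
  have hZ : IsZGroup C := by
    refine ⟨fun p hp P => ?_⟩
    have : Fact p.Prime := ⟨hp⟩
    rcases Cfsg.Agent.S0040.result N C h.compl h.ne_bot h.fpf p P with h1 | ⟨n, ⟨e⟩⟩
    · exact h1
    · exfalso
      have h2 : Nat.card P = 4 * 2 ^ n := by
        rw [Nat.card_congr e.toEquiv, Nat.card_eq_fintype_card, QuaternionGroup.card]
      have h3 : Nat.card P ∣ Nat.card C := Subgroup.card_subgroup_dvd_card _
      have h4 : 2 ∣ Nat.card C := dvd_trans ⟨2 * 2 ^ n, by rw [h2]; ring⟩ h3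
      exact (Nat.not_even_iff_odd.mpr hodd) (even_iff_two_dvd.mpr h4)
  infer_instance

theorem isCyclic_of_kernel_cyclic (h : FD N C) [hN : IsCyclic N] : IsCyclic C := by
  have hn := h.normal
  obtain ⟨β, hβ⟩ := hN.exists_generator
  have hβ1 : (β : X) ≠ 1 := by
    intro h0
    apply h.ne_bot
    rw [eq_bot_iff_forall]
    intro x hx
    obtain ⟨k, hk⟩ := Subgroup.mem_zpowers_iff.mp (hβ ⟨x, hx⟩)
    have : β = 1 := Subtype.ext h0
    rw [this, one_zpow] at hk
    exact (congrArg Subtype.val hk).symm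
  have hpow : ∀ c : X, ∃ k : ℤ, c * β * c⁻¹ = (β : X) ^ k := by
    intro c
    obtain ⟨k, hk⟩ := Subgroup.mem_zpowers_iff.mp (hβ ⟨c * β * c⁻¹, hn.conj_mem _ β.2 c⟩)
    exact ⟨k, by simpa using (congrArg Subtype.val hk).symm⟩
  have hconjpow : ∀ (c : X) (k : ℤ), c * (β : X) ^ k * c⁻¹ = (c * β * c⁻¹) ^ k := by
    intro c k
    exact (conj_zpow (a := c) (b := (β : X)) (i := k)).symm
  have hcomm : ∀ c ∈ C, ∀ d ∈ C, c * d = d * c := by
    intro c hc d hd
    obtain ⟨i, hi⟩ := hpow c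
    obtain ⟨j, hj⟩ := hpow d
    by_contra hne
    have hne1 : (d * c)⁻¹ * (c * d) ≠ 1 := fun h0 => hne (inv_mul_eq_one.mp h0).symm
    have hmem : (d * c)⁻¹ * (c * d) ∈ C := C.mul_mem (C.inv_mem (C.mul_mem hd hc)) (C.mul_mem hc hd)
    have h1 : c * d * β * (c * d)⁻¹ = d * c * β * (d * c)⁻¹ := by
      have e1 : c * d * β * (c * d)⁻¹ = c * (d * β * d⁻¹) * c⁻¹ := by group
      have e2 : d * c * β * (d * c)⁻¹ = d * (c * β * c⁻¹) * d⁻¹ := by group
      rw [e1, e2, hi, hj, hconjpow, hconjpow, hi, hj, ← zpow_mul, ← zpow_mul, mul_comm]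
    apply hβ1
    apply h.fpf' hmem hne1 β.2
    show (d * c)⁻¹ * (c * d) * β = β * ((d * c)⁻¹ * (c * d))
    calc (d * c)⁻¹ * (c * d) * β = (d * c)⁻¹ * (c * d * β * (c * d)⁻¹) * (c * d) := by group
      _ = β * ((d * c)⁻¹ * (c * d)) := by rw [h1]; group
  have : IsMulCommutative C := ⟨⟨fun a b => Subtype.ext (hcomm a a.2 b b.2)⟩⟩
  exact Cfsg.Agent.Lib.Helper1FrobConj.isCyclic_of_abelian_of_le h.frob C le_rfl

end FD

section two

variable {G : Type*} [Group G] [Finite G] {H K : Subgroup G} [H.Normal] [K.Normal]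
  {C₁ : Subgroup K} {C₂ : Subgroup (G ⧸ H)}

/-- The complement of `K` over `H` is isomorphic to the image of `K` in `G ⧸ H`. -/
theorem exists_equiv (h₁ : FD (H.subgroupOf K) C₁) :
    Nonempty (C₁ ≃* K.map (QuotientGroup.mk' H)) := by
  let θ : C₁ →* K.map (QuotientGroup.mk' H) := ((QuotientGroup.mk' H).subgroupMap K).comp C₁.subtype
  have hθ : ∀ x : C₁, ((θ x : K.map (QuotientGroup.mk' H)) : G ⧸ H) = QuotientGroup.mk' H x.1.1 :=
    fun _ => rfl
  have hn := h₁.normal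
  refine ⟨MulEquiv.ofBijective θ ⟨?_, ?_⟩⟩
  · rw [injective_iff_map_eq_one]
    intro x hx
    have h1 : QuotientGroup.mk' H x.1.1 = 1 := by rw [← hθ, hx]; rfl
    have h2 : x.1.1 ∈ H := (QuotientGroup.eq_one_iff _).mp h1
    have h3 : x.1 ∈ H.subgroupOf K ⊓ C₁ := Subgroup.mem_inf.mpr ⟨h2, x.2⟩
    rw [h₁.compl.disjoint.eq_bot, mem_bot] at h3
    exact Subtype.ext h3
  · rintro ⟨β, k, hk, rfl⟩
    have h1 : (⟨k, hk⟩ : K) ∈ H.subgroupOf K ⊔ C₁ := by rw [h₁.compl.sup_eq_top]; trivial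
    obtain ⟨n, hn', c, hc, hnc⟩ := Subgroup.mem_sup_of_normal_left.mp h1
    refine ⟨⟨c, hc⟩, Subtype.ext ?_⟩
    rw [hθ]
    have h2 : k = n.1 * c.1 := congrArg Subtype.val hnc.symm
    show QuotientGroup.mk' H c.1 = QuotientGroup.mk' H k
    have h3 : QuotientGroup.mk' H n.1 = 1 := (QuotientGroup.eq_one_iff _).mpr hn'
    rw [h2, map_mul, h3, one_mul]

theorem odd_card (h₁ : FD (H.subgroupOf K) C₁) (h₂ : FD (K.map (QuotientGroup.mk' H)) C₂) :
    Odd (Nat.card C₁) := by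
  obtain ⟨e⟩ := exists_equiv h₁
  by_contra hodd
  rw [Nat.not_odd_iff_even, even_iff_two_dvd] at hodd
  obtain ⟨t, ht⟩ := exists_prime_orderOf_dvd_card' 2 hodd
  have hn := h₂.normal
  obtain ⟨d, hd, hd1⟩ := (Subgroup.ne_bot_iff_exists_ne_one.mp h₂.frob.1 : ∃ a : C₂, a ≠ 1) |>.elim
    (fun a ha => (⟨a.1, a.2, fun h0 => ha (Subtype.ext h0)⟩ : ∃ d, d ∈ C₂ ∧ d ≠ 1))
  let τ' : K.map (QuotientGroup.mk' H) := ⟨d * (e t).1 * d⁻¹, hn.conj_mem _ (e t).2 d⟩
  have h1 : orderOf τ' = 2 := by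
    rw [← Subgroup.orderOf_coe]
    have := (MulAut.conj d).orderOf_eq (e t).1
    rw [MulAut.conj_apply] at this
    rw [this, Subgroup.orderOf_coe, e.orderOf_eq, ht]
  have h2 : e.symm τ' = t := h₁.unique_involution _ _ (by rw [e.symm.orderOf_eq, h1]) ht
  have h3 : τ' = e t := by rw [← h2]; simp
  have h4 : d * (e t).1 * d⁻¹ = (e t).1 := congrArg Subtype.val h3
  have h5 : (e t).1 = 1 := by
    apply h₂.fpf' hd hd1 (e t).2
    show d * (e t).1 = (e t).1 * d
    calc d * (e t).1 = d * (e t).1 * d⁻¹ * d := by group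
      _ = (e t).1 * d := by rw [h4]
  have h6 : t = 1 := by
    have : e t = 1 := Subtype.ext h5
    simpa using this
  rw [h6, orderOf_one] at ht
  omega

theorem isCyclic_C₁ (h₁ : FD (H.subgroupOf K) C₁) (h₂ : FD (K.map (QuotientGroup.mk' H)) C₂) :
    IsCyclic C₁ := by
  obtain ⟨e⟩ := exists_equiv h₁
  have := h₂.nilpotent
  have : Group.IsNilpotent C₁ := Group.nilpotent_of_mulEquiv e.symm
  exact h₁.isCyclic_of_odd_nilpotent (odd_card h₁ h₂)

theorem isCyclic_C₂ (h₁ : FD (H.subgroupOf K) C₁) (h₂ : FD (K.map (QuotientGroup.mk' H)) C₂) :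
    IsCyclic C₂ := by
  obtain ⟨e⟩ := exists_equiv h₁
  have := isCyclic_C₁ h₁ h₂
  have : IsCyclic (K.map (QuotientGroup.mk' H)) := isCyclic_of_surjective e e.surjective
  exact h₂.isCyclic_of_kernel_cyclic

theorem card_C₁ (h₁ : FD (H.subgroupOf K) C₁) :
    Nat.card (↥K ⧸ H.subgroupOf K) = Nat.card C₁ := by
  rw [← h₁.index_eq, Subgroup.index_eq_card]

theorem card_C₂ (hle : H ≤ K) (h₂ : FD (K.map (QuotientGroup.mk' H)) C₂) :
    Nat.card (G ⧸ K) = Nat.card C₂ := by
  rw [← h₂.index_eq, Subgroup.index_map_eq _ (QuotientGroup.mk'_surjective H) (by simpa using hle),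
    Subgroup.index_eq_card]

theorem isCyclic_quot (hle : H ≤ K) (h₁ : FD (H.subgroupOf K) C₁)
    (h₂ : FD (K.map (QuotientGroup.mk' H)) C₂) : IsCyclic (G ⧸ K) := by
  have := isCyclic_C₂ h₁ h₂
  have hn := h₂.normal
  let φ : G ⧸ H →* G ⧸ K := QuotientGroup.map H K (MonoidHom.id G) (by simpa using hle)
  have hφ : ∀ g : G, φ (QuotientGroup.mk' H g) = QuotientGroup.mk' K g := fun _ => rfl
  apply isCyclic_of_surjective (φ.comp C₂.subtype)
  intro y
  obtain ⟨g, rfl⟩ := QuotientGroup.mk'_surjective K y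
  have h1 : QuotientGroup.mk' H g ∈ K.map (QuotientGroup.mk' H) ⊔ C₂ := by
    rw [h₂.compl.sup_eq_top]; trivial
  obtain ⟨n, ⟨k, hk, rfl⟩, c, hc, hnc⟩ := Subgroup.mem_sup_of_normal_left.mp h1
  refine ⟨⟨c, hc⟩, ?_⟩
  show φ c = _
  have h3 : QuotientGroup.mk' K k = 1 := (QuotientGroup.eq_one_iff _).mpr hk
  rw [← hφ, ← hnc, map_mul, hφ, h3, one_mul]

theorem isCyclic_quot₁ (h₁ : FD (H.subgroupOf K) C₁)
    (h₂ : FD (K.map (QuotientGroup.mk' H)) C₂) : IsCyclic (↥K ⧸ H.subgroupOf K) := by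
  have := isCyclic_C₁ h₁ h₂
  have hn := h₁.normal
  apply isCyclic_of_surjective ((QuotientGroup.mk' (H.subgroupOf K)).comp C₁.subtype)
  intro y
  obtain ⟨g, rfl⟩ := QuotientGroup.mk'_surjective _ y
  have h1 : g ∈ H.subgroupOf K ⊔ C₁ := by
    rw [h₁.compl.sup_eq_top]; trivial
  obtain ⟨n, hn', c, hc, hnc⟩ := Subgroup.mem_sup_of_normal_left.mp h1
  refine ⟨⟨c, hc⟩, ?_⟩
  show QuotientGroup.mk' (H.subgroupOf K) c = _
  have h3 : QuotientGroup.mk' (H.subgroupOf K) n = 1 := (QuotientGroup.eq_one_iff _).mpr hn'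
  rw [← hnc, map_mul, h3, one_mul]

theorem isSolvable (hle : H ≤ K) (h₁ : FD (H.subgroupOf K) C₁)
    (h₂ : FD (K.map (QuotientGroup.mk' H)) C₂) : Group.IsSolvable G := by
  have c1 := isCyclic_quot hle h₁ h₂
  have c2 := isCyclic_quot₁ h₁ h₂
  have n1 := h₁.nilpotent
  have s1 : Group.IsSolvable (G ⧸ K) := Group.isSolvable_of_comm (IsCyclic.commGroup.mul_comm)
  have s2 : Group.IsSolvable (↥K ⧸ H.subgroupOf K) :=
    Group.isSolvable_of_comm (IsCyclic.commGroup.mul_comm)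
  have s3 : Group.IsSolvable K :=
    (Group.isSolvable_iff_subgroup_quotient (H.subgroupOf K)).mpr ⟨inferInstance, s2⟩
  exact (Group.isSolvable_iff_subgroup_quotient K).mpr ⟨s3, s1⟩

theorem coprime_card (hle : H ≤ K) (h₁ : FD (H.subgroupOf K) C₁)
    (h₂ : FD (K.map (QuotientGroup.mk' H)) C₂) :
    Nat.Coprime (Nat.card C₁) (Nat.card H * Nat.card C₂) := by
  obtain ⟨e⟩ := exists_equiv h₁
  apply Nat.Coprime.mul_right
  · have := h₁.coprime
    rw [Cfsg.Agent.Lib.Helper1Basic.card_subgroupOf_of_le hle] at this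
    exact this.symm
  · have := h₂.coprime
    rwa [← Nat.card_congr e.toEquiv] at this

theorem F1 (hle : H ≤ K) (h₁ : FD (H.subgroupOf K) C₁) {x n : G} (hxK : x ∈ K) (hxH : x ∉ H)
    (hn : n ∈ H) (hc : Commute x n) : n = 1 := by
  have := h₁.cent (x := ⟨x, hxK⟩) (n := ⟨n, hle hn⟩) hxH hn (Subtype.ext hc.eq)
  exact congrArg Subtype.val this

theorem F2 (h₁ : FD (H.subgroupOf K) C₁) {x y : G} (hxK : x ∈ K) (hxH : x ∉ H)
    (hy : y ∈ K) (hc : Commute x y) : orderOf y ∣ Nat.card C₁ := by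
  have := h₁.orderOf_dvd (x := ⟨x, hxK⟩) (y := ⟨y, hy⟩) hxH (Subtype.ext hc.eq)
  rwa [Subgroup.orderOf_mk] at this

theorem F3 (hle : H ≤ K) (h₂ : FD (K.map (QuotientGroup.mk' H)) C₂) {x y : G} (hx : x ∉ K)
    (hy : y ∈ K) (hc : Commute x y) : y ∈ H := by
  have h1 : QuotientGroup.mk' H x ∉ K.map (QuotientGroup.mk' H) := by
    rintro ⟨k, hk, hkx⟩
    apply hx
    have h2 : k⁻¹ * x ∈ H := QuotientGroup.eq.mp hkx
    have : x = k * (k⁻¹ * x) := by group
    rw [this]
    exact K.mul_mem hk (hle h2)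
  have := h₂.cent h1 (Subgroup.mem_map_of_mem _ hy) (hc.map (QuotientGroup.mk' H))
  exact (QuotientGroup.eq_one_iff _).mp this

end two

section orders

theorem exists_orderOf_of_cyclic {X : Type*} [Group X] [Finite X] [IsCyclic X] {m : ℕ}
    (hm : m ∣ Nat.card X) : ∃ x : X, orderOf x = m := by
  obtain ⟨γ, hγ⟩ := IsCyclic.exists_ofOrder_eq_natCard (α := X)
  refine ⟨γ ^ (orderOf γ / m), orderOf_pow_orderOf_div (orderOf_pos γ).ne' (hγ ▸ hm)⟩

theorem exists_orderOf_of_surjective {X Y : Type*} [Group X] [Finite X] [Group Y] (f : X →* Y)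
    (hf : Function.Surjective f) (y : Y) : ∃ x : X, orderOf x = orderOf y := by
  obtain ⟨x, rfl⟩ := hf y
  exact ⟨x ^ (orderOf x / orderOf (f x)),
    orderOf_pow_orderOf_div (orderOf_pos x).ne' (orderOf_map_dvd f x)⟩

theorem exists_orderOf_of_nilpotent {X : Type*} [Group X] [Finite X] [Group.IsNilpotent X]
    {p q : ℕ} (hp : p.Prime) (hq : q.Prime) (hpq : p ≠ q) (hpX : p ∣ Nat.card X)
    (hqX : q ∣ Nat.card X) : ∃ x : X, orderOf x = p * q := by
  have : Fact p.Prime := ⟨hp⟩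
  have : Fact q.Prime := ⟨hq⟩
  let P : Sylow p X := default
  let Q : Sylow q X := default
  obtain ⟨x, hx⟩ := exists_prime_orderOf_dvd_card' p (P.dvd_card_of_dvd_card hpX)
  obtain ⟨y, hy⟩ := exists_prime_orderOf_dvd_card' q (Q.dvd_card_of_dvd_card hqX)
  have hcop : Nat.Coprime p q := (Nat.coprime_primes hp hq).mpr hpq
  have hdisj : Disjoint (P : Subgroup X) (Q : Subgroup X) :=
    IsPGroup.disjoint_of_ne p q hpq _ _ P.isPGroup' Q.isPGroup'
  have hc : Commute (x : X) (y : X) :=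
    Subgroup.commute_of_normal_of_disjoint _ _ inferInstance inferInstance hdisj _ _ x.2 y.2
  refine ⟨x * y, ?_⟩
  rw [hc.orderOf_mul_eq_mul_orderOf_of_coprime (by rw [Subgroup.orderOf_coe, Subgroup.orderOf_coe, hx, hy]; exact hcop),
    Subgroup.orderOf_coe, Subgroup.orderOf_coe, hx, hy]

end orders

section mixed

variable {G : Type*} [Group G] [Finite G] {H K : Subgroup G} [H.Normal] [K.Normal]
  {C₁ : Subgroup K} {C₂ : Subgroup (G ⧸ H)}

/-- A nontrivial abelian normal `p`-subgroup of `G` inside the nilpotent normal subgroup `H`. -/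
theorem exists_abelian_normal_pgroup [Group.IsNilpotent H] {p : ℕ} [Fact p.Prime]
    (hpH : p ∣ Nat.card H) :
    ∃ V : Subgroup G, V.Normal ∧ IsMulCommutative V ∧ V ≠ ⊥ ∧ V ≤ H ∧ IsPGroup p V := by
  let P : Sylow p H := default
  have hPc : (P : Subgroup H).Characteristic := P.characteristic_of_normal inferInstance
  let PG : Subgroup G := (P : Subgroup H).map H.subtype
  have hPGn : PG.Normal := ConjAct.normal_of_characteristic_of_normal
  have hPGp : IsPGroup p PG := P.isPGroup'.map _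
  have hPGle : PG ≤ H := Subgroup.map_subtype_le _
  have hPGnt : Nontrivial PG := by
    obtain ⟨x, hx⟩ := exists_prime_orderOf_dvd_card' p (P.dvd_card_of_dvd_card hpH)
    refine ⟨⟨⟨x.1.1, Subgroup.mem_map_of_mem _ x.2⟩, 1, ?_⟩⟩
    intro h0
    have h1 : x.1.1 = 1 := congrArg Subtype.val h0
    have h2 : x = 1 := Subtype.ext (Subtype.ext h1)
    rw [h2, orderOf_one] at hx
    exact (Fact.out : p.Prime).one_lt.ne hx
  have hZnt : Nontrivial (center PG) := hPGp.center_nontrivial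
  refine ⟨(center PG).map PG.subtype, ConjAct.normal_of_characteristic_of_normal, ?_, ?_, ?_, ?_⟩
  · infer_instance
  · intro h0
    obtain ⟨z, hz⟩ := exists_ne (1 : center PG)
    apply hz
    have h1 : z.1.1 ∈ (center PG).map PG.subtype := Subgroup.mem_map_of_mem _ z.2
    rw [h0, mem_bot] at h1
    exact Subtype.ext (Subtype.ext h1)
  · exact (Subgroup.map_subtype_le _).trans hPGle
  · exact (hPGp.to_subgroup _).map _

theorem exists_orderOf_mixed (hle : H ≤ K) (h₁ : FD (H.subgroupOf K) C₁)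
    (h₂ : FD (K.map (QuotientGroup.mk' H)) C₂) {p q : ℕ} (hp : p.Prime) (hq : q.Prime)
    (hpH : p ∣ Nat.card H) (hqK : ¬ q ∣ Nat.card K) (hqG : q ∣ Nat.card (G ⧸ K)) :
    ∃ g : G, orderOf g = p * q := by
  have : Fact p.Prime := ⟨hp⟩
  have : Fact q.Prime := ⟨hq⟩
  have hpq : p ≠ q := by
    rintro rfl
    exact hqK (hpH.trans (Subgroup.card_dvd_of_le hle))
  have hC1 : Nat.card C₁ ≠ 1 := fun h0 => h₁.frob.1 (Subgroup.card_eq_one.mp h0)
  obtain ⟨r, hr, hrC⟩ := Nat.exists_prime_and_dvd hC1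
  have : Fact r.Prime := ⟨hr⟩
  have hra : Nat.Coprime r (Nat.card H) :=
    Nat.Coprime.coprime_dvd_left hrC (coprime_card hle h₁ h₂).coprime_mul_right_right
  have hrK : r ∣ Nat.card K := hrC.trans (Subgroup.card_subgroup_dvd_card _)
  let R : Sylow r K := default
  let Rs : Subgroup G := (R : Subgroup K).map K.subtype
  have hRsK : Rs ≤ K := Subgroup.map_subtype_le _
  have hfrat : normalizer (Rs : Set G) ⊔ K = ⊤ := Sylow.normalizer_sup_eq_top R
  have hRp : IsPGroup r Rs := R.isPGroup'.map _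
  obtain ⟨k, hk⟩ := IsPGroup.iff_card.mp hRp
  obtain ⟨s0, hs0R, hs01⟩ : ∃ s : G, s ∈ Rs ∧ s ≠ 1 := by
    obtain ⟨x, hx⟩ := exists_prime_orderOf_dvd_card' r (R.dvd_card_of_dvd_card hrK)
    refine ⟨x.1.1, Subgroup.mem_map_of_mem _ x.2, ?_⟩
    intro h1
    have h2 : x = 1 := Subtype.ext (Subtype.ext h1)
    rw [h2, orderOf_one] at hx
    exact hr.one_lt.ne hx
  have hRH : ∀ s ∈ Rs, s ∈ H → s = 1 := by
    intro s hs hsH
    have hd : Disjoint Rs H := Subgroup.disjoint_of_coprime_natCard (by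
      rw [hk]; exact Nat.Coprime.pow_left k hra)
    exact Subgroup.disjoint_def.mp hd hs hsH
  have hqN : q ∣ Nat.card (normalizer (Rs : Set G)) := by
    have h1 : K.relIndex (normalizer (Rs : Set G)) = K.index := by
      rw [← Subgroup.relIndex_sup_right, hfrat, Subgroup.relIndex_top_right]
    have h2 := Subgroup.relIndex_dvd_card K (normalizer (Rs : Set G))
    rw [h1, Subgroup.index_eq_card] at h2
    exact hqG.trans h2
  obtain ⟨c0, hc0⟩ := exists_prime_orderOf_dvd_card' q hqN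
  obtain ⟨c, hcN, hco⟩ : ∃ c : G, c ∈ normalizer (Rs : Set G) ∧ orderOf c = q :=
    ⟨c0.1, c0.2, by rw [Subgroup.orderOf_coe]; exact hc0⟩
  have hZK : ∀ z ∈ zpowers c, z ∈ K → z = 1 := by
    intro z hz hzK
    have hd : Disjoint (zpowers c) K := Subgroup.disjoint_of_coprime_natCard (by
      rw [Nat.card_zpowers, hco]; exact (Nat.Prime.coprime_iff_not_dvd hq).mpr hqK)
    exact Subgroup.disjoint_def.mp hd hz hzK
  have hc1 : c ≠ 1 := by
    rintro rfl
    rw [orderOf_one] at hco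
    exact hq.one_lt.ne hco
  let F : Subgroup G := Rs ⊔ zpowers c
  have hFN : F ≤ normalizer (Rs : Set G) := sup_le le_normalizer (zpowers_le.mpr hcN)
  have hRF : Rs ≤ F := le_sup_left
  have hcF : zpowers c ≤ F := le_sup_right
  let NF : Subgroup F := Rs.subgroupOf F
  let HF : Subgroup F := (zpowers c).subgroupOf F
  have hNFn : NF.Normal := (normal_subgroupOf_iff_le_normalizer hRF).mpr hFN
  obtain ⟨hfrob, hker⟩ := Cfsg.Agent.Lib.Helper72Frob.frobenius_of_fixedPointFree NF HF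
    (by
      intro h0
      have h1 : (⟨s0, hRF hs0R⟩ : F) ∈ NF := hs0R
      rw [h0, mem_bot] at h1
      exact hs01 (congrArg Subtype.val h1))
    (by
      intro h0
      have h1 : (⟨c, hcF (mem_zpowers c)⟩ : F) ∈ HF := mem_zpowers c
      rw [h0, mem_bot] at h1
      exact hc1 (congrArg Subtype.val h1))
    (by
      intro g
      have h1 : g ∈ NF ⊔ HF := by
        rw [← Subgroup.subgroupOf_sup hRF hcF, Subgroup.subgroupOf_self]; trivial
      obtain ⟨n, hn, h, hh, hnh⟩ := Subgroup.mem_sup_of_normal_left.mp h1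
      exact ⟨n, hn, h, hh, hnh⟩)
    (by
      intro z hzN hzH
      exact Subtype.ext (hZK z.1 hzH (hRsK hzN)))
    (by
      intro h hh hh1 s hs hsh
      apply Subtype.ext
      apply hRH s.1 hs
      have hhK : h.1 ∉ K := fun h0 => hh1 (Subtype.ext (hZK h.1 hh h0))
      apply F3 hle h₂ hhK (hRsK hs)
      have h2 : s.1 * h.1 * s.1⁻¹ = h.1 := congrArg Subtype.val hsh
      show h.1 * s.1 = s.1 * h.1
      calc h.1 * s.1 = s.1 * h.1 * s.1⁻¹ * s.1 := by rw [h2]
        _ = s.1 * h.1 := by group)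
  have hnil : Group.IsNilpotent H := by
    have := h₁.nilpotent
    exact Group.nilpotent_of_mulEquiv (subgroupOfEquivOfLe hle)
  obtain ⟨V, hVn, hVab, hV1, hVH, hVp⟩ := exists_abelian_normal_pgroup (H := H) hpH
  have hres := Cfsg.Agent.S0666.result V F hVab hV1 (by rw [normalizer_eq_top]; exact le_top) HF hfrob
    (by
      rw [hker]
      have h1 : Nat.card (NF : Set F) = Nat.card Rs :=
        Cfsg.Agent.Lib.Helper1Basic.card_subgroupOf_of_le hRF
      rw [h1, hk]
      apply Nat.Coprime.pow_right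
      exact (Nat.Coprime.coprime_dvd_right (Subgroup.card_dvd_of_le hVH) hra).symm)
    (by
      rw [hker, eq_bot_iff_forall]
      intro v hv
      obtain ⟨hvV, hvC⟩ := Subgroup.mem_inf.mp hv
      have h1 : s0 * v = v * s0 := by
        apply Subgroup.mem_centralizer_iff.mp hvC
        exact ⟨⟨s0, hRF hs0R⟩, hs0R, rfl⟩
      exact F1 hle h₁ (hRsK hs0R) (fun h0 => hs01 (hRH s0 hs0R h0)) (hVH hvV) h1)
  set W : Subgroup G := V ⊓ centralizer ((HF.map F.subtype : Subgroup G) : Set G) with hW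
  have hWp : IsPGroup p W := hVp.to_le inf_le_left
  have hpW : p ∣ Nat.card W := by
    rcases hWp.card_eq_or_dvd with h0 | h0
    · exact absurd (Subgroup.card_eq_one.mp h0) hres
    · exact h0
  obtain ⟨v, hv⟩ := exists_prime_orderOf_dvd_card' p hpW
  have hvc : Commute (v : G) c := by
    have h1 := (Subgroup.mem_inf.mp v.2).2
    have h2 : c * v = v * c := by
      apply Subgroup.mem_centralizer_iff.mp h1
      exact ⟨⟨c, hcF (mem_zpowers c)⟩, mem_zpowers c, rfl⟩
    exact h2.symm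
  have hvo : orderOf (v : G) = p := by rw [Subgroup.orderOf_coe]; exact hv
  refine ⟨v * c, ?_⟩
  rw [hvc.orderOf_mul_eq_mul_orderOf_of_coprime (by
    rw [hvo, hco]; exact (Nat.coprime_primes hp hq).mpr hpq), hvo, hco]

end mixed

end Cfsg.Agent.Lib.Helper71TwoFrob
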