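import Mathlib

/-!
# Zassenhaus project: vocabulary

Perfect fixed-point-free groups are `SL(2,5)`.
-/

set_option autoImplicit false

namespace Cfsg.Agent.Lib.Helper71ZaDefs

/-- the coefficient field -/
abbrev KK (p : ℕ) [Fact p.Prime] := AlgebraicClosure (ZMod p)

/-- fixed-point-free representation -/
def Fpf {E H V : Type*} [Field E] [Group H] [AddCommGroup V] [Module E V]
    (ρ : Representation E H V) : Prop :=
  ∀ h : H, h ≠ 1 → ∀ v : V, ρ h v = v → v = 0

/-- the shapes of the fixed-point-free subgroups of `SL₂` -/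
def Bin (D : Type*) [Group D] : Prop :=
  (∃ A : Subgroup D, (A.index = 1 ∨ A.index = 2) ∧ ∀ a ∈ A, ∀ b ∈ A, a * b = b * a) ∨
  (∃ f : D →* alternatingGroup (Fin 4), Function.Surjective f ∧ Nat.card f.ker = 2) ∨
  (∃ f : D →* Equiv.Perm (Fin 4), Function.Surjective f ∧ Nat.card f.ker = 2) ∨
  (∃ f : D →* alternatingGroup (Fin 5), Function.Surjective f ∧ Nat.card f.ker = 2)

/-- `H` has a fixed-point-free representation in positive characteristic -/
def FC (H : Type*) [Group H] : Prop :=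
  ∃ (p : ℕ) (_ : Fact p.Prime) (d : ℕ) (ρ : Representation (KK p) H (Fin d → KK p)),
    0 < d ∧ Fpf ρ

/-- elements `i` of order `4` with `i x` of order `6` -/
def Iset {H : Type*} [Group H] (x : H) : Set H := {i | orderOf i = 4 ∧ orderOf (i * x) = 6}

/-- the group-theoretic output of the linear analysis -/
structure ZG (H : Type*) [Group H] : Prop where
  invol : ∀ a b : H, orderOf a = 2 → orderOf b = 2 → a = b
  cyc : ∀ A : Subgroup H, (∀ a ∈ A, ∀ b ∈ A, a * b = b * a) → IsCyclic A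
  two : ∀ a b : H, (orderOf a = 3 ∨ orderOf a = 4 ∨ orderOf a = 6) →
    (orderOf b = 3 ∨ orderOf b = 4 ∨ orderOf b = 6) → Bin (Subgroup.closure {a, b})
  three : ∀ x i₁ i₂ : H, orderOf x = 3 → i₁ ∈ Iset x → i₂ ∈ Iset x →
    Bin (Subgroup.closure {i₁, i₂, x})
  four : ∀ x i₁ i₂ i₃ : H, orderOf x = 3 → i₁ ∈ Iset x → i₂ ∈ Iset x → i₃ ∈ Iset x →
    i₂ ∉ Subgroup.closure {i₁, x} → i₃ ∈ Subgroup.closure {i₁, i₂, x}

end Cfsg.Agent.Lib.Helper71ZaDefs
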