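import Mathlib
import Cfsg.Prelude.Def_Solvable
import Cfsg.Agent.Lib.Helper71ZaDefs
import Cfsg.Agent.Lib.Helper36ZaLIN1
import Cfsg.Agent.Lib.Helper71TwoFrob
import Cfsg.Agent.Lib.Helper1FpfSylow

/-!
# Zassenhaus project, piece LIN2: Frobenius complements have a fixed-point-free representation
-/

set_option autoImplicit false

namespace Cfsg.Agent.Lib.Helper36ZaLIN2

open Cfsg.Agent.Lib.Helper71ZaDefs Subgroup

/-- internal form: `H` normalises the nontrivial abelian subgroup `V` and acts on it without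
fixed points -/
theorem fc_of_internal {L : Type*} [Group L] [Finite L] (H V : Subgroup L) (hV : V ≠ ⊥)
    (hc : ∀ a ∈ V, ∀ b ∈ V, a * b = b * a) (hHV : H ≤ normalizer (V : Set L))
    (hfpf : ∀ h ∈ H, h ≠ 1 → V ⊓ centralizer {h} = ⊥) : FC H := by
  have hV1 : Nat.card V ≠ 1 := fun h => hV ((Subgroup.card_eq_one).mp h)
  obtain ⟨p, hp, hpV⟩ := Nat.exists_prime_and_dvd hV1
  have : Fact p.Prime := ⟨hp⟩
  let A : Subgroup L :=
    { carrier := {v | v ∈ V ∧ v ^ p = 1}
      one_mem' := ⟨V.one_mem, one_pow _⟩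
      mul_mem' := by
        rintro a b ⟨ha, ha2⟩ ⟨hb, hb2⟩
        refine ⟨V.mul_mem ha hb, ?_⟩
        rw [(show Commute a b from hc a ha b hb).mul_pow, ha2, hb2, one_mul]
      inv_mem' := by
        rintro a ⟨ha, ha2⟩
        exact ⟨V.inv_mem ha, by rw [inv_pow, ha2, inv_one]⟩ }
  have hAmem : ∀ v, v ∈ A ↔ v ∈ V ∧ v ^ p = 1 := fun v => Iff.rfl
  have hHA : H ≤ normalizer (A : Set L) := by
    intro h hh
    have h1 := hHV hh
    rw [mem_normalizer_iff] at h1 ⊢
    intro v
    rw [hAmem, hAmem, ← h1 v, conj_pow]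
    constructor
    · rintro ⟨h2, h3⟩
      exact ⟨h2, by rw [h3]; group⟩
    · rintro ⟨h2, h3⟩
      refine ⟨h2, ?_⟩
      calc v ^ p = h⁻¹ * (h * v ^ p * h⁻¹) * h := by group
        _ = 1 := by rw [h3]; group
  let _ : CommGroup A :=
    { (inferInstance : Group A) with
      mul_comm := fun a b => Subtype.ext (hc a a.2.1 b b.2.1) }
  let ψ : H →* MulAut A := A.normalizerMonoidHom.comp (Subgroup.inclusion hHA)
  have hψ : ∀ (h : H) (v : A), ((ψ h v : A) : L) = h * v * (h : L)⁻¹ := fun h v => rfl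
  have hne : Nontrivial A := by
    obtain ⟨v, hv⟩ := exists_prime_orderOf_dvd_card' (G := V) p hpV
    refine ⟨⟨⟨v, v.2, ?_⟩, 1, ?_⟩⟩
    · have := pow_orderOf_eq_one v
      rw [hv] at this
      simpa using congrArg Subtype.val this
    · intro h1
      have h2 : (v : L) = 1 := congrArg Subtype.val h1
      have h3 : v = 1 := Subtype.ext h2
      rw [h3, orderOf_one] at hv
      exact hp.one_lt.ne hv
  refine Cfsg.Agent.Lib.Helper36ZaLIN1.fc_of_action p (fun a => Subtype.ext a.2.2) hne ψ ?_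
  intro h hh a ha
  have h1 : (h : L) ≠ 1 := fun h0 => hh (Subtype.ext h0)
  have h2 : (a : L) ∈ V ⊓ centralizer {(h : L)} := by
    refine Subgroup.mem_inf.mpr ⟨a.2.1, mem_centralizer_singleton_iff.mpr ?_⟩
    have h3 := congrArg Subtype.val ha
    rw [hψ] at h3
    calc (a : L) * h = ((h : L) * a * (h : L)⁻¹) * h := by rw [h3]
      _ = h * a := by group
  rw [hfpf h h.2 h1, mem_bot] at h2
  exact Subtype.ext h2

theorem fc_of_frobenius_complement {L : Type*} [Group L] [Finite L] (H : Subgroup L)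
    (hH : Cfsg.IsFrobeniusComplement H) : FC H := by
  obtain ⟨N, h1, -, -⟩ := Cfsg.Agent.S0035.result H hH
  have hFD : Cfsg.Agent.Lib.Helper71TwoFrob.FD N H := ⟨hH, h1.symm⟩
  have hnil := hFD.nilpotent
  have hnor := hFD.normal
  have hHN : H ≤ normalizer (N : Set L) := by
    rw [normalizer_eq_top]; exact le_top
  obtain ⟨V, hVN, hV, hVc, hHV⟩ :=
    Cfsg.Agent.Lib.Helper1FpfSylow.exists_invariant_abelian H N hHN hFD.ne_bot
      hFD.coprime.symm (Or.inr inferInstance)
  refine fc_of_internal H V hV ?_ hHV ?_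
  · intro a ha b hb
    have := mul_comm' (⟨a, ha⟩ : V) ⟨b, hb⟩
    exact congrArg Subtype.val this
  · intro h hh hh1
    rw [eq_bot_iff, ← hFD.fpf h hh hh1]
    exact inf_le_inf_right _ hVN

end Cfsg.Agent.Lib.Helper36ZaLIN2
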