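import Cfsg.Agent.Lib.H11FpFromFpf
import Cfsg.Agent.Lib.H11FpChar
import Cfsg.Agent.Lib.H11FpDesc
import Cfsg.Agent.Lib.H11FpMaschke
import Cfsg.Agent.Lib.H11FpLift
import Cfsg.Agent.Lib.H11FpVanish
import Cfsg.Agent.Lib.H11FpCertK
import Cfsg.Agent.Lib.H11FpAltA
import Cfsg.Agent.Lib.H11FpAltB
import Cfsg.Agent.Lib.H11FpToL
import Cfsg.Agent.Lib.Helper36ZaLIN2

/-!
# Project 3357: assembly

A Frobenius complement has certificates over `ℚ` and over every prime field.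
-/

set_option autoImplicit false

namespace Cfsg.Agent.Lib.H11FpMain

open Cfsg.Agent.Lib.H11FpDefs Cfsg.Agent.Lib.Helper71ZaDefs

variable {G : Type*} [Group G] [Finite G]

/-- a Frobenius complement has a certificate in a characteristic prime to its order -/
theorem cert_of_frob
    (hFC : ∃ (L : Type) (_ : Group L) (_ : Finite L) (H : Subgroup L),
      Cfsg.IsFrobeniusComplement H ∧ Nonempty (G ≃* H)) :
    ∃ (p : ℕ) (_ : Fact p.Prime), ¬ p ∣ Nat.card G ∧ Cert (ZMod p) G := by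
  obtain ⟨L, _, _, H, hH, ⟨e⟩⟩ := hFC
  have hfcH := Cfsg.Agent.Lib.Helper36ZaLIN2.fc_of_frobenius_complement H hH
  have hfcG : FC G := Cfsg.Agent.Lib.Helper36ZaLIN1.fc_of_injective hfcH e.toMonoidHom e.injective
  obtain ⟨p, hp, d, ρ, hd, hρ⟩ := hfcG
  refine ⟨p, hp, Cfsg.Agent.Lib.H11FpChar.not_dvd_card p ρ hd hρ, ?_⟩
  obtain ⟨φ, hφ⟩ := Cfsg.Agent.Lib.H11FpDesc.exists_functional (ZMod p) (KK p)
  exact (Cfsg.Agent.Lib.H11FpFromFpf.cert_of_fpf ρ hd hρ).map φ.toAddMonoidHom hφ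

/-- lifting a certificate to `ℤ/p^(k+1)` -/
theorem cert_pow (p : ℕ) [Fact p.Prime] (hp : ¬ p ∣ Nat.card G) (h : Cert (ZMod p) G) (k : ℕ) :
    Cert (ZMod (p ^ (k + 1))) G := by
  have : NeZero (Nat.card G : ZMod p) := ⟨fun h0 => hp ((ZMod.natCast_eq_zero_iff _ _).1 h0)⟩
  obtain ⟨f, hf, hf0, hN⟩ := Cfsg.Agent.Lib.H11FpMaschke.exists_idem h
  obtain ⟨f', hf', rfl⟩ := Cfsg.Agent.Lib.H11FpLift.exists_lift p k f hf
  exact Cfsg.Agent.Lib.H11FpCertK.cert_of_idem p k f' hf0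
    (Cfsg.Agent.Lib.H11FpVanish.vanish p k hp f' hf' hN)

/-- from characteristic `p` to characteristic `0` -/
theorem cert_rat (p : ℕ) [Fact p.Prime] (hp : ¬ p ∣ Nat.card G) (h : Cert (ZMod p) G) :
    Cert ℚ G := by
  by_contra hQ
  obtain ⟨s, c, hs, hc⟩ := Cfsg.Agent.Lib.H11FpAltA.alt hQ
  obtain ⟨m, hm, hall⟩ := Cfsg.Agent.Lib.H11FpAltB.clear s c hs hc
  obtain ⟨μ, hμ1, hμ⟩ := cert_pow p hp h m
  have h0 := hall (ZMod (p ^ (m + 1))) μ hμ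
  rw [hμ1, mul_one, ZMod.natCast_eq_zero_iff] at h0
  have h1 := Nat.le_of_dvd hm h0
  have h2 : m + 1 < p ^ (m + 1) := Nat.lt_pow_self (Fact.out : p.Prime).one_lt
  omega

/-- **Main theorem of the project.** -/
theorem cert_all
    (hFC : ∃ (L : Type) (_ : Group L) (_ : Finite L) (H : Subgroup L),
      Cfsg.IsFrobeniusComplement H ∧ Nonempty (G ≃* H)) :
    Cert ℚ G ∧ ∀ (l : ℕ) [Fact l.Prime], Cert (ZMod l) G := by
  obtain ⟨p, hp, hpG, h⟩ := cert_of_frob hFC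
  have hQ := cert_rat p hpG h
  exact ⟨hQ, fun l _ => Cfsg.Agent.Lib.H11FpToL.cert_zmod hQ l⟩

end Cfsg.Agent.Lib.H11FpMain
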