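import Mathlib
import Cfsg.Prelude.Def_RootSubgroups

/-! Vocabulary of project 12, wave 2 (rows S5043, S5058: transvection groups of `SL_N(k)`).
Vectors and covectors are both functions `Fin N → k`; the pairing is `φ ⬝ᵥ x`.
`tvS p φ c` is the transvection `x ↦ x + c φ(x) p` (meaningful when `φ ⬝ᵥ p = 0`). -/

set_option autoImplicit false

namespace Cfsg.Agent.Lib.H12RSLDefs

open Matrix Cfsg

variable {k : Type*} [Field k] {N : ℕ}

theorem det_tv (p φ : Fin N → k) (h : φ ⬝ᵥ p = 0) (c : k) : (1 + c • vecMulVec p φ).det = 1 := by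
  have h1 : c • vecMulVec p φ = replicateCol Unit (c • p) * replicateRow Unit φ := by
    rw [← vecMulVec_eq Unit, smul_vecMulVec]
  rw [h1, det_one_add_replicateCol_mul_replicateRow, dotProduct_smul, h]
  simp

/-- the transvection `1 + c p φᵀ` as an element of `SL_N(k)` (junk value `1` unless `φ(p) = 0`) -/
noncomputable def tvS (p φ : Fin N → k) (c : k) : Matrix.SpecialLinearGroup (Fin N) k :=
  @dite (Matrix.SpecialLinearGroup (Fin N) k) (φ ⬝ᵥ p = 0) (Classical.propDecidable _)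
    (fun h => (⟨1 + c • vecMulVec p φ, det_tv p φ h c⟩ : Matrix.SpecialLinearGroup (Fin N) k))
    (fun _ => 1)

theorem tvS_coe {p φ : Fin N → k} (h : φ ⬝ᵥ p = 0) (c : k) :
    (tvS p φ c : Matrix (Fin N) (Fin N) k) = 1 + c • vecMulVec p φ := by
  have h1 : tvS p φ c
      = (⟨1 + c • vecMulVec p φ, det_tv p φ h c⟩ : Matrix.SpecialLinearGroup (Fin N) k) :=
    dif_pos h
  rw [h1]

theorem tvS_mulVec {p φ : Fin N → k} (h : φ ⬝ᵥ p = 0) (c : k) (x : Fin N → k) :
    (tvS p φ c : Matrix (Fin N) (Fin N) k) *ᵥ x = x + (c * (φ ⬝ᵥ x)) • p := by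
  rw [tvS_coe h, add_mulVec, one_mulVec, smul_mulVec, vecMulVec_mulVec]
  congr 1
  funext i
  simp only [Pi.smul_apply, smul_eq_mul, MulOpposite.smul_eq_mul_unop, MulOpposite.unop_op]
  ring

theorem tvS_vecMul {p φ : Fin N → k} (h : φ ⬝ᵥ p = 0) (c : k) (χ : Fin N → k) :
    χ ᵥ* (tvS p φ c : Matrix (Fin N) (Fin N) k) = χ + (c * (χ ⬝ᵥ p)) • φ := by
  rw [tvS_coe h, vecMul_add, vecMul_one, vecMul_smul, vecMul_vecMulVec]
  congr 1
  funext i
  simp only [Pi.smul_apply, smul_eq_mul]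
  ring

/-- the transvection group with centre `⟨p⟩` and axis `ker φ` -/
def TSL (p φ : Fin N → k) : Subgroup (Matrix.SpecialLinearGroup (Fin N) k) :=
  Subgroup.closure {g | ∃ c : k, (g : Matrix (Fin N) (Fin N) k) = 1 + c • vecMulVec p φ}

/-- an incident (vector, covector) pair -/
def Inc (p φ : Fin N → k) : Prop := p ≠ 0 ∧ φ ≠ 0 ∧ φ ⬝ᵥ p = 0

/-- the root subgroup of the elementary transvections `1 + c E₀₁`, verbatim as in S5043 -/
def E01 (k : Type*) [Field k] (n : ℕ) : Subgroup (Matrix.SpecialLinearGroup (Fin (n + 3)) k) :=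
  Subgroup.closure {t : Matrix.SpecialLinearGroup (Fin (n + 3)) k |
    ∃ c : k, (t : Matrix (Fin (n + 3)) (Fin (n + 3)) k) = Matrix.transvection 0 1 c}

/-- the class of S5043, verbatim -/
def SigSL (k : Type*) [Field k] (n : ℕ) : Set (Subgroup (Matrix.SpecialLinearGroup (Fin (n + 3)) k)) :=
  {A | ∃ g : Matrix.SpecialLinearGroup (Fin (n + 3)) k, A = Cfsg.conjBy (E01 k n) g}

/-- the class of transvections of S5058, verbatim -/
def DSL (F : Type*) [Field F] (n : ℕ) : Set (Matrix.SpecialLinearGroup (Fin (n + 3)) F) :=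
  {t | ∃ c : F, c ≠ 0 ∧ ∃ g : Matrix.SpecialLinearGroup (Fin (n + 3)) F,
    ((g⁻¹ * t * g : Matrix.SpecialLinearGroup (Fin (n + 3)) F) :
      Matrix (Fin (n + 3)) (Fin (n + 3)) F) = Matrix.transvection 0 1 c}

end Cfsg.Agent.Lib.H12RSLDefs
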