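import Mathlib
import Cfsg.Prelude.Def_RootSubgroups
import Cfsg.Agent.Lib.Helper17Symp2

/-! Vocabulary of project 12 (abstract root subgroups in classical groups: rows S5070, S5043, S5058).
`U2 b`, `L2 c` : the elementary unitriangular matrices of `SL₂(k)`;
`TSp p`, `SigSp` : the symplectic transvection group of a vector `p` and the set of all of them,
written exactly as in the row S5070. -/

set_option autoImplicit false

namespace Cfsg.Agent.Lib.H12RootDefs

open Matrix Cfsg

/-- the upper unitriangular matrix `[[1, b], [0, 1]]` -/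
def U2 {k : Type*} [Field k] (b : k) : Matrix.SpecialLinearGroup (Fin 2) k :=
  ⟨!![1, b; 0, 1], by simp [Matrix.det_fin_two]⟩

/-- the lower unitriangular matrix `[[1, 0], [c, 1]]` -/
def L2 {k : Type*} [Field k] (c : k) : Matrix.SpecialLinearGroup (Fin 2) k :=
  ⟨!![1, 0; c, 1], by simp [Matrix.det_fin_two]⟩

variable {F : Type*} [Field F] {m : ℕ}

/-- the group `T(p)` of symplectic transvections, verbatim as in S5070 -/
def TSp (p : Fin (m + 1) ⊕ Fin (m + 1) → F) : Subgroup ↥(Matrix.symplecticGroup (Fin (m + 1)) F) :=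
  Subgroup.closure {g : ↥(Matrix.symplecticGroup (Fin (m + 1)) F) |
    ∃ c : F, ∀ v : Fin (m + 1) ⊕ Fin (m + 1) → F,
      (g : Matrix (Fin (m + 1) ⊕ Fin (m + 1)) (Fin (m + 1) ⊕ Fin (m + 1)) F) *ᵥ v =
        v + (c * (v ⬝ᵥ (Matrix.J (Fin (m + 1)) F *ᵥ p))) • p}

/-- the set of all `T(p)`, `p ≠ 0`, verbatim as in S5070 -/
def SigSp (F : Type*) [Field F] (m : ℕ) : Set (Subgroup ↥(Matrix.symplecticGroup (Fin (m + 1)) F)) :=
  {A | ∃ p : Fin (m + 1) ⊕ Fin (m + 1) → F, p ≠ 0 ∧ A = TSp p}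

end Cfsg.Agent.Lib.H12RootDefs
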