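import Cfsg.Agent.Lib.H13RSDefs

set_option autoImplicit false

/-! PROJECT 4358, piece A1. -/
namespace Cfsg.Agent.Lib.H13RSA1
open Cfsg.Agent.Lib.H13RSDefs

/-- A diagonal element with two equal entries. -/
theorem good {F : Type*} [Field F] {p : ℕ} [NeZero p] {ζ : F} (hζ : ζ ^ p = 1) (hζ1 : ζ ≠ 1)
    (d : Fin p → F) (hd : ∀ i, d i ^ p = 1) {a b : Fin p} (hab : a ≠ b) (h : d a = d b)
    (x : Matrix.GeneralLinearGroup (Fin p) F) (hx : (x : Matrix (Fin p) (Fin p) F) = M 0 d) : Good x := by
  have e1 : Matrix.transvection a b (1 : F) * Matrix.transvection a b (-1 : F) = 1 := by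
    rw [Matrix.transvection_mul_transvection_same _ _ hab]; simp
  have e2 : Matrix.transvection a b (-1 : F) * Matrix.transvection a b (1 : F) = 1 := by
    rw [Matrix.transvection_mul_transvection_same _ _ hab]; simp
  let c : Matrix.GeneralLinearGroup (Fin p) F := ⟨_, _, e1, e2⟩
  have hcx : x * c = c * x := by
    apply Units.ext
    change (x : Matrix (Fin p) (Fin p) F) * Matrix.transvection a b (1 : F)
      = Matrix.transvection a b (1 : F) * (x : Matrix (Fin p) (Fin p) F)
    rw [hx, M_zero, Matrix.transvection, mul_add, add_mul, mul_one, one_mul]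
    congr 1
    ext i j
    rw [Matrix.diagonal_mul, Matrix.mul_diagonal, Matrix.single_apply]
    by_cases hi : a = i ∧ b = j
    · obtain ⟨rfl, rfl⟩ := hi
      simp [h]
    · simp [hi]
  refine ⟨c, ?_, Mg 0 (tt a ζ) (fun i => ne_zero_of_pow (tt_pow a hζ i)), Mg_mem 0 _ (tt_pow a hζ), ?_⟩
  · have : c⁻¹ * x * c = x := by
      rw [mul_assoc, hcx, ← mul_assoc, inv_mul_cancel, one_mul]
    rw [this]
    exact ⟨0, d, hd, hx⟩
  · have hval : ((c * Mg 0 (tt a ζ) (fun i => ne_zero_of_pow (tt_pow a hζ i)) * c⁻¹ :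
        Matrix.GeneralLinearGroup (Fin p) F) : Matrix (Fin p) (Fin p) F)
        = Matrix.transvection a b (1 : F) * Matrix.diagonal (tt a ζ) * (1 + Matrix.single a b (-1 : F)) := by
      rw [← M_zero]; rfl
    have htta : tt a ζ a = ζ := by simp [tt]
    have httb : tt a ζ b = 1 := by simp [tt, Function.update_of_ne hab.symm]
    have hrow : ∀ j, (Matrix.transvection a b (1 : F) * Matrix.diagonal (tt a ζ)) a j
        = Matrix.diagonal (tt a ζ) a j + Matrix.diagonal (tt a ζ) b j := by
      intro j
      rw [Matrix.transvection, add_mul, one_mul, Matrix.add_apply, Matrix.single_mul_apply_same, one_mul]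
    apply not_mem_of_row hab (i := a)
    · rw [hval, mul_add, mul_one, Matrix.add_apply, hrow,
        Matrix.mul_single_apply_of_ne _ _ _ _ _ hab, add_zero, Matrix.diagonal_apply_eq,
        Matrix.diagonal_apply_ne _ hab.symm, add_zero, htta]
      exact ne_zero_of_pow hζ
    · rw [hval, mul_add, mul_one, Matrix.add_apply, hrow,
        Matrix.mul_single_apply_same, hrow, Matrix.diagonal_apply_eq, Matrix.diagonal_apply_eq,
        Matrix.diagonal_apply_ne _ hab, Matrix.diagonal_apply_ne _ hab.symm, htta, httb]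
      intro h0
      apply hζ1
      linear_combination -h0

end Cfsg.Agent.Lib.H13RSA1
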