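import Cfsg.Agent.Lib.H13RSDefs

set_option autoImplicit false

/-! PROJECT 4358, piece A2. -/
namespace Cfsg.Agent.Lib.H13RSA2
open Cfsg.Agent.Lib.H13RSDefs

theorem M_mul_apply'' {F : Type*} [Field F] {p : ℕ} [NeZero p] (l : Fin p) (e : Fin p → F)
    (A : Matrix (Fin p) (Fin p) F) (i j : Fin p) : (M l e * A) i j = e i * A (i + l) j := by
  rw [Matrix.mul_apply, Finset.sum_eq_single (i + l)]
  · simp
  · intro b _ hb
    rw [M_apply_ne l e hb, zero_mul]
  · intro h
    exact absurd (Finset.mem_univ _) h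

theorem mul_M_apply {F : Type*} [Field F] {p : ℕ} [NeZero p] (l : Fin p) (e : Fin p → F)
    (A : Matrix (Fin p) (Fin p) F) (i j : Fin p) : (A * M l e) i j = A i (j - l) * e (j - l) := by
  rw [Matrix.mul_apply, Finset.sum_eq_single (j - l)]
  · rw [M_apply, if_pos (by simp)]
  · intro b _ hb
    rw [M_apply_ne l e (fun h => hb (by rw [h]; simp)), mul_zero]
  · intro h
    exact absurd (Finset.mem_univ _) h

/-- A diagonal element with pairwise different entries. -/
theorem good {F : Type*} [Field F] {p : ℕ} [NeZero p] (hp3 : 3 ≤ p) {ζ : F} (hζ : ζ ^ p = 1) (hζ1 : ζ ≠ 1)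
    (d : Fin p → F) (hd : ∀ i, d i ^ p = 1) (hinj : Function.Injective d)
    (x : Matrix.GeneralLinearGroup (Fin p) F) (hx : (x : Matrix (Fin p) (Fin p) F) = M 0 d) : Good x := by
  have hdet : (Matrix.vandermonde d).det ≠ 0 := Matrix.det_vandermonde_ne_zero_iff.2 hinj
  let c : Matrix.GeneralLinearGroup (Fin p) F := Matrix.GeneralLinearGroup.mkOfDetNeZero _ hdet
  have hc : (c : Matrix (Fin p) (Fin p) F) = Matrix.vandermonde d := rfl
  have h1 : ∀ i : Fin p, (fun _ : Fin p => (1 : F)) i ^ p = 1 := fun _ => one_pow _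
  have hxc : x * c = c * Mg (-1) (fun _ => 1) (fun i => ne_zero_of_pow (h1 i)) := by
    apply Units.ext
    change (x : Matrix (Fin p) (Fin p) F) * (c : Matrix (Fin p) (Fin p) F)
      = (c : Matrix (Fin p) (Fin p) F) * M (-1) (fun _ => 1)
    rw [hx, hc]
    ext i j
    rw [M_mul_apply'', mul_M_apply, add_zero, mul_one, Matrix.vandermonde_apply, Matrix.vandermonde_apply,
      sub_neg_eq_add, ← pow_succ', Fin.val_add, ← pow_eq_pow_mod _ (hd i)]
    congr 1
    have : ((1 : Fin p) : ℕ) = 1 := by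
      rw [Fin.val_one', Nat.mod_eq_of_lt (by omega)]
    rw [this]
  set Ψ : Matrix (Fin p) (Fin p) F := ((c⁻¹ : Matrix.GeneralLinearGroup (Fin p) F) : Matrix (Fin p) (Fin p) F)
    with hΨ
  have hcΨ : Matrix.vandermonde d * Ψ = 1 := by
    have : c * c⁻¹ = 1 := mul_inv_cancel c
    exact congrArg Units.val this
  have hΨc : Ψ * Matrix.vandermonde d = 1 := by
    have : c⁻¹ * c = 1 := inv_mul_cancel c
    exact congrArg Units.val this
  refine ⟨c, ?_, Mg 0 (tt 0 ζ) (fun i => ne_zero_of_pow (tt_pow 0 hζ i)), Mg_mem 0 _ (tt_pow 0 hζ), ?_⟩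
  · have : c⁻¹ * x * c = Mg (-1) (fun _ => 1) (fun i => ne_zero_of_pow (h1 i)) := by
      rw [mul_assoc, hxc, ← mul_assoc, inv_mul_cancel, one_mul]
    rw [this]
    exact Mg_mem _ _ h1
  · have hT : M 0 (tt (0 : Fin p) ζ) = 1 + (ζ - 1) • Matrix.single (0 : Fin p) (0 : Fin p) (1 : F) := by
      ext i j
      rw [M_zero, Matrix.add_apply, Matrix.smul_apply, Matrix.diagonal_apply, Matrix.one_apply,
        Matrix.single_apply]
      by_cases hij : i = j
      · subst hij
        by_cases hi : i = 0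
        · subst hi; simp [tt]
        · simp [tt, Function.update_of_ne hi, Ne.symm hi]
      · by_cases hi : i = 0
        · subst hi; simp [hij]
        · simp [hij, Ne.symm hi]
    have hent : ∀ i k, ((c * Mg 0 (tt 0 ζ) (fun i => ne_zero_of_pow (tt_pow 0 hζ i)) * c⁻¹ :
        Matrix.GeneralLinearGroup (Fin p) F) : Matrix (Fin p) (Fin p) F) i k
        = (1 : Matrix (Fin p) (Fin p) F) i k + (ζ - 1) * Ψ 0 k := by
      intro i k
      change (Matrix.vandermonde d * M 0 (tt 0 ζ) * Ψ : Matrix (Fin p) (Fin p) F) i k = _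
      rw [hT, mul_add, add_mul, mul_one, hcΨ, Matrix.mul_smul, Matrix.smul_mul, Matrix.add_apply,
        Matrix.smul_apply, smul_eq_mul, Matrix.mul_assoc, Matrix.mul_apply, Finset.sum_eq_single 0]
      · rw [Matrix.single_mul_apply_same, Matrix.vandermonde_apply]
        simp
      · intro b _ hb
        rw [Matrix.single_mul_apply_of_ne _ _ _ _ _ hb, mul_zero]
      · intro h
        exact absurd (Finset.mem_univ _) h
    obtain ⟨k, hk⟩ : ∃ k, Ψ 0 k ≠ 0 := by
      by_contra hcon
      push Not at hcon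
      have := congrFun (congrFun hΨc 0) 0
      rw [Matrix.mul_apply, Matrix.one_apply_eq] at this
      simp [hcon] at this
    let i1 : Fin p := ⟨1, by omega⟩
    let i2 : Fin p := ⟨2, by omega⟩
    have h10 : i1 ≠ 0 := by
      intro h; have := congrArg Fin.val h; simp [i1] at this
    have h20 : i2 ≠ 0 := by
      intro h; have := congrArg Fin.val h; simp [i2] at this
    have h12 : i1 ≠ i2 := by
      intro h; have := congrArg Fin.val h; simp [i1, i2] at this
    obtain ⟨i, i', hne, hik, hik'⟩ : ∃ i i' : Fin p, i ≠ i' ∧ i ≠ k ∧ i' ≠ k := by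
      by_cases hk0 : k = 0
      · exact ⟨i1, i2, h12, by rw [hk0]; exact h10, by rw [hk0]; exact h20⟩
      · by_cases hk1 : k = i1
        · exact ⟨0, i2, h20.symm, Ne.symm hk0, by rw [hk1]; exact h12.symm⟩
        · exact ⟨0, i1, h10.symm, Ne.symm hk0, Ne.symm hk1⟩
    have hz : (ζ - 1) * Ψ 0 k ≠ 0 := mul_ne_zero (sub_ne_zero.2 hζ1) hk
    apply not_mem_of_col hne (j := k)
    · rw [hent, Matrix.one_apply_ne hik, zero_add]; exact hz
    · rw [hent, Matrix.one_apply_ne hik', zero_add]; exact hz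

end Cfsg.Agent.Lib.H13RSA2
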