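import Cfsg.Agent.Lib.H13RSDefs

set_option autoImplicit false

/-! PROJECT 4358, piece Pow. -/
namespace Cfsg.Agent.Lib.H13RSPow
open Cfsg.Agent.Lib.H13RSDefs

variable {F : Type*} [Field F] {p : ℕ}

/-- coefficients of the powers of `M k d` -/
def pw [NeZero p] (k : Fin p) (d : Fin p → F) : ℕ → Fin p → F
  | 0 => fun _ => 1
  | n + 1 => fun i => d i * pw k d n (i + k)

theorem M_pow [NeZero p] (k : Fin p) (d : Fin p → F) (n : ℕ) : M k d ^ n = M (n • k) (pw k d n) := by
  induction n with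
  | zero => rw [pow_zero, zero_nsmul]; exact M_zero_one.symm
  | succ n ih => rw [pow_succ', ih, M_mul, succ_nsmul']; rfl

theorem pw_pow [NeZero p] (k : Fin p) (d : Fin p → F) (hd : ∀ i, d i ^ p = 1) (n : ℕ) (i : Fin p) :
    pw k d n i ^ p = 1 := by
  induction n generalizing i with
  | zero => exact one_pow _
  | succ n ih =>
    change (d i * pw k d n (i + k)) ^ p = 1
    rw [mul_pow, hd, ih, one_mul]

theorem p_nsmul [NeZero p] (k : Fin p) : p • k = 0 := by
  have := card_nsmul_eq_zero' (x := k)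
  rwa [Nat.card_eq_fintype_card, Fintype.card_fin] at this

theorem exists_nsmul [Fact p.Prime] {k : Fin p} (hk : k ≠ 0) (j : Fin p) : ∃ n < p, n • k = j := by
  have hc : Nat.card (Fin p) = p := by rw [Nat.card_eq_fintype_card, Fintype.card_fin]
  obtain ⟨n, hn⟩ := mem_multiples_of_prime_card hc hk (g' := j)
  refine ⟨n % p, Nat.mod_lt _ (Fact.out : p.Prime).pos, ?_⟩
  have hn' : n • k = j := hn
  rw [← hn']
  conv_rhs => rw [← Nat.mod_add_div n p, add_nsmul, mul_comm, mul_nsmul, p_nsmul, add_zero]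

theorem nsmul_ne_zero [Fact p.Prime] {k : Fin p} (hk : k ≠ 0) {n : ℕ} (h0 : 0 < n) (hn : n < p) :
    n • k ≠ 0 := by
  intro h
  have h1 : addOrderOf k = p := addOrderOf_eq_prime (p_nsmul k) hk
  have h2 : addOrderOf k ∣ n := addOrderOf_dvd_iff_nsmul_eq_zero.2 h
  rw [h1] at h2
  exact absurd (Nat.le_of_dvd h0 h2) (by omega)

theorem pow_p [Fact p.Prime] {k : Fin p} (hk : k ≠ 0) (d : Fin p → F) (hd : ∀ i, d i ^ p = 1) :
    ∃ lam : F, lam ^ p = 1 ∧ M k d ^ p = lam • (1 : Matrix (Fin p) (Fin p) F) := by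
  have h1 : M k d ^ p = M 0 (pw k d p) := by rw [M_pow, p_nsmul]
  have h2 : M 0 (pw k d p) * M k d = M k d * M 0 (pw k d p) := by
    rw [← h1, ← pow_succ, ← pow_succ']
  rw [M_mul, M_mul] at h2
  have hne : ∀ i, pw k d p i * d (i + 0) ≠ 0 := fun i =>
    mul_ne_zero (ne_zero_of_pow (pw_pow k d hd p i)) (ne_zero_of_pow (hd _))
  have h3 := (M_injective hne h2).2
  have h4 : ∀ i, pw k d p (i + k) = pw k d p i := by
    intro i
    have := congrFun h3 i
    simp only [add_zero] at this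
    rw [mul_comm] at this
    exact (mul_left_cancel₀ (ne_zero_of_pow (hd i)) this).symm
  have h5 : ∀ n : ℕ, pw k d p (n • k) = pw k d p 0 := by
    intro n
    induction n with
    | zero => rw [zero_nsmul]
    | succ n ih => rw [succ_nsmul, h4, ih]
  refine ⟨pw k d p 0, pw_pow k d hd p 0, ?_⟩
  rw [h1]
  ext i j
  obtain ⟨n, -, hn⟩ := exists_nsmul hk i
  rw [M_apply, Matrix.smul_apply, Matrix.one_apply, add_zero, ← hn, h5, hn]
  by_cases h : i = j
  · simp [h]
  · simp [h, Ne.symm h]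

end Cfsg.Agent.Lib.H13RSPow
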