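import Cfsg.Agent.Lib.H13RSDefs
import Cfsg.Agent.Lib.H13RSPow

set_option autoImplicit false

/-! PROJECT 4358, piece B1N. -/
namespace Cfsg.Agent.Lib.H13RSB1N
open Cfsg.Agent.Lib.H13RSDefs Cfsg.Agent.Lib.H13RSPow

variable {F : Type*} [Field F] {p : ℕ}

/-- the norm element `1 + X + … + X^(p-1)` -/
def NN [NeZero p] (k : Fin p) (d : Fin p → F) : Matrix (Fin p) (Fin p) F := ∑ l ∈ Finset.range p, M k d ^ l

theorem X_mul_NN [NeZero p] (k : Fin p) (d : Fin p → F) (hpow : M k d ^ p = 1) : M k d * NN k d = NN k d := by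
  have h := mul_geom_sum (M k d) p
  rw [hpow, sub_self, sub_mul, one_mul, sub_eq_zero] at h
  exact h

theorem NN_mul_X [NeZero p] (k : Fin p) (d : Fin p → F) (hpow : M k d ^ p = 1) : NN k d * M k d = NN k d := by
  have h := geom_sum_mul (M k d) p
  rw [hpow, sub_self, mul_sub, mul_one, sub_eq_zero] at h
  exact h

theorem pow_mul_NN [NeZero p] (k : Fin p) (d : Fin p → F) (hpow : M k d ^ p = 1) (l : ℕ) :
    M k d ^ l * NN k d = NN k d := by
  induction l with
  | zero => rw [pow_zero, one_mul]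
  | succ l ih => rw [pow_succ, mul_assoc, X_mul_NN k d hpow, ih]

theorem NN_mul_NN [NeZero p] (k : Fin p) (d : Fin p → F) (hpow : M k d ^ p = 1) :
    NN k d * NN k d = (p : F) • NN k d := by
  have h : NN k d * NN k d = ∑ l ∈ Finset.range p, M k d ^ l * NN k d := by
    conv_lhs => rw [NN.eq_1 k d, Finset.sum_mul]
    rfl
  rw [h, Finset.sum_congr rfl (fun l _ => pow_mul_NN k d hpow l), Finset.sum_const, Finset.card_range,
    ← Nat.cast_smul_eq_nsmul F]

theorem M_mul_apply' [NeZero p] (l : Fin p) (e : Fin p → F)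
    (A : Matrix (Fin p) (Fin p) F) (i j : Fin p) : (M l e * A) i j = e i * A (i + l) j := by
  rw [Matrix.mul_apply, Finset.sum_eq_single (i + l)]
  · simp
  · intro b _ hb
    rw [M_apply_ne l e hb, zero_mul]
  · intro h
    exact absurd (Finset.mem_univ _) h

theorem row_prop [Fact p.Prime] {k : Fin p} (hk : k ≠ 0) (d : Fin p → F) (hd : ∀ i, d i ^ p = 1)
    (hpow : M k d ^ p = 1) (l : Fin p) : ∃ γ : F, γ ≠ 0 ∧ ∀ j, NN k d l j = γ * NN k d 0 j := by
  obtain ⟨n, -, hn⟩ := exists_nsmul hk l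
  have hne : pw k d n 0 ≠ 0 := ne_zero_of_pow (pw_pow k d hd n 0)
  refine ⟨(pw k d n 0)⁻¹, inv_ne_zero hne, fun j => ?_⟩
  have h := congrFun (congrFun (pow_mul_NN k d hpow n) 0) j
  rw [M_pow, M_mul_apply', zero_add, hn] at h
  rw [← h, ← mul_assoc, inv_mul_cancel₀ hne, one_mul]

theorem row_zero_ne [Fact p.Prime] {k : Fin p} (hk : k ≠ 0) (d : Fin p → F) (hd : ∀ i, d i ^ p = 1)
    (j : Fin p) : NN k d 0 j ≠ 0 := by
  obtain ⟨n, hnp, hn⟩ := exists_nsmul hk j
  have h : NN k d 0 j = pw k d n 0 := by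
    rw [NN, Matrix.sum_apply, Finset.sum_eq_single n]
    · rw [M_pow, M_apply, zero_add, if_pos hn.symm]
    · intro l hl hln
      rw [M_pow, M_apply_ne]
      rw [zero_add, ← hn]
      intro heq
      have hlp : l < p := Finset.mem_range.1 hl
      rcases lt_or_gt_of_ne hln with hlt | hlt
      · apply nsmul_ne_zero hk (n := n - l) (by omega) (by omega)
        have : n • k = (n - l) • k + l • k := by rw [← add_nsmul]; congr 1; omega
        rw [this] at heq
        exact add_eq_right.1 heq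
      · apply nsmul_ne_zero hk (n := l - n) (by omega) (by omega)
        have : l • k = (l - n) • k + n • k := by rw [← add_nsmul]; congr 1; omega
        rw [this] at heq
        exact add_eq_right.1 heq.symm
    · intro h
      exact absurd (Finset.mem_range.2 hnp) h
  rw [h]
  exact ne_zero_of_pow (pw_pow k d hd n 0)

end Cfsg.Agent.Lib.H13RSB1N
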