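import Cfsg.Agent.Lib.H13RSDefs
import Cfsg.Agent.Lib.H13RSB1N

set_option autoImplicit false

/-! PROJECT 4358, piece B1. -/
namespace Cfsg.Agent.Lib.H13RSB1
open Cfsg.Agent.Lib.H13RSDefs Cfsg.Agent.Lib.H13RSB1N

theorem M_mul_apply {F : Type*} [Field F] {p : ℕ} [NeZero p] (l : Fin p) (e : Fin p → F)
    (A : Matrix (Fin p) (Fin p) F) (i j : Fin p) : (M l e * A) i j = e i * A (i + l) j := by
  rw [Matrix.mul_apply, Finset.sum_eq_single (i + l)]
  · simp
  · intro b _ hb
    rw [M_apply_ne l e hb, zero_mul]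
  · intro h
    exact absurd (Finset.mem_univ _) h

/-- A non-diagonal element of `Q0` of order `p`. -/
theorem good {F : Type*} [Field F] {p : ℕ} [Fact p.Prime] (hp3 : 3 ≤ p) {ζ : F} (hζ : ζ ^ p = 1) (hζ1 : ζ ≠ 1)
    {b : F} (hb : b ≠ 0) (hb1 : 1 + (p : F) * b ≠ 0)
    {k : Fin p} (hk : k ≠ 0) (d : Fin p → F) (hd : ∀ i, d i ^ p = 1)
    (hpow : M k d ^ p = 1)
    (x : Matrix.GeneralLinearGroup (Fin p) F) (hx : (x : Matrix (Fin p) (Fin p) F) = M k d) : Good x := by
  set N := NN k d with hNdef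
  have hNN : N * N = (p : F) • N := NN_mul_NN k d hpow
  have hXN : M k d * N = N := X_mul_NN k d hpow
  have hNX : N * M k d = N := NN_mul_X k d hpow
  obtain ⟨b', hb'⟩ : ∃ b' : F, b' + b + b * b' * (p : F) = 0 := by
    refine ⟨-b / (1 + (p : F) * b), ?_⟩
    have h : -b / (1 + (p : F) * b) * (1 + (p : F) * b) = -b := div_mul_cancel₀ _ hb1
    linear_combination h
  have hmul : ∀ u v : F, u + v + v * u * (p : F) = 0 →
      (1 + v • N) * (1 + u • N) = 1 := by
    intro u v huv
    rw [add_mul, mul_add, mul_add, one_mul, one_mul, mul_one, smul_mul_smul_comm, hNN, smul_smul]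
    have : (1 : Matrix (Fin p) (Fin p) F) + u • N + (v • N + (v * u * (p : F)) • N)
        = 1 + (u + v + v * u * (p : F)) • N := by
      rw [add_smul, add_smul]; abel
    rw [this, huv, zero_smul, add_zero]
  let c : Matrix.GeneralLinearGroup (Fin p) F :=
    ⟨1 + b • N, 1 + b' • N, hmul b' b hb', hmul b b' (by linear_combination hb')⟩
  have hcx : x * c = c * x := by
    apply Units.ext
    change (x : Matrix (Fin p) (Fin p) F) * (1 + b • N) = (1 + b • N) * (x : Matrix (Fin p) (Fin p) F)
    rw [hx, mul_add, add_mul, mul_one, one_mul, Matrix.mul_smul, Matrix.smul_mul, hXN, hNX]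
  have hN : ∀ i j, N i j ≠ 0 := by
    intro i j
    obtain ⟨γ, hγ, h⟩ := row_prop hk d hd hpow i
    rw [hNdef, h j]
    exact mul_ne_zero hγ (row_zero_ne hk d hd j)
  refine ⟨c, ?_, Mg 0 (tt 0 ζ) (fun i => ne_zero_of_pow (tt_pow 0 hζ i)), Mg_mem 0 _ (tt_pow 0 hζ), ?_⟩
  · have : c⁻¹ * x * c = x := by
      rw [mul_assoc, hcx, ← mul_assoc, inv_mul_cancel, one_mul]
    rw [this]
    exact ⟨k, d, hd, hx⟩
  · rintro ⟨l, e, he, hme⟩
    have h1 : (1 + b • N) * M 0 (tt 0 ζ) = M l e * (1 + b • N) := by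
      rw [← hme]
      have : c * Mg 0 (tt 0 ζ) (fun i => ne_zero_of_pow (tt_pow 0 hζ i))
          = (c * Mg 0 (tt 0 ζ) (fun i => ne_zero_of_pow (tt_pow 0 hζ i)) * c⁻¹) * c := by group
      exact congrArg Units.val this
    have hE : ∀ i j, M 0 (tt 0 ζ) i j + b * (N i j * tt 0 ζ j) = M l e i j + b * (e i * N (i + l) j) := by
      intro i j
      have h2 := congrFun (congrFun h1 i) j
      rw [add_mul, mul_add, one_mul, mul_one, Matrix.smul_mul, Matrix.mul_smul, Matrix.add_apply,
        Matrix.add_apply, Matrix.smul_apply, Matrix.smul_apply, M_mul_apply, M_zero,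
        Matrix.mul_diagonal, smul_eq_mul, smul_eq_mul] at h2
      rw [M_zero]
      exact h2
    have i1 : Fin p := ⟨1, by omega⟩
    let i1 : Fin p := ⟨1, by omega⟩
    let i2 : Fin p := ⟨2, by omega⟩
    have h10 : i1 ≠ 0 := by
      intro h; have := congrArg Fin.val h; simp [i1] at this
    have h20 : i2 ≠ 0 := by
      intro h; have := congrArg Fin.val h; simp [i2] at this
    have h12 : i1 ≠ i2 := by
      intro h; have := congrArg Fin.val h; simp [i1, i2] at this
    have htt0 : tt (0 : Fin p) ζ 0 = ζ := by simp [tt]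
    have htt : ∀ j : Fin p, j ≠ 0 → tt (0 : Fin p) ζ j = 1 := by
      intro j hj; simp [tt, Function.update_of_ne hj]
    by_cases hl : l = 0
    · subst hl
      have e1 := hE i1 0
      rw [M_apply_ne 0 _ (by simpa using h10.symm), M_apply_ne 0 _ (by simpa using h10.symm), zero_add,
        zero_add, add_zero, htt0] at e1
      have e2 := hE i1 i2
      rw [M_apply_ne 0 _ (by simpa using h12.symm), M_apply_ne 0 _ (by simpa using h12.symm), zero_add,
        zero_add, add_zero, htt i2 h20] at e2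
      have f1 : ζ = e i1 := by
        have := mul_left_cancel₀ hb e1
        rw [mul_comm] at this
        exact mul_right_cancel₀ (hN i1 0) this
      have f2 : 1 = e i1 := by
        have := mul_left_cancel₀ hb e2
        rw [mul_comm] at this
        exact mul_right_cancel₀ (hN i1 i2) this
      exact hζ1 (f1.trans f2.symm)
    · obtain ⟨γ, -, hγ⟩ := row_prop hk d hd hpow l
      obtain ⟨j0, hj0, hj0l⟩ : ∃ j0 : Fin p, j0 ≠ 0 ∧ j0 ≠ l := by
        by_cases h : l = i1
        · exact ⟨i2, h20, by rw [h]; exact h12.symm⟩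
        · exact ⟨i1, h10, fun h' => h h'.symm⟩
      have e1 := hE 0 j0
      rw [M_apply_ne 0 _ (by simpa using hj0), M_apply_ne l _ (by simpa using hj0l), zero_add,
        zero_add, zero_add, htt j0 hj0, mul_one, hNdef, hγ j0] at e1
      have e2 := hE 0 l
      rw [M_apply_ne 0 _ (by simpa using hl), zero_add, htt l hl, mul_one, zero_add, hNdef, hγ l] at e2
      have e3 : M l e 0 l = e 0 := by
        have := M_apply_self l e 0
        rwa [zero_add] at this
      rw [e3] at e2
      have f1 : e 0 * γ = 1 := by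
        have h3 := mul_left_cancel₀ hb e1
        have h4 : 1 * NN k d 0 j0 = (e 0 * γ) * NN k d 0 j0 := by rw [one_mul, mul_assoc]; exact h3
        exact (mul_right_cancel₀ (row_zero_ne hk d hd j0) h4).symm
      have f2 : e 0 = 0 := by
        have : b * (e 0 * (γ * NN k d 0 l)) = b * NN k d 0 l := by
          rw [← mul_assoc (e 0), f1, one_mul]
        rw [this] at e2
        exact (left_eq_add.1 (e2.trans (add_comm _ _))).symm ▸ rfl
      exact ne_zero_of_pow (he 0) f2

end Cfsg.Agent.Lib.H13RSB1
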