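import Cfsg.Agent.Lib.H13RSDefs

set_option autoImplicit false

/-! PROJECT 4358, piece B2. -/
namespace Cfsg.Agent.Lib.H13RSB2
open Cfsg.Agent.Lib.H13RSDefs

theorem add_self_ne {p : ℕ} [NeZero p] (hodd : Odd p) {k : Fin p} (hk : k ≠ 0) : k + k ≠ 0 := by
  intro h
  have h1 := congrArg Fin.val h
  rw [Fin.val_add, Fin.val_zero] at h1
  have h2 : (k : ℕ) ≠ 0 := fun h0 => hk (Fin.ext (by rw [h0, Fin.val_zero]))
  have h3 := k.isLt
  obtain ⟨m, hm⟩ := hodd
  obtain ⟨c, hc⟩ := Nat.dvd_of_mod_eq_zero h1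
  have hc1 : c = 1 := by
    rcases c with _ | _ | c
    · omega
    · rfl
    · exfalso
      have : p * (c + 1 + 1) = p * c + p + p := by ring
      have h5 : 0 ≤ p * c := Nat.zero_le _
      omega
  subst hc1
  omega

/-- A non-diagonal element of `Q0` whose `p`-th power is a scalar `lam ≠ 1`. -/
theorem good {F : Type*} [Field F] {p : ℕ} [NeZero p] (hodd : Odd p) {ζ : F} (hζ : ζ ^ p = 1) (hζ1 : ζ ≠ 1)
    {k : Fin p} (hk : k ≠ 0) (d : Fin p → F) (hd : ∀ i, d i ^ p = 1) {lam : F} (hlam : lam ≠ 1)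
    (hpow : M k d ^ p = lam • (1 : Matrix (Fin p) (Fin p) F))
    (x : Matrix.GeneralLinearGroup (Fin p) F) (hx : (x : Matrix (Fin p) (Fin p) F) = M k d) : Good x := by
  have hl1 : lam - 1 ≠ 0 := sub_ne_zero.2 hlam
  have e1 : (M k d - 1) * ((lam - 1)⁻¹ • ∑ l ∈ Finset.range p, M k d ^ l) = 1 := by
    rw [Matrix.mul_smul, mul_geom_sum, hpow]
    have : lam • (1 : Matrix (Fin p) (Fin p) F) - 1 = (lam - 1) • 1 := by rw [sub_smul, one_smul]
    rw [this, smul_smul, inv_mul_cancel₀ hl1, one_smul]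
  have e2 : ((lam - 1)⁻¹ • ∑ l ∈ Finset.range p, M k d ^ l) * (M k d - 1) = 1 := by
    rw [Matrix.smul_mul, geom_sum_mul, hpow]
    have : lam • (1 : Matrix (Fin p) (Fin p) F) - 1 = (lam - 1) • 1 := by rw [sub_smul, one_smul]
    rw [this, smul_smul, inv_mul_cancel₀ hl1, one_smul]
  let c : Matrix.GeneralLinearGroup (Fin p) F := ⟨M k d - 1, _, e1, e2⟩
  have hcx : x * c = c * x := by
    apply Units.ext
    change (x : Matrix (Fin p) (Fin p) F) * (M k d - 1) = (M k d - 1) * (x : Matrix (Fin p) (Fin p) F)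
    rw [hx, mul_sub, sub_mul, mul_one, one_mul]
  refine ⟨c, ?_, Mg 0 (tt 0 ζ) (fun i => ne_zero_of_pow (tt_pow 0 hζ i)), Mg_mem 0 _ (tt_pow 0 hζ), ?_⟩
  · have : c⁻¹ * x * c = x := by
      rw [mul_assoc, hcx, ← mul_assoc, inv_mul_cancel, one_mul]
    rw [this]
    exact ⟨k, d, hd, hx⟩
  · rintro ⟨l, e, he, hme⟩
    have h1 : (M k d - 1) * M 0 (tt 0 ζ) = M l e * (M k d - 1) := by
      rw [← hme]
      have : c * Mg 0 (tt 0 ζ) (fun i => ne_zero_of_pow (tt_pow 0 hζ i))
          = (c * Mg 0 (tt 0 ζ) (fun i => ne_zero_of_pow (tt_pow 0 hζ i)) * c⁻¹) * c := by group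
      exact congrArg Units.val this
    rw [sub_mul, mul_sub, one_mul, mul_one, M_mul, M_mul, add_zero] at h1
    have hE : ∀ i j, M k (fun i => d i * tt 0 ζ (i + k)) i j - M 0 (tt 0 ζ) i j
        = M (l + k) (fun i => e i * d (i + l)) i j - M l e i j := by
      intro i j
      have := congrFun (congrFun h1 i) j
      simpa only [Matrix.sub_apply] using this
    have htt0 : tt (0 : Fin p) ζ 0 = ζ := by simp [tt]
    have httk : tt (0 : Fin p) ζ k = 1 := by simp [tt, Function.update_of_ne hk]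
    have hζ0 : ζ ≠ 0 := ne_zero_of_pow hζ
    have hd0 : d 0 ≠ 0 := ne_zero_of_pow (hd 0)
    have a00 := hE 0 0
    have a0k := hE 0 k
    rw [M_apply_ne k _ (by simpa using hk.symm), M_apply, if_pos (by simp), htt0] at a00
    rw [M_apply, if_pos (by simp), M_apply_ne 0 _ (by simpa using hk), zero_add, httk, mul_one, sub_zero] at a0k
    by_cases hl : l = 0
    · subst hl
      rw [zero_add, M_apply_ne k _ (by simpa using hk.symm), M_apply, if_pos (by simp)] at a00
      rw [zero_add, M_apply, if_pos (by simp), M_apply_ne 0 _ (by simpa using hk), sub_zero, add_zero] at a0k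
      have f1 : e 0 = ζ := by linear_combination a00
      have f2 : e 0 = 1 := by
        have : 1 * d 0 = e 0 * d 0 := by rw [one_mul]; exact a0k
        exact (mul_right_cancel₀ hd0 this).symm
      exact hζ1 (f1.symm.trans f2)
    · rw [M_apply_ne l e (by simpa using Ne.symm hl), sub_zero] at a00
      have hlk : l + k = 0 := by
        by_contra hne
        rw [M_apply_ne (l + k) _ (by simpa using Ne.symm hne)] at a00
        apply hζ0
        linear_combination -a00
      rw [hlk, M_apply_ne 0 _ (by simpa using hk), zero_sub] at a0k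
      have hlk2 : l = k := by
        by_contra hne
        rw [M_apply_ne l e (by simpa using Ne.symm hne), neg_zero] at a0k
        exact hd0 a0k
      rw [hlk2] at hlk
      exact add_self_ne hodd hk hlk

end Cfsg.Agent.Lib.H13RSB2
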