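import Mathlib

set_option autoImplicit false

/-! PROJECT 4358, piece CardGL. -/
namespace Cfsg.Agent.Lib.H13RSCardGL

theorem factorization_card_GL {F : Type*} [Field F] [Fintype F] (p : ℕ) [Fact p.Prime] (hp : p ≠ 2)
    (h1 : p ∣ Fintype.card F - 1) (h2 : ¬ p ^ 2 ∣ Fintype.card F - 1) :
    (Nat.card (Matrix.GeneralLinearGroup (Fin p) F)).factorization p = p + 1 := by
  have hpp : p.Prime := Fact.out
  have hodd : Odd p := hpp.odd_of_ne_two hp
  set q := Fintype.card F with hq
  have hq1 : 1 < q := Fintype.one_lt_card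
  have hpq : ¬ p ∣ q := by
    intro h
    have : p ∣ 1 := by
      have := Nat.dvd_sub h h1
      rwa [Nat.sub_sub_self hq1.le] at this
    exact hpp.one_lt.ne' (Nat.dvd_one.1 this)
  have hv1 : padicValNat p (q - 1) = 1 := by
    have hne : q - 1 ≠ 0 := by omega
    apply le_antisymm
    · by_contra hlt
      push Not at hlt
      apply h2
      exact (padicValNat_dvd_iff_le hne).2 hlt
    · exact one_le_padicValNat_of_dvd hne h1
  have hterm : ∀ j : ℕ, j ≠ 0 → padicValNat p (q ^ j - 1) = 1 + padicValNat p j := by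
    intro j hj
    have := padicValNat.pow_sub_pow (x := q) (y := 1) hodd hq1 h1 hpq hj
    rw [one_pow, hv1] at this
    exact this
  have hfac : ∀ i : Fin p, padicValNat p (q ^ p - q ^ (i : ℕ)) = 1 + padicValNat p (p - i) := by
    intro i
    have hi := i.isLt
    have e : q ^ p - q ^ (i : ℕ) = q ^ (i : ℕ) * (q ^ (p - i) - 1) := by
      rw [Nat.mul_sub, mul_one, ← pow_add]
      congr 2
      omega
    have hne1 : q ^ (i : ℕ) ≠ 0 := pow_ne_zero _ (by omega)
    have hne2 : q ^ (p - i) - 1 ≠ 0 := by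
      have : 1 < q ^ (p - i) := Nat.one_lt_pow (by omega) hq1
      omega
    have hz : padicValNat p (q ^ (i : ℕ)) = 0 :=
      padicValNat.eq_zero_of_not_dvd (fun h => hpq (hpp.dvd_of_dvd_pow h))
    rw [e, padicValNat.mul hne1 hne2, hz, zero_add, hterm _ (by omega)]
  rw [Matrix.card_GL_field, Nat.factorization_def _ hpp]
  have hprod : padicValNat p (∏ i : Fin p, (q ^ p - q ^ (i : ℕ)))
      = ∑ i : Fin p, padicValNat p (q ^ p - q ^ (i : ℕ)) := by
    rw [← Nat.factorization_def _ hpp, Nat.factorization_prod]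
    · rw [Finsupp.finsetSum_apply]
      exact Finset.sum_congr rfl (fun i _ => Nat.factorization_def _ hpp)
    · intro i _
      have : q ^ (i : ℕ) < q ^ p := Nat.pow_lt_pow_right hq1 i.isLt
      omega
  rw [hprod, Finset.sum_congr rfl (fun i _ => hfac i), Finset.sum_add_distrib, Finset.sum_const,
    Finset.card_univ, Fintype.card_fin, smul_eq_mul, mul_one]
  congr 1
  haveI : NeZero p := ⟨hpp.ne_zero⟩
  rw [Finset.sum_eq_single (0 : Fin p)]
  · simp
  · intro i _ hi
    apply padicValNat.eq_zero_of_not_dvd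
    intro hd
    have h3 : (i : ℕ) ≠ 0 := fun h => hi (Fin.ext (by rw [h, Fin.val_zero]))
    have h4 := i.isLt
    have := Nat.le_of_dvd (by omega) hd
    omega
  · intro h
    exact absurd (Finset.mem_univ _) h

end Cfsg.Agent.Lib.H13RSCardGL
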