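import Mathlib

set_option autoImplicit false

/-! PROJECT 4358, piece Zeta. -/
namespace Cfsg.Agent.Lib.H13RSZeta

theorem exists_prim {F : Type*} [Field F] [Fintype F] (p : ℕ) [Fact p.Prime]
    (h1 : p ∣ Fintype.card F - 1) : ∃ ζ : F, IsPrimitiveRoot ζ p := by
  classical
  have h : p ∣ Fintype.card Fˣ := by rw [Fintype.card_units]; exact h1
  obtain ⟨u, hu⟩ := exists_prime_orderOf_dvd_card p h
  refine ⟨(u : F), ?_⟩
  rw [IsPrimitiveRoot.iff_orderOf, orderOf_units, hu]

theorem card_roots {F : Type*} [Field F] [Fintype F] (p : ℕ) [Fact p.Prime]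
    (h1 : p ∣ Fintype.card F - 1) : Nat.card {a : F // a ^ p = 1} = p := by
  classical
  obtain ⟨ζ, hζ⟩ := exists_prim (F := F) p h1
  have hp : 0 < p := (Fact.out : p.Prime).pos
  have h := hζ.card_nthRootsFinset
  have e : {a : F // a ^ p = 1} ≃ {a : F // a ∈ Polynomial.nthRootsFinset p (1 : F)} :=
    Equiv.subtypeEquivRight (fun a => (Polynomial.mem_nthRootsFinset hp 1).symm)
  rw [Nat.card_congr e, Nat.card_eq_fintype_card, Fintype.card_coe, h]

theorem exists_zeta {F : Type*} [Field F] [Fintype F] (p : ℕ) [Fact p.Prime]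
    (h1 : p ∣ Fintype.card F - 1) : ∃ ζ : F, ζ ^ p = 1 ∧ ζ ≠ 1 := by
  obtain ⟨ζ, hζ⟩ := exists_prim (F := F) p h1
  exact ⟨ζ, hζ.pow_eq_one, hζ.ne_one (Fact.out : p.Prime).one_lt⟩

theorem p_ne_zero {F : Type*} [Field F] [Fintype F] (p : ℕ) [Fact p.Prime]
    (h1 : p ∣ Fintype.card F - 1) : (p : F) ≠ 0 := by
  intro h0
  obtain ⟨r, hr⟩ := CharP.exists F
  obtain ⟨n, hrp, hc⟩ := FiniteField.card F r
  have h2 : r ∣ p := (CharP.cast_eq_zero_iff F r p).1 h0
  have h3 : r = p := (Nat.prime_dvd_prime_iff_eq hrp (Fact.out : p.Prime)).1 h2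
  subst h3
  have h4 : r ∣ Fintype.card F := by rw [hc]; exact dvd_pow_self r n.ne_zero
  have h5 : 1 ≤ Fintype.card F := Fintype.card_pos
  have h6 : r ∣ 1 := by
    have := (Nat.dvd_sub h4 h1)
    rwa [Nat.sub_sub_self h5] at this
  exact hrp.one_lt.ne' (Nat.dvd_one.1 h6)

theorem exists_b {F : Type*} [Field F] [Fintype F] (p : ℕ) [Fact p.Prime] (hp : p ≠ 2)
    (h1 : p ∣ Fintype.card F - 1) : ∃ b : F, b ≠ 0 ∧ 1 + (p : F) * b ≠ 0 := by
  classical
  have hp0 := p_ne_zero (F := F) p h1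
  by_contra hcon
  push Not at hcon
  have hsub : (Finset.univ : Finset F) ⊆ {0, -(p : F)⁻¹} := by
    intro b _
    by_cases hb : b = 0
    · simp [hb]
    · have := hcon b hb
      have h2 : b = -(p : F)⁻¹ := by
        field_simp
        linear_combination this
      simp [h2]
  have hcard := Finset.card_le_card hsub
  rw [Finset.card_univ] at hcard
  have h2 : ({0, -(p : F)⁻¹} : Finset F).card ≤ 2 := Finset.card_le_two
  have h3 : 2 ≤ p := (Fact.out : p.Prime).two_le
  have h4 : 1 < Fintype.card F := Fintype.one_lt_card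
  have h5 : p ≤ Fintype.card F - 1 := Nat.le_of_dvd (by omega) h1
  omega

end Cfsg.Agent.Lib.H13RSZeta
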