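import Cfsg.Agent.Lib.H13RSDefs
import Cfsg.Agent.Lib.H13RSZeta

set_option autoImplicit false

/-! PROJECT 4358, piece CardQ. -/
namespace Cfsg.Agent.Lib.H13RSCardQ
open Cfsg.Agent.Lib.H13RSDefs

/-- `|Q0| ≥ p^(p+1)`. -/
theorem le_card {F : Type*} [Field F] [Fintype F] (p : ℕ) [Fact p.Prime]
    (h1 : p ∣ Fintype.card F - 1) : p ^ (p + 1) ≤ Nat.card (Q0 F p) := by
  have hfin : Finite (Matrix.GeneralLinearGroup (Fin p) F) := by
    have : Finite (Matrix (Fin p) (Fin p) F) := inferInstanceAs (Finite (Fin p → Fin p → F))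
    exact Finite.of_injective (fun g : Matrix.GeneralLinearGroup (Fin p) F => (g : Matrix (Fin p) (Fin p) F))
      Units.val_injective
  let f : Fin p × (Fin p → {a : F // a ^ p = 1}) → Q0 F p := fun kd =>
    ⟨Mg kd.1 (fun i => (kd.2 i : F)) (fun i => ne_zero_of_pow (kd.2 i).2), Mg_mem _ _ (fun i => (kd.2 i).2)⟩
  have hf : Function.Injective f := by
    rintro ⟨k, d⟩ ⟨l, e⟩ h
    have h2 : M k (fun i => (d i : F)) = M l (fun i => (e i : F)) :=
      congrArg (fun g : Q0 F p => ((g : Matrix.GeneralLinearGroup (Fin p) F) : Matrix (Fin p) (Fin p) F)) h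
    obtain ⟨hk, hd⟩ := M_injective (fun i => ne_zero_of_pow (d i).2) h2
    subst hk
    congr 1
    funext i
    exact Subtype.ext (congrFun hd i)
  have hc : Nat.card (Fin p × (Fin p → {a : F // a ^ p = 1})) = p ^ (p + 1) := by
    rw [Nat.card_prod, Nat.card_fun, Cfsg.Agent.Lib.H13RSZeta.card_roots p h1, Nat.card_eq_fintype_card,
      Fintype.card_fin, pow_succ, mul_comm]
  rw [← hc]
  exact Nat.card_le_card_of_injective f hf

end Cfsg.Agent.Lib.H13RSCardQ
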