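import Mathlib

set_option autoImplicit false
set_option linter.unusedSectionVars false

/-! PROJECT 4358 (row S4358): the monomial Sylow `p`-subgroup `C_p wr C_p` of `GL_p(F)`; vocabulary. -/

namespace Cfsg.Agent.Lib.H13RSDefs

open Matrix

variable {F : Type*} [Field F] {p : ℕ} [NeZero p]

/-- the monomial matrix with entry `d i` at `(i, i + k)` -/
def M (k : Fin p) (d : Fin p → F) : Matrix (Fin p) (Fin p) F :=
  fun i j => if j = i + k then d i else 0

theorem M_apply (k : Fin p) (d : Fin p → F) (i j : Fin p) :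
    M k d i j = if j = i + k then d i else 0 := rfl

@[simp] theorem M_apply_self (k : Fin p) (d : Fin p → F) (i : Fin p) : M k d i (i + k) = d i := by
  simp [M]

theorem M_apply_ne (k : Fin p) (d : Fin p → F) {i j : Fin p} (h : j ≠ i + k) : M k d i j = 0 := by
  simp [M, h]

theorem M_mul (k l : Fin p) (d e : Fin p → F) :
    M k d * M l e = M (k + l) (fun i => d i * e (i + k)) := by
  ext i j
  rw [Matrix.mul_apply, Finset.sum_eq_single (i + k)]
  · simp only [M_apply_self, M_apply, add_assoc]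
    split_ifs <;> simp
  · intro b _ hb
    rw [M_apply_ne k d hb, zero_mul]
  · intro h
    exact absurd (Finset.mem_univ _) h

theorem M_zero_one : M (0 : Fin p) (fun _ => (1 : F)) = 1 := by
  ext i j
  simp [M, Matrix.one_apply, eq_comm]

theorem M_zero (d : Fin p → F) : M (0 : Fin p) d = Matrix.diagonal d := by
  ext i j
  simp [M, Matrix.diagonal_apply, eq_comm]

theorem M_mulVec (k : Fin p) (d : Fin p → F) (v : Fin p → F) (i : Fin p) :
    (M k d *ᵥ v) i = d i * v (i + k) := by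
  rw [Matrix.mulVec, dotProduct, Finset.sum_eq_single (i + k)]
  · simp
  · intro b _ hb
    rw [M_apply_ne k d hb, zero_mul]
  · intro h
    exact absurd (Finset.mem_univ _) h

theorem M_injective {k l : Fin p} {d e : Fin p → F} (hd : ∀ i, d i ≠ 0) (h : M k d = M l e) :
    k = l ∧ d = e := by
  have hkl : k = l := by
    by_contra hne
    have h1 := congrFun (congrFun h 0) (0 + k)
    rw [M_apply_self, M_apply_ne l e (by simpa using hne)] at h1
    exact hd 0 h1
  subst hkl
  refine ⟨rfl, ?_⟩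
  funext i
  have h1 := congrFun (congrFun h i) (i + k)
  simpa using h1

/-- `M k d` as an element of `GL_p(F)` -/
def Mg (k : Fin p) (d : Fin p → F) (hd : ∀ i, d i ≠ 0) : Matrix.GeneralLinearGroup (Fin p) F where
  val := M k d
  inv := M (-k) (fun i => (d (i - k))⁻¹)
  val_inv := by
    rw [M_mul, ← M_zero_one]
    congr 1
    · simp
    · funext i
      simp [hd i]
  inv_val := by
    rw [M_mul, ← M_zero_one]
    congr 1
    · simp
    · funext i
      simp [sub_eq_add_neg, hd]

@[simp] theorem coe_Mg (k : Fin p) (d : Fin p → F) (hd : ∀ i, d i ≠ 0) :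
    ((Mg k d hd : Matrix.GeneralLinearGroup (Fin p) F) : Matrix (Fin p) (Fin p) F) = M k d := rfl

theorem ne_zero_of_pow {a : F} (h : a ^ p = 1) : a ≠ 0 := by
  intro h0
  rw [h0, zero_pow (NeZero.ne p)] at h
  exact zero_ne_one h

/-- the monomial group `μ_p wr C_p` -/
def Q0 (F : Type*) [Field F] (p : ℕ) [NeZero p] : Subgroup (Matrix.GeneralLinearGroup (Fin p) F) where
  carrier := {g | ∃ (k : Fin p) (d : Fin p → F), (∀ i, d i ^ p = 1) ∧
    (g : Matrix (Fin p) (Fin p) F) = M k d}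
  one_mem' := ⟨0, fun _ => 1, fun _ => one_pow _, by rw [M_zero_one]; rfl⟩
  mul_mem' := by
    rintro a b ⟨k, d, hd, ha⟩ ⟨l, e, he, hb⟩
    refine ⟨k + l, fun i => d i * e (i + k), fun i => by rw [mul_pow, hd, he, one_mul], ?_⟩
    rw [Matrix.GeneralLinearGroup.coe_mul, ha, hb, M_mul]
  inv_mem' := by
    rintro a ⟨k, d, hd, ha⟩
    refine ⟨-k, fun i => (d (i - k))⁻¹, fun i => by rw [inv_pow, hd, inv_one], ?_⟩
    have : a = Mg k d (fun i => ne_zero_of_pow (hd i)) := Units.ext ha
    rw [this]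
    rfl

theorem mem_Q0 {g : Matrix.GeneralLinearGroup (Fin p) F} : g ∈ Q0 F p ↔
    ∃ (k : Fin p) (d : Fin p → F), (∀ i, d i ^ p = 1) ∧ (g : Matrix (Fin p) (Fin p) F) = M k d :=
  Iff.rfl

theorem Mg_mem (k : Fin p) (d : Fin p → F) (hd : ∀ i, d i ^ p = 1) :
    Mg k d (fun i => ne_zero_of_pow (hd i)) ∈ Q0 F p := ⟨k, d, hd, rfl⟩

/-- two non-zero entries in a row: not in `Q0` -/
theorem not_mem_of_row {g : Matrix.GeneralLinearGroup (Fin p) F} {i j j' : Fin p} (hj : j ≠ j')
    (h1 : (g : Matrix (Fin p) (Fin p) F) i j ≠ 0) (h2 : (g : Matrix (Fin p) (Fin p) F) i j' ≠ 0) :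
    g ∉ Q0 F p := by
  rintro ⟨k, d, -, hg⟩
  rw [hg] at h1 h2
  have e1 : j = i + k := by
    by_contra h
    exact h1 (M_apply_ne k d h)
  have e2 : j' = i + k := by
    by_contra h
    exact h2 (M_apply_ne k d h)
  exact hj (e1.trans e2.symm)

/-- two non-zero entries in a column: not in `Q0` -/
theorem not_mem_of_col {g : Matrix.GeneralLinearGroup (Fin p) F} {i i' j : Fin p} (hi : i ≠ i')
    (h1 : (g : Matrix (Fin p) (Fin p) F) i j ≠ 0) (h2 : (g : Matrix (Fin p) (Fin p) F) i' j ≠ 0) :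
    g ∉ Q0 F p := by
  rintro ⟨k, d, -, hg⟩
  rw [hg] at h1 h2
  have e1 : j = i + k := by
    by_contra h
    exact h1 (M_apply_ne k d h)
  have e2 : j = i' + k := by
    by_contra h
    exact h2 (M_apply_ne k d h)
  exact hi (add_right_cancel (e1.symm.trans e2))

/-- the diagonal element `diag(1, …, ζ, …, 1)` (`ζ` at place `a`) of `Q0` -/
def tt (a : Fin p) (ζ : F) : Fin p → F := Function.update (fun _ => (1 : F)) a ζ

theorem tt_pow (a : Fin p) {ζ : F} (hζ : ζ ^ p = 1) (i : Fin p) : tt a ζ i ^ p = 1 := by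
  unfold tt
  by_cases h : i = a
  · subst h; simpa using hζ
  · simp [Function.update_of_ne h]

/-- `x` lies in a conjugate of `Q0` different from `Q0` -/
def Good (x : Matrix.GeneralLinearGroup (Fin p) F) : Prop :=
  ∃ c : Matrix.GeneralLinearGroup (Fin p) F, c⁻¹ * x * c ∈ Q0 F p ∧ ∃ t ∈ Q0 F p, c * t * c⁻¹ ∉ Q0 F p

end Cfsg.Agent.Lib.H13RSDefs
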