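import Cfsg.Agent.Lib.H13RSDefs
import Cfsg.Agent.Lib.H13RSPow

set_option autoImplicit false

/-! PROJECT 4358, piece PGroup. -/
namespace Cfsg.Agent.Lib.H13RSPGroup
open Cfsg.Agent.Lib.H13RSDefs Cfsg.Agent.Lib.H13RSPow

/-- `Q0` is a `p`-group: `g ^ (p ^ 2) = 1` for `g ∈ Q0`. -/
theorem isPGroup {F : Type*} [Field F] (p : ℕ) [Fact p.Prime] : IsPGroup p (Q0 F p) := by
  rintro ⟨g, k, d, hd, hg⟩
  refine ⟨2, ?_⟩
  apply Subtype.ext
  apply Units.ext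
  change ((g ^ (p ^ 2) : Matrix.GeneralLinearGroup (Fin p) F) : Matrix (Fin p) (Fin p) F) = 1
  rw [Units.val_pow_eq_pow_val, hg, pow_two, pow_mul, M_pow, p_nsmul, M_zero, Matrix.diagonal_pow]
  rw [← Matrix.diagonal_one]
  congr 1
  funext i
  exact pw_pow k d hd p i

end Cfsg.Agent.Lib.H13RSPGroup
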