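import Cfsg.Agent.Lib.H13RSDefs
import Cfsg.Agent.Lib.H13RSCardGL
import Cfsg.Agent.Lib.H13RSZeta
import Cfsg.Agent.Lib.H13RSPGroup
import Cfsg.Agent.Lib.H13RSCardQ
import Cfsg.Agent.Lib.H13RSA1
import Cfsg.Agent.Lib.H13RSA2
import Cfsg.Agent.Lib.H13RSPow
import Cfsg.Agent.Lib.H13RSB2
import Cfsg.Agent.Lib.H13RSB1

set_option autoImplicit false

/-! PROJECT 4358: assembly. -/
namespace Cfsg.Agent.Lib.H13RSMain
open Cfsg.Agent.Lib.H13RSDefs

variable {F : Type*} [Field F] [Fintype F] (p : ℕ) [Fact p.Prime]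

theorem finite_GL : Finite (Matrix.GeneralLinearGroup (Fin p) F) := by
  have : Finite (Matrix (Fin p) (Fin p) F) := inferInstanceAs (Finite (Fin p → Fin p → F))
  exact Finite.of_injective (fun g : Matrix.GeneralLinearGroup (Fin p) F => (g : Matrix (Fin p) (Fin p) F))
    Units.val_injective

/-- `Q0` is a Sylow `p`-subgroup. -/
theorem exists_sylow (hp : p ≠ 2) (h1 : p ∣ Fintype.card F - 1) (h2 : ¬ p ^ 2 ∣ Fintype.card F - 1) :
    ∃ Q : Sylow p (Matrix.GeneralLinearGroup (Fin p) F),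
      (Q : Subgroup (Matrix.GeneralLinearGroup (Fin p) F)) = Q0 F p := by
  haveI := finite_GL (F := F) p
  obtain ⟨Q, hQ⟩ := (Cfsg.Agent.Lib.H13RSPGroup.isPGroup (F := F) p).exists_le_sylow
  refine ⟨Q, ?_⟩
  have hc : Nat.card Q = p ^ (p + 1) := by
    rw [Sylow.card_eq_multiplicity, Cfsg.Agent.Lib.H13RSCardGL.factorization_card_GL p hp h1 h2]
  have hle := Cfsg.Agent.Lib.H13RSCardQ.le_card (F := F) p h1
  symm
  apply Subgroup.eq_of_le_of_card_ge hQ
  rw [hc]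
  exact hle

/-- all elements of `Q0` are good -/
theorem good_of_mem (hp : p ≠ 2) (h1 : p ∣ Fintype.card F - 1)
    {x : Matrix.GeneralLinearGroup (Fin p) F} (hx : x ∈ Q0 F p) : Good x := by
  have hp2 : 2 ≤ p := (Fact.out : p.Prime).two_le
  have hp3 : 3 ≤ p := by omega
  have hodd : Odd p := (Fact.out : p.Prime).odd_of_ne_two hp
  obtain ⟨ζ, hζ, hζ1⟩ := Cfsg.Agent.Lib.H13RSZeta.exists_zeta (F := F) p h1
  obtain ⟨b, hb, hb1⟩ := Cfsg.Agent.Lib.H13RSZeta.exists_b (F := F) p hp h1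
  obtain ⟨k, d, hd, hxe⟩ := hx
  by_cases hk : k = 0
  · subst hk
    by_cases hinj : Function.Injective d
    · exact Cfsg.Agent.Lib.H13RSA2.good hp3 hζ hζ1 d hd hinj x hxe
    · rw [Function.Injective] at hinj
      push Not at hinj
      obtain ⟨a, b', hab, hne⟩ := hinj
      exact Cfsg.Agent.Lib.H13RSA1.good hζ hζ1 d hd hne hab x hxe
  · obtain ⟨lam, -, hpow⟩ := Cfsg.Agent.Lib.H13RSPow.pow_p hk d hd
    by_cases hl : lam = 1
    · rw [hl, one_smul] at hpow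
      exact Cfsg.Agent.Lib.H13RSB1.good hp3 hζ hζ1 hb hb1 hk d hd hpow x hxe
    · exact Cfsg.Agent.Lib.H13RSB2.good hodd hζ hζ1 hk d hd hl hpow x hxe

theorem main (hp : p ≠ 2) (h1 : p ∣ Fintype.card F - 1) (h2 : ¬ p ^ 2 ∣ Fintype.card F - 1) :
    ∃ Q : Sylow p (Matrix.GeneralLinearGroup (Fin p) F), ∀ x : Matrix.GeneralLinearGroup (Fin p) F,
      (∃ k : ℕ, orderOf x = p ^ k) → ∃ P : Sylow p (Matrix.GeneralLinearGroup (Fin p) F), P ≠ Q ∧ x ∈ P := by
  haveI := finite_GL (F := F) p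
  obtain ⟨Q, hQ⟩ := exists_sylow (F := F) p hp h1 h2
  refine ⟨Q, fun x hx => ?_⟩
  obtain ⟨k, hk⟩ := hx
  have hpg : IsPGroup p (Subgroup.zpowers x) := by
    apply IsPGroup.of_card (n := k)
    rw [Nat.card_zpowers, hk]
  obtain ⟨P0, hP0⟩ := hpg.exists_le_sylow
  have hxP0 : x ∈ P0 := hP0 (Subgroup.mem_zpowers x)
  by_cases hPQ : P0 = Q
  · have hxQ : x ∈ Q0 F p := by
      rw [← hQ, ← hPQ]; exact hxP0
    obtain ⟨c, hc, t, ht, hct⟩ := good_of_mem p hp h1 hxQ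
    have hmem : ∀ y : Matrix.GeneralLinearGroup (Fin p) F, y ∈ c • Q ↔ c⁻¹ * y * c ∈ Q0 F p := by
      intro y
      change y ∈ ((c • Q : Sylow p (Matrix.GeneralLinearGroup (Fin p) F)) :
        Subgroup (Matrix.GeneralLinearGroup (Fin p) F)) ↔ _
      rw [← hQ, Sylow.coe_subgroup_smul, Subgroup.mem_pointwise_smul_iff_inv_smul_mem,
        ← map_inv, MulAut.smul_def, MulAut.conj_apply, inv_inv]
    refine ⟨c • Q, ?_, ?_⟩
    · intro h
      apply hct
      have h3 : c * t * c⁻¹ ∈ c • Q := by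
        rw [hmem]
        have : c⁻¹ * (c * t * c⁻¹) * c = t := by group
        rw [this]; exact ht
      rw [h] at h3
      rw [← hQ]
      exact h3
    · exact (hmem x).2 hc
  · exact ⟨P0, hPQ, hxP0⟩

end Cfsg.Agent.Lib.H13RSMain
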