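import Cfsg.Agent.Lib.Helper24BG
import Cfsg.Agent.Lib.Helper3Chain

/-!
Bender-Glauberman sections 8-9: more ambient API (normal elementary abelian subgroups of order p^2).
-/

set_option autoImplicit false
open Cfsg

namespace Cfsg.Agent.Lib.Helper24BG2

open Subgroup
open Cfsg.Agent.Lib.Helper30Trans
open Cfsg.Agent.Lib.Helper24BG

universe u
variable {G : Type u} [Group G]

theorem not_rankLE_of_elemAb {p k : ℕ} (hp : p.Prime) {X B : Subgroup G} (hBX : B ≤ X)
    (hB : IsElementaryAbelian p B) (hc : p ^ k < Nat.card B) : ¬ RankLE k X :=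
  fun h => not_rank_of_elemAb hBX hB hc (h p hp)

variable [Finite G] {p : ℕ} [Fact p.Prime]

/-- a noncyclic `p`-subgroup, `p` odd, has a normal elementary abelian subgroup of order `p^2`. -/
theorem exists_normal_sq (hp2 : p ≠ 2) {P : Subgroup G} (hP : IsPGroup p P) (hnc : ¬ IsCyclic P) :
    ∃ W : Subgroup G, W ≤ P ∧ P ≤ normalizer (W : Set G) ∧ IsElementaryAbelian p W ∧
      Nat.card W = p ^ 2 := by
  obtain ⟨W, hWn, hWe, hWc⟩ := Cfsg.Agent.Lib.Helper3RankTwo.main hp2 (Nat.card P) P le_rfl hP hnc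
  refine ⟨W.map P.subtype, map_subtype_le W, ?_, ⟨⟨⟨?_⟩⟩, ?_⟩, ?_⟩
  · exact Cfsg.Agent.Lib.Helper37Cores.le_normalizer_map_subtype W
  · rintro ⟨_, a, ha, rfl⟩ ⟨_, b, hb, rfl⟩
    apply Subtype.ext
    have := congrArg Subtype.val (hWe.1.is_comm.comm ⟨a, ha⟩ ⟨b, hb⟩)
    exact congrArg (Subtype.val : P → G) this
  · rintro _ ⟨a, ha, rfl⟩
    have := hWe.2 a ha
    exact congrArg Subtype.val this
  · rw [card_map_of_injective P.subtype_injective, hWc]

theorem card_le_mul_inf_centralizer {P W E : Subgroup G} (hP : IsPGroup p P) (hWP : W ≤ P)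
    (hn : P ≤ normalizer (W : Set G)) (hWc : Nat.card W = p ^ 2) (hEP : E ≤ P) :
    Nat.card E ≤ Nat.card (E ⊓ centralizer (W : Set G) : Subgroup G) * p := by
  have hpp : p.Prime := Fact.out
  have hN : (W.subgroupOf P).Normal := (normal_subgroupOf_iff_le_normalizer hWP).mpr hn
  have hc : Nat.card (W.subgroupOf P) = p ^ 2 := by
    rw [← hWc]
    exact Nat.card_congr (subgroupOfEquivOfLe hWP).toEquiv
  have h1 := Cfsg.Agent.Lib.Helper3Chain.index_centralizer_normal_le hP (W.subgroupOf P) 2 hc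
  have h2 : centralizer ((W.subgroupOf P : Subgroup P) : Set P) = (centralizer (W : Set G)).subgroupOf P := by
    ext x
    rw [mem_subgroupOf, mem_centralizer_iff, mem_centralizer_iff]
    constructor
    · intro h w hw
      exact congrArg Subtype.val (h ⟨w, hWP hw⟩ (mem_subgroupOf.mpr hw))
    · intro h w hw
      exact Subtype.ext (h w (mem_subgroupOf.mp hw))
  rw [h2] at h1
  have h3 : (centralizer (W : Set G)).relIndex P ≤ p := by
    have : 2 * (2 - 1) / 2 = 1 := by norm_num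
    rw [this, pow_one] at h1
    exact h1
  have h4 : (centralizer (W : Set G)).relIndex E ≤ p :=
    (relIndex_le_of_le_right hEP (index_ne_zero_of_finite)).trans h3
  have h5 := relIndex_mul_relIndex ⊥ (E ⊓ centralizer (W : Set G)) E bot_le inf_le_left
  rw [relIndex_bot_left, relIndex_bot_left, inf_relIndex_left] at h5
  rw [← h5]
  exact Nat.mul_le_mul_left _ h4

/-- Sylow: a `p`-subgroup of `X` is `X`-conjugate into a given Sylow `p`-subgroup of `X`. -/
theorem exists_cj_le {P X E : Subgroup G} (hP : IsSyl p P X) (hE : IsPGroup p E) (hEX : E ≤ X) :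
    ∃ g ∈ X, cj g E ≤ P := by
  obtain ⟨h, hh⟩ := Cfsg.Agent.Lib.Helper37Sylow.exists_conj_mem_of_sylow X hP.toSylow E hE hEX
  refine ⟨h, h.2, ?_⟩
  rintro _ ⟨q, hq, rfl⟩
  exact mem_subgroupOf.mp (hh q hq)

end Cfsg.Agent.Lib.Helper24BG2
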