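import Mathlib
import Cfsg.Agent.Lib.H14AbDefs
import Cfsg.Agent.Lib.H14AbOrdP
import Cfsg.Agent.Lib.H14AbNoE
import Cfsg.Agent.Lib.Helper24BG2

set_option autoImplicit false

/-! PROJECT 3911 = AB (row S3911, 3u), piece `Cyc` (est. 35m).  Keep file name, namespace, theorem name and statement; extra helper lemmas are fine.
Overview: notes/helper14/Ab/README.md. -/

namespace Cfsg.Agent.Lib.H14AbCyc

open Cfsg Cfsg.Agent.Lib.H14AbDefs

/-- `orderOf y = p ^ k`; `k ≠ 0` (`y ≠ 1` as `1 ∈ M`), `k ≠ 1` (`H14AbOrdP.mem_of_orderOf`), so `x := y ^ (p ^ (k - 2))` has order `p ^ 2` (`orderOf_pow_of_dvd` / `orderOf_pow'`, `Nat.pow_div`).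
If `R` is not cyclic, `Cfsg.Agent.Lib.Helper24BG2.exists_normal_sq hp2 hR hnc` gives an elementary abelian `W` with `Nat.card W = p ^ 2`: contradiction with `H14AbNoE.no_elem hB x hx W hWe.1 hWe.2` (`Cfsg.IsElementaryAbelian p W = (IsMulCommutative W ∧ ∀ a ∈ W, a ^ p = 1)`). -/
theorem cyclic_of {G : Type*} [Group G] [Finite G] (hB : HB G) (M : Subgroup G) [M.Normal] {p : ℕ}
    [Fact p.Prime] (hp2 : p ≠ 2) (hp : p ∣ Nat.card M) (y : G) (k : ℕ) (hy : orderOf y = p ^ k) (hyM : y ∉ M)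
    (R : Subgroup G) (hR : IsPGroup p R) : IsCyclic R := by
  have hpp : p.Prime := Fact.out
  have hk0 : k ≠ 0 := by
    rintro rfl
    rw [pow_zero, orderOf_eq_one_iff] at hy
    exact hyM (hy ▸ M.one_mem)
  have hk1 : k ≠ 1 := by
    rintro rfl
    rw [pow_one] at hy
    exact hyM (H14AbOrdP.mem_of_orderOf hB M hp y hy)
  have hk2 : 2 ≤ k := by omega
  have hx : orderOf (y ^ (p ^ (k - 2))) = p ^ 2 := by
    rw [orderOf_pow_of_dvd (pow_ne_zero _ hpp.ne_zero) (by rw [hy]; exact pow_dvd_pow p (Nat.sub_le _ _)),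
      hy, Nat.pow_div (Nat.sub_le _ _) hpp.pos]
    congr 1
    omega
  by_contra hnc
  obtain ⟨W, -, -, hWe, hWc⟩ := Cfsg.Agent.Lib.Helper24BG2.exists_normal_sq hp2 hR hnc
  exact H14AbNoE.no_elem hB _ hx W hWe.1 hWe.2 hWc

end Cfsg.Agent.Lib.H14AbCyc
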