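import Mathlib
import Cfsg.Agent.Lib.H14AbDefs
import Cfsg.Agent.Lib.H14AbCyc
import Cfsg.Agent.Lib.H14AbSylInf
import Cfsg.Agent.Lib.H14AbChain

set_option autoImplicit false

/-! PROJECT 3911 = AB (row S3911, 3u), piece `Inf` (est. 35m).  Keep file name, namespace, theorem name and statement; extra helper lemmas are fine.
Overview: notes/helper14/Ab/README.md. -/

namespace Cfsg.Agent.Lib.H14AbInf

open Cfsg Cfsg.Agent.Lib.H14AbDefs

/-- Pick `y ∈ R`, `y ∉ M` (`SetLike.not_le_iff_exists`); `orderOf y = p ^ k` (`hR.orderOf`-type lemma: `(IsPGroup.iff_orderOf.1 hR ⟨y, _⟩)`, `Subgroup.orderOf_mk`).  `R` is cyclic by `H14AbCyc.cyclic_of`.  Let `P` be a Sylow `p`-subgroup with `R ≤ P` (`IsPGroup.exists_le_sylow`);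
`P` is cyclic too (`cyclic_of` with `P.isPGroup'`).  `H14AbChain.le_or_le` for `R` and `P ⊓ M`: `R ≤ P ⊓ M` contradicts `hRM`; so `P ⊓ M ≤ R ⊓ M` and `Subgroup.card_dvd_of_le` with `H14AbSylInf.card_sylow_inf`. -/
theorem card_inf {G : Type*} [Group G] [Finite G] (hB : HB G) (M : Subgroup G) [M.Normal] {p : ℕ}
    [Fact p.Prime] (hp2 : p ≠ 2) (hp : p ∣ Nat.card M) (R : Subgroup G) (hR : IsPGroup p R) (hRM : ¬ R ≤ M) :
    IsCyclic R ∧ p ^ (Nat.card M).factorization p ∣ Nat.card ↥(R ⊓ M) := by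
  obtain ⟨y, hyR, hyM⟩ := SetLike.not_le_iff_exists.1 hRM
  obtain ⟨k, hk⟩ := IsPGroup.iff_orderOf.1 hR ⟨y, hyR⟩
  rw [Subgroup.orderOf_mk] at hk
  have hRc : IsCyclic R := H14AbCyc.cyclic_of hB M hp2 hp y k hk hyM R hR
  refine ⟨hRc, ?_⟩
  obtain ⟨P, hRP⟩ := hR.exists_le_sylow
  have hPc : IsCyclic (P : Subgroup G) := H14AbCyc.cyclic_of hB M hp2 hp y k hk hyM P P.isPGroup'
  rcases H14AbChain.le_or_le (P : Subgroup G) P.isPGroup' hPc R ((P : Subgroup G) ⊓ M) hRP inf_le_left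
    with h1 | h1
  · exact absurd (h1.trans inf_le_right) hRM
  · rw [← H14AbSylInf.card_sylow_inf M P]
    exact Subgroup.card_dvd_of_le (le_inf h1 inf_le_right)

end Cfsg.Agent.Lib.H14AbInf
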