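import Mathlib
import Cfsg.Agent.Lib.H14AbDefs
import Cfsg.Agent.Lib.H14AbSylN
import Cfsg.Agent.Lib.H14AbSylBot
import Cfsg.Agent.Lib.H14AbComm
import Cfsg.Agent.Lib.H14AbInf

set_option autoImplicit false

/-! PROJECT 3911 = AB (row S3911, 3u), piece `LiftComm`. -/

namespace Cfsg.Agent.Lib.H14AbLiftComm

open Cfsg Cfsg.Agent.Lib.H14AbDefs
open scoped commutatorElement

theorem comm_of_cyclic {R : Type*} [Group R] (h : IsCyclic R) (a b : R) : a * b = b * a := by
  obtain ⟨g, hg⟩ := h.exists_generator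
  obtain ⟨i, rfl⟩ := Subgroup.mem_zpowers_iff.1 (hg a)
  obtain ⟨j, rfl⟩ := Subgroup.mem_zpowers_iff.1 (hg b)
  rw [← zpow_add, ← zpow_add, add_comm]

theorem lift_comm {G : Type*} [Group G] [Finite G] (hB : HB G) (M : Subgroup G) [M.Normal]
    (hM : Odd (Nat.card M)) (A : Subgroup G) (hc : ⁅A, A⁆ ≤ M) (h : MinS ↥A (M.subgroupOf A)) :
    IsMulCommutative ↥A := by
  refine ⟨⟨?_⟩⟩
  apply H14AbComm.comm_of_sylow
  · intro p _ Q
    exact H14AbSylN.sylow_normal h p Q
  · intro p hpf Q x hx y hy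
    have hpp : p.Prime := hpf.out
    obtain ⟨R, hRdef⟩ : ∃ R : Subgroup G, R = (Q : Subgroup ↥A).map A.subtype := ⟨_, rfl⟩
    have hR : IsPGroup p R := by rw [hRdef]; exact Q.isPGroup'.map _
    have hxR : (x : G) ∈ R := by rw [hRdef]; exact ⟨x, hx, rfl⟩
    have hyR : (y : G) ∈ R := by rw [hRdef]; exact ⟨y, hy, rfl⟩
    by_cases hp : p ∣ Nat.card M
    · have hp2 : p ≠ 2 := by
        rintro rfl
        exact (Nat.not_even_iff_odd.2 hM) (even_iff_two_dvd.2 hp)
      by_cases hRM : R ≤ M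
      · have hQ : (Q : Subgroup ↥A) ≤ M.subgroupOf A := by
          intro z hz
          apply Subgroup.mem_subgroupOf.2
          apply hRM
          rw [hRdef]
          exact ⟨z, hz, rfl⟩
        have hbot := H14AbSylBot.sylow_eq_bot h p Q hQ
        have hx1 : x = 1 := by
          have : x ∈ (⊥ : Subgroup ↥A) := hbot ▸ hx
          exact Subgroup.mem_bot.1 this
        rw [hx1, one_mul, mul_one]
      · obtain ⟨hcyc, -⟩ := H14AbInf.card_inf hB M hp2 hp R hR hRM
        have h1 := comm_of_cyclic hcyc ⟨x, hxR⟩ ⟨y, hyR⟩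
        have h2 : (x : G) * (y : G) = (y : G) * (x : G) := congrArg Subtype.val h1
        exact Subtype.ext h2
    · -- the commutator is a `p`-element of `M`
      have hcM : ⁅(x : G), (y : G)⁆ ∈ M :=
        hc (Subgroup.commutator_mem_commutator x.2 y.2)
      have hcR : ⁅(x : G), (y : G)⁆ ∈ R := by
        rw [commutatorElement_def]
        exact R.mul_mem (R.mul_mem (R.mul_mem hxR hyR) (R.inv_mem hxR)) (R.inv_mem hyR)
      obtain ⟨k, hk⟩ := hR ⟨_, hcR⟩
      have hk' : ⁅(x : G), (y : G)⁆ ^ p ^ k = 1 := congrArg Subtype.val hk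
      have h1 : orderOf ⁅(x : G), (y : G)⁆ ∣ p ^ k := orderOf_dvd_of_pow_eq_one hk'
      have h2 : orderOf ⁅(x : G), (y : G)⁆ ∣ Nat.card M := by
        have := orderOf_dvd_natCard (⟨_, hcM⟩ : M)
        rwa [Subgroup.orderOf_mk] at this
      have hcop : Nat.Coprime (p ^ k) (Nat.card M) :=
        Nat.Coprime.pow_left k ((Nat.Prime.coprime_iff_not_dvd hpp).2 hp)
      have h3 : orderOf ⁅(x : G), (y : G)⁆ = 1 := Nat.eq_one_of_dvd_coprimes hcop h1 h2
      have h4 : ⁅(x : G), (y : G)⁆ = 1 := orderOf_eq_one_iff.1 h3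
      apply Subtype.ext
      exact commutatorElement_eq_one_iff_mul_comm.1 h4

end Cfsg.Agent.Lib.H14AbLiftComm
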