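import Mathlib
import Cfsg.Agent.Lib.H14AbDefs
import Cfsg.Agent.Lib.H14AbMinEx
import Cfsg.Agent.Lib.H14AbMinTr
import Cfsg.Agent.Lib.H14AbLiftComm
import Cfsg.Agent.Lib.H14AbFacA
import Cfsg.Agent.Lib.H14AbFacB

set_option autoImplicit false

/-! PROJECT 3911 = AB (row S3911, 3u), piece `Lift`. -/

namespace Cfsg.Agent.Lib.H14AbLift

open Cfsg Cfsg.Agent.Lib.H14AbDefs
open scoped commutatorElement

theorem index_subgroupOf_eq {G : Type*} [Group G] (M : Subgroup G) [M.Normal] (A : Subgroup G) :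
    (M.subgroupOf A).index = Nat.card ↥(A.map (QuotientGroup.mk' M)) := by
  have hker : ((QuotientGroup.mk' M).comp A.subtype).ker = M.subgroupOf A := by
    ext x
    rw [MonoidHom.mem_ker, Subgroup.mem_subgroupOf]
    exact QuotientGroup.eq_one_iff _
  have hrange : ((QuotientGroup.mk' M).comp A.subtype).range = A.map (QuotientGroup.mk' M) := by
    rw [MonoidHom.range_comp, Subgroup.range_subtype]
  rw [← hker, Subgroup.index_ker, hrange]

theorem exists_lift {G : Type*} [Group G] [Finite G] (hB : HB G) (M : Subgroup G) [M.Normal]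
    (hM : Odd (Nat.card M)) (Ab : Subgroup (G ⧸ M)) (hAb : IsMulCommutative ↥Ab) :
    ∃ A : Subgroup G, IsMulCommutative ↥A ∧ A.map (QuotientGroup.mk' M) = Ab ∧
      ∀ p : ℕ, p.Prime → (Nat.card ↥A).factorization p =
        if p ∣ Nat.card ↥Ab then (Nat.card ↥Ab).factorization p + (Nat.card M).factorization p else 0 := by
  obtain ⟨L, hL⟩ : ∃ L : Subgroup G, L = Ab.comap (QuotientGroup.mk' M) := ⟨_, rfl⟩
  have hML : M ≤ L := by
    intro x hx
    rw [hL, Subgroup.mem_comap]
    have : QuotientGroup.mk' M x = 1 := (QuotientGroup.eq_one_iff x).2 hx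
    rw [this]; exact Ab.one_mem
  obtain ⟨A, hAL, hsup, hmin⟩ := H14AbMinEx.exists_min M L
  have hMbot : M.map (QuotientGroup.mk' M) = ⊥ := by
    rw [eq_bot_iff]
    rintro _ ⟨x, hx, rfl⟩
    exact Subgroup.mem_bot.2 ((QuotientGroup.eq_one_iff x).2 hx)
  have hmap : A.map (QuotientGroup.mk' M) = Ab := by
    have h1 : (A ⊔ M).map (QuotientGroup.mk' M) = A.map (QuotientGroup.mk' M) := by
      rw [Subgroup.map_sup, hMbot, sup_bot_eq]
    have h2 : (L ⊔ M).map (QuotientGroup.mk' M) = Ab := by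
      rw [sup_eq_left.2 hML, hL]
      exact Subgroup.map_comap_eq_self_of_surjective (QuotientGroup.mk'_surjective M) Ab
    rw [← h1, hsup, h2]
  have hc : ⁅A, A⁆ ≤ M := by
    rw [Subgroup.commutator_le]
    intro x hx y hy
    have hx' : QuotientGroup.mk' M x ∈ Ab := hmap ▸ Subgroup.mem_map_of_mem _ hx
    have hy' : QuotientGroup.mk' M y ∈ Ab := hmap ▸ Subgroup.mem_map_of_mem _ hy
    have hcomm : QuotientGroup.mk' M x * QuotientGroup.mk' M y =
        QuotientGroup.mk' M y * QuotientGroup.mk' M x := by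
      have := hAb.is_comm.comm (⟨_, hx'⟩ : Ab) ⟨_, hy'⟩
      exact congrArg Subtype.val this
    apply (QuotientGroup.eq_one_iff _).1
    show QuotientGroup.mk' M ⁅x, y⁆ = 1
    rw [map_commutatorElement]
    exact commutatorElement_eq_one_iff_mul_comm.2 hcomm
  have hS : MinS ↥A (M.subgroupOf A) := by
    apply H14AbMinTr.minS_of M A hc
    intro K hK hKM
    exact hmin K hK (hKM.trans hsup)
  have hidx : (M.subgroupOf A).index = Nat.card ↥Ab := by
    rw [index_subgroupOf_eq, hmap]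
  refine ⟨A, H14AbLiftComm.lift_comm hB M hM A hc hS, hmap, ?_⟩
  intro p hp
  haveI : Fact p.Prime := ⟨hp⟩
  split_ifs with hd
  · rw [← hidx]
    exact H14AbFacB.fac_eq hB M hM A hS p (hidx ▸ hd)
  · apply Nat.factorization_eq_zero_of_not_dvd
    exact H14AbFacA.not_dvd M A hS p (hidx ▸ hd)

end Cfsg.Agent.Lib.H14AbLift
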