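import Mathlib
import Cfsg.Agent.Lib.H14AcDefs
import Cfsg.Agent.Lib.H14AbInf

set_option autoImplicit false

/-! PROJECT 3912 = AC (row S3912, 3u), piece `HIodd` (est. 15m).  Keep file name, namespace, theorem name and statement; extra helper lemmas are fine.
Overview: notes/helper14/Ac/README.md.  Vocabulary: Lib/H14AbDefs (HB, MinS), Lib/H14AcDefs (LiftP, HI, QD, XH). -/

namespace Cfsg.Agent.Lib.H14AcHIodd

open Cfsg Cfsg.Agent.Lib.H14AbDefs Cfsg.Agent.Lib.H14AcDefs

/-- `H14AbInf.card_inf hB M hp2 hp R hR hRM` gives `IsCyclic R` (so `R` is commutative: generator, `zpow` commute; `IsCyclic.commGroup`, `mul_comm`) and the divisibility. -/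
theorem hi_odd {G : Type*} [Group G] [Finite G] (hB : HB G) (M : Subgroup G) [M.Normal] (p : ℕ) [Fact p.Prime]
    (hp2 : p ≠ 2) (hp : p ∣ Nat.card M) (A : Subgroup G) : HI M A p := by
  intro R _ hR hRM
  obtain ⟨hc, hd⟩ := H14AbInf.card_inf hB M hp2 hp R hR hRM
  refine ⟨?_, hd⟩
  intro x hx y hy
  have := hc.isMulCommutative.is_comm.comm ⟨x, hx⟩ ⟨y, hy⟩
  exact congrArg Subtype.val this

end Cfsg.Agent.Lib.H14AcHIodd
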