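import Mathlib
import Cfsg.Prelude.Def_Solvable
import Cfsg.Prelude.Def_CaseTheorems
import Cfsg.Agent.Lib.Helper1Fitting
import Cfsg.Agent.Lib.Helper28Fitting
import Cfsg.Agent.S0044

set_option autoImplicit false

/-! A criterion for `G' ≤ F(G)` in a finite solvable group. -/

namespace Cfsg.Agent.Lib.Helper3DerFit

open Cfsg

variable {G : Type*} [Group G]

theorem mem_of_pow_mem_coprime {H : Subgroup G} {x : G} {a b : ℕ} (hab : a.Coprime b)
    (ha : x ^ a ∈ H) (hb : x ^ b ∈ H) : x ∈ H := by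
  have h := Nat.gcd_eq_gcd_ab a b
  rw [hab] at h
  have h2 : x = (x ^ a) ^ (a.gcdA b) * (x ^ b) ^ (a.gcdB b) := by
    rw [← zpow_natCast, ← zpow_natCast, ← zpow_mul, ← zpow_mul, ← zpow_add, ← h]
    simp
  rw [h2]
  exact H.mul_mem (H.zpow_mem ha _) (H.zpow_mem hb _)

theorem mem_of_mem_sup_coprime {A B : Subgroup G} [B.Normal] {x : G} (hx : x ∈ A ⊔ B)
    (hc : (orderOf x).Coprime (Nat.card A)) : x ∈ B := by
  obtain ⟨a, ha, b, hb, rfl⟩ := Subgroup.mem_sup_of_normal_right.mp hx
  apply mem_of_pow_mem_coprime hc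
  · rw [pow_orderOf_eq_one]; exact B.one_mem
  · rw [← QuotientGroup.eq_one_iff, QuotientGroup.mk_pow, QuotientGroup.mk_mul,
      (QuotientGroup.eq_one_iff b).mpr hb, mul_one, ← QuotientGroup.mk_pow]
    have h1 : a ^ Nat.card A = 1 := by
      have := pow_card_eq_one' (G := A) (x := ⟨a, ha⟩)
      exact congrArg Subtype.val this
    rw [h1]; rfl

theorem mem_centralizer_iSup {ι : Sort*} (f : ι → Subgroup G) (w : G)
    (h : ∀ i, w ∈ Subgroup.centralizer (f i : Set G)) :
    w ∈ Subgroup.centralizer ((⨆ i, f i : Subgroup G) : Set G) := by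
  have h1 : (⨆ i, f i) ≤ Subgroup.centralizer ({w} : Set G) := by
    refine iSup_le fun i x hx => ?_
    rw [Subgroup.mem_centralizer_singleton_iff]
    exact (Subgroup.mem_centralizer_iff.mp (h i) x hx)
  rw [Subgroup.mem_centralizer_iff]
  intro x hx
  exact (Subgroup.mem_centralizer_singleton_iff.mp (h1 hx))

/-- The product of the `O_t(G)` for the primes `t ≠ r`. -/
def offCore (r : ℕ) (G : Type*) [Group G] : Subgroup G :=
  ⨆ t : {t : Nat.Primes // (t : ℕ) ≠ r}, pCore (t.1 : ℕ) G

theorem offCore_prop [Finite G] (r : ℕ) [hr : Fact r.Prime] :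
    (offCore r G).Normal ∧ (Nat.card (offCore r G)).Coprime r := by
  apply Helper1Fitting.coprime_card_iSup
  rintro ⟨t, ht⟩
  refine ⟨inferInstance, ?_⟩
  haveI : Fact (t : ℕ).Prime := ⟨t.2⟩
  obtain ⟨k, hk⟩ := (Helper1Fitting.pCore_isPGroup (G := G) (t : ℕ)).exists_card_eq
  rw [hk]
  exact Nat.Coprime.pow_left k ((Nat.coprime_primes t.2 hr.out).mpr ht)

theorem fitting_le_sup [Finite G] (r : ℕ) :
    fittingSubgroup G ≤ pCore r G ⊔ offCore r G := by
  rw [Helper1Fitting.fitting_eq_iSup_pCore]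
  refine iSup_le fun t => ?_
  by_cases h : (t : ℕ) = r
  · rw [h]; exact le_sup_left
  · exact le_trans (le_iSup (fun t : {t : Nat.Primes // (t : ℕ) ≠ r} => pCore (t.1 : ℕ) G) ⟨t, h⟩)
      le_sup_right

theorem mem_pCore_of_mem_fitting [Finite G] (r : ℕ) [hr : Fact r.Prime] {x : G}
    (hx : x ∈ fittingSubgroup G) {k : ℕ} (hk : x ^ r ^ k = 1) : x ∈ pCore r G := by
  have h1 := fitting_le_sup r hx
  rw [sup_comm] at h1
  apply mem_of_mem_sup_coprime h1
  obtain ⟨j, _, hj⟩ := (Nat.dvd_prime_pow hr.out).mp (orderOf_dvd_of_pow_eq_one hk)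
  rw [hj]
  exact Nat.Coprime.pow_left j (offCore_prop (G := G) r).2.symm

theorem mem_offCore_of_mem_fitting [Finite G] (r : ℕ) [hr : Fact r.Prime] {x : G}
    (hx : x ∈ fittingSubgroup G) (hk : (orderOf x).Coprime r) : x ∈ offCore r G := by
  have h1 := fitting_le_sup r hx
  haveI := (offCore_prop (G := G) r).1
  apply mem_of_mem_sup_coprime h1
  obtain ⟨k, hk'⟩ := (Helper1Fitting.pCore_isPGroup (G := G) r).exists_card_eq
  rw [hk']
  exact Nat.Coprime.pow_right k hk

theorem coprime_of_pow_eq_one {r t k : ℕ} (hr : r.Prime) (ht : t.Prime) (hne : t ≠ r) {x : G}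
    (hk : x ^ r ^ k = 1) : (orderOf x).Coprime t := by
  obtain ⟨j, _, hj⟩ := (Nat.dvd_prime_pow hr).mp (orderOf_dvd_of_pow_eq_one hk)
  rw [hj]
  exact Nat.Coprime.pow_left j ((Nat.coprime_primes hr ht).mpr hne.symm)

/-- If for every prime `t` the `t'`-elements of `G'` centralize `O_t(G)`, then `G' ≤ F(G)`. -/
theorem commutator_le_fitting [Finite G] [Group.IsSolvable G]
    (H : ∀ t : ℕ, t.Prime → ∀ k ∈ commutator G, (orderOf k).Coprime t →
      k ∈ Subgroup.centralizer (pCore t G : Set G)) :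
    commutator G ≤ fittingSubgroup G := by
  have key : ∀ r : ℕ, r.Prime → ∀ x ∈ commutator G, ∀ k : ℕ, x ^ r ^ k = 1 →
      x ∈ fittingSubgroup G := by
    intro r hr x hx k hk
    haveI : Fact r.Prime := ⟨hr⟩
    haveI hon := (offCore_prop (G := G) r).1
    set Y : Subgroup G := commutator G ⊓ Subgroup.centralizer (offCore r G : Set G) with hY
    have hYn : Y.Normal := inferInstance
    have hcent : ∀ w ∈ Y, (orderOf w).Coprime r → ∀ y ∈ Y, y * w = w * y := by
      intro w hw hwr y hy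
      have h1 : w ∈ Subgroup.centralizer (fittingSubgroup G : Set G) := by
        rw [Helper1Fitting.fitting_eq_iSup_pCore]
        apply mem_centralizer_iSup
        intro t
        by_cases h : (t : ℕ) = r
        · rw [h]; exact H r hr w hw.1 hwr
        · exact Subgroup.centralizer_le
            (le_iSup (fun t : {t : Nat.Primes // (t : ℕ) ≠ r} => pCore (t.1 : ℕ) G) ⟨t, h⟩) hw.2
      have h2 : w ∈ fittingSubgroup G := Cfsg.Agent.S0044.result h1
      have h3 := mem_offCore_of_mem_fitting r h2 hwr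
      exact (Subgroup.mem_centralizer_iff.mp hy.2 w h3).symm
    have hYnil : Group.IsNilpotent Y := by
      apply Group.of_quotient_center_nilpotent
      have hp : IsPGroup r (Y ⧸ Subgroup.center Y) := by
        intro a
        obtain ⟨a, rfl⟩ := QuotientGroup.mk_surjective a
        obtain ⟨j, m, hm, hjm⟩ :=
          Nat.exists_eq_pow_mul_and_not_dvd (orderOf_pos a).ne' r hr.ne_one
        refine ⟨j, ?_⟩
        rw [← QuotientGroup.mk_pow, QuotientGroup.eq_one_iff, Subgroup.mem_center_iff]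
        intro y
        apply Subtype.ext
        have h1 : orderOf (a ^ (r ^ j)) = m := by
          rw [orderOf_pow_of_dvd (pow_ne_zero _ hr.ne_zero) (hjm ▸ Dvd.intro _ rfl), hjm]
          exact Nat.mul_div_cancel_left _ (pow_pos hr.pos _)
        have h2 : (orderOf ((a ^ (r ^ j) : Y) : G)).Coprime r := by
          rw [Subgroup.orderOf_coe, h1, Nat.coprime_comm]
          exact (Nat.Prime.coprime_iff_not_dvd hr).mpr hm
        exact hcent _ (a ^ (r ^ j) : Y).2 h2 y y.2
      exact hp.isNilpotent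
    apply Helper1Fitting.le_fitting hYn hYnil
    refine ⟨hx, ?_⟩
    apply mem_centralizer_iSup
    rintro ⟨t, ht⟩
    exact H t t.2 x hx (coprime_of_pow_eq_one hr t.2 ht hk)
  intro d hd
  have h1 : (⊤ : Subgroup (commutator G)) ≤ (fittingSubgroup G).subgroupOf (commutator G) := by
    rw [← Helper28Fitting.iSup_sylow_eq_top (G := commutator G) (fun p => default)]
    refine iSup_le fun p x hx => ?_
    obtain ⟨k, hk⟩ := (default : Sylow (p : ℕ) (commutator G)).isPGroup' ⟨x, hx⟩
    rw [Subgroup.mem_subgroupOf]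
    apply key p p.2 x x.2 k
    have := congrArg Subtype.val hk
    exact congrArg Subtype.val this
  exact h1 (Subgroup.mem_top (⟨d, hd⟩ : commutator G))

end Cfsg.Agent.Lib.Helper3DerFit
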