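import Cfsg.Agent.Lib.Helper1Coprime

set_option autoImplicit false

namespace Cfsg.Agent.Lib.Helper1Hall

open Subgroup Pointwise Cfsg.Agent.Lib.Helper1Basic Cfsg.Agent.Lib.Helper1Coprime

universe u

section basic
variable {G : Type*} [Group G]

theorem card_mul_relIndex_of_le {M K : Subgroup G} (h : M ≤ K) :
    Nat.card M * M.relIndex K = Nat.card K := by
  have := relIndex_mul_relIndex ⊥ M K bot_le h
  rwa [relIndex_bot_left, relIndex_bot_left] at this

theorem card_sup_of_normal_of_disjoint {M B : Subgroup G} [M.Normal] (h : Disjoint M B) :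
    Nat.card (M ⊔ B : Subgroup G) = Nat.card M * Nat.card B := by
  rw [← card_mul_relIndex_of_le (le_sup_left : M ≤ M ⊔ B), relIndex_sup_left, ← inf_relIndex_right,
    h.eq_bot, relIndex_bot_left]

theorem card_map_mk'_mul_of_le {M H : Subgroup G} [M.Normal] (h : M ≤ H) :
    Nat.card M * Nat.card (H.map (QuotientGroup.mk' M)) = Nat.card H := by
  rw [← relIndex_ker, QuotientGroup.ker_mk', card_mul_relIndex_of_le h]

theorem card_map_mk'_of_disjoint {M H : Subgroup G} [M.Normal] (h : Disjoint M H) :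
    Nat.card (H.map (QuotientGroup.mk' M)) = Nat.card H := by
  rw [← relIndex_ker, QuotientGroup.ker_mk', ← inf_relIndex_right, h.eq_bot, relIndex_bot_left]

theorem card_comap_mk' {M : Subgroup G} [M.Normal] (H' : Subgroup (G ⧸ M)) :
    Nat.card (H'.comap (QuotientGroup.mk' M)) = Nat.card M * Nat.card H' := by
  have h1 : M ≤ H'.comap (QuotientGroup.mk' M) := by
    conv_lhs => rw [← QuotientGroup.ker_mk' M]
    exact ker_le_comap _ _
  rw [← card_map_mk'_mul_of_le h1,
    map_comap_eq_self_of_surjective (QuotientGroup.mk'_surjective M)]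

theorem card_quotient_mul {M : Subgroup G} :
    Nat.card M * Nat.card (G ⧸ M) = Nat.card G := by
  rw [mul_comm]; exact (card_eq_card_quotient_mul_card_subgroup M).symm

/-- a `p`-subgroup is conjugate into any subgroup of index prime to `p` -/
theorem exists_conj_mem_of_isPGroup_of_not_dvd_index (p : ℕ) [Fact p.Prime] {P H : Subgroup G}
    (hP : IsPGroup p P) (hH : ¬ p ∣ H.index) : ∃ g : G, ∀ x ∈ P, g⁻¹ * x * g ∈ H := by
  obtain ⟨q, hq⟩ := hP.nonempty_fixed_point_of_prime_not_dvd_card (G ⧸ H) (by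
    rw [← index_eq_card]; exact hH)
  obtain ⟨m, rfl⟩ := QuotientGroup.mk_surjective q
  refine ⟨m, fun x hx => ?_⟩
  have h1 := hq ⟨x, hx⟩
  have h2 : ((x * m : G) : G ⧸ H) = (m : G ⧸ H) := h1
  rw [eq_comm, QuotientGroup.eq] at h2
  rwa [← mul_assoc] at h2

theorem le_of_isPGroup_of_normal_of_not_dvd_index (p : ℕ) [Fact p.Prime] {P H : Subgroup G}
    [hn : P.Normal] (hP : IsPGroup p P) (hH : ¬ p ∣ H.index) : P ≤ H := by
  obtain ⟨g, hg⟩ := exists_conj_mem_of_isPGroup_of_not_dvd_index p hP hH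
  intro y hy
  have := hg _ (hn.conj_mem y hy g)
  simpa [mul_assoc] using this

end basic

/-- dominance (and existence) in Hall's theorem -/
theorem hallD (N : ℕ) : ∀ (G : Type u) [Group G] [Finite G] [Group.IsSolvable G], Nat.card G = N →
    ∀ m n : ℕ, Nat.card G = m * n → m.Coprime n → ∀ K : Subgroup G, (Nat.card K).Coprime n →
    ∃ H : Subgroup G, Nat.card H = m ∧ K ≤ H := by
  induction N using Nat.strong_induction_on with
  | _ N ih =>
  intro G _ _ _ hN m n hG hmn K hK
  rcases subsingleton_or_nontrivial G with hsub | hnt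
  · refine ⟨⊤, ?_, le_top⟩
    have h1 : Nat.card G = 1 := Nat.card_eq_one_iff_unique.mpr ⟨hsub, ⟨1⟩⟩
    rw [card_top, h1]
    rw [h1] at hG
    exact (Nat.eq_one_of_mul_eq_one_right hG.symm).symm
  obtain ⟨p, M, hp, hMn, hMne, hMp, hMc⟩ := Cfsg.Agent.S0001.exists_normal_pgroup G
  have : Fact p.Prime := ⟨hp⟩
  obtain ⟨a, ha⟩ := hMp.exists_card_eq
  have ha0 : a ≠ 0 := by
    rintro rfl
    rw [pow_zero] at ha
    exact hMne (Subgroup.card_eq_one.mp ha)
  have hpM : p ∣ Nat.card M := ha ▸ dvd_pow_self p ha0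
  have hMG : Nat.card M ∣ m * n := hG ▸ card_subgroup_dvd_card M
  have hlt : Nat.card (G ⧸ M) < N := hN ▸ card_quotient_lt_of_ne_bot hMne
  have hMpos : 0 < Nat.card M := Nat.card_pos
  let π := QuotientGroup.mk' M
  have hπ : Function.Surjective π := QuotientGroup.mk'_surjective M
  rcases (hp.dvd_mul).mp (hpM.trans hMG) with hpm | hpn
  · -- p ∣ m
    have hpn : ¬ p ∣ n := fun h => hp.one_lt.ne' (Nat.eq_one_of_dvd_coprimes hmn hpm h)
    have hcopM : (Nat.card M).Coprime n := by
      rw [ha]; exact Nat.Coprime.pow_left a ((hp.coprime_iff_not_dvd).mpr hpn)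
    obtain ⟨m', hm'⟩ := hcopM.dvd_of_dvd_mul_right hMG
    have hQ : Nat.card (G ⧸ M) = m' * n := by
      apply Nat.eq_of_mul_eq_mul_left hMpos
      rw [card_quotient_mul, hG, hm', mul_assoc]
    obtain ⟨H', hH', hKH'⟩ := ih _ hlt (G ⧸ M) rfl m' n hQ
      (Nat.Coprime.of_dvd_left (Dvd.intro_left _ hm'.symm) hmn) (K.map π)
      (Nat.Coprime.of_dvd_left (card_map_dvd K π) hK)
    refine ⟨H'.comap π, ?_, ?_⟩
    · rw [card_comap_mk', hH', hm']
    · exact (le_comap_map π K).trans (comap_mono hKH')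
  · -- p ∣ n
    have hpm : ¬ p ∣ m := fun h => hp.one_lt.ne' (Nat.eq_one_of_dvd_coprimes hmn h hpn)
    have hcopM : (Nat.card M).Coprime m := by
      rw [ha]; exact Nat.Coprime.pow_left a ((hp.coprime_iff_not_dvd).mpr hpm)
    obtain ⟨n', hn'⟩ := hcopM.dvd_of_dvd_mul_left hMG
    have hQ : Nat.card (G ⧸ M) = m * n' := by
      apply Nat.eq_of_mul_eq_mul_left hMpos
      rw [card_quotient_mul, hG, hn']; ring
    obtain ⟨H', hH', hKH'⟩ := ih _ hlt (G ⧸ M) rfl m n' hQ
      (Nat.Coprime.of_dvd_right (Dvd.intro_left _ hn'.symm) hmn) (K.map π)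
      (Nat.Coprime.of_dvd (card_map_dvd K π) (Dvd.intro_left _ hn'.symm) hK)
    set L : Subgroup G := H'.comap π with hL
    have hcardL : Nat.card L = Nat.card M * m := by rw [hL, card_comap_mk', hH']
    have hML : M ≤ L := by
      conv_lhs => rw [← QuotientGroup.ker_mk' M]
      exact ker_le_comap _ _
    have hKL : K ≤ L := (le_comap_map π K).trans (comap_mono hKH')
    have hMLn : (M.subgroupOf L).Normal := hMn.subgroupOf L
    have hidx : (M.subgroupOf L).index = m := by
      apply Nat.eq_of_mul_eq_mul_left hMpos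
      rw [← hcardL]
      exact card_mul_relIndex_of_le hML
    obtain ⟨H₀', hH₀'⟩ := exists_right_complement'_of_coprime (N := M.subgroupOf L) (by
      rw [hidx, card_subgroupOf_of_le hML]; exact hcopM)
    set H₀ : Subgroup G := H₀'.map L.subtype with hH₀
    have hcardH₀ : Nat.card H₀ = m := by
      rw [hH₀, card_map_of_injective L.subtype_injective, ← hH₀'.symm.index_eq_card, hidx]
    have hsup : M ⊔ H₀ = L := by
      have h1 := congrArg (Subgroup.map L.subtype) hH₀'.sup_eq_top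
      rwa [Subgroup.map_sup, map_subgroupOf_eq_of_le hML, ← MonoidHom.range_eq_map,
        range_subtype] at h1
    set A₁ : Subgroup G := H₀ ⊓ (M ⊔ K) with hA₁
    have hcopMK : (Nat.card M).Coprime (Nat.card K) :=
      (Nat.Coprime.of_dvd_right (Dvd.intro _ hn'.symm) hK).symm
    have hcopMA : (Nat.card M).Coprime (Nat.card A₁) :=
      Nat.Coprime.of_dvd_right (hcardH₀ ▸ card_dvd_of_le inf_le_left) hcopM
    have hKA : K ≤ M ⊔ A₁ := by
      intro k hk
      have h1 : k ∈ ((M ⊔ H₀ : Subgroup G) : Set G) := by rw [hsup]; exact hKL hk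
      rw [normal_mul] at h1
      obtain ⟨x, hx, y, hy, rfl⟩ := h1
      refine mul_mem (mem_sup_left hx) (mem_sup_right ⟨hy, ?_⟩)
      have e : y = x⁻¹ * (x * y) := by group
      rw [e]
      exact mul_mem (mem_sup_left (M.inv_mem hx)) (mem_sup_right hk)
    have hsupeq : M ⊔ A₁ = M ⊔ K :=
      le_antisymm (sup_le le_sup_left inf_le_right) (sup_le le_sup_left hKA)
    have hcardA : Nat.card K = Nat.card A₁ := by
      apply Nat.eq_of_mul_eq_mul_left hMpos
      rw [← card_sup_of_normal_of_disjoint (Subgroup.disjoint_of_coprime_natCard hcopMK),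
        ← card_sup_of_normal_of_disjoint (Subgroup.disjoint_of_coprime_natCard hcopMA), hsupeq]
    obtain ⟨x, -, hx⟩ := sz_rel (U := M) (A := A₁) (B := K)
      (by rw [normalizer_eq_top]; exact le_top) hcopMA.symm (Or.inl inferInstance) hKA hcardA
    refine ⟨MulAut.conj x⁻¹ • H₀, by rw [card_conj_smul, hcardH₀], fun k hk => ?_⟩
    rw [mem_conj_smul, inv_inv]
    exact (hx k hk).1

/-- conjugacy in Hall's theorem -/
theorem hallC (N : ℕ) : ∀ (G : Type u) [Group G] [Finite G] [Group.IsSolvable G], Nat.card G = N →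
    ∀ m n : ℕ, Nat.card G = m * n → m.Coprime n → ∀ H K : Subgroup G, Nat.card H = m →
    Nat.card K = m → ∃ g : G, ∀ x ∈ H, g * x * g⁻¹ ∈ K := by
  induction N using Nat.strong_induction_on with
  | _ N ih =>
  intro G _ _ _ hN m n hG hmn H K hH hK
  rcases subsingleton_or_nontrivial G with hsub | hnt
  · refine ⟨1, fun x _ => ?_⟩
    rw [Subsingleton.elim (1 * x * 1⁻¹) 1]; exact K.one_mem
  obtain ⟨p, M, hp, hMn, hMne, hMp, hMc⟩ := Cfsg.Agent.S0001.exists_normal_pgroup G
  have : Fact p.Prime := ⟨hp⟩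
  obtain ⟨a, ha⟩ := hMp.exists_card_eq
  have ha0 : a ≠ 0 := by
    rintro rfl
    rw [pow_zero] at ha
    exact hMne (Subgroup.card_eq_one.mp ha)
  have hpM : p ∣ Nat.card M := ha ▸ dvd_pow_self p ha0
  have hMG : Nat.card M ∣ m * n := hG ▸ card_subgroup_dvd_card M
  have hlt : Nat.card (G ⧸ M) < N := hN ▸ card_quotient_lt_of_ne_bot hMne
  have hMpos : 0 < Nat.card M := Nat.card_pos
  have hmpos : 0 < m := hH ▸ Nat.card_pos
  let π := QuotientGroup.mk' M
  have hπ : Function.Surjective π := QuotientGroup.mk'_surjective M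
  rcases (hp.dvd_mul).mp (hpM.trans hMG) with hpm | hpn
  · have hpn : ¬ p ∣ n := fun h => hp.one_lt.ne' (Nat.eq_one_of_dvd_coprimes hmn hpm h)
    have hcopM : (Nat.card M).Coprime n := by
      rw [ha]; exact Nat.Coprime.pow_left a ((hp.coprime_iff_not_dvd).mpr hpn)
    obtain ⟨m', hm'⟩ := hcopM.dvd_of_dvd_mul_right hMG
    have hQ : Nat.card (G ⧸ M) = m' * n := by
      apply Nat.eq_of_mul_eq_mul_left hMpos
      rw [card_quotient_mul, hG, hm', mul_assoc]
    have hidx : ∀ X : Subgroup G, Nat.card X = m → X.index = n := by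
      intro X hX
      apply Nat.eq_of_mul_eq_mul_left hmpos
      rw [← hG, ← hX, card_mul_index]
    have hle : ∀ X : Subgroup G, Nat.card X = m → M ≤ X := fun X hX =>
      le_of_isPGroup_of_normal_of_not_dvd_index p hMp (by rw [hidx X hX]; exact hpn)
    have hcardmap : ∀ X : Subgroup G, Nat.card X = m → Nat.card (X.map π) = m' := by
      intro X hX
      apply Nat.eq_of_mul_eq_mul_left hMpos
      rw [card_map_mk'_mul_of_le (hle X hX), hX, hm']
    obtain ⟨g', hg'⟩ := ih _ hlt (G ⧸ M) rfl m' n hQ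
      (Nat.Coprime.of_dvd_left (Dvd.intro_left _ hm'.symm) hmn) (H.map π) (K.map π)
      (hcardmap H hH) (hcardmap K hK)
    obtain ⟨g, rfl⟩ := hπ g'
    refine ⟨g, fun x hx => ?_⟩
    have h2 := hg' (π x) (mem_map_of_mem π hx)
    rw [← map_inv, ← map_mul, ← map_mul] at h2
    exact Cfsg.Agent.S0001.mem_of_mk_mem_map (hle K hK) h2
  · have hpm : ¬ p ∣ m := fun h => hp.one_lt.ne' (Nat.eq_one_of_dvd_coprimes hmn h hpn)
    have hcopM : (Nat.card M).Coprime m := by
      rw [ha]; exact Nat.Coprime.pow_left a ((hp.coprime_iff_not_dvd).mpr hpm)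
    obtain ⟨n', hn'⟩ := hcopM.dvd_of_dvd_mul_left hMG
    have hQ : Nat.card (G ⧸ M) = m * n' := by
      apply Nat.eq_of_mul_eq_mul_left hMpos
      rw [card_quotient_mul, hG, hn']; ring
    have hcardmap : ∀ X : Subgroup G, Nat.card X = m → Nat.card (X.map π) = m := by
      intro X hX
      rw [card_map_mk'_of_disjoint (Subgroup.disjoint_of_coprime_natCard (hX.symm ▸ hcopM)), hX]
    obtain ⟨g', hg'⟩ := ih _ hlt (G ⧸ M) rfl m n' hQ
      (Nat.Coprime.of_dvd_right (Dvd.intro_left _ hn'.symm) hmn) (H.map π) (K.map π)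
      (hcardmap H hH) (hcardmap K hK)
    obtain ⟨g, rfl⟩ := hπ g'
    have h1 : MulAut.conj g • H ≤ M ⊔ K := by
      intro y hy
      rw [mem_conj_smul] at hy
      have h2 := hg' (π _) (mem_map_of_mem π hy)
      rw [← map_inv, ← map_mul, ← map_mul] at h2
      have h3 : π (g * (g⁻¹ * y * g) * g⁻¹) ∈ (M ⊔ K).map π := map_mono le_sup_right h2
      have h4 := Cfsg.Agent.S0001.mem_of_mk_mem_map le_sup_left h3
      simpa [mul_assoc] using h4
    obtain ⟨x, -, hx⟩ := sz_rel (U := M) (A := K) (B := MulAut.conj g • H)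
      (by rw [normalizer_eq_top]; exact le_top) (hK.symm ▸ hcopM.symm) (Or.inl inferInstance) h1
      (by rw [card_conj_smul, hH, hK])
    refine ⟨x * g, fun y hy => ?_⟩
    have h5 := hx _ (conj_mem_conj_smul (g := g) hy)
    have e : x * g * y * (x * g)⁻¹ = x * (g * y * g⁻¹) * x⁻¹ := by group
    rw [e]; exact h5

end Cfsg.Agent.Lib.Helper1Hall
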