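import Mathlib
import Cfsg.Prelude.Def_Transfer
import Cfsg.Agent.Lib.Helper3PGroup
import Cfsg.Agent.Lib.Helper3RankTwo
import Cfsg.Agent.Lib.Helper3CyclicMax
import Cfsg.Agent.Lib.Helper3Alperin
import Cfsg.Agent.Lib.Helper3Chain
import Cfsg.Agent.Lib.Helper3OmegaRank

set_option autoImplicit false

namespace Cfsg.Agent.Lib.Helper3RelRank

universe u

open scoped commutatorElement

/-- image of an elementary abelian subgroup of a subgroup -/
theorem elemAb_map {p : ℕ} {R : Type*} [Group R] (H : Subgroup R) (E : Subgroup H)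
    (hE : Cfsg.IsElementaryAbelian p E) : Cfsg.IsElementaryAbelian p (E.map H.subtype) := by
  refine ⟨⟨⟨?_⟩⟩, ?_⟩
  · rintro ⟨_, a, ha, rfl⟩ ⟨_, b, hb, rfl⟩
    apply Subtype.ext
    have h1 : a * b = b * a := congrArg Subtype.val (hE.1.is_comm.comm ⟨a, ha⟩ ⟨b, hb⟩)
    show (a : R) * (b : R) = (b : R) * (a : R)
    exact congrArg Subtype.val h1
  · rintro _ ⟨a, ha, rfl⟩
    have := hE.2 a ha
    exact congrArg Subtype.val this

theorem elemAb_of_le {p : ℕ} {R : Type*} [Group R] {M N : Subgroup R} (h : M ≤ N)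
    (hc : ∀ a ∈ N, ∀ b ∈ N, a * b = b * a) (he : ∀ a ∈ N, a ^ p = 1) :
    Cfsg.IsElementaryAbelian p M :=
  ⟨⟨⟨fun a b => Subtype.ext (hc a (h a.2) b (h b.2))⟩⟩, fun a ha => he a (h ha)⟩

/-- Adjoining to a normal subgroup `B` an element central of order `p` modulo `B`. -/
theorem exists_step {p : ℕ} [hp : Fact p.Prime] {R : Type*} [Group R] [Finite R]
    (hR : IsPGroup p R) (B S : Subgroup R) [hBn : B.Normal] [hSn : S.Normal] (hBS : B ≤ S)
    (hne : B ≠ S) :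
    ∃ (x : R) (D : Subgroup R), x ∈ S ∧ x ∉ B ∧ (∀ g, ⁅x, g⁆ ∈ B) ∧ x ^ p ∈ B ∧ D.Normal ∧ B ≤ D ∧
      D ≤ S ∧ x ∈ D ∧ Nat.card D = p * Nat.card B ∧ ∀ y ∈ D, ∃ j : ℤ, ∃ b ∈ B, y = x ^ j * b := by
  have hNb : S.map (QuotientGroup.mk' B) ≠ ⊥ := by
    intro h
    apply hne
    refine le_antisymm hBS ?_
    intro w hw
    have : QuotientGroup.mk' B w ∈ S.map (QuotientGroup.mk' B) := Subgroup.mem_map_of_mem _ hw
    rw [h, Subgroup.mem_bot] at this
    exact (QuotientGroup.eq_one_iff w).mp this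
  haveI : (S.map (QuotientGroup.mk' B)).Normal := hSn.map _ (QuotientGroup.mk'_surjective B)
  obtain ⟨xb, hxbN, hxbZ, hxb1, hxbp⟩ :=
    Helper3PGroup.exists_central_order_p (hR.to_quotient B) _ hNb
  obtain ⟨x, hxS, rfl⟩ := hxbN
  have hxG : ∀ g, ⁅x, g⁆ ∈ B := (Helper3Alperin.mk_mem_center_iff B x).mp hxbZ
  have hKn : (Subgroup.zpowers (QuotientGroup.mk' B x)).Normal :=
    Helper3RankTwo.normal_of_le_center (by rw [Subgroup.zpowers_le]; exact hxbZ)
  have hdec : ∀ y ∈ (Subgroup.zpowers (QuotientGroup.mk' B x)).comap (QuotientGroup.mk' B),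
      ∃ j : ℤ, ∃ m ∈ B, y = x ^ j * m := by
    intro y hy
    obtain ⟨j, hj⟩ := Subgroup.mem_zpowers_iff.mp (Subgroup.mem_comap.mp hy)
    refine ⟨j, (x ^ j)⁻¹ * y, ?_, by group⟩
    rw [← QuotientGroup.eq]
    simpa using hj
  refine ⟨x, (Subgroup.zpowers (QuotientGroup.mk' B x)).comap (QuotientGroup.mk' B), hxS, ?_, hxG,
    ?_, hKn.comap _, ?_, ?_, ?_, ?_, hdec⟩
  · exact fun h => hxb1 ((QuotientGroup.eq_one_iff x).mpr h)
  · rw [← QuotientGroup.eq_one_iff, QuotientGroup.mk_pow]; exact hxbp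
  · intro b hb
    rw [Subgroup.mem_comap, (QuotientGroup.eq_one_iff b).mpr hb |> fun h =>
      (h : QuotientGroup.mk' B b = 1)]
    exact Subgroup.one_mem _
  · intro y hy
    obtain ⟨j, m, hm, rfl⟩ := hdec y hy
    exact S.mul_mem (S.zpow_mem hxS j) (hBS hm)
  · exact Subgroup.mem_comap.mpr (Subgroup.mem_zpowers _)
  · rw [Helper3RankTwo.card_comap_mk', Helper3RankTwo.card_zpowers_of_order_p hp.out hxb1 hxbp]

theorem main {R : Type u} [Group R] [Finite R] {p : ℕ} [hp : Fact p.Prime] (hp2 : p ≠ 2)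
    (hR : IsPGroup p R) (S : Subgroup R) [hSn : S.Normal] (hS : ¬ IsCyclic S) :
    ∃ A : Subgroup R, A ≤ S ∧ A.Normal ∧ Cfsg.IsElementaryAbelian p A ∧ Nat.card A = p ^ 2 := by
  let 𝒜 : Set (Subgroup R) := {B | B ≤ S ∧ B.Normal ∧ ∀ a ∈ B, ∀ b ∈ B, a * b = b * a}
  have hne : 𝒜.Nonempty := ⟨⊥, bot_le, inferInstance, by
    intro a ha b hb
    rw [Subgroup.mem_bot.mp ha, Subgroup.mem_bot.mp hb]⟩
  obtain ⟨B, hBmax⟩ := (Set.toFinite 𝒜).exists_maximal hne
  obtain ⟨hBS, hBn, hBc⟩ := hBmax.prop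
  haveI := hBn
  by_cases hBcyc : IsCyclic B
  · have hBneS : B ≠ S := by
      intro h
      apply hS
      rw [← h]; exact hBcyc
    obtain ⟨x, D, hxS, hxB, hxG, hxp, hDn, hBD, hDS, hxD, hDcard, hDdec⟩ :=
      exists_step hR B S hBS hBneS
    have hDnc : ¬ IsCyclic D := by
      intro hcyc
      have hDc : ∀ a ∈ D, ∀ b ∈ D, a * b = b * a := fun a ha b hb =>
        congrArg Subtype.val ((IsCyclic.commGroup (α := D)).mul_comm ⟨a, ha⟩ ⟨b, hb⟩)
      have hD𝒜 : D ∈ 𝒜 := ⟨hDS, hDn, hDc⟩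
      exact hxB (hBmax.le_of_ge hD𝒜 hBD hxD)
    have hcyc' : IsCyclic (B.subgroupOf D) :=
      isCyclic_of_surjective (Subgroup.subgroupOfEquivOfLe hBD).symm
        (Subgroup.subgroupOfEquivOfLe hBD).symm.surjective
    have hidx : (B.subgroupOf D).index = p := by
      have h1 := (B.subgroupOf D).card_mul_index
      rw [Nat.card_congr (Subgroup.subgroupOfEquivOfLe hBD).toEquiv, hDcard, mul_comm] at h1
      exact Nat.eq_of_mul_eq_mul_right Nat.card_pos h1
    obtain ⟨hΩe, hΩc⟩ := Helper3CyclicMax.main hp2 (hR.to_subgroup D) hDnc _ hcyc' hidx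
    refine ⟨(Subgroup.closure {y : D | y ^ p = 1}).map D.subtype,
      (Subgroup.map_subtype_le _).trans hDS, ?_, elemAb_map D _ hΩe, ?_⟩
    · have : (Subgroup.closure {y : D | y ^ p = 1}).map D.subtype =
          Subgroup.closure {r : R | r ∈ D ∧ r ^ p = 1} := by
        rw [MonoidHom.map_closure]
        congr 1
        ext r
        constructor
        · rintro ⟨y, hy, rfl⟩
          exact ⟨y.2, congrArg Subtype.val hy⟩
        · rintro ⟨h1, h2⟩
          exact ⟨⟨r, h1⟩, Subtype.ext h2, rfl⟩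
      rw [this]
      apply Helper3OmegaRank.closure_normal_of_conj_invariant
      rintro s ⟨hs1, hs2⟩ r
      exact ⟨hDn.conj_mem s hs1 r, by rw [conj_pow, hs2]; group⟩
    · rw [Subgroup.card_map_of_injective D.subtype_injective, hΩc]
  · obtain ⟨A₀, _, hA₀e, hA₀c⟩ :=
      Helper3RankTwo.main hp2 (Nat.card B) B le_rfl (hR.to_subgroup B) hBcyc
    let Ω : Subgroup R :=
      { carrier := {b | b ∈ B ∧ b ^ p = 1}
        one_mem' := ⟨B.one_mem, one_pow _⟩
        mul_mem' := by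
          rintro a b ⟨ha, ha'⟩ ⟨hb, hb'⟩
          refine ⟨B.mul_mem ha hb, ?_⟩
          have : Commute a b := hBc a ha b hb
          rw [this.mul_pow, ha', hb', one_mul]
        inv_mem' := by
          rintro a ⟨ha, ha'⟩
          exact ⟨B.inv_mem ha, by rw [inv_pow, ha', inv_one]⟩ }
    haveI hΩn : Ω.Normal := by
      constructor
      rintro z ⟨hz, hz'⟩ g
      exact ⟨hBn.conj_mem z hz g, by rw [conj_pow, hz']; group⟩
    have hle : A₀.map B.subtype ≤ Ω := by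
      rintro _ ⟨a, ha, rfl⟩
      exact ⟨a.2, congrArg Subtype.val (hA₀e.2 a ha)⟩
    have hcard : p ^ 2 ≤ Nat.card Ω := by
      rw [← hA₀c, ← Subgroup.card_map_of_injective (K := A₀) B.subtype_injective]
      exact Subgroup.card_le_of_le hle
    obtain ⟨M, hMΩ, hMn, hMc, _⟩ := Helper3Chain.exists_normal_chain hR Ω 2 hcard
    exact ⟨M, fun m hm => hBS (hMΩ hm).1, hMn,
      elemAb_of_le hMΩ (fun a ha b hb => hBc a ha.1 b hb.1) (fun a ha => ha.2), hMc⟩

end Cfsg.Agent.Lib.Helper3RelRank
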