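import Mathlib
import Cfsg.Prelude.Def_Transfer
import Cfsg.Prelude.Def_PLocal
import Cfsg.Prelude.Def_OddOrderLocal
import Cfsg.Agent.Lib.Helper3PGroup
import Cfsg.Agent.Lib.Helper3RankTwo
import Cfsg.Agent.Lib.Helper3CyclicMax
import Cfsg.Agent.Lib.Helper3RelRank

set_option autoImplicit false

namespace Cfsg.Agent.Lib.Helper3MetaOmega

universe u

/-- A cyclic group of exponent dividing `p` has order dividing `p`. -/
theorem card_dvd_of_cyclic_exp {p : ℕ} {K : Type*} [Group K] [hK : IsCyclic K]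
    (h : ∀ k : K, k ^ p = 1) : Nat.card K ∣ p := by
  obtain ⟨g, hg⟩ := hK.exists_generator
  rw [← orderOf_eq_card_of_forall_mem_zpowers hg]
  exact orderOf_dvd_of_pow_eq_one (h g)

/-- B-G 4.1-type lemma: `Ω₁` of a noncyclic metacyclic `p`-group, `p` odd. -/
theorem main {R : Type u} [Group R] [Finite R] {p : ℕ} [hp : Fact p.Prime] (hp2 : p ≠ 2)
    (hR : IsPGroup p R) (hm : Cfsg.IsMetacyclic R) (hnc : ¬ IsCyclic R) :
    Cfsg.IsElementaryAbelian p (Cfsg.omegaOne p (⊤ : Subgroup R)) ∧
      Nat.card (Cfsg.omegaOne p (⊤ : Subgroup R)) = p ^ 2 := by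
  obtain ⟨S, hSn, hSc, hQc⟩ := hm
  have hQcomm : ∀ a b : R ⧸ S, a * b = b * a := fun a b =>
    (IsCyclic.commGroup (α := R ⧸ S)).mul_comm a b
  let K : Subgroup (R ⧸ S) :=
    { carrier := {q | q ^ p = 1}
      mul_mem' := by
        intro a b ha hb
        have hc : Commute a b := hQcomm a b
        show (a * b) ^ p = 1
        rw [hc.mul_pow, ha, hb, one_mul]
      one_mem' := one_pow p
      inv_mem' := by
        intro a ha
        show a⁻¹ ^ p = 1
        rw [inv_pow, ha, inv_one] }
  have hKmem : ∀ q : R ⧸ S, q ∈ K ↔ q ^ p = 1 := fun q => Iff.rfl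
  have hKdvd : Nat.card K ∣ p := by
    apply card_dvd_of_cyclic_exp
    intro k
    exact Subtype.ext ((hKmem k).mp k.2)
  have hKcard : Nat.card K = p := by
    rcases (Nat.dvd_prime hp.out).mp hKdvd with h | h
    · exfalso
      have hKbot : K = ⊥ := Subgroup.card_eq_one.mp h
      have hQ1 : ∀ q : R ⧸ S, q = 1 := by
        intro q
        by_contra hq
        obtain ⟨k, hk1, hk2⟩ := Helper3PGroup.exists_pow_order_p (hR.to_quotient S) hq
        have : q ^ k ∈ K := hk2
        rw [hKbot, Subgroup.mem_bot] at this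
        exact hk1 this
      have hStop : S = ⊤ := by
        rw [eq_top_iff]
        intro x _
        exact (QuotientGroup.eq_one_iff x).mp (hQ1 _)
      apply hnc
      subst hStop
      exact isCyclic_of_surjective (Subgroup.topEquiv (G := R)) (Subgroup.topEquiv.surjective)
    · exact h
  set T := K.comap (QuotientGroup.mk' S) with hT
  have hTmem : ∀ x : R, x ∈ T ↔ x ^ p ∈ S := by
    intro x
    rw [hT, Subgroup.mem_comap, hKmem]
    show (QuotientGroup.mk x : R ⧸ S) ^ p = 1 ↔ _
    rw [← QuotientGroup.mk_pow, QuotientGroup.eq_one_iff]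
  have hST : S ≤ T := fun x hx => (hTmem x).mpr (S.pow_mem hx p)
  have hTcard : Nat.card T = p * Nat.card S := by
    rw [hT, Helper3RankTwo.card_comap_mk', hKcard]
  have hidx : (S.subgroupOf T).index = p := by
    have h1 := (S.subgroupOf T).card_mul_index
    have h2 : Nat.card (S.subgroupOf T) = Nat.card S :=
      Nat.card_congr (Subgroup.subgroupOfEquivOfLe hST).toEquiv
    rw [h2, hTcard, mul_comm p] at h1
    exact Nat.eq_of_mul_eq_mul_left Nat.card_pos h1
  have hcyc : IsCyclic (S.subgroupOf T) :=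
    isCyclic_of_surjective (Subgroup.subgroupOfEquivOfLe hST).symm
      (Subgroup.subgroupOfEquivOfLe hST).symm.surjective
  obtain ⟨A, -, hAe, hAc⟩ := Helper3RankTwo.main hp2 (Nat.card R) R le_rfl hR hnc
  have hAT : A ≤ T := fun x hx => (hTmem x).mpr (by rw [hAe.2 x hx]; exact S.one_mem)
  have hTnc : ¬ IsCyclic T := by
    intro hTc
    haveI : IsCyclic (A.subgroupOf T) := Subgroup.isCyclic _
    have h1 : Nat.card (A.subgroupOf T) ∣ p := by
      apply card_dvd_of_cyclic_exp
      intro k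
      apply Subtype.ext
      apply Subtype.ext
      exact hAe.2 _ k.2
    have h2 : Nat.card (A.subgroupOf T) = Nat.card A :=
      Nat.card_congr (Subgroup.subgroupOfEquivOfLe hAT).toEquiv
    rw [h2, hAc] at h1
    have h3 := Nat.le_of_dvd hp.out.pos h1
    have := hp.out.one_lt
    nlinarith
  obtain ⟨h1, h2⟩ := Helper3CyclicMax.main hp2 (hR.to_subgroup T) hTnc _ hcyc hidx
  have heq : Cfsg.omegaOne p (⊤ : Subgroup R) =
      (Subgroup.closure {x : T | x ^ p = 1}).map T.subtype := by
    unfold Cfsg.omegaOne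
    rw [MonoidHom.map_closure]
    congr 1
    ext x
    constructor
    · rintro ⟨-, hx⟩
      exact ⟨⟨x, (hTmem x).mpr (by rw [hx]; exact S.one_mem)⟩, Subtype.ext hx, rfl⟩
    · rintro ⟨t, ht, rfl⟩
      exact ⟨Subgroup.mem_top _, congrArg Subtype.val ht⟩
  rw [heq]
  exact ⟨Helper3RelRank.elemAb_map T _ h1,
    by rw [Subgroup.card_map_of_injective T.subtype_injective, h2]⟩

end Cfsg.Agent.Lib.Helper3MetaOmega
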