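import Mathlib
import Cfsg.Prelude.Def_Transfer
import Cfsg.Prelude.Def_PLocal
import Cfsg.Prelude.Def_CaseTheorems
import Cfsg.Agent.Lib.Helper3PGroup
import Cfsg.Agent.Lib.Helper3Class2
import Cfsg.Agent.Lib.Helper3Chain
import Cfsg.Agent.Lib.Helper3RankTwo
import Cfsg.Agent.Lib.Helper3OmegaQuot
import Cfsg.Agent.Lib.Helper3MetaOmega
import Cfsg.Agent.Lib.Helper3RelRank
import Cfsg.Agent.S1452

set_option autoImplicit false

namespace Cfsg.Agent.Lib.Helper3Narrow

universe u

open scoped commutatorElement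

/-- The join of two commuting elementary abelian subgroups is elementary abelian. -/
theorem elemAb_sup {p : ℕ} {R : Type*} [Group R] {E B : Subgroup R}
    (hE : Cfsg.IsElementaryAbelian p E) (hB : Cfsg.IsElementaryAbelian p B)
    (hc : ∀ e ∈ E, ∀ b ∈ B, e * b = b * e) : Cfsg.IsElementaryAbelian p (E ⊔ B) := by
  have hEE : ∀ e ∈ E, ∀ f ∈ E, Commute e f := fun e he f hf =>
    congrArg Subtype.val (hE.1.is_comm.comm ⟨e, he⟩ ⟨f, hf⟩)
  have hBB : ∀ e ∈ B, ∀ f ∈ B, Commute e f := fun e he f hf =>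
    congrArg Subtype.val (hB.1.is_comm.comm ⟨e, he⟩ ⟨f, hf⟩)
  have hEB : ∀ e ∈ E, ∀ b ∈ B, Commute e b := hc
  let S : Subgroup R :=
    { carrier := {u | ∃ e ∈ E, ∃ b ∈ B, u = e * b}
      mul_mem' := by
        rintro _ _ ⟨e, he, b, hb, rfl⟩ ⟨e', he', b', hb', rfl⟩
        refine ⟨e * e', E.mul_mem he he', b * b', B.mul_mem hb hb', ?_⟩
        have := (hEB e' he' b hb).eq
        calc e * b * (e' * b') = e * (b * e') * b' := by group
          _ = e * (e' * b) * b' := by rw [this]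
          _ = _ := by group
      one_mem' := ⟨1, E.one_mem, 1, B.one_mem, by simp⟩
      inv_mem' := by
        rintro _ ⟨e, he, b, hb, rfl⟩
        refine ⟨e⁻¹, E.inv_mem he, b⁻¹, B.inv_mem hb, ?_⟩
        rw [mul_inv_rev]
        exact ((hEB e he b hb).inv_inv).eq.symm }
  have hS : E ⊔ B ≤ S := by
    rw [sup_le_iff]
    exact ⟨fun e he => ⟨e, he, 1, B.one_mem, by simp⟩, fun b hb => ⟨1, E.one_mem, b, hb, by simp⟩⟩
  refine ⟨⟨⟨fun u v => Subtype.ext ?_⟩⟩, ?_⟩
  · obtain ⟨e, he, b, hb, hu⟩ := hS u.2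
    obtain ⟨e', he', b', hb', hv⟩ := hS v.2
    show (u : R) * v = v * u
    rw [hu, hv]
    have : Commute (e * b) (e' * b') := by
      apply Commute.mul_left
      · exact Commute.mul_right (hEE e he e' he') (hEB e he b' hb')
      · exact Commute.mul_right (hEB e' he' b hb).symm (hBB b hb b' hb')
    exact this
  · intro u hu
    obtain ⟨e, he, b, hb, rfl⟩ := hS hu
    rw [(hEB e he b hb).mul_pow, hE.2 e he, hB.2 b hb, one_mul]

theorem elemAb_zpowers {p : ℕ} {R : Type*} [Group R] {x : R} (hx : x ^ p = 1) :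
    Cfsg.IsElementaryAbelian p (Subgroup.zpowers x) := by
  refine ⟨⟨⟨fun u v => ?_⟩⟩, ?_⟩
  · obtain ⟨i, hi⟩ := Subgroup.mem_zpowers_iff.mp u.2
    obtain ⟨j, hj⟩ := Subgroup.mem_zpowers_iff.mp v.2
    apply Subtype.ext
    show (u : R) * v = v * u
    rw [← hi, ← hj]
    exact ((Commute.refl x).zpow_zpow i j).eq
  · intro a ha
    obtain ⟨i, rfl⟩ := Subgroup.mem_zpowers_iff.mp ha
    rw [← zpow_natCast, ← zpow_mul, mul_comm, zpow_mul, zpow_natCast, hx, one_zpow]

theorem mem_of_max {p : ℕ} {R : Type*} [Group R] {E : Subgroup R}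
    (hE : Cfsg.IsElementaryAbelian p E)
    (hEmax : ∀ B : Subgroup R, Cfsg.IsElementaryAbelian p B → E ≤ B → B = E)
    (x : R) (hx : ∀ e ∈ E, e * x = x * e) (hxp : x ^ p = 1) : x ∈ E := by
  have h := hEmax _ (elemAb_sup hE (elemAb_zpowers hxp) (by
    intro e he b hb
    obtain ⟨i, rfl⟩ := Subgroup.mem_zpowers_iff.mp hb
    exact ((show Commute e x from hx e he).zpow_right i).eq)) le_sup_left
  rw [← h]
  exact (le_sup_right : Subgroup.zpowers x ≤ E ⊔ Subgroup.zpowers x) (Subgroup.mem_zpowers x)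

theorem mem_Z2_iff {R : Type*} [Group R] (x : R) :
    x ∈ Subgroup.upperCentralSeries R 2 ↔ ∀ y, ⁅x, y⁆ ∈ Subgroup.center R := by
  rw [show (2 : ℕ) = 1 + 1 from rfl, Subgroup.mem_upperCentralSeries_succ_iff,
    Subgroup.upperCentralSeries_one]

/-- A normal subgroup of order `p^2` lies in the second centre. -/
theorem le_Z2_of_card_sq {p : ℕ} [hp : Fact p.Prime] {R : Type*} [Group R] [Finite R]
    (hR : IsPGroup p R) (A : Subgroup R) [hA : A.Normal] (hc : Nat.card A = p ^ 2) :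
    A ≤ Subgroup.upperCentralSeries R 2 := by
  have hne : A ≠ ⊥ := by
    rintro rfl
    rw [Subgroup.card_bot] at hc
    have := hp.out.one_lt
    nlinarith
  obtain ⟨z, hzA, hzZ, hz1, hzp⟩ := Helper3PGroup.exists_central_order_p hR A hne
  set Z₁ := Subgroup.zpowers z with hZ₁
  have hZ₁c : Z₁ ≤ Subgroup.center R := by rw [hZ₁, Subgroup.zpowers_le]; exact hzZ
  haveI hn : Z₁.Normal := Helper3RankTwo.normal_of_le_center hZ₁c
  have hZ₁A : Z₁ ≤ A := by rw [hZ₁, Subgroup.zpowers_le]; exact hzA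
  set A' := A.map (QuotientGroup.mk' Z₁) with hA'
  haveI : A'.Normal := hA.map _ (QuotientGroup.mk'_surjective Z₁)
  have hcomap : A'.comap (QuotientGroup.mk' Z₁) = A := by
    rw [hA', Subgroup.comap_map_eq, QuotientGroup.ker_mk', sup_eq_left]
    exact hZ₁A
  have hcard : Nat.card A' = p := by
    have h1 := Helper3RankTwo.card_comap_mk' Z₁ A'
    rw [hcomap, hc, Helper3RankTwo.card_zpowers_of_order_p hp.out hz1 hzp, sq] at h1
    exact (Nat.eq_of_mul_eq_mul_right hp.out.pos h1).symm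
  have hcen := Helper3OmegaQuot.central_of_card_prime (hR.to_quotient Z₁) A' hcard
  intro a ha
  rw [mem_Z2_iff]
  intro y
  apply hZ₁c
  rw [← QuotientGroup.eq_one_iff, commutatorElement_def]
  have h1 : (QuotientGroup.mk a : R ⧸ Z₁) ∈ Subgroup.center (R ⧸ Z₁) :=
    hcen ⟨a, ha, rfl⟩
  have h2 := Subgroup.mem_center_iff.mp h1 (QuotientGroup.mk y)
  simp only [QuotientGroup.mk_mul, QuotientGroup.mk_inv]
  rw [← h2]
  group

theorem commutator_mul_left_of_central {R : Type*} [Group R] (a b c : R)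
    (h : ⁅b, c⁆ ∈ Subgroup.center R) : ⁅a * b, c⁆ = ⁅a, c⁆ * ⁅b, c⁆ := by
  have h1 := Subgroup.mem_center_iff.mp h a
  have h2 := Subgroup.mem_center_iff.mp h ⁅a, c⁆
  rw [h2]
  calc ⁅a * b, c⁆ = (a * ⁅b, c⁆) * (c * a⁻¹ * c⁻¹) := by
        simp only [commutatorElement_def]; group
    _ = (⁅b, c⁆ * a) * (c * a⁻¹ * c⁻¹) := by rw [h1]
    _ = ⁅b, c⁆ * ⁅a, c⁆ := by simp only [commutatorElement_def]; group

/-- B-G Lemma 5.2 (= S1453). -/
theorem main {R : Type u} [Group R] [Finite R] (p : ℕ) [hp : Fact p.Prime] (hp2 : p ≠ 2)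
    (hR : IsPGroup p R) (hr : ¬ Cfsg.PRankLE p 2 R)
    (E : Subgroup R) (hE : Cfsg.IsElementaryAbelian p E) (hE2 : Nat.card E = p ^ 2)
    (hEmax : ∀ B : Subgroup R, Cfsg.IsElementaryAbelian p B → E ≤ B → B = E) :
    ¬ E ≤ Subgroup.centralizer ((Subgroup.closure {x : R | x ∈ Subgroup.upperCentralSeries R 2 ∧ x ^ p = 1} : Subgroup R) : Set R) ∧
      Nat.card ↥(Subgroup.closure {x : R | x ∈ Subgroup.center R ∧ x ^ p = 1}) = p ∧
      (Cfsg.IsElementaryAbelian p (Subgroup.closure {x : R | x ∈ Subgroup.upperCentralSeries R 2 ∧ x ^ p = 1}) ∧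
        Nat.card ↥(Subgroup.closure {x : R | x ∈ Subgroup.upperCentralSeries R 2 ∧ x ^ p = 1}) = p ^ 2) ∧
      (Subgroup.centralizer ((Subgroup.closure {x : R | x ∈ Subgroup.upperCentralSeries R 2 ∧ x ^ p = 1} : Subgroup R) : Set R)).Characteristic ∧
      (Subgroup.centralizer ((Subgroup.closure {x : R | x ∈ Subgroup.upperCentralSeries R 2 ∧ x ^ p = 1} : Subgroup R) : Set R)).index = p := by
  have hpp := hp.out
  have h1p : 1 < p := hpp.one_lt
  set Z := Subgroup.closure {x : R | x ∈ Subgroup.center R ∧ x ^ p = 1} with hZdef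
  set W := Subgroup.closure {x : R | x ∈ Subgroup.upperCentralSeries R 2 ∧ x ^ p = 1} with hWdef
  have hmem := mem_of_max hE hEmax
  -- `E` is not normal
  have hnotnormal : ¬ E.Normal := by
    intro hn
    haveI := hn
    obtain ⟨A, hEA, hAn, hAc, hAr⟩ := Cfsg.Agent.S1452.result p hp2 hR hr E hE hE2
    apply hAr
    intro B' hB'c hB'e
    have hB : Cfsg.IsElementaryAbelian p (B'.map A.subtype) :=
      Helper3RelRank.elemAb_map A B' ⟨hB'c, hB'e⟩
    have hcomm : ∀ e ∈ E, ∀ b ∈ B'.map A.subtype, e * b = b * e := by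
      rintro e he _ ⟨b', _, rfl⟩
      have h1 : e ∈ Subgroup.centralizer (A : Set R) := by rw [hAc]; exact hEA he
      exact (Subgroup.mem_centralizer_iff.mp h1 b' b'.2).symm
    have h := hEmax _ (elemAb_sup hE hB hcomm) le_sup_left
    have hle : B'.map A.subtype ≤ E := by
      rw [← h]; exact le_sup_right
    calc Nat.card B' = Nat.card (B'.map A.subtype) :=
          (Subgroup.card_map_of_injective A.subtype_injective).symm
      _ ≤ Nat.card E := Subgroup.card_le_of_le hle
      _ = p ^ 2 := hE2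
  -- facts on `Z`
  have hZE : Z ≤ E := by
    rw [hZdef, Subgroup.closure_le]
    rintro x ⟨hx1, hx2⟩
    exact hmem x (fun e _ => Subgroup.mem_center_iff.mp hx1 e) hx2
  have hZcen : Z ≤ Subgroup.center R := by
    rw [hZdef, Subgroup.closure_le]
    rintro x ⟨hx1, _⟩
    exact hx1
  have hZne : Z ≠ ⊥ := by
    have htop : (⊤ : Subgroup R) ≠ ⊥ := by
      intro h
      have h1 : E = ⊥ := by rw [eq_bot_iff, ← h]; exact le_top
      rw [h1, Subgroup.card_bot] at hE2
      nlinarith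
    obtain ⟨x, -, hx1, hx2, hx3⟩ := Helper3PGroup.exists_central_order_p hR ⊤ htop
    intro h
    have : x ∈ Z := Subgroup.subset_closure ⟨hx1, hx3⟩
    rw [h, Subgroup.mem_bot] at this
    exact hx2 this
  have hZneE : Z ≠ E := by
    intro h
    apply hr
    intro A hAc hAe
    have hcomm : ∀ e ∈ E, ∀ b ∈ A, e * b = b * e := fun e he b _ =>
      (Subgroup.mem_center_iff.mp (hZcen (h ▸ he)) b).symm
    have h2 := hEmax _ (elemAb_sup hE ⟨hAc, hAe⟩ hcomm) le_sup_left
    have hle : A ≤ E := by rw [← h2]; exact le_sup_right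
    exact (Subgroup.card_le_of_le hle).trans hE2.le
  have hZcard : Nat.card Z = p := by
    have hdvd : Nat.card Z ∣ p ^ 2 := hE2 ▸ Subgroup.card_dvd_of_le hZE
    obtain ⟨i, hi, hi2⟩ := (Nat.dvd_prime_pow hpp).mp hdvd
    interval_cases i
    · exact absurd (Subgroup.card_eq_one.mp (by simpa using hi2)) hZne
    · simpa using hi2
    · exact absurd (Subgroup.eq_of_le_of_card_ge hZE (by rw [hE2, hi2])) hZneE
  -- facts on `W`
  have hW : ∀ g ∈ W, g ∈ Subgroup.upperCentralSeries R 2 ∧ g ^ p = 1 := by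
    intro g hg
    induction hg using Subgroup.closure_induction with
    | mem x hx => exact hx
    | one => exact ⟨Subgroup.one_mem _, one_pow p⟩
    | mul a b _ _ ha hb =>
      refine ⟨Subgroup.mul_mem _ ha.1 hb.1, ?_⟩
      have hc : ⁅b, a⁆ ∈ Subgroup.center R := (mem_Z2_iff b).mp hb.1 a
      have hca : Commute ⁅b, a⁆ a := Helper3Class2.commute_of_mem_center hc a
      have hcb : Commute ⁅b, a⁆ b := Helper3Class2.commute_of_mem_center hc b
      rw [Helper3Class2.mul_pow_prime_class2 hpp hp2 a b hca hcb, ha.2, hb.2, one_mul]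
      rw [← Helper3Class2.commutator_pow_left b a hcb, hb.2]
      simp
    | inv a _ ha => exact ⟨Subgroup.inv_mem _ ha.1, by rw [inv_pow, ha.2, inv_one]⟩
  have hWZ : ∀ w ∈ W, ∀ r : R, ⁅w, r⁆ ∈ Z := by
    intro w hw r
    have hc : ⁅w, r⁆ ∈ Subgroup.center R := (mem_Z2_iff w).mp (hW w hw).1 r
    refine Subgroup.subset_closure ⟨hc, ?_⟩
    rw [← Helper3Class2.commutator_pow_left w r (Helper3Class2.commute_of_mem_center hc w),
      (hW w hw).2]
    simp
  haveI hWchar : W.Characteristic := by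
    rw [Subgroup.characteristic_iff_map_le]
    intro β
    rw [hWdef, MonoidHom.map_closure, Subgroup.closure_le]
    rintro _ ⟨x, ⟨hx1, hx2⟩, rfl⟩
    apply Subgroup.subset_closure
    refine ⟨?_, ?_⟩
    · have := (inferInstance : (Subgroup.upperCentralSeries R 2).Characteristic).fixed β
      rw [← this] at hx1
      exact hx1
    · show (β x) ^ p = 1
      rw [← map_pow, hx2, map_one]
  haveI hWn : W.Normal := inferInstance
  -- lower bound for `W`
  have hnc : ¬ IsCyclic R := by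
    intro hc
    haveI : IsCyclic E := Subgroup.isCyclic E
    have h1 : Nat.card E ∣ p :=
      Helper3MetaOmega.card_dvd_of_cyclic_exp (fun k => Subtype.ext (hE.2 k k.2))
    rw [hE2] at h1
    have := Nat.le_of_dvd hpp.pos h1
    nlinarith
  obtain ⟨A₀, hA₀n, hA₀e, hA₀c⟩ := Helper3RankTwo.main hp2 (Nat.card R) R le_rfl hR hnc
  have hA₀W : A₀ ≤ W := fun a ha =>
    Subgroup.subset_closure ⟨le_Z2_of_card_sq hR A₀ hA₀c ha, hA₀e.2 a ha⟩
  have hWge : p ^ 2 ≤ Nat.card W := hA₀c ▸ Subgroup.card_le_of_le hA₀W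
  -- generation of `E`
  obtain ⟨e, heE, heZ⟩ := SetLike.exists_of_lt (lt_of_le_of_ne hZE hZneE)
  have hEgen : Z ⊔ Subgroup.zpowers e = E := by
    have hle : Z ⊔ Subgroup.zpowers e ≤ E := sup_le hZE (by rw [Subgroup.zpowers_le]; exact heE)
    apply Subgroup.eq_of_le_of_card_ge hle
    have hdvd : Nat.card (Z ⊔ Subgroup.zpowers e : Subgroup R) ∣ p ^ 2 :=
      hE2 ▸ Subgroup.card_dvd_of_le hle
    obtain ⟨i, hi, hi2⟩ := (Nat.dvd_prime_pow hpp).mp hdvd
    have hlt : Z < Z ⊔ Subgroup.zpowers e := by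
      refine lt_of_le_of_ne le_sup_left ?_
      intro h
      apply heZ
      rw [h]
      exact (le_sup_right : Subgroup.zpowers e ≤ Z ⊔ Subgroup.zpowers e) (Subgroup.mem_zpowers e)
    have hclt : p < Nat.card (Z ⊔ Subgroup.zpowers e : Subgroup R) := by
      rw [← hZcard]
      refine lt_of_le_of_ne (Subgroup.card_le_of_le hlt.le) ?_
      intro heq
      exact hlt.ne (Subgroup.eq_of_le_of_card_ge hlt.le heq.ge)
    rw [hE2, hi2]
    rw [hi2] at hclt
    have : 1 < i := by
      by_contra hcon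
      have h3 : i ≤ 1 := by omega
      have := Nat.pow_le_pow_right hpp.pos h3
      rw [pow_one] at this
      omega
    exact Nat.pow_le_pow_right hpp.pos this
  have hcommE : ∀ w : R, w * e = e * w → ∀ x ∈ E, x * w = w * x := by
    intro w hw x hx
    have hle : E ≤ Subgroup.centralizer {w} := by
      rw [← hEgen, sup_le_iff, Subgroup.zpowers_le]
      refine ⟨fun z hz => ?_, ?_⟩
      · rw [Subgroup.mem_centralizer_singleton_iff]
        exact (Subgroup.mem_center_iff.mp (hZcen hz) w).symm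
      · rw [Subgroup.mem_centralizer_singleton_iff]
        exact hw.symm
    exact Subgroup.mem_centralizer_singleton_iff.mp (hle hx)
  -- the homomorphism `w ↦ [w,e]`
  let κ : W →* Z :=
    { toFun := fun w => ⟨⁅(w : R), e⁆, hWZ w w.2 e⟩
      map_one' := Subtype.ext (by simp)
      map_mul' := fun a b => Subtype.ext (by
        show ⁅(a : R) * (b : R), e⁆ = ⁅(a : R), e⁆ * ⁅(b : R), e⁆
        exact commutator_mul_left_of_central _ _ _ (hZcen (hWZ b b.2 e))) }
  have hker : κ.ker.map W.subtype ≤ E := by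
    rintro _ ⟨w, hw, rfl⟩
    have h1 : ⁅(w : R), e⁆ = 1 := congrArg Subtype.val (MonoidHom.mem_ker.mp hw)
    rw [commutatorElement_eq_one_iff_mul_comm] at h1
    exact hmem w (hcommE w h1) (hW w w.2).2
  have hcardW : Nat.card W ≤ Nat.card (κ.ker.map W.subtype) * p := by
    have e1 : Nat.card κ.ker * Nat.card κ.range = Nat.card W := by
      rw [← Subgroup.index_ker]; exact Subgroup.card_mul_index _
    rw [Subgroup.card_map_of_injective W.subtype_injective, ← e1]
    apply Nat.mul_le_mul_left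
    rw [← hZcard]
    exact Subgroup.card_le_card_group _
  have hnormal_of_le : E ≤ W → E.Normal := by
    intro hEW
    constructor
    intro x hx g
    have h1 : g * x * g⁻¹ = (⁅x, g⁆)⁻¹ * x := by
      rw [commutatorElement_def]; group
    rw [h1]
    exact E.mul_mem (E.inv_mem (hZE (hWZ x (hEW hx) g))) hx
  have hWle : Nat.card W ≤ p ^ 2 := by
    by_contra hlt
    push Not at hlt
    obtain ⟨j, hj⟩ := IsPGroup.iff_card.mp (hR.to_subgroup W)
    have hj3 : 3 ≤ j := by
      rw [hj] at hlt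
      have := (Nat.pow_lt_pow_iff_right h1p).mp hlt
      omega
    have h3 : p ^ 3 ≤ Nat.card (κ.ker.map W.subtype) * p :=
      le_trans (by rw [hj]; exact Nat.pow_le_pow_right hpp.pos hj3) hcardW
    have h4 : p ^ 2 ≤ Nat.card (κ.ker.map W.subtype) := by
      have : p ^ 2 * p ≤ Nat.card (κ.ker.map W.subtype) * p := by
        rw [← pow_succ]; exact h3
      exact Nat.le_of_mul_le_mul_right this hpp.pos
    have h5 : κ.ker.map W.subtype = E := Subgroup.eq_of_le_of_card_ge hker (by rw [hE2]; exact h4)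
    apply hnotnormal
    apply hnormal_of_le
    rw [← h5]
    rintro _ ⟨w, _, rfl⟩
    exact w.2
  have hWcard : Nat.card W = p ^ 2 := le_antisymm hWle hWge
  have hET : ¬ E ≤ Subgroup.centralizer (W : Set R) := by
    intro hle
    have hWE : W ≤ E := by
      intro w hw
      refine hmem w (fun x hx => ?_) (hW w hw).2
      exact (Subgroup.mem_centralizer_iff.mp (hle hx) w hw).symm
    have : W = E := Subgroup.eq_of_le_of_card_ge hWE (by rw [hE2, hWcard])
    exact hnotnormal (this ▸ hWn)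
  refine ⟨hET, hZcard, ⟨⟨IsPGroup.isMulCommutative_of_card_eq_prime_sq hWcard,
    fun a ha => (hW a ha).2⟩, hWcard⟩, inferInstance, ?_⟩
  have hidx := Helper3Chain.index_centralizer_normal_le hR W 2 hWcard
  norm_num at hidx
  obtain ⟨i, hi⟩ := hR.index (Subgroup.centralizer (W : Set R))
  have hne1 : (Subgroup.centralizer (W : Set R)).index ≠ 1 := by
    intro h
    rw [Subgroup.index_eq_one] at h
    exact hET (h ▸ le_top)
  rw [hi] at hidx hne1 ⊢
  have hi1 : i ≤ 1 := by
    by_contra hcon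
    have h2 : 2 ≤ i := by omega
    have := Nat.pow_le_pow_right hpp.pos h2
    nlinarith
  interval_cases i
  · simp at hne1
  · simp

end Cfsg.Agent.Lib.Helper3Narrow
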