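import Mathlib
import Cfsg.Prelude.Def_OddOrderLocal
import Cfsg.Agent.Lib.Helper3Narrow
import Cfsg.Agent.Lib.Helper3AutRank
import Cfsg.Agent.Lib.Helper3AutOdd
import Cfsg.Agent.Lib.Helper3PGroup
import Cfsg.Agent.Lib.Helper3MetaOmega
import Cfsg.Agent.Lib.Helper1Hall
import Cfsg.Agent.Lib.Helper60Core

set_option autoImplicit false

/-! Automorphisms of narrow `p`-groups (B-G Section 5). -/

namespace Cfsg.Agent.Lib.Helper3NarrowAut

universe u

open scoped commutatorElement
open Cfsg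

section sec

variable {R : Type*} [Group R]

theorem sec_mem (M N : Subgroup R) [hM : M.Characteristic] [hN : N.Characteristic]
    (α : MulAut R) {c : R ⧸ N} (hc : c ∈ M.map (QuotientGroup.mk' N)) :
    Helper3AutOdd.quotChar N α c ∈ M.map (QuotientGroup.mk' N) := by
  obtain ⟨m, hm, rfl⟩ := hc
  exact ⟨α m, Helper3AutOdd.char_mem hM α hm, rfl⟩

/-- The action of automorphisms on a characteristic section `MN/N`. -/
def secHom (M N : Subgroup R) [hM : M.Characteristic] [hN : N.Characteristic] :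
    MulAut R →* MulAut (M.map (QuotientGroup.mk' N)) where
  toFun α :=
    { toFun := fun c => ⟨Helper3AutOdd.quotChar N α c, sec_mem M N α c.2⟩
      invFun := fun c => ⟨Helper3AutOdd.quotChar N α⁻¹ c, sec_mem M N α⁻¹ c.2⟩
      left_inv := fun c => Subtype.ext (by
        show Helper3AutOdd.quotChar N α⁻¹ (Helper3AutOdd.quotChar N α c) = c
        rw [← MulAut.mul_apply, ← map_mul, inv_mul_cancel, map_one, MulAut.one_apply])
      right_inv := fun c => Subtype.ext (by
        show Helper3AutOdd.quotChar N α (Helper3AutOdd.quotChar N α⁻¹ c) = c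
        rw [← MulAut.mul_apply, ← map_mul, mul_inv_cancel, map_one, MulAut.one_apply])
      map_mul' := fun x y => Subtype.ext (by
        show Helper3AutOdd.quotChar N α ((x : R ⧸ N) * y) = _
        exact map_mul _ _ _) }
  map_one' := by
    ext c
    show Helper3AutOdd.quotChar N 1 (c : R ⧸ N) = c
    rw [map_one, MulAut.one_apply]
  map_mul' := by
    intro α β
    ext c
    show Helper3AutOdd.quotChar N (α * β) (c : R ⧸ N) =
      Helper3AutOdd.quotChar N α (Helper3AutOdd.quotChar N β c)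
    rw [map_mul, MulAut.mul_apply]

theorem mem_of_secHom_eq_one (M N : Subgroup R) [hM : M.Characteristic] [hN : N.Characteristic]
    {β : MulAut R} (h : secHom M N β = 1) {x : R} (hx : x ∈ M) : x⁻¹ * β x ∈ N := by
  have h1 := congrArg (fun f : MulAut (M.map (QuotientGroup.mk' N)) =>
    ((f ⟨QuotientGroup.mk' N x, Subgroup.mem_map_of_mem _ hx⟩ :
      M.map (QuotientGroup.mk' N)) : R ⧸ N)) h
  have h2 : (QuotientGroup.mk (β x) : R ⧸ N) = QuotientGroup.mk x := h1
  exact QuotientGroup.eq.mp h2.symm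

theorem mulAut_comm_of_isCyclic {C : Type*} [Group C] [IsCyclic C] (x y : MulAut C) :
    x * y = y * x := by
  apply (IsCyclic.mulAutMulEquiv C).injective
  rw [map_mul, map_mul, mul_comm]

end sec

section small

variable {R : Type*} [Group R] [Finite R] {p : ℕ} [hp : Fact p.Prime]

theorem card_sec_dvd (hR : IsPGroup p R) (M N : Subgroup R) [N.Normal] (hNM : N ≤ M)
    (hc : Nat.card M ≤ p * Nat.card N) : Nat.card (M.map (QuotientGroup.mk' N)) ∣ p := by
  have h1 := Helper1Hall.card_map_mk'_mul_of_le hNM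
  have hq : IsPGroup p (R ⧸ N) := hR.to_quotient N
  obtain ⟨j, hj⟩ := (hq.to_subgroup (M.map (QuotientGroup.mk' N))).exists_card_eq
  rw [hj] at h1 ⊢
  have hNpos : 0 < Nat.card N := Nat.card_pos
  have h2 : p ^ j ≤ p := by
    rw [← h1, mul_comm] at hc
    exact Nat.le_of_mul_le_mul_right hc hNpos
  have h3 : j ≤ 1 := by
    by_contra hcon
    have : p ^ 2 ≤ p ^ j := Nat.pow_le_pow_right hp.out.pos (by omega)
    have h4 : p < p ^ 2 := by nlinarith [hp.out.one_lt]
    omega
  calc p ^ j ∣ p ^ 1 := pow_dvd_pow p h3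
    _ = p := pow_one p

/-- Commutators act trivially on characteristic sections of order at most `p`. -/
theorem sec_commutator (hR : IsPGroup p R) (M N : Subgroup R) [M.Characteristic]
    [N.Characteristic] (hNM : N ≤ M) (hc : Nat.card M ≤ p * Nat.card N)
    {A : Type*} [Group A] (ρ : A →* MulAut R) {a : A} (ha : a ∈ commutator A) {x : R}
    (hx : x ∈ M) : x⁻¹ * ρ a x ∈ N := by
  haveI : IsCyclic (M.map (QuotientGroup.mk' N)) :=
    isCyclic_of_card_dvd_prime (card_sec_dvd hR M N hNM hc)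
  apply mem_of_secHom_eq_one M N _ hx
  exact Helper3AutOdd.commutator_le_ker_of_comm ((secHom M N).comp ρ) mulAut_comm_of_isCyclic ha

/-- `(p-1)`-th powers act trivially on characteristic sections of order at most `p`. -/
theorem sec_pow (hR : IsPGroup p R) (M N : Subgroup R) [M.Characteristic]
    [N.Characteristic] (hNM : N ≤ M) (hc : Nat.card M ≤ p * Nat.card N)
    (α : MulAut R) {x : R} (hx : x ∈ M) : x⁻¹ * (α ^ (p - 1)) x ∈ N := by
  have hd := card_sec_dvd hR M N hNM hc
  haveI : IsCyclic (M.map (QuotientGroup.mk' N)) := isCyclic_of_card_dvd_prime hd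
  apply mem_of_secHom_eq_one M N _ hx
  rw [map_pow]
  have h1 : Nat.card (MulAut (M.map (QuotientGroup.mk' N))) ∣ p - 1 := by
    rw [IsCyclic.card_mulAut]
    rcases (Nat.dvd_prime hp.out).mp hd with h | h
    · rw [h, Nat.totient_one]; exact one_dvd _
    · rw [h, Nat.totient_prime hp.out]
  obtain ⟨k, hk⟩ := h1
  rw [hk, pow_mul, pow_card_eq_one', one_pow]

omit [Finite R] hp in
/-- A `p'`-automorphism stabilizing `M ≥ N` and fixing `N` pointwise fixes `M` pointwise. -/
theorem stab (hR : IsPGroup p R) (β : MulAut R) (hcop : (orderOf β).Coprime p)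
    (M N : Subgroup R) (h1 : ∀ x ∈ M, x⁻¹ * β x ∈ N) (h2 : ∀ n ∈ N, β n = n) :
    ∀ x ∈ M, β x = x := by
  intro x hx
  set n := x⁻¹ * β x with hn
  have hβx : β x = x * n := by rw [hn]; group
  have hpow : ∀ k : ℕ, (β ^ k) x = x * n ^ k := by
    intro k
    induction k with
    | zero => simp
    | succ k ih =>
      rw [pow_succ', MulAut.mul_apply, ih, map_mul, map_pow, h2 n (h1 x hx), hβx, pow_succ']
      group
  have h3 := hpow (orderOf β)
  rw [pow_orderOf_eq_one, MulAut.one_apply] at h3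
  have h4 : n ^ orderOf β = 1 := by
    have := h3.symm
    rwa [mul_eq_left] at this
  obtain ⟨j, hj⟩ := hR n
  have h5 : n = 1 := Helper3AutOdd.eq_one_of_pow_coprime h4 hj (Nat.Coprime.pow_right j hcop)
  rw [hβx, h5, mul_one]

omit [Finite R] hp in
/-- Counting with the commutator map `x ↦ [x,s]`. -/
theorem card_le_mul_of_commutator [Finite R] (M N Z : Subgroup R) (s : R)
    (h : ∀ g ∈ M, ⁅g, s⁆ ∈ N)
    (hZ : ∀ c ∈ M, c * s = s * c → c ∈ Z) : Nat.card M ≤ Nat.card Z * Nat.card N := by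
  classical
  let f : M → N := fun g => ⟨⁅(g : R), s⁆, h g g.2⟩
  let rep : N → M := Function.invFun f
  have hrep : ∀ x : M, f (rep (f x)) = f x := fun x => Function.invFun_eq ⟨x, rfl⟩
  have hmem : ∀ x : M, ((rep (f x) : M) : R)⁻¹ * x ∈ Z := by
    intro x
    apply hZ _ (M.mul_mem (M.inv_mem (rep (f x)).2) x.2)
    have h1 : ⁅((rep (f x) : M) : R), s⁆ = ⁅(x : R), s⁆ := congrArg Subtype.val (hrep x)
    set y : R := ((rep (f x) : M) : R) with hy
    rw [commutatorElement_def, commutatorElement_def] at h1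
    have h2 : y * s * y⁻¹ = x * s * (x : R)⁻¹ := by
      have := congrArg (· * s) h1
      simpa using this
    calc y⁻¹ * x * s = y⁻¹ * (x * s * (x : R)⁻¹) * x := by group
      _ = y⁻¹ * (y * s * y⁻¹) * x := by rw [h2]
      _ = s * (y⁻¹ * x) := by group
  let g : M → Z × N := fun x => (⟨_, hmem x⟩, f x)
  have hg : Function.Injective g := by
    intro x y hxy
    have h1 : f x = f y := congrArg Prod.snd hxy
    have h2 : ((rep (f x) : M) : R)⁻¹ * x = ((rep (f y) : M) : R)⁻¹ * y :=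
      congrArg (fun t : Z × N => ((t.1 : Z) : R)) hxy
    rw [h1] at h2
    exact Subtype.ext (mul_left_cancel h2)
  have := Nat.card_le_card_of_injective g hg
  rwa [Nat.card_prod] at this

omit [Finite R] hp in
theorem eq_bot_of_commutator_eq [hn : Group.IsNilpotent R] (M : Subgroup R)
    (h : ⁅M, (⊤ : Subgroup R)⁆ = M) : M = ⊥ := by
  obtain ⟨n, hn⟩ := Subgroup.nilpotent_iff_lowerCentralSeries.mp hn
  have h1 : ∀ i, M ≤ Subgroup.lowerCentralSeries (⊤ : Subgroup R) i := by
    intro i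
    induction i with
    | zero => exact le_top
    | succ i ih =>
      rw [Subgroup.lowerCentralSeries_succ, ← h]
      exact Subgroup.commutator_mono ih le_rfl
  rw [eq_bot_iff, ← hn]
  exact h1 n

end small

/-- `R` has a maximal elementary abelian subgroup of order `p^2`. -/
def HasMaxSq (p : ℕ) (R : Type u) [Group R] : Prop :=
  ∃ E : Subgroup R, IsElementaryAbelian p E ∧ Nat.card E = p ^ 2 ∧
    ∀ B : Subgroup R, IsElementaryAbelian p B → E ≤ B → B = E

theorem eq_of_lt_of_card {p : ℕ} (hp : p.Prime) {R : Type*} [Group R] [Finite R]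
    {Z E₁ E : Subgroup R} (hZ : Nat.card Z = p) (hE : Nat.card E = p ^ 2) (h1 : Z ≤ E₁)
    (h2 : E₁ ≤ E) {s : R} (hs : s ∈ E₁) (hsZ : s ∉ Z) : E₁ = E := by
  have hd : Nat.card E₁ ∣ p ^ 2 := hE ▸ Subgroup.card_dvd_of_le h2
  obtain ⟨j, hj, hjc⟩ := (Nat.dvd_prime_pow hp).mp hd
  have hle : p ≤ Nat.card E₁ := hZ ▸ Subgroup.card_le_of_le h1
  have hne : Nat.card E₁ ≠ p := by
    intro h
    have : Z = E₁ := Subgroup.eq_of_le_of_card_ge h1 (by rw [h, hZ])
    exact hsZ (this ▸ hs)
  have hj2 : j = 2 := by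
    interval_cases j
    · rw [pow_zero] at hjc; have := hp.one_lt; omega
    · rw [pow_one] at hjc; exact absurd hjc hne
    · rfl
  apply Subgroup.eq_of_le_of_card_ge h2
  rw [hE, hjc, hj2]

/-- The key lemma: in a `p`-group of rank at least 3 with a maximal elementary abelian subgroup of
order `p^2`, a `p'`-automorphism acting trivially on all characteristic sections of order at most
`p` is trivial. -/
theorem eq_one_of_trivSec {R : Type u} [Group R] [Finite R] {p : ℕ} [hp : Fact p.Prime]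
    (hp2 : p ≠ 2) (hR : IsPGroup p R) (hr : ¬ PRankLE p 2 R) (hmax : HasMaxSq p R)
    (β : MulAut R) (hcop : (orderOf β).Coprime p)
    (hβ : ∀ (M N : Subgroup R) [M.Characteristic] [N.Characteristic], N ≤ M →
      Nat.card M ≤ p * Nat.card N → ∀ x ∈ M, x⁻¹ * β x ∈ N) : β = 1 := by
  obtain ⟨E, hE, hE2, hEmax⟩ := hmax
  by_contra hne
  obtain ⟨D, hDchar, hDexp, x0, hx0D, hx0⟩ := Helper3AutRank.exists_exp_p hp2 hR β hcop hne
  obtain ⟨hET, hZcard, -, hTchar, hTidx⟩ := Helper3Narrow.main p hp2 hR hr E hE hE2 hEmax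
  set Z := Subgroup.closure {x : R | x ∈ Subgroup.center R ∧ x ^ p = 1} with hZdef
  set T := Subgroup.centralizer ((Subgroup.closure
    {x : R | x ∈ Subgroup.upperCentralSeries R 2 ∧ x ^ p = 1} : Subgroup R) : Set R) with hTdef
  obtain ⟨s, hsE, hsT⟩ := SetLike.not_le_iff_exists.mp hET
  have hZcen : Z ≤ Subgroup.center R := by
    rw [hZdef, Subgroup.closure_le]
    exact fun x hx => hx.1
  have hZE : Z ≤ E := by
    rw [hZdef, Subgroup.closure_le]
    intro x hx
    exact Helper3Narrow.mem_of_max hE hEmax x (fun e _ => Subgroup.mem_center_iff.mp hx.1 e) hx.2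
  have hZT : Z ≤ T := by
    intro z hz
    rw [hTdef, Subgroup.mem_centralizer_iff]
    intro w _
    exact Subgroup.mem_center_iff.mp (hZcen hz) w
  have hET2 : Nat.card (E ⊓ T : Subgroup R) ≤ p := by
    have hd : Nat.card (E ⊓ T : Subgroup R) ∣ p ^ 2 := hE2 ▸ Subgroup.card_dvd_of_le inf_le_left
    obtain ⟨j, hj, hjc⟩ := (Nat.dvd_prime_pow hp.out).mp hd
    have hj2 : j ≠ 2 := by
      rintro rfl
      have : E ⊓ T = E := Subgroup.eq_of_le_of_card_ge inf_le_left (by rw [hE2, hjc])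
      have h3 : s ∈ E ⊓ T := by rw [this]; exact hsE
      exact hsT h3.2
    rw [hjc]
    calc p ^ j ≤ p ^ 1 := Nat.pow_le_pow_right hp.out.pos (by omega)
      _ = p := pow_one p
  have hfix : ∀ c ∈ D ⊓ T, c * s = s * c → c ∈ E ⊓ T := by
    intro c hc hcs
    refine ⟨?_, hc.2⟩
    have hE1 : E ⊓ Subgroup.centralizer ({c} : Set R) = E := by
      apply eq_of_lt_of_card hp.out hZcard hE2 _ inf_le_left (s := s) _ (fun h => hsT (hZT h))
      · intro z hz
        refine ⟨hZE hz, ?_⟩
        show z ∈ Subgroup.centralizer ({c} : Set R)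
        rw [Subgroup.mem_centralizer_singleton_iff]
        exact (Subgroup.mem_center_iff.mp (hZcen hz) c).symm
      · refine ⟨hsE, ?_⟩
        show s ∈ Subgroup.centralizer ({c} : Set R)
        rw [Subgroup.mem_centralizer_singleton_iff]
        exact hcs.symm
    apply Helper3Narrow.mem_of_max hE hEmax c _ (hDexp c hc.1)
    intro e he
    have h1 : e ∈ E ⊓ Subgroup.centralizer ({c} : Set R) := by rw [hE1]; exact he
    exact Subgroup.mem_centralizer_singleton_iff.mp h1.2
  haveI : Group.IsNilpotent R := hR.isNilpotent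
  have claim : ∀ n : ℕ, ∀ M : Subgroup R, M.Characteristic → M ≤ D ⊓ T → Nat.card M ≤ n →
      ∀ x ∈ M, β x = x := by
    intro n
    induction n with
    | zero =>
      intro M _ _ hc
      have := Nat.card_pos (α := M)
      omega
    | succ n ih =>
      intro M hMchar hMle hc
      haveI := hMchar
      have hNM : ⁅M, (⊤ : Subgroup R)⁆ ≤ M := Subgroup.commutator_le_left M ⊤
      by_cases hMb : M = ⊥
      · intro x hx
        rw [hMb, Subgroup.mem_bot] at hx
        rw [hx, map_one]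
      have hNne : ⁅M, (⊤ : Subgroup R)⁆ ≠ M := fun h => hMb (eq_bot_of_commutator_eq M h)
      have hlt : Nat.card (⁅M, (⊤ : Subgroup R)⁆ : Subgroup R) < Nat.card M := by
        rcases lt_or_eq_of_le (Subgroup.card_le_of_le hNM) with h | h
        · exact h
        · exact absurd (Subgroup.eq_of_le_of_card_ge hNM h.ge) hNne
      have h1 := ih ⁅M, (⊤ : Subgroup R)⁆ inferInstance (hNM.trans hMle) (by omega)
      have h2 : Nat.card M ≤ p * Nat.card (⁅M, (⊤ : Subgroup R)⁆ : Subgroup R) := by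
        refine le_trans (card_le_mul_of_commutator M ⁅M, (⊤ : Subgroup R)⁆ (E ⊓ T) s ?_ ?_)
          (Nat.mul_le_mul_right _ hET2)
        · intro g hg
          exact Subgroup.commutator_mem_commutator hg (Subgroup.mem_top s)
        · intro c hc hcs
          exact hfix c (hMle hc) hcs
      exact stab hR β hcop M _ (hβ M ⁅M, (⊤ : Subgroup R)⁆ hNM h2) h1
  haveI := hDchar
  haveI := hTchar
  have h1 := claim _ (D ⊓ T) inferInstance le_rfl le_rfl
  have h2 : Nat.card D ≤ p * Nat.card (D ⊓ T : Subgroup R) := by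
    have h3 := Helper60Core.card_mul_relIndex (inf_le_left : D ⊓ T ≤ D)
    rw [Subgroup.inf_relIndex_left] at h3
    have h4 : T.relIndex D ∣ p := hTidx ▸ Subgroup.relIndex_dvd_index_of_normal T D
    have h5 : T.relIndex D ≤ p := Nat.le_of_dvd hp.out.pos h4
    rw [← h3, mul_comm]
    exact Nat.mul_le_mul_right _ h5
  exact hx0 (stab hR β hcop D _ (hβ D (D ⊓ T) inf_le_left h2) h1 x0 hx0D)

theorem mem_sup_of_commute {R : Type*} [Group R] {A B : Subgroup R}
    (hc : ∀ a ∈ A, ∀ b ∈ B, a * b = b * a) {x : R} (hx : x ∈ A ⊔ B) :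
    ∃ a ∈ A, ∃ b ∈ B, x = a * b := by
  let S : Subgroup R :=
    { carrier := {u | ∃ e ∈ A, ∃ b ∈ B, u = e * b}
      mul_mem' := by
        rintro _ _ ⟨e, he, b, hb, rfl⟩ ⟨e', he', b', hb', rfl⟩
        refine ⟨e * e', A.mul_mem he he', b * b', B.mul_mem hb hb', ?_⟩
        have := hc e' he' b hb
        calc e * b * (e' * b') = e * (b * e') * b' := by group
          _ = e * (e' * b) * b' := by rw [this]
          _ = _ := by group
      one_mem' := ⟨1, A.one_mem, 1, B.one_mem, by simp⟩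
      inv_mem' := by
        rintro _ ⟨e, he, b, hb, rfl⟩
        refine ⟨e⁻¹, A.inv_mem he, b⁻¹, B.inv_mem hb, ?_⟩
        rw [mul_inv_rev]
        exact ((show Commute e b from hc e he b hb).inv_inv).eq.symm }
  have hS : A ⊔ B ≤ S := by
    rw [sup_le_iff]
    exact ⟨fun e he => ⟨e, he, 1, B.one_mem, by simp⟩, fun b hb => ⟨1, A.one_mem, b, hb, by simp⟩⟩
  exact hS hx

theorem exists_max_elemAb {p : ℕ} {R : Type*} [Group R] [Finite R] (E : Subgroup R)
    (hE : IsElementaryAbelian p E) :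
    ∃ E' : Subgroup R, IsElementaryAbelian p E' ∧ E ≤ E' ∧
      ∀ B : Subgroup R, IsElementaryAbelian p B → E' ≤ B → B = E' := by
  let S : Set (Subgroup R) := {B | IsElementaryAbelian p B ∧ E ≤ B}
  obtain ⟨A, hA⟩ := (Set.toFinite S).exists_maximal ⟨E, hE, le_rfl⟩
  refine ⟨A, hA.prop.1, hA.prop.2, ?_⟩
  intro B hB hAB
  exact le_antisymm (hA.le_of_ge ⟨hB, hA.prop.2.trans hAB⟩ hAB) hAB

theorem hasMaxSq_of_bound {R : Type u} [Group R] [Finite R] {p : ℕ} [hp : Fact p.Prime]
    (hR : IsPGroup p R) (hr : ¬ PRankLE p 2 R) (E : Subgroup R) (hE : IsElementaryAbelian p E)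
    (hb : ∀ B : Subgroup R, IsElementaryAbelian p B → E ≤ B → Nat.card B ≤ p ^ 2) :
    HasMaxSq p R := by
  obtain ⟨E', hE', hEE', hmax⟩ := exists_max_elemAb E hE
  refine ⟨E', hE', ?_, hmax⟩
  have hle := hb E' hE' hEE'
  by_contra hne
  apply hr
  have htop : (⊤ : Subgroup R) ≠ ⊥ := by
    intro h
    apply hr
    intro B _ _
    have h1 : Nat.card B ≤ Nat.card (⊤ : Subgroup R) := Subgroup.card_le_of_le le_top
    rw [h, Subgroup.card_bot] at h1
    exact h1.trans (Nat.one_le_pow _ _ hp.out.pos)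
  obtain ⟨z, -, hzc, hz1, hzp⟩ := Helper3PGroup.exists_central_order_p hR ⊤ htop
  have hzE : z ∈ E' :=
    Helper3Narrow.mem_of_max hE' hmax z (fun e _ => Subgroup.mem_center_iff.mp hzc e) hzp
  have hcz : Nat.card (Subgroup.zpowers z) = p := by
    rw [Nat.card_zpowers]
    exact orderOf_eq_prime hzp hz1
  obtain ⟨j, hj⟩ := (hR.to_subgroup E').exists_card_eq
  have hj1 : j ≤ 1 := by
    have h2 : j ≤ 2 := by
      rw [hj] at hle
      exact (Nat.pow_le_pow_iff_right hp.out.one_lt).mp hle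
    have h3 : j ≠ 2 := by
      rintro rfl
      exact hne hj
    omega
  have hcE : Nat.card E' ≤ p := by
    rw [hj]
    calc p ^ j ≤ p ^ 1 := Nat.pow_le_pow_right hp.out.pos hj1
      _ = p := pow_one p
  have hEz : Subgroup.zpowers z = E' :=
    Subgroup.eq_of_le_of_card_ge (Subgroup.zpowers_le.mpr hzE) (by rw [hcz]; exact hcE)
  have hEcen : E' ≤ Subgroup.center R := by
    rw [← hEz]
    exact Subgroup.zpowers_le.mpr hzc
  intro B hBc hBe
  have h1 := hmax _ (Helper3Narrow.elemAb_sup hE' ⟨hBc, hBe⟩ (fun e he b _ =>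
    (Subgroup.mem_center_iff.mp (hEcen he) b).symm)) le_sup_left
  have h2 : B ≤ E' := h1 ▸ le_sup_right
  refine (Subgroup.card_le_of_le h2).trans (hcE.trans ?_)
  nlinarith [hp.out.one_lt]

theorem hasMaxSq_of_narrow {R : Type u} [Group R] [Finite R] {p : ℕ} [hp : Fact p.Prime]
    (hR : IsPGroup p R) (hn : IsNarrow p R) (hr : ¬ PRankLE p 2 R) : HasMaxSq p R := by
  rcases hn with h | ⟨R₀, R₁, h0, hcyc, -, hcomm, hsup⟩
  · exact absurd h hr
  have hR0 : IsElementaryAbelian p R₀ := by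
    haveI : IsCyclic R₀ := isCyclic_of_prime_card h0
    refine ⟨⟨⟨fun a b => ?_⟩⟩, ?_⟩
    · exact IsCyclic.commGroup.mul_comm a b
    · intro a ha
      have := pow_card_eq_one' (G := R₀) (x := ⟨a, ha⟩)
      rw [h0] at this
      exact congrArg Subtype.val this
  apply hasMaxSq_of_bound hR hr R₀ hR0
  intro B hB hRB
  have hBB : ∀ e ∈ B, ∀ f ∈ B, e * f = f * e := fun e he f hf =>
    congrArg Subtype.val (hB.1.is_comm.comm ⟨e, he⟩ ⟨f, hf⟩)
  have hdec : ∀ x ∈ B, ∃ a ∈ R₀, ∃ b ∈ B ⊓ R₁, x = a * b := by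
    intro x hx
    have hxC : x ∈ R₀ ⊔ R₁ := by
      rw [hsup, Subgroup.mem_centralizer_iff]
      intro r hr0
      exact hBB r (hRB hr0) x hx
    obtain ⟨a, ha, b, hb, rfl⟩ := mem_sup_of_commute hcomm hxC
    refine ⟨a, ha, b, ⟨?_, hb⟩, rfl⟩
    have : b = a⁻¹ * (a * b) := by group
    rw [this]
    exact B.mul_mem (B.inv_mem (hRB ha)) hx
  have hc1 : Nat.card (B ⊓ R₁ : Subgroup R) ≤ p := by
    haveI : IsCyclic (B ⊓ R₁ : Subgroup R) := by
      have : IsCyclic ((B ⊓ R₁).subgroupOf R₁) := inferInstance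
      exact isCyclic_of_surjective (Subgroup.subgroupOfEquivOfLe (inf_le_right : B ⊓ R₁ ≤ R₁))
        (MulEquiv.surjective _)
    apply Nat.le_of_dvd hp.out.pos
    apply Helper3MetaOmega.card_dvd_of_cyclic_exp
    intro k
    exact Subtype.ext (hB.2 k k.2.1)
  let f : R₀ × (B ⊓ R₁ : Subgroup R) → B := fun t =>
    ⟨(t.1 : R) * (t.2 : R), B.mul_mem (hRB t.1.2) t.2.2.1⟩
  have hf : Function.Surjective f := by
    intro x
    obtain ⟨a, ha, b, hb, hx⟩ := hdec x x.2
    exact ⟨(⟨a, ha⟩, ⟨b, hb⟩), Subtype.ext hx.symm⟩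
  have h1 := Nat.card_le_card_of_surjective f hf
  rw [Nat.card_prod, h0] at h1
  calc Nat.card B ≤ p * Nat.card (B ⊓ R₁ : Subgroup R) := h1
    _ ≤ p * p := Nat.mul_le_mul_left _ hc1
    _ = p ^ 2 := (sq p).symm

/-- An odd order solvable group acting on a `p`-group that has rank at most 2 or a maximal
elementary abelian subgroup of order `p^2`: the `p'`-elements of the derived group act trivially. -/
theorem aut_comm {R : Type u} [Group R] [Finite R] {p : ℕ} [hp : Fact p.Prime] (hp2 : p ≠ 2)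
    (hR : IsPGroup p R) (hmax : PRankLE p 2 R ∨ HasMaxSq p R)
    {A : Type*} [Group A] [Finite A] (hodd : Odd (Nat.card A)) [Group.IsSolvable A]
    (ρ : A →* MulAut R) (a : A) (ha : a ∈ commutator A) (hcop : (orderOf a).Coprime p) :
    ρ a = 1 := by
  by_cases hr : PRankLE p 2 R
  · exact Helper3AutOdd.aut_rank hp2 hR hr hodd ρ a ha hcop
  · have hmax' : HasMaxSq p R := hmax.resolve_left hr
    apply eq_one_of_trivSec hp2 hR hr hmax'
    · exact Nat.Coprime.coprime_dvd_left (orderOf_map_dvd ρ a) hcop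
    · intro M N _ _ hNM hc x hx
      exact sec_commutator hR M N hNM hc ρ ha hx

/-- In rank at least 3, every `p'`-automorphism has order dividing `p - 1`. -/
theorem aut_pow {R : Type u} [Group R] [Finite R] {p : ℕ} [hp : Fact p.Prime] (hp2 : p ≠ 2)
    (hR : IsPGroup p R) (hr : ¬ PRankLE p 2 R) (hmax : HasMaxSq p R)
    (α : MulAut R) (hcop : (orderOf α).Coprime p) : α ^ (p - 1) = 1 := by
  apply eq_one_of_trivSec hp2 hR hr hmax
  · exact Nat.Coprime.coprime_dvd_left (orderOf_pow_dvd _) hcop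
  · intro M N _ _ hNM hc x hx
    exact sec_pow hR M N hNM hc α hx

/-- Prime divisors `q ≠ p` of `|Aut R|` are less than `p`. -/
theorem aut_prime_lt {R : Type u} [Group R] [Finite R] {p : ℕ} [hp : Fact p.Prime] (hp2 : p ≠ 2)
    (hR : IsPGroup p R) (hmax : PRankLE p 2 R ∨ HasMaxSq p R) (q : ℕ) (hq : q.Prime)
    (hqp : q ≠ p) (hdvd : q ∣ Nat.card (MulAut R)) : q < p := by
  by_cases hr : PRankLE p 2 R
  · exact (Helper3AutRank.main hp2 hR hr q hq hqp hdvd).2
  · have hmax' : HasMaxSq p R := hmax.resolve_left hr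
    haveI : Fact q.Prime := ⟨hq⟩
    obtain ⟨α, hα⟩ := exists_prime_orderOf_dvd_card' q hdvd
    have hcop : (orderOf α).Coprime p := by
      rw [hα]; exact (Nat.coprime_primes hq hp.out).mpr hqp
    have h1 := orderOf_dvd_of_pow_eq_one (aut_pow hp2 hR hr hmax' α hcop)
    rw [hα] at h1
    have h2 := Nat.le_of_dvd (by have := hp.out.one_lt; omega) h1
    have := hp.out.one_lt
    omega

end Cfsg.Agent.Lib.Helper3NarrowAut
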