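import Mathlib
import Cfsg.Prelude.Def_Transfer
import Cfsg.Prelude.Def_PLocal
import Cfsg.Prelude.Def_Local
import Cfsg.Prelude.Def_CaseTheorems
import Cfsg.Agent.Lib.Helper3PGroup
import Cfsg.Agent.Lib.Helper3AutRank
import Cfsg.Agent.Lib.Helper3AutOdd
import Cfsg.Agent.Lib.Helper60Core
import Cfsg.Agent.Lib.Helper11Frobenius
import Cfsg.Agent.Lib.Helper89Omega

set_option autoImplicit false

/-! Solvable groups of odd order and `p`-rank at most 2 (B-G Theorem 4.18). -/

namespace Cfsg.Agent.Lib.Helper3OddRank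

universe u

open scoped commutatorElement
open Cfsg

theorem rank_subgroup {p k : ℕ} {G : Type*} [Group G] (H : Subgroup G) (h : PRankLE p k G) :
    PRankLE p k H := by
  intro E hEc hEe
  rw [← Subgroup.card_map_of_injective (K := E) H.subtype_injective]
  apply h
  · refine ⟨⟨?_⟩⟩
    rintro ⟨_, a, ha, rfl⟩ ⟨_, b, hb, rfl⟩
    apply Subtype.ext
    have h1 : a * b = b * a := congrArg Subtype.val (hEc.is_comm.comm ⟨a, ha⟩ ⟨b, hb⟩)
    show (a : G) * (b : G) = (b : G) * (a : G)
    exact congrArg Subtype.val h1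
  · rintro _ ⟨a, ha, rfl⟩
    exact congrArg Subtype.val (hEe a ha)

/-- The `p`-rank does not grow in quotients by normal `p'`-subgroups. -/
theorem rank_quotient {p k : ℕ} [hp : Fact p.Prime] {G : Type*} [Group G] [Finite G]
    (N : Subgroup G) [N.Normal] (hN : (Nat.card N).Coprime p) (h : PRankLE p k G) :
    PRankLE p k (G ⧸ N) := by
  intro A hAc hAe
  have hAp : IsPGroup p A := fun a => ⟨1, by rw [pow_one]; exact Subtype.ext (hAe a a.2)⟩
  obtain ⟨S', hS'⟩ := hAp.exists_le_sylow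
  obtain ⟨S, rfl⟩ := Sylow.mapSurjective_surjective (QuotientGroup.mk'_surjective N) p S'
  rw [Sylow.coe_mapSurjective] at hS'
  set T : Subgroup G := (S : Subgroup G) ⊓ A.comap (QuotientGroup.mk' N) with hT
  have hinj : ∀ x ∈ (S : Subgroup G), (QuotientGroup.mk x : G ⧸ N) = 1 → x = 1 := by
    intro x hx h1
    have hxN : x ∈ N := (QuotientGroup.eq_one_iff x).mp h1
    obtain ⟨j, hj⟩ := S.isPGroup' ⟨x, hx⟩
    have hj' : x ^ p ^ j = 1 := congrArg Subtype.val hj
    have h2 : x ^ Nat.card N = 1 := by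
      have := pow_card_eq_one' (G := N) (x := ⟨x, hxN⟩)
      exact congrArg Subtype.val this
    exact Helper3AutOdd.eq_one_of_pow_coprime h2 hj' (Nat.Coprime.pow_right j hN)
  have hinj2 : ∀ x ∈ (S : Subgroup G), ∀ y ∈ (S : Subgroup G),
      (QuotientGroup.mk x : G ⧸ N) = QuotientGroup.mk y → x = y := by
    intro x hx y hy hxy
    have h1 := hinj (x * y⁻¹) (Subgroup.mul_mem _ hx (Subgroup.inv_mem _ hy)) (by
      rw [QuotientGroup.mk_mul, QuotientGroup.mk_inv, hxy, mul_inv_cancel])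
    exact mul_inv_eq_one.mp h1
  have hTcard : Nat.card T ≤ p ^ k := by
    apply h
    · refine ⟨⟨fun a b => Subtype.ext ?_⟩⟩
      apply hinj2 _ (Subgroup.mul_mem _ a.2.1 b.2.1) _ (Subgroup.mul_mem _ b.2.1 a.2.1)
      rw [QuotientGroup.mk_mul, QuotientGroup.mk_mul]
      exact congrArg Subtype.val (hAc.is_comm.comm ⟨_, a.2.2⟩ ⟨_, b.2.2⟩)
    · intro a ha
      apply hinj _ (Subgroup.pow_mem _ ha.1 p)
      rw [QuotientGroup.mk_pow]
      exact hAe _ ha.2
  refine le_trans ?_ hTcard
  let f : T → A := fun t => ⟨QuotientGroup.mk (t : G), t.2.2⟩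
  apply Nat.card_le_card_of_surjective f
  intro a
  obtain ⟨s, hs, hsa⟩ := hS' a.2
  refine ⟨⟨s, hs, ?_⟩, Subtype.ext hsa⟩
  show (QuotientGroup.mk' N) s ∈ A
  rw [hsa]
  exact a.2

theorem eq_one_of_isPGroup_coprime {p : ℕ} {Q : Type*} [Group Q] {P : Subgroup Q}
    (hP : IsPGroup p P) {x : Q} (hx : x ∈ P) (hc : (orderOf x).Coprime p) : x = 1 := by
  obtain ⟨j, hj⟩ := hP ⟨x, hx⟩
  have hj' : x ^ p ^ j = 1 := congrArg Subtype.val hj
  exact Helper3AutOdd.eq_one_of_pow_coprime (pow_orderOf_eq_one x) hj' (Nat.Coprime.pow_right j hc)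

/-- The core argument in a group with trivial `p'`-core. -/
theorem coreQ {Q : Type*} [Group Q] [Finite Q] [Group.IsSolvable Q] (p : ℕ) [hp : Fact p.Prime]
    (h0 : pPrimeCore p Q = ⊥)
    (H1 : ∀ k ∈ commutator Q, (orderOf k).Coprime p →
      k ∈ Subgroup.centralizer (pCore p Q : Set Q))
    (H2 : ∀ q : ℕ, q.Prime → q ≠ p → q ∣ Nat.card (MulAut (pCore p Q)) → q < p) :
    IsPGroup p (commutator Q) ∧ (∀ q : ℕ, q.Prime → q ∣ Nat.card Q → q ≤ p) ∧
      commutator Q ≤ pCore p Q ∧ ((pCore p Q).index).Coprime p := by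
  have hCP := Helper60Core.centralizer_pCore_le h0
  have hPp : IsPGroup p (pCore p Q) := Helper60Core.pCore_isPGroup p
  have hcp : IsPGroup p (commutator Q) := by
    apply Helper89Omega.isPGroup_of_coprime_trivial
    intro a ha
    have ha' : (orderOf (a : Q)).Coprime p := by rwa [Subgroup.orderOf_coe]
    exact Subtype.ext (eq_one_of_isPGroup_coprime hPp (hCP (H1 a a.2 ha')) ha')
  have hcle : commutator Q ≤ pCore p Q := Helper60Core.le_pCore inferInstance hcp
  refine ⟨hcp, ?_, hcle, ?_⟩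
  · intro q hq hqd
    by_contra hlt
    push Not at hlt
    haveI : Fact q.Prime := ⟨hq⟩
    obtain ⟨x, hx⟩ := exists_prime_orderOf_dvd_card' q hqd
    have hqp : q ≠ p := hlt.ne'
    have hcop : (orderOf x).Coprime p := by
      rw [hx]; exact (Nat.coprime_primes hq hp.out).mpr hqp
    have hx1 : x ≠ 1 := by
      rintro rfl
      rw [orderOf_one] at hx
      exact hq.one_lt.ne hx
    set α : MulAut (pCore p Q) := MulAut.conjNormal x with hα
    have hα1 : α ≠ 1 := by
      intro h1
      have h2 : x ∈ (MulAut.conjNormal : Q →* MulAut (pCore p Q)).ker := h1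
      rw [Helper60Core.ker_conjNormal] at h2
      exact hx1 (eq_one_of_isPGroup_coprime hPp (hCP h2) hcop)
    have hαq : α ^ q = 1 := by
      rw [hα, ← map_pow, ← hx, pow_orderOf_eq_one, map_one]
    have hord : orderOf α = q := orderOf_eq_prime hαq hα1
    have hdvd : q ∣ Nat.card (MulAut (pCore p Q)) := hord ▸ orderOf_dvd_natCard α
    exact absurd (H2 q hq hqp hdvd) (not_lt.mpr hlt.le)
  · obtain ⟨S, hS⟩ := hPp.exists_le_sylow
    haveI hSn : (S : Subgroup Q).Normal := Helper3PGroup.normal_of_commutator_le (hcle.trans hS)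
    have hSP : (S : Subgroup Q) ≤ pCore p Q := Helper60Core.le_pCore hSn S.isPGroup'
    have heq : pCore p Q = S := le_antisymm hS hSP
    rw [heq, Nat.coprime_comm, Nat.Prime.coprime_iff_not_dvd hp.out]
    exact S.not_dvd_index

theorem core {G : Type*} [Group G] [Finite G] [Group.IsSolvable G] (hodd : Odd (Nat.card G))
    (p : ℕ) [hp : Fact p.Prime]
    (H1 : ∀ k ∈ commutator (G ⧸ pPrimeCore p G), (orderOf k).Coprime p →
      k ∈ Subgroup.centralizer (pCore p (G ⧸ pPrimeCore p G) : Set (G ⧸ pPrimeCore p G)))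
    (H2 : ∀ q : ℕ, q.Prime → q ≠ p →
      q ∣ Nat.card (MulAut (pCore p (G ⧸ pPrimeCore p G))) → q < p) :
    (∀ q : ℕ, q.Prime → q ∣ (Cfsg.pPrimeCore p G).index → q ≤ p) ∧
      ((p = 3 ∨ ∀ q : ℕ, q.Prime → q ∣ Nat.card G → p ≤ q) → Cfsg.HasNormalPComplement p G) ∧
      Cfsg.HasNormalPComplement p ↥(commutator G) ∧
      (∀ L : Subgroup ↥(commutator G), (Nat.card L).Coprime p →
        L ≤ Cfsg.pPrimeCore p ↥(commutator G)) ∧
      commutator G ≤ Cfsg.pPrimePCore p G ∧ ((Cfsg.pPrimePCore p G).index).Coprime p := by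
  have hKc := Helper60Core.card_pPrimeCore_coprime (G := G) p
  have hQ0 := Helper60Core.pPrimeCore_quotient_eq_bot (G := G) p
  obtain ⟨hcp, hprimes, hcle, hidx⟩ := coreQ p hQ0 H1 H2
  have hmapc : ∀ x ∈ commutator G, (QuotientGroup.mk' (pPrimeCore p G)) x ∈
      commutator (G ⧸ pPrimeCore p G) := by
    intro x hx
    have h1 : (QuotientGroup.mk' (pPrimeCore p G)) x ∈
        (commutator G).map (QuotientGroup.mk' (pPrimeCore p G)) := Subgroup.mem_map_of_mem _ hx
    rw [commutator_def, Subgroup.map_commutator] at h1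
    exact Subgroup.commutator_mono le_top le_top h1
  have hprimes' : ∀ q : ℕ, q.Prime → q ∣ (Cfsg.pPrimeCore p G).index → q ≤ p := by
    intro q hq hqd
    rw [Subgroup.index_eq_card] at hqd
    exact hprimes q hq hqd
  -- the kernel in the commutator subgroup
  let f : ↥(commutator G) →* G ⧸ pPrimeCore p G :=
    (QuotientGroup.mk' (pPrimeCore p G)).comp (commutator G).subtype
  have hNc : (Nat.card f.ker).Coprime p := by
    have h1 : f.ker.map (commutator G).subtype ≤ pPrimeCore p G := by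
      rintro _ ⟨x, hx, rfl⟩
      exact (QuotientGroup.eq_one_iff _).mp hx
    have h2 := Subgroup.card_dvd_of_le h1
    rw [Subgroup.card_map_of_injective (commutator G).subtype_injective] at h2
    exact Nat.Coprime.coprime_dvd_left h2 hKc
  refine ⟨hprimes', ?_, ?_, ?_, ?_, ?_⟩
  · intro hcase
    rw [← Helper11Frobenius.hasNPC_iff]
    have huniq : ∀ {d : ℕ}, d.Prime → d ∣ (pPrimeCore p G).index → d = p := by
      intro d hd hdd
      have hle := hprimes' d hd hdd
      have hdG : d ∣ Nat.card G := hdd.trans (Subgroup.index_dvd_card _)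
      rcases hcase with h3 | hmin
      · subst h3
        have hd2 : d ≠ 2 := by
          rintro rfl
          exact (Nat.not_even_iff_odd.mpr hodd) (even_iff_two_dvd.mpr hdG)
        have := hd.two_le
        omega
      · exact le_antisymm hle (hmin d hd hdG)
    exact ⟨pPrimeCore p G, inferInstance, hKc, _,
      Nat.eq_prime_pow_of_unique_prime_dvd (Subgroup.index_ne_zero_of_finite) huniq⟩
  · rw [← Helper11Frobenius.hasNPC_iff]
    have hr : IsPGroup p f.range := by
      apply hcp.to_le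
      rintro _ ⟨x, rfl⟩
      exact hmapc x x.2
    obtain ⟨k, hk⟩ := hr.exists_card_eq
    exact ⟨f.ker, inferInstance, hNc, k, by rw [Subgroup.index_ker, hk]⟩
  · intro L hL
    refine le_trans ?_ (Helper60Core.le_pPrimeCore (N := f.ker) inferInstance hNc)
    intro x hx
    rw [MonoidHom.mem_ker]
    apply eq_one_of_isPGroup_coprime hcp (hmapc x x.2)
    have h1 : orderOf (f x) ∣ orderOf x := orderOf_map_dvd f x
    have h2 : orderOf x ∣ Nat.card L := by
      have := orderOf_dvd_natCard (⟨x, hx⟩ : L)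
      rwa [← Subgroup.orderOf_coe] at this
    exact Nat.Coprime.coprime_dvd_left (h1.trans h2) hL
  · intro x hx
    exact hcle (hmapc x hx)
  · unfold pPrimePCore
    rw [Subgroup.index_comap_of_surjective _ (QuotientGroup.mk'_surjective _)]
    exact hidx

/-- B-G Theorem 4.18. -/
theorem main {G : Type*} [Group G] [Finite G] [Group.IsSolvable G] (hodd : Odd (Nat.card G))
    (p : ℕ) [hp : Fact p.Prime] (hpG : p ∣ Nat.card G) (hr : Cfsg.PRankLE p 2 G) :
    (∀ q : ℕ, q.Prime → q ∣ (Cfsg.pPrimeCore p G).index → q ≤ p) ∧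
      ((p = 3 ∨ ∀ q : ℕ, q.Prime → q ∣ Nat.card G → p ≤ q) → Cfsg.HasNormalPComplement p G) ∧
      Cfsg.HasNormalPComplement p ↥(commutator G) ∧
      (∀ L : Subgroup ↥(commutator G), (Nat.card L).Coprime p →
        L ≤ Cfsg.pPrimeCore p ↥(commutator G)) ∧
      commutator G ≤ Cfsg.pPrimePCore p G ∧ ((Cfsg.pPrimePCore p G).index).Coprime p := by
  have hp2 : p ≠ 2 := by
    rintro rfl
    exact (Nat.not_even_iff_odd.mpr hodd) (even_iff_two_dvd.mpr hpG)
  have hKc := Helper60Core.card_pPrimeCore_coprime (G := G) p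
  have hrQ : PRankLE p 2 (G ⧸ pPrimeCore p G) := rank_quotient _ hKc hr
  have hrP : PRankLE p 2 (pCore p (G ⧸ pPrimeCore p G)) := rank_subgroup _ hrQ
  have hPp : IsPGroup p (pCore p (G ⧸ pPrimeCore p G)) := Helper60Core.pCore_isPGroup p
  have hQodd : Odd (Nat.card (G ⧸ pPrimeCore p G)) := by
    rw [← Subgroup.index_eq_card]
    exact Odd.of_dvd_nat hodd (Subgroup.index_dvd_card _)
  apply core hodd p
  · intro k hk hcop
    apply Helper3AutOdd.centralizes_of_mem_commutator p hp2 _ ⊤ hPp hrP _ _ _ k hk hcop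
    · intro x _
      exact (Subgroup.normalizer_eq_top (H := pCore p (G ⧸ pPrimeCore p G))) ▸ Subgroup.mem_top x
    · infer_instance
    · rw [Subgroup.card_top]; exact hQodd
  · intro q hq hqp hd
    exact (Helper3AutRank.main hp2 hPp hrP q hq hqp hd).2

end Cfsg.Agent.Lib.Helper3OddRank
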