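import Mathlib
import Cfsg.Prelude.Def_OddOrderLocal
import Cfsg.Agent.Lib.Helper3NarrowAut
import Cfsg.Agent.Lib.Helper3OddRank
import Cfsg.Agent.Lib.Helper3RankTower
import Cfsg.Agent.Lib.Helper3DerFit
import Cfsg.Agent.Lib.Helper31PLength

set_option autoImplicit false

/-! Applications of the automorphism theorem for narrow `p`-groups (B-G Section 5). -/

namespace Cfsg.Agent.Lib.Helper3NarrowApp

universe u

open scoped commutatorElement
open Cfsg Helper3NarrowAut

theorem elemAb_map_hom {p : ℕ} {R R' : Type*} [Group R] [Group R'] (f : R →* R') {E : Subgroup R}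
    (hE : IsElementaryAbelian p E) : IsElementaryAbelian p (E.map f) := by
  refine ⟨⟨⟨?_⟩⟩, ?_⟩
  · rintro ⟨_, a, ha, rfl⟩ ⟨_, b, hb, rfl⟩
    apply Subtype.ext
    show f a * f b = f b * f a
    rw [← map_mul, ← map_mul]
    exact congrArg f (congrArg Subtype.val (hE.1.is_comm.comm ⟨a, ha⟩ ⟨b, hb⟩))
  · rintro _ ⟨a, ha, rfl⟩
    rw [← map_pow, hE.2 a ha, map_one]

theorem elemAb_comap_inj {p : ℕ} {R R' : Type*} [Group R] [Group R'] (f : R →* R')
    (hf : Function.Injective f) {B : Subgroup R'} (hB : IsElementaryAbelian p B) :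
    IsElementaryAbelian p (B.comap f) := by
  refine ⟨⟨⟨?_⟩⟩, ?_⟩
  · rintro ⟨a, ha⟩ ⟨b, hb⟩
    apply Subtype.ext
    apply hf
    show f (a * b) = f (b * a)
    rw [map_mul, map_mul]
    exact congrArg Subtype.val (hB.1.is_comm.comm ⟨f a, ha⟩ ⟨f b, hb⟩)
  · intro a ha
    apply hf
    rw [map_pow, hB.2 _ ha, map_one]

theorem hasMaxSq_congr {p : ℕ} {R R' : Type*} [Group R] [Group R'] (e : R ≃* R')
    (h : HasMaxSq p R) : HasMaxSq p R' := by
  obtain ⟨E, hE, hE2, hmax⟩ := h
  refine ⟨E.map e.toMonoidHom, elemAb_map_hom _ hE, ?_, ?_⟩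
  · rw [Subgroup.card_map_of_injective e.injective, hE2]
  · intro B hB hEB
    have h1 := hmax (B.comap e.toMonoidHom) (elemAb_comap_inj _ e.injective hB)
      (Subgroup.map_le_iff_le_comap.mp hEB)
    rw [← h1, Subgroup.map_comap_eq_self_of_surjective e.surjective]

theorem rank_of_sylow {p k : ℕ} [Fact p.Prime] {G : Type*} [Group G] [Finite G] (S : Sylow p G)
    (h : PRankLE p k S) : PRankLE p k G := by
  intro A hAc hAe
  have hAp : IsPGroup p A := fun a => ⟨1, by rw [pow_one]; exact Subtype.ext (hAe a a.2)⟩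
  obtain ⟨S', hS'⟩ := hAp.exists_le_sylow
  have h1 : PRankLE p k S' :=
    Helper3RankTower.rank_of_injective (Sylow.equiv S' S).toMonoidHom (Sylow.equiv S' S).injective h
  have h2 : PRankLE p k A :=
    Helper3RankTower.rank_of_injective (Subgroup.inclusion hS') (Subgroup.inclusion_injective hS') h1
  have h3 := h2 ⊤ ⟨⟨fun a b => Subtype.ext (hAc.is_comm.comm a.1 b.1)⟩⟩
    (fun a _ => Subtype.ext (hAe a a.2))
  rwa [Subgroup.card_top] at h3

/-- ambient form with a normal subgroup -/
theorem centralizes_normal {G : Type u} [Group G] [Finite G] [Group.IsSolvable G]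
    (hodd : Odd (Nat.card G)) {p : ℕ} [hp : Fact p.Prime] (hp2 : p ≠ 2) (R : Subgroup G) [R.Normal]
    (hR : IsPGroup p R) (hmax : PRankLE p 2 R ∨ HasMaxSq p R) (k : G) (hk : k ∈ commutator G)
    (hcop : (orderOf k).Coprime p) : k ∈ Subgroup.centralizer (R : Set G) := by
  have h1 := aut_comm hp2 hR hmax hodd (MulAut.conjNormal : G →* MulAut R) k hk hcop
  have h2 : k ∈ (MulAut.conjNormal : G →* MulAut R).ker := h1
  rwa [Helper60Core.ker_conjNormal] at h2

/-- B-G Theorem 5.5/5.6: the `p`-structure for a narrow Sylow subgroup (= S1455). -/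
theorem main1455 {G : Type u} [Group G] [Finite G] [Group.IsSolvable G] (hodd : Odd (Nat.card G))
    (p : ℕ) [hp : Fact p.Prime] (hpG : p ∣ Nat.card G) (S : Sylow p G)
    (hS : IsNarrow p ↥(S : Subgroup G))
    (hpl : ¬ PRankLE p 2 ↥(S : Subgroup G) → PLengthLE p 1 G) :
    (∀ q : ℕ, q.Prime → q ∣ (pPrimeCore p G).index → q ≤ p) ∧
      ((p = 3 ∨ ∀ q : ℕ, q.Prime → q ∣ Nat.card G → p ≤ q) → HasNormalPComplement p G) ∧
      HasNormalPComplement p ↥(commutator G) ∧
      (∀ L : Subgroup ↥(commutator G), (Nat.card L).Coprime p →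
        L ≤ pPrimeCore p ↥(commutator G)) ∧
      commutator G ≤ pPrimePCore p G ∧ ((pPrimePCore p G).index).Coprime p := by
  have hp2 : p ≠ 2 := by
    rintro rfl
    exact (Nat.not_even_iff_odd.mpr hodd) (even_iff_two_dvd.mpr hpG)
  by_cases hr : PRankLE p 2 ↥(S : Subgroup G)
  · exact Helper3OddRank.main hodd p hpG (rank_of_sylow S hr)
  have hlen := (Helper31PLength.pLengthLE_one_iff p G).mp (hpl hr)
  have hmaxS := hasMaxSq_of_narrow S.isPGroup' hS hr
  have hKc := Helper60Core.card_pPrimeCore_coprime (G := G) p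
  have hsurj := QuotientGroup.mk'_surjective (pPrimeCore p G)
  have hPp : IsPGroup p (pCore p (G ⧸ pPrimeCore p G)) := Helper60Core.pCore_isPGroup p
  let f : ↥(S : Subgroup G) →* G ⧸ pPrimeCore p G :=
    (QuotientGroup.mk' (pPrimeCore p G)).comp (S : Subgroup G).subtype
  have hf : Function.Injective f := by
    rw [injective_iff_map_eq_one]
    intro x hx
    have hxN : (x : G) ∈ pPrimeCore p G := (QuotientGroup.eq_one_iff _).mp hx
    obtain ⟨j, hj⟩ := S.isPGroup' x
    have hj' : (x : G) ^ p ^ j = 1 := congrArg Subtype.val hj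
    have h2 : (x : G) ^ Nat.card (pPrimeCore p G) = 1 := by
      have := pow_card_eq_one' (G := pPrimeCore p G) (x := ⟨x, hxN⟩)
      exact congrArg Subtype.val this
    exact Subtype.ext (Helper3AutOdd.eq_one_of_pow_coprime h2 hj' (Nat.Coprime.pow_right j hKc))
  have hrange : f.range = pCore p (G ⧸ pPrimeCore p G) := by
    have h1 : f.range = (S : Subgroup G).map (QuotientGroup.mk' (pPrimeCore p G)) := by
      rw [MonoidHom.range_comp, Subgroup.range_subtype]
    rw [h1]
    apply le_antisymm
    · apply Helper31PLength.pgroup_le_of_index_coprime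
      · unfold pPrimePCore at hlen
        rwa [Subgroup.index_comap_of_surjective _ hsurj] at hlen
      · exact S.isPGroup'.map _
    · exact hPp.le_sylow_of_normal (S.mapSurjective hsurj)
  have e : ↥(S : Subgroup G) ≃* pCore p (G ⧸ pPrimeCore p G) :=
    (MonoidHom.ofInjective hf).trans (MulEquiv.subgroupCongr hrange)
  have hmaxP : HasMaxSq p (pCore p (G ⧸ pPrimeCore p G)) := hasMaxSq_congr e hmaxS
  have hQodd : Odd (Nat.card (G ⧸ pPrimeCore p G)) := by
    rw [← Subgroup.index_eq_card]
    exact Odd.of_dvd_nat hodd (Subgroup.index_dvd_card _)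
  apply Helper3OddRank.core hodd p
  · intro k hk hcop
    exact centralizes_normal hQodd hp2 _ hPp (Or.inr hmaxP) k hk hcop
  · intro q hq hqp hd
    exact aut_prime_lt hp2 hPp (Or.inr hmaxP) q hq hqp hd

/-- B-G: `G' ≤ F(G)` if `C_{F(G)}(E)` has rank at most 2 (= S1456). -/
theorem main1456 {G : Type u} [Group G] [Finite G] [Group.IsSolvable G] (hodd : Odd (Nat.card G))
    (p : ℕ) [hp : Fact p.Prime] (E : Subgroup G) (hE : E ≤ fittingSubgroup G)
    (hEe : IsElementaryAbelian p E)
    (hr : RankLE 2 ↥(fittingSubgroup G ⊓ Subgroup.centralizer (E : Set G))) :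
    commutator G ≤ fittingSubgroup G := by
  have hle : ∀ q : ℕ, q.Prime → pCore q G ≤ fittingSubgroup G := by
    intro q hq
    rw [Helper1Fitting.fitting_eq_iSup_pCore]
    exact le_iSup (fun t : Nat.Primes => pCore (t : ℕ) G) ⟨q, hq⟩
  have hEp : E ≤ pCore p G := by
    intro x hx
    exact Helper3DerFit.mem_pCore_of_mem_fitting p (hE hx) (k := 1) (by rw [pow_one]; exact hEe.2 x hx)
  apply Helper3DerFit.commutator_le_fitting
  intro t ht k hk hcop
  haveI : Fact t.Prime := ⟨ht⟩
  by_cases h2 : t = 2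
  · subst h2
    rw [Helper3RankTower.pCore_two_eq_bot hodd, Subgroup.mem_centralizer_iff]
    intro x hx
    rw [Subgroup.mem_bot.mp hx, one_mul, mul_one]
  apply centralizes_normal hodd h2 _ (Helper1Fitting.pCore_isPGroup t) _ k hk hcop
  by_cases htp : t = p
  · subst htp
    by_cases hrk : PRankLE t 2 (pCore t G)
    · exact Or.inl hrk
    right
    apply hasMaxSq_of_bound (Helper1Fitting.pCore_isPGroup t) hrk (E.comap (pCore t G).subtype)
      (elemAb_comap_inj _ (pCore t G).subtype_injective hEe)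
    intro B hB hEB
    have hmem : ∀ b : B, ((b : pCore t G) : G) ∈
        fittingSubgroup G ⊓ Subgroup.centralizer (E : Set G) := by
      intro b
      refine ⟨hle t ht b.1.2, ?_⟩
      show ((b : pCore t G) : G) ∈ Subgroup.centralizer (E : Set G)
      rw [Subgroup.mem_centralizer_iff]
      intro e he
      have heB : (⟨e, hEp he⟩ : pCore t G) ∈ B := hEB he
      have := hB.1.is_comm.comm ⟨_, heB⟩ b
      exact congrArg (fun z : B => ((z : pCore t G) : G)) this
    let g : ↥B →* ↥(fittingSubgroup G ⊓ Subgroup.centralizer (E : Set G)) :=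
      ((pCore t G).subtype.comp B.subtype).codRestrict _ hmem
    have hg : Function.Injective g := by
      intro a b hab
      have : ((a : pCore t G) : G) = ((b : pCore t G) : G) :=
        congrArg (fun z : ↥(fittingSubgroup G ⊓ Subgroup.centralizer (E : Set G)) => (z : G)) hab
      exact Subtype.ext (Subtype.ext this)
    have h3 := Helper3RankTower.rank_of_injective g hg (hr t ht) ⊤
      ⟨⟨fun a b => Subtype.ext (hB.1.is_comm.comm a.1 b.1)⟩⟩
      (fun a _ => Subtype.ext (hB.2 a a.2))
    rwa [Subgroup.card_top] at h3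
  · left
    have hdisj : Disjoint (pCore t G) (pCore p G) :=
      IsPGroup.disjoint_of_ne t p htp _ _ (Helper1Fitting.pCore_isPGroup t)
        (Helper1Fitting.pCore_isPGroup p)
    have hle2 : pCore t G ≤ fittingSubgroup G ⊓ Subgroup.centralizer (E : Set G) := by
      intro x hx
      refine ⟨hle t ht hx, ?_⟩
      show x ∈ Subgroup.centralizer (E : Set G)
      rw [Subgroup.mem_centralizer_iff]
      intro e he
      exact (Subgroup.commute_of_normal_of_disjoint _ _ inferInstance inferInstance hdisj x e hx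
        (hEp he)).eq.symm
    exact Helper3RankTower.rank_of_injective (Subgroup.inclusion hle2)
      (Subgroup.inclusion_injective hle2) (hr t ht)

end Cfsg.Agent.Lib.Helper3NarrowApp
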