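import Cfsg.Agent.Lib.Helper30Trans
import Cfsg.Agent.Lib.Helper31Nilpotent
import Cfsg.Agent.Lib.Helper27Balance
import Cfsg.Agent.Lib.Helper1Fitting
import Cfsg.Agent.S1312
import Cfsg.Agent.S0044
import Cfsg.Agent.S0028

set_option autoImplicit false

/-! Ambient Fitting subgroup API and a Bender-type uniqueness criterion (BG, Appendix). -/

namespace Cfsg.Agent.Lib.Helper30Bender

open Subgroup Cfsg
open Cfsg.Agent.Lib.Helper30SZ Cfsg.Agent.Lib.Helper30Coprime Cfsg.Agent.Lib.Helper30Trans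

variable {G : Type*} [Group G]

/-! ### `fittingOf` -/

theorem fittingOf_le (H : Subgroup G) : fittingOf H ≤ H := map_subtype_le _

theorem le_normalizer_fittingOf (H : Subgroup G) :
    H ≤ normalizer ((fittingOf H : Subgroup G) : Set G) := by
  rw [le_normalizer_iff]
  rintro x hx _ ⟨y, hy, rfl⟩
  exact ⟨⟨x, hx⟩ * y * ⟨x, hx⟩⁻¹,
    (Cfsg.Agent.Lib.Helper1Fitting.fitting_normal (G := H)).conj_mem y hy ⟨x, hx⟩, rfl⟩

theorem card_fittingOf (H : Subgroup G) :
    Nat.card (fittingOf H) = Nat.card (fittingSubgroup H) :=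
  card_map_of_injective H.subtype_injective

theorem fittingOf_isNilpotent [Finite G] (H : Subgroup G) : Group.IsNilpotent (fittingOf H) := by
  have h := Cfsg.Agent.Lib.Helper1Fitting.fitting_isNilpotent (G := H)
  exact (Group.isNilpotent_congr
    ((fittingSubgroup H).equivMapOfInjective H.subtype H.subtype_injective)).mp h

theorem le_fittingOf {H N : Subgroup G} (hNH : N ≤ H) (hn : H ≤ normalizer (N : Set G))
    (hnil : Group.IsNilpotent N) : N ≤ fittingOf H := by
  have h1 : N.subgroupOf H ≤ fittingSubgroup H := by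
    apply Cfsg.Agent.Lib.Helper1Fitting.le_fitting
      ((normal_subgroupOf_iff_le_normalizer hNH).mpr hn)
    exact (Group.isNilpotent_congr (subgroupOfEquivOfLe hNH)).mpr hnil
  intro y hy
  exact ⟨⟨y, hNH hy⟩, h1 (mem_subgroupOf.mpr hy), rfl⟩

theorem inf_centralizer_fittingOf_le [Finite G] {H : Subgroup G} (hs : Group.IsSolvable H) :
    H ⊓ centralizer ((fittingOf H : Subgroup G) : Set G) ≤ fittingOf H := by
  rintro x ⟨hxH, hxC⟩
  have h := Cfsg.Agent.S0044.result (G := H)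
  have h1 : (⟨x, hxH⟩ : H) ∈ centralizer ((fittingSubgroup H : Subgroup H) : Set H) := by
    rw [mem_centralizer_iff]
    intro y hy
    have := mem_centralizer_iff.mp hxC (y : G) ⟨y, hy, rfl⟩
    exact Subtype.ext this
  exact ⟨_, h h1, rfl⟩

/-- `F(H)` is generated by the normal `p`-subgroups of `H`. -/
theorem fittingOf_le_of_forall [Finite G] {H X : Subgroup G}
    (h : ∀ p : ℕ, p.Prime → ∀ D : Subgroup G, D ≤ H → H ≤ normalizer (D : Set G) →
      IsPGroup p D → D ≤ X) : fittingOf H ≤ X := by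
  unfold fittingOf
  rw [Cfsg.Agent.Lib.Helper1Fitting.fitting_eq_iSup_pCore, Subgroup.map_iSup]
  refine iSup_le fun p => ?_
  have : Fact (p : ℕ).Prime := ⟨p.2⟩
  apply h p p.2 _ (map_subtype_le _)
  · rw [le_normalizer_iff]
    rintro x hx _ ⟨y, hy, rfl⟩
    exact ⟨⟨x, hx⟩ * y * ⟨x, hx⟩⁻¹,
      (Cfsg.Agent.Lib.Helper1Fitting.pCore_normal (G := H) p).conj_mem y hy ⟨x, hx⟩, rfl⟩
  · exact (Cfsg.Agent.Lib.Helper1Fitting.pCore_isPGroup (G := H) p).map _

/-! ### the elements of order dividing `q` in `Z(F)` -/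

/-- `Ω_1(O_q(Z(F)))`. -/
def zq (F : Subgroup G) (q : ℕ) : Subgroup G where
  carrier := {z | z ∈ F ∧ z ∈ centralizer (F : Set G) ∧ z ^ q = 1}
  one_mem' := ⟨F.one_mem, Subgroup.one_mem _, one_pow _⟩
  mul_mem' := by
    rintro a b ⟨ha, hac, haq⟩ ⟨hb, hbc, hbq⟩
    refine ⟨F.mul_mem ha hb, Subgroup.mul_mem _ hac hbc, ?_⟩
    have hc : Commute a b := (mem_centralizer_iff.mp hbc a ha)
    rw [hc.mul_pow, haq, hbq, one_mul]
  inv_mem' := by
    rintro a ⟨ha, hac, haq⟩
    exact ⟨F.inv_mem ha, Subgroup.inv_mem _ hac, by rw [inv_pow, haq, inv_one]⟩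

theorem mem_zq {F : Subgroup G} {q : ℕ} {z : G} :
    z ∈ zq F q ↔ z ∈ F ∧ z ∈ centralizer (F : Set G) ∧ z ^ q = 1 := Iff.rfl

theorem zq_le (F : Subgroup G) (q : ℕ) : zq F q ≤ F ⊓ centralizer (F : Set G) :=
  fun _ hz => ⟨hz.1, hz.2.1⟩

theorem zq_le_left (F : Subgroup G) (q : ℕ) : zq F q ≤ F := fun _ hz => hz.1

theorem isPGroup_zq (F : Subgroup G) (q : ℕ) : IsPGroup q (zq F q) := by
  rintro ⟨z, hz⟩
  exact ⟨1, Subtype.ext (by simpa using hz.2.2)⟩

theorem zq_le_centralizer_zq (F : Subgroup G) (p q : ℕ) :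
    zq F p ≤ centralizer ((zq F q : Subgroup G) : Set G) := by
  intro x hx
  rw [mem_centralizer_iff]
  intro y hy
  exact mem_centralizer_iff.mp hx.2.1 y hy.1

theorem normalizer_le_normalizer_zq (F : Subgroup G) (q : ℕ) :
    normalizer (F : Set G) ≤ normalizer ((zq F q : Subgroup G) : Set G) := by
  rw [le_normalizer_iff]
  rintro g hg z ⟨hz, hzc, hzq⟩
  refine ⟨(mem_normalizer_iff.mp hg z).mp hz, ?_, ?_⟩
  · rw [mem_centralizer_iff] at hzc ⊢
    intro a ha
    have h1 : g⁻¹ * a * g ∈ F := (mem_normalizer_iff''.mp hg a).mp ha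
    have h2 := hzc _ h1
    calc a * (g * z * g⁻¹) = g * ((g⁻¹ * a * g) * z) * g⁻¹ := by group
      _ = g * (z * (g⁻¹ * a * g)) * g⁻¹ := by rw [h2]
      _ = g * z * g⁻¹ * a := by group
  · rw [conj_pow, hzq]; group

theorem zq_ne_bot [Finite G] {F : Subgroup G} (hnil : Group.IsNilpotent F) {q : ℕ}
    [hq : Fact q.Prime] (hd : q ∣ Nat.card F) : zq F q ≠ ⊥ := by
  obtain ⟨z, hz1, ⟨k, hk⟩, hzc⟩ :=
    Cfsg.Agent.Lib.Helper31Nilpotent.exists_central_p_element (N := F) hd
  have hk0 : k ≠ 0 := by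
    rintro rfl
    rw [pow_zero, orderOf_eq_one_iff] at hk
    exact hz1 hk
  obtain ⟨j, rfl⟩ := Nat.exists_eq_succ_of_ne_zero hk0
  intro hbot
  have hmem : ((z ^ q ^ j : F) : G) ∈ zq F q := by
    refine ⟨(z ^ q ^ j : F).2, ?_, ?_⟩
    · rw [mem_centralizer_iff]
      intro a ha
      have h1 : (⟨a, ha⟩ : F) * z ^ q ^ j = z ^ q ^ j * ⟨a, ha⟩ :=
        ((show Commute (⟨a, ha⟩ : F) z from hzc ⟨a, ha⟩).pow_right _)
      exact congrArg (Subtype.val : F → G) h1
    · have h1 : (z ^ q ^ j) ^ q = 1 := by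
        rw [← pow_mul, ← pow_succ, ← hk]; exact pow_orderOf_eq_one z
      exact congrArg (Subtype.val : F → G) h1
  rw [hbot, mem_bot] at hmem
  have h2 : z ^ q ^ j = 1 := Subtype.ext hmem
  have h3 := orderOf_dvd_of_pow_eq_one h2
  rw [hk] at h3
  have h4 := Nat.le_of_dvd (pow_pos hq.out.pos j) h3
  have h5 : q ^ j < q ^ j.succ := Nat.pow_lt_pow_right hq.out.one_lt (Nat.lt_succ_self j)
  omega

/-! ### maximal subgroups of simple groups -/

theorem normalizer_eq_of_coatom (hs : IsSimpleGroup G) {H D : Subgroup G} (hH : IsCoatom H)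
    (hD : D ≠ ⊥) (hDH : D ≤ H) (hHD : H ≤ normalizer (D : Set G)) :
    normalizer (D : Set G) = H := by
  have hDtop : D ≠ ⊤ := fun h => hH.1 (top_le_iff.mp (h ▸ hDH))
  have hN := normalizer_ne_top_of_simple hs hD hDtop
  by_contra hne
  exact hN (hH.2 _ (lt_of_le_of_ne hHD (Ne.symm hne)))

theorem coprime_card_of_isPGroup [Finite G] {p q : ℕ} [hp : Fact p.Prime] [hq : Fact q.Prime]
    (hpq : p ≠ q) {P Q : Subgroup G} (hP : IsPGroup p P) (hQ : IsPGroup q Q) :
    (Nat.card P).Coprime (Nat.card Q) := by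
  obtain ⟨m, hm⟩ := IsPGroup.iff_card.mp hP
  obtain ⟨n, hn⟩ := IsPGroup.iff_card.mp hQ
  rw [hm, hn]
  exact Nat.Coprime.pow _ _ ((Nat.coprime_primes hp.out hq.out).mpr hpq)

/-- the `A × B`-lemma step of the Bender method. -/
theorem le_centralizer_of_pq [Finite G] {p q : ℕ} [Fact p.Prime] [Fact q.Prime] (hpq : p ≠ q)
    {Zp Zq D H : Subgroup G} (hZp : IsPGroup p Zp) (hZq : IsPGroup q Zq) (hD : IsPGroup p D)
    (hcomm : Zp ≤ centralizer (Zq : Set G)) (hpD : Zp ≤ normalizer (D : Set G))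
    (hqD : Zq ≤ normalizer (D : Set G)) (hCH : centralizer (Zp : Set G) ≤ H)
    (hHq : H ≤ normalizer (Zq : Set G)) : Zq ≤ centralizer (D : Set G) := by
  have hcop : (Nat.card Zq).Coprime p := by
    obtain ⟨n, hn⟩ := IsPGroup.iff_card.mp hZq
    rw [hn]
    exact Nat.Coprime.pow_left _ ((Nat.coprime_primes Fact.out Fact.out).mpr (Ne.symm hpq))
  apply Cfsg.Agent.S0028.result p Zp Zq D hZp hcop hD hcomm hpD hqD
  rintro y ⟨hyD, hyC⟩
  have hyN : y ∈ normalizer (Zq : Set G) := hHq (hCH hyC)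
  rw [mem_centralizer_iff]
  intro z hz
  have h1 : y * z * y⁻¹ * z⁻¹ ∈ Zq :=
    Zq.mul_mem ((mem_normalizer_iff.mp hyN z).mp hz) (Zq.inv_mem hz)
  have h2 : y * z * y⁻¹ * z⁻¹ ∈ D := by
    have h3 : z * y⁻¹ * z⁻¹ ∈ D := (mem_normalizer_iff.mp (hqD hz) _).mp (D.inv_mem hyD)
    have e : y * z * y⁻¹ * z⁻¹ = y * (z * y⁻¹ * z⁻¹) := by group
    rw [e]; exact D.mul_mem hyD h3
  have h4 := eq_one_of_mem_of_mem (coprime_card_of_isPGroup hpq hD hZq) h1 h2
  calc z * y = (y * z * y⁻¹ * z⁻¹)⁻¹ * (y * z) := by group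
    _ = y * z := by rw [h4]; group

section main
variable [Finite G]

theorem eq_bot_of_isPGroup_of_not_dvd {p : ℕ} [Fact p.Prime] {D X : Subgroup G}
    (hD : IsPGroup p D) (hDX : D ≤ X) (h : ¬ p ∣ Nat.card X) : D = ⊥ := by
  obtain ⟨n, hn⟩ := IsPGroup.iff_card.mp hD
  rcases n with _ | n
  · exact card_eq_one.mp (by simpa using hn)
  · exact absurd ((hn ▸ dvd_pow_self p (Nat.succ_ne_zero n) : p ∣ Nat.card D).trans
      (card_dvd_of_le hDX)) h

theorem dvd_card_of_isPGroup_ne_bot {p : ℕ} [Fact p.Prime] {D X : Subgroup G}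
    (hD : IsPGroup p D) (h0 : D ≠ ⊥) (hDX : D ≤ X) : p ∣ Nat.card X := by
  by_contra h; exact h0 (eq_bot_of_isPGroup_of_not_dvd hD hDX h)

theorem normalizer_zq_eq (hs : IsSimpleGroup G) {H : Subgroup G} (hH : IsCoatom H) {r : ℕ}
    [Fact r.Prime] (hr : r ∣ Nat.card (fittingOf H)) :
    normalizer ((zq (fittingOf H) r : Subgroup G) : Set G) = H :=
  normalizer_eq_of_coatom hs hH (zq_ne_bot (fittingOf_isNilpotent H) hr)
    ((zq_le_left _ _).trans (fittingOf_le H))
    ((le_normalizer_fittingOf H).trans (normalizer_le_normalizer_zq _ r))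

/-- If `Z(F(H)) ≤ L`, then normal `p`-subgroups of `L` are centralized by the `q`-part of
`Z(F(H))`, hence lie in `H` (`p ≠ q` both dividing `|F(H)|`). -/
theorem normal_pSubgroup_le (hs : IsSimpleGroup G) {H L : Subgroup G} (hH : IsCoatom H)
    (hZL : fittingOf H ⊓ centralizer ((fittingOf H : Subgroup G) : Set G) ≤ L)
    {p q : ℕ} [Fact p.Prime] [Fact q.Prime] (hpq : p ≠ q) (hp : p ∣ Nat.card (fittingOf H))
    (hq : q ∣ Nat.card (fittingOf H)) {D : Subgroup G} (hLD : L ≤ normalizer (D : Set G))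
    (hD : IsPGroup p D) :
    zq (fittingOf H) q ≤ centralizer (D : Set G) ∧ D ≤ H := by
  have h1 : zq (fittingOf H) q ≤ centralizer (D : Set G) :=
    le_centralizer_of_pq hpq (isPGroup_zq _ p) (isPGroup_zq _ q) hD (zq_le_centralizer_zq _ p q)
      (((zq_le _ p).trans hZL).trans hLD) (((zq_le _ q).trans hZL).trans hLD)
      ((centralizer_le_normalizer _).trans (normalizer_zq_eq hs hH hp).le)
      (normalizer_zq_eq hs hH hq).ge
  refine ⟨h1, ?_⟩
  exact ((le_centralizer_iff.mp h1).trans (centralizer_le_normalizer _)).trans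
    (normalizer_zq_eq hs hH hq).le

theorem exists_other_prime {n : ℕ} (h : 2 ≤ n.primeFactors.card) (p : ℕ) :
    ∃ q : ℕ, q.Prime ∧ q ≠ p ∧ q ∣ n := by
  obtain ⟨q, hq, hne⟩ := Finset.exists_mem_ne (s := n.primeFactors) (by omega) p
  exact ⟨q, Nat.prime_of_mem_primeFactors hq, hne, Nat.dvd_of_mem_primeFactors hq⟩

theorem gfit_eq_fitting_of_solvable {N : Type*} [Group N] (h : Group.IsSolvable N) :
    generalizedFittingSubgroup N = fittingSubgroup N := by
  unfold generalizedFittingSubgroup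
  rw [Cfsg.Agent.Lib.Helper27Balance.layer_eq_bot_of_solvable
    (Group.isSolvable_of_isSolvable_injective (f := (layer N).subtype) (subtype_injective _)),
    bot_sup_eq]

/-- Bender: `F(H) ≤ L`, `F(L) ≤ H`, `|π(F(H))| ≥ 2` force `L = H` in a minimal simple group. -/
theorem eq_of_fitting_le (hG : IsMinimalSimple G) {H L : Subgroup G} (hH : IsCoatom H)
    (hL : IsCoatom L) (hF2 : 2 ≤ (Nat.card (fittingOf H)).primeFactors.card)
    (h1 : fittingOf H ≤ L) (h2 : fittingOf L ≤ H) : L = H := by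
  by_contra hne
  have hs : IsSimpleGroup G := hG.1
  obtain ⟨p, hp, hpH, _⟩ := Cfsg.Agent.S1312.result hG.2.1 H L hH hL (Ne.symm hne)
    (by rw [gfit_eq_fitting_of_solvable (hG.2.2 H hH.1)]; exact h1)
    (by rw [gfit_eq_fitting_of_solvable (hG.2.2 L hL.1)]; exact h2)
  rw [gfit_eq_fitting_of_solvable (hG.2.2 H hH.1)] at hpH
  have : Fact p.Prime := ⟨hp⟩
  obtain ⟨n, hn⟩ := IsPGroup.iff_card.mp hpH
  rw [card_fittingOf, hn] at hF2
  have h3 : (p ^ n).primeFactors ⊆ {p} := by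
    intro r hr
    have h4 := Nat.dvd_of_mem_primeFactors hr
    have h5 := (Nat.prime_of_mem_primeFactors hr).dvd_of_dvd_pow h4
    exact Finset.mem_singleton.mpr
      ((Nat.prime_dvd_prime_iff_eq (Nat.prime_of_mem_primeFactors hr) hp).mp h5)
  have h6 := Finset.card_le_card h3
  rw [Finset.card_singleton] at h6
  omega

/-- BG Appendix / Bender: uniqueness criterion. -/
theorem unique_of_center_le (hG : IsMinimalSimple G) {H L M : Subgroup G} (hH : IsCoatom H)
    (hL : IsCoatom L) (hF2 : 2 ≤ (Nat.card (fittingOf H)).primeFactors.card)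
    (hZM : fittingOf H ⊓ centralizer ((fittingOf H : Subgroup G) : Set G) ≤ M) (hML : M ≤ L)
    (hinv : ∀ Y ∈ invSubgroups ⊤ M (primesNotDvd (Nat.card (fittingOf H))), Y = ⊥) : L = H := by
  have hs : IsSimpleGroup G := hG.1
  have hZL := hZM.trans hML
  -- normal `r`-subgroups of `L` are trivial for `r ∉ π`
  have hout : ∀ r : ℕ, r.Prime → ¬ r ∣ Nat.card (fittingOf H) → ∀ D : Subgroup G,
      L ≤ normalizer (D : Set G) → IsPGroup r D → D = ⊥ := by
    intro r hr hrF D hLD hD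
    apply hinv D
    refine ⟨le_top, ?_, hML.trans hLD⟩
    intro s hsp hsd
    have : Fact r.Prime := ⟨hr⟩
    obtain ⟨n, hn⟩ := IsPGroup.iff_card.mp hD
    rw [hn] at hsd
    have : s = r := (Nat.prime_dvd_prime_iff_eq hsp hr).mp (hsp.dvd_of_dvd_pow hsd)
    rw [this]; exact ⟨hr, hrF⟩
  -- `F(L) ≤ H`
  have hFLH : fittingOf L ≤ H := by
    apply fittingOf_le_of_forall
    intro p hp D _ hLD hD
    by_cases hpF : p ∣ Nat.card (fittingOf H)
    · obtain ⟨q, hq, hqp, hqF⟩ := exists_other_prime hF2 p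
      have : Fact p.Prime := ⟨hp⟩
      have : Fact q.Prime := ⟨hq⟩
      exact (normal_pSubgroup_le hs hH hZL (Ne.symm hqp) hpF hqF hLD hD).2
    · rw [hout p hp hpF D hLD hD]; exact bot_le
  -- every prime of `F(H)` divides `|F(L)|`
  have hdiv : ∀ p : ℕ, p.Prime → p ∣ Nat.card (fittingOf H) → p ∣ Nat.card (fittingOf L) := by
    intro p hp hpF
    have : Fact p.Prime := ⟨hp⟩
    by_contra hpL
    have hcent : fittingOf L ≤ centralizer ((zq (fittingOf H) p : Subgroup G) : Set G) := by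
      apply fittingOf_le_of_forall
      intro r hr D hDL hLD hD
      by_cases hrp : r = p
      · subst hrp
        have hDF : D ≤ fittingOf L := le_fittingOf hDL hLD hD.isNilpotent
        rw [eq_bot_of_isPGroup_of_not_dvd hD hDF hpL]; exact bot_le
      · by_cases hrF : r ∣ Nat.card (fittingOf H)
        · have : Fact r.Prime := ⟨hr⟩
          exact le_centralizer_iff.mp (normal_pSubgroup_le hs hH hZL hrp hrF hpF hLD hD).1
        · rw [hout r hr hrF D hLD hD]; exact bot_le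
    have h1 : zq (fittingOf H) p ≤ fittingOf L :=
      (le_inf ((zq_le _ p).trans hZL) (le_centralizer_iff.mp hcent)).trans
        (inf_centralizer_fittingOf_le (hG.2.2 L hL.1))
    exact hpL (dvd_card_of_isPGroup_ne_bot (isPGroup_zq _ p)
      (zq_ne_bot (fittingOf_isNilpotent H) hpF) h1)
  -- `F(H) ≤ L`
  have hFHL : fittingOf H ≤ L := by
    apply fittingOf_le_of_forall
    intro p hp D hDH hHD hD
    by_cases hpF : p ∣ Nat.card (fittingOf H)
    · obtain ⟨q, hq, hqp, hqF⟩ := exists_other_prime hF2 p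
      have : Fact p.Prime := ⟨hp⟩
      have : Fact q.Prime := ⟨hq⟩
      exact (normal_pSubgroup_le hs hL (inf_le_left.trans hFLH) (Ne.symm hqp) (hdiv p hp hpF)
        (hdiv q hq hqF) hHD hD).2
    · have : Fact p.Prime := ⟨hp⟩
      have hDF : D ≤ fittingOf H := le_fittingOf hDH hHD hD.isNilpotent
      rw [eq_bot_of_isPGroup_of_not_dvd hD hDF hpF]; exact bot_le
  exact eq_of_fitting_le hG hH hL hF2 hFHL hFLH

end main

end Cfsg.Agent.Lib.Helper30Bender
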