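import Cfsg.Agent.S1393
import Cfsg.Agent.S1395
import Cfsg.Agent.S1396
import Cfsg.Agent.S1450
import Cfsg.Agent.S1452
import Cfsg.Agent.S1457
import Cfsg.Agent.S1466
import Cfsg.Agent.S1469
import Cfsg.Agent.S1482
import Cfsg.Agent.Lib.Helper3RankTwo
import Cfsg.Agent.Lib.Helper3NarrowApp
import Cfsg.Agent.Lib.Helper1SylowInv

/-!
Bender-Glauberman sections 8-9: basic ambient API for minimal simple groups of odd order.
-/

set_option autoImplicit false
open Cfsg

namespace Cfsg.Agent.Lib.Helper24BG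

open Subgroup
open Cfsg.Agent.Lib.Helper30Trans
open Cfsg.Agent.Lib.Helper37Cores
open Cfsg.Agent.Lib.Helper31Puig

universe u
variable {G : Type u} [Group G]

/-! ### minimal simple groups -/

theorem sol (hG : IsMinSimpleOddOrder G) {H : Subgroup G} (h : H ≠ ⊤) : Group.IsSolvable H :=
  hG.2.2.2 H h

theorem odd_sub [Finite G] (hG : IsMinSimpleOddOrder G) (H : Subgroup G) : Odd (Nat.card H) :=
  Odd.of_dvd_nat hG.1 (card_subgroup_dvd_card H)

theorem exists_coatom [Finite G] {H : Subgroup G} (h : H ≠ ⊤) : ∃ M, IsCoatom M ∧ H ≤ M :=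
  (eq_top_or_exists_le_coatom H).resolve_left h

theorem ne_two [Finite G] (hG : IsMinSimpleOddOrder G) {p : ℕ} [hp : Fact p.Prime] {R : Subgroup G}
    (hR : IsPGroup p R) (h1 : R ≠ ⊥) : p ≠ 2 := by
  rintro rfl
  obtain ⟨k, hk⟩ := IsPGroup.iff_card.mp hR
  have hk0 : k ≠ 0 := by
    rintro rfl
    exact h1 (card_eq_one.mp (by simpa using hk))
  have h2 : Odd (Nat.card R) := odd_sub hG R
  rw [hk] at h2
  exact (Nat.not_even_iff_odd.mpr h2) ((Nat.even_pow.mpr ⟨even_two, hk0⟩))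

theorem pgroup_ne_top [Finite G] (hG : IsMinSimpleOddOrder G) {p : ℕ} [hp : Fact p.Prime]
    {R : Subgroup G} (hR : IsPGroup p R) : R ≠ ⊤ := by
  rintro rfl
  have hGp : IsPGroup p G := by
    intro g
    obtain ⟨k, hk⟩ := hR ⟨g, mem_top g⟩
    exact ⟨k, congrArg Subtype.val hk⟩
  have hs := hG.2.1
  have : Nontrivial G := hs.toNontrivial
  have hc : center G ≠ ⊥ := by
    have := hGp.center_nontrivial
    exact (nontrivial_iff_ne_bot _).mp this
  rcases hs.eq_bot_or_eq_top_of_normal (center G) inferInstance with h0 | h0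
  · exact hc h0
  · apply hG.2.2.1
    refine ⟨⟨fun x y => ?_⟩⟩
    have : y ∈ center G := by rw [h0]; exact mem_top y
    exact (mem_center_iff.mp this) x

theorem norm_ne_top (hG : IsMinSimpleOddOrder G) {D : Subgroup G} (h0 : D ≠ ⊥) (h1 : D ≠ ⊤) :
    normalizer (D : Set G) ≠ ⊤ := normalizer_ne_top_of_simple hG.2.1 h0 h1

theorem norm_eq (hG : IsMinSimpleOddOrder G) {M D : Subgroup G} (hM : IsCoatom M) (h0 : D ≠ ⊥)
    (hDM : D ≤ M) (hn : M ≤ normalizer (D : Set G)) : normalizer (D : Set G) = M :=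
  Cfsg.Agent.Lib.Helper30Bender.normalizer_eq_of_coatom hG.2.1 hM h0 hDM hn

/-! ### uniqueness subgroups -/

theorem uniq_of {M X : Subgroup G} (hM : IsCoatom M) (hX : X ≤ M)
    (h : ∀ L : Subgroup G, IsCoatom L → X ≤ L → L = M) : InUniqueMaximal X :=
  ⟨M, ⟨hM, hX⟩, fun L hL => h L hL.1 hL.2⟩

theorem uniq_mono [Finite G] {X Y : Subgroup G} (hX : InUniqueMaximal X) (hXY : X ≤ Y) (hY : Y ≠ ⊤) :
    InUniqueMaximal Y := by
  obtain ⟨M, ⟨hM, hXM⟩, hu⟩ := hX
  obtain ⟨L, hL, hYL⟩ := exists_coatom hY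
  have : L = M := hu L ⟨hL, hXY.trans hYL⟩
  subst this
  exact uniq_of hL hYL (fun L' hL' h => hu L' ⟨hL', hXY.trans h⟩)

theorem isCoatom_cj {M : Subgroup G} (hM : IsCoatom M) (g : G) : IsCoatom (cj g M) := by
  constructor
  · intro h
    apply hM.1
    have : cj g⁻¹ (cj g M) = cj g⁻¹ ⊤ := by rw [h]
    rw [cj_inv_cj] at this
    rw [this]
    exact (map_top_of_surjective _ (MulAut.conj g⁻¹).surjective)
  · intro L hL
    have h1 : M < cj g⁻¹ L := by
      refine lt_of_le_of_ne (cj_le_iff.mp hL.le) ?_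
      intro h
      apply hL.ne
      rw [h, cj_cj_inv]
    have h2 := hM.2 _ h1
    have : cj g (cj g⁻¹ L) = cj g ⊤ := by rw [h2]
    rw [cj_cj_inv] at this
    rw [this]
    exact (map_top_of_surjective _ (MulAut.conj g).surjective)

theorem uniq_cj {X : Subgroup G} (hX : InUniqueMaximal X) (g : G) : InUniqueMaximal (cj g X) := by
  obtain ⟨M, ⟨hM, hXM⟩, hu⟩ := hX
  refine uniq_of (isCoatom_cj hM g) (cj_mono hXM) ?_
  intro L hL h
  have h1 := hu (cj g⁻¹ L) ⟨isCoatom_cj hL _, cj_le_iff.mp h⟩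
  rw [← h1, cj_cj_inv]

theorem uniq_of_cj {X : Subgroup G} (g : G) (hX : InUniqueMaximal (cj g X)) : InUniqueMaximal X := by
  have := uniq_cj hX g⁻¹
  rwa [cj_inv_cj] at this

/-- the unique maximal subgroup contains every proper overgroup -/
theorem le_of_uniq [Finite G] {X M Y : Subgroup G} (hM : IsCoatom M) (hXM : X ≤ M)
    (hX : InUniqueMaximal X) (hXY : X ≤ Y) (hY : Y ≠ ⊤) : Y ≤ M := by
  obtain ⟨M', ⟨hM', hXM'⟩, hu⟩ := hX
  obtain ⟨L, hL, hYL⟩ := exists_coatom hY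
  have h1 : L = M' := hu L ⟨hL, hXY.trans hYL⟩
  have h2 : M = M' := hu M ⟨hM, hXM⟩
  rw [h2, ← h1]
  exact hYL

/-! ### ambient Sylow subgroups -/

/-- `R` is a Sylow `p`-subgroup of the subgroup `X`. -/
def IsSyl (p : ℕ) (R X : Subgroup G) : Prop :=
  R ≤ X ∧ IsPGroup p R ∧ ∀ Q : Subgroup G, Q ≤ X → IsPGroup p Q → R ≤ Q → Q = R

/-- the Sylow subgroup of the subtype attached to an ambient Sylow subgroup -/
def IsSyl.toSylow {p : ℕ} {R X : Subgroup G} (h : IsSyl p R X) : Sylow p X where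
  toSubgroup := R.subgroupOf X
  isPGroup' := h.2.1.comap_subtype
  is_maximal' := by
    intro Q hQ hle
    have h1 : (Q.map X.subtype) = R := by
      apply h.2.2 _ (map_subtype_le _) (hQ.map _)
      intro x hx
      exact ⟨⟨x, h.1 hx⟩, hle (mem_subgroupOf.mpr hx), rfl⟩
    ext x
    rw [mem_subgroupOf, ← h1]
    constructor
    · intro hx
      exact ⟨x, hx, rfl⟩
    · rintro ⟨y, hy, hyx⟩
      have : y = x := Subtype.ext hyx
      exact this ▸ hy

theorem IsSyl.map_toSylow {p : ℕ} {R X : Subgroup G} (h : IsSyl p R X) :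
    ((h.toSylow : Sylow p X) : Subgroup X).map X.subtype = R := by
  show (R.subgroupOf X).map X.subtype = R
  rw [subgroupOf_map_subtype, inf_eq_left]
  exact h.1

theorem isSyl_of_sylow {p : ℕ} {X : Subgroup G} (S : Sylow p X) :
    IsSyl p ((S : Subgroup X).map X.subtype) X := by
  refine ⟨map_subtype_le _, S.2.map _, ?_⟩
  intro Q hQX hQ hle
  have h1 : Q.subgroupOf X = S := by
    apply S.3 hQ.comap_subtype
    intro x hx
    exact mem_subgroupOf.mpr (hle ⟨x, hx, rfl⟩)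
  rw [← h1, subgroupOf_map_subtype, inf_eq_left.mpr hQX]

theorem exists_isSyl_ge [Finite G] {p : ℕ} {B X : Subgroup G} (hBX : B ≤ X) (hB : IsPGroup p B) :
    ∃ R, IsSyl p R X ∧ B ≤ R := by
  obtain ⟨S, hS⟩ := (hB.comap_subtype (K := X)).exists_le_sylow
  refine ⟨_, isSyl_of_sylow S, ?_⟩
  intro x hx
  exact ⟨⟨x, hBX hx⟩, hS (mem_subgroupOf.mpr hx), rfl⟩

theorem IsSyl.mono {p : ℕ} {R X Y : Subgroup G} (h : IsSyl p R X) (hRY : R ≤ Y) (hYX : Y ≤ X) :
    IsSyl p R Y :=
  ⟨hRY, h.2.1, fun Q hQ hQp hle => h.2.2 Q (hQ.trans hYX) hQp hle⟩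

/-- the Sylow subgroup of `G` attached to an ambient Sylow subgroup of `⊤` -/
def IsSyl.toSylowTop {p : ℕ} {R : Subgroup G} (h : IsSyl p R ⊤) : Sylow p G where
  toSubgroup := R
  isPGroup' := h.2.1
  is_maximal' := fun {Q} hQ hle => h.2.2 Q le_top hQ hle

theorem isSyl_top {p : ℕ} (P : Sylow p G) : IsSyl p (P : Subgroup G) ⊤ :=
  ⟨le_top, P.2, fun _ _ hQ hle => P.3 hQ hle⟩

/-- normalizers grow in `p`-groups -/
theorem exists_lt_normalizer [Finite G] {p : ℕ} [Fact p.Prime] {R S : Subgroup G} (hS : IsPGroup p S)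
    (hlt : R < S) : R < S ⊓ normalizer (R : Set G) := by
  have : Group.IsNilpotent S := hS.isNilpotent
  have hnc := Group.normalizerCondition_of_isNilpotent (G := S)
  have hlt' : R.subgroupOf S < ⊤ := by
    rw [lt_top_iff_ne_top, Ne, subgroupOf_eq_top]
    exact fun h => hlt.not_ge h
  obtain ⟨x, hx1, hx2⟩ := SetLike.exists_of_lt (hnc _ hlt')
  refine lt_of_le_of_ne (le_inf hlt.le le_normalizer) ?_
  intro h
  apply hx2
  rw [mem_subgroupOf, h]
  refine ⟨x.2, ?_⟩
  show (x : G) ∈ normalizer (R : Set G)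
  rw [mem_normalizer_iff]
  intro y
  constructor
  · intro hy
    have := (mem_normalizer_iff.mp hx1 ⟨y, hlt.le hy⟩).mp (mem_subgroupOf.mpr hy)
    exact mem_subgroupOf.mp this
  · intro hy
    have hyS : y ∈ S := by
      have h1 : (x:G) * y * (x:G)⁻¹ ∈ S := hlt.le hy
      have : y = (x:G)⁻¹ * ((x:G) * y * (x:G)⁻¹) * (x:G) := by group
      rw [this]
      exact S.mul_mem (S.mul_mem (S.inv_mem x.2) h1) x.2
    have := (mem_normalizer_iff.mp hx1 ⟨y, hyS⟩).mpr (mem_subgroupOf.mpr hy)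
    exact mem_subgroupOf.mp this

/-- a Sylow subgroup of `X` whose normalizer lies in `X` is a Sylow subgroup of `G` -/
theorem IsSyl.top_of_normalizer_le [Finite G] {p : ℕ} [Fact p.Prime] {R X : Subgroup G}
    (h : IsSyl p R X) (hN : normalizer (R : Set G) ≤ X) : IsSyl p R ⊤ := by
  refine ⟨le_top, h.2.1, ?_⟩
  intro Q _ hQ hle
  by_contra hne
  have hlt : R < Q := lt_of_le_of_ne hle (Ne.symm hne)
  have h1 := exists_lt_normalizer hQ hlt
  have h2 := h.2.2 (Q ⊓ normalizer (R : Set G)) (inf_le_right.trans hN) (hQ.to_le inf_le_left) h1.le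
  exact h1.ne h2.symm


/-! ### solvable groups of odd order, ambient forms -/

section wrappers
variable [Finite G] {p : ℕ} [Fact p.Prime]

theorem ZL_ne_bot {R : Subgroup G} (hR : IsPGroup p R) (h1 : R ≠ ⊥) : ZL R ≠ ⊥ := by
  have hnt : Nontrivial R := (nontrivial_iff_ne_bot _).mpr h1
  have h := (Cfsg.Agent.S1466.result (R := R) p hR).2.2.1
  have hc : Nontrivial (center R) := hR.center_nontrivial
  obtain ⟨z, hz⟩ := exists_ne (1 : center R)
  have hz1 : (z : R) ∈ Subgroup.centralizer ((Cfsg.puigSubgroup R : Subgroup R) : Set R) := h.1 z.2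
  have hz2 : (z : R) ∈ Cfsg.puigSubgroup R := h.2 hz1
  intro hbot
  have hmem : ((z : R) : G) ∈ ZL R := by
    refine ⟨⟨(z : R), hz2, rfl⟩, ?_⟩
    show ((z : R) : G) ∈ centralizer ((pUp R : Subgroup G) : Set G)
    rw [mem_centralizer_iff]
    rintro _ ⟨y, hy, rfl⟩
    have := (mem_centralizer_iff.mp hz1) y hy
    exact congrArg Subtype.val this
  rw [hbot, mem_bot] at hmem
  apply hz
  apply Subtype.ext
  apply Subtype.ext
  exact hmem

/-- Puig factorization in ambient form -/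
theorem fac (hp2 : p ≠ 2) {H R : Subgroup G} (hs : Group.IsSolvable H) (hodd : Odd (Nat.card H))
    (hR : IsSyl p R H) : H ≤ coreOf p H ⊔ (H ⊓ normalizer (ZL R : Set G)) := by
  have h := (Cfsg.Agent.S1469.result (G := H) hodd p hp2 hR.toSylow).1
  rw [ZL_eq] at h
  have hZ : ZL R = (ZL ((hR.toSylow : Sylow p H) : Subgroup H)).map H.subtype := by
    rw [← ZL_map H.subtype (by rw [ker_subtype, inf_bot_eq]), hR.map_toSylow]
  have h2 := congrArg (Subgroup.map H.subtype) h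
  rw [Subgroup.map_sup, ← MonoidHom.range_eq_map, range_subtype] at h2
  refine le_trans (le_of_eq h2.symm) (sup_le_sup (le_refl _) ?_)
  rintro _ ⟨x, hx, rfl⟩
  refine ⟨x.2, ?_⟩
  show (x : G) ∈ normalizer (ZL R : Set G)
  rw [hZ]
  exact le_normalizer_map _ ⟨x, hx, rfl⟩

/-- a `p'`-subgroup normalized by a Sylow `p`-subgroup lies in `O_{p'}` -/
theorem inv_le_core (hp2 : p ≠ 2) {H R K : Subgroup G} (hs : Group.IsSolvable H) (hR : IsSyl p R H)
    (hKH : K ≤ H) (hK : (Nat.card K).Coprime p) (hRK : R ≤ normalizer (K : Set G)) :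
    K ≤ coreOf p H := by
  have h1 : K.subgroupOf H ≤ pPrimeCore p H := by
    apply Cfsg.Agent.Lib.Helper30Thompson.key_lemma
      (Cfsg.Agent.Lib.Helper30Constrained.isPConstrained_of_isSolvable p) (fun h => absurd h hp2)
      (R.subgroupOf H) (hR.2.1.comap_subtype) ?_ (K.subgroupOf H)
      (by rw [Cfsg.Agent.Lib.Helper30SZ.card_subgroupOf_of_le hKH]; exact hK) ?_
    · rintro x hx ⟨k, hk⟩
      have hxp : IsPGroup p (zpowers x) := Cfsg.Agent.Lib.Helper30Thompson.isPGroup_zpowers_of_pow hk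
      have hn : zpowers x ≤ normalizer ((R.subgroupOf H : Subgroup H) : Set H) := by
        rw [zpowers_le]
        exact centralizer_le_normalizer _ hx
      have h3 : IsPGroup p (zpowers x ⊔ R.subgroupOf H : Subgroup H) :=
        hxp.to_sup_of_normal_right' (hR.2.1.comap_subtype) hn
      have h4 := (hR.toSylow).3 h3 le_sup_right
      have h5 : x ∈ (zpowers x ⊔ R.subgroupOf H : Subgroup H) := le_sup_left (a := zpowers x) (mem_zpowers x)
      rw [h4] at h5
      exact h5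
    · rw [le_normalizer_iff]
      intro e he k hk
      rw [mem_subgroupOf] at he hk ⊢
      exact (mem_normalizer_iff.mp (hRK he) _).mp hk
  intro k hk
  exact ⟨⟨k, hKH hk⟩, h1 (mem_subgroupOf.mpr hk), rfl⟩

/-- `O_{p',p}(H)` as a subgroup of `G` -/
def ppOf (p : ℕ) (H : Subgroup G) : Subgroup G := (pPrimePCore p H).map H.subtype

omit [Finite G] [Fact p.Prime] in
theorem le_normalizer_ppOf (H : Subgroup G) : H ≤ normalizer (ppOf p H : Set G) :=
  le_normalizer_map_subtype _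

theorem ppOf_le_sup {H R : Subgroup G} (hR : IsSyl p R H) : ppOf p H ≤ coreOf p H ⊔ R := by
  have h := Cfsg.Agent.Lib.Helper31PLength.pPrimePCore_le_sup p H hR.toSylow
  have h2 := Subgroup.map_mono (f := H.subtype) h
  rw [Subgroup.map_sup, hR.map_toSylow] at h2
  exact h2

/-- abelian normal subgroups of a Sylow subgroup lie in `O_{p',p}` -/
theorem ab_le_ppOf {H R A : Subgroup G} (hs : Group.IsSolvable H) (hodd : Odd (Nat.card H))
    (hR : IsSyl p R H) (hAR : A ≤ R) (hAc : IsMulCommutative A) (hRA : R ≤ normalizer (A : Set G)) :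
    A ≤ ppOf p H := by
  have h := Cfsg.Agent.S1457.result (G := H) hodd p hR.toSylow (A.subgroupOf H)
    (by
      intro x hx
      exact mem_subgroupOf.mpr (hAR (mem_subgroupOf.mp hx)))
    (by
      refine ⟨⟨?_⟩⟩
      rintro ⟨a, ha⟩ ⟨b, hb⟩
      apply Subtype.ext
      apply Subtype.ext
      show (a : G) * (b : G) = (b : G) * (a : G)
      exact congrArg Subtype.val (hAc.is_comm.comm ⟨(a : G), mem_subgroupOf.mp ha⟩ ⟨(b : G), mem_subgroupOf.mp hb⟩))
    (by
      rw [le_normalizer_iff]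
      intro e he k hk
      have he' : (e : G) ∈ R := mem_subgroupOf.mp he
      rw [mem_subgroupOf] at hk ⊢
      exact (mem_normalizer_iff.mp (hRA he') _).mp hk)
  intro a ha
  exact ⟨⟨a, hR.1 (hAR ha)⟩, h (mem_subgroupOf.mpr ha), rfl⟩

/-- conjugation control: `H ≤ M` -/
theorem le_of_conj_control {H M P A : Subgroup G} (hP : IsSyl p P ⊤) (hPH : P ≤ H) (hPM : P ≤ M)
    (hcore : coreOf p H ≤ M) (hA : A ≤ ppOf p H) (hAp : IsPGroup p A)
    (hctl : ∀ g : G, cj g A ≤ P → g ∈ M) : H ≤ M := by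
  intro x hx
  have hPsH : IsSyl p P H := hP.mono hPH le_top
  have h1 : cj x A ≤ coreOf p H ⊔ P := by
    refine le_trans ?_ (ppOf_le_sup hPsH)
    have h2 : cj x (ppOf p H) = ppOf p H :=
      cj_eq_self_of_mem_normalizer (le_normalizer_ppOf H hx)
    rw [← h2]
    exact cj_mono hA
  obtain ⟨y, hy, hyq⟩ := Cfsg.Agent.Lib.Helper37Sylow.exists_conj_mem hP.toSylowTop
    (coreOf p H ⊔ P) le_sup_right (cj x A) (hAp.map _) h1
  have h3 : cj (y * x) A ≤ P := by
    rw [cj_mul]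
    rintro _ ⟨q, hq, rfl⟩
    exact hyq q hq
  have h4 := hctl _ h3
  have hyM : y ∈ M := (sup_le hcore hPM) hy
  have : x = y⁻¹ * (y * x) := by group
  rw [this]
  exact M.mul_mem (M.inv_mem hyM) h4

end wrappers


/-! ### ranks -/

section ranks
open Cfsg.Agent.Lib.Helper3RankTower Cfsg.Agent.Lib.Helper30Over

theorem rank_mono {p k l : ℕ} (hp : 0 < p) {X : Type*} [Group X] (h : PRankLE p k X) (hkl : k ≤ l) :
    PRankLE p l X := fun A hc he => (h A hc he).trans (Nat.pow_le_pow_right hp hkl)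

theorem card_le_of_cyclic_exp {p : ℕ} (hp : 0 < p) {X : Type*} [Group X] [IsCyclic X]
    (h : ∀ x : X, x ^ p = 1) : Nat.card X ≤ p := by
  obtain ⟨g, hg⟩ := IsCyclic.exists_generator (α := X)
  rw [← orderOf_eq_card_of_forall_mem_zpowers hg]
  exact Nat.le_of_dvd hp (orderOf_dvd_of_pow_eq_one (h g))

theorem rank_one_of_cyclic {p : ℕ} (hp : 0 < p) {X : Type*} [Group X] [IsCyclic X] : PRankLE p 1 X := by
  intro A _ he
  rw [pow_one]
  exact card_le_of_cyclic_exp hp (fun x => Subtype.ext (he x x.2))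

theorem rank_le_of_le {p k : ℕ} {X Y : Subgroup G} (hXY : X ≤ Y) (h : PRankLE p k Y) : PRankLE p k X :=
  rank_of_injective (inclusion hXY) (inclusion_injective hXY) h

theorem not_rank_of_elemAb {p k : ℕ} {X B : Subgroup G} (hBX : B ≤ X) (hB : IsElementaryAbelian p B)
    (hc : p ^ k < Nat.card B) : ¬ PRankLE p k X := by
  intro h
  have h1 := rank_le_of_le hBX h ⊤ ⟨⟨fun a b => Subtype.ext (hB.1.is_comm.comm a.1 b.1)⟩⟩
    (fun a _ => Subtype.ext (hB.2 a a.2))
  rw [card_top] at h1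
  omega

theorem exists_elemAb {p k : ℕ} {X : Subgroup G} (h : ¬ PRankLE p k X) :
    ∃ B : Subgroup G, B ≤ X ∧ IsElementaryAbelian p B ∧ p ^ k < Nat.card B := by
  obtain ⟨B, h1, h2, h3, h4⟩ := exists_elemAb_of_not_pRankLE h
  exact ⟨B, h1, ⟨h2, h3⟩, h4⟩

theorem isPGroup_of_elemAb {p : ℕ} {B : Subgroup G} (hB : IsElementaryAbelian p B) : IsPGroup p B :=
  fun a => ⟨1, by rw [pow_one]; exact Subtype.ext (hB.2 a a.2)⟩

theorem elemAb_of_le {p : ℕ} {B C : Subgroup G} (hB : IsElementaryAbelian p B) (h : C ≤ B) :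
    IsElementaryAbelian p C := by
  refine ⟨⟨⟨fun a b => ?_⟩⟩, fun a ha => hB.2 a (h ha)⟩
  apply Subtype.ext
  show (a : G) * (b : G) = (b : G) * (a : G)
  exact congrArg Subtype.val (hB.1.is_comm.comm ⟨(a : G), h a.2⟩ ⟨(b : G), h b.2⟩)

theorem elemAb_cj {p : ℕ} {B : Subgroup G} (hB : IsElementaryAbelian p B) (g : G) :
    IsElementaryAbelian p (cj g B) := by
  refine ⟨⟨⟨?_⟩⟩, ?_⟩
  · rintro ⟨_, a, ha, rfl⟩ ⟨_, b, hb, rfl⟩
    apply Subtype.ext
    have := congrArg Subtype.val (hB.1.is_comm.comm ⟨a, ha⟩ ⟨b, hb⟩)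
    show (MulAut.conj g).toMonoidHom a * (MulAut.conj g).toMonoidHom b =
      (MulAut.conj g).toMonoidHom b * (MulAut.conj g).toMonoidHom a
    rw [← map_mul, ← map_mul]
    exact congrArg _ this
  · rintro _ ⟨a, ha, rfl⟩
    rw [← map_pow, hB.2 a ha, map_one]

variable [Finite G] {p : ℕ} [Fact p.Prime]

/-- existence of `SCN_3` -/
theorem exists_scn3 (hp2 : p ≠ 2) {P : Subgroup G} (hP : IsPGroup p P) (hr : ¬ PRankLE p 2 P) :
    ∃ A, IsSCN P A ∧ ¬ PRankLE p 2 A := by
  have hpos : 0 < p := (Fact.out : p.Prime).pos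
  have hnc : ¬ IsCyclic P := fun h => hr (rank_mono hpos (rank_one_of_cyclic hpos) (by norm_num))
  obtain ⟨E, hEn, hE, hE2⟩ := Cfsg.Agent.Lib.Helper3RankTwo.main hp2 (Nat.card P) P le_rfl hP hnc
  obtain ⟨A, -, hAn, hAC, hA3⟩ := Cfsg.Agent.S1452.result p hp2 hP hr E hE hE2
  refine ⟨A.map P.subtype, ⟨map_subtype_le _, le_normalizer_map_subtype _, ?_⟩, ?_⟩
  · ext x
    constructor
    · rintro ⟨hxP, hxC⟩
      have h1 : (⟨x, hxP⟩ : P) ∈ centralizer (A : Set P) := by
        rw [mem_centralizer_iff]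
        intro a ha
        apply Subtype.ext
        exact (mem_centralizer_iff.mp hxC) a ⟨a, ha, rfl⟩
      rw [hAC] at h1
      exact ⟨⟨x, hxP⟩, h1, rfl⟩
    · rintro ⟨y, hy, rfl⟩
      refine ⟨y.2, ?_⟩
      show (y : G) ∈ centralizer ((A.map P.subtype : Subgroup G) : Set G)
      rw [mem_centralizer_iff]
      rintro _ ⟨a, ha, rfl⟩
      have hy' : y ∈ centralizer (A : Set P) := by rw [hAC]; exact hy
      exact congrArg Subtype.val ((mem_centralizer_iff.mp hy') a ha)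
  · intro h
    apply hA3
    exact rank_of_injective (A.equivMapOfInjective P.subtype P.subtype_injective).toMonoidHom
      (A.equivMapOfInjective P.subtype P.subtype_injective).injective h

omit [Finite G] [Fact p.Prime] in
theorem scn_comm {P A : Subgroup G} (hA : IsSCN P A) : IsMulCommutative A := by
  refine ⟨⟨fun a b => ?_⟩⟩
  apply Subtype.ext
  have hb : (b : G) ∈ P ⊓ centralizer (A : Set G) := by rw [hA.2.2]; exact b.2
  exact (mem_centralizer_iff.mp hb.2) a a.2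

/-- if all `P`-invariant `p'`-subgroups lie in `K`, so do all `A`-invariant ones, `A ∈ SCN_3(P)` -/
theorem inv_le_of_scn3 (hG : IsMinSimpleOddOrder G) (P : Sylow p G) {A K : Subgroup G}
    (hA : IsSCN (P : Subgroup G) A) (hA3 : ¬ PRankLE p 2 A)
    (hK : ∀ Y : Subgroup G, (Nat.card Y).Coprime p → (P : Subgroup G) ≤ normalizer (Y : Set G) → Y ≤ K) :
    ∀ Y : Subgroup G, (Nat.card Y).Coprime p → A ≤ normalizer (Y : Set G) → Y ≤ K := by
  have hpp : p.Prime := Fact.out
  have hAp : IsPGroup p A := P.2.to_le hA.1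
  have hAc : IsMulCommutative A := scn_comm hA
  have hA1 : A ≠ ⊥ := by
    rintro rfl
    apply hA3
    intro B _ _
    have : Nat.card B = 1 := Nat.card_eq_one_iff_unique.mpr ⟨inferInstance, ⟨1⟩⟩
    rw [this]
    exact Nat.one_le_pow _ _ hpp.pos
  obtain ⟨k, hk⟩ := IsPGroup.iff_card.mp hAp
  have hk0 : k ≠ 0 := by
    rintro rfl
    exact hA1 (card_eq_one.mp (by simpa using hk))
  have hpA : p ∣ Nat.card A := hk ▸ dvd_pow_self p hk0
  have hpG : p ∣ Nat.card G := hpA.trans (card_subgroup_dvd_card A)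
  have hTH : TransitivityHypothesis A := Cfsg.Agent.S1396.result hG p hpG A hAp hAc
    (Or.inr ⟨P, hA, fun h => hA3 (rank_mono hpp.pos h (by norm_num))⟩)
  have hAA : A ⊓ centralizer (A : Set G) = A := by
    rw [inf_eq_left]
    intro a ha
    rw [mem_centralizer_iff]
    intro b hb
    exact congrArg Subtype.val (hAc.is_comm.comm ⟨b, hb⟩ ⟨a, ha⟩)
  have hZ : ¬ RankLE 2 ↥(A ⊓ centralizer (A : Set G)) := by
    rw [hAA]
    exact fun h => hA3 (h p hpp)
  have hPtop : (P : Subgroup G) ≠ ⊤ := pgroup_ne_top hG P.2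
  have hPπ : ∀ r : ℕ, r.Prime → r ∣ Nat.card (P : Subgroup G) → r ∣ Nat.card A := by
    intro r hr hd
    obtain ⟨m, hm⟩ := IsPGroup.iff_card.mp P.2
    rw [hm] at hd
    rw [(Nat.prime_dvd_prime_iff_eq hr hpp).mp (hr.dvd_of_dvd_pow hd)]
    exact hpA
  have hsn : (A.subgroupOf (P : Subgroup G)).IsSubnormal := by
    apply Normal.isSubnormal
    exact (normal_subgroupOf_iff_le_normalizer hA.1).mpr hA.2.1
  set C := piCoreOf (primesNotDvd (Nat.card A)) (centralizer (A : Set G)) with hC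
  have hCK : C ≤ K := by
    apply hK
    · rw [Nat.coprime_comm, Nat.Prime.coprime_iff_not_dvd hpp]
      intro h
      exact (card_piCoreOf _ _ p hpp h).2 hpA
    · exact hA.2.1.trans ((normalizer_le_normalizer_centralizer A).trans
        (normalizer_le_normalizer_piCoreOf _ _))
  intro Y hY hAY
  apply Cfsg.Agent.Lib.Helper30Gen.le_of_forall_sylow_le
  intro q hq
  have hcop : (Nat.card A).Coprime (Nat.card Y) := by
    rw [hk]
    exact (Nat.Coprime.pow_left k hY.symm)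
  have : Group.IsSolvable A := by
    have := hAp.isNilpotent
    infer_instance
  obtain ⟨Yq, hYq⟩ := Cfsg.Agent.Lib.Helper1SylowInv.exists_invariant_sylow A Y hAY hcop (Or.inl this) q
  refine ⟨Yq, ?_⟩
  by_cases hqp : q = p
  · subst hqp
    obtain ⟨m, hm⟩ := IsPGroup.iff_card.mp Yq.2
    have h1 : Nat.card (Yq : Subgroup Y) = 1 := by
      apply Nat.Coprime.eq_one_of_dvd _ (card_subgroup_dvd_card (Yq : Subgroup Y))
      rw [hm]
      exact Nat.Coprime.pow_left m hY.symm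
    rw [card_eq_one.mp h1, Subgroup.map_bot]
    exact bot_le
  have hq' : q.Prime := hq.out
  have hqA : ¬ q ∣ Nat.card A := by
    intro h
    rw [hk] at h
    exact hqp ((Nat.prime_dvd_prime_iff_eq hq' hpp).mp (hq'.dvd_of_dvd_pow h))
  have htr := Cfsg.Agent.S1393.result hG A hTH hZ q hq' hqA
  have hsub := (Cfsg.Agent.S1395.result hG A hTH q hq' hqA P hPtop hPπ hA.1 hsn htr).2.2.1
  obtain ⟨Q, hQ, -⟩ := exists_max_ge (H := ⊤) (A := (P : Subgroup G)) (Y := ⊥) (π := {q})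
    ⟨bot_le, by
      intro r hr hd
      rw [card_bot] at hd
      exact absurd (Nat.dvd_one.mp hd) hr.one_lt.ne', by
      rw [le_normalizer_iff]
      intro h _ k hk
      rw [mem_bot] at hk ⊢
      rw [hk]; group⟩
  have hQK : Q ≤ K := by
    apply hK _ _ hQ.1.2.2
    have hQq : IsPGroup q Q := isPGroup_of_mem_inv hQ.1
    obtain ⟨m, hm⟩ := IsPGroup.iff_card.mp hQq
    rw [hm]
    exact Nat.Coprime.pow_left m ((Nat.coprime_primes hq' hpp).mpr hqp)
  obtain ⟨Q', hQ', hle⟩ := exists_max_ge (H := ⊤) (A := A) (π := {q})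
    (mem_inv_of_isPGroup (q := q) (le_top : (Yq : Subgroup Y).map Y.subtype ≤ ⊤) (Yq.2.map _) hYq)
  obtain ⟨c, hc, rfl⟩ := htr Q (hsub hQ) Q' hQ'
  refine hle.trans ?_
  rintro _ ⟨x, hx, rfl⟩
  exact K.mul_mem (K.mul_mem (hCK hc) (hQK hx)) (K.inv_mem (hCK hc))


theorem dvd_card_of_pgroup {R H : Subgroup G} (hR : IsPGroup p R) (h1 : R ≠ ⊥) (hRH : R ≤ H) :
    p ∣ Nat.card H := by
  obtain ⟨k, hk⟩ := IsPGroup.iff_card.mp hR
  have hk0 : k ≠ 0 := by
    rintro rfl
    exact h1 (card_eq_one.mp (by simpa using hk))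
  exact (hk ▸ dvd_pow_self p hk0 : p ∣ Nat.card R).trans (card_dvd_of_le hRH)

/-- rank at most two: the Sylow subgroup lies in `O_{p',p}` -/
theorem syl_le_ppOf_of_rank {H P : Subgroup G} (hs : Group.IsSolvable H) (hodd : Odd (Nat.card H))
    (hP : IsSyl p P H) (hP1 : P ≠ ⊥) (hr : PRankLE p 2 P) : P ≤ ppOf p H := by
  have hrH : PRankLE p 2 H := Cfsg.Agent.Lib.Helper3NarrowApp.rank_of_sylow hP.toSylow
    (rank_of_injective (subgroupOfEquivOfLe hP.1).toMonoidHom (subgroupOfEquivOfLe hP.1).injective hr)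
  have res := (Cfsg.Agent.S1450.result (G := H) hodd p (dvd_card_of_pgroup hP.2.1 hP1 hP.1) hrH).2.2.2.2
  have h1 := Cfsg.Agent.Lib.Helper31PLength.pgroup_le_of_index_coprime (pPrimePCore p H) res.2
    (P.subgroupOf H) hP.2.1.comap_subtype
  intro x hx
  exact ⟨⟨x, hP.1 hx⟩, h1 (mem_subgroupOf.mpr hx), rfl⟩

/-- B-G Lemma 9.1 for an arbitrary nontrivial `p`-subgroup `B`. -/
theorem uniq_of_inv (hG : IsMinSimpleOddOrder G) {M B : Subgroup G} (hM : IsCoatom M) (hBM : B ≤ M)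
    (hBp : IsPGroup p B) (hB1 : B ≠ ⊥)
    (h : ∀ Y : Subgroup G, (Nat.card Y).Coprime p → B ≤ normalizer (Y : Set G) → Y ≤ M) :
    ∀ L : Subgroup G, IsCoatom L → B ≤ L → L = M := by
  have hpp : p.Prime := Fact.out
  have hp2 : p ≠ 2 := ne_two hG hBp hB1
  by_contra hcon
  push Not at hcon
  obtain ⟨L, hL, hBL, hLM⟩ := hcon
  let 𝒮 : Set (Subgroup G × Subgroup G) :=
    {x | IsCoatom x.1 ∧ x.1 ≠ M ∧ B ≤ x.2 ∧ x.2 ≤ x.1 ∧ x.2 ≤ M ∧ IsPGroup p x.2}
  obtain ⟨⟨H, R⟩, ⟨hH, hHM, hBR, hRH, hRM, hRp⟩, hmax⟩ :=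
    Set.exists_max_image 𝒮 (fun x => Nat.card x.2) (Set.toFinite _)
      ⟨(L, B), hL, hLM, le_rfl, hBL, hBM, hBp⟩
  have hmax' : ∀ H' R' : Subgroup G, IsCoatom H' → H' ≠ M → B ≤ R' → R' ≤ H' → R' ≤ M →
      IsPGroup p R' → Nat.card R' ≤ Nat.card R :=
    fun H' R' a b c d e f => hmax (H', R') ⟨a, b, c, d, e, f⟩
  simp only at hH hHM hBR hRH hRM hRp
  have hR1 : R ≠ ⊥ := ne_bot_of_le_ne_bot hB1 hBR
  obtain ⟨P, hP, hRP⟩ := exists_isSyl_ge hRM hRp
  have hMs := sol hG hM.1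
  have hHs := sol hG hH.1
  have hK : ∀ Y : Subgroup G, (Nat.card Y).Coprime p → P ≤ normalizer (Y : Set G) → Y ≤ coreOf p M :=
    fun Y hY hPY => inv_le_core hp2 hMs hP (h Y hY ((hBR.trans hRP).trans hPY)) hY hPY
  have hP1 : P ≠ ⊥ := ne_bot_of_le_ne_bot hR1 hRP
  have hZLM : coreOf p M = ⊥ → normalizer (ZL P : Set G) = M := by
    intro hK1
    have h1 := fac hp2 hMs (odd_sub hG M) hP
    rw [hK1, bot_sup_eq] at h1
    exact norm_eq hG hM (ZL_ne_bot hP.2.1 hP1) ((ZL_le P).trans hP.1) (h1.trans inf_le_right)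
  have hNK : coreOf p M ≠ ⊥ → normalizer (coreOf p M : Set G) = M := fun hK1 =>
    norm_eq hG hM hK1 (coreOf_le p M) (le_normalizer_coreOf p M)
  have hNP : normalizer (P : Set G) ≤ M := by
    by_cases hK1 : coreOf p M = ⊥
    · rw [← hZLM hK1]
      exact norm_le_norm_ZL P
    · rw [← hNK hK1]
      intro g hg
      apply mem_normalizer_of_cj_eq
      have h3 : cj g (coreOf p M) ≤ coreOf p M := hK _ (by rw [card_cj]; exact card_coreOf_coprime p M) (by
          have := cj_le_normalizer_cj g (hP.1.trans (le_normalizer_coreOf p M))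
          rwa [cj_eq_self_of_mem_normalizer hg] at this)
      exact eq_of_le_of_card_ge h3 (by rw [card_cj])
  have hPtop : IsSyl p P ⊤ := hP.top_of_normalizer_le hNP
  have hcoreH : coreOf p H ≤ M :=
    h _ (card_coreOf_coprime p H) ((hBR.trans hRH).trans (le_normalizer_coreOf p H))
  have hfin : H ≤ M → False := fun hle => hHM ((hH.le_iff_eq hM.1).mp hle).symm
  rcases eq_or_lt_of_le hRP with hRPeq | hRPlt
  · subst hRPeq
    by_cases hK1 : coreOf p M = ⊥
    · have h1 : coreOf p H ≤ coreOf p M :=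
        hK _ (card_coreOf_coprime p H) (hRH.trans (le_normalizer_coreOf p H))
      have h2 := fac hp2 hHs (odd_sub hG H) (hPtop.mono hRH le_top)
      rw [hK1, le_bot_iff] at h1
      rw [h1, bot_sup_eq] at h2
      exact hfin (h2.trans (inf_le_right.trans (hZLM hK1).le))
    · by_cases hr : PRankLE p 2 R
      · apply hfin
        apply le_of_conj_control hPtop hRH hRM hcoreH (A := R)
          (syl_le_ppOf_of_rank hHs (odd_sub hG H) (hPtop.mono hRH le_top) hR1 hr) hRp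
        intro g hg
        apply hNP
        apply mem_normalizer_of_cj_eq
        exact eq_of_le_of_card_ge hg (by rw [card_cj])
      · obtain ⟨A, hA, hA3⟩ := exists_scn3 hp2 hRp hr
        have hstar := inv_le_of_scn3 hG hPtop.toSylowTop hA hA3 hK
        apply hfin
        apply le_of_conj_control hPtop hRH hRM hcoreH (A := A)
          (ab_le_ppOf hHs (odd_sub hG H) (hPtop.mono hRH le_top) hA.1 (scn_comm hA) hA.2.1)
          (hRp.to_le hA.1)
        intro g hg
        rw [← hNK hK1]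
        have h1 : cj g⁻¹ (coreOf p M) ≤ coreOf p M := by
          apply hstar _ (by rw [card_cj]; exact card_coreOf_coprime p M)
          have h2 := cj_le_normalizer_cj g⁻¹ (hg.trans (hRM.trans (le_normalizer_coreOf p M)))
          rwa [cj_inv_cj] at h2
        have h2 : cj g⁻¹ (coreOf p M) = coreOf p M := eq_of_le_of_card_ge h1 (by rw [card_cj])
        have h3 := mem_normalizer_of_cj_eq h2
        simpa using inv_mem h3
  · have hgrow := exists_lt_normalizer hP.2.1 hRPlt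
    have hNW : ∀ W : Subgroup G, W ≠ ⊥ → W ≤ R → normalizer (R : Set G) ≤ normalizer (W : Set G) →
        normalizer (W : Set G) ≤ M := by
      intro W hW1 hWR hNN
      obtain ⟨D, hD, hND⟩ := exists_coatom (norm_ne_top hG hW1 (pgroup_ne_top hG (hRp.to_le hWR)))
      by_cases hDM : D = M
      · exact hDM ▸ hND
      · exfalso
        have h1 := hmax' D (P ⊓ normalizer (R : Set G)) hD hDM (hBR.trans hgrow.le)
          (inf_le_right.trans (hNN.trans hND)) (inf_le_left.trans hP.1) (hP.2.1.to_le inf_le_left)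
        exact hgrow.ne (eq_of_le_of_card_ge hgrow.le h1)
    have hRsyl : IsSyl p R H := by
      refine ⟨hRH, hRp, ?_⟩
      intro Q hQH hQ hle
      by_contra hne
      have hlt : R < Q := lt_of_le_of_ne hle (Ne.symm hne)
      have hg2 := exists_lt_normalizer hQ hlt
      have h1 := hmax' H (Q ⊓ normalizer (R : Set G)) hH hHM (hBR.trans hg2.le)
        (inf_le_left.trans hQH) (inf_le_right.trans (hNW R hR1 le_rfl le_rfl)) (hQ.to_le inf_le_left)
      exact hg2.ne (eq_of_le_of_card_ge hg2.le h1)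
    apply hfin
    refine (fac hp2 hHs (odd_sub hG H) hRsyl).trans (sup_le hcoreH (inf_le_right.trans ?_))
    exact hNW _ (ZL_ne_bot hRp hR1) (ZL_le R) (norm_le_norm_ZL R)

end ranks

end Cfsg.Agent.Lib.Helper24BG
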