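import Mathlib
import Cfsg.Prelude.Def_OddOrderLocal
import Cfsg.Agent.Lib.Helper24BG
import Cfsg.Agent.Lib.Helper3NarrowAut
import Cfsg.Agent.Lib.Helper3PGroup

/-!
PROJECT 157 (helper14): B-G 15.7 for `K ≠ 1`, `U = 1` (row S1383), piece `center`.
Sketches: notes/helper14/BG157.md.
-/

set_option autoImplicit false
set_option linter.unusedSectionVars false
set_option linter.unusedVariables false
open Cfsg

namespace Cfsg.Agent.Lib.H14BG157center

open Subgroup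
open Cfsg.Agent.Lib Cfsg.Agent.Lib.Helper24BG

universe u
variable {G : Type u} [Group G] [Finite G]

/-- PURE.  `x ∉ Z(P)` (else `C_P(x) = P` would be abelian), so `⟨x⟩ ∩ Z(P) = 1`.  `Z(P) ≠ 1`: take `z ∈ Z(P)` of order `p`.
For `w ∈ Z(P)` with `w ^ p = 1`: `⟨x, z, w⟩ ≤ C_P(x)` is elementary abelian, so of order `≤ p²` (`hr`), `= |⟨x, z⟩|`;
`w = x^i z^j`, `x^i ∈ Z(P)`, so `x^i = 1`.   `E = ⟨x, z⟩` (as a subgroup of `↥P`) is a maximal elementary abelian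
subgroup: `B ⊇ E` elementary abelian lies in `C_P(x)`, so `|B| ≤ p²`. -/
theorem center_props {P : Subgroup G} {p : ℕ} [Fact p.Prime] (hP : IsPGroup p P)
    (hPna : ¬ IsMulCommutative P) {x : G} (hxP : x ∈ P) (hxp : orderOf x = p)
    (hxab : IsMulCommutative ↥(P ⊓ centralizer ({x} : Set G)))
    (hr : PRankLE p 2 ↥(P ⊓ centralizer ({x} : Set G))) :
    (∃ z : G, orderOf z = p ∧ z ∈ P ⊓ centralizer (P : Set G) ∧
      ∀ w ∈ P ⊓ centralizer (P : Set G), w ^ p = 1 → w ∈ zpowers z) ∧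
    Helper3NarrowAut.HasMaxSq p ↥P := by
  classical
  have hp : p.Prime := Fact.out
  have hmemZ : ∀ {y : G}, y ∈ P ⊓ centralizer (P : Set G) ↔ y ∈ P ∧ ∀ w ∈ P, w * y = y * w := by
    intro y
    rw [Subgroup.mem_inf, Subgroup.mem_centralizer_iff]
    rfl
  have hcommC : ∀ c ∈ P ⊓ centralizer ({x} : Set G), ∀ d ∈ P ⊓ centralizer ({x} : Set G),
      c * d = d * c :=
    fun c hc d hd => congrArg Subtype.val (hxab.is_comm.comm ⟨c, hc⟩ ⟨d, hd⟩)
  let Ω : Subgroup G :=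
    { carrier := {c | c ∈ P ⊓ centralizer ({x} : Set G) ∧ c ^ p = 1}
      one_mem' := ⟨one_mem _, one_pow p⟩
      mul_mem' := by
        rintro c d ⟨hc, hc'⟩ ⟨hd, hd'⟩
        exact ⟨mul_mem hc hd, by
          rw [(show Commute c d from hcommC c hc d hd).mul_pow, hc', hd', one_mul]⟩
      inv_mem' := by
        rintro c ⟨hc, hc'⟩
        exact ⟨inv_mem hc, by rw [inv_pow, hc', inv_one]⟩ }
  have hΩmem : ∀ {c : G}, c ∈ Ω ↔ c ∈ P ⊓ centralizer ({x} : Set G) ∧ c ^ p = 1 := Iff.rfl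
  have hΩC : Ω ≤ P ⊓ centralizer ({x} : Set G) := fun c hc => hc.1
  have hΩP : Ω ≤ P := fun c hc => hc.1.1
  have hΩcard : Nat.card Ω ≤ p ^ 2 := by
    have := hr (Ω.subgroupOf (P ⊓ centralizer ({x} : Set G)))
      ⟨⟨fun a b => Subtype.ext (hxab.is_comm.comm a.1 b.1)⟩⟩
      (fun a ha => Subtype.ext (Subgroup.mem_subgroupOf.1 ha).2)
    rwa [Nat.card_congr (Subgroup.subgroupOfEquivOfLe hΩC).toEquiv] at this
  have hxC : x ∈ P ⊓ centralizer ({x} : Set G) := ⟨hxP, mem_centralizer_singleton_iff.2 rfl⟩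
  have hxΩ : x ∈ Ω := ⟨hxC, by rw [← hxp]; exact pow_orderOf_eq_one x⟩
  have hx1 : x ≠ 1 := by
    rintro rfl
    rw [orderOf_one] at hxp
    exact hp.one_lt.ne hxp
  have hxZ : x ∉ P ⊓ centralizer (P : Set G) := by
    intro h
    apply hPna
    have hPC : P ≤ P ⊓ centralizer ({x} : Set G) :=
      fun w hw => ⟨hw, mem_centralizer_singleton_iff.2 ((hmemZ.1 h).2 w hw)⟩
    exact ⟨⟨fun a b => Subtype.ext (hcommC a (hPC a.2) b (hPC b.2))⟩⟩
  have hnt : Nontrivial P := ⟨⟨⟨x, hxP⟩, 1, fun h => hx1 (congrArg Subtype.val h)⟩⟩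
  obtain ⟨z', -, hz'Z, hz'1, hz'p⟩ := Helper3PGroup.exists_central_order_p hP ⊤ top_ne_bot
  have hzZ : (z' : G) ∈ P ⊓ centralizer (P : Set G) := by
    rw [hmemZ]
    refine ⟨z'.2, fun w hw => ?_⟩
    exact congrArg Subtype.val (Subgroup.mem_center_iff.mp hz'Z ⟨w, hw⟩)
  have hzp : (z' : G) ^ p = 1 := congrArg Subtype.val hz'p
  have hz1 : (z' : G) ≠ 1 := fun h => hz'1 (Subtype.ext h)
  have hzord : orderOf (z' : G) = p := orderOf_eq_prime hzp hz1
  have hZC : P ⊓ centralizer (P : Set G) ≤ P ⊓ centralizer ({x} : Set G) := by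
    intro w hw
    exact ⟨hw.1, mem_centralizer_singleton_iff.2 ((hmemZ.1 hw).2 x hxP).symm⟩
  have h1 : zpowers (z' : G) ≤ Ω ⊓ (P ⊓ centralizer (P : Set G)) := by
    rw [zpowers_le]
    exact ⟨⟨hZC hzZ, hzp⟩, hzZ⟩
  have h2 : Ω ⊓ (P ⊓ centralizer (P : Set G)) < Ω :=
    lt_of_le_of_ne inf_le_left (fun h => hxZ (by
      have : x ∈ Ω ⊓ (P ⊓ centralizer (P : Set G)) := by rw [h]; exact hxΩ
      exact this.2))
  obtain ⟨i, hi⟩ := (hP.to_le hΩP).exists_card_eq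
  obtain ⟨j, hj⟩ := (hP.to_le (inf_le_left.trans hΩP :
    Ω ⊓ (P ⊓ centralizer (P : Set G)) ≤ P)).exists_card_eq
  have hlt : Nat.card ↥(Ω ⊓ (P ⊓ centralizer (P : Set G))) < Nat.card Ω := by
    by_contra hge
    push Not at hge
    exact h2.ne (Subgroup.eq_of_le_of_card_ge h2.le hge)
  have hzc : Nat.card (zpowers (z' : G)) = p := by rw [Nat.card_zpowers, hzord]
  have hle : p ≤ Nat.card ↥(Ω ⊓ (P ⊓ centralizer (P : Set G))) :=
    hzc ▸ Subgroup.card_le_of_le h1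
  have hi2 : i ≤ 2 := by
    rw [hi] at hΩcard
    exact (Nat.pow_le_pow_iff_right hp.one_lt).1 hΩcard
  have hji : j < i := by
    rw [hi, hj] at hlt
    exact (Nat.pow_lt_pow_iff_right hp.one_lt).1 hlt
  have hj1 : 1 ≤ j := by
    rw [hj] at hle
    rcases Nat.eq_zero_or_pos j with h0 | h0
    · rw [h0, pow_zero] at hle
      exact absurd hle (by have := hp.one_lt; omega)
    · exact h0
  have hj' : j = 1 := by omega
  have hi' : i = 2 := by omega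
  rw [hi'] at hi
  rw [hj', pow_one] at hj
  have heq : zpowers (z' : G) = Ω ⊓ (P ⊓ centralizer (P : Set G)) :=
    Subgroup.eq_of_le_of_card_ge h1 (by rw [hj, hzc])
  refine ⟨⟨z', hzord, hzZ, fun w hw hwp => ?_⟩, ?_⟩
  · rw [heq]
    exact ⟨⟨hZC hw, hwp⟩, hw⟩
  · refine ⟨Ω.subgroupOf P, ⟨⟨⟨fun a b => ?_⟩⟩, fun a ha => ?_⟩, ?_, ?_⟩
    · apply Subtype.ext
      apply Subtype.ext
      exact hcommC _ (Subgroup.mem_subgroupOf.1 a.2).1 _ (Subgroup.mem_subgroupOf.1 b.2).1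
    · exact Subtype.ext (Subgroup.mem_subgroupOf.1 ha).2
    · rw [Nat.card_congr (Subgroup.subgroupOfEquivOfLe hΩP).toEquiv, hi]
    · intro B hB hEB
      apply le_antisymm _ hEB
      intro b hb
      rw [Subgroup.mem_subgroupOf]
      have hxB : (⟨x, hxP⟩ : P) ∈ B := hEB (Subgroup.mem_subgroupOf.2 hxΩ)
      have hc : b * (⟨x, hxP⟩ : P) = ⟨x, hxP⟩ * b :=
        congrArg Subtype.val (hB.1.is_comm.comm ⟨b, hb⟩ ⟨⟨x, hxP⟩, hxB⟩)
      refine ⟨⟨b.2, mem_centralizer_singleton_iff.2 (congrArg Subtype.val hc)⟩, ?_⟩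
      exact congrArg Subtype.val (hB.2 b hb)

end Cfsg.Agent.Lib.H14BG157center
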