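import Mathlib
import Cfsg.Prelude.Def_OddOrderLocal
import Cfsg.Agent.Lib.Helper24BG

/-!
PROJECT 157 (helper14): B-G 15.7 for `K ≠ 1`, `U = 1` (row S1383), piece `nilsyl`.
Sketches: notes/helper14/BG157.md.
-/

set_option autoImplicit false
set_option linter.unusedSectionVars false
set_option linter.unusedVariables false
open Cfsg

namespace Cfsg.Agent.Lib.H14BG157nilsyl

open Subgroup
open Cfsg.Agent.Lib Cfsg.Agent.Lib.Helper24BG

universe u
variable {G : Type u} [Group G] [Finite G]

/-- PURE.  The Sylow `p`-subgroup of a nilpotent subgroup `H` is normal in `H`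
(`Sylow.normal_of_all_max_subgroups_normal` / `Group.IsNilpotent` API: `IsNilpotent.sylow...`,
`normalizerCondition_of_isNilpotent`, `Sylow.normal_of_normalizerCondition`), hence unique: it contains
every `p`-subgroup of `H` and is normalised by `N(H)`. -/
theorem nil_syl {H P : Subgroup G} {p : ℕ} [Fact p.Prime] (hH : Group.IsNilpotent H)
    (hP : IsSyl p P H) :
    (∀ Q : Subgroup G, Q ≤ H → IsPGroup p Q → Q ≤ P) ∧
      normalizer (H : Set G) ≤ normalizer (P : Set G) := by
  have hnc := Group.normalizerCondition_of_isNilpotent (G := H)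
  have hN : ((hP.toSylow : Sylow p H) : Subgroup H).Normal :=
    Sylow.normal_of_normalizerCondition hnc hP.toSylow
  have h1 : ∀ Q : Subgroup G, Q ≤ H → IsPGroup p Q → Q ≤ P := by
    intro Q hQH hQ
    obtain ⟨S', hS'⟩ := (hQ.comap_subtype (K := H)).exists_le_sylow
    have huniq := Sylow.unique_of_normal hP.toSylow hN
    have hS : S' = hP.toSylow := Subsingleton.elim _ _
    intro x hx
    have hx' : (⟨x, hQH hx⟩ : H) ∈ (S' : Subgroup H) := hS' (mem_subgroupOf.mpr hx)
    rw [hS] at hx'
    exact mem_subgroupOf.mp hx'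
  refine ⟨h1, ?_⟩
  have key : ∀ g ∈ normalizer (H : Set G), ∀ x ∈ P, g * x * g⁻¹ ∈ P := by
    intro g hg x hx
    have hle : P.map (MulAut.conj g).toMonoidHom ≤ P := by
      apply h1
      · rintro _ ⟨y, hy, rfl⟩
        exact (mem_normalizer_iff.1 hg y).1 (hP.1 hy)
      · exact hP.2.1.map _
    exact hle ⟨x, hx, by simp [MulAut.conj_apply]⟩
  intro g hg
  rw [mem_normalizer_iff]
  intro x
  constructor
  · exact key g hg x
  · intro hx
    have := key g⁻¹ (inv_mem hg) _ hx
    have e : g⁻¹ * (g * x * g⁻¹) * g⁻¹⁻¹ = x := by group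
    rwa [e] at this

end Cfsg.Agent.Lib.H14BG157nilsyl
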