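-- copy (renamed) of a teammate library file, kept separate so that it is independent of later edits there
import Mathlib
import Cfsg.Prelude.Def_Solvable
import Cfsg.Prelude.Def_CaseTheorems

set_option autoImplicit false

namespace Cfsg.Agent.Lib.Helper14CoreB

open Cfsg

variable {G : Type*} [Group G]

theorem pCore_isPGroup (p : ℕ) : IsPGroup p (pCore p G) :=
  Sylow.sSup_of_normal _ (fun _ h => h.2) (fun _ h => h.1)

theorem le_pCore {p : ℕ} {N : Subgroup G} (hN : N.Normal) (hp : IsPGroup p N) : N ≤ pCore p G :=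
  le_sSup ⟨hN, hp⟩

theorem le_pPrimeCore {p : ℕ} {N : Subgroup G} (hN : N.Normal) (hp : (Nat.card N).Coprime p) :
    N ≤ pPrimeCore p G :=
  le_sSup ⟨hN, hp⟩

theorem card_mul_relIndex {H K : Subgroup G} (h : H ≤ K) :
    Nat.card H * H.relIndex K = Nat.card K := by
  have := Subgroup.relIndex_mul_relIndex ⊥ H K bot_le h
  rwa [Subgroup.relIndex_bot_left, Subgroup.relIndex_bot_left] at this

theorem card_comap_of_surjective {G' : Type*} [Group G'] {f : G →* G'}
    (hf : Function.Surjective f) (N : Subgroup G') :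
    Nat.card (N.comap f) = Nat.card f.ker * Nat.card N := by
  have h1 : f.ker ≤ N.comap f := by
    intro x hx
    rw [Subgroup.mem_comap, MonoidHom.mem_ker.1 hx]
    exact N.one_mem
  rw [← card_mul_relIndex h1, Subgroup.relIndex_ker, Subgroup.map_comap_eq_self_of_surjective hf]

theorem card_sup_coprime [Finite G] {p : ℕ} {N K : Subgroup G} [N.Normal]
    (hN : (Nat.card N).Coprime p) (hK : (Nat.card K).Coprime p) :
    (Nat.card (N ⊔ K : Subgroup G)).Coprime p := by
  rw [← card_mul_relIndex (le_sup_left : N ≤ N ⊔ K), Subgroup.relIndex_sup_left]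
  exact Nat.Coprime.mul_left hN (Nat.Coprime.coprime_dvd_left (Subgroup.relIndex_dvd_card N K) hK)

theorem card_pPrimeCore_coprime [Finite G] (p : ℕ) : (Nat.card (pPrimeCore p G)).Coprime p := by
  classical
  let 𝒮 : Set (Subgroup G) := {N | N.Normal ∧ (Nat.card N).Coprime p}
  have hne : 𝒮.Nonempty := ⟨⊥, Subgroup.normal_bot, by simp⟩
  obtain ⟨N₀, hN₀, hmax⟩ := Set.exists_max_image 𝒮 (fun N => Nat.card N) (Set.toFinite _) hne
  have hall : ∀ N ∈ 𝒮, N ≤ N₀ := by
    intro N hN
    have := hN₀.1
    have := hN.1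
    have hsup : N₀ ⊔ N ∈ 𝒮 := ⟨inferInstance, card_sup_coprime hN₀.2 hN.2⟩
    have h1 := hmax _ hsup
    have h2 : N₀ = N₀ ⊔ N := Subgroup.eq_of_le_of_card_ge le_sup_left h1
    rw [h2]; exact le_sup_right
  have : pPrimeCore p G = N₀ := le_antisymm (sSup_le hall) (le_sSup hN₀)
  rw [this]; exact hN₀.2

theorem pPrimeCore_quotient_eq_bot [Finite G] (p : ℕ) :
    pPrimeCore p (G ⧸ pPrimeCore p G) = ⊥ := by
  rw [eq_bot_iff]
  apply sSup_le
  rintro N ⟨hN, hNp⟩
  have hsurj := QuotientGroup.mk'_surjective (pPrimeCore p G)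
  have hcard : Nat.card (N.comap (QuotientGroup.mk' (pPrimeCore p G))) =
      Nat.card (pPrimeCore p G) * Nat.card N := by
    rw [card_comap_of_surjective hsurj, QuotientGroup.ker_mk']
  have hle : N.comap (QuotientGroup.mk' (pPrimeCore p G)) ≤ pPrimeCore p G := by
    apply le_pPrimeCore (hN.comap _)
    rw [hcard]
    exact Nat.Coprime.mul_left (card_pPrimeCore_coprime p) hNp
  intro x hx
  obtain ⟨g, rfl⟩ := hsurj x
  have : g ∈ pPrimeCore p G := hle hx
  rw [Subgroup.mem_bot]
  exact (QuotientGroup.eq_one_iff g).2 this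

/-- A nilpotent normal subgroup lies in `O_p(G)` when `O_{p'}(G) = 1`. -/
theorem le_pCore_of_isNilpotent [Finite G] {p : ℕ} [Fact p.Prime] (h : pPrimeCore p G = ⊥)
    {M : Subgroup G} (hM : M.Normal) (hnil : Group.IsNilpotent M) : M ≤ pCore p G := by
  have hprime : ∀ {r : ℕ}, r.Prime → r ∣ Nat.card M → r = p := by
    intro r hr hdvd
    by_contra hne
    have : Fact r.Prime := ⟨hr⟩
    let P : Sylow r M := Sylow.nonempty.some
    have hPne : (P : Subgroup M) ≠ ⊥ := P.ne_bot_of_dvd_card hdvd
    have hPn : (P : Subgroup M).Normal := inferInstance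
    have hPc : (P : Subgroup M).Characteristic := P.characteristic_of_normal hPn
    have hPG : ((P : Subgroup M).map M.subtype).Normal :=
      ConjAct.normal_of_characteristic_of_normal
    obtain ⟨k, hk⟩ := P.2.exists_card_eq
    have hcard : Nat.card ((P : Subgroup M).map M.subtype) = r ^ k := by
      rw [Subgroup.card_map_of_injective M.subtype_injective, hk]
    have hcop : (Nat.card ((P : Subgroup M).map M.subtype)).Coprime p := by
      rw [hcard]
      exact Nat.Coprime.pow_left k ((Nat.coprime_primes hr Fact.out).2 hne)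
    have hle := le_pPrimeCore hPG hcop
    rw [h, le_bot_iff, Subgroup.map_eq_bot_iff_of_injective _ M.subtype_injective] at hle
    exact hPne hle
  have hcard := Nat.eq_prime_pow_of_unique_prime_dvd (Nat.card_pos (α := M)).ne' hprime
  exact le_pCore hM (IsPGroup.of_card hcard)

theorem le_pCore_of_commutator_le [Finite G] {p : ℕ} [Fact p.Prime] (h : pPrimeCore p G = ⊥)
    {M : Subgroup G} (hM : M.Normal) (hMC : M ≤ Subgroup.centralizer (pCore p G : Set G))
    (hMM : ⁅M, M⁆ ≤ pCore p G) : M ≤ pCore p G := by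
  apply le_pCore_of_isNilpotent h hM
  apply Subgroup.isNilpotent_of_lowerCentralSeries_eq_bot (n := 2)
  change ⁅⁅M, M⁆, M⁆ = ⊥
  rw [Subgroup.commutator_eq_bot_iff_le_centralizer]
  exact hMM.trans (Subgroup.le_centralizer_iff.1 hMC)

/-- Hall-Higman Lemma 1.2.3 for solvable groups. -/
theorem centralizer_pCore_le [Finite G] [hs : Group.IsSolvable G] {p : ℕ} [Fact p.Prime]
    (h : pPrimeCore p G = ⊥) :
    Subgroup.centralizer (pCore p G : Set G) ≤ pCore p G := by
  obtain ⟨n, hn⟩ := hs.solvable
  have key : ∀ k : ℕ, k ≤ n → ∀ M : Subgroup G, M.Normal →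
      M ≤ Subgroup.centralizer (pCore p G : Set G) → M ≤ derivedSeries G (n - k) →
      M ≤ pCore p G := by
    intro k
    induction k with
    | zero =>
      intro _ M _ _ hMd
      rw [Nat.sub_zero, hn] at hMd
      exact hMd.trans bot_le
    | succ k ih =>
      intro hk M hM hMC hMd
      have hM' : ⁅M, M⁆.Normal := inferInstance
      have h1 : ⁅M, M⁆ ≤ M := Subgroup.commutator_le_left M M
      have h2 : ⁅M, M⁆ ≤ derivedSeries G (n - k) := by
        have : n - k = (n - (k + 1)) + 1 := by omega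
        rw [this, derivedSeries_succ]
        exact Subgroup.commutator_mono hMd hMd
      exact le_pCore_of_commutator_le h hM hMC (ih (by omega) _ hM' (h1.trans hMC) h2)
  have hCn : (Subgroup.centralizer (pCore p G : Set G)).Normal := inferInstance
  exact key n le_rfl _ hCn le_rfl (by simp)

theorem ker_conjNormal (N : Subgroup G) [N.Normal] :
    (MulAut.conjNormal : G →* MulAut N).ker = Subgroup.centralizer (N : Set G) := by
  ext g
  rw [MonoidHom.mem_ker, Subgroup.mem_centralizer_iff]
  constructor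
  · intro h n hn
    have h1 : ((MulAut.conjNormal g : MulAut N) ⟨n, hn⟩ : G) = n := by rw [h]; rfl
    rw [MulAut.conjNormal_apply] at h1
    calc n * g = (g * n * g⁻¹) * g := by rw [h1]
      _ = g * n := by group
  · intro h
    ext n
    rw [MulAut.conjNormal_apply, MulAut.one_apply, ← h n n.2]
    group

theorem isPGroup_of_isPGroup_mulAut {p : ℕ} (N : Subgroup G) [N.Normal]
    (hA : IsPGroup p (MulAut N)) (hC : IsPGroup p (Subgroup.centralizer (N : Set G))) :
    IsPGroup p G := by
  have h1 : IsPGroup p ((⊤ : Subgroup (MulAut N)).comap (MulAut.conjNormal : G →* MulAut N)) :=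
    (hA.to_subgroup ⊤).comap_of_ker_isPGroup _ (by rw [ker_conjNormal]; exact hC)
  rw [Subgroup.comap_top] at h1
  exact h1.of_equiv Subgroup.topEquiv

theorem isPGroup_two_mulAut_of_isCyclic {C : Type*} [Group C] [Finite C] [hc : IsCyclic C]
    (h2 : IsPGroup 2 C) : IsPGroup 2 (MulAut C) := by
  obtain ⟨k, hk⟩ := h2.exists_card_eq
  rcases Nat.eq_zero_or_pos k with h0 | h0
  · apply IsPGroup.of_card (n := 0)
    rw [hc.card_mulAut, hk, h0, pow_zero, Nat.totient_one]
  · apply IsPGroup.of_card (n := k - 1)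
    rw [hc.card_mulAut, hk, Nat.totient_prime_pow Nat.prime_two h0]
    simp

end Cfsg.Agent.Lib.Helper14CoreB
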