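import Mathlib
import Cfsg.Prelude.Def_OddOrderLocal
import Cfsg.Agent.Lib.Helper24BG
import Cfsg.Prelude.Def_Solvable
import Cfsg.Prelude.Def_CaseTheorems
import Cfsg.Agent.Lib.Helper14CoreB
import Cfsg.Agent.Lib.H14BG157nilsyl

/-!
PROJECT 157 (helper14): B-G 15.7 for `K ≠ 1`, `U = 1` (row S1383), piece `cores`.
Sketches: notes/helper14/BG157.md.
-/

set_option autoImplicit false
set_option linter.unusedSectionVars false
set_option linter.unusedVariables false
open Cfsg

namespace Cfsg.Agent.Lib.H14BG157cores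

open Subgroup
open Cfsg.Agent.Lib Cfsg.Agent.Lib.Helper24BG

universe u
variable {G : Type u} [Group G] [Finite G]

/-- PURE.  `C := (pPrimeCore p ↥H).map H.subtype` (`Helper14CoreB.card_pPrimeCore_coprime`).
`pCore p ↥H = P.subgroupOf H`: `≤` by `nil_syl` (`Helper14CoreB.pCore_isPGroup`), `≥` by `Helper14CoreB.le_pCore`
(`P.subgroupOf H` is normal in `↥H` by `nil_syl`, second part, as `H ≤ N(H)`). -/
theorem cores {H P : Subgroup G} {p : ℕ} [Fact p.Prime] (hH : Group.IsNilpotent H)
    (hP : IsSyl p P H) :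
    Nat.card (pCore p ↥H) = Nat.card P ∧
      ∃ C : Subgroup G, C ≤ H ∧ (Nat.card C).Coprime p ∧ Nonempty (↥(pPrimeCore p ↥H) ≃* ↥C) := by
  obtain ⟨hall, hnorm⟩ := H14BG157nilsyl.nil_syl hH hP
  constructor
  · have heq : pCore p ↥H = P.subgroupOf H := by
      apply le_antisymm
      · have h1 : (pCore p ↥H).map H.subtype ≤ P :=
          hall _ (map_subtype_le _) ((Helper14CoreB.pCore_isPGroup p).map _)
        intro y hy
        rw [mem_subgroupOf]
        exact h1 ⟨y, hy, rfl⟩
      · apply Helper14CoreB.le_pCore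
        · exact normal_subgroupOf_iff_le_normalizer hP.1 |>.mpr (le_normalizer.trans hnorm)
        · exact hP.2.1.comap_subtype
    rw [heq]
    exact Nat.card_congr (subgroupOfEquivOfLe hP.1).toEquiv
  · refine ⟨(pPrimeCore p ↥H).map H.subtype, map_subtype_le _, ?_,
      ⟨(pPrimeCore p ↥H).equivMapOfInjective H.subtype H.subtype_injective⟩⟩
    rw [← Nat.card_congr
      ((pPrimeCore p ↥H).equivMapOfInjective H.subtype H.subtype_injective).toEquiv]
    exact Helper14CoreB.card_pPrimeCore_coprime p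

end Cfsg.Agent.Lib.H14BG157cores
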