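import Mathlib
import Cfsg.Prelude.Def_OddOrderLocal
import Cfsg.Agent.Lib.Helper24BG

/-!
PROJECT 157 (helper14): B-G 15.7 for `K ≠ 1`, `U = 1` (row S1383), piece `cube`.
Sketches: notes/helper14/BG157.md.
-/

set_option autoImplicit false
set_option linter.unusedSectionVars false
set_option linter.unusedVariables false
open Cfsg

namespace Cfsg.Agent.Lib.H14BG157cube

open Subgroup
open Cfsg.Agent.Lib Cfsg.Agent.Lib.Helper24BG

universe u
variable {G : Type u} [Group G] [Finite G]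

/-- PURE.  `P₂ ≤ Z(P)` (cyclic, commutes with `P₁`, `P = P₁ ⊔ P₂`), so `|P₂| ∣ p`, every `x ∈ P₂` has `x ^ p = 1`,
`P₂ = closure {...} = P₁ ⊓ C(P₁) ≤ P₁`, `P = P₁`. -/
theorem card_cube {P : Subgroup G} {p : ℕ} [Fact p.Prime]
    (hZ : Nat.card ↥(P ⊓ centralizer (P : Set G)) = p)
    (hs : ∃ P₁ P₂ : Subgroup G, P₁ ⊔ P₂ = P ∧ (∀ a ∈ P₁, ∀ b ∈ P₂, a * b = b * a) ∧
        ¬ IsMulCommutative P₁ ∧ Nat.card P₁ = p ^ 3 ∧ Monoid.exponent P₁ = p ∧ IsCyclic P₂ ∧
        Subgroup.closure {x : G | x ∈ P₂ ∧ x ^ p = 1} = P₁ ⊓ Subgroup.centralizer (P₁ : Set G)) :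
    Nat.card P = p ^ 3 := by
  obtain ⟨P₁, P₂, hsup, hcomm, -, hcard, -, hcyc, hcl⟩ := hs
  have hP2comm : ∀ a ∈ P₂, ∀ b ∈ P₂, a * b = b * a := by
    intro a ha b hb
    obtain ⟨g, hg⟩ := hcyc.exists_generator
    obtain ⟨m, hm⟩ := Subgroup.mem_zpowers_iff.mp (hg ⟨a, ha⟩)
    obtain ⟨n, hn⟩ := Subgroup.mem_zpowers_iff.mp (hg ⟨b, hb⟩)
    have h1 : (⟨a, ha⟩ : P₂) * ⟨b, hb⟩ = ⟨b, hb⟩ * ⟨a, ha⟩ := by
      rw [← hm, ← hn, ← zpow_add, ← zpow_add, add_comm]
    exact congrArg Subtype.val h1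
  have hle : P₂ ≤ P ⊓ centralizer (P : Set G) := by
    intro x hx
    refine Subgroup.mem_inf.mpr ⟨hsup ▸ (le_sup_right : P₂ ≤ P₁ ⊔ P₂) hx, ?_⟩
    have h1 : P ≤ centralizer ({x} : Set G) := by
      rw [← hsup]
      refine sup_le ?_ ?_
      · intro a ha
        rw [Subgroup.mem_centralizer_iff]
        intro y hy
        rw [Set.mem_singleton_iff] at hy
        subst hy
        exact (hcomm a ha y hx).symm
      · intro a ha
        rw [Subgroup.mem_centralizer_iff]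
        intro y hy
        rw [Set.mem_singleton_iff] at hy
        subst hy
        exact hP2comm y hx a ha
    rw [Subgroup.mem_centralizer_iff]
    intro y hy
    have := h1 hy
    rw [Subgroup.mem_centralizer_iff] at this
    exact (this x rfl).symm
  have hdvd : Nat.card P₂ ∣ p := by
    rw [← hZ]
    exact Subgroup.card_dvd_of_le hle
  have hset : {x : G | x ∈ P₂ ∧ x ^ p = 1} = (P₂ : Set G) := by
    ext x
    constructor
    · rintro ⟨hx, -⟩; exact hx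
    · intro hx
      refine ⟨hx, ?_⟩
      exact orderOf_dvd_iff_pow_eq_one.mp ((Subgroup.orderOf_dvd_natCard P₂ hx).trans hdvd)
  rw [hset, Subgroup.closure_eq] at hcl
  have h2 : P₂ ≤ P₁ := by rw [hcl]; exact inf_le_left
  have h3 : P = P₁ := by rw [← hsup]; exact sup_eq_left.mpr h2
  rw [h3, hcard]

end Cfsg.Agent.Lib.H14BG157cube
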