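import Mathlib

set_option autoImplicit false

namespace Cfsg.Agent.Lib.Helper2Parts

open Subgroup

/-- decomposition of an element into its `p`-part and `p'`-part, both powers of the element -/
theorem exists_parts {G : Type*} [Group G] [Finite G] (p : ℕ) [hp : Fact p.Prime] (g : G) :
    ∃ u v : G, u ∈ zpowers g ∧ v ∈ zpowers g ∧ g = u * v ∧ (∃ k : ℕ, orderOf u = p ^ k) ∧
      (orderOf v).Coprime p := by
  have hr : p.Prime := hp.out
  set n := orderOf g with hn
  have hn0 : n ≠ 0 := (orderOf_pos g).ne'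
  set a := p ^ n.factorization p with ha
  set m := n / p ^ n.factorization p with hm
  have hcop : Nat.Coprime a m := Nat.Coprime.pow_left _ (Nat.coprime_ordCompl hr hn0)
  have ham : a * m = n := Nat.ordProj_mul_ordCompl_eq_self n p
  have hb := Nat.gcd_eq_gcd_ab a m
  rw [hcop] at hb
  refine ⟨(g ^ m) ^ (Nat.gcdB a m), (g ^ a) ^ (Nat.gcdA a m),
    (zpowers g).zpow_mem ((zpowers g).pow_mem (mem_zpowers g) _) _,
    (zpowers g).zpow_mem ((zpowers g).pow_mem (mem_zpowers g) _) _, ?_, ?_, ?_⟩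
  · rw [← zpow_natCast, ← zpow_natCast, ← zpow_mul, ← zpow_mul, ← zpow_add, add_comm, ← hb]
    simp
  · have : orderOf ((g ^ m) ^ (Nat.gcdB a m)) ∣ p ^ n.factorization p := by
      apply orderOf_dvd_of_pow_eq_one
      rw [← ha, ← zpow_natCast, ← zpow_natCast, ← zpow_mul, ← zpow_mul,
        ← orderOf_dvd_iff_zpow_eq_one, ← hn, ← ham]
      exact ⟨Nat.gcdB a m, by push_cast; ring⟩
    obtain ⟨k, _, hk⟩ := (Nat.dvd_prime_pow hr).mp this
    exact ⟨k, hk⟩
  · have : orderOf ((g ^ a) ^ (Nat.gcdA a m)) ∣ m := by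
      apply orderOf_dvd_of_pow_eq_one
      rw [← zpow_natCast, ← zpow_natCast, ← zpow_mul, ← zpow_mul, ← orderOf_dvd_iff_zpow_eq_one,
        ← hn, ← ham]
      exact ⟨Nat.gcdA a m, by push_cast; ring⟩
    exact Nat.Coprime.coprime_dvd_left this (Nat.coprime_ordCompl hr hn0).symm

/-- a `p`-element normalising a Sylow `p`-subgroup lies in it -/
theorem mem_sylow_of_mem_normalizer {G : Type*} [Group G] [Finite G] {p : ℕ} [Fact p.Prime]
    (P : Sylow p G) {u : G} (hu : ∃ k : ℕ, orderOf u = p ^ k)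
    (hN : u ∈ normalizer ((P : Subgroup G) : Set G)) : u ∈ (P : Subgroup G) := by
  obtain ⟨k, hk⟩ := hu
  have h1 : IsPGroup p (zpowers u) := by
    rw [IsPGroup.iff_card]
    exact ⟨k, by rw [Nat.card_zpowers, hk]⟩
  have h2 := h1.inf_normalizer_sylow P
  have h3 : u ∈ zpowers u ⊓ normalizer (P : Set G) :=
    mem_inf.2 ⟨mem_zpowers u, hN⟩
  rw [h2] at h3
  exact (mem_inf.1 h3).2

end Cfsg.Agent.Lib.Helper2Parts
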