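import Cfsg.Agent.Lib.Helper24BG2
import Cfsg.Agent.Lib.Helper27Core
import Cfsg.Agent.Lib.Helper2KWa
import Cfsg.Agent.Lib.Helper2Parts

/-!
Bender-Glauberman sections 10-12: general (group theoretic) API, no minimal simple group here.
-/

set_option autoImplicit false
open Cfsg

namespace Cfsg.Agent.Lib.Helper2BGa

open Subgroup
open scoped commutatorElement
open Cfsg.Agent.Lib.Helper30Trans Cfsg.Agent.Lib.Helper24BG Cfsg.Agent.Lib.Helper24BG2
open Cfsg.Agent.Lib.Helper2KWa Cfsg.Agent.Lib.Helper2Parts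

universe u
variable {G : Type u} [Group G]

/-- rank bounds transfer along injective homomorphisms -/
theorem prank_of_injective {K H : Type*} [Group K] [Group H] (f : K →* H)
    (hf : Function.Injective f) {p k : ℕ} (h : PRankLE p k H) : PRankLE p k K := by
  intro A hA hAp
  have h1 := h (A.map f) ?_ ?_
  · rwa [card_map_of_injective hf] at h1
  · refine ⟨⟨?_⟩⟩
    rintro ⟨_, a, ha, rfl⟩ ⟨_, b, hb, rfl⟩
    apply Subtype.ext
    have := congrArg Subtype.val (hA.is_comm.comm ⟨a, ha⟩ ⟨b, hb⟩)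
    show f a * f b = f b * f a
    rw [← map_mul, ← map_mul]
    exact congrArg f this
  · rintro _ ⟨a, ha, rfl⟩
    rw [← map_pow, hAp a ha, map_one]

/-- a `p`-subgroup of `p`-rank at most one is cyclic (`p` odd) -/
theorem isCyclic_of_prank_one [Finite G] {p : ℕ} [hp : Fact p.Prime] (hp2 : p ≠ 2) {P : Subgroup G}
    (hP : IsPGroup p P) (hr : PRankLE p 1 P) : IsCyclic P := by
  by_contra hnc
  obtain ⟨W, hWP, -, hWe, hWc⟩ := exists_normal_sq hp2 hP hnc
  refine not_rank_of_elemAb hWP hWe ?_ hr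
  rw [hWc]
  exact Nat.pow_lt_pow_right hp.out.one_lt (by norm_num)

/-- a group of odd order all of whose `p`-ranks are at most one is a Z-group -/
theorem isZGroup_of_rank {H : Type*} [Group H] [Finite H] (hodd : Odd (Nat.card H))
    (hr : ∀ p : ℕ, p.Prime → p ∣ Nat.card H → PRankLE p 1 H) : IsZGroup H := by
  refine ⟨fun p hp P => ?_⟩
  have := Fact.mk hp
  by_cases hd : p ∣ Nat.card H
  · have hp2 : p ≠ 2 := by
      rintro rfl
      exact (Nat.not_even_iff_odd.mpr hodd) (even_iff_two_dvd.mpr hd)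
    exact isCyclic_of_prank_one hp2 P.2 (prank_of_injective _ (P : Subgroup H).subtype_injective (hr p hp hd))
  · have h1 : Nat.card (P : Subgroup H) = 1 := by
      rw [Sylow.card_eq_multiplicity, Nat.factorization_eq_zero_of_not_dvd hd, pow_zero]
    have : Subsingleton (P : Subgroup H) := (Nat.card_eq_one_iff_unique.mp h1).1
    exact isCyclic_of_subsingleton

/-- `M = E N`, `N` normal in `M`: `M' ≤ N E'` -/
theorem commutator_le_sup {M E N : Subgroup G} (hEM : E ≤ M) (hNn : M ≤ normalizer (N : Set G))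
    (hfac : ∀ m ∈ M, ∃ a ∈ E, ∃ b ∈ N, m = a * b) : ⁅M, M⁆ ≤ N ⊔ ⁅E, E⁆ := by
  rw [commutator_le]
  intro x hx y hy
  obtain ⟨e₁, he₁, n₁, hn₁, rfl⟩ := hfac x hx
  obtain ⟨e₂, he₂, n₂, hn₂, rfl⟩ := hfac y hy
  have hc : ∀ m ∈ M, ∀ n ∈ N, m * n * m⁻¹ ∈ N := fun m hm n hn =>
    (le_normalizer_iff.mp hNn) m hm n hn
  have h1 := hc e₁ (hEM he₁) n₁ hn₁
  have h2 := hc (e₁ * e₂) (M.mul_mem (hEM he₁) (hEM he₂)) (n₂ * n₁⁻¹) (N.mul_mem hn₂ (N.inv_mem hn₁))
  have h3 := hc (e₁ * e₂ * e₁⁻¹) (M.mul_mem (M.mul_mem (hEM he₁) (hEM he₂)) (M.inv_mem (hEM he₁)))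
    n₂⁻¹ (N.inv_mem hn₂)
  have h4 : ⁅e₁, e₂⁆ ∈ ⁅E, E⁆ := commutator_mem_commutator he₁ he₂
  have : ⁅e₁ * n₁, e₂ * n₂⁆ = (e₁ * n₁ * e₁⁻¹) * ((e₁ * e₂) * (n₂ * n₁⁻¹) * (e₁ * e₂)⁻¹) *
      ((e₁ * e₂ * e₁⁻¹) * n₂⁻¹ * (e₁ * e₂ * e₁⁻¹)⁻¹) * ⁅e₁, e₂⁆ := by
    simp only [commutatorElement_def]
    group
  rw [this]
  exact mul_mem (mem_sup_left (N.mul_mem (N.mul_mem h1 h2) h3)) (mem_sup_right h4)

/-- the `p`-parts of a Hall subgroup of a nilpotent group -/
theorem pt_eq_of_hall [Finite G] {A H : Subgroup G} (hA : Group.IsNilpotent A) (hHA : H ≤ A)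
    {p : ℕ} [hp : Fact p.Prime] (hH : ¬ p ∣ H.relIndex A) : pt H p = pt A p := by
  apply Subgroup.eq_of_le_of_card_ge (pt_mono hA hHA p)
  rw [card_pt, card_pt]
  have h1 : Nat.card H * H.relIndex A = Nat.card A := Cfsg.Agent.Lib.Helper27Core.card_mul_relIndex hHA
  have h2 : H.relIndex A ≠ 0 := by
    intro h0
    rw [h0, mul_zero] at h1
    exact Nat.card_pos.ne' h1.symm
  rw [← h1, Nat.factorization_mul Nat.card_pos.ne' h2, Finsupp.add_apply,
    Nat.factorization_eq_zero_of_not_dvd hH, add_zero]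

/-- In a nilpotent subgroup `A` a Hall subgroup `H` contains every element of `A` whose order only
involves primes dividing `#H`. -/
theorem mem_hall_of_nilpotent [Finite G] {A H : Subgroup G} (hA : Group.IsNilpotent A) (hHA : H ≤ A)
    (hHall : ∀ p : ℕ, p.Prime → p ∣ Nat.card H → ¬ p ∣ H.relIndex A) :
    ∀ (n : ℕ) (x : G), orderOf x = n → x ∈ A →
      (∀ p : ℕ, p.Prime → p ∣ orderOf x → p ∣ Nat.card H) → x ∈ H := by
  intro n
  induction n using Nat.strong_induction_on with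
  | _ n ih =>
    intro x hxn hxA hx
    by_cases h1 : x = 1
    · rw [h1]; exact H.one_mem
    have h2 : orderOf x ≠ 1 := by rwa [Ne, orderOf_eq_one_iff]
    obtain ⟨p, hp, hpd⟩ := Nat.exists_prime_and_dvd h2
    have := Fact.mk hp
    obtain ⟨a, b, ha, hb, hab, ⟨k, hk⟩, hcop⟩ := exists_parts p x
    have hzA : zpowers x ≤ A := by rwa [zpowers_le]
    have haH : a ∈ H := by
      have : a ∈ pt A p := (mem_pt hA).mpr ⟨hzA ha, k, hk⟩
      rw [← pt_eq_of_hall hA hHA (hHall p hp (hx p hp hpd))] at this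
      exact pt_le H p this
    have hbd : orderOf b ∣ orderOf x := orderOf_dvd_of_mem_zpowers hb
    have hblt : orderOf b < n := by
      rw [← hxn]
      refine lt_of_le_of_ne (Nat.le_of_dvd (orderOf_pos x) hbd) ?_
      intro he
      rw [he] at hcop
      exact (Nat.Prime.coprime_iff_not_dvd hp).mp hcop.symm hpd
    have hbH : b ∈ H := ih _ hblt b rfl (hzA hb) (fun q hq hqd => hx q hq (hqd.trans hbd))
    rw [hab]
    exact H.mul_mem haH hbH

/-- A Hall subgroup of a nilpotent subgroup `A` is normalized by `N(A)`. -/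
theorem normalizer_le_normalizer_hall [Finite G] {A H : Subgroup G} (hA : Group.IsNilpotent A)
    (hHA : H ≤ A) (hHall : ∀ p : ℕ, p.Prime → p ∣ Nat.card H → ¬ p ∣ H.relIndex A) :
    normalizer (A : Set G) ≤ normalizer (H : Set G) := by
  rw [le_normalizer_iff]
  intro g hg x hx
  refine mem_hall_of_nilpotent hA hHA hHall _ _ rfl ((le_normalizer_iff.mp le_rfl) g hg x (hHA hx)) ?_
  intro p hp hpd
  rw [orderOf_conj] at hpd
  exact hpd.trans (orderOf_dvd_natCard (⟨x, hx⟩ : H) |> fun h => by rwa [Subgroup.orderOf_mk] at h)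

/-- if no prime divisor of `#X` divides the index of `X ⊓ Y` ... : `X ≤ Y` from index considerations -/
theorem le_of_relIndex_coprime [Finite G] {X Y Z : Subgroup G} (hXZ : X ≤ Z)
    (hY : Z ≤ normalizer (Y : Set G))
    (h : ∀ p : ℕ, p.Prime → p ∣ Nat.card X → ¬ p ∣ Y.relIndex Z) : X ≤ Y := by
  rw [← relIndex_eq_one]
  by_contra hne
  obtain ⟨p, hp, hpd⟩ := Nat.exists_prime_and_dvd hne
  refine h p hp (hpd.trans (relIndex_dvd_card Y X)) (hpd.trans ?_)
  have hn : (Y.subgroupOf Z).Normal := normal_subgroupOf_of_le_normalizer hY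
  have := relIndex_dvd_index_of_normal (H := Y.subgroupOf Z) (K := X.subgroupOf Z)
  rwa [relIndex_subgroupOf hXZ] at this

/-- an element all of whose primary components lie in `H` lies in `H` -/
theorem mem_of_primary [Finite G] {H : Subgroup G} :
    ∀ (n : ℕ) (x : G), orderOf x = n →
      (∀ p : ℕ, p.Prime → ∀ y ∈ zpowers x, (∃ k : ℕ, orderOf y = p ^ k) → y ∈ H) → x ∈ H := by
  intro n
  induction n using Nat.strong_induction_on with
  | _ n ih =>
    intro x hxn hx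
    by_cases h1 : x = 1
    · rw [h1]; exact H.one_mem
    have h2 : orderOf x ≠ 1 := by rwa [Ne, orderOf_eq_one_iff]
    obtain ⟨p, hp, hpd⟩ := Nat.exists_prime_and_dvd h2
    have := Fact.mk hp
    obtain ⟨a, b, ha, hb, hab, hk, hcop⟩ := exists_parts p x
    have hbd : orderOf b ∣ orderOf x := orderOf_dvd_of_mem_zpowers hb
    have hblt : orderOf b < n := by
      rw [← hxn]
      refine lt_of_le_of_ne (Nat.le_of_dvd (orderOf_pos x) hbd) ?_
      intro he
      rw [he] at hcop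
      exact (Nat.Prime.coprime_iff_not_dvd hp).mp hcop.symm hpd
    have hbH : b ∈ H := ih _ hblt b rfl (fun q hq y hy hyk =>
      hx q hq y ((zpowers_le.mpr hb) hy) hyk)
    rw [hab]
    exact H.mul_mem (hx p hp a ha hk) hbH

theorem isSyl_cj {p : ℕ} {R X : Subgroup G} (h : IsSyl p R X) (g : G) :
    IsSyl p (cj g R) (cj g X) := by
  refine ⟨cj_mono h.1, h.2.1.map _, ?_⟩
  intro Q hQX hQ hle
  have h1 := h.2.2 (cj g⁻¹ Q) ((cj_le_iff (k := g⁻¹)).mpr (by rwa [inv_inv])) (hQ.map _)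
    (cj_le_iff.mp hle)
  rw [← h1, cj_cj_inv]

theorem cj_eq_self_of_mem {X : Subgroup G} {g : G} (hg : g ∈ X) : cj g X = X :=
  cj_eq_self_of_mem_normalizer (le_normalizer hg)

/-- Sylow subgroups of `X` are conjugate in `X` -/
theorem isSyl_conj [Finite G] {p : ℕ} [Fact p.Prime] {P Q X : Subgroup G} (hP : IsSyl p P X)
    (hQ : IsSyl p Q X) : ∃ x ∈ X, cj x Q = P := by
  obtain ⟨g, hg, hle⟩ := exists_cj_le hP hQ.2.1 hQ.1
  refine ⟨g, hg, ?_⟩
  have h1 := isSyl_cj hQ g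
  rw [cj_eq_self_of_mem hg] at h1
  exact (h1.2.2 P hP.1 hP.2.1 hle).symm

/-- index of a Sylow subgroup -/
theorem IsSyl.not_dvd_relIndex [Finite G] {p : ℕ} [Fact p.Prime] {P X : Subgroup G}
    (hP : IsSyl p P X) : ¬ p ∣ P.relIndex X := by
  have := hP.toSylow.not_dvd_index
  exact this

/-- a `p`-subgroup of `X` whose index in `X` is prime to `p` is a Sylow subgroup -/
theorem isSyl_of_not_dvd [Finite G] {p : ℕ} [hp : Fact p.Prime] {P X : Subgroup G} (hPX : P ≤ X)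
    (hP : IsPGroup p P) (h : ¬ p ∣ P.relIndex X) : IsSyl p P X := by
  refine ⟨hPX, hP, ?_⟩
  intro Q hQX hQ hle
  symm
  apply le_antisymm hle
  rw [← relIndex_eq_one]
  have h1 : P.relIndex Q ∣ P.relIndex X := by
    rw [← relIndex_mul_relIndex P Q X hle hQX]
    exact Dvd.intro _ rfl
  obtain ⟨k, hk⟩ := IsPGroup.iff_card.mp hQ
  have h2 : P.relIndex Q ∣ p ^ k := hk ▸ relIndex_dvd_card P Q
  obtain ⟨j, -, hj⟩ := (Nat.dvd_prime_pow hp.out).mp h2
  rcases Nat.eq_zero_or_pos j with rfl | hj0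
  · simpa using hj
  · exact absurd ((hj ▸ dvd_pow_self p hj0.ne' : p ∣ P.relIndex Q).trans h1) h

end Cfsg.Agent.Lib.Helper2BGa
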