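import Mathlib
import Cfsg.Agent.Lib.Helper15PStable
import Cfsg.Agent.Lib.Helper14FamProps

set_option autoImplicit false

namespace Cfsg.Agent.Lib.Helper15PStable2

open Cfsg Subgroup
open Cfsg.Agent.Lib.Helper14CoreB Cfsg.Agent.Lib.Helper15PStable
open Cfsg.Agent.Lib.Helper14Family Cfsg.Agent.Lib.Helper14FamProps
open scoped commutatorElement

theorem mem_of_pow_mem_of_coprime {X : Type*} [Group X] (D : Subgroup X) {x : X} {m n : ℕ}
    (hm : x ^ m ∈ D) (hn : x ^ n ∈ D) (h : m.Coprime n) : x ∈ D := by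
  have h1 := Nat.gcd_eq_gcd_ab m n
  rw [Nat.Coprime.gcd_eq_one h] at h1
  have h2 : x = (x ^ m) ^ (m.gcdA n) * (x ^ n) ^ (m.gcdB n) := by
    rw [← zpow_natCast x m, ← zpow_natCast x n, ← zpow_mul, ← zpow_mul, ← zpow_add, ← h1]
    simp
  rw [h2]
  exact D.mul_mem (D.zpow_mem hm _) (D.zpow_mem hn _)

theorem pow_card_mem_centralizer {X : Type*} [Group X] (V : Subgroup X) [hV : V.Normal] (a : X)
    (ha : ⁅⁅V, zpowers a⁆, zpowers a⁆ = ⊥) : a ^ Nat.card V ∈ centralizer (V : Set X) := by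
  have hquad := (Helper14Quad.quad_iff V a).1 ha
  rw [mem_centralizer_iff]
  intro v hv
  have hw : ⁅v, a⁆ ∈ V := by
    rw [commutatorElement_def]
    have := hV.conj_mem v⁻¹ (inv_mem hv) a
    have h4 : v * a * v⁻¹ * a⁻¹ = v * (a * v⁻¹ * a⁻¹) := by group
    rw [h4]
    exact mul_mem hv this
  have h1 : v * a * v⁻¹ = ⁅v, a⁆ * a := by rw [commutatorElement_def]; group
  have h2 : v * a ^ Nat.card V * v⁻¹ = a ^ Nat.card V := by
    rw [← conj_pow, h1, (show Commute ⁅v, a⁆ a from hquad v hv).mul_pow]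
    have : ⁅v, a⁆ ^ Nat.card V = 1 := by
      have := pow_card_eq_one' (x := (⟨_, hw⟩ : V))
      exact congrArg Subtype.val this
    rw [this, one_mul]
  exact mul_inv_eq_iff_eq_mul.1 h2

theorem isPStableOn_of_isPStable {X : Type*} [Group X] [Finite X] {p : ℕ} [hp : Fact p.Prime]
    (h : IsPStable p X) (V : Subgroup X) [hV : V.Normal] (hVp : IsPGroup p V) :
    IsPStableOn p V := by
  rw [isPStable_iff] at h
  obtain ⟨-, -, h3⟩ := h
  intro a ha
  have hcent := pow_card_mem_centralizer V a ha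
  obtain ⟨k, m, hm, hkm⟩ := Nat.exists_eq_pow_mul_and_not_dvd (orderOf_pos a).ne' p hp.out.ne_one
  have hle : zpowers (a ^ m) ≤ zpowers a := by
    rw [zpowers_le]; exact pow_mem (mem_zpowers a) m
  have hA : IsPGroup p (zpowers (a ^ m)) := by
    rintro ⟨g, hg⟩
    obtain ⟨z, rfl⟩ := mem_zpowers_iff.1 hg
    refine ⟨k, Subtype.ext ?_⟩
    simp only [SubmonoidClass.coe_pow, OneMemClass.coe_one]
    rw [← zpow_natCast, ← zpow_mul, mul_comm, zpow_mul, zpow_natCast, ← pow_mul, mul_comm m,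
      ← hkm, pow_orderOf_eq_one, one_zpow]
  have hAq : ⁅⁅V, zpowers (a ^ m)⁆, zpowers (a ^ m)⁆ = ⊥ :=
    le_bot_iff.1 (ha ▸ commutator_mono (commutator_mono le_rfl hle) hle)
  have hNV : normalizer (V : Set X) = ⊤ := normalizer_eq_top_iff.2 hV
  obtain ⟨D, hAD, hCD, hDK, hKD, hpow⟩ := h3 (zpowers (a ^ m)) V hA hVp (hNV ▸ le_top)
    ((le_pCore hV hVp).trans (pCore_le_pPrimePCore p X)) inferInstance hAq
  have hDn : D.Normal := normalizer_eq_top_iff.1 (top_le_iff.1 (hNV ▸ hKD))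
  have haD : a ∈ D := by
    apply mem_of_pow_mem_of_coprime D (hAD (mem_zpowers _)) (hCD hcent)
    obtain ⟨j, hj⟩ := IsPGroup.iff_card.1 hVp
    rw [hj]
    exact Nat.Coprime.pow_right j ((Nat.Prime.coprime_iff_not_dvd hp.out).2 hm).symm
  have := (map_le_pCore_iff p (centralizer (V : Set X)) D).2 ⟨D, hDn, le_rfl, hCD, hpow⟩
  exact this ⟨a, haD, rfl⟩

section transport
variable {G G' : Type*} [Group G] [Group G'] (f : G →* G') {P : Subgroup G}

theorem injOn_of_inf (hPf : P ⊓ f.ker = ⊥) {x y : G} (hx : x ∈ P) (hy : y ∈ P)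
    (h : f x = f y) : x = y := by
  have h1 : x * y⁻¹ ∈ P ⊓ f.ker := by
    rw [mem_inf, MonoidHom.mem_ker, map_mul, map_inv, h, mul_inv_cancel]
    exact ⟨P.mul_mem hx (P.inv_mem hy), rfl⟩
  rw [hPf, mem_bot] at h1
  exact mul_inv_eq_one.1 h1

theorem card_map_of_le (hPf : P ⊓ f.ker = ⊥) {A : Subgroup G} (hA : A ≤ P) :
    Nat.card (A.map f) = Nat.card A := by
  refine (Nat.card_congr (Equiv.ofBijective (f.subgroupMap A)
    ⟨?_, f.subgroupMap_surjective A⟩)).symm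
  intro x y hxy
  have := congrArg Subtype.val hxy
  exact Subtype.ext (injOn_of_inf f hPf (hA x.2) (hA y.2) this)

theorem map_pre {B : Subgroup G'} (hB : B ≤ P.map f) : (B.comap f ⊓ P).map f = B := by
  apply le_antisymm
  · rintro _ ⟨x, hx, rfl⟩
    exact (mem_inf.1 hx).1
  · intro b hb
    obtain ⟨x, hx, rfl⟩ := hB hb
    exact ⟨x, mem_inf.2 ⟨hb, hx⟩, rfl⟩

theorem comm_pre (hPf : P ⊓ f.ker = ⊥) {B : Subgroup G'} (hB : IsMulCommutative B) :
    IsMulCommutative ↥(B.comap f ⊓ P) := by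
  refine ⟨⟨fun x y => Subtype.ext ?_⟩⟩
  have hx := mem_inf.1 x.2
  have hy := mem_inf.1 y.2
  apply injOn_of_inf f hPf (P.mul_mem hx.2 hy.2) (P.mul_mem hy.2 hx.2)
  have := mul_comm' (⟨f x.1, hx.1⟩ : B) ⟨f y.1, hy.1⟩
  have := congrArg Subtype.val this
  simpa using this

theorem famA_map (hPf : P ⊓ f.ker = ⊥) {A : Subgroup G} (hA : A ∈ famA P) :
    A.map f ∈ famA (P.map f) := by
  have := hA.2.1
  refine ⟨map_mono hA.1, inferInstance, fun B hB hBc => ?_⟩
  rw [← map_pre f hB, card_map_of_le f hPf inf_le_right, card_map_of_le f hPf hA.1]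
  exact hA.2.2 _ inf_le_right (comm_pre f hPf hBc)

theorem famA_pre (hPf : P ⊓ f.ker = ⊥) {B : Subgroup G'} (hB : B ∈ famA (P.map f)) :
    B.comap f ⊓ P ∈ famA P := by
  refine ⟨inf_le_right, comm_pre f hPf hB.2.1, fun C hC hCc => ?_⟩
  rw [← card_map_of_le f hPf hC, ← card_map_of_le f hPf (inf_le_right : B.comap f ⊓ P ≤ P),
    map_pre f hB.1]
  exact hB.2.2 _ (map_mono hC) inferInstance

theorem centerThompsonAOf_map [Finite G] [Finite G'] (hPf : P ⊓ f.ker = ⊥) :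
    centerThompsonAOf (P.map f) = (centerThompsonAOf P).map f := by
  rw [centerThompsonAOf_eq, centerThompsonAOf_eq]
  apply le_antisymm
  · intro x hx
    rw [mem_sInf] at hx
    obtain ⟨A₀, hA₀⟩ := famA_F4 P
    obtain ⟨z, hz, rfl⟩ := hx _ (famA_map f hPf hA₀)
    refine ⟨z, ?_, rfl⟩
    rw [SetLike.mem_coe, mem_sInf]
    intro A hA
    obtain ⟨z', hz', he⟩ := hx _ (famA_map f hPf hA)
    rw [← injOn_of_inf f hPf (hA.1 hz') (hA₀.1 hz) he]
    exact hz'
  · rintro _ ⟨z, hz, rfl⟩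
    rw [SetLike.mem_coe, mem_sInf] at hz
    rw [mem_sInf]
    intro B hB
    exact (mem_inf.1 (hz _ (famA_pre f hPf hB))).1

theorem centerThompsonAOf_le (P : Subgroup G) : centerThompsonAOf P ≤ P := by
  unfold centerThompsonAOf thompsonSubgroupAOf
  exact inf_le_left.trans (map_subtype_le _)

end transport

end Cfsg.Agent.Lib.Helper15PStable2
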