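import Cfsg.Agent.Lib.Helper14ZJ
import Cfsg.Agent.Lib.Helper14FamProps
import Cfsg.Agent.Lib.Helper14ReplaceSub
import Cfsg.Agent.Lib.Helper3Class2
import Cfsg.Agent.Lib.Helper30Coprime
import Cfsg.Agent.Lib.Helper5BaerSuzuki
import Cfsg.Agent.Lib.Helper15PStable2
import Mathlib

set_option autoImplicit false
open Cfsg

namespace Cfsg.Agent.Lib.Helper31ZJe

open scoped commutatorElement
open Cfsg.Agent.Lib.Helper14Sylow Cfsg.Agent.Lib.Helper14Quad Cfsg.Agent.Lib.Helper14Comm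
  Cfsg.Agent.Lib.Helper14ZJ Cfsg.Agent.Lib.Helper14Family Cfsg.Agent.Lib.Helper14FamProps
  Cfsg.Agent.Lib.Helper14ReplaceSub Cfsg.Agent.Lib.Helper14ElemAb

universe u
variable {G : Type u} [Group G]

/-- the (elementary abelian) Thompson subgroup of `D`, inside the ambient group -/
def JE (p : ℕ) (D : Subgroup G) : Subgroup G := sSup (famE p D)

/-- its centre -/
def ZE (p : ℕ) (D : Subgroup G) : Subgroup G :=
  JE p D ⊓ Subgroup.centralizer (JE p D : Set G)

theorem thompsonSubgroupOf_eq (p : ℕ) (D : Subgroup G) : Cfsg.thompsonSubgroupOf p D = JE p D := by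
  unfold Cfsg.thompsonSubgroupOf Cfsg.thompsonSubgroup JE
  rw [map_subtype_sSup, image_maxElemAb]

theorem centerThompsonOf_eq (p : ℕ) (D : Subgroup G) : Cfsg.centerThompsonOf p D = ZE p D := by
  unfold Cfsg.centerThompsonOf ZE
  rw [thompsonSubgroupOf_eq]

theorem JE_le (p : ℕ) (D : Subgroup G) : JE p D ≤ D := sSup_le fun _ hA => hA.1

theorem ZE_le (p : ℕ) (D : Subgroup G) : ZE p D ≤ D := inf_le_left.trans (JE_le p D)

theorem le_JE {p : ℕ} {D A : Subgroup G} (hA : A ∈ famE p D) : A ≤ JE p D := le_sSup hA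

theorem ZE_comm {p : ℕ} {D : Subgroup G} {a b : G} (ha : a ∈ ZE p D) (hb : b ∈ ZE p D) :
    a * b = b * a :=
  (Subgroup.mem_centralizer_iff.1 hb.2 a ha.1)

theorem cj_JE_le (p : ℕ) (g : G) (P : Subgroup G) : cj g (JE p P) ≤ JE p (cj g P) := by
  unfold JE
  rw [cj, (Subgroup.gc_map_comap (MulAut.conj g).toMonoidHom).l_sSup]
  apply iSup₂_le
  intro A hA
  exact le_sSup (famE_F2 (MulAut.conj g) P A hA)

theorem norm_le_norm_JE [Finite G] (p : ℕ) (P : Subgroup G) :
    Subgroup.normalizer (P : Set G) ≤ Subgroup.normalizer ((JE p P : Subgroup G) : Set G) := by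
  intro g hg
  have h1 : cj g P = P := mem_normalizer_iff_cj.mp hg
  rw [mem_normalizer_iff_cj]
  apply cj_eq_of_le
  have := cj_JE_le p g P
  rwa [h1] at this

theorem norm_le_norm_cent [Finite G] (p : ℕ) (P : Subgroup G) :
    Subgroup.normalizer (P : Set G) ≤
      Subgroup.normalizer ((Subgroup.centralizer (JE p P : Set G) : Subgroup G) : Set G) := by
  intro g hg
  have h1 : cj g (JE p P) = JE p P := mem_normalizer_iff_cj.mp (norm_le_norm_JE p P hg)
  rw [mem_normalizer_iff_cj, ← centralizer_cj, h1]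

theorem norm_le_norm_ZE [Finite G] (p : ℕ) (P : Subgroup G) :
    Subgroup.normalizer (P : Set G) ≤ Subgroup.normalizer ((ZE p P : Subgroup G) : Set G) :=
  (le_inf (norm_le_norm_JE p P) (norm_le_norm_cent p P)).trans
    Subgroup.inf_normalizer_le_normalizer_inf

theorem mem_of_centralizes [Finite G] {p : ℕ} {D A : Subgroup G} (hA : A ∈ famE p D) {x : G}
    (hxD : x ∈ D) (hx : x ∈ Subgroup.centralizer (A : Set G)) (hxp : x ^ p = 1) : x ∈ A := by
  have h1 := hA.2.2 _ (sup_le hA.1 (by rwa [Subgroup.zpowers_le]))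
    (elemAb_sup_zpowers A hA.2.1 x hx hxp)
  have h2 : A = A ⊔ Subgroup.zpowers x := Subgroup.eq_of_le_of_card_ge le_sup_left h1
  rw [h2]
  exact (le_sup_right : Subgroup.zpowers x ≤ A ⊔ Subgroup.zpowers x) (Subgroup.mem_zpowers x)

/-- abstract induction of the ZJ-argument -/
theorem main_abs [Finite G] {p : ℕ} [Fact p.Prime] (S : Sylow p G) (Z : Subgroup G)
    (hSZ : (S : Subgroup G) ≤ Subgroup.normalizer (Z : Set G))
    (hcase : ∀ B : Subgroup G, B.Normal → IsPGroup p B →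
      Subgroup.normalClosure ((B ⊓ Z : Subgroup G) : Set G) = B → ⁅B, B⁆ ≤ Z → (B ⊓ Z).Normal) :
    ∀ n : ℕ, ∀ B : Subgroup G, B.Normal → IsPGroup p B → Nat.card B = n → (B ⊓ Z).Normal := by
  intro n
  induction n using Nat.strong_induction_on with
  | _ n ih =>
  intro B hBn hBp hcard
  have hB₁B : Subgroup.normalClosure ((B ⊓ Z : Subgroup G) : Set G) ≤ B :=
    Subgroup.normalClosure_le_normal inf_le_left
  by_cases hB₁ : Subgroup.normalClosure ((B ⊓ Z : Subgroup G) : Set G) = B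
  · by_cases hbot : B = ⊥
    · rw [hbot, bot_inf_eq]
      infer_instance
    · have hlt := derived_lt B hBp hbot
      have hY : (⁅B, B⁆ ⊓ Z).Normal :=
        ih _ (hcard ▸ card_lt_of_lt hlt) ⁅B, B⁆ inferInstance (hBp.to_le hlt.le) rfl
      have hBS : B ≤ S := hBp.le_sylow_of_normal S
      have hder : ⁅Subgroup.normalClosure ((B ⊓ Z : Subgroup G) : Set G), B⁆ ≤
          ⁅B, B⁆ ⊓ Z := by
        have h := commutator_closure_le
          (s := Group.conjugatesOfSet ((B ⊓ Z : Subgroup G) : Set G)) (t := (B : Set G))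
          (N := ⁅B, B⁆ ⊓ Z) (by rw [Subgroup.normalizer_eq_top]; exact le_top)
          (by rw [Subgroup.normalizer_eq_top]; exact le_top) ?_
        · rwa [Subgroup.closure_eq] at h
        · intro x hx y hy
          obtain ⟨z, hz, hzx⟩ := Group.mem_conjugatesOfSet_iff.mp hx
          obtain ⟨c, rfl⟩ := isConj_iff.mp hzx
          have hy' : c⁻¹ * y * c ∈ B := by
            have := hBn.conj_mem y hy c⁻¹
            rwa [inv_inv] at this
          have h1 : ⁅c * z * c⁻¹, y⁆ = c * ⁅z, c⁻¹ * y * c⁆ * c⁻¹ := by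
            rw [conjugate_commutatorElement]
            congr 1
            group
          rw [h1]
          apply hY.conj_mem
          refine Subgroup.mem_inf.mpr ⟨Subgroup.commutator_mem_commutator hz.1 hy', ?_⟩
          have h2 : ⁅z, c⁻¹ * y * c⁆ = z * ((c⁻¹ * y * c) * z⁻¹ * (c⁻¹ * y * c)⁻¹) := by
            rw [commutatorElement_def]; group
          rw [h2]
          exact mul_mem hz.2 (conj_mem_of_le_normalizer hSZ (hBS hy') (inv_mem hz.2))
      rw [hB₁] at hder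
      exact hcase B hBn hBp hB₁ (hder.trans inf_le_right)
  · have hlt : Subgroup.normalClosure ((B ⊓ Z : Subgroup G) : Set G) < B :=
      lt_of_le_of_ne hB₁B hB₁
    have h1 := ih _ (hcard ▸ card_lt_of_lt hlt) _ Subgroup.normalClosure_normal
      (hBp.to_le hB₁B) rfl
    have h2 : Subgroup.normalClosure ((B ⊓ Z : Subgroup G) : Set G) ⊓ Z =
        B ⊓ Z :=
      le_antisymm (inf_le_inf_right _ hB₁B) (le_inf Subgroup.le_normalClosure inf_le_right)
    rwa [h2] at h1

theorem omegaOne_spec {p : ℕ} (hp : p.Prime) (hp2 : p ≠ 2) (B : Subgroup G)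
    (hcl : ⁅B, B⁆ ≤ Subgroup.centralizer (B : Set G)) :
    ∀ g ∈ Cfsg.omegaOne p B, g ∈ B ∧ g ^ p = 1 := by
  intro g hg
  unfold Cfsg.omegaOne at hg
  induction hg using Subgroup.closure_induction with
  | mem x hx => exact hx
  | one => exact ⟨B.one_mem, one_pow p⟩
  | mul x y _ _ ihx ihy =>
    obtain ⟨hxB, hxp⟩ := ihx
    obtain ⟨hyB, hyp⟩ := ihy
    refine ⟨B.mul_mem hxB hyB, ?_⟩
    have hc := Subgroup.mem_centralizer_iff.1 (hcl (Subgroup.commutator_mem_commutator hyB hxB))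
    have hcx : Commute ⁅y, x⁆ x := (hc x hxB).symm
    have hcy : Commute ⁅y, x⁆ y := (hc y hyB).symm
    have hcp : ⁅y, x⁆ ^ p = 1 := by
      rw [← Cfsg.Agent.Lib.Helper3Class2.commutator_pow_left y x hcy p, hyp,
        commutatorElement_one_left]
    rw [Cfsg.Agent.Lib.Helper3Class2.mul_pow_prime_class2 hp hp2 x y hcx hcy hcp, hxp, hyp, one_mul]
  | inv x _ ih => exact ⟨B.inv_mem ih.1, by rw [inv_pow, ih.2, inv_one]⟩

theorem omegaOne_normal (p : ℕ) (B : Subgroup G) [hB : B.Normal] : (Cfsg.omegaOne p B).Normal := by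
  constructor
  intro n hn g
  apply Cfsg.Agent.Lib.Helper5BaerSuzuki.conj_mem_closure _ hn
  rintro k ⟨hk, hkp⟩
  exact ⟨hB.conj_mem k hk g, by rw [conj_pow, hkp]; group⟩

theorem mem_omegaOne {p : ℕ} {B : Subgroup G} {x : G} (hx : x ∈ B) (hxp : x ^ p = 1) :
    x ∈ Cfsg.omegaOne p B := Subgroup.subset_closure ⟨hx, hxp⟩

theorem exists_pow_mem_centralizer [Finite G] {p : ℕ} [Fact p.Prime] (hp2 : p ≠ 2)
    (B : Subgroup G) [hBn : B.Normal] (hBp : IsPGroup p B) (B₀ : Subgroup G)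
    (hB₀ : ∀ x ∈ B, x ^ p = 1 → x ∈ B₀) {y : G} (hy : y ∈ Subgroup.centralizer (B₀ : Set G)) :
    ∃ i : ℕ, y ^ p ^ i ∈ Subgroup.centralizer (B : Set G) := by
  have hp := (Fact.out : p.Prime)
  obtain ⟨i, m, hm, hn⟩ := Nat.exists_eq_pow_mul_and_not_dvd (orderOf_pos y).ne' p hp.ne_one
  refine ⟨i, ?_⟩
  have h1 : (y ^ p ^ i) ^ m = 1 := by rw [← pow_mul, ← hn, pow_orderOf_eq_one]
  have hcop : (Nat.card (Subgroup.zpowers (y ^ p ^ i))).Coprime p := by
    rw [Nat.card_zpowers]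
    exact Nat.Coprime.coprime_dvd_left (orderOf_dvd_of_pow_eq_one h1)
      ((Nat.Prime.coprime_iff_not_dvd hp).2 hm).symm
  have key := Cfsg.Agent.Lib.Helper30Coprime.centralizes_of_fix_order_p p hp2
    (Subgroup.zpowers (y ^ p ^ i)) hcop B hBp
    (by rw [Subgroup.normalizer_eq_top]; exact le_top) ?_ (y ^ p ^ i) (Subgroup.mem_zpowers _)
  · rw [Subgroup.mem_centralizer_iff]
    intro x hx
    have := key x hx
    rw [mul_inv_eq_iff_eq_mul] at this
    exact this.symm
  · intro a ha x hx hxp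
    have haC : a ∈ Subgroup.centralizer (B₀ : Set G) := by
      have : Subgroup.zpowers (y ^ p ^ i) ≤ Subgroup.centralizer (B₀ : Set G) := by
        rw [Subgroup.zpowers_le]
        exact Subgroup.pow_mem _ hy _
      exact this ha
    have := Subgroup.mem_centralizer_iff.1 haC x (hB₀ x hx hxp)
    rw [mul_inv_eq_iff_eq_mul]
    exact this.symm

theorem LL_le_LL [Finite G] {p : ℕ} [Fact p.Prime] (hp2 : p ≠ 2)
    (B : Subgroup G) [hBn : B.Normal] (hBp : IsPGroup p B) (B₀ : Subgroup G) [B₀.Normal]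
    (hB₀ : ∀ x ∈ B, x ^ p = 1 → x ∈ B₀) : LL p B₀ ≤ LL p B := by
  have hn : ((LL p B₀).map (QuotientGroup.mk' (Subgroup.centralizer (B : Set G)))).Normal :=
    Subgroup.Normal.map inferInstance _ (QuotientGroup.mk'_surjective _)
  have hpg : IsPGroup p ((LL p B₀).map (QuotientGroup.mk' (Subgroup.centralizer (B : Set G)))) := by
    rintro ⟨_, x, hx, rfl⟩
    have hx' : QuotientGroup.mk' (Subgroup.centralizer (B₀ : Set G)) x ∈
        Cfsg.pCore p (G ⧸ Subgroup.centralizer (B₀ : Set G)) := hx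
    have hcore : IsPGroup p (Cfsg.pCore p (G ⧸ Subgroup.centralizer (B₀ : Set G))) :=
      Sylow.sSup_of_normal _ (fun _ h => h.2) (fun _ h => h.1)
    obtain ⟨j, hj⟩ := hcore ⟨_, hx'⟩
    have hj' : (QuotientGroup.mk' (Subgroup.centralizer (B₀ : Set G)) x) ^ p ^ j = 1 :=
      congrArg Subtype.val hj
    rw [← map_pow, QuotientGroup.mk'_apply, QuotientGroup.eq_one_iff] at hj'
    obtain ⟨i, hi⟩ := exists_pow_mem_centralizer hp2 B hBp B₀ hB₀ hj'
    refine ⟨j + i, Subtype.ext ?_⟩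
    show (QuotientGroup.mk' (Subgroup.centralizer (B : Set G)) x) ^ p ^ (j + i) = 1
    rw [← map_pow, QuotientGroup.mk'_apply, QuotientGroup.eq_one_iff, pow_add, pow_mul]
    exact hi
  have h1 : (LL p B₀).map (QuotientGroup.mk' (Subgroup.centralizer (B : Set G))) ≤
      Cfsg.pCore p (G ⧸ Subgroup.centralizer (B : Set G)) := le_sSup ⟨hn, hpg⟩
  exact Subgroup.map_le_iff_le_comap.1 h1

theorem le_LL_self [Finite G] {p : ℕ} (B : Subgroup G) [hBn : B.Normal] (hBp : IsPGroup p B) :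
    B ≤ LL p B := by
  have h1 : B.map (QuotientGroup.mk' (Subgroup.centralizer (B : Set G))) ≤
      Cfsg.pCore p (G ⧸ Subgroup.centralizer (B : Set G)) :=
    le_sSup ⟨Subgroup.Normal.map hBn _ (QuotientGroup.mk'_surjective _), hBp.map _⟩
  exact Subgroup.map_le_iff_le_comap.1 h1

theorem main_caseE [Finite G] {p : ℕ} [Fact p.Prime] (hp2 : p ≠ 2)
    (hst : ∀ (P : Subgroup G) [P.Normal], IsPGroup p P → Cfsg.IsPStableOn p P)
    (S : Sylow p G) (B : Subgroup G) (hBn : B.Normal) (hBp : IsPGroup p B)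
    (hgen : Subgroup.normalClosure ((B ⊓ ZE p S : Subgroup G) : Set G) = B)
    (hder : ⁅B, B⁆ ≤ ZE p S) : (B ⊓ ZE p S).Normal := by
  have hBS : B ≤ S := hBp.le_sylow_of_normal S
  have hcl : ⁅B, B⁆ ≤ Subgroup.centralizer (B : Set G) := by
    have h1 : Subgroup.normalClosure ((B ⊓ ZE p S : Subgroup G) : Set G) ≤
        Subgroup.centralizer ((⁅B, B⁆ : Subgroup G) : Set G) := by
      apply Subgroup.normalClosure_le_normal
      intro z hz
      rw [SetLike.mem_coe, Subgroup.mem_centralizer_iff]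
      intro d hd
      exact ZE_comm (hder hd) hz.2
    rw [hgen] at h1
    exact Subgroup.le_centralizer_iff.1 h1
  have hspec := omegaOne_spec (Fact.out : p.Prime) hp2 B hcl
  have hB₀n : (Cfsg.omegaOne p B).Normal := omegaOne_normal p B
  set B₀ := Cfsg.omegaOne p B with hB₀
  have hB₀B : B₀ ≤ B := fun x hx => (hspec x hx).1
  have hB₀p : IsPGroup p B₀ := hBp.to_le hB₀B
  have hB₀S : B₀ ≤ S := hB₀B.trans hBS
  have hSB₀ : (S : Subgroup G) ≤ Subgroup.normalizer (B₀ : Set G) :=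
    Subgroup.le_normalizer_of_normal
  have hBZ : ∀ A ∈ famE p S, ⁅B₀, B₀⁆ ≤ A := by
    intro A hA d hd
    have hd0 : d ∈ B₀ := Subgroup.commutator_le_left B₀ B₀ hd
    have hdZ : d ∈ ZE p S := hder (Subgroup.commutator_mono hB₀B hB₀B hd)
    exact mem_of_centralizes hA (hB₀S hd0) (Subgroup.centralizer_le (le_JE hA) hdZ.2)
      (hspec d hd0).2
  set L := LL p B with hL
  set T := (S : Subgroup G) ⊓ L with hT
  have hTS : T ≤ S := inf_le_left
  have hBT : B ≤ T := le_inf hBS (le_LL_self B hBp)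
  have F5 : ∀ P B A : Subgroup G, IsPGroup p P → B ≤ P → P ≤ Subgroup.normalizer (B : Set G) →
      A ∈ famE p P → ⁅B, B⁆ ≤ A → ¬ B ≤ Subgroup.normalizer (A : Set G) →
      ∃ K ∈ famE p P, ⁅B, B⁆ ≤ K ∧ A ⊓ B < K ⊓ B ∧ K ⊓ B < B :=
    fun P B A hP hBP hPB hA hBA hnot => famE_replace hp2 P B A hP hBP hPB hA hBA hnot
  have claim4 : ∀ A ∈ famE p S, B₀ ≤ Subgroup.normalizer (A : Set G) → A ≤ T := by
    intro A hA hBA
    exact le_inf hA.1 ((le_LL_of_le_normalizer B₀ (hst B₀ hB₀p) A hA.2.1.1 hBA).trans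
      (LL_le_LL hp2 B hBp B₀ (fun x hx hxp => mem_omegaOne hx hxp)))
  obtain ⟨A₀, hA₀, -, hA₀'⟩ := max_arg (famE p) F5 S B₀ S.2 hB₀S hSB₀ hBZ Set.univ
    (by obtain ⟨A, hA⟩ := famE_F4 p (S : Subgroup G); exact ⟨A, hA, trivial⟩)
  have hA₀T : A₀ ≤ T := by
    rcases hA₀' with h | ⟨K, _, hK, _⟩
    · exact claim4 A₀ hA₀ h
    · exact absurd trivial hK
  have claim5 : famE p T ⊆ famE p S := famE_F3 S T A₀ hA₀ hA₀T hTS
  have hJT : JE p T ≤ JE p S := sSup_le_sSup claim5
  have hfr := frattini_LL B S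
  have claim7 : (B ⊓ Subgroup.centralizer (JE p T : Set G)).Normal := by
    rw [← Subgroup.normalizer_eq_top_iff, eq_top_iff, ← hfr]
    apply sup_le
    · refine le_trans (le_inf ?_ (norm_le_norm_cent p T)) Subgroup.inf_normalizer_le_normalizer_inf
      rw [Subgroup.normalizer_eq_top B]
      exact le_top
    · refine le_trans ?_ (Subgroup.centralizer_le_normalizer _)
      apply Subgroup.centralizer_le
      exact inf_le_left
  have claim8 : B ≤ Subgroup.centralizer (JE p T : Set G) := by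
    have h1 : Subgroup.normalClosure ((B ⊓ ZE p S : Subgroup G) : Set G) ≤
        B ⊓ Subgroup.centralizer (JE p T : Set G) :=
      Subgroup.normalClosure_le_normal
        (inf_le_inf_left B (inf_le_right.trans (Subgroup.centralizer_le hJT)))
    rw [hgen] at h1
    exact h1.trans inf_le_right
  have claim8' : ∀ K ∈ famE p T, B₀ ≤ K := by
    intro K hK b hb
    exact mem_of_centralizes hK (hBT (hB₀B hb))
      (Subgroup.centralizer_le (le_JE hK) (claim8 (hB₀B hb))) (hspec b hb).2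
  have claim9 : ∀ A ∈ famE p S, A ≤ T := by
    by_contra hcon
    push Not at hcon
    obtain ⟨A₁, hA₁, hA₁T⟩ := hcon
    obtain ⟨A, hA, hAT, hA'⟩ := max_arg (famE p) F5 S B₀ S.2 hB₀S hSB₀ hBZ {A | ¬ A ≤ T}
      ⟨A₁, hA₁, hA₁T⟩
    rcases hA' with h | ⟨K, hK, hKT, hKB⟩
    · exact hAT (claim4 A hA h)
    · have hKT' : K ≤ T := by
        by_contra h
        exact hKT h
      have h1 : K ∈ famE p T := famE_F3' S T K hK hKT' hTS
      exact hKB.ne (inf_eq_right.mpr (claim8' K h1))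
  have hfam : famE p (S : Subgroup G) = famE p T :=
    Set.Subset.antisymm (fun A hA => famE_F3' S T A hA (claim9 A hA) hTS) claim5
  have hZ : ZE p (S : Subgroup G) = ZE p T := by
    unfold ZE JE
    rw [hfam]
  rw [hZ, ← Subgroup.normalizer_eq_top_iff, eq_top_iff, ← hfr]
  apply sup_le
  · refine le_trans (le_inf ?_ (norm_le_norm_ZE p T)) Subgroup.inf_normalizer_le_normalizer_inf
    rw [Subgroup.normalizer_eq_top B]
    exact le_top
  · refine le_trans ?_ (Subgroup.centralizer_le_normalizer _)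
    apply Subgroup.centralizer_le
    exact inf_le_left

/-- **Glauberman's ZJ-theorem** for the full centre of the elementary abelian Thompson subgroup. -/
theorem ZE_normal [Finite G] {p : ℕ} [Fact p.Prime] (hp2 : p ≠ 2)
    (hst : ∀ (P : Subgroup G) [P.Normal], IsPGroup p P → Cfsg.IsPStableOn p P)
    (hc : Subgroup.centralizer (Cfsg.pCore p G : Set G) ≤ Cfsg.pCore p G)
    (S : Sylow p G) : (ZE p (S : Subgroup G)).Normal := by
  have hQp : IsPGroup p (Cfsg.pCore p G) :=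
    Sylow.sSup_of_normal _ (fun _ h => h.2) (fun _ h => h.1)
  have hQS : Cfsg.pCore p G ≤ S := hQp.le_sylow_of_normal S
  have hSZ : (S : Subgroup G) ≤ Subgroup.normalizer ((ZE p (S : Subgroup G) : Subgroup G) : Set G) :=
    Subgroup.le_normalizer.trans (norm_le_norm_ZE p (S : Subgroup G))
  have hZc : IsMulCommutative (ZE p (S : Subgroup G) : Subgroup G) :=
    .of_setLike_mul_comm fun a ha b hb => ZE_comm ha hb
  have h1 : ZE p (S : Subgroup G) ≤ LL p (Cfsg.pCore p G) :=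
    le_LL_of_le_normalizer _ (hst _ hQp) _ hZc (hQS.trans hSZ)
  have h2 : IsPGroup p (LL p (Cfsg.pCore p G)) := by
    unfold LL
    apply IsPGroup.comap_of_ker_isPGroup
    · exact Sylow.sSup_of_normal _ (fun _ h => h.2) (fun _ h => h.1)
    · rw [QuotientGroup.ker_mk']
      exact hQp.to_le hc
  have h3 : LL p (Cfsg.pCore p G) ≤ Cfsg.pCore p G := le_sSup ⟨inferInstance, h2⟩
  have h4 := main_abs S (ZE p (S : Subgroup G)) hSZ
    (fun B hBn hBp hgen hder => main_caseE hp2 hst S B hBn hBp hgen hder) _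
    (Cfsg.pCore p G) inferInstance hQp rfl
  rwa [inf_eq_right.mpr (h1.trans h3)] at h4

section transport
open Cfsg.Agent.Lib.Helper15PStable2 Cfsg.Agent.Lib.Helper14Stable
variable {G' : Type u} [Group G'] (f : G →* G') {P : Subgroup G}

theorem elemAb_pre {p : ℕ} (hPf : P ⊓ f.ker = ⊥) {B : Subgroup G'}
    (hB : Cfsg.IsElementaryAbelian p B) : Cfsg.IsElementaryAbelian p (B.comap f ⊓ P) := by
  refine ⟨comm_pre f hPf hB.1, fun x hx => ?_⟩
  apply injOn_of_inf f hPf (P.pow_mem hx.2 p) P.one_mem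
  rw [map_pow, map_one]
  exact hB.2 _ hx.1

theorem famE_map {p : ℕ} (hPf : P ⊓ f.ker = ⊥) {A : Subgroup G} (hA : A ∈ famE p P) :
    A.map f ∈ famE p (P.map f) := by
  refine ⟨Subgroup.map_mono hA.1, elemAb_map f hA.2.1, fun B hB hBc => ?_⟩
  rw [← map_pre f hB, card_map_of_le f hPf inf_le_right, card_map_of_le f hPf hA.1]
  exact hA.2.2 _ inf_le_right (elemAb_pre f hPf hBc)

theorem famE_pre {p : ℕ} (hPf : P ⊓ f.ker = ⊥) {B : Subgroup G'} (hB : B ∈ famE p (P.map f)) :
    B.comap f ⊓ P ∈ famE p P := by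
  refine ⟨inf_le_right, elemAb_pre f hPf hB.2.1, fun C hC hCc => ?_⟩
  rw [← card_map_of_le f hPf hC, ← card_map_of_le f hPf (inf_le_right : B.comap f ⊓ P ≤ P),
    map_pre f hB.1]
  exact hB.2.2 _ (Subgroup.map_mono hC) (elemAb_map f hCc)

theorem JE_map {p : ℕ} (hPf : P ⊓ f.ker = ⊥) : JE p (P.map f) = (JE p P).map f := by
  apply le_antisymm
  · apply sSup_le
    intro B hB
    rw [← map_pre f hB.1]
    exact Subgroup.map_mono (le_JE (famE_pre f hPf hB))
  · unfold JE
    rw [(Subgroup.gc_map_comap f).l_sSup]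
    apply iSup₂_le
    intro A hA
    exact le_sSup (famE_map f hPf hA)

theorem ZE_map {p : ℕ} (hPf : P ⊓ f.ker = ⊥) : ZE p (P.map f) = (ZE p P).map f := by
  unfold ZE
  rw [JE_map f hPf]
  apply le_antisymm
  · rintro _ ⟨⟨z, hz, rfl⟩, hc⟩
    refine ⟨z, ⟨hz, ?_⟩, rfl⟩
    show z ∈ Subgroup.centralizer (JE p P : Set G)
    rw [Subgroup.mem_centralizer_iff]
    intro j hj
    have hc' : f z ∈ Subgroup.centralizer ((Subgroup.map f (JE p P) : Subgroup G') : Set G') := hc
    have h1 := Subgroup.mem_centralizer_iff.1 hc' (f j) ⟨j, hj, rfl⟩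
    rw [← map_mul, ← map_mul] at h1
    exact injOn_of_inf f hPf (P.mul_mem (JE_le p P hj) (JE_le p P hz))
      (P.mul_mem (JE_le p P hz) (JE_le p P hj)) h1
  · rintro _ ⟨z, ⟨hz, hc⟩, rfl⟩
    refine ⟨⟨z, hz, rfl⟩, ?_⟩
    show f z ∈ Subgroup.centralizer ((Subgroup.map f (JE p P) : Subgroup G') : Set G')
    rw [Subgroup.mem_centralizer_iff]
    rintro _ ⟨j, hj, rfl⟩
    have hc' : z ∈ Subgroup.centralizer (JE p P : Set G) := hc
    rw [← map_mul, ← map_mul, Subgroup.mem_centralizer_iff.1 hc' j hj]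

end transport

end Cfsg.Agent.Lib.Helper31ZJe
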