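import Mathlib
import Cfsg.Agent.S0800
import Cfsg.Agent.Lib.Helper46SL2
import Cfsg.Agent.Lib.Helper41SL2
import Cfsg.Agent.Lib.Helper41SL2Norm
import Cfsg.Agent.Lib.Helper31Nilpotent
import Cfsg.Agent.Lib.Helper13Quad

/-!
Subgroups of `SL₂(F)` generated by `p`-elements (`F` of odd characteristic `p`).
-/

set_option autoImplicit false

namespace Cfsg.Agent.Lib.Helper13SL2

open Cfsg.Agent.Lib.Helper46SL2 Cfsg.Agent.Lib.Helper41SL2
open Cfsg.Agent.Lib.Helper31Nilpotent Cfsg.Agent.Lib.Helper13Quad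

local notation "SL2" => Matrix.SpecialLinearGroup (Fin 2)

variable {F : Type*} [Field F] {p : ℕ} [Fact p.Prime] [CharP F p]

theorem two_ne_zero' (hp : p ≠ 2) : (2 : F) ≠ 0 := by
  intro h
  have h1 : ((2 : ℕ) : F) = 0 := by exact_mod_cast h
  rw [CharP.cast_eq_zero_iff F p 2] at h1
  exact hp ((Nat.prime_dvd_prime_iff_eq Fact.out Nat.prime_two).mp h1)

theorem pow_p_of_tr_two (A : SL2 F) (h : tr A = 2) : A ^ p = 1 := by
  apply Cfsg.Agent.S0800.unip p A
  rw [Cfsg.Agent.S0800.det_sub_one, A.det_coe, Matrix.trace_fin_two]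
  unfold tr at h
  linear_combination -h

theorem tr_sq_ne_four (hp : p ≠ 2) {A : SL2 F} {m : ℕ} (hm : m.Coprime p) (hA : A ^ m = 1)
    (hc : A ∉ Subgroup.center (SL2 F)) : tr A ^ 2 ≠ 4 := by
  intro h
  apply hc
  have h1 : (tr A - 2) * (tr A + 2) = 0 := by linear_combination h
  rcases mul_eq_zero.mp h1 with h2 | h2
  · have h3 : A ^ p = 1 := pow_p_of_tr_two A (by linear_combination h2)
    rw [eq_one_of_pow_coprime hm hA h3]
    exact Subgroup.one_mem _
  · have h3 : (-A) ^ p = 1 := pow_p_of_tr_two (-A) (by rw [tr_neg]; linear_combination -h2)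
    have h4 : (A * A) ^ p = 1 := by
      have : A * A = (-A) * (-A) := by rw [neg_mul_neg]
      rw [this, (Commute.refl (-A)).mul_pow, h3, one_mul]
    have h5 : (A * A) ^ m = 1 := by rw [(Commute.refl A).mul_pow, hA, one_mul]
    have h6 := eq_one_of_pow_coprime hm h5 h4
    rw [mem_center_iff_eq]
    exact (sq_eq_one_iff' (two_ne_zero' (F := F) hp)).mp h6

theorem conj_pow_odd {G : Type*} [Group G] {g x : G} (h : g * x * g⁻¹ = x⁻¹) (k : ℕ) :
    g ^ (2 * k + 1) * x * (g ^ (2 * k + 1))⁻¹ = x⁻¹ := by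
  have h' : g * x⁻¹ * g⁻¹ = x := by
    have := congrArg (·⁻¹) h
    simpa [mul_assoc] using this
  induction k with
  | zero => simpa using h
  | succ k ih =>
    have e : g ^ (2 * (k + 1) + 1) = g * g * g ^ (2 * k + 1) := by
      rw [show 2 * (k + 1) + 1 = 1 + 1 + (2 * k + 1) by ring, pow_add, pow_add, pow_one]
    rw [e]
    calc g * g * g ^ (2 * k + 1) * x * (g * g * g ^ (2 * k + 1))⁻¹
        = g * (g * (g ^ (2 * k + 1) * x * (g ^ (2 * k + 1))⁻¹) * g⁻¹) * g⁻¹ := by group
      _ = x⁻¹ := by rw [ih, h', h]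

section sub

variable (X : Subgroup (SL2 F))

theorem normalizer_le_centralizer (hp : p ≠ 2) [Finite X] (r : ℕ) [Fact r.Prime] (hr : r ≠ p)
    (R : Sylow r X) (hab : ∀ x y : X, x ∈ R → y ∈ R → x * y = y * x)
    (h2 : ∀ g : X, g ∈ Subgroup.normalizer ((R : Subgroup X) : Set X) → (∃ k : ℕ, g ^ 2 ^ k = 1) →
      ∀ x ∈ R, g * x = x * g) :
    Subgroup.normalizer ((R : Subgroup X) : Set X) ≤ Subgroup.centralizer ((R : Subgroup X) : Set X) := by
  intro g hg
  rw [Subgroup.mem_centralizer_iff]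
  intro x hx
  by_cases hc : (x : SL2 F) ∈ Subgroup.center (SL2 F)
  · apply Subtype.ext
    exact (Subgroup.mem_center_iff.mp hc (g : SL2 F)).symm
  obtain ⟨j, hj⟩ := R.2 ⟨x, hx⟩
  have hj' : (x : SL2 F) ^ r ^ j = 1 := by
    have := congrArg (fun y : (R : Subgroup X) => ((y : X) : SL2 F)) hj
    simpa using this
  have hrp : (r ^ j).Coprime p :=
    Nat.Coprime.pow_left j ((Nat.coprime_primes Fact.out Fact.out).mpr hr)
  have ht := tr_sq_ne_four hp hrp hj' hc
  have hy : g * x * g⁻¹ ∈ R := (Subgroup.mem_normalizer_iff.mp hg x).mp hx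
  have hcomm := hab _ _ hy hx
  rcases eq_or_eq_inv_of_commute ht (B := ((g * x * g⁻¹ : X) : SL2 F))
      (congrArg Subtype.val hcomm) (by simp [tr_conj]) with h | h
  · have h' : g * x * g⁻¹ = x := Subtype.ext h
    calc x * g = (g * x * g⁻¹) * g := by rw [h']
      _ = g * x := by group
  · exfalso
    have h' : g * x * g⁻¹ = x⁻¹ := Subtype.ext h
    obtain ⟨s, t, ht2, hst⟩ := Nat.exists_eq_two_pow_mul_odd (orderOf_pos g).ne'
    obtain ⟨k, rfl⟩ := ht2
    have h3 := conj_pow_odd h' k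
    have h4 : g ^ (2 * k + 1) * x = x * g ^ (2 * k + 1) := by
      apply h2 _ (Subgroup.pow_mem _ hg _) ⟨s, ?_⟩ x hx
      rw [← pow_mul, mul_comm, ← hst, pow_orderOf_eq_one]
    rw [h4, mul_inv_cancel_right] at h3
    apply hc
    rw [mem_center_iff_eq]
    apply (sq_eq_one_iff' (two_ne_zero' (F := F) hp)).mp
    have h5 : x * x = 1 := by
      calc x * x = x * x⁻¹ := by rw [← h3]
        _ = 1 := mul_inv_cancel x
    exact congrArg Subtype.val h5

omit [CharP F p] in
theorem sylow_eq_bot_of_normalizer_le [Finite X] (r : ℕ) [Fact r.Prime] (hr : r ≠ p)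
    (hgen : ∀ N : Subgroup X, (∀ s : X, s ^ p = 1 → s ∈ N) → N = ⊤)
    (R : Sylow r X)
    (h : Subgroup.normalizer ((R : Subgroup X) : Set X) ≤ Subgroup.centralizer ((R : Subgroup X) : Set X)) :
    (R : Subgroup X) = ⊥ := by
  have hK := MonoidHom.ker_transferSylow_isComplement' R h
  have hidx := hK.symm.index_eq_card
  obtain ⟨j, hj⟩ := IsPGroup.iff_card.mp R.2
  have htop : (MonoidHom.transferSylow R h).ker = ⊤ := by
    apply hgen
    intro s hs
    have hrp : (r ^ j).Coprime p :=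
      Nat.Coprime.pow_left j ((Nat.coprime_primes Fact.out Fact.out).mpr hr)
    refine mem_of_coprime_pow _ s hrp ?_ ?_
    · rw [← hj, ← hidx]; exact Subgroup.pow_index_mem _ s
    · rw [hs]; exact Subgroup.one_mem _
  rw [htop, Subgroup.index_top] at hidx
  exact Subgroup.card_eq_one.mp hidx.symm

/-- A subgroup of `SL₂(F)` generated by elements of order `p` whose Sylow 2-subgroups are abelian
is a `p`-group. -/
theorem isPGroup_of_abelian_sylow_two (hp : p ≠ 2) [Finite X]
    (hgen : ∀ N : Subgroup X, (∀ s : X, s ^ p = 1 → s ∈ N) → N = ⊤)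
    (T : Sylow 2 X) (hT : ∀ x y : X, x ∈ T → y ∈ T → x * y = y * x) : IsPGroup p X := by
  have hT0 : (T : Subgroup X) = ⊥ := by
    apply sylow_eq_bot_of_normalizer_le (p := p) X 2 (Ne.symm hp) hgen T
    apply normalizer_le_centralizer X hp 2 (Ne.symm hp) T hT
    intro g hg ⟨k, hk⟩ x hx
    have hz : IsPGroup 2 (Subgroup.zpowers g) := by
      rw [IsPGroup.iff_orderOf] 
      rintro ⟨y, hy⟩
      obtain ⟨n, rfl⟩ := Subgroup.mem_zpowers_iff.mp hy
      have : (⟨g ^ n, hy⟩ : Subgroup.zpowers g) ^ 2 ^ k = 1 := by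
        apply Subtype.ext
        simp only [Subgroup.coe_pow, Subgroup.coe_one]
        rw [← zpow_natCast, ← zpow_mul, mul_comm, zpow_mul, zpow_natCast, hk, one_zpow]
      exact (Nat.dvd_prime_pow Nat.prime_two).mp (orderOf_dvd_of_pow_eq_one this) |>.imp fun _ h => h.2
    have h1 := hz.inf_normalizer_sylow T
    have h2 : g ∈ Subgroup.zpowers g ⊓ (T : Subgroup X) := by
      rw [← h1]
      exact ⟨Subgroup.mem_zpowers g, hg⟩
    exact hT g x h2.2 hx
  have h2el : ∀ g : X, (∃ k : ℕ, g ^ 2 ^ k = 1) → g = 1 := by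
    rintro g ⟨k, hk⟩
    have hodd : ¬ 2 ∣ Nat.card X := by
      intro hd
      exact T.ne_bot_of_dvd_card hd hT0
    have h1 : orderOf g ∣ 2 ^ k := orderOf_dvd_of_pow_eq_one hk
    obtain ⟨i, -, hi⟩ := (Nat.dvd_prime_pow Nat.prime_two).mp h1
    rcases Nat.eq_zero_or_pos i with rfl | hi0
    · simpa using hi
    · exfalso
      apply hodd
      refine dvd_trans ?_ (orderOf_dvd_natCard g)
      rw [hi]; exact dvd_pow_self 2 hi0.ne'
  have hall : ∀ r : ℕ, r.Prime → r ∣ Nat.card X → r = p := by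
    intro r hr hd
    by_contra hrp
    haveI := Fact.mk hr
    obtain ⟨R⟩ : Nonempty (Sylow r X) := inferInstance
    apply R.ne_bot_of_dvd_card hd
    apply sylow_eq_bot_of_normalizer_le (p := p) X r hrp hgen R
    apply normalizer_le_centralizer X hp r hrp R
    · intro x y hx hy
      by_cases hRb : (R : Subgroup X) = ⊥
      · have hx' : x ∈ (R : Subgroup X) := hx
        rw [hRb, Subgroup.mem_bot] at hx'
        rw [hx', one_mul, mul_one]
      haveI : Nontrivial (R : Subgroup X) := (Subgroup.nontrivial_iff_ne_bot _).mpr hRb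
      haveI := R.2.center_nontrivial
      obtain ⟨z, hz⟩ := exists_ne (1 : Subgroup.center (R : Subgroup X))
      have hz1 : (((z : (R : Subgroup X)) : X) : SL2 F) ≠ 1 := by
        intro h
        apply hz
        apply Subtype.ext; apply Subtype.ext; apply Subtype.ext
        exact h
      have hzc : (((z : (R : Subgroup X)) : X) : SL2 F) ∉ Subgroup.center (SL2 F) := by
        intro hc
        rcases mem_center_iff_eq.mp hc with h | h
        · exact hz1 h
        · apply hz1
          have hsq : ((z : (R : Subgroup X)) : X) ^ 2 ^ 1 = 1 := by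
            apply Subtype.ext
            simp only [Subgroup.coe_pow, Subgroup.coe_one, pow_one]
            rw [h, pow_two, neg_mul_neg, one_mul]
          rw [h2el _ ⟨1, hsq⟩]; rfl
      have hcx := Subgroup.mem_center_iff.mp z.2 ⟨x, hx⟩
      have hcy := Subgroup.mem_center_iff.mp z.2 ⟨y, hy⟩
      apply Subtype.ext
      exact commute_of_mem_centralizer hzc
        (congrArg (fun w : (R : Subgroup X) => ((w : X) : SL2 F)) hcx)
        (congrArg (fun w : (R : Subgroup X) => ((w : X) : SL2 F)) hcy)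
    · intro g _ hg x _
      rw [h2el g hg, one_mul, mul_one]
  exact IsPGroup.of_card (Nat.eq_prime_pow_of_unique_prime_dvd Nat.card_pos.ne' (fun {d} => hall d))

end sub

end Cfsg.Agent.Lib.Helper13SL2
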