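-- copy (renamed) of a teammate library file, kept separate so that it is independent of later edits there
import Mathlib
import Cfsg.Prelude.Def_Local
import Cfsg.Agent.Lib.Helper14CoreB

set_option autoImplicit false

namespace Cfsg.Agent.Lib.Helper14HH

open Cfsg Cfsg.Agent.Lib.Helper14CoreB

variable {G : Type*} [Group G]

theorem relIndex_dvd_of_le_right_normal (H : Subgroup G) [H.Normal] {K L : Subgroup G} (hKL : K ≤ L) :
    H.relIndex K ∣ H.relIndex L := by
  have h1 : (H.subgroupOf L).relIndex (K.subgroupOf L) = H.relIndex K := Subgroup.relIndex_subgroupOf hKL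
  rw [← h1]
  exact Subgroup.relIndex_dvd_index_of_normal _ _

theorem eq_one_of_pow_coprime {z : G} {a b : ℕ} (ha : z ^ a = 1) (hb : z ^ b = 1)
    (hab : a.Coprime b) : z = 1 := by
  have h1 : orderOf z ∣ a := orderOf_dvd_of_pow_eq_one ha
  have h2 : orderOf z ∣ b := orderOf_dvd_of_pow_eq_one hb
  have : orderOf z ∣ 1 := by
    have := Nat.dvd_gcd h1 h2
    rwa [hab] at this
  exact orderOf_eq_one_iff.1 (Nat.dvd_one.1 this)

theorem pow_card_of_mem {H : Subgroup G} {w : G} (hw : w ∈ H) : w ^ Nat.card H = 1 := by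
  have := pow_card_eq_one' (G := H) (x := ⟨w, hw⟩)
  simpa only [Subgroup.coe_pow, Subgroup.coe_one] using congrArg Subtype.val this

/-- A normal subgroup `D` with a central `p`-subgroup `Z` of index prime to `p` lies in `Z` when
`O_{p'}(G) = 1`. -/
theorem le_of_central_of_coprime [Finite G] {p : ℕ} [Fact p.Prime] (h : pPrimeCore p G = ⊥)
    {D Z : Subgroup G} (hD : D.Normal) (hZD : Z ≤ D) (hZ : IsPGroup p Z)
    (hcen : ∀ z ∈ Z, ∀ d ∈ D, z * d = d * z) (hcop : (Z.relIndex D).Coprime p) : D ≤ Z := by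
  obtain ⟨a, ha⟩ := hZ.exists_card_eq
  set N : Subgroup D := Z.subgroupOf D with hN
  have hNn : N.Normal := by
    constructor
    intro n hn g
    have h1 : (n : G) ∈ Z := Subgroup.mem_subgroupOf.1 hn
    have h2 : g * n * g⁻¹ = n := by
      apply Subtype.ext
      change (g : G) * n * (g : G)⁻¹ = n
      rw [← hcen _ h1 _ g.2]; group
    rw [h2]; exact hn
  have hNcard : Nat.card N = p ^ a := by
    rw [← ha]
    exact Nat.card_congr (Subgroup.subgroupOfEquivOfLe hZD).toEquiv
  have hNidx : N.index = Z.relIndex D := rfl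
  obtain ⟨K, hK⟩ := Subgroup.exists_right_complement'_of_coprime (N := N)
    (by rw [hNcard, hNidx]; exact (Nat.Coprime.pow_right a hcop).symm)
  have hKcard : Nat.card K = Z.relIndex D := by
    have h1 := hK.card_mul_card
    have h2 := N.card_mul_index
    rw [← h2, hNidx] at h1
    exact Nat.eq_of_mul_eq_mul_left Nat.card_pos h1
  -- the image of K is normal in G
  have hKn : (K.map D.subtype).Normal := by
    constructor
    rintro _ ⟨k, hk, rfl⟩ g
    have hkD : g * (k : G) * g⁻¹ ∈ D := hD.conj_mem _ k.2 g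
    obtain ⟨⟨⟨z, hz⟩, ⟨k2, hk2⟩⟩, hzk, -⟩ := hK.existsUnique ⟨_, hkD⟩
    simp only at hzk
    have hzZ : (z : G) ∈ Z := Subgroup.mem_subgroupOf.1 hz
    have hcomm : Commute z k2 := by
      apply Subtype.ext
      exact hcen _ hzZ _ k2.2
    have hm1 : k ^ (Z.relIndex D) = 1 := by
      rw [← hKcard]; exact pow_card_of_mem hk
    have hm2 : k2 ^ (Z.relIndex D) = 1 := by
      rw [← hKcard]; exact pow_card_of_mem hk2
    have hm3 : (⟨_, hkD⟩ : D) ^ (Z.relIndex D) = 1 := by
      apply Subtype.ext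
      change (g * (k : G) * g⁻¹) ^ (Z.relIndex D) = 1
      rw [conj_pow]
      have : (k : G) ^ (Z.relIndex D) = 1 := by
        simpa only [Subgroup.coe_pow, Subgroup.coe_one] using congrArg Subtype.val hm1
      rw [this]; group
    rw [← hzk, hcomm.mul_pow, hm2, mul_one] at hm3
    have hz1 : z ^ (p ^ a) = 1 := by
      rw [← hNcard]; exact pow_card_of_mem hz
    have hz2 : z = 1 := eq_one_of_pow_coprime hm3 hz1 (Nat.Coprime.pow_right a hcop)
    rw [hz2, one_mul] at hzk
    refine ⟨k2, hk2, ?_⟩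
    rw [hzk]; rfl
  have hKbot : K.map D.subtype = ⊥ := by
    rw [eq_bot_iff, ← h]
    apply le_pPrimeCore hKn
    rw [Subgroup.card_map_of_injective D.subtype_injective, hKcard]
    exact hcop
  have hK1 : Nat.card K = 1 := by
    rw [← Subgroup.card_map_of_injective D.subtype_injective (K := K), hKbot]
    exact Subgroup.card_bot
  rw [hKcard] at hK1
  exact Subgroup.relIndex_eq_one.1 hK1

/-- Hall-Higman Lemma 1.2.3: in a `p`-solvable group with `O_{p'}(G) = 1`, `O_p(G)` contains its
centralizer. -/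
theorem centralizer_pCore_le [Finite G] {p : ℕ} [Fact p.Prime] (hs : IsPSolvable p G)
    (h : pPrimeCore p G = ⊥) : Subgroup.centralizer (pCore p G : Set G) ≤ pCore p G := by
  obtain ⟨n, H, h0, hn, hmono, hnorm, hfac⟩ := hs
  set P := pCore p G with hP
  set C := Subgroup.centralizer (P : Set G) with hC
  have hCn : C.Normal := inferInstance
  have hall : ∀ k : ℕ, ∀ hk : k < n + 1, H ⟨k, hk⟩ ⊓ C ≤ P := by
    intro k
    induction k with
    | zero =>
      intro hk
      have : H ⟨0, hk⟩ = ⊥ := h0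
      rw [this]; simp
    | succ k ih =>
      intro hk
      have hk' : k < n := by omega
      have h1 : H (Fin.castSucc ⟨k, hk'⟩) ⊓ C ≤ P := ih (by omega)
      have h2 := hfac ⟨k, hk'⟩
      have h3 : (Fin.succ ⟨k, hk'⟩ : Fin (n + 1)) = ⟨k + 1, hk⟩ := rfl
      rw [h3] at h2
      have hle : H (Fin.castSucc ⟨k, hk'⟩) ≤ H ⟨k + 1, hk⟩ := by
        rw [← h3]; exact hmono (Fin.castSucc_le_succ _)
      set Z := H (Fin.castSucc ⟨k, hk'⟩) ⊓ C with hZ
      set D := H ⟨k + 1, hk⟩ ⊓ C with hD
      have hn1 : (H (Fin.castSucc ⟨k, hk'⟩)).Normal := hnorm _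
      have hn2 : (H ⟨k + 1, hk⟩).Normal := hnorm _
      have hDn : D.Normal := inferInstance
      have hZD : Z ≤ D := inf_le_inf_right _ hle
      have hZp : IsPGroup p Z := (pCore_isPGroup p).to_le h1
      have hrel : Z.relIndex D ∣ (H (Fin.castSucc ⟨k, hk'⟩)).relIndex (H ⟨k + 1, hk⟩) := by
        have e1 : Z.relIndex D = (H (Fin.castSucc ⟨k, hk'⟩)).relIndex D := by
          have : Z = H (Fin.castSucc ⟨k, hk'⟩) ⊓ D := by
            rw [hZ, hD, ← inf_assoc, inf_eq_left.2 hle]
          rw [this, Subgroup.inf_relIndex_right]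
        rw [e1]
        exact relIndex_dvd_of_le_right_normal _ inf_le_left
      rcases h2 with ⟨m, hm⟩ | hc
      · -- D is a p-group
        rw [hm] at hrel
        obtain ⟨j, _, hj⟩ := (Nat.dvd_prime_pow Fact.out).1 hrel
        obtain ⟨a, ha⟩ := hZp.exists_card_eq
        apply le_pCore hDn
        apply IsPGroup.of_card (n := a + j)
        rw [← card_mul_relIndex hZD, ha, hj, pow_add]
      · have hcen : ∀ z ∈ Z, ∀ d ∈ D, z * d = d * z := by
          intro z hz d hd
          exact (Subgroup.mem_centralizer_iff.1 hd.2) z (h1 hz)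
        exact (le_of_central_of_coprime h hDn hZD hZp hcen
          (Nat.Coprime.coprime_dvd_left hrel hc)).trans h1
  have := hall n (by omega)
  have e : H ⟨n, by omega⟩ = ⊤ := hn
  rw [e, top_inf_eq] at this
  exact this

end Cfsg.Agent.Lib.Helper14HH
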