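-- copy (renamed) of a teammate library file, kept separate so that it is independent of later edits there
import Mathlib
import Cfsg.Prelude.Def_Local
import Cfsg.Agent.Lib.Helper14PSolvQ
import Cfsg.Agent.Lib.Helper14HH

set_option autoImplicit false

namespace Cfsg.Agent.Lib.Helper14PSolvS

open Cfsg

/-- Subgroups of `p`-solvable groups are `p`-solvable. -/
theorem isPSolvable_subgroup {G : Type*} [Group G] {p : ℕ} [Fact p.Prime] (B : Subgroup G)
    (h : IsPSolvable p G) : IsPSolvable p B := by
  obtain ⟨n, H, h0, hn, hmono, hnorm, hfac⟩ := h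
  refine ⟨n, fun i => (H i).subgroupOf B, ?_, ?_, ?_, ?_, ?_⟩
  · simp [h0]
  · simp [hn]
  · intro i j hij
    exact Subgroup.comap_mono (hmono hij)
  · intro i
    exact (hnorm i).subgroupOf B
  · intro i
    have : (H i.castSucc).Normal := hnorm _
    have hdvd : ((H i.castSucc).subgroupOf B).relIndex ((H i.succ).subgroupOf B) ∣
        (H i.castSucc).relIndex (H i.succ) := by
      rw [← Subgroup.inf_subgroupOf_right (H i.succ) B,
        Subgroup.relIndex_subgroupOf (inf_le_right : H i.succ ⊓ B ≤ B)]
      exact Cfsg.Agent.Lib.Helper14HH.relIndex_dvd_of_le_right_normal _ inf_le_left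
    rcases hfac i with ⟨m, hm⟩ | hc
    · left
      rw [hm] at hdvd
      obtain ⟨k, _, hk⟩ := (Nat.dvd_prime_pow Fact.out).1 hdvd
      exact ⟨k, hk⟩
    · right
      exact Nat.Coprime.coprime_dvd_left hdvd hc

end Cfsg.Agent.Lib.Helper14PSolvS
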