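import Mathlib

/-!
Sections of a subgroup `H ≤ G` from homomorphic images of subgroups of `H`.
-/

set_option autoImplicit false

namespace Cfsg.Agent.Lib.Helper13Section

theorem exists_section {G M : Type*} [Group G] [Group M] (H : Subgroup G) (φ : H →* M)
    (K₁ : Subgroup H) {S : Type*} [Group S] (e : ↥(K₁.map φ) ≃* S) :
    ∃ (K L : Subgroup G) (_ : (L.subgroupOf K).Normal), K ≤ H ∧
      Nonempty ((K ⧸ L.subgroupOf K) ≃* S) := by
  set K : Subgroup G := K₁.map H.subtype with hK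
  set L : Subgroup G := φ.ker.map H.subtype with hL
  have hKH : K ≤ H := Subgroup.map_subtype_le K₁
  let θ : K →* M := φ.comp (Subgroup.inclusion hKH)
  have hker : L.subgroupOf K = θ.ker := by
    ext ⟨x, hx⟩
    rw [Subgroup.mem_subgroupOf, MonoidHom.mem_ker]
    constructor
    · rintro ⟨h, hh, hhx⟩
      have : Subgroup.inclusion hKH ⟨x, hx⟩ = h := Subtype.ext hhx.symm
      show φ (Subgroup.inclusion hKH ⟨x, hx⟩) = 1
      rw [this]; exact hh
    · intro h
      exact ⟨Subgroup.inclusion hKH ⟨x, hx⟩, h, rfl⟩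
  have hrange : θ.range = K₁.map φ := by
    ext m
    constructor
    · rintro ⟨⟨x, h, hh, hhx⟩, rfl⟩
      refine ⟨h, hh, ?_⟩
      show φ h = φ (Subgroup.inclusion hKH _)
      congr 1
      exact Subtype.ext hhx
    · rintro ⟨h, hh, rfl⟩
      refine ⟨⟨h, h, hh, rfl⟩, ?_⟩
      show φ (Subgroup.inclusion hKH _) = φ h
      congr 1
  haveI hn : (L.subgroupOf K).Normal := by rw [hker]; infer_instance
  exact ⟨K, L, hn, hKH, ⟨(QuotientGroup.quotientMulEquivOfEq hker).trans
    ((QuotientGroup.quotientKerEquivRange θ).trans ((MulEquiv.subgroupCongr hrange).trans e))⟩⟩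

theorem mem_normalizer_of_conj_mem {G : Type*} [Group G] {R : Subgroup G} {a : G}
    (h1 : ∀ r ∈ R, a * r * a⁻¹ ∈ R) (h2 : ∀ r ∈ R, a⁻¹ * r * a ∈ R) :
    a ∈ Subgroup.normalizer (R : Set G) := by
  rw [Subgroup.mem_normalizer_iff]
  intro r
  refine ⟨h1 r, fun h => ?_⟩
  have := h2 _ h
  have e : a⁻¹ * (a * r * a⁻¹) * a = r := by group
  rwa [e] at this

end Cfsg.Agent.Lib.Helper13Section
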