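import Mathlib

set_option autoImplicit false

namespace Cfsg.Agent.Lib.Helper31TICount

open Finset

/-- The set of nonidentity elements conjugate into `M`. -/
noncomputable def conjSet {L : Type*} [Group L] [Fintype L] (M : Subgroup L) : Finset L := by
  classical
  exact Finset.univ.filter (fun y : L => y ≠ 1 ∧ ∃ g : L, g * y * g⁻¹ ∈ M)

theorem mem_conjSet {L : Type*} [Group L] [Fintype L] (M : Subgroup L) (y : L) :
    y ∈ conjSet M ↔ y ≠ 1 ∧ ∃ g : L, g * y * g⁻¹ ∈ M := by
  classical
  simp [conjSet]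

/-- Counting the nonidentity elements in the conjugates of a TI subgroup. -/
theorem ti_count {L : Type*} [Group L] [Fintype L] (M : Subgroup L)
    (hTI : ∀ g : L, ∀ x ∈ M, x ≠ 1 → g * x * g⁻¹ ∈ M → g ∈ Subgroup.normalizer (M : Set L)) :
    Fintype.card L * (Nat.card M - 1)
      = (conjSet M).card * Nat.card (Subgroup.normalizer (M : Set L)) := by
  classical
  apply Finset.card_mul_eq_card_mul (s := (Finset.univ : Finset L)) (t := conjSet M)
    (fun g y => g * y * g⁻¹ ∈ M)
  · intro g _
    -- y ↦ g y g⁻¹ is a bijection onto M \ {1}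
    have : Nat.card M - 1 = ((Finset.univ : Finset M).erase 1).card := by
      rw [Finset.card_erase_of_mem (Finset.mem_univ _), Finset.card_univ, Nat.card_eq_fintype_card]
    rw [this]
    symm
    apply Finset.card_bij (fun (m : M) _ => g⁻¹ * (m : L) * g)
    · intro m hm
      rw [Finset.mem_bipartiteAbove, mem_conjSet]
      have hm1 : (m : L) ≠ 1 := by
        intro h
        exact (Finset.mem_erase.1 hm).1 (Subtype.ext h)
      have e : g * (g⁻¹ * (m : L) * g) * g⁻¹ = m := by group
      refine ⟨⟨?_, g, ?_⟩, ?_⟩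
      · intro h
        apply hm1
        have : (m : L) = g * (g⁻¹ * (m : L) * g) * g⁻¹ := e.symm
        rw [this, h]; group
      · rw [e]; exact m.2
      · rw [e]; exact m.2
    · intro a _ b _ h
      apply Subtype.ext
      have := congrArg (fun z => g * z * g⁻¹) h
      simpa [mul_assoc] using this
    · intro y hy
      rw [Finset.mem_bipartiteAbove, mem_conjSet] at hy
      refine ⟨⟨g * y * g⁻¹, hy.2⟩, ?_, by simp only []; group⟩
      apply Finset.mem_erase.2 ⟨?_, Finset.mem_univ _⟩
      intro h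
      apply hy.1.1
      have h' : g * y * g⁻¹ = 1 := congrArg Subtype.val h
      have : y = g⁻¹ * (g * y * g⁻¹) * g := by group
      rw [this, h']; group
  · intro y hy
    rw [mem_conjSet] at hy
    obtain ⟨hy1, g₀, hg₀⟩ := hy
    rw [Nat.card_eq_fintype_card, ← Finset.card_univ]
    symm
    apply Finset.card_bij (fun (k : Subgroup.normalizer (M : Set L)) _ => (k : L) * g₀)
    · intro k _
      rw [Finset.mem_bipartiteBelow]
      refine ⟨Finset.mem_univ _, ?_⟩
      have e : (k : L) * g₀ * y * ((k : L) * g₀)⁻¹ = k * (g₀ * y * g₀⁻¹) * (k : L)⁻¹ := by group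
      rw [e]
      exact (Subgroup.mem_normalizer_iff.1 k.2 _).1 hg₀
    · intro a _ b _ h
      exact Subtype.ext (mul_right_cancel h)
    · intro g hg
      rw [Finset.mem_bipartiteBelow] at hg
      have hm1 : g₀ * y * g₀⁻¹ ≠ 1 := by
        intro h'
        apply hy1
        have : y = g₀⁻¹ * (g₀ * y * g₀⁻¹) * g₀ := by group
        rw [this, h']; group
      have hk : g * g₀⁻¹ ∈ Subgroup.normalizer (M : Set L) := by
        apply hTI _ _ hg₀ hm1
        have e : g * g₀⁻¹ * (g₀ * y * g₀⁻¹) * (g * g₀⁻¹)⁻¹ = g * y * g⁻¹ := by group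
        rw [e]; exact hg.2
      exact ⟨⟨g * g₀⁻¹, hk⟩, Finset.mem_univ _, by simp⟩

end Cfsg.Agent.Lib.Helper31TICount
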