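import Mathlib
import Cfsg.Agent.Lib.Helper31TICount

set_option autoImplicit false

namespace Cfsg.Agent.Lib.Helper31CACount
open Cfsg.Agent.Lib.Helper31TICount
open scoped Pointwise

section CA
variable {L : Type*} [Group L]

theorem mem_Cn {w x : L} : x ∈ Subgroup.centralizer ({w} : Set L) ↔ Commute x w := by
  rw [Subgroup.mem_centralizer_singleton_iff]; rfl

theorem conj_commute {x y : L} (g : L) (h : Commute x y) : Commute (g * x * g⁻¹) (g * y * g⁻¹) := by
  have : g * x * g⁻¹ * (g * y * g⁻¹) = g * (x * y) * g⁻¹ := by group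
  have h2 : g * y * g⁻¹ * (g * x * g⁻¹) = g * (y * x) * g⁻¹ := by group
  show _ = _
  rw [this, h2, h.eq]

theorem conj_commute_iff {x y : L} (g : L) : Commute (g * x * g⁻¹) (g * y * g⁻¹) ↔ Commute x y := by
  refine ⟨fun h => ?_, conj_commute g⟩
  have := conj_commute g⁻¹ h
  have e1 : g⁻¹ * (g * x * g⁻¹) * g⁻¹⁻¹ = x := by group
  have e2 : g⁻¹ * (g * y * g⁻¹) * g⁻¹⁻¹ = y := by group
  rwa [e1, e2] at this

theorem conj_ne_one {x : L} (g : L) (h : x ≠ 1) : g * x * g⁻¹ ≠ 1 := by
  intro h'
  apply h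
  have : x = g⁻¹ * (g * x * g⁻¹) * g := by group
  rw [this, h']; group

variable (hCA : ∀ x y z : L, y ≠ 1 → Commute x y → Commute y z → Commute x z)
include hCA

theorem mem_normalizer_Cn {w : L} (hw : w ≠ 1) (g : L) :
    g ∈ Subgroup.normalizer ((Subgroup.centralizer ({w} : Set L) : Subgroup L) : Set L)
      ↔ Commute (g * w * g⁻¹) w := by
  rw [Subgroup.mem_normalizer_iff]
  constructor
  · intro h
    exact mem_Cn.1 ((h w).1 (mem_Cn.2 (Commute.refl w)))
  · intro h x
    rw [mem_Cn, mem_Cn]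
    constructor
    · intro hx
      exact hCA _ _ _ (conj_ne_one g hw) (conj_commute g hx) h
    · intro hx
      exact (conj_commute_iff g).1 (hCA _ _ _ hw hx h.symm)

theorem ti_Cn {w : L} (g : L) (x : L) (hx : x ∈ Subgroup.centralizer ({w} : Set L)) (hx1 : x ≠ 1)
    (hg : g * x * g⁻¹ ∈ Subgroup.centralizer ({w} : Set L)) (hw : w ≠ 1) :
    g ∈ Subgroup.normalizer ((Subgroup.centralizer ({w} : Set L) : Subgroup L) : Set L) := by
  rw [mem_normalizer_Cn hCA hw]
  rw [mem_Cn] at hx hg
  exact hCA _ _ _ (conj_ne_one g hx1) (conj_commute g hx.symm) hg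

variable [Fintype L]

theorem count_Cn {w : L} (hw : w ≠ 1) :
    Fintype.card L * (Nat.card (Subgroup.centralizer ({w} : Set L)) - 1)
      = (conjSet (Subgroup.centralizer ({w} : Set L))).card *
        Nat.card (Subgroup.normalizer ((Subgroup.centralizer ({w} : Set L) : Subgroup L) : Set L)) :=
  ti_count _ (fun g x hx hx1 hg => ti_Cn hCA g x hx hx1 hg hw)

theorem disjoint_conjSet {w w' : L} (hw' : w' ≠ 1)
    (h : w' ∉ conjSet (Subgroup.centralizer ({w} : Set L))) :
    Disjoint (conjSet (Subgroup.centralizer ({w} : Set L)))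
      (conjSet (Subgroup.centralizer ({w'} : Set L))) := by
  rw [Finset.disjoint_left]
  intro y hy hy'
  apply h
  rw [mem_conjSet] at hy hy' ⊢
  obtain ⟨hy1, g, hg⟩ := hy
  obtain ⟨-, g', hg'⟩ := hy'
  rw [mem_Cn] at hg hg'
  refine ⟨hw', g * g'⁻¹, ?_⟩
  rw [mem_Cn]
  have h1 : Commute (g * g'⁻¹ * w' * (g * g'⁻¹)⁻¹) (g * y * g⁻¹) := by
    have := conj_commute (g * g'⁻¹) hg'.symm
    have e : g * g'⁻¹ * (g' * y * g'⁻¹) * (g * g'⁻¹)⁻¹ = g * y * g⁻¹ := by group
    rwa [e] at this
  exact hCA _ _ _ (conj_ne_one g hy1) h1 hg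

omit hCA in
theorem two_le_card_Cn' {w : L} (hw : w ≠ 1) :
    2 ≤ Nat.card (Subgroup.centralizer ({w} : Set L)) := by
  have : (Subgroup.centralizer ({w} : Set L)) ≠ ⊥ := by
    intro h
    apply hw
    have : w ∈ Subgroup.centralizer ({w} : Set L) := mem_Cn.2 (Commute.refl w)
    rw [h] at this
    exact Subgroup.mem_bot.1 this
  exact (Subgroup.one_lt_card_iff_ne_bot _).2 this

theorem half_le_of_selfNormalizing {w : L} (hw : w ≠ 1)
    (hN : ∀ g : L, Commute (g * w * g⁻¹) w → Commute g w) :
    Fintype.card L ≤ 2 * (conjSet (Subgroup.centralizer ({w} : Set L))).card := by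
  have h1 := count_Cn hCA hw
  have hNe : Subgroup.normalizer ((Subgroup.centralizer ({w} : Set L) : Subgroup L) : Set L)
      = Subgroup.centralizer ({w} : Set L) := by
    apply le_antisymm
    · intro g hg
      rw [mem_normalizer_Cn hCA hw] at hg
      exact mem_Cn.2 (hN g hg)
    · exact Subgroup.le_normalizer
  rw [hNe] at h1
  have h2 := two_le_card_Cn' hw
  generalize Nat.card (Subgroup.centralizer ({w} : Set L)) = t at h1 h2
  generalize (conjSet (Subgroup.centralizer ({w} : Set L))).card = a at h1 ⊢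
  generalize Fintype.card L = g at h1 ⊢
  obtain ⟨s, rfl⟩ : ∃ s, t = s + 2 := ⟨t - 2, by omega⟩
  have h3 : g * (s + 1) = a * (s + 2) := by simpa using h1
  by_contra hlt
  have hlt' : 2 * a + 1 ≤ g := by omega
  nlinarith

theorem mem_conjSet_of_pow_eq_one (p : ℕ) [Fact p.Prime] {u : L} (hu : u ≠ 1)
    (hU : ∀ x : L, Commute x u → x ^ p = 1) {h : L} (h1 : h ≠ 1) (hp : h ^ p = 1) :
    h ∈ conjSet (Subgroup.centralizer ({u} : Set L)) := by
  have hPp : IsPGroup p (Subgroup.centralizer ({u} : Set L)) := by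
    intro x
    refine ⟨1, ?_⟩
    apply Subtype.ext
    have := hU x (mem_Cn.1 x.2)
    simpa using this
  obtain ⟨S, hS⟩ := hPp.exists_le_sylow
  have huS : u ∈ (S : Subgroup L) := hS (mem_Cn.2 (Commute.refl u))
  have hSP : (S : Subgroup L) ≤ Subgroup.centralizer ({u} : Set L) := by
    have : Nontrivial (S : Subgroup L) := ⟨⟨⟨u, huS⟩, 1, fun h => hu (congrArg Subtype.val h)⟩⟩
    have hnt : Nontrivial (Subgroup.center (S : Subgroup L)) := S.2.center_nontrivial
    obtain ⟨z, hz⟩ := exists_ne (1 : Subgroup.center (S : Subgroup L))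
    have hz1 : ((z : (S : Subgroup L)) : L) ≠ 1 := by
      intro h
      apply hz
      apply Subtype.ext
      apply Subtype.ext
      exact h
    intro s hs
    rw [mem_Cn]
    have hzc := Subgroup.mem_center_iff.1 z.2
    have e1 : Commute s ((z : (S : Subgroup L)) : L) := congrArg Subtype.val (hzc ⟨s, hs⟩)
    have e2 : Commute ((z : (S : Subgroup L)) : L) u := (congrArg Subtype.val (hzc ⟨u, huS⟩)).symm
    exact hCA _ _ _ hz1 e1 e2
  have hZ : IsPGroup p (Subgroup.zpowers h) := by
    intro x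
    refine ⟨1, ?_⟩
    obtain ⟨k, hk⟩ := Subgroup.mem_zpowers_iff.1 x.2
    apply Subtype.ext
    show ((x : L)) ^ (p ^ 1) = 1
    rw [← hk, pow_one, ← zpow_natCast, ← zpow_mul, mul_comm, zpow_mul, zpow_natCast, hp, one_zpow]
  obtain ⟨S', hS'⟩ := hZ.exists_le_sylow
  obtain ⟨g, hg⟩ := MulAction.exists_smul_eq L S' S
  rw [mem_conjSet]
  refine ⟨h1, g, hSP ?_⟩
  rw [← hg]
  have : h ∈ (S' : Subgroup L) := hS' (Subgroup.mem_zpowers h)
  have h2 := Subgroup.smul_mem_pointwise_smul h (MulAut.conj g) (S' : Subgroup L) this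
  have h3 : ((g • S' : Sylow p L) : Subgroup L) = MulAut.conj g • (S' : Subgroup L) := rfl
  rw [h3]
  simpa using h2

omit hCA [Fintype L] in
theorem arith_aux (g q b t au ah n m : ℕ) (hq : 1 ≤ q) (ht : 1 ≤ t) (hb : 0 < b)
    (h1 : g * (q - 1) = au * b) (h2 : g * (t - 1) = ah * t) (h3 : au + ah + 1 = g)
    (h4 : t * q ≤ b) (h5 : g = n * b) (h6 : g = m * t) : g = b := by
  obtain ⟨q', rfl⟩ : ∃ q', q = q' + 1 := ⟨q - 1, by omega⟩
  obtain ⟨t', rfl⟩ : ∃ t', t = t' + 1 := ⟨t - 1, by omega⟩
  simp only [Nat.add_sub_cancel] at h1 h2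
  have e1 : au = n * q' := by
    apply Nat.eq_of_mul_eq_mul_right hb
    rw [← h1, h5]; ring
  have e2 : ah = m * t' := by
    apply Nat.eq_of_mul_eq_mul_right (show 0 < t' + 1 by omega)
    rw [← h2, h6]; ring
  have e3 : m = n * q' + 1 := by
    have : n * q' + m * t' + 1 = m * t' + m := by
      have h7 : m * (t' + 1) = m * t' + m := by ring
      rw [← h7, ← h6, ← h3, e1, e2]
    omega
  have e4 : n * (q' + 1) ≤ m := by
    apply Nat.le_of_mul_le_mul_right (c := t' + 1) _ (show 0 < t' + 1 by omega)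
    calc n * (q' + 1) * (t' + 1) = n * ((t' + 1) * (q' + 1)) := by ring
      _ ≤ n * b := Nat.mul_le_mul_left _ h4
      _ = m * (t' + 1) := by rw [← h5, h6]
  have e5 : n ≤ 1 := by
    have : n * (q' + 1) = n * q' + n := by ring
    omega
  have e6 : n ≠ 0 := by
    rintro rfl
    omega
  have e7 : n = 1 := by omega
  rw [h5, e7, one_mul]

theorem two_classes_false {w w' : L} (hw : w ≠ 1) (hw' : w' ≠ 1)
    (hN : ∀ g : L, Commute (g * w * g⁻¹) w → Commute g w)
    (hN' : ∀ g : L, Commute (g * w' * g⁻¹) w' → Commute g w')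
    (h : w' ∉ conjSet (Subgroup.centralizer ({w} : Set L))) : False := by
  classical
  have h1 := half_le_of_selfNormalizing hCA hw hN
  have h2 := half_le_of_selfNormalizing hCA hw' hN'
  have h3 := disjoint_conjSet hCA hw' h
  have h4 : (conjSet (Subgroup.centralizer ({w} : Set L)) ∪
      conjSet (Subgroup.centralizer ({w'} : Set L))) ⊆ (Finset.univ : Finset L).erase 1 := by
    intro y hy
    rw [Finset.mem_union, mem_conjSet, mem_conjSet] at hy
    rw [Finset.mem_erase]
    rcases hy with hy | hy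
    · exact ⟨hy.1, Finset.mem_univ _⟩
    · exact ⟨hy.1, Finset.mem_univ _⟩
  have h5 := Finset.card_le_card h4
  rw [Finset.card_union_of_disjoint h3, Finset.card_erase_of_mem (Finset.mem_univ _),
    Finset.card_univ] at h5
  have h6 : 0 < Fintype.card L := Fintype.card_pos
  omega

theorem normal_of_count (p : ℕ) [Fact p.Prime] {u : L} (hu : u ≠ 1)
    (hU : ∀ x : L, Commute x u → x ^ p = 1)
    (hSN : ∀ h : L, h ^ p ≠ 1 → ∀ g : L, Commute (g * h * g⁻¹) h → Commute g h)
    (hB : ∀ h : L, Commute (h * u * h⁻¹) u → ¬ Commute h u →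
      h ^ p ≠ 1 ∧ ∀ g : L, Commute g h → Commute (g * u * g⁻¹) u) :
    ∀ g : L, Commute (g * u * g⁻¹) u := by
  classical
  have key0 : ∀ h : L, h ≠ 1 → h ∉ conjSet (Subgroup.centralizer ({u} : Set L)) → h ^ p ≠ 1 :=
    fun h h1 hn hp => hn (mem_conjSet_of_pow_eq_one hCA p hu hU h1 hp)
  have key1 : ∀ h : L, h ∈ conjSet (Subgroup.centralizer ({u} : Set L)) → h ^ p = 1 := by
    intro h hh
    rw [mem_conjSet] at hh
    obtain ⟨-, g, hg⟩ := hh
    have := hU _ (mem_Cn.1 hg)
    rw [conj_pow] at this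
    have e : h ^ p = g⁻¹ * (g * h ^ p * g⁻¹) * g := by group
    rw [e, this]; group
  have hcu := count_Cn hCA hu
  have hq := two_le_card_Cn' hu
  by_cases hc : ∃ h : L, Commute (h * u * h⁻¹) u ∧ ¬ Commute h u
  · obtain ⟨h, hh1, hh2⟩ := hc
    obtain ⟨hhp, hhB⟩ := hB h hh1 hh2
    have hh0 : h ≠ 1 := by
      rintro rfl
      simp at hhp
    have hhA : h ∉ conjSet (Subgroup.centralizer ({u} : Set L)) := fun hm => hhp (key1 h hm)
    have hdisj := disjoint_conjSet hCA hh0 hhA
    have hcover : (conjSet (Subgroup.centralizer ({u} : Set L)) ∪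
      conjSet (Subgroup.centralizer ({h} : Set L))) = (Finset.univ : Finset L).erase 1 := by
      ext y
      rw [Finset.mem_union, Finset.mem_erase]
      constructor
      · rintro (hy | hy)
        · exact ⟨((mem_conjSet _ _).1 hy).1, Finset.mem_univ _⟩
        · exact ⟨((mem_conjSet _ _).1 hy).1, Finset.mem_univ _⟩
      · rintro ⟨hy1, -⟩
        by_contra hcon
        rw [not_or] at hcon
        exact two_classes_false hCA hh0 hy1 (hSN h hhp) (hSN y (key0 y hy1 hcon.1)) hcon.2
    have hcard := congrArg Finset.card hcover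
    rw [Finset.card_union_of_disjoint hdisj, Finset.card_erase_of_mem (Finset.mem_univ _),
      Finset.card_univ] at hcard
    have hch := count_Cn hCA hh0
    have hNe : Subgroup.normalizer ((Subgroup.centralizer ({h} : Set L) : Subgroup L) : Set L)
        = Subgroup.centralizer ({h} : Set L) := by
      apply le_antisymm
      · intro g hg
        rw [mem_normalizer_Cn hCA hh0] at hg
        exact mem_Cn.2 (hSN h hhp g hg)
      · exact Subgroup.le_normalizer
    rw [hNe] at hch
    have ht := two_le_card_Cn' hh0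
    have hTB : Subgroup.centralizer ({h} : Set L) ≤
        Subgroup.normalizer ((Subgroup.centralizer ({u} : Set L) : Subgroup L) : Set L) := by
      intro g hg
      rw [mem_normalizer_Cn hCA hu]
      exact hhB g (mem_Cn.1 hg)
    have hinj : Nat.card (Subgroup.centralizer ({h} : Set L)) *
        Nat.card (Subgroup.centralizer ({u} : Set L)) ≤
        Nat.card (Subgroup.normalizer ((Subgroup.centralizer ({u} : Set L) : Subgroup L) : Set L)) := by
      rw [← Nat.card_prod]
      apply Nat.card_le_card_of_injective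
        (fun xy : (Subgroup.centralizer ({h} : Set L)) × (Subgroup.centralizer ({u} : Set L)) =>
          (⟨(xy.1 : L) * (xy.2 : L), mul_mem (hTB xy.1.2) (Subgroup.le_normalizer xy.2.2)⟩ :
          Subgroup.normalizer ((Subgroup.centralizer ({u} : Set L) : Subgroup L) : Set L)))
      rintro ⟨x, y⟩ ⟨x', y'⟩ hxy
      have hxy' : (x : L) * y = x' * y' := congrArg Subtype.val hxy
      have hz : (x' : L)⁻¹ * x = y' * (y : L)⁻¹ := by
        rw [inv_mul_eq_iff_eq_mul, ← mul_assoc, ← hxy']; group
      have hz1 : (x' : L)⁻¹ * x = 1 := by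
        by_contra hne
        apply hh2
        have c1 : Commute ((x' : L)⁻¹ * x) h := mem_Cn.1 (mul_mem (inv_mem x'.2) x.2)
        have c2 : Commute ((x' : L)⁻¹ * x) u := by
          rw [hz]; exact mem_Cn.1 (mul_mem y'.2 (inv_mem y.2))
        exact hCA _ _ _ hne c1.symm c2
      have hx : (x : L) = x' := by
        rw [inv_mul_eq_one] at hz1; exact hz1.symm
      have hy : (y : L) = y' := by
        rw [hz1] at hz
        have := (mul_inv_eq_one.1 hz.symm); exact this.symm
      exact Prod.ext (Subtype.ext hx) (Subtype.ext hy)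
    obtain ⟨n, hn⟩ := Subgroup.card_subgroup_dvd_card
      (Subgroup.normalizer ((Subgroup.centralizer ({u} : Set L) : Subgroup L) : Set L))
    obtain ⟨m, hm⟩ := Subgroup.card_subgroup_dvd_card (Subgroup.centralizer ({h} : Set L))
    rw [Nat.card_eq_fintype_card] at hn hm
    have hpos : 0 < Fintype.card L := Fintype.card_pos
    have hfin := arith_aux (Fintype.card L) _ _ _ _ _ n m (by omega) (by omega) Nat.card_pos hcu hch
      (by omega) hinj (by rw [hn]; ring) (by rw [hm]; ring)
    have htop : Subgroup.normalizer ((Subgroup.centralizer ({u} : Set L) : Subgroup L) : Set L) = ⊤ := by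
      apply Subgroup.eq_top_of_card_eq
      rw [← hfin, Nat.card_eq_fintype_card]
    intro g
    rw [← mem_normalizer_Cn hCA hu, htop]
    exact Subgroup.mem_top g
  · have hNu : ∀ g : L, Commute (g * u * g⁻¹) u → Commute g u := by
      intro g hg
      by_contra hgn
      exact hc ⟨g, hg, hgn⟩
    have hall : ∀ y : L, y ≠ 1 → y ∈ conjSet (Subgroup.centralizer ({u} : Set L)) := by
      intro y hy1
      by_contra hcon
      exact two_classes_false hCA hu hy1 hNu (hSN y (key0 y hy1 hcon)) hcon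
    have hcover : conjSet (Subgroup.centralizer ({u} : Set L)) = (Finset.univ : Finset L).erase 1 := by
      ext y
      rw [Finset.mem_erase]
      exact ⟨fun hy => ⟨((mem_conjSet _ _).1 hy).1, Finset.mem_univ _⟩, fun hy => hall y hy.1⟩
    have hNe : Subgroup.normalizer ((Subgroup.centralizer ({u} : Set L) : Subgroup L) : Set L)
        = Subgroup.centralizer ({u} : Set L) := by
      apply le_antisymm
      · intro g hg
        rw [mem_normalizer_Cn hCA hu] at hg
        exact mem_Cn.2 (hNu g hg)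
      · exact Subgroup.le_normalizer
    rw [hNe, hcover, Finset.card_erase_of_mem (Finset.mem_univ _), Finset.card_univ] at hcu
    have hpos : 0 < Fintype.card L := Fintype.card_pos
    have heq : Nat.card (Subgroup.centralizer ({u} : Set L)) = Fintype.card L := by
      generalize Nat.card (Subgroup.centralizer ({u} : Set L)) = q at hcu hq
      generalize Fintype.card L = g at hcu hpos
      obtain ⟨q', rfl⟩ : ∃ q', q = q' + 1 := ⟨q - 1, by omega⟩
      obtain ⟨g', rfl⟩ : ∃ g', g = g' + 1 := ⟨g - 1, by omega⟩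
      simp only [Nat.add_sub_cancel] at hcu
      nlinarith
    have htop : Subgroup.centralizer ({u} : Set L) = ⊤ := by
      apply Subgroup.eq_top_of_card_eq
      rw [heq, Nat.card_eq_fintype_card]
    intro g
    rw [← mem_Cn, htop]
    exact Subgroup.mem_top _

end CA

end Cfsg.Agent.Lib.Helper31CACount
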