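import Mathlib
import Cfsg.Agent.Lib.Helper31CACount

set_option autoImplicit false

namespace Cfsg.Agent.Lib.Helper31SL2
open Matrix

variable {F : Type*} [Field F]

local notation "SL2" => Matrix.SpecialLinearGroup (Fin 2) F

theorem det_eq (x : SL2) : x 0 0 * x 1 1 - x 0 1 * x 1 0 = 1 := by
  have := x.det_coe
  rw [Matrix.det_fin_two] at this
  exact this

theorem mul_00 (x y : SL2) : (x * y) 0 0 = x 0 0 * y 0 0 + x 0 1 * y 1 0 := by
  simp [Matrix.SpecialLinearGroup.coe_mul, Matrix.mul_apply, Fin.sum_univ_two]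
theorem mul_01 (x y : SL2) : (x * y) 0 1 = x 0 0 * y 0 1 + x 0 1 * y 1 1 := by
  simp [Matrix.SpecialLinearGroup.coe_mul, Matrix.mul_apply, Fin.sum_univ_two]
theorem mul_10 (x y : SL2) : (x * y) 1 0 = x 1 0 * y 0 0 + x 1 1 * y 1 0 := by
  simp [Matrix.SpecialLinearGroup.coe_mul, Matrix.mul_apply, Fin.sum_univ_two]
theorem mul_11 (x y : SL2) : (x * y) 1 1 = x 1 0 * y 0 1 + x 1 1 * y 1 1 := by
  simp [Matrix.SpecialLinearGroup.coe_mul, Matrix.mul_apply, Fin.sum_univ_two]
theorem inv_00 (x : SL2) : (x⁻¹) 0 0 = x 1 1 := by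
  simp [Matrix.SpecialLinearGroup.coe_inv, Matrix.adjugate_fin_two]
theorem inv_01 (x : SL2) : (x⁻¹) 0 1 = - x 0 1 := by
  simp [Matrix.SpecialLinearGroup.coe_inv, Matrix.adjugate_fin_two]
theorem inv_10 (x : SL2) : (x⁻¹) 1 0 = - x 1 0 := by
  simp [Matrix.SpecialLinearGroup.coe_inv, Matrix.adjugate_fin_two]
theorem inv_11 (x : SL2) : (x⁻¹) 1 1 = x 0 0 := by
  simp [Matrix.SpecialLinearGroup.coe_inv, Matrix.adjugate_fin_two]

theorem ext4 {x y : SL2} (h00 : x 0 0 = y 0 0) (h01 : x 0 1 = y 0 1) (h10 : x 1 0 = y 1 0)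
    (h11 : x 1 1 = y 1 1) : x = y := by
  apply Matrix.SpecialLinearGroup.ext
  intro i j
  fin_cases i <;> fin_cases j <;> assumption

theorem commute_iff (x y : SL2) : Commute x y ↔
    x 0 1 * y 1 0 = y 0 1 * x 1 0 ∧ y 0 1 * (x 0 0 - x 1 1) = x 0 1 * (y 0 0 - y 1 1) ∧
      x 1 0 * (y 0 0 - y 1 1) = y 1 0 * (x 0 0 - x 1 1) := by
  constructor
  · intro h
    have h' : x * y = y * x := h
    have e00 := congrArg (fun z : SL2 => z 0 0) h'
    have e01 := congrArg (fun z : SL2 => z 0 1) h'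
    have e10 := congrArg (fun z : SL2 => z 1 0) h'
    simp only [mul_00, mul_01, mul_10] at e00 e01 e10
    refine ⟨by linear_combination e00, by linear_combination e01, by linear_combination e10⟩
  · rintro ⟨h1, h2, h3⟩
    show x * y = y * x
    apply ext4
    · rw [mul_00, mul_00]; linear_combination h1
    · rw [mul_01, mul_01]; linear_combination h2
    · rw [mul_10, mul_10]; linear_combination h3
    · rw [mul_11, mul_11]; linear_combination -h1

/-- non-scalar -/
def NS (y : SL2) : Prop := y 0 1 ≠ 0 ∨ y 1 0 ≠ 0 ∨ y 0 0 ≠ y 1 1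

theorem commute_trans {x y z : SL2} (hy : NS y) (h1 : Commute x y) (h2 : Commute y z) :
    Commute x z := by
  rw [commute_iff] at h1 h2 ⊢
  obtain ⟨a1, a2, a3⟩ := h1
  obtain ⟨b1, b2, b3⟩ := h2
  rcases hy with hy | hy | hy
  · refine ⟨mul_left_cancel₀ hy ?_, mul_left_cancel₀ hy ?_, mul_left_cancel₀ hy ?_⟩
    · linear_combination x 0 1 * b1 + z 0 1 * a1
    · linear_combination z 0 1 * a2 + x 0 1 * b2
    · linear_combination -(z 0 0 - z 1 1) * a1 + x 0 1 * b3 - z 1 0 * a2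
  · have c1 : x 0 1 * z 1 0 = z 0 1 * x 1 0 := by
      apply mul_left_cancel₀ hy
      linear_combination z 1 0 * a1 + x 1 0 * b1
    refine ⟨c1, mul_left_cancel₀ hy ?_, mul_left_cancel₀ hy ?_⟩
    · linear_combination -z 0 1 * a3 - x 0 1 * b3 - (y 0 0 - y 1 1) * c1
    · linear_combination x 1 0 * b3 + z 1 0 * a3
  · have hy' : y 0 0 - y 1 1 ≠ 0 := sub_ne_zero.2 hy
    have c3 : x 1 0 * (z 0 0 - z 1 1) = z 1 0 * (x 0 0 - x 1 1) := by
      apply mul_left_cancel₀ hy'
      linear_combination (z 0 0 - z 1 1) * a3 + (x 0 0 - x 1 1) * b3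
    refine ⟨mul_left_cancel₀ hy' ?_, mul_left_cancel₀ hy' ?_, c3⟩
    · linear_combination -z 1 0 * a2 - x 1 0 * b2 - y 0 1 * c3
    · linear_combination (x 0 0 - x 1 1) * b2 + (z 0 0 - z 1 1) * a2

/-- trace -/
def tr (x : SL2) : F := x 0 0 + x 1 1

theorem tr_eq_trace (x : SL2) : tr x = Matrix.trace (x : Matrix (Fin 2) (Fin 2) F) := by
  rw [Matrix.trace_fin_two]; rfl

theorem tr_conj (g x : SL2) : tr (g * x * g⁻¹) = tr x := by
  rw [tr_eq_trace, tr_eq_trace, Matrix.SpecialLinearGroup.coe_mul, Matrix.trace_mul_comm,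
    ← Matrix.SpecialLinearGroup.coe_mul, ← mul_assoc, inv_mul_cancel, one_mul]

theorem tr_sq_sub (x : SL2) : tr x ^ 2 - 4 = (x 0 0 - x 1 1) ^ 2 + 4 * (x 0 1 * x 1 0) := by
  have := det_eq x
  unfold tr
  linear_combination 4 * this

/-- (M4) -/
theorem tr_sq_of_commute {g u : SL2} (hu : NS u) (htr : tr u ^ 2 = 4) (h : Commute g u) :
    tr g ^ 2 = 4 := by
  have hQ : (u 0 0 - u 1 1) ^ 2 + 4 * (u 0 1 * u 1 0) = 0 := by
    rw [← tr_sq_sub, htr]; ring
  have goal : (g 0 0 - g 1 1) ^ 2 + 4 * (g 0 1 * g 1 0) = 0 := by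
    rw [commute_iff] at h
    obtain ⟨a1, a2, a3⟩ := h
    rcases hu with hu | hu | hu
    · apply mul_left_cancel₀ (pow_ne_zero 2 hu)
      linear_combination (u 0 1 * (g 0 0 - g 1 1) + g 0 1 * (u 0 0 - u 1 1)) * a2
        - 4 * u 0 1 * g 0 1 * a1 + (g 0 1) ^ 2 * hQ
    · apply mul_left_cancel₀ (pow_ne_zero 2 hu)
      linear_combination -(u 1 0 * (g 0 0 - g 1 1) + g 1 0 * (u 0 0 - u 1 1)) * a3
        + 4 * u 1 0 * g 1 0 * a1 + (g 1 0) ^ 2 * hQ
    · apply mul_left_cancel₀ (pow_ne_zero 2 (sub_ne_zero.2 hu))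
      linear_combination -4 * g 1 0 * (u 0 0 - u 1 1) * a2
        + 4 * u 0 1 * (g 0 0 - g 1 1) * a3 + (g 0 0 - g 1 1) ^ 2 * hQ
  have := tr_sq_sub g
  rw [goal] at this
  linear_combination this

/-- (M2') -/
theorem eq_inv_or_tr {k h : SL2} (hc : Commute k h) (htr : tr k = tr h) :
    k = h⁻¹ ∨ tr (k * h⁻¹) = 2 := by
  by_cases hD : tr (k * h⁻¹) = 2
  · exact Or.inr hD
  left
  have dk := det_eq k
  have dh := det_eq h
  rw [commute_iff] at hc
  obtain ⟨c1, c2, c3⟩ := hc
  unfold tr at htr hD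
  rw [mul_00, mul_11, inv_00, inv_10, inv_01, inv_11] at hD
  have hD' : (k 0 0 - h 0 0) * (k 1 1 - h 1 1) - (k 0 1 - h 0 1) * (k 1 0 - h 1 0) ≠ 0 := by
    intro h0
    apply hD
    linear_combination -h0 + dk + dh
  have e00 : (k 0 0 - h 0 0) * (k 0 0 - h 1 1) + (k 0 1 - h 0 1) * (k 1 0 + h 1 0) = 0 := by
    linear_combination k 0 0 * htr - dk + dh + c1
  have e01 : (k 0 0 - h 0 0) * (k 0 1 + h 0 1) + (k 0 1 - h 0 1) * (k 1 1 - h 0 0) = 0 := by
    linear_combination k 0 1 * htr + c2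
  have e10 : (k 1 0 - h 1 0) * (k 0 0 - h 1 1) + (k 1 1 - h 1 1) * (k 1 0 + h 1 0) = 0 := by
    linear_combination k 1 0 * htr + c3
  have e11 : (k 1 0 - h 1 0) * (k 0 1 + h 0 1) + (k 1 1 - h 1 1) * (k 1 1 - h 0 0) = 0 := by
    linear_combination k 1 1 * htr - dk + dh - c1
  apply ext4
  · rw [inv_00]
    apply mul_left_cancel₀ hD'
    linear_combination (k 1 1 - h 1 1) * e00 - (k 0 1 - h 0 1) * e10
  · rw [inv_01]
    apply mul_left_cancel₀ hD'
    linear_combination (k 1 1 - h 1 1) * e01 - (k 0 1 - h 0 1) * e11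
  · rw [inv_10]
    apply mul_left_cancel₀ hD'
    linear_combination -(k 1 0 - h 1 0) * e00 + (k 0 0 - h 0 0) * e10
  · rw [inv_11]
    apply mul_left_cancel₀ hD'
    linear_combination -(k 1 0 - h 1 0) * e01 + (k 0 0 - h 0 0) * e11

section charp
variable (p : ℕ) [Fact p.Prime] [CharP F p]

theorem sub_one_pow (x : SL2) :
    ((x : Matrix (Fin 2) (Fin 2) F) - 1) ^ p = ((x ^ p : SL2) : Matrix (Fin 2) (Fin 2) F) - 1 := by
  rw [sub_pow_char_of_commute p (Commute.one_right _), one_pow, Matrix.SpecialLinearGroup.coe_pow]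

/-- Fact B -/
theorem pow_eq_one_of_tr {x : SL2} (h : tr x = 2) : x ^ p = 1 := by
  have dx := det_eq x
  unfold tr at h
  have hsq : ((x : Matrix (Fin 2) (Fin 2) F) - 1) ^ 2 = 0 := by
    rw [pow_two]
    ext i j
    fin_cases i <;> fin_cases j <;>
      simp only [Matrix.mul_apply, Fin.sum_univ_two, Matrix.sub_apply, Matrix.one_apply,
        Fin.zero_eta, Fin.mk_one, Fin.isValue, Matrix.zero_apply, if_true, one_ne_zero, zero_ne_one,
        if_false, sub_zero]
    · linear_combination x 0 0 * h - dx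
    · linear_combination x 0 1 * h
    · linear_combination x 1 0 * h
    · linear_combination x 1 1 * h - dx
  have h0 : ((x : Matrix (Fin 2) (Fin 2) F) - 1) ^ p = 0 :=
    pow_eq_zero_of_le (Fact.out : p.Prime).two_le hsq
  rw [sub_one_pow, sub_eq_zero] at h0
  apply Matrix.SpecialLinearGroup.ext
  intro i j
  rw [h0]
  rfl

/-- Fact C -/
theorem tr_of_pow_eq_one {x : SL2} (h : x ^ p = 1) : tr x = 2 := by
  have h0 : ((x : Matrix (Fin 2) (Fin 2) F) - 1) ^ p = 0 := by
    rw [sub_one_pow, h]; simp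
  have h1 : ((x : Matrix (Fin 2) (Fin 2) F) - 1).det = 0 := by
    have := congrArg Matrix.det h0
    rw [Matrix.det_pow, Matrix.det_zero] at this
    exact pow_eq_zero_iff (Fact.out : p.Prime).ne_zero |>.1 this
  rw [Matrix.det_fin_two] at h1
  simp only [Matrix.sub_apply, Matrix.one_apply, Fin.isValue, if_true, one_ne_zero, zero_ne_one,
    if_false, sub_zero] at h1
  have dx := det_eq x
  unfold tr
  linear_combination dx - h1

theorem tr_sq (x : SL2) : tr (x ^ 2) = tr x ^ 2 - 2 := by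
  have dx := det_eq x
  unfold tr
  rw [pow_two x, mul_00, mul_11]
  linear_combination -2 * dx

omit [Fact p.Prime] in
theorem two_ne_zero' (hp : p.Prime) (hp2 : p ≠ 2) : (2 : F) ≠ 0 := by
  intro h
  have h' : ((2 : ℕ) : F) = 0 := by exact_mod_cast h
  rw [CharP.cast_eq_zero_iff F p 2] at h'
  exact hp2 ((Nat.prime_dvd_prime_iff_eq hp Nat.prime_two).1 h')

section grp
variable {G : Type*} [Group G]

theorem odd_orderOf (L : Subgroup G) [Finite L] (hodd : Odd (Nat.card L)) {x : G} (hx : x ∈ L) :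
    Odd (orderOf x) := by
  have h1 : orderOf (⟨x, hx⟩ : L) ∣ Nat.card L := orderOf_dvd_natCard _
  rw [Subgroup.orderOf_mk] at h1
  exact Odd.of_dvd_nat hodd h1

theorem pow_eq_one_of_two_mul {x : G} (hx : Odd (orderOf x)) {k : ℕ} (h : x ^ (2 * k) = 1) :
    x ^ k = 1 := by
  rw [← orderOf_dvd_iff_pow_eq_one] at h ⊢
  exact (Nat.Coprime.dvd_of_dvd_mul_left (Nat.Coprime.symm (Nat.coprime_two_left.2 hx)) h)

theorem commute_of_sq {x h : G} (hx : Odd (orderOf x)) (hc : Commute (x ^ 2) h) : Commute x h := by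
  obtain ⟨m, hm⟩ := hx
  have : x = (x ^ 2) ^ (m + 1) := by
    rw [← pow_mul]
    have : 2 * (m + 1) = orderOf x + 1 := by omega
    rw [this, pow_succ, pow_orderOf_eq_one, one_mul]
  rw [this]
  exact hc.pow_left _

theorem commute_sq_of_conj_inv {g h : G} (hk : g * h * g⁻¹ = h⁻¹) : Commute (g ^ 2) h := by
  have h1 : g * h = h⁻¹ * g := by rw [← hk]; group
  have h2 : g * h⁻¹ = h * g := by
    have := congrArg (fun z => h * z * h⁻¹) h1
    simp only [mul_assoc, mul_inv_cancel, mul_one] at this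
    rw [← mul_assoc, mul_inv_cancel, one_mul] at this
    exact this.symm
  show g ^ 2 * h = h * g ^ 2
  rw [pow_two, mul_assoc, h1, ← mul_assoc, h2, mul_assoc]

end grp

theorem tr_ne_neg_two (hp2 : p ≠ 2) {x : SL2} (hx : Odd (orderOf x)) : tr x ≠ -2 := by
  intro h
  have h2 := two_ne_zero' (F := F) p Fact.out hp2
  have h1 : tr (x ^ 2) = 2 := by rw [tr_sq, h]; ring
  have h3 := pow_eq_one_of_tr p h1
  rw [← pow_mul] at h3
  have h4 := tr_of_pow_eq_one p (pow_eq_one_of_two_mul hx h3)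
  rw [h] at h4
  apply h2
  have : (2 : F) * 2 = 0 := by linear_combination -h4
  rcases mul_eq_zero.1 this with h | h <;> exact h

theorem ns_of_ne_one (hp2 : p ≠ 2) {x : SL2} (hx : Odd (orderOf x)) (h1 : x ≠ 1) : NS x := by
  by_contra hns
  unfold NS at hns
  simp only [not_or, not_not] at hns
  obtain ⟨h01, h10, h00⟩ := hns
  have dx := det_eq x
  rw [h01, h10, ← h00] at dx
  have : (x 0 0 - 1) * (x 0 0 + 1) = 0 := by linear_combination dx
  rcases mul_eq_zero.1 this with h | h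
  · apply h1
    apply ext4
    · simpa using sub_eq_zero.1 h
    · simpa using h01
    · simpa using h10
    · rw [← h00]; simpa using sub_eq_zero.1 h
  · apply tr_ne_neg_two p hp2 hx
    unfold tr
    rw [← h00]
    linear_combination 2 * h

theorem commute_unip_iff {u : SL2} (h00 : u 0 0 = 1) (h01 : u 0 1 ≠ 0) (h10 : u 1 0 = 0)
    (h11 : u 1 1 = 1) (x : SL2) : Commute x u ↔ x 1 0 = 0 ∧ x 0 0 = x 1 1 := by
  rw [commute_iff, h00, h10, h11]
  constructor
  · rintro ⟨a1, a2, -⟩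
    constructor
    · have : u 0 1 * x 1 0 = 0 := by linear_combination -a1
      exact (mul_eq_zero.1 this).resolve_left h01
    · have : u 0 1 * (x 0 0 - x 1 1) = 0 := by linear_combination a2
      exact sub_eq_zero.1 ((mul_eq_zero.1 this).resolve_left h01)
  · rintro ⟨a1, a2⟩
    rw [a1, a2]
    refine ⟨by ring, by ring, by ring⟩

theorem conj_commute_unip_iff {u : SL2} (h00 : u 0 0 = 1) (h01 : u 0 1 ≠ 0) (h10 : u 1 0 = 0)
    (h11 : u 1 1 = 1) (g : SL2) : Commute (g * u * g⁻¹) u ↔ g 1 0 = 0 := by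
  rw [commute_unip_iff h00 h01 h10 h11]
  simp only [mul_00, mul_01, mul_10, mul_11, inv_00, inv_01, inv_10, inv_11, h00, h10, h11]
  constructor
  · rintro ⟨a1, -⟩
    have : u 0 1 * (g 1 0) ^ 2 = 0 := by linear_combination -a1
    exact pow_eq_zero_iff (two_ne_zero) |>.1 ((mul_eq_zero.1 this).resolve_left h01)
  · intro a
    rw [a]
    refine ⟨by ring, by ring⟩

theorem main (hp2 : p ≠ 2) (L : Subgroup SL2) [Finite L] (hodd : Odd (Nat.card L))
    (u : SL2) (huL : u ∈ L) (h00 : u 0 0 = 1) (h01 : u 0 1 ≠ 0) (h10 : u 1 0 = 0)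
    (h11 : u 1 1 = 1) : ∀ g ∈ L, g 1 0 = 0 := by
  classical
  have := Fintype.ofFinite L
  have h2 := two_ne_zero' (F := F) p Fact.out hp2
  have hO : ∀ x : L, Odd (orderOf (x : SL2)) := fun x => odd_orderOf L hodd x.2
  have hNS : ∀ x : L, x ≠ 1 → NS (x : SL2) := fun x hx =>
    ns_of_ne_one p hp2 (hO x) (fun h => hx (Subtype.ext h))
  have up : ∀ {a b : L}, Commute (a : SL2) b → Commute a b := fun h => Subtype.ext h
  have dn : ∀ {a b : L}, Commute a b → Commute (a : SL2) b := fun h => congrArg Subtype.val h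
  have hpow : ∀ (x : L), x ^ p = 1 ↔ tr (x : SL2) = 2 := by
    intro x
    constructor
    · intro h
      apply tr_of_pow_eq_one p
      have := congrArg Subtype.val h
      simpa using this
    · intro h
      apply Subtype.ext
      simpa using pow_eq_one_of_tr p h
  have hu1 : (⟨u, huL⟩ : L) ≠ 1 := by
    intro h
    have : u = 1 := congrArg Subtype.val h
    apply h01
    rw [this]; simp
  have htru : tr u = 2 := by unfold tr; rw [h00, h11]; ring
  have htr4 : ∀ x : L, tr (x : SL2) ^ 2 = 4 → tr (x : SL2) = 2 := by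
    intro x hx
    have : (tr (x : SL2) - 2) * (tr (x : SL2) + 2) = 0 := by linear_combination hx
    rcases mul_eq_zero.1 this with h | h
    · exact sub_eq_zero.1 h
    · exact absurd (by linear_combination h) (tr_ne_neg_two p hp2 (hO x))
  have key := Cfsg.Agent.Lib.Helper31CACount.normal_of_count (L := L)
    (fun x y z hy h1 h2 => up (commute_trans (hNS y hy) (dn h1) (dn h2))) p hu1 ?_ ?_ ?_
  · intro g hg
    have := dn (key ⟨g, hg⟩)
    exact (conj_commute_unip_iff h00 h01 h10 h11 g).1 this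
  · -- hU
    intro x hx
    rw [hpow]
    apply htr4
    exact tr_sq_of_commute (hNS _ hu1) (by show tr u ^ 2 = 4; rw [htru]; ring) (dn hx)
  · -- hSN
    intro h hh g hg
    rw [Ne, hpow] at hh
    have hg' : Commute ((g : SL2) * h * (g : SL2)⁻¹) h := dn hg
    rcases eq_inv_or_tr hg' (tr_conj _ _) with hk | hk
    · apply up
      apply commute_of_sq (hO g)
      exact commute_sq_of_conj_inv hk
    · by_cases hA : (g * h * g⁻¹ * h⁻¹ : L) = 1
      · have : g * h = h * g := by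
          have := mul_inv_eq_one.1 hA
          rw [mul_inv_eq_iff_eq_mul] at this
          exact this
        exact this
      · exfalso
        apply hh
        apply htr4
        have hc : Commute (h : SL2) ((g * h * g⁻¹ * h⁻¹ : L) : SL2) := by
          apply dn
          exact (hg.symm.mul_right (Commute.refl h).inv_right)
        exact tr_sq_of_commute (hNS _ hA) (by
          have : tr (((g * h * g⁻¹ * h⁻¹ : L) : SL2)) = 2 := hk
          rw [this]; ring) hc
  · -- hB
    intro h hh1 hh2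
    have a1 : (h : SL2) 1 0 = 0 := (conj_commute_unip_iff h00 h01 h10 h11 _).1 (dn hh1)
    have a2 : (h : SL2) 0 0 ≠ (h : SL2) 1 1 := by
      intro a2
      exact hh2 (up ((commute_unip_iff h00 h01 h10 h11 _).2 ⟨a1, a2⟩))
    constructor
    · rw [Ne, hpow]
      intro ht
      apply a2
      have dh := det_eq (h : SL2)
      rw [a1] at dh
      unfold tr at ht
      have : ((h : SL2) 0 0 - (h : SL2) 1 1) ^ 2 = 0 := by
        linear_combination (((h : SL2) 0 0 + (h : SL2) 1 1) + 2) * ht - 4 * dh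
      exact sub_eq_zero.1 (pow_eq_zero_iff two_ne_zero |>.1 this)
    · intro g hg
      apply up
      apply (conj_commute_unip_iff h00 h01 h10 h11 _).2
      have := ((commute_iff _ _).1 (dn hg)).2.2
      rw [a1] at this
      have h3 : (g : SL2) 1 0 * ((h : SL2) 0 0 - (h : SL2) 1 1) = 0 := by linear_combination this
      exact (mul_eq_zero.1 h3).resolve_right (sub_ne_zero.2 a2)

end charp

end Cfsg.Agent.Lib.Helper31SL2
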