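import Mathlib
import Cfsg.Agent.S1463

set_option autoImplicit false

namespace Cfsg.Agent.Lib.Helper31Quad
open Polynomial

section core
variable {p : ℕ} [Fact p.Prime] {V : Type*} [AddCommGroup V] [Module (ZMod p) V]

theorem commute_aeval {a s : Module.End (ZMod p) V} (h : Commute a s) (g : (ZMod p)[X]) :
    Commute a (aeval s g) := by
  induction g using Polynomial.induction_on' with
  | add g1 g2 h1 h2 => rw [map_add]; exact h1.add_right h2
  | monomial n c =>
    rw [aeval_monomial]
    exact (Algebra.commute_algebraMap_right c a).mul_right (h.pow_right n)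

@[reducible] noncomputable def modR (s : Module.End (ZMod p) V) : Module (ZMod p)[X] V :=
  Module.compHom V (aeval s : (ZMod p)[X] →ₐ[ZMod p] Module.End (ZMod p) V).toRingHom

noncomputable def E (s : Module.End (ZMod p) V) (f : (ZMod p)[X]) (w : V) (hw : aeval s f w = 0) :
    AdjoinRoot f →+ V :=
  letI := modR s
  (Submodule.liftQ (Ideal.span {f}) (LinearMap.toSpanSingleton (ZMod p)[X] V w) (by
    rw [Ideal.span, Submodule.span_le, Set.singleton_subset_iff]
    exact hw)).toAddMonoidHom

theorem E_mk (s : Module.End (ZMod p) V) (f : (ZMod p)[X]) (w : V) (hw : aeval s f w = 0)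
    (g : (ZMod p)[X]) : E s f w hw (AdjoinRoot.mk f g) = aeval s g w := rfl

theorem exists_irreducible_ker [Finite V] [Nontrivial V] (s : Module.End (ZMod p) V) :
    ∃ f : (ZMod p)[X], Irreducible f ∧ ∃ v : V, v ≠ 0 ∧ aeval s f v = 0 := by
  have hint : IsIntegral (ZMod p) s := Algebra.IsIntegral.isIntegral s
  obtain ⟨f, hf, h, hμ⟩ := WfDvdMonoid.exists_irreducible_factor (minpoly.not_isUnit (ZMod p) s)
    (minpoly.ne_zero hint)
  refine ⟨f, hf, ?_⟩
  have hh : aeval s h ≠ 0 := by
    intro h0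
    have h1 := minpoly.dvd (ZMod p) s h0
    have hne : h ≠ 0 := by
      rintro rfl
      exact minpoly.ne_zero hint (by rw [hμ, mul_zero])
    rw [hμ] at h1
    have h2 : f * h ∣ 1 * h := by rwa [one_mul]
    have h3 := (mul_dvd_mul_iff_right hne).1 h2
    exact hf.not_isUnit (isUnit_of_dvd_one h3)
  obtain ⟨w, hw⟩ : ∃ w, aeval s h w ≠ 0 := by
    by_contra hcon
    apply hh
    ext w
    by_contra hw
    exact hcon ⟨w, hw⟩
  refine ⟨aeval s h w, hw, ?_⟩
  rw [← Module.End.mul_apply, ← map_mul, ← hμ, minpoly.aeval]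
  rfl

theorem core [Finite V] [Nontrivial V] (a b : Module.End (ZMod p) V) (ha : a * a = 0)
    (hb : b * b = 0) :
    (∃ v : V, v ≠ 0 ∧ a v = 0 ∧ b v = 0) ∨
    ∃ (F : Type) (_ : Field F) (_ : CharP F p) (l : F) (Φ : (Fin 2 → F) →+ V), l ≠ 0 ∧
      Function.Injective Φ ∧ (∀ c, a (Φ c) = Φ ![l * c 1, 0]) ∧ (∀ c, b (Φ c) = Φ ![0, c 0]) := by
  have haa : ∀ w, a (a w) = 0 := fun w => by rw [← Module.End.mul_apply, ha]; rfl
  have hbb : ∀ w, b (b w) = 0 := fun w => by rw [← Module.End.mul_apply, hb]; rfl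
  set s := a * b + b * a with hs
  have has : Commute a s := by
    show a * s = s * a
    rw [hs, mul_add, add_mul, ← mul_assoc, ha, zero_mul, zero_add, mul_assoc b a a, ha, mul_zero,
      add_zero, mul_assoc]
  have hbs : Commute b s := by
    show b * s = s * b
    rw [hs, mul_add, add_mul, ← mul_assoc b b a, hb, zero_mul, add_zero, mul_assoc a b b, hb,
      mul_zero, zero_add, mul_assoc]
  have hca : ∀ g w, a (aeval s g w) = aeval s g (a w) := fun g w => by
    have := (commute_aeval has g).eq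
    exact congrArg (fun T : Module.End (ZMod p) V => T w) this
  have hcb : ∀ g w, b (aeval s g w) = aeval s g (b w) := fun g w => by
    have := (commute_aeval hbs g).eq
    exact congrArg (fun T : Module.End (ZMod p) V => T w) this
  have hcs : ∀ g w, s (aeval s g w) = aeval s g (s w) := fun g w => by
    have := (commute_aeval (Commute.refl s) g).eq
    exact congrArg (fun T : Module.End (ZMod p) V => T w) this
  obtain ⟨f, hf, v₀, hv₀, hfv₀⟩ := exists_irreducible_ker s
  obtain ⟨v, hv, hfv, hav⟩ : ∃ v, v ≠ 0 ∧ aeval s f v = 0 ∧ a v = 0 := by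
    by_cases h : a v₀ = 0
    · exact ⟨v₀, hv₀, hfv₀, h⟩
    · exact ⟨a v₀, h, by rw [← hca, hfv₀, map_zero], haa v₀⟩
  have hsv' : s v = a (b v) := by
    rw [hs, LinearMap.add_apply, Module.End.mul_apply, Module.End.mul_apply, hav, map_zero, add_zero]
  by_cases hsv : s v = 0
  · left
    by_cases hbv : b v = 0
    · exact ⟨v, hv, hav, hbv⟩
    · exact ⟨b v, hbv, by rw [← hsv', hsv], hbb v⟩
  · right
    have : Fact (Irreducible f) := ⟨hf⟩
    have hfbv : aeval s f (b v) = 0 := by rw [← hcb, hfv, map_zero]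
    have P1 : ∀ c, a (E s f v hfv c) = 0 := by
      intro c
      induction c using AdjoinRoot.induction_on with
      | ih g => rw [E_mk, hca, hav, map_zero]
    have P2 : ∀ c, b (E s f v hfv c) = E s f (b v) hfbv c := by
      intro c
      induction c using AdjoinRoot.induction_on with
      | ih g => rw [E_mk, E_mk, hcb]
    have P3 : ∀ c, a (E s f (b v) hfbv c) = E s f v hfv (AdjoinRoot.root f * c) := by
      intro c
      induction c using AdjoinRoot.induction_on with
      | ih g =>
        rw [E_mk, hca, ← hsv', ← AdjoinRoot.mk_X, ← map_mul, E_mk, map_mul, aeval_X,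
          Module.End.mul_apply, hcs]
    have P4 : ∀ c, b (E s f (b v) hfbv c) = 0 := by
      intro c
      induction c using AdjoinRoot.induction_on with
      | ih g => rw [E_mk, hcb, hbb, map_zero]
    have hinj : ∀ c, E s f v hfv c = 0 → c = 0 := by
      intro c hc
      by_contra hc0
      apply hv
      obtain ⟨g, rfl⟩ := AdjoinRoot.mk_surjective c
      obtain ⟨g', hg'⟩ := AdjoinRoot.mk_surjective (AdjoinRoot.mk f g)⁻¹
      have h1 : AdjoinRoot.mk f (g' * g) = AdjoinRoot.mk f 1 := by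
        rw [map_mul, hg', inv_mul_cancel₀ hc0, map_one]
      have h2 := congrArg (E s f v hfv) h1
      rw [E_mk, E_mk, map_mul, Module.End.mul_apply] at h2
      rw [E_mk] at hc
      rw [hc, map_zero, map_one] at h2
      exact h2.symm
    have hl : AdjoinRoot.root f ≠ 0 := by
      intro h0
      apply hsv
      have := E_mk s f v hfv X
      rw [AdjoinRoot.mk_X, h0, map_zero, aeval_X] at this
      exact this.symm
    refine ⟨AdjoinRoot f, inferInstance,
      charP_of_injective_algebraMap (algebraMap (ZMod p) (AdjoinRoot f)).injective p,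
      AdjoinRoot.root f,
      (E s f v hfv).comp (Pi.evalAddMonoidHom _ 0) + (E s f (b v) hfbv).comp (Pi.evalAddMonoidHom _ 1),
      hl, ?_, ?_, ?_⟩
    · rw [injective_iff_map_eq_zero]
      intro c hc
      simp only [AddMonoidHom.add_apply, AddMonoidHom.comp_apply, Pi.evalAddMonoidHom_apply] at hc
      have h1 := congrArg a hc
      rw [map_add, P1, P3, zero_add, map_zero] at h1
      have h2 := (mul_eq_zero.1 (hinj _ h1)).resolve_left hl
      rw [h2, map_zero, add_zero] at hc
      have h3 := hinj _ hc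
      ext i
      fin_cases i
      · exact h3
      · exact h2
    · intro c
      simp only [AddMonoidHom.add_apply, AddMonoidHom.comp_apply, Pi.evalAddMonoidHom_apply]
      rw [map_add, P1, P3]
      simp
    · intro c
      simp only [AddMonoidHom.add_apply, AddMonoidHom.comp_apply, Pi.evalAddMonoidHom_apply]
      rw [map_add, P2, P4]
      simp

end core

open Matrix in
theorem no_odd_pair {K V F : Type*} [Group K] [Finite K] (hodd : Odd (Nat.card K)) (p : ℕ)
    [Fact p.Prime] (hp2 : p ≠ 2) [AddCommGroup V] [Field F] [CharP F p]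
    (ρ : K →* AddMonoid.End V) (x y : K) (l : F) (hl : l ≠ 0) (Φ : (Fin 2 → F) →+ V)
    (hΦ : Function.Injective Φ)
    (hx : ∀ c, ρ x (Φ c) = Φ ![c 0 + l * c 1, c 1]) (hy : ∀ c, ρ y (Φ c) = Φ ![c 0, c 0 + c 1]) :
    False := by
  let XX : GL (Fin 2) F := Matrix.GeneralLinearGroup.mkOfDetNeZero !![1, l; 0, 1]
    (by rw [Matrix.det_fin_two_of]; simp)
  let YY : GL (Fin 2) F := Matrix.GeneralLinearGroup.mkOfDetNeZero !![1, 0; 1, 1]
    (by rw [Matrix.det_fin_two_of]; simp)
  have hXX : ∀ c : Fin 2 → F, (XX : Matrix (Fin 2) (Fin 2) F) *ᵥ c = ![c 0 + l * c 1, c 1] := by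
    intro c
    ext i
    fin_cases i <;> simp [XX, Matrix.GeneralLinearGroup.mkOfDetNeZero, Matrix.mulVec, dotProduct,
      Fin.sum_univ_two]
  have hYY : ∀ c : Fin 2 → F, (YY : Matrix (Fin 2) (Fin 2) F) *ᵥ c = ![c 0, c 0 + c 1] := by
    intro c
    ext i
    fin_cases i <;> simp [YY, Matrix.GeneralLinearGroup.mkOfDetNeZero, Matrix.mulVec, dotProduct,
      Fin.sum_univ_two]
  let 𝒢 : Subgroup (K × GL (Fin 2) F) :=
    { carrier := {kM | ∀ c, ρ kM.1 (Φ c) = Φ ((kM.2 : Matrix (Fin 2) (Fin 2) F) *ᵥ c)}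
      one_mem' := by
        intro c
        simp
      mul_mem' := by
        intro a b ha hb c
        simp only [Prod.fst_mul, Prod.snd_mul, map_mul, Units.val_mul]
        rw [AddMonoid.End.coe_mul, Function.comp_apply, hb c, ha, Matrix.mulVec_mulVec]
      inv_mem' := by
        intro a ha c
        have h1 := ha (((a.2⁻¹ : GL (Fin 2) F) : Matrix (Fin 2) (Fin 2) F) *ᵥ c)
        rw [Matrix.mulVec_mulVec, ← Units.val_mul, mul_inv_cancel, Units.val_one,
          Matrix.one_mulVec] at h1
        simp only [Prod.fst_inv, Prod.snd_inv]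
        rw [← h1, ← Function.comp_apply (f := ρ a.1⁻¹), ← AddMonoid.End.coe_mul, ← map_mul,
          inv_mul_cancel, map_one]
        rfl }
  have hmem : ∀ kM : K × GL (Fin 2) F, kM ∈ 𝒢 ↔
      ∀ c, ρ kM.1 (Φ c) = Φ ((kM.2 : Matrix (Fin 2) (Fin 2) F) *ᵥ c) := fun _ => Iff.rfl
  have hxG : (x, XX) ∈ 𝒢 := by
    rw [hmem]; intro c; rw [hXX]; exact hx c
  have hyG : (y, YY) ∈ 𝒢 := by
    rw [hmem]; intro c; rw [hYY]; exact hy c
  let π₁ : 𝒢 →* K := (MonoidHom.fst K (GL (Fin 2) F)).comp 𝒢.subtype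
  let π₂ : 𝒢 →* GL (Fin 2) F := (MonoidHom.snd K (GL (Fin 2) F)).comp 𝒢.subtype
  have hπ₁ : Function.Injective π₁ := by
    rintro ⟨⟨k, M⟩, hM⟩ ⟨⟨k', M'⟩, hM'⟩ h
    have hk : k = k' := h
    subst hk
    have : M = M' := by
      apply Units.ext
      apply Matrix.ext_of_mulVec_single
      intro i
      apply hΦ
      rw [← (hmem _).1 hM, ← (hmem _).1 hM']
    subst this
    rfl
  have hfin : Finite 𝒢 := Finite.of_injective π₁ hπ₁
  have hGodd : Odd (Nat.card 𝒢) := Odd.of_dvd_nat hodd (Subgroup.card_dvd_of_injective π₁ hπ₁)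
  have hfin2 : Finite π₂.range := Finite.of_surjective π₂.rangeRestrict π₂.rangeRestrict_surjective
  have hHodd : Odd (Nat.card π₂.range) := Odd.of_dvd_nat hGodd (Subgroup.card_range_dvd π₂)
  have hXr : XX ∈ π₂.range := ⟨⟨(x, XX), hxG⟩, rfl⟩
  have hYr : YY ∈ π₂.range := ⟨⟨(y, YY), hyG⟩, rfl⟩
  apply Cfsg.Agent.S1463.result p hp2 π₂.range hHodd
  · intro v hv
    by_cases hv1 : v 1 = 0
    · refine ⟨YY, hYr, ?_⟩
      rw [hYY, Submodule.mem_span_singleton]
      rintro ⟨t, ht⟩
      apply hv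
      have h1 := congrFun ht 1
      simp [hv1] at h1
      ext i
      fin_cases i
      · exact h1.symm
      · exact hv1
    · refine ⟨XX, hXr, ?_⟩
      rw [hXX, Submodule.mem_span_singleton]
      rintro ⟨t, ht⟩
      have h1 := congrFun ht 1
      have h0 := congrFun ht 0
      simp only [Pi.smul_apply, smul_eq_mul, Matrix.cons_val_zero, Matrix.cons_val_one,
        Fin.isValue] at h0 h1
      have ht1 : t = 1 := by
        have : (t - 1) * v 1 = 0 := by linear_combination h1
        exact sub_eq_zero.1 ((mul_eq_zero.1 this).resolve_right hv1)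
      rw [ht1, one_mul] at h0
      have : l * v 1 = 0 := by linear_combination -h0
      rcases mul_eq_zero.1 this with h | h
      · exact hl h
      · exact hv1 h
  · have hpow : ∀ n : ℕ, ((XX ^ n : GL (Fin 2) F) : Matrix (Fin 2) (Fin 2) F) = !![1, n * l; 0, 1] := by
      intro n
      induction n with
      | zero => simp [Matrix.one_fin_two]
      | succ n ih =>
        rw [pow_succ, Units.val_mul, ih]
        simp [XX, Matrix.GeneralLinearGroup.mkOfDetNeZero]
        ring
    have hXp : XX ^ p = 1 := by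
      apply Units.ext
      rw [hpow, CharP.cast_eq_zero]
      simp [Matrix.one_fin_two]
    have hX1 : XX ≠ 1 := by
      intro h
      have := congrArg (fun M : GL (Fin 2) F => (M : Matrix (Fin 2) (Fin 2) F) 0 1) h
      simp [XX, Matrix.GeneralLinearGroup.mkOfDetNeZero] at this
      exact hl this
    have ho : orderOf XX = p := orderOf_eq_prime hXp hX1
    have h1 : orderOf (⟨XX, hXr⟩ : π₂.range) ∣ Nat.card π₂.range := orderOf_dvd_natCard _
    rw [Subgroup.orderOf_mk, ho] at h1
    exact h1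

theorem exists_fixed_aux {K V : Type*} [Group K] [Finite K] (hodd : Odd (Nat.card K)) (p : ℕ)
    [Fact p.Prime] (hp2 : p ≠ 2) [AddCommGroup V] [Finite V] [Nontrivial V]
    [Module (ZMod p) V] (ρ : K →* AddMonoid.End V) (x y : K)
    (hx : ∀ v, ρ x (ρ x v) + v = ρ x v + ρ x v) (hy : ∀ v, ρ y (ρ y v) + v = ρ y v + ρ y v) :
    ∃ v : V, v ≠ 0 ∧ ρ x v = v ∧ ρ y v = v := by
  let a : Module.End (ZMod p) V :=
    (AddMonoidHom.toZModLinearMap p (ρ x) : Module.End (ZMod p) V) - (1 : Module.End (ZMod p) V)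
  let b : Module.End (ZMod p) V :=
    (AddMonoidHom.toZModLinearMap p (ρ y) : Module.End (ZMod p) V) - (1 : Module.End (ZMod p) V)
  have ha' : ∀ w, a w = ρ x w - w := fun w => rfl
  have hb' : ∀ w, b w = ρ y w - w := fun w => rfl
  have ha : a * a = 0 := by
    ext w
    rw [Module.End.mul_apply, ha', ha', map_sub, LinearMap.zero_apply]
    have := hx w
    have e : (ρ x) ((ρ x) w) - (ρ x) w - ((ρ x) w - w)
        = ((ρ x) ((ρ x) w) + w) - ((ρ x) w + (ρ x) w) := by abel
    rw [e, this, sub_self]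
  have hb : b * b = 0 := by
    ext w
    rw [Module.End.mul_apply, hb', hb', map_sub, LinearMap.zero_apply]
    have := hy w
    have e : (ρ y) ((ρ y) w) - (ρ y) w - ((ρ y) w - w)
        = ((ρ y) ((ρ y) w) + w) - ((ρ y) w + (ρ y) w) := by abel
    rw [e, this, sub_self]
  rcases core a b ha hb with ⟨v, hv, hav, hbv⟩ | ⟨F, _, _, l, Φ, hl, hΦ, hΦa, hΦb⟩
  · exact ⟨v, hv, sub_eq_zero.1 hav, sub_eq_zero.1 hbv⟩
  · exfalso
    apply no_odd_pair hodd p hp2 ρ x y l hl Φ hΦ
    · intro c
      have h1 := hΦa c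
      rw [ha', sub_eq_iff_eq_add, ← map_add] at h1
      rw [h1]
      congr 1
      ext i
      fin_cases i <;> simp [add_comm]
    · intro c
      have h1 := hΦb c
      rw [hb', sub_eq_iff_eq_add, ← map_add] at h1
      rw [h1]
      congr 1
      ext i
      fin_cases i <;> simp

/-- Two elements of a group of odd order acting quadratically on a nontrivial finite elementary
abelian `p`-group (`p` odd) have a common nonzero fixed point. -/
theorem exists_fixed {K V : Type*} [Group K] [Finite K] (hodd : Odd (Nat.card K)) (p : ℕ)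
    [Fact p.Prime] (hp2 : p ≠ 2) [AddCommGroup V] [Finite V] [Nontrivial V]
    (hV : ∀ v : V, p • v = 0) (ρ : K →* AddMonoid.End V) (x y : K)
    (hx : ∀ v, ρ x (ρ x v) + v = ρ x v + ρ x v) (hy : ∀ v, ρ y (ρ y v) + v = ρ y v + ρ y v) :
    ∃ v : V, v ≠ 0 ∧ ρ x v = v ∧ ρ y v = v :=
  @exists_fixed_aux K V _ _ hodd p _ hp2 _ _ _ (AddCommGroup.zmodModule hV) ρ x y hx hy

end Cfsg.Agent.Lib.Helper31Quad
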