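import Mathlib
import Cfsg.Agent.Lib.Helper31Quad
import Cfsg.Agent.Lib.Helper5BaerSuzuki
import Cfsg.Agent.Lib.Helper1Fitting

set_option autoImplicit false

namespace Cfsg.Agent.Lib.Helper31PStable
open scoped commutatorElement

theorem exists_fixed_mul {G W : Type*} [Group G] [Finite G] (hodd : Odd (Nat.card G)) (p : ℕ)
    [Fact p.Prime] (hp2 : p ≠ 2) [CommGroup W] [Finite W] [Nontrivial W]
    (hWp : ∀ w : W, w ^ p = 1) (φ : G →* MulAut W) (x y : G)
    (hx : ∀ w, φ x (φ x w) * w = φ x w * φ x w) (hy : ∀ w, φ y (φ y w) * w = φ y w * φ y w) :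
    ∃ w : W, w ≠ 1 ∧ φ x w = w ∧ φ y w = w := by
  let ρ : G →* AddMonoid.End (Additive W) :=
    { toFun := fun g => MonoidHom.toAdditive (φ g).toMonoidHom
      map_one' := by
        ext w
        rw [map_one]
        rfl
      map_mul' := by
        intro a b
        ext w
        rw [map_mul]
        rfl }
  obtain ⟨v, hv, h1, h2⟩ := Cfsg.Agent.Lib.Helper31Quad.exists_fixed hodd p hp2
    (V := Additive W) (fun v => hWp v.toMul) ρ x y (fun v => hx v.toMul) (fun v => hy v.toMul)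
  exact ⟨v.toMul, hv, h1, h2⟩

theorem comm_aux {W : Type*} [CommGroup W] {a b c : W} (h : a * b⁻¹ * c * b⁻¹ = 1) :
    c * a = b * b := by
  have h1 : a * b⁻¹ * c * b⁻¹ * (b * b) = b * b := by rw [h, one_mul]
  rw [← h1]
  have : a * b⁻¹ * c * b⁻¹ * (b * b) = a * b⁻¹ * (c * b) := by group
  rw [this, mul_comm c b, ← mul_assoc, inv_mul_cancel_right, mul_comm]

theorem exists_commuting {G : Type*} [Group G] [Finite G] (hodd : Odd (Nat.card G)) (p : ℕ)
    [Fact p.Prime] (hp2 : p ≠ 2) (W : Subgroup G) [W.Normal]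
    (hWc : ∀ a ∈ W, ∀ b ∈ W, a * b = b * a) (hWp : ∀ a ∈ W, a ^ p = 1) (hW1 : W ≠ ⊥)
    (x y : G) (hx : ∀ w ∈ W, ⁅⁅w, x⁆, x⁆ = 1) (hy : ∀ w ∈ W, ⁅⁅w, y⁆, y⁆ = 1) :
    ∃ z ∈ W, z ≠ 1 ∧ x * z = z * x ∧ y * z = z * y := by
  let inst : CommGroup W :=
    { (inferInstance : Group W) with mul_comm := fun a b => Subtype.ext (hWc a a.2 b b.2) }
  have hnt : Nontrivial W := (Subgroup.nontrivial_iff_ne_bot W).2 hW1
  have key : ∀ t : G, (∀ w ∈ W, ⁅⁅w, t⁆, t⁆ = 1) → ∀ w : W,
      MulAut.conjNormal t (MulAut.conjNormal t w) * w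
        = MulAut.conjNormal t w * MulAut.conjNormal t w := by
    intro t ht w
    apply @comm_aux W inst
    apply Subtype.ext
    have := ht w w.2
    simp only [Subgroup.coe_mul, Subgroup.coe_inv, MulAut.conjNormal_apply, Subgroup.coe_one]
    rw [← this]
    simp only [commutatorElement_def]
    group
  obtain ⟨z, hz, h1, h2⟩ := @exists_fixed_mul G W _ _ hodd p _ hp2 inst _ hnt
    (fun w => Subtype.ext (by simpa using hWp w w.2)) MulAut.conjNormal x y (key x hx) (key y hy)
  refine ⟨z, z.2, fun h => hz (Subtype.ext h), ?_, ?_⟩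
  · have := congrArg Subtype.val h1
    rw [MulAut.conjNormal_apply] at this
    rw [mul_inv_eq_iff_eq_mul] at this
    exact this
  · have := congrArg Subtype.val h2
    rw [MulAut.conjNormal_apply] at this
    rw [mul_inv_eq_iff_eq_mul] at this
    exact this

/-- `Ω₁(Z(P))` as a subgroup of the ambient group. -/
def omegaZ {G : Type*} [Group G] (p : ℕ) (P : Subgroup G) : Subgroup G where
  carrier := {z | z ∈ P ∧ (∀ u ∈ P, z * u = u * z) ∧ z ^ p = 1}
  one_mem' := ⟨P.one_mem, fun u _ => by simp, one_pow p⟩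
  mul_mem' := by
    rintro a b ⟨ha, hac, hap⟩ ⟨hb, hbc, hbp⟩
    refine ⟨P.mul_mem ha hb, fun u hu => ?_, ?_⟩
    · rw [mul_assoc, hbc u hu, ← mul_assoc, hac u hu, mul_assoc]
    · have : Commute a b := hac b hb
      rw [this.mul_pow, hap, hbp, one_mul]
  inv_mem' := by
    rintro a ⟨ha, hac, hap⟩
    refine ⟨P.inv_mem ha, fun u hu => ?_, by rw [inv_pow, hap, inv_one]⟩
    have : Commute a u := hac u hu
    exact this.inv_left.eq

theorem mem_omegaZ {G : Type*} [Group G] {p : ℕ} {P : Subgroup G} {z : G} :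
    z ∈ omegaZ p P ↔ z ∈ P ∧ (∀ u ∈ P, z * u = u * z) ∧ z ^ p = 1 := Iff.rfl

theorem omegaZ_normal {G : Type*} [Group G] (p : ℕ) (P : Subgroup G) [hP : P.Normal] :
    (omegaZ p P).Normal := by
  constructor
  rintro z ⟨hz, hzc, hzp⟩ g
  refine ⟨hP.conj_mem z hz g, fun u hu => ?_, by rw [conj_pow, hzp]; group⟩
  have h1 : g⁻¹ * u * g ∈ P := by
    have := hP.conj_mem u hu g⁻¹
    rwa [inv_inv] at this
  have h2 := hzc _ h1
  calc g * z * g⁻¹ * u = g * (z * (g⁻¹ * u * g)) * g⁻¹ := by group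
    _ = g * ((g⁻¹ * u * g) * z) * g⁻¹ := by rw [h2]
    _ = u * (g * z * g⁻¹) := by group

theorem omegaZ_ne_bot {G : Type*} [Group G] [Finite G] (p : ℕ) [Fact p.Prime] (P : Subgroup G)
    (hP : IsPGroup p P) (hP1 : P ≠ ⊥) : omegaZ p P ≠ ⊥ := by
  have hnt : Nontrivial P := (Subgroup.nontrivial_iff_ne_bot P).2 hP1
  have hnt2 : Nontrivial (Subgroup.center P) := hP.center_nontrivial
  have hpc : IsPGroup p (Subgroup.center P) := hP.to_subgroup _
  have hdvd : p ∣ Nat.card (Subgroup.center P) := by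
    rcases hpc.card_eq_or_dvd with h | h
    · exfalso
      have := Finite.one_lt_card (α := Subgroup.center P)
      omega
    · exact h
  obtain ⟨z, hz⟩ := exists_prime_orderOf_dvd_card' p hdvd
  intro hbot
  have hmem : ((z : P) : G) ∈ omegaZ p P := by
    refine ⟨(z : P).2, fun u hu => ?_, ?_⟩
    · have := Subgroup.mem_center_iff.1 z.2 ⟨u, hu⟩
      exact (congrArg Subtype.val this).symm
    · have : z ^ p = 1 := by rw [← hz]; exact pow_orderOf_eq_one z
      have := congrArg (fun t : Subgroup.center P => ((t : P) : G)) this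
      simpa using this
  rw [hbot, Subgroup.mem_bot] at hmem
  have : z = 1 := Subtype.ext (Subtype.ext hmem)
  rw [this, orderOf_one] at hz
  exact (Fact.out : p.Prime).one_lt.ne hz

universe u

theorem QP_aux (p : ℕ) [Fact p.Prime] (hp2 : p ≠ 2) : ∀ (n : ℕ) (G : Type u) [Group G] [Finite G],
    Nat.card G ≤ n → Odd (Nat.card G) → ∀ (P : Subgroup G), P.Normal → IsPGroup p P →
    ∀ x y : G, P ⊔ Subgroup.closure {x, y} = ⊤ →
    (∀ u ∈ P, ⁅⁅u, x⁆, x⁆ = 1) → (∀ u ∈ P, ⁅⁅u, y⁆, y⁆ = 1) →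
    ∀ k : G, (orderOf k).Coprime p → ∀ u ∈ P, k * u = u * k := by
  intro n
  induction n with
  | zero =>
    intro G _ _ hn
    have : 0 < Nat.card G := Nat.card_pos
    omega
  | succ n ih =>
    intro G _ _ hn hodd P hPn hP x y hgen hx hy k hk u hu
    by_cases hP1 : P = ⊥
    · rw [hP1, Subgroup.mem_bot] at hu
      rw [hu]; simp
    have hWn := omegaZ_normal p P
    obtain ⟨z, hzW, hz1, hzx, hzy⟩ := exists_commuting hodd p hp2 (omegaZ p P)
      (fun a ha b hb => ha.2.1 b hb.1) (fun a ha => ha.2.2) (omegaZ_ne_bot p P hP hP1) x y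
      (fun w hw => hx w hw.1) (fun w hw => hy w hw.1)
    have hzc : ∀ g : G, g * z = z * g := by
      have : (⊤ : Subgroup G) ≤ Subgroup.centralizer {z} := by
        rw [← hgen, sup_le_iff, Subgroup.closure_le]
        constructor
        · intro v hv
          rw [Subgroup.mem_centralizer_singleton_iff]
          exact (hzW.2.1 v hv).symm
        · rintro g (rfl | hg)
          · exact Subgroup.mem_centralizer_singleton_iff.2 hzx
          · rw [Set.mem_singleton_iff] at hg
            subst hg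
            exact Subgroup.mem_centralizer_singleton_iff.2 hzy
      intro g
      exact Subgroup.mem_centralizer_singleton_iff.1 (this (Subgroup.mem_top g))
    have hZc : ∀ c ∈ Subgroup.zpowers z, ∀ g : G, g * c = c * g := by
      intro c hc g
      obtain ⟨i, rfl⟩ := Subgroup.mem_zpowers_iff.1 hc
      have : Commute g z := hzc g
      exact (this.zpow_right i).eq
    have hZn : (Subgroup.zpowers z).Normal := by
      constructor
      intro c hc g
      rw [hZc c hc g, mul_inv_cancel_right]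
      exact hc
    have hZp : ∀ c ∈ Subgroup.zpowers z, c ^ p = 1 := by
      intro c hc
      obtain ⟨i, rfl⟩ := Subgroup.mem_zpowers_iff.1 hc
      rw [← zpow_natCast, ← zpow_mul, mul_comm, zpow_mul, zpow_natCast, hzW.2.2, one_zpow]
    have hcard := Subgroup.card_eq_card_quotient_mul_card_subgroup (Subgroup.zpowers z)
    have hZ2 : 2 ≤ Nat.card (Subgroup.zpowers z) := by
      apply (Subgroup.one_lt_card_iff_ne_bot _).2
      intro h
      exact hz1 (Subgroup.zpowers_eq_bot.1 h)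
    have hqpos : 0 < Nat.card (G ⧸ Subgroup.zpowers z) := Nat.card_pos
    have hlt : Nat.card (G ⧸ Subgroup.zpowers z) ≤ n := by
      have : Nat.card (G ⧸ Subgroup.zpowers z) * 2 ≤ Nat.card G := by
        rw [hcard]; exact Nat.mul_le_mul_left _ hZ2
      omega
    have hoddq : Odd (Nat.card (G ⧸ Subgroup.zpowers z)) :=
      Odd.of_dvd_nat hodd ⟨_, hcard⟩
    have hsurj := QuotientGroup.mk'_surjective (Subgroup.zpowers z)
    have hih := ih (G ⧸ Subgroup.zpowers z) hlt hoddq (P.map (QuotientGroup.mk' _))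
      (hPn.map _ hsurj) (hP.map _) (QuotientGroup.mk' _ x) (QuotientGroup.mk' _ y) ?_ ?_ ?_
      (QuotientGroup.mk' _ k) (Nat.Coprime.coprime_dvd_left (orderOf_map_dvd _ k) hk)
      (QuotientGroup.mk' _ u) (Subgroup.mem_map_of_mem _ hu)
    · -- the commutator is central of order dividing p
      set c := k * u * k⁻¹ * u⁻¹ with hc
      have hcZ : c ∈ Subgroup.zpowers z := by
        rw [← QuotientGroup.eq_one_iff, hc]
        have h1 : (QuotientGroup.mk' (Subgroup.zpowers z)) (k * u * k⁻¹ * u⁻¹) = 1 := by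
          rw [map_mul, map_mul, map_mul, hih, map_inv, map_inv]
          group
        exact h1
      have hconj : ∀ m : ℕ, k ^ m * u * (k ^ m)⁻¹ = c ^ m * u := by
        intro m
        induction m with
        | zero => simp
        | succ m ihm =>
          have e1 : k ^ (m + 1) * u * (k ^ (m + 1))⁻¹ = k * (k ^ m * u * (k ^ m)⁻¹) * k⁻¹ := by
            rw [pow_succ']; group
          have hcm : ∀ g : G, g * c ^ m = c ^ m * g := fun g =>
            hZc _ (Subgroup.pow_mem _ hcZ m) g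
          rw [e1, ihm, ← mul_assoc, hcm k, pow_succ, mul_assoc (c ^ m), mul_assoc (c ^ m),
            mul_assoc (c ^ m)]
          congr 1
          rw [hc]; group
      have h1 := hconj (orderOf k)
      rw [pow_orderOf_eq_one] at h1
      have h2 : c ^ orderOf k = 1 := by
        have : c ^ orderOf k * u = 1 * u := by rw [← h1]; group
        exact mul_right_cancel this
      have h3 : c = 1 := by
        have d1 := orderOf_dvd_of_pow_eq_one h2
        have d2 := orderOf_dvd_of_pow_eq_one (hZp c hcZ)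
        have := Nat.dvd_gcd d1 d2
        rw [Nat.Coprime.gcd_eq_one hk] at this
        exact orderOf_eq_one_iff.1 (Nat.dvd_one.1 this)
      rw [hc, mul_inv_eq_one, mul_inv_eq_iff_eq_mul] at h3
      exact h3
    · rw [← Set.image_pair, ← MonoidHom.map_closure, ← Subgroup.map_sup, hgen,
        ← MonoidHom.range_eq_map, MonoidHom.range_eq_top]
      exact hsurj
    · rintro _ ⟨v, hv, rfl⟩
      rw [← map_commutatorElement, ← map_commutatorElement, hx v hv, map_one]
    · rintro _ ⟨v, hv, rfl⟩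
      rw [← map_commutatorElement, ← map_commutatorElement, hy v hv, map_one]

/-- In a group of odd order, `p` odd: if `x, y` normalize the `p`-subgroup `P` and act quadratically
on it, then every `p'`-element of `⟨x, y⟩` centralizes `P`. -/
theorem quad_pair {G : Type*} [Group G] [Finite G] (hodd : Odd (Nat.card G)) (p : ℕ) [Fact p.Prime]
    (hp2 : p ≠ 2) (P : Subgroup G) (hP : IsPGroup p P) (x y : G)
    (hxN : x ∈ Subgroup.normalizer (P : Set G)) (hyN : y ∈ Subgroup.normalizer (P : Set G))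
    (hx : ∀ u ∈ P, ⁅⁅u, x⁆, x⁆ = 1) (hy : ∀ u ∈ P, ⁅⁅u, y⁆, y⁆ = 1) :
    ∀ k ∈ Subgroup.closure ({x, y} : Set G), (orderOf k).Coprime p → ∀ u ∈ P, k * u = u * k := by
  intro k hk hkp u hu
  set G₀ : Subgroup G := P ⊔ Subgroup.closure {x, y} with hG₀
  have hPle : P ≤ G₀ := le_sup_left
  have hcl : Subgroup.closure {x, y} ≤ G₀ := le_sup_right
  have hxG : x ∈ G₀ := hcl (Subgroup.subset_closure (by simp))
  have hyG : y ∈ G₀ := hcl (Subgroup.subset_closure (by simp))
  have hle : G₀ ≤ Subgroup.normalizer (P : Set G) := by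
    rw [hG₀, sup_le_iff, Subgroup.closure_le]
    refine ⟨Subgroup.le_normalizer, ?_⟩
    rintro g (rfl | hg)
    · exact hxN
    · rw [Set.mem_singleton_iff] at hg
      subst hg
      exact hyN
  have hn : (P.subgroupOf G₀).Normal := (Subgroup.normal_subgroupOf_iff_le_normalizer hPle).2 hle
  have hgen : P.subgroupOf G₀ ⊔ Subgroup.closure {(⟨x, hxG⟩ : G₀), ⟨y, hyG⟩} = ⊤ := by
    apply Subgroup.map_injective G₀.subtype_injective
    rw [Subgroup.map_sup, Subgroup.map_subgroupOf_eq_of_le hPle, MonoidHom.map_closure,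
      Set.image_pair, ← MonoidHom.range_eq_map, Subgroup.range_subtype]
    rfl
  have hodd₀ : Odd (Nat.card G₀) := Odd.of_dvd_nat hodd (Subgroup.card_subgroup_dvd_card G₀)
  have key := QP_aux p hp2 (Nat.card G₀) G₀ le_rfl hodd₀ (P.subgroupOf G₀) hn (hP.comap_subtype)
    ⟨x, hxG⟩ ⟨y, hyG⟩ hgen ?_ ?_ ⟨k, hcl hk⟩ (by rw [Subgroup.orderOf_mk]; exact hkp)
    ⟨u, hPle hu⟩ (Subgroup.mem_subgroupOf.2 hu)
  · exact congrArg Subtype.val key
  · intro v hv
    apply Subtype.ext
    have := hx v (Subgroup.mem_subgroupOf.1 hv)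
    simpa [commutatorElement_def] using this
  · intro v hv
    apply Subtype.ext
    have := hy v (Subgroup.mem_subgroupOf.1 hv)
    simpa [commutatorElement_def] using this

theorem quad_pair_pow {G : Type*} [Group G] [Finite G] (hodd : Odd (Nat.card G)) (p : ℕ)
    [Fact p.Prime] (hp2 : p ≠ 2) (P : Subgroup G) (hP : IsPGroup p P) (x y : G)
    (hxN : x ∈ Subgroup.normalizer (P : Set G)) (hyN : y ∈ Subgroup.normalizer (P : Set G))
    (hx : ∀ u ∈ P, ⁅⁅u, x⁆, x⁆ = 1) (hy : ∀ u ∈ P, ⁅⁅u, y⁆, y⁆ = 1) :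
    ∀ k ∈ Subgroup.closure ({x, y} : Set G), ∃ e : ℕ, ∀ u ∈ P, k ^ p ^ e * u = u * k ^ p ^ e := by
  intro k hk
  have hp := (Fact.out : p.Prime)
  obtain ⟨e, m, hm, hn⟩ := Nat.exists_eq_pow_mul_and_not_dvd (orderOf_pos k).ne' p hp.ne_one
  refine ⟨e, quad_pair hodd p hp2 P hP x y hxN hyN hx hy _ (Subgroup.pow_mem _ hk _) ?_⟩
  have h1 : (k ^ p ^ e) ^ m = 1 := by rw [← pow_mul, ← hn, pow_orderOf_eq_one]
  exact Nat.Coprime.coprime_dvd_left (orderOf_dvd_of_pow_eq_one h1)
    ((Nat.Prime.coprime_iff_not_dvd hp).2 hm).symm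

theorem quad_conj {G : Type*} [Group G] (P : Subgroup G) {t h : G}
    (hh : h ∈ Subgroup.normalizer (P : Set G)) (ht : ∀ u ∈ P, ⁅⁅u, t⁆, t⁆ = 1) :
    ∀ u ∈ P, ⁅⁅u, h * t * h⁻¹⁆, h * t * h⁻¹⁆ = 1 := by
  intro u hu
  have hu' : h⁻¹ * u * h ∈ P := by
    have := (Subgroup.mem_normalizer_iff.1 (Subgroup.inv_mem _ hh) u).1 hu
    rwa [inv_inv] at this
  have e : ⁅⁅u, h * t * h⁻¹⁆, h * t * h⁻¹⁆ = h * ⁅⁅h⁻¹ * u * h, t⁆, t⁆ * h⁻¹ := by
    simp only [commutatorElement_def]
    group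
  rw [e, ht _ hu']
  group

/-- **p-stability of groups of odd order**, abstract form.  `N` acts on the `p`-subgroup `P` of `G`
through `ι : N →* N_G(P)`, `f : N →* Q` is an epimorphism killing the kernel of the action; then the
image of any subgroup of `N` all of whose elements act quadratically lies in `O_p(Q)`. -/
theorem map_le_pCore {G N Q : Type*} [Group G] [Finite G] [Group N] [Group Q] [Finite Q]
    (hodd : Odd (Nat.card G)) (p : ℕ) [Fact p.Prime] (hp2 : p ≠ 2)
    (P : Subgroup G) (hP : IsPGroup p P) (ι : N →* G)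
    (hι : ∀ n, ι n ∈ Subgroup.normalizer (P : Set G))
    (f : N →* Q) (hf : Function.Surjective f)
    (hker : ∀ n, (∀ u ∈ P, ι n * u = u * ι n) → f n = 1)
    (A : Set N) (hA : ∀ x ∈ A, ∀ u ∈ P, ⁅⁅u, ι x⁆, ι x⁆ = 1) :
    (Subgroup.closure A).map f ≤ Cfsg.pCore p Q := by
  set K : Set Q := {q | ∃ x ∈ A, ∃ g : N, q = f (g * x * g⁻¹)} with hKdef
  have hK : ∀ k ∈ K, ∀ q : Q, q * k * q⁻¹ ∈ K := by
    rintro _ ⟨x, hx, g, rfl⟩ q
    obtain ⟨g', rfl⟩ := hf q
    refine ⟨x, hx, g' * g, ?_⟩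
    rw [← map_inv, ← map_mul, ← map_mul]
    congr 1
    group
  have hpair : ∀ a ∈ K, ∀ b ∈ K, IsPGroup p (Subgroup.closure ({a, b} : Set Q)) := by
    rintro _ ⟨x, hx, g, rfl⟩ _ ⟨y, hy, g', rfl⟩
    rw [← Set.image_pair, ← MonoidHom.map_closure]
    rintro ⟨_, k, hk, rfl⟩
    have hk' : ι k ∈ Subgroup.closure ({ι (g * x * g⁻¹), ι (g' * y * g'⁻¹)} : Set G) := by
      rw [← Set.image_pair, ← MonoidHom.map_closure]
      exact Subgroup.mem_map_of_mem _ hk
    obtain ⟨e, he⟩ := quad_pair_pow hodd p hp2 P hP _ _ (hι _) (hι _)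
      (by
        rw [map_mul, map_mul, map_inv]
        exact quad_conj P (hι g) (hA x hx))
      (by
        rw [map_mul, map_mul, map_inv]
        exact quad_conj P (hι g') (hA y hy)) _ hk'
    refine ⟨e, ?_⟩
    apply Subtype.ext
    show (f k) ^ p ^ e = 1
    rw [← map_pow]
    apply hker
    rw [map_pow]
    exact he
  have hpg := Cfsg.Agent.Lib.Helper5BaerSuzuki.isPGroup_closure K hK hpair
  have hn : (Subgroup.closure K).Normal :=
    ⟨fun n hn g => Cfsg.Agent.Lib.Helper5BaerSuzuki.conj_mem_closure (fun k hk => hK k hk g) hn⟩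
  refine le_trans ?_ (Cfsg.Agent.Lib.Helper1Fitting.le_pCore hn hpg)
  rw [MonoidHom.map_closure, Subgroup.closure_le]
  rintro _ ⟨x, hx, rfl⟩
  exact Subgroup.subset_closure ⟨x, hx, 1, by simp⟩

end Cfsg.Agent.Lib.Helper31PStable
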