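import Mathlib
import Cfsg.Agent.Lib.Helper31PStable

set_option autoImplicit false

/-! Quadratic pairs: the generalisation of the odd order `p`-stability chain. -/

namespace Cfsg.Agent.Lib.Helper31Pair
open scoped commutatorElement
open Cfsg.Agent.Lib.Helper31PStable Cfsg.Agent.Lib.Helper31Quad

/-- `x, y` act on a section `V₁/V₂` of `P` (given by the graph `R ≤ G × F²` of an epimorphism
`V₁ → F²` with kernel `V₂`) as the matrices `(1 l; 0 1)`, `(1 0; 1 1)` of `SL₂(F)`, `l ≠ 0`,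
`F` a finite field of characteristic `p`. -/
def QPair (p : ℕ) {G : Type*} [Group G] (P : Subgroup G) (x y : G) : Prop :=
  ∃ (F : Type) (_ : Field F) (_ : Finite F) (_ : CharP F p) (l : F)
    (R : Subgroup (G × Multiplicative (Fin 2 → F))),
    l ≠ 0 ∧ (∀ v c, (v, c) ∈ R → v ∈ P) ∧ (∀ c, ((1 : G), c) ∈ R → c = 1) ∧
    (∀ c, ∃ v, (v, c) ∈ R) ∧
    (∀ v c, (v, Multiplicative.ofAdd c) ∈ R ↔
      (x * v * x⁻¹, Multiplicative.ofAdd ![c 0 + l * c 1, c 1]) ∈ R) ∧
    (∀ v c, (v, Multiplicative.ofAdd c) ∈ R ↔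
      (y * v * y⁻¹, Multiplicative.ofAdd ![c 0, c 0 + c 1]) ∈ R)

theorem QPair.mono {p : ℕ} {G : Type*} [Group G] {P P' : Subgroup G} (hP : P ≤ P') {x y : G}
    (h : QPair p P x y) : QPair p P' x y := by
  obtain ⟨F, i1, i2, i3, l, R, hl, h1, h2, h3, h4, h5⟩ := h
  exact ⟨F, i1, i2, i3, l, R, hl, fun v c hv => hP (h1 v c hv), h2, h3, h4, h5⟩

theorem QPair.comap {p : ℕ} {G G' : Type*} [Group G] [Group G'] (f : G →* G')
    (hf : Function.Surjective f) {P : Subgroup G} {P' : Subgroup G'}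
    (hP : ∀ v, f v ∈ P' → v ∈ P) {x y : G} (h : QPair p P' (f x) (f y)) : QPair p P x y := by
  obtain ⟨F, i1, i2, i3, l, R, hl, h1, h2, h3, h4, h5⟩ := h
  refine ⟨F, i1, i2, i3, l, R.comap (f.prodMap (MonoidHom.id _)), hl, ?_, ?_, ?_, ?_, ?_⟩
  · intro v c hv
    exact hP v (h1 _ c hv)
  · intro c hc
    apply h2
    simpa [Subgroup.mem_comap] using hc
  · intro c
    obtain ⟨v, hv⟩ := h3 c
    obtain ⟨w, rfl⟩ := hf v
    exact ⟨w, hv⟩
  · intro v c
    simp only [Subgroup.mem_comap, MonoidHom.coe_prodMap, Prod.map_apply, MonoidHom.id_apply,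
      map_mul, map_inv]
    exact h4 (f v) c
  · intro v c
    simp only [Subgroup.mem_comap, MonoidHom.coe_prodMap, Prod.map_apply, MonoidHom.id_apply,
      map_mul, map_inv]
    exact h5 (f v) c

theorem mem_map_prod {G₀ G C : Type*} [Group G₀] [Group G] [Group C] (ι : G₀ →* G)
    (R : Subgroup (G₀ × C)) (v : G) (c : C) :
    (v, c) ∈ R.map (ι.prodMap (MonoidHom.id C)) ↔ ∃ v₀, ι v₀ = v ∧ (v₀, c) ∈ R := by
  constructor
  · rintro ⟨⟨v₀, c₀⟩, h, he⟩
    simp only [MonoidHom.coe_prodMap, Prod.map_apply, MonoidHom.id_apply, Prod.mk.injEq] at he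
    obtain ⟨rfl, rfl⟩ := he
    exact ⟨v₀, rfl, h⟩
  · rintro ⟨v₀, rfl, h⟩
    exact ⟨(v₀, c), h, rfl⟩

theorem QPair.map {p : ℕ} {G₀ G : Type*} [Group G₀] [Group G] (ι : G₀ →* G)
    (hι : Function.Injective ι) {P₀ : Subgroup G₀} {x y : G₀} (h : QPair p P₀ x y) :
    QPair p (P₀.map ι) (ι x) (ι y) := by
  obtain ⟨F, i1, i2, i3, l, R, hl, h1, h2, h3, h4, h5⟩ := h
  have key : ∀ (t : G₀) (T : (Fin 2 → F) → (Fin 2 → F)),
      (∀ v c, (v, Multiplicative.ofAdd c) ∈ R ↔ (t * v * t⁻¹, Multiplicative.ofAdd (T c)) ∈ R) →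
      ∀ v c, (v, Multiplicative.ofAdd c) ∈ R.map (ι.prodMap (MonoidHom.id _)) ↔
        (ι t * v * (ι t)⁻¹, Multiplicative.ofAdd (T c)) ∈ R.map (ι.prodMap (MonoidHom.id _)) := by
    intro t T hT v c
    rw [mem_map_prod, mem_map_prod]
    constructor
    · rintro ⟨v₀, rfl, h⟩
      exact ⟨t * v₀ * t⁻¹, by simp, (hT v₀ c).1 h⟩
    · rintro ⟨w₀, hw, h⟩
      refine ⟨t⁻¹ * w₀ * t, ?_, ?_⟩
      · rw [map_mul, map_mul, hw, map_inv]
        group
      · rw [hT]
        convert h using 2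
        group
  refine ⟨F, i1, i2, i3, l, R.map (ι.prodMap (MonoidHom.id _)), hl, ?_, ?_, ?_, key x _ h4,
    key y _ h5⟩
  · intro v c hv
    obtain ⟨v₀, rfl, h⟩ := (mem_map_prod _ _ _ _).1 hv
    exact Subgroup.mem_map_of_mem _ (h1 _ _ h)
  · intro c hc
    obtain ⟨v₀, hv, h⟩ := (mem_map_prod _ _ _ _).1 hc
    have : v₀ = 1 := hι (by rw [hv, map_one])
    subst this
    exact h2 c h
  · intro c
    obtain ⟨v, hv⟩ := h3 c
    exact ⟨ι v, (mem_map_prod _ _ _ _).2 ⟨v, rfl, hv⟩⟩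

theorem exists_fixed_aux' {K V : Type*} [Group K] (p : ℕ)
    [Fact p.Prime] [AddCommGroup V] [Finite V] [Nontrivial V]
    [Module (ZMod p) V] (ρ : K →* AddMonoid.End V) (x y : K)
    (hx : ∀ v, ρ x (ρ x v) + v = ρ x v + ρ x v) (hy : ∀ v, ρ y (ρ y v) + v = ρ y v + ρ y v) :
    (∃ v : V, v ≠ 0 ∧ ρ x v = v ∧ ρ y v = v) ∨
    ∃ (F : Type) (_ : Field F) (_ : CharP F p) (l : F) (Φ : (Fin 2 → F) →+ V), l ≠ 0 ∧
      Function.Injective Φ ∧ (∀ c, ρ x (Φ c) = Φ ![c 0 + l * c 1, c 1]) ∧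
      (∀ c, ρ y (Φ c) = Φ ![c 0, c 0 + c 1]) := by
  let a : Module.End (ZMod p) V :=
    (AddMonoidHom.toZModLinearMap p (ρ x) : Module.End (ZMod p) V) - (1 : Module.End (ZMod p) V)
  let b : Module.End (ZMod p) V :=
    (AddMonoidHom.toZModLinearMap p (ρ y) : Module.End (ZMod p) V) - (1 : Module.End (ZMod p) V)
  have ha' : ∀ w, a w = ρ x w - w := fun w => rfl
  have hb' : ∀ w, b w = ρ y w - w := fun w => rfl
  have ha : a * a = 0 := by
    ext w
    rw [Module.End.mul_apply, ha', ha', map_sub, LinearMap.zero_apply]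
    have := hx w
    have e : (ρ x) ((ρ x) w) - (ρ x) w - ((ρ x) w - w)
        = ((ρ x) ((ρ x) w) + w) - ((ρ x) w + (ρ x) w) := by abel
    rw [e, this, sub_self]
  have hb : b * b = 0 := by
    ext w
    rw [Module.End.mul_apply, hb', hb', map_sub, LinearMap.zero_apply]
    have := hy w
    have e : (ρ y) ((ρ y) w) - (ρ y) w - ((ρ y) w - w)
        = ((ρ y) ((ρ y) w) + w) - ((ρ y) w + (ρ y) w) := by abel
    rw [e, this, sub_self]
  rcases core a b ha hb with ⟨v, hv, hav, hbv⟩ | ⟨F, i1, i2, l, Φ, hl, hΦ, hΦa, hΦb⟩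
  · exact Or.inl ⟨v, hv, sub_eq_zero.1 hav, sub_eq_zero.1 hbv⟩
  · refine Or.inr ⟨F, i1, i2, l, Φ, hl, hΦ, ?_, ?_⟩
    · intro c
      have h1 := hΦa c
      rw [ha', sub_eq_iff_eq_add, ← map_add] at h1
      rw [h1]
      congr 1
      ext i
      fin_cases i <;> simp [add_comm]
    · intro c
      have h1 := hΦb c
      rw [hb', sub_eq_iff_eq_add, ← map_add] at h1
      rw [h1]
      congr 1
      ext i
      fin_cases i <;> simp

theorem exists_fixed_mul' {G W : Type*} [Group G] (p : ℕ)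
    [Fact p.Prime] [CommGroup W] [Finite W] [Nontrivial W]
    (hWp : ∀ w : W, w ^ p = 1) (φ : G →* MulAut W) (x y : G)
    (hx : ∀ w, φ x (φ x w) * w = φ x w * φ x w) (hy : ∀ w, φ y (φ y w) * w = φ y w * φ y w) :
    (∃ w : W, w ≠ 1 ∧ φ x w = w ∧ φ y w = w) ∨
    ∃ (F : Type) (_ : Field F) (_ : Finite F) (_ : CharP F p) (l : F)
      (Ψ : Multiplicative (Fin 2 → F) →* W), l ≠ 0 ∧
      Function.Injective Ψ ∧
      (∀ c, φ x (Ψ (Multiplicative.ofAdd c)) = Ψ (Multiplicative.ofAdd ![c 0 + l * c 1, c 1])) ∧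
      (∀ c, φ y (Ψ (Multiplicative.ofAdd c)) = Ψ (Multiplicative.ofAdd ![c 0, c 0 + c 1])) := by
  let ρ : G →* AddMonoid.End (Additive W) :=
    { toFun := fun g => MonoidHom.toAdditive (φ g).toMonoidHom
      map_one' := by
        ext w
        rw [map_one]
        rfl
      map_mul' := by
        intro a b
        ext w
        rw [map_mul]
        rfl }
  have hV : ∀ v : Additive W, p • v = 0 := fun v => hWp v.toMul
  rcases @exists_fixed_aux' G (Additive W) _ p _ _ _ _ (AddCommGroup.zmodModule hV) ρ x y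
    (fun v => hx v.toMul) (fun v => hy v.toMul) with
    ⟨v, hv, h1, h2⟩ | ⟨F, i1, i2, l, Φ, hl, hΦ, hΦa, hΦb⟩
  · exact Or.inl ⟨v.toMul, hv, h1, h2⟩
  · have hfin : Finite F := by
      apply Finite.of_injective (fun a : F => Φ ![a, 0])
      intro a b hab
      have := hΦ hab
      exact congrFun this 0
    exact Or.inr ⟨F, i1, hfin, i2, l, AddMonoidHom.toMultiplicativeLeft Φ, hl,
      fun a b hab => hΦ hab, hΦa, hΦb⟩

theorem exists_commuting' {G : Type*} [Group G] [Finite G] (p : ℕ)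
    [Fact p.Prime] (W : Subgroup G) [W.Normal]
    (hWc : ∀ a ∈ W, ∀ b ∈ W, a * b = b * a) (hWp : ∀ a ∈ W, a ^ p = 1) (hW1 : W ≠ ⊥)
    (x y : G) (hx : ∀ w ∈ W, ⁅⁅w, x⁆, x⁆ = 1) (hy : ∀ w ∈ W, ⁅⁅w, y⁆, y⁆ = 1) :
    (∃ z ∈ W, z ≠ 1 ∧ x * z = z * x ∧ y * z = z * y) ∨ QPair p W x y := by
  let inst : CommGroup W :=
    { (inferInstance : Group W) with mul_comm := fun a b => Subtype.ext (hWc a a.2 b b.2) }
  have hnt : Nontrivial W := (Subgroup.nontrivial_iff_ne_bot W).2 hW1
  have key : ∀ t : G, (∀ w ∈ W, ⁅⁅w, t⁆, t⁆ = 1) → ∀ w : W,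
      MulAut.conjNormal t (MulAut.conjNormal t w) * w
        = MulAut.conjNormal t w * MulAut.conjNormal t w := by
    intro t ht w
    apply @comm_aux W inst
    apply Subtype.ext
    have := ht w w.2
    simp only [Subgroup.coe_mul, Subgroup.coe_inv, MulAut.conjNormal_apply, Subgroup.coe_one]
    rw [← this]
    simp only [commutatorElement_def]
    group
  rcases @exists_fixed_mul' G W _ p _ inst _ hnt
    (fun w => Subtype.ext (by simpa using hWp w w.2)) MulAut.conjNormal x y (key x hx) (key y hy)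
    with ⟨z, hz, h1, h2⟩ | ⟨F, i1, i2, i3, l, Ψ, hl, hΨ, hΨx, hΨy⟩
  · refine Or.inl ⟨z, z.2, fun h => hz (Subtype.ext h), ?_, ?_⟩
    · have := congrArg Subtype.val h1
      rw [MulAut.conjNormal_apply] at this
      rw [mul_inv_eq_iff_eq_mul] at this
      exact this
    · have := congrArg Subtype.val h2
      rw [MulAut.conjNormal_apply] at this
      rw [mul_inv_eq_iff_eq_mul] at this
      exact this
  · right
    let Ψ' : Multiplicative (Fin 2 → F) →* G := W.subtype.comp Ψ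
    have hΨ' : Function.Injective Ψ' := W.subtype_injective.comp hΨ
    have hmem : ∀ v c, (v, c) ∈ (Ψ'.prod (MonoidHom.id _)).range ↔ v = Ψ' c := by
      intro v c
      constructor
      · rintro ⟨d, hd⟩
        simp only [MonoidHom.prod_apply, MonoidHom.id_apply, Prod.mk.injEq] at hd
        obtain ⟨rfl, rfl⟩ := hd
        rfl
      · rintro rfl
        exact ⟨c, rfl⟩
    have hact : ∀ (t : G) (T : (Fin 2 → F) → (Fin 2 → F)),
        (∀ c, MulAut.conjNormal t (Ψ (Multiplicative.ofAdd c)) = Ψ (Multiplicative.ofAdd (T c))) →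
        ∀ v c, (v, Multiplicative.ofAdd c) ∈ (Ψ'.prod (MonoidHom.id _)).range ↔
          (t * v * t⁻¹, Multiplicative.ofAdd (T c)) ∈ (Ψ'.prod (MonoidHom.id _)).range := by
      intro t T hT v c
      rw [hmem, hmem]
      have h1 : Ψ' (Multiplicative.ofAdd (T c)) = t * Ψ' (Multiplicative.ofAdd c) * t⁻¹ := by
        have := congrArg Subtype.val (hT c)
        rw [MulAut.conjNormal_apply] at this
        exact this.symm
      rw [h1]
      constructor
      · rintro rfl
        rfl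
      · intro h
        exact mul_left_cancel (mul_right_cancel h)
    refine ⟨F, i1, i2, i3, l, (Ψ'.prod (MonoidHom.id _)).range, hl, ?_, ?_, ?_,
      hact x _ hΨx, hact y _ hΨy⟩
    · intro v c hv
      rw [(hmem v c).1 hv]
      exact (Ψ c).2
    · intro c hc
      apply hΨ'
      rw [← (hmem _ _).1 hc, map_one]
    · intro c
      exact ⟨Ψ' c, (hmem _ _).2 rfl⟩

universe u

theorem QP_aux' (p : ℕ) [Fact p.Prime] : ∀ (n : ℕ) (G : Type u) [Group G] [Finite G],
    Nat.card G ≤ n → ∀ (P : Subgroup G), P.Normal → IsPGroup p P →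
    ∀ x y : G, ¬ QPair p P x y → P ⊔ Subgroup.closure {x, y} = ⊤ →
    (∀ u ∈ P, ⁅⁅u, x⁆, x⁆ = 1) → (∀ u ∈ P, ⁅⁅u, y⁆, y⁆ = 1) →
    ∀ k : G, (orderOf k).Coprime p → ∀ u ∈ P, k * u = u * k := by
  intro n
  induction n with
  | zero =>
    intro G _ _ hn
    have : 0 < Nat.card G := Nat.card_pos
    omega
  | succ n ih =>
    intro G _ _ hn P hPn hP x y hno hgen hx hy k hk u hu
    by_cases hP1 : P = ⊥
    · rw [hP1, Subgroup.mem_bot] at hu
      rw [hu]; simp
    have hWn := omegaZ_normal p P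
    have hWP : omegaZ p P ≤ P := fun a ha => ha.1
    obtain ⟨z, hzW, hz1, hzx, hzy⟩ := (exists_commuting' p (omegaZ p P)
      (fun a ha b hb => ha.2.1 b hb.1) (fun a ha => ha.2.2) (omegaZ_ne_bot p P hP hP1) x y
      (fun w hw => hx w hw.1) (fun w hw => hy w hw.1)).resolve_right
      (fun h => hno (h.mono hWP))
    have hzc : ∀ g : G, g * z = z * g := by
      have : (⊤ : Subgroup G) ≤ Subgroup.centralizer {z} := by
        rw [← hgen, sup_le_iff, Subgroup.closure_le]
        constructor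
        · intro v hv
          rw [Subgroup.mem_centralizer_singleton_iff]
          exact (hzW.2.1 v hv).symm
        · rintro g (rfl | hg)
          · exact Subgroup.mem_centralizer_singleton_iff.2 hzx
          · rw [Set.mem_singleton_iff] at hg
            subst hg
            exact Subgroup.mem_centralizer_singleton_iff.2 hzy
      intro g
      exact Subgroup.mem_centralizer_singleton_iff.1 (this (Subgroup.mem_top g))
    have hZc : ∀ c ∈ Subgroup.zpowers z, ∀ g : G, g * c = c * g := by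
      intro c hc g
      obtain ⟨i, rfl⟩ := Subgroup.mem_zpowers_iff.1 hc
      have : Commute g z := hzc g
      exact (this.zpow_right i).eq
    have hZn : (Subgroup.zpowers z).Normal := by
      constructor
      intro c hc g
      rw [hZc c hc g, mul_inv_cancel_right]
      exact hc
    have hZp : ∀ c ∈ Subgroup.zpowers z, c ^ p = 1 := by
      intro c hc
      obtain ⟨i, rfl⟩ := Subgroup.mem_zpowers_iff.1 hc
      rw [← zpow_natCast, ← zpow_mul, mul_comm, zpow_mul, zpow_natCast, hzW.2.2, one_zpow]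
    have hZP : Subgroup.zpowers z ≤ P := by
      rw [Subgroup.zpowers_le]
      exact hzW.1
    have hcard := Subgroup.card_eq_card_quotient_mul_card_subgroup (Subgroup.zpowers z)
    have hZ2 : 2 ≤ Nat.card (Subgroup.zpowers z) := by
      apply (Subgroup.one_lt_card_iff_ne_bot _).2
      intro h
      exact hz1 (Subgroup.zpowers_eq_bot.1 h)
    have hqpos : 0 < Nat.card (G ⧸ Subgroup.zpowers z) := Nat.card_pos
    have hlt : Nat.card (G ⧸ Subgroup.zpowers z) ≤ n := by
      have : Nat.card (G ⧸ Subgroup.zpowers z) * 2 ≤ Nat.card G := by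
        rw [hcard]; exact Nat.mul_le_mul_left _ hZ2
      omega
    have hsurj := QuotientGroup.mk'_surjective (Subgroup.zpowers z)
    have hnoq : ¬ QPair p (P.map (QuotientGroup.mk' (Subgroup.zpowers z)))
        (QuotientGroup.mk' _ x) (QuotientGroup.mk' _ y) := by
      intro h
      apply hno
      refine QPair.comap _ hsurj ?_ h
      rintro v ⟨w, hw, hwv⟩
      have h1 : w⁻¹ * v ∈ Subgroup.zpowers z := by
        rw [← QuotientGroup.eq]
        exact hwv
      have : v = w * (w⁻¹ * v) := by group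
      rw [this]
      exact P.mul_mem hw (hZP h1)
    have hih := ih (G ⧸ Subgroup.zpowers z) hlt (P.map (QuotientGroup.mk' _))
      (hPn.map _ hsurj) (hP.map _) (QuotientGroup.mk' _ x) (QuotientGroup.mk' _ y) hnoq ?_ ?_ ?_
      (QuotientGroup.mk' _ k) (Nat.Coprime.coprime_dvd_left (orderOf_map_dvd _ k) hk)
      (QuotientGroup.mk' _ u) (Subgroup.mem_map_of_mem _ hu)
    · -- the commutator is central of order dividing p
      set c := k * u * k⁻¹ * u⁻¹ with hc
      have hcZ : c ∈ Subgroup.zpowers z := by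
        rw [← QuotientGroup.eq_one_iff, hc]
        have h1 : (QuotientGroup.mk' (Subgroup.zpowers z)) (k * u * k⁻¹ * u⁻¹) = 1 := by
          rw [map_mul, map_mul, map_mul, hih, map_inv, map_inv]
          group
        exact h1
      have hconj : ∀ m : ℕ, k ^ m * u * (k ^ m)⁻¹ = c ^ m * u := by
        intro m
        induction m with
        | zero => simp
        | succ m ihm =>
          have e1 : k ^ (m + 1) * u * (k ^ (m + 1))⁻¹ = k * (k ^ m * u * (k ^ m)⁻¹) * k⁻¹ := by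
            rw [pow_succ']; group
          have hcm : ∀ g : G, g * c ^ m = c ^ m * g := fun g =>
            hZc _ (Subgroup.pow_mem _ hcZ m) g
          rw [e1, ihm, ← mul_assoc, hcm k, pow_succ, mul_assoc (c ^ m), mul_assoc (c ^ m),
            mul_assoc (c ^ m)]
          congr 1
          rw [hc]; group
      have h1 := hconj (orderOf k)
      rw [pow_orderOf_eq_one] at h1
      have h2 : c ^ orderOf k = 1 := by
        have : c ^ orderOf k * u = 1 * u := by rw [← h1]; group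
        exact mul_right_cancel this
      have h3 : c = 1 := by
        have d1 := orderOf_dvd_of_pow_eq_one h2
        have d2 := orderOf_dvd_of_pow_eq_one (hZp c hcZ)
        have := Nat.dvd_gcd d1 d2
        rw [Nat.Coprime.gcd_eq_one hk] at this
        exact orderOf_eq_one_iff.1 (Nat.dvd_one.1 this)
      rw [hc, mul_inv_eq_one, mul_inv_eq_iff_eq_mul] at h3
      exact h3
    · rw [← Set.image_pair, ← MonoidHom.map_closure, ← Subgroup.map_sup, hgen,
        ← MonoidHom.range_eq_map, MonoidHom.range_eq_top]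
      exact hsurj
    · rintro _ ⟨v, hv, rfl⟩
      rw [← map_commutatorElement, ← map_commutatorElement, hx v hv, map_one]
    · rintro _ ⟨v, hv, rfl⟩
      rw [← map_commutatorElement, ← map_commutatorElement, hy v hv, map_one]

/-- If `x, y` normalize the `p`-subgroup `P` and act quadratically on it, and do not form a
quadratic pair on a section of `P`, then every `p'`-element of `⟨x, y⟩` centralizes `P`. -/
theorem quad_pair' {G : Type*} [Group G] [Finite G] (p : ℕ) [Fact p.Prime]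
    (P : Subgroup G) (hP : IsPGroup p P) (x y : G) (hno : ¬ QPair p P x y)
    (hxN : x ∈ Subgroup.normalizer (P : Set G)) (hyN : y ∈ Subgroup.normalizer (P : Set G))
    (hx : ∀ u ∈ P, ⁅⁅u, x⁆, x⁆ = 1) (hy : ∀ u ∈ P, ⁅⁅u, y⁆, y⁆ = 1) :
    ∀ k ∈ Subgroup.closure ({x, y} : Set G), (orderOf k).Coprime p → ∀ u ∈ P, k * u = u * k := by
  intro k hk hkp u hu
  set G₀ : Subgroup G := P ⊔ Subgroup.closure {x, y} with hG₀
  have hPle : P ≤ G₀ := le_sup_left
  have hcl : Subgroup.closure {x, y} ≤ G₀ := le_sup_right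
  have hxG : x ∈ G₀ := hcl (Subgroup.subset_closure (by simp))
  have hyG : y ∈ G₀ := hcl (Subgroup.subset_closure (by simp))
  have hle : G₀ ≤ Subgroup.normalizer (P : Set G) := by
    rw [hG₀, sup_le_iff, Subgroup.closure_le]
    refine ⟨Subgroup.le_normalizer, ?_⟩
    rintro g (rfl | hg)
    · exact hxN
    · rw [Set.mem_singleton_iff] at hg
      subst hg
      exact hyN
  have hn : (P.subgroupOf G₀).Normal := (Subgroup.normal_subgroupOf_iff_le_normalizer hPle).2 hle
  have hgen : P.subgroupOf G₀ ⊔ Subgroup.closure {(⟨x, hxG⟩ : G₀), ⟨y, hyG⟩} = ⊤ := by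
    apply Subgroup.map_injective G₀.subtype_injective
    rw [Subgroup.map_sup, Subgroup.map_subgroupOf_eq_of_le hPle, MonoidHom.map_closure,
      Set.image_pair, ← MonoidHom.range_eq_map, Subgroup.range_subtype]
    rfl
  have hno₀ : ¬ QPair p (P.subgroupOf G₀) (⟨x, hxG⟩ : G₀) ⟨y, hyG⟩ := by
    intro h
    apply hno
    have := h.map G₀.subtype G₀.subtype_injective
    rw [Subgroup.map_subgroupOf_eq_of_le hPle] at this
    exact this
  have key := QP_aux' p (Nat.card G₀) G₀ le_rfl (P.subgroupOf G₀) hn (hP.comap_subtype)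
    ⟨x, hxG⟩ ⟨y, hyG⟩ hno₀ hgen ?_ ?_ ⟨k, hcl hk⟩ (by rw [Subgroup.orderOf_mk]; exact hkp)
    ⟨u, hPle hu⟩ (Subgroup.mem_subgroupOf.2 hu)
  · exact congrArg Subtype.val key
  · intro v hv
    apply Subtype.ext
    have := hx v (Subgroup.mem_subgroupOf.1 hv)
    simpa [commutatorElement_def] using this
  · intro v hv
    apply Subtype.ext
    have := hy v (Subgroup.mem_subgroupOf.1 hv)
    simpa [commutatorElement_def] using this

theorem quad_pair_pow' {G : Type*} [Group G] [Finite G] (p : ℕ)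
    [Fact p.Prime] (P : Subgroup G) (hP : IsPGroup p P) (x y : G) (hno : ¬ QPair p P x y)
    (hxN : x ∈ Subgroup.normalizer (P : Set G)) (hyN : y ∈ Subgroup.normalizer (P : Set G))
    (hx : ∀ u ∈ P, ⁅⁅u, x⁆, x⁆ = 1) (hy : ∀ u ∈ P, ⁅⁅u, y⁆, y⁆ = 1) :
    ∀ k ∈ Subgroup.closure ({x, y} : Set G), ∃ e : ℕ, ∀ u ∈ P, k ^ p ^ e * u = u * k ^ p ^ e := by
  intro k hk
  have hp := (Fact.out : p.Prime)
  obtain ⟨e, m, hm, hn⟩ := Nat.exists_eq_pow_mul_and_not_dvd (orderOf_pos k).ne' p hp.ne_one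
  refine ⟨e, quad_pair' p P hP x y hno hxN hyN hx hy _ (Subgroup.pow_mem _ hk _) ?_⟩
  have h1 : (k ^ p ^ e) ^ m = 1 := by rw [← pow_mul, ← hn, pow_orderOf_eq_one]
  exact Nat.Coprime.coprime_dvd_left (orderOf_dvd_of_pow_eq_one h1)
    ((Nat.Prime.coprime_iff_not_dvd hp).2 hm).symm

/-- **General p-stability**, abstract form.  `N` acts on the `p`-subgroup `P` of `G`
through `ι : N →* N_G(P)`, `f : N →* Q` is an epimorphism killing the kernel of the action; if no
two elements of `N` form a quadratic pair on a section of `P` then the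
image of any subgroup of `N` generated by elements acting quadratically lies in `O_p(Q)`. -/
theorem map_le_pCore' {G N Q : Type*} [Group G] [Finite G] [Group N] [Group Q] [Finite Q]
    (p : ℕ) [Fact p.Prime]
    (P : Subgroup G) (hP : IsPGroup p P) (ι : N →* G)
    (hι : ∀ n, ι n ∈ Subgroup.normalizer (P : Set G))
    (hno : ∀ x y : N, ¬ QPair p P (ι x) (ι y))
    (f : N →* Q) (hf : Function.Surjective f)
    (hker : ∀ n, (∀ u ∈ P, ι n * u = u * ι n) → f n = 1)
    (A : Set N) (hA : ∀ x ∈ A, ∀ u ∈ P, ⁅⁅u, ι x⁆, ι x⁆ = 1) :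
    (Subgroup.closure A).map f ≤ Cfsg.pCore p Q := by
  set K : Set Q := {q | ∃ x ∈ A, ∃ g : N, q = f (g * x * g⁻¹)} with hKdef
  have hK : ∀ k ∈ K, ∀ q : Q, q * k * q⁻¹ ∈ K := by
    rintro _ ⟨x, hx, g, rfl⟩ q
    obtain ⟨g', rfl⟩ := hf q
    refine ⟨x, hx, g' * g, ?_⟩
    rw [← map_inv, ← map_mul, ← map_mul]
    congr 1
    group
  have hpair : ∀ a ∈ K, ∀ b ∈ K, IsPGroup p (Subgroup.closure ({a, b} : Set Q)) := by
    rintro _ ⟨x, hx, g, rfl⟩ _ ⟨y, hy, g', rfl⟩
    rw [← Set.image_pair, ← MonoidHom.map_closure]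
    rintro ⟨_, k, hk, rfl⟩
    have hk' : ι k ∈ Subgroup.closure ({ι (g * x * g⁻¹), ι (g' * y * g'⁻¹)} : Set G) := by
      rw [← Set.image_pair, ← MonoidHom.map_closure]
      exact Subgroup.mem_map_of_mem _ hk
    obtain ⟨e, he⟩ := quad_pair_pow' p P hP _ _ (hno _ _) (hι _) (hι _)
      (by
        rw [map_mul, map_mul, map_inv]
        exact quad_conj P (hι g) (hA x hx))
      (by
        rw [map_mul, map_mul, map_inv]
        exact quad_conj P (hι g') (hA y hy)) _ hk'
    refine ⟨e, ?_⟩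
    apply Subtype.ext
    show (f k) ^ p ^ e = 1
    rw [← map_pow]
    apply hker
    rw [map_pow]
    exact he
  have hpg := Cfsg.Agent.Lib.Helper5BaerSuzuki.isPGroup_closure K hK hpair
  have hn : (Subgroup.closure K).Normal :=
    ⟨fun n hn g => Cfsg.Agent.Lib.Helper5BaerSuzuki.conj_mem_closure (fun k hk => hK k hk g) hn⟩
  refine le_trans ?_ (Cfsg.Agent.Lib.Helper1Fitting.le_pCore hn hpg)
  rw [MonoidHom.map_closure, Subgroup.closure_le]
  rintro _ ⟨x, hx, rfl⟩
  exact Subgroup.subset_closure ⟨x, hx, 1, by simp⟩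

end Cfsg.Agent.Lib.Helper31Pair
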