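import Mathlib
import Cfsg.Agent.Lib.Helper31Pair
import Cfsg.Agent.Lib.Helper57Dickson5
import Cfsg.Agent.Lib.Helper13Section

set_option autoImplicit false

namespace Cfsg.Agent.Lib.Helper31Pair2
open Cfsg.Agent.Lib.Helper31Pair Cfsg.Agent.Lib.Helper46SL2 Cfsg.Agent.Lib.Helper57SL2U

local notation "SL2" => Matrix.SpecialLinearGroup (Fin 2)

/-- the natural action of `SL₂(F)` on column vectors -/
def act {F : Type*} [Field F] (M : SL2 F) (c : Fin 2 → F) : Fin 2 → F :=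
  ![M 0 0 * c 0 + M 0 1 * c 1, M 1 0 * c 0 + M 1 1 * c 1]

theorem act_one {F : Type*} [Field F] (c : Fin 2 → F) : act (1 : SL2 F) c = c := by
  ext i
  fin_cases i <;> simp [act]

theorem act_mul {F : Type*} [Field F] (M N : SL2 F) (c : Fin 2 → F) :
    act (M * N) c = act M (act N c) := by
  ext i
  fin_cases i <;> simp [act, mul_00, mul_01, mul_10, mul_11] <;> ring

theorem act_add {F : Type*} [Field F] (M : SL2 F) (c d : Fin 2 → F) :
    act M (c + d) = act M c + act M d := by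
  ext i
  fin_cases i <;> simp [act] <;> ring

theorem eq_one_of_act {F : Type*} [Field F] {M : SL2 F} (h : ∀ c, act M c = c) : M = 1 := by
  have h0 := h ![1, 0]
  have h1 := h ![0, 1]
  apply ext2
  · simpa [act] using congrFun h0 0
  · simpa [act] using congrFun h1 0
  · simpa [act] using congrFun h0 1
  · simpa [act] using congrFun h1 1

/-- The group `⟨x, y⟩` of a quadratic pair maps to `SL₂(F)`, compatibly with the action on the
section of `P`. -/
theorem QPair.exists_hom {p : ℕ} {G : Type*} [Group G] {P : Subgroup G} {x y : G}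
    (h : QPair p P x y) :
    ∃ (F : Type) (_ : Field F) (_ : Finite F) (_ : CharP F p) (l₀ : F)
      (R : Subgroup (G × Multiplicative (Fin 2 → F)))
      (φ : Subgroup.closure ({x, y} : Set G) →* SL2 F),
      l₀ ≠ 0 ∧ (∀ v c, (v, c) ∈ R → v ∈ P) ∧ (∀ c, ((1 : G), c) ∈ R → c = 1) ∧
      (∀ c, ∃ v, (v, c) ∈ R) ∧
      (∀ (g : Subgroup.closure ({x, y} : Set G)) v c, (v, Multiplicative.ofAdd c) ∈ R ↔
        ((g : G) * v * (g : G)⁻¹, Multiplicative.ofAdd (act (φ g) c)) ∈ R) ∧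
      φ ⟨x, Subgroup.subset_closure (by simp)⟩ = u l₀ ∧
      φ ⟨y, Subgroup.subset_closure (by simp)⟩ = l 1 := by
  obtain ⟨F, i1, i2, i3, l₀, R, hl, h1, h2, h3, h4, h5⟩ := h
  let 𝒢 : Subgroup (G × SL2 F) :=
    { carrier := {gM | ∀ v c, (v, Multiplicative.ofAdd c) ∈ R ↔
        (gM.1 * v * gM.1⁻¹, Multiplicative.ofAdd (act gM.2 c)) ∈ R}
      one_mem' := by
        intro v c
        simp [act_one]
      mul_mem' := by
        intro a b ha hb v c
        rw [hb v c, ha]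
        have e1 : a.1 * (b.1 * v * b.1⁻¹) * a.1⁻¹ = (a * b).1 * v * (a * b).1⁻¹ := by
          rw [Prod.fst_mul]; group
        rw [e1, ← act_mul, Prod.snd_mul]
      inv_mem' := by
        intro a ha v c
        rw [ha (a⁻¹.1 * v * a⁻¹.1⁻¹)]
        have e1 : a.1 * (a⁻¹.1 * v * a⁻¹.1⁻¹) * a.1⁻¹ = v := by
          rw [Prod.fst_inv]; group
        rw [e1, ← act_mul, Prod.snd_inv, mul_inv_cancel, act_one] }
  have hmem : ∀ gM : G × SL2 F, gM ∈ 𝒢 ↔ ∀ v c, (v, Multiplicative.ofAdd c) ∈ R ↔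
        (gM.1 * v * gM.1⁻¹, Multiplicative.ofAdd (act gM.2 c)) ∈ R :=
    fun _ => Iff.rfl
  have hxG : (x, u l₀) ∈ 𝒢 := by
    rw [hmem]; intro v c
    rw [h4]
    simp [act]
  have hyG : (y, l 1) ∈ 𝒢 := by
    rw [hmem]; intro v c
    rw [h5]
    simp [act]
  let π₁ : 𝒢 →* G := (MonoidHom.fst G (SL2 F)).comp 𝒢.subtype
  let π₂ : 𝒢 →* SL2 F := (MonoidHom.snd G (SL2 F)).comp 𝒢.subtype
  have hπ₁ : Function.Injective π₁ := by
    rw [injective_iff_map_eq_one]
    rintro ⟨⟨k, M⟩, hM⟩ hk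
    have hk : k = 1 := hk
    subst hk
    have : M = 1 := by
      apply eq_one_of_act
      intro c
      obtain ⟨v, hv⟩ := h3 (Multiplicative.ofAdd c)
      have h6 := ((hmem _).1 hM v _).1 hv
      simp only [one_mul, inv_one, mul_one] at h6
      have h7 := R.mul_mem h6 (R.inv_mem hv)
      simp only [Prod.inv_mk, Prod.mk_mul_mk, mul_inv_cancel] at h7
      have h8 := h2 _ h7
      rw [mul_inv_eq_one] at h8
      exact Multiplicative.ofAdd.injective h8
    subst this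
    rfl
  have hle : Subgroup.closure ({x, y} : Set G) ≤ π₁.range := by
    rw [Subgroup.closure_le]
    rintro g (rfl | hg)
    · exact ⟨⟨_, hxG⟩, rfl⟩
    · rw [Set.mem_singleton_iff] at hg
      subst hg
      exact ⟨⟨_, hyG⟩, rfl⟩
  let φ : Subgroup.closure ({x, y} : Set G) →* SL2 F :=
    (π₂.comp (MonoidHom.ofInjective hπ₁).symm.toMonoidHom).comp (Subgroup.inclusion hle)
  have hφ : ∀ (s : 𝒢) (g : Subgroup.closure ({x, y} : Set G)), π₁ s = g → φ g = s.1.2 := by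
    intro s g hs
    show π₂ ((MonoidHom.ofInjective hπ₁).symm (Subgroup.inclusion hle g)) = s.1.2
    have : (MonoidHom.ofInjective hπ₁).symm (Subgroup.inclusion hle g) = s := by
      rw [MulEquiv.symm_apply_eq]
      apply Subtype.ext
      rw [MonoidHom.ofInjective_apply]
      exact hs.symm
    rw [this]
    rfl
  refine ⟨F, i1, i2, i3, l₀, R, φ, hl, h1, h2, h3, ?_, hφ ⟨_, hxG⟩ _ rfl, hφ ⟨_, hyG⟩ _ rfl⟩
  intro g v c
  obtain ⟨s, hs⟩ := hle g.2
  rw [hφ s g hs, ← hs]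
  exact (hmem _).1 s.2 v c


theorem u_l_noncomm {F : Type*} [Field F] {l₀ : F} (hl : l₀ ≠ 0) :
    (u l₀ : SL2 F) * l 1 ≠ l 1 * u l₀ := by
  intro h
  have := congrArg (fun M : SL2 F => M 0 0) h
  simp [mul_00] at this
  exact hl this

/-- A quadratic pair gives a section of `⟨x, y⟩` isomorphic to `SL₂(p)` (Dickson). -/
theorem QPair.exists_section {p : ℕ} [Fact p.Prime] (hp : p ≠ 2) {G : Type*} [Group G]
    {P : Subgroup G} {x y : G} (h : QPair p P x y) :
    ∃ (K L : Subgroup G) (_ : (L.subgroupOf K).Normal), K ≤ Subgroup.closure ({x, y} : Set G) ∧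
      Nonempty ((K ⧸ L.subgroupOf K) ≃* SL2 (ZMod p)) := by
  obtain ⟨F, i1, i2, i3, l₀, R, φ, hl, -, -, -, -, hx, hy⟩ := QPair.exists_hom h
  obtain ⟨K₀, hK₀, ⟨e⟩⟩ := Cfsg.Agent.Lib.Helper57Dickson.good_of_noncomm (p := p) hp φ.range
    (x := u l₀) (y := l 1) ⟨_, hx⟩ ⟨_, hy⟩ (by simp [tr]; norm_num) (by simp [tr]; norm_num)
    (u_l_noncomm hl)
  have hmap : (K₀.comap φ).map φ = K₀ := Subgroup.map_comap_eq_self hK₀
  exact Cfsg.Agent.Lib.Helper13Section.exists_section _ φ (K₀.comap φ)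
    ((MulEquiv.subgroupCongr hmap).trans e)

end Cfsg.Agent.Lib.Helper31Pair2
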