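import Mathlib
import Cfsg.Agent.Lib.Helper44Law

set_option autoImplicit false

namespace Cfsg.Agent.Lib.Helper44LawSL2

open Matrix Cfsg.Agent.Lib.Helper44Law

variable {F : Type*} [Field F]

def Pm (u v : ℕ → F) (k : ℕ) : Matrix (Fin 2) (Fin 2) F := !![1, 1; u k, v k]

def Pm' (u v : ℕ → F) (k : ℕ) : Matrix (Fin 2) (Fin 2) F :=
  (v k - u k)⁻¹ • !![v k, -1; -u k, 1]

def idx2 : Bool → Fin 2 := fun b => cond b 0 1

def e2 : Bool → Fin 2 → ℕ := fun b => cond b ![2, 0] ![0, 2]

def δ2 (t : F) : Bool → Fin 2 → F := fun b => cond b ![t, t⁻¹] ![t⁻¹, t]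

theorem Pm'_mul (u v : ℕ → F) (k l : ℕ) :
    Pm' u v k * Pm u v l = (v k - u k)⁻¹ • !![v k - u l, v k - v l; u l - u k, v l - u k] := by
  simp only [Pm, Pm', Matrix.smul_mul]
  congr 1
  ext i j
  fin_cases i <;> fin_cases j <;> simp [Matrix.mul_apply, Fin.sum_univ_two] <;> ring

theorem Pm'_mul_self (u v : ℕ → F) (k : ℕ) (h : u k ≠ v k) : Pm' u v k * Pm u v k = 1 := by
  have h' : v k - u k ≠ 0 := sub_ne_zero.mpr h.symm
  rw [Pm'_mul]
  ext i j
  fin_cases i <;> fin_cases j <;> simp [h']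

theorem Pm_mul_self (u v : ℕ → F) (k : ℕ) (h : u k ≠ v k) : Pm u v k * Pm' u v k = 1 :=
  mul_eq_one_comm.mp (Pm'_mul_self u v k h)

theorem δ2_mul (t : F) (ht : t ≠ 0) (b : Bool) :
    Matrix.diagonal (δ2 t b) * Matrix.diagonal (δ2 t (!b)) = 1 := by
  rw [Matrix.diagonal_mul_diagonal]
  ext i j
  cases b <;> fin_cases i <;> fin_cases j <;> simp [δ2, ht]

theorem det_letter (u v : ℕ → F) (t : F) (ht : t ≠ 0) (x : ℕ × Bool) (h : u x.1 ≠ v x.1) :
    (letterMat (Pm u v) (Pm' u v) (δ2 t) x).det = 1 := by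
  have h1 : (Pm u v x.1).det * (Pm' u v x.1).det = 1 := by
    rw [← Matrix.det_mul, Pm_mul_self u v _ h, Matrix.det_one]
  have h2 : (Matrix.diagonal (δ2 t x.2)).det = 1 := by
    rw [Matrix.det_diagonal, Fin.prod_univ_two]
    cases x.2 <;> simp [δ2, ht]
  rw [letterMat, Matrix.det_mul, Matrix.det_mul, h2, mul_one, h1]

theorem letter_mul (u v : ℕ → F) (t : F) (ht : t ≠ 0) (k : ℕ) (b : Bool) (h : u k ≠ v k) :
    letterMat (Pm u v) (Pm' u v) (δ2 t) (k, b) * letterMat (Pm u v) (Pm' u v) (δ2 t) (k, !b) = 1 := by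
  simp only [letterMat]
  calc Pm u v k * diagonal (δ2 t b) * Pm' u v k * (Pm u v k * diagonal (δ2 t !b) * Pm' u v k)
      = Pm u v k * (diagonal (δ2 t b) * (Pm' u v k * Pm u v k) * diagonal (δ2 t !b)) * Pm' u v k := by
        simp only [Matrix.mul_assoc]
    _ = 1 := by
        rw [Pm'_mul_self u v k h, Matrix.mul_one, δ2_mul t ht, Matrix.mul_one, Pm_mul_self u v k h]

/-- the coercion as a monoid hom -/
def coeHom2 : Matrix.SpecialLinearGroup (Fin 2) F →* Matrix (Fin 2) (Fin 2) F where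
  toFun := fun g => (g : Matrix (Fin 2) (Fin 2) F)
  map_one' := Matrix.SpecialLinearGroup.coe_one
  map_mul' := Matrix.SpecialLinearGroup.coe_mul

theorem sl2_law_fails (w : FreeGroup ℕ) (hw : w ≠ 1) :
    ∃ N : ℕ, ∀ (F : Type*) [Field F] [Fintype F], N ≤ Fintype.card F →
      ∃ g : ℕ → Matrix.SpecialLinearGroup (Fin 2) F,
        ((FreeGroup.lift g w : Matrix.SpecialLinearGroup (Fin 2) F) : Matrix (Fin 2) (Fin 2) F) 0 1 ≠ 0 := by
  classical
  set L := w.toWord with hL
  have hLne : L ≠ [] := by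
    rw [hL, Ne, FreeGroup.toWord_eq_nil_iff]; exact hw
  set K := (L.map Prod.fst).toFinset.sup id + 1 with hK
  refine ⟨2 * L.length + 2 * K + 2, ?_⟩
  intro F _ _ hcard
  set q := Fintype.card F with hq
  have hq0 : 0 < q := by omega
  let eqv : F ≃ Fin q := Fintype.equivFin F
  let β : ℕ → F := fun i => eqv.symm ⟨i % q, Nat.mod_lt _ hq0⟩
  have hβ : ∀ i j, β i = β j → i % q = j % q := by
    intro i j hij
    have := eqv.symm.injective hij
    simpa using this
  have hβ' : ∀ i j, i < 2 * K → j < 2 * K → i ≠ j → β i ≠ β j := by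
    intro i j hi hj hij h
    have := hβ i j h
    rw [Nat.mod_eq_of_lt (by omega), Nat.mod_eq_of_lt (by omega)] at this
    exact hij this
  let u : ℕ → F := fun k => β (2 * k)
  let v : ℕ → F := fun k => β (2 * k + 1)
  have huv : ∀ k, u k ≠ v k := by
    intro k h
    have h1 := hβ _ _ h
    have h2 := Nat.sub_mod_eq_zero_of_mod_eq h1.symm
    have h3 : 2 * k + 1 - 2 * k = 1 := by omega
    rw [h3, Nat.mod_eq_of_lt (by omega)] at h2
    exact one_ne_zero h2
  have hS : ∀ y ∈ L, y.1 ∈ {k | k < K} := by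
    intro y hy
    have : y.1 ∈ (L.map Prod.fst).toFinset := by
      simp only [List.mem_toFinset, List.mem_map]
      exact ⟨y, hy, rfl⟩
    have := Finset.le_sup (f := id) this
    simp only [id] at this
    simp only [Set.mem_ofPred_eq]
    omega
  obtain ⟨t, ht, hne⟩ := exists_entry_ne_zero (Pm u v) (Pm' u v) e2 0 1 idx2 2 1 {k | k < K} δ2
    (by
      intro t ht b i
      cases b <;> fin_cases i <;> simp [e2, δ2, ht, pow_two])
    (by
      intro b i hi
      cases b <;> fin_cases i <;> simp_all [e2, idx2])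
    (by
      intro b
      cases b <;> simp [e2, idx2])
    (by
      intro k _ b
      cases b <;> simp [Pm, idx2])
    (by
      intro k _ b
      have h' : v k - u k ≠ 0 := sub_ne_zero.mpr (huv k).symm
      cases b <;> simp [Pm', idx2, h'])
    (by
      intro k hk l hl b b' hbb
      simp only [Set.mem_ofPred_eq] at hk hl
      have h' : v k - u k ≠ 0 := sub_ne_zero.mpr (huv k).symm
      by_cases hkl : k = l
      · subst hkl
        rw [Pm'_mul_self u v k (huv k), hbb rfl]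
        simp
      · rw [Pm'_mul]
        have h1 : v k - u l ≠ 0 := sub_ne_zero.mpr (hβ' _ _ (by omega) (by omega) (by omega))
        have h2 : v k - v l ≠ 0 := sub_ne_zero.mpr (hβ' _ _ (by omega) (by omega) (by omega))
        have h3 : u l - u k ≠ 0 := sub_ne_zero.mpr (hβ' _ _ (by omega) (by omega) (by omega))
        have h4 : v l - u k ≠ 0 := sub_ne_zero.mpr (hβ' _ _ (by omega) (by omega) (by omega))
        cases b <;> cases b' <;> simp [idx2, h', h1, h2, h3, h4])
    L hLne FreeGroup.isReduced_toWord hS (by omega)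
  let g : ℕ → Matrix.SpecialLinearGroup (Fin 2) F := fun k =>
    ⟨letterMat (Pm u v) (Pm' u v) (δ2 t) (k, true), det_letter u v t ht _ (huv k)⟩
  refine ⟨g, ?_⟩
  let g' : ℕ → Matrix.SpecialLinearGroup (Fin 2) F := fun k =>
    ⟨letterMat (Pm u v) (Pm' u v) (δ2 t) (k, false), det_letter u v t ht _ (huv k)⟩
  have hinv : ∀ k, (g k)⁻¹ = g' k := by
    intro k
    apply inv_eq_of_mul_eq_one_right
    apply Subtype.ext
    exact letter_mul u v t ht k true (huv k)
  have key := lift_eq_prod (coeHom2 (F := F)) (Pm u v) (Pm' u v) (δ2 t) g (fun k => rfl)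
    (fun k => by rw [hinv k]; rfl) L
  rw [hL, FreeGroup.mk_toWord] at key
  have : ((FreeGroup.lift g w : Matrix.SpecialLinearGroup (Fin 2) F) : Matrix (Fin 2) (Fin 2) F)
      = (List.map (letterMat (Pm u v) (Pm' u v) (δ2 t)) w.toWord).prod := key
  rw [this]
  exact hne

end Cfsg.Agent.Lib.Helper44LawSL2
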