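import Mathlib
import Cfsg.Agent.Lib.Helper44Law
import Cfsg.Agent.Lib.Helper44LawSL2

set_option autoImplicit false

namespace Cfsg.Agent.Lib.Helper44LawNC

open Matrix Cfsg.Agent.Lib.Helper44Law Cfsg.Agent.Lib.Helper44LawSL2

/-- some substitution into `w` gives a non-central value in `S` -/
def NC {α : Type*} (w : FreeGroup α) (S : Type*) [Group S] : Prop :=
  ∃ g : α → S, FreeGroup.lift g w ∉ Subgroup.center S

theorem lift_comp {α H S : Type*} [Group H] [Group S] (ψ : H →* S) (g : α → H)
    (w : FreeGroup α) : FreeGroup.lift (fun k => ψ (g k)) w = ψ (FreeGroup.lift g w) := by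
  symm
  apply FreeGroup.lift_unique (ψ.comp (FreeGroup.lift g))
  intro x
  simp

theorem NC.of_injective {α H S : Type*} [Group H] [Group S] {w : FreeGroup α} (h : NC w H)
    (ψ : H →* S) (hψ : Function.Injective ψ) : NC w S := by
  obtain ⟨g, hg⟩ := h
  refine ⟨fun k => ψ (g k), ?_⟩
  rw [lift_comp]
  intro hc
  apply hg
  rw [Subgroup.mem_center_iff] at hc ⊢
  intro x
  apply hψ
  rw [map_mul, map_mul]
  exact hc (ψ x)

theorem NC.ne_one {α S : Type*} [Group S] {w : FreeGroup α} (h : NC w S) :
    ∃ g : α → S, FreeGroup.lift g w ≠ 1 := by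
  obtain ⟨g, hg⟩ := h
  refine ⟨g, fun h1 => hg ?_⟩
  rw [h1]
  exact one_mem _

theorem NC.law_fails {α G S : Type*} [Group G] [Group S] {w : FreeGroup α} (h : NC w S)
    (e : G ≃* S ⧸ Subgroup.center S) : ∃ f : α → G, FreeGroup.lift f w ≠ 1 := by
  obtain ⟨g, hg⟩ := h
  refine ⟨fun k => e.symm (QuotientGroup.mk (g k)), ?_⟩
  have h1 := lift_comp (e.symm.toMonoidHom.comp (QuotientGroup.mk' (Subgroup.center S))) g w
  have h2 : FreeGroup.lift (fun k => e.symm (QuotientGroup.mk (g k))) w =
      e.symm (QuotientGroup.mk (FreeGroup.lift g w)) := h1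
  rw [h2]
  intro h3
  apply hg
  have h4 : (QuotientGroup.mk (FreeGroup.lift g w) : S ⧸ Subgroup.center S) = 1 := by
    have := congrArg e h3
    simpa using this
  exact (QuotientGroup.eq_one_iff _).mp h4

theorem NC.commutator {α H O : Type*} [Group H] [Group O] {w : FreeGroup α} (h : NC w H)
    (hperf : _root_.commutator H = ⊤) (ψ : H →* O) (hψ : Function.Injective ψ) :
    NC w (_root_.commutator O) := by
  have hmem : ∀ x, ψ x ∈ _root_.commutator O := by
    intro x
    have hx : x ∈ _root_.commutator H := by rw [hperf]; trivial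
    have h1 : ψ x ∈ (_root_.commutator H).map ψ := Subgroup.mem_map_of_mem ψ hx
    rw [commutator_def, Subgroup.map_commutator] at h1
    exact Subgroup.commutator_mono le_top le_top h1
  refine h.of_injective (ψ.codRestrict _ hmem) ?_
  intro x y hxy
  apply hψ
  exact congrArg Subtype.val hxy

/-- a hom from a perfect group to a commutative monoid is trivial -/
theorem perfect_hom_trivial {H M : Type*} [Group H] [CommMonoid M]
    (hperf : _root_.commutator H = ⊤) (f : H →* M) (x : H) : f x = 1 := by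
  have h1 : _root_.commutator H ≤ f.toHomUnits.ker := Abelianization.commutator_subset_ker _
  have hx : x ∈ f.toHomUnits.ker := h1 (by rw [hperf]; trivial)
  rw [MonoidHom.mem_ker] at hx
  have := congrArg Units.val hx
  simpa using this

theorem NC_sl2 (w : FreeGroup ℕ) (hw : w ≠ 1) :
    ∃ N : ℕ, ∀ (F : Type*) [Field F] [Fintype F], N ≤ Fintype.card F →
      NC w (Matrix.SpecialLinearGroup (Fin 2) F) := by
  obtain ⟨N, hN⟩ := sl2_law_fails w hw
  refine ⟨N, ?_⟩
  intro F _ _ hcard
  obtain ⟨g, hg⟩ := hN F hcard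
  refine ⟨g, ?_⟩
  intro h
  rw [Matrix.SpecialLinearGroup.mem_center_iff] at h
  obtain ⟨r, _, hr⟩ := h
  apply hg
  rw [← hr]
  simp

theorem sl2_perfect (F : Type*) [Field F] [Fintype F] (hF : 4 ≤ Fintype.card F) :
    _root_.commutator (Matrix.SpecialLinearGroup (Fin 2) F) = ⊤ := by
  classical
  obtain ⟨x, hx⟩ : IsCyclic Fˣ := by infer_instance
  have h1 : orderOf x = Fintype.card F - 1 := by
    rw [orderOf_eq_card_of_forall_mem_zpowers hx, Nat.card_eq_fintype_card, Fintype.card_units]
  apply Matrix.SL2.commutator_eq_top (a := (x : F)) (Units.ne_zero x)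
  intro h
  have h2 : x ^ 2 = 1 := Units.ext (by simpa using h)
  have h3 := orderOf_le_of_pow_eq_one zero_lt_two h2
  omega

end Cfsg.Agent.Lib.Helper44LawNC
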