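import Mathlib
import Cfsg.Prelude.Def_PLocal
import Cfsg.Prelude.Def_LocalEven
import Cfsg.Agent.Lib.Helper31Pair2
import Cfsg.Agent.Lib.Helper13SL2
import Cfsg.Agent.Lib.Helper14PSolvQ
import Cfsg.Agent.Lib.Helper14PSolvS
import Cfsg.Agent.Lib.Helper44LawNC

set_option autoImplicit false

namespace Cfsg.Agent.Lib.Helper31Pair3
open scoped commutatorElement
open Cfsg Cfsg.Agent.Lib.Helper31Pair Cfsg.Agent.Lib.Helper31Pair2 Cfsg.Agent.Lib.Helper46SL2
  Cfsg.Agent.Lib.Helper57SL2U

local notation "SL2" => Matrix.SpecialLinearGroup (Fin 2)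

/-- `G` has no quadratic pair for the prime `p`. -/
def NoQP (p : ℕ) (G : Type*) [Group G] : Prop := ∀ (P : Subgroup G) (x y : G), ¬ QPair p P x y

theorem NoQP.of_injective {p : ℕ} {H G : Type*} [Group H] [Group G] (ι : H →* G)
    (hι : Function.Injective ι) (h : NoQP p G) : NoQP p H :=
  fun _ _ _ hq => h _ _ _ (hq.map ι hι)

theorem NoQP.of_surjective {p : ℕ} {Q G : Type*} [Group Q] [Group G] (f : G →* Q)
    (hf : Function.Surjective f) (h : NoQP p G) : NoQP p Q := by
  intro P x y hq
  obtain ⟨x', rfl⟩ := hf x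
  obtain ⟨y', rfl⟩ := hf y
  exact h (P.comap f) x' y' (QPair.comap f hf (fun v hv => hv) hq)

theorem NoQP.subgroup {p : ℕ} {G : Type*} [Group G] (h : NoQP p G) (H : Subgroup G) : NoQP p H :=
  h.of_injective H.subtype H.subtype_injective

theorem NoQP.quotient {p : ℕ} {G : Type*} [Group G] (h : NoQP p G) (N : Subgroup G) [N.Normal] :
    NoQP p (G ⧸ N) :=
  h.of_surjective (QuotientGroup.mk' N) (QuotientGroup.mk'_surjective N)

theorem noQP_of_not_involves {p : ℕ} [Fact p.Prime] (hp : p ≠ 2) {G : Type*} [Group G]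
    (h : ¬ Involves (SL2 (ZMod p)) G) : NoQP p G := by
  intro P x y hq
  obtain ⟨K, L, hL, -, e⟩ := QPair.exists_section hp hq
  exact h ⟨K, L, hL, e⟩

/-! ### abelian Sylow 2-subgroups -/

theorem noQP_of_abelian_sylow {p : ℕ} [Fact p.Prime] (hp : p ≠ 2) {G : Type*} [Group G] [Finite G]
    (hab : ∀ T : Sylow 2 G, IsMulCommutative T) : NoQP p G := by
  intro P x y hq
  obtain ⟨F, i1, i2, i3, l₀, R, φ, hl, -, -, -, -, hx, hy⟩ := QPair.exists_hom hq
  have hgen : ∀ N : Subgroup φ.range, (∀ s : φ.range, s ^ p = 1 → s ∈ N) → N = ⊤ := by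
    intro N hN
    have h1 : (N.comap φ.rangeRestrict).map (Subgroup.closure ({x, y} : Set G)).subtype
        = Subgroup.closure ({x, y} : Set G) := by
      apply le_antisymm (Subgroup.map_subtype_le _)
      rw [Subgroup.closure_le]
      rintro g (rfl | hg)
      · refine ⟨⟨g, Subgroup.subset_closure (by simp)⟩, ?_, rfl⟩
        show φ.rangeRestrict _ ∈ N
        apply hN
        apply Subtype.ext
        show (φ _) ^ p = 1
        rw [hx]
        exact pow_char_eq_one (by simp [tr]; norm_num)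
      · rw [Set.mem_singleton_iff] at hg
        subst hg
        refine ⟨⟨g, Subgroup.subset_closure (by simp)⟩, ?_, rfl⟩
        show φ.rangeRestrict _ ∈ N
        apply hN
        apply Subtype.ext
        show (φ _) ^ p = 1
        rw [hy]
        exact pow_char_eq_one (by simp [tr]; norm_num)
    rw [eq_top_iff]
    intro s _
    obtain ⟨z, rfl⟩ := φ.rangeRestrict_surjective s
    have h2 : (z : G) ∈ (N.comap φ.rangeRestrict).map
        (Subgroup.closure ({x, y} : Set G)).subtype := by rw [h1]; exact z.2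
    obtain ⟨z', hz', hzz⟩ := h2
    have : z' = z := Subtype.ext hzz
    rw [← this]
    exact hz'
  obtain ⟨T₀⟩ : Nonempty (Sylow 2 (Subgroup.closure ({x, y} : Set G))) := inferInstance
  obtain ⟨T, hT⟩ := (T₀.2.map (Subgroup.closure ({x, y} : Set G)).subtype).exists_le_sylow
  have hTc := hab T
  have hP := Cfsg.Agent.Lib.Helper13SL2.isPGroup_of_abelian_sylow_two (p := p) φ.range hp hgen
    (T₀.mapSurjective φ.rangeRestrict_surjective) (by
      intro a b ha hb
      have ha' : a ∈ (T₀ : Subgroup _).map φ.rangeRestrict := ha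
      have hb' : b ∈ (T₀ : Subgroup _).map φ.rangeRestrict := hb
      obtain ⟨s, hs, rfl⟩ := ha'
      obtain ⟨t, ht, rfl⟩ := hb'
      rw [← map_mul, ← map_mul]
      congr 1
      apply Subtype.ext
      have h1 : (s : G) ∈ T := hT ⟨s, hs, rfl⟩
      have h2 : (t : G) ∈ T := hT ⟨t, ht, rfl⟩
      have h3 := congrArg Subtype.val (mul_comm' (⟨s, h1⟩ : T) ⟨t, h2⟩)
      exact h3)
  obtain ⟨k, hk⟩ := hP ⟨u l₀ * l 1, by
    rw [← hx, ← hy, ← map_mul]
    exact ⟨_, rfl⟩⟩
  have h3 : (u l₀ * l 1 : SL2 F) ^ p ^ k = 1 := congrArg Subtype.val hk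
  have h4 := tr_eq_two_of_pow (p := p) h3
  simp [tr, mul_00, mul_11] at h4
  apply hl
  linear_combination h4


/-! ### `p`-solvable groups, `p ≥ 5` -/

theorem eq_top_of_index_pow {T : Type*} [Group T] [Finite T] {p : ℕ} [Fact p.Prime]
    (hperf : _root_.commutator T = ⊤) (N : Subgroup T) [N.Normal] {m : ℕ} (h : N.index = p ^ m) :
    N = ⊤ := by
  have hpg : IsPGroup p (T ⧸ N) := IsPGroup.of_card (n := m) (by rw [← h]; rfl)
  have hnil : Group.IsNilpotent (T ⧸ N) := hpg.isNilpotent
  have hsol : Group.IsSolvable (T ⧸ N) := inferInstance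
  by_contra hne
  have hnt : Nontrivial (T ⧸ N) := QuotientGroup.nontrivial_iff.2 hne
  have h1 := Group.IsSolvable.commutator_lt_top_of_nontrivial (T ⧸ N)
  apply h1.ne
  have h2 : (_root_.commutator T).map (QuotientGroup.mk' N) = _root_.commutator (T ⧸ N) := by
    rw [commutator_def, commutator_def, Subgroup.map_commutator, ← MonoidHom.range_eq_map,
      MonoidHom.range_eq_top.2 (QuotientGroup.mk'_surjective N)]
  rw [← h2, hperf, ← MonoidHom.range_eq_map, MonoidHom.range_eq_top.2 (QuotientGroup.mk'_surjective N)]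

theorem mem_of_index_coprime {T : Type*} [Group T] [Finite T] {p : ℕ}
    (N : Subgroup T) [N.Normal] (h : N.index.Coprime p) {t : T} (ht : t ^ p = 1) : t ∈ N := by
  rw [← QuotientGroup.eq_one_iff]
  have h1 : ((t : T ⧸ N)) ^ p = 1 := by rw [← QuotientGroup.mk_pow, ht]; rfl
  have h2 : ((t : T ⧸ N)) ^ N.index = 1 := by
    rw [Subgroup.index_eq_card]; exact pow_card_eq_one'
  have h3 := orderOf_dvd_of_pow_eq_one h1
  have h4 := orderOf_dvd_of_pow_eq_one h2
  have := Nat.dvd_gcd h4 h3
  rw [Nat.Coprime.gcd_eq_one h] at this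
  exact orderOf_eq_one_iff.1 (Nat.dvd_one.1 this)

theorem not_isPSolvable_of_perfect {T : Type*} [Group T] [Finite T] [Nontrivial T] {p : ℕ}
    [Fact p.Prime] (hperf : _root_.commutator T = ⊤)
    (hgen : Subgroup.closure {t : T | t ^ p = 1} = ⊤) : ¬ IsPSolvable p T := by
  rintro ⟨n, H, h0, hn, hmono, hnorm, hfac⟩
  have hall : ∀ k : ℕ, ∀ hk : k ≤ n, H ⟨n - k, by omega⟩ = ⊤ := by
    intro k
    induction k with
    | zero => intro hk; exact hn
    | succ k ih =>
      intro hk
      have h1 : H ⟨n - k, by omega⟩ = ⊤ := ih (by omega)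
      have h2 := hfac ⟨n - (k + 1), by omega⟩
      have h3 : (Fin.succ ⟨n - (k + 1), by omega⟩ : Fin (n + 1)) = ⟨n - k, by omega⟩ := by
        apply Fin.ext
        simp only [Fin.succ_mk]
        omega
      have h4 : (Fin.castSucc ⟨n - (k + 1), by omega⟩ : Fin (n + 1)) = ⟨n - (k + 1), by omega⟩ := rfl
      rw [h3, h4, h1, Subgroup.relIndex_top_right] at h2
      have := hnorm ⟨n - (k + 1), by omega⟩
      rcases h2 with ⟨m, hm⟩ | hc
      · exact eq_top_of_index_pow hperf _ hm
      · rw [eq_top_iff, ← hgen, Subgroup.closure_le]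
        intro t ht
        exact mem_of_index_coprime _ hc ht
  have h5 := hall n le_rfl
  have h6 : (⟨n - n, by omega⟩ : Fin (n + 1)) = 0 := by
    apply Fin.ext
    simp
  rw [h6, h0] at h5
  exact bot_ne_top h5

theorem not_isPSolvable_SL2 {p : ℕ} [Fact p.Prime] (hp : 5 ≤ p) :
    ¬ IsPSolvable p (SL2 (ZMod p)) := by
  have hnt : Nontrivial (SL2 (ZMod p)) := by
    refine ⟨u 1, 1, ?_⟩
    intro h
    have := congrArg (fun M : SL2 (ZMod p) => M 0 1) h
    simp at this
  apply not_isPSolvable_of_perfect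
  · exact Cfsg.Agent.Lib.Helper44LawNC.sl2_perfect (ZMod p) (by rw [ZMod.card]; omega)
  · rw [eq_top_iff, ← Cfsg.Agent.Lib.Helper6Transport.closure_SL2_zmod p]
    apply Subgroup.closure_mono
    rintro t (rfl | rfl)
    · apply pow_char_eq_one (p := p)
      simp [tr, Matrix.SpecialLinearGroup.transvection, Matrix.transvection]
      norm_num
    · apply pow_char_eq_one (p := p)
      simp [tr, Matrix.SpecialLinearGroup.transvection, Matrix.transvection]
      norm_num

theorem noQP_of_isPSolvable {p : ℕ} [Fact p.Prime] (hp : 5 ≤ p) {G : Type*} [Group G]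
    (hsep : IsPSolvable p G) : NoQP p G := by
  intro P x y hq
  obtain ⟨K, L, hL, -, ⟨e⟩⟩ := QPair.exists_section (by omega) hq
  apply not_isPSolvable_SL2 hp
  exact Cfsg.Agent.Lib.Helper14PSolvQ.isPSolvable_of_surjective e.toMonoidHom e.surjective
    (Cfsg.Agent.Lib.Helper14PSolvQ.isPSolvable_quotient _
      (Cfsg.Agent.Lib.Helper14PSolvS.isPSolvable_subgroup K hsep))


/-! ### all forms of `p`-stability -/

theorem quad_of_zpowers {G : Type*} [Group G] {V : Subgroup G} {a : G}
    (ha : ⁅⁅V, Subgroup.zpowers a⁆, Subgroup.zpowers a⁆ = ⊥) : ∀ u ∈ V, ⁅⁅u, a⁆, a⁆ = 1 := by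
  intro u hu
  have hx' : a ∈ Subgroup.zpowers a := Subgroup.mem_zpowers a
  have h1 : ⁅⁅u, a⁆, a⁆ ∈ ⁅⁅V, Subgroup.zpowers a⁆, Subgroup.zpowers a⁆ :=
    Subgroup.commutator_mem_commutator (Subgroup.commutator_mem_commutator hu hx') hx'
  rw [ha, Subgroup.mem_bot] at h1
  exact h1

theorem NoQP.isPStableOn {G : Type*} [Group G] [Finite G] {p : ℕ} [Fact p.Prime]
    (hno : NoQP p G) (V : Subgroup G) [V.Normal] (hV : IsPGroup p V) :
    Cfsg.IsPStableOn p V := by
  intro a ha
  have key := map_le_pCore' p V hV (MonoidHom.id G)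
    (fun n => by rw [Subgroup.normalizer_eq_top]; exact Subgroup.mem_top _)
    (fun x y => hno _ _ _)
    (QuotientGroup.mk' (Subgroup.centralizer (V : Set G))) (QuotientGroup.mk'_surjective _) ?_
    {a} ?_
  · exact key ⟨a, Subgroup.subset_closure rfl, rfl⟩
  · intro n hn
    rw [QuotientGroup.mk'_apply, QuotientGroup.eq_one_iff, Subgroup.mem_centralizer_iff]
    intro u hu
    exact (hn u hu).symm
  · intro x hx u hu
    rw [Set.mem_singleton_iff] at hx
    subst hx
    exact quad_of_zpowers ha u hu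

theorem NoQP.map_le {G : Type*} [Group G] [Finite G] {p : ℕ} [Fact p.Prime]
    (hno : NoQP p G) (P A : Subgroup G) (hP : IsPGroup p P) (hquad : ⁅⁅P, A⁆, A⁆ = ⊥) :
    (A.subgroupOf (Subgroup.normalizer (P : Set G))).map
        (QuotientGroup.mk' ((Subgroup.centralizer (P : Set G)).subgroupOf (Subgroup.normalizer (P : Set G))))
      ≤ Cfsg.pCore p _ := by
  have key := map_le_pCore' p P hP
    (Subgroup.normalizer (P : Set G)).subtype (fun n => n.2) (fun x y => hno _ _ _)
    (QuotientGroup.mk' ((Subgroup.centralizer (P : Set G)).subgroupOf (Subgroup.normalizer (P : Set G))))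
    (QuotientGroup.mk'_surjective _) ?_
    ((A.subgroupOf (Subgroup.normalizer (P : Set G)) : Subgroup _) : Set _) ?_
  · rwa [Subgroup.closure_eq] at key
  · intro n hn
    rw [QuotientGroup.mk'_apply, QuotientGroup.eq_one_iff, Subgroup.mem_subgroupOf,
      Subgroup.mem_centralizer_iff]
    intro u hu
    exact (hn u hu).symm
  · intro x hx u hu
    have hx' : (x : G) ∈ A := Subgroup.mem_subgroupOf.1 hx
    have h1 : ⁅⁅u, (x : G)⁆, (x : G)⁆ ∈ ⁅⁅P, A⁆, A⁆ :=
      Subgroup.commutator_mem_commutator (Subgroup.commutator_mem_commutator hu hx') hx'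
    rw [hquad, Subgroup.mem_bot] at h1
    exact h1

theorem NoQP.isNormalizerPStable {G : Type*} [Group G] [Finite G] {p : ℕ} [Fact p.Prime]
    (hno : NoQP p G) : Cfsg.IsNormalizerPStable p G := by
  intro P hP g hg hq
  have key := hno.map_le P (Subgroup.zpowers g) hP hq
  apply key
  exact ⟨⟨g, hg⟩, Subgroup.mem_subgroupOf.2 (Subgroup.mem_zpowers g), rfl⟩

theorem NoQP.isPStableOnSection {G : Type*} [Group G] [Finite G] {p : ℕ} [Fact p.Prime]
    (hno : NoQP p G) (K N : Subgroup G) [N.Normal] [hKn : K.Normal] (hK : IsPGroup p K) :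
    Cfsg.IsPStableOnSection p K N := by
  intro a ha
  have hKn' : (K.map (QuotientGroup.mk' N)).Normal := hKn.map _ (QuotientGroup.mk'_surjective N)
  have hCn : (sectionKernel K N).Normal := by
    unfold sectionKernel
    infer_instance
  have key := map_le_pCore' p (K.map (QuotientGroup.mk' N)) (hK.map _) (QuotientGroup.mk' N)
    (fun n => by rw [Subgroup.normalizer_eq_top]; exact Subgroup.mem_top _)
    (fun x y => (hno.quotient N) _ _ _)
    (QuotientGroup.mk' (sectionKernel K N)) (QuotientGroup.mk'_surjective _) ?_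
    {a} ?_
  · refine ⟨(pCore p (G ⧸ sectionKernel K N)).comap (QuotientGroup.mk' (sectionKernel K N)),
      ?_, ?_, ?_, ?_⟩
    · have : (pCore p (G ⧸ sectionKernel K N)).Normal :=
        Cfsg.Agent.Lib.Helper1Fitting.pCore_normal p
      infer_instance
    · intro c hc
      rw [Subgroup.mem_comap, QuotientGroup.mk'_apply, (QuotientGroup.eq_one_iff c).2 hc]
      exact Subgroup.one_mem _
    · have h1 : (sectionKernel K N) = (QuotientGroup.mk' (sectionKernel K N)).ker :=
        (QuotientGroup.ker_mk' _).symm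
      have h2 : (sectionKernel K N).relIndex
          ((pCore p (G ⧸ sectionKernel K N)).comap (QuotientGroup.mk' (sectionKernel K N)))
          = Nat.card (pCore p (G ⧸ sectionKernel K N)) := by
        have h3 := Subgroup.relIndex_ker
          ((pCore p (G ⧸ sectionKernel K N)).comap (QuotientGroup.mk' (sectionKernel K N)))
          (QuotientGroup.mk' (sectionKernel K N))
        rw [Subgroup.map_comap_eq_self_of_surjective (QuotientGroup.mk'_surjective _), ← h1] at h3
        exact h3
      rw [h2]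
      exact (IsPGroup.iff_card.1 (Cfsg.Agent.Lib.Helper1Fitting.pCore_isPGroup p))
    · exact key ⟨a, Subgroup.subset_closure rfl, rfl⟩
  · intro n hn
    rw [QuotientGroup.mk'_apply, QuotientGroup.eq_one_iff]
    show QuotientGroup.mk' N n ∈ Subgroup.centralizer _
    rw [Subgroup.mem_centralizer_iff]
    intro u hu
    exact (hn u hu).symm
  · intro x hx u hu
    rw [Set.mem_singleton_iff] at hx
    subst hx
    obtain ⟨v, hv, rfl⟩ := hu
    rw [← map_commutatorElement, ← map_commutatorElement, QuotientGroup.mk'_apply,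
      QuotientGroup.eq_one_iff]
    apply ha
    have hx' : x ∈ Subgroup.zpowers x := Subgroup.mem_zpowers x
    exact Subgroup.commutator_mem_commutator (Subgroup.commutator_mem_commutator hv hx') hx'

theorem NoQP.isActionPStable {G : Type*} [Group G] [Finite G] {p : ℕ} [Fact p.Prime]
    (hno : NoQP p G) : Cfsg.IsActionPStable p G := by
  refine ⟨?_, ?_, ?_⟩
  · intro V _ hV
    apply hno.isPStableOn
    intro v
    refine ⟨1, ?_⟩
    apply Subtype.ext
    rw [pow_one]
    exact hV.2 v v.2
  · have : (pCore p G).Normal := Cfsg.Agent.Lib.Helper1Fitting.pCore_normal p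
    exact hno.isPStableOnSection _ _ (Cfsg.Agent.Lib.Helper1Fitting.pCore_isPGroup p)
  · intro S V _ hV
    apply (hno.subgroup _).isPStableOn
    have h1 : IsPGroup p (V.map (Subgroup.normalizer
        (thompsonSubgroupOf p (S : Subgroup G) : Set G)).subtype) :=
      S.2.to_le (hV.trans (Subgroup.map_subtype_le _))
    exact h1.of_equiv (V.equivMapOfInjective _ (Subgroup.subtype_injective _)).symm

end Cfsg.Agent.Lib.Helper31Pair3
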