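import Mathlib
import Cfsg.Agent.Lib.Helper39SecFusion
import Cfsg.Agent.Lib.Helper39Control
import Cfsg.Agent.Lib.Helper39SecTransport
import Cfsg.Agent.Lib.Helper31Pair3
import Cfsg.Agent.Lib.Helper31ZJe
import Cfsg.Agent.Lib.Helper24Thompson

set_option autoImplicit false

/-! `Z(J_e)` as an isomorphism invariant functor; `N(Z(J_e(S)))` controls strong fusion in groups without
quadratic pairs (in particular in `SL₂(p)`-free groups). -/

namespace Cfsg.Agent.Lib.Helper57ZJFus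

open Subgroup Cfsg
open Cfsg.Agent.Lib.Helper24Thompson Cfsg.Agent.Lib.Helper14Stable Cfsg.Agent.Lib.Helper39Sylow
  Cfsg.Agent.Lib.Helper39Control Cfsg.Agent.Lib.Helper39SecFusion Cfsg.Agent.Lib.Helper31Pair3

universe u

def fZJE (p : ℕ) : ∀ (Q : Type u) [Group Q], Subgroup Q :=
  fun Q _ => thompsonSubgroup p Q ⊓ centralizer (thompsonSubgroup p Q : Set Q)

theorem thompson_map {S S' : Type u} [Group S] [Group S'] {p : ℕ} (e : S ≃* S') :
    (thompsonSubgroup p S).map e.toMonoidHom = thompsonSubgroup p S' := by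
  apply le_antisymm (thompson_map_le e)
  intro x hx
  exact ⟨e.symm x, thompson_map_le e.symm ⟨x, hx, rfl⟩, by simp⟩

theorem isChar_fZJE (p : ℕ) [Fact p.Prime] : IsCharPFunctor.{u} p (fZJE p) := by
  apply isChar_of
  · intro Q _ _ hQ hnt h
    have hJ : thompsonSubgroup p Q ≠ ⊥ := (isChar_fJE p).1 Q hQ hnt
    have hntJ : Nontrivial (thompsonSubgroup p Q) := (Subgroup.nontrivial_iff_ne_bot _).mpr hJ
    have h1 := (hQ.to_subgroup (thompsonSubgroup p Q)).center_nontrivial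
    obtain ⟨z, hz⟩ := exists_ne (1 : center (thompsonSubgroup p Q))
    apply hz
    have hmem : ((z : thompsonSubgroup p Q) : Q) ∈ fZJE p Q := by
      refine ⟨(z : thompsonSubgroup p Q).2, ?_⟩
      intro y hy
      have := (Subgroup.mem_center_iff.mp z.2) ⟨y, hy⟩
      exact congrArg Subtype.val this
    rw [h, mem_bot] at hmem
    exact Subtype.ext (Subtype.ext hmem)
  · intro Q R _ _ e
    rintro _ ⟨x, ⟨hx1, hx2⟩, rfl⟩
    refine ⟨thompson_map_le e ⟨x, hx1, rfl⟩, ?_⟩
    intro y hy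
    rw [← thompson_map e] at hy
    obtain ⟨z, hz, rfl⟩ := hy
    have := hx2 z hz
    show e z * e x = e x * e z
    rw [← map_mul, ← map_mul, this]

theorem ind_fZJE {G : Type u} [Group G] (p : ℕ) (P : Subgroup G) :
    inducedFunctor (fZJE p) P = centerThompsonOf p P := by
  unfold centerThompsonOf thompsonSubgroupOf
  ext x
  constructor
  · rintro ⟨y, ⟨hy1, hy2⟩, rfl⟩
    refine ⟨⟨y, hy1, rfl⟩, ?_⟩
    rintro _ ⟨z, hz, rfl⟩
    exact congrArg Subtype.val (hy2 z hz)
  · rintro ⟨⟨y, hy, rfl⟩, hc⟩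
    refine ⟨y, ⟨hy, ?_⟩, rfl⟩
    intro z hz
    exact Subtype.ext (hc z ⟨z, hz, rfl⟩)

/-- control of strong fusion by `N(Z(J_e(S)))` for groups without quadratic pairs -/
theorem csf_ZJE {G : Type u} [Group G] [Finite G] {p : ℕ} [Fact p.Prime] (hp : p ≠ 2) (hno : NoQP p G)
    (S : Sylow p G) : CSF (inducedFunctor (fZJE p)) ⊤ (S : Subgroup G) := by
  apply csf_all (p := p) (W := fZJE p) (isChar_fZJE p) (fun X _ => NoQP p X)
    (fun X _ _ Y h => h.subgroup Y) (fun X _ _ N _ h => h.quotient N) ?_ (Nat.card G) G rfl hno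
    S (isSyl_sylow S)
  intro X _ _ hX hcon T hT
  have := Cfsg.Agent.Lib.Helper31ZJe.ZE_normal hp (fun P _ hP => hX.isPStableOn P hP) hcon
    (Cfsg.Agent.Lib.Helper39SecTransport.toSylowTop hT)
  rw [Cfsg.Agent.Lib.Helper39SecTransport.coe_toSylowTop,
    ← Cfsg.Agent.Lib.Helper31ZJe.centerThompsonOf_eq, ← ind_fZJE] at this
  exact this

end Cfsg.Agent.Lib.Helper57ZJFus
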