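import Cfsg.Agent.Lib.Helper30Trans

/-! Rank three arguments: common nontrivial elements of two hyperplanes. -/

set_option autoImplicit false

namespace Cfsg.Agent.Lib.Helper30Rank3

open Subgroup Cfsg Cfsg.Agent.Lib.Helper30Hyp Cfsg.Agent.Lib.Helper30Trans

variable {G : Type*} [Group G]

/-- relative hyperplane: if `R ≰ D` there is a hyperplane `B` of `A` with `C_R(B) ≰ D`. -/
theorem exists_hyperplane_not_le [Finite G] {p : ℕ} [Fact p.Prime] {A R D : Subgroup G}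
    (hAc : IsMulCommutative A) (hAp : ∀ a ∈ A, a ^ p = 1) (hR : ¬ p ∣ Nat.card R)
    (hAR : A ≤ normalizer (R : Set G)) (hRD : ¬ R ≤ D) :
    ∃ B : Subgroup G, B ≤ A ∧ B.relIndex A ≤ p ∧ ¬ (R ⊓ centralizer (B : Set G) ≤ D) := by
  by_contra hcon
  push Not at hcon
  apply hRD
  refine le_trans (le_iSup_hyperplane_centralizers hAc hAp hR hAR) ?_
  apply iSup_le
  rintro ⟨B, h1, h2⟩
  exact hcon B h1 h2

/-- two hyperplanes of a group of order at least `p ^ 3` meet nontrivially. -/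
theorem exists_mem_inf_hyperplanes [Finite G] {p : ℕ} (hp : p.Prime) {A B₁ B₂ : Subgroup G}
    (hA3 : p ^ 3 ≤ Nat.card A) (hi₁ : B₁.relIndex A ≤ p) (hi₂ : B₂.relIndex A ≤ p) :
    ∃ a ∈ B₁ ⊓ B₂, a ≠ 1 := by
  apply exists_ne_one_of_ne_bot'
  intro h
  have h1 := relIndex_inf_le (H := B₁) (K := B₂) (L := A)
  rw [h, relIndex_bot_left] at h1
  have h2 : B₁.relIndex A * B₂.relIndex A ≤ p * p := Nat.mul_le_mul hi₁ hi₂
  have h3 : p ^ 3 = p * p * p := by ring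
  have h4 : p * p * 2 ≤ p * p * p := Nat.mul_le_mul_left _ hp.two_le
  have h5 : 0 < p * p := Nat.mul_pos hp.pos hp.pos
  omega

/-- The rank three lemma. -/
theorem exists_common_elt [Finite G] {p : ℕ} [Fact p.Prime] {A R₁ R₂ D₁ D₂ : Subgroup G}
    (hAc : IsMulCommutative A) (hAp : ∀ a ∈ A, a ^ p = 1) (hA3 : p ^ 3 ≤ Nat.card A)
    (hR₁ : ¬ p ∣ Nat.card R₁) (hR₂ : ¬ p ∣ Nat.card R₂)
    (hAR₁ : A ≤ normalizer (R₁ : Set G)) (hAR₂ : A ≤ normalizer (R₂ : Set G))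
    (h₁ : ¬ R₁ ≤ D₁) (h₂ : ¬ R₂ ≤ D₂) :
    ∃ a ∈ A, a ≠ 1 ∧ ¬ (R₁ ⊓ centralizer {a} ≤ D₁) ∧ ¬ (R₂ ⊓ centralizer {a} ≤ D₂) := by
  obtain ⟨B₁, hB₁, hi₁, hc₁⟩ := exists_hyperplane_not_le hAc hAp hR₁ hAR₁ h₁
  obtain ⟨B₂, hB₂, hi₂, hc₂⟩ := exists_hyperplane_not_le hAc hAp hR₂ hAR₂ h₂
  obtain ⟨a, ha, ha1⟩ := exists_mem_inf_hyperplanes (Fact.out : p.Prime) hA3 hi₁ hi₂
  obtain ⟨haB₁, haB₂⟩ := Subgroup.mem_inf.mp ha
  have hle : ∀ (B' R : Subgroup G), a ∈ B' →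
      R ⊓ centralizer (B' : Set G) ≤ R ⊓ centralizer ({a} : Set G) := by
    intro B' R haB'
    refine inf_le_inf_left _ (centralizer_le ?_)
    intro x hx
    rw [Set.mem_singleton_iff.mp hx]; exact haB'
  exact ⟨a, hB₁ haB₁, ha1, fun h => hc₁ (le_trans (hle B₁ R₁ haB₁) h),
    fun h => hc₂ (le_trans (hle B₂ R₂ haB₂) h)⟩

/-- `p ∤ |Q|` for a `q`-group, `q ≠ p`. -/
theorem not_dvd_card_of_isPGroup [Finite G] {p q : ℕ} (hp : p.Prime) [Fact q.Prime] (hqp : q ≠ p)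
    {Q : Subgroup G} (hQ : IsPGroup q Q) : ¬ p ∣ Nat.card Q := by
  obtain ⟨n, hn⟩ := IsPGroup.iff_card.mp hQ
  rw [hn]
  intro h
  exact hqp ((Nat.prime_dvd_prime_iff_eq hp Fact.out).mp (hp.dvd_of_dvd_pow h)).symm

theorem not_dvd_card_of_le [Finite G] {p : ℕ} {Q R : Subgroup G} (hRQ : R ≤ Q)
    (hQ : ¬ p ∣ Nat.card Q) : ¬ p ∣ Nat.card R :=
  fun h => hQ (dvd_trans h (card_dvd_of_le hRQ))

/-- `A` normalizes `N(D) ∩ Q` when it normalizes `D` and `Q`. -/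
theorem le_normalizer_normalizer_inf {A D Q : Subgroup G} (hAD : A ≤ normalizer (D : Set G))
    (hAQ : A ≤ normalizer (Q : Set G)) :
    A ≤ normalizer ((normalizer (D : Set G) ⊓ Q : Subgroup G) : Set G) := by
  refine le_trans (le_inf ?_ hAQ) (inf_normalizer_le_normalizer_inf)
  exact le_trans hAD le_normalizer

/-- The version for normalizers of the meet of two `q`-groups. -/
theorem exists_common_elt_normalizer [Finite G] {p : ℕ} [Fact p.Prime] {A : Subgroup G}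
    (hAc : IsMulCommutative A) (hAp : ∀ a ∈ A, a ^ p = 1) (hA3 : p ^ 3 ≤ Nat.card A)
    {q : ℕ} [Fact q.Prime] (hqp : q ≠ p) {Q₁ Q₂ : Subgroup G}
    (h₁ : IsPGroup q Q₁) (h₂ : IsPGroup q Q₂)
    (hA₁ : A ≤ normalizer (Q₁ : Set G)) (hA₂ : A ≤ normalizer (Q₂ : Set G))
    (hD₁ : Q₁ ⊓ Q₂ ≠ Q₁) (hD₂ : Q₁ ⊓ Q₂ ≠ Q₂) :
    ∃ a ∈ A, a ≠ 1 ∧
      ¬ (normalizer ((Q₁ ⊓ Q₂ : Subgroup G) : Set G) ⊓ Q₁ ⊓ centralizer {a} ≤ Q₁ ⊓ Q₂) ∧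
      ¬ (normalizer ((Q₁ ⊓ Q₂ : Subgroup G) : Set G) ⊓ Q₂ ⊓ centralizer {a} ≤ Q₁ ⊓ Q₂) := by
  have hp : p.Prime := Fact.out
  have hAD : A ≤ normalizer ((Q₁ ⊓ Q₂ : Subgroup G) : Set G) :=
    le_trans (le_inf hA₁ hA₂) inf_normalizer_le_normalizer_inf
  have key : ∀ Q : Subgroup G, IsPGroup q Q → Q₁ ⊓ Q₂ ≤ Q → Q₁ ⊓ Q₂ ≠ Q →
      ¬ (normalizer ((Q₁ ⊓ Q₂ : Subgroup G) : Set G) ⊓ Q ≤ Q₁ ⊓ Q₂) := by
    intro Q hQ hle hne hcon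
    obtain ⟨g, hgQ, hgD, hgN⟩ :=
      Cfsg.Agent.Lib.Helper30Coprime.exists_mem_normalizer_not_mem (T := Q) (S := Q₁ ⊓ Q₂)
        hQ.isNilpotent (lt_of_le_of_ne hle hne)
    exact hgD (hcon (Subgroup.mem_inf.mpr ⟨hgN, hgQ⟩))
  exact exists_common_elt hAc hAp hA3
    (not_dvd_card_of_le inf_le_right (not_dvd_card_of_isPGroup hp hqp h₁))
    (not_dvd_card_of_le inf_le_right (not_dvd_card_of_isPGroup hp hqp h₂))
    (le_normalizer_normalizer_inf hAD hA₁) (le_normalizer_normalizer_inf hAD hA₂)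
    (key Q₁ h₁ inf_le_left hD₁) (key Q₂ h₂ inf_le_right hD₂)

end Cfsg.Agent.Lib.Helper30Rank3
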