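import Cfsg.Agent.Lib.Helper24BG2
import Cfsg.Agent.Lib.Helper30Rank3
import Cfsg.Agent.Lib.Helper3Narrow

/-!
Towards B-G 9.5, part B: an elementary abelian `p`-group `E` of rank 3 acting on an `s`-group `S`
of rank at least 3.
-/

set_option autoImplicit false
open Cfsg

namespace Cfsg.Agent.Lib.Helper31UniqB

open Subgroup
open scoped commutatorElement
open Cfsg.Agent.Lib.Helper30Trans
open Cfsg.Agent.Lib.Helper24BG
open Cfsg.Agent.Lib.Helper3Class2
open Cfsg.Agent.Lib.Helper3Narrow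

universe u

section typeR
variable {R : Type u} [Group R] {s : ℕ}

/-- `Ω₁(Z₂(R))` for odd `s`, as the set of elements of `Z₂(R)` killed by `s`. -/
def W2 (R : Type u) [Group R] {s : ℕ} (hs : s.Prime) (hs2 : s ≠ 2) : Subgroup R where
  carrier := {w | w ∈ Subgroup.upperCentralSeries R 2 ∧ w ^ s = 1}
  one_mem' := ⟨one_mem _, one_pow _⟩
  inv_mem' := fun h => ⟨inv_mem h.1, by rw [inv_pow, h.2, inv_one]⟩
  mul_mem' := by
    rintro a b ⟨ha, has⟩ ⟨hb, hbs⟩
    refine ⟨mul_mem ha hb, ?_⟩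
    have hc : ⁅b, a⁆ ∈ center R := (mem_Z2_iff b).mp hb a
    have h1 : ⁅b, a⁆ ^ s = 1 := by
      rw [← commutator_pow_left b a (commute_of_mem_center hc b) s, hbs]
      simp
    rw [mul_pow_prime_class2 hs hs2 a b (commute_of_mem_center hc a) (commute_of_mem_center hc b) h1,
      has, hbs, one_mul]

theorem mem_W2 {hs : s.Prime} {hs2 : s ≠ 2} {w : R} :
    w ∈ W2 R hs hs2 ↔ w ∈ Subgroup.upperCentralSeries R 2 ∧ w ^ s = 1 := Iff.rfl

instance W2_char (hs : s.Prime) (hs2 : s ≠ 2) : (W2 R hs hs2).Characteristic := by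
  rw [characteristic_iff_le_comap]
  intro φ w hw
  rw [mem_comap, mem_W2]
  refine ⟨?_, ?_⟩
  · rw [mem_Z2_iff]
    intro y
    have h1 : ⁅w, φ.symm y⁆ ∈ center R := (mem_Z2_iff w).mp hw.1 _
    have h2 : φ ⁅w, φ.symm y⁆ ∈ center R := by
      have := characteristic_iff_le_comap.mp (inferInstance : (center R).Characteristic) φ h1
      exact this
    rw [map_commutatorElement] at h2
    simpa using h2
  · show (φ w) ^ s = 1
    rw [← map_pow, hw.2, map_one]

theorem comm_W2 {hs : s.Prime} {hs2 : s ≠ 2} {w : R} (hw : w ∈ W2 R hs hs2) (x : R) :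
    ⁅x, w⁆ ∈ center R ∧ ⁅x, w⁆ ^ s = 1 := by
  have hc : ⁅w, x⁆ ∈ center R := (mem_Z2_iff w).mp hw.1 x
  have h1 : ⁅w, x⁆ ^ s = 1 := by
    rw [← commutator_pow_left w x (commute_of_mem_center hc w) s, hw.2]
    simp
  rw [← commutatorElement_inv w x]
  exact ⟨inv_mem hc, by rw [inv_pow, h1, inv_one]⟩

/-- an element of order `s` with centralizer of index at most `s` lies in an elementary abelian
subgroup of order greater than `s ^ 2`, if the group has rank at least `3`. -/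
theorem exists_big_elemAb [Finite R] [hs : Fact s.Prime] {y : R} (hys : y ^ s = 1)
    (hidx : (centralizer ({y} : Set R)).index ≤ s) (hr : ¬ PRankLE s 2 R) :
    ∃ F : Subgroup R, IsElementaryAbelian s F ∧ s ^ 2 < Nat.card F ∧ y ∈ F := by
  unfold PRankLE at hr
  push Not at hr
  obtain ⟨E3, hE3c, hE3e, hE3⟩ := hr
  have hE : IsElementaryAbelian s E3 := ⟨hE3c, hE3e⟩
  by_cases hy : y ∈ E3
  · exact ⟨E3, hE, hE3, hy⟩
  set D := E3 ⊓ centralizer ({y} : Set R) with hD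
  have hDe : IsElementaryAbelian s D := by
    refine ⟨⟨⟨fun a b => ?_⟩⟩, fun a ha => hE3e a ha.1⟩
    apply Subtype.ext
    show (a : R) * (b : R) = (b : R) * (a : R)
    exact congrArg Subtype.val (hE3c.is_comm.comm ⟨(a : R), a.2.1⟩ ⟨(b : R), b.2.1⟩)
  have h4 : (centralizer ({y} : Set R)).relIndex E3 ≤ s :=
    (relIndex_le_of_le_right le_top (by rw [relIndex_top_right]; exact index_ne_zero_of_finite)).trans
      (by rw [relIndex_top_right]; exact hidx)
  have h5 := relIndex_mul_relIndex ⊥ D E3 bot_le inf_le_left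
  rw [relIndex_bot_left, relIndex_bot_left, hD, inf_relIndex_left, ← hD] at h5
  have h6 : Nat.card E3 ≤ Nat.card D * s := by
    rw [← h5]; exact Nat.mul_le_mul_left _ h4
  have hDp : IsPGroup s D := fun a => ⟨1, by rw [pow_one]; exact Subtype.ext (hDe.2 a a.2)⟩
  obtain ⟨j, hj⟩ := IsPGroup.iff_card.mp hDp
  have hspos : 0 < s := hs.out.pos
  have hj2 : 2 ≤ j := by
    by_contra hlt
    have hj1 : j ≤ 1 := by omega
    have : Nat.card D ≤ s := by
      rw [hj]
      calc s ^ j ≤ s ^ 1 := Nat.pow_le_pow_right hspos hj1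
        _ = s := pow_one s
    have h7 : Nat.card D * s ≤ s * s := Nat.mul_le_mul_right _ this
    rw [sq] at hE3
    omega
  have hD2 : s ^ 2 ≤ Nat.card D := by rw [hj]; exact Nat.pow_le_pow_right hspos hj2
  refine ⟨D ⊔ zpowers y, elemAb_sup hDe (elemAb_zpowers hys) ?_, ?_, mem_sup_right (mem_zpowers y)⟩
  · intro e he b hb
    obtain ⟨i, rfl⟩ := mem_zpowers_iff.mp hb
    have h8 : Commute y e := (mem_centralizer_iff.mp he.2) y rfl
    exact ((h8.zpow_left i).eq).symm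
  · have hlt : D < D ⊔ zpowers y := by
      refine lt_of_le_of_ne le_sup_left ?_
      intro h
      apply hy
      have : y ∈ D := by rw [h]; exact mem_sup_right (mem_zpowers y)
      exact this.1
    exact lt_of_le_of_lt hD2 (Cfsg.Agent.Lib.Helper30Coprime.card_lt_of_lt hlt)

end typeR

section ambient
variable {G : Type u} [Group G]

theorem elemAb_map_subtype {s : ℕ} {S : Subgroup G} {F : Subgroup S} (hF : IsElementaryAbelian s F) :
    IsElementaryAbelian s (F.map S.subtype) := by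
  refine ⟨⟨⟨?_⟩⟩, ?_⟩
  · rintro ⟨_, a, ha, rfl⟩ ⟨_, b, hb, rfl⟩
    apply Subtype.ext
    have := congrArg Subtype.val (hF.1.is_comm.comm ⟨a, ha⟩ ⟨b, hb⟩)
    exact congrArg (Subtype.val : S → G) this
  · rintro _ ⟨a, ha, rfl⟩
    have := hF.2 a ha
    exact congrArg Subtype.val this

/-- an elementary abelian group containing `z ≠ 1` and `y ∉ ⟨z⟩` is not cyclic -/
theorem not_isCyclic_of_elemAb [Finite G] {s : ℕ} (hs : s.Prime) {N : Subgroup G}
    (hN : ∀ a ∈ N, a ^ s = 1)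
    {y z : G} (hy : y ∈ N) (hz : z ∈ N) (hz1 : z ≠ 1) (hyz : y ∉ zpowers z) : ¬ IsCyclic N := by
  intro hcyc
  have h1 : Nat.card N ≤ s := card_le_of_cyclic_exp hs.pos (fun x => Subtype.ext (hN x x.2))
  have h2 : Nat.card (zpowers z) = s :=
    Cfsg.Agent.Lib.Helper3RankTwo.card_zpowers_of_order_p hs hz1 (hN z hz)
  have h3 : zpowers z = N := eq_of_le_of_card_ge (zpowers_le.mpr hz) (by rw [h2]; exact h1)
  exact hyz (h3 ▸ hy)

variable [Finite G] {s p : ℕ} [hs : Fact s.Prime] [hp : Fact p.Prime]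

open Cfsg.Agent.Lib.Helper30Rank3 in
/-- **The cyclic centre case.** -/
theorem cyclic_center_case (hs2 : s ≠ 2) (hsp : s ≠ p)
    {S E : Subgroup G} (hS : IsPGroup s S) (hr : ¬ PRankLE s 2 S)
    (hEc : IsMulCommutative E) (hEp : ∀ a ∈ E, a ^ p = 1) (hES : E ≤ normalizer (S : Set G))
    {z : G} (hzS : z ∈ S) (hzc : z ∈ centralizer (S : Set G)) (hz1 : z ≠ 1) (hzs : z ^ s = 1)
    (huniq : ∀ c ∈ S, c ∈ centralizer (S : Set G) → c ^ s = 1 → c ∈ zpowers z)
    (hEz : E ≤ centralizer ({z} : Set G)) :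
    ∃ B N : Subgroup G, B ≤ E ∧ B.relIndex E ≤ p ∧ IsPGroup s N ∧ ¬ IsCyclic N ∧
      ¬ PRankLE s 2 (centralizer (N : Set G)) ∧ B ≤ centralizer (N : Set G) := by
  set W : Subgroup G := (W2 S hs.out hs2).map S.subtype with hW
  have hWS : W ≤ S := map_subtype_le _
  have hEW : E ≤ normalizer (W : Set G) :=
    hES.trans (Cfsg.Agent.Lib.Helper30SZ.normalizer_le_normalizer_map_of_characteristic _)
  have hWp : ¬ p ∣ Nat.card W := not_dvd_card_of_isPGroup hp.out hsp (hS.to_le hWS)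
  have hnc : ¬ IsCyclic S :=
    fun h => hr (rank_mono hs.out.pos (rank_one_of_cyclic hs.out.pos) (by norm_num))
  obtain ⟨N0, hN0n, hN0e, hN0c⟩ :=
    Cfsg.Agent.Lib.Helper3RankTwo.main hs2 (Nat.card S) S le_rfl hS hnc
  have hN0W : N0 ≤ W2 S hs.out hs2 := fun x hx => ⟨le_Z2_of_card_sq hS N0 hN0c hx, hN0e.2 x hx⟩
  have hcz : Nat.card (zpowers z) = s :=
    Cfsg.Agent.Lib.Helper3RankTwo.card_zpowers_of_order_p hs.out hz1 hzs
  have hWz : ¬ W ≤ zpowers z := by
    intro h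
    have h1 : Nat.card N0 ≤ Nat.card (zpowers z) := by
      rw [← card_map_of_injective (K := N0) S.subtype_injective]
      exact card_le_of_le ((map_mono hN0W).trans h)
    rw [hN0c, hcz] at h1
    have := hs.out.two_le
    nlinarith
  obtain ⟨B, hBE, hBi, hBn⟩ := exists_hyperplane_not_le hEc hEp hWp hEW hWz
  obtain ⟨y, hy, hyz⟩ := SetLike.not_le_iff_exists.mp hBn
  obtain ⟨⟨yR, hyR, rfl⟩, hyB⟩ := hy
  set zR : S := ⟨z, hzS⟩ with hzR
  have hzR1 : zR ≠ 1 := fun h => hz1 (congrArg Subtype.val h)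
  have hzRs : zR ^ s = 1 := Subtype.ext hzs
  have hcomm : ∀ g : S, ⁅g, yR⁆ ∈ zpowers zR := by
    intro g
    obtain ⟨h1, h2⟩ := comm_W2 hyR g
    have h3 : ((⁅g, yR⁆ : S) : G) ∈ zpowers z := by
      apply huniq _ (⁅g, yR⁆ : S).2
      · rw [mem_centralizer_iff]
        intro x hx
        exact congrArg Subtype.val ((mem_center_iff.mp h1) ⟨x, hx⟩)
      · exact congrArg Subtype.val h2
    obtain ⟨i, hi⟩ := mem_zpowers_iff.mp h3
    exact mem_zpowers_iff.mpr ⟨i, Subtype.ext (by simpa using hi)⟩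
  have hidx : (centralizer ({yR} : Set S)).index ≤ s := by
    have := Cfsg.Agent.Lib.Helper3Chain.index_centralizer_le yR (zpowers zR) hcomm
    rwa [Cfsg.Agent.Lib.Helper3RankTwo.card_zpowers_of_order_p hs.out hzR1 hzRs] at this
  obtain ⟨F, hFe, hFc, hyF⟩ := exists_big_elemAb hyR.2 hidx hr
  have hys : (yR : G) ^ s = 1 := congrArg Subtype.val hyR.2
  have hyzc : Commute (yR : G) z := (mem_centralizer_iff.mp hzc) _ yR.2
  set N : Subgroup G := zpowers (yR : G) ⊔ zpowers z with hN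
  have hNe : IsElementaryAbelian s N := by
    apply elemAb_sup (elemAb_zpowers hys) (elemAb_zpowers hzs)
    intro e he b hb
    obtain ⟨i, rfl⟩ := mem_zpowers_iff.mp he
    obtain ⟨j, rfl⟩ := mem_zpowers_iff.mp hb
    exact (hyzc.zpow_zpow i j).eq
  have hNS : N ≤ S := sup_le (zpowers_le.mpr yR.2) (zpowers_le.mpr hzS)
  refine ⟨B, N, hBE, hBi, hS.to_le hNS, ?_, ?_, ?_⟩
  · exact not_isCyclic_of_elemAb hs.out hNe.2 (mem_sup_left (mem_zpowers _))
      (mem_sup_right (mem_zpowers z)) hz1 hyz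
  · apply not_rank_of_elemAb (B := F.map S.subtype) _ (elemAb_map_subtype hFe)
      (by rw [card_map_of_injective S.subtype_injective]; exact hFc)
    rw [le_centralizer_iff]
    refine sup_le (zpowers_le.mpr ?_) (zpowers_le.mpr ?_)
    · rw [mem_centralizer_iff]
      rintro _ ⟨f, hf, rfl⟩
      have := congrArg Subtype.val (hFe.1.is_comm.comm ⟨f, hf⟩ ⟨yR, hyF⟩)
      exact congrArg (Subtype.val : S → G) this
    · exact centralizer_le (show ((F.map S.subtype : Subgroup G) : Set G) ⊆ S from map_subtype_le F) hzc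
  · rw [le_centralizer_iff]
    refine sup_le (zpowers_le.mpr hyB) (zpowers_le.mpr ?_)
    rw [mem_centralizer_iff]
    intro b hb
    exact ((mem_centralizer_iff.mp (hEz (hBE hb))) z rfl).symm

omit [Finite G] hs hp in
/-- `Ω₁(Z(S))`. -/
def OmZ (s : ℕ) (S : Subgroup G) : Subgroup G where
  carrier := {v | v ∈ S ∧ v ∈ centralizer (S : Set G) ∧ v ^ s = 1}
  one_mem' := ⟨one_mem _, one_mem _, one_pow _⟩
  inv_mem' := fun h => ⟨inv_mem h.1, inv_mem h.2.1, by rw [inv_pow, h.2.2, inv_one]⟩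
  mul_mem' := by
    rintro a b ⟨ha, hac, has⟩ ⟨hb, hbc, hbs⟩
    refine ⟨mul_mem ha hb, mul_mem hac hbc, ?_⟩
    have hc : Commute a b := (mem_centralizer_iff.mp hbc) a ha
    rw [hc.mul_pow, has, hbs, one_mul]

omit [Finite G] hs hp in
theorem OmZ_le (s : ℕ) (S : Subgroup G) : OmZ s S ≤ S := fun _ h => h.1

omit [Finite G] hs hp in
theorem OmZ_le_centralizer (s : ℕ) (S : Subgroup G) : OmZ s S ≤ centralizer (S : Set G) :=
  fun _ h => h.2.1

omit [Finite G] hs hp in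
theorem normalizer_le_normalizer_OmZ (s : ℕ) (S : Subgroup G) :
    normalizer (S : Set G) ≤ normalizer (OmZ s S : Set G) := by
  rw [le_normalizer_iff]
  rintro g hg v ⟨hv, hvc, hvs⟩
  refine ⟨(mem_normalizer_iff.mp hg v).mp hv, ?_, ?_⟩
  · rw [mem_centralizer_iff]
    intro x hx
    have h1 : g⁻¹ * x * g ∈ S := by
      have := (mem_normalizer_iff.mp (inv_mem hg) x).mp hx
      simpa using this
    have h2 := (mem_centralizer_iff.mp hvc) _ h1
    calc x * (g * v * g⁻¹) = g * ((g⁻¹ * x * g) * v) * g⁻¹ := by group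
      _ = g * (v * (g⁻¹ * x * g)) * g⁻¹ := by rw [h2]
      _ = g * v * g⁻¹ * x := by group
  · rw [conj_pow, hvs]; group

open Cfsg.Agent.Lib.Helper30Rank3 in
/-- **The noncyclic centre case**: some `e ∈ E - 1` centralizes a noncyclic subgroup of `Ω₁(Z(S))`. -/
theorem exists_noncyclic_fixed (hsp : s ≠ p) {S E : Subgroup G} (hS : IsPGroup s S)
    (hEc : IsMulCommutative E) (hEp : ∀ a ∈ E, a ^ p = 1) (hE3 : p ^ 3 ≤ Nat.card E)
    (hES : E ≤ normalizer (S : Set G))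
    {z c : G} (hz : z ∈ OmZ s S) (hz1 : z ≠ 1) (hc : c ∈ OmZ s S) (hcz : c ∉ zpowers z) :
    ∃ e ∈ E, e ≠ 1 ∧ ¬ IsCyclic (OmZ s S ⊓ centralizer ({e} : Set G) : Subgroup G) := by
  set V := OmZ s S with hV
  have hEV : E ≤ normalizer (V : Set G) := hES.trans (normalizer_le_normalizer_OmZ s S)
  have hVp : ¬ p ∣ Nat.card V := not_dvd_card_of_isPGroup hp.out hsp (hS.to_le (OmZ_le s S))
  have hV0 : ¬ V ≤ ⊥ := fun h => hz1 (mem_bot.mp (h hz))
  obtain ⟨B₁, hB₁, hi₁, hn₁⟩ := exists_hyperplane_not_le hEc hEp hVp hEV hV0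
  obtain ⟨v₁, hv₁, hv₁1⟩ := SetLike.not_le_iff_exists.mp hn₁
  rw [mem_bot] at hv₁1
  have hV1 : ¬ V ≤ zpowers v₁ := by
    intro h
    have h1 : Nat.card (zpowers v₁) = s :=
      Cfsg.Agent.Lib.Helper3RankTwo.card_zpowers_of_order_p hs.out hv₁1 hv₁.1.2.2
    have h2 : Nat.card (zpowers z) = s :=
      Cfsg.Agent.Lib.Helper3RankTwo.card_zpowers_of_order_p hs.out hz1 hz.2.2
    have h3 : zpowers z = zpowers v₁ :=
      eq_of_le_of_card_ge ((zpowers_le.mpr hz).trans h) (by rw [h1, h2])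
    exact hcz (h3 ▸ h hc)
  obtain ⟨B₂, hB₂, hi₂, hn₂⟩ := exists_hyperplane_not_le hEc hEp hVp hEV hV1
  obtain ⟨v₂, hv₂, hv₂1⟩ := SetLike.not_le_iff_exists.mp hn₂
  obtain ⟨e, he, he1⟩ := exists_mem_inf_hyperplanes hp.out hE3 hi₁ hi₂
  refine ⟨e, hB₁ he.1, he1, ?_⟩
  have hle : ∀ (B' : Subgroup G), e ∈ B' → centralizer (B' : Set G) ≤ centralizer ({e} : Set G) := by
    intro B' heB'
    apply centralizer_le
    intro x hx
    rw [Set.mem_singleton_iff.mp hx]; exact heB'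
  exact not_isCyclic_of_elemAb hs.out (fun a ha => ha.1.2.2)
    (⟨hv₂.1, hle B₂ he.2 hv₂.2⟩ : v₂ ∈ V ⊓ centralizer ({e} : Set G))
    (⟨hv₁.1, hle B₁ he.1 hv₁.2⟩ : v₁ ∈ V ⊓ centralizer ({e} : Set G)) hv₁1 hv₂1

end ambient

end Cfsg.Agent.Lib.Helper31UniqB
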