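import Cfsg.Agent.Lib.Helper24BG2
import Cfsg.Agent.Lib.Helper30Rank3
import Cfsg.Agent.Lib.Helper60Core

/-!
Towards B-G 9.5, part C: two "good" pairs (maximal subgroup, prime) have the same maximal subgroup.
-/

set_option autoImplicit false
open Cfsg

namespace Cfsg.Agent.Lib.Helper31UniqC

open Subgroup
open Cfsg.Agent.Lib.Helper30Trans
open Cfsg.Agent.Lib.Helper24BG
open Cfsg.Agent.Lib.Helper37Cores

universe u

section abstract
variable {H : Type*} [Group H] [Finite H]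

/-- a solvable group with `O_{s'}(H) = O_{t'}(H)`, `s ≠ t`, is an `s'`-group. -/
theorem coprime_of_cores_eq [Group.IsSolvable H] {s t : ℕ} [hs : Fact s.Prime] [ht : Fact t.Prime]
    (hst : s ≠ t) (h : pPrimeCore s H = pPrimeCore t H) : (Nat.card H).Coprime s := by
  set Y := pPrimeCore s H with hY
  have h0 : pPrimeCore s (H ⧸ Y) = ⊥ := Cfsg.Agent.Lib.Helper60Core.pPrimeCore_quotient_eq_bot s
  have hO : pCore s (H ⧸ Y) = ⊥ := by
    set O := pCore s (H ⧸ Y) with hOdef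
    have hOp : IsPGroup s O := Cfsg.Agent.Lib.Helper60Core.pCore_isPGroup s
    obtain ⟨k, hk⟩ := IsPGroup.iff_card.mp hOp
    have hn : (O.comap (QuotientGroup.mk' Y)).Normal := inferInstance
    have hc : Nat.card (O.comap (QuotientGroup.mk' Y)) = Nat.card O * Nat.card Y :=
      Cfsg.Agent.Lib.Helper3RankTwo.card_comap_mk' Y O
    have hcop : (Nat.card (O.comap (QuotientGroup.mk' Y))).Coprime t := by
      rw [hc, hk]
      apply Nat.Coprime.mul_left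
      · exact Nat.Coprime.pow_left k ((Nat.coprime_primes hs.out ht.out).mpr hst)
      · rw [h]; exact card_pPrimeCore_coprime t
    have h1 : O.comap (QuotientGroup.mk' Y) ≤ Y := (le_pPrimeCore hn hcop).trans h.ge
    rw [eq_bot_iff]
    intro x hx
    obtain ⟨y, rfl⟩ := QuotientGroup.mk'_surjective Y x
    rw [mem_bot]
    exact (QuotientGroup.eq_one_iff y).mpr (h1 hx)
  have h1 := Cfsg.Agent.Lib.Helper60Core.centralizer_pCore_le (p := s) h0
  rw [hO] at h1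
  have h2 : Y = ⊤ := by
    rw [eq_top_iff]
    intro x _
    have : QuotientGroup.mk' Y x ∈ centralizer (((⊥ : Subgroup (H ⧸ Y)) : Set (H ⧸ Y))) := by
      rw [mem_centralizer_iff]
      intro y hy
      rw [SetLike.mem_coe, mem_bot] at hy
      rw [hy, one_mul, mul_one]
    have := h1 this
    rw [mem_bot] at this
    exact (QuotientGroup.eq_one_iff x).mp this
  have h3 := card_pPrimeCore_coprime (G := H) s
  rw [← hY, h2, card_top] at h3
  exact h3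

end abstract

variable {G : Type u} [Group G]

/-- a "good" pair: all normalizers of nontrivial `A`-invariant `s`-subgroups lie in `L`, and some
such subgroup lies in a unique maximal subgroup. -/
structure Good (A L : Subgroup G) (s : ℕ) : Prop where
  coatom : IsCoatom L
  norm_le : ∀ X : Subgroup G, X ≠ ⊥ → IsPGroup s X → A ≤ normalizer (X : Set G) →
    normalizer (X : Set G) ≤ L
  exS : ∃ S : Subgroup G, S ≠ ⊥ ∧ IsPGroup s S ∧ A ≤ normalizer (S : Set G) ∧ InUniqueMaximal S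

variable [Finite G]

/-- the key step -/
theorem core_coprime (hG : IsMinSimpleOddOrder G) {A θ T L : Subgroup G} {s t p : ℕ}
    [hs : Fact s.Prime] [ht : Fact t.Prime] [hp : Fact p.Prime] (hsp : s ≠ p)
    (hAp : IsPGroup p A) (hθtop : θ ≠ ⊤) (hθp : (Nat.card θ).Coprime p)
    (hAθ : A ≤ normalizer (θ : Set G)) (hTθ : T ≤ θ) (hTs : IsPGroup s T)
    (hAT : A ≤ normalizer (T : Set G)) (hTL : ¬ T ≤ L)
    (hnorm : ∀ X : Subgroup G, X ≠ ⊥ → IsPGroup t X → A ≤ normalizer (X : Set G) →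
      normalizer (X : Set G) ≤ L) :
    (Nat.card (coreOf s θ)).Coprime t := by
  set θ₁ := coreOf s θ with hθ₁
  obtain ⟨a, ha⟩ := IsPGroup.iff_card.mp hAp
  obtain ⟨b, hb⟩ := IsPGroup.iff_card.mp hTs
  have hcopAT : (Nat.card A).Coprime (Nat.card T) := by
    rw [ha, hb]
    exact Nat.Coprime.pow _ _ ((Nat.coprime_primes hp.out hs.out).mpr hsp.symm)
  have hX : T ⊔ A ≤ normalizer (θ₁ : Set G) :=
    sup_le (hTθ.trans (le_normalizer_coreOf s θ)) (hAθ.trans (normalizer_le_normalizer_coreOf s θ))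
  have hθ₁p : (Nat.card θ₁).Coprime p :=
    Nat.Coprime.coprime_dvd_left (card_dvd_of_le (coreOf_le s θ)) hθp
  have hcop : (Nat.card (T ⊔ A : Subgroup G)).Coprime (Nat.card θ₁) := by
    rw [Cfsg.Agent.Lib.Helper30SZ.card_sup hAT hcopAT, ha, hb]
    apply Nat.Coprime.mul_left
    · exact Nat.Coprime.pow_left b (card_coreOf_coprime s θ).symm
    · exact Nat.Coprime.pow_left a hθ₁p.symm
  have hθ₁top : θ₁ ≠ ⊤ := fun h => hθtop (top_le_iff.mp (h ▸ coreOf_le s θ))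
  obtain ⟨Q, hQ⟩ := Cfsg.Agent.Lib.Helper1SylowInv.exists_invariant_sylow (T ⊔ A) θ₁ hX hcop
    (Or.inr (sol hG hθ₁top)) t
  by_cases hQ1 : (Q : Subgroup θ₁).map θ₁.subtype = ⊥
  · rw [Nat.coprime_comm, Nat.Prime.coprime_iff_not_dvd ht.out]
    intro hd
    apply Q.ne_bot_of_dvd_card hd
    rwa [(map_eq_bot_iff_of_injective _ θ₁.subtype_injective)] at hQ1
  · exfalso
    apply hTL
    exact (le_sup_left.trans hQ).trans (hnorm _ hQ1 (Q.2.map _) (le_sup_right.trans hQ))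

/-- **Two good pairs have the same maximal subgroup.** -/
theorem good_unique (hG : IsMinSimpleOddOrder G) {p : ℕ} [hp : Fact p.Prime] {A E : Subgroup G}
    (hTH : TransitivityHypothesis A) (hAp : IsPGroup p A) (hAc : IsMulCommutative A) (hEA : E ≤ A)
    (hEp : ∀ a ∈ E, a ^ p = 1) (hE3 : p ^ 3 ≤ Nat.card E)
    {L₁ L₂ : Subgroup G} {s₁ s₂ : ℕ} [hs₁ : Fact s₁.Prime] [hs₂ : Fact s₂.Prime]
    (h1p : s₁ ≠ p) (h2p : s₂ ≠ p) (h₁ : Good A L₁ s₁) (h₂ : Good A L₂ s₂) : L₁ = L₂ := by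
  obtain ⟨S₁, hS₁1, hS₁p, hAS₁, hS₁U⟩ := h₁.exS
  obtain ⟨S₂, hS₂1, hS₂p, hAS₂, hS₂U⟩ := h₂.exS
  have hS₁L : S₁ ≤ L₁ := le_normalizer.trans (h₁.norm_le S₁ hS₁1 hS₁p hAS₁)
  have hS₂L : S₂ ≤ L₂ := le_normalizer.trans (h₂.norm_le S₂ hS₂1 hS₂p hAS₂)
  have hu₁ : ∀ L : Subgroup G, IsCoatom L → S₁ ≤ L → L = L₁ := by
    intro L hL hle
    obtain ⟨M, -, hM⟩ := hS₁U
    rw [hM L ⟨hL, hle⟩, hM L₁ ⟨h₁.coatom, hS₁L⟩]
  have hu₂ : ∀ L : Subgroup G, IsCoatom L → S₂ ≤ L → L = L₂ := by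
    intro L hL hle
    obtain ⟨M, -, hM⟩ := hS₂U
    rw [hM L ⟨hL, hle⟩, hM L₂ ⟨h₂.coatom, hS₂L⟩]
  by_cases hss : s₁ = s₂
  · subst hss
    exact (hu₁ L₂ h₂.coatom (le_normalizer.trans (h₂.norm_le S₁ hS₁1 hS₁p hAS₁))).symm
  by_contra hne
  have hn₁ : ¬ S₁ ≤ L₂ := fun h => hne (hu₁ L₂ h₂.coatom h).symm
  have hn₂ : ¬ S₂ ≤ L₁ := fun h => hne (hu₂ L₁ h₁.coatom h)
  have hEc : IsMulCommutative E := by
    refine ⟨⟨fun a b => ?_⟩⟩
    apply Subtype.ext
    show (a : G) * (b : G) = (b : G) * (a : G)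
    exact congrArg Subtype.val (hAc.is_comm.comm ⟨(a : G), hEA a.2⟩ ⟨(b : G), hEA b.2⟩)
  obtain ⟨a, haE, ha1, hc₁, hc₂⟩ := Cfsg.Agent.Lib.Helper30Rank3.exists_common_elt hEc hEp hE3
    (Cfsg.Agent.Lib.Helper30Rank3.not_dvd_card_of_isPGroup hp.out h1p hS₁p)
    (Cfsg.Agent.Lib.Helper30Rank3.not_dvd_card_of_isPGroup hp.out h2p hS₂p)
    (hEA.trans hAS₁) (hEA.trans hAS₂) hn₁ hn₂
  set C := centralizer ({a} : Set G) with hC
  have hCtop : C ≠ ⊤ := centralizer_singleton_ne_top hG ha1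
  have hAC : A ≤ C := by
    intro x hx
    rw [hC, mem_centralizer_singleton_iff]
    exact congrArg Subtype.val (hAc.is_comm.comm ⟨x, hx⟩ ⟨a, hEA haE⟩)
  set θ := piCoreOf (primesNotDvd (Nat.card A)) C with hθ
  have hA1 : A ≠ ⊥ := hTH.1
  have hpA : p ∣ Nat.card A := dvd_card_of_pgroup hAp hA1 le_rfl
  obtain ⟨k, hk⟩ := IsPGroup.iff_card.mp hAp
  have hθtop : θ ≠ ⊤ := fun h => hCtop (top_le_iff.mp (h ▸ piCoreOf_le _ C))
  have hθp : (Nat.card θ).Coprime p := by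
    rw [Nat.coprime_comm, Nat.Prime.coprime_iff_not_dvd hp.out]
    intro h
    exact (card_piCoreOf _ _ p hp.out h).2 hpA
  have hAθ : A ≤ normalizer (θ : Set G) := hAC.trans (le_normalizer_piCoreOf _ C)
  have hinv : ∀ (S : Subgroup G) (s : ℕ) [Fact s.Prime], s ≠ p → IsPGroup s S →
      A ≤ normalizer (S : Set G) → A ≤ normalizer ((S ⊓ C : Subgroup G) : Set G) ∧ S ⊓ C ≤ θ := by
    intro S s _ hsp hSp hAS
    have hn : A ≤ normalizer ((S ⊓ C : Subgroup G) : Set G) :=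
      (le_inf hAS (hAC.trans le_normalizer)).trans inf_normalizer_le_normalizer_inf
    refine ⟨hn, le_core_of_mem_inv hTH hCtop hAC ⟨inf_le_right, ?_, hn⟩⟩
    apply primesNotDvd_of_coprime
    obtain ⟨m, hm⟩ := IsPGroup.iff_card.mp (hSp.to_le (inf_le_left : S ⊓ C ≤ S))
    rw [hk, hm]
    exact Nat.Coprime.pow _ _ ((Nat.coprime_primes hp.out Fact.out).mpr hsp.symm)
  obtain ⟨hAT₁, hT₁θ⟩ := hinv S₁ s₁ h1p hS₁p hAS₁
  obtain ⟨hAT₂, hT₂θ⟩ := hinv S₂ s₂ h2p hS₂p hAS₂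
  have hk₁ := core_coprime hG h1p hAp hθtop hθp hAθ hT₁θ (hS₁p.to_le inf_le_left) hAT₁ hc₁ h₂.norm_le
  have hk₂ := core_coprime hG h2p hAp hθtop hθp hAθ hT₂θ (hS₂p.to_le inf_le_left) hAT₂ hc₂ h₁.norm_le
  have hle₁ : coreOf s₁ θ ≤ coreOf s₂ θ := le_coreOf (coreOf_le _ _) (le_normalizer_coreOf _ _) hk₁
  have hle₂ : coreOf s₂ θ ≤ coreOf s₁ θ := le_coreOf (coreOf_le _ _) (le_normalizer_coreOf _ _) hk₂
  have heq : pPrimeCore s₁ θ = pPrimeCore s₂ θ :=
    map_injective θ.subtype_injective (le_antisymm hle₁ hle₂)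
  have := sol hG hθtop
  have hfin := coprime_of_cores_eq hss heq
  -- but `S₁ ∩ C` is a nontrivial `s₁`-subgroup of `θ`
  have hT1 : (S₁ ⊓ C : Subgroup G) ≠ ⊥ := by
    intro h
    apply hc₁
    rw [h]; exact bot_le
  have hd : s₁ ∣ Nat.card θ := dvd_card_of_pgroup (hS₁p.to_le inf_le_left) hT1 hT₁θ
  exact (Nat.Prime.coprime_iff_not_dvd hs₁.out).mp hfin.symm hd

end Cfsg.Agent.Lib.Helper31UniqC
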