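import Cfsg.Agent.Lib.Helper31UniqA
import Cfsg.Agent.Lib.Helper31UniqB
import Cfsg.Agent.Lib.Helper31UniqC
import Cfsg.Agent.S1399
import Cfsg.Agent.S1451

/-!
Towards B-G 9.5, part D: construction of good pairs and the final assembly.  The statements S1400
and S1401 enter as hypotheses `H1400`, `H1401`.
-/

set_option autoImplicit false
open Cfsg

namespace Cfsg.Agent.Lib.Helper31UniqD

open Subgroup
open scoped commutatorElement
open Cfsg.Agent.Lib.Helper30Trans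
open Cfsg.Agent.Lib.Helper30Over
open Cfsg.Agent.Lib.Helper30Bender
open Cfsg.Agent.Lib.Helper24BG
open Cfsg.Agent.Lib.Helper24BG2
open Cfsg.Agent.Lib.Helper37Cores
open Cfsg.Agent.Lib.Helper31UniqA
open Cfsg.Agent.Lib.Helper31UniqB
open Cfsg.Agent.Lib.Helper31UniqC

universe u
variable {G : Type u} [Group G]

/-- the statement S1400 -/
def H1400 (G : Type u) [Group G] : Prop :=
  ∀ (s : ℕ) [Fact s.Prime] (A B : Subgroup G), IsPGroup s A → IsMulCommutative A →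
    ¬ PRankLE s 2 ↥A → InUniqueMaximal A → IsPGroup s B → ¬ IsCyclic B →
    ¬ PRankLE s 2 ↥(centralizer (B : Set G)) → InUniqueMaximal B

/-- the statement S1401 -/
def H1401 (G : Type u) [Group G] : Prop :=
  ∀ (M : Subgroup G), IsCoatom M → ∀ (s : ℕ) [Fact s.Prime], ¬ PRankLE s 2 ↥(fittingOf M) →
    ∀ A : Subgroup G, IsPGroup s A → IsMulCommutative A → ¬ PRankLE s 2 ↥A → InUniqueMaximal A

/-- commutators of a group normalizing a cyclic group centralize it -/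
theorem commutator_le_centralizer_zpowers {N : Subgroup G} {z : G}
    (h : N ≤ normalizer (zpowers z : Set G)) : ⁅N, N⁆ ≤ centralizer ({z} : Set G) := by
  rw [commutator_le]
  intro a ha b hb
  have hpow : ∀ g ∈ N, ∃ i : ℤ, g * z * g⁻¹ = z ^ i := by
    intro g hg
    obtain ⟨i, hi⟩ := mem_zpowers_iff.mp ((mem_normalizer_iff.mp (h hg) z).mp (mem_zpowers z))
    exact ⟨i, hi.symm⟩
  obtain ⟨i, hi⟩ := hpow a ha
  obtain ⟨j, hj⟩ := hpow b hb
  obtain ⟨m, hm⟩ := hpow (b * a)⁻¹ (inv_mem (mul_mem hb ha))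
  have h1 : (a * b) * z * (a * b)⁻¹ = z ^ (i * j) := by
    calc (a * b) * z * (a * b)⁻¹ = a * (b * z * b⁻¹) * a⁻¹ := by group
      _ = a * z ^ j * a⁻¹ := by rw [hj]
      _ = (a * z * a⁻¹) ^ j := by rw [conj_zpow]
      _ = z ^ (i * j) := by rw [hi, zpow_mul]
  have h2 : (b * a) * z * (b * a)⁻¹ = z ^ (i * j) := by
    calc (b * a) * z * (b * a)⁻¹ = b * (a * z * a⁻¹) * b⁻¹ := by group
      _ = b * z ^ i * b⁻¹ := by rw [hi]
      _ = (b * z * b⁻¹) ^ i := by rw [conj_zpow]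
      _ = z ^ (i * j) := by rw [hj, mul_comm i j, zpow_mul]
  rw [mem_centralizer_singleton_iff]
  have h3 : ⁅a, b⁆ * z * ⁅a, b⁆⁻¹ = z := by
    calc ⁅a, b⁆ * z * ⁅a, b⁆⁻¹ = (a * b) * ((b * a)⁻¹ * z * (b * a)⁻¹⁻¹) * (a * b)⁻¹ := by
          rw [commutatorElement_def]; group
      _ = (a * b) * z ^ m * (a * b)⁻¹ := by rw [hm]
      _ = ((a * b) * z * (a * b)⁻¹) ^ m := by rw [conj_zpow]
      _ = ((b * a) * z * (b * a)⁻¹) ^ m := by rw [h1, h2]
      _ = (b * a) * z ^ m * (b * a)⁻¹ := by rw [conj_zpow]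
      _ = (b * a) * ((b * a)⁻¹ * z * (b * a)⁻¹⁻¹) * (b * a)⁻¹ := by rw [hm]
      _ = z := by group
  calc ⁅a, b⁆ * z = (⁅a, b⁆ * z * ⁅a, b⁆⁻¹) * ⁅a, b⁆ := by group
    _ = z * ⁅a, b⁆ := by rw [h3]

variable [Finite G]

/-- a central element of order `p` in a nontrivial `p`-subgroup -/
theorem exists_central_order {p : ℕ} [Fact p.Prime] {P : Subgroup G} (hP : IsPGroup p P)
    (h1 : P ≠ ⊥) : ∃ z ∈ P, z ∈ centralizer (P : Set G) ∧ z ≠ 1 ∧ z ^ p = 1 := by
  have hpp : p.Prime := Fact.out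
  have hnt : Nontrivial P := (nontrivial_iff_ne_bot _).mpr h1
  have hc : Nontrivial (center P) := hP.center_nontrivial
  have hcp : IsPGroup p (center P) := hP.to_subgroup _
  obtain ⟨k, hk⟩ := IsPGroup.iff_card.mp hcp
  have hk0 : k ≠ 0 := by
    rintro rfl
    rw [pow_zero] at hk
    have := (Nat.card_eq_one_iff_unique.mp hk).1
    exact not_subsingleton _ this
  obtain ⟨z, hz⟩ := exists_prime_orderOf_dvd_card' (G := center P) p (hk ▸ dvd_pow_self p hk0)
  refine ⟨((z : P) : G), (z : P).2, ?_, ?_, ?_⟩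
  · rw [mem_centralizer_iff]
    intro x hx
    have := (mem_center_iff.mp z.2) ⟨x, hx⟩
    exact congrArg Subtype.val this
  · intro h
    have : z = 1 := Subtype.ext (Subtype.ext h)
    rw [this, orderOf_one] at hz
    exact hpp.one_lt.ne hz
  · have := pow_orderOf_eq_one z
    rw [hz] at this
    exact congrArg (fun t : center P => ((t : P) : G)) this

/-- the Sylow `s`-subgroup of a nilpotent subgroup -/
theorem exists_char_sylow {s : ℕ} [Fact s.Prime] {F : Subgroup G} (hF : Group.IsNilpotent F) :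
    ∃ S₀ : Subgroup G, S₀ ≤ F ∧ IsPGroup s S₀ ∧ normalizer (F : Set G) ≤ normalizer (S₀ : Set G) ∧
      ∀ X : Subgroup G, X ≤ F → IsPGroup s X → X ≤ S₀ := by
  obtain ⟨P⟩ : Nonempty (Sylow s F) := inferInstance
  have hn : (P : Subgroup F).Normal := inferInstance
  have hch : (P : Subgroup F).Characteristic := P.characteristic_of_normal hn
  refine ⟨(P : Subgroup F).map F.subtype, map_subtype_le _, P.2.map _,
    Cfsg.Agent.Lib.Helper30SZ.normalizer_le_normalizer_map_of_characteristic _, ?_⟩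
  intro X hXF hX
  obtain ⟨P', hP'⟩ := (hX.comap_subtype (K := F)).exists_le_sylow
  have : P' = P := by
    have := P.unique_of_normal hn
    exact Subsingleton.elim _ _
  intro x hx
  exact ⟨⟨x, hXF hx⟩, this ▸ hP' (mem_subgroupOf.mpr hx), rfl⟩

/-- the standing hypotheses of the proof by contradiction -/
structure Setup (p : ℕ) (A E T : Subgroup G) : Prop where
  TH : TransitivityHypothesis A
  Ap : IsPGroup p A
  Ac : IsMulCommutative A
  A3 : ¬ PRankLE p 2 A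
  EA : E ≤ A
  Ep : ∀ a ∈ E, a ^ p = 1
  E3 : p ^ 3 ≤ Nat.card E
  AT : A ≤ T
  Tp : IsPGroup p T
  tr : ∀ q : ℕ, q.Prime → ¬ q ∣ Nat.card A → ∀ Q₁ ∈ maxInvSubgroups ⊤ A {q},
    ∀ Q₂ ∈ maxInvSubgroups ⊤ A {q},
      ∃ k ∈ piCoreOf (primesNotDvd (Nat.card A)) (centralizer (A : Set G)), Q₂ = cj k Q₁
  sub : ∀ q : ℕ, q.Prime → ¬ q ∣ Nat.card A →
    maxInvSubgroups ⊤ T {q} ⊆ maxInvSubgroups ⊤ A {q}
  der : ∀ q : ℕ, q.Prime → ¬ q ∣ Nat.card A → ∀ Q ∈ maxInvSubgroups ⊤ T {q},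
    T ≤ ⁅normalizer (Q : Set G), normalizer (Q : Set G)⁆
  rank : ∀ H : Subgroup G, IsCoatom H → PRankLE p 2 (fittingOf H)
  nU : ¬ InUniqueMaximal A

/-- if `A ≤ L'` then `F(L)` has rank at least three -/
theorem not_rankLE_fitting (hG : IsMinSimpleOddOrder G) {p : ℕ} {A L : Subgroup G}
    (hA3 : ¬ PRankLE p 2 A) (hL : IsCoatom L) (hAL : A ≤ ⁅L, L⁆)
    (hrank : PRankLE p 2 (fittingOf L)) : ¬ RankLE 2 (fittingOf L) := by
  intro h
  have := sol hG hL.1
  have h1 : RankLE 2 (fittingSubgroup L) := by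
    intro r hr
    exact Cfsg.Agent.Lib.Helper3RankTower.rank_of_injective
      ((fittingSubgroup L).equivMapOfInjective L.subtype L.subtype_injective).toMonoidHom
      ((fittingSubgroup L).equivMapOfInjective L.subtype L.subtype_injective).injective (h r hr)
  have h2 := (Cfsg.Agent.S1451.result (G := L) (odd_sub hG L) (Or.inr h1)).1
  have h3 : ⁅L, L⁆ ≤ fittingOf L := by
    apply le_fittingOf (commutator_le_self L)
      (Cfsg.Agent.Lib.Helper30SZ.le_normalizer_commutator le_normalizer le_normalizer)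
    rw [← map_subtype_commutator]
    exact (Group.isNilpotent_congr
      ((_root_.commutator L).equivMapOfInjective L.subtype L.subtype_injective)).mp h2
  exact hA3 (rank_le_of_le (hAL.trans h3) hrank)

theorem good_of_max (hG : IsMinSimpleOddOrder G) (h00 : H1400 G) (h01 : H1401 G) {p : ℕ}
    [hp : Fact p.Prime] {A E T : Subgroup G} (hS : Setup p A E T) {q : ℕ} (hq : q.Prime)
    (hqA : ¬ q ∣ Nat.card A) {Q : Subgroup G} (hQ : Q ∈ maxInvSubgroups ⊤ T {q})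
    {L : Subgroup G} (hL : IsCoatom L) (hNL : normalizer (Q : Set G) ≤ L) :
    ∃ s : ℕ, ∃ _ : Fact s.Prime, s ≠ p ∧ Good A L s ∧
      piCoreOf (primesNotDvd (Nat.card A)) (centralizer (A : Set G)) ≤ L := by
  have hAL' : A ≤ ⁅L, L⁆ := (hS.AT.trans (hS.der q hq hqA Q hQ)).trans (commutator_mono hNL hNL)
  have hTL : T ≤ L := hQ.1.2.2.trans hNL
  have hnr := not_rankLE_fitting hG hS.A3 hL hAL' (hS.rank L hL)
  unfold RankLE at hnr
  push Not at hnr
  obtain ⟨s, hs, hsr⟩ := hnr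
  have hsF : Fact s.Prime := ⟨hs⟩
  have hsp : s ≠ p := by
    rintro rfl
    exact hsr (hS.rank L hL)
  refine ⟨s, hsF, hsp, ?_⟩
  obtain ⟨Es, hEsF, hEse, hEsc⟩ := exists_elemAb hsr
  have hEs3 : ¬ PRankLE s 2 Es := not_rank_of_elemAb le_rfl hEse hEsc
  have hEsp : IsPGroup s Es := isPGroup_of_elemAb hEse
  have hEsU : InUniqueMaximal Es := h01 L hL s hsr Es hEsp hEse.1 hEs3
  have hEsL : Es ≤ L := hEsF.trans (fittingOf_le L)
  obtain ⟨S₀, hS₀F, hS₀p, hS₀n, hS₀max⟩ := exists_char_sylow (s := s) (fittingOf_isNilpotent L)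
  have hTS₀ : T ≤ normalizer (S₀ : Set G) := (hTL.trans (le_normalizer_fittingOf L)).trans hS₀n
  obtain ⟨S, hSmax, hS₀S⟩ := exists_max_ge (mem_inv_of_isPGroup (q := s) (le_top : S₀ ≤ ⊤) hS₀p hTS₀)
  have hEsS : Es ≤ S := (hS₀max Es hEsF hEsp).trans hS₀S
  obtain ⟨k, hk⟩ := IsPGroup.iff_card.mp hS.Ap
  have hsA : ¬ s ∣ Nat.card A := by
    intro h
    rw [hk] at h
    exact hsp ((Nat.prime_dvd_prime_iff_eq hs hp.out).mp (hs.dvd_of_dvd_pow h))
  have hSA : S ∈ maxInvSubgroups ⊤ A {s} := hS.sub s hs hsA hSmax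
  have hSp : IsPGroup s S := isPGroup_of_mem_inv hSmax.1
  have hStop : S ≠ ⊤ := pgroup_ne_top hG hSp
  have hSU : InUniqueMaximal S := uniq_mono hEsU hEsS hStop
  have hSL : S ≤ L := le_of_uniq hL hEsL hEsU hEsS hStop
  have hS3 : ¬ PRankLE s 2 S := not_rank_of_elemAb hEsS hEse hEsc
  have hS1 : S ≠ ⊥ := by
    rintro rfl
    apply hS3
    intro B _ _
    have : Nat.card B = 1 := Nat.card_eq_one_iff_unique.mpr ⟨inferInstance, ⟨1⟩⟩
    rw [this]
    exact Nat.one_le_pow _ _ hs.pos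
  have hs2 : s ≠ 2 := ne_two hG hSp hS1
  have hTder : T ≤ ⁅normalizer (S : Set G), normalizer (S : Set G)⁆ := hS.der s hs hsA S hSmax
  have hAS : A ≤ normalizer (S : Set G) := hSA.1.2.2
  have hES : E ≤ normalizer (S : Set G) := hS.EA.trans hAS
  have hEc : IsMulCommutative E := by
    refine ⟨⟨fun a b => ?_⟩⟩
    apply Subtype.ext
    show (a : G) * (b : G) = (b : G) * (a : G)
    exact congrArg Subtype.val (hS.Ac.is_comm.comm ⟨(a : G), hS.EA a.2⟩ ⟨(b : G), hS.EA b.2⟩)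
  have hAtop : A ≠ ⊤ := hS.TH.2.1
  -- noncyclic subgroups of the centre of `S` are uniqueness subgroups
  have hVU : ∀ V' : Subgroup G, V' ≤ OmZ s S → ¬ IsCyclic V' → InUniqueMaximal V' := by
    intro V' hV' hnc
    apply h00 s Es V' hEsp hEse.1 hEs3 hEsU (hSp.to_le (hV'.trans (OmZ_le s S))) hnc
    apply not_rank_of_elemAb (B := Es) _ hEse hEsc
    refine hEsS.trans ?_
    rw [le_centralizer_iff]
    exact hV'.trans (OmZ_le_centralizer s S)
  obtain ⟨z, hzS, hzc, hz1, hzs⟩ := exists_central_order hSp hS1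
  by_cases huniq : ∀ c ∈ S, c ∈ centralizer (S : Set G) → c ^ s = 1 → c ∈ zpowers z
  · -- the cyclic case: contradiction
    exfalso
    have hOm : OmZ s S = zpowers z := by
      apply le_antisymm
      · intro c hc
        exact huniq c hc.1 hc.2.1 hc.2.2
      · exact zpowers_le.mpr ⟨hzS, hzc, hzs⟩
    have hNz : normalizer (S : Set G) ≤ normalizer (zpowers z : Set G) := by
      rw [← hOm]; exact normalizer_le_normalizer_OmZ s S
    have hEz : E ≤ centralizer ({z} : Set G) :=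
      ((hS.EA.trans hS.AT).trans hTder).trans (commutator_le_centralizer_zpowers hNz)
    obtain ⟨B, N, hBE, hBi, hNp, hNnc, hNr, hBN⟩ :=
      cyclic_center_case hs2 hsp hSp hS3 hEc hS.Ep hES hzS hzc hz1 hzs huniq hEz
    have hNU : InUniqueMaximal N := h00 s Es N hEsp hEse.1 hEs3 hEsU hNp hNnc hNr
    have hBe : IsElementaryAbelian p B := elemAb_of_le ⟨hEc, hS.Ep⟩ hBE
    have hBc : p ^ 1 < Nat.card B := by
      have h1 := card_mul_relIndex hBE
      have h2 : Nat.card E ≤ Nat.card B * p := by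
        rw [← h1]; exact Nat.mul_le_mul_left _ hBi
      have h3 := hS.E3
      have h4 : p ^ 3 = p * p * p := by ring
      have h5 : p * p * p ≤ Nat.card B * p := by omega
      have h6 : p * p ≤ Nat.card B := Nat.le_of_mul_le_mul_right h5 hp.out.pos
      have h7 : p * 2 ≤ p * p := Nat.mul_le_mul_left _ hp.out.two_le
      have h8 := hp.out.pos
      rw [pow_one]
      omega
    have hBU : InUniqueMaximal B :=
      Cfsg.Agent.S1399.result hG N B hNU hBN (not_rankLE_of_elemAb hp.out le_rfl hBe hBc)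
    exact hS.nU (uniq_mono hBU (hBE.trans hS.EA) hAtop)
  · push Not at huniq
    obtain ⟨c, hcS, hcc, hcs, hcz⟩ := huniq
    have hzV : z ∈ OmZ s S := ⟨hzS, hzc, hzs⟩
    have hcV : c ∈ OmZ s S := ⟨hcS, hcc, hcs⟩
    have hVnc : ¬ IsCyclic (OmZ s S) :=
      not_isCyclic_of_elemAb hs (fun a ha => ha.2.2) hcV hzV hz1 hcz
    have hVU' := hVU _ le_rfl hVnc
    have hVL : OmZ s S ≤ L := (OmZ_le s S).trans hSL
    obtain ⟨e, heE, he1, henc⟩ := exists_noncyclic_fixed hsp hSp hEc hS.Ep hS.E3 hES hzV hz1 hcV hcz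
    have hKL : piCoreOf (primesNotDvd (Nat.card A)) (centralizer (A : Set G)) ≤ L := by
      have h1 : centralizer ({e} : Set G) ≤ L :=
        le_of_uniq hL (inf_le_left.trans hVL) (hVU _ inf_le_left henc) inf_le_right
          (centralizer_singleton_ne_top hG he1)
      refine ((piCoreOf_le _ _).trans (centralizer_le ?_)).trans h1
      intro x hx
      rw [Set.mem_singleton_iff.mp hx]; exact hS.EA heE
    refine ⟨⟨hL, ?_, ⟨S, hS1, hSp, hAS, hSU⟩⟩, hKL⟩
    intro X hX1 hXp hAX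
    obtain ⟨S₁, hS₁, hXS₁⟩ := exists_max_ge (mem_inv_of_isPGroup (q := s) (le_top : X ≤ ⊤) hXp hAX)
    obtain ⟨k, hk, rfl⟩ := hS.tr s hs hsA S hSA S₁ hS₁
    have hkL : k ∈ L := hKL hk
    have hX' : cj k⁻¹ X ≤ S := by
      rw [cj_le_iff, inv_inv]; exact hXS₁
    have hX'1 : cj k⁻¹ X ≠ ⊥ := by
      intro h
      apply hX1
      have : Nat.card (cj k⁻¹ X) = 1 := by rw [h, card_bot]
      rw [card_cj] at this
      exact card_eq_one.mp this
    have h1 : OmZ s S ≤ normalizer ((cj k⁻¹ X : Subgroup G) : Set G) :=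
      ((OmZ_le_centralizer s S).trans (centralizer_le hX')).trans (centralizer_le_normalizer _)
    have h2 : normalizer ((cj k⁻¹ X : Subgroup G) : Set G) ≤ L :=
      le_of_uniq hL hVL hVU' h1 (norm_ne_top hG hX'1 (pgroup_ne_top hG (hSp.to_le hX')))
    have h3 : cj k⁻¹ (normalizer (X : Set G)) ≤ L := (cj_le_normalizer_cj k⁻¹ le_rfl).trans h2
    rw [cj_le_iff, inv_inv, cj_eq_self_of_mem_normalizer (le_normalizer hkL)] at h3
    exact h3

/-- **B-G 9.5**, from `H1400` and `H1401`. -/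
theorem main (hG : IsMinSimpleOddOrder G) (h00 : H1400 G) (h01 : H1401 G) {p : ℕ}
    [hp : Fact p.Prime] (P : Sylow p G) {A : Subgroup G} (hA : IsSCN (P : Subgroup G) A)
    (hA3 : ¬ PRankLE p 2 A) : InUniqueMaximal A := by
  by_contra hnU
  have hpp : p.Prime := hp.out
  have hAp : IsPGroup p A := P.2.to_le hA.1
  have hAc : IsMulCommutative A := scn_comm hA
  have hrank : ∀ H : Subgroup G, IsCoatom H → PRankLE p 2 (fittingOf H) := by
    intro H hH
    by_contra h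
    exact hnU (h01 H hH p h A hAp hAc hA3)
  have hA1 : A ≠ ⊥ := by
    rintro rfl
    apply hA3
    intro B _ _
    have : Nat.card B = 1 := Nat.card_eq_one_iff_unique.mpr ⟨inferInstance, ⟨1⟩⟩
    rw [this]
    exact Nat.one_le_pow _ _ hpp.pos
  have hP1 : (P : Subgroup G) ≠ ⊥ := ne_bot_of_le_ne_bot hA1 hA.1
  obtain ⟨k, hk⟩ := IsPGroup.iff_card.mp hAp
  have hpA : p ∣ Nat.card A := dvd_card_of_pgroup hAp hA1 le_rfl
  have hpG : p ∣ Nat.card G := hpA.trans (card_subgroup_dvd_card A)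
  have hTH : TransitivityHypothesis A := Cfsg.Agent.S1396.result hG p hpG A hAp hAc
    (Or.inr ⟨P, hA, fun h => hA3 (rank_mono hpp.pos h (by norm_num))⟩)
  have hAA : A ⊓ centralizer (A : Set G) = A := by
    rw [inf_eq_left]
    intro a ha
    rw [mem_centralizer_iff]
    intro b hb
    exact congrArg Subtype.val (hAc.is_comm.comm ⟨b, hb⟩ ⟨a, ha⟩)
  have hZ : ¬ RankLE 2 ↥(A ⊓ centralizer (A : Set G)) := by
    rw [hAA]
    exact fun h => hA3 (h p hpp)
  obtain ⟨T, hAT, hTP, hTder⟩ := exists_T hG P hP1 hA.1 hAc hA.2.1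
  have hTp : IsPGroup p T := P.2.to_le hTP
  have hTtop : T ≠ ⊤ := pgroup_ne_top hG hTp
  have hTπ : ∀ r : ℕ, r.Prime → r ∣ Nat.card T → r ∣ Nat.card A := by
    intro r hr hd
    obtain ⟨m, hm⟩ := IsPGroup.iff_card.mp hTp
    rw [hm] at hd
    rw [(Nat.prime_dvd_prime_iff_eq hr hpp).mp (hr.dvd_of_dvd_pow hd)]
    exact hpA
  have hsn : (A.subgroupOf T).IsSubnormal := by
    apply Normal.isSubnormal
    exact (normal_subgroupOf_iff_le_normalizer hAT).mpr (hTP.trans hA.2.1)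
  have htr := fun (q : ℕ) (hq : q.Prime) (hqA : ¬ q ∣ Nat.card A) =>
    Cfsg.Agent.S1393.result hG A hTH hZ q hq hqA
  have h95 := fun (q : ℕ) (hq : q.Prime) (hqA : ¬ q ∣ Nat.card A) =>
    Cfsg.Agent.S1395.result hG A hTH q hq hqA T hTtop hTπ hAT hsn (htr q hq hqA)
  obtain ⟨E, hEA, hEe, hEc⟩ := exists_elemAb hA3
  have hE3 : p ^ 3 ≤ Nat.card E := by
    obtain ⟨m, hm⟩ := IsPGroup.iff_card.mp (isPGroup_of_elemAb hEe)
    rw [hm] at hEc ⊢
    exact Nat.pow_le_pow_right hpp.pos ((Nat.pow_lt_pow_iff_right hpp.one_lt).mp hEc)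
  have hS : Setup p A E T :=
    { TH := hTH, Ap := hAp, Ac := hAc, A3 := hA3, EA := hEA, Ep := hEe.2, E3 := hE3, AT := hAT,
      Tp := hTp, tr := htr, sub := fun q hq hqA => (h95 q hq hqA).2.2.1,
      der := fun q hq hqA Q hQ => (le_inf le_rfl hTder).trans ((h95 q hq hqA).2.2.2 Q hQ).1,
      rank := hrank, nU := hnU }
  -- the candidate maximal subgroup
  have hex : ∃ M : Subgroup G, IsCoatom M ∧ A ≤ M ∧ ∀ q : ℕ, q.Prime → ¬ q ∣ Nat.card A →
      ∀ Q ∈ maxInvSubgroups ⊤ T {q}, Q ≠ ⊥ →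
        Q ≤ M ∧ piCoreOf (primesNotDvd (Nat.card A)) (centralizer (A : Set G)) ≤ M := by
    by_cases hall : ∀ q : ℕ, q.Prime → ¬ q ∣ Nat.card A → ∀ Q ∈ maxInvSubgroups ⊤ T {q}, Q = ⊥
    · obtain ⟨M, hM, hAM⟩ := exists_coatom hTH.2.1
      exact ⟨M, hM, hAM, fun q hq hqA Q hQ hQ1 => absurd (hall q hq hqA Q hQ) hQ1⟩
    · push Not at hall
      obtain ⟨q₀, hq₀, hq₀A, Q₀, hQ₀, hQ₀1⟩ := hall
      have hq₀F : Fact q₀.Prime := ⟨hq₀⟩
      obtain ⟨M, hM, hNM⟩ := exists_coatom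
        (norm_ne_top hG hQ₀1 (pgroup_ne_top hG (isPGroup_of_mem_inv hQ₀.1)))
      obtain ⟨s₀, hs₀, hs₀p, hg₀, -⟩ := good_of_max hG h00 h01 hS hq₀ hq₀A hQ₀ hM hNM
      refine ⟨M, hM, (hAT.trans hQ₀.1.2.2).trans hNM, ?_⟩
      intro q hq hqA Q hQ hQ1
      have hqF : Fact q.Prime := ⟨hq⟩
      obtain ⟨L, hL, hNL⟩ := exists_coatom
        (norm_ne_top hG hQ1 (pgroup_ne_top hG (isPGroup_of_mem_inv hQ.1)))
      obtain ⟨s, hs, hsp, hg, hKL⟩ := good_of_max hG h00 h01 hS hq hqA hQ hL hNL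
      have hLM : L = M := good_unique hG hTH hAp hAc hEA hEe.2 hE3 hsp hs₀p hg hg₀
      subst hLM
      exact ⟨le_normalizer.trans hNL, hKL⟩
  obtain ⟨M, hM, hAM, hMQ⟩ := hex
  apply hnU
  refine uniq_of hM hAM (uniq_of_inv hG hM hAM hAp hA1 ?_)
  intro Y hY hAY
  apply Cfsg.Agent.Lib.Helper30Gen.le_of_forall_sylow_le
  intro q hq
  have hcop : (Nat.card A).Coprime (Nat.card Y) := by
    rw [hk]
    exact (Nat.Coprime.pow_left k hY.symm)
  have : Group.IsSolvable A := by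
    have := hAp.isNilpotent
    infer_instance
  obtain ⟨Yq, hYq⟩ := Cfsg.Agent.Lib.Helper1SylowInv.exists_invariant_sylow A Y hAY hcop (Or.inl this) q
  refine ⟨Yq, ?_⟩
  by_cases hqp : q = p
  · subst hqp
    obtain ⟨m, hm⟩ := IsPGroup.iff_card.mp Yq.2
    have h1 : Nat.card (Yq : Subgroup Y) = 1 := by
      apply Nat.Coprime.eq_one_of_dvd _ (card_subgroup_dvd_card (Yq : Subgroup Y))
      rw [hm]
      exact Nat.Coprime.pow_left m hY.symm
    rw [card_eq_one.mp h1, Subgroup.map_bot]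
    exact bot_le
  have hq' : q.Prime := hq.out
  have hqA : ¬ q ∣ Nat.card A := by
    intro h
    rw [hk] at h
    exact hqp ((Nat.prime_dvd_prime_iff_eq hq' hpp).mp (hq'.dvd_of_dvd_pow h))
  obtain ⟨Q, hQ, -⟩ := exists_max_ge (H := ⊤) (A := T) (Y := ⊥) (π := {q})
    ⟨bot_le, by
      intro r hr hd
      rw [card_bot] at hd
      exact absurd (Nat.dvd_one.mp hd) hr.one_lt.ne', by
      rw [le_normalizer_iff]
      intro h _ k hk
      rw [mem_bot] at hk ⊢
      rw [hk]; group⟩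
  obtain ⟨Q', hQ', hle⟩ := exists_max_ge (H := ⊤) (A := A) (π := {q})
    (mem_inv_of_isPGroup (q := q) (le_top : (Yq : Subgroup Y).map Y.subtype ≤ ⊤) (Yq.2.map _) hYq)
  obtain ⟨c, hc, rfl⟩ := htr q hq' hqA Q (hS.sub q hq' hqA hQ) Q' hQ'
  refine hle.trans ?_
  by_cases hQ1 : Q = ⊥
  · rw [hQ1, Subgroup.map_bot]; exact bot_le
  · obtain ⟨hQM, hKM⟩ := hMQ q hq' hqA Q hQ hQ1
    rintro _ ⟨x, hx, rfl⟩
    exact M.mul_mem (M.mul_mem (hKM hc) (hQM hx)) (M.inv_mem (hKM hc))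

end Cfsg.Agent.Lib.Helper31UniqD
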