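import Cfsg.Agent.Lib.Helper24BG2
import Cfsg.Agent.Lib.Helper27Bender3
import Cfsg.Agent.Lib.Helper30SZ
import Cfsg.Agent.Lib.Helper30Coprime

/-!
Bender-Glauberman section 8: the common part of Theorem 8.1.
-/

set_option autoImplicit false
open Cfsg

namespace Cfsg.Agent.Lib.Helper24BG3

open Subgroup
open Cfsg.Agent.Lib.Helper30Trans
open Cfsg.Agent.Lib.Helper30Over
open Cfsg.Agent.Lib.Helper30Bender
open Cfsg.Agent.Lib.Helper30Coprime
open Cfsg.Agent.Lib.Helper37Cores
open Cfsg.Agent.Lib.Helper24BG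
open Cfsg.Agent.Lib.Helper24BG2

universe u
variable {G : Type u} [Group G]

theorem eq_bot_of_le_coprime {K F : Subgroup G} (h : K ≤ F)
    (hc : (Nat.card K).Coprime (Nat.card F)) : K = ⊥ :=
  card_eq_one.mp (Nat.Coprime.eq_one_of_dvd hc (card_dvd_of_le h))

/-- An inner version of the Thompson lemma, for nilpotent `X`. -/
theorem centralizes_of_AB {X D K : Subgroup G} (hX : Group.IsNilpotent X) (hDX : D ≤ X)
    (hKX : K ≤ normalizer (X : Set G)) (hcop : (Nat.card K).Coprime (Nat.card X))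
    (hKD : K ≤ centralizer (D : Set G))
    (hKC : K ≤ centralizer ((X ⊓ centralizer (D : Set G) : Subgroup G) : Set G)) :
    K ≤ centralizer (X : Set G) := by
  set C : Subgroup G := X ⊓ centralizer (K : Set G) with hC
  by_contra hcon
  have hlt : C < X := by
    refine lt_of_le_of_ne inf_le_left ?_
    intro h
    apply hcon
    have : X ≤ centralizer (K : Set G) := h ▸ inf_le_right
    exact le_centralizer_iff.mp this
  obtain ⟨y, hyX, hyC, hyN⟩ := exists_mem_normalizer_not_mem hX hlt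
  apply hyC
  refine mem_inf.mpr ⟨hyX, ?_⟩
  rw [mem_centralizer_iff]
  intro k hk
  have hkC : ∀ c ∈ C, k * c * k⁻¹ = c := by
    intro c hc
    have := (mem_centralizer_iff.mp hc.2) k hk
    rw [this]; group
  have h1 := comm_commutes_of_normalizes hyN hkC
  set z := y⁻¹ * k * y * k⁻¹ with hz
  have hzX : z ∈ X := by
    have h2 : k * y * k⁻¹ ∈ X := (mem_normalizer_iff.mp (hKX hk) y).mp hyX
    have : z = y⁻¹ * (k * y * k⁻¹) := by rw [hz]; group
    rw [this]
    exact X.mul_mem (X.inv_mem hyX) h2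
  have hDC : D ≤ C := le_inf hDX (le_centralizer_iff.mp hKD)
  have hzD : z ∈ centralizer (D : Set G) := by
    rw [mem_centralizer_iff]
    intro d hd
    have := h1 d (hDC hd)
    calc d * z = (z * d * z⁻¹) * z := by rw [this]
      _ = z * d := by group
  have hkz : Commute k z := by
    have := (mem_centralizer_iff.mp (hKC hk)) z ⟨hzX, hzD⟩
    exact this.symm
  have hz1 : z = 1 := eq_one_of_conj (x := k) (h := y) (z := z) (by rw [hz]; group) hkz
    (pow_card_of_mem hk) (pow_card_of_mem hzX) hcop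
  have : y⁻¹ * k * y * k⁻¹ = 1 := hz1
  calc k * y = y * (y⁻¹ * k * y * k⁻¹) * k := by group
    _ = y * k := by rw [this]; group

theorem le_centralizer_of_inf_bot {Q F A : Subgroup G} (hQF : Q ≤ normalizer (F : Set G))
    (hAF : A ≤ F) (hAQ : A ≤ normalizer (Q : Set G)) (h : Q ⊓ F = ⊥) :
    Q ≤ centralizer (A : Set G) := by
  intro x hx
  rw [mem_centralizer_iff]
  intro a ha
  have h1 : x * a * x⁻¹ * a⁻¹ ∈ F :=
    F.mul_mem ((mem_normalizer_iff.mp (hQF hx) a).mp (hAF ha)) (F.inv_mem (hAF ha))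
  have h2 : x * a * x⁻¹ * a⁻¹ ∈ Q := by
    have h3 : a * x⁻¹ * a⁻¹ ∈ Q := (mem_normalizer_iff.mp (hAQ ha) x⁻¹).mp (Q.inv_mem hx)
    have : x * a * x⁻¹ * a⁻¹ = x * (a * x⁻¹ * a⁻¹) := by group
    rw [this]
    exact Q.mul_mem hx h3
  have h3 : x * a * x⁻¹ * a⁻¹ ∈ Q ⊓ F := ⟨h2, h1⟩
  rw [h, mem_bot] at h3
  calc a * x = (x * a * x⁻¹ * a⁻¹)⁻¹ * (x * a) := by group
    _ = x * a := by rw [h3]; group

variable [Finite G]

/-- a subgroup of `M` of order prime to `F(M)` centralizing `D ≤ F(M)` and `C_{F(M)}(D)` is trivial -/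
theorem eq_bot_of_AB {M D K : Subgroup G} (hMs : Group.IsSolvable M) (hDF : D ≤ fittingOf M)
    (hKM : K ≤ M) (hcop : (Nat.card K).Coprime (Nat.card (fittingOf M)))
    (hKD : K ≤ centralizer (D : Set G))
    (hKC : K ≤ centralizer ((fittingOf M ⊓ centralizer (D : Set G) : Subgroup G) : Set G)) :
    K = ⊥ := by
  have h1 := centralizes_of_AB (fittingOf_isNilpotent M) hDF (hKM.trans (le_normalizer_fittingOf M))
    hcop hKD hKC
  exact eq_bot_of_le_coprime ((le_inf hKM h1).trans (inf_centralizer_fittingOf_le hMs)) hcop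

/-- `F(M)`-invariant subgroups of `M` of order prime to `F(M)` are trivial -/
theorem eq_bot_of_fitting_inv {M Q : Subgroup G} (hMs : Group.IsSolvable M) (hQM : Q ≤ M)
    (hcop : (Nat.card Q).Coprime (Nat.card (fittingOf M)))
    (hFQ : fittingOf M ≤ normalizer (Q : Set G)) : Q = ⊥ := by
  have h1 := le_centralizer_of_inf_bot (hQM.trans (le_normalizer_fittingOf M)) le_rfl hFQ
    (disjoint_of_coprime_natCard hcop).eq_bot
  exact eq_bot_of_le_coprime ((le_inf hQM h1).trans (inf_centralizer_fittingOf_le hMs)) hcop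

theorem coprime_of_isPGroup_not_dvd {q n : ℕ} [hq : Fact q.Prime] {Q : Subgroup G} (hQ : IsPGroup q Q)
    (h : ¬ q ∣ n) : (Nat.card Q).Coprime n := by
  obtain ⟨k, hk⟩ := IsPGroup.iff_card.mp hQ
  rw [hk]
  exact Nat.Coprime.pow_left k ((Nat.Prime.coprime_iff_not_dvd hq.out).mpr h)

/-- The common part of B-G Theorem 8.1. -/
theorem inv_trivial (hG : IsMinSimpleOddOrder G) {M A : Subgroup G} (hM : IsCoatom M)
    (hAF : A ≤ fittingOf M)
    (hπ : ∀ r : ℕ, r.Prime → r ∣ Nat.card (fittingOf M) → r ∣ Nat.card A)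
    (hT : TransitivityHypothesis A) (hZ : ¬ RankLE 2 ↥(A ⊓ centralizer (A : Set G)))
    (hK : piCoreOf (primesNotDvd (Nat.card A)) (centralizer (A : Set G)) = ⊥) :
    ∀ Y : Subgroup G, (Nat.card Y).Coprime (Nat.card A) → A ≤ normalizer (Y : Set G) → Y = ⊥ := by
  have hMs := sol hG hM.1
  have hFtop : fittingOf M ≠ ⊤ := fun h => hM.1 (top_le_iff.mp (h ▸ fittingOf_le M))
  have hFnil := fittingOf_isNilpotent M
  have hq : ∀ q : ℕ, q.Prime → ¬ q ∣ Nat.card A → ∀ Y ∈ invSubgroups ⊤ A {q}, Y = ⊥ := by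
    intro q hq hqA Y hY
    have : Fact q.Prime := ⟨hq⟩
    have htr := Cfsg.Agent.S1393.result hG A hT hZ q hq hqA
    have huniq : ∀ Q₁ ∈ maxInvSubgroups ⊤ A {q}, ∀ Q₂ ∈ maxInvSubgroups ⊤ A {q}, Q₂ = Q₁ := by
      intro Q₁ h₁ Q₂ h₂
      obtain ⟨k, hk, rfl⟩ := htr Q₁ h₁ Q₂ h₂
      rw [hK, mem_bot] at hk
      subst hk
      exact cj_one Q₁
    have hsn : (A.subgroupOf (fittingOf M)).IsSubnormal :=
      Cfsg.Agent.Lib.Helper27Bender3.isSubnormal_of_isNilpotent _
    have res := Cfsg.Agent.S1395.result hG A hT q hq hqA (fittingOf M) hFtop hπ hAF hsn htr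
    obtain ⟨Q, hQ, -⟩ := exists_max_ge (H := ⊤) (A := fittingOf M) (π := {q}) (Y := ⊥)
      (mem_inv_of_isPGroup le_top IsPGroup.of_bot
        (by rw [normalizer_eq_top_iff.mpr normal_bot]; exact le_top))
    have hQA := res.2.2.1 hQ
    have hQp : IsPGroup q Q := isPGroup_of_mem_inv hQ.1
    have hMQ : M ≤ normalizer (Q : Set G) := by
      intro m hm
      apply mem_normalizer_of_cj_eq
      have h1 : cj m Q ∈ invSubgroups ⊤ (fittingOf M) {q} := by
        refine mem_inv_of_isPGroup le_top (hQp.map _) ?_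
        have := cj_le_normalizer_cj m hQ.1.2.2
        rwa [cj_eq_self_of_mem_normalizer (le_normalizer_fittingOf M hm)] at this
      obtain ⟨Q', hQ', hle⟩ := exists_max_ge h1
      have : Q' = Q := huniq Q hQA Q' (res.2.2.1 hQ')
      rw [this] at hle
      exact eq_of_le_of_card_ge hle (by rw [card_cj])
    have hQ1 : Q = ⊥ := by
      by_contra hne
      have h1 := norm_ne_top hG hne (pgroup_ne_top hG hQp)
      have h2 : normalizer (Q : Set G) = M := (hM.le_iff_eq h1).mp hMQ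
      have hQM : Q ≤ M := h2 ▸ le_normalizer
      exact hne (eq_bot_of_fitting_inv hMs hQM
        (coprime_of_isPGroup_not_dvd hQp (fun h => hqA (hπ q hq h))) hQ.1.2.2)
    obtain ⟨Q'', hQ'', hle⟩ := exists_max_ge hY
    have := huniq Q hQA Q'' hQ''
    rw [this, hQ1] at hle
    exact le_bot_iff.mp hle
  intro Y hY hAY
  by_contra hne
  have hc1 : Nat.card Y ≠ 1 := fun h => hne (card_eq_one.mp h)
  obtain ⟨q, hqp, hqY⟩ := Nat.exists_prime_and_dvd hc1
  have : Fact q.Prime := ⟨hqp⟩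
  have hqA : ¬ q ∣ Nat.card A := fun h => hqp.one_lt.ne' (Nat.eq_one_of_dvd_coprimes hY hqY h)
  obtain ⟨S, hS⟩ := Cfsg.Agent.Lib.Helper1SylowInv.exists_invariant_sylow A Y hAY hY.symm
    (Or.inl (sol hG hT.2.1)) q
  have h1 := hq q hqp hqA _ (mem_inv_of_isPGroup le_top (S.2.map _) hS)
  rw [map_eq_bot_iff_of_injective _ Y.subtype_injective] at h1
  exact S.ne_bot_of_dvd_card hqY h1

open Cfsg.Agent.Lib.Helper31Puig in
/-- B-G Theorem 8.1(b), ambient form. -/
theorem partB {p : ℕ} [Fact p.Prime] (hG : IsMinSimpleOddOrder G) {M : Subgroup G} (hM : IsCoatom M)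
    (hF1 : fittingOf M ≠ ⊥) (hF : IsPGroup p (fittingOf M)) {R : Subgroup G} (hR : IsSyl p R M) :
    IsSyl p R ⊤ ∧ ∀ A : Subgroup G, IsSCN R A → ¬ PRankLE p 2 A →
      A ≤ fittingOf M ∧ InUniqueMaximal A := by
  have hpp : p.Prime := Fact.out
  have hMs := sol hG hM.1
  have hp2 : p ≠ 2 := ne_two hG hF hF1
  have hcopF : ∀ K : Subgroup G, ¬ p ∣ Nat.card K → (Nat.card K).Coprime (Nat.card (fittingOf M)) :=
    fun K h => (coprime_of_isPGroup_not_dvd hF h).symm
  have hcore : coreOf p M = ⊥ := by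
    refine eq_bot_of_fitting_inv hMs (coreOf_le p M) (hcopF _ ?_)
      ((fittingOf_le M).trans (le_normalizer_coreOf p M))
    intro h
    exact hpp.one_lt.ne' (Nat.eq_one_of_dvd_coprimes (card_coreOf_coprime p M) h dvd_rfl)
  have hFR : fittingOf M ≤ R := by
    obtain ⟨g, hg, hle⟩ := exists_cj_le hR hF (fittingOf_le M)
    rwa [cj_eq_self_of_mem_normalizer (le_normalizer_fittingOf M hg)] at hle
  have hR1 : R ≠ ⊥ := ne_bot_of_le_ne_bot hF1 hFR
  have hZL : normalizer (ZL R : Set G) = M := by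
    have h1 := fac hp2 hMs (odd_sub hG M) hR
    rw [hcore, bot_sup_eq] at h1
    exact norm_eq hG hM (ZL_ne_bot hR.2.1 hR1) ((ZL_le R).trans hR.1) (h1.trans inf_le_right)
  have hNR : normalizer (R : Set G) ≤ M := hZL ▸ norm_le_norm_ZL R
  have hRtop := hR.top_of_normalizer_le hNR
  refine ⟨hRtop, ?_⟩
  intro A hA hA3
  have hAc := scn_comm hA
  have hAp : IsPGroup p A := hR.2.1.to_le hA.1
  have hAF : A ≤ fittingOf M := by
    have h1 := ab_le_ppOf hMs (odd_sub hG M) hR hA.1 hAc hA.2.1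
    refine h1.trans (le_fittingOf (map_subtype_le _) (le_normalizer_ppOf M) ?_)
    have h2 := ppOf_le_sup hR
    rw [hcore, bot_sup_eq] at h2
    exact (hR.2.1.to_le h2).isNilpotent
  refine ⟨hAF, ?_⟩
  obtain ⟨B, hBA, hBe, hBc⟩ := exists_elemAb hA3
  have hA1 : A ≠ ⊥ := by
    rintro rfl
    have : B = ⊥ := le_bot_iff.mp hBA
    subst this
    rw [card_bot] at hBc
    have := Nat.pos_of_ne_zero (pow_ne_zero 2 hpp.ne_zero)
    omega
  have hpA : p ∣ Nat.card A := dvd_card_of_pgroup hAp hA1 le_rfl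
  have hpG : p ∣ Nat.card G := by
    have := dvd_card_of_pgroup hAp hA1 (le_top : A ≤ ⊤)
    rwa [card_top] at this
  have hT : TransitivityHypothesis A :=
    Cfsg.Agent.S1396.result hG p hpG A hAp hAc
      (Or.inr ⟨hRtop.toSylowTop, hA, fun h => hA3 (rank_mono hpp.pos h (by norm_num))⟩)
  have hAcent : A ≤ centralizer (A : Set G) := by
    rw [← hA.2.2]; exact inf_le_right.trans (centralizer_le (by rw [hA.2.2]))
  have hZ : ¬ RankLE 2 ↥(A ⊓ centralizer (A : Set G)) :=
    not_rankLE_of_elemAb hpp (le_inf hBA (hBA.trans hAcent)) hBe hBc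
  have hpF : p ∣ Nat.card (fittingOf M) := dvd_card_of_pgroup hF hF1 le_rfl
  have hFCA : fittingOf M ⊓ centralizer (A : Set G) ≤ A :=
    (inf_le_inf_right _ hFR).trans hA.2.2.le
  have hzA : zq (fittingOf M) p ≤ A :=
    (zq_le _ _).trans ((inf_le_inf_left _ (centralizer_le hAF)).trans hFCA)
  have hCM : centralizer (A : Set G) ≤ M := by
    rw [← normalizer_zq_eq hG.2.1 hM hpF]
    exact (centralizer_le hzA).trans (centralizer_le_normalizer _)
  have hK : piCoreOf (primesNotDvd (Nat.card A)) (centralizer (A : Set G)) = ⊥ := by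
    have hKC := piCoreOf_le (primesNotDvd (Nat.card A)) (centralizer (A : Set G))
    refine eq_bot_of_AB hMs hAF (hKC.trans hCM) (hcopF _ ?_) hKC (hKC.trans (centralizer_le hFCA))
    intro h
    exact (card_piCoreOf _ _ p hpp h).2 hpA
  have hπ : ∀ r : ℕ, r.Prime → r ∣ Nat.card (fittingOf M) → r ∣ Nat.card A := by
    intro r hr hrF
    obtain ⟨n, hn⟩ := IsPGroup.iff_card.mp hF
    rw [hn] at hrF
    have : r = p := (Nat.prime_dvd_prime_iff_eq hr hpp).mp (hr.dvd_of_dvd_pow hrF)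
    exact this ▸ hpA
  have hinv := inv_trivial hG hM hAF hπ hT hZ hK
  refine uniq_of hM (hAF.trans (fittingOf_le M))
    (uniq_of_inv hG hM (hAF.trans (fittingOf_le M)) hAp hA1 ?_)
  intro Y hY hAY
  have : Y = ⊥ := by
    refine hinv Y ?_ hAY
    obtain ⟨n, hn⟩ := IsPGroup.iff_card.mp hAp
    rw [hn]
    exact Nat.Coprime.pow_right n hY
  rw [this]
  exact bot_le

theorem coreOf_normalizer_inf_le {q : ℕ} [Fact q.Prime] {K P : Subgroup G} (hs : Group.IsSolvable K)
    (hP : IsPGroup q P) (hPK : P ≤ K) :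
    coreOf q (normalizer (P : Set G) ⊓ K) ≤ coreOf q K := by
  have := Cfsg.Agent.Lib.Helper27Loc.coreIn_normalizer_inf_le
    (Cfsg.Agent.Lib.Helper27Loc.pLayer_eq_bot_of_solvable (p := q) hs) hP hPK
  rwa [← Cfsg.Agent.Lib.Helper27Rel.map_core, ← Cfsg.Agent.Lib.Helper27Rel.map_core] at this

theorem le_piCoreOf_of_forall {π : Set ℕ} {X Y : Subgroup G} (S : Set ℕ) (hS : S.Nonempty)
    (h : ∀ q ∈ S, Y ≤ coreOf q X) (hπ : ∀ r : ℕ, r.Prime → r ∉ S → r ∈ π) : Y ≤ piCoreOf π X := by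
  have hYT : Y ≤ ⨅ q : S, coreOf q.1 X := le_iInf fun q => h q.1 q.2
  obtain ⟨p, hp⟩ := hS
  refine hYT.trans (le_piCoreOf ?_ ?_ ?_)
  · exact (iInf_le (fun q : S => coreOf q.1 X) ⟨p, hp⟩).trans (coreOf_le p X)
  · rw [le_normalizer_iff]
    intro x hx t ht
    rw [mem_iInf] at ht ⊢
    intro q
    exact (mem_normalizer_iff.mp (le_normalizer_coreOf q.1 X hx) t).mp (ht q)
  · intro r hr hrT
    by_contra hcon
    have hrS : r ∈ S := by
      by_contra h2
      exact hcon (hπ r hr h2)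
    have h1 : r ∣ Nat.card (coreOf r X) :=
      hrT.trans (card_dvd_of_le (iInf_le (fun q : S => coreOf q.1 X) ⟨r, hrS⟩))
    exact hr.one_lt.ne' (Nat.eq_one_of_dvd_coprimes (card_coreOf_coprime r X) h1 dvd_rfl)

/-- B-G Theorem 8.1(a). -/
theorem partA {p : ℕ} [Fact p.Prime] (hG : IsMinSimpleOddOrder G) {M A₀ : Subgroup G}
    (hM : IsCoatom M) (hA₀ : A₀ ≤ fittingOf M) (hA₀e : IsElementaryAbelian p A₀)
    (hA₀3 : p ^ 3 ≤ Nat.card A₀) (hF : ¬ IsPGroup p (fittingOf M)) :
    InUniqueMaximal (fittingOf M ⊓ centralizer (A₀ : Set G)) := by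
  have hpp : p.Prime := Fact.out
  have hMs := sol hG hM.1
  set F := fittingOf M with hFdef
  set A := F ⊓ centralizer (A₀ : Set G) with hAdef
  have hFnil : Group.IsNilpotent F := fittingOf_isNilpotent M
  have hAF : A ≤ F := inf_le_left
  have hA₀c : A₀ ≤ centralizer (A₀ : Set G) := by
    intro x hx
    rw [mem_centralizer_iff]
    intro y hy
    exact congrArg Subtype.val (hA₀e.1.is_comm.comm ⟨y, hy⟩ ⟨x, hx⟩)
  have hA₀A : A₀ ≤ A := le_inf hA₀ hA₀c
  have hA₀1 : A₀ ≠ ⊥ := by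
    rintro rfl
    rw [card_bot] at hA₀3
    have : 1 < p ^ 3 := Nat.one_lt_pow (by norm_num) hpp.one_lt
    omega
  have hA1 : A ≠ ⊥ := ne_bot_of_le_ne_bot hA₀1 hA₀A
  have hAM : A ≤ M := hAF.trans (fittingOf_le M)
  have hAtop : A ≠ ⊤ := fun h => hM.1 (top_le_iff.mp (h ▸ hAM))
  have hZA : F ⊓ centralizer (F : Set G) ≤ A := inf_le_inf_left _ (centralizer_le hA₀)
  have hzA : ∀ q, zq F q ≤ A := fun q => (zq_le _ _).trans hZA
  have hπ : ∀ r : ℕ, r.Prime → r ∣ Nat.card F → r ∣ Nat.card A := by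
    intro r hr hrF
    have : Fact r.Prime := ⟨hr⟩
    exact dvd_card_of_isPGroup_ne_bot (isPGroup_zq F r) (zq_ne_bot hFnil hrF) (hzA r)
  have hcopAF : ∀ K : Subgroup G, (Nat.card K).Coprime (Nat.card A) →
      (Nat.card K).Coprime (Nat.card F) := by
    intro K h
    by_contra hc
    obtain ⟨r, hr, h1, h2⟩ := Nat.Prime.not_coprime_iff_dvd.mp hc
    exact Nat.Prime.not_coprime_iff_dvd.mpr ⟨r, hr, h1, hπ r hr h2⟩ h
  have hpF : p ∣ Nat.card F := dvd_card_of_pgroup (isPGroup_of_elemAb hA₀e) hA₀1 hA₀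
  have hF2 : 2 ≤ (Nat.card F).primeFactors.card := by
    have hex : ∃ r : ℕ, r.Prime ∧ r ∣ Nat.card F ∧ r ≠ p := by
      by_contra hcon
      push Not at hcon
      exact hF (IsPGroup.of_card (Nat.eq_prime_pow_of_unique_prime_dvd Nat.card_pos.ne'
        (fun {d} hd hdvd => hcon d hd hdvd)))
    obtain ⟨r, hr, hrF, hrp⟩ := hex
    have hsub : ({r, p} : Finset ℕ) ⊆ (Nat.card F).primeFactors := by
      intro x hx
      rw [Finset.mem_insert, Finset.mem_singleton] at hx
      rcases hx with rfl | rfl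
      · exact Nat.mem_primeFactors.mpr ⟨hr, hrF, Nat.card_pos.ne'⟩
      · exact Nat.mem_primeFactors.mpr ⟨hpp, hpF, Nat.card_pos.ne'⟩
    have := Finset.card_le_card hsub
    rwa [Finset.card_pair hrp] at this
  have hinvM : ∀ Y : Subgroup G, Y ≤ M → (Nat.card Y).Coprime (Nat.card F) →
      A ≤ normalizer (Y : Set G) → Y = ⊥ := by
    intro Y hYM hc hAY
    have h1 : Y ≤ centralizer (A : Set G) :=
      le_centralizer_of_inf_bot (hYM.trans (le_normalizer_fittingOf M)) hAF hAY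
        (disjoint_of_coprime_natCard hc).eq_bot
    exact eq_bot_of_AB hMs hA₀ hYM hc (h1.trans (centralizer_le hA₀A)) h1
  have hCM : centralizer (A : Set G) ≤ M := by
    rw [← normalizer_zq_eq hG.2.1 hM hpF]
    exact (centralizer_le (hzA p)).trans (centralizer_le_normalizer _)
  have hK : piCoreOf (primesNotDvd (Nat.card A)) (centralizer (A : Set G)) = ⊥ := by
    have hKC := piCoreOf_le (primesNotDvd (Nat.card A)) (centralizer (A : Set G))
    refine hinvM _ (hKC.trans hCM) (hcopAF _ (coprime_of_primesNotDvd (card_piCoreOf _ _)).symm) ?_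
    exact (le_centralizer_iff.mp hKC).trans (centralizer_le_normalizer _)
  have hZ : ¬ RankLE 2 ↥(A ⊓ centralizer (A : Set G)) := by
    refine not_rankLE_of_elemAb hpp (le_inf hA₀A (le_centralizer_iff.mp inf_le_right)) hA₀e ?_
    exact lt_of_lt_of_le (Nat.pow_lt_pow_right hpp.one_lt (by norm_num)) hA₀3
  have hT : TransitivityHypothesis A := by
    refine ⟨hA1, hAtop, fun X hX hAX => le_antisymm (sSup_le ?_) (le_sSup ?_)⟩
    swap
    · exact ⟨piCoreOf_le _ _, card_piCoreOf _ _, hAX.trans (le_normalizer_piCoreOf _ _)⟩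
    rintro Y ⟨hYX, hYπ, hAY⟩
    have hXs := sol hG hX
    have hYA : (Nat.card A).Coprime (Nat.card Y) := coprime_of_primesNotDvd hYπ
    have key : ∀ q : ℕ, q.Prime → q ∣ Nat.card F → Y ≤ coreOf q X := by
      intro q hq hqF
      obtain ⟨r, hr, hrq, hrF⟩ := exists_other_prime hF2 q
      have : Fact q.Prime := ⟨hq⟩
      have : Fact r.Prime := ⟨hr⟩
      have hNq := normalizer_zq_eq hG.2.1 hM hqF
      have hNr := normalizer_zq_eq hG.2.1 hM hrF
      have h1 : zq F r ≤ coreOf q (normalizer ((zq F q : Subgroup G) : Set G) ⊓ X) := by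
        refine le_coreOf (le_inf ?_ ((hzA r).trans hAX)) ?_ ?_
        · rw [hNq]; exact (hzA r).trans hAM
        · rw [hNq, hNr]; exact inf_le_left
        · exact coprime_of_isPGroup_not_dvd (isPGroup_zq F r)
            (fun h => hrq ((Nat.prime_dvd_prime_iff_eq hr hq).mp h))
      have h2 := h1.trans (coreOf_normalizer_inf_le hXs (isPGroup_zq F q) ((hzA q).trans hAX))
      have hFz : F ≤ centralizer ((zq F r : Subgroup G) : Set G) :=
        le_centralizer_iff.mp ((zq_le F r).trans inf_le_right)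
      have h3 : Y ⊓ centralizer ((zq F r : Subgroup G) : Set G) = ⊥ := by
        refine hinvM _ (inf_le_right.trans ((centralizer_le_normalizer _).trans hNr.le))
          (hcopAF _ (Nat.Coprime.coprime_dvd_left (card_dvd_of_le inf_le_left) hYA.symm)) ?_
        rw [le_normalizer_iff]
        rintro a ha x ⟨hxY, hxC⟩
        refine ⟨(mem_normalizer_iff.mp (hAY ha) x).mp hxY, ?_⟩
        have haC := hFz (hAF ha)
        exact Subgroup.mul_mem _ (Subgroup.mul_mem _ haC hxC) (Subgroup.inv_mem _ haC)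
      have h5 : ⁅Y, zq F r⁆ ≤ coreOf q X := by
        rw [commutator_le]
        intro y hy z hz
        rw [commutatorElement_def]
        exact Subgroup.mul_mem _
          ((mem_normalizer_iff.mp (le_normalizer_coreOf q X (hYX hy)) z).mp (h2 hz))
          (Subgroup.inv_mem _ (h2 hz))
      intro y hy
      obtain ⟨x, hx, c, hc, rfl⟩ := Cfsg.Agent.Lib.Helper30SZ.exists_commutator_mul_centralizer
        ((hzA r).trans hAY) (Nat.Coprime.coprime_dvd_left (card_dvd_of_le (hzA r)) hYA)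
        (Or.inr (Group.isSolvable_of_isSolvable_injective (f := inclusion hYX) (inclusion_injective hYX))) hy
      rw [h3, mem_bot] at hc
      rw [hc, mul_one]
      exact h5 hx
    refine le_piCoreOf_of_forall {q : ℕ | q.Prime ∧ q ∣ Nat.card F} ⟨p, hpp, hpF⟩
      (fun q hq => key q hq.1 hq.2) ?_
    intro r hr hrS
    exact ⟨hr, fun hrA => hrS ⟨hr, hrA.trans (card_dvd_of_le hAF)⟩⟩
  have hinv := inv_trivial hG hM hAF hπ hT hZ hK
  refine uniq_of hM hAM (Cfsg.Agent.S1482.result hG M hM hF2 A hAF hZA ?_)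
  rintro Y ⟨-, hYπ, hAY⟩
  refine hinv Y ?_ hAY
  exact (Nat.Coprime.coprime_dvd_left (card_dvd_of_le hAF) (coprime_of_primesNotDvd hYπ)).symm

end Cfsg.Agent.Lib.Helper24BG3
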