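import Mathlib
import Cfsg.Agent.Lib.Helper24BG
import Cfsg.Agent.Lib.Helper24BG2
import Cfsg.Agent.Lib.Helper31ZJe
import Cfsg.Agent.S0118
import Cfsg.Agent.S1403

/-!
Bender-Glauberman section 10, basic facts on `σ(M)` and `α(M)` (after the Uniqueness Theorem).
-/

set_option autoImplicit false
open Cfsg

namespace Cfsg.Agent.Lib.Helper68BGA

open Subgroup
open Cfsg.Agent.Lib.Helper30Trans
open Cfsg.Agent.Lib.Helper37Cores
open Cfsg.Agent.Lib.Helper24BG
open Cfsg.Agent.Lib.Helper24BG2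

universe u
variable {G : Type u} [Group G]

/-- a group of odd order has no section isomorphic to `SL(2,p)` -/
theorem no_sl2 [Finite G] (hodd : Odd (Nat.card G)) {p : ℕ} [Fact p.Prime] (hp : p ≠ 2) :
    ¬ ∃ (H K : Subgroup G) (hK : (K.subgroupOf H).Normal),
      Nonempty ((H ⧸ K.subgroupOf H) ≃* Matrix.SpecialLinearGroup (Fin 2) (ZMod p)) := by
  rintro ⟨H, K, hK, ⟨e⟩⟩
  have h1 : Nat.card (H ⧸ K.subgroupOf H) ∣ Nat.card G :=
    (Subgroup.card_quotient_dvd_card _).trans (card_subgroup_dvd_card H)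
  have hfin : Finite (Matrix.SpecialLinearGroup (Fin 2) (ZMod p)) := Finite.of_equiv _ e.toEquiv
  have h2 : Nat.card (H ⧸ K.subgroupOf H) = Nat.card (Matrix.SpecialLinearGroup (Fin 2) (ZMod p)) :=
    Nat.card_congr e.toEquiv
  have h3 : orderOf (-1 : Matrix.SpecialLinearGroup (Fin 2) (ZMod p)) = 2 := by
    apply orderOf_eq_prime
    · ext i j
      simp
    · intro h
      have h4 := congrArg (fun x : Matrix.SpecialLinearGroup (Fin 2) (ZMod p) => x 0 0) h
      simp at h4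
      have h5 : (2 : ZMod p) = 0 := by
        have : (1 : ZMod p) + 1 = 0 := by
          nth_rewrite 1 [← h4]
          ring
        rw [← this]; norm_num
      have h6 : ((2 : ℕ) : ZMod p) = 0 := by exact_mod_cast h5
      rw [ZMod.natCast_eq_zero_iff] at h6
      exact hp ((Nat.prime_dvd_prime_iff_eq Fact.out Nat.prime_two).mp h6)
  have h4 : 2 ∣ Nat.card G := by
    rw [← h3]
    exact (_root_.orderOf_dvd_natCard _).trans (h2 ▸ h1)
  exact (Nat.not_even_iff_odd.mpr hodd) (even_iff_two_dvd.mpr h4)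

/-- `Z(J(P))` is nontrivial -/
theorem ZJ_ne_bot [Finite G] {p : ℕ} [Fact p.Prime] {P : Subgroup G} (hP : IsPGroup p P) (h1 : P ≠ ⊥) :
    centerThompsonOf p P ≠ ⊥ := by
  rw [Cfsg.Agent.Lib.Helper31ZJe.centerThompsonOf_eq]
  obtain ⟨A, hA⟩ := Cfsg.Agent.Lib.Helper14FamProps.famE_F4 p P
  have hpd : p ∣ Nat.card P := dvd_card_of_pgroup hP h1 le_rfl
  obtain ⟨x, hx⟩ := exists_prime_orderOf_dvd_card' (G := P) p hpd
  have hxe : IsElementaryAbelian p (zpowers (x : G)) := by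
    refine ⟨inferInstance, ?_⟩
    intro a ha
    obtain ⟨k, rfl⟩ := mem_zpowers_iff.mp ha
    have : (x : G) ^ p = 1 := by
      have := pow_orderOf_eq_one x
      rw [hx] at this
      exact_mod_cast congrArg Subtype.val this
    rw [← zpow_natCast, ← zpow_mul, mul_comm, zpow_mul, zpow_natCast, this, one_zpow]
  have hcard := hA.2.2 (zpowers (x : G)) (by rw [zpowers_le]; exact x.2) hxe
  have hx1 : Nat.card (zpowers (x : G)) = p := by
    rw [Nat.card_zpowers, Subgroup.orderOf_coe, hx]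
  have hA1 : A ≠ ⊥ := by
    rintro rfl
    rw [hx1] at hcard
    simp at hcard
    exact (Fact.out : p.Prime).one_lt.not_ge hcard
  have hJ1 : Cfsg.Agent.Lib.Helper31ZJe.JE p P ≠ ⊥ :=
    ne_bot_of_le_ne_bot hA1 (Cfsg.Agent.Lib.Helper31ZJe.le_JE hA)
  have hJp : IsPGroup p (Cfsg.Agent.Lib.Helper31ZJe.JE p P) :=
    hP.to_le (Cfsg.Agent.Lib.Helper31ZJe.JE_le p P)
  have hnt : Nontrivial (Cfsg.Agent.Lib.Helper31ZJe.JE p P) := (nontrivial_iff_ne_bot _).mpr hJ1
  have hc : Nontrivial (center (Cfsg.Agent.Lib.Helper31ZJe.JE p P)) := hJp.center_nontrivial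
  obtain ⟨z, hz⟩ := exists_ne (1 : center (Cfsg.Agent.Lib.Helper31ZJe.JE p P))
  intro hbot
  have hmem : ((z : Cfsg.Agent.Lib.Helper31ZJe.JE p P) : G) ∈ Cfsg.Agent.Lib.Helper31ZJe.ZE p P := by
    refine ⟨(z : Cfsg.Agent.Lib.Helper31ZJe.JE p P).2, ?_⟩
    show _ ∈ centralizer _
    rw [mem_centralizer_iff]
    intro y hy
    have := (mem_center_iff.mp z.2) ⟨y, hy⟩
    exact congrArg Subtype.val this
  rw [hbot, mem_bot] at hmem
  apply hz
  apply Subtype.ext
  apply Subtype.ext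
  exact hmem

theorem le_norm_ZJ [Finite G] (p : ℕ) (P : Subgroup G) :
    normalizer (P : Set G) ≤ normalizer (centerThompsonOf p P : Set G) := by
  rw [Cfsg.Agent.Lib.Helper31ZJe.centerThompsonOf_eq]
  exact Cfsg.Agent.Lib.Helper31ZJe.norm_le_norm_ZE p P

theorem ZJ_le (p : ℕ) (P : Subgroup G) : centerThompsonOf p P ≤ P := by
  rw [Cfsg.Agent.Lib.Helper31ZJe.centerThompsonOf_eq]
  exact Cfsg.Agent.Lib.Helper31ZJe.ZE_le p P

/-- In a group `N` with `P ≤ O_{p',p}(N)` fusion in the Sylow subgroup `P` is controlled by `N_N(P)`. -/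
theorem fusion_of_le_ppOf [Finite G] {p : ℕ} [Fact p.Prime] {N P A : Subgroup G} (hP : IsSyl p P ⊤)
    (hPN : P ≤ N) (hpp : P ≤ ppOf p N) (hA : A ≤ P) {n : G} (hn : n ∈ N) (hnA : cj n A ≤ P) :
    ∃ m ∈ N ⊓ normalizer (P : Set G), ∀ a ∈ A, m * a * m⁻¹ = n * a * n⁻¹ := by
  have hPsN : IsSyl p P N := hP.mono hPN le_top
  set D := coreOf p N with hD
  have h1 : cj n P ≤ D ⊔ P := by
    refine le_trans ?_ (ppOf_le_sup hPsN)
    have h2 : cj n (ppOf p N) = ppOf p N := cj_eq_self_of_mem_normalizer (le_normalizer_ppOf N hn)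
    rw [← h2]
    exact cj_mono hpp
  obtain ⟨y, hy, hyq⟩ := Cfsg.Agent.Lib.Helper37Sylow.exists_conj_mem hP.toSylowTop
    (D ⊔ P) le_sup_right (cj n P) (hP.2.1.map _) h1
  have h3 : cj (y * n) P ≤ P := by
    rw [cj_mul]
    rintro _ ⟨q, hq, rfl⟩
    exact hyq q hq
  have h3' : cj (y * n) P = P := by
    apply Subgroup.eq_of_le_of_card_ge h3
    rw [card_cj]
  have hDN : D ≤ N := coreOf_le p N
  have hyN : y ∈ N := (sup_le hDN hPN) hy
  have hw : y * n ∈ N ⊓ normalizer (P : Set G) := by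
    refine ⟨N.mul_mem hyN hn, ?_⟩
    show y * n ∈ normalizer (P : Set G)
    rw [mem_normalizer_iff_map_conj_eq]
    exact h3'
  have hPD : P ≤ normalizer (D : Set G) := hPN.trans (le_normalizer_coreOf p N)
  -- write y⁻¹ = u * d
  have hy' : y⁻¹ ∈ (P ⊔ D : Subgroup G) := by
    rw [sup_comm]; exact inv_mem hy
  have hy'' : y⁻¹ ∈ ((P ⊔ D : Subgroup G) : Set G) := hy'
  rw [coe_mul_of_left_le_normalizer_right P D hPD] at hy''
  obtain ⟨u, hu, d, hd, hud⟩ := Set.mem_mul.mp hy''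
  have hdisj : ∀ x : G, x ∈ P → x ∈ D → x = 1 := by
    intro x hxP hxD
    have hc : (Nat.card P).Coprime (Nat.card D) := by
      obtain ⟨k, hk⟩ := IsPGroup.iff_card.mp hP.2.1
      rw [hk]
      exact Nat.Coprime.pow_left _ ((card_coreOf_coprime p N).symm)
    have := Subgroup.inf_eq_bot_of_coprime hc
    have hx : x ∈ P ⊓ D := ⟨hxP, hxD⟩
    rw [this] at hx
    exact mem_bot.mp hx
  refine ⟨u * (y * n), (N ⊓ normalizer (P : Set G)).mul_mem ⟨hPN hu, le_normalizer hu⟩ hw, ?_⟩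
  intro a ha
  set b := (y * n) * a * (y * n)⁻¹ with hb
  have hbP : b ∈ P := by
    have : b ∈ cj (y * n) P := conj_mem_cj (hA ha)
    exact h3 this
  have hnaP : n * a * n⁻¹ ∈ P := hnA (conj_mem_cj ha)
  have h5 : n * a * n⁻¹ = u * (d * b * d⁻¹) * u⁻¹ := by
    have : n * a * n⁻¹ = y⁻¹ * b * y⁻¹⁻¹ := by rw [hb]; group
    rw [this, ← hud]; group
  have h6 : d * b * d⁻¹ ∈ P := by
    have : d * b * d⁻¹ = u⁻¹ * (n * a * n⁻¹) * u := by rw [h5]; group
    rw [this]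
    exact P.mul_mem (P.mul_mem (P.inv_mem hu) hnaP) hu
  have h7 : d * b * d⁻¹ * b⁻¹ = 1 := by
    apply hdisj
    · exact P.mul_mem h6 (P.inv_mem hbP)
    · have h8 : b * d⁻¹ * b⁻¹ ∈ D := (mem_normalizer_iff.mp (hPD hbP) _).mp (D.inv_mem hd)
      have : d * b * d⁻¹ * b⁻¹ = d * (b * d⁻¹ * b⁻¹) := by group
      rw [this]
      exact D.mul_mem hd h8
  have h9 : d * b * d⁻¹ = b := by
    have := mul_inv_eq_one.mp h7
    exact this
  rw [h5, h9, hb]
  group

/-- the Uniqueness Theorem for subgroups of `p`-rank at least three -/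
theorem uniq_of_rank3 [Finite G] (hG : IsMinSimpleOddOrder G) {K : Subgroup G} (hK : K ≠ ⊤) {p : ℕ}
    (hp : p.Prime) (hr : ¬ PRankLE p 2 K) : InUniqueMaximal K := by
  apply Cfsg.Agent.S1403.result hG K hK
  · intro h
    exact hr (rank_mono hp.pos (h p hp) (by norm_num))
  · left
    intro h
    exact hr (h p hp)

/-- data attached to a prime of `σ(M)` -/
theorem sigma_data [Finite G] {M : Subgroup G} {p : ℕ} [Fact p.Prime] (hp : p ∈ sigma M) :
    ∃ P : Subgroup G, IsSyl p P M ∧ IsSyl p P ⊤ ∧ normalizer (P : Set G) ≤ M ∧ P ≠ ⊥ := by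
  obtain ⟨_, hdvd, P, hN⟩ := hp
  have h1 := isSyl_of_sylow P
  refine ⟨_, h1, h1.top_of_normalizer_le hN, hN, ?_⟩
  intro hbot
  have h2 : (P : Subgroup M) = ⊥ := by
    rw [← Subgroup.map_eq_bot_iff_of_injective _ M.subtype_injective]
    exact hbot
  have h3 := P.card_eq_multiplicity
  rw [h2] at h3
  have h4 : (Nat.card M).factorization p ≠ 0 := by
    have hpos : Nat.card M ≠ 0 := Nat.card_pos.ne'
    exact (Nat.Prime.factorization_pos_of_dvd Fact.out hpos hdvd).ne'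
  have h5 : p ^ (Nat.card M).factorization p = 1 := by
    rw [← h3]; simp
  rcases pow_eq_one_iff.mp h5 with h6 | h6
  · exact (Fact.out : p.Prime).one_lt.ne' h6
  · exact h4 h6

/-- every Sylow `p`-subgroup of `M` has the properties of `sigma_data` -/
theorem sigma_syl [Finite G] {M : Subgroup G} {p : ℕ} [Fact p.Prime] (hp : p ∈ sigma M) {P : Subgroup G}
    (hP : IsSyl p P M) : IsSyl p P ⊤ ∧ normalizer (P : Set G) ≤ M ∧ P ≠ ⊥ := by
  obtain ⟨P₀, h0, h0t, hN, hne⟩ := sigma_data hp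
  obtain ⟨m, hm, hle⟩ := exists_cj_le hP h0.2.1 h0.1
  have hcard : Nat.card P ≤ Nat.card (cj m P₀) := by
    obtain ⟨m', hm', hle'⟩ := exists_cj_le h0 hP.2.1 hP.1
    rw [card_cj, ← card_cj m' P]
    exact Subgroup.card_le_of_le hle'
  have heq : cj m P₀ = P := Subgroup.eq_of_le_of_card_ge hle hcard
  have hN' : normalizer (P : Set G) ≤ M := by
    intro x hx
    have h1 : m⁻¹ * x * m ∈ normalizer (P₀ : Set G) := by
      rw [mem_normalizer_iff_map_conj_eq] at hx ⊢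
      have h2 : cj x (cj m P₀) = cj m P₀ := by rw [heq]; exact hx
      show cj (m⁻¹ * x * m) P₀ = P₀
      rw [cj_mul, cj_mul, h2, cj_inv_cj]
    have h2 := hN h1
    have : x = m * (m⁻¹ * x * m) * m⁻¹ := by group
    rw [this]
    exact M.mul_mem (M.mul_mem hm h2) (M.inv_mem hm)
  refine ⟨hP.top_of_normalizer_le hN', hN', ?_⟩
  rintro rfl
  apply hne
  have : Nat.card (cj m P₀) = 1 := by rw [heq]; simp
  rw [card_cj] at this
  exact card_eq_one.mp this

/-- B-G 10.1: `M` controls fusion in a Sylow `p`-subgroup, `p ∈ σ(M)`. -/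
theorem sigma_fusion [Finite G] (hG : IsMinSimpleOddOrder G) {M : Subgroup G} (hM : IsCoatom M) {p : ℕ}
    [Fact p.Prime] {P A : Subgroup G} (hP : IsSyl p P ⊤) (hPM : P ≤ M) (hN : normalizer (P : Set G) ≤ M)
    (hP1 : P ≠ ⊥) (hA : A ≤ P) {g : G} (hg : cj g A ≤ P) :
    ∃ m ∈ M, ∀ a ∈ A, m * a * m⁻¹ = g * a * g⁻¹ := by
  have hp2 : p ≠ 2 := ne_two hG hP.2.1 hP1
  obtain ⟨n, hn, hna⟩ := Cfsg.Agent.S0118.result hp2 (no_sl2 hG.1 hp2) hP.toSylowTop (A : Set G)
    (fun a ha => hA ha) g⁻¹ (by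
      rintro _ ⟨a, ha, rfl⟩
      have : g * a * g⁻¹ ∈ cj g A := conj_mem_cj ha
      have h2 : g * a * g⁻¹ ∈ P := hg this
      show g⁻¹⁻¹ * a * g⁻¹ ∈ P
      rwa [inv_inv])
  change n ∈ normalizer (centerThompsonOf p P : Set G) at hn
  set N := normalizer (centerThompsonOf p P : Set G) with hNdef
  have hZ1 : centerThompsonOf p P ≠ ⊥ := ZJ_ne_bot hP.2.1 hP1
  have hZ2 : centerThompsonOf p P ≠ ⊤ := by
    intro h
    apply pgroup_ne_top hG hP.2.1
    exact top_le_iff.mp (h ▸ ZJ_le p P)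
  have hNtop : N ≠ ⊤ := norm_ne_top hG hZ1 hZ2
  have hPN : P ≤ N := le_normalizer.trans (le_norm_ZJ p P)
  by_cases hr : PRankLE p 2 P
  · have hpp : P ≤ ppOf p N :=
      syl_le_ppOf_of_rank (sol hG hNtop) (odd_sub hG N) (hP.mono hPN le_top) hP1 hr
    have hnA : cj n⁻¹ A ≤ P := by
      rintro _ ⟨a, ha, rfl⟩
      have h1 := hna a ha
      have h2 : g * a * g⁻¹ ∈ P := hg (conj_mem_cj ha)
      show n⁻¹ * a * n⁻¹⁻¹ ∈ P
      rw [inv_inv, h1]
      simpa using h2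
    obtain ⟨m, hm, hma⟩ := fusion_of_le_ppOf hP hPN hpp hA (N.inv_mem hn) hnA
    refine ⟨m, hN hm.2, fun a ha => ?_⟩
    rw [hma a ha, inv_inv, hna a ha]
    simp
  · have hU : InUniqueMaximal P := uniq_of_rank3 hG (pgroup_ne_top hG hP.2.1) Fact.out hr
    have hNM : N ≤ M := le_of_uniq hM hPM hU hPN hNtop
    refine ⟨n⁻¹, M.inv_mem (hNM hn), fun a ha => ?_⟩
    rw [inv_inv, hna a ha]
    simp

end Cfsg.Agent.Lib.Helper68BGA
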