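import Cfsg.Agent.Lib.Helper27BGa
import Cfsg.Agent.S1404
import Cfsg.Agent.S0080

/-!
Bender-Glauberman section 10: Sylow subgroups for primes in `σ(M)` lie in `M'`.
-/

set_option autoImplicit false
open Cfsg

namespace Cfsg.Agent.Lib.Helper27BGb

open Subgroup
open scoped commutatorElement
open Cfsg.Agent.Lib.Helper30Trans
open Cfsg.Agent.Lib.Helper24BG
open Cfsg.Agent.Lib.Helper24BG2
open Cfsg.Agent.Lib.Helper27BGa

universe u
variable {G : Type u} [Group G]

theorem commutator_eq_top (hG : IsMinSimpleOddOrder G) : commutator G = ⊤ := by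
  have hs := hG.2.1
  rcases hs.eq_bot_or_eq_top_of_normal (commutator G) inferInstance with h | h
  · exfalso
    apply hG.2.2.1
    refine ⟨⟨fun a b => ?_⟩⟩
    have h1 : ⁅a, b⁆ ∈ commutator G := by
      rw [_root_.commutator_def]
      exact commutator_mem_commutator (mem_top a) (mem_top b)
    rw [h, mem_bot] at h1
    exact commutatorElement_eq_one_iff_mul_comm.mp h1
  · exact h

variable [Finite G] {p : ℕ} [Fact p.Prime]

/-- B-G 10.2(c), Sylow form: for `p ∈ σ(M)` the Sylow `p`-subgroups of `M` lie in `M'`. -/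
theorem syl_le_derived (hG : IsMinSimpleOddOrder G) {M R : Subgroup G} (hM : IsCoatom M)
    (hp : p ∈ sigma M) (hR : IsSyl p R M) : R ≤ ⁅M, M⁆ := by
  have hpp : p.Prime := Fact.out
  have hRt : IsSyl p R ⊤ := hR.top_of_normalizer_le (normalizer_le_of_mem_sigma hp hR)
  have hidx : ¬ p ∣ R.index := hRt.toSylowTop.not_dvd_index
  have hcop : Nat.Coprime R.index (⁅R, R⁆.relIndex R) := by
    obtain ⟨k, hk⟩ := IsPGroup.iff_card.mp hR.2.1
    have h1 : (⁅R, R⁆.relIndex R) ∣ p ^ k := hk ▸ relIndex_dvd_card _ _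
    exact Nat.Coprime.coprime_dvd_right h1
      (Nat.Coprime.pow_right k ((Nat.Prime.coprime_iff_not_dvd hpp).mpr hidx).symm)
  have hf := (Cfsg.Agent.S0080.result R hcop).1
  rw [commutator_eq_top hG, top_inf_eq] at hf
  rw [← hf, focalSubgroup_def, closure_le]
  rintro g ⟨hgR, x, hxR, u, rfl⟩
  by_cases hx1 : x = 1
  · subst hx1
    simp
  have hconj : u * x * u⁻¹ ∈ R := by
    have h1 : (x⁻¹ * ⁅x, u⁆)⁻¹ ∈ R := R.inv_mem (R.mul_mem (R.inv_mem hxR) hgR)
    have h2 : (x⁻¹ * ⁅x, u⁆)⁻¹ = u * x * u⁻¹ := by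
      rw [commutatorElement_def]; group
    rwa [h2] at h1
  have hX : zpowers x ≤ M := zpowers_le.mpr (hR.1 hxR)
  have hXp : IsPGroup p (zpowers x) := hR.2.1.to_le (zpowers_le.mpr hxR)
  have hX1 : zpowers x ≠ ⊥ := fun h => hx1 (zpowers_eq_bot.mp h)
  have hcj : (zpowers x).map (MulAut.conj u).toMonoidHom ≤ M := by
    rw [MonoidHom.map_zpowers]
    exact zpowers_le.mpr (hR.1 hconj)
  obtain ⟨m, hm, c, hc, rfl⟩ := (Cfsg.Agent.S1404.result hG M hM p hp (zpowers x) hXp hX1 hX).1 u hcj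
  have hcx : x * c = c * x := (mem_centralizer_iff.mp hc) x (mem_zpowers x)
  have h3 : ⁅x, m * c⁆ = ⁅x, m⁆ := by
    rw [commutatorElement_def, commutatorElement_def]
    have h4 : c * x⁻¹ * c⁻¹ = x⁻¹ := by
      have : c * x⁻¹ = x⁻¹ * c := by
        calc c * x⁻¹ = x⁻¹ * (x * c) * x⁻¹ := by group
          _ = x⁻¹ * (c * x) * x⁻¹ := by rw [hcx]
          _ = x⁻¹ * c := by group
      rw [this]; group
    calc x * (m * c) * x⁻¹ * (m * c)⁻¹ = x * m * (c * x⁻¹ * c⁻¹) * m⁻¹ := by group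
      _ = x * m * x⁻¹ * m⁻¹ := by rw [h4]
  rw [SetLike.mem_coe, h3]
  exact commutator_mem_commutator (hR.1 hxR) hm

end Cfsg.Agent.Lib.Helper27BGb
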