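import Mathlib
import Cfsg.Agent.Lib.Helper68BGA
import Cfsg.Agent.Lib.Helper68BGB
import Cfsg.Agent.S0080

/-!
Bender-Glauberman section 10: `P ≤ M'` for `p ∈ σ(M)`, `α(M) ⊆ σ(M)`.
-/

set_option autoImplicit false
open Cfsg

namespace Cfsg.Agent.Lib.Helper68BGC

open Subgroup
open scoped commutatorElement
open Cfsg.Agent.Lib.Helper30Trans
open Cfsg.Agent.Lib.Helper37Cores
open Cfsg.Agent.Lib.Helper24BG
open Cfsg.Agent.Lib.Helper24BG2
open Cfsg.Agent.Lib.Helper68BGA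

universe u
variable {G : Type u} [Group G]

theorem commutator_eq_top (hG : IsMinSimpleOddOrder G) : commutator G = ⊤ := by
  have hs := hG.2.1
  rcases hs.eq_bot_or_eq_top_of_normal (commutator G) inferInstance with h | h
  · exfalso
    apply hG.2.2.1
    refine ⟨⟨fun x y => ?_⟩⟩
    have h1 : ⁅x, y⁆ ∈ commutator G := Subgroup.commutator_mem_commutator (mem_top x) (mem_top y)
    rw [h, mem_bot] at h1
    exact commutatorElement_eq_one_iff_mul_comm.mp h1
  · exact h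

/-- B-G 10.2(c): a Sylow `p`-subgroup of `M`, `p ∈ σ(M)`, lies in `M'`. -/
theorem syl_le_derived [Finite G] (hG : IsMinSimpleOddOrder G) {M : Subgroup G} (hM : IsCoatom M) {p : ℕ}
    [Fact p.Prime] {P : Subgroup G} (hP : IsSyl p P ⊤) (hPM : P ≤ M) (hN : normalizer (P : Set G) ≤ M)
    (hP1 : P ≠ ⊥) : P ≤ ⁅M, M⁆ := by
  have hcop : Nat.Coprime P.index (⁅P, P⁆.relIndex P) := by
    have h1 : ¬ p ∣ P.index := hP.toSylowTop.not_dvd_index
    have h2 : (⁅P, P⁆.relIndex P) ∣ Nat.card P := relIndex_dvd_card _ _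
    obtain ⟨k, hk⟩ := IsPGroup.iff_card.mp hP.2.1
    rw [hk] at h2
    refine Nat.Coprime.coprime_dvd_right h2 (Nat.Coprime.pow_right _ ?_)
    rw [Nat.coprime_comm]
    exact (Nat.Prime.coprime_iff_not_dvd Fact.out).mpr h1
  have h := (Cfsg.Agent.S0080.result P hcop).1
  rw [commutator_eq_top hG, top_inf_eq] at h
  rw [← h, Subgroup.focalSubgroup_def, closure_le]
  rintro g ⟨hgP, x, hx, u, rfl⟩
  have h1 : u * x⁻¹ * u⁻¹ ∈ P := by
    have : u * x⁻¹ * u⁻¹ = x⁻¹ * ⁅x, u⁆ := by rw [commutatorElement_def]; group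
    rw [this]
    exact P.mul_mem (P.inv_mem hx) hgP
  have h2 : cj u (zpowers x) ≤ P := by
    rintro _ ⟨a, ha, rfl⟩
    obtain ⟨k, rfl⟩ := mem_zpowers_iff.mp ha
    show u * x ^ k * u⁻¹ ∈ P
    have : u * x ^ k * u⁻¹ = (u * x⁻¹ * u⁻¹) ^ (-k) := by
      rw [conj_zpow, inv_zpow, zpow_neg, inv_inv]
    rw [this]
    exact P.zpow_mem h1 _
  obtain ⟨m, hm, hma⟩ := sigma_fusion hG hM hP hPM hN hP1 (by rwa [zpowers_le]) h2
  have h3 := hma x⁻¹ (inv_mem (mem_zpowers x))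
  have h4 : ⁅x, u⁆ = ⁅x, m⁆ := by
    rw [commutatorElement_def, commutatorElement_def]
    have e1 : x * u * x⁻¹ * u⁻¹ = x * (u * x⁻¹ * u⁻¹) := by group
    have e2 : x * m * x⁻¹ * m⁻¹ = x * (m * x⁻¹ * m⁻¹) := by group
    rw [e1, e2, h3]
  show ⁅x, u⁆ ∈ ⁅M, M⁆
  rw [h4]
  exact Subgroup.commutator_mem_commutator (hPM hx) hm

theorem map_commutator_subtype (M : Subgroup G) : (commutator M).map M.subtype = ⁅M, M⁆ := by
  rw [commutator_def, Subgroup.map_commutator, ← MonoidHom.range_eq_map, range_subtype]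

/-- every `p`-element of `M`, `p ∈ σ(M)`, lies in the commutator subgroup of `M` -/
theorem mem_commutator_of_sigma [Finite G] (hG : IsMinSimpleOddOrder G) {M : Subgroup G} (hM : IsCoatom M)
    {p : ℕ} [Fact p.Prime] (hp : p ∈ sigma M) (x : M) (hx : ∃ k : ℕ, x ^ p ^ k = 1) :
    x ∈ commutator M := by
  obtain ⟨k, hk⟩ := hx
  have hxp : IsPGroup p (zpowers (x : G)) := by
    apply Cfsg.Agent.Lib.Helper30Thompson.isPGroup_zpowers_of_pow (k := k)
    exact_mod_cast congrArg Subtype.val hk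
  obtain ⟨P, hP, hxP⟩ := exists_isSyl_ge (X := M) (by rw [zpowers_le]; exact x.2) hxp
  obtain ⟨hPt, hN, hP1⟩ := sigma_syl hp hP
  have h1 : (x : G) ∈ ⁅M, M⁆ := syl_le_derived hG hM hPt hP.1 hN hP1 (hxP (mem_zpowers _))
  rw [← map_commutator_subtype] at h1
  obtain ⟨y, hy, hyx⟩ := h1
  have : y = x := Subtype.ext hyx
  exact this ▸ hy

/-- `α(M) ⊆ σ(M)` -/
theorem alpha_sub_sigma [Finite G] (hG : IsMinSimpleOddOrder G) {M : Subgroup G} (hM : IsCoatom M) {p : ℕ}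
    (hp : p ∈ alpha M) : p ∈ sigma M := by
  obtain ⟨hpp, hr⟩ := hp
  have : Fact p.Prime := ⟨hpp⟩
  obtain ⟨P⟩ : Nonempty (Sylow p M) := inferInstance
  have hrP : ¬ PRankLE p 2 (P : Subgroup M) := fun h => hr (Cfsg.Agent.Lib.Helper3NarrowApp.rank_of_sylow P h)
  have hS := isSyl_of_sylow P
  set Q := (P : Subgroup M).map M.subtype with hQ
  have hrQ : ¬ PRankLE p 2 Q := by
    intro h
    apply hrP
    exact Cfsg.Agent.Lib.Helper3RankTower.rank_of_injective
      ((P : Subgroup M).equivMapOfInjective M.subtype M.subtype_injective).toMonoidHom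
      ((P : Subgroup M).equivMapOfInjective M.subtype M.subtype_injective).injective h
  have hQ1 : Q ≠ ⊥ := by
    intro h
    apply hrQ
    intro A _ _
    have h0 : Nat.card A ≤ Nat.card Q := Nat.card_le_card_of_injective _ Subtype.val_injective
    have hQc : Nat.card Q = 1 := card_eq_one.mpr h
    have h1 : Nat.card A = 1 := le_antisymm (hQc ▸ h0) Nat.card_pos
    rw [h1]
    exact Nat.one_le_pow _ _ hpp.pos
  have hQt : Q ≠ ⊤ := pgroup_ne_top hG hS.2.1
  have hU := uniq_of_rank3 hG hQt hpp hrQ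
  refine ⟨hpp, dvd_card_of_pgroup hS.2.1 hQ1 hS.1, P, ?_⟩
  exact le_of_uniq hM hS.1 hU le_normalizer (norm_ne_top hG hQ1 hQt)

end Cfsg.Agent.Lib.Helper68BGC
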