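import Cfsg.Agent.Lib.Helper2BGa
import Cfsg.Agent.Lib.Helper14Sylow
import Cfsg.Agent.S1403
import Cfsg.Agent.S1404
import Cfsg.Agent.S1405
import Cfsg.Agent.S1350

/-!
Bender-Glauberman section 10: basic facts on `σ(M)`, `M_σ`, `α(M)`.
-/

set_option autoImplicit false
open Cfsg

namespace Cfsg.Agent.Lib.Helper2BGb

open Subgroup
open scoped commutatorElement
open Cfsg.Agent.Lib.Helper30Trans Cfsg.Agent.Lib.Helper24BG Cfsg.Agent.Lib.Helper24BG2
open Cfsg.Agent.Lib.Helper2KWa Cfsg.Agent.Lib.Helper2BGa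

universe u
variable {G : Type u} [Group G] [Finite G]

theorem commutator_eq_top (hG : IsMinSimpleOddOrder G) : commutator G = ⊤ := by
  rcases hG.2.1.eq_bot_or_eq_top_of_normal (commutator G) inferInstance with h | h
  · exfalso
    apply hG.2.2.1
    refine ⟨⟨fun a b => ?_⟩⟩
    have : ⁅a, b⁆ ∈ commutator G := commutator_mem_commutator (mem_top a) (mem_top b)
    rw [h, mem_bot, commutatorElement_eq_one_iff_mul_comm] at this
    exact this
  · exact h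

theorem sigma_prime {M : Subgroup G} {p : ℕ} (hp : p ∈ sigma M) : p.Prime := hp.1

/-- the normalizer of every Sylow `p`-subgroup of `M` lies in `M`, `p ∈ σ(M)` -/
theorem sigma_norm {M : Subgroup G} {p : ℕ} [Fact p.Prime] (hp : p ∈ sigma M) {P : Subgroup G}
    (hP : IsSyl p P M) : normalizer (P : Set G) ≤ M := by
  obtain ⟨-, -, P₀, hP₀⟩ := hp
  obtain ⟨x, hx, hxP⟩ := isSyl_conj hP (isSyl_of_sylow P₀)
  rw [← hxP, Cfsg.Agent.Lib.Helper14Sylow.normalizer_cj]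
  calc cj x (normalizer _) ≤ cj x M := cj_mono hP₀
    _ = M := cj_eq_self_of_mem hx

theorem sigma_syl_top {M : Subgroup G} {p : ℕ} [Fact p.Prime] (hp : p ∈ sigma M) {P : Subgroup G}
    (hP : IsSyl p P M) : IsSyl p P ⊤ := hP.top_of_normalizer_le (sigma_norm hp hP)

theorem mem_sigma_of_norm {M : Subgroup G} {p : ℕ} [hpp : Fact p.Prime] {P : Subgroup G}
    (hP : IsSyl p P M) (h1 : P ≠ ⊥) (hN : normalizer (P : Set G) ≤ M) : p ∈ sigma M := by
  refine ⟨hpp.out, dvd_card_of_pgroup hP.2.1 h1 hP.1, hP.toSylow, ?_⟩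
  rw [hP.map_toSylow]
  exact hN

/-- B-G 10.2(c), Sylow version -/
theorem syl_le_derived (hG : IsMinSimpleOddOrder G) {M : Subgroup G} (hM : IsCoatom M) {p : ℕ}
    [Fact p.Prime] (hp : p ∈ sigma M) {P : Subgroup G} (hP : IsSyl p P M) : P ≤ ⁅M, M⁆ := by
  have hPtop := sigma_syl_top hp hP
  have h1 := commutator_inf_eq_focalSubgroup (hPtop.toSylowTop)
  rw [commutator_eq_top hG, top_inf_eq] at h1
  have h2 : P = P.focalSubgroup := h1
  rw [h2, focalSubgroup_def, closure_le]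
  rintro g ⟨hgP, x, hxP, w, rfl⟩
  by_cases hx1 : x = 1
  · rw [hx1]
    simp
  have hconj : w * x * w⁻¹ ∈ P := by
    have h3 : x⁻¹ * ⁅x, w⁆ ∈ P := P.mul_mem (P.inv_mem hxP) hgP
    have h4 : w * x * w⁻¹ = (x⁻¹ * ⁅x, w⁆)⁻¹ := by
      rw [commutatorElement_def]; group
    rw [h4]
    exact P.inv_mem h3
  have hX : zpowers x ≤ P := zpowers_le.mpr hxP
  obtain ⟨m, hm, c, hc, rfl⟩ := (Cfsg.Agent.S1404.result hG M hM p hp (zpowers x)
    (hP.2.1.to_le hX) (by rwa [Ne, zpowers_eq_bot]) (hX.trans hP.1)).1 w (by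
      rw [map_le_iff_le_comap, zpowers_le, mem_comap]
      exact hP.1 hconj)
  have hcx : c * x = x * c := ((mem_centralizer_iff.mp hc) x (mem_zpowers x)).symm
  have h5 : ⁅x, m * c⁆ = ⁅x, m⁆ := by
    have hcx' : c * x⁻¹ * c⁻¹ = x⁻¹ := by
      have : c * x⁻¹ = x⁻¹ * c := by
        have := congrArg (fun t => x⁻¹ * t * x⁻¹) hcx
        simpa [mul_assoc] using this.symm
      rw [this]; group
    rw [commutatorElement_def, commutatorElement_def]
    calc x * (m * c) * x⁻¹ * (m * c)⁻¹ = x * m * (c * x⁻¹ * c⁻¹) * m⁻¹ := by group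
      _ = x * m * x⁻¹ * m⁻¹ := by rw [hcx']
  show ⁅x, m * c⁆ ∈ ⁅M, M⁆
  rw [h5]
  exact commutator_mem_commutator (hP.1 hxP) hm

theorem pgroup_le_derived (hG : IsMinSimpleOddOrder G) {M : Subgroup G} (hM : IsCoatom M) {p : ℕ}
    [Fact p.Prime] (hp : p ∈ sigma M) {X : Subgroup G} (hXM : X ≤ M) (hX : IsPGroup p X) :
    X ≤ ⁅M, M⁆ := by
  obtain ⟨R, hR, hXR⟩ := exists_isSyl_ge hXM hX
  exact hXR.trans (syl_le_derived hG hM hp hR)

theorem sigmaCore_le (M : Subgroup G) : sigmaCore M ≤ M := piCoreOf_le _ _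

theorem le_normalizer_sigmaCore (M : Subgroup G) : M ≤ normalizer (sigmaCore M : Set G) :=
  le_normalizer_piCoreOf _ _

theorem card_sigmaCore (M : Subgroup G) :
    ∀ p : ℕ, p.Prime → p ∣ Nat.card (sigmaCore M) → p ∈ sigma M := card_piCoreOf _ _

/-- order of an element of a `π`-subgroup -/
theorem prime_mem_of_mem {π : Set ℕ} {Y : Subgroup G}
    (hY : ∀ p : ℕ, p.Prime → p ∣ Nat.card Y → p ∈ π) {y : G} (hy : y ∈ Y) {p : ℕ} (hp : p.Prime)
    (hd : p ∣ orderOf y) : p ∈ π := by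
  refine hY p hp (hd.trans ?_)
  have := orderOf_dvd_natCard (⟨y, hy⟩ : Y)
  rwa [Subgroup.orderOf_mk] at this

/-- B-G 10.2(c) -/
theorem pi_le_derived (hG : IsMinSimpleOddOrder G) {M : Subgroup G} (hM : IsCoatom M)
    {Y : Subgroup G} (hYM : Y ≤ M) (hY : ∀ p : ℕ, p.Prime → p ∣ Nat.card Y → p ∈ sigma M) :
    Y ≤ ⁅M, M⁆ := by
  intro x hx
  refine mem_of_primary _ x rfl ?_
  rintro p hp y hy ⟨k, hk⟩
  have := Fact.mk hp
  by_cases hy1 : y = 1
  · rw [hy1]; exact one_mem _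
  have hyY : y ∈ Y := (zpowers_le.mpr hx) hy
  have hk0 : k ≠ 0 := by
    rintro rfl
    rw [pow_zero, orderOf_eq_one_iff] at hk
    exact hy1 hk
  have hpσ : p ∈ sigma M := prime_mem_of_mem hY hyY hp (hk ▸ dvd_pow_self p hk0)
  have hyp : IsPGroup p (zpowers y) := by
    rw [IsPGroup.iff_card]
    exact ⟨k, by rw [Nat.card_zpowers, hk]⟩
  exact pgroup_le_derived hG hM hpσ (zpowers_le.mpr (hYM hyY)) hyp (mem_zpowers y)

theorem sigmaCore_le_derived (hG : IsMinSimpleOddOrder G) {M : Subgroup G} (hM : IsCoatom M) :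
    sigmaCore M ≤ ⁅M, M⁆ := pi_le_derived hG hM (sigmaCore_le M) (card_sigmaCore M)

/-- every `σ(M)`-subgroup of `M` lies in `M_σ` -/
theorem pi_le_sigmaCore (hG : IsMinSimpleOddOrder G) {M : Subgroup G} (hM : IsCoatom M)
    {Y : Subgroup G} (hYM : Y ≤ M) (hY : ∀ p : ℕ, p.Prime → p ∣ Nat.card Y → p ∈ sigma M) :
    Y ≤ sigmaCore M :=
  le_of_relIndex_coprime hYM (le_normalizer_sigmaCore M)
    (fun p hp hd => (Cfsg.Agent.S1350.result hG M hM).1.2.2 p hp (hY p hp hd))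

theorem pgroup_le_sigmaCore (hG : IsMinSimpleOddOrder G) {M : Subgroup G} (hM : IsCoatom M) {p : ℕ}
    [hpp : Fact p.Prime] (hp : p ∈ sigma M) {X : Subgroup G} (hXM : X ≤ M) (hX : IsPGroup p X) :
    X ≤ sigmaCore M := by
  refine pi_le_sigmaCore hG hM hXM ?_
  intro q hq hd
  obtain ⟨k, hk⟩ := IsPGroup.iff_card.mp hX
  rw [hk] at hd
  rw [(Nat.prime_dvd_prime_iff_eq hq hpp.out).mp (hq.dvd_of_dvd_pow hd)]
  exact hp

theorem alpha_subset_sigma (hG : IsMinSimpleOddOrder G) {M : Subgroup G} (hM : IsCoatom M) {p : ℕ}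
    (hp : p ∈ alpha M) : p ∈ sigma M := by
  obtain ⟨⟨h1, -, h3⟩, -, h4, -⟩ := Cfsg.Agent.S1405.result hG M hM
  have hpp : p.Prime := hp.1
  have := Fact.mk hpp
  refine card_sigmaCore M p hpp (Dvd.dvd.trans ?_ (card_dvd_of_le h4))
  -- `p ∣ #M` and `p ∤ |M : M_α|`
  have hpM : p ∣ Nat.card M := by
    obtain ⟨B, hBM, hB, hc⟩ := exists_elemAb hp.2
    refine dvd_card_of_pgroup (isPGroup_of_elemAb hB) ?_ hBM
    rintro rfl
    rw [card_bot] at hc
    exact absurd hc (not_lt.mpr (Nat.one_le_pow _ _ hpp.pos))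
  rw [← Cfsg.Agent.Lib.Helper27Core.card_mul_relIndex h1] at hpM
  exact ((Nat.Prime.dvd_mul hpp).mp hpM).resolve_right (h3 p hpp hp)

end Cfsg.Agent.Lib.Helper2BGb
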