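import Mathlib
import Cfsg.Agent.Lib.Helper2BGDefs
import Cfsg.Agent.Lib.Helper2BGa
import Cfsg.Agent.Lib.Helper2BGb
import Cfsg.Agent.Lib.Helper24BG
import Cfsg.Agent.Lib.Helper12Hall
import Cfsg.Agent.S1451
import Cfsg.Agent.S1350

/-!
PROJECT 9, piece `notuniq` (Bender-Glauberman 10.11(a), 10.2(e)).
-/

set_option autoImplicit false

namespace Cfsg.Agent.Lib.Helper3BGNotuniq

open Cfsg Subgroup
open Cfsg.Agent.Lib.Helper30Trans Cfsg.Agent.Lib.Helper24BG Cfsg.Agent.Lib.Helper2BGDefs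
open Cfsg.Agent.Lib.Helper2BGa Cfsg.Agent.Lib.Helper2BGb

variable {G : Type*} [Group G] [Finite G]

omit [Finite G] in
theorem card_mul_relIndex_of_le {H K : Subgroup G} (h : H ≤ K) :
    Nat.card H * H.relIndex K = Nat.card K := by
  have := relIndex_mul_relIndex ⊥ H K bot_le h
  rwa [relIndex_bot_left, relIndex_bot_left] at this

omit [Finite G] in
theorem coatom_ne_bot (hG : IsMinSimpleOddOrder G) {M : Subgroup G} (hM : IsCoatom M) : M ≠ ⊥ := by
  rintro rfl
  have hs := hG.2.1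
  have : Nontrivial G := hs.toNontrivial
  obtain ⟨x, hx⟩ := exists_ne (1 : G)
  have h1 : zpowers x = ⊤ := by
    apply hM.2
    rw [bot_lt_iff_ne_bot]
    intro h
    exact hx (zpowers_eq_bot.mp h)
  apply hG.2.2.1
  refine ⟨⟨fun a b => ?_⟩⟩
  have ha : a ∈ zpowers x := by rw [h1]; exact mem_top a
  have hb : b ∈ zpowers x := by rw [h1]; exact mem_top b
  obtain ⟨i, rfl⟩ := mem_zpowers_iff.mp ha
  obtain ⟨j, rfl⟩ := mem_zpowers_iff.mp hb
  rw [← zpow_add, ← zpow_add, add_comm]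

theorem not_uniq_bot (hG : IsMinSimpleOddOrder G) : ¬ InUniqueMaximal (⊥ : Subgroup G) := by
  rintro ⟨M, ⟨hM, -⟩, hu⟩
  apply norm_ne_top hG (coatom_ne_bot hG hM) hM.1
  rw [eq_top_iff]
  intro g _
  have h1 : cj g M = M := hu _ ⟨isCoatom_cj hM g, bot_le⟩
  rw [mem_normalizer_iff]
  intro x
  constructor
  · intro hx
    rw [← h1]
    exact conj_mem_cj hx
  · intro hx
    rw [← h1, mem_cj] at hx
    have e : g⁻¹ * (g * x * g⁻¹) * g = x := by group
    rwa [e] at hx

/-- a Hall `σ(M)'`-subgroup of `M` above a given `σ(M)'`-subgroup. -/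
theorem exists_hall_ge (hG : IsMinSimpleOddOrder G) {M : Subgroup G} (hM : IsCoatom M)
    {K : Subgroup G} (hKM : K ≤ M) (hK : SigmaFree M K) :
    ∃ E : Subgroup G, K ≤ E ∧ E ≤ M ∧ SigmaFree M E ∧
      Nat.card E * Nat.card (sigmaCore M) = Nat.card M := by
  have hs : Group.IsSolvable M := sol hG hM.1
  obtain ⟨⟨hle, h1, h2⟩, -, -⟩ := Cfsg.Agent.S1350.result hG M hM
  have hcard : Nat.card M = (sigmaCore M).relIndex M * Nat.card (sigmaCore M) := by
    rw [mul_comm]
    exact (card_mul_relIndex_of_le hle).symm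
  have hcop : ((sigmaCore M).relIndex M).Coprime (Nat.card (sigmaCore M)) := by
    apply Nat.Coprime.symm
    apply Nat.coprime_of_dvd
    intro k hk hk1 hk2
    exact h2 k hk (h1 k hk hk1) hk2
  have hKc : (Nat.card (K.subgroupOf M)).Coprime (Nat.card (sigmaCore M)) := by
    rw [Cfsg.Agent.Lib.Helper12Hall.card_subgroupOf hKM]
    apply Nat.coprime_of_dvd
    intro k hk hk1 hk2
    exact hK k hk hk1 (h1 k hk hk2)
  obtain ⟨E, hE, hKE⟩ := Cfsg.Agent.Lib.Helper12Hall.hall_dominance _ _ hcard hcop _ hKc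
  have hEc : Nat.card (E.map M.subtype) = (sigmaCore M).relIndex M := by
    rw [Cfsg.Agent.Lib.Helper12Hall.card_map_subtype, hE]
  refine ⟨E.map M.subtype, ?_, map_subtype_le _, ?_, ?_⟩
  · intro x hx
    exact ⟨⟨x, hKM hx⟩, hKE (mem_subgroupOf.mpr hx), rfl⟩
  · intro r hr hd hσ
    rw [hEc] at hd
    exact h2 r hr hσ hd
  · rw [hEc, ← hcard]

theorem rankLE_two_of_sigmaFree (hG : IsMinSimpleOddOrder G) {M : Subgroup G} (hM : IsCoatom M)
    {K : Subgroup G} (hKM : K ≤ M) (hK : SigmaFree M K) : RankLE 2 K := by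
  intro p hp
  by_cases hd : p ∣ Nat.card K
  · have h1 : p ∉ alpha M := fun h => hK p hp hd (alpha_subset_sigma hG hM h)
    have h2 : PRankLE p 2 M := by
      by_contra h
      exact h1 ⟨hp, h⟩
    exact rank_le_of_le hKM h2
  · intro A _ hA
    have : Fact p.Prime := ⟨hp⟩
    have hAp : IsPGroup p A := by
      intro a
      refine ⟨1, ?_⟩
      rw [pow_one]
      exact Subtype.ext (hA a a.2)
    obtain ⟨n, hn⟩ := IsPGroup.iff_card.mp hAp
    have hn0 : n = 0 := by
      by_contra h0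
      apply hd
      have h3 : p ∣ Nat.card A := by rw [hn]; exact dvd_pow_self p h0
      exact h3.trans (card_subgroup_dvd_card A)
    rw [hn, hn0, pow_zero]
    exact Nat.one_le_pow _ _ hp.pos

theorem not_uniq (hG : IsMinSimpleOddOrder G) {M : Subgroup G} (hM : IsCoatom M) {K : Subgroup G}
    (hKM : K ≤ M) (hK : SigmaFree M K) : ¬ InUniqueMaximal K := by
  intro hU
  obtain ⟨E, hKE, hEM, hEσ, hEc⟩ := exists_hall_ge hG hM hKM hK
  have hEtop : E ≠ ⊤ := fun h => hM.1 (top_le_iff.mp (h ▸ hEM))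
  have hEU : InUniqueMaximal E := uniq_mono hU hKE hEtop
  have hE1 : E ≠ ⊥ := fun h => not_uniq_bot hG (h ▸ hEU)
  have hEs : Group.IsSolvable E := sol hG hEtop
  have hEcard : Nat.card E ≠ 1 := by
    intro h
    exact hE1 (card_eq_one.mp h)
  have hne : (Nat.card E).primeFactors.Nonempty := by
    rw [Nat.nonempty_primeFactors]
    have : 0 < Nat.card E := Nat.card_pos
    omega
  obtain ⟨r, hr⟩ : ∃ r, r = (Nat.card E).primeFactors.max' hne := ⟨_, rfl⟩
  have hrm : r ∈ (Nat.card E).primeFactors := hr ▸ Finset.max'_mem _ hne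
  have hrp : r.Prime := (Nat.mem_primeFactors.mp hrm).1
  have hrd : r ∣ Nat.card E := (Nat.mem_primeFactors.mp hrm).2.1
  have hrmax : ∀ q : ℕ, q.Prime → q ∣ Nat.card E → q ≤ r := by
    intro q hq hd
    rw [hr]
    exact Finset.le_max' _ _ (Nat.mem_primeFactors.mpr ⟨hq, hd, Nat.card_pos.ne'⟩)
  have : Fact r.Prime := ⟨hrp⟩
  obtain ⟨-, -, h3⟩ := Cfsg.Agent.S1451.result (G := E) (odd_sub hG E)
    (Or.inl (rankLE_two_of_sigmaFree hG hM hEM hEσ))
  obtain ⟨N, hNc, hN1, hN2⟩ := h3 (r - 1)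
  have hNr : ¬ r ∣ N.index := hN2 r hrp ⟨hrp, by have := hrp.pos; omega⟩
  have hNp : IsPGroup r N := by
    obtain ⟨n, hn⟩ : ∃ n, Nat.card N = r ^ n := by
      refine ⟨_, Nat.eq_prime_pow_of_unique_prime_dvd (Nat.card_pos (α := N)).ne' ?_⟩
      intro q hq hd
      have h4 := (hN1 q hq hd).2
      have h5 := hrmax q hq (hd.trans (card_subgroup_dvd_card N))
      omega
    exact IsPGroup.of_card hn
  obtain ⟨R, hR⟩ : ∃ R, R = N.map E.subtype := ⟨_, rfl⟩
  have hRE : R ≤ E := hR ▸ map_subtype_le _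
  have hRp : IsPGroup r R := hR ▸ hNp.map _
  have hRidx : R.relIndex E = N.index := by
    rw [hR, relIndex, subgroupOf, comap_map_eq_self_of_injective (subtype_injective E)]
  have hR1 : R ≠ ⊥ := by
    intro h
    apply hNr
    rw [← hRidx, h, relIndex_bot_left]
    exact hrd
  have hnorm : E ≤ normalizer (R : Set G) := by
    have hNn : N.Normal := inferInstance
    rw [hR]
    intro e he
    rw [mem_normalizer_iff]
    intro x
    constructor
    · rintro ⟨y, hy, rfl⟩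
      exact ⟨⟨e, he⟩ * y * ⟨e, he⟩⁻¹, hNn.conj_mem y hy _, rfl⟩
    · rintro ⟨y, hy, hyx⟩
      refine ⟨⟨e, he⟩⁻¹ * y * ⟨e, he⟩, ?_, ?_⟩
      · have := hNn.conj_mem y hy (⟨e, he⟩⁻¹)
        rwa [inv_inv] at this
      · simp only [subtype_apply, coe_mul, InvMemClass.coe_inv] at hyx ⊢
        rw [hyx]; group
  have hrσ : r ∉ sigma M := hEσ r hrp hrd
  have hSyl : IsSyl r R M := by
    apply isSyl_of_not_dvd (hRE.trans hEM) hRp
    rw [← relIndex_mul_relIndex R E M hRE hEM, hRidx]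
    intro hd
    rcases (Nat.Prime.dvd_mul hrp).mp hd with h | h
    · exact hNr h
    · have h6 : E.relIndex M = Nat.card (sigmaCore M) := by
        have h7 := card_mul_relIndex_of_le hEM
        rw [← hEc] at h7
        exact Nat.eq_of_mul_eq_mul_left Nat.card_pos h7
      rw [h6] at h
      exact hrσ (card_sigmaCore M r hrp h)
  have hNM : normalizer (R : Set G) ≤ M :=
    le_of_uniq hM hEM hEU hnorm (norm_ne_top hG hR1 (pgroup_ne_top hG hRp))
  exact hrσ (mem_sigma_of_norm hSyl hR1 hNM)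

theorem sigmaCore_ne_bot (hG : IsMinSimpleOddOrder G) {M : Subgroup G} (hM : IsCoatom M) :
    sigmaCore M ≠ ⊥ := by
  intro h
  obtain ⟨⟨-, -, h2⟩, -, -⟩ := Cfsg.Agent.S1350.result hG M hM
  apply not_uniq hG hM le_rfl
  · intro r hr hd hσ
    apply h2 r hr hσ
    rw [h, relIndex_bot_left]
    exact hd
  · apply uniq_of hM le_rfl
    intro L hL hML
    by_contra hne
    exact hL.1 (hM.2 L (lt_of_le_of_ne hML (Ne.symm hne)))

end Cfsg.Agent.Lib.Helper3BGNotuniq
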