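import Cfsg.Agent.S1403
import Cfsg.Agent.Lib.Helper24BG2
import Cfsg.Agent.Lib.Helper29Basic
import Cfsg.Agent.Lib.Helper27Term2
import Cfsg.Agent.Lib.Helper13Thompson

/-!
Bender-Glauberman section 10: first consequences of the Uniqueness Theorem.
-/

set_option autoImplicit false
open Cfsg

namespace Cfsg.Agent.Lib.Helper27BGa

open Subgroup
open Cfsg.Agent.Lib.Helper30Trans
open Cfsg.Agent.Lib.Helper24BG
open Cfsg.Agent.Lib.Helper24BG2

universe u
variable {G : Type u} [Group G] [Finite G] {p : ℕ} [Fact p.Prime]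

/-- membership in `σ(M)` from an ambient Sylow subgroup -/
theorem mem_sigma_of_isSyl {M R : Subgroup G} (hR : IsSyl p R M) (h1 : R ≠ ⊥)
    (hN : normalizer (R : Set G) ≤ M) : p ∈ sigma M := by
  refine ⟨Fact.out, dvd_card_of_pgroup hR.2.1 h1 hR.1, hR.toSylow, ?_⟩
  rw [hR.map_toSylow]
  exact hN

/-- all Sylow `p`-subgroups of `M` have their normalizer in `M` when `p ∈ σ(M)` -/
theorem normalizer_le_of_mem_sigma {M R : Subgroup G} (hp : p ∈ sigma M) (hR : IsSyl p R M) :
    normalizer (R : Set G) ≤ M := by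
  obtain ⟨-, -, P, hP⟩ := hp
  obtain ⟨g, hg, hle⟩ := exists_cj_le (isSyl_of_sylow P) hR.2.1 hR.1
  -- cj g R ≤ P', both Sylow
  have hcjS : cj g R = (P : Subgroup M).map M.subtype := by
    have h1 : IsPGroup p (cj g⁻¹ ((P : Subgroup M).map M.subtype)) := (P.2.map _).map _
    have h2 : cj g⁻¹ ((P : Subgroup M).map M.subtype) ≤ M := by
      rintro _ ⟨x, hx, rfl⟩
      have hxM : x ∈ M := map_subtype_le _ hx
      show g⁻¹ * x * g⁻¹⁻¹ ∈ M
      exact M.mul_mem (M.mul_mem (M.inv_mem hg) hxM) (M.inv_mem (M.inv_mem hg))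
    have h3 := hR.2.2 _ h2 h1 (cj_le_iff.mp hle)
    rw [← h3, cj_cj_inv]
  intro n hn
  have h4 : g * n * g⁻¹ ∈ normalizer (((P : Subgroup M).map M.subtype : Subgroup G) : Set G) := by
    rw [← hcjS]
    rw [mem_normalizer_iff]
    intro y
    have key : ∀ z : G, z ∈ cj g R ↔ g⁻¹ * z * g ∈ R := by
      intro z
      constructor
      · rintro ⟨x, hx, rfl⟩
        show g⁻¹ * (g * x * g⁻¹) * g ∈ R
        have : g⁻¹ * (g * x * g⁻¹) * g = x := by group
        rw [this]; exact hx
      · intro hz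
        exact ⟨g⁻¹ * z * g, hz, by show g * (g⁻¹ * z * g) * g⁻¹ = z; group⟩
    rw [key, key]
    have := (mem_normalizer_iff.mp hn) (g⁻¹ * y * g)
    rw [this]
    have e : n * (g⁻¹ * y * g) * n⁻¹ = g⁻¹ * (g * n * g⁻¹ * y * (g * n * g⁻¹)⁻¹) * g := by group
    rw [e]
  have h5 := hP h4
  have : n = g⁻¹ * (g * n * g⁻¹) * g := by group
  rw [this]
  exact M.mul_mem (M.mul_mem (M.inv_mem hg) h5) hg

/-- the rank of `M` is detected on an ambient Sylow subgroup -/
theorem rank_of_isSyl {k : ℕ} {M R : Subgroup G} (hR : IsSyl p R M) (h : PRankLE p k R) :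
    PRankLE p k M :=
  Cfsg.Agent.Lib.Helper3NarrowApp.rank_of_sylow hR.toSylow
      (Cfsg.Agent.Lib.Helper3RankTower.rank_of_injective (subgroupOfEquivOfLe hR.1).toMonoidHom
        (subgroupOfEquivOfLe hR.1).injective h)

/-- a `p`-group of rank one is cyclic, `p` odd -/
theorem cyclic_of_rank_one (hp2 : p ≠ 2) {P : Subgroup G} (hP : IsPGroup p P) (h : PRankLE p 1 P) :
    IsCyclic P := by
  by_contra hnc
  obtain ⟨W, hWP, -, hW, hWc⟩ := exists_normal_sq hp2 hP hnc
  refine not_rank_of_elemAb hWP hW ?_ h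
  rw [hWc]
  exact Nat.pow_lt_pow_right (Fact.out : p.Prime).one_lt (by norm_num)

omit [Fact p.Prime] in
/-- the normalizer of a cyclic subgroup normalizes all its subgroups -/
theorem normalizer_le_of_cyclic {R X : Subgroup G} (hR : IsCyclic R) (hX : X ≤ R) :
    normalizer (R : Set G) ≤ normalizer (X : Set G) := by
  intro n hn
  have h1 : cj n X ≤ R := by
    rintro _ ⟨x, hx, rfl⟩
    exact (mem_normalizer_iff.mp hn x).mp (hX hx)
  have h2 : cj n X = X := by
    apply Cfsg.Agent.Lib.Helper29Basic.eq_of_card_eq_of_le_cyclic hR h1 hX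
    exact card_map_of_injective (MulAut.conj n).injective
  rw [mem_normalizer_iff]
  intro y
  constructor
  · intro hy
    rw [← h2]
    exact ⟨y, hy, rfl⟩
  · intro hy
    rw [← h2] at hy
    obtain ⟨x, hx, hxy⟩ := hy
    have : x = y := by
      have h3 : n * x * n⁻¹ = n * y * n⁻¹ := hxy
      exact mul_left_cancel (mul_right_cancel h3)
    exact this ▸ hx

/-- a proper subgroup of rank at least three is a uniqueness subgroup -/
theorem uniq_of_rank3 (hG : IsMinSimpleOddOrder G) {K : Subgroup G} (hK : K ≠ ⊤)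
    (h3 : ¬ PRankLE p 2 K) : InUniqueMaximal K := by
  have hpp : p.Prime := Fact.out
  refine Cfsg.Agent.S1403.result hG K hK ?_ (Or.inl (fun h => h3 (h p hpp)))
  intro h
  exact h3 (rank_mono hpp.pos (h p hpp) (by norm_num))

/-- `α(M) ⊆ σ(M)` -/
theorem alpha_subset_sigma (hG : IsMinSimpleOddOrder G) {M : Subgroup G} (hM : IsCoatom M)
    (hp : p ∈ alpha M) : p ∈ sigma M := by
  obtain ⟨R, hR, -⟩ := exists_isSyl_ge (p := p) (bot_le : (⊥ : Subgroup G) ≤ M) IsPGroup.of_bot
  have hr : ¬ PRankLE p 2 R := by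
    intro h
    exact hp.2 (rank_of_isSyl hR h)
  have hR1 : R ≠ ⊥ := by
    rintro rfl
    apply hr
    intro A _ _
    have : Nat.card A = 1 := by
      have : Subsingleton (⊥ : Subgroup G) := inferInstance
      exact Nat.card_eq_one_iff_unique.mpr ⟨inferInstance, ⟨1⟩⟩
    rw [this]
    exact Nat.one_le_pow _ _ (Fact.out : p.Prime).pos
  have hRt := pgroup_ne_top hG hR.2.1
  have hu := uniq_of_rank3 hG hRt hr
  exact mem_sigma_of_isSyl hR hR1
    (le_of_uniq hM hR.1 hu le_normalizer (norm_ne_top hG hR1 hRt))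

omit [Finite G] [Fact p.Prime] in
theorem mem_normalizer_of_cj_eq {n : G} {M : Subgroup G} (h : cj n M = M) :
    n ∈ normalizer (M : Set G) := by
  rw [mem_normalizer_iff]
  intro y
  constructor
  · intro hy
    rw [← h]
    exact conj_mem_cj hy
  · intro hy
    rw [← h, mem_cj] at hy
    have : n⁻¹ * (n * y * n⁻¹) * n = y := by group
    rwa [this] at hy

omit [Fact p.Prime] in
/-- a maximal subgroup is self-normalizing -/
theorem normalizer_coatom (hG : IsMinSimpleOddOrder G) {M : Subgroup G} (hM : IsCoatom M) :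
    normalizer (M : Set G) = M := by
  by_cases h0 : M = ⊥
  · exfalso
    subst h0
    -- `⊥` maximal: then `G` is cyclic of prime order, hence commutative
    apply hG.2.2.1
    refine ⟨⟨fun a b => ?_⟩⟩
    by_cases ha : a = 1
    · subst ha; simp
    have h1 : zpowers a = ⊤ := by
      apply hM.2
      exact bot_lt_iff_ne_bot.mpr (fun h => ha (zpowers_eq_bot.mp h))
    have hb : b ∈ zpowers a := h1 ▸ mem_top b
    obtain ⟨k, rfl⟩ := mem_zpowers_iff.mp hb
    exact ((Commute.refl a).zpow_right k)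
  · exact norm_eq hG hM h0 le_rfl le_normalizer

omit [Finite G] [Fact p.Prime] in
theorem centralizer_zpowers_eq (x : G) :
    centralizer ((zpowers x : Subgroup G) : Set G) = centralizer ({x} : Set G) := by
  ext c
  rw [mem_centralizer_iff, mem_centralizer_iff]
  constructor
  · intro h y hy
    rw [Set.mem_singleton_iff] at hy
    subst hy
    exact h y (mem_zpowers y)
  · intro h y hy
    obtain ⟨k, rfl⟩ := mem_zpowers_iff.mp hy
    have h1 : Commute x c := h x rfl
    exact (h1.zpow_left k)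

omit [Fact p.Prime] in
/-- rank one groups of odd order have cyclic Sylow subgroups -/
theorem isZGroup_of_rank_one {H : Subgroup G} (hodd : Odd (Nat.card H)) (h : RankLE 1 H) :
    IsZGroup H := by
  refine ⟨fun q hq Q => ?_⟩
  haveI : Fact q.Prime := ⟨hq⟩
  have hQ : IsPGroup q ((Q : Subgroup H).map H.subtype) := Q.2.map _
  have hq2 : q ≠ 2 ∨ (Q : Subgroup H) = ⊥ := by
    by_cases h0 : (Q : Subgroup H) = ⊥
    · exact Or.inr h0
    left
    rintro rfl
    obtain ⟨k, hk⟩ := IsPGroup.iff_card.mp Q.2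
    have hk0 : k ≠ 0 := by
      rintro rfl
      exact h0 (card_eq_one.mp (by simpa using hk))
    have h2 : Odd (Nat.card (Q : Subgroup H)) := Odd.of_dvd_nat hodd (card_subgroup_dvd_card _)
    rw [hk] at h2
    exact (Nat.not_even_iff_odd.mpr h2) ((Nat.even_pow.mpr ⟨even_two, hk0⟩))
  rcases hq2 with hq2 | h0
  · have h1 : IsCyclic ((Q : Subgroup H).map H.subtype) :=
      cyclic_of_rank_one hq2 hQ (rank_le_of_le (map_subtype_le _) (h q hq))
    exact isCyclic_of_injective
      ((Q : Subgroup H).equivMapOfInjective H.subtype H.subtype_injective).toMonoidHom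
      ((Q : Subgroup H).equivMapOfInjective H.subtype H.subtype_injective).injective
  · have : Subsingleton (Q : Subgroup H) := by rw [h0]; infer_instance
    exact isCyclic_of_subsingleton

end Cfsg.Agent.Lib.Helper27BGa
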