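import Cfsg.Agent.Lib.Helper74BG36Main

set_option autoImplicit false
set_option linter.unusedSectionVars false

/-! B-G Theorem 3.6, piece `wrapper`: the ambient form of the key lemma. -/

namespace Cfsg.Agent.Lib.Helper36BG36Wrapper

open Cfsg.Agent.Lib.Helper36Frob Cfsg.Agent.Lib.Helper74BG36 Subgroup

/-- PIECE `wrapper`: the ambient form used in S1444. -/
theorem key {X : Type*} [Group X] [Finite X] {p r : ℕ} (hp : p.Prime) (hr : r.Prime)
    (hp2 : p ≠ 2) (hr2 : r ≠ 2) (V L A R : Subgroup X) [V.Normal]
    (hVc : ∀ a ∈ V, ∀ b ∈ V, a * b = b * a) (hVp : ∀ v ∈ V, v ^ p = 1)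
    (hAL : A ≤ normalizer (L : Set X)) (hRL : R ≤ normalizer (L : Set X))
    (hRA : R ≤ normalizer (A : Set X))
    (hLs : Group.IsSolvable L) (hLp : (Nat.card L).Coprime p) (hLr : (Nat.card L).Coprime r)
    (hA : IsPGroup p A) (hA1 : A ≠ ⊥) (hR : Nat.card R = r)
    (hCA : A ⊓ centralizer (R : Set X) = ⊥) (hCAL : A ⊓ centralizer (L : Set X) = ⊥)
    (hCLV : L ⊓ centralizer (V : Set X) = ⊥)
    (hZ : IsZGroup ↥(L ⊓ centralizer (R : Set X)))
    (hcyc : IsCyclic ↥(V ⊓ centralizer (R : Set X))) : False := by
  let _ : CommGroup V :=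
    { (inferInstance : Group V) with mul_comm := fun a b => Subtype.ext (hVc a a.2 b b.2) }
  let ρ : X →* MulAut V := MulAut.conjNormal
  have hρ : ∀ (g : X) (v : V), ((ρ g v : V) : X) = g * v * g⁻¹ := fun g v => rfl
  let _ : DistribMulAction X (Additive V) :=
    { smul := fun g a => Additive.ofMul (ρ g a.toMul)
      one_smul := fun a => by
        change Additive.ofMul (ρ 1 a.toMul) = a
        simp
      mul_smul := fun g h a => by
        change Additive.ofMul (ρ (g * h) a.toMul) = Additive.ofMul (ρ g (ρ h a.toMul))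
        simp
      smul_zero := fun g => by
        change Additive.ofMul (ρ g 1) = 0
        simp
      smul_add := fun g a b => by
        change Additive.ofMul (ρ g (a.toMul * b.toMul)) =
          Additive.ofMul (ρ g a.toMul) + Additive.ofMul (ρ g b.toMul)
        simp }
  have hsmul : ∀ (g : X) (a : Additive V), g • a = Additive.ofMul (ρ g a.toMul) := fun g a => rfl
  refine key_abs (G := X) (V := Additive V) hp hr hp2 hr2 ?_ L A R hAL hRL hRA hLs hLp hLr hA hA1 hR
    hCA hCAL ?_ hZ ?_
  · intro v
    induction v using Additive.rec with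
    | _ a =>
      rw [← ofMul_pow, show a ^ p = 1 from Subtype.ext (hVp a a.2)]
      rfl
  · intro g hg hfix
    have h1 : g ∈ L ⊓ centralizer (V : Set X) := by
      refine Subgroup.mem_inf.mpr ⟨hg, ?_⟩
      rw [mem_centralizer_iff]
      intro v hv
      have h2 := hfix (Additive.ofMul ⟨v, hv⟩)
      rw [hsmul] at h2
      have h3 : g * v * g⁻¹ = v := congrArg (fun a : Additive V => ((a.toMul : V) : X)) h2
      exact (mul_inv_eq_iff_eq_mul.mp h3).symm
    rwa [hCLV, mem_bot] at h1
  · -- the fixed points of `R`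
    have hmem : ∀ u : Additive V, u ∈ (fix R : AddSubgroup (Additive V)) →
        ((u.toMul : V) : X) ∈ V ⊓ centralizer (R : Set X) := by
      intro u hu
      refine Subgroup.mem_inf.mpr ⟨(u.toMul : V).2, ?_⟩
      rw [mem_centralizer_iff]
      intro x hx
      have h2 := hu x hx
      rw [hsmul] at h2
      have h3 : x * ((u.toMul : V) : X) * x⁻¹ = ((u.toMul : V) : X) :=
        congrArg (fun a : Additive V => ((a.toMul : V) : X)) h2
      exact mul_inv_eq_iff_eq_mul.mp h3
    intro u hu w hw hw0
    set C : Subgroup X := V ⊓ centralizer (R : Set X) with hC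
    let u' : C := ⟨_, hmem u hu⟩
    let w' : C := ⟨_, hmem w hw⟩
    have hw1 : w' ≠ 1 := by
      intro h0
      apply hw0
      have h1 : ((w.toMul : V) : X) = 1 := congrArg Subtype.val h0
      have h2 : (w.toMul : V) = 1 := Subtype.ext h1
      exact congrArg Additive.ofMul h2
    have hcard : Nat.card C = p := by
      obtain ⟨g, hg⟩ := hcyc.exists_generator
      have h1 : Nat.card C = orderOf g := (orderOf_eq_card_of_forall_mem_zpowers hg).symm
      have h2 : orderOf g ∣ p := by
        apply orderOf_dvd_of_pow_eq_one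
        exact Subtype.ext (hVp g g.2.1)
      rcases (Nat.dvd_prime hp).mp h2 with h3 | h3
      · exfalso
        apply hw1
        rw [h3] at h1
        have := (Nat.card_eq_one_iff_unique.mp h1).1
        exact Subsingleton.elim _ _
      · rw [h1, h3]
    have : Fact p.Prime := ⟨hp⟩
    have h4 : u' ∈ zpowers w' := mem_zpowers_of_prime_card hcard hw1
    rw [← mem_powers_iff_mem_zpowers] at h4
    obtain ⟨n, hn⟩ := h4
    refine ⟨n, ?_⟩
    have h5 : ((w.toMul : V) : X) ^ n = ((u.toMul : V) : X) := congrArg Subtype.val hn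
    have h6 : (w.toMul : V) ^ n = (u.toMul : V) := Subtype.ext h5
    have h7 := congrArg Additive.ofMul h6
    rw [ofMul_pow] at h7
    exact h7.symm

end Cfsg.Agent.Lib.Helper36BG36Wrapper
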