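import Cfsg.Prelude
import Cfsg.Agent.S0043
import Cfsg.Agent.Lib.Helper87BG36Defs
import Cfsg.Agent.Lib.Helper87BG36general
import Cfsg.Agent.Lib.Helper87BG36frattiniU
import Cfsg.Agent.Lib.Helper68BG36existsU
import Cfsg.Agent.Lib.Helper27BG36faithful
import Cfsg.Agent.Lib.Helper3BG36caseA1
import Cfsg.Agent.Lib.Helper3BG36caseA2
import Cfsg.Agent.Lib.Helper3BG36quot
import Cfsg.Agent.Lib.Helper40BG36a
import Cfsg.Agent.Lib.Helper68BG36bridge
import Cfsg.Agent.Lib.Helper68BG36existsS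
import Cfsg.Agent.Lib.Helper68BG36liftpp
import Cfsg.Agent.Lib.Helper68BG36relquot
import Cfsg.Agent.Lib.Helper68BG36subdirect
import Cfsg.Agent.Lib.Helper6BG36dichotomy
import Cfsg.Agent.Lib.Helper36BG36Wrapper

set_option autoImplicit false
open Cfsg Subgroup

/-! Bender-Glauberman Theorem 3.6 : assembly of the pieces of project 87. -/

namespace Cfsg.Agent.Lib.Helper87BG36Main
open Cfsg.Agent.Lib.Helper87BG36Defs
open Cfsg.Agent.Lib.Helper87BG36general Cfsg.Agent.Lib.Helper87BG36frattiniU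
  Cfsg.Agent.Lib.Helper68BG36existsU Cfsg.Agent.Lib.Helper27BG36faithful
  Cfsg.Agent.Lib.Helper3BG36caseA1 Cfsg.Agent.Lib.Helper3BG36caseA2 Cfsg.Agent.Lib.Helper3BG36quot
  Cfsg.Agent.Lib.Helper40BG36a Cfsg.Agent.Lib.Helper68BG36bridge Cfsg.Agent.Lib.Helper68BG36existsS
  Cfsg.Agent.Lib.Helper68BG36liftpp Cfsg.Agent.Lib.Helper68BG36relquot
  Cfsg.Agent.Lib.Helper68BG36subdirect Cfsg.Agent.Lib.Helper6BG36dichotomy

/-! ## assembly -/

theorem le_normalizer_of_normal {G : Type*} [Group G] (A N : Subgroup G) [N.Normal] :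
    A ≤ normalizer (N : Set G) := by
  rw [normalizer_eq_top_iff.mpr inferInstance]; exact le_top

theorem le_normalizer_inf {G : Type*} [Group G] (A B C : Subgroup G)
    (hB : A ≤ normalizer (B : Set G)) (hC : A ≤ normalizer (C : Set G)) :
    A ≤ normalizer ((B ⊓ C : Subgroup G) : Set G) := by
  intro a ha
  have h1 := hB ha
  have h2 := hC ha
  rw [mem_normalizer_iff] at h1 h2 ⊢
  intro x
  rw [mem_inf, mem_inf, h1 x, h2 x]

theorem normalizer_le_normalizer_centralizer {G : Type*} [Group G] (U : Subgroup G) :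
    normalizer (U : Set G) ≤ normalizer ((centralizer (U : Set G) : Subgroup G) : Set G) := by
  intro n hn
  rw [mem_normalizer_iff] at hn ⊢
  have key : ∀ m : G, (∀ h, h ∈ U ↔ m * h * m⁻¹ ∈ U) → ∀ x, x ∈ centralizer (U : Set G) →
      m * x * m⁻¹ ∈ centralizer (U : Set G) := by
    intro m hm x hx
    rw [mem_centralizer_iff] at hx ⊢
    intro u hu
    have h1 : m⁻¹ * u * m ∈ U := by
      rw [hm]; simpa [mul_assoc] using hu
    have h2 := hx _ h1
    calc u * (m * x * m⁻¹) = m * ((m⁻¹ * u * m) * x) * m⁻¹ := by group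
      _ = m * (x * (m⁻¹ * u * m)) * m⁻¹ := by rw [h2]
      _ = m * x * m⁻¹ * u := by group
  intro x
  constructor
  · exact key n hn x
  · intro hx
    have hn' : ∀ h, h ∈ U ↔ n⁻¹ * h * n⁻¹⁻¹ ∈ U := by
      intro h
      rw [hn (n⁻¹ * h * n⁻¹⁻¹)]
      simp [mul_assoc]
    have := key n⁻¹ hn' _ hx
    simpa [mul_assoc] using this

theorem isZGroup_of_le {G : Type*} [Group G] {A B : Subgroup G} (h : A ≤ B) (hB : IsZGroup ↥B) :
    IsZGroup ↥A :=
  IsZGroup.of_injective (f := Subgroup.inclusion h) (Subgroup.inclusion_injective h)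

theorem core {G : Type*} [Group G] [Finite G] [Group.IsSolvable G] (hodd : Odd (Nat.card G))
    (H R R₀ : Subgroup G) [H.Normal]
    (hHall : (Nat.card H).Coprime H.index) (hR : IsComplement' H R) (hR₀ : R₀ ≤ R)
    (hR₀p : (Nat.card R₀).Prime) (hZ : IsZGroup ↥(H ⊓ centralizer (R₀ : Set G)))
    (hHR : ⁅H, R⁆ = H) (p : ℕ) [Fact p.Prime]
    (IH : ∀ N : Subgroup G, N.Normal → N ≤ H → N ≠ ⊥ → PL1Rel p N H) : PL1Rel p ⊥ H := by
  have hp : p.Prime := Fact.out
  by_contra hno
  -- coprimality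
  have hRcard : Nat.card R = H.index := by
    have := hR.card_mul_card
    have h2 := H.card_mul_index
    have h3 : 0 < Nat.card H := Nat.card_pos
    nlinarith [this, h2]
  have hRH : (Nat.card R).Coprime (Nat.card H) := by rw [hRcard]; exact hHall.symm
  have hcopR : ∀ Y : Subgroup G, Y ≤ H → (Nat.card R).Coprime (Nat.card Y) := fun Y hY =>
    Nat.Coprime.coprime_dvd_right (Subgroup.card_dvd_of_le hY) hRH
  have hcopR₀ : ∀ Y : Subgroup G, Y ≤ H → (Nat.card R₀).Coprime (Nat.card Y) := fun Y hY =>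
    Nat.Coprime.coprime_dvd_left (Subgroup.card_dvd_of_le hR₀) (hcopR Y hY)
  have hcore : ∀ N : Subgroup G, N.Normal → N ≤ H → (Nat.card N).Coprime p → N = ⊥ := by
    intro N hN hNH hNp
    by_contra hN1
    exact hno (liftpp p N H hNp (IH N hN hNH hN1))
  have huniq : ∀ N₁ N₂ : Subgroup G, N₁.Normal → N₂.Normal → N₁ ≤ H → N₂ ≤ H → N₁ ⊓ N₂ = ⊥ →
      N₁ = ⊥ ∨ N₂ = ⊥ := by
    intro N₁ N₂ h1 h2 h1H h2H h12
    by_contra hcon
    push Not at hcon
    exact hno (subdirect p N₁ N₂ H h12 (IH N₁ h1 h1H hcon.1) (IH N₂ h2 h2H hcon.2))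
  have hH1 : H ≠ ⊥ := by
    intro h
    apply hno
    refine ⟨⊥, ⊥, inferInstance, inferInstance, le_rfl, le_rfl, bot_le, ?_, ⟨0, ?_⟩, ?_⟩
    · simp
    · simp
    · rw [h]; simp
  obtain ⟨V, hVn, hVH, hV1, hmin⟩ := existsmin H hH1
  obtain ⟨hVc, q, hq, hVq⟩ := Cfsg.Agent.S0043.result V hV1 hmin
  -- `q = p`
  have hVqg : IsPGroup q V := by
    intro x
    refine ⟨1, ?_⟩
    have := hVq x x.2
    ext
    simpa using this
  have hqp : q = p := by
    by_contra hne
    apply hV1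
    apply hcore V hVn hVH
    have : Fact q.Prime := ⟨hq⟩
    obtain ⟨n, hn⟩ := hVqg.exists_card_eq
    rw [hn]
    exact Nat.Coprime.pow_left n ((Nat.coprime_primes hq hp).mpr hne)
  subst hqp
  have hVel : IsElementaryAbelian q V := ⟨hVc, hVq⟩
  obtain ⟨W, X, hWn, hXn, hVW, hWX, hXH, hWV, hXW, hHX⟩ := IH V hVn hVH hV1
  obtain ⟨U, hUW, hRU, hVU, hVUW, hUp⟩ := existsU q V W R hVW hVqg hWV (hcopR W (hWX.trans hXH))
  have hVN := frattiniU q V W U hVqg hVc hVU hVUW hUp
  have hUH : U ≤ H := hUW.trans (hWX.trans hXH)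
  -- `V ⊓ N(U) ≤ C(U)`
  have hVNC : V ⊓ normalizer (U : Set G) ≤ centralizer (U : Set G) := by
    intro v hv
    rw [mem_centralizer_iff]
    intro u hu
    have hu' : u ∈ U := hu
    have h1 : v * u * v⁻¹ * u⁻¹ ∈ V := by
      have : u * v⁻¹ * u⁻¹ ∈ V := hVn.conj_mem _ (V.inv_mem hv.1) u
      have h := V.mul_mem hv.1 this
      simpa [mul_assoc] using h
    have h2 : v * u * v⁻¹ * u⁻¹ ∈ U := by
      have : v * u * v⁻¹ ∈ U := (mem_normalizer_iff.mp hv.2 u).mp hu'
      exact U.mul_mem this (U.inv_mem hu')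
    have h3 : v * u * v⁻¹ * u⁻¹ ∈ V ⊓ U := ⟨h1, h2⟩
    rw [hVU, mem_bot] at h3
    have h4 : v * u = u * v := by
      have := congrArg (fun t => t * u * v) h3
      simpa [mul_assoc] using this
    exact h4.symm
  -- `U ≠ ⊥`
  obtain ⟨nV, hnV⟩ := hVqg.exists_card_eq
  have hU1 : U ≠ ⊥ := by
    intro hU
    have hWV' : W = V := by rw [← hVUW, hU, sup_bot_eq]
    obtain ⟨m, hm⟩ := hXW
    apply hno
    refine ⟨⊥, X, inferInstance, hXn, le_rfl, bot_le, hXH, by simp, ⟨nV + m, ?_⟩, hHX⟩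
    rw [relIndex_bot_left, ← relIndex_bot_left, ← relIndex_mul_relIndex ⊥ W X bot_le hWX, hm,
      relIndex_bot_left, hWV', hnV, pow_add]
  have hVcent : ∀ Y : Subgroup G, Y ≤ centralizer (V : Set G) → V ≤ normalizer (Y : Set G) := by
    intro Y hY
    refine le_trans ?_ (centralizer_le_normalizer (Y : Set G))
    exact le_centralizer_iff.mp hY
  have hVV : V ≤ centralizer (V : Set G) := by
    intro a ha
    rw [mem_centralizer_iff]
    intro b hb
    have := hVc.is_comm.comm (⟨b, hb⟩ : V) ⟨a, ha⟩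
    exact congrArg Subtype.val this
  have hCVU : V ⊓ centralizer (U : Set G) = ⊥ := by
    have hn : (V ⊓ centralizer (U : Set G)).Normal :=
      normalsup V (normalizer (U : Set G)) _ hVN (hVcent _ (inf_le_left.trans hVV))
        (le_normalizer_inf _ _ _ (le_normalizer_of_normal _ V)
          (normalizer_le_normalizer_centralizer U))
    rcases hmin _ hn inf_le_left with h | h
    · exact h
    · exfalso
      apply hU1
      have hVCU : V ≤ centralizer (U : Set G) := by rw [← h]; exact inf_le_right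
      have hUn : U.Normal :=
        normalsup V (normalizer (U : Set G)) U hVN (hVCU.trans (centralizer_le_normalizer _)) le_rfl
      exact hcore U hUn hUH hUp
  have hVNU : V ⊓ normalizer (U : Set G) = ⊥ := by
    rw [eq_bot_iff, ← hCVU]
    exact le_inf inf_le_left hVNC
  have hCUV : U ⊓ centralizer (V : Set G) = ⊥ := by
    have hn : (U ⊓ centralizer (V : Set G)).Normal :=
      normalsup V (normalizer (U : Set G)) _ hVN (hVcent _ inf_le_right)
        (le_normalizer_inf _ _ _ le_rfl (le_normalizer_of_normal _ _))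
    exact hcore _ hn (inf_le_left.trans hUH)
      (Nat.Coprime.coprime_dvd_left (Subgroup.card_dvd_of_le inf_le_left) hUp)
  obtain ⟨S, hSX, hSU, hSp, hRS, hWS⟩ := existsS q V W X U R hWX hVU hVUW hVN hXW hRU (hcopR X hXH)
  have hSH : S ≤ H := hSX.trans hXH
  have hCSU := faithful q H V W X U S hXH hVqg hVc hV1 hmin huniq hVU hVUW hUp hVN hCVU hSU hSp hWS
  have hS1 : S ≠ ⊥ := by
    intro hS
    have hXW' : X = W := by rw [← hWS, hS, sup_bot_eq]
    apply hno
    refine ⟨⊥, V, inferInstance, hVn, le_rfl, bot_le, hVH, by simp, ⟨nV, ?_⟩, ?_⟩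
    · rw [relIndex_bot_left, hnV]
    · rw [← relIndex_mul_relIndex V W H hVW (hWX.trans hXH)]
      rw [hXW'] at hHX
      exact Nat.Coprime.mul_left hWV hHX
  have hVS : V ⊓ S = ⊥ := by
    rw [eq_bot_iff, ← hVNU]
    exact le_inf inf_le_left (inf_le_right.trans hSU)
  have hK := commK H V U R hVH hHR hVN hVNU hRU
  have hqr : (Nat.card R₀).Coprime q := by
    have hqV : q ∣ Nat.card V := by
      rw [hnV]
      have : nV ≠ 0 := by
        intro h0
        rw [h0, pow_zero] at hnV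
        exact hV1 ((Subgroup.card_eq_one).mp hnV)
      exact dvd_pow_self q this
    exact Nat.Coprime.coprime_dvd_right hqV (hcopR₀ V hVH)
  rcases dichotomy q H V S R₀ hVH hSH hVqg hSp hVS hZ with hA | hB
  · -- case A
    have h1 := caseA1 hodd q V U R₀ hVel hUp (hR₀.trans hRU) hR₀p (hcopR₀ U hUH) hqr hCUV hA
    have hZU : IsZGroup ↥U := isZGroup_of_le (le_inf hUH h1) hZ
    have h2 := caseA2 U (H ⊓ normalizer (U : Set G)) R (le_inf hUH le_normalizer) inf_le_right hRU
      (le_normalizer_inf _ _ _ (le_normalizer_of_normal _ H)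
        (hRU.trans le_normalizer)) hK hZU
    apply hS1
    rw [eq_bot_iff, ← hCSU]
    exact le_inf le_rfl ((le_inf hSH hSU).trans h2)
  · -- case B
    have hq2 : q ≠ 2 := by
      intro h2
      have hqV : q ∣ Nat.card V := by
        rw [hnV]
        have : nV ≠ 0 := by
          intro h0
          rw [h0, pow_zero] at hnV
          exact hV1 ((Subgroup.card_eq_one).mp hnV)
        exact dvd_pow_self q this
      have h3 : 2 ∣ Nat.card G := h2 ▸ hqV.trans (Subgroup.card_subgroup_dvd_card V)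
      exact (Nat.not_even_iff_odd.mpr hodd) (even_iff_two_dvd.mpr h3)
    have hr2 : Nat.card R₀ ≠ 2 := by
      intro h2
      have h3 : 2 ∣ Nat.card G := h2 ▸ (Subgroup.card_subgroup_dvd_card R₀)
      exact (Nat.not_even_iff_odd.mpr hodd) (even_iff_two_dvd.mpr h3)
    have hcyc : IsCyclic ↥(V ⊓ centralizer (R₀ : Set G)) := by
      have hZ' : IsZGroup ↥(V ⊓ centralizer (R₀ : Set G)) :=
        isZGroup_of_le (inf_le_inf_right _ hVH) hZ
      have hpg : IsPGroup q ↥(V ⊓ centralizer (R₀ : Set G)) := hVqg.to_le inf_le_left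
      have h1 : IsCyclic ↥(⊤ : Subgroup ↥(V ⊓ centralizer (R₀ : Set G))) :=
        IsPGroup.isCyclic_of_isZGroup (p := q) (hpg.to_subgroup ⊤)
      exact isCyclic_of_surjective (Subgroup.topEquiv (G := ↥(V ⊓ centralizer (R₀ : Set G))))
        (Subgroup.topEquiv).surjective
    exact Cfsg.Agent.Lib.Helper36BG36Wrapper.key hq hR₀p hq2 hr2 V U S R₀
      (fun a ha b hb => congrArg Subtype.val (hVc.is_comm.comm (⟨a, ha⟩ : V) ⟨b, hb⟩)) hVq
      hSU (hR₀.trans hRU) (hR₀.trans hRS) inferInstance hUp (hcopR₀ U hUH).symm hSp hS1 rfl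
      hB hCSU hCUV (isZGroup_of_le (inf_le_inf_right _ hUH) hZ) hcyc

theorem main_aux.{u} (p : ℕ) [Fact p.Prime] : ∀ (n : ℕ) (G : Type u) [Group G] [Finite G]
    [Group.IsSolvable G], Nat.card G = n → Odd (Nat.card G) →
    ∀ (H R R₀ : Subgroup G) [H.Normal], (Nat.card H).Coprime H.index →
    IsComplement' H R → R₀ ≤ R → (Nat.card R₀).Prime →
    IsZGroup ↥(H ⊓ centralizer (R₀ : Set G)) → ⁅H, R⁆ = H → PL1Rel p ⊥ H := by
  intro n
  induction n using Nat.strong_induction_on with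
  | _ n ih =>
    intro G _ _ _ hn hodd H R R₀ _ hHall hR hR₀ hR₀p hZ hHR
    apply core hodd H R R₀ hHall hR hR₀ hR₀p hZ hHR p
    intro N hN hNH hN1
    obtain ⟨q1, q2, q3, q4, q5⟩ := quot H R R₀ N hNH hHall hR hR₀ hR₀p hZ hHR
    have hcard : Nat.card (G ⧸ N) < n := by
      rw [← hn, ← N.card_mul_index, ← Subgroup.index_eq_card]
      have h1 : 1 < Nat.card N := by
        rw [Finite.one_lt_card_iff_nontrivial]
        exact (Subgroup.nontrivial_iff_ne_bot N).mpr hN1
      have h2 : 0 < N.index := Nat.pos_of_ne_zero N.index_ne_zero_of_finite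
      nlinarith
    have hodd' : Odd (Nat.card (G ⧸ N)) := by
      rw [← Subgroup.index_eq_card]
      exact Odd.of_dvd_nat hodd (Subgroup.index_dvd_card N)
    have : (H.map (QuotientGroup.mk' N)).Normal :=
      Subgroup.Normal.map inferInstance _ (QuotientGroup.mk'_surjective N)
    exact relquot p N H hNH (ih _ hcard (G ⧸ N) rfl hodd' _ _ _ q1 q2 (Subgroup.map_mono hR₀) q3 q4 q5)

theorem bg36 {G : Type*} [Group G] [Finite G] [Group.IsSolvable G] (hodd : Odd (Nat.card G))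
    (H R R₀ : Subgroup G) [H.Normal] (hHall : (Nat.card H).Coprime H.index)
    (hR : Subgroup.IsComplement' H R) (hR₀ : R₀ ≤ R) (hR₀p : (Nat.card R₀).Prime)
    (hZ : IsZGroup ↥(H ⊓ centralizer (R₀ : Set G))) (p : ℕ) [Fact p.Prime] :
    Cfsg.PLengthLE p 1 ↥⁅H, R⁆ := by
  obtain ⟨W, X, h1, h2, h3, h4, h5, h6, h7⟩ := general hodd H R R₀ hHall hR hR₀ hR₀p hZ p
    (fun G' _ _ _ ho H' R' R₀' _ a b c d e f => main_aux p _ G' rfl ho H' R' R₀' a b c d e f)
  exact bridge p _ W X h1 h2 h3 h4 h5 h6 h7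

end Cfsg.Agent.Lib.Helper87BG36Main
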