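import Mathlib
import Cfsg.Agent.Lib.Helper2BGDefs
import Cfsg.Agent.Lib.Helper2BGa
import Cfsg.Agent.Lib.Helper24BG
import Cfsg.Agent.Lib.Helper3NarrowAut
import Cfsg.Agent.Lib.Helper14ElemAb
import Cfsg.Agent.Lib.Helper27Bender3
import Cfsg.Agent.Lib.Helper86ModGrp
import Cfsg.Agent.S1394
import Cfsg.Agent.S1395
import Cfsg.Agent.S1396
import Cfsg.Agent.S1410
import Cfsg.Agent.S1411

/-!
PROJECT 9, piece `trans` (Bender-Glauberman 10.10).
-/

set_option autoImplicit false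
set_option linter.unusedSectionVars false

namespace Cfsg.Agent.Lib.Helper38BGTrans

open Cfsg Subgroup
open Cfsg.Agent.Lib.Helper30Trans Cfsg.Agent.Lib.Helper24BG Cfsg.Agent.Lib.Helper2BGDefs
open Cfsg.Agent.Lib.Helper3NarrowAut (HasMaxSq)

variable {G : Type*} [Group G] [Finite G]

/-- elements of order `p` centralizing a maximal elementary abelian subgroup lie in it -/
theorem MaxSq.mem_of_cent {p : ℕ} {A : Subgroup G} (hA : MaxSq p A) {x : G}
    (hx : x ∈ centralizer (A : Set G)) (hxp : x ^ p = 1) : x ∈ A := by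
  have h1 := Cfsg.Agent.Lib.Helper14ElemAb.elemAb_sup_zpowers A hA.elem x hx hxp
  have h2 := hA.max _ h1 le_sup_left
  rw [← h2]
  exact (le_sup_right : zpowers x ≤ A ⊔ zpowers x) (mem_zpowers x)

/-- S1396(1) + S1410. -/
theorem transHyp (hG : IsMinSimpleOddOrder G) {p : ℕ} [Fact p.Prime] {A : Subgroup G}
    (hA : MaxSq p A) : TransitivityHypothesis A := by
  have hp : p ∣ Nat.card G := by
    have h1 : Nat.card A ∣ Nat.card G := card_subgroup_dvd_card A
    rw [hA.card] at h1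
    exact (dvd_pow_self p two_ne_zero).trans h1
  refine Cfsg.Agent.S1396.result hG p hp A (isPGroup_of_elemAb hA.elem) hA.elem.1 (Or.inl ⟨?_, ?_⟩)
  · intro x hx
    exact ⟨fun h => MaxSq.mem_of_cent hA hx h, fun h => hA.elem.2 x h⟩
  · intro H hH
    exact Cfsg.Agent.S1410.result hG p H hH

theorem le_normalizer_cj' {P Q : Subgroup G} (k : G) (h : P ≤ normalizer (Q : Set G)) :
    cj k P ≤ normalizer ((cj k Q : Subgroup G) : Set G) := by
  rw [le_normalizer_iff]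
  intro a ha x hx
  rw [mem_cj] at ha hx ⊢
  have h1 := (mem_normalizer_iff.mp (h ha) _).mp hx
  have e : k⁻¹ * (a * x * a⁻¹) * k = (k⁻¹ * a * k) * (k⁻¹ * x * k) * (k⁻¹ * a * k)⁻¹ := by group
  rwa [e]

theorem cj_mem_inv' {P Q : Subgroup G} {π : Set ℕ} (k : G) (h : Q ∈ invSubgroups ⊤ P π) :
    cj k Q ∈ invSubgroups ⊤ (cj k P) π := by
  refine ⟨le_top, ?_, le_normalizer_cj' k h.2.2⟩
  intro p hp hdvd
  rw [card_cj] at hdvd
  exact h.2.1 p hp hdvd

theorem cj_mem_maxInv' {P Q : Subgroup G} {π : Set ℕ} (k : G) (h : Q ∈ maxInvSubgroups ⊤ P π) :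
    cj k Q ∈ maxInvSubgroups ⊤ (cj k P) π := by
  refine ⟨cj_mem_inv' k h.1, ?_⟩
  intro R hR hle
  have h1 : Q ≤ cj k⁻¹ R := cj_le_iff.mp hle
  have h3 := cj_mem_inv' k⁻¹ hR
  rw [cj_inv_cj] at h3
  have h2 := h.2 _ h3 h1
  rw [← h2, cj_cj_inv]

/-- B-G 10.10. -/
theorem signalizer (hG : IsMinSimpleOddOrder G) {p q : ℕ} [Fact p.Prime] [Fact q.Prime]
    (hqp : q ≠ p) {A Q : Subgroup G} (hA : MaxSq p A) (hQ : Q ∈ maxInvSubgroups ⊤ A {q})
    (hqC : q ∣ Nat.card (centralizer (A : Set G))) :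
    ∃ P : Subgroup G, IsSyl p P ⊤ ∧ A ≤ P ∧ P ≤ normalizer (Q : Set G) ∧
      normalizer (P : Set G) = piCoreOf (primesNotDvd (Nat.card A)) (centralizer (P : Set G)) ⊔
        (normalizer (P : Set G) ⊓ normalizer (Q : Set G)) ∧
      P ≤ ⁅normalizer (Q : Set G), normalizer (Q : Set G)⁆ ∧
      ((PRankLE q 2 Q ∨ HasMaxSq q Q) → P ≤ centralizer (Q : Set G)) := by
  have hpp : p.Prime := Fact.out
  have hq : q.Prime := Fact.out
  have hT := transHyp hG hA
  have hAp : IsPGroup p A := isPGroup_of_elemAb hA.elem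
  have hcomm := hA.elem.1
  have hAC : A ≤ centralizer (A : Set G) := by
    intro a ha
    rw [mem_centralizer_iff]
    intro b hb
    exact setLike_mul_comm hb ha
  have hZ : ¬ RankLE 1 ↥(A ⊓ centralizer (A : Set G)) := by
    intro h
    have h1 := h p hpp ⊤ (by
      have : IsMulCommutative ↥(A ⊓ centralizer (A : Set G)) := by
        refine ⟨⟨fun x y => Subtype.ext ?_⟩⟩
        exact setLike_mul_comm x.2.1 y.2.1
      infer_instance) (by
      intro a _
      exact Subtype.ext (hA.elem.2 a a.2.1))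
    rw [card_top, inf_eq_left.mpr hAC, hA.card, pow_one] at h1
    have : p < p ^ 2 := by nlinarith [hpp.two_le]
    omega
  have hqA : ¬ q ∣ Nat.card A := by
    rw [hA.card]
    intro h
    exact hqp ((Nat.prime_dvd_prime_iff_eq hq hpp).mp (hq.dvd_of_dvd_pow h))
  have hpA : p ∣ Nat.card A := by rw [hA.card]; exact dvd_pow_self p two_ne_zero
  have htr := Cfsg.Agent.S1394.result hG A hT hZ q hq hqA hqC
  -- facts for an arbitrary Sylow subgroup above `A`
  have key : ∀ P : Subgroup G, IsSyl p P ⊤ → A ≤ P → _ := fun P hP hAP =>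
    Cfsg.Agent.S1395.result hG A hT q hq hqA P (pgroup_ne_top hG hP.2.1) (by
      intro r hr hd
      obtain ⟨m, hm⟩ := IsPGroup.iff_card.mp hP.2.1
      rw [hm] at hd
      rw [(Nat.prime_dvd_prime_iff_eq hr hpp).mp (hr.dvd_of_dvd_pow hd)]
      exact hpA) hAP (by
      have : Group.IsNilpotent P := hP.2.1.isNilpotent
      exact Cfsg.Agent.Lib.Helper27Bender3.isSubnormal_of_isNilpotent _) htr
  obtain ⟨P₀, hP₀, hAP₀⟩ := exists_isSyl_ge (le_top : A ≤ ⊤) hAp
  obtain ⟨Q', hQ', -⟩ := exists_max_ge (H := ⊤) (A := P₀) (π := {q}) (Y := ⊥)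
    (mem_inv_of_isPGroup le_top IsPGroup.of_bot
      (by rw [normalizer_eq_top_iff.mpr normal_bot]; exact le_top))
  have hQ'A := (key P₀ hP₀ hAP₀).2.2.1 hQ'
  obtain ⟨k, hk, hkQ⟩ := htr Q' hQ'A Q hQ
  have hkC : k ∈ centralizer (A : Set G) := piCoreOf_le _ _ hk
  have hP : IsSyl p (cj k P₀) ⊤ := by
    have := Cfsg.Agent.Lib.Helper2BGa.isSyl_cj hP₀ k
    rwa [Cfsg.Agent.Lib.Helper2BGa.cj_eq_self_of_mem (mem_top k)] at this
  have hAP : A ≤ cj k P₀ := by
    have h1 : cj k A = A := cj_eq_self_of_mem_normalizer (centralizer_le_normalizer _ hkC)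
    rw [← h1]
    exact cj_mono hAP₀
  have hQP : Q ∈ maxInvSubgroups ⊤ (cj k P₀) {q} := by
    rw [hkQ]
    exact cj_mem_maxInv' k hQ'
  set P := cj k P₀ with hPdef
  obtain ⟨h1, h2⟩ := (key P hP hAP).2.2.2 Q hQP
  have hPN : P ≤ ⁅normalizer (P : Set G), normalizer (P : Set G)⁆ := by
    obtain ⟨Y, hY1, hY2, hY3⟩ := Cfsg.Agent.Lib.Helper86ModGrp.exists_compl hP.toSylowTop
    have hc : IsComplIn ((hP.toSylowTop : Sylow p G) : Subgroup G) Y
        (normalizer (((hP.toSylowTop : Sylow p G) : Subgroup G) : Set G)) := by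
      refine ⟨le_normalizer, hY1, ?_, ?_⟩
      · rw [eq_bot_iff]
        intro x hx
        exact (mem_bot).mpr (hY3 x hx.2 hx.1)
      · intro m hm
        obtain ⟨y, hy, u, hu, hmyu⟩ := hY2 m hm
        refine ⟨y * u * y⁻¹, ?_, y, hy, ?_⟩
        · exact (mem_normalizer_iff.mp (hY1 hy) u).mp hu
        · rw [hmyu]; group
    exact (Cfsg.Agent.S1411.result hG p hP.toSylowTop Y hc).2
  have hPQ' : P ≤ ⁅normalizer (Q : Set G), normalizer (Q : Set G)⁆ :=
    (le_inf le_rfl hPN).trans h1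
  refine ⟨P, hP, hAP, hQP.1.2.2, h2, hPQ', ?_⟩
  intro hmax
  have hQq : IsPGroup q Q := isPGroup_of_mem_inv hQ.1
  by_cases hQ1 : Q = ⊥
  · rw [hQ1]
    intro x _
    rw [mem_centralizer_iff]
    intro y hy
    have : y = 1 := hy
    rw [this]; simp
  have hq2 : q ≠ 2 := ne_two hG hQq hQ1
  have hNtop : normalizer (Q : Set G) ≠ ⊤ := norm_ne_top hG hQ1 (pgroup_ne_top hG hQq)
  have hsol : Group.IsSolvable (normalizer (Q : Set G)) := sol hG hNtop
  have hodd : Odd (Nat.card (normalizer (Q : Set G))) := odd_sub hG _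
  intro a ha
  have haN : a ∈ normalizer (Q : Set G) := hQP.1.2.2 ha
  have hac : (⟨a, haN⟩ : normalizer (Q : Set G)) ∈ commutator (normalizer (Q : Set G)) := by
    have h3 := hPQ' ha
    rw [← map_subtype_commutator] at h3
    obtain ⟨y, hy, hya⟩ := h3
    have : y = ⟨a, haN⟩ := Subtype.ext hya
    rwa [← this]
  have hcop : (orderOf (⟨a, haN⟩ : normalizer (Q : Set G))).Coprime q := by
    have h4 : orderOf (⟨a, haN⟩ : normalizer (Q : Set G)) = orderOf a :=
      Subgroup.orderOf_mk a haN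
    rw [h4]
    obtain ⟨m, hm⟩ := hP.2.1 ⟨a, ha⟩
    have hm' : a ^ p ^ m = 1 := congrArg Subtype.val hm
    exact Nat.Coprime.coprime_dvd_left (orderOf_dvd_of_pow_eq_one hm')
      (Nat.Coprime.pow_left _ ((Nat.coprime_primes hpp hq).mpr hqp.symm))
  have h5 := Cfsg.Agent.Lib.Helper3NarrowAut.aut_comm hq2 hQq hmax hodd
    (Subgroup.normalizerMonoidHom Q) ⟨a, haN⟩ hac hcop
  rw [mem_centralizer_iff]
  intro y hy
  have h6 := congrArg (fun f : MulAut Q => ((f ⟨y, hy⟩ : Q) : G)) h5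
  simp only [MulAut.one_apply] at h6
  have h7 : (((Subgroup.normalizerMonoidHom Q) ⟨a, haN⟩ ⟨y, hy⟩ : Q) : G) = a * y * a⁻¹ := rfl
  rw [h7] at h6
  calc y * a = (a * y * a⁻¹) * a := by rw [h6]
    _ = a * y := by group

end Cfsg.Agent.Lib.Helper38BGTrans
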