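import Mathlib
import Cfsg.Agent.Lib.Helper3BGNotuniq
import Cfsg.Agent.Lib.Helper24BG2
import Cfsg.Agent.S1403
import Cfsg.Agent.S1405
import Cfsg.Agent.S1408

/-!
PROJECT 9, piece `rankcent` (Bender-Glauberman 10.11(b)), with the part of piece `trans`
(B-G 10.10) that is used given as an explicit hypothesis `SigHyp`.
-/

set_option autoImplicit false

namespace Cfsg.Agent.Lib.Helper3BGRankcent

open Cfsg Subgroup
open Cfsg.Agent.Lib.Helper30Trans Cfsg.Agent.Lib.Helper24BG Cfsg.Agent.Lib.Helper2BGDefs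
open Cfsg.Agent.Lib.Helper2BGa Cfsg.Agent.Lib.Helper2BGb Cfsg.Agent.Lib.Helper3BGNotuniq

variable {G : Type*} [Group G]

/-- the consequence of B-G 10.10 that is used here. -/
def SigHyp (G : Type*) [Group G] : Prop :=
  ∀ (p q : ℕ) [Fact p.Prime] [Fact q.Prime], q ≠ p → ∀ A Q : Subgroup G, MaxSq p A →
    Q ∈ maxInvSubgroups ⊤ A {q} → q ∣ Nat.card (centralizer (A : Set G)) →
    ∃ P : Subgroup G, IsSyl p P ⊤ ∧ A ≤ P ∧
      P ≤ ⁅normalizer (Q : Set G), normalizer (Q : Set G)⁆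

theorem derived_le (M : Subgroup G) : ⁅M, M⁆ ≤ M :=
  commutator_le.mpr fun _ ha _ hb => M.mul_mem (M.mul_mem (M.mul_mem ha hb) (M.inv_mem ha))
    (M.inv_mem hb)

theorem le_normalizer_derived (M : Subgroup G) :
    M ≤ normalizer ((⁅M, M⁆ : Subgroup G) : Set G) := by
  rw [le_normalizer_iff_commutator_le_right]
  exact commutator_mono le_rfl (derived_le M)

theorem piCore_eq_bot {X : Type*} [Group X] [Finite X] {π : Set ℕ} (h : ∀ q, q ∉ π) :
    piCore π X = ⊥ := by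
  rw [piCore, eq_bot_iff]
  apply sSup_le
  rintro N ⟨-, hN⟩
  have h1 : Nat.card N = 1 := by
    by_contra hne
    obtain ⟨q, hq, hd⟩ := Nat.exists_prime_and_dvd hne
    exact h q (hN q hq hd)
  rw [card_eq_one.mp h1]

theorem derived_nilpotent [Finite G] (hG : IsMinSimpleOddOrder G) {M : Subgroup G}
    (hM : IsCoatom M) (hα : ∀ q, q ∉ alpha M) : Group.IsNilpotent ↥⁅M, M⁆ := by
  obtain ⟨-, -, -, -, h⟩ := Cfsg.Agent.S1405.result hG M hM
  have hinj : Function.Injective (QuotientGroup.mk' (piCore (alpha M) ↥M)) := by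
    rw [← MonoidHom.ker_eq_bot_iff, QuotientGroup.ker_mk', piCore_eq_bot hα]
  have h1 : Group.IsNilpotent ↥(commutator ↥M) :=
    (Group.isNilpotent_congr (equivMapOfInjective _ _ hinj)).mpr h
  rw [← map_subtype_commutator]
  exact (Group.isNilpotent_congr (equivMapOfInjective _ _ (subtype_injective M))).mp h1

/-- a Sylow subgroup of `M` lying in the nilpotent group `M'` is normal in `M`. -/
theorem syl_normal_of_le_derived [Finite G] {M P : Subgroup G} {p : ℕ} [Fact p.Prime]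
    (hnil : Group.IsNilpotent ↥⁅M, M⁆) (hP : IsSyl p P M) (hPM : P ≤ ⁅M, M⁆) :
    M ≤ normalizer (P : Set G) := by
  refine (le_normalizer_derived M).trans (normalizer_le_normalizer_hall hnil hPM ?_)
  intro r hr hd
  have hS : IsSyl p P ⁅M, M⁆ := hP.mono hPM (derived_le M)
  obtain ⟨n, hn⟩ := IsPGroup.iff_card.mp hP.2.1
  rw [hn] at hd
  have hrp : r = p := (Nat.prime_dvd_prime_iff_eq hr Fact.out).mp (hr.dvd_of_dvd_pow hd)
  rw [hrp]
  exact IsSyl.not_dvd_relIndex hS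

theorem exists_sq_le [Finite G] {p : ℕ} [hp : Fact p.Prime] {B : Subgroup G}
    (hB : IsElementaryAbelian p B) (hc : p ^ 1 < Nat.card B) :
    ∃ A : Subgroup G, A ≤ B ∧ IsElementaryAbelian p A ∧ Nat.card A = p ^ 2 := by
  obtain ⟨n, hn⟩ := IsPGroup.iff_card.mp (isPGroup_of_elemAb hB)
  have hn2 : 2 ≤ n := by
    rw [hn] at hc
    exact (Nat.pow_lt_pow_iff_right hp.out.one_lt).mp hc
  obtain ⟨A, hA⟩ := Sylow.exists_subgroup_card_pow_prime (G := B) p
    (n := 2) (hn ▸ pow_dvd_pow p hn2)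
  refine ⟨A.map B.subtype, map_subtype_le _, elemAb_of_le hB (map_subtype_le _), ?_⟩
  rw [card_map_of_injective (subtype_injective B), hA]

theorem rank_cent_of [Finite G] (hsig : SigHyp G) (hG : IsMinSimpleOddOrder G) {M : Subgroup G}
    (hM : IsCoatom M) {K : Subgroup G} (hKM : K ≤ M) (hK : SigmaFree M K) :
    RankLE 1 ↥(K ⊓ centralizer (sigmaCore M : Set G)) := by
  intro p hp
  by_contra hr
  have : Fact p.Prime := ⟨hp⟩
  obtain ⟨B, hBK, hBe, hBc⟩ := exists_elemAb hr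
  obtain ⟨A, hAB, hAe, hA2⟩ := exists_sq_le hBe hBc
  have hAK : A ≤ K := hAB.trans (hBK.trans inf_le_left)
  have hAM : A ≤ M := hAK.trans hKM
  have hAC : A ≤ centralizer (sigmaCore M : Set G) := hAB.trans (hBK.trans inf_le_right)
  have hCA : sigmaCore M ≤ centralizer (A : Set G) := le_centralizer_iff.mp hAC
  have hpK : p ∣ Nat.card K := by
    have h1 : p ∣ Nat.card A := by rw [hA2]; exact dvd_pow_self p two_ne_zero
    exact h1.trans (card_dvd_of_le hAK)
  have hpσ : p ∉ sigma M := hK p hp hpK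
  have hAσ : SigmaFree M A := by
    intro r hr hd
    rw [hA2] at hd
    have hrp : r = p := (Nat.prime_dvd_prime_iff_eq hr hp).mp (hr.dvd_of_dvd_pow hd)
    rwa [hrp]
  have hAU : ¬ InUniqueMaximal A := not_uniq hG hM hAM hAσ
  have hAtop : A ≠ ⊤ := fun h => hM.1 (top_le_iff.mp (h ▸ hAM))
  have hA1 : ¬ RankLE 1 A := by
    apply Cfsg.Agent.Lib.Helper24BG2.not_rankLE_of_elemAb hp le_rfl hAe
    rw [hA2]
    exact Nat.pow_lt_pow_right hp.one_lt (by norm_num)
  -- `M_σ` has rank at most two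
  have hσ2 : RankLE 2 (sigmaCore M) := by
    by_contra h
    apply hAU
    apply Cfsg.Agent.S1403.result hG A hAtop hA1
    right
    intro h2
    apply h
    intro q hq
    exact rank_le_of_le hCA (h2 q hq)
  have hα : ∀ q, q ∉ alpha M := by
    rintro q hq
    have : Fact q.Prime := ⟨hq.1⟩
    obtain ⟨D, hDM, hDe, hDc⟩ := exists_elemAb hq.2
    have hDσ : D ≤ sigmaCore M :=
      pgroup_le_sigmaCore hG hM (alpha_subset_sigma hG hM hq) hDM (isPGroup_of_elemAb hDe)
    exact not_rank_of_elemAb hDσ hDe hDc (hσ2 q hq.1)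
  have hnil := derived_nilpotent hG hM hα
  have hp2 : PRankLE p 2 M := by
    by_contra h
    exact hα p ⟨hp, h⟩
  have hp1 : ¬ PRankLE p 1 M := by
    apply not_rank_of_elemAb hAM hAe
    rw [hA2]
    exact Nat.pow_lt_pow_right hp.one_lt (by norm_num)
  have hAmax : MaxSq p A :=
    ⟨hAe, hA2, (Cfsg.Agent.S1408.result hG M hM p hpσ hp2 hp1).2 A hAM hAe hA2⟩
  -- a prime `q` dividing `|M_σ|`
  have hσ1 : Nat.card (sigmaCore M) ≠ 1 := fun h => sigmaCore_ne_bot hG hM (card_eq_one.mp h)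
  obtain ⟨q, hq, hqd⟩ := Nat.exists_prime_and_dvd hσ1
  have : Fact q.Prime := ⟨hq⟩
  have hqσ : q ∈ sigma M := card_sigmaCore M q hq hqd
  have hqp : q ≠ p := fun h => hpσ (h ▸ hqσ)
  obtain ⟨Q, hQ, -⟩ := exists_isSyl_ge (p := q) (bot_le : (⊥ : Subgroup G) ≤ M)
    (IsPGroup.of_bot)
  have hQσ : Q ≤ sigmaCore M := pgroup_le_sigmaCore hG hM hqσ hQ.1 hQ.2.1
  have hQd : Q ≤ ⁅M, M⁆ := hQσ.trans (sigmaCore_le_derived hG hM)
  have hQn : M ≤ normalizer (Q : Set G) := syl_normal_of_le_derived hnil hQ hQd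
  have hQ1 : Q ≠ ⊥ := by
    intro h
    apply IsSyl.not_dvd_relIndex hQ
    rw [h, relIndex_bot_left]
    exact hqd.trans (card_dvd_of_le (sigmaCore_le M))
  have hNQ : normalizer (Q : Set G) = M := norm_eq hG hM hQ1 hQ.1 hQn
  have hQtop : IsSyl q Q ⊤ := sigma_syl_top hqσ hQ
  have hQinv : Q ∈ maxInvSubgroups ⊤ A {q} := by
    refine ⟨⟨le_top, ?_, hAM.trans hQn⟩, ?_⟩
    · intro r hr hd
      obtain ⟨n, hn⟩ := IsPGroup.iff_card.mp hQ.2.1
      rw [hn] at hd
      exact (Nat.prime_dvd_prime_iff_eq hr hq).mp (hr.dvd_of_dvd_pow hd)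
    · rintro R ⟨-, hR, -⟩ hQR
      apply hQtop.2.2 R le_top _ hQR
      have hc : Nat.card R = q ^ (Nat.card R).primeFactorsList.length :=
        Nat.eq_prime_pow_of_unique_prime_dvd (Nat.card_pos (α := R)).ne'
          (fun {r} hr hd => hR r hr hd)
      exact IsPGroup.of_card hc
  have hqC : q ∣ Nat.card (centralizer (A : Set G)) := hqd.trans (card_dvd_of_le hCA)
  obtain ⟨P, hP, hAP, hPd⟩ := hsig p q hqp A Q hAmax hQinv hqC
  rw [hNQ] at hPd
  have hPM : IsSyl p P M := hP.mono (hPd.trans (derived_le M)) le_top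
  have hPn : M ≤ normalizer (P : Set G) := syl_normal_of_le_derived hnil hPM hPd
  have hP1 : P ≠ ⊥ := by
    intro h
    rw [h, le_bot_iff] at hAP
    rw [hAP, card_bot] at hA2
    have := Nat.one_lt_pow two_ne_zero hp.one_lt
    omega
  exact hpσ (mem_sigma_of_norm hPM hP1 (norm_eq hG hM hP1 hPM.1 hPn).le)

end Cfsg.Agent.Lib.Helper3BGRankcent
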