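import Mathlib
import Cfsg.Agent.Lib.Helper3BGRankcent
import Cfsg.Agent.Lib.Helper38BGTrans
import Cfsg.Agent.Lib.Helper2BGa
import Cfsg.Agent.Lib.Helper2BGb
import Cfsg.Agent.Lib.Helper27BGa
import Cfsg.Agent.Lib.Helper70Hall
import Cfsg.Agent.S1405

/-!
Project 9, piece `cyccent` (B-G 10.11(c)).
-/

set_option autoImplicit false

namespace Cfsg.Agent.Lib.Helper15BGCyccent

open Cfsg Subgroup
open Cfsg.Agent.Lib.Helper30Trans Cfsg.Agent.Lib.Helper24BG Cfsg.Agent.Lib.Helper2BGDefs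
open Cfsg.Agent.Lib.Helper2BGa Cfsg.Agent.Lib.Helper2BGb Cfsg.Agent.Lib.Helper2KWa
open Cfsg.Agent.Lib.Helper3BGRankcent (rank_cent_of)
open Cfsg.Agent.Lib.Helper38BGTrans (signalizer)

variable {G : Type*} [Group G] [Finite G]

/-- piece `rankcent` (helper3) with piece `trans` (helper38) plugged in -/
theorem rank_cent (hG : IsMinSimpleOddOrder G) {M : Subgroup G} (hM : IsCoatom M) {K : Subgroup G}
    (hKM : K ≤ M) (hK : SigmaFree M K) :
    RankLE 1 ↥(K ⊓ centralizer (sigmaCore M : Set G)) :=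
  rank_cent_of (fun p q _ _ h A Q hA hQ hC =>
    let ⟨P, h1, h2, _, _, h5, _⟩ := signalizer hG h hA hQ hC
    ⟨P, h1, h2, h5⟩) hG hM hKM hK

/-- `W = M' ∩ C(M_σ)` is nilpotent. -/
theorem nilpotent_W (hG : IsMinSimpleOddOrder G) {M : Subgroup G} (hM : IsCoatom M) :
    Group.IsNilpotent ↥(⁅M, M⁆ ⊓ centralizer (sigmaCore M : Set G)) := by
  obtain ⟨-, -, hασ, -, hnil⟩ := Cfsg.Agent.S1405.result hG M hM
  set W := ⁅M, M⁆ ⊓ centralizer (sigmaCore M : Set G) with hW
  have hWM : W ≤ M := inf_le_left.trans (commutator_le_self M)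
  let N := piCore (alpha M) ↥M
  let T := (commutator ↥M).map (QuotientGroup.mk' N)
  have hmem : ∀ w : W, (QuotientGroup.mk' N).comp (Subgroup.inclusion hWM) w ∈ T := by
    intro w
    refine ⟨Subgroup.inclusion hWM w, ?_, rfl⟩
    have h1 : (w : G) ∈ ⁅M, M⁆ := w.2.1
    have h2 : ⁅M, M⁆ = (commutator ↥M).map M.subtype := by
      rw [commutator_def, map_commutator, ← MonoidHom.range_eq_map, M.range_subtype]
    rw [h2] at h1
    obtain ⟨y, hy, hyw⟩ := h1
    have : y = Subgroup.inclusion hWM w := Subtype.ext hyw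
    rw [← this]
    exact hy
  let f : W →* T := ((QuotientGroup.mk' N).comp (Subgroup.inclusion hWM)).codRestrict T hmem
  haveI : Group.IsNilpotent T := hnil
  refine Subgroup.isNilpotent_of_ker_le_center f ?_
  intro w hw
  rw [MonoidHom.mem_ker] at hw
  have h1 : (QuotientGroup.mk' N) (Subgroup.inclusion hWM w) = 1 := congrArg Subtype.val hw
  rw [QuotientGroup.mk'_apply, QuotientGroup.eq_one_iff] at h1
  have h2 : (w : G) ∈ sigmaCore M := hασ ⟨_, h1, rfl⟩
  rw [mem_center_iff]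
  intro v
  apply Subtype.ext
  exact (mem_centralizer_iff.mp v.2.2 w h2).symm

theorem cyclic_cent (hG : IsMinSimpleOddOrder G) {M : Subgroup G} (hM : IsCoatom M)
    {K : Subgroup G} (hKM : K ≤ M) (hK : SigmaFree M K) :
    IsCyclic ↥(K ⊓ centralizer (sigmaCore M : Set G) ⊓ ⁅M, M⁆) ∧
      M ≤ normalizer ((K ⊓ centralizer (sigmaCore M : Set G) ⊓ ⁅M, M⁆ : Subgroup G) : Set G) := by
  have hWnil := nilpotent_W hG hM
  set W := ⁅M, M⁆ ⊓ centralizer (sigmaCore M : Set G) with hW
  have hWM : W ≤ M := inf_le_left.trans (commutator_le_self M)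
  haveI : Group.IsSolvable W := inferInstance
  obtain ⟨H, hH1, hH2, -⟩ := Cfsg.Agent.Lib.Helper70Hall.exists_hall_set (G := W) ((sigma M)ᶜ)
  set D := H.map W.subtype with hD
  have hDW : D ≤ W := map_subtype_le H
  have hcardD : Nat.card D = Nat.card H := card_map_of_injective W.subtype_injective
  have hrel : D.relIndex W = H.index := by
    rw [relIndex, hD, subgroupOf, comap_map_eq_self_of_injective W.subtype_injective]
  have hHall : ∀ p : ℕ, p.Prime → p ∣ Nat.card D → ¬ p ∣ D.relIndex W := by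
    intro p hp h1 h2
    rw [hcardD] at h1
    rw [hrel] at h2
    exact hH2 p hp h2 (hH1 p hp h1)
  have hDM : D ≤ M := hDW.trans hWM
  have hDfree : SigmaFree M D := by
    intro r hr hrd
    rw [hcardD] at hrd
    exact hH1 r hr hrd
  have hDC : D ⊓ centralizer (sigmaCore M : Set G) = D := inf_of_le_left (hDW.trans inf_le_right)
  have hDrank : RankLE 1 ↥D := by
    have := rank_cent hG hM hDM hDfree
    rwa [hDC] at this
  have hDnil : Group.IsNilpotent D := isNilpotent_of_le hWnil hDW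
  have hDZ : IsZGroup D := isZGroup_of_rank (odd_sub hG D) (fun p hp _ => hDrank p hp)
  have hDcyc : IsCyclic D := inferInstance
  -- M normalizes W, hence D
  have hMW : M ≤ normalizer (W : Set G) := by
    rw [le_normalizer_iff]
    intro m hm w hw
    refine mem_inf.mpr ⟨?_, ?_⟩
    · have h1 : cj m ⁅M, M⁆ = ⁅M, M⁆ := by
        have h0 : cj m ⁅M, M⁆ = ⁅cj m M, cj m M⁆ := map_commutator _ _ _
        rw [h0, cj_eq_self_of_mem hm]
      rw [← h1]
      exact ⟨w, hw.1, rfl⟩
    · rw [mem_centralizer_iff]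
      intro s hs
      have hs' : m⁻¹ * s * m⁻¹⁻¹ ∈ sigmaCore M :=
        (le_normalizer_iff.mp (le_normalizer_sigmaCore M)) m⁻¹ (M.inv_mem hm) s hs
      have h2 := mem_centralizer_iff.mp hw.2 _ hs'
      calc s * (m * w * m⁻¹) = m * ((m⁻¹ * s * m⁻¹⁻¹) * w) * m⁻¹ := by group
        _ = m * (w * (m⁻¹ * s * m⁻¹⁻¹)) * m⁻¹ := by rw [h2]
        _ = m * w * m⁻¹ * s := by group
  have hMD : M ≤ normalizer (D : Set G) := hMW.trans (normalizer_le_normalizer_hall hWnil hDW hHall)
  set Y := K ⊓ centralizer (sigmaCore M : Set G) ⊓ ⁅M, M⁆ with hY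
  have hYW : Y ≤ W := fun y hy => ⟨hy.2, hy.1.2⟩
  have hYD : Y ≤ D := by
    intro y hy
    refine mem_hall_of_nilpotent hWnil hDW hHall _ y rfl (hYW hy) ?_
    intro p hp hpd
    have h1 : p ∣ Nat.card K := by
      have : orderOf y ∣ Nat.card K := by
        have := orderOf_dvd_natCard (⟨y, hy.1.1⟩ : K)
        rwa [Subgroup.orderOf_mk] at this
      exact hpd.trans this
    have h2 : p ∉ sigma M := hK p hp h1
    have h3 : p ∣ Nat.card W := by
      have : orderOf y ∣ Nat.card W := by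
        have := orderOf_dvd_natCard (⟨y, hYW hy⟩ : W)
        rwa [Subgroup.orderOf_mk] at this
      exact hpd.trans this
    rw [← H.card_mul_index, ← hcardD] at h3
    rcases (Nat.Prime.dvd_mul hp).mp h3 with h | h
    · exact h
    · exact absurd h2 (hH2 p hp h)
  refine ⟨?_, hMD.trans (Cfsg.Agent.Lib.Helper27BGa.normalizer_le_of_cyclic hDcyc hYD)⟩
  exact Subgroup.isCyclic_of_le hYD

end Cfsg.Agent.Lib.Helper15BGCyccent
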