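import Mathlib
import Cfsg.Agent.Lib.Helper84BGFrobact
import Cfsg.Agent.Lib.Helper15BGCyccent
import Cfsg.Agent.Lib.Helper30SZ

/-!
Project 9, piece `commcyc` (B-G 10.11(d)).
-/

set_option autoImplicit false

namespace Cfsg.Agent.Lib.Helper15BGCommcyc

open Cfsg Subgroup
open scoped commutatorElement
open Cfsg.Agent.Lib.Helper30Trans Cfsg.Agent.Lib.Helper24BG Cfsg.Agent.Lib.Helper2BGDefs
open Cfsg.Agent.Lib.Helper2BGa Cfsg.Agent.Lib.Helper2BGb
open Cfsg.Agent.Lib.Helper84BGFrobact (frob_act)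
open Cfsg.Agent.Lib.Helper15BGCyccent (cyclic_cent)

/-- coprime action on an abelian group: `[K,R] ∩ C(R) = 1`. -/
theorem comm_inf_cent_eq_bot {G : Type*} [Group G] [Finite G] {K R : Subgroup G}
    (hKc : IsMulCommutative K) (hRK : R ≤ normalizer (K : Set G))
    (hcop : (Nat.card R).Coprime (Nat.card K)) : ⁅K, R⁆ ⊓ centralizer (R : Set G) = ⊥ := by
  classical
  letI : CommGroup K := { (inferInstance : Group K) with mul_comm := fun a b => mul_comm' a b }
  haveI : Fintype R := Fintype.ofFinite R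
  let φ : R →* MulAut K := K.normalizerMonoidHom.comp (Subgroup.inclusion hRK)
  have hφ : ∀ (y : R) (k : K), ((φ y k : K) : G) = y * k * (y : G)⁻¹ := fun y k => rfl
  let N : K →* K := ∏ y : R, (φ y).toMonoidHom
  have hN : ∀ k : K, N k = ∏ y : R, φ y k := by
    intro k
    simp only [N, MonoidHom.finsetProd_apply]
    rfl
  have hNinv : ∀ (z : R) (k : K), N (φ z k) = N k := by
    intro z k
    rw [hN, hN]
    refine Fintype.prod_equiv (Equiv.mulRight z) _ _ ?_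
    intro y
    simp only [Equiv.coe_mulRight, map_mul, MulAut.mul_apply]
  have hle : ⁅K, R⁆ ≤ N.ker.map K.subtype := by
    rw [commutator_le]
    intro k hk y hy
    refine ⟨⟨k, hk⟩ * (φ ⟨y, hy⟩ ⟨k, hk⟩)⁻¹, ?_, ?_⟩
    · rw [SetLike.mem_coe, MonoidHom.mem_ker, map_mul, map_inv, hNinv, mul_inv_cancel]
    · simp only [Subgroup.coe_subtype, Subgroup.coe_mul, Subgroup.coe_inv, hφ,
        commutatorElement_def]
      group
  rw [eq_bot_iff]
  intro x hx
  obtain ⟨⟨k, hk, rfl⟩, hxc⟩ := And.intro (hle hx.1) hx.2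
  rw [SetLike.mem_coe, MonoidHom.mem_ker, hN] at hk
  have hfix : ∀ y : R, φ y k = k := by
    intro y
    apply Subtype.ext
    rw [hφ]
    have := mem_centralizer_iff.mp hxc y y.2
    simp only [Subgroup.coe_subtype] at this
    rw [this, mul_inv_cancel_right]
  simp only [hfix, Finset.prod_const, Finset.card_univ] at hk
  rw [← Nat.card_eq_fintype_card] at hk
  have h2 : k ^ Nat.card K = 1 := pow_card_eq_one'
  have h3 := pow_gcd_eq_one.mpr ⟨hk, h2⟩
  rw [hcop.gcd_eq_one, pow_one] at h3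
  rw [mem_bot, h3]
  rfl

variable {G : Type*} [Group G] [Finite G]

theorem comm_cyclic (hG : IsMinSimpleOddOrder G) {M : Subgroup G} (hM : IsCoatom M) {p : ℕ}
    [Fact p.Prime] {K R : Subgroup G} (hKM : K ≤ M) (hK : SigmaFree M K) (hKc : IsMulCommutative K)
    (hKp : ¬ p ∣ Nat.card K) (hp : p ∉ sigma M) (hRM : R ≤ M) (hR : Nat.card R = p)
    (hRK : R ≤ normalizer (K : Set G)) (hreg : sigmaCore M ⊓ centralizer (R : Set G) = ⊥) :
    ⁅K, R⁆ ≤ centralizer (sigmaCore M : Set G) ∧ IsCyclic ↥⁅K, R⁆ ∧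
      M ≤ normalizer ((⁅K, R⁆ : Subgroup G) : Set G) := by
  have hpp : p.Prime := Fact.out
  have hK₀K : ⁅K, R⁆ ≤ K := Cfsg.Agent.Lib.Helper30SZ.commutator_le_of_le_normalizer hRK
  have hK₀M : ⁅K, R⁆ ≤ M := hK₀K.trans hKM
  have hK₀free : SigmaFree M ⁅K, R⁆ := fun r hr hrd => hK r hr (hrd.trans (card_dvd_of_le hK₀K))
  have hcopRK : (Nat.card R).Coprime (Nat.card K) := by
    rw [hR]; exact (Nat.Prime.coprime_iff_not_dvd hpp).mpr hKp
  have hregK : ⁅K, R⁆ ⊓ centralizer (R : Set G) = ⊥ := comm_inf_cent_eq_bot hKc hRK hcopRK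
  have hMne : M ≠ ⊤ := hM.1
  have hsolM : Group.IsSolvable M := sol hG hMne
  have hsolV : Group.IsSolvable (sigmaCore M) :=
    Cfsg.Agent.Lib.Helper30SZ.solvable_of_le hsolM (sigmaCore_le M)
  have hcop1 : (Nat.card ↥⁅K, R⁆).Coprime (Nat.card (sigmaCore M)) := by
    apply Nat.Coprime.symm
    apply Nat.coprime_of_dvd
    intro r hr h1 h2
    exact hK₀free r hr h2 (card_sigmaCore M r hr h1)
  have hcop2 : (Nat.card R).Coprime (Nat.card (sigmaCore M)) := by
    rw [hR, Nat.Prime.coprime_iff_not_dvd hpp]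
    intro h
    exact hp (card_sigmaCore M p hpp h)
  have hRK₀ : R ≤ normalizer ((⁅K, R⁆ : Subgroup G) : Set G) :=
    Cfsg.Agent.Lib.Helper30SZ.le_normalizer_commutator hRK le_normalizer
  have h1 : ⁅K, R⁆ ≤ centralizer (sigmaCore M : Set G) :=
    frob_act hsolV (hK₀M.trans (le_normalizer_sigmaCore M)) (hRM.trans (le_normalizer_sigmaCore M))
      hRK₀ (hR ▸ hpp) hcop1 hcop2 hregK hreg
  have h2 : ⁅K, R⁆ ≤ ⁅M, M⁆ := commutator_mono hKM hRM
  have h3 := cyclic_cent hG hM hK₀M hK₀free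
  have h4 : ⁅K, R⁆ ⊓ centralizer (sigmaCore M : Set G) ⊓ ⁅M, M⁆ = ⁅K, R⁆ := by
    rw [inf_of_le_left h1, inf_of_le_left h2]
  rw [h4] at h3
  exact ⟨h1, h3.1, h3.2⟩

end Cfsg.Agent.Lib.Helper15BGCommcyc
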