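import Mathlib

set_option autoImplicit false

namespace Cfsg.Agent.Lib.Helper79PGroup

variable {G : Type*} [Group G]

theorem comm_of_mem {A : Subgroup G} (hA : IsMulCommutative A) {x y : G} (hx : x ∈ A) (hy : y ∈ A) :
    x * y = y * x := by
  have := hA.is_comm.comm ⟨x, hx⟩ ⟨y, hy⟩
  simpa using congrArg Subtype.val this

/-- the commutator map `a ↦ a g a⁻¹ g⁻¹` on an abelian normal subgroup -/
def commMap (A : Subgroup G) [A.Normal] (hA : IsMulCommutative A) (g : G) : A →* G where
  toFun a := (a : G) * g * (a : G)⁻¹ * g⁻¹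
  map_one' := by simp
  map_mul' a b := by
    have h1 : g * (a : G)⁻¹ * g⁻¹ ∈ A := ‹A.Normal›.conj_mem _ (A.inv_mem a.2) g
    have h2 : (b : G) * g * (b : G)⁻¹ * g⁻¹ ∈ A := by
      have : g * (b : G)⁻¹ * g⁻¹ ∈ A := ‹A.Normal›.conj_mem _ (A.inv_mem b.2) g
      have := A.mul_mem b.2 this
      simpa [mul_assoc] using this
    have h3 := comm_of_mem hA h2 h1
    simp only [Subgroup.coe_mul, mul_inv_rev]
    calc (a : G) * b * g * ((b : G)⁻¹ * (a : G)⁻¹) * g⁻¹
        = a * ((b * g * (b : G)⁻¹ * g⁻¹) * (g * (a : G)⁻¹ * g⁻¹)) := by group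
      _ = a * ((g * (a : G)⁻¹ * g⁻¹) * (b * g * (b : G)⁻¹ * g⁻¹)) := by rw [h3]
      _ = _ := by group

theorem commMap_apply (A : Subgroup G) [A.Normal] (hA : IsMulCommutative A) (g : G) (a : A) :
    commMap A hA g a = (a : G) * g * (a : G)⁻¹ * g⁻¹ := rfl

theorem commMap_range_le (A : Subgroup G) [A.Normal] (hA : IsMulCommutative A) (g : G) :
    (commMap A hA g).range ≤ A := by
  rintro _ ⟨a, rfl⟩
  have : g * (a : G)⁻¹ * g⁻¹ ∈ A := ‹A.Normal›.conj_mem _ (A.inv_mem a.2) g
  have := A.mul_mem a.2 this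
  simpa [mul_assoc, commMap_apply] using this

theorem commMap_range_normal (A : Subgroup G) [A.Normal] (hA : IsMulCommutative A) (g : G)
    (hg : A ⊔ Subgroup.zpowers g = ⊤) : (commMap A hA g).range.Normal := by
  have hN : Subgroup.normalizer ((commMap A hA g).range : Set G) = ⊤ := by
    rw [eq_top_iff, ← hg, sup_le_iff]
    constructor
    · intro x hx
      rw [Subgroup.mem_normalizer_iff]
      intro y
      constructor
      · intro hy
        have hyA := commMap_range_le A hA g hy
        have : x * y * x⁻¹ = y := by rw [comm_of_mem hA hx hyA]; group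
        rwa [this]
      · intro hy
        have hyA := commMap_range_le A hA g hy
        have hyA' : y ∈ A := by
          have := ‹A.Normal›.conj_mem _ hyA x⁻¹
          simpa [mul_assoc] using this
        have : x * y * x⁻¹ = y := by rw [comm_of_mem hA hx hyA']; group
        rwa [this] at hy
    · rw [Subgroup.zpowers_le]
      rw [Subgroup.mem_normalizer_iff]
      intro y
      constructor
      · rintro ⟨a, rfl⟩
        refine ⟨⟨g * a * g⁻¹, ‹A.Normal›.conj_mem _ a.2 g⟩, ?_⟩
        simp only [commMap_apply]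
        group
      · rintro ⟨a, ha⟩
        refine ⟨⟨g⁻¹ * a * g, by simpa using ‹A.Normal›.conj_mem _ a.2 g⁻¹⟩, ?_⟩
        simp only [commMap_apply] at ha ⊢
        have : y = g⁻¹ * (g * y * g⁻¹) * g := by group
        rw [this, ← ha]
        group
  exact Subgroup.normalizer_eq_top_iff.mp hN

theorem commMap_range_eq (A : Subgroup G) [A.Normal] (hA : IsMulCommutative A) (g : G)
    (hg : A ⊔ Subgroup.zpowers g = ⊤) : (commMap A hA g).range = commutator G := by
  apply le_antisymm
  · rintro _ ⟨a, rfl⟩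
    rw [commMap_apply, commutator_eq_closure]
    exact Subgroup.subset_closure ⟨a, g, rfl⟩
  · have := commMap_range_normal A hA g hg
    rw [← Subgroup.Normal.quotient_commutative_iff_commutator_le]
    set I := (commMap A hA g).range with hI
    have hcl : Subgroup.closure ((QuotientGroup.mk' I) '' ((A : Set G) ∪ {g})) = ⊤ := by
      rw [← MonoidHom.map_closure, Subgroup.closure_union, Subgroup.closure_eq,
        ← Subgroup.zpowers_eq_closure, hg, ← MonoidHom.range_eq_map, MonoidHom.range_eq_top]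
      exact QuotientGroup.mk'_surjective I
    have hcomm : ∀ x ∈ ((QuotientGroup.mk' I) '' ((A : Set G) ∪ {g})),
        ∀ y ∈ ((QuotientGroup.mk' I) '' ((A : Set G) ∪ {g})), x * y = y * x := by
      have key : ∀ a ∈ A, (QuotientGroup.mk' I a) * (QuotientGroup.mk' I g) =
          (QuotientGroup.mk' I g) * (QuotientGroup.mk' I a) := by
        intro a ha
        rw [← map_mul, ← map_mul]
        simp only [QuotientGroup.mk'_apply]
        rw [QuotientGroup.eq]
        have h1 : commMap A hA g ⟨a, ha⟩ ∈ I := ⟨_, rfl⟩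
        have h2 := ‹I.Normal›.conj_mem _ (I.inv_mem h1) (a * g)⁻¹
        rw [commMap_apply] at h2
        convert h2 using 1
        group
      rintro _ ⟨x, hx, rfl⟩ _ ⟨y, hy, rfl⟩
      rcases hx with hx | hx <;> rcases hy with hy | hy
      · rw [← map_mul, ← map_mul, comm_of_mem hA hx hy]
      · rw [Set.mem_singleton_iff.mp hy]; exact key x hx
      · rw [Set.mem_singleton_iff.mp hx]; exact (key y hy).symm
      · rw [Set.mem_singleton_iff.mp hx, Set.mem_singleton_iff.mp hy]
    have := Subgroup.isMulCommutative_closure hcomm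
    rw [hcl] at this
    exact ⟨⟨fun x y => by
      have := this.is_comm.comm ⟨x, trivial⟩ ⟨y, trivial⟩
      simpa using congrArg Subtype.val this⟩⟩

theorem commMap_ker (A : Subgroup G) [A.Normal] (hA : IsMulCommutative A) (g : G)
    (hg : A ⊔ Subgroup.zpowers g = ⊤) :
    (commMap A hA g).ker = (Subgroup.center G).subgroupOf A := by
  ext a
  rw [MonoidHom.mem_ker, commMap_apply, Subgroup.mem_subgroupOf, Subgroup.mem_center_iff]
  constructor
  · intro h
    have hag : (a : G) * g = g * a := by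
      have : (a : G) * g * (a : G)⁻¹ * g⁻¹ * (g * a) = g * a := by rw [h, one_mul]
      rw [← this]; group
    have : Subgroup.centralizer ({(a : G)} : Set G) = ⊤ := by
      rw [eq_top_iff, ← hg, sup_le_iff]
      constructor
      · intro x hx
        rw [Subgroup.mem_centralizer_singleton_iff]
        exact comm_of_mem hA hx a.2
      · rw [Subgroup.zpowers_le, Subgroup.mem_centralizer_singleton_iff]
        exact hag.symm
    intro x
    have hx : x ∈ Subgroup.centralizer ({(a : G)} : Set G) := this ▸ Subgroup.mem_top x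
    rw [Subgroup.mem_centralizer_singleton_iff] at hx
    exact hx
  · intro h
    rw [← h g]; group

/-- If `A` is an abelian normal subgroup with `G = A⟨g⟩` then `|A| = |G'| |A ∩ Z(G)|`. -/
theorem card_eq_card_commutator_mul [Finite G] (A : Subgroup G) [A.Normal]
    (hA : IsMulCommutative A) (g : G) (hg : A ⊔ Subgroup.zpowers g = ⊤) :
    Nat.card A = Nat.card (commutator G) * Nat.card (A ⊓ Subgroup.center G : Subgroup G) := by
  rw [← (commMap A hA g).ker.card_mul_index, Subgroup.index_ker, commMap_range_eq A hA g hg,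
    commMap_ker A hA g hg, mul_comm]
  congr 1
  rw [inf_comm, ← Subgroup.inf_subgroupOf_right]
  exact Nat.card_congr (Subgroup.subgroupOfEquivOfLe inf_le_right).toEquiv

theorem sup_zpowers_eq_top_of_index_prime {H : Subgroup G} {p : ℕ} (hp : p.Prime) (hH : H.index = p)
    {g : G} (hg : g ∉ H) : H ⊔ Subgroup.zpowers g = ⊤ := by
  have hle : H ≤ H ⊔ Subgroup.zpowers g := le_sup_left
  have h := Subgroup.relIndex_mul_index hle
  rw [hH] at h
  have h1 : H.relIndex (H ⊔ Subgroup.zpowers g) ∣ p := ⟨_, h.symm⟩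
  rcases (Nat.dvd_prime hp).1 h1 with h2 | h2
  · exfalso
    rw [Subgroup.relIndex_eq_one] at h2
    exact hg (h2 (le_sup_right (a := H) (Subgroup.mem_zpowers g)))
  · rw [h2] at h
    have : (H ⊔ Subgroup.zpowers g).index = 1 := by
      have hp0 := hp.pos
      nlinarith [Nat.eq_of_mul_eq_mul_left hp0 (h.trans (mul_one p).symm)]
    exact Subgroup.index_eq_one.mp this

theorem exists_ne_one_mem_center_of_normal {p : ℕ} [Fact p.Prime] [Finite G] (hG : IsPGroup p G)
    (N : Subgroup G) [N.Normal] (hN : N ≠ ⊥) : ∃ b ∈ N, b ≠ 1 ∧ b ∈ Subgroup.center G := by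
  classical
  have h := (hG.of_equiv ConjAct.toConjAct).exists_fixed_point_of_prime_dvd_card_of_fixed_point
    (α := N)
  have hNG : IsPGroup p N := hG.to_subgroup N
  have dvd : p ∣ Nat.card N := by
    rcases hNG.card_eq_or_dvd with h1 | h1
    · exact absurd (Subgroup.card_eq_one.mp h1) hN
    · exact h1
  have h1 : (1 : N) ∈ MulAction.fixedPoints (ConjAct G) N := by
    intro g
    exact smul_one g
  obtain ⟨b, hb, hb1⟩ := h dvd h1
  refine ⟨b, b.2, fun h => hb1 (Subtype.ext h.symm), ?_⟩
  rw [Subgroup.mem_center_iff]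
  intro g
  have := hb (ConjAct.toConjAct g)
  have h2 := congrArg Subtype.val this
  rw [ConjAct.Subgroup.val_conj_smul, ConjAct.toConjAct_smul] at h2
  calc g * (b : G) = g * b * g⁻¹ * g := by group
    _ = b * g := by rw [h2]

theorem le_center_of_normal_of_card_eq_prime {p : ℕ} [Fact p.Prime] [Finite G] (hG : IsPGroup p G)
    (N : Subgroup G) [N.Normal] (hN : Nat.card N = p) : N ≤ Subgroup.center G := by
  have hp : p.Prime := Fact.out
  have hne : N ≠ ⊥ := by
    rintro rfl
    rw [Subgroup.card_bot] at hN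
    exact hp.one_lt.ne hN
  obtain ⟨b, hbN, hb1, hbZ⟩ := exists_ne_one_mem_center_of_normal hG N hne
  have hle : Subgroup.zpowers b ≤ N := by rwa [Subgroup.zpowers_le]
  have hcard : Nat.card (Subgroup.zpowers b) = p := by
    have h1 : Nat.card (Subgroup.zpowers b) ∣ p := hN ▸ Subgroup.card_dvd_of_le hle
    rcases (Nat.dvd_prime hp).1 h1 with h2 | h2
    · rw [Nat.card_zpowers, orderOf_eq_one_iff] at h2
      exact absurd h2 hb1
    · exact h2
  have : Subgroup.zpowers b = N := Subgroup.eq_of_le_of_card_ge hle (by rw [hcard, hN])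
  rw [← this, Subgroup.zpowers_le]
  exact hbZ

/-- the map `y ↦ y x y⁻¹ x⁻¹` when all these commutators are central -/
def commHom (x : G) (h : ∀ y : G, y * x * y⁻¹ * x⁻¹ ∈ Subgroup.center G) : G →* G where
  toFun y := y * x * y⁻¹ * x⁻¹
  map_one' := by simp
  map_mul' y z := by
    have h1 := Subgroup.mem_center_iff.mp (h z) y
    calc y * z * x * (y * z)⁻¹ * x⁻¹ = (y * (z * x * z⁻¹ * x⁻¹)) * x * y⁻¹ * x⁻¹ := by group
      _ = ((z * x * z⁻¹ * x⁻¹) * y) * x * y⁻¹ * x⁻¹ := by rw [h1]
      _ = (z * x * z⁻¹ * x⁻¹) * (y * x * y⁻¹ * x⁻¹) := by group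
      _ = (y * x * y⁻¹ * x⁻¹) * (z * x * z⁻¹ * x⁻¹) :=
        (Subgroup.mem_center_iff.mp (h z) _).symm

theorem commHom_apply (x : G) (h : ∀ y : G, y * x * y⁻¹ * x⁻¹ ∈ Subgroup.center G) (y : G) :
    commHom x h y = y * x * y⁻¹ * x⁻¹ := rfl

theorem commHom_ker (x : G) (h : ∀ y : G, y * x * y⁻¹ * x⁻¹ ∈ Subgroup.center G) :
    (commHom x h).ker = Subgroup.centralizer {x} := by
  ext y
  rw [MonoidHom.mem_ker, commHom_apply, Subgroup.mem_centralizer_singleton_iff]
  constructor
  · intro hy
    calc y * x = y * x * y⁻¹ * x⁻¹ * (x * y) := by group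
      _ = x * y := by rw [hy, one_mul]
  · intro hy
    rw [hy]; group

theorem commHom_range_le (x : G) (h : ∀ y : G, y * x * y⁻¹ * x⁻¹ ∈ Subgroup.center G) :
    (commHom x h).range ≤ commutator G := by
  rintro _ ⟨y, rfl⟩
  rw [commHom_apply, commutator_eq_closure]
  exact Subgroup.subset_closure ⟨y, x, rfl⟩

theorem normal_of_index_eq_prime {p : ℕ} [Fact p.Prime] [Finite G] (hG : IsPGroup p G)
    (H : Subgroup G) (hH : H.index = p) : H.Normal := by
  have hp : p.Prime := Fact.out
  apply Subgroup.normal_of_index_eq_minFac_card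
  obtain ⟨n, hn⟩ := IsPGroup.iff_card.mp hG
  have hn0 : n ≠ 0 := by
    rintro rfl
    have h1 : H.index ∣ Nat.card G := Subgroup.index_dvd_card H
    rw [hn, hH, pow_zero] at h1
    exact hp.one_lt.ne' (Nat.dvd_one.mp h1)
  rw [hH, hn, hp.pow_minFac hn0]

theorem mem_commutator (x y : G) : x * y * x⁻¹ * y⁻¹ ∈ commutator G := by
  rw [commutator_eq_closure]
  exact Subgroup.subset_closure ⟨x, y, rfl⟩

end Cfsg.Agent.Lib.Helper79PGroup
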