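import Mathlib
import Cfsg.Agent.Lib.Helper38BGTrans
import Cfsg.Agent.Lib.Helper79PGroup
import Cfsg.Agent.Lib.Helper55FF2
import Cfsg.Agent.S1412
import Cfsg.Agent.S1453

/-!
PROJECT 9, piece `nonab` (Bender-Glauberman 10.13).
-/

set_option autoImplicit false
set_option linter.unusedSectionVars false

namespace Cfsg.Agent.Lib.Helper38BGNonab

open Cfsg Subgroup
open Cfsg.Agent.Lib.Helper30Trans Cfsg.Agent.Lib.Helper24BG Cfsg.Agent.Lib.Helper2BGDefs
open Cfsg.Agent.Lib.Helper38BGTrans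

/-- rank at least three: the centralizer of a maximal elementary abelian subgroup of order `p^2`
is abelian -/
theorem cent_comm_of_rank3 {R : Type*} [Group R] [Finite R] {p : ℕ} [hpf : Fact p.Prime] (hp : p ≠ 2)
    (hR : IsPGroup p R) (hr : ¬ PRankLE p 2 R) (E : Subgroup R) (hE : MaxSq p E) :
    ∀ u ∈ centralizer (E : Set R), ∀ v ∈ centralizer (E : Set R), u * v = v * u := by
  obtain ⟨h1, h2, -, h4, h5⟩ := Cfsg.Agent.S1453.result p hp hR hr E hE.elem hE.card hE.max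
  set W := Subgroup.closure {x : R | x ∈ Subgroup.upperCentralSeries R 2 ∧ x ^ p = 1} with hW
  set T := centralizer (W : Set R) with hT
  set Z := Subgroup.closure {x : R | x ∈ center R ∧ x ^ p = 1} with hZ
  have hcomm := hE.elem.1
  have hEC : E ≤ centralizer (E : Set R) := by
    intro a ha
    rw [mem_centralizer_iff]
    intro b hb
    exact setLike_mul_comm hb ha
  have hZE : Z ≤ E := by
    rw [hZ, closure_le]
    rintro x ⟨hx1, hx2⟩
    apply MaxSq.mem_of_cent hE _ hx2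
    rw [mem_centralizer_iff]
    intro b _
    exact (mem_center_iff.mp hx1 b)
  have hZT : Z ≤ T := by
    rw [hZ, closure_le]
    rintro x ⟨hx1, -⟩
    show x ∈ centralizer (W : Set R)
    rw [mem_centralizer_iff]
    intro b _
    exact (mem_center_iff.mp hx1 b)
  obtain ⟨a, haE, haT⟩ := SetLike.not_le_iff_exists.mp h1
  have hET : E ⊓ T = Z := by
    by_contra hne
    have hlt : ¬ (E ⊓ T ≤ Z) := fun h => hne (le_antisymm h (le_inf hZE hZT))
    obtain ⟨s, hs, hsZ⟩ := SetLike.not_le_iff_exists.mp hlt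
    have := Cfsg.Agent.Lib.Helper3NarrowAut.eq_of_lt_of_card hpf.out h2 hE.card (le_inf hZE hZT)
      inf_le_left hs hsZ
    have h7 : a ∈ E ⊓ T := by rw [this]; exact haE
    exact haT h7.2
  set D := T ⊓ centralizer (E : Set R) with hD
  have hrank : PRankLE p 1 ↥D := by
    intro B _ hBp
    have hle : B.map D.subtype ≤ Z := by
      rintro _ ⟨y, hy, rfl⟩
      rw [← hET]
      refine ⟨MaxSq.mem_of_cent hE y.2.2 ?_, y.2.1⟩
      exact congrArg Subtype.val (hBp y hy)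
    have h6 := Nat.le_of_dvd Nat.card_pos (card_dvd_of_le hle)
    rw [card_map_of_injective D.subtype_injective, h2] at h6
    simpa using h6
  have hDc : IsCyclic D := Cfsg.Agent.Lib.Helper2BGa.isCyclic_of_prank_one hp (hR.to_subgroup D) hrank
  have hTn : T.Normal := inferInstance
  have htop := Cfsg.Agent.Lib.Helper79PGroup.sup_zpowers_eq_top_of_index_prime hpf.out h5 haT
  have hdec : ∀ u ∈ centralizer (E : Set R), ∃ t ∈ D, ∃ s ∈ E, u = t * s := by
    intro u hu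
    have hu' : u ∈ ((T ⊔ zpowers a : Subgroup R) : Set R) := by rw [htop]; exact mem_top u
    rw [normal_mul] at hu'
    obtain ⟨t, ht, s, hs, rfl⟩ := Set.mem_mul.mp hu'
    have hsE : s ∈ E := (zpowers_le.mpr haE) hs
    refine ⟨t, ⟨ht, ?_⟩, s, hsE, rfl⟩
    have : t = (t * s) * s⁻¹ := by group
    rw [this]
    exact (centralizer (E : Set R)).mul_mem hu ((centralizer (E : Set R)).inv_mem (hEC hsE))
  intro u hu v hv
  obtain ⟨t, ht, s, hs, rfl⟩ := hdec u hu
  obtain ⟨t', ht', s', hs', rfl⟩ := hdec v hv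
  have c1 : t * t' = t' * t := by
    have := hDc.commGroup.mul_comm ⟨t, ht⟩ ⟨t', ht'⟩
    exact congrArg Subtype.val this
  have c2 : s * s' = s' * s := setLike_mul_comm hs hs'
  have c3 : s * t' = t' * s := (mem_centralizer_iff.mp ht'.2) s hs
  have c4 : s' * t = t * s' := (mem_centralizer_iff.mp ht.2) s' hs'
  calc t * s * (t' * s') = t * (s * t') * s' := by group
    _ = t * (t' * s) * s' := by rw [c3]
    _ = (t * t') * (s * s') := by group
    _ = (t' * t) * (s' * s) := by rw [c1, c2]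
    _ = t' * (t * s') * s := by group
    _ = t' * (s' * t) * s := by rw [c4]
    _ = t' * s' * (t * s) := by group

variable {G : Type*} [Group G] [Finite G]

/-- the centralizer in a Sylow subgroup of `A ∈ E_p^2 ∩ E*_p` is abelian -/
theorem cent_comm (hG : IsMinSimpleOddOrder G) {p : ℕ} [hpf : Fact p.Prime] {A S : Subgroup G}
    (hA : MaxSq p A) (hS : IsSyl p S ⊤) (hAS : A ≤ S) :
    ∀ u ∈ S ⊓ centralizer (A : Set G), ∀ v ∈ S ⊓ centralizer (A : Set G), u * v = v * u := by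
  have hA1 : A ≠ ⊥ := by
    intro h
    have := hA.card
    rw [h, card_bot] at this
    have h2 := hpf.out.two_le
    nlinarith
  have hp2 : p ≠ 2 := ne_two hG (isPGroup_of_elemAb hA.elem) hA1
  have hcomm := hA.elem.1
  by_cases hr : PRankLE p 2 ↥S
  · rcases Cfsg.Agent.S1412.result hG p hS.toSylowTop hr with hc | ⟨P₁, P₂, hsup, hc12, -, -, hexp, hcyc, hcl⟩
    · intro u hu v hv
      have hc' : IsMulCommutative S := hc
      exact setLike_mul_comm hu.1 hv.1
    · have hsup' : P₁ ⊔ P₂ = S := hsup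
      have hP1p : ∀ a ∈ P₁, a ^ p = 1 := by
        intro a ha
        have := Monoid.pow_exponent_eq_one (⟨a, ha⟩ : P₁)
        rw [hexp] at this
        exact congrArg Subtype.val this
      have hAP1 : A ≤ P₁ := by
        intro e he
        have heS : e ∈ P₁ ⊔ P₂ := hsup' ▸ hAS he
        obtain ⟨a, ha, b, hb, rfl⟩ := Cfsg.Agent.Lib.Helper3NarrowAut.mem_sup_of_commute hc12 heS
        have h1 := hA.elem.2 _ he
        rw [(show Commute a b from hc12 a ha b hb).mul_pow, hP1p a ha, one_mul] at h1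
        have h2 : b ∈ closure {x : G | x ∈ P₂ ∧ x ^ p = 1} := subset_closure ⟨hb, h1⟩
        rw [hcl] at h2
        exact mul_mem ha h2.1
      have hdec : ∀ u ∈ S ⊓ centralizer (A : Set G), ∃ a ∈ A, ∃ b ∈ P₂, u = a * b := by
        intro u hu
        have huS : u ∈ P₁ ⊔ P₂ := hsup' ▸ hu.1
        obtain ⟨a, ha, b, hb, rfl⟩ := Cfsg.Agent.Lib.Helper3NarrowAut.mem_sup_of_commute hc12 huS
        refine ⟨a, ?_, b, hb, rfl⟩
        apply MaxSq.mem_of_cent hA _ (hP1p a ha)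
        have hbC : b ∈ centralizer (A : Set G) := by
          rw [mem_centralizer_iff]
          intro e he
          exact hc12 e (hAP1 he) b hb
        have : a = (a * b) * b⁻¹ := by group
        rw [this]
        exact (centralizer (A : Set G)).mul_mem hu.2 ((centralizer (A : Set G)).inv_mem hbC)
      intro u hu v hv
      obtain ⟨t, ht, s, hs, rfl⟩ := hdec u hu
      obtain ⟨t', ht', s', hs', rfl⟩ := hdec v hv
      have c1 : t * t' = t' * t := setLike_mul_comm ht ht'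
      have c2 : s * s' = s' * s := by
        have := hcyc.commGroup.mul_comm ⟨s, hs⟩ ⟨s', hs'⟩
        exact congrArg Subtype.val this
      have c3 : s * t' = t' * s := (hc12 t' (hAP1 ht') s hs).symm
      have c4 : s' * t = t * s' := (hc12 t (hAP1 ht) s' hs').symm
      calc t * s * (t' * s') = t * (s * t') * s' := by group
        _ = t * (t' * s) * s' := by rw [c3]
        _ = (t * t') * (s * s') := by group
        _ = (t' * t) * (s' * s) := by rw [c1, c2]
        _ = t' * (t * s') * s := by group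
        _ = t' * (s' * t) * s := by rw [c4]
        _ = t' * s' * (t * s) := by group
  · have hE : MaxSq p (A.subgroupOf S) := by
      refine ⟨⟨?_, ?_⟩, ?_, ?_⟩
      · refine ⟨⟨fun x y => Subtype.ext (Subtype.ext ?_)⟩⟩
        exact setLike_mul_comm (mem_subgroupOf.mp x.2) (mem_subgroupOf.mp y.2)
      · intro a ha
        exact Subtype.ext (hA.elem.2 a (mem_subgroupOf.mp ha))
      · rw [Cfsg.Agent.Lib.Helper30SZ.card_subgroupOf_of_le hAS, hA.card]
      · intro B hB hle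
        have hB' : IsElementaryAbelian p (B.map S.subtype) := by
          have := hB.1
          refine ⟨inferInstance, ?_⟩
          rintro _ ⟨b, hb, rfl⟩
          exact congrArg Subtype.val (hB.2 b hb)
        have hAB : A ≤ B.map S.subtype := by
          intro a ha
          exact ⟨⟨a, hAS ha⟩, hle (mem_subgroupOf.mpr ha), rfl⟩
        have h3 := hA.max _ hB' hAB
        ext x
        rw [mem_subgroupOf, ← h3]
        constructor
        · intro hx
          exact ⟨x, hx, rfl⟩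
        · rintro ⟨y, hy, hyx⟩
          have : y = x := Subtype.ext hyx
          exact this ▸ hy
    have key := cent_comm_of_rank3 hp2 hS.2.1 hr _ hE
    have hmem : ∀ u (hu : u ∈ S ⊓ centralizer (A : Set G)),
        (⟨u, hu.1⟩ : S) ∈ centralizer ((A.subgroupOf S : Subgroup S) : Set S) := by
      intro u hu
      rw [mem_centralizer_iff]
      intro b hb
      exact Subtype.ext ((mem_centralizer_iff.mp hu.2) b (mem_subgroupOf.mp hb))
    intro u hu v hv
    exact congrArg Subtype.val (key _ (hmem u hu) _ (hmem v hv))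

/-- the commutator map `a ↦ x a x⁻¹ a⁻¹` on an abelian subgroup normalized by `x` -/
def phi (A : Subgroup G) (hA : IsMulCommutative A) (x : G) (hx : x ∈ normalizer (A : Set G)) :
    A →* G where
  toFun a := x * (a : G) * x⁻¹ * (a : G)⁻¹
  map_one' := by simp
  map_mul' a b := by
    have h1 : x * (b : G) * x⁻¹ ∈ A := (mem_normalizer_iff.mp hx _).mp b.2
    have h3 : (x * (b : G) * x⁻¹) * (a : G)⁻¹ = (a : G)⁻¹ * (x * (b : G) * x⁻¹) :=
      setLike_mul_comm h1 (A.inv_mem a.2)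
    have h4 : (b : G)⁻¹ * (a : G)⁻¹ = (a : G)⁻¹ * (b : G)⁻¹ :=
      setLike_mul_comm (A.inv_mem b.2) (A.inv_mem a.2)
    simp only [Subgroup.coe_mul, mul_inv_rev]
    calc x * ((a : G) * b) * x⁻¹ * ((b : G)⁻¹ * (a : G)⁻¹)
        = x * a * x⁻¹ * ((x * b * x⁻¹) * (a : G)⁻¹) * (b : G)⁻¹ := by rw [h4]; group
      _ = x * a * x⁻¹ * ((a : G)⁻¹ * (x * b * x⁻¹)) * (b : G)⁻¹ := by rw [h3]
      _ = _ := by group

/-- two subgroups of order `p` with a common nontrivial element are equal -/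
theorem eq_of_common {p : ℕ} [hpf : Fact p.Prime] {B C : Subgroup G} (hB : Nat.card B = p)
    (hC : Nat.card C = p) {y : G} (hyB : y ∈ B) (hyC : y ∈ C) (hy : y ≠ 1) : B = C := by
  have h1 : B ≤ C := by
    by_contra h
    have h2 := Cfsg.Agent.Lib.Helper55FF.inf_eq_bot_of_card_prime hB h
    have h3 : y ∈ B ⊓ C := ⟨hyB, hyC⟩
    rw [h2, mem_bot] at h3
    exact hy h3
  exact eq_of_le_of_card_ge h1 (by rw [hB, hC])

/-- `Z₀ = Ω₁(Z(P))`. -/
theorem nonab_structure (hG : IsMinSimpleOddOrder G) {p : ℕ} [hpf : Fact p.Prime] {A P : Subgroup G}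
    (hA : MaxSq p A) (hP : IsPGroup p P) (hAP : A ≤ P) (hnc : ¬ IsMulCommutative P) :
    ∃ Z₀ : Subgroup G, Z₀ ≤ A ∧ Nat.card Z₀ = p ∧
      (∀ x : G, x ∈ Z₀ ↔ x ∈ P ∧ x ∈ centralizer (P : Set G) ∧ x ^ p = 1) ∧
      ∀ A₁ A₂ : Subgroup G, A₁ ≤ A → A₂ ≤ A → Nat.card A₁ = p → Nat.card A₂ = p → A₁ ≠ Z₀ → A₂ ≠ Z₀ →
        ∃ x ∈ P ⊓ normalizer (A : Set G), cj x A₁ = A₂ := by
  have hpp : p.Prime := hpf.out
  have hcomm := hA.elem.1
  have hAC : A ≤ centralizer (A : Set G) := by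
    intro a ha
    rw [mem_centralizer_iff]
    intro b hb
    exact setLike_mul_comm hb ha
  -- `A` is not central in `P`
  have hkey : ¬ P ≤ centralizer (A : Set G) := by
    intro hPC
    obtain ⟨S, hS, hPS⟩ := exists_isSyl_ge (le_top : P ≤ ⊤) hP
    have h1 := cent_comm hG hA hS (hAP.trans hPS)
    apply hnc
    refine ⟨⟨fun x y => Subtype.ext ?_⟩⟩
    exact h1 x ⟨hPS x.2, hPC x.2⟩ y ⟨hPS y.2, hPC y.2⟩
  -- the subgroup `Z₀`
  let Z₀ : Subgroup G :=
    { carrier := {x | x ∈ P ∧ x ∈ centralizer (P : Set G) ∧ x ^ p = 1}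
      mul_mem' := by
        rintro a b ⟨ha1, ha2, ha3⟩ ⟨hb1, hb2, hb3⟩
        refine ⟨P.mul_mem ha1 hb1, (centralizer (P : Set G)).mul_mem ha2 hb2, ?_⟩
        have hc : Commute a b := (mem_centralizer_iff.mp hb2) a ha1
        rw [hc.mul_pow, ha3, hb3, one_mul]
      one_mem' := ⟨P.one_mem, (centralizer (P : Set G)).one_mem, one_pow p⟩
      inv_mem' := by
        rintro a ⟨ha1, ha2, ha3⟩
        exact ⟨P.inv_mem ha1, (centralizer (P : Set G)).inv_mem ha2, by rw [inv_pow, ha3, inv_one]⟩ }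
  have hZmem : ∀ x : G, x ∈ Z₀ ↔ x ∈ P ∧ x ∈ centralizer (P : Set G) ∧ x ^ p = 1 := fun x => Iff.rfl
  have hZA : Z₀ ≤ A := by
    intro x hx
    exact MaxSq.mem_of_cent hA (centralizer_le hAP hx.2.1) hx.2.2
  have hP1 : P ≠ ⊥ := by
    rintro rfl
    apply hnc
    refine ⟨⟨fun x y => ?_⟩⟩
    have hx : x = 1 := Subtype.ext (mem_bot.mp x.2)
    rw [hx]; simp
  have hZ1 : Z₀ ≠ ⊥ := by
    have h1 := Cfsg.Agent.Lib.Helper54Parabolic.inf_centralizer_ne_bot hP hP hP1 le_normalizer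
    have h2 : IsPGroup p ↥(P ⊓ centralizer (P : Set G)) := hP.to_le inf_le_left
    have h3 : p ∣ Nat.card ↥(P ⊓ centralizer (P : Set G)) := by
      obtain ⟨n, hn⟩ := IsPGroup.iff_card.mp h2
      rw [hn]
      apply dvd_pow_self
      rintro rfl
      exact h1 (card_eq_one.mp (by simpa using hn))
    obtain ⟨y, hy⟩ := exists_prime_orderOf_dvd_card' p h3
    intro h0
    have h4 : (y : G) ∈ Z₀ := by
      refine ⟨y.2.1, y.2.2, ?_⟩
      have := pow_orderOf_eq_one y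
      rw [hy] at this
      exact congrArg Subtype.val this
    rw [h0, mem_bot] at h4
    have h5 : y = 1 := Subtype.ext h4
    rw [h5, orderOf_one] at hy
    exact hpp.one_lt.ne hy
  have hZne : Z₀ ≠ A := by
    intro h
    apply hkey
    rw [le_centralizer_iff]
    intro a ha
    exact ((h ▸ ha : a ∈ Z₀)).2.1
  have card_of : ∀ K : Subgroup G, K ≤ A → K ≠ ⊥ → K ≠ A → Nat.card K = p := by
    intro K hKA hK1 hKne
    have h1 : Nat.card K ∣ p ^ 2 := hA.card ▸ card_dvd_of_le hKA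
    obtain ⟨i, hi, hi2⟩ := (Nat.dvd_prime_pow hpp).mp h1
    interval_cases i
    · exact absurd (card_eq_one.mp (by simpa using hi2)) hK1
    · simpa using hi2
    · exact absurd (eq_of_le_of_card_ge hKA (by rw [hi2, hA.card])) hKne
  have hZc : Nat.card Z₀ = p := card_of Z₀ hZA hZ1 hZne
  refine ⟨Z₀, hZA, hZc, hZmem, ?_⟩
  -- an element of `N_P(A)` not centralizing `A`
  set C := P ⊓ centralizer (A : Set G) with hC
  have hClt : C < P := lt_of_le_of_ne inf_le_left (fun h => hkey (h ▸ inf_le_right))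
  have hlt := exists_lt_normalizer hP hClt
  obtain ⟨x, hx, hxC⟩ := SetLike.exists_of_lt hlt
  have hNA : P ⊓ normalizer (C : Set G) ≤ normalizer (A : Set G) := by
    rw [le_normalizer_iff]
    intro y hy a ha
    have h1 : y * a * y⁻¹ ∈ C := (mem_normalizer_iff.mp hy.2 a).mp ⟨hAP ha, hAC ha⟩
    apply MaxSq.mem_of_cent hA h1.2
    rw [conj_pow, hA.elem.2 a ha]; group
  have hxN : x ∈ normalizer (A : Set G) := hNA hx
  have hxA : x ∉ centralizer (A : Set G) := fun h => hxC ⟨hx.1, h⟩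
  -- `C_A(x) = Z₀`
  have hcx : ∀ a ∈ A, x * a = a * x → a ∈ Z₀ := by
    let K : Subgroup G := A ⊓ centralizer ({x} : Set G)
    have hZK : Z₀ ≤ K := by
      intro z hz
      refine ⟨hZA hz, ?_⟩
      show z ∈ centralizer ({x} : Set G)
      rw [mem_centralizer_iff]
      intro y hy
      rw [Set.mem_singleton_iff] at hy
      subst hy
      exact (mem_centralizer_iff.mp hz.2.1) y hx.1
    have hKne : K ≠ A := by
      intro h
      apply hxA
      rw [mem_centralizer_iff]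
      intro a ha
      have h1 : a ∈ K := h ▸ ha
      exact ((mem_centralizer_iff.mp h1.2) x rfl).symm
    have hKZ : K = Z₀ := by
      have hKc := card_of K inf_le_left (fun h => hZ1 (eq_bot_iff.mpr (h ▸ hZK))) hKne
      exact (eq_of_le_of_card_ge hZK (by rw [hKc, hZc])).symm
    intro a ha hxa
    rw [← hKZ]
    refine ⟨ha, ?_⟩
    show a ∈ centralizer ({x} : Set G)
    rw [mem_centralizer_iff]
    intro y hy
    rw [Set.mem_singleton_iff] at hy
    subst hy
    exact hxa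
  have hxz : ∀ z ∈ Z₀, x * z = z * x := by
    intro z hz
    exact (mem_centralizer_iff.mp hz.2.1) x hx.1
  -- the image of the commutator map
  set φ := phi A hcomm x hxN with hφ
  have hφdef : ∀ a : A, φ a = x * (a : G) * x⁻¹ * (a : G)⁻¹ := fun a => rfl
  have hφA : ∀ a : A, φ a ∈ A := by
    intro a
    exact A.mul_mem ((mem_normalizer_iff.mp hxN _).mp a.2) (A.inv_mem a.2)
  have hker : ∀ a : A, a ∈ φ.ker ↔ (a : G) ∈ Z₀ := by
    intro a
    rw [MonoidHom.mem_ker, hφdef]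
    constructor
    · intro h
      apply hcx a a.2
      calc x * (a : G) = (x * a * x⁻¹ * (a : G)⁻¹) * (a * x) := by group
        _ = a * x := by rw [h, one_mul]
    · intro h
      have h1 := hxz a h
      calc x * (a : G) * x⁻¹ * (a : G)⁻¹ = (x * a) * x⁻¹ * (a : G)⁻¹ := by group
        _ = (a * x) * x⁻¹ * (a : G)⁻¹ := by rw [h1]
        _ = 1 := by group
  have hkerc : Nat.card φ.ker = p := by
    have h1 : φ.ker = Z₀.subgroupOf A := by
      ext a
      rw [hker, mem_subgroupOf]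
    rw [h1, Cfsg.Agent.Lib.Helper30SZ.card_subgroupOf_of_le hZA, hZc]
  have hYc : Nat.card φ.range = p := by
    have h1 := φ.ker.card_mul_index
    rw [index_ker, hkerc, hA.card, sq] at h1
    exact Nat.eq_of_mul_eq_mul_left hpp.pos h1
  have hXY : zpowers x ≤ normalizer ((φ.range : Subgroup G) : Set G) := by
    rw [le_normalizer_iff]
    rintro y hy _ ⟨a, rfl⟩
    have hyN : y ∈ normalizer (A : Set G) := (zpowers_le.mpr hxN) hy
    have hya : y * (a : G) * y⁻¹ ∈ A := (mem_normalizer_iff.mp hyN _).mp a.2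
    refine ⟨⟨_, hya⟩, ?_⟩
    rw [hφdef, hφdef]
    obtain ⟨k, rfl⟩ := mem_zpowers_iff.mp hy
    have hc : Commute x (x ^ k) := (Commute.refl x).zpow_right k
    have hc' : Commute x⁻¹ (x ^ k) := hc.inv_left
    show x * (x ^ k * (a : G) * (x ^ k)⁻¹) * x⁻¹ * (x ^ k * (a : G) * (x ^ k)⁻¹)⁻¹ = _
    calc x * (x ^ k * (a : G) * (x ^ k)⁻¹) * x⁻¹ * (x ^ k * (a : G) * (x ^ k)⁻¹)⁻¹
        = (x * x ^ k) * a * ((x ^ k)⁻¹ * x⁻¹ * x ^ k) * (a : G)⁻¹ * (x ^ k)⁻¹ := by group
      _ = (x ^ k * x) * a * ((x ^ k)⁻¹ * (x ^ k * x⁻¹)) * (a : G)⁻¹ * (x ^ k)⁻¹ := by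
          rw [hc.eq, mul_assoc (x ^ k)⁻¹, hc'.eq]
      _ = _ := by group
  have hXp : IsPGroup p (zpowers x) := hP.to_le (zpowers_le.mpr hx.1)
  have hXC := Cfsg.Agent.Lib.Helper55FF.le_centralizer_of_card_prime hXp hYc hXY
  have hφZ : ∀ a : A, φ a ∈ Z₀ := by
    intro a
    apply hcx _ (hφA a)
    exact ((mem_centralizer_iff.mp (hXC (mem_zpowers x))) (φ a) ⟨a, rfl⟩).symm
  -- conjugation by powers of `x`
  have hpow : ∀ (b : G) (hb : b ∈ A) (n : ℕ), x ^ n * b * (x ^ n)⁻¹ = (φ ⟨b, hb⟩) ^ n * b := by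
    intro b hb n
    induction n with
    | zero => simp
    | succ n ih =>
      have h1 : x * (φ ⟨b, hb⟩) ^ n = (φ ⟨b, hb⟩) ^ n * x :=
        ((show Commute x (φ ⟨b, hb⟩) from hxz _ (hφZ _)).pow_right n).eq
      have h2 : x * b * x⁻¹ = φ ⟨b, hb⟩ * b := by rw [hφdef]; group
      calc x ^ (n + 1) * b * (x ^ (n + 1))⁻¹ = x * (x ^ n * b * (x ^ n)⁻¹) * x⁻¹ := by
            rw [pow_succ']; group
        _ = x * ((φ ⟨b, hb⟩) ^ n * b) * x⁻¹ := by rw [ih]
        _ = (x * (φ ⟨b, hb⟩) ^ n) * b * x⁻¹ := by group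
        _ = ((φ ⟨b, hb⟩) ^ n * x) * b * x⁻¹ := by rw [h1]
        _ = (φ ⟨b, hb⟩) ^ n * (x * b * x⁻¹) := by group
        _ = (φ ⟨b, hb⟩) ^ n * (φ ⟨b, hb⟩ * b) := by rw [h2]
        _ = (φ ⟨b, hb⟩) ^ (n + 1) * b := by rw [pow_succ]; group
  intro A₁ A₂ hA₁ hA₂ hc₁ hc₂ hne₁ hne₂
  -- `A = A₁ Z₀`
  have hZA₁ : ¬ Z₀ ≤ A₁ := fun h => hne₁ (eq_of_le_of_card_ge h (by rw [hc₁, hZc])).symm
  obtain ⟨s, hsZ, hsA₁⟩ := SetLike.not_le_iff_exists.mp hZA₁
  have hsup : A₁ ⊔ Z₀ = A := Cfsg.Agent.Lib.Helper3NarrowAut.eq_of_lt_of_card hpp hc₁ hA.card le_sup_left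
    (sup_le hA₁ hZA) ((le_sup_right : Z₀ ≤ A₁ ⊔ Z₀) hsZ) hsA₁
  -- a generator of `A₂`
  have hA₂1 : A₂ ≠ ⊥ := Cfsg.Agent.Lib.Helper55FF.ne_bot_of_card_prime hc₂
  obtain ⟨a₂, ha₂, ha₂1⟩ := exists_ne_one_of_ne_bot' hA₂1
  have ha₂' : a₂ ∈ A₁ ⊔ Z₀ := hsup ▸ hA₂ ha₂
  obtain ⟨b, hb, z', hz', hbz⟩ := Cfsg.Agent.Lib.Helper3NarrowAut.mem_sup_of_commute
    (fun a ha c hc => setLike_mul_comm (hA₁ ha) (hZA hc)) ha₂'
  have hbZ : b ∉ Z₀ := by
    intro h
    have h1 : a₂ ∈ Z₀ := hbz ▸ Z₀.mul_mem h hz'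
    exact hne₂ (eq_of_common hc₂ hZc ha₂ h1 ha₂1)
  have hbA : b ∈ A := hA₁ hb
  have hc1 : φ ⟨b, hbA⟩ ≠ 1 := by
    intro h
    exact hbZ ((hker ⟨b, hbA⟩).mp (MonoidHom.mem_ker.mpr h))
  have hgen : zpowers (φ ⟨b, hbA⟩) = Z₀ := by
    rcases Cfsg.Agent.Lib.Helper55FF.eq_bot_or_eq_of_le_card_prime hZc
      (zpowers_le.mpr (hφZ ⟨b, hbA⟩)) with h | h
    · exact absurd (zpowers_eq_bot.mp h) hc1
    · exact h
  have hz'' : z' ∈ zpowers (φ ⟨b, hbA⟩) := hgen ▸ hz'
  obtain ⟨n, hn⟩ := (mem_powers_iff_mem_zpowers (x := φ ⟨b, hbA⟩) (y := z')).mpr hz''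
  refine ⟨x ^ n, (P ⊓ normalizer (A : Set G)).pow_mem ⟨hx.1, hxN⟩ n, ?_⟩
  apply eq_of_common (y := a₂) (by rw [card_cj, hc₁]) hc₂ _ ha₂ ha₂1
  have h3 : a₂ = x ^ n * b * (x ^ n)⁻¹ := by
    rw [hpow b hbA n, hbz]
    have : (φ ⟨b, hbA⟩) ^ n = z' := hn
    rw [this]
    exact setLike_mul_comm hbA (hZA hz')
  rw [h3]
  exact conj_mem_cj hb

end Cfsg.Agent.Lib.Helper38BGNonab
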