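import Mathlib
import Cfsg.Agent.Lib.Helper2BGDefs
import Cfsg.Agent.Lib.Helper2BGb
import Cfsg.Agent.Lib.Helper24BG
import Cfsg.Agent.S1408
import Cfsg.Agent.S1409

/-!
PROJECT 9, piece `excbasic`: routine API for `Exc`, `σ(M)`, `M_σ` and conjugation.
-/

set_option autoImplicit false

namespace Cfsg.Agent.Lib.Helper21BGExcbasic

open Cfsg Subgroup
open Cfsg.Agent.Lib.Helper30Trans Cfsg.Agent.Lib.Helper24BG Cfsg.Agent.Lib.Helper2BGDefs
open Cfsg.Agent.Lib.Helper2BGa Cfsg.Agent.Lib.Helper2BGb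

variable {G : Type*} [Group G] [Finite G]

theorem Exc.tau2 (hG : IsMinSimpleOddOrder G) {M : Subgroup G} (hM : IsCoatom M) {p : ℕ}
    [hp : Fact p.Prime] {A₀ A : Subgroup G} (h : Exc M p A₀ A) : p ∈ tau2 M := by
  obtain ⟨⟨h1, h2⟩, -, -⟩ := Cfsg.Agent.S1409.result hG M hM p h.notσ A₀ h.card₀ h.norm
  exact ⟨hp.out, h.notσ, h1, h2⟩

theorem maxSq_of_tau2 (hG : IsMinSimpleOddOrder G) {M : Subgroup G} (hM : IsCoatom M) {p : ℕ}
    [Fact p.Prime] (hp : p ∈ tau2 M) {A : Subgroup G} (hAM : A ≤ M) (hAe : IsElementaryAbelian p A)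
    (hA2 : Nat.card A = p ^ 2) : MaxSq p A :=
  ⟨hAe, hA2, (Cfsg.Agent.S1408.result hG M hM p hp.2.1 hp.2.2.1 hp.2.2.2).2 A hAM hAe hA2⟩

theorem normalizer_cj' (g : G) (H : Subgroup G) :
    normalizer ((cj g H : Subgroup G) : Set G) = cj g (normalizer (H : Set G)) :=
  Cfsg.Agent.Lib.Helper14Sylow.normalizer_cj g H

theorem cj_ne_bot {H : Subgroup G} (h : H ≠ ⊥) (g : G) : cj g H ≠ ⊥ := by
  intro h'
  apply h
  have := congrArg (cj g⁻¹) h'
  rw [cj_inv_cj] at this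
  rw [this]
  exact Subgroup.map_bot _

theorem sigma_cj_le (M : Subgroup G) (g : G) : sigma M ⊆ sigma (cj g M) := by
  intro p hp
  have hpp : Fact p.Prime := ⟨hp.1⟩
  obtain ⟨-, hd, P₀, hP₀⟩ := hp
  have hS := isSyl_of_sylow P₀
  have h1 : (P₀ : Subgroup M).map M.subtype ≠ ⊥ := by
    intro h
    have h2 : Nat.card ((P₀ : Subgroup M).map M.subtype) = Nat.card (P₀ : Subgroup M) :=
      card_map_of_injective M.subtype_injective
    rw [h, card_bot] at h2
    have h3 := P₀.dvd_card_of_dvd_card hd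
    rw [← h2] at h3
    exact hpp.out.one_lt.ne' (Nat.dvd_one.mp h3)
  refine mem_sigma_of_norm (isSyl_cj hS g) (cj_ne_bot h1 g) ?_
  rw [normalizer_cj']
  exact cj_mono hP₀

theorem sigma_cj (M : Subgroup G) (g : G) : sigma (cj g M) = sigma M := by
  apply Set.Subset.antisymm
  · have := sigma_cj_le (cj g M) g⁻¹
    rwa [cj_inv_cj] at this
  · exact sigma_cj_le M g

theorem cj_piCoreOf_le (π : Set ℕ) (M : Subgroup G) (g : G) :
    cj g (piCoreOf π M) ≤ piCoreOf π (cj g M) := by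
  apply le_piCoreOf (cj_mono (piCoreOf_le π M))
  · rw [normalizer_cj']
    exact cj_mono (le_normalizer_piCoreOf π M)
  · rw [card_cj]
    exact card_piCoreOf π M

theorem piCoreOf_cj (π : Set ℕ) (M : Subgroup G) (g : G) :
    piCoreOf π (cj g M) = cj g (piCoreOf π M) := by
  apply le_antisymm
  · have := cj_piCoreOf_le π (cj g M) g⁻¹
    rw [cj_inv_cj] at this
    have h2 := cj_mono (k := g) this
    rwa [cj_cj_inv] at h2
  · exact cj_piCoreOf_le π M g

theorem sigmaCore_cj (M : Subgroup G) (g : G) : sigmaCore (cj g M) = cj g (sigmaCore M) := by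
  show piCoreOf (sigma (cj g M)) (cj g M) = cj g (piCoreOf (sigma M) M)
  rw [sigma_cj, piCoreOf_cj]

theorem Exc.cj {M : Subgroup G} {p : ℕ} {A₀ A : Subgroup G} (h : Exc M p A₀ A) (g : G) :
    Exc (cj g M) p (cj g A₀) (cj g A) where
  notσ := by rw [sigma_cj]; exact h.notσ
  le := cj_mono h.le
  elem := elemAb_cj h.elem g
  card := by rw [card_cj]; exact h.card
  le₀ := cj_mono h.le₀
  card₀ := by rw [card_cj]; exact h.card₀
  norm := by rw [normalizer_cj']; exact cj_mono h.norm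

/-- `p ∉ σ(M)`, `p ∣ |M|`: no Sylow `p`-subgroup of `M` has its normalizer in `M`. -/
theorem exists_norm_not_mem {M : Subgroup G} {p : ℕ} [Fact p.Prime] (hp : p ∉ sigma M)
    {P : Subgroup G} (hP : IsSyl p P M) (hP1 : P ≠ ⊥) : ∃ g ∈ normalizer (P : Set G), g ∉ M := by
  by_contra hcon
  push Not at hcon
  exact hp (mem_sigma_of_norm hP hP1 hcon)

/-- `q ∈ σ(M)`: every Sylow `q`-subgroup of `M` has its normalizer in `M`, is Sylow in `G`
and lies in `M_σ`. -/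
theorem sigma_sylow (hG : IsMinSimpleOddOrder G) {M : Subgroup G} (hM : IsCoatom M) {q : ℕ}
    [Fact q.Prime] (hq : q ∈ sigma M) {Q : Subgroup G} (hQ : IsSyl q Q M) :
    normalizer (Q : Set G) ≤ M ∧ IsSyl q Q ⊤ ∧ Q ≤ sigmaCore M :=
  ⟨sigma_norm hq hQ, sigma_syl_top hq hQ, pgroup_le_sigmaCore hG hM hq hQ.1 hQ.2.1⟩

end Cfsg.Agent.Lib.Helper21BGExcbasic
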