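import Mathlib
import Cfsg.Agent.Lib.Helper21BGExcbasic
import Cfsg.Agent.Lib.Helper38BGTrans
import Cfsg.Agent.S1392
import Cfsg.Agent.S0025

/-!
PROJECT 9, piece `excTI` (B-G 11.1, 11.2), in the form `exc_TI_core`, where the transitivity
hypothesis for `A` (piece `trans`) is an explicit hypothesis.
-/

set_option autoImplicit false

namespace Cfsg.Agent.Lib.Helper21BGExcTI

open Cfsg Subgroup
open Cfsg.Agent.Lib.Helper30Trans Cfsg.Agent.Lib.Helper24BG Cfsg.Agent.Lib.Helper2BGDefs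
open Cfsg.Agent.Lib.Helper2BGa Cfsg.Agent.Lib.Helper2BGb Cfsg.Agent.Lib.Helper21BGExcbasic

variable {G : Type*} [Group G] [Finite G]

/-- an `A`-invariant Sylow `q`-subgroup of `M_σ` above a given `A`-invariant `q`-subgroup;
it is a Sylow subgroup of `M` and of `G`, and a maximal `A`-invariant `q`-subgroup of `G`. -/
theorem exists_inv_sylow (hG : IsMinSimpleOddOrder G) {M : Subgroup G} (hM : IsCoatom M) {p q : ℕ}
    [Fact p.Prime] [Fact q.Prime] (hp : p ∉ sigma M) (hq : q ∈ sigma M) {A Q₀ : Subgroup G}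
    (hAM : A ≤ M) (hA : IsPGroup p A) (hQ₀M : Q₀ ≤ M) (hQ₀ : IsPGroup q Q₀)
    (hAQ₀ : A ≤ normalizer (Q₀ : Set G)) :
    ∃ Q : Subgroup G, Q₀ ≤ Q ∧ IsSyl q Q M ∧ Q ∈ maxInvSubgroups ⊤ A {q} := by
  have hcop : (Nat.card A).Coprime (Nat.card (sigmaCore M)) := by
    obtain ⟨k, hk⟩ := IsPGroup.iff_card.mp hA
    rw [hk]
    apply Nat.Coprime.pow_left
    rw [Nat.Prime.coprime_iff_not_dvd Fact.out]
    intro hd
    exact hp (card_sigmaCore M p Fact.out hd)
  have hsolv : Group.IsSolvable A := by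
    have := hA.isNilpotent
    infer_instance
  obtain ⟨P, hP1, hP2⟩ := Cfsg.Agent.S0025.result A (sigmaCore M)
    (hAM.trans (le_normalizer_sigmaCore M)) hcop (Or.inl hsolv) q Q₀
    (pgroup_le_sigmaCore hG hM hq hQ₀M hQ₀) hQ₀ hAQ₀
  have hS := isSyl_of_sylow P
  set Q := (P : Subgroup (sigmaCore M)).map (sigmaCore M).subtype with hQdef
  obtain ⟨R, hR, hQR⟩ := exists_isSyl_ge (hS.1.trans (sigmaCore_le M)) hS.2.1
  have hRQ : R = Q := hS.2.2 R (sigma_sylow hG hM hq hR).2.2 hR.2.1 hQR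
  rw [hRQ] at hR
  refine ⟨Q, hP1, hR, mem_inv_of_isPGroup le_top hR.2.1 hP2, ?_⟩
  intro R' hR' hle
  exact (sigma_sylow hG hM hq hR).2.1.2.2 R' le_top (isPGroup_of_mem_inv hR') hle

theorem exc_TI_core (hG : IsMinSimpleOddOrder G) {M : Subgroup G} (hM : IsCoatom M) {p : ℕ}
    [Fact p.Prime] {A₀ A : Subgroup G} (h : Exc M p A₀ A) (hT : TransitivityHypothesis A) {g : G}
    (hg : g ∉ M) (hAg : A ≤ cj g M) :
    sigmaCore M ⊓ cj g M = ⊥ ∧ sigmaCore M ⊓ centralizer (cj g A₀ : Set G) = ⊥ := by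
  have hAp : IsPGroup p A := isPGroup_of_elemAb h.elem
  have key : sigmaCore M ⊓ cj g M = ⊥ := by
    by_contra hne
    set D := sigmaCore M ⊓ cj g M with hD
    have hDM : D ≤ M := inf_le_left.trans (sigmaCore_le M)
    have hcard : Nat.card D ≠ 1 := fun h1 => hne (card_eq_one.mp h1)
    obtain ⟨q, hq, hqD⟩ := Nat.exists_prime_and_dvd hcard
    have hqF : Fact q.Prime := ⟨hq⟩
    have hqσ : q ∈ sigma M :=
      card_sigmaCore M q hq (hqD.trans (card_dvd_of_le inf_le_left))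
    have hAD : A ≤ normalizer (D : Set G) := by
      have h1 : A ≤ normalizer (sigmaCore M : Set G) := h.le.trans (le_normalizer_sigmaCore M)
      have h2 : A ≤ normalizer ((cj g M : Subgroup G) : Set G) := hAg.trans le_normalizer
      intro a ha
      have h1a := h1 ha
      have h2a := h2 ha
      rw [mem_normalizer_iff] at h1a h2a ⊢
      intro x
      rw [hD, mem_inf, mem_inf, ← h1a x, ← h2a x]
    have hcop : (Nat.card A).Coprime (Nat.card D) := by
      rw [h.card]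
      apply Nat.Coprime.pow_left
      rw [Nat.Prime.coprime_iff_not_dvd Fact.out]
      intro hd
      exact h.notσ (card_sigmaCore M p Fact.out (hd.trans (card_dvd_of_le inf_le_left)))
    have hsolv : Group.IsSolvable A := by
      have := hAp.isNilpotent
      infer_instance
    obtain ⟨P₀, -, hP₀⟩ := Cfsg.Agent.S0025.result A D hAD hcop (Or.inl hsolv) q ⊥ bot_le
      IsPGroup.of_bot (by
        have : (⊥ : Subgroup G).Normal := inferInstance
        rw [normalizer_eq_top_iff.mpr this]; exact le_top)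
    have hS₀ := isSyl_of_sylow P₀
    set Q₀ := (P₀ : Subgroup D).map D.subtype with hQ₀def
    have hQ₀ne : Q₀ ≠ ⊥ := by
      intro hb
      have h2 : Nat.card Q₀ = Nat.card (P₀ : Subgroup D) :=
        card_map_of_injective D.subtype_injective
      rw [hb, card_bot] at h2
      have h3 := P₀.dvd_card_of_dvd_card hqD
      rw [← h2] at h3
      exact hq.one_lt.ne' (Nat.dvd_one.mp h3)
    have hMg : IsCoatom (cj g M) := isCoatom_cj hM g
    obtain ⟨Q₁, hQ₀₁, hQ₁S, hQ₁m⟩ := exists_inv_sylow hG hM h.notσ hqσ h.le hAp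
      (hS₀.1.trans hDM) hS₀.2.1 hP₀
    obtain ⟨Q₂, hQ₀₂, hQ₂S, hQ₂m⟩ := exists_inv_sylow hG hMg (by rw [sigma_cj]; exact h.notσ)
      (by rw [sigma_cj]; exact hqσ) hAg hAp (hS₀.1.trans inf_le_right) hS₀.2.1 hP₀
    have hQ₀top : Q₀ ≠ ⊤ := by
      intro ht
      apply hM.1
      rw [eq_top_iff, ← ht]
      exact hS₀.1.trans hDM
    have hqA : ¬ q ∣ Nat.card A := by
      intro hd
      rw [h.card] at hd
      have := (Nat.prime_dvd_prime_iff_eq hq Fact.out).mp (hq.dvd_of_dvd_pow hd)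
      exact h.notσ (this ▸ hqσ)
    obtain ⟨k, hk, hQk⟩ := Cfsg.Agent.S1392.result hG A hT q hq hqA Q₁ Q₂ hQ₁m hQ₂m
      (normalizer (Q₀ : Set G)) (norm_ne_top hG hQ₀ne hQ₀top) hP₀
      (fun hb => hQ₀ne (le_bot_iff.mp (hb ▸ le_inf le_normalizer hQ₀₁)))
      (fun hb => hQ₀ne (le_bot_iff.mp (hb ▸ le_inf le_normalizer hQ₀₂)))
    have hkM : k ∈ M := by
      apply h.norm
      apply centralizer_le_normalizer
      exact centralizer_le h.le₀ (piCoreOf_le _ _ hk)
    have hQ₂M : IsSyl q Q₂ M := by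
      have h1 := isSyl_cj hQ₁S k
      rw [cj_eq_self_of_mem hkM] at h1
      rw [hQk]
      exact h1
    -- `Q₃ = g⁻¹ Q₂ g` is another Sylow subgroup of `M`
    have hQ₃ : IsSyl q (cj g⁻¹ Q₂) M := by
      have h1 := isSyl_cj hQ₂S g⁻¹
      rwa [cj_inv_cj] at h1
    obtain ⟨m, hm, hmQ⟩ := isSyl_conj hQ₂M hQ₃
    rw [← cj_mul] at hmQ
    have hmem : m * g⁻¹ ∈ normalizer (Q₂ : Set G) := by
      rw [Cfsg.Agent.Lib.Helper14Sylow.mem_normalizer_iff_cj]
      exact hmQ
    have h3 : m * g⁻¹ ∈ M := (sigma_sylow hG hM hqσ hQ₂M).1 hmem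
    apply hg
    have h4 : g⁻¹ ∈ M := by
      have := M.mul_mem (M.inv_mem hm) h3
      simpa using this
    simpa using M.inv_mem h4
  refine ⟨key, ?_⟩
  rw [eq_bot_iff, ← key]
  apply inf_le_inf_left
  calc centralizer (cj g A₀ : Set G) ≤ normalizer ((cj g A₀ : Subgroup G) : Set G) :=
        centralizer_le_normalizer _
    _ = cj g (normalizer (A₀ : Set G)) := normalizer_cj' g A₀
    _ ≤ cj g M := cj_mono h.norm

/-- the exact skeleton statement (appended by helper14: `transHyp` is landed). -/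
theorem exc_TI (hG : IsMinSimpleOddOrder G) {M : Subgroup G} (hM : IsCoatom M) {p : ℕ}
    [Fact p.Prime] {A₀ A : Subgroup G} (h : Exc M p A₀ A) {g : G} (hg : g ∉ M)
    (hAg : A ≤ cj g M) :
    sigmaCore M ⊓ cj g M = ⊥ ∧ sigmaCore M ⊓ centralizer (cj g A₀ : Set G) = ⊥ :=
  exc_TI_core hG hM h
    (Cfsg.Agent.Lib.Helper38BGTrans.transHyp hG
      (maxSq_of_tau2 hG hM (Exc.tau2 hG hM h) h.le h.elem h.card)) hg hAg

end Cfsg.Agent.Lib.Helper21BGExcTI
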