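import Mathlib
import Cfsg.Agent.Lib.Helper2BGDefs
import Cfsg.Agent.Lib.Helper24BG
import Cfsg.Agent.Lib.Helper24BG2
import Cfsg.Agent.Lib.Helper2BGa
import Cfsg.Agent.Lib.Helper2BGb
import Cfsg.Agent.S1403

/-!
Bender-Glauberman 10.12 (project 9, piece `disjoint`).
-/

set_option autoImplicit false

namespace Cfsg.Agent.Lib.Helper5BGDisjoint

open Cfsg Subgroup
open Cfsg.Agent.Lib.Helper30Trans Cfsg.Agent.Lib.Helper24BG Cfsg.Agent.Lib.Helper2BGDefs
open Cfsg.Agent.Lib.Helper24BG2 Cfsg.Agent.Lib.Helper2BGa Cfsg.Agent.Lib.Helper2BGb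

variable {G : Type*} [Group G] [Finite G]

/-- a common prime of `σ(M)` and `σ(H)`: the normalizer of a Sylow subgroup of `M` lies in a
conjugate of `H`. -/
theorem norm_le_cj {M H : Subgroup G} {r : ℕ} [Fact r.Prime] (hrM : r ∈ sigma M)
    (hrH : r ∈ sigma H) {S : Subgroup G} (hS : IsSyl r S M) :
    ∃ g : G, normalizer (S : Set G) ≤ cj g H := by
  obtain ⟨T, hT, -⟩ := exists_isSyl_ge (p := r) (bot_le : (⊥ : Subgroup G) ≤ H) IsPGroup.of_bot
  obtain ⟨x, -, hx⟩ := isSyl_conj (sigma_syl_top hrM hS) (sigma_syl_top hrH hT)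
  refine ⟨x, ?_⟩
  rw [← hx, Cfsg.Agent.Lib.Helper14Sylow.normalizer_cj]
  exact cj_mono (sigma_norm hrH hT)

theorem conj_absurd {M H : Subgroup G} (hconj : ∀ g : G, cj g M ≠ H) {g : G} (h : cj g H = M) :
    False := by
  apply hconj g⁻¹
  rw [← h, cj_inv_cj]

theorem eq_bot_of_primes {X Y : Subgroup G}
    (h : ∀ r : ℕ, r.Prime → r ∣ Nat.card X → r ∣ Nat.card Y → False) : X ⊓ Y = ⊥ := by
  by_contra hne
  have h1 : Nat.card (X ⊓ Y : Subgroup G) ≠ 1 := fun hc => hne (card_eq_one.mp hc)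
  obtain ⟨r, hr, hd⟩ := Nat.exists_prime_and_dvd h1
  exact h r hr (hd.trans (card_dvd_of_le inf_le_left)) (hd.trans (card_dvd_of_le inf_le_right))

theorem alpha_not_sigma (hG : IsMinSimpleOddOrder G) {M H : Subgroup G} (hM : IsCoatom M)
    (hH : IsCoatom H) (hconj : ∀ g : G, cj g M ≠ H) : ∀ r : ℕ, r ∈ alpha M → r ∉ sigma H := by
  intro r hrα hrH
  have hrM := alpha_subset_sigma hG hM hrα
  have hrp : r.Prime := hrα.1
  have := Fact.mk hrp
  obtain ⟨B, hBM, hB, hc⟩ := exists_elemAb hrα.2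
  obtain ⟨S, hS, hBS⟩ := exists_isSyl_ge hBM (isPGroup_of_elemAb hB)
  obtain ⟨g, hg⟩ := norm_le_cj hrM hrH hS
  have hc1 : r ^ 1 < Nat.card B := lt_of_le_of_lt (Nat.pow_le_pow_right hrp.pos (by norm_num)) hc
  have hU : InUniqueMaximal S :=
    Cfsg.Agent.S1403.result hG S (pgroup_ne_top hG hS.2.1) (not_rankLE_of_elemAb hrp hBS hB hc1)
      (Or.inl (not_rankLE_of_elemAb hrp hBS hB hc))
  obtain ⟨L, -, hu⟩ := hU
  have h1 : M = L := hu M ⟨hM, hS.1⟩
  have h2 : cj g H = L := hu _ ⟨isCoatom_cj hH g, le_normalizer.trans hg⟩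
  exact conj_absurd hconj (h2.trans h1.symm)

theorem sigma_not_sigma (hG : IsMinSimpleOddOrder G) {M H : Subgroup G} (hM : IsCoatom M)
    (hH : IsCoatom H) (hconj : ∀ g : G, cj g M ≠ H) (hnil : Group.IsNilpotent (sigmaCore M)) :
    ∀ r : ℕ, r ∈ sigma M → r ∉ sigma H := by
  intro r hrM hrH
  have hrp : r.Prime := hrM.1
  have := Fact.mk hrp
  obtain ⟨S, hS, -⟩ := exists_isSyl_ge (p := r) (bot_le : (⊥ : Subgroup G) ≤ M) IsPGroup.of_bot
  obtain ⟨g, hg⟩ := norm_le_cj hrM hrH hS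
  have hSσ : S ≤ sigmaCore M := pgroup_le_sigmaCore hG hM hrM hS.1 hS.2.1
  have hSs : IsSyl r S (sigmaCore M) := hS.mono hSσ (sigmaCore_le M)
  have hN : normalizer (sigmaCore M : Set G) ≤ normalizer (S : Set G) := by
    refine normalizer_le_normalizer_hall hnil hSσ ?_
    intro p hp hd
    obtain ⟨k, hk⟩ := IsPGroup.iff_card.mp hS.2.1
    rw [hk] at hd
    rw [(Nat.prime_dvd_prime_iff_eq hp hrp).mp (hp.dvd_of_dvd_pow hd)]
    exact Cfsg.Agent.Lib.Helper2BGa.IsSyl.not_dvd_relIndex hSs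
  have hle : M ≤ cj g H := (le_normalizer_sigmaCore M).trans (hN.trans hg)
  rcases eq_or_lt_of_le hle with h | h
  · exact conj_absurd hconj h.symm
  · exact (isCoatom_cj hH g).1 (hM.2 _ h)

/-- B-G 10.12. -/
theorem sigma_disjoint (hG : IsMinSimpleOddOrder G) {M H : Subgroup G} (hM : IsCoatom M)
    (hH : IsCoatom H) (hconj : ∀ g : G, cj g M ≠ H) :
    (∀ r : ℕ, r ∈ alpha M → r ∉ sigma H) ∧ alphaCore M ⊓ sigmaCore H = ⊥ ∧
      (Group.IsNilpotent (sigmaCore M) →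
        (∀ r : ℕ, r ∈ sigma M → r ∉ sigma H) ∧ sigmaCore M ⊓ sigmaCore H = ⊥) := by
  refine ⟨alpha_not_sigma hG hM hH hconj, ?_, fun hnil =>
    ⟨sigma_not_sigma hG hM hH hconj hnil, ?_⟩⟩
  · refine eq_bot_of_primes (fun r hr h1 h2 => ?_)
    exact alpha_not_sigma hG hM hH hconj r (card_piCoreOf _ _ r hr h1) (card_sigmaCore H r hr h2)
  · refine eq_bot_of_primes (fun r hr h1 h2 => ?_)
    exact sigma_not_sigma hG hM hH hconj hnil r (card_sigmaCore M r hr h1) (card_sigmaCore H r hr h2)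

end Cfsg.Agent.Lib.Helper5BGDisjoint
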