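import Mathlib
import Cfsg.Agent.Lib.Helper21BGExcbasic
import Cfsg.Agent.Lib.Helper21BGExcTI
import Cfsg.Agent.Lib.Helper5BGDisjoint
import Cfsg.Agent.Lib.Helper2BGa
import Cfsg.Agent.Lib.Helper2BGb
import Cfsg.Agent.Lib.Helper24BG2
import Cfsg.Agent.S0033

/-!
PROJECT 9, piece `excnil` (Bender-Glauberman 11.3, 11.4).
-/

set_option autoImplicit false
set_option linter.unusedSectionVars false

namespace Cfsg.Agent.Lib.Helper92BGExcnil

open Cfsg Subgroup
open Cfsg.Agent.Lib.Helper30Trans Cfsg.Agent.Lib.Helper24BG Cfsg.Agent.Lib.Helper2BGDefs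
open Cfsg.Agent.Lib.Helper2BGa Cfsg.Agent.Lib.Helper2BGb
open Cfsg.Agent.Lib.Helper21BGExcbasic Cfsg.Agent.Lib.Helper21BGExcTI Cfsg.Agent.Lib.Helper5BGDisjoint

variable {G : Type*} [Group G] [Finite G]

/-- Thompson's theorem, ambient form. -/
theorem nilpotent_of_fpf {p : ℕ} (hp : p.Prime) {N : Subgroup G} {c : G}
    (hcN : c ∈ normalizer (N : Set G)) (hc : c ^ p = 1)
    (hf : N ⊓ centralizer ({c} : Set G) = ⊥) : Group.IsNilpotent N := by
  by_cases hNbot : N = ⊥
  · subst hNbot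
    infer_instance
  let φ : N ≃* N := N.normalizerMonoidHom ⟨c, hcN⟩
  have hφ : ∀ x : N, ((φ x : N) : G) = c * x * c⁻¹ := fun x => rfl
  have hfpf : MonoidHom.FixedPointFree (φ : N →* N) := by
    intro x hx
    apply Subtype.ext
    have h1 : c * x * c⁻¹ = x := congrArg Subtype.val hx
    have h2 : (x : G) ∈ N ⊓ centralizer ({c} : Set G) := by
      refine mem_inf.mpr ⟨x.2, ?_⟩
      rw [mem_centralizer_singleton_iff]
      calc (x : G) * c = (c * x * c⁻¹) * c := by rw [h1]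
        _ = c * x := by group
    rw [hf, mem_bot] at h2
    exact h2
  have hφp : φ ^ p = 1 := by
    have : (⟨c, hcN⟩ : Subgroup.normalizer (N : Set G)) ^ p = 1 := Subtype.ext (by simpa using hc)
    show (N.normalizerMonoidHom ⟨c, hcN⟩) ^ p = 1
    rw [← map_pow, this, map_one]
  have hφ1 : φ ≠ 1 := by
    intro h1
    apply hNbot
    rw [eq_bot_iff]
    intro x hx
    have := hfpf ⟨x, hx⟩ (by
      show φ ⟨x, hx⟩ = ⟨x, hx⟩
      rw [h1]; rfl)
    rw [Subgroup.mem_bot]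
    exact congrArg Subtype.val this
  have := Fact.mk hp
  have hord : orderOf φ = p := orderOf_eq_prime hφp hφ1
  exact Cfsg.Agent.S0033.result φ hfpf p hp hord

/-- a subgroup of prime order is generated by any of its non-identity elements -/
theorem eq_zpowers_of_card_prime {p : ℕ} [hp : Fact p.Prime] {B : Subgroup G} (hB : Nat.card B = p)
    {c : G} (hc : c ∈ B) (hc1 : c ≠ 1) : B = zpowers c := by
  symm
  apply Subgroup.eq_of_le_of_card_ge (zpowers_le.mpr hc)
  rw [hB, Nat.card_zpowers]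
  have h1 : orderOf c ∣ p := by
    have := orderOf_dvd_natCard (⟨c, hc⟩ : B)
    rwa [Subgroup.orderOf_mk, hB] at this
  rcases (Nat.dvd_prime hp.out).mp h1 with h | h
  · exact absurd (orderOf_eq_one_iff.mp h) hc1
  · exact h.ge

theorem exists_gen {p : ℕ} [hp : Fact p.Prime] {B : Subgroup G} (hB : Nat.card B = p) :
    ∃ c ∈ B, c ≠ 1 ∧ c ^ p = 1 ∧ B = zpowers c ∧
      centralizer (B : Set G) = centralizer ({c} : Set G) := by
  have hne : B ≠ ⊥ := by
    intro h
    rw [h, card_bot] at hB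
    exact hp.out.one_lt.ne hB
  obtain ⟨c, hc, hc1⟩ := exists_ne_one_of_ne_bot' hne
  have hz := eq_zpowers_of_card_prime hB hc hc1
  refine ⟨c, hc, hc1, ?_, hz, ?_⟩
  · have := pow_card_eq_one' (G := B) (x := ⟨c, hc⟩)
    rw [hB] at this
    exact congrArg Subtype.val this
  · rw [hz, zpowers_eq_closure, centralizer_closure]

theorem Exc.ne_bot {M : Subgroup G} {p : ℕ} [hp : Fact p.Prime] {A₀ A : Subgroup G}
    (h : Exc M p A₀ A) : A ≠ ⊥ := by
  intro h0
  have := h.card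
  rw [h0, card_bot] at this
  have h2 : 1 < p ^ 2 := Nat.one_lt_pow (by norm_num) hp.out.one_lt
  omega

/-- the basic configuration: a Sylow subgroup `P ≥ A` of `M` and `g ∈ N(P) ∖ M`. -/
theorem Exc.exists_syl {M : Subgroup G} {p : ℕ} [Fact p.Prime] {A₀ A : Subgroup G}
    (h : Exc M p A₀ A) : ∃ P : Subgroup G, IsSyl p P M ∧ A ≤ P ∧
      ∃ g ∈ normalizer (P : Set G), g ∉ M := by
  obtain ⟨P, hP, hAP⟩ := exists_isSyl_ge h.le (isPGroup_of_elemAb h.elem)
  have hP1 : P ≠ ⊥ := by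
    intro h0
    apply Exc.ne_bot h
    rw [eq_bot_iff, ← h0]
    exact hAP
  exact ⟨P, hP, hAP, exists_norm_not_mem h.notσ hP hP1⟩

theorem le_cj_of_norm {M P A : Subgroup G} (hPM : P ≤ M) (hAP : A ≤ P) {g : G}
    (hg : g ∈ normalizer (P : Set G)) : A ≤ cj g M := by
  calc A ≤ P := hAP
    _ = cj g P := (cj_eq_self_of_mem_normalizer hg).symm
    _ ≤ cj g M := cj_mono hPM

theorem exc_nilpotent (hG : IsMinSimpleOddOrder G) {M : Subgroup G} (hM : IsCoatom M) {p : ℕ}
    [hp : Fact p.Prime] {A₀ A : Subgroup G} (h : Exc M p A₀ A) :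
    Group.IsNilpotent (sigmaCore M) := by
  obtain ⟨P, hP, hAP, g, hgN, hgM⟩ := Exc.exists_syl h
  obtain ⟨-, hreg⟩ := exc_TI hG hM h hgM (le_cj_of_norm hP.1 hAP hgN)
  have hcard : Nat.card (cj g A₀) = p := by rw [card_cj, h.card₀]
  obtain ⟨c, hc, -, hcp, -, hcent⟩ := exists_gen hcard
  have hcM : c ∈ M := by
    apply hP.1
    rw [← cj_eq_self_of_mem_normalizer hgN]
    exact cj_mono (h.le₀.trans hAP) hc
  rw [hcent] at hreg
  exact nilpotent_of_fpf hp.out (le_normalizer_sigmaCore M hcM) hcp hreg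

theorem exc_uniq (hG : IsMinSimpleOddOrder G) {M : Subgroup G} (hM : IsCoatom M) {p : ℕ}
    [Fact p.Prime] {A₀ A : Subgroup G} (h : Exc M p A₀ A) {H : Subgroup G} (hH : IsCoatom H)
    (hAH : A ≤ H) (hne : sigmaCore H ⊓ sigmaCore M ≠ ⊥) : H = M := by
  by_contra hHM
  apply hne
  by_cases hconj : ∃ g : G, cj g M = H
  · obtain ⟨g, rfl⟩ := hconj
    have hgM : g ∉ M := fun hg => hHM (cj_eq_self_of_mem hg)
    obtain ⟨h1, -⟩ := exc_TI hG hM h hgM hAH
    rw [eq_bot_iff, ← h1, inf_comm]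
    exact inf_le_inf_left _ (sigmaCore_le _)
  · push Not at hconj
    have := ((sigma_disjoint hG hM hH hconj).2.2 (exc_nilpotent hG hM h)).2
    rw [inf_comm]
    exact this

end Cfsg.Agent.Lib.Helper92BGExcnil
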