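import Mathlib
import Cfsg.Agent.Lib.Helper38BGNonab
import Cfsg.Agent.Lib.Helper15BGCyccent
import Cfsg.Agent.Lib.Helper92BGExcnil
import Cfsg.Agent.Lib.Helper30Hyp
import Cfsg.Agent.Lib.Helper14Sylow
import Cfsg.Agent.Lib.Helper27BGa

/-!
PROJECT 9, piece `excab` (Bender-Glauberman 11.5, 11.6).
-/

set_option autoImplicit false
set_option linter.unusedSectionVars false

namespace Cfsg.Agent.Lib.Helper92BGExcab

open Cfsg Subgroup
open Cfsg.Agent.Lib.Helper30Trans Cfsg.Agent.Lib.Helper24BG Cfsg.Agent.Lib.Helper2BGDefs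
open Cfsg.Agent.Lib.Helper2BGa Cfsg.Agent.Lib.Helper2BGb
open Cfsg.Agent.Lib.Helper92BGExcnil
open Cfsg.Agent.Lib.Helper21BGExcbasic Cfsg.Agent.Lib.Helper21BGExcTI
open Cfsg.Agent.Lib.Helper38BGNonab Cfsg.Agent.Lib.Helper15BGCyccent
open scoped commutatorElement

variable {G : Type*} [Group G] [Finite G]

theorem conj_pow_eq_one_iff (g x : G) (n : ℕ) : (g⁻¹ * x * g) ^ n = 1 ↔ x ^ n = 1 := by
  have h : (g⁻¹ * x * g) ^ n = g⁻¹ * x ^ n * g := by
    have := conj_pow (a := g⁻¹) (b := x) (i := n)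
    rwa [inv_inv] at this
  rw [h]
  constructor
  · intro h1
    have : x ^ n = g * (g⁻¹ * x ^ n * g) * g⁻¹ := by group
    rw [this, h1]; group
  · intro h1
    rw [h1]; group

theorem not_dvd_sigmaCore {M : Subgroup G} {p : ℕ} [hp : Fact p.Prime] (h : p ∉ sigma M) :
    ¬ p ∣ Nat.card (sigmaCore M) := fun hd => h (card_sigmaCore M p hp.out hd)

theorem sigmaFree_of_pgroup {M P : Subgroup G} {p : ℕ} [hp : Fact p.Prime] (h : p ∉ sigma M)
    (hP : IsPGroup p P) : SigmaFree M P := by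
  intro r hr hrd
  obtain ⟨k, hk⟩ := IsPGroup.iff_card.mp hP
  rw [hk] at hrd
  have : r = p := (Nat.prime_dvd_prime_iff_eq hr hp.out).mp (hr.dvd_of_dvd_pow hrd)
  rw [this]
  exact h

/-- subgroups of index at most `p` in a group of order `p ^ 2` -/
theorem card_of_relIndex_le {p : ℕ} [hp : Fact p.Prime] {B C : Subgroup G} (hB : Nat.card B = p ^ 2)
    (hCB : C ≤ B) (hi : C.relIndex B ≤ p) : C = B ∨ Nat.card C = p := by
  have h1 : Nat.card C * C.relIndex B = Nat.card B :=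
    Cfsg.Agent.Lib.Helper27Core.card_mul_relIndex hCB
  rw [hB] at h1
  have h2 : Nat.card C ∣ p ^ 2 := Dvd.intro _ h1
  obtain ⟨k, hk, hkc⟩ := (Nat.dvd_prime_pow hp.out).mp h2
  have hp1 := hp.out.one_lt
  interval_cases k
  · exfalso
    rw [hkc, pow_zero, one_mul] at h1
    rw [h1] at hi
    nlinarith
  · right; simpa using hkc
  · left
    apply Subgroup.eq_of_le_of_card_ge hCB
    rw [hB, hkc]

theorem exc_abelian_aux (hG : IsMinSimpleOddOrder G) {M : Subgroup G} (hM : IsCoatom M) {p : ℕ}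
    [hp : Fact p.Prime] {A₀ A : Subgroup G} (h : Exc M p A₀ A) {P : Subgroup G} (hP : IsSyl p P M)
    (hAP : A ≤ P) : IsMulCommutative P := by
  by_contra hnc
  have hP1 : P ≠ ⊥ := by
    intro h0
    apply Exc.ne_bot h
    rw [eq_bot_iff, ← h0]
    exact hAP
  obtain ⟨g, hgN, hgM⟩ := exists_norm_not_mem h.notσ hP hP1
  have hcjP : cj g P = P := cj_eq_self_of_mem_normalizer hgN
  have hBP : cj g A ≤ P := by
    rw [← hcjP]; exact cj_mono hAP
  have hBe : IsElementaryAbelian p (cj g A) := elemAb_cj h.elem g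
  have hBc : Nat.card (cj g A) = p ^ 2 := by rw [card_cj, h.card]
  have hBmax : MaxSq p (cj g A) :=
    maxSq_of_tau2 hG hM (Exc.tau2 hG hM h) (hBP.trans hP.1) hBe hBc
  obtain ⟨Z₀, hZB, hZc, hZmem, htrans⟩ := nonab_structure hG hBmax hP.2.1 hBP hnc
  -- `g` normalizes `Z₀`
  have hgZ : cj g Z₀ = Z₀ := by
    ext x
    have hcC : cj g (centralizer (P : Set G)) = centralizer (P : Set G) := by
      have h2 : centralizer ((cj g P : Subgroup G) : Set G) = cj g (centralizer (P : Set G)) :=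
        Cfsg.Agent.Lib.Helper14Sylow.centralizer_cj g P
      rw [hcjP] at h2
      exact h2.symm
    rw [mem_cj, hZmem, hZmem, conj_pow_eq_one_iff, ← mem_cj, hcjP, ← mem_cj, hcC]
  have hA₁ : cj g A₀ ≠ Z₀ := by
    intro he
    have h1 : cj g A₀ = cj g Z₀ := he.trans hgZ.symm
    have h2 : A₀ = Z₀ := Cfsg.Agent.Lib.Helper14Sylow.cj_injective g h1
    apply hgM
    apply h.norm
    rw [Cfsg.Agent.Lib.Helper14Sylow.mem_normalizer_iff_cj, h2]
    exact hgZ
  -- the other subgroups of order `p` act regularly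
  have hreg : ∀ B₁ : Subgroup G, B₁ ≤ cj g A → Nat.card B₁ = p → B₁ ≠ Z₀ →
      sigmaCore M ⊓ centralizer (B₁ : Set G) = ⊥ := by
    intro B₁ hB₁ hc hne
    obtain ⟨x, hx, hxe⟩ := htrans (cj g A₀) B₁ (cj_mono h.le₀) hB₁ (by rw [card_cj, h.card₀]) hc
      hA₁ hne
    have hxP : x ∈ P := (mem_inf.mp hx).1
    have hxgN : x * g ∈ normalizer (P : Set G) := mul_mem (le_normalizer hxP) hgN
    have hxgM : x * g ∉ M := by
      intro hh
      apply hgM
      have := M.mul_mem (M.inv_mem (hP.1 hxP)) hh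
      simpa using this
    have := (exc_TI hG hM h hxgM (le_cj_of_norm hP.1 hAP hxgN)).2
    rwa [cj_mul, hxe] at this
  -- generation
  have hgen := Cfsg.Agent.Lib.Helper30Hyp.le_iSup_hyperplane_centralizers (A := cj g A)
    (X := sigmaCore M) hBe.1 hBe.2 (not_dvd_sigmaCore h.notσ)
    ((hBP.trans hP.1).trans (le_normalizer_sigmaCore M))
  have hcent : sigmaCore M ≤ centralizer (Z₀ : Set G) := by
    refine hgen.trans (iSup_le ?_)
    rintro ⟨C, hCB, hCi⟩
    by_cases hZC : Z₀ ≤ C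
    · exact inf_le_right.trans (centralizer_le hZC)
    · rcases card_of_relIndex_le hBc hCB hCi with h1 | h1
      · exact absurd (h1 ▸ hZB) hZC
      · have : C ≠ Z₀ := fun h2 => hZC h2.ge
        show sigmaCore M ⊓ centralizer (C : Set G) ≤ _
        rw [hreg C hCB h1 this]
        exact bot_le
  have hZcent : Z₀ ≤ centralizer (sigmaCore M : Set G) := le_centralizer_iff.mp hcent
  -- `Z₀ ≤ P'`
  have hP'1 : ⁅P, P⁆ ≠ ⊥ := by
    intro h0
    apply hnc
    refine ⟨⟨fun a b => ?_⟩⟩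
    apply Subtype.ext
    have h1 : ⁅(a : G), (b : G)⁆ ∈ ⁅P, P⁆ := commutator_mem_commutator a.2 b.2
    rw [h0, mem_bot] at h1
    exact commutatorElement_eq_one_iff_mul_comm.mp h1
  have hP'le : ⁅P, P⁆ ≤ P := commutator_le_self P
  have hP'p : IsPGroup p ↥⁅P, P⁆ := hP.2.1.to_le hP'le
  have hD1 : ⁅P, P⁆ ⊓ centralizer (P : Set G) ≠ ⊥ := by
    apply Cfsg.Agent.Lib.Helper27Term2.inf_centralizer_ne_bot hP.2.1 hP'p hP'1
    rw [le_normalizer_iff]
    intro a ha x hx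
    have h1 : cj a ⁅P, P⁆ = ⁅P, P⁆ := by
      have h2 : cj a ⁅P, P⁆ = ⁅cj a P, cj a P⁆ := map_commutator _ _ _
      rw [h2, cj_eq_self_of_mem ha]
    rw [← h1]
    exact conj_mem_cj hx
  have hDp : IsPGroup p ↥(⁅P, P⁆ ⊓ centralizer (P : Set G)) := hP'p.to_le inf_le_left
  have hZP' : Z₀ ≤ ⁅P, P⁆ := by
    have hdvd : p ∣ Nat.card ↥(⁅P, P⁆ ⊓ centralizer (P : Set G)) := by
      rcases hDp.card_eq_or_dvd with h1 | h1
      · exact absurd (Subgroup.card_eq_one.mp h1) hD1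
      · exact h1
    obtain ⟨z, hz⟩ := exists_prime_orderOf_dvd_card' p hdvd
    have hz1 : (z : G) ≠ 1 := by
      intro h1
      have : z = 1 := Subtype.ext h1
      rw [this, orderOf_one] at hz
      exact hp.out.one_lt.ne hz
    have hzp : (z : G) ^ p = 1 := by
      have := pow_orderOf_eq_one z
      rw [hz] at this
      exact congrArg Subtype.val this
    have hzm := mem_inf.mp z.2
    have hzZ : (z : G) ∈ Z₀ := (hZmem _).mpr ⟨hP'le hzm.1, hzm.2, hzp⟩
    rw [eq_zpowers_of_card_prime hZc hzZ hz1, zpowers_le]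
    exact hzm.1
  -- the cyclic normal subgroup
  obtain ⟨hcyc, hnorm⟩ := cyclic_cent hG hM hP.1 (sigmaFree_of_pgroup h.notσ hP.2.1)
  have hZY : Z₀ ≤ P ⊓ centralizer (sigmaCore M : Set G) ⊓ ⁅M, M⁆ :=
    le_inf (le_inf (hZB.trans hBP) hZcent) (hZP'.trans (commutator_mono hP.1 hP.1))
  have hMZ : M ≤ normalizer (Z₀ : Set G) :=
    hnorm.trans (Cfsg.Agent.Lib.Helper27BGa.normalizer_le_of_cyclic hcyc hZY)
  have hZ1 : Z₀ ≠ ⊥ := by
    intro h0
    rw [h0, card_bot] at hZc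
    exact hp.out.one_lt.ne hZc
  have hNZ := norm_eq hG hM hZ1 ((hZB.trans hBP).trans hP.1) hMZ
  apply hgM
  rw [← hNZ, Cfsg.Agent.Lib.Helper14Sylow.mem_normalizer_iff_cj]
  exact hgZ

theorem exc_abelian (hG : IsMinSimpleOddOrder G) {M : Subgroup G} (hM : IsCoatom M) {p : ℕ}
    [Fact p.Prime] {A₀ A : Subgroup G} (h : Exc M p A₀ A) {P : Subgroup G} (hP : IsSyl p P M) :
    IsMulCommutative P := by
  obtain ⟨m, hm, hle⟩ := Cfsg.Agent.Lib.Helper24BG2.exists_cj_le hP (isPGroup_of_elemAb h.elem) h.le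
  have h' := Exc.cj h m
  rw [cj_eq_self_of_mem hm] at h'
  exact exc_abelian_aux hG hM h' hP hle

theorem exc_omega (hG : IsMinSimpleOddOrder G) {M : Subgroup G} (hM : IsCoatom M) {p : ℕ}
    [Fact p.Prime] {A₀ A : Subgroup G} (h : Exc M p A₀ A) {P : Subgroup G} (hP : IsSyl p P M)
    (hAP : A ≤ P) : ∀ x ∈ P, x ^ p = 1 ↔ x ∈ A := by
  intro x hx
  refine ⟨fun hxp => ?_, fun hxA => h.elem.2 x hxA⟩
  have hPc := exc_abelian hG hM h hP
  have hcomm : ∀ a ∈ P, ∀ b ∈ P, a * b = b * a := fun a ha b hb =>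
    congrArg Subtype.val (hPc.is_comm.comm ⟨a, ha⟩ ⟨b, hb⟩)
  have hAmax : MaxSq p A := maxSq_of_tau2 hG hM (Exc.tau2 hG hM h) h.le h.elem h.card
  let B : Subgroup G :=
    { carrier := {y | y ∈ P ∧ y ^ p = 1}
      mul_mem' := by
        rintro a b ⟨ha, hap⟩ ⟨hb, hbp⟩
        refine ⟨P.mul_mem ha hb, ?_⟩
        rw [(show Commute a b from hcomm a ha b hb).mul_pow, hap, hbp, one_mul]
      one_mem' := ⟨P.one_mem, one_pow _⟩
      inv_mem' := by
        rintro a ⟨ha, hap⟩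
        exact ⟨P.inv_mem ha, by rw [inv_pow, hap, inv_one]⟩ }
  have hB : IsElementaryAbelian p B :=
    ⟨⟨⟨fun a b => Subtype.ext (hcomm a a.2.1 b b.2.1)⟩⟩, fun a ha => ha.2⟩
  have hBA := hAmax.max B hB (fun a ha => ⟨hAP ha, h.elem.2 a ha⟩)
  rw [← hBA]
  exact ⟨hx, hxp⟩

theorem mem_of_sq_mem (hG : IsMinSimpleOddOrder G) {M : Subgroup G} {g : G} (h : g ^ 2 ∈ M) :
    g ∈ M := by
  have hodd : Odd (orderOf g) := Odd.of_dvd_nat hG.1 (orderOf_dvd_natCard g)
  obtain ⟨k, hk⟩ := hodd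
  have : g = (g ^ 2) ^ (k + 1) := by
    rw [← pow_mul, show 2 * (k + 1) = orderOf g + 1 by omega, pow_succ, pow_orderOf_eq_one, one_mul]
  rw [this]
  exact M.pow_mem h _

/-- two different subgroups of order `p` of `A` act regularly on `M_σ`. -/
theorem exc_two_reg (hG : IsMinSimpleOddOrder G) {M : Subgroup G} (hM : IsCoatom M) {p : ℕ}
    [Fact p.Prime] {A₀ A : Subgroup G} (h : Exc M p A₀ A) :
    ∃ A₁ A₂ : Subgroup G, A₁ ≤ A ∧ A₂ ≤ A ∧ Nat.card A₁ = p ∧ Nat.card A₂ = p ∧ A₁ ≠ A₂ ∧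
      sigmaCore M ⊓ centralizer (A₁ : Set G) = ⊥ ∧ sigmaCore M ⊓ centralizer (A₂ : Set G) = ⊥ := by
  obtain ⟨P, hP, hAP, g, hgN, hgM⟩ := Exc.exists_syl h
  have hcjP : cj g P = P := cj_eq_self_of_mem_normalizer hgN
  have hom := exc_omega hG hM h hP hAP
  have hgA : cj g A = A := by
    ext x
    rw [mem_cj]
    constructor
    · intro hx
      have hxP : x ∈ P := by
        rw [← hcjP, mem_cj]; exact hAP hx
      exact (hom x hxP).mp ((conj_pow_eq_one_iff g x p).mp (h.elem.2 _ hx))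
    · intro hx
      have hxP : g⁻¹ * x * g ∈ P := by
        rw [← mem_cj, hcjP]; exact hAP hx
      exact (hom _ hxP).mp ((conj_pow_eq_one_iff g x p).mpr (h.elem.2 _ hx))
  have hg2N : g * g ∈ normalizer (P : Set G) := mul_mem hgN hgN
  have hg2M : g * g ∉ M := by
    intro hh
    apply hgM
    apply mem_of_sq_mem hG
    rwa [pow_two]
  have hA₁ : cj g A₀ ≤ A := by
    rw [← hgA]; exact cj_mono h.le₀
  refine ⟨cj g A₀, cj (g * g) A₀, hA₁, ?_, by rw [card_cj, h.card₀], by rw [card_cj, h.card₀], ?_,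
    (exc_TI hG hM h hgM (le_cj_of_norm hP.1 hAP hgN)).2,
    (exc_TI hG hM h hg2M (le_cj_of_norm hP.1 hAP hg2N)).2⟩
  · rw [cj_mul, ← hgA]
    exact cj_mono hA₁
  · intro he
    rw [cj_mul] at he
    have h2 : A₀ = cj g A₀ := Cfsg.Agent.Lib.Helper14Sylow.cj_injective g he
    apply hgM
    apply h.norm
    rw [Cfsg.Agent.Lib.Helper14Sylow.mem_normalizer_iff_cj]
    exact h2.symm

end Cfsg.Agent.Lib.Helper92BGExcab
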