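import Cfsg.Agent.Lib.Helper2BGb
import Cfsg.Agent.Lib.Helper3NarrowApp
import Cfsg.Agent.Lib.Helper11Frobenius
import Cfsg.Agent.S1410
import Cfsg.Agent.S1450

/-!
Bender-Glauberman 10.8: `M_β`, normal `p`-complements of `M'`.
-/

set_option autoImplicit false
set_option linter.unusedSectionVars false
open Cfsg

namespace Cfsg.Agent.Lib.Helper2BGc

open Subgroup
open scoped commutatorElement
open Cfsg.Agent.Lib.Helper30Trans Cfsg.Agent.Lib.Helper24BG Cfsg.Agent.Lib.Helper24BG2
open Cfsg.Agent.Lib.Helper2KWa Cfsg.Agent.Lib.Helper2BGa Cfsg.Agent.Lib.Helper2BGb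
open Cfsg.Agent.Lib.Helper37Cores Cfsg.Agent.Lib.Helper11Frobenius
open Cfsg.Agent.Lib.Helper3NarrowAut Cfsg.Agent.Lib.Helper3NarrowApp

universe u

/-- B-G Theorem 5.5/5.6 with the hypothesis "maximal elementary abelian subgroup of order `p^2`". -/
theorem main1455' {G : Type u} [Group G] [Finite G] [Group.IsSolvable G] (hodd : Odd (Nat.card G))
    (p : ℕ) [hp : Fact p.Prime] (hpG : p ∣ Nat.card G) (S : Sylow p G)
    (hmaxS : HasMaxSq p ↥(S : Subgroup G)) (hpl : PLengthLE p 1 G) :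
    (∀ q : ℕ, q.Prime → q ∣ (pPrimeCore p G).index → q ≤ p) ∧
      ((p = 3 ∨ ∀ q : ℕ, q.Prime → q ∣ Nat.card G → p ≤ q) → HasNormalPComplement p G) ∧
      HasNormalPComplement p ↥(commutator G) ∧
      (∀ L : Subgroup ↥(commutator G), (Nat.card L).Coprime p →
        L ≤ pPrimeCore p ↥(commutator G)) ∧
      commutator G ≤ pPrimePCore p G ∧ ((pPrimePCore p G).index).Coprime p := by
  have hp2 : p ≠ 2 := by
    rintro rfl
    exact (Nat.not_even_iff_odd.mpr hodd) (even_iff_two_dvd.mpr hpG)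
  have hlen := (Helper31PLength.pLengthLE_one_iff p G).mp hpl
  have hKc := Helper60Core.card_pPrimeCore_coprime (G := G) p
  have hsurj := QuotientGroup.mk'_surjective (pPrimeCore p G)
  have hPp : IsPGroup p (pCore p (G ⧸ pPrimeCore p G)) := Helper60Core.pCore_isPGroup p
  let f : ↥(S : Subgroup G) →* G ⧸ pPrimeCore p G :=
    (QuotientGroup.mk' (pPrimeCore p G)).comp (S : Subgroup G).subtype
  have hf : Function.Injective f := by
    rw [injective_iff_map_eq_one]
    intro x hx
    have hxN : (x : G) ∈ pPrimeCore p G := (QuotientGroup.eq_one_iff _).mp hx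
    obtain ⟨j, hj⟩ := S.isPGroup' x
    have hj' : (x : G) ^ p ^ j = 1 := congrArg Subtype.val hj
    have h2 : (x : G) ^ Nat.card (pPrimeCore p G) = 1 := by
      have := pow_card_eq_one' (G := pPrimeCore p G) (x := ⟨x, hxN⟩)
      exact congrArg Subtype.val this
    exact Subtype.ext (Helper3AutOdd.eq_one_of_pow_coprime h2 hj' (Nat.Coprime.pow_right j hKc))
  have hrange : f.range = pCore p (G ⧸ pPrimeCore p G) := by
    have h1 : f.range = (S : Subgroup G).map (QuotientGroup.mk' (pPrimeCore p G)) := by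
      rw [MonoidHom.range_comp, Subgroup.range_subtype]
    rw [h1]
    apply le_antisymm
    · apply Helper31PLength.pgroup_le_of_index_coprime
      · unfold pPrimePCore at hlen
        rwa [Subgroup.index_comap_of_surjective _ hsurj] at hlen
      · exact S.isPGroup'.map _
    · exact hPp.le_sylow_of_normal (S.mapSurjective hsurj)
  have e : ↥(S : Subgroup G) ≃* pCore p (G ⧸ pPrimeCore p G) :=
    (MonoidHom.ofInjective hf).trans (MulEquiv.subgroupCongr hrange)
  have hmaxP : HasMaxSq p (pCore p (G ⧸ pPrimeCore p G)) := hasMaxSq_congr e hmaxS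
  have hQodd : Odd (Nat.card (G ⧸ pPrimeCore p G)) := by
    rw [← Subgroup.index_eq_card]
    exact Odd.of_dvd_nat hodd (Subgroup.index_dvd_card _)
  apply Helper3OddRank.core hodd p
  · intro k hk hcop
    exact centralizes_normal hQodd hp2 _ hPp (Or.inr hmaxP) k hk hcop
  · intro q hq hqp hd
    exact aut_prime_lt hp2 hPp (Or.inr hmaxP) q hq hqp hd

theorem hasNPC_congr {p : ℕ} {X Y : Type*} [Group X] [Group Y] (e : X ≃* Y) (h : HasNPC p X) :
    HasNPC p Y := by
  obtain ⟨N, hN, h1, k, h2⟩ := h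
  refine ⟨N.map e.toMonoidHom, hN.map _ e.surjective, ?_, k, ?_⟩
  · rwa [card_map_of_injective e.injective]
  · rw [← h2]
    exact index_map_of_bijective e.bijective N

variable {G : Type u} [Group G] [Finite G]

/-- ambient form of a normal `p`-complement -/
theorem relIndex_coreOf_of_npc {p : ℕ} [hp : Fact p.Prime] {Y : Subgroup G} (h : HasNPC p Y) :
    ∃ k : ℕ, (coreOf p Y).relIndex Y = p ^ k := by
  obtain ⟨N, hN, h1, k, h2⟩ := h
  have h3 : N ≤ pPrimeCore p Y := le_sSup ⟨hN, h1⟩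
  have h4 : (pPrimeCore p Y).index ∣ p ^ k := h2 ▸ index_dvd_of_le h3
  obtain ⟨j, -, hj⟩ := (Nat.dvd_prime_pow hp.out).mp h4
  refine ⟨j, ?_⟩
  rw [← hj, coreOf, relIndex, subgroupOf, comap_map_eq_self_of_injective Y.subtype_injective]

theorem le_coreOf_of_npc {p : ℕ} [hp : Fact p.Prime] {Y L : Subgroup G} (h : HasNPC p Y)
    (hLY : L ≤ Y) (hL : (Nat.card L).Coprime p) : L ≤ coreOf p Y := by
  obtain ⟨k, hk⟩ := relIndex_coreOf_of_npc h
  refine le_of_relIndex_coprime hLY (le_normalizer_coreOf p Y) ?_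
  intro q hq hqL hqk
  rw [hk] at hqk
  have : q = p := (Nat.prime_dvd_prime_iff_eq hq hp.out).mp (hq.dvd_of_dvd_pow hqk)
  subst this
  exact (Nat.Prime.coprime_iff_not_dvd hq).mp hL.symm hqL

/-- a subgroup meeting the intersection of the normal complements trivially is nilpotent -/
theorem nilpotent_of_npc {D H : Subgroup G} (hHD : H ≤ D) (T : Set ℕ) (hT : T.Finite)
    (hTp : ∀ q ∈ T, q.Prime) (hc : ∀ q ∈ T, HasNPC q D)
    (hH : ∀ x ∈ H, (∀ q ∈ T, x ∈ coreOf q D) → x = 1) : Group.IsNilpotent H := by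
  have : Finite T := hT
  let f : H →* ∀ q : T, (↥D ⧸ pPrimeCore (q : ℕ) ↥D) :=
    MonoidHom.pi (fun q => (QuotientGroup.mk' _).comp (inclusion hHD))
  have hf : Function.Injective f := by
    rw [injective_iff_map_eq_one]
    intro x hx
    apply Subtype.ext
    apply hH x x.2
    intro q hq
    have h1 : f x ⟨q, hq⟩ = 1 := by rw [hx]; rfl
    have h2 : inclusion hHD x ∈ pPrimeCore q ↥D := (QuotientGroup.eq_one_iff _).mp h1
    exact ⟨_, h2, rfl⟩
  have hn : ∀ q : T, Group.IsNilpotent (↥D ⧸ pPrimeCore (q : ℕ) ↥D) := by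
    intro q
    have := Fact.mk (hTp q q.2)
    obtain ⟨k, hk⟩ := relIndex_coreOf_of_npc (hc q q.2)
    have h1 : IsPGroup (q : ℕ) (↥D ⧸ pPrimeCore (q : ℕ) ↥D) := by
      apply IsPGroup.of_card (n := k)
      rw [← index_eq_card, ← hk, coreOf, relIndex, subgroupOf,
        comap_map_eq_self_of_injective D.subtype_injective]
    exact h1.isNilpotent
  have h3 : Group.IsNilpotent f.range := inferInstance
  exact (Group.isNilpotent_congr (MonoidHom.ofInjective hf)).mpr h3

/-- Schur-Zassenhaus, existence, ambient -/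
theorem exists_compl_of_normal_hall {K Y : Subgroup G} (hKY : K ≤ Y)
    (hn : Y ≤ normalizer (K : Set G)) (hcop : (Nat.card K).Coprime (K.relIndex Y)) :
    ∃ H : Subgroup G, H ≤ Y ∧ K ⊓ H = ⊥ ∧ Nat.card K * Nat.card H = Nat.card Y := by
  have hN : (K.subgroupOf Y).Normal := (normal_subgroupOf_iff_le_normalizer hKY).mpr hn
  have hc : (Nat.card (K.subgroupOf Y)).Coprime (K.subgroupOf Y).index := by
    rw [Cfsg.Agent.Lib.Helper30SZ.card_subgroupOf_of_le hKY]
    exact hcop
  obtain ⟨H, hH⟩ := exists_right_complement'_of_coprime hc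
  refine ⟨H.map Y.subtype, map_subtype_le _, ?_, ?_⟩
  · rw [eq_bot_iff]
    rintro x ⟨hxK, y, hy, rfl⟩
    have : y ∈ K.subgroupOf Y ⊓ H := mem_inf.mpr ⟨mem_subgroupOf.mpr hxK, hy⟩
    rw [hH.disjoint.eq_bot, mem_bot] at this
    rw [this]
    exact one_mem _
  · rw [card_map_of_injective Y.subtype_injective, ← hH.card_mul_card,
      Cfsg.Agent.Lib.Helper30SZ.card_subgroupOf_of_le hKY]

end Cfsg.Agent.Lib.Helper2BGc
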