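import Mathlib
import Cfsg.Agent.Lib.Helper14BGWire
import Cfsg.Agent.Lib.Helper21BGExcbasic
import Cfsg.Agent.Lib.Helper21BGExcTI
import Cfsg.Agent.Lib.Helper92BGExcnil
import Cfsg.Agent.Lib.Helper5BGDisjoint
import Cfsg.Agent.Lib.Helper2BGDefs
import Cfsg.Agent.Lib.Helper24BG
import Cfsg.Agent.Lib.Helper2BGa
import Cfsg.Agent.Lib.Helper2BGb
import Cfsg.Agent.Lib.Helper2BGc
import Cfsg.Agent.Lib.Helper30SZ
import Cfsg.Agent.S1404
import Cfsg.Agent.S1405
import Cfsg.Agent.S1414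

/-!
Bender-Glauberman 12.2(b), 12.3 (project 9, piece `l123`).
-/

set_option autoImplicit false
set_option linter.unusedSectionVars false

namespace Cfsg.Agent.Lib.Helper14BGL123

open Cfsg Subgroup
open Cfsg.Agent.Lib.Helper30Trans Cfsg.Agent.Lib.Helper24BG Cfsg.Agent.Lib.Helper2BGDefs
open Cfsg.Agent.Lib.Helper14BGWire (exc_normal)
open Cfsg.Agent.Lib.Helper21BGExcbasic (sigma_cj)
open Cfsg.Agent.Lib.Helper21BGExcTI (exc_TI)
open Cfsg.Agent.Lib.Helper92BGExcnil (exc_nilpotent)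
open Cfsg.Agent.Lib.Helper5BGDisjoint (sigma_disjoint)

variable {G : Type*} [Group G] [Finite G]

theorem not_conj_of_sigma (hG : IsMinSimpleOddOrder G) {M Ms : Subgroup G} (hM : IsCoatom M)
    (hne : Ms ≠ M) {p : ℕ} [Fact p.Prime] (hp : p ∈ sigma M) {X : Subgroup G}
    (hX : IsPGroup p X) (hX1 : X ≠ ⊥) (hXM : X ≤ M) (hN : normalizer (X : Set G) ≤ Ms) :
    ∀ g : G, cj g M ≠ Ms := by
  intro g hg
  have hXN : X ≤ normalizer (X : Set G) := le_normalizer
  have h1 : cj g⁻¹ X ≤ M := by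
    rw [cj_le_iff, inv_inv, hg]; exact hXN.trans hN
  obtain ⟨m, hm, c, hc, hgc⟩ := (Cfsg.Agent.S1404.result hG M hM p hp X hX hX1 hXM).1 g⁻¹ h1
  have hcMs : c ∈ Ms := hN (centralizer_le_normalizer _ hc)
  have hg' : g = c⁻¹ * m⁻¹ := by rw [← inv_inv g, hgc]; group
  have h2 : cj c⁻¹ M = Ms := by
    rw [← hg, hg', cj_mul, Helper2BGa.cj_eq_self_of_mem (M.inv_mem hm)]
  apply hne
  have h3 : cj c Ms = Ms := Helper2BGa.cj_eq_self_of_mem hcMs
  rw [← h3, ← h2, cj_cj_inv]

/-- a group of prime order is a `p`-group -/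
theorem isPGroup_of_card {p : ℕ} [Fact p.Prime] {X : Subgroup G} (hX : Nat.card X = p) :
    IsPGroup p X := IsPGroup.of_card (n := 1) (by rw [hX, pow_one])

theorem ne_bot_of_card {p : ℕ} [hp : Fact p.Prime] {X : Subgroup G} (hX : Nat.card X = p) :
    X ≠ ⊥ := by
  rintro rfl
  rw [card_bot] at hX
  exact hp.out.one_lt.ne hX

theorem le_normalizer_inf {A H K : Subgroup G} (hH : A ≤ normalizer (H : Set G))
    (hK : A ≤ normalizer (K : Set G)) : A ≤ normalizer ((H ⊓ K : Subgroup G) : Set G) := by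
  intro a ha
  have h1 := hH ha
  have h2 := hK ha
  rw [mem_normalizer_iff] at h1 h2 ⊢
  intro x
  rw [mem_inf, mem_inf, h1 x, h2 x]

/-- the index of `S` in `S A` divides `|A|` -/
theorem relIndex_sup_dvd {S A : Subgroup G} (h : A ≤ normalizer (S : Set G)) :
    S.relIndex (S ⊔ A) ∣ Nat.card A := by
  have h1 : S.relIndex (A ⊔ S) = S.relIndex A := by
    unfold relIndex index
    let _ := Subgroup.normal_subgroupOf_of_le_normalizer h
    let _ := Subgroup.normal_subgroupOf_sup_of_le_normalizer h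
    exact (Nat.card_congr (QuotientGroup.quotientInfEquivProdNormalizerQuotient A S h).toEquiv).symm
  rw [sup_comm, h1]
  exact relIndex_dvd_card S A

theorem le_centralizer_of_comm {A B : Subgroup G} (hA : IsMulCommutative A) (hBA : B ≤ A) :
    A ≤ centralizer (B : Set G) := by
  intro a ha
  rw [mem_centralizer_iff]
  intro x hx
  exact congrArg Subtype.val (hA.is_comm.comm ⟨x, hBA hx⟩ ⟨a, ha⟩)

/-- key step: commutators with `A` fall into `Ms_σ`. -/
theorem comm_le_sigmaCore {Ms A K : Subgroup G} {p : ℕ} [hp : Fact p.Prime]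
    (hA : IsPGroup p A) (hAMs : A ≤ Ms)
    (hnorm : Ms ≤ normalizer ((sigmaCore Ms ⊔ A : Subgroup G) : Set G))
    (hKMs : K ≤ Ms) (hAK : A ≤ normalizer (K : Set G)) (hpK : ¬ p ∣ Nat.card K) :
    ⁅K, A⁆ ≤ K ⊓ sigmaCore Ms := by
  have h1 : ⁅K, A⁆ ≤ K := Helper30SZ.commutator_le_of_le_normalizer hAK
  refine le_inf h1 ?_
  have h2 : ⁅K, A⁆ ≤ sigmaCore Ms ⊔ A := by
    have h3 : ⁅sigmaCore Ms ⊔ A, K⁆ ≤ sigmaCore Ms ⊔ A :=
      Helper30SZ.commutator_le_of_le_normalizer (hKMs.trans hnorm)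
    rw [commutator_comm]
    exact (commutator_mono le_sup_right le_rfl).trans h3
  have hAS : A ≤ normalizer (sigmaCore Ms : Set G) :=
    hAMs.trans (Helper2BGb.le_normalizer_sigmaCore Ms)
  refine Helper2BGa.le_of_relIndex_coprime h2 (sup_le le_normalizer hAS) ?_
  intro r hr hrX hrI
  have h4 : r ∣ Nat.card A := hrI.trans (relIndex_sup_dvd hAS)
  obtain ⟨n, hn⟩ := IsPGroup.iff_card.mp hA
  rw [hn] at h4
  have : r = p := (Nat.prime_dvd_prime_iff_eq hr hp.out).mp (hr.dvd_of_dvd_pow h4)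
  subst this
  exact hpK (hrX.trans (card_dvd_of_le h1))

theorem le_centralizer_of_comm_bot {A K : Subgroup G} (h : ⁅K, A⁆ = ⊥) :
    A ≤ centralizer (K : Set G) := by
  rw [commutator_comm] at h
  exact commutator_eq_bot_iff_le_centralizer.mp h

theorem cent_inter (hG : IsMinSimpleOddOrder G) {M Ms : Subgroup G} (hM : IsCoatom M)
    (hMs : IsCoatom Ms) (hne : Ms ≠ M) {p : ℕ} [hpp : Fact p.Prime] {A₀ A : Subgroup G} (hAM : A ≤ M)
    (hAe : IsElementaryAbelian p A) (hA2 : Nat.card A = p ^ 2) (hA₀ : A₀ ≤ A)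
    (hA₀p : Nat.card A₀ = p) (hN : normalizer (A₀ : Set G) ≤ Ms) :
    (p ∉ sigma M → A ≤ centralizer ((sigmaCore M ⊓ Ms : Subgroup G) : Set G)) ∧
      (p ∉ alpha M → A ≤ centralizer ((alphaCore M ⊓ Ms : Subgroup G) : Set G)) := by
  have hAp : IsPGroup p A := isPGroup_of_elemAb hAe
  have hAMs : A ≤ Ms :=
    ((le_centralizer_of_comm hAe.1 hA₀).trans (centralizer_le_normalizer _)).trans hN
  have hexc : p ∉ sigma Ms → Exc Ms p A₀ A := fun h => ⟨h, hAMs, hAe, hA2, hA₀, hA₀p, hN⟩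
  have hnorm : Ms ≤ normalizer ((sigmaCore Ms ⊔ A : Subgroup G) : Set G) := by
    by_cases h : p ∈ sigma Ms
    · have : A ≤ sigmaCore Ms := Helper2BGb.pgroup_le_sigmaCore hG hMs h hAMs hAp
      rw [sup_eq_left.mpr this]
      exact Helper2BGb.le_normalizer_sigmaCore Ms
    · exact exc_normal hG hMs (hexc h)
  have hAMsN : A ≤ normalizer (Ms : Set G) := hAMs.trans le_normalizer
  -- the conjugate case
  have hconjcase : p ∉ sigma M → ∀ g : G, cj g M = Ms → sigmaCore Ms ⊓ M = ⊥ := by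
    intro hp g hg
    have h1 : p ∉ sigma Ms := by rw [← hg, sigma_cj]; exact hp
    have h2 : g⁻¹ ∉ Ms := by
      intro h
      apply hne
      have h3 : cj g⁻¹ Ms = Ms := Helper2BGa.cj_eq_self_of_mem h
      rw [← h3, ← hg, cj_inv_cj]
    have h3 : cj g⁻¹ Ms = M := by rw [← hg, cj_inv_cj]
    have := (exc_TI hG hMs (hexc h1) h2 (by rw [h3]; exact hAM)).1
    rwa [h3] at this
  have hconj' : (∀ g : G, cj g M ≠ Ms) → ∀ g : G, cj g Ms ≠ M := by
    intro h g hg
    apply h g⁻¹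
    rw [← hg, cj_inv_cj]
  -- part (a)
  have ha : p ∉ sigma M → A ≤ centralizer ((sigmaCore M ⊓ Ms : Subgroup G) : Set G) := by
    intro hp
    apply le_centralizer_of_comm_bot
    have hAK : A ≤ normalizer ((sigmaCore M ⊓ Ms : Subgroup G) : Set G) :=
      le_normalizer_inf (hAM.trans (Helper2BGb.le_normalizer_sigmaCore M)) hAMsN
    have hpK : ¬ p ∣ Nat.card (sigmaCore M ⊓ Ms : Subgroup G) := fun h =>
      hp (Helper2BGb.card_sigmaCore M p hpp.out (h.trans (card_dvd_of_le inf_le_left)))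
    have hX := comm_le_sigmaCore hAp hAMs hnorm inf_le_right hAK hpK
    have hX1 : ⁅sigmaCore M ⊓ Ms, A⁆ ≤ sigmaCore M := hX.trans (inf_le_left.trans inf_le_left)
    have hX2 : ⁅sigmaCore M ⊓ Ms, A⁆ ≤ sigmaCore Ms := hX.trans inf_le_right
    by_cases hc : ∃ g : G, cj g M = Ms
    · obtain ⟨g, hg⟩ := hc
      rw [eq_bot_iff, ← hconjcase hp g hg]
      exact le_inf hX2 (hX1.trans (Helper2BGb.sigmaCore_le M))
    · push Not at hc
      by_cases hps : p ∈ sigma Ms
      · -- case (4)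
        by_contra hXne
        have hcard : Nat.card ↥⁅sigmaCore M ⊓ Ms, A⁆ ≠ 1 := fun h => hXne (card_eq_one.mp h)
        obtain ⟨r, hr, hrX⟩ := Nat.exists_prime_and_dvd hcard
        have := Fact.mk hr
        have hrM : r ∈ sigma M := Helper2BGb.card_sigmaCore M r hr (hrX.trans (card_dvd_of_le hX1))
        have hrMs : r ∣ Nat.card Ms :=
          hrX.trans (card_dvd_of_le (hX2.trans (Helper2BGb.sigmaCore_le Ms)))
        have hrα : r ∉ alpha Ms := fun h => (sigma_disjoint hG hMs hM (hconj' hc)).1 r h hrM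
        have hrβ : r ∉ beta Ms := fun h => hrα h.1
        have hnpc := ((Cfsg.Agent.S1414.result hG Ms hMs).2.2.2.2 r hr hrMs hrβ).2.1
        have hnpc' : Helper11Frobenius.HasNPC r (sigmaCore Ms) :=
          Helper11Frobenius.hasNPC_iff.mpr hnpc
        have hrp : r ≠ p := by
          rintro rfl
          exact hpK (hrX.trans (card_dvd_of_le (hX.trans inf_le_left)))
        have hAcop : (Nat.card A).Coprime r := by
          rw [hA2]
          exact Nat.Coprime.pow_left 2 ((Nat.coprime_primes hpp.out hr).mpr (Ne.symm hrp))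
        have hAcore : A ≤ Helper37Cores.coreOf r (sigmaCore Ms) :=
          Helper2BGc.le_coreOf_of_npc hnpc' (Helper2BGb.pgroup_le_sigmaCore hG hMs hps hAMs hAp) hAcop
        have hXcore : ⁅sigmaCore M ⊓ Ms, A⁆ ≤ Helper37Cores.coreOf r (sigmaCore Ms) := by
          have h5 : sigmaCore M ⊓ Ms ≤ normalizer (Helper37Cores.coreOf r (sigmaCore Ms) : Set G) :=
            inf_le_right.trans ((Helper2BGb.le_normalizer_sigmaCore Ms).trans
              (Helper37Cores.normalizer_le_normalizer_coreOf r _))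
          have h6 := Helper30SZ.commutator_le_of_le_normalizer h5
          rw [commutator_comm]
          exact (commutator_mono hAcore le_rfl).trans h6
        have h7 := Helper37Cores.card_coreOf_coprime r (sigmaCore Ms)
        exact (Nat.Prime.coprime_iff_not_dvd hr).mp h7.symm (hrX.trans (card_dvd_of_le hXcore))
      · have hnil := exc_nilpotent hG hMs (hexc hps)
        rw [eq_bot_iff, ← ((sigma_disjoint hG hMs hM (hconj' hc)).2.2 hnil).2]
        exact le_inf hX2 hX1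
  refine ⟨ha, ?_⟩
  intro hpa
  by_cases hp : p ∈ sigma M
  · have hc := not_conj_of_sigma hG hM hne hp (isPGroup_of_card hA₀p) (ne_bot_of_card hA₀p)
      (hA₀.trans hAM) hN
    apply le_centralizer_of_comm_bot
    have hAK : A ≤ normalizer ((alphaCore M ⊓ Ms : Subgroup G) : Set G) :=
      le_normalizer_inf (hAM.trans (le_normalizer_piCoreOf _ M)) hAMsN
    have hpK : ¬ p ∣ Nat.card (alphaCore M ⊓ Ms : Subgroup G) := fun h =>
      hpa (card_piCoreOf _ M p hpp.out (h.trans (card_dvd_of_le inf_le_left)))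
    have hX := comm_le_sigmaCore hAp hAMs hnorm inf_le_right hAK hpK
    rw [eq_bot_iff, ← (sigma_disjoint hG hM hMs hc).2.1]
    exact le_inf (hX.trans (inf_le_left.trans inf_le_left)) (hX.trans inf_le_right)
  · refine (ha hp).trans (centralizer_le ?_)
    exact inf_le_inf_right _ (Cfsg.Agent.S1405.result hG M hM).2.2.1

end Cfsg.Agent.Lib.Helper14BGL123
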