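import Mathlib
import Cfsg.Agent.Lib.Helper68BGA
import Cfsg.Agent.Lib.Helper27BGa
import Cfsg.Agent.S1404
import Cfsg.Agent.S1416

/-!
Bender-Glauberman, end of Section 12: embedding of `σ(M)`-subgroups (Proposition 12.15 (a)-(c)),
in ambient-subgroup form.
-/

set_option autoImplicit false
open Cfsg

namespace Cfsg.Agent.Lib.Helper30BG

open Subgroup
open Cfsg.Agent.Lib.Helper30Trans
open Cfsg.Agent.Lib.Helper24BG
open Cfsg.Agent.Lib.Helper24BG2
open Cfsg.Agent.Lib.Helper68BGA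
open Cfsg.Agent.Lib.Helper27BGa

universe u
variable {G : Type u} [Group G] [Finite G]

/-- for `p ∈ σ(M)` the normalizer of a noncyclic `p`-subgroup of `M` lies in `M` -/
theorem norm_le_of_noncyclic (hG : IsMinSimpleOddOrder G) {M : Subgroup G} (hM : IsCoatom M) {p : ℕ}
    [Fact p.Prime] (hp : p ∈ sigma M) {P : Subgroup G} (hP : IsPGroup p P) (hPM : P ≤ M)
    (hnc : ¬ IsCyclic P) : normalizer (P : Set G) ≤ M := by
  have hP1 : P ≠ ⊥ := by
    rintro rfl
    exact hnc inferInstance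
  have hp2 : p ≠ 2 := ne_two hG hP hP1
  obtain ⟨W, hWP, -, hWe, hWc⟩ := exists_normal_sq hp2 hP hnc
  have h1 := (Cfsg.Agent.S1416.result hG M hM p W ⟨hWP.trans hPM, hWe, hWc⟩).1
  rw [(Cfsg.Agent.S1404.result hG M hM p hp P hP hP1 hPM).2]
  exact sup_le inf_le_left ((centralizer_le hWP).trans h1)

/-- if `X ≤ M` is a `p`-group, `p ∈ σ(M)`, `C_G(X) ≤ M` and `X ≤ M^g` then `g ∈ M` -/
theorem mem_of_le_cj (hG : IsMinSimpleOddOrder G) {M : Subgroup G} (hM : IsCoatom M) {p : ℕ}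
    [Fact p.Prime] (hp : p ∈ sigma M) {X : Subgroup G} (hX : IsPGroup p X) (hXM : X ≤ M)
    (hC : centralizer (X : Set G) ≤ M) {g : G} (hg : X ≤ cj g M) : g ∈ M := by
  have h1 : cj g⁻¹ X ≤ M := by
    rw [cj_le_iff, inv_inv]
    exact hg
  obtain ⟨m, hm, c, hc, h2⟩ := Cfsg.Agent.S1404.part1 hG M hM p hp X hX hXM g⁻¹ h1
  have : g = (m * c)⁻¹ := by rw [← h2, inv_inv]
  rw [this]
  exact M.inv_mem (M.mul_mem hm (hC hc))

/-- B-G 12.15 (a), (b), (c). -/
theorem emb_abc (hG : IsMinSimpleOddOrder G) {M : Subgroup G} (hM : IsCoatom M) {q : ℕ}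
    [Fact q.Prime] (hq : q ∈ sigma M) {X : Subgroup G} (hXq : IsPGroup q X) (hX1 : X ≠ ⊥)
    (hXM : X ≤ M) {Mstar : Subgroup G} (hMs : IsCoatom Mstar) (hne : Mstar ≠ M)
    (hNX : normalizer (X : Set G) ≤ Mstar) {S : Subgroup G} (hS : IsSyl q S (M ⊓ Mstar))
    (hXS : X ≤ S) :
    (∀ g : G, Mstar ≠ cj g M) ∧ normalizer (S : Set G) ≤ M ∧ IsSyl q S Mstar := by
  have hSM : S ≤ M := hS.1.trans inf_le_left
  have hSMs : S ≤ Mstar := hS.1.trans inf_le_right
  -- (a)
  have ha : ∀ g : G, Mstar ≠ cj g M := by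
    intro g hg
    have h1 : cj g⁻¹ X ≤ M := by
      rw [cj_le_iff, inv_inv, ← hg]
      exact le_normalizer.trans hNX
    obtain ⟨m, hm, c, hc, h2⟩ := Cfsg.Agent.S1404.part1 hG M hM q hq X hXq hXM g⁻¹ h1
    have hcM : c ∈ Mstar := hNX (centralizer_le_normalizer _ hc)
    have hg' : g = c⁻¹ * m⁻¹ := by
      have : g = (m * c)⁻¹ := by rw [← h2, inv_inv]
      rw [this, mul_inv_rev]
    have h3 : cj m⁻¹ M = M := cj_eq_self_of_mem_normalizer (le_normalizer (M.inv_mem hm))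
    have h4 : Mstar = cj c⁻¹ M := by rw [hg, hg', cj_mul, h3]
    have h5 : cj c Mstar = Mstar := cj_eq_self_of_mem_normalizer (le_normalizer hcM)
    apply hne
    rw [← h5, h4, cj_cj_inv]
  -- (b)
  have hb : normalizer (S : Set G) ≤ M := by
    by_cases hc : IsCyclic S
    · obtain ⟨Q, hQ, hSQ⟩ := exists_isSyl_ge hSM hS.2.1
      obtain ⟨-, hNQ, -⟩ := sigma_syl hq hQ
      have hNS : normalizer (S : Set G) ≤ Mstar := (normalizer_le_of_cyclic hc hXS).trans hNX
      have hSQ' : S = Q := by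
        by_contra hne'
        have hlt : S < Q := lt_of_le_of_ne hSQ hne'
        have h1 := exists_lt_normalizer hQ.2.1 hlt
        have h2 := hS.2.2 (Q ⊓ normalizer (S : Set G))
          (le_inf (inf_le_left.trans hQ.1) (inf_le_right.trans hNS)) (hQ.2.1.to_le inf_le_left) h1.le
        exact h1.ne h2.symm
      rw [hSQ']
      exact hNQ
    · exact norm_le_of_noncyclic hG hM hq hS.2.1 hSM hc
  refine ⟨ha, hb, hSMs, hS.2.1, ?_⟩
  intro Q hQM hQ hSQ
  by_contra hne'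
  have hlt : S < Q := lt_of_le_of_ne hSQ (Ne.symm hne')
  have h1 := exists_lt_normalizer hQ hlt
  have h2 := hS.2.2 (Q ⊓ normalizer (S : Set G))
    (le_inf (inf_le_right.trans hb) (inf_le_left.trans hQM)) (hQ.to_le inf_le_left) h1.le
  exact h1.ne h2.symm

/-- an ambient Sylow subgroup has index prime to `p` -/
theorem IsSyl.not_dvd_relIndex {p : ℕ} [Fact p.Prime] {R X : Subgroup G} (h : IsSyl p R X) :
    ¬ p ∣ R.relIndex X := by
  have := h.toSylow.not_dvd_index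
  exact this

end Cfsg.Agent.Lib.Helper30BG
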