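import Mathlib
import Cfsg.Agent.Lib.Helper24BG
import Cfsg.Agent.Lib.Helper24BG2
import Cfsg.Agent.Lib.Helper27BGa
import Cfsg.Agent.Lib.Helper12Hall
import Cfsg.Agent.S1350

/-!
Bender-Glauberman section 12: basic facts on complements `E` of `M_σ` in a maximal subgroup `M`.
-/

set_option autoImplicit false
open Cfsg

namespace Cfsg.Agent.Lib.Helper31BGS

open Subgroup
open Cfsg.Agent.Lib.Helper30Trans
open Cfsg.Agent.Lib.Helper24BG
open Cfsg.Agent.Lib.Helper24BG2

universe u
variable {G : Type u} [Group G]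

/-- counting fixed points of a conjugation action of an `r`-group -/
theorem card_modEq_inf_centralizer [Finite G] {r : ℕ} [Fact r.Prime] {Z A : Subgroup G}
    (hZ : IsPGroup r Z) (hZA : Z ≤ normalizer (A : Set G)) :
    Nat.card A ≡ Nat.card (A ⊓ centralizer (Z : Set G) : Subgroup G) [MOD r] := by
  let act : MulAction Z A :=
    { smul := fun u h => ⟨(u : G) * h.1 * (u : G)⁻¹, (mem_normalizer_iff.mp (hZA u.2) h.1).mp h.2⟩
      one_smul := by
        intro h
        apply Subtype.ext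
        change ((1 : Z) : G) * h.1 * ((1 : Z) : G)⁻¹ = h.1
        simp
      mul_smul := by
        intro u v h
        apply Subtype.ext
        change ((u * v : Z) : G) * h.1 * ((u * v : Z) : G)⁻¹
          = (u : G) * ((v : G) * h.1 * (v : G)⁻¹) * (u : G)⁻¹
        rw [Subgroup.coe_mul]; group }
  have h1 := hZ.card_modEq_card_fixedPoints A
  have h2 : Nat.card (MulAction.fixedPoints Z A) = Nat.card (A ⊓ centralizer (Z : Set G) : Subgroup G) := by
    apply Nat.card_congr
    refine ⟨fun a => ⟨a.1.1, a.1.2, ?_⟩, fun a => ⟨⟨a.1, a.2.1⟩, ?_⟩, fun a => rfl, fun a => rfl⟩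
    · show a.1.1 ∈ centralizer (Z : Set G)
      rw [mem_centralizer_iff]
      intro u hu
      have h3 : u * a.1.1 * u⁻¹ = a.1.1 := congrArg Subtype.val (a.2 ⟨u, hu⟩)
      exact mul_inv_eq_iff_eq_mul.mp h3
    · intro u
      apply Subtype.ext
      change (u : G) * a.1 * (u : G)⁻¹ = a.1
      have := mem_centralizer_iff.mp a.2.2 u u.2
      rw [this]; group
  rw [h2] at h1
  exact h1

/-- an elementary abelian subgroup of order exactly `p ^ 2` -/
theorem exists_sq [Finite G] {p : ℕ} [hp : Fact p.Prime] {X : Subgroup G} (h : ¬ PRankLE p 1 X) :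
    ∃ A : Subgroup G, A ≤ X ∧ IsElementaryAbelian p A ∧ Nat.card A = p ^ 2 := by
  obtain ⟨B, hBX, hB, hc⟩ := exists_elemAb h
  obtain ⟨n, hn⟩ := (isPGroup_of_elemAb hB).exists_card_eq
  have hn2 : 2 ≤ n := by
    by_contra hlt
    have : n ≤ 1 := by omega
    have h1 := Nat.pow_le_pow_right hp.out.pos this
    omega
  obtain ⟨K, hK⟩ := Sylow.exists_subgroup_card_pow_prime (G := B) p (n := 2)
    (by rw [hn]; exact pow_dvd_pow p hn2)
  refine ⟨K.map B.subtype, (map_subtype_le K).trans hBX, elemAb_of_le hB (map_subtype_le K), ?_⟩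
  rw [card_map_of_injective B.subtype_injective, hK]

/-- Sylow subgroups of a subgroup of index prime to `p` -/
theorem isSyl_of_not_dvd_relIndex [Finite G] {p : ℕ} [hp : Fact p.Prime] {R X Y : Subgroup G}
    (hR : IsSyl p R X) (hXY : X ≤ Y) (h : ¬ p ∣ X.relIndex Y) : IsSyl p R Y := by
  obtain ⟨Q, hQ, hRQ⟩ := exists_isSyl_ge (hR.1.trans hXY) hR.2.1
  have h1 : Nat.card R = p ^ (Nat.card X).factorization p := by
    have := hR.toSylow.card_eq_multiplicity
    rw [← this]
    show Nat.card R = Nat.card (R.subgroupOf X)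
    rw [Cfsg.Agent.Lib.Helper30SZ.card_subgroupOf_of_le hR.1]
  have h2 : Nat.card Q = p ^ (Nat.card Y).factorization p := by
    have := hQ.toSylow.card_eq_multiplicity
    rw [← this]
    show Nat.card Q = Nat.card (Q.subgroupOf Y)
    rw [Cfsg.Agent.Lib.Helper30SZ.card_subgroupOf_of_le hQ.1]
  have h3 : Nat.card Y = Nat.card X * X.relIndex Y := by
    have := (X.subgroupOf Y).card_mul_index
    rw [Cfsg.Agent.Lib.Helper30SZ.card_subgroupOf_of_le hXY] at this
    exact this.symm
  have h4 : (Nat.card Y).factorization p = (Nat.card X).factorization p := by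
    rw [h3, Nat.factorization_mul Nat.card_pos.ne' (by
      intro h0
      exact h (h0 ▸ dvd_zero p))]
    simp [Nat.factorization_eq_zero_of_not_dvd h]
  have h5 : R = Q := eq_of_le_of_card_ge hRQ (by rw [h1, h2, h4])
  exact h5 ▸ hQ

section compl

variable [Finite G]

theorem sigmaCore_le (M : Subgroup G) : sigmaCore M ≤ M := map_subtype_le _

theorem le_normalizer_sigmaCore (M : Subgroup G) : M ≤ normalizer (sigmaCore M : Set G) :=
  Cfsg.Agent.Lib.Helper37Cores.le_normalizer_map_subtype _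

/-- the order formula for a complement -/
theorem card_compl {A B M : Subgroup G} (h : IsComplIn A B M) :
    Nat.card A * Nat.card B = Nat.card M := by
  have hbij : Function.Bijective (fun x : A × B => (⟨x.1.1 * x.2.1, M.mul_mem (h.1 x.1.2) (h.2.1 x.2.2)⟩ : M)) := by
    constructor
    · rintro ⟨a, b⟩ ⟨a', b'⟩ hab
      have h1 : (a : G) * b = a' * b' := congrArg Subtype.val hab
      have h2 : (a' : G)⁻¹ * a = b' * (b : G)⁻¹ := by
        rw [inv_mul_eq_iff_eq_mul, ← mul_assoc, ← h1]; group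
      have h3 : (a' : G)⁻¹ * a ∈ A ⊓ B :=
        ⟨A.mul_mem (A.inv_mem a'.2) a.2, h2 ▸ B.mul_mem b'.2 (B.inv_mem b.2)⟩
      rw [h.2.2.1, mem_bot] at h3
      have h4 : (a : G) = a' := by rw [inv_mul_eq_one] at h3; exact h3.symm
      have h5 : (b : G) = b' := by rw [h4] at h1; exact mul_left_cancel h1
      exact Prod.ext (Subtype.ext h4) (Subtype.ext h5)
    · rintro ⟨m, hm⟩
      obtain ⟨a, ha, b, hb, rfl⟩ := h.2.2.2 m hm
      exact ⟨(⟨a, ha⟩, ⟨b, hb⟩), rfl⟩
  rw [← Nat.card_prod]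
  exact Nat.card_congr (Equiv.ofBijective _ hbij)

theorem relIndex_compl {A B M : Subgroup G} (h : IsComplIn A B M) : A.relIndex M = Nat.card B := by
  have h1 := (A.subgroupOf M).card_mul_index
  rw [Cfsg.Agent.Lib.Helper30SZ.card_subgroupOf_of_le h.1, ← card_compl h] at h1
  exact Nat.eq_of_mul_eq_mul_left Nat.card_pos h1

theorem relIndex_compl' {A B M : Subgroup G} (h : IsComplIn A B M) : B.relIndex M = Nat.card A := by
  have h1 := (B.subgroupOf M).card_mul_index
  rw [Cfsg.Agent.Lib.Helper30SZ.card_subgroupOf_of_le h.2.1, ← card_compl h, mul_comm] at h1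
  exact Nat.eq_of_mul_eq_mul_right Nat.card_pos h1

variable (hG : IsMinSimpleOddOrder G) {M : Subgroup G} (hM : IsCoatom M)
include hG hM

/-- primes of `M_σ` lie in `σ(M)` -/
theorem mem_sigma_of_dvd_sigmaCore {p : ℕ} (hp : p.Prime) (h : p ∣ Nat.card (sigmaCore M)) :
    p ∈ sigma M :=
  (Cfsg.Agent.S1350.result hG M hM).1.2.1 p hp h

/-- primes of a complement do not lie in `σ(M)` -/
theorem not_mem_sigma_of_dvd_compl {E : Subgroup G} (hE : IsComplIn E (sigmaCore M) M) {p : ℕ}
    (hp : p.Prime) (h : p ∣ Nat.card E) : p ∉ sigma M := by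
  intro hs
  apply (Cfsg.Agent.S1350.result hG M hM).1.2.2 p hp hs
  rw [relIndex_compl' hE]
  exact h

theorem not_mem_sigma_of_dvd_le_compl {E X : Subgroup G} (hE : IsComplIn E (sigmaCore M) M) (hX : X ≤ E)
    {p : ℕ} (hp : p.Prime) (h : p ∣ Nat.card X) : p ∉ sigma M :=
  not_mem_sigma_of_dvd_compl hG hM hE hp (h.trans (card_dvd_of_le hX))

theorem not_dvd_sigmaCore {p : ℕ} (hp : p.Prime) (h : p ∉ sigma M) : ¬ p ∣ Nat.card (sigmaCore M) :=
  fun hd => h (mem_sigma_of_dvd_sigmaCore hG hM hp hd)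

/-- a subgroup of `M` all of whose primes are in `σ(M)` lies in `M_σ` -/
theorem le_sigmaCore {X : Subgroup G} (hXM : X ≤ M)
    (hX : ∀ p : ℕ, p.Prime → p ∣ Nat.card X → p ∈ sigma M) : X ≤ sigmaCore M := by
  set N := piCore (sigma M) M with hN
  have hidx : (sigmaCore M).relIndex M = N.index := by
    show ((N.map M.subtype).subgroupOf M).index = N.index
    rw [subgroupOf, comap_map_eq_self_of_injective M.subtype_injective]
  have h1 : N.relIndex (X.subgroupOf M) = 1 := by
    by_contra h1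
    obtain ⟨p, hp, hpd⟩ := Nat.exists_prime_and_dvd h1
    have h2 : p ∣ Nat.card X := by
      rw [← Cfsg.Agent.Lib.Helper30SZ.card_subgroupOf_of_le hXM]
      exact hpd.trans (relIndex_dvd_card _ _)
    apply (Cfsg.Agent.S1350.result hG M hM).1.2.2 p hp (hX p hp h2)
    rw [hidx]
    exact hpd.trans (relIndex_dvd_index_of_normal _ _)
  rw [relIndex_eq_one] at h1
  intro x hx
  exact ⟨⟨x, hXM hx⟩, h1 (mem_subgroupOf.mpr hx), rfl⟩

/-- every `σ(M)'`-subgroup of `M` lies in a complement of `M_σ` -/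
theorem exists_compl_ge {X : Subgroup G} (hXM : X ≤ M)
    (hX : ∀ p : ℕ, p.Prime → p ∣ Nat.card X → p ∉ sigma M) :
    ∃ E : Subgroup G, IsComplIn E (sigmaCore M) M ∧ X ≤ E := by
  have hs : Group.IsSolvable M := sol hG hM.1
  have h50 := Cfsg.Agent.S1350.result hG M hM
  set S := sigmaCore M with hS
  have hSM : S ≤ M := sigmaCore_le M
  have hcard : Nat.card M = S.relIndex M * Nat.card S := by
    have := (S.subgroupOf M).card_mul_index
    rw [Cfsg.Agent.Lib.Helper30SZ.card_subgroupOf_of_le hSM] at this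
    rw [mul_comm]; exact this.symm
  have hcop : (S.relIndex M).Coprime (Nat.card S) := by
    rw [Nat.coprime_iff_gcd_eq_one]
    by_contra hne
    obtain ⟨p, hp, hpd⟩ := Nat.exists_prime_and_dvd hne
    exact h50.1.2.2 p hp (h50.1.2.1 p hp (hpd.trans (Nat.gcd_dvd_right _ _)))
      (hpd.trans (Nat.gcd_dvd_left _ _))
  have hXc : (Nat.card (X.subgroupOf M)).Coprime (Nat.card S) := by
    rw [Cfsg.Agent.Lib.Helper30SZ.card_subgroupOf_of_le hXM, Nat.coprime_iff_gcd_eq_one]
    by_contra hne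
    obtain ⟨p, hp, hpd⟩ := Nat.exists_prime_and_dvd hne
    exact hX p hp (hpd.trans (Nat.gcd_dvd_left _ _))
      (h50.1.2.1 p hp (hpd.trans (Nat.gcd_dvd_right _ _)))
  obtain ⟨H, hH, hXH⟩ := Cfsg.Agent.Lib.Helper12Hall.hall_dominance (G := M) _ _ hcard hcop
    (X.subgroupOf M) hXc
  have hHc : Nat.card (H.map M.subtype) = S.relIndex M := by
    rw [card_map_of_injective M.subtype_injective, hH]
  have hcompl : IsComplement' H (S.subgroupOf M) := by
    apply isComplement'_of_coprime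
    · rw [hH, Cfsg.Agent.Lib.Helper30SZ.card_subgroupOf_of_le hSM, hcard]
    · rw [hH, Cfsg.Agent.Lib.Helper30SZ.card_subgroupOf_of_le hSM]; exact hcop
  refine ⟨H.map M.subtype, ⟨map_subtype_le H, hSM, ?_, ?_⟩, ?_⟩
  · rw [inf_comm]
    exact Cfsg.Agent.Lib.Helper30SZ.inf_eq_bot_of_coprime (by rw [hHc]; exact hcop)
  · intro m hm
    obtain ⟨⟨a, b⟩, hab⟩ := hcompl.2 ⟨m, hm⟩
    refine ⟨a.1.1, ⟨a.1, a.2, rfl⟩, b.1.1, mem_subgroupOf.mp b.2, ?_⟩
    exact (congrArg Subtype.val hab).symm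
  · intro x hx
    exact ⟨⟨x, hXM hx⟩, hXH (mem_subgroupOf.mpr hx), rfl⟩

end compl

end Cfsg.Agent.Lib.Helper31BGS
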