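import Cfsg.Agent.Lib.Helper2BGc
import Cfsg.Agent.Lib.Helper14Family

/-!
Bender-Glauberman 10.8: main steps.
-/

set_option autoImplicit false
set_option linter.unusedSectionVars false
open Cfsg

namespace Cfsg.Agent.Lib.Helper2BGd

open Subgroup
open scoped commutatorElement
open Cfsg.Agent.Lib.Helper30Trans Cfsg.Agent.Lib.Helper24BG Cfsg.Agent.Lib.Helper24BG2
open Cfsg.Agent.Lib.Helper2KWa Cfsg.Agent.Lib.Helper2BGa Cfsg.Agent.Lib.Helper2BGb
open Cfsg.Agent.Lib.Helper2BGc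
open Cfsg.Agent.Lib.Helper37Cores Cfsg.Agent.Lib.Helper11Frobenius
open Cfsg.Agent.Lib.Helper3NarrowAut Cfsg.Agent.Lib.Helper3NarrowApp

variable {G : Type*} [Group G] [Finite G]

/-- a Sylow subgroup of `G` with a maximal elementary abelian subgroup of order `p ^ 2` -/
theorem hasMaxSq_of_not_ideal {p : ℕ} [hp : Fact p.Prime] (hr : ¬ PRankLE p 2 G)
    (hi : ¬ IsIdealPrime p G) : ∃ P : Sylow p G, HasMaxSq p ↥(P : Subgroup G) := by
  unfold IsIdealPrime at hi
  push Not at hi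
  obtain ⟨P, A, hAP, hAe, hA2, hmax⟩ := hi hp.out hr
  refine ⟨P, A.subgroupOf P, Cfsg.Agent.Lib.Helper14Family.elemAb_subgroupOf hAe, ?_, ?_⟩
  · rw [Cfsg.Agent.Lib.Helper30SZ.card_subgroupOf_of_le hAP, hA2]
  · intro B hB hle
    have h1 : A ≤ B.map (P : Subgroup G).subtype := by
      intro a ha
      exact ⟨⟨a, hAP ha⟩, hle (mem_subgroupOf.mpr ha), rfl⟩
    have h2 := hmax (B.map (P : Subgroup G).subtype) (map_subtype_le _)
      (Cfsg.Agent.Lib.Helper14Family.elemAb_map_subtype hB)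
    have h3 : A = B.map (P : Subgroup G).subtype := by
      by_contra hne
      exact h2 (lt_of_le_of_ne h1 hne)
    apply le_antisymm _ hle
    intro b hb
    rw [mem_subgroupOf, h3]
    exact ⟨b, hb, rfl⟩

/-- B-G 10.8(c) for `↥M`. -/
theorem step1 (hG : IsMinSimpleOddOrder G) {M : Subgroup G} (hM : IsCoatom M) {p : ℕ}
    [hp : Fact p.Prime] (hpM : p ∣ Nat.card M) (hpβ : p ∉ beta M) :
    (∀ q : ℕ, q.Prime → q ∣ (pPrimeCore p ↥M).index → q ≤ p) ∧
      HasNormalPComplement p ↥(commutator ↥M) := by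
  have : Group.IsSolvable ↥M := sol hG hM.1
  have hodd : Odd (Nat.card M) := odd_sub hG M
  by_cases hr : PRankLE p 2 M
  · have := Cfsg.Agent.S1450.result hodd p hpM hr
    exact ⟨this.1, this.2.2.1⟩
  · have hα : p ∈ alpha M := ⟨hp.out, hr⟩
    have hi : ¬ IsIdealPrime p G := fun h => hpβ ⟨hα, h⟩
    have hrG : ¬ PRankLE p 2 G := fun h => hr (prank_of_injective M.subtype M.subtype_injective h)
    obtain ⟨P, hP⟩ := hasMaxSq_of_not_ideal hrG hi
    obtain ⟨S⟩ : Nonempty (Sylow p M) := inferInstance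
    have hS := isSyl_of_sylow S
    have hStop := sigma_syl_top (alpha_subset_sigma hG hM hα) hS
    have e1 : ↥(S : Subgroup M) ≃* ↥((S : Subgroup M).map M.subtype) :=
      (S : Subgroup M).equivMapOfInjective M.subtype M.subtype_injective
    have e2 : ↥(P : Subgroup G) ≃* ↥((hStop.toSylowTop : Sylow p G) : Subgroup G) :=
      Sylow.equiv P hStop.toSylowTop
    have e3 : ↥(P : Subgroup G) ≃* ↥(S : Subgroup M) := e2.trans e1.symm
    have := main1455' hodd p hpM S (hasMaxSq_congr e3 hP)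
      (Cfsg.Agent.S1410.result hG p M hM.1)
    exact ⟨this.1, this.2.2.1⟩

/-- `M'` has a normal `p`-complement. -/
theorem npc_derived (hG : IsMinSimpleOddOrder G) {M : Subgroup G} (hM : IsCoatom M) {p : ℕ}
    [hp : Fact p.Prime] (hpM : p ∣ Nat.card M) (hpβ : p ∉ beta M) : HasNPC p ↥⁅M, M⁆ := by
  have h1 : HasNPC p ↥(commutator ↥M) := hasNPC_iff.mpr (step1 hG hM hpM hpβ).2
  have e1 : ↥(commutator ↥M) ≃* ↥((commutator ↥M).map M.subtype) :=
    (commutator ↥M).equivMapOfInjective M.subtype M.subtype_injective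
  have e2 : ↥((commutator ↥M).map M.subtype) ≃* ↥⁅M, M⁆ :=
    MulEquiv.subgroupCongr (map_subtype_commutator M)
  exact hasNPC_congr (e1.trans e2) h1

theorem npc_of_le {p : ℕ} [hp : Fact p.Prime] {D Y : Subgroup G} (h : HasNPC p ↥D) (hYD : Y ≤ D) :
    HasNPC p ↥Y :=
  hasNPC_congr (subgroupOfEquivOfLe hYD) (h.subgroup (Y.subgroupOf D))

/-- the primes of `M` outside `β(M)` -/
def T (M : Subgroup G) : Set ℕ := {q | q.Prime ∧ q ∣ Nat.card M ∧ q ∉ beta M}

theorem T_finite (M : Subgroup G) : (T M).Finite := by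
  apply Set.Finite.subset (Set.finite_Iic (Nat.card M))
  intro q hq
  exact Nat.le_of_dvd Nat.card_pos hq.2.1

/-- the intersection of the `O_{q'}(M')`, `q ∉ β(M)` -/
def KK (M : Subgroup G) : Subgroup G := ⁅M, M⁆ ⊓ ⨅ q : T M, coreOf (q : ℕ) ⁅M, M⁆

theorem mem_KK {M : Subgroup G} {x : G} :
    x ∈ KK M ↔ x ∈ ⁅M, M⁆ ∧ ∀ q ∈ T M, x ∈ coreOf q ⁅M, M⁆ := by
  simp [KK, mem_inf, mem_iInf]

theorem le_normalizer_derived (M : Subgroup G) : M ≤ normalizer ((⁅M, M⁆ : Subgroup G) : Set G) := by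
  rw [le_normalizer_iff]
  intro g hg x hx
  have h1 : x ∈ M := commutator_le_self M hx
  have : g * x * g⁻¹ = ⁅g, x⁆ * x := by rw [commutatorElement_def]; group
  rw [this]
  exact mul_mem (commutator_mem_commutator hg h1) hx

theorem KK_le_beta_core (M : Subgroup G) : KK M ≤ piCoreOf (beta M) M := by
  apply le_piCoreOf
  · exact inf_le_left.trans (commutator_le_self M)
  · rw [le_normalizer_iff]
    intro g hg x hx
    rw [mem_KK] at hx ⊢
    refine ⟨le_normalizer_iff.mp (le_normalizer_derived M) g hg x hx.1, fun q hq => ?_⟩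
    exact le_normalizer_iff.mp ((le_normalizer_derived M).trans
      (normalizer_le_normalizer_coreOf q _)) g hg x (hx.2 q hq)
  · intro r hr hd
    by_contra hβ
    have hrM : r ∣ Nat.card M :=
      hd.trans (card_dvd_of_le (inf_le_left.trans (commutator_le_self M)))
    have hrT : r ∈ T M := ⟨hr, hrM, hβ⟩
    have hle : KK M ≤ coreOf r ⁅M, M⁆ := fun x hx => (mem_KK.mp hx).2 r hrT
    have h1 := card_coreOf_coprime r ⁅M, M⁆
    have h2 : r ∣ Nat.card (coreOf r ⁅M, M⁆) := hd.trans (card_dvd_of_le hle)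
    exact hr.one_lt.ne' (Nat.Coprime.eq_one_of_dvd h1.symm h2)

theorem beta_subset_sigma (hG : IsMinSimpleOddOrder G) {M : Subgroup G} (hM : IsCoatom M) {p : ℕ}
    (hp : p ∈ beta M) : p ∈ sigma M := alpha_subset_sigma hG hM hp.1

theorem syl_le_KK (hG : IsMinSimpleOddOrder G) {M : Subgroup G} (hM : IsCoatom M) {p : ℕ}
    [hp : Fact p.Prime] (hpβ : p ∈ beta M) {P : Subgroup G} (hP : IsSyl p P M) : P ≤ KK M := by
  have hPD : P ≤ ⁅M, M⁆ := syl_le_derived hG hM (beta_subset_sigma hG hM hpβ) hP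
  intro x hx
  rw [mem_KK]
  refine ⟨hPD hx, fun q hq => ?_⟩
  have := Fact.mk hq.1
  refine le_coreOf_of_npc (npc_derived hG hM hq.2.1 hq.2.2) hPD ?_ hx
  obtain ⟨k, hk⟩ := IsPGroup.iff_card.mp hP.2.1
  rw [hk]
  apply Nat.Coprime.pow_left
  rw [Nat.coprime_primes hp.out hq.1]
  rintro rfl
  exact hq.2.2 hpβ

theorem syl_le_beta_core (hG : IsMinSimpleOddOrder G) {M : Subgroup G} (hM : IsCoatom M) {p : ℕ}
    [hp : Fact p.Prime] (hpβ : p ∈ beta M) {P : Subgroup G} (hP : IsSyl p P M) :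
    P ≤ piCoreOf (beta M) M := (syl_le_KK hG hM hpβ hP).trans (KK_le_beta_core M)

/-- B-G 10.8(a) -/
theorem beta_hall (hG : IsMinSimpleOddOrder G) {M : Subgroup G} (hM : IsCoatom M) :
    IsPiHallOf (beta M) (piCoreOf (beta M) M) M ∧ IsPiHall (beta M) (piCoreOf (beta M) M) := by
  refine ⟨⟨piCoreOf_le _ _, card_piCoreOf _ _, ?_⟩, card_piCoreOf _ _, ?_⟩
  · intro p hp hpβ hd
    have := Fact.mk hp
    obtain ⟨S⟩ : Nonempty (Sylow p M) := inferInstance
    have hS := isSyl_of_sylow S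
    exact IsSyl.not_dvd_relIndex hS (hd.trans (relIndex_dvd_of_le_left M (syl_le_beta_core hG hM hpβ hS)))
  · intro p hp hpβ hd
    have := Fact.mk hp
    obtain ⟨S⟩ : Nonempty (Sylow p M) := inferInstance
    have hS := isSyl_of_sylow S
    have hStop := sigma_syl_top (beta_subset_sigma hG hM hpβ) hS
    have h1 := IsSyl.not_dvd_relIndex hStop
    rw [relIndex_top_right] at h1
    exact h1 (hd.trans (index_dvd_of_le (syl_le_beta_core hG hM hpβ hS)))

/-- B-G 10.8(b) -/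
theorem exists_nilpotent_hall (hG : IsMinSimpleOddOrder G) {M : Subgroup G} (hM : IsCoatom M)
    {Y : Subgroup G} (hBY : piCoreOf (beta M) M ≤ Y) (hYD : Y ≤ ⁅M, M⁆) :
    ∃ H : Subgroup G, IsPiHallOf {q | q.Prime ∧ q ∉ beta M} H Y ∧ Group.IsNilpotent H := by
  set B := piCoreOf (beta M) M with hB
  have hYM : Y ≤ M := hYD.trans (commutator_le_self M)
  have hhall := (beta_hall hG hM).1
  have hrel : ∀ p : ℕ, p.Prime → p ∈ beta M → ¬ p ∣ B.relIndex Y := by
    intro p hp hpβ hd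
    exact hhall.2.2 p hp hpβ (hd.trans (Dvd.intro _ (relIndex_mul_relIndex B Y M hBY hYM)))
  have hcop : (Nat.card B).Coprime (B.relIndex Y) := by
    apply Nat.Coprime.symm
    apply Nat.coprime_of_dvd
    intro k hk hk1 hk2
    exact hrel k hk (hhall.2.1 k hk hk2) hk1
  obtain ⟨H, hHY, hBH, hcard⟩ := exists_compl_of_normal_hall hBY
    (hYM.trans (le_normalizer_piCoreOf _ _)) hcop
  have hc1 : Nat.card B * B.relIndex Y = Nat.card Y :=
    Cfsg.Agent.Lib.Helper27Core.card_mul_relIndex hBY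
  have hc2 : Nat.card H * H.relIndex Y = Nat.card Y :=
    Cfsg.Agent.Lib.Helper27Core.card_mul_relIndex hHY
  have hH1 : Nat.card H = B.relIndex Y :=
    Nat.eq_of_mul_eq_mul_left Nat.card_pos (hcard.trans hc1.symm)
  have hH2 : H.relIndex Y = Nat.card B := by
    apply Nat.eq_of_mul_eq_mul_left (Nat.card_pos (α := H))
    rw [hc2, ← hcard, mul_comm]
  refine ⟨H, ⟨hHY, ?_, ?_⟩, ?_⟩
  · intro p hp hd
    refine ⟨hp, fun hpβ => hrel p hp hpβ (hH1 ▸ hd)⟩
  · intro p hp hpβ hd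
    rw [hH2] at hd
    exact hpβ.2 (hhall.2.1 p hp hd)
  · refine nilpotent_of_npc (hHY.trans hYD) (T M) (T_finite M) (fun q hq => hq.1) ?_ ?_
    · intro q hq
      have := Fact.mk hq.1
      exact npc_derived hG hM hq.2.1 hq.2.2
    · intro x hx hxq
      have h1 : x ∈ KK M := mem_KK.mpr ⟨hYD (hHY hx), hxq⟩
      have h2 : x ∈ B ⊓ H := ⟨KK_le_beta_core M h1, hx⟩
      rwa [hBH, mem_bot] at h2

theorem beta_core_le_sigmaCore (hG : IsMinSimpleOddOrder G) {M : Subgroup G} (hM : IsCoatom M) :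
    piCoreOf (beta M) M ≤ sigmaCore M :=
  pi_le_sigmaCore hG hM (piCoreOf_le _ _)
    (fun p hp hd => beta_subset_sigma hG hM (card_piCoreOf _ _ p hp hd))

end Cfsg.Agent.Lib.Helper2BGd
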