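import Mathlib
import Cfsg.Agent.Lib.Helper30BG
import Cfsg.Agent.Lib.Helper31BGS
import Cfsg.Agent.Lib.Helper65RelHall
import Cfsg.Agent.S1414
import Cfsg.Agent.S1417

/-!
Bender-Glauberman, end of Section 12 (ambient-subgroup form): Frattini arguments, conjugation into
a supplement of a normal Hall subgroup, `M = M_β N_M(S)` for a Sylow `q`-subgroup `S`,
`q ∈ σ(M) \ β(M)`, and the embedding of `σ(M)`-subgroups.
-/

set_option autoImplicit false
open Cfsg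

namespace Cfsg.Agent.Lib.Helper37BG

open Subgroup
open Cfsg.Agent.Lib.Helper30Trans
open Cfsg.Agent.Lib.Helper24BG
open Cfsg.Agent.Lib.Helper24BG2
open Cfsg.Agent.Lib.Helper68BGA
open Cfsg.Agent.Lib.Helper27BGa
open Cfsg.Agent.Lib.Helper30BG
open Cfsg.Agent.Lib.Helper31BGS

universe u
variable {G : Type u} [Group G] [Finite G]

/-- conjugates of a subgroup of `K` by elements normalizing `K` stay in `K` -/
theorem cj_le_of_mem_normalizer {K S : Subgroup G} {x : G} (hx : x ∈ normalizer (K : Set G))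
    (hS : S ≤ K) : cj x S ≤ K := by
  have := cj_mono (k := x) hS
  rwa [cj_eq_self_of_mem_normalizer hx] at this

/-- Frattini argument, ambient form -/
theorem frattini {p : ℕ} [Fact p.Prime] {X K S : Subgroup G} (hXK : X ≤ normalizer (K : Set G))
    (hKX : K ≤ X) (hS : IsSyl p S K) : X ≤ K ⊔ (X ⊓ normalizer (S : Set G)) := by
  intro x hx
  have h1 : cj x S ≤ K := cj_le_of_mem_normalizer (hXK hx) hS.1
  obtain ⟨k, hk, hle⟩ := exists_cj_le hS (hS.2.1.map _) h1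
  rw [← cj_mul] at hle
  have h2 : cj (k * x) S = S := eq_of_le_of_card_ge hle (by rw [card_cj])
  have h3 : k * x ∈ normalizer (S : Set G) := mem_normalizer_iff_map_conj_eq.mpr h2
  have : x = k⁻¹ * (k * x) := by group
  rw [this]
  exact mul_mem_sup (K.inv_mem hk) ⟨X.mul_mem (hKX hk) hx, h3⟩

/-- a subgroup of order prime to the index of a normal subgroup lies in it -/
theorem le_of_coprime_relIndex {N X Y : Subgroup G} (hXN : X ≤ normalizer (N : Set G))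
    (hYX : Y ≤ X) (hc : (Nat.card Y).Coprime (N.relIndex X)) : Y ≤ N := by
  have hn : (N.subgroupOf X).Normal := normal_subgroupOf_of_le_normalizer hXN
  have h1 : (N.subgroupOf X).relIndex (Y.subgroupOf X) = 1 := by
    have h2 : (N.subgroupOf X).relIndex (Y.subgroupOf X) ∣ Nat.card Y := by
      rw [← Cfsg.Agent.Lib.Helper30SZ.card_subgroupOf_of_le hYX]
      exact relIndex_dvd_card _ _
    have h3 : (N.subgroupOf X).relIndex (Y.subgroupOf X) ∣ N.relIndex X :=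
      relIndex_dvd_index_of_normal _ _
    exact Nat.eq_one_of_dvd_coprimes hc h2 h3
  rw [relIndex_eq_one] at h1
  intro y hy
  exact mem_subgroupOf.mp (h1 (mem_subgroupOf.mpr (show ((⟨y, hYX hy⟩ : X) : G) ∈ Y from hy)))

theorem card_eq_mul_relIndex {H X : Subgroup G} (h : H ≤ X) :
    Nat.card X = Nat.card H * H.relIndex X := by
  have := (H.subgroupOf X).card_mul_index
  rw [Cfsg.Agent.Lib.Helper30SZ.card_subgroupOf_of_le h] at this
  exact this.symm

/-- In a solvable group `X = B D` with `B` a normal Hall subgroup, every subgroup of order prime to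
`|B|` is conjugate into `D`. -/
theorem conj_into {X B D Y : Subgroup G} (hs : Group.IsSolvable X) (hBX : B ≤ X)
    (hXB : X ≤ normalizer (B : Set G)) (hDX : D ≤ X) (hBD : X ≤ B ⊔ D)
    (hcop : (B.relIndex X).Coprime (Nat.card B)) (hYX : Y ≤ X)
    (hY : (Nat.card Y).Coprime (Nat.card B)) : ∃ m ∈ X, cj m Y ≤ D := by
  set m := B.relIndex X with hm
  set n := Nat.card B with hn
  have hX : Nat.card X = m * n := by rw [card_eq_mul_relIndex hBX, mul_comm]
  have hXeq : D ⊔ B = X := le_antisymm (sup_le hDX hBX) (by rw [sup_comm]; exact hBD)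
  -- order of `D`
  have hD : Nat.card D = m * Nat.card (D ⊓ B : Subgroup G) := by
    have h1 := Cfsg.Agent.Lib.Helper65RelHall.card_sup_mul_card_inf D B (hDX.trans hXB)
    rw [hXeq, hX] at h1
    have hn0 : 0 < n := Nat.card_pos
    have : n * (m * Nat.card (D ⊓ B : Subgroup G)) = n * Nat.card D := by
      rw [← hn] at h1
      nlinarith
    exact (Nat.eq_of_mul_eq_mul_left hn0 this).symm
  have hsD : Group.IsSolvable D := Cfsg.Agent.Lib.Helper30SZ.solvable_of_le hs hDX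
  have hcopD : m.Coprime (Nat.card (D ⊓ B : Subgroup G)) :=
    Nat.Coprime.coprime_dvd_right (card_dvd_of_le inf_le_right) hcop
  obtain ⟨D₀, hD₀⟩ := Cfsg.Agent.Lib.Helper12Hall.hall_exists (G := D) m _ hD hcopD
  obtain ⟨H, hH, hYH⟩ := Cfsg.Agent.Lib.Helper12Hall.hall_dominance (G := X) m n hX hcop
    (Y.subgroupOf X) (by rw [Cfsg.Agent.Lib.Helper30SZ.card_subgroupOf_of_le hYX]; exact hY)
  set D₁ : Subgroup X := (D₀.map D.subtype).subgroupOf X with hD₁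
  have hD₀X : D₀.map D.subtype ≤ X := (map_subtype_le _).trans hDX
  have hD₁c : Nat.card D₁ = m := by
    rw [hD₁, Cfsg.Agent.Lib.Helper30SZ.card_subgroupOf_of_le hD₀X,
      card_map_of_injective D.subtype_injective, hD₀]
  obtain ⟨g, hg⟩ := Cfsg.Agent.Lib.Helper12Hall.hall_conj (G := X) m n hX hcop H D₁ hH hD₁c
  refine ⟨g, g.2, ?_⟩
  rintro _ ⟨y, hy, rfl⟩
  have h1 : (⟨y, hYX hy⟩ : X) ∈ H := hYH (mem_subgroupOf.mpr hy)
  have h2 : g * ⟨y, hYX hy⟩ * g⁻¹ ∈ D₁ := by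
    rw [← hg]
    exact ⟨_, h1, rfl⟩
  have h3 : ((g * ⟨y, hYX hy⟩ * g⁻¹ : X) : G) ∈ D₀.map D.subtype := mem_subgroupOf.mp h2
  exact map_subtype_le _ h3

theorem le_normalizer_sup {A B : Subgroup G} {x : G} (hA : x ∈ normalizer (A : Set G))
    (hB : x ∈ normalizer (B : Set G)) : x ∈ normalizer ((A ⊔ B : Subgroup G) : Set G) := by
  rw [mem_normalizer_iff_map_conj_eq] at hA hB ⊢
  rw [Subgroup.map_sup, hA, hB]

theorem coprime_of_isPGroup {q : ℕ} [hq : Fact q.Prime] {Q : Subgroup G} (hQ : IsPGroup q Q) {n : ℕ}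
    (hn : ¬ q ∣ n) : (Nat.card Q).Coprime n := by
  obtain ⟨k, hk⟩ := hQ.exists_card_eq
  rw [hk]
  exact Nat.Coprime.pow_left _ ((Nat.Prime.coprime_iff_not_dvd hq.out).mpr hn)

/-- primes of `β(M)` lie in `σ(M)` -/
theorem beta_subset_sigma (hG : IsMinSimpleOddOrder G) {M : Subgroup G} (hM : IsCoatom M) {p : ℕ}
    (hp : p ∈ beta M) : p ∈ sigma M := by
  have : Fact p.Prime := ⟨hp.1.1⟩
  exact alpha_subset_sigma hG hM hp.1

/-- B-G 10.9 / 12.15(d): `M = M_β N_M(S)` for a Sylow `q`-subgroup `S` of `M`, `q ∈ σ(M) \ β(M)`. -/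
theorem le_beta_sup_normalizer (hG : IsMinSimpleOddOrder G) {M : Subgroup G} (hM : IsCoatom M) {q : ℕ}
    [hqp : Fact q.Prime] (hq : q ∈ sigma M) (hqβ : q ∉ beta M) {S : Subgroup G} (hS : IsSyl q S M) :
    M ≤ piCoreOf (beta M) M ⊔ (M ⊓ normalizer (S : Set G)) := by
  have h14 := Cfsg.Agent.S1414.result hG M hM
  set B := piCoreOf (beta M) M with hB
  set Sg := sigmaCore M with hSg
  obtain ⟨hBM, hBπ, hBi⟩ := h14.1
  obtain ⟨H, ⟨hHSg, hHπ, hHi⟩, hHn⟩ := h14.2.2.2.1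
  have hSgM : Sg ≤ M := sigmaCore_le M
  have hMB : M ≤ normalizer (B : Set G) := le_normalizer_piCoreOf _ _
  have hMSg : M ≤ normalizer (Sg : Set G) := le_normalizer_sigmaCore M
  have hBSg : B ≤ Sg := le_sigmaCore hG hM hBM (fun p hp hd => beta_subset_sigma hG hM (hBπ p hp hd))
  have hqB : ¬ q ∣ Nat.card B := fun h => hqβ (hBπ q hqp.out h)
  -- the Sylow `q`-subgroup of `H`
  obtain ⟨P⟩ : Nonempty (Sylow q H) := inferInstance
  have h03 : Group.IsNilpotent H ↔ ∀ (p : ℕ), Fact (Nat.Prime p) → ∀ (P : Sylow p H),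
      (P : Subgroup H).Normal := (Group.isNilpotent_of_finite_tfae (G := H)).out 0 3
  have hPn : (P : Subgroup H).Normal := h03.mp hHn q hqp P
  set Hq := (P : Subgroup H).map H.subtype with hHq
  have hHqH : Hq ≤ H := map_subtype_le _
  have hHqp : IsPGroup q Hq := P.2.map _
  have hHN : H ≤ normalizer (Hq : Set G) := Cfsg.Agent.Lib.Helper37Cores.le_normalizer_map_subtype _
  set T := B ⊔ Hq with hT
  have hTSg : T ≤ Sg := sup_le hBSg (hHqH.trans hHSg)
  -- `Σ = B H`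
  have hcopBH : (Nat.card H).Coprime (Nat.card B) :=
    Nat.coprime_of_dvd fun p hp h1 h2 => (hHπ p hp h1).2 (hBπ p hp h2)
  have hSgBH : Sg ≤ H ⊔ B := by
    have hle : H ⊔ B ≤ Sg := sup_le hHSg hBSg
    have hc := Cfsg.Agent.Lib.Helper65RelHall.card_sup_of_coprime' H B ((hHSg.trans hSgM).trans hMB) hcopBH
    have h1 := card_eq_mul_relIndex hHSg
    have h2 := card_eq_mul_relIndex hBSg
    have h3 : (H.relIndex Sg).Coprime (B.relIndex Sg) := by
      apply Nat.coprime_of_dvd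
      intro p hp hd1 hd2
      by_cases hpβ : p ∈ beta M
      · exact hBi p hp hpβ (hd2.trans ⟨_, (relIndex_mul_relIndex B Sg M hBSg hSgM).symm⟩)
      · exact hHi p hp ⟨hp, hpβ⟩ hd1
    have h4 : H.relIndex Sg ∣ Nat.card B := by
      apply h3.dvd_of_dvd_mul_right
      rw [← h2, h1]
      exact dvd_mul_left _ _
    have h5 : Nat.card Sg ≤ Nat.card (H ⊔ B : Subgroup G) := by
      rw [hc, h1]
      exact Nat.mul_le_mul_left _ (Nat.le_of_dvd Nat.card_pos h4)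
    exact (eq_of_le_of_card_ge hle h5).ge
  -- `T` is normal in `Σ`
  have hSgT : Sg ≤ normalizer (T : Set G) := by
    refine hSgBH.trans (sup_le ?_ ((le_sup_left : B ≤ T).trans le_normalizer))
    intro x hx
    exact le_normalizer_sup (hMB (hSgM (hHSg hx))) (hHN hx)
  have hqT : ¬ q ∣ T.relIndex Sg := by
    intro hd
    have h1 := relIndex_mul_relIndex Hq T Sg le_sup_right hTSg
    have h2 := relIndex_mul_relIndex Hq H Sg hHqH hHSg
    have h3 : q ∣ Hq.relIndex H * H.relIndex Sg := by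
      rw [h2, ← h1]; exact hd.mul_left _
    rcases (Nat.Prime.dvd_mul hqp.out).mp h3 with h | h
    · have h4 := P.not_dvd_index
      apply h4
      have : Hq.relIndex H = (P : Subgroup H).index := by
        show ((P : Subgroup H).map H.subtype).relIndex H = _
        rw [relIndex, subgroupOf, comap_map_eq_self_of_injective H.subtype_injective]
      rwa [this] at h
    · exact hHi q hqp.out ⟨hqp.out, hqβ⟩ h
  have hQT : ∀ Q : Subgroup G, IsPGroup q Q → Q ≤ Sg → Q ≤ T := fun Q hQ hQSg =>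
    le_of_coprime_relIndex hSgT hQSg (coprime_of_isPGroup hQ hqT)
  -- `T` is normal in `M`
  have hMT : M ≤ normalizer (T : Set G) := by
    intro m hm
    rw [mem_normalizer_iff_map_conj_eq]
    apply eq_of_le_of_card_ge _ (card_cj m T).symm.le
    show (B ⊔ Hq).map (MulAut.conj m).toMonoidHom ≤ T
    rw [Subgroup.map_sup]
    refine sup_le ?_ ?_
    · have := cj_eq_self_of_mem_normalizer (hMB hm)
      exact this.le.trans le_sup_left
    · exact hQT _ (hHqp.map _) (cj_le_of_mem_normalizer (hMSg hm) (hHqH.trans hHSg))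
  have hSSg : S ≤ Sg := le_sigmaCore hG hM hS.1 (by
    intro p hp hd
    obtain ⟨k, hk⟩ := hS.2.1.exists_card_eq
    rw [hk] at hd
    rwa [(Nat.prime_dvd_prime_iff_eq hp hqp.out).mp (hp.dvd_of_dvd_pow hd)])
  have hST : S ≤ T := hQT S hS.2.1 hSSg
  have hTM : T ≤ M := hTSg.trans hSgM
  have hS' : IsSyl q S T := hS.mono hST hTM
  have h1 := frattini hMT hTM hS'
  refine h1.trans (sup_le ?_ le_sup_right)
  -- `T = B S`
  have hc1 := Cfsg.Agent.Lib.Helper65RelHall.card_sup_of_coprime' S B (hS.1.trans hMB)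
    (coprime_of_isPGroup hS.2.1 hqB)
  have hc2 := Cfsg.Agent.Lib.Helper65RelHall.card_sup_of_coprime' Hq B
    (((hHqH.trans hHSg).trans hSgM).trans hMB) (coprime_of_isPGroup hHqp hqB)
  obtain ⟨g, -, hg⟩ := exists_cj_le hS' hHqp (le_sup_right : Hq ≤ T)
  have hc3 : Nat.card Hq ≤ Nat.card S := by
    rw [← card_cj g Hq]; exact card_le_of_le hg
  have hTeq : S ⊔ B = T := by
    apply eq_of_le_of_card_ge (sup_le hST le_sup_left)
    rw [hc1, hT, sup_comm, hc2]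
    exact Nat.mul_le_mul_right _ hc3
  rw [← hTeq]
  exact sup_le ((le_inf hS.1 le_normalizer).trans le_sup_right) le_sup_left

theorem cj_normalizer (g : G) (H : Subgroup G) :
    cj g (normalizer (H : Set G)) = normalizer ((cj g H : Subgroup G) : Set G) :=
  map_equiv_normalizer_eq H (MulAut.conj g)

/-- a Sylow `q`-subgroup of `Ms` contained in another maximal subgroup has `q ∉ β(Ms)` -/
theorem not_mem_beta_of_le (hG : IsMinSimpleOddOrder G) {M Ms : Subgroup G} (hM : IsCoatom M)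
    (hMs : IsCoatom Ms) (hne : Ms ≠ M) {q : ℕ} [Fact q.Prime] {S : Subgroup G} (hS : IsSyl q S Ms)
    (hSM : S ≤ M) : q ∉ beta Ms := by
  intro hβ
  have h1 : ¬ PRankLE q 2 S := fun h => hβ.1.2 (rank_of_isSyl hS h)
  obtain ⟨L, -, hu⟩ := Cfsg.Agent.Lib.Helper27BGa.uniq_of_rank3 hG (pgroup_ne_top hG hS.2.1) h1
  exact hne ((hu Ms ⟨hMs, hS.1⟩).trans (hu M ⟨hM, hSM⟩).symm)

/-- B-G 12.15(d): if `q ∈ σ(Ms)`, `S` is a Sylow `q`-subgroup of `Ms` and `N(S) ≤ M ≠ Ms`, then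
`Ms = Ms_β (M ∩ Ms)`. -/
theorem le_beta_sup_inf (hG : IsMinSimpleOddOrder G) {M Ms : Subgroup G} (hM : IsCoatom M)
    (hMs : IsCoatom Ms) (hne : Ms ≠ M) {q : ℕ} [Fact q.Prime] (hq : q ∈ sigma Ms) {S : Subgroup G}
    (hS : IsSyl q S Ms) (hN : normalizer (S : Set G) ≤ M) :
    Ms ≤ piCoreOf (beta Ms) Ms ⊔ (M ⊓ Ms) := by
  have h1 := le_beta_sup_normalizer hG hMs hq
    (not_mem_beta_of_le hG hM hMs hne hS (le_normalizer.trans hN)) hS
  exact h1.trans (sup_le_sup le_rfl (le_inf (inf_le_right.trans hN) inf_le_left))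

/-- `σ(M) ∩ β(Ms) = ∅` for nonconjugate maximal subgroups -/
theorem sigma_beta_disjoint (hG : IsMinSimpleOddOrder G) {M Ms : Subgroup G} (hM : IsCoatom M)
    (hMs : IsCoatom Ms) (ha : ∀ g : G, Ms ≠ cj g M) {r : ℕ} (hr : r ∈ sigma M) (hβ : r ∈ beta Ms) :
    False := by
  have : Fact r.Prime := ⟨hr.1⟩
  obtain ⟨R, hRM, hRt, -, -⟩ := sigma_data hr
  obtain ⟨Rs, hRs, -, -, -⟩ := sigma_data (beta_subset_sigma hG hMs hβ)
  have h1 : ¬ PRankLE r 2 Rs := fun h => hβ.1.2 (rank_of_isSyl hRs h)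
  obtain ⟨L, -, hu⟩ := Cfsg.Agent.Lib.Helper27BGa.uniq_of_rank3 hG (pgroup_ne_top hG hRs.2.1) h1
  obtain ⟨g, -, hg⟩ := exists_cj_le hRt hRs.2.1 le_top
  have h2 : Rs ≤ cj g⁻¹ M := cj_le_iff.mp (hg.trans hRM.1)
  exact ha g⁻¹ ((hu Ms ⟨hMs, hRs.1⟩).trans (hu _ ⟨isCoatom_cj hM _, h2⟩).symm)

/-- the index of a supplement of `B` divides `|B|` -/
theorem relIndex_dvd_card_of_le_sup {X B D : Subgroup G} (hBX : B ≤ X)
    (hXB : X ≤ normalizer (B : Set G)) (hDX : D ≤ X) (hBD : X ≤ B ⊔ D) :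
    D.relIndex X ∣ Nat.card B := by
  have hXeq : D ⊔ B = X := le_antisymm (sup_le hDX hBX) (by rw [sup_comm]; exact hBD)
  have h1 := Cfsg.Agent.Lib.Helper65RelHall.card_sup_mul_card_inf D B (hDX.trans hXB)
  rw [hXeq, card_eq_mul_relIndex hDX, mul_assoc] at h1
  exact ⟨_, (Nat.eq_of_mul_eq_mul_left Nat.card_pos h1).symm⟩

theorem not_cyclic_of_sq {q : ℕ} [hq : Fact q.Prime] {A : Subgroup G} (hA : IsElementaryAbelian q A)
    (hAc : Nat.card A = q ^ 2) : ¬ IsCyclic A := by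
  intro hc
  refine not_rank_of_elemAb (le_refl A) hA ?_ (rank_one_of_cyclic hq.out.pos)
  rw [hAc]
  exact Nat.pow_lt_pow_right hq.out.one_lt (by norm_num)

/-- B-G 12.15(e),(f): if `q ∈ σ(M) \ σ(Ms)`, `X ≠ 1` a `q`-subgroup of `M` with `N(X) ≤ Ms ≠ M`, then
`q ∈ τ₂(Ms)`, `Ms = Ms_σ (M ∩ Ms)` and `σ(M) ∩ σ(Ms) = ∅`. -/
theorem emb_ef (hG : IsMinSimpleOddOrder G) {M : Subgroup G} (hM : IsCoatom M) {q : ℕ}
    [hqp : Fact q.Prime] (hq : q ∈ sigma M) {X : Subgroup G} (hXq : IsPGroup q X) (hX1 : X ≠ ⊥)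
    (hXM : X ≤ M) {Ms : Subgroup G} (hMs : IsCoatom Ms) (hne : Ms ≠ M)
    (hNX : normalizer (X : Set G) ≤ Ms) (hqs : q ∉ sigma Ms) :
    q ∈ tau2 Ms ∧ Ms ≤ sigmaCore Ms ⊔ (M ⊓ Ms) ∧ sigmaCore Ms ⊓ M = ⊥ ∧
      ∀ r : ℕ, r ∈ sigma M → r ∈ sigma Ms → False := by
  have hXMs : X ≤ Ms := le_normalizer.trans hNX
  obtain ⟨S, hS, hXS⟩ := exists_isSyl_ge (le_inf hXM hXMs) hXq
  obtain ⟨ha, hb, hc⟩ := emb_abc hG hM hq hXq hX1 hXM hMs hne hNX hS hXS
  have hS1 : S ≠ ⊥ := fun h => hX1 (le_bot_iff.mp (h ▸ hXS))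
  have hq2 : q ≠ 2 := ne_two hG hXq hX1
  have hSnc : ¬ IsCyclic S := fun hcyc =>
    hqs (mem_sigma_of_isSyl hc hS1 ((normalizer_le_of_cyclic hcyc hXS).trans hNX))
  have hS1' : ¬ PRankLE q 1 S := fun h => hSnc (cyclic_of_rank_one hq2 hS.2.1 h)
  have hτ : q ∈ tau2 Ms := by
    refine ⟨hqp.out, hqs, ?_, fun h => hS1' (rank_le_of_le hc.1 h)⟩
    by_contra h2
    exact hqs (alpha_subset_sigma hG hMs ⟨hqp.out, h2⟩)
  obtain ⟨A, hAS, hA, hAc⟩ := exists_sq hS1'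
  have hAM : A ≤ M := hAS.trans (hS.1.trans inf_le_left)
  have hAMs : A ≤ Ms := hAS.trans hc.1
  have hAp : IsPGroup q A := isPGroup_of_elemAb hA
  have h17 := Cfsg.Agent.S1417.result hG Ms hMs q hτ A ⟨hAMs, hA, hAc⟩
  have hbot : sigmaCore Ms ⊓ M = ⊥ := h17.2.2.2.2.1 M hM hne.symm hAM
  have hqSg : ¬ q ∣ Nat.card (sigmaCore Ms) := not_dvd_sigmaCore hG hMs hqp.out hqs
  have hSgMs : sigmaCore Ms ≤ Ms := sigmaCore_le Ms
  have hNA : normalizer (A : Set G) ≤ M :=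
    norm_le_of_noncyclic hG hM hq hAp hAM (not_cyclic_of_sq hA hAc)
  -- Frattini
  have hsup : Ms ≤ sigmaCore Ms ⊔ (M ⊓ Ms) := by
    have hK : sigmaCore Ms ⊔ A ≤ Ms := sup_le hSgMs hAMs
    have hcard := Cfsg.Agent.Lib.Helper65RelHall.card_sup_of_coprime' A (sigmaCore Ms)
      (hAMs.trans (le_normalizer_sigmaCore Ms)) (coprime_of_isPGroup hAp hqSg)
    have hAK : IsSyl q A (sigmaCore Ms ⊔ A) := by
      refine ⟨le_sup_right, hAp, ?_⟩
      intro Q hQK hQ hAQ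
      symm
      apply eq_of_le_of_card_ge hAQ
      have h1 : Nat.card Q ∣ Nat.card A * Nat.card (sigmaCore Ms) := by
        rw [← hcard, sup_comm]; exact card_dvd_of_le hQK
      exact Nat.le_of_dvd Nat.card_pos ((coprime_of_isPGroup hQ hqSg).dvd_of_dvd_mul_right h1)
    have h1 := frattini h17.2.2.1 hK hAK
    refine h1.trans (sup_le (sup_le le_sup_left ((le_inf hAM hAMs).trans le_sup_right)) ?_)
    exact (le_inf (inf_le_right.trans hNA) inf_le_left).trans le_sup_right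
  refine ⟨hτ, hsup, hbot, ?_⟩
  intro r hr hrs
  have : Fact r.Prime := ⟨hr.1⟩
  obtain ⟨R, hRM, hRt, hRN, -⟩ := sigma_data hr
  obtain ⟨Rs, hRs, hRst, -, hRs1⟩ := sigma_data hrs
  obtain ⟨g, -, hg⟩ := exists_cj_le hRt hRs.2.1 le_top
  have hRs' : cj g⁻¹ R = Rs := hRst.2.2 _ le_top (hRt.2.1.map _) (cj_le_iff.mp hg)
  set M₀ := cj g⁻¹ M with hM₀
  have hM₀c : IsCoatom M₀ := isCoatom_cj hM _
  have hne₀ : Ms ≠ M₀ := ha g⁻¹
  have hN₀ : normalizer (Rs : Set G) ≤ M₀ := by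
    rw [← hRs', ← cj_normalizer]
    exact cj_mono hRN
  have h1 := le_beta_sup_inf hG hM₀c hMs hne₀ hrs hRs hN₀
  set B := piCoreOf (beta Ms) Ms with hB
  have h14 := (Cfsg.Agent.S1414.result hG Ms hMs).1
  have hqB : ¬ q ∣ Nat.card B := fun h => hqs (beta_subset_sigma hG hMs (h14.2.1 q hqp.out h))
  have h2 : ¬ q ∣ (M₀ ⊓ Ms).relIndex Ms := fun h =>
    hqB (h.trans (relIndex_dvd_card_of_le_sup h14.1 (le_normalizer_piCoreOf _ _) inf_le_right h1))
  obtain ⟨S₀, hS₀, -⟩ := exists_isSyl_ge (p := q) (bot_le : (⊥ : Subgroup G) ≤ M₀ ⊓ Ms) IsPGroup.of_bot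
  have hS₀' : IsSyl q S₀ Ms := isSyl_of_not_dvd_relIndex hS₀ inf_le_right h2
  have h3 : ¬ PRankLE q 1 S₀ := fun h => hτ.2.2.2 (rank_of_isSyl hS₀' h)
  obtain ⟨A₀, hA₀S, hA₀, hA₀c⟩ := exists_sq h3
  have h17' := Cfsg.Agent.S1417.result hG Ms hMs q hτ A₀ ⟨hA₀S.trans hS₀'.1, hA₀, hA₀c⟩
  have h4 := h17'.2.2.2.2.1 M₀ hM₀c hne₀.symm (hA₀S.trans (hS₀.1.trans inf_le_left))
  have h5 : Rs ≤ sigmaCore Ms := le_sigmaCore hG hMs hRs.1 (by
    intro p hp hd
    obtain ⟨k, hk⟩ := hRs.2.1.exists_card_eq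
    rw [hk] at hd
    rwa [(Nat.prime_dvd_prime_iff_eq hp hr.1).mp (hp.dvd_of_dvd_pow hd)])
  apply hRs1
  rw [← le_bot_iff, ← h4]
  exact le_inf h5 (le_normalizer.trans hN₀)

/-- B-G 12.16, main step: a `σ(M)`-subgroup normalizing a nontrivial `q`-subgroup of `M` is
conjugate into `M`. -/
theorem exists_cj_le_of_normalizes (hG : IsMinSimpleOddOrder G) {M : Subgroup G} (hM : IsCoatom M)
    {q : ℕ} [hqp : Fact q.Prime] (hq : q ∈ sigma M) {X Y : Subgroup G} (hXq : IsPGroup q X)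
    (hX1 : X ≠ ⊥) (hXM : X ≤ M) (hYX : Y ≤ normalizer (X : Set G))
    (hY : ∀ p : ℕ, p.Prime → p ∣ Nat.card Y → p ∈ sigma M) : ∃ g : G, cj g Y ≤ M := by
  by_cases hN : normalizer (X : Set G) ≤ M
  · exact ⟨1, by rw [cj_one]; exact hYX.trans hN⟩
  obtain ⟨Ms, hMs, hNX⟩ := exists_coatom (norm_ne_top hG hX1 (pgroup_ne_top hG hXq))
  have hne : Ms ≠ M := fun h => hN (h ▸ hNX)
  have hXMs : X ≤ Ms := le_normalizer.trans hNX
  have hs : Group.IsSolvable Ms := sol hG hMs.1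
  by_cases hqs : q ∈ sigma Ms
  · obtain ⟨S, hS, hXS⟩ := exists_isSyl_ge (le_inf hXM hXMs) hXq
    obtain ⟨ha, hb, hc⟩ := emb_abc hG hM hq hXq hX1 hXM hMs hne hNX hS hXS
    have h1 := le_beta_sup_inf hG hM hMs hne hqs hc hb
    have h14 := (Cfsg.Agent.S1414.result hG Ms hMs).1
    obtain ⟨m, -, hm⟩ := conj_into hs h14.1 (le_normalizer_piCoreOf _ _) inf_le_right h1
      (Nat.coprime_of_dvd fun p hp h2 h3 => h14.2.2 p hp (h14.2.1 p hp h3) h2) (hYX.trans hNX)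
      (Nat.coprime_of_dvd fun p hp h2 h3 =>
        sigma_beta_disjoint hG hM hMs ha (hY p hp h2) (h14.2.1 p hp h3))
    exact ⟨m, hm.trans inf_le_left⟩
  · obtain ⟨-, h1, -, h2⟩ := emb_ef hG hM hq hXq hX1 hXM hMs hne hNX hqs
    have h50 := (Cfsg.Agent.S1350.result hG Ms hMs).1
    obtain ⟨m, -, hm⟩ := conj_into hs h50.1 (le_normalizer_sigmaCore Ms) inf_le_right h1
      (Nat.coprime_of_dvd fun p hp h3 h4 => h50.2.2 p hp (h50.2.1 p hp h4) h3) (hYX.trans hNX)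
      (Nat.coprime_of_dvd fun p hp h3 h4 => h2 p (hY p hp h3) (h50.2.1 p hp h4))
    exact ⟨m, hm.trans inf_le_left⟩

/-- B-G 12.16: every nontrivial `σ(M)`-subgroup of `G` is conjugate to a subgroup of `M_σ`. -/
theorem exists_cj_le_sigmaCore (hG : IsMinSimpleOddOrder G) {M : Subgroup G} (hM : IsCoatom M)
    {Y : Subgroup G} (hY1 : Y ≠ ⊥) (hY : ∀ p : ℕ, p.Prime → p ∣ Nat.card Y → p ∈ sigma M) :
    ∃ g : G, cj g Y ≤ sigmaCore M := by
  have h50 := Cfsg.Agent.S1350.result hG M hM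
  have hYt : Y ≠ ⊤ := by
    rintro rfl
    have h1 : (sigmaCore M).index = 1 := by
      by_contra h1
      obtain ⟨p, hp, hpd⟩ := Nat.exists_prime_and_dvd h1
      exact h50.2.1.2 p hp (hY p hp (by
        rw [card_top]; exact hpd.trans (index_dvd_card _))) hpd
    rw [index_eq_one] at h1
    exact hM.1 (top_le_iff.mp (h1 ▸ sigmaCore_le M))
  have hs : Group.IsSolvable Y := sol hG hYt
  have hs' : Group.IsSolvable (⊤ : Subgroup Y) :=
    Group.isSolvable_of_isSolvable_injective (f := (⊤ : Subgroup Y).subtype) (subtype_injective _)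
  have hnt : (⊤ : Subgroup Y) ≠ ⊥ := by
    intro h
    apply hY1
    rw [eq_bot_iff]
    intro y hy
    have : (⟨y, hy⟩ : Y) ∈ (⊥ : Subgroup Y) := h ▸ mem_top _
    exact congrArg Subtype.val (mem_bot.mp this)
  obtain ⟨q, N, hq, hNn, -, hN1, hNq⟩ :=
    Cfsg.Agent.Lib.Helper65RelHall.exists_normal_pgroup_le (⊤ : Subgroup Y) hs' hnt
  have : Fact q.Prime := ⟨hq⟩
  set X := N.map Y.subtype with hX
  have hXq : IsPGroup q X := hNq.map _
  have hX1 : X ≠ ⊥ := fun h => hN1 ((map_eq_bot_iff_of_injective _ Y.subtype_injective).mp h)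
  have hXY : X ≤ Y := map_subtype_le _
  have hYX : Y ≤ normalizer (X : Set G) := Cfsg.Agent.Lib.Helper37Cores.le_normalizer_map_subtype _
  have hqσ : q ∈ sigma M := hY q hq (dvd_card_of_pgroup hXq hX1 hXY)
  obtain ⟨P, hPM, hPt, -, -⟩ := sigma_data hqσ
  obtain ⟨g, -, hg⟩ := exists_cj_le hPt hXq le_top
  obtain ⟨g', hg'⟩ := exists_cj_le_of_normalizes hG hM hqσ (hXq.map (MulAut.conj g).toMonoidHom)
    (X := cj g X) (Y := cj g Y)
    (fun h => hX1 ((map_eq_bot_iff_of_injective _ (MulAut.conj g).injective).mp h))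
    (hg.trans hPM.1) (by rw [← cj_normalizer]; exact cj_mono hYX)
    (by intro p hp hd; rw [card_cj] at hd; exact hY p hp hd)
  refine ⟨g' * g, ?_⟩
  rw [cj_mul]
  exact le_sigmaCore hG hM hg' (by
    intro p hp hd; rw [card_cj, card_cj] at hd; exact hY p hp hd)

end Cfsg.Agent.Lib.Helper37BG
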