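import Mathlib
import Cfsg.Agent.Lib.Helper37BG
import Cfsg.Agent.Lib.Helper5BGDisjoint

/-!
PROJECT 13 (Bender-Glauberman Section 13.1-13.7): vocabulary.
`cj g H = g H g⁻¹` (Helper30Trans), `IsSyl p P X` (Helper24BG).
-/

set_option autoImplicit false

namespace Cfsg.Agent.Lib.Helper30BG13Defs

open Cfsg Subgroup
open Cfsg.Agent.Lib.Helper30Trans Cfsg.Agent.Lib.Helper24BG

variable {G : Type*} [Group G]

/-- `M`, `H` maximal and not conjugate; the `t`-group `T ≤ M ∩ H`, `t ∉ σ(M)`, normalizes the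
`q`-subgroup `Q ≠ 1` of `M_σ ∩ H` and `Q = [Q,T]`. -/
structure Cfg (M H : Subgroup G) (t q : ℕ) (T Q : Subgroup G) : Prop where
  hM : IsCoatom M
  hH : IsCoatom H
  nc : ∀ g : G, H ≠ cj g M
  ht : t.Prime
  hq : q.Prime
  htM : t ∉ sigma M
  hT : IsPGroup t T
  hTM : T ≤ M
  hTH : T ≤ H
  hQ : IsPGroup q Q
  hQ1 : Q ≠ ⊥
  hQM : Q ≤ sigmaCore M
  hQH : Q ≤ H
  hTQ : T ≤ normalizer (Q : Set G)
  hcomm : ⁅Q, T⁆ = Q

/-- a counterexample to B-G 13.7: `p ∈ τ₁(M)`, `P ≤ M` of order `p`, `R ≤ C_M(P)` of prime order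
`r ∉ σ(M)`, `r ≠ p`, `Q ≠ 1` an `R`-invariant `q`-subgroup of `C_{M_σ}(P)` with `Q = [Q,R]` and
`C_Q(R) = 1`. -/
structure Cex (M : Subgroup G) (p r q : ℕ) (P R Q : Subgroup G) : Prop where
  hM : IsCoatom M
  hp : p ∈ tau1 M
  hPM : P ≤ M
  hP : Nat.card P = p
  hr : r.Prime
  hrM : r ∉ sigma M
  hrp : r ≠ p
  hRM : R ≤ M
  hR : Nat.card R = r
  hRP : R ≤ centralizer (P : Set G)
  hq : q.Prime
  hQ : IsPGroup q Q
  hQ1 : Q ≠ ⊥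
  hQM : Q ≤ sigmaCore M
  hQP : Q ≤ centralizer (P : Set G)
  hRQ : R ≤ normalizer (Q : Set G)
  hcomm : ⁅Q, R⁆ = Q
  hreg : Q ⊓ centralizer (R : Set G) = ⊥

end Cfsg.Agent.Lib.Helper30BG13Defs
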