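import Mathlib
import Cfsg.Agent.Lib.Helper30BG13Defs

/-!
PROJECT 131 (Bender-Glauberman 13.6, 13.10 - 13.13; architect helper2): vocabulary.
`cj g H = g H g⁻¹` (Helper30Trans), `IsSyl p P X` (Helper24BG).
-/

set_option autoImplicit false

namespace Cfsg.Agent.Lib.H2BG13bDefs

open Cfsg Subgroup
open Cfsg.Agent.Lib.Helper30Trans Cfsg.Agent.Lib.Helper24BG

variable {G : Type*} [Group G]

/-- "non-regular `τ₃`": `E` a complement of `M_σ` in the maximal subgroup `M`, `Q ≤ E` of order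
`q ∈ τ₃(M)` with `C_{M_σ}(Q) ≠ 1`, and `H` a maximal subgroup containing `N(Q)`. -/
structure NR (M E H Q : Subgroup G) (q : ℕ) : Prop where
  hM : IsCoatom M
  hE : IsComplIn E (sigmaCore M) M
  hH : IsCoatom H
  hq : q ∈ tau3 M
  hQE : Q ≤ E
  hQ : Nat.card Q = q
  hY : sigmaCore M ⊓ centralizer (Q : Set G) ≠ ⊥
  hN : normalizer (Q : Set G) ≤ H

end Cfsg.Agent.Lib.H2BG13bDefs
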