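import Mathlib.GroupTheory.Subgroup.Centralizer
import Mathlib.GroupTheory.Commutator.Basic
import Mathlib.GroupTheory.Index
import Mathlib.GroupTheory.OrderOfElement
import Mathlib.Tactic.Group
import Mathlib.Algebra.BigOperators.GroupWithZero.Action

set_option autoImplicit false
open scoped commutatorElement

namespace Cfsg.Agent.Lib.Helper2Coprime

open Subgroup

section Abstract

variable {A V : Type*} [Group A] [Fintype A] [CommGroup V] [MulDistribMulAction A V]

/-- The norm (product over the acting group). -/
noncomputable def normMap (A : Type*) {V : Type*} [Group A] [Fintype A] [CommGroup V]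
    [MulDistribMulAction A V] (v : V) : V := ∏ a : A, a • v

theorem normMap_mul (v w : V) : normMap A (v * w) = normMap A v * normMap A w := by
  simp only [normMap, smul_mul', Finset.prod_mul_distrib]

theorem normMap_one : normMap A (1 : V) = 1 := by
  simp only [normMap, smul_one, Finset.prod_const_one]

theorem normMap_inv (v : V) : normMap A v⁻¹ = (normMap A v)⁻¹ := by
  simp only [normMap, smul_inv', Finset.prod_inv_distrib]

theorem smul_normMap (b : A) (v : V) : b • normMap A v = normMap A v := by
  simp only [normMap, Finset.smul_prod', smul_smul]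
  exact Equiv.prod_comp (Equiv.mulLeft b) (fun a => a • v)

theorem normMap_smul (b : A) (v : V) : normMap A (b • v) = normMap A v := by
  simp only [normMap, smul_smul]
  exact Equiv.prod_comp (Equiv.mulRight b) (fun a => a • v)

theorem normMap_of_fixed (v : V) (h : ∀ a : A, a • v = v) :
    normMap A v = v ^ Fintype.card A := by
  simp only [normMap, h, Finset.prod_const, Finset.card_univ]

theorem pow_card_eq (v : V) :
    v ^ Fintype.card A = normMap A v * ∏ a : A, v * (a • v)⁻¹ := by
  simp only [normMap, Finset.prod_mul_distrib, Finset.prod_const, Finset.card_univ,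
    Finset.prod_inv_distrib]
  rw [mul_comm, mul_assoc, inv_mul_cancel, mul_one]

/-- The norm as a homomorphism. -/
noncomputable def normHom (A : Type*) (V : Type*) [Group A] [Fintype A] [CommGroup V]
    [MulDistribMulAction A V] : V →* V := MonoidHom.mk' (normMap A) normMap_mul

theorem normHom_apply (v : V) : normHom A V v = normMap A v := rfl

end Abstract

section Concrete

variable {G : Type*} [Group G] [Finite G]

open scoped IsMulCommutative in
theorem abelian_decomposition (A V : Subgroup G) [IsMulCommutative V]
    (hAV : A ≤ normalizer (V : Set G)) (hcop : (Nat.card A).Coprime (Nat.card V)) :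
    (V ⊓ centralizer (A : Set G)) ⊓ ⁅V, A⁆ = ⊥ ∧ (V ⊓ centralizer (A : Set G)) ⊔ ⁅V, A⁆ = V := by
  let _ : MulDistribMulAction A V :=
    MulDistribMulAction.compHom V (V.normalizerMonoidHom.comp (Subgroup.inclusion hAV))
  let _ := Fintype.ofFinite A
  have hsmul : ∀ (a : A) (v : V), ((a • v : V) : G) = a * v * (a : G)⁻¹ := fun a v => rfl
  have hcard : Fintype.card A = Nat.card A := Nat.card_eq_fintype_card.symm
  have hcomm_le : ⁅V, A⁆ ≤ (normHom A V).ker.map V.subtype := by
    rw [commutator_le]
    intro v hv a ha
    refine ⟨(⟨v, hv⟩ : V) * ((⟨a, ha⟩ : A) • (⟨v, hv⟩ : V))⁻¹, ?_, ?_⟩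
    · rw [SetLike.mem_coe, MonoidHom.mem_ker, normHom_apply, normMap_mul, normMap_inv, normMap_smul,
        mul_inv_cancel]
    · simp only [Subgroup.subtype_apply, Subgroup.coe_mul, Subgroup.coe_inv, hsmul,
        commutatorElement_def]
      group
  have hfix : ∀ v : V, (v : G) ∈ centralizer (A : Set G) ↔ ∀ a : A, a • v = v := by
    intro v
    constructor
    · intro h a
      apply Subtype.ext
      rw [hsmul, h a a.2, mul_inv_cancel_right]
    · intro h a ha
      have := congrArg Subtype.val (h ⟨a, ha⟩)
      rw [hsmul] at this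
      exact mul_inv_eq_iff_eq_mul.1 this
  constructor
  · rw [eq_bot_iff]
    rintro x ⟨⟨-, hxC⟩, hxc⟩
    obtain ⟨y, hy, rfl⟩ := hcomm_le hxc
    rw [SetLike.mem_coe, MonoidHom.mem_ker, normHom_apply,
      normMap_of_fixed y ((hfix y).1 hxC), hcard] at hy
    have h1 : orderOf y ∣ Nat.card A := orderOf_dvd_of_pow_eq_one hy
    have h2 : orderOf y ∣ Nat.card V := orderOf_dvd_natCard y
    have h3 : orderOf y = 1 := Nat.eq_one_of_dvd_coprimes hcop h1 h2
    rw [orderOf_eq_one_iff] at h3
    rw [h3]
    exact one_mem _
  · apply le_antisymm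
    · refine sup_le inf_le_left ?_
      exact hcomm_le.trans (map_subtype_le _)
    · intro v hv
      obtain ⟨u, hu⟩ := (powCoprime hcop.symm).surjective (⟨v, hv⟩ : V)
      rw [powCoprime_apply, ← hcard, pow_card_eq] at hu
      have hv' : v = ((normMap A u : V) : G) * ((∏ a : A, u * (a • u)⁻¹ : V) : G) := by
        rw [← Subgroup.coe_mul, hu]
      rw [hv']
      refine mul_mem (mem_sup_left ⟨(normMap A u).2, ?_⟩) (mem_sup_right ?_)
      · exact (hfix _).2 (fun a => smul_normMap a u)
      · rw [← mem_subgroupOf]
        apply Subgroup.prod_mem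
        intro a _
        rw [mem_subgroupOf]
        have : ((u * (a • u)⁻¹ : V) : G) = ⁅(u : G), (a : G)⁆ := by
          simp only [Subgroup.coe_mul, Subgroup.coe_inv, hsmul, commutatorElement_def]
          group
        rw [this]
        exact commutator_mem_commutator u.2 a.2

end Concrete

end Cfsg.Agent.Lib.Helper2Coprime
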