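import Mathlib
import Cfsg.Agent.Lib.Helper30BG
import Cfsg.Agent.Lib.Helper3Narrow
import Cfsg.Agent.Lib.Helper27Core
import Cfsg.Agent.S1350

/-!
Bender-Glauberman, Section 12: basic facts on `M_σ` (ambient forms) and `p`-group lemmas
used for Corollary 12.14.
-/

set_option autoImplicit false
set_option linter.style.haveILetI false
open Cfsg

namespace Cfsg.Agent.Lib.Helper30BG2

open Subgroup
open Cfsg.Agent.Lib.Helper30Trans
open Cfsg.Agent.Lib.Helper24BG
open Cfsg.Agent.Lib.Helper24BG2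
open Cfsg.Agent.Lib.Helper68BGA
open Cfsg.Agent.Lib.Helper27BGa
open Cfsg.Agent.Lib.Helper30BG

universe u
variable {G : Type u} [Group G]

/-- a subgroup of order prime to the index of a normal (in `M`) subgroup `T` lies in `T` -/
theorem le_of_normal_hall {T M U : Subgroup G} (hTM : T ≤ M)
    (hM : M ≤ Subgroup.normalizer (T : Set G)) (hUM : U ≤ M)
    (h : (Nat.card U).Coprime (T.relIndex M)) : U ≤ T := by
  haveI : (T.subgroupOf M).Normal := (Subgroup.normal_subgroupOf_iff_le_normalizer hTM).mpr hM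
  have h1 := Subgroup.relIndex_dvd_index_of_normal (T.subgroupOf M) (U.subgroupOf M)
  rw [Subgroup.relIndex_subgroupOf hUM] at h1
  have h2 : T.relIndex U ∣ Nat.card U := Subgroup.relIndex_dvd_card T U
  rw [← Subgroup.relIndex_eq_one]
  exact (Nat.coprime_self _).mp (Nat.Coprime.of_dvd h2 h1 h)

theorem sigmaCore_le (M : Subgroup G) : sigmaCore M ≤ M := map_subtype_le _

theorem le_normalizer_sigmaCore (M : Subgroup G) : M ≤ normalizer (sigmaCore M : Set G) :=
  Cfsg.Agent.Lib.Helper37Cores.le_normalizer_map_subtype _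

theorem elemAb_of_card_prime {p : ℕ} [Fact p.Prime] {X : Subgroup G} (hX : Nat.card X = p) :
    IsElementaryAbelian p X := by
  haveI : IsCyclic X := isCyclic_of_prime_card hX
  refine ⟨inferInstance, fun a ha => ?_⟩
  have := pow_card_eq_one' (G := X) (x := ⟨a, ha⟩)
  rw [hX] at this
  exact congrArg Subtype.val this

theorem isPGroup_of_card_prime {p : ℕ} [Fact p.Prime] {X : Subgroup G} (hX : Nat.card X = p) :
    IsPGroup p X := isPGroup_of_elemAb (elemAb_of_card_prime hX)

theorem ne_bot_of_card_prime {p : ℕ} [hp : Fact p.Prime] {X : Subgroup G} (hX : Nat.card X = p) :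
    X ≠ ⊥ := by
  rintro rfl
  rw [card_bot] at hX
  exact hp.out.one_lt.ne hX

/-- a subgroup of prime order not contained in `W` meets `W` trivially -/
theorem inf_eq_bot_of_card_prime {p : ℕ} [hp : Fact p.Prime] {X W : Subgroup G} (hX : Nat.card X = p)
    (h : ¬ X ≤ W) : X ⊓ W = ⊥ := by
  have h1 : Nat.card (X ⊓ W : Subgroup G) ∣ p := hX ▸ card_dvd_of_le inf_le_left
  haveI : Finite X := Nat.finite_of_card_ne_zero (by rw [hX]; exact hp.out.ne_zero)
  rcases (Nat.dvd_prime hp.out).mp h1 with h2 | h2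
  · exact card_eq_one.mp h2
  · exfalso
    apply h
    have : X ⊓ W = X := by
      apply SetLike.coe_injective
      apply Set.eq_of_subset_of_ncard_le (ht := Set.toFinite _)
      · exact inf_le_left
      · show Nat.card X ≤ Nat.card (X ⊓ W : Subgroup G)
        rw [h2, hX]
    exact this ▸ inf_le_right

variable [Finite G]

section sigma

theorem le_sigmaCore (hG : IsMinSimpleOddOrder G) {M : Subgroup G} (hM : IsCoatom M) {Y : Subgroup G}
    (hYM : Y ≤ M) (hY : ∀ p : ℕ, p.Prime → p ∣ Nat.card Y → p ∈ sigma M) : Y ≤ sigmaCore M := by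
  obtain ⟨⟨h1, -, h3⟩, -, -⟩ := Cfsg.Agent.S1350.result hG M hM
  apply le_of_normal_hall h1 (le_normalizer_sigmaCore M) hYM
  apply Nat.coprime_of_dvd
  intro k hk hkY hkI
  exact h3 k hk (hY k hk hkY) hkI

theorem pgroup_le_sigmaCore (hG : IsMinSimpleOddOrder G) {M : Subgroup G} (hM : IsCoatom M) {p : ℕ}
    [Fact p.Prime] (hp : p ∈ sigma M) {R : Subgroup G} (hR : IsPGroup p R) (hRM : R ≤ M) :
    R ≤ sigmaCore M := by
  apply le_sigmaCore hG hM hRM
  intro q hq hqd
  obtain ⟨k, hk⟩ := IsPGroup.iff_card.mp hR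
  rw [hk] at hqd
  have := (Nat.prime_dvd_prime_iff_eq hq Fact.out).mp (hq.dvd_of_dvd_pow hqd)
  exact this ▸ hp

theorem isSyl_of_sigmaCore (hG : IsMinSimpleOddOrder G) {M : Subgroup G} (hM : IsCoatom M) {p : ℕ}
    [Fact p.Prime] (hp : p ∈ sigma M) {R : Subgroup G} (hR : IsSyl p R (sigmaCore M)) : IsSyl p R M :=
  ⟨hR.1.trans (sigmaCore_le M), hR.2.1,
    fun Q hQM hQ hle => hR.2.2 Q (pgroup_le_sigmaCore hG hM hp hQ hQM) hQ hle⟩

theorem card_sigmaCore (hG : IsMinSimpleOddOrder G) {M : Subgroup G} (hM : IsCoatom M) :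
    ∀ p : ℕ, p.Prime → p ∣ Nat.card (sigmaCore M) → p ∈ sigma M :=
  (Cfsg.Agent.S1350.result hG M hM).1.2.1

end sigma

section pgroups
variable {p : ℕ} [Fact p.Prime]

/-- the derived subgroup of a `p`-group centralizes every normal subgroup of order `p^2` -/
theorem derived_le_centralizer_sq {P W : Subgroup G} (hP : IsPGroup p P) (hWP : W ≤ P)
    (hn : P ≤ normalizer (W : Set G)) (hWc : Nat.card W = p ^ 2) :
    ⁅P, P⁆ ≤ centralizer (W : Set G) := by
  have hpp : p.Prime := Fact.out
  set C := P ⊓ centralizer (W : Set G) with hC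
  have h1 : Nat.card P ≤ Nat.card C * p := card_le_mul_inf_centralizer hP hWP hn hWc le_rfl
  have hCn : P ≤ normalizer (C : Set G) := by
    rw [le_normalizer_iff]
    intro g hg c hc
    refine mem_inf.mpr ⟨P.mul_mem (P.mul_mem hg hc.1) (P.inv_mem hg), ?_⟩
    rw [mem_centralizer_iff]
    intro w hw
    have hw' : g⁻¹ * w * g ∈ W := by
      have := (le_normalizer_iff.mp hn) g⁻¹ (P.inv_mem hg) w hw
      rwa [inv_inv] at this
    have h2 := (mem_centralizer_iff.mp hc.2) _ hw'
    calc w * (g * c * g⁻¹) = g * ((g⁻¹ * w * g) * c) * g⁻¹ := by group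
      _ = g * (c * (g⁻¹ * w * g)) * g⁻¹ := by rw [h2]
      _ = g * c * g⁻¹ * w := by group
  haveI : (C.subgroupOf P).Normal := (normal_subgroupOf_iff_le_normalizer inf_le_left).mpr hCn
  have hcardC : Nat.card (C.subgroupOf P) = Nat.card C :=
    Nat.card_congr (subgroupOfEquivOfLe (inf_le_left : C ≤ P)).toEquiv
  have hidx : Nat.card (P ⧸ C.subgroupOf P) ≤ p := by
    have h2 := (C.subgroupOf P).card_mul_index
    rw [hcardC] at h2
    rw [← h2] at h1
    have hpos : 0 < Nat.card C := Nat.card_pos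
    exact Nat.le_of_mul_le_mul_left h1 hpos
  have hq : IsMulCommutative (P ⧸ C.subgroupOf P) := by
    obtain ⟨j, hj⟩ := IsPGroup.iff_card.mp (hP.to_quotient (C.subgroupOf P))
    have hj1 : j ≤ 1 := by
      by_contra hcon
      have h3 : p ^ 2 ≤ p ^ j := Nat.pow_le_pow_right hpp.pos (by omega)
      have h4 : p < p ^ 2 := by nlinarith [hpp.one_lt]
      omega
    interval_cases j
    · rw [pow_zero] at hj
      haveI : Subsingleton (P ⧸ C.subgroupOf P) := (Nat.card_eq_one_iff_unique.mp hj).1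
      exact ⟨⟨fun a b => Subsingleton.elim _ _⟩⟩
    · rw [pow_one] at hj
      haveI : IsCyclic (P ⧸ C.subgroupOf P) := isCyclic_of_prime_card hj
      exact inferInstance
  have h3 := Subgroup.Normal.quotient_commutative_iff_commutator_le.mp hq
  have h4 : ⁅P, P⁆ = (commutator P).map P.subtype := by
    rw [_root_.commutator_def, Subgroup.map_commutator, ← MonoidHom.range_eq_map, Subgroup.range_subtype]
  rw [h4]
  rintro _ ⟨y, hy, rfl⟩
  exact (mem_subgroupOf.mp (h3 hy)).2

theorem lt_card_of_not_le {W X : Subgroup G} (h : ¬ X ≤ W) : Nat.card W < Nat.card (X ⊔ W : Subgroup G) := by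
  by_contra hcon
  have h1 : W = X ⊔ W := eq_of_le_of_card_ge le_sup_right (not_lt.mp hcon)
  exact h (h1 ▸ le_sup_left)

/-- in a `p`-group of rank at least three, a subgroup of order `p` centralizing a normal
`E_{p^2}` centralizes an elementary abelian subgroup of order at least `p^3` -/
theorem exists_rank3_of_centralizes {P X W : Subgroup G} (hP : IsPGroup p P)
    (hr : ¬ PRankLE p 2 P) (hWP : W ≤ P) (hn : P ≤ normalizer (W : Set G))
    (hWe : IsElementaryAbelian p W) (hWc : Nat.card W = p ^ 2) (hXP : X ≤ P)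
    (hXW : X ≤ centralizer (W : Set G)) (hX : Nat.card X = p) :
    ∃ B : Subgroup G, B ≤ P ∧ IsElementaryAbelian p B ∧ p ^ 2 < Nat.card B ∧
      B ≤ centralizer (X : Set G) := by
  have hpp : p.Prime := Fact.out
  have hXe := elemAb_of_card_prime hX
  have hWW : W ≤ centralizer (W : Set G) := by
    haveI := hWe.1
    exact le_centralizer W
  by_cases hXinW : X ≤ W
  · obtain ⟨E, hEP, hEe, hEc⟩ := exists_elemAb hr
    set E₁ := E ⊓ centralizer (W : Set G) with hE₁
    have hcE : Nat.card E ≤ Nat.card E₁ * p := card_le_mul_inf_centralizer hP hWP hn hWc hEP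
    refine ⟨E₁ ⊔ W, sup_le (inf_le_left.trans hEP) hWP, ?_, ?_, ?_⟩
    · apply Cfsg.Agent.Lib.Helper3Narrow.elemAb_sup (elemAb_of_le hEe inf_le_left) hWe
      intro e he b hb
      exact ((mem_centralizer_iff.mp he.2) b hb).symm
    · by_contra hcon
      have h1 : E₁ ≤ W := by
        by_contra h2
        exact hcon (hWc ▸ lt_card_of_not_le h2)
      obtain ⟨j, hj2, hj⟩ := (Nat.dvd_prime_pow hpp).mp (hWc ▸ card_dvd_of_le h1)
      have hj' : j = 2 := by
        by_contra h3
        have h4 : j ≤ 1 := by omega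
        have h5 : p ^ j ≤ p ^ 1 := Nat.pow_le_pow_right hpp.pos h4
        rw [hj] at hcE
        have h6 : p ^ j * p ≤ p ^ 2 := by nlinarith
        omega
      have h3 : E₁ = W := eq_of_le_of_card_ge h1 (by rw [hj, hj', hWc])
      have h4 : W ≤ E := h3 ▸ inf_le_left
      have h5 : E ≤ centralizer (W : Set G) := by
        haveI := hEe.1
        exact (le_centralizer E).trans (centralizer_le h4)
      have h6 : E₁ = E := inf_eq_left.mpr h5
      rw [← h6, h3, hWc] at hEc
      exact lt_irrefl _ hEc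
    · exact (sup_le inf_le_right hWW).trans (centralizer_le hXinW)
  · refine ⟨X ⊔ W, sup_le hXP hWP, ?_, hWc ▸ lt_card_of_not_le hXinW, ?_⟩
    · apply Cfsg.Agent.Lib.Helper3Narrow.elemAb_sup hXe hWe
      intro e he b hb
      exact ((mem_centralizer_iff.mp (hXW he)) b hb).symm
    · haveI := hXe.1
      exact sup_le (le_centralizer X) (le_centralizer_iff.mp hXW)

/-- every subgroup of order `p` of a noncyclic `p`-group, `p` odd, lies in an `E_{p^2}` -/
theorem exists_sq_ge (hp2 : p ≠ 2) {P X : Subgroup G} (hP : IsPGroup p P) (hnc : ¬ IsCyclic P)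
    (hXP : X ≤ P) (hX : Nat.card X = p) :
    ∃ A : Subgroup G, A ≤ P ∧ IsElementaryAbelian p A ∧ Nat.card A = p ^ 2 ∧ X ≤ A := by
  have hpp : p.Prime := Fact.out
  obtain ⟨W, hWP, hn, hWe, hWc⟩ := exists_normal_sq hp2 hP hnc
  by_cases hXinW : X ≤ W
  · exact ⟨W, hWP, hWe, hWc, hXinW⟩
  · haveI : (W.subgroupOf P).Normal := (normal_subgroupOf_iff_le_normalizer hWP).mpr hn
    have hW1 : W.subgroupOf P ≠ ⊥ := by
      intro h
      have h1 : Nat.card (W.subgroupOf P) = Nat.card W :=
        Nat.card_congr (subgroupOfEquivOfLe hWP).toEquiv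
      rw [h, card_bot, hWc] at h1
      have : 1 < p ^ 2 := Nat.one_lt_pow (by norm_num) hpp.one_lt
      omega
    obtain ⟨z, hzW, hzc, hz1⟩ := Cfsg.Agent.Lib.Helper3PGroup.normal_inf_center_ne_bot hP _ hW1
    have hzW' : (z : G) ∈ W := mem_subgroupOf.mp hzW
    have hzp : (z : G) ^ p = 1 := hWe.2 _ hzW'
    have hz1' : (z : G) ≠ 1 := fun h => hz1 (Subtype.ext h)
    have hzX : (z : G) ∈ centralizer (X : Set G) := by
      rw [mem_centralizer_iff]
      intro x hx
      exact congrArg Subtype.val ((mem_center_iff.mp hzc) ⟨x, hXP hx⟩)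
    have hXe := elemAb_of_card_prime hX
    have hzc' : Nat.card (zpowers (z : G)) = p := by
      rw [Nat.card_zpowers, orderOf_eq_prime hzp hz1']
    have hzX' : zpowers (z : G) ≤ centralizer (X : Set G) := by rw [zpowers_le]; exact hzX
    refine ⟨X ⊔ zpowers (z : G), sup_le hXP (by rw [zpowers_le]; exact z.2),
      Cfsg.Agent.Lib.Helper3Narrow.elemAb_sup hXe (elemAb_of_card_prime hzc')
        (fun e he b hb => (mem_centralizer_iff.mp (hzX' hb)) e he), ?_, le_sup_left⟩
    have hzn : zpowers (z : G) ≤ normalizer (X : Set G) := by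
      rw [zpowers_le]; exact centralizer_le_normalizer _ hzX
    rw [Cfsg.Agent.Lib.Helper27Core.card_sup_eq hzn, hX, ← inf_relIndex_right]
    have h1 : X ⊓ zpowers (z : G) = ⊥ := by
      apply le_bot_iff.mp
      rw [← inf_eq_bot_of_card_prime hX hXinW]
      exact inf_le_inf_left _ (by rw [zpowers_le]; exact hzW')
    rw [h1, relIndex_bot_left, Nat.card_zpowers, orderOf_eq_prime hzp hz1', sq]

end pgroups

end Cfsg.Agent.Lib.Helper30BG2
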