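import Mathlib
import Cfsg.Agent.Lib.Helper31BGS
import Cfsg.Agent.Lib.Helper27BGb
import Cfsg.Agent.Lib.Helper68BGC
import Cfsg.Agent.Lib.Helper30Hyp
import Cfsg.Agent.S1405

/-!
Tools for B-G 12.13 (nonabelian `p`-subgroups are uniqueness subgroups).
-/

set_option autoImplicit false
open Cfsg

namespace Cfsg.Agent.Lib.Helper31BGU

open Subgroup
open Cfsg.Agent.Lib.Helper30Trans
open Cfsg.Agent.Lib.Helper24BG
open Cfsg.Agent.Lib.Helper24BG2
open Cfsg.Agent.Lib.Helper31BGS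

universe u
variable {G : Type u} [Group G] [Finite G]

/-- abstract Frattini argument: `S` a Sylow subgroup inside `X'`, with `X'N/N` nilpotent. -/
theorem frattini_nilpotent_quot {X : Type*} [Group X] [Finite X] {p : ℕ} [Fact p.Prime]
    (N : Subgroup X) [N.Normal] (S : Sylow p X) (hS : (S : Subgroup X) ≤ _root_.commutator X)
    (hnil : Group.IsNilpotent ↥((_root_.commutator X).map (QuotientGroup.mk' N))) :
    normalizer ((S : Subgroup X) : Set X) ⊔ N = ⊤ := by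
  set π := QuotientGroup.mk' N with hπ
  have hsurj : Function.Surjective π := QuotientGroup.mk'_surjective N
  set C := (_root_.commutator X).map π with hC
  have hCn : C.Normal := Subgroup.Normal.map inferInstance π hsurj
  let Sb : Sylow p (X ⧸ N) := S.mapSurjective hsurj
  have hSb : (Sb : Subgroup (X ⧸ N)) = (S : Subgroup X).map π := rfl
  have hSbC : (Sb : Subgroup (X ⧸ N)) ≤ C := by rw [hSb]; exact map_mono hS
  obtain ⟨R⟩ : Nonempty (Sylow p C) := inferInstance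
  have hRn : (R : Subgroup C).Normal := inferInstance
  have hRc : (R : Subgroup C).Characteristic := R.characteristic_of_normal hRn
  have hRhat : ((R : Subgroup C).map C.subtype).Normal := inferInstance
  have hle : (Sb : Subgroup (X ⧸ N)) ≤ (R : Subgroup C).map C.subtype := by
    obtain ⟨Q, hQ⟩ := (Sb.2.comap_subtype (K := C)).exists_le_sylow
    have hQR : Q = R := by
      have := R.unique_of_normal hRn
      exact Subsingleton.elim _ _
    intro x hx
    exact ⟨⟨x, hSbC hx⟩, hQR ▸ hQ (mem_subgroupOf.mpr hx), rfl⟩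
  have heq : (R : Subgroup C).map C.subtype = Sb := Sb.3 (R.2.map _) hle
  have hSbn : (Sb : Subgroup (X ⧸ N)).Normal := heq ▸ hRhat
  have hWn : ((Sb : Subgroup (X ⧸ N)).comap π).Normal := hSbn.comap π
  have hSW : (S : Subgroup X) ≤ (Sb : Subgroup (X ⧸ N)).comap π := by
    rw [hSb]; exact le_comap_map _ _
  have h1 := S.normalizer_sup_eq_top' hSW
  rw [hSb, comap_map_eq, QuotientGroup.ker_mk', ← sup_assoc] at h1
  have h2 : normalizer ((S : Subgroup X) : Set X) ⊔ (S : Subgroup X) =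
      normalizer ((S : Subgroup X) : Set X) := sup_eq_left.mpr le_normalizer
  rw [← h2]
  exact h1

/-- `M = M_α N_M(S)` for a Sylow `p`-subgroup `S` of `M`, `p ∈ σ(M)`. -/
theorem frattini_alpha (hG : IsMinSimpleOddOrder G) {M : Subgroup G} (hM : IsCoatom M) {p : ℕ}
    [Fact p.Prime] (hp : p ∈ sigma M) {S : Subgroup G} (hS : IsSyl p S M) :
    M ≤ alphaCore M ⊔ (M ⊓ normalizer (S : Set G)) := by
  have h05 := Cfsg.Agent.S1405.result hG M hM
  have hSd : S ≤ ⁅M, M⁆ := Cfsg.Agent.Lib.Helper27BGb.syl_le_derived hG hM hp hS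
  have hS' : ((hS.toSylow : Sylow p M) : Subgroup M) ≤ _root_.commutator M := by
    intro x hx
    have h1 : (x : G) ∈ (_root_.commutator ↥M).map M.subtype := by
      rw [Cfsg.Agent.Lib.Helper68BGC.map_commutator_subtype]
      exact hSd (mem_subgroupOf.mp hx)
    obtain ⟨y, hy, hyx⟩ := h1
    have : y = x := Subtype.ext hyx
    exact this ▸ hy
  have h1 := frattini_nilpotent_quot (piCore (alpha M) M) hS.toSylow hS' h05.2.2.2.2
  intro m hm
  have h2 : (⟨m, hm⟩ : M) ∈ normalizer (((hS.toSylow : Sylow p M) : Subgroup M) : Set M) ⊔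
      piCore (alpha M) M := by rw [h1]; exact mem_top _
  have h3 : m ∈ (normalizer (((hS.toSylow : Sylow p M) : Subgroup M) : Set M) ⊔
      piCore (alpha M) M).map M.subtype := ⟨_, h2, rfl⟩
  rw [Subgroup.map_sup, sup_comm] at h3
  have h5 : (normalizer (((hS.toSylow : Sylow p M) : Subgroup M) : Set M)).map M.subtype ≤
      M ⊓ normalizer (S : Set G) := ?_
  · exact (sup_le_sup_left h5 (alphaCore M)) h3
  rintro _ ⟨x, hx, rfl⟩
  refine ⟨x.2, ?_⟩
  show (x : G) ∈ normalizer (S : Set G)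
  have h4 : ∀ y : M, y ∈ normalizer (((hS.toSylow : Sylow p M) : Subgroup M) : Set M) →
      ∀ s ∈ S, (y : G) * s * (y : G)⁻¹ ∈ S := by
    intro y hy s hs
    have := (mem_normalizer_iff.mp hy ⟨s, hS.1 hs⟩).mp (mem_subgroupOf.mpr hs)
    exact mem_subgroupOf.mp this
  rw [mem_normalizer_iff]
  intro s
  constructor
  · exact h4 x hx s
  · intro hs
    have := h4 x⁻¹ (inv_mem hx) _ hs
    have e : ((x⁻¹ : M) : G) * ((x : G) * s * (x : G)⁻¹) * ((x⁻¹ : M) : G)⁻¹ = s := by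
      simp only [Subgroup.coe_inv]; group
    rwa [e] at this

/-- generation by centralizers for a group `E` acting on `T` through the noncyclic elementary abelian
quotient `E / Z`. -/
theorem le_of_central_quot {p : ℕ} [hp : Fact p.Prime] {T E Z L : Subgroup G}
    (hZE : Z ≤ E) (hET : E ≤ normalizer (T : Set G)) (hZT : Z ≤ centralizer (T : Set G))
    (hZc : Z ≤ centralizer (E : Set G))
    (hcomm : ∀ a ∈ E, ∀ b ∈ E, a * b * a⁻¹ * b⁻¹ ∈ Z) (hexp : ∀ a ∈ E, a ^ p ∈ Z)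
    (hcard : p * Nat.card Z < Nat.card E) (hT : ¬ p ∣ Nat.card T) (hbot : Z ⊓ T = ⊥)
    (hL : ∀ a ∈ E, a ∉ Z → T ⊓ centralizer ({a} : Set G) ≤ L) : T ≤ L := by
  set Γ := centralizer (Z : Set G) with hΓ
  have hTΓ : T ≤ Γ := le_centralizer_iff.mp hZT
  have hEΓ : E ≤ Γ := le_centralizer_iff.mp hZc
  have hZΓ : Z ≤ Γ := hZE.trans hEΓ
  have hn : (Z.subgroupOf Γ).Normal := by
    refine ⟨fun z hz g => ?_⟩
    rw [mem_subgroupOf] at hz ⊢
    have h1 : (g : G) * z * (g : G)⁻¹ = z := by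
      have := mem_centralizer_iff.mp g.2 z hz
      rw [← this]; group
    show (g : G) * z * (g : G)⁻¹ ∈ Z
    rw [h1]; exact hz
  set π := QuotientGroup.mk' (Z.subgroupOf Γ) with hπ
  have hsurj : Function.Surjective π := QuotientGroup.mk'_surjective _
  have hπ1 : ∀ x : Γ, π x = 1 ↔ (x : G) ∈ Z := by
    intro x
    rw [hπ, QuotientGroup.mk'_apply, QuotientGroup.eq_one_iff, mem_subgroupOf]
  set Xb := (T.subgroupOf Γ).map π with hXb
  set Ab := (E.subgroupOf Γ).map π with hAb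
  have hAc : IsMulCommutative Ab := by
    refine ⟨⟨?_⟩⟩
    rintro ⟨_, a, ha, rfl⟩ ⟨_, b, hb, rfl⟩
    apply Subtype.ext
    show π a * π b = π b * π a
    have h1 : π (a * b * a⁻¹ * b⁻¹) = 1 :=
      (hπ1 _).mpr (hcomm a (mem_subgroupOf.mp ha) b (mem_subgroupOf.mp hb))
    rw [map_mul, map_mul, map_mul, map_inv, map_inv] at h1
    calc π a * π b = (π a * π b * (π a)⁻¹ * (π b)⁻¹) * (π b * π a) := by group
      _ = π b * π a := by rw [h1, one_mul]
  have hAp : ∀ a ∈ Ab, a ^ p = 1 := by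
    rintro _ ⟨a, ha, rfl⟩
    rw [← map_pow]
    exact (hπ1 _).mpr (hexp a (mem_subgroupOf.mp ha))
  have hX : ¬ p ∣ Nat.card Xb := by
    intro h
    apply hT
    rw [← Cfsg.Agent.Lib.Helper30SZ.card_subgroupOf_of_le hTΓ]
    exact h.trans (card_map_dvd _ _)
  have hAX : Ab ≤ normalizer (Xb : Set (Γ ⧸ Z.subgroupOf Γ)) := by
    rw [le_normalizer_iff]
    rintro _ ⟨a, ha, rfl⟩ _ ⟨t, ht, rfl⟩
    refine ⟨a * t * a⁻¹, ?_, by rw [map_mul, map_mul, map_inv]⟩
    rw [SetLike.mem_coe, mem_subgroupOf]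
    exact (mem_normalizer_iff.mp (hET (mem_subgroupOf.mp ha)) _).mp (mem_subgroupOf.mp ht)
  have hcardA : Nat.card E = Nat.card Z * Nat.card Ab := by
    have h1 := Cfsg.Agent.Lib.Helper37Cores.card_comap_of_surjective hsurj Ab
    have h2 : Ab.comap π = E.subgroupOf Γ := by
      rw [hAb, comap_map_eq, QuotientGroup.ker_mk', sup_eq_left]
      intro x hx
      exact mem_subgroupOf.mpr (hZE (mem_subgroupOf.mp hx))
    rw [h2, QuotientGroup.ker_mk', Cfsg.Agent.Lib.Helper30SZ.card_subgroupOf_of_le hEΓ,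
      Cfsg.Agent.Lib.Helper30SZ.card_subgroupOf_of_le hZΓ] at h1
    exact h1
  have hgen := Cfsg.Agent.Lib.Helper30Hyp.le_iSup_hyperplane_centralizers hAc hAp hX hAX
  have hle : (⨆ B : {B : Subgroup (Γ ⧸ Z.subgroupOf Γ) // B ≤ Ab ∧ B.relIndex Ab ≤ p},
      Xb ⊓ centralizer ((B : Subgroup (Γ ⧸ Z.subgroupOf Γ)) : Set (Γ ⧸ Z.subgroupOf Γ))) ≤
      ((T ⊓ L).subgroupOf Γ).map π := by
    apply iSup_le
    rintro ⟨B, hBA, hBi⟩
    have hB1 : B ≠ ⊥ := by
      rintro rfl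
      rw [relIndex_bot_left] at hBi
      have : Nat.card E ≤ Nat.card Z * p := by rw [hcardA]; exact Nat.mul_le_mul_left _ hBi
      rw [mul_comm] at this
      omega
    obtain ⟨b', hb', hb'1⟩ : ∃ b' ∈ B, b' ≠ 1 := by
      obtain ⟨b, hb⟩ := Subgroup.ne_bot_iff_exists_ne_one.mp hB1
      exact ⟨b.1, b.2, fun h => hb (Subtype.ext h)⟩
    obtain ⟨b, hb, rfl⟩ := hBA hb'
    have hbZ : (b : G) ∉ Z := fun h => hb'1 ((hπ1 b).mpr h)
    rintro _ ⟨⟨t, ht, rfl⟩, hc⟩
    have hc' : π b * π t = π t * π b := mem_centralizer_iff.mp hc (π b) hb'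
    have h1 : π (t * b * t⁻¹ * b⁻¹) = 1 := by
      rw [map_mul, map_mul, map_mul, map_inv, map_inv, ← hc']; group
    have h2 : (t : G) * b * (t : G)⁻¹ * (b : G)⁻¹ ∈ Z := (hπ1 _).mp h1
    have htT : (t : G) ∈ T := mem_subgroupOf.mp ht
    have h3 : (t : G) * b * (t : G)⁻¹ * (b : G)⁻¹ ∈ T := by
      have e : (t : G) * b * (t : G)⁻¹ * (b : G)⁻¹ = t * ((b : G) * (t : G)⁻¹ * (b : G)⁻¹) := by group
      rw [e]
      exact mul_mem htT ((mem_normalizer_iff.mp (hET (mem_subgroupOf.mp hb)) _).mp (inv_mem htT))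
    have h4 : (t : G) * b * (t : G)⁻¹ * (b : G)⁻¹ = 1 := by
      have : (t : G) * b * (t : G)⁻¹ * (b : G)⁻¹ ∈ Z ⊓ T := ⟨h2, h3⟩
      rwa [hbot, mem_bot] at this
    have h5 : (t : G) ∈ T ⊓ centralizer ({(b : G)} : Set G) := by
      refine ⟨htT, ?_⟩
      show (t : G) ∈ centralizer ({(b : G)} : Set G)
      rw [mem_centralizer_iff]
      intro z hz
      rw [Set.mem_singleton_iff.mp hz]
      calc (b : G) * t = ((t : G) * b * (t : G)⁻¹ * (b : G)⁻¹)⁻¹ * (t * b) := by group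
        _ = t * b := by rw [h4]; group
    exact ⟨t, mem_subgroupOf.mpr ⟨htT, hL b (mem_subgroupOf.mp hb) hbZ h5⟩, rfl⟩
  intro t ht
  have h1 : π ⟨t, hTΓ ht⟩ ∈ Xb := ⟨⟨t, hTΓ ht⟩, mem_subgroupOf.mpr ht, rfl⟩
  obtain ⟨r, hr, hrt⟩ := hle (hgen h1)
  have hr' : (r : G) ∈ T ⊓ L := mem_subgroupOf.mp hr
  have h2 : π (r⁻¹ * ⟨t, hTΓ ht⟩) = 1 := by rw [map_mul, map_inv, hrt]; group
  have h3 : (r : G)⁻¹ * t ∈ Z := (hπ1 _).mp h2
  have h4 : (r : G)⁻¹ * t ∈ Z ⊓ T := ⟨h3, T.mul_mem (T.inv_mem hr'.1) ht⟩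
  rw [hbot, mem_bot, inv_mul_eq_one] at h4
  rw [← h4]
  exact hr'.2

end Cfsg.Agent.Lib.Helper31BGU
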