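import Mathlib
import Cfsg.Agent.Lib.Helper31BGU
import Cfsg.Agent.Lib.Helper89PCube

/-!
More tools for B-G 12.13: nonabelian groups of order `p ^ 3` inside an ambient group.
-/

set_option autoImplicit false
open Cfsg

namespace Cfsg.Agent.Lib.Helper31BGV

open Subgroup
open scoped commutatorElement
open Cfsg.Agent.Lib.Helper30Trans
open Cfsg.Agent.Lib.Helper24BG
open Cfsg.Agent.Lib.Helper24BG2
open Cfsg.Agent.Lib.Helper31BGS
open Cfsg.Agent.Lib.Helper31BGU

universe u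
variable {G : Type u} [Group G]

theorem map_center_subtype (P : Subgroup G) :
    (center P).map P.subtype = P ⊓ centralizer (P : Set G) := by
  ext x
  constructor
  · rintro ⟨y, hy, rfl⟩
    refine ⟨y.2, ?_⟩
    show (y : G) ∈ centralizer (P : Set G)
    rw [mem_centralizer_iff]
    intro h hh
    have := mem_center_iff.mp hy ⟨h, hh⟩
    exact congrArg Subtype.val this
  · rintro ⟨hx, hc⟩
    refine ⟨⟨x, hx⟩, ?_, rfl⟩
    rw [SetLike.mem_coe, mem_center_iff]
    intro g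
    exact Subtype.ext (mem_centralizer_iff.mp hc g g.2)

theorem eq_zpowers_of_card_prime {p : ℕ} [hp : Fact p.Prime] {Z : Subgroup G} (hZ : Nat.card Z = p)
    {c : G} (hc : c ∈ Z) (hc1 : c ≠ 1) : Z = zpowers c := by
  have hfin : Finite Z := Nat.finite_of_card_ne_zero (by rw [hZ]; exact hp.out.ne_zero)
  symm
  apply eq_of_le_of_card_ge (zpowers_le.mpr hc)
  have h1 : Nat.card (zpowers c) ∣ p := hZ ▸ card_dvd_of_le (zpowers_le.mpr hc)
  rcases (Nat.dvd_prime hp.out).mp h1 with h | h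
  · exfalso
    rw [card_eq_one, zpowers_eq_bot] at h
    exact hc1 h
  · rw [hZ, h]

/-- structure of a nonabelian subgroup of order `p ^ 3`. -/
theorem cube_data {p : ℕ} [hp : Fact p.Prime] {P : Subgroup G} (hna : ¬ IsMulCommutative P)
    (hc : Nat.card P = p ^ 3) :
    Nat.card (P ⊓ centralizer (P : Set G) : Subgroup G) = p ∧
      (∀ a ∈ P, ∀ b ∈ P, a * b * a⁻¹ * b⁻¹ ∈ P ⊓ centralizer (P : Set G)) ∧
      (∀ u ∈ P, u ∉ P ⊓ centralizer (P : Set G) → ∀ z ∈ P ⊓ centralizer (P : Set G),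
        ∃ g ∈ P, g * u * g⁻¹ = z * u) := by
  have hnc : ∃ a b : P, a * b ≠ b * a := by
    by_contra h
    push Not at h
    exact hna ⟨⟨h⟩⟩
  have h1 := Cfsg.Agent.Lib.Helper89PCube.card_center_of_card_cube hc hnc
  have h2 := Cfsg.Agent.Lib.Helper89PCube.isExtraspecial_of_card_cube hc hnc
  have hZc : Nat.card (P ⊓ centralizer (P : Set G) : Subgroup G) = p := by
    rw [← map_center_subtype, card_map_of_injective P.subtype_injective, h1]
  have hcomm : ∀ a ∈ P, ∀ b ∈ P, a * b * a⁻¹ * b⁻¹ ∈ P ⊓ centralizer (P : Set G) := by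
    intro a ha b hb
    rw [← map_center_subtype]
    refine ⟨⁅(⟨a, ha⟩ : P), ⟨b, hb⟩⁆, ?_, rfl⟩
    rw [← h2.1.2.2]
    exact commutator_mem_commutator (mem_top _) (mem_top _)
  refine ⟨hZc, hcomm, ?_⟩
  intro u hu huZ z hz
  obtain ⟨g, hg, hgu⟩ : ∃ g ∈ P, g * u ≠ u * g := by
    by_contra h
    push Not at h
    apply huZ
    refine ⟨hu, ?_⟩
    show u ∈ centralizer (P : Set G)
    rw [mem_centralizer_iff]
    exact h
  set c := g * u * g⁻¹ * u⁻¹ with hcdef
  have hcZ : c ∈ P ⊓ centralizer (P : Set G) := hcomm g hg u hu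
  have hc1 : c ≠ 1 := by
    intro h
    apply hgu
    calc g * u = (g * u * g⁻¹ * u⁻¹) * (u * g) := by group
      _ = u * g := by rw [← hcdef, h, one_mul]
  have hZ := eq_zpowers_of_card_prime hZc hcZ hc1
  have hcg : ∀ x ∈ P, x * c = c * x := fun x hx => mem_centralizer_iff.mp hcZ.2 x hx
  have key : ∀ j : ℕ, g ^ j * u * (g ^ j)⁻¹ = c ^ j * u := by
    intro j
    induction j with
    | zero => simp
    | succ j ih =>
      have hcj : g * c ^ j = c ^ j * g := by
        have : Commute g c := hcg g hg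
        exact (this.pow_right j)
      calc g ^ (j + 1) * u * (g ^ (j + 1))⁻¹ = g * (g ^ j * u * (g ^ j)⁻¹) * g⁻¹ := by
            rw [pow_succ']; group
        _ = g * (c ^ j * u) * g⁻¹ := by rw [ih]
        _ = (g * c ^ j) * u * g⁻¹ := by group
        _ = c ^ j * (g * u * g⁻¹ * u⁻¹) * u := by rw [hcj]; group
        _ = c ^ (j + 1) * u := by rw [← hcdef, pow_succ]
  have hfo : IsOfFinOrder c := by
    have hfin : Finite (P ⊓ centralizer (P : Set G) : Subgroup G) :=
      Nat.finite_of_card_ne_zero (by rw [hZc]; exact hp.out.ne_zero)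
    have := isOfFinOrder_of_finite (⟨c, hcZ⟩ : (P ⊓ centralizer (P : Set G) : Subgroup G))
    exact (Submonoid.isOfFinOrder_coe (H := (P ⊓ centralizer (P : Set G) : Subgroup G).toSubmonoid)
      (x := ⟨c, hcZ⟩)).mpr this
  have hz' : z ∈ zpowers c := hZ ▸ hz
  rw [← hfo.mem_powers_iff_mem_zpowers] at hz'
  obtain ⟨j, rfl⟩ := hz'
  exact ⟨g ^ j, pow_mem hg j, key j⟩

/-- transfer along the `P`-conjugacy of the noncentral subgroups of order `p` of `⟨y⟩ × Z`. -/
theorem centralizer_le_of_normalizer_le {p : ℕ} [hp : Fact p.Prime] {P N A₀ : Subgroup G}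
    (hna : ¬ IsMulCommutative P) (hc : Nat.card P = p ^ 3) (hPN : P ≤ N) {y : G} (hy : y ∈ P)
    (hA₀ : A₀ ≤ zpowers y ⊔ (P ⊓ centralizer (P : Set G))) (hA₀c : Nat.card A₀ = p)
    (hne : A₀ ≠ P ⊓ centralizer (P : Set G)) (hN : normalizer (A₀ : Set G) ≤ N) :
    centralizer ({y} : Set G) ≤ N := by
  obtain ⟨hZc, hcomm, hconj⟩ := cube_data hna hc
  set Z := P ⊓ centralizer (P : Set G) with hZ
  have hA1 : A₀ ≠ ⊥ := by
    rintro rfl
    rw [card_bot] at hA₀c
    exact hp.out.one_lt.ne hA₀c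
  obtain ⟨a, ha, ha1⟩ : ∃ a ∈ A₀, a ≠ 1 := by
    obtain ⟨b, hb⟩ := Subgroup.ne_bot_iff_exists_ne_one.mp hA1
    exact ⟨b.1, b.2, fun h => hb (Subtype.ext h)⟩
  have hA₀z := eq_zpowers_of_card_prime hA₀c ha ha1
  have haZ : a ∉ Z := by
    intro h
    exact hne (hA₀z.trans (eq_zpowers_of_card_prime hZc h ha1).symm)
  have hZn : Z ≤ normalizer ((zpowers y : Subgroup G) : Set G) := by
    refine le_trans ?_ (centralizer_le_normalizer _)
    intro z hz
    rw [mem_centralizer_iff]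
    intro w hw
    obtain ⟨k, rfl⟩ := mem_zpowers_iff.mp hw
    exact mem_centralizer_iff.mp hz.2 _ (zpow_mem hy k)
  obtain ⟨w, hw, z, hz, rfl⟩ := (Cfsg.Agent.Lib.Helper30SZ.mem_sup_iff hZn).mp (hA₀ ha)
  obtain ⟨k, rfl⟩ := mem_zpowers_iff.mp hw
  have hykP : y ^ k ∈ P := zpow_mem hy k
  have hykZ : y ^ k ∉ Z := fun h => haZ (mul_mem h hz)
  obtain ⟨g, hg, hgy⟩ := hconj _ hykP hykZ z hz
  have hzy : z * y ^ k = y ^ k * z := (mem_centralizer_iff.mp hz.2 _ hykP).symm
  intro x hx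
  have hxy : y * x = x * y := mem_centralizer_iff.mp hx y rfl
  have hxyk : y ^ k * x = x * y ^ k := by
    have : Commute y x := hxy
    exact this.zpow_left k
  have h1 : g * x * g⁻¹ ∈ centralizer ((zpowers (y ^ k * z) : Subgroup G) : Set G) := by
    rw [mem_centralizer_iff]
    intro w hw
    obtain ⟨j, rfl⟩ := mem_zpowers_iff.mp hw
    have : Commute (y ^ k * z) (g * x * g⁻¹) := by
      show y ^ k * z * (g * x * g⁻¹) = g * x * g⁻¹ * (y ^ k * z)
      rw [← hzy, ← hgy]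
      calc g * y ^ k * g⁻¹ * (g * x * g⁻¹) = g * (y ^ k * x) * g⁻¹ := by group
        _ = g * (x * y ^ k) * g⁻¹ := by rw [hxyk]
        _ = g * x * g⁻¹ * (g * y ^ k * g⁻¹) := by group
    exact this.zpow_left j
  have h2 : g * x * g⁻¹ ∈ N := hN (hA₀z ▸ centralizer_le_normalizer _ h1)
  have hgN : g ∈ N := hPN hg
  have : x = g⁻¹ * (g * x * g⁻¹) * g := by group
  rw [this]
  exact mul_mem (mul_mem (inv_mem hgN) h2) hgN

/-- order of `⟨y⟩ × Z`. -/
theorem card_zpowers_sup {p : ℕ} [hp : Fact p.Prime] {Z : Subgroup G} (hZc : Nat.card Z = p) {y : G}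
    (hy : y ^ p = 1) (hyZ : y ∉ Z) (hZy : ∀ z ∈ Z, z * y = y * z) :
    Nat.card (zpowers y ⊔ Z : Subgroup G) = p ^ 2 := by
  have hy1 : y ≠ 1 := fun h => hyZ (h ▸ one_mem Z)
  have hyc : Nat.card (zpowers y) = p := by
    rw [Nat.card_zpowers]
    exact orderOf_eq_prime hy hy1
  have hZn : Z ≤ normalizer ((zpowers y : Subgroup G) : Set G) := by
    refine le_trans ?_ (centralizer_le_normalizer _)
    intro z hz
    rw [mem_centralizer_iff]
    intro w hw
    obtain ⟨k, rfl⟩ := mem_zpowers_iff.mp hw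
    have : Commute z y := hZy z hz
    exact (this.zpow_right k).symm
  have hdisj : ∀ x, x ∈ zpowers y → x ∈ Z → x = 1 := by
    intro x hx1 hx2
    by_contra hx
    have e1 := eq_zpowers_of_card_prime hyc hx1 hx
    have e2 := eq_zpowers_of_card_prime hZc hx2 hx
    exact hyZ (e2 ▸ e1 ▸ mem_zpowers y)
  have hcompl : IsComplement' ((zpowers y).subgroupOf (zpowers y ⊔ Z)) (Z.subgroupOf (zpowers y ⊔ Z)) := by
    apply isComplement'_of_disjoint_and_mul_eq_univ
    · rw [disjoint_iff, eq_bot_iff]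
      intro x hx
      obtain ⟨hx1, hx2⟩ := mem_inf.mp hx
      rw [mem_subgroupOf] at hx1 hx2
      rw [mem_bot]
      exact Subtype.ext (hdisj _ hx1 hx2)
    · rw [Set.eq_univ_iff_forall]
      intro x
      obtain ⟨n, hn, a, ha, hx⟩ := (Cfsg.Agent.Lib.Helper30SZ.mem_sup_iff hZn).mp x.2
      exact ⟨⟨n, le_sup_left (a := zpowers y) (b := Z) hn⟩, hn,
        ⟨a, le_sup_right (a := zpowers y) (b := Z) ha⟩, ha, Subtype.ext hx.symm⟩
  have := hcompl.card_mul_card
  rw [Cfsg.Agent.Lib.Helper30SZ.card_subgroupOf_of_le le_sup_left,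
    Cfsg.Agent.Lib.Helper30SZ.card_subgroupOf_of_le le_sup_right, hyc, hZc] at this
  rw [← this, sq]

theorem elemAb_zpowers_sup {p : ℕ} {Z : Subgroup G} (hZ : IsElementaryAbelian p Z) {y : G}
    (hy : y ^ p = 1) (hZy : ∀ z ∈ Z, z * y = y * z) :
    IsElementaryAbelian p (zpowers y ⊔ Z : Subgroup G) := by
  have hZn : Z ≤ normalizer ((zpowers y : Subgroup G) : Set G) := by
    refine le_trans ?_ (centralizer_le_normalizer _)
    intro z hz
    rw [mem_centralizer_iff]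
    intro w hw
    obtain ⟨k, rfl⟩ := mem_zpowers_iff.mp hw
    have : Commute z y := hZy z hz
    exact (this.zpow_right k).symm
  have hZZ : ∀ a ∈ Z, ∀ b ∈ Z, Commute a b := fun a ha b hb =>
    congrArg Subtype.val (hZ.1.is_comm.comm ⟨a, ha⟩ ⟨b, hb⟩)
  have hcomm : ∀ a ∈ (zpowers y ⊔ Z : Subgroup G), ∀ b ∈ (zpowers y ⊔ Z : Subgroup G),
      Commute a b := by
    intro a ha b hb
    obtain ⟨w, hw, z, hz, rfl⟩ := (Cfsg.Agent.Lib.Helper30SZ.mem_sup_iff hZn).mp ha
    obtain ⟨w', hw', z', hz', rfl⟩ := (Cfsg.Agent.Lib.Helper30SZ.mem_sup_iff hZn).mp hb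
    obtain ⟨k, rfl⟩ := mem_zpowers_iff.mp hw
    obtain ⟨k', rfl⟩ := mem_zpowers_iff.mp hw'
    have c1 : Commute z y := hZy z hz
    have c2 : Commute z' y := hZy z' hz'
    exact Commute.mul_left
      (Commute.mul_right ((Commute.refl y).zpow_zpow k k') ((c2.zpow_right k).symm))
      (Commute.mul_right (c1.zpow_right k') (hZZ z hz z' hz'))
  refine ⟨⟨⟨fun a b => Subtype.ext (hcomm a a.2 b b.2)⟩⟩, ?_⟩
  intro a ha
  obtain ⟨w, hw, z, hz, rfl⟩ := (Cfsg.Agent.Lib.Helper30SZ.mem_sup_iff hZn).mp ha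
  obtain ⟨k, rfl⟩ := mem_zpowers_iff.mp hw
  have c1 : Commute z y := hZy z hz
  rw [((c1.zpow_right k).symm).mul_pow, hZ.2 z hz, mul_one, ← zpow_natCast, ← zpow_mul, mul_comm,
    zpow_mul, zpow_natCast, hy, one_zpow]

/-- the asymmetric step of B-G 12.13. -/
theorem le_of_good [Finite G] (hG : IsMinSimpleOddOrder G) {M L S P : Subgroup G} (hM : IsCoatom M)
    {p : ℕ} [hp : Fact p.Prime] (hpM : p ∈ sigma M) (hS : IsSyl p S M)
    (hNL : normalizer (S : Set G) ≤ L) (hPS : P ≤ S) (hna : ¬ IsMulCommutative P)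
    (hc : Nat.card P = p ^ 3) (hexp : ∀ a ∈ P, a ^ p = 1)
    (hTL : alphaCore M ⊓ L ≤ centralizer (S : Set G)) (hT : ¬ p ∣ Nat.card (alphaCore M))
    (hgood : ∀ y ∈ P, y ∉ P ⊓ centralizer (P : Set G) → centralizer ({y} : Set G) ≤ L) :
    M ≤ L := by
  obtain ⟨hZc, hcomm, -⟩ := cube_data hna hc
  set Z := P ⊓ centralizer (P : Set G) with hZ
  set T := alphaCore M with hTdef
  have hpp := hp.out
  have hMT : M ≤ normalizer (T : Set G) := Cfsg.Agent.Lib.Helper37Cores.le_normalizer_map_subtype _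
  have hPM : P ≤ M := hPS.trans hS.1
  have hZP : Z ≤ P := inf_le_left
  have hZel : IsElementaryAbelian p Z := by
    refine ⟨⟨⟨fun a b => Subtype.ext ?_⟩⟩, fun a ha => hexp a (hZP ha)⟩
    exact mem_centralizer_iff.mp b.2.2 a (hZP a.2)
  obtain ⟨y, hy, hyZ⟩ : ∃ y ∈ P, y ∉ Z := by
    by_contra h
    push Not at h
    have h1 : Nat.card P ≤ Nat.card Z := card_le_of_le h
    rw [hc, hZc] at h1
    have : p ^ 1 < p ^ 3 := Nat.pow_lt_pow_right hpp.one_lt (by norm_num)
    rw [pow_one] at this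
    omega
  have hZy : ∀ z ∈ Z, z * y = y * z := fun z hz => (mem_centralizer_iff.mp hz.2 y hy).symm
  have hAel := elemAb_zpowers_sup hZel (hexp y hy) hZy
  have hAc := card_zpowers_sup hZc (hexp y hy) hyZ hZy
  set A := (zpowers y ⊔ Z : Subgroup G) with hA
  have hAP : A ≤ P := sup_le (zpowers_le.mpr hy) hZP
  have hCSZ : centralizer (S : Set G) ≤ centralizer (Z : Set G) :=
    centralizer_le (hZP.trans hPS)
  have hTZ : T ≤ centralizer (Z : Set G) := by
    refine (Cfsg.Agent.Lib.Helper30Hyp.le_iSup_hyperplane_centralizers hAel.1 hAel.2 hT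
      ((hAP.trans hPM).trans hMT)).trans ?_
    apply iSup_le
    rintro ⟨B, hBA, hBi⟩
    have hB1 : B ≠ ⊥ := by
      rintro rfl
      rw [relIndex_bot_left, hAc] at hBi
      have : p ^ 1 < p ^ 2 := Nat.pow_lt_pow_right hpp.one_lt (by norm_num)
      rw [pow_one] at this
      omega
    obtain ⟨b, hb, hb1⟩ := exists_ne_one_of_ne_bot' hB1
    rintro t ⟨ht, htB⟩
    have htb : b * t = t * b := mem_centralizer_iff.mp htB b hb
    by_cases hbZ : b ∈ Z
    · rw [eq_zpowers_of_card_prime hZc hbZ hb1, mem_centralizer_iff]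
      intro w hw
      obtain ⟨k, rfl⟩ := mem_zpowers_iff.mp hw
      have : Commute b t := htb
      exact this.zpow_left k
    · apply hCSZ
      apply hTL
      refine ⟨ht, hgood b (hAP (hBA hb)) hbZ ?_⟩
      rw [mem_centralizer_iff]
      intro w hw
      rw [Set.mem_singleton_iff.mp hw]
      exact htb
  have hbot : Z ⊓ T = ⊥ := by
    apply Cfsg.Agent.Lib.Helper30SZ.inf_eq_bot_of_coprime
    rw [hZc]
    exact ((Nat.Prime.coprime_iff_not_dvd hpp).mpr hT).symm
  have hTL' : T ≤ L := by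
    refine le_of_central_quot (p := p) (T := T) (E := P) (Z := Z) (L := L) hZP (hPM.trans hMT)
      (le_centralizer_iff.mp hTZ) inf_le_right hcomm ?_ ?_ hT hbot ?_
    · intro a ha
      rw [hexp a ha]
      exact one_mem _
    · rw [hZc, hc]
      have : p ^ 2 < p ^ 3 := Nat.pow_lt_pow_right hpp.one_lt (by norm_num)
      rw [sq] at this
      exact this
    · intro a ha haZ
      exact inf_le_right.trans (hgood a ha haZ)
  exact (frattini_alpha hG hM hpM hS).trans (sup_le hTL' (inf_le_right.trans hNL))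

end Cfsg.Agent.Lib.Helper31BGV
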