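import Mathlib
import Cfsg.Agent.Lib.Helper30BG2
import Cfsg.Agent.Lib.Helper68BGC
import Cfsg.Agent.S1412
import Cfsg.Agent.S1414
import Cfsg.Agent.S1422

/-!
Bender-Glauberman, Corollary 12.14 in ambient form.
-/

set_option autoImplicit false
set_option linter.style.haveILetI false
open Cfsg

namespace Cfsg.Agent.Lib.Helper30BG3

open Subgroup
open scoped commutatorElement
open Cfsg.Agent.Lib.Helper30Trans
open Cfsg.Agent.Lib.Helper24BG
open Cfsg.Agent.Lib.Helper24BG2
open Cfsg.Agent.Lib.Helper30BG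
open Cfsg.Agent.Lib.Helper30BG2

universe u

section general
variable {p : ℕ} [Fact p.Prime]

/-- a group of order `p^3` has class at most two -/
theorem commutator_le_center_of_card_cube {T : Type*} [Group T] [Finite T] (hT : Nat.card T = p ^ 3) :
    commutator T ≤ center T := by
  have hpp : p.Prime := Fact.out
  have hTp : IsPGroup p T := IsPGroup.of_card hT
  haveI : Nontrivial T := by
    apply Finite.one_lt_card_iff_nontrivial.mp
    rw [hT]
    exact Nat.one_lt_pow (by norm_num) hpp.one_lt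
  have hcn : Nontrivial (center T) := hTp.center_nontrivial
  apply Subgroup.Normal.quotient_commutative_iff_commutator_le.mp
  have h1 := (center T).card_mul_index
  obtain ⟨j, hj⟩ := IsPGroup.iff_card.mp (hTp.to_subgroup (center T))
  have hj0 : j ≠ 0 := by
    rintro rfl
    rw [pow_zero] at hj
    have := Finite.one_lt_card_iff_nontrivial.mpr hcn
    omega
  have hj3 : j ≤ 3 := by
    have h2 : p ^ j ∣ p ^ 3 := by rw [← hj, ← hT]; exact card_subgroup_dvd_card _
    exact (Nat.pow_dvd_pow_iff_le_right hpp.one_lt).mp h2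
  have hidx : Nat.card (T ⧸ center T) = p ^ (3 - j) := by
    rw [hj, hT] at h1
    have h2 : p ^ j * p ^ (3 - j) = p ^ 3 := by rw [← pow_add]; congr 1; omega
    have h3 : 0 < p ^ j := pow_pos hpp.pos _
    exact Nat.eq_of_mul_eq_mul_left h3 (h1.trans h2.symm)
  have hcases : j = 1 ∨ j = 2 ∨ j = 3 := by omega
  rcases hcases with rfl | rfl | rfl
  · exact IsPGroup.isMulCommutative_of_card_eq_prime_sq hidx
  · haveI : IsCyclic (T ⧸ center T) := isCyclic_of_prime_card (p := p) (by simpa using hidx)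
    exact inferInstance
  · haveI : Subsingleton (T ⧸ center T) := (Nat.card_eq_one_iff_unique.mp (by simpa using hidx)).1
    exact ⟨⟨fun a b => Subsingleton.elim _ _⟩⟩

/-- focal subgroup argument for a group with a normal `p`-complement -/
theorem mem_derived_of_normal_complement {H : Type*} [Group H] [Finite H]
    (hc : HasNormalPComplement p H) (Q : Sylow p H) {x : H} (hxQ : x ∈ (Q : Subgroup H))
    (hx : x ∈ commutator H) : x ∈ ⁅(Q : Subgroup H), (Q : Subgroup H)⁆ := by
  have hpp : p.Prime := Fact.out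
  obtain ⟨P₁, N, hN, hcompl⟩ := hc
  have h1 := hcompl.card_mul_card
  have h2 : Nat.card (Q : Subgroup H) = Nat.card (P₁ : Subgroup H) := by
    rw [Q.card_eq_multiplicity, P₁.card_eq_multiplicity]
  have h3 : Nat.card N = (P₁ : Subgroup H).index := by
    have h4 := (P₁ : Subgroup H).card_mul_index
    have h5 : 0 < Nat.card (P₁ : Subgroup H) := Nat.card_pos
    apply Nat.eq_of_mul_eq_mul_left h5
    rw [h4, mul_comm, h1]
  have h4 : (Nat.card N).Coprime (Nat.card (Q : Subgroup H)) := by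
    obtain ⟨k, hk⟩ := IsPGroup.iff_card.mp Q.2
    rw [hk, h3]
    exact Nat.Coprime.pow_right k
      (Nat.Coprime.symm ((Nat.Prime.coprime_iff_not_dvd hpp).mpr P₁.not_dvd_index))
  have h5 : N.IsComplement' (Q : Subgroup H) := isComplement'_of_coprime (by rw [h2, h1]) h4
  set φ := QuotientGroup.mk' N with hφ
  have h6 : (commutator H).map φ = (⁅(Q : Subgroup H), (Q : Subgroup H)⁆).map φ := by
    have h7 : (⊤ : Subgroup H).map φ = (Q : Subgroup H).map φ := by
      rw [← h5.sup_eq_top, Subgroup.map_sup]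
      have : N.map φ = ⊥ := by
        rw [Subgroup.map_eq_bot_iff, hφ, QuotientGroup.ker_mk']
      rw [this, bot_sup_eq]
    rw [_root_.commutator_def, Subgroup.map_commutator, Subgroup.map_commutator, h7]
  have h7 : φ x ∈ (⁅(Q : Subgroup H), (Q : Subgroup H)⁆).map φ := h6 ▸ mem_map_of_mem φ hx
  obtain ⟨y, hy, hyx⟩ := h7
  have hyQ : y ∈ (Q : Subgroup H) := commutator_le_self _ hy
  have h8 : y⁻¹ * x ∈ N := QuotientGroup.eq.mp hyx
  have h9 : y⁻¹ * x ∈ N ⊓ (Q : Subgroup H) :=
    ⟨h8, (Q : Subgroup H).mul_mem ((Q : Subgroup H).inv_mem hyQ) hxQ⟩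
  rw [h5.disjoint.eq_bot, mem_bot] at h9
  have : x = y := by
    have := congrArg (fun t => y * t) h9
    simpa using this
  exact this ▸ hy

end general

variable {G : Type u} [Group G]

theorem commutatorElement_mul_left_of_commute {a b z : G} (h : Commute z b) : ⁅a * z, b⁆ = ⁅a, b⁆ := by
  rw [commutatorElement_def, commutatorElement_def]
  have : z * b * z⁻¹ = b := by rw [h.eq, mul_inv_cancel_right]
  calc a * z * b * (a * z)⁻¹ * b⁻¹ = a * (z * b * z⁻¹) * a⁻¹ * b⁻¹ := by group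
    _ = _ := by rw [this]

theorem commutatorElement_mul_right_of_commute {a b z : G} (h : Commute z a) : ⁅a, b * z⁆ = ⁅a, b⁆ := by
  rw [commutatorElement_def, commutatorElement_def]
  have : z * a⁻¹ * z⁻¹ = a⁻¹ := by rw [(h.inv_right).eq, mul_inv_cancel_right]
  calc a * (b * z) * a⁻¹ * (b * z)⁻¹ = a * b * (z * a⁻¹ * z⁻¹) * b⁻¹ := by group
    _ = _ := by rw [this]

variable [Finite G] {p : ℕ} [Fact p.Prime]

/-- the derived subgroup of a central product of a group of order `p^3` and an abelian group is central -/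
theorem derived_le_centralizer_of_central_product {P₁ P₂ : Subgroup G} (hcard : Nat.card P₁ = p ^ 3)
    (hcomm : ∀ a ∈ P₁, ∀ b ∈ P₂, a * b = b * a) (hab : IsMulCommutative P₂) :
    ⁅P₁ ⊔ P₂, P₁ ⊔ P₂⁆ ≤ centralizer ((P₁ ⊔ P₂ : Subgroup G) : Set G) := by
  have hn : P₂ ≤ normalizer (P₁ : Set G) := by
    refine le_trans ?_ (centralizer_le_normalizer _)
    intro b hb
    rw [mem_centralizer_iff]
    intro a ha
    exact hcomm a ha b hb
  have hP₂ : ∀ z ∈ P₂, ∀ y ∈ P₁ ⊔ P₂, Commute z y := by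
    intro z hz y hy
    obtain ⟨a, ha, b, hb, rfl⟩ := (Cfsg.Agent.Lib.Helper30SZ.mem_sup_iff hn).mp hy
    have h1 : Commute z a := (hcomm a ha z hz).symm
    have h2 : Commute z b := congrArg Subtype.val (hab.is_comm.comm ⟨z, hz⟩ ⟨b, hb⟩)
    exact h1.mul_right h2
  rw [commutator_le]
  intro x hx y hy
  obtain ⟨a, ha, a', ha', rfl⟩ := (Cfsg.Agent.Lib.Helper30SZ.mem_sup_iff hn).mp hx
  obtain ⟨b, hb, b', hb', rfl⟩ := (Cfsg.Agent.Lib.Helper30SZ.mem_sup_iff hn).mp hy
  rw [commutatorElement_mul_left_of_commute (hP₂ a' ha' _ hy),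
    commutatorElement_mul_right_of_commute (hP₂ b' hb' _ (mem_sup_left ha))]
  have h1 : ⁅(⟨a, ha⟩ : P₁), (⟨b, hb⟩ : P₁)⁆ ∈ center P₁ :=
    commutator_le_center_of_card_cube hcard (commutator_mem_commutator (mem_top _) (mem_top _))
  have h2 : ⁅a, b⁆ ∈ P₁ := (⁅(⟨a, ha⟩ : P₁), (⟨b, hb⟩ : P₁)⁆).2
  rw [mem_centralizer_iff]
  intro t ht
  obtain ⟨c, hc, c', hc', rfl⟩ := (Cfsg.Agent.Lib.Helper30SZ.mem_sup_iff hn).mp ht
  have h3 : Commute c ⁅a, b⁆ := congrArg Subtype.val ((mem_center_iff.mp h1) ⟨c, hc⟩)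
  have h4 : Commute c' ⁅a, b⁆ := hP₂ c' hc' _ (mem_sup_left h2)
  exact (h3.mul_left h4).eq

/-- B-G 12.14. -/
theorem cent_der_sigma_uniq (hG : IsMinSimpleOddOrder G) {M : Subgroup G} (hM : IsCoatom M)
    (hp : p ∈ sigma M) {X : Subgroup G} (hXM : X ≤ M) (hX : Nat.card X = p)
    (h : p ∈ beta M ∨ X ≤ ⁅sigmaCore M, sigmaCore M⁆) :
    (centralizer (X : Set G) ≤ M ∧ ∀ L : Subgroup G, IsCoatom L → centralizer (X : Set G) ≤ L → L = M) ∧
      ∀ P : Subgroup G, IsSyl p P M → InUniqueMaximal P := by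
  have hpp : p.Prime := Fact.out
  have hXp := isPGroup_of_card_prime hX
  have hX1 := ne_bot_of_card_prime hX
  have hp2 : p ≠ 2 := ne_two hG hXp hX1
  obtain ⟨P, hP, hXP⟩ := exists_isSyl_ge hXM hXp
  obtain ⟨hPt, hNP, hP1⟩ := Cfsg.Agent.Lib.Helper68BGA.sigma_syl hp hP
  have rk3 : ∀ B : Subgroup G, IsElementaryAbelian p B → p ^ 2 < Nat.card B → InUniqueMaximal B := by
    intro B hBe hBc
    exact Cfsg.Agent.Lib.Helper68BGA.uniq_of_rank3 hG (pgroup_ne_top hG (isPGroup_of_elemAb hBe)) hpp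
      (not_rank_of_elemAb le_rfl hBe hBc)
  have key : ∃ B : Subgroup G, B ≤ P ∧ B ≤ centralizer (X : Set G) ∧ InUniqueMaximal B := by
    by_cases hβ : p ∈ beta M
    · obtain ⟨hα, hid⟩ := hβ
      have hr : ¬ PRankLE p 2 P := fun h => hα.2 (Cfsg.Agent.Lib.Helper27BGa.rank_of_isSyl hP h)
      have hnc : ¬ IsCyclic P := fun hc =>
        hr (rank_mono hpp.pos (rank_one_of_cyclic hpp.pos) (by norm_num))
      obtain ⟨A, hAP, hAe, hAc, hXA⟩ := exists_sq_ge hp2 hP.2.1 hnc hXP hX
      obtain ⟨B, hBP, hBe, hAB⟩ := hid.2.2 hPt.toSylowTop A hAP hAe hAc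
      refine ⟨B, hBP, ?_, rk3 B hBe ?_⟩
      · haveI := hBe.1
        exact (le_centralizer B).trans (centralizer_le (hXA.trans hAB.le))
      · rw [← hAc]
        by_contra hcon
        exact hAB.ne (eq_of_le_of_card_ge hAB.le (not_lt.mp hcon))
    · have hXd : X ≤ ⁅sigmaCore M, sigmaCore M⁆ := h.resolve_left hβ
      obtain ⟨-, hcomp, -⟩ := (Cfsg.Agent.S1414.result hG M hM).2.2.2.2 p hpp hp.2.1 hβ
      have hPσ : P ≤ sigmaCore M := pgroup_le_sigmaCore hG hM hp hP.2.1 hP.1
      have hPs : IsSyl p P (sigmaCore M) := hP.mono hPσ (sigmaCore_le M)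
      have hXP' : X ≤ ⁅P, P⁆ := by
        intro x hx
        have h1 : x ∈ (commutator (sigmaCore M)).map (sigmaCore M).subtype := by
          rw [Cfsg.Agent.Lib.Helper68BGC.map_commutator_subtype]
          exact hXd hx
        obtain ⟨y, hy, hyx⟩ := h1
        have h2 : y ∈ ((hPs.toSylow : Sylow p (sigmaCore M)) : Subgroup (sigmaCore M)) := by
          show y ∈ P.subgroupOf (sigmaCore M)
          rw [mem_subgroupOf]
          have : (y : G) = x := hyx
          rw [this]
          exact hXP hx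
        have h3 := mem_derived_of_normal_complement hcomp hPs.toSylow h2 hy
        have h4 := mem_map_of_mem (sigmaCore M).subtype h3
        rw [Subgroup.map_commutator, hPs.map_toSylow] at h4
        rw [← hyx]
        exact h4
      have hna : ¬ IsMulCommutative P := by
        intro hab
        apply hX1
        rw [eq_bot_iff]
        exact hXP'.trans (commutator_self_eq_bot_iff.mpr hab).le
      by_cases hr : PRankLE p 2 P
      · refine ⟨P, le_rfl, ?_, Cfsg.Agent.S1422.result hG p P hP.2.1 hna⟩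
        rcases Cfsg.Agent.S1412.result hG p hPt.toSylowTop hr with hab | ⟨P₁, P₂, hsup, hcomm, -, hc3, -, hcyc, -⟩
        · exact absurd hab hna
        · have hsup' : P₁ ⊔ P₂ = P := hsup
          have h1 := derived_le_centralizer_of_central_product hc3 hcomm inferInstance
          rw [hsup'] at h1
          exact le_centralizer_iff.mp (hXP'.trans h1)
      · have hnc : ¬ IsCyclic P := fun hc =>
          hr (rank_mono hpp.pos (rank_one_of_cyclic hpp.pos) (by norm_num))
        obtain ⟨W, hWP, hn, hWe, hWc⟩ := exists_normal_sq hp2 hP.2.1 hnc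
        have hd := derived_le_centralizer_sq hP.2.1 hWP hn hWc
        obtain ⟨B, hBP, hBe, hBc, hBX⟩ :=
          exists_rank3_of_centralizes hP.2.1 hr hWP hn hWe hWc hXP (hXP'.trans hd) hX
        exact ⟨B, hBP, hBX, rk3 B hBe hBc⟩
  obtain ⟨B, hBP, hBC, hBU⟩ := key
  have hCtop : centralizer (X : Set G) ≠ ⊤ := by
    intro htop
    apply norm_ne_top hG hX1 (pgroup_ne_top hG hXp)
    exact top_le_iff.mp (htop ▸ centralizer_le_normalizer _)
  refine ⟨⟨le_of_uniq hM (hBP.trans hP.1) hBU hBC hCtop, fun L hL hCL => ?_⟩, ?_⟩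
  · obtain ⟨M', -, hu⟩ := hBU
    rw [hu L ⟨hL, hBC.trans hCL⟩, hu M ⟨hM, hBP.trans hP.1⟩]
  · intro Q hQ
    have hPU := uniq_mono hBU hBP (pgroup_ne_top hG hP.2.1)
    obtain ⟨m, hm, hle⟩ := exists_cj_le hQ hP.2.1 hP.1
    exact uniq_mono (uniq_cj hPU m) hle (pgroup_ne_top hG hQ.2.1)

end Cfsg.Agent.Lib.Helper30BG3
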