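import Cfsg.Agent.Lib.Helper52BGDefs
import Cfsg.Agent.Lib.Helper65RelHall
import Cfsg.Agent.Lib.Helper1Hall

/-!
Bender-Glauberman 9.6: the two-prime argument.
-/

set_option autoImplicit false
open Cfsg

namespace Cfsg.Agent.Lib.Helper52BGPsi

open Subgroup
open Cfsg.Agent.Lib.Helper30Trans
open Cfsg.Agent.Lib.Helper24BG
open Cfsg.Agent.Lib.Helper52BGDefs

universe u
variable {G : Type u} [Group G] [Finite G]

/-! ### ambient coprime Sylow theory -/

theorem exists_inv_syl {A L U : Subgroup G} (hAL : A ≤ normalizer (L : Set G))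
    (hcop : (Nat.card A).Coprime (Nat.card L)) (hsolv : Group.IsSolvable A)
    (q : ℕ) [Fact q.Prime] (hUL : U ≤ L) (hU : IsPGroup q U) (hAU : A ≤ normalizer (U : Set G)) :
    ∃ R : Subgroup G, IsSyl q R L ∧ U ≤ R ∧ A ≤ normalizer (R : Set G) := by
  obtain ⟨R, h1, h2⟩ := Cfsg.Agent.Lib.Helper1SylowInv.exists_invariant_sylow_ge A L hAL hcop
    (Or.inl hsolv) q U hUL hU hAU
  exact ⟨_, isSyl_of_sylow R, h1, h2⟩

theorem inv_syl_conj {A L R₁ R₂ : Subgroup G} (hAL : A ≤ normalizer (L : Set G))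
    (hcop : (Nat.card A).Coprime (Nat.card L)) (hsolv : Group.IsSolvable A)
    (q : ℕ) [Fact q.Prime] (h₁ : IsSyl q R₁ L) (h₂ : IsSyl q R₂ L)
    (hA₁ : A ≤ normalizer (R₁ : Set G)) (hA₂ : A ≤ normalizer (R₂ : Set G)) :
    ∃ c ∈ L ⊓ centralizer (A : Set G), R₂ = cj c R₁ := by
  obtain ⟨c, hc, h⟩ := Cfsg.Agent.Lib.Helper1SylowInv.exists_centralizer_conj_sylow A L hAL hcop
    (Or.inl hsolv) q h₁.toSylow h₂.toSylow (by rw [h₁.map_toSylow]; exact hA₁)
    (by rw [h₂.map_toSylow]; exact hA₂)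
  refine ⟨c, ⟨c.2, hc⟩, ?_⟩
  have h3 := congrArg (fun S : Sylow q L => (S : Subgroup L).map L.subtype) h
  simp only [Sylow.pointwise_smul_def, Cfsg.Agent.Lib.Helper1SylowInv.map_conj_smul] at h3
  rw [h₁.map_toSylow, h₂.map_toSylow] at h3
  rw [← h3]
  rfl

theorem card_isSyl {q : ℕ} [Fact q.Prime] {R L : Subgroup G} (h : IsSyl q R L) :
    Nat.card R = q ^ (Nat.card L).factorization q := by
  rw [← h.map_toSylow, card_map_of_injective L.subtype_injective]
  exact Sylow.card_eq_multiplicity _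

/-- if one `A`-invariant Sylow `q`-subgroup of `L` lies in `Z ≥ K`, all `A`-invariant `q`-subgroups do -/
theorem all_le_of_syl_le (hG : IsMinSimpleOddOrder G) {A L R Z : Subgroup G}
    (hTH : TransitivityHypothesis A) (hsolv : Group.IsSolvable A)
    (hAL : A ≤ normalizer (L : Set G)) (hcop : (Nat.card A).Coprime (Nat.card L))
    (q : ℕ) [Fact q.Prime] (hR : IsSyl q R L) (hAR : A ≤ normalizer (R : Set G)) (hRZ : R ≤ Z)
    (hKZ : Kc A ≤ Z) :
    ∀ U : Subgroup G, U ≤ L → IsPGroup q U → A ≤ normalizer (U : Set G) → U ≤ Z := by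
  intro U hUL hU hAU
  obtain ⟨R₂, hR₂, hUR₂, hAR₂⟩ := exists_inv_syl hAL hcop hsolv q hUL hU hAU
  obtain ⟨c, hc, rfl⟩ := inv_syl_conj hAL hcop hsolv q hR hR₂ hAR hAR₂
  have hcK : c ∈ Kc A := core_inf_centralizer_le hG.2.1 hTH (Y := L ⊓ centralizer (A : Set G))
    inf_le_right (Nat.Coprime.of_dvd_right (card_dvd_of_le inf_le_left) hcop) hc
  refine hUR₂.trans ?_
  rintro _ ⟨x, hx, rfl⟩
  exact Z.mul_mem (Z.mul_mem (hKZ hcK) (hRZ hx)) (Z.inv_mem (hKZ hcK))

/-- an `A`-invariant Hall `{s,t}`-subgroup containing a given invariant Sylow `s`-subgroup -/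
theorem exists_hall_st {A L S₁ : Subgroup G} (hAL : A ≤ normalizer (L : Set G))
    (hcop : (Nat.card A).Coprime (Nat.card L)) (hLs : Group.IsSolvable L)
    (s t : ℕ) [Fact s.Prime] [Fact t.Prime] (hS₁ : IsSyl s S₁ L)
    (hAS₁ : A ≤ normalizer (S₁ : Set G)) :
    ∃ J : Subgroup G, J ≤ L ∧ A ≤ normalizer (J : Set G) ∧ S₁ ≤ J ∧
      (∀ r : ℕ, r.Prime → r ∣ Nat.card J → r = s ∨ r = t) ∧
      (Nat.card J).factorization t = (Nat.card L).factorization t := by
  have hs : s.Prime := Fact.out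
  have ht : t.Prime := Fact.out
  obtain ⟨m₀, n, hL, hm₀, hn⟩ := Cfsg.Agent.Lib.Helper65RelHall.exists_pi_split ({s, t} : Set ℕ)
    (Nat.card L) Nat.card_pos
  have hnL : n ∣ Nat.card L := hL ▸ Dvd.intro_left m₀ rfl
  have hΓ : Nat.card (A ⊔ L : Subgroup G) = (Nat.card A * m₀) * n := by
    rw [Cfsg.Agent.Lib.Helper65RelHall.card_sup_of_coprime' A L hAL hcop, hL, mul_assoc]
  have hAn : (Nat.card A).Coprime n := Nat.Coprime.of_dvd_right hnL hcop
  have hmn : (Nat.card A * m₀).Coprime n :=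
    Nat.Coprime.mul_left hAn (Cfsg.Agent.Lib.Helper65RelHall.coprime_of_pi hm₀ hn)
  obtain ⟨-, hD⟩ := Cfsg.Agent.Lib.Helper65RelHall.relHall_in (A ⊔ L) L le_sup_right
    (sup_le hAL le_normalizer) hLs (Nat.card A * m₀) n hΓ hmn hnL
  have hsn : ¬ s ∣ n := fun h => hn s hs h (by simp)
  have htn : ¬ t ∣ n := fun h => hn t ht h (by simp)
  have hS₁n : (Nat.card S₁).Coprime n := by
    obtain ⟨k, hk⟩ := IsPGroup.iff_card.mp hS₁.2.1
    rw [hk]
    exact Nat.Coprime.pow_left k ((Nat.Prime.coprime_iff_not_dvd hs).mpr hsn)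
  obtain ⟨H, hHΓ, hHc, hle⟩ := hD (A ⊔ S₁) (sup_le le_sup_left (hS₁.1.trans le_sup_right))
    (Nat.Coprime.of_dvd_left (Cfsg.Agent.Lib.Helper65RelHall.card_sup_dvd A S₁ hAS₁)
      (Nat.Coprime.mul_left hAn hS₁n))
  have hAH : A ≤ H := le_sup_left.trans hle
  have hHL : H ≤ normalizer (L : Set G) := hHΓ.trans (sup_le hAL le_normalizer)
  have hsup : H ⊔ L = A ⊔ L := le_antisymm (sup_le hHΓ le_sup_right) (sup_le_sup_right hAH L)
  have hcard := Cfsg.Agent.Lib.Helper65RelHall.card_sup_mul_card_inf H L hHL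
  rw [hsup, Cfsg.Agent.Lib.Helper65RelHall.card_sup_of_coprime' A L hAL hcop, hHc] at hcard
  have hJ : Nat.card (H ⊓ L : Subgroup G) = m₀ := by
    have h1 : Nat.card A * Nat.card L * Nat.card (H ⊓ L : Subgroup G) = Nat.card A * Nat.card L * m₀ := by
      rw [hcard]; ring
    exact Nat.eq_of_mul_eq_mul_left (Nat.mul_pos Nat.card_pos Nat.card_pos) h1
  refine ⟨H ⊓ L, inf_le_right, ?_, le_inf (le_sup_right.trans hle) hS₁.1, ?_, ?_⟩
  · exact (le_inf (hAH.trans le_normalizer) hAL).trans inf_normalizer_le_normalizer_inf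
  · intro r hr hd
    rw [hJ] at hd
    simpa using hm₀ r hr hd
  · have hm0 : m₀ ≠ 0 := by
      rintro rfl
      rw [zero_mul] at hL
      exact Nat.card_pos.ne' hL
    have hn0 : n ≠ 0 := by
      rintro rfl
      rw [mul_zero] at hL
      exact Nat.card_pos.ne' hL
    rw [hJ, hL, Nat.factorization_mul hm0 hn0, Finsupp.add_apply,
      Nat.factorization_eq_zero_of_not_dvd htn, add_zero]

/-- Sylow tower: in an `{s,t}`-group of odd order and rank at most two the Sylow subgroup for the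
larger prime is normal -/
theorem syl_normal_of_rank {J S₁ T₁ : Subgroup G} (hJs : Group.IsSolvable J)
    (hJodd : Odd (Nat.card J)) {s t : ℕ} [Fact s.Prime] [Fact t.Prime] (hts : t < s)
    (hst : ∀ r : ℕ, r.Prime → r ∣ Nat.card J → r = s ∨ r = t) (hS₁ : IsSyl s S₁ J)
    (hT₁ : IsSyl t T₁ J) (hrs : PRankLE s 2 S₁) (hrt : PRankLE t 2 T₁) :
    J ≤ normalizer (S₁ : Set G) := by
  have hs : s.Prime := Fact.out
  have hrank : RankLE 2 J := by
    intro r hr
    by_cases h1 : r = s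
    · subst h1
      exact Cfsg.Agent.Lib.Helper3NarrowApp.rank_of_sylow hS₁.toSylow
        (Cfsg.Agent.Lib.Helper3RankTower.rank_of_injective (subgroupOfEquivOfLe hS₁.1).toMonoidHom
          (subgroupOfEquivOfLe hS₁.1).injective hrs)
    by_cases h2 : r = t
    · subst h2
      exact Cfsg.Agent.Lib.Helper3NarrowApp.rank_of_sylow hT₁.toSylow
        (Cfsg.Agent.Lib.Helper3RankTower.rank_of_injective (subgroupOfEquivOfLe hT₁.1).toMonoidHom
          (subgroupOfEquivOfLe hT₁.1).injective hrt)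
    intro B _ hBe
    have : Fact r.Prime := ⟨hr⟩
    have hBp : IsPGroup r B := fun b => ⟨1, by rw [pow_one]; exact Subtype.ext (hBe b b.2)⟩
    obtain ⟨k, hk⟩ := IsPGroup.iff_card.mp hBp
    have hk0 : k = 0 := by
      by_contra hk0
      have h3 : r ∣ Nat.card J := (hk ▸ dvd_pow_self r hk0 : r ∣ Nat.card B).trans
        (card_subgroup_dvd_card B)
      rcases hst r hr h3 with h | h
      · exact h1 h
      · exact h2 h
    rw [hk, hk0, pow_zero]
    exact Nat.one_le_pow _ _ hr.pos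
  obtain ⟨N, hNc, hN1, hN2⟩ := (Cfsg.Agent.S1451.result (G := J) hJodd (Or.inl hrank)).2.2 t
  have hNn : N.Normal := inferInstance
  have hNp : IsPGroup s N := by
    refine IsPGroup.of_card (Nat.eq_prime_pow_of_unique_prime_dvd Nat.card_pos.ne' ?_)
    intro d hd hdvd
    rcases hst d hd (hdvd.trans (card_subgroup_dvd_card N)) with h | h
    · exact h
    · exact absurd (hN1 d hd hdvd).2 (by rw [h]; exact lt_irrefl t)
  have hNi : ¬ s ∣ N.index := hN2 s hs ⟨hs, hts⟩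
  have h1 : S₁.subgroupOf J ≤ N := by
    obtain ⟨g, hg⟩ := Cfsg.Agent.Lib.Helper1Hall.exists_conj_mem_of_isPGroup_of_not_dvd_index s
      (hS₁.2.1.comap_subtype (K := J)) hNi
    intro x hx
    have h2 := hNn.conj_mem _ (hg x hx) g
    simpa [mul_assoc] using h2
  have h2 : N = S₁.subgroupOf J := (hS₁.toSylow).3 hNp h1
  rw [← normal_subgroupOf_iff_le_normalizer hS₁.1, ← h2]
  exact hNn

theorem isSyl_of_factorization {q : ℕ} [Fact q.Prime] {R J L : Subgroup G} (h : IsSyl q R J)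
    (hJL : J ≤ L) (hf : (Nat.card J).factorization q = (Nat.card L).factorization q) :
    IsSyl q R L := by
  obtain ⟨R₂, hR₂, hle⟩ := exists_isSyl_ge (h.1.trans hJL) h.2.1
  have h1 : R = R₂ := eq_of_le_of_card_ge hle (by rw [card_isSyl h, card_isSyl hR₂, hf])
  rw [h1]
  exact hR₂

theorem le_normalizer_bot (A : Subgroup G) : A ≤ normalizer ((⊥ : Subgroup G) : Set G) := by
  rw [normalizer_eq_top]
  exact le_top

/-- the conclusion of the two-prime argument for the `A`-invariant `p'`-subgroup `L` -/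
def Concl (A X Y : Subgroup G) (s t : ℕ) (L : Subgroup G) : Prop :=
  (∀ T₀ : Subgroup G, T₀ ≤ L → IsPGroup t T₀ → A ≤ normalizer (T₀ : Set G) → T₀ ≤ X) ∨
  (∀ S₀ : Subgroup G, S₀ ≤ L → IsPGroup s S₀ → A ≤ normalizer (S₀ : Set G) → S₀ ≤ Y)

theorem psi {p : ℕ} [Fact p.Prime] (hG : IsMinSimpleOddOrder G) {A : Subgroup G}
    (hTH : TransitivityHypothesis A)
    (hAp : IsPGroup p A) {s t : ℕ} [Fact s.Prime] [Fact t.Prime]
    (hts : t < s) {X Y : Subgroup G} (hX : Large A X s) (hY : Large A Y t) :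
    ∀ L : Subgroup G, A ≤ normalizer (L : Set G) → (Nat.card L).Coprime p → Concl A X Y s t L := by
  have hpp : p.Prime := Fact.out
  have hs : s.Prime := Fact.out
  have hAs : Group.IsSolvable A := by
    have := hAp.isNilpotent
    infer_instance
  obtain ⟨k, hk⟩ := IsPGroup.iff_card.mp hAp
  have hk0 : k ≠ 0 := by
    rintro rfl
    exact hTH.1 (card_eq_one.mp (by simpa using hk))
  have hpA : p ∣ Nat.card A := hk ▸ dvd_pow_self p hk0
  have hcopA : ∀ L : Subgroup G, (Nat.card L).Coprime p → (Nat.card A).Coprime (Nat.card L) := by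
    intro L hL
    rw [hk]
    exact Nat.Coprime.pow_left k hL.symm
  have hcopA' : ∀ L : Subgroup G, (Nat.card A).Coprime (Nat.card L) → (Nat.card L).Coprime p :=
    fun L hL => (Nat.Coprime.of_dvd_left hpA hL).symm
  by_contra hcon
  push Not at hcon
  obtain ⟨L₀, hAL₀, hL₀p, hL₀n⟩ := hcon
  let 𝒞 : Set (Subgroup G) :=
    {L | A ≤ normalizer (L : Set G) ∧ (Nat.card L).Coprime p ∧ ¬ Concl A X Y s t L}
  obtain ⟨L, ⟨hAL, hLp, hLn⟩, hmax⟩ := Set.exists_max_image 𝒞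
    (fun L => (Nat.card L).factorization s) (Set.toFinite _) ⟨L₀, hAL₀, hL₀p, hL₀n⟩
  have hLtop : L ≠ ⊤ := by
    rintro rfl
    rw [card_top] at hLp
    exact hpp.one_lt.ne' (Nat.eq_one_of_dvd_coprimes hLp (hpA.trans (card_subgroup_dvd_card A)) dvd_rfl)
  have hLs := sol hG hLtop
  have hcop := hcopA L hLp
  obtain ⟨S₁, hS₁, -, hAS₁⟩ := exists_inv_syl hAL hcop hAs s (U := ⊥) bot_le IsPGroup.of_bot
    (le_normalizer_bot A)
  obtain ⟨J, hJL, hAJ, hS₁J, hst, hJf⟩ := exists_hall_st hAL hcop hLs s t hS₁ hAS₁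
  have hcopJ : (Nat.card A).Coprime (Nat.card J) := Nat.Coprime.of_dvd_right (card_dvd_of_le hJL) hcop
  obtain ⟨T₁, hT₁, -, hAT₁⟩ := exists_inv_syl hAJ hcopJ hAs t (U := ⊥) bot_le IsPGroup.of_bot
    (le_normalizer_bot A)
  have hT₁L : IsSyl t T₁ L := isSyl_of_factorization hT₁ hJL hJf
  have hleft : T₁ ≤ X → False := fun h =>
    hLn (Or.inl (all_le_of_syl_le hG hTH hAs hAL hcop t hT₁L hAT₁ h hX.K_le))
  have hright : S₁ ≤ Y → False := fun h =>
    hLn (Or.inr (all_le_of_syl_le hG hTH hAs hAL hcop s hS₁ hAS₁ h hY.K_le))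
  by_cases hrs : PRankLE s 2 S₁
  swap
  · exact hleft (hT₁L.1.trans (hX.rank3 S₁ L hS₁.2.1 hAS₁ hrs hS₁.1 hLtop))
  by_cases hrt : PRankLE t 2 T₁
  swap
  · exact hright (hS₁.1.trans (hY.rank3 T₁ L hT₁.2.1 hAT₁ hrt hT₁L.1 hLtop))
  have hJtop : J ≠ ⊤ := fun h => hLtop (top_le_iff.mp (h ▸ hJL))
  have hJN : J ≤ normalizer (S₁ : Set G) := syl_normal_of_rank (sol hG hJtop) (odd_sub hG J) hts hst
    (hS₁.mono hS₁J hJL) hT₁ hrs hrt
  by_cases hS1 : S₁ = ⊥
  · exact hright (by rw [hS1]; exact bot_le)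
  have hN : normalizer (S₁ : Set G) ≠ ⊤ := norm_ne_top hG hS1 (pgroup_ne_top hG hS₁.2.1)
  set L' := piCoreOf (primesNotDvd (Nat.card A)) (normalizer (S₁ : Set G)) with hL'
  have hJL' : J ≤ L' := le_core_of_mem_inv hTH hN hAS₁ ⟨hJN, primesNotDvd_of_coprime hcopJ, hAJ⟩
  have hAL' : A ≤ normalizer (L' : Set G) := hAS₁.trans (le_normalizer_piCoreOf _ _)
  have hL'cop : (Nat.card A).Coprime (Nat.card L') := coprime_core _
  obtain ⟨B, hB, hS₁B⟩ := exists_max_ge (H := ⊤) (A := A) (π := {s})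
    (mem_inv_of_isPGroup le_top hS₁.2.1 hAS₁)
  by_cases hEq : S₁ = B
  · have h1 : normalizer (S₁ : Set G) ≤ X :=
      hX.rank3 S₁ _ hS₁.2.1 hAS₁ (hEq ▸ hX.big B hB) le_normalizer hN
    exact hleft ((hT₁.1.trans hJN).trans h1)
  have hBs : IsPGroup s B := isPGroup_of_mem_inv hB.1
  have hlt := exists_lt_normalizer hBs (lt_of_le_of_ne hS₁B hEq)
  set B₁ := B ⊓ normalizer (S₁ : Set G) with hB₁
  have hB₁s : IsPGroup s B₁ := hBs.to_le inf_le_left
  have hAB₁ : A ≤ normalizer (B₁ : Set G) :=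
    (le_inf hB.1.2.2 (hAS₁.trans le_normalizer)).trans inf_normalizer_le_normalizer_inf
  obtain ⟨j, hj⟩ := IsPGroup.iff_card.mp hB₁s
  have hB₁cop : (Nat.card A).Coprime (Nat.card B₁) := by
    rw [hj, hk]
    apply Nat.Coprime.pow
    rw [Nat.coprime_primes hpp hs]
    rintro rfl
    have h2 : S₁ = ⊥ := by
      obtain ⟨i, hi⟩ := IsPGroup.iff_card.mp hS₁.2.1
      have h3 : Nat.card S₁ = 1 := by
        apply Nat.Coprime.eq_one_of_dvd _ (card_dvd_of_le hS₁.1)
        rw [hi]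
        exact Nat.Coprime.pow_left i hLp.symm
      exact card_eq_one.mp h3
    exact hS1 h2
  have hB₁L' : B₁ ≤ L' := le_core_of_mem_inv hTH hN hAS₁
    ⟨inf_le_right, primesNotDvd_of_coprime hB₁cop, hAB₁⟩
  have hf : (Nat.card L).factorization s < (Nat.card L').factorization s := by
    have h1 : Nat.card S₁ < Nat.card B₁ := by
      by_contra h
      exact hlt.ne (eq_of_le_of_card_ge hlt.le (not_lt.mp h))
    rw [card_isSyl hS₁, hj] at h1
    have h2 : (Nat.card L).factorization s < j := (Nat.pow_lt_pow_iff_right hs.one_lt).mp h1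
    have h3 : s ^ j ∣ Nat.card L' := hj ▸ card_dvd_of_le hB₁L'
    exact h2.trans_le ((hs.pow_dvd_iff_le_factorization Nat.card_pos.ne').mp h3)
  have hC : Concl A X Y s t L' := by
    by_contra h
    exact absurd (hmax L' ⟨hAL', hcopA' L' hL'cop, h⟩) (not_le.mpr hf)
  rcases hC with h | h
  · exact hleft (h T₁ (hT₁.1.trans hJL') hT₁.2.1 hAT₁)
  · exact hright (h S₁ (hS₁J.trans hJL') hS₁.2.1 hAS₁)

end Cfsg.Agent.Lib.Helper52BGPsi
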