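import Mathlib

set_option autoImplicit false

namespace Cfsg.Agent.Lib.Helper76SylowCount

open Subgroup

variable {G : Type*} [Group G]

theorem relIndex_sup_of_le_normalizer (H K : Subgroup G) (h : H ≤ normalizer (K : Set G)) :
    K.relIndex (H ⊔ K) = K.relIndex H := by
  letI := Subgroup.normal_subgroupOf_of_le_normalizer h
  letI := Subgroup.normal_subgroupOf_sup_of_le_normalizer h
  exact Nat.card_congr (QuotientGroup.quotientInfEquivProdNormalizerQuotient H K h).toEquiv.symm

/-- second isomorphism theorem, index form: `|HK : H| = |K : H ∩ K|` -/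
theorem relIndex_sup_self [Finite G] (H K : Subgroup G) (h : H ≤ normalizer (K : Set G)) :
    H.relIndex (H ⊔ K) = H.relIndex K := by
  have h1 : H.relIndex K * K.relIndex (H ⊔ K) = (H ⊓ K).relIndex (H ⊔ K) := by
    rw [← Subgroup.inf_relIndex_right, Subgroup.relIndex_mul_relIndex _ _ _ inf_le_right le_sup_right]
  have h2 : K.relIndex H * H.relIndex (H ⊔ K) = (H ⊓ K).relIndex (H ⊔ K) := by
    rw [← Subgroup.inf_relIndex_left, Subgroup.relIndex_mul_relIndex _ _ _ inf_le_left le_sup_left]
  have h3 := relIndex_sup_of_le_normalizer H K h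
  have h4 : K.relIndex H ≠ 0 := Subgroup.index_ne_zero_of_finite
  apply Nat.eq_of_mul_eq_mul_left (Nat.pos_of_ne_zero h4)
  rw [h2, ← h1, h3, mul_comm]

theorem relIndex_inf_of_le (A M K : Subgroup G) (hKM : K ≤ M) :
    (A ⊓ M).relIndex K = A.relIndex K := by
  rw [← Subgroup.inf_relIndex_right, inf_assoc, inf_of_le_right hKM, Subgroup.inf_relIndex_right]

variable {p : ℕ} [Fact p.Prime]

theorem mem_smul_sylow (g x : G) (P : Sylow p G) :
    x ∈ g • P ↔ g⁻¹ * x * g ∈ P := by
  have h : x ∈ ((g • P : Sylow p G) : Subgroup G) ↔ g⁻¹ * x * g ∈ (P : Subgroup G) := by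
    rw [Sylow.coe_subgroup_smul, Subgroup.mem_pointwise_smul_iff_inv_smul_mem]
    simp [MulAut.smul_def]
  exact h

/-- number of Sylow subgroups of a subgroup containing a Sylow subgroup of `G` -/
theorem card_sylow_subgroup [Finite G] (M : Subgroup G) (P : Sylow p G) (hP : (P : Subgroup G) ≤ M) :
    Nat.card (Sylow p M) = (normalizer ((P : Subgroup G) : Set G)).relIndex M := by
  rw [(P.subtype hP).card_eq_index_normalizer, Subgroup.relIndex,
    Subgroup.subgroupOf_normalizer_eq hP]
  rfl

/-- number of Sylow subgroups of a subgroup, from a Sylow subgroup of that subgroup -/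
theorem card_sylow_subgroup' [Finite G] (M : Subgroup G) (D : Sylow p M) :
    Nat.card (Sylow p M) =
      (normalizer (((D : Subgroup M).map M.subtype : Subgroup G) : Set G)).relIndex M := by
  rw [D.card_eq_index_normalizer, Subgroup.relIndex,
    Subgroup.subgroupOf_normalizer_eq (Subgroup.map_subtype_le _)]
  congr 2
  have : ((D : Subgroup M).map M.subtype).subgroupOf M = (D : Subgroup M) :=
    Subgroup.comap_map_eq_self_of_injective M.subtype_injective _
  rw [this]
  rfl

/-- the normalizer of the image of a Sylow subgroup in a quotient -/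
theorem normalizer_map_mk [Finite G] (K : Subgroup G) [K.Normal] (P : Sylow p G) :
    normalizer ((((P : Subgroup G).map (QuotientGroup.mk' K) : Subgroup (G ⧸ K))) : Set (G ⧸ K)) =
      (normalizer ((P : Subgroup G) : Set G)).map (QuotientGroup.mk' K) := by
  apply le_antisymm _ (Subgroup.le_normalizer_map _)
  intro gb hgb
  obtain ⟨g, rfl⟩ := QuotientGroup.mk'_surjective K gb
  have hM : (P : Subgroup G) ≤ (P : Subgroup G) ⊔ K := le_sup_left
  have hgP : ((g • P : Sylow p G) : Subgroup G) ≤ (P : Subgroup G) ⊔ K := by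
    intro x hx
    have hx' : g⁻¹ * x * g ∈ (P : Subgroup G) := (mem_smul_sylow g x P).mp hx
    have h1 : QuotientGroup.mk' K (g⁻¹ * x * g) ∈ (P : Subgroup G).map (QuotientGroup.mk' K) :=
      Subgroup.mem_map_of_mem _ hx'
    have h2 := (hgb _).mp h1
    have h3 : QuotientGroup.mk' K x ∈ (P : Subgroup G).map (QuotientGroup.mk' K) := by
      have : QuotientGroup.mk' K g * QuotientGroup.mk' K (g⁻¹ * x * g) *
          (QuotientGroup.mk' K g)⁻¹ = QuotientGroup.mk' K x := by
        rw [← map_inv, ← map_mul, ← map_mul]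
        congr 1
        group
      rw [this] at h2
      exact h2
    have h4 : x ∈ ((P : Subgroup G).map (QuotientGroup.mk' K)).comap (QuotientGroup.mk' K) := h3
    rwa [Subgroup.comap_map_eq, QuotientGroup.ker_mk'] at h4
  obtain ⟨m, hm⟩ := MulAction.exists_smul_eq ((P : Subgroup G) ⊔ K : Subgroup G)
    ((g • P).subtype hgP) (P.subtype hM)
  rw [Sylow.smul_subtype] at hm
  have hm' : (m : G) • (g • P) = P := Sylow.subtype_injective hm
  rw [smul_smul, Sylow.smul_eq_iff_mem_normalizer] at hm'
  -- m = a * k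
  have hmem : (m : G) ∈ ((P : Subgroup G) ⊔ K : Subgroup G) := m.2
  rw [← SetLike.mem_coe, Subgroup.mul_normal] at hmem
  obtain ⟨a, ha, k, hk, hak⟩ := hmem
  have ha' : a ∈ normalizer ((P : Subgroup G) : Set G) := Subgroup.le_normalizer ha
  refine ⟨a⁻¹ * (m * g), Subgroup.mul_mem _ (Subgroup.inv_mem _ ha') hm', ?_⟩
  have h5 : a⁻¹ * ((m : G) * g) = k * g := by rw [← hak]; group
  rw [h5, map_mul]
  have : QuotientGroup.mk' K k = 1 := (QuotientGroup.eq_one_iff k).mpr hk
  rw [this, one_mul]

theorem card_sylow_quotient [Finite G] (K : Subgroup G) [K.Normal] (P : Sylow p G) :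
    Nat.card (Sylow p (G ⧸ K)) = (normalizer ((P : Subgroup G) : Set G) ⊔ K).index := by
  rw [(P.mapSurjective (QuotientGroup.mk'_surjective K)).card_eq_index_normalizer]
  have h1 := normalizer_map_mk K P
  have h2 : normalizer (((P.mapSurjective (QuotientGroup.mk'_surjective K) :
      Sylow p (G ⧸ K)) : Set (G ⧸ K))) =
      (normalizer ((P : Subgroup G) : Set G)).map (QuotientGroup.mk' K) := h1
  rw [h2, Subgroup.index_map, QuotientGroup.ker_mk',
    MonoidHom.range_eq_top.mpr (QuotientGroup.mk'_surjective K), Subgroup.index_top, mul_one]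

/-- `n_p(G) = n_p(G/K) |K : N_K(P)|` -/
theorem card_sylow_eq_mul [Finite G] (K : Subgroup G) [K.Normal] (P : Sylow p G) :
    Nat.card (Sylow p G) =
      Nat.card (Sylow p (G ⧸ K)) * (normalizer ((P : Subgroup G) : Set G)).relIndex K := by
  rw [card_sylow_quotient K P, P.card_eq_index_normalizer,
    ← relIndex_sup_self _ K Subgroup.le_normalizer_of_normal, mul_comm]
  exact (Subgroup.relIndex_mul_index le_sup_left).symm

/-- quotient by a normal subgroup normalizing a Sylow subgroup does not change the Sylow number -/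
theorem card_sylow_quotient_eq [Finite G] (K : Subgroup G) [K.Normal] (P : Sylow p G)
    (hK : K ≤ normalizer ((P : Subgroup G) : Set G)) :
    Nat.card (Sylow p (G ⧸ K)) = Nat.card (Sylow p G) := by
  rw [card_sylow_eq_mul K P, Subgroup.relIndex_eq_one.mpr hK, mul_one]

end Cfsg.Agent.Lib.Helper76SylowCount
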