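import Mathlib
import Cfsg.Agent.Lib.Helper24Frob
import Cfsg.Agent.Lib.Helper24BG3
import Cfsg.Agent.Lib.Helper3AutRank
import Cfsg.Agent.Lib.Helper52BGPsi
import Cfsg.Agent.Lib.Helper31UniqD
import Cfsg.Agent.Lib.Helper54Coprime
import Cfsg.Agent.Lib.Helper27BGa
import Cfsg.Agent.Lib.Helper31BGS
import Cfsg.Agent.Lib.Helper30BG3
import Cfsg.Agent.Lib.Helper76SylowCount
import Cfsg.Agent.S1407
import Cfsg.Agent.S1414

set_option autoImplicit false
open Cfsg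

namespace Cfsg.Agent.Lib.Helper24BGAsym

open Subgroup
open Cfsg.Agent.Lib.Helper30Trans
open Cfsg.Agent.Lib.Helper24BG
open Cfsg.Agent.Lib.Helper24BG2
open Cfsg.Agent.Lib.Helper24BG3

universe u
variable {G : Type u} [Group G]

/-- in a cyclic group an element killed by the prime `r` lies in the subgroup generated by any
element of order `r` -/
theorem mem_zpowers_of_pow_eq_one [Finite G] {r : ℕ} (hr : r.Prime) {C : Subgroup G} (hC : IsCyclic C)
    {c y : G} (hc : c ∈ C) (hy : y ∈ C) (hcr : c ^ r = 1) (hyo : orderOf y = r) : c ∈ zpowers y := by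
  let _ : CommGroup C := IsCyclic.commGroup
  set Kr : Subgroup C := (powMonoidHom r : C →* C).ker with hKr
  have hmem : ∀ x : C, x ∈ Kr ↔ x ^ r = 1 := fun x => by
    rw [hKr, MonoidHom.mem_ker, powMonoidHom_apply]
  have hcard : Nat.card Kr ≤ r := by
    apply card_le_of_cyclic_exp hr.pos
    intro x
    exact Subtype.ext ((hmem x.1).mp x.2)
  have hyK : zpowers (⟨y, hy⟩ : C) ≤ Kr := by
    rw [zpowers_le, hmem]
    apply Subtype.ext
    show y ^ r = 1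
    rw [← hyo]; exact pow_orderOf_eq_one y
  have hyc : Nat.card (zpowers (⟨y, hy⟩ : C)) = r := by
    rw [Nat.card_zpowers, ← hyo]
    exact Subgroup.orderOf_mk y hy
  have heq : zpowers (⟨y, hy⟩ : C) = Kr := eq_of_le_of_card_ge hyK (by rw [hyc]; exact hcard)
  have h1 : (⟨c, hc⟩ : C) ∈ zpowers (⟨y, hy⟩ : C) := by
    rw [heq, hmem]
    exact Subtype.ext hcr
  obtain ⟨k, hk⟩ := mem_zpowers_iff.mp h1
  exact mem_zpowers_iff.mpr ⟨k, congrArg Subtype.val hk⟩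


theorem solvable_of_pgroup [Finite G] {r : ℕ} [Fact r.Prime] {R : Subgroup G} (hR : IsPGroup r R) :
    Group.IsSolvable R := by
  have := hR.isNilpotent
  infer_instance

theorem coprime_card_of_pgroup [Finite G] {r n : ℕ} [hr : Fact r.Prime] {R : Subgroup G} (hR : IsPGroup r R)
    (h : n.Coprime r) : n.Coprime (Nat.card R) := by
  obtain ⟨k, hk⟩ := IsPGroup.iff_card.mp hR
  rw [hk]
  exact Nat.Coprime.pow_right k h

/-- `P` of prime order acts fixed-point-freely on `S`, `S P` acts on the `r`-group `R` (`r` odd, prime to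
`|S||P|`), `C_R(P)` is cyclic and `C_R(SP) ≠ 1`.  Then `S` centralizes `R`. -/
theorem centralizes_of_cyclic_fix [Finite G] {r : ℕ} [hr : Fact r.Prime] (hr2 : r ≠ 2)
    {R S P : Subgroup G}
    (hR : IsPGroup r R) (hSR : S ≤ normalizer (R : Set G)) (hPR : P ≤ normalizer (R : Set G))
    (hPS : P ≤ normalizer (S : Set G)) (hP : (Nat.card P).Prime)
    (hcopS : (Nat.card S).Coprime r) (hcopP : (Nat.card P).Coprime r)
    (hreg : S ⊓ centralizer (P : Set G) = ⊥) (hcyc : IsCyclic ↥(R ⊓ centralizer (P : Set G)))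
    {y : G} (hyR : y ∈ R) (hy1 : y ≠ 1) (hyS : y ∈ centralizer (S : Set G))
    (hyP : y ∈ centralizer (P : Set G)) : S ≤ centralizer (R : Set G) := by
  by_contra hcon
  obtain ⟨s, hs, hsC⟩ := SetLike.not_le_iff_exists.mp hcon
  have hyp : IsPGroup r (zpowers y) := hR.to_le (zpowers_le.mpr hyR)
  obtain ⟨y', hy'z, hy'o⟩ : ∃ y' ∈ zpowers y, orderOf y' = r := by
    have hne : zpowers y ≠ ⊥ := by rwa [Ne, zpowers_eq_bot]
    have hd : r ∣ Nat.card (zpowers y) := dvd_card_of_pgroup hyp hne le_rfl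
    obtain ⟨w, hw⟩ := exists_prime_orderOf_dvd_card' r hd
    exact ⟨w, w.2, by rw [← hw]; exact (Subgroup.orderOf_coe w)⟩
  set α : MulAut R := R.normalizerMonoidHom ⟨s, hSR hs⟩ with hα
  have hαx : ∀ x : R, ((α x : R) : G) = s * x * s⁻¹ := fun x => rfl
  have hα1 : α ≠ 1 := by
    intro h1
    apply hsC
    rw [mem_centralizer_iff]
    intro x hx
    have h2 := hαx ⟨x, hx⟩
    rw [h1] at h2
    have h3 : x = s * x * s⁻¹ := h2
    calc x * s = s * x * s⁻¹ * s := by rw [← h3]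
      _ = s * x := by group
  have hcop : (orderOf α).Coprime r := by
    have h1 : orderOf α ∣ orderOf (⟨s, hSR hs⟩ : normalizer (R : Set G)) := orderOf_map_dvd _ _
    rw [Subgroup.orderOf_mk] at h1
    have h2 : orderOf s ∣ Nat.card S := by
      rw [← Subgroup.orderOf_mk s hs]; exact orderOf_dvd_natCard _
    exact Nat.Coprime.of_dvd_left (h1.trans h2) hcopS
  obtain ⟨D, hDchar, hDexp, x, hxD, hxα⟩ :=
    Cfsg.Agent.Lib.Helper3AutRank.exists_exp_p hr2 hR α hcop hα1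
  set D' : Subgroup G := D.map R.subtype with hD'
  have hD'R : D' ≤ R := map_subtype_le _
  have hnD : normalizer (R : Set G) ≤ normalizer (D' : Set G) :=
    Cfsg.Agent.Lib.Helper30SZ.normalizer_le_normalizer_map_of_characteristic D
  have hD'p : IsPGroup r D' := hR.to_le hD'R
  have hSD : S ≤ centralizer (D' : Set G) := by
    apply Cfsg.Agent.Lib.Helper24Frob.frob_fix (solvable_of_pgroup hD'p) (hSR.trans hnD)
      (hPR.trans hnD) hPS hP (coprime_card_of_pgroup hD'p hcopS) (coprime_card_of_pgroup hD'p hcopP) hreg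
    rintro c ⟨hcD, hcP⟩
    obtain ⟨d, hd, rfl⟩ := hcD
    have hcr : ((d : R) : G) ^ r = 1 := congrArg Subtype.val (hDexp d hd)
    have hzy : zpowers y ≤ R ⊓ centralizer (P : Set G) := zpowers_le.mpr ⟨hyR, hyP⟩
    have h1 : ((d : R) : G) ∈ zpowers y' :=
      mem_zpowers_of_pow_eq_one hr.out hcyc ⟨d.2, hcP⟩ (hzy hy'z) hcr hy'o
    have h2 : zpowers y' ≤ centralizer (S : Set G) :=
      zpowers_le.mpr ((zpowers_le.mpr hyS : zpowers y ≤ _) hy'z)
    exact h2 h1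
  apply hxα
  apply Subtype.ext
  rw [hαx]
  have h1 := (mem_centralizer_iff.mp (hSD hs)) (x : G) ⟨x, hxD, rfl⟩
  rw [← h1, mul_inv_cancel_right]

/-- a solvable group acting coprimely on a group with cyclic Sylow subgroups: the derived subgroup
acts trivially -/
theorem commutator_le_centralizer_of_cyclic_sylows [Finite G] {A B : Subgroup G}
    (hAB : A ≤ normalizer (B : Set G)) (hcop : (Nat.card A).Coprime (Nat.card B))
    (hsolv : Group.IsSolvable A)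
    (hcyc : ∀ (t : ℕ) [Fact t.Prime] (T : Subgroup G), IsSyl t T B → IsCyclic T) :
    ⁅A, A⁆ ≤ centralizer (B : Set G) := by
  rw [le_centralizer_iff]
  rw [← Subgroup.subgroupOf_eq_top, ← Subgroup.index_eq_one, Nat.eq_one_iff_not_exists_prime_dvd]
  intro t ht hdvd
  have : Fact t.Prime := ⟨ht⟩
  obtain ⟨T, hT, -, hAT⟩ := Cfsg.Agent.Lib.Helper52BGPsi.exists_inv_syl hAB hcop hsolv t
    (U := ⊥) bot_le IsPGroup.of_bot (Cfsg.Agent.Lib.Helper52BGPsi.le_normalizer_bot A)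
  obtain ⟨⟨z, hzT⟩, hz⟩ := (hcyc t T hT).exists_generator
  have hTz : T = zpowers z := by
    apply le_antisymm
    · intro x hx
      obtain ⟨k, hk⟩ := mem_zpowers_iff.mp (hz ⟨x, hx⟩)
      exact mem_zpowers_iff.mpr ⟨k, congrArg Subtype.val hk⟩
    · exact zpowers_le.mpr hzT
  have h1 : ⁅A, A⁆ ≤ centralizer ({z} : Set G) :=
    Cfsg.Agent.Lib.Helper31UniqD.commutator_le_centralizer_zpowers (hTz ▸ hAT)
  have h2 : T ≤ centralizer ((⁅A, A⁆ : Subgroup G) : Set G) := by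
    rw [hTz, zpowers_le, mem_centralizer_iff]
    intro a ha
    exact mem_centralizer_singleton_iff.mp (h1 ha)
  have h3 : ((hT.toSylow : Sylow t B) : Subgroup B) ≤
      (centralizer ((⁅A, A⁆ : Subgroup G) : Set G)).subgroupOf B := by
    intro x hx
    rw [mem_subgroupOf]
    exact h2 (mem_subgroupOf.mp hx)
  exact (hT.toSylow).not_dvd_index (hdvd.trans (Subgroup.index_dvd_of_le h3))


/-! ### the two maximal subgroups -/

section side

variable [Finite G]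

/-- `M_β` -/
abbrev Kb (M : Subgroup G) : Subgroup G := piCoreOf (beta M) M

/-- the hypotheses on one of the two maximal subgroups -/
structure Side (M Ms S P : Subgroup G) (q p : ℕ) : Prop where
  hM : IsCoatom M
  hMs : IsCoatom Ms
  hne : M ≠ Ms
  hS : IsPGroup q S
  hN : normalizer (S : Set G) ≤ M ⊓ Ms
  hMK : Kb M ⊔ normalizer (S : Set G) = M
  hq : q ∉ beta M
  hp : p ∈ tau1 M
  hpq : p ≠ q
  hP : Nat.card P = p
  hPN : P ≤ normalizer (S : Set G)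
  hreg : S ⊓ centralizer (P : Set G) = ⊥
  hdisj : ∀ r : ℕ, r ∈ beta M → r ∈ beta Ms → False

theorem Kb_le (M : Subgroup G) : Kb M ≤ M := map_subtype_le _

theorem le_normalizer_Kb (M : Subgroup G) : M ≤ normalizer (Kb M : Set G) :=
  Cfsg.Agent.Lib.Helper37Cores.le_normalizer_map_subtype _

theorem Kb_le_alphaCore (M : Subgroup G) : Kb M ≤ alphaCore M := by
  apply map_mono
  apply sSup_le_sSup
  rintro N ⟨hN, h⟩
  exact ⟨hN, fun p hp hd => (h p hp hd).1⟩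

variable (hG : IsMinSimpleOddOrder G)
include hG

theorem mem_beta_of_dvd {M : Subgroup G} (hM : IsCoatom M) {r : ℕ} (hr : r.Prime)
    (h : r ∣ Nat.card (Kb M)) : r ∈ beta M :=
  (Cfsg.Agent.S1414.result hG M hM).1.2.1 r hr h

theorem pgroup_le_Kb {M : Subgroup G} (hM : IsCoatom M) {r : ℕ} [hr : Fact r.Prime] (hβ : r ∈ beta M)
    {U : Subgroup G} (hU : IsPGroup r U) (hUM : U ≤ M) : U ≤ Kb M := by
  apply Cfsg.Agent.Lib.Helper30BG2.le_of_normal_hall (Kb_le M) (le_normalizer_Kb M) hUM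
  exact coprime_of_isPGroup_not_dvd hU ((Cfsg.Agent.S1414.result hG M hM).1.2.2 r hr.out hβ)

theorem beta_subset_sigma {M : Subgroup G} (hM : IsCoatom M) {r : ℕ} (hβ : r ∈ beta M) :
    r ∈ sigma M := by
  have : Fact r.Prime := ⟨hβ.1.1⟩
  exact Cfsg.Agent.Lib.Helper27BGa.alpha_subset_sigma hG hM hβ.1

theorem coprime_Kb {M : Subgroup G} (hM : IsCoatom M) {t : ℕ} [Fact t.Prime] (ht : t ∉ beta M)
    {U : Subgroup G} (hU : IsPGroup t U) : (Nat.card U).Coprime (Nat.card (Kb M)) :=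
  coprime_of_isPGroup_not_dvd hU (fun h => ht (mem_beta_of_dvd hG hM Fact.out h))

/-- a Sylow subgroup of `M_β` lies in no other maximal subgroup -/
theorem syl_Kb_not_le {M Ms : Subgroup G} (hM : IsCoatom M) (hMs : IsCoatom Ms) (hne : M ≠ Ms)
    {r : ℕ} [hr : Fact r.Prime] (hd : r ∣ Nat.card (Kb M)) {R : Subgroup G} (hR : IsSyl r R (Kb M)) :
    ¬ R ≤ Ms := by
  intro hle
  have hβ := mem_beta_of_dvd hG hM hr.out hd
  have hRM : IsSyl r R M := by
    refine ⟨hR.1.trans (Kb_le M), hR.2.1, fun Q hQM hQ hRQ => ?_⟩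
    exact hR.2.2 Q (pgroup_le_Kb hG hM hβ hQ hQM) hQ hRQ
  have h3 : ¬ PRankLE r 2 R := fun h => hβ.1.2 (Cfsg.Agent.Lib.Helper27BGa.rank_of_isSyl hRM h)
  obtain ⟨L, -, hu⟩ := Cfsg.Agent.Lib.Helper27BGa.uniq_of_rank3 hG (pgroup_ne_top hG hR.2.1) h3
  exact hne ((hu M ⟨hM, hRM.1⟩).trans (hu Ms ⟨hMs, hle⟩).symm)


variable {M Ms S P : Subgroup G} {q p : ℕ} [hqf : Fact q.Prime] [hpf : Fact p.Prime]

theorem Side.S_le (h : Side M Ms S P q p) : S ≤ M ⊓ Ms := le_normalizer.trans h.hN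

theorem Side.P_le (h : Side M Ms S P q p) : P ≤ M ⊓ Ms := h.hPN.trans h.hN

theorem Side.A_le (h : Side M Ms S P q p) : S ⊔ P ≤ M ⊓ Ms := sup_le (h.S_le hG) (h.P_le hG)

theorem Side.hPp (h : Side M Ms S P q p) : IsPGroup p P :=
  Cfsg.Agent.Lib.Helper30BG2.isPGroup_of_card_prime h.hP

theorem Side.p_not_beta (h : Side M Ms S P q p) : p ∉ beta M :=
  fun hβ => h.hp.2.1 (beta_subset_sigma hG h.hM hβ)

theorem Side.A_sol (h : Side M Ms S P q p) : Group.IsSolvable ↥(S ⊔ P) :=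
  sol hG (ne_top_of_le_ne_top h.hM.1 ((h.A_le hG).trans inf_le_left))

theorem Side.A_cop (h : Side M Ms S P q p) : (Nat.card ↥(S ⊔ P)).Coprime (Nat.card (Kb M)) := by
  rw [sup_comm]
  exact Nat.Coprime.of_dvd_left (Cfsg.Agent.Lib.Helper65RelHall.card_sup_dvd P S h.hPN)
    (Nat.Coprime.mul_left (coprime_Kb hG h.hM (h.p_not_beta hG) (h.hPp hG)) (coprime_Kb hG h.hM h.hq h.hS))

theorem Side.A_norm (h : Side M Ms S P q p) : S ⊔ P ≤ normalizer (Kb M : Set G) :=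
  ((h.A_le hG).trans inf_le_left).trans (le_normalizer_Kb M)

theorem Side.Kb_ne_bot (h : Side M Ms S P q p) : Kb M ≠ ⊥ := by
  intro h0
  have h1 := h.hMK
  rw [h0, bot_sup_eq] at h1
  have h2 : M ≤ Ms := by
    rw [← h1]; exact h.hN.trans inf_le_right
  rcases eq_or_lt_of_le h2 with h3 | h3
  · exact h.hne h3
  · exact h.hMs.1 (h.hM.2 Ms h3)

/-- no subgroup of `M_β` that is nontrivial can have all its Sylow subgroups... : `M_β ≰ M*` -/
theorem Side.Kb_not_le (h : Side M Ms S P q p) : ¬ Kb M ≤ Ms := by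
  intro hle
  obtain ⟨r, hr, hd⟩ := Nat.exists_prime_and_dvd
    (fun h1 => (h.Kb_ne_bot hG) (card_eq_one.mp h1) : Nat.card (Kb M) ≠ 1)
  have : Fact r.Prime := ⟨hr⟩
  obtain ⟨R, hR, -⟩ := exists_isSyl_ge (p := r) (bot_le : (⊥ : Subgroup G) ≤ Kb M) IsPGroup.of_bot
  exact syl_Kb_not_le hG h.hM h.hMs h.hne hd hR (hR.1.trans hle)

/-- `C_{M_β}(P) ≠ 1` -/
theorem Side.fixP_ne_bot (h : Side M Ms S P q p) : Kb M ⊓ centralizer (P : Set G) ≠ ⊥ := by
  intro h0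
  have hsolK : Group.IsSolvable (Kb M) := sol hG (ne_top_of_le_ne_top h.hM.1 (Kb_le M))
  have h1 : S ≤ centralizer (Kb M : Set G) :=
    Cfsg.Agent.Lib.Helper84BGFrobact.frob_act hsolK (le_sup_left.trans (h.A_norm hG))
      (le_sup_right.trans (h.A_norm hG)) h.hPN (h.hP ▸ hpf.out) (coprime_Kb hG h.hM h.hq h.hS)
      (coprime_Kb hG h.hM (h.p_not_beta hG) (h.hPp hG)) h.hreg h0
  apply h.Kb_not_le hG
  exact ((le_centralizer_iff.mp h1).trans (centralizer_le_normalizer _)).trans (h.hN.trans inf_le_right)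

/-- `C_{M_α}(P)` is a Z-group -/
theorem Side.zgroup (h : Side M Ms S P q p) :
    IsZGroup ↥(alphaCore M ⊓ centralizer (P : Set G)) := by
  have hp2 : p ≠ 2 := ne_two hG (h.hPp hG) (Cfsg.Agent.Lib.Helper30BG2.ne_bot_of_card_prime h.hP)
  obtain ⟨P₀, hP₀, hPP₀⟩ := exists_isSyl_ge ((h.P_le hG).trans inf_le_left) (h.hPp hG)
  have hα : alphaCore M ≠ ⊥ := fun h0 => h.Kb_ne_bot hG (le_bot_iff.mp (h0 ▸ Kb_le_alphaCore M))
  obtain ⟨x, hx, hxo, hZ, -⟩ :=
    Cfsg.Agent.S1407.result hG M h.hM hα p h.hp.2.2.1 h.hp.2.1 hP₀.toSylow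
  have hxP₀ : x ∈ P₀ := by
    obtain ⟨y, ⟨z, hz, rfl⟩, rfl⟩ := hx
    exact mem_subgroupOf.mp z.2
  have hcyc : IsCyclic P₀ := Cfsg.Agent.Lib.Helper27BGa.cyclic_of_rank_one hp2 hP₀.2.1
    (rank_le_of_le hP₀.1 h.hp.2.2.2.2)
  have hPx : P = zpowers x := by
    apply eq_of_le_of_card_ge
    · intro c hc
      refine mem_zpowers_of_pow_eq_one hpf.out hcyc (hPP₀ hc) hxP₀ ?_ hxo
      have := Cfsg.Agent.Lib.Helper30Coprime.pow_card_of_mem hc
      rwa [h.hP] at this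
    · rw [Nat.card_zpowers, hxo, h.hP]
  rw [hPx, Cfsg.Agent.Lib.Helper27BGa.centralizer_zpowers_eq]
  exact hZ

/-- `C_{M_β}(SP) = 1` -/
theorem Side.fixSP_eq_bot (h : Side M Ms S P q p) :
    Kb M ⊓ centralizer (S : Set G) ⊓ centralizer (P : Set G) = ⊥ := by
  by_contra hne
  obtain ⟨r, hr, hd⟩ := Nat.exists_prime_and_dvd
    (fun h1 => hne (card_eq_one.mp h1) :
      Nat.card ↥(Kb M ⊓ centralizer (S : Set G) ⊓ centralizer (P : Set G)) ≠ 1)
  have : Fact r.Prime := ⟨hr⟩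
  obtain ⟨y, hy⟩ := exists_prime_orderOf_dvd_card' r hd
  obtain ⟨y0, ⟨hyK, hyS⟩, hyP⟩ := y
  have hyo : orderOf y0 = r := by rw [← hy]; exact (Subgroup.orderOf_mk _ _).symm
  have hy1 : y0 ≠ 1 := by
    rintro rfl
    rw [orderOf_one] at hyo
    exact hr.one_lt.ne hyo
  have hrK : r ∣ Nat.card (Kb M) := hd.trans (card_dvd_of_le (inf_le_left.trans inf_le_left))
  have hrβ := mem_beta_of_dvd hG h.hM hr hrK
  have hU : IsPGroup r (zpowers y0) :=
    IsPGroup.of_card (n := 1) (by rw [Nat.card_zpowers, hyo, pow_one])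
  have hAU : S ⊔ P ≤ normalizer ((zpowers y0 : Subgroup G) : Set G) := by
    refine le_trans ?_ (centralizer_le_normalizer _)
    exact sup_le (le_centralizer_iff.mp (zpowers_le.mpr hyS)) (le_centralizer_iff.mp (zpowers_le.mpr hyP))
  obtain ⟨R, hR, hUR, hAR⟩ := Cfsg.Agent.Lib.Helper52BGPsi.exists_inv_syl (h.A_norm hG) (h.A_cop hG)
    (h.A_sol hG) r (U := zpowers y0) (zpowers_le.mpr hyK) hU hAU
  have hyR : y0 ∈ R := hUR (mem_zpowers y0)
  have hR1 : R ≠ ⊥ := fun h0 => hy1 (by rw [h0, mem_bot] at hyR; exact hyR)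
  have hr2 : r ≠ 2 := ne_two hG hR.2.1 hR1
  have hcyc : IsCyclic ↥(R ⊓ centralizer (P : Set G)) := by
    have := h.zgroup hG
    have hle : R ⊓ centralizer (P : Set G) ≤ alphaCore M ⊓ centralizer (P : Set G) :=
      inf_le_inf_right _ (hR.1.trans (Kb_le_alphaCore M))
    have h1 : IsPGroup r
        ↥((R ⊓ centralizer (P : Set G)).subgroupOf (alphaCore M ⊓ centralizer (P : Set G))) :=
      (hR.2.1.to_le inf_le_left).comap_subtype
    have h2 := IsPGroup.isCyclic_of_isZGroup h1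
    exact isCyclic_of_surjective (subgroupOfEquivOfLe hle) (subgroupOfEquivOfLe hle).surjective
  have hqr : ¬ q ∣ r := fun hd => h.hq (((Nat.prime_dvd_prime_iff_eq hqf.out hr).mp hd) ▸ hrβ)
  have hpr : ¬ p ∣ r := fun hd =>
    h.p_not_beta hG (((Nat.prime_dvd_prime_iff_eq hpf.out hr).mp hd) ▸ hrβ)
  have hSR := centralizes_of_cyclic_fix hr2 hR.2.1 (le_sup_left.trans hAR) (le_sup_right.trans hAR)
    h.hPN (h.hP ▸ hpf.out) (coprime_of_isPGroup_not_dvd h.hS hqr)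
    (coprime_of_isPGroup_not_dvd (h.hPp hG) hpr) h.hreg hcyc hyR hy1 hyS hyP
  exact syl_Kb_not_le hG h.hM h.hMs h.hne hrK hR
    (((le_centralizer_iff.mp hSR).trans (centralizer_le_normalizer _)).trans (h.hN.trans inf_le_right))

/-- the Sylow subgroups of `M_β ∩ M*` are cyclic -/
theorem Side.cyclic_syl (h : Side M Ms S P q p) (t : ℕ) [ht : Fact t.Prime] (T : Subgroup G)
    (hT : IsSyl t T (Kb M ⊓ Ms)) : IsCyclic T := by
  by_contra hnc
  have hT1 : T ≠ ⊥ := by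
    rintro rfl
    exact hnc inferInstance
  have ht2 : t ≠ 2 := ne_two hG hT.2.1 hT1
  have hβ : t ∈ beta M := mem_beta_of_dvd hG h.hM ht.out
    (dvd_card_of_pgroup hT.2.1 hT1 (hT.1.trans inf_le_left))
  obtain ⟨W, hWT, -, hWe, hWc⟩ := exists_normal_sq ht2 hT.2.1 hnc
  obtain ⟨Q, hQ, hWQ⟩ := exists_isSyl_ge (le_top : W ≤ ⊤) (isPGroup_of_elemAb hWe)
  obtain ⟨B, hBQ, hBe, hWB⟩ := hβ.2.2.2 hQ.toSylowTop W hWQ hWe hWc
  have hWU : InUniqueMaximal W := by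
    refine Cfsg.Agent.S1403.result hG W (pgroup_ne_top hG (isPGroup_of_elemAb hWe)) ?_ (Or.inr ?_)
    · refine not_rankLE_of_elemAb ht.out le_rfl hWe ?_
      rw [hWc]
      exact Nat.pow_lt_pow_right ht.out.one_lt (by norm_num)
    · refine not_rankLE_of_elemAb ht.out (B := B) ?_ hBe ?_
      · have := hBe.1
        exact (le_centralizer B).trans (centralizer_le hWB.le)
      · rw [← hWc]
        exact Cfsg.Agent.Lib.Helper30Coprime.card_lt_of_lt hWB
  obtain ⟨L, -, hu⟩ := hWU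
  have hWK := hWT.trans hT.1
  exact h.hne ((hu M ⟨h.hM, hWK.trans (inf_le_left.trans (Kb_le M))⟩).trans
    (hu Ms ⟨h.hMs, hWK.trans inf_le_right⟩).symm)

/-- `S` centralizes `M_β ∩ M*` -/
theorem Side.S_cent (h : Side M Ms S P q p) :
    S ≤ centralizer ((Kb M ⊓ Ms : Subgroup G) : Set G) := by
  have hAB : S ⊔ P ≤ normalizer ((Kb M ⊓ Ms : Subgroup G) : Set G) :=
    (le_inf (h.A_norm hG) ((h.A_le hG).trans (inf_le_right.trans le_normalizer))).trans
      inf_normalizer_le_normalizer_inf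
  have hcop := Nat.Coprime.of_dvd_right (card_dvd_of_le (inf_le_left : Kb M ⊓ Ms ≤ Kb M)) (h.A_cop hG)
  have h1 := commutator_le_centralizer_of_cyclic_sylows hAB hcop (h.A_sol hG)
    (fun t _ T hT => h.cyclic_syl hG t T hT)
  refine le_trans ?_ h1
  intro k hk
  have hqp : ¬ q ∣ p := fun hd => h.hpq ((Nat.prime_dvd_prime_iff_eq hqf.out hpf.out).mp hd).symm
  have hcopPS : (Nat.card P).Coprime (Nat.card S) := by
    rw [h.hP]; exact (coprime_of_isPGroup_not_dvd h.hS hqp).symm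
  obtain ⟨x, hx, c, hc, rfl⟩ := Cfsg.Agent.Lib.Helper30SZ.exists_commutator_mul_centralizer
    (A := P) (K := S) h.hPN hcopPS (Or.inl (solvable_of_pgroup (h.hPp hG))) hk
  rw [h.hreg, mem_bot] at hc
  subst hc
  rw [mul_one]
  exact commutator_mono le_sup_left le_sup_right hx

/-- `C_{M_β}(P) ∩ M* = 1` -/
theorem Side.fixP_inf (h : Side M Ms S P q p) : Kb M ⊓ centralizer (P : Set G) ⊓ Ms = ⊥ := by
  rw [eq_bot_iff, ← h.fixSP_eq_bot hG]
  rintro x ⟨⟨hxK, hxP⟩, hxMs⟩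
  exact ⟨⟨hxK, le_centralizer_iff.mp (h.S_cent hG) ⟨hxK, hxMs⟩⟩, hxP⟩

/-- `r`-subgroups of `C_{M_β}(P)` are cyclic -/
theorem Side.cyclic_of_le (h : Side M Ms S P q p) {r : ℕ} [Fact r.Prime] {R : Subgroup G}
    (hR : IsPGroup r R) (hle : R ≤ Kb M ⊓ centralizer (P : Set G)) : IsCyclic R := by
  have := h.zgroup hG
  have hle' : R ≤ alphaCore M ⊓ centralizer (P : Set G) :=
    hle.trans (inf_le_inf_right _ (Kb_le_alphaCore M))
  have h1 : IsPGroup r ↥(R.subgroupOf (alphaCore M ⊓ centralizer (P : Set G))) := hR.comap_subtype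
  have h2 := IsPGroup.isCyclic_of_isZGroup h1
  exact isCyclic_of_surjective (subgroupOfEquivOfLe hle') (subgroupOfEquivOfLe hle').surjective

omit hqf hpf in
/-- for `X₀ ≤ M` of prime order `r ∈ β(M)`: `C(X₀) ≤ M`, and `M` is the only such maximal subgroup -/
theorem cent_uniq (hM : IsCoatom M) {r : ℕ} [Fact r.Prime] (hβ : r ∈ beta M) {X₀ : Subgroup G}
    (hXM : X₀ ≤ M) (hX : Nat.card X₀ = r) :
    centralizer (X₀ : Set G) ≤ M ∧ ∀ L : Subgroup G, IsCoatom L → centralizer (X₀ : Set G) ≤ L → L = M :=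
  (Cfsg.Agent.Lib.Helper30BG3.cent_der_sigma_uniq hG hM (beta_subset_sigma hG hM hβ) hXM hX
    (Or.inl hβ)).1

omit hG hqf hpf in
theorem exists_card_prime_le {r : ℕ} [hr : Fact r.Prime] {R : Subgroup G} (hR : IsPGroup r R)
    (h1 : R ≠ ⊥) : ∃ X₀ : Subgroup G, X₀ ≤ R ∧ Nat.card X₀ = r := by
  obtain ⟨w, hw⟩ := exists_prime_orderOf_dvd_card' r (dvd_card_of_pgroup hR h1 le_rfl)
  refine ⟨zpowers (w : G), zpowers_le.mpr w.2, ?_⟩
  rw [Nat.card_zpowers, Subgroup.orderOf_coe, hw]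

omit hqf hpf in
theorem norm_le_of_cyclic (hM : IsCoatom M) {r : ℕ} [Fact r.Prime] (hβ : r ∈ beta M)
    {R₀ : Subgroup G} (hR : IsPGroup r R₀) (h1 : R₀ ≠ ⊥) (hc : IsCyclic R₀) (hRM : R₀ ≤ M) :
    normalizer (R₀ : Set G) ≤ M := by
  obtain ⟨X₀, hX₀R, hX₀c⟩ := exists_card_prime_le hR h1
  have h2 := Cfsg.Agent.Lib.Helper27BGa.normalizer_le_of_cyclic hc hX₀R
  have hN : normalizer (X₀ : Set G) ≠ ⊤ :=
    norm_ne_top hG (Cfsg.Agent.Lib.Helper30BG2.ne_bot_of_card_prime hX₀c)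
      (pgroup_ne_top hG (Cfsg.Agent.Lib.Helper30BG2.isPGroup_of_card_prime hX₀c))
  obtain ⟨L, hL, hNL⟩ := exists_coatom hN
  have := (cent_uniq hG hM hβ (hX₀R.trans hRM) hX₀c).2 L hL ((centralizer_le_normalizer _).trans hNL)
  exact h2.trans (this ▸ hNL)

omit hG hqf hpf in
theorem cj_le_of_mem {H A : Subgroup G} {g : G} (hg : g ∈ H) (hA : A ≤ H) : cj g A ≤ H := by
  rintro _ ⟨a, ha, rfl⟩
  exact H.mul_mem (H.mul_mem hg (hA ha)) (H.inv_mem hg)

omit hG hqf hpf [Finite G] in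
theorem cj_centralizer_le (g : G) (A : Subgroup G) :
    centralizer ((cj g A : Subgroup G) : Set G) ≤ cj g (centralizer (A : Set G)) := by
  intro x hx
  rw [mem_cj, mem_centralizer_iff]
  intro a ha
  have h1 := (mem_centralizer_iff.mp hx) (g * a * g⁻¹) (conj_mem_cj ha)
  calc a * (g⁻¹ * x * g) = g⁻¹ * (g * a * g⁻¹ * x) * g := by group
    _ = g⁻¹ * (x * (g * a * g⁻¹)) * g := by rw [h1]
    _ = g⁻¹ * x * g * a := by group

omit hG hqf hpf [Finite G] in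
theorem cj_le_centralizer_cj (g : G) {A Y : Subgroup G} (h : Y ≤ centralizer (A : Set G)) :
    cj g Y ≤ centralizer ((cj g A : Subgroup G) : Set G) := by
  rintro _ ⟨y, hy, rfl⟩
  rw [mem_centralizer_iff]
  rintro _ ⟨a, ha, rfl⟩
  have h1 := (mem_centralizer_iff.mp (h hy)) a ha
  show g * a * g⁻¹ * (g * y * g⁻¹) = g * y * g⁻¹ * (g * a * g⁻¹)
  calc g * a * g⁻¹ * (g * y * g⁻¹) = g * (a * y) * g⁻¹ := by group
    _ = g * (y * a) * g⁻¹ := by rw [h1]
    _ = g * y * g⁻¹ * (g * a * g⁻¹) := by group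

omit hG hqf hpf in
/-- two subgroups of the same prime order of a cyclic group are equal -/
theorem eq_of_card_prime_of_cyclic {t : ℕ} [ht : Fact t.Prime] {C X Y : Subgroup G} (hC : IsCyclic C)
    (hXC : X ≤ C) (hYC : Y ≤ C) (hX : Nat.card X = t) (hY : Nat.card Y = t) : X = Y := by
  obtain ⟨w, hw⟩ := exists_prime_orderOf_dvd_card' (G := Y) t (by rw [hY])
  have hwo : orderOf (w : G) = t := by rw [Subgroup.orderOf_coe, hw]
  apply eq_of_le_of_card_ge
  · intro x hx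
    have h1 : x ^ t = 1 := by
      have := Cfsg.Agent.Lib.Helper30Coprime.pow_card_of_mem hx
      rwa [hX] at this
    exact (zpowers_le.mpr w.2 : zpowers (w : G) ≤ Y)
      (mem_zpowers_of_pow_eq_one ht.out hC (hXC hx) (hYC w.2) h1 hwo)
  · rw [hX, hY]

/-- if a `C(P)`-conjugate of a nontrivial subgroup of `C_{M*_β}(P)` lies in `M` we are done -/
theorem endgame (h : Side M Ms S P q p) (h' : Side Ms M S P q p) {t : ℕ} [ht : Fact t.Prime]
    {Y : Subgroup G} (hY : IsPGroup t Y) (hY1 : Y ≠ ⊥) (hYK : Y ≤ Kb Ms ⊓ centralizer (P : Set G))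
    {c : G} (hc : c ∈ centralizer (P : Set G)) (hcM : cj c Y ≤ M) : False := by
  have htβ : t ∈ beta Ms := mem_beta_of_dvd hG h.hMs ht.out
    (dvd_card_of_pgroup hY hY1 (hYK.trans inf_le_left))
  have htK : ¬ t ∣ Nat.card (Kb M) := fun hd => h.hdisj t (mem_beta_of_dvd hG h.hM ht.out hd) htβ
  -- a Sylow `t`-subgroup of `D = M ∩ M*` is Sylow in `M`
  have hidx : (M ⊓ Ms).relIndex M ∣ Nat.card (Kb M) := by
    have hsup : (M ⊓ Ms) ⊔ Kb M = M := by
      apply le_antisymm (sup_le inf_le_left (Kb_le M))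
      conv_lhs => rw [← h.hMK]
      rw [sup_comm]
      exact sup_le_sup_right h.hN _
    have h1 := Cfsg.Agent.Lib.Helper76SylowCount.relIndex_sup_self (M ⊓ Ms) (Kb M)
      (inf_le_left.trans (le_normalizer_Kb M))
    rw [hsup] at h1
    rw [h1]
    exact relIndex_dvd_card _ _
  obtain ⟨T, hT, -⟩ := exists_isSyl_ge (p := t) (bot_le : (⊥ : Subgroup G) ≤ M ⊓ Ms) IsPGroup.of_bot
  have hTM : IsSyl t T M := Cfsg.Agent.Lib.Helper31BGS.isSyl_of_not_dvd_relIndex hT inf_le_left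
    (fun hd => htK (hd.trans hidx))
  obtain ⟨m, hm, hmT⟩ := exists_cj_le hTM (hY.map _ : IsPGroup t (cj c Y)) hcM
  rw [← cj_mul] at hmT
  set g := m * c with hg
  have hgD : cj g Y ≤ M ⊓ Ms := hmT.trans hT.1
  -- `g ∈ M*`
  obtain ⟨X₀, hX₀Y, hX₀c⟩ := exists_card_prime_le hY hY1
  have hX₀Ms : X₀ ≤ Ms := hX₀Y.trans (hYK.trans (inf_le_left.trans (Kb_le Ms)))
  have hgMs : g ∈ Ms := by
    have h1 := (cent_uniq hG h.hMs htβ hX₀Ms hX₀c).1
    have h2 := (cent_uniq hG h.hMs htβ (X₀ := cj g X₀) ((cj_mono hX₀Y).trans (hgD.trans inf_le_right))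
      (by rw [card_cj, hX₀c])).2 (cj g Ms) (isCoatom_cj h.hMs g)
      ((cj_centralizer_le g X₀).trans (cj_mono h1))
    have h3 := Cfsg.Agent.Lib.Helper27BGa.mem_normalizer_of_cj_eq h2
    rwa [Cfsg.Agent.Lib.Helper27BGa.normalizer_coatom hG h.hMs] at h3
  -- `P^m ≤ D`
  have hcP : cj c P = P := cj_eq_self_of_mem_normalizer (centralizer_le_normalizer _ hc)
  have hgP : cj g P = cj m P := by rw [hg, cj_mul, hcP]
  have hmPD : cj m P ≤ M ⊓ Ms :=
    le_inf (cj_le_of_mem hm ((h.P_le hG).trans inf_le_left))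
      (hgP ▸ cj_le_of_mem hgMs ((h.P_le hG).trans inf_le_right))
  obtain ⟨Tp, hTp, hPTp⟩ := exists_isSyl_ge (h.P_le hG) (h.hPp hG)
  have hp2 : p ≠ 2 := ne_two hG (h.hPp hG) (Cfsg.Agent.Lib.Helper30BG2.ne_bot_of_card_prime h.hP)
  have hTpc : IsCyclic Tp := Cfsg.Agent.Lib.Helper27BGa.cyclic_of_rank_one hp2 hTp.2.1
    (rank_le_of_le (hTp.1.trans inf_le_left) h.hp.2.2.2.2)
  obtain ⟨d, hd, hdT⟩ := exists_cj_le hTp ((h.hPp hG).map _ : IsPGroup p (cj m P)) hmPD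
  have hdP : cj d (cj m P) = P :=
    eq_of_card_prime_of_cyclic hTpc hdT hPTp (by rw [card_cj, card_cj, h.hP]) h.hP
  -- the final subgroup
  have hY2D : cj d (cj g Y) ≤ M ⊓ Ms := cj_le_of_mem hd hgD
  have hY2P : cj d (cj g Y) ≤ centralizer (P : Set G) := by
    have h1 := cj_le_centralizer_cj d (cj_le_centralizer_cj g (hYK.trans inf_le_right))
    rwa [hgP, hdP] at h1
  have hY2K : cj d (cj g Y) ≤ Kb Ms :=
    pgroup_le_Kb hG h.hMs htβ ((hY.map _).map _) (hY2D.trans inf_le_right)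
  have hbot : cj d (cj g Y) ≤ ⊥ := by
    rw [← h'.fixP_inf hG]
    exact le_inf (le_inf hY2K hY2P) (hY2D.trans inf_le_left)
  apply hY1
  rw [← card_eq_one, ← card_cj g Y, ← card_cj d (cj g Y), le_bot_iff.mp hbot, card_bot]

/-- a Sylow `r`-subgroup of `C_{M_β}(P)` is a Sylow subgroup of `C(P)` -/
theorem Side.syl_cent (h : Side M Ms S P q p) {r : ℕ} [hr : Fact r.Prime] {R₀ : Subgroup G}
    (hR : IsSyl r R₀ (Kb M ⊓ centralizer (P : Set G))) (h1 : R₀ ≠ ⊥) :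
    IsSyl r R₀ (centralizer (P : Set G)) := by
  have hβ : r ∈ beta M := mem_beta_of_dvd hG h.hM hr.out
    (dvd_card_of_pgroup hR.2.1 h1 (hR.1.trans inf_le_left))
  have hcyc := h.cyclic_of_le hG hR.2.1 hR.1
  have hN := norm_le_of_cyclic hG h.hM hβ hR.2.1 h1 hcyc (hR.1.trans (inf_le_left.trans (Kb_le M)))
  refine ⟨hR.1.trans inf_le_right, hR.2.1, fun Q hQC hQ hRQ => ?_⟩
  by_contra hne
  have hlt : R₀ < Q := lt_of_le_of_ne hRQ (Ne.symm hne)
  have h2 := exists_lt_normalizer hQ hlt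
  have h3 : Q ⊓ normalizer (R₀ : Set G) ≤ Kb M ⊓ centralizer (P : Set G) :=
    le_inf (pgroup_le_Kb hG h.hM hβ (hQ.to_le inf_le_left) (inf_le_right.trans hN))
      (inf_le_left.trans hQC)
  have h4 := hR.2.2 _ h3 (hQ.to_le inf_le_left) h2.le
  exact h2.ne h4.symm

omit hG hqf hpf in
theorem exists_syl_ne_bot {X : Subgroup G} (hX : X ≠ ⊥) :
    ∃ (r : ℕ) (_ : Fact r.Prime) (R₀ : Subgroup G), IsSyl r R₀ X ∧ R₀ ≠ ⊥ := by
  obtain ⟨r, hr, hd⟩ := Nat.exists_prime_and_dvd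
    (fun h1 => hX (card_eq_one.mp h1) : Nat.card X ≠ 1)
  have hf : Fact r.Prime := ⟨hr⟩
  obtain ⟨w, hw⟩ := exists_prime_orderOf_dvd_card' r hd
  have hwo : orderOf (w : G) = r := by rw [Subgroup.orderOf_coe, hw]
  obtain ⟨R₀, hR₀, hle⟩ := exists_isSyl_ge (p := r) (B := zpowers (w : G)) (zpowers_le.mpr w.2)
    (IsPGroup.of_card (n := 1) (by rw [Nat.card_zpowers, hwo, pow_one]))
  refine ⟨r, hf, R₀, hR₀, ?_⟩
  rintro rfl
  have h1 : (w : G) = 1 := by
    have := hle (mem_zpowers (w : G))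
    rwa [mem_bot] at this
  rw [h1, orderOf_one] at hwo
  exact hr.one_lt.ne hwo

theorem asym_aux (h : Side M Ms S P q p) (h' : Side Ms M S P q p) : False := by
  have hP1 : P ≠ ⊥ := Cfsg.Agent.Lib.Helper30BG2.ne_bot_of_card_prime h.hP
  have hC : centralizer (P : Set G) ≠ ⊤ := fun htop =>
    norm_ne_top hG hP1 (pgroup_ne_top hG (h.hPp hG)) (top_le_iff.mp (htop ▸ centralizer_le_normalizer _))
  have hCs : Group.IsSolvable (centralizer (P : Set G)) := sol hG hC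
  obtain ⟨r, hr, R₀, hR₀, hR₀1⟩ := exists_syl_ne_bot (h.fixP_ne_bot hG)
  obtain ⟨r', hr', R₀', hR₀', hR₀'1⟩ := exists_syl_ne_bot (h'.fixP_ne_bot hG)
  have hR₀C := h.syl_cent hG hR₀ hR₀1
  have hR₀'C := h'.syl_cent hG hR₀' hR₀'1
  have hrβ : r ∈ beta M := mem_beta_of_dvd hG h.hM hr.out
    (dvd_card_of_pgroup hR₀.2.1 hR₀1 (hR₀.1.trans inf_le_left))
  have hr'β : r' ∈ beta Ms := mem_beta_of_dvd hG h.hMs hr'.out
    (dvd_card_of_pgroup hR₀'.2.1 hR₀'1 (hR₀'.1.trans inf_le_left))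
  have hrr' : r ≠ r' := fun e => h.hdisj r hrβ (e ▸ hr'β)
  obtain ⟨J, hJC, -, hR₀J, hJπ, hJf⟩ := Cfsg.Agent.Lib.Helper52BGPsi.exists_hall_st (A := ⊥)
    (L := centralizer (P : Set G)) (S₁ := R₀) bot_le (by simp) hCs r r' hR₀C bot_le
  obtain ⟨T₁, hT₁, -⟩ := exists_isSyl_ge (p := r') (bot_le : (⊥ : Subgroup G) ≤ J) IsPGroup.of_bot
  have hT₁C : IsSyl r' T₁ (centralizer (P : Set G)) :=
    Cfsg.Agent.Lib.Helper52BGPsi.isSyl_of_factorization hT₁ hJC hJf
  obtain ⟨c, hc, hcT⟩ := exists_cj_le hT₁C hR₀'C.2.1 hR₀'C.1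
  have hT₁eq : cj c R₀' = T₁ := eq_of_le_of_card_ge hcT (by
    rw [card_cj, Cfsg.Agent.Lib.Helper52BGPsi.card_isSyl hT₁C,
      Cfsg.Agent.Lib.Helper52BGPsi.card_isSyl hR₀'C])
  have hcyc0 : IsCyclic R₀ := h.cyclic_of_le hG hR₀.2.1 hR₀.1
  have hcyc1 : IsCyclic R₀' := h'.cyclic_of_le hG hR₀'.2.1 hR₀'.1
  have hcycT : IsCyclic T₁ := by
    rw [← hT₁eq]
    exact isCyclic_of_surjective ((MulAut.conj c).toMonoidHom.subgroupMap R₀')
      (MonoidHom.subgroupMap_surjective _ _)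
  have hJs : Group.IsSolvable J := sol hG (ne_top_of_le_ne_top hC hJC)
  have hJodd := odd_sub hG J
  have hR₀J' : IsSyl r R₀ J := hR₀C.mono hR₀J hJC
  have rk0 : PRankLE r 2 R₀ := rank_mono hr.out.pos (rank_one_of_cyclic hr.out.pos) (by norm_num)
  have rk1 : PRankLE r' 2 T₁ := rank_mono hr'.out.pos (rank_one_of_cyclic hr'.out.pos) (by norm_num)
  rcases lt_or_gt_of_ne hrr' with hlt | hlt
  · have hn := Cfsg.Agent.Lib.Helper52BGPsi.syl_normal_of_rank hJs hJodd hlt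
      (fun x hx hd => (hJπ x hx hd).symm) hT₁ hR₀J' rk1 rk0
    have h1 : R₀ ≤ normalizer ((cj c R₀' : Subgroup G) : Set G) := hT₁eq ▸ hR₀J.trans hn
    have hN' := norm_le_of_cyclic hG h.hMs hr'β hR₀'.2.1 hR₀'1 hcyc1
      (hR₀'.1.trans (inf_le_left.trans (Kb_le Ms)))
    have h2 : R₀ ≤ cj c Ms := by
      have h3 : cj c (normalizer (R₀' : Set G)) = normalizer ((cj c R₀' : Subgroup G) : Set G) :=
        map_equiv_normalizer_eq R₀' (MulAut.conj c)
      rw [← h3] at h1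
      exact h1.trans (cj_mono hN')
    exact endgame hG h' h hR₀.2.1 hR₀1 hR₀.1 (inv_mem hc) (by rw [cj_le_iff, inv_inv]; exact h2)
  · have hn := Cfsg.Agent.Lib.Helper52BGPsi.syl_normal_of_rank hJs hJodd hlt hJπ hR₀J' hT₁ rk0 rk1
    have hN := norm_le_of_cyclic hG h.hM hrβ hR₀.2.1 hR₀1 hcyc0
      (hR₀.1.trans (inf_le_left.trans (Kb_le M)))
    exact endgame hG h h' hR₀'.2.1 hR₀'1 hR₀'.1 hc (hT₁eq ▸ (hT₁.1.trans hn).trans hN)

end side

/-- **The asymmetry argument** (Bender-Glauberman, section 13): two distinct maximal subgroups `M`, `M*`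
containing `N(S)`, `M = M_β N(S)`, `M* = M*_β N(S)`, and a subgroup `P ≤ N(S)` of prime order
`p ∈ τ₁(M) ∩ τ₁(M*)` acting fixed-point-freely on `S`: impossible. -/
theorem asym [Finite G] (hG : IsMinSimpleOddOrder G) {M Ms : Subgroup G} (hM : IsCoatom M)
    (hMs : IsCoatom Ms) (hne : Ms ≠ M) {q p : ℕ} [Fact q.Prime] [Fact p.Prime] {S P : Subgroup G}
    (hSq : IsPGroup q S) (hS1 : S ≠ ⊥) (hN : normalizer (S : Set G) ≤ M ⊓ Ms)
    (hK : M ≤ piCoreOf (beta M) M ⊔ normalizer (S : Set G))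
    (hKs : Ms ≤ piCoreOf (beta Ms) Ms ⊔ normalizer (S : Set G))
    (hq : q ∉ beta M) (hqs : q ∉ beta Ms) (hdisj : ∀ r, r ∈ beta M → r ∈ beta Ms → False)
    (hp : p ∈ tau1 M) (hps : p ∈ tau1 Ms) (hPN : P ≤ normalizer (S : Set G)) (hPc : Nat.card P = p)
    (hSP : S ⊓ centralizer (P : Set G) = ⊥) : False := by
  have hpq : p ≠ q := by
    rintro rfl
    have h1 := Cfsg.Agent.Lib.Helper31BGS.card_modEq_inf_centralizer
      (Cfsg.Agent.Lib.Helper30BG2.isPGroup_of_card_prime hPc) hPN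
    rw [hSP, card_bot] at h1
    have h2 : p ∣ Nat.card S := dvd_card_of_pgroup hSq hS1 le_rfl
    have h3 : (0 : ℕ) ≡ 1 [MOD p] := ((Nat.modEq_zero_iff_dvd.mpr h2).symm).trans h1
    have h4 : p ∣ 1 := (Nat.modEq_zero_iff_dvd.mp h3.symm)
    exact (Fact.out : p.Prime).one_lt.ne' (Nat.dvd_one.mp h4)
  have hN' : normalizer (S : Set G) ≤ Ms ⊓ M := by rw [inf_comm]; exact hN
  exact asym_aux hG
    (⟨hM, hMs, hne.symm, hSq, hN, le_antisymm (sup_le (Kb_le M) (hN.trans inf_le_left)) hK, hq, hp, hpq,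
      hPc, hPN, hSP, hdisj⟩ : Side M Ms S P q p)
    (⟨hMs, hM, hne, hSq, hN', le_antisymm (sup_le (Kb_le Ms) (hN.trans inf_le_right)) hKs, hqs, hps, hpq,
      hPc, hPN, hSP, fun r h1 h2 => hdisj r h2 h1⟩ : Side Ms M S P q p)

end Cfsg.Agent.Lib.Helper24BGAsym
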