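import Mathlib
import Cfsg.Agent.Lib.Helper30BG13Defs
import Cfsg.Agent.Lib.Helper2BGb
import Cfsg.Agent.Lib.Helper2BGc
import Cfsg.Agent.Lib.Helper30SZ
import Cfsg.Agent.S1414

/-!
PROJECT 13, piece `cfgsigma` (B-G 13.1(a), case `t ∈ σ(H)`).
-/

set_option autoImplicit false
set_option linter.unusedSectionVars false

namespace Cfsg.Agent.Lib.Helper14BG13cfgsigma

open Cfsg Subgroup
open Cfsg.Agent.Lib.Helper30Trans Cfsg.Agent.Lib.Helper24BG Cfsg.Agent.Lib.Helper30BG13Defs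

variable {G : Type*} [Group G] [Finite G]

theorem Cfg.not_sigma (hG : IsMinSimpleOddOrder G) {M H T Q : Subgroup G} {t q : ℕ}
    (h : Cfg M H t q T Q) : t ∉ sigma H := by
  intro ht
  have := Fact.mk h.ht
  have := Fact.mk h.hq
  have hTσ : T ≤ sigmaCore H := Helper2BGb.pgroup_le_sigmaCore hG h.hH ht h.hTH h.hT
  have hQσ : Q ≤ sigmaCore H := by
    calc Q = ⁅Q, T⁆ := h.hcomm.symm
      _ = ⁅T, Q⁆ := commutator_comm _ _
      _ ≤ ⁅sigmaCore H, Q⁆ := commutator_mono hTσ le_rfl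
      _ ≤ sigmaCore H := Helper30SZ.commutator_le_of_le_normalizer
          (h.hQH.trans (Helper2BGb.le_normalizer_sigmaCore H))
  have hqQ : q ∣ Nat.card Q := dvd_card_of_pgroup h.hQ h.hQ1 le_rfl
  have hqM : q ∈ sigma M := Helper2BGb.card_sigmaCore M q h.hq (hqQ.trans (card_dvd_of_le h.hQM))
  have hqt : q ≠ t := by
    rintro rfl
    exact h.htM hqM
  have hqβ : q ∉ beta H := fun hβ => Helper37BG.sigma_beta_disjoint hG h.hM h.hH h.nc hqM hβ
  have hqdH : q ∣ Nat.card H := hqQ.trans (card_dvd_of_le h.hQH)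
  have hnpc := ((Cfsg.Agent.S1414.result hG H h.hH).2.2.2.2 q h.hq hqdH hqβ).2.1
  have hnpc' : Helper11Frobenius.HasNPC q (sigmaCore H) := Helper11Frobenius.hasNPC_iff.mpr hnpc
  have hTcop : (Nat.card T).Coprime q :=
    Helper37BG.coprime_of_isPGroup h.hT (fun hd => hqt ((Nat.prime_dvd_prime_iff_eq h.ht h.hq).mp hd).symm)
  have hTcore : T ≤ Helper37Cores.coreOf q (sigmaCore H) :=
    Helper2BGc.le_coreOf_of_npc hnpc' hTσ hTcop
  have hQcore : Q ≤ Helper37Cores.coreOf q (sigmaCore H) := by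
    calc Q = ⁅Q, T⁆ := h.hcomm.symm
      _ = ⁅T, Q⁆ := commutator_comm _ _
      _ ≤ ⁅Helper37Cores.coreOf q (sigmaCore H), Q⁆ := commutator_mono hTcore le_rfl
      _ ≤ Helper37Cores.coreOf q (sigmaCore H) := Helper30SZ.commutator_le_of_le_normalizer
          (hQσ.trans (Helper37Cores.le_normalizer_coreOf q _))
  exact (Nat.Prime.coprime_iff_not_dvd h.hq).mp
    (Helper37Cores.card_coreOf_coprime q (sigmaCore H)).symm (hqQ.trans (card_dvd_of_le hQcore))

end Cfsg.Agent.Lib.Helper14BG13cfgsigma
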