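import Mathlib
import Cfsg.Agent.Lib.Helper30BG2
import Cfsg.Agent.Lib.Helper68BGC
import Cfsg.Agent.S0033
import Cfsg.Agent.S1417

/-!
Bender-Glauberman, Lemma 14.1 and small tools on `τ₂(M)`, `κ(M)`.
-/

set_option autoImplicit false
set_option linter.style.haveILetI false
open Cfsg

namespace Cfsg.Agent.Lib.Helper30BG4

open Subgroup
open Cfsg.Agent.Lib.Helper30Trans
open Cfsg.Agent.Lib.Helper24BG
open Cfsg.Agent.Lib.Helper24BG2
open Cfsg.Agent.Lib.Helper30BG
open Cfsg.Agent.Lib.Helper30BG2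

universe u
variable {G : Type u} [Group G] [Finite G]

/-- Thompson's theorem, ambient form -/
theorem nilpotent_of_fpf {p : ℕ} (hp : p.Prime) {N : Subgroup G} {c : G}
    (hcN : c ∈ normalizer (N : Set G)) (hc : c ^ p = 1)
    (hf : N ⊓ centralizer ({c} : Set G) = ⊥) : Group.IsNilpotent N := by
  by_cases hNbot : N = ⊥
  · subst hNbot
    infer_instance
  let φ : N ≃* N := N.normalizerMonoidHom ⟨c, hcN⟩
  have hφ : ∀ x : N, ((φ x : N) : G) = c * x * c⁻¹ := fun x => rfl
  have hfpf : MonoidHom.FixedPointFree (φ : N →* N) := by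
    intro x hx
    apply Subtype.ext
    have h1 : c * x * c⁻¹ = x := congrArg Subtype.val hx
    have h2 : (x : G) ∈ N ⊓ centralizer ({c} : Set G) := by
      refine mem_inf.mpr ⟨x.2, ?_⟩
      rw [mem_centralizer_singleton_iff]
      calc (x : G) * c = (c * x * c⁻¹) * c := by rw [h1]
        _ = c * x := by group
    rw [hf, mem_bot] at h2
    exact h2
  have hφp : φ ^ p = 1 := by
    have : (⟨c, hcN⟩ : Subgroup.normalizer (N : Set G)) ^ p = 1 := Subtype.ext (by simpa using hc)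
    show (N.normalizerMonoidHom ⟨c, hcN⟩) ^ p = 1
    rw [← map_pow, this, map_one]
  have hφ1 : φ ≠ 1 := by
    intro h1
    apply hNbot
    rw [eq_bot_iff]
    intro x hx
    have := hfpf ⟨x, hx⟩ (by
      show φ ⟨x, hx⟩ = ⟨x, hx⟩
      rw [h1]; rfl)
    rw [Subgroup.mem_bot]
    exact congrArg Subtype.val this
  have := Fact.mk hp
  have hord : orderOf φ = p := orderOf_eq_prime hφp hφ1
  exact Cfsg.Agent.S0033.result φ hfpf p hp hord

variable {p : ℕ} [Fact p.Prime]

/-- a prime outside `σ(M)` for which `M` contains an `E_{p^2}` lies in `τ₂(M)` -/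
theorem mem_tau2 (hG : IsMinSimpleOddOrder G) {M : Subgroup G} (hM : IsCoatom M) (hp : p ∉ sigma M)
    {W : Subgroup G} (hWM : W ≤ M) (hWe : IsElementaryAbelian p W) (hWc : Nat.card W = p ^ 2) :
    p ∈ tau2 M := by
  have hpp : p.Prime := Fact.out
  refine ⟨hpp, hp, ?_, ?_⟩
  · by_contra h
    exact hp (Cfsg.Agent.Lib.Helper68BGC.alpha_sub_sigma hG hM ⟨hpp, h⟩)
  · apply not_rank_of_elemAb hWM hWe
    rw [hWc]
    exact Nat.pow_lt_pow_right hpp.one_lt (by norm_num)

/-- a Sylow subgroup of `M` for a prime dividing `|M|` is nontrivial -/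
theorem isSyl_ne_bot {M S : Subgroup G} (hS : IsSyl p S M) (hpM : p ∣ Nat.card M) : S ≠ ⊥ := by
  intro hbot
  have h3 := hS.toSylow.card_eq_multiplicity
  have h2 : ((hS.toSylow : Sylow p M) : Subgroup M) = ⊥ := by
    rw [← Subgroup.map_eq_bot_iff_of_injective _ M.subtype_injective, hS.map_toSylow]
    exact hbot
  rw [h2] at h3
  have h4 : (Nat.card M).factorization p ≠ 0 := by
    have hpos : Nat.card M ≠ 0 := Nat.card_pos.ne'
    exact (Nat.Prime.factorization_pos_of_dvd Fact.out hpos hpM).ne'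
  have h5 : p ^ (Nat.card M).factorization p = 1 := by
    rw [← h3]; simp
  rcases pow_eq_one_iff.mp h5 with h6 | h6
  · exact (Fact.out : p.Prime).one_lt.ne' h6
  · exact h4 h6

/-- a nontrivial `p`-group contains an element of order `p` -/
theorem exists_order_p {S : Subgroup G} (hS : IsPGroup p S) (h1 : S ≠ ⊥) :
    ∃ x ∈ S, x ≠ 1 ∧ x ^ p = 1 := by
  have hd : p ∣ Nat.card S := dvd_card_of_pgroup hS h1 le_rfl
  obtain ⟨x, hx⟩ := exists_prime_orderOf_dvd_card' (G := S) p hd
  refine ⟨x, x.2, ?_, ?_⟩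
  · intro h
    have : x = 1 := Subtype.ext h
    rw [this, orderOf_one] at hx
    exact (Fact.out : p.Prime).one_lt.ne hx
  · have := pow_orderOf_eq_one x
    rw [hx] at this
    exact_mod_cast congrArg Subtype.val this

/-- if `p ∉ σ(M) ∪ κ(M)` and the Sylow `p`-subgroup `S` of `M` is cyclic then `S` acts regularly on
`M_σ` -/
theorem regular_of_not_kappa {M S : Subgroup G} (hS : IsSyl p S M) (hpM : p ∣ Nat.card M)
    (hσ : p ∉ sigma M) (hκ : p ∉ kappa M) (hc : IsCyclic S) :
    ∀ x ∈ S, x ≠ 1 → ∀ y ∈ sigmaCore M, x * y = y * x → y = 1 := by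
  intro x hx hx1 y hy hxy
  by_contra hy1
  apply hκ
  refine ⟨Fact.out, hpM, hσ, fun P => ?_⟩
  have hP := isSyl_of_sylow P
  obtain ⟨m, hm, hle⟩ := exists_cj_le hP hS.2.1 hS.1
  have heq : cj m S = (P : Subgroup M).map M.subtype := by
    apply eq_of_le_of_card_ge hle
    obtain ⟨m', hm', hle'⟩ := exists_cj_le hS hP.2.1 hP.1
    rw [card_cj, ← card_cj m']
    exact card_le_of_le hle'
  constructor
  · have e1 : S ≃* cj m S := S.equivMapOfInjective _ (MulAut.conj m).injective
    have e2 : (P : Subgroup M) ≃* (P : Subgroup M).map M.subtype :=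
      (P : Subgroup M).equivMapOfInjective _ M.subtype_injective
    have h1 : IsCyclic (cj m S) := isCyclic_of_surjective e1 e1.surjective
    rw [heq] at h1
    exact isCyclic_of_surjective e2.symm e2.symm.surjective
  · have h1 : m * x * m⁻¹ ∈ (P : Subgroup M).map M.subtype := heq ▸ conj_mem_cj hx
    obtain ⟨z, hz, hzx⟩ := h1
    refine ⟨z, hz, ?_, m * y * m⁻¹, ?_, ?_, ?_⟩
    · rintro rfl
      apply hx1
      have h2 : m * x * m⁻¹ = 1 := hzx.symm
      have : x = m⁻¹ * (m * x * m⁻¹) * m := by group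
      rw [this, h2]; group
    · exact (le_normalizer_iff.mp (le_normalizer_sigmaCore M)) m hm y hy
    · intro h2
      apply hy1
      have : y = m⁻¹ * (m * y * m⁻¹) * m := by group
      rw [this, h2]; group
    · have h3 : (z : G) = m * x * m⁻¹ := hzx
      rw [h3]
      calc m * x * m⁻¹ * (m * y * m⁻¹) = m * (x * y) * m⁻¹ := by group
        _ = m * (y * x) * m⁻¹ := by rw [hxy]
        _ = _ := by group

/-- B-G 14.1 -/
theorem sigma'_kappa'_facts (hG : IsMinSimpleOddOrder G) {M : Subgroup G} (hM : IsCoatom M)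
    (hpM : p ∣ Nat.card M) (hσ : p ∉ sigma M) (hκ : p ∉ kappa M) {S : Subgroup G} (hS : IsSyl p S M) :
    Nat.card ↥(closure {x : G | x ∈ S ∧ x ^ p = 1}) ≤ p ^ 2 ∧
      sigmaCore M ⊓ centralizer ((closure {x : G | x ∈ S ∧ x ^ p = 1} : Subgroup G) : Set G) = ⊥ ∧
      Group.IsNilpotent (sigmaCore M) := by
  have hpp : p.Prime := Fact.out
  have hS1 : S ≠ ⊥ := isSyl_ne_bot hS hpM
  have hp2 : p ≠ 2 := ne_two hG hS.2.1 hS1
  by_cases hc : IsCyclic S
  · have hreg := regular_of_not_kappa hS hpM hσ hκ hc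
    obtain ⟨x₀, hx₀, hx₀1, hx₀p⟩ := exists_order_p hS.2.1 hS1
    set A := closure {x : G | x ∈ S ∧ x ^ p = 1} with hA
    have hx₀A : x₀ ∈ A := Subgroup.subset_closure ⟨hx₀, hx₀p⟩
    have hAS : A ≤ S := (closure_le S).mpr (fun x hx => hx.1)
    have hAexp : ∀ a ∈ A, a ^ p = 1 := by
      intro a ha
      have : a ∈ S ∧ a ^ p = 1 := by
        induction ha using closure_induction with
        | mem x hx => exact hx
        | one => exact ⟨S.one_mem, one_pow _⟩
        | mul x y _ _ hx hy =>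
          refine ⟨S.mul_mem hx.1 hy.1, ?_⟩
          have hcomm : Commute x y := by
            have := (IsCyclic.commGroup (α := S)).mul_comm ⟨x, hx.1⟩ ⟨y, hy.1⟩
            exact congrArg Subtype.val this
          rw [hcomm.mul_pow, hx.2, hy.2, one_mul]
        | inv x _ hx => exact ⟨S.inv_mem hx.1, by rw [inv_pow, hx.2, inv_one]⟩
      exact this.2
    haveI : IsCyclic A := isCyclic_of_injective (inclusion hAS) (inclusion_injective hAS)
    refine ⟨?_, ?_, ?_⟩
    · have h1 : Nat.card A ≤ p := card_le_of_cyclic_exp hpp.pos (fun a => Subtype.ext (hAexp a a.2))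
      nlinarith [hpp.one_lt]
    · rw [eq_bot_iff]
      intro y hy
      rw [mem_bot]
      exact hreg x₀ hx₀ hx₀1 y hy.1 ((mem_centralizer_iff.mp hy.2) x₀ hx₀A)
    · apply nilpotent_of_fpf hpp (le_normalizer_sigmaCore M (hS.1 hx₀)) hx₀p
      rw [eq_bot_iff]
      intro y hy
      rw [mem_bot]
      exact hreg x₀ hx₀ hx₀1 y hy.1 (mem_centralizer_singleton_iff.mp hy.2).symm
  · obtain ⟨W, hWS, -, hWe, hWc⟩ := exists_normal_sq hp2 hS.2.1 hc
    have hτ := mem_tau2 hG hM hσ (hWS.trans hS.1) hWe hWc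
    obtain ⟨hnil, hsyl, -, hcent, -, -⟩ :=
      Cfsg.Agent.S1417.result hG M hM p hτ W ⟨hWS.trans hS.1, hWe, hWc⟩
    have h1 := ((hsyl hS.toSylow).2 (by rw [hS.map_toSylow]; exact hWS)).1
    rw [hS.map_toSylow] at h1
    have h2 : {x : G | x ∈ S ∧ x ^ p = 1} = (W : Set G) := by
      ext x
      constructor
      · rintro ⟨hx, hxp⟩
        exact (h1 x hx).mp hxp
      · intro hx
        exact ⟨hWS hx, hWe.2 x hx⟩
    rw [h2, closure_eq]
    exact ⟨hWc.le, hcent, hnil⟩

end Cfsg.Agent.Lib.Helper30BG4
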