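import Mathlib
import Cfsg.Agent.Lib.Helper30BG13Defs
import Cfsg.Agent.Lib.Helper30BG2
import Cfsg.Agent.Lib.Helper30BG4
import Cfsg.Agent.Lib.Helper2BGb
import Cfsg.Agent.S1350
import Cfsg.Agent.S1418

/-!
PROJECT 13, piece `qtau2` (step 2 of B-G 13.7).
-/

set_option autoImplicit false
set_option linter.unusedSectionVars false

namespace Cfsg.Agent.Lib.Helper14BG13qtau2

open Cfsg Subgroup
open Cfsg.Agent.Lib.Helper30Trans Cfsg.Agent.Lib.Helper24BG Cfsg.Agent.Lib.Helper30BG13Defs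

variable {G : Type*} [Group G] [Finite G]

theorem eq_of_prime_dvd_pgroup {p r : ℕ} [hp : Fact p.Prime] {P : Subgroup G} (hP : IsPGroup p P)
    (hr : r.Prime) (h : r ∣ Nat.card P) : r = p := by
  obtain ⟨n, hn⟩ := IsPGroup.iff_card.mp hP
  rw [hn] at h
  exact (Nat.prime_dvd_prime_iff_eq hr hp.out).mp (hr.dvd_of_dvd_pow h)

theorem le_sup_of_compl {E B H : Subgroup G} (hE : IsComplIn E B H) : H ≤ B ⊔ E := by
  intro m hm
  obtain ⟨a, ha, b, hb, rfl⟩ := hE.2.2.2 m hm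
  exact mul_mem ((le_sup_right : E ≤ B ⊔ E) ha) ((le_sup_left : B ≤ B ⊔ E) hb)

theorem coprime_relIndex_sigmaCore (hG : IsMinSimpleOddOrder G) {H : Subgroup G} (hH : IsCoatom H) :
    ((sigmaCore H).relIndex H).Coprime (Nat.card (sigmaCore H)) := by
  have hHall := (Cfsg.Agent.S1350.result hG H hH).1
  apply Nat.Coprime.symm
  apply Nat.coprime_of_dvd
  intro k hk hk1 hk2
  exact hHall.2.2 k hk (hHall.2.1 k hk hk1) hk2

/-- every complement of `H_σ` contains an elementary abelian subgroup of order `u²`, `u ∈ τ₂(H)` -/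
theorem exists_sq_compl (hG : IsMinSimpleOddOrder G) {H : Subgroup G} (hH : IsCoatom H) {u : ℕ}
    [hup : Fact u.Prime] (hu : u ∈ tau2 H) {E : Subgroup G} (hE : IsComplIn E (sigmaCore H) H) :
    ∃ A : Subgroup G, A ≤ E ∧ IsElementaryAbelian u A ∧ Nat.card A = u ^ 2 := by
  obtain ⟨A0, hA0H, hA0e, hA0c⟩ := Helper31BGS.exists_sq hu.2.2.2
  have hs : Group.IsSolvable H := sol hG hH.1
  have hY : (Nat.card A0).Coprime (Nat.card (sigmaCore H)) := by
    rw [hA0c]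
    apply Nat.Coprime.pow_left
    exact (Nat.Prime.coprime_iff_not_dvd hup.out).mpr
      (fun hd => hu.2.1 (Helper2BGb.card_sigmaCore H u hup.out hd))
  obtain ⟨m, hm, hmA⟩ := Helper37BG.conj_into hs (Helper2BGb.sigmaCore_le H)
    (Helper2BGb.le_normalizer_sigmaCore H) hE.1 (le_sup_of_compl hE)
    (coprime_relIndex_sigmaCore hG hH) hA0H hY
  exact ⟨cj m A0, hmA, elemAb_cj hA0e m, by rw [card_cj, hA0c]⟩

theorem Cex.q_not_tau2 (hG : IsMinSimpleOddOrder G) {M P R Q : Subgroup G} {p r q : ℕ}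
    (h : Cex M p r q P R Q) {H : Subgroup G} (hH : IsCoatom H) (hne : H ≠ M) (hPH : P ≤ H)
    (hQH : Q ≤ H) (hpH : p ∈ sigma H) : q ∉ tau2 H := by
  intro hq2
  have := Fact.mk h.hq
  have := Fact.mk h.hp.1
  have hqσH : q ∉ sigma H := hq2.2.1
  obtain ⟨x, hxQ, hx1, hxq⟩ := Helper30BG4.exists_order_p h.hQ h.hQ1
  have hX1Q : zpowers x ≤ Q := zpowers_le.mpr hxQ
  have hX1c : Nat.card (zpowers x) = q := by
    rw [Nat.card_zpowers]; exact orderOf_eq_prime hxq hx1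
  obtain ⟨E, hE, hQE⟩ := Helper31BGS.exists_compl_ge hG hH hQH (fun s hs hsQ => by
    rw [eq_of_prime_dvd_pgroup h.hQ hs hsQ]; exact hqσH)
  obtain ⟨A, hAE, hAe, hAc⟩ := exists_sq_compl hG hH hq2 hE
  have h18 := Cfsg.Agent.S1418.result hG H hH E hE q hq2 A ⟨hAE, hAe, hAc⟩
  have hX1A : zpowers x ≤ A := h18.1.2 _ (hX1Q.trans hQE) hX1c
  have hPσ : P ≤ sigmaCore H :=
    Helper2BGb.pgroup_le_sigmaCore hG hH hpH hPH (Helper30BG2.isPGroup_of_card_prime h.hP)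
  have hP1 : P ≠ ⊥ := Helper30BG2.ne_bot_of_card_prime h.hP
  have hPX : P ≤ centralizer ((zpowers x : Subgroup G) : Set G) :=
    le_centralizer_iff.mp (hX1Q.trans h.hQP)
  have hne0 : sigmaCore H ⊓ centralizer ((zpowers x : Subgroup G) : Set G) ≠ ⊥ :=
    ne_bot_of_le_ne_bot hP1 (le_inf hPσ hPX)
  obtain ⟨hCH, huniq⟩ := h18.2.2 _ hX1A hX1c hne0
  have hNX : normalizer ((zpowers x : Subgroup G) : Set G) ≤ H := by
    have hnt : normalizer ((zpowers x : Subgroup G) : Set G) ≠ ⊤ :=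
      norm_ne_top hG (Helper30BG2.ne_bot_of_card_prime hX1c)
        (pgroup_ne_top hG (Helper30BG2.isPGroup_of_card_prime hX1c))
    obtain ⟨L, hL, hNL⟩ := exists_coatom hnt
    have := huniq L hL ((centralizer_le_normalizer _).trans hNL)
    rwa [this] at hNL
  have hqM : q ∈ sigma M := Helper2BGb.card_sigmaCore M q h.hq
    ((dvd_card_of_pgroup h.hQ h.hQ1 le_rfl).trans (card_dvd_of_le h.hQM))
  have hef := Helper37BG.emb_ef hG h.hM hqM (Helper30BG2.isPGroup_of_card_prime hX1c)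
    (Helper30BG2.ne_bot_of_card_prime hX1c) ((hX1Q.trans h.hQM).trans (Helper2BGb.sigmaCore_le M))
    hH hne hNX hqσH
  have h9 : P ≤ sigmaCore H ⊓ M := le_inf hPσ h.hPM
  rw [hef.2.2.1] at h9
  exact hP1 (le_bot_iff.mp h9)

end Cfsg.Agent.Lib.Helper14BG13qtau2
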