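import Mathlib
import Cfsg.Agent.Lib.Helper30BG13Defs
import Cfsg.Agent.Lib.Helper30BG2
import Cfsg.Agent.Lib.Helper30BG4
import Cfsg.Agent.Lib.Helper2BGd
import Cfsg.Agent.S1417

/-! PROJECT 13, piece `normsq`. -/

set_option autoImplicit false

namespace Cfsg.Agent.Lib.Helper68BG13normsq

open Cfsg Subgroup
open Cfsg.Agent.Lib.Helper30Trans Cfsg.Agent.Lib.Helper24BG Cfsg.Agent.Lib.Helper30BG13Defs
open Cfsg.Agent.Lib.Helper37BG Cfsg.Agent.Lib.Helper30BG Cfsg.Agent.Lib.Helper30BG2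

variable {G : Type*} [Group G] [Finite G]

/-- `Q ≠ 1` a `q`-subgroup of `M`, `q ∈ σ(M)`; `t ∉ σ(M)` not ideal; `N(Q)` contains an elementary
abelian subgroup of order `t²` and a nontrivial `t`-subgroup of `M`.  Then `N(Q) ≤ M`. -/
theorem norm_le_of_sq (hG : IsMinSimpleOddOrder G) {M : Subgroup G} (hM : IsCoatom M) {q t : ℕ}
    [Fact q.Prime] [Fact t.Prime] (hq : q ∈ sigma M) (ht : t ∉ sigma M) (hti : ¬ IsIdealPrime t G)
    {Q A T : Subgroup G} (hQ : IsPGroup q Q) (hQ1 : Q ≠ ⊥) (hQM : Q ≤ M)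
    (hAe : IsElementaryAbelian t A) (hA2 : Nat.card A = t ^ 2) (hAQ : A ≤ normalizer (Q : Set G))
    (hT : IsPGroup t T) (hT1 : T ≠ ⊥) (hTM : T ≤ M) (hTQ : T ≤ normalizer (Q : Set G)) :
    normalizer (Q : Set G) ≤ M := by
  by_contra hnot
  have htp : t.Prime := Fact.out
  have hQt : Q ≠ ⊤ := pgroup_ne_top hG hQ
  obtain ⟨Ms, hMs, hNMs⟩ := exists_coatom (norm_ne_top hG hQ1 hQt)
  have hne : Ms ≠ M := by rintro rfl; exact hnot hNMs
  have hQMs : Q ≤ Ms := le_normalizer.trans hNMs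
  obtain ⟨S, hS, hQS⟩ := exists_isSyl_ge (le_inf hQM hQMs) hQ
  obtain ⟨ha, hb, hc⟩ := emb_abc hG hM hq hQ hQ1 hQM hMs hne hNMs hS hQS
  have hsMs : Group.IsSolvable Ms := sol hG hMs.1
  have hAp : IsPGroup t A := isPGroup_of_elemAb hAe
  have hAMs : A ≤ Ms := hAQ.trans hNMs
  -- the claim
  have claim : ∃ m ∈ Ms, cj m A ≤ M ⊓ Ms := by
    by_cases hqs : q ∈ sigma Ms
    · have h1 := le_beta_sup_inf hG hM hMs hne hqs hc hb
      obtain ⟨⟨hB1, hB2, hB3⟩, -⟩ := Cfsg.Agent.Lib.Helper2BGd.beta_hall hG hMs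
      have htB : ¬ t ∣ Nat.card (piCoreOf (beta Ms) Ms) := fun hd => hti (hB2 t htp hd).2
      refine conj_into hsMs hB1 (le_normalizer_piCoreOf _ _) inf_le_right h1 ?_ hAMs
        (coprime_of_isPGroup hAp htB)
      apply Nat.coprime_of_dvd
      intro k hk hk1 hk2
      exact hB3 k hk (hB2 k hk hk2) hk1
    · obtain ⟨-, h1, h2, -⟩ := emb_ef hG hM hq hQ hQ1 hQM hMs hne hNMs hqs
      obtain ⟨⟨hB1, hB2, hB3⟩, -, -⟩ := Cfsg.Agent.S1350.result hG Ms hMs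
      have hts : t ∉ sigma Ms := by
        intro hts
        have h3 : T ≤ sigmaCore Ms := pgroup_le_sigmaCore hG hMs hts hT (hTQ.trans hNMs)
        exact hT1 (le_bot_iff.mp (h2 ▸ le_inf h3 hTM))
      have htB : ¬ t ∣ Nat.card (sigmaCore Ms) := fun hd => hts (hB2 t htp hd)
      refine conj_into hsMs hB1 (le_normalizer_sigmaCore Ms) inf_le_right h1 ?_ hAMs
        (coprime_of_isPGroup hAp htB)
      apply Nat.coprime_of_dvd
      intro k hk hk1 hk2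
      exact hB3 k hk (hB2 k hk hk2) hk1
  obtain ⟨m, hm, hmA⟩ := claim
  have hAe' : IsElementaryAbelian t (cj m A) := elemAb_cj hAe m
  have hA2' : Nat.card (cj m A) = t ^ 2 := by rw [card_cj, hA2]
  have hτ : t ∈ tau2 M := Cfsg.Agent.Lib.Helper30BG4.mem_tau2 hG hM ht (hmA.trans inf_le_left) hAe' hA2'
  have h17 := Cfsg.Agent.S1417.result hG M hM t hτ (cj m A) ⟨hmA.trans inf_le_left, hAe', hA2'⟩
  have h5 := h17.2.2.2.2.1 Ms hMs hne (hmA.trans inf_le_right)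
  exact hQ1 (le_bot_iff.mp (h5 ▸ le_inf (pgroup_le_sigmaCore hG hM hq hQ hQM) hQMs))

end Cfsg.Agent.Lib.Helper68BG13normsq
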