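import Mathlib
import Cfsg.Agent.Lib.Helper68BG13normsq
import Cfsg.Agent.Lib.Helper30BG13Defs
import Cfsg.Agent.Lib.Helper14BG13qtau2
import Cfsg.Agent.Lib.Helper14BGL123
import Cfsg.Agent.Lib.Helper3AutOdd
import Cfsg.Agent.S1408
import Cfsg.Agent.S1417
import Cfsg.Agent.S1418

/-!
PROJECT 13, piece `cfgtau2` (B-G 13.1(a),(b), case `τ₂(H)`).
-/

set_option autoImplicit false
set_option linter.unusedSectionVars false

namespace Cfsg.Agent.Lib.Helper14BG13cfgtau2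

open Cfsg Subgroup
open Cfsg.Agent.Lib.Helper30Trans Cfsg.Agent.Lib.Helper24BG Cfsg.Agent.Lib.Helper30BG13Defs
open Cfsg.Agent.Lib.Helper14BG13qtau2
open Cfsg.Agent.Lib.Helper68BG13normsq (norm_le_of_sq)

variable {G : Type*} [Group G] [Finite G]

/-- primes of `Q T` -/
theorem prime_dvd_sup {Q T : Subgroup G} (h : T ≤ normalizer (Q : Set G)) {s : ℕ} (hs : s.Prime)
    (hd : s ∣ Nat.card ↥(Q ⊔ T)) : s ∣ Nat.card Q ∨ s ∣ Nat.card T := by
  rw [← Helper37Cores.card_mul_relIndex (le_sup_left : Q ≤ Q ⊔ T)] at hd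
  rcases (Nat.Prime.dvd_mul hs).mp hd with h1 | h1
  · exact Or.inl h1
  · exact Or.inr (h1.trans (Helper14BGL123.relIndex_sup_dvd h))

theorem Cfg.no_tau2 (hG : IsMinSimpleOddOrder G) {M H T Q : Subgroup G} {t q : ℕ}
    (h : Cfg M H t q T Q) (htH : t ∉ sigma H) {u : ℕ} (hu : u ∈ tau2 H) (huM : u ∉ sigma M)
    {U : Subgroup G} (hU : IsPGroup u U) (hU1 : U ≠ ⊥) (hUM : U ≤ M)
    (hUQ : U ≤ normalizer (Q : Set G)) : False := by
  have := Fact.mk h.ht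
  have := Fact.mk h.hq
  have hup : Fact u.Prime := ⟨hu.1⟩
  have hM := h.hM
  have hH := h.hH
  have hne : H ≠ M := by
    have := h.nc 1
    rwa [cj_one] at this
  have hqQ : q ∣ Nat.card Q := dvd_card_of_pgroup h.hQ h.hQ1 le_rfl
  have hqM : q ∈ sigma M := Helper2BGb.card_sigmaCore M q h.hq (hqQ.trans (card_dvd_of_le h.hQM))
  have hqu : q ≠ u := by
    rintro rfl
    exact huM hqM
  -- `H_σ` is nilpotent, so `σ(H) ∩ σ(M) = ∅`
  obtain ⟨A0, hA0H, hA0e, hA0c⟩ := Helper31BGS.exists_sq hu.2.2.2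
  have hnil : Group.IsNilpotent (sigmaCore H) :=
    (Cfsg.Agent.S1417.result hG H hH u hu A0 ⟨hA0H, hA0e, hA0c⟩).1
  have hconj : ∀ g : G, cj g H ≠ M := by
    intro g hg
    apply h.nc g⁻¹
    rw [← hg, cj_inv_cj]
  have hdis := ((Helper5BGDisjoint.sigma_disjoint hG hH hM hconj).2.2 hnil).1
  have hqH : q ∉ sigma H := fun hq => hdis q hq hqM
  -- a complement containing `Q T`
  have hQT : Q ⊔ T ≤ H := sup_le h.hQH h.hTH
  obtain ⟨E, hE, hQTE⟩ := Helper31BGS.exists_compl_ge hG hH hQT (fun s hs hsd => by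
    rcases prime_dvd_sup h.hTQ hs hsd with h1 | h1
    · rw [eq_of_prime_dvd_pgroup h.hQ hs h1]; exact hqH
    · rw [eq_of_prime_dvd_pgroup h.hT hs h1]; exact htH)
  obtain ⟨A, hAE, hAe, hAc⟩ := exists_sq_compl hG hH hu hE
  have hAH : A ≤ H := hAE.trans hE.1
  have h18 := Cfsg.Agent.S1418.result hG H hH E hE u hu A ⟨hAE, hAe, hAc⟩
  have hEA : E ≤ normalizer (A : Set G) := h18.1.1
  have hAp : IsPGroup u A := isPGroup_of_elemAb hAe
  have hA1 : A ≠ ⊥ := by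
    rintro rfl
    rw [card_bot] at hAc
    have := hu.1.one_lt
    nlinarith
  have hu2 : u ≠ 2 := ne_two hG hAp hA1
  have hQTtop : Q ⊔ T ≠ ⊤ := fun ht => hH.1 (top_le_iff.mp (ht ▸ hQT))
  have hQA : Q ≤ centralizer (A : Set G) := by
    intro k hk
    apply Helper3AutOdd.centralizes_of_mem_commutator u hu2 A (Q ⊔ T) hAp
      (rank_le_of_le hAH hu.2.2.1) (hQTE.trans hEA) (sol hG hQTtop) (odd_sub hG _) k
    · have : k ∈ ⁅Q, T⁆ := by rw [h.hcomm]; exact hk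
      exact commutator_mono le_sup_left le_sup_right this
    · obtain ⟨n, hn⟩ := (IsPGroup.iff_orderOf.mp h.hQ) ⟨k, hk⟩
      rw [Subgroup.orderOf_mk] at hn
      rw [hn]
      exact Nat.Coprime.pow_left n ((Nat.coprime_primes h.hq hu.1).mpr hqu)
  have hAQ : A ≤ normalizer (Q : Set G) :=
    (le_centralizer_iff.mp hQA).trans (centralizer_le_normalizer _)
  have hni : ¬ IsIdealPrime u G := (Cfsg.Agent.S1408.result hG H hH u hu.2.1 hu.2.2.1 hu.2.2.2).1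
  have hNQ : normalizer (Q : Set G) ≤ M :=
    norm_le_of_sq hG hM hqM huM hni h.hQ h.hQ1 (h.hQM.trans (Helper2BGb.sigmaCore_le M)) hAe hAc hAQ
      hU hU1 hUM hUQ
  have hAM : A ≤ M := hAQ.trans hNQ
  have hu2M : u ∈ tau2 M := Helper30BG4.mem_tau2 hG hM huM hAM hAe hAc
  have h17 := (Cfsg.Agent.S1417.result hG M hM u hu2M A ⟨hAM, hAe, hAc⟩).2.2.2.2.1 H hH hne hAH
  have h9 : Q ≤ sigmaCore M ⊓ H := le_inf h.hQM h.hQH
  rw [h17] at h9
  exact h.hQ1 (le_bot_iff.mp h9)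

end Cfsg.Agent.Lib.Helper14BG13cfgtau2
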