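import Mathlib
import Cfsg.Agent.Lib.Helper30BG13Defs
import Cfsg.Agent.Lib.Helper27BGa
import Cfsg.Agent.Lib.Helper68BGC
import Cfsg.Agent.Lib.Helper21BGExcbasic
import Cfsg.Agent.Lib.Helper30BG2
import Cfsg.Agent.Lib.Helper3Narrow

/-!
PROJECT 13, piece `classify`.
-/

set_option autoImplicit false

namespace Cfsg.Agent.Lib.Helper38BG13classify

open Cfsg Subgroup
open Cfsg.Agent.Lib.Helper30Trans Cfsg.Agent.Lib.Helper24BG Cfsg.Agent.Lib.Helper30BG13Defs

variable {G : Type*} [Group G] [Finite G]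

theorem mem_tau_cases (hG : IsMinSimpleOddOrder G) {H : Subgroup G} (hH : IsCoatom H) {t : ℕ}
    (ht : t.Prime) (hd : t ∣ Nat.card H) :
    t ∈ sigma H ∨ t ∈ tau1 H ∨ t ∈ tau2 H ∨ t ∈ tau3 H := by
  by_cases hs : t ∈ sigma H
  · exact Or.inl hs
  right
  have h2 : PRankLE t 2 H := by
    by_contra h
    exact hs (Cfsg.Agent.Lib.Helper68BGC.alpha_sub_sigma hG hH ⟨ht, h⟩)
  by_cases h1 : PRankLE t 1 H
  · by_cases hd' : t ∣ Nat.card ↥⁅H, H⁆
    · exact Or.inr (Or.inr ⟨ht, hs, hd', h1⟩)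
    · exact Or.inl ⟨ht, hs, hd, hd', h1⟩
  · exact Or.inr (Or.inl ⟨ht, hs, h2, h1⟩)

omit [Finite G] in
theorem rank_cj_iff (p k : ℕ) (M : Subgroup G) (g : G) : PRankLE p k (cj g M) ↔ PRankLE p k M := by
  let e : M ≃* cj g M := (MulAut.conj g).subgroupMap M
  constructor
  · intro h
    exact Cfsg.Agent.Lib.Helper3RankTower.rank_of_injective e.toMonoidHom e.injective h
  · intro h
    exact Cfsg.Agent.Lib.Helper3RankTower.rank_of_injective e.symm.toMonoidHom e.symm.injective h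

/-- `τ₂` is invariant under conjugation -/
theorem tau2_cj (M : Subgroup G) (g : G) : tau2 (cj g M) = tau2 M := by
  ext p
  unfold tau2
  simp only [Set.mem_ofPred_eq]
  rw [Cfsg.Agent.Lib.Helper21BGExcbasic.sigma_cj, rank_cj_iff, rank_cj_iff]

/-- an ideal prime of `σ(H)` lies in `α(H)` -/
theorem alpha_of_ideal_sigma (hG : IsMinSimpleOddOrder G) {H : Subgroup G} (hH : IsCoatom H) {p : ℕ}
    (hp : p ∈ sigma H) (hi : IsIdealPrime p G) : p ∈ alpha H := by
  have : Fact p.Prime := ⟨hi.1⟩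
  refine ⟨hi.1, ?_⟩
  have h2 := hi.2.1
  unfold PRankLE at h2
  push Not at h2
  obtain ⟨B, hBc, hBe, hB⟩ := h2
  have hBE : IsElementaryAbelian p B := ⟨hBc, hBe⟩
  obtain ⟨S, hS, -⟩ := exists_isSyl_ge (p := p) (bot_le : (⊥ : Subgroup G) ≤ H) IsPGroup.of_bot
  obtain ⟨-, hST, -⟩ := Cfsg.Agent.Lib.Helper21BGExcbasic.sigma_sylow hG hH hp hS
  obtain ⟨g, -, hg⟩ := Cfsg.Agent.Lib.Helper24BG2.exists_cj_le hST (isPGroup_of_elemAb hBE) le_top
  refine not_rank_of_elemAb (hg.trans hS.1) (elemAb_cj hBE g) ?_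
  rw [card_cj]
  exact hB

/-- two commuting subgroups of order `p` of a group of `p`-rank one are equal -/
theorem eq_of_rank_one {M P R : Subgroup G} {p : ℕ} [Fact p.Prime] (hr : PRankLE p 1 M)
    (hPM : P ≤ M) (hRM : R ≤ M) (hP : Nat.card P = p) (hR : Nat.card R = p)
    (hRP : R ≤ centralizer (P : Set G)) : R = P := by
  have hPe := Cfsg.Agent.Lib.Helper30BG2.elemAb_of_card_prime hP
  have hRe := Cfsg.Agent.Lib.Helper30BG2.elemAb_of_card_prime hR
  have hE : IsElementaryAbelian p (P ⊔ R) := by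
    apply Cfsg.Agent.Lib.Helper3Narrow.elemAb_sup hPe hRe
    intro e he b hb
    exact (mem_centralizer_iff.mp (hRP hb) e he)
  have hle : Nat.card (P ⊔ R : Subgroup G) ≤ p := by
    by_contra h
    push Not at h
    exact not_rank_of_elemAb (sup_le hPM hRM) hE (by rwa [pow_one]) hr
  have h1 : P = P ⊔ R := Subgroup.eq_of_le_of_card_ge le_sup_left (by rw [hP]; exact hle)
  have h2 : R = P ⊔ R := Subgroup.eq_of_le_of_card_ge le_sup_right (by rw [hR]; exact hle)
  rw [h2, ← h1]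

end Cfsg.Agent.Lib.Helper38BG13classify
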