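import Mathlib
import Cfsg.Agent.Lib.Helper30BG13Defs
import Cfsg.Agent.Lib.Helper30BG2
import Cfsg.Agent.Lib.Helper12Hall
import Cfsg.Agent.Lib.Helper31BGS

/-!
PROJECT 13, piece `complnorm` (helper11).
-/

set_option autoImplicit false

namespace Cfsg.Agent.Lib.Helper11BG13complnorm

open Cfsg Subgroup
open Cfsg.Agent.Lib.Helper30Trans Cfsg.Agent.Lib.Helper24BG Cfsg.Agent.Lib.Helper30BG13Defs

variable {G : Type*} [Group G] [Finite G]

/-- a complement of `H_σ` in `H` inside `N(Y)` and containing a given `σ(H)'`-subgroup of `N_H(Y)`,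
`Y` a Sylow subgroup of `H_σ` -/
theorem exists_compl_normalizing (hG : IsMinSimpleOddOrder G) {H : Subgroup G} (hH : IsCoatom H)
    {q : ℕ} [Fact q.Prime] {Y T : Subgroup G} (hY : IsSyl q Y (sigmaCore H)) (hTH : T ≤ H)
    (hTY : T ≤ normalizer (Y : Set G))
    (hT : ∀ p : ℕ, p.Prime → p ∣ Nat.card T → p ∉ sigma H) :
    ∃ E : Subgroup G, IsComplIn E (sigmaCore H) H ∧ T ≤ E ∧ E ≤ normalizer (Y : Set G) := by
  have hs : Group.IsSolvable H := sol hG hH.1
  have h50 := Cfsg.Agent.S1350.result hG H hH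
  set S := sigmaCore H with hS
  have hSH : S ≤ H := Cfsg.Agent.Lib.Helper30BG2.sigmaCore_le H
  have hHS : H ≤ normalizer (S : Set G) := Cfsg.Agent.Lib.Helper30BG2.le_normalizer_sigmaCore H
  set N : Subgroup G := H ⊓ normalizer (Y : Set G) with hN
  have hNH : N ≤ H := inf_le_left
  have hfr : H ≤ S ⊔ N := Cfsg.Agent.Lib.Helper37BG.frattini hHS hSH hY
  have hcard : Nat.card H = S.relIndex H * Nat.card S := by
    rw [Cfsg.Agent.Lib.Helper37BG.card_eq_mul_relIndex hSH, mul_comm]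
  have hcop : (S.relIndex H).Coprime (Nat.card S) := by
    rw [Nat.coprime_iff_gcd_eq_one]
    by_contra hne
    obtain ⟨p, hp, hpd⟩ := Nat.exists_prime_and_dvd hne
    exact h50.1.2.2 p hp (h50.1.2.1 p hp (hpd.trans (Nat.gcd_dvd_right _ _)))
      (hpd.trans (Nat.gcd_dvd_left _ _))
  have hsup : N ⊔ S = H := le_antisymm (sup_le hNH hSH) (by rw [sup_comm]; exact hfr)
  have hNc : Nat.card N = S.relIndex H * Nat.card (N ⊓ S : Subgroup G) := by
    have h1 := Cfsg.Agent.Lib.Helper65RelHall.card_sup_mul_card_inf N S (hNH.trans hHS)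
    rw [hsup, hcard] at h1
    have hn0 : 0 < Nat.card S := Nat.card_pos
    nlinarith [h1]
  have hdv : Nat.card (N ⊓ S : Subgroup G) ∣ Nat.card S := card_dvd_of_le inf_le_right
  have hcop2 : (S.relIndex H).Coprime (Nat.card (N ⊓ S : Subgroup G)) :=
    Nat.Coprime.coprime_dvd_right hdv hcop
  have hTN : T ≤ N := le_inf hTH hTY
  have hTS : (Nat.card T).Coprime (Nat.card S) := by
    rw [Nat.coprime_iff_gcd_eq_one]
    by_contra hne
    obtain ⟨p, hp, hpd⟩ := Nat.exists_prime_and_dvd hne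
    exact hT p hp (hpd.trans (Nat.gcd_dvd_left _ _))
      (h50.1.2.1 p hp (hpd.trans (Nat.gcd_dvd_right _ _)))
  have hTc : (Nat.card (T.subgroupOf N)).Coprime (Nat.card (N ⊓ S : Subgroup G)) := by
    rw [Cfsg.Agent.Lib.Helper30SZ.card_subgroupOf_of_le hTN]
    exact Nat.Coprime.coprime_dvd_right hdv hTS
  have hsN : Group.IsSolvable N := sol hG (fun h => hH.1 (top_le_iff.mp (h ▸ hNH)))
  obtain ⟨E0, hE0, hTE0⟩ := Cfsg.Agent.Lib.Helper12Hall.hall_dominance (G := N) _ _ hNc hcop2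
    (T.subgroupOf N) hTc
  set E : Subgroup G := E0.map N.subtype with hE
  have hEN : E ≤ N := map_subtype_le E0
  have hEc : Nat.card E = S.relIndex H := by
    rw [hE, card_map_of_injective N.subtype_injective, hE0]
  have hEH : E ≤ H := hEN.trans hNH
  have hcompl : IsComplement' (E.subgroupOf H) (S.subgroupOf H) := by
    apply isComplement'_of_coprime
    · rw [Cfsg.Agent.Lib.Helper30SZ.card_subgroupOf_of_le hEH,
        Cfsg.Agent.Lib.Helper30SZ.card_subgroupOf_of_le hSH, hEc, hcard]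
    · rw [Cfsg.Agent.Lib.Helper30SZ.card_subgroupOf_of_le hEH,
        Cfsg.Agent.Lib.Helper30SZ.card_subgroupOf_of_le hSH, hEc]; exact hcop
  refine ⟨E, ⟨hEH, hSH, ?_, ?_⟩, ?_, hEN.trans inf_le_right⟩
  · rw [inf_comm]
    exact Cfsg.Agent.Lib.Helper30SZ.inf_eq_bot_of_coprime (by rw [hEc]; exact hcop)
  · intro m hm
    obtain ⟨⟨a, b⟩, hab⟩ := hcompl.2 ⟨m, hm⟩
    refine ⟨a.1.1, mem_subgroupOf.mp a.2, b.1.1, mem_subgroupOf.mp b.2, ?_⟩
    exact (congrArg Subtype.val hab).symm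
  · intro x hx
    exact ⟨⟨x, hTN hx⟩, hTE0 (mem_subgroupOf.mpr hx), rfl⟩

end Cfsg.Agent.Lib.Helper11BG13complnorm
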