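import Mathlib
import Cfsg.Agent.Lib.Helper30BG13Defs
import Cfsg.Agent.Lib.Helper30BG2
import Cfsg.Agent.Lib.Helper3AutOdd
import Cfsg.Agent.Lib.Helper70Hall
import Cfsg.Agent.Lib.Helper31BGS
import Cfsg.Agent.Lib.Helper11BG13complnorm
import Cfsg.Agent.S0025
import Cfsg.Agent.S1415

/-! PROJECT 13, piece `cfgtau3`. -/

set_option autoImplicit false

namespace Cfsg.Agent.Lib.Helper68BG13cfgtau3

open Cfsg Subgroup
open Cfsg.Agent.Lib.Helper30Trans Cfsg.Agent.Lib.Helper24BG Cfsg.Agent.Lib.Helper30BG13Defs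
open Cfsg.Agent.Lib.Helper37BG Cfsg.Agent.Lib.Helper30BG Cfsg.Agent.Lib.Helper30BG2
open Cfsg.Agent.Lib.Helper31BGS
open scoped commutatorElement

variable {G : Type*} [Group G] [Finite G]

/-- Hall subgroups of solvable subgroups, ambient form. -/
theorem exists_hallOf' {E : Subgroup G} (hs : Group.IsSolvable E) (S : Set ℕ) :
    ∃ K : Subgroup G, IsPiHallOf S K E := by
  obtain ⟨K, h1, h2, -⟩ := Cfsg.Agent.Lib.Helper70Hall.exists_hall_set (G := E) S
  refine ⟨K.map E.subtype, map_subtype_le _, ?_, ?_⟩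
  · intro p hp hd
    rw [Subgroup.card_map_of_injective E.subtype_injective] at hd
    exact h1 p hp hd
  · intro p hp hpS hd
    have e : (K.map E.subtype).relIndex E = K.index := by
      rw [Subgroup.relIndex, Subgroup.subgroupOf,
        Subgroup.comap_map_eq_self_of_injective E.subtype_injective]
    rw [e] at hd
    exact h2 p hp hd hpS

/-- prime divisors of `|Q ⊔ T|`. -/
theorem prime_dvd_sup {Q T : Subgroup G} {q t : ℕ} (hq : q.Prime) (ht : t.Prime)
    (hQ : IsPGroup q Q) (hT : IsPGroup t T) (hTQ : T ≤ normalizer (Q : Set G)) {p : ℕ}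
    (hp : p.Prime) (hd : p ∣ Nat.card ↥(Q ⊔ T)) : p = q ∨ p = t := by
  have h1 := Cfsg.Agent.Lib.Helper65RelHall.card_sup_mul_card_inf T Q hTQ
  have h2 : p ∣ Nat.card T * Nat.card Q := by
    rw [← h1, sup_comm]; exact Dvd.dvd.mul_right hd _
  haveI := Fact.mk hq
  haveI := Fact.mk ht
  obtain ⟨a, ha⟩ := hQ.exists_card_eq
  obtain ⟨b, hb⟩ := hT.exists_card_eq
  rw [ha, hb] at h2
  rcases (Nat.Prime.dvd_mul hp).mp h2 with h | h
  · exact Or.inr ((Nat.prime_dvd_prime_iff_eq hp ht).mp (hp.dvd_of_dvd_pow h))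
  · exact Or.inl ((Nat.prime_dvd_prime_iff_eq hp hq).mp (hp.dvd_of_dvd_pow h))

theorem Cfg.not_tau3 (hG : IsMinSimpleOddOrder G) {M H T Q : Subgroup G} {t q : ℕ}
    (h : Cfg M H t q T Q) : t ∉ tau3 H := by
  intro hτ
  haveI := Fact.mk h.ht
  haveI := Fact.mk h.hq
  have htH : t ∉ sigma H := hτ.2.1
  have hqM : q ∈ sigma M :=
    card_sigmaCore hG h.hM q h.hq (dvd_card_of_pgroup h.hQ h.hQ1 h.hQM)
  have hqt : q ≠ t := fun e => h.htM (e ▸ hqM)
  have hsH : Group.IsSolvable H := sol hG h.hH.1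
  -- common end: `T ≤ E₃`
  have key : ∀ E : Subgroup G, IsComplIn E (sigmaCore H) H → T ≤ E →
      ∃ E₃ : Subgroup G, T ≤ E₃ ∧ IsCyclic E₃ ∧ E₃ ≤ ⁅E, E⁆ ∧ E ≤ normalizer (E₃ : Set G) := by
    intro E hE hTE
    have hsE : Group.IsSolvable E := Cfsg.Agent.Lib.Helper30SZ.solvable_of_le hsH hE.1
    obtain ⟨E₃, hE₃⟩ := exists_hallOf' hsE (tau3 H)
    obtain ⟨h1, h2, h3⟩ := (Cfsg.Agent.S1415.result hG H h.hH E hE).2.2 E₃ hE₃
    refine ⟨E₃, ?_, h1, h2, h3⟩
    exact le_of_normal_hall hE₃.1 h3 hTE (coprime_of_isPGroup h.hT (hE₃.2.2 t h.ht hτ))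
  by_cases hqH : q ∈ sigma H
  · -- case (b)
    have hQs : Q ≤ sigmaCore H := pgroup_le_sigmaCore hG h.hH hqH h.hQ h.hQH
    have hTs : T ≤ normalizer (sigmaCore H : Set G) := h.hTH.trans (Helper30BG2.le_normalizer_sigmaCore H)
    have hcop : (Nat.card T).Coprime (Nat.card (sigmaCore H)) :=
      coprime_of_isPGroup h.hT (fun hd => htH (card_sigmaCore hG h.hH t h.ht hd))
    obtain ⟨P, hQP, hTP⟩ := Cfsg.Agent.S0025.result T (sigmaCore H) hTs hcop
      (Or.inr (Cfsg.Agent.Lib.Helper30SZ.solvable_of_le hsH (Helper30BG2.sigmaCore_le H))) q Q hQs h.hQ h.hTQ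
    set Y : Subgroup G := (P : Subgroup (sigmaCore H)).map (sigmaCore H).subtype with hY
    have hYs : IsSyl q Y (sigmaCore H) := isSyl_of_sylow P
    have hqα : q ∉ alpha H := fun hα =>
      (Cfsg.Agent.Lib.Helper5BGDisjoint.sigma_disjoint hG h.hH h.hM
        (fun g hg => h.nc g⁻¹ (by rw [← hg, cj_inv_cj]))).1 q hα hqM
    have hr2 : PRankLE q 2 Y := by
      have h2 : PRankLE q 2 H := by
        by_contra hcon
        exact hqα ⟨h.hq, hcon⟩
      exact rank_le_of_le (hYs.1.trans (Helper30BG2.sigmaCore_le H)) h2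
    obtain ⟨E, hE, hTE, hEY⟩ := Cfsg.Agent.Lib.Helper11BG13complnorm.exists_compl_normalizing hG h.hH
      hYs h.hTH hTP (fun p hp hd => by
        obtain ⟨k, hk⟩ := h.hT.exists_card_eq
        rw [hk] at hd
        have := (Nat.prime_dvd_prime_iff_eq hp h.ht).mp (hp.dvd_of_dvd_pow hd)
        exact this ▸ htH)
    obtain ⟨E₃, hTE₃, -, hE₃d, -⟩ := key E hE hTE
    have hsE : Group.IsSolvable E := Cfsg.Agent.Lib.Helper30SZ.solvable_of_le hsH hE.1
    have hq2 : q ≠ 2 := ne_two hG h.hQ h.hQ1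
    have hTC : T ≤ centralizer (Y : Set G) := by
      intro k hk
      apply Cfsg.Agent.Lib.Helper3AutOdd.centralizes_of_mem_commutator q hq2 Y E hYs.2.1 hr2 hEY hsE
        (odd_sub hG E) k (hE₃d (hTE₃ hk))
      obtain ⟨j, hj⟩ := (IsPGroup.iff_orderOf.mp h.hT) ⟨k, hk⟩
      rw [Subgroup.orderOf_mk] at hj
      rw [hj]
      exact Nat.Coprime.pow_left _ ((Nat.coprime_primes h.ht h.hq).mpr (Ne.symm hqt))
    apply h.hQ1
    rw [← h.hcomm, Subgroup.commutator_eq_bot_iff_le_centralizer]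
    intro x hx
    rw [Subgroup.mem_centralizer_iff]
    intro k hk
    exact ((Subgroup.mem_centralizer_iff.mp (hTC hk)) x (hQP hx)).symm
  · -- case (a)
    obtain ⟨E, hE, hQTE⟩ := exists_compl_ge hG h.hH (X := Q ⊔ T) (sup_le h.hQH h.hTH)
      (fun p hp hd => by
        rcases prime_dvd_sup h.hq h.ht h.hQ h.hT h.hTQ hp hd with rfl | rfl
        · exact hqH
        · exact htH)
    obtain ⟨E₃, hTE₃, hcyc, -, hEn⟩ := key E hE (le_sup_right.trans hQTE)
    have hQE₃ : Q ≤ E₃ := by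
      rw [← h.hcomm, Subgroup.commutator_le]
      intro x hx k hk
      have hxn := hEn (hQTE (le_sup_left (a := Q) hx))
      have h1 : x * k * x⁻¹ ∈ E₃ := (Subgroup.mem_normalizer_iff.mp hxn k).mp (hTE₃ hk)
      have : ⁅x, k⁆ = (x * k * x⁻¹) * k⁻¹ := by rw [commutatorElement_def]
      rw [this]
      exact E₃.mul_mem h1 (E₃.inv_mem (hTE₃ hk))
    apply h.hQ1
    rw [← h.hcomm, Subgroup.commutator_eq_bot_iff_le_centralizer]
    intro x hx
    rw [Subgroup.mem_centralizer_iff]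
    intro k hk
    obtain ⟨g, hg⟩ := hcyc.exists_generator
    have hc : ∀ a b : E₃, a * b = b * a := by
      intro a b
      obtain ⟨i, rfl⟩ := Subgroup.mem_zpowers_iff.mp (hg a)
      obtain ⟨j, rfl⟩ := Subgroup.mem_zpowers_iff.mp (hg b)
      rw [← zpow_add, ← zpow_add, add_comm]
    exact congrArg Subtype.val (hc ⟨k, hTE₃ hk⟩ ⟨x, hQE₃ hx⟩)

end Cfsg.Agent.Lib.Helper68BG13cfgtau3
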