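import Mathlib
import Cfsg.Agent.Lib.Helper24BG
import Cfsg.Agent.Lib.Helper30Gen
import Cfsg.Agent.Lib.Helper30SZ
import Cfsg.Agent.Lib.Helper53Comm
import Cfsg.Agent.S0023
import Cfsg.Agent.S0027

/-! Project 13, piece `commsylow` (pure coprime action). -/

set_option autoImplicit false

namespace Cfsg.Agent.Lib.Helper90BG13commsylow

open Cfsg Subgroup
open Cfsg.Agent.Lib.Helper24BG

theorem exists_comm_sylow {X : Type*} [Group X] [Finite X] {D T : Subgroup X}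
    (hTD : T ≤ normalizer (D : Set X)) (hcop : (Nat.card T).Coprime (Nat.card D))
    (hs : Group.IsSolvable D) (hnc : ¬ T ≤ centralizer (D : Set X)) :
    ∃ (q : ℕ) (Q₀ : Subgroup X), q.Prime ∧ IsSyl q Q₀ D ∧ T ≤ normalizer (Q₀ : Set X) ∧
      ⁅Q₀, T⁆ ≠ ⊥ ∧ ⁅Q₀, T⁆ ≤ Q₀ ∧ ⁅⁅Q₀, T⁆, T⁆ = ⁅Q₀, T⁆ ∧
      T ≤ normalizer ((⁅Q₀, T⁆ : Subgroup X) : Set X) := by
  by_contra hcon
  apply hnc
  have hD : D ≤ centralizer (T : Set X) := by
    apply Cfsg.Agent.Lib.Helper30Gen.le_of_forall_sylow_le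
    intro q hq
    obtain ⟨P, hP⟩ := Cfsg.Agent.S0023.result T D hTD hcop (Or.inr hs) q
    refine ⟨P, ?_⟩
    by_contra hle
    apply hcon
    have hsyl : IsSyl q ((P : Subgroup D).map D.subtype) D := isSyl_of_sylow P
    refine ⟨q, (P : Subgroup D).map D.subtype, hq.out, hsyl, hP, ?_,
      Cfsg.Agent.Lib.Helper30SZ.commutator_le_of_le_normalizer hP, ?_,
      Cfsg.Agent.Lib.Helper53Comm.le_normalizer_commutator_self_right _ _⟩
    · intro h
      exact hle (commutator_eq_bot_iff_le_centralizer.mp h)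
    · apply Cfsg.Agent.S0027.result T _ hP
      · exact Nat.Coprime.coprime_dvd_right (card_dvd_of_le hsyl.1) hcop
      · exact Or.inr (Cfsg.Agent.Lib.Helper30SZ.solvable_of_le hs hsyl.1)
  exact le_centralizer_iff.mp hD

end Cfsg.Agent.Lib.Helper90BG13commsylow
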