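import Mathlib
import Cfsg.Agent.Lib.Helper30BG13Defs
import Cfsg.Agent.Lib.Helper30BG2
import Cfsg.Agent.Lib.Helper38BG13classify
import Cfsg.Agent.Lib.Helper14BG13cfgsigma
import Cfsg.Agent.Lib.Helper14BG13cfgtau2
import Cfsg.Agent.Lib.Helper68BG13cfgtau3
import Cfsg.Agent.Lib.Helper90BG13commsylow

/-!
B-G 13.1(a) (assembly of the pieces of PROJECT 13).
-/

set_option autoImplicit false

namespace Cfsg.Agent.Lib.Helper30BG13B

open Cfsg Subgroup
open Cfsg.Agent.Lib.Helper30Trans Cfsg.Agent.Lib.Helper24BG Cfsg.Agent.Lib.Helper30BG13Defs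
open Cfsg.Agent.Lib.Helper38BG13classify Cfsg.Agent.Lib.Helper14BG13cfgsigma
open Cfsg.Agent.Lib.Helper14BG13cfgtau2 Cfsg.Agent.Lib.Helper68BG13cfgtau3
open Cfsg.Agent.Lib.Helper90BG13commsylow

variable {G : Type*} [Group G] [Finite G]

omit [Finite G] in
theorem Cfg.T_ne_bot {M H T Q : Subgroup G} {t q : ℕ} (h : Cfg M H t q T Q) : T ≠ ⊥ := by
  intro hT
  apply h.hQ1
  rw [← h.hcomm, hT]
  exact commutator_bot_right Q

theorem Cfg.tau1 (hG : IsMinSimpleOddOrder G) {M H T Q : Subgroup G} {t q : ℕ}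
    (h : Cfg M H t q T Q) : t ∈ tau1 H := by
  have hT1 := Cfg.T_ne_bot h
  have hd : t ∣ Nat.card H := by
    have : Fact t.Prime := ⟨h.ht⟩
    obtain ⟨n, hn⟩ := (IsPGroup.iff_card.mp h.hT)
    have hn0 : n ≠ 0 := by
      rintro rfl
      rw [pow_zero] at hn
      exact hT1 (Subgroup.card_eq_one.mp hn)
    have h1 : t ∣ Nat.card T := by
      rw [hn]
      exact dvd_pow_self t hn0
    exact h1.trans (Subgroup.card_dvd_of_le h.hTH)
  rcases mem_tau_cases hG h.hH h.ht hd with h1 | h1 | h1 | h1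
  · exact absurd h1 (Cfg.not_sigma hG h)
  · exact h1
  · exact (Cfg.no_tau2 hG h h1.2.1 h1 h.htM h.hT hT1 h.hTM h.hTQ).elim
  · exact absurd h1 (Cfg.not_tau3 hG h)

/-- B-G 13.1(a). -/
theorem lemmaB (hG : IsMinSimpleOddOrder G) {M H : Subgroup G} (hM : IsCoatom M) (hH : IsCoatom H)
    (nc : ∀ g : G, H ≠ cj g M) {t : ℕ} [ht : Fact t.Prime] (htM : t ∉ sigma M) (htH : t ∉ tau1 H)
    {T : Subgroup G} (hT : IsPGroup t T) (hTM : T ≤ M) (hTH : T ≤ H) :
    T ≤ centralizer ((sigmaCore M ⊓ H : Subgroup G) : Set G) := by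
  by_contra hnc
  have hTD : T ≤ normalizer ((sigmaCore M ⊓ H : Subgroup G) : Set G) := by
    intro x hx
    have h1 : x ∈ normalizer (sigmaCore M : Set G) :=
      Cfsg.Agent.Lib.Helper30BG2.le_normalizer_sigmaCore M (hTM hx)
    have h2 : x ∈ normalizer (H : Set G) := le_normalizer (hTH hx)
    rw [mem_normalizer_iff] at h1 h2 ⊢
    intro y
    rw [mem_inf, mem_inf, h1 y, h2 y]
  have hcop : (Nat.card T).Coprime (Nat.card ↥(sigmaCore M ⊓ H)) := by
    apply Cfsg.Agent.Lib.Helper37BG.coprime_of_isPGroup hT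
    intro hd
    exact htM (Cfsg.Agent.Lib.Helper30BG2.card_sigmaCore hG hM t ht.out
      (hd.trans (Subgroup.card_dvd_of_le inf_le_left)))
  have hs : Group.IsSolvable ↥(sigmaCore M ⊓ H) := by
    have := hG.2.2.2 H hH.1
    exact Group.isSolvable_of_isSolvable_injective (Subgroup.inclusion_injective (inf_le_right : sigmaCore M ⊓ H ≤ H))
  obtain ⟨q, Q₀, hq, hQ₀, hTQ₀, hne, hle, hcc, hTn⟩ := exists_comm_sylow hTD hcop hs hnc
  have hcfg : Cfg M H t q T ⁅Q₀, T⁆ :=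
    { hM := hM, hH := hH, nc := nc, ht := ht.out, hq := hq, htM := htM, hT := hT, hTM := hTM,
      hTH := hTH, hQ := hQ₀.2.1.to_le hle, hQ1 := hne, hQM := hle.trans (hQ₀.1.trans inf_le_left),
      hQH := hle.trans (hQ₀.1.trans inf_le_right), hTQ := hTn, hcomm := hcc }
  exact htH (Cfg.tau1 hG hcfg)

end Cfsg.Agent.Lib.Helper30BG13B
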