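import Mathlib
import Cfsg.Agent.Lib.Helper30BG13Defs
import Cfsg.Agent.Lib.Helper27BGa
import Cfsg.Agent.Lib.Helper68BGC
import Cfsg.Agent.Lib.Helper21BGExcbasic

/-!
PROJECT 13, piece `primeclass` (Bender-Glauberman 12.2).
-/

set_option autoImplicit false

namespace Cfsg.Agent.Lib.Helper38BG13primeclass

open Cfsg Subgroup
open Cfsg.Agent.Lib.Helper30Trans Cfsg.Agent.Lib.Helper24BG Cfsg.Agent.Lib.Helper30BG13Defs

variable {G : Type*} [Group G] [Finite G]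

theorem prime_class (hG : IsMinSimpleOddOrder G) {H : Subgroup G} (hH : IsCoatom H) {p : ℕ}
    [Fact p.Prime] {X : Subgroup G} (hX : IsPGroup p X) (hX1 : X ≠ ⊥)
    (hN : normalizer (X : Set G) ≤ H) : p ∈ sigma H ∨ p ∈ tau2 H := by
  by_cases hs : p ∈ sigma H
  · exact Or.inl hs
  right
  have hXH : X ≤ H := le_normalizer.trans hN
  have h2 : PRankLE p 2 H := by
    by_contra h
    exact hs (Cfsg.Agent.Lib.Helper68BGC.alpha_sub_sigma hG hH ⟨Fact.out, h⟩)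
  refine ⟨Fact.out, hs, h2, ?_⟩
  intro h1
  obtain ⟨S, hS, hXS⟩ := exists_isSyl_ge hXH hX
  have hp2 : p ≠ 2 := ne_two hG hX hX1
  have hcyc : IsCyclic S :=
    Cfsg.Agent.Lib.Helper27BGa.cyclic_of_rank_one hp2 hS.2.1 (rank_le_of_le hS.1 h1)
  have hNS : normalizer (S : Set G) ≤ H :=
    (Cfsg.Agent.Lib.Helper27BGa.normalizer_le_of_cyclic hcyc hXS).trans hN
  have hS1 : S ≠ ⊥ := fun h => hX1 (le_bot_iff.mp (h ▸ hXS))
  exact hs (Cfsg.Agent.Lib.Helper27BGa.mem_sigma_of_isSyl hS hS1 hNS)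

theorem not_conj_of_rank_one (hG : IsMinSimpleOddOrder G) {M H : Subgroup G} (hM : IsCoatom M)
    {p : ℕ} [Fact p.Prime] (hp : p ∉ sigma M) (hr : PRankLE p 1 M) {X : Subgroup G}
    (hX : IsPGroup p X) (hX1 : X ≠ ⊥) (hN : normalizer (X : Set G) ≤ H) :
    ∀ g : G, H ≠ cj g M := by
  intro g hg
  have h1 : normalizer ((cj g⁻¹ X : Subgroup G) : Set G) ≤ M := by
    rw [Cfsg.Agent.Lib.Helper21BGExcbasic.normalizer_cj', cj_le_iff, inv_inv, ← hg]
    exact hN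
  have hX' : IsPGroup p (cj g⁻¹ X) := hX.map _
  have hX1' : cj g⁻¹ X ≠ ⊥ := Cfsg.Agent.Lib.Helper21BGExcbasic.cj_ne_bot hX1 _
  rcases prime_class hG hM hX' hX1' h1 with h | h
  · exact hp h
  · exact h.2.2.2 hr

end Cfsg.Agent.Lib.Helper38BG13primeclass
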