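import Mathlib
import Cfsg.Agent.Lib.Helper30BG13Defs
import Cfsg.Agent.Lib.Helper30BG2
import Cfsg.Agent.Lib.Helper37BG
import Cfsg.Agent.Lib.Helper17BG13commsup

/-!
PROJECT 13 piece `dvdder` (step 3b of B-G 13.7).
-/

set_option autoImplicit false

namespace Cfsg.Agent.Lib.Helper17BG13dvdder

open Cfsg Subgroup
open Cfsg.Agent.Lib.Helper30Trans Cfsg.Agent.Lib.Helper24BG Cfsg.Agent.Lib.Helper30BG13Defs
open Cfsg.Agent.Lib.Helper17BG13commsup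

variable {G : Type*} [Group G] [Finite G]

theorem dvd_derived_aux (hG : IsMinSimpleOddOrder G) {M : Subgroup G} (hM : IsCoatom M)
    {p q : ℕ} [hp : Fact p.Prime] [Fact q.Prime] (hq : q ∈ sigma M) (hpi : ¬ IsIdealPrime p G)
    {Y : Subgroup G} (hY : IsPGroup q Y) (hY1 : Y ≠ ⊥) (hYM : Y ≤ M)
    (hd : p ∣ Nat.card ↥⁅normalizer (Y : Set G), normalizer (Y : Set G)⁆) :
    p ∣ Nat.card ↥⁅M, M⁆ ∨ ∃ Ms : Subgroup G, IsCoatom Ms ∧ q ∈ tau2 Ms ∧ p ∈ sigma Ms := by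
  by_cases hN : normalizer (Y : Set G) ≤ M
  · exact Or.inl (hd.trans (card_dvd_of_le (commutator_mono hN hN)))
  obtain ⟨Ms, hMs, hle⟩ := exists_coatom (norm_ne_top hG hY1 (pgroup_ne_top hG hY))
  have hne : Ms ≠ M := fun h => hN (h ▸ hle)
  have hYMs : Y ≤ Ms := le_normalizer.trans hle
  obtain ⟨S, hS, hYS⟩ := exists_isSyl_ge (le_inf hYM hYMs) hY
  obtain ⟨-, hb, hc⟩ := Cfsg.Agent.Lib.Helper30BG.emb_abc hG hM hq hY hY1 hYM hMs hne hle hS hYS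
  have hd' : p ∣ Nat.card ↥⁅Ms, Ms⁆ := hd.trans (card_dvd_of_le (commutator_mono hle hle))
  have hfin : p ∣ Nat.card ↥⁅M ⊓ Ms, M ⊓ Ms⁆ → p ∣ Nat.card ↥⁅M, M⁆ := fun h =>
    h.trans (card_dvd_of_le (commutator_mono inf_le_left inf_le_left))
  by_cases hqs : q ∈ sigma Ms
  · have h := Cfsg.Agent.Lib.Helper37BG.le_beta_sup_inf hG hM hMs hne hqs hc hb
    exact Or.inl (hfin (dvd_card_commutator (le_normalizer_piCoreOf _ _) h inf_le_right hp.out hd'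
      (fun h' => hpi (card_piCoreOf _ _ p hp.out h').2)))
  · obtain ⟨ht2, hsup, -, -⟩ :=
      Cfsg.Agent.Lib.Helper37BG.emb_ef hG hM hq hY hY1 hYM hMs hne hle hqs
    by_cases hps : p ∈ sigma Ms
    · exact Or.inr ⟨Ms, hMs, ht2, hps⟩
    · exact Or.inl (hfin (dvd_card_commutator
        (Cfsg.Agent.Lib.Helper30BG2.le_normalizer_sigmaCore Ms) hsup inf_le_right hp.out hd'
        (fun h' => hps (Cfsg.Agent.Lib.Helper30BG2.card_sigmaCore hG hMs p hp.out h'))))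

theorem dvd_derived_of_normalizer (hG : IsMinSimpleOddOrder G) {M : Subgroup G} (hM : IsCoatom M)
    {p q : ℕ} [Fact p.Prime] [Fact q.Prime] (hq : q ∈ sigma M) (hpi : ¬ IsIdealPrime p G)
    {Y : Subgroup G} (hY : IsPGroup q Y) (hY1 : Y ≠ ⊥)
    (hd : p ∣ Nat.card ↥⁅normalizer (Y : Set G), normalizer (Y : Set G)⁆) :
    p ∣ Nat.card ↥⁅M, M⁆ ∨ ∃ Ms : Subgroup G, IsCoatom Ms ∧ q ∈ tau2 Ms ∧ p ∈ sigma Ms := by
  obtain ⟨g, hg⟩ := Cfsg.Agent.Lib.Helper37BG.exists_cj_le_sigmaCore hG hM hY1 (by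
    intro r hr hrd
    obtain ⟨n, hn⟩ := hY.exists_card_eq
    rw [hn] at hrd
    have : r = q := (Nat.prime_dvd_prime_iff_eq hr (Fact.out)).mp (hr.dvd_of_dvd_pow hrd)
    exact this ▸ hq)
  refine dvd_derived_aux hG hM hq hpi (Y := cj g Y) (hY.map _) ?_
    (hg.trans (Cfsg.Agent.Lib.Helper30BG2.sigmaCore_le M)) ?_
  · intro h
    apply hY1
    rw [← cj_inv_cj g Y, h]
    exact map_bot _
  · rw [← Cfsg.Agent.Lib.Helper37BG.cj_normalizer, ← map_commutator]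
    rw [card_cj]
    exact hd

end Cfsg.Agent.Lib.Helper17BG13dvdder
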