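import Mathlib
import Cfsg.Agent.Lib.Helper37BGPartA
import Cfsg.Agent.S1427

/-!
# helper37: two variants of `Helper37BGPart.exists_regular_tau1` for PROJECT 13 of helper30
(uses S1427, not S1428)
-/

set_option autoImplicit false
open Cfsg

namespace Cfsg.Agent.Lib.Helper37BGPartB

open Subgroup
open Cfsg.Agent.Lib.Helper30Trans
open Cfsg.Agent.Lib.Helper24BG
open Cfsg.Agent.Lib.Helper24BG2
open Cfsg.Agent.Lib.Helper68BGA
open Cfsg.Agent.Lib.Helper27BGa
open Cfsg.Agent.Lib.Helper30BG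
open Cfsg.Agent.Lib.Helper31BGS
open Cfsg.Agent.Lib.Helper37BG
open Cfsg.Agent.Lib.Helper37BGPartA

universe u
variable {G : Type u} [Group G] [Finite G]

/-- the primes of a complement `E` are in `τ₁(M) ∪ τ₃(M)` when `τ₂(M) = ∅` -/
theorem tau13_of_dvd_compl (hG : IsMinSimpleOddOrder G) {M : Subgroup G} (hM : IsCoatom M)
    {q : ℕ} [hq : Fact q.Prime] {S : Subgroup G} (hSM : IsSyl q S M) (hS1 : S ≠ ⊥)
    (hN : normalizer (S : Set G) ≤ M) (hnot : ¬ M ≤ normalizer (S : Set G)) {E : Subgroup G}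
    (hE : IsComplIn E (sigmaCore M) M) {r : ℕ} (hr : r.Prime) (hd : r ∣ Nat.card E) :
    r ∈ tau1 M ∨ r ∈ tau3 M := by
  have := Fact.mk hr
  have hrσ : r ∉ sigma M := not_mem_sigma_of_dvd_compl hG hM hE hr hd
  have hr2 : PRankLE r 2 M := by
    by_contra h
    exact hrσ (alpha_subset_sigma hG hM ⟨hr, h⟩)
  have hr1 : PRankLE r 1 M := by
    by_contra h
    exact tau2_empty hG hM hSM hS1 hN hnot ⟨hr, hrσ, hr2, h⟩
  have hrM : r ∣ Nat.card M := hd.trans (card_dvd_of_le hE.1)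
  by_cases h : r ∣ Nat.card ↥⁅M, M⁆
  · exact Or.inr ⟨hr, hrσ, h, hr1⟩
  · exact Or.inl ⟨hr, hrσ, hrM, h, hr1⟩

theorem mem_tau1_of_not_cent (hG : IsMinSimpleOddOrder G) {M : Subgroup G} (hM : IsCoatom M)
    {q : ℕ} [Fact q.Prime] {S : Subgroup G} (hS : IsSyl q S ⊤) (hS1 : S ≠ ⊥)
    (hN : normalizer (S : Set G) ≤ M) (hnot : ¬ M ≤ normalizer (S : Set G)) (hrk : PRankLE q 2 S)
    {E R : Subgroup G} (hE : IsComplIn E (sigmaCore M) M) (hEN : E ≤ normalizer (S : Set G))
    (hRE : R ≤ E) (hR : (Nat.card R).Prime) (hRS : ¬ R ≤ centralizer (S : Set G)) :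
    Nat.card R ∈ tau1 M := by
  have hSM : IsSyl q S M := hS.mono (le_normalizer.trans hN) le_top
  rcases tau13_of_dvd_compl hG hM hSM hS1 hN hnot hE hR (card_dvd_of_le hRE) with h | h
  · exact h
  · exfalso
    apply hRS
    have hEs : Group.IsSolvable E := Cfsg.Agent.Lib.Helper30SZ.solvable_of_le (sol hG hM.1) hE.1
    have hder := commutator_compl_le hG hM hSM hS1 hN hrk hE hEN
    obtain ⟨E3, hE3⟩ := exists_hallOf hEs (tau3 M)
    obtain ⟨-, hE3d, hE3n⟩ := (Cfsg.Agent.S1415.result hG M hM E hE).2.2 E3 hE3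
    have h1 : R ≤ E3 := le_of_coprime_relIndex hE3n hRE
      ((Nat.Prime.coprime_iff_not_dvd hR).mpr (hE3.2.2 _ hR h))
    exact h1.trans (hE3d.trans hder)

theorem regular_of_local (hG : IsMinSimpleOddOrder G) {M : Subgroup G} (hM : IsCoatom M) {q : ℕ}
    [Fact q.Prime] {S : Subgroup G} (hS : IsSyl q S ⊤) (hS1 : S ≠ ⊥)
    (hN : normalizer (S : Set G) ≤ M) (hnot : ¬ M ≤ normalizer (S : Set G))
    (hab : IsMulCommutative S) (hrk : PRankLE q 2 S) (hqb : q ∉ beta M) {E R : Subgroup G}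
    (hE : IsComplIn E (sigmaCore M) M) (hEN : E ≤ normalizer (S : Set G)) (hRE : R ≤ E)
    (hR : (Nat.card R).Prime) (hRS : ¬ R ≤ centralizer (S : Set G))
    (hloc : ∀ R' : Subgroup G, R' ≤ E ⊓ centralizer (R : Set G) → (Nat.card R').Prime →
      S ⊓ centralizer (R : Set G) ≤ centralizer (R' : Set G)) :
    S ⊓ centralizer (R : Set G) = ⊥ := by
  have hSM : IsSyl q S M := hS.mono (le_normalizer.trans hN) le_top
  have hqσ : q ∈ sigma M := mem_sigma_of_isSyl hSM hS1 hN
  have hSσ : S ≤ sigmaCore M := le_sigmaCore hG hM hSM.1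
    (fun p hp hd => by rw [prime_eq_of_dvd_card hSM.2.1 hp hd]; exact hqσ)
  have hLa := sigmaCore_inf_normalizer_le hG hM hSM hS1 hN hab hqb
  have hEs : Group.IsSolvable E := Cfsg.Agent.Lib.Helper30SZ.solvable_of_le (sol hG hM.1) hE.1
  have hder := commutator_compl_le hG hM hSM hS1 hN hrk hE hEN
  have hRτ : Nat.card R ∈ tau1 M := mem_tau1_of_not_cent hG hM hS hS1 hN hnot hrk hE hEN hRE hR hRS
  -- `C_S(E) = 1`
  have hSE : S ⊓ centralizer (E : Set G) = ⊥ := by
    rw [eq_bot_iff, ← inf_centralizer_normalizer hG hS hab]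
    intro x hx
    obtain ⟨hx1, hx2⟩ := mem_inf.mp hx
    refine mem_inf.mpr ⟨hx1, ?_⟩
    rw [mem_centralizer_iff]
    intro n hn
    obtain ⟨e, he, a, ha, rfl⟩ := (compl_inf hE hEN hN).2.2.2 n hn
    have h1 : e * x = x * e := (mem_centralizer_iff.mp hx2) e he
    have h2 : x * a = a * x := (mem_centralizer_iff.mp (hLa ha)) x hx1
    calc e * a * x = e * (a * x) := by group
      _ = e * (x * a) := by rw [h2]
      _ = (e * x) * a := by group
      _ = (x * e) * a := by rw [h1]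
      _ = x * (e * a) := by group
  have hRp : IsPGroup (Nat.card R) R := by
    have := Fact.mk hR
    exact IsPGroup.of_card (n := 1) (by rw [pow_one])
  obtain ⟨E1, hE1, hRE1⟩ := exists_hallOf_ge hEs (tau1 M) hRE (fun p hp hd => by
    have := Fact.mk hR
    rw [prime_eq_of_dvd_card hRp hp hd]; exact hRτ)
  obtain ⟨E3, hE3⟩ := exists_hallOf hEs (tau3 M)
  obtain ⟨-, h15a, h15b⟩ := Cfsg.Agent.S1415.result hG M hM E hE
  have hE1c : IsCyclic E1 := h15a E1 hE1
  obtain ⟨-, hE3d, -⟩ := h15b E3 hE3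
  have hE3C : E3 ≤ centralizer (S : Set G) := hE3d.trans hder
  have hcomm : ∀ a ∈ E1, ∀ b ∈ E1, a * b = b * a := by
    intro a ha b hb
    have := (IsCyclic.commGroup (α := E1)).mul_comm ⟨a, ha⟩ ⟨b, hb⟩
    exact congrArg Subtype.val this
  rw [eq_bot_iff, ← hSE]
  intro x hx
  obtain ⟨hx1, hx2⟩ := mem_inf.mp hx
  refine mem_inf.mpr ⟨hx1, ?_⟩
  have hle : E ≤ centralizer ({x} : Set G) := by
    apply le_of_forall_isSyl
    intro r hr
    by_cases h1 : r ∈ tau1 M
    · obtain ⟨T, hT, -⟩ := exists_isSyl_ge (p := r) (bot_le : ⊥ ≤ E1) (IsPGroup.of_bot)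
      have hTE : IsSyl r T E := isSyl_of_not_dvd_relIndex hT hE1.1 (hE1.2.2 r hr.out h1)
      refine ⟨T, hTE, ?_⟩
      by_cases hTb : T = ⊥
      · rw [hTb]; exact bot_le
      have hrd : r ∣ Nat.card T := dvd_card_of_pgroup hT.2.1 hTb le_rfl
      obtain ⟨z, hz, hz1, hzc⟩ := exists_card_prime_le hrd
      have hRle : zpowers z ≤ E ⊓ centralizer (R : Set G) := by
        rw [zpowers_le]
        refine mem_inf.mpr ⟨hTE.1 hz, ?_⟩
        rw [mem_centralizer_iff]
        intro w hw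
        exact hcomm w (hRE1 hw) z (hT.1 hz)
      have hx3 : x ∈ centralizer ((zpowers z : Subgroup G) : Set G) :=
        hloc (zpowers z) hRle (by rw [hzc]; exact hr.out) hx
      have hTc : IsCyclic T := isCyclic_of_le hT.1
      have hTc' : IsCyclic ((hTE.toSylow : Sylow r E) : Subgroup E) := by
        have e : (T.subgroupOf E) ≃* T := subgroupOfEquivOfLe hTE.1
        exact isCyclic_of_surjective e.symm e.symm.surjective
      have hTne : ((hTE.toSylow : Sylow r E) : Subgroup E) ≠ ⊥ := by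
        intro h
        apply hTb
        rw [← hTE.map_toSylow, h, Subgroup.map_bot]
      have h27 := Cfsg.Agent.S1427.result hG M hM E hE r hTE.toSylow hTne hTc' z
        (by rw [hTE.map_toSylow]; exact hz) hz1
      rw [hTE.map_toSylow] at h27
      have hx4 : x ∈ sigmaCore M ⊓ centralizer ({z} : Set G) := by
        refine mem_inf.mpr ⟨hSσ hx1, ?_⟩
        rw [mem_centralizer_singleton_iff]
        exact ((mem_centralizer_iff.mp hx3) z (mem_zpowers z)).symm
      rw [h27] at hx4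
      intro t ht
      rw [mem_centralizer_singleton_iff]
      exact ((mem_centralizer_iff.mp (mem_inf.mp hx4).2) t ht)
    · by_cases h3 : r ∈ tau3 M
      · obtain ⟨T, hT, -⟩ := exists_isSyl_ge (p := r) (bot_le : ⊥ ≤ E3) (IsPGroup.of_bot)
        refine ⟨T, isSyl_of_not_dvd_relIndex hT hE3.1 (hE3.2.2 r hr.out h3), ?_⟩
        intro t ht
        rw [mem_centralizer_singleton_iff]
        exact ((mem_centralizer_iff.mp (hE3C (hT.1 ht))) x hx1).symm
      · obtain ⟨T, hT, -⟩ := exists_isSyl_ge (p := r) (bot_le : ⊥ ≤ E) (IsPGroup.of_bot)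
        refine ⟨T, hT, ?_⟩
        have hTb : T = ⊥ := by
          by_contra hne
          rcases tau13_of_dvd_compl hG hM hSM hS1 hN hnot hE hr.out
            (dvd_card_of_pgroup hT.2.1 hne hT.1) with h | h
          · exact h1 h
          · exact h3 h
        rw [hTb]; exact bot_le
  rw [mem_centralizer_iff]
  intro e he
  exact (mem_centralizer_singleton_iff.mp (hle he))

end Cfsg.Agent.Lib.Helper37BGPartB
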