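import Mathlib
import Cfsg.Agent.Lib.Helper30BG13Defs
import Cfsg.Agent.Lib.Helper30BG2
import Cfsg.Agent.Lib.Helper21BGExcbasic
import Cfsg.Agent.Lib.Helper23Grp
import Cfsg.Agent.S1405

/-!
PROJECT 13, piece `alphacent`.
-/

set_option autoImplicit false

namespace Cfsg.Agent.Lib.Helper38BG13alphacent

open Cfsg Subgroup
open Cfsg.Agent.Lib.Helper30Trans Cfsg.Agent.Lib.Helper24BG Cfsg.Agent.Lib.Helper30BG13Defs

variable {G : Type*} [Group G] [Finite G]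

omit [Finite G] in
/-- if `A` is normalized by `s`, `B` is normalized by `b`, `b ∈ A`, `s ∈ B` and `A ⊓ B = 1` then
`b` and `s` commute -/
theorem commute_of_inf_eq_bot {A B : Subgroup G} (h : A ⊓ B = ⊥) {b s : G} (hb : b ∈ A) (hs : s ∈ B)
    (hsA : s ∈ normalizer (A : Set G)) (hbB : b ∈ normalizer (B : Set G)) : s * b = b * s := by
  have h1 : b * s * b⁻¹ * s⁻¹ ∈ A := by
    have h2 : s * b⁻¹ * s⁻¹ ∈ A := (mem_normalizer_iff.mp hsA _).mp (A.inv_mem hb)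
    have e : b * s * b⁻¹ * s⁻¹ = b * (s * b⁻¹ * s⁻¹) := by group
    rw [e]
    exact A.mul_mem hb h2
  have h2 : b * s * b⁻¹ * s⁻¹ ∈ B :=
    B.mul_mem ((mem_normalizer_iff.mp hbB _).mp hs) (B.inv_mem hs)
  have h3 : b * s * b⁻¹ * s⁻¹ ∈ A ⊓ B := ⟨h1, h2⟩
  rw [h, mem_bot] at h3
  have e : b * s = (b * s * b⁻¹ * s⁻¹) * (s * b) := by group
  rw [e, h3, one_mul]

omit [Finite G] in
theorem le_normalizer_alphaCore (H : Subgroup G) : H ≤ normalizer (alphaCore H : Set G) :=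
  le_normalizer_piCoreOf (alpha H) H

/-- `H_α ∩ M` centralizes `M_σ ∩ H` for nonconjugate `M`, `H`. -/
theorem alpha_inf_centralizes (hG : IsMinSimpleOddOrder G) {M H : Subgroup G} (hM : IsCoatom M)
    (hH : IsCoatom H) (nc : ∀ g : G, H ≠ cj g M) :
    alphaCore H ⊓ M ≤ centralizer ((sigmaCore M ⊓ H : Subgroup G) : Set G) := by
  have hconj : ∀ g : G, cj g H ≠ M := by
    intro g hg
    apply nc g⁻¹
    rw [← hg, cj_inv_cj]
  have hd := (Cfsg.Agent.Lib.Helper5BGDisjoint.sigma_disjoint hG hH hM hconj).2.1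
  rintro b ⟨hb1, hb2⟩
  rw [mem_centralizer_iff]
  rintro s ⟨hs1, hs2⟩
  exact commute_of_inf_eq_bot hd hb1 hs1 (le_normalizer_alphaCore H hs2)
    (Cfsg.Agent.Lib.Helper30BG2.le_normalizer_sigmaCore M hb2)

/-- `p`-subgroups of `H` lie in `H_α` for `p ∈ α(H)` -/
theorem pgroup_le_alphaCore (hG : IsMinSimpleOddOrder G) {H : Subgroup G} (hH : IsCoatom H) {p : ℕ}
    [Fact p.Prime] (hp : p ∈ alpha H) {P : Subgroup G} (hP : IsPGroup p P) (hPH : P ≤ H) :
    P ≤ alphaCore H := by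
  obtain ⟨h1, -, h3⟩ := (Cfsg.Agent.S1405.result hG H hH).1
  apply Cfsg.Agent.Lib.Helper30BG2.le_of_normal_hall h1 (le_normalizer_alphaCore H) hPH
  obtain ⟨k, hk⟩ := IsPGroup.iff_card.mp hP
  rw [hk]
  apply Nat.Coprime.pow_left
  exact (Nat.Prime.coprime_iff_not_dvd Fact.out).mpr (h3 p Fact.out hp)

/-- `M ∩ H ≤ N(S)` if `S ≤ M ∩ H` is a Sylow `q`-subgroup of `G`, `q ∈ σ(M) ∩ σ(H)`. -/
theorem inf_le_normalizer (hG : IsMinSimpleOddOrder G) {M H : Subgroup G} (hM : IsCoatom M)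
    (hH : IsCoatom H) (nc : ∀ g : G, H ≠ cj g M) {q : ℕ} [Fact q.Prime] (hq : q ∈ sigma M)
    (hqH : q ∈ sigma H) {S : Subgroup G} (hS : IsSyl q S ⊤) (hSM : S ≤ M) (hSH : S ≤ H) :
    M ⊓ H ≤ normalizer (S : Set G) := by
  have nc' : ∀ g : G, M ≠ cj g H := by
    intro g hg
    apply nc g⁻¹
    rw [hg, cj_inv_cj]
  have hconj : ∀ g : G, cj g M ≠ H := fun g hg => nc g hg.symm
  have hqβ : q ∉ beta M := fun h => Cfsg.Agent.Lib.Helper37BG.sigma_beta_disjoint hG hH hM nc' hqH h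
  have hSM' : IsSyl q S M := hS.mono hSM le_top
  have hSH' : IsSyl q S H := hS.mono hSH le_top
  have h1 := Cfsg.Agent.Lib.Helper37BG.le_beta_sup_normalizer hG hM hq hqβ hSM'
  obtain ⟨hNH, -, hSσ⟩ := Cfsg.Agent.Lib.Helper21BGExcbasic.sigma_sylow hG hH hqH hSH'
  have hd := (Cfsg.Agent.Lib.Helper5BGDisjoint.sigma_disjoint hG hM hH hconj).2.1
  have hβα : piCoreOf (beta M) M ≤ alphaCore M := by
    apply le_piCoreOf (piCoreOf_le _ _) (le_normalizer_piCoreOf _ _)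
    intro p hp hd
    exact (card_piCoreOf _ _ p hp hd).1
  rintro x ⟨hxM, hxH⟩
  have hn : M ⊓ normalizer (S : Set G) ≤ normalizer ((piCoreOf (beta M) M : Subgroup G) : Set G) :=
    inf_le_left.trans (le_normalizer_piCoreOf _ _)
  obtain ⟨b, hb, n, hn', rfl⟩ := (Cfsg.Agent.Lib.Helper23Grp.mem_sup_of_normalizes hn).mp (h1 hxM)
  have hbH : b ∈ H := by
    have e : b = b * n * n⁻¹ := by group
    rw [e]
    exact H.mul_mem hxH (H.inv_mem (hNH hn'.2))
  have hbC : b ∈ centralizer (S : Set G) := by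
    rw [mem_centralizer_iff]
    intro s hs
    exact commute_of_inf_eq_bot hd (hβα hb) (hSσ hs) (le_normalizer_alphaCore M (hSM hs))
      (Cfsg.Agent.Lib.Helper30BG2.le_normalizer_sigmaCore H hbH)
  exact (normalizer (S : Set G)).mul_mem (centralizer_le_normalizer _ hbC) hn'.2

end Cfsg.Agent.Lib.Helper38BG13alphacent
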