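import Mathlib
import Cfsg.Agent.Lib.Helper24Frob
import Cfsg.Agent.Lib.Helper24BG
import Cfsg.Agent.Lib.Helper3AutRank

/-!
Pure group theory core of Bender-Glauberman 13.4(a): a Frobenius-like group `Q P` (`P` of prime order,
fixed-point-free on `Q`) acting coprimely on an `s`-group `U` (`s` odd) with `C_U(P)` cyclic and
`C_U(QP) ≠ 1`: then `Q` centralizes `U`.
-/

set_option autoImplicit false
open Cfsg

namespace Cfsg.Agent.Lib.Helper24BGFrobCyc

open Subgroup
open Cfsg.Agent.Lib.Helper24BG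

universe u
variable {G : Type u} [Group G]

/-- in a cyclic group an element killed by the prime `r` lies in the subgroup generated by any
element of order `r` -/
theorem mem_zpowers_of_pow_eq_one [Finite G] {r : ℕ} (hr : r.Prime) {C : Subgroup G} (hC : IsCyclic C)
    {c y : G} (hc : c ∈ C) (hy : y ∈ C) (hcr : c ^ r = 1) (hyo : orderOf y = r) : c ∈ zpowers y := by
  let _ : CommGroup C := IsCyclic.commGroup
  set Kr : Subgroup C := (powMonoidHom r : C →* C).ker with hKr
  have hmem : ∀ x : C, x ∈ Kr ↔ x ^ r = 1 := fun x => by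
    rw [hKr, MonoidHom.mem_ker, powMonoidHom_apply]
  have hcard : Nat.card Kr ≤ r := by
    apply card_le_of_cyclic_exp hr.pos
    intro x
    exact Subtype.ext ((hmem x.1).mp x.2)
  have hyK : zpowers (⟨y, hy⟩ : C) ≤ Kr := by
    rw [zpowers_le, hmem]
    apply Subtype.ext
    show y ^ r = 1
    rw [← hyo]; exact pow_orderOf_eq_one y
  have hyc : Nat.card (zpowers (⟨y, hy⟩ : C)) = r := by
    rw [Nat.card_zpowers, ← hyo]
    exact Subgroup.orderOf_mk y hy
  have heq : zpowers (⟨y, hy⟩ : C) = Kr := eq_of_le_of_card_ge hyK (by rw [hyc]; exact hcard)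
  have h1 : (⟨c, hc⟩ : C) ∈ zpowers (⟨y, hy⟩ : C) := by
    rw [heq, hmem]
    exact Subtype.ext hcr
  obtain ⟨k, hk⟩ := mem_zpowers_iff.mp h1
  exact mem_zpowers_iff.mpr ⟨k, congrArg Subtype.val hk⟩


theorem solvable_of_pgroup [Finite G] {r : ℕ} [Fact r.Prime] {R : Subgroup G} (hR : IsPGroup r R) :
    Group.IsSolvable R := by
  have := hR.isNilpotent
  infer_instance

theorem coprime_card_of_pgroup [Finite G] {r n : ℕ} [hr : Fact r.Prime] {R : Subgroup G} (hR : IsPGroup r R)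
    (h : n.Coprime r) : n.Coprime (Nat.card R) := by
  obtain ⟨k, hk⟩ := IsPGroup.iff_card.mp hR
  rw [hk]
  exact Nat.Coprime.pow_right k h

/-- `P` of prime order acts fixed-point-freely on `S`, `S P` acts on the `r`-group `R` (`r` odd, prime to
`|S||P|`), `C_R(P)` is cyclic and `C_R(SP) ≠ 1`.  Then `S` centralizes `R`. -/
theorem centralizes_of_cyclic_fix [Finite G] {r : ℕ} [hr : Fact r.Prime] (hr2 : r ≠ 2)
    {R S P : Subgroup G}
    (hR : IsPGroup r R) (hSR : S ≤ normalizer (R : Set G)) (hPR : P ≤ normalizer (R : Set G))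
    (hPS : P ≤ normalizer (S : Set G)) (hP : (Nat.card P).Prime)
    (hcopS : (Nat.card S).Coprime r) (hcopP : (Nat.card P).Coprime r)
    (hreg : S ⊓ centralizer (P : Set G) = ⊥) (hcyc : IsCyclic ↥(R ⊓ centralizer (P : Set G)))
    {y : G} (hyR : y ∈ R) (hy1 : y ≠ 1) (hyS : y ∈ centralizer (S : Set G))
    (hyP : y ∈ centralizer (P : Set G)) : S ≤ centralizer (R : Set G) := by
  by_contra hcon
  obtain ⟨s, hs, hsC⟩ := SetLike.not_le_iff_exists.mp hcon
  have hyp : IsPGroup r (zpowers y) := hR.to_le (zpowers_le.mpr hyR)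
  obtain ⟨y', hy'z, hy'o⟩ : ∃ y' ∈ zpowers y, orderOf y' = r := by
    have hne : zpowers y ≠ ⊥ := by rwa [Ne, zpowers_eq_bot]
    have hd : r ∣ Nat.card (zpowers y) := dvd_card_of_pgroup hyp hne le_rfl
    obtain ⟨w, hw⟩ := exists_prime_orderOf_dvd_card' r hd
    exact ⟨w, w.2, by rw [← hw]; exact (Subgroup.orderOf_coe w)⟩
  set α : MulAut R := R.normalizerMonoidHom ⟨s, hSR hs⟩ with hα
  have hαx : ∀ x : R, ((α x : R) : G) = s * x * s⁻¹ := fun x => rfl
  have hα1 : α ≠ 1 := by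
    intro h1
    apply hsC
    rw [mem_centralizer_iff]
    intro x hx
    have h2 := hαx ⟨x, hx⟩
    rw [h1] at h2
    have h3 : x = s * x * s⁻¹ := h2
    calc x * s = s * x * s⁻¹ * s := by rw [← h3]
      _ = s * x := by group
  have hcop : (orderOf α).Coprime r := by
    have h1 : orderOf α ∣ orderOf (⟨s, hSR hs⟩ : normalizer (R : Set G)) := orderOf_map_dvd _ _
    rw [Subgroup.orderOf_mk] at h1
    have h2 : orderOf s ∣ Nat.card S := by
      rw [← Subgroup.orderOf_mk s hs]; exact orderOf_dvd_natCard _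
    exact Nat.Coprime.of_dvd_left (h1.trans h2) hcopS
  obtain ⟨D, hDchar, hDexp, x, hxD, hxα⟩ :=
    Cfsg.Agent.Lib.Helper3AutRank.exists_exp_p hr2 hR α hcop hα1
  set D' : Subgroup G := D.map R.subtype with hD'
  have hD'R : D' ≤ R := map_subtype_le _
  have hnD : normalizer (R : Set G) ≤ normalizer (D' : Set G) :=
    Cfsg.Agent.Lib.Helper30SZ.normalizer_le_normalizer_map_of_characteristic D
  have hD'p : IsPGroup r D' := hR.to_le hD'R
  have hSD : S ≤ centralizer (D' : Set G) := by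
    apply Cfsg.Agent.Lib.Helper24Frob.frob_fix (solvable_of_pgroup hD'p) (hSR.trans hnD)
      (hPR.trans hnD) hPS hP (coprime_card_of_pgroup hD'p hcopS) (coprime_card_of_pgroup hD'p hcopP) hreg
    rintro c ⟨hcD, hcP⟩
    obtain ⟨d, hd, rfl⟩ := hcD
    have hcr : ((d : R) : G) ^ r = 1 := congrArg Subtype.val (hDexp d hd)
    have hzy : zpowers y ≤ R ⊓ centralizer (P : Set G) := zpowers_le.mpr ⟨hyR, hyP⟩
    have h1 : ((d : R) : G) ∈ zpowers y' :=
      mem_zpowers_of_pow_eq_one hr.out hcyc ⟨d.2, hcP⟩ (hzy hy'z) hcr hy'o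
    have h2 : zpowers y' ≤ centralizer (S : Set G) :=
      zpowers_le.mpr ((zpowers_le.mpr hyS : zpowers y ≤ _) hy'z)
    exact h2 h1
  apply hxα
  apply Subtype.ext
  rw [hαx]
  have h1 := (mem_centralizer_iff.mp (hSD hs)) (x : G) ⟨x, hxD, rfl⟩
  rw [← h1, mul_inv_cancel_right]


/-- the same statement, in the form requested for B-G 13.4(a) -/
theorem cent_of_frob_cyclic {X : Type*} [Group X] [Finite X] {s : ℕ} [Fact s.Prime] (hs2 : s ≠ 2)
    {U Q P : Subgroup X} (hU : IsPGroup s U) (hQU : Q ≤ normalizer (U : Set X))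
    (hPU : P ≤ normalizer (U : Set X)) (hPQ : P ≤ normalizer (Q : Set X)) (hP : (Nat.card P).Prime)
    (hcQ : (Nat.card Q).Coprime s) (hcP : (Nat.card P).Coprime s)
    (hreg : Q ⊓ centralizer (P : Set X) = ⊥) (hcyc : IsCyclic ↥(U ⊓ centralizer (P : Set X)))
    {y : X} (hyU : y ∈ U) (hy1 : y ≠ 1) (hyQ : y ∈ centralizer (Q : Set X))
    (hyP : y ∈ centralizer (P : Set X)) : Q ≤ centralizer (U : Set X) :=
  centralizes_of_cyclic_fix hs2 hU hQU hPU hPQ hP hcQ hcP hreg hcyc hyU hy1 hyQ hyP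

end Cfsg.Agent.Lib.Helper24BGFrobCyc
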