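import Mathlib
import Cfsg.Agent.Lib.Helper30BG13Defs
import Cfsg.Agent.Lib.Helper30BG2
import Cfsg.Agent.Lib.Helper31BGS
import Cfsg.Agent.Lib.Helper24BGFrobCyc
import Cfsg.Agent.Lib.Helper68BG36dichotomy
import Cfsg.Agent.S0025
import Cfsg.Agent.S1405
import Cfsg.Agent.S1406
import Cfsg.Agent.S1407

/-! PROJECT 13, piece `alphareg` (B-G 13.4(a)). -/

set_option autoImplicit false

namespace Cfsg.Agent.Lib.Helper68BG13alphareg

open Cfsg Subgroup
open Cfsg.Agent.Lib.Helper30Trans Cfsg.Agent.Lib.Helper24BG Cfsg.Agent.Lib.Helper30BG13Defs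
open Cfsg.Agent.Lib.Helper37BG Cfsg.Agent.Lib.Helper30BG Cfsg.Agent.Lib.Helper30BG2

variable {G : Type*} [Group G] [Finite G]

/-- prime divisors of `|Q ⊔ T|`. -/
theorem prime_dvd_sup {Q T : Subgroup G} {q t : ℕ} (hq : q.Prime) (ht : t.Prime)
    (hQ : IsPGroup q Q) (hT : IsPGroup t T) (hTQ : T ≤ normalizer (Q : Set G)) {p : ℕ}
    (hp : p.Prime) (hd : p ∣ Nat.card ↥(Q ⊔ T)) : p = q ∨ p = t := by
  have h1 := Cfsg.Agent.Lib.Helper65RelHall.card_sup_mul_card_inf T Q hTQ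
  have h2 : p ∣ Nat.card T * Nat.card Q := by
    rw [← h1, sup_comm]; exact Dvd.dvd.mul_right hd _
  haveI := Fact.mk hq
  haveI := Fact.mk ht
  obtain ⟨a, ha⟩ := hQ.exists_card_eq
  obtain ⟨b, hb⟩ := hT.exists_card_eq
  rw [ha, hb] at h2
  rcases (Nat.Prime.dvd_mul hp).mp h2 with h | h
  · exact Or.inr ((Nat.prime_dvd_prime_iff_eq hp ht).mp (hp.dvd_of_dvd_pow h))
  · exact Or.inl ((Nat.prime_dvd_prime_iff_eq hp hq).mp (hp.dvd_of_dvd_pow h))

/-- a `p`-subgroup of a Z-group is cyclic (ambient form). -/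
theorem cyclic_of_le_zgroup {s : ℕ} [Fact s.Prime] {C Z : Subgroup G} (hC : IsPGroup s C)
    (hCZ : C ≤ Z) (hZ : IsZGroup ↥Z) : IsCyclic ↥C := by
  have hZ' : IsZGroup ↥C :=
    IsZGroup.of_injective (f := Subgroup.inclusion hCZ) (Subgroup.inclusion_injective hCZ)
  have h1 : IsPGroup s (⊤ : Subgroup ↥C) := hC.to_subgroup ⊤
  have h2 := IsPGroup.isCyclic_of_isZGroup h1
  exact isCyclic_of_surjective (Subgroup.topEquiv : (⊤ : Subgroup ↥C) ≃* _)
    (Subgroup.topEquiv).surjective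

theorem cent_alpha_reg (hG : IsMinSimpleOddOrder G) {H : Subgroup G} (hH : IsCoatom H) {r q : ℕ}
    [Fact r.Prime] [Fact q.Prime] (hr : r ∈ tau1 H) (hq : q ∉ alpha H) (hqr : q ≠ r)
    {R Q : Subgroup G} (hRH : R ≤ H) (hR : Nat.card R = r) (hQ : IsPGroup q Q) (hQH : Q ≤ H)
    (hQ1 : Q ≠ ⊥) (hRQ : R ≤ normalizer (Q : Set G)) (hreg : Q ⊓ centralizer (R : Set G) = ⊥)
    (hnu : ¬ (normalizer (Q : Set G) ≤ H ∧
      ∀ L : Subgroup G, IsCoatom L → normalizer (Q : Set G) ≤ L → L = H)) :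
    alphaCore H ⊓ centralizer (Q : Set G) ⊓ centralizer (R : Set G) = ⊥ := by
  by_contra hD
  have hrp : r.Prime := Fact.out
  have hqp : q.Prime := Fact.out
  obtain ⟨⟨hα1, hα2, hα3⟩, -, -, -, -⟩ := Cfsg.Agent.S1405.result hG H hH
  have hsH : Group.IsSolvable H := sol hG hH.1
  have hrσ : r ∉ sigma H := hr.2.1
  have hrα : r ∉ alpha H := fun h => hrσ (Cfsg.Agent.Lib.Helper68BGC.alpha_sub_sigma hG hH h)
  have hRp : IsPGroup r R := IsPGroup.of_card (n := 1) (by rw [hR, pow_one])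
  -- an element of prime order
  set D : Subgroup G := alphaCore H ⊓ centralizer (Q : Set G) ⊓ centralizer (R : Set G) with hDdef
  have hDc : Nat.card D ≠ 1 := fun h => hD (Subgroup.card_eq_one.mp h)
  obtain ⟨s, hs, hsd⟩ := Nat.exists_prime_and_dvd hDc
  haveI := Fact.mk hs
  obtain ⟨y', hy'⟩ := exists_prime_orderOf_dvd_card' (G := D) s hsd
  obtain ⟨y, hyD⟩ := y'
  have hyo : orderOf y = s := by rw [← hy']; exact (Subgroup.orderOf_mk y hyD).symm
  have hyα : y ∈ alphaCore H := hyD.1.1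
  have hyQ : y ∈ centralizer (Q : Set G) := hyD.1.2
  have hyR : y ∈ centralizer (R : Set G) := hyD.2
  have hy1 : y ≠ 1 := by
    rintro rfl
    rw [orderOf_one] at hyo
    exact hs.one_lt.ne hyo
  have hsα : s ∈ alpha H :=
    hα2 s hs (hsd.trans (Subgroup.card_dvd_of_le (inf_le_left.trans inf_le_left)))
  have hqs : q ≠ s := fun e => hq (e ▸ hsα)
  have hrs : r ≠ s := fun e => hrα (e ▸ hsα)
  -- invariant Sylow subgroup
  have hAα : Q ⊔ R ≤ normalizer (alphaCore H : Set G) :=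
    (sup_le hQH hRH).trans (le_normalizer_piCoreOf _ _)
  have hcop : (Nat.card ↥(Q ⊔ R)).Coprime (Nat.card (alphaCore H)) := by
    apply Nat.coprime_of_dvd
    intro k hk hk1 hk2
    rcases prime_dvd_sup hqp hrp hQ hRp hRQ hk hk1 with rfl | rfl
    · exact hq (hα2 _ hk hk2)
    · exact hrα (hα2 _ hk hk2)
  have hyz : zpowers y ≤ alphaCore H := by rwa [zpowers_le]
  have hyzp : IsPGroup s (zpowers y) :=
    IsPGroup.of_card (n := 1) (by rw [Nat.card_zpowers, hyo, pow_one])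
  have hAy : Q ⊔ R ≤ normalizer ((zpowers y : Subgroup G) : Set G) := by
    have h0 : ∀ x : G, x * y = y * x → x ∈ centralizer ((zpowers y : Subgroup G) : Set G) := by
      intro x hx
      rw [Subgroup.mem_centralizer_iff]
      intro z hz
      obtain ⟨k, rfl⟩ := Subgroup.mem_zpowers_iff.mp hz
      exact ((Commute.zpow_right (show Commute x y from hx) k).eq).symm
    have h1 : Q ⊔ R ≤ centralizer ((zpowers y : Subgroup G) : Set G) := by
      refine sup_le ?_ ?_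
      · intro x hx
        exact h0 x ((Subgroup.mem_centralizer_iff.mp hyQ) x hx)
      · intro x hx
        exact h0 x ((Subgroup.mem_centralizer_iff.mp hyR) x hx)
    exact h1.trans (Cfsg.Agent.Lib.Helper27Basic.centralizer_le_normalizer' _)
  obtain ⟨P, hyP, hAP⟩ := Cfsg.Agent.S0025.result (Q ⊔ R) (alphaCore H) hAα hcop
    (Or.inr (Cfsg.Agent.Lib.Helper30SZ.solvable_of_le hsH hα1)) s (zpowers y) hyz hyzp hAy
  set U : Subgroup G := (P : Subgroup (alphaCore H)).map (alphaCore H).subtype with hU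
  have hUs : IsSyl s U (alphaCore H) := isSyl_of_sylow P
  have hyU : y ∈ U := hyP (mem_zpowers y)
  have hU1 : U ≠ ⊥ := fun h => hy1 (by rw [h] at hyU; exact Subgroup.mem_bot.mp hyU)
  have hs2 : s ≠ 2 := ne_two hG hUs.2.1 hU1
  -- `U ∩ C(R)` is cyclic
  have hcyc : IsCyclic ↥(U ⊓ centralizer (R : Set G)) := by
    obtain ⟨Tr, hTr, hRTr⟩ := exists_isSyl_ge hRH hRp
    have hα0 : alphaCore H ≠ ⊥ := fun h => hy1 (by rw [h] at hyα; exact Subgroup.mem_bot.mp hyα)
    obtain ⟨x, hx, hxo, hxZ, -⟩ := Cfsg.Agent.S1407.result hG H hH hα0 r hr.2.2.1 hrσ hTr.toSylow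
    have hxT : x ∈ Tr := by
      obtain ⟨x1, hx1, rfl⟩ := hx
      obtain ⟨x2, -, rfl⟩ := hx1
      have : ((x2 : ↥(hTr.toSylow : Subgroup H)) : H) ∈ (hTr.toSylow : Subgroup H) := x2.2
      have h2 : H.subtype ((hTr.toSylow : Subgroup H).subtype x2) ∈
          (hTr.toSylow : Subgroup H).map H.subtype := ⟨_, this, rfl⟩
      rw [hTr.map_toSylow] at h2
      exact h2
    have hR1 : R ≠ ⊥ := by
      intro h
      rw [h, Subgroup.card_bot] at hR
      exact hrp.one_lt.ne hR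
    have hr2 : r ≠ 2 := ne_two hG hRp hR1
    have hTc : IsCyclic ↥Tr :=
      Cfsg.Agent.Lib.Helper27BGa.cyclic_of_rank_one hr2 hTr.2.1 (rank_le_of_le hTr.1 hr.2.2.2.2)
    obtain ⟨g, hg⟩ := (isCyclic_of_prime_card hR).exists_generator
    have hgo : orderOf (g : G) = r := by
      rw [Subgroup.orderOf_coe, orderOf_eq_card_of_forall_mem_zpowers hg, hR]
    have hxR : x ∈ R := by
      have h1 := Cfsg.Agent.Lib.Helper68BG36dichotomy.mem_zpowers_of_cyclic (C := ↥Tr) hrp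
        (a := ⟨g, hRTr g.2⟩) (b := ⟨x, hxT⟩)
        (by rw [← hgo]; exact (Subgroup.orderOf_mk _ _))
        (by apply Subtype.ext; show x ^ r = 1; rw [← hxo]; exact pow_orderOf_eq_one x)
      obtain ⟨k, hk⟩ := Subgroup.mem_zpowers_iff.mp h1
      have hk' : (g : G) ^ k = x := congrArg Subtype.val hk
      rw [← hk']
      exact R.zpow_mem g.2 k
    refine cyclic_of_le_zgroup (hUs.2.1.to_le inf_le_left) ?_ hxZ
    refine inf_le_inf hUs.1 ?_
    exact Subgroup.centralizer_le (by simpa using hxR)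
  have hQU : Q ≤ centralizer (U : Set G) :=
    Cfsg.Agent.Lib.Helper24BGFrobCyc.cent_of_frob_cyclic hs2 hUs.2.1 (le_sup_left.trans hAP)
      (le_sup_right.trans hAP) hRQ (by rw [hR]; exact hrp)
      (coprime_of_isPGroup hQ (fun hd => hqs ((Nat.prime_dvd_prime_iff_eq hqp hs).mp hd)))
      (by rw [hR]; exact (Nat.coprime_primes hrp hs).mpr hrs) hreg hcyc hyU hy1 hyQ hyR
  -- rank
  have hUH : IsSyl s U H :=
    Cfsg.Agent.Lib.Helper31BGS.isSyl_of_not_dvd_relIndex hUs hα1 (hα3 s hs hsα)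
  have hU2 : ¬ PRankLE s 2 U := fun h => hsα.2 (Cfsg.Agent.Lib.Helper27BGa.rank_of_isSyl hUH h)
  have hU1' : ¬ PRankLE s 1 U := fun h => hU2 (rank_mono hs.pos h (by norm_num))
  have hUle : U ≤ alphaCore H ⊓ centralizer (Q : Set G) := by
    refine le_inf hUs.1 ?_
    intro u hu
    rw [Subgroup.mem_centralizer_iff]
    intro x hx
    exact ((Subgroup.mem_centralizer_iff.mp (hQU hx)) u hu).symm
  have hrk : ¬ RankLE 1 ↥(alphaCore H ⊓ centralizer (Q : Set G)) :=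
    fun h => hU1' (rank_le_of_le hUle (h s hs))
  have huniq := Cfsg.Agent.S1406.result hG H hH Q hQH (fun p hp hd => by
    obtain ⟨k, hk⟩ := hQ.exists_card_eq
    rw [hk] at hd
    have := (Nat.prime_dvd_prime_iff_eq hp hqp).mp (hp.dvd_of_dvd_pow hd)
    exact this ▸ hq) hrk
  have hNt : normalizer (Q : Set G) ≠ ⊤ := norm_ne_top hG hQ1 (pgroup_ne_top hG hQ)
  have hle : H ⊓ centralizer (Q : Set G) ≤ normalizer (Q : Set G) :=
    inf_le_right.trans (Cfsg.Agent.Lib.Helper27Basic.centralizer_le_normalizer' _)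
  apply hnu
  refine ⟨le_of_uniq hH inf_le_left huniq hle hNt, ?_⟩
  intro L hL hNL
  obtain ⟨M', -, hu⟩ := huniq
  exact (hu L ⟨hL, hle.trans hNL⟩).trans (hu H ⟨hH, inf_le_left⟩).symm

end Cfsg.Agent.Lib.Helper68BG13alphareg
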