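import Mathlib
import Cfsg.Agent.Lib.Helper30BG13Defs
import Cfsg.Agent.Lib.Helper30BG2
import Cfsg.Agent.Lib.Helper2BGd
import Cfsg.Agent.Lib.Helper17BG13commsup
import Cfsg.Agent.S1414

/-! PROJECT 13, piece `betafrat`. -/

set_option autoImplicit false
open Cfsg

namespace Cfsg.Agent.Lib.Helper68BG13betafrat

open Subgroup
open Cfsg.Agent.Lib.Helper30Trans
open Cfsg.Agent.Lib.Helper24BG
open Cfsg.Agent.Lib.Helper24BG2
open Cfsg.Agent.Lib.Helper68BGA
open Cfsg.Agent.Lib.Helper27BGa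
open Cfsg.Agent.Lib.Helper30BG
open Cfsg.Agent.Lib.Helper31BGS
open Cfsg.Agent.Lib.Helper37BG

universe u
variable {G : Type u} [Group G] [Finite G]

/-- generalisation of `Helper37BG.le_beta_sup_normalizer`: `Sg` any normal subgroup of `M` containing
`M_β` with a nilpotent Hall `β(M)'`-subgroup. -/
theorem le_beta_sup_normalizer_gen {M : Subgroup G} {q : ℕ}
    [hqp : Fact q.Prime] (hqβ : q ∉ beta M) {Sg H S : Subgroup G} (hSgM : Sg ≤ M)
    (hMSg : M ≤ normalizer (Sg : Set G)) (hBSg : piCoreOf (beta M) M ≤ Sg)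
    (hBh : IsPiHallOf (beta M) (piCoreOf (beta M) M) M)
    (hHh : IsPiHallOf {q | q.Prime ∧ q ∉ beta M} H Sg) (hHn : Group.IsNilpotent H)
    (hS : IsSyl q S Sg) :
    M ≤ piCoreOf (beta M) M ⊔ (M ⊓ normalizer (S : Set G)) := by
  set B := piCoreOf (beta M) M with hB
  obtain ⟨hBM, hBπ, hBi⟩ := hBh
  obtain ⟨hHSg, hHπ, hHi⟩ := hHh
  have hMB : M ≤ normalizer (B : Set G) := le_normalizer_piCoreOf _ _
  have hqB : ¬ q ∣ Nat.card B := fun h => hqβ (hBπ q hqp.out h)
  -- the Sylow `q`-subgroup of `H`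
  obtain ⟨P⟩ : Nonempty (Sylow q H) := inferInstance
  have h03 : Group.IsNilpotent H ↔ ∀ (p : ℕ), Fact (Nat.Prime p) → ∀ (P : Sylow p H),
      (P : Subgroup H).Normal := (Group.isNilpotent_of_finite_tfae (G := H)).out 0 3
  have hPn : (P : Subgroup H).Normal := h03.mp hHn q hqp P
  set Hq := (P : Subgroup H).map H.subtype with hHq
  have hHqH : Hq ≤ H := map_subtype_le _
  have hHqp : IsPGroup q Hq := P.2.map _
  have hHN : H ≤ normalizer (Hq : Set G) := Cfsg.Agent.Lib.Helper37Cores.le_normalizer_map_subtype _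
  set T := B ⊔ Hq with hT
  have hTSg : T ≤ Sg := sup_le hBSg (hHqH.trans hHSg)
  -- `Σ = B H`
  have hcopBH : (Nat.card H).Coprime (Nat.card B) :=
    Nat.coprime_of_dvd fun p hp h1 h2 => (hHπ p hp h1).2 (hBπ p hp h2)
  have hSgBH : Sg ≤ H ⊔ B := by
    have hle : H ⊔ B ≤ Sg := sup_le hHSg hBSg
    have hc := Cfsg.Agent.Lib.Helper65RelHall.card_sup_of_coprime' H B ((hHSg.trans hSgM).trans hMB) hcopBH
    have h1 := card_eq_mul_relIndex hHSg
    have h2 := card_eq_mul_relIndex hBSg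
    have h3 : (H.relIndex Sg).Coprime (B.relIndex Sg) := by
      apply Nat.coprime_of_dvd
      intro p hp hd1 hd2
      by_cases hpβ : p ∈ beta M
      · exact hBi p hp hpβ (hd2.trans ⟨_, (relIndex_mul_relIndex B Sg M hBSg hSgM).symm⟩)
      · exact hHi p hp ⟨hp, hpβ⟩ hd1
    have h4 : H.relIndex Sg ∣ Nat.card B := by
      apply h3.dvd_of_dvd_mul_right
      rw [← h2, h1]
      exact dvd_mul_left _ _
    have h5 : Nat.card Sg ≤ Nat.card (H ⊔ B : Subgroup G) := by
      rw [hc, h1]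
      exact Nat.mul_le_mul_left _ (Nat.le_of_dvd Nat.card_pos h4)
    exact (eq_of_le_of_card_ge hle h5).ge
  -- `T` is normal in `Σ`
  have hSgT : Sg ≤ normalizer (T : Set G) := by
    refine hSgBH.trans (sup_le ?_ ((le_sup_left : B ≤ T).trans le_normalizer))
    intro x hx
    exact le_normalizer_sup (hMB (hSgM (hHSg hx))) (hHN hx)
  have hqT : ¬ q ∣ T.relIndex Sg := by
    intro hd
    have h1 := relIndex_mul_relIndex Hq T Sg le_sup_right hTSg
    have h2 := relIndex_mul_relIndex Hq H Sg hHqH hHSg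
    have h3 : q ∣ Hq.relIndex H * H.relIndex Sg := by
      rw [h2, ← h1]; exact hd.mul_left _
    rcases (Nat.Prime.dvd_mul hqp.out).mp h3 with h | h
    · have h4 := P.not_dvd_index
      apply h4
      have : Hq.relIndex H = (P : Subgroup H).index := by
        show ((P : Subgroup H).map H.subtype).relIndex H = _
        rw [relIndex, subgroupOf, comap_map_eq_self_of_injective H.subtype_injective]
      rwa [this] at h
    · exact hHi q hqp.out ⟨hqp.out, hqβ⟩ h
  have hQT : ∀ Q : Subgroup G, IsPGroup q Q → Q ≤ Sg → Q ≤ T := fun Q hQ hQSg =>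
    le_of_coprime_relIndex hSgT hQSg (coprime_of_isPGroup hQ hqT)
  -- `T` is normal in `M`
  have hMT : M ≤ normalizer (T : Set G) := by
    intro m hm
    rw [mem_normalizer_iff_map_conj_eq]
    apply eq_of_le_of_card_ge _ (card_cj m T).symm.le
    show (B ⊔ Hq).map (MulAut.conj m).toMonoidHom ≤ T
    rw [Subgroup.map_sup]
    refine sup_le ?_ ?_
    · have := cj_eq_self_of_mem_normalizer (hMB hm)
      exact this.le.trans le_sup_left
    · exact hQT _ (hHqp.map _) (cj_le_of_mem_normalizer (hMSg hm) (hHqH.trans hHSg))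
  have hST : S ≤ T := hQT S hS.2.1 hS.1
  have hTM : T ≤ M := hTSg.trans hSgM
  have hS' : IsSyl q S T := hS.mono hST hTSg
  have h1 := frattini hMT hTM hS'
  refine h1.trans (sup_le ?_ le_sup_right)
  -- `T = B S`
  have hc1 := Cfsg.Agent.Lib.Helper65RelHall.card_sup_of_coprime' S B ((hS.1.trans hSgM).trans hMB)
    (coprime_of_isPGroup hS.2.1 hqB)
  have hc2 := Cfsg.Agent.Lib.Helper65RelHall.card_sup_of_coprime' Hq B
    (((hHqH.trans hHSg).trans hSgM).trans hMB) (coprime_of_isPGroup hHqp hqB)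
  obtain ⟨g, -, hg⟩ := exists_cj_le hS' hHqp (le_sup_right : Hq ≤ T)
  have hc3 : Nat.card Hq ≤ Nat.card S := by
    rw [← card_cj g Hq]; exact card_le_of_le hg
  have hTeq : S ⊔ B = T := by
    apply eq_of_le_of_card_ge (sup_le hST le_sup_left)
    rw [hc1, hT, sup_comm, hc2]
    exact Nat.mul_le_mul_right _ hc3
  rw [← hTeq]
  exact sup_le ((le_inf (hS.1.trans hSgM) le_normalizer).trans le_sup_right) le_sup_left

/-- `M_β ≤ M'`. -/
theorem beta_core_le_derived (hG : IsMinSimpleOddOrder G) {M : Subgroup G} (hM : IsCoatom M) :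
    piCoreOf (beta M) M ≤ ⁅M, M⁆ := by
  apply Cfsg.Agent.Lib.Helper30Gen.le_of_forall_sylow_le
  intro p hp
  obtain ⟨P⟩ : Nonempty (Sylow p (piCoreOf (beta M) M)) := inferInstance
  refine ⟨P, ?_⟩
  have hPs := isSyl_of_sylow P
  by_cases h1 : (P : Subgroup (piCoreOf (beta M) M)).map (piCoreOf (beta M) M).subtype = ⊥
  · rw [h1]; exact bot_le
  · have hd : p ∣ Nat.card (piCoreOf (beta M) M) := dvd_card_of_pgroup hPs.2.1 h1 hPs.1
    have hpβ : p ∈ beta M := card_piCoreOf _ _ p hp.out hd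
    obtain ⟨S, hS, hle⟩ := exists_isSyl_ge (hPs.1.trans (piCoreOf_le _ _)) hPs.2.1
    exact hle.trans (Cfsg.Agent.Lib.Helper2BGb.syl_le_derived hG hM
      (Cfsg.Agent.Lib.Helper37BG.beta_subset_sigma hG hM hpβ) hS)

/-- `H = H_β N_H(Y)` for a suitable Sylow `q`-subgroup `Y` of `H'`, `q ∉ β(H)`. -/
theorem exists_le_beta_sup_normalizer (hG : IsMinSimpleOddOrder G) {H : Subgroup G}
    (hH : IsCoatom H) {q : ℕ} [Fact q.Prime] (hqβ : q ∉ beta H) :
    ∃ Y : Subgroup G, IsSyl q Y ⁅H, H⁆ ∧ H ≤ piCoreOf (beta H) H ⊔ (H ⊓ normalizer (Y : Set G)) := by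
  have h14 := Cfsg.Agent.S1414.result hG H hH
  obtain ⟨K, hK, hKn⟩ := h14.2.2.1
  obtain ⟨Y, hY, -⟩ := exists_isSyl_ge (p := q) (bot_le : (⊥ : Subgroup G) ≤ ⁅H, H⁆) IsPGroup.of_bot
  exact ⟨Y, hY, le_beta_sup_normalizer_gen hqβ (commutator_le_self H)
    (Cfsg.Agent.Lib.Helper2BGd.le_normalizer_derived H) (beta_core_le_derived hG hH) h14.1 hK hKn hY⟩

theorem dvd_derived_normalizer (hG : IsMinSimpleOddOrder G) {H : Subgroup G} (hH : IsCoatom H)
    {p q : ℕ} [Fact p.Prime] [Fact q.Prime] (hp : p ∈ sigma H) (hpβ : p ∉ beta H)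
    (hqβ : q ∉ beta H) (hq : q ∣ Nat.card ↥⁅H, H⁆) :
    ∃ Y : Subgroup G, IsPGroup q Y ∧ Y ≠ ⊥ ∧
      p ∣ Nat.card ↥⁅normalizer (Y : Set G), normalizer (Y : Set G)⁆ := by
  have hpp : p.Prime := Fact.out
  obtain ⟨Y, hY, hle⟩ := exists_le_beta_sup_normalizer hG hH hqβ
  refine ⟨Y, hY.2.1, ?_, ?_⟩
  · rintro rfl
    -- a trivial Sylow subgroup
    have h1 := hY.toSylow.card_eq_multiplicity
    have h2 : Nat.card (hY.toSylow : Subgroup ↥⁅H, H⁆) = 1 := by
      show Nat.card ((⊥ : Subgroup G).subgroupOf ⁅H, H⁆) = 1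
      rw [Subgroup.bot_subgroupOf, Subgroup.card_bot]
    rw [h2] at h1
    have h3 : (Nat.card ↥⁅H, H⁆).factorization q ≠ 0 := by
      have := (Nat.Prime.dvd_iff_one_le_factorization (Fact.out : q.Prime) Nat.card_pos.ne').mp hq
      omega
    have h4 : 1 < q ^ (Nat.card ↥⁅H, H⁆).factorization q :=
      Nat.one_lt_pow h3 (Fact.out : q.Prime).one_lt
    omega
  · -- `p ∣ |H'|`
    obtain ⟨S, hS, -⟩ := exists_isSyl_ge (p := p) (bot_le : (⊥ : Subgroup G) ≤ H) IsPGroup.of_bot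
    have hSD : S ≤ ⁅H, H⁆ := Cfsg.Agent.Lib.Helper2BGb.syl_le_derived hG hH hp hS
    have hS1 : S ≠ ⊥ := by
      rintro rfl
      have h1 := hS.toSylow.card_eq_multiplicity
      have h2 : Nat.card (hS.toSylow : Subgroup ↥H) = 1 := by
        show Nat.card ((⊥ : Subgroup G).subgroupOf H) = 1
        rw [Subgroup.bot_subgroupOf, Subgroup.card_bot]
      rw [h2] at h1
      have h3 : (Nat.card ↥H).factorization p ≠ 0 := by
        have := (Nat.Prime.dvd_iff_one_le_factorization hpp Nat.card_pos.ne').mp hp.2.1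
        omega
      have h4 : 1 < p ^ (Nat.card ↥H).factorization p := Nat.one_lt_pow h3 hpp.one_lt
      omega
    have hpD : p ∣ Nat.card ↥⁅H, H⁆ := dvd_card_of_pgroup hS.2.1 hS1 hSD
    have hpB : ¬ p ∣ Nat.card (piCoreOf (beta H) H) := fun hd => hpβ (card_piCoreOf _ _ p hpp hd)
    have h1 := Cfsg.Agent.Lib.Helper17BG13commsup.dvd_card_commutator
      (K := H) (B := piCoreOf (beta H) H) (D := H ⊓ normalizer (Y : Set G))
      (le_normalizer_piCoreOf _ _) hle inf_le_left hpp hpD hpB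
    exact h1.trans (card_dvd_of_le (commutator_mono inf_le_right inf_le_right))

end Cfsg.Agent.Lib.Helper68BG13betafrat
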