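import Mathlib
import Cfsg.Agent.Lib.Helper30BG13B
import Cfsg.Agent.Lib.Helper37BGPartB
import Cfsg.Agent.Lib.Helper38BG13primeclass
import Cfsg.Agent.Lib.Helper38BG13alphacent
import Cfsg.Agent.Lib.Helper68BG13alphareg
import Cfsg.Agent.Lib.Helper68BG13betafrat
import Cfsg.Agent.Lib.Helper17BG13dvdder
import Cfsg.Agent.Lib.Helper14BG13qtau2
import Cfsg.Agent.Lib.Helper11BG13complnorm
import Cfsg.Agent.S0024
import Cfsg.Agent.S0027
import Cfsg.Agent.S0055
import Cfsg.Agent.S1417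
import Cfsg.Agent.S1422
import Cfsg.Agent.Lib.Helper24BGAsym

/-!
B-G 13.7 (assembly of the pieces of PROJECT 13).
-/

set_option autoImplicit false

namespace Cfsg.Agent.Lib.Helper30BG13C

open Cfsg Subgroup
open Cfsg.Agent.Lib.Helper30Trans Cfsg.Agent.Lib.Helper24BG Cfsg.Agent.Lib.Helper30BG13Defs
open Cfsg.Agent.Lib.Helper37BGPartB Cfsg.Agent.Lib.Helper38BG13primeclass
open Cfsg.Agent.Lib.Helper38BG13classify Cfsg.Agent.Lib.Helper38BG13alphacent
open Cfsg.Agent.Lib.Helper68BG13alphareg Cfsg.Agent.Lib.Helper68BG13betafrat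
open Cfsg.Agent.Lib.Helper17BG13dvdder Cfsg.Agent.Lib.Helper14BG13qtau2
open Cfsg.Agent.Lib.Helper11BG13complnorm Cfsg.Agent.Lib.Helper14BG13cfgtau2
open scoped commutatorElement

variable {G : Type*} [Group G] [Finite G]

omit [Finite G] in
theorem nc_symm {M H : Subgroup G} (nc : ∀ g : G, H ≠ cj g M) : ∀ g : G, cj g H ≠ M := by
  intro g hg
  apply nc g⁻¹
  rw [← hg]
  ext x
  simp only [cj, mem_map, MulEquiv.coe_toMonoidHom, MulAut.conj_apply]
  constructor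
  · intro hx
    exact ⟨g * x * g⁻¹, ⟨x, hx, rfl⟩, by group⟩
  · rintro ⟨_, ⟨y, hy, rfl⟩, rfl⟩
    have : g⁻¹ * (g * y * g⁻¹) * g⁻¹⁻¹ = y := by group
    rw [this]
    exact hy

omit [Finite G] in
theorem nc_ne {M H : Subgroup G} (nc : ∀ g : G, H ≠ cj g M) : H ≠ M := by
  intro h
  apply nc 1
  rw [h]
  ext x
  simp [cj]

theorem dvd_card_of_pgroup_ne_bot {q : ℕ} [Fact q.Prime] {Q : Subgroup G} (hQ : IsPGroup q Q)
    (hQ1 : Q ≠ ⊥) : q ∣ Nat.card Q := by
  obtain ⟨n, hn⟩ := IsPGroup.iff_card.mp hQ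
  have hn0 : n ≠ 0 := by
    rintro rfl
    rw [pow_zero] at hn
    exact hQ1 (Subgroup.card_eq_one.mp hn)
  rw [hn]
  exact dvd_pow_self q hn0

omit [Finite G] in
theorem comm_le_left {D T : Subgroup G} (h : T ≤ normalizer (D : Set G)) : ⁅D, T⁆ ≤ D := by
  rw [commutator_le]
  intro d hd t ht
  have h1 : t * d⁻¹ * t⁻¹ ∈ D := (mem_normalizer_iff.mp (h ht) d⁻¹).mp (inv_mem hd)
  have h2 : ⁅d, t⁆ = d * (t * d⁻¹ * t⁻¹) := by
    rw [commutatorElement_def]
    group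
  rw [h2]
  exact mul_mem hd h1

omit [Finite G] in
theorem le_normalizer_comm {D T : Subgroup G} (h : T ≤ normalizer (D : Set G)) :
    T ≤ normalizer ((⁅D, T⁆ : Subgroup G) : Set G) := by
  intro t ht
  have key : ∀ s ∈ T, ∀ y ∈ ⁅D, T⁆, s * y * s⁻¹ ∈ ⁅D, T⁆ := by
    intro s hs y hy
    have h1 : (⁅D, T⁆).map (MulAut.conj s).toMonoidHom ≤ ⁅D, T⁆ := by
      rw [map_commutator]
      apply commutator_mono
      · rintro _ ⟨d, hd, rfl⟩
        exact (mem_normalizer_iff.mp (h hs) d).mp hd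
      · rintro _ ⟨u, hu, rfl⟩
        exact mul_mem (mul_mem hs hu) (inv_mem hs)
    exact h1 ⟨y, hy, rfl⟩
  rw [mem_normalizer_iff]
  intro y
  constructor
  · exact key t ht y
  · intro hy
    have := key t⁻¹ (inv_mem ht) _ hy
    have e : t⁻¹ * (t * y * t⁻¹) * t⁻¹⁻¹ = y := by group
    rwa [e] at this

theorem isSolvable_of_card_prime {T : Subgroup G} (h : (Nat.card T).Prime) :
    Group.IsSolvable T := by
  have : Fact (Nat.card T).Prime := ⟨h⟩
  have : IsCyclic T := isCyclic_of_prime_card rfl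
  let _ : CommGroup T := IsCyclic.commGroup
  infer_instance

section
variable {M P R Q : Subgroup G} {p r q : ℕ}

theorem Cex.q_sigma (hG : IsMinSimpleOddOrder G) (h : Cex M p r q P R Q) : q ∈ sigma M := by
  have : Fact q.Prime := ⟨h.hq⟩
  exact Cfsg.Agent.Lib.Helper30BG2.card_sigmaCore hG h.hM q h.hq
    ((dvd_card_of_pgroup_ne_bot h.hQ h.hQ1).trans (Subgroup.card_dvd_of_le h.hQM))

omit [Finite G] in
theorem Cex.P_le_cent (h : Cex M p r q P R Q) : P ≤ centralizer (Q : Set G) :=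
  le_centralizer_iff.mp h.hQP

theorem Cex.cfg (hG : IsMinSimpleOddOrder G) (h : Cex M p r q P R Q) {H : Subgroup G}
    (hH : IsCoatom H) (hNP : normalizer (P : Set G) ≤ H) : Cfg M H r q R Q := by
  have : Fact p.Prime := ⟨h.hp.1⟩
  have : Fact r.Prime := ⟨h.hr⟩
  have hCH : centralizer (P : Set G) ≤ H := (centralizer_le_normalizer _).trans hNP
  exact
    { hM := h.hM, hH := hH
      nc := not_conj_of_rank_one hG h.hM h.hp.2.1 h.hp.2.2.2.2
        (Cfsg.Agent.Lib.Helper30BG2.isPGroup_of_card_prime h.hP)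
        (Cfsg.Agent.Lib.Helper30BG2.ne_bot_of_card_prime h.hP) hNP
      ht := h.hr, hq := h.hq, htM := h.hrM
      hT := Cfsg.Agent.Lib.Helper30BG2.isPGroup_of_card_prime h.hR
      hTM := h.hRM, hTH := h.hRP.trans hCH, hQ := h.hQ, hQ1 := h.hQ1, hQM := h.hQM
      hQH := h.hQP.trans hCH, hTQ := h.hRQ, hcomm := h.hcomm }

theorem Cex.main (hG : IsMinSimpleOddOrder G) (h : Cex M p r q P R Q) {H : Subgroup G}
    (hH : IsCoatom H) (hNP : normalizer (P : Set G) ≤ H) :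
    r ∈ tau1 H ∧ p ∈ sigma H ∧ q ∉ tau2 H ∧ p ∈ alpha H := by
  have hpF : Fact p.Prime := ⟨h.hp.1⟩
  have hrF : Fact r.Prime := ⟨h.hr⟩
  have hqF : Fact q.Prime := ⟨h.hq⟩
  have hc := Cex.cfg hG h hH hNP
  have hPp : IsPGroup p P := Cfsg.Agent.Lib.Helper30BG2.isPGroup_of_card_prime h.hP
  have hP1 : P ≠ ⊥ := Cfsg.Agent.Lib.Helper30BG2.ne_bot_of_card_prime h.hP
  have hPH : P ≤ H := le_normalizer.trans hNP
  have hr1 : r ∈ tau1 H := Cfsg.Agent.Lib.Helper30BG13B.Cfg.tau1 hG hc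
  have hpσ : p ∈ sigma H := by
    rcases prime_class hG hH hPp hP1 hNP with h1 | h1
    · exact h1
    · exact (Cfg.no_tau2 hG hc hr1.2.1 h1 h.hp.2.1 hPp hP1 h.hPM
        ((Cex.P_le_cent h).trans (centralizer_le_normalizer _))).elim
  have hq2 : q ∉ tau2 H := Cex.q_not_tau2 hG h hH (nc_ne hc.nc) hPH hc.hQH hpσ
  refine ⟨hr1, hpσ, hq2, ?_⟩
  by_contra hα
  have hpi : ¬ IsIdealPrime p G := fun hi => hα (alpha_of_ideal_sigma hG hH hpσ hi)
  have hpβ : p ∉ beta H := fun hb => hpi hb.2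
  have hqσ := Cex.q_sigma hG h
  have hqβ : q ∉ beta H := fun hb =>
    Cfsg.Agent.Lib.Helper37BG.sigma_beta_disjoint hG h.hM hH hc.nc hqσ hb
  have hQder : Q ≤ ⁅H, H⁆ := by
    rw [← h.hcomm]
    exact commutator_mono hc.hQH hc.hTH
  have hqd : q ∣ Nat.card ↥⁅H, H⁆ :=
    (dvd_card_of_pgroup_ne_bot h.hQ h.hQ1).trans (Subgroup.card_dvd_of_le hQder)
  obtain ⟨Y, hY, hY1, hd⟩ := dvd_derived_normalizer hG hH hpσ hpβ hqβ hqd
  rcases dvd_derived_of_normalizer hG h.hM hqσ hpi hY hY1 hd with h1 | ⟨Ms, hMs, hq2s, hps⟩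
  · exact h.hp.2.2.2.1 h1
  · obtain ⟨A, hAM, hAe, hA2⟩ := Cfsg.Agent.Lib.Helper31BGS.exists_sq hq2s.2.2.2
    have hnil := (Cfsg.Agent.S1417.result hG Ms hMs q hq2s A ⟨hAM, hAe, hA2⟩).1
    by_cases hex : ∃ g : G, cj g Ms = H
    · obtain ⟨g, hg⟩ := hex
      apply hq2
      rw [← hg, tau2_cj]
      exact hq2s
    · push Not at hex
      exact ((Cfsg.Agent.Lib.Helper5BGDisjoint.sigma_disjoint hG hMs hH hex).2.2 hnil).1 p hps hpσ

theorem Cex.sylow (hG : IsMinSimpleOddOrder G) (h : Cex M p r q P R Q) {H : Subgroup G}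
    (hH : IsCoatom H) (hNP : normalizer (P : Set G) ≤ H) :
    q ∈ sigma H ∧ ∃ S : Subgroup G, IsSyl q S ⊤ ∧ Q ≤ S ∧ S ≤ M ∧ S ≤ H ∧
      S ≤ centralizer (P : Set G) := by
  have hpF : Fact p.Prime := ⟨h.hp.1⟩
  have hrF : Fact r.Prime := ⟨h.hr⟩
  have hqF : Fact q.Prime := ⟨h.hq⟩
  have hc := Cex.cfg hG h hH hNP
  obtain ⟨hr1, hpσ, hq2, hpα⟩ := Cex.main hG h hH hNP
  have hPp : IsPGroup p P := Cfsg.Agent.Lib.Helper30BG2.isPGroup_of_card_prime h.hP
  have hP1 : P ≠ ⊥ := Cfsg.Agent.Lib.Helper30BG2.ne_bot_of_card_prime h.hP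
  have hPH : P ≤ H := le_normalizer.trans hNP
  have hqσ := Cex.q_sigma hG h
  have hne : H ≠ M := nc_ne hc.nc
  have hdis := Cfsg.Agent.Lib.Helper5BGDisjoint.sigma_disjoint hG hH h.hM (nc_symm hc.nc)
  have hqα : q ∉ alpha H := fun ha => hdis.1 q ha hqσ
  have hqr : q ≠ r := fun e => h.hrM (e ▸ hqσ)
  have hPα : P ≤ alphaCore H := pgroup_le_alphaCore hG hH hpα hPp hPH
  have huniq : normalizer (Q : Set G) ≤ H ∧
      ∀ L : Subgroup G, IsCoatom L → normalizer (Q : Set G) ≤ L → L = H := by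
    by_contra hnu
    have h1 := cent_alpha_reg hG hH hr1 hqα hqr hc.hTH h.hR h.hQ hc.hQH h.hQ1 h.hRQ h.hreg hnu
    apply hP1
    rw [eq_bot_iff, ← h1]
    exact le_inf (le_inf hPα (Cex.P_le_cent h)) (le_centralizer_iff.mp h.hRP)
  have hQM : Q ≤ M := h.hQM.trans (Cfsg.Agent.Lib.Helper30BG2.sigmaCore_le M)
  obtain ⟨S, hS, hQS⟩ := exists_isSyl_ge (le_inf hQM hc.hQH) h.hQ
  obtain ⟨-, hNS, hSH⟩ := Cfsg.Agent.Lib.Helper30BG.emb_abc hG h.hM hqσ h.hQ h.hQ1 hQM hH hne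
    huniq.1 hS hQS
  have hqH : q ∈ sigma H := by
    by_contra hqs
    obtain ⟨-, -, h3, -⟩ := Cfsg.Agent.Lib.Helper37BG.emb_ef hG h.hM hqσ h.hQ h.hQ1 hQM hH hne
      huniq.1 hqs
    apply hP1
    rw [eq_bot_iff, ← h3]
    exact le_inf (Cfsg.Agent.Lib.Helper30BG2.pgroup_le_sigmaCore hG hH hpσ hPp hPH) h.hPM
  refine ⟨hqH, S, (Cfsg.Agent.Lib.Helper21BGExcbasic.sigma_sylow hG hH hqH hSH).2.1, hQS,
    hS.1.trans inf_le_left, hS.1.trans inf_le_right, ?_⟩
  have h1 := alpha_inf_centralizes hG h.hM hH hc.nc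
  have h2 : P ≤ centralizer ((sigmaCore M ⊓ H : Subgroup G) : Set G) :=
    (le_inf hPα h.hPM).trans h1
  have h3 : S ≤ sigmaCore M ⊓ H :=
    le_inf (Cfsg.Agent.Lib.Helper30BG2.pgroup_le_sigmaCore hG h.hM hqσ hS.2.1
      (hS.1.trans inf_le_left)) (hS.1.trans inf_le_right)
  exact h3.trans (le_centralizer_iff.mp h2)

/-- an `R`-invariant Sylow subgroup is centralized by `R` as soon as one Sylow subgroup is. -/
theorem le_centralizer_of_sylow {K R S S' : Subgroup G} (hRK : R ≤ normalizer (K : Set G))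
    (hcop : (Nat.card R).Coprime (Nat.card K)) (hsolv : Group.IsSolvable K) [hq : Fact q.Prime]
    (hS : IsSyl q S K) (hS' : IsSyl q S' K) (hRS : R ≤ normalizer (S : Set G))
    (hS'R : S' ≤ centralizer (R : Set G)) : S ≤ centralizer (R : Set G) := by
  have h1 : R ≤ normalizer ((((hS'.toSylow : Sylow q K) : Subgroup K).map K.subtype : Subgroup G) : Set G) := by
    rw [hS'.map_toSylow]
    exact (le_centralizer_iff.mp hS'R).trans (centralizer_le_normalizer _)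
  have h2 : R ≤ normalizer ((((hS.toSylow : Sylow q K) : Subgroup K).map K.subtype : Subgroup G) : Set G) := by
    rw [hS.map_toSylow]
    exact hRS
  obtain ⟨c, hc, hcc⟩ := Cfsg.Agent.S0024.result R K hRK hcop (Or.inr hsolv) q hS'.toSylow
    hS.toSylow h1 h2
  intro x hx
  have hxK : x ∈ K := hS.1 hx
  have h3 : (⟨x, hxK⟩ : K) ∈ ((hS.toSylow : Sylow q K) : Subgroup K) := by
    show (⟨x, hxK⟩ : K) ∈ S.subgroupOf K
    exact mem_subgroupOf.mpr hx
  rw [← hcc, Sylow.pointwise_smul_def, Subgroup.mem_pointwise_smul_iff_inv_smul_mem] at h3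
  have h4 : ((MulAut.conj c)⁻¹ • (⟨x, hxK⟩ : K) : K) ∈ S'.subgroupOf K := h3
  rw [mem_subgroupOf] at h4
  have h5 : (((MulAut.conj c)⁻¹ • (⟨x, hxK⟩ : K) : K) : G) = (c : G)⁻¹ * x * c := by
    simp [MulAut.smul_def]
  rw [h5] at h4
  have h6 := hS'R h4
  have h7 : x = (c : G) * ((c : G)⁻¹ * x * c) * (c : G)⁻¹ := by group
  rw [h7]
  exact mul_mem (mul_mem hc h6) (inv_mem hc)

theorem no_cex (hG : IsMinSimpleOddOrder G) (h : Cex M p r q P R Q) : False := by
  have hpF : Fact p.Prime := ⟨h.hp.1⟩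
  have hrF : Fact r.Prime := ⟨h.hr⟩
  have hqF : Fact q.Prime := ⟨h.hq⟩
  have hM := h.hM
  have hPp : IsPGroup p P := Cfsg.Agent.Lib.Helper30BG2.isPGroup_of_card_prime h.hP
  have hP1 : P ≠ ⊥ := Cfsg.Agent.Lib.Helper30BG2.ne_bot_of_card_prime h.hP
  obtain ⟨H, hH, hNP⟩ := exists_coatom (norm_ne_top hG hP1 (pgroup_ne_top hG hPp))
  have hc := Cex.cfg hG h hH hNP
  obtain ⟨hr1, hpσ, hq2, hpα⟩ := Cex.main hG h hH hNP
  obtain ⟨hqH, S, hS, hQS, hSM, hSH, hSP⟩ := Cex.sylow hG h hH hNP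
  have hqσ := Cex.q_sigma hG h
  have hne : H ≠ M := nc_ne hc.nc
  have hS1 : S ≠ ⊥ := fun e => h.hQ1 (eq_bot_iff.mpr (e ▸ hQS))
  have hSsM : IsSyl q S M := hS.mono hSM le_top
  have hSsH : IsSyl q S H := hS.mono hSH le_top
  have hN : normalizer (S : Set G) ≤ M :=
    (Cfsg.Agent.Lib.Helper21BGExcbasic.sigma_sylow hG hM hqσ hSsM).1
  have hSσ : S ≤ sigmaCore M := (Cfsg.Agent.Lib.Helper21BGExcbasic.sigma_sylow hG hM hqσ hSsM).2.2
  have hNH : normalizer (S : Set G) ≤ H :=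
    (Cfsg.Agent.Lib.Helper21BGExcbasic.sigma_sylow hG hH hqH hSsH).1
  have hnot : ¬ M ≤ normalizer (S : Set G) := by
    intro hle
    exact hne ((hM.le_iff.mp (hle.trans hNH)).resolve_left hH.1)
  have hab : IsMulCommutative S := by
    by_contra hna
    obtain ⟨L, -, hu⟩ := Cfsg.Agent.S1422.result hG q S hS.2.1 hna
    exact hne ((hu H ⟨hH, hSH⟩).trans (hu M ⟨hM, hSM⟩).symm)
  have hdisM := Cfsg.Agent.Lib.Helper5BGDisjoint.sigma_disjoint hG hM hH
    (fun g e => hc.nc g e.symm)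
  have hrk : PRankLE q 2 S := by
    have h1 : PRankLE q 2 M := by
      by_contra hn
      exact hdisM.1 q ⟨h.hq, hn⟩ hqH
    exact rank_le_of_le hSM h1
  have hqb : q ∉ beta M := fun hb => hdisM.1 q hb.1 hqH
  have hqbH : q ∉ beta H := fun hb =>
    Cfsg.Agent.Lib.Helper37BG.sigma_beta_disjoint hG hM hH hc.nc hqσ hb
  have hRN : R ≤ normalizer (S : Set G) :=
    (le_inf h.hRM hc.hTH).trans (inf_le_normalizer hG hM hH hc.nc hqσ hqH hS hSM hSH)
  have hSsσ : IsSyl q S (sigmaCore M) := hS.mono hSσ le_top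
  have hRfree : ∀ p' : ℕ, p'.Prime → p' ∣ Nat.card R → p' ∉ sigma M := by
    intro p' hp' hd
    rw [h.hR] at hd
    rw [(Nat.prime_dvd_prime_iff_eq hp' h.hr).mp hd]
    exact h.hrM
  obtain ⟨E, hE, hRE, hEN⟩ := exists_compl_normalizing hG hM hSsσ h.hRM hRN hRfree
  have hRS : ¬ R ≤ centralizer (S : Set G) := by
    intro hle
    apply h.hQ1
    rw [← h.hcomm, commutator_eq_bot_iff_le_centralizer]
    exact hQS.trans (le_centralizer_iff.mp hle)
  have hRpr : (Nat.card R).Prime := h.hR ▸ h.hr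
  have hrM1 : r ∈ tau1 M := by
    have := mem_tau1_of_not_cent hG hM hS hS1 hN hnot hrk hE hEN hRE hRpr hRS
    rwa [h.hR] at this
  have hσsolv : Group.IsSolvable (sigmaCore M) := by
    have := hG.2.2.2 M hM.1
    exact Group.isSolvable_of_isSolvable_injective
      (Subgroup.inclusion_injective (Cfsg.Agent.Lib.Helper30BG2.sigmaCore_le M))
  have hloc : ∀ R' : Subgroup G, R' ≤ E ⊓ centralizer (R : Set G) → (Nat.card R').Prime →
      S ⊓ centralizer (R : Set G) ≤ centralizer (R' : Set G) := by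
    intro R' hR' hR'pr
    by_contra hn
    have hr'F : Fact (Nat.card R').Prime := ⟨hR'pr⟩
    have hR'E : R' ≤ E := hR'.trans inf_le_left
    have hR'M : R' ≤ M := hR'E.trans hE.1
    have hR'R : R' ≤ centralizer (R : Set G) := hR'.trans inf_le_right
    have hr'σ : Nat.card R' ∉ sigma M :=
      Cfsg.Agent.Lib.Helper31BGS.not_mem_sigma_of_dvd_le_compl hG hM hE hR'E hR'pr dvd_rfl
    have hr'r : Nat.card R' ≠ r := by
      intro e
      have := eq_of_rank_one hrM1.2.2.2.2 h.hRM hR'M h.hR e hR'R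
      apply hn
      rw [this]
      exact inf_le_right
    set D : Subgroup G := S ⊓ centralizer (R : Set G) with hD
    have hDab : IsMulCommutative D := by
      exact le_centralizer_iff_isMulCommutative.mp
        (fun _ hx _ hy => setLike_mul_comm (s := S) (inf_le_left (a := S) hy) (inf_le_left (a := S) hx))
    have hR'D : R' ≤ normalizer (D : Set G) := by
      intro x hx
      have h1 : x ∈ normalizer (S : Set G) := hEN (hR'E hx)
      have h2 : x ∈ normalizer ((centralizer (R : Set G) : Subgroup G) : Set G) :=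
        le_normalizer (hR'R hx)
      rw [mem_normalizer_iff] at h1 h2 ⊢
      intro y
      rw [hD, mem_inf, mem_inf, h1 y, h2 y]
    have hDq : IsPGroup q D := hS.2.1.to_le inf_le_left
    have hcopD : (Nat.card R').Coprime (Nat.card D) := by
      apply Nat.Coprime.symm
      apply Cfsg.Agent.Lib.Helper37BG.coprime_of_isPGroup hDq
      intro hd
      apply hr'σ
      rw [← (Nat.prime_dvd_prime_iff_eq h.hq hR'pr).mp hd]
      exact hqσ
    have hQ'le : ⁅D, R'⁆ ≤ D := comm_le_left hR'D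
    have hcex : Cex M r (Nat.card R') q R R' ⁅D, R'⁆ :=
      { hM := hM, hp := hrM1, hPM := h.hRM, hP := h.hR, hr := hR'pr, hrM := hr'σ, hrp := hr'r
        hRM := hR'M, hR := rfl, hRP := hR'R, hq := h.hq, hQ := hDq.to_le hQ'le
        hQ1 := by
          intro e
          apply hn
          rw [commutator_eq_bot_iff_le_centralizer] at e
          exact e
        hQM := hQ'le.trans (inf_le_left.trans hSσ)
        hQP := hQ'le.trans inf_le_right
        hRQ := le_normalizer_comm hR'D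
        hcomm := Cfsg.Agent.S0027.result R' D hR'D hcopD (Or.inl (isSolvable_of_card_prime hR'pr))
        hreg := by
          have := (Cfsg.Agent.S0055.result R' D hR'D hcopD).1
          rw [eq_bot_iff, ← this]
          exact le_inf (le_inf (inf_le_left.trans hQ'le) inf_le_right) inf_le_left }
    have hR1 : R ≠ ⊥ := Cfsg.Agent.Lib.Helper30BG2.ne_bot_of_card_prime h.hR
    obtain ⟨H', hH', hNR⟩ := exists_coatom (norm_ne_top hG hR1 (pgroup_ne_top hG hc.hT))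
    obtain ⟨-, S', hS', -, hS'M, -, hS'R⟩ := Cex.sylow hG hcex hH' hNR
    have hS'σ : S' ≤ sigmaCore M :=
      (Cfsg.Agent.Lib.Helper21BGExcbasic.sigma_sylow hG hM hqσ (hS'.mono hS'M le_top)).2.2
    have hcopσ : (Nat.card R).Coprime (Nat.card (sigmaCore M)) := by
      rw [h.hR, Nat.Prime.coprime_iff_not_dvd h.hr]
      exact Cfsg.Agent.Lib.Helper31BGS.not_dvd_sigmaCore hG hM h.hr h.hrM
    have := le_centralizer_of_sylow
      (h.hRM.trans (Cfsg.Agent.Lib.Helper30BG2.le_normalizer_sigmaCore M)) hcopσ hσsolv hSsσ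
      (hS'.mono hS'σ le_top) hRN hS'R
    exact hRS (le_centralizer_iff.mp this)
  have hreg := regular_of_local hG hM hS hS1 hN hnot hab hrk hqb hE hEN hRE hRpr hRS hloc
  have hK : M ≤ piCoreOf (beta M) M ⊔ normalizer (S : Set G) :=
    (Cfsg.Agent.Lib.Helper37BG.le_beta_sup_normalizer hG hM hqσ hqb hSsM).trans
      (sup_le_sup_left inf_le_right _)
  have hKH : H ≤ piCoreOf (beta H) H ⊔ normalizer (S : Set G) :=
    (Cfsg.Agent.Lib.Helper37BG.le_beta_sup_normalizer hG hH hqH hqbH hSsH).trans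
      (sup_le_sup_left inf_le_right _)
  exact Cfsg.Agent.Lib.Helper24BGAsym.asym hG hM hH hne hS.2.1 hS1 (le_inf hN hNH) hK hKH hqb hqbH
    (fun s hs hs' => Cfsg.Agent.Lib.Helper37BG.sigma_beta_disjoint hG hM hH hc.nc
      (Cfsg.Agent.Lib.Helper37BG.beta_subset_sigma hG hM hs) hs')
    hrM1 hr1 hRN h.hR hreg

end

end Cfsg.Agent.Lib.Helper30BG13C
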