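import Mathlib
import Cfsg.Agent.Lib.Helper37BG
import Cfsg.Agent.Lib.Helper3AutOdd
import Cfsg.Agent.Lib.Helper2Coprime
import Cfsg.Agent.Lib.Helper30Gen
import Cfsg.Agent.Lib.Helper86ModGrp
import Cfsg.Agent.Lib.Helper70Hall
import Cfsg.Agent.Lib.Helper24BGAsym
import Cfsg.Agent.S1411
import Cfsg.Agent.S1415
import Cfsg.Agent.S1422
import Cfsg.Agent.S1427
import Cfsg.Agent.S1428

/-!
# helper37: Bender-Glauberman Theorem 13.9 (the sets sigma(M) partition the primes)

Reduction of a counterexample to the asymmetry lemma `Helper24BGAsym.asym` of helper24.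
-/

set_option autoImplicit false
open Cfsg

namespace Cfsg.Agent.Lib.Helper37BGPart

open Subgroup
open Cfsg.Agent.Lib.Helper30Trans
open Cfsg.Agent.Lib.Helper24BG
open Cfsg.Agent.Lib.Helper24BG2
open Cfsg.Agent.Lib.Helper68BGA
open Cfsg.Agent.Lib.Helper27BGa
open Cfsg.Agent.Lib.Helper30BG
open Cfsg.Agent.Lib.Helper31BGS
open Cfsg.Agent.Lib.Helper37BG

universe u
variable {G : Type u} [Group G] [Finite G]

/-- Hall subgroups of solvable subgroups, ambient form -/
theorem exists_hallOf {X : Subgroup G} (hs : Group.IsSolvable X) (π : Set ℕ) :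
    ∃ H : Subgroup G, IsPiHallOf π H X := by
  obtain ⟨H, h1, h2, -⟩ := Cfsg.Agent.Lib.Helper70Hall.exists_hall_set (G := X) π
  refine ⟨H.map X.subtype, map_subtype_le _, ?_, ?_⟩
  · intro p hp hd
    rw [card_map_of_injective X.subtype_injective] at hd
    exact h1 p hp hd
  · intro p hp hπ hd
    rw [relIndex, subgroupOf, comap_map_eq_self_of_injective X.subtype_injective] at hd
    exact h2 p hp hd hπ

theorem compl_inf {E A M N : Subgroup G} (h : IsComplIn E A M) (hEN : E ≤ N) (hNM : N ≤ M) :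
    IsComplIn E (A ⊓ N) N := by
  obtain ⟨h1, h2, h3, h4⟩ := h
  refine ⟨hEN, inf_le_right, ?_, ?_⟩
  · rw [eq_bot_iff, ← h3]
    exact le_inf inf_le_left (inf_le_right.trans inf_le_left)
  · intro n hn
    obtain ⟨e, he, a, ha, rfl⟩ := h4 n (hNM hn)
    refine ⟨e, he, a, ⟨ha, ?_⟩, rfl⟩
    have : a = e⁻¹ * (e * a) := by group
    rw [this]
    exact N.mul_mem (N.inv_mem (hEN he)) hn

theorem compl_cj {E A M : Subgroup G} (h : IsComplIn E A M) {m : G} (hm : m ∈ M)
    (hA : M ≤ normalizer (A : Set G)) : IsComplIn (cj m E) A M := by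
  obtain ⟨h1, h2, h3, h4⟩ := h
  have hcA : cj m A = A := cj_eq_self_of_mem_normalizer (hA hm)
  refine ⟨?_, h2, ?_, ?_⟩
  · intro x hx
    rw [mem_cj] at hx
    have := h1 hx
    have e : x = m * (m⁻¹ * x * m) * m⁻¹ := by group
    rw [e]
    exact M.mul_mem (M.mul_mem hm this) (M.inv_mem hm)
  · rw [eq_bot_iff]
    intro x hx
    obtain ⟨hx1, hx2⟩ := mem_inf.mp hx
    rw [mem_cj] at hx1
    have hx3 : m⁻¹ * x * m ∈ A := by
      rw [← hcA] at hx2; exact mem_cj.mp hx2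
    have h5 : m⁻¹ * x * m ∈ E ⊓ A := mem_inf.mpr ⟨hx1, hx3⟩
    rw [h3, mem_bot] at h5
    rw [mem_bot]
    have e : x = m * (m⁻¹ * x * m) * m⁻¹ := by group
    rw [e, h5]; group
  · intro y hy
    obtain ⟨e, he, a, ha, hea⟩ := h4 (m⁻¹ * y * m) (M.mul_mem (M.mul_mem (M.inv_mem hm) hy) hm)
    refine ⟨m * e * m⁻¹, conj_mem_cj he, m * a * m⁻¹, ?_, ?_⟩
    · rw [← hcA]; exact conj_mem_cj ha
    · have : y = m * (m⁻¹ * y * m) * m⁻¹ := by group
      rw [this, hea]; group

theorem mem_normalizer_of_cj_le {m : G} {S : Subgroup G} (h : cj m S ≤ S) :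
    m ∈ normalizer (S : Set G) := by
  apply Cfsg.Agent.Lib.Helper27BGa.mem_normalizer_of_cj_eq
  apply Subgroup.eq_of_le_of_card_ge h
  rw [card_cj]

theorem coprime_compl (hG : IsMinSimpleOddOrder G) {M : Subgroup G} (hM : IsCoatom M)
    {E : Subgroup G} (hE : IsComplIn E (sigmaCore M) M) :
    (Nat.card E).Coprime (Nat.card (sigmaCore M)) := by
  apply Nat.coprime_of_dvd
  intro k hk h1 h2
  exact not_mem_sigma_of_dvd_compl hG hM hE hk h1 (mem_sigma_of_dvd_sigmaCore hG hM hk h2)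

theorem prime_eq_of_dvd_card {q : ℕ} [hq : Fact q.Prime] {S : Subgroup G} (hS : IsPGroup q S)
    {p : ℕ} (hp : p.Prime) (hd : p ∣ Nat.card S) : p = q := by
  obtain ⟨n, hn⟩ := IsPGroup.iff_card.mp hS
  rw [hn] at hd
  exact (Nat.prime_dvd_prime_iff_eq hp hq.out).mp (hp.dvd_of_dvd_pow hd)

/-- `M_σ ∩ N(S) ≤ C(S)` for an abelian Sylow `q`-subgroup `S`, `q ∈ σ(M) \ β(M)`. -/
theorem sigmaCore_inf_normalizer_le (hG : IsMinSimpleOddOrder G) {M : Subgroup G} (hM : IsCoatom M)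
    {q : ℕ} [hq : Fact q.Prime] {S : Subgroup G} (hS : IsSyl q S M) (hS1 : S ≠ ⊥)
    (hN : normalizer (S : Set G) ≤ M) (hab : IsMulCommutative S) (hqb : q ∉ beta M) :
    sigmaCore M ⊓ normalizer (S : Set G) ≤ centralizer (S : Set G) := by
  have hqσ : q ∈ sigma M := mem_sigma_of_isSyl hS hS1 hN
  have hqd : q ∣ Nat.card M := dvd_card_of_pgroup hS.2.1 hS1 hS.1
  have h1414 := ((Cfsg.Agent.S1414.result hG M hM).2.2.2.2 q hq.out hqd hqb).2.1
  set A := sigmaCore M with hA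
  obtain ⟨Q, K, hKn, hKQ⟩ := h1414
  set Kq := K.map A.subtype with hKq
  have hSA : S ≤ A := le_sigmaCore hG hM hS.1
    (fun p hp hd => by rw [prime_eq_of_dvd_card hS.2.1 hp hd]; exact hqσ)
  have hKqA : Kq ≤ A := map_subtype_le _
  have hsub : Kq.subgroupOf A = K := by
    rw [hKq, subgroupOf, comap_map_eq_self_of_injective A.subtype_injective]
  have hAK : A ≤ normalizer (Kq : Set G) := by
    rw [← normal_subgroupOf_iff_le_normalizer hKqA, hsub]; exact hKn
  have hKc : Nat.card Kq = Nat.card K := card_map_of_injective A.subtype_injective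
  have hqK : ¬ q ∣ Nat.card Kq := by
    rw [hKc, ← hKQ.index_eq_card]
    exact Q.not_dvd_index
  have hcop : (Nat.card S).Coprime (Nat.card Kq) := coprime_of_isPGroup hS.2.1 hqK
  have hSylA : IsSyl q S A := hS.mono hSA (sigmaCore_le M)
  have hle : A ≤ Kq ⊔ S := by
    rw [← relIndex_eq_one]
    have h1 : (Kq ⊔ S).relIndex A ∣ Kq.relIndex A := relIndex_dvd_of_le_left A le_sup_left
    have h2 : (Kq ⊔ S).relIndex A ∣ S.relIndex A := relIndex_dvd_of_le_left A le_sup_right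
    have h3 : Kq.relIndex A = Nat.card Q := by
      rw [relIndex, hsub]; exact hKQ.symm.index_eq_card
    obtain ⟨n, hn⟩ := IsPGroup.iff_card.mp Q.2
    rw [h3, hn] at h1
    obtain ⟨k, -, hk⟩ := (Nat.dvd_prime_pow hq.out).mp h1
    rcases Nat.eq_zero_or_pos k with rfl | hk0
    · simpa using hk
    · exfalso
      apply IsSyl.not_dvd_relIndex hSylA
      refine dvd_trans ?_ h2
      rw [hk]
      exact dvd_pow_self q hk0.ne'
  intro x hx
  obtain ⟨hxA, hxN⟩ := mem_inf.mp hx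
  obtain ⟨k, hk, s, hs, rfl⟩ := (Cfsg.Agent.Lib.Helper30SZ.mem_sup_iff (hSA.trans hAK)).mp (hle hxA)
  have hkN : k ∈ normalizer (S : Set G) := by
    have : k = k * s * s⁻¹ := by group
    rw [this]
    exact mul_mem hxN (inv_mem (le_normalizer hs))
  have hkC : k ∈ centralizer (S : Set G) := by
    rw [mem_centralizer_iff]
    intro t ht
    have ht' : t ∈ S := ht
    have h1 : k * t * k⁻¹ * t⁻¹ ∈ S :=
      S.mul_mem ((mem_normalizer_iff.mp hkN t).mp ht') (S.inv_mem ht')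
    have h2 : k * t * k⁻¹ * t⁻¹ ∈ Kq := by
      have e : k * t * k⁻¹ * t⁻¹ = k * (t * k⁻¹ * t⁻¹) := by group
      rw [e]
      exact Kq.mul_mem hk ((mem_normalizer_iff.mp (hAK (hSA ht')) k⁻¹).mp (Kq.inv_mem hk))
    have h3 := Cfsg.Agent.Lib.Helper30SZ.eq_one_of_mem_of_mem hcop h2 h1
    have e : t * k = (k * t * k⁻¹ * t⁻¹)⁻¹ * (k * t) := by group
    rw [e, h3]; group
  have hsC : s ∈ centralizer (S : Set G) := by
    rw [mem_centralizer_iff]
    intro t ht
    have := hab.is_comm.comm ⟨t, ht⟩ ⟨s, hs⟩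
    exact congrArg Subtype.val this
  exact mul_mem hkC hsC

/-- a complement of `M_σ` inside `N(S)` -/
theorem exists_compl_le_normalizer (hG : IsMinSimpleOddOrder G) {M : Subgroup G} (hM : IsCoatom M)
    {S : Subgroup G} (hN : normalizer (S : Set G) ≤ M)
    (hK : M ≤ piCoreOf (beta M) M ⊔ normalizer (S : Set G)) :
    ∃ E : Subgroup G, E ≤ normalizer (S : Set G) ∧ IsComplIn E (sigmaCore M) M := by
  obtain ⟨E0, hE0, -⟩ := exists_compl_ge hG hM (X := ⊥) bot_le (by
    intro p hp hd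
    rw [card_bot] at hd
    exact absurd (Nat.dvd_one.mp hd) hp.one_lt.ne')
  have hc := coprime_compl hG hM hE0
  obtain ⟨m, hm, hmE⟩ := conj_into (X := M) (B := sigmaCore M) (D := normalizer (S : Set G)) (Y := E0)
    (sol hG hM.1) (sigmaCore_le M) (le_normalizer_sigmaCore M) hN
    (hK.trans (sup_le_sup_right (Cfsg.Agent.Lib.Helper2BGd.beta_core_le_sigmaCore hG hM) _))
    (by rw [relIndex_compl' hE0]; exact hc) hE0.1 hc
  exact ⟨cj m E0, hmE, compl_cj hE0 hm (le_normalizer_sigmaCore M)⟩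

/-- `τ₂(M) = ∅` if a Sylow `q`-subgroup, `q ∈ σ(M)`, is not normal in `M` -/
theorem tau2_empty (hG : IsMinSimpleOddOrder G) {M : Subgroup G} (hM : IsCoatom M)
    {q : ℕ} [hq : Fact q.Prime] {S : Subgroup G} (hS : IsSyl q S M) (hS1 : S ≠ ⊥)
    (hN : normalizer (S : Set G) ≤ M) (hnot : ¬ M ≤ normalizer (S : Set G)) {p : ℕ}
    (hp : p ∈ tau2 M) : False := by
  have hqσ : q ∈ sigma M := mem_sigma_of_isSyl hS hS1 hN
  have := Fact.mk hp.1
  obtain ⟨A, hAM, hA, hAc⟩ := exists_sq hp.2.2.2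
  have hnil := (Cfsg.Agent.S1417.result hG M hM p hp A ⟨hAM, hA, hAc⟩).1
  set B := sigmaCore M with hB
  have hSB : S ≤ B := le_sigmaCore hG hM hS.1
    (fun p hp hd => by rw [prime_eq_of_dvd_card hS.2.1 hp hd]; exact hqσ)
  have hSylB : IsSyl q S B := hS.mono hSB (sigmaCore_le M)
  have hBn : B ≤ normalizer (S : Set G) := by
    have h3 : ∀ (p : ℕ) (_ : Fact p.Prime) (P : Sylow p B), (P : Subgroup B).Normal :=
      ((Group.isNilpotent_of_finite_tfae (G := B)).out 0 3).mp hnil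
    have h4 := h3 q hq hSylB.toSylow
    exact (normal_subgroupOf_iff_le_normalizer hSB).mp h4
  apply hnot
  intro m hm
  apply mem_normalizer_of_cj_le
  apply le_of_coprime_relIndex hBn (cj_le_of_mem_normalizer (le_normalizer_sigmaCore M hm) hSB)
  rw [card_cj]
  exact coprime_of_isPGroup hS.2.1 (IsSyl.not_dvd_relIndex hSylB)

/-- `E' ≤ C(S)` for a complement `E ≤ N(S)` of `M_σ` (`S` of rank at most two) -/
theorem commutator_compl_le (hG : IsMinSimpleOddOrder G) {M : Subgroup G} (hM : IsCoatom M)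
    {q : ℕ} [hq : Fact q.Prime] {S : Subgroup G} (hS : IsSyl q S M) (hS1 : S ≠ ⊥)
    (hN : normalizer (S : Set G) ≤ M) (hrk : PRankLE q 2 S) {E : Subgroup G}
    (hE : IsComplIn E (sigmaCore M) M) (hEN : E ≤ normalizer (S : Set G)) :
    ⁅E, E⁆ ≤ centralizer (S : Set G) := by
  intro k hk
  have hq2 : q ≠ 2 := ne_two hG hS.2.1 hS1
  have hqσ : q ∈ sigma M := mem_sigma_of_isSyl hS hS1 hN
  have hqE : ¬ q ∣ Nat.card E := fun h => not_mem_sigma_of_dvd_compl hG hM hE hq.out h hqσ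
  have hkE : k ∈ E := commutator_le_self E hk
  have hEs : Group.IsSolvable E := Cfsg.Agent.Lib.Helper30SZ.solvable_of_le (sol hG hM.1) hE.1
  apply Cfsg.Agent.Lib.Helper3AutOdd.centralizes_of_mem_commutator q hq2 S E hS.2.1 hrk hEN hEs
    (odd_sub hG E) k hk
  exact Nat.Coprime.coprime_dvd_left (Subgroup.orderOf_dvd_natCard E hkE)
    ((Nat.Prime.coprime_iff_not_dvd hq.out).mpr hqE).symm

/-- `C_S(N(S)) = 1` for an abelian Sylow subgroup `S` -/
theorem inf_centralizer_normalizer (hG : IsMinSimpleOddOrder G) {q : ℕ} [hq : Fact q.Prime]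
    {S : Subgroup G} (hS : IsSyl q S ⊤) (hab : IsMulCommutative S) :
    S ⊓ centralizer ((normalizer (S : Set G) : Subgroup G) : Set G) = ⊥ := by
  obtain ⟨Y, hYN, hY1, hY2⟩ := Cfsg.Agent.Lib.Helper86ModGrp.exists_compl hS.toSylowTop
  have hYN' : Y ≤ normalizer (S : Set G) := hYN
  have hc : IsComplIn S Y (normalizer (S : Set G)) := by
    refine ⟨le_normalizer, hYN', ?_, ?_⟩
    · rw [eq_bot_iff]
      intro x hx
      obtain ⟨h1, h2⟩ := mem_inf.mp hx
      rw [mem_bot]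
      exact hY2 x h2 h1
    · intro n hn
      obtain ⟨y, hy, u, hu, rfl⟩ := hY1 n hn
      exact ⟨y * u * y⁻¹, (mem_normalizer_iff.mp (hYN' hy) u).mp hu, y, hy, by group⟩
  have h1 : S = ⁅S, Y⁆ := (Cfsg.Agent.S1411.result hG q hS.toSylowTop Y hc).1
  have hSN : IsSyl q S (normalizer (S : Set G)) := hS.mono le_normalizer le_top
  have hcop : (Nat.card Y).Coprime (Nat.card S) := by
    apply Nat.Coprime.symm
    apply coprime_of_isPGroup hS.2.1
    rw [← relIndex_compl hc]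
    exact IsSyl.not_dvd_relIndex hSN
  have h2 := (Cfsg.Agent.Lib.Helper2Coprime.abelian_decomposition Y S hYN' hcop).1
  rw [← h1] at h2
  rw [eq_bot_iff, ← h2]
  intro x hx
  obtain ⟨hx1, hx2⟩ := mem_inf.mp hx
  refine mem_inf.mpr ⟨mem_inf.mpr ⟨hx1, ?_⟩, hx1⟩
  exact centralizer_le (show (Y : Set G) ⊆ (normalizer (S : Set G) : Subgroup G) from hYN') hx2

theorem le_of_forall_isSyl {H K : Subgroup G}
    (h : ∀ r : ℕ, Fact r.Prime → ∃ T : Subgroup G, IsSyl r T K ∧ T ≤ H) : K ≤ H := by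
  apply Cfsg.Agent.Lib.Helper30Gen.le_of_forall_sylow_le
  intro r hr
  obtain ⟨T, hT, hTH⟩ := h r hr
  exact ⟨hT.toSylow, by rw [hT.map_toSylow]; exact hTH⟩

theorem exists_card_prime_le {r : ℕ} [hr : Fact r.Prime] {T : Subgroup G} (hd : r ∣ Nat.card T) :
    ∃ z ∈ T, z ≠ 1 ∧ Nat.card (zpowers z) = r := by
  obtain ⟨z, hz⟩ := exists_prime_orderOf_dvd_card' (G := T) r hd
  refine ⟨z, z.2, ?_, ?_⟩
  · intro h
    have : z = 1 := Subtype.ext h
    rw [this, orderOf_one] at hz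
    exact hr.out.one_lt.ne hz
  · rw [Nat.card_zpowers, Subgroup.orderOf_coe, hz]

/-- the key subgroup `P` of prime order `p ∈ τ₁(M)` acting regularly on `S` -/
theorem exists_regular_tau1 (hG : IsMinSimpleOddOrder G) {M : Subgroup G} (hM : IsCoatom M)
    {q : ℕ} [hq : Fact q.Prime] {S : Subgroup G} (hS : IsSyl q S ⊤) (hS1 : S ≠ ⊥)
    (hN : normalizer (S : Set G) ≤ M) (hnot : ¬ M ≤ normalizer (S : Set G))
    (hab : IsMulCommutative S) (hrk : PRankLE q 2 S) (hqb : q ∉ beta M)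
    (hK : M ≤ piCoreOf (beta M) M ⊔ normalizer (S : Set G)) :
    ∃ (p : ℕ) (P : Subgroup G), p ∈ tau1 M ∧ P ≤ normalizer (S : Set G) ∧ Nat.card P = p ∧
      S ⊓ centralizer (P : Set G) = ⊥ := by
  have hSM : IsSyl q S M := hS.mono (le_normalizer.trans hN) le_top
  have hqσ : q ∈ sigma M := mem_sigma_of_isSyl hSM hS1 hN
  have hSσ : S ≤ sigmaCore M := le_sigmaCore hG hM hSM.1
    (fun p hp hd => by rw [prime_eq_of_dvd_card hSM.2.1 hp hd]; exact hqσ)
  obtain ⟨E, hEN, hE⟩ := exists_compl_le_normalizer hG hM hN hK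
  have hLa := sigmaCore_inf_normalizer_le hG hM hSM hS1 hN hab hqb
  have hEs : Group.IsSolvable E := Cfsg.Agent.Lib.Helper30SZ.solvable_of_le (sol hG hM.1) hE.1
  have hder := commutator_compl_le hG hM hSM hS1 hN hrk hE hEN
  -- `C_S(E) = 1`
  have hSE : S ⊓ centralizer (E : Set G) = ⊥ := by
    rw [eq_bot_iff, ← inf_centralizer_normalizer hG hS hab]
    intro x hx
    obtain ⟨hx1, hx2⟩ := mem_inf.mp hx
    refine mem_inf.mpr ⟨hx1, ?_⟩
    rw [mem_centralizer_iff]
    intro n hn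
    obtain ⟨e, he, a, ha, rfl⟩ := (compl_inf hE hEN hN).2.2.2 n hn
    have h1 : e * x = x * e := (mem_centralizer_iff.mp hx2) e he
    have h2 : x * a = a * x := (mem_centralizer_iff.mp (hLa ha)) x hx1
    calc e * a * x = e * (a * x) := by group
      _ = e * (x * a) := by rw [h2]
      _ = (e * x) * a := by group
      _ = (x * e) * a := by rw [h1]
      _ = x * (e * a) := by group
  have hprime : ∀ r : ℕ, r.Prime → r ∣ Nat.card E → r ∈ tau1 M ∨ r ∈ tau3 M := by
    intro r hr hd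
    have := Fact.mk hr
    have hrσ : r ∉ sigma M := not_mem_sigma_of_dvd_compl hG hM hE hr hd
    have hr2 : PRankLE r 2 M := by
      by_contra h
      exact hrσ (alpha_subset_sigma hG hM ⟨hr, h⟩)
    have hr1 : PRankLE r 1 M := by
      by_contra h
      exact tau2_empty hG hM hSM hS1 hN hnot ⟨hr, hrσ, hr2, h⟩
    have hrM : r ∣ Nat.card M := hd.trans (card_dvd_of_le hE.1)
    by_cases h : r ∣ Nat.card ↥⁅M, M⁆
    · exact Or.inr ⟨hr, hrσ, h, hr1⟩
    · exact Or.inl ⟨hr, hrσ, hrM, h, hr1⟩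
  obtain ⟨E1, hE1⟩ := exists_hallOf hEs (tau1 M)
  obtain ⟨E3, hE3⟩ := exists_hallOf hEs (tau3 M)
  obtain ⟨-, h15a, h15b⟩ := Cfsg.Agent.S1415.result hG M hM E hE
  have hE1c : IsCyclic E1 := h15a E1 hE1
  obtain ⟨-, hE3d, -⟩ := h15b E3 hE3
  have hE3C : E3 ≤ centralizer (S : Set G) := hE3d.trans hder
  have hkey : S ⊓ centralizer (E1 : Set G) = ⊥ := by
    rw [eq_bot_iff, ← hSE]
    intro x hx
    obtain ⟨hx1, hx2⟩ := mem_inf.mp hx
    refine mem_inf.mpr ⟨hx1, ?_⟩
    have hle : E ≤ centralizer ({x} : Set G) := by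
      apply le_of_forall_isSyl
      intro r hr
      by_cases h1 : r ∈ tau1 M
      · obtain ⟨T, hT, -⟩ := exists_isSyl_ge (p := r) (bot_le : ⊥ ≤ E1) (IsPGroup.of_bot)
        refine ⟨T, isSyl_of_not_dvd_relIndex hT hE1.1 (hE1.2.2 r hr.out h1), ?_⟩
        intro t ht
        rw [mem_centralizer_singleton_iff]
        exact ((mem_centralizer_iff.mp hx2) t (hT.1 ht))
      · by_cases h3 : r ∈ tau3 M
        · obtain ⟨T, hT, -⟩ := exists_isSyl_ge (p := r) (bot_le : ⊥ ≤ E3) (IsPGroup.of_bot)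
          refine ⟨T, isSyl_of_not_dvd_relIndex hT hE3.1 (hE3.2.2 r hr.out h3), ?_⟩
          intro t ht
          rw [mem_centralizer_singleton_iff]
          exact ((mem_centralizer_iff.mp (hE3C (hT.1 ht))) x hx1).symm
        · obtain ⟨T, hT, -⟩ := exists_isSyl_ge (p := r) (bot_le : ⊥ ≤ E) (IsPGroup.of_bot)
          refine ⟨T, hT, ?_⟩
          have hTb : T = ⊥ := by
            by_contra hne
            rcases hprime r hr.out (dvd_card_of_pgroup hT.2.1 hne hT.1) with h | h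
            · exact h1 h
            · exact h3 h
          rw [hTb]; exact bot_le
    rw [mem_centralizer_iff]
    intro e he
    exact (mem_centralizer_singleton_iff.mp (hle he))
  have hE1ne : Nat.card E1 ≠ 1 := by
    intro h
    have hb : E1 = ⊥ := (card_eq_one).mp h
    apply hS1
    rw [eq_bot_iff, ← hkey, hb]
    intro x hx
    refine mem_inf.mpr ⟨hx, ?_⟩
    rw [mem_centralizer_iff]
    intro e he
    have : e = 1 := he
    rw [this]; simp
  obtain ⟨p, hp, hpd⟩ := Nat.exists_prime_and_dvd hE1ne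
  have hpτ : p ∈ tau1 M := hE1.2.1 p hp hpd
  have := Fact.mk hp
  obtain ⟨y, hy, hy1, hyc⟩ := exists_card_prime_le hpd
  have hcomm : ∀ a ∈ E1, ∀ b ∈ E1, a * b = b * a := by
    intro a ha b hb
    have := (IsCyclic.commGroup (α := E1)).mul_comm ⟨a, ha⟩ ⟨b, hb⟩
    exact congrArg Subtype.val this
  have hPE1 : zpowers y ≤ E1 := (zpowers_le).mpr hy
  refine ⟨p, zpowers y, hpτ, (hPE1.trans hE1.1).trans hEN, hyc, ?_⟩
  rw [eq_bot_iff, ← hkey]
  intro x hx
  obtain ⟨hx1, hx2⟩ := mem_inf.mp hx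
  refine mem_inf.mpr ⟨hx1, ?_⟩
  have hle : E1 ≤ centralizer ({x} : Set G) := by
    apply le_of_forall_isSyl
    intro r hr
    obtain ⟨T, hT, -⟩ := exists_isSyl_ge (p := r) (bot_le : ⊥ ≤ E1) (IsPGroup.of_bot)
    refine ⟨T, hT, ?_⟩
    by_cases hTb : T = ⊥
    · rw [hTb]; exact bot_le
    have hrd : r ∣ Nat.card T := dvd_card_of_pgroup hT.2.1 hTb le_rfl
    have hrτ : r ∈ tau1 M := hE1.2.1 r hr.out (hrd.trans (card_dvd_of_le hT.1))
    have hTE : IsSyl r T E := isSyl_of_not_dvd_relIndex hT hE1.1 (hE1.2.2 r hr.out hrτ)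
    obtain ⟨z, hz, hz1, hzc⟩ := exists_card_prime_le hrd
    have hRle : zpowers z ≤ E ⊓ centralizer ((zpowers y : Subgroup G) : Set G) := by
      rw [zpowers_le]
      refine mem_inf.mpr ⟨hTE.1 hz, ?_⟩
      rw [mem_centralizer_iff]
      intro w hw
      exact hcomm w (hPE1 hw) z (hT.1 hz)
    have h28 := Cfsg.Agent.S1428.result hG M hM E hE p hpτ (zpowers y) (hPE1.trans hE1.1) hyc
      (zpowers z) hRle (by rw [hzc]; exact hr.out)
    have hx3 : x ∈ sigmaCore M ⊓ centralizer ((zpowers z : Subgroup G) : Set G) :=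
      h28 (mem_inf.mpr ⟨hSσ hx1, hx2⟩)
    have hTc : IsCyclic T := isCyclic_of_le hT.1
    have hTc' : IsCyclic ((hTE.toSylow : Sylow r E) : Subgroup E) := by
      have e : (T.subgroupOf E) ≃* T := subgroupOfEquivOfLe hTE.1
      exact isCyclic_of_surjective e.symm e.symm.surjective
    have hTne : ((hTE.toSylow : Sylow r E) : Subgroup E) ≠ ⊥ := by
      intro h
      apply hTb
      rw [← hTE.map_toSylow, h, Subgroup.map_bot]
    have h27 := Cfsg.Agent.S1427.result hG M hM E hE r hTE.toSylow hTne hTc' z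
      (by rw [hTE.map_toSylow]; exact hz) hz1
    rw [hTE.map_toSylow] at h27
    have hx4 : x ∈ sigmaCore M ⊓ centralizer ({z} : Set G) := by
      refine mem_inf.mpr ⟨hSσ hx1, ?_⟩
      rw [mem_centralizer_singleton_iff]
      exact ((mem_centralizer_iff.mp (mem_inf.mp hx3).2) z (mem_zpowers z)).symm
    rw [h27] at hx4
    intro t ht
    rw [mem_centralizer_singleton_iff]
    exact ((mem_centralizer_iff.mp (mem_inf.mp hx4).2) t ht)
  rw [mem_centralizer_iff]
  intro e he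
  exact (mem_centralizer_singleton_iff.mp (hle he))

/-- a subgroup of prime order `p` of `N(S)` acting regularly on `S` has `p ∈ τ₁(M)` -/
theorem mem_tau1_of_regular (hG : IsMinSimpleOddOrder G) {M : Subgroup G} (hM : IsCoatom M)
    {q : ℕ} [hq : Fact q.Prime] {S : Subgroup G} (hS : IsSyl q S ⊤) (hS1 : S ≠ ⊥)
    (hN : normalizer (S : Set G) ≤ M) (hnot : ¬ M ≤ normalizer (S : Set G))
    (hab : IsMulCommutative S) (hrk : PRankLE q 2 S) (hqb : q ∉ beta M)
    (hK : M ≤ piCoreOf (beta M) M ⊔ normalizer (S : Set G)) {p : ℕ} [hp : Fact p.Prime]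
    {P : Subgroup G} (hPN : P ≤ normalizer (S : Set G)) (hPc : Nat.card P = p)
    (hSP : S ⊓ centralizer (P : Set G) = ⊥) : p ∈ tau1 M := by
  have hSM : IsSyl q S M := hS.mono (le_normalizer.trans hN) le_top
  have hLa := sigmaCore_inf_normalizer_le hG hM hSM hS1 hN hab hqb
  have hnc : ¬ P ≤ centralizer (S : Set G) := fun h => hS1 (by
    rw [eq_bot_iff, ← hSP]
    exact le_inf le_rfl (le_centralizer_iff.mp h))
  have hPp : IsPGroup p P := IsPGroup.of_card (n := 1) (by rw [hPc, pow_one])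
  have hP1 : P ≠ ⊥ := by
    intro h
    rw [h, card_bot] at hPc
    exact hp.out.one_lt.ne hPc
  have hpσ : p ∉ sigma M := fun h => hnc ((le_inf (le_sigmaCore hG hM (hPN.trans hN)
    (fun r hr hd => by rw [prime_eq_of_dvd_card hPp hr hd]; exact h)) hPN).trans hLa)
  have hpd : p ∣ Nat.card M := dvd_card_of_pgroup hPp hP1 (hPN.trans hN)
  have hr2 : PRankLE p 2 M := by
    by_contra h
    exact hpσ (alpha_subset_sigma hG hM ⟨hp.out, h⟩)
  have hr1 : PRankLE p 1 M := by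
    by_contra h
    exact tau2_empty hG hM hSM hS1 hN hnot ⟨hp.out, hpσ, hr2, h⟩
  refine ⟨hp.out, hpσ, hpd, ?_, hr1⟩
  intro hd
  have hτ3 : p ∈ tau3 M := ⟨hp.out, hpσ, hd, hr1⟩
  obtain ⟨E, hEN, hE⟩ := exists_compl_le_normalizer hG hM hN hK
  have hEs : Group.IsSolvable E := Cfsg.Agent.Lib.Helper30SZ.solvable_of_le (sol hG hM.1) hE.1
  have hder := commutator_compl_le hG hM hSM hS1 hN hrk hE hEN
  obtain ⟨E3, hE3⟩ := exists_hallOf hEs (tau3 M)
  obtain ⟨-, hE3d, hE3n⟩ := (Cfsg.Agent.S1415.result hG M hM E hE).2.2 E3 hE3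
  have hcN := compl_inf hE hEN hN
  have hcE := coprime_compl hG hM hE
  have hBd : Nat.card ↥(sigmaCore M ⊓ normalizer (S : Set G)) ∣ Nat.card (sigmaCore M) :=
    card_dvd_of_le inf_le_left
  obtain ⟨n, hn, hnP⟩ := conj_into (X := normalizer (S : Set G))
    (B := sigmaCore M ⊓ normalizer (S : Set G)) (D := E) (Y := P)
    (Cfsg.Agent.Lib.Helper30SZ.solvable_of_le (sol hG hM.1) hN) inf_le_right
    (by
      intro n hn
      rw [mem_normalizer_iff]
      intro x
      rw [mem_inf, mem_inf, ← mem_normalizer_iff.mp (le_normalizer_sigmaCore M (hN hn)) x,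
        ← mem_normalizer_iff.mp (le_normalizer hn) x])
    hEN
    (by
      intro n hn
      obtain ⟨e, he, a, ha, rfl⟩ := hcN.2.2.2 n hn
      rw [sup_comm]
      exact mul_mem_sup he ha)
    (by
      rw [relIndex_compl' hcN]
      exact Nat.Coprime.coprime_dvd_right hBd hcE)
    hPN
    (by
      rw [hPc]
      exact Nat.Coprime.coprime_dvd_right hBd
        ((Nat.Prime.coprime_iff_not_dvd hp.out).mpr (not_dvd_sigmaCore hG hM hp.out hpσ)))
  have h1 : cj n P ≤ E3 := le_of_coprime_relIndex hE3n hnP (by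
    rw [card_cj, hPc]
    exact (Nat.Prime.coprime_iff_not_dvd hp.out).mpr (hE3.2.2 p hp.out hτ3))
  have h2 : cj n P ≤ centralizer (S : Set G) := h1.trans (hE3d.trans hder)
  apply hnc
  intro y hy
  have h3 := h2 (conj_mem_cj hy)
  rw [mem_centralizer_iff] at h3 ⊢
  intro t ht
  have h4 := h3 (n * t * n⁻¹) ((mem_normalizer_iff.mp hn t).mp ht)
  have h5 : n * (t * y) * n⁻¹ = n * (y * t) * n⁻¹ := by
    calc n * (t * y) * n⁻¹ = n * t * n⁻¹ * (n * y * n⁻¹) := by group
      _ = n * y * n⁻¹ * (n * t * n⁻¹) := h4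
      _ = n * (y * t) * n⁻¹ := by group
  exact mul_left_cancel (mul_right_cancel h5)

theorem eq_of_coatom_le {M Ms : Subgroup G} (hM : IsCoatom M) (hMs : IsCoatom Ms) (h : M ≤ Ms) :
    Ms = M := by
  by_contra hne
  exact hMs.1 (hM.2 Ms (lt_of_le_of_ne h (Ne.symm hne)))

/-- Two nonconjugate maximal subgroups cannot both contain the normalizer of a Sylow subgroup. -/
theorem no_common_sylow (hG : IsMinSimpleOddOrder G) {M Ms : Subgroup G} (hM : IsCoatom M)
    (hMs : IsCoatom Ms) (hnc : ∀ g : G, Ms ≠ cj g M) {q : ℕ} [hq : Fact q.Prime] {S : Subgroup G}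
    (hS : IsSyl q S ⊤) (hS1 : S ≠ ⊥) (hN : normalizer (S : Set G) ≤ M)
    (hNs : normalizer (S : Set G) ≤ Ms) : False := by
  have hne : Ms ≠ M := by
    have := hnc 1
    rwa [cj_one] at this
  have hSM : IsSyl q S M := hS.mono (le_normalizer.trans hN) le_top
  have hSMs : IsSyl q S Ms := hS.mono (le_normalizer.trans hNs) le_top
  have hqσ : q ∈ sigma M := mem_sigma_of_isSyl hSM hS1 hN
  have hqσs : q ∈ sigma Ms := mem_sigma_of_isSyl hSMs hS1 hNs
  have hqb : q ∉ beta M := not_mem_beta_of_le hG hMs hM hne.symm hSM hSMs.1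
  have hqbs : q ∉ beta Ms := not_mem_beta_of_le hG hM hMs hne hSMs hSM.1
  have hK : M ≤ piCoreOf (beta M) M ⊔ normalizer (S : Set G) :=
    (le_beta_sup_normalizer hG hM hqσ hqb hSM).trans (sup_le_sup_left inf_le_right _)
  have hKs : Ms ≤ piCoreOf (beta Ms) Ms ⊔ normalizer (S : Set G) :=
    (le_beta_sup_normalizer hG hMs hqσs hqbs hSMs).trans (sup_le_sup_left inf_le_right _)
  have hnot : ¬ M ≤ normalizer (S : Set G) := fun h => hne (eq_of_coatom_le hM hMs (h.trans hNs))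
  have hnots : ¬ Ms ≤ normalizer (S : Set G) :=
    fun h => hne (eq_of_coatom_le hMs hM (h.trans hN)).symm
  have huniq : ¬ InUniqueMaximal S := by
    intro h
    exact hne (h.unique ⟨hMs, hSMs.1⟩ ⟨hM, hSM.1⟩)
  have hrk : PRankLE q 2 S := by
    by_contra h
    exact huniq (Cfsg.Agent.Lib.Helper27BGa.uniq_of_rank3 hG (pgroup_ne_top hG hS.2.1) h)
  have hab : IsMulCommutative S := by
    by_contra h
    exact huniq (Cfsg.Agent.S1422.result hG q S hS.2.1 h)
  have hdisj : ∀ r, r ∈ beta M → r ∈ beta Ms → False := fun r h1 h2 =>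
    sigma_beta_disjoint hG hM hMs hnc (Cfsg.Agent.Lib.Helper37BG.beta_subset_sigma hG hM h1) h2
  obtain ⟨p, P, hp, hPN, hPc, hSP⟩ := exists_regular_tau1 hG hM hS hS1 hN hnot hab hrk hqb hK
  have := Fact.mk hp.1
  have hps := mem_tau1_of_regular hG hMs hS hS1 hNs hnots hab hrk hqbs hKs hPN hPc hSP
  exact Cfsg.Agent.Lib.Helper24BGAsym.asym hG hM hMs hne hS.2.1 hS1 (le_inf hN hNs) hK hKs hqb hqbs
    hdisj hp hps hPN hPc hSP

/-- B-G Theorem 13.9 -/
theorem sigma_conj (hG : IsMinSimpleOddOrder G) {M N : Subgroup G} (hM : IsCoatom M)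
    (hN : IsCoatom N) {q : ℕ} (hq : q ∈ sigma M) (hq' : q ∈ sigma N) : ∃ g : G, N = cj g M := by
  by_contra hcon
  push Not at hcon
  have := Fact.mk hq.1
  obtain ⟨P1, -, hP1, hP1N, hP1b⟩ := sigma_data hq
  obtain ⟨P2, -, hP2, hP2N, -⟩ := sigma_data hq'
  obtain ⟨g, -, hg⟩ := exists_cj_le hP1 hP2.2.1 le_top
  have h1 : cj g⁻¹ P1 = P2 := by
    apply hP2.2.2 _ le_top
    · exact hP1.2.1.map _
    · exact cj_le_iff.mp hg
  have h2 : P1 = cj g P2 := by rw [← h1, cj_cj_inv]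
  apply no_common_sylow hG hM (isCoatom_cj hN g) (S := P1) ?_ hP1 hP1b hP1N
  · rw [h2, ← cj_normalizer]
    exact cj_mono hP2N
  · intro h hh
    apply hcon (g⁻¹ * h)
    rw [cj_mul, ← hh, cj_inv_cj]

/-- every prime divisor of `|G|` lies in some `σ(M)` -/
theorem exists_mem_sigma (hG : IsMinSimpleOddOrder G) {p : ℕ} (hp : p.Prime)
    (hd : p ∣ Nat.card G) : ∃ M : Subgroup G, IsCoatom M ∧ p ∈ sigma M := by
  have := Fact.mk hp
  obtain ⟨P, hP, -⟩ := exists_isSyl_ge (p := p) (bot_le : (⊥ : Subgroup G) ≤ ⊤) IsPGroup.of_bot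
  have hP1 : P ≠ ⊥ := by
    intro h
    have h1 := hP.toSylowTop.card_eq_multiplicity
    have h2 : Nat.card (hP.toSylowTop : Subgroup G) = 1 := by
      show Nat.card P = 1
      rw [h, card_bot]
    rw [h2] at h1
    have h3 : (Nat.card G).factorization p ≠ 0 :=
      (hp.factorization_pos_of_dvd Nat.card_pos.ne' hd).ne'
    exact absurd h1.symm (by
      intro h4
      rcases Nat.pow_eq_one.mp h4 with h5 | h5
      · exact hp.one_lt.ne' h5
      · exact h3 h5)
  obtain ⟨M, hM, hNM⟩ := exists_coatom (norm_ne_top hG hP1 (pgroup_ne_top hG hP.2.1))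
  exact ⟨M, hM, mem_sigma_of_isSyl (hP.mono (le_normalizer.trans hNM) le_top) hP1 hNM⟩

end Cfsg.Agent.Lib.Helper37BGPart
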