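import Mathlib
import Cfsg.Agent.Lib.H2BG13bDefs
import Cfsg.Agent.Lib.Helper37BGPart
import Cfsg.Agent.Lib.Helper3AutOdd
import Cfsg.Agent.Lib.Helper31UniqD
import Cfsg.Agent.Lib.Helper2Coprime
import Cfsg.Agent.S1403
import Cfsg.Agent.S1417
import Cfsg.Agent.S1418
import Cfsg.Agent.S1428

/-!
PROJECT 131, piece `omega` (helper38).
-/

set_option autoImplicit false

namespace Cfsg.Agent.Lib.H2BG13bOmega

open Cfsg Subgroup
open Cfsg.Agent.Lib.Helper30Trans Cfsg.Agent.Lib.Helper24BG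

variable {G : Type*} [Group G] [Finite G]

/-- `p ∈ τ₁(M)`, `t ∈ τ₂(M)`, `A ≤ E` of type `(t,t)`, `1 ≠ R ≤ C_A(P)`, `X ≤ C_{M_σ}(P)` of prime
order `q`: then `C(X)` contains an elementary abelian `q`-subgroup of `M_σ` of order `≥ q³`. -/
theorem omega_alpha (hG : IsMinSimpleOddOrder G) {M E : Subgroup G} (hM : IsCoatom M)
    (hE : IsComplIn E (sigmaCore M) M) {p t q : ℕ} (hp : p ∈ tau1 M) (ht : t ∈ tau2 M)
    (hq : q.Prime) {P A R X : Subgroup G} (hPE : P ≤ E) (hP : Nat.card P = p) (hAE : A ≤ E)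
    (hAe : IsElementaryAbelian t A) (hA2 : Nat.card A = t ^ 2) (hRA : R ≤ A)
    (hR : Nat.card R = t) (hRP : R ≤ centralizer (P : Set G))
    (hX : X ≤ sigmaCore M ⊓ centralizer (P : Set G)) (hXq : Nat.card X = q) :
    (centralizer (X : Set G) ≤ M ∧
      ∀ L : Subgroup G, IsCoatom L → centralizer (X : Set G) ≤ L → L = M) ∧
      ∀ S : Subgroup G, IsSyl q S (sigmaCore M) → InUniqueMaximal S := by
  have : Fact p.Prime := ⟨hp.1⟩
  have : Fact t.Prime := ⟨ht.1⟩
  have : Fact q.Prime := ⟨hq⟩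
  have hAM : A ≤ M := hAE.trans hE.1
  have h17 := Cfsg.Agent.S1417.result hG M hM t ht A ⟨hAM, hAe, hA2⟩
  have h18 := Cfsg.Agent.S1418.result hG M hM E hE t ht A ⟨hAE, hAe, hA2⟩
  have hnil := h17.1
  have hCA : sigmaCore M ⊓ centralizer (A : Set G) = ⊥ := h17.2.2.2.1
  have hEA : E ≤ normalizer (A : Set G) := h18.1.1
  have hPA : P ≤ normalizer (A : Set G) := hPE.trans hEA
  have hpt : p ≠ t := by
    rintro rfl
    exact ht.2.2.2 hp.2.2.2.2
  have hcop : (Nat.card P).Coprime (Nat.card A) := by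
    rw [hP, hA2]
    exact Nat.Coprime.pow_right 2 ((Nat.coprime_primes hp.1 ht.1).mpr hpt)
  have hAc : IsMulCommutative A := hAe.1
  obtain ⟨-, hdec⟩ := Cfsg.Agent.Lib.Helper2Coprime.abelian_decomposition P A hPA hcop
  -- `X` centralizes `A₀ = C_A(P)`
  have hXA₀ : X ≤ centralizer ((A ⊓ centralizer (P : Set G) : Subgroup G) : Set G) := by
    intro x hx
    rw [mem_centralizer_iff]
    intro a ha
    by_cases ha1 : a = 1
    · simp [ha1]
    have hcard : Nat.card (zpowers a) = t :=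
      Cfsg.Agent.Lib.Helper3RankTwo.card_zpowers_of_order_p ht.1 ha1 (hAe.2 a ha.1)
    have h28 := Cfsg.Agent.S1428.result hG M hM E hE p hp P hPE hP (zpowers a)
      (zpowers_le.mpr ⟨hAE ha.1, ha.2⟩) (hcard ▸ ht.1)
    have h1 := (h28 (hX hx)).2
    exact mem_centralizer_iff.mp h1 a (mem_zpowers a)
  have hX1 : X ≠ ⊥ := Cfsg.Agent.Lib.Helper30BG2.ne_bot_of_card_prime hXq
  have hXp : IsPGroup q X := Cfsg.Agent.Lib.Helper30BG2.isPGroup_of_card_prime hXq
  have hqσ : q ∈ sigma M :=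
    Cfsg.Agent.Lib.Helper30BG2.card_sigmaCore hG hM q hq (hXq ▸ card_dvd_of_le (hX.trans inf_le_left))
  have hqt : q ≠ t := by
    rintro rfl
    exact ht.2.1 hqσ
  obtain ⟨S, hSF, hSp, hSn, hSmax⟩ := Cfsg.Agent.Lib.Helper31UniqD.exists_char_sylow (s := q) hnil
  have hXS : X ≤ S := hSmax X (hX.trans inf_le_left) hXp
  have hMS : M ≤ normalizer (S : Set G) :=
    (Cfsg.Agent.Lib.Helper30BG2.le_normalizer_sigmaCore M).trans hSn
  have hXN : X ≤ S ⊓ centralizer ((A ⊓ centralizer (P : Set G) : Subgroup G) : Set G) :=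
    le_inf hXS hXA₀
  have hBM : A ⊔ P ≤ M := sup_le hAM (hPE.trans hE.1)
  have hBC : A ⊔ P ≤ centralizer ((A ⊓ centralizer (P : Set G) : Subgroup G) : Set G) := by
    refine sup_le ?_ ?_
    · intro a ha
      rw [mem_centralizer_iff]
      intro b hb
      have := hAc.is_comm.comm (⟨b, hb.1⟩ : A) ⟨a, ha⟩
      exact congrArg Subtype.val this
    · intro x hx
      rw [mem_centralizer_iff]
      intro b hb
      exact (mem_centralizer_iff.mp hb.2 x hx).symm
  have hBN : A ⊔ P ≤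
      normalizer ((S ⊓ centralizer ((A ⊓ centralizer (P : Set G) : Subgroup G) : Set G) : Subgroup G) : Set G) := by
    intro b hb
    have h1 := hMS (hBM hb)
    have h2 := hBC hb
    rw [mem_normalizer_iff]
    intro n
    constructor
    · rintro ⟨hn1, hn2⟩
      exact ⟨(mem_normalizer_iff.mp h1 n).mp hn1,
        Subgroup.mul_mem _ (Subgroup.mul_mem _ h2 hn2) (Subgroup.inv_mem _ h2)⟩
    · rintro ⟨hn1, hn2⟩
      refine ⟨(mem_normalizer_iff.mp h1 n).mpr hn1, ?_⟩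
      have h3 := Subgroup.mul_mem _ (Subgroup.mul_mem _ (Subgroup.inv_mem _ h2) hn2) h2
      have h4 : b⁻¹ * (b * n * b⁻¹) * b = n := by group
      rwa [h4] at h3
  generalize hNdef : S ⊓ centralizer ((A ⊓ centralizer (P : Set G) : Subgroup G) : Set G) = N
    at hXN hBN
  have hNS : N ≤ S := hNdef ▸ inf_le_left
  have hNC : N ≤ centralizer ((A ⊓ centralizer (P : Set G) : Subgroup G) : Set G) :=
    hNdef ▸ inf_le_right
  have hBW : A ⊔ P ≤ normalizer (Cfsg.Agent.Lib.Helper31UniqB.OmZ q N : Set G) :=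
    hBN.trans (Cfsg.Agent.Lib.Helper31UniqB.normalizer_le_normalizer_OmZ q N)
  have hNp : IsPGroup q N := hSp.to_le hNS
  have hN1 : N ≠ ⊥ := ne_bot_of_le_ne_bot hX1 hXN
  obtain ⟨z, hzN, hzc, hz1, hzq⟩ := Cfsg.Agent.Lib.Helper31UniqD.exists_central_order hNp hN1
  have hWN : Cfsg.Agent.Lib.Helper31UniqB.OmZ q N ≤ N := Cfsg.Agent.Lib.Helper31UniqB.OmZ_le q N
  have hWcN := Cfsg.Agent.Lib.Helper31UniqB.OmZ_le_centralizer q N
  have hzW : z ∈ Cfsg.Agent.Lib.Helper31UniqB.OmZ q N := ⟨hzN, hzc, hzq⟩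
  generalize Cfsg.Agent.Lib.Helper31UniqB.OmZ q N = W at hBW hWN hWcN hzW
  have hWp : IsPGroup q W := hNp.to_le hWN
  have hq2 : q ≠ 2 := ne_two hG hXp hX1
  have hWM : W ≤ M := hWN.trans (hNS.trans (hSF.trans (Cfsg.Agent.Lib.Helper30BG2.sigmaCore_le M)))
  have hWr : ¬ PRankLE q 2 W := by
    intro hr
    have hBtop : A ⊔ P ≠ ⊤ := fun h => hM.1 (top_le_iff.mp (h ▸ hBM))
    have hYA : ⁅A, P⁆ ≤ A := le_normalizer_iff_commutator_le_left.mp hPA
    have hYW : ⁅A, P⁆ ≤ centralizer (W : Set G) := by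
      intro y hy
      apply Cfsg.Agent.Lib.Helper3AutOdd.centralizes_of_mem_commutator q hq2 W (A ⊔ P) hWp hr hBW
        (sol hG hBtop) (odd_sub hG _) y (commutator_mono le_sup_left le_sup_right hy)
      have h1 : orderOf y ∣ t := orderOf_dvd_of_pow_eq_one (hAe.2 y (hYA hy))
      exact Nat.Coprime.coprime_dvd_left h1 ((Nat.coprime_primes ht.1 hq).mpr hqt.symm)
    have hAW : A ≤ centralizer (W : Set G) := by
      rw [← hdec]
      refine sup_le ?_ hYW
      rw [← le_centralizer_iff]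
      exact hWN.trans hNC
    have hz' : z ∈ sigmaCore M ⊓ centralizer (A : Set G) :=
      ⟨hSF (hNS (hWN hzW)), (le_centralizer_iff.mp hAW) hzW⟩
    rw [hCA, mem_bot] at hz'
    exact hz1 hz'
  have hWU : InUniqueMaximal W := by
    apply Cfsg.Agent.S1403.result hG W (pgroup_ne_top hG hWp)
    · intro h
      exact hWr (rank_mono hq.pos (h q hq) (by norm_num))
    · left
      intro h
      exact hWr (h q hq)
  have hXtop : X ≠ ⊤ := pgroup_ne_top hG hXp
  have hCXtop : centralizer (X : Set G) ≠ ⊤ := by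
    intro h
    apply norm_ne_top hG hX1 hXtop
    exact top_le_iff.mp (h ▸ centralizer_le_normalizer (X : Set G))
  have hWCX : W ≤ centralizer (X : Set G) := hWcN.trans (centralizer_le hXN)
  refine ⟨⟨le_of_uniq hM hWM hWU hWCX hCXtop, ?_⟩, ?_⟩
  · intro L hL hCL
    obtain ⟨M', -, hu⟩ := hWU
    rw [hu L ⟨hL, hWCX.trans hCL⟩, hu M ⟨hM, hWM⟩]
  · intro S' hS'
    have h1 : S = S' := hS'.2.2 S hSF hSp (hSmax S' hS'.1 hS'.2.1)
    subst h1
    exact uniq_mono hWU (hWN.trans hNS) (pgroup_ne_top hG hSp)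

end Cfsg.Agent.Lib.H2BG13bOmega
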