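import Mathlib
import Cfsg.Agent.Lib.H2BG13bDefs
import Cfsg.Agent.Lib.Helper37BGPart
import Cfsg.Agent.Lib.Helper2BGd

/-!
PROJECT 131, piece `split`.
-/

set_option autoImplicit false

namespace Cfsg.Agent.Lib.H2BG13bSplit

open Cfsg Subgroup
open scoped commutatorElement
open Cfsg.Agent.Lib.Helper30Trans Cfsg.Agent.Lib.Helper24BG

variable {G : Type*} [Group G] [Finite G]

omit [Finite G] in
/-- a subgroup between `E'` and `E` is normal in `E` -/
theorem le_normalizer_of_derived_le {E K : Subgroup G} (h1 : ⁅E, E⁆ ≤ K) (h2 : K ≤ E) :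
    E ≤ normalizer (K : Set G) := by
  have key : ∀ e ∈ E, ∀ k ∈ K, e * k * e⁻¹ ∈ K := by
    intro e he k hk
    have h3 : ⁅e, k⁆ ∈ K := h1 (commutator_mem_commutator he (h2 hk))
    have h4 : e * k * e⁻¹ = ⁅e, k⁆ * k := by
      rw [commutatorElement_def]; group
    rw [h4]
    exact K.mul_mem h3 hk
  intro e he
  rw [mem_normalizer_iff]
  intro k
  constructor
  · exact key e he k
  · intro hk
    have := key e⁻¹ (E.inv_mem he) _ hk
    have h5 : e⁻¹ * (e * k * e⁻¹) * e⁻¹⁻¹ = k := by group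
    rwa [h5] at this

/-- `E = E' C_E(P)` for `P ≤ E` of order `p ∈ τ₁(M)`. -/
theorem compl_le_derived_sup_cent (hG : IsMinSimpleOddOrder G) {M E : Subgroup G} (hM : IsCoatom M)
    (hE : IsComplIn E (sigmaCore M) M) {p : ℕ} (hp : p ∈ tau1 M) {P : Subgroup G} (hPE : P ≤ E)
    (hP : Nat.card P = p) : E ≤ ⁅E, E⁆ ⊔ (E ⊓ centralizer (P : Set G)) := by
  have hpp : Fact p.Prime := ⟨hp.1⟩
  have hP1 : P ≠ ⊥ := Cfsg.Agent.Lib.Helper30BG2.ne_bot_of_card_prime hP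
  have hPp : IsPGroup p P := Cfsg.Agent.Lib.Helper30BG2.isPGroup_of_card_prime hP
  have hp2 : p ≠ 2 := ne_two hG hPp hP1
  obtain ⟨P₁, hP₁, hPP₁⟩ := exists_isSyl_ge hPE hPp
  have hcyc : IsCyclic P₁ := Cfsg.Agent.Lib.Helper27BGa.cyclic_of_rank_one hp2 hP₁.2.1
    (rank_le_of_le (hP₁.1.trans hE.1) hp.2.2.2.2)
  set D : Subgroup G := ⁅E, E⁆ with hD
  have hDE : D ≤ E := commutator_le_self E
  set K : Subgroup G := D ⊔ P₁ with hK
  have hKE : K ≤ E := sup_le hDE hP₁.1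
  have hEK : E ≤ normalizer (K : Set G) := le_normalizer_of_derived_le le_sup_left hKE
  have hSylK : IsSyl p P₁ K := hP₁.mono le_sup_right hKE
  have hfr := Cfsg.Agent.Lib.Helper37BG.frattini hEK hKE hSylK
  -- `P ∩ D = 1`
  have hDM : D ≤ ⁅M, M⁆ := commutator_mono hE.1 hE.1
  have hpD : ¬ p ∣ Nat.card D := fun h => hp.2.2.2.1 (h.trans (card_dvd_of_le hDM))
  have hPD : P ⊓ D = ⊥ := by
    apply inf_eq_bot_of_coprime
    rw [hP]
    exact (Nat.Prime.coprime_iff_not_dvd hp.1).mpr hpD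
  have hP₁C : P₁ ≤ centralizer (P : Set G) := by
    intro x hx
    rw [mem_centralizer_iff]
    intro y hy
    have := hcyc.isMulCommutative.is_comm.comm (⟨y, hPP₁ hy⟩ : P₁) ⟨x, hx⟩
    exact congrArg Subtype.val this
  have hNC : E ⊓ normalizer (P₁ : Set G) ≤ E ⊓ centralizer (P : Set G) := by
    intro n hn
    obtain ⟨hnE, hnN⟩ := mem_inf.mp hn
    refine mem_inf.mpr ⟨hnE, ?_⟩
    have hnP : n ∈ normalizer (P : Set G) :=
      Cfsg.Agent.Lib.Helper27BGa.normalizer_le_of_cyclic hcyc hPP₁ hnN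
    rw [mem_centralizer_iff]
    intro x hx
    have h1 : ⁅n, x⁆ ∈ P := by
      rw [commutatorElement_def]
      exact P.mul_mem ((mem_normalizer_iff.mp hnP x).mp hx) (P.inv_mem hx)
    have h2 : ⁅n, x⁆ ∈ D := commutator_mem_commutator hnE (hPE hx)
    have h3 : ⁅n, x⁆ ∈ P ⊓ D := mem_inf.mpr ⟨h1, h2⟩
    rw [hPD, mem_bot, commutatorElement_eq_one_iff_mul_comm] at h3
    exact h3.symm
  refine hfr.trans (sup_le (sup_le le_sup_left ?_) (hNC.trans le_sup_right))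
  exact (le_inf hP₁.1 hP₁C).trans le_sup_right

/-- `E'` centralizes every `E`-invariant Sylow `q`-subgroup of `M_σ`, `q ∉ β(M)`. -/
theorem derived_compl_centralizes (hG : IsMinSimpleOddOrder G) {M E : Subgroup G} (hM : IsCoatom M)
    (hE : IsComplIn E (sigmaCore M) M) {q : ℕ} [Fact q.Prime] (hq : q ∈ sigma M) (hqβ : q ∉ beta M)
    {S : Subgroup G} (hS : IsSyl q S (sigmaCore M)) (hES : E ≤ normalizer (S : Set G)) :
    ⁅E, E⁆ ≤ centralizer (S : Set G) := by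
  obtain ⟨N, hN, hNc, k, hk⟩ := Cfsg.Agent.Lib.Helper2BGd.npc_derived hG hM hq.2.1 hqβ
  have hSD : S ≤ ⁅M, M⁆ := hS.1.trans (Cfsg.Agent.Lib.Helper2BGb.sigmaCore_le_derived hG hM)
  have hDM : ⁅E, E⁆ ≤ ⁅M, M⁆ := commutator_mono hE.1 hE.1
  have hqE : ¬ q ∣ Nat.card E :=
    fun h => Cfsg.Agent.Lib.Helper31BGS.not_mem_sigma_of_dvd_compl hG hM hE Fact.out h hq
  intro e he
  have heE : e ∈ E := commutator_le_self E he
  have heo : (orderOf e).Coprime q :=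
    Nat.Coprime.coprime_dvd_left (Subgroup.orderOf_dvd_natCard E heE)
      ((Nat.Prime.coprime_iff_not_dvd Fact.out).mpr hqE).symm
  have heN : (⟨e, hDM he⟩ : ↥⁅M, M⁆) ∈ N := by
    rw [Cfsg.Agent.Lib.Helper11Frobenius.mem_iff_coprime N hNc k hk, Subgroup.orderOf_mk]
    exact heo
  rw [mem_centralizer_iff]
  intro s hs
  -- `[s, e] ∈ S ∩ N = 1`
  have h1 : ⁅s, e⁆ ∈ S := by
    rw [commutatorElement_def]
    have : e * s⁻¹ * e⁻¹ ∈ S := (mem_normalizer_iff.mp (hES heE) s⁻¹).mp (S.inv_mem hs)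
    have h2 : s * e * s⁻¹ * e⁻¹ = s * (e * s⁻¹ * e⁻¹) := by group
    rw [h2]
    exact S.mul_mem hs this
  have h2 : (⟨⁅s, e⁆, commutator_le_self _ (commutator_mem_commutator (hSD hs) (hDM he))⟩ :
      ↥⁅M, M⁆) ∈ N := by
    have h3 : (⟨⁅s, e⁆, commutator_le_self _ (commutator_mem_commutator (hSD hs) (hDM he))⟩ :
      ↥⁅M, M⁆) = (⟨s, hSD hs⟩ * ⟨e, hDM he⟩ * ⟨s, hSD hs⟩⁻¹) * (⟨e, hDM he⟩ : ↥⁅M, M⁆)⁻¹ := by
      apply Subtype.ext
      simp [commutatorElement_def]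
    rw [h3]
    exact N.mul_mem (hN.conj_mem _ heN _) (N.inv_mem heN)
  have h4 : (orderOf ⁅s, e⁆).Coprime q := by
    have := (Cfsg.Agent.Lib.Helper11Frobenius.mem_iff_coprime N hNc k hk _).mp h2
    rwa [Subgroup.orderOf_mk] at this
  have h5 : ⁅s, e⁆ = 1 := by
    obtain ⟨j, hj⟩ := (IsPGroup.iff_orderOf.mp hS.2.1) ⟨⁅s, e⁆, h1⟩
    rw [Subgroup.orderOf_mk] at hj
    rw [hj] at h4
    rw [← orderOf_eq_one_iff, hj]
    rcases Nat.eq_zero_or_pos j with rfl | hjpos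
    · simp
    · exfalso
      have : (q).Coprime q := Nat.Coprime.coprime_dvd_left (dvd_pow_self q hjpos.ne') h4
      exact (Fact.out : q.Prime).one_lt.ne' ((Nat.coprime_self q).mp this)
  exact commutatorElement_eq_one_iff_mul_comm.mp h5

end Cfsg.Agent.Lib.H2BG13bSplit
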