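import Mathlib
import Cfsg.Agent.Lib.Helper37BG
import Cfsg.Agent.Lib.Helper30BG4
import Cfsg.Agent.Lib.Helper21BGExcbasic
import Cfsg.Agent.Lib.Helper27BGa
import Cfsg.Agent.Lib.Helper31BGS
import Cfsg.Agent.S1350
import Cfsg.Agent.S1408
import Cfsg.Agent.S1416
import Cfsg.Agent.S1417
import Cfsg.Agent.S1418
import Cfsg.Agent.S1422

/-! Project 14 (B-G Section 14), piece `normtau2`. -/

set_option autoImplicit false

namespace Cfsg.Agent.Lib.Helper90BG14normtau2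

open Cfsg Subgroup
open Cfsg.Agent.Lib.Helper30Trans Cfsg.Agent.Lib.Helper24BG

variable {G : Type*} [Group G] [Finite G]

theorem sq_ne_bot {p : ℕ} [hp : Fact p.Prime] {A : Subgroup G} (hA2 : Nat.card A = p ^ 2) :
    A ≠ ⊥ := by
  intro h
  rw [h, card_bot] at hA2
  have := hp.out.one_lt
  nlinarith

/-- an elementary abelian subgroup of order `r²` inside a given complement -/
theorem exists_sq_compl (hG : IsMinSimpleOddOrder G) {M E : Subgroup G} (hM : IsCoatom M)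
    (hE : IsComplIn E (sigmaCore M) M) {r : ℕ} [Fact r.Prime] (hr : r ∈ tau2 M) :
    ∃ B : Subgroup G, B ≤ E ∧ IsElementaryAbelian r B ∧ Nat.card B = r ^ 2 := by
  have hrp : r.Prime := Fact.out
  obtain ⟨B₀, hB₀M, hB₀e, hB₀c⟩ := Cfsg.Agent.Lib.Helper31BGS.exists_sq hr.2.2.2
  have h50 := Cfsg.Agent.S1350.result hG M hM
  have hcop : ((sigmaCore M).relIndex M).Coprime (Nat.card (sigmaCore M)) := by
    rw [Nat.coprime_iff_gcd_eq_one]
    by_contra hne
    obtain ⟨q, hq, hqd⟩ := Nat.exists_prime_and_dvd hne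
    exact h50.1.2.2 q hq (h50.1.2.1 q hq (hqd.trans (Nat.gcd_dvd_right _ _)))
      (hqd.trans (Nat.gcd_dvd_left _ _))
  obtain ⟨m, -, hm⟩ := Cfsg.Agent.Lib.Helper37BG.conj_into (X := M) (B := sigmaCore M) (D := E)
    (Y := B₀) (sol hG hM.1) (Cfsg.Agent.Lib.Helper31BGS.sigmaCore_le M)
    (Cfsg.Agent.Lib.Helper31BGS.le_normalizer_sigmaCore M) hE.1 (by
      intro x hx
      obtain ⟨a, ha, b, hb, rfl⟩ := hE.2.2.2 x hx
      exact mul_mem (mem_sup_right ha) (mem_sup_left hb)) hcop hB₀M (by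
      rw [hB₀c]
      apply Nat.Coprime.pow_left
      rw [Nat.Prime.coprime_iff_not_dvd hrp]
      exact Cfsg.Agent.Lib.Helper31BGS.not_dvd_sigmaCore hG hM hrp hr.2.1)
  exact ⟨cj m B₀, hm, elemAb_cj hB₀e m, by rw [card_cj, hB₀c]⟩

theorem norm_tau2 (hG : IsMinSimpleOddOrder G) {M E : Subgroup G} (hM : IsCoatom M)
    (hE : IsComplIn E (sigmaCore M) M) {p : ℕ} [Fact p.Prime] (hp : p ∈ tau2 M) {A : Subgroup G}
    (hAE : A ≤ E) (hAe : IsElementaryAbelian p A) (hA2 : Nat.card A = p ^ 2) {L : Subgroup G}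
    (hL : IsCoatom L) (hNL : normalizer (A : Set G) ≤ L) :
    p ∈ sigma L ∧ p ∉ beta L ∧ M ⊓ L = E ∧ sigmaCore M ⊓ L = ⊥ ∧ (∀ g : G, L ≠ cj g M) ∧
      ∀ r ∈ tau2 M, r ∈ sigma L := by
  have hpp : p.Prime := Fact.out
  have hEM : E ≤ M := hE.1
  have hAM : A ≤ M := hAE.trans hEM
  have h17 := Cfsg.Agent.S1417.result hG M hM p hp A ⟨hAM, hAe, hA2⟩
  have h18 := Cfsg.Agent.S1418.result hG M hM E hE p hp A ⟨hAE, hAe, hA2⟩
  have h16 := (Cfsg.Agent.S1416.result hG M hM p A ⟨hAM, hAe, hA2⟩).1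
  have h08 := (Cfsg.Agent.S1408.result hG M hM p hp.2.1 hp.2.2.1 hp.2.2.2).1
  have hAL : A ≤ L := le_normalizer.trans hNL
  have hEL : E ≤ L := h18.1.1.trans hNL
  have hLM : L ≠ M := fun h => h18.2.1.2.2 (h ▸ hNL)
  have h4 : sigmaCore M ⊓ L = ⊥ := h17.2.2.2.2.1 L hL hLM hAL
  have hAp : IsPGroup p A := isPGroup_of_elemAb hAe
  have hA1 : A ≠ ⊥ := sq_ne_bot hA2
  obtain ⟨S, hS, hAS⟩ := exists_isSyl_ge hAE hAp
  have hSM : IsSyl p S M := Cfsg.Agent.Lib.Helper31BGS.isSyl_of_not_dvd_relIndex hS hEM (by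
    rw [Cfsg.Agent.Lib.Helper31BGS.relIndex_compl hE]
    exact Cfsg.Agent.Lib.Helper31BGS.not_dvd_sigmaCore hG hM hpp hp.2.1)
  have hSb := (h17.2.1 hSM.toSylow).2
  rw [hSM.map_toSylow] at hSb
  obtain ⟨hOm, -⟩ := hSb hAS
  have hNS : normalizer (S : Set G) ≤ normalizer (A : Set G) := by
    intro g hg
    rw [mem_normalizer_iff]
    intro x
    constructor
    · intro hx
      have hxS : g * x * g⁻¹ ∈ S := (mem_normalizer_iff.mp hg x).mp (hAS hx)
      rw [← hOm _ hxS, conj_pow, (hOm x (hAS hx)).mpr hx]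
      simp
    · intro hx
      have hxS : x ∈ S := (mem_normalizer_iff.mp hg x).mpr (hAS hx)
      rw [← hOm _ hxS]
      have h1 := (hOm _ (hAS hx)).mpr hx
      rw [conj_pow] at h1
      have h2 : x ^ p = g⁻¹ * (g * x ^ p * g⁻¹) * g := by group
      rw [h2, h1]
      simp
  obtain ⟨T, hT, hST⟩ := exists_isSyl_ge (hS.1.trans hEL) hS.2.1
  have hT1 : T ≠ ⊥ := ne_bot_of_le_ne_bot hA1 (hAS.trans hST)
  have h1 : p ∈ sigma L := by
    apply Cfsg.Agent.Lib.Helper27BGa.mem_sigma_of_isSyl hT hT1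
    by_cases hTab : IsMulCommutative T
    · have hTC : T ≤ centralizer (A : Set G) := by
        intro t ht
        rw [mem_centralizer_iff]
        intro a ha
        have := hTab.is_comm.comm ⟨a, hST (hAS ha)⟩ ⟨t, ht⟩
        exact congrArg Subtype.val this
      have hTM : T ≤ M := hTC.trans h16
      have hTS : T = S := hSM.2.2 T hTM hT.2.1 hST
      rw [hTS]
      exact hNS.trans hNL
    · have hU := Cfsg.Agent.S1422.result hG p T hT.2.1 hTab
      exact le_of_uniq hL hT.1 hU le_normalizer (norm_ne_top hG hT1 (pgroup_ne_top hG hT.2.1))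
  refine ⟨h1, fun hb => h08 hb.2, ?_, h4, ?_, ?_⟩
  · apply le_antisymm
    · intro m hm
      obtain ⟨hmM, hmL⟩ := mem_inf.mp hm
      obtain ⟨e, he, s, hs, rfl⟩ := hE.2.2.2 m hmM
      have hsL : s ∈ L := by
        have : s = e⁻¹ * (e * s) := by group
        rw [this]
        exact L.mul_mem (L.inv_mem (hEL he)) hmL
      have hs1 : s ∈ sigmaCore M ⊓ L := mem_inf.mpr ⟨hs, hsL⟩
      rw [h4, mem_bot] at hs1
      rw [hs1, mul_one]
      exact he
    · exact le_inf hEM hEL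
  · intro g hg
    apply hp.2.1
    rw [← Cfsg.Agent.Lib.Helper21BGExcbasic.sigma_cj M g, ← hg]
    exact h1
  · intro r hr
    by_contra hrL
    have : Fact r.Prime := ⟨hr.1⟩
    obtain ⟨B, hBE, hBe, hBc⟩ := exists_sq_compl hG hM hE hr
    have hBL : B ≤ L := hBE.trans hEL
    have hr2 : r ∈ tau2 L := Cfsg.Agent.Lib.Helper30BG4.mem_tau2 hG hL hrL hBL hBe hBc
    have h17' := Cfsg.Agent.S1417.result hG L hL r hr2 B ⟨hBL, hBe, hBc⟩
    have h5 : sigmaCore L ⊓ M = ⊥ := h17'.2.2.2.2.1 M hM hLM.symm (hBE.trans hEM)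
    have h6 : A ≤ sigmaCore L ⊓ M :=
      le_inf (Cfsg.Agent.Lib.Helper30BG2.pgroup_le_sigmaCore hG hL h1 hAp hAL) hAM
    rw [h5] at h6
    exact hA1 (le_bot_iff.mp h6)

end Cfsg.Agent.Lib.Helper90BG14normtau2
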