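import Mathlib
import Cfsg.Agent.Lib.H2BG13bOmega
import Cfsg.Agent.Lib.H2BG13bSplit
import Cfsg.Agent.Lib.Helper11BG13complnorm
import Cfsg.Agent.Lib.Helper90BG14normtau2
import Cfsg.Agent.S0025
import Cfsg.Agent.S1423
import Cfsg.Agent.S1426
import Cfsg.Agent.S1427

/-!
PROJECT 131, piece `uniq` = B-G Lemma 13.6.
-/

set_option autoImplicit false

namespace Cfsg.Agent.Lib.H2BG13bUniq

open Cfsg Subgroup
open Cfsg.Agent.Lib.Helper30Trans Cfsg.Agent.Lib.Helper24BG

variable {G : Type*} [Group G] [Finite G]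

/-- B-G 13.6 (Coq `cent_cent_Msigma_tau1_uniq`). -/
theorem cent_tau1_uniq (hG : IsMinSimpleOddOrder G) {M : Subgroup G} (hM : IsCoatom M) {p q : ℕ}
    (hp : p ∈ tau1 M) (hq : q.Prime) {P X : Subgroup G} (hPM : P ≤ M) (hP : Nat.card P = p)
    (hX : X ≤ sigmaCore M ⊓ centralizer (P : Set G)) (hXq : Nat.card X = q) :
    (centralizer (X : Set G) ≤ M ∧
      ∀ L : Subgroup G, IsCoatom L → centralizer (X : Set G) ≤ L → L = M) ∧
      ∀ S : Subgroup G, IsSyl q S (sigmaCore M) → InUniqueMaximal S := by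
  have hpp : Fact p.Prime := ⟨hp.1⟩
  have hqq : Fact q.Prime := ⟨hq⟩
  have hXσ : X ≤ sigmaCore M := hX.trans inf_le_left
  have hXP : X ≤ centralizer (P : Set G) := hX.trans inf_le_right
  have hσM : sigmaCore M ≤ M := Cfsg.Agent.Lib.Helper30BG2.sigmaCore_le M
  have hXM : X ≤ M := hXσ.trans hσM
  have hXg : IsPGroup q X := Cfsg.Agent.Lib.Helper30BG2.isPGroup_of_card_prime hXq
  have hqσ : q ∈ sigma M :=
    Cfsg.Agent.Lib.Helper30BG2.card_sigmaCore hG hM q hq (hXq ▸ card_dvd_of_le hXσ)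
  have fin : (q ∈ beta M ∨ X ≤ ⁅sigmaCore M, sigmaCore M⁆) →
      (centralizer (X : Set G) ≤ M ∧
      ∀ L : Subgroup G, IsCoatom L → centralizer (X : Set G) ≤ L → L = M) ∧
      ∀ S : Subgroup G, IsSyl q S (sigmaCore M) → InUniqueMaximal S := by
    intro h
    refine ⟨?_, ?_⟩
    · obtain ⟨S0⟩ : Nonempty (Sylow q (sigmaCore M)) := inferInstance
      exact (Cfsg.Agent.S1423.result hG M hM q hqσ X hXM hXq S0 h).1
    · intro S hS
      have := (Cfsg.Agent.S1423.result hG M hM q hqσ X hXM hXq hS.toSylow h).2.1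
      rwa [hS.map_toSylow] at this
  by_cases hβ : q ∈ beta M
  · exact fin (Or.inl hβ)
  have hPσ : P ≤ normalizer (sigmaCore M : Set G) :=
    hPM.trans (Cfsg.Agent.Lib.Helper30BG2.le_normalizer_sigmaCore M)
  have hpσ : ¬ p ∣ Nat.card (sigmaCore M) :=
    Cfsg.Agent.Lib.Helper31BGS.not_dvd_sigmaCore hG hM hp.1 hp.2.1
  have hcop : (Nat.card P).Coprime (Nat.card (sigmaCore M)) := by
    rw [hP]
    exact (Nat.Prime.coprime_iff_not_dvd hp.1).mpr hpσ
  have hsolσ : Group.IsSolvable (sigmaCore M) :=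
    Cfsg.Agent.Lib.Helper30SZ.solvable_of_le (sol hG hM.1) hσM
  have hPX : P ≤ normalizer (X : Set G) :=
    (le_centralizer_iff.mp hXP).trans (centralizer_le_normalizer _)
  obtain ⟨S0, hXS0, hPS0⟩ := Cfsg.Agent.S0025.result P (sigmaCore M) hPσ hcop (Or.inr hsolσ) q X
    hXσ hXg hPX
  set S : Subgroup G := (S0 : Subgroup (sigmaCore M)).map (sigmaCore M).subtype with hSdef
  have hS : IsSyl q S (sigmaCore M) := isSyl_of_sylow S0
  obtain ⟨E, hE, hPE, hES⟩ := Cfsg.Agent.Lib.Helper11BG13complnorm.exists_compl_normalizing hG hM hS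
    hPM hPS0 (by
      intro k hk hd
      rw [hP] at hd
      rw [(Nat.prime_dvd_prime_iff_eq hk hp.1).mp hd]
      exact hp.2.1)
  by_cases hEX : E ≤ centralizer (X : Set G)
  · apply fin
    right
    exact (le_inf hXσ (le_centralizer_iff.mp hEX)).trans (Cfsg.Agent.S1426.result hG M hM E hE).1
  have h1 : ¬ (E ⊓ centralizer (P : Set G) ≤ centralizer (X : Set G)) := by
    intro h
    apply hEX
    refine (Cfsg.Agent.Lib.H2BG13bSplit.compl_le_derived_sup_cent hG hM hE hp hPE hP).trans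
      (sup_le ?_ h)
    exact (Cfsg.Agent.Lib.H2BG13bSplit.derived_compl_centralizes hG hM hE hqσ hβ hS hES).trans
      (centralizer_le hXS0)
  have h2 : ∃ t : ℕ, ∃ _ : Fact t.Prime, ∀ T : Subgroup G,
      IsSyl t T (E ⊓ centralizer (P : Set G)) → ¬ T ≤ centralizer (X : Set G) := by
    by_contra hcon
    push Not at hcon
    exact h1 (Cfsg.Agent.Lib.Helper37BGPartA.le_of_forall_isSyl hcon)
  obtain ⟨t, htp, hT0⟩ := h2
  obtain ⟨T, hT, -⟩ := exists_isSyl_ge (p := t)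
    (bot_le : (⊥ : Subgroup G) ≤ E ⊓ centralizer (P : Set G)) IsPGroup.of_bot
  have hTX : ¬ T ≤ centralizer (X : Set G) := hT0 T hT
  have hT1 : T ≠ ⊥ := by
    rintro rfl
    exact hTX bot_le
  have htT : t ∣ Nat.card T := by
    obtain ⟨n, hn⟩ := IsPGroup.iff_card.mp hT.2.1
    rcases Nat.eq_zero_or_pos n with rfl | hn0
    · exfalso
      apply hT1
      rw [pow_zero] at hn
      exact card_eq_one.mp hn
    · rw [hn]
      exact dvd_pow_self t hn0.ne'
  obtain ⟨z, hzT, hz1, hzc⟩ := Cfsg.Agent.Lib.Helper37BGPartA.exists_card_prime_le htT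
  set R : Subgroup G := zpowers z with hR
  have hRT : R ≤ T := by
    rw [hR, zpowers_le]
    exact hzT
  have hRE : R ≤ E ⊓ centralizer (P : Set G) := hRT.trans hT.1
  have h28 := Cfsg.Agent.S1428.result hG M hM E hE p hp P hPE hP R hRE (by rw [hzc]; exact htp.out)
  have hXR : X ≤ sigmaCore M ⊓ centralizer (R : Set G) := hX.trans h28
  have htE : t ∣ Nat.card E := htT.trans (card_dvd_of_le (hT.1.trans inf_le_left))
  have htσ : t ∉ sigma M :=
    Cfsg.Agent.Lib.Helper31BGS.not_mem_sigma_of_dvd_compl hG hM hE htp.out htE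
  by_cases hr1 : PRankLE t 1 M
  · exfalso
    obtain ⟨T₁, hT₁, hTT₁⟩ := exists_isSyl_ge (hT.1.trans inf_le_left) hT.2.1
    have ht2 : t ≠ 2 := ne_two hG hT.2.1 hT1
    have hcyc : IsCyclic T₁ := Cfsg.Agent.Lib.Helper27BGa.cyclic_of_rank_one ht2 hT₁.2.1
      (rank_le_of_le (hT₁.1.trans hE.1) hr1)
    have hcyc' : IsCyclic ((hT₁.toSylow : Sylow t E) : Subgroup E) := by
      have e : ↥(T₁.subgroupOf E) ≃* ↥T₁ := subgroupOfEquivOfLe hT₁.1
      exact isCyclic_of_surjective e.symm e.symm.surjective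
    have hne : ((hT₁.toSylow : Sylow t E) : Subgroup E) ≠ ⊥ := by
      intro h
      have h3 := hT₁.map_toSylow
      rw [h, Subgroup.map_bot] at h3
      apply hT1
      rw [eq_bot_iff, h3]
      exact hTT₁
    have h27 := Cfsg.Agent.S1427.result hG M hM E hE t hT₁.toSylow hne hcyc' z
      (by rw [hT₁.map_toSylow]; exact hTT₁ hzT) hz1
    rw [hT₁.map_toSylow] at h27
    have h4 : X ≤ sigmaCore M ⊓ centralizer ({z} : Set G) := by
      refine hXR.trans (inf_le_inf_left _ (centralizer_le ?_))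
      intro y hy
      rw [Set.mem_singleton_iff] at hy
      rw [hy]
      exact mem_zpowers z
    rw [h27] at h4
    exact hTX (hTT₁.trans (le_centralizer_iff.mp (h4.trans inf_le_right)))
  · have ht : t ∈ tau2 M := by
      refine ⟨htp.out, htσ, ?_, hr1⟩
      by_contra h
      exact htσ (Cfsg.Agent.Lib.Helper68BGC.alpha_sub_sigma hG hM ⟨htp.out, h⟩)
    obtain ⟨A, hAE, hAe, hA2⟩ := Cfsg.Agent.Lib.Helper90BG14normtau2.exists_sq_compl hG hM hE ht
    have hRA : R ≤ A :=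
      (Cfsg.Agent.S1418.result hG M hM E hE t ht A ⟨hAE, hAe, hA2⟩).1.2 R (hRE.trans inf_le_left) hzc
    exact Cfsg.Agent.Lib.H2BG13bOmega.omega_alpha hG hM hE hp ht hq hPE hP hAE hAe hA2 hRA hzc
      (hRE.trans inf_le_right) hX hXq

end Cfsg.Agent.Lib.H2BG13bUniq
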