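import Mathlib
import Cfsg.Agent.Lib.H2BG13bUniq
import Cfsg.Agent.Lib.Helper30BG4

/-!
PROJECT 131, piece `asyma`.
-/

set_option autoImplicit false

namespace Cfsg.Agent.Lib.H2BG13bAsymA

open Cfsg Subgroup
open Cfsg.Agent.Lib.Helper30Trans Cfsg.Agent.Lib.Helper24BG

variable {G : Type*} [Group G] [Finite G]

theorem dvd_card_of_ne_bot {r : ℕ} [Fact r.Prime] {O : Subgroup G} (hO : IsPGroup r O) (hO1 : O ≠ ⊥) :
    r ∣ Nat.card O := by
  obtain ⟨n, hn⟩ := IsPGroup.iff_card.mp hO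
  rcases Nat.eq_zero_or_pos n with rfl | hn0
  · exfalso
    apply hO1
    rw [pow_zero] at hn
    exact card_eq_one.mp hn
  · rw [hn]
    exact dvd_pow_self r hn0.ne'

theorem norm_le_of_cent_tau1 (hG : IsMinSimpleOddOrder G) {M : Subgroup G} (hM : IsCoatom M)
    {p r : ℕ} [Fact r.Prime] (hp : p ∈ tau1 M) {P O : Subgroup G} (hPM : P ≤ M)
    (hP : Nat.card P = p) (hO : IsPGroup r O) (hO1 : O ≠ ⊥)
    (hOZ : O ≤ sigmaCore M ⊓ centralizer (P : Set G)) : normalizer (O : Set G) ≤ M := by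
  have hσM : sigmaCore M ≤ M := Cfsg.Agent.Lib.Helper30BG2.sigmaCore_le M
  have hOM : O ≤ M := (hOZ.trans inf_le_left).trans hσM
  obtain ⟨z, hzO, -, hzc⟩ :=
    Cfsg.Agent.Lib.Helper37BGPartA.exists_card_prime_le (dvd_card_of_ne_bot hO hO1)
  set X : Subgroup G := zpowers z with hX
  have hXO : X ≤ O := by
    rw [hX, zpowers_le]
    exact hzO
  have hrσ : r ∈ sigma M :=
    Cfsg.Agent.Lib.Helper30BG2.card_sigmaCore hG hM r Fact.out
      (hzc ▸ card_dvd_of_le ((hXO.trans hOZ).trans inf_le_left))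
  by_cases hcyc : IsCyclic O
  · have h1 : normalizer (O : Set G) ≤ normalizer (X : Set G) :=
      Cfsg.Agent.Lib.Helper27BGa.normalizer_le_of_cyclic hcyc hXO
    have hu := (Cfsg.Agent.Lib.H2BG13bUniq.cent_tau1_uniq hG hM hp Fact.out hPM hP
      (hXO.trans hOZ) hzc).1
    have hX1 : X ≠ ⊥ := Cfsg.Agent.Lib.Helper30BG2.ne_bot_of_card_prime hzc
    have hXt : X ≠ ⊤ := fun h' => hM.1 (eq_top_iff.mpr (h' ▸ (hXO.trans hOM)))
    obtain ⟨L, hL, hNL⟩ := exists_coatom (norm_ne_top hG hX1 hXt)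
    have : L = M := hu.2 L hL ((centralizer_le_normalizer _).trans hNL)
    exact h1.trans (this ▸ hNL)
  · exact Cfsg.Agent.Lib.Helper30BG.norm_le_of_noncyclic hG hM hrσ hO hOM hcyc

theorem isSyl_cent_tau1 (hG : IsMinSimpleOddOrder G) {M : Subgroup G} (hM : IsCoatom M)
    {p r : ℕ} [Fact r.Prime] (hp : p ∈ tau1 M) {P R₀ : Subgroup G} (hPM : P ≤ M)
    (hP : Nat.card P = p) (hR : IsSyl r R₀ (sigmaCore M ⊓ centralizer (P : Set G)))
    (hR1 : R₀ ≠ ⊥) : IsSyl r R₀ (centralizer (P : Set G)) := by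
  refine ⟨hR.1.trans inf_le_right, hR.2.1, ?_⟩
  intro Q hQC hQ hle
  by_contra hne
  have hlt : R₀ < Q := lt_of_le_of_ne hle (fun h => hne h.symm)
  have hgrow := exists_lt_normalizer hQ hlt
  have hN : normalizer (R₀ : Set G) ≤ M := norm_le_of_cent_tau1 hG hM hp hPM hP hR.2.1 hR1 hR.1
  have hrσ : r ∈ sigma M :=
    Cfsg.Agent.Lib.Helper30BG2.card_sigmaCore hG hM r Fact.out
      ((dvd_card_of_ne_bot hR.2.1 hR1).trans (card_dvd_of_le (hR.1.trans inf_le_left)))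
  have hg : IsPGroup r ↥(Q ⊓ normalizer (R₀ : Set G)) := hQ.to_le inf_le_left
  have h1 : Q ⊓ normalizer (R₀ : Set G) ≤ sigmaCore M :=
    Cfsg.Agent.Lib.Helper30BG2.pgroup_le_sigmaCore hG hM hrσ hg (inf_le_right.trans hN)
  have h2 := hR.2.2 (Q ⊓ normalizer (R₀ : Set G)) (le_inf h1 (inf_le_left.trans hQC)) hg hgrow.le
  exact hgrow.ne h2.symm

end Cfsg.Agent.Lib.H2BG13bAsymA
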