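import Mathlib
import Cfsg.Agent.Lib.H2BG13bAsymA
import Cfsg.Agent.Lib.Helper21BGExcbasic
import Cfsg.Agent.Lib.Helper37BG
import Cfsg.Agent.Lib.Helper37BGPart
import Cfsg.Agent.Lib.Helper14BG13qtau2
import Cfsg.Agent.Lib.Helper24BGAsym
import Cfsg.Agent.Lib.Helper38BG13classify
import Cfsg.Agent.Lib.Helper27BGa
import Cfsg.Agent.Lib.Helper24BG2
import Cfsg.Agent.Lib.Helper30BG
import Cfsg.Agent.Lib.Helper65RelHall

/-!
PROJECT 131, piece `asymb`.
-/

set_option autoImplicit false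

namespace Cfsg.Agent.Lib.H2BG13bAsymB

open Cfsg Subgroup
open Cfsg.Agent.Lib.Helper30Trans Cfsg.Agent.Lib.Helper24BG

variable {G : Type*} [Group G]

theorem cj_le_centralizer {A B : Subgroup G} (k : G) (h : A ≤ centralizer (B : Set G)) :
    cj k A ≤ centralizer ((cj k B : Subgroup G) : Set G) := by
  intro x hx
  rw [mem_cj] at hx
  rw [mem_centralizer_iff]
  intro y hy
  have hy' : k⁻¹ * y * k ∈ B := mem_cj.1 hy
  have h1 := mem_centralizer_iff.1 (h hx) _ hy'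
  have e : k * ((k⁻¹ * y * k) * (k⁻¹ * x * k)) * k⁻¹ = k * ((k⁻¹ * x * k) * (k⁻¹ * y * k)) * k⁻¹ := by
    rw [h1]
  have e1 : k * ((k⁻¹ * y * k) * (k⁻¹ * x * k)) * k⁻¹ = y * x := by group
  have e2 : k * ((k⁻¹ * x * k) * (k⁻¹ * y * k)) * k⁻¹ = x * y := by group
  rw [e1, e2] at e
  exact e

theorem cj_eq_of_mem_centralizer {P : Subgroup G} {c : G} (hc : c ∈ centralizer (P : Set G)) :
    cj c P = P :=
  cj_eq_self_of_mem_normalizer (centralizer_le_normalizer _ hc)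

theorem cj_ne_bot' {A : Subgroup G} (h : A ≠ ⊥) (k : G) : cj k A ≠ ⊥ := by
  intro h'
  apply h
  have h1 := congrArg (cj k⁻¹) h'
  rw [cj_inv_cj] at h1
  rw [h1]
  exact Subgroup.map_bot _

variable [Finite G]

theorem asym2_aux (hG : IsMinSimpleOddOrder G) {M H E : Subgroup G} (hM : IsCoatom M)
    (hH : IsCoatom H) (nc : ∀ g : G, H ≠ cj g M) (hE : IsComplIn E (sigmaCore M) M) (hEH : E ≤ H)
    {p : ℕ} [Fact p.Prime] (hpM : p ∈ tau1 M) (hpH : p ∈ tau1 H) {P : Subgroup G} (hPE : P ≤ E)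
    (hP : Nat.card P = p) (h2 : sigmaCore H ⊓ M ⊓ centralizer (P : Set G) = ⊥)
    {r rs : ℕ} [Fact r.Prime] [Fact rs.Prime] {O Rs : Subgroup G} (hO : IsPGroup r O) (hO1 : O ≠ ⊥)
    (hOZ : O ≤ sigmaCore M ⊓ centralizer (P : Set G)) (hRs : IsPGroup rs Rs) (hRs1 : Rs ≠ ⊥)
    (hRsZ : Rs ≤ sigmaCore H ⊓ centralizer (P : Set G)) {c : G}
    (hc : c ∈ centralizer (P : Set G)) (hn : cj c Rs ≤ normalizer (O : Set G)) : False := by
  have hPM : P ≤ M := hPE.trans hE.1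
  have hPH : P ≤ H := hPE.trans hEH
  have hNO : normalizer (O : Set G) ≤ M :=
    Cfsg.Agent.Lib.H2BG13bAsymA.norm_le_of_cent_tau1 hG hM hpM hPM hP hO hO1 hOZ
  have hRstM : cj c Rs ≤ M := hn.trans hNO
  have hRstC : cj c Rs ≤ centralizer (P : Set G) := by
    have h1 := cj_le_centralizer c (hRsZ.trans inf_le_right)
    rwa [cj_eq_of_mem_centralizer hc] at h1
  have hrsH : rs ∈ sigma H :=
    Cfsg.Agent.Lib.Helper2BGb.card_sigmaCore H rs Fact.out
      (dvd_card_of_pgroup hRs hRs1 (hRsZ.trans inf_le_left))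
  have hrsM : rs ∉ sigma M := fun h => by
    obtain ⟨g, hg⟩ := Cfsg.Agent.Lib.Helper37BGPart.sigma_conj hG hM hH h hrsH
    exact nc g hg
  have hpσ : p ∉ sigma M := hpM.2.1
  have hYM : cj c Rs ⊔ P ≤ M := sup_le hRstM hPM
  have hYcard : Nat.card (cj c Rs ⊔ P : Subgroup G) ∣ Nat.card Rs * p := by
    have h1 := Cfsg.Agent.Lib.Helper65RelHall.card_sup_mul_card_inf (cj c Rs) P
      (hRstC.trans (centralizer_le_normalizer _))
    rw [card_cj, hP] at h1
    exact Dvd.intro _ h1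
  have hYcop : (Nat.card (cj c Rs ⊔ P : Subgroup G)).Coprime (Nat.card (sigmaCore M)) := by
    apply Nat.Coprime.coprime_dvd_left hYcard
    apply Nat.Coprime.mul_left
    · obtain ⟨k, hk⟩ := IsPGroup.iff_card.mp hRs
      rw [hk]
      apply Nat.Coprime.pow_left
      rw [Nat.Prime.coprime_iff_not_dvd Fact.out]
      exact fun h => hrsM (Cfsg.Agent.Lib.Helper2BGb.card_sigmaCore M rs Fact.out h)
    · rw [Nat.Prime.coprime_iff_not_dvd Fact.out]
      exact fun h => hpσ (Cfsg.Agent.Lib.Helper2BGb.card_sigmaCore M p Fact.out h)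
  obtain ⟨m, hmM, hmY⟩ := Cfsg.Agent.Lib.Helper37BG.conj_into (sol hG hM.1)
    (Cfsg.Agent.Lib.Helper2BGb.sigmaCore_le M) (Cfsg.Agent.Lib.Helper2BGb.le_normalizer_sigmaCore M)
    hE.1 (by
      intro x hx
      obtain ⟨a, ha, b, hb, rfl⟩ := hE.2.2.2 x hx
      exact mul_mem (mem_sup_right ha) (mem_sup_left hb))
    (Cfsg.Agent.Lib.Helper14BG13qtau2.coprime_relIndex_sigmaCore hG hM) hYM hYcop
  have hmR : cj m (cj c Rs) ≤ E := (cj_mono le_sup_left).trans hmY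
  have hmP : cj m P ≤ E := (cj_mono le_sup_right).trans hmY
  have hW : cj (m * c) Rs = cj m (cj c Rs) := cj_mul m c Rs
  obtain ⟨X₀, hX₀R, hX₀c⟩ := Cfsg.Agent.Lib.Helper24BGAsym.exists_card_prime_le hRs hRs1
  have hCX := (Cfsg.Agent.Lib.H2BG13bUniq.cent_tau1_uniq hG hH hpH (Fact.out : rs.Prime) hPH hP
    (hX₀R.trans hRsZ) hX₀c).1.1
  have hmcH : m * c ∈ H := by
    have h1 : (m * c)⁻¹ ∈ H := by
      apply Cfsg.Agent.Lib.Helper30BG.mem_of_le_cj hG hH hrsH (hRs.to_le hX₀R)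
        (hX₀R.trans (hRsZ.trans (inf_le_left.trans (Cfsg.Agent.Lib.Helper2BGb.sigmaCore_le H)))) hCX
      rw [← cj_le_iff]
      refine (cj_mono hX₀R).trans ?_
      rw [hW]
      exact hmR.trans hEH
    simpa using inv_mem h1
  have hWσ : cj (m * c) Rs ≤ sigmaCore H :=
    Cfsg.Agent.Lib.Helper37BG.cj_le_of_mem_normalizer
      (Cfsg.Agent.Lib.Helper2BGb.le_normalizer_sigmaCore H hmcH) (hRsZ.trans inf_le_left)
  have hWE : cj (m * c) Rs ≤ E := by rw [hW]; exact hmR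
  have hWC : cj (m * c) Rs ≤ centralizer ((cj m P : Subgroup G) : Set G) := by
    rw [hW]; exact cj_le_centralizer m hRstC
  have hPp : IsPGroup p P := IsPGroup.of_card (n := 1) (by rw [hP, pow_one])
  have hP1 : P ≠ ⊥ := by
    rintro rfl
    rw [Subgroup.card_bot] at hP
    exact (Fact.out : p.Prime).one_lt.ne hP
  obtain ⟨T, hT, hPT⟩ := exists_isSyl_ge hPE hPp
  obtain ⟨e, heE, heT⟩ := Cfsg.Agent.Lib.Helper24BG2.exists_cj_le hT (hPp.map _) hmP
  have hrank : PRankLE p 1 M := hpM.2.2.2.2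
  have hTcyc : IsCyclic T := Cfsg.Agent.Lib.Helper27BGa.cyclic_of_rank_one (ne_two hG hPp hP1) hT.2.1
    (rank_le_of_le (hT.1.trans hE.1) hrank)
  have heq : cj e (cj m P) = P := by
    apply Cfsg.Agent.Lib.Helper38BG13classify.eq_of_rank_one hrank hPM ((heT.trans hT.1).trans hE.1) hP
      (by rw [card_cj, card_cj, hP])
    intro x hx
    rw [mem_centralizer_iff]
    intro y hy
    letI := IsCyclic.commGroup (α := T)
    have h1 := mul_comm (⟨y, hPT hy⟩ : T) ⟨x, heT hx⟩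
    exact congrArg Subtype.val h1
  have hfin : cj e (cj (m * c) Rs) ≤ sigmaCore H ⊓ M ⊓ centralizer (P : Set G) := by
    refine le_inf (le_inf ?_ ?_) ?_
    · exact Cfsg.Agent.Lib.Helper37BG.cj_le_of_mem_normalizer
        (Cfsg.Agent.Lib.Helper2BGb.le_normalizer_sigmaCore H (hEH heE)) hWσ
    · exact (Cfsg.Agent.Lib.Helper37BG.cj_le_of_mem_normalizer (le_normalizer heE) hWE).trans hE.1
    · have h1 := cj_le_centralizer e hWC
      rwa [heq] at h1
  rw [h2] at hfin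
  exact cj_ne_bot' (cj_ne_bot' hRs1 _) _ (le_bot_iff.1 hfin)

end Cfsg.Agent.Lib.H2BG13bAsymB
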