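import Mathlib
import Cfsg.Agent.Lib.H2BG13bAsymB
import Cfsg.Agent.Lib.Helper37BGPartA
import Cfsg.Agent.Lib.Helper31BGS
import Cfsg.Agent.Lib.Helper30BG4
import Cfsg.Agent.Lib.Helper37Cores

/-!
PROJECT 131, piece `asym` (the asymmetry argument of B-G 13.8 in the form needed for 13.10).
-/

set_option autoImplicit false

namespace Cfsg.Agent.Lib.H2BG13bAsym

open Cfsg Subgroup
open Cfsg.Agent.Lib.Helper30Trans Cfsg.Agent.Lib.Helper24BG

variable {G : Type*} [Group G] [Finite G]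

/-- a normal `t`-subgroup lies in every Sylow `t`-subgroup -/
theorem normal_le_isSyl {t : ℕ} [Fact t.Prime] {O T J : Subgroup G} (hT : IsSyl t T J)
    (hO : IsPGroup t O) (hOJ : O ≤ J) (hn : J ≤ normalizer (O : Set G)) : O ≤ T := by
  obtain ⟨g, hg, h⟩ := Cfsg.Agent.Lib.Helper24BG2.exists_cj_le hT hO hOJ
  rwa [cj_eq_self_of_mem_normalizer (hn hg)] at h

/-- a nontrivial solvable subgroup has a nontrivial normal subgroup of prime power order -/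
theorem exists_normal_pgroup {J : Subgroup G} (hs : Group.IsSolvable J) (hJ : J ≠ ⊥) :
    ∃ (t : ℕ) (O : Subgroup G), t.Prime ∧ O ≤ J ∧ J ≤ normalizer (O : Set G) ∧ O ≠ ⊥ ∧
      IsPGroup t O := by
  have hs' : Group.IsSolvable (⊤ : Subgroup J) :=
    Group.isSolvable_of_isSolvable_injective (f := (⊤ : Subgroup J).subtype) Subtype.val_injective
  have hne : (⊤ : Subgroup J) ≠ ⊥ := by
    intro h
    apply hJ
    rw [eq_bot_iff]
    intro x hx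
    have h1 : (⟨x, hx⟩ : J) ∈ (⊤ : Subgroup J) := mem_top _
    rw [h, mem_bot] at h1
    exact congrArg Subtype.val h1
  obtain ⟨t, N, ht, hN, -, hN1, hNt⟩ :=
    Cfsg.Agent.Lib.Helper65RelHall.exists_normal_pgroup_le (⊤ : Subgroup J) hs' hne
  refine ⟨t, N.map J.subtype, ht, map_subtype_le _,
    Cfsg.Agent.Lib.Helper37Cores.le_normalizer_map_subtype N, ?_, hNt.map _⟩
  intro h
  exact hN1 ((Subgroup.map_eq_bot_iff_of_injective _ J.subtype_injective).1 h)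

theorem asym2 (hG : IsMinSimpleOddOrder G) {M H E F : Subgroup G} (hM : IsCoatom M)
    (hH : IsCoatom H) (nc : ∀ g : G, H ≠ cj g M) (hE : IsComplIn E (sigmaCore M) M)
    (hF : IsComplIn F (sigmaCore H) H) (hEH : E ≤ H) (hFM : F ≤ M)
    {p : ℕ} [Fact p.Prime] (hpM : p ∈ tau1 M) (hpH : p ∈ tau1 H) {P : Subgroup G} (hPE : P ≤ E)
    (hPF : P ≤ F) (hP : Nat.card P = p)
    (hZ : sigmaCore M ⊓ centralizer (P : Set G) ≠ ⊥)
    (hZH : sigmaCore H ⊓ centralizer (P : Set G) ≠ ⊥)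
    (h1 : sigmaCore M ⊓ H ⊓ centralizer (P : Set G) = ⊥)
    (h2 : sigmaCore H ⊓ M ⊓ centralizer (P : Set G) = ⊥) : False := by
  have hPM : P ≤ M := hPE.trans hE.1
  have hPH : P ≤ H := hPF.trans hF.1
  obtain ⟨r, hr, hrd⟩ := Nat.exists_prime_and_dvd
    (n := Nat.card (sigmaCore M ⊓ centralizer (P : Set G) : Subgroup G))
    (fun h => hZ (card_eq_one.mp h))
  obtain ⟨rs, hrs, hrsd⟩ := Nat.exists_prime_and_dvd
    (n := Nat.card (sigmaCore H ⊓ centralizer (P : Set G) : Subgroup G))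
    (fun h => hZH (card_eq_one.mp h))
  haveI := Fact.mk hr
  haveI := Fact.mk hrs
  obtain ⟨R₀, hR₀, -⟩ := exists_isSyl_ge (p := r)
    (bot_le : ⊥ ≤ sigmaCore M ⊓ centralizer (P : Set G)) IsPGroup.of_bot
  obtain ⟨Rs₀, hRs₀, -⟩ := exists_isSyl_ge (p := rs)
    (bot_le : ⊥ ≤ sigmaCore H ⊓ centralizer (P : Set G)) IsPGroup.of_bot
  have hR₀1 : R₀ ≠ ⊥ := Cfsg.Agent.Lib.Helper30BG4.isSyl_ne_bot hR₀ hrd
  have hRs₀1 : Rs₀ ≠ ⊥ := Cfsg.Agent.Lib.Helper30BG4.isSyl_ne_bot hRs₀ hrsd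
  have hR₀C : IsSyl r R₀ (centralizer (P : Set G)) :=
    Cfsg.Agent.Lib.H2BG13bAsymA.isSyl_cent_tau1 hG hM hpM hPM hP hR₀ hR₀1
  have hRs₀C : IsSyl rs Rs₀ (centralizer (P : Set G)) :=
    Cfsg.Agent.Lib.H2BG13bAsymA.isSyl_cent_tau1 hG hH hpH hPH hP hRs₀ hRs₀1
  have hrM : r ∈ sigma M := Cfsg.Agent.Lib.Helper2BGb.card_sigmaCore M r hr
    (hrd.trans (card_dvd_of_le inf_le_left))
  have hrsH : rs ∈ sigma H := Cfsg.Agent.Lib.Helper2BGb.card_sigmaCore H rs hrs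
    (hrsd.trans (card_dvd_of_le inf_le_left))
  have nc' : ∀ g : G, M ≠ cj g H := by
    intro g hg
    apply nc g⁻¹
    rw [hg, cj_inv_cj]
  have hP1 : P ≠ ⊥ := by
    rintro rfl
    rw [Subgroup.card_bot] at hP
    exact (Fact.out : p.Prime).one_lt.ne hP
  have hPtop : P ≠ ⊤ := by
    rintro rfl
    exact hM.1 (top_le_iff.1 hPM)
  have hCtop : centralizer (P : Set G) ≠ ⊤ := by
    intro h
    apply norm_ne_top hG hP1 hPtop
    rw [eq_top_iff, ← h]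
    exact centralizer_le_normalizer _
  have hCs := sol hG hCtop
  obtain ⟨J, hJ, hR₀J⟩ := Cfsg.Agent.Lib.Helper37BGPartA.exists_hallOf_ge hCs ({r, rs} : Set ℕ) hR₀C.1
    (by
      intro q hq hqd
      left
      exact Cfsg.Agent.Lib.Helper37BGPartA.prime_eq_of_dvd_card hR₀.2.1 hq hqd)
  obtain ⟨T, hT, -⟩ := exists_isSyl_ge (p := rs) (bot_le : ⊥ ≤ J) IsPGroup.of_bot
  have hTC : IsSyl rs T (centralizer (P : Set G)) :=
    Cfsg.Agent.Lib.Helper31BGS.isSyl_of_not_dvd_relIndex hT hJ.1 (hJ.2.2 rs hrs (by right; rfl))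
  obtain ⟨c, hcC, hcT⟩ := Cfsg.Agent.Lib.Helper24BG2.exists_cj_le hTC hRs₀C.2.1 hRs₀C.1
  have hTeq : cj c⁻¹ T = Rs₀ := by
    apply hRs₀C.2.2 _ _ (hT.2.1.map _) (cj_le_iff.1 hcT)
    exact Cfsg.Agent.Lib.Helper37BG.cj_le_of_mem_normalizer (le_normalizer (inv_mem hcC)) hTC.1
  have hJs : Group.IsSolvable J :=
    Group.isSolvable_of_isSolvable_injective (f := inclusion hJ.1) (inclusion_injective hJ.1)
  have hJ1 : J ≠ ⊥ := by
    rintro rfl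
    exact hR₀1 (le_bot_iff.1 hR₀J)
  obtain ⟨t, O, ht, hOJ, hJO, hO1, hOt⟩ := exists_normal_pgroup hJs hJ1
  haveI := Fact.mk ht
  have htJ : t ∈ ({r, rs} : Set ℕ) := hJ.2.1 t ht (dvd_card_of_pgroup hOt hO1 hOJ)
  rcases htJ with rfl | htrs
  · have hOR : O ≤ R₀ := normal_le_isSyl (hR₀C.mono hR₀J hJ.1) hOt hOJ hJO
    exact Cfsg.Agent.Lib.H2BG13bAsymB.asym2_aux hG hM hH nc hE hEH hpM hpH hPE hP h2 hOt hO1
      (hOR.trans hR₀.1) hRs₀.2.1 hRs₀1 hRs₀.1 hcC ((hcT.trans hT.1).trans hJO)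
  · have htrs' : t = rs := htrs
    subst htrs'
    have hOT : O ≤ T := normal_le_isSyl hT hOt hOJ hJO
    have hO' : cj c⁻¹ O ≤ Rs₀ := by
      rw [← hTeq]
      exact cj_mono hOT
    have hn : cj c⁻¹ R₀ ≤ normalizer ((cj c⁻¹ O : Subgroup G) : Set G) := by
      rw [← Cfsg.Agent.Lib.Helper37BG.cj_normalizer]
      exact cj_mono (hR₀J.trans hJO)
    exact Cfsg.Agent.Lib.H2BG13bAsymB.asym2_aux hG hH hM nc' hF hFM hpH hpM hPF hP h1 (hOt.map _)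
      (Cfsg.Agent.Lib.H2BG13bAsymB.cj_ne_bot' hO1 _)
      (hO'.trans hRs₀.1) hR₀.2.1 hR₀1 hR₀.1 (inv_mem hcC) hn

end Cfsg.Agent.Lib.H2BG13bAsym
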