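import Mathlib
import Cfsg.Agent.Lib.H2BG13bDefs
import Cfsg.Agent.Lib.Helper37BGPart
import Cfsg.Agent.Lib.Helper30BG13B
import Cfsg.Agent.Lib.Helper38BG13primeclass
import Cfsg.Agent.Lib.Helper38BG13classify
import Cfsg.Agent.Lib.Helper90BG14normtau2
import Cfsg.Agent.S1415
import Cfsg.Agent.S1417

/-!
PROJECT 131, piece `tau3` (B-G 13.3(b), 12.6(d)).
-/

set_option autoImplicit false

namespace Cfsg.Agent.Lib.H2BG13bTau3

open Cfsg Subgroup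
open Cfsg.Agent.Lib.Helper30Trans Cfsg.Agent.Lib.Helper24BG

variable {G : Type*} [Group G] [Finite G]

/-- subgroups of `E` of prime order `q ∈ τ₃(M)` are normal in `E` and lie in `E'` -/
theorem tau3_le_normalizer (hG : IsMinSimpleOddOrder G) {M E : Subgroup G} (hM : IsCoatom M)
    (hE : IsComplIn E (sigmaCore M) M) {q : ℕ} (hq : q ∈ tau3 M) {Q : Subgroup G} (hQE : Q ≤ E)
    (hQ : Nat.card Q = q) : E ≤ normalizer (Q : Set G) ∧ Q ≤ ⁅E, E⁆ := by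
  have hEs : Group.IsSolvable E := Cfsg.Agent.Lib.Helper30SZ.solvable_of_le (sol hG hM.1) hE.1
  obtain ⟨E₃, hE₃⟩ := Cfsg.Agent.Lib.Helper37BGPartA.exists_hallOf hEs (tau3 M)
  obtain ⟨hcyc, hder, hnorm⟩ := (Cfsg.Agent.S1415.result hG M hM E hE).2.2 E₃ hE₃
  have hQE₃ : Q ≤ E₃ := by
    apply Cfsg.Agent.Lib.Helper30BG2.le_of_normal_hall hE₃.1 hnorm hQE
    rw [hQ]
    exact (Nat.Prime.coprime_iff_not_dvd hq.1).mpr (hE₃.2.2 q hq.1 hq)
  exact ⟨hnorm.trans (Cfsg.Agent.Lib.Helper27BGa.normalizer_le_of_cyclic hcyc hQE₃),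
    hQE₃.trans hder⟩

theorem tau3_cent_le (hG : IsMinSimpleOddOrder G) {M E : Subgroup G} (hM : IsCoatom M)
    (hE : IsComplIn E (sigmaCore M) M) {q r : ℕ} (hq : q ∈ tau3 M) (hr : r ∈ tau3 M)
    {Q R : Subgroup G} (hQE : Q ≤ E) (hQ : Nat.card Q = q) (hRE : R ≤ E) (hR : Nat.card R = r) :
    sigmaCore M ⊓ centralizer (R : Set G) ≤ sigmaCore M ⊓ centralizer (Q : Set G) := by
  have hqq : Fact q.Prime := ⟨hq.1⟩
  have hrr : Fact r.Prime := ⟨hr.1⟩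
  have hR1 : R ≠ ⊥ := Cfsg.Agent.Lib.Helper30BG2.ne_bot_of_card_prime hR
  have hRg : IsPGroup r R := Cfsg.Agent.Lib.Helper30BG2.isPGroup_of_card_prime hR
  have hQg : IsPGroup q Q := Cfsg.Agent.Lib.Helper30BG2.isPGroup_of_card_prime hQ
  have hRt : R ≠ ⊤ := fun h' => hM.1 (eq_top_iff.mpr (h' ▸ (hRE.trans hE.1)))
  obtain ⟨H, hH, hNH⟩ := exists_coatom (norm_ne_top hG hR1 hRt)
  have nc := Cfsg.Agent.Lib.Helper38BG13primeclass.not_conj_of_rank_one hG hM hr.2.1 hr.2.2.2 hRg hR1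
    hNH
  have hEH : E ≤ H := (tau3_le_normalizer hG hM hE hr hRE hR).1.trans hNH
  have hQd : Q ≤ ⁅H, H⁆ :=
    (tau3_le_normalizer hG hM hE hq hQE hQ).2.trans (commutator_mono hEH hEH)
  have hqH : q ∉ tau1 H := by
    intro h
    apply h.2.2.2.1
    rw [← hQ]
    exact card_dvd_of_le hQd
  have hB := Cfsg.Agent.Lib.Helper30BG13B.lemmaB hG hM hH nc hq.2.1 hqH hQg (hQE.trans hE.1)
    (hQE.trans hEH)
  refine le_inf inf_le_left ?_
  have h1 : sigmaCore M ⊓ centralizer (R : Set G) ≤ sigmaCore M ⊓ H :=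
    inf_le_inf_left _ ((centralizer_le_normalizer _).trans hNH)
  exact h1.trans (le_centralizer_iff.mp hB)

/-- B-G 13.3(b): all subgroups of prime order of `E₃` have the same centralizer in `M_σ` -/
theorem tau3_cent_eq (hG : IsMinSimpleOddOrder G) {M E : Subgroup G} (hM : IsCoatom M)
    (hE : IsComplIn E (sigmaCore M) M) {q r : ℕ} (hq : q ∈ tau3 M) (hr : r ∈ tau3 M)
    {Q R : Subgroup G} (hQE : Q ≤ E) (hQ : Nat.card Q = q) (hRE : R ≤ E) (hR : Nat.card R = r) :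
    sigmaCore M ⊓ centralizer (R : Set G) = sigmaCore M ⊓ centralizer (Q : Set G) :=
  le_antisymm (tau3_cent_le hG hM hE hq hr hQE hQ hRE hR) (tau3_cent_le hG hM hE hr hq hRE hR hQE hQ)

/-- B-G 12.6(d): if `τ₂(M) ≠ ∅` then `E₃` acts regularly on `M_σ` -/
theorem tau3_reg_of_tau2 (hG : IsMinSimpleOddOrder G) {M E : Subgroup G} (hM : IsCoatom M)
    (hE : IsComplIn E (sigmaCore M) M) {t q : ℕ} (ht : t ∈ tau2 M) (hq : q ∈ tau3 M)
    {Q : Subgroup G} (hQE : Q ≤ E) (hQ : Nat.card Q = q) :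
    sigmaCore M ⊓ centralizer (Q : Set G) = ⊥ := by
  have hqq : Fact q.Prime := ⟨hq.1⟩
  have htt : Fact t.Prime := ⟨ht.1⟩
  have hQ1 : Q ≠ ⊥ := Cfsg.Agent.Lib.Helper30BG2.ne_bot_of_card_prime hQ
  have hQg : IsPGroup q Q := Cfsg.Agent.Lib.Helper30BG2.isPGroup_of_card_prime hQ
  have hQt : Q ≠ ⊤ := fun h' => hM.1 (eq_top_iff.mpr (h' ▸ (hQE.trans hE.1)))
  obtain ⟨H, hH, hNH⟩ := exists_coatom (norm_ne_top hG hQ1 hQt)
  have hEH : E ≤ H := (tau3_le_normalizer hG hM hE hq hQE hQ).1.trans hNH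
  have hne : H ≠ M := by
    rintro rfl
    rcases Cfsg.Agent.Lib.Helper38BG13primeclass.prime_class hG hH hQg hQ1 hNH with h | h
    · exact hq.2.1 h
    · exact h.2.2.2 hq.2.2.2
  obtain ⟨A, hAE, hAe, hA2⟩ := Cfsg.Agent.Lib.Helper90BG14normtau2.exists_sq_compl hG hM hE ht
  have h17 := (Cfsg.Agent.S1417.result hG M hM t ht A ⟨hAE.trans hE.1, hAe, hA2⟩).2.2.2.2.1 H hH hne
    (hAE.trans hEH)
  rw [eq_bot_iff, ← h17]
  exact inf_le_inf_left _ ((centralizer_le_normalizer _).trans hNH)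

end Cfsg.Agent.Lib.H2BG13bTau3
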