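import Mathlib
import Cfsg.Agent.Lib.H2BG13bTau3
import Cfsg.Agent.Lib.Helper24Frob
import Cfsg.Agent.S1428

/-!
PROJECT 131, piece `frobc` (B-G 13.10(c) and the regular action of `P` on `E₃`).
-/

set_option autoImplicit false

namespace Cfsg.Agent.Lib.H2BG13bFrobC

open Cfsg Subgroup
open Cfsg.Agent.Lib.Helper30Trans Cfsg.Agent.Lib.Helper24BG

variable {G : Type*} [Group G] [Finite G]

theorem not_cent_le (hG : IsMinSimpleOddOrder G) {M E : Subgroup G} (hM : IsCoatom M)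
    (hE : IsComplIn E (sigmaCore M) M) {p q : ℕ} (hp : p ∈ tau1 M) (hq : q ∈ tau3 M)
    {P Q : Subgroup G} (hPE : P ≤ E) (hP : Nat.card P = p) (hQE : Q ≤ E) (hQ : Nat.card Q = q)
    (hnc : ¬ P ≤ centralizer (Q : Set G)) :
    ¬ (sigmaCore M ⊓ centralizer (P : Set G) ≤ centralizer (Q : Set G)) := by
  intro hle
  have hpp : Fact p.Prime := ⟨hp.1⟩
  have hqq : Fact q.Prime := ⟨hq.1⟩
  have hσM : sigmaCore M ≤ M := Cfsg.Agent.Lib.Helper30BG2.sigmaCore_le M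
  have hMσ := Cfsg.Agent.Lib.Helper30BG2.le_normalizer_sigmaCore M
  have hEQ : E ≤ normalizer (Q : Set G) :=
    (Cfsg.Agent.Lib.H2BG13bTau3.tau3_le_normalizer hG hM hE hq hQE hQ).1
  have hQ1 : Q ≠ ⊥ := Cfsg.Agent.Lib.Helper30BG2.ne_bot_of_card_prime hQ
  have hQg : IsPGroup q Q := Cfsg.Agent.Lib.Helper30BG2.isPGroup_of_card_prime hQ
  have hsolσ : Group.IsSolvable (sigmaCore M) :=
    Cfsg.Agent.Lib.Helper30SZ.solvable_of_le (sol hG hM.1) hσM
  have hreg : Q ⊓ centralizer (P : Set G) = ⊥ :=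
    Cfsg.Agent.Lib.Helper30BG2.inf_eq_bot_of_card_prime hQ
      (fun h => hnc (le_centralizer_iff.mp h))
  have hcQ : (Nat.card Q).Coprime (Nat.card (sigmaCore M)) := by
    rw [hQ]
    exact (Nat.Prime.coprime_iff_not_dvd hq.1).mpr
      (Cfsg.Agent.Lib.Helper31BGS.not_dvd_sigmaCore hG hM hq.1 hq.2.1)
  have hcP : (Nat.card P).Coprime (Nat.card (sigmaCore M)) := by
    rw [hP]
    exact (Nat.Prime.coprime_iff_not_dvd hp.1).mpr
      (Cfsg.Agent.Lib.Helper31BGS.not_dvd_sigmaCore hG hM hp.1 hp.2.1)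
  have hQC : Q ≤ centralizer (sigmaCore M : Set G) :=
    Cfsg.Agent.Lib.Helper24Frob.frob_fix hsolσ ((hQE.trans hE.1).trans hMσ)
      ((hPE.trans hE.1).trans hMσ) (hPE.trans hEQ) (by rw [hP]; exact hp.1) hcQ hcP hreg hle
  have hMQ : M ≤ normalizer (Q : Set G) := by
    intro m hm
    obtain ⟨a, ha, b, hb, rfl⟩ := hE.2.2.2 m hm
    exact (normalizer (Q : Set G)).mul_mem (hEQ ha)
      (centralizer_le_normalizer _ (le_centralizer_iff.mp hQC hb))
  have hN : normalizer (Q : Set G) = M := norm_eq hG hM hQ1 (hQE.trans hE.1) hMQ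
  rcases Cfsg.Agent.Lib.Helper38BG13primeclass.prime_class hG hM hQg hQ1 hN.le with h | h
  · exact hq.2.1 h
  · exact h.2.2.2 hq.2.2.2

/-- B-G 13.10(c) -/
theorem cent_ne_bot (hG : IsMinSimpleOddOrder G) {M E : Subgroup G} (hM : IsCoatom M)
    (hE : IsComplIn E (sigmaCore M) M) {p q : ℕ} (hp : p ∈ tau1 M) (hq : q ∈ tau3 M)
    {P Q : Subgroup G} (hPE : P ≤ E) (hP : Nat.card P = p) (hQE : Q ≤ E) (hQ : Nat.card Q = q)
    (hnc : ¬ P ≤ centralizer (Q : Set G)) : sigmaCore M ⊓ centralizer (P : Set G) ≠ ⊥ := by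
  intro h
  apply not_cent_le hG hM hE hp hq hPE hP hQE hQ hnc
  rw [h]
  exact bot_le

/-- `C_{E₃}(P) = 1` -/
theorem tau13_reg_a (hG : IsMinSimpleOddOrder G) {M E : Subgroup G} (hM : IsCoatom M)
    (hE : IsComplIn E (sigmaCore M) M) {p q r : ℕ} (hp : p ∈ tau1 M) (hq : q ∈ tau3 M)
    {P Q R : Subgroup G} (hPE : P ≤ E) (hP : Nat.card P = p) (hQE : Q ≤ E) (hQ : Nat.card Q = q)
    (hnc : ¬ P ≤ centralizer (Q : Set G)) (hr : r ∈ tau3 M) (hRE : R ≤ E) (hR : Nat.card R = r) :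
    ¬ R ≤ centralizer (P : Set G) := by
  intro hRP
  apply not_cent_le hG hM hE hp hq hPE hP hQE hQ hnc
  have h28 := Cfsg.Agent.S1428.result hG M hM E hE p hp P hPE hP R (le_inf hRE hRP)
    (by rw [hR]; exact hr.1)
  rw [Cfsg.Agent.Lib.H2BG13bTau3.tau3_cent_eq hG hM hE hq hr hQE hQ hRE hR] at h28
  exact h28.trans inf_le_right

end Cfsg.Agent.Lib.H2BG13bFrobC
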