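import Mathlib
import Cfsg.Agent.Lib.Helper37BGPartA
import Cfsg.Agent.Lib.Helper21BGExcbasic
import Cfsg.Agent.Lib.Helper29Basic
import Cfsg.Agent.Lib.Helper2BGa

/-!
# helper37: project 14 piece `kbasic` (routine API for kappa(M))
-/

set_option autoImplicit false

namespace Cfsg.Agent.Lib.Helper37BG14kbasic

open Cfsg Subgroup Pointwise
open Cfsg.Agent.Lib.Helper30Trans Cfsg.Agent.Lib.Helper24BG

variable {G : Type*} [Group G] [Finite G]

omit [Finite G] in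
theorem mem_centralizer_zpowers {x y : G} (h : x * y = y * x) :
    y ∈ centralizer ((zpowers x : Subgroup G) : Set G) := by
  rw [mem_centralizer_iff]
  rintro _ ⟨k, rfl⟩
  exact ((show Commute x y from h).zpow_left k)

omit [Finite G] in
/-- ambient description of `κ(M)` -/
theorem mem_kappa_iff {M : Subgroup G} {p : ℕ} :
    p ∈ kappa M ↔ p.Prime ∧ p ∣ Nat.card M ∧ p ∉ sigma M ∧
      ∀ S : Subgroup G, IsSyl p S M → IsCyclic S ∧
        ∃ x ∈ S, x ≠ 1 ∧ ∃ y ∈ sigmaCore M, y ≠ 1 ∧ x * y = y * x := by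
  constructor
  · rintro ⟨h1, h2, h3, h4⟩
    refine ⟨h1, h2, h3, ?_⟩
    intro S hS
    obtain ⟨hc, x, hx, hx1, y, hy, hy1, hxy⟩ := h4 hS.toSylow
    refine ⟨?_, x, mem_subgroupOf.mp hx, fun h => hx1 (Subtype.ext h), y, hy, hy1, hxy⟩
    have e : (S.subgroupOf M) ≃* S := subgroupOfEquivOfLe hS.1
    have hc' : IsCyclic (S.subgroupOf M) := hc
    exact isCyclic_of_surjective e e.surjective
  · rintro ⟨h1, h2, h3, h4⟩
    refine ⟨h1, h2, h3, ?_⟩
    intro P
    obtain ⟨hc, x, hx, hx1, y, hy, hy1, hxy⟩ := h4 _ (isSyl_of_sylow P)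
    obtain ⟨x', hx', rfl⟩ := hx
    refine ⟨?_, x', hx', fun h => hx1 (by rw [h]; rfl), y, hy, hy1, hxy⟩
    have e := (P : Subgroup M).equivMapOfInjective M.subtype M.subtype_injective
    exact isCyclic_of_surjective e.symm e.symm.surjective

theorem rank_one_of_kappa {M : Subgroup G} {p : ℕ} (hp : p ∈ kappa M) : PRankLE p 1 M := by
  obtain ⟨h1, h2, h3, h4⟩ := mem_kappa_iff.mp hp
  have := Fact.mk h1
  obtain ⟨S, hS, -⟩ := exists_isSyl_ge (p := p) (bot_le : ⊥ ≤ M) (IsPGroup.of_bot)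
  have := (h4 S hS).1
  exact Cfsg.Agent.Lib.Helper27BGa.rank_of_isSyl hS (rank_one_of_cyclic h1.pos)

theorem kappa_cases {M : Subgroup G} {p : ℕ} (hp : p ∈ kappa M) : p ∈ tau1 M ∨ p ∈ tau3 M := by
  have hr := rank_one_of_kappa hp
  obtain ⟨h1, h2, h3, -⟩ := hp
  by_cases h : p ∣ Nat.card ↥⁅M, M⁆
  · exact Or.inr ⟨h1, h3, h, hr⟩
  · exact Or.inl ⟨h1, h3, h2, h, hr⟩

theorem kappa_not_tau2 {M : Subgroup G} {p : ℕ} (hp : p ∈ kappa M) : p ∉ tau2 M :=
  fun h => h.2.2.2 (rank_one_of_kappa hp)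

/-- every subgroup of order `p ∈ κ(M)` of `M` centralizes a non-identity element of `M_σ` -/
theorem not_reg_of_kappa {M : Subgroup G} {p : ℕ} (hp : p ∈ kappa M) {P : Subgroup G} (hPM : P ≤ M)
    (hP : Nat.card P = p) : sigmaCore M ⊓ centralizer (P : Set G) ≠ ⊥ := by
  obtain ⟨h1, h2, h3, h4⟩ := mem_kappa_iff.mp hp
  have := Fact.mk h1
  have hPp : IsPGroup p P := IsPGroup.of_card (n := 1) (by rw [hP, pow_one])
  obtain ⟨S, hS, hPS⟩ := exists_isSyl_ge hPM hPp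
  obtain ⟨hc, x, hx, hx1, y, hy, hy1, hxy⟩ := h4 S hS
  have hxS : zpowers x ≤ S := zpowers_le.mpr hx
  have hxb : zpowers x ≠ ⊥ := fun h => hx1 (zpowers_eq_bot.mp h)
  have hd : p ∣ Nat.card (zpowers x) := dvd_card_of_pgroup (hS.2.1.to_le hxS) hxb le_rfl
  obtain ⟨z, hz, -, hzc⟩ := Cfsg.Agent.Lib.Helper37BGPartA.exists_card_prime_le hd
  have hzx : zpowers z ≤ zpowers x := zpowers_le.mpr hz
  have hPz : P = zpowers z :=
    Cfsg.Agent.Lib.Helper29Basic.eq_of_card_eq_of_le_cyclic hc hPS (hzx.trans hxS) (by rw [hP, hzc])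
  intro hbot
  apply hy1
  have : y ∈ sigmaCore M ⊓ centralizer (P : Set G) := by
    refine mem_inf.mpr ⟨hy, ?_⟩
    have h5 : y ∈ centralizer ((zpowers x : Subgroup G) : Set G) := mem_centralizer_zpowers hxy
    rw [hPz]
    exact centralizer_le (show ((zpowers z : Subgroup G) : Set G) ⊆ (zpowers x : Subgroup G) from
      hzx) h5
  rw [hbot] at this
  exact this

/-- (`hG` is needed: a Sylow subgroup of rank one is cyclic only for odd primes) -/
theorem mem_kappa_of (hG : IsMinSimpleOddOrder G) {M : Subgroup G} {p : ℕ}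
    (hp : p ∈ tau1 M ∨ p ∈ tau3 M) {P : Subgroup G}
    (hPM : P ≤ M) (hP : Nat.card P = p) (hne : sigmaCore M ⊓ centralizer (P : Set G) ≠ ⊥) :
    p ∈ kappa M := by
  have h1 : p.Prime := by rcases hp with h | h <;> exact h.1
  have h3 : p ∉ sigma M := by rcases hp with h | h <;> exact h.2.1
  have hr : PRankLE p 1 M := by
    rcases hp with h | h
    · exact h.2.2.2.2
    · exact h.2.2.2
  have := Fact.mk h1
  have hPp : IsPGroup p P := IsPGroup.of_card (n := 1) (by rw [hP, pow_one])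
  have hPb : P ≠ ⊥ := by
    intro h
    rw [h, card_bot] at hP
    exact h1.one_lt.ne hP
  have hp2 : p ≠ 2 := ne_two hG hPp hPb
  have h2 : p ∣ Nat.card M := dvd_card_of_pgroup hPp hPb hPM
  obtain ⟨y, hy, hy1⟩ : ∃ y ∈ sigmaCore M ⊓ centralizer (P : Set G), y ≠ 1 := by
    by_contra hcon
    push Not at hcon
    exact hne ((eq_bot_iff_forall _).mpr hcon)
  obtain ⟨x, hx, hx1⟩ : ∃ x ∈ P, x ≠ 1 := by
    by_contra hcon
    push Not at hcon
    exact hPb ((eq_bot_iff_forall _).mpr hcon)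
  obtain ⟨hy2, hy3⟩ := mem_inf.mp hy
  refine mem_kappa_iff.mpr ⟨h1, h2, h3, ?_⟩
  intro S hS
  refine ⟨Cfsg.Agent.Lib.Helper27BGa.cyclic_of_rank_one hp2 hS.2.1 (rank_le_of_le hS.1 hr), ?_⟩
  obtain ⟨g, hg, hle⟩ := Cfsg.Agent.Lib.Helper24BG2.exists_cj_le hS hPp hPM
  refine ⟨g * x * g⁻¹, hle (conj_mem_cj hx), ?_, g * y * g⁻¹, ?_, ?_, ?_⟩
  · intro h
    apply hx1
    have : g⁻¹ * (g * x * g⁻¹) * g = 1 := by rw [h]; group
    rw [← this]; group
  · have hn := Cfsg.Agent.Lib.Helper31BGS.le_normalizer_sigmaCore M hg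
    exact (mem_normalizer_iff.mp hn y).mp hy2
  · intro h
    apply hy1
    have : g⁻¹ * (g * y * g⁻¹) * g = 1 := by rw [h]; group
    rw [← this]; group
  · have hc : x * y = y * x := (mem_centralizer_iff.mp hy3) x hx
    calc g * x * g⁻¹ * (g * y * g⁻¹) = g * (x * y) * g⁻¹ := by group
      _ = g * (y * x) * g⁻¹ := by rw [hc]
      _ = g * y * g⁻¹ * (g * x * g⁻¹) := by group

theorem kappa_cj_le (M : Subgroup G) (g : G) : kappa M ⊆ kappa (cj g M) := by
  intro p hp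
  obtain ⟨h1, h2, h3, h4⟩ := mem_kappa_iff.mp hp
  refine mem_kappa_iff.mpr ⟨h1, by rwa [card_cj], ?_, ?_⟩
  · rwa [Cfsg.Agent.Lib.Helper21BGExcbasic.sigma_cj]
  intro S hS
  have hS' : IsSyl p (cj g⁻¹ S) M := by
    have := Cfsg.Agent.Lib.Helper2BGa.isSyl_cj hS g⁻¹
    rwa [cj_inv_cj] at this
  obtain ⟨hc, x, hx, hx1, y, hy, hy1, hxy⟩ := h4 _ hS'
  refine ⟨?_, g * x * g⁻¹, ?_, ?_, g * y * g⁻¹, ?_, ?_, ?_⟩
  · have e := S.equivMapOfInjective (MulAut.conj g⁻¹).toMonoidHom (MulAut.conj g⁻¹).injective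
    have hc' : IsCyclic (S.map (MulAut.conj g⁻¹).toMonoidHom) := hc
    exact isCyclic_of_surjective e.symm e.symm.surjective
  · have := conj_mem_cj (k := g) hx
    rwa [cj_cj_inv] at this
  · intro h
    apply hx1
    have : g⁻¹ * (g * x * g⁻¹) * g = 1 := by rw [h]; group
    rw [← this]; group
  · rw [Cfsg.Agent.Lib.Helper21BGExcbasic.sigmaCore_cj]
    exact conj_mem_cj hy
  · intro h
    apply hy1
    have : g⁻¹ * (g * y * g⁻¹) * g = 1 := by rw [h]; group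
    rw [← this]; group
  · calc g * x * g⁻¹ * (g * y * g⁻¹) = g * (x * y) * g⁻¹ := by group
      _ = g * (y * x) * g⁻¹ := by rw [hxy]
      _ = g * y * g⁻¹ * (g * x * g⁻¹) := by group

theorem kappa_cj (M : Subgroup G) (g : G) : kappa (cj g M) = kappa M := by
  apply Set.Subset.antisymm
  · have := kappa_cj_le (cj g M) g⁻¹
    rwa [cj_inv_cj] at this
  · exact kappa_cj_le M g

/-- a `κ(M)`-subgroup of `M` lies in a Hall `κ(M)`-subgroup -/
theorem exists_kappa_hall_ge (hG : IsMinSimpleOddOrder G) {M : Subgroup G} (hM : IsCoatom M)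
    {Y : Subgroup G} (hYM : Y ≤ M) (hY : ∀ p : ℕ, p.Prime → p ∣ Nat.card Y → p ∈ kappa M) :
    ∃ K : Subgroup G, IsPiHallOf (kappa M) K M ∧ Y ≤ K :=
  Cfsg.Agent.Lib.Helper37BGPartA.exists_hallOf_ge (sol hG hM.1) (kappa M) hYM hY

/-- Hall `π`-subgroups of a solvable subgroup are conjugate, ambient form -/
theorem hallOf_conj {X : Subgroup G} (hs : Group.IsSolvable X) {π : Set ℕ} {K K' : Subgroup G}
    (hK : IsPiHallOf π K X) (hK' : IsPiHallOf π K' X) : ∃ m ∈ X, K' = cj m K := by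
  obtain ⟨m, n, hmn, hco, hm, hn⟩ :=
    Cfsg.Agent.Lib.Helper70Hall.nat_pi_split (Nat.card X) Nat.card_pos.ne' π
  have key : ∀ H : Subgroup G, IsPiHallOf π H X → Nat.card (H.subgroupOf X) = m := by
    intro H hH
    have h1 : Nat.card (H.subgroupOf X) * H.relIndex X = m * n := by
      rw [← hmn]; exact (H.subgroupOf X).card_mul_index
    rw [Cfsg.Agent.Lib.Helper30SZ.card_subgroupOf_of_le hH.1] at h1 ⊢
    have hc1 : (Nat.card H).Coprime n := by
      apply Nat.coprime_of_dvd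
      intro k hk h2 h3
      exact hn k hk h3 (hH.2.1 k hk h2)
    have hc2 : (H.relIndex X).Coprime m := by
      apply Nat.coprime_of_dvd
      intro k hk h2 h3
      exact hH.2.2 k hk (hm k hk h3) h2
    apply Nat.dvd_antisymm
    · exact hc1.dvd_of_dvd_mul_right (h1 ▸ Dvd.intro _ rfl)
    · exact hc2.symm.dvd_of_dvd_mul_right (h1 ▸ Dvd.intro _ rfl)
  obtain ⟨g, hg⟩ := Cfsg.Agent.Lib.Helper12Hall.hall_conj m n hmn hco _ _ (key K hK) (key K' hK')
  refine ⟨g, g.2, ?_⟩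
  ext x
  constructor
  · intro hx
    have hx' : (⟨x, hK'.1 hx⟩ : X) ∈ K'.subgroupOf X := mem_subgroupOf.mpr hx
    rw [← hg] at hx'
    obtain ⟨y, hy, hyx⟩ := hx'
    refine ⟨y, mem_subgroupOf.mp hy, ?_⟩
    exact congrArg Subtype.val hyx
  · rintro ⟨y, hy, rfl⟩
    have hy' : (⟨y, hK.1 hy⟩ : X) ∈ K.subgroupOf X := mem_subgroupOf.mpr hy
    have : MulAut.conj g • (⟨y, hK.1 hy⟩ : X) ∈ MulAut.conj g • K.subgroupOf X :=
      Subgroup.smul_mem_pointwise_smul _ _ _ hy'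
    rw [hg] at this
    exact mem_subgroupOf.mp this

/-- Hall `κ(M)`-subgroups of `M` are conjugate in `M` -/
theorem kappa_hall_conj (hG : IsMinSimpleOddOrder G) {M : Subgroup G} (hM : IsCoatom M)
    {K K' : Subgroup G} (hK : IsPiHallOf (kappa M) K M) (hK' : IsPiHallOf (kappa M) K' M) :
    ∃ m ∈ M, K' = cj m K :=
  hallOf_conj (sol hG hM.1) hK hK'

/-- a Hall `κ(M)`-subgroup lies in a complement of `M_σ` -/
theorem exists_compl_ge_kappa (hG : IsMinSimpleOddOrder G) {M : Subgroup G} (hM : IsCoatom M)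
    {K : Subgroup G} (hK : IsPiHallOf (kappa M) K M) :
    ∃ E : Subgroup G, IsComplIn E (sigmaCore M) M ∧ K ≤ E :=
  Cfsg.Agent.Lib.Helper31BGS.exists_compl_ge hG hM hK.1 (fun p hp hd => (hK.2.1 p hp hd).2.2.1)

end Cfsg.Agent.Lib.Helper37BG14kbasic
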