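import Mathlib
import Cfsg.Agent.Lib.Helper37BGPart

/-!
# helper37: project 14 piece `primact` (prime action of a Hall tau1-subgroup)
-/

set_option autoImplicit false

namespace Cfsg.Agent.Lib.Helper37BG14primact

open Cfsg Subgroup
open Cfsg.Agent.Lib.Helper30Trans Cfsg.Agent.Lib.Helper24BG
open Cfsg.Agent.Lib.Helper31BGS Cfsg.Agent.Lib.Helper37BGPart

variable {G : Type*} [Group G] [Finite G]

theorem tau1_primact (hG : IsMinSimpleOddOrder G) {M E E₁ : Subgroup G} (hM : IsCoatom M)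
    (hE : IsComplIn E (sigmaCore M) M) (hE₁ : IsPiHallOf (tau1 M) E₁ E) :
    ∀ x ∈ E₁, x ≠ 1 →
      sigmaCore M ⊓ centralizer ({x} : Set G) = sigmaCore M ⊓ centralizer (E₁ : Set G) := by
  intro x0 hx0 hx01
  apply le_antisymm
  swap
  · exact inf_le_inf_left _ (centralizer_le (by simpa using hx0))
  obtain ⟨-, h15a, -⟩ := Cfsg.Agent.S1415.result hG M hM E hE
  have hE1c : IsCyclic E₁ := h15a E₁ hE₁
  have hcomm : ∀ a ∈ E₁, ∀ b ∈ E₁, a * b = b * a := by
    intro a ha b hb
    have := (IsCyclic.commGroup (α := E₁)).mul_comm ⟨a, ha⟩ ⟨b, hb⟩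
    exact congrArg Subtype.val this
  have hne : Nat.card (zpowers x0) ≠ 1 := by
    intro h
    have hb : zpowers x0 = ⊥ := (card_eq_one).mp h
    exact hx01 (zpowers_eq_bot.mp hb)
  obtain ⟨p, hp, hpd⟩ := Nat.exists_prime_and_dvd hne
  have := Fact.mk hp
  obtain ⟨y, hy, hy1, hyc⟩ := exists_card_prime_le hpd
  have hx0E : zpowers x0 ≤ E₁ := (zpowers_le).mpr hx0
  have hPE1 : zpowers y ≤ E₁ := ((zpowers_le).mpr hy).trans hx0E
  have hpτ : p ∈ tau1 M := hE₁.2.1 p hp (hpd.trans (card_dvd_of_le hx0E))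
  intro x hx
  obtain ⟨hx1, hx2⟩ := mem_inf.mp hx
  refine mem_inf.mpr ⟨hx1, ?_⟩
  have hx2' : x ∈ centralizer ((zpowers y : Subgroup G) : Set G) := by
    have h1 : x ∈ centralizer ((zpowers x0 : Subgroup G) : Set G) := by
      rw [mem_centralizer_iff]
      rintro _ ⟨k, rfl⟩
      exact ((show Commute x0 x from (mem_centralizer_singleton_iff.mp hx2).symm).zpow_left k)
    exact centralizer_le (show ((zpowers y : Subgroup G) : Set G) ⊆ (zpowers x0 : Subgroup G) from
      (zpowers_le).mpr hy) h1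
  have hle : E₁ ≤ centralizer ({x} : Set G) := by
    apply le_of_forall_isSyl
    intro r hr
    obtain ⟨T, hT, -⟩ := exists_isSyl_ge (p := r) (bot_le : ⊥ ≤ E₁) (IsPGroup.of_bot)
    refine ⟨T, hT, ?_⟩
    by_cases hTb : T = ⊥
    · rw [hTb]; exact bot_le
    have hrd : r ∣ Nat.card T := dvd_card_of_pgroup hT.2.1 hTb le_rfl
    have hrτ : r ∈ tau1 M := hE₁.2.1 r hr.out (hrd.trans (card_dvd_of_le hT.1))
    have hTE : IsSyl r T E := isSyl_of_not_dvd_relIndex hT hE₁.1 (hE₁.2.2 r hr.out hrτ)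
    obtain ⟨z, hz, hz1, hzc⟩ := exists_card_prime_le hrd
    have hRle : zpowers z ≤ E ⊓ centralizer ((zpowers y : Subgroup G) : Set G) := by
      rw [zpowers_le]
      refine mem_inf.mpr ⟨hTE.1 hz, ?_⟩
      rw [mem_centralizer_iff]
      intro w hw
      exact hcomm w (hPE1 hw) z (hT.1 hz)
    have h28 := Cfsg.Agent.S1428.result hG M hM E hE p hpτ (zpowers y) (hPE1.trans hE₁.1) hyc
      (zpowers z) hRle (by rw [hzc]; exact hr.out)
    have hx3 : x ∈ sigmaCore M ⊓ centralizer ((zpowers z : Subgroup G) : Set G) :=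
      h28 (mem_inf.mpr ⟨hx1, hx2'⟩)
    have hTc : IsCyclic T := isCyclic_of_le hT.1
    have hTc' : IsCyclic ((hTE.toSylow : Sylow r E) : Subgroup E) := by
      have e : (T.subgroupOf E) ≃* T := subgroupOfEquivOfLe hTE.1
      exact isCyclic_of_surjective e.symm e.symm.surjective
    have hTne : ((hTE.toSylow : Sylow r E) : Subgroup E) ≠ ⊥ := by
      intro h
      apply hTb
      rw [← hTE.map_toSylow, h, Subgroup.map_bot]
    have h27 := Cfsg.Agent.S1427.result hG M hM E hE r hTE.toSylow hTne hTc' z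
      (by rw [hTE.map_toSylow]; exact hz) hz1
    rw [hTE.map_toSylow] at h27
    have hx4 : x ∈ sigmaCore M ⊓ centralizer ({z} : Set G) := by
      refine mem_inf.mpr ⟨hx1, ?_⟩
      rw [mem_centralizer_singleton_iff]
      exact ((mem_centralizer_iff.mp (mem_inf.mp hx3).2) z (mem_zpowers z)).symm
    rw [h27] at hx4
    intro t ht
    rw [mem_centralizer_singleton_iff]
    exact ((mem_centralizer_iff.mp (mem_inf.mp hx4).2) t ht)
  rw [mem_centralizer_iff]
  intro e he
  exact (mem_centralizer_singleton_iff.mp (hle he))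

end Cfsg.Agent.Lib.Helper37BG14primact
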