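import Mathlib
import Cfsg.Agent.Lib.H2BG13bDefs
import Cfsg.Agent.Lib.Helper37BGPart
import Cfsg.Agent.Lib.Helper37BG14kbasic
import Cfsg.Agent.Lib.Helper37BG14primact
import Cfsg.Agent.Lib.Helper90BG14normtau2

/-!
PROJECT 131, bridge to PROJECT 14 (helper52), part a: re-export of the landed pieces
kbasic, primact, normtau2 of project 14.
-/

set_option autoImplicit false

namespace Cfsg.Agent.Lib.H2BG13bP14a

open Cfsg Subgroup
open Cfsg.Agent.Lib.Helper30Trans Cfsg.Agent.Lib.Helper24BG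

variable {G : Type*} [Group G] [Finite G]

theorem mem_kappa_of (hG : IsMinSimpleOddOrder G) {M : Subgroup G} {p : ℕ}
    (hp : p ∈ tau1 M ∨ p ∈ tau3 M) {P : Subgroup G}
    (hPM : P ≤ M) (hP : Nat.card P = p) (hne : sigmaCore M ⊓ centralizer (P : Set G) ≠ ⊥) :
    p ∈ kappa M :=
  Cfsg.Agent.Lib.Helper37BG14kbasic.mem_kappa_of hG hp hPM hP hne

theorem tau1_primact (hG : IsMinSimpleOddOrder G) {M E E₁ : Subgroup G} (hM : IsCoatom M)
    (hE : IsComplIn E (sigmaCore M) M) (hE₁ : IsPiHallOf (tau1 M) E₁ E) :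
    ∀ x ∈ E₁, x ≠ 1 →
      sigmaCore M ⊓ centralizer ({x} : Set G) = sigmaCore M ⊓ centralizer (E₁ : Set G) :=
  Cfsg.Agent.Lib.Helper37BG14primact.tau1_primact hG hM hE hE₁

theorem norm_tau2 (hG : IsMinSimpleOddOrder G) {M E : Subgroup G} (hM : IsCoatom M)
    (hE : IsComplIn E (sigmaCore M) M) {p : ℕ} [Fact p.Prime] (hp : p ∈ tau2 M) {A : Subgroup G}
    (hAE : A ≤ E) (hAe : IsElementaryAbelian p A) (hA2 : Nat.card A = p ^ 2) {L : Subgroup G}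
    (hL : IsCoatom L) (hNL : normalizer (A : Set G) ≤ L) :
    p ∈ sigma L ∧ p ∉ beta L ∧ M ⊓ L = E ∧ sigmaCore M ⊓ L = ⊥ ∧ (∀ g : G, L ≠ cj g M) ∧
      ∀ r ∈ tau2 M, r ∈ sigma L :=
  Cfsg.Agent.Lib.Helper90BG14normtau2.norm_tau2 hG hM hE hp hAE hAe hA2 hL hNL

end Cfsg.Agent.Lib.H2BG13bP14a
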