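import Mathlib
import Cfsg.Agent.Lib.H2BG13bDefs
import Cfsg.Agent.Lib.Helper37BGPart
import Cfsg.Agent.Lib.Helper38BG13classify
import Cfsg.Agent.Lib.Helper21BGExcbasic
import Cfsg.Agent.Lib.Helper27Core
import Cfsg.Agent.S1417

/-!
PROJECT 131, piece `tau12s` (case `p ∈ σ(M*)` of B-G 13.12).
-/

set_option autoImplicit false

namespace Cfsg.Agent.Lib.H2BG13bTau12s

open Cfsg Subgroup
open Cfsg.Agent.Lib.Helper30Trans Cfsg.Agent.Lib.Helper24BG

variable {G : Type*} [Group G] [Finite G]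

theorem tau12_case_sigma (hG : IsMinSimpleOddOrder G) {M Ms : Subgroup G} (hM : IsCoatom M)
    (hMs : IsCoatom Ms) {p q r : ℕ} [Fact p.Prime] [Fact q.Prime] [Fact r.Prime]
    (hpM : p ∈ tau1 M) (hqM : q ∈ tau2 M) (hpMs : p ∈ sigma Ms) (hqMs : q ∈ sigma Ms)
    (hinf : sigmaCore M ⊓ Ms = ⊥) {P X Z₀ : Subgroup G} (hPM : P ≤ M) (hPMs : P ≤ Ms)
    (hP : Nat.card P = p) (hX : Nat.card X = q) (hXP : X ≤ centralizer (P : Set G))
    (hXu : centralizer (X : Set G) ≤ M ∧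
      ∀ L : Subgroup G, IsCoatom L → centralizer (X : Set G) ≤ L → L = M)
    (hZ : Z₀ ≤ sigmaCore M) (hZc : Nat.card Z₀ = r) (hZP : Z₀ ≤ centralizer (P : Set G))
    (hZX : Z₀ ≤ centralizer (X : Set G)) : False := by
  have hP1 : P ≠ ⊥ := Cfsg.Agent.Lib.Helper30BG2.ne_bot_of_card_prime hP
  have hX1 : X ≠ ⊥ := Cfsg.Agent.Lib.Helper30BG2.ne_bot_of_card_prime hX
  have hZ1 : Z₀ ≠ ⊥ := Cfsg.Agent.Lib.Helper30BG2.ne_bot_of_card_prime hZc
  have hPp : IsPGroup p P := Cfsg.Agent.Lib.Helper30BG2.isPGroup_of_card_prime hP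
  have hXq : IsPGroup q X := Cfsg.Agent.Lib.Helper30BG2.isPGroup_of_card_prime hX
  have hPt : P ≠ ⊤ := fun h => hM.1 (eq_top_iff.mpr (h ▸ hPM))
  -- `X` is abelian
  have hXab : X ≤ centralizer (X : Set G) := by
    have hc : IsCyclic X := isCyclic_of_prime_card hX
    intro x hx
    rw [mem_centralizer_iff]
    intro y hy
    have := hc.isMulCommutative.is_comm.comm (⟨y, hy⟩ : X) ⟨x, hx⟩
    exact congrArg Subtype.val this
  have hPab : P ≤ centralizer (P : Set G) := by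
    have hc : IsCyclic P := isCyclic_of_prime_card hP
    intro x hx
    rw [mem_centralizer_iff]
    intro y hy
    have := hc.isMulCommutative.is_comm.comm (⟨y, hy⟩ : P) ⟨x, hx⟩
    exact congrArg Subtype.val this
  have hXM : X ≤ M := hXab.trans hXu.1
  have hXt : X ≠ ⊤ := fun h => hM.1 (eq_top_iff.mpr (h ▸ hXM))
  -- `N(X) ≤ M`
  have hNX : normalizer (X : Set G) ≤ M := by
    obtain ⟨L, hL, hNL⟩ := exists_coatom (norm_ne_top hG hX1 hXt)
    have : L = M := hXu.2 L hL ((centralizer_le_normalizer _).trans hNL)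
    exact this ▸ hNL
  obtain ⟨L, hL, hNL⟩ := exists_coatom (norm_ne_top hG hP1 hPt)
  have hCL : centralizer (P : Set G) ≤ L := (centralizer_le_normalizer _).trans hNL
  have hne : L ≠ Ms := by
    rintro rfl
    apply hZ1
    rw [eq_bot_iff, ← hinf]
    exact le_inf hZ (hZP.trans hCL)
  obtain ⟨S0, hS0, hPS0⟩ := exists_isSyl_ge (le_inf hPMs (le_normalizer.trans hNL)) hPp
  obtain ⟨hnc, -, -⟩ := Cfsg.Agent.Lib.Helper30BG.emb_abc hG hMs hpMs hPp hP1 hPMs hL hne hNL hS0 hPS0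
  have hpL : p ∉ sigma L := by
    intro h
    obtain ⟨g, hg⟩ := Cfsg.Agent.Lib.Helper37BGPart.sigma_conj hG hMs hL hpMs h
    exact hnc g hg
  obtain ⟨hpτ, hLsup, -, -⟩ := Cfsg.Agent.Lib.Helper37BG.emb_ef hG hMs hpMs hPp hP1 hPMs hL hne hNL hpL
  have hqL : q ∉ sigma L := by
    intro h
    obtain ⟨g, hg⟩ := Cfsg.Agent.Lib.Helper37BGPart.sigma_conj hG hMs hL hqMs h
    exact hnc g hg
  have hrM : r ∈ sigma M :=
    Cfsg.Agent.Lib.Helper30BG2.card_sigmaCore hG hM r (Fact.out)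
      (hZc ▸ card_dvd_of_le hZ)
  have hrL : r ∉ sigma L := by
    intro h
    obtain ⟨g, hg⟩ := Cfsg.Agent.Lib.Helper37BGPart.sigma_conj hG hM hL hrM h
    rw [hg, Cfsg.Agent.Lib.Helper38BG13classify.tau2_cj] at hpτ
    exact hpτ.2.2.2 hpM.2.2.2.2
  -- the group `W`
  set W : Subgroup G := (X ⊔ Z₀) ⊔ P with hW
  have hWL : W ≤ L := sup_le (sup_le (hXP.trans hCL) (hZP.trans hCL)) (hPab.trans hCL)
  have hd1 : Nat.card (X ⊔ Z₀ : Subgroup G) ∣ q * r := by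
    have := Cfsg.Agent.Lib.Helper27Core.card_sup_dvd (A := X) (B := Z₀)
      (hZX.trans (centralizer_le_normalizer _))
    rwa [hX, hZc] at this
  have hPn : P ≤ normalizer ((X ⊔ Z₀ : Subgroup G) : Set G) := by
    have h1 : P ≤ centralizer ((X ⊔ Z₀ : Subgroup G) : Set G) := by
      rw [le_centralizer_iff]
      exact sup_le hXP hZP
    exact h1.trans (centralizer_le_normalizer _)
  have hd2 : Nat.card W ∣ q * r * p := by
    have := Cfsg.Agent.Lib.Helper27Core.card_sup_dvd (A := X ⊔ Z₀) (B := P) hPn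
    rw [hP] at this
    exact this.trans (Nat.mul_dvd_mul_right hd1 p)
  have hcopW : (Nat.card W).Coprime (Nat.card (sigmaCore L)) := by
    apply Nat.coprime_of_dvd
    intro k hk h1 h2
    have hkL : k ∈ sigma L := Cfsg.Agent.Lib.Helper30BG2.card_sigmaCore hG hL k hk h2
    have h3 : k ∣ q * r * p := h1.trans hd2
    rcases (Nat.Prime.dvd_mul hk).mp h3 with h4 | h4
    · rcases (Nat.Prime.dvd_mul hk).mp h4 with h5 | h5
      · exact hqL (((Nat.prime_dvd_prime_iff_eq hk Fact.out).mp h5) ▸ hkL)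
      · exact hrL (((Nat.prime_dvd_prime_iff_eq hk Fact.out).mp h5) ▸ hkL)
    · exact hpL (((Nat.prime_dvd_prime_iff_eq hk Fact.out).mp h4) ▸ hkL)
  have hHall := (Cfsg.Agent.S1350.result hG L hL).1
  have hcopL : ((sigmaCore L).relIndex L).Coprime (Nat.card (sigmaCore L)) := by
    apply Nat.coprime_of_dvd
    intro k hk h1 h2
    exact hHall.2.2 k hk (hHall.2.1 k hk h2) h1
  obtain ⟨m, hm, hmW⟩ := Cfsg.Agent.Lib.Helper37BG.conj_into (X := L) (B := sigmaCore L)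
    (D := Ms ⊓ L) (Y := W) (sol hG hL.1) (Cfsg.Agent.Lib.Helper30BG2.sigmaCore_le L)
    (Cfsg.Agent.Lib.Helper30BG2.le_normalizer_sigmaCore L) inf_le_right hLsup hcopL hWL hcopW
  -- conjugate `Ms` back
  set Ms' : Subgroup G := cj m⁻¹ Ms with hMs'
  have hMs'c : IsCoatom Ms' := isCoatom_cj hMs _
  have hWMs' : W ≤ Ms' := cj_le_iff.mp (hmW.trans inf_le_left)
  have hXMs' : X ≤ Ms' := (le_sup_left.trans le_sup_left).trans hWMs'
  have hZMs' : Z₀ ≤ Ms' := (le_sup_right.trans le_sup_left).trans hWMs'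
  have hqMs' : q ∈ sigma Ms' := by
    rw [hMs', Cfsg.Agent.Lib.Helper21BGExcbasic.sigma_cj]
    exact hqMs
  have hne' : M ≠ Ms' := by
    intro h
    exact hqM.2.1 (h ▸ hqMs')
  obtain ⟨S, hS, hXS⟩ := exists_isSyl_ge (le_inf hXMs' hXM) hXq
  obtain ⟨-, -, hSM⟩ := Cfsg.Agent.Lib.Helper30BG.emb_abc hG hMs'c hqMs' hXq hX1 hXMs' hM hne' hNX hS hXS
  obtain ⟨A₀, hA₀M, hA₀e, hA₀c⟩ := Cfsg.Agent.Lib.Helper31BGS.exists_sq (p := q) hqM.2.2.2
  have hA₀p : IsPGroup q A₀ := IsPGroup.of_card hA₀c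
  obtain ⟨g, -, hg⟩ := Cfsg.Agent.Lib.Helper24BG2.exists_cj_le hSM hA₀p hA₀M
  have h17 := Cfsg.Agent.S1417.result hG M hM q hqM (cj g A₀)
    ⟨hg.trans hSM.1, elemAb_cj hA₀e g, by rw [card_cj]; exact hA₀c⟩
  have h5 := h17.2.2.2.2.1 Ms' hMs'c hne'.symm (hg.trans (hS.1.trans inf_le_left))
  apply hZ1
  rw [eq_bot_iff, ← h5]
  exact le_inf hZ hZMs'

end Cfsg.Agent.Lib.H2BG13bTau12s
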