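import Mathlib
import Cfsg.Agent.Lib.Helper90BG14normtau2
import Cfsg.Agent.Lib.Helper2BGd
import Cfsg.Agent.Lib.Helper30Gen
import Cfsg.Agent.Lib.Helper30SZ

/-! Project 14 (B-G Section 14), piece `sqfix`. -/

set_option autoImplicit false

namespace Cfsg.Agent.Lib.Helper90BG14sqfix

open Cfsg Subgroup
open scoped commutatorElement
open Cfsg.Agent.Lib.Helper30Trans Cfsg.Agent.Lib.Helper24BG Cfsg.Agent.Lib.Helper11Frobenius

variable {G : Type*} [Group G] [Finite G]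

theorem derived_le (N : Subgroup G) : ⁅N, N⁆ ≤ N :=
  Cfsg.Agent.Lib.Helper30SZ.commutator_le_of_le_normalizer le_normalizer

theorem orderOf_conj_eq (g x : G) : orderOf (g * x * g⁻¹) = orderOf x := by
  have := (MulAut.conj g).orderOf_eq x
  rwa [MulAut.conj_apply] at this

/-- the `p'`-elements of `N'` centralize the normal `p`-subgroup `A` of `N` -/
theorem comm_of_coprime {p : ℕ} [Fact p.Prime] {N A : Subgroup G} (hAN : A ≤ N)
    (hNA : N ≤ normalizer (A : Set G)) (hA : IsPGroup p A) (hnpc : HasNPC p ↥⁅N, N⁆) {w : G}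
    (hw : w ∈ ⁅N, N⁆) (hwo : (orderOf w).Coprime p) {a : G} (ha : a ∈ A) : w * a = a * w := by
  obtain ⟨W, hWn, hWc, k, hWi⟩ := hnpc
  have hDN : ⁅N, N⁆ ≤ N := derived_le N
  have hND : N ≤ normalizer ((⁅N, N⁆ : Subgroup G) : Set G) :=
    Cfsg.Agent.Lib.Helper30SZ.le_normalizer_commutator le_normalizer le_normalizer
  have hmem := fun x : ↥⁅N, N⁆ => mem_iff_coprime W hWc k hWi x
  have h1 : a * w⁻¹ * a⁻¹ ∈ ⁅N, N⁆ := (mem_normalizer_iff.mp (hND (hAN ha)) _).mp (inv_mem hw)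
  have h2 : (⟨w, hw⟩ : ↥⁅N, N⁆) ∈ W := (hmem _).mpr (by rw [Subgroup.orderOf_mk]; exact hwo)
  have h3 : (⟨a * w⁻¹ * a⁻¹, h1⟩ : ↥⁅N, N⁆) ∈ W := (hmem _).mpr (by
    rw [Subgroup.orderOf_mk, orderOf_conj_eq, orderOf_inv]; exact hwo)
  have h4 := W.mul_mem h2 h3
  have h5 : (orderOf (w * (a * w⁻¹ * a⁻¹))).Coprime p := by
    have := (hmem _).mp h4
    rwa [← Subgroup.orderOf_coe] at this
  have h6 : w * (a * w⁻¹ * a⁻¹) ∈ A := by
    have : w * (a * w⁻¹ * a⁻¹) = (w * a * w⁻¹) * a⁻¹ := by group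
    rw [this]
    exact A.mul_mem ((mem_normalizer_iff.mp (hNA (hDN hw)) a).mp ha) (A.inv_mem ha)
  obtain ⟨j, hj⟩ := hA ⟨_, h6⟩
  have h7 : orderOf (w * (a * w⁻¹ * a⁻¹)) ∣ p ^ j :=
    orderOf_dvd_of_pow_eq_one (congrArg Subtype.val hj)
  have h8 : orderOf (w * (a * w⁻¹ * a⁻¹)) = 1 := Nat.Coprime.eq_one_of_dvd (h5.pow_right j) h7
  have h9 := orderOf_eq_one_iff.mp h8
  calc w * a = (w * (a * w⁻¹ * a⁻¹)) * (a * w) := by group
    _ = a * w := by rw [h9, one_mul]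

/-- `N'` fixes a non-identity element of `A` -/
theorem fix_ne_bot {p : ℕ} [hp : Fact p.Prime] {N A : Subgroup G} (hAN : A ≤ N)
    (hNA : N ≤ normalizer (A : Set G)) (hA : IsPGroup p A) (hA1 : A ≠ ⊥)
    (hnpc : HasNPC p ↥⁅N, N⁆) : A ⊓ centralizer ((⁅N, N⁆ : Subgroup G) : Set G) ≠ ⊥ := by
  obtain ⟨P, hP, -⟩ := exists_isSyl_ge (p := p) (bot_le : (⊥ : Subgroup G) ≤ ⁅N, N⁆)
    IsPGroup.of_bot
  have hPN : P ≤ normalizer (A : Set G) := hP.1.trans ((derived_le N).trans hNA)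
  have hmod := Cfsg.Agent.Lib.Helper31BGS.card_modEq_inf_centralizer hP.2.1 hPN
  have hpA : p ∣ Nat.card A := dvd_card_of_pgroup hA hA1 le_rfl
  have hpZ : p ∣ Nat.card (A ⊓ centralizer (P : Set G) : Subgroup G) :=
    (Nat.modEq_zero_iff_dvd.mp (hmod.symm.trans (Nat.modEq_zero_iff_dvd.mpr hpA)))
  have hZ1 : A ⊓ centralizer (P : Set G) ≠ ⊥ := by
    intro h
    rw [h, card_bot] at hpZ
    exact hp.out.one_lt.ne' (Nat.dvd_one.mp hpZ)
  have hle : A ⊓ centralizer (P : Set G) ≤ A ⊓ centralizer ((⁅N, N⁆ : Subgroup G) : Set G) := by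
    apply le_inf inf_le_left
    rw [le_centralizer_iff]
    apply Cfsg.Agent.Lib.Helper30Gen.le_of_forall_sylow_le
    intro q hq
    by_cases hqp : q = p
    · subst hqp
      refine ⟨hP.toSylow, ?_⟩
      rw [hP.map_toSylow, le_centralizer_iff]
      exact inf_le_right
    · refine ⟨default, ?_⟩
      rintro _ ⟨x, hx, rfl⟩
      rw [mem_centralizer_iff]
      intro a ha
      obtain ⟨j, hj⟩ := (default : Sylow q ↥⁅N, N⁆).2 ⟨x, hx⟩
      have h1 : orderOf (x : G) ∣ q ^ j := by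
        apply orderOf_dvd_of_pow_eq_one
        have := congrArg (fun t : (default : Sylow q ↥⁅N, N⁆) => ((t : ↥⁅N, N⁆) : G)) hj
        simpa using this
      have h2 : (orderOf (x : G)).Coprime p := by
        apply Nat.Coprime.coprime_dvd_left h1
        apply Nat.Coprime.pow_left
        exact (Nat.coprime_primes hq.out hp.out).mpr hqp
      exact (comm_of_coprime hAN hNA hA hnpc x.2 h2 ha.1).symm
  exact ne_bot_of_le_ne_bot hZ1 hle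

theorem norm_sq_abs {p : ℕ} [hp : Fact p.Prime] {A X₁ X₂ : Subgroup G}
    (hAe : IsElementaryAbelian p A) (hA2 : Nat.card A = p ^ 2) (hX₁ : X₁ ≤ A) (hX₂ : X₂ ≤ A)
    (hc₁ : Nat.card X₁ = p) (hc₂ : Nat.card X₂ = p) {y : G} (hy : y ∈ normalizer (A : Set G))
    (hy₁ : y ∈ centralizer (X₁ : Set G)) (hy₂ : y ∈ normalizer (X₂ : Set G))
    (hy₂' : y ∉ centralizer (X₂ : Set G))
    (hnpc : HasNPC p ↥⁅normalizer (A : Set G), normalizer (A : Set G)⁆) :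
    normalizer (A : Set G) ≤ normalizer (X₁ : Set G) ∨
      normalizer (A : Set G) ≤ normalizer (X₂ : Set G) := by
  set N := normalizer (A : Set G) with hN
  have hAN : A ≤ N := le_normalizer
  have hAp : IsPGroup p A := isPGroup_of_elemAb hAe
  have hA1 : A ≠ ⊥ := Cfsg.Agent.Lib.Helper90BG14normtau2.sq_ne_bot hA2
  have hcomm : ∀ a ∈ A, ∀ b ∈ A, a * b = b * a := by
    intro a ha b hb
    exact congrArg Subtype.val (hAe.1.is_comm.comm ⟨a, ha⟩ ⟨b, hb⟩)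
  have hyc₁ : ∀ a ∈ X₁, y * a = a * y := fun a ha => (mem_centralizer_iff.mp hy₁ a ha).symm
  have h21 : X₂ ⊓ X₁ = ⊥ := by
    apply Cfsg.Agent.Lib.Helper30BG2.inf_eq_bot_of_card_prime hc₂
    intro hle
    exact hy₂' (centralizer_le hle hy₁)
  have hX2y : X₂ ⊓ centralizer ({y} : Set G) = ⊥ := by
    apply Cfsg.Agent.Lib.Helper30BG2.inf_eq_bot_of_card_prime hc₂
    intro hle
    apply hy₂'
    rw [mem_centralizer_iff]
    intro a ha
    exact mem_centralizer_singleton_iff.mp (hle ha)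
  -- decomposition
  have hdec : ∀ a ∈ A, ∃ a₁ ∈ X₁, ∃ a₂ ∈ X₂, a = a₁ * a₂ := by
    let f : X₁ × X₂ → A := fun x => ⟨x.1 * x.2, A.mul_mem (hX₁ x.1.2) (hX₂ x.2.2)⟩
    have hf : Function.Injective f := by
      rintro ⟨⟨a₁, ha₁⟩, ⟨a₂, ha₂⟩⟩ ⟨⟨b₁, hb₁⟩, ⟨b₂, hb₂⟩⟩ hab
      have h1 : a₁ * a₂ = b₁ * b₂ := congrArg Subtype.val hab
      have h2 : a₂ * b₂⁻¹ = a₁⁻¹ * b₁ := by
        calc a₂ * b₂⁻¹ = a₁⁻¹ * (a₁ * a₂) * b₂⁻¹ := by group
          _ = a₁⁻¹ * (b₁ * b₂) * b₂⁻¹ := by rw [h1]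
          _ = a₁⁻¹ * b₁ := by group
      have h3 : a₂ * b₂⁻¹ ∈ X₂ ⊓ X₁ :=
        mem_inf.mpr ⟨X₂.mul_mem ha₂ (X₂.inv_mem hb₂), h2 ▸ X₁.mul_mem (X₁.inv_mem ha₁) hb₁⟩
      rw [h21, mem_bot] at h3
      have h4 : a₂ = b₂ := mul_inv_eq_one.mp h3
      have h5 : a₁ = b₁ := by
        rw [h3] at h2
        exact (inv_mul_eq_one.mp h2.symm)
      subst h4 h5
      rfl
    have hbij : Function.Bijective f := by
      apply hf.bijective_of_nat_card_le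
      rw [Nat.card_prod, hc₁, hc₂, hA2, pow_two]
    intro a ha
    obtain ⟨⟨x₁, x₂⟩, hx⟩ := hbij.2 ⟨a, ha⟩
    exact ⟨x₁, x₁.2, x₂, x₂.2, (congrArg Subtype.val hx).symm⟩
  have hCA : ∀ a ∈ A, y * a = a * y → a ∈ X₁ := by
    intro a ha hya
    obtain ⟨a₁, ha₁, a₂, ha₂, rfl⟩ := hdec a ha
    have h1 : y * a₂ = a₂ * y := by
      have h2 : a₁ * (y * a₂) = a₁ * (a₂ * y) := by
        calc a₁ * (y * a₂) = (a₁ * y) * a₂ := by group
          _ = y * (a₁ * a₂) := by rw [← hyc₁ a₁ ha₁]; group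
          _ = a₁ * a₂ * y := hya
          _ = a₁ * (a₂ * y) := by group
      exact mul_left_cancel h2
    have h3 : a₂ ∈ X₂ ⊓ centralizer ({y} : Set G) :=
      mem_inf.mpr ⟨ha₂, mem_centralizer_singleton_iff.mpr h1.symm⟩
    rw [hX2y, mem_bot] at h3
    rw [h3, mul_one]
    exact ha₁
  have hcX2 : ∀ a ∈ A, y * a * y⁻¹ * a⁻¹ ∈ X₂ := by
    intro a ha
    obtain ⟨a₁, ha₁, a₂, ha₂, rfl⟩ := hdec a ha
    have h1 : y * a₂ * y⁻¹ * a₂⁻¹ ∈ X₂ :=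
      X₂.mul_mem ((mem_normalizer_iff.mp hy₂ a₂).mp ha₂) (X₂.inv_mem ha₂)
    have h2 : y * (a₁ * a₂) * y⁻¹ * (a₁ * a₂)⁻¹ = y * a₂ * y⁻¹ * a₂⁻¹ := by
      calc y * (a₁ * a₂) * y⁻¹ * (a₁ * a₂)⁻¹ = (y * a₁) * a₂ * y⁻¹ * a₂⁻¹ * a₁⁻¹ := by group
        _ = a₁ * (y * a₂ * y⁻¹ * a₂⁻¹) * a₁⁻¹ := by rw [hyc₁ a₁ ha₁]; group
        _ = (y * a₂ * y⁻¹ * a₂⁻¹) * a₁ * a₁⁻¹ := by rw [hcomm a₁ (hX₁ ha₁) _ (hX₂ h1)]
        _ = _ := by group
    rw [h2]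
    exact h1
  set D : Subgroup G := ⁅N, N⁆ with hD
  set Z₀ : Subgroup G := A ⊓ centralizer (D : Set G) with hZ₀
  have hND : N ≤ normalizer (D : Set G) :=
    Cfsg.Agent.Lib.Helper30SZ.le_normalizer_commutator le_normalizer le_normalizer
  have hNZ : N ≤ normalizer (Z₀ : Set G) := by
    rw [le_normalizer_iff]
    intro n hn z hz
    obtain ⟨hzA, hzD⟩ := mem_inf.mp hz
    refine mem_inf.mpr ⟨(mem_normalizer_iff.mp hn z).mp hzA, ?_⟩
    rw [mem_centralizer_iff]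
    intro d hd
    have h1 : n⁻¹ * d * n⁻¹⁻¹ ∈ D := (mem_normalizer_iff.mp (hND (N.inv_mem hn)) d).mp hd
    have h2 := mem_centralizer_iff.mp hzD _ h1
    calc d * (n * z * n⁻¹) = n * ((n⁻¹ * d * n⁻¹⁻¹) * z) * n⁻¹ := by group
      _ = n * (z * (n⁻¹ * d * n⁻¹⁻¹)) * n⁻¹ := by rw [h2]
      _ = n * z * n⁻¹ * d := by group
  have hZ1 : Z₀ ≠ ⊥ := fix_ne_bot hAN le_rfl hAp hA1 hnpc
  have hZA : Z₀ ≤ A := inf_le_left
  by_cases hcase : A ≤ centralizer (D : Set G)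
  · -- case (i)
    left
    rw [le_normalizer_iff]
    intro n hn x hx
    apply hCA _ ((mem_normalizer_iff.mp hn x).mp (hX₁ hx))
    have hd : ⁅n⁻¹, y⁆ ∈ D := commutator_mem_commutator (N.inv_mem hn) hy
    have h1 : ⁅n⁻¹, y⁆ * x = x * ⁅n⁻¹, y⁆ := mem_centralizer_iff.mp (hcase (hX₁ hx)) _ hd
    have h2 : n⁻¹ * y * n = ⁅n⁻¹, y⁆ * y := by
      rw [commutatorElement_def]; group
    have h3 : (n⁻¹ * y * n) * x = x * (n⁻¹ * y * n) := by
      rw [h2, mul_assoc, hyc₁ x hx, ← mul_assoc, h1, mul_assoc]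
    calc y * (n * x * n⁻¹) = n * ((n⁻¹ * y * n) * x) * n⁻¹ := by group
      _ = n * (x * (n⁻¹ * y * n)) * n⁻¹ := by rw [h3]
      _ = n * x * n⁻¹ * y := by group
  · -- case (ii)
    have hcZ : Nat.card Z₀ = p := by
      have h1 : Nat.card Z₀ ∣ p ^ 2 := hA2 ▸ card_dvd_of_le hZA
      obtain ⟨k, hk, hkc⟩ := (Nat.dvd_prime_pow hp.out).mp h1
      interval_cases k
      · exfalso
        exact hZ1 (card_eq_one.mp (by simpa using hkc))
      · simpa using hkc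
      · exfalso
        apply hcase
        have h2 : Z₀ = A := eq_of_le_of_card_ge hZA (by rw [hkc, hA2])
        rw [← h2]
        exact inf_le_right
    by_cases hZX : Z₀ ≤ X₂
    · right
      have h2 : Z₀ = X₂ := eq_of_le_of_card_ge hZX (by rw [hcZ, hc₂])
      rw [← h2]
      exact hNZ
    · left
      have h1 : Z₀ ⊓ X₂ = ⊥ := Cfsg.Agent.Lib.Helper30BG2.inf_eq_bot_of_card_prime hcZ hZX
      have h2 : Z₀ ≤ X₁ := by
        intro z hz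
        apply hCA z (hZA hz)
        have h3 : y * z * y⁻¹ * z⁻¹ ∈ Z₀ ⊓ X₂ :=
          mem_inf.mpr ⟨Z₀.mul_mem ((mem_normalizer_iff.mp (hNZ hy) z).mp hz) (Z₀.inv_mem hz),
            hcX2 z (hZA hz)⟩
        rw [h1, mem_bot] at h3
        calc y * z = (y * z * y⁻¹ * z⁻¹) * (z * y) := by group
          _ = z * y := by rw [h3, one_mul]
      have h3 : Z₀ = X₁ := eq_of_le_of_card_ge h2 (by rw [hcZ, hc₁])
      rw [← h3]
      exact hNZ

theorem norm_sq_le (hG : IsMinSimpleOddOrder G) {H : Subgroup G} (hH : IsCoatom H) {p : ℕ}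
    [Fact p.Prime] (hp : p ∈ tau2 H) {A X₁ X₂ : Subgroup G} (hAH : A ≤ H)
    (hAe : IsElementaryAbelian p A) (hA2 : Nat.card A = p ^ 2) (hX₁ : X₁ ≤ A) (hX₂ : X₂ ≤ A)
    (hc₁ : Nat.card X₁ = p) (hc₂ : Nat.card X₂ = p) {y : G} (hy : y ∈ normalizer (A : Set G))
    (hy₁ : y ∈ centralizer (X₁ : Set G)) (hy₂ : y ∈ normalizer (X₂ : Set G))
    (hy₂' : y ∉ centralizer (X₂ : Set G)) :
    normalizer (A : Set G) ≤ normalizer (X₁ : Set G) ∨
      normalizer (A : Set G) ≤ normalizer (X₂ : Set G) := by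
  have hpp : p.Prime := Fact.out
  have hAp : IsPGroup p A := isPGroup_of_elemAb hAe
  have hA1 : A ≠ ⊥ := Cfsg.Agent.Lib.Helper90BG14normtau2.sq_ne_bot hA2
  obtain ⟨E, hE, hAE⟩ := Cfsg.Agent.Lib.Helper31BGS.exists_compl_ge hG hH hAH (by
    intro q hq hqd
    rw [hA2] at hqd
    have := (Nat.prime_dvd_prime_iff_eq hq hpp).mp (hq.dvd_of_dvd_pow hqd)
    rw [this]
    exact hp.2.1)
  obtain ⟨L, hL, hNL⟩ := exists_coatom (norm_ne_top hG hA1 (pgroup_ne_top hG hAp))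
  obtain ⟨h1, h2, -⟩ := Cfsg.Agent.Lib.Helper90BG14normtau2.norm_tau2 hG hH hE hp hAE hAe hA2 hL hNL
  have h3 : HasNPC p ↥⁅L, L⁆ := Cfsg.Agent.Lib.Helper2BGd.npc_derived hG hL h1.2.1 h2
  exact norm_sq_abs hAe hA2 hX₁ hX₂ hc₁ hc₂ hy hy₁ hy₂ hy₂'
    (Cfsg.Agent.Lib.Helper2BGd.npc_of_le h3 (commutator_mono hNL hNL))

end Cfsg.Agent.Lib.Helper90BG14sqfix
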