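import Mathlib
import Cfsg.Agent.Lib.H2BG13bUniq
import Cfsg.Agent.Lib.H2BG13bTau12s
import Cfsg.Agent.Lib.H2BG13bP14a
import Cfsg.Agent.Lib.H2BG13bTau3
import Cfsg.Agent.Lib.Helper38BG13classify
import Cfsg.Agent.Lib.Helper90BG14sqfix
import Cfsg.Agent.Lib.Helper2BGb
import Cfsg.Agent.Lib.Helper2BGd
import Cfsg.Agent.S1417
import Cfsg.Agent.S1418
import Cfsg.Agent.S1428

/-!
PROJECT 131, piece `tau12` = B-G Lemma 13.12.
-/

set_option autoImplicit false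

namespace Cfsg.Agent.Lib.H2BG13bTau12

open Cfsg Subgroup
open Cfsg.Agent.Lib.Helper30Trans Cfsg.Agent.Lib.Helper24BG
open Cfsg.Agent.Lib.Helper11Frobenius

variable {G : Type*} [Group G] [Finite G]

/-- a `p'`-element `w` of `N'` normalizing the `p`-subgroup `A` of `N` centralizes `A` -/
theorem comm_of_coprime' {p : ℕ} [Fact p.Prime] {N A : Subgroup G} (hAN : A ≤ N)
    (hA : IsPGroup p A) (hnpc : HasNPC p ↥⁅N, N⁆) {w : G}
    (hw : w ∈ ⁅N, N⁆) (hwA : w ∈ normalizer (A : Set G)) (hwo : (orderOf w).Coprime p) {a : G}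
    (ha : a ∈ A) : w * a = a * w := by
  obtain ⟨W, hWn, hWc, k, hWi⟩ := hnpc
  have hND : N ≤ normalizer ((⁅N, N⁆ : Subgroup G) : Set G) :=
    Cfsg.Agent.Lib.Helper30SZ.le_normalizer_commutator le_normalizer le_normalizer
  have hmem := fun x : ↥⁅N, N⁆ => mem_iff_coprime W hWc k hWi x
  have h1 : a * w⁻¹ * a⁻¹ ∈ ⁅N, N⁆ := (mem_normalizer_iff.mp (hND (hAN ha)) _).mp (inv_mem hw)
  have h2 : (⟨w, hw⟩ : ↥⁅N, N⁆) ∈ W := (hmem _).mpr (by rw [Subgroup.orderOf_mk]; exact hwo)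
  have h3 : (⟨a * w⁻¹ * a⁻¹, h1⟩ : ↥⁅N, N⁆) ∈ W := (hmem _).mpr (by
    rw [Subgroup.orderOf_mk, Cfsg.Agent.Lib.Helper90BG14sqfix.orderOf_conj_eq, orderOf_inv]
    exact hwo)
  have h4 := W.mul_mem h2 h3
  have h5 : (orderOf (w * (a * w⁻¹ * a⁻¹))).Coprime p := by
    have := (hmem _).mp h4
    rwa [← Subgroup.orderOf_coe] at this
  have h6 : w * (a * w⁻¹ * a⁻¹) ∈ A := by
    have : w * (a * w⁻¹ * a⁻¹) = (w * a * w⁻¹) * a⁻¹ := by group
    rw [this]
    exact A.mul_mem ((mem_normalizer_iff.mp hwA a).mp ha) (A.inv_mem ha)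
  obtain ⟨j, hj⟩ := hA ⟨_, h6⟩
  have h7 : orderOf (w * (a * w⁻¹ * a⁻¹)) ∣ p ^ j :=
    orderOf_dvd_of_pow_eq_one (congrArg Subtype.val hj)
  have h8 : orderOf (w * (a * w⁻¹ * a⁻¹)) = 1 := Nat.Coprime.eq_one_of_dvd (h5.pow_right j) h7
  have h9 := orderOf_eq_one_iff.mp h8
  calc w * a = (w * (a * w⁻¹ * a⁻¹)) * (a * w) := by group
    _ = a * w := by rw [h9, one_mul]

/-- B-G 13.12 (Coq `tau12_regular`). -/
theorem tau12_regular (hG : IsMinSimpleOddOrder G) {M E : Subgroup G} (hM : IsCoatom M)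
    (hE : IsComplIn E (sigmaCore M) M) {p q : ℕ} [Fact p.Prime] [Fact q.Prime] (hp : p ∈ tau1 M)
    (hq : q ∈ tau2 M) {P A : Subgroup G} (hPE : P ≤ E) (hP : Nat.card P = p) (hAE : A ≤ E)
    (hAe : IsElementaryAbelian q A) (hA2 : Nat.card A = q ^ 2)
    (hne : A ⊓ centralizer (P : Set G) ≠ ⊥) : sigmaCore M ⊓ centralizer (P : Set G) = ⊥ := by
  by_contra hZ
  have hpp : p.Prime := Fact.out
  have hqp : q.Prime := Fact.out
  have hpq : p ≠ q := by
    rintro rfl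
    exact hq.2.2.2 hp.2.2.2.2
  have hAp : IsPGroup q A := isPGroup_of_elemAb hAe
  -- the subgroup X
  have hd1 : q ∣ Nat.card ↥(A ⊓ centralizer (P : Set G)) :=
    dvd_card_of_pgroup (hAp.to_le inf_le_left) hne le_rfl
  obtain ⟨x, hx, hx1, hxc⟩ := Cfsg.Agent.Lib.Helper37BGPart.exists_card_prime_le hd1
  set X := zpowers x with hXdef
  have hXle : X ≤ A ⊓ centralizer (P : Set G) := (zpowers_le).mpr hx
  have hXA : X ≤ A := hXle.trans inf_le_left
  have hXP : X ≤ centralizer (P : Set G) := hXle.trans inf_le_right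
  -- the subgroup Z₀
  have hcZ : Nat.card ↥(sigmaCore M ⊓ centralizer (P : Set G)) ≠ 1 := by
    intro h
    exact hZ ((Subgroup.card_eq_one).mp h)
  obtain ⟨r, hr, hrd⟩ := Nat.exists_prime_and_dvd hcZ
  have : Fact r.Prime := ⟨hr⟩
  obtain ⟨z, hz, hz1, hzc⟩ := Cfsg.Agent.Lib.Helper37BGPart.exists_card_prime_le hrd
  set Z₀ := zpowers z with hZdef
  have hZle : Z₀ ≤ sigmaCore M ⊓ centralizer (P : Set G) := (zpowers_le).mpr hz
  -- S1428
  have h28 := Cfsg.Agent.S1428.result hG M hM E hE p hp P hPE hP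
  have hZX := h28 X (le_inf (hXA.trans hAE) hXP) (by rw [hxc]; exact hqp)
  have hXne : sigmaCore M ⊓ centralizer (X : Set G) ≠ ⊥ := by
    intro h
    rw [h] at hZX
    exact hZ (le_bot_iff.mp hZX)
  have h18 := Cfsg.Agent.S1418.result hG M hM E hE q hq A ⟨hAE, hAe, hA2⟩
  have hXu := h18.2.2 X hXA hxc hXne
  -- Ms
  have hA1 : A ≠ ⊥ := Cfsg.Agent.Lib.Helper90BG14normtau2.sq_ne_bot hA2
  have hAt : A ≠ ⊤ := pgroup_ne_top hG hAp
  obtain ⟨Ms, hMs, hNMs⟩ := exists_coatom (norm_ne_top hG hA1 hAt)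
  obtain ⟨hqs, hqb, hinf, hσ, hnc, -⟩ :=
    Cfsg.Agent.Lib.H2BG13bP14a.norm_tau2 hG hM hE hq hAE hAe hA2 hMs hNMs
  have hEMs : E ≤ Ms := by rw [← hinf]; exact inf_le_right
  have hPMs : P ≤ Ms := hPE.trans hEMs
  have hAMs : A ≤ Ms := le_normalizer.trans hNMs
  have hAσ : A ≤ sigmaCore Ms := Cfsg.Agent.Lib.Helper30BG2.pgroup_le_sigmaCore hG hMs hqs hAp hAMs
  have hpd : p ∣ Nat.card Ms := by
    rw [← hP]
    exact Subgroup.card_dvd_of_le hPMs
  have hXσ : X ≤ sigmaCore Ms ⊓ centralizer (P : Set G) := le_inf (hXA.trans hAσ) hXP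
  have hX1 : X ≠ ⊥ := by
    intro h
    rw [h, Subgroup.card_bot] at hxc
    exact hqp.one_lt.ne hxc
  have hcompl : p ∉ sigma Ms → ∃ F : Subgroup G, IsComplIn F (sigmaCore Ms) Ms ∧ P ≤ F := by
    intro hps
    apply Cfsg.Agent.Lib.Helper31BGS.exists_compl_ge hG hMs hPMs
    intro t ht htd
    rw [hP] at htd
    rw [(Nat.prime_dvd_prime_iff_eq ht hpp).mp htd]
    exact hps
  rcases Cfsg.Agent.Lib.Helper38BG13classify.mem_tau_cases hG hMs hpp hpd with h | h | h | h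
  · -- p ∈ σ(Ms)
    exact Cfsg.Agent.Lib.H2BG13bTau12s.tau12_case_sigma hG hM hMs hp hq h hqs hσ
      (hPE.trans hE.1) hPMs hP hxc hXP hXu (hZle.trans inf_le_left) hzc (hZle.trans inf_le_right)
      ((hZle.trans hZX).trans inf_le_right)
  · -- p ∈ τ₁(Ms)
    have := (Cfsg.Agent.Lib.H2BG13bUniq.cent_tau1_uniq hG hMs h hqp hPMs hP hXσ hxc).1.1
    have h2 := hXu.2 Ms hMs this
    exact hnc 1 (by rw [cj_one]; exact h2)
  · -- p ∈ τ₂(Ms)
    obtain ⟨F, hF, hPF⟩ := hcompl h.2.1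
    obtain ⟨B, hBF, hBe, hB2⟩ := Cfsg.Agent.Lib.Helper90BG14normtau2.exists_sq_compl hG hMs hF h
    have h18' := Cfsg.Agent.S1418.result hG Ms hMs F hF p h B ⟨hBF, hBe, hB2⟩
    have hPB : P ≤ B := h18'.1.2 P hPF hP
    have hne' : sigmaCore Ms ⊓ centralizer (P : Set G) ≠ ⊥ := by
      intro h0
      rw [h0] at hXσ
      exact hX1 (le_bot_iff.mp hXσ)
    have hCP := (h18'.2.2 P hPB hP hne').1
    apply hZ
    rw [← le_bot_iff, ← hσ]
    exact inf_le_inf_left _ hCP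
  · -- p ∈ τ₃(Ms)
    obtain ⟨F, hF, hPF⟩ := hcompl h.2.1
    have hPd : P ≤ ⁅Ms, Ms⁆ :=
      (Cfsg.Agent.Lib.H2BG13bTau3.tau3_le_normalizer hG hMs hF h hPF hP).2.trans
        (commutator_mono hF.1 hF.1)
    have hnpc := Cfsg.Agent.Lib.Helper2BGd.npc_derived hG hMs hqs.2.1 hqb
    have hPA : P ≤ normalizer (A : Set G) := hPE.trans h18.1.1
    have hcomm : ∀ w ∈ P, ∀ a ∈ A, w * a = a * w := by
      intro w hw a ha
      apply comm_of_coprime' hAMs hAp hnpc (hPd hw) (hPA hw) _ ha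
      have h1 : orderOf w ∣ p := by
        rw [← hP]
        have := orderOf_dvd_natCard (⟨w, hw⟩ : P)
        rwa [Subgroup.orderOf_mk] at this
      exact Nat.Coprime.coprime_dvd_left h1 ((Nat.coprime_primes hpp hqp).mpr hpq)
    have h17 := Cfsg.Agent.S1417.result hG M hM q hq A ⟨hAE.trans hE.1, hAe, hA2⟩
    apply hZ
    rw [← le_bot_iff, ← h17.2.2.2.1]
    refine le_inf inf_le_left ?_
    intro y hy
    rw [mem_centralizer_iff]
    intro a ha
    have ha' : a ∈ A := ha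
    by_cases ha1 : a = 1
    · rw [ha1]; simp
    have hca : Nat.card (zpowers a) = q := by
      rw [Nat.card_zpowers]
      exact orderOf_eq_prime (hAe.2 a ha') ha1
    have hle : zpowers a ≤ E ⊓ centralizer (P : Set G) := by
      rw [zpowers_le]
      refine mem_inf.mpr ⟨hAE ha', ?_⟩
      rw [mem_centralizer_iff]
      intro w hw
      exact hcomm w hw a ha'
    have := h28 (zpowers a) hle (by rw [hca]; exact hqp) hy
    exact mem_centralizer_iff.mp this.2 a (mem_zpowers a)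

end Cfsg.Agent.Lib.H2BG13bTau12
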