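import Mathlib
import Cfsg.Agent.Lib.Helper37BGPart
import Cfsg.Agent.Lib.Helper30BG4
import Cfsg.Agent.Lib.Helper1UniqInv

/-! Auxiliary lemmas for B-G Section 14 (project 14, pieces k1 and S1375). -/

set_option autoImplicit false

namespace Cfsg.Agent.Lib.Helper1BG14Aux

open Cfsg Subgroup
open Cfsg.Agent.Lib.Helper30Trans Cfsg.Agent.Lib.Helper24BG Cfsg.Agent.Lib.Helper31BGS

variable {G : Type*} [Group G] [Finite G]

/-- a `σ(N)'`-subgroup of `N` is conjugate into any given complement of `N_σ` -/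
theorem conj_into_compl (hG : IsMinSimpleOddOrder G) {N D Y : Subgroup G} (hN : IsCoatom N)
    (hD : IsComplIn D (sigmaCore N) N) (hYN : Y ≤ N)
    (hY : ∀ r : ℕ, r.Prime → r ∣ Nat.card Y → r ∉ sigma N) : ∃ m ∈ N, cj m Y ≤ D := by
  apply Cfsg.Agent.Lib.Helper37BG.conj_into (sol hG hN.1) (sigmaCore_le N)
    (le_normalizer_sigmaCore N) hD.1 _ _ hYN
  · apply Nat.coprime_of_dvd
    intro k hk h1 h2
    exact hY k hk h1 (mem_sigma_of_dvd_sigmaCore hG hN hk h2)
  · intro m hm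
    obtain ⟨a, ha, b, hb, rfl⟩ := hD.2.2.2 m hm
    exact mul_mem (mem_sup_right ha) (mem_sup_left hb)
  · rw [relIndex_compl' hD]
    exact Cfsg.Agent.Lib.Helper37BGPart.coprime_compl hG hN hD

/-- primes dividing the order of a `p`-group -/
theorem prime_dvd_pgroup {p : ℕ} [hp : Fact p.Prime] {A : Subgroup G} (hA : IsPGroup p A) {r : ℕ}
    (hr : r.Prime) (hd : r ∣ Nat.card A) : r = p := by
  obtain ⟨k, hk⟩ := IsPGroup.iff_card.mp hA
  rw [hk] at hd
  exact (Nat.prime_dvd_prime_iff_eq hr hp.out).mp (hr.dvd_of_dvd_pow hd)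

/-- a complement of `H_σ` contains an `E_{p^2}` for `p ∈ τ₂(H)` -/
theorem exists_sq_compl (hG : IsMinSimpleOddOrder G) {H F : Subgroup G} (hH : IsCoatom H)
    (hF : IsComplIn F (sigmaCore H) H) {p : ℕ} [hp : Fact p.Prime] (hτ : p ∈ tau2 H) :
    ∃ A : Subgroup G, A ≤ F ∧ IsElementaryAbelian p A ∧ Nat.card A = p ^ 2 := by
  obtain ⟨A0, hA0H, hA0e, hA0c⟩ := exists_sq (p := p) hτ.2.2.2
  obtain ⟨m, -, hm⟩ := conj_into_compl hG hH hF hA0H (fun r hr hd => by
    rw [prime_dvd_pgroup (isPGroup_of_elemAb hA0e) hr hd]; exact hτ.2.1)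
  exact ⟨cj m A0, hm, elemAb_cj hA0e m, by rw [card_cj, hA0c]⟩

/-- the classification of the primes of `|H|` outside `σ(H)` -/
theorem tau_cases (hG : IsMinSimpleOddOrder G) {H : Subgroup G} (hH : IsCoatom H) {q : ℕ}
    (hq : q.Prime) (hσ : q ∉ sigma H) (hd : q ∣ Nat.card H) :
    q ∈ tau1 H ∨ q ∈ tau2 H ∨ q ∈ tau3 H := by
  have h2 : PRankLE q 2 H := by
    by_contra h
    exact hσ (Cfsg.Agent.Lib.Helper68BGC.alpha_sub_sigma hG hH ⟨hq, h⟩)
  by_cases h1 : PRankLE q 1 H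
  · by_cases h3 : q ∣ Nat.card ↥⁅H, H⁆
    · exact Or.inr (Or.inr ⟨hq, hσ, h3, h1⟩)
    · exact Or.inl ⟨hq, hσ, hd, h3, h1⟩
  · exact Or.inr (Or.inl ⟨hq, hσ, h2, h1⟩)

/-- a `p`-group acts trivially on a group of order `q ^ 2` when `q < p`, `p`, `q` odd primes -/
theorem centralizes_sq {p q : ℕ} [hp : Fact p.Prime] (hq : q.Prime) (hqp : q < p) (hpo : Odd p)
    (hqo : Odd q) {A B : Subgroup G} (hA : IsPGroup p A) (hAB : A ≤ normalizer (B : Set G))
    (hB : Nat.card B = q ^ 2) : B ≤ centralizer (A : Set G) := by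
  have h1 := card_modEq_inf_centralizer hA hAB
  have h2 : Nat.card (B ⊓ centralizer (A : Set G) : Subgroup G) ∣ q ^ 2 := by
    rw [← hB]; exact card_dvd_of_le inf_le_left
  obtain ⟨k, hk, hc⟩ := (Nat.dvd_prime_pow hq).1 h2
  rw [hB, hc] at h1
  have hq1 : 1 < q := hq.one_lt
  have hndq : ¬ p ∣ q := fun h => by
    have := Nat.le_of_dvd hq.pos h; omega
  have hndq1 : ¬ p ∣ q - 1 := fun h => by
    have := Nat.le_of_dvd (by omega) h; omega
  interval_cases k
  · exfalso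
    have h3 : p ∣ q ^ 2 - q ^ 0 := (Nat.modEq_iff_dvd' (by
      rw [pow_zero]; exact Nat.one_le_pow _ _ hq.pos)).1 h1.symm
    have h4 : q ^ 2 - q ^ 0 = (q - 1) * (q + 1) := by
      obtain ⟨c, rfl⟩ : ∃ c, q = c + 1 := ⟨q - 1, by omega⟩
      simp only [pow_zero, Nat.add_sub_cancel]
      have : (c + 1) ^ 2 = c * (c + 1 + 1) + 1 := by ring
      omega
    rw [h4] at h3
    rcases (Nat.Prime.dvd_mul hp.out).1 h3 with h | h
    · exact hndq1 h
    · have h5 := Nat.le_of_dvd (by omega) h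
      have h6 : p = q + 1 := by omega
      rw [h6] at hpo
      exact (Nat.not_odd_iff_even.2 hqo.add_one) hpo
  · exfalso
    have h3 : p ∣ q ^ 2 - q ^ 1 := (Nat.modEq_iff_dvd' (Nat.pow_le_pow_right hq.pos (by norm_num))).1
      h1.symm
    have h4 : q ^ 2 - q ^ 1 = q * (q - 1) := by
      obtain ⟨c, rfl⟩ : ∃ c, q = c + 1 := ⟨q - 1, by omega⟩
      simp only [pow_one, Nat.add_sub_cancel]
      have : (c + 1) ^ 2 = (c + 1) * c + (c + 1) := by ring
      omega
    rw [h4] at h3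
    rcases (Nat.Prime.dvd_mul hp.out).1 h3 with h | h
    · exact hndq h
    · exact hndq1 h
  · have h3 : B ⊓ centralizer (A : Set G) = B :=
      Subgroup.eq_of_le_of_card_ge inf_le_left (by rw [hc, hB])
    rw [← h3]; exact inf_le_right

/-- in a cyclic subgroup, a subgroup is normalized by everything normalizing the big group -/
theorem le_normalizer_of_cyclic {C Y F : Subgroup G} (hC : IsCyclic C) (hYC : Y ≤ C)
    (hF : F ≤ normalizer (C : Set G)) : F ≤ normalizer (Y : Set G) := by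
  intro f hf
  apply Cfsg.Agent.Lib.Helper37BGPart.mem_normalizer_of_cj_le
  intro z hz
  have hzC : z ∈ C := by
    have h1 : cj f Y ≤ cj f C := cj_mono hYC
    rw [cj_eq_self_of_mem_normalizer (hF hf)] at h1
    exact h1 hz
  have hzp : z ^ Nat.card Y = 1 := by
    have h1 : (⟨z, hz⟩ : cj f Y) ^ Nat.card (cj f Y) = 1 := pow_card_eq_one'
    rw [card_cj] at h1
    exact congrArg Subtype.val h1
  have hcard : Nat.card (Y.subgroupOf C) = Nat.card Y :=
    Nat.card_congr (subgroupOfEquivOfLe hYC).toEquiv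
  have h2 : (⟨z, hzC⟩ : C) ∈ Y.subgroupOf C := by
    apply Cfsg.Agent.Lib.Helper1UniqInv.mem_of_pow_card_eq_one
    rw [hcard]
    exact Subtype.ext hzp
  exact mem_subgroupOf.1 h2

/-- subgroups of a group of order `p ^ 2` -/
theorem card_eq_prime_of_lt {p : ℕ} [hp : Fact p.Prime] {A B : Subgroup G} (hA : Nat.card A = p ^ 2)
    (hBA : B ≤ A) (h0 : B ≠ ⊥) (h1 : B ≠ A) : Nat.card B = p := by
  have h2 : Nat.card B ∣ p ^ 2 := by rw [← hA]; exact card_dvd_of_le hBA
  obtain ⟨k, hk, hc⟩ := (Nat.dvd_prime_pow hp.out).1 h2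
  interval_cases k
  · exact absurd (Subgroup.card_eq_one.1 (by rw [hc, pow_zero])) h0
  · rw [hc, pow_one]
  · exact absurd (Subgroup.eq_of_le_of_card_ge hBA (by rw [hc, hA])) h1

end Cfsg.Agent.Lib.Helper1BG14Aux
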