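import Mathlib
import Cfsg.Agent.Lib.Helper37BGPart

/-!
# helper37: project 14 piece `emb` (Bender-Glauberman 12.15 with the sigma-partition)
-/

set_option autoImplicit false

namespace Cfsg.Agent.Lib.Helper37BG14emb

open Cfsg Subgroup
open Cfsg.Agent.Lib.Helper30Trans Cfsg.Agent.Lib.Helper24BG

variable {G : Type*} [Group G] [Finite G]

theorem emb (hG : IsMinSimpleOddOrder G) {M : Subgroup G} (hM : IsCoatom M) {q : ℕ}
    [Fact q.Prime] (hq : q ∈ sigma M) {X : Subgroup G} (hXq : IsPGroup q X) (hX1 : X ≠ ⊥)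
    (hXM : X ≤ M) (hnot : ¬ normalizer (X : Set G) ≤ M) {N : Subgroup G} (hN : IsCoatom N)
    (hNX : normalizer (X : Set G) ≤ N) :
    q ∈ tau2 N ∧ IsComplIn (M ⊓ N) (sigmaCore N) N ∧ sigmaCore N ⊓ M = ⊥ ∧
      (∀ g : G, N ≠ cj g M) ∧ (∀ r : ℕ, r ∈ sigma M → r ∉ sigma N) ∧
      ∃ B : Subgroup G, B ≤ M ⊓ N ∧ IsElementaryAbelian q B ∧ Nat.card B = q ^ 2 := by
  have hne : N ≠ M := fun h => hnot (h ▸ hNX)
  have hXN : X ≤ N := le_normalizer.trans hNX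
  obtain ⟨S, hS, hXS⟩ := exists_isSyl_ge (le_inf hXM hXN) hXq
  obtain ⟨ha, hb, hc⟩ := Cfsg.Agent.Lib.Helper30BG.emb_abc hG hM hq hXq hX1 hXM hN hne hNX hS hXS
  have hqs : q ∉ sigma N := fun h => by
    obtain ⟨g, hg⟩ := Cfsg.Agent.Lib.Helper37BGPart.sigma_conj hG hM hN hq h
    exact ha g hg
  obtain ⟨h1, h2, h3, h4⟩ :=
    Cfsg.Agent.Lib.Helper37BG.emb_ef hG hM hq hXq hX1 hXM hN hne hNX hqs
  refine ⟨h1, ⟨inf_le_right, Cfsg.Agent.Lib.Helper31BGS.sigmaCore_le N, ?_, ?_⟩, h3, ha,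
    fun r hr hr' => h4 r hr hr', ?_⟩
  · rw [eq_bot_iff, ← h3]
    exact le_inf inf_le_right (inf_le_left.trans inf_le_left)
  · intro m hm
    have hm' : m⁻¹ ∈ sigmaCore N ⊔ (M ⊓ N) := h2 (N.inv_mem hm)
    rw [Cfsg.Agent.Lib.Helper30SZ.mem_sup_iff
      (inf_le_right.trans (Cfsg.Agent.Lib.Helper31BGS.le_normalizer_sigmaCore N))] at hm'
    obtain ⟨n, hn, a, ha', h⟩ := hm'
    refine ⟨a⁻¹, inv_mem ha', n⁻¹, inv_mem hn, ?_⟩
    rw [← mul_inv_rev, ← h, inv_inv]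
  · have hr : ¬ PRankLE q 1 S := fun h => h1.2.2.2 (Cfsg.Agent.Lib.Helper27BGa.rank_of_isSyl hc h)
    obtain ⟨B, hBS, hB, hBc⟩ := Cfsg.Agent.Lib.Helper31BGS.exists_sq hr
    exact ⟨B, hBS.trans hS.1, hB, hBc⟩

end Cfsg.Agent.Lib.Helper37BG14emb
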