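import Mathlib
import Cfsg.Agent.Lib.Helper37BG14emb
import Cfsg.Agent.Lib.Helper37BG14kbasic
import Cfsg.Agent.Lib.Helper84BGFrobact
import Cfsg.Agent.Lib.Helper1BG14Aux
import Cfsg.Agent.S1409
import Cfsg.Agent.S1415
import Cfsg.Agent.S1417
import Cfsg.Agent.S1418
import Cfsg.Agent.Lib.Helper3BGNotuniq
import Cfsg.Agent.Lib.Helper30SZ
import Cfsg.Agent.S0055

/-! B-G 14.2(b), second half (project 14, piece k1). -/

set_option autoImplicit false

namespace Cfsg.Agent.Lib.Helper1BG14k1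

open Cfsg Subgroup
open Cfsg.Agent.Lib.Helper30Trans Cfsg.Agent.Lib.Helper24BG Cfsg.Agent.Lib.Helper31BGS
open Cfsg.Agent.Lib.Helper1BG14Aux Cfsg.Agent.Lib.Helper30BG2
open Cfsg.Agent.Lib.Helper37BG14emb Cfsg.Agent.Lib.Helper37BG14kbasic
open scoped commutatorElement

variable {G : Type*} [Group G] [Finite G]

/-- the statement of B-G 13.12 (`tau12_regular` of the project 14 skeleton) for the group `G` -/
def Tau12Regular (G : Type*) [Group G] [Finite G] : Prop :=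
  ∀ {M E : Subgroup G} (_ : IsCoatom M)
    (_ : IsComplIn E (sigmaCore M) M) {p q : ℕ} [Fact p.Prime] [Fact q.Prime] (_ : p ∈ tau1 M)
    (_ : q ∈ tau2 M) {P A : Subgroup G} (_ : P ≤ E) (_ : Nat.card P = p) (_ : A ≤ E)
    (_ : IsElementaryAbelian q A) (_ : Nat.card A = q ^ 2)
    (_ : A ⊓ centralizer (P : Set G) ≠ ⊥), sigmaCore M ⊓ centralizer (P : Set G) = ⊥

/-- the statement of `norm_sq_le` (piece `sqfix` of the project 14 skeleton) for the group `G` -/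
def NormSqLe (G : Type*) [Group G] [Finite G] : Prop :=
  ∀ {H : Subgroup G} (_ : IsCoatom H) {p : ℕ}
    [Fact p.Prime] (_ : p ∈ tau2 H) {A X₁ X₂ : Subgroup G} (_ : A ≤ H)
    (_ : IsElementaryAbelian p A) (_ : Nat.card A = p ^ 2) (_ : X₁ ≤ A) (_ : X₂ ≤ A)
    (_ : Nat.card X₁ = p) (_ : Nat.card X₂ = p) {y : G} (_ : y ∈ normalizer (A : Set G))
    (_ : y ∈ centralizer (X₁ : Set G)) (_ : y ∈ normalizer (X₂ : Set G))
    (_ : y ∉ centralizer (X₂ : Set G)),
    normalizer (A : Set G) ≤ normalizer (X₁ : Set G) ∨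
      normalizer (A : Set G) ≤ normalizer (X₂ : Set G)

/-- step (1): no subgroup of prime order of `C_{M_σ}(X)` centralizes an `E_{p^2}` containing `X`. -/
theorem step1 (hG : IsMinSimpleOddOrder G) {M : Subgroup G} (hM : IsCoatom M) {p q : ℕ}
    [Fact p.Prime] [Fact q.Prime] (hrk : PRankLE p 1 M) {X : Subgroup G} (hXM : X ≤ M)
    (hX : Nat.card X = p) {Y₀ : Subgroup G} (hY₀ : Y₀ ≤ sigmaCore M) (hY₀c : Nat.card Y₀ = q)
    (hXY : X ≤ centralizer (Y₀ : Set G)) {A : Subgroup G} (hAe : IsElementaryAbelian p A)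
    (hA2 : Nat.card A = p ^ 2) : ¬ A ≤ centralizer (Y₀ : Set G) := by
  intro hAY
  have hpp : p.Prime := Fact.out
  have hqq : q.Prime := Fact.out
  have hnoM : ∀ B : Subgroup G, B ≤ M → IsElementaryAbelian p B → Nat.card B = p ^ 2 → False := by
    intro B hBM hBe hB2
    exact not_rank_of_elemAb hBM hBe (by rw [hB2]; exact Nat.pow_lt_pow_right hpp.one_lt (by norm_num)) hrk
  have hY₀M : Y₀ ≤ M := hY₀.trans (Helper31BGS.sigmaCore_le M)
  have hY₀1 : Y₀ ≠ ⊥ := ne_bot_of_card_prime hY₀c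
  have hY₀t : Y₀ ≠ ⊤ := fun h => hM.1 (top_le_iff.1 (h ▸ hY₀M))
  have hqσ : q ∈ sigma M :=
    mem_sigma_of_dvd_sigmaCore hG hM hqq (hY₀c ▸ card_dvd_of_le hY₀)
  have hnot : ¬ normalizer (Y₀ : Set G) ≤ M := fun h =>
    hnoM A ((hAY.trans (centralizer_le_normalizer _)).trans h) hAe hA2
  obtain ⟨N₁, hN₁, hNY⟩ := exists_coatom (norm_ne_top hG hY₀1 hY₀t)
  obtain ⟨-, hcompl, hinf, -, -, -⟩ := emb hG hM hqσ (isPGroup_of_card_prime hY₀c) hY₀1 hY₀M hnot hN₁ hNY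
  have hXN : X ≤ N₁ := (hXY.trans (centralizer_le_normalizer _)).trans hNY
  have hAN : A ≤ N₁ := (hAY.trans (centralizer_le_normalizer _)).trans hNY
  by_cases hpN : p ∈ sigma N₁
  · have h1 : X ≤ sigmaCore N₁ := pgroup_le_sigmaCore hG hN₁ hpN (isPGroup_of_card_prime hX) hXN
    have h2 : X ≤ ⊥ := hinf ▸ le_inf h1 hXM
    exact ne_bot_of_card_prime hX (le_bot_iff.1 h2)
  · obtain ⟨m, -, hm⟩ := conj_into_compl hG hN₁ hcompl hAN (fun r hr hd => by
      rw [prime_dvd_pgroup (isPGroup_of_elemAb hAe) hr hd]; exact hpN)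
    exact hnoM (cj m A) (hm.trans inf_le_left) (elemAb_cj hAe m) (by rw [card_cj, hA2])

/-- step (6): `A₁` is normal in `H`. -/
theorem step6 (hG : IsMinSimpleOddOrder G) {H : Subgroup G} (hH : IsCoatom H) {p : ℕ}
    [Fact p.Prime] (hpH : p ∉ sigma H) {A A₁ : Subgroup G} (hAH : A ≤ H)
    (hAe : IsElementaryAbelian p A) (hA2 : Nat.card A = p ^ 2) (hA₁A : A₁ ≤ A)
    (hA₁c : Nat.card A₁ = p) (hcent : A₁ ≤ centralizer (sigmaCore H : Set G))
    (hreg : sigmaCore H ⊓ centralizer (A : Set G) = ⊥)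
    (hHT : H ≤ normalizer ((sigmaCore H ⊔ A : Subgroup G) : Set G)) :
    H ≤ normalizer (A₁ : Set G) := by
  have hpp : p.Prime := Fact.out
  set S := sigmaCore H with hS
  -- `A ∩ C(S) = A₁`
  have hA₂ : A ⊓ centralizer (S : Set G) = A₁ := by
    symm
    apply Subgroup.eq_of_le_of_card_ge (le_inf hA₁A hcent)
    rw [hA₁c]
    apply le_of_eq
    apply card_eq_prime_of_lt hA2 inf_le_left
    · intro h
      have : A₁ ≤ ⊥ := h ▸ le_inf hA₁A hcent
      exact ne_bot_of_card_prime hA₁c (le_bot_iff.1 this)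
    · intro h
      have h1 : A ≤ centralizer (S : Set G) := h ▸ inf_le_right
      have h2 : S ≤ centralizer (A : Set G) := le_centralizer_iff.1 h1
      have h3 : S ≤ ⊥ := hreg ▸ le_inf le_rfl h2
      exact Cfsg.Agent.Lib.Helper3BGNotuniq.sigmaCore_ne_bot hG hH (le_bot_iff.1 h3)
  -- `A₁` is central in `T`
  have hTc : S ⊔ A ≤ centralizer (A₁ : Set G) := by
    apply sup_le (le_centralizer_iff.1 hcent)
    intro a ha
    rw [mem_centralizer_iff]
    intro b hb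
    have := hAe.1.is_comm.comm ⟨b, hA₁A hb⟩ ⟨a, ha⟩
    exact congrArg Subtype.val this
  have hAS : A ≤ normalizer (S : Set G) := hAH.trans (Helper31BGS.le_normalizer_sigmaCore H)
  intro h hh
  apply Cfsg.Agent.Lib.Helper37BGPart.mem_normalizer_of_cj_le
  intro z hz
  rw [mem_cj] at hz
  set a := h⁻¹ * z * h with ha
  have hza : z = h * a * h⁻¹ := by rw [ha]; group
  have haT : a ∈ S ⊔ A := mem_sup_right (hA₁A hz)
  have hzT : z ∈ S ⊔ A := by
    rw [hza]; exact (mem_normalizer_iff.1 (hHT hh) a).1 haT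
  -- `z` commutes with `T`
  have hzc : ∀ t ∈ S ⊔ A, t * z = z * t := by
    intro t ht
    have ht' : h⁻¹ * t * h ∈ S ⊔ A := by
      have := (mem_normalizer_iff.1 (inv_mem (hHT hh)) t).1 ht
      simpa using this
    have h1 := (mem_centralizer_iff.1 (hTc ht')) a hz
    -- a * (h⁻¹ t h) = (h⁻¹ t h) * a
    rw [hza]
    have h2 : t = h * (h⁻¹ * t * h) * h⁻¹ := by group
    calc t * (h * a * h⁻¹) = h * ((h⁻¹ * t * h) * a) * h⁻¹ := by group
      _ = h * (a * (h⁻¹ * t * h)) * h⁻¹ := by rw [h1]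
      _ = h * a * h⁻¹ * t := by group
  have hzp : z ^ p = 1 := by
    rw [hza, conj_pow, hAe.2 a (hA₁A hz)]; group
  -- decompose
  have hzT' : z ∈ A ⊔ S := by rw [sup_comm]; exact hzT
  rw [← SetLike.mem_coe, coe_mul_of_left_le_normalizer_right A S hAS, Set.mem_mul] at hzT'
  obtain ⟨b, hb, s, hs, hbs⟩ := hzT'
  have hb' : b ∈ A := hb
  have hs' : s ∈ S := hs
  have hsb : s = b⁻¹ * z := by rw [← hbs]; group
  have hcomm : Commute b⁻¹ z := by
    have := hzc b (mem_sup_right hb')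
    exact (Commute.inv_left (show Commute b z from this))
  have hsp : s ^ p = 1 := by
    rw [hsb, hcomm.mul_pow, hzp, inv_pow, hAe.2 b hb']; simp
  have hs1 : s = 1 := by
    have h1 : orderOf s ∣ p := orderOf_dvd_of_pow_eq_one hsp
    have h2 : orderOf s ∣ Nat.card S := by
      have := orderOf_dvd_natCard (⟨s, hs'⟩ : S)
      rwa [Subgroup.orderOf_mk] at this
    have h3 : ¬ p ∣ Nat.card S := not_dvd_sigmaCore hG hH hpp hpH
    rcases (Nat.dvd_prime hpp).1 h1 with h | h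
    · exact orderOf_eq_one_iff.1 h
    · exact absurd (h ▸ h2) h3
  have hzA : z ∈ A := by rw [← hbs, hs1, mul_one]; exact hb'
  have hzS : z ∈ centralizer (S : Set G) := by
    rw [mem_centralizer_iff]
    intro t ht
    exact hzc t (mem_sup_left ht)
  rw [← hA₂]
  exact mem_inf.2 ⟨hzA, hzS⟩

/-- the contradiction: `p ∉ σ(H)` is impossible. -/
theorem main_contra (h12 : Tau12Regular G) (hsq : NormSqLe G)
    (hG : IsMinSimpleOddOrder G) {M : Subgroup G} (hM : IsCoatom M) {p : ℕ}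
    [Fact p.Prime] (hp : p ∈ kappa M) {X : Subgroup G} (hXM : X ≤ M) (hX : Nat.card X = p)
    {H : Subgroup G} (hH : IsCoatom H) (hN : normalizer (X : Set G) ≤ H) (hpH : p ∉ sigma H) :
    False := by
  have hpp : p.Prime := Fact.out
  have hXH : X ≤ H := le_normalizer.trans hN
  have hCH : centralizer (X : Set G) ≤ H := (centralizer_le_normalizer _).trans hN
  have hrk : PRankLE p 1 M := by
    rcases kappa_cases hp with h | h
    · exact h.2.2.2.2
    · exact h.2.2.2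
  obtain ⟨⟨hr2, hr1⟩, -, -⟩ := Cfsg.Agent.S1409.result hG H hH p hpH X hX hN
  have hτ2 : p ∈ tau2 H := ⟨hpp, hpH, hr2, hr1⟩
  have hnc : ∀ g : G, H ≠ cj g M := by
    intro g hg
    obtain ⟨A0, hA0H, hA0e, hA0c⟩ := exists_sq (p := p) hr1
    have h1 : cj g⁻¹ A0 ≤ M := by
      rw [hg] at hA0H
      have := cj_mono (k := g⁻¹) hA0H
      rwa [cj_inv_cj] at this
    exact not_rank_of_elemAb h1 (elemAb_cj hA0e g⁻¹)
      (by rw [card_cj, hA0c]; exact Nat.pow_lt_pow_right hpp.one_lt (by norm_num)) hrk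
  have hdisj : ∀ r, r ∈ sigma M → r ∉ sigma H := by
    intro r hr hr'
    obtain ⟨g, hg⟩ := Cfsg.Agent.Lib.Helper37BGPart.sigma_conj hG hM hH hr hr'
    exact hnc g hg
  have hY : sigmaCore M ⊓ centralizer (X : Set G) ≠ ⊥ := not_reg_of_kappa hp hXM hX
  have hYc : Nat.card ↥(sigmaCore M ⊓ centralizer (X : Set G)) ≠ 1 :=
    fun h => hY (Subgroup.card_eq_one.1 h)
  obtain ⟨q, hq, hqd⟩ := Nat.exists_prime_and_dvd hYc
  have := Fact.mk hq
  obtain ⟨y, hyY, hy1, hyc⟩ := Cfsg.Agent.Lib.Helper37BGPart.exists_card_prime_le hqd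
  set Y₀ := zpowers y with hY₀
  have hyS : y ∈ sigmaCore M := (mem_inf.1 hyY).1
  have hyX : y ∈ centralizer (X : Set G) := (mem_inf.1 hyY).2
  have hY₀S : Y₀ ≤ sigmaCore M := zpowers_le.2 hyS
  have hY₀X : Y₀ ≤ centralizer (X : Set G) := zpowers_le.2 hyX
  have hXY₀ : X ≤ centralizer (Y₀ : Set G) := le_centralizer_iff.1 hY₀X
  have hqσM : q ∈ sigma M := mem_sigma_of_dvd_sigmaCore hG hM hq (hyc ▸ card_dvd_of_le hY₀S)
  have hqH : q ∉ sigma H := hdisj q hqσM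
  have hY₀H : Y₀ ≤ H := hY₀X.trans hCH
  have hyY₀ : y ∈ Y₀ := mem_zpowers y
  have hpq : p ≠ q := fun h => hp.2.2.1 (h ▸ hqσM)
  -- the complement `F`
  have hWpr : ∀ r : ℕ, r.Prime → r ∣ Nat.card ↥(X ⊔ Y₀) → r ∉ sigma H := by
    intro r hr hd
    have h1 := Cfsg.Agent.Lib.Helper65RelHall.card_sup_mul_card_inf X Y₀
      (hXY₀.trans (centralizer_le_normalizer _))
    rw [hX, hyc] at h1
    have h2 : r ∣ p * q := h1 ▸ (hd.mul_right _)
    rcases (Nat.Prime.dvd_mul hr).1 h2 with h | h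
    · rw [(Nat.prime_dvd_prime_iff_eq hr hpp).1 h]; exact hpH
    · rw [(Nat.prime_dvd_prime_iff_eq hr hq).1 h]; exact hqH
  obtain ⟨F, hF, hWF⟩ := exists_compl_ge hG hH (sup_le hXH hY₀H) hWpr
  have hXF : X ≤ F := le_sup_left.trans hWF
  have hY₀F : Y₀ ≤ F := le_sup_right.trans hWF
  obtain ⟨A, hAF, hAe, hA2⟩ := exists_sq_compl hG hH hF hτ2
  have hAH : A ≤ H := hAF.trans hF.1
  obtain ⟨⟨hFA, hordp⟩, ⟨-, -, hNA⟩, -⟩ := Cfsg.Agent.S1418.result hG H hH F hF p hτ2 A ⟨hAF, hAe, hA2⟩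
  obtain ⟨hnil, -, hHT, hreg, -, -⟩ := Cfsg.Agent.S1417.result hG H hH p hτ2 A ⟨hAH, hAe, hA2⟩
  have hXA : X ≤ A := hordp X hXF hX
  -- (1)
  have h1 : ¬ A ≤ centralizer (Y₀ : Set G) := step1 hG hM hrk hXM hX hY₀S hyc hXY₀ hAe hA2
  -- (2)
  have hY₀A : Y₀ ≤ normalizer (A : Set G) := hY₀F.trans hFA
  have hcopA : (Nat.card Y₀).Coprime (Nat.card A) := by
    rw [hyc, hA2]
    exact Nat.Coprime.pow_right 2 ((Nat.coprime_primes hq hpp).2 (Ne.symm hpq))
  have := hAe.1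
  obtain ⟨h55a, h55b⟩ := Cfsg.Agent.S0055.result Y₀ A hY₀A hcopA
  set A₁ := ⁅A, Y₀⁆ with hA₁
  have hA₁A : A₁ ≤ A := by
    rw [hA₁, commutator_le]
    intro a ha u hu
    have h2 : u * a⁻¹ * u⁻¹ ∈ A := (mem_normalizer_iff.1 (hY₀A hu) a⁻¹).1 (inv_mem ha)
    have h3 : ⁅a, u⁆ = a * (u * a⁻¹ * u⁻¹) := by rw [commutatorElement_def]; group
    rw [h3]; exact mul_mem ha h2
  have hA₁reg : A₁ ⊓ centralizer (Y₀ : Set G) = ⊥ := by
    rw [eq_bot_iff, ← h55a]
    exact le_inf (le_inf (inf_le_left.trans hA₁A) inf_le_right) inf_le_left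
  have hA₁c : Nat.card A₁ = p := by
    apply card_eq_prime_of_lt hA2 hA₁A
    · intro h
      rw [h, sup_bot_eq] at h55b
      exact h1 (h55b ▸ inf_le_right)
    · intro h
      have h2 : X ≤ ⊥ := by
        rw [← h55a, h]
        exact le_inf (le_inf hXA hXY₀) hXA
      exact ne_bot_of_card_prime hX (le_bot_iff.1 h2)
  have hY₀A₁ : Y₀ ≤ normalizer (A₁ : Set G) :=
    Cfsg.Agent.Lib.Helper30SZ.le_normalizer_commutator hY₀A le_normalizer
  have hA₁1 : A₁ ≠ ⊥ := ne_bot_of_card_prime hA₁c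
  have hqp : q < p := by
    have h2 := card_modEq_inf_centralizer (isPGroup_of_card_prime hyc) hY₀A₁
    rw [hA₁reg, hA₁c, card_bot] at h2
    have h3 : q ∣ p - 1 := (Nat.modEq_iff_dvd' hpp.one_lt.le).1 h2.symm
    have h4 := Nat.le_of_dvd (by have := hpp.one_lt; omega) h3
    have := hpp.one_lt
    omega
  have hpo : Odd p := hX ▸ odd_sub hG X
  have hqo : Odd q := hyc ▸ odd_sub hG Y₀
  -- (3)
  have hq1 : q ∈ tau1 H := by
    rcases tau_cases hG hH hq hqH (hyc ▸ card_dvd_of_le hY₀H) with h | h | h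
    · exact h
    · exfalso
      obtain ⟨B, hBF, hBe, hB2⟩ := exists_sq_compl hG hH hF h
      obtain ⟨⟨hFB, hordq⟩, -, -⟩ := Cfsg.Agent.S1418.result hG H hH F hF q h B ⟨hBF, hBe, hB2⟩
      have h2 : B ≤ centralizer (A : Set G) :=
        centralizes_sq hq hqp hpo hqo (isPGroup_of_elemAb hAe) (hAF.trans hFB) hB2
      exact h1 (le_centralizer_iff.1 ((hordq Y₀ hY₀F hyc).trans h2))
    · exfalso
      obtain ⟨F₃, hF₃⟩ := Cfsg.Agent.Lib.Helper37BGPart.exists_hallOf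
        (sol hG (fun ht => hH.1 (top_le_iff.1 (ht ▸ hF.1)) : F ≠ ⊤)) (tau3 H)
      obtain ⟨hcyc, -, hFF₃⟩ := (Cfsg.Agent.S1415.result hG H hH F hF).2.2 F₃ hF₃
      have h2 : Y₀ ≤ F₃ := by
        apply le_of_normal_hall hF₃.1 hFF₃ hY₀F
        rw [hyc]
        exact (Nat.Prime.coprime_iff_not_dvd hq).2 (hF₃.2.2 q hq h)
      have h3 : F ≤ normalizer (Y₀ : Set G) := le_normalizer_of_cyclic hcyc h2 hFF₃
      have h4 : ⁅A₁, Y₀⁆ ≤ A₁ ⊓ Y₀ := by
        apply le_inf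
        · rw [commutator_le]
          intro a ha u hu
          have h5 : u * a⁻¹ * u⁻¹ ∈ A₁ := (mem_normalizer_iff.1 (hY₀A₁ hu) a⁻¹).1 (inv_mem ha)
          have h6 : ⁅a, u⁆ = a * (u * a⁻¹ * u⁻¹) := by rw [commutatorElement_def]; group
          rw [h6]; exact mul_mem ha h5
        · rw [commutator_le]
          intro a ha u hu
          have h5 : a * u * a⁻¹ ∈ Y₀ :=
            (mem_normalizer_iff.1 (h3 (hAF (hA₁A ha))) u).1 hu
          rw [commutatorElement_def]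
          exact mul_mem h5 (inv_mem hu)
      have h5 : A₁ ⊓ Y₀ = ⊥ := by
        apply (Subgroup.disjoint_of_coprime_natCard _).eq_bot
        rw [hA₁c, hyc]
        exact (Nat.coprime_primes hpp hq).2 hpq
      rw [h5, le_bot_iff, commutator_eq_bot_iff_le_centralizer] at h4
      have h6 : A₁ ≤ ⊥ := hA₁reg ▸ le_inf le_rfl h4
      exact hA₁1 (le_bot_iff.1 h6)
  -- (4)
  have hregY : sigmaCore H ⊓ centralizer (Y₀ : Set G) = ⊥ := by
    apply h12 hH hF hq1 hτ2 hY₀F hyc hAF hAe hA2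
    intro h
    have h2 : X ≤ ⊥ := h ▸ le_inf hXA hXY₀
    exact ne_bot_of_card_prime hX (le_bot_iff.1 h2)
  -- (5)
  have hA₁H : A₁ ≤ H := hA₁A.trans hAH
  have hcent : A₁ ≤ centralizer (sigmaCore H : Set G) := by
    apply Cfsg.Agent.Lib.Helper84BGFrobact.frob_act
      (sol hG (fun ht => hH.1 (top_le_iff.1 (ht ▸ Helper31BGS.sigmaCore_le H)) : sigmaCore H ≠ ⊤))
      (hA₁H.trans (Helper31BGS.le_normalizer_sigmaCore H))
      (hY₀H.trans (Helper31BGS.le_normalizer_sigmaCore H)) hY₀A₁ (hyc ▸ hq) _ _ hA₁reg hregY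
    · rw [hA₁c]
      exact (Nat.Prime.coprime_iff_not_dvd hpp).2 (not_dvd_sigmaCore hG hH hpp hpH)
    · rw [hyc]
      exact (Nat.Prime.coprime_iff_not_dvd hq).2 (not_dvd_sigmaCore hG hH hq hqH)
  -- (6)
  have hnorm : H ≤ normalizer (A₁ : Set G) :=
    step6 hG hH hpH hAH hAe hA2 hA₁A hA₁c hcent hreg hHT
  have hNA₁ : normalizer (A₁ : Set G) = H := norm_eq hG hH hA₁1 hA₁H hnorm
  -- (7)
  have hyA₁ : y ∉ centralizer (A₁ : Set G) := by
    intro h
    have h2 : Y₀ ≤ centralizer (A₁ : Set G) := zpowers_le.2 h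
    have h3 : A₁ ≤ ⊥ := hA₁reg ▸ le_inf le_rfl (le_centralizer_iff.1 h2)
    exact hA₁1 (le_bot_iff.1 h3)
  rcases hsq hH hτ2 hAH hAe hA2 hXA hA₁A hX hA₁c (hY₀A hyY₀) hyX (hY₀A₁ hyY₀) hyA₁
    with h | h
  · exact hNA (h.trans hN)
  · exact hNA (h.trans hNA₁.le)

/-- piece `k1` of project 14, with the two not yet landed pieces `tau12_regular` (B-G 13.12) and
`norm_sq_le` (piece `sqfix`) as hypotheses: use
`kappa_norm_sigma_of (fun hM hE => tau12_regular hG hM hE) (fun hH => norm_sq_le hG hH) hG ...`. -/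
theorem kappa_norm_sigma_of (h12 : Tau12Regular G) (hsq : NormSqLe G)
    (hG : IsMinSimpleOddOrder G) {M : Subgroup G} (hM : IsCoatom M) {p : ℕ}
    [Fact p.Prime] (hp : p ∈ kappa M) {X : Subgroup G} (hXM : X ≤ M) (hX : Nat.card X = p)
    {H : Subgroup G} (hH : IsCoatom H) (hN : normalizer (X : Set G) ≤ H) :
    p ∈ sigma H ∧ X ≤ sigmaCore H ∧ ∀ g : G, H ≠ cj g M := by
  have key : p ∈ sigma H := by
    by_contra hpH
    exact main_contra h12 hsq hG hM hp hXM hX hH hN hpH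
  refine ⟨key, pgroup_le_sigmaCore hG hH key (isPGroup_of_card_prime hX)
    (le_normalizer.trans hN), ?_⟩
  intro g hg
  rw [hg, Cfsg.Agent.Lib.Helper21BGExcbasic.sigma_cj] at key
  exact hp.2.2.1 key

end Cfsg.Agent.Lib.Helper1BG14k1
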