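import Mathlib
import Cfsg.Agent.Lib.H2BG13bTau12
import Cfsg.Agent.Lib.Helper1BG14k1
import Cfsg.Agent.Lib.Helper90BG14sqfix

/-!
PROJECT 131, bridge to PROJECT 14 (helper52), part b: piece k1 of project 14 (helper1) fed with
`H2BG13bTau12.tau12_regular` and helper90's `norm_sq_le`.
-/

set_option autoImplicit false

namespace Cfsg.Agent.Lib.H2BG13bP14b

open Cfsg Subgroup
open Cfsg.Agent.Lib.Helper30Trans Cfsg.Agent.Lib.Helper24BG

variable {G : Type*} [Group G] [Finite G]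

theorem kappa_norm_sigma (hG : IsMinSimpleOddOrder G) {M : Subgroup G} (hM : IsCoatom M) {p : ℕ}
    [Fact p.Prime] (hp : p ∈ kappa M) {X : Subgroup G} (hXM : X ≤ M) (hX : Nat.card X = p)
    {H : Subgroup G} (hH : IsCoatom H) (hN : normalizer (X : Set G) ≤ H) :
    p ∈ sigma H ∧ X ≤ sigmaCore H ∧ ∀ g : G, H ≠ cj g M :=
  Cfsg.Agent.Lib.Helper1BG14k1.kappa_norm_sigma_of
    (fun hM hE => Cfsg.Agent.Lib.H2BG13bTau12.tau12_regular hG hM hE)
    (fun hH => Cfsg.Agent.Lib.Helper90BG14sqfix.norm_sq_le hG hH) hG hM hp hXM hX hH hN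

end Cfsg.Agent.Lib.H2BG13bP14b
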