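import Mathlib
import Cfsg.Agent.Lib.H2BG13bP14b
import Cfsg.Agent.Lib.H2BG13bTau3
import Cfsg.Agent.S1418

/-!
PROJECT 131, piece `nr` (basic consequences of the configuration `NR`).  (helper68)
-/

set_option autoImplicit false

namespace Cfsg.Agent.Lib.H2BG13bNR

open Cfsg Subgroup
open Cfsg.Agent.Lib.Helper30Trans Cfsg.Agent.Lib.Helper24BG Cfsg.Agent.Lib.H2BG13bDefs

variable {G : Type*} [Group G] [Finite G]

theorem nr_sigma (hG : IsMinSimpleOddOrder G) {M E H Q : Subgroup G} {q : ℕ} (h : NR M E H Q q) :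
    q ∈ sigma H ∧ Q ≤ sigmaCore H ∧ ∀ g : G, H ≠ cj g M := by
  haveI := Fact.mk h.hq.1
  have hQM : Q ≤ M := h.hQE.trans h.hE.1
  have hκ : q ∈ kappa M :=
    Cfsg.Agent.Lib.H2BG13bP14a.mem_kappa_of hG (Or.inr h.hq) hQM h.hQ h.hY
  exact Cfsg.Agent.Lib.H2BG13bP14b.kappa_norm_sigma hG h.hM hκ hQM h.hQ h.hH h.hN

theorem nr_disj (hG : IsMinSimpleOddOrder G) {M E H Q : Subgroup G} {q : ℕ} (h : NR M E H Q q) :
    ∀ r : ℕ, r ∈ sigma M → r ∉ sigma H := by
  intro r hr hr'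
  obtain ⟨g, hg⟩ := Cfsg.Agent.Lib.Helper37BGPart.sigma_conj hG h.hM h.hH hr hr'
  exact (nr_sigma hG h).2.2 g hg

theorem nr_E_le (hG : IsMinSimpleOddOrder G) {M E H Q : Subgroup G} {q : ℕ} (h : NR M E H Q q) :
    E ≤ H :=
  (Cfsg.Agent.Lib.H2BG13bTau3.tau3_le_normalizer hG h.hM h.hE h.hq h.hQE h.hQ).1.trans h.hN

theorem nr_inf_eq (hG : IsMinSimpleOddOrder G) {M E H Q : Subgroup G} {q : ℕ} (h : NR M E H Q q) :
    sigmaCore M ⊓ H = sigmaCore M ⊓ centralizer (Q : Set G) := by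
  haveI := Fact.mk h.hq.1
  obtain ⟨hσ, hQσ, nc⟩ := nr_sigma hG h
  have hQM : Q ≤ M := h.hQE.trans h.hE.1
  have hQH : Q ≤ H := h.hQE.trans (nr_E_le hG h)
  have hQp : IsPGroup q Q := Cfsg.Agent.Lib.Helper30BG2.isPGroup_of_card_prime h.hQ
  apply le_antisymm
  · have hB := Cfsg.Agent.Lib.Helper30BG13B.lemmaB hG h.hM h.hH nc h.hq.2.1
      (fun h1 => h1.2.1 hσ) hQp hQM hQH
    exact le_inf inf_le_left (Subgroup.le_centralizer_iff.mp hB)
  · refine inf_le_inf_left _ (le_trans ?_ h.hN)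
    exact Cfsg.Agent.Lib.Helper27Basic.centralizer_le_normalizer' _

theorem nr_tau2_empty (hG : IsMinSimpleOddOrder G) {M E H Q : Subgroup G} {q : ℕ}
    (h : NR M E H Q q) : ∀ t : ℕ, t ∉ tau2 M := by
  intro t ht
  exact h.hY (Cfsg.Agent.Lib.H2BG13bTau3.tau3_reg_of_tau2 hG h.hM h.hE ht h.hq h.hQE h.hQ)

theorem nr_compl (hG : IsMinSimpleOddOrder G) {M E H Q : Subgroup G} {q : ℕ} (h : NR M E H Q q) :
    IsComplIn E (sigmaCore M ⊓ H) (M ⊓ H) := by
  have := Cfsg.Agent.Lib.Helper37BGPart.compl_inf h.hE (le_inf h.hE.1 (nr_E_le hG h))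
    (inf_le_left : M ⊓ H ≤ M)
  rwa [← inf_assoc, inf_eq_left.mpr (Cfsg.Agent.Lib.Helper30BG2.sigmaCore_le M)] at this

omit [Finite G] in
theorem inf_normalizer_le {A B X : Subgroup G} (hA : X ≤ normalizer (A : Set G))
    (hB : X ≤ normalizer (B : Set G)) : X ≤ normalizer ((A ⊓ B : Subgroup G) : Set G) := by
  intro x hx
  rw [Subgroup.mem_normalizer_iff]
  intro y
  rw [Subgroup.mem_inf, Subgroup.mem_inf, ← Subgroup.mem_normalizer_iff.mp (hA hx) y,
    ← Subgroup.mem_normalizer_iff.mp (hB hx) y]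

/-- `H_σ ∩ M ≤ E` and it centralizes `M_σ ∩ H` -/
theorem nr_inf_le (hG : IsMinSimpleOddOrder G) {M E H Q : Subgroup G} {q : ℕ} (h : NR M E H Q q) :
    sigmaCore H ⊓ M ≤ E ∧
      sigmaCore H ⊓ M ≤ centralizer ((sigmaCore M ⊓ H : Subgroup G) : Set G) := by
  have hMs := Cfsg.Agent.Lib.Helper30BG2.sigmaCore_le M
  have hHs := Cfsg.Agent.Lib.Helper30BG2.sigmaCore_le H
  have hc := nr_compl hG h
  have hDX : sigmaCore H ⊓ M ≤ M ⊓ H := le_inf inf_le_right (inf_le_left.trans hHs)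
  have hYX : sigmaCore M ⊓ H ≤ M ⊓ H := le_inf (inf_le_left.trans hMs) inf_le_right
  have hXD : M ⊓ H ≤ normalizer ((sigmaCore H ⊓ M : Subgroup G) : Set G) :=
    inf_normalizer_le (inf_le_right.trans (Cfsg.Agent.Lib.Helper30BG2.le_normalizer_sigmaCore H))
      (inf_le_left.trans Subgroup.le_normalizer)
  have hXY : M ⊓ H ≤ normalizer ((sigmaCore M ⊓ H : Subgroup G) : Set G) :=
    inf_normalizer_le (inf_le_left.trans (Cfsg.Agent.Lib.Helper30BG2.le_normalizer_sigmaCore M))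
      (inf_le_right.trans Subgroup.le_normalizer)
  have hcop : (Nat.card ↥(sigmaCore H ⊓ M)).Coprime (Nat.card ↥(sigmaCore M ⊓ H)) := by
    apply Nat.coprime_of_dvd
    intro k hk h1 h2
    exact nr_disj hG h k
      (Cfsg.Agent.Lib.Helper31BGS.mem_sigma_of_dvd_sigmaCore hG h.hM hk
        (h2.trans (Subgroup.card_dvd_of_le inf_le_left)))
      (Cfsg.Agent.Lib.Helper31BGS.mem_sigma_of_dvd_sigmaCore hG h.hH hk
        (h1.trans (Subgroup.card_dvd_of_le inf_le_left)))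
  constructor
  · obtain ⟨m, hm, hmD⟩ := Cfsg.Agent.Lib.Helper37BG.conj_into
      (X := M ⊓ H) (B := sigmaCore M ⊓ H) (D := E) (Y := sigmaCore H ⊓ M)
      (sol hG (fun ht => h.hM.1 (top_le_iff.mp (ht ▸ inf_le_left)))) hYX hXY hc.1
      (by
        intro x hx
        obtain ⟨a, ha, b, hb, rfl⟩ := hc.2.2.2 x hx
        exact mul_mem (mem_sup_right ha) (mem_sup_left hb))
      (by
        rw [Cfsg.Agent.Lib.Helper31BGS.relIndex_compl' hc]
        exact Nat.Coprime.coprime_dvd_right (Subgroup.card_dvd_of_le inf_le_left)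
          (Cfsg.Agent.Lib.Helper37BGPart.coprime_compl hG h.hM h.hE))
      hDX hcop
    rwa [cj_eq_self_of_mem_normalizer (hXD hm)] at hmD
  · have hdisj : (sigmaCore H ⊓ M) ⊓ (sigmaCore M ⊓ H) = ⊥ :=
      Subgroup.inf_eq_bot_of_coprime hcop
    intro d hd
    rw [Subgroup.mem_centralizer_iff]
    intro y hy
    have h1 : d * y * d⁻¹ * y⁻¹ ∈ (sigmaCore H ⊓ M) ⊓ (sigmaCore M ⊓ H) := by
      refine Subgroup.mem_inf.mpr ⟨?_, ?_⟩
      · have : y * d⁻¹ * y⁻¹ ∈ sigmaCore H ⊓ M :=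
          (Subgroup.mem_normalizer_iff.mp (hXD (hYX hy)) d⁻¹).mp (inv_mem hd)
        have h2 := mul_mem hd this
        have h3 : d * y * d⁻¹ * y⁻¹ = d * (y * d⁻¹ * y⁻¹) := by group
        rw [h3]; exact h2
      · have : d * y * d⁻¹ ∈ sigmaCore M ⊓ H :=
          (Subgroup.mem_normalizer_iff.mp (hXY (hDX hd)) y).mp hy
        exact mul_mem this (inv_mem hy)
    rw [hdisj, Subgroup.mem_bot] at h1
    have h3 : d * y = y * d := by
      have := congrArg (fun z => z * y * d) h1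
      simpa [mul_assoc] using this
    exact h3.symm

/-- a complement of `H_σ` in `H` containing `C_{M_σ}(Q)` and `P` -/
theorem nr_exists_compl (hG : IsMinSimpleOddOrder G) {M E H Q : Subgroup G} {q : ℕ}
    (h : NR M E H Q q) {p : ℕ} [Fact p.Prime] {P : Subgroup G} (hPE : P ≤ E)
    (hP : Nat.card P = p) (hpH : p ∉ sigma H) :
    ∃ F : Subgroup G, IsComplIn F (sigmaCore H) H ∧ sigmaCore M ⊓ centralizer (Q : Set G) ≤ F ∧
      P ≤ F := by
  have hMs := Cfsg.Agent.Lib.Helper30BG2.sigmaCore_le M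
  have hPH : P ≤ H := hPE.trans (nr_E_le hG h)
  have hPM : P ≤ M := hPE.trans h.hE.1
  have hYH : sigmaCore M ⊓ H ≤ H := inf_le_right
  have hPY : P ≤ normalizer ((sigmaCore M ⊓ H : Subgroup G) : Set G) :=
    inf_normalizer_le (hPM.trans (Cfsg.Agent.Lib.Helper30BG2.le_normalizer_sigmaCore M))
      (hPH.trans Subgroup.le_normalizer)
  obtain ⟨F, hF, hle⟩ := Cfsg.Agent.Lib.Helper31BGS.exists_compl_ge hG h.hH
    (X := (sigmaCore M ⊓ H) ⊔ P) (sup_le hYH hPH) (by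
      intro r hr hrd hrσ
      have hd : Nat.card ↥((sigmaCore M ⊓ H) ⊔ P) ∣ Nat.card ↥(sigmaCore M ⊓ H) * Nat.card P :=
        Cfsg.Agent.Lib.Helper27Core.card_sup_dvd hPY
      rcases (Nat.Prime.dvd_mul hr).mp (hrd.trans hd) with h1 | h1
      · exact nr_disj hG h r (Cfsg.Agent.Lib.Helper31BGS.mem_sigma_of_dvd_sigmaCore hG h.hM hr
          (h1.trans (Subgroup.card_dvd_of_le inf_le_left))) hrσ
      · rw [hP] at h1
        rw [(Nat.prime_dvd_prime_iff_eq hr Fact.out).mp h1] at hrσ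
        exact hpH hrσ)
  refine ⟨F, hF, ?_, le_sup_right.trans hle⟩
  rw [← nr_inf_eq hG h]
  exact le_sup_left.trans hle

end Cfsg.Agent.Lib.H2BG13bNR
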