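import Mathlib
import Cfsg.Agent.Lib.H2BG13bNR
import Cfsg.Agent.Lib.H2BG13bP14a
import Cfsg.Agent.Lib.H2BG13bP14b
import Cfsg.Agent.Lib.Helper30BG
import Cfsg.Agent.Lib.Helper24BG2
import Cfsg.Agent.Lib.Helper38BG13classify
import Cfsg.Agent.Lib.Helper90BG14normtau2
import Cfsg.Agent.S1417
import Cfsg.Agent.S1418

/-!
PROJECT 131, piece `nrt` (the primes of `C_{M_σ}(Q)` in `H`).
-/

set_option autoImplicit false

namespace Cfsg.Agent.Lib.H2BG13bNRt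

open Cfsg Subgroup
open Cfsg.Agent.Lib.Helper30Trans Cfsg.Agent.Lib.Helper24BG Cfsg.Agent.Lib.H2BG13bDefs

variable {G : Type*} [Group G] [Finite G]

theorem nr_type (hG : IsMinSimpleOddOrder G) {M E H Q : Subgroup G} {q : ℕ} (h : NR M E H Q q)
    {s : ℕ} (hs : s.Prime) {X : Subgroup G} (hX : X ≤ sigmaCore M ⊓ centralizer (Q : Set G))
    (hXs : Nat.card X = s) : (s ∈ tau1 H ∨ s ∈ tau3 H) ∧ normalizer (X : Set G) ≤ M := by
  have : Fact s.Prime := ⟨hs⟩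
  have : Fact q.Prime := ⟨h.hq.1⟩
  have hM := h.hM
  have hH := h.hH
  have hXσ : X ≤ sigmaCore M := hX.trans inf_le_left
  have hXM : X ≤ M := hXσ.trans (Cfsg.Agent.Lib.Helper31BGS.sigmaCore_le M)
  have hXC : X ≤ centralizer (Q : Set G) := hX.trans inf_le_right
  have hXH : X ≤ H := (hXC.trans (centralizer_le_normalizer _)).trans h.hN
  have hXp : IsPGroup s X := Cfsg.Agent.Lib.Helper30BG2.isPGroup_of_card_prime hXs
  have hX1 : X ≠ ⊥ := Cfsg.Agent.Lib.Helper30BG2.ne_bot_of_card_prime hXs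
  have hQ1 : Q ≠ ⊥ := Cfsg.Agent.Lib.Helper30BG2.ne_bot_of_card_prime h.hQ
  have hsM : s ∈ sigma M :=
    Cfsg.Agent.Lib.Helper31BGS.mem_sigma_of_dvd_sigmaCore hG hM hs (hXs ▸ card_dvd_of_le hXσ)
  have hsH : s ∉ sigma H := Cfsg.Agent.Lib.H2BG13bNR.nr_disj hG h s hsM
  obtain ⟨hqH, hQσ, hnc⟩ := Cfsg.Agent.Lib.H2BG13bNR.nr_sigma hG h
  have hQM : Q ≤ M := h.hQE.trans h.hE.1
  have hQC : Q ≤ centralizer (X : Set G) := le_centralizer_iff.mp hXC
  have hne : sigmaCore H ⊓ centralizer (X : Set G) ≠ ⊥ :=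
    ne_bot_of_le_ne_bot hQ1 (le_inf hQσ hQC)
  have hHM : H ≠ M := fun e => hnc 1 (by rw [cj_one]; exact e)
  have hNtop : normalizer (X : Set G) ≠ ⊤ := norm_ne_top hG hX1 (pgroup_ne_top hG hXp)
  have hprimes : ∀ r : ℕ, r.Prime → r ∣ Nat.card X → r ∉ sigma H := by
    intro r hr hrd
    rw [hXs] at hrd
    rw [(Nat.prime_dvd_prime_iff_eq hr hs).mp hrd]
    exact hsH
  have htype : s ∈ tau1 H ∨ s ∈ tau3 H := by
    rcases Cfsg.Agent.Lib.Helper38BG13classify.mem_tau_cases hG hH hs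
      (hXs ▸ card_dvd_of_le hXH) with h1 | h1 | h1 | h1
    · exact absurd h1 hsH
    · exact Or.inl h1
    · exfalso
      obtain ⟨F, hF, hXF⟩ := Cfsg.Agent.Lib.Helper31BGS.exists_compl_ge hG hH hXH hprimes
      obtain ⟨B, hBF, hBe, hBc⟩ := Cfsg.Agent.Lib.Helper90BG14normtau2.exists_sq_compl hG hH hF h1
      have h18 := Cfsg.Agent.S1418.result hG H hH F hF s h1 B ⟨hBF, hBe, hBc⟩
      have hXB : X ≤ B := h18.1.2 X hXF hXs
      obtain ⟨hCH, hCu⟩ := h18.2.2 X hXB hXs hne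
      have hNH : normalizer (X : Set G) ≤ H := by
        obtain ⟨L, hL, hNL⟩ := exists_coatom hNtop
        have := hCu L hL ((centralizer_le_normalizer _).trans hNL)
        exact this ▸ hNL
      obtain ⟨S', hS', hXS'⟩ := exists_isSyl_ge (le_inf hXM hXH) hXp
      obtain ⟨-, -, hS'H⟩ := Cfsg.Agent.Lib.Helper30BG.emb_abc hG hM hsM hXp hX1 hXM hH hHM hNH hS'
        hXS'
      obtain ⟨g, -, hg⟩ := Cfsg.Agent.Lib.Helper24BG2.exists_cj_le hS'H (isPGroup_of_elemAb hBe)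
        (hBF.trans hF.1)
      have hB'H : cj g B ≤ H := hg.trans hS'H.1
      have hB'M : cj g B ≤ M := hg.trans (hS'.1.trans inf_le_left)
      have h17 := Cfsg.Agent.S1417.result hG H hH s h1 (cj g B)
        ⟨hB'H, elemAb_cj hBe g, by rw [card_cj, hBc]⟩
      have h5 : sigmaCore H ⊓ M = ⊥ := h17.2.2.2.2.1 M hM hHM.symm hB'M
      have h6 : Q ≤ sigmaCore H ⊓ M := le_inf hQσ hQM
      rw [h5] at h6
      exact hQ1 (le_bot_iff.mp h6)
    · exact Or.inr h1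
  refine ⟨htype, ?_⟩
  obtain ⟨L, hL, hNL⟩ := exists_coatom hNtop
  have hκ : s ∈ kappa H := Cfsg.Agent.Lib.H2BG13bP14a.mem_kappa_of hG htype hXH hXs hne
  obtain ⟨hsL, -, -⟩ := Cfsg.Agent.Lib.H2BG13bP14b.kappa_norm_sigma hG hH hκ hXH hXs hL hNL
  obtain ⟨g, hg⟩ := Cfsg.Agent.Lib.Helper37BGPart.sigma_conj hG hM hL hsM hsL
  by_cases hLM : L = M
  · exact hLM ▸ hNL
  · exfalso
    obtain ⟨S', hS', hXS'⟩ := exists_isSyl_ge (le_inf hXM (le_normalizer.trans hNL)) hXp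
    exact (Cfsg.Agent.Lib.Helper30BG.emb_abc hG hM hsM hXp hX1 hXM hL hLM hNL hS' hXS').1 g hg

end Cfsg.Agent.Lib.H2BG13bNRt
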