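import Mathlib
import Cfsg.Agent.Lib.H2BG13bNRt
import Cfsg.Agent.Lib.Helper90BG13commsylow
import Cfsg.Agent.Lib.Helper2Coprime

/-!
PROJECT 131, piece `nrc`.
-/

set_option autoImplicit false

namespace Cfsg.Agent.Lib.H2BG13bNRc

open Cfsg Subgroup
open Cfsg.Agent.Lib.Helper30Trans Cfsg.Agent.Lib.Helper24BG Cfsg.Agent.Lib.H2BG13bDefs
open Cfsg.Agent.Lib.H2BG13bNR Cfsg.Agent.Lib.H2BG13bNRt

variable {G : Type*} [Group G] [Finite G]

theorem nr_exists_noncent (hG : IsMinSimpleOddOrder G) {M E H Q : Subgroup G} {q : ℕ}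
    (h : NR M E H Q q) {p : ℕ} [Fact p.Prime] {P F : Subgroup G} (hPE : P ≤ E)
    (hP : Nat.card P = p) (hF : IsComplIn F (sigmaCore H) H)
    (hYF : sigmaCore M ⊓ centralizer (Q : Set G) ≤ F) (hPF : P ≤ F)
    (hnc : ¬ P ≤ centralizer ((sigmaCore M ⊓ centralizer (Q : Set G) : Subgroup G) : Set G)) :
    p ∈ tau1 H ∧ ∃ (s : ℕ) (X : Subgroup G), s ∈ tau3 H ∧
      X ≤ sigmaCore M ⊓ centralizer (Q : Set G) ∧ Nat.card X = s ∧
      ¬ P ≤ centralizer (X : Set G) := by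
  have hpp : p.Prime := Fact.out
  have hM := h.hM
  have hH := h.hH
  obtain ⟨-, -, nc⟩ := nr_sigma hG h
  have hinf := nr_inf_eq hG h
  have hPM : P ≤ M := hPE.trans h.hE.1
  have hPH : P ≤ H := hPF.trans hF.1
  have hpM : p ∉ sigma M :=
    Cfsg.Agent.Lib.Helper31BGS.not_mem_sigma_of_dvd_compl hG hM h.hE hpp (hP ▸ card_dvd_of_le hPE)
  have hPp : IsPGroup p P := Cfsg.Agent.Lib.Helper30BG2.isPGroup_of_card_prime hP
  set Y := sigmaCore M ⊓ centralizer (Q : Set G) with hY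
  have hp1 : p ∈ tau1 H := by
    by_contra hcon
    have := Cfsg.Agent.Lib.Helper30BG13B.lemmaB hG hM hH nc hpM hcon hPp hPM hPH
    rw [hinf] at this
    exact hnc this
  refine ⟨hp1, ?_⟩
  have hTD : P ≤ normalizer (Y : Set G) := by
    rw [← hinf]
    intro x hx
    have h1 : x ∈ normalizer (sigmaCore M : Set G) :=
      Cfsg.Agent.Lib.Helper30BG2.le_normalizer_sigmaCore M (hPM hx)
    have h2 : x ∈ normalizer (H : Set G) := le_normalizer (hPH hx)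
    rw [mem_normalizer_iff] at h1 h2 ⊢
    intro y
    rw [mem_inf, mem_inf, h1 y, h2 y]
  have hcop : (Nat.card P).Coprime (Nat.card Y) := by
    rw [hP, Nat.Prime.coprime_iff_not_dvd hpp]
    intro hd
    exact hpM (Cfsg.Agent.Lib.Helper30BG2.card_sigmaCore hG hM p hpp
      (hd.trans (card_dvd_of_le inf_le_left)))
  have hYM : Y ≤ M := inf_le_left.trans (Cfsg.Agent.Lib.Helper30BG2.sigmaCore_le M)
  have hs : Group.IsSolvable Y := by
    have := sol hG hM.1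
    exact Group.isSolvable_of_isSolvable_injective (Subgroup.inclusion_injective hYM)
  obtain ⟨s, Q₀, hsp, hQ₀, hPQ₀, hne, hle, hcc, hPn⟩ :=
    Cfsg.Agent.Lib.Helper90BG13commsylow.exists_comm_sylow hTD hcop hs hnc
  have := Fact.mk hsp
  set C₀ := ⁅Q₀, P⁆ with hC₀
  have hC₀s : IsPGroup s C₀ := hQ₀.2.1.to_le hle
  have hC₀Y : C₀ ≤ Y := hle.trans hQ₀.1
  have hsd : s ∣ Nat.card C₀ := by
    obtain ⟨n, hn⟩ := IsPGroup.iff_card.mp hC₀s
    rw [hn]
    apply dvd_pow_self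
    rintro rfl
    rw [pow_zero] at hn
    exact hne (Subgroup.card_eq_one.mp hn)
  obtain ⟨X, hXC, hXs⟩ : ∃ X : Subgroup G, X ≤ C₀ ∧ Nat.card X = s := by
    obtain ⟨z, hz, -, hzc⟩ := Cfsg.Agent.Lib.Helper37BGPart.exists_card_prime_le hsd
    exact ⟨zpowers z, by rwa [zpowers_le], hzc⟩
  have hC₀H : C₀ ≤ ⁅H, H⁆ :=
    commutator_mono ((hQ₀.1.trans hYF).trans hF.1) hPH
  obtain ⟨hty, -⟩ := nr_type hG h hsp (hXC.trans hC₀Y) hXs
  have hs3 : s ∈ tau3 H := by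
    rcases hty with h1 | h1
    · exact absurd (hsd.trans (card_dvd_of_le hC₀H)) h1.2.2.2.1
    · exact h1
  refine ⟨s, X, hs3, hXC.trans hC₀Y, hXs, ?_⟩
  have hC₀le : C₀ ≤ H := (hC₀Y.trans hYF).trans hF.1
  have hcyc : IsCyclic C₀ := by
    apply Cfsg.Agent.Lib.Helper2BGa.isCyclic_of_prank_one (ne_two hG hC₀s hne) hC₀s
    exact Cfsg.Agent.Lib.Helper2BGa.prank_of_injective (Subgroup.inclusion hC₀le)
      (Subgroup.inclusion_injective hC₀le) hs3.2.2.2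
  have hcomm : IsMulCommutative C₀ := IsCyclic.isMulCommutative
  have hcop' : (Nat.card P).Coprime (Nat.card C₀) :=
    Nat.Coprime.coprime_dvd_right (card_dvd_of_le hC₀Y) hcop
  obtain ⟨hd1, -⟩ := Cfsg.Agent.Lib.Helper2Coprime.abelian_decomposition P C₀ hPn hcop'
  rw [hcc, inf_eq_left.mpr inf_le_left] at hd1
  intro hPX
  have hX1 : X ≤ C₀ ⊓ centralizer (P : Set G) := le_inf hXC (le_centralizer_iff.mp hPX)
  rw [hd1, le_bot_iff] at hX1
  rw [hX1, card_bot] at hXs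
  exact hsp.one_lt.ne hXs

end Cfsg.Agent.Lib.H2BG13bNRc
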