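import Mathlib
import Cfsg.Agent.Lib.H2BG13bNRc
import Cfsg.Agent.Lib.H2BG13bFrobC
import Cfsg.Agent.Lib.H2BG13bAsym
import Cfsg.Agent.S1428

/-!
PROJECT 131, piece `casea` (B-G 13.10(b), case `p ∉ σ(H)`, `P` does not centralize `C_{M_σ}(Q)`).
(helper68)
-/

set_option autoImplicit false

namespace Cfsg.Agent.Lib.H2BG13bCaseA

open Cfsg Subgroup
open Cfsg.Agent.Lib.Helper30Trans Cfsg.Agent.Lib.Helper24BG Cfsg.Agent.Lib.H2BG13bDefs
open Cfsg.Agent.Lib.H2BG13bNR Cfsg.Agent.Lib.H2BG13bNRt Cfsg.Agent.Lib.H2BG13bNRc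
open Cfsg.Agent.Lib.H2BG13bFrobC

variable {G : Type*} [Group G] [Finite G]

/-- a nontrivial subgroup contains a subgroup of prime order -/
theorem exists_prime_sub {T : Subgroup G} (hT : T ≠ ⊥) :
    ∃ (u : ℕ) (X : Subgroup G), u.Prime ∧ X ≤ T ∧ Nat.card X = u := by
  have hc : Nat.card T ≠ 1 := by rwa [Ne, Subgroup.card_eq_one]
  obtain ⟨u, hu, hud⟩ := Nat.exists_prime_and_dvd hc
  haveI := Fact.mk hu
  obtain ⟨z, hz, -, hzc⟩ := Cfsg.Agent.Lib.Helper37BGPart.exists_card_prime_le hud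
  exact ⟨u, zpowers z, hu, zpowers_le.mpr hz, hzc⟩

theorem case_noncent (hG : IsMinSimpleOddOrder G) {M E H Q : Subgroup G} {q : ℕ}
    (h : NR M E H Q q) {p : ℕ} [Fact p.Prime] (hp : p ∈ tau1 M) {P : Subgroup G} (hPE : P ≤ E)
    (hP : Nat.card P = p) (hnc : ¬ P ≤ centralizer (Q : Set G)) (hpH : p ∉ sigma H)
    (hc : ¬ P ≤ centralizer ((sigmaCore M ⊓ centralizer (Q : Set G) : Subgroup G) : Set G)) :
    False := by
  obtain ⟨F, hF, hYF, hPF⟩ := nr_exists_compl hG h hPE hP hpH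
  obtain ⟨hp1H, s, X, hs, hX, hXs, hPX⟩ := nr_exists_noncent hG h hPE hP hF hYF hPF hc
  obtain ⟨hqσ, hQσ, nc⟩ := nr_sigma hG h
  have hXF : X ≤ F := hX.trans hYF
  have hFM : F ≤ M :=
    (Cfsg.Agent.Lib.H2BG13bTau3.tau3_le_normalizer hG h.hH hF hs hXF hXs).1.trans
      (nr_type hG h hs.1 hX hXs).2
  refine Cfsg.Agent.Lib.H2BG13bAsym.asym2 hG h.hM h.hH nc h.hE hF (nr_E_le hG h) hFM hp hp1H hPE hPF
    hP (cent_ne_bot hG h.hM h.hE hp h.hq hPE hP h.hQE h.hQ hnc)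
    (cent_ne_bot hG h.hH hF hp1H hs hPF hP hXF hXs hPX) ?_ ?_
  · by_contra hne
    obtain ⟨s', X', hs', hX', hX's⟩ := exists_prime_sub hne
    have hX'Y : X' ≤ sigmaCore M ⊓ centralizer (Q : Set G) := by
      rw [← nr_inf_eq hG h]; exact hX'.trans inf_le_left
    have hX'P : X' ≤ centralizer (P : Set G) := hX'.trans inf_le_right
    rcases (nr_type hG h hs' hX'Y hX's).1 with h1 | h3
    · have h28 := Cfsg.Agent.S1428.result hG H h.hH F hF s' h1 X' (hX'Y.trans hYF) hX's P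
        (le_inf hPF (Subgroup.le_centralizer_iff.mp hX'P)) (by rw [hP]; exact Fact.out)
      have hQ1 : Q ≤ sigmaCore H ⊓ centralizer (X' : Set G) :=
        le_inf hQσ (Subgroup.le_centralizer_iff.mp (hX'Y.trans inf_le_right))
      exact hnc (Subgroup.le_centralizer_iff.mp ((hQ1.trans h28).trans inf_le_right))
    · exact tau13_reg_a hG h.hH hF hp1H hs hPF hP hXF hXs hPX h3 (hX'Y.trans hYF) hX's hX'P
  · by_contra hne
    obtain ⟨u, T₀, hu, hT₀, hT₀u⟩ := exists_prime_sub hne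
    obtain ⟨hle, hcent⟩ := nr_inf_le hG h
    have hT₀E : T₀ ≤ E := (hT₀.trans inf_le_left).trans hle
    have hT₀P : T₀ ≤ centralizer (P : Set G) := hT₀.trans inf_le_right
    have hud : u ∣ Nat.card M := by
      rw [← hT₀u]; exact Subgroup.card_dvd_of_le (hT₀E.trans h.hE.1)
    rcases Cfsg.Agent.Lib.Helper38BG13classify.mem_tau_cases hG h.hM hu hud with h0 | h1 | h2 | h3
    · exact Cfsg.Agent.Lib.Helper31BGS.not_mem_sigma_of_dvd_le_compl hG h.hM h.hE hT₀E hu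
        (by rw [hT₀u]) h0
    · have h28 := Cfsg.Agent.S1428.result hG M h.hM E h.hE u h1 T₀ hT₀E hT₀u P
        (le_inf hPE (Subgroup.le_centralizer_iff.mp hT₀P)) (by rw [hP]; exact Fact.out)
      have hY1 : sigmaCore M ⊓ centralizer (Q : Set G) ≤ sigmaCore M ⊓ centralizer (T₀ : Set G) := by
        refine le_inf inf_le_left ?_
        rw [← nr_inf_eq hG h]
        exact Subgroup.le_centralizer_iff.mp ((hT₀.trans inf_le_left).trans hcent)
      exact hc (Subgroup.le_centralizer_iff.mp ((hY1.trans h28).trans inf_le_right))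
    · exact nr_tau2_empty hG h u h2
    · exact tau13_reg_a hG h.hM h.hE hp h.hq hPE hP h.hQE h.hQ hnc h3 hT₀E hT₀u hT₀P

end Cfsg.Agent.Lib.H2BG13bCaseA
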