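import Mathlib
import Cfsg.Agent.Lib.H2BG13bNRt
import Cfsg.Agent.Lib.H2BG13bFrobC
import Cfsg.Agent.Lib.H2BG13bP14a
import Cfsg.Agent.Lib.Helper37BGPartA
import Cfsg.Agent.S1415
import Cfsg.Agent.S1427
import Cfsg.Agent.S1428

/-!
PROJECT 131, piece `caseb` (B-G 13.10(b), case `p ∉ σ(H)`, `P` centralizes `C_{M_σ}(Q)`).
-/

set_option autoImplicit false

namespace Cfsg.Agent.Lib.H2BG13bCaseB

open Cfsg Subgroup
open Cfsg.Agent.Lib.Helper30Trans Cfsg.Agent.Lib.Helper24BG Cfsg.Agent.Lib.H2BG13bDefs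

variable {G : Type*} [Group G] [Finite G]

omit [Finite G] in
theorem centralizer_zpowers_eq (z : G) :
    centralizer ((zpowers z : Subgroup G) : Set G) = centralizer ({z} : Set G) := by
  rw [Subgroup.zpowers_eq_closure, Subgroup.centralizer_closure]

theorem case_cent (hG : IsMinSimpleOddOrder G) {M E H Q : Subgroup G} {q : ℕ} (h : NR M E H Q q)
    {p : ℕ} [Fact p.Prime] (hp : p ∈ tau1 M) {P : Subgroup G} (hPE : P ≤ E) (hP : Nat.card P = p)
    (hnc : ¬ P ≤ centralizer (Q : Set G)) (hpH : p ∉ sigma H)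
    (hc : P ≤ centralizer ((sigmaCore M ⊓ centralizer (Q : Set G) : Subgroup G) : Set G)) :
    False := by
  classical
  set Y : Subgroup G := sigmaCore M ⊓ centralizer (Q : Set G) with hYdef
  have hM := h.hM
  have hE := h.hE
  have hH := h.hH
  obtain ⟨F, hF, hYF, hPF⟩ := H2BG13bNR.nr_exists_compl hG h hPE hP hpH
  obtain ⟨-, hQH, -⟩ := H2BG13bNR.nr_sigma hG h
  -- the primes of `Y`
  have htype : ∀ (s : ℕ), s.Prime → ∀ X : Subgroup G, X ≤ Y → Nat.card X = s →
      s ∈ tau3 H ∧ normalizer (X : Set G) ≤ M := by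
    intro s hs X hX hXs
    obtain ⟨h1, h2⟩ := H2BG13bNRt.nr_type hG h hs hX hXs
    refine ⟨h1.resolve_left ?_, h2⟩
    intro hs1
    have hPX : P ≤ centralizer (X : Set G) := hc.trans (Subgroup.centralizer_le hX)
    have h3 := Cfsg.Agent.S1428.result hG H hH F hF s hs1 X (hX.trans hYF) hXs P (le_inf hPF hPX)
      (by rw [hP]; exact Fact.out)
    have hQX : Q ≤ centralizer (X : Set G) := by
      rw [Subgroup.le_centralizer_iff]
      exact hX.trans inf_le_right
    have h4 : Q ≤ centralizer (P : Set G) := (le_inf hQH hQX).trans (h3.trans inf_le_right)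
    exact hnc (Subgroup.le_centralizer_iff.mp h4)
  have hFsol : Group.IsSolvable F := sol hG (ne_top_of_le_ne_top hH.1 hF.1)
  have hEsol : Group.IsSolvable E := sol hG (ne_top_of_le_ne_top hM.1 hE.1)
  -- `Y` is abelian
  obtain ⟨F3, hF3⟩ := Helper37BGPartA.exists_hallOf hFsol (tau3 H)
  obtain ⟨hF3c, -, hF3n⟩ := (Cfsg.Agent.S1415.result hG H hH F hF).2.2 F3 hF3
  have hYF3 : Y ≤ F3 := by
    apply Helper30BG2.le_of_normal_hall hF3.1 hF3n hYF
    apply Nat.coprime_of_dvd
    intro s hs hs1 hs2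
    have := Fact.mk hs
    obtain ⟨z, hz, -, hzc⟩ := Helper37BGPartA.exists_card_prime_le hs1
    have h3 := (htype s hs (zpowers z) (by rwa [Subgroup.zpowers_le]) hzc).1
    exact hF3.2.2 s hs h3 hs2
  have hYab : ∀ a ∈ Y, ∀ b ∈ Y, a * b = b * a := by
    intro a ha b hb
    have := hF3c.isMulCommutative
    have h1 := mul_comm' (⟨a, hYF3 ha⟩ : F3) ⟨b, hYF3 hb⟩
    exact congrArg Subtype.val h1
  -- `E` centralizes `Y`
  obtain ⟨E1, hE1, hPE1⟩ := Helper37BGPartA.exists_hallOf_ge hEsol (tau1 M) hPE (by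
    intro r hr hd
    rw [hP] at hd
    rw [(Nat.prime_dvd_prime_iff_eq hr Fact.out).mp hd]
    exact hp)
  have hE1Y : E1 ≤ centralizer (Y : Set G) := by
    have hP1 : P ≠ ⊥ := by
      intro hb
      rw [hb, Subgroup.card_bot] at hP
      exact (Fact.out : p.Prime).one_lt.ne hP
    have hPnt : Nontrivial P := (Subgroup.nontrivial_iff_ne_bot P).mpr hP1
    obtain ⟨x, hx, hx1⟩ := Subgroup.exists_ne_one_of_nontrivial P
    have h1 := H2BG13bP14a.tau1_primact hG hM hE hE1 x (hPE1 hx) hx1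
    have h2 : Y ≤ sigmaCore M ⊓ centralizer ({x} : Set G) := by
      refine le_inf inf_le_left ?_
      have : Y ≤ centralizer (P : Set G) := Subgroup.le_centralizer_iff.mp hc
      exact this.trans (Subgroup.centralizer_le (by simpa using hx))
    rw [h1] at h2
    exact Subgroup.le_centralizer_iff.mp (h2.trans inf_le_right)
  have hEY : E ≤ centralizer (Y : Set G) := by
    have hidx : (E ⊓ centralizer (Y : Set G)).relIndex E = 1 := by
      rw [Nat.eq_one_iff_not_exists_prime_dvd]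
      intro r hr hd
      have := Fact.mk hr
      have hrE : r ∣ Nat.card E := hd.trans (Subgroup.relIndex_dvd_card _ _)
      have hrM : r ∣ Nat.card M := hrE.trans (Subgroup.card_dvd_of_le hE.1)
      have hrs : r ∉ sigma M := Helper31BGS.not_mem_sigma_of_dvd_compl hG hM hE hr hrE
      rcases Helper38BG13classify.mem_tau_cases hG hM hr hrM with h1 | h1 | h1 | h1
      · exact hrs h1
      · exact hE1.2.2 r hr h1 (hd.trans (Subgroup.relIndex_dvd_of_le_left E (le_inf hE1.1 hE1Y)))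
      · exact H2BG13bNR.nr_tau2_empty hG h r h1
      · obtain ⟨T, hT, -⟩ := exists_isSyl_ge (p := r) (bot_le : (⊥ : Subgroup G) ≤ E) IsPGroup.of_bot
        have hT1 : T ≠ ⊥ := by
          intro hb
          apply Helper30BG.IsSyl.not_dvd_relIndex hT
          rw [hb, Subgroup.relIndex_bot_left]
          exact hrE
        have hr2 : r ≠ 2 := ne_two hG hT.2.1 hT1
        have hTc : IsCyclic T := Helper27BGa.cyclic_of_rank_one hr2 hT.2.1
          (rank_le_of_le (hT.1.trans hE.1) h1.2.2.2)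
        have hTd : r ∣ Nat.card T := dvd_card_of_pgroup hT.2.1 hT1 le_rfl
        obtain ⟨z, hz, hz1, hzc⟩ := Helper37BGPartA.exists_card_prime_le hTd
        have hmap : (hT.toSylow : Subgroup E).map E.subtype = T := hT.map_toSylow
        have hS1 : (hT.toSylow : Subgroup E) ≠ ⊥ := by
          intro hb
          rw [hb, Subgroup.map_bot] at hmap
          exact hT1 hmap.symm
        have hSc : IsCyclic (hT.toSylow : Subgroup E) := by
          have e : (hT.toSylow : Subgroup E) ≃* T :=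
            ((hT.toSylow : Subgroup E).equivMapOfInjective _ E.subtype_injective).trans
              (MulEquiv.subgroupCongr hmap)
          exact isCyclic_of_surjective e.symm e.symm.surjective
        have h2 := Cfsg.Agent.S1427.result hG M hM E hE r hT.toSylow hS1 hSc z (by rw [hmap]; exact hz) hz1
        rw [hmap] at h2
        have h3 := H2BG13bTau3.tau3_cent_eq hG hM hE h.hq h1 h.hQE h.hQ
          (R := zpowers z) (by rw [Subgroup.zpowers_le]; exact hT.1 hz) hzc
        rw [centralizer_zpowers_eq, h2] at h3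
        have hTY : T ≤ centralizer (Y : Set G) := by
          rw [Subgroup.le_centralizer_iff, hYdef, ← h3]
          exact inf_le_right
        exact Helper30BG.IsSyl.not_dvd_relIndex hT
          (hd.trans (Subgroup.relIndex_dvd_of_le_left E (le_inf hT.1 hTY)))
    have := Subgroup.relIndex_eq_one.mp hidx
    exact this.trans inf_le_right
  -- fix `X`
  have hY1 : Nat.card Y ≠ 1 := by
    intro h1
    exact h.hY (Subgroup.card_eq_one.mp h1)
  obtain ⟨s, hs, hsd⟩ := Nat.exists_prime_and_dvd hY1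
  have := Fact.mk hs
  obtain ⟨z, hz, hz1, hzc⟩ := Helper37BGPartA.exists_card_prime_le hsd
  have hXY : zpowers z ≤ Y := by rwa [Subgroup.zpowers_le]
  obtain ⟨hs3, hNM⟩ := htype s hs (zpowers z) hXY hzc
  obtain ⟨hFN, hXFF⟩ := H2BG13bTau3.tau3_le_normalizer hG hH hF hs3 (hXY.trans hYF) hzc
  have hFMH : F ≤ M ⊓ H := le_inf (hFN.trans hNM) hF.1
  have hcompl := H2BG13bNR.nr_compl hG h
  rw [H2BG13bNR.nr_inf_eq hG h] at hcompl
  have hcomm : ⁅M ⊓ H, M ⊓ H⁆ ≤ E := by
    rw [Subgroup.commutator_le]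
    intro a ha b hb
    obtain ⟨e1, he1, y1, hy1, rfl⟩ := hcompl.2.2.2 a ha
    obtain ⟨e2, he2, y2, hy2, rfl⟩ := hcompl.2.2.2 b hb
    have c11 : y1 * e1 = e1 * y1 := Subgroup.mem_centralizer_iff.mp (hEY he1) y1 hy1
    have c12 : y1 * e2 = e2 * y1 := Subgroup.mem_centralizer_iff.mp (hEY he2) y1 hy1
    have c21 : y2 * e1 = e1 * y2 := Subgroup.mem_centralizer_iff.mp (hEY he1) y2 hy2
    have c22 : y2 * e2 = e2 * y2 := Subgroup.mem_centralizer_iff.mp (hEY he2) y2 hy2
    have cyy : y1 * y2 = y2 * y1 := hYab y1 hy1 y2 hy2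
    have key : e1 * y1 * (e2 * y2) * (e1 * y1)⁻¹ * (e2 * y2)⁻¹ = e1 * e2 * e1⁻¹ * e2⁻¹ := by
      have C1 : Commute y1 e1 := c11
      have C2 : Commute y1 e2 := c12
      have C3 : Commute y2 e1 := c21
      have C4 : Commute y2 e2 := c22
      have C5 : Commute y1 y2 := cyy
      have e : e1 * y1 * (e2 * y2) = (e1 * e2) * (y1 * y2) := by
        rw [mul_assoc e1 y1, ← mul_assoc y1 e2, C2.eq]; simp only [mul_assoc]
      have e' : (e1 * y1)⁻¹ * (e2 * y2)⁻¹ = (y1 * y2)⁻¹ * (e1⁻¹ * e2⁻¹) := by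
        rw [← mul_inv_rev, ← mul_inv_rev, ← mul_inv_rev, inv_inj]
        calc e2 * y2 * (e1 * y1) = e2 * (y2 * e1) * y1 := by simp only [mul_assoc]
          _ = e2 * (e1 * y2) * y1 := by rw [C3.eq]
          _ = e2 * e1 * (y2 * y1) := by simp only [mul_assoc]
          _ = e2 * e1 * (y1 * y2) := by rw [C5.eq]
      calc e1 * y1 * (e2 * y2) * (e1 * y1)⁻¹ * (e2 * y2)⁻¹
          = (e1 * y1 * (e2 * y2)) * ((e1 * y1)⁻¹ * (e2 * y2)⁻¹) := by simp only [mul_assoc]
        _ = (e1 * e2) * (y1 * y2) * ((y1 * y2)⁻¹ * (e1⁻¹ * e2⁻¹)) := by rw [e, e']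
        _ = e1 * e2 * e1⁻¹ * e2⁻¹ := by group
    rw [commutatorElement_def, key]
    exact E.mul_mem (E.mul_mem (E.mul_mem he1 he2) (E.inv_mem he1)) (E.inv_mem he2)
  have hzE : z ∈ E := hcomm (Subgroup.commutator_mono hFMH hFMH (hXFF (Subgroup.mem_zpowers z)))
  have hzb : z ∈ E ⊓ sigmaCore M := ⟨hzE, hz.1⟩
  rw [hE.2.2.1, Subgroup.mem_bot] at hzb
  exact hz1 hzb

end Cfsg.Agent.Lib.H2BG13bCaseB
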