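import Mathlib
import Cfsg.Agent.Lib.H2BG13bNR
import Cfsg.Agent.Lib.H2BG13bFrobC

/-!
PROJECT 131, piece `casei` (B-G 13.10(b), case `p ∈ σ(H)`).
-/

set_option autoImplicit false

namespace Cfsg.Agent.Lib.H2BG13bCaseI

open Cfsg Subgroup
open Cfsg.Agent.Lib.Helper30Trans Cfsg.Agent.Lib.Helper24BG Cfsg.Agent.Lib.H2BG13bDefs

variable {G : Type*} [Group G] [Finite G]

theorem case_sigma (hG : IsMinSimpleOddOrder G) {M E H Q : Subgroup G} {q : ℕ} (h : NR M E H Q q)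
    {p : ℕ} [Fact p.Prime] (hp : p ∈ tau1 M) {P : Subgroup G} (hPE : P ≤ E) (hP : Nat.card P = p)
    (hnc : ¬ P ≤ centralizer (Q : Set G)) (hpH : p ∈ sigma H) : False := by
  have hM := h.hM
  have hE := h.hE
  have hH := h.hH
  have hPM : P ≤ M := hPE.trans hE.1
  have hPH : P ≤ H := hPE.trans (Cfsg.Agent.Lib.H2BG13bNR.nr_E_le hG h)
  have hP1 : P ≠ ⊥ := Cfsg.Agent.Lib.Helper30BG2.ne_bot_of_card_prime hP
  have hPp : IsPGroup p P := Cfsg.Agent.Lib.Helper30BG2.isPGroup_of_card_prime hP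
  have hPt : P ≠ ⊤ := fun h' => hM.1 (eq_top_iff.mpr (h' ▸ hPM))
  have hZ := Cfsg.Agent.Lib.H2BG13bFrobC.cent_ne_bot hG hM hE hp h.hq hPE hP h.hQE h.hQ hnc
  obtain ⟨L, hL, hNL⟩ := exists_coatom (norm_ne_top hG hP1 hPt)
  have hκ : p ∈ kappa M := Cfsg.Agent.Lib.H2BG13bP14a.mem_kappa_of hG (Or.inl hp) hPM hP hZ
  have hσL := (Cfsg.Agent.Lib.H2BG13bP14b.kappa_norm_sigma hG hM hκ hPM hP hL hNL).1
  have hLH : L = H := by
    by_contra hne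
    obtain ⟨S0, hS0, hPS0⟩ := exists_isSyl_ge (le_inf hPH (le_normalizer.trans hNL)) hPp
    obtain ⟨hnc', -, -⟩ := Cfsg.Agent.Lib.Helper30BG.emb_abc hG hH hpH hPp hP1 hPH hL hne hNL hS0 hPS0
    obtain ⟨g, hg⟩ := Cfsg.Agent.Lib.Helper37BGPart.sigma_conj hG hH hL hpH hσL
    exact hnc' g hg
  subst hLH
  apply Cfsg.Agent.Lib.H2BG13bFrobC.not_cent_le hG hM hE hp h.hq hPE hP h.hQE h.hQ hnc
  have h1 : sigmaCore M ⊓ centralizer (P : Set G) ≤ sigmaCore M ⊓ L :=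
    inf_le_inf_left _ ((centralizer_le_normalizer _).trans hNL)
  rw [Cfsg.Agent.Lib.H2BG13bNR.nr_inf_eq hG h] at h1
  exact h1.trans inf_le_right

end Cfsg.Agent.Lib.H2BG13bCaseI
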