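import Mathlib
import Cfsg.Agent.Lib.H2BG13bCaseI
import Cfsg.Agent.Lib.H2BG13bCaseB
import Cfsg.Agent.Lib.H2BG13bCaseA

/-!
PROJECT 131: B-G Theorem 13.10(b) (assembly, helper2).
-/

set_option autoImplicit false

namespace Cfsg.Agent.Lib.H2BG13bReg

open Cfsg Subgroup
open Cfsg.Agent.Lib.Helper30Trans Cfsg.Agent.Lib.Helper24BG Cfsg.Agent.Lib.H2BG13bDefs

variable {G : Type*} [Group G] [Finite G]

/-- B-G 13.10(b): if `P ≤ E` of order `p ∈ τ₁(M)` does not centralize `Q ≤ E` of order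
`q ∈ τ₃(M)` then `C_{M_σ}(Q) = 1`. -/
theorem tau13_regular_b (hG : IsMinSimpleOddOrder G) {M E : Subgroup G} (hM : IsCoatom M)
    (hE : IsComplIn E (sigmaCore M) M) {p q : ℕ} (hp : p ∈ tau1 M) (hq : q ∈ tau3 M)
    {P Q : Subgroup G} (hPE : P ≤ E) (hP : Nat.card P = p) (hQE : Q ≤ E) (hQ : Nat.card Q = q)
    (hnc : ¬ P ≤ centralizer (Q : Set G)) : sigmaCore M ⊓ centralizer (Q : Set G) = ⊥ := by
  by_contra hY
  have := Fact.mk hp.1
  have := Fact.mk hq.1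
  have hQ1 : Q ≠ ⊥ := Cfsg.Agent.Lib.Helper30BG2.ne_bot_of_card_prime hQ
  have hQt : Q ≠ ⊤ := by
    intro h
    apply hM.1
    rw [eq_top_iff, ← h]
    exact hQE.trans hE.1
  obtain ⟨H, hH, hNH⟩ := exists_coatom (norm_ne_top hG hQ1 hQt)
  have h : NR M E H Q q := ⟨hM, hE, hH, hq, hQE, hQ, hY, hNH⟩
  by_cases hpH : p ∈ sigma H
  · exact Cfsg.Agent.Lib.H2BG13bCaseI.case_sigma hG h hp hPE hP hnc hpH
  · by_cases hc : P ≤ centralizer ((sigmaCore M ⊓ centralizer (Q : Set G) : Subgroup G) : Set G)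
    · exact Cfsg.Agent.Lib.H2BG13bCaseB.case_cent hG h hp hPE hP hnc hpH hc
    · exact Cfsg.Agent.Lib.H2BG13bCaseA.case_noncent hG h hp hPE hP hnc hpH hc

end Cfsg.Agent.Lib.H2BG13bReg
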