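import Mathlib
import Cfsg.Agent.Lib.H2BG13bReg

/-!
PROJECT 131, piece `nonrega` (core of B-G 13.11(c)).
-/

set_option autoImplicit false

namespace Cfsg.Agent.Lib.H2BG13bNonregA

open Cfsg Subgroup
open Cfsg.Agent.Lib.Helper30Trans Cfsg.Agent.Lib.Helper24BG Cfsg.Agent.Lib.H2BG13bDefs

variable {G : Type*} [Group G] [Finite G]

/-- if `R ≤ E` of order `r ∈ τ₃(M)` is not regular on `M_σ` then every `P ≤ E` of order
`p ∈ τ₁(M)` has the same centralizer in `M_σ` as `R` -/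
theorem nonreg_cent_eq (hG : IsMinSimpleOddOrder G) {M E : Subgroup G} (hM : IsCoatom M)
    (hE : IsComplIn E (sigmaCore M) M) {r : ℕ} (hr : r ∈ tau3 M) {R : Subgroup G} (hRE : R ≤ E)
    (hR : Nat.card R = r) (hne : sigmaCore M ⊓ centralizer (R : Set G) ≠ ⊥)
    {p : ℕ} (hp : p ∈ tau1 M) {P : Subgroup G} (hPE : P ≤ E) (hP : Nat.card P = p) :
    sigmaCore M ⊓ centralizer (P : Set G) = sigmaCore M ⊓ centralizer (R : Set G) := by
  have := Fact.mk hp.1
  have := Fact.mk hr.1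
  have hR1 : R ≠ ⊥ := Cfsg.Agent.Lib.Helper30BG2.ne_bot_of_card_prime hR
  have hPR : P ≤ centralizer (R : Set G) := by
    by_contra hnc
    exact hne (Cfsg.Agent.Lib.H2BG13bReg.tau13_regular_b hG hM hE hp hr hPE hP hRE hR hnc)
  have hRP : R ≤ centralizer (P : Set G) := le_centralizer_iff.mp hPR
  apply le_antisymm
  · exact Cfsg.Agent.S1428.result hG M hM E hE p hp P hPE hP R (le_inf hRE hRP) (hR ▸ hr.1)
  · refine le_inf inf_le_left ?_
    rw [le_centralizer_iff]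
    by_contra hnc
    have hRt : R ≠ ⊤ := by
      intro h
      apply hM.1
      rw [eq_top_iff, ← h]
      exact hRE.trans hE.1
    obtain ⟨H, hH, hNH⟩ := exists_coatom (norm_ne_top hG hR1 hRt)
    have h : NR M E H R r := ⟨hM, hE, hH, hr, hRE, hR, hne, hNH⟩
    have hEH : E ≤ H := Cfsg.Agent.Lib.H2BG13bNR.nr_E_le hG h
    have hpH : p ∉ sigma H := by
      intro hpH
      have h1 : P ≤ sigmaCore H :=
        Cfsg.Agent.Lib.Helper30BG2.pgroup_le_sigmaCore hG hH hpH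
          (Cfsg.Agent.Lib.Helper30BG2.isPGroup_of_card_prime hP) (hPE.trans hEH)
      have h2 := (Cfsg.Agent.Lib.H2BG13bNR.nr_inf_le hG h).2
      rw [Cfsg.Agent.Lib.H2BG13bNR.nr_inf_eq hG h] at h2
      exact hnc ((le_inf h1 (hPE.trans hE.1)).trans h2)
    obtain ⟨F, hF, hYF, hPF⟩ := Cfsg.Agent.Lib.H2BG13bNR.nr_exists_compl hG h hPE hP hpH
    obtain ⟨hp1, s, X, hs, hXY, hX, hPX⟩ :=
      Cfsg.Agent.Lib.H2BG13bNRc.nr_exists_noncent hG h hPE hP hF hYF hPF hnc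
    have h3 := Cfsg.Agent.Lib.H2BG13bReg.tau13_regular_b hG hH hF hp1 hs hPF hP
      (hXY.trans hYF) hX hPX
    have h4 : R ≤ sigmaCore H ⊓ centralizer (X : Set G) := by
      refine le_inf (Cfsg.Agent.Lib.H2BG13bNR.nr_sigma hG h).2.1 ?_
      rw [le_centralizer_iff]
      exact hXY.trans inf_le_right
    rw [h3] at h4
    exact hR1 (le_bot_iff.mp h4)

end Cfsg.Agent.Lib.H2BG13bNonregA
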