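import Mathlib
import Cfsg.Agent.Lib.H2BG13bNonregA
import Cfsg.Agent.Lib.Helper27BGa
import Cfsg.Agent.S1427

/-!
PROJECT 131, piece `nonreg` = B-G Corollary 13.11.
-/

set_option autoImplicit false

namespace Cfsg.Agent.Lib.H2BG13bNonreg

open Cfsg Subgroup
open scoped commutatorElement
open Cfsg.Agent.Lib.Helper30Trans Cfsg.Agent.Lib.Helper24BG Cfsg.Agent.Lib.H2BG13bDefs

variable {G : Type*} [Group G] [Finite G]

omit [Finite G] in
theorem centralizer_zpowers_eq (z : G) :
    centralizer ((zpowers z : Subgroup G) : Set G) = centralizer ({z} : Set G) := by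
  apply le_antisymm
  · apply centralizer_le
    intro y hy
    rw [Set.mem_singleton_iff] at hy
    rw [hy]
    exact mem_zpowers z
  · rw [le_centralizer_iff, zpowers_le, mem_centralizer_iff]
    intro h hh
    have hh' : h ∈ centralizer ({z} : Set G) := hh
    rw [mem_centralizer_iff] at hh'
    exact (hh' z rfl).symm

omit [Finite G] in
theorem derived_lt_of_solvable {B : Subgroup G} (hsol : Group.IsSolvable B) (hbot : B ≠ ⊥) :
    ⁅B, B⁆ < B := by
  have : Nontrivial B := (Subgroup.nontrivial_iff_ne_bot B).mpr hbot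
  have h1 : commutator B < ⊤ := Group.IsSolvable.commutator_lt_top_of_nontrivial B
  have h2 := (Subgroup.map_lt_map_iff_of_injective B.subtype_injective).mpr h1
  rwa [Subgroup.map_subtype_commutator, ← MonoidHom.range_eq_map, Subgroup.range_subtype] at h2

theorem tau_cases_of_dvd (hG : IsMinSimpleOddOrder G) {M E : Subgroup G} (hM : IsCoatom M)
    (hE : IsComplIn E (sigmaCore M) M) {s : ℕ} (hs : s.Prime) (hd : s ∣ Nat.card E) :
    s ∈ tau1 M ∨ s ∈ tau2 M ∨ s ∈ tau3 M := by
  have h1 : s ∉ sigma M :=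
    Cfsg.Agent.Lib.Helper31BGS.not_mem_sigma_of_dvd_le_compl hG hM hE le_rfl hs hd
  rcases Cfsg.Agent.Lib.Helper38BG13classify.mem_tau_cases hG hM hs
    (hd.trans (card_dvd_of_le hE.1)) with h | h
  · exact absurd h h1
  · exact h

/-- B-G 13.11 (Coq `tau13_nonregular`). -/
theorem tau13_nonregular (hG : IsMinSimpleOddOrder G) {M E : Subgroup G} (hM : IsCoatom M)
    (hE : IsComplIn E (sigmaCore M) M) {r : ℕ} (hr : r ∈ tau3 M) {R : Subgroup G} (hRE : R ≤ E)
    (hR : Nat.card R = r) (hne : sigmaCore M ⊓ centralizer (R : Set G) ≠ ⊥) :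
    tau2 M = ∅ ∧ (tau1 M).Nonempty ∧
      (∀ x ∈ E, x ≠ 1 →
        sigmaCore M ⊓ centralizer ({x} : Set G) = sigmaCore M ⊓ centralizer (E : Set G)) ∧
      ∀ X : Subgroup G, X ≤ E → (Nat.card X).Prime → E ≤ normalizer (X : Set G) := by
  have := Fact.mk hr.1
  have hR1 : R ≠ ⊥ := Cfsg.Agent.Lib.Helper30BG2.ne_bot_of_card_prime hR
  have hEt : E ≠ ⊤ := fun h => hM.1 (eq_top_iff.mpr (h ▸ hE.1))
  have hEsol : Group.IsSolvable E := sol hG hEt
  have hEne : E ≠ ⊥ := fun h => hR1 (le_bot_iff.mp (h ▸ hRE))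
  have h2 : ∀ t, t ∉ tau2 M := fun t ht =>
    hne (Cfsg.Agent.Lib.H2BG13bTau3.tau3_reg_of_tau2 hG hM hE ht hr hRE hR)
  have hcases : ∀ s : ℕ, s.Prime → s ∣ Nat.card E → s ∈ tau1 M ∨ s ∈ tau3 M := by
    intro s hs hd
    rcases tau_cases_of_dvd hG hM hE hs hd with h | h | h
    · exact Or.inl h
    · exact absurd h (h2 s)
    · exact Or.inr h
  have h1 : (tau1 M).Nonempty := by
    by_contra hemp
    rw [Set.not_nonempty_iff_eq_empty] at hemp
    have hHall : IsPiHallOf (tau3 M) E E := by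
      refine ⟨le_rfl, fun s hs hd => (hcases s hs hd).resolve_left ?_, fun s hs _ hd => ?_⟩
      · rw [hemp]; exact Set.notMem_empty _
      · rw [relIndex_self] at hd
        exact hs.one_lt.ne' (Nat.dvd_one.mp hd)
    have hle := ((Cfsg.Agent.S1415.result hG M hM E hE).2.2 E hHall).2.1
    exact (derived_lt_of_solvable hEsol hEne).not_ge hle
  have hprime : ∀ X : Subgroup G, X ≤ E → (Nat.card X).Prime →
      sigmaCore M ⊓ centralizer (X : Set G) = sigmaCore M ⊓ centralizer (R : Set G) := by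
    intro X hXE hX
    rcases hcases _ hX (card_dvd_of_le hXE) with h | h
    · exact Cfsg.Agent.Lib.H2BG13bNonregA.nonreg_cent_eq hG hM hE hr hRE hR hne h hXE rfl
    · exact Cfsg.Agent.Lib.H2BG13bTau3.tau3_cent_eq hG hM hE hr h hRE hR hXE rfl
  have hEY : E ≤ centralizer ((sigmaCore M ⊓ centralizer (R : Set G) : Subgroup G) : Set G) := by
    apply Cfsg.Agent.Lib.Helper37BGPart.le_of_forall_isSyl
    intro s hs
    obtain ⟨S⟩ : Nonempty (Sylow s E) := inferInstance
    refine ⟨(S : Subgroup E).map E.subtype, isSyl_of_sylow S, ?_⟩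
    by_cases hS1 : (S : Subgroup E) = ⊥
    · rw [hS1, Subgroup.map_bot]; exact bot_le
    · have hsdS : s ∣ Nat.card (S : Subgroup E) := by
        obtain ⟨k, hk⟩ := IsPGroup.iff_card.mp S.2
        rw [hk]
        apply dvd_pow_self
        rintro rfl
        rw [pow_zero] at hk
        exact hS1 (card_eq_one.mp hk)
      have hsd : s ∣ Nat.card E := hsdS.trans (card_subgroup_dvd_card _)
      have hrank : PRankLE s 1 M := by
        rcases hcases s hs.out hsd with h | h
        · exact h.2.2.2.2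
        · exact h.2.2.2
      have hs2 : s ≠ 2 := by
        rintro rfl
        have := (odd_sub hG E)
        exact (Nat.not_even_iff_odd.mpr this) (even_iff_two_dvd.mpr hsd)
      have hcyc : IsCyclic (S : Subgroup E) := by
        apply Cfsg.Agent.Lib.Helper27BGa.cyclic_of_rank_one hs2 S.2
        exact Cfsg.Agent.Lib.Helper3RankTower.rank_of_injective
          ((inclusion hE.1).comp (S : Subgroup E).subtype)
          ((inclusion_injective hE.1).comp (S : Subgroup E).subtype_injective) hrank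
      have key := Cfsg.Agent.S1427.result hG M hM E hE s S hS1 hcyc
      have hsd' : s ∣ Nat.card ((S : Subgroup E).map E.subtype) := by
        rw [card_map_of_injective E.subtype_injective]; exact hsdS
      obtain ⟨z, hz, hz1, hzc⟩ := Cfsg.Agent.Lib.Helper37BGPart.exists_card_prime_le hsd'
      have e1 := key z hz hz1
      have e2 := hprime (zpowers z) (zpowers_le.mpr (map_subtype_le _ hz)) (hzc ▸ hs.out)
      rw [centralizer_zpowers_eq, e1] at e2
      rw [← e2, le_centralizer_iff]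
      exact inf_le_right
  refine ⟨Set.eq_empty_iff_forall_notMem.mpr h2, h1, ?_, ?_⟩
  · intro x hx hx1
    apply le_antisymm
    · have hc1 : Nat.card (zpowers x) ≠ 1 := by
        intro h
        rw [card_eq_one, zpowers_eq_bot] at h
        exact hx1 h
      obtain ⟨s, hs, hsd⟩ := Nat.exists_prime_and_dvd hc1
      have := Fact.mk hs
      obtain ⟨z, hz, hz1, hzc⟩ := Cfsg.Agent.Lib.Helper37BGPart.exists_card_prime_le hsd
      have hzx : zpowers z ≤ zpowers x := zpowers_le.mpr hz
      have e2 := hprime (zpowers z) (hzx.trans (zpowers_le.mpr hx)) (hzc ▸ hs)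
      rw [← centralizer_zpowers_eq]
      calc sigmaCore M ⊓ centralizer ((zpowers x : Subgroup G) : Set G)
          ≤ sigmaCore M ⊓ centralizer ((zpowers z : Subgroup G) : Set G) :=
            inf_le_inf_left _ (centralizer_le hzx)
        _ = sigmaCore M ⊓ centralizer (R : Set G) := e2
        _ ≤ sigmaCore M ⊓ centralizer (E : Set G) :=
            le_inf inf_le_left (le_centralizer_iff.mp hEY)
    · apply inf_le_inf_left
      apply centralizer_le
      intro y hy
      rw [Set.mem_singleton_iff] at hy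
      rw [hy]; exact hx
  · intro X hXE hX
    rcases hcases _ hX (card_dvd_of_le hXE) with h | h
    swap
    · exact (Cfsg.Agent.Lib.H2BG13bTau3.tau3_le_normalizer hG hM hE h hXE rfl).1
    obtain ⟨E₃, hE₃⟩ := Cfsg.Agent.Lib.Helper37BGPart.exists_hallOf hEsol (tau3 M)
    obtain ⟨hcyc, hE3le, hE3n⟩ := (Cfsg.Agent.S1415.result hG M hM E hE).2.2 E₃ hE₃
    have hEE : ⁅E, E⁆ ≤ E := (derived_lt_of_solvable hEsol hEne).le
    have hder : ⁅E, E⁆ ≤ E₃ := by
      apply Cfsg.Agent.Lib.Helper30BG2.le_of_normal_hall hE₃.1 hE3n hEE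
      apply Nat.coprime_of_dvd
      intro k hk hk1 hk2
      rcases hcases k hk (hk1.trans (card_dvd_of_le hEE)) with h' | h'
      · exact h'.2.2.2.1 (hk1.trans (card_dvd_of_le (commutator_mono hE.1 hE.1)))
      · exact hE₃.2.2 k hk h' hk2
    have hcop : (Nat.card X).Coprime (Nat.card E₃) := by
      rw [Nat.Prime.coprime_iff_not_dvd hX]
      intro hd
      exact h.2.2.2.1 (hE₃.2.1 _ hX hd).2.2.1
    have hXn : X ≤ normalizer (E₃ : Set G) := hXE.trans hE3n
    have hcomm : IsMulCommutative E₃ := IsCyclic.isMulCommutative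
    obtain ⟨d1, d2⟩ := Cfsg.Agent.Lib.Helper2Coprime.abelian_decomposition X E₃ hXn hcop
    have hK : ⁅E₃, X⁆ = ⊥ := by
      by_contra hK
      have hKE3 : ⁅E₃, X⁆ ≤ E₃ := le_sup_right.trans d2.le
      have hc1 : Nat.card (⁅E₃, X⁆ : Subgroup G) ≠ 1 := fun hc => hK (card_eq_one.mp hc)
      obtain ⟨q, hq, hqd⟩ := Nat.exists_prime_and_dvd hc1
      have := Fact.mk hq
      obtain ⟨z, hz, hz1, hzc⟩ := Cfsg.Agent.Lib.Helper37BGPart.exists_card_prime_le hqd
      have hqτ : q ∈ tau3 M := hE₃.2.1 q hq (hqd.trans (card_dvd_of_le hKE3))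
      have hzE : zpowers z ≤ E := zpowers_le.mpr (hE₃.1 (hKE3 hz))
      have hXz : X ≤ centralizer ((zpowers z : Subgroup G) : Set G) := by
        by_contra hnc
        have h3 := Cfsg.Agent.Lib.H2BG13bReg.tau13_regular_b hG hM hE h hqτ hXE rfl hzE hzc hnc
        exact hne ((hprime _ hzE (hzc ▸ hq)).symm.trans h3)
      have hmem : z ∈ (E₃ ⊓ centralizer (X : Set G)) ⊓ ⁅E₃, X⁆ :=
        ⟨⟨hKE3 hz, le_centralizer_iff.mp hXz (mem_zpowers z)⟩, hz⟩
      rw [d1] at hmem
      exact hz1 (mem_bot.mp hmem)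
    rw [commutator_eq_bot_iff_le_centralizer] at hK
    refine le_trans ?_ (centralizer_le_normalizer (X : Set G))
    intro e he
    rw [mem_centralizer_iff]
    intro x hx
    have hcE : ⁅e, x⁆ ∈ E₃ := hder (commutator_mem_commutator he (hXE hx))
    have hcx : Commute ⁅e, x⁆ x := ((mem_centralizer_iff.mp (hK hcE)) x hx).symm
    have hxs : x ^ Nat.card X = 1 := by
      have := pow_card_eq_one' (G := X) (x := ⟨x, hx⟩)
      exact congrArg Subtype.val this
    have hcs : ⁅e, x⁆ ^ Nat.card X = 1 := by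
      have h5 : (⁅e, x⁆ * x) ^ Nat.card X = ⁅e, x⁆ ^ Nat.card X * x ^ Nat.card X := hcx.mul_pow _
      have h6 : ⁅e, x⁆ * x = e * x * e⁻¹ := by
        rw [commutatorElement_def]; group
      rw [h6, conj_pow, hxs] at h5
      simpa using h5.symm
    have hc3 : ⁅e, x⁆ ^ Nat.card E₃ = 1 := by
      have := pow_card_eq_one' (G := E₃) (x := ⟨⁅e, x⁆, hcE⟩)
      exact congrArg Subtype.val this
    have hc : ⁅e, x⁆ = 1 := by
      rw [← orderOf_eq_one_iff]
      exact Nat.eq_one_of_dvd_coprimes hcop (orderOf_dvd_of_pow_eq_one hcs)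
        (orderOf_dvd_of_pow_eq_one hc3)
    rw [commutatorElement_eq_one_iff_mul_comm] at hc
    exact hc.symm

end Cfsg.Agent.Lib.H2BG13bNonreg
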