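import Cfsg.Agent.Lib.Helper12BG14Hall
import Cfsg.Agent.Lib.Helper37BGPartA
import Cfsg.Agent.Lib.Helper38BG13classify
import Cfsg.Agent.Lib.Helper30BG4
import Cfsg.Agent.S1415
import Cfsg.Agent.S1418
import Cfsg.Agent.S1420
import Cfsg.Agent.S1428
import Cfsg.Agent.Lib.Helper37BG14kbasic
import Cfsg.Agent.Lib.Helper37BG14primact
import Cfsg.Agent.Lib.H2BG13bTau12
import Cfsg.Agent.Lib.H2BG13bNonreg

set_option autoImplicit false

/-! Bender-Glauberman 14.2(a) (piece `ptypeA` of project 14), with the pieces it uses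
(`kbasic`, `primact`, the interface 13.11, 13.12 and the row S1428) as explicit hypotheses. -/

namespace Cfsg.Agent.Lib.Helper12BG14ptypeA

open Cfsg Subgroup
open Cfsg.Agent.Lib.Helper30Trans Cfsg.Agent.Lib.Helper24BG Cfsg.Agent.Lib.Helper24BG2
  Cfsg.Agent.Lib.Helper31BGS Cfsg.Agent.Lib.Helper12BG14Hall

variable {G : Type*} [Group G] [Finite G]

/-- an elementary abelian subgroup of order `r ^ 2` inside a given complement -/
theorem exists_sq_compl (hG : IsMinSimpleOddOrder G) {M E : Subgroup G} (hM : IsCoatom M)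
    (hE : IsComplIn E (sigmaCore M) M) {r : ℕ} [hr : Fact r.Prime] (h : r ∈ tau2 M) :
    ∃ A : Subgroup G, A ≤ E ∧ IsElementaryAbelian r A ∧ Nat.card A = r ^ 2 := by
  obtain ⟨A₀, hA₀M, hA₀e, hA₀c⟩ := exists_sq h.2.2.2
  obtain ⟨S, hS, -⟩ := exists_isSyl_ge (p := r) (bot_le : (⊥ : Subgroup G) ≤ E) IsPGroup.of_bot
  have hSM : IsSyl r S M := isSyl_of_not_dvd_relIndex hS hE.1 (by
    rw [relIndex_compl hE]
    exact not_dvd_sigmaCore hG hM hr.out h.2.1)
  obtain ⟨m, -, hle⟩ := exists_cj_le hSM (isPGroup_of_elemAb hA₀e) hA₀M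
  exact ⟨cj m A₀, hle.trans hS.1, elemAb_cj hA₀e m, by rw [card_cj, hA₀c]⟩

theorem ptype_a_of (hG : IsMinSimpleOddOrder G) {M K : Subgroup G} (hM : IsCoatom M)
    (hK : IsPiHallOf (kappa M) K M) (hK1 : K ≠ ⊥)
    (kappa_cases : ∀ p ∈ kappa M, p ∈ tau1 M ∨ p ∈ tau3 M)
    (not_reg_of_kappa : ∀ p ∈ kappa M, ∀ P : Subgroup G, P ≤ M → Nat.card P = p →
      sigmaCore M ⊓ centralizer (P : Set G) ≠ ⊥)
    (mem_kappa_of : ∀ p : ℕ, (p ∈ tau1 M ∨ p ∈ tau3 M) → ∀ P : Subgroup G, P ≤ M → Nat.card P = p →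
      sigmaCore M ⊓ centralizer (P : Set G) ≠ ⊥ → p ∈ kappa M)
    (exists_compl_ge_kappa : ∃ E : Subgroup G, IsComplIn E (sigmaCore M) M ∧ K ≤ E)
    (tau1_primact : ∀ E E₁ : Subgroup G, IsComplIn E (sigmaCore M) M → IsPiHallOf (tau1 M) E₁ E →
      ∀ x ∈ E₁, x ≠ 1 →
        sigmaCore M ⊓ centralizer ({x} : Set G) = sigmaCore M ⊓ centralizer (E₁ : Set G))
    (tau12_regular : ∀ E : Subgroup G, IsComplIn E (sigmaCore M) M → ∀ p q : ℕ, p ∈ tau1 M →
      q ∈ tau2 M → ∀ P A : Subgroup G, P ≤ E → Nat.card P = p → A ≤ E → IsElementaryAbelian q A →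
      Nat.card A = q ^ 2 → A ⊓ centralizer (P : Set G) ≠ ⊥ →
      sigmaCore M ⊓ centralizer (P : Set G) = ⊥)
    (tau13_nonregular : ∀ E : Subgroup G, IsComplIn E (sigmaCore M) M → ∀ r ∈ tau3 M,
      ∀ R : Subgroup G, R ≤ E → Nat.card R = r → sigmaCore M ⊓ centralizer (R : Set G) ≠ ⊥ →
      tau2 M = ∅ ∧ (tau1 M).Nonempty ∧
      (∀ x ∈ E, x ≠ 1 →
        sigmaCore M ⊓ centralizer ({x} : Set G) = sigmaCore M ⊓ centralizer (E : Set G)) ∧
      ∀ X : Subgroup G, X ≤ E → (Nat.card X).Prime → E ≤ normalizer (X : Set G))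
    (h1428 : ∀ E : Subgroup G, IsComplIn E (sigmaCore M) M → ∀ p ∈ tau1 M, ∀ P : Subgroup G, P ≤ E →
      Nat.card P = p → ∀ R : Subgroup G, R ≤ E ⊓ centralizer (P : Set G) → (Nat.card R).Prime →
      sigmaCore M ⊓ centralizer (P : Set G) ≤ sigmaCore M ⊓ centralizer (R : Set G)) :
    (∀ k ∈ K, k ≠ 1 →
      sigmaCore M ⊓ centralizer ({k} : Set G) = sigmaCore M ⊓ centralizer (K : Set G)) ∧
    sigmaCore M ⊓ centralizer (K : Set G) ≠ ⊥ ∧
    (∃ U : Subgroup G, IsMulCommutative U ∧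
      IsPiHallOf {q | q.Prime ∧ q ∉ kappa M ∧ q ∉ sigma M} U M ∧ K ≤ normalizer (U : Set G) ∧
      (∀ k ∈ K, k ≠ 1 → U ⊓ centralizer ({k} : Set G) = ⊥) ∧
      IsComplIn (U ⊔ K) (sigmaCore M) M) ∧
    (∀ X : Subgroup G, X ≤ K → (Nat.card X).Prime → K ≤ normalizer (X : Set G)) ∧
    (∃ p ∈ tau1 M, ∃ P : Subgroup G, P ≤ K ∧ Nat.card P = p) ∧ ∀ p ∈ tau1 M, p ∈ kappa M := by
  obtain ⟨E, hE, hKE⟩ := exists_compl_ge_kappa
  have hEM : E ≤ M := hE.1
  have hsolM : Group.IsSolvable M := sol hG hM.1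
  have hsolE : Group.IsSolvable E := sol hG (fun h => hM.1 (top_le_iff.mp (h ▸ hEM)))
  have hEσ : ∀ p : ℕ, p.Prime → p ∣ Nat.card E → p ∉ sigma M :=
    fun p hp hd => not_mem_sigma_of_dvd_compl hG hM hE hp hd
  have hdvdE : ∀ p : ℕ, p.Prime → p ∣ Nat.card M → p ∉ sigma M → p ∣ Nat.card E := by
    intro p hp hd hs
    rw [← card_compl hE] at hd
    exact ((Nat.Prime.dvd_mul hp).mp hd).resolve_right (not_dvd_sigmaCore hG hM hp hs)
  by_cases hcase : ∃ r, r ∈ kappa M ∧ r ∈ tau3 M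
  · -- CASE B
    obtain ⟨r, hrκ, hr3⟩ := hcase
    have hrp : r.Prime := hrκ.1
    obtain ⟨x, hxK, hxo⟩ := exists_order hrp (dvd_hall hK hrp hrκ hrκ.2.1)
    have hx1 := ne_one_of_order hrp hxo
    have hRc : Nat.card (zpowers x) = r := by rw [Nat.card_zpowers, hxo]
    have hRne := not_reg_of_kappa r hrκ (zpowers x) (zpowers_le.mpr (hK.1 hxK)) hRc
    obtain ⟨h2, h1, hsemi, hnorm⟩ :=
      tau13_nonregular E hE r hr3 (zpowers x) (zpowers_le.mpr (hKE hxK)) hRc hRne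
    have hCE : sigmaCore M ⊓ centralizer (E : Set G) ≠ ⊥ := by
      rw [← hsemi x (hKE hxK) hx1, ← centralizer_zpowers]
      exact hRne
    have hallκ : ∀ s : ℕ, s.Prime → s ∣ Nat.card E → s ∈ kappa M := by
      intro s hs hd
      obtain ⟨y, hyE, hyo⟩ := exists_order hs hd
      have hc : s ∈ tau1 M ∨ s ∈ tau3 M := by
        rcases Cfsg.Agent.Lib.Helper38BG13classify.mem_tau_cases hG hM hs
          (hd.trans (card_dvd_of_le hEM)) with h | h | h | h
        · exact absurd h (hEσ s hs hd)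
        · exact Or.inl h
        · rw [h2] at h
          exact absurd h (Set.notMem_empty _)
        · exact Or.inr h
      apply mem_kappa_of s hc (zpowers y) (zpowers_le.mpr (hEM hyE)) (by rw [Nat.card_zpowers, hyo])
      intro hbot
      apply hCE
      rw [eq_bot_iff, ← hbot]
      exact inf_le_inf_left _ (centralizer_le (zpowers_le.mpr hyE))
    have hKeq : E = K := hall_eq_of_le hK hKE hEM hallκ
    subst hKeq
    refine ⟨hsemi, hCE, ⟨⊥, inferInstance, ⟨bot_le, ?_, ?_⟩, ?_, ?_, ?_⟩, hnorm, ?_, ?_⟩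
    · intro p hp hd
      rw [card_bot] at hd
      exact absurd (Nat.dvd_one.mp hd) hp.one_lt.ne'
    · intro q hq hqπ hd
      rw [relIndex_bot_left] at hd
      exact hqπ.2.1 (hallκ q hq (hdvdE q hq hd hqπ.2.2))
    · rw [normalizer_eq_top_iff.mpr inferInstance]
      exact le_top
    · intro k _ _
      exact bot_inf_eq _
    · rw [bot_sup_eq]
      exact hE
    · obtain ⟨p, hp⟩ := h1
      obtain ⟨y, hy, hyo⟩ := exists_order hp.1 (hdvdE p hp.1 hp.2.2.1 hp.2.1)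
      exact ⟨p, hp, zpowers y, zpowers_le.mpr hy, by rw [Nat.card_zpowers, hyo]⟩
    · intro p hp
      exact hallκ p hp.1 (hdvdE p hp.1 hp.2.2.1 hp.2.1)
  · -- CASE A
    push Not at hcase
    have hκ1 : ∀ p ∈ kappa M, p ∈ tau1 M := fun p hp => (kappa_cases p hp).resolve_right (hcase p hp)
    obtain ⟨E₁, hE₁, hKE₁⟩ := Cfsg.Agent.Lib.Helper37BGPartA.exists_hallOf_ge hsolE (tau1 M) hKE
      (fun p hp hd => hκ1 p (hK.2.1 p hp hd))
    have hcyc : IsCyclic E₁ := (Cfsg.Agent.S1415.result hG M hM E hE).2.1 E₁ hE₁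
    have hprim := tau1_primact E E₁ hE hE₁
    obtain ⟨p, hp, hpK⟩ := exists_prime_dvd_of_ne_bot hK1
    obtain ⟨x, hxK, hxo⟩ := exists_order hp hpK
    have hpκ : p ∈ kappa M := hK.2.1 p hp hpK
    have hx1 := ne_one_of_order hp hxo
    have hPc : Nat.card (zpowers x) = p := by rw [Nat.card_zpowers, hxo]
    have hPne := not_reg_of_kappa p hpκ (zpowers x) (zpowers_le.mpr (hK.1 hxK)) hPc
    have hCE₁ : sigmaCore M ⊓ centralizer (E₁ : Set G) ≠ ⊥ := by
      rw [← hprim x (hKE₁ hxK) hx1, ← centralizer_zpowers]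
      exact hPne
    have hallκ : ∀ s : ℕ, s.Prime → s ∣ Nat.card E₁ → s ∈ kappa M := by
      intro s hs hd
      obtain ⟨y, hy, hyo⟩ := exists_order hs hd
      apply mem_kappa_of s (Or.inl (hE₁.2.1 s hs hd)) (zpowers y) (zpowers_le.mpr (hEM (hE₁.1 hy)))
        (by rw [Nat.card_zpowers, hyo])
      intro hbot
      apply hCE₁
      rw [eq_bot_iff, ← hbot]
      exact inf_le_inf_left _ (centralizer_le (zpowers_le.mpr hy))
    have hKeq : E₁ = K := hall_eq_of_le hK hKE₁ (hE₁.1.trans hEM) hallκ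
    subst hKeq
    have h1κ : ∀ q ∈ tau1 M, q ∈ kappa M := by
      intro q hq
      exact hallκ q hq.1 (dvd_hall hE₁ hq.1 hq (hdvdE q hq.1 hq.2.2.1 hq.2.1))
    obtain ⟨U, hU⟩ := Cfsg.Agent.Lib.Helper37BGPartA.exists_hallOf hsolE {q | q ∉ tau1 M}
    have hE'U : ⁅E, E⁆ ≤ U := by
      apply normal_le_hall hU (commutator_le_self E) (le_normalizer_commutator E)
      intro q hq hd hq1
      exact hq1.2.2.2.1 (hd.trans (card_dvd_of_le (commutator_mono hEM hEM)))
    have hUn : E ≤ normalizer (U : Set G) := le_normalizer_of_commutator_le hU.1 hE'U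
    have hUK : U ⊔ E₁ = E := sup_eq_of_hall hE₁ hU (fun q _ => em _)
    have hreg : ∀ k ∈ E₁, k ≠ 1 → U ⊓ centralizer ({k} : Set G) = ⊥ := by
      intro k hk hk1
      rw [eq_bot_iff]
      intro u hu
      rw [mem_bot]
      by_contra hu1
      obtain ⟨p', hp', x', hx'k, hx'o⟩ := exists_order_zpowers hk1
      obtain ⟨r, hr, y, hyu, hyo⟩ := exists_order_zpowers hu1
      have hx'K : x' ∈ E₁ := (zpowers_le.mpr hk) hx'k
      have hyU : y ∈ U := (zpowers_le.mpr hu.1) hyu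
      have hx'1 := ne_one_of_order hp' hx'o
      have hy1 := ne_one_of_order hr hyo
      have hp'd : p' ∣ Nat.card E₁ := by
        rw [← hx'o]
        exact (orderOf_dvd_natCard (⟨x', hx'K⟩ : E₁)) |> fun h => by
          rwa [← Subgroup.orderOf_coe] at h
      have hrd : r ∣ Nat.card U := by
        rw [← hyo]
        exact (orderOf_dvd_natCard (⟨y, hyU⟩ : U)) |> fun h => by
          rwa [← Subgroup.orderOf_coe] at h
      have hp'1 : p' ∈ tau1 M := hE₁.2.1 p' hp' hp'd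
      have hcomm : Commute x' y := by
        obtain ⟨i, rfl⟩ := mem_zpowers_iff.mp hx'k
        obtain ⟨j, rfl⟩ := mem_zpowers_iff.mp hyu
        have h0 : Commute k u := (mem_centralizer_singleton_iff.mp hu.2).symm
        exact (h0.zpow_left i).zpow_right j
      have hPc' : Nat.card (zpowers x') = p' := by rw [Nat.card_zpowers, hx'o]
      have hRc' : Nat.card (zpowers y) = r := by rw [Nat.card_zpowers, hyo]
      have hyC : y ∈ centralizer ((zpowers x' : Subgroup G) : Set G) := by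
        rw [centralizer_zpowers, mem_centralizer_singleton_iff]
        exact hcomm.eq.symm
      have hPE : zpowers x' ≤ E := zpowers_le.mpr (hE₁.1 hx'K)
      have hle := h1428 E hE p' hp'1 (zpowers x') hPE hPc' (zpowers y)
        (zpowers_le.mpr ⟨hU.1 hyU, hyC⟩) (by rw [hRc']; exact hr)
      have hPne' : sigmaCore M ⊓ centralizer ((zpowers x' : Subgroup G) : Set G) ≠ ⊥ := by
        rw [centralizer_zpowers, hprim x' hx'K hx'1]
        exact hCE₁
      have hRne : sigmaCore M ⊓ centralizer ((zpowers y : Subgroup G) : Set G) ≠ ⊥ :=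
        fun h => hPne' (eq_bot_iff.mpr (h ▸ hle))
      have hr1 : r ∉ tau1 M := hU.2.1 r hr hrd
      have hrE : r ∣ Nat.card E := hrd.trans (card_dvd_of_le hU.1)
      rcases Cfsg.Agent.Lib.Helper38BG13classify.mem_tau_cases hG hM hr
        (hrE.trans (card_dvd_of_le hEM)) with h | h | h | h
      · exact hEσ r hr hrE h
      · exact hr1 h
      · have : Fact r.Prime := ⟨hr⟩
        obtain ⟨A, hAE, hAe, hA2⟩ := exists_sq_compl hG hM hE h
        have hRA : zpowers y ≤ A :=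
          (Cfsg.Agent.S1418.result hG M hM E hE r h A ⟨hAE, hAe, hA2⟩).1.2 (zpowers y)
            (zpowers_le.mpr (hU.1 hyU)) hRc'
        apply hPne'
        apply tau12_regular E hE p' r hp'1 h (zpowers x') A hPE hPc' hAE hAe hA2
        intro hbot
        apply hy1
        have : y ∈ A ⊓ centralizer ((zpowers x' : Subgroup G) : Set G) := ⟨hRA (mem_zpowers y), hyC⟩
        rwa [hbot, mem_bot] at this
      · exact hr1 (hκ1 r (mem_kappa_of r (Or.inr h) (zpowers y)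
          (zpowers_le.mpr (hEM (hU.1 hyU))) hRc' hRne))
    have hUnil : Group.IsNilpotent U :=
      Cfsg.Agent.Lib.Helper30BG4.nilpotent_of_fpf hp (hUn (hE₁.1 hxK))
        (by rw [← hxo]; exact pow_orderOf_eq_one x) (hreg x hxK hx1)
    have hUab : IsMulCommutative U :=
      (Cfsg.Agent.S1420.result hG M hM E hE).1 U (hU.1.trans hEM) hUnil
        (fun q hq hd => hEσ q hq (hd.trans (card_dvd_of_le hU.1)))
    refine ⟨hprim, hCE₁, ⟨U, hUab, ⟨hU.1.trans hEM, ?_, ?_⟩, hE₁.1.trans hUn, hreg, ?_⟩, ?_,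
      ⟨p, hκ1 p hpκ, zpowers x, zpowers_le.mpr hxK, hPc⟩, h1κ⟩
    · intro q hq hd
      exact ⟨hq, fun h => hU.2.1 q hq hd (hκ1 q h), hEσ q hq (hd.trans (card_dvd_of_le hU.1))⟩
    · intro q hq hqπ hd
      rw [← relIndex_mul_relIndex U E M hU.1 hEM, relIndex_compl hE] at hd
      rcases (Nat.Prime.dvd_mul hq).mp hd with h | h
      · exact hU.2.2 q hq (fun h1 => hqπ.2.1 (h1κ q h1)) h
      · exact not_dvd_sigmaCore hG hM hq hqπ.2.2 h
    · rw [hUK]
      exact hE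
    · intro X hX _
      -- `K` is cyclic, hence abelian
      intro k hk
      rw [mem_normalizer_iff]
      intro z
      obtain ⟨g, hg⟩ := hcyc.exists_generator
      have hab : ∀ a ∈ E₁, ∀ b ∈ E₁, a * b = b * a := by
        intro a ha b hb
        obtain ⟨i, hi⟩ := mem_zpowers_iff.mp (hg ⟨a, ha⟩)
        obtain ⟨j, hj⟩ := mem_zpowers_iff.mp (hg ⟨b, hb⟩)
        have e1 : a = (g : G) ^ i := by
          have := congrArg Subtype.val hi
          simpa using this.symm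
        have e2 : b = (g : G) ^ j := by
          have := congrArg Subtype.val hj
          simpa using this.symm
        rw [e1, e2, ← zpow_add, ← zpow_add, add_comm]
      constructor
      · intro hz
        rw [hab k hk z (hX hz), mul_inv_cancel_right]
        exact hz
      · intro hz
        have h1 : k⁻¹ * (k * z * k⁻¹) * k = z := by group
        have h2 := hab k⁻¹ (inv_mem hk) _ (hX hz)
        rw [← h1, h2, inv_mul_cancel_right]
        exact hz

/-- B-G 14.2(a), exact statement of the piece `ptypeA` of project 14. -/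
theorem ptype_a (hG : IsMinSimpleOddOrder G) {M K : Subgroup G} (hM : IsCoatom M)
    (hK : IsPiHallOf (kappa M) K M) (hK1 : K ≠ ⊥) :
    (∀ k ∈ K, k ≠ 1 →
      sigmaCore M ⊓ centralizer ({k} : Set G) = sigmaCore M ⊓ centralizer (K : Set G)) ∧
    sigmaCore M ⊓ centralizer (K : Set G) ≠ ⊥ ∧
    (∃ U : Subgroup G, IsMulCommutative U ∧
      IsPiHallOf {q | q.Prime ∧ q ∉ kappa M ∧ q ∉ sigma M} U M ∧ K ≤ normalizer (U : Set G) ∧
      (∀ k ∈ K, k ≠ 1 → U ⊓ centralizer ({k} : Set G) = ⊥) ∧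
      IsComplIn (U ⊔ K) (sigmaCore M) M) ∧
    (∀ X : Subgroup G, X ≤ K → (Nat.card X).Prime → K ≤ normalizer (X : Set G)) ∧
    (∃ p ∈ tau1 M, ∃ P : Subgroup G, P ≤ K ∧ Nat.card P = p) ∧ ∀ p ∈ tau1 M, p ∈ kappa M :=
  ptype_a_of hG hM hK hK1
    (fun _ hp => Cfsg.Agent.Lib.Helper37BG14kbasic.kappa_cases hp)
    (fun _ hp _ hPM hP => Cfsg.Agent.Lib.Helper37BG14kbasic.not_reg_of_kappa hp hPM hP)
    (fun _ hp _ hPM hP hne => Cfsg.Agent.Lib.Helper37BG14kbasic.mem_kappa_of hG hp hPM hP hne)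
    (Cfsg.Agent.Lib.Helper37BG14kbasic.exists_compl_ge_kappa hG hM hK)
    (fun _ _ hE hE₁ x hx hx1 =>
      Cfsg.Agent.Lib.Helper37BG14primact.tau1_primact hG hM hE hE₁ x hx hx1)
    (fun _ hE p q hp hq _ _ hPE hP hAE hAe hA2 hne =>
      haveI : Fact p.Prime := ⟨hp.1⟩
      haveI : Fact q.Prime := ⟨hq.1⟩
      Cfsg.Agent.Lib.H2BG13bTau12.tau12_regular hG hM hE hp hq hPE hP hAE hAe hA2 hne)
    (fun _ hE _ hr _ hRE hR hne =>
      Cfsg.Agent.Lib.H2BG13bNonreg.tau13_nonregular hG hM hE hr hRE hR hne)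
    (fun E hE p hp P hPE hP R hR hRp =>
      Cfsg.Agent.S1428.result hG M hM E hE p hp P hPE hP R hR hRp)

end Cfsg.Agent.Lib.Helper12BG14ptypeA
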