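import Mathlib
import Cfsg.Agent.Lib.Helper30BG2

/-!
PROJECT 14, pieces `ptypeB`, `ptypeC` (B-G 14.2(b) first half, 14.2(c)), in relative form: the pieces
`ptype_a` and `cent_tau1_uniq` of the skeleton enter as hypotheses.
-/

set_option autoImplicit false

namespace Cfsg.Agent.Lib.Helper60BG14ptypeB

open Cfsg Subgroup

variable {G : Type*} [Group G]

/-- the core computation of B-G 14.2(b) -/
theorem inf_normalizer_eq {M K U Y : Subgroup G}
    (h1 : ∀ k ∈ K, k ≠ 1 →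
      sigmaCore M ⊓ centralizer ({k} : Set G) = sigmaCore M ⊓ centralizer (K : Set G))
    (hKU : K ≤ normalizer (U : Set G))
    (hreg : ∀ k ∈ K, k ≠ 1 → U ⊓ centralizer ({k} : Set G) = ⊥)
    (hc : IsComplIn (U ⊔ K) (sigmaCore M) M)
    (hYK : Y ≤ K) (hKY : K ≤ normalizer (Y : Set G)) (hY1 : Y ≠ ⊥) :
    M ⊓ normalizer (Y : Set G) = K ⊔ (sigmaCore M ⊓ centralizer (K : Set G)) := by
  have hKM : K ≤ M := le_sup_right.trans hc.1
  obtain ⟨x, hxY, hx1⟩ : ∃ x ∈ Y, x ≠ 1 := by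
    obtain ⟨x, hx⟩ := Subgroup.ne_bot_iff_exists_ne_one.mp hY1
    exact ⟨x.1, x.2, fun h => hx (Subtype.ext h)⟩
  have hxK : x ∈ K := hYK hxY
  apply le_antisymm
  · rintro m ⟨hmM, hmN⟩
    obtain ⟨a, ha, s, hs, rfl⟩ := hc.2.2.2 m hmM
    have ha' : a ∈ ((K ⊔ U : Subgroup G) : Set G) := by rw [sup_comm]; exact ha
    rw [coe_mul_of_left_le_normalizer_right K U hKU] at ha'
    obtain ⟨k, hk, u, hu, rfl⟩ := ha'
    have hk : k ∈ K := hk
    have hu : u ∈ U := hu
    -- `n = u s` normalizes `Y`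
    have hn : u * s ∈ normalizer (Y : Set G) := by
      have := (normalizer (Y : Set G)).mul_mem ((normalizer (Y : Set G)).inv_mem (hKY hk)) hmN
      simpa [mul_assoc] using this
    have hy : (u * s) * x * (u * s)⁻¹ * x⁻¹ ∈ K :=
      K.mul_mem (hYK ((mem_normalizer_iff.mp hn x).mp hxY)) (K.inv_mem hxK)
    have hu' : x * u * x⁻¹ ∈ U := (mem_normalizer_iff.mp (hKU hxK) u).mp hu
    have hs' : s * (x * s⁻¹ * x⁻¹) ∈ sigmaCore M :=
      (sigmaCore M).mul_mem hs ((mem_normalizer_iff.mp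
        (Cfsg.Agent.Lib.Helper30BG2.le_normalizer_sigmaCore M (hKM hxK)) s⁻¹).mp
        ((sigmaCore M).inv_mem hs))
    have e1 : s * (x * s⁻¹ * x⁻¹)
        = u⁻¹ * ((u * s) * x * (u * s)⁻¹ * x⁻¹) * (x * u * x⁻¹) := by group
    have hs1 : s * (x * s⁻¹ * x⁻¹) = 1 := by
      have hmem : s * (x * s⁻¹ * x⁻¹) ∈ (U ⊔ K) ⊓ sigmaCore M := by
        refine ⟨?_, hs'⟩
        rw [e1]
        exact (U ⊔ K).mul_mem ((U ⊔ K).mul_mem ((U ⊔ K).inv_mem (le_sup_left (a := U) hu))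
          (le_sup_right (a := U) hy)) (le_sup_left (a := U) hu')
      rw [hc.2.2.1] at hmem
      exact hmem
    have hUK : ∀ z, z ∈ U → z ∈ K → z = 1 := by
      intro z hzU hzK
      by_contra hz
      have : z ∈ U ⊓ centralizer ({z} : Set G) :=
        ⟨hzU, mem_centralizer_singleton_iff.mpr rfl⟩
      rw [hreg z hzK hz] at this
      exact hz this
    have e2 : (u * s) * x * (u * s)⁻¹ * x⁻¹ = u * (s * (x * s⁻¹ * x⁻¹)) * (x * u * x⁻¹)⁻¹ := by
      group
    have hy1 : u * (x * u * x⁻¹)⁻¹ = 1 := by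
      apply hUK
      · exact U.mul_mem hu (U.inv_mem hu')
      · rw [e2, hs1, mul_one] at hy
        exact hy
    have hu1 : u = 1 := by
      have hcomm : u ∈ U ⊓ centralizer ({x} : Set G) := by
        refine ⟨hu, mem_centralizer_singleton_iff.mpr ?_⟩
        have h3 : u = x * u * x⁻¹ := mul_inv_eq_one.mp hy1
        calc u * x = (x * u * x⁻¹) * x := by rw [← h3]
          _ = x * u := by group
      rw [hreg x hxK hx1] at hcomm
      exact hcomm
    have hsK : s ∈ sigmaCore M ⊓ centralizer (K : Set G) := by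
      rw [← h1 x hxK hx1]
      refine ⟨hs, mem_centralizer_singleton_iff.mpr ?_⟩
      have h3 : s = (x * s⁻¹ * x⁻¹)⁻¹ := eq_inv_of_mul_eq_one_left hs1
      calc s * x = (x * s⁻¹ * x⁻¹)⁻¹ * x := by rw [← h3]
        _ = x * s := by group
    show k * u * s ∈ K ⊔ (sigmaCore M ⊓ centralizer (K : Set G))
    rw [hu1, mul_one]
    exact (K ⊔ (sigmaCore M ⊓ centralizer (K : Set G))).mul_mem (le_sup_left (a := K) hk)
      (le_sup_right (a := K) hsK)
  · apply sup_le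
    · exact le_inf hKM hKY
    · rintro s ⟨hs, hsC⟩
      refine ⟨Cfsg.Agent.Lib.Helper30BG2.sigmaCore_le M hs, ?_⟩
      show s ∈ normalizer (Y : Set G)
      rw [mem_normalizer_iff]
      intro y
      have key : ∀ z ∈ Y, s * z * s⁻¹ = z := by
        intro z hz
        have := mem_centralizer_iff.mp hsC z (hYK hz)
        rw [← this]; group
      constructor
      · intro hy
        rw [key y hy]; exact hy
      · intro hy
        have := key _ hy
        have e : s * y * s⁻¹ = y := by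
          have h4 : s * (s * y * s⁻¹) * s⁻¹ = s * y * s⁻¹ := this
          have h5 : s * y * s⁻¹ = s⁻¹ * (s * (s * y * s⁻¹) * s⁻¹) * s := by group
          rw [h5, h4]; group
        rw [← e]; exact hy

/-- piece `ptypeB`, relative to the conclusion of `ptype_a` -/
theorem ptype_b_of {M K : Subgroup G} (hK1 : K ≠ ⊥)
    (ha : (∀ k ∈ K, k ≠ 1 →
      sigmaCore M ⊓ centralizer ({k} : Set G) = sigmaCore M ⊓ centralizer (K : Set G)) ∧
    sigmaCore M ⊓ centralizer (K : Set G) ≠ ⊥ ∧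
    (∃ U : Subgroup G, IsMulCommutative U ∧
      IsPiHallOf {q | q.Prime ∧ q ∉ kappa M ∧ q ∉ sigma M} U M ∧ K ≤ normalizer (U : Set G) ∧
      (∀ k ∈ K, k ≠ 1 → U ⊓ centralizer ({k} : Set G) = ⊥) ∧
      IsComplIn (U ⊔ K) (sigmaCore M) M) ∧
    (∀ X : Subgroup G, X ≤ K → (Nat.card X).Prime → K ≤ normalizer (X : Set G)) ∧
    (∃ p ∈ tau1 M, ∃ P : Subgroup G, P ≤ K ∧ Nat.card P = p) ∧ ∀ p ∈ tau1 M, p ∈ kappa M) :
    M ⊓ normalizer (K : Set G) = K ⊔ (sigmaCore M ⊓ centralizer (K : Set G)) ∧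
    ∀ X : Subgroup G, X ≤ K → (Nat.card X).Prime →
      M ⊓ normalizer (X : Set G) = K ⊔ (sigmaCore M ⊓ centralizer (K : Set G)) := by
  obtain ⟨h1, -, ⟨U, -, -, hKU, hreg, hc⟩, h4, -, -⟩ := ha
  refine ⟨inf_normalizer_eq h1 hKU hreg hc le_rfl le_normalizer hK1, fun X hXK hXp => ?_⟩
  apply inf_normalizer_eq h1 hKU hreg hc hXK (h4 X hXK hXp)
  rintro rfl
  rw [Subgroup.card_bot] at hXp
  exact Nat.not_prime_one hXp

/-- piece `ptypeC`, relative to `ptype_a` (only its fifth clause) and `cent_tau1_uniq` -/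
theorem ptype_c_of {M K : Subgroup G} (hKM : K ≤ M)
    (ha : ∃ p ∈ tau1 M, ∃ P : Subgroup G, P ≤ K ∧ Nat.card P = p)
    (hu : ∀ {p q : ℕ}, p ∈ tau1 M → q.Prime → ∀ {P X : Subgroup G}, P ≤ M → Nat.card P = p →
      X ≤ sigmaCore M ⊓ centralizer (P : Set G) → Nat.card X = q →
      (centralizer (X : Set G) ≤ M ∧
        ∀ L : Subgroup G, IsCoatom L → centralizer (X : Set G) ≤ L → L = M) ∧
        ∀ S : Subgroup G, Cfsg.Agent.Lib.Helper24BG.IsSyl q S (sigmaCore M) → InUniqueMaximal S)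
    {X : Subgroup G}
    (hX : X ≤ sigmaCore M ⊓ centralizer (K : Set G)) (hXp : (Nat.card X).Prime) :
    (centralizer (X : Set G) ≤ M ∧
      ∀ L : Subgroup G, IsCoatom L → centralizer (X : Set G) ≤ L → L = M) ∧
      ∀ S : Subgroup G, Cfsg.Agent.Lib.Helper24BG.IsSyl (Nat.card X) S (sigmaCore M) →
        InUniqueMaximal S := by
  obtain ⟨p, hp, P, hPK, hP⟩ := ha
  exact hu hp hXp (hPK.trans hKM) hP
    (hX.trans (inf_le_inf_left _ (centralizer_le hPK))) rfl

end Cfsg.Agent.Lib.Helper60BG14ptypeB
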