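import Mathlib
import Cfsg.Agent.Lib.H2BG13bTau12
import Cfsg.Agent.Lib.H2BG13bNonreg
import Cfsg.Agent.Lib.H2BG13bUniq
import Cfsg.Agent.Lib.Helper37BG14kbasic
import Cfsg.Agent.Lib.Helper37BG14primact
import Cfsg.Agent.Lib.Helper37BG14emb
import Cfsg.Agent.Lib.Helper90BG14normtau2
import Cfsg.Agent.Lib.Helper90BG14sqfix
import Cfsg.Agent.Lib.Helper1BG14k1
import Cfsg.Agent.Lib.Helper12BG14ptypeA
import Cfsg.Agent.Lib.Helper60BG14ptypeB
import Cfsg.Agent.Lib.Helper37BGPart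
import Cfsg.Agent.Lib.Helper30BG4
import Cfsg.Agent.Lib.Helper84BGFrobact
import Cfsg.Agent.Lib.Helper21BGExcbasic
import Cfsg.Agent.Lib.Helper2BGd
import Cfsg.Agent.S1378
import Cfsg.Agent.S1404
import Cfsg.Agent.S1408
import Cfsg.Agent.S1409
import Cfsg.Agent.S1414
import Cfsg.Agent.S1415
import Cfsg.Agent.S1416
import Cfsg.Agent.S1417
import Cfsg.Agent.S1418
import Cfsg.Agent.S1420
import Cfsg.Agent.S1422
import Cfsg.Agent.S1425
import Cfsg.Agent.S1427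
import Cfsg.Agent.S1428

/-!
PROJECT 14 : Bender-Glauberman Section 14, WAVE 1 = 14.2, 14.3, 14.4: the HUB.
Every lemma of the skeleton notes/helper52/BG14Skel.lean.txt, restated with the same name and
proved from the landed piece.
-/

set_option autoImplicit false

namespace Cfsg.Agent.Lib.Helper52BG14

open Cfsg Subgroup
open Cfsg.Agent.Lib.Helper30Trans Cfsg.Agent.Lib.Helper24BG

variable {G : Type*} [Group G] [Finite G]

/-! ### INTERFACE: B-G 13.11, 13.12, 13.13 (architect helper2, project 13b) -/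

/-- B-G 13.12 (Coq `tau12_regular`). -/
theorem tau12_regular (hG : IsMinSimpleOddOrder G) {M E : Subgroup G} (hM : IsCoatom M)
    (hE : IsComplIn E (sigmaCore M) M) {p q : ℕ} [Fact p.Prime] [Fact q.Prime] (hp : p ∈ tau1 M)
    (hq : q ∈ tau2 M) {P A : Subgroup G} (hPE : P ≤ E) (hP : Nat.card P = p) (hAE : A ≤ E)
    (hAe : IsElementaryAbelian q A) (hA2 : Nat.card A = q ^ 2)
    (hne : A ⊓ centralizer (P : Set G) ≠ ⊥) : sigmaCore M ⊓ centralizer (P : Set G) = ⊥ :=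
  Cfsg.Agent.Lib.H2BG13bTau12.tau12_regular hG hM hE hp hq hPE hP hAE hAe hA2 hne

/-- B-G 13.11 (Coq `tau13_nonregular`). -/
theorem tau13_nonregular (hG : IsMinSimpleOddOrder G) {M E : Subgroup G} (hM : IsCoatom M)
    (hE : IsComplIn E (sigmaCore M) M) {r : ℕ} (hr : r ∈ tau3 M) {R : Subgroup G} (hRE : R ≤ E)
    (hR : Nat.card R = r) (hne : sigmaCore M ⊓ centralizer (R : Set G) ≠ ⊥) :
    tau2 M = ∅ ∧ (tau1 M).Nonempty ∧
      (∀ x ∈ E, x ≠ 1 →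
        sigmaCore M ⊓ centralizer ({x} : Set G) = sigmaCore M ⊓ centralizer (E : Set G)) ∧
      ∀ X : Subgroup G, X ≤ E → (Nat.card X).Prime → E ≤ normalizer (X : Set G) :=
  Cfsg.Agent.Lib.H2BG13bNonreg.tau13_nonregular hG hM hE hr hRE hR hne

/-- B-G 13.13 (Coq `cent_cent_Msigma_tau1_uniq`). -/
theorem cent_tau1_uniq (hG : IsMinSimpleOddOrder G) {M : Subgroup G} (hM : IsCoatom M) {p q : ℕ}
    (hp : p ∈ tau1 M) (hq : q.Prime) {P X : Subgroup G} (hPM : P ≤ M) (hP : Nat.card P = p)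
    (hX : X ≤ sigmaCore M ⊓ centralizer (P : Set G)) (hXq : Nat.card X = q) :
    (centralizer (X : Set G) ≤ M ∧
      ∀ L : Subgroup G, IsCoatom L → centralizer (X : Set G) ≤ L → L = M) ∧
      ∀ S : Subgroup G, IsSyl q S (sigmaCore M) → InUniqueMaximal S :=
  Cfsg.Agent.Lib.H2BG13bUniq.cent_tau1_uniq hG hM hp hq hPM hP hX hXq

/-! ### piece `kbasic` (routine API for κ(M)) -/

theorem kappa_cases {M : Subgroup G} {p : ℕ} (hp : p ∈ kappa M) : p ∈ tau1 M ∨ p ∈ tau3 M :=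
  Cfsg.Agent.Lib.Helper37BG14kbasic.kappa_cases hp

theorem kappa_not_tau2 {M : Subgroup G} {p : ℕ} (hp : p ∈ kappa M) : p ∉ tau2 M :=
  Cfsg.Agent.Lib.Helper37BG14kbasic.kappa_not_tau2 hp

/-- every subgroup of order `p ∈ κ(M)` of `M` centralizes a non-identity element of `M_σ` -/
theorem not_reg_of_kappa {M : Subgroup G} {p : ℕ} (hp : p ∈ kappa M) {P : Subgroup G} (hPM : P ≤ M)
    (hP : Nat.card P = p) : sigmaCore M ⊓ centralizer (P : Set G) ≠ ⊥ :=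
  Cfsg.Agent.Lib.Helper37BG14kbasic.not_reg_of_kappa hp hPM hP

theorem mem_kappa_of (hG : IsMinSimpleOddOrder G) {M : Subgroup G} {p : ℕ}
    (hp : p ∈ tau1 M ∨ p ∈ tau3 M) {P : Subgroup G}
    (hPM : P ≤ M) (hP : Nat.card P = p) (hne : sigmaCore M ⊓ centralizer (P : Set G) ≠ ⊥) :
    p ∈ kappa M :=
  Cfsg.Agent.Lib.Helper37BG14kbasic.mem_kappa_of hG hp hPM hP hne

theorem kappa_cj (M : Subgroup G) (g : G) : kappa (cj g M) = kappa M :=
  Cfsg.Agent.Lib.Helper37BG14kbasic.kappa_cj M g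

/-- a `κ(M)`-subgroup of `M` lies in a Hall `κ(M)`-subgroup -/
theorem exists_kappa_hall_ge (hG : IsMinSimpleOddOrder G) {M : Subgroup G} (hM : IsCoatom M)
    {Y : Subgroup G} (hYM : Y ≤ M) (hY : ∀ p : ℕ, p.Prime → p ∣ Nat.card Y → p ∈ kappa M) :
    ∃ K : Subgroup G, IsPiHallOf (kappa M) K M ∧ Y ≤ K :=
  Cfsg.Agent.Lib.Helper37BG14kbasic.exists_kappa_hall_ge hG hM hYM hY

/-- Hall `κ(M)`-subgroups of `M` are conjugate in `M` -/
theorem kappa_hall_conj (hG : IsMinSimpleOddOrder G) {M : Subgroup G} (hM : IsCoatom M)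
    {K K' : Subgroup G} (hK : IsPiHallOf (kappa M) K M) (hK' : IsPiHallOf (kappa M) K' M) :
    ∃ m ∈ M, K' = cj m K :=
  Cfsg.Agent.Lib.Helper37BG14kbasic.kappa_hall_conj hG hM hK hK'

/-- a Hall `κ(M)`-subgroup lies in a complement of `M_σ` -/
theorem exists_compl_ge_kappa (hG : IsMinSimpleOddOrder G) {M : Subgroup G} (hM : IsCoatom M)
    {K : Subgroup G} (hK : IsPiHallOf (kappa M) K M) :
    ∃ E : Subgroup G, IsComplIn E (sigmaCore M) M ∧ K ≤ E :=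
  Cfsg.Agent.Lib.Helper37BG14kbasic.exists_compl_ge_kappa hG hM hK

/-! ### piece `primact` (prime action of a Hall τ₁-subgroup: S1427 + S1428 + S1415) -/

theorem tau1_primact (hG : IsMinSimpleOddOrder G) {M E E₁ : Subgroup G} (hM : IsCoatom M)
    (hE : IsComplIn E (sigmaCore M) M) (hE₁ : IsPiHallOf (tau1 M) E₁ E) :
    ∀ x ∈ E₁, x ≠ 1 →
      sigmaCore M ⊓ centralizer ({x} : Set G) = sigmaCore M ⊓ centralizer (E₁ : Set G) :=
  Cfsg.Agent.Lib.Helper37BG14primact.tau1_primact hG hM hE hE₁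

/-! ### piece `normtau2` (B-G 12.11(a) and friends) -/

theorem norm_tau2 (hG : IsMinSimpleOddOrder G) {M E : Subgroup G} (hM : IsCoatom M)
    (hE : IsComplIn E (sigmaCore M) M) {p : ℕ} [Fact p.Prime] (hp : p ∈ tau2 M) {A : Subgroup G}
    (hAE : A ≤ E) (hAe : IsElementaryAbelian p A) (hA2 : Nat.card A = p ^ 2) {L : Subgroup G}
    (hL : IsCoatom L) (hNL : normalizer (A : Set G) ≤ L) :
    p ∈ sigma L ∧ p ∉ beta L ∧ M ⊓ L = E ∧ sigmaCore M ⊓ L = ⊥ ∧ (∀ g : G, L ≠ cj g M) ∧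
      ∀ r ∈ tau2 M, r ∈ sigma L :=
  Cfsg.Agent.Lib.Helper90BG14normtau2.norm_tau2 hG hM hE hp hAE hAe hA2 hL hNL

/-! ### piece `sqfix` (the action of `N(A)` on `A`) -/

theorem norm_sq_le (hG : IsMinSimpleOddOrder G) {H : Subgroup G} (hH : IsCoatom H) {p : ℕ}
    [Fact p.Prime] (hp : p ∈ tau2 H) {A X₁ X₂ : Subgroup G} (hAH : A ≤ H)
    (hAe : IsElementaryAbelian p A) (hA2 : Nat.card A = p ^ 2) (hX₁ : X₁ ≤ A) (hX₂ : X₂ ≤ A)
    (hc₁ : Nat.card X₁ = p) (hc₂ : Nat.card X₂ = p) {y : G} (hy : y ∈ normalizer (A : Set G))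
    (hy₁ : y ∈ centralizer (X₁ : Set G)) (hy₂ : y ∈ normalizer (X₂ : Set G))
    (hy₂' : y ∉ centralizer (X₂ : Set G)) :
    normalizer (A : Set G) ≤ normalizer (X₁ : Set G) ∨
      normalizer (A : Set G) ≤ normalizer (X₂ : Set G) :=
  Cfsg.Agent.Lib.Helper90BG14sqfix.norm_sq_le hG hH hp hAH hAe hA2 hX₁ hX₂ hc₁ hc₂ hy hy₁ hy₂ hy₂'

/-! ### piece `emb` (B-G 12.15 with the σ-partition) -/

theorem emb (hG : IsMinSimpleOddOrder G) {M : Subgroup G} (hM : IsCoatom M) {q : ℕ}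
    [Fact q.Prime] (hq : q ∈ sigma M) {X : Subgroup G} (hXq : IsPGroup q X) (hX1 : X ≠ ⊥)
    (hXM : X ≤ M) (hnot : ¬ normalizer (X : Set G) ≤ M) {N : Subgroup G} (hN : IsCoatom N)
    (hNX : normalizer (X : Set G) ≤ N) :
    q ∈ tau2 N ∧ IsComplIn (M ⊓ N) (sigmaCore N) N ∧ sigmaCore N ⊓ M = ⊥ ∧
      (∀ g : G, N ≠ cj g M) ∧ (∀ r : ℕ, r ∈ sigma M → r ∉ sigma N) ∧
      ∃ B : Subgroup G, B ≤ M ⊓ N ∧ IsElementaryAbelian q B ∧ Nat.card B = q ^ 2 :=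
  Cfsg.Agent.Lib.Helper37BG14emb.emb hG hM hq hXq hX1 hXM hnot hN hNX

/-! ### piece `k1` (B-G 14.2(b), second half) -/

theorem kappa_norm_sigma (hG : IsMinSimpleOddOrder G) {M : Subgroup G} (hM : IsCoatom M) {p : ℕ}
    [Fact p.Prime] (hp : p ∈ kappa M) {X : Subgroup G} (hXM : X ≤ M) (hX : Nat.card X = p)
    {H : Subgroup G} (hH : IsCoatom H) (hN : normalizer (X : Set G) ≤ H) :
    p ∈ sigma H ∧ X ≤ sigmaCore H ∧ ∀ g : G, H ≠ cj g M :=
  Cfsg.Agent.Lib.Helper1BG14k1.kappa_norm_sigma_of (fun hM hE => tau12_regular hG hM hE)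
    (fun hH => norm_sq_le hG hH) hG hM hp hXM hX hH hN

/-! ### piece `ptypeA` (B-G 14.2(a)) -/

theorem ptype_a (hG : IsMinSimpleOddOrder G) {M K : Subgroup G} (hM : IsCoatom M)
    (hK : IsPiHallOf (kappa M) K M) (hK1 : K ≠ ⊥) :
    (∀ k ∈ K, k ≠ 1 →
      sigmaCore M ⊓ centralizer ({k} : Set G) = sigmaCore M ⊓ centralizer (K : Set G)) ∧
    sigmaCore M ⊓ centralizer (K : Set G) ≠ ⊥ ∧
    (∃ U : Subgroup G, IsMulCommutative U ∧
      IsPiHallOf {q | q.Prime ∧ q ∉ kappa M ∧ q ∉ sigma M} U M ∧ K ≤ normalizer (U : Set G) ∧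
      (∀ k ∈ K, k ≠ 1 → U ⊓ centralizer ({k} : Set G) = ⊥) ∧
      IsComplIn (U ⊔ K) (sigmaCore M) M) ∧
    (∀ X : Subgroup G, X ≤ K → (Nat.card X).Prime → K ≤ normalizer (X : Set G)) ∧
    (∃ p ∈ tau1 M, ∃ P : Subgroup G, P ≤ K ∧ Nat.card P = p) ∧ ∀ p ∈ tau1 M, p ∈ kappa M :=
  Cfsg.Agent.Lib.Helper12BG14ptypeA.ptype_a hG hM hK hK1

/-! ### piece `ptypeB` (B-G 14.2(b), first half) -/

theorem ptype_b (hG : IsMinSimpleOddOrder G) {M K : Subgroup G} (hM : IsCoatom M)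
    (hK : IsPiHallOf (kappa M) K M) (hK1 : K ≠ ⊥) :
    M ⊓ normalizer (K : Set G) = K ⊔ (sigmaCore M ⊓ centralizer (K : Set G)) ∧
    ∀ X : Subgroup G, X ≤ K → (Nat.card X).Prime →
      M ⊓ normalizer (X : Set G) = K ⊔ (sigmaCore M ⊓ centralizer (K : Set G)) :=
  Cfsg.Agent.Lib.Helper60BG14ptypeB.ptype_b_of hK1 (ptype_a hG hM hK hK1)

/-! ### piece `ptypeC` (B-G 14.2(c)) -/

theorem ptype_c (hG : IsMinSimpleOddOrder G) {M K : Subgroup G} (hM : IsCoatom M)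
    (hK : IsPiHallOf (kappa M) K M) (hK1 : K ≠ ⊥) {X : Subgroup G}
    (hX : X ≤ sigmaCore M ⊓ centralizer (K : Set G)) (hXp : (Nat.card X).Prime) :
    (centralizer (X : Set G) ≤ M ∧
      ∀ L : Subgroup G, IsCoatom L → centralizer (X : Set G) ≤ L → L = M) ∧
      ∀ S : Subgroup G, IsSyl (Nat.card X) S (sigmaCore M) → InUniqueMaximal S :=
  Cfsg.Agent.Lib.Helper60BG14ptypeB.ptype_c_of hK.1 (ptype_a hG hM hK hK1).2.2.2.2.1
    (fun hp hq _ _ hPM hP hX hXq => cent_tau1_uniq hG hM hp hq hPM hP hX hXq) hX hXp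

/-! ### pieces `S1430`, `S1431`, `S1432`, `S1374`, `S1375` : the rows themselves (templates). -/

end Cfsg.Agent.Lib.Helper52BG14
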