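import Cfsg.Agent.Lib.Helper66Wf9
import Cfsg.Agent.Lib.Helper31Nilpotent
import Cfsg.Agent.Lib.Helper30SZ
import Cfsg.Agent.S0022

/-!
PROJECT 15, piece `nilsec`.
-/

set_option autoImplicit false
open Cfsg

namespace Cfsg.Agent.Lib.Helper56BG15nilsec

open Subgroup

universe u
variable {G : Type u} [Group G] [Finite G]

omit [Finite G] in
/-- in a nilpotent subgroup, elements of subgroups of coprime orders commute -/
theorem commute_of_nilpotent [Finite G] {U A B : Subgroup G} (hU : Group.IsNilpotent U) (hA : A ≤ U) (hB : B ≤ U)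
    (hAB : (Nat.card A).Coprime (Nat.card B)) {a b : G} (ha : a ∈ A) (hb : b ∈ B) :
    a * b = b * a := by
  have h1 : orderOf a ∣ Nat.card A := by
    have := orderOf_dvd_natCard (⟨a, ha⟩ : A)
    rwa [Subgroup.orderOf_mk] at this
  have h2 : orderOf b ∣ Nat.card B := by
    have := orderOf_dvd_natCard (⟨b, hb⟩ : B)
    rwa [Subgroup.orderOf_mk] at this
  have h3 : (orderOf (⟨a, hA ha⟩ : U)).Coprime (orderOf (⟨b, hB hb⟩ : U)) := by
    rw [Subgroup.orderOf_mk, Subgroup.orderOf_mk]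
    exact Nat.Coprime.coprime_dvd_left h1 (Nat.Coprime.coprime_dvd_right h2 hAB)
  have := Cfsg.Agent.Lib.Helper31Nilpotent.coprime_commute U _ _ h3
  exact congrArg Subtype.val this

/-- if `K ≠ 1` acts coprimely on `Y`, `N ⊴ Y` is `K`-invariant and contains all `C_Y(k)`, `k ≠ 1`,
then `Y/N` is nilpotent (Thompson); stated as: subgroups of coprime orders commute mod `N`. -/
theorem comm_le_of_fpf_section {Y N K A B : Subgroup G} (hNY : N ≤ Y)
    (hYN : Y ≤ normalizer (N : Set G)) (hKY : K ≤ normalizer (Y : Set G))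
    (hKN : K ≤ normalizer (N : Set G)) (hK1 : K ≠ ⊥)
    (hcop : (Nat.card K).Coprime (Nat.card Y)) (hsol : Group.IsSolvable K ∨ Group.IsSolvable Y)
    (hfix : ∀ k ∈ K, k ≠ 1 → Y ⊓ centralizer ({k} : Set G) ≤ N)
    (hA : A ≤ Y) (hB : B ≤ Y) (hAB : (Nat.card A).Coprime (Nat.card B)) : ⁅A, B⁆ ≤ N := by
  set L : Subgroup G := normalizer (N : Set G) with hL
  have hNL : N ≤ L := le_normalizer
  have hn : (N.subgroupOf L).Normal := (normal_subgroupOf_iff_le_normalizer hNL).mpr le_rfl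
  let π : L →* L ⧸ N.subgroupOf L := QuotientGroup.mk' _
  have hπ : ∀ x : L, π x = 1 ↔ (x : G) ∈ N := by
    intro x
    rw [QuotientGroup.mk'_apply, QuotientGroup.eq_one_iff, mem_subgroupOf]
  set Ub : Subgroup (L ⧸ N.subgroupOf L) := (Y.subgroupOf L).map π with hUb
  set Eb : Subgroup (L ⧸ N.subgroupOf L) := (K.subgroupOf L).map π with hEb
  have hKNbot : ∀ k ∈ K, k ∈ N → k = 1 := by
    intro k hk hkN
    exact Cfsg.Agent.Lib.Helper30SZ.eq_one_of_mem_of_mem hcop (hNY hkN) hk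
  have hnil : Group.IsNilpotent Ub := by
    apply Cfsg.Agent.Lib.Helper66Wf9.nil_of_frob Ub Eb
    · intro h
      apply hK1
      rw [eq_bot_iff]
      intro k hk
      have h1 : π ⟨k, hKN hk⟩ ∈ Eb := mem_map_of_mem π (mem_subgroupOf.mpr hk)
      rw [h, mem_bot, hπ] at h1
      exact mem_bot.mpr (hKNbot k hk h1)
    · rintro _ ⟨k, hk, rfl⟩ _ ⟨y, hy, rfl⟩
      refine ⟨k * y * k⁻¹, ?_, by simp⟩
      rw [SetLike.mem_coe, mem_subgroupOf] at hk hy ⊢
      exact (mem_normalizer_iff.mp (hKY hk) _).mp hy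
    · rintro _ ⟨k, hk, rfl⟩ hk1 _ ⟨y, hy, rfl⟩ hc
      rw [SetLike.mem_coe, mem_subgroupOf] at hk hy
      have hk1' : (k : G) ≠ 1 := by
        intro h
        apply hk1
        rw [hπ, h]
        exact N.one_mem
      have hcomm : Commute (π k) (π y) := hc
      have hz : zpowers (k : G) ≤ K := by
        rw [zpowers_le]; exact hk
      have hfx : ∀ a ∈ zpowers (k : G), a * (y : G) * a⁻¹ * (y : G)⁻¹ ∈ N := by
        rintro _ ⟨n, rfl⟩
        have h1 : Commute (π (k ^ n)) (π y) := by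
          rw [map_zpow]
          exact hcomm.zpow_left n
        have h2 : π (k ^ n * y * (k ^ n)⁻¹ * y⁻¹) = 1 := by
          rw [map_mul, map_mul, map_mul, map_inv, map_inv, h1.eq]
          group
        rw [hπ] at h2
        simpa using h2
      obtain ⟨c, hc, hyc⟩ := Cfsg.Agent.S0022.result (zpowers (k : G)) Y (hz.trans hKY)
        (Nat.Coprime.coprime_dvd_left (card_dvd_of_le hz) hcop)
        (Or.inl inferInstance) N hNY hYN (hz.trans hKN) y hy hfx
      have hcN : c ∈ N := by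
        apply hfix k hk hk1'
        refine mem_inf.mpr ⟨hc.1, ?_⟩
        rw [mem_centralizer_iff]
        intro x hx
        rw [Set.mem_singleton_iff] at hx
        subst hx
        exact (mem_centralizer_iff.mp hc.2) _ (mem_zpowers _)
      rw [hπ]
      have : (y : G) = c * ((y : G)⁻¹ * c)⁻¹ := by group
      rw [this]
      exact N.mul_mem hcN (N.inv_mem hyc)
  rw [commutator_le]
  intro a ha b hb
  have haL : a ∈ L := hYN (hA ha)
  have hbL : b ∈ L := hYN (hB hb)
  set Ab : Subgroup (L ⧸ N.subgroupOf L) := (A.subgroupOf L).map π with hAb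
  set Bb : Subgroup (L ⧸ N.subgroupOf L) := (B.subgroupOf L).map π with hBb
  have cA : Nat.card Ab ∣ Nat.card A := by
    have h1 := card_map_dvd (A.subgroupOf L) π
    rwa [Cfsg.Agent.Lib.Helper30SZ.card_subgroupOf_of_le (hA.trans hYN)] at h1
  have cB : Nat.card Bb ∣ Nat.card B := by
    have h1 := card_map_dvd (B.subgroupOf L) π
    rwa [Cfsg.Agent.Lib.Helper30SZ.card_subgroupOf_of_le (hB.trans hYN)] at h1
  have hAU : Ab ≤ Ub := map_mono (fun x hx => hA hx)
  have hBU : Bb ≤ Ub := map_mono (fun x hx => hB hx)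
  have h1 : π ⟨a, haL⟩ * π ⟨b, hbL⟩ = π ⟨b, hbL⟩ * π ⟨a, haL⟩ :=
    commute_of_nilpotent hnil hAU hBU
      (Nat.Coprime.coprime_dvd_left cA (Nat.Coprime.coprime_dvd_right cB hAB))
      (mem_map_of_mem π (mem_subgroupOf.mpr ha)) (mem_map_of_mem π (mem_subgroupOf.mpr hb))
  have h2 : π (⟨a, haL⟩ * ⟨b, hbL⟩ * ⟨a, haL⟩⁻¹ * ⟨b, hbL⟩⁻¹) = 1 := by
    rw [map_mul, map_mul, map_mul, map_inv, map_inv, h1]
    group
  rw [hπ] at h2
  rw [commutatorElement_def]
  simpa using h2

end Cfsg.Agent.Lib.Helper56BG15nilsec
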