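import Mathlib
import Cfsg.Agent.Lib.Helper21BGExcbasic
import Cfsg.Agent.S1350

/-!
B-G Section 14, the covers `x R(x)` (`x ∈ M_σ#`): disjointness and counting, derived from the
statements of Theorem 14.4 (rows S1374, S1375) and Theorem 13.9 (row S1378), which are taken here as
explicit hypotheses (`Hyp G`), so that this file does not depend on their proofs.
-/

set_option autoImplicit false
set_option linter.unusedSectionVars false
set_option linter.unusedVariables false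

namespace Cfsg.Agent.Lib.Helper24BGCover

open Cfsg Subgroup
open Cfsg.Agent.Lib.Helper30Trans Cfsg.Agent.Lib.Helper24BG Cfsg.Agent.Lib.Helper21BGExcbasic

variable {G : Type*} [Group G] [Finite G]

/-! ### generalities -/

/-- uniqueness of the decomposition into commuting parts of coprime orders -/
theorem eq_of_mul_eq_mul {a b c d : G} (hab : Commute a b) (hcd : Commute c d)
    (hcop : (orderOf b * orderOf d).Coprime (orderOf a * orderOf c)) (h : a * b = c * d) :
    a = c := by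
  set m := orderOf b * orderOf d with hm
  set n := orderOf a * orderOf c with hn
  have h1 : a ^ m = c ^ m := by
    have e1 : (a * b) ^ m = a ^ m := by
      rw [hab.mul_pow, hm, pow_mul b, pow_orderOf_eq_one, one_pow, mul_one]
    have e2 : (c * d) ^ m = c ^ m := by
      rw [hcd.mul_pow, hm, mul_comm (orderOf b), pow_mul d, pow_orderOf_eq_one, one_pow, mul_one]
    rw [← e1, ← e2, h]
  have ha : a ^ n = 1 := by rw [hn, pow_mul, pow_orderOf_eq_one, one_pow]
  have hc : c ^ n = 1 := by rw [hn, mul_comm, pow_mul, pow_orderOf_eq_one, one_pow]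
  have hb := Nat.gcd_eq_gcd_ab m n
  rw [Nat.Coprime.gcd_eq_one hcop] at hb
  have key : ∀ t : G, t ^ n = 1 → t = (t ^ m) ^ (Nat.gcdA m n) := by
    intro t ht
    calc t = t ^ ((1 : ℕ) : ℤ) := by simp
      _ = t ^ ((m : ℤ) * Nat.gcdA m n + (n : ℤ) * Nat.gcdB m n) := by rw [hb]
      _ = (t ^ m) ^ (Nat.gcdA m n) := by
        rw [zpow_add, zpow_mul, zpow_mul, zpow_natCast, zpow_natCast, ht, one_zpow, mul_one]
  rw [key a ha, key c hc, h1]

/-- all prime divisors of `n` lie in `π` -/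
def PiNum (π : Set ℕ) (n : ℕ) : Prop := ∀ p : ℕ, p.Prime → p ∣ n → p ∈ π

theorem PiNum.of_dvd {π : Set ℕ} {m n : ℕ} (h : PiNum π n) (hd : m ∣ n) : PiNum π m :=
  fun p hp hpm => h p hp (hpm.trans hd)

theorem PiNum.mul {π : Set ℕ} {m n : ℕ} (hm : PiNum π m) (hn : PiNum π n) : PiNum π (m * n) :=
  fun p hp hd => (hp.dvd_mul.mp hd).elim (hm p hp) (hn p hp)

theorem PiNum.coprime {π ρ : Set ℕ} {m n : ℕ} (hm : PiNum π m) (hn : PiNum ρ n)
    (hd : ∀ p, p ∈ π → p ∉ ρ) : m.Coprime n :=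
  Nat.coprime_of_dvd fun p hp h1 h2 => hd p (hm p hp h1) (hn p hp h2)

theorem piNum_one (π : Set ℕ) : PiNum π 1 := fun p hp h => absurd (Nat.dvd_one.mp h) hp.one_lt.ne'

/-- a subgroup of order prime to the index of a normal subgroup lies in it -/
theorem le_of_coprime_relIndex {N X Y : Subgroup G} (hXN : X ≤ normalizer (N : Set G))
    (hYX : Y ≤ X) (hc : (Nat.card Y).Coprime (N.relIndex X)) : Y ≤ N := by
  have hn : (N.subgroupOf X).Normal := normal_subgroupOf_of_le_normalizer hXN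
  have h1 : (N.subgroupOf X).relIndex (Y.subgroupOf X) = 1 := by
    have h2 : (N.subgroupOf X).relIndex (Y.subgroupOf X) ∣ Nat.card Y := by
      rw [← Cfsg.Agent.Lib.Helper30SZ.card_subgroupOf_of_le hYX]
      exact relIndex_dvd_card _ _
    have h3 : (N.subgroupOf X).relIndex (Y.subgroupOf X) ∣ N.relIndex X :=
      relIndex_dvd_index_of_normal _ _
    exact Nat.eq_one_of_dvd_coprimes hc h2 h3
  rw [relIndex_eq_one] at h1
  intro y hy
  exact mem_subgroupOf.mp (h1 (mem_subgroupOf.mpr (show ((⟨y, hYX hy⟩ : X) : G) ∈ Y from hy)))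

theorem sigmaCore_le' (M : Subgroup G) : sigmaCore M ≤ M := map_subtype_le _

theorem piNum_card_sigmaCore (hG : IsMinSimpleOddOrder G) {M : Subgroup G} (hM : IsCoatom M) :
    PiNum (sigma M) (Nat.card (sigmaCore M)) := (Cfsg.Agent.S1350.result hG M hM).1.2.1

theorem piNum_orderOf (hG : IsMinSimpleOddOrder G) {M : Subgroup G} (hM : IsCoatom M) {x : G}
    (hx : x ∈ sigmaCore M) : PiNum (sigma M) (orderOf x) :=
  (piNum_card_sigmaCore hG hM).of_dvd (Subgroup.orderOf_dvd_natCard _ hx)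

theorem mem_sigmaCore_of_piNum (hG : IsMinSimpleOddOrder G) {M : Subgroup G} (hM : IsCoatom M)
    {x : G} (hxM : x ∈ M) (hx : PiNum (sigma M) (orderOf x)) : x ∈ sigmaCore M := by
  have h50 := (Cfsg.Agent.S1350.result hG M hM).1
  have h1 : zpowers x ≤ sigmaCore M := by
    refine le_of_coprime_relIndex (X := M) (Cfsg.Agent.Lib.Helper2BGb.le_normalizer_sigmaCore M)
      (by rwa [zpowers_le]) ?_
    rw [Nat.card_zpowers]
    exact Nat.coprime_of_dvd fun p hp h1 h2 => h50.2.2 p hp (hx p hp h1) h2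
  exact h1 (mem_zpowers x)


/-! ### the hypotheses: rows S1374, S1375, S1378 -/

/-- The statements of rows S1374, S1375 (B-G 14.4) and S1378 (B-G 13.9) for the group `G`. -/
structure Hyp (G : Type*) [Group G] : Prop where
  h74 : ∀ (M : Subgroup G) (_ : IsCoatom M) (x : G) (_ : x ∈ Cfsg.sigmaCore M) (_ : x ≠ 1),
    (Nat.card ↥(M ⊓ Subgroup.centralizer ({x} : Set G))).Coprime ((M ⊓ Subgroup.centralizer ({x} : Set G)).relIndex (Subgroup.centralizer ({x} : Set G))) ∧
      ∃ R : Subgroup G, Subgroup.centralizer ({x} : Set G) ≤ Subgroup.normalizer (R : Set G) ∧ Cfsg.IsComplIn (M ⊓ Subgroup.centralizer ({x} : Set G)) R (Subgroup.centralizer ({x} : Set G)) ∧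
        ∀ g : G, x ∈ M.map (MulAut.conj g).toMonoidHom → ∃! r : G, r ∈ R ∧ M.map (MulAut.conj r).toMonoidHom = M.map (MulAut.conj g).toMonoidHom
  h75 : ∀ (M : Subgroup G) (_ : IsCoatom M) (x : G) (_ : x ∈ Cfsg.sigmaCore M) (_ : x ≠ 1) (_ : ¬ Subgroup.centralizer ({x} : Set G) ≤ M),
    ∃ N : Subgroup G, (IsCoatom N ∧ Subgroup.centralizer ({x} : Set G) ≤ N) ∧ (∀ L : Subgroup G, IsCoatom L → Subgroup.centralizer ({x} : Set G) ≤ L → L = N) ∧
        Cfsg.sigmaCore N = Cfsg.fittingHallOf N ∧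
        Subgroup.centralizer ({x} : Set G) ≤ Subgroup.normalizer ((Cfsg.sigmaCore N ⊓ Subgroup.centralizer ({x} : Set G) : Subgroup G) : Set G) ∧
        Cfsg.IsComplIn (M ⊓ Subgroup.centralizer ({x} : Set G)) (Cfsg.sigmaCore N ⊓ Subgroup.centralizer ({x} : Set G)) (Subgroup.centralizer ({x} : Set G)) ∧
        Cfsg.IsComplIn (M ⊓ N) (Cfsg.sigmaCore N) N ∧
        ∀ K' U' : Subgroup G, Cfsg.IsSigmaDecomposition N K' U' → U' ≠ ⊥ ∧ x ∈ Cfsg.sigmaA N U' ∧ x ∉ Cfsg.sigmaCore N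
  h78 : (∀ p : ℕ, p.Prime → p ∣ Nat.card G → ∃ M : Subgroup G, IsCoatom M ∧ p ∈ Cfsg.sigma M) ∧
      ∀ M N : Subgroup G, IsCoatom M → IsCoatom N → (Cfsg.sigma M ∩ Cfsg.sigma N).Nonempty → ∃ g : G, N = M.map (MulAut.conj g).toMonoidHom

/-- the data attached to `x ∈ M_σ#` with `C(x) ⊄ M` -/
structure Dat (M : Subgroup G) (x : G) (N : Subgroup G) : Prop where
  coatom : IsCoatom N
  le : centralizer ({x} : Set G) ≤ N
  uniq : ∀ L : Subgroup G, IsCoatom L → centralizer ({x} : Set G) ≤ L → L = N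
  supp : supportR M x = sigmaCore N ⊓ centralizer ({x} : Set G)
  norm : centralizer ({x} : Set G) ≤ normalizer ((sigmaCore N ⊓ centralizer ({x} : Set G) : Subgroup G) : Set G)
  compl : IsComplIn (M ⊓ centralizer ({x} : Set G)) (sigmaCore N ⊓ centralizer ({x} : Set G))
    (centralizer ({x} : Set G))
  complN : IsComplIn (M ⊓ N) (sigmaCore N) N

theorem supportR_of_le {M : Subgroup G} {x : G} (h : centralizer ({x} : Set G) ≤ M) :
    supportR M x = ⊥ := by
  unfold supportR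
  rw [dif_neg]
  exact fun h' => h'.1 h

theorem exists_dat (H : Hyp G) {M : Subgroup G} (hM : IsCoatom M) {x : G} (hx : x ∈ sigmaCore M)
    (hx1 : x ≠ 1) (hxM : ¬ centralizer ({x} : Set G) ≤ M) : ∃ N, Dat M x N := by
  obtain ⟨N, ⟨hN, hxN⟩, huniq, hF, hnorm, hc, hcN, -⟩ := H.h75 M hM x hx hx1 hxM
  refine ⟨N, hN, hxN, huniq, ?_, hnorm, hc, hcN⟩
  have hex : ∃! L : Subgroup G, IsCoatom L ∧ centralizer ({x} : Set G) ≤ L :=
    ⟨N, ⟨hN, hxN⟩, fun L hL => huniq L hL.1 hL.2⟩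
  have hcond : ¬ centralizer ({x} : Set G) ≤ M ∧
      ∃! L : Subgroup G, IsCoatom L ∧ centralizer ({x} : Set G) ≤ L := ⟨hxM, hex⟩
  unfold supportR
  rw [dif_pos hcond]
  have h1 := Classical.choose_spec hcond.2.exists
  rw [huniq _ h1.1 h1.2, hF]

theorem mem_centralizer_self (x : G) : x ∈ centralizer ({x} : Set G) := by
  rw [mem_centralizer_singleton_iff]

theorem Dat.not_mem {M N : Subgroup G} {x : G} (D : Dat M x N) (hxM : x ∈ M) (hx1 : x ≠ 1) :
    x ∉ sigmaCore N := by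
  intro h
  apply hx1
  have : x ∈ (M ⊓ N) ⊓ sigmaCore N := ⟨⟨hxM, D.le (mem_centralizer_self x)⟩, h⟩
  rw [D.complN.2.2.1] at this
  exact mem_bot.mp this

theorem sigma_eq_of_inter (H : Hyp G) {M N : Subgroup G} (hM : IsCoatom M) (hN : IsCoatom N) {p : ℕ}
    (h1 : p ∈ sigma M) (h2 : p ∈ sigma N) : sigma N = sigma M := by
  obtain ⟨g, rfl⟩ := H.h78.2 M N hM hN ⟨p, h1, h2⟩
  exact sigma_cj M g

/-- `σ(M)` and `σ(N)` are disjoint, `N` the maximal subgroup containing `C(x)` -/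
theorem Dat.disj (hG : IsMinSimpleOddOrder G) (H : Hyp G) {M N : Subgroup G} {x : G} (D : Dat M x N)
    (hM : IsCoatom M) (hx : x ∈ sigmaCore M) (hx1 : x ≠ 1) : ∀ p, p ∈ sigma M → p ∉ sigma N := by
  intro p h1 h2
  have h3 := sigma_eq_of_inter H hM D.coatom h1 h2
  refine D.not_mem (sigmaCore_le' M hx) hx1 (mem_sigmaCore_of_piNum hG D.coatom
    (D.le (mem_centralizer_self x)) ?_)
  rw [h3]
  exact piNum_orderOf hG hM hx


theorem supportR_le_centralizer (M : Subgroup G) (x : G) :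
    supportR M x ≤ centralizer ({x} : Set G) := by
  unfold supportR
  split_ifs with h
  · exact inf_le_right
  · exact bot_le

theorem commute_of_mem_supportR {M : Subgroup G} {x r : G} (hr : r ∈ supportR M x) :
    Commute x r := by
  have := supportR_le_centralizer M x hr
  rw [mem_centralizer_singleton_iff] at this
  exact this.symm

theorem supp_alt (H : Hyp G) {M : Subgroup G} (hM : IsCoatom M) {x : G} (hx : x ∈ sigmaCore M)
    (hx1 : x ≠ 1) {r : G} (hr : r ∈ supportR M x) :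
    r = 1 ∨ ∃ N, Dat M x N ∧ r ∈ sigmaCore N := by
  by_cases hxM : centralizer ({x} : Set G) ≤ M
  · left
    rw [supportR_of_le hxM] at hr
    exact mem_bot.mp hr
  · right
    obtain ⟨N, D⟩ := exists_dat H hM hx hx1 hxM
    refine ⟨N, D, ?_⟩
    rw [D.supp] at hr
    exact hr.1

theorem coprime_supp (hG : IsMinSimpleOddOrder G) (H : Hyp G) {M : Subgroup G} (hM : IsCoatom M)
    {x : G} (hx : x ∈ sigmaCore M) (hx1 : x ≠ 1) {r : G} (hr : r ∈ supportR M x) {n : ℕ}
    (hn : PiNum (sigma M) n) : (orderOf r).Coprime n := by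
  rcases supp_alt H hM hx hx1 hr with rfl | ⟨N, D, hrN⟩
  · rw [orderOf_one]; exact Nat.coprime_one_left n
  · exact ((hn.coprime (piNum_orderOf hG D.coatom hrN)) (D.disj hG H hM hx hx1)).symm

theorem exists_prime_dvd_orderOf {x : G} (hx1 : x ≠ 1) : ∃ p, p.Prime ∧ p ∣ orderOf x :=
  Nat.exists_prime_and_dvd (fun h => hx1 (orderOf_eq_one_iff.mp h))

/-- auxiliary: a prime divisor of `o(x)` divides `o(s)` when `σ(M) ∩ σ(N) = ∅` -/
theorem cover_aux (hG : IsMinSimpleOddOrder G) (H : Hyp G) {M N : Subgroup G} (hM : IsCoatom M)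
    (hN : IsCoatom N) {x y : G} (hx : x ∈ sigmaCore M) (hy : y ∈ sigmaCore N) (hx1 : x ≠ 1)
    (hy1 : y ≠ 1) {r s : G} (hr : r ∈ supportR M x) (hs : s ∈ supportR N y) (h : x * r = y * s)
    (hd : ∀ p, p ∈ sigma M → p ∉ sigma N) :
    ∃ N₂, Dat N y N₂ ∧ s ∈ sigmaCore N₂ ∧ sigma N₂ = sigma M := by
  obtain ⟨p, hp, hpx⟩ := exists_prime_dvd_orderOf hx1
  have hpM : p ∈ sigma M := piNum_orderOf hG hM hx p hp hpx
  have cxr := commute_of_mem_supportR hr
  have cys := commute_of_mem_supportR hs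
  have e1 : orderOf (x * r) = orderOf x * orderOf r :=
    cxr.orderOf_mul_eq_mul_orderOf_of_coprime
      (coprime_supp hG H hM hx hx1 hr (piNum_orderOf hG hM hx)).symm
  have e2 : orderOf (y * s) = orderOf y * orderOf s :=
    cys.orderOf_mul_eq_mul_orderOf_of_coprime
      (coprime_supp hG H hN hy hy1 hs (piNum_orderOf hG hN hy)).symm
  have h1 : p ∣ orderOf y * orderOf s := by
    rw [← e2, ← h, e1]; exact hpx.mul_right _
  rcases hp.dvd_mul.mp h1 with h2 | h2
  · exact absurd (piNum_orderOf hG hN hy p hp h2) (hd p hpM)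
  · rcases supp_alt H hN hy hy1 hs with rfl | ⟨N₂, D, hsN⟩
    · rw [orderOf_one] at h2
      exact absurd (Nat.dvd_one.mp h2) hp.one_lt.ne'
    · exact ⟨N₂, D, hsN, sigma_eq_of_inter H hM D.coatom hpM (piNum_orderOf hG D.coatom hsN p hp h2)⟩

/-- B-G 14.5: the cosets `x R(x)` are pairwise disjoint -/
theorem cover_disjoint (hG : IsMinSimpleOddOrder G) (H : Hyp G) {M N : Subgroup G} (hM : IsCoatom M)
    (hN : IsCoatom N) {x y : G} (hx : x ∈ sigmaCore M) (hy : y ∈ sigmaCore N) (hx1 : x ≠ 1)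
    (hy1 : y ≠ 1) {r s : G} (hr : r ∈ supportR M x) (hs : s ∈ supportR N y) (h : x * r = y * s) :
    x = y := by
  have cxr := commute_of_mem_supportR hr
  have cys := commute_of_mem_supportR hs
  have ox := piNum_orderOf hG hM hx
  have oy := piNum_orderOf hG hN hy
  by_cases hd : ∀ p, p ∈ sigma M → p ∉ sigma N
  · exfalso
    obtain ⟨N₂, D₂, hs₂, e₂⟩ := cover_aux hG H hM hN hx hy hx1 hy1 hr hs h hd
    obtain ⟨N₁, D₁, hr₁, e₁⟩ := cover_aux hG H hN hM hy hx hy1 hx1 hs hr h.symm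
      (fun p h1 h2 => hd p h2 h1)
    have os := piNum_orderOf hG D₂.coatom hs₂
    have or' := piNum_orderOf hG D₁.coatom hr₁
    rw [e₂] at os
    rw [e₁] at or'
    have hxs : x = s := by
      refine eq_of_mul_eq_mul cxr cys.symm ?_ (h.trans cys.eq)
      exact (or'.mul oy).coprime (ox.mul os) (fun p h1 h2 => hd p h2 h1)
    have hry : r = y := by
      have : x * r = x * y := by rw [h, cys.eq, ← hxs]
      exact mul_left_cancel this
    have hx₂ : x ∈ sigmaCore N₂ := hxs ▸ hs₂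
    have hr1 : r ≠ 1 := hry ▸ hy1
    by_cases hc : centralizer ({x} : Set G) ≤ N₂
    · have := D₁.uniq N₂ D₂.coatom hc
      exact D₁.not_mem (sigmaCore_le' M hx) hx1 (this ▸ hx₂)
    · obtain ⟨N₃, D₃⟩ := exists_dat H D₂.coatom hx₂ hx1 hc
      have e3 : N₃ = N₁ := D₁.uniq N₃ D₃.coatom D₃.le
      have h3 := D₃.complN.2.2.1
      rw [e3] at h3
      have : r ∈ (N₂ ⊓ N₁) ⊓ sigmaCore N₁ :=
        ⟨⟨D₂.le (hry ▸ mem_centralizer_self y), sigmaCore_le' N₁ hr₁⟩, hr₁⟩
      rw [h3] at this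
      exact hr1 (mem_bot.mp this)
  · push Not at hd
    obtain ⟨p, h1, h2⟩ := hd
    have e := sigma_eq_of_inter H hM hN h1 h2
    refine eq_of_mul_eq_mul cxr cys ?_ h
    have hn : PiNum (sigma M) (orderOf x * orderOf y) := ox.mul (e ▸ oy)
    exact Nat.Coprime.mul_left (coprime_supp hG H hM hx hx1 hr hn)
      (coprime_supp hG H hN hy hy1 hs (e.symm ▸ hn))

end Cfsg.Agent.Lib.Helper24BGCover
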