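import Mathlib
import Cfsg.Agent.Lib.Helper52BG14
import Cfsg.Agent.Lib.Helper52BG14Defs
import Cfsg.Agent.Lib.Helper37BG14kbasic
import Cfsg.Agent.Lib.Helper24BGCover
import Cfsg.Agent.Lib.Helper65RelHall
import Cfsg.Agent.S1431

/-!
# Project 14, wave 2, piece `kuniq`.
-/

set_option autoImplicit false
set_option linter.unusedSectionVars false
set_option linter.unusedVariables false

namespace Cfsg.Agent.Lib.Helper14BG14kuniq

open Cfsg Subgroup
open Cfsg.Agent.Lib.Helper30Trans Cfsg.Agent.Lib.Helper24BG Cfsg.Agent.Lib.Helper52BG14Defs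

variable {G : Type*} [Group G] [Finite G]

/-- two subgroups of the same prime order of `K` are equal -/
theorem prime_subgroup_unique (hG : IsMinSimpleOddOrder G) {M K : Subgroup G} (h : PT M K)
    {X X' : Subgroup G} (hX : X ≤ K) (hX' : X' ≤ K) (hp : (Nat.card X).Prime)
    (hc : Nat.card X' = Nat.card X) : X' = X := by
  have := Fact.mk hp
  have hpκ : Nat.card X ∈ kappa M := h.hall.2.1 _ hp (card_dvd_of_le hX)
  obtain ⟨-, -, -, h4⟩ := Cfsg.Agent.Lib.Helper37BG14kbasic.mem_kappa_iff.mp hpκ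
  have hn : K ≤ normalizer (X : Set G) :=
    (Cfsg.Agent.Lib.Helper52BG14.ptype_a hG h.max h.hall h.ne).2.2.2.1 X hX hp
  have hXp : IsPGroup (Nat.card X) X := IsPGroup.of_card (n := 1) (by rw [pow_one])
  have hX'p : IsPGroup (Nat.card X) X' := IsPGroup.of_card (n := 1) (by rw [pow_one, hc])
  have hsup : IsPGroup (Nat.card X) (X' ⊔ X : Subgroup G) :=
    hX'p.to_sup_of_normal_right' hXp (hX'.trans hn)
  obtain ⟨S, hS, hle⟩ := exists_isSyl_ge (sup_le (hX'.trans h.hall.1) (hX.trans h.hall.1)) hsup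
  exact Cfsg.Agent.Lib.Helper29Basic.eq_of_card_eq_of_le_cyclic (h4 S hS).1
    (le_sup_left.trans hle) (le_sup_right.trans hle) hc

theorem K_le_centralizer_Ks (M K : Subgroup G) : K ≤ centralizer ((Ks M K : Subgroup G) : Set G) := by
  rw [le_centralizer_iff]
  exact inf_le_right

theorem coprime_K_Ks {M K : Subgroup G} (h : PT M K) :
    (Nat.card K).Coprime (Nat.card (Ks M K)) := by
  apply Nat.coprime_of_dvd
  intro p hp h1 h2
  have h3 : p ∈ kappa M := h.hall.2.1 p hp h1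
  have h4 : p ∈ sigma M :=
    Cfsg.Agent.Lib.Helper2BGb.card_sigmaCore M p hp (h2.trans (card_dvd_of_le inf_le_left))
  exact h3.2.2.1 h4

/-- `K ∩ K* = 1`, `K` centralizes `K*`, `|K K*| = |K| |K*|`, and the orders are coprime -/
theorem card_sup_Ks (hG : IsMinSimpleOddOrder G) {M K : Subgroup G} (h : PT M K) :
    Nat.card (K ⊔ Ks M K : Subgroup G) = Nat.card K * Nat.card (Ks M K) ∧
      (Nat.card K).Coprime (Nat.card (Ks M K)) := by
  refine ⟨?_, coprime_K_Ks h⟩
  exact Cfsg.Agent.Lib.Helper65RelHall.card_sup_of_coprime' K (Ks M K)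
    ((K_le_centralizer_Ks M K).trans (centralizer_le_normalizer _)) (coprime_K_Ks h)

/-- a subgroup of `K K*` whose order is prime to `|K*|` (resp. `|K|`) lies in `K` (resp. `K*`) -/
theorem le_of_le_sup (hG : IsMinSimpleOddOrder G) {M K : Subgroup G} (h : PT M K) {Y : Subgroup G}
    (hY : Y ≤ K ⊔ Ks M K) :
    ((Nat.card Y).Coprime (Nat.card (Ks M K)) → Y ≤ K) ∧
      ((Nat.card Y).Coprime (Nat.card K) → Y ≤ Ks M K) := by
  have hcard := (card_sup_Ks hG h).1
  have hKn : K ⊔ Ks M K ≤ normalizer (K : Set G) :=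
    sup_le le_normalizer ((inf_le_right : Ks M K ≤ _).trans (centralizer_le_normalizer _))
  have hKsn : K ⊔ Ks M K ≤ normalizer ((Ks M K : Subgroup G) : Set G) :=
    sup_le ((K_le_centralizer_Ks M K).trans (centralizer_le_normalizer _)) le_normalizer
  have hr1 : K.relIndex (K ⊔ Ks M K) = Nat.card (Ks M K) := by
    have h1 := Cfsg.Agent.Lib.Helper37Cores.card_mul_relIndex (le_sup_left : K ≤ K ⊔ Ks M K)
    rw [hcard] at h1
    exact Nat.eq_of_mul_eq_mul_left Nat.card_pos h1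
  have hr2 : (Ks M K).relIndex (K ⊔ Ks M K) = Nat.card K := by
    have h1 := Cfsg.Agent.Lib.Helper37Cores.card_mul_relIndex (le_sup_right : Ks M K ≤ K ⊔ Ks M K)
    rw [hcard, mul_comm (Nat.card K)] at h1
    exact Nat.eq_of_mul_eq_mul_left Nat.card_pos h1
  constructor
  · intro hc
    exact Cfsg.Agent.Lib.Helper24BGCover.le_of_coprime_relIndex hKn hY (by rw [hr1]; exact hc)
  · intro hc
    exact Cfsg.Agent.Lib.Helper24BGCover.le_of_coprime_relIndex hKsn hY (by rw [hr2]; exact hc)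

/-- if `1 ≠ Y ≤ K*` and `g Y g⁻¹ ≤ M` then `g ∈ M` -/
theorem mem_of_cj_le (hG : IsMinSimpleOddOrder G) {M K : Subgroup G} (h : PT M K)
    {Y : Subgroup G} (hY : Y ≤ Ks M K) (hY1 : Y ≠ ⊥) {g : G} (hg : cj g Y ≤ M) : g ∈ M := by
  by_contra hgM
  have hgM' : g⁻¹ ∉ M := fun h' => hgM (by simpa using M.inv_mem h')
  have h1 := (Cfsg.Agent.S1431.result hG M h.max K h.hall h.ne).1 g⁻¹ hgM'
  apply hY1
  rw [eq_bot_iff, ← h1]
  exact le_inf hY (cj_le_iff.mp hg)

/-- `N(Y) ≤ M` for `1 ≠ Y ≤ K*` -/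
theorem norm_le_of_le_Ks (hG : IsMinSimpleOddOrder G) {M K : Subgroup G} (h : PT M K)
    {Y : Subgroup G} (hY : Y ≤ Ks M K) (hY1 : Y ≠ ⊥) : normalizer (Y : Set G) ≤ M := by
  intro n hn
  apply mem_of_cj_le hG h hY hY1
  rw [cj_eq_self_of_mem_normalizer hn]
  exact hY.trans (inf_le_left.trans (Cfsg.Agent.Lib.Helper2BGb.sigmaCore_le M))

theorem three_mul_le (hG : IsMinSimpleOddOrder G) {M K : Subgroup G} (h : PT M K) :
    3 * Nat.card (Ks M K) ≤ Nat.card (sigmaCore M) := by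
  have hne : Ks M K ≠ ⊥ := (Cfsg.Agent.Lib.Helper52BG14.ptype_a hG h.max h.hall h.ne).2.1
  have hc1 : Nat.card (Ks M K) ≠ 1 := fun h' => hne (card_eq_one.mp h')
  obtain ⟨p, hp, hpd⟩ := Nat.exists_prime_and_dvd hc1
  have := Fact.mk hp
  obtain ⟨S⟩ : Nonempty (Sylow p (sigmaCore M)) := inferInstance
  have h3 := ((Cfsg.Agent.S1431.result hG M h.max K h.hall h.ne).2.2.1 p hp hpd S).2.2
  have hlt : Ks M K ≠ sigmaCore M := by
    intro he
    apply h3
    have : (S : Subgroup (sigmaCore M)).map (sigmaCore M).subtype ≤ sigmaCore M :=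
      map_subtype_le _
    exact this.trans he.ge
  obtain ⟨k, hk⟩ := card_dvd_of_le (inf_le_left : Ks M K ≤ sigmaCore M)
  have hodd : Odd (Nat.card (sigmaCore M)) := odd_sub hG _
  rw [hk] at hodd ⊢
  have hkodd : Odd k := (Nat.odd_mul.mp hodd).2
  have hk1 : k ≠ 1 := by
    intro h1
    rw [h1, mul_one] at hk
    exact hlt (eq_of_le_of_card_ge inf_le_left hk.le)
  have hk3 : 3 ≤ k := by
    obtain ⟨m, hm⟩ := hkodd
    omega
  calc 3 * Nat.card (Ks M K) ≤ k * Nat.card (Ks M K) := Nat.mul_le_mul_right _ hk3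
    _ = Nat.card (Ks M K) * k := mul_comm _ _

end Cfsg.Agent.Lib.Helper14BG14kuniq
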