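import Mathlib
import Cfsg.Agent.Lib.Helper66Ward
import Cfsg.Agent.Lib.Helper30SZ
import Cfsg.Agent.S0030
import Cfsg.Agent.S0033

set_option autoImplicit false

namespace Cfsg.Agent.Lib.Helper66Ward2

open Cfsg.Agent.Lib.Helper66Fpf Cfsg.Agent.Lib.Helper66Fpf2 Cfsg.Agent.Lib.Helper66Ward

section amb

variable {X : Type*} [Group X]

theorem conj_mem {H S : Subgroup X} (h : H ≤ Subgroup.normalizer (S : Set X)) {a x : X}
    (ha : a ∈ H) (hx : x ∈ S) : a * x * a⁻¹ ∈ S :=
  (Subgroup.mem_normalizer_iff.mp (h ha) x).mp hx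

theorem le_normalizer_of [Finite X] {H S : Subgroup X} (h : ∀ a ∈ H, ∀ x ∈ S, a * x * a⁻¹ ∈ S) :
    H ≤ Subgroup.normalizer (S : Set X) := fun a ha =>
  Cfsg.Agent.Lib.Helper66Basic.mem_normalizer_of_conj_mem S a (h a ha)

theorem le_normalizer_inf_centralizer [Finite X] {H K : Subgroup X} {c : X}
    (hHK : H ≤ Subgroup.normalizer (K : Set X)) (hc : ∀ a ∈ H, a * c = c * a) :
    H ≤ Subgroup.normalizer ((K ⊓ Subgroup.centralizer {c} : Subgroup X) : Set X) := by
  apply le_normalizer_of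
  intro a ha x hx
  rw [Subgroup.mem_inf] at hx ⊢
  refine ⟨conj_mem hHK ha hx.1, ?_⟩
  rw [Subgroup.mem_centralizer_singleton_iff] at hx ⊢
  have h1 := hc a ha
  have h2 : a⁻¹ * c = c * a⁻¹ := by
    have : a⁻¹ * c * a = c := by rw [mul_assoc, ← h1]; group
    calc a⁻¹ * c = a⁻¹ * c * a * a⁻¹ := by group
      _ = c * a⁻¹ := by rw [this]
  calc a * x * a⁻¹ * c = a * x * (a⁻¹ * c) := by group
    _ = a * (x * c) * a⁻¹ := by rw [h2]; group
    _ = a * (c * x) * a⁻¹ := by rw [hx.2]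
    _ = (a * c) * x * a⁻¹ := by group
    _ = c * (a * x * a⁻¹) := by rw [h1]; group

/-- two subgroups of coprime prime power orders in a group with a fixed point free
"inner" automorphism of prime order commute -/
theorem comm_of_fpf [Finite X] {p s t : ℕ} (hp : p.Prime) [Fact s.Prime] [Fact t.Prime]
    (hst : s ≠ t) {S T : Subgroup X} (hS : IsPGroup s S) (hT : IsPGroup t T) (c : X)
    (hc : c ^ p = 1) (hcS : ∀ x ∈ S, c * x * c⁻¹ ∈ S) (hcT : ∀ x ∈ T, c * x * c⁻¹ ∈ T)
    (hf : ∀ x ∈ S ⊔ T, c * x * c⁻¹ = x → x = 1) : ⁅S, T⁆ = ⊥ := by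
  set L := S ⊔ T with hL
  have hcL : c ∈ Subgroup.normalizer (L : Set X) := by
    apply Cfsg.Agent.Lib.Helper66Basic.mem_normalizer_of_conj_mem
    have : L ≤ L.comap (MulAut.conj c).toMonoidHom := by
      rw [hL]
      apply sup_le
      · intro x hx
        rw [Subgroup.mem_comap, MulEquiv.coe_toMonoidHom, MulAut.conj_apply]
        exact (le_sup_left : S ≤ S ⊔ T) (hcS x hx)
      · intro x hx
        rw [Subgroup.mem_comap, MulEquiv.coe_toMonoidHom, MulAut.conj_apply]
        exact (le_sup_right : T ≤ S ⊔ T) (hcT x hx)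
    intro x hx
    have := this hx
    rwa [Subgroup.mem_comap, MulEquiv.coe_toMonoidHom, MulAut.conj_apply] at this
  by_cases hLbot : L = ⊥
  · have hSb : S = ⊥ := by rw [eq_bot_iff, ← hLbot]; exact le_sup_left
    rw [hSb]; simp
  let φ : L ≃* L := L.normalizerMonoidHom ⟨c, hcL⟩
  have hφ : ∀ x : L, ((φ x : L) : X) = c * x * c⁻¹ := fun x => rfl
  have hfpf : MonoidHom.FixedPointFree (φ : L →* L) := by
    intro x hx
    apply Subtype.ext
    apply hf x x.2
    exact congrArg Subtype.val hx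
  have hφp : φ ^ p = 1 := by
    have : (⟨c, hcL⟩ : Subgroup.normalizer (L : Set X)) ^ p = 1 := Subtype.ext (by simpa using hc)
    show (L.normalizerMonoidHom ⟨c, hcL⟩) ^ p = 1
    rw [← map_pow, this, map_one]
  have hφ1 : φ ≠ 1 := by
    intro h1
    apply hLbot
    rw [eq_bot_iff]
    intro x hx
    have := hfpf ⟨x, hx⟩ (by
      show φ ⟨x, hx⟩ = ⟨x, hx⟩
      rw [h1]; rfl)
    rw [Subgroup.mem_bot]
    exact congrArg Subtype.val this
  have := Fact.mk hp
  have hord : orderOf φ = p := orderOf_eq_prime hφp hφ1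
  have hnil : Group.IsNilpotent L := Cfsg.Agent.S0033.result φ hfpf p hp hord
  obtain ⟨P, hP⟩ := (hS.comap_subtype (H := S) (K := L)).exists_le_sylow
  obtain ⟨Q, hQ⟩ := (hT.comap_subtype (H := T) (K := L)).exists_le_sylow
  have hdisj : Disjoint (P : Subgroup L) (Q : Subgroup L) :=
    IsPGroup.disjoint_of_ne s t hst _ _ P.2 Q.2
  rw [Subgroup.commutator_eq_bot_iff_le_centralizer]
  intro x hx
  rw [Subgroup.mem_centralizer_iff]
  intro y hy
  have hxL : x ∈ L := (le_sup_left : S ≤ S ⊔ T) hx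
  have hyL : y ∈ L := (le_sup_right : T ≤ S ⊔ T) hy
  have h1 : (⟨x, hxL⟩ : L) ∈ (P : Subgroup L) := hP (by
    rw [Subgroup.mem_comap]; exact hx)
  have h2 : (⟨y, hyL⟩ : L) ∈ (Q : Subgroup L) := hQ (by
    rw [Subgroup.mem_comap]; exact hy)
  have := Subgroup.commute_of_normal_of_disjoint (P : Subgroup L) (Q : Subgroup L) inferInstance
    inferInstance hdisj _ _ h1 h2
  exact (congrArg Subtype.val this.eq).symm

theorem sup_inf_centralizer_eq_bot [Finite X] {A S T : Subgroup X}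
    (hAsol : Group.IsSolvable A)
    (hAS : A ≤ Subgroup.normalizer (S : Set X)) (hAT : A ≤ Subgroup.normalizer (T : Set X))
    (hTS : T ≤ Subgroup.normalizer (S : Set X))
    (hcS : (Nat.card A).Coprime (Nat.card S)) (hcT : (Nat.card A).Coprime (Nat.card T))
    (hcST : (Nat.card T).Coprime (Nat.card S))
    (hS : S ⊓ Subgroup.centralizer (A : Set X) = ⊥) (hT : T ⊓ Subgroup.centralizer (A : Set X) = ⊥) :
    (S ⊔ T) ⊓ Subgroup.centralizer (A : Set X) = ⊥ := by
  rw [eq_bot_iff]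
  intro k hk
  have hAK : A ≤ Subgroup.normalizer ((S ⊔ T : Subgroup X) : Set X) := by
    apply le_normalizer_of
    intro a ha
    have : S ⊔ T ≤ (S ⊔ T).comap (MulAut.conj a).toMonoidHom := by
      apply sup_le
      · intro x hx
        rw [Subgroup.mem_comap, MulEquiv.coe_toMonoidHom, MulAut.conj_apply]
        exact (le_sup_left : S ≤ S ⊔ T) (conj_mem hAS ha hx)
      · intro x hx
        rw [Subgroup.mem_comap, MulEquiv.coe_toMonoidHom, MulAut.conj_apply]
        exact (le_sup_right : T ≤ S ⊔ T) (conj_mem hAT ha hx)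
    intro x hx
    have := this hx
    rwa [Subgroup.mem_comap, MulEquiv.coe_toMonoidHom, MulAut.conj_apply] at this
  have hcop : (Nat.card A).Coprime (Nat.card ↥(S ⊔ T)) := by
    rw [Cfsg.Agent.Lib.Helper30SZ.card_sup hTS hcST]
    exact Nat.Coprime.mul_right hcS hcT
  obtain ⟨x, hx, y, hy, rfl⟩ := Cfsg.Agent.S0030.result A (S ⊔ T) hAK hcop (Or.inl hAsol) S T
    le_sup_left le_sup_right hAS hAT
    (fun k hk => (Cfsg.Agent.Lib.Helper30SZ.mem_sup_iff hTS).mp hk) k hk
  rw [hS, Subgroup.mem_bot] at hx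
  rw [hT, Subgroup.mem_bot] at hy
  rw [hx, hy, mul_one]
  exact Subgroup.one_mem _

end amb

section act

variable {V : Type*} [CommGroup V] {X : Type*} [Group X] [MulDistribMulAction X V]

/-- fixed points of an element -/
def fixV (V : Type*) [CommGroup V] {X : Type*} [Group X] [MulDistribMulAction X V] (c : X) :
    Subgroup V where
  carrier := {v | c • v = v}
  mul_mem' := by
    intro a b ha hb
    show c • (a * b) = a * b
    rw [smul_mul', ha, hb]
  one_mem' := smul_one c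
  inv_mem' := by
    intro a ha
    show c • a⁻¹ = a⁻¹
    rw [smul_inv', ha]

theorem mem_fixV {c : X} {v : V} : v ∈ fixV V c ↔ c • v = v := Iff.rfl

/-- fixed points of a subgroup -/
def fixVS (V : Type*) [CommGroup V] {X : Type*} [Group X] [MulDistribMulAction X V]
    (K : Subgroup X) : Subgroup V where
  carrier := {v | ∀ h ∈ K, h • v = v}
  mul_mem' := by
    intro a b ha hb h hh
    rw [smul_mul', ha h hh, hb h hh]
  one_mem' := fun h _ => smul_one h
  inv_mem' := by
    intro a ha h hh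
    rw [smul_inv', ha h hh]

theorem mem_fixVS {K : Subgroup X} {v : V} : v ∈ fixVS V K ↔ ∀ h ∈ K, h • v = v := Iff.rfl

/-- the elements of `S` acting trivially on `U` -/
def fixer (S : Subgroup X) (U : Subgroup V) : Subgroup X where
  carrier := {g | g ∈ S ∧ ∀ u ∈ U, g • u = u}
  mul_mem' := by
    rintro a b ⟨ha, ha'⟩ ⟨hb, hb'⟩
    exact ⟨S.mul_mem ha hb, fun u hu => by rw [mul_smul, hb' u hu, ha' u hu]⟩
  one_mem' := ⟨S.one_mem, fun u _ => one_smul _ u⟩
  inv_mem' := by
    rintro a ⟨ha, ha'⟩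
    exact ⟨S.inv_mem ha, fun u hu => by rw [inv_smul_eq_iff, ha' u hu]⟩

theorem mem_fixer {S : Subgroup X} {U : Subgroup V} {g : X} :
    g ∈ fixer S U ↔ g ∈ S ∧ ∀ u ∈ U, g • u = u := Iff.rfl

theorem fixer_le (S : Subgroup X) (U : Subgroup V) : fixer S U ≤ S := fun _ h => h.1

theorem le_normalizer_fixer [Finite X] {H S : Subgroup X} {U : Subgroup V}
    (hHS : H ≤ Subgroup.normalizer (S : Set X)) (hU : ∀ h ∈ H, ∀ u ∈ U, h • u ∈ U) :
    H ≤ Subgroup.normalizer (fixer S U : Set X) := by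
  apply le_normalizer_of
  rintro h hh g ⟨hg, hg'⟩
  refine ⟨conj_mem hHS hh hg, ?_⟩
  intro u hu
  rw [mul_smul, mul_smul, hg' _ (hU _ (H.inv_mem hh) u hu), smul_inv_smul]

/-- the stabiliser of a vector -/
theorem le_of_fix {K : Subgroup X} {ι : Sort*} {f : ι → Subgroup X} (hK : K ≤ ⨆ i, f i) {v : V}
    (h : ∀ i, ∀ g ∈ f i, g • v = v) : ∀ g ∈ K, g • v = v := by
  have : ⨆ i, f i ≤ MulAction.stabilizer X v := iSup_le (fun i g hg => h i g hg)
  intro g hg
  exact this (hK hg)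

end act

end Cfsg.Agent.Lib.Helper66Ward2
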