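import Mathlib
import Cfsg.Agent.Lib.Helper66Ward2
import Cfsg.Agent.S0027
import Cfsg.Agent.S0058
import Cfsg.Agent.S3736

set_option autoImplicit false
set_option linter.unusedSectionVars false

namespace Cfsg.Agent.Lib.Helper66Ward3

open Cfsg.Agent.Lib.Helper66Fpf Cfsg.Agent.Lib.Helper66Fpf2 Cfsg.Agent.Lib.Helper66Ward
  Cfsg.Agent.Lib.Helper66Ward2

variable {V : Type*} [CommGroup V] [Finite V] {X : Type*} [Group X] [Finite X]
  [MulDistribMulAction X V] [FaithfulSMul X V]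

/-- the configuration -/
structure Cfg (V : Type*) [CommGroup V] {X : Type*} [Group X] [MulDistribMulAction X V]
    (p s t : ℕ) (A S T : Subgroup X) : Prop where
  ea : EA p A
  fpfV : ∀ v : V, (∀ a ∈ A, a • v = v) → v = 1
  hS : IsPGroup s S
  hT : IsPGroup t T
  hst : s ≠ t
  hsp : s ≠ p
  htp : t ≠ p
  hVs : (Nat.card V).Coprime s
  hAS : A ≤ Subgroup.normalizer (S : Set X)
  hAT : A ≤ Subgroup.normalizer (T : Set X)
  hTS : T ≤ Subgroup.normalizer (S : Set X)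
  hSA : S ⊓ Subgroup.centralizer (A : Set X) = ⊥
  hTA : T ⊓ Subgroup.centralizer (A : Set X) = ⊥

variable {p s t : ℕ} [Fact s.Prime] [Fact t.Prime] {A S T : Subgroup X}

theorem Cfg.copAS (h : Cfg V p s t A S T) : (Nat.card A).Coprime (Nat.card S) := by
  obtain ⟨k, hk⟩ := IsPGroup.iff_card.mp h.hS
  rw [h.ea.card, hk]
  exact Nat.Coprime.pow _ _ ((Nat.coprime_primes h.ea.prime Fact.out).mpr (Ne.symm h.hsp))

theorem Cfg.copAT (h : Cfg V p s t A S T) : (Nat.card A).Coprime (Nat.card T) := by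
  obtain ⟨k, hk⟩ := IsPGroup.iff_card.mp h.hT
  rw [h.ea.card, hk]
  exact Nat.Coprime.pow _ _ ((Nat.coprime_primes h.ea.prime Fact.out).mpr (Ne.symm h.htp))

theorem Cfg.copTs (h : Cfg V p s t A S T) : (Nat.card T).Coprime s := by
  obtain ⟨k, hk⟩ := IsPGroup.iff_card.mp h.hT
  rw [hk]
  exact Nat.Coprime.pow_left _ ((Nat.coprime_primes Fact.out Fact.out).mpr (Ne.symm h.hst))

theorem Cfg.copTS (h : Cfg V p s t A S T) : (Nat.card T).Coprime (Nat.card S) := by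
  obtain ⟨k, hk⟩ := IsPGroup.iff_card.mp h.hS
  rw [hk]
  exact h.copTs.pow_right _

theorem Cfg.copV (h : Cfg V p s t A S T) {R : Subgroup X} (hR : R ≤ S) :
    (Nat.card V).Coprime (Nat.card R) := by
  obtain ⟨k, hk⟩ := IsPGroup.iff_card.mp (h.hS.to_le hR)
  rw [hk]
  exact h.hVs.pow_right _

theorem Cfg.solA (h : Cfg V p s t A S T) : Group.IsSolvable A := by
  exact Group.isSolvable_of_comm (fun a b => Subtype.ext (h.ea.comm a a.2 b b.2))

/-- two independent elements of `A` fixing `x ∈ S` force `x = 1` -/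
theorem Cfg.eq_one_S (h : Cfg V p s t A S T) {c c' : X} (hc : c ∈ A) (hc1 : c ≠ 1) (hc' : c' ∈ A)
    (hn : c' ∉ Subgroup.zpowers c) {x : X} (hx : x ∈ S) (h1 : c * x = x * c)
    (h2 : c' * x = x * c') : x = 1 := by
  have : x ∈ S ⊓ Subgroup.centralizer (A : Set X) := ⟨hx, h.ea.mem_centralizer hc hc1 hc' hn h1 h2⟩
  rwa [h.hSA, Subgroup.mem_bot] at this

theorem Cfg.eq_one_T (h : Cfg V p s t A S T) {c c' : X} (hc : c ∈ A) (hc1 : c ≠ 1) (hc' : c' ∈ A)
    (hn : c' ∉ Subgroup.zpowers c) {x : X} (hx : x ∈ T) (h1 : c * x = x * c)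
    (h2 : c' * x = x * c') : x = 1 := by
  have : x ∈ T ⊓ Subgroup.centralizer (A : Set X) := ⟨hx, h.ea.mem_centralizer hc hc1 hc' hn h1 h2⟩
  rwa [h.hTA, Subgroup.mem_bot] at this

theorem Cfg.eq_one_V (h : Cfg V p s t A S T) {c c' : X} (hc : c ∈ A) (hc1 : c ≠ 1) (hc' : c' ∈ A)
    (hn : c' ∉ Subgroup.zpowers c) {v : V} (h1 : c • v = v) (h2 : c' • v = v) : v = 1 := by
  apply h.fpfV
  have : A ≤ MulAction.stabilizer X v := by
    rw [← h.ea.sup_zpowers hc hc1 hc' hn]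
    apply sup_le
    · rw [Subgroup.zpowers_le]; exact h1
    · rw [Subgroup.zpowers_le]; exact h2
  intro a ha
  exact this ha

/-- a minimal counterexample -/
structure MinCfg (V : Type*) [CommGroup V] {X : Type*} [Group X] [MulDistribMulAction X V]
    (p s t : ℕ) (A S T : Subgroup X) : Prop extends Cfg V p s t A S T where
  minT : ∀ T' : Subgroup X, T' < T → A ≤ Subgroup.normalizer (T' : Set X) → ⁅S, T'⁆ = ⊥
  minS : ∀ S' : Subgroup X, S' < S → A ≤ Subgroup.normalizer (S' : Set X) →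
    T ≤ Subgroup.normalizer (S' : Set X) → ⁅S', T⁆ = ⊥
  ne : ⁅S, T⁆ ≠ ⊥

theorem MinCfg.exists_c₁ (h : MinCfg V p s t A S T) :
    ∃ c₁ ∈ A, c₁ ≠ 1 ∧ T ≤ Subgroup.centralizer {c₁} := by
  by_contra hcon
  push Not at hcon
  apply h.ne
  rw [Subgroup.commutator_comm, Subgroup.commutator_eq_bot_iff_le_centralizer]
  have := h.ea.isMulCommutative
  have hgen := Cfsg.Agent.S0058.result A T h.ea.not_isCyclic h.hAT h.copAT
  conv_lhs => rw [← hgen]
  apply iSup₂_le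
  rintro c ⟨hcA, hc1⟩
  have hlt : T ⊓ Subgroup.centralizer {c} < T := by
    refine lt_of_le_of_ne inf_le_left ?_
    intro heq
    exact hcon c hcA hc1 (heq ▸ inf_le_right)
  have h1 := h.minT _ hlt (le_normalizer_inf_centralizer h.hAT (fun a ha => h.ea.comm a ha c hcA))
  rwa [Subgroup.commutator_comm, Subgroup.commutator_eq_bot_iff_le_centralizer] at h1

theorem MinCfg.solS (h : MinCfg V p s t A S T) : Group.IsSolvable S := by
  have : Group.IsNilpotent S := h.hS.isNilpotent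
  infer_instance

theorem MinCfg.comm_eq (h : MinCfg V p s t A S T) : ⁅S, T⁆ = S := by
  have hle : ⁅S, T⁆ ≤ S := Cfsg.Agent.Lib.Helper30SZ.commutator_le_of_le_normalizer h.hTS
  by_contra hne
  have hlt : ⁅S, T⁆ < S := lt_of_le_of_ne hle hne
  have := h.minS _ hlt (Cfsg.Agent.Lib.Helper30SZ.le_normalizer_commutator h.hAS h.hAT)
    (Cfsg.Agent.Lib.Helper30SZ.le_normalizer_commutator h.hTS Subgroup.le_normalizer)
  rw [Cfsg.Agent.S0027.result T S h.hTS h.copTS (Or.inr h.solS)] at this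
  exact h.ne this

theorem map_commutator_subtype (S : Subgroup X) : (commutator ↥S).map S.subtype = ⁅S, S⁆ := by
  rw [commutator_def, Subgroup.map_commutator, ← MonoidHom.range_eq_map, S.range_subtype]

theorem MinCfg.key (h : MinCfg V p s t A S T) (U : Subgroup X) (hU : U < S)
    (hAU : A ≤ Subgroup.normalizer (U : Set X)) (hTU : T ≤ Subgroup.normalizer (U : Set X)) :
    U ≤ ⁅S, S⁆ := by
  intro x hx
  have hUT := h.minS U hU hAU hTU
  rw [Subgroup.commutator_eq_bot_iff_le_centralizer] at hUT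
  rw [← map_commutator_subtype]
  refine ⟨⟨x, hU.le hx⟩, Cfsg.Agent.S3736.cent_le_comm T S h.hS h.hTS h.copTs h.comm_eq
    ⟨x, hU.le hx⟩ ?_, rfl⟩
  intro a ha
  have := (Subgroup.mem_centralizer_iff.mp (hUT hx)) a ha
  change a * x * a⁻¹ = x
  rw [this]; group

theorem MinCfg.S_ne_bot (h : MinCfg V p s t A S T) : S ≠ ⊥ := by
  intro hS
  apply h.ne
  rw [hS]; simp

theorem MinCfg.D_lt (h : MinCfg V p s t A S T) : ⁅S, S⁆ < S := comm_lt h.solS h.S_ne_bot

theorem MinCfg.A_norm_D (h : MinCfg V p s t A S T) :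
    A ≤ Subgroup.normalizer ((⁅S, S⁆ : Subgroup X) : Set X) :=
  Cfsg.Agent.Lib.Helper30SZ.le_normalizer_commutator h.hAS h.hAS

theorem MinCfg.T_norm_D (h : MinCfg V p s t A S T) :
    T ≤ Subgroup.normalizer ((⁅S, S⁆ : Subgroup X) : Set X) :=
  Cfsg.Agent.Lib.Helper30SZ.le_normalizer_commutator h.hTS h.hTS

theorem MinCfg.D_T (h : MinCfg V p s t A S T) : ⁅⁅S, S⁆, T⁆ = ⊥ :=
  h.minS _ h.D_lt h.A_norm_D h.T_norm_D

theorem MinCfg.D_central (h : MinCfg V p s t A S T) :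
    ⁅S, S⁆ ≤ Subgroup.centralizer (S : Set X) := by
  have hDS : ⁅⁅S, S⁆, S⁆ ≤ ⁅S, S⁆ :=
    Cfsg.Agent.Lib.Helper30SZ.commutator_le_of_le_normalizer
      (Cfsg.Agent.Lib.Helper30SZ.le_normalizer_commutator Subgroup.le_normalizer
        Subgroup.le_normalizer)
  have h3 : ⁅⁅S, T⁆, ⁅S, S⁆⁆ = ⊥ := by
    apply Subgroup.commutator_commutator_eq_bot_of_rotate
    · rw [Subgroup.commutator_comm T ⁅S, S⁆, h.D_T]; simp
    · rw [eq_bot_iff, ← h.D_T]
      exact Subgroup.commutator_mono hDS le_rfl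
  rw [h.comm_eq, Subgroup.commutator_comm, Subgroup.commutator_eq_bot_iff_le_centralizer] at h3
  exact h3

theorem le_centralizer_of_mem_zpowers {K : Subgroup X} {c c' : X}
    (hK : K ≤ Subgroup.centralizer {c}) (hc' : c' ∈ Subgroup.zpowers c) :
    K ≤ Subgroup.centralizer {c'} := by
  intro x hx
  have h1 := Subgroup.mem_centralizer_singleton_iff.mp (hK hx)
  have h2 : Subgroup.zpowers c ≤ Subgroup.centralizer {x} := by
    rw [Subgroup.zpowers_le, Subgroup.mem_centralizer_singleton_iff]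
    exact h1.symm
  rw [Subgroup.mem_centralizer_singleton_iff]
  exact (Subgroup.mem_centralizer_singleton_iff.mp (h2 hc')).symm

theorem MinCfg.NC (h : MinCfg V p s t A S T) {c₁ : X} (hc₁A : c₁ ∈ A) (hc₁1 : c₁ ≠ 1)
    (hTc₁ : T ≤ Subgroup.centralizer {c₁}) {c : X} (hcA : c ∈ A) (hc1 : c ≠ 1) :
    ¬ S ≤ Subgroup.centralizer {c} := by
  intro hSc
  by_cases hz : c ∈ Subgroup.zpowers c₁
  · have hTc : T ≤ Subgroup.centralizer {c} := le_centralizer_of_mem_zpowers hTc₁ hz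
    obtain ⟨c₂, hc₂A, hc₂⟩ := h.ea.exists_not_mem_zpowers c hcA
    apply h.ne
    apply comm_of_fpf h.ea.prime h.hst h.hS h.hT c₂ (h.ea.exp c₂ hc₂A)
      (fun x hx => conj_mem h.hAS hc₂A hx) (fun x hx => conj_mem h.hAT hc₂A hx)
    intro x hx hfix
    have h1 : x ∈ Subgroup.centralizer {c} := (sup_le hSc hTc) hx
    have h2 : x ∈ (S ⊔ T) ⊓ Subgroup.centralizer (A : Set X) := by
      refine ⟨hx, h.ea.mem_centralizer hcA hc1 hc₂A hc₂ ?_ (mul_inv_eq_iff_eq_mul.mp hfix)⟩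
      exact (Subgroup.mem_centralizer_singleton_iff.mp h1).symm
    rw [sup_inf_centralizer_eq_bot h.solA h.hAS h.hAT h.hTS h.copAS h.copAT h.copTS h.hSA h.hTA,
      Subgroup.mem_bot] at h2
    exact h2
  · apply h.ne
    rw [Subgroup.commutator_comm, Subgroup.commutator_eq_bot_iff_le_centralizer]
    intro x hx
    obtain ⟨y, hy, rfl⟩ := lang (MulAut.conj c) T
      (fun x hx => by rw [MulAut.conj_apply]; exact conj_mem h.hAT hcA hx)
      (fun x hx hfix => by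
        rw [MulAut.conj_apply] at hfix
        exact h.eq_one_T hc₁A hc₁1 hcA hz hx
          (Subgroup.mem_centralizer_singleton_iff.mp (hTc₁ hx)).symm
          (mul_inv_eq_iff_eq_mul.mp hfix)) x hx
    rw [MulAut.conj_apply, Subgroup.mem_centralizer_iff]
    intro g hg
    have e1 : c⁻¹ * g * c = g := by
      have := Subgroup.mem_centralizer_singleton_iff.mp (hSc hg)
      rw [mul_assoc, this]; group
    have e2 : c * (y * g * y⁻¹) * c⁻¹ = y * g * y⁻¹ := by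
      have := Subgroup.mem_centralizer_singleton_iff.mp (hSc (conj_mem h.hTS hy hg))
      rw [← this]; group
    have e3 : (y⁻¹ * (c * y * c⁻¹)) * g * (y⁻¹ * (c * y * c⁻¹))⁻¹
        = y⁻¹ * (c * (y * (c⁻¹ * g * c) * y⁻¹) * c⁻¹) * y := by group
    rw [e1, e2] at e3
    have e4 : y⁻¹ * (y * g * y⁻¹) * y = g := by group
    rw [e4] at e3
    exact (mul_inv_eq_iff_eq_mul.mp e3).symm

theorem Cfg.Qa (h : Cfg V p s t A S T) {Z : Subgroup X} {c : X} (hcA : c ∈ A) (hc1 : c ≠ 1)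
    (hZS : Z ≤ S) (hZc : Z ≤ Subgroup.centralizer {c})
    (hAZ : A ≤ Subgroup.normalizer (Z : Set X)) :
    ∀ z ∈ Z, ∀ v : V, c • v = v → z • v = v := by
  obtain ⟨c', hc'A, hc'⟩ := h.ea.exists_not_mem_zpowers c hcA
  intro z hz v hv
  refine frobP h.ea.prime c' (h.ea.exp c' hc'A) Z (h.copV hZS)
    (fun x hx => conj_mem hAZ hc'A hx) ?_ (fixV V c) ?_ ?_ ?_ z hz v hv
  · intro x hx hfix
    exact h.eq_one_S hcA hc1 hc'A hc' (hZS hx)
      (Subgroup.mem_centralizer_singleton_iff.mp (hZc hx)).symm (mul_inv_eq_iff_eq_mul.mp hfix)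
  · intro x hx v hv
    rw [mem_fixV] at hv ⊢
    rw [← mul_smul, ← Subgroup.mem_centralizer_singleton_iff.mp (hZc hx), mul_smul, hv]
  · intro v hv
    rw [mem_fixV] at hv ⊢
    rw [← mul_smul, h.ea.comm c hcA c' hc'A, mul_smul, hv]
  · intro v hv hfix
    exact h.eq_one_V hcA hc1 hc'A hc' hv hfix

theorem Cfg.Qb (h : Cfg V p s t A S T) {Z : Subgroup X} {c : X} (hcA : c ∈ A) (hc1 : c ≠ 1)
    (hZS : Z ≤ S) (hZc : Z ≤ Subgroup.centralizer {c})
    (hAZ : A ≤ Subgroup.normalizer (Z : Set X)) :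
    ∀ u ∈ commV V Z, c • u = u → u = 1 := by
  intro u hu hfix
  exact eq_one_of_mem_commV_of_fixed (h.copV hZS) hu
    (fun z hz => h.Qa hcA hc1 hZS hZc hAZ z hz u hfix)

theorem Cfg.Qc (h : Cfg V p s t A S T) {Z : Subgroup X} {c : X} (hcA : c ∈ A) (hc1 : c ≠ 1)
    (hZS : Z ≤ S) (hZc : Z ≤ Subgroup.centralizer {c})
    (hAZ : A ≤ Subgroup.normalizer (Z : Set X)) (hSZ : S ≤ Subgroup.normalizer (Z : Set X))
    {c' : X} (hc'A : c' ∈ A) (hc' : c' ∉ Subgroup.zpowers c) :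
    ∀ g ∈ S ⊓ Subgroup.centralizer {c'}, ∀ u ∈ commV V Z, g • u = u := by
  refine frobP h.ea.prime c (h.ea.exp c hcA) (S ⊓ Subgroup.centralizer {c'}) (h.copV inf_le_left)
    (fun x hx => conj_mem (le_normalizer_inf_centralizer h.hAS
      (fun a ha => h.ea.comm a ha c' hc'A)) hcA hx) ?_ (commV V Z) ?_ ?_ ?_
  · intro x hx hfix
    exact h.eq_one_S hcA hc1 hc'A hc' hx.1 (mul_inv_eq_iff_eq_mul.mp hfix)
      (Subgroup.mem_centralizer_singleton_iff.mp hx.2).symm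
  · intro x hx u hu
    exact smul_mem_commV (fun z hz => conj_mem hSZ hx.1 hz) u hu
  · intro u hu
    exact smul_mem_commV (fun z hz => conj_mem hAZ hcA hz) u hu
  · exact h.Qb hcA hc1 hZS hZc hAZ

end Cfsg.Agent.Lib.Helper66Ward3
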