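import Mathlib
import Cfsg.Agent.Lib.Helper66Ward3

set_option autoImplicit false
set_option linter.unusedSectionVars false

namespace Cfsg.Agent.Lib.Helper66Ward4

open Cfsg.Agent.Lib.Helper66Fpf Cfsg.Agent.Lib.Helper66Fpf2 Cfsg.Agent.Lib.Helper66Ward
  Cfsg.Agent.Lib.Helper66Ward2 Cfsg.Agent.Lib.Helper66Ward3

open scoped commutatorElement

variable {V : Type*} [CommGroup V] [Finite V] {X : Type*} [Group X] [Finite X]
  [MulDistribMulAction X V] [FaithfulSMul X V]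

variable {p s t : ℕ} [Fact s.Prime] [Fact t.Prime] {A S T : Subgroup X}

theorem comm_central_left {d g y : X} (h : d * (g * y * g⁻¹) = (g * y * g⁻¹) * d) :
    ⁅d * g, y⁆ = ⁅g, y⁆ := by
  rw [commutatorElement_def, commutatorElement_def]
  calc d * g * y * (d * g)⁻¹ * y⁻¹ = (d * (g * y * g⁻¹)) * d⁻¹ * y⁻¹ := by group
    _ = g * y * g⁻¹ * y⁻¹ := by rw [h]; group

theorem comm_central_right {d g y : X} (h : d * (g * y * g⁻¹) = (g * y * g⁻¹) * d) :
    ⁅y, d * g⁆ = ⁅y, g⁆ := by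
  have h1 := comm_central_left h
  rw [← commutatorElement_inv, h1, commutatorElement_inv]

/-- if `S = D S_j` with `D = [S,S]` central then `S = S_j` -/
theorem le_of_le_sup_central {S R : Subgroup X} (hRS : R ≤ S)
    (hD : ⁅S, S⁆ ≤ Subgroup.centralizer (S : Set X)) (h : S ≤ ⁅S, S⁆ ⊔ R) : S ≤ R := by
  have hRN : R ≤ Subgroup.normalizer ((⁅S, S⁆ : Subgroup X) : Set X) :=
    hRS.trans (Cfsg.Agent.Lib.Helper30SZ.le_normalizer_commutator Subgroup.le_normalizer
      Subgroup.le_normalizer)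
  have hDR : ⁅S, S⁆ ≤ R := by
    rw [Subgroup.commutator_le]
    intro x hx y hy
    obtain ⟨d₁, hd₁, g₁, hg₁, rfl⟩ := (Cfsg.Agent.Lib.Helper30SZ.mem_sup_iff hRN).mp (h hx)
    obtain ⟨d₂, hd₂, g₂, hg₂, rfl⟩ := (Cfsg.Agent.Lib.Helper30SZ.mem_sup_iff hRN).mp (h hy)
    have e1 : ⁅d₁ * g₁, d₂ * g₂⁆ = ⁅g₁, d₂ * g₂⁆ := by
      apply comm_central_left
      exact (Subgroup.mem_centralizer_iff.mp (hD hd₁) _
        (S.mul_mem (S.mul_mem (hRS hg₁) hy) (S.inv_mem (hRS hg₁)))).symm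
    have e2 : ⁅g₁, d₂ * g₂⁆ = ⁅g₁, g₂⁆ := by
      apply comm_central_right
      exact (Subgroup.mem_centralizer_iff.mp (hD hd₂) _
        (S.mul_mem (S.mul_mem (hRS hg₂) (hRS hg₁)) (S.inv_mem (hRS hg₂)))).symm
    rw [e1, e2, commutatorElement_def]
    exact R.mul_mem (R.mul_mem (R.mul_mem hg₁ hg₂) (R.inv_mem hg₁)) (R.inv_mem hg₂)
  exact h.trans (sup_le hDR le_rfl)

theorem le_normalizer_of_le_centralizer {H Z : Subgroup X}
    (h : Z ≤ Subgroup.centralizer (H : Set X)) : H ≤ Subgroup.normalizer (Z : Set X) := by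
  apply le_normalizer_of
  intro a ha z hz
  have := Subgroup.mem_centralizer_iff.mp (h hz) a ha
  rw [this]
  simpa using hz

theorem MinCfg.gen_S (h : MinCfg V p s t A S T) :
    (⨆ a ∈ {a : X | a ∈ A ∧ a ≠ 1}, S ⊓ Subgroup.centralizer {a}) = S := by
  have := h.ea.isMulCommutative
  exact Cfsg.Agent.S0058.result A S h.ea.not_isCyclic h.hAS h.copAS

theorem MinCfg.D_eq_bot (h : MinCfg V p s t A S T) {c₁ : X} (hc₁A : c₁ ∈ A) (hc₁1 : c₁ ≠ 1)
    (hTc₁ : T ≤ Subgroup.centralizer {c₁}) : ⁅S, S⁆ = ⊥ := by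
  by_contra hD
  have hDS : ⁅S, S⁆ ≤ S := h.D_lt.le
  have := h.ea.isMulCommutative
  have hgen := Cfsg.Agent.S0058.result A ⁅S, S⁆ h.ea.not_isCyclic h.A_norm_D
    (Cfsg.Agent.Lib.Helper30SZ.coprime_of_le h.copAS hDS)
  obtain ⟨c, hcA, hc1, hZne⟩ : ∃ c ∈ A, c ≠ 1 ∧ ⁅S, S⁆ ⊓ Subgroup.centralizer {c} ≠ ⊥ := by
    by_contra hcon
    push Not at hcon
    apply hD
    rw [← hgen, eq_bot_iff]
    apply iSup₂_le
    rintro c ⟨hcA, hc1⟩
    rw [hcon c hcA hc1]
  set Z := ⁅S, S⁆ ⊓ Subgroup.centralizer {c} with hZ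
  have hZS : Z ≤ S := inf_le_left.trans hDS
  have hZc : Z ≤ Subgroup.centralizer {c} := inf_le_right
  have hAZ : A ≤ Subgroup.normalizer (Z : Set X) :=
    le_normalizer_inf_centralizer h.A_norm_D (fun a ha => h.ea.comm a ha c hcA)
  have hSZ : S ≤ Subgroup.normalizer (Z : Set X) :=
    le_normalizer_of_le_centralizer (inf_le_left.trans h.D_central)
  have hTZ : T ≤ Subgroup.normalizer (Z : Set X) :=
    le_normalizer_of_le_centralizer
      (inf_le_left.trans (Subgroup.commutator_eq_bot_iff_le_centralizer.mp h.D_T))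
  set U := commV V Z with hU
  set K := fixer S U with hK
  have hAK : A ≤ Subgroup.normalizer (K : Set X) :=
    le_normalizer_fixer h.hAS (fun a ha u hu => smul_mem_commV (fun z hz => conj_mem hAZ ha hz) u hu)
  have hTK : T ≤ Subgroup.normalizer (K : Set X) :=
    le_normalizer_fixer h.hTS (fun a ha u hu => smul_mem_commV (fun z hz => conj_mem hTZ ha hz) u hu)
  have hSle : S ≤ K ⊔ (S ⊓ Subgroup.centralizer {c}) := by
    conv_lhs => rw [← MinCfg.gen_S h]
    apply iSup₂_le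
    rintro c' ⟨hc'A, hc'1⟩
    by_cases hz : c' ∈ Subgroup.zpowers c
    · refine le_trans ?_ le_sup_right
      exact le_inf inf_le_left
        (le_centralizer_of_mem_zpowers inf_le_right (h.ea.mem_zpowers_symm hcA hz hc'1))
    · refine le_trans ?_ le_sup_left
      intro g hg
      exact ⟨hg.1, h.Qc hcA hc1 hZS hZc hAZ hSZ hc'A hz g hg⟩
  by_cases hKS : K = S
  · apply hZne
    rw [eq_bot_iff]
    intro z hz
    rw [Subgroup.mem_bot]
    have h1 : ∀ z ∈ Z, ∀ u ∈ commV V Z, z • u = u := by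
      intro z hz u hu
      have : z ∈ K := by rw [hKS]; exact hZS hz
      exact this.2 u hu
    have h2 := trivial_of_trivial_on_commV (h.copV hZS) h1 z hz
    apply FaithfulSMul.eq_of_smul_eq_smul (α := V)
    intro v
    rw [one_smul]
    exact h2 v
  · have hKlt : K < S := lt_of_le_of_ne (fixer_le S U) hKS
    have hKD := h.key K hKlt hAK hTK
    have h1 : S ≤ ⁅S, S⁆ ⊔ (S ⊓ Subgroup.centralizer {c}) :=
      hSle.trans (sup_le_sup_right hKD _)
    have h2 := le_of_le_sup_central inf_le_left h.D_central h1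
    exact h.NC hc₁A hc₁1 hTc₁ hcA hc1 (h2.trans inf_le_right)

end Cfsg.Agent.Lib.Helper66Ward4
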