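import Mathlib
import Cfsg.Agent.Lib.Helper66Ward4

set_option autoImplicit false
set_option linter.unusedSectionVars false

namespace Cfsg.Agent.Lib.Helper66Ward5

open Cfsg.Agent.Lib.Helper66Fpf Cfsg.Agent.Lib.Helper66Fpf2 Cfsg.Agent.Lib.Helper66Ward
  Cfsg.Agent.Lib.Helper66Ward2 Cfsg.Agent.Lib.Helper66Ward3 Cfsg.Agent.Lib.Helper66Ward4

variable {V : Type*} [CommGroup V] [Finite V] {X : Type*} [Group X] [Finite X]
  [MulDistribMulAction X V] [FaithfulSMul X V]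

variable {p s t : ℕ} [Fact s.Prime] [Fact t.Prime] {A S T : Subgroup X} {c₁ : X}

/-- the abelian case -/
structure AbCfg (V : Type*) [CommGroup V] {X : Type*} [Group X] [MulDistribMulAction X V]
    (p s t : ℕ) (A S T : Subgroup X) (c₁ : X) : Prop extends MinCfg V p s t A S T where
  hc₁A : c₁ ∈ A
  hc₁1 : c₁ ≠ 1
  hTc₁ : T ≤ Subgroup.centralizer {c₁}
  hD : ⁅S, S⁆ = ⊥

theorem AbCfg.ab (h : AbCfg V p s t A S T c₁) : ∀ x ∈ S, ∀ y ∈ S, x * y = y * x := by
  intro x hx y hy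
  have := Subgroup.commutator_eq_bot_iff_le_centralizer.mp h.hD
  exact (Subgroup.mem_centralizer_iff.mp (this hy) x hx)

theorem AbCfg.le_cent (h : AbCfg V p s t A S T c₁) : S ≤ Subgroup.centralizer (S : Set X) :=
  Subgroup.commutator_eq_bot_iff_le_centralizer.mp h.hD

theorem AbCfg.irr (h : AbCfg V p s t A S T c₁) (U : Subgroup X) (hU : U < S)
    (hAU : A ≤ Subgroup.normalizer (U : Set X)) (hTU : T ≤ Subgroup.normalizer (U : Set X)) :
    U = ⊥ := by
  rw [eq_bot_iff, ← h.hD]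
  exact h.key U hU hAU hTU

theorem AbCfg.nc (h : AbCfg V p s t A S T c₁) {c : X} (hcA : c ∈ A) (hc1 : c ≠ 1) :
    ¬ S ≤ Subgroup.centralizer {c} := h.NC h.hc₁A h.hc₁1 h.hTc₁ hcA hc1

theorem AbCfg.S₁ (h : AbCfg V p s t A S T c₁) {c : X} (hc : c ∈ Subgroup.zpowers c₁)
    (hc1 : c ≠ 1) : S ⊓ Subgroup.centralizer {c} = ⊥ := by
  have hcA : c ∈ A := (Subgroup.zpowers_le.mpr h.hc₁A) hc
  apply h.irr
  · refine lt_of_le_of_ne inf_le_left ?_
    intro heq
    exact h.nc hcA hc1 (heq ▸ inf_le_right)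
  · exact le_normalizer_inf_centralizer h.hAS (fun a ha => h.ea.comm a ha c hcA)
  · apply le_normalizer_inf_centralizer h.hTS
    intro a ha
    exact Subgroup.mem_centralizer_singleton_iff.mp
      (le_centralizer_of_mem_zpowers h.hTc₁ hc ha)

/-- the product of the other centralizers -/
def Kc (A S : Subgroup X) (c : X) : Subgroup X :=
  ⨆ c' : {c' : X // c' ∈ A ∧ c' ∉ Subgroup.zpowers c}, S ⊓ Subgroup.centralizer {(c' : X)}

theorem Kc_le (A S : Subgroup X) (c : X) : Kc A S c ≤ S := iSup_le (fun _ => inf_le_left)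

theorem le_normalizer_iSup {H : Subgroup X} {ι : Sort*} {f : ι → Subgroup X}
    (hf : ∀ i, H ≤ Subgroup.normalizer (f i : Set X)) :
    H ≤ Subgroup.normalizer ((⨆ i, f i : Subgroup X) : Set X) := by
  apply le_normalizer_of
  intro a ha
  have : ⨆ i, f i ≤ (⨆ i, f i).comap (MulAut.conj a).toMonoidHom := by
    apply iSup_le
    intro i x hx
    rw [Subgroup.mem_comap, MulEquiv.coe_toMonoidHom, MulAut.conj_apply]
    exact (le_iSup f i) (conj_mem (hf i) ha hx)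
  intro x hx
  have := this hx
  rwa [Subgroup.mem_comap, MulEquiv.coe_toMonoidHom, MulAut.conj_apply] at this

theorem AbCfg.A_norm_Kc (h : AbCfg V p s t A S T c₁) (c : X) :
    A ≤ Subgroup.normalizer (Kc A S c : Set X) :=
  le_normalizer_iSup (fun c' =>
    le_normalizer_inf_centralizer h.hAS (fun a ha => h.ea.comm a ha c' c'.2.1))

theorem AbCfg.S_norm (h : AbCfg V p s t A S T c₁) {K : Subgroup X} (hK : K ≤ S) :
    S ≤ Subgroup.normalizer (K : Set X) :=
  le_normalizer_of_le_centralizer (hK.trans h.le_cent)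

theorem AbCfg.le_sup (h : AbCfg V p s t A S T c₁) {c : X} (hcA : c ∈ A) :
    S ≤ Kc A S c ⊔ (S ⊓ Subgroup.centralizer {c}) := by
  conv_lhs => rw [← MinCfg.gen_S h.toMinCfg]
  apply iSup₂_le
  rintro c' ⟨hc'A, hc'1⟩
  by_cases hz : c' ∈ Subgroup.zpowers c
  · refine le_trans ?_ le_sup_right
    exact le_inf inf_le_left
      (le_centralizer_of_mem_zpowers inf_le_right (h.ea.mem_zpowers_symm hcA hz hc'1))
  · refine le_trans ?_ le_sup_left
    exact le_iSup (fun c' : {c' : X // c' ∈ A ∧ c' ∉ Subgroup.zpowers c} =>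
      S ⊓ Subgroup.centralizer {(c' : X)}) ⟨c', hc'A, hz⟩

theorem AbCfg.K4 (h : AbCfg V p s t A S T c₁) {c : X} (hcA : c ∈ A) {u : X}
    (hu : u ∈ Subgroup.zpowers c) {g : X} (hg : g ∈ S) : u * g * u⁻¹ * g⁻¹ ∈ Kc A S c := by
  have huA : u ∈ A := (Subgroup.zpowers_le.mpr hcA) hu
  obtain ⟨k, hk, g', hg', rfl⟩ := (Cfsg.Agent.Lib.Helper30SZ.mem_sup_iff
    ((inf_le_left : S ⊓ Subgroup.centralizer {c} ≤ S).trans (h.S_norm (Kc_le A S c)))).mp
    (h.le_sup hcA hg)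
  have h1 : g' * u = u * g' := Subgroup.mem_centralizer_singleton_iff.mp
    (le_centralizer_of_mem_zpowers (inf_le_right : S ⊓ Subgroup.centralizer {c} ≤ _) hu hg')
  have e : u * (k * g') * u⁻¹ * (k * g')⁻¹ = (u * k * u⁻¹) * k⁻¹ := by
    calc u * (k * g') * u⁻¹ * (k * g')⁻¹ = u * k * (g' * u⁻¹ * g'⁻¹) * k⁻¹ := by group
      _ = u * k * u⁻¹ * k⁻¹ := by
        have : g' * u⁻¹ * g'⁻¹ = u⁻¹ := by
          have h2 : g' * u * g'⁻¹ = u := by rw [h1]; group
          calc g' * u⁻¹ * g'⁻¹ = (g' * u * g'⁻¹)⁻¹ := by group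
            _ = u⁻¹ := by rw [h2]
        rw [this]
  rw [e]
  exact (Kc A S c).mul_mem (conj_mem (h.A_norm_Kc c) huA hk) ((Kc A S c).inv_mem hk)

theorem AbCfg.K5 (h : AbCfg V p s t A S T c₁) {c : X} (hcA : c ∈ A) (hc1 : c ≠ 1) :
    ∀ k ∈ Kc A S c, ∀ u ∈ commV V (S ⊓ Subgroup.centralizer {c}), k • u = u := by
  intro k hk u hu
  refine le_of_fix (le_refl (Kc A S c)) ?_ k hk
  intro c' g hg
  exact h.Qc hcA hc1 inf_le_left inf_le_right
    (le_normalizer_inf_centralizer h.hAS (fun a ha => h.ea.comm a ha c hcA))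
    (h.S_norm inf_le_left) c'.2.1 c'.2.2 g hg u hu

end Cfsg.Agent.Lib.Helper66Ward5
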