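import Mathlib
import Cfsg.Agent.Lib.Helper66Ward5

set_option autoImplicit false
set_option linter.unusedSectionVars false

namespace Cfsg.Agent.Lib.Helper66Ward6

open Cfsg.Agent.Lib.Helper66Fpf Cfsg.Agent.Lib.Helper66Fpf2 Cfsg.Agent.Lib.Helper66Ward
  Cfsg.Agent.Lib.Helper66Ward2 Cfsg.Agent.Lib.Helper66Ward3 Cfsg.Agent.Lib.Helper66Ward4
  Cfsg.Agent.Lib.Helper66Ward5

variable {V : Type*} [CommGroup V] [Finite V] {X : Type*} [Group X] [Finite X]
  [MulDistribMulAction X V] [FaithfulSMul X V]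

variable {p s t : ℕ} [Fact s.Prime] [Fact t.Prime] {A S T : Subgroup X} {c₁ : X}

/-- the predicate "`γ` normalises `S` and `[γ, S] ≤ L`" -/
def PP (S L : Subgroup X) (γ : X) : Prop :=
  (∀ g ∈ S, γ * g * γ⁻¹ ∈ S) ∧ ∀ g ∈ S, γ * g * γ⁻¹ * g⁻¹ ∈ L

theorem PP.mul {S L : Subgroup X} {γ δ : X} (h1 : PP S L γ) (h2 : PP S L δ) : PP S L (γ * δ) := by
  constructor
  · intro g hg
    have := h1.1 _ (h2.1 g hg)
    have e : γ * δ * g * (γ * δ)⁻¹ = γ * (δ * g * δ⁻¹) * γ⁻¹ := by group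
    rw [e]; exact this
  · intro g hg
    have e : γ * δ * g * (γ * δ)⁻¹ * g⁻¹
        = (γ * (δ * g * δ⁻¹) * γ⁻¹ * (δ * g * δ⁻¹)⁻¹) * (δ * g * δ⁻¹ * g⁻¹) := by group
    rw [e]
    exact L.mul_mem (h1.2 _ (h2.1 g hg)) (h2.2 g hg)

theorem PP.one (S L : Subgroup X) : PP S L 1 := by
  constructor
  · intro g hg; simpa using hg
  · intro g hg; simp

theorem PP.pow {S L : Subgroup X} {γ : X} (h1 : PP S L γ) (n : ℕ) : PP S L (γ ^ n) := by
  induction n with
  | zero => rw [pow_zero]; exact PP.one S L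
  | succ n ih => rw [pow_succ]; exact ih.mul h1

theorem AbCfg.d6 (h : AbCfg V p s t A S T c₁) {x : X} (hx : x ∈ T) {cj ck : X} (hcj : cj ∈ A)
    (hcj1 : cj ≠ 1) (hck : ck ∈ A) (hn : ck ∉ Subgroup.zpowers cj) :
    S ≤ (Kc A S cj).map (MulAut.conj x).toMonoidHom ⊔ Kc A S ck := by
  set L := (Kc A S cj).map (MulAut.conj x).toMonoidHom ⊔ Kc A S ck with hL
  have hc₁ : c₁ ∈ Subgroup.zpowers cj ⊔ Subgroup.zpowers ck := by
    rw [h.ea.sup_zpowers hcj hcj1 hck hn]; exact h.hc₁A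
  have hnorm : Subgroup.zpowers ck ≤ Subgroup.normalizer (Subgroup.zpowers cj : Set X) := by
    apply le_normalizer_of
    intro a ha y hy
    have haA : a ∈ A := (Subgroup.zpowers_le.mpr hck) ha
    have hyA : y ∈ A := (Subgroup.zpowers_le.mpr hcj) hy
    rw [h.ea.comm a haA y hyA]
    simpa using hy
  obtain ⟨u, hu, w, hw, huw⟩ := (Cfsg.Agent.Lib.Helper30SZ.mem_sup_iff hnorm).mp hc₁
  have huA : u ∈ A := (Subgroup.zpowers_le.mpr hcj) hu
  have hwA : w ∈ A := (Subgroup.zpowers_le.mpr hck) hw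
  have P1 : PP S L (x * u * x⁻¹) := by
    constructor
    · intro g hg
      have h1 : x⁻¹ * g * x⁻¹⁻¹ ∈ S := conj_mem h.hTS (T.inv_mem hx) hg
      have h2 := conj_mem h.hTS hx (conj_mem h.hAS huA h1)
      have e : x * u * x⁻¹ * g * (x * u * x⁻¹)⁻¹ = x * (u * (x⁻¹ * g * x⁻¹⁻¹) * u⁻¹) * x⁻¹ := by
        group
      rw [e]; exact h2
    · intro g hg
      have h1 : x⁻¹ * g * x⁻¹⁻¹ ∈ S := conj_mem h.hTS (T.inv_mem hx) hg
      have h2 := h.K4 hcj hu h1
      have e : x * u * x⁻¹ * g * (x * u * x⁻¹)⁻¹ * g⁻¹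
          = x * (u * (x⁻¹ * g * x⁻¹⁻¹) * u⁻¹ * (x⁻¹ * g * x⁻¹⁻¹)⁻¹) * x⁻¹ := by group
      rw [e]
      apply (le_sup_left : _ ≤ L)
      exact ⟨_, h2, by rw [MulEquiv.coe_toMonoidHom, MulAut.conj_apply]⟩
  have P2 : PP S L w :=
    ⟨fun g hg => conj_mem h.hAS hwA hg, fun g hg => (le_sup_right : _ ≤ L) (h.K4 hck hw hg)⟩
  have P3 := (P1.mul P2).pow (Nat.card T)
  set z := x * u * x⁻¹ * u⁻¹ with hz
  have hzT : z ∈ T := by
    have h1 : u * x⁻¹ * u⁻¹ ∈ T := conj_mem h.hAT huA (T.inv_mem hx)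
    have e : z = x * (u * x⁻¹ * u⁻¹) := by rw [hz]; group
    rw [e]; exact T.mul_mem hx h1
  have e1 : x * u * x⁻¹ * w = z * c₁ := by rw [hz, huw]; group
  have hcomm : Commute z c₁ := Subgroup.mem_centralizer_singleton_iff.mp (h.hTc₁ hzT)
  have hz1 : z ^ Nat.card T = 1 := by
    have h1 : (⟨z, hzT⟩ : T) ^ Nat.card T = 1 := pow_card_eq_one'
    have h2 := congrArg Subtype.val h1
    rwa [Subgroup.coe_pow, Subgroup.coe_one] at h2
  rw [e1, hcomm.mul_pow, hz1, one_mul] at P3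
  set c' := c₁ ^ Nat.card T with hc'
  have hc'z : c' ∈ Subgroup.zpowers c₁ := Subgroup.pow_mem _ (Subgroup.mem_zpowers c₁) _
  have hc'1 : c' ≠ 1 := by
    intro h1
    have h2 : orderOf c₁ ∣ Nat.card T := orderOf_dvd_of_pow_eq_one h1
    rw [h.ea.orderOf_eq h.hc₁A h.hc₁1] at h2
    have h3 : p ∣ Nat.card A := by rw [h.ea.card]; exact dvd_pow_self p (by norm_num)
    have := Nat.eq_one_of_dvd_coprimes h.copAT h3 h2
    exact h.ea.prime.one_lt.ne' this
  have hbot := h.S₁ hc'z hc'1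
  intro g hg
  obtain ⟨y, hy, rfl⟩ := lang (MulAut.conj c') S
    (fun x hx => by rw [MulAut.conj_apply]; exact P3.1 x hx)
    (fun x hx hfix => by
      rw [MulAut.conj_apply] at hfix
      have : x ∈ S ⊓ Subgroup.centralizer {c'} := by
        rw [Subgroup.mem_inf]
        refine ⟨hx, ?_⟩
        rw [Subgroup.mem_centralizer_singleton_iff]
        exact (mul_inv_eq_iff_eq_mul.mp hfix).symm
      rwa [hbot, Subgroup.mem_bot] at this) g hg
  rw [MulAut.conj_apply, h.ab _ (S.inv_mem hy) _ (P3.1 y hy)]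
  exact P3.2 y hy

theorem AbCfg.e6 (h : AbCfg V p s t A S T c₁) {x : X} (hx : x ∈ T) {cj : X} (hcj : cj ∈ A)
    (hcj1 : cj ≠ 1) {v : V} (hv : ∀ k ∈ Kc A S cj, (x * k * x⁻¹) • v = v) :
    ∀ k ∈ Kc A S cj, k • v = v := by
  refine le_of_fix (le_refl (Kc A S cj)) ?_
  rintro ⟨c', hc'A, hc'n⟩ g hg
  have hc'1 : c' ≠ 1 := by
    rintro rfl
    exact hc'n (Subgroup.one_mem _)
  set w := g • v * v⁻¹ with hw
  have hwc : w ∈ commV V (S ⊓ Subgroup.centralizer {c'}) := mem_commV hg v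
  have hfix : ∀ y ∈ S, y • w = w := by
    have hle : S ≤ MulAction.stabilizer X w := by
      refine (AbCfg.d6 h hx hcj hcj1 hc'A hc'n).trans (sup_le ?_ ?_)
      · rintro _ ⟨k, hk, rfl⟩
        rw [MulEquiv.coe_toMonoidHom, MulAut.conj_apply, MulAction.mem_stabilizer_iff, hw,
          smul_mul', smul_inv', ← mul_smul,
          h.ab _ (conj_mem h.hTS hx (Kc_le A S cj hk)) g hg.1, mul_smul, hv k hk]
      · intro k hk
        exact h.K5 hc'A hc'1 k hk w hwc
    exact fun y hy => hle hy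
  have hw1 : w = 1 := eq_one_of_mem_commV_of_fixed (h.copV inf_le_left) hwc
    (fun y hy => hfix y hy.1)
  exact mul_inv_eq_one.mp hw1

theorem AbCfg.f6 (h : AbCfg V p s t A S T c₁) {cj : X} (hcj : cj ∈ A)
    (hcj1 : cj ≠ 1) : S ⊓ Subgroup.centralizer {cj} = ⊥ := by
  set C := fixVS V (Kc A S cj) with hC
  have hTC : ∀ x ∈ T, ∀ v ∈ C, x • v ∈ C := by
    intro x hx v hv
    rw [hC, mem_fixVS] at hv ⊢
    apply AbCfg.e6 h hx hcj hcj1
    intro k hk
    rw [← mul_smul, inv_mul_cancel_right, mul_smul, hv k hk]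
  have hAC : ∀ x ∈ A, ∀ v ∈ C, x • v ∈ C := by
    intro x hx v hv
    rw [hC, mem_fixVS] at hv ⊢
    intro k hk
    have h1 : x⁻¹ * k * x⁻¹⁻¹ ∈ Kc A S cj := conj_mem (h.A_norm_Kc cj) (A.inv_mem hx) hk
    have h2 := hv _ h1
    have e : k * x = x * (x⁻¹ * k * x⁻¹⁻¹) := by group
    rw [← mul_smul, e, mul_smul, h2]
  set K' := fixer S C with hK'
  have hKK : Kc A S cj ≤ K' := fun k hk => ⟨Kc_le A S cj hk, fun u hu => hu k hk⟩
  by_cases hKS : K' = S
  · rw [eq_bot_iff]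
    intro z hz
    rw [Subgroup.mem_bot]
    have h1 : ∀ z ∈ S ⊓ Subgroup.centralizer {cj},
        ∀ u ∈ commV V (S ⊓ Subgroup.centralizer {cj}), z • u = u := by
      intro z hz u hu
      have hzK : z ∈ K' := by rw [hKS]; exact hz.1
      exact hzK.2 u (fun k hk => h.K5 hcj hcj1 k hk u hu)
    have h2 := trivial_of_trivial_on_commV (h.copV inf_le_left) h1 z hz
    apply FaithfulSMul.eq_of_smul_eq_smul (α := V)
    intro v
    rw [one_smul]
    exact h2 v
  · exfalso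
    have hKlt : K' < S := lt_of_le_of_ne (fixer_le S C) hKS
    have hb := h.irr K' hKlt (le_normalizer_fixer h.hAS hAC) (le_normalizer_fixer h.hTS hTC)
    have hKb : Kc A S cj = ⊥ := by rw [eq_bot_iff, ← hb]; exact hKK
    have := h.le_sup hcj
    rw [hKb, bot_sup_eq] at this
    exact h.nc hcj hcj1 (this.trans inf_le_right)

theorem AbCfg.false (h : AbCfg V p s t A S T c₁) : False := by
  apply h.S_ne_bot
  rw [← MinCfg.gen_S h.toMinCfg, eq_bot_iff]
  apply iSup₂_le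
  rintro c ⟨hcA, hc1⟩
  rw [AbCfg.f6 h hcA hc1]

theorem MinCfg.false (h : MinCfg V p s t A S T) : False := by
  obtain ⟨c₁, hc₁A, hc₁1, hTc₁⟩ := h.exists_c₁
  exact AbCfg.false (c₁ := c₁) ⟨h, hc₁A, hc₁1, hTc₁, MinCfg.D_eq_bot h hc₁A hc₁1 hTc₁⟩

theorem propW_aux (n : ℕ) : ∀ S T : Subgroup X, Nat.card S + Nat.card T ≤ n →
    Cfg V p s t A S T → ⁅S, T⁆ = ⊥ := by
  induction n with
  | zero =>
    intro S T hn _
    have := Nat.card_pos (α := S)
    omega
  | succ n ih =>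
    intro S T hn h
    by_contra hne
    refine MinCfg.false (V := V) (p := p) (s := s) (t := t) (A := A) (S := S) (T := T) ⟨h, ?_, ?_, hne⟩
    · intro T' hT' hAT'
      apply ih S T'
      · have := card_lt_of_lt hT'
        omega
      · exact { h with
          hT := h.hT.to_le hT'.le
          hAT := hAT'
          hTS := hT'.le.trans h.hTS
          hTA := by
            rw [eq_bot_iff, ← h.hTA]
            exact inf_le_inf_right _ hT'.le }
    · intro S' hS' hAS' hTS'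
      apply ih S' T
      · have := card_lt_of_lt hS'
        omega
      · exact { h with
          hS := h.hS.to_le hS'.le
          hAS := hAS'
          hTS := hTS'
          hSA := by
            rw [eq_bot_iff, ← h.hSA]
            exact inf_le_inf_right _ hS'.le }

/-- **Ward's key proposition**. -/
theorem propW (h : Cfg V p s t A S T) : ⁅S, T⁆ = ⊥ := propW_aux _ S T le_rfl h

end Cfsg.Agent.Lib.Helper66Ward6
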