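import Mathlib
import Cfsg.Agent.Lib.Helper66Ward6
import Cfsg.Agent.Lib.Helper66Ward7
import Cfsg.Agent.S0023
import Cfsg.Agent.S3751

set_option autoImplicit false
set_option linter.unusedSectionVars false

namespace Cfsg.Agent.Lib.Helper66Ward8

open Cfsg.Agent.Lib.Helper66Fpf Cfsg.Agent.Lib.Helper66Fpf2 Cfsg.Agent.Lib.Helper66Ward
  Cfsg.Agent.Lib.Helper66Ward2 Cfsg.Agent.Lib.Helper66Ward3 Cfsg.Agent.Lib.Helper66Ward6
  Cfsg.Agent.Lib.Helper66Ward7 Cfsg.Agent.S3751

variable {V : Type*} [CommGroup V] [Finite V] {X : Type*} [Group X] [Finite X]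
  [MulDistribMulAction X V] [FaithfulSMul X V]

theorem Op_eq_bot {r : ℕ} [Fact r.Prime] (hV : IsPGroup r V) [Nontrivial V] {A H : Subgroup X}
    (hAH : A ≤ Subgroup.normalizer (H : Set X))
    (hirr : ∀ U : Subgroup V, (∀ x ∈ H, ∀ u ∈ U, x • u ∈ U) → (∀ a ∈ A, ∀ u ∈ U, a • u ∈ U) →
      U = ⊥ ∨ U = ⊤) : Op r H = ⊥ := by
  set P := Op r H with hP
  set U := fixVS V P with hU
  have hinvU : ∀ g ∈ Subgroup.normalizer (P : Set X), ∀ u ∈ U, g • u ∈ U := by
    intro g hg u hu y hy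
    have h1 : g⁻¹ * y * g⁻¹⁻¹ ∈ P :=
      (Subgroup.mem_normalizer_iff.mp (Subgroup.inv_mem _ hg) y).mp hy
    have h2 := hu _ h1
    have e : y • g • u = g • ((g⁻¹ * y * g⁻¹⁻¹) • u) := by
      rw [← mul_smul, ← mul_smul]; congr 1; group
    rw [e, h2]
  have hU' := hirr U (fun x hx => hinvU x (le_normalizer_Op r H hx))
    (fun a ha => hinvU a (normalizer_le_normalizer_Op r H (hAH ha)))
  have hUne : U ≠ ⊥ := by
    have hdvd : r ∣ Nat.card V := by
      rcases hV.card_eq_or_dvd with h | h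
      · exact absurd h (Finite.one_lt_card).ne'
      · exact h
    have hPp : IsPGroup r P := Op_isPGroup r H
    obtain ⟨b, hb, hb1⟩ := hPp.exists_fixed_point_of_prime_dvd_card_of_fixed_point V hdvd
      (a := 1) (by
        intro y
        exact smul_one _)
    intro hbot
    have : b ∈ U := by
      intro y hy
      exact hb ⟨y, hy⟩
    rw [hbot, Subgroup.mem_bot] at this
    exact hb1 this.symm
  have hUtop : U = ⊤ := hU'.resolve_left hUne
  rw [eq_bot_iff]
  intro y hy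
  rw [Subgroup.mem_bot]
  apply FaithfulSMul.eq_of_smul_eq_smul (α := V)
  intro v
  rw [one_smul]
  have : v ∈ U := by rw [hUtop]; exact Subgroup.mem_top v
  exact this y hy

theorem nilH {p r : ℕ} [Fact r.Prime] (hV : IsPGroup r V) [Nontrivial V] {A H : Subgroup X}
    (hea : EA p A) (fpfV : ∀ v : V, (∀ a ∈ A, a • v = v) → v = 1)
    (hsol : Group.IsSolvable H)
    (hAH : A ≤ Subgroup.normalizer (H : Set X))
    (hHA : H ⊓ Subgroup.centralizer (A : Set X) = ⊥)
    (hpH : (Nat.card H).Coprime p)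
    (hirr : ∀ U : Subgroup V, (∀ x ∈ H, ∀ u ∈ U, x • u ∈ U) → (∀ a ∈ A, ∀ u ∈ U, a • u ∈ U) →
      U = ⊥ ∨ U = ⊤) : Group.IsNilpotent H := by
  have hOr := Op_eq_bot hV hAH hirr
  have hcop : (Nat.card A).Coprime (Nat.card H) := by
    rw [hea.card]
    exact (hpH.pow_right 2).symm
  have hpnd : ¬ p ∣ Nat.card H := by
    intro hd
    have := Nat.eq_one_of_dvd_coprimes hpH hd dvd_rfl
    exact hea.prime.one_lt.ne' this
  have hex : ∀ t : Nat.Primes, ∃ P : Sylow (t : ℕ) H,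
      A ≤ Subgroup.normalizer ((P : Subgroup H).map H.subtype : Set X) := by
    intro t
    have := Fact.mk t.2
    exact Cfsg.Agent.S0023.result A H hAH hcop (Or.inr hsol) t
  choose P hP using hex
  apply nil_of_sylow_centralize hsol P
  intro s t hst
  have := Fact.mk t.2
  have := Fact.mk s.2
  apply (Subgroup.map_eq_bot_iff_of_injective _ H.subtype_injective).mp
  rw [Subgroup.map_commutator]
  change ⁅Op (s : ℕ) H, (P t : Subgroup H).map H.subtype⁆ = ⊥
  by_cases hsr : (s : ℕ) = r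
  · rw [hsr, hOr]; simp
  by_cases hsp : (s : ℕ) = p
  · have : Op (s : ℕ) H = ⊥ := by
      rw [Op, Cfsg.Agent.Lib.Helper28Fitting.pCore_eq_bot_of_not_dvd (hsp ▸ hpnd), Subgroup.map_bot]
    rw [this]; simp
  by_cases htp : (t : ℕ) = p
  · have : (P t : Subgroup H) = ⊥ := by
      rcases (P t).2.card_eq_or_dvd with h | h
      · exact Subgroup.card_eq_one.mp h
      · exact absurd (htp ▸ (h.trans (Subgroup.card_subgroup_dvd_card _))) hpnd
    rw [this]; simp
  apply propW (V := V) (p := p) (s := s) (t := t) (A := A)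
  exact {
    ea := hea
    fpfV := fpfV
    hS := Op_isPGroup _ _
    hT := (P t).2.map _
    hst := fun h => hst (Subtype.ext h)
    hsp := hsp
    htp := htp
    hVs := by
      obtain ⟨k, hk⟩ := IsPGroup.iff_card.mp hV
      rw [hk]
      exact Nat.Coprime.pow_left _ ((Nat.coprime_primes Fact.out Fact.out).mpr (Ne.symm hsr))
    hAS := hAH.trans (normalizer_le_normalizer_Op _ H)
    hAT := hP t
    hTS := (Subgroup.map_subtype_le _).trans (le_normalizer_Op _ H)
    hSA := by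
      rw [eq_bot_iff, ← hHA]
      exact inf_le_inf_right _ (Op_le _ H)
    hTA := by
      rw [eq_bot_iff, ← hHA]
      exact inf_le_inf_right _ (Subgroup.map_subtype_le _) }

theorem nil_of_fpf_elt {p : ℕ} (hp : p.Prime) {L : Subgroup X} (c : X) (hc : c ^ p = 1)
    (hcL' : ∀ x ∈ L, c * x * c⁻¹ ∈ L) (hf : ∀ x ∈ L, c * x * c⁻¹ = x → x = 1) :
    Group.IsNilpotent L := by
  have hcL : c ∈ Subgroup.normalizer (L : Set X) :=
    Cfsg.Agent.Lib.Helper66Basic.mem_normalizer_of_conj_mem L c hcL'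
  by_cases hLbot : L = ⊥
  · subst hLbot
    infer_instance
  let φ : L ≃* L := L.normalizerMonoidHom ⟨c, hcL⟩
  have hφ : ∀ x : L, ((φ x : L) : X) = c * x * c⁻¹ := fun x => rfl
  have hfpf : MonoidHom.FixedPointFree (φ : L →* L) := by
    intro x hx
    apply Subtype.ext
    apply hf x x.2
    exact congrArg Subtype.val hx
  have hφp : φ ^ p = 1 := by
    have : (⟨c, hcL⟩ : Subgroup.normalizer (L : Set X)) ^ p = 1 := Subtype.ext (by simpa using hc)
    show (L.normalizerMonoidHom ⟨c, hcL⟩) ^ p = 1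
    rw [← map_pow, this, map_one]
  have hφ1 : φ ≠ 1 := by
    intro h1
    apply hLbot
    rw [eq_bot_iff]
    intro x hx
    have := hfpf ⟨x, hx⟩ (by
      show φ ⟨x, hx⟩ = ⟨x, hx⟩
      rw [h1]; rfl)
    rw [Subgroup.mem_bot]
    exact congrArg Subtype.val this
  have := Fact.mk hp
  have hord : orderOf φ = p := orderOf_eq_prime hφp hφ1
  exact Cfsg.Agent.S0033.result φ hfpf p hp hord

theorem nilH' {p r : ℕ} [Fact r.Prime] (hV : IsPGroup r V) [Nontrivial V] {A H : Subgroup X}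
    (hp : p.Prime) (hcomm : ∀ a ∈ A, ∀ b ∈ A, a * b = b * a) (hexp : ∀ a ∈ A, a ^ p = 1)
    (hcard : Nat.card A ∣ p ^ 2)
    (fpfV : ∀ v : V, (∀ a ∈ A, a • v = v) → v = 1)
    (hsol : Group.IsSolvable H)
    (hAH : A ≤ Subgroup.normalizer (H : Set X))
    (hHA : H ⊓ Subgroup.centralizer (A : Set X) = ⊥)
    (hpH : (Nat.card H).Coprime p)
    (hirr : ∀ U : Subgroup V, (∀ x ∈ H, ∀ u ∈ U, x • u ∈ U) → (∀ a ∈ A, ∀ u ∈ U, a • u ∈ U) →
      U = ⊥ ∨ U = ⊤) : Group.IsNilpotent H := by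
  obtain ⟨k, hk, hk2⟩ := (Nat.dvd_prime_pow hp).mp hcard
  interval_cases k
  · exfalso
    rw [pow_zero] at hk2
    have hA : A = ⊥ := Subgroup.card_eq_one.mp hk2
    obtain ⟨v, hv⟩ := exists_ne (1 : V)
    apply hv
    apply fpfV
    intro a ha
    rw [hA, Subgroup.mem_bot] at ha
    rw [ha, one_smul]
  · rw [pow_one] at hk2
    have := Fact.mk hp
    have hcyc : IsCyclic A := isCyclic_of_prime_card hk2
    obtain ⟨c, hc⟩ := hcyc.exists_generator
    apply nil_of_fpf_elt hp (c : X) (hexp c c.2) (fun x hx => conj_mem hAH c.2 hx)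
    intro x hx hfix
    have h1 : x ∈ H ⊓ Subgroup.centralizer (A : Set X) := by
      rw [Subgroup.mem_inf]
      refine ⟨hx, ?_⟩
      have h2 : Subgroup.zpowers (c : X) ≤ Subgroup.centralizer {x} := by
        rw [Subgroup.zpowers_le, Subgroup.mem_centralizer_singleton_iff]
        exact mul_inv_eq_iff_eq_mul.mp hfix
      rw [Subgroup.mem_centralizer_iff]
      intro a ha
      obtain ⟨k, hk⟩ := Subgroup.mem_zpowers_iff.mp (hc ⟨a, ha⟩)
      have h3 : a ∈ Subgroup.zpowers (c : X) := by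
        rw [Subgroup.mem_zpowers_iff]
        exact ⟨k, by simpa using congrArg Subtype.val hk⟩
      exact Subgroup.mem_centralizer_singleton_iff.mp (h2 h3)
    rwa [hHA, Subgroup.mem_bot] at h1
  · exact nilH hV ⟨hp, hcomm, hexp, hk2⟩ fpfV hsol hAH hHA hpH hirr

end Cfsg.Agent.Lib.Helper66Ward8
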