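import Cfsg.Agent.Lib.Helper66Wf8
import Cfsg.Agent.Lib.Helper66Ward8

set_option autoImplicit false
set_option linter.unusedSectionVars false

/-! Frobenius fixed point formula, part 9: solvable groups. -/

namespace Cfsg.Agent.Lib.Helper66Wf9

open Cfsg.Agent.Lib.Helper36Frob Cfsg.Agent.Lib.Helper66Wf1 Cfsg.Agent.Lib.Helper66Wf2
  Cfsg.Agent.Lib.Helper66Wf7 Cfsg.Agent.Lib.Helper66Wf8

variable {X : Type*} [Group X] [Finite X]

lemma card_eq_comm_mul_ab (H : Subgroup X) :
    Nat.card H = Nat.card ↥(⁅H, H⁆ : Subgroup X) * Nat.card (Additive (Abelianization ↥H)) := by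
  have hHH : ⁅H, H⁆ ≤ H := Subgroup.commutator_le_self H
  have h1 : Nat.card ↥(commutator ↥H) = Nat.card ↥(⁅H, H⁆ : Subgroup X) :=
    Nat.card_congr
      { toFun := fun x => ⟨(x.1 : X), (mem_commutator_iff H x.1).mp x.2⟩
        invFun := fun y => ⟨⟨(y : X), hHH y.2⟩, (mem_commutator_iff H _).mpr y.2⟩
        left_inv := fun _ => rfl
        right_inv := fun _ => rfl }
  rw [Subgroup.card_eq_card_quotient_mul_card_subgroup (commutator ↥H), h1, mul_comm]
  rfl

/-- **The fixed point formula** for a nilpotent kernel. -/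
theorem formula (U E : Subgroup X) (hnil : Group.IsNilpotent U)
    (hUn : ∀ e ∈ E, ∀ u ∈ U, e * u * e⁻¹ ∈ U)
    (hfpf : ∀ e ∈ E, e ≠ 1 → ∀ u ∈ U, e * u = u * e → u = 1) :
    ∀ (n : ℕ) (H : Subgroup X), Nat.card H = n → U ⊔ E ≤ Subgroup.normalizer (H : Set X) →
      Group.IsSolvable H → Nat.Coprime (Nat.card H) (Nat.card ↥(U ⊔ E)) →
      Nat.card ↥(H ⊓ Subgroup.centralizer ((U ⊔ E : Subgroup X) : Set X)) ^ Nat.card E * Nat.card H =
        Nat.card ↥(H ⊓ Subgroup.centralizer (E : Set X)) ^ Nat.card E *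
          Nat.card ↥(H ⊓ Subgroup.centralizer (U : Set X)) := by
  intro n
  induction n using Nat.strong_induction_on with
  | _ n ih =>
    intro H hn hΓ hsolv hcop
    by_cases hH : H = ⊥
    · subst hH
      simp
    set Γ : Subgroup X := U ⊔ E with hΓdef
    have hUΓ : U ≤ Γ := le_sup_left
    have hEΓ : E ≤ Γ := le_sup_right
    have hHH : ⁅H, H⁆ ≤ H := Subgroup.commutator_le_self H
    have hlt : ⁅H, H⁆ < H := by
      refine lt_of_le_of_ne hHH ?_
      intro heq
      have : Nontrivial ↥H := (Subgroup.nontrivial_iff_ne_bot H).mpr hH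
      have h1 := Group.IsSolvable.commutator_lt_top_of_nontrivial ↥H
      apply h1.ne
      rw [eq_top_iff]
      intro x _
      rw [mem_commutator_iff, heq]
      exact x.2
    have hltc : Nat.card ↥(⁅H, H⁆ : Subgroup X) < n := by
      rw [← hn]
      refine lt_of_le_of_ne (Subgroup.card_le_of_le hHH) ?_
      intro heq
      exact hlt.ne (Subgroup.eq_of_le_of_card_ge hHH heq.ge)
    have hIH := ih _ hltc ⁅H, H⁆ rfl
      (Cfsg.Agent.Lib.Helper30SZ.le_normalizer_commutator hΓ hΓ)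
      (Cfsg.Agent.Lib.Helper30SZ.solvable_of_le hsolv hHH)
      (Nat.Coprime.of_dvd_left (Subgroup.card_dvd_of_le hHH) hcop)
    have hHM := card_eq_comm_mul_ab H
    have c1 := card_fix_ab H Γ Γ hΓ le_rfl hcop.symm hsolv
    have c2 := card_fix_ab H Γ E hΓ hEΓ
      (Nat.Coprime.of_dvd_left (Subgroup.card_dvd_of_le hEΓ) hcop.symm) hsolv
    have c3 := card_fix_ab H Γ U hΓ hUΓ
      (Nat.Coprime.of_dvd_left (Subgroup.card_dvd_of_le hUΓ) hcop.symm) hsolv
    let _ := abAct (rho H Γ hΓ)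
    have hMdvd : Nat.card (Additive (Abelianization ↥H)) ∣ Nat.card H :=
      Dvd.intro_left _ hHM.symm
    have eU : ↥(U.subgroupOf Γ) ≃* ↥U := Subgroup.subgroupOfEquivOfLe hUΓ
    have eE : ↥(E.subgroupOf Γ) ≃* ↥E := Subgroup.subgroupOfEquivOfLe hEΓ
    have hM := thmM (G := ↥Γ) (V := Additive (Abelianization ↥H)) (U := U.subgroupOf Γ)
      (E := E.subgroupOf Γ) (Group.nilpotent_of_mulEquiv eU.symm)
      (fun e he u hu => by
        rw [Subgroup.mem_subgroupOf] at he hu ⊢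
        exact hUn _ he _ hu)
      (fun e he he1 u hu h => by
        rw [Subgroup.mem_subgroupOf] at he hu
        exact Subtype.ext (hfpf e he (fun h0 => he1 (Subtype.ext h0)) u hu
          (congrArg Subtype.val h)))
      (by
        rw [Nat.card_congr eU.toEquiv]
        exact Nat.Coprime.of_dvd hMdvd (Subgroup.card_dvd_of_le hUΓ) hcop)
      (by
        rw [Nat.card_congr eE.toEquiv]
        exact Nat.Coprime.of_dvd hMdvd (Subgroup.card_dvd_of_le hEΓ) hcop)
    have hfix : (fix (U.subgroupOf Γ) ⊓ fix (E.subgroupOf Γ) :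
        AddSubgroup (Additive (Abelianization ↥H))) = fix (Γ.subgroupOf Γ) := by
      apply le_antisymm
      · intro v hv
        have := mem_fix_sup hv.1 hv.2
        rwa [← Subgroup.subgroupOf_sup hUΓ hEΓ] at this
      · intro v hv
        exact ⟨fun g hg => hv g (Subgroup.mem_subgroupOf.mpr (hUΓ (Subgroup.mem_subgroupOf.mp hg))),
          fun g hg => hv g (Subgroup.mem_subgroupOf.mpr (hEΓ (Subgroup.mem_subgroupOf.mp hg)))⟩
    rw [hfix, Nat.card_congr eE.toEquiv] at hM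
    rw [c1, c2, c3, hHM, mul_pow, mul_pow]
    calc _ = (Nat.card ↥(⁅H, H⁆ ⊓ Subgroup.centralizer (Γ : Set X)) ^ Nat.card E *
          Nat.card ↥(⁅H, H⁆ : Subgroup X)) *
        (Nat.card ↥(fix (Γ.subgroupOf Γ) : AddSubgroup (Additive (Abelianization ↥H))) ^ Nat.card E *
          Nat.card (Additive (Abelianization ↥H))) := by ring
      _ = _ := by
        rw [hIH, hM]
        ring

/-- a Frobenius kernel is nilpotent (Thompson) -/
theorem nil_of_frob (U E : Subgroup X) (hE1 : E ≠ ⊥) (hUn : ∀ e ∈ E, ∀ u ∈ U, e * u * e⁻¹ ∈ U)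
    (hfpf : ∀ e ∈ E, e ≠ 1 → ∀ u ∈ U, e * u = u * e → u = 1) : Group.IsNilpotent U := by
  have hc1 : Nat.card E ≠ 1 := by
    intro h
    exact hE1 (Subgroup.card_eq_one.mp h)
  obtain ⟨p, hp, hpd⟩ := Nat.exists_prime_and_dvd hc1
  haveI : Fact p.Prime := ⟨hp⟩
  obtain ⟨c, hc⟩ := exists_prime_orderOf_dvd_card' p hpd
  have hc1 : (c : X) ≠ 1 := by
    intro h
    have : c = 1 := Subtype.ext h
    rw [this, orderOf_one] at hc
    exact hp.one_lt.ne hc
  have hcp : (c : X) ^ p = 1 := by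
    have := pow_orderOf_eq_one c
    rw [hc] at this
    exact congrArg Subtype.val this
  refine Cfsg.Agent.Lib.Helper66Ward8.nil_of_fpf_elt hp (c : X) hcp (hUn c c.2) ?_
  intro x hx h
  exact hfpf c c.2 hc1 x hx (mul_inv_eq_iff_eq_mul.mp h)

end Cfsg.Agent.Lib.Helper66Wf9
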