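import Mathlib
import Cfsg.Agent.Lib.Helper52BG14
import Cfsg.Agent.Lib.Helper52BG14Defs
import Cfsg.Agent.Lib.Helper66Wf9
import Cfsg.Agent.S1429

/-!
PROJECT 14 piece `primeK` (B-G 14.2(g), via the fixed point formula `Helper66Wf9.formula`).
-/

set_option autoImplicit false

namespace Cfsg.Agent.Lib.Helper17BG14primeK

open Cfsg Subgroup
open Cfsg.Agent.Lib.Helper30Trans Cfsg.Agent.Lib.Helper24BG Cfsg.Agent.Lib.Helper52BG14Defs
open Cfsg.Agent.Lib.Helper52BG14

variable {G : Type*} [Group G] [Finite G]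

/-- in an abelian group, the elements of order dividing `r` lie in every Sylow `r`-subgroup -/
theorem mem_syl_of_pow_eq_one {r : ℕ} [Fact r.Prime] {U S : Subgroup G} (hU : IsMulCommutative U)
    (hS : IsSyl r S U) {x : G} (hx : x ∈ U) (hxr : x ^ r = 1) : x ∈ S := by
  have hz : IsPGroup r (zpowers x) := by
    rw [IsPGroup.iff_card]
    have h1 : orderOf x ∣ r ^ 1 := by rw [pow_one]; exact orderOf_dvd_of_pow_eq_one hxr
    obtain ⟨k, -, hk⟩ := (Nat.dvd_prime_pow Fact.out).mp h1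
    exact ⟨k, by rw [Nat.card_zpowers, hk]⟩
  have hzU : zpowers x ≤ U := by rwa [zpowers_le]
  have hn : zpowers x ≤ normalizer (S : Set G) := by
    intro y hy
    rw [mem_normalizer_iff]
    intro s
    constructor
    · intro hs
      have : y * s = s * y := by
        have := hU.is_comm.comm ⟨y, hzU hy⟩ ⟨s, hS.1 hs⟩
        exact congrArg Subtype.val this
      rw [this, mul_inv_cancel_right]
      exact hs
    · intro hs
      have hsU : s ∈ U := by
        have h1 : y * s * y⁻¹ ∈ U := hS.1 hs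
        have h2 : s = y⁻¹ * (y * s * y⁻¹) * y := by group
        rw [h2]
        exact U.mul_mem (U.mul_mem (U.inv_mem (hzU hy)) h1) (hzU hy)
      have : y * s = s * y := by
        have := hU.is_comm.comm ⟨y, hzU hy⟩ ⟨s, hsU⟩
        exact congrArg Subtype.val this
      rwa [this, mul_inv_cancel_right] at hs
  have hsup : IsPGroup r (zpowers x ⊔ S : Subgroup G) := hz.to_sup_of_normal_right' hS.2.1 hn
  have := hS.2.2 _ (sup_le hzU hS.1) hsup le_sup_right
  rw [← this]
  exact (le_sup_left : zpowers x ≤ _) (mem_zpowers x)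

theorem card_prime_of_not_noU (hG : IsMinSimpleOddOrder G) {M K : Subgroup G} (h : PT M K)
    (hU : ¬ NoU M) : (Nat.card K).Prime := by
  have hM := h.max
  obtain ⟨hk, hKs1, ⟨U, hUc, hUh, hKU, hUreg, hcompl⟩, -, -, -⟩ := ptype_a hG hM h.hall h.ne
  have hU' := hU
  unfold NoU at hU'
  push Not at hU'
  obtain ⟨r, hr, hrM, hrσ, hrκ⟩ := hU'
  have : Fact r.Prime := ⟨hr⟩
  have hσM : sigmaCore M ≤ M := Cfsg.Agent.Lib.Helper30BG2.sigmaCore_le M
  -- a Sylow `r`-subgroup of `U` is a Sylow `r`-subgroup of `M`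
  obtain ⟨S₀, hS₀, -⟩ := exists_isSyl_ge (p := r) (bot_le : (⊥ : Subgroup G) ≤ U) IsPGroup.of_bot
  have hS₀M : IsSyl r S₀ M :=
    Cfsg.Agent.Lib.Helper31BGS.isSyl_of_not_dvd_relIndex hS₀ hUh.1 (hUh.2.2 r hr ⟨hr, hrκ, hrσ⟩)
  have h29 := Cfsg.Agent.S1429.result hG M hM hU r hrM (by
    rintro (h1 | h1)
    · exact hrσ h1
    · exact hrκ h1) hS₀M.toSylow
  rw [hS₀M.map_toSylow] at h29
  obtain ⟨-, hA0, -⟩ := h29
  have hset : {x : G | x ∈ S₀ ∧ x ^ r = 1} = {x : G | x ∈ U ∧ x ^ r = 1} := by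
    ext x
    exact ⟨fun hx => ⟨hS₀.1 hx.1, hx.2⟩, fun hx => ⟨mem_syl_of_pow_eq_one hUc hS₀ hx.1 hx.2, hx.2⟩⟩
  rw [hset] at hA0
  set A : Subgroup G := closure {x : G | x ∈ U ∧ x ^ r = 1} with hA
  have hAU : A ≤ U := by
    rw [hA, closure_le]
    exact fun x hx => hx.1
  have hKM : K ≤ M := h.hall.1
  have hAM : A ≤ M := hAU.trans hUh.1
  have hAnil : Group.IsNilpotent A := by
    have : IsMulCommutative A := ⟨⟨fun a b => Subtype.ext (by
      have := hUc.is_comm.comm ⟨a, hAU a.2⟩ ⟨b, hAU b.2⟩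
      exact congrArg (Subtype.val : U → G) this)⟩⟩
    let _ : CommGroup A := { (inferInstance : Group A) with mul_comm := this.is_comm.comm }
    infer_instance
  -- `K` normalizes `A`
  have hKA : ∀ e ∈ K, ∀ u ∈ A, e * u * e⁻¹ ∈ A := by
    intro e he u hu
    have hmap : A.map (MulAut.conj e).toMonoidHom ≤ A := by
      rw [hA, MonoidHom.map_closure, closure_le]
      rintro _ ⟨x, ⟨hxU, hxr⟩, rfl⟩
      apply Subgroup.subset_closure
      refine ⟨((mem_normalizer_iff.mp (hKU he)) x).mp hxU, ?_⟩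
      change (e * x * e⁻¹) ^ r = 1
      rw [conj_pow, hxr, mul_one, mul_inv_cancel]
    exact hmap ⟨u, hu, rfl⟩
  have hfpf : ∀ e ∈ K, e ≠ 1 → ∀ u ∈ A, e * u = u * e → u = 1 := by
    intro e he he1 u hu hc
    have h1 : u ∈ U ⊓ centralizer ({e} : Set G) := by
      refine mem_inf.mpr ⟨hAU hu, ?_⟩
      rw [mem_centralizer_iff]
      rintro _ rfl
      exact hc
    rw [hUreg e he he1] at h1
    exact mem_bot.mp h1
  have hsolv : Group.IsSolvable (sigmaCore M) :=
    sol hG (fun h1 => hM.1 (top_le_iff.mp (h1 ▸ hσM)))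
  have hcopUK := Cfsg.Agent.Lib.Helper37BGPart.coprime_compl hG hM hcompl
  -- the formula for a subgroup `E` of `K`
  have key : ∀ E : Subgroup G, E ≤ K →
      Nat.card (sigmaCore M) = Nat.card ↥(sigmaCore M ⊓ centralizer (E : Set G)) ^ Nat.card E := by
    intro E hEK
    have hAE : A ⊔ E ≤ U ⊔ K := sup_le_sup hAU hEK
    have hf := Cfsg.Agent.Lib.Helper66Wf9.formula A E hAnil
      (fun e he u hu => hKA e (hEK he) u hu) (fun e he he1 u hu hc => hfpf e (hEK he) he1 u hu hc)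
      _ (sigmaCore M) rfl
      ((sup_le hAM (hEK.trans hKM)).trans (Cfsg.Agent.Lib.Helper30BG2.le_normalizer_sigmaCore M))
      hsolv ((hcopUK.symm).coprime_dvd_right (card_dvd_of_le hAE))
    have h1 : sigmaCore M ⊓ centralizer ((A ⊔ E : Subgroup G) : Set G) = ⊥ := by
      rw [eq_bot_iff, ← hA0]
      exact inf_le_inf le_rfl (centralizer_le (by exact_mod_cast (le_sup_left : A ≤ A ⊔ E)))
    rw [h1, hA0] at hf
    simpa using hf
  -- a subgroup of prime order of `K`
  have hK1 : Nat.card K ≠ 1 := fun h1 => h.ne (card_eq_one.mp h1)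
  obtain ⟨p, hp, hpd⟩ := Nat.exists_prime_and_dvd hK1
  have : Fact p.Prime := ⟨hp⟩
  obtain ⟨k, hk0⟩ := exists_prime_orderOf_dvd_card' (G := K) p hpd
  have hk1 : (k : G) ≠ 1 := by
    intro h1
    have : k = 1 := Subtype.ext h1
    rw [this, orderOf_one] at hk0
    exact hp.one_lt.ne hk0
  have hPK : zpowers (k : G) ≤ K := by rw [zpowers_le]; exact k.2
  have hPc : Nat.card (zpowers (k : G)) = p := by
    rw [Nat.card_zpowers, Subgroup.orderOf_coe, hk0]
  have hPcent : sigmaCore M ⊓ centralizer ((zpowers (k : G) : Subgroup G) : Set G) =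
      sigmaCore M ⊓ centralizer (K : Set G) := by
    apply le_antisymm
    · rw [← hk k k.2 hk1]
      exact inf_le_inf le_rfl (centralizer_le (by
        rintro _ rfl
        exact mem_zpowers _))
    · exact inf_le_inf le_rfl (centralizer_le (by exact_mod_cast hPK))
  have e1 := key K le_rfl
  have e2 := key _ hPK
  rw [hPcent, hPc] at e2
  rw [e1] at e2
  have h2 : 2 ≤ Nat.card ↥(sigmaCore M ⊓ centralizer (K : Set G)) := by
    have h3 : Nat.card ↥(sigmaCore M ⊓ centralizer (K : Set G)) ≠ 1 :=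
      fun h1 => hKs1 (card_eq_one.mp h1)
    have h4 : 0 < Nat.card ↥(sigmaCore M ⊓ centralizer (K : Set G)) := Nat.card_pos
    omega
  rw [Nat.pow_right_injective h2 e2]
  exact hp

theorem card_eq_of_noU (hG : IsMinSimpleOddOrder G) {M K : Subgroup G} (h : PT M K) (hU : NoU M) :
    Nat.card M = Nat.card (sigmaCore M) * Nat.card K := by
  have hM := h.max
  obtain ⟨-, -, ⟨U, -, hUh, -, -, hcompl⟩, -, -, -⟩ := ptype_a hG hM h.hall h.ne
  have hU1 : U = ⊥ := by
    rw [← card_eq_one]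
    by_contra hne
    obtain ⟨q, hq, hqd⟩ := Nat.exists_prime_and_dvd hne
    obtain ⟨-, h1, h2⟩ := hUh.2.1 q hq hqd
    exact h1 (hU q hq (hqd.trans (card_dvd_of_le hUh.1)) h2)
  rw [hU1, bot_sup_eq] at hcompl
  rw [← Cfsg.Agent.Lib.Helper31BGS.card_compl hcompl, mul_comm]

end Cfsg.Agent.Lib.Helper17BG14primeK
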