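import Cfsg.Agent.Lib.Helper52BG14

/-!
B-G 14.4 (transitivity part): if `x ∈ M_σ`, `x ≠ 1` lies in a conjugate `M^g ≠ M`, then there is a
maximal subgroup `N ≥ C(x)` with `N_σ ∩ M = 1` and some `s ∈ C_{N_σ}(x)` with `M^s = M^g`.
-/

set_option autoImplicit false

namespace Cfsg.Agent.Lib.Helper10BG14Trans

open Cfsg Subgroup
open Cfsg.Agent.Lib.Helper30Trans Cfsg.Agent.Lib.Helper24BG
open Cfsg.Agent.Lib.Helper52BG14

variable {G : Type*} [Group G] [Finite G]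

theorem core (hG : IsMinSimpleOddOrder G) {M : Subgroup G} (hM : IsCoatom M) {x : G}
    (hx : x ∈ sigmaCore M) (hx1 : x ≠ 1) {g : G} (hxg : x ∈ cj g M) (hne : cj g M ≠ M) :
    ∃ N : Subgroup G, IsCoatom N ∧ centralizer ({x} : Set G) ≤ N ∧ sigmaCore N ⊓ M = ⊥ ∧
      ∃ s ∈ sigmaCore N ⊓ centralizer ({x} : Set G), cj s M = cj g M := by
  have ho : orderOf x ≠ 1 := by rwa [Ne, orderOf_eq_one_iff]
  obtain ⟨q, hq, hqd⟩ := Nat.exists_prime_and_dvd ho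
  have := Fact.mk hq
  set z := x ^ (orderOf x / q) with hz
  have hzo : orderOf z = q := orderOf_pow_orderOf_div (orderOf_pos x).ne' hqd
  set X := zpowers z with hX
  have hXc : Nat.card X = q := by rw [Nat.card_zpowers, hzo]
  have hXq : IsPGroup q X := IsPGroup.of_card (n := 1) (by rw [hXc, pow_one])
  have hX1 : X ≠ ⊥ := by
    intro h
    rw [h, card_bot] at hXc
    exact hq.one_lt.ne hXc
  have hXx : X ≤ zpowers x := zpowers_le.mpr (pow_mem (mem_zpowers x) _)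
  have hXσ : X ≤ sigmaCore M := hXx.trans (zpowers_le.mpr hx)
  have hXM : X ≤ M := hXσ.trans (Cfsg.Agent.Lib.Helper31BGS.sigmaCore_le M)
  have hXg : X ≤ cj g M := hXx.trans (zpowers_le.mpr hxg)
  have hqσ : q ∈ sigma M :=
    Cfsg.Agent.Lib.Helper31BGS.mem_sigma_of_dvd_sigmaCore hG hM hq (hXc ▸ card_dvd_of_le hXσ)
  have hCx : centralizer ({x} : Set G) ≤ centralizer (X : Set G) := by
    intro c hc
    rw [mem_centralizer_singleton_iff] at hc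
    have h1 : x ∈ centralizer ({c} : Set G) := by
      rw [mem_centralizer_singleton_iff]; exact hc.symm
    rw [mem_centralizer_iff]
    intro y hy
    have h2 : y ∈ centralizer ({c} : Set G) := (zpowers_le.mpr h1) (hXx hy)
    rw [mem_centralizer_singleton_iff] at h2
    exact h2
  have hCN : centralizer (X : Set G) ≤ normalizer (X : Set G) := centralizer_le_normalizer _
  have hgM : g ∉ M := fun h => hne (cj_eq_self_of_mem_normalizer (le_normalizer h))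
  have hn1 : ¬ normalizer (X : Set G) ≤ M := fun h =>
    hgM (Cfsg.Agent.Lib.Helper30BG.mem_of_le_cj hG hM hqσ hXq hXM (hCN.trans h) hXg)
  have hM2 : IsCoatom (cj g M) := isCoatom_cj hM g
  have hqσ2 : q ∈ sigma (cj g M) := by
    rw [Cfsg.Agent.Lib.Helper21BGExcbasic.sigma_cj]; exact hqσ
  have hn2 : ¬ normalizer (X : Set G) ≤ cj g M := by
    intro h
    have h1 : g⁻¹ ∈ cj g M :=
      Cfsg.Agent.Lib.Helper30BG.mem_of_le_cj hG hM2 hqσ2 hXq hXg (hCN.trans h)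
        (by rw [cj_inv_cj]; exact hXM)
    rw [mem_cj] at h1
    apply hgM
    have h2 : g⁻¹ ∈ M := by simpa using h1
    exact inv_mem_iff.mp h2
  obtain ⟨N, hN, hNX⟩ := exists_coatom (norm_ne_top hG hX1 (pgroup_ne_top hG hXq))
  obtain ⟨-, hD, hNM, -, -, B, hB, hBe, hBc⟩ := emb hG hM hqσ hXq hX1 hXM hn1 hN hNX
  obtain ⟨-, hD2, -, -, -, -⟩ := emb hG hM2 hqσ2 hXq hX1 hXg hn2 hN hNX
  have hCxN : centralizer ({x} : Set G) ≤ N := hCx.trans (hCN.trans hNX)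
  have hxN : x ∈ N := hCxN (by rw [mem_centralizer_singleton_iff])
  have hxM : x ∈ M := Cfsg.Agent.Lib.Helper31BGS.sigmaCore_le M hx
  refine ⟨N, hN, hCxN, hNM, ?_⟩
  obtain ⟨m, hm, hmD⟩ := Cfsg.Agent.Lib.Helper37BG.conj_into (X := N) (B := sigmaCore N)
    (D := cj g M ⊓ N) (Y := M ⊓ N) (sol hG hN.1) (Cfsg.Agent.Lib.Helper31BGS.sigmaCore_le N)
    (Cfsg.Agent.Lib.Helper31BGS.le_normalizer_sigmaCore N) inf_le_right
    (by
      intro n hn
      obtain ⟨a, ha, b, hb, rfl⟩ := hD2.2.2.2 n hn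
      rw [sup_comm]
      exact mul_mem_sup ha hb)
    (by
      rw [Cfsg.Agent.Lib.Helper31BGS.relIndex_compl' hD2]
      exact Cfsg.Agent.Lib.Helper37BGPart.coprime_compl hG hN hD2)
    inf_le_right (Cfsg.Agent.Lib.Helper37BGPart.coprime_compl hG hN hD)
  obtain ⟨a, ha, b, hb, hab⟩ := hD.2.2.2 m⁻¹ (N.inv_mem hm)
  have hm' : m = b⁻¹ * a⁻¹ := by
    rw [← mul_inv_rev, ← hab, inv_inv]
  have hsD : cj b⁻¹ (M ⊓ N) ≤ cj g M ⊓ N := by
    have h1 : cj a⁻¹ (M ⊓ N) = M ⊓ N :=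
      cj_eq_self_of_mem_normalizer (le_normalizer (inv_mem ha))
    rw [hm', cj_mul, h1] at hmD
    exact hmD
  have hsσ : b⁻¹ ∈ sigmaCore N := inv_mem hb
  have hxs : b⁻¹ * x * b⁻¹⁻¹ ∈ cj g M ⊓ N := hsD (conj_mem_cj (mem_inf.mpr ⟨hxM, hxN⟩))
  have hcomm : b⁻¹ * x * b⁻¹⁻¹ * x⁻¹ = 1 := by
    have h1 : b⁻¹ * x * b⁻¹⁻¹ * x⁻¹ ∈ (cj g M ⊓ N) ⊓ sigmaCore N := by
      refine mem_inf.mpr ⟨mul_mem hxs (inv_mem (mem_inf.mpr ⟨hxg, hxN⟩)), ?_⟩
      have h2 : x * b⁻¹⁻¹ * x⁻¹ ∈ sigmaCore N :=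
        (mem_normalizer_iff.mp (Cfsg.Agent.Lib.Helper31BGS.le_normalizer_sigmaCore N hxN) _).mp
          (inv_mem hsσ)
      have h3 : b⁻¹ * x * b⁻¹⁻¹ * x⁻¹ = b⁻¹ * (x * b⁻¹⁻¹ * x⁻¹) := by group
      rw [h3]
      exact mul_mem hsσ h2
    rw [hD2.2.2.1] at h1
    exact mem_bot.mp h1
  refine ⟨b⁻¹, mem_inf.mpr ⟨hsσ, ?_⟩, ?_⟩
  · rw [mem_centralizer_singleton_iff]
    have h1 : b⁻¹ * x = (b⁻¹ * x * b⁻¹⁻¹ * x⁻¹) * (x * b⁻¹) := by group
    rw [h1, hcomm, one_mul]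
  · have hBq : IsPGroup q B := isPGroup_of_elemAb hBe
    have hBM : B ≤ M := hB.trans inf_le_left
    have hNB : normalizer (B : Set G) ≤ M :=
      Cfsg.Agent.Lib.Helper30BG.norm_le_of_noncyclic hG hM hqσ hBq hBM
        (Cfsg.Agent.Lib.Helper37BG.not_cyclic_of_sq hBe hBc)
    have h1 : B ≤ cj (b * g) M := by
      have h2 : cj b⁻¹ B ≤ cj g M := (cj_mono hB).trans (hsD.trans inf_le_left)
      rw [cj_le_iff, inv_inv, ← cj_mul] at h2
      exact h2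
    have h3 : b * g ∈ M :=
      Cfsg.Agent.Lib.Helper30BG.mem_of_le_cj hG hM hqσ hBq hBM
        ((centralizer_le_normalizer _).trans hNB) h1
    have h4 : cj (b * g) M = M := cj_eq_self_of_mem_normalizer (le_normalizer h3)
    have h5 : g = b⁻¹ * (b * g) := by group
    rw [h5, cj_mul, h4]

end Cfsg.Agent.Lib.Helper10BG14Trans
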