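import Cfsg.Agent.Lib.Helper2BGb
import Cfsg.Agent.Lib.Helper2BGc
import Cfsg.Agent.Lib.Helper31BGS
import Cfsg.Agent.Lib.Helper70Hall

/-! PROJECT 16 (architect helper51), piece `basic`: orders / Hall API of `M = K U M_σ`. -/

set_option autoImplicit false
set_option linter.unusedSectionVars false
open Cfsg

namespace Cfsg.Agent.Lib.Helper27BG16basic

open Subgroup Pointwise
open Cfsg.Agent.Lib.Helper30Trans Cfsg.Agent.Lib.Helper24BG Cfsg.Agent.Lib.Helper2BGa
  Cfsg.Agent.Lib.Helper2BGb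

universe u
variable {G : Type u} [Group G] [Finite G]

/-! ### general lemmas -/

theorem card_mul_relIndex {H K : Subgroup G} (h : H ≤ K) :
    Nat.card H * H.relIndex K = Nat.card K := by
  have := (H.subgroupOf K).card_mul_index
  rwa [Cfsg.Agent.Lib.Helper30SZ.card_subgroupOf_of_le h] at this

theorem normalizer_inf_le_sup (B C : Subgroup G) :
    normalizer (B : Set G) ⊓ normalizer (C : Set G) ≤ normalizer ((B ⊔ C : Subgroup G) : Set G) := by
  rintro g ⟨hB, hC⟩
  have h1 : cj g (B ⊔ C) = B ⊔ C := by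
    rw [cj, Subgroup.map_sup]
    have e1 : cj g B = B := cj_eq_self_of_mem_normalizer hB
    have e2 : cj g C = C := cj_eq_self_of_mem_normalizer hC
    rw [cj] at e1 e2
    rw [e1, e2]
  rw [mem_normalizer_iff]
  intro n
  constructor
  · intro hn
    rw [← h1]
    exact conj_mem_cj hn
  · intro hn
    rw [← h1, mem_cj] at hn
    have e : g⁻¹ * (g * n * g⁻¹) * g = n := by group
    rwa [e] at hn

/-- Hall: a `π`-subgroup of a solvable `X` is `X`-conjugate into a given Hall `π`-subgroup. -/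
theorem exists_cj_le_hall {X H Y : Subgroup G} (hs : Group.IsSolvable X) {π : Set ℕ}
    (hH : IsPiHallOf π H X) (hYX : Y ≤ X) (hY : ∀ p : ℕ, p.Prime → p ∣ Nat.card Y → p ∈ π) :
    ∃ m ∈ X, cj m Y ≤ H := by
  obtain ⟨m, n, hmn, hco, hm, hn⟩ :=
    Cfsg.Agent.Lib.Helper70Hall.nat_pi_split (Nat.card X) Nat.card_pos.ne' π
  have hab : Nat.card H * H.relIndex X = m * n := by rw [card_mul_relIndex hH.1, hmn]
  have h1 : (Nat.card H).Coprime n := by
    apply Nat.coprime_of_dvd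
    intro k hk h1 h2
    exact hn k hk h2 (hH.2.1 k hk h1)
  have h2 : m.Coprime (H.relIndex X) := by
    apply Nat.coprime_of_dvd
    intro k hk h1 h2
    exact hH.2.2 k hk (hm k hk h1) h2
  have hHm : Nat.card H = m := by
    apply Nat.dvd_antisymm
    · exact h1.dvd_of_dvd_mul_right (hab ▸ Dvd.intro _ rfl)
    · exact h2.dvd_of_dvd_mul_right (hab ▸ Dvd.intro _ rfl)
  have hYc : (Nat.card (Y.subgroupOf X)).Coprime n := by
    rw [Cfsg.Agent.Lib.Helper30SZ.card_subgroupOf_of_le hYX]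
    apply Nat.coprime_of_dvd
    intro k hk h1 h2
    exact hn k hk h2 (hY k hk h1)
  obtain ⟨H2, hH2, hYH⟩ := Cfsg.Agent.Lib.Helper12Hall.hall_dominance m n hmn hco _ hYc
  obtain ⟨g, hg⟩ := Cfsg.Agent.Lib.Helper12Hall.hall_conj m n hmn hco H2 (H.subgroupOf X) hH2
    (by rw [Cfsg.Agent.Lib.Helper30SZ.card_subgroupOf_of_le hH.1, hHm])
  refine ⟨g, g.2, ?_⟩
  intro x hx
  rw [mem_cj] at hx
  have h3 : (⟨(g : G)⁻¹ * x * g, hYX hx⟩ : X) ∈ H2 := hYH (mem_subgroupOf.mpr hx)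
  have h4 : MulAut.conj g • (⟨(g : G)⁻¹ * x * g, hYX hx⟩ : X) ∈ MulAut.conj g • H2 :=
    Subgroup.smul_mem_pointwise_smul _ _ _ h3
  rw [hg, mem_subgroupOf] at h4
  have e : ((MulAut.conj g • (⟨(g : G)⁻¹ * x * g, hYX hx⟩ : X) : X) : G) = x := by
    simp only [MulAut.smul_def, MulAut.conj_apply, Subgroup.coe_mul, InvMemClass.coe_inv]
    group
  rwa [e] at h4

/-- Hall subgroups above a given `π`-subgroup, ambient form -/
theorem exists_hallOf_ge {X Y : Subgroup G} (hs : Group.IsSolvable X) (π : Set ℕ) (hYX : Y ≤ X)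
    (hY : ∀ p : ℕ, p.Prime → p ∣ Nat.card Y → p ∈ π) :
    ∃ H : Subgroup G, IsPiHallOf π H X ∧ Y ≤ H := by
  obtain ⟨m, n, hmn, hco, hm, hn⟩ :=
    Cfsg.Agent.Lib.Helper70Hall.nat_pi_split (Nat.card X) Nat.card_pos.ne' π
  have hYc : (Nat.card (Y.subgroupOf X)).Coprime n := by
    rw [Cfsg.Agent.Lib.Helper30SZ.card_subgroupOf_of_le hYX]
    apply Nat.coprime_of_dvd
    intro k hk h1 h2
    exact hn k hk h2 (hY k hk h1)
  obtain ⟨H, hH, hYH⟩ := Cfsg.Agent.Lib.Helper12Hall.hall_dominance m n hmn hco _ hYc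
  have hidx : H.index = n := by
    have h1 := H.card_mul_index
    rw [hH, hmn] at h1
    have hm0 : 0 < m := by rw [← hH]; exact Nat.card_pos
    exact Nat.eq_of_mul_eq_mul_left hm0 h1
  refine ⟨H.map X.subtype, ⟨map_subtype_le _, ?_, ?_⟩, ?_⟩
  · intro p hp hd
    rw [card_map_of_injective X.subtype_injective, hH] at hd
    exact hm p hp hd
  · intro p hp hπ hd
    rw [relIndex, subgroupOf, comap_map_eq_self_of_injective X.subtype_injective, hidx] at hd
    exact hn p hp hd hπ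
  · intro y hy
    exact ⟨⟨y, hYX hy⟩, hYH (mem_subgroupOf.mpr hy), rfl⟩

/-! ### piece `basic` -/

theorem kappa_not_sigma {M : Subgroup G} {p : ℕ} (hp : p ∈ kappa M) : p ∉ sigma M := hp.2.2.1

theorem K_primes {M K U : Subgroup G} (hKU : IsSigmaDecomposition M K U) :
    ∀ p : ℕ, p.Prime → p ∣ Nat.card K → p ∈ kappa M := hKU.hall.2.1

theorem coprime_K_Ms (hG : IsMinSimpleOddOrder G) {M K U : Subgroup G} (hM : IsCoatom M)
    (hKU : IsSigmaDecomposition M K U) : (Nat.card K).Coprime (Nat.card (sigmaCore M)) := by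
  apply Nat.coprime_of_dvd
  intro k hk h1 h2
  exact kappa_not_sigma (K_primes hKU k hk h1) (card_sigmaCore M k hk h2)

theorem K_le_norm_Ms {M K U : Subgroup G} (hKU : IsSigmaDecomposition M K U) :
    K ≤ normalizer (sigmaCore M : Set G) := hKU.hall.1.trans (le_normalizer_sigmaCore M)

theorem card_KMs (hG : IsMinSimpleOddOrder G) {M K U : Subgroup G} (hM : IsCoatom M)
    (hKU : IsSigmaDecomposition M K U) :
    Nat.card ↥(K ⊔ sigmaCore M) = Nat.card K * Nat.card (sigmaCore M) := by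
  rw [sup_comm, Cfsg.Agent.Lib.Helper30SZ.card_sup (K_le_norm_Ms hKU) (coprime_K_Ms hG hM hKU),
    mul_comm]

/-- `K`, `U`, `M_σ` have pairwise coprime orders with product `|M|`. -/
theorem card_eq (hG : IsMinSimpleOddOrder G) {M K U : Subgroup G} (hM : IsCoatom M)
    (hKU : IsSigmaDecomposition M K U) :
    Nat.card M = Nat.card U * Nat.card K * Nat.card (sigmaCore M) := by
  rw [← Cfsg.Agent.Lib.Helper31BGS.card_compl hKU.compl, card_KMs hG hM hKU, mul_assoc]

theorem U_primes (hG : IsMinSimpleOddOrder G) {M K U : Subgroup G} (hM : IsCoatom M)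
    (hKU : IsSigmaDecomposition M K U) :
    ∀ p : ℕ, p.Prime → p ∣ Nat.card U → p ∉ kappa M ∧ p ∉ sigma M := by
  intro p hp hd
  have hc := card_eq hG hM hKU
  constructor
  · intro hk
    apply hKU.hall.2.2 p hp hk
    have h1 := card_mul_relIndex hKU.hall.1
    have h2 : K.relIndex M = Nat.card U * Nat.card (sigmaCore M) := by
      apply Nat.eq_of_mul_eq_mul_left (Nat.card_pos (α := K))
      rw [h1, hc]; ring
    rw [h2]
    exact hd.mul_right _
  · intro hs
    apply (Cfsg.Agent.S1350.result hG M hM).1.2.2 p hp hs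
    have h1 := card_mul_relIndex (sigmaCore_le M)
    have h2 : (sigmaCore M).relIndex M = Nat.card U * Nat.card K := by
      apply Nat.eq_of_mul_eq_mul_left (Nat.card_pos (α := sigmaCore M))
      rw [h1, hc]; ring
    rw [h2]
    exact hd.mul_right _

theorem coprime_K_U (hG : IsMinSimpleOddOrder G) {M K U : Subgroup G} (hM : IsCoatom M)
    (hKU : IsSigmaDecomposition M K U) : (Nat.card K).Coprime (Nat.card U) := by
  apply Nat.coprime_of_dvd
  intro k hk h1 h2
  exact (U_primes hG hM hKU k hk h2).1 (K_primes hKU k hk h1)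

theorem coprime_U_Ms (hG : IsMinSimpleOddOrder G) {M K U : Subgroup G} (hM : IsCoatom M)
    (hKU : IsSigmaDecomposition M K U) : (Nat.card U).Coprime (Nat.card (sigmaCore M)) := by
  apply Nat.coprime_of_dvd
  intro k hk h1 h2
  exact (U_primes hG hM hKU k hk h1).2 (card_sigmaCore M k hk h2)

theorem card_KU (hG : IsMinSimpleOddOrder G) {M K U : Subgroup G} (hM : IsCoatom M)
    (hKU : IsSigmaDecomposition M K U) : Nat.card ↥(K ⊔ U) = Nat.card K * Nat.card U := by
  rw [sup_comm, Cfsg.Agent.Lib.Helper30SZ.card_sup hKU.normal (coprime_K_U hG hM hKU), mul_comm]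

/-- `E = K U` is a complement of `M_σ` in `M`. -/
theorem compl_KU (hG : IsMinSimpleOddOrder G) {M K U : Subgroup G} (hM : IsCoatom M)
    (hKU : IsSigmaDecomposition M K U) : IsComplIn (K ⊔ U) (sigmaCore M) M := by
  refine ⟨sup_le hKU.hall.1 hKU.compl.1, sigmaCore_le M, ?_, ?_⟩
  · apply (disjoint_of_coprime_natCard _).eq_bot
    rw [card_KU hG hM hKU]
    exact Nat.Coprime.mul_left (coprime_K_Ms hG hM hKU) (coprime_U_Ms hG hM hKU)
  · intro m hm
    obtain ⟨u, hu, x, hx, rfl⟩ := hKU.compl.2.2.2 m hm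
    rw [sup_comm, Cfsg.Agent.Lib.Helper30SZ.mem_sup_iff (K_le_norm_Ms hKU)] at hx
    obtain ⟨s, hs, k, hk, rfl⟩ := hx
    refine ⟨u * k, mul_mem (mem_sup_right hu) (mem_sup_left hk), k⁻¹ * s * k, ?_, by group⟩
    have := (le_normalizer_iff.mp (K_le_norm_Ms hKU)) k⁻¹ (K.inv_mem hk) s hs
    rwa [inv_inv] at this

/-- `U M_σ` is normal in `M`. -/
theorem normal_UMs {M K U : Subgroup G} (hKU : IsSigmaDecomposition M K U) :
    M ≤ normalizer ((U ⊔ sigmaCore M : Subgroup G) : Set G) := by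
  have hU : U ≤ normalizer ((U ⊔ sigmaCore M : Subgroup G) : Set G) :=
    le_sup_left.trans le_normalizer
  have hS : sigmaCore M ≤ normalizer ((U ⊔ sigmaCore M : Subgroup G) : Set G) :=
    le_sup_right.trans le_normalizer
  have hK : K ≤ normalizer ((U ⊔ sigmaCore M : Subgroup G) : Set G) :=
    (le_inf hKU.normal (K_le_norm_Ms hKU)).trans (normalizer_inf_le_sup _ _)
  intro m hm
  obtain ⟨u, hu, x, hx, rfl⟩ := hKU.compl.2.2.2 m hm
  exact mul_mem (hU hu) ((sup_le hK hS) hx)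

theorem card_UMs (hG : IsMinSimpleOddOrder G) {M K U : Subgroup G} (hM : IsCoatom M)
    (hKU : IsSigmaDecomposition M K U) :
    Nat.card ↥(U ⊔ sigmaCore M) = Nat.card U * Nat.card (sigmaCore M) := by
  rw [sup_comm, Cfsg.Agent.Lib.Helper30SZ.card_sup
    (hKU.compl.1.trans (le_normalizer_sigmaCore M)) (coprime_U_Ms hG hM hKU), mul_comm]

theorem K_inf_UMs (hG : IsMinSimpleOddOrder G) {M K U : Subgroup G} (hM : IsCoatom M)
    (hKU : IsSigmaDecomposition M K U) : K ⊓ (U ⊔ sigmaCore M) = ⊥ := by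
  apply (disjoint_of_coprime_natCard _).eq_bot
  rw [card_UMs hG hM hKU]
  exact Nat.Coprime.mul_right (coprime_K_U hG hM hKU) (coprime_K_Ms hG hM hKU)

theorem UMs_le {M K U : Subgroup G} (hKU : IsSigmaDecomposition M K U) : U ⊔ sigmaCore M ≤ M :=
  sup_le hKU.compl.1 (sigmaCore_le M)

theorem relIndex_UMs (hG : IsMinSimpleOddOrder G) {M K U : Subgroup G} (hM : IsCoatom M)
    (hKU : IsSigmaDecomposition M K U) : (U ⊔ sigmaCore M).relIndex M = Nat.card K := by
  have h1 := card_mul_relIndex (UMs_le hKU)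
  apply Nat.eq_of_mul_eq_mul_left (Nat.card_pos (α := ↥(U ⊔ sigmaCore M)))
  rw [h1, card_eq hG hM hKU, card_UMs hG hM hKU]; ring

/-- every `κ(M)'`-subgroup of `M` lies in the normal Hall subgroup `U M_σ`. -/
theorem le_UMs (hG : IsMinSimpleOddOrder G) {M K U : Subgroup G} (hM : IsCoatom M)
    (hKU : IsSigmaDecomposition M K U) {Y : Subgroup G} (hYM : Y ≤ M)
    (hY : ∀ p : ℕ, p.Prime → p ∣ Nat.card Y → p ∉ kappa M) : Y ≤ U ⊔ sigmaCore M := by
  refine le_of_relIndex_coprime hYM (normal_UMs hKU) ?_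
  intro p hp hd h
  rw [relIndex_UMs hG hM hKU] at h
  exact hY p hp hd (K_primes hKU p hp h)

/-- Hall: every `κ(M)`-subgroup of `M` is `M`-conjugate into `K`. -/
theorem exists_cj_le_K (hG : IsMinSimpleOddOrder G) {M K : Subgroup G} (hM : IsCoatom M)
    (hK : IsPiHallOf (kappa M) K M) {Y : Subgroup G} (hYM : Y ≤ M)
    (hY : ∀ p : ℕ, p.Prime → p ∣ Nat.card Y → p ∈ kappa M) : ∃ m ∈ M, cj m Y ≤ K :=
  exists_cj_le_hall (sol hG hM.1) hK hYM hY

/-- Hall: every `σ(M)'`-subgroup of `U M_σ` is conjugate into `U` by an element of `U M_σ`. -/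
theorem exists_cj_le_U (hG : IsMinSimpleOddOrder G) {M K U : Subgroup G} (hM : IsCoatom M)
    (hKU : IsSigmaDecomposition M K U) {Y : Subgroup G} (hYM : Y ≤ U ⊔ sigmaCore M)
    (hY : ∀ p : ℕ, p.Prime → p ∣ Nat.card Y → p ∉ sigma M) : ∃ m ∈ U ⊔ sigmaCore M, cj m Y ≤ U := by
  have hs : Group.IsSolvable ↥(U ⊔ sigmaCore M) :=
    Cfsg.Agent.Lib.Helper30SZ.solvable_of_le (sol hG hM.1) (UMs_le hKU)
  have hH : IsPiHallOf {p | p ∉ sigma M} U (U ⊔ sigmaCore M) := by
    refine ⟨le_sup_left, fun p hp hd => (U_primes hG hM hKU p hp hd).2, ?_⟩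
    intro p hp hσ hd
    have h1 := card_mul_relIndex (le_sup_left : U ≤ U ⊔ sigmaCore M)
    have h2 : U.relIndex (U ⊔ sigmaCore M) = Nat.card (sigmaCore M) := by
      apply Nat.eq_of_mul_eq_mul_left (Nat.card_pos (α := U))
      rw [h1, card_UMs hG hM hKU]
    rw [h2] at hd
    exact hσ (card_sigmaCore M p hp hd)
  exact exists_cj_le_hall hs hH hYM hY

/-- Hall: a Hall `κ(M)`-subgroup of `M` exists, above any given `κ(M)`-subgroup. -/
theorem exists_kappa_hall_ge (hG : IsMinSimpleOddOrder G) {M : Subgroup G} (hM : IsCoatom M)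
    {Y : Subgroup G} (hYM : Y ≤ M) (hY : ∀ p : ℕ, p.Prime → p ∣ Nat.card Y → p ∈ kappa M) :
    ∃ K : Subgroup G, IsPiHallOf (kappa M) K M ∧ Y ≤ K :=
  exists_hallOf_ge (sol hG hM.1) _ hYM hY

/-- criterion for `p ∈ κ(M)`. -/
theorem mem_kappa (hG : IsMinSimpleOddOrder G) {M : Subgroup G} (hM : IsCoatom M) {p : ℕ}
    (hp : p.Prime) (hσ : p ∉ sigma M) (hr : PRankLE p 1 M) {x y : G} (hx : x ∈ M) (hxp : orderOf x = p)
    (hy : y ∈ sigmaCore M) (hy1 : y ≠ 1) (hxy : x * y = y * x) : p ∈ kappa M := by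
  have := Fact.mk hp
  have hZp : IsPGroup p (zpowers x) := by
    rw [IsPGroup.iff_card]
    exact ⟨1, by rw [Nat.card_zpowers, hxp, pow_one]⟩
  have hx1 : x ≠ 1 := by
    rintro rfl
    rw [orderOf_one] at hxp
    exact hp.one_lt.ne hxp
  have hZ1 : zpowers x ≠ ⊥ := by rwa [Ne, zpowers_eq_bot]
  have hp2 : p ≠ 2 := ne_two hG hZp hZ1
  have hZM : zpowers x ≤ M := by rwa [zpowers_le]
  refine ⟨hp, dvd_card_of_pgroup hZp hZ1 hZM, hσ, ?_⟩
  intro P
  constructor
  · exact isCyclic_of_prank_one (G := M) hp2 P.2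
      (prank_of_injective (P : Subgroup M).subtype (P : Subgroup M).subtype_injective hr)
  · obtain ⟨g, hg, hle⟩ := Cfsg.Agent.Lib.Helper24BG2.exists_cj_le (isSyl_of_sylow P) hZp hZM
    have h1 : g * x * g⁻¹ ∈ (P : Subgroup M).map M.subtype := hle (conj_mem_cj (mem_zpowers x))
    obtain ⟨x', hx', hxx⟩ := h1
    refine ⟨x', hx', ?_, g * y * g⁻¹, ?_, ?_, ?_⟩
    · rintro rfl
      apply hx1
      have : g * x * g⁻¹ = 1 := hxx.symm
      rwa [conj_eq_one_iff] at this
    · exact (le_normalizer_iff.mp (le_normalizer_sigmaCore M)) g hg y hy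
    · rwa [Ne, conj_eq_one_iff]
    · have e : (x' : G) = g * x * g⁻¹ := hxx
      rw [e]
      calc g * x * g⁻¹ * (g * y * g⁻¹) = g * (x * y) * g⁻¹ := by group
        _ = g * (y * x) * g⁻¹ := by rw [hxy]
        _ = g * y * g⁻¹ * (g * x * g⁻¹) := by group

/-- `K = 1` iff `κ(M) = ∅`. -/
theorem kappa_eq_empty_iff {M K : Subgroup G} (hK : IsPiHallOf (kappa M) K M) :
    kappa M = ∅ ↔ K = ⊥ := by
  constructor
  · intro h
    rw [← card_eq_one]
    by_contra hne
    obtain ⟨p, hp, hd⟩ := Nat.exists_prime_and_dvd hne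
    have := hK.2.1 p hp hd
    rw [h] at this
    exact this
  · rintro rfl
    rw [Set.eq_empty_iff_forall_notMem]
    intro p hp
    apply hK.2.2 p hp.1 hp
    rw [relIndex_bot_left]
    exact hp.2.1

/-- every prime divisor of `|M|` outside `σ(M)` has `p`-rank at most 2 in `M`. -/
theorem rank_le_two (hG : IsMinSimpleOddOrder G) {M : Subgroup G} (hM : IsCoatom M) {p : ℕ}
    (hp : p.Prime) (hσ : p ∉ sigma M) : PRankLE p 2 M := by
  by_contra h
  exact hσ (alpha_subset_sigma hG hM ⟨hp, h⟩)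

/-- an element of `K K*` outside `K ∪ K*` is `x y` with `1 ≠ x ∈ K`, `1 ≠ y ∈ K*`. -/
theorem exists_mul_of_mem_Zhat {M K : Subgroup G} {z : G}
    (hz : z ∈ ((↑(K ⊔ (sigmaCore M ⊓ centralizer (K : Set G))) : Set G) \
      ((K : Set G) ∪ ↑(sigmaCore M ⊓ centralizer (K : Set G))))) :
    ∃ x ∈ K, ∃ y ∈ sigmaCore M ⊓ centralizer (K : Set G), x ≠ 1 ∧ y ≠ 1 ∧ z = x * y := by
  obtain ⟨h1, h2⟩ := hz
  have hn : sigmaCore M ⊓ centralizer (K : Set G) ≤ normalizer (K : Set G) :=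
    inf_le_right.trans (centralizer_le_normalizer _)
  rw [SetLike.mem_coe, Cfsg.Agent.Lib.Helper30SZ.mem_sup_iff hn] at h1
  obtain ⟨x, hx, y, hy, rfl⟩ := h1
  refine ⟨x, hx, y, hy, ?_, ?_, rfl⟩
  · rintro rfl
    apply h2
    right
    rw [one_mul]
    exact hy
  · rintro rfl
    apply h2
    left
    rw [mul_one]
    exact hx

end Cfsg.Agent.Lib.Helper27BG16basic
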