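import Cfsg.Agent.Lib.Helper2BGb
import Cfsg.Agent.Lib.Helper2BGc
import Cfsg.Agent.Lib.Helper29Basic
import Cfsg.Agent.Lib.Helper1Fitting

/-! PROJECT 16 (architect helper51), piece `fhall`: API of `M_F = fittingHallOf M`. -/

set_option autoImplicit false
set_option linter.unusedSectionVars false
open Cfsg

namespace Cfsg.Agent.Lib.Helper27BG16fhall

open Subgroup
open Cfsg.Agent.Lib.Helper30Trans Cfsg.Agent.Lib.Helper24BG Cfsg.Agent.Lib.Helper2BGa
  Cfsg.Agent.Lib.Helper2BGb Cfsg.Agent.Lib.Helper2KWa

universe u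
variable {G : Type u} [Group G] [Finite G]

theorem relIndex_map_subtype {M : Subgroup G} (N : Subgroup M) :
    (N.map M.subtype).relIndex M = N.index := by
  rw [relIndex, subgroupOf, comap_map_eq_self_of_injective M.subtype_injective]

theorem nilpotent_map_subtype {M : Subgroup G} (N : Subgroup M) :
    Group.IsNilpotent (N.map M.subtype) ↔ Group.IsNilpotent N :=
  (Group.isNilpotent_congr (N.equivMapOfInjective M.subtype M.subtype_injective)).symm

theorem fittingHallOf_nilpotent (M : Subgroup G) : Group.IsNilpotent (fittingHallOf M) := by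
  rw [fittingHallOf, nilpotent_map_subtype]
  have h1 : fittingHall M ≤ fittingSubgroup M :=
    sSup_le_sSup (fun N hN => ⟨hN.1, hN.2.1⟩)
  exact isNilpotent_of_le (Cfsg.Agent.Lib.Helper1Fitting.fitting_isNilpotent (G := M)) h1

theorem fittingHallOf_hall (M : Subgroup G) :
    (Nat.card (fittingHallOf M)).Coprime ((fittingHallOf M).relIndex M) := by
  rw [Cfsg.Agent.Lib.Helper29Basic.card_fittingHallOf, fittingHallOf, relIndex_map_subtype]
  exact Cfsg.Agent.Lib.Helper29Basic.fittingHall_coprime

theorem le_normalizer_fittingHallOf (M : Subgroup G) : M ≤ normalizer (fittingHallOf M : Set G) :=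
  Cfsg.Agent.Lib.Helper37Cores.le_normalizer_map_subtype _

theorem fittingHallOf_le_sigmaCore (hG : IsMinSimpleOddOrder G) {M : Subgroup G} (hM : IsCoatom M) :
    fittingHallOf M ≤ sigmaCore M := by
  have hFM : fittingHallOf M ≤ M := Cfsg.Agent.Lib.Helper29Basic.fittingHallOf_le M
  have hnil := fittingHallOf_nilpotent M
  refine pi_le_sigmaCore hG hM hFM ?_
  intro p hp hd
  have := Fact.mk hp
  set F := fittingHallOf M with hF
  have hP1 : pt F p ≠ ⊥ := pt_ne_bot hd
  have hPM : pt F p ≤ M := (pt_le F p).trans hFM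
  have hn : M ≤ normalizer (pt F p : Set G) :=
    (le_normalizer_fittingHallOf M).trans (normalizer_le_normalizer_pt hnil p)
  have hsyl : IsSyl p (pt F p) M := by
    refine isSyl_of_not_dvd hPM (isPGroup_pt F p) ?_
    rw [← relIndex_mul_relIndex (pt F p) F M (pt_le F p) hFM]
    intro h
    rcases (Nat.Prime.dvd_mul hp).mp h with h | h
    · have h2 : (pt F p).relIndex F = ((default : Sylow p F) : Subgroup F).index :=
        relIndex_map_subtype _
      rw [h2] at h
      exact (default : Sylow p F).not_dvd_index h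
    · have h3 := fittingHallOf_hall M
      exact hp.one_lt.ne' (Nat.eq_one_of_dvd_coprimes h3 hd h)
  exact mem_sigma_of_norm hsyl hP1 (norm_eq hG hM hP1 hPM hn).le

theorem fittingHallOf_eq_sigmaCore_iff (hG : IsMinSimpleOddOrder G) {M : Subgroup G} (hM : IsCoatom M) :
    fittingHallOf M = sigmaCore M ↔ Group.IsNilpotent (sigmaCore M) := by
  constructor
  · intro h
    rw [← h]
    exact fittingHallOf_nilpotent M
  · intro h
    apply le_antisymm (fittingHallOf_le_sigmaCore hG hM)
    have h50 := (Cfsg.Agent.S1350.result hG M hM).1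
    apply map_mono
    apply le_sSup
    refine ⟨inferInstance, (nilpotent_map_subtype _).mp h, ?_⟩
    apply Nat.coprime_of_dvd
    intro k hk h1 h2
    have h3 : k ∣ Nat.card (sigmaCore M) := by
      rw [sigmaCore, card_map_of_injective M.subtype_injective]
      exact h1
    apply h50.2.2 k hk (h50.2.1 k hk h3)
    rw [sigmaCore, relIndex_map_subtype]
    exact h2

/-- a normal Sylow subgroup of `M` lies in `M_F`. -/
theorem le_fittingHallOf {M Q : Subgroup G} {q : ℕ} [hq : Fact q.Prime] (hQ : IsSyl q Q M)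
    (hn : M ≤ normalizer (Q : Set G)) : Q ≤ fittingHallOf M := by
  have h1 : (Q.subgroupOf M).map M.subtype = Q := by
    rw [subgroupOf_map_subtype, inf_eq_left]
    exact hQ.1
  rw [← h1]
  apply map_mono
  apply le_sSup
  have hp : IsPGroup q (Q.subgroupOf M) := hQ.2.1.comap_subtype
  refine ⟨normal_subgroupOf_of_le_normalizer hn, hp.isNilpotent, ?_⟩
  obtain ⟨k, hk⟩ := IsPGroup.iff_card.mp hp
  rw [hk]
  apply Nat.Coprime.pow_left
  rw [Nat.Prime.coprime_iff_not_dvd hq.out]
  exact Cfsg.Agent.Lib.Helper2BGa.IsSyl.not_dvd_relIndex hQ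

end Cfsg.Agent.Lib.Helper27BG16fhall
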