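import Mathlib
import Cfsg.Agent.Lib.Helper24BGCover
import Cfsg.Agent.S1374
import Cfsg.Agent.S1375
import Cfsg.Agent.S1378

/-! The hypotheses `Hyp G` of `Helper24BGCover` hold in a minimal simple group of odd order. -/

set_option autoImplicit false

namespace Cfsg.Agent.Lib.Helper24BGCoverHyp

open Cfsg Cfsg.Agent.Lib.Helper24BGCover

theorem hyp {G : Type*} [Group G] [Finite G] (hG : IsMinSimpleOddOrder G) : Hyp G :=
  ⟨fun M hM x hx hx1 => Cfsg.Agent.S1374.result hG M hM x hx hx1,
   fun M hM x hx hx1 hxM => Cfsg.Agent.S1375.result hG M hM x hx hx1 hxM,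
   Cfsg.Agent.S1378.result hG⟩

end Cfsg.Agent.Lib.Helper24BGCoverHyp
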