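import Mathlib
import Cfsg.Agent.Lib.Helper14BG14kuniq
import Cfsg.Agent.Lib.Helper52BG14
import Cfsg.Agent.Lib.Helper52BG14Defs
import Cfsg.Agent.Lib.Helper38BG13classify
import Cfsg.Agent.Lib.Helper27BG16basic
import Cfsg.Agent.S1431

/-!
PROJECT 14, wave 2, piece `pair` : the first half of the proof of Bender-Glauberman 14.7.
-/

set_option autoImplicit false

namespace Cfsg.Agent.Lib.Helper27BG14pair

open Cfsg Subgroup
open Cfsg.Agent.Lib.Helper30Trans Cfsg.Agent.Lib.Helper24BG Cfsg.Agent.Lib.Helper52BG14Defs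
open Cfsg.Agent.Lib.Helper52BG14 Cfsg.Agent.Lib.Helper14BG14kuniq

variable {G : Type*} [Group G] [Finite G]

/-- a subgroup of prime order is generated by a nontrivial element -/
theorem exists_gen {X : Subgroup G} (hX : (Nat.card X).Prime) :
    ∃ x ∈ X, x ≠ 1 ∧ X = zpowers x ∧ orderOf x = Nat.card X := by
  have hX1 : X ≠ ⊥ := by
    rintro rfl
    rw [card_bot] at hX
    exact Nat.not_prime_one hX
  obtain ⟨x, hx, hx1⟩ := exists_ne_one_of_ne_bot' hX1
  have h1 : orderOf x ∣ Nat.card X := by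
    have := orderOf_dvd_natCard (⟨x, hx⟩ : X)
    rwa [← Subgroup.orderOf_coe] at this
  have h2 : orderOf x = Nat.card X := by
    rcases (Nat.dvd_prime hX).mp h1 with h | h
    · exact absurd (orderOf_eq_one_iff.mp h) hx1
    · exact h
  refine ⟨x, hx, hx1, ?_, h2⟩
  symm
  apply eq_of_le_of_card_ge (by rwa [zpowers_le])
  rw [Nat.card_zpowers, h2]

theorem exists_sub_card {D : Subgroup G} {p : ℕ} (hp : p.Prime) (hd : p ∣ Nat.card D) :
    ∃ X : Subgroup G, X ≤ D ∧ Nat.card X = p := by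
  have := Fact.mk hp
  obtain ⟨y, hy⟩ := exists_prime_orderOf_dvd_card' (G := D) p hd
  refine ⟨zpowers (y : G), by rw [zpowers_le]; exact y.2, ?_⟩
  rw [Nat.card_zpowers, Subgroup.orderOf_coe, hy]

/-- first half, one direction -/
theorem half (hG : IsMinSimpleOddOrder G) {M K : Subgroup G} (h : PT M K) {X : Subgroup G}
    (hXK : X ≤ K) (hX : (Nat.card X).Prime) {Ms : Subgroup G} (hMs : IsCoatom Ms)
    (hN : normalizer (X : Set G) ≤ Ms) :
    X ≤ sigmaCore Ms ∧ (∀ g : G, Ms ≠ cj g M) ∧ sigmaCore M ⊓ Ms = Ks M K ∧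
      ∀ q : ℕ, q.Prime → q ∣ Nat.card (Ks M K) → q ∈ kappa Ms := by
  have hM := h.max
  have hKM : K ≤ M := h.hall.1
  have hpk : Nat.card X ∈ kappa M := h.hall.2.1 _ hX (card_dvd_of_le hXK)
  have := Fact.mk hX
  obtain ⟨-, hXs, hnc⟩ := kappa_norm_sigma hG hM hpk (hXK.trans hKM) rfl hMs hN
  obtain ⟨hA1, hA2, -, -, -, -⟩ := ptype_a hG hM h.hall h.ne
  have hdisj : ∀ q : ℕ, q ∈ sigma M → q ∉ sigma Ms := by
    intro q h1 h2
    obtain ⟨g, hg⟩ := Cfsg.Agent.Lib.Helper37BGPart.sigma_conj hG hM hMs h1 h2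
    exact hnc g hg
  have hbot : sigmaCore M ⊓ sigmaCore Ms = ⊥ := by
    apply disjoint_iff.mp
    apply Subgroup.disjoint_of_coprime_natCard
    apply Nat.coprime_of_dvd
    intro k hk h1 h2
    exact hdisj k (Cfsg.Agent.Lib.Helper30BG2.card_sigmaCore hG hM k hk h1)
      (Cfsg.Agent.Lib.Helper30BG2.card_sigmaCore hG hMs k hk h2)
  obtain ⟨x, hxX, hx1, hXz, hxo⟩ := exists_gen hX
  have hKsMs : Ks M K ≤ Ms := by
    refine le_trans ?_ hN
    refine le_trans ?_ (centralizer_le_normalizer (X : Set G))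
    exact inf_le_right.trans (centralizer_le (by exact_mod_cast hXK))
  have hb : sigmaCore M ⊓ Ms = Ks M K := by
    apply le_antisymm
    · intro y hy
      rw [mem_inf] at hy
      have hc : y * x * y⁻¹ * x⁻¹ ∈ sigmaCore M ⊓ sigmaCore Ms := by
        rw [mem_inf]
        constructor
        · have h1 : x * y⁻¹ * x⁻¹ ∈ sigmaCore M := by
            have := Cfsg.Agent.Lib.Helper30BG2.le_normalizer_sigmaCore M (hKM (hXK hxX))
            exact (mem_normalizer_iff.mp this _).mp (inv_mem hy.1)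
          have := mul_mem hy.1 h1
          simpa [mul_assoc] using this
        · have h1 : y * x * y⁻¹ ∈ sigmaCore Ms := by
            have := Cfsg.Agent.Lib.Helper30BG2.le_normalizer_sigmaCore Ms hy.2
            exact (mem_normalizer_iff.mp this _).mp (hXs hxX)
          exact mul_mem h1 (inv_mem (hXs hxX))
      rw [hbot, mem_bot] at hc
      have hcomm : x * y = y * x := by
        have : y * x * y⁻¹ = x := by
          rw [mul_inv_eq_one] at hc
          exact hc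
        rw [mul_inv_eq_iff_eq_mul] at this
        exact this.symm
      have : y ∈ sigmaCore M ⊓ centralizer ({x} : Set G) := by
        rw [mem_inf]
        refine ⟨hy.1, ?_⟩
        rw [mem_centralizer_singleton_iff]
        exact hcomm.symm
      rw [hA1 x (hXK hxX) hx1] at this
      exact this
    · exact le_inf inf_le_left hKsMs
  refine ⟨hXs, hnc, hb, ?_⟩
  intro q hq hqd
  obtain ⟨Z, hZ, hZc⟩ := exists_sub_card hq hqd
  have hqM : q ∈ sigma M :=
    Cfsg.Agent.Lib.Helper30BG2.card_sigmaCore hG hM q hq (hqd.trans (card_dvd_of_le inf_le_left))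
  have hqMs : q ∉ sigma Ms := hdisj q hqM
  have hZMs : Z ≤ Ms := hZ.trans hKsMs
  have hqd' : q ∣ Nat.card Ms := hZc ▸ card_dvd_of_le hZMs
  have hXZ : X ≤ centralizer (Z : Set G) := by
    intro a ha
    rw [mem_centralizer_iff]
    intro z hz
    have := (mem_inf.mp (hZ hz)).2
    rw [mem_centralizer_iff] at this
    exact (this a (hXK ha)).symm
  have hne : sigmaCore Ms ⊓ centralizer (Z : Set G) ≠ ⊥ := by
    intro hb'
    have : x ∈ sigmaCore Ms ⊓ centralizer (Z : Set G) := mem_inf.mpr ⟨hXs hxX, hXZ hxX⟩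
    rw [hb', mem_bot] at this
    exact hx1 this
  rcases Cfsg.Agent.Lib.Helper38BG13classify.mem_tau_cases hG hMs hq hqd' with h1 | h1 | h1 | h1
  · exact absurd h1 hqMs
  · exact mem_kappa_of hG (Or.inl h1) hZMs hZc hne
  · exfalso
    obtain ⟨z, hzZ, hz1, hZz, hzo⟩ := exists_gen (X := Z) (hZc ▸ hq)
    obtain ⟨E, hE⟩ : ∃ E : Subgroup G, IsComplIn E (sigmaCore Ms) Ms := by
      obtain ⟨E, hE, -⟩ := Cfsg.Agent.Lib.Helper31BGS.exists_compl_ge hG hMs (X := ⊥) bot_le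
        (by
          intro r hr hrd
          rw [card_bot] at hrd
          exact absurd (Nat.dvd_one.mp hrd) hr.one_lt.ne')
      exact ⟨E, hE⟩
    obtain ⟨-, -, -, h4⟩ := Cfsg.Agent.S1420.result hG Ms hMs E hE
    have h5 := h4 z (hZMs hzZ) hz1 (by
      intro r hr hrd
      rw [hzo, hZc] at hrd
      rw [(Nat.prime_dvd_prime_iff_eq hr hq).mp hrd]
      exact h1) ⟨hZMs hzZ, x, hXs hxX, hx1, by
        have := hXZ hxX
        rw [mem_centralizer_iff] at this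
        exact this z hzZ⟩
    obtain ⟨⟨h6, -⟩, -⟩ := ptype_c hG hM h.hall h.ne hZ (hZc ▸ hq)
    have h7 : centralizer ({z} : Set G) ≤ M := by
      rw [← Cfsg.Agent.Lib.Helper27BGa.centralizer_zpowers_eq, ← hZz]
      exact h6
    have h8 := h5.2 M hM h7
    exact hnc 1 (by rw [cj_one, h8])
  · exact mem_kappa_of hG (Or.inr h1) hZMs hZc hne

/-- the intersection `M ∩ M*` -/
theorem inter (hG : IsMinSimpleOddOrder G) {M K : Subgroup G} (h : PT M K) {X : Subgroup G}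
    (hXK : X ≤ K) (hX : (Nat.card X).Prime) {Ms : Subgroup G}
    (hN : normalizer (X : Set G) ≤ Ms) (hXW : X ≤ sigmaCore Ms ⊓ M) (hWK : sigmaCore Ms ⊓ M ≤ K) :
    M ⊓ Ms = K ⊔ Ks M K := by
  obtain ⟨-, hB⟩ := ptype_b hG h.max h.hall h.ne
  have hB' := hB X hXK hX
  apply le_antisymm
  · rw [← hB']
    refine le_inf inf_le_left ?_
    intro d hd
    rw [mem_inf] at hd
    apply Cfsg.Agent.Lib.Helper37BGPart.mem_normalizer_of_cj_le
    have h1 : cj d X ≤ K := by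
      refine le_trans ?_ hWK
      refine le_trans (cj_mono hXW) ?_
      rintro _ ⟨w, hw, rfl⟩
      have hw' := mem_inf.mp hw
      show d * w * d⁻¹ ∈ _
      rw [mem_inf]
      constructor
      · have := Cfsg.Agent.Lib.Helper30BG2.le_normalizer_sigmaCore Ms hd.2
        exact (mem_normalizer_iff.mp this _).mp hw'.1
      · exact mul_mem (mul_mem hd.1 hw'.2) (inv_mem hd.1)
    exact (prime_subgroup_unique hG h hXK h1 hX (card_cj d X)).le
  · rw [← hB']
    exact le_inf inf_le_left (inf_le_right.trans hN)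

theorem pair (hG : IsMinSimpleOddOrder G) {M K : Subgroup G} (h : PT M K) {X : Subgroup G}
    (hXK : X ≤ K) (hX : (Nat.card X).Prime) {Ms : Subgroup G} (hMs : IsCoatom Ms)
    (hN : normalizer (X : Set G) ≤ Ms) :
    ∃ K₁ : Subgroup G, PT Ms K₁ ∧ (∀ g : G, Ms ≠ cj g M) ∧ sigmaCore M ⊓ Ms = Ks M K ∧
      sigmaCore Ms ⊓ M = Ks Ms K₁ ∧ Ks M K ≤ K₁ ∧ X ≤ Ks Ms K₁ ∧ Ks Ms K₁ ≤ K ∧
      M ⊓ Ms = K ⊔ Ks M K ∧ K₁ ⊔ Ks Ms K₁ = K ⊔ Ks M K := by
  have hM := h.max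
  have hKM : K ≤ M := h.hall.1
  obtain ⟨hXs, hnc, hb, hc⟩ := half hG h hXK hX hMs hN
  obtain ⟨-, hKs1, -, -, -, -⟩ := ptype_a hG hM h.hall h.ne
  have hKsMs : Ks M K ≤ Ms := hb ▸ inf_le_right
  obtain ⟨K₁, hK₁, hKsK₁⟩ := exists_kappa_hall_ge hG hMs hKsMs hc
  have hK₁ne : K₁ ≠ ⊥ := by
    rintro rfl
    exact hKs1 (le_bot_iff.mp hKsK₁)
  have h' : PT Ms K₁ := ⟨hMs, hK₁, hK₁ne⟩
  obtain ⟨hA1', -, -, -, -, -⟩ := ptype_a hG hMs hK₁ hK₁ne
  -- a subgroup of prime order of `K*`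
  obtain ⟨q, hq, hqd⟩ := Nat.exists_prime_and_dvd (fun hh => hKs1 (Subgroup.card_eq_one.mp hh))
  obtain ⟨Z, hZ, hZc⟩ := exists_sub_card hq hqd
  have hZp : (Nat.card Z).Prime := hZc ▸ hq
  obtain ⟨z, hzZ, hz1, -, -⟩ := exists_gen hZp
  have hXKs : X ≤ Ks Ms K₁ := by
    show X ≤ sigmaCore Ms ⊓ centralizer (K₁ : Set G)
    rw [← hA1' z (hKsK₁ (hZ hzZ)) hz1]
    refine le_inf hXs ?_
    intro a ha
    rw [mem_centralizer_singleton_iff]
    have := (mem_inf.mp (hZ hzZ)).2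
    rw [mem_centralizer_iff] at this
    exact this a (hXK ha)
  have hZ1 : Z ≠ ⊥ := by
    rintro rfl
    exact hz1 (mem_bot.mp hzZ)
  have hNZ : normalizer (Z : Set G) ≤ M := norm_le_of_le_Ks hG h hZ hZ1
  obtain ⟨-, -, hf, hg⟩ := half hG h' (hZ.trans hKsK₁) hZp hM hNZ
  have hKs'M : Ks Ms K₁ ≤ M := hf ▸ inf_le_right
  obtain ⟨K₂, hK₂, hle₂⟩ := exists_kappa_hall_ge hG hM hKs'M hg
  obtain ⟨m, hm, hK₂m⟩ := kappa_hall_conj hG hM h.hall hK₂
  obtain ⟨-, h31, -, -⟩ := Cfsg.Agent.S1431.result hG M hM K h.hall h.ne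
  have hmem : m ∈ K ⊔ Ks M K := by
    by_contra hcon
    have h1 := h31 m hm hcon
    obtain ⟨x, hxX, hx1, -, -⟩ := exists_gen hX
    have h2 : x ∈ K ⊓ cj m K := mem_inf.mpr ⟨hXK hxX, hK₂m ▸ hle₂ (hXKs hxX)⟩
    rw [show cj m K = K.map (MulAut.conj m).toMonoidHom from rfl, h1, mem_bot] at h2
    exact hx1 h2
  have hnK : K ⊔ Ks M K ≤ normalizer (K : Set G) :=
    sup_le le_normalizer (inf_le_right.trans (centralizer_le_normalizer _))
  have hK₂K : K₂ = K := by rw [hK₂m, cj_eq_self_of_mem_normalizer (hnK hmem)]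
  have hKs'K : Ks Ms K₁ ≤ K := hK₂K ▸ hle₂
  have hI := inter hG h hXK hX hN (hf ▸ hXKs) (hf ▸ hKs'K)
  have hI' := inter hG h' (hZ.trans hKsK₁) hZp hNZ (hb ▸ hZ) (hb ▸ hKsK₁)
  refine ⟨K₁, h', hnc, hb, hf, hKsK₁, hXKs, hKs'K, hI, ?_⟩
  rw [← hI', ← hI, inf_comm]

/-- `K*` is a Hall `σ(M)`-subgroup of `M*` -/
theorem Ks_hall_sigma (hG : IsMinSimpleOddOrder G) {M K : Subgroup G} (h : PT M K) {X : Subgroup G}
    (hXK : X ≤ K) (hX : (Nat.card X).Prime) {Ms : Subgroup G} (hMs : IsCoatom Ms)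
    (hN : normalizer (X : Set G) ≤ Ms) : IsPiHallOf (sigma M) (Ks M K) Ms := by
  have hM := h.max
  obtain ⟨-, -, hb, -⟩ := half hG h hXK hX hMs hN
  obtain ⟨-, hKs1, -, -, -, -⟩ := ptype_a hG hM h.hall h.ne
  have hKsMs : Ks M K ≤ Ms := hb ▸ inf_le_right
  have hpi : ∀ p : ℕ, p.Prime → p ∣ Nat.card (Ks M K) → p ∈ sigma M := fun p hp hd =>
    Cfsg.Agent.Lib.Helper30BG2.card_sigmaCore hG hM p hp (hd.trans (card_dvd_of_le inf_le_left))
  obtain ⟨Y, hY, hle⟩ := Cfsg.Agent.Lib.Helper27BG16basic.exists_hallOf_ge (sol hG hMs.1)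
    (sigma M) hKsMs hpi
  obtain ⟨-, -, -, h31⟩ := Cfsg.Agent.S1431.result hG M hM K h.hall h.ne
  have h1 : Y ≤ sigmaCore M := h31 Y hY.2.1 (by rw [inf_eq_right.mpr hle]; exact hKs1)
  have h2 : Y = Ks M K := le_antisymm (hb ▸ le_inf h1 hY.1) hle
  exact h2 ▸ hY

end Cfsg.Agent.Lib.Helper27BG14pair
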