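import Mathlib
import Cfsg.Agent.Lib.Helper14BG14kuniq
import Cfsg.Agent.Lib.Helper27BG14pair
import Cfsg.Agent.Lib.Helper52BG14
import Cfsg.Agent.Lib.Helper52BG14Defs
import Cfsg.Agent.Lib.Helper37BGPart
import Cfsg.Agent.Lib.Helper2BGb

/-!
PROJECT 14, wave 2, piece `comp` : the components of `D = K K*`.
-/

set_option autoImplicit false

namespace Cfsg.Agent.Lib.Helper3BG14comp

open Cfsg Subgroup
open Cfsg.Agent.Lib.Helper30Trans Cfsg.Agent.Lib.Helper24BG Cfsg.Agent.Lib.Helper52BG14Defs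
open Cfsg.Agent.Lib.Helper52BG14 Cfsg.Agent.Lib.Helper14BG14kuniq Cfsg.Agent.Lib.Helper27BG14pair

variable {G : Type*} [Group G] [Finite G]

theorem ne_bot_of_card_prime {X : Subgroup G} (hX : (Nat.card X).Prime) : X ≠ ⊥ := by
  rintro rfl
  rw [card_bot] at hX
  exact Nat.not_prime_one hX

theorem exists_prime_le {Y : Subgroup G} (hY : Y ≠ ⊥) :
    ∃ X : Subgroup G, X ≤ Y ∧ (Nat.card X).Prime := by
  have h1 : Nat.card Y ≠ 1 := fun h => hY (card_eq_one.mp h)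
  obtain ⟨p, hp, hd⟩ := Nat.exists_prime_and_dvd h1
  obtain ⟨X, hX, hc⟩ := exists_sub_card hp hd
  exact ⟨X, hX, hc ▸ hp⟩

theorem coprime_of_prime_not_dvd {X Y : Subgroup G} (hX : (Nat.card X).Prime)
    (h : ¬ Nat.card X ∣ Nat.card Y) : (Nat.card X).Coprime (Nat.card Y) :=
  (Nat.Prime.coprime_iff_not_dvd hX).mpr h

theorem exists_max_norm (hG : IsMinSimpleOddOrder G) {M X : Subgroup G} (hM : IsCoatom M)
    (hXM : X ≤ M) (hX : (Nat.card X).Prime) :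
    ∃ L : Subgroup G, IsCoatom L ∧ normalizer (X : Set G) ≤ L :=
  exists_coatom (norm_ne_top hG (ne_bot_of_card_prime hX)
    (fun h => hM.1 (top_le_iff.mp (h ▸ hXM))))

/-- the maximal subgroup `L₁` is determined by a subgroup of prime order of `Ks L₁ K₁` -/
theorem eq_of_sigma (hG : IsMinSimpleOddOrder G) {L₁ K₁ : Subgroup G} (h : PT L₁ K₁)
    {X : Subgroup G} (hX : X ≤ Ks L₁ K₁) (hXp : (Nat.card X).Prime) {L : Subgroup G}
    (hL : IsCoatom L) (hXL : X ≤ L) (hs : Nat.card X ∈ sigma L) : L = L₁ := by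
  have h1 : Nat.card X ∈ sigma L₁ :=
    Cfsg.Agent.Lib.Helper2BGb.card_sigmaCore L₁ _ hXp (card_dvd_of_le (hX.trans inf_le_left))
  obtain ⟨g, rfl⟩ := Cfsg.Agent.Lib.Helper37BGPart.sigma_conj hG h.max hL h1 hs
  have h2 : cj g⁻¹ X ≤ L₁ := by
    rw [cj_le_iff, inv_inv]; exact hXL
  have h3 : g⁻¹ ∈ L₁ := mem_of_cj_le hG h hX (ne_bot_of_card_prime hXp) h2
  have h4 : g ∈ L₁ := by simpa using L₁.inv_mem h3
  exact cj_eq_self_of_mem_normalizer (le_normalizer h4)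

theorem D_le {M K : Subgroup G} (h : PT M K) : K ⊔ Ks M K ≤ M :=
  sup_le h.hall.1 (inf_le_left.trans (Cfsg.Agent.Lib.Helper2BGb.sigmaCore_le M))

theorem comp_self (hG : IsMinSimpleOddOrder G) {M K : Subgroup G} (h : PT M K) :
    Comp (K ⊔ Ks M K) M := by
  refine ⟨h.max, D_le h, fun hb => ?_⟩
  have h1 : Ks M K ≠ ⊥ := (ptype_a hG h.max h.hall h.ne).2.1
  exact h1 (le_bot_iff.mp (hb ▸ le_inf le_sup_right inf_le_left))

/-- a subgroup of prime order of `D` lies in `K*` or in `K` -/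
theorem prime_cases (hG : IsMinSimpleOddOrder G) {M K : Subgroup G} (h : PT M K) {X : Subgroup G}
    (hX : X ≤ K ⊔ Ks M K) (hXp : (Nat.card X).Prime) : X ≤ Ks M K ∨ X ≤ K := by
  obtain ⟨-, hcop⟩ := card_sup_Ks hG h
  by_cases hd : Nat.card X ∣ Nat.card (Ks M K)
  · left
    apply (le_of_le_sup hG h hX).2
    apply coprime_of_prime_not_dvd hXp
    intro hd'
    exact hXp.one_lt.ne' (Nat.eq_one_of_dvd_coprimes hcop hd' hd)
  · right
    exact (le_of_le_sup hG h hX).1 (coprime_of_prime_not_dvd hXp hd)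

theorem comp_of_prime (hG : IsMinSimpleOddOrder G) {M K : Subgroup G} (h : PT M K) {X : Subgroup G}
    (hX : X ≤ K ⊔ Ks M K) (hXp : (Nat.card X).Prime) :
    ∃ L : Subgroup G, Comp (K ⊔ Ks M K) L ∧ X ≤ sigmaCore L := by
  rcases prime_cases hG h hX hXp with h1 | h1
  · exact ⟨M, comp_self hG h, h1.trans inf_le_left⟩
  · obtain ⟨L, hL, hN⟩ := exists_max_norm hG h.max (h1.trans h.hall.1) hXp
    obtain ⟨K₁, -, -, -, -, -, hXK, -, hD, -⟩ := pair hG h h1 hXp hL hN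
    refine ⟨L, ⟨hL, hD ▸ inf_le_right, fun hb => ?_⟩, hXK.trans inf_le_left⟩
    exact ne_bot_of_card_prime hXp (le_bot_iff.mp (hb ▸ le_inf hX (hXK.trans inf_le_left)))

theorem coprime_sigmaCore {M K : Subgroup G} (h : PT M K) :
    (Nat.card (sigmaCore M)).Coprime (Nat.card K) := by
  apply Nat.coprime_of_dvd
  intro r hr h1 h2
  exact (h.hall.2.1 r hr h2).2.2.1 (Cfsg.Agent.Lib.Helper2BGb.card_sigmaCore M r hr h1)

theorem comp_struct (hG : IsMinSimpleOddOrder G) {M K : Subgroup G} (h : PT M K) {L : Subgroup G}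
    (hL : Comp (K ⊔ Ks M K) L) :
    ∃ K' : Subgroup G, PT L K' ∧ K' ⊔ Ks L K' = K ⊔ Ks M K ∧
      (K ⊔ Ks M K) ⊓ sigmaCore L = Ks L K' := by
  obtain ⟨hLm, hDL, hne⟩ := hL
  obtain ⟨X, hX, hXp⟩ := exists_prime_le hne
  have hXD : X ≤ K ⊔ Ks M K := hX.trans inf_le_left
  have hXs : Nat.card X ∈ sigma L :=
    Cfsg.Agent.Lib.Helper2BGb.card_sigmaCore L _ hXp (card_dvd_of_le (hX.trans inf_le_right))
  rcases prime_cases hG h hXD hXp with h1 | h1
  · have hLM : L = M := eq_of_sigma hG h h1 hXp hLm (hXD.trans hDL) hXs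
    subst hLM
    refine ⟨K, h, rfl, le_antisymm ?_ (le_inf le_sup_right inf_le_left)⟩
    apply (le_of_le_sup hG h inf_le_left).2
    exact Nat.Coprime.coprime_dvd_left (card_dvd_of_le inf_le_right) (coprime_sigmaCore h)
  · obtain ⟨L₁, hL₁, hN⟩ := exists_max_norm hG h.max (h1.trans h.hall.1) hXp
    obtain ⟨K₁, hPT, -, -, hs, -, hXK, hKK, hD, hD'⟩ := pair hG h h1 hXp hL₁ hN
    have hLL : L = L₁ := eq_of_sigma hG hPT hXK hXp hLm (hXD.trans hDL) hXs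
    subst hLL
    refine ⟨K₁, hPT, hD', le_antisymm ?_ (le_inf (hKK.trans le_sup_left) inf_le_left)⟩
    rw [← hs]
    exact le_inf inf_le_right (inf_le_left.trans (D_le h))

theorem comp_inf (hG : IsMinSimpleOddOrder G) {M K : Subgroup G} (h : PT M K) {L L' : Subgroup G}
    (hL : Comp (K ⊔ Ks M K) L) (hL' : Comp (K ⊔ Ks M K) L') (hne : L ≠ L') :
    (∀ g : G, L' ≠ cj g L) ∧ L ⊓ L' = K ⊔ Ks M K := by
  obtain ⟨K', hPT, hD, hDs⟩ := comp_struct hG h hL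
  obtain ⟨hLm', hDL', hne'⟩ := hL'
  obtain ⟨X, hX, hXp⟩ := exists_prime_le hne'
  have hXD : X ≤ K ⊔ Ks M K := hX.trans inf_le_left
  have hXs : Nat.card X ∈ sigma L' :=
    Cfsg.Agent.Lib.Helper2BGb.card_sigmaCore L' _ hXp (card_dvd_of_le (hX.trans inf_le_right))
  have hns : Nat.card X ∉ sigma L := by
    intro hs
    have := Fact.mk hXp
    have h1 : X ≤ sigmaCore L :=
      Cfsg.Agent.Lib.Helper2BGb.pgroup_le_sigmaCore hG hL.1 hs (hXD.trans hL.2.1)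
        (IsPGroup.of_card (n := 1) (by rw [pow_one]))
    have h2 : X ≤ Ks L K' := hDs ▸ le_inf hXD h1
    exact hne (eq_of_sigma hG hPT h2 hXp hLm' (hXD.trans hDL') hXs).symm
  have hXK' : X ≤ K' := by
    apply (le_of_le_sup hG hPT (hD ▸ hXD)).1
    apply coprime_of_prime_not_dvd hXp
    intro hd
    exact hns (Cfsg.Agent.Lib.Helper2BGb.card_sigmaCore L _ hXp
      (hd.trans (card_dvd_of_le inf_le_left)))
  obtain ⟨L₁, hL₁, hN⟩ := exists_max_norm hG hPT.max (hXK'.trans hPT.hall.1) hXp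
  obtain ⟨K₁, hPT₁, hnc, -, -, -, hXK, -, hDD, -⟩ := pair hG hPT hXK' hXp hL₁ hN
  have hLL : L' = L₁ := eq_of_sigma hG hPT₁ hXK hXp hLm' (hXD.trans hDL') hXs
  subst hLL
  exact ⟨hnc, hDD.trans hD⟩

end Cfsg.Agent.Lib.Helper3BG14comp
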