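import Mathlib
import Cfsg.Agent.Lib.Helper52BG14
import Cfsg.Agent.Lib.Helper52BG14Defs
import Cfsg.Agent.Lib.Helper14BG14kuniq
import Cfsg.Agent.Lib.Helper3BG14comp
import Cfsg.Agent.Lib.Helper24BGCover
import Cfsg.Agent.Lib.Helper24BGCoverHyp
import Cfsg.Agent.Lib.Helper37BGPart
import Cfsg.Agent.Lib.Helper21BGExcbasic

/-!
PROJECT 14 piece `hat` (the set `D̂` of elements of `D = K K*` lying in no `L_σ`).
-/

set_option autoImplicit false

namespace Cfsg.Agent.Lib.Helper17BG14hat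

open Cfsg Subgroup
open Cfsg.Agent.Lib.Helper30Trans Cfsg.Agent.Lib.Helper24BG Cfsg.Agent.Lib.Helper52BG14Defs
open Cfsg.Agent.Lib.Helper52BG14 Cfsg.Agent.Lib.Helper14BG14kuniq Cfsg.Agent.Lib.Helper3BG14comp
open Cfsg.Agent.Lib.Helper24BGCover

variable {G : Type*} [Group G] [Finite G]

/-- a subgroup of order `p` in `⟨d⟩` -/
theorem exists_prime_sub {d : G} {p : ℕ} (_hp : p.Prime) (hd : p ∣ orderOf d) :
    ∃ X : Subgroup G, X ≤ zpowers d ∧ Nat.card X = p := by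
  refine ⟨zpowers (d ^ (orderOf d / p)), ?_, ?_⟩
  · rw [zpowers_le]
    exact Subgroup.pow_mem _ (mem_zpowers d) _
  · rw [Nat.card_zpowers]
    exact orderOf_pow_orderOf_div (orderOf_pos d).ne' hd

omit [Finite G] in
theorem ne_bot_of_card_prime' {X : Subgroup G} (h : (Nat.card X).Prime) : X ≠ ⊥ := by
  rintro rfl
  rw [card_bot] at h
  exact Nat.not_prime_one h

/-- the component attached to a subgroup of prime order of `D`, with all its properties -/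
theorem comp_data (hG : IsMinSimpleOddOrder G) {M K : Subgroup G} (h : PT M K) {X : Subgroup G}
    (hX : X ≤ K ⊔ Ks M K) (hXp : (Nat.card X).Prime) :
    ∃ L K' : Subgroup G, Comp (K ⊔ Ks M K) L ∧ X ≤ sigmaCore L ∧ PT L K' ∧ X ≤ Ks L K' ∧
      Nat.card X ∈ sigma L := by
  obtain ⟨L, hL, hXL⟩ := comp_of_prime hG h hX hXp
  obtain ⟨K', hK', -, e⟩ := comp_struct hG h hL
  refine ⟨L, K', hL, hXL, hK', e ▸ le_inf hX hXL, ?_⟩
  exact piNum_card_sigmaCore hG hL.1 _ hXp (card_dvd_of_le hXL)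

theorem hat_ti (hG : IsMinSimpleOddOrder G) {M K : Subgroup G} (h : PT M K) {d g : G}
    (hd : d ∈ K ⊔ Ks M K) (hd' : ∀ L : Subgroup G, Comp (K ⊔ Ks M K) L → d ∉ sigmaCore L)
    (hg : g * d * g⁻¹ ∈ K ⊔ Ks M K) : g ∈ K ⊔ Ks M K := by
  have hd1 : d ≠ 1 := by
    rintro rfl
    exact hd' M (comp_self hG h) (one_mem _)
  have hzD : zpowers d ≤ K ⊔ Ks M K := by rwa [zpowers_le]
  have hcj : cj g (zpowers d) ≤ K ⊔ Ks M K := by
    rintro _ ⟨y, hy, rfl⟩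
    obtain ⟨k, rfl⟩ := mem_zpowers_iff.mp hy
    change g * d ^ k * g⁻¹ ∈ _
    rw [← conj_zpow]
    exact Subgroup.zpow_mem _ hg k
  -- membership of `g` in the component of a prime
  have key : ∀ X : Subgroup G, X ≤ zpowers d → ∀ L K' : Subgroup G, Comp (K ⊔ Ks M K) L →
      PT L K' → X ≤ Ks L K' → (Nat.card X).Prime → g ∈ L := by
    intro X hX L K' hL hK' hXK hXp
    exact mem_of_cj_le hG hK' hXK (ne_bot_of_card_prime' hXp) (((cj_mono hX).trans hcj).trans hL.2.1)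
  obtain ⟨p, hp, hpd⟩ := exists_prime_dvd_orderOf hd1
  obtain ⟨X, hXd, hXc⟩ := exists_prime_sub hp hpd
  obtain ⟨L, K', hL, hXL, hK', hXK, -⟩ := comp_data hG h (hXd.trans hzD) (hXc ▸ hp)
  have hnp : ¬ PiNum (sigma L) (orderOf d) := fun hpi =>
    hd' L hL (mem_sigmaCore_of_piNum hG hL.1 (hL.2.1 hd) hpi)
  unfold PiNum at hnp
  push Not at hnp
  obtain ⟨p', hp', hpd', hpσ⟩ := hnp
  obtain ⟨X', hXd', hXc'⟩ := exists_prime_sub hp' hpd'
  obtain ⟨L', K'', hL', hXL', hK'', hXK', hσ'⟩ := comp_data hG h (hXd'.trans hzD) (hXc' ▸ hp')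
  have hne : L ≠ L' := by
    rintro rfl
    exact hpσ (hXc' ▸ hσ')
  rw [← (comp_inf hG h hL hL' hne).2]
  exact ⟨key X hXd L K' hL hK' hXK (hXc ▸ hp), key X' hXd' L' K'' hL' hK'' hXK' (hXc' ▸ hp')⟩

theorem hat_not_tilde (hG : IsMinSimpleOddOrder G) {M K : Subgroup G} (h : PT M K) {d : G}
    (hd : d ∈ K ⊔ Ks M K) (hd' : ∀ L : Subgroup G, Comp (K ⊔ Ks M K) L → d ∉ sigmaCore L)
    {N : Subgroup G} (hN : IsCoatom N) (y : G) :
    y * d * y⁻¹ ∉ tildeOf N ((sigmaCore N : Set G) \ {1}) := by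
  rintro ⟨a, ⟨haσ, ha1⟩, r, hr, z, hz⟩
  have ha1' : a ≠ 1 := fun h1 => ha1 (by simpa using h1)
  have haσ' : a ∈ sigmaCore N := haσ
  have H := Cfsg.Agent.Lib.Helper24BGCoverHyp.hyp hG
  obtain ⟨g, hg⟩ : ∃ g : G, d = g * (a * r) * g⁻¹ := by
    refine ⟨y⁻¹ * z, ?_⟩
    have : d = y⁻¹ * (y * d * y⁻¹) * y := by group
    rw [this, hz]
    group
  have hcomm := commute_of_mem_supportR hr
  have hcop := coprime_supp hG H hN haσ' ha1' hr (piNum_orderOf hG hN haσ')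
  have haz : a ∈ zpowers (a * r) := by
    obtain ⟨m, hm⟩ := exists_pow_eq_self_of_coprime hcop
    have h1 : (a * r) ^ orderOf r = a ^ orderOf r := by
      rw [hcomm.mul_pow, pow_orderOf_eq_one, mul_one]
    have h2 : (a ^ orderOf r) ^ m ∈ zpowers (a * r) := by
      rw [← h1]
      exact Subgroup.pow_mem _ (Subgroup.pow_mem _ (mem_zpowers (a * r)) _) _
    rwa [hm] at h2
  have hcjD : cj g (zpowers (a * r)) ≤ K ⊔ Ks M K := by
    rintro _ ⟨v, hv, rfl⟩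
    obtain ⟨k, rfl⟩ := mem_zpowers_iff.mp hv
    change g * (a * r) ^ k * g⁻¹ ∈ _
    rw [← conj_zpow, ← hg]
    exact Subgroup.zpow_mem _ hd k
  obtain ⟨p, hp, hpd⟩ := exists_prime_dvd_orderOf ha1'
  obtain ⟨X₀, hX₀a, hX₀c⟩ := exists_prime_sub hp hpd
  have hazz : zpowers a ≤ zpowers (a * r) := by rwa [zpowers_le]
  have hXc : Nat.card (cj g X₀) = p := by rw [card_cj, hX₀c]
  obtain ⟨L, K', hL, hXL, hK', hXK, hσL⟩ :=
    comp_data hG h ((cj_mono (hX₀a.trans hazz)).trans hcjD) (hXc ▸ hp)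
  rw [hXc] at hσL
  have hσN : p ∈ sigma N := piNum_orderOf hG hN haσ' p hp hpd
  obtain ⟨u, hu⟩ := Cfsg.Agent.Lib.Helper37BGPart.sigma_conj hG hL.1 hN hσL hσN
  have haN : a ∈ N := sigmaCore_le' N haσ'
  have hX₀N : X₀ ≤ N := hX₀a.trans (by rwa [zpowers_le])
  have hw : u⁻¹ * g⁻¹ ∈ L := by
    apply mem_of_cj_le hG hK' hXK (ne_bot_of_card_prime' (hXc ▸ hp))
    rw [cj_mul, cj_inv_cj, cj_le_iff, inv_inv, ← hu]
    exact hX₀N
  have hNL : N = cj g⁻¹ L := by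
    have e : u = g⁻¹ * (u⁻¹ * g⁻¹)⁻¹ := by group
    rw [hu, e, cj_mul, cj_eq_self_of_mem_normalizer (le_normalizer (L.inv_mem hw))]
  have hcent : centralizer ({a} : Set G) ≤ N := by
    intro c hc
    rw [mem_centralizer_singleton_iff] at hc
    have h1 : g * c * g⁻¹ ∈ centralizer ((cj g X₀ : Subgroup G) : Set G) := by
      rw [mem_centralizer_iff]
      rintro _ ⟨v, hv, rfl⟩
      obtain ⟨k, rfl⟩ := mem_zpowers_iff.mp (hX₀a hv)
      change g * a ^ k * g⁻¹ * (g * c * g⁻¹) = g * c * g⁻¹ * (g * a ^ k * g⁻¹)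
      have h2 : a ^ k * c = c * a ^ k := ((Commute.zpow_right (show Commute c a from hc) k)).eq.symm
      calc g * a ^ k * g⁻¹ * (g * c * g⁻¹) = g * (a ^ k * c) * g⁻¹ := by group
        _ = g * (c * a ^ k) * g⁻¹ := by rw [h2]
        _ = g * c * g⁻¹ * (g * a ^ k * g⁻¹) := by group
    have h3 := (ptype_c hG hK'.max hK'.hall hK'.ne hXK (hXc ▸ hp)).1.1 h1
    rw [hNL, mem_cj, inv_inv]
    exact h3
  rw [supportR_of_le hcent] at hr
  have hr1 : r = 1 := mem_bot.mp hr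
  rw [hr1, mul_one] at hg
  apply hd' L hL
  rw [hNL, Cfsg.Agent.Lib.Helper21BGExcbasic.sigmaCore_cj, mem_cj, inv_inv] at haσ'
  rw [hg]
  exact haσ'

end Cfsg.Agent.Lib.Helper17BG14hat
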