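import Mathlib
import Cfsg.Agent.Lib.Helper24BGCover
import Cfsg.Agent.Lib.Helper31BGS

/-!
B-G Section 14, the covers `x R(x)` (`x ∈ M_σ#`), part 2: sharp transitivity of `R(x)`, equivariance,
and the count `|tilde(M_σ#)| = (|M_σ| - 1) |G : M|`, from the hypotheses `Hyp G`.
-/

set_option autoImplicit false
set_option linter.unusedSectionVars false
set_option linter.unusedVariables false

namespace Cfsg.Agent.Lib.Helper24BGCover2

open Cfsg Subgroup
open Cfsg.Agent.Lib.Helper30Trans Cfsg.Agent.Lib.Helper24BG Cfsg.Agent.Lib.Helper21BGExcbasic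
open Cfsg.Agent.Lib.Helper24BGCover

variable {G : Type*} [Group G] [Finite G]

/-- normal complements of a Hall subgroup coincide -/
theorem compl_unique {D R R' C : Subgroup G} (h : IsComplIn D R C) (h' : IsComplIn D R' C)
    (hn : C ≤ normalizer (R : Set G)) (hcop : (Nat.card D).Coprime (D.relIndex C)) : R' = R := by
  have e1 := Cfsg.Agent.Lib.Helper31BGS.relIndex_compl h
  have e2 := Cfsg.Agent.Lib.Helper31BGS.relIndex_compl h'
  have e3 := Cfsg.Agent.Lib.Helper31BGS.relIndex_compl' h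
  have hle : R' ≤ R := by
    refine le_of_coprime_relIndex hn h'.2.1 ?_
    rw [e3, ← e2]
    exact hcop.symm
  exact eq_of_le_of_card_ge hle (by rw [← e1, ← e2])

/-- `R(x)` acts sharply transitively on the conjugates of `M` containing `x` -/
theorem sharp (H : Hyp G) {M : Subgroup G} (hM : IsCoatom M) {x : G} (hx : x ∈ sigmaCore M)
    (hx1 : x ≠ 1) (g : G) (hg : x ∈ cj g M) : ∃! r : G, r ∈ supportR M x ∧ cj r M = cj g M := by
  obtain ⟨hcop, R, hnorm, hcompl, hsharp⟩ := H.h74 M hM x hx hx1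
  have hR : supportR M x = R := by
    by_cases hxM : centralizer ({x} : Set G) ≤ M
    · rw [supportR_of_le hxM]
      symm
      rw [eq_bot_iff, ← hcompl.2.2.1]
      exact le_inf (le_inf (hcompl.2.1.trans hxM) hcompl.2.1) le_rfl
    · obtain ⟨N, D⟩ := exists_dat H hM hx hx1 hxM
      rw [D.supp]
      exact compl_unique hcompl D.compl hnorm hcop
  rw [hR]
  exact hsharp g hg

theorem centralizer_conj (y a : G) :
    centralizer ({y * a * y⁻¹} : Set G) = cj y (centralizer ({a} : Set G)) := by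
  ext z
  rw [mem_cj, mem_centralizer_singleton_iff, mem_centralizer_singleton_iff]
  constructor
  · intro h
    have : y⁻¹ * (z * (y * a * y⁻¹)) * y = y⁻¹ * (y * a * y⁻¹ * z) * y := by rw [h]
    calc y⁻¹ * z * y * a = y⁻¹ * (z * (y * a * y⁻¹)) * y := by group
      _ = y⁻¹ * (y * a * y⁻¹ * z) * y := this
      _ = a * (y⁻¹ * z * y) := by group
  · intro h
    calc z * (y * a * y⁻¹) = y * (y⁻¹ * z * y * a) * y⁻¹ := by group
      _ = y * (a * (y⁻¹ * z * y)) * y⁻¹ := by rw [h]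
      _ = y * a * y⁻¹ * z := by group

theorem cj_le_cj_iff {y : G} {A B : Subgroup G} : cj y A ≤ cj y B ↔ A ≤ B := by
  rw [cj_le_iff, cj_inv_cj]

theorem cj_inf (y : G) (A B : Subgroup G) : cj y (A ⊓ B) = cj y A ⊓ cj y B :=
  Subgroup.map_inf A B _ (MulAut.conj y).injective

theorem conj_ne_one {a : G} (ha : a ≠ 1) (y : G) : y * a * y⁻¹ ≠ 1 := by
  intro h
  exact ha (conj_eq_one_iff.mp h)

theorem conj_mem_sigmaCore {M : Subgroup G} {a : G} (ha : a ∈ sigmaCore M) (y : G) :
    y * a * y⁻¹ ∈ sigmaCore (cj y M) := by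
  rw [sigmaCore_cj]; exact conj_mem_cj ha

/-- equivariance of `R(x)` -/
theorem supportR_cj (H : Hyp G) {M : Subgroup G} (hM : IsCoatom M) {a : G} (ha : a ∈ sigmaCore M)
    (ha1 : a ≠ 1) (y : G) : supportR (cj y M) (y * a * y⁻¹) = cj y (supportR M a) := by
  have hM' := isCoatom_cj hM y
  have ha' := conj_mem_sigmaCore ha y
  have ha1' := conj_ne_one ha1 y
  have hC := centralizer_conj y a
  by_cases h : centralizer ({a} : Set G) ≤ M
  · rw [supportR_of_le h, supportR_of_le (by rw [hC]; exact cj_mono h)]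
    exact (Subgroup.map_bot _).symm
  · have h' : ¬ centralizer ({y * a * y⁻¹} : Set G) ≤ cj y M := by
      rw [hC, cj_le_cj_iff]; exact h
    obtain ⟨N, D⟩ := exists_dat H hM ha ha1 h
    obtain ⟨N', D'⟩ := exists_dat H hM' ha' ha1' h'
    have : cj y N = N' := D'.uniq _ (isCoatom_cj D.coatom y) (by rw [hC]; exact cj_mono D.le)
    rw [D.supp, D'.supp, ← this, sigmaCore_cj, hC, cj_inf]

/-- `R(x)` does not depend on the conjugate of `M` whose `σ`-core contains `x` -/
theorem supportR_eq (H : Hyp G) {M : Subgroup G} (hM : IsCoatom M) {x : G} (hx : x ∈ sigmaCore M)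
    (hx1 : x ≠ 1) (g : G) (hg : x ∈ sigmaCore (cj g M)) : supportR (cj g M) x = supportR M x := by
  have hM' := isCoatom_cj hM g
  by_cases h : centralizer ({x} : Set G) ≤ M
  · obtain ⟨r, ⟨hr, hr'⟩, -⟩ := sharp H hM hx hx1 g (sigmaCore_le' _ hg)
    rw [supportR_of_le h, mem_bot] at hr
    rw [← hr', hr, cj_one]
  · by_cases h' : centralizer ({x} : Set G) ≤ cj g M
    · exfalso
      have hx' : x ∈ cj g⁻¹ (cj g M) := by rw [cj_inv_cj]; exact sigmaCore_le' _ hx
      obtain ⟨r, ⟨hr, hr'⟩, -⟩ := sharp H hM' hg hx1 g⁻¹ hx'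
      rw [supportR_of_le h', mem_bot] at hr
      rw [hr, cj_one, cj_inv_cj] at hr'
      exact h (hr' ▸ h')
    · obtain ⟨N, D⟩ := exists_dat H hM hx hx1 h
      obtain ⟨N', D'⟩ := exists_dat H hM' hg hx1 h'
      rw [D.supp, D'.supp, D.uniq N' D'.coatom D'.le]


/-- membership in the cover of `M` -/
theorem mem_tilde_iff (H : Hyp G) {M : Subgroup G} (hM : IsCoatom M) {z : G} :
    z ∈ tildeOf M ((sigmaCore M : Set G) \ {1}) ↔
      ∃ g x r, x ∈ sigmaCore (cj g M) ∧ x ≠ 1 ∧ r ∈ supportR (cj g M) x ∧ z = x * r := by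
  constructor
  · rintro ⟨a, ⟨ha, ha1⟩, r, hr, y, rfl⟩
    have ha1' : a ≠ 1 := fun h => ha1 (Set.mem_singleton_iff.mpr h)
    refine ⟨y, y * a * y⁻¹, y * r * y⁻¹, conj_mem_sigmaCore ha y, conj_ne_one ha1' y, ?_, by group⟩
    rw [supportR_cj H hM ha ha1']
    exact conj_mem_cj hr
  · rintro ⟨g, x, r, hx, hx1, hr, rfl⟩
    have ha : g⁻¹ * x * g ∈ sigmaCore M := by
      rw [sigmaCore_cj, mem_cj] at hx; exact hx
    have ha1 : g⁻¹ * x * g ≠ 1 := by
      have := conj_ne_one hx1 g⁻¹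
      rwa [inv_inv] at this
    have e : g * (g⁻¹ * x * g) * g⁻¹ = x := by group
    have h1 := supportR_cj H hM ha ha1 g
    rw [e] at h1
    rw [h1, mem_cj] at hr
    exact ⟨g⁻¹ * x * g, ⟨ha, fun h => ha1 (Set.mem_singleton_iff.mp h)⟩, g⁻¹ * r * g, hr, g,
      by group⟩

/-- a chosen conjugate of `M` whose `σ`-core contains `x` -/
noncomputable def base (M : Subgroup G) (x : G) : G :=
  Classical.epsilon (fun g => x ∈ sigmaCore (cj g M))

theorem base_spec {M : Subgroup G} {x g : G} (h : x ∈ sigmaCore (cj g M)) :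
    x ∈ sigmaCore (cj (base M x) M) := Classical.epsilon_spec (p := fun g => x ∈ sigmaCore (cj g M)) ⟨g, h⟩

/-- the element of `R(x)` carrying the chosen conjugate to `M^g` -/
noncomputable def rr (M : Subgroup G) (x g : G) : G :=
  Classical.epsilon (fun r => r ∈ supportR (cj (base M x) M) x ∧ cj r (cj (base M x) M) = cj g M)

theorem sharp_base (H : Hyp G) {M : Subgroup G} (hM : IsCoatom M) {x g : G} (hx1 : x ≠ 1)
    (h : x ∈ sigmaCore (cj g M)) :
    ∃! r : G, r ∈ supportR (cj (base M x) M) x ∧ cj r (cj (base M x) M) = cj g M := by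
  have h1 := sharp H (isCoatom_cj hM (base M x)) (base_spec h) hx1 (g * (base M x)⁻¹)
    (by rw [← cj_mul, inv_mul_cancel_right]; exact sigmaCore_le' _ h)
  rwa [← cj_mul (g * (base M x)⁻¹), inv_mul_cancel_right] at h1

theorem rr_spec (H : Hyp G) {M : Subgroup G} (hM : IsCoatom M) {x g : G} (hx1 : x ≠ 1)
    (h : x ∈ sigmaCore (cj g M)) :
    rr M x g ∈ supportR (cj (base M x) M) x ∧ cj (rr M x g) (cj (base M x) M) = cj g M :=
  Classical.epsilon_spec
    (p := fun r => r ∈ supportR (cj (base M x) M) x ∧ cj r (cj (base M x) M) = cj g M)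
    (sharp_base H hM hx1 h).exists

theorem mem_of_cj_eq (hG : IsMinSimpleOddOrder G) {M : Subgroup G} (hM : IsCoatom M) {g g' : G}
    (h : cj g M = cj g' M) : g⁻¹ * g' ∈ M := by
  have h1 : cj (g⁻¹ * g') M = M := by rw [cj_mul, ← h, cj_inv_cj]
  have h2 : g⁻¹ * g' ∈ normalizer (M : Set G) := mem_normalizer_iff_map_conj_eq.mpr h1
  rwa [Cfsg.Agent.Lib.Helper27BGa.normalizer_coatom hG hM] at h2

/-- the parametrisation of the cover -/
noncomputable def Phi (M : Subgroup G) (q : (G ⧸ M) × {a : G // a ∈ sigmaCore M ∧ a ≠ 1}) : G :=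
  (q.1.out * q.2.1 * q.1.out⁻¹) * rr M (q.1.out * q.2.1 * q.1.out⁻¹) q.1.out

theorem Phi_injective (hG : IsMinSimpleOddOrder G) (H : Hyp G) {M : Subgroup G} (hM : IsCoatom M) :
    Function.Injective (Phi M) := by
  rintro ⟨c, a, ha, ha1⟩ ⟨c', a', ha', ha1'⟩ h
  simp only [Phi] at h
  set g := c.out with hg
  set g' := c'.out with hg'
  have hx := conj_mem_sigmaCore ha g
  have hx' := conj_mem_sigmaCore ha' g'
  have hx1 := conj_ne_one ha1 g
  have hx1' := conj_ne_one ha1' g'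
  have s := rr_spec H hM hx1 hx
  have s' := rr_spec H hM hx1' hx'
  have e : g * a * g⁻¹ = g' * a' * g'⁻¹ :=
    cover_disjoint hG H (isCoatom_cj hM _) (isCoatom_cj hM _) (base_spec hx) (base_spec hx') hx1 hx1'
      s.1 s'.1 h
  rw [← e] at h s'
  have e2 := mul_left_cancel h
  have e3 : cj g M = cj g' M := by rw [← s.2, ← s'.2, e2]
  have e4 : c = c' := by
    rw [← Quotient.out_eq' c, ← Quotient.out_eq' c']
    exact QuotientGroup.eq.mpr (mem_of_cj_eq hG hM e3)
  subst e4
  have e5 : a = a' := by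
    have := mul_right_cancel e
    exact mul_left_cancel this
  subst e5
  rfl

theorem range_Phi (hG : IsMinSimpleOddOrder G) (H : Hyp G) {M : Subgroup G} (hM : IsCoatom M) :
    Set.range (Phi M) = tildeOf M ((sigmaCore M : Set G) \ {1}) := by
  ext z
  rw [mem_tilde_iff H hM]
  constructor
  · rintro ⟨⟨c, a, ha, ha1⟩, rfl⟩
    have hx := conj_mem_sigmaCore ha c.out
    have hx1 := conj_ne_one ha1 c.out
    exact ⟨_, _, _, base_spec hx, hx1, (rr_spec H hM hx1 hx).1, rfl⟩
  · rintro ⟨g, x, r, hx, hx1, hr, rfl⟩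
    set b := base M x with hb
    have hxb : x ∈ sigmaCore (cj b M) := base_spec hx
    have hMb := isCoatom_cj hM b
    have hr' : r ∈ supportR (cj b M) x := by
      have h1 := supportR_eq H hMb hxb hx1 (g * b⁻¹)
        (by rw [← cj_mul, inv_mul_cancel_right]; exact hx)
      rw [← cj_mul, inv_mul_cancel_right] at h1
      rwa [← h1]
    have hcomm := commute_of_mem_supportR hr'
    set c : G ⧸ M := ((r * b : G) : G ⧸ M) with hc
    obtain ⟨m, hm⟩ := QuotientGroup.mk_out_eq_mul M (r * b)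
    have hcj : cj c.out M = cj r (cj b M) := by
      rw [hc, hm, cj_mul, cj_eq_self_of_mem_normalizer (le_normalizer m.2), cj_mul]
    have hxc : x ∈ sigmaCore (cj c.out M) := by
      rw [hcj, sigmaCore_cj, mem_cj]
      have : r⁻¹ * x * r = x := by rw [mul_assoc, hcomm.eq, inv_mul_cancel_left]
      rw [this]; exact hxb
    have ha : c.out⁻¹ * x * c.out ∈ sigmaCore M := by
      rw [sigmaCore_cj, mem_cj] at hxc; exact hxc
    have ha1 : c.out⁻¹ * x * c.out ≠ 1 := by
      have := conj_ne_one hx1 c.out⁻¹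
      rwa [inv_inv] at this
    refine ⟨⟨c, ⟨_, ha, ha1⟩⟩, ?_⟩
    have e : c.out * (c.out⁻¹ * x * c.out) * c.out⁻¹ = x := by group
    simp only [Phi]
    rw [e]
    congr 1
    exact (sharp_base H hM hx1 hxc).unique (rr_spec H hM hx1 hxc) ⟨hr', hcj.symm⟩

/-- B-G 14.6: `|tilde(M_σ#)| = (|M_σ| - 1) |G : M|` -/
theorem ncard_tilde (hG : IsMinSimpleOddOrder G) (H : Hyp G) {M : Subgroup G} (hM : IsCoatom M) :
    Set.ncard (tildeOf M ((sigmaCore M : Set G) \ {1})) = (Nat.card (sigmaCore M) - 1) * M.index := by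
  rw [← range_Phi hG H hM, ← Set.image_univ, Set.ncard_image_of_injective _ (Phi_injective hG H hM),
    Set.ncard_univ, Nat.card_prod, mul_comm]
  congr 1
  have h1 : Nat.card {a : G // a ∈ sigmaCore M ∧ a ≠ 1}
      = Set.ncard ((sigmaCore M : Set G) \ {1}) := by
    rw [← Nat.card_coe_set_eq]
    rfl
  rw [h1, Set.ncard_sdiff_singleton_of_mem (one_mem _), ← Nat.card_coe_set_eq]
  rfl


/-- the covers of two maximal subgroups meet only if the subgroups are conjugate -/
theorem conj_of_mem_tilde (hG : IsMinSimpleOddOrder G) (H : Hyp G) {M N : Subgroup G}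
    (hM : IsCoatom M) (hN : IsCoatom N) {z : G} (h1 : z ∈ tildeOf M ((sigmaCore M : Set G) \ {1}))
    (h2 : z ∈ tildeOf N ((sigmaCore N : Set G) \ {1})) : ∃ g : G, N = cj g M := by
  rw [mem_tilde_iff H hM] at h1
  rw [mem_tilde_iff H hN] at h2
  obtain ⟨g, x, r, hx, hx1, hr, rfl⟩ := h1
  obtain ⟨g', y, s, hy, hy1, hs, h⟩ := h2
  have e := cover_disjoint hG H (isCoatom_cj hM g) (isCoatom_cj hN g') hx hy hx1 hy1 hr hs h
  subst e
  obtain ⟨p, hp, hpx⟩ := exists_prime_dvd_orderOf hx1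
  have h3 := piNum_orderOf hG (isCoatom_cj hM g) hx p hp hpx
  have h4 := piNum_orderOf hG (isCoatom_cj hN g') hy p hp hpx
  rw [sigma_cj] at h3 h4
  exact H.h78.2 M N hM hN ⟨p, h3, h4⟩

/-- B-G 14.6(b): the covers of nonconjugate maximal subgroups are disjoint -/
theorem tilde_disjoint (hG : IsMinSimpleOddOrder G) (H : Hyp G) {M N : Subgroup G}
    (hM : IsCoatom M) (hN : IsCoatom N) (hne : ∀ g : G, N ≠ cj g M) :
    tildeOf M ((sigmaCore M : Set G) \ {1}) ∩ tildeOf N ((sigmaCore N : Set G) \ {1}) = ∅ := by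
  rw [Set.eq_empty_iff_forall_notMem]
  rintro z ⟨h1, h2⟩
  obtain ⟨g, hg⟩ := conj_of_mem_tilde hG H hM hN h1 h2
  exact hne g hg

/-- the identity does not lie in a cover -/
theorem one_not_mem_tilde (hG : IsMinSimpleOddOrder G) (H : Hyp G) {M : Subgroup G}
    (hM : IsCoatom M) : (1 : G) ∉ tildeOf M ((sigmaCore M : Set G) \ {1}) := by
  rw [mem_tilde_iff H hM]
  rintro ⟨g, x, r, hx, hx1, hr, h⟩
  have hM' := isCoatom_cj hM g
  have e1 : orderOf (x * r) = orderOf x * orderOf r :=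
    (commute_of_mem_supportR hr).orderOf_mul_eq_mul_orderOf_of_coprime
      (coprime_supp hG H hM' hx hx1 hr (piNum_orderOf hG hM' hx)).symm
  rw [← h, orderOf_one] at e1
  exact hx1 (orderOf_eq_one_iff.mp (Nat.eq_one_of_mul_eq_one_right e1.symm))

/-- covers are invariant under conjugation -/
theorem conj_mem_tilde {M : Subgroup G} {A : Set G} {z : G} (h : z ∈ tildeOf M A) (t : G) :
    t * z * t⁻¹ ∈ tildeOf M A := by
  obtain ⟨a, ha, r, hr, y, rfl⟩ := h
  exact ⟨a, ha, r, hr, t * y, by group⟩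

end Cfsg.Agent.Lib.Helper24BGCover2
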