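import Mathlib
import Cfsg.Agent.Lib.Helper52BG14Defs
import Cfsg.Agent.Lib.Helper24BGCoverHyp
import Cfsg.Agent.Lib.Helper24BGCover2
import Cfsg.Agent.Lib.Helper37BGPart
import Cfsg.Agent.Lib.Helper31BGS
import Cfsg.Agent.Lib.Helper14BG14kuniq
import Cfsg.Agent.Lib.Helper3BG14comp
import Cfsg.Agent.Lib.Helper17BG14hat
import Cfsg.Agent.Lib.Helper17BG14primeK
import Cfsg.Agent.Lib.Helper3BG14count

/-!
PROJECT 14, wave 2, piece `notallP1`, in RELATIVE form: the wave-2 pieces used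
(`card_sup_Ks`, `three_mul_le`, `comp_*`, `hat_*`, `card_eq_of_noU`, `count_abstract` at `X := G`)
are the fields of the hypothesis `Deps G`.
-/

set_option autoImplicit false

namespace Cfsg.Agent.Lib.Helper1BG14notallP1

open Cfsg Subgroup
open Cfsg.Agent.Lib.Helper30Trans Cfsg.Agent.Lib.Helper24BG Cfsg.Agent.Lib.Helper52BG14Defs

variable {G : Type*} [Group G] [Finite G]

/-- the statements of the wave-2 pieces used by `notallP1` -/
structure Deps (G : Type*) [Group G] [Finite G] : Prop where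
  card_sup_Ks : ∀ {M K : Subgroup G}, PT M K →
    Nat.card (K ⊔ Ks M K : Subgroup G) = Nat.card K * Nat.card (Ks M K) ∧
      (Nat.card K).Coprime (Nat.card (Ks M K))
  three_mul_le : ∀ {M K : Subgroup G}, PT M K →
    3 * Nat.card (Ks M K) ≤ Nat.card (sigmaCore M)
  comp_self : ∀ {M K : Subgroup G}, PT M K → Comp (K ⊔ Ks M K) M
  comp_of_prime : ∀ {M K : Subgroup G}, PT M K → ∀ {X : Subgroup G}, X ≤ K ⊔ Ks M K →
    (Nat.card X).Prime → ∃ L : Subgroup G, Comp (K ⊔ Ks M K) L ∧ X ≤ sigmaCore L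
  comp_struct : ∀ {M K : Subgroup G}, PT M K → ∀ {L : Subgroup G}, Comp (K ⊔ Ks M K) L →
    ∃ K' : Subgroup G, PT L K' ∧ K' ⊔ Ks L K' = K ⊔ Ks M K ∧
      (K ⊔ Ks M K) ⊓ sigmaCore L = Ks L K'
  comp_inf : ∀ {M K : Subgroup G}, PT M K → ∀ {L L' : Subgroup G}, Comp (K ⊔ Ks M K) L →
    Comp (K ⊔ Ks M K) L' → L ≠ L' → (∀ g : G, L' ≠ cj g L) ∧ L ⊓ L' = K ⊔ Ks M K
  hat_ti : ∀ {M K : Subgroup G}, PT M K → ∀ {d g : G}, d ∈ K ⊔ Ks M K →
    (∀ L : Subgroup G, Comp (K ⊔ Ks M K) L → d ∉ sigmaCore L) →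
    g * d * g⁻¹ ∈ K ⊔ Ks M K → g ∈ K ⊔ Ks M K
  hat_not_tilde : ∀ {M K : Subgroup G}, PT M K → ∀ {d : G}, d ∈ K ⊔ Ks M K →
    (∀ L : Subgroup G, Comp (K ⊔ Ks M K) L → d ∉ sigmaCore L) →
    ∀ {N : Subgroup G}, IsCoatom N → ∀ y : G,
      y * d * y⁻¹ ∉ tildeOf N ((sigmaCore N : Set G) \ {1})
  card_eq_of_noU : ∀ {M K : Subgroup G}, PT M K → NoU M →
    Nat.card M = Nat.card (sigmaCore M) * Nat.card K
  count_abstract : ∀ (D : Subgroup G)
    (I : Finset (Subgroup G)) (S : Subgroup G → Subgroup G) (T : Subgroup G → Set G),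
    2 ≤ I.card →
    (∀ d ∈ D, (∀ L ∈ I, d ∉ S L) → ∀ g : G, g * d * g⁻¹ ∈ D → g ∈ D) →
    (∀ L ∈ I, (1 : G) ∉ T L) →
    (∀ L ∈ I, ∀ L' ∈ I, L ≠ L' → T L ∩ T L' = ∅) →
    (∀ L ∈ I, ∀ d ∈ D, (∀ L' ∈ I, d ∉ S L') → ∀ y : G, y * d * y⁻¹ ∉ T L) →
    (∀ L ∈ I, (T L).ncard * (Nat.card (S L) * Nat.card D) =
      (Nat.card (S L) - 1) * Nat.card (D ⊓ S L : Subgroup G) * Nat.card G) →
    (∀ L ∈ I, 3 * Nat.card (D ⊓ S L : Subgroup G) ≤ Nat.card (S L)) → False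

theorem exists_comp_not_noU_of (W : Deps G) (hG : IsMinSimpleOddOrder G) {M K : Subgroup G}
    (h : PT M K) : ∃ L : Subgroup G, Comp (K ⊔ Ks M K) L ∧ ¬ NoU L := by
  by_contra hcon
  push Not at hcon
  have H := Cfsg.Agent.Lib.Helper24BGCoverHyp.hyp hG
  set D : Subgroup G := K ⊔ Ks M K with hD
  let I : Finset (Subgroup G) := (Set.toFinite {L : Subgroup G | Comp D L}).toFinset
  have hI : ∀ L : Subgroup G, L ∈ I ↔ Comp D L := fun L => by
    simp only [I, Set.Finite.mem_toFinset, Set.mem_ofPred_eq]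
  -- two components
  have hI2 : 2 ≤ I.card := by
    have hc : Nat.card K ≠ 1 := fun hc => h.ne (Subgroup.card_eq_one.mp hc)
    obtain ⟨p, hp, hd⟩ := Nat.exists_prime_and_dvd hc
    have := Fact.mk hp
    obtain ⟨z, hz, hz1, hzc⟩ := Cfsg.Agent.Lib.Helper37BGPart.exists_card_prime_le hd
    have hXK : zpowers z ≤ K := zpowers_le.mpr hz
    obtain ⟨L, hL, hXL⟩ := W.comp_of_prime h (hXK.trans le_sup_left) (by rw [hzc]; exact hp)
    refine Finset.one_lt_card.2 ⟨M, (hI M).2 (W.comp_self h), L, (hI L).2 hL, ?_⟩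
    rintro rfl
    have h1 : p ∣ Nat.card (sigmaCore M) := by
      rw [← hzc]
      exact card_dvd_of_le hXL
    exact (h.hall.2.1 p hp hd).2.2.1
      (Cfsg.Agent.Lib.Helper31BGS.mem_sigma_of_dvd_sigmaCore hG h.max hp h1)
  refine W.count_abstract D I sigmaCore (fun L => tildeOf L ((sigmaCore L : Set G) \ {1})) hI2
    ?_ ?_ ?_ ?_ ?_ ?_
  · intro d hd hd' g hg
    exact W.hat_ti h hd (fun L hL => hd' L ((hI L).2 hL)) hg
  · intro L hL
    exact Cfsg.Agent.Lib.Helper24BGCover2.one_not_mem_tilde hG H ((hI L).1 hL).1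
  · intro L hL L' hL' hne
    exact Cfsg.Agent.Lib.Helper24BGCover2.tilde_disjoint hG H ((hI L).1 hL).1 ((hI L').1 hL').1
      (W.comp_inf h ((hI L).1 hL) ((hI L').1 hL') hne).1
  · intro L hL d hd hd' y
    exact W.hat_not_tilde h hd (fun L' hL' => hd' L' ((hI L').2 hL')) ((hI L).1 hL).1 y
  · intro L hL
    have hcL := (hI L).1 hL
    obtain ⟨K', hPT, hsup, hinf⟩ := W.comp_struct h hcL
    have e1 := Cfsg.Agent.Lib.Helper24BGCover2.ncard_tilde hG H hcL.1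
    have e2 := W.card_eq_of_noU hPT (hcon L hcL)
    have e3 := (W.card_sup_Ks hPT).1
    have e4 : L.index * Nat.card L = Nat.card G := L.index_mul_card
    rw [hsup] at e3
    show (tildeOf L ((sigmaCore L : Set G) \ {1})).ncard * (Nat.card (sigmaCore L) * Nat.card D) =
      (Nat.card (sigmaCore L) - 1) * Nat.card (D ⊓ sigmaCore L : Subgroup G) * Nat.card G
    rw [e1, hinf, e3, ← e4, e2]
    ring
  · intro L hL
    have hcL := (hI L).1 hL
    obtain ⟨K', hPT, hsup, hinf⟩ := W.comp_struct h hcL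
    show 3 * Nat.card (D ⊓ sigmaCore L : Subgroup G) ≤ Nat.card (sigmaCore L)
    rw [hinf]
    exact W.three_mul_le hPT

/-- the exact form of piece `notallP1` (added by helper52 from the landed pieces) -/
theorem exists_comp_not_noU (hG : IsMinSimpleOddOrder G) {M K : Subgroup G} (h : PT M K) :
    ∃ L : Subgroup G, Comp (K ⊔ Ks M K) L ∧ ¬ NoU L :=
  exists_comp_not_noU_of
    ⟨fun h => Cfsg.Agent.Lib.Helper14BG14kuniq.card_sup_Ks hG h,
      fun h => Cfsg.Agent.Lib.Helper14BG14kuniq.three_mul_le hG h,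
      fun h => Cfsg.Agent.Lib.Helper3BG14comp.comp_self hG h,
      fun h _ hX hXp => Cfsg.Agent.Lib.Helper3BG14comp.comp_of_prime hG h hX hXp,
      fun h _ hL => Cfsg.Agent.Lib.Helper3BG14comp.comp_struct hG h hL,
      fun h _ _ hL hL' hne => Cfsg.Agent.Lib.Helper3BG14comp.comp_inf hG h hL hL' hne,
      fun h _ _ hd hd' hg => Cfsg.Agent.Lib.Helper17BG14hat.hat_ti hG h hd hd' hg,
      fun h _ hd hd' _ hN y => Cfsg.Agent.Lib.Helper17BG14hat.hat_not_tilde hG h hd hd' hN y,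
      fun h hU => Cfsg.Agent.Lib.Helper17BG14primeK.card_eq_of_noU hG h hU,
      fun D I S T => Cfsg.Agent.Lib.Helper3BG14count.count_abstract D I S T⟩ hG h

end Cfsg.Agent.Lib.Helper1BG14notallP1
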