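import Mathlib
import Cfsg.Agent.Lib.Helper52BG14
import Cfsg.Agent.Lib.Helper52BG14Defs
import Cfsg.Agent.Lib.Helper14BG14kuniq
import Cfsg.Agent.Lib.Helper27BG14pair
import Cfsg.Agent.Lib.Helper3BG14comp
import Cfsg.Agent.Lib.Helper17BG14primeK
import Cfsg.Agent.Lib.Helper1BG14notallP1

/-!
# Project 14, wave 2, piece `twocomp`.
-/

set_option autoImplicit false
set_option linter.unusedSectionVars false
set_option linter.unusedVariables false

namespace Cfsg.Agent.Lib.Helper14BG14twocomp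

open Cfsg Subgroup
open Cfsg.Agent.Lib.Helper30Trans Cfsg.Agent.Lib.Helper24BG Cfsg.Agent.Lib.Helper52BG14Defs
open Cfsg.Agent.Lib.Helper14BG14kuniq Cfsg.Agent.Lib.Helper27BG14pair
  Cfsg.Agent.Lib.Helper3BG14comp Cfsg.Agent.Lib.Helper17BG14primeK
  Cfsg.Agent.Lib.Helper1BG14notallP1

variable {G : Type*} [Group G] [Finite G]

/-- `M*` is a component of `K K*`, different from `M` -/
theorem comp_partner (hG : IsMinSimpleOddOrder G) {M K : Subgroup G} (h : PT M K) {X : Subgroup G}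
    (hXK : X ≤ K) (hX : (Nat.card X).Prime) {Ms : Subgroup G} (hMs : IsCoatom Ms)
    (hN : normalizer (X : Set G) ≤ Ms) : Comp (K ⊔ Ks M K) Ms ∧ Ms ≠ M := by
  obtain ⟨K₁, hPT, hnc, -, -, -, hXs, -, hinf, -⟩ := pair hG h hXK hX hMs hN
  refine ⟨⟨hMs, hinf ▸ inf_le_right, ?_⟩, ?_⟩
  · intro hb
    have h1 : X ≤ (K ⊔ Ks M K) ⊓ sigmaCore Ms :=
      le_inf (hXK.trans le_sup_left) (hXs.trans inf_le_left)
    rw [hb, le_bot_iff] at h1
    rw [h1, card_bot] at hX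
    exact Nat.not_prime_one hX
  · intro he
    exact hnc 1 (by rw [cj_one]; exact he)

theorem comp_eq_or (hG : IsMinSimpleOddOrder G) {M K : Subgroup G} (h : PT M K) {X : Subgroup G}
    (hXK : X ≤ K) (hX : (Nat.card X).Prime) {Ms : Subgroup G} (hMs : IsCoatom Ms)
    (hN : normalizer (X : Set G) ≤ Ms) {L : Subgroup G} (hL : Comp (K ⊔ Ks M K) L) :
    L = M ∨ L = Ms := by
  obtain ⟨L₀, hL₀, hnoU⟩ := exists_comp_not_noU hG h
  obtain ⟨K₀, hPT₀, hsup₀, hinf₀⟩ := comp_struct hG h hL₀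
  have hp₀ : (Nat.card K₀).Prime := card_prime_of_not_noU hG hPT₀ hnoU
  have hcard : Nat.card (K ⊔ Ks M K : Subgroup G) = Nat.card K₀ * Nat.card (Ks L₀ K₀) := by
    rw [← hsup₀]
    exact (card_sup_Ks hG hPT₀).1
  -- Claim A
  have hA : ∀ L' : Subgroup G, Comp (K ⊔ Ks M K) L' → L' ≠ L₀ → Nat.card K₀ ∈ sigma L' := by
    intro L' hL' hne
    have hc1 : Nat.card ((K ⊔ Ks M K) ⊓ sigmaCore L' : Subgroup G) ≠ 1 :=
      fun h' => hL'.2.2 (card_eq_one.mp h')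
    obtain ⟨r, hr, hrd⟩ := Nat.exists_prime_and_dvd hc1
    have hrσ : r ∈ sigma L' :=
      Cfsg.Agent.Lib.Helper2BGb.card_sigmaCore L' r hr (hrd.trans (card_dvd_of_le inf_le_right))
    have hrD : r ∣ Nat.card K₀ * Nat.card (Ks L₀ K₀) := by
      rw [← hcard]
      exact hrd.trans (card_dvd_of_le inf_le_left)
    rcases (Nat.Prime.dvd_mul hr).mp hrD with h1 | h1
    · rw [← (Nat.prime_dvd_prime_iff_eq hr hp₀).mp h1]
      exact hrσ
    · exfalso
      have hrσ₀ : r ∈ sigma L₀ :=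
        Cfsg.Agent.Lib.Helper2BGb.card_sigmaCore L₀ r hr (h1.trans (card_dvd_of_le inf_le_left))
      obtain ⟨g, hg⟩ := Cfsg.Agent.Lib.Helper37BGPart.sigma_conj hG hL₀.1 hL'.1 hrσ₀ hrσ
      exact (comp_inf hG h hL₀ hL' hne.symm).1 g hg
  -- Claim B
  have hB : ∀ L' L'' : Subgroup G, Comp (K ⊔ Ks M K) L' → Comp (K ⊔ Ks M K) L'' → L' ≠ L₀ →
      L'' ≠ L₀ → L' = L'' := by
    intro L' L'' hL' hL'' h1 h2
    by_contra hne
    obtain ⟨g, hg⟩ := Cfsg.Agent.Lib.Helper37BGPart.sigma_conj hG hL'.1 hL''.1 (hA L' hL' h1)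
      (hA L'' hL'' h2)
    exact (comp_inf hG h hL' hL'' hne).1 g hg
  have hM : Comp (K ⊔ Ks M K) M := comp_self hG h
  obtain ⟨hMsC, hMsne⟩ := comp_partner hG h hXK hX hMs hN
  by_cases h0 : L₀ = M
  · by_cases h1 : L = L₀
    · left; rw [h1, h0]
    · right
      exact hB L Ms hL hMsC h1 (by rw [h0]; exact hMsne)
  · by_cases h1 : L = L₀
    · right
      by_contra h2
      have h3 : Ms ≠ L₀ := fun h' => h2 (by rw [h1, h'])
      exact hMsne (hB Ms M hMsC hM h3 (fun h' => h0 h'.symm))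
    · left
      exact hB L M hL hM h1 (fun h' => h0 h'.symm)

end Cfsg.Agent.Lib.Helper14BG14twocomp
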