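import Mathlib
import Cfsg.Agent.Lib.Helper14BG14twocomp

/-!
# Project 14, wave 2, piece `pairmain` (B-G 14.7 (b),(c),(f)).
-/

set_option autoImplicit false
set_option linter.unusedSectionVars false
set_option linter.unusedVariables false

namespace Cfsg.Agent.Lib.Helper14BG14pairmain

open Cfsg Subgroup
open Cfsg.Agent.Lib.Helper30Trans Cfsg.Agent.Lib.Helper24BG Cfsg.Agent.Lib.Helper52BG14Defs
open Cfsg.Agent.Lib.Helper14BG14kuniq Cfsg.Agent.Lib.Helper27BG14pair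
  Cfsg.Agent.Lib.Helper3BG14comp Cfsg.Agent.Lib.Helper17BG14primeK
  Cfsg.Agent.Lib.Helper1BG14notallP1 Cfsg.Agent.Lib.Helper14BG14twocomp

variable {G : Type*} [Group G] [Finite G]

theorem pair_main (hG : IsMinSimpleOddOrder G) {M K : Subgroup G} (h : PT M K) {X : Subgroup G}
    (hXK : X ≤ K) (hX : (Nat.card X).Prime) {Ms : Subgroup G} (hMs : IsCoatom Ms)
    (hN : normalizer (X : Set G) ≤ Ms) :
    PT Ms (Ks M K) ∧ Ks Ms (Ks M K) = K ∧ M ⊓ Ms = K ⊔ Ks M K ∧ (∀ g : G, Ms ≠ cj g M) ∧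
      (¬ NoU M ∨ ¬ NoU Ms) := by
  obtain ⟨K₁, hPT₁, hnc, hσM, hσMs, hKsK₁, hXs, hKs₁K, hinf, hsup⟩ := pair hG h hXK hX hMs hN
  -- all primes of `|K|` are in `σ(Ms)`
  have h1 : ∀ r : ℕ, r.Prime → r ∣ Nat.card K → r ∈ sigma Ms := by
    intro r hr hrd
    have := Fact.mk hr
    obtain ⟨z, hz, -, hzc⟩ := Cfsg.Agent.Lib.Helper37BGPart.exists_card_prime_le hrd
    have hzK : zpowers z ≤ K := zpowers_le.mpr hz
    obtain ⟨L, hL, hzL⟩ := comp_of_prime hG h (hzK.trans le_sup_left) (by rw [hzc]; exact hr)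
    have hrL : r ∈ sigma L := by
      apply Cfsg.Agent.Lib.Helper2BGb.card_sigmaCore L r hr
      rw [← hzc]
      exact card_dvd_of_le hzL
    rcases comp_eq_or hG h hXK hX hMs hN hL with he | he
    · exfalso
      rw [he] at hrL
      exact (h.hall.2.1 r hr hrd).2.2.1 hrL
    · rw [he] at hrL
      exact hrL
  have hKMs : K ≤ Ms := (le_sup_left : K ≤ K ⊔ Ks M K).trans (hinf ▸ inf_le_right)
  have h2 : K ≤ sigmaCore Ms := Cfsg.Agent.Lib.Helper30BG2.le_sigmaCore hG hMs hKMs h1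
  have h3 : Ks Ms K₁ = K :=
    le_antisymm hKs₁K (by rw [← hσMs]; exact le_inf h2 h.hall.1)
  have h4 : K₁ = Ks M K := by
    have c1 := (card_sup_Ks hG hPT₁).1
    have c2 := (card_sup_Ks hG h).1
    rw [hsup, c2, h3, mul_comm] at c1
    have c3 : Nat.card (Ks M K) = Nat.card K₁ := Nat.eq_of_mul_eq_mul_right Nat.card_pos c1
    exact (eq_of_le_of_card_ge hKsK₁ c3.ge).symm
  subst h4
  refine ⟨hPT₁, h3, hinf, hnc, ?_⟩
  obtain ⟨L, hL, hnoU⟩ := exists_comp_not_noU hG h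
  rcases comp_eq_or hG h hXK hX hMs hN hL with he | he
  · left; rw [← he]; exact hnoU
  · right; rw [← he]; exact hnoU

end Cfsg.Agent.Lib.Helper14BG14pairmain
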