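import Mathlib
import Cfsg.Agent.Lib.Helper14BG14pairmain

/-!
# Project 14, wave 2, piece `partner` (identification of the `M*` of the rows).
-/

set_option autoImplicit false
set_option linter.unusedSectionVars false
set_option linter.unusedVariables false

namespace Cfsg.Agent.Lib.Helper14BG14partner

open Cfsg Subgroup
open Cfsg.Agent.Lib.Helper30Trans Cfsg.Agent.Lib.Helper24BG Cfsg.Agent.Lib.Helper52BG14Defs
open Cfsg.Agent.Lib.Helper14BG14kuniq Cfsg.Agent.Lib.Helper14BG14pairmain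

variable {G : Type*} [Group G] [Finite G]

theorem ne_bot_of_prime {X : Subgroup G} (hX : (Nat.card X).Prime) : X ≠ ⊥ := by
  intro h
  rw [h, card_bot] at hX
  exact Nat.not_prime_one hX

/-- the hypotheses on `M*` used in the rows S1367-S1369, S1434, S1435 determine `M*` -/
theorem partner_iff (hG : IsMinSimpleOddOrder G) {M K : Subgroup G} (h : PT M K) {Ms : Subgroup G}
    (hMs : IsCoatom Ms) :
    (K = sigmaCore Ms ⊓ centralizer ((Ks M K : Subgroup G) : Set G) ∧
      IsPiHallOf (kappa Ms) (Ks M K) Ms) ↔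
    ∀ X : Subgroup G, X ≤ K → (Nat.card X).Prime → normalizer (X : Set G) ≤ Ms := by
  constructor
  · rintro ⟨hK, hhall⟩ X hXK hX
    have hX1 : X ≠ ⊥ := ne_bot_of_prime hX
    have hXσ : X ≤ sigmaCore Ms := hXK.trans (hK.le.trans inf_le_left)
    have hp : Nat.card X ∈ sigma Ms :=
      Cfsg.Agent.Lib.Helper2BGb.card_sigmaCore Ms _ hX (card_dvd_of_le hXσ)
    have hXtop : X ≠ ⊤ := by
      intro ht
      have : K = ⊤ := top_le_iff.mp (ht ▸ hXK)
      exact h.max.1 (top_le_iff.mp (this ▸ h.hall.1))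
    obtain ⟨MX, hMX, hNMX⟩ := exists_coatom (norm_ne_top hG hX1 hXtop)
    obtain ⟨hPT, hKs, -, -, -⟩ := pair_main hG h hXK hX hMX hNMX
    have hXKs : X ≤ Ks MX (Ks M K) := by rw [hKs]; exact hXK
    have hp' : Nat.card X ∈ sigma MX :=
      Cfsg.Agent.Lib.Helper2BGb.card_sigmaCore MX _ hX (card_dvd_of_le (hXKs.trans inf_le_left))
    obtain ⟨g, hg⟩ := Cfsg.Agent.Lib.Helper37BGPart.sigma_conj hG hMX hMs hp' hp
    have h1 : cj g⁻¹ X ≤ MX := by
      rw [cj_le_iff, inv_inv, ← hg]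
      exact hXσ.trans (Cfsg.Agent.Lib.Helper2BGb.sigmaCore_le Ms)
    have h2 : g⁻¹ ∈ MX := mem_of_cj_le hG hPT hXKs hX1 h1
    have h3 : g ∈ MX := by simpa using MX.inv_mem h2
    rw [hg, Cfsg.Agent.Lib.Helper2BGa.cj_eq_self_of_mem h3]
    exact hNMX
  · intro hall
    have hc1 : Nat.card K ≠ 1 := fun h' => h.ne (card_eq_one.mp h')
    obtain ⟨r, hr, hrd⟩ := Nat.exists_prime_and_dvd hc1
    have := Fact.mk hr
    obtain ⟨z, hz, -, hzc⟩ := Cfsg.Agent.Lib.Helper37BGPart.exists_card_prime_le hrd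
    have hzK : zpowers z ≤ K := zpowers_le.mpr hz
    have hzp : (Nat.card (zpowers z)).Prime := by rw [hzc]; exact hr
    obtain ⟨hPT, hKs, -, -, -⟩ := pair_main hG h hzK hzp hMs (hall _ hzK hzp)
    exact ⟨hKs.symm, hPT.hall⟩

end Cfsg.Agent.Lib.Helper14BG14partner
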