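import Mathlib
import Cfsg.Agent.Lib.Helper2BGb
import Cfsg.Agent.Lib.Helper31BGS
import Cfsg.Agent.Lib.Helper30SZ
import Cfsg.Agent.S1430

/-!
PROJECT 16 (B-G Section 16 corollary rows): the standard factorisation `M = K U M_σ`.
-/

set_option autoImplicit false
set_option linter.unusedSectionVars false

namespace Cfsg.Agent.Lib.Helper21BG16

open Cfsg Subgroup
open Cfsg.Agent.Lib.Helper30Trans Cfsg.Agent.Lib.Helper24BG
open Cfsg.Agent.Lib.Helper2BGa Cfsg.Agent.Lib.Helper2BGb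

universe u
variable {G : Type u} [Group G] [Finite G]

theorem le_normalizer_sup {X A B : Subgroup G} (hA : X ≤ normalizer (A : Set G))
    (hB : X ≤ normalizer (B : Set G)) : X ≤ normalizer ((A ⊔ B : Subgroup G) : Set G) := by
  intro x hx
  rw [Cfsg.Agent.Lib.Helper14Sylow.mem_normalizer_iff_cj]
  have h1 := Cfsg.Agent.Lib.Helper14Sylow.mem_normalizer_iff_cj.mp (hA hx)
  have h2 := Cfsg.Agent.Lib.Helper14Sylow.mem_normalizer_iff_cj.mp (hB hx)
  show (A ⊔ B).map _ = _
  rw [Subgroup.map_sup]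
  exact congrArg₂ _ h1 h2

/-- `U M_σ` is normal in `M` (second half of S1352). -/
theorem normal_UMs {M K U : Subgroup G} (hKU : IsSigmaDecomposition M K U) :
    M ≤ normalizer ((U ⊔ sigmaCore M : Subgroup G) : Set G) := by
  obtain ⟨hUM, hKM, -, hprod⟩ := hKU.compl
  have hK : K ≤ normalizer ((U ⊔ sigmaCore M : Subgroup G) : Set G) :=
    le_normalizer_sup hKU.normal ((le_sup_left.trans hKM).trans (le_normalizer_sigmaCore M))
  have hMs : sigmaCore M ≤ normalizer ((U ⊔ sigmaCore M : Subgroup G) : Set G) :=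
    le_sup_right.trans le_normalizer
  have hU : U ≤ normalizer ((U ⊔ sigmaCore M : Subgroup G) : Set G) :=
    le_sup_left.trans le_normalizer
  intro m hm
  obtain ⟨a, ha, b, hb, rfl⟩ := hprod m hm
  exact mul_mem (hU ha) ((sup_le hK hMs) hb)

theorem coprime_of_primes {a b : ℕ} (h : ∀ q : ℕ, q.Prime → q ∣ a → q ∣ b → False) :
    a.Coprime b := by
  rw [Nat.coprime_iff_gcd_eq_one]
  by_contra hne
  obtain ⟨q, hq, hqd⟩ := Nat.exists_prime_and_dvd hne
  exact h q hq (hqd.trans (Nat.gcd_dvd_left _ _)) (hqd.trans (Nat.gcd_dvd_right _ _))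

theorem coprime_K_Ms {M K : Subgroup G} (hK : IsPiHallOf (kappa M) K M) :
    (Nat.card K).Coprime (Nat.card (sigmaCore M)) :=
  coprime_of_primes (fun q hq h1 h2 => (hK.2.1 q hq h1).2.2.1 (card_sigmaCore M q hq h2))

theorem card_KMs {M K : Subgroup G} (hK : IsPiHallOf (kappa M) K M) :
    Nat.card ↥(K ⊔ sigmaCore M) = Nat.card (sigmaCore M) * Nat.card K := by
  rw [sup_comm]
  exact Cfsg.Agent.Lib.Helper30SZ.card_sup (hK.1.trans (le_normalizer_sigmaCore M)) (coprime_K_Ms hK)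

/-- a Hall subgroup for the primes outside `κ(M) ∪ σ(M)` normalized by `K` gives a standard
factorisation. -/
theorem decomposition_of_hall (hG : IsMinSimpleOddOrder G) {M K U : Subgroup G} (hM : IsCoatom M)
    (hKc : IsCyclic K) (hK : IsPiHallOf (kappa M) K M)
    (hU : IsPiHallOf {q | q.Prime ∧ q ∉ kappa M ∧ q ∉ sigma M} U M)
    (hKU : K ≤ normalizer (U : Set G)) : IsSigmaDecomposition M K U := by
  have hMsM := sigmaCore_le M
  have hcop : (Nat.card (K ⊔ sigmaCore M : Subgroup G)).Coprime (Nat.card U) := by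
    rw [card_KMs hK]
    apply coprime_of_primes
    intro q hq h1 h2
    obtain ⟨-, h3, h4⟩ := hU.2.1 q hq h2
    rcases (Nat.Prime.dvd_mul hq).mp h1 with h | h
    · exact h4 (card_sigmaCore M q hq h)
    · exact h3 (hK.2.1 q hq h)
  refine ⟨hKc, hK, ⟨hU.1, sup_le hK.1 hMsM,
    Cfsg.Agent.Lib.Helper30SZ.inf_eq_bot_of_coprime hcop, ?_⟩, hKU⟩
  set T := sigmaCore M ⊔ (U ⊔ K) with hT
  have hTM : T ≤ M := sup_le hMsM (sup_le hU.1 hK.1)
  have hidx : T.relIndex M = 1 := by
    by_contra hne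
    obtain ⟨q, hq, hqd⟩ := Nat.exists_prime_and_dvd hne
    by_cases h1 : q ∈ sigma M
    · exact (Cfsg.Agent.S1350.result hG M hM).1.2.2 q hq h1
        (hqd.trans (relIndex_dvd_of_le_left M le_sup_left))
    by_cases h2 : q ∈ kappa M
    · exact hK.2.2 q hq h2
        (hqd.trans (relIndex_dvd_of_le_left M (le_sup_right.trans le_sup_right)))
    · exact hU.2.2 q hq ⟨hq, h2, h1⟩
        (hqd.trans (relIndex_dvd_of_le_left M (le_sup_left.trans le_sup_right)))
  rw [relIndex_eq_one] at hidx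
  intro m hm
  obtain ⟨s, hs, e, he, rfl⟩ := (Cfsg.Agent.Lib.Helper30SZ.mem_sup_iff
    ((sup_le hU.1 hK.1).trans (le_normalizer_sigmaCore M))).mp (hidx hm)
  obtain ⟨u, hu, k, hk, rfl⟩ := (Cfsg.Agent.Lib.Helper30SZ.mem_sup_iff hKU).mp he
  refine ⟨u, hu, (u⁻¹ * s * u) * k, ?_, by group⟩
  apply mul_mem _ (mem_sup_left hk)
  apply mem_sup_right
  have hun : u⁻¹ ∈ normalizer (sigmaCore M : Set G) :=
    inv_mem ((hU.1.trans (le_normalizer_sigmaCore M)) hu)
  have := (mem_normalizer_iff.mp hun s).mp hs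
  simpa using this

/-- existence of a standard factorisation (first half of S1352). -/
theorem exists_decomposition (hG : IsMinSimpleOddOrder G) {M K : Subgroup G} (hM : IsCoatom M)
    (hKc : IsCyclic K) (hK : IsPiHallOf (kappa M) K M) : ∃ U : Subgroup G,
    IsSigmaDecomposition M K U := by
  by_cases hK1 : K = ⊥
  · obtain ⟨E, hE, -⟩ := Cfsg.Agent.Lib.Helper31BGS.exists_compl_ge hG hM (X := ⊥) bot_le (by
      intro p hp hd
      rw [card_bot] at hd
      exact absurd (Nat.dvd_one.mp hd) hp.one_lt.ne')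
    refine ⟨E, hKc, hK, ?_, ?_⟩
    · rw [hK1, bot_sup_eq]; exact hE
    · rw [hK1]; exact bot_le
  · obtain ⟨-, ⟨U, -, hU, hKU, -⟩, -⟩ := Cfsg.Agent.S1430.result hG M hM K hK hK1
    exact ⟨U, decomposition_of_hall hG hM hKc hK hU hKU⟩

end Cfsg.Agent.Lib.Helper21BG16
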