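import Mathlib
import Cfsg.Agent.Lib.Helper52BG14
import Cfsg.Agent.Lib.Helper52BG14Defs
import Cfsg.Agent.Lib.Helper37BG14kbasic
import Cfsg.Agent.Lib.Helper65RelHall
import Cfsg.Agent.Lib.Helper21BG16
import Cfsg.Agent.Lib.Helper2BGa
import Cfsg.Agent.Lib.Helper30SZ
import Cfsg.Agent.S1429

/-!
PROJECT 14, wave 2, piece `cyc` (B-G 14.7 (c),(d)), in RELATIVE form: the wave-2 pieces
`pair_main` and `card_prime_of_not_noU` are hypotheses (`PairMain G`, `PrimeK G`).
-/

set_option autoImplicit false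

namespace Cfsg.Agent.Lib.Helper1BG14cyc

open Cfsg Subgroup
open Cfsg.Agent.Lib.Helper30Trans Cfsg.Agent.Lib.Helper24BG Cfsg.Agent.Lib.Helper52BG14Defs

variable {G : Type*} [Group G] [Finite G]

/-- the statement of the piece `pairmain` -/
def PairMain (G : Type*) [Group G] : Prop :=
  ∀ {M K : Subgroup G}, PT M K → ∀ {X : Subgroup G}, X ≤ K → (Nat.card X).Prime →
    ∀ {Ms : Subgroup G}, IsCoatom Ms → normalizer (X : Set G) ≤ Ms →
    PT Ms (Ks M K) ∧ Ks Ms (Ks M K) = K ∧ M ⊓ Ms = K ⊔ Ks M K ∧ (∀ g : G, Ms ≠ cj g M) ∧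
      (¬ NoU M ∨ ¬ NoU Ms)

/-- the statement of the first half of the piece `primeK` -/
def PrimeK (G : Type*) [Group G] : Prop :=
  ∀ {M K : Subgroup G}, PT M K → ¬ NoU M → (Nat.card K).Prime

/-- a subgroup of `M` all of whose prime divisors lie in `κ(M)` has cyclic Sylow subgroups -/
theorem isZGroup_of_kappa {M Y : Subgroup G} (hYM : Y ≤ M)
    (hY : ∀ p : ℕ, p.Prime → p ∣ Nat.card Y → p ∈ kappa M) : IsZGroup Y := by
  refine ⟨fun q hq Q => ?_⟩
  have := Fact.mk hq
  by_cases hd : q ∣ Nat.card Y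
  · have hk := hY q hq hd
    obtain ⟨-, -, -, h4⟩ := Cfsg.Agent.Lib.Helper37BG14kbasic.mem_kappa_iff.mp hk
    have hQ : IsPGroup q ((Q : Subgroup Y).map Y.subtype) := Q.2.map _
    obtain ⟨S, hS, hQS⟩ := exists_isSyl_ge ((map_subtype_le _).trans hYM) hQ
    have hc := (h4 S hS).1
    have h2 : IsCyclic ((Q : Subgroup Y).map Y.subtype) := Subgroup.isCyclic_of_le hQS
    exact isCyclic_of_surjective _
      ((Q : Subgroup Y).equivMapOfInjective Y.subtype Y.subtype_injective).symm.surjective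
  · have h1 : Nat.card (Q : Subgroup Y) = 1 := by
      rw [Q.card_eq_multiplicity, Nat.factorization_eq_zero_of_not_dvd hd, pow_zero]
    have : Subsingleton (Q : Subgroup Y) := (Nat.card_eq_one_iff_unique.mp h1).1
    exact isCyclic_of_subsingleton

theorem cyclic_aux (hpk : PrimeK G) (hG : IsMinSimpleOddOrder G) {M K Ms : Subgroup G}
    (h : PT M K) (hs : PT Ms (Ks M K)) (hU : ¬ NoU M) : IsCyclic K ∧ IsCyclic (Ks M K) := by
  constructor
  · have := Fact.mk (hpk h hU)
    exact isCyclic_of_prime_card rfl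
  · have hU' := hU
    unfold NoU at hU'
    push Not at hU'
    obtain ⟨r, hr, hrM, hrs, hrk⟩ := hU'
    have := Fact.mk hr
    have hnil : Group.IsNilpotent (sigmaCore M) :=
      (Cfsg.Agent.S1429.result hG M h.max hU r hrM (by simp [hrs, hrk]) default).2.2
    have h1 : Group.IsNilpotent (Ks M K) :=
      Group.nilpotent_of_mulEquiv
        (Subgroup.subgroupOfEquivOfLe (inf_le_left : Ks M K ≤ sigmaCore M))
    have h2 : IsZGroup (Ks M K) := isZGroup_of_kappa hs.hall.1 hs.hall.2.1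
    infer_instance

theorem exists_partner (hG : IsMinSimpleOddOrder G) {M K : Subgroup G} (h : PT M K) :
    ∃ X Ms : Subgroup G, X ≤ K ∧ (Nat.card X).Prime ∧ IsCoatom Ms ∧
      normalizer (X : Set G) ≤ Ms := by
  have hc : Nat.card K ≠ 1 := fun hc => h.ne (Subgroup.card_eq_one.mp hc)
  obtain ⟨p, hp, hd⟩ := Nat.exists_prime_and_dvd hc
  have := Fact.mk hp
  obtain ⟨z, hz, hz1, hzc⟩ := Cfsg.Agent.Lib.Helper37BGPart.exists_card_prime_le hd
  have hX1 : zpowers z ≠ ⊥ := by
    intro hb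
    exact hz1 (zpowers_eq_bot.mp hb)
  have hXK : zpowers z ≤ K := zpowers_le.mpr hz
  have hXt : zpowers z ≠ ⊤ := by
    intro ht
    apply h.max.1
    rw [eq_top_iff, ← ht]
    exact hXK.trans h.hall.1
  obtain ⟨Ms, hMs, hN⟩ := exists_coatom (norm_ne_top hG hX1 hXt)
  exact ⟨zpowers z, Ms, hXK, by rw [hzc]; exact hp, hMs, hN⟩

theorem kappa_hall_cyclic_of (hpm : PairMain G) (hpk : PrimeK G) (hG : IsMinSimpleOddOrder G)
    {M K : Subgroup G} (h : PT M K) : IsCyclic K ∧ IsCyclic (Ks M K) := by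
  obtain ⟨X, Ms, hXK, hX, hMs, hN⟩ := exists_partner hG h
  obtain ⟨hs, hK, -, -, hU⟩ := hpm h hXK hX hMs hN
  rcases hU with hU | hU
  · exact cyclic_aux hpk hG h hs hU
  · have h' : PT M (Ks Ms (Ks M K)) := by rw [hK]; exact h
    have := cyclic_aux hpk hG hs h' hU
    rw [hK] at this
    exact ⟨this.2, this.1⟩

theorem kappa_eq_tau1_of (hpm : PairMain G) (hpk : PrimeK G) (hG : IsMinSimpleOddOrder G)
    {M K : Subgroup G} (h : PT M K) : kappa M = tau1 M := by
  obtain ⟨-, -, ⟨U, -, hUh, hKU, -, hcompl⟩, -, -, h1⟩ :=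
    Cfsg.Agent.Lib.Helper52BG14.ptype_a hG h.max h.hall h.ne
  apply Set.Subset.antisymm
  · intro p hp
    rcases Cfsg.Agent.Lib.Helper37BG14kbasic.kappa_cases hp with h' | h3
    · exact h'
    · exfalso
      have hcyc := (kappa_hall_cyclic_of hpm hpk hG h).1
      have hSn := Cfsg.Agent.Lib.Helper31BGS.le_normalizer_sigmaCore M
      have hUM : U ≤ M := hUh.1
      have hKM : K ≤ M := h.hall.1
      have hfac : ∀ m ∈ M, ∃ a ∈ K, ∃ b ∈ U ⊔ sigmaCore M, m = a * b := by
        intro m hm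
        obtain ⟨a, ha, b, hb, rfl⟩ := hcompl.2.2.2 m hm
        rw [sup_comm, ← SetLike.mem_coe, coe_mul_of_left_le_normalizer_right K U hKU,
          Set.mem_mul] at ha
        obtain ⟨k, hk, u, hu, rfl⟩ := ha
        exact ⟨k, hk, u * b, mul_mem (mem_sup_left hu) (mem_sup_right hb), mul_assoc _ _ _⟩
      have hKn : K ≤ normalizer ((U ⊔ sigmaCore M : Subgroup G) : Set G) :=
        Cfsg.Agent.Lib.Helper21BG16.le_normalizer_sup hKU (hKM.trans hSn)
      have hNn : M ≤ normalizer ((U ⊔ sigmaCore M : Subgroup G) : Set G) := by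
        intro m hm
        obtain ⟨a, ha, b, hb, rfl⟩ := hfac m hm
        exact mul_mem (hKn ha) (le_normalizer hb)
      have hder := Cfsg.Agent.Lib.Helper2BGa.commutator_le_sup hKM hNn hfac
      have hKK : ⁅K, K⁆ = ⊥ := by
        rw [eq_bot_iff, commutator_le]
        intro a ha b hb
        obtain ⟨g, hg⟩ := hcyc.exists_generator
        obtain ⟨i, hi⟩ := hg ⟨a, ha⟩
        obtain ⟨j, hj⟩ := hg ⟨b, hb⟩
        have hab : Commute (⟨a, ha⟩ : K) ⟨b, hb⟩ := by
          rw [← hi, ← hj]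
          exact ((Commute.refl g).zpow_zpow i j)
        have hab' : a * b = b * a := congrArg Subtype.val hab.eq
        rw [mem_bot, commutatorElement_eq_one_iff_mul_comm]
        exact hab'
      rw [hKK, sup_bot_eq] at hder
      have hd : p ∣ Nat.card (U ⊔ sigmaCore M : Subgroup G) :=
        h3.2.2.1.trans (card_dvd_of_le hder)
      have hc := Cfsg.Agent.Lib.Helper65RelHall.card_sup_mul_card_inf U (sigmaCore M)
        (hUM.trans hSn)
      have hd2 : p ∣ Nat.card U * Nat.card (sigmaCore M) := by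
        rw [← hc]
        exact hd.mul_right _
      rcases (Nat.Prime.dvd_mul hp.1).1 hd2 with hd3 | hd3
      · exact (hUh.2.1 p hp.1 hd3).2.1 hp
      · exact Cfsg.Agent.Lib.Helper31BGS.not_dvd_sigmaCore hG h.max hp.1 hp.2.2.1 hd3
  · exact fun p hp => h1 p hp

end Cfsg.Agent.Lib.Helper1BG14cyc
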