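import Mathlib
import Cfsg.Agent.Lib.Helper52BG14
import Cfsg.Agent.Lib.Helper52BG14Defs
import Cfsg.Agent.Lib.Helper24BGCoverHyp
import Cfsg.Agent.Lib.Helper66Wf9
import Cfsg.Agent.S1429
import Cfsg.Agent.Lib.Helper14BG14kuniq
import Cfsg.Agent.Lib.Helper27BG14pair
import Cfsg.Agent.Lib.Helper3BG14comp
import Cfsg.Agent.Lib.Helper17BG14hat
import Cfsg.Agent.Lib.Helper17BG14primeK
import Cfsg.Agent.Lib.Helper3BG14count
import Cfsg.Agent.Lib.Helper1BG14notallP1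
import Cfsg.Agent.Lib.Helper14BG14twocomp
import Cfsg.Agent.Lib.Helper14BG14pairmain
import Cfsg.Agent.Lib.Helper1BG14cyc
import Cfsg.Agent.Lib.Helper14BG14partner

/-!
PROJECT 14 : Bender-Glauberman Section 14, WAVE 2 = Theorem 14.7: the HUB.
Every lemma of the skeleton notes/helper52/BG14Skel2.lean.txt, restated with the same name and
proved from the landed piece.
-/

set_option autoImplicit false

namespace Cfsg.Agent.Lib.Helper52BG14b

open Cfsg Subgroup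
open Cfsg.Agent.Lib.Helper30Trans Cfsg.Agent.Lib.Helper24BG Cfsg.Agent.Lib.Helper52BG14Defs

variable {G : Type*} [Group G] [Finite G]

/-! ### piece `kuniq` -/

/-- two subgroups of the same prime order of `K` are equal -/
theorem prime_subgroup_unique (hG : IsMinSimpleOddOrder G) {M K : Subgroup G} (h : PT M K)
    {X X' : Subgroup G} (hX : X ≤ K) (hX' : X' ≤ K) (hp : (Nat.card X).Prime)
    (hc : Nat.card X' = Nat.card X) : X' = X :=
  Cfsg.Agent.Lib.Helper14BG14kuniq.prime_subgroup_unique hG h hX hX' hp hc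

/-- `K ∩ K* = 1`, `K` centralizes `K*`, `|K K*| = |K| |K*|`, and the orders are coprime -/
theorem card_sup_Ks (hG : IsMinSimpleOddOrder G) {M K : Subgroup G} (h : PT M K) :
    Nat.card (K ⊔ Ks M K : Subgroup G) = Nat.card K * Nat.card (Ks M K) ∧
      (Nat.card K).Coprime (Nat.card (Ks M K)) :=
  Cfsg.Agent.Lib.Helper14BG14kuniq.card_sup_Ks hG h

/-- a subgroup of `K K*` whose order is prime to `|K*|` (resp. `|K|`) lies in `K` (resp. `K*`) -/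
theorem le_of_le_sup (hG : IsMinSimpleOddOrder G) {M K : Subgroup G} (h : PT M K) {Y : Subgroup G}
    (hY : Y ≤ K ⊔ Ks M K) :
    ((Nat.card Y).Coprime (Nat.card (Ks M K)) → Y ≤ K) ∧
      ((Nat.card Y).Coprime (Nat.card K) → Y ≤ Ks M K) :=
  Cfsg.Agent.Lib.Helper14BG14kuniq.le_of_le_sup hG h hY

/-- `N(Y) ≤ M` for `1 ≠ Y ≤ K*` -/
theorem norm_le_of_le_Ks (hG : IsMinSimpleOddOrder G) {M K : Subgroup G} (h : PT M K)
    {Y : Subgroup G} (hY : Y ≤ Ks M K) (hY1 : Y ≠ ⊥) : normalizer (Y : Set G) ≤ M :=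
  Cfsg.Agent.Lib.Helper14BG14kuniq.norm_le_of_le_Ks hG h hY hY1

/-- if `1 ≠ Y ≤ K*` and `g Y g⁻¹ ≤ M` then `g ∈ M` -/
theorem mem_of_cj_le (hG : IsMinSimpleOddOrder G) {M K : Subgroup G} (h : PT M K)
    {Y : Subgroup G} (hY : Y ≤ Ks M K) (hY1 : Y ≠ ⊥) {g : G} (hg : cj g Y ≤ M) : g ∈ M :=
  Cfsg.Agent.Lib.Helper14BG14kuniq.mem_of_cj_le hG h hY hY1 hg

theorem three_mul_le (hG : IsMinSimpleOddOrder G) {M K : Subgroup G} (h : PT M K) :
    3 * Nat.card (Ks M K) ≤ Nat.card (sigmaCore M) :=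
  Cfsg.Agent.Lib.Helper14BG14kuniq.three_mul_le hG h

/-! ### piece `pair` (first half of the proof of 14.7) -/

theorem pair (hG : IsMinSimpleOddOrder G) {M K : Subgroup G} (h : PT M K) {X : Subgroup G}
    (hXK : X ≤ K) (hX : (Nat.card X).Prime) {Ms : Subgroup G} (hMs : IsCoatom Ms)
    (hN : normalizer (X : Set G) ≤ Ms) :
    ∃ K₁ : Subgroup G, PT Ms K₁ ∧ (∀ g : G, Ms ≠ cj g M) ∧ sigmaCore M ⊓ Ms = Ks M K ∧
      sigmaCore Ms ⊓ M = Ks Ms K₁ ∧ Ks M K ≤ K₁ ∧ X ≤ Ks Ms K₁ ∧ Ks Ms K₁ ≤ K ∧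
      M ⊓ Ms = K ⊔ Ks M K ∧ K₁ ⊔ Ks Ms K₁ = K ⊔ Ks M K :=
  Cfsg.Agent.Lib.Helper27BG14pair.pair hG h hXK hX hMs hN

/-- `K*` is a Hall `σ(M)`-subgroup of `M*` -/
theorem Ks_hall_sigma (hG : IsMinSimpleOddOrder G) {M K : Subgroup G} (h : PT M K) {X : Subgroup G}
    (hXK : X ≤ K) (hX : (Nat.card X).Prime) {Ms : Subgroup G} (hMs : IsCoatom Ms)
    (hN : normalizer (X : Set G) ≤ Ms) : IsPiHallOf (sigma M) (Ks M K) Ms :=
  Cfsg.Agent.Lib.Helper27BG14pair.Ks_hall_sigma hG h hXK hX hMs hN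

/-! ### piece `comp` (the components of `D = K K*`) -/

theorem comp_self (hG : IsMinSimpleOddOrder G) {M K : Subgroup G} (h : PT M K) :
    Comp (K ⊔ Ks M K) M :=
  Cfsg.Agent.Lib.Helper3BG14comp.comp_self hG h

theorem comp_of_prime (hG : IsMinSimpleOddOrder G) {M K : Subgroup G} (h : PT M K) {X : Subgroup G}
    (hX : X ≤ K ⊔ Ks M K) (hXp : (Nat.card X).Prime) :
    ∃ L : Subgroup G, Comp (K ⊔ Ks M K) L ∧ X ≤ sigmaCore L :=
  Cfsg.Agent.Lib.Helper3BG14comp.comp_of_prime hG h hX hXp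

theorem comp_struct (hG : IsMinSimpleOddOrder G) {M K : Subgroup G} (h : PT M K) {L : Subgroup G}
    (hL : Comp (K ⊔ Ks M K) L) :
    ∃ K' : Subgroup G, PT L K' ∧ K' ⊔ Ks L K' = K ⊔ Ks M K ∧
      (K ⊔ Ks M K) ⊓ sigmaCore L = Ks L K' :=
  Cfsg.Agent.Lib.Helper3BG14comp.comp_struct hG h hL

theorem comp_inf (hG : IsMinSimpleOddOrder G) {M K : Subgroup G} (h : PT M K) {L L' : Subgroup G}
    (hL : Comp (K ⊔ Ks M K) L) (hL' : Comp (K ⊔ Ks M K) L') (hne : L ≠ L') :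
    (∀ g : G, L' ≠ cj g L) ∧ L ⊓ L' = K ⊔ Ks M K :=
  Cfsg.Agent.Lib.Helper3BG14comp.comp_inf hG h hL hL' hne

/-! ### piece `hat` (the set `D̂` of elements of `D` lying in no `L_σ`) -/

theorem hat_ti (hG : IsMinSimpleOddOrder G) {M K : Subgroup G} (h : PT M K) {d g : G}
    (hd : d ∈ K ⊔ Ks M K) (hd' : ∀ L : Subgroup G, Comp (K ⊔ Ks M K) L → d ∉ sigmaCore L)
    (hg : g * d * g⁻¹ ∈ K ⊔ Ks M K) : g ∈ K ⊔ Ks M K :=
  Cfsg.Agent.Lib.Helper17BG14hat.hat_ti hG h hd hd' hg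

theorem hat_not_tilde (hG : IsMinSimpleOddOrder G) {M K : Subgroup G} (h : PT M K) {d : G}
    (hd : d ∈ K ⊔ Ks M K) (hd' : ∀ L : Subgroup G, Comp (K ⊔ Ks M K) L → d ∉ sigmaCore L)
    {N : Subgroup G} (hN : IsCoatom N) (y : G) :
    y * d * y⁻¹ ∉ tildeOf N ((sigmaCore N : Set G) \ {1}) :=
  Cfsg.Agent.Lib.Helper17BG14hat.hat_not_tilde hG h hd hd' hN y

/-! ### piece `primeK` (B-G 14.2(g), via the fixed point formula `Helper66Wf9.formula`) -/

theorem card_prime_of_not_noU (hG : IsMinSimpleOddOrder G) {M K : Subgroup G} (h : PT M K)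
    (hU : ¬ NoU M) : (Nat.card K).Prime :=
  Cfsg.Agent.Lib.Helper17BG14primeK.card_prime_of_not_noU hG h hU

theorem card_eq_of_noU (hG : IsMinSimpleOddOrder G) {M K : Subgroup G} (h : PT M K) (hU : NoU M) :
    Nat.card M = Nat.card (sigmaCore M) * Nat.card K :=
  Cfsg.Agent.Lib.Helper17BG14primeK.card_eq_of_noU hG h hU

/-! ### piece `count` (pure counting; no B-G) -/

theorem count_abstract {X : Type*} [Group X] [Finite X] (D : Subgroup X)
    (I : Finset (Subgroup X)) (S : Subgroup X → Subgroup X) (T : Subgroup X → Set X)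
    (hI : 2 ≤ I.card)
    (hTI : ∀ d ∈ D, (∀ L ∈ I, d ∉ S L) → ∀ g : X, g * d * g⁻¹ ∈ D → g ∈ D)
    (hT1 : ∀ L ∈ I, (1 : X) ∉ T L)
    (hTT : ∀ L ∈ I, ∀ L' ∈ I, L ≠ L' → T L ∩ T L' = ∅)
    (hTD : ∀ L ∈ I, ∀ d ∈ D, (∀ L' ∈ I, d ∉ S L') → ∀ y : X, y * d * y⁻¹ ∉ T L)
    (hcT : ∀ L ∈ I, (T L).ncard * (Nat.card (S L) * Nat.card D) =
      (Nat.card (S L) - 1) * Nat.card (D ⊓ S L : Subgroup X) * Nat.card X)
    (h3 : ∀ L ∈ I, 3 * Nat.card (D ⊓ S L : Subgroup X) ≤ Nat.card (S L)) : False :=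
  Cfsg.Agent.Lib.Helper3BG14count.count_abstract D I S T hI hTI hT1 hTT hTD hcT h3

/-! ### piece `notallP1` (uses comp, hat, primeK, count, Helper24BGCover2) -/

theorem exists_comp_not_noU (hG : IsMinSimpleOddOrder G) {M K : Subgroup G} (h : PT M K) :
    ∃ L : Subgroup G, Comp (K ⊔ Ks M K) L ∧ ¬ NoU L :=
  Cfsg.Agent.Lib.Helper1BG14notallP1.exists_comp_not_noU hG h

/-! ### piece `twocomp` (uses notallP1, comp, primeK) -/

theorem comp_eq_or (hG : IsMinSimpleOddOrder G) {M K : Subgroup G} (h : PT M K) {X : Subgroup G}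
    (hXK : X ≤ K) (hX : (Nat.card X).Prime) {Ms : Subgroup G} (hMs : IsCoatom Ms)
    (hN : normalizer (X : Set G) ≤ Ms) {L : Subgroup G} (hL : Comp (K ⊔ Ks M K) L) :
    L = M ∨ L = Ms :=
  Cfsg.Agent.Lib.Helper14BG14twocomp.comp_eq_or hG h hXK hX hMs hN hL

/-! ### piece `pairmain` (B-G 14.7 (b),(c),(f)) -/

theorem pair_main (hG : IsMinSimpleOddOrder G) {M K : Subgroup G} (h : PT M K) {X : Subgroup G}
    (hXK : X ≤ K) (hX : (Nat.card X).Prime) {Ms : Subgroup G} (hMs : IsCoatom Ms)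
    (hN : normalizer (X : Set G) ≤ Ms) :
    PT Ms (Ks M K) ∧ Ks Ms (Ks M K) = K ∧ M ⊓ Ms = K ⊔ Ks M K ∧ (∀ g : G, Ms ≠ cj g M) ∧
      (¬ NoU M ∨ ¬ NoU Ms) :=
  Cfsg.Agent.Lib.Helper14BG14pairmain.pair_main hG h hXK hX hMs hN

/-! ### piece `cyc` (B-G 14.7 (c),(d)) -/

theorem kappa_hall_cyclic (hG : IsMinSimpleOddOrder G) {M K : Subgroup G} (h : PT M K) :
    IsCyclic K ∧ IsCyclic (Ks M K) :=
  Cfsg.Agent.Lib.Helper1BG14cyc.kappa_hall_cyclic_of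
    (fun h _ hXK hX _ hMs hN => pair_main hG h hXK hX hMs hN)
    (fun h hU => card_prime_of_not_noU hG h hU) hG h

theorem kappa_eq_tau1 (hG : IsMinSimpleOddOrder G) {M K : Subgroup G} (h : PT M K) :
    kappa M = tau1 M :=
  Cfsg.Agent.Lib.Helper1BG14cyc.kappa_eq_tau1_of
    (fun h _ hXK hX _ hMs hN => pair_main hG h hXK hX hMs hN)
    (fun h hU => card_prime_of_not_noU hG h hU) hG h

/-! ### piece `partner` (identification of the `M*` of the rows) -/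

/-- the hypotheses on `M*` used in the rows S1367-S1369, S1434, S1435 determine `M*` -/
theorem partner_iff (hG : IsMinSimpleOddOrder G) {M K : Subgroup G} (h : PT M K) {Ms : Subgroup G}
    (hMs : IsCoatom Ms) :
    (K = sigmaCore Ms ⊓ centralizer ((Ks M K : Subgroup G) : Set G) ∧
      IsPiHallOf (kappa Ms) (Ks M K) Ms) ↔
    ∀ X : Subgroup G, X ≤ K → (Nat.card X).Prime → normalizer (X : Set G) ≤ Ms :=
  Cfsg.Agent.Lib.Helper14BG14partner.partner_iff hG h hMs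

/-! ### pieces `S1351`, `S1366`, `S1367`, `S1369`, `S1434` : the rows themselves (templates). -/

end Cfsg.Agent.Lib.Helper52BG14b
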