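import Cfsg.Agent.Lib.Helper66Wf10

set_option autoImplicit false
set_option linter.unusedSectionVars false

/-! B-G 3.8: cyclic fixed points force the kernel to act as an abelian group. Part 2. -/

namespace Cfsg.Agent.Lib.Helper66Wf11

open Cfsg.Agent.Lib.Helper36Frob Cfsg.Agent.Lib.Helper66Wf1 Cfsg.Agent.Lib.Helper66Wf2
  Cfsg.Agent.Lib.Helper66Wf7 Cfsg.Agent.Lib.Helper66Wf8 Cfsg.Agent.Lib.Helper66Wf9
  Cfsg.Agent.Lib.Helper66Wf10
open scoped commutatorElement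

variable {X : Type*} [Group X] [Finite X]

lemma normalizer_comm {H : Subgroup X} {g : X} (hg : g ∈ Subgroup.normalizer (H : Set X)) :
    g ∈ Subgroup.normalizer ((⁅H, H⁆ : Subgroup X) : Set X) :=
  Cfsg.Agent.Lib.Helper30SZ.le_normalizer_commutator (le_refl _) (le_refl _) hg

theorem mem_range_of_fix (H Γ B : Subgroup X) (hΓ : Γ ≤ Subgroup.normalizer (H : Set X))
    (hB : B ≤ Γ) (hcop : (Nat.card B).Coprime (Nat.card H)) (hsolv : Group.IsSolvable H)
    (a : Abelianization ↥H)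
    (ha : letI := abAct (rho H Γ hΓ)
      Additive.ofMul a ∈ (fix (B.subgroupOf Γ) : AddSubgroup (Additive (Abelianization ↥H)))) :
    ∃ c : ↥(H ⊓ Subgroup.centralizer (B : Set X)),
      Abelianization.of (⟨(c : X), c.2.1⟩ : H) = a := by
  let _ := abAct (rho H Γ hΓ)
  have hHH : ⁅H, H⁆ ≤ H := Subgroup.commutator_le_self H
  obtain ⟨h, rfl⟩ := QuotientGroup.mk_surjective a
  have hfix : ∀ b ∈ B, b * (h : X) * b⁻¹ * (h : X)⁻¹ ∈ ⁅H, H⁆ := by
    intro b hb
    have h3 := ha ⟨b, hB hb⟩ (Subgroup.mem_subgroupOf.mpr hb)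
    have h4 : Abelianization.of (rho H Γ hΓ ⟨b, hB hb⟩ h) = Abelianization.of h :=
      congrArg Additive.toMul h3
    exact (of_eq_of_iff H _ _).mp h4
  obtain ⟨c, hc, hhc⟩ := Cfsg.Agent.S0022.result B H (hB.trans hΓ) hcop (Or.inr hsolv) ⁅H, H⁆
    hHH (fun g hg => normalizer_comm (Subgroup.le_normalizer hg))
    (fun g hg => normalizer_comm (hΓ (hB hg))) h h.2 hfix
  refine ⟨⟨c, hc⟩, ?_⟩
  change Abelianization.of (⟨c, hc.1⟩ : H) = Abelianization.of h
  rw [of_eq_of_iff]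
  have : c * (h : X)⁻¹ = (h : X) * ((h : X)⁻¹ * c) * (h : X)⁻¹ := by group
  change c * (h : X)⁻¹ ∈ ⁅H, H⁆
  rw [this]
  exact (Subgroup.mem_normalizer_iff.mp (normalizer_comm (Subgroup.le_normalizer h.2)) _).mp hhc

theorem card_tor_fix_le (H Γ B : Subgroup X) (hΓ : Γ ≤ Subgroup.normalizer (H : Set X))
    (hB : B ≤ Γ) (hcop : (Nat.card B).Coprime (Nat.card H)) (hsolv : Group.IsSolvable H)
    (hcyc : IsCyclic ↥(H ⊓ Subgroup.centralizer (B : Set X))) {ℓ : ℕ} (hℓ : 0 < ℓ) :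
    letI := abAct (rho H Γ hΓ)
    Nat.card ↥(tor (Additive (Abelianization ↥H)) ℓ ⊓ fix (B.subgroupOf Γ)) ≤ ℓ := by
  classical
  let _ := abAct (rho H Γ hΓ)
  let θ : ↥(H ⊓ Subgroup.centralizer (B : Set X)) →* Abelianization ↥H :=
    Abelianization.of.comp (Subgroup.inclusion inf_le_left)
  have : IsCyclic θ.range := isCyclic_of_surjective θ.rangeRestrict θ.rangeRestrict_surjective
  let _ : Fintype θ.range := Fintype.ofFinite _
  have h1 := IsCyclic.card_pow_eq_one_le (α := θ.range) hℓ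
  refine le_trans ?_ h1
  rw [← Fintype.card_subtype, ← Nat.card_eq_fintype_card]
  refine Nat.card_le_card_of_injective
    (fun v => ⟨⟨Additive.toMul (v : Additive (Abelianization ↥H)), ?_⟩, ?_⟩) ?_
  · obtain ⟨c, hc⟩ := mem_range_of_fix H Γ B hΓ hB hcop hsolv
      (Additive.toMul (v : Additive (Abelianization ↥H))) v.2.2
    exact ⟨c, hc⟩
  · apply Subtype.ext
    have h2 : ℓ • (v : Additive (Abelianization ↥H)) = 0 := v.2.1
    exact congrArg Additive.toMul h2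
  · intro v w hvw
    apply Subtype.ext
    exact congrArg (fun z => Additive.ofMul ((z.1 : θ.range) : Abelianization ↥H)) hvw

/-- **B-G 3.8, last part**, for solvable `M`. -/
theorem comm_le_centralizer (K R : Subgroup X) (hnil : Group.IsNilpotent K)
    (hRK : ∀ r ∈ R, ∀ k ∈ K, r * k * r⁻¹ ∈ K)
    (hfpf : ∀ r ∈ R, r ≠ 1 → ∀ k ∈ K, r * k = k * r → k = 1) :
    ∀ (n : ℕ) (M : Subgroup X), Nat.card M = n → K ⊔ R ≤ Subgroup.normalizer (M : Set X) →
      Group.IsSolvable M → Nat.Coprime (Nat.card M) (Nat.card ↥(K ⊔ R)) →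
      M ⊓ Subgroup.centralizer (K : Set X) = ⊥ →
      IsCyclic ↥(M ⊓ Subgroup.centralizer (R : Set X)) →
      ⁅K, K⁆ ≤ Subgroup.centralizer (M : Set X) := by
  intro n
  induction n using Nat.strong_induction_on with
  | _ n ih =>
    intro M hn hΓ hsolv hcop hCK hcyc
    by_cases hM : M = ⊥
    · subst hM
      intro x _
      rw [Subgroup.mem_centralizer_iff]
      intro m hm
      have : m = 1 := hm
      rw [this, one_mul, mul_one]
    set Γ : Subgroup X := K ⊔ R with hΓdef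
    have hKΓ : K ≤ Γ := le_sup_left
    have hRΓ : R ≤ Γ := le_sup_right
    have hHH : ⁅M, M⁆ ≤ M := Subgroup.commutator_le_self M
    have hltc : Nat.card ↥(⁅M, M⁆ : Subgroup X) < n := by
      rw [← hn]
      refine lt_of_le_of_ne (Subgroup.card_le_of_le hHH) ?_
      intro heq
      have heq' := Subgroup.eq_of_le_of_card_ge hHH heq.ge
      have : Nontrivial ↥M := (Subgroup.nontrivial_iff_ne_bot M).mpr hM
      have h1 := Group.IsSolvable.commutator_lt_top_of_nontrivial ↥M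
      apply h1.ne
      rw [eq_top_iff]
      intro x _
      rw [mem_commutator_iff, heq']
      exact x.2
    have hIH := ih _ hltc ⁅M, M⁆ rfl
      (Cfsg.Agent.Lib.Helper30SZ.le_normalizer_commutator hΓ hΓ)
      (Cfsg.Agent.Lib.Helper30SZ.solvable_of_le hsolv hHH)
      (Nat.Coprime.of_dvd_left (Subgroup.card_dvd_of_le hHH) hcop)
      (by rw [eq_bot_iff, ← hCK]; exact inf_le_inf_right _ hHH)
      (isCyclic_of_injective (Subgroup.inclusion (inf_le_inf_right _ hHH))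
        (Subgroup.inclusion_injective _))
    have hHM := card_eq_comm_mul_ab M
    have hMdvd : Nat.card (Additive (Abelianization ↥M)) ∣ Nat.card M :=
      Dvd.intro_left _ hHM.symm
    have cK := card_fix_ab M Γ K hΓ hKΓ
      (Nat.Coprime.of_dvd_left (Subgroup.card_dvd_of_le hKΓ) hcop.symm) hsolv
    have hle := fun (ℓ : ℕ) (hℓ : 0 < ℓ) => card_tor_fix_le M Γ R hΓ hRΓ
      (Nat.Coprime.of_dvd_left (Subgroup.card_dvd_of_le hRΓ) hcop.symm) hsolv hcyc hℓ
    let _ := abAct (rho M Γ hΓ)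
    have eK : ↥(K.subgroupOf Γ) ≃* ↥K := Subgroup.subgroupOfEquivOfLe hKΓ
    have eR : ↥(R.subgroupOf Γ) ≃* ↥R := Subgroup.subgroupOfEquivOfLe hRΓ
    have hcopK : (Nat.card (Additive (Abelianization ↥M))).Coprime
        (Nat.card ↥(K.subgroupOf Γ)) := by
      rw [Nat.card_congr eK.toEquiv]
      exact Nat.Coprime.of_dvd hMdvd (Subgroup.card_dvd_of_le hKΓ) hcop
    have hcopR : (Nat.card (Additive (Abelianization ↥M))).Coprime
        (Nat.card ↥(R.subgroupOf Γ)) := by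
      rw [Nat.card_congr eR.toEquiv]
      exact Nat.Coprime.of_dvd hMdvd (Subgroup.card_dvd_of_le hRΓ) hcop
    have h0 : (fix (K.subgroupOf Γ) : AddSubgroup (Additive (Abelianization ↥M))) = ⊥ := by
      rw [hCK, Subgroup.card_bot] at cK
      exact AddSubgroup.card_eq_one.mp (Nat.eq_one_of_mul_eq_one_left cK.symm)
    have hct := fun (ℓ : ℕ) (hℓ : ℓ.Prime) =>
      comm_on_tor (G := ↥Γ) (V := Additive (Abelianization ↥M)) (K := K.subgroupOf Γ)
      (R := R.subgroupOf Γ) (Group.nilpotent_of_mulEquiv eK.symm)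
      (fun e he u hu => by
        rw [Subgroup.mem_subgroupOf] at he hu ⊢
        exact hRK _ he _ hu)
      (fun e he he1 u hu h => by
        rw [Subgroup.mem_subgroupOf] at he hu
        exact Subtype.ext (hfpf e he (fun h0 => he1 (Subtype.ext h0)) u hu
          (congrArg Subtype.val h)))
      hcopK hcopR h0 hℓ (hle ℓ hℓ.pos)
    rw [Subgroup.commutator_le]
    intro k₁ hk₁ k₂ hk₂
    let k₁' : ↥Γ := ⟨k₁, hKΓ hk₁⟩
    let k₂' : ↥Γ := ⟨k₂, hKΓ hk₂⟩
    have hk₁' : k₁' ∈ K.subgroupOf Γ := Subgroup.mem_subgroupOf.mpr hk₁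
    have hk₂' : k₂' ∈ K.subgroupOf Γ := Subgroup.mem_subgroupOf.mpr hk₂
    have hc'K : ⁅k₁', k₂'⁆ ∈ K.subgroupOf Γ := by
      rw [commutatorElement_def]
      exact Subgroup.mul_mem _ (Subgroup.mul_mem _ (Subgroup.mul_mem _ hk₁' hk₂')
        (Subgroup.inv_mem _ hk₁')) (Subgroup.inv_mem _ hk₂')
    have htriv : ∀ v : Additive (Abelianization ↥M), ⁅k₁', k₂'⁆ • v = v := by
      refine trivial_of_tor (Nat.Coprime.of_dvd_right (Subgroup.card_dvd_of_le
        (by rw [Subgroup.zpowers_le]; exact hc'K)) hcopK) ?_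
      intro ℓ hℓ v hv
      have h1 := hct ℓ hℓ k₁' hk₁' k₂' hk₂' ((k₂' * k₁')⁻¹ • v) (smul_mem_tor _ hv)
      rw [smul_inv_smul] at h1
      calc ⁅k₁', k₂'⁆ • v = (k₁' * k₂') • (k₂' * k₁')⁻¹ • v := by
            rw [← mul_smul]
            congr 1
            rw [commutatorElement_def]
            group
        _ = v := h1
    rw [Subgroup.mem_centralizer_iff]
    intro m hm
    have hcK : ⁅k₁, k₂⁆ ∈ ⁅K, K⁆ := Subgroup.commutator_mem_commutator hk₁ hk₂
    have hcΓ : Subgroup.zpowers ⁅k₁, k₂⁆ ≤ Γ := by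
      rw [Subgroup.zpowers_le]
      exact hKΓ (Subgroup.commutator_le_self K hcK)
    have hfix : ∀ a ∈ Subgroup.zpowers ⁅k₁, k₂⁆, a * m * a⁻¹ * m⁻¹ ∈ ⁅M, M⁆ := by
      rintro _ ⟨i, rfl⟩
      have h1 : (Additive.ofMul (Abelianization.of (⟨m, hm⟩ : M)) :
          Additive (Abelianization ↥M)) ∈ (fix (Subgroup.zpowers ⁅k₁', k₂'⁆) :
            AddSubgroup (Additive (Abelianization ↥M))) := mem_fix_zpowers (htriv _)
      have h2 := h1 (⁅k₁', k₂'⁆ ^ i) (Subgroup.zpow_mem_zpowers _ i)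
      have h3 : Abelianization.of (rho M Γ hΓ (⁅k₁', k₂'⁆ ^ i) ⟨m, hm⟩) =
          Abelianization.of (⟨m, hm⟩ : M) := congrArg Additive.toMul h2
      have h4 := (of_eq_of_iff M _ _).mp h3
      rw [rho_apply] at h4
      simpa [k₁', k₂', commutatorElement_def] using h4
    obtain ⟨x, hx, hmx⟩ := Cfsg.Agent.S0022.result (Subgroup.zpowers ⁅k₁, k₂⁆) M (hcΓ.trans hΓ)
      (Nat.Coprime.of_dvd_left (Subgroup.card_dvd_of_le hcΓ) hcop.symm) (Or.inr hsolv) ⁅M, M⁆
      hHH (fun g hg => normalizer_comm (Subgroup.le_normalizer hg))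
      (fun g hg => normalizer_comm (hΓ (hcΓ hg))) m hm hfix
    have e1 : ⁅k₁, k₂⁆ * x = x * ⁅k₁, k₂⁆ :=
      (Subgroup.mem_centralizer_iff.mp hx.2) _ (Subgroup.mem_zpowers _)
    have e2 : (m⁻¹ * x) * ⁅k₁, k₂⁆ = ⁅k₁, k₂⁆ * (m⁻¹ * x) :=
      (Subgroup.mem_centralizer_iff.mp (hIH hcK)) _ hmx
    have e3 : m⁻¹ * ⁅k₁, k₂⁆ = ⁅k₁, k₂⁆ * m⁻¹ := by
      have : m⁻¹ * ⁅k₁, k₂⁆ * x = ⁅k₁, k₂⁆ * m⁻¹ * x := by
        rw [mul_assoc, e1, ← mul_assoc, e2, mul_assoc]
      exact mul_right_cancel this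
    calc m * ⁅k₁, k₂⁆ = m * (⁅k₁, k₂⁆ * m⁻¹) * m := by group
      _ = m * (m⁻¹ * ⁅k₁, k₂⁆) * m := by rw [e3]
      _ = ⁅k₁, k₂⁆ * m := by group

end Cfsg.Agent.Lib.Helper66Wf11
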