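import Cfsg.Agent.Lib.Helper51BG16
import Cfsg.Agent.Lib.Helper30Bender
import Cfsg.Agent.Lib.Helper2KWa
import Cfsg.Agent.Lib.Helper3NarrowAut
import Cfsg.Agent.S1425
import Cfsg.Agent.S1429
import Cfsg.Agent.S1430
import Cfsg.Agent.S1446

/-!
PROJECT 15, piece `allbeta`.
-/

set_option autoImplicit false
open Cfsg

namespace Cfsg.Agent.Lib.Helper56BG15allbeta

open Subgroup
open Cfsg.Agent.Lib.Helper30Trans Cfsg.Agent.Lib.Helper24BG Cfsg.Agent.Lib.Helper51BG16
  Cfsg.Agent.Lib.Helper30Bender Cfsg.Agent.Lib.Helper2BGb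

universe u
variable {G : Type u} [Group G] [Finite G]

/-- `M_σ` is nilpotent and `C_{M_σ}(U) = 1` -/
theorem nil_and_cent (hG : IsMinSimpleOddOrder G) {M K U : Subgroup G} (hM : IsCoatom M)
    (hKU : IsSigmaDecomposition M K U) (hU1 : U ≠ ⊥) :
    Group.IsNilpotent (sigmaCore M) ∧ sigmaCore M ⊓ centralizer (U : Set G) = ⊥ := by
  have hUM : U ≤ M := hKU.compl.1
  have hc1 : Nat.card U ≠ 1 := fun h => hU1 (card_eq_one.mp h)
  obtain ⟨p, hp, hpU⟩ := Nat.exists_prime_and_dvd hc1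
  have : Fact p.Prime := ⟨hp⟩
  obtain ⟨hpk, hps⟩ := U_primes hG hM hKU p hp hpU
  have hpM : p ∣ Nat.card M := hpU.trans (card_dvd_of_le hUM)
  have hP1 : ¬ (∀ q : ℕ, q.Prime → q ∣ Nat.card M → q ∉ sigma M → q ∈ kappa M) :=
    fun h => hpk (h p hp hpM hps)
  let S : Sylow p M := default
  obtain ⟨-, hC, hnil⟩ := Cfsg.Agent.S1429.result hG M hM hP1 p hpM
    (by rintro (h | h); exacts [hps h, hpk h]) S
  refine ⟨hnil, ?_⟩
  set S' : Subgroup G := (S : Subgroup M).map M.subtype with hS'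
  set A : Subgroup G := closure {x : G | x ∈ S' ∧ x ^ p = 1} with hA
  have hAS : A ≤ S' := by
    rw [hA, closure_le]
    intro x hx
    exact hx.1
  have hS'M : S' ≤ M := map_subtype_le _
  have hS'p : IsPGroup p S' := S.isPGroup'.map _
  have hprimes : ∀ q : ℕ, q.Prime → q ∣ Nat.card S' → q = p := by
    intro q hq hd
    obtain ⟨n, hn⟩ := IsPGroup.iff_card.mp hS'p
    rw [hn] at hd
    exact (Nat.prime_dvd_prime_iff_eq hq hp).mp (hq.dvd_of_dvd_pow hd)
  have h1 : S' ≤ U ⊔ sigmaCore M := by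
    apply le_UMs hG hM hKU hS'M
    intro q hq hd
    rw [hprimes q hq hd]
    exact hpk
  obtain ⟨m, hm, hmU⟩ := exists_cj_le_U hG hM hKU h1 (by
    intro q hq hd
    rw [hprimes q hq hd]
    exact hps)
  have hmM : m ∈ M := (sup_le hUM (sigmaCore_le M)) hm
  rw [eq_bot_iff]
  intro c hc
  have h2 : m⁻¹ * c * m ∈ sigmaCore M ⊓ centralizer (A : Set G) := by
    refine mem_inf.mpr ⟨?_, ?_⟩
    · have := (mem_normalizer_iff.mp (le_normalizer_sigmaCore M (M.inv_mem hmM)) c).mp hc.1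
      simpa using this
    · rw [mem_centralizer_iff]
      intro a ha
      have h3 : m * a * m⁻¹ ∈ U := hmU (conj_mem_cj (hAS ha))
      have h4 : (m * a * m⁻¹) * c = c * (m * a * m⁻¹) := (mem_centralizer_iff.mp hc.2) _ h3
      calc a * (m⁻¹ * c * m) = m⁻¹ * ((m * a * m⁻¹) * c) * m := by group
        _ = m⁻¹ * (c * (m * a * m⁻¹)) * m := by rw [h4]
        _ = m⁻¹ * c * m * a := by group
  rw [hC, mem_bot] at h2
  rw [mem_bot]
  have : c = m * (m⁻¹ * c * m) * m⁻¹ := by group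
  rw [this, h2]
  group

/-- S1446 for a nontrivial `M`-invariant subgroup of `M_σ` -/
theorem frob_formula (hG : IsMinSimpleOddOrder G) {M K U Z : Subgroup G} (hM : IsCoatom M)
    (hKU : IsSigmaDecomposition M K U) (hK1 : K ≠ ⊥) (hU1 : U ≠ ⊥)
    (hZ : Z ≤ sigmaCore M) (hZ1 : Z ≠ ⊥) (hZn : M ≤ normalizer (Z : Set G)) :
    (Nat.card K).Prime ∧ Nat.card Z = Nat.card ↥(Z ⊓ centralizer (K : Set G)) ^ Nat.card K := by
  obtain ⟨hnil, hcent⟩ := nil_and_cent hG hM hKU hU1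
  have hUM : U ≤ M := hKU.compl.1
  have hKM : K ≤ M := hKU.hall.1
  have hUK : U ⊔ K ≤ M := sup_le hUM hKM
  have hcard : Nat.card ↥(U ⊔ K) = Nat.card K * Nat.card U := by
    rw [sup_comm]; exact card_KU hG hM hKU
  obtain ⟨h1, h2, -⟩ := Cfsg.Agent.S1446.result U K Z hU1 hK1
    (Cfsg.Agent.Lib.Helper30SZ.inf_eq_bot_of_coprime (coprime_K_U hG hM hKU)) hKU.normal
    (U_abelian_free hG hM hKU hK1).2
    (Cfsg.Agent.Lib.Helper30SZ.solvable_of_le (sol hG hM.1) hUK) (odd_sub hG _) hZ1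
    (Cfsg.Agent.Lib.Helper2KWa.isNilpotent_of_le hnil hZ) (hUM.trans hZn) (hKM.trans hZn)
    (by
      rw [hcard]
      exact Nat.Coprime.coprime_dvd_right (card_dvd_of_le hZ)
        (Nat.Coprime.mul_left (coprime_K_Ms hG hM hKU) (coprime_U_Ms hG hM hKU)))
    (by
      rw [eq_bot_iff, ← hcent]
      exact inf_le_inf_right _ hZ)
    (by
      intro x hx hx1
      have h3 := (Cfsg.Agent.S1430.result hG M hM K hKU.hall hK1).1 x hx hx1
      apply le_antisymm
      · intro z hz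
        have h4 : z ∈ sigmaCore M ⊓ centralizer ({x} : Set G) := ⟨hZ hz.1, hz.2⟩
        rw [h3] at h4
        exact ⟨hz.1, h4.2⟩
      · intro z hz
        have h4 : z ∈ sigmaCore M ⊓ centralizer (K : Set G) := ⟨hZ hz.1, hz.2⟩
        rw [← h3] at h4
        exact ⟨hz.1, h4.2⟩)
  exact ⟨h1, h2⟩

/-- piece `allbeta` -/
theorem all_beta (hG : IsMinSimpleOddOrder G) {M K U : Subgroup G} (hM : IsCoatom M)
    (hKU : IsSigmaDecomposition M K U) (hK1 : K ≠ ⊥) (hU1 : U ≠ ⊥) :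
    (Nat.card K).Prime ∧ Group.IsNilpotent (sigmaCore M) ∧
      ∀ r : ℕ, r.Prime → r ∣ Nat.card (sigmaCore M) → r ∈ beta M := by
  obtain ⟨hnil, -⟩ := nil_and_cent hG hM hKU hU1
  have hMs1 : sigmaCore M ≠ ⊥ := Cfsg.Agent.Lib.Helper3BGNotuniq.sigmaCore_ne_bot hG hM
  have hKp : (Nat.card K).Prime :=
    (frob_formula hG hM hKU hK1 hU1 le_rfl hMs1 (le_normalizer_sigmaCore M)).1
  refine ⟨hKp, hnil, ?_⟩
  intro r hr hrd
  have : Fact r.Prime := ⟨hr⟩
  set Z : Subgroup G := zq (sigmaCore M) r with hZ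
  have hZ1 : Z ≠ ⊥ := zq_ne_bot hnil hrd
  have hZle : Z ≤ sigmaCore M := zq_le_left _ _
  have hZn : M ≤ normalizer (Z : Set G) :=
    (le_normalizer_sigmaCore M).trans (normalizer_le_normalizer_zq _ _)
  have hZp : IsPGroup r Z := isPGroup_zq _ _
  have hZr : ∀ z ∈ Z, z ^ r = 1 := fun z hz => hz.2.2
  have hZc : ∀ z ∈ Z, ∀ y ∈ sigmaCore M, z * y = y * z := by
    intro z hz y hy
    exact ((mem_centralizer_iff.mp hz.2.1) y hy).symm
  have hZcomm : IsMulCommutative Z :=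
    ⟨⟨fun a b => Subtype.ext (hZc a a.2 b (hZle b.2))⟩⟩
  obtain ⟨-, hcard⟩ := frob_formula hG hM hKU hK1 hU1 hZle hZ1 hZn
  -- `|Z| ≥ r ^ 3`
  have hK3 : 3 ≤ Nat.card K := by
    have h2 := hKp.two_le
    have hodd : Odd (Nat.card K) := odd_sub hG K
    rcases Nat.lt_or_ge 2 (Nat.card K) with h | h
    · exact h
    · have : Nat.card K = 2 := le_antisymm h h2
      rw [this] at hodd
      exact absurd hodd (by decide)
  have hge : r ^ 3 ≤ Nat.card Z := by
    have h0 : Nat.card ↥(Z ⊓ centralizer (K : Set G)) ≠ 1 := by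
      intro h
      rw [h, one_pow] at hcard
      exact hZ1 (card_eq_one.mp hcard)
    have h1 : r ∣ Nat.card ↥(Z ⊓ centralizer (K : Set G)) := by
      obtain ⟨n, hn⟩ := IsPGroup.iff_card.mp (hZp.to_le (inf_le_left : Z ⊓ centralizer (K : Set G) ≤ Z))
      rw [hn] at h0 ⊢
      rcases n with _ | n
      · simp at h0
      · exact dvd_pow_self r (Nat.succ_ne_zero n)
    have h2 : r ≤ Nat.card ↥(Z ⊓ centralizer (K : Set G)) := Nat.le_of_dvd Nat.card_pos h1
    calc r ^ 3 ≤ r ^ Nat.card K := Nat.pow_le_pow_right hr.pos hK3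
      _ ≤ Nat.card ↥(Z ⊓ centralizer (K : Set G)) ^ Nat.card K := Nat.pow_le_pow_left h2 _
      _ = Nat.card Z := hcard.symm
  have hlt : r ^ 2 < r ^ 3 := Nat.pow_lt_pow_right hr.one_lt (by norm_num)
  have hrσ : r ∈ sigma M := card_sigmaCore M r hr hrd
  refine ⟨⟨hr, ?_⟩, hr, ?_, ?_⟩
  · -- `r ∈ α(M)`
    intro h
    have h1 := h (Z.subgroupOf M)
      ⟨⟨fun a b => Subtype.ext (Subtype.ext (hZc a.1 a.2 b.1 (hZle b.2)))⟩⟩
      (fun a ha => Subtype.ext (hZr a ha))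
    rw [Cfsg.Agent.Lib.Helper30SZ.card_subgroupOf_of_le (hZle.trans (sigmaCore_le M))] at h1
    omega
  · intro h
    have h1 := h Z hZcomm hZr
    omega
  · intro P A hAP hA hAc
    have hP1 : (P : Subgroup G) ≠ ⊥ := by
      intro h
      rw [h, le_bot_iff] at hAP
      rw [hAP, card_bot] at hAc
      have := hr.one_lt
      nlinarith
    obtain ⟨g, hg⟩ := Cfsg.Agent.S1425.result hG M hM P hP1 (by
      intro q hq hd
      obtain ⟨n, hn⟩ := IsPGroup.iff_card.mp P.isPGroup'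
      rw [hn] at hd
      rw [(Nat.prime_dvd_prime_iff_eq hq hr).mp (hq.dvd_of_dvd_pow hd)]
      exact hrσ)
    set Z' : Subgroup G := cj g⁻¹ Z with hZ'
    have hZ'c : ∀ z ∈ Z', ∀ y ∈ (P : Subgroup G), y * z = z * y := by
      intro z hz y hy
      rw [hZ', mem_cj, inv_inv] at hz
      have h1 : g * y * g⁻¹ ∈ sigmaCore M := hg (conj_mem_cj hy)
      have h2 := hZc _ hz _ h1
      calc y * z = g⁻¹ * ((g * y * g⁻¹) * (g * z * g⁻¹)) * g := by group
        _ = g⁻¹ * ((g * z * g⁻¹) * (g * y * g⁻¹)) * g := by rw [h2]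
        _ = z * y := by group
    have hZ'p : IsPGroup r Z' := hZp.map _
    have hZ'P : Z' ≤ P := by
      apply Cfsg.Agent.Lib.Helper2KWa.le_sylow_of_le_normalizer P hZ'p
      rw [le_normalizer_iff]
      intro y hy z hz
      rw [hZ'c z hz y hy]
      simpa using hz
    have hZ'r : ∀ z ∈ Z', z ^ r = 1 := by
      intro z hz
      rw [hZ', mem_cj, inv_inv] at hz
      have h1 := hZr _ hz
      rw [conj_pow] at h1
      have : z ^ r = g⁻¹ * (g * z ^ r * g⁻¹) * g := by group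
      rw [this, h1]
      group
    have hZ'card : Nat.card Z' = Nat.card Z := card_cj _ _
    have hcomm : ∀ a ∈ A, ∀ z ∈ Z', a * z = z * a := fun a ha z hz => hZ'c z hz a (hAP ha)
    have hAA : ∀ a ∈ A, ∀ b ∈ A, a * b = b * a := by
      intro a ha b hb
      have := hA.1.is_comm.comm ⟨a, ha⟩ ⟨b, hb⟩
      exact congrArg Subtype.val this
    have hZZ : ∀ a ∈ Z', ∀ b ∈ Z', a * b = b * a := fun a ha b hb => (hZ'c b hb a (hZ'P ha))
    refine ⟨A ⊔ Z', sup_le hAP hZ'P, ⟨⟨⟨?_⟩⟩, ?_⟩, ?_⟩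
    · rintro ⟨x, hx⟩ ⟨y, hy⟩
      apply Subtype.ext
      obtain ⟨a, ha, z, hz, rfl⟩ := Cfsg.Agent.Lib.Helper3NarrowAut.mem_sup_of_commute hcomm hx
      obtain ⟨b, hb, w, hw, rfl⟩ := Cfsg.Agent.Lib.Helper3NarrowAut.mem_sup_of_commute hcomm hy
      show a * z * (b * w) = b * w * (a * z)
      calc a * z * (b * w) = a * (z * b) * w := by group
        _ = a * (b * z) * w := by rw [hcomm b hb z hz]
        _ = (a * b) * (z * w) := by group
        _ = (b * a) * (w * z) := by rw [hAA a ha b hb, hZZ z hz w hw]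
        _ = b * (a * w) * z := by group
        _ = b * (w * a) * z := by rw [hcomm a ha w hw]
        _ = b * w * (a * z) := by group
    · intro x hx
      obtain ⟨a, ha, z, hz, rfl⟩ := Cfsg.Agent.Lib.Helper3NarrowAut.mem_sup_of_commute hcomm hx
      rw [(show Commute a z from hcomm a ha z hz).mul_pow, hA.2 a ha, hZ'r z hz, one_mul]
    · refine lt_of_le_of_ne le_sup_left ?_
      intro he
      have h1 : Z' ≤ A := he ▸ le_sup_right
      have h2 := Nat.le_of_dvd Nat.card_pos (card_dvd_of_le h1)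
      rw [hZ'card, hAc] at h2
      omega

end Cfsg.Agent.Lib.Helper56BG15allbeta
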