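import Mathlib
import Cfsg.Agent.S1426
import Cfsg.Agent.Lib.Helper31BGS
import Cfsg.Agent.Lib.Helper30Bender

/-!
PROJECT 15, piece `S1372` in relative form: the pieces `all_beta`, `inter_le_sigmaCore` of the skeleton enter
as hypotheses.
-/

set_option autoImplicit false

namespace Cfsg.Agent.Lib.Helper60BG15S1372

open Cfsg Subgroup
open Cfsg.Agent.Lib.Helper30Trans Cfsg.Agent.Lib.Helper24BG

variable {G : Type*} [Group G] [Finite G]

theorem s1372_of (hG : IsMinSimpleOddOrder G) {M K : Subgroup G} (hM : IsCoatom M)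
    (hab : (Nat.card K).Prime ∧ Group.IsNilpotent (sigmaCore M) ∧
      ∀ r : ℕ, r.Prime → r ∣ Nat.card (sigmaCore M) → r ∈ beta M)
    (hint : ∀ {g : G}, g ∉ M → fittingOf M ⊓ cj g (fittingOf M) ≤ sigmaCore M ⊓ cj g M) :
    (Nat.card K).Prime ∧ IsTISubset (fittingOf M : Set G) ∧ sigmaCore M ≤ fittingOf M := by
  obtain ⟨hKp, hnil, hbeta⟩ := hab
  refine ⟨hKp, ?_, ?_⟩
  · intro g hg x hx hgx
    have hgM : g ∉ M := fun h => hg (Cfsg.Agent.Lib.Helper30Bender.le_normalizer_fittingOf M h)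
    obtain ⟨E, hE, -⟩ := Cfsg.Agent.Lib.Helper31BGS.exists_compl_ge hG hM (X := ⊥) bot_le (by
      intro p hp hd
      rw [Subgroup.card_bot] at hd
      exact absurd (Nat.dvd_one.mp hd) hp.ne_one)
    have h26 := ((Cfsg.Agent.S1426.result hG M hM E hE).2.2 g hgM).2.1
    have hy : g * x * g⁻¹ ∈ sigmaCore M ⊓ cj g M := hint hgM ⟨hgx, conj_mem_cj hx⟩
    by_contra hx1
    have hne : Nat.card ↥(sigmaCore M ⊓ cj g M) ≠ 1 := by
      intro h1
      have hbot := (Subgroup.card_eq_one).mp h1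
      rw [hbot, mem_bot] at hy
      apply hx1
      have : x = g⁻¹ * (g * x * g⁻¹) * g := by group
      rw [this, hy]; group
    obtain ⟨r, hr, hrd⟩ := Nat.exists_prime_and_dvd hne
    exact h26 r hr hrd (hbeta r hr (hrd.trans (card_dvd_of_le inf_le_left)))
  · exact Cfsg.Agent.Lib.Helper30Bender.le_fittingOf (Cfsg.Agent.Lib.Helper31BGS.sigmaCore_le M)
      (Cfsg.Agent.Lib.Helper31BGS.le_normalizer_sigmaCore M) hnil

end Cfsg.Agent.Lib.Helper60BG15S1372
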