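import Mathlib

set_option autoImplicit false

namespace Cfsg.Agent.Lib.Helper67Basic

/-- `|T : R ∩ T| = |RT : R|` for `T` normal. -/
theorem relIndex_eq_relIndex_sup {G : Type*} [Group G] [Finite G] (R T : Subgroup G) [T.Normal] :
    R.relIndex T = R.relIndex (R ⊔ T) := by
  have h1 : (R ⊓ T).relIndex R * R.relIndex (R ⊔ T) = (R ⊓ T).relIndex (R ⊔ T) :=
    Subgroup.relIndex_mul_relIndex _ _ _ inf_le_left le_sup_left
  have h2 : (R ⊓ T).relIndex T * T.relIndex (R ⊔ T) = (R ⊓ T).relIndex (R ⊔ T) :=
    Subgroup.relIndex_mul_relIndex _ _ _ inf_le_right le_sup_right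
  have h3 : T.relIndex (R ⊔ T) = (R ⊓ T).relIndex R := by
    rw [Subgroup.relIndex_sup_right, Subgroup.inf_relIndex_left]
  have h4 : (R ⊓ T).relIndex T = R.relIndex T := Subgroup.inf_relIndex_right _ _
  rw [h3, h4, ← h1, mul_comm] at h2
  have h5 : (R ⊓ T).relIndex R ≠ 0 := Subgroup.index_ne_zero_of_finite
  exact Nat.eq_of_mul_eq_mul_left (Nat.pos_of_ne_zero h5) h2

theorem relIndex_dvd_index_of_normal_right {G : Type*} [Group G] [Finite G] (R T : Subgroup G)
    [T.Normal] : R.relIndex T ∣ R.index := by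
  rw [relIndex_eq_relIndex_sup]
  exact Subgroup.relIndex_dvd_index_of_le le_sup_left

/-- The intersection of a Sylow subgroup with a normal subgroup, as a Sylow subgroup. -/
noncomputable def sylowInfNormal {G : Type*} [Group G] [Finite G] {p : ℕ} [Fact p.Prime]
    (R : Sylow p G) (T : Subgroup G) [T.Normal] : Sylow p T :=
  IsPGroup.toSylow (P := (R : Subgroup G).subgroupOf T)
    (R.2.comap_of_injective T.subtype T.subtype_injective)
    (fun h => R.not_dvd_index (h.trans (relIndex_dvd_index_of_normal_right (R : Subgroup G) T)))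

theorem sylowInfNormal_coe {G : Type*} [Group G] [Finite G] {p : ℕ} [Fact p.Prime]
    (R : Sylow p G) (T : Subgroup G) [T.Normal] :
    (sylowInfNormal R T : Subgroup T) = (R : Subgroup G).subgroupOf T := rfl

theorem sylowInfNormal_map {G : Type*} [Group G] [Finite G] {p : ℕ} [Fact p.Prime]
    (R : Sylow p G) (T : Subgroup G) [T.Normal] :
    (sylowInfNormal R T : Subgroup T).map T.subtype = (R : Subgroup G) ⊓ T := by
  rw [sylowInfNormal_coe, Subgroup.subgroupOf_map_subtype]

/-- Frattini argument for `R ∩ T`. -/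
theorem normalizer_inf_sup_eq_top {G : Type*} [Group G] [Finite G] {p : ℕ} [Fact p.Prime]
    (R : Sylow p G) (T : Subgroup G) [T.Normal] :
    Subgroup.normalizer (((R : Subgroup G) ⊓ T : Subgroup G) : Set G) ⊔ T = ⊤ := by
  have := Sylow.normalizer_sup_eq_top (sylowInfNormal R T)
  rw [sylowInfNormal_map] at this
  exact this

/-- A finite simple `p`-group is commutative. -/
theorem isMulCommutative_of_simple_pGroup {T : Type*} [Group T] [Finite T] {p : ℕ} [Fact p.Prime]
    (hs : IsSimpleGroup T) (hp : IsPGroup p T) : IsMulCommutative T := by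
  have := hs.toNontrivial
  have hc : Subgroup.center T ≠ ⊥ := by
    have := hp.center_nontrivial
    exact (Subgroup.nontrivial_iff_ne_bot _).mp this
  have htop : Subgroup.center T = ⊤ :=
    (hs.eq_bot_or_eq_top_of_normal _ inferInstance).resolve_left hc
  refine ⟨⟨fun a b => ?_⟩⟩
  have ha : a ∈ Subgroup.center T := by rw [htop]; trivial
  exact (Subgroup.mem_center_iff.mp ha b).symm

end Cfsg.Agent.Lib.Helper67Basic
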