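import Mathlib

/-! The Baer trick: a group of class at most two and odd order carries a commutative group
structure `x ⊕ y = x y [y,x]^{1/2}` preserved by all endomorphisms. -/

set_option autoImplicit false

namespace Cfsg.Agent.Lib.Helper30Baer

open scoped commutatorElement

/-- data for the Baer trick -/
structure BaerData (H : Type*) [Group H] where
  k : ℕ
  hcen : ∀ x y z : H, ⁅x, y⁆ * z = z * ⁅x, y⁆
  hk : ∀ x y : H, ⁅x, y⁆ ^ (2 * k) = ⁅x, y⁆

variable {H : Type*} [Group H]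

/-- the type synonym carrying the new structure -/
def Baer (_d : BaerData H) : Type _ := H

namespace BaerData

variable (d : BaerData H)
include d

theorem comm_mul_left (x y z : H) : ⁅x * y, z⁆ = ⁅x, z⁆ * ⁅y, z⁆ := by
  have h := d.hcen y z (x⁻¹)
  have e : ⁅x * y, z⁆ = x * (⁅y, z⁆ * x⁻¹) * (x * z * x⁻¹ * z⁻¹) := by
    simp only [commutatorElement_def]; group
  rw [e, h, (d.hcen x z ⁅y, z⁆)]
  simp only [commutatorElement_def]; group

theorem comm_mul_right (x y z : H) : ⁅x, y * z⁆ = ⁅x, y⁆ * ⁅x, z⁆ := by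
  have h := d.hcen x z (y⁻¹)
  have e : ⁅x, y * z⁆ = (x * y * x⁻¹) * (⁅x, z⁆ * y⁻¹) := by
    simp only [commutatorElement_def]; group
  rw [e, h]
  simp only [commutatorElement_def]; group

theorem comm_pow_cen (x y z : H) (n : ℕ) : ⁅x, y⁆ ^ n * z = z * ⁅x, y⁆ ^ n :=
  ((show Commute ⁅x, y⁆ z from d.hcen x y z).pow_left n).eq

theorem comm_cen_right (x y z : H) (n : ℕ) : ⁅x, ⁅y, z⁆ ^ n⁆ = 1 := by
  rw [commutatorElement_eq_one_iff_mul_comm]
  exact (d.comm_pow_cen y z x n).symm

theorem comm_cen_left (x y z : H) (n : ℕ) : ⁅⁅y, z⁆ ^ n, x⁆ = 1 := by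
  rw [commutatorElement_eq_one_iff_mul_comm]
  exact d.comm_pow_cen y z x n

omit d in
/-- the Baer operation -/
def op (d : BaerData H) (x y : H) : H := x * y * ⁅y, x⁆ ^ d.k

theorem commute_comm (a b x y : H) : Commute ⁅a, b⁆ ⁅x, y⁆ := d.hcen a b _

theorem op_assoc (x y z : H) : d.op (d.op x y) z = d.op x (d.op y z) := by
  unfold op
  rw [d.comm_mul_right, d.comm_mul_right, d.comm_cen_right, mul_one,
    d.comm_mul_left, d.comm_mul_left, d.comm_cen_left, mul_one,
    (d.commute_comm z x z y).mul_pow, (d.commute_comm y x z x).mul_pow]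
  have h1 := d.comm_pow_cen y x z d.k
  have h2 := (d.commute_comm y x z y).pow_pow d.k d.k
  have h3 := (d.commute_comm y x z x).pow_pow d.k d.k
  have h4 := (d.commute_comm z x z y).pow_pow d.k d.k
  calc x * y * ⁅y, x⁆ ^ d.k * z * (⁅z, x⁆ ^ d.k * ⁅z, y⁆ ^ d.k)
      = x * y * (⁅y, x⁆ ^ d.k * z) * (⁅z, x⁆ ^ d.k * ⁅z, y⁆ ^ d.k) := by group
    _ = x * y * (z * ⁅y, x⁆ ^ d.k) * (⁅z, y⁆ ^ d.k * ⁅z, x⁆ ^ d.k) := by rw [h1, h4.eq]
    _ = x * y * z * (⁅y, x⁆ ^ d.k * ⁅z, y⁆ ^ d.k) * ⁅z, x⁆ ^ d.k := by group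
    _ = x * y * z * (⁅z, y⁆ ^ d.k * ⁅y, x⁆ ^ d.k) * ⁅z, x⁆ ^ d.k := by rw [h2.eq]
    _ = x * (y * z * ⁅z, y⁆ ^ d.k) * (⁅y, x⁆ ^ d.k * ⁅z, x⁆ ^ d.k) := by group

theorem op_comm (x y : H) : d.op x y = d.op y x := by
  unfold op
  have h1 : y * x = x * y * ⁅y, x⁆ := by
    have := d.hcen y x (x * y)
    rw [← this]; simp only [commutatorElement_def]; group
  have h2 : ⁅x, y⁆ = ⁅y, x⁆⁻¹ := (commutatorElement_inv y x).symm
  have h3 := d.hk y x
  rw [h1, h2, inv_pow, mul_assoc (x * y)]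
  congr 1
  rw [eq_mul_inv_iff_mul_eq, ← pow_add, ← two_mul, h3]

theorem op_one (x : H) : d.op 1 x = x := by
  unfold op; simp

theorem op_inv (x : H) : d.op x⁻¹ x = 1 := by
  unfold op
  have : ⁅x, x⁻¹⁆ = 1 := by simp [commutatorElement_def]
  rw [this]; simp

end BaerData

variable (d : BaerData H)

instance : Mul (Baer d) := ⟨d.op⟩
instance : One (Baer d) := ⟨(1 : H)⟩
instance : Inv (Baer d) := ⟨fun x => (x⁻¹ : H)⟩

instance : CommGroup (Baer d) :=
  { Group.ofLeftAxioms (G := Baer d) d.op_assoc d.op_one d.op_inv with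
    mul_comm := d.op_comm }

/-- the identity map to the Baer group -/
def toBaer (x : H) : Baer d := x
/-- the identity map from the Baer group -/
def ofBaer (x : Baer d) : H := x

@[simp] theorem ofBaer_toBaer (x : H) : ofBaer d (toBaer d x) = x := rfl
@[simp] theorem toBaer_ofBaer (x : Baer d) : toBaer d (ofBaer d x) = x := rfl
theorem ofBaer_one : ofBaer d 1 = 1 := rfl
theorem toBaer_one : toBaer d 1 = 1 := rfl
theorem ofBaer_mul (x y : Baer d) :
    ofBaer d (x * y) = ofBaer d x * ofBaer d y * ⁅ofBaer d y, ofBaer d x⁆ ^ d.k := rfl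
theorem ofBaer_injective : Function.Injective (ofBaer d) := fun _ _ h => h
theorem toBaer_injective : Function.Injective (toBaer d) := fun _ _ h => h

/-- every endomorphism of `H` is an endomorphism of the Baer group -/
def mapHom (f : H →* H) : Baer d →* Baer d where
  toFun x := toBaer d (f (ofBaer d x))
  map_one' := by
    show toBaer d (f 1) = 1
    rw [map_one]; rfl
  map_mul' x y := by
    apply ofBaer_injective
    rw [ofBaer_mul]
    simp only [ofBaer_toBaer]
    rw [ofBaer_mul, map_mul, map_mul, map_pow, map_commutatorElement]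
    rfl

@[simp] theorem ofBaer_mapHom (f : H →* H) (x : Baer d) :
    ofBaer d (mapHom d f x) = f (ofBaer d x) := rfl

instance [Finite H] : Finite (Baer d) := inferInstanceAs (Finite H)

theorem card_baer : Nat.card (Baer d) = Nat.card H := rfl

/-- Baer data from odd order and class two -/
noncomputable def ofOdd [Finite H] (hodd : Odd (Nat.card H)) (hcen : ∀ x y z : H, ⁅x, y⁆ * z = z * ⁅x, y⁆) :
    BaerData H where
  k := (Nat.card H + 1) / 2
  hcen := hcen
  hk := by
    intro x y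
    obtain ⟨m, hm⟩ := hodd
    have : 2 * ((Nat.card H + 1) / 2) = Nat.card H + 1 := by omega
    rw [this, pow_succ, pow_card_eq_one', one_mul]


instance : MulDistribMulAction (MulAut H) (Baer d) where
  smul f x := toBaer d (f (ofBaer d x))
  one_smul _ := rfl
  mul_smul _ _ _ := rfl
  smul_mul f x y := (mapHom d f.toMonoidHom).map_mul x y
  smul_one f := (mapHom d f.toMonoidHom).map_one

theorem ofBaer_smul (f : MulAut H) (x : Baer d) : ofBaer d (f • x) = f (ofBaer d x) := rfl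

open Subgroup

/-- strengthened `P × Q` lemma, commutative case, for an abstract action -/

theorem abelian_case {V : Type*} [CommGroup V] [Finite V] {Γ : Type*} [Group Γ]
    [MulDistribMulAction Γ V] {p : ℕ} [Fact p.Prime] (hV : IsPGroup p V) (P Q : Subgroup Γ)
    [Finite Q] (hP : IsPGroup p P) (hQ : (Nat.card Q).Coprime p)
    (hPQ : P ≤ normalizer (Q : Set Γ))
    (hC : ∀ v : V, (∀ g ∈ P, g • v = v) → ∀ a ∈ Q, a • v = v) :
    ∀ a ∈ Q, ∀ v : V, a • v = v := by
  classical
  have hp : p.Prime := Fact.out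
  have : Fintype Q := Fintype.ofFinite _
  let τ : V →* V :=
    { toFun := fun v => ∏ a : Q, (a : Γ) • v
      map_one' := by simp
      map_mul' := by intro x y; simp [smul_mul', Finset.prod_mul_distrib] }
  have hτ : ∀ v, τ v = ∏ a : Q, (a : Γ) • v := fun v => rfl
  have hτP : ∀ g ∈ P, ∀ v, τ (g • v) = g • τ v := by
    intro g hg v
    rw [hτ, hτ, Finset.smul_prod']
    have hgN := hPQ hg
    let e : Q ≃ Q :=
      { toFun := fun a => ⟨g⁻¹ * a * g, by
          have := (mem_normalizer_iff''.mp hgN (a : Γ)).mp a.2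
          exact this⟩
        invFun := fun a => ⟨g * a * g⁻¹, (mem_normalizer_iff.mp hgN (a : Γ)).mp a.2⟩
        left_inv := by intro a; apply Subtype.ext; simp [mul_assoc]
        right_inv := by intro a; apply Subtype.ext; simp [mul_assoc] }
    refine Fintype.prod_equiv e _ _ ?_
    intro a
    show (a : Γ) • g • v = g • ((g⁻¹ * a * g : Γ) • v)
    rw [← mul_smul, ← mul_smul]
    congr 1
    group
  have hτQ : ∀ b ∈ Q, ∀ v, τ (b • v) = τ v := by
    intro b hb v
    rw [hτ, hτ]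
    refine Fintype.prod_equiv (Equiv.mulRight (⟨b, hb⟩ : Q)) _ _ ?_
    intro a
    show (a : Γ) • b • v = ((a * ⟨b, hb⟩ : Q) : Γ) • v
    rw [← mul_smul]; rfl
  by_contra hcon
  push Not at hcon
  obtain ⟨a, ha, v, hav⟩ := hcon
  have hu₀ : (a • v) * v⁻¹ ∈ τ.ker := by
    rw [MonoidHom.mem_ker, map_mul, map_inv, hτQ a ha, mul_inv_cancel]
  have hu₀1 : (a • v) * v⁻¹ ≠ 1 := by
    intro h; exact hav (mul_inv_eq_one.mp h)
  have hUnt : Nontrivial τ.ker := ⟨⟨⟨_, hu₀⟩, 1, fun h => hu₀1 (congrArg Subtype.val h)⟩⟩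
  have hUp : IsPGroup p τ.ker := hV.to_subgroup _
  have hdvd : p ∣ Nat.card τ.ker := by
    obtain ⟨n, hn⟩ := IsPGroup.iff_card.mp hUp
    rw [hn]
    have : n ≠ 0 := by
      rintro rfl
      have h1 : Nat.card τ.ker = 1 := by simpa using hn
      have := Finite.one_lt_card (α := τ.ker)
      omega
    exact dvd_pow_self p this
  let _ : MulAction P τ.ker :=
    { smul := fun g u => ⟨(g : Γ) • (u : V), by
        rw [MonoidHom.mem_ker, hτP g g.2, MonoidHom.mem_ker.mp u.2, smul_one]⟩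
      one_smul := by intro u; apply Subtype.ext; show ((1 : P) : Γ) • (u : V) = u; simp
      mul_smul := by
        intro g h u; apply Subtype.ext
        show ((g * h : P) : Γ) • (u : V) = (g : Γ) • (h : Γ) • (u : V)
        rw [← mul_smul]; rfl }
  have h1fix : (1 : τ.ker) ∈ MulAction.fixedPoints P τ.ker := by
    intro g; apply Subtype.ext
    show (g : Γ) • ((1 : τ.ker) : V) = 1
    simp
  obtain ⟨u, hu, hu1⟩ := hP.exists_fixed_point_of_prime_dvd_card_of_fixed_point τ.ker hdvd h1fix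
  have huP : ∀ g ∈ P, g • (u : V) = u := by
    intro g hg
    exact congrArg Subtype.val (hu ⟨g, hg⟩)
  have huQ := hC u huP
  have h2 : τ u = (u : V) ^ Nat.card Q := by
    rw [hτ, Finset.prod_congr rfl (fun (b : Q) _ => huQ (b : Γ) b.2), Finset.prod_const, Finset.card_univ,
      Nat.card_eq_fintype_card]
  rw [MonoidHom.mem_ker.mp u.2] at h2
  obtain ⟨k, hk⟩ := hV (u : V)
  have h3 : orderOf (u : V) ∣ Nat.card Q := orderOf_dvd_of_pow_eq_one h2.symm
  have h4 : orderOf (u : V) ∣ p ^ k := orderOf_dvd_of_pow_eq_one hk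
  have h5 : orderOf (u : V) = 1 := Nat.eq_one_of_dvd_coprimes (hQ.pow_right k) h3 h4
  exact hu1 (Subtype.ext (orderOf_eq_one_iff.mp h5).symm)

/-- strengthened `P × Q` lemma, class two case, automorphism form -/
theorem class_two_case [Finite H] {p : ℕ} [Fact p.Prime] (hp2 : p ≠ 2) (hH : IsPGroup p H)
    (hcen : ∀ x y z : H, ⁅x, y⁆ * z = z * ⁅x, y⁆) (P Q : Subgroup (MulAut H))
    (hP : IsPGroup p P) (hQ : (Nat.card Q).Coprime p) (hPQ : P ≤ normalizer (Q : Set (MulAut H)))
    (hC : ∀ x : H, (∀ f ∈ P, f x = x) → ∀ f ∈ Q, f x = x) :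
    ∀ f ∈ Q, ∀ x : H, f x = x := by
  have hp : p.Prime := Fact.out
  obtain ⟨n, hn⟩ := IsPGroup.iff_card.mp hH
  have hodd : Odd (Nat.card H) := by
    rw [hn]
    exact (hp.odd_of_ne_two hp2).pow
  let d := ofOdd hodd hcen
  have hV : IsPGroup p (Baer d) := IsPGroup.of_card (n := n) (by rw [card_baer, hn])
  have hfin : Finite (MulAut H) := Finite.of_injective (fun f : MulAut H => (f : H → H))
    (fun f g h => by ext x; exact congrFun h x)
  intro f hf x
  exact abelian_case hV P Q hP hQ hPQ (fun v hv a ha => hC v hv a ha) f hf (toBaer d x)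

end Cfsg.Agent.Lib.Helper30Baer
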