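import Cfsg.Agent.Lib.Helper30Rank3
import Cfsg.Agent.Lib.Helper31PLength
import Cfsg.Agent.Lib.Helper67Basic
import Cfsg.Agent.S3737
import Cfsg.Agent.S0028

/-! Thompson transitivity: abstract maximal intersection argument, the quadratic `P × Q` lemma,
invariant `p'`-subgroups of `p`-constrained groups. -/

set_option autoImplicit false

namespace Cfsg.Agent.Lib.Helper30Thompson

open Subgroup Cfsg
open Cfsg.Agent.Lib.Helper30SZ Cfsg.Agent.Lib.Helper30Coprime Cfsg.Agent.Lib.Helper30Trans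
open scoped commutatorElement

variable {G : Type*} [Group G]

/-- maximal members of a family of subgroups -/
def IsMaxIn (F : Set (Subgroup G)) (Q : Subgroup G) : Prop := Q ∈ F ∧ ∀ R ∈ F, Q ≤ R → R = Q

theorem exists_isMaxIn_ge [Finite G] {F : Set (Subgroup G)} {Y : Subgroup G} (hY : Y ∈ F) :
    ∃ Q, IsMaxIn F Q ∧ Y ≤ Q := by
  have hfin : F.Finite := Set.toFinite _
  obtain ⟨Q, hYQ, hQ⟩ := hfin.exists_le_maximal hY
  refine ⟨Q, ⟨hQ.prop, ?_⟩, hYQ⟩
  intro R hR hQR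
  exact le_antisymm (hQ.le_of_ge hR hQR) hQR

theorem cj_isMaxIn {F : Set (Subgroup G)} {K : Subgroup G}
    (hconj : ∀ k ∈ K, ∀ Q ∈ F, cj k Q ∈ F) {k : G} (hk : k ∈ K) {Q : Subgroup G}
    (h : IsMaxIn F Q) : IsMaxIn F (cj k Q) := by
  refine ⟨hconj k hk Q h.1, ?_⟩
  intro R hR hle
  have h1 : Q ≤ cj k⁻¹ R := cj_le_iff.mp hle
  have h2 := h.2 _ (hconj _ (K.inv_mem hk) R hR) h1
  rw [← h2, cj_cj_inv]

/-- The abstract "maximal intersection" argument for a family of subgroups. -/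
theorem rel_of_link_family [Finite G] {K : Subgroup G} {F : Set (Subgroup G)}
    (hconj : ∀ k ∈ K, ∀ Q ∈ F, cj k Q ∈ F)
    (hlink : ∀ Q₁ Q₂, IsMaxIn F Q₁ → IsMaxIn F Q₂ →
      Q₁ ≠ Q₂ → ∃ Y₁ Y₂ S : Subgroup G, ∃ c ∈ K, Q₁ ⊓ Q₂ < Y₁ ∧ Y₁ ≤ Q₁ ∧ Q₁ ⊓ Q₂ < Y₂ ∧ Y₂ ≤ Q₂ ∧
        S ∈ F ∧ Y₁ ≤ S ∧ Y₂ ≤ cj c S) :
    ∀ Q₁ Q₂, IsMaxIn F Q₁ → IsMaxIn F Q₂ → Rel K Q₁ Q₂ := by
  have key : ∀ m : ℕ, ∀ Q₁ Q₂, IsMaxIn F Q₁ → IsMaxIn F Q₂ →
      Nat.card G - Nat.card (Q₁ ⊓ Q₂ : Subgroup G) = m → Rel K Q₁ Q₂ := by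
    intro m
    induction m using Nat.strong_induction_on with
    | _ m ih =>
      intro Q₁ Q₂ h₁ h₂ hm
      by_cases hne : Q₁ = Q₂
      · rw [hne]; exact Rel.refl K Q₂
      obtain ⟨Y₁, Y₂, S, c, hc, hDY₁, hY₁Q, hDY₂, hY₂Q, hS, hY₁S, hY₂S⟩ := hlink Q₁ Q₂ h₁ h₂ hne
      obtain ⟨R, hR, hSR⟩ := exists_isMaxIn_ge hS
      have hcard : ∀ (Y T : Subgroup G), Q₁ ⊓ Q₂ < Y → Y ≤ T →
          Nat.card G - Nat.card T < m := by
        intro Y T h1 h2
        have h3 := card_lt_of_lt h1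
        have h4 := card_le_of_le h2
        have h5 : Nat.card T ≤ Nat.card G := card_le_card_group T
        have h6 : Nat.card (Q₁ ⊓ Q₂ : Subgroup G) ≤ Nat.card G := card_le_card_group _
        omega
      have hcR := cj_isMaxIn hconj hc hR
      have r1 : Rel K Q₁ R := by
        have hle : Y₁ ≤ Q₁ ⊓ R := le_inf hY₁Q (le_trans hY₁S hSR)
        exact ih _ (hcard Y₁ _ hDY₁ hle) Q₁ R h₁ hR rfl
      have r2 : Rel K Q₂ (cj c R) := by
        have hle : Y₂ ≤ Q₂ ⊓ cj c R := le_inf hY₂Q (le_trans hY₂S (cj_mono hSR))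
        exact ih _ (hcard Y₂ _ hDY₂ hle) Q₂ _ h₂ hcR rfl
      have r3 : Rel K R (cj c R) := ⟨c, hc, rfl⟩
      exact r1.trans (r3.trans r2.symm)
  intro Q₁ Q₂ h₁ h₂
  exact key _ Q₁ Q₂ h₁ h₂ rfl

/-- The quadratic version of the strengthened `P × Q` lemma (all primes). -/
theorem pq_quadratic [Finite G] {p : ℕ} [Fact p.Prime] (P Q U : Subgroup G) (hP : IsPGroup p P)
    (hQ : (Nat.card Q).Coprime p) (hPQ : P ≤ normalizer (Q : Set G)) (hU : IsPGroup p U)
    (hPU : P ≤ normalizer (U : Set G)) (hQU : Q ≤ normalizer (U : Set G))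
    (hC : U ⊓ centralizer (P : Set G) ≤ centralizer (Q : Set G))
    (hquad : ∀ g ∈ U, ∀ u ∈ P, g⁻¹ * (u * g * u⁻¹) ∈ centralizer (P : Set G)) :
    Q ≤ centralizer (U : Set G) := by
  have hcopU : (Nat.card Q).Coprime (Nat.card U) := by
    obtain ⟨k, hk⟩ := IsPGroup.iff_card.mp hU
    rw [hk]; exact hQ.pow_right k
  have hcopP : (Nat.card P).Coprime (Nat.card Q) := by
    obtain ⟨k, hk⟩ := IsPGroup.iff_card.mp hP
    rw [hk]; exact (hQ.pow_right k).symm
  -- w(u,g)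
  have hw : ∀ g ∈ U, ∀ u ∈ P, ∃ w ∈ U, w ∈ centralizer (P : Set G) ∧ w ∈ centralizer (Q : Set G) ∧
      u * g * u⁻¹ = g * w := by
    intro g hg u hu
    have h1 : g⁻¹ * (u * g * u⁻¹) ∈ U :=
      U.mul_mem (U.inv_mem hg) ((mem_normalizer_iff.mp (hPU hu) g).mp hg)
    exact ⟨_, h1, hquad g hg u hu, hC (Subgroup.mem_inf.mpr ⟨h1, hquad g hg u hu⟩), by group⟩
  have hcomm : ⁅Q, P⁆ ≤ centralizer (U : Set G) := by
    rw [commutator_le]
    intro a ha u hu
    rw [mem_centralizer_iff]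
    intro g hg
    obtain ⟨w₁, hw₁U, hw₁P, hw₁Q, e₁⟩ := hw g hg u⁻¹ (P.inv_mem hu)
    have hg' : a⁻¹ * g * a ∈ U := (mem_normalizer_iff''.mp (hQU ha) g).mp hg
    obtain ⟨w₂, hw₂U, hw₂P, hw₂Q, e₂⟩ := hw _ hg' u hu
    have c1 : a * w₁ = w₁ * a := (mem_centralizer_iff.mp hw₁Q) a ha
    have c2 : a * w₂ = w₂ * a := (mem_centralizer_iff.mp hw₂Q) a ha
    have c3 : u * w₁ = w₁ * u := (mem_centralizer_iff.mp hw₁P) u hu
    have hb : ⁅a, u⁆ ∈ Q := by
      rw [commutatorElement_def]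
      have : u * a⁻¹ * u⁻¹ ∈ Q := (mem_normalizer_iff.mp (hPQ hu) _).mp (Q.inv_mem ha)
      have e : a * u * a⁻¹ * u⁻¹ = a * (u * a⁻¹ * u⁻¹) := by group
      rw [e]; exact Q.mul_mem ha this
    have key : ⁅a, u⁆ * g * ⁅a, u⁆⁻¹ = g * (w₂ * w₁) := by
      have e₁' : u⁻¹ * g * u = g * w₁ := by simpa using e₁
      have c1' : a⁻¹ * w₁ * a = w₁ := by
        calc a⁻¹ * w₁ * a = a⁻¹ * (w₁ * a) := by group
          _ = a⁻¹ * (a * w₁) := by rw [c1]
          _ = w₁ := by group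
      have c3' : u * w₁ * u⁻¹ = w₁ := by rw [c3]; group
      have c12 : a * (w₂ * w₁) * a⁻¹ = w₂ * w₁ := by
        calc a * (w₂ * w₁) * a⁻¹ = (a * w₂) * w₁ * a⁻¹ := by group
          _ = w₂ * (a * w₁) * a⁻¹ := by rw [c2]; group
          _ = w₂ * w₁ := by rw [c1]; group
      calc ⁅a, u⁆ * g * ⁅a, u⁆⁻¹ = a * (u * (a⁻¹ * (u⁻¹ * g * u) * a) * u⁻¹) * a⁻¹ := by
            rw [commutatorElement_def]; group
        _ = a * (u * ((a⁻¹ * g * a) * (a⁻¹ * w₁ * a)) * u⁻¹) * a⁻¹ := by rw [e₁']; group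
        _ = a * ((u * (a⁻¹ * g * a) * u⁻¹) * (u * w₁ * u⁻¹)) * a⁻¹ := by rw [c1']; group
        _ = a * ((a⁻¹ * g * a) * w₂ * w₁) * a⁻¹ := by rw [e₂, c3']
        _ = g * (a * (w₂ * w₁) * a⁻¹) := by group
        _ = g * (w₂ * w₁) := by rw [c12]
    have hz : w₂ * w₁ ∈ U := U.mul_mem hw₂U hw₁U
    have hzQ : w₂ * w₁ ∈ centralizer (Q : Set G) := mul_mem hw₂Q hw₁Q
    have hc : Commute ⁅a, u⁆ (w₂ * w₁) := (mem_centralizer_iff.mp hzQ) _ hb
    have h1 := eq_one_of_conj key hc (pow_card_of_mem hb) (pow_card_of_mem hz) hcopU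
    rw [h1, mul_one] at key
    calc g * ⁅a, u⁆ = (⁅a, u⁆ * g * ⁅a, u⁆⁻¹) * ⁅a, u⁆ := by rw [key]
      _ = ⁅a, u⁆ * g := by group
  have hfix : Q ⊓ centralizer (P : Set G) ≤ centralizer (U : Set G) := by
    apply Cfsg.Agent.S0028.result p P (Q ⊓ centralizer (P : Set G)) U hP
      (Nat.Coprime.coprime_dvd_left (card_dvd_of_le inf_le_left) hQ) hU
    · rw [le_centralizer_iff]; exact inf_le_right
    · exact hPU
    · exact le_trans inf_le_left hQU
    · exact le_trans hC (centralizer_le (by exact_mod_cast (inf_le_left : Q ⊓ centralizer (P : Set G) ≤ Q)))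
  intro a ha
  have hsolv : Group.IsSolvable P := by
    have := hP.isNilpotent
    infer_instance
  obtain ⟨x, hx, c, hc, rfl⟩ := exists_commutator_mul_centralizer hPQ hcopP (Or.inl hsolv) ha
  exact mul_mem (hcomm hx) (hfix hc)


open Cfsg.Agent.Lib.Helper1Fitting Cfsg.Agent.Lib.Helper31PLength in
/-- Invariant `p'`-subgroups of a `p`-constrained group lie in `O_{p'}`, when the acting `p`-group
`E` contains all `p`-elements of its centralizer. -/
theorem key_lemma {H : Type*} [Group H] [Finite H] {p : ℕ} [Fact p.Prime]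
    (hc : IsPConstrained p H)
    (hcl : p = 2 → ∀ S : Subgroup H, IsPGroup p S →
      ∀ x ∈ S, ∀ y ∈ S, ∀ z ∈ S, ⁅x, y⁆ * z = z * ⁅x, y⁆)
    (E : Subgroup H) (hEp : IsPGroup p E)
    (hEfull : ∀ x ∈ centralizer (E : Set H), (∃ k : ℕ, x ^ p ^ k = 1) → x ∈ E)
    (K : Subgroup H) (hK : (Nat.card K).Coprime p) (hEK : E ≤ normalizer (K : Set H)) :
    K ≤ pPrimeCore p H := by
  set L := pPrimeCore p H with hL
  set π := QuotientGroup.mk' L with hπ
  set Rb := pCore p (H ⧸ L) with hRbdef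
  set M := pPrimePCore p H with hM
  have hMdef : M = Rb.comap π := rfl
  have hπL : ∀ x : H, π x = 1 ↔ x ∈ L := fun x => QuotientGroup.eq_one_iff x
  obtain ⟨S, hES⟩ := hEp.exists_le_sylow
  set R := (S : Subgroup H) ⊓ M with hR
  have hRS : R ≤ S := inf_le_left
  have hRp : IsPGroup p R := S.2.to_le hRS
  have hMn : M.Normal := pPrimePCore_normal p H
  have hLn : L.Normal := Cfsg.Agent.Lib.Helper1Fitting.pPrimeCore_normal p
  have hRbn : Rb.Normal := Cfsg.Agent.Lib.Helper1Fitting.pCore_normal p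
  have hER : E ≤ normalizer (R : Set H) := by
    refine le_trans (le_inf (le_trans hES le_normalizer) ?_) inf_normalizer_le_normalizer_inf
    rw [normalizer_eq_top]; exact le_top
  have hcopL : (Nat.card L).Coprime p := card_pPrimeCore_coprime p
  have hcopRL : (Nat.card R).Coprime (Nat.card L) := by
    obtain ⟨k, hk⟩ := IsPGroup.iff_card.mp hRp
    rw [hk]; exact (hcopL.pow_right k).symm
  have hmapR : ∀ xb ∈ Rb, ∃ x ∈ R, π x = xb := by
    intro xb hxb
    obtain ⟨x, rfl⟩ := QuotientGroup.mk'_surjective L xb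
    have hxM : x ∈ M := hxb
    have h1 := pPrimePCore_le_sup p H S hxM
    rw [mem_sup_iff (by rw [normalizer_eq_top]; exact le_top)] at h1
    obtain ⟨l, hl, s, hs, rfl⟩ := h1
    refine ⟨s, Subgroup.mem_inf.mpr ⟨hs, ?_⟩, ?_⟩
    · have h2 : l⁻¹ * (l * s) ∈ M := M.mul_mem (M.inv_mem (pPrimeCore_le_pPrimePCore p H hl)) hxM
      simpa using h2
    · rw [map_mul, (hπL l).mpr hl, one_mul]
  have hRM : ∀ x ∈ R, π x ∈ Rb := fun x hx => (Subgroup.mem_inf.mp hx).2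
  set Eb := E.map π with hEbdef
  set Kb := K.map π with hKbdef
  have hEb : IsPGroup p Eb := hEp.map π
  have hKb : (Nat.card Kb).Coprime p := Nat.Coprime.coprime_dvd_left (card_map_dvd _ _) hK
  have hRbp : IsPGroup p Rb := pCore_isPGroup p
  have hcopKR : (Nat.card Kb).Coprime (Nat.card Rb) := by
    obtain ⟨k, hk⟩ := IsPGroup.iff_card.mp hRbp
    rw [hk]; exact hKb.pow_right k
  have hEKb : Eb ≤ normalizer (Kb : Set (H ⧸ L)) := by
    rw [le_normalizer_iff]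
    rintro _ ⟨e, he, rfl⟩ _ ⟨k, hk, rfl⟩
    exact ⟨e * k * e⁻¹, (mem_normalizer_iff.mp (hEK he) k).mp hk, by simp⟩
  have hNRb : normalizer (Rb : Set (H ⧸ L)) = ⊤ := normalizer_eq_top Rb
  have hC : Rb ⊓ centralizer (Eb : Set (H ⧸ L)) ≤ centralizer (Kb : Set (H ⧸ L)) := by
    intro xb hxb
    obtain ⟨hxR, hxE⟩ := Subgroup.mem_inf.mp hxb
    obtain ⟨x, hx, rfl⟩ := hmapR xb hxR
    have hxcE : x ∈ centralizer (E : Set H) := by
      rw [mem_centralizer_iff]
      intro e he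
      have h1 : e * x * e⁻¹ * x⁻¹ ∈ R :=
        R.mul_mem ((mem_normalizer_iff.mp (hER he) x).mp hx) (R.inv_mem hx)
      have h2 : e * x * e⁻¹ * x⁻¹ ∈ L := by
        rw [← hπL]
        have h3 : π e * π x = π x * π e := (mem_centralizer_iff.mp hxE) _ ⟨e, he, rfl⟩
        simp only [map_mul, map_inv]
        rw [h3]; group
      have h4 := eq_one_of_mem_of_mem hcopRL h2 h1
      calc e * x = (e * x * e⁻¹ * x⁻¹) * x * e := by group
        _ = x * e := by rw [h4]; group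
    have hxEm : x ∈ E := by
      apply hEfull x hxcE
      obtain ⟨k, hk⟩ := hRp ⟨x, hx⟩
      exact ⟨k, congrArg Subtype.val hk⟩
    rw [mem_centralizer_iff]
    rintro _ ⟨k, hk, rfl⟩
    have h1 : x * k * x⁻¹ * k⁻¹ ∈ K :=
      K.mul_mem ((mem_normalizer_iff.mp (hEK hxEm) k).mp hk) (K.inv_mem hk)
    have h2 : π (x * k * x⁻¹ * k⁻¹) ∈ Kb := ⟨_, h1, rfl⟩
    have h3 : π (x * k * x⁻¹ * k⁻¹) ∈ Rb := by
      have e : π (x * k * x⁻¹ * k⁻¹) = π x * (π k * (π x)⁻¹ * (π k)⁻¹) := by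
        simp only [map_mul, map_inv]; group
      rw [e]
      exact Rb.mul_mem hxR (hRbn.conj_mem _ (Rb.inv_mem hxR) _)
    have h4 := eq_one_of_mem_of_mem hcopKR h3 h2
    simp only [map_mul, map_inv] at h4
    calc π k * π x = (π x * π k * (π x)⁻¹ * (π k)⁻¹)⁻¹ * (π x * π k) := by group
      _ = π x * π k := by rw [h4]; group
  have hKR : Kb ≤ centralizer (Rb : Set (H ⧸ L)) := by
    by_cases hp2 : p = 2
    · apply pq_quadratic Eb Kb Rb hEb hKb hEKb hRbp (hNRb ▸ le_top) (hNRb ▸ le_top) hC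
      intro g hg
      obtain ⟨x, hx, rfl⟩ := hmapR g hg
      rintro _ ⟨e, he, rfl⟩
      rw [mem_centralizer_iff]
      rintro _ ⟨e', he', rfl⟩
      have h1 := hcl hp2 S S.2 x⁻¹ (inv_mem (hRS hx)) e (hES he) e' (hES he')
      have h2 := congrArg π h1
      rw [commutatorElement_def] at h2
      simp only [map_mul, map_inv, inv_inv] at h2
      rw [show (π x)⁻¹ * (π e * π x * (π e)⁻¹) = (π x)⁻¹ * π e * π x * (π e)⁻¹ by group]
      exact h2.symm
    · exact Cfsg.Agent.S3737.result hp2 Eb Kb Rb hEb hKb hEKb hRbp (hNRb ▸ le_top) (hNRb ▸ le_top) hC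
  intro k hk
  have hsolv : Group.IsSolvable R := by
    have := hRp.isNilpotent
    infer_instance
  have hkb : π k ∈ Kb := ⟨k, hk, rfl⟩
  obtain ⟨n, hn, hkn⟩ := exists_mul_mem_centralizer (N := L) (A := R)
    (by rw [normalizer_eq_top]; exact le_top) hcopRL (Or.inl hsolv) (k := k) (by
      intro a ha
      rw [← hπL]
      have h3 : π a * π k = π k * π a := (mem_centralizer_iff.mp (hKR hkb)) _ (hRM a ha)
      simp only [map_mul, map_inv]
      calc (π k)⁻¹ * π a * π k * (π a)⁻¹ = (π k)⁻¹ * (π a * π k) * (π a)⁻¹ := by group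
        _ = 1 := by rw [h3]; group)
  let R' : Sylow p M := Cfsg.Agent.Lib.Helper67Basic.sylowInfNormal S M
  have hR' : (R' : Subgroup M).map M.subtype = R :=
    Cfsg.Agent.Lib.Helper67Basic.sylowInfNormal_map S M
  have h5 := hc R'
  rw [hR'] at h5
  have h6 : π (k * n) ∈ Rb := h5 hkn
  rw [map_mul, (hπL n).mpr hn, mul_one] at h6
  exact (hπL k).mp (eq_one_of_mem_of_mem hcopKR h6 hkb)


theorem isPGroup_zpowers_of_pow {p : ℕ} [hp : Fact p.Prime] {x : G} {k : ℕ} (h : x ^ p ^ k = 1) :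
    IsPGroup p (zpowers x) := by
  obtain ⟨j, _, hj⟩ := (Nat.dvd_prime_pow hp.out).mp (orderOf_dvd_of_pow_eq_one h)
  exact IsPGroup.of_card (n := j) (by rw [Nat.card_zpowers, hj])

theorem exists_pow_of_isPGroup_zpowers {p : ℕ} {x : G} (h : IsPGroup p (zpowers x)) :
    ∃ k : ℕ, x ^ p ^ k = 1 := by
  obtain ⟨k, hk⟩ := h ⟨x, mem_zpowers x⟩
  exact ⟨k, congrArg Subtype.val hk⟩

/-- ambient form of `key_lemma` -/
theorem key_lemma_ambient [Finite G] {p : ℕ} [Fact p.Prime] {H : Subgroup G}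
    (hc : IsPConstrained p H)
    (hcl : p = 2 → ∀ S : Subgroup G, IsPGroup p S →
      ∀ x ∈ S, ∀ y ∈ S, ∀ z ∈ S, ⁅x, y⁆ * z = z * ⁅x, y⁆)
    {E : Subgroup G} (hEH : E ≤ H) (hEp : IsPGroup p E)
    (hEfull : ∀ x ∈ centralizer (E : Set G), IsPGroup p (zpowers x) → x ∈ E)
    {K : Subgroup G} (hKH : K ≤ H) (hK : (Nat.card K).Coprime p)
    (hEK : E ≤ normalizer (K : Set G)) :
    K ≤ (pPrimeCore p H).map H.subtype := by
  have h1 : K.subgroupOf H ≤ pPrimeCore p H := by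
    apply key_lemma hc ?_ (E.subgroupOf H) (hEp.comap_subtype) ?_ (K.subgroupOf H)
      (by rw [card_subgroupOf_of_le hKH]; exact hK) ?_
    · intro hp2 S hS x hx y hy z hz
      apply Subtype.ext
      exact hcl hp2 (S.map H.subtype) (hS.map _) x ⟨x, hx, rfl⟩ y ⟨y, hy, rfl⟩ z ⟨z, hz, rfl⟩
    · rintro x hx ⟨k, hk⟩
      rw [mem_subgroupOf]
      apply hEfull
      · rw [mem_centralizer_iff]
        intro e he
        have := (mem_centralizer_iff.mp hx) ⟨e, hEH he⟩ (mem_subgroupOf.mpr he)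
        exact congrArg Subtype.val this
      · exact isPGroup_zpowers_of_pow (k := k) (congrArg Subtype.val hk)
    · rw [le_normalizer_iff]
      intro e he k hk
      rw [mem_subgroupOf] at he hk ⊢
      exact (mem_normalizer_iff.mp (hEK he) _).mp hk
  intro k hk
  exact ⟨⟨k, hKH hk⟩, h1 (mem_subgroupOf.mpr hk), rfl⟩

theorem card_coreIn_coprime [Finite G] (p : ℕ) (H : Subgroup G) :
    (Nat.card ((pPrimeCore p H).map H.subtype : Subgroup G)).Coprime p := by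
  rw [card_map_of_injective H.subtype_injective]
  exact Cfsg.Agent.Lib.Helper1Fitting.card_pPrimeCore_coprime p

theorem le_normalizer_coreIn (p : ℕ) (H : Subgroup G) :
    H ≤ normalizer (((pPrimeCore p H).map H.subtype : Subgroup G) : Set G) := by
  rw [le_normalizer_iff]
  rintro x hx _ ⟨y, hy, rfl⟩
  exact ⟨⟨x, hx⟩ * y * ⟨x, hx⟩⁻¹,
    (Cfsg.Agent.Lib.Helper1Fitting.pPrimeCore_normal p).conj_mem y hy ⟨x, hx⟩, rfl⟩

/-- if `E` contains all `p`-elements of `C_G(E)`, then `p'`-subgroups of `C_G(E)` lie in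
`O_{p'}(C_G(E))`. -/
theorem le_core_centralizer [Finite G] {p : ℕ} [Fact p.Prime] {E : Subgroup G}
    (hEfull : ∀ x ∈ centralizer (E : Set G), IsPGroup p (zpowers x) → x ∈ E)
    {Y : Subgroup G} (hY : Y ≤ centralizer (E : Set G)) (hYp : (Nat.card Y).Coprime p) :
    Y ≤ piCoreOf (primesNotDvd p) (centralizer (E : Set G)) := by
  have hp : p.Prime := Fact.out
  set C := centralizer (E : Set G) with hC
  obtain ⟨P⟩ : Nonempty (Sylow p C) := inferInstance
  have hPE : ∀ x ∈ (P : Subgroup C), (x : G) ∈ E := by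
    intro x hx
    apply hEfull x x.2
    obtain ⟨k, hk⟩ := P.2 ⟨x, hx⟩
    exact isPGroup_zpowers_of_pow (k := k) (congrArg (fun t : (P : Subgroup C) => ((t : C) : G)) hk)
  have hPc : normalizer ((P : Subgroup C) : Set C) ≤ centralizer ((P : Subgroup C) : Set C) := by
    intro c _
    rw [mem_centralizer_iff]
    intro x hx
    apply Subtype.ext
    exact (mem_centralizer_iff.mp c.2) x (hPE x hx)
  let f := MonoidHom.transferSylow P hPc
  have hker : ¬ p ∣ Nat.card f.ker := MonoidHom.not_dvd_card_ker_transferSylow P hPc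
  have h1 : f.ker ≤ piCore (primesNotDvd p) C := by
    apply le_sSup
    refine ⟨inferInstance, ?_⟩
    intro q hq hdvd
    refine ⟨hq, fun h => ?_⟩
    rw [(Nat.prime_dvd_prime_iff_eq hq hp).mp h] at hdvd
    exact hker hdvd
  intro y hy
  refine ⟨⟨y, hY hy⟩, h1 ?_, rfl⟩
  rw [MonoidHom.mem_ker, ← orderOf_eq_one_iff]
  obtain ⟨k, hk⟩ := IsPGroup.iff_card.mp P.2
  have h2 : orderOf (f ⟨y, hY hy⟩) ∣ p ^ k := hk ▸ orderOf_dvd_natCard _
  have h3 : orderOf (f ⟨y, hY hy⟩) ∣ Nat.card Y := by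
    refine dvd_trans (orderOf_map_dvd f _) ?_
    have h4 : orderOf (⟨y, hY hy⟩ : C) = orderOf y := Subgroup.orderOf_mk y _
    rw [h4]
    have h5 : orderOf (⟨y, hy⟩ : Y) = orderOf y := Subgroup.orderOf_mk y _
    rw [← h5]
    exact orderOf_dvd_natCard _
  exact Nat.eq_one_of_dvd_coprimes (hYp.pow_right k) h3 h2


theorem card_sup_dvd_of_le_normalizer {A B : Subgroup G} (h : B ≤ normalizer (A : Set G)) :
    Nat.card (A ⊔ B : Subgroup G) ∣ Nat.card A * Nat.card B := by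
  have h1 : A.relIndex (A ⊔ B) = A.relIndex B := by
    let _ := Subgroup.normal_subgroupOf_of_le_normalizer h
    let _ := Subgroup.normal_subgroupOf_sup_of_le_normalizer h
    have e := QuotientGroup.quotientInfEquivProdNormalizerQuotient B A h
    rw [sup_comm]
    exact (Nat.card_congr e.toEquiv).symm
  have h2 := Subgroup.relIndex_mul_relIndex ⊥ A (A ⊔ B) bot_le le_sup_left
  rw [Subgroup.relIndex_bot_left, Subgroup.relIndex_bot_left, h1] at h2
  rw [← h2]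
  exact Nat.mul_dvd_mul_left _ (Subgroup.relIndex_dvd_card A B)

theorem le_normalizer_sup {A X Y : Subgroup G} (hX : A ≤ normalizer (X : Set G))
    (hY : A ≤ normalizer (Y : Set G)) : A ≤ normalizer ((X ⊔ Y : Subgroup G) : Set G) :=
  le_trans (le_inf hX hY) (normalizer_inf_normalizer_le_normalizer_sup X Y)

theorem centralizer_singleton_le_normalizer_zpowers (a : G) :
    centralizer ({a} : Set G) ≤ normalizer ((zpowers a : Subgroup G) : Set G) := by
  rw [le_normalizer_iff]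
  intro x hx h hh
  obtain ⟨n, rfl⟩ := mem_zpowers_iff.mp hh
  have h1 : Commute x a := mem_centralizer_singleton_iff.mp hx
  have h2 : x * a ^ n * x⁻¹ = a ^ n := by rw [(h1.zpow_right n).eq]; group
  rw [h2]; exact hh

theorem coprime_of_isPGroup_of_ne [Finite G] {p q : ℕ} [Fact p.Prime] [Fact q.Prime] (hqp : q ≠ p)
    {Q : Subgroup G} (hQ : IsPGroup q Q) : (Nat.card Q).Coprime p := by
  obtain ⟨n, hn⟩ := IsPGroup.iff_card.mp hQ
  rw [hn]
  exact Nat.Coprime.pow_left n ((Nat.coprime_primes Fact.out Fact.out).mpr hqp)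

/-- **Thompson transitivity theorem.** -/
theorem thompson_transitivity [Finite G] (p : ℕ) [Fact p.Prime]
    (hloc : ∀ T : Subgroup G, IsPGroup p T → T ≠ ⊥ → IsPConstrained p ↥(normalizer (T : Set G)))
    (hcl : p = 2 → ∀ S : Subgroup G, IsPGroup p S →
      ∀ x ∈ S, ∀ y ∈ S, ∀ z ∈ S, ⁅x, y⁆ * z = z * ⁅x, y⁆)
    (E : Subgroup G) (hEp : IsPGroup p E) (hEc : IsMulCommutative E)
    (B : Subgroup G) (hBE : B ≤ E) (hBp : ∀ b ∈ B, b ^ p = 1) (hB3 : p ^ 3 ≤ Nat.card B)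
    (hEfull : ∀ x ∈ centralizer (E : Set G), IsPGroup p (zpowers x) → x ∈ E)
    (q : ℕ) [Fact q.Prime] (hqp : q ≠ p) :
    ∀ Q₁ ∈ maxInvSubgroups ⊤ E {q}, ∀ Q₂ ∈ maxInvSubgroups ⊤ E {q},
      Rel (piCoreOf (primesNotDvd p) (centralizer (E : Set G))) Q₁ Q₂ := by
  set K₀ := piCoreOf (primesNotDvd p) (centralizer (E : Set G)) with hK₀
  have hK₀c : K₀ ≤ centralizer (E : Set G) := piCoreOf_le _ _
  have hBc : IsMulCommutative B := by
    refine ⟨⟨fun x y => ?_⟩⟩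
    apply Subtype.ext
    exact congrArg (Subtype.val : E → G) (hEc.is_comm.comm ⟨x, hBE x.2⟩ ⟨y, hBE y.2⟩)
  have hEsolv : Group.IsSolvable E := by
    have := hEp.isNilpotent
    infer_instance
  have main := rel_of_link_family (K := K₀) (F := invSubgroups ⊤ E {q})
    (fun k hk Q hQ => cj_mem_invSubgroups (hK₀c hk) hQ) ?_
  · intro Q₁ h₁ Q₂ h₂
    exact main Q₁ Q₂ h₁ h₂
  intro Q₁ Q₂ h₁ h₂ hne
  set D := Q₁ ⊓ Q₂ with hD
  have hq₁ : IsPGroup q Q₁ := isPGroup_of_mem_inv h₁.1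
  have hq₂ : IsPGroup q Q₂ := isPGroup_of_mem_inv h₂.1
  have hE₁ : E ≤ normalizer (Q₁ : Set G) := h₁.1.2.2
  have hE₂ : E ≤ normalizer (Q₂ : Set G) := h₂.1.2.2
  have hD₁ : D ≠ Q₁ := by
    intro h
    have : Q₁ ≤ Q₂ := h ▸ inf_le_right
    exact hne (h₁.2 Q₂ h₂.1 this).symm
  have hD₂ : D ≠ Q₂ := by
    intro h
    have : Q₂ ≤ Q₁ := h ▸ inf_le_left
    exact hne (h₂.2 Q₁ h₁.1 this)
  obtain ⟨a, haB, ha1, hn₁, hn₂⟩ := Cfsg.Agent.Lib.Helper30Rank3.exists_common_elt_normalizer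
    hBc hBp hB3 hqp hq₁ hq₂ (le_trans hBE hE₁) (le_trans hBE hE₂) hD₁ hD₂
  have hED : E ≤ normalizer (D : Set G) := le_trans (le_inf hE₁ hE₂) inf_normalizer_le_normalizer_inf
  set T := zpowers a with hT
  have hTp : IsPGroup p T := isPGroup_zpowers_of_pow (k := 1) (by rw [pow_one]; exact hBp a haB)
  have hTne : T ≠ ⊥ := by rw [hT, Ne, zpowers_eq_bot]; exact ha1
  set H := normalizer (T : Set G) with hH
  have hCaH : centralizer ({a} : Set G) ≤ H := centralizer_singleton_le_normalizer_zpowers a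
  have hEa : E ≤ centralizer ({a} : Set G) := by
    intro e he
    rw [mem_centralizer_singleton_iff]
    exact congrArg Subtype.val (hEc.is_comm.comm ⟨e, he⟩ ⟨a, hBE haB⟩)
  set La := (pPrimeCore p H).map H.subtype with hLa
  have hELa : E ≤ normalizer (La : Set G) := le_trans (le_trans hEa hCaH) (le_normalizer_coreIn p H)
  have hstep : ∀ Q : Subgroup G, IsPGroup q Q → E ≤ normalizer (Q : Set G) →
      E ≤ normalizer ((normalizer (D : Set G) ⊓ Q ⊓ centralizer {a} : Subgroup G) : Set G) ∧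
      normalizer (D : Set G) ⊓ Q ⊓ centralizer {a} ≤ La ⊓ normalizer (D : Set G) := by
    intro Q hQ hEQ
    have h1 : E ≤ normalizer ((normalizer (D : Set G) ⊓ Q ⊓ centralizer {a} : Subgroup G) : Set G) := by
      refine le_trans (le_inf (Cfsg.Agent.Lib.Helper30Rank3.le_normalizer_normalizer_inf hED hEQ)
        (le_trans hEa le_normalizer)) inf_normalizer_le_normalizer_inf
    refine ⟨h1, le_inf ?_ (le_trans inf_le_left inf_le_left)⟩
    apply key_lemma_ambient (hloc T hTp hTne) hcl (le_trans hEa hCaH) hEp hEfull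
      (le_trans inf_le_right hCaH) ?_ h1
    exact coprime_of_isPGroup_of_ne hqp (hQ.to_le (le_trans inf_le_left inf_le_right))
  obtain ⟨hEY₁, hY₁⟩ := hstep Q₁ hq₁ hE₁
  obtain ⟨hEY₂, hY₂⟩ := hstep Q₂ hq₂ hE₂
  set Y := La ⊓ normalizer (D : Set G) with hY
  set W := D ⊔ Y with hW
  have hEY : E ≤ normalizer (Y : Set G) :=
    le_trans (le_inf hELa (le_trans hED le_normalizer)) inf_normalizer_le_normalizer_inf
  have hEW : E ≤ normalizer (W : Set G) := le_normalizer_sup hED hEY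
  have hWp : (Nat.card W).Coprime p := by
    refine Nat.Coprime.coprime_dvd_left (card_sup_dvd_of_le_normalizer inf_le_right) ?_
    refine Nat.Coprime.mul_left (coprime_of_isPGroup_of_ne hqp (hq₁.to_le inf_le_left)) ?_
    exact Nat.Coprime.coprime_dvd_left (card_dvd_of_le inf_le_left) (card_coreIn_coprime p H)
  have hcopEW : (Nat.card E).Coprime (Nat.card W) := by
    obtain ⟨k, hk⟩ := IsPGroup.iff_card.mp hEp
    rw [hk]; exact (hWp.pow_right k).symm
  have hlt : ∀ Y' : Subgroup G, ¬ Y' ≤ D → D < D ⊔ Y' := by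
    intro Y' h
    refine lt_of_le_of_ne le_sup_left ?_
    intro h'
    exact h (h' ▸ le_sup_right)
  obtain ⟨S, c, hc, _, hSq, hSE, hS₁, hS₂⟩ := link_coprime (q := q) hEW hcopEW (Or.inl hEsolv)
    (Y₁ := D ⊔ (normalizer (D : Set G) ⊓ Q₁ ⊓ centralizer {a}))
    (Y₂ := D ⊔ (normalizer (D : Set G) ⊓ Q₂ ⊓ centralizer {a}))
    (sup_le_sup_left hY₁ D)
    (hq₁.to_le (sup_le inf_le_left (le_trans inf_le_left inf_le_right)))
    (le_normalizer_sup hED hEY₁)
    (sup_le_sup_left hY₂ D)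
    (hq₂.to_le (sup_le inf_le_right (le_trans inf_le_left inf_le_right)))
    (le_normalizer_sup hED hEY₂)
  refine ⟨_, _, S, c, ?_, hlt _ hn₁, sup_le inf_le_left (le_trans inf_le_left inf_le_right),
    hlt _ hn₂, sup_le inf_le_right (le_trans inf_le_left inf_le_right),
    mem_inv_of_isPGroup le_top hSq hSE, hS₁, hS₂⟩
  exact le_core_centralizer hEfull (Y := W ⊓ centralizer (E : Set G)) inf_le_right
    (Nat.Coprime.coprime_dvd_left (card_dvd_of_le inf_le_left) hWp) hc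

end Cfsg.Agent.Lib.Helper30Thompson
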