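import Cfsg.Agent.Lib.Helper24BG
import Cfsg.Agent.Lib.Helper2BGb
import Cfsg.Agent.Lib.Helper29Basic
import Cfsg.Agent.Lib.Helper30Over
import Cfsg.Agent.Lib.Helper30Thompson
import Cfsg.Agent.S1439

set_option autoImplicit false
set_option linter.unusedSectionVars false
open Cfsg

namespace Cfsg.Agent.Lib.Helper76BG15intersigma

open Subgroup
open Cfsg.Agent.Lib.Helper30Trans Cfsg.Agent.Lib.Helper24BG

universe u
variable {G : Type u} [Group G] [Finite G]

/-- piece `intersigma` (S1439, simplicity) -/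
theorem inter_le_sigmaCore (hG : IsMinSimpleOddOrder G) {M : Subgroup G} (hM : IsCoatom M) {g : G}
    (hg : g ∉ M) : fittingOf M ⊓ cj g (fittingOf M) ≤ sigmaCore M ⊓ cj g M := by
  obtain ⟨hcyc, -, hF⟩ := Cfsg.Agent.S1439.result hG M hM
  obtain ⟨Y, hY⟩ : ∃ Y, Y = piCoreOf {q | q.Prime ∧ q ∉ sigma M} (fittingOf M) := ⟨_, rfl⟩
  obtain ⟨A, hA⟩ : ∃ A, A = fittingOf (sigmaCore M) := ⟨_, rfl⟩
  rw [← hY] at hcyc hF
  rw [← hA] at hF
  have hFM : fittingOf M ≤ M := Cfsg.Agent.Lib.Helper30Bender.fittingOf_le M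
  have hYF : Y ≤ fittingOf M := by rw [hY]; exact piCoreOf_le _ _
  have hFY : fittingOf M ≤ normalizer (Y : Set G) := by rw [hY]; exact le_normalizer_piCoreOf _ _
  have hMY : M ≤ normalizer (Y : Set G) := by
    rw [hY]
    exact (Cfsg.Agent.Lib.Helper30Bender.le_normalizer_fittingOf M).trans
      (Cfsg.Agent.Lib.Helper30Over.normalizer_le_normalizer_piCoreOf _ _)
  have hAF : A ≤ fittingOf M := by rw [hF]; exact le_sup_left
  have hidx : Y.relIndex (fittingOf M) ∣ Nat.card A := by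
    have h1 : Nat.card (Y ⊔ A : Subgroup G) ∣ Nat.card Y * Nat.card A :=
      Cfsg.Agent.Lib.Helper30Thompson.card_sup_dvd_of_le_normalizer (hAF.trans hFY)
    have h2 : Nat.card Y * Y.relIndex (fittingOf M) = Nat.card (fittingOf M) := by
      have := Subgroup.relIndex_mul_relIndex ⊥ Y (fittingOf M) bot_le hYF
      rwa [Subgroup.relIndex_bot_left, Subgroup.relIndex_bot_left] at this
    rw [sup_comm, ← hF, ← h2] at h1
    exact Nat.dvd_of_mul_dvd_mul_left Nat.card_pos h1
  have hAs : Nat.card A ∣ Nat.card (sigmaCore M) := by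
    rw [hA]; exact card_dvd_of_le (Cfsg.Agent.Lib.Helper30Bender.fittingOf_le _)
  have key : ∀ r : ℕ, r.Prime → r ∉ sigma M → ∀ x ∈ fittingOf M, orderOf x = r →
      zpowers x ≤ Y := by
    intro r hr hrs x hx hxo
    apply Cfsg.Agent.Lib.Helper2BGa.le_of_relIndex_coprime (Z := fittingOf M)
      ((zpowers_le).2 hx) hFY
    intro p hp hpd hpi
    rw [Nat.card_zpowers, hxo] at hpd
    have : p = r := (Nat.prime_dvd_prime_iff_eq hp hr).1 hpd
    subst this
    exact hrs (Cfsg.Agent.Lib.Helper2BGb.card_sigmaCore M p hp ((hpi.trans hidx).trans hAs))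
  refine le_inf ?_ (inf_le_right.trans (cj_mono hFM))
  apply Cfsg.Agent.Lib.Helper2BGb.pi_le_sigmaCore hG hM (inf_le_left.trans hFM)
  intro r hr hrd
  by_contra hrs
  have := Fact.mk hr
  obtain ⟨x, hx⟩ := exists_prime_orderOf_dvd_card' r hrd
  have hxo : orderOf (x : G) = r := by rw [Subgroup.orderOf_coe]; exact hx
  have hx1 : (x : G) ∈ fittingOf M := (mem_inf.1 x.2).1
  have hx2 : g⁻¹ * (x : G) * g ∈ fittingOf M := mem_cj.1 (mem_inf.1 x.2).2
  -- conjugates
  have hconj : ∀ k : G, cj k (zpowers (x : G)) = zpowers (k * (x : G) * k⁻¹) := by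
    intro k
    rw [cj, MonoidHom.map_zpowers]
    rfl
  have hord : ∀ k : G, orderOf (k * (x : G) * k⁻¹) = r := by
    intro k
    rw [← hxo]
    exact orderOf_injective (MulAut.conj k).toMonoidHom (MulAut.conj k).injective (x : G)
  have h0 := key r hr hrs _ hx1 hxo
  have hstab : ∀ k : G, k * (x : G) * k⁻¹ ∈ fittingOf M → cj k (zpowers (x : G)) = zpowers (x : G) := by
    intro k hk
    rw [hconj]
    apply Cfsg.Agent.Lib.Helper29Basic.eq_of_card_eq_of_le_cyclic hcyc
      (key r hr hrs _ hk (hord k)) h0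
    rw [Nat.card_zpowers, Nat.card_zpowers, hord, hxo]
  have hne : zpowers (x : G) ≠ ⊥ := by
    intro h
    rw [zpowers_eq_bot] at h
    rw [h, orderOf_one] at hxo
    exact hr.one_lt.ne hxo
  have hMn : M ≤ normalizer ((zpowers (x : G) : Subgroup G) : Set G) := by
    intro m hm
    apply Cfsg.Agent.Lib.Helper30Over.mem_normalizer_of_cj_eq
    apply hstab
    have := (mem_normalizer_iff.1 (Cfsg.Agent.Lib.Helper30Bender.le_normalizer_fittingOf M hm)
      (x : G)).1 hx1
    exact this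
  have hN := norm_eq hG hM hne (h0.trans (hYF.trans hFM)) hMn
  have hginv : g⁻¹ ∈ normalizer ((zpowers (x : G) : Subgroup G) : Set G) := by
    apply Cfsg.Agent.Lib.Helper30Over.mem_normalizer_of_cj_eq
    apply hstab
    rwa [inv_inv]
  rw [hN] at hginv
  exact hg (by simpa using M.inv_mem hginv)

end Cfsg.Agent.Lib.Helper76BG15intersigma
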