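import Cfsg.Agent.Lib.Helper14BG16
import Cfsg.Agent.Lib.Helper52BG14
import Cfsg.Agent.Lib.Helper56BG15nilsec
import Cfsg.Agent.Lib.Helper3BGNotuniq
import Cfsg.Agent.Lib.Helper3NarrowAut
import Cfsg.Agent.Lib.Helper30Coprime
import Cfsg.Agent.S1373
import Cfsg.Agent.S1374
import Cfsg.Agent.S1375
import Cfsg.Agent.S1412
import Cfsg.Agent.S1416
import Cfsg.Agent.S1420
import Cfsg.Agent.S1422

/-!
PROJECT 157 (helper14): B-G 15.7 for `K ≠ 1`, `U = 1` (row S1383), piece `inter`.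
Sketches: notes/helper14/BG157.md.
-/

set_option autoImplicit false
set_option linter.unusedSectionVars false
set_option linter.unusedVariables false
open Cfsg

namespace Cfsg.Agent.Lib.H14BG157inter

open Subgroup
open Cfsg.Agent.Lib Cfsg.Agent.Lib.Helper30Trans Cfsg.Agent.Lib.Helper24BG
open Cfsg.Agent.Lib.Helper51BG16 Cfsg.Agent.Lib.Helper14BG16

universe u
variable {G : Type u} [Group G] [Finite G]

/-- S1420 for `(N, E := M ⊓ N)` (first clause) and `Helper3BGNotuniq.rankLE_two_of_sigmaFree`;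
no prime of `σ(N)` divides `|Y|`: `Helper31BGS.not_mem_sigma_of_dvd_le_compl`. -/
theorem inter_props (hG : IsMinSimpleOddOrder G) {M N : Subgroup G} (hN : IsCoatom N)
    (hc : IsComplIn (M ⊓ N) (sigmaCore N) N) {Y : Subgroup G} (hY : Y ≤ M ⊓ N) :
    (Group.IsNilpotent Y → IsMulCommutative Y) ∧ RankLE 2 Y := by
  have hfree : ∀ q : ℕ, q.Prime → q ∣ Nat.card Y → q ∉ sigma N := fun q hq hd =>
    Helper31BGS.not_mem_sigma_of_dvd_le_compl hG hN hc hY hq hd
  have hYN : Y ≤ N := hY.trans inf_le_right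
  exact ⟨fun hnil => (Cfsg.Agent.S1420.result hG N hN (M ⊓ N) hc).1 Y hYN hnil hfree,
    Helper3BGNotuniq.rankLE_two_of_sigmaFree hG hN hYN hfree⟩

end Cfsg.Agent.Lib.H14BG157inter
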