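import Mathlib
import Cfsg.Prelude.Def_OddOrderLocal
import Cfsg.Agent.Lib.Helper24BG

/-!
PROJECT 157 (helper14): B-G 15.7 for `K ≠ 1`, `U = 1` (row S1383), piece `sq`.
Sketches: notes/helper14/BG157.md.
-/

set_option autoImplicit false
set_option linter.unusedSectionVars false
set_option linter.unusedVariables false
open Cfsg

namespace Cfsg.Agent.Lib.H14BG157sq

open Subgroup
open Cfsg.Agent.Lib Cfsg.Agent.Lib.Helper24BG

universe u
variable {G : Type u} [Group G] [Finite G]

theorem torsion_le {A : Type*} [CommGroup A] [Fintype A] [DecidableEq A]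
    (h : ∀ q : ℕ, q.Prime → (Finset.univ.filter (fun a : A => a ^ q = 1)).card ≤ q) :
    ∀ n : ℕ, 0 < n → (Finset.univ.filter (fun a : A => a ^ n = 1)).card ≤ n := by
  intro n
  induction n using induction_on_primes with
  | zero => intro h0; omega
  | one =>
    intro _
    have : (Finset.univ.filter (fun a : A => a ^ 1 = 1)) = {1} := by
      ext a; simp
    rw [this]; simp
  | prime_mul p a hp ih =>
    intro hpos
    have ha : 0 < a := Nat.pos_of_ne_zero (by rintro rfl; simp at hpos)
    have h1 := Finset.card_le_mul_card_image_of_maps_to (f := fun x : A => x ^ p)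
      (s := Finset.univ.filter (fun x : A => x ^ (p * a) = 1))
      (t := Finset.univ.filter (fun x : A => x ^ a = 1))
      (by
        intro x hx
        simp only [Finset.mem_filter, Finset.mem_univ, true_and] at hx ⊢
        rw [← pow_mul]; exact hx) p
      (by
        intro b _
        by_cases hne : (Finset.filter (fun x : A => x ^ p = b)
            (Finset.univ.filter (fun x : A => x ^ (p * a) = 1))).Nonempty
        · obtain ⟨x0, hx0⟩ := hne
          simp only [Finset.mem_filter, Finset.mem_univ, true_and] at hx0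
          refine le_trans ?_ (h p hp)
          refine Finset.card_le_card_of_injOn (fun x => x * x0⁻¹) ?_ ?_
          · intro x hx
            simp only [Finset.coe_filter, Finset.mem_filter, Finset.mem_univ, true_and,
              Set.mem_setOf_eq] at hx ⊢
            rw [mul_pow, inv_pow, hx.2, hx0.2, mul_inv_cancel]
          · intro x _ y _ hxy
            exact mul_right_cancel hxy
        · rw [Finset.not_nonempty_iff_eq_empty] at hne
          rw [hne]; simp)
    exact h1.trans (Nat.mul_le_mul_left p (ih ha))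

/-- PURE.  A non-cyclic finite abelian group has a non-cyclic Sylow `q`-subgroup
(`IsCyclic` of all Sylow subgroups + commutative ⇒ cyclic: `isCyclic_of_...`, or: if for every prime `q` there are
at most `q` solutions of `x ^ q = 1` then `isCyclic_of_card_pow_eq_one_le`); the elements with
`x ^ q = 1` form an elementary abelian subgroup of order `≥ q²`, take a subgroup of order `q²`
(`Sylow.exists_subgroup_card_pow_prime`). -/
theorem exists_sq_of_not_cyclic {C : Subgroup G} (hC : IsMulCommutative C) (hnc : ¬ IsCyclic C) :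
    ∃ (q : ℕ) (A : Subgroup G), q.Prime ∧ A ≤ C ∧ IsElementaryAbelian q A ∧
      Nat.card A = q ^ 2 := by
  classical
  have hcomm : ∀ a ∈ C, ∀ b ∈ C, a * b = b * a := fun a ha b hb =>
    congrArg Subtype.val (hC.is_comm.comm ⟨a, ha⟩ ⟨b, hb⟩)
  letI : CommGroup C := { (inferInstance : Group C) with mul_comm := hC.is_comm.comm }
  letI : Fintype C := Fintype.ofFinite C
  have hex : ∃ q : ℕ, q.Prime ∧ q < (Finset.univ.filter (fun a : C => a ^ q = 1)).card := by
    by_contra hcon
    push Not at hcon
    exact hnc (isCyclic_of_card_pow_eq_one_le (torsion_le hcon))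
  obtain ⟨q, hq, hlt⟩ := hex
  haveI : Fact q.Prime := ⟨hq⟩
  let Ω : Subgroup G :=
    { carrier := {x | x ∈ C ∧ x ^ q = 1}
      one_mem' := ⟨C.one_mem, one_pow _⟩
      mul_mem' := by
        rintro a b ⟨ha, ha1⟩ ⟨hb, hb1⟩
        refine ⟨C.mul_mem ha hb, ?_⟩
        rw [(show Commute a b from hcomm a ha b hb).mul_pow, ha1, hb1, one_mul]
      inv_mem' := by
        rintro a ⟨ha, ha1⟩
        exact ⟨C.inv_mem ha, by rw [inv_pow, ha1, inv_one]⟩ }
  have hΩC : Ω ≤ C := fun x hx => hx.1
  have hΩp : IsPGroup q Ω := by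
    rintro ⟨x, hx⟩
    exact ⟨1, Subtype.ext (by simpa using hx.2)⟩
  have hcardΩ : q < Nat.card Ω := by
    have e : {a : C // a ^ q = 1} ≃ Ω :=
      { toFun := fun a => ⟨a.1.1, a.1.2, congrArg Subtype.val a.2⟩
        invFun := fun x => ⟨⟨x.1, x.2.1⟩, Subtype.ext x.2.2⟩
        left_inv := fun a => rfl
        right_inv := fun x => rfl }
    rw [← Nat.card_congr e, Nat.card_eq_fintype_card, Fintype.card_subtype]
    exact hlt
  obtain ⟨n, hn⟩ := IsPGroup.iff_card.1 hΩp
  have hn2 : 2 ≤ n := by
    by_contra hcon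
    have : n ≤ 1 := by omega
    have h2 : q ^ n ≤ q ^ 1 := Nat.pow_le_pow_right hq.pos this
    rw [hn] at hcardΩ
    rw [pow_one] at h2
    omega
  obtain ⟨B, hB⟩ := Sylow.exists_subgroup_card_pow_prime (G := Ω) q (n := 2)
    (by rw [hn]; exact pow_dvd_pow q hn2)
  refine ⟨q, B.map Ω.subtype, hq, ?_, ⟨⟨⟨?_⟩⟩, ?_⟩, ?_⟩
  · exact (map_subtype_le B).trans hΩC
  · rintro ⟨_, a, ha, rfl⟩ ⟨_, b, hb, rfl⟩
    exact Subtype.ext (hcomm _ a.2.1 _ b.2.1)
  · rintro _ ⟨a, ha, rfl⟩
    exact a.2.2
  · rw [card_map_of_injective Ω.subtype_injective, hB]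

end Cfsg.Agent.Lib.H14BG157sq
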