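import Cfsg.Agent.Lib.Helper14BG16
import Cfsg.Agent.Lib.Helper52BG14
import Cfsg.Agent.Lib.Helper56BG15nilsec
import Cfsg.Agent.Lib.Helper3BGNotuniq
import Cfsg.Agent.Lib.Helper3NarrowAut
import Cfsg.Agent.Lib.Helper30Coprime
import Cfsg.Agent.S1373
import Cfsg.Agent.S1374
import Cfsg.Agent.S1375
import Cfsg.Agent.S1412
import Cfsg.Agent.S1416
import Cfsg.Agent.S1420
import Cfsg.Agent.S1422
import Cfsg.Agent.Lib.H14BG157inter
import Cfsg.Agent.Lib.H14BG157sq
import Cfsg.Agent.Lib.Helper2KWa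

/-!
PROJECT 157 (helper14): B-G 15.7 for `K ≠ 1`, `U = 1` (row S1383), piece `cyc`.
Sketches: notes/helper14/BG157.md.
-/

set_option autoImplicit false
set_option linter.unusedSectionVars false
set_option linter.unusedVariables false
open Cfsg

namespace Cfsg.Agent.Lib.H14BG157cyc

open Subgroup
open Cfsg.Agent.Lib Cfsg.Agent.Lib.Helper30Trans Cfsg.Agent.Lib.Helper24BG
open Cfsg.Agent.Lib.Helper51BG16 Cfsg.Agent.Lib.Helper14BG16

universe u
variable {G : Type u} [Group G] [Finite G]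

/-- `C` commutes with `x` (`commute_of_nilpotent`, orders coprime), so `C ≤ M ∩ C(x) ≤ M ∩ N`; `C` is
nilpotent (subgroup of `M_σ`), so abelian (`inter_props`).  If `C` is not cyclic take `A ≤ C` of type `(q,q)`
(`exists_sq_of_not_cyclic`), `q ≠ p`.  S1416 for `(N, q, A)`: `C(A) ≤ N`.  `P ≤ C(A)` (`commute_of_nilpotent`).
S1422: `P` lies in a unique maximal subgroup; `P ≤ M` and `P ≤ N`: `N = M`, contradiction. -/
theorem cyc (hG : IsMinSimpleOddOrder G) {M : Subgroup G} (hM : IsCoatom M)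
    (hnil : Group.IsNilpotent (sigmaCore M))
    {x : G} {p : ℕ} [Fact p.Prime] (hxp : orderOf x = p) (hx : x ∈ sigmaCore M)
    {N : Subgroup G} (hN : IsCoatom N) (hNM : N ≠ M) (hxN : centralizer ({x} : Set G) ≤ N)
    (hc : IsComplIn (M ⊓ N) (sigmaCore N) N)
    {P : Subgroup G} (hP : IsSyl p P (sigmaCore M)) (hPna : ¬ IsMulCommutative P)
    {C : Subgroup G} (hC : C ≤ sigmaCore M) (hCp : (Nat.card C).Coprime p) : IsCyclic C := by
  have hxz : zpowers x ≤ sigmaCore M := zpowers_le.mpr hx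
  have hCx : C ≤ centralizer ({x} : Set G) := by
    intro c hc'
    rw [mem_centralizer_singleton_iff]
    have hcop : (Nat.card C).Coprime (Nat.card (zpowers x)) := by
      rw [Nat.card_zpowers, hxp]
      exact hCp
    exact Helper56BG15nilsec.commute_of_nilpotent hnil hC hxz hcop hc' (mem_zpowers x)
  have hCMN : C ≤ M ⊓ N := le_inf (hC.trans (Helper2BGb.sigmaCore_le M)) (hCx.trans hxN)
  have hCnil : Group.IsNilpotent C := Helper2KWa.isNilpotent_of_le hnil hC
  have hCab : IsMulCommutative C := (H14BG157inter.inter_props hG hN hc hCMN).1 hCnil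
  by_contra hnc
  obtain ⟨q, A, hq, hAC, hAel, hAcard⟩ := H14BG157sq.exists_sq_of_not_cyclic hCab hnc
  have : Fact q.Prime := ⟨hq⟩
  have hAN : centralizer (A : Set G) ≤ N :=
    (Cfsg.Agent.S1416.result hG N hN q A ⟨hAC.trans (hCMN.trans inf_le_right), hAel, hAcard⟩).1
  have hPA : P ≤ centralizer (A : Set G) := by
    intro y hy
    rw [mem_centralizer_iff]
    intro a ha
    obtain ⟨n, hn⟩ := IsPGroup.iff_card.mp hP.2.1
    have hcop : (Nat.card A).Coprime (Nat.card P) := by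
      rw [hn]
      apply Nat.Coprime.pow_right
      exact Nat.Coprime.coprime_dvd_left (card_dvd_of_le hAC) hCp
    exact Helper56BG15nilsec.commute_of_nilpotent hnil (hAC.trans hC) hP.1 hcop ha hy
  obtain ⟨L, -, hL⟩ := Cfsg.Agent.S1422.result hG p P hP.2.1 hPna
  have h1 := hL M ⟨hM, hP.1.trans (Helper2BGb.sigmaCore_le M)⟩
  have h2 := hL N ⟨hN, hPA.trans hAN⟩
  exact hNM (h2.trans h1.symm)

end Cfsg.Agent.Lib.H14BG157cyc
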