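import Cfsg.Agent.Lib.Helper14BG16
import Cfsg.Agent.Lib.Helper52BG14
import Cfsg.Agent.Lib.Helper56BG15nilsec
import Cfsg.Agent.Lib.Helper3BGNotuniq
import Cfsg.Agent.Lib.Helper3NarrowAut
import Cfsg.Agent.Lib.Helper30Coprime
import Cfsg.Agent.S1373
import Cfsg.Agent.S1374
import Cfsg.Agent.S1375
import Cfsg.Agent.S1412
import Cfsg.Agent.S1416
import Cfsg.Agent.S1420
import Cfsg.Agent.S1422
import Cfsg.Agent.Lib.Helper2KWa

/-!
PROJECT 157 (helper14): B-G 15.7 for `K ≠ 1`, `U = 1` (row S1383), piece `existsN`.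
Sketches: notes/helper14/BG157.md.
-/

set_option autoImplicit false
set_option linter.unusedSectionVars false
set_option linter.unusedVariables false
open Cfsg

namespace Cfsg.Agent.Lib.H14BG157existsN

open Subgroup
open Cfsg.Agent.Lib Cfsg.Agent.Lib.Helper30Trans Cfsg.Agent.Lib.Helper24BG
open Cfsg.Agent.Lib.Helper51BG16 Cfsg.Agent.Lib.Helper14BG16

universe u
variable {G : Type u} [Group G] [Finite G]

/-- S1374: `R ≤ C(x)` and a (unique) `r ∈ R` with `r M r⁻¹ = g M g⁻¹`.  If `C(x) ≤ M` then `r ∈ M`,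
`g M g⁻¹ = M`, `g ∈ N(M) = M` (`Helper24BG.norm_eq`).  So `C(x) ≰ M`; take `N` from S1375. -/
theorem exists_N (hG : IsMinSimpleOddOrder G) {M : Subgroup G} (hM : IsCoatom M) {g x : G}
    (hg : g ∉ M) (hx : x ∈ sigmaCore M) (hx1 : x ≠ 1)
    (hxg : x ∈ M.map (MulAut.conj g).toMonoidHom) :
    ∃ N : Subgroup G, IsCoatom N ∧ N ≠ M ∧ centralizer ({x} : Set G) ≤ N ∧
      IsComplIn (M ⊓ N) (sigmaCore N) N := by
  have hxM : ¬ centralizer ({x} : Set G) ≤ M := by
    intro hle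
    obtain ⟨-, R, -, hR, huniq⟩ := Cfsg.Agent.S1374.result hG M hM x hx hx1
    obtain ⟨r, ⟨hrR, hr⟩, -⟩ := huniq g hxg
    have hrM : r ∈ M := hle (hR.2.1 hrR)
    have h1 : M.map (MulAut.conj r).toMonoidHom = M := by
      apply le_antisymm
      · rintro _ ⟨m, hm, rfl⟩
        exact M.mul_mem (M.mul_mem hrM hm) (M.inv_mem hrM)
      · intro m hm
        refine ⟨r⁻¹ * m * r, M.mul_mem (M.mul_mem (M.inv_mem hrM) hm) hrM, ?_⟩
        simp [mul_assoc]
    rw [h1] at hr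
    apply hg
    have h2 : g ∈ normalizer (M : Set G) := by
      apply Helper2KWa.mem_normalizer_of_forall
      intro y hy
      rw [hr]
      exact ⟨y, hy, rfl⟩
    have hM0 : M ≠ ⊥ := by
      rintro rfl
      exact hx1 (mem_bot.mp (Helper2BGb.sigmaCore_le _ hx))
    rwa [norm_eq hG hM hM0 le_rfl le_normalizer] at h2
  obtain ⟨N, ⟨hN, hxN⟩, -, -, -, -, hc, -⟩ := Cfsg.Agent.S1375.result hG M hM x hx hx1 hxM
  refine ⟨N, hN, ?_, hxN, hc⟩
  rintro rfl
  exact hxM hxN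

end Cfsg.Agent.Lib.H14BG157existsN
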