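import Cfsg.Agent.Lib.Helper14BG16
import Cfsg.Agent.Lib.Helper52BG14
import Cfsg.Agent.Lib.Helper56BG15nilsec
import Cfsg.Agent.Lib.Helper3BGNotuniq
import Cfsg.Agent.Lib.Helper3NarrowAut
import Cfsg.Agent.Lib.Helper30Coprime
import Cfsg.Agent.S1373
import Cfsg.Agent.S1374
import Cfsg.Agent.S1375
import Cfsg.Agent.S1412
import Cfsg.Agent.S1416
import Cfsg.Agent.S1420
import Cfsg.Agent.S1422

/-!
PROJECT 157 (helper14): B-G 15.7 for `K ≠ 1`, `U = 1` (row S1383), piece `existsx`.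
Sketches: notes/helper14/BG157.md.
-/

set_option autoImplicit false
set_option linter.unusedSectionVars false
set_option linter.unusedVariables false
open Cfsg

namespace Cfsg.Agent.Lib.H14BG157existsx

open Subgroup
open Cfsg.Agent.Lib Cfsg.Agent.Lib.Helper30Trans Cfsg.Agent.Lib.Helper24BG
open Cfsg.Agent.Lib.Helper51BG16 Cfsg.Agent.Lib.Helper14BG16

universe u
variable {G : Type u} [Group G] [Finite G]

/-- `¬ TI` gives `g ∉ N(H)` (so `g ∉ M`: `le_normalizer_fittingHallOf`), `1 ≠ x₀ ∈ H` with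
`y = g x₀ g⁻¹ ∈ H`; take `p ∣ orderOf y` prime and `x = y ^ (orderOf y / p)`
(`orderOf_pow_orderOf_div`). -/
theorem exists_x {M : Subgroup G} (hH : fittingHallOf M = sigmaCore M)
    (hTI : ¬ IsTISubset (fittingHallOf M : Set G)) :
    ∃ (g x : G) (p : ℕ), g ∉ M ∧ p.Prime ∧ orderOf x = p ∧ x ∈ sigmaCore M ∧
      x ∈ M.map (MulAut.conj g).toMonoidHom := by
  unfold IsTISubset at hTI
  push Not at hTI
  obtain ⟨g, hg, x₀, hx₀, hgx, hx1⟩ := hTI
  have hgM : g ∉ M := fun h => hg (le_normalizer_fittingHallOf M h)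
  have hy1 : g * x₀ * g⁻¹ ≠ 1 := by
    intro h
    apply hx1
    have : x₀ = g⁻¹ * (g * x₀ * g⁻¹) * g := by group
    rw [this, h]; group
  have ho : orderOf (g * x₀ * g⁻¹) ≠ 1 := fun h => hy1 (orderOf_eq_one_iff.mp h)
  obtain ⟨p, hp, hpd⟩ := Nat.exists_prime_and_dvd ho
  have hpos : orderOf (g * x₀ * g⁻¹) ≠ 0 := (orderOf_pos _).ne'
  refine ⟨g, (g * x₀ * g⁻¹) ^ (orderOf (g * x₀ * g⁻¹) / p), p, hgM, hp,
    orderOf_pow_orderOf_div hpos hpd, ?_, ?_⟩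
  · rw [← hH]
    exact pow_mem hgx _
  · apply pow_mem
    have hx₀' : x₀ ∈ sigmaCore M := hH ▸ hx₀
    exact ⟨x₀, Helper2BGb.sigmaCore_le M hx₀', rfl⟩

end Cfsg.Agent.Lib.H14BG157existsx
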