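import Mathlib
import Cfsg.Prelude.Def_OddOrderLocal
import Cfsg.Agent.Lib.Helper24BG

/-!
PROJECT 157 (helper14): B-G 15.7 for `K ≠ 1`, `U = 1` (row S1383), piece `faith`.
Sketches: notes/helper14/BG157.md.
-/

set_option autoImplicit false
set_option linter.unusedSectionVars false
set_option linter.unusedVariables false
open Cfsg

namespace Cfsg.Agent.Lib.H14BG157faith

open Subgroup
open Cfsg.Agent.Lib Cfsg.Agent.Lib.Helper24BG

universe u
variable {G : Type u} [Group G] [Finite G]

/-- PURE.  `K → MulAut (zpowers z)` (`Subgroup.normalizerMonoidHom` restricted to `K`) is injective by `hf`;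
`Nat.card (MulAut (zpowers z)) = p - 1` (`IsCyclic.card_mulAut`, `Nat.totient_prime`); `Subgroup.card_dvd_of_injective`. -/
theorem dvd_of_faithful {K : Subgroup G} {p : ℕ} [Fact p.Prime] {z : G} (hz : orderOf z = p)
    (hK : K ≤ normalizer (zpowers z : Set G))
    (hf : ∀ k ∈ K, k * z = z * k → k = 1) : Nat.card K ∣ p - 1 := by
  let f : K →* MulAut (zpowers z) := (zpowers z).normalizerMonoidHom.comp (inclusion hK)
  have hinj : Function.Injective f := by
    rw [injective_iff_map_eq_one]
    rintro ⟨k, hk⟩ hk1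
    have h1 : f ⟨k, hk⟩ ⟨z, mem_zpowers z⟩ = ⟨z, mem_zpowers z⟩ := by rw [hk1]; rfl
    have h2 : k * z * k⁻¹ = z := congrArg Subtype.val h1
    have h3 : k * z = z * k := by rwa [mul_inv_eq_iff_eq_mul] at h2
    exact Subtype.ext (hf k hk h3)
  have h := card_dvd_of_injective f hinj
  rwa [IsCyclic.card_mulAut, Nat.card_zpowers, hz, Nat.totient_prime Fact.out] at h

end Cfsg.Agent.Lib.H14BG157faith
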