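import Cfsg.Agent.Lib.Helper14BG16
import Cfsg.Agent.Lib.Helper52BG14
import Cfsg.Agent.Lib.Helper56BG15nilsec
import Cfsg.Agent.Lib.Helper3BGNotuniq
import Cfsg.Agent.Lib.Helper3NarrowAut
import Cfsg.Agent.Lib.Helper30Coprime
import Cfsg.Agent.S1373
import Cfsg.Agent.S1374
import Cfsg.Agent.S1375
import Cfsg.Agent.S1412
import Cfsg.Agent.S1416
import Cfsg.Agent.S1420
import Cfsg.Agent.S1422
import Cfsg.Agent.Lib.H14BG157nilsyl

/-!
PROJECT 157 (helper14): B-G 15.7 for `K ≠ 1`, `U = 1` (row S1383), piece `nonab`.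
Sketches: notes/helper14/BG157.md.
-/

set_option autoImplicit false
set_option linter.unusedSectionVars false
set_option linter.unusedVariables false
open Cfsg

namespace Cfsg.Agent.Lib.H14BG157nonab

open Subgroup
open Cfsg.Agent.Lib Cfsg.Agent.Lib.Helper30Trans Cfsg.Agent.Lib.Helper24BG
open Cfsg.Agent.Lib.Helper51BG16 Cfsg.Agent.Lib.Helper14BG16

universe u
variable {G : Type u} [Group G] [Finite G]

/-- `r := |Ks|` is prime (S1373).  `Helper52BG14.ptype_c hG hM hKU.hall hK1 (X := Ks) le_rfl`: every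
Sylow `r`-subgroup `S` of `M_σ` lies in a unique maximal subgroup; as `S ≤ M`, `S ≰ N`.
If `r ≠ p`: `S` commutes with `x` (`Helper56BG15nilsec.commute_of_nilpotent`), `S ≤ C(x) ≤ N`: no.  So `r = p`, and
`P` is in a unique maximal subgroup.  `x ∈ P` (`nil_syl`); if `P` is abelian, `P ≤ C(x) ≤ N`: no. -/
theorem nonab (hG : IsMinSimpleOddOrder G) {M K : Subgroup G} (hM : IsCoatom M)
    (hKU : IsSigmaDecomposition M K ⊥) (hK1 : K ≠ ⊥) (hnil : Group.IsNilpotent (sigmaCore M))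
    {x : G} {p : ℕ} [Fact p.Prime] (hxp : orderOf x = p) (hx : x ∈ sigmaCore M)
    {N : Subgroup G} (hN : IsCoatom N) (hNM : N ≠ M) (hxN : centralizer ({x} : Set G) ≤ N)
    {P : Subgroup G} (hP : IsSyl p P (sigmaCore M)) :
    ¬ IsMulCommutative P ∧ Nat.card ↥(sigmaCore M ⊓ centralizer (K : Set G)) = p := by
  have hr : (Nat.card ↥(sigmaCore M ⊓ centralizer (K : Set G))).Prime :=
    Cfsg.Agent.S1373.result hG M hM K ⊥ hKU hK1 rfl
  have huniq := (Helper52BG14.ptype_c hG hM hKU.hall hK1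
    (X := sigmaCore M ⊓ centralizer (K : Set G)) le_rfl hr).2
  -- a Sylow subgroup for the prime `r` is not contained in `N`
  have hnot : ∀ S : Subgroup G,
      IsSyl (Nat.card ↥(sigmaCore M ⊓ centralizer (K : Set G))) S (sigmaCore M) → ¬ S ≤ N := by
    intro S hS hSN
    obtain ⟨L, -, hL⟩ := huniq S hS
    have h1 := hL M ⟨hM, hS.1.trans (Helper2BGb.sigmaCore_le M)⟩
    have h2 := hL N ⟨hN, hSN⟩
    exact hNM (h2.trans h1.symm)
  have hxz : zpowers x ≤ sigmaCore M := zpowers_le.mpr hx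
  have hrp : Nat.card ↥(sigmaCore M ⊓ centralizer (K : Set G)) = p := by
    by_contra hne
    obtain ⟨S, hS, -⟩ := exists_isSyl_ge (p := Nat.card ↥(sigmaCore M ⊓ centralizer (K : Set G)))
      (B := ⊥) (X := sigmaCore M) bot_le IsPGroup.of_bot
    apply hnot S hS
    refine le_trans ?_ hxN
    intro s hs
    rw [mem_centralizer_iff]
    intro y hy
    rw [Set.mem_singleton_iff] at hy
    rw [hy]
    haveI : Fact (Nat.card ↥(sigmaCore M ⊓ centralizer (K : Set G))).Prime := ⟨hr⟩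
    obtain ⟨n, hn⟩ := IsPGroup.iff_card.mp hS.2.1
    have hcop : (Nat.card (zpowers x)).Coprime (Nat.card S) := by
      rw [Nat.card_zpowers, hxp, hn]
      apply Nat.Coprime.pow_right
      exact (Nat.coprime_primes (Fact.out) hr).mpr (fun h => hne h.symm)
    exact Helper56BG15nilsec.commute_of_nilpotent hnil hxz hS.1 hcop (mem_zpowers x) hs
  refine ⟨?_, hrp⟩
  intro hab
  have hxpg : IsPGroup p (zpowers x) :=
    IsPGroup.of_card (n := 1) (by rw [Nat.card_zpowers, hxp, pow_one])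
  have hxP : x ∈ P := (H14BG157nilsyl.nil_syl hnil hP).1 _ hxz hxpg (mem_zpowers x)
  apply hnot P (hrp ▸ hP)
  refine le_trans ?_ hxN
  intro s hs
  rw [mem_centralizer_iff]
  intro y hy
  rw [Set.mem_singleton_iff] at hy
  rw [hy]
  have := hab.is_comm.comm (⟨x, hxP⟩ : P) ⟨s, hs⟩
  exact congrArg Subtype.val this

end Cfsg.Agent.Lib.H14BG157nonab
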