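import Mathlib
import Cfsg.Prelude.Def_OddOrderLocal
import Cfsg.Agent.Lib.Helper24BG
import Cfsg.Agent.Lib.Helper89PCube

/-!
PROJECT 157 (helper14): B-G 15.7 for `K ≠ 1`, `U = 1` (row S1383), piece `pcA`.
Sketches: notes/helper14/BG157.md.
-/

set_option autoImplicit false
set_option linter.unusedSectionVars false
set_option linter.unusedVariables false
open Cfsg

namespace Cfsg.Agent.Lib.H14BG157pcA

open Subgroup
open Cfsg.Agent.Lib Cfsg.Agent.Lib.Helper24BG

universe u
variable {G : Type u} [Group G] [Finite G]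

omit [Finite G] in
theorem mem_Z_iff {P : Subgroup G} {x : G} :
    x ∈ P ⊓ centralizer (P : Set G) ↔ x ∈ P ∧ ∀ w ∈ P, w * x = x * w := by
  rw [Subgroup.mem_inf, Subgroup.mem_centralizer_iff]
  rfl

theorem card_Z {P : Subgroup G} {p : ℕ} [Fact p.Prime] (hP : Nat.card P = p ^ 3)
    (hPna : ¬ IsMulCommutative P) : Nat.card ↥(P ⊓ centralizer (P : Set G)) = p := by
  have hnc : ∃ a b : P, a * b ≠ b * a := by
    by_contra hcon
    push Not at hcon
    exact hPna ⟨⟨hcon⟩⟩
  have hZc := Helper89PCube.card_center_of_card_cube hP hnc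
  have hmap : (Subgroup.center P).map P.subtype = P ⊓ centralizer (P : Set G) := by
    ext x
    rw [mem_Z_iff]
    constructor
    · rintro ⟨z, hz, rfl⟩
      refine ⟨z.2, fun w hw => ?_⟩
      exact congrArg Subtype.val (Subgroup.mem_center_iff.mp hz ⟨w, hw⟩)
    · rintro ⟨hx1, hx2⟩
      refine ⟨⟨x, hx1⟩, ?_, rfl⟩
      rw [SetLike.mem_coe, Subgroup.mem_center_iff]
      intro w
      exact Subtype.ext (hx2 w w.2)
  rw [← hmap, Subgroup.card_map_of_injective P.subtype_injective, hZc]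

theorem card_line {P : Subgroup G} {p : ℕ} [Fact p.Prime] (hP : Nat.card P = p ^ 3)
    (hZ : Nat.card ↥(P ⊓ centralizer (P : Set G)) = p) {L : Subgroup G}
    (h1 : P ⊓ centralizer (P : Set G) < L) (h2 : L < P) : Nat.card L = p ^ 2 := by
  have hp : p.Prime := Fact.out
  have d1 : Nat.card L ∣ p ^ 3 := hP ▸ Subgroup.card_dvd_of_le h2.le
  have d2 : p ∣ Nat.card L := hZ ▸ Subgroup.card_dvd_of_le h1.le
  obtain ⟨i, hi, hLi⟩ := (Nat.dvd_prime_pow hp).1 d1
  have hi0 : i ≠ 0 := by
    rintro rfl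
    rw [hLi, pow_zero] at d2
    exact hp.one_lt.ne' (Nat.dvd_one.1 d2)
  have hi1 : i ≠ 1 := by
    rintro rfl
    have := Subgroup.eq_of_le_of_card_ge h1.le (by rw [hLi, hZ, pow_one])
    exact h1.ne this
  have hi3 : i ≠ 3 := by
    rintro rfl
    have := Subgroup.eq_of_le_of_card_ge h2.le (by rw [hLi, hP])
    exact h2.ne this
  have : i = 2 := by omega
  rw [hLi, this]

omit [Finite G] in
theorem lt_sup {P : Subgroup G} {a : G} (ha : a ∉ P ⊓ centralizer (P : Set G)) :
    P ⊓ centralizer (P : Set G) < P ⊓ centralizer (P : Set G) ⊔ zpowers a := by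
  refine lt_of_le_of_ne le_sup_left fun h => ha ?_
  rw [h]
  exact mem_sup_right (mem_zpowers a)

omit [Finite G] in
theorem sup_lt {P : Subgroup G} {a : G} (haP : a ∈ P) (ha : a ∉ P ⊓ centralizer (P : Set G)) :
    P ⊓ centralizer (P : Set G) ⊔ zpowers a < P := by
  have hle : P ⊓ centralizer (P : Set G) ⊔ zpowers a ≤ P :=
    sup_le inf_le_left (by rw [zpowers_le]; exact haP)
  refine lt_of_le_of_ne hle fun h => ha ?_
  have hc : P ⊓ centralizer (P : Set G) ⊔ zpowers a ≤ centralizer ({a} : Set G) := by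
    apply sup_le
    · intro z hz
      rw [mem_centralizer_singleton_iff]
      exact ((mem_Z_iff.1 hz).2 a haP).symm
    · rw [zpowers_le, mem_centralizer_singleton_iff]
  rw [h] at hc
  rw [mem_Z_iff]
  refine ⟨haP, fun w hw => ?_⟩
  exact (mem_centralizer_singleton_iff.1 (hc hw))

theorem sup_eq_line {P : Subgroup G} {p : ℕ} [Fact p.Prime] (hP : Nat.card P = p ^ 3)
    (hZ : Nat.card ↥(P ⊓ centralizer (P : Set G)) = p) {L : Subgroup G}
    (h1 : P ⊓ centralizer (P : Set G) < L) (h2 : L < P) {a : G} (haL : a ∈ L)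
    (ha : a ∉ P ⊓ centralizer (P : Set G)) :
    P ⊓ centralizer (P : Set G) ⊔ zpowers a = L := by
  have hle : P ⊓ centralizer (P : Set G) ⊔ zpowers a ≤ L :=
    sup_le h1.le (by rw [zpowers_le]; exact haL)
  apply Subgroup.eq_of_le_of_card_ge hle
  rw [card_line hP hZ h1 h2, card_line hP hZ (lt_sup ha) (lt_of_le_of_lt hle h2)]

theorem card_filter_mem [Fintype G] (B : Subgroup G) [DecidablePred (· ∈ B)] :
    (Finset.univ.filter (· ∈ B)).card = Nat.card B := by
  rw [Nat.card_eq_fintype_card, Fintype.card_subtype]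

theorem card_filter_diff [Fintype G] {A B : Subgroup G} (hAB : A ≤ B) [DecidablePred (· ∈ B)]
    [DecidablePred (· ∈ A)] :
    (Finset.univ.filter (fun a => a ∈ B ∧ a ∉ A)).card = Nat.card B - Nat.card A := by
  classical
  have h : Finset.univ.filter (fun a => a ∈ B ∧ a ∉ A)
      = Finset.univ.filter (· ∈ B) \ Finset.univ.filter (· ∈ A) := by
    ext a
    simp
  rw [h, Finset.card_sdiff_of_subset, card_filter_mem, card_filter_mem]
  intro a ha
  simp only [Finset.mem_filter, Finset.mem_univ, true_and] at ha ⊢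
  exact hAB ha

/-- PURE.  `Z = Z(P)` has order `p` (`P` non-abelian of order `p³`: `P/Z` is not cyclic, `Z ≠ 1`).  A subgroup `L` with `Z < L < P` has order
`p²`.  Every `a ∈ P \ Z` lies in exactly one of them, `Z ⊔ zpowers a` (of order `p²`: it is abelian, so `≠ P`), and each `L` contains
`p² - p` elements outside `Z`: `(p³ - p) = (p² - p) · #lines`. -/
theorem card_lines {P : Subgroup G} {p : ℕ} [Fact p.Prime] (hP : Nat.card P = p ^ 3)
    (hPna : ¬ IsMulCommutative P) :
    Nat.card ↥(P ⊓ centralizer (P : Set G)) = p ∧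
    (∀ L : Subgroup G, P ⊓ centralizer (P : Set G) < L → L < P → Nat.card L = p ^ 2) ∧
    Nat.card {L : Subgroup G // P ⊓ centralizer (P : Set G) < L ∧ L < P} = p + 1 := by
  classical
  have hp : p.Prime := Fact.out
  have hZ := card_Z hP hPna
  refine ⟨hZ, fun L h1 h2 => card_line hP hZ h1 h2, ?_⟩
  have := Fintype.ofFinite G
  have := Fintype.ofFinite (Subgroup G)
  have hmaps : Set.MapsTo (fun a => P ⊓ centralizer (P : Set G) ⊔ zpowers a)
      (Finset.univ.filter (fun a => a ∈ P ∧ a ∉ P ⊓ centralizer (P : Set G)) : Finset G)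
      (Finset.univ.filter (fun L : Subgroup G => P ⊓ centralizer (P : Set G) < L ∧ L < P)
        : Finset (Subgroup G)) := by
    intro a ha
    simp only [Finset.coe_filter, Finset.mem_univ, true_and, Set.mem_ofPred_eq] at ha ⊢
    exact ⟨lt_sup ha.2, sup_lt ha.1 ha.2⟩
  have hcount := Finset.card_eq_sum_card_fiberwise hmaps
  have hfib : ∀ L ∈ (Finset.univ.filter
      (fun L : Subgroup G => P ⊓ centralizer (P : Set G) < L ∧ L < P) : Finset (Subgroup G)),
      ((Finset.univ.filter (fun a => a ∈ P ∧ a ∉ P ⊓ centralizer (P : Set G)) : Finset G).filter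
        (fun a => P ⊓ centralizer (P : Set G) ⊔ zpowers a = L)).card = p ^ 2 - p := by
    intro L hL
    simp only [Finset.mem_filter, Finset.mem_univ, true_and] at hL
    have h : (Finset.univ.filter (fun a => a ∈ P ∧ a ∉ P ⊓ centralizer (P : Set G))
        : Finset G).filter (fun a => P ⊓ centralizer (P : Set G) ⊔ zpowers a = L)
        = Finset.univ.filter (fun a => a ∈ L ∧ a ∉ P ⊓ centralizer (P : Set G)) := by
      ext a
      simp only [Finset.mem_filter, Finset.mem_univ, true_and]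
      constructor
      · rintro ⟨⟨haP, haZ⟩, rfl⟩
        exact ⟨mem_sup_right (mem_zpowers a), haZ⟩
      · rintro ⟨haL, haZ⟩
        exact ⟨⟨hL.2.le haL, haZ⟩, sup_eq_line hP hZ hL.1 hL.2 haL haZ⟩
    rw [h, card_filter_diff hL.1.le, card_line hP hZ hL.1 hL.2, hZ]
  rw [Finset.sum_congr rfl hfib, Finset.sum_const, smul_eq_mul,
    card_filter_diff inf_le_left, hP, hZ] at hcount
  rw [Nat.card_eq_fintype_card, Fintype.card_subtype]
  have h1 : p < p ^ 2 := by
    calc p = p ^ 1 := (pow_one p).symm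
      _ < p ^ 2 := Nat.pow_lt_pow_right hp.one_lt (by norm_num)
  obtain ⟨r, hr⟩ : ∃ r, p ^ 2 = p + r := ⟨p ^ 2 - p, by omega⟩
  have hr0 : 0 < r := by omega
  have h3 : p ^ 3 = p + (p + 1) * r := by
    calc p ^ 3 = p * p ^ 2 := by ring
      _ = p * (p + r) := by rw [hr]
      _ = p ^ 2 + p * r := by ring
      _ = p + r + p * r := by rw [hr]
      _ = p + (p + 1) * r := by ring
  rw [h3, hr, Nat.add_sub_cancel_left, Nat.add_sub_cancel_left] at hcount
  exact (Nat.eq_of_mul_eq_mul_right hr0 hcount).symm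

end Cfsg.Agent.Lib.H14BG157pcA
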