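import Mathlib
import Cfsg.Prelude.Def_OddOrderLocal
import Cfsg.Agent.Lib.Helper24BG
import Cfsg.Agent.Lib.H14BG157pcA

/-!
PROJECT 157 (helper14): B-G 15.7 for `K ≠ 1`, `U = 1` (row S1383), piece `pcB`.
Sketches: notes/helper14/BG157.md.
-/

set_option autoImplicit false
set_option linter.unusedSectionVars false
set_option linter.unusedVariables false
open Cfsg

namespace Cfsg.Agent.Lib.H14BG157pcB

open Subgroup
open Cfsg.Agent.Lib Cfsg.Agent.Lib.Helper24BG

universe u
variable {G : Type u} [Group G] [Finite G]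

open Cfsg.Agent.Lib.H14BG157pcA

omit [Finite G] in
/-- The order of a finite group acting freely divides the size of the set. -/
theorem card_dvd_of_free' {A Ω : Type*} [Group A] [MulAction A Ω]
    (h : ∀ (a : A) (x : Ω), a • x = x → a = 1) : Nat.card A ∣ Nat.card Ω := by
  have hs : ∀ b : Ω, MulAction.stabilizer A b = ⊥ := by
    intro b
    rw [eq_bot_iff]
    intro a ha
    exact Subgroup.mem_bot.mpr (h a b ha)
  rw [Nat.card_congr (MulAction.selfEquivOrbitsQuotientProd hs), Nat.card_prod]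
  exact dvd_mul_left _ _

omit [Finite G] in
/-- `K` centralises `Z(P)` -/
theorem conj_Z {P K : Subgroup G}
    (hcent : ∀ k ∈ K, k ≠ 1 → P ⊓ centralizer ({k} : Set G) = P ⊓ centralizer (P : Set G))
    {k : G} (hk : k ∈ K) {z : G} (hz : z ∈ P ⊓ centralizer (P : Set G)) : k * z * k⁻¹ = z := by
  by_cases hk1 : k = 1
  · subst hk1; simp
  · have h1 : z ∈ P ⊓ centralizer ({k} : Set G) := by rw [hcent k hk hk1]; exact hz
    have h2 := mem_centralizer_singleton_iff.1 h1.2
    rw [← h2, mul_inv_cancel_right]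

/-- PURE.  `|L| = p²`, `|Z| = p`, `L` abelian.  Pick `a ∈ L \ Z`.  For `k ∈ K`: `k a k⁻¹ ∈ L = ⋃_i a^i Z`.  The action of `K` on `L/Z`
(order `p`) gives a hom `K → MulAut (L ⧸ Z.subgroupOf L)`, `|MulAut| = p - 1` (`IsCyclic.card_mulAut`).  It is injective: if `k ≠ 1` acts trivially
on `L/Z` then (it also centralises `Z ≤ C(k)` by `hcent`) `k` stabilises the chain `1 < Z < L`, so by coprime action it centralises `L`
(elementary: `k a k⁻¹ = a c`, `c ∈ Z` fixed by `k`, so `k^n a k^(-n) = a c^n`; `n = orderOf k` gives `c^n = 1`, `c^p = 1`, so `c = 1`);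
then `a ∈ P ⊓ C(k) = Z`, contradiction. -/
theorem dvd_of_fixed_line {P K L : Subgroup G} {p : ℕ} [Fact p.Prime]
    (hZ : Nat.card ↥(P ⊓ centralizer (P : Set G)) = p) (hLc : Nat.card L = p ^ 2)
    (hZL : P ⊓ centralizer (P : Set G) < L) (hLP : L < P)
    (hK : K ≤ normalizer (P : Set G)) (hKp : (Nat.card K).Coprime p)
    (hcent : ∀ k ∈ K, k ≠ 1 → P ⊓ centralizer ({k} : Set G) = P ⊓ centralizer (P : Set G))
    (hKL : K ≤ normalizer (L : Set G)) : Nat.card K ∣ p - 1 := by
  classical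
  have hp : p.Prime := Fact.out
  let _ : MulAction K {a : G // a ∈ L ∧ a ∉ P ⊓ centralizer (P : Set G)} :=
    { smul := fun k a => ⟨(k : G) * a.1 * (k : G)⁻¹, (mem_normalizer_iff.1 (hKL k.2) a.1).1 a.2.1,
        fun h => a.2.2 (by
          have h1 := conj_Z hcent (K.inv_mem k.2) h
          have h2 : (k : G)⁻¹ * ((k : G) * a.1 * (k : G)⁻¹) * ((k : G)⁻¹)⁻¹ = a.1 := by group
          rw [h2] at h1
          rw [h1]
          exact h)⟩
      one_smul := fun a => Subtype.ext (by
        show ((1 : K) : G) * a.1 * ((1 : K) : G)⁻¹ = a.1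
        simp)
      mul_smul := fun k k' a => Subtype.ext (by
        show ((k * k' : K) : G) * a.1 * ((k * k' : K) : G)⁻¹
          = (k : G) * ((k' : G) * a.1 * (k' : G)⁻¹) * (k : G)⁻¹
        rw [Subgroup.coe_mul]
        group) }
  have hfree : ∀ (k : K) (x : {a : G // a ∈ L ∧ a ∉ P ⊓ centralizer (P : Set G)}),
      k • x = x → k = 1 := by
    intro k x hkx
    by_contra hk1
    have hk1' : (k : G) ≠ 1 := fun h => hk1 (Subtype.ext h)
    have h1 : (k : G) * x.1 * (k : G)⁻¹ = x.1 := congrArg Subtype.val hkx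
    apply x.2.2
    have h3 : x.1 ∈ centralizer ({(k : G)} : Set G) := by
      rw [mem_centralizer_singleton_iff]
      calc x.1 * k = ((k : G) * x.1 * (k : G)⁻¹) * k := by rw [h1]
        _ = k * x.1 := by group
    have h2 : x.1 ∈ P ⊓ centralizer ({(k : G)} : Set G) := ⟨hLP.le x.2.1, h3⟩
    have h4 := hcent k k.2 hk1'
    generalize x.1 = y at h2 ⊢
    rw [h4] at h2
    exact h2
  have hdvd := card_dvd_of_free' hfree
  have := Fintype.ofFinite G
  have hX : Nat.card {a : G // a ∈ L ∧ a ∉ P ⊓ centralizer (P : Set G)} = p * (p - 1) := by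
    rw [Nat.card_eq_fintype_card, Fintype.card_subtype, card_filter_diff hZL.le, hLc, hZ,
      Nat.mul_sub, mul_one, sq]
  rw [hX] at hdvd
  exact Nat.Coprime.dvd_of_dvd_mul_left hKp hdvd

end Cfsg.Agent.Lib.H14BG157pcB
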