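import Mathlib
import Cfsg.Prelude.Def_OddOrderLocal
import Cfsg.Agent.Lib.Helper24BG
import Cfsg.Agent.Lib.Helper3Class2
import Cfsg.Agent.Lib.H14BG157pcA
import Cfsg.Agent.Lib.H14BG157pcB

/-!
PROJECT 157 (helper14): B-G 15.7 for `K ≠ 1`, `U = 1` (row S1383), piece `pcC`.
Sketches: notes/helper14/BG157.md.
-/

set_option autoImplicit false
set_option linter.unusedSectionVars false
set_option linter.unusedVariables false
open Cfsg

namespace Cfsg.Agent.Lib.H14BG157pcC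

open Subgroup
open Cfsg.Agent.Lib Cfsg.Agent.Lib.Helper24BG

universe u
variable {G : Type u} [Group G] [Finite G]

open Cfsg.Agent.Lib.H14BG157pcA Cfsg.Agent.Lib.H14BG157pcB Cfsg.Agent.Lib.Helper3Class2
open scoped commutatorElement

omit [Finite G] in
/-- the subgroup `⟨a⟩ Z(P)` by hand -/
def lineSub (P : Subgroup G) {a : G} (haP : a ∈ P) : Subgroup G where
  carrier := {x | ∃ j : ℤ, ∃ z ∈ P ⊓ centralizer (P : Set G), x = a ^ j * z}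
  one_mem' := ⟨0, 1, one_mem _, by simp⟩
  mul_mem' := by
    rintro _ _ ⟨j, z, hz, rfl⟩ ⟨j', z', hz', rfl⟩
    refine ⟨j + j', z * z', mul_mem hz hz', ?_⟩
    have hc : a ^ j' * z = z * a ^ j' := (mem_Z_iff.1 hz).2 _ (P.zpow_mem haP j')
    calc a ^ j * z * (a ^ j' * z') = a ^ j * (z * a ^ j') * z' := by group
      _ = a ^ j * (a ^ j' * z) * z' := by rw [hc]
      _ = a ^ (j + j') * (z * z') := by rw [zpow_add]; group
  inv_mem' := by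
    rintro _ ⟨j, z, hz, rfl⟩
    refine ⟨-j, z⁻¹, inv_mem hz, ?_⟩
    have hc : a ^ (-j) * z⁻¹ = z⁻¹ * a ^ (-j) :=
      (mem_Z_iff.1 (inv_mem hz)).2 _ (P.zpow_mem haP _)
    rw [mul_inv_rev, hc, zpow_neg]

theorem mem_line {P : Subgroup G} {p : ℕ} [Fact p.Prime] (hP : Nat.card P = p ^ 3)
    (hZ : Nat.card ↥(P ⊓ centralizer (P : Set G)) = p) {L : Subgroup G}
    (h1 : P ⊓ centralizer (P : Set G) < L) (h2 : L < P) {a : G} (haL : a ∈ L)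
    (ha : a ∉ P ⊓ centralizer (P : Set G)) {x : G} (hx : x ∈ L) :
    ∃ j : ℕ, ∃ z ∈ P ⊓ centralizer (P : Set G), x = a ^ j * z := by
  have haP : a ∈ P := h2.le haL
  have hle : P ⊓ centralizer (P : Set G) ⊔ zpowers a ≤ lineSub P haP := by
    apply sup_le
    · intro z hz
      exact ⟨0, z, hz, by simp⟩
    · rw [zpowers_le]
      exact ⟨1, 1, one_mem _, by simp⟩
  rw [sup_eq_line hP hZ h1 h2 haL ha] at hle
  obtain ⟨j, z, hz, rfl⟩ := hle hx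
  obtain ⟨n, hn⟩ := (mem_powers_iff_mem_zpowers (x := a)).2 ⟨j, rfl⟩
  have hn' : a ^ n = a ^ j := hn
  exact ⟨n, z, hz, by rw [hn']⟩

theorem comm_mem_Z {P : Subgroup G} {p : ℕ} [Fact p.Prime] (hP : Nat.card P = p ^ 3)
    (hPna : ¬ IsMulCommutative P) {a b : G} (ha : a ∈ P) (hb : b ∈ P) :
    ⁅a, b⁆ ∈ P ⊓ centralizer (P : Set G) := by
  have hpp : p.Prime := Fact.out
  have hnc : ∃ a b : P, a * b ≠ b * a := by
    by_contra hcon
    push Not at hcon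
    exact hPna ⟨⟨hcon⟩⟩
  have hZc := Helper89PCube.card_center_of_card_cube hP hnc
  have hidx := (Subgroup.center P).card_mul_index
  rw [hP, hZc] at hidx
  have hq : Nat.card (P ⧸ Subgroup.center P) = p ^ 2 := by
    have : p * (Subgroup.center P).index = p * p ^ 2 := by rw [hidx]; ring
    exact Nat.eq_of_mul_eq_mul_left hpp.pos this
  have hqc := Helper89PCube.comm_of_card_dvd_sq (p := p) (E := P ⧸ Subgroup.center P)
    (by rw [hq])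
  have hmem : ⁅(⟨a, ha⟩ : P), ⟨b, hb⟩⁆ ∈ Subgroup.center P := by
    rw [← QuotientGroup.eq_one_iff, commutatorElement_def]
    simp only [QuotientGroup.mk_mul, QuotientGroup.mk_inv]
    rw [hqc ((⟨a, ha⟩ : P) : P ⧸ Subgroup.center P) ((⟨b, hb⟩ : P) : P ⧸ Subgroup.center P)]
    group
  rw [mem_Z_iff]
  refine ⟨(⁅(⟨a, ha⟩ : P), (⟨b, hb⟩ : P)⁆ : P).2, fun w hw => ?_⟩
  exact congrArg Subtype.val (Subgroup.mem_center_iff.mp hmem ⟨w, hw⟩)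

omit [Finite G] in
theorem pow_p_Z {P : Subgroup G} {p : ℕ}
    (hZ : Nat.card ↥(P ⊓ centralizer (P : Set G)) = p) {z : G}
    (hz : z ∈ P ⊓ centralizer (P : Set G)) : z ^ p = 1 := by
  have := pow_card_eq_one' (G := ↥(P ⊓ centralizer (P : Set G))) (x := ⟨z, hz⟩)
  rw [hZ] at this
  exact congrArg Subtype.val this

theorem pow_p_mem_Z {P : Subgroup G} {p : ℕ} [Fact p.Prime] (hP : Nat.card P = p ^ 3)
    (hPna : ¬ IsMulCommutative P) {a : G} (ha : a ∈ P) :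
    a ^ p ∈ P ⊓ centralizer (P : Set G) := by
  have hZ := card_Z hP hPna
  rw [mem_Z_iff]
  refine ⟨P.pow_mem ha p, fun w hw => ?_⟩
  have hc := comm_mem_Z hP hPna ha hw
  have h1 : ⁅a ^ p, w⁆ = 1 := by
    rw [commutator_pow_left a w ((mem_Z_iff.1 hc).2 a ha).symm, pow_p_Z hZ hc]
  rw [commutatorElement_eq_one_iff_mul_comm] at h1
  exact h1.symm

theorem comm_ne_one {P : Subgroup G} {p : ℕ} [Fact p.Prime] (hP : Nat.card P = p ^ 3)
    (hZ : Nat.card ↥(P ⊓ centralizer (P : Set G)) = p) {L L' : Subgroup G}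
    (h1 : P ⊓ centralizer (P : Set G) < L ∧ L < P) (h2 : P ⊓ centralizer (P : Set G) < L' ∧ L' < P)
    (hne : L ≠ L') {a a' : G} (haL : a ∈ L) (ha : a ∉ P ⊓ centralizer (P : Set G))
    (haL' : a' ∈ L') (ha' : a' ∉ P ⊓ centralizer (P : Set G)) : ⁅a, a'⁆ ≠ 1 := by
  intro hc
  rw [commutatorElement_eq_one_iff_mul_comm] at hc
  have haP : a ∈ P := h1.2.le haL
  have ha'P : a' ∈ P := h2.2.le haL'
  have hLC : L ≤ P ⊓ centralizer ({a} : Set G) := by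
    refine le_inf h1.2.le ?_
    rw [← sup_eq_line hP hZ h1.1 h1.2 haL ha]
    apply sup_le
    · intro z hz
      rw [mem_centralizer_singleton_iff]
      exact ((mem_Z_iff.1 hz).2 a haP).symm
    · rw [zpowers_le, mem_centralizer_singleton_iff]
  have ha'C : a' ∈ P ⊓ centralizer ({a} : Set G) :=
    ⟨ha'P, mem_centralizer_singleton_iff.2 hc.symm⟩
  have ha'L : a' ∉ L := by
    intro h
    apply hne
    rw [← sup_eq_line hP hZ h1.1 h1.2 h ha', sup_eq_line hP hZ h2.1 h2.2 haL' ha']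
  have hlt : L < P ⊓ centralizer ({a} : Set G) :=
    lt_of_le_of_ne hLC (fun h => ha'L (h ▸ ha'C))
  by_cases hCP : P ⊓ centralizer ({a} : Set G) = P
  · apply ha
    rw [mem_Z_iff]
    refine ⟨haP, fun w hw => ?_⟩
    have : w ∈ P ⊓ centralizer ({a} : Set G) := by rw [hCP]; exact hw
    exact mem_centralizer_singleton_iff.1 this.2
  · have hlt2 : P ⊓ centralizer ({a} : Set G) < P := lt_of_le_of_ne inf_le_left hCP
    have c1 := card_line hP hZ (h1.1.trans hlt) hlt2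
    have c2 := card_line hP hZ h1.1 h1.2
    exact hlt.ne (Subgroup.eq_of_le_of_card_ge hLC (by rw [c1, c2]))

omit [Finite G] in
theorem comm_mul_left {x z w : G} (h : z * w = w * z) : ⁅x * z, w⁆ = ⁅x, w⁆ := by
  rw [commutatorElement_def, commutatorElement_def]
  calc x * z * w * (x * z)⁻¹ * w⁻¹ = x * (z * w) * z⁻¹ * x⁻¹ * w⁻¹ := by group
    _ = x * (w * z) * z⁻¹ * x⁻¹ * w⁻¹ := by rw [h]
    _ = x * w * x⁻¹ * w⁻¹ := by group

omit [Finite G] in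
theorem comm_mul_right {x y z : G} (h : z * x = x * z) : ⁅x, y * z⁆ = ⁅x, y⁆ := by
  have h' : z * x⁻¹ = x⁻¹ * z := by
    calc z * x⁻¹ = x⁻¹ * (x * z) * x⁻¹ := by group
      _ = x⁻¹ * (z * x) * x⁻¹ := by rw [h]
      _ = x⁻¹ * z := by group
  rw [commutatorElement_def, commutatorElement_def]
  calc x * (y * z) * x⁻¹ * (y * z)⁻¹ = x * y * (z * x⁻¹) * z⁻¹ * y⁻¹ := by group
    _ = x * y * (x⁻¹ * z) * z⁻¹ * y⁻¹ := by rw [h']
    _ = x * y * x⁻¹ * y⁻¹ := by group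

/-- the determinant relation for two invariant lines -/
theorem pair_rel {P K : Subgroup G} {p : ℕ} [Fact p.Prime]
    (hP : Nat.card P = p ^ 3) (hPna : ¬ IsMulCommutative P)
    (hcent : ∀ k ∈ K, k ≠ 1 → P ⊓ centralizer ({k} : Set G) = P ⊓ centralizer (P : Set G))
    {k : G} (hk : k ∈ K) {L L' : Subgroup G}
    (h1 : P ⊓ centralizer (P : Set G) < L ∧ L < P) (h2 : P ⊓ centralizer (P : Set G) < L' ∧ L' < P)
    (hne : L ≠ L') {a a' : G} (haL : a ∈ L) (ha : a ∉ P ⊓ centralizer (P : Set G))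
    (haL' : a' ∈ L') (ha' : a' ∉ P ⊓ centralizer (P : Set G)) {m m' : ℕ} {z z' : G}
    (hz : z ∈ P ⊓ centralizer (P : Set G)) (hz' : z' ∈ P ⊓ centralizer (P : Set G))
    (hka : k * a * k⁻¹ = a ^ m * z) (hka' : k * a' * k⁻¹ = a' ^ m' * z') :
    m * m' ≡ 1 [MOD p] := by
  have hp : p.Prime := Fact.out
  have hZ := card_Z hP hPna
  have haP : a ∈ P := h1.2.le haL
  have ha'P : a' ∈ P := h2.2.le haL'
  have hc := comm_mem_Z hP hPna haP ha'P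
  have hc1 := comm_ne_one hP hZ h1 h2 hne haL ha haL' ha'
  have hord : orderOf ⁅a, a'⁆ = p := orderOf_eq_prime (pow_p_Z hZ hc) hc1
  have e1 : k * ⁅a, a'⁆ * k⁻¹ = ⁅a, a'⁆ := conj_Z hcent hk hc
  have e2 : k * ⁅a, a'⁆ * k⁻¹ = ⁅k * a * k⁻¹, k * a' * k⁻¹⁆ := by
    rw [commutatorElement_def, commutatorElement_def]
    group
  have e3 : ⁅a ^ m * z, a' ^ m' * z'⁆ = ⁅a, a'⁆ ^ (m * m') := by
    rw [comm_mul_left ((mem_Z_iff.1 hz).2 _ (P.mul_mem (P.pow_mem ha'P m') hz'.1)).symm,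
      comm_mul_right ((mem_Z_iff.1 hz').2 _ (P.pow_mem haP m)).symm]
    have hcm := comm_mem_Z hP hPna (P.pow_mem haP m) ha'P
    rw [commutator_pow_right (a ^ m) a' ((mem_Z_iff.1 hcm).2 a' ha'P).symm,
      commutator_pow_left a a' ((mem_Z_iff.1 hc).2 a haP).symm, pow_mul]
  rw [hka, hka', e3, e1] at e2
  have e4 : ⁅a, a'⁆ ^ (m * m') = ⁅a, a'⁆ ^ 1 := by rw [pow_one]; exact e2.symm
  rw [pow_eq_pow_iff_modEq, hord] at e4
  exact e4

omit [Finite G] in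
/-- coprime action on the chain `1 < Z < L` -/
theorem coprime_fix {k a c : G} {p : ℕ} (hkc : k * c * k⁻¹ = c) (hka : k * a * k⁻¹ = a * c)
    (hcp : c ^ p = 1) (hcop : (orderOf k).Coprime p) : c = 1 := by
  have hpow : ∀ n : ℕ, k ^ n * a * (k ^ n)⁻¹ = a * c ^ n := by
    intro n
    induction n with
    | zero => simp
    | succ n ih =>
      calc k ^ (n + 1) * a * (k ^ (n + 1))⁻¹ = k * (k ^ n * a * (k ^ n)⁻¹) * k⁻¹ := by
            rw [pow_succ']; group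
        _ = k * (a * c ^ n) * k⁻¹ := by rw [ih]
        _ = (k * a * k⁻¹) * (k * c * k⁻¹) ^ n := by rw [conj_pow]; group
        _ = a * c ^ (n + 1) := by rw [hka, hkc, pow_succ']; group
  have h1 := hpow (orderOf k)
  rw [pow_orderOf_eq_one, one_mul, inv_one, mul_one] at h1
  have h2 : c ^ orderOf k = 1 := by
    have := h1.symm
    rwa [mul_eq_left] at this
  have d1 := orderOf_dvd_of_pow_eq_one h2
  have d2 := orderOf_dvd_of_pow_eq_one hcp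
  have := Nat.dvd_gcd d1 d2
  rw [hcop.gcd_eq_one, Nat.dvd_one, orderOf_eq_one_iff] at this
  exact this

/-- PURE.  Suppose `k` normalises three distinct lines.  `a_i ∈ L_i \ Z` (`i = 1, 2`): `P = ⟨a₁, a₂, Z⟩`, `c := ⁅a₁, a₂⁆ ≠ 1` in `Z` (else `P` abelian).
`k a_i k⁻¹ = a_i^(m_i) z_i` (`z_i ∈ Z`).  `L₃ ∋ a₁^u a₂^v z` with `u, v ≢ 0`; invariance of `L₃` forces `m₁ ≡ m₂ =: m (mod p)`.
`k` centralises `Z` (`hcent`), commutators are bilinear mod the centre: `c = k c k⁻¹ = ⁅a₁^m z₁, a₂^m z₂⁆ = c^(m²)`, so `m² ≡ 1`, `m ≡ ±1`.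
`m ≡ 1`: `k` acts trivially on `L₁/Z` and on `Z`, so centralises `L₁` (coprime action as in `pcB`): `a₁ ∈ P ⊓ C(k) = Z`, no.
`m ≡ -1`: then `k²` acts trivially on `L₁/Z`, and `k² ≠ 1` as `orderOf k` is odd; same contradiction with `k²`. -/
theorem fixed_lines {P K : Subgroup G} {p : ℕ} [Fact p.Prime] (hp2 : p ≠ 2)
    (hP : Nat.card P = p ^ 3) (hPna : ¬ IsMulCommutative P)
    (hK : K ≤ normalizer (P : Set G)) (hKodd : Odd (Nat.card K)) (hKp : (Nat.card K).Coprime p)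
    (hcent : ∀ k ∈ K, k ≠ 1 → P ⊓ centralizer ({k} : Set G) = P ⊓ centralizer (P : Set G))
    {k : G} (hk : k ∈ K) (hk1 : k ≠ 1) {L₁ L₂ L₃ : Subgroup G}
    (h1 : P ⊓ centralizer (P : Set G) < L₁ ∧ L₁ < P) (h2 : P ⊓ centralizer (P : Set G) < L₂ ∧ L₂ < P)
    (h3 : P ⊓ centralizer (P : Set G) < L₃ ∧ L₃ < P) (h12 : L₁ ≠ L₂) (h13 : L₁ ≠ L₃) (h23 : L₂ ≠ L₃)
    (hk1' : k ∈ normalizer (L₁ : Set G)) (hk2' : k ∈ normalizer (L₂ : Set G))
    (hk3' : k ∈ normalizer (L₃ : Set G)) : False := by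
  have hp : p.Prime := Fact.out
  have hZ := card_Z hP hPna
  obtain ⟨a₁, ha₁L, ha₁⟩ := SetLike.exists_of_lt h1.1
  obtain ⟨a₂, ha₂L, ha₂⟩ := SetLike.exists_of_lt h2.1
  obtain ⟨a₃, ha₃L, ha₃⟩ := SetLike.exists_of_lt h3.1
  obtain ⟨m₁, z₁, hz₁, e₁⟩ := mem_line hP hZ h1.1 h1.2 ha₁L ha₁
    ((mem_normalizer_iff.1 hk1' a₁).1 ha₁L)
  obtain ⟨m₂, z₂, hz₂, e₂⟩ := mem_line hP hZ h2.1 h2.2 ha₂L ha₂
    ((mem_normalizer_iff.1 hk2' a₂).1 ha₂L)
  obtain ⟨m₃, z₃, hz₃, e₃⟩ := mem_line hP hZ h3.1 h3.2 ha₃L ha₃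
    ((mem_normalizer_iff.1 hk3' a₃).1 ha₃L)
  have r12 := pair_rel hP hPna hcent hk h1 h2 h12 ha₁L ha₁ ha₂L ha₂ hz₁ hz₂ e₁ e₂
  have r13 := pair_rel hP hPna hcent hk h1 h3 h13 ha₁L ha₁ ha₃L ha₃ hz₁ hz₃ e₁ e₃
  have r23 := pair_rel hP hPna hcent hk h2 h3 h23 ha₂L ha₂ ha₃L ha₃ hz₂ hz₃ e₂ e₃
  have hsq : m₂ * m₂ ≡ 1 [MOD p] := by
    rw [← ZMod.natCast_eq_natCast_iff] at r12 r13 r23 ⊢
    push_cast at r12 r13 r23 ⊢
    calc (m₂ : ZMod p) * m₂ = (m₂ : ZMod p) * m₂ * ((m₁ : ZMod p) * m₃) := by rw [r13, mul_one]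
      _ = ((m₁ : ZMod p) * m₂) * ((m₂ : ZMod p) * m₃) := by ring
      _ = 1 := by rw [r12, r23, mul_one]
  have ha₂P : a₂ ∈ P := h2.2.le ha₂L
  -- `k ^ 2`
  have hk2K : k ^ 2 ∈ K := K.pow_mem hk 2
  have hk2ne : k ^ 2 ≠ 1 := by
    intro h
    have d1 : orderOf k ∣ 2 := orderOf_dvd_of_pow_eq_one h
    have d2 : orderOf k ∣ Nat.card K := by
      have := orderOf_dvd_natCard (⟨k, hk⟩ : K)
      rwa [Subgroup.orderOf_mk] at this
    rcases (Nat.dvd_prime Nat.prime_two).1 d1 with h1 | h2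
    · exact hk1 (orderOf_eq_one_iff.1 h1)
    · rw [h2] at d2
      exact (Nat.not_even_iff_odd.2 hKodd) (even_iff_two_dvd.2 d2)
  have hpos : 1 ≤ m₂ * m₂ := by
    rcases Nat.eq_zero_or_pos (m₂ * m₂) with h0 | h0
    · rw [h0] at hsq
      have := (Nat.modEq_zero_iff_dvd.1 hsq.symm)
      exact absurd (Nat.dvd_one.1 this) hp.one_lt.ne'
    · exact h0
  obtain ⟨t, ht⟩ := (Nat.modEq_iff_dvd' hpos).1 hsq.symm
  have hmm : m₂ * m₂ = 1 + p * t := by omega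
  have hcomm : Commute (a₂ ^ m₂) z₂ := (mem_Z_iff.1 hz₂).2 _ (P.pow_mem ha₂P m₂)
  have hconj2 : k ^ 2 * a₂ * (k ^ 2)⁻¹ = a₂ * ((a₂ ^ p) ^ t * z₂ ^ m₂ * z₂) := by
    calc k ^ 2 * a₂ * (k ^ 2)⁻¹ = k * (k * a₂ * k⁻¹) * k⁻¹ := by rw [sq]; group
      _ = k * (a₂ ^ m₂ * z₂) * k⁻¹ := by rw [e₂]
      _ = (k * a₂ * k⁻¹) ^ m₂ * (k * z₂ * k⁻¹) := by rw [conj_pow]; group
      _ = (a₂ ^ m₂ * z₂) ^ m₂ * z₂ := by rw [e₂, conj_Z hcent hk hz₂]
      _ = a₂ ^ (m₂ * m₂) * z₂ ^ m₂ * z₂ := by rw [hcomm.mul_pow, ← pow_mul]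
      _ = a₂ * ((a₂ ^ p) ^ t * z₂ ^ m₂ * z₂) := by
          rw [hmm, pow_add, pow_one, pow_mul]; group
  have hcZ : (a₂ ^ p) ^ t * z₂ ^ m₂ * z₂ ∈ P ⊓ centralizer (P : Set G) :=
    mul_mem (mul_mem (pow_mem (pow_p_mem_Z hP hPna ha₂P) t) (pow_mem hz₂ m₂)) hz₂
  have hcop : (orderOf (k ^ 2)).Coprime p := by
    have d2 : orderOf (k ^ 2) ∣ Nat.card K := by
      have := orderOf_dvd_natCard (⟨k ^ 2, hk2K⟩ : K)
      rwa [Subgroup.orderOf_mk] at this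
    exact Nat.Coprime.coprime_dvd_left d2 hKp
  have hc1 := coprime_fix (conj_Z hcent hk2K hcZ) hconj2 (pow_p_Z hZ hcZ) hcop
  rw [hc1, mul_one] at hconj2
  apply ha₂
  rw [← hcent (k ^ 2) hk2K hk2ne]
  refine ⟨ha₂P, ?_⟩
  show a₂ ∈ centralizer ({k ^ 2} : Set G)
  rw [mem_centralizer_singleton_iff]
  calc a₂ * k ^ 2 = (k ^ 2 * a₂ * (k ^ 2)⁻¹) * k ^ 2 := by rw [hconj2]
    _ = k ^ 2 * a₂ := by group

end Cfsg.Agent.Lib.H14BG157pcC
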