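import Mathlib
import Cfsg.Prelude.Def_OddOrderLocal
import Cfsg.Agent.Lib.Helper24BG
import Cfsg.Agent.Lib.H14BG157pcA
import Cfsg.Agent.Lib.H14BG157pcB
import Cfsg.Agent.Lib.H14BG157pcC
import Cfsg.Agent.Lib.Helper73Frattini
import Cfsg.Agent.Lib.Helper2KWa

/-!
PROJECT 157 (helper14): B-G 15.7 for `K ≠ 1`, `U = 1` (row S1383), piece `pcD`.
Sketches: notes/helper14/BG157.md.
-/

set_option autoImplicit false
set_option linter.unusedSectionVars false
set_option linter.unusedVariables false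
open Cfsg

namespace Cfsg.Agent.Lib.H14BG157pcD

open Subgroup
open Cfsg.Agent.Lib Cfsg.Agent.Lib.Helper24BG
open Cfsg.Agent.Lib.H14BG157pcA Cfsg.Agent.Lib.H14BG157pcB Cfsg.Agent.Lib.H14BG157pcC

universe u
variable {G : Type u} [Group G] [Finite G]

open scoped Pointwise

theorem smul_lt_smul' {a : MulAut G} {S T : Subgroup G} (h : S < T) : a • S < a • T := by
  rw [lt_iff_le_not_ge] at h ⊢
  simpa [Subgroup.pointwise_smul_le_pointwise_smul_iff] using h

theorem conj_smul_center {P : Subgroup G} {k : G} (hkP : k ∈ normalizer (P : Set G)) :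
    MulAut.conj k • (P ⊓ centralizer (P : Set G)) = P ⊓ centralizer (P : Set G) := by
  rw [Helper2Conj.conj_smul_eq_iff_mem_normalizer]
  apply Helper2KWa.mem_normalizer_of_forall
  intro z hzZ
  refine mem_inf.mpr ⟨(mem_normalizer_iff.mp hkP z).mp hzZ.1, ?_⟩
  rw [mem_centralizer_iff]
  intro y hy
  have hy' : k⁻¹ * y * k ∈ P := by
    have := (mem_normalizer_iff.mp (inv_mem hkP) y).mp hy
    simpa using this
  have h4 := mem_centralizer_iff.mp hzZ.2 _ hy'
  calc y * (k * z * k⁻¹) = k * ((k⁻¹ * y * k) * z) * k⁻¹ := by group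
    _ = k * (z * (k⁻¹ * y * k)) * k⁻¹ := by rw [h4]
    _ = k * z * k⁻¹ * y := by group

/-- the action of `K` on the lines -/
@[instance_reducible]
noncomputable def lineAction {P K : Subgroup G} (hK : K ≤ normalizer (P : Set G)) :
    MulAction ↥K {L : Subgroup G // P ⊓ centralizer (P : Set G) < L ∧ L < P} where
  smul k L := ⟨MulAut.conj (k : G) • L.1, by
    have h := smul_lt_smul' (a := MulAut.conj (k : G)) L.2.1
    rwa [conj_smul_center (hK k.2)] at h, by
    have h := smul_lt_smul' (a := MulAut.conj (k : G)) L.2.2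
    rwa [Helper2Conj.conj_smul_eq_iff_mem_normalizer.mpr (hK k.2)] at h⟩
  one_smul L := Subtype.ext (by
    change MulAut.conj ((1 : ↥K) : G) • L.1 = L.1
    simp)
  mul_smul a b L := Subtype.ext (by
    change MulAut.conj ((a * b : ↥K) : G) • L.1 = MulAut.conj (a : G) • MulAut.conj (b : G) • L.1
    simp [mul_smul])

/-- PURE (assembly of `pcA`, `pcB`, `pcC`).  `K` acts by conjugation on the set `𝓛` of the `p + 1` lines `Z < L < P`
(`MulAut.conj k • L`, or `L.map (MulAut.conj k).toMonoidHom`; `K` normalises `P` and `Z = P ⊓ C(P)`).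
If no `1 ≠ k ∈ K` fixes a line, all stabilisers are trivial, all orbits have `|K|` elements: `|K| ∣ p + 1`.
Otherwise `1 ≠ k₀` fixes `L₀`.  `F = {L ∈ 𝓛 | k₀ fixes L}` has `1 ≤ |F| ≤ 2` (`fixed_lines`) and is `K`-invariant (`K` is abelian).  The `K`-orbit of `L₀`
lies in `F`, its size divides `|K|` (odd) and is `≤ 2`, so it is `1`: `K ≤ N(L₀)`; `dvd_of_fixed_line`. -/
theorem pure_cube {P K : Subgroup G} {p : ℕ} [Fact p.Prime] (hp2 : p ≠ 2)
    (hP : Nat.card P = p ^ 3) (hPna : ¬ IsMulCommutative P)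
    (hK : K ≤ normalizer (P : Set G)) (hKc : IsCyclic K) (hKodd : Odd (Nat.card K))
    (hKp : (Nat.card K).Coprime p)
    (hcent : ∀ k ∈ K, k ≠ 1 → P ⊓ centralizer ({k} : Set G) = P ⊓ centralizer (P : Set G)) :
    Nat.card K ∣ p - 1 ∨ Nat.card K ∣ p + 1 := by
  let _ := lineAction hK
  have hval : ∀ (k : ↥K) (L : {L : Subgroup G // P ⊓ centralizer (P : Set G) < L ∧ L < P}),
      (k • L).1 = MulAut.conj (k : G) • L.1 := fun _ _ => rfl
  have hnorm : ∀ (k : ↥K) (L : {L : Subgroup G // P ⊓ centralizer (P : Set G) < L ∧ L < P}),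
      k • L = L → (k : G) ∈ normalizer (L.1 : Set G) := by
    intro k L h
    rw [← Helper2Conj.conj_smul_eq_iff_mem_normalizer, ← hval, h]
  obtain ⟨hZ, hL2, hcard⟩ := card_lines hP hPna
  by_cases hfree : ∀ (k : ↥K) (L : {L : Subgroup G // P ⊓ centralizer (P : Set G) < L ∧ L < P}),
      k • L = L → k = 1
  · right
    rw [← hcard]
    exact Helper73Frattini.card_dvd_of_free hfree
  · left
    push Not at hfree
    obtain ⟨k₀, L₀, hk₀L₀, hk₀⟩ := hfree
    have hcomm : ∀ a b : ↥K, a * b = b * a := fun a b => hKc.isMulCommutative.is_comm.comm a b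
    have hF : ∀ k : ↥K, k₀ • (k • L₀) = k • L₀ := by
      intro k
      rw [smul_smul, hcomm, ← smul_smul, hk₀L₀]
    have hall : ∀ k : ↥K, k • L₀ = L₀ := by
      intro k
      by_contra hne
      have h12 : L₀ ≠ k • L₀ := fun h => hne h.symm
      have h23 : k • L₀ ≠ k • (k • L₀) := by
        intro h
        exact h12 (smul_left_cancel k h)
      have h13 : L₀ ≠ k • (k • L₀) := by
        intro h
        apply hne
        have h2 : k ^ 2 ∈ MulAction.stabilizer ↥K L₀ := by
          rw [MulAction.mem_stabilizer_iff, pow_two, ← smul_smul]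
          exact h.symm
        obtain ⟨m, hm⟩ := Odd.of_dvd_nat hKodd (orderOf_dvd_natCard k)
        have h3 : (k ^ 2) ^ (m + 1) = k := by
          rw [← pow_mul]
          have : 2 * (m + 1) = orderOf k + 1 := by omega
          rw [this, pow_succ, pow_orderOf_eq_one, one_mul]
        have h4 := pow_mem h2 (m + 1)
        rw [h3] at h4
        exact h4
      have hk₀1 : (k₀ : G) ≠ 1 := fun h => hk₀ (Subtype.ext h)
      exact fixed_lines hp2 hP hPna hK hKodd hKp hcent k₀.2 hk₀1 L₀.2 (k • L₀).2 (k • (k • L₀)).2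
        (fun h => h12 (Subtype.ext h)) (fun h => h13 (Subtype.ext h))
        (fun h => h23 (Subtype.ext h)) (hnorm k₀ L₀ hk₀L₀) (hnorm k₀ _ (hF k))
        (hnorm k₀ _ (by rw [smul_smul k k L₀]; exact hF (k * k)))
    exact dvd_of_fixed_line hZ (hL2 L₀.1 L₀.2.1 L₀.2.2) L₀.2.1 L₀.2.2 hK hKp hcent
      (fun k hk => hnorm ⟨k, hk⟩ L₀ (hall ⟨k, hk⟩))

end Cfsg.Agent.Lib.H14BG157pcD
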