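import Mathlib
import Cfsg.Prelude.Def_OddOrderLocal
import Cfsg.Agent.Lib.Helper24BG
import Cfsg.Agent.Lib.Helper3NarrowAut

/-!
PROJECT 157 (helper14): B-G 15.7 for `K ≠ 1`, `U = 1` (row S1383), piece `rank3`.
Sketches: notes/helper14/BG157.md.
-/

set_option autoImplicit false
set_option linter.unusedSectionVars false
set_option linter.unusedVariables false
open Cfsg

namespace Cfsg.Agent.Lib.H14BG157rank3

open Subgroup
open Cfsg.Agent.Lib Cfsg.Agent.Lib.Helper24BG

universe u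
variable {G : Type u} [Group G] [Finite G]

/-- PURE.  `k` a generator of `K`, `α = P.normalizerMonoidHom ⟨k, _⟩ : MulAut ↥P`; `orderOf α ∣ orderOf k ∣ |K|` is prime to `p`;
`Helper3NarrowAut.aut_pow`: `α ^ (p-1) = 1`, i.e. `k ^ (p-1)` centralises `P`, so `k ^ (p-1) = 1` (`hf`), `|K| = orderOf k ∣ p - 1`. -/
theorem rank3 {P K : Subgroup G} {p : ℕ} [Fact p.Prime] (hp2 : p ≠ 2) (hP : IsPGroup p P)
    (hK : K ≤ normalizer (P : Set G)) (hKc : IsCyclic K) (hKp : (Nat.card K).Coprime p)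
    (hf : ∀ k ∈ K, P ≤ centralizer ({k} : Set G) → k = 1)
    (hr : ¬ PRankLE p 2 ↥P) (hmax : Helper3NarrowAut.HasMaxSq p ↥P) : Nat.card K ∣ p - 1 := by
  obtain ⟨k, hk⟩ := hKc.exists_generator
  have hord : orderOf k = Nat.card K := orderOf_eq_card_of_forall_mem_zpowers hk
  let k' : ↥(normalizer (P : Set G)) := ⟨k, hK k.2⟩
  have hα : orderOf (P.normalizerMonoidHom k') ∣ Nat.card K := by
    rw [← hord]
    apply orderOf_dvd_of_pow_eq_one
    rw [← map_pow]
    have : k' ^ orderOf k = 1 := by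
      apply Subtype.ext
      have h1 : k ^ orderOf k = 1 := pow_orderOf_eq_one k
      have h2 : (k : G) ^ orderOf k = 1 := by
        rw [← Subgroup.coe_pow, h1, Subgroup.coe_one]
      exact h2
    rw [this, map_one]
  have h1 := Helper3NarrowAut.aut_pow hp2 hP hr hmax (P.normalizerMonoidHom k')
    (Nat.Coprime.coprime_dvd_left hα hKp)
  rw [← map_pow] at h1
  have h2 : (k : G) ^ (p - 1) = 1 := by
    apply hf _ (K.pow_mem k.2 _)
    intro y hy
    rw [mem_centralizer_iff]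
    intro w hw
    rw [Set.mem_singleton_iff] at hw
    rw [hw]
    have h3 := congrArg (fun f : MulAut ↥P => ((f ⟨y, hy⟩ : ↥P) : G)) h1
    simp only [MulAut.one_apply] at h3
    have h4 : ((P.normalizerMonoidHom (k' ^ (p - 1)) ⟨y, hy⟩ : ↥P) : G)
        = (k : G) ^ (p - 1) * y * ((k : G) ^ (p - 1))⁻¹ := rfl
    rw [h4] at h3
    calc (k : G) ^ (p - 1) * y = ((k : G) ^ (p - 1) * y * ((k : G) ^ (p - 1))⁻¹) * (k : G) ^ (p - 1) := by
          group
      _ = y * (k : G) ^ (p - 1) := by rw [h3]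
  rw [← hord]
  apply orderOf_dvd_of_pow_eq_one
  exact Subtype.ext h2

end Cfsg.Agent.Lib.H14BG157rank3
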