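import Cfsg.Agent.Lib.Helper14BG16
import Cfsg.Agent.Lib.Helper52BG14
import Cfsg.Agent.Lib.Helper56BG15nilsec
import Cfsg.Agent.Lib.Helper3BGNotuniq
import Cfsg.Agent.Lib.Helper3NarrowAut
import Cfsg.Agent.Lib.Helper30Coprime
import Cfsg.Agent.S1373
import Cfsg.Agent.S1374
import Cfsg.Agent.S1375
import Cfsg.Agent.S1412
import Cfsg.Agent.S1416
import Cfsg.Agent.S1420
import Cfsg.Agent.S1422

/-!
PROJECT 157 (helper14): B-G 15.7 for `K ≠ 1`, `U = 1` (row S1383), piece `sylG`.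
Sketches: notes/helper14/BG157.md.
-/

set_option autoImplicit false
set_option linter.unusedSectionVars false
set_option linter.unusedVariables false
open Cfsg

namespace Cfsg.Agent.Lib.H14BG157sylG

open Subgroup
open Cfsg.Agent.Lib Cfsg.Agent.Lib.Helper30Trans Cfsg.Agent.Lib.Helper24BG
open Cfsg.Agent.Lib.Helper51BG16 Cfsg.Agent.Lib.Helper14BG16

universe u
variable {G : Type u} [Group G] [Finite G]

/-- `p ∣ |M_σ|` so `p ∈ σ(M)` (`Helper2BGb.card_sigmaCore` / `Helper30BG2.card_sigmaCore`).  `M_σ` is a Hall `σ(M)`-subgroup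
of `M` (S1350 / `Helper2BGb`), so `P` is a Sylow `p`-subgroup of `M` (`Helper31BGS.isSyl_of_not_dvd_relIndex` or by orders), and
`Helper2BGb` (line 47: `IsSyl p P M → IsSyl p P ⊤` for `p ∈ σ(M)`). -/
theorem syl_top (hG : IsMinSimpleOddOrder G) {M : Subgroup G} (hM : IsCoatom M) {p : ℕ}
    [Fact p.Prime] {P : Subgroup G} (hP : IsSyl p P (sigmaCore M)) (hP1 : P ≠ ⊥) :
    IsSyl p P ⊤ := by
  have hp : p.Prime := Fact.out
  have hpd : p ∣ Nat.card (sigmaCore M) := by
    obtain ⟨n, hn⟩ := IsPGroup.iff_card.mp hP.2.1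
    have hn0 : n ≠ 0 := by
      rintro rfl
      rw [pow_zero] at hn
      exact hP1 (card_eq_one.mp hn)
    exact ((dvd_pow_self p hn0).trans hn.symm.dvd).trans (card_dvd_of_le hP.1)
  have hs : p ∈ sigma M := Helper2BGb.card_sigmaCore M p hp hpd
  have hM' : IsSyl p P M := Helper31BGS.isSyl_of_not_dvd_relIndex hP (Helper2BGb.sigmaCore_le M)
    ((Cfsg.Agent.S1350.result hG M hM).1.2.2 p hp hs)
  exact Helper2BGb.sigma_syl_top hs hM'

end Cfsg.Agent.Lib.H14BG157sylG
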