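import Mathlib
import Cfsg.Prelude.Def_OddOrderLocal
import Cfsg.Agent.Lib.Helper24BG
import Cfsg.Agent.Lib.Helper30Coprime

/-!
PROJECT 157 (helper14): B-G 15.7 for `K ≠ 1`, `U = 1` (row S1383), piece `zcent`.
Sketches: notes/helper14/BG157.md.
-/

set_option autoImplicit false
set_option linter.unusedSectionVars false
set_option linter.unusedVariables false
open Cfsg

namespace Cfsg.Agent.Lib.H14BG157zcent

open Subgroup
open Cfsg.Agent.Lib Cfsg.Agent.Lib.Helper24BG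

universe u
variable {G : Type u} [Group G] [Finite G]

/-- PURE.  Every `k ∈ K` commutes with `z` (`z ∈ Ks = P ⊓ C(k)` for `k ≠ 1`), hence with all `w ∈ Z(P)`, `w ^ p = 1` (`hzall`).
`K` normalises `Z(P) = P ⊓ C(P)`.  `Helper30Coprime.centralizes_of_fix_order_p p hp2 K hKp (P ⊓ C(P))`: `K` centralises `Z(P)`.
Take `1 ≠ k ∈ K`: `Z(P) ≤ P ⊓ C(k) = Ks`, so `|Z(P)| ∣ p`, and `z ∈ Z(P)` has order `p`. -/
theorem card_center {P K Ks : Subgroup G} {p : ℕ} [Fact p.Prime] (hp2 : p ≠ 2) (hP : IsPGroup p P)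
    (hK : K ≤ normalizer (P : Set G)) (hKp : (Nat.card K).Coprime p) (hK1 : K ≠ ⊥)
    (hKs : Nat.card Ks = p)
    (hcent : ∀ k ∈ K, k ≠ 1 → P ⊓ centralizer ({k} : Set G) = Ks)
    {z : G} (hz : orderOf z = p) (hzZ : z ∈ P ⊓ centralizer (P : Set G))
    (hzall : ∀ w ∈ P ⊓ centralizer (P : Set G), w ^ p = 1 → w ∈ zpowers z) (hzKs : z ∈ Ks) :
    Nat.card ↥(P ⊓ centralizer (P : Set G)) = p := by
  set Z : Subgroup G := P ⊓ centralizer (P : Set G) with hZdef
  have hZp : IsPGroup p Z := hP.to_le inf_le_left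
  have hstep : ∀ k : G, k ∈ normalizer (P : Set G) → ∀ y ∈ Z, k * y * k⁻¹ ∈ Z := by
    intro k hk y hy
    obtain ⟨hy1, hy2⟩ := Subgroup.mem_inf.mp hy
    refine Subgroup.mem_inf.mpr ⟨(Subgroup.mem_normalizer_iff.mp hk y).mp hy1, ?_⟩
    rw [Subgroup.mem_centralizer_iff] at hy2 ⊢
    intro h hh
    have hk' : k⁻¹ ∈ normalizer (P : Set G) := Subgroup.inv_mem _ hk
    have h1 : k⁻¹ * h * k⁻¹⁻¹ ∈ P := (Subgroup.mem_normalizer_iff.mp hk' h).mp hh
    have h2 := hy2 _ h1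
    rw [inv_inv] at h2
    calc h * (k * y * k⁻¹) = k * ((k⁻¹ * h * k) * y) * k⁻¹ := by group
      _ = k * (y * (k⁻¹ * h * k)) * k⁻¹ := by rw [h2]
      _ = k * y * k⁻¹ * h := by group
  have hKZ : K ≤ normalizer (Z : Set G) := by
    intro k hk
    rw [Subgroup.mem_normalizer_iff]
    intro y
    constructor
    · exact hstep k (hK hk) y
    · intro hy
      have := hstep k⁻¹ (Subgroup.inv_mem _ (hK hk)) _ hy
      have h2 : k⁻¹ * (k * y * k⁻¹) * k⁻¹⁻¹ = y := by group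
      rwa [h2] at this
  have hkz : ∀ k ∈ K, k * z = z * k := by
    intro k hk
    by_cases hk1 : k = 1
    · subst hk1; simp
    · have h1 : z ∈ P ⊓ centralizer ({k} : Set G) := by rw [hcent k hk hk1]; exact hzKs
      have h2 := (Subgroup.mem_inf.mp h1).2
      rw [Subgroup.mem_centralizer_iff] at h2
      exact h2 k rfl
  have hfix : ∀ a ∈ K, ∀ x ∈ Z, x ^ p = 1 → a * x * a⁻¹ = x := by
    intro a ha x hx hxp
    obtain ⟨n, hn⟩ := Subgroup.mem_zpowers_iff.mp (hzall x hx hxp)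
    have hc : Commute a z := hkz a ha
    have hc2 : Commute a (z ^ n) := hc.zpow_right n
    rw [← hn, hc2.eq, mul_inv_cancel_right]
  have hall := Helper30Coprime.centralizes_of_fix_order_p p hp2 K hKp Z hZp hKZ hfix
  obtain ⟨k, hk, hk1⟩ : ∃ k ∈ K, k ≠ 1 := by
    by_contra hcon
    push_neg at hcon
    exact hK1 ((Subgroup.eq_bot_iff_forall K).mpr hcon)
  have hle : Z ≤ Ks := by
    rw [← hcent k hk hk1]
    intro x hx
    refine Subgroup.mem_inf.mpr ⟨(Subgroup.mem_inf.mp hx).1, ?_⟩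
    rw [Subgroup.mem_centralizer_iff]
    intro y hy
    rw [Set.mem_singleton_iff] at hy
    subst hy
    have := hall y hk x hx
    have h2 := congrArg (· * y) this
    simpa using h2
  have h1 : Nat.card Z ∣ p := by
    rw [← hKs]; exact Subgroup.card_dvd_of_le hle
  have h2 : p ∣ Nat.card Z := by
    rw [← hz]; exact Subgroup.orderOf_dvd_natCard Z hzZ
  exact Nat.dvd_antisymm h1 h2

end Cfsg.Agent.Lib.H14BG157zcent
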