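import Cfsg.Agent.Lib.H16A2Defs
import Cfsg.Agent.Lib.H16AltDefs
import Cfsg.Agent.S4337

set_option autoImplicit false

namespace Cfsg.Agent.Lib.H16A2Lgen

open Cfsg Subgroup Equiv Equiv.Perm Cfsg.Agent.Lib.H16A2Defs Cfsg.Agent.Lib.H16AltDefs

/-- PIECE Lgen.  A perfect group has only the trivial homomorphism into `Sym(α)`, `|α| ≤ 4`. -/
theorem hom_trivial {G : Type*} [Group G] (K : Subgroup G) (hperf : ⁅K, K⁆ = K) {α : Type*} [Fintype α]
    [DecidableEq α] (hα : Fintype.card α ≤ 4) (f : K →* Perm α) (k : K) : f k = 1 := by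
  have hsolv : Group.IsSolvable (Perm α) := Cfsg.Agent.S4337.solv_small α hα
  have hP : Group.IsPerfect ↥K := (Subgroup.isPerfect_iff).2 hperf
  have htop : ⁅(⊤ : Subgroup ↥K), ⊤⁆ = ⊤ := hP.commutator_eq_top
  have hle : ∀ m : ℕ, (⊤ : Subgroup ↥K).map f ≤ derivedSeries (Perm α) m := by
    intro m
    induction m with
    | zero => simp
    | succ m ih =>
      rw [derivedSeries_succ]
      calc (⊤ : Subgroup ↥K).map f = Subgroup.map f ⁅(⊤ : Subgroup ↥K), (⊤ : Subgroup ↥K)⁆ := by rw [htop]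
        _ = ⁅(⊤ : Subgroup ↥K).map f, (⊤ : Subgroup ↥K).map f⁆ := Subgroup.map_commutator _ _ f
        _ ≤ _ := commutator_mono ih ih
  obtain ⟨m, hm⟩ := hsolv.solvable
  have h1 : f k ∈ (⊤ : Subgroup ↥K).map f := mem_map_of_mem f (mem_top k)
  have h2 := hle m h1
  rw [hm, mem_bot] at h2
  exact h2

end Cfsg.Agent.Lib.H16A2Lgen
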