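import Cfsg.Agent.Lib.H16A2Defs
import Cfsg.Agent.Lib.H16AltDefs
import Cfsg.Agent.Lib.H16A2Lgen

set_option autoImplicit false

namespace Cfsg.Agent.Lib.H16A2L4

open Cfsg Subgroup Equiv Equiv.Perm Cfsg.Agent.Lib.H16A2Defs Cfsg.Agent.Lib.H16AltDefs

/-- PIECE L4.  A perfect permutation group stabilizing a set `Δ` with at most 4 points fixes every point of `Δ`. -/
theorem triv_on {n : ℕ} (K : Subgroup (Perm (Fin n))) (hperf : ⁅K, K⁆ = K) (Δ : Finset (Fin n))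
    (hcard : Δ.card ≤ 4) (hinv : ∀ k ∈ K, Fix k Δ) : ∀ k ∈ K, ∀ x ∈ Δ, k x = x := by
  let f : K →* Perm {x // x ∈ Δ} :=
    { toFun := fun k => (k : Perm (Fin n)).subtypePerm (fun x => (hinv k.1 k.2 x).symm)
      map_one' := by ext x; rfl
      map_mul' := by intro a b; ext x; rfl }
  intro k hk x hx
  have h1 := Cfsg.Agent.Lib.H16A2Lgen.hom_trivial K hperf (α := {x // x ∈ Δ})
    (by rw [Fintype.card_coe]; exact hcard) f ⟨k, hk⟩
  have h2 := congrArg (fun σ : Perm {x // x ∈ Δ} => ((σ ⟨x, hx⟩ : {x // x ∈ Δ}) : Fin n)) h1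
  simpa [f] using h2

end Cfsg.Agent.Lib.H16A2L4
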