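import Cfsg.Agent.Lib.H16A2Defs
import Cfsg.Agent.Lib.H16AltDefs
import Cfsg.Agent.Lib.H16A2L4
import Cfsg.Agent.Lib.H16A2Out

set_option autoImplicit false

namespace Cfsg.Agent.Lib.H16A2Big

open Cfsg Subgroup Equiv Equiv.Perm Cfsg.Agent.Lib.H16A2Defs Cfsg.Agent.Lib.H16AltDefs

/-- the moved points of a product of two disjoint transpositions. -/
theorem moved_iff {n : ℕ} {p q r s : Fin n} (hpq : p ≠ q) (hpr : p ≠ r) (hps : p ≠ s) (hqr : q ≠ r)
    (hqs : q ≠ s) (hrs : r ≠ s) (x : Fin n) :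
    x ∈ ({p, q, r, s} : Finset (Fin n)) ↔ (swap p q * swap r s) x ≠ x := by
  simp only [Finset.mem_insert, Finset.mem_singleton, Perm.mul_apply]
  constructor
  · rintro (rfl | rfl | rfl | rfl)
    · rw [swap_apply_of_ne_of_ne hpr hps, swap_apply_left]; exact hpq.symm
    · rw [swap_apply_of_ne_of_ne hqr hqs, swap_apply_right]; exact hpq
    · rw [swap_apply_left, swap_apply_of_ne_of_ne hps.symm hqs.symm]; exact hrs.symm
    · rw [swap_apply_right, swap_apply_of_ne_of_ne hpr.symm hqr.symm]; exact hrs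
  · intro h
    by_contra hc
    push Not at hc
    obtain ⟨h1, h2, h3, h4⟩ := hc
    apply h
    rw [swap_apply_of_ne_of_ne h3 h4, swap_apply_of_ne_of_ne h1 h2]

/-- PIECE Big. -/
theorem big_false {n k : ℕ} {H : Subgroup (Perm (Fin n))} (K : Subgroup (Perm (Fin n))) (hperf : ⁅K, K⁆ = K)
    (hne : K ≠ ⊥) {a b : Fin k → Fin n} (hP : Pairs H k a b) (hk : 2 ≤ k)
    (hcomm : ∀ i j, i ≠ j → ∀ κ ∈ K, (swap (a i) (b i) * swap (a j) (b j)) * κ =
      κ * (swap (a i) (b i) * swap (a j) (b j))) : False := by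
  apply hne
  rw [Subgroup.eq_bot_iff_forall]
  intro κ hκ
  have key : ∀ i : Fin k, ∀ κ ∈ K, κ (a i) = a i ∧ κ (b i) = b i := by
    intro i
    obtain ⟨j, hj⟩ : ∃ j : Fin k, j ≠ i := by
      by_cases hi : i.1 = 0
      · exact ⟨⟨1, by omega⟩, fun h => by have := congrArg Fin.val h; simp at this; omega⟩
      · exact ⟨⟨0, by omega⟩, fun h => by have := congrArg Fin.val h; simp at this; omega⟩
    have hmv := moved_iff (hP.ne i i) (fun h => hj (hP.inja h).symm) (hP.ne i j)
      (fun h => hP.ne j i h.symm) (fun h => hj (hP.injb h).symm) (hP.ne j j)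
    have hfix : ∀ κ ∈ K, Fix κ ({a i, b i, a j, b j} : Finset (Fin n)) := by
      intro κ hκ x
      rw [hmv x, hmv (κ x)]
      have h1 : (swap (a i) (b i) * swap (a j) (b j)) (κ x)
          = κ ((swap (a i) (b i) * swap (a j) (b j)) x) := by
        have := congrArg (fun f : Perm (Fin n) => f x) (hcomm i j hj.symm κ hκ)
        simpa [Perm.mul_apply] using this
      rw [h1]
      exact (κ.injective.ne_iff).symm
    have hcard : ({a i, b i, a j, b j} : Finset (Fin n)).card ≤ 4 := Finset.card_le_four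
    have ht := H16A2L4.triv_on K hperf _ hcard hfix
    intro κ hκ
    exact ⟨ht κ hκ _ (by simp), ht κ hκ _ (by simp)⟩
  exact H16A2Out.eq_one_of_fix hP κ (fun i => (key i κ hκ).1) (fun i => (key i κ hκ).2)

end Cfsg.Agent.Lib.H16A2Big
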