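import Cfsg.Agent.Lib.H16A2Defs
import Cfsg.Agent.Lib.H16AltDefs
import Cfsg.Agent.Lib.H16A2L4

set_option autoImplicit false

namespace Cfsg.Agent.Lib.H16A2Cen3

open Cfsg Subgroup Equiv Equiv.Perm Cfsg.Agent.Lib.H16A2Defs Cfsg.Agent.Lib.H16AltDefs

theorem three_not_central {n : ℕ} {H K : Subgroup (Perm (Fin n))} (hQS : QS H K) (c : Perm (Fin n))
    (hcH : c ∈ H) (h3 : c.IsThreeCycle) : ¬ ∀ k ∈ K, c * k = k * c := by
  intro hcomm
  have hcK : c ∈ K := hQS.cent c hcH hcomm
  have hinv : ∀ k ∈ K, Fix k c.support := by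
    intro k hk x
    rw [Perm.mem_support, Perm.mem_support]
    have h1 : c (k x) = k (c x) := by
      have := congrArg (fun f : Perm (Fin n) => f x) (hcomm k hk)
      simpa [Perm.mul_apply] using this
    rw [h1]
    exact (k.injective.ne_iff).symm
  have hcard : c.support.card = 3 := h3.card_support
  have htriv := H16A2L4.triv_on K hQS.perf c.support (by omega) hinv c hcK
  have hne : c.support.Nonempty := by
    rw [← Finset.card_pos]; omega
  obtain ⟨x, hx⟩ := hne
  exact (Perm.mem_support.mp hx) (htriv x hx)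

end Cfsg.Agent.Lib.H16A2Cen3
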