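import Cfsg.Agent.Lib.H16A2Defs
import Cfsg.Agent.Lib.H16AltDefs
import Cfsg.Agent.Lib.H16A2L4

set_option autoImplicit false

namespace Cfsg.Agent.Lib.H16A2KX

open Cfsg Subgroup Equiv Equiv.Perm Cfsg.Agent.Lib.H16A2Defs Cfsg.Agent.Lib.H16AltDefs

/-- PIECE KX. -/
theorem not_fix {n : ℕ} {H K : Subgroup (Perm (Fin n))} (hQS : QS H K) {S : Finset (Fin n)} (hS : Vset H S)
    (hfix : ∀ k ∈ K, Fix k S) : False := by
  have htriv := Cfsg.Agent.Lib.H16A2L4.triv_on K hQS.perf S (le_of_eq hS.1) hfix
  obtain ⟨a, T, haT, rfl, hT⟩ := Finset.card_eq_succ.1 hS.1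
  obtain ⟨b, c, e, hbc, hbe, hce, rfl⟩ := Finset.card_eq_three.1 hT
  simp only [Finset.mem_insert, Finset.mem_singleton, not_or] at haT
  obtain ⟨hab, hac, hae⟩ := haT
  have hv : swap a b * swap c e ∈ H := hS.2 a b c e (by simp) (by simp) (by simp) (by simp) hab hac hae hbc hbe hce
  have hcomm : ∀ k ∈ K, (swap a b * swap c e) * k = k * (swap a b * swap c e) := by
    intro k hk
    have hka := htriv k hk a (by simp)
    have hkb := htriv k hk b (by simp)
    have hkc := htriv k hk c (by simp)
    have hke := htriv k hk e (by simp)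
    have h1 : swap a b * k = k * swap a b := by
      have := Equiv.swap_apply_apply k a b
      rw [hka, hkb] at this
      calc swap a b * k = (k * swap a b * k⁻¹) * k := by rw [← this]
        _ = k * swap a b := by group
    have h2 : swap c e * k = k * swap c e := by
      have := Equiv.swap_apply_apply k c e
      rw [hkc, hke] at this
      calc swap c e * k = (k * swap c e * k⁻¹) * k := by rw [← this]
        _ = k * swap c e := by group
    rw [mul_assoc, h2, ← mul_assoc, h1, mul_assoc]
  have hvK := hQS.cent _ hv hcomm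
  have h3 := htriv _ hvK a (by simp)
  rw [Perm.mul_apply, swap_apply_of_ne_of_ne hac hae, swap_apply_left] at h3
  exact hab h3.symm

end Cfsg.Agent.Lib.H16A2KX
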