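import Cfsg.Agent.Lib.H16A2Defs
import Cfsg.Agent.Lib.H16AltDefs
import Cfsg.Agent.Lib.H16A2Lgen

set_option autoImplicit false

namespace Cfsg.Agent.Lib.H16A2LP

open Cfsg Subgroup Equiv Equiv.Perm Cfsg.Agent.Lib.H16A2Defs Cfsg.Agent.Lib.H16AltDefs

/-- PIECE LP.  A perfect group `K` commuting with `z = (a0 b0)(a1 b1)(a2 b2)(a3 b3)` stabilizes each pair `{a i, b i}`.
For `k ∈ K`: `z (k (a i)) = k (z (a i)) = k (b i) ≠ k (a i)`, so `k (a i)` is moved by `z`, so `k (a i) ∈ {a j, b j}` for a unique `j =: φ k i`;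
then `k (b i) = z (k (a i))` is the other point of the pair `j`.  `φ` is an action of `K` on `Fin 4`
(`φ 1 i = i`, `φ (k k') i = φ k (φ k' i)`): a `MulAction ↥K (Fin 4)`, `MulAction.toPermHom`; by `H16A2Lgen.hom_trivial` it is trivial: `φ k i = i`.
So `k` maps `{a i, b i}` into itself for all `k ∈ K` (also `k⁻¹`), which gives `Fix`. -/
theorem pairs_fixed {n : ℕ} (K : Subgroup (Perm (Fin n))) (hperf : ⁅K, K⁆ = K) (a b : Fin 4 → Fin n)
    (inja : Function.Injective a) (injb : Function.Injective b) (hne : ∀ i j, a i ≠ b j)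
    (z : Perm (Fin n)) (hza : ∀ i, z (a i) = b i) (hzb : ∀ i, z (b i) = a i)
    (hz : ∀ x, (∀ i, x ≠ a i ∧ x ≠ b i) → z x = x) (hcomm : ∀ k ∈ K, z * k = k * z) :
    ∀ k ∈ K, ∀ i, Fix k ({a i, b i} : Finset (Fin n)) := by
  classical
  have hex : ∀ x : Fin n, ∃ j : Fin 4, (∃ i, x = a i ∨ x = b i) → (x = a j ∨ x = b j) := by
    intro x
    by_cases h : ∃ i, x = a i ∨ x = b i
    · obtain ⟨i, hi⟩ := h
      exact ⟨i, fun _ => hi⟩
    · exact ⟨0, fun h' => absurd h' h⟩
  choose idx hidx using hex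
  have idx_a : ∀ i, idx (a i) = i := by
    intro i
    rcases hidx (a i) ⟨i, Or.inl rfl⟩ with h | h
    · exact (inja h).symm
    · exact absurd h (hne _ _)
  have idx_b : ∀ i, idx (b i) = i := by
    intro i
    rcases hidx (b i) ⟨i, Or.inr rfl⟩ with h | h
    · exact absurd h.symm (hne _ _)
    · exact (injb h).symm
  have hmv : ∀ k ∈ K, ∀ i, ∃ j, (k (a i) = a j ∧ k (b i) = b j) ∨ (k (a i) = b j ∧ k (b i) = a j) := by
    intro k hk i
    have h1 : z (k (a i)) = k (b i) := by
      have := congrArg (fun f : Perm (Fin n) => f (a i)) (hcomm k hk)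
      simpa [hza] using this
    have h2 : ∃ j, k (a i) = a j ∨ k (a i) = b j := by
      by_contra hcon
      push Not at hcon
      have := hz (k (a i)) hcon
      rw [h1] at this
      exact hne i i (k.injective this).symm
    obtain ⟨j, hj | hj⟩ := h2
    · exact ⟨j, Or.inl ⟨hj, by rw [← h1, hj, hza]⟩⟩
    · exact ⟨j, Or.inr ⟨hj, by rw [← h1, hj, hzb]⟩⟩
  let act : MulAction K (Fin 4) :=
    { smul := fun k i => idx ((k : Perm (Fin n)) (a i))
      one_smul := fun i => by
        show idx (((1 : K) : Perm (Fin n)) (a i)) = i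
        simp [idx_a]
      mul_smul := fun k k' i => by
        show idx (((k * k' : K) : Perm (Fin n)) (a i))
          = idx ((k : Perm (Fin n)) (a (idx ((k' : Perm (Fin n)) (a i)))))
        obtain ⟨j, ⟨h1, h2⟩ | ⟨h1, h2⟩⟩ := hmv k' k'.2 i
        · simp [h1, idx_a]
        · obtain ⟨l, ⟨h3, h4⟩ | ⟨h3, h4⟩⟩ := hmv k k.2 j
          · simp [h1, idx_b, h3, h4, idx_a]
          · simp [h1, idx_b, h3, h4, idx_a] }
  have htriv : ∀ k : K, ∀ i, idx ((k : Perm (Fin n)) (a i)) = i := by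
    intro k i
    have := H16A2Lgen.hom_trivial K hperf (α := Fin 4) (by simp) (MulAction.toPermHom K (Fin 4)) k
    have h2 := congrArg (fun f : Perm (Fin 4) => f i) this
    exact h2
  have hfw : ∀ k ∈ K, ∀ i x, x ∈ ({a i, b i} : Finset (Fin n)) →
      k x ∈ ({a i, b i} : Finset (Fin n)) := by
    intro k hk i x hx
    have ht := htriv ⟨k, hk⟩ i
    simp only [Finset.mem_insert, Finset.mem_singleton] at hx ⊢
    obtain ⟨j, ⟨h1, h2⟩ | ⟨h1, h2⟩⟩ := hmv k hk i
    · have : j = i := by simpa [h1, idx_a] using ht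
      subst this
      rcases hx with rfl | rfl
      · exact Or.inl h1
      · exact Or.inr h2
    · have : j = i := by simpa [h1, idx_b] using ht
      subst this
      rcases hx with rfl | rfl
      · exact Or.inr h1
      · exact Or.inl h2
  intro k hk i x
  refine ⟨hfw k hk i x, fun h => ?_⟩
  have := hfw k⁻¹ (K.inv_mem hk) i _ h
  simpa using this

end Cfsg.Agent.Lib.H16A2LP
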