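import Cfsg.Agent.Lib.H16A2Defs
import Cfsg.Agent.Lib.H16AltDefs
import Cfsg.Agent.Lib.H16A2LP
import Cfsg.Agent.Lib.H16A2L4
import Cfsg.Agent.Lib.H16A2Z
import Cfsg.Agent.Lib.H16A2Out

set_option autoImplicit false

namespace Cfsg.Agent.Lib.H16A2Small

open Cfsg Subgroup Equiv Equiv.Perm Cfsg.Agent.Lib.H16A2Defs Cfsg.Agent.Lib.H16AltDefs

/-- PIECE Small.  `H16A2LP.pairs_fixed` (with `z = zz a b`, values from `H16A2Z`) : every `κ ∈ K` stabilizes each `{a i, b i}`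
(card ≤ 2: `Finset.card_le_two`/`Finset.card_insert_le`); `H16A2L4.triv_on`: `κ` fixes `a i` and `b i`; `H16A2Out.eq_one_of_fix`: `κ = 1`.  So `K = ⊥`. -/
theorem small_false {n : ℕ} {H : Subgroup (Perm (Fin n))} (K : Subgroup (Perm (Fin n))) (hperf : ⁅K, K⁆ = K)
    (hne : K ≠ ⊥) {a b : Fin 4 → Fin n} (hP : Pairs H 4 a b)
    (hcomm : ∀ κ ∈ K, zz a b * κ = κ * zz a b) : False := by
  apply hne
  rw [eq_bot_iff]
  intro κ hκ
  have hfix := H16A2LP.pairs_fixed K hperf a b hP.inja hP.injb hP.ne (zz a b)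
    (H16A2Z.zz_a hP.inja hP.injb hP.ne) (H16A2Z.zz_b hP.inja hP.injb hP.ne)
    (fun x hx => H16A2Z.zz_out x hx) hcomm
  have htriv : ∀ i, ∀ k ∈ K, ∀ x ∈ ({a i, b i} : Finset (Fin n)), k x = x := by
    intro i
    apply H16A2L4.triv_on K hperf
    · exact le_trans Finset.card_le_two (by norm_num)
    · intro k hk
      exact hfix k hk i
  rw [Subgroup.mem_bot]
  apply H16A2Out.eq_one_of_fix hP κ
  · intro i
    exact htriv i κ hκ (a i) (by simp)
  · intro i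
    exact htriv i κ hκ (b i) (by simp)

end Cfsg.Agent.Lib.H16A2Small
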