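import Cfsg.Agent.Lib.H16A2Defs
import Cfsg.Agent.Lib.H16AltDefs
import Cfsg.Agent.Lib.H16AltQ
import Cfsg.Agent.Lib.H16A2XS
import Cfsg.Agent.Lib.H16A2KX
import Cfsg.Agent.Lib.H16A2Z
import Cfsg.Agent.Lib.H16A2ZX
import Cfsg.Agent.Lib.H16A2EX
import Cfsg.Agent.Lib.H16A2Small
import Cfsg.Agent.Lib.H16A2Big

set_option autoImplicit false

namespace Cfsg.Agent.Lib.H16A2Ex3

open Cfsg Subgroup Equiv Equiv.Perm Cfsg.Agent.Lib.H16A2Defs Cfsg.Agent.Lib.H16AltDefs Cfsg.Agent.Lib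

/-- ASSEMBLY (part I): `H` contains a 3-cycle. -/
theorem exists_three {n k : ℕ} {H K : Subgroup (Perm (Fin n))} (hQS : QS H K) {a b : Fin k → Fin n}
    (hP : Pairs H k a b) (hk : 4 ≤ k) (hV : ∃ S, Vset H S) : ∃ c ∈ H, c.IsThreeCycle := by
  by_contra hcon
  have hno : ∀ c ∈ H, ¬ c.IsThreeCycle := fun c hc h3 => hcon ⟨c, hc, h3⟩
  obtain ⟨X, X₀, hX, hX₀, hnorm, hcomm⟩ := H16A2XS.exists_X H
  have hXH : X ≤ H := fun x hx => ((hX x).1 hx).1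
  rcases H16AltQ.q_lemma hQS X hXH (fun κ hκ x hx => hnorm κ (hQS.le hκ) x hx) with h | h
  · have h1 : K ≤ X₀ := by
      calc K = ⁅K, K⁆ := hQS.perf.symm
        _ ≤ ⁅X, X⁆ := commutator_mono h h
        _ ≤ X₀ := hcomm
    obtain ⟨S, hS⟩ := hV
    exact H16A2KX.not_fix hQS hS (fun κ hκ => ((hX₀ κ).1 (h1 hκ)).2 S hS)
  · obtain rfl | h5 : k = 4 ∨ 5 ≤ k := by omega
    · have hz : zz a b ∈ X :=
        (hX _).2 ⟨H16A2Z.zz_mem hP, fun S hS => H16A2ZX.zz_fix_or_flip hno hP hS⟩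
      exact H16A2Small.small_false K hQS.perf hQS.ne hP (h.2 _ hz)
    · refine H16A2Big.big_false K hQS.perf hQS.ne hP (by omega) (fun i j hij => ?_)
      have hm : swap (a i) (b i) * swap (a j) (b j) ∈ X :=
        (hX _).2 ⟨hP.mem i j hij, fun S hS => Or.inl (H16A2EX.pair_fix hno hP h5 hS i j hij)⟩
      exact h.2 _ hm

end Cfsg.Agent.Lib.H16A2Ex3
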