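import Cfsg.Agent.Lib.H16AltDefs
import Cfsg.Agent.Lib.H16AltIso
import Cfsg.Agent.S4337

set_option autoImplicit false

namespace Cfsg.Agent.Lib.H16AltSolv

open Cfsg Subgroup Equiv Equiv.Perm Cfsg.Agent.Lib.H16AltDefs

/-- PIECE Solv.  A nontrivial perfect subgroup of `A Δ` forces `|Δ| ≥ 5`. -/
theorem card_ge {n : ℕ} {Δ : Finset (Fin n)} (K : Subgroup (Perm (Fin n))) (hperf : ⁅K, K⁆ = K)
    (hne : K ≠ ⊥) (hle : K ≤ A Δ) : 5 ≤ Δ.card := by
  by_contra hcon
  push Not at hcon
  obtain ⟨e⟩ := Cfsg.Agent.Lib.H16AltIso.iso Δ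
  have h1 : Group.IsSolvable (Perm (Fin Δ.card)) :=
    Cfsg.Agent.S4337.solv_small (Fin Δ.card) (by simp; omega)
  have h2 : Group.IsSolvable (alternatingGroup (Fin Δ.card)) := inferInstance
  have h3 : Group.IsSolvable (A Δ) :=
    Group.isSolvable_of_isSolvable_injective (f := e.toMonoidHom) e.injective
  have h4 : Group.IsSolvable K :=
    Group.isSolvable_of_isSolvable_injective (f := Subgroup.inclusion hle)
      (Subgroup.inclusion_injective hle)
  have hnt : Nontrivial K := (Subgroup.nontrivial_iff_ne_bot K).2 hne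
  have h5 := Group.IsSolvable.commutator_lt_top_of_nontrivial K
  apply h5.ne
  apply Subgroup.map_injective K.subtype_injective
  rw [Subgroup.map_subtype_commutator, hperf, ← MonoidHom.range_eq_map, Subgroup.range_subtype]

end Cfsg.Agent.Lib.H16AltSolv
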