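import Cfsg.Agent.Lib.H16ThGDefs

set_option autoImplicit false

namespace Cfsg.Agent.Lib.H16ThGU

open Cfsg Subgroup Cfsg.Agent.Lib.H16ThDefs Cfsg.Agent.Lib.H16ThGDefs
open scoped commutatorElement

theorem fpf_abstract {G V : Type*} [Group G] [Finite G] [Group.IsSolvable G] [Group V] [Finite V]
    (φ : G →* MulAut V) (h2 : ∀ v : V, v ^ 2 = 1)
    (htr : ∀ v w : V, v ≠ 1 → w ≠ 1 → ∃ g : G, φ g v = w)
    (hcard : ∃ v w : V, v ≠ 1 ∧ w ≠ 1 ∧ v ≠ w) :
    ∃ u : G, Odd (orderOf u) ∧ ∀ v : V, φ u v = v → v = 1 := by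
  classical
  have hinv : ∀ x : V, x⁻¹ = x := fun x => by
    rw [inv_eq_iff_mul_eq_one, ← pow_two, h2]
  have hcomm : ∀ v w : V, v * w = w * v := by
    intro v w
    calc v * w = (v * w)⁻¹ := (hinv _).symm
      _ = w⁻¹ * v⁻¹ := mul_inv_rev _ _
      _ = w * v := by rw [hinv, hinv]
  have hC : Std.Commutative (α := V) (· * ·) := ⟨hcomm⟩
  have hsq : ∀ x : V, x * x = 1 := fun x => by rw [← pow_two, h2]
  obtain ⟨n, hn⟩ := Group.IsSolvable.solvable (G := G)
  have hex : ∃ k, derivedSeries G k ≤ φ.ker := ⟨n, by rw [hn]; exact bot_le⟩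
  have hk1 : derivedSeries G (Nat.find hex) ≤ φ.ker := Nat.find_spec hex
  have hk0 : Nat.find hex ≠ 0 := by
    intro h0
    rw [h0, derivedSeries_zero] at hk1
    obtain ⟨v, w, hv, hw, hvw⟩ := hcard
    obtain ⟨g, hg⟩ := htr v w hv hw
    have h1 : φ g = 1 := hk1 (mem_top g)
    rw [h1] at hg
    exact hvw hg
  obtain ⟨j, hj⟩ := Nat.exists_eq_succ_of_ne_zero hk0
  have hYn : ¬ derivedSeries G j ≤ φ.ker := Nat.find_min hex (by omega)
  rw [hj, Nat.succ_eq_add_one, derivedSeries_succ] at hk1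
  have hYnorm : (derivedSeries G j).Normal := inferInstance
  generalize derivedSeries G j = Y at hk1 hYn hYnorm
  have hcommY : ∀ a ∈ Y, ∀ b ∈ Y, ∀ v, φ a (φ b v) = φ b (φ a v) := by
    intro a ha b hb v
    have h : φ ⁅a, b⁆ = 1 := hk1 (commutator_mem_commutator ha hb)
    have e : a * b = ⁅a, b⁆ * (b * a) := by rw [commutatorElement_def]; group
    rw [← MulAut.mul_apply, ← map_mul, e, map_mul, h, one_mul, map_mul, MulAut.mul_apply]
  have hfix0 : ∀ v, (∀ y ∈ Y, φ y v = v) → v = 1 := by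
    intro v hv
    by_contra hv1
    apply hYn
    intro y hy
    rw [MonoidHom.mem_ker]
    ext w
    by_cases hw : w = 1
    · rw [hw]; simp
    · obtain ⟨g, rfl⟩ := htr v w hv1 hw
      have hc : g⁻¹ * y * g ∈ Y := by simpa using hYnorm.conj_mem y hy g⁻¹
      have h3 := hv _ hc
      have e : y * g = g * (g⁻¹ * y * g) := by group
      rw [MulAut.one_apply, ← MulAut.mul_apply, ← map_mul, e, map_mul, MulAut.mul_apply, h3]
  have hodd : ∃ u ∈ Y, Odd (orderOf u) ∧ φ u ≠ 1 := by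
    by_contra hcon
    push Not at hcon
    have hp : IsPGroup 2 (Y.map φ) := by
      rintro ⟨_, y, hy, rfl⟩
      obtain ⟨a, m, hm, hym⟩ := Nat.exists_eq_two_pow_mul_odd (orderOf_pos y).ne'
      refine ⟨a, ?_⟩
      apply Subtype.ext
      show (φ y) ^ (2 ^ a) = 1
      rw [← map_pow]
      apply hcon _ (Y.pow_mem hy _)
      rw [orderOf_pow_of_dvd (by positivity) (hym ▸ dvd_mul_right _ _), hym,
        Nat.mul_div_cancel_left _ (by positivity)]
      exact hm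
    have hdvd : 2 ∣ Nat.card V := by
      obtain ⟨v, _, hv, _⟩ := hcard
      have h : orderOf v = 2 := orderOf_eq_prime (h2 v) hv
      rw [← h]; exact orderOf_dvd_natCard v
    obtain ⟨b, hb, hb1⟩ := hp.exists_fixed_point_of_prime_dvd_card_of_fixed_point V hdvd (a := 1)
      (by
        intro g
        exact map_one g.1)
    exact hb1 (hfix0 b (fun y hy => hb ⟨φ y, y, hy, rfl⟩)).symm
  obtain ⟨u, huY, hum, hu1⟩ := hodd
  refine ⟨u, hum, ?_⟩
  have hstar : ∀ x : V, φ u (φ u x * x) = φ u x * x → φ u x * x = 1 := by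
    intro x hx
    generalize hw : φ u x * x = w at hx
    have hux : φ u x = w * x := by rw [← hw, mul_assoc, hsq, mul_one]
    have key : ∀ i : ℕ, φ (u ^ i) x = w ^ i * x := by
      intro i
      induction i with
      | zero => simp
      | succ i ih =>
        rw [pow_succ', map_mul, MulAut.mul_apply, ih, map_mul, map_pow, hx, hux, pow_succ, mul_assoc]
    have h := key (orderOf u)
    rw [pow_orderOf_eq_one, map_one, MulAut.one_apply] at h
    have hwm : w ^ orderOf u = 1 := by simpa using h.symm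
    obtain ⟨t, ht⟩ := hum
    rw [ht, pow_succ, pow_mul, h2, one_pow, one_mul] at hwm
    exact hwm
  intro z₁ hz₁
  by_contra hz₁1
  obtain ⟨z, hz⟩ : ∃ z, φ u z ≠ z := by
    by_contra hcon
    push Not at hcon
    exact hu1 (by ext v; exact hcon v)
  have hz₂1 : φ u z * z ≠ 1 := by
    intro h
    apply hz
    exact (eq_inv_of_mul_eq_one_left h).trans (hinv z)
  have hz₂u : φ u (φ u z * z) ≠ φ u z * z := fun h => hz₂1 (hstar z h)
  have h12 : z₁ * (φ u z * z) ≠ 1 := by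
    intro h
    have h3 : φ u z * z = z₁ := by
      rw [← hinv z₁]
      exact eq_inv_of_mul_eq_one_right h
    exact hz₂u (by rw [h3]; exact hz₁)
  obtain ⟨a, ha⟩ := htr z₁ (z₁ * (φ u z * z)) hz₁1 h12
  let S : V → Subgroup G := fun v => Y ⊓ (MulAction.stabilizer (MulAut V) v).comap φ
  have hS : ∀ v g, g ∈ S v ↔ g ∈ Y ∧ φ g v = v := fun v g => Iff.rfl
  have hle : S (z₁ * (φ u z * z)) ≤ S z₁ := by
    intro g hg
    obtain ⟨hgY, hg12⟩ := (hS _ _).1 hg
    refine (hS _ _).2 ⟨hgY, ?_⟩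
    rw [map_mul, map_mul, hcommY g hgY u huY] at hg12
    have hgz : φ g z₁ = z₁ * (φ u z * z) * (φ u (φ g z) * φ g z) := by
      rw [← hg12, mul_assoc, hsq, mul_one]
    have e1 : φ g z₁ * z₁ = φ u (z * φ g z) * (z * φ g z) := by
      rw [hgz, map_mul]
      have e2 : z₁ * (φ u z * z) * (φ u (φ g z) * φ g z) * z₁
          = (z₁ * z₁) * (φ u z * φ u (φ g z) * (z * φ g z)) := by ac_rfl
      rw [e2, hsq, one_mul]
    have e3 : φ u (φ g z₁ * z₁) = φ g z₁ * z₁ := by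
      rw [map_mul, ← hcommY g hgY u huY, hz₁]
    rw [e1] at e3
    have e4 := hstar _ e3
    rw [← e1] at e4
    exact (eq_inv_of_mul_eq_one_left e4).trans (hinv z₁)
  have hcardle : Nat.card (S z₁) ≤ Nat.card (S (z₁ * (φ u z * z))) := by
    refine Nat.card_le_card_of_injective
      (fun g : S z₁ => (⟨a * g.1 * a⁻¹, ?_⟩ : S (z₁ * (φ u z * z)))) ?_
    · obtain ⟨hgY, hgz⟩ := (hS _ _).1 g.2
      refine (hS _ _).2 ⟨hYnorm.conj_mem _ hgY a, ?_⟩
      rw [← ha, ← MulAut.mul_apply, ← map_mul, inv_mul_cancel_right, map_mul, MulAut.mul_apply, hgz]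
    · intro g g' h
      have h3 := congrArg Subtype.val h
      apply Subtype.ext
      simpa using h3
  have heq := Subgroup.eq_of_le_of_card_ge hle hcardle
  have huS : u ∈ S z₁ := (hS _ _).2 ⟨huY, hz₁⟩
  rw [← heq] at huS
  have h3 := ((hS _ _).1 huS).2
  rw [map_mul, hz₁] at h3
  exact hz₂u (mul_left_cancel h3)

/-- conjugation action of `A` on `Z` -/
def conjHom {H : Type*} [Group H] (Z A : Subgroup H)
    (hAZ : ∀ a ∈ A, ∀ z ∈ Z, a * z * a⁻¹ ∈ Z) : ↥A →* MulAut ↥Z where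
  toFun a :=
    { toFun := fun z => ⟨a * z * a⁻¹, hAZ a a.2 z z.2⟩
      invFun := fun z => ⟨a⁻¹ * z * a, by simpa using hAZ a⁻¹ (A.inv_mem a.2) z z.2⟩
      left_inv := fun z => Subtype.ext (by simp [mul_assoc])
      right_inv := fun z => Subtype.ext (by simp [mul_assoc])
      map_mul' := fun z w => Subtype.ext (by simp [mul_assoc]) }
  map_one' := by ext; simp
  map_mul' := fun a b => by ext; simp [mul_assoc]

theorem conjHom_apply {H : Type*} [Group H] (Z A : Subgroup H)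
    (hAZ : ∀ a ∈ A, ∀ z ∈ Z, a * z * a⁻¹ ∈ Z) (a : ↥A) (z : ↥Z) :
    ((conjHom Z A hAZ a z : ↥Z) : H) = a * z * a⁻¹ := rfl

/-- PIECE GU (Mathlib only).  A solvable group `A` acting (by conjugation) transitively on the
nontrivial elements of an elementary abelian 2-group `Z` of order `≥ 4` contains an element of odd
order without nontrivial fixed points on `Z`.
Proof.  `C = {a ∈ A | a centralizes Z}`.  `A ≰ C` (transitivity, two distinct nontrivial elements).  Let `Y` be the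
last term of the derived series of `A` (inside `H`: `(derivedSeries A k).map A.subtype`) not contained in `C`
(`A` is solvable as a subgroup of `H`): `Y` is normalized by `A`, `Y ≰ C`, `⁅Y,Y⁆ ≤ C`, so the actions of two
elements of `Y` on `Z` commute.
(1) some `u ∈ Y` of odd order is not in `C`: otherwise every `y ∈ Y` acts on `Z` as its 2-part, i.e. with
2-power order; a finite group of commuting... simpler: let `S` be a Sylow 2-subgroup of `Y`; every `y ∈ Y` is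
`y₂ y₂'` (powers of `y`), `y₂'∈ C`, and `y₂` is conjugate IN `Y` into `S`; `S` fixes some `1 ≠ z₀ ∈ Z` (2-group acting on
a set of even size with the fixed point 1).  As the actions of elements of `Y` on `Z` commute, conjugate elements of `Y`
act in the same way on `Z`, so all of `Y` fixes `z₀`.  `C_Z(Y)` is `A`-invariant, so by transitivity `Y` centralizes `Z`:
contradiction.
(2) `u` is fixed point free: let `Z₁ = C_Z(u)`, `Z₂ = {u z u⁻¹ z⁻¹ | z ∈ Z}` (subgroups, `Z` is abelian),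
`Z₁ ∩ Z₂ = 1` (norm map `z ↦ ∏_{i<m} u^i z u^{-i}`, `m = orderOf u` odd, kills `Z₂` and is `z ↦ z^m = z` on `Z₁`),
`Z₂ ≠ 1` as `u ∉ C`; both are invariant under `Y` (commuting actions).  Suppose `1 ≠ z₁ ∈ Z₁`, take `1 ≠ z₂ ∈ Z₂`.
`z₁ z₂ ≠ 1`.  If `g ∈ Y` fixes `z₁ z₂` then `(g z₁ g⁻¹) z₁⁻¹ = ((g z₂ g⁻¹) z₂⁻¹)⁻¹ ∈ Z₁ ∩ Z₂ = 1`; so
`C_Y(z₁ z₂) ≤ C_Y(z₁) ∩ C_Y(z₂)`, properly contained in `C_Y(z₁)` (`u` fixes `z₁`, not `z₂`).  But `z₁ z₂ = a z₁ a⁻¹`
for some `a ∈ A`, so `C_Y(z₁ z₂) = a C_Y(z₁) a⁻¹` has the same cardinality: contradiction. -/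
theorem exists_fpf {H : Type*} [Group H] [Finite H] (hs : Group.IsSolvable H) (Z A : Subgroup H)
    (hZ2 : ∀ z ∈ Z, z ^ 2 = 1) (hAZ : ∀ a ∈ A, ∀ z ∈ Z, a * z * a⁻¹ ∈ Z)
    (htr : ∀ z ∈ Z, z ≠ 1 → ∀ z' ∈ Z, z' ≠ 1 → ∃ a ∈ A, a * z * a⁻¹ = z')
    (hcard : ∃ z ∈ Z, ∃ z' ∈ Z, z ≠ 1 ∧ z' ≠ 1 ∧ z ≠ z') :
    ∃ u ∈ A, Odd (orderOf u) ∧ ∀ z ∈ Z, u * z * u⁻¹ = z → z = 1 := by
  have := hs
  obtain ⟨u, hu, hfix⟩ := fpf_abstract (conjHom Z A hAZ)
    (fun v => Subtype.ext (by simpa using hZ2 v v.2))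
    (fun v w hv hw => by
      obtain ⟨a, ha, haz⟩ := htr v v.2 (fun h => hv (Subtype.ext h)) w w.2
        (fun h => hw (Subtype.ext h))
      exact ⟨⟨a, ha⟩, Subtype.ext haz⟩)
    (by
      obtain ⟨z, hz, z', hz', h1, h2, h3⟩ := hcard
      exact ⟨⟨z, hz⟩, ⟨z', hz'⟩, fun h => h1 (congrArg Subtype.val h),
        fun h => h2 (congrArg Subtype.val h), fun h => h3 (congrArg Subtype.val h)⟩)
  refine ⟨u, u.2, by rwa [Subgroup.orderOf_coe], fun z hz huz => ?_⟩
  exact congrArg Subtype.val (hfix ⟨z, hz⟩ (Subtype.ext huz))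

end Cfsg.Agent.Lib.H16ThGU
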