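import Cfsg.Agent.Lib.Helper17E4Defs

/-!
PROJECT 5188 (row S5188, essential subgroups of order `p ^ 4`), piece Ab211.  See notes/helper17/E4/README.md.
-/

set_option autoImplicit false
set_option linter.unusedVariables false
set_option linter.unusedSectionVars false

namespace Cfsg.Agent.Lib.H17E4Ab211

open scoped commutatorElement
open Cfsg.Agent.Lib.Helper17E4Defs

/-- recognition of a direct product with a cyclic group -/
theorem prod_iso {G : Type*} [Group G] [Finite G] (E : Subgroup G) (z : G) (hz : ∀ e ∈ E, Commute e z)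
    (n : ℕ) (hn : orderOf z = n) (hdisj : ∀ w ∈ Subgroup.zpowers z, w ∈ E → w = 1)
    (hcard : Nat.card E * n = Nat.card G) :
    Nonempty (G ≃* E × Multiplicative (ZMod n)) := by
  subst hn
  have hcomm : ∀ (e : E) (w : Subgroup.zpowers z), Commute (E.subtype e) ((Subgroup.zpowers z).subtype w) := by
    rintro ⟨e, he⟩ ⟨w, hw⟩
    obtain ⟨k, rfl⟩ := Subgroup.mem_zpowers_iff.1 hw
    exact (hz e he).zpow_right k
  let f : E × Subgroup.zpowers z →* G := MonoidHom.noncommCoprod E.subtype (Subgroup.zpowers z).subtype hcomm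
  have hinj : Function.Injective f := by
    rw [injective_iff_map_eq_one]
    rintro ⟨⟨e, he⟩, ⟨w, hw⟩⟩ h
    have h1 : e * w = 1 := h
    have h2 : w = e⁻¹ := eq_inv_of_mul_eq_one_right h1
    have h3 : w = 1 := hdisj w hw (h2 ▸ E.inv_mem he)
    have h4 : e = 1 := by rw [h3, mul_one] at h1; exact h1
    subst h3 h4
    rfl
  have hbij : Function.Bijective f := by
    rw [Nat.bijective_iff_injective_and_card]
    refine ⟨hinj, ?_⟩
    rw [Nat.card_prod, Nat.card_zpowers, hcard]
  have e1 : E × Subgroup.zpowers z ≃* G := MulEquiv.ofBijective f hbij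
  have e2 : Multiplicative (ZMod (Nat.card (Subgroup.zpowers z))) ≃* Subgroup.zpowers z :=
    zmodCyclicMulEquiv inferInstance
  rw [Nat.card_zpowers] at e2
  exact ⟨e1.symm.trans (MulEquiv.prodCongr (MulEquiv.refl _) e2.symm)⟩

variable {p : ℕ} [hp : Fact p.Prime]

/-- a complement of a line in an elementary abelian group -/
theorem exists_compl {G : Type*} [Group G] [Finite G] (hab : ∀ a b : G, a * b = b * a)
    (hexp : ∀ x : G, x ^ p = 1) (y : G) (hy : y ≠ 1) :
    ∃ C : Subgroup G, y ∉ C ∧ Nat.card C * p = Nat.card G := by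
  have hpp := hp.out
  -- a subgroup of maximal order avoiding `y`
  obtain ⟨C, hC, hmax⟩ : ∃ C : Subgroup G, y ∉ C ∧ ∀ D : Subgroup G, y ∉ D → C ≤ D → D = C := by
    have hfin : Set.Finite {C : Subgroup G | y ∉ C} := Set.toFinite _
    obtain ⟨C, hC, hCm⟩ := hfin.exists_maximalFor (fun C => C) _ ⟨⊥, by simpa using hy⟩
    exact ⟨C, hC, fun D hD hCD => le_antisymm (hCm hD hCD) hCD⟩
  refine ⟨C, hC, ?_⟩
  have hoy : orderOf y = p := orderOf_eq_prime (hexp y) hy
  have hdisj : ∀ w ∈ Subgroup.zpowers y, w ∈ C → w = 1 := by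
    intro w hw hwC
    by_contra hw1
    have how : orderOf w = p := orderOf_eq_prime (hexp w) hw1
    have h1 : Subgroup.zpowers w = Subgroup.zpowers y := by
      apply Subgroup.eq_of_le_of_card_ge (Subgroup.zpowers_le.2 hw)
      rw [Nat.card_zpowers, Nat.card_zpowers, how, hoy]
    have h2 : y ∈ Subgroup.zpowers w := h1 ▸ Subgroup.mem_zpowers y
    exact hC (Subgroup.zpowers_le.2 hwC h2)
  have hmem_sup : ∀ (D : Subgroup G) (g x : G), x ∈ D ⊔ Subgroup.zpowers g → ∃ d ∈ D, ∃ k : ℤ, x = d * g ^ k := by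
    intro D g x hx
    have : (Subgroup.zpowers g).Normal := ⟨fun n hn g' => by rw [hab g' n, mul_inv_cancel_right]; exact hn⟩
    rw [Subgroup.mem_sup_of_normal_right] at hx
    obtain ⟨d, hd, w, hw, rfl⟩ := hx
    obtain ⟨k, rfl⟩ := Subgroup.mem_zpowers_iff.1 hw
    exact ⟨d, hd, k, rfl⟩
  have htop : C ⊔ Subgroup.zpowers y = ⊤ := by
    rw [eq_top_iff]
    intro g _
    by_contra hg
    have hgC : g ∉ C := fun h => hg (Subgroup.mem_sup_left h)
    have h1 : y ∈ C ⊔ Subgroup.zpowers g := by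
      by_contra h
      have := hmax _ h le_sup_left
      exact hgC (this ▸ Subgroup.mem_sup_right (Subgroup.mem_zpowers g))
    obtain ⟨c, hc, k, hk⟩ := hmem_sup C g y h1
    by_cases hpk : (p : ℤ) ∣ k
    · obtain ⟨m, rfl⟩ := hpk
      rw [zpow_mul, zpow_natCast, hexp, one_zpow, mul_one] at hk
      exact hC (hk ▸ hc)
    · have hcop : IsCoprime k (p : ℤ) := by
        rw [isCoprime_comm]
        exact (Nat.prime_iff_prime_int.1 hpp).coprime_iff_not_dvd.2 hpk
      obtain ⟨a, b, hab'⟩ := hcop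
      have h2 : g = (g ^ k) ^ a := by
        have : g ^ (a * k + b * p) = g := by rw [hab', zpow_one]
        rw [zpow_add, mul_comm b, zpow_mul g (p : ℤ), zpow_natCast, hexp, one_zpow, mul_one, mul_comm a,
          zpow_mul] at this
        exact this.symm
      have h3 : g ^ k = c⁻¹ * y := by rw [hk, inv_mul_cancel_left]
      apply hg
      rw [h2, h3]
      exact Subgroup.zpow_mem _ (Subgroup.mul_mem _ (Subgroup.mem_sup_left (C.inv_mem hc))
        (Subgroup.mem_sup_right (Subgroup.mem_zpowers y))) a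
  -- count
  have hcomm : ∀ (e : C) (w : Subgroup.zpowers y), Commute (C.subtype e) ((Subgroup.zpowers y).subtype w) :=
    fun e w => hab _ _
  let f : C × Subgroup.zpowers y →* G := MonoidHom.noncommCoprod C.subtype (Subgroup.zpowers y).subtype hcomm
  have hinj : Function.Injective f := by
    rw [injective_iff_map_eq_one]
    rintro ⟨⟨e, he⟩, ⟨w, hw⟩⟩ h
    have h1 : e * w = 1 := h
    have h2 : w = e⁻¹ := eq_inv_of_mul_eq_one_right h1
    have h3 : w = 1 := hdisj w hw (h2 ▸ C.inv_mem he)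
    have h4 : e = 1 := by rw [h3, mul_one] at h1; exact h1
    subst h3 h4
    rfl
  have hsurj : Function.Surjective f := by
    intro g
    obtain ⟨c, hc, k, hk⟩ := hmem_sup C y g (htop ▸ Subgroup.mem_top g)
    exact ⟨(⟨c, hc⟩, ⟨y ^ k, Subgroup.zpow_mem _ (Subgroup.mem_zpowers y) k⟩), hk.symm⟩
  have := Nat.card_congr (Equiv.ofBijective f ⟨hinj, hsurj⟩)
  rw [Nat.card_prod, Nat.card_zpowers, hoy] at this
  exact this

/-- an elementary abelian group of order `p ^ 2` -/
theorem iso_11 {G : Type*} [Group G] (hcard : Nat.card G = p ^ 2) (hab : ∀ a b : G, a * b = b * a)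
    (hexp : ∀ x : G, x ^ p = 1) : Nonempty (G ≃* Multiplicative (ZMod p) × Multiplicative (ZMod p)) := by
  have hpp := hp.out
  have hfin : Finite G := Nat.finite_of_card_ne_zero (by rw [hcard]; exact pow_ne_zero _ hpp.ne_zero)
  have hnt : Nontrivial G := by
    rw [← Finite.one_lt_card_iff_nontrivial, hcard]
    exact Nat.one_lt_pow (by norm_num) hpp.one_lt
  obtain ⟨y, hy⟩ := exists_ne (1 : G)
  obtain ⟨C, hyC, hC⟩ := exists_compl hab hexp y hy
  have hoy : orderOf y = p := orderOf_eq_prime (hexp y) hy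
  have hCc : Nat.card C = p := by
    rw [hcard, pow_two] at hC
    exact Nat.eq_of_mul_eq_mul_right hpp.pos hC
  have hdisj : ∀ w ∈ Subgroup.zpowers y, w ∈ C → w = 1 := by
    intro w hw hwC
    by_contra hw1
    have how : orderOf w = p := orderOf_eq_prime (hexp w) hw1
    have h1 : Subgroup.zpowers w = Subgroup.zpowers y := by
      apply Subgroup.eq_of_le_of_card_ge (Subgroup.zpowers_le.2 hw)
      rw [Nat.card_zpowers, Nat.card_zpowers, how, hoy]
    have h2 : y ∈ Subgroup.zpowers w := h1 ▸ Subgroup.mem_zpowers y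
    exact hyC (Subgroup.zpowers_le.2 hwC h2)
  obtain ⟨e⟩ := prod_iso C y (fun e _ => hab e y) p hoy hdisj hC
  have e2 : C ≃* Multiplicative (ZMod p) := mulEquivOfPrimeCardEq (p := p) hCc (by
    show Nat.card (ZMod p) = p
    exact Nat.card_zmod p)
  exact ⟨e.trans (MulEquiv.prodCongr e2 (MulEquiv.refl _))⟩

variable {P : Type*} [Group P]

theorem iso_211 (hcard : Nat.card P = p ^ 4) (hab : ∀ a b : P, a * b = b * a)
    (K : Subgroup P) (hK : ∀ x, x ∈ K ↔ x ^ p = 1) (hKc : Nat.card K = p ^ 3) :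
    Nonempty (P ≃* Multiplicative (ZMod (p ^ 2) × ZMod p × ZMod p)) := by
  have hpp := hp.out
  have hfin : Finite P := Nat.finite_of_card_ne_zero (by rw [hcard]; exact pow_ne_zero _ hpp.ne_zero)
  -- an element outside `K`
  obtain ⟨x, hx⟩ : ∃ x : P, x ∉ K := by
    by_contra h
    push Not at h
    have : K = ⊤ := eq_top_iff.2 fun x _ => h x
    rw [this, Subgroup.card_top, hcard] at hKc
    have := Nat.pow_right_injective hpp.two_le hKc
    omega
  -- the `p`-th power map
  let φ : P →* P :=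
    { toFun := fun g => g ^ p
      map_one' := one_pow p
      map_mul' := fun a b => (show Commute a b from hab a b).mul_pow p }
  have hker : φ.ker = K := by
    ext g
    rw [MonoidHom.mem_ker, hK]
    rfl
  have hrange : Nat.card φ.range = p := by
    have h1 := Subgroup.index_ker φ
    have h2 := Subgroup.card_mul_index φ.ker
    rw [hker] at h1 h2
    rw [hKc, hcard, h1] at h2
    have : p ^ 3 * Nat.card φ.range = p ^ 3 * p := by rw [h2]; ring
    exact Nat.eq_of_mul_eq_mul_left (pow_pos hpp.pos 3) this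
  set y : P := x ^ p with hy
  have hy1 : y ≠ 1 := fun h => hx ((hK x).2 h)
  have hyp : y ^ p = 1 := by
    have h1 : (⟨y, x, rfl⟩ : φ.range) ^ p = 1 := by
      rw [← hrange]
      exact pow_card_eq_one'
    exact congrArg Subtype.val h1
  have hyK : y ∈ K := (hK y).2 hyp
  have hox : orderOf x = p ^ 2 := by
    apply orderOf_eq_prime_pow (n := 1)
    · rw [pow_one]; exact hy1
    · rw [pow_succ, pow_one, pow_mul]; exact hyp
  -- the complement in `K`
  obtain ⟨C₀, hC₀, hC₀c⟩ := exists_compl (p := p) (G := K) (fun a b => Subtype.ext (hab a b))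
    (fun a => Subtype.ext ((hK a).1 a.2)) ⟨y, hyK⟩ (fun h => hy1 (congrArg Subtype.val h))
  let C : Subgroup P := C₀.map K.subtype
  have hCK : C ≤ K := by
    rintro _ ⟨c, -, rfl⟩
    exact c.2
  have hCc : Nat.card C = p ^ 2 := by
    have h1 : Nat.card C = Nat.card C₀ := Subgroup.card_map_of_injective K.subtype_injective
    rw [h1]
    rw [hKc] at hC₀c
    have : Nat.card C₀ * p = p ^ 2 * p := by rw [hC₀c]; ring
    exact Nat.eq_of_mul_eq_mul_right hpp.pos this
  have hyC : y ∉ C := by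
    rintro ⟨c, hc, hcy⟩
    apply hC₀
    have : c = ⟨y, hyK⟩ := Subtype.ext hcy
    exact this ▸ hc
  have hoy : orderOf y = p := orderOf_eq_prime hyp hy1
  have hdisj : ∀ w ∈ Subgroup.zpowers x, w ∈ C → w = 1 := by
    intro w hw hwC
    by_contra hw1
    have hwp : w ^ p = 1 := (hK w).1 (hCK hwC)
    have how : orderOf w = p := orderOf_eq_prime hwp hw1
    obtain ⟨k, rfl⟩ := Subgroup.mem_zpowers_iff.1 hw
    have h0 : x ^ (k * p) = 1 := by rw [zpow_mul, zpow_natCast]; exact hwp
    have h1 : ((p ^ 2 : ℕ) : ℤ) ∣ k * p := by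
      rw [← hox]
      exact orderOf_dvd_iff_zpow_eq_one.2 h0
    have h2 : (p : ℤ) ∣ k := by
      have hp0 : (p : ℤ) ≠ 0 := by exact_mod_cast hpp.ne_zero
      have : (p : ℤ) * p ∣ k * p := by
        have e : ((p ^ 2 : ℕ) : ℤ) = (p : ℤ) * p := by push_cast; ring
        rw [e] at h1; exact h1
      exact (mul_dvd_mul_iff_right hp0).1 this
    obtain ⟨m, rfl⟩ := h2
    have h3 : x ^ ((p : ℤ) * m) = y ^ m := by rw [zpow_mul, zpow_natCast]
    rw [h3] at hwC hw1 how
    have h4 : Subgroup.zpowers (y ^ m) = Subgroup.zpowers y := by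
      apply Subgroup.eq_of_le_of_card_ge
        (Subgroup.zpowers_le.2 (Subgroup.zpow_mem _ (Subgroup.mem_zpowers y) m))
      rw [Nat.card_zpowers, Nat.card_zpowers, how, hoy]
    have h5 : y ∈ Subgroup.zpowers (y ^ m) := h4 ▸ Subgroup.mem_zpowers y
    exact hyC (Subgroup.zpowers_le.2 hwC h5)
  obtain ⟨e⟩ := prod_iso C x (fun e _ => hab e x) (p ^ 2) hox hdisj (by rw [hCc, hcard]; ring)
  obtain ⟨e2⟩ := iso_11 (p := p) (G := C) hCc (fun a b => Subtype.ext (hab a b))
    (fun a => Subtype.ext ((hK a).1 (hCK a.2)))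
  refine ⟨(e.trans (MulEquiv.prodCongr e2 (MulEquiv.refl _))).trans ?_⟩
  refine MulEquiv.prodComm.trans ?_
  refine MulEquiv.trans ?_ (MulEquiv.prodMultiplicative (G := ZMod (p ^ 2)) (H := ZMod p × ZMod p)).symm
  exact MulEquiv.prodCongr (MulEquiv.refl _) (MulEquiv.prodMultiplicative (G := ZMod p) (H := ZMod p)).symm

end Cfsg.Agent.Lib.H17E4Ab211
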