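import Cfsg.Agent.Lib.Helper17E4Defs
import Cfsg.Agent.Lib.Helper3PGroup

/-!
PROJECT 5188 (row S5188, essential subgroups of order `p ^ 4`), piece AbFrat.  See notes/helper17/E4/README.md.
-/

set_option autoImplicit false
set_option linter.unusedVariables false
set_option linter.unusedSectionVars false

namespace Cfsg.Agent.Lib.H17E4AbFrat

open scoped commutatorElement
open Cfsg.Agent.Lib.Helper17E4Defs

variable {P : Type*} [Group P] {p : ℕ} [hp : Fact p.Prime]

/-- `π : P →* P`, `x ↦ x ^ p` (`powMonoidHom` needs `CommGroup`; or build it from `hab` with `mul_pow`-like `Commute.mul_pow`), `π.ker = K`, `π.range ≤ frattini P`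
(`Cfsg.Agent.Lib.Helper3PGroup.pow_mem_frattini`), `π.range.index = |K|` (`Subgroup.index_range`/`Subgroup.card_mul_index`, `QuotientGroup.quotientKerEquivRange`), `Subgroup.index_dvd_of_le`/`Nat.le_of_dvd`. -/
theorem frattini_index_le (hcard : Nat.card P = p ^ 4) (hab : ∀ a b : P, a * b = b * a)
    (K : Subgroup P) (hK : ∀ x, x ∈ K ↔ x ^ p = 1) (hKc : Nat.card K ≤ p ^ 2) :
    (frattini P).index ≤ p ^ 2 := by
  have hpp := hp.out
  have hfin : Finite P := Nat.finite_of_card_ne_zero (by rw [hcard]; exact pow_ne_zero _ hpp.ne_zero)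
  have hPp : IsPGroup p P := IsPGroup.of_card hcard
  let φ : P →* P :=
    { toFun := fun g => g ^ p
      map_one' := one_pow p
      map_mul' := fun a b => (show Commute a b from hab a b).mul_pow p }
  have hker : φ.ker = K := by
    ext g
    rw [MonoidHom.mem_ker, hK]
    rfl
  have hle : φ.range ≤ frattini P := by
    rintro _ ⟨g, rfl⟩
    exact Cfsg.Agent.Lib.Helper3PGroup.pow_mem_frattini hPp g
  have h1 : (frattini P).index ∣ φ.range.index := Subgroup.index_dvd_of_le hle
  have h2 : φ.range.index = Nat.card K := by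
    have h3 := Subgroup.card_mul_index φ.range
    have h4 := Subgroup.card_mul_index φ.ker
    rw [Subgroup.index_ker, hker] at h4
    rw [← h4, mul_comm] at h3
    exact Nat.eq_of_mul_eq_mul_right Nat.card_pos h3
  rw [h2] at h1
  exact (Nat.le_of_dvd Nat.card_pos h1).trans hKc

end Cfsg.Agent.Lib.H17E4AbFrat
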