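import Cfsg.Agent.Lib.Helper17E4Defs

/-!
PROJECT 5188 (row S5188, essential subgroups of order `p ^ 4`), piece C2a.  See notes/helper17/E4/README.md.
-/

set_option autoImplicit false
set_option linter.unusedVariables false
set_option linter.unusedSectionVars false

namespace Cfsg.Agent.Lib.H17E4C2a

open scoped commutatorElement
open Cfsg.Agent.Lib.Helper17E4Defs

variable {P : Type*} [Group P] {p : ℕ} [hp : Fact p.Prime]

/-- PURE MATHLIB.  `Q := P ⧸ center P` has order `p ^ 2`, hence is commutative (`IsPGroup.commutative_of_card_eq_prime_sq`, or the landed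
`Cfsg.Agent.Lib.Helper89PCube.comm_of_card_dvd_sq`): so `⁅g, h⁆ ∈ center P` (its image in `Q` is `1`; `QuotientGroup.eq_one_iff`). -/
theorem comm_mem (hcard : Nat.card P = p ^ 4) (hZ : Nat.card (Subgroup.center P) = p ^ 2) (g h : P) :
    ⁅g, h⁆ ∈ Subgroup.center P := by
  have hpp := hp.out
  have h2 := Subgroup.card_eq_card_quotient_mul_card_subgroup (Subgroup.center P)
  rw [hcard, hZ] at h2
  have h3 : Nat.card (P ⧸ Subgroup.center P) = p ^ 2 := by
    have : p ^ 2 * p ^ 2 = Nat.card (P ⧸ Subgroup.center P) * p ^ 2 := by rw [← h2]; ring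
    exact (Nat.eq_of_mul_eq_mul_right (pow_pos hpp.pos 2) this).symm
  have hc := (IsPGroup.isMulCommutative_of_card_eq_prime_sq h3).is_comm.comm
  rw [← QuotientGroup.eq_one_iff]
  rw [commutatorElement_def, QuotientGroup.mk_mul, QuotientGroup.mk_mul, QuotientGroup.mk_mul,
    QuotientGroup.mk_inv, QuotientGroup.mk_inv]
  rw [hc (g : P ⧸ Subgroup.center P) h]
  group

/-- `Q := P ⧸ center P` (order `p ^ 2`) is not cyclic: otherwise `P` is commutative (`commutative_of_cyclic_center_quotient`), centre `= ⊤`, `p ^ 2 = p ^ 4`.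
So no element of `Q` has order `p ^ 2` (`isCyclic_of_orderOf_eq_card`), all orders divide `p` (`orderOf_dvd_natCard`, `Nat.dvd_prime_pow`): `(mk g) ^ p = 1`. -/
theorem pow_mem (hcard : Nat.card P = p ^ 4) (hZ : Nat.card (Subgroup.center P) = p ^ 2) (g : P) :
    g ^ p ∈ Subgroup.center P := by
  have hpp := hp.out
  have hfin : Finite P := Nat.finite_of_card_ne_zero (by rw [hcard]; exact pow_ne_zero _ hpp.ne_zero)
  have h2 := Subgroup.card_eq_card_quotient_mul_card_subgroup (Subgroup.center P)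
  rw [hcard, hZ] at h2
  have h3 : Nat.card (P ⧸ Subgroup.center P) = p ^ 2 := by
    have : p ^ 2 * p ^ 2 = Nat.card (P ⧸ Subgroup.center P) * p ^ 2 := by rw [← h2]; ring
    exact (Nat.eq_of_mul_eq_mul_right (pow_pos hpp.pos 2) this).symm
  have hnc : ¬ IsCyclic (P ⧸ Subgroup.center P) := by
    intro hcyc
    have hab := commutative_of_cyclic_center_quotient (QuotientGroup.mk' (Subgroup.center P))
      (QuotientGroup.ker_mk' _).le
    have : Subgroup.center P = ⊤ := by
      rw [eq_top_iff]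
      intro g _
      rw [Subgroup.mem_center_iff]
      intro h
      exact hab h g
    rw [this, Subgroup.card_top, hcard] at hZ
    have := Nat.pow_right_injective hpp.two_le hZ
    omega
  rw [← QuotientGroup.eq_one_iff, QuotientGroup.mk_pow]
  set z : P ⧸ Subgroup.center P := (g : P ⧸ Subgroup.center P)
  have h1 : orderOf z ∣ p ^ 2 := h3 ▸ orderOf_dvd_natCard z
  obtain ⟨k, hk, hk'⟩ := (Nat.dvd_prime_pow hpp).1 h1
  have hk2 : k ≠ 2 := by
    rintro rfl
    exact hnc (isCyclic_of_orderOf_eq_card z (by rw [hk', h3]))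
  apply orderOf_dvd_iff_pow_eq_one.1
  rw [hk']
  have : k ≤ 1 := by omega
  calc p ^ k ∣ p ^ 1 := pow_dvd_pow p this
    _ = p := pow_one p

/-- class two identity: if all commutators are central then `⁅g, h⁆ ^ n = ⁅g ^ n, h⁆` (induction on `n`: `⁅g * g', h⁆ = g ⁅g', h⁆ g⁻¹ ⁅g, h⁆`). -/
theorem comm_pow_left (hc : ∀ g h : P, ⁅g, h⁆ ∈ Subgroup.center P) (g h : P) (n : ℕ) :
    ⁅g, h⁆ ^ n = ⁅g ^ n, h⁆ := by
  induction n with
  | zero => simp
  | succ n ih =>
    have h1 := Subgroup.mem_center_iff.1 (hc (g ^ n) h)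
    rw [pow_succ, ih, pow_succ]
    -- `⁅g ^ n * g, h⁆ = g ^ n * ⁅g, h⁆ * (g ^ n)⁻¹ * ⁅g ^ n, h⁆`
    have h2 := Subgroup.mem_center_iff.1 (hc g h)
    have h3 : ⁅g ^ n * g, h⁆ = g ^ n * ⁅g, h⁆ * (g ^ n)⁻¹ * ⁅g ^ n, h⁆ := by
      simp only [commutatorElement_def]
      group
    rw [h3, h2 (g ^ n), mul_inv_cancel_right, h1]

/-- `⁅g, h⁆ ^ p = ⁅g ^ p, h⁆ = 1` as `g ^ p` is central. -/
theorem comm_pow (hcard : Nat.card P = p ^ 4) (hZ : Nat.card (Subgroup.center P) = p ^ 2) (g h : P) :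
    ⁅g, h⁆ ^ p = 1 := by
  rw [comm_pow_left (comm_mem hcard hZ)]
  have h1 := Subgroup.mem_center_iff.1 (pow_mem hcard hZ g) h
  rw [commutatorElement_eq_one_iff_mul_comm]
  exact h1.symm

end Cfsg.Agent.Lib.H17E4C2a
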