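import Cfsg.Agent.Lib.Helper17E4Defs
import Cfsg.Agent.Lib.H17E4C2a

/-!
PROJECT 5188 (row S5188, essential subgroups of order `p ^ 4`), piece C2b.  See notes/helper17/E4/README.md.
-/

set_option autoImplicit false
set_option linter.unusedVariables false
set_option linter.unusedSectionVars false

namespace Cfsg.Agent.Lib.H17E4C2b

open scoped commutatorElement
open Cfsg.Agent.Lib.Helper17E4Defs Cfsg.Agent.Lib.H17E4C2a

variable {P : Type*} [Group P] {p : ℕ} [hp : Fact p.Prime]

/-- PURE MATHLIB.  `|P'| = p`.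
`P' ≠ ⊥` (else `P` is commutative, centre `= ⊤`).  Pick `a ∉ Z := center P`, `A := centralizer {a}`: `Z < A` (contains `a`), `A ≠ ⊤`, so `|A| = p ^ 3`.
`A` is commutative: `A = ⟨a⟩ Z` by orders, or: `Z.subgroupOf A ⊔ zpowers a ≤ center A` has order `> p ^ 2`, so `A ⧸ center A` is cyclic.
Pick `b ∉ A`.  `ψ : A →* P`, `x ↦ ⁅x, b⁆` is a homomorphism (values central: `comm_mem`), its kernel is `Z` (an element of `A` commuting with `b` commutes with `A` and `b`,
and `A ⊔ zpowers b = ⊤` as `A` is maximal: index `p`), so `I := ψ.range` has order `p ^ 3 / p ^ 2 = p`; `I ≤ Z` is normal.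
`P ⧸ I` is commutative (generated by the commuting images of `A` and `b`; or: show `⁅x b ^ i, y b ^ j⁆ ∈ I` directly) so `P' ≤ I` (`QuotientGroup`/`Abelianization`:
`commutator P ≤ N ↔ P ⧸ N` commutative, `QuotientGroup.commutator_le...`/`Subgroup.Normal.quotient_commutative_iff_commutator_le`).  `1 < |P'| ∣ p`.
ALTERNATIVE: every commutator is a power of `⁅a, b⁆` (bi-multiplicativity modulo `Z`), so `P' = zpowers ⁅a, b⁆` of order `p` (`comm_pow`). -/
theorem card_commutator (hcard : Nat.card P = p ^ 4) (hZ : Nat.card (Subgroup.center P) = p ^ 2) :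
    Nat.card (commutator P) = p := by
  have hpp := hp.out
  have hfin : Finite P := Nat.finite_of_card_ne_zero (by rw [hcard]; exact pow_ne_zero _ hpp.ne_zero)
  have hc := comm_mem hcard hZ
  let ψ : P → (P →* P) := fun g =>
    { toFun := fun x => ⁅x, g⁆
      map_one' := by simp
      map_mul' := fun x y => by
        have h3 : ⁅x * y, g⁆ = x * ⁅y, g⁆ * x⁻¹ * ⁅x, g⁆ := by
          simp only [commutatorElement_def]; group
        rw [h3, (Subgroup.mem_center_iff.1 (hc y g)) x, mul_inv_cancel_right]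
        exact (Subgroup.mem_center_iff.1 (hc x g)) ⁅y, g⁆ }
  have hψ : ∀ g x, ψ g x = ⁅x, g⁆ := fun g x => rfl
  have hker : ∀ g x, x ∈ (ψ g).ker ↔ x * g = g * x := by
    intro g x
    rw [MonoidHom.mem_ker, hψ, commutatorElement_eq_one_iff_mul_comm]
  have hrange : ∀ g, g ∉ Subgroup.center P → Nat.card (ψ g).range = p := by
    intro g hg
    have h1 : Subgroup.center P ≤ (ψ g).ker := by
      intro z hz
      rw [hker]
      exact (Subgroup.mem_center_iff.1 hz g).symm
    have h2 : g ∈ (ψ g).ker := (hker g g).2 rfl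
    have h3 : (ψ g).ker ≠ ⊤ := by
      intro h
      apply hg
      rw [Subgroup.mem_center_iff]
      intro x
      exact (hker g x).1 (h ▸ Subgroup.mem_top x)
    have hdvd : Nat.card (ψ g).ker ∣ p ^ 4 := hcard ▸ Subgroup.card_subgroup_dvd_card _
    obtain ⟨k, hk, hk'⟩ := (Nat.dvd_prime_pow hpp).1 hdvd
    have hk4 : k ≠ 4 := by
      rintro rfl
      exact h3 (Subgroup.eq_top_of_card_eq _ (by rw [hk', hcard]))
    have hk2 : 2 < k := by
      by_contra hlt
      have h4 : Subgroup.center P = (ψ g).ker := by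
        apply Subgroup.eq_of_le_of_card_ge h1
        rw [hk', hZ]
        exact Nat.pow_le_pow_right hpp.pos (by omega)
      exact hg (h4 ▸ h2)
    have hk3 : k = 3 := by omega
    subst hk3
    have h5 := Subgroup.card_mul_index (ψ g).ker
    rw [hk', hcard, Subgroup.index_ker] at h5
    have : p ^ 3 * Nat.card (ψ g).range = p ^ 3 * p := by rw [h5]; ring
    exact Nat.eq_of_mul_eq_mul_left (pow_pos hpp.pos 3) this
  have hz : ∀ g x : P, ⁅x, g⁆ ≠ 1 → (ψ g).range = Subgroup.zpowers ⁅x, g⁆ := by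
    intro g x hx
    have hg : g ∉ Subgroup.center P := by
      intro hg
      apply hx
      rw [commutatorElement_eq_one_iff_mul_comm]
      exact Subgroup.mem_center_iff.1 hg x
    symm
    apply Subgroup.eq_of_le_of_card_ge
    · rw [Subgroup.zpowers_le]
      exact ⟨x, rfl⟩
    · rw [hrange g hg, Nat.card_zpowers, orderOf_eq_prime (comm_pow hcard hZ x g) hx]
  have hsymm : ∀ g x : P, Subgroup.zpowers ⁅x, g⁆ = Subgroup.zpowers ⁅g, x⁆ := by
    intro g x
    rw [← commutatorElement_inv, Subgroup.zpowers_inv]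
  have hne : ∀ g x : P, ⁅x, g⁆ ≠ 1 → ⁅g, x⁆ ≠ 1 := by
    intro g x h h'
    apply h
    rw [← commutatorElement_inv, h', inv_one]
  obtain ⟨a, ha⟩ : ∃ a : P, a ∉ Subgroup.center P := by
    by_contra h
    push Not at h
    have : Subgroup.center P = ⊤ := eq_top_iff.2 fun x _ => h x
    rw [this, Subgroup.card_top, hcard] at hZ
    have := Nat.pow_right_injective hpp.two_le hZ
    omega
  have hex : ∀ y, y ∉ Subgroup.center P → ∃ u : P, ⁅u, y⁆ ≠ 1 := by
    intro y hy
    by_contra h
    push Not at h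
    apply hy
    rw [Subgroup.mem_center_iff]
    intro x
    exact commutatorElement_eq_one_iff_mul_comm.1 (h x)
  have hall : ∀ y, y ∉ Subgroup.center P → (ψ y).range = (ψ a).range := by
    intro y hy
    obtain ⟨w, hwy, hwa⟩ : ∃ w : P, ⁅w, y⁆ ≠ 1 ∧ ⁅w, a⁆ ≠ 1 := by
      obtain ⟨u, hu⟩ := hex y hy
      obtain ⟨v, hv⟩ := hex a ha
      by_cases hua : ⁅u, a⁆ = 1
      · by_cases hvy : ⁅v, y⁆ = 1
        · refine ⟨u * v, ?_, ?_⟩
          · rw [← hψ, map_mul, hψ, hψ, hvy, mul_one]; exact hu
          · rw [← hψ, map_mul, hψ, hψ, hua, one_mul]; exact hv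
        · exact ⟨v, hvy, hv⟩
      · exact ⟨u, hu, hua⟩
    rw [hz y w hwy, hsymm, ← hz w y (hne y w hwy), hz w a (hne a w hwa), hsymm, ← hz a w hwa]
  have heq : commutator P = (ψ a).range := by
    apply le_antisymm
    · rw [commutator_eq_closure, Subgroup.closure_le]
      rintro _ ⟨x, y, rfl⟩
      by_cases hy : y ∈ Subgroup.center P
      · have : ⁅x, y⁆ = 1 := by
          rw [commutatorElement_eq_one_iff_mul_comm]
          exact Subgroup.mem_center_iff.1 hy x
        rw [this]
        exact Subgroup.one_mem _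
      · rw [← hall y hy]
        exact ⟨x, rfl⟩
    · rintro _ ⟨x, rfl⟩
      exact Subgroup.commutator_mem_commutator (Subgroup.mem_top x) (Subgroup.mem_top a)
  rw [heq, hrange a ha]

end Cfsg.Agent.Lib.H17E4C2b
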