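import Cfsg.Agent.Lib.Helper17E4Defs

/-!
PROJECT 5188 (row S5188, essential subgroups of order `p ^ 4`), piece CardZ.  See notes/helper17/E4/README.md.
-/

set_option autoImplicit false
set_option linter.unusedVariables false
set_option linter.unusedSectionVars false

namespace Cfsg.Agent.Lib.H17E4CardZ

open scoped commutatorElement
open Cfsg.Agent.Lib.Helper17E4Defs

variable {P : Type*} [Group P] {p : ℕ} [hp : Fact p.Prime]

/-- PURE MATHLIB.  `P` is a nontrivial `p`-group (`IsPGroup.of_card`), so its centre is nontrivial (`IsPGroup.center_nontrivial`) and its order is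
`p ^ k`, `1 ≤ k ≤ 4` (`(Nat.dvd_prime_pow hp.out).1 (Subgroup.card_subgroup_dvd_card _)`).  `k = 4`: centre `= ⊤` (`Subgroup.eq_top_of_card_eq`), `P` commutative.
`k = 3`: `P ⧸ center P` has order `p` (`Subgroup.card_eq_card_quotient_mul_card_subgroup`), is cyclic (`isCyclic_of_prime_card`), so `P` is commutative
(`commutative_of_cyclic_center_quotient (QuotientGroup.mk' _)` with kernel `≤ center`). -/
theorem card_center (hcard : Nat.card P = p ^ 4) (hna : ¬ ∀ a b : P, a * b = b * a) :
    Nat.card (Subgroup.center P) = p ∨ Nat.card (Subgroup.center P) = p ^ 2 := by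
  have hpp := hp.out
  have hfin : Finite P := Nat.finite_of_card_ne_zero (by rw [hcard]; exact pow_ne_zero _ hpp.ne_zero)
  have hPp : IsPGroup p P := IsPGroup.of_card hcard
  have hnt : Nontrivial P := by
    rw [← Finite.one_lt_card_iff_nontrivial, hcard]
    exact Nat.one_lt_pow (by norm_num) hpp.one_lt
  have hZnt : Nontrivial (Subgroup.center P) := hPp.center_nontrivial
  have hdvd : Nat.card (Subgroup.center P) ∣ p ^ 4 := hcard ▸ Subgroup.card_subgroup_dvd_card _
  obtain ⟨k, hk, hk'⟩ := (Nat.dvd_prime_pow hpp).1 hdvd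
  have h1 : 1 < Nat.card (Subgroup.center P) := Finite.one_lt_card_iff_nontrivial.2 hZnt
  have hk0 : k ≠ 0 := by
    rintro rfl
    rw [hk', pow_zero] at h1
    exact lt_irrefl _ h1
  have hk4 : k ≠ 4 := by
    rintro rfl
    have : Subgroup.center P = ⊤ := Subgroup.eq_top_of_card_eq _ (by rw [hk', hcard])
    apply hna
    intro a b
    have hb : b ∈ Subgroup.center P := this ▸ Subgroup.mem_top b
    exact Subgroup.mem_center_iff.1 hb a
  have hk3 : k ≠ 3 := by
    rintro rfl
    have h2 := Subgroup.card_eq_card_quotient_mul_card_subgroup (Subgroup.center P)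
    rw [hcard, hk'] at h2
    have h3 : Nat.card (P ⧸ Subgroup.center P) = p := by
      have : p * p ^ 3 = Nat.card (P ⧸ Subgroup.center P) * p ^ 3 := by rw [← h2]; ring
      exact (Nat.eq_of_mul_eq_mul_right (pow_pos hpp.pos 3) this).symm
    have hcyc : IsCyclic (P ⧸ Subgroup.center P) := isCyclic_of_prime_card h3
    exact hna (commutative_of_cyclic_center_quotient (QuotientGroup.mk' (Subgroup.center P))
      (QuotientGroup.ker_mk' _).le)
  have : k = 1 ∨ k = 2 := by omega
  rcases this with rfl | rfl
  · left; rw [hk', pow_one]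
  · right; exact hk'

end Cfsg.Agent.Lib.H17E4CardZ
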