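import Cfsg.Agent.Lib.Helper17E4Defs

/-!
PROJECT 5188 (row S5188, essential subgroups of order `p ^ 4`), piece Hom.  See notes/helper17/E4/README.md.
-/

set_option autoImplicit false
set_option linter.unusedVariables false
set_option linter.unusedSectionVars false

namespace Cfsg.Agent.Lib.H17E4Hom

open scoped commutatorElement
open Cfsg.Agent.Lib.Helper17E4Defs

variable {P : Type*} [Group P] {p : ℕ} [hp : Fact p.Prime]

theorem aux1 (g h c : P) (hcc : ∀ x, x * c = c * x) (hgh : h * g = c * g * h) (n : ℕ) :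
    h ^ n * g = c ^ n * g * h ^ n := by
  have hccn : ∀ (k : ℕ) (x : P), x * c ^ k = c ^ k * x := fun k x =>
    ((show Commute x c from hcc x).pow_right k)
  induction n with
  | zero => simp
  | succ n ih =>
    calc h ^ (n + 1) * g = h * (h ^ n * g) := by rw [pow_succ', mul_assoc]
      _ = h * (c ^ n * g * h ^ n) := by rw [ih]
      _ = c ^ n * (h * g) * h ^ n := by
        rw [mul_assoc (c ^ n), ← mul_assoc h, hccn n h]; simp only [mul_assoc]
      _ = c ^ n * (c * g * h) * h ^ n := by rw [hgh]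
      _ = c ^ (n + 1) * g * h ^ (n + 1) := by rw [pow_succ, pow_succ']; simp only [mul_assoc]

theorem aux2 (g h c : P) (hcc : ∀ x, x * c = c * x) (hgh : h * g = c * g * h) (n : ℕ) :
    (g * h) ^ n = g ^ n * h ^ n * c ^ (n.choose 2) := by
  have hccn : ∀ (k : ℕ) (x : P), x * c ^ k = c ^ k * x := fun k x =>
    ((show Commute x c from hcc x).pow_right k)
  induction n with
  | zero => simp
  | succ n ih =>
    have h2 : (n + 1).choose 2 = n + n.choose 2 := by
      rw [Nat.choose_succ_succ' n 1, Nat.choose_one_right]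
    rw [h2, pow_add c]
    calc (g * h) ^ (n + 1) = (g * h) ^ n * (g * h) := pow_succ _ _
      _ = g ^ n * h ^ n * c ^ (n.choose 2) * (g * h) := by rw [ih]
      _ = g ^ n * (h ^ n * g) * h * c ^ (n.choose 2) := by
        rw [mul_assoc (g ^ n * h ^ n), ← hccn (n.choose 2) (g * h)]; simp only [mul_assoc]
      _ = g ^ n * (c ^ n * g * h ^ n) * h * c ^ (n.choose 2) := by rw [aux1 g h c hcc hgh]
      _ = g ^ (n + 1) * h ^ (n + 1) * (c ^ n * c ^ (n.choose 2)) := by
        rw [mul_assoc (c ^ n), ← mul_assoc (g ^ n), hccn n (g ^ n), ← mul_assoc (g ^ (n + 1) * h ^ (n + 1)),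
          hccn n (g ^ (n + 1) * h ^ (n + 1)), pow_succ, pow_succ]
        simp only [mul_assoc]

/-- PURE MATHLIB, class two collection formula (induction on `n`; `h * g = ⁅h, g⁆ * g * h`, central elements move freely; `Nat.choose_succ..`: `(n+1).choose 2 = n.choose 2 + n`;
first prove `h ^ n * g = ⁅h, g⁆ ^ n * g * h ^ n`). -/
theorem mul_pow_c2 (hc : ∀ g h : P, ⁅g, h⁆ ∈ Subgroup.center P) (g h : P) (n : ℕ) :
    (g * h) ^ n = g ^ n * h ^ n * ⁅h, g⁆ ^ (n.choose 2) := by
  apply aux2 g h ⁅h, g⁆ (Subgroup.mem_center_iff.1 (hc h g))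
  rw [commutatorElement_def]; group

/-- `p ∣ p.choose 2` for `p` odd (`Nat.Prime.dvd_choose_self`), `C.comm_pow`. -/
theorem pow_hom_odd (C : C2 p P) (hodd : p ≠ 2) (g h : P) : (g * h) ^ p = g ^ p * h ^ p := by
  have hpp := hp.out
  rw [mul_pow_c2 C.comm_mem]
  have h1 : p ∣ p.choose 2 := hpp.dvd_choose_self (by norm_num) (by
    have := hpp.two_le
    omega)
  obtain ⟨m, hm⟩ := h1
  rw [hm, pow_mul, C.comm_pow, one_pow, mul_one]

/-- `p ∣ (p ^ 2).choose 2 = p ^ 2 (p ^ 2 - 1) / 2` for every prime `p` (`Nat.choose_two_right`; `p = 2`: `6`; `p` odd: `p ^ 2 ∣`), `C.comm_pow`. -/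
theorem pow_sq_hom (C : C2 p P) (g h : P) : (g * h) ^ (p ^ 2) = g ^ (p ^ 2) * h ^ (p ^ 2) := by
  have hpp := hp.out
  rw [mul_pow_c2 C.comm_mem]
  have h1 : p ∣ (p ^ 2).choose 2 := by
    rcases hpp.eq_two_or_odd' with rfl | hodd
    · decide
    · rw [Nat.choose_two_right]
      obtain ⟨k, hk⟩ := hodd
      have h2 : p ^ 2 - 1 = 2 * (2 * k * k + 2 * k) := by
        have : p ^ 2 = 2 * (2 * k * k + 2 * k) + 1 := by rw [hk]; ring
        omega
      rw [h2, ← mul_assoc, mul_comm (p ^ 2) 2, mul_assoc, Nat.mul_div_cancel_left _ (by norm_num : 0 < 2)]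
      exact Dvd.dvd.mul_right (dvd_pow_self p (by norm_num)) _
  obtain ⟨m, hm⟩ := h1
  rw [hm, pow_mul, C.comm_pow, one_pow, mul_one]

theorem sq_mul (hc : ∀ g h : P, ⁅g, h⁆ ∈ Subgroup.center P) (g h : P) :
    (g * h) ^ 2 = g ^ 2 * h ^ 2 * ⁅h, g⁆ := by
  have := mul_pow_c2 hc g h 2
  rw [Nat.choose_self, pow_one] at this
  exact this

end Cfsg.Agent.Lib.H17E4Hom
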