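import Cfsg.Agent.Lib.Helper17E4Defs

/-!
PROJECT 5188 (row S5188, essential subgroups of order `p ^ 4`), piece TwoA.  See notes/helper17/E4/README.md.
-/

set_option autoImplicit false
set_option linter.unusedVariables false
set_option linter.unusedSectionVars false

namespace Cfsg.Agent.Lib.H17E4TwoA

open scoped commutatorElement
open Cfsg.Agent.Lib.Helper17E4Defs

variable {P : Type*} [Group P] {p : ℕ} [hp : Fact p.Prime]

/-- general version (any prime): if some `p`-th power is outside `P'` then there is a chain -/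
theorem chain_of_pow_not_mem (C : C2 p P) (hZe : ∀ z ∈ Subgroup.center P, z ^ p = 1)
    (hne : ∃ g : P, g ^ p ∉ commutator P) : HasChain p P := by
  have hpp := hp.out
  have hfin : Finite P := Nat.finite_of_card_ne_zero (by rw [C.card]; exact pow_ne_zero _ hpp.ne_zero)
  have hsurj : Function.Surjective (Abelianization.of : P →* Abelianization P) :=
    QuotientGroup.mk'_surjective _
  let σ : P →* Abelianization P := (powMonoidHom p).comp Abelianization.of
  have hσ : ∀ g, σ g = Abelianization.of (g ^ p) := fun g => (map_pow _ _ _).symm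
  have hker : ∀ g, g ∈ σ.ker ↔ g ^ p ∈ commutator P := by
    intro g
    rw [MonoidHom.mem_ker, hσ, ← MonoidHom.mem_ker, Abelianization.ker_of]
  have hidxZ : (Subgroup.center P).index = p ^ 2 := by
    have h := Subgroup.card_mul_index (Subgroup.center P)
    rw [C.cardZ, C.card] at h
    have : p ^ 2 * (Subgroup.center P).index = p ^ 2 * p ^ 2 := by rw [h]; ring
    exact Nat.eq_of_mul_eq_mul_left (pow_pos hpp.pos 2) this
  have hidxD : Nat.card (Abelianization P) = p ^ 3 := by
    have h := Subgroup.card_mul_index (commutator P)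
    rw [C.cardD, C.card] at h
    have : p * (commutator P).index = p * p ^ 3 := by rw [h]; ring
    exact Nat.eq_of_mul_eq_mul_left hpp.pos this
  have hcardM : Nat.card ((Subgroup.center P).map (Abelianization.of : P →* Abelianization P)) = p := by
    have h := Subgroup.card_mul_index ((Subgroup.center P).map (Abelianization.of : P →* Abelianization P))
    rw [Subgroup.index_map, Abelianization.ker_of, sup_eq_left.2 C.D_le, hidxZ,
      MonoidHom.range_eq_top.2 hsurj, Subgroup.index_top, mul_one, hidxD] at h
    have : Nat.card ((Subgroup.center P).map (Abelianization.of : P →* Abelianization P)) * p ^ 2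
        = p * p ^ 2 := by rw [h]; ring
    exact Nat.eq_of_mul_eq_mul_right (pow_pos hpp.pos 2) this
  have hle : σ.range ≤ (Subgroup.center P).map (Abelianization.of : P →* Abelianization P) := by
    rintro _ ⟨g, rfl⟩
    exact ⟨g ^ p, C.pow_mem g, (hσ g).symm⟩
  have hrange : Nat.card σ.range = p := by
    have h1 : Nat.card σ.range ∣ p := by
      have := Subgroup.card_dvd_of_le hle
      rwa [hcardM] at this
    rcases (Nat.dvd_prime hpp).1 h1 with h | h
    · exfalso
      obtain ⟨x, hx⟩ := hne
      have h2 : σ.range = ⊥ := Subgroup.card_eq_one.1 h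
      have h3 : σ x ∈ σ.range := ⟨x, rfl⟩
      rw [h2, Subgroup.mem_bot] at h3
      exact hx ((hker x).1 h3)
    · exact h
  have hK : Nat.card σ.ker = p ^ 3 := by
    have h5 := Subgroup.card_mul_index σ.ker
    rw [C.card, Subgroup.index_ker, hrange] at h5
    have : Nat.card σ.ker * p = p ^ 3 * p := by rw [h5]; ring
    exact Nat.eq_of_mul_eq_mul_right hpp.pos this
  have hZK : Subgroup.center P ≤ σ.ker := by
    intro z hz
    rw [hker, hZe z hz]
    exact Subgroup.one_mem _
  refine ⟨commutator P, Subgroup.center P, σ.ker, C.D_le, hZK, C.cardD, C.cardZ, hK, inv_commutator,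
    inv_center, ?_⟩
  intro γ g hg
  rw [hker] at hg ⊢
  rw [← map_pow]
  exact inv_commutator γ _ hg

/-- PURE MATHLIB.  `K := {g | g ^ 2 ∈ commutator P}` is a subgroup (`hsq`; `⁅h, g⁆ ∈ commutator P`: `Subgroup.commutator_mem_commutator`; squares are central so everything commutes; inverse: `(g⁻¹) ^ 2 = (g ^ 2)⁻¹`),
invariant (`inv_commutator`, `map_pow`), contains `Z := center P` (`hZe`), and has index `2`: for `g, h ∉ K` the squares `g ^ 2, h ^ 2` lie in `Z ∖ P'` and `|Z : P'| = 2`, so `g ^ 2 * h ^ 2 ∈ P'`, `g * h ∈ K`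
(`Subgroup.index_eq_two_iff`, or `|K| ∣ 16`, `4 ∣ |K|`...).  Chain `commutator P ≤ Z ≤ K`. -/
theorem two_chainA (C : C2 2 P) (hZe : ∀ z ∈ Subgroup.center P, z ^ 2 = 1)
    (hsq : ∀ g h : P, (g * h) ^ 2 = g ^ 2 * h ^ 2 * ⁅h, g⁆) (hne : ∃ g : P, g ^ 2 ∉ commutator P) :
    HasChain 2 P := by
  exact chain_of_pow_not_mem C hZe hne

end Cfsg.Agent.Lib.H17E4TwoA
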