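import Cfsg.Agent.Lib.Helper17E4Defs
import Cfsg.Agent.Lib.H17E4TwoA

/-!
PROJECT 5188 (row S5188, essential subgroups of order `p ^ 4`), piece OddA.  See notes/helper17/E4/README.md.
-/

set_option autoImplicit false
set_option linter.unusedVariables false
set_option linter.unusedSectionVars false

namespace Cfsg.Agent.Lib.H17E4OddA

open scoped commutatorElement
open Cfsg.Agent.Lib.Helper17E4Defs

variable {P : Type*} [Group P] {p : ℕ} [hp : Fact p.Prime]

/-- PURE MATHLIB.  `π : P →* P`, `g ↦ g ^ p` (`hpow`); `π.range ≤ Z := center P` (`C.pow_mem`), `Z ≤ K := π.ker` (`hZe`), `K ≠ ⊤` (`hne`); `K` invariant (`inv_ker`).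
`|K| ∈ {p ^ 2, p ^ 3}` (`p ^ 2 ∣ |K| ∣ p ^ 4`, `≠ p ^ 4`).
* `|K| = p ^ 3`: chain `commutator P ≤ Z ≤ K`.
* `|K| = p ^ 2`: `K = Z`, `|π.range| = p ^ 2` so `π.range = Z`.  `A₃ := (commutator P).comap π` is invariant (`γ (x) ^ p = γ (x ^ p)`, `inv_commutator`), contains `K = Z`,
  and `|A₃| = |K| * |commutator P| = p ^ 3` (`commutator P ≤ π.range`; `Subgroup.card_comap...`/ restrict `π` to `A₃`: kernel `K`, range `commutator P`). -/
theorem odd_chain (C : C2 p P) (hZe : ∀ z ∈ Subgroup.center P, z ^ p = 1)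
    (hpow : ∀ g h : P, (g * h) ^ p = g ^ p * h ^ p) (hne : ∃ x : P, x ^ p ≠ 1) : HasChain p P := by
  have hpp := hp.out
  have hfin : Finite P := Nat.finite_of_card_ne_zero (by rw [C.card]; exact pow_ne_zero _ hpp.ne_zero)
  by_cases hD : ∃ g : P, g ^ p ∉ commutator P
  · exact H17E4TwoA.chain_of_pow_not_mem C hZe hD
  push Not at hD
  let φ : P →* P :=
    { toFun := fun g => g ^ p
      map_one' := one_pow _
      map_mul' := hpow }
  have hφ : ∀ g, φ g = g ^ p := fun g => rfl
  have hle : φ.range ≤ commutator P := by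
    rintro _ ⟨g, rfl⟩
    exact hD g
  have hrange : Nat.card φ.range = p := by
    have h1 : Nat.card φ.range ∣ p := by
      have := Subgroup.card_dvd_of_le hle
      rwa [C.cardD] at this
    rcases (Nat.dvd_prime hpp).1 h1 with h | h
    · exfalso
      obtain ⟨x, hx⟩ := hne
      have h2 : φ.range = ⊥ := Subgroup.card_eq_one.1 h
      have h3 : φ x ∈ φ.range := ⟨x, rfl⟩
      rw [h2, Subgroup.mem_bot] at h3
      exact hx h3
    · exact h
  have hK : Nat.card φ.ker = p ^ 3 := by
    have h5 := Subgroup.card_mul_index φ.ker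
    rw [C.card, Subgroup.index_ker, hrange] at h5
    have : Nat.card φ.ker * p = p ^ 3 * p := by rw [h5]; ring
    exact Nat.eq_of_mul_eq_mul_right hpp.pos this
  have hZK : Subgroup.center P ≤ φ.ker := by
    intro z hz
    rw [MonoidHom.mem_ker, hφ]
    exact hZe z hz
  refine ⟨commutator P, Subgroup.center P, φ.ker, C.D_le, hZK, C.cardD, C.cardZ, hK, inv_commutator,
    inv_center, inv_ker φ ?_⟩
  intro γ g hg
  rw [hφ] at hg ⊢
  rw [← map_pow, hg, map_one]

end Cfsg.Agent.Lib.H17E4OddA
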