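import Cfsg.Agent.Lib.Helper17E4Defs
import Cfsg.Agent.Lib.H17E4Ab211

/-!
PROJECT 5188 (row S5188, essential subgroups of order `p ^ 4`), piece Split.  See notes/helper17/E4/README.md.
-/

set_option autoImplicit false
set_option linter.unusedVariables false
set_option linter.unusedSectionVars false

namespace Cfsg.Agent.Lib.H17E4Split

open scoped commutatorElement
open Cfsg.Agent.Lib.Helper17E4Defs

variable {P : Type*} [Group P] {p : ℕ} [hp : Fact p.Prime]

/-- PURE MATHLIB.  `P ⧸ P'` is elementary abelian (`hΦ`), `z₁ ∈ Z ∖ P'` (orders `p ^ 2 > p`): a subgroup `E` of index `p` containing `P'` but not `z₁`.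
ROUTE 1 (linear algebra): `Additive (P ⧸ commutator P)` (= `Additive (Abelianization P)`) is a `ZMod p`-module (`AddCommGroup.zmodModule`), take a complement of the line spanned by the image of `z₁`
(`Submodule.exists_isCompl`), pull it back.
ROUTE 2 (elementary): among the subgroups `E ≥ P'` with `z₁ ∉ E` take one of maximal order.  `E` is normal (contains `P'`).  If `g ∉ E ⊔ zpowers z₁` then
`E' := E ⊔ zpowers g` still avoids `z₁`: an element of `E'` is `e g ^ i` (`E` normal); `e g ^ i = z₁` with `p ∤ i` gives `g ∈ E ⊔ zpowers z₁` (as `g ^ p ∈ P' ≤ E`), and with `p ∣ i` gives `z₁ ∈ E`.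
So `E ⊔ zpowers z₁ = ⊤`, `E ⊓ zpowers z₁ = ⊥` (`z₁` has order `p`), `|E| = p ^ 3`.
ROUTE 3 (explicit): `a, b` not commuting, `z₀ = ⁅a, b⁆`; `E = {a ^ i b ^ j z₀ ^ k}`.
`E` is not commutative: otherwise `P = E ⟨z₁⟩` is.  The isomorphism: `E × zpowers z₁ ≃* P` (`Subgroup.IsComplement'`, both normal and commuting: `MonoidHom.noncommCoprod`/`Subgroup.mulEquiv...`; or by hand
`(e, k) ↦ e * z₁ ^ k.val`, bijective by counting) and `zpowers z₁ ≃* Multiplicative (ZMod p)` (`zmodCyclicMulEquiv`, `zpowersMulEquiv..`, `orderOf z₁ = p`). -/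
theorem split (C : C2 p P) (hZe : ∀ z ∈ Subgroup.center P, z ^ p = 1)
    (hΦ : ∀ g : P, g ^ p ∈ commutator P) :
    ∃ E : Subgroup P, Nat.card E = p ^ 3 ∧ (¬ ∀ a b : E, a * b = b * a) ∧
      Nonempty (P ≃* E × Multiplicative (ZMod p)) := by
  have hpp := hp.out
  have hfin : Finite P := Nat.finite_of_card_ne_zero (by rw [C.card]; exact pow_ne_zero _ hpp.ne_zero)
  -- a central element outside the commutator subgroup
  obtain ⟨z₁, hz₁Z, hz₁D⟩ : ∃ z₁ ∈ Subgroup.center P, z₁ ∉ commutator P := by
    by_contra h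
    push Not at h
    have h1 : Subgroup.center P = commutator P := le_antisymm h C.D_le
    have h2 := C.cardZ
    rw [h1, C.cardD] at h2
    have := Nat.pow_right_injective hpp.two_le ((pow_one p).trans h2)
    omega
  have hsurj : Function.Surjective (Abelianization.of : P →* Abelianization P) :=
    QuotientGroup.mk'_surjective _
  have hexp : ∀ x : Abelianization P, x ^ p = 1 := by
    intro x
    obtain ⟨g, rfl⟩ := hsurj x
    rw [← map_pow, ← MonoidHom.mem_ker, Abelianization.ker_of]
    exact hΦ g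
  have hy : (Abelianization.of z₁ : Abelianization P) ≠ 1 := by
    intro h
    rw [← MonoidHom.mem_ker, Abelianization.ker_of] at h
    exact hz₁D h
  obtain ⟨C₀, hC₀, hC₀c⟩ := H17E4Ab211.exists_compl (p := p) (G := Abelianization P)
    (fun a b => mul_comm a b) hexp _ hy
  let E : Subgroup P := C₀.comap Abelianization.of
  have hz₁E : z₁ ∉ E := hC₀
  have hidx : E.index = p := by
    have h1 : E.index = C₀.index := Subgroup.index_comap_of_surjective C₀ hsurj
    rw [h1]
    have h2 := Subgroup.card_mul_index C₀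
    rw [← hC₀c] at h2
    exact Nat.eq_of_mul_eq_mul_left Nat.card_pos h2
  have hEc : Nat.card E = p ^ 3 := by
    have h2 := Subgroup.card_mul_index E
    rw [hidx, C.card] at h2
    have : Nat.card E * p = p ^ 3 * p := by rw [h2]; ring
    exact Nat.eq_of_mul_eq_mul_right hpp.pos this
  have hz₁1 : z₁ ≠ 1 := fun h => hz₁E (h ▸ E.one_mem)
  have hoz : orderOf z₁ = p := orderOf_eq_prime (hZe z₁ hz₁Z) hz₁1
  have hdisj : ∀ w ∈ Subgroup.zpowers z₁, w ∈ E → w = 1 := by
    intro w hw hwE
    by_contra hw1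
    have hwZ : w ∈ Subgroup.center P := Subgroup.zpowers_le.2 hz₁Z hw
    have how : orderOf w = p := orderOf_eq_prime (hZe w hwZ) hw1
    have h1 : Subgroup.zpowers w = Subgroup.zpowers z₁ := by
      apply Subgroup.eq_of_le_of_card_ge (Subgroup.zpowers_le.2 hw)
      rw [Nat.card_zpowers, Nat.card_zpowers, how, hoz]
    have h2 : z₁ ∈ Subgroup.zpowers w := h1 ▸ Subgroup.mem_zpowers z₁
    exact hz₁E (Subgroup.zpowers_le.2 hwE h2)
  obtain ⟨e⟩ := H17E4Ab211.prod_iso E z₁ (fun g _ => ((Subgroup.mem_center_iff.1 hz₁Z) g))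
    p hoz hdisj (by rw [hEc, C.card]; ring)
  refine ⟨E, hEc, ?_, ⟨e⟩⟩
  intro hEab
  have hPab : ∀ a b : P, a * b = b * a := by
    intro a b
    apply e.injective
    rw [map_mul, map_mul]
    ext1
    · exact hEab _ _
    · exact mul_comm _ _
  have : Subgroup.center P = ⊤ := by
    rw [eq_top_iff]
    intro g _
    rw [Subgroup.mem_center_iff]
    intro h
    exact hPab h g
  have h2 := C.cardZ
  rw [this, Subgroup.card_top, C.card] at h2
  have := Nat.pow_right_injective hpp.two_le h2
  omega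

end Cfsg.Agent.Lib.H17E4Split
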