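import Cfsg.Agent.Lib.H33I2Defs
import Cfsg.Agent.Lib.Helper51PCore

set_option autoImplicit false

namespace Cfsg.Agent.Lib.H33I2Transport

open Cfsg Cfsg.Agent.Lib.H33I2Defs

theorem frattini_map_equiv {P P' : Type*} [Group P] [Group P'] (e : P ≃* P') :
    (frattini P).map e.toMonoidHom = frattini P' := by
  apply le_antisymm
  · rw [Subgroup.map_le_iff_le_comap]
    exact frattini_le_comap_frattini_of_surjective (φ := e.toMonoidHom) e.surjective
  · have h := frattini_le_comap_frattini_of_surjective (φ := e.symm.toMonoidHom) e.symm.surjective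
    intro x hx
    have h2 := h hx
    exact ⟨e.symm x, h2, by simp⟩

theorem center_map_equiv {P P' : Type*} [Group P] [Group P'] (e : P ≃* P') :
    (Subgroup.center P).map e.toMonoidHom = Subgroup.center P' := by
  ext x
  constructor
  · rintro ⟨y, hy, rfl⟩
    rw [Subgroup.mem_center_iff]
    intro g
    have h := (Subgroup.mem_center_iff.1 hy) (e.symm g)
    have h2 := congrArg e h
    simpa using h2
  · intro hx
    refine ⟨e.symm x, ?_, by simp⟩
    rw [SetLike.mem_coe, Subgroup.mem_center_iff]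
    intro g
    have h := (Subgroup.mem_center_iff.1 hx) (e g)
    apply e.injective
    simpa using h

theorem commutator_map_equiv {P P' : Type*} [Group P] [Group P'] (e : P ≃* P') :
    (commutator P).map e.toMonoidHom = commutator P' := by
  rw [commutator_def, commutator_def, Subgroup.map_commutator,
    Subgroup.map_top_of_surjective _ e.surjective]

theorem isExtraspecial_equiv {P P' : Type*} [Group P] [Group P'] (e : P ≃* P') {p : ℕ}
    (h : Cfsg.IsExtraspecial p P) : Cfsg.IsExtraspecial p P' := by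
  obtain ⟨⟨h1, h2, h3⟩, h4⟩ := h
  refine ⟨⟨h1.of_equiv e, ?_, ?_⟩, ?_⟩
  · rw [← frattini_map_equiv e, ← center_map_equiv e, h2]
  · rw [← commutator_map_equiv e, ← center_map_equiv e, h3]
  · rw [← center_map_equiv e, Subgroup.card_map_of_injective e.injective, h4]

theorem transport_core {C C' : Type*} [Group C] [Group C'] (ε : C ≃* C') (S : Type*) [Group S]
    (h : Cfsg.IsExtraspecial 2 (Cfsg.pCore 2 C) ∧ Nat.card (Cfsg.pCore 2 C) = 2 ^ 9 ∧
      Nonempty (C ⧸ Cfsg.pCore 2 C ≃* S)) :
    Cfsg.IsExtraspecial 2 (Cfsg.pCore 2 C') ∧ Nat.card (Cfsg.pCore 2 C') = 2 ^ 9 ∧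
      Nonempty (C' ⧸ Cfsg.pCore 2 C' ≃* S) := by
  obtain ⟨h1, h2, ⟨h3⟩⟩ := h
  have hm : (Cfsg.pCore 2 C).map ε.toMonoidHom = Cfsg.pCore 2 C' :=
    Cfsg.Agent.Lib.Helper51PCore.pCore_map_equiv ε
  let δ : ↥(Cfsg.pCore 2 C) ≃* ↥(Cfsg.pCore 2 C') :=
    (ε.subgroupMap (Cfsg.pCore 2 C)).trans (MulEquiv.subgroupCongr hm)
  refine ⟨isExtraspecial_equiv δ h1, ?_, ⟨?_⟩⟩
  · rw [← Nat.card_congr δ.toEquiv, h2]
  · exact (QuotientGroup.congr (Cfsg.pCore 2 C) (Cfsg.pCore 2 C') ε hm).symm.trans h3

/-- `HasInv` is invariant under isomorphism. -/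
theorem transport {G H : Type*} [Group G] [Group H] (e : G ≃* H) (S : Type*) [Group S]
    (h : HasInv G S) : HasInv H S := by
  obtain ⟨t, ht, h⟩ := h
  refine ⟨e t, ?_, ?_⟩
  · rw [← ht]; exact e.orderOf_eq t
  have hm : (Subgroup.centralizer ({t} : Set G)).map e.toMonoidHom =
      Subgroup.centralizer ({e t} : Set H) := by
    ext x
    constructor
    · rintro ⟨y, hy, rfl⟩
      rw [Subgroup.mem_centralizer_singleton_iff]
      have h := Subgroup.mem_centralizer_singleton_iff.1 hy
      have h2 := congrArg e h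
      simpa using h2
    · intro hx
      refine ⟨e.symm x, ?_, by simp⟩
      rw [SetLike.mem_coe, Subgroup.mem_centralizer_singleton_iff]
      have h := Subgroup.mem_centralizer_singleton_iff.1 hx
      apply e.injective
      simpa using h
  exact transport_core
    ((e.subgroupMap (Subgroup.centralizer ({t} : Set G))).trans (MulEquiv.subgroupCongr hm)) S h

end Cfsg.Agent.Lib.H33I2Transport
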