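import Cfsg.Agent.Lib.Helper17E4Defs
import Cfsg.Agent.Lib.H17E4Split
import Cfsg.Agent.Lib.Helper89PCube
import Cfsg.Agent.Lib.H33I2Transport

/-!
PROJECT 5188 (row S5188, essential subgroups of order `p ^ 4`), piece OddB.  See notes/helper17/E4/README.md.
-/

set_option autoImplicit false
set_option linter.unusedVariables false
set_option linter.unusedSectionVars false

namespace Cfsg.Agent.Lib.H17E4OddB

open scoped commutatorElement
open Cfsg.Agent.Lib.Helper17E4Defs Cfsg.Agent.Lib.H17E4Split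

variable {P : Type*} [Group P] {p : ℕ} [hp : Fact p.Prime]

theorem to_type {E₀ : Type*} [Group E₀] [Finite E₀] :
    ∃ (E : Type) (_ : Group E) (_ : Finite E), Nonempty (E ≃* E₀) := by
  have key : ∀ (X : Type) (f : X ≃ E₀) [Finite X],
      ∃ (E : Type) (_ : Group E) (_ : Finite E), Nonempty (E ≃* E₀) := by
    intro X f _
    let gi : Group X := f.group
    exact ⟨X, gi, inferInstance, ⟨f.mulEquiv⟩⟩
  exact key (Fin (Nat.card E₀)) (Finite.equivFin E₀).symm

/-- `split` (with `hΦ` trivial: `g ^ p = 1`), `Cfsg.Agent.Lib.Helper89PCube.isExtraspecial_of_card_cube` for `E₀ : Subgroup P`; then a copy of `E₀` in `Type`: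
`e : Fin (Nat.card E₀) ≃ E₀ := (Finite.equivFin E₀).symm`, `e.group`, `e.mulEquiv` (see `Cfsg.Agent.Lib.Helper45OspToType.to_type` for the pattern),
`Cfsg.Agent.Lib.H33I2Transport.isExtraspecial_equiv`, `MulEquiv.prodCongr`. -/
theorem odd_split (C : C2 p P) (hexp : ∀ x : P, x ^ p = 1) :
    ∃ (E : Type) (_ : Group E) (_ : Finite E), Cfsg.IsExtraspecial p E ∧ Nat.card E = p ^ 3 ∧
      (∀ x : E, x ^ p = 1) ∧ Nonempty (P ≃* E × Multiplicative (ZMod p)) := by
  have hpp := hp.out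
  have hfin : Finite P := Nat.finite_of_card_ne_zero (by rw [C.card]; exact pow_ne_zero _ hpp.ne_zero)
  obtain ⟨E₀, hEc, hEna, ⟨e⟩⟩ := split C (fun z _ => hexp z) (fun g => by rw [hexp g]; exact Subgroup.one_mem _)
  push Not at hEna
  have hES := Cfsg.Agent.Lib.Helper89PCube.isExtraspecial_of_card_cube hEc hEna
  obtain ⟨E, gi, hEfin, ⟨fe⟩⟩ := to_type (E₀ := E₀)
  refine ⟨E, gi, hEfin, ?_, ?_, ?_, ?_⟩
  · exact Cfsg.Agent.Lib.H33I2Transport.isExtraspecial_equiv fe.symm hES
  · rw [Nat.card_congr fe.toEquiv, hEc]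
  · intro x
    apply fe.injective
    rw [map_pow, map_one]
    exact Subtype.ext (hexp _)
  · exact ⟨e.trans (MulEquiv.prodCongr fe.symm (MulEquiv.refl _))⟩

end Cfsg.Agent.Lib.H17E4OddB
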