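import Cfsg.Agent.Lib.Helper17E4Defs

/-!
PROJECT 5188 (row S5188, essential subgroups of order `p ^ 4`), piece TwoB.  See notes/helper17/E4/README.md.
-/

set_option autoImplicit false
set_option linter.unusedVariables false
set_option linter.unusedSectionVars false

namespace Cfsg.Agent.Lib.H17E4TwoB

open scoped commutatorElement
open Cfsg.Agent.Lib.Helper17E4Defs

variable {P : Type*} [Group P] {p : ℕ} [hp : Fact p.Prime]

/-- the centraliser of a non central element has order `p ^ 3` -/
theorem card_centralizer (C : C2 p P) (g : P) (hg : g ∉ Subgroup.center P) :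
    Nat.card (Subgroup.centralizer ({g} : Set P)) = p ^ 3 := by
  have hpp := hp.out
  have hfin : Finite P := Nat.finite_of_card_ne_zero (by rw [C.card]; exact pow_ne_zero _ hpp.ne_zero)
  have hmem : ∀ x, x ∈ Subgroup.centralizer ({g} : Set P) ↔ g * x = x * g := by
    intro x
    simp [Subgroup.mem_centralizer_iff]
  have h1 : Subgroup.center P ≤ Subgroup.centralizer ({g} : Set P) := Subgroup.center_le_centralizer _
  have h2 : g ∈ Subgroup.centralizer ({g} : Set P) := (hmem g).2 rfl
  have h3 : Subgroup.centralizer ({g} : Set P) ≠ ⊤ := by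
    intro h
    apply hg
    rw [Subgroup.mem_center_iff]
    intro x
    exact ((hmem x).1 (h ▸ Subgroup.mem_top x)).symm
  have hdvd : Nat.card (Subgroup.centralizer ({g} : Set P)) ∣ p ^ 4 :=
    C.card ▸ Subgroup.card_subgroup_dvd_card _
  obtain ⟨k, hk, hk'⟩ := (Nat.dvd_prime_pow hpp).1 hdvd
  have hk4 : k ≠ 4 := by
    rintro rfl
    exact h3 (Subgroup.eq_top_of_card_eq _ (by rw [hk', C.card]))
  have hk2 : 2 < k := by
    by_contra hlt
    have h4 : Subgroup.center P = Subgroup.centralizer ({g} : Set P) := by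
      apply Subgroup.eq_of_le_of_card_ge h1
      rw [hk', C.cardZ]
      exact Nat.pow_le_pow_right hpp.pos (by omega)
    exact hg (h4 ▸ h2)
  have hk3 : k = 3 := by omega
  rw [hk', hk3]

/-- PURE MATHLIB (the case `D₈ × C₂`).  `P' = {1, z₀}`.  Facts: (i) `(g z) ^ 2 = g ^ 2` for `z ∈ Z` (`hsq`, `hZe`); (ii) if `g, h, g * h ∉ Z` then `⁅h, g⁆ = z₀ ≠ 1`: otherwise `g` commutes with `h`, and
`Z ⊔ ⟨g⟩ ⊔ ⟨h⟩ = ⊤` by orders (`|P : Z| = 4`), so `g` would be central; hence `(g h) ^ 2 = g ^ 2 h ^ 2 z₀`.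
Let `a ∉ Z`, `a ^ 2 = 1`.  Put `A₃ := {g | g ∈ Z ∨ g ^ 2 ≠ 1}`.  Pick `b ∉ Z ∪ aZ`; exactly one of `b`, `a b` has square `≠ 1`, call it `c` (`c ^ 2 = z₀`); the four cosets of `Z` are `Z, aZ, cZ, acZ` with squares
`1, 1, z₀, 1`, so `A₃ = Z ∪ cZ = Z ⊔ zpowers c` is a subgroup of order `8`; it is invariant since its defining condition is (`inv_center`, `map_pow`).  Chain `commutator P ≤ Z ≤ A₃`. -/
theorem two_chainB (C : C2 2 P) (hZe : ∀ z ∈ Subgroup.center P, z ^ 2 = 1)
    (hsq : ∀ g h : P, (g * h) ^ 2 = g ^ 2 * h ^ 2 * ⁅h, g⁆) (hall : ∀ g : P, g ^ 2 ∈ commutator P)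
    (hinv : ∃ g : P, g ∉ Subgroup.center P ∧ g ^ 2 = 1) : HasChain 2 P := by
  have hfin : Finite P := Nat.finite_of_card_ne_zero (by rw [C.card]; norm_num)
  obtain ⟨a, haZ, ha2⟩ := hinv
  have hmem : ∀ g x : P, x ∈ Subgroup.centralizer ({g} : Set P) ↔ g * x = x * g := by
    intro g x
    simp [Subgroup.mem_centralizer_iff]
  -- the centraliser of `a` is `Z ∪ a Z`
  have hstar : ∀ x : P, a * x = x * a → x ∈ Subgroup.center P ∨ a⁻¹ * x ∈ Subgroup.center P := by
    intro x hx
    by_contra hcon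
    push Not at hcon
    obtain ⟨hx1, hx2⟩ := hcon
    have hle : Subgroup.center P ≤ Subgroup.centralizer ({a} : Set P) := Subgroup.center_le_centralizer _
    have hidx : ((Subgroup.center P).subgroupOf (Subgroup.centralizer ({a} : Set P))).index = 2 := by
      have h1 := Subgroup.relIndex_mul_index hle
      have h2 := Subgroup.card_mul_index (Subgroup.center P)
      have h3 := Subgroup.card_mul_index (Subgroup.centralizer ({a} : Set P))
      rw [C.cardZ, C.card] at h2
      rw [card_centralizer C a haZ, C.card] at h3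
      have h4 : (Subgroup.center P).index = 4 := by omega
      have h5 : (Subgroup.centralizer ({a} : Set P)).index = 2 := by omega
      rw [h4, h5] at h1
      show (Subgroup.center P).relIndex _ = 2
      omega
    have ha' : a⁻¹ ∈ Subgroup.centralizer ({a} : Set P) := Subgroup.inv_mem _ ((hmem a a).2 rfl)
    have hx' : x ∈ Subgroup.centralizer ({a} : Set P) := (hmem a x).2 hx
    have := Subgroup.mul_mem_iff_of_index_two hidx (a := ⟨a⁻¹, ha'⟩) (b := ⟨x, hx'⟩)
    simp only [Subgroup.mem_subgroupOf] at this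
    apply hx2
    apply this.2
    constructor
    · intro h
      exact absurd ((Subgroup.inv_mem_iff _).1 h) haZ
    · intro h
      exact absurd h hx1
  -- two non trivial elements of `P'` are equal
  have huniq : ∀ x y : P, x ∈ commutator P → y ∈ commutator P → x ≠ 1 → y ≠ 1 → x = y := by
    intro x y hx hy hx1 hy1
    obtain ⟨w, -, hw⟩ := (Nat.card_eq_two_iff' (1 : commutator P)).1 C.cardD
    have h1 := hw ⟨x, hx⟩ (fun h => hx1 (congrArg Subtype.val h))
    have h2 := hw ⟨y, hy⟩ (fun h => hy1 (congrArg Subtype.val h))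
    exact congrArg Subtype.val (h1.trans h2.symm)
  have hcm : ∀ g h : P, ⁅g, h⁆ ∈ commutator P := fun g h =>
    Subgroup.commutator_mem_commutator (Subgroup.mem_top g) (Subgroup.mem_top h)
  have hsqz : ∀ (g z : P), z ∈ Subgroup.center P → (g * z) ^ 2 = g ^ 2 := by
    intro g z hz
    have h1 : ⁅z, g⁆ = 1 := by
      rw [commutatorElement_eq_one_iff_mul_comm]
      exact (Subgroup.mem_center_iff.1 hz g).symm
    rw [hsq, hZe z hz, h1, mul_one, mul_one]
  -- an element of order four does not commute with `a`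
  have hc1 : ∀ c : P, c ^ 2 ≠ 1 → ⁅a, c⁆ ≠ 1 := by
    intro c hc h
    rw [commutatorElement_eq_one_iff_mul_comm] at h
    rcases hstar c h with h1 | h1
    · exact hc (hZe c h1)
    · apply hc
      have : c = a * (a⁻¹ * c) := by group
      rw [this, hsqz a _ h1, ha2]
  -- two elements of order four differ by a central element
  have hc2 : ∀ c c' : P, c ^ 2 ≠ 1 → c' ^ 2 ≠ 1 → c⁻¹ * c' ∈ Subgroup.center P := by
    intro c c' hc hc'
    have h1 : ⁅c, a⁆ = ⁅c', a⁆ := by
      apply huniq _ _ (hcm _ _) (hcm _ _)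
      · intro h
        apply hc1 c hc
        rw [← commutatorElement_inv, h, inv_one]
      · intro h
        apply hc1 c' hc'
        rw [← commutatorElement_inv, h, inv_one]
    have h2 : c * a * c⁻¹ = c' * a * c'⁻¹ := by
      rw [commutatorElement_def, commutatorElement_def] at h1
      exact mul_right_cancel h1
    have h3 : a * (c⁻¹ * c') = (c⁻¹ * c') * a := by
      have : a = c⁻¹ * (c * a * c⁻¹) * c := by group
      calc a * (c⁻¹ * c') = c⁻¹ * (c * a * c⁻¹) * c' := by group
        _ = c⁻¹ * (c' * a * c'⁻¹) * c' := by rw [h2]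
        _ = (c⁻¹ * c') * a := by group
    rcases hstar _ h3 with h4 | h4
    · exact h4
    · exfalso
      apply hc'
      have h5 : c' = (c * a) * (a⁻¹ * (c⁻¹ * c')) := by group
      have h6 : c ^ 2 = ⁅a, c⁆ := huniq _ _ (hall c) (hcm _ _) hc (hc1 c hc)
      rw [h5, hsqz _ _ h4, hsq, ha2, mul_one, ← h6, ← pow_two, ← pow_mul]
      have h7 : (c ^ 2) ^ 2 = 1 := hZe _ (C.D_le (hall c))
      rw [← pow_mul] at h7
      exact h7
  -- an element of order four
  obtain ⟨c, hc⟩ : ∃ c : P, c ^ 2 ≠ 1 := by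
    by_contra h
    push Not at h
    apply haZ
    rw [Subgroup.mem_center_iff]
    intro g
    have h1 := hsq a g
    rw [h, h, h, one_mul, one_mul] at h1
    exact commutatorElement_eq_one_iff_mul_comm.1 h1.symm
  have hcZ : c ∉ Subgroup.center P := fun h => hc (hZe c h)
  refine ⟨commutator P, Subgroup.center P, Subgroup.centralizer ({c} : Set P), C.D_le,
    Subgroup.center_le_centralizer _, C.cardD, C.cardZ, card_centralizer C c hcZ, inv_commutator,
    inv_center, ?_⟩
  intro γ x hx
  rw [hmem] at hx ⊢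
  have h1 : (γ c) ^ 2 ≠ 1 := by
    rw [← map_pow]
    intro h
    apply hc
    apply γ.injective
    rw [h, map_one]
  have h2 := hc2 c (γ c) hc h1
  have h3 : γ c * γ x = γ x * γ c := by rw [← map_mul, hx, map_mul]
  have h4 := Subgroup.mem_center_iff.1 (Subgroup.inv_mem _ h2) (γ x)
  have h5 : c = γ c * (c⁻¹ * γ c)⁻¹ := by group
  rw [h5, mul_assoc, ← h4, ← mul_assoc, h3, mul_assoc]

end Cfsg.Agent.Lib.H17E4TwoB
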