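import Cfsg.Agent.Lib.Helper17E4Defs
import Cfsg.Agent.Lib.H17E4Split
import Cfsg.Agent.Lib.Helper41Dic

/-!
PROJECT 5188 (row S5188, essential subgroups of order `p ^ 4`), piece TwoC.  See notes/helper17/E4/README.md.
-/

set_option autoImplicit false
set_option linter.unusedVariables false
set_option linter.unusedSectionVars false

namespace Cfsg.Agent.Lib.H17E4TwoC

open scoped commutatorElement
open Cfsg.Agent.Lib.Helper17E4Defs Cfsg.Agent.Lib.H17E4Split

variable {P : Type*} [Group P] {p : ℕ} [hp : Fact p.Prime]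

/-- `split` gives `E` of order `8`, not commutative, `P ≃* E × C₂`.  `E ≃* QuaternionGroup 2`: every `x : E` with `x ^ 2 = 1` is central in `P` (`hall`), hence central in `E`; a non commutative group of order `8`
all of whose involutions are central is `Q₈`.  Use the landed `Cfsg.Agent.Lib.Helper89PCube2.struct` (with `p = 2`: it needs `NoChain 2 E`: if `A₁ ≤ A₂` are invariant of orders `2`, `4`, ... ) or better look at its proof /
at `Helper89PCube2.inverts`, `center_cases` for the direct recognition of `Q₈` (elements `a, b` of order `4` with `a ^ 2 = b ^ 2`, `b a b⁻¹ = a⁻¹`; map `QuaternionGroup 2 → E`, `a i ↦ a ^ i`, `xa i ↦ b * a ^ i`..., bijective by counting);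
`grep -rn "QuaternionGroup 2" Cfsg/Agent/Lib` for other landed recognitions.  Finally `MulEquiv.prodCongr`. -/
theorem two_quat (C : C2 2 P) (hZe : ∀ z ∈ Subgroup.center P, z ^ 2 = 1)
    (hall' : ∀ g : P, g ^ 2 ∈ commutator P) (hall : ∀ g : P, g ^ 2 = 1 → g ∈ Subgroup.center P) :
    Nonempty (P ≃* QuaternionGroup 2 × Multiplicative (ZMod 2)) := by
  have hfin : Finite P := Nat.finite_of_card_ne_zero (by rw [C.card]; norm_num)
  have : Fact (Nat.Prime 2) := ⟨Nat.prime_two⟩
  obtain ⟨E, hEc, hEna, ⟨e⟩⟩ := split C hZe hall'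
  push Not at hEna
  obtain ⟨⟨a, haE⟩, ⟨b, hbE⟩, hab⟩ := hEna
  have hab' : a * b ≠ b * a := fun h => hab (Subtype.ext h)
  have huniq : ∀ x y : P, x ∈ commutator P → y ∈ commutator P → x ≠ 1 → y ≠ 1 → x = y := by
    intro x y hx hy hx1 hy1
    obtain ⟨w, -, hw⟩ := (Nat.card_eq_two_iff' (1 : commutator P)).1 C.cardD
    have h1 := hw ⟨x, hx⟩ (fun h => hx1 (congrArg Subtype.val h))
    have h2 := hw ⟨y, hy⟩ (fun h => hy1 (congrArg Subtype.val h))
    exact congrArg Subtype.val (h1.trans h2.symm)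
  have hcm : ∀ g h : P, ⁅g, h⁆ ∈ commutator P := fun g h =>
    Subgroup.commutator_mem_commutator (Subgroup.mem_top g) (Subgroup.mem_top h)
  have ha2 : a ^ 2 ≠ 1 := by
    intro h
    exact hab' ((Subgroup.mem_center_iff.1 (hall a h) b).symm)
  have hb2 : b ^ 2 ≠ 1 := by
    intro h
    exact hab' (Subgroup.mem_center_iff.1 (hall b h) a)
  have hba : ⁅b, a⁆ ≠ 1 := by
    intro h
    exact hab' (commutatorElement_eq_one_iff_mul_comm.1 h).symm
  have h1 : b ^ 2 = a ^ 2 := huniq _ _ (hall' b) (hall' a) hb2 ha2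
  have h2 : ⁅b, a⁆ = a ^ 2 := huniq _ _ (hcm _ _) (hall' a) hba ha2
  have ha4 : a ^ 4 = 1 := by
    have h7 : (a ^ 2) ^ 2 = 1 := hZe _ (C.D_le (hall' a))
    rw [← pow_mul] at h7
    exact h7
  have hoa : orderOf a = 2 * 2 := by
    have := orderOf_eq_prime_pow (p := 2) (n := 1) (x := a) (by simpa using ha2) (by simpa using ha4)
    simpa using this
  have h3 : b * a * b⁻¹ = a⁻¹ := by
    rw [commutatorElement_def] at h2
    have h4 : b * a * b⁻¹ = a ^ 2 * a := by rw [← h2]; group
    rw [h4, eq_inv_iff_mul_eq_one, ← pow_succ, ← pow_succ]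
    exact ha4
  have h5 : b ∉ Subgroup.zpowers a := by
    intro h
    obtain ⟨k, rfl⟩ := Subgroup.mem_zpowers_iff.1 h
    apply hab'
    rw [← zpow_one_add, ← zpow_add_one, add_comm]
  obtain ⟨e2⟩ := Cfsg.Agent.Lib.Helper41Dic.nonempty_equiv_quaternion 2 E a b haE hbE hoa h1 h3 h5
    (by rw [hEc]; norm_num)
  exact ⟨e.trans (MulEquiv.prodCongr e2 (MulEquiv.refl _))⟩

end Cfsg.Agent.Lib.H17E4TwoC
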