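import Cfsg.Agent.Lib.Helper17E4Defs

/-!
PROJECT 5188 (row S5188, essential subgroups of order `p ^ 4`), piece ZCyc.  See notes/helper17/E4/README.md.
-/

set_option autoImplicit false
set_option linter.unusedVariables false
set_option linter.unusedSectionVars false

namespace Cfsg.Agent.Lib.H17E4ZCyc

open scoped commutatorElement
open Cfsg.Agent.Lib.Helper17E4Defs

variable {P : Type*} [Group P] {p : ℕ} [hp : Fact p.Prime]

/-- PURE MATHLIB.  Suppose `x ^ (p ^ 2) ≠ 1`.  `φ : P →* P`, `g ↦ g ^ (p ^ 2)` (`hpow`), `K := φ.ker` (invariant: `inv_ker`, `map_pow`).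
`φ g = (g ^ p) ^ p` with `g ^ p ∈ Z := center P`, so `φ.range ≤ R := {z ^ p | z ∈ Z}` which has order `p`: `Z` is cyclic of order `p ^ 2`, the `p`-th power endomorphism of `Z` has
kernel of order `p` (`IsCyclic.card_pow_eq_one_le` / `IsCyclic.card_orderOf_eq_totient` / a generator `ζ`: `R = zpowers (ζ ^ p)`, `orderOf_pow`).  `φ.range ≠ ⊥`, so `|φ.range| = p`,
`|K| = p ^ 3` (`Subgroup.card_eq_card_quotient_mul_card_subgroup`, `QuotientGroup.quotientKerEquivRange`).  `Z ≤ K` (`pow_card_eq_one'`).  Chain `commutator P ≤ Z ≤ K`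
(`C.D_le`, `C.cardD`, `C.cardZ`, `inv_commutator`, `inv_center`). -/
theorem zcyc (C : C2 p P) (hc : IsCyclic (Subgroup.center P))
    (hpow : ∀ g h : P, (g * h) ^ (p ^ 2) = g ^ (p ^ 2) * h ^ (p ^ 2)) :
    HasChain p P ∨ ∀ x : P, x ^ (p ^ 2) = 1 := by
  have hpp := hp.out
  have hfin : Finite P := Nat.finite_of_card_ne_zero (by rw [C.card]; exact pow_ne_zero _ hpp.ne_zero)
  by_cases hall : ∀ x : P, x ^ (p ^ 2) = 1
  · exact Or.inr hall
  left
  push Not at hall
  obtain ⟨x, hx⟩ := hall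
  let φ : P →* P :=
    { toFun := fun g => g ^ (p ^ 2)
      map_one' := one_pow _
      map_mul' := hpow }
  have hφ : ∀ g, φ g = g ^ (p ^ 2) := fun g => rfl
  obtain ⟨ζ, hζ⟩ := hc.exists_generator
  have hoζ : orderOf (ζ : P) = p ^ 2 := by
    rw [Subgroup.orderOf_coe, orderOf_eq_card_of_forall_mem_zpowers hζ, C.cardZ]
  have hoζp : orderOf ((ζ : P) ^ p) = p := by
    rw [orderOf_pow_of_dvd hpp.ne_zero (by rw [hoζ]; exact dvd_pow_self p (by norm_num)), hoζ, pow_two,
      Nat.mul_div_cancel _ hpp.pos]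
  have hle : φ.range ≤ Subgroup.zpowers ((ζ : P) ^ p) := by
    rintro _ ⟨g, rfl⟩
    obtain ⟨k, hk⟩ := Subgroup.mem_zpowers_iff.1 (hζ ⟨g ^ p, C.pow_mem g⟩)
    have hk' : (ζ : P) ^ k = g ^ p := by
      have := congrArg Subtype.val hk
      simpa using this
    rw [hφ, pow_two, pow_mul, ← hk', Subgroup.mem_zpowers_iff]
    refine ⟨k, ?_⟩
    rw [← zpow_natCast, ← zpow_natCast, ← zpow_mul, ← zpow_mul, mul_comm]
  have hrange : Nat.card φ.range = p := by
    have h1 : Nat.card φ.range ∣ p := by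
      have := Subgroup.card_dvd_of_le hle
      rwa [Nat.card_zpowers, hoζp] at this
    rcases (Nat.dvd_prime hpp).1 h1 with h | h
    · exfalso
      have h2 : φ.range = ⊥ := Subgroup.card_eq_one.1 h
      have h3 : φ x ∈ φ.range := ⟨x, rfl⟩
      rw [h2, Subgroup.mem_bot] at h3
      exact hx h3
    · exact h
  have hK : Nat.card φ.ker = p ^ 3 := by
    have h5 := Subgroup.card_mul_index φ.ker
    rw [C.card, Subgroup.index_ker, hrange] at h5
    have : Nat.card φ.ker * p = p ^ 3 * p := by rw [h5]; ring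
    exact Nat.eq_of_mul_eq_mul_right hpp.pos this
  have hZK : Subgroup.center P ≤ φ.ker := by
    intro z hz
    rw [MonoidHom.mem_ker, hφ]
    have h1 : (⟨z, hz⟩ : Subgroup.center P) ^ (p ^ 2) = 1 := by
      rw [← C.cardZ]
      exact pow_card_eq_one'
    exact congrArg Subtype.val h1
  refine ⟨commutator P, Subgroup.center P, φ.ker, C.D_le, hZK, C.cardD, C.cardZ, hK, inv_commutator,
    inv_center, inv_ker φ ?_⟩
  intro γ g hg
  rw [hφ] at hg ⊢
  rw [← map_pow, hg, map_one]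

end Cfsg.Agent.Lib.H17E4ZCyc
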