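import Cfsg.Agent.Lib.Helper17E4Defs

/-!
PROJECT 5188 (row S5188, essential subgroups of order `p ^ 4`), piece ZP3.  See notes/helper17/E4/README.md.
-/

set_option autoImplicit false
set_option linter.unusedVariables false
set_option linter.unusedSectionVars false

namespace Cfsg.Agent.Lib.H17E4ZP3

open scoped commutatorElement
open Cfsg.Agent.Lib.Helper17E4Defs

variable {P : Type*} [Group P] {p : ℕ} [hp : Fact p.Prime]

/-- the commutator homomorphism `g ↦ ⁅w, g⁆` when all these commutators are central -/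
def commHom (w : P) (hw : ∀ g, ⁅w, g⁆ ∈ Subgroup.center P) : P →* Subgroup.center P where
  toFun g := ⟨⁅w, g⁆, hw g⟩
  map_one' := by
    ext
    simp
  map_mul' g h := by
    ext
    simp only [Subgroup.coe_mul]
    have hc := Subgroup.mem_center_iff.1 (hw h) g
    calc ⁅w, g * h⁆ = ⁅w, g⁆ * (g * ⁅w, h⁆) * g⁻¹ := by
          simp only [commutatorElement_def]; group
      _ = ⁅w, g⁆ * (⁅w, h⁆ * g) * g⁻¹ := by rw [hc]
      _ = ⁅w, g⁆ * ⁅w, h⁆ := by group

theorem mem_ker_commHom (w : P) (hw : ∀ g, ⁅w, g⁆ ∈ Subgroup.center P) (g : P) :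
    g ∈ (commHom w hw).ker ↔ w * g = g * w := by
  rw [MonoidHom.mem_ker, ← commutatorElement_eq_one_iff_mul_comm]
  constructor
  · intro h
    exact congrArg Subtype.val h
  · intro h
    exact Subtype.ext h

theorem card_ker_commHom (hcard : Nat.card P = p ^ 4) (hZ : Nat.card (Subgroup.center P) = p)
    (w : P) (hw : ∀ g, ⁅w, g⁆ ∈ Subgroup.center P) (hwZ : w ∉ Subgroup.center P) :
    Nat.card (commHom w hw).ker = p ^ 3 ∧ (commHom w hw).ker.index = p := by
  have hpp := hp.out
  have h1 := (commHom w hw).ker.card_mul_index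
  have h2 : (commHom w hw).ker.index = p := by
    rw [Subgroup.index_ker]
    have hd : Nat.card (commHom w hw).range ∣ p := hZ ▸ Subgroup.card_subgroup_dvd_card _
    rcases (Nat.dvd_prime hpp).1 hd with h | h
    · exfalso
      apply hwZ
      rw [Subgroup.card_eq_one, MonoidHom.range_eq_bot_iff] at h
      rw [Subgroup.mem_center_iff]
      intro g
      have : g ∈ (commHom w hw).ker := by rw [h]; exact MonoidHom.mem_ker.2 rfl
      exact ((mem_ker_commHom w hw g).1 this).symm
    · exact h
  refine ⟨?_, h2⟩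
  rw [h2, hcard] at h1
  have : Nat.card (commHom w hw).ker * p = p ^ 3 * p := by rw [h1]; ring
  exact Nat.eq_of_mul_eq_mul_right hpp.pos this

/-- PURE MATHLIB. -/
theorem chain_of_second_center (hcard : Nat.card P = p ^ 4) (hZ : Nat.card (Subgroup.center P) = p)
    (A₂ : Subgroup P) (hZA : Subgroup.center P ≤ A₂) (hA₂ : Nat.card A₂ = p ^ 2) (hinv : AInv A₂)
    (hc : ∀ x ∈ A₂, ∀ g : P, ⁅x, g⁆ ∈ Subgroup.center P) : HasChain p P := by
  have hpp := hp.out
  have hfin : Finite P := Nat.finite_of_card_ne_zero (by rw [hcard]; exact pow_ne_zero _ hpp.ne_zero)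
  -- pick `w`
  obtain ⟨w, hwA, hwZ⟩ : ∃ w ∈ A₂, w ∉ Subgroup.center P := by
    by_contra hcon
    push Not at hcon
    have : Nat.card A₂ ≤ Nat.card (Subgroup.center P) := Subgroup.card_le_of_le hcon
    rw [hA₂, hZ] at this
    have h2 : p * 2 ≤ p * p := Nat.mul_le_mul_left p hpp.two_le
    nlinarith [hpp.pos]
  have hw := hc w hwA
  obtain ⟨hk3, -⟩ := card_ker_commHom hcard hZ w hw hwZ
  -- `A₂ = Z ⊔ zpowers w`
  have hsup : Subgroup.center P ⊔ Subgroup.zpowers w = A₂ := by
    have hle : Subgroup.center P ⊔ Subgroup.zpowers w ≤ A₂ :=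
      sup_le hZA (by rw [Subgroup.zpowers_le]; exact hwA)
    apply Subgroup.eq_of_le_of_card_ge hle
    have hd : Nat.card (Subgroup.center P ⊔ Subgroup.zpowers w : Subgroup P) ∣ p ^ 2 :=
      hA₂ ▸ Subgroup.card_dvd_of_le hle
    obtain ⟨k, hk, hk'⟩ := (Nat.dvd_prime_pow hpp).1 hd
    have hlt : Subgroup.center P < Subgroup.center P ⊔ Subgroup.zpowers w := by
      refine lt_of_le_of_ne le_sup_left ?_
      intro h
      apply hwZ
      rw [h]
      exact (le_sup_right : Subgroup.zpowers w ≤ _) (Subgroup.mem_zpowers w)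
    have hcl : Nat.card (Subgroup.center P) <
        Nat.card (Subgroup.center P ⊔ Subgroup.zpowers w : Subgroup P) := by
      by_contra hge
      push Not at hge
      exact hlt.ne (Subgroup.eq_of_le_of_card_ge hlt.le hge)
    rw [hZ, hk'] at hcl
    rw [hA₂, hk']
    interval_cases k
    · exfalso
      rw [pow_zero] at hcl
      exact absurd hcl (by have := hpp.pos; omega)
    · exfalso
      rw [pow_one] at hcl
      exact lt_irrefl _ hcl
    · exact le_rfl
  have hcent : Subgroup.centralizer (A₂ : Set P) = (commHom w hw).ker := by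
    ext g
    rw [mem_ker_commHom, Subgroup.mem_centralizer_iff]
    constructor
    · intro h
      exact h w hwA
    · intro h a ha
      have hle : A₂ ≤ Subgroup.centralizer ({g} : Set P) := by
        rw [← hsup]
        apply sup_le
        · intro z hz
          rw [Subgroup.mem_centralizer_singleton_iff]
          exact (Subgroup.mem_center_iff.1 hz g).symm
        · rw [Subgroup.zpowers_le, Subgroup.mem_centralizer_singleton_iff]
          exact h
      have := hle ha
      rw [Subgroup.mem_centralizer_singleton_iff] at this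
      exact this
  have hcomm : A₂ ≤ Subgroup.centralizer (A₂ : Set P) := by
    have := IsPGroup.isMulCommutative_of_card_eq_prime_sq hA₂
    intro a ha
    rw [Subgroup.mem_centralizer_iff]
    intro b hb
    have := mul_comm' (⟨b, hb⟩ : A₂) ⟨a, ha⟩
    exact congrArg Subtype.val this
  refine ⟨Subgroup.center P, A₂, Subgroup.centralizer (A₂ : Set P), hZA, hcomm, hZ, hA₂, ?_,
    inv_center, hinv, inv_centralizer hinv⟩
  rw [hcent]
  exact hk3

end Cfsg.Agent.Lib.H17E4ZP3
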