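import Cfsg.Agent.Lib.Helper17E4Defs
import Cfsg.Agent.Lib.Helper89PCube
import Cfsg.Agent.Lib.H17E4ZP3

/-!
PROJECT 5188 (row S5188, essential subgroups of order `p ^ 4`), piece ZP1.  See notes/helper17/E4/README.md.
-/

set_option autoImplicit false
set_option linter.unusedVariables false
set_option linter.unusedSectionVars false

namespace Cfsg.Agent.Lib.H17E4ZP1

open scoped commutatorElement
open Cfsg.Agent.Lib.Helper17E4Defs Cfsg.Agent.Lib.H17E4ZP3

variable {P : Type*} [Group P] {p : ℕ} [hp : Fact p.Prime]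

/-- PURE MATHLIB. -/
theorem exists_comm_not_mem (hcard : Nat.card P = p ^ 4) (hZ : Nat.card (Subgroup.center P) = p) :
    ∃ g h : P, ⁅g, h⁆ ∉ Subgroup.center P := by
  have hpp := hp.out
  have hfin : Finite P := Nat.finite_of_card_ne_zero (by rw [hcard]; exact pow_ne_zero _ hpp.ne_zero)
  by_contra hcon
  push Not at hcon
  -- pick `a ∉ Z`
  obtain ⟨a, haZ⟩ : ∃ a : P, a ∉ Subgroup.center P := by
    by_contra hall
    push Not at hall
    have : Subgroup.center P = ⊤ := (Subgroup.eq_top_iff' _).2 hall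
    rw [this, Subgroup.card_top, hcard] at hZ
    have h1 : p ^ 4 = p ^ 1 := by rw [hZ, pow_one]
    have := Nat.pow_right_injective hpp.two_le h1
    omega
  obtain ⟨hA3, hAi⟩ := card_ker_commHom hcard hZ a (hcon a) haZ
  set A := (commHom a (hcon a)).ker with hA
  have hmemA : ∀ g, g ∈ A ↔ a * g = g * a := mem_ker_commHom a (hcon a)
  -- `A` is commutative
  have hAcomm : ∀ x y : A, x * y = y * x := by
    by_contra hnc
    push Not at hnc
    have hcA := Cfsg.Agent.Lib.Helper89PCube.card_center_of_card_cube hA3 hnc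
    have hmap : Nat.card ((Subgroup.center A).map A.subtype) = p := by
      rw [Subgroup.card_map_of_injective A.subtype_injective, hcA]
    have hle : Subgroup.center P ≤ (Subgroup.center A).map A.subtype := by
      intro z hz
      have hzA : z ∈ A := (hmemA z).2 (Subgroup.mem_center_iff.1 hz a)
      refine ⟨⟨z, hzA⟩, ?_, rfl⟩
      rw [SetLike.mem_coe, Subgroup.mem_center_iff]
      intro g
      exact Subtype.ext (Subgroup.mem_center_iff.1 hz g)
    have heq := Subgroup.eq_of_le_of_card_ge hle (by rw [hmap, hZ])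
    apply haZ
    rw [heq]
    have haA : a ∈ A := (hmemA a).2 rfl
    refine ⟨⟨a, haA⟩, ?_, rfl⟩
    rw [SetLike.mem_coe, Subgroup.mem_center_iff]
    intro g
    exact Subtype.ext ((hmemA g).1 g.2).symm
  -- pick `b ∉ A`
  obtain ⟨b, hbA⟩ : ∃ b : P, b ∉ A := by
    by_contra hall
    push Not at hall
    apply haZ
    rw [Subgroup.mem_center_iff]
    intro g
    exact ((hmemA g).1 (hall g)).symm
  have hbZ : b ∉ Subgroup.center P := by
    intro h
    apply hbA
    exact (hmemA b).2 (Subgroup.mem_center_iff.1 h a)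
  obtain ⟨hB3, hBi⟩ := card_ker_commHom hcard hZ b (hcon b) hbZ
  set C := (commHom b (hcon b)).ker with hC
  have hmemC : ∀ g, g ∈ C ↔ b * g = g * b := mem_ker_commHom b (hcon b)
  -- `A ⊔ zpowers b = ⊤`
  have htop : A ⊔ Subgroup.zpowers b = ⊤ := by
    have hlt : A < A ⊔ Subgroup.zpowers b := by
      refine lt_of_le_of_ne le_sup_left ?_
      intro h
      apply hbA
      rw [h]
      exact (le_sup_right : Subgroup.zpowers b ≤ _) (Subgroup.mem_zpowers b)
    have hd : Nat.card (A ⊔ Subgroup.zpowers b : Subgroup P) ∣ p ^ 4 :=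
      hcard ▸ Subgroup.card_subgroup_dvd_card _
    obtain ⟨k, hk, hk'⟩ := (Nat.dvd_prime_pow hpp).1 hd
    have hcl : Nat.card A < Nat.card (A ⊔ Subgroup.zpowers b : Subgroup P) := by
      by_contra hge
      push Not at hge
      exact hlt.ne (Subgroup.eq_of_le_of_card_ge hlt.le hge)
    rw [hA3, hk'] at hcl
    have hk3 : 3 < k := (Nat.pow_lt_pow_iff_right hpp.one_lt).1 hcl
    have hk4 : k = 4 := by omega
    apply Subgroup.eq_top_of_card_eq
    rw [hk', hk4, hcard]
  have hBZ : A ⊓ C ≤ Subgroup.center P := by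
    intro x hx
    have hle : (⊤ : Subgroup P) ≤ Subgroup.centralizer ({x} : Set P) := by
      rw [← htop]
      apply sup_le
      · intro y hy
        rw [Subgroup.mem_centralizer_singleton_iff]
        exact congrArg Subtype.val (hAcomm ⟨y, hy⟩ ⟨x, hx.1⟩)
      · rw [Subgroup.zpowers_le, Subgroup.mem_centralizer_singleton_iff]
        exact (hmemC x).1 hx.2
    rw [Subgroup.mem_center_iff]
    intro g
    have := hle (Subgroup.mem_top g)
    rw [Subgroup.mem_centralizer_singleton_iff] at this
    exact this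
  have h1 : Nat.card (A ⊓ C : Subgroup P) ≤ p := hZ ▸ Subgroup.card_le_of_le hBZ
  have h2 : (A ⊓ C).index ≤ p * p := by
    have := Subgroup.index_inf_le (H := A) (K := C)
    rwa [hAi, hBi] at this
  have h3 := (A ⊓ C).card_mul_index
  rw [hcard] at h3
  have h4 : p ^ 4 ≤ p * (p * p) := by
    rw [← h3]
    exact Nat.mul_le_mul h1 h2
  have h5 : p ^ 4 = p * (p * p) * p := by ring
  have h6 : 0 < p * (p * p) := by have := hpp.pos; positivity
  have h7 := hpp.two_le
  nlinarith

end Cfsg.Agent.Lib.H17E4ZP1
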