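import Cfsg.Agent.Lib.Helper17E4Defs
import Cfsg.Agent.Lib.Helper89PCube

/-!
PROJECT 5188 (row S5188, essential subgroups of order `p ^ 4`), piece ZP2.  See notes/helper17/E4/README.md.
-/

set_option autoImplicit false
set_option linter.unusedVariables false
set_option linter.unusedSectionVars false

namespace Cfsg.Agent.Lib.H17E4ZP2

open scoped commutatorElement
open Cfsg.Agent.Lib.Helper17E4Defs

variable {P : Type*} [Group P] {p : ℕ} [hp : Fact p.Prime]

/-- PURE MATHLIB + `Cfsg.Agent.Lib.Helper89PCube.card_center_of_card_cube`. -/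
theorem exists_second_center (hcard : Nat.card P = p ^ 4) (hZ : Nat.card (Subgroup.center P) = p)
    (h : ∃ g h : P, ⁅g, h⁆ ∉ Subgroup.center P) :
    ∃ A₂ : Subgroup P, Subgroup.center P ≤ A₂ ∧ Nat.card A₂ = p ^ 2 ∧ AInv A₂ ∧
      ∀ x ∈ A₂, ∀ g : P, ⁅x, g⁆ ∈ Subgroup.center P := by
  have hpp := hp.out
  have hfin : Finite P := Nat.finite_of_card_ne_zero (by rw [hcard]; exact pow_ne_zero _ hpp.ne_zero)
  have hQ : Nat.card (P ⧸ Subgroup.center P) = p ^ 3 := by
    have h1 := (Subgroup.center P).card_mul_index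
    rw [hZ, hcard] at h1
    have : p * (Subgroup.center P).index = p * p ^ 3 := by rw [h1]; ring
    exact Nat.eq_of_mul_eq_mul_left hpp.pos this
  have hmk : ∀ x g : P, ⁅x, g⁆ ∈ Subgroup.center P ↔
      (QuotientGroup.mk' (Subgroup.center P) x) * (QuotientGroup.mk' (Subgroup.center P) g)
        = (QuotientGroup.mk' (Subgroup.center P) g) * (QuotientGroup.mk' (Subgroup.center P) x) := by
    intro x g
    rw [← commutatorElement_eq_one_iff_mul_comm, ← map_commutatorElement,
      QuotientGroup.mk'_apply, QuotientGroup.eq_one_iff]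
  have hnc : ∃ a b : P ⧸ Subgroup.center P, a * b ≠ b * a := by
    obtain ⟨g, k, hgk⟩ := h
    exact ⟨_, _, fun hh => hgk ((hmk g k).2 hh)⟩
  have hcQ := Cfsg.Agent.Lib.Helper89PCube.card_center_of_card_cube hQ hnc
  set A₂ := (Subgroup.center (P ⧸ Subgroup.center P)).comap (QuotientGroup.mk' (Subgroup.center P))
    with hA₂
  have hmem : ∀ x, x ∈ A₂ ↔ ∀ g : P, ⁅x, g⁆ ∈ Subgroup.center P := by
    intro x
    rw [hA₂, Subgroup.mem_comap, Subgroup.mem_center_iff]
    constructor
    · intro hx g
      exact (hmk x g).2 (hx _).symm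
    · intro hx q
      obtain ⟨g, rfl⟩ := QuotientGroup.mk'_surjective _ q
      exact ((hmk x g).1 (hx g)).symm
  refine ⟨A₂, ?_, ?_, ?_, fun x hx => (hmem x).1 hx⟩
  · intro z hz
    rw [hmem]
    intro g
    have : ⁅z, g⁆ = 1 := by
      rw [commutatorElement_eq_one_iff_mul_comm]
      exact (Subgroup.mem_center_iff.1 hz g).symm
    rw [this]
    exact one_mem _
  · have hi : A₂.index = (Subgroup.center (P ⧸ Subgroup.center P)).index :=
      Subgroup.index_comap_of_surjective _ (QuotientGroup.mk'_surjective _)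
    have h1 := (Subgroup.center (P ⧸ Subgroup.center P)).card_mul_index
    rw [hcQ, hQ] at h1
    have h2 : (Subgroup.center (P ⧸ Subgroup.center P)).index = p ^ 2 := by
      have : p * (Subgroup.center (P ⧸ Subgroup.center P)).index = p * p ^ 2 := by rw [h1]; ring
      exact Nat.eq_of_mul_eq_mul_left hpp.pos this
    have h3 := A₂.card_mul_index
    rw [hi, h2, hcard] at h3
    have : Nat.card A₂ * p ^ 2 = p ^ 2 * p ^ 2 := by rw [h3]; ring
    exact Nat.eq_of_mul_eq_mul_right (pow_pos hpp.pos 2) this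
  · intro γ x hx
    rw [hmem] at hx ⊢
    intro g
    have h1 := inv_center γ _ (hx (γ.symm g))
    rw [map_commutatorElement] at h1
    simpa using h1

end Cfsg.Agent.Lib.H17E4ZP2
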