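import Cfsg.Agent.Lib.Helper17E4Defs
import Cfsg.Agent.Lib.H17E4CardZ
import Cfsg.Agent.Lib.H17E4C2a
import Cfsg.Agent.Lib.H17E4C2b
import Cfsg.Agent.Lib.H17E4Hom
import Cfsg.Agent.Lib.H17E4ZCyc
import Cfsg.Agent.Lib.H17E4OddA
import Cfsg.Agent.Lib.H17E4OddB
import Cfsg.Agent.Lib.H17E4TwoA
import Cfsg.Agent.Lib.H17E4TwoB
import Cfsg.Agent.Lib.H17E4TwoC
import Cfsg.Agent.Lib.H17E4ZP1
import Cfsg.Agent.Lib.H17E4ZP2
import Cfsg.Agent.Lib.H17E4ZP3
import Cfsg.Agent.Lib.H17E4AbFrat
import Cfsg.Agent.Lib.H17E4Ab211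

/-!
PROJECT 5188 (row S5188): the pure group theory assembly.
-/

set_option autoImplicit false

namespace Cfsg.Agent.Lib.H17E4Main

open scoped commutatorElement
open Cfsg.Agent.Lib.Helper17E4Defs

variable {P : Type*} [Group P] {p : ℕ} [hp : Fact p.Prime]

theorem c2_of (hcard : Nat.card P = p ^ 4) (hZ : Nat.card (Subgroup.center P) = p ^ 2) : C2 p P where
  card := hcard
  cardZ := hZ
  pow_mem := H17E4C2a.pow_mem hcard hZ
  comm_mem := H17E4C2a.comm_mem hcard hZ
  comm_pow := H17E4C2a.comm_pow hcard hZ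
  cardD := H17E4C2b.card_commutator hcard hZ
  D_le := by
    rw [commutator_eq_closure, Subgroup.closure_le]
    rintro _ ⟨g, h, rfl⟩
    exact H17E4C2a.comm_mem hcard hZ g h

/-- a non cyclic group of order `p ^ 2` has exponent `p` -/
theorem exp_of_not_cyclic {Z : Type*} [Group Z] (h : Nat.card Z = p ^ 2) (hnc : ¬ IsCyclic Z) (z : Z) :
    z ^ p = 1 := by
  have hfin : Finite Z := Nat.finite_of_card_ne_zero (by rw [h]; exact pow_ne_zero _ hp.out.ne_zero)
  have h1 : orderOf z ∣ p ^ 2 := h ▸ orderOf_dvd_natCard z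
  obtain ⟨k, hk, hk'⟩ := (Nat.dvd_prime_pow hp.out).1 h1
  have hk2 : k ≠ 2 := by
    rintro rfl
    exact hnc (isCyclic_of_orderOf_eq_card z (by rw [hk', h]))
  apply orderOf_dvd_iff_pow_eq_one.1
  rw [hk']
  have : k ≤ 1 := by omega
  calc p ^ k ∣ p ^ 1 := pow_dvd_pow p this
    _ = p := pow_one p

/-- the groups of order `p ^ 4` without a chain of invariant subgroups -/
theorem classify (hcard : Nat.card P = p ^ 4) :
    HasChain p P ∨
      ((∀ a b : P, a * b = b * a) ∧ ((∀ x : P, x ^ p = 1) ∨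
        Nonempty (P ≃* Multiplicative (ZMod (p ^ 2) × ZMod p × ZMod p)) ∨ (frattini P).index ≤ p ^ 2)) ∨
      (Odd p ∧ ∃ (E : Type) (_ : Group E) (_ : Finite E), Cfsg.IsExtraspecial p E ∧ Nat.card E = p ^ 3 ∧
        (∀ x : E, x ^ p = 1) ∧ Nonempty (P ≃* E × Multiplicative (ZMod p))) ∨
      (p = 2 ∧ Nonempty (P ≃* QuaternionGroup 2 × Multiplicative (ZMod 2))) ∨
      ((¬ ∀ a b : P, a * b = b * a) ∧ (∀ x : P, x ^ (p ^ 2) = 1) ∧ IsCyclic (Subgroup.center P) ∧
        Nat.card (Subgroup.center P) = p ^ 2) := by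
  have hpp := hp.out
  have hfin : Finite P := Nat.finite_of_card_ne_zero (by rw [hcard]; exact pow_ne_zero _ hpp.ne_zero)
  by_cases hab : ∀ a b : P, a * b = b * a
  · -- the abelian case
    right; left
    refine ⟨hab, ?_⟩
    let K : Subgroup P :=
      { carrier := {x | x ^ p = 1}
        mul_mem' := by
          intro a b ha hb
          show (a * b) ^ p = 1
          rw [(show Commute a b from hab a b).mul_pow, show a ^ p = 1 from ha, show b ^ p = 1 from hb,
            one_mul]
        one_mem' := one_pow p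
        inv_mem' := by
          intro a ha
          show (a⁻¹) ^ p = 1
          rw [inv_pow, show a ^ p = 1 from ha, inv_one] }
    have hK : ∀ x, x ∈ K ↔ x ^ p = 1 := fun x => Iff.rfl
    have hdvd : Nat.card K ∣ p ^ 4 := hcard ▸ Subgroup.card_subgroup_dvd_card K
    obtain ⟨k, hk, hk'⟩ := (Nat.dvd_prime_pow hpp).1 hdvd
    have hcases : k = 4 ∨ k = 3 ∨ k ≤ 2 := by omega
    rcases hcases with rfl | rfl | hk2
    · left
      have : K = ⊤ := Subgroup.eq_top_of_card_eq K (by rw [hk', hcard])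
      intro x
      exact (hK x).1 (this ▸ Subgroup.mem_top x)
    · right; left
      exact H17E4Ab211.iso_211 hcard hab K hK hk'
    · right; right
      exact H17E4AbFrat.frattini_index_le hcard hab K hK
        (by rw [hk']; exact Nat.pow_le_pow_right hpp.pos hk2)
  · rcases H17E4CardZ.card_center hcard hab with hZ | hZ
    · left
      obtain ⟨A₂, h1, h2, h3, h4⟩ := H17E4ZP2.exists_second_center hcard hZ
        (H17E4ZP1.exists_comm_not_mem hcard hZ)
      exact H17E4ZP3.chain_of_second_center hcard hZ A₂ h1 h2 h3 h4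
    · have C := c2_of hcard hZ
      by_cases hc : IsCyclic (Subgroup.center P)
      · rcases H17E4ZCyc.zcyc C hc (H17E4Hom.pow_sq_hom C) with h | h
        · exact Or.inl h
        · exact Or.inr (Or.inr (Or.inr (Or.inr ⟨hab, h, hc, hZ⟩)))
      · have hZe : ∀ z ∈ Subgroup.center P, z ^ p = 1 := by
          intro z hz
          have := exp_of_not_cyclic hZ hc (⟨z, hz⟩ : Subgroup.center P)
          exact congrArg Subtype.val this
        by_cases h2 : p = 2
        · subst h2
          have hsq := H17E4Hom.sq_mul C.comm_mem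
          by_cases hA : ∃ g : P, g ^ 2 ∉ commutator P
          · exact Or.inl (H17E4TwoA.two_chainA C hZe hsq hA)
          · push Not at hA
            by_cases hB : ∃ g : P, g ∉ Subgroup.center P ∧ g ^ 2 = 1
            · exact Or.inl (H17E4TwoB.two_chainB C hZe hsq hA hB)
            · push Not at hB
              refine Or.inr (Or.inr (Or.inr (Or.inl ⟨rfl, H17E4TwoC.two_quat C hZe hA ?_⟩)))
              intro g hg
              by_contra hgZ
              exact hB g hgZ hg
        · have hpow := H17E4Hom.pow_hom_odd C h2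
          by_cases hne : ∃ x : P, x ^ p ≠ 1
          · exact Or.inl (H17E4OddA.odd_chain C hZe hpow hne)
          · push Not at hne
            exact Or.inr (Or.inr (Or.inl ⟨hpp.odd_of_ne_two h2, H17E4OddB.odd_split C hne⟩))

end Cfsg.Agent.Lib.H17E4Main
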