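import Mathlib
import Cfsg.Agent.Lib.Helper19WinDefs
import Cfsg.Agent.Lib.H19WinInf
import Cfsg.Agent.Lib.H19WinExX
import Cfsg.Agent.Lib.H19WinModEq
import Cfsg.Agent.Lib.H19WinArith

set_option autoImplicit false

namespace Cfsg.Agent.Lib.H19WinGrp2

open Cfsg Cfsg.Agent.Lib.Helper19WinDefs

/-- PIECE Grp2 (assembly, pure group theory from the stubs Inf ExX ModEq Arith, 60m).
`L = M ⊓ T` is normal and `T.index = L.relIndex M` (`H19WinInf.inf_normal`).  `L.relIndex M ∣ N.relIndex M = r ^ k` (`Subgroup.relIndex_dvd_of_le_left`, `N ≤ L`), so `T.index = r ^ b` (`Nat.dvd_prime_pow`), `b ≥ 1` because `T ≠ ⊤` (`Subgroup.index_eq_one`).  If `p ∣ T.index`: `good_of_dvd`.  Otherwise `H19WinExX.exists_x` gives `x ∈ P`, `m ∈ M` with `x * m * x⁻¹ * m⁻¹ ∉ L`; `x ^ p ^ a = 1` (`P.2`).  Let `π = QuotientGroup.mk' L`, `F = M ⊓ (Subgroup.centralizer {π x}).comap π`: `u ∈ F ↔ u ∈ M ∧ x * u * x⁻¹ * u⁻¹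 ∈ L`.  `H19WinModEq.relIndex_modEq`: `L.relIndex M ≡ L.relIndex F [MOD p]`.  `L ≤ F ≤ M`, `Subgroup.relIndex_mul_relIndex L F M`: `L.relIndex F * F.relIndex M = r ^ b`, so `L.relIndex F = r ^ c` with `c ≤ b`, and `c ≠ b` since `F.relIndex M ≠ 1` (`m ∈ M`, `m ∉ F`; `Subgroup.relIndex_eq_one`).  `H19WinArith.good_of_modEq`. -/
theorem step2_group {G : Type*} [Group G] [Finite G] (p r : ℕ) [Fact p.Prime] (hr : r.Prime)
    (P : Sylow p G) (hcl : ∀ N : Subgroup G, N.Normal → (P : Subgroup G) ≤ N → N = ⊤)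
    (N M T : Subgroup G) [N.Normal] [M.Normal] (hNM : N ≤ M)
    (hab : ∀ a ∈ M, ∀ b ∈ M, a * b * a⁻¹ * b⁻¹ ∈ N) (k : ℕ) (hk : N.relIndex M = r ^ k)
    (hNT : N ≤ T) (hT : T ≠ ⊤) (hMT : M ⊔ T = ⊤) : Good p T.index := by
  have hp : p.Prime := Fact.out
  obtain ⟨hLn, hidx⟩ := Cfsg.Agent.Lib.H19WinInf.inf_normal N M T hNM hab hNT hMT
  obtain ⟨L, hL⟩ : ∃ L, L = M ⊓ T := ⟨_, rfl⟩
  rw [← hL] at hLn hidx
  have hLM : L ≤ M := hL ▸ inf_le_left
  have hLT : L ≤ T := hL ▸ inf_le_right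
  have hNL : N ≤ L := hL ▸ le_inf hNM hNT
  have hdvd : L.relIndex M ∣ r ^ k := hk ▸ Subgroup.relIndex_dvd_of_le_left M hNL
  obtain ⟨b, -, hb⟩ := (Nat.dvd_prime_pow hr).mp hdvd
  by_cases hpT : p ∣ T.index
  · exact good_of_dvd hp hpT
  obtain ⟨x, hxP, m, hmM, hxm⟩ := Cfsg.Agent.Lib.H19WinExX.exists_x p P hcl L M T hLT hT hMT hpT
  obtain ⟨a, ha⟩ := P.2 ⟨x, hxP⟩
  have hx : x ^ p ^ a = 1 := by
    have := congrArg Subtype.val ha
    simpa using this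
  obtain ⟨F, hFdef⟩ : ∃ F, F = M ⊓ (Subgroup.centralizer
      {(QuotientGroup.mk' L x : G ⧸ L)}).comap (QuotientGroup.mk' L) := ⟨_, rfl⟩
  have hF : ∀ u, u ∈ F ↔ u ∈ M ∧ x * u * x⁻¹ * u⁻¹ ∈ L := by
    intro u
    rw [hFdef, Subgroup.mem_inf, Subgroup.mem_comap, Subgroup.mem_centralizer_singleton_iff,
      ← QuotientGroup.eq_one_iff (N := L)]
    refine and_congr_right fun _ => ?_
    simp only [QuotientGroup.mk'_apply, QuotientGroup.mk_mul, QuotientGroup.mk_inv]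
    constructor
    · intro h
      rw [← h]
      group
    · intro h
      have h1 := mul_inv_eq_one.mp h
      exact (mul_inv_eq_iff_eq_mul.mp h1).symm
  have hmod := Cfsg.Agent.Lib.H19WinModEq.relIndex_modEq p L M hLM x a hx F hF
  have hLF : L ≤ F := by
    intro u hu
    rw [hF]
    exact ⟨hLM hu, L.mul_mem (hLn.conj_mem u hu x) (L.inv_mem hu)⟩
  have hFM : F ≤ M := fun u hu => ((hF u).mp hu).1
  have hmul := Subgroup.relIndex_mul_relIndex L F M hLF hFM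
  rw [hb] at hmul
  obtain ⟨c, hcb, hc⟩ := (Nat.dvd_prime_pow hr).mp (Dvd.intro _ hmul)
  have hne : c ≠ b := by
    rintro rfl
    rw [hc] at hmul
    have h1 : F.relIndex M = 1 := by
      have hpos : 0 < r ^ c := pow_pos hr.pos _
      exact Nat.eq_of_mul_eq_mul_left hpos (by rw [hmul, mul_one])
    have h2 : M ≤ F := Subgroup.relIndex_eq_one.mp h1
    exact hxm ((hF m).mp (h2 hmM)).2
  rw [hb, hc] at hmod
  rw [hidx, hb]
  exact Cfsg.Agent.Lib.H19WinArith.good_of_modEq p r b c hp hr (lt_of_le_of_ne hcb hne) hmod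

end Cfsg.Agent.Lib.H19WinGrp2
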