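import Mathlib

set_option autoImplicit false

/-! PROJECT 4396 = FM (row S4396): a Frobenius group `FH` of linear maps with `C_V(F) = 0` makes `V` a free
`kH`-module (any characteristic, any field).  Vocabulary. -/

namespace Cfsg.Agent.Lib.H24FMDefs

variable {k V : Type*} [Field k] [AddCommGroup V] [Module k V]

/-- The submodule `X` is the internal direct sum of the translates `σ h W`, `h ∈ H`, of some subspace `W`. -/
def HFree {H : Type*} [Group H] (σ : Representation k H V) (X : Submodule k V) : Prop :=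
  ∃ W : Submodule k V, iSupIndep (fun h : H => W.map (σ h)) ∧ ⨆ h : H, W.map (σ h) = X

/-- `R` is a commutative, von Neumann regular, multiplicatively closed subspace of `End V` (in general WITHOUT the
identity of `End V`), normalized by `σ H`, on which `H` acts "freely": no `h ≠ 1` acts trivially on a corner `R ε`. -/
structure Datum {H : Type*} [Group H] (σ : Representation k H V) (R : Submodule k (Module.End k V)) :
    Prop where
  mul_mem : ∀ a ∈ R, ∀ b ∈ R, a * b ∈ R
  comm : ∀ a ∈ R, ∀ b ∈ R, a * b = b * a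
  reg : ∀ c ∈ R, ∃ d ∈ R, c = c * c * d
  norm : ∀ h : H, ∀ a ∈ R, σ h * a * σ h⁻¹ ∈ R
  free : ∀ h : H, h ≠ 1 → ∀ ε ∈ R, ε * ε = ε → ε ≠ 0 → σ h * ε * σ h⁻¹ = ε →
    ∃ a ∈ R, σ h * a * σ h⁻¹ * ε ≠ a * ε

/-- an `H`-invariant idempotent of `R` -/
structure InvIdem {H : Type*} [Group H] (σ : Representation k H V) (R : Submodule k (Module.End k V))
    (ε : Module.End k V) : Prop where
  mem : ε ∈ R
  idem : ε * ε = ε
  inv : ∀ h : H, σ h * ε * σ h⁻¹ = ε

/-- a minimal (= primitive) idempotent of `R` -/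
structure MinIdem (R : Submodule k (Module.End k V)) (ε : Module.End k V) : Prop where
  mem : ε ∈ R
  idem : ε * ε = ε
  ne : ε ≠ 0
  min : ∀ η ∈ R, η * η = η → η ≠ 0 → η * ε = η → η = ε

theorem rep_mul_inv {H : Type*} [Group H] (σ : Representation k H V) (h : H) : σ h * σ h⁻¹ = 1 := by
  rw [← map_mul, mul_inv_cancel, map_one]

theorem rep_inv_mul {H : Type*} [Group H] (σ : Representation k H V) (h : H) : σ h⁻¹ * σ h = 1 := by
  rw [← map_mul, inv_mul_cancel, map_one]

/-- the stabilizer of `ε` under conjugation -/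
def stabE {H : Type*} [Group H] (σ : Representation k H V) (ε : Module.End k V) : Subgroup H where
  carrier := {h | σ h * ε * σ h⁻¹ = ε}
  one_mem' := by simp
  mul_mem' := by
    intro a b ha hb
    simp only [Set.mem_setOf_eq] at ha hb ⊢
    calc σ (a * b) * ε * σ (a * b)⁻¹ = σ a * (σ b * ε * σ b⁻¹) * σ a⁻¹ := by
          rw [mul_inv_rev, map_mul, map_mul]; simp only [mul_assoc]
      _ = ε := by rw [hb, ha]
  inv_mem' := by
    intro a ha
    simp only [Set.mem_setOf_eq] at ha ⊢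
    calc σ a⁻¹ * ε * σ a⁻¹⁻¹ = σ a⁻¹ * (σ a * ε * σ a⁻¹) * σ a := by rw [ha, inv_inv]
      _ = (σ a⁻¹ * σ a) * ε * (σ a⁻¹ * σ a) := by simp only [mul_assoc]
      _ = ε := by rw [rep_inv_mul]; simp

theorem mem_stabE {H : Type*} [Group H] (σ : Representation k H V) (ε : Module.End k V) (h : H) :
    h ∈ stabE σ ε ↔ σ h * ε * σ h⁻¹ = ε := Iff.rfl

variable {A : Type*} [Group A]

/-- the averaging operator of the subgroup `Z` (an idempotent with image `C_V(Z)` when `#Z` is invertible in `k`) -/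
noncomputable def avg (ρ : Representation k A V) (Z : Subgroup A) : Module.End k V :=
  (Nat.card Z : k)⁻¹ • ∑ᶠ z : Z, ρ (z : A)

/-- the corner algebra: the span of the `(e_L - e_Z) ρ(z)`, `z ∈ Z` -/
noncomputable def Rz (ρ : Representation k A V) (L Z : Subgroup A) : Submodule k (Module.End k V) :=
  Submodule.span k {x | ∃ z ∈ Z, x = (avg ρ L - avg ρ Z) * ρ z}

/-- `Z / L` is an abelian section, normalized by `Hc`, on which `Hc` acts fixed point freely (`Hc` acts f.p.f. on `Z`),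
of order invertible in `k`. -/
structure Sect (k : Type*) [Field k] (Hc L Z : Subgroup A) : Prop where
  le : L ≤ Z
  card : (Nat.card Z : k) ≠ 0
  comm : ∀ a ∈ Z, ∀ b ∈ Z, a * b * a⁻¹ * b⁻¹ ∈ L
  normL : ∀ z ∈ Z, ∀ l ∈ L, z * l * z⁻¹ ∈ L
  hL : ∀ h ∈ Hc, ∀ l ∈ L, h * l * h⁻¹ ∈ L
  hZ : ∀ h ∈ Hc, ∀ z ∈ Z, h * z * h⁻¹ ∈ Z
  fpf : ∀ h ∈ Hc, h ≠ 1 → ∀ z ∈ Z, h * z = z * h → z = 1

end Cfsg.Agent.Lib.H24FMDefs
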