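import Mathlib
import Cfsg.Agent.Lib.H24FMDefs

set_option autoImplicit false

/-! PROJECT 4396 = FM (row S4396), piece `Avg` (layer 1).  The averaging idempotent `avg ρ Z = (#Z)⁻¹ ∑_{z ∈ Z} ρ z`. -/

namespace Cfsg.Agent.Lib.H24FMAvg

open Cfsg.Agent.Lib.H24FMDefs

variable {k V : Type*} [Field k] [AddCommGroup V] [Module k V] {A : Type*} [Group A] [Finite A]

theorem card_ne_zero_of_le {L Z : Subgroup A} (hLZ : L ≤ Z) (hZ : (Nat.card Z : k) ≠ 0) :
    (Nat.card L : k) ≠ 0 := by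
  obtain ⟨m, hm⟩ := Subgroup.card_dvd_of_le hLZ
  intro h
  apply hZ
  rw [hm, Nat.cast_mul, h, zero_mul]

theorem avg_mul_rho (ρ : Representation k A V) {Z : Subgroup A} {z : A} (hz : z ∈ Z) :
    avg ρ Z * ρ z = avg ρ Z := by
  haveI := Fintype.ofFinite ↥Z
  unfold avg
  rw [finsum_eq_sum_of_fintype, smul_mul_assoc, Finset.sum_mul]
  congr 1
  rw [← Equiv.sum_comp (Equiv.mulRight (⟨z, hz⟩ : Z)) (fun x : Z => ρ (x : A))]
  refine Finset.sum_congr rfl fun x _ => ?_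
  simp [map_mul]

theorem rho_mul_avg (ρ : Representation k A V) {Z : Subgroup A} {z : A} (hz : z ∈ Z) :
    ρ z * avg ρ Z = avg ρ Z := by
  haveI := Fintype.ofFinite ↥Z
  unfold avg
  rw [finsum_eq_sum_of_fintype, mul_smul_comm, Finset.mul_sum]
  congr 1
  rw [← Equiv.sum_comp (Equiv.mulLeft (⟨z, hz⟩ : Z)) (fun x : Z => ρ (x : A))]
  refine Finset.sum_congr rfl fun x _ => ?_
  simp [map_mul]

theorem avg_mul_avg (ρ : Representation k A V) {L Z : Subgroup A} (hLZ : L ≤ Z)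
    (hL : (Nat.card L : k) ≠ 0) : avg ρ Z * avg ρ L = avg ρ Z ∧ avg ρ L * avg ρ Z = avg ρ Z := by
  haveI := Fintype.ofFinite ↥L
  have hdef : avg ρ L = (Nat.card L : k)⁻¹ • ∑ l : L, ρ (l : A) := by
    unfold avg
    rw [finsum_eq_sum_of_fintype]
  constructor
  · rw [hdef, mul_smul_comm, Finset.mul_sum,
      Finset.sum_congr rfl (fun (l : L) _ => avg_mul_rho ρ (hLZ l.2)), Finset.sum_const,
      Finset.card_univ, ← Nat.card_eq_fintype_card, ← Nat.cast_smul_eq_nsmul k, smul_smul,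
      inv_mul_cancel₀ hL, one_smul]
  · rw [hdef, smul_mul_assoc, Finset.sum_mul,
      Finset.sum_congr rfl (fun (l : L) _ => rho_mul_avg ρ (hLZ l.2)), Finset.sum_const,
      Finset.card_univ, ← Nat.card_eq_fintype_card, ← Nat.cast_smul_eq_nsmul k, smul_smul,
      inv_mul_cancel₀ hL, one_smul]

theorem avg_idem (ρ : Representation k A V) {Z : Subgroup A} (hZ : (Nat.card Z : k) ≠ 0) :
    avg ρ Z * avg ρ Z = avg ρ Z :=
  (avg_mul_avg ρ le_rfl hZ).1

theorem avg_conj (ρ : Representation k A V) {Z : Subgroup A} (a : A) (ha : ∀ z ∈ Z, a * z * a⁻¹ ∈ Z)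
    (ha' : ∀ z ∈ Z, a⁻¹ * z * a ∈ Z) : ρ a * avg ρ Z * ρ a⁻¹ = avg ρ Z := by
  haveI := Fintype.ofFinite ↥Z
  unfold avg
  rw [finsum_eq_sum_of_fintype, mul_smul_comm, smul_mul_assoc, Finset.mul_sum, Finset.sum_mul]
  congr 1
  let e : Z ≃ Z :=
    { toFun := fun z => ⟨a * z * a⁻¹, ha z z.2⟩
      invFun := fun z => ⟨a⁻¹ * z * a, ha' z z.2⟩
      left_inv := fun z => by ext; simp [mul_assoc]
      right_inv := fun z => by ext; simp [mul_assoc] }
  rw [← Equiv.sum_comp e (fun x : Z => ρ (x : A))]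
  refine Finset.sum_congr rfl fun x _ => ?_
  simp [e, map_mul]

theorem avg_bot (ρ : Representation k A V) : avg ρ (⊥ : Subgroup A) = 1 := by
  haveI := Fintype.ofFinite ↥(⊥ : Subgroup A)
  unfold avg
  rw [finsum_eq_sum_of_fintype, Subgroup.card_bot]
  have h1 : ((default : (⊥ : Subgroup A)) : A) = 1 := Subgroup.mem_bot.1 (default : (⊥ : Subgroup A)).2
  simp [h1]

theorem avg_eq_zero (ρ : Representation k A V) {Z : Subgroup A}
    (h : ∀ v : V, (∀ z ∈ Z, ρ z v = v) → v = 0) : avg ρ Z = 0 := by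
  ext v
  apply h
  intro z hz
  have := rho_mul_avg ρ hz
  calc ρ z (avg ρ Z v) = (ρ z * avg ρ Z) v := rfl
    _ = avg ρ Z v := by rw [this]

end Cfsg.Agent.Lib.H24FMAvg
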