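import Mathlib
import Cfsg.Agent.Lib.H24FMDefs
import Cfsg.Agent.Lib.H24FMAvg

set_option autoImplicit false

/-! PROJECT 4396 = FM (row S4396), piece `Alg` (layer 2).  The corner algebra `Rz ρ L Z = span {ε₀ * ρ z | z ∈ Z}`, `ε₀ = avg ρ L - avg ρ Z`. -/

namespace Cfsg.Agent.Lib.H24FMAlg

open Cfsg.Agent.Lib.H24FMDefs Cfsg.Agent.Lib.H24FMAvg

variable {k V : Type*} [Field k] [AddCommGroup V] [Module k V] {A : Type*} [Group A] [Finite A]
  {Hc L Z : Subgroup A}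

theorem e0_idem (ρ : Representation k A V) (hS : Sect k Hc L Z) :
    (avg ρ L - avg ρ Z) * (avg ρ L - avg ρ Z) = avg ρ L - avg ρ Z := by
  have hL := card_ne_zero_of_le (k := k) hS.le hS.card
  obtain ⟨h1, h2⟩ := avg_mul_avg ρ hS.le hL
  rw [mul_sub, sub_mul, sub_mul, avg_idem ρ hL, avg_idem ρ hS.card, h1, h2]
  abel

theorem avg_comm_of_conj (ρ : Representation k A V) {a : A} {x : Module.End k V}
    (h : ρ a * x * ρ a⁻¹ = x) : ρ a * x = x * ρ a := by
  calc ρ a * x = ρ a * x * (ρ a⁻¹ * ρ a) := by rw [rep_inv_mul, mul_one]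
    _ = (ρ a * x * ρ a⁻¹) * ρ a := by simp only [mul_assoc]
    _ = x * ρ a := by rw [h]

theorem e0_comm (ρ : Representation k A V) (hS : Sect k Hc L Z) {z : A} (hz : z ∈ Z) :
    ρ z * (avg ρ L - avg ρ Z) = (avg ρ L - avg ρ Z) * ρ z := by
  have h1 : ρ z * avg ρ L * ρ z⁻¹ = avg ρ L := by
    apply avg_conj ρ z (hS.normL z hz)
    intro l hl
    have := hS.normL z⁻¹ (Z.inv_mem hz) l hl
    rwa [inv_inv] at this
  rw [mul_sub, sub_mul, avg_comm_of_conj ρ h1, avg_mul_rho ρ hz, rho_mul_avg ρ hz]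

theorem e0_L (ρ : Representation k A V) (hS : Sect k Hc L Z) {l : A} (hl : l ∈ L) :
    (avg ρ L - avg ρ Z) * ρ l = avg ρ L - avg ρ Z := by
  rw [sub_mul, avg_mul_rho ρ hl, avg_mul_rho ρ (hS.le hl)]

theorem e0_conj (ρ : Representation k A V) (hS : Sect k Hc L Z) {h : A} (hh : h ∈ Hc) :
    ρ h * (avg ρ L - avg ρ Z) * ρ h⁻¹ = avg ρ L - avg ρ Z := by
  have h1 : ρ h * avg ρ L * ρ h⁻¹ = avg ρ L := by
    apply avg_conj ρ h (hS.hL h hh)
    intro l hl
    have := hS.hL h⁻¹ (Hc.inv_mem hh) l hl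
    rwa [inv_inv] at this
  have h2 : ρ h * avg ρ Z * ρ h⁻¹ = avg ρ Z := by
    apply avg_conj ρ h (hS.hZ h hh)
    intro l hl
    have := hS.hZ h⁻¹ (Hc.inv_mem hh) l hl
    rwa [inv_inv] at this
  rw [mul_sub, sub_mul, h1, h2]

theorem gen_mem (ρ : Representation k A V) (L : Subgroup A) {Z : Subgroup A} {z : A} (hz : z ∈ Z) :
    (avg ρ L - avg ρ Z) * ρ z ∈ Rz ρ L Z :=
  Submodule.subset_span ⟨z, hz, rfl⟩

theorem e0_mem (ρ : Representation k A V) (L Z : Subgroup A) : avg ρ L - avg ρ Z ∈ Rz ρ L Z := by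
  have := gen_mem ρ L (Z.one_mem)
  rwa [map_one, mul_one] at this

theorem e0_mul (ρ : Representation k A V) (hS : Sect k Hc L Z) {x : Module.End k V}
    (hx : x ∈ Rz ρ L Z) : (avg ρ L - avg ρ Z) * x = x := by
  unfold Rz at hx
  induction hx using Submodule.span_induction with
  | mem x hx =>
    obtain ⟨z, hz, rfl⟩ := hx
    rw [← mul_assoc, e0_idem ρ hS]
  | zero => rw [mul_zero]
  | add x y _ _ hx hy => rw [mul_add, hx, hy]
  | smul c x _ hx => rw [mul_smul_comm, hx]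

theorem gen_mul_gen (ρ : Representation k A V) (hS : Sect k Hc L Z) {z w : A} (hz : z ∈ Z) :
    ((avg ρ L - avg ρ Z) * ρ z) * ((avg ρ L - avg ρ Z) * ρ w) = (avg ρ L - avg ρ Z) * ρ (z * w) := by
  calc ((avg ρ L - avg ρ Z) * ρ z) * ((avg ρ L - avg ρ Z) * ρ w)
      = (avg ρ L - avg ρ Z) * (ρ z * (avg ρ L - avg ρ Z)) * ρ w := by simp only [mul_assoc]
    _ = ((avg ρ L - avg ρ Z) * (avg ρ L - avg ρ Z)) * (ρ z * ρ w) := by
        rw [e0_comm ρ hS hz]; simp only [mul_assoc]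
    _ = (avg ρ L - avg ρ Z) * ρ (z * w) := by rw [e0_idem ρ hS, map_mul]

theorem gen_swap (ρ : Representation k A V) (hS : Sect k Hc L Z) {z w : A} (hz : z ∈ Z)
    (hw : w ∈ Z) : (avg ρ L - avg ρ Z) * ρ (z * w) = (avg ρ L - avg ρ Z) * ρ (w * z) := by
  have h1 : z * w = (z * w * z⁻¹ * w⁻¹) * (w * z) := by group
  rw [h1, map_mul, ← mul_assoc, e0_L ρ hS (hS.comm z hz w hw)]

theorem mul_mem (ρ : Representation k A V) (hS : Sect k Hc L Z) :
    ∀ a ∈ Rz ρ L Z, ∀ b ∈ Rz ρ L Z, a * b ∈ Rz ρ L Z := by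
  intro a ha b hb
  have ha' := ha
  unfold Rz at ha'
  induction ha' using Submodule.span_induction with
  | mem a ha' =>
    obtain ⟨z, hz, rfl⟩ := ha'
    have hb' := hb
    unfold Rz at hb'
    induction hb' using Submodule.span_induction with
    | mem b hb' =>
      obtain ⟨w, hw, rfl⟩ := hb'
      rw [gen_mul_gen ρ hS hz]
      exact gen_mem ρ L (Z.mul_mem hz hw)
    | zero => rw [mul_zero]; exact Submodule.zero_mem _
    | add x y hx hy ihx ihy =>
      rw [mul_add]; exact Submodule.add_mem _ (ihx hx) (ihy hy)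
    | smul c x hx ihx => rw [mul_smul_comm]; exact Submodule.smul_mem _ _ (ihx hx)
  | zero => rw [zero_mul]; exact Submodule.zero_mem _
  | add x y hx hy ihx ihy => rw [add_mul]; exact Submodule.add_mem _ (ihx hx) (ihy hy)
  | smul c x hx ihx => rw [smul_mul_assoc]; exact Submodule.smul_mem _ _ (ihx hx)

theorem comm (ρ : Representation k A V) (hS : Sect k Hc L Z) :
    ∀ a ∈ Rz ρ L Z, ∀ b ∈ Rz ρ L Z, a * b = b * a := by
  intro a ha b hb
  unfold Rz at ha hb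
  induction ha using Submodule.span_induction with
  | mem a ha' =>
    obtain ⟨z, hz, rfl⟩ := ha'
    induction hb using Submodule.span_induction with
    | mem b hb' =>
      obtain ⟨w, hw, rfl⟩ := hb'
      rw [gen_mul_gen ρ hS hz, gen_mul_gen ρ hS hw, gen_swap ρ hS hz hw]
    | zero => rw [mul_zero, zero_mul]
    | add x y _ _ ihx ihy => rw [mul_add, add_mul, ihx, ihy]
    | smul c x _ ihx => rw [mul_smul_comm, smul_mul_assoc, ihx]
  | zero => rw [mul_zero, zero_mul]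
  | add x y _ _ ihx ihy => rw [mul_add, add_mul, ihx, ihy]
  | smul c x _ ihx => rw [mul_smul_comm, smul_mul_assoc, ihx]

theorem conj_gen (ρ : Representation k A V) (hS : Sect k Hc L Z) {h : A} (hh : h ∈ Hc) (z : A) :
    ρ h * ((avg ρ L - avg ρ Z) * ρ z) * ρ h⁻¹ = (avg ρ L - avg ρ Z) * ρ (h * z * h⁻¹) := by
  calc ρ h * ((avg ρ L - avg ρ Z) * ρ z) * ρ h⁻¹
      = ρ h * (avg ρ L - avg ρ Z) * (ρ h⁻¹ * ρ h) * ρ z * ρ h⁻¹ := by
        rw [rep_inv_mul]; simp only [mul_assoc, one_mul]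
    _ = (ρ h * (avg ρ L - avg ρ Z) * ρ h⁻¹) * (ρ h * ρ z * ρ h⁻¹) := by simp only [mul_assoc]
    _ = (avg ρ L - avg ρ Z) * ρ (h * z * h⁻¹) := by rw [e0_conj ρ hS hh, map_mul, map_mul]

theorem norm (ρ : Representation k A V) (hS : Sect k Hc L Z) :
    ∀ h ∈ Hc, ∀ a ∈ Rz ρ L Z, ρ h * a * ρ h⁻¹ ∈ Rz ρ L Z := by
  intro h hh a ha
  unfold Rz at ha
  induction ha using Submodule.span_induction with
  | mem a ha' =>
    obtain ⟨z, hz, rfl⟩ := ha'
    rw [conj_gen ρ hS hh]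
    exact gen_mem ρ L (hS.hZ h hh z hz)
  | zero => rw [mul_zero, zero_mul]; exact Submodule.zero_mem _
  | add x y _ _ ihx ihy => rw [mul_add, add_mul]; exact Submodule.add_mem _ ihx ihy
  | smul c x _ ihx => rw [mul_smul_comm, smul_mul_assoc]; exact Submodule.smul_mem _ _ ihx

theorem comm_rho (ρ : Representation k A V) (hS : Sect k Hc L Z) {x : Module.End k V}
    (hx : x ∈ Rz ρ L Z) {z : A} (hz : z ∈ Z) : ρ z * x = x * ρ z := by
  unfold Rz at hx
  induction hx using Submodule.span_induction with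
  | mem a ha' =>
    obtain ⟨w, hw, rfl⟩ := ha'
    rw [← mul_assoc, e0_comm ρ hS hz, mul_assoc, mul_assoc, ← map_mul, ← map_mul,
      gen_swap ρ hS hz hw]
  | zero => rw [mul_zero, zero_mul]
  | add x y _ _ ihx ihy => rw [mul_add, add_mul, ihx, ihy]
  | smul c x _ ihx => rw [mul_smul_comm, smul_mul_assoc, ihx]

theorem avg_mul_rho_mem_span (ρ : Representation k A V) {M Z : Subgroup A} (hM : M ≤ Z) {z : A}
    (hz : z ∈ Z) : avg ρ M * ρ z ∈ Submodule.span k {x | ∃ z ∈ Z, x = ρ z} := by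
  have := Fintype.ofFinite ↥M
  unfold avg
  rw [finsum_eq_sum_of_fintype, smul_mul_assoc, Finset.sum_mul]
  apply Submodule.smul_mem
  apply Submodule.sum_mem
  intro m _
  rw [← map_mul]
  exact Submodule.subset_span ⟨_, Z.mul_mem (hM m.2) hz, rfl⟩

theorem mem_span_rho (ρ : Representation k A V) (hS : Sect k Hc L Z) :
    Rz ρ L Z ≤ Submodule.span k {x | ∃ z ∈ Z, x = ρ z} := by
  unfold Rz
  rw [Submodule.span_le]
  rintro _ ⟨z, hz, rfl⟩
  rw [sub_mul]
  exact Submodule.sub_mem _ (avg_mul_rho_mem_span ρ hS.le hz) (avg_mul_rho_mem_span ρ le_rfl hz)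

end Cfsg.Agent.Lib.H24FMAlg
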