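import Mathlib
import Cfsg.Agent.Lib.H24FMDefs

set_option autoImplicit false

/-! PROJECT 4396 = FM (row S4396), piece `Basic` (layer 1).  PURE LINEAR ALGEBRA (lattice of submodules). -/

namespace Cfsg.Agent.Lib.H24FMBasic

open Cfsg.Agent.Lib.H24FMDefs

variable {k V : Type*} [Field k] [AddCommGroup V] [Module k V]

theorem hfree_bot {H : Type*} [Group H] (σ : Representation k H V) : HFree σ ⊥ := by
  refine ⟨⊥, ?_, ?_⟩
  · intro h
    simp
  · simp

theorem hfree_sup {H : Type*} [Group H] (σ : Representation k H V) {X Y : Submodule k V}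
    (hX : HFree σ X) (hY : HFree σ Y) (hd : Disjoint X Y) : HFree σ (X ⊔ Y) := by
  obtain ⟨WX, hiX, hsX⟩ := hX
  obtain ⟨WY, hiY, hsY⟩ := hY
  refine ⟨WX ⊔ WY, ?_, ?_⟩
  · intro h
    rw [Submodule.disjoint_def]
    intro v hv hv'
    have hv2 : v ∈ (⨆ (j : H) (_ : j ≠ h), WX.map (σ j)) ⊔ (⨆ (j : H) (_ : j ≠ h), WY.map (σ j)) := by
      have : (⨆ (j : H) (_ : j ≠ h), (WX ⊔ WY).map (σ j)) =
          (⨆ (j : H) (_ : j ≠ h), WX.map (σ j)) ⊔ (⨆ (j : H) (_ : j ≠ h), WY.map (σ j)) := by
        simp only [Submodule.map_sup, iSup_sup_eq]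
      rw [← this]
      exact hv'
    replace hv : v ∈ (WX ⊔ WY).map (σ h) := hv
    rw [Submodule.map_sup] at hv
    obtain ⟨a, ha, b, hb, hab⟩ := Submodule.mem_sup.1 hv
    obtain ⟨a', ha', b', hb', hab'⟩ := Submodule.mem_sup.1 hv2
    have haX : a ∈ X := hsX ▸ (le_iSup (fun j : H => WX.map (σ j)) h ha)
    have hbY : b ∈ Y := hsY ▸ (le_iSup (fun j : H => WY.map (σ j)) h hb)
    have ha'X : a' ∈ X := by
      rw [← hsX]
      exact (iSup₂_le fun j _ => le_iSup (fun j : H => WX.map (σ j)) j) ha'
    have hb'Y : b' ∈ Y := by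
      rw [← hsY]
      exact (iSup₂_le fun j _ => le_iSup (fun j : H => WY.map (σ j)) j) hb'
    have hdiff : a - a' = b' - b := by
      have : a + b = a' + b' := hab.trans hab'.symm
      rw [sub_eq_sub_iff_add_eq_add, this, add_comm]
    have h0 : a - a' = 0 := by
      apply (Submodule.disjoint_def.1 hd) _ (X.sub_mem haX ha'X)
      rw [hdiff]
      exact Y.sub_mem hb'Y hbY
    have h0' : b' - b = 0 := hdiff ▸ h0
    have haa : a = a' := sub_eq_zero.1 h0
    have hbb : b' = b := sub_eq_zero.1 h0'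
    have ha0 : a = 0 := (Submodule.disjoint_def.1 (hiX h)) a ha (haa ▸ ha')
    have hb0 : b = 0 := (Submodule.disjoint_def.1 (hiY h)) b hb (hbb ▸ hb')
    rw [← hab, ha0, hb0, add_zero]
  · simp only [Submodule.map_sup, iSup_sup_eq, hsX, hsY]

theorem range_add_of_orth {e f : Module.End k V} (he : e * e = e) (hf : f * f = f) (hef : e * f = 0)
    (hfe : f * e = 0) :
    LinearMap.range (e + f) = LinearMap.range e ⊔ LinearMap.range f ∧
      Disjoint (LinearMap.range e) (LinearMap.range f) := by
  have hee : ∀ v, e (e v) = e v := fun v => by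
    have := congrArg (fun g : Module.End k V => g v) he
    simpa using this
  have hff : ∀ v, f (f v) = f v := fun v => by
    have := congrArg (fun g : Module.End k V => g v) hf
    simpa using this
  have hef' : ∀ v, e (f v) = 0 := fun v => by
    have := congrArg (fun g : Module.End k V => g v) hef
    simpa using this
  have hfe' : ∀ v, f (e v) = 0 := fun v => by
    have := congrArg (fun g : Module.End k V => g v) hfe
    simpa using this
  constructor
  · apply le_antisymm
    · rintro _ ⟨v, rfl⟩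
      rw [LinearMap.add_apply]
      exact Submodule.add_mem_sup ⟨v, rfl⟩ ⟨v, rfl⟩
    · apply sup_le
      · rintro _ ⟨v, rfl⟩
        exact ⟨e v, by rw [LinearMap.add_apply, hee, hfe', add_zero]⟩
      · rintro _ ⟨v, rfl⟩
        exact ⟨f v, by rw [LinearMap.add_apply, hff, hef', zero_add]⟩
  · rw [Submodule.disjoint_def]
    rintro _ ⟨v, rfl⟩ ⟨w, hw⟩
    rw [← hee, ← hw, hef']

theorem finrank_range_lt [FiniteDimensional k V] {e f : Module.End k V} (he : e * e = e)
    (hf : f * f = f) (hef : e * f = 0) (hfe : f * e = 0) (hne : e ≠ 0) :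
    Module.finrank k (LinearMap.range f) < Module.finrank k (LinearMap.range (e + f)) := by
  obtain ⟨h1, h2⟩ := range_add_of_orth he hf hef hfe
  apply Submodule.finrank_lt_finrank_of_lt
  rw [h1]
  refine lt_of_le_of_ne le_sup_right ?_
  intro h
  have hle : LinearMap.range e ≤ LinearMap.range f := by
    rw [h]; exact le_sup_left
  have : LinearMap.range e = ⊥ := by
    rw [eq_bot_iff]
    exact h2 le_rfl hle
  exact hne (LinearMap.range_eq_bot.1 this)

end Cfsg.Agent.Lib.H24FMBasic
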