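import Mathlib

set_option autoImplicit false

/-! PROJECT 4396 = FM (row S4396), piece `Theta`: normal basis theorem + Dedekind independence give an invertible matrix. -/

namespace Cfsg.Agent.Lib.H24FMTheta

theorem exists_theta {E Γ : Type*} [Field E] [Group Γ] [Fintype Γ] [DecidableEq Γ]
    [MulSemiringAction Γ E] [FaithfulSMul Γ E] :
    ∃ θ : E, (Matrix.of fun s g : Γ => s • g • θ).det ≠ 0 := by
  obtain ⟨θ, hθ⟩ := exists_linearIndependent_algEquiv_apply (FixedPoints.subfield Γ E) E
  refine ⟨θ, ?_⟩
  have li : LinearIndependent (FixedPoints.subfield Γ E) (fun g : Γ => g • θ) :=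
    hθ.comp (FixedPoints.toAlgAutMulEquiv Γ E) (FixedPoints.toAlgAutMulEquiv Γ E).injective
  let b := basisOfLinearIndependentOfCardEqFinrank li (FixedPoints.finrank_eq_card Γ E).symm
  have hb : ∀ g, b g = g • θ := fun g => by
    simp [b]
  intro hdet
  obtain ⟨d, hd0, hd⟩ := Matrix.exists_vecMul_eq_zero_iff.mpr hdet
  apply hd0
  have li2 : LinearIndependent E
      (fun s : Γ => (MulSemiringAction.toAlgHom (FixedPoints.subfield Γ E) E s).toLinearMap) :=
    (linearIndependent_toLinearMap (FixedPoints.subfield Γ E) E E).comp _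
      (FixedPoints.toAlgHom_bijective Γ E).injective
  rw [Fintype.linearIndependent_iff] at li2
  funext s
  apply li2 d
  apply b.ext
  intro g
  have h1 := congrFun hd g
  simp only [Matrix.vecMul, dotProduct, Matrix.of_apply, Pi.zero_apply] at h1
  rw [hb]
  simp only [LinearMap.sum_apply, LinearMap.smul_apply, AlgHom.toLinearMap_apply,
    MulSemiringAction.toAlgHom_apply, smul_eq_mul, LinearMap.zero_apply]
  exact h1

end Cfsg.Agent.Lib.H24FMTheta
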