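import Mathlib
import Cfsg.Agent.Lib.H24FMDefs
import Cfsg.Agent.Lib.H24FMTheta

set_option autoImplicit false

/-! PROJECT 4396 = FM (row S4396), piece `Descent`: Galois descent by hand from one invertible matrix. -/

namespace Cfsg.Agent.Lib.H24FMDescent

open Cfsg.Agent.Lib.H24FMDefs Cfsg.Agent.Lib.H24FMTheta

/-- independence criterion over a finite index type -/
theorem indep_of_fintype {ι R N : Type*} [Fintype ι] [Ring R] [AddCommGroup N] [Module R N]
    (p : ι → Submodule R N)
    (h : ∀ v : ι → N, (∀ i, v i ∈ p i) → ∑ i, v i = 0 → ∀ i, v i = 0) : iSupIndep p := by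
  classical
  rw [iSupIndep_iff_finsetSum_eq_zero_imp_eq_zero]
  intro s v hv hs i hi
  have h1 := h (fun j => if j ∈ s then v j else 0)
    (fun j => by
      by_cases hj : j ∈ s
      · simp only [hj, if_true]; exact hv j hj
      · simp only [hj, if_false]; exact (p j).zero_mem)
    (((Finset.sum_ite_mem Finset.univ s v).trans (by rw [Finset.univ_inter])).trans hs) i
  simpa [hi] using h1

theorem descent {k E Γ X : Type*} [Field k] [Field E] [Algebra k E] [Group Γ] [Finite Γ]
    [MulSemiringAction Γ E] [FaithfulSMul Γ E] [AddCommGroup X] [Module k X] [Module E X]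
    [IsScalarTower k E X] (σ : Representation k Γ X)
    (hsemi : ∀ (g : Γ) (e : E) (x : X), σ g (e • x) = (g • e) • σ g x) : HFree σ ⊤ := by
  classical
  have := Fintype.ofFinite Γ
  obtain ⟨θ, hθ⟩ := exists_theta (E := E) (Γ := Γ)
  set M : Matrix Γ Γ E := Matrix.of fun s g : Γ => s • g • θ with hM
  have hMa : ∀ s g, M s g = s • g • θ := fun _ _ => rfl
  have hu : IsUnit M.det := isUnit_iff_ne_zero.mpr hθ
  set N := M⁻¹ with hN
  have hMN : M * N = 1 := Matrix.mul_nonsing_inv M hu
  have hNM : N * M = 1 := Matrix.nonsing_inv_mul M hu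
  -- the linear system has at most one solution
  have inj : ∀ y : Γ → X, (∀ s, ∑ g, M s g • y g = 0) → ∀ g, y g = 0 := by
    intro y hy g
    have h1 : y g = ∑ g', (N * M) g g' • y g' := by
      rw [hNM]
      simp [Matrix.one_apply, ite_smul]
    rw [h1]
    have h2 : ∑ g', (N * M) g g' • y g' = ∑ s, N g s • ∑ g', M s g' • y g' := by
      simp only [Matrix.mul_apply, Finset.sum_smul, Finset.smul_sum, mul_smul]
      rw [Finset.sum_comm]
    rw [h2]
    simp [hy]
  have hcomm : ∀ (c : k) (e : E) (x : X), e • c • x = c • e • x := by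
    intro c e x
    rw [← algebraMap_smul E c x, ← algebraMap_smul E c (e • x), smul_smul, smul_smul, mul_comm]
  let X₀ : Submodule k X :=
    { carrier := {x | ∀ g, σ g x = x}
      add_mem' := by
        intro a b ha hb g
        rw [map_add, ha g, hb g]
      zero_mem' := fun g => map_zero _
      smul_mem' := by
        intro c a ha g
        rw [map_smul, ha g] }
  let mθ : X →ₗ[k] X :=
    { toFun := fun x => θ • x
      map_add' := smul_add θ
      map_smul' := fun c x => hcomm c θ x }
  have hmem : ∀ (g : Γ) (x : X), x ∈ X₀ → (g • θ) • x ∈ (X₀.map mθ).map (σ g) := by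
    intro g x hx
    refine ⟨θ • x, ⟨x, hx, rfl⟩, ?_⟩
    rw [hsemi, hx g]
  have hmem' : ∀ (g : Γ) (w : X), w ∈ (X₀.map mθ).map (σ g) → ∃ x ∈ X₀, w = (g • θ) • x := by
    rintro g _ ⟨_, ⟨x, hx, rfl⟩, rfl⟩
    refine ⟨x, hx, ?_⟩
    change σ g (θ • x) = _
    rw [hsemi, hx g]
  refine ⟨X₀.map mθ, ?_, ?_⟩
  · apply indep_of_fintype
    intro v hv hsum
    choose y hy hvy using fun g => hmem' g (v g) (hv g)
    have h0 : ∀ g, y g = 0 := by
      apply inj
      intro s
      have h1 := congrArg (σ s) hsum
      rw [map_sum, map_zero] at h1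
      rw [← h1]
      apply Finset.sum_congr rfl
      intro g _
      rw [hvy g, hsemi, hy g s, hMa]
    intro g
    rw [hvy g, h0 g, smul_zero]
  · rw [eq_top_iff]
    intro x _
    let u : Γ → X := fun g => ∑ s, N g s • σ s x
    have hsys : ∀ s, ∑ g, M s g • u g = σ s x := by
      intro s
      have h2 : ∑ g, M s g • u g = ∑ t, (M * N) s t • σ t x := by
        simp only [u, Matrix.mul_apply, Finset.sum_smul, Finset.smul_sum, mul_smul]
        rw [Finset.sum_comm]
      rw [h2, hMN]
      simp [Matrix.one_apply, ite_smul]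
    have hu0 : ∀ g, u g ∈ X₀ := by
      intro g t
      have h3 : ∀ g, σ t (u g) - u g = 0 := by
        apply inj
        intro s
        simp only [smul_sub, Finset.sum_sub_distrib]
        rw [hsys s, sub_eq_zero]
        have h4 := congrArg (σ t) (hsys (t⁻¹ * s))
        rw [map_sum] at h4
        have h5 : σ t (σ (t⁻¹ * s) x) = σ s x := by
          rw [← Module.End.mul_apply, ← map_mul, mul_inv_cancel_left]
        rw [h5] at h4
        rw [← h4]
        apply Finset.sum_congr rfl
        intro g _
        have h6 : t • (t⁻¹ * s) • g • θ = s • g • θ := by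
          rw [← mul_smul t (t⁻¹ * s) (g • θ), mul_inv_cancel_left]
        rw [hsemi, hMa, hMa, h6]
      exact sub_eq_zero.mp (h3 g)
    have hx : x = ∑ g, (g • θ) • u g := by
      have := hsys 1
      simp only [hMa, one_smul, map_one, Module.End.one_apply] at this
      exact this.symm
    rw [hx]
    apply Submodule.sum_mem
    intro g _
    exact Submodule.mem_iSup_of_mem g (hmem g _ (hu0 g))

end Cfsg.Agent.Lib.H24FMDescent
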