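import Mathlib
import Cfsg.Agent.Lib.H24FMDefs
import Cfsg.Agent.Lib.H24FMDescent

set_option autoImplicit false

/-! PROJECT 4396 = FM (row S4396), piece `FieldCase` (layer 3, est. 75m).  Instance plumbing: apply `Descent.descent` with `E = ↥S`.
Keep file name, namespace, theorem names and statements; extra helper lemmas are fine.

SKETCH.  `S` is a commutative subalgebra of `End_k X` in which every non zero element is invertible, so `↥S` is a field:
`letI : CommRing S := { (inferInstance : Ring S) with mul_comm := ... }`, `IsField`, `IsField.toField` (or build `Field S` directly with `inv` by choice; `Nontrivial S` from `Nontrivial X`).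
KEEP the ring structure definitionally equal to the subalgebra one so that `Algebra k S`, `Module S X` (`a • x = (a : End k X) x`, instance `Subalgebra.moduleLeft`/`Submonoid` action;
`Module.End.applyModule`) and `IsScalarTower k S X` are still found (or give them by hand).
`MulSemiringAction Γ S`: `g • a = ⟨σ g * a * σ g⁻¹, hnorm g a a.2⟩` (`rep_mul_inv`, `rep_inv_mul` in Defs).  `FaithfulSMul`: if `g • a = g' • a` for all `a` then `g'⁻¹ g` acts trivially, so `g'⁻¹ g = 1` by `hfaith`.
`hsemi`: `σ g (a x) = (σ g * a * σ g⁻¹) (σ g x)`. -/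

namespace Cfsg.Agent.Lib.H24FMFieldCase

open Cfsg.Agent.Lib.H24FMDefs Cfsg.Agent.Lib.H24FMDescent

theorem fieldCase {k X Γ : Type*} [Field k] [AddCommGroup X] [Module k X] [Nontrivial X] [Group Γ]
    [Finite Γ] (σ : Representation k Γ X) (S : Subalgebra k (Module.End k X))
    (hcomm : ∀ a ∈ S, ∀ b ∈ S, a * b = b * a)
    (hfield : ∀ a ∈ S, a ≠ 0 → ∃ b ∈ S, a * b = 1)
    (hnorm : ∀ g : Γ, ∀ a ∈ S, σ g * a * σ g⁻¹ ∈ S)
    (hfaith : ∀ g : Γ, g ≠ 1 → ∃ a ∈ S, σ g * a * σ g⁻¹ ≠ a) : HFree σ ⊤ := by
  classical
  have hF : IsField S :=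
    { exists_pair_ne := ⟨0, 1, zero_ne_one⟩
      mul_comm := fun a b => Subtype.ext (hcomm a a.2 b b.2)
      mul_inv_cancel := fun {a} ha => by
        obtain ⟨b, hb, hab⟩ := hfield a a.2 (fun h => ha (Subtype.ext h))
        exact ⟨⟨b, hb⟩, Subtype.ext hab⟩ }
  letI iF : Field S := hF.toField
  letI iA : Algebra k S := S.algebra
  letI iM : Module S X := Subalgebra.moduleLeft S
  haveI iT : IsScalarTower k S X := ⟨fun r a x => by
    show ((r • a : S) : Module.End k X) x = r • ((a : Module.End k X) x)
    simp⟩
  letI iAct : MulSemiringAction Γ S :=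
    { smul := fun g a => ⟨σ g * a * σ g⁻¹, hnorm g a a.2⟩
      one_smul := fun a => Subtype.ext (by
        show σ 1 * (a : Module.End k X) * σ (1 : Γ)⁻¹ = a
        simp)
      mul_smul := fun g h a => Subtype.ext (by
        show σ (g * h) * (a : Module.End k X) * σ (g * h)⁻¹
          = σ g * (σ h * (a : Module.End k X) * σ h⁻¹) * σ g⁻¹
        simp [mul_assoc])
      smul_zero := fun g => Subtype.ext (by
        show σ g * ((0 : S) : Module.End k X) * σ g⁻¹ = ((0 : S) : Module.End k X)
        simp)
      smul_add := fun g a b => Subtype.ext (by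
        show σ g * ((a + b : S) : Module.End k X) * σ g⁻¹
          = σ g * (a : Module.End k X) * σ g⁻¹ + σ g * (b : Module.End k X) * σ g⁻¹
        simp [mul_add, add_mul])
      smul_one := fun g => Subtype.ext (by
        show σ g * ((1 : S) : Module.End k X) * σ g⁻¹ = ((1 : S) : Module.End k X)
        simp [rep_mul_inv])
      smul_mul := fun g a b => Subtype.ext (by
        show σ g * ((a * b : S) : Module.End k X) * σ g⁻¹
          = (σ g * (a : Module.End k X) * σ g⁻¹) * (σ g * (b : Module.End k X) * σ g⁻¹)
        calc σ g * ((a * b : S) : Module.End k X) * σ g⁻¹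
            = σ g * (a : Module.End k X) * 1 * (b : Module.End k X) * σ g⁻¹ := by
              simp [mul_assoc]
          _ = (σ g * (a : Module.End k X) * σ g⁻¹) * (σ g * (b : Module.End k X) * σ g⁻¹) := by
              rw [← rep_inv_mul σ g]; simp only [mul_assoc]) }
  have hsmul : ∀ (g : Γ) (a : S), ((g • a : S) : Module.End k X) = σ g * a * σ g⁻¹ :=
    fun _ _ => rfl
  haveI iFa : FaithfulSMul Γ S := ⟨fun {g g'} h => by
    by_contra hne
    have hne' : g'⁻¹ * g ≠ 1 := fun h1 => hne (by
      have := congrArg (fun t => g' * t) h1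
      simpa using this)
    obtain ⟨a, ha, hne2⟩ := hfaith _ hne'
    apply hne2
    have h1 := congrArg (fun t : S => g'⁻¹ • t) (h ⟨a, ha⟩)
    simp only [inv_smul_smul, ← mul_smul] at h1
    have h2 := congrArg (fun t : S => (t : Module.End k X)) h1
    simpa [hsmul] using h2⟩
  refine descent (E := S) σ ?_
  intro g e x
  show σ g ((e : Module.End k X) x) = (σ g * (e : Module.End k X) * σ g⁻¹) (σ g x)
  have : σ g⁻¹ (σ g x) = x := by
    have := LinearMap.congr_fun (rep_inv_mul σ g) x
    simpa using this
  simp [this]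

end Cfsg.Agent.Lib.H24FMFieldCase
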