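import Mathlib
import Cfsg.Agent.Lib.H24FMDefs

set_option autoImplicit false

/-! PROJECT 4396 = FM (row S4396), piece `MinI` (layer 1).  Elementary ring computations in `Module.End k V`. -/

namespace Cfsg.Agent.Lib.H24FMMinI

open Cfsg.Agent.Lib.H24FMDefs

variable {k V : Type*} [Field k] [AddCommGroup V] [Module k V] {H : Type*} [Group H]
  {σ : Representation k H V} {R : Submodule k (Module.End k V)}

theorem exists_minIdem [FiniteDimensional k V] (hD : Datum σ R) {ε₁ : Module.End k V} (h1 : ε₁ ∈ R)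
    (hi : ε₁ * ε₁ = ε₁) (hne : ε₁ ≠ 0) : ∃ ε, MinIdem R ε ∧ ε * ε₁ = ε := by
  classical
  let P : ℕ → Prop := fun n => ∃ η : Module.End k V, η ∈ R ∧ η * η = η ∧ η ≠ 0 ∧ η * ε₁ = η ∧
    Module.finrank k (LinearMap.range η) = n
  have hex : ∃ n, P n := ⟨_, ε₁, h1, hi, hne, hi, rfl⟩
  obtain ⟨ε, hεR, hεi, hεne, hε1, hεn⟩ := Nat.find_spec hex
  refine ⟨ε, ⟨hεR, hεi, hεne, ?_⟩, hε1⟩
  intro η hηR hηi hηne hηε
  have hη1 : η * ε₁ = η := by
    calc η * ε₁ = η * ε * ε₁ := by rw [hηε]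
      _ = η * (ε * ε₁) := by rw [mul_assoc]
      _ = η := by rw [hε1, hηε]
  have hεη : ε * η = η := by rw [hD.comm ε hεR η hηR, hηε]
  have hle : LinearMap.range η ≤ LinearMap.range ε := by
    rintro _ ⟨v, rfl⟩
    refine ⟨η v, ?_⟩
    calc ε (η v) = (ε * η) v := rfl
      _ = η v := by rw [hεη]
  have hmin : Module.finrank k (LinearMap.range ε) ≤ Module.finrank k (LinearMap.range η) := by
    rw [hεn]
    exact Nat.find_min' hex ⟨η, hηR, hηi, hηne, hη1, rfl⟩
  have heq : LinearMap.range η = LinearMap.range ε := Submodule.eq_of_le_of_finrank_le hle hmin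
  have : η * ε = ε := by
    ext v
    have hv : ε v ∈ LinearMap.range η := heq ▸ ⟨v, rfl⟩
    obtain ⟨w, hw⟩ := hv
    calc (η * ε) v = η (ε v) := rfl
      _ = η (η w) := by rw [hw]
      _ = (η * η) w := rfl
      _ = ε v := by rw [hηi, hw]
  rw [← hηε, this]

theorem minIdem_inv (hD : Datum σ R) {ε : Module.End k V} (hε : MinIdem R ε) {a : Module.End k V}
    (ha : a ∈ R) (hne : a * ε ≠ 0) : ∃ b ∈ R, a * b * ε = ε := by
  have hcR : a * ε ∈ R := hD.mul_mem a ha ε hε.mem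
  obtain ⟨d, hdR, hd⟩ := hD.reg (a * ε) hcR
  obtain ⟨c, hc⟩ : ∃ c, c = a * ε := ⟨_, rfl⟩
  rw [← hc] at hd hcR hne
  have hcd : c * d = d * c := hD.comm c hcR d hdR
  have hηR : c * d ∈ R := hD.mul_mem c hcR d hdR
  have hηi : (c * d) * (c * d) = c * d := by
    calc (c * d) * (c * d) = c * (d * c) * d := by simp only [mul_assoc]
      _ = c * (c * d) * d := by rw [hcd]
      _ = (c * c * d) * d := by simp only [mul_assoc]
      _ = c * d := by rw [← hd]
  have hηne : c * d ≠ 0 := by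
    intro h0
    apply hne
    rw [hd, mul_assoc, h0, mul_zero]
  have hcε : c * ε = c := by rw [hc, mul_assoc, hε.idem]
  have hηε : (c * d) * ε = c * d := by
    calc (c * d) * ε = (d * c) * ε := by rw [hcd]
      _ = d * (c * ε) := by rw [mul_assoc]
      _ = c * d := by rw [hcε, hcd]
  have hfin := hε.min (c * d) hηR hηi hηne hηε
  refine ⟨d, hdR, ?_⟩
  calc a * d * ε = a * (d * ε) := by rw [mul_assoc]
    _ = a * (ε * d) := by rw [hD.comm d hdR ε hε.mem]
    _ = c * d := by rw [hc, mul_assoc]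
    _ = ε := hfin

theorem conj_conj_aux (σ : Representation k H V) (h : H) (x : Module.End k V) :
    σ h * (σ h⁻¹ * x * σ h) * σ h⁻¹ = x := by
  calc σ h * (σ h⁻¹ * x * σ h) * σ h⁻¹ = (σ h * σ h⁻¹) * x * (σ h * σ h⁻¹) := by
        simp only [mul_assoc]
    _ = x := by rw [rep_mul_inv]; simp

theorem conj_mul_aux (σ : Representation k H V) (h : H) (x y : Module.End k V) :
    (σ h * x * σ h⁻¹) * (σ h * y * σ h⁻¹) = σ h * (x * y) * σ h⁻¹ := by
  calc (σ h * x * σ h⁻¹) * (σ h * y * σ h⁻¹) = σ h * x * (σ h⁻¹ * σ h) * y * σ h⁻¹ := by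
        simp only [mul_assoc]
    _ = σ h * (x * y) * σ h⁻¹ := by rw [rep_inv_mul]; simp only [mul_one, mul_assoc]

theorem minIdem_conj (hD : Datum σ R) {ε : Module.End k V} (hε : MinIdem R ε) (h : H) :
    MinIdem R (σ h * ε * σ h⁻¹) := by
  refine ⟨hD.norm h ε hε.mem, ?_, ?_, ?_⟩
  · rw [conj_mul_aux, hε.idem]
  · intro h0
    apply hε.ne
    have := conj_conj_aux σ h⁻¹ ε
    rw [inv_inv] at this
    rw [← this, h0]
    simp
  · intro η hηR hηi hηne hηε
    -- η' = σ h⁻¹ η σ h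
    have hη'R : σ h⁻¹ * η * σ h ∈ R := by
      have := hD.norm h⁻¹ η hηR
      rwa [inv_inv] at this
    have hback : σ h * (σ h⁻¹ * η * σ h) * σ h⁻¹ = η := conj_conj_aux σ h η
    have hcm : ∀ x y : Module.End k V, (σ h⁻¹ * x * σ h) * (σ h⁻¹ * y * σ h) = σ h⁻¹ * (x * y) * σ h := by
      intro x y
      have := conj_mul_aux σ h⁻¹ x y
      rwa [inv_inv] at this
    have hη'i : (σ h⁻¹ * η * σ h) * (σ h⁻¹ * η * σ h) = σ h⁻¹ * η * σ h := by
      rw [hcm, hηi]
    have hη'ne : σ h⁻¹ * η * σ h ≠ 0 := by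
      intro h0
      apply hηne
      rw [← hback, h0]
      simp
    have hεback : σ h⁻¹ * (σ h * ε * σ h⁻¹) * σ h = ε := by
      have := conj_conj_aux σ h⁻¹ ε
      rwa [inv_inv] at this
    have hη'ε : (σ h⁻¹ * η * σ h) * ε = σ h⁻¹ * η * σ h := by
      calc (σ h⁻¹ * η * σ h) * ε = (σ h⁻¹ * η * σ h) * (σ h⁻¹ * (σ h * ε * σ h⁻¹) * σ h) := by
            rw [hεback]
        _ = σ h⁻¹ * η * σ h := by rw [hcm, hηε]
    have := hε.min _ hη'R hη'i hη'ne hη'ε
    rw [← hback, this]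

theorem minIdem_orth (hD : Datum σ R) {ε η : Module.End k V} (hε : MinIdem R ε) (hη : MinIdem R η)
    (hne : ε ≠ η) : ε * η = 0 := by
  by_contra h0
  have hc : ε * η = η * ε := hD.comm ε hε.mem η hη.mem
  have hR : ε * η ∈ R := hD.mul_mem ε hε.mem η hη.mem
  have hη' : (ε * η) * η = ε * η := by rw [mul_assoc, hη.idem]
  have hε' : (ε * η) * ε = ε * η := by rw [hc, mul_assoc, hε.idem]
  have hi : (ε * η) * (ε * η) = ε * η := by
    rw [← mul_assoc, hε', hη']
  exact hne ((hε.min _ hR hi h0 hε').symm.trans (hη.min _ hR hi h0 hη'))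

end Cfsg.Agent.Lib.H24FMMinI
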