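import Mathlib
import Cfsg.Agent.Lib.H24FMDefs
import Cfsg.Agent.Lib.H24FMMinI
import Cfsg.Agent.Lib.H24FMFieldCase

set_option autoImplicit false

/-! PROJECT 4396 = FM (row S4396), piece `FieldAt` (layer 4, est. 90m).  Restriction to the subspace `X = range ε` and transport back.
Keep file name, namespace, theorem names and statements; extra helper lemmas are fine.

SKETCH.  `X = LinearMap.range ε` (as a type `↥X`), `Γ = stabE σ ε`, non zero because `ε ≠ 0`.  Every `a ∈ R` commutes with `ε`, so it maps `X` to `X`; every `σ g`, `g ∈ Γ`, commutes with `ε`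
(`σ g * ε = ε * σ g` from `σ g * ε * σ g⁻¹ = ε`), so it maps `X` to `X`: `τ : Representation k ↥Γ ↥X`, `τ g = (σ g).restrict _`.
`S : Subalgebra k (End k ↥X)` with carrier `{b | ∃ a ∈ R, ∀ x : ↥X, ((b x : ↥X) : V) = a x}` (`1` comes from `a = ε`, `algebraMap c` from `c • ε`, products from `hD.mul_mem`).
hcomm: `hD.comm`.  hfield: `b ≠ 0` gives `a * ε ≠ 0`; `MinI.minIdem_inv` gives `a * a' * ε = ε`, so the restriction of `a'` is the inverse.  hnorm: `hD.norm`.
hfaith: `hD.free g (g ≠ 1) ε ..` gives `a ∈ R` with `σ g * a * σ g⁻¹ * ε ≠ a * ε`: the restrictions to `X` differ.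
`FieldCase.fieldCase τ S ..` gives `W' : Submodule k ↥X`; take `W = W'.map X.subtype`.  `W.map (σ g) = (W'.map (τ g)).map X.subtype`; `Submodule.map X.subtype` is injective and commutes with `⨆`
(`Submodule.map_iSup`), maps `⊤` to `X` (`Submodule.map_subtype_top`) and preserves `iSupIndep` (`iSupIndep.map_orderIso`/`Submodule.map` of an injective map: `iSupIndep_map_orderIso_iff`,
`Submodule.MapSubtype.orderIso`/`relIso`, or by hand with `Submodule.disjoint_map`/`Disjoint.map`). -/

namespace Cfsg.Agent.Lib.H24FMFieldAt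

open Cfsg.Agent.Lib.H24FMDefs Cfsg.Agent.Lib.H24FMMinI Cfsg.Agent.Lib.H24FMFieldCase

variable {k V : Type*} [Field k] [AddCommGroup V] [Module k V] {H : Type*} [Group H]
  {σ : Representation k H V} {R : Submodule k (Module.End k V)}

theorem fieldAt [Finite H] (hD : Datum σ R) {ε : Module.End k V} (hε : MinIdem R ε) :
    HFree (σ.comp (stabE σ ε).subtype) (LinearMap.range ε) := by
  classical
  set X : Submodule k V := LinearMap.range ε with hX
  set Γ := stabE σ ε with hΓ
  have hεX : ∀ x ∈ X, ε x = x := by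
    rintro _ ⟨y, rfl⟩
    rw [← Module.End.mul_apply, hε.idem]
  have hRX : ∀ a ∈ R, ∀ x ∈ X, a x ∈ X := by
    rintro a ha _ ⟨y, rfl⟩
    refine ⟨a y, ?_⟩
    rw [← Module.End.mul_apply, ← Module.End.mul_apply, hD.comm a ha ε hε.mem]
  have hΓc : ∀ g : Γ, σ (g : H) * ε = ε * σ (g : H) := by
    intro g
    have h1 : σ (g : H) * ε * σ (g : H)⁻¹ = ε := g.2
    calc σ (g : H) * ε = σ (g : H) * ε * (σ (g : H)⁻¹ * σ (g : H)) := by rw [rep_inv_mul, mul_one]
      _ = (σ (g : H) * ε * σ (g : H)⁻¹) * σ (g : H) := by simp only [mul_assoc]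
      _ = ε * σ (g : H) := by rw [h1]
  have hΓX : ∀ g : Γ, ∀ x ∈ X, σ (g : H) x ∈ X := by
    rintro g _ ⟨y, rfl⟩
    refine ⟨σ (g : H) y, ?_⟩
    rw [← Module.End.mul_apply, ← Module.End.mul_apply, hΓc g]
  let τ : Representation k Γ X :=
    { toFun := fun g => (σ (g : H)).restrict (hΓX g)
      map_one' := by
        ext x
        simp
      map_mul' := by
        intro g g'
        ext x
        simp }
  have hτ : ∀ (g : Γ) (x : X), ((τ g x : X) : V) = σ (g : H) x := fun g x => rfl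
  let S : Subalgebra k (Module.End k X) :=
    { carrier := {b | ∃ a ∈ R, ∀ x : X, ((b x : X) : V) = a x}
      mul_mem' := by
        rintro b b' ⟨a, ha, hb⟩ ⟨a', ha', hb'⟩
        refine ⟨a * a', hD.mul_mem a ha a' ha', fun x => ?_⟩
        rw [Module.End.mul_apply, hb, hb', Module.End.mul_apply]
      add_mem' := by
        rintro b b' ⟨a, ha, hb⟩ ⟨a', ha', hb'⟩
        refine ⟨a + a', R.add_mem ha ha', fun x => ?_⟩
        rw [LinearMap.add_apply, Submodule.coe_add, hb, hb', LinearMap.add_apply]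
      algebraMap_mem' := by
        intro r
        refine ⟨r • ε, R.smul_mem r hε.mem, fun x => ?_⟩
        rw [Module.algebraMap_end_apply, LinearMap.smul_apply, hεX x x.2]
        rfl }
  have hSmem : ∀ b : Module.End k X, b ∈ S ↔ ∃ a ∈ R, ∀ x : X, ((b x : X) : V) = a x := fun b => Iff.rfl
  have hnt : Nontrivial X := by
    have : ∃ y, ε y ≠ 0 := by
      by_contra hcon
      push Not at hcon
      exact hε.ne (LinearMap.ext hcon)
    obtain ⟨y, hy⟩ := this
    exact ⟨⟨⟨ε y, ⟨y, rfl⟩⟩, 0, fun e => hy (congrArg Subtype.val e)⟩⟩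
  have hcomm : ∀ a ∈ S, ∀ b ∈ S, a * b = b * a := by
    rintro b ⟨a, ha, hb⟩ b' ⟨a', ha', hb'⟩
    ext x
    rw [Module.End.mul_apply, Module.End.mul_apply, hb, hb', hb', hb, ← Module.End.mul_apply,
      ← Module.End.mul_apply, hD.comm a ha a' ha']
  have hfield : ∀ a ∈ S, a ≠ 0 → ∃ b ∈ S, a * b = 1 := by
    rintro b ⟨a, ha, hb⟩ hb0
    have hne : a * ε ≠ 0 := by
      intro h0
      apply hb0
      ext x
      rw [hb, ← hεX x x.2, ← Module.End.mul_apply, h0]
      rfl
    obtain ⟨a', ha', haa'⟩ := minIdem_inv hD hε ha hne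
    refine ⟨a'.restrict (hRX a' ha'), ⟨a', ha', fun x => rfl⟩, ?_⟩
    ext x
    rw [Module.End.mul_apply, hb, LinearMap.coe_restrict_apply, Module.End.one_apply]
    conv_lhs => rw [← hεX x x.2]
    rw [← Module.End.mul_apply, ← Module.End.mul_apply, haa', hεX x x.2]
  have hnorm : ∀ g : Γ, ∀ a ∈ S, τ g * a * τ g⁻¹ ∈ S := by
    rintro g b ⟨a, ha, hb⟩
    refine ⟨σ (g : H) * a * σ (g : H)⁻¹, hD.norm g a ha, fun x => ?_⟩
    rw [Module.End.mul_apply, Module.End.mul_apply, hτ, hb, hτ, Module.End.mul_apply,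
      Module.End.mul_apply]
    rfl
  have hfaith : ∀ g : Γ, g ≠ 1 → ∃ a ∈ S, τ g * a * τ g⁻¹ ≠ a := by
    intro g hg
    have hg' : (g : H) ≠ 1 := fun e => hg (Subtype.ext e)
    obtain ⟨a, ha, hne⟩ := hD.free g hg' ε hε.mem hε.idem hε.ne g.2
    refine ⟨a.restrict (hRX a ha), ⟨a, ha, fun x => rfl⟩, ?_⟩
    intro e
    apply hne
    ext y
    have h1 := congrArg (fun f : Module.End k X => ((f ⟨ε y, ⟨y, rfl⟩⟩ : X) : V)) e
    simp only [Module.End.mul_apply, hτ, LinearMap.coe_restrict_apply] at h1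
    rw [Module.End.mul_apply, Module.End.mul_apply, Module.End.mul_apply, Module.End.mul_apply]
    exact h1
  obtain ⟨W', hind, hsup⟩ := fieldCase τ S hcomm hfield hnorm hfaith
  have hmap : ∀ g : Γ, (W'.map X.subtype).map ((σ.comp Γ.subtype) g) = (W'.map (τ g)).map X.subtype := by
    intro g
    rw [← Submodule.map_comp, ← Submodule.map_comp]
    rfl
  refine ⟨W'.map X.subtype, ?_, ?_⟩
  · rw [iSupIndep_def] at hind ⊢
    intro g
    have h1 := Submodule.disjoint_map X.injective_subtype (hind g)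
    rw [Submodule.map_iSup] at h1
    simp only [Submodule.map_iSup] at h1
    simp only [hmap]
    exact h1
  · simp only [hmap]
    rw [← Submodule.map_iSup, hsup, Submodule.map_subtype_top]

end Cfsg.Agent.Lib.H24FMFieldAt
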