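import Mathlib
import Cfsg.Agent.Lib.H24FMDefs
import Cfsg.Agent.Lib.H24FMMinI

set_option autoImplicit false

/-! PROJECT 4396 = FM (row S4396), piece `Orbit` (layer 2, est. 90m).  Induction from the stabilizer `Γ` of a minimal idempotent to `H`.
Keep file name, namespace, theorem names and statements; extra helper lemmas are fine.

SKETCH.  `classical`; `c h = σ h * ε * σ h⁻¹` (`h : H`), `Γ = stabE σ ε`; `c h = c h' ↔ h⁻¹ h' ∈ Γ`.  All `c h` are minimal idempotents (`MinI.minIdem_conj`) and two different ones have product `0`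
(`MinI.minIdem_orth`).  `O = Finset.univ.image c` (`Fintype H := Fintype.ofFinite H`), `ε' = ∑ η ∈ O, η`.  `ε' ∈ R`; `ε' * ε' = ε'` (orthogonal idempotents: `Finset.sum_mul_sum`/`Finset.sum_mul`, only diagonal terms survive);
`σ h * ε' * σ h⁻¹ = ε'` (conjugation permutes `O`: `σ h * c h' * σ h⁻¹ = c (h h')`; `Finset.sum_bij`/`Finset.sum_nbij`); `c h * ε₁ = c h` (conjugate `ε * ε₁ = ε` by `σ h`, `h1.inv`), so `ε' * ε₁ = ε'`;
`ε' * ε = ε ≠ 0` so `ε' ≠ 0`.
HFree: let `W` be given by `hfree`: the `σ g W`, `g ∈ Γ`, are independent with supremum `range ε`.  The SAME `W` works for `H`.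
* `σ h W ≤ range (c h)` and `⨆_{g ∈ Γ} σ (h g) W = σ h (range ε) = range (c h)`; `range ε' = ⨆_{η ∈ O} range η` (`η v = ε' (η v)`); so `⨆_h σ h W = range ε'`.
* independence: let `∑_h σ h w_h = 0` (`w_h ∈ W`).  Apply `c t`: `c t (σ h w) = σ h w` if `c h = c t` (i.e. `h ∈ t Γ`) and `= 0` otherwise (`σ h w ∈ range (c h)`, orthogonality).  So
`∑_{g ∈ Γ} σ (t g) w_{t g} = 0`, apply `σ t⁻¹`, independence for `Γ` gives `w_{t g}`-terms `= 0`.  (Lattice version: `σ h W ⊓ ⨆_{h' ≠ h} σ h' W`: an element `v` of it satisfies `v = c h v`, and `c h` maps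
`⨆_{h' ≠ h} σ h' W` into `⨆_{h' ≠ h, h' ∈ h Γ} σ h' W`; then transport by `σ h⁻¹` to the independence for `Γ`.) -/

namespace Cfsg.Agent.Lib.H24FMOrbit

open Cfsg.Agent.Lib.H24FMDefs Cfsg.Agent.Lib.H24FMMinI

variable {k V : Type*} [Field k] [AddCommGroup V] [Module k V] {H : Type*} [Group H]
  {σ : Representation k H V} {R : Submodule k (Module.End k V)}

theorem orbit [Finite H] (hD : Datum σ R) {ε ε₁ : Module.End k V} (hε : MinIdem R ε)
    (h1 : InvIdem σ R ε₁) (hle : ε * ε₁ = ε)
    (hfree : HFree (σ.comp (stabE σ ε).subtype) (LinearMap.range ε)) :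
    ∃ ε', InvIdem σ R ε' ∧ ε' * ε₁ = ε' ∧ ε' ≠ 0 ∧ HFree σ (LinearMap.range ε') := by
  classical
  have hFH : Fintype H := Fintype.ofFinite H
  set Γ := stabE σ ε with hΓ
  let c : H → Module.End k V := fun h => σ h * ε * σ h⁻¹
  have hc1 : c 1 = ε := by simp [c]
  have hcmul : ∀ h h', σ h * c h' * σ h⁻¹ = c (h * h') := by
    intro h h'
    simp only [c, map_mul, mul_inv_rev, mul_assoc]
  have hcmin : ∀ h, MinIdem R (c h) := fun h => minIdem_conj hD hε h
  have hceq : ∀ h h', c h = c h' ↔ h⁻¹ * h' ∈ Γ := by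
    intro h h'
    rw [hΓ, mem_stabE]
    change c h = c h' ↔ c (h⁻¹ * h') = ε
    rw [← hcmul h⁻¹ h']
    constructor
    · intro e
      rw [← e, hcmul, inv_mul_cancel, hc1]
    · intro e
      have : c h' = σ h * (σ h⁻¹ * c h' * σ h⁻¹⁻¹) * σ h⁻¹ := by
        rw [hcmul, hcmul, mul_inv_cancel_left]
      rw [this, e]
  have horth : ∀ h h', c h ≠ c h' → c h * c h' = 0 :=
    fun h h' hne => minIdem_orth hD (hcmin h) (hcmin h') hne
  set O : Finset (Module.End k V) := Finset.univ.image c with hO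
  have hmemO : ∀ h, c h ∈ O := fun h => Finset.mem_image_of_mem c (Finset.mem_univ h)
  set ε' : Module.End k V := ∑ η ∈ O, η with hε'
  have hOmul : ∀ h, c h * ε' = c h := by
    intro h
    rw [hε', Finset.mul_sum, Finset.sum_eq_single (c h)]
    · exact (hcmin h).idem
    · intro η hη hne
      obtain ⟨h', -, rfl⟩ := Finset.mem_image.1 hη
      exact horth h h' (Ne.symm hne)
    · intro hn
      exact absurd (hmemO h) hn
  have hOmul' : ∀ h, ε' * c h = c h := by
    intro h
    rw [hε', Finset.sum_mul, Finset.sum_eq_single (c h)]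
    · exact (hcmin h).idem
    · intro η hη hne
      obtain ⟨h', -, rfl⟩ := Finset.mem_image.1 hη
      exact horth h' h hne
    · intro hn
      exact absurd (hmemO h) hn
  have hmem : ε' ∈ R := by
    rw [hε']
    refine Submodule.sum_mem _ (fun η hη => ?_)
    obtain ⟨h', -, rfl⟩ := Finset.mem_image.1 hη
    exact (hcmin h').mem
  have hidem : ε' * ε' = ε' := by
    conv_lhs => rw [hε', Finset.sum_mul]
    rw [hε']
    refine Finset.sum_congr rfl (fun η hη => ?_)
    obtain ⟨h', -, rfl⟩ := Finset.mem_image.1 hη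
    exact hOmul h'
  have hinv : ∀ h : H, σ h * ε' * σ h⁻¹ = ε' := by
    intro h
    have hinj : Function.Injective (fun a : Module.End k V => σ h * a * σ h⁻¹) := by
      intro a b hab
      have e : ∀ x : Module.End k V, x = σ h⁻¹ * (σ h * x * σ h⁻¹) * σ h := by
        intro x
        calc x = (σ h⁻¹ * σ h) * x * (σ h⁻¹ * σ h) := by rw [rep_inv_mul]; simp
          _ = σ h⁻¹ * (σ h * x * σ h⁻¹) * σ h := by simp only [mul_assoc]
      rw [e a, e b]
      simp only at hab
      rw [hab]
    have himg : O.image (fun a : Module.End k V => σ h * a * σ h⁻¹) = O := by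
      rw [hO, Finset.image_image]
      have e : (fun a : Module.End k V => σ h * a * σ h⁻¹) ∘ c = c ∘ (fun x => h * x) := by
        funext x
        exact hcmul h x
      rw [e, ← Finset.image_image, Finset.image_univ_of_surjective (mul_left_surjective h)]
    calc σ h * ε' * σ h⁻¹ = ∑ η ∈ O, σ h * η * σ h⁻¹ := by
          rw [hε', Finset.mul_sum, Finset.sum_mul]
      _ = ∑ η ∈ O.image (fun a : Module.End k V => σ h * a * σ h⁻¹), η :=
          (Finset.sum_image (f := fun η : Module.End k V => η) (fun a _ b _ hab => hinj hab)).symm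
      _ = ε' := by rw [himg]
  have hc₁ : ∀ h, c h * ε₁ = c h := by
    intro h
    have e1 := h1.inv h⁻¹
    rw [inv_inv] at e1
    calc c h * ε₁ = σ h * ε * (σ h⁻¹ * ε₁ * σ h) * σ h⁻¹ := by
          simp only [c, mul_assoc]
          rw [rep_mul_inv, mul_one]
      _ = c h := by rw [e1, mul_assoc (σ h), hle]
  have hle' : ε' * ε₁ = ε' := by
    conv_lhs => rw [hε', Finset.sum_mul]
    rw [hε']
    refine Finset.sum_congr rfl (fun η hη => ?_)
    obtain ⟨h', -, rfl⟩ := Finset.mem_image.1 hη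
    exact hc₁ h'
  have hne : ε' ≠ 0 := by
    intro h0
    have := hOmul 1
    rw [hc1, h0, mul_zero] at this
    exact hε.ne this.symm
  refine ⟨ε', ⟨hmem, hidem, hinv⟩, hle', hne, ?_⟩
  obtain ⟨W, hind, hsup⟩ := hfree
  have hσΓ : ∀ g : Γ, (σ.comp Γ.subtype) g = σ (g : H) := fun g => rfl
  have hWε : ∀ w ∈ W, ε w = w := by
    intro w hw
    have h2 : w ∈ LinearMap.range ε := by
      rw [← hsup]
      refine Submodule.mem_iSup_of_mem (1 : Γ) ⟨w, hw, ?_⟩
      rw [map_one]; rfl
    obtain ⟨y, rfl⟩ := h2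
    rw [← Module.End.mul_apply, hε.idem]
  -- `c h` fixes `σ h W`
  have hfix : ∀ h, ∀ x ∈ W.map (σ h), c h x = x := by
    rintro h _ ⟨w, hw, rfl⟩
    show (σ h * ε * σ h⁻¹) (σ h w) = σ h w
    rw [Module.End.mul_apply, ← Module.End.mul_apply (σ h⁻¹), rep_inv_mul, Module.End.one_apply,
      Module.End.mul_apply, hWε w hw]
  refine ⟨W, ?_, ?_⟩
  · rw [iSupIndep_iff_finsetSum_eq_zero_imp_eq_zero] at hind ⊢
    -- total version
    have key : ∀ u : H → V, (∀ i, u i ∈ W.map (σ i)) → ∑ i, u i = 0 → ∀ i, u i = 0 := by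
      intro u hu hsum t
      have hFΓ : Fintype Γ := Fintype.ofFinite Γ
      have hct : ∀ i, c t (u i) = if t⁻¹ * i ∈ Γ then u i else 0 := by
        intro i
        by_cases hi : t⁻¹ * i ∈ Γ
        · rw [if_pos hi, (hceq t i).2 hi]
          exact hfix i _ (hu i)
        · rw [if_neg hi, ← hfix i _ (hu i), ← Module.End.mul_apply,
            horth t i (fun e => hi ((hceq t i).1 e))]
          rfl
      have e0 : ∑ i : H, (if t⁻¹ * i ∈ Γ then u i else 0) = 0 := by
        rw [← Finset.sum_congr rfl (fun i _ => hct i), ← map_sum, hsum, map_zero]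
      have e1 : ∑ g : Γ, u (t * g) = ∑ i : H, if i ∈ Γ then u (t * i) else 0 := by
        rw [← Finset.sum_filter]
        exact (Finset.sum_subtype (Finset.univ.filter (· ∈ Γ)) (by simp) (fun i => u (t * i))).symm
      have e2 : ∑ i : H, (if i ∈ Γ then u (t * i) else 0) = ∑ i : H, (if t⁻¹ * i ∈ Γ then u i else 0) := by
        refine Fintype.sum_equiv (Equiv.mulLeft t) _ _ (fun i => ?_)
        simp
      have e3 : ∑ g : Γ, σ t⁻¹ (u (t * g)) = 0 := by
        rw [← map_sum, e1, e2, e0, map_zero]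
      have h3 := hind Finset.univ (fun g : Γ => σ t⁻¹ (u (t * g))) (by
        intro g _
        obtain ⟨w, hw, hwe⟩ := hu (t * g)
        refine ⟨w, hw, ?_⟩
        rw [hσΓ, ← hwe, ← Module.End.mul_apply, ← map_mul, inv_mul_cancel_left]) e3 1
        (Finset.mem_univ _)
      simp only [OneMemClass.coe_one, mul_one] at h3
      have : u t = σ t (σ t⁻¹ (u t)) := by
        rw [← Module.End.mul_apply, rep_mul_inv, Module.End.one_apply]
      rw [this, h3, map_zero]
    intro s v hv hsum i hi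
    have := key (fun i => if i ∈ s then v i else 0) (by
      intro i
      by_cases his : i ∈ s
      · simp only [if_pos his]; exact hv i his
      · simp only [if_neg his]; exact Submodule.zero_mem _) (by
      rw [← Finset.sum_filter]
      simpa using hsum) i
    simpa [hi] using this
  · apply le_antisymm
    · refine iSup_le (fun h => ?_)
      intro x hx
      refine ⟨x, ?_⟩
      rw [← hfix h x hx, ← Module.End.mul_apply, hOmul']
    · have hinvS : ∀ h, ∀ x ∈ (⨆ h : H, W.map (σ h)), σ h x ∈ (⨆ h : H, W.map (σ h)) := by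
        intro h x hx
        have h2 : (⨆ h' : H, W.map (σ h')).map (σ h) ≤ ⨆ h' : H, W.map (σ h') := by
          rw [Submodule.map_iSup]
          refine iSup_le (fun h' => ?_)
          refine le_trans ?_ (le_iSup (fun h'' : H => W.map (σ h'')) (h * h'))
          rintro _ ⟨_, ⟨w, hw, rfl⟩, rfl⟩
          exact ⟨w, hw, by rw [map_mul, Module.End.mul_apply]⟩
        exact h2 ⟨x, hx, rfl⟩
      have hεS : LinearMap.range ε ≤ ⨆ h : H, W.map (σ h) := by
        rw [← hsup]
        refine iSup_le (fun g => ?_)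
        exact le_iSup (fun h'' : H => W.map (σ h'')) (g : H)
      rintro _ ⟨y, rfl⟩
      rw [hε', LinearMap.sum_apply]
      refine Submodule.sum_mem _ (fun η hη => ?_)
      obtain ⟨h', -, rfl⟩ := Finset.mem_image.1 hη
      show (σ h' * ε * σ h'⁻¹) y ∈ _
      rw [Module.End.mul_apply, Module.End.mul_apply]
      exact hinvS h' _ (hεS ⟨_, rfl⟩)

end Cfsg.Agent.Lib.H24FMOrbit
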