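import Mathlib
import Cfsg.Agent.Lib.H24FMDefs
import Cfsg.Agent.Lib.H24FMBasic
import Cfsg.Agent.Lib.H24FMMinI
import Cfsg.Agent.Lib.H24FMOrbit
import Cfsg.Agent.Lib.H24FMFieldAt

set_option autoImplicit false

/-! PROJECT 4396 = FM (row S4396): assembly of the ring-theoretic core (helper24). -/

namespace Cfsg.Agent.Lib.H24FMCore

open Cfsg.Agent.Lib.H24FMDefs Cfsg.Agent.Lib.H24FMBasic Cfsg.Agent.Lib.H24FMMinI
  Cfsg.Agent.Lib.H24FMOrbit Cfsg.Agent.Lib.H24FMFieldAt

variable {k V : Type*} [Field k] [AddCommGroup V] [Module k V] {H : Type*} [Group H]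
  {σ : Representation k H V} {R : Submodule k (Module.End k V)}

theorem step [Finite H] [FiniteDimensional k V] (hD : Datum σ R) {ε₁ : Module.End k V}
    (h1 : InvIdem σ R ε₁) (hne : ε₁ ≠ 0) :
    ∃ ε', InvIdem σ R ε' ∧ ε' * ε₁ = ε' ∧ ε' ≠ 0 ∧ HFree σ (LinearMap.range ε') := by
  obtain ⟨ε, hε, hle⟩ := exists_minIdem hD h1.mem h1.idem hne
  exact orbit hD hε h1 hle (fieldAt hD hε)

theorem core_aux [Finite H] [FiniteDimensional k V] (hD : Datum σ R) (n : ℕ) :
    ∀ ε₁ : Module.End k V, InvIdem σ R ε₁ → Module.finrank k (LinearMap.range ε₁) ≤ n →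
      HFree σ (LinearMap.range ε₁) := by
  induction n with
  | zero =>
    intro ε₁ h1 hn
    by_cases h0 : ε₁ = 0
    · rw [h0, LinearMap.range_zero]; exact hfree_bot σ
    · exfalso
      have h2 : LinearMap.range ε₁ = ⊥ := by
        apply Submodule.finrank_eq_zero.mp
        omega
      exact h0 (LinearMap.range_eq_bot.mp h2)
  | succ n ih =>
    intro ε₁ h1 hn
    by_cases h0 : ε₁ = 0
    · rw [h0, LinearMap.range_zero]; exact hfree_bot σ
    · obtain ⟨e, he, hle, hene, hfe⟩ := step hD h1 h0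
      have hle' : ε₁ * e = e := by rw [hD.comm _ h1.mem _ he.mem, hle]
      set f := ε₁ - e with hf
      have hsum : e + f = ε₁ := by rw [hf]; abel
      have hff : f * f = f := by
        rw [hf, sub_mul, mul_sub, mul_sub, h1.idem, hle, hle', he.idem]; abel
      have hef : e * f = 0 := by rw [hf, mul_sub, hle, he.idem, sub_self]
      have hfe' : f * e = 0 := by rw [hf, sub_mul, hle', he.idem, sub_self]
      have hfI : InvIdem σ R f := by
        refine ⟨R.sub_mem h1.mem he.mem, hff, fun h => ?_⟩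
        rw [hf, mul_sub, sub_mul, h1.inv, he.inv]
      have hlt := finrank_range_lt he.idem hff hef hfe' hene
      rw [hsum] at hlt
      have hfree_f := ih f hfI (by omega)
      obtain ⟨hr, hd⟩ := range_add_of_orth he.idem hff hef hfe'
      rw [← hsum, hr]
      exact hfree_sup σ hfe hfree_f hd

/-- THE CORE: for a datum `R`, the range of every `H`-invariant idempotent of `R` is `H`-free. -/
theorem core [Finite H] [FiniteDimensional k V] (hD : Datum σ R) {ε₁ : Module.End k V}
    (h1 : InvIdem σ R ε₁) : HFree σ (LinearMap.range ε₁) :=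
  core_aux hD _ ε₁ h1 le_rfl

end Cfsg.Agent.Lib.H24FMCore
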