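import Mathlib

set_option autoImplicit false

/-! PROJECT 4396 = FM (row S4396), piece `FixP` (layer 1).  PURE MATHLIB: a finite `p`-group acting linearly in characteristic `p` (ANY field, possibly infinite; no finite dimension) fixes a non zero vector
of every non zero invariant subspace. -/

namespace Cfsg.Agent.Lib.H24FMFixP

theorem exists_fixed {k V A : Type*} [Field k] [AddCommGroup V] [Module k V] [Group A] [Finite A]
    (p : ℕ) [Fact p.Prime] [CharP k p] (ρ : Representation k A V) (P : Subgroup A)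
    (hP : IsPGroup p ↥P) (X : Submodule k V) (hX : X ≠ ⊥) (hinv : ∀ x ∈ P, ∀ v ∈ X, ρ x v ∈ X) :
    ∃ v ∈ X, v ≠ 0 ∧ ∀ x ∈ P, ρ x v = v := by
  classical
  obtain ⟨v₀, hv₀X, hv₀⟩ := (Submodule.ne_bot_iff X).1 hX
  have hpV : ∀ v : V, p • v = 0 := by
    intro v
    rw [← Nat.cast_smul_eq_nsmul k, CharP.cast_eq_zero, zero_smul]
  let S : Set V := Set.range (fun x : P => ρ x v₀)
  let M : AddSubgroup V := AddSubgroup.closure S
  have hSfin : S.Finite := Set.finite_range _
  have hMX : ∀ m ∈ M, m ∈ X := by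
    have : M ≤ X.toAddSubgroup := (AddSubgroup.closure_le _).2 (by
      rintro _ ⟨x, rfl⟩
      exact hinv x x.2 v₀ hv₀X)
    exact fun m hm => this hm
  have hMinv : ∀ x ∈ P, ∀ m ∈ M, ρ x m ∈ M := by
    intro x hx m hm
    induction hm using AddSubgroup.closure_induction with
    | mem y hy =>
      obtain ⟨z, rfl⟩ := hy
      apply AddSubgroup.subset_closure
      exact ⟨⟨x, hx⟩ * z, by simp [map_mul]⟩
    | zero => rw [map_zero]; exact M.zero_mem
    | add a b _ _ ha hb => rw [map_add]; exact M.add_mem ha hb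
    | neg a _ ha => rw [map_neg]; exact M.neg_mem ha
  have hfin : Finite M := by
    haveI : AddGroup.FG M := (AddGroup.fg_iff_addSubgroup_fg M).2 ⟨hSfin.toFinset, by simp [M]⟩
    apply AddCommGroup.finite_of_fg_torsion
    intro m
    rw [isOfFinAddOrder_iff_nsmul_eq_zero]
    exact ⟨p, (Fact.out : p.Prime).pos, Subtype.ext (hpV m)⟩
  let act : MulAction P M :=
    { smul := fun x m => ⟨ρ x m, hMinv x x.2 m m.2⟩
      one_smul := fun m => Subtype.ext (by show ρ ((1 : P) : A) m = m; simp)
      mul_smul := fun x y m => Subtype.ext (by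
        show ρ ((x * y : P) : A) m = ρ x (ρ y m)
        simp [map_mul]) }
  have hv₀M : v₀ ∈ M := AddSubgroup.subset_closure ⟨1, by simp⟩
  have hdvd : p ∣ Nat.card M := by
    have h1 : addOrderOf (⟨v₀, hv₀M⟩ : M) = p :=
      addOrderOf_eq_prime (Subtype.ext (hpV v₀)) (fun h => hv₀ (congrArg Subtype.val h))
    rw [← h1]
    exact addOrderOf_dvd_natCard _
  obtain ⟨b, hb, hne⟩ := hP.exists_fixed_point_of_prime_dvd_card_of_fixed_point M hdvd (a := 0) (by
    intro x
    apply Subtype.ext
    show ρ x 0 = 0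
    simp)
  refine ⟨b, hMX b b.2, fun h => hne (Subtype.ext h.symm), fun x hx => ?_⟩
  have := hb ⟨x, hx⟩
  exact congrArg Subtype.val this

end Cfsg.Agent.Lib.H24FMFixP
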