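import Mathlib
import Cfsg.Agent.Lib.H24FMDefs
import Cfsg.Agent.Lib.H24FMAvg
import Cfsg.Agent.Lib.H24FMAlg

set_option autoImplicit false

/-! PROJECT 4396 = FM (row S4396), piece `Free` (layer 3).  `Hc` acts freely on the corners of `Rz ρ L Z`. -/

namespace Cfsg.Agent.Lib.H24FMFree

open Cfsg.Agent.Lib.H24FMDefs Cfsg.Agent.Lib.H24FMAvg Cfsg.Agent.Lib.H24FMAlg

variable {k V : Type*} [Field k] [AddCommGroup V] [Module k V] {A : Type*} [Group A] [Finite A]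
  {Hc L Z : Subgroup A}

theorem surj (hS : Sect k Hc L Z) {h : A} (hh : h ∈ Hc) (h1 : h ≠ 1) {z : A} (hz : z ∈ Z) :
    ∃ w ∈ Z, z = w⁻¹ * (h * w * h⁻¹) := by
  let f : Z → Z := fun w => ⟨(w : A)⁻¹ * (h * w * h⁻¹), Z.mul_mem (Z.inv_mem w.2) (hS.hZ h hh w w.2)⟩
  have hinj : Function.Injective f := by
    intro w u hwu
    have h2 : (w : A)⁻¹ * (h * w * h⁻¹) = (u : A)⁻¹ * (h * u * h⁻¹) := congrArg Subtype.val hwu
    have h3 : h * ((u : A) * (w : A)⁻¹) = ((u : A) * (w : A)⁻¹) * h := by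
      have h4 : (u : A) * ((w : A)⁻¹ * (h * w * h⁻¹)) * h * (w : A)⁻¹ =
          (u : A) * ((u : A)⁻¹ * (h * u * h⁻¹)) * h * (w : A)⁻¹ := by rw [h2]
      have h5 : (u : A) * ((w : A)⁻¹ * (h * w * h⁻¹)) * h * (w : A)⁻¹ = (u : A) * (w : A)⁻¹ * h := by
        group
      have h6 : (u : A) * ((u : A)⁻¹ * (h * u * h⁻¹)) * h * (w : A)⁻¹ = h * ((u : A) * (w : A)⁻¹) := by
        group
      rw [← h6, ← h4, h5]
    have h7 := hS.fpf h hh h1 _ (Z.mul_mem u.2 (Z.inv_mem w.2)) h3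
    ext
    exact (mul_inv_eq_one.1 h7).symm
  obtain ⟨w, hw⟩ := (Finite.injective_iff_surjective.1 hinj) ⟨z, hz⟩
  exact ⟨w, w.2, (congrArg Subtype.val hw).symm⟩

theorem free (ρ : Representation k A V) (hS : Sect k Hc L Z) {h : A} (hh : h ∈ Hc) (h1 : h ≠ 1)
    {ε : Module.End k V} (hε : ε ∈ Rz ρ L Z) (hne : ε ≠ 0) :
    ∃ a ∈ Rz ρ L Z, ρ h * a * ρ h⁻¹ * ε ≠ a * ε := by
  by_contra hcon
  push Not at hcon
  apply hne
  obtain ⟨e, he⟩ : ∃ e, e = avg ρ L - avg ρ Z := ⟨_, rfl⟩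
  have hee : e * ε = ε := by rw [he]; exact e0_mul ρ hS hε
  have key : ∀ w ∈ Z, ρ (w⁻¹ * (h * w * h⁻¹)) * ε = ε := by
    intro w hw
    have h2 := hcon _ (gen_mem ρ L hw)
    rw [conj_gen ρ hS hh, ← he] at h2
    -- e * ρ (h w h⁻¹) * ε = e * ρ w * ε
    have hc1 : ∀ z ∈ Z, e * ρ z * ε = ρ z * ε := by
      intro z hz
      rw [he, ← e0_comm ρ hS hz, ← he, mul_assoc, hee]
    rw [hc1 _ (hS.hZ h hh w hw), hc1 _ hw] at h2
    rw [map_mul, mul_assoc, h2, ← mul_assoc, rep_inv_mul, one_mul]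
  have key2 : ∀ z ∈ Z, ρ z * ε = ε := by
    intro z hz
    obtain ⟨w, hw, rfl⟩ := surj hS hh h1 hz
    exact key w hw
  have havg : avg ρ Z * ε = ε := by
    have := Fintype.ofFinite ↥Z
    unfold avg
    rw [finsum_eq_sum_of_fintype, smul_mul_assoc, Finset.sum_mul,
      Finset.sum_congr rfl (fun (z : Z) _ => key2 z z.2), Finset.sum_const,
      Finset.card_univ, ← Nat.card_eq_fintype_card, ← Nat.cast_smul_eq_nsmul k, smul_smul,
      inv_mul_cancel₀ hS.card, one_smul]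
  have hL := card_ne_zero_of_le (k := k) hS.le hS.card
  have h0 : avg ρ Z * e = 0 := by
    rw [he, mul_sub, (avg_mul_avg ρ hS.le hL).1, avg_idem ρ hS.card, sub_self]
  calc ε = avg ρ Z * ε := havg.symm
    _ = avg ρ Z * (e * ε) := by rw [hee]
    _ = 0 := by rw [← mul_assoc, h0, zero_mul]

end Cfsg.Agent.Lib.H24FMFree
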