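import Mathlib
import Cfsg.Agent.Lib.H24FMDefs
import Cfsg.Agent.Lib.H24FMAvg
import Cfsg.Agent.Lib.H24FMAlg

set_option autoImplicit false

/-! PROJECT 4396 = FM (row S4396), piece `Reg` (layer 3, est. 90m).  `Rz ρ L Z` is reduced (Maschke) and von Neumann regular (finite dimension).
Keep file name, namespace, theorem names and statements; extra helper lemmas are fine.

SKETCH.  sq_zero (MASCHKE): let `y ∈ Rz`, `y * y = 0`.  Take any `k`-linear projection `π₀` of `V` onto `K = ker y` (`Submodule.exists_isCompl`, `Submodule.linearProjOfIsCompl`, or `LinearMap.exists_leftInverse_of_injective K.subtype`),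
and `π = (#Z)⁻¹ ∑_{z ∈ Z} ρ z * π₀ * ρ z⁻¹`.  `K` is `Z`-invariant because `y` commutes with `ρ z` (`Alg.comm_rho`).  Then `π` maps `V` into `K`, is the identity on `K`, and commutes with every `ρ z`, `z ∈ Z` (reindex),
hence with every element of `span {ρ z}`, in particular with `y` (`Alg.mem_span_rho`).  `range y ≤ K` gives `π * y = y`; `range π ≤ K` gives `y * π = 0`.  So `y = π y = y π = 0`.
reduced: if `y ^ m = 0`, take `m` minimal (`Nat.find`); if `m ≥ 2`, `w = y ^ (m - 1) ∈ Rz` has `w * w = y ^ (2 m - 2) = 0`, so `w = 0`, contradiction; `m = 1`: `y = 0`;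
(`m = 0`: `1 = 0` in `End V`, then everything is `0`).  Powers `y ^ (j + 1) ∈ Rz` by `Alg.mul_mem`.
reg: let `c ∈ Rz`, `I n = {c ^ (n + 1) * r | r ∈ Rz}` = `Rz.map (LinearMap.mulLeft k (c ^ (n + 1)))`, a decreasing chain of subspaces of the finite dimensional space `End k V`; it stabilises
(finrank is a decreasing function ℕ → ℕ; or `IsArtinian`/`WellFoundedLT (Submodule ..)`: `monotone_stabilizes_iff_noetherian`-type lemma for antitone chains: `IsArtinian.monotone_stabilizes`):
there is `n` with `I n = I (n + 1) = I (n + 2)`.  `c ^ (n + 2) = c ^ (n + 1) * c ∈ I n = I (n + 2)`, so `c ^ m = c ^ (m + 1) * d` with `m = n + 2`, `d ∈ Rz`.  Put `x = c - c * c * d ∈ Rz`.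
In `End V`: `x = c * (1 - c * d)` and (everything commutes: `Alg.comm`) `x ^ m = c ^ m * (1 - c d) ^ m = (c ^ m - c ^ (m + 1) d) (1 - c d) ^ (m - 1) = 0`.  By `reduced`, `x = 0`. -/

namespace Cfsg.Agent.Lib.H24FMReg

open Cfsg.Agent.Lib.H24FMDefs Cfsg.Agent.Lib.H24FMAvg Cfsg.Agent.Lib.H24FMAlg

variable {k V : Type*} [Field k] [AddCommGroup V] [Module k V] {A : Type*} [Group A] [Finite A]
  {Hc L Z : Subgroup A}

theorem sq_zero (ρ : Representation k A V) (hS : Sect k Hc L Z) {y : Module.End k V}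
    (hy : y ∈ Rz ρ L Z) (h0 : y * y = 0) : y = 0 := by
  classical
  haveI : Fintype Z := Fintype.ofFinite Z
  obtain ⟨g, hg⟩ := LinearMap.exists_leftInverse_of_injective (LinearMap.ker y).subtype
    (LinearMap.ker y).ker_subtype
  set π₀ : Module.End k V := (LinearMap.ker y).subtype ∘ₗ g with hπ₀
  have hyπ₀ : y * π₀ = 0 := by
    ext v
    have : (g v : V) ∈ LinearMap.ker y := (g v).2
    simpa [hπ₀] using this
  have hπ₀y : π₀ * y = y := by
    ext v
    have hv : y v ∈ LinearMap.ker y := by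
      have := LinearMap.congr_fun h0 v
      simpa using this
    have h1 := LinearMap.congr_fun hg ⟨y v, hv⟩
    have h2 : g (y v) = ⟨y v, hv⟩ := by simpa using h1
    simp [hπ₀, h2]
  have hcz : ∀ z ∈ Z, ρ z * y = y * ρ z := fun z hz => comm_rho ρ hS hy hz
  set c : k := (Nat.card Z : k) with hc
  have hc0 : c ≠ 0 := hS.card
  set π : Module.End k V := c⁻¹ • ∑ z : Z, ρ (z : A) * π₀ * ρ (z : A)⁻¹ with hπ
  have hyπ : y * π = 0 := by
    rw [hπ, mul_smul_comm, Finset.mul_sum]
    rw [Finset.sum_eq_zero, smul_zero]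
    intro z _
    calc y * (ρ (z : A) * π₀ * ρ (z : A)⁻¹) = (y * ρ (z : A)) * π₀ * ρ (z : A)⁻¹ := by
          simp only [mul_assoc]
      _ = ρ (z : A) * (y * π₀) * ρ (z : A)⁻¹ := by rw [← hcz z z.2]; simp only [mul_assoc]
      _ = 0 := by rw [hyπ₀]; simp
  have hπy : π * y = y := by
    rw [hπ, smul_mul_assoc, Finset.sum_mul]
    have : ∀ z : Z, ρ (z : A) * π₀ * ρ (z : A)⁻¹ * y = y := by
      intro z
      calc ρ (z : A) * π₀ * ρ (z : A)⁻¹ * y = ρ (z : A) * π₀ * (ρ (z : A)⁻¹ * y) := by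
            simp only [mul_assoc]
        _ = ρ (z : A) * (π₀ * y) * ρ (z : A)⁻¹ := by
            rw [hcz _ (Z.inv_mem z.2)]; simp only [mul_assoc]
        _ = (ρ (z : A) * y) * ρ (z : A)⁻¹ := by rw [hπ₀y]
        _ = y * (ρ (z : A) * ρ (z : A)⁻¹) := by rw [hcz z z.2]; simp only [mul_assoc]
        _ = y := by rw [rep_mul_inv]; simp
    rw [Finset.sum_congr rfl (fun z _ => this z), Finset.sum_const, Finset.card_univ,
      ← Nat.card_eq_fintype_card, ← Nat.cast_smul_eq_nsmul k, smul_smul, ← hc,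
      inv_mul_cancel₀ hc0, one_smul]
  have hπz : ∀ w ∈ Z, ρ w * π = π * ρ w := by
    intro w hw
    rw [hπ, mul_smul_comm, smul_mul_assoc, Finset.mul_sum, Finset.sum_mul]
    congr 1
    rw [← Equiv.sum_comp (Equiv.mulLeft (⟨w, hw⟩ : Z))
      (fun z : Z => ρ (z : A) * π₀ * ρ (z : A)⁻¹ * ρ w)]
    apply Finset.sum_congr rfl
    intro z _
    simp only [Equiv.coe_mulLeft, Subgroup.coe_mul, mul_inv_rev, map_mul, mul_assoc]
    rw [rep_inv_mul]
    simp
  have hπspan : ∀ x ∈ Submodule.span k {x : Module.End k V | ∃ z ∈ Z, x = ρ z},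
      x * π = π * x := by
    intro x hx
    induction hx using Submodule.span_induction with
    | mem x hx =>
      obtain ⟨z, hz, rfl⟩ := hx
      exact hπz z hz
    | zero => simp
    | add a b _ _ iha ihb => rw [add_mul, mul_add, iha, ihb]
    | smul r a _ iha =>
      calc (r • a) * π = r • (a * π) := smul_mul_assoc _ _ _
        _ = r • (π * a) := by rw [iha]
        _ = π * (r • a) := (mul_smul_comm _ _ _).symm
  have := hπspan y (mem_span_rho ρ hS hy)
  rw [← hπy, ← this, hyπ]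

theorem pow_succ_mem (ρ : Representation k A V) (hS : Sect k Hc L Z) {y : Module.End k V}
    (hy : y ∈ Rz ρ L Z) (j : ℕ) : y ^ (j + 1) ∈ Rz ρ L Z := by
  induction j with
  | zero => simpa using hy
  | succ j ih => rw [pow_succ]; exact mul_mem ρ hS _ ih _ hy

theorem reduced (ρ : Representation k A V) (hS : Sect k Hc L Z) {y : Module.End k V}
    (hy : y ∈ Rz ρ L Z) (m : ℕ) (h0 : y ^ m = 0) : y = 0 := by
  induction m using Nat.strong_induction_on with
  | _ m ih =>
    rcases Nat.lt_or_ge m 2 with hm | hm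
    · interval_cases m
      · rw [pow_zero] at h0
        calc y = y * 1 := (mul_one y).symm
          _ = 0 := by rw [h0, mul_zero]
      · simpa using h0
    · obtain ⟨j, hj⟩ : ∃ j, (m + 1) / 2 = j + 1 := ⟨(m + 1) / 2 - 1, by omega⟩
      have hw : y ^ (j + 1) ∈ Rz ρ L Z := pow_succ_mem ρ hS hy j
      have hww : y ^ (j + 1) * y ^ (j + 1) = 0 := by
        rw [← pow_add]
        have : j + 1 + (j + 1) = m + (j + 1 + (j + 1) - m) := by omega
        rw [this, pow_add, h0, zero_mul]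
      exact ih (j + 1) (by omega) (sq_zero ρ hS hw hww)

theorem reg [FiniteDimensional k V] (ρ : Representation k A V) (hS : Sect k Hc L Z) :
    ∀ c ∈ Rz ρ L Z, ∃ d ∈ Rz ρ L Z, c = c * c * d := by
  intro c hc
  let I : ℕ → Submodule k (Module.End k V) :=
    fun n => (Rz ρ L Z).map (LinearMap.mulLeft k (c ^ (n + 1)))
  have hanti : ∀ n, I (n + 1) ≤ I n := by
    intro n x hx
    obtain ⟨r, hr, rfl⟩ := hx
    refine ⟨c * r, mul_mem ρ hS _ hc _ hr, ?_⟩
    simp only [LinearMap.mulLeft_apply]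
    rw [pow_succ (n := n + 1), mul_assoc]
  let f : ℕ →o (Submodule k (Module.End k V))ᵒᵈ :=
    ⟨fun n => OrderDual.toDual (I n), monotone_nat_of_le_succ (fun n => hanti n)⟩
  obtain ⟨n, hn⟩ := IsArtinian.monotone_stabilizes f
  have hstab : I n = I (n + 2) := by
    have := hn (n + 2) (by omega)
    exact this
  have hmem : c ^ (n + 2) ∈ I (n + 2) := by
    rw [← hstab]
    exact ⟨c, hc, by simp only [LinearMap.mulLeft_apply]; rw [pow_succ (n := n + 1)]⟩
  obtain ⟨d, hd, hcd⟩ := hmem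
  simp only [LinearMap.mulLeft_apply] at hcd
  refine ⟨d, hd, ?_⟩
  have hcomm : Commute c d := comm ρ hS c hc d hd
  have hx : c - c * c * d ∈ Rz ρ L Z :=
    Submodule.sub_mem _ hc (mul_mem ρ hS _ (mul_mem ρ hS _ hc _ hc) _ hd)
  have hfac : c - c * c * d = c * (1 - c * d) := by
    rw [mul_sub, mul_one, mul_assoc]
  have hc2 : Commute c (1 - c * d) :=
    (Commute.one_right c).sub_right ((Commute.refl c).mul_right hcomm)
  have hpow : (c - c * c * d) ^ (n + 2) = 0 := by
    rw [hfac, hc2.mul_pow, pow_succ' (1 - c * d) (n + 1), ← mul_assoc]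
    have : c ^ (n + 2) * (1 - c * d) = 0 := by
      rw [mul_sub, mul_one, ← mul_assoc, ← pow_succ, hcd, sub_self]
    rw [this, zero_mul]
  have := reduced ρ hS hx (n + 2) hpow
  exact sub_eq_zero.mp this

end Cfsg.Agent.Lib.H24FMReg
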