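import Mathlib

set_option autoImplicit false

/-! PROJECT 4396 = FM (row S4396), piece `Zup` (layer 1).  PURE MATHLIB group theory (nilpotent groups). -/

namespace Cfsg.Agent.Lib.H24FMZup

/-- the preimage of the centre of `F / L` -/
def zsub {A : Type*} [Group A] (F L : Subgroup A) (hLn : ∀ f ∈ F, ∀ l ∈ L, f * l * f⁻¹ ∈ L) :
    Subgroup A where
  carrier := {f | f ∈ F ∧ ∀ g ∈ F, f * g * f⁻¹ * g⁻¹ ∈ L}
  one_mem' := ⟨F.one_mem, fun g _ => by simp [L.one_mem]⟩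
  mul_mem' := by
    rintro f f' ⟨hf, h1⟩ ⟨hf', h2⟩
    refine ⟨F.mul_mem hf hf', fun g hg => ?_⟩
    have e : f * f' * g * (f * f')⁻¹ * g⁻¹ =
        (f * (f' * g * f'⁻¹ * g⁻¹) * f⁻¹) * (f * g * f⁻¹ * g⁻¹) := by group
    rw [e]
    exact L.mul_mem (hLn f hf _ (h2 g hg)) (h1 g hg)
  inv_mem' := by
    rintro f ⟨hf, h1⟩
    refine ⟨F.inv_mem hf, fun g hg => ?_⟩
    have e : f⁻¹ * g * f⁻¹⁻¹ * g⁻¹ = f⁻¹ * (f * g * f⁻¹ * g⁻¹)⁻¹ * f⁻¹⁻¹ := by group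
    rw [e]
    exact hLn f⁻¹ (F.inv_mem hf) _ (L.inv_mem (h1 g hg))

theorem conj_mem_zsub {A : Type*} [Group A] (F L : Subgroup A)
    (hLn : ∀ f ∈ F, ∀ l ∈ L, f * l * f⁻¹ ∈ L) (a : A)
    (h1 : ∀ f ∈ F, a * f * a⁻¹ ∈ F) (h2 : ∀ f ∈ F, a⁻¹ * f * a ∈ F)
    (h3 : ∀ l ∈ L, a * l * a⁻¹ ∈ L) (z : A) (hz : z ∈ zsub F L hLn) :
    a * z * a⁻¹ ∈ zsub F L hLn := by
  obtain ⟨hzF, hz⟩ := hz
  refine ⟨h1 z hzF, fun g hg => ?_⟩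
  have e : a * z * a⁻¹ * g * (a * z * a⁻¹)⁻¹ * g⁻¹ =
      a * (z * (a⁻¹ * g * a) * z⁻¹ * (a⁻¹ * g * a)⁻¹) * a⁻¹ := by group
  rw [e]
  exact h3 _ (hz _ (h2 g hg))

theorem exists_zup {A : Type*} [Group A] [Finite A] (F L Hc : Subgroup A)
    (hnil : Group.IsNilpotent ↥F) (hLF : L ≤ F) (hne : L ≠ F)
    (hLn : ∀ f ∈ F, ∀ l ∈ L, f * l * f⁻¹ ∈ L) (hHL : ∀ h ∈ Hc, ∀ l ∈ L, h * l * h⁻¹ ∈ L)
    (hHF : ∀ h ∈ Hc, ∀ f ∈ F, h * f * h⁻¹ ∈ F) :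
    ∃ Z : Subgroup A, L < Z ∧ Z ≤ F ∧ (∀ z ∈ Z, ∀ g ∈ F, z * g * z⁻¹ * g⁻¹ ∈ L) ∧
      (∀ f ∈ F, ∀ z ∈ Z, f * z * f⁻¹ ∈ Z) ∧ (∀ h ∈ Hc, ∀ z ∈ Z, h * z * h⁻¹ ∈ Z) := by
  classical
  refine ⟨zsub F L hLn, ?_, fun z hz => hz.1, fun z hz => hz.2, ?_, ?_⟩
  · have hle : L ≤ zsub F L hLn := by
      intro l hl
      refine ⟨hLF hl, fun g hg => ?_⟩
      have e : l * g * l⁻¹ * g⁻¹ = l * (g * l⁻¹ * g⁻¹) := by group
      rw [e]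
      exact L.mul_mem hl (hLn g hg _ (L.inv_mem hl))
    refine lt_of_le_of_ne hle ?_
    intro heq
    obtain ⟨n, hn⟩ := (Subgroup.isNilpotent_iff_lowerCentralSeries F).1 hnil
    have hex : ∃ j, F.lowerCentralSeries j ≤ L := ⟨n, by rw [hn]; exact bot_le⟩
    set j₀ := Nat.find hex with hj₀
    have hj₀L : F.lowerCentralSeries j₀ ≤ L := Nat.find_spec hex
    have hj₀pos : j₀ ≠ 0 := by
      intro h0
      rw [h0, Subgroup.lowerCentralSeries_zero] at hj₀L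
      exact hne (le_antisymm hLF hj₀L)
    obtain ⟨j, hj⟩ : ∃ j, j₀ = j + 1 := ⟨j₀ - 1, by omega⟩
    have hjn : ¬ F.lowerCentralSeries j ≤ L := Nat.find_min hex (by omega)
    obtain ⟨f, hf, hfL⟩ := SetLike.not_le_iff_exists.1 hjn
    apply hfL
    rw [heq]
    have hfF : f ∈ F := by
      have := Subgroup.lowerCentralSeries_antitone F (Nat.zero_le j) hf
      simpa using this
    refine ⟨hfF, fun g hg => ?_⟩
    apply hj₀L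
    rw [hj, Subgroup.lowerCentralSeries_succ]
    exact Subgroup.commutator_mem_commutator hf hg
  · intro f hf z hz
    refine conj_mem_zsub F L hLn f (fun g hg => F.mul_mem (F.mul_mem hf hg) (F.inv_mem hf))
      (fun g hg => F.mul_mem (F.mul_mem (F.inv_mem hf) hg) hf) (hLn f hf) z hz
  · intro h hh z hz
    refine conj_mem_zsub F L hLn h (hHF h hh) (fun g hg => ?_) (hHL h hh) z hz
    have := hHF h⁻¹ (Hc.inv_mem hh) g hg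
    rwa [inv_inv] at this

end Cfsg.Agent.Lib.H24FMZup
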