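import Mathlib
import Cfsg.Agent.Lib.H24FMDefs
import Cfsg.Agent.Lib.H24FMBasic
import Cfsg.Agent.Lib.H24FMCore
import Cfsg.Agent.Lib.H24FMAvg
import Cfsg.Agent.Lib.H24FMAlg
import Cfsg.Agent.Lib.H24FMReg
import Cfsg.Agent.Lib.H24FMFree
import Cfsg.Agent.Lib.H24FMZup

set_option autoImplicit false

/-! PROJECT 4396 = FM (row S4396): assembly of the group-theoretic induction (helper24). -/

namespace Cfsg.Agent.Lib.H24FMMain

open Cfsg.Agent.Lib.H24FMDefs Cfsg.Agent.Lib.H24FMBasic Cfsg.Agent.Lib.H24FMCore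
  Cfsg.Agent.Lib.H24FMAvg Cfsg.Agent.Lib.H24FMZup

variable {k V : Type*} [Field k] [AddCommGroup V] [Module k V] {A : Type*} [Group A] [Finite A]
  {Hc L Z : Subgroup A}

theorem datum [FiniteDimensional k V] (ρ : Representation k A V) (hS : Sect k Hc L Z) :
    Datum (ρ.comp Hc.subtype) (Rz ρ L Z) where
  mul_mem := H24FMAlg.mul_mem ρ hS
  comm := H24FMAlg.comm ρ hS
  reg := H24FMReg.reg ρ hS
  norm := fun h a ha => H24FMAlg.norm ρ hS h.1 h.2 a ha
  free := fun h h1 ε hε _ hne _ =>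
    H24FMFree.free ρ hS h.2 (fun h0 => h1 (Subtype.ext h0)) hε hne

theorem invIdem (ρ : Representation k A V) (hS : Sect k Hc L Z) :
    InvIdem (ρ.comp Hc.subtype) (Rz ρ L Z) (avg ρ L - avg ρ Z) where
  mem := H24FMAlg.e0_mem ρ L Z
  idem := H24FMAlg.e0_idem ρ hS
  inv := fun h => H24FMAlg.e0_conj ρ hS h.2

theorem mainInd [FiniteDimensional k V] (ρ : Representation k A V) (F Hc : Subgroup A)
    (hnil : Group.IsNilpotent ↥F) (hcard : (Nat.card F : k) ≠ 0)
    (hHF : ∀ h ∈ Hc, ∀ f ∈ F, h * f * h⁻¹ ∈ F)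
    (hfpf : ∀ h ∈ Hc, h ≠ 1 → ∀ f ∈ F, h * f = f * h → f = 1) (n : ℕ) :
    ∀ L : Subgroup A, L ≤ F → (∀ f ∈ F, ∀ l ∈ L, f * l * f⁻¹ ∈ L) →
      (∀ h ∈ Hc, ∀ l ∈ L, h * l * h⁻¹ ∈ L) → Nat.card F - Nat.card L ≤ n →
      HFree (ρ.comp Hc.subtype) (LinearMap.range (avg ρ L - avg ρ F)) := by
  induction n with
  | zero =>
    intro L hLF _ _ hn
    have hLe : L = F := by
      apply Subgroup.eq_of_le_of_card_ge hLF
      omega
    rw [hLe, sub_self, LinearMap.range_zero]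
    exact hfree_bot _
  | succ n ih =>
    intro L hLF hLn hHL hn
    by_cases hLe : L = F
    · rw [hLe, sub_self, LinearMap.range_zero]
      exact hfree_bot _
    · obtain ⟨Z, hLZ, hZF, hc, hZn, hHZ⟩ := exists_zup F L Hc hnil hLF hLe hLn hHL hHF
      have hZc : (Nat.card Z : k) ≠ 0 := card_ne_zero_of_le hZF hcard
      have hLc : (Nat.card L : k) ≠ 0 := card_ne_zero_of_le hLF hcard
      have hS : Sect k Hc L Z :=
        { le := hLZ.le
          card := hZc
          comm := fun a ha b hb => hc a ha b (hZF hb)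
          normL := fun z hz l hl => hLn z (hZF hz) l hl
          hL := hHL
          hZ := hHZ
          fpf := fun h hh h1 z hz => hfpf h hh h1 z (hZF hz) }
      have h1 : HFree (ρ.comp Hc.subtype) (LinearMap.range (avg ρ L - avg ρ Z)) :=
        core (datum ρ hS) (invIdem ρ hS)
      have hlt : Nat.card L < Nat.card Z := by
        by_contra hcon
        exact hLZ.ne (Subgroup.eq_of_le_of_card_ge hLZ.le (not_lt.mp hcon))
      have hZle : Nat.card Z ≤ Nat.card F := Subgroup.card_le_of_le hZF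
      have h2 : HFree (ρ.comp Hc.subtype) (LinearMap.range (avg ρ Z - avg ρ F)) :=
        ih Z hZF hZn hHZ (by omega)
      obtain ⟨ba, ab⟩ := avg_mul_avg ρ hLZ.le hLc
      obtain ⟨cb, bc⟩ := avg_mul_avg ρ hZF hZc
      obtain ⟨ca, ac⟩ := avg_mul_avg ρ hLF hLc
      have aa := avg_idem ρ hLc
      have bb := avg_idem ρ hZc
      have cc := avg_idem ρ hcard
      have he : (avg ρ L - avg ρ Z) * (avg ρ L - avg ρ Z) = avg ρ L - avg ρ Z := by
        simp only [mul_sub, sub_mul, aa, bb, ab, ba]; abel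
      have hf : (avg ρ Z - avg ρ F) * (avg ρ Z - avg ρ F) = avg ρ Z - avg ρ F := by
        simp only [mul_sub, sub_mul, cc, bb, cb, bc]; abel
      have hef : (avg ρ L - avg ρ Z) * (avg ρ Z - avg ρ F) = 0 := by
        simp only [mul_sub, sub_mul, ab, ac, bb, bc]; abel
      have hfe : (avg ρ Z - avg ρ F) * (avg ρ L - avg ρ Z) = 0 := by
        simp only [mul_sub, sub_mul, ba, ca, bb, cb]; abel
      obtain ⟨hr, hd⟩ := range_add_of_orth he hf hef hfe
      have hsum : avg ρ L - avg ρ F = (avg ρ L - avg ρ Z) + (avg ρ Z - avg ρ F) := by abel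
      rw [hsum, hr]
      exact hfree_sup _ h1 h2 hd

/-- coprime case: a nilpotent `F` of order invertible in `k`, without fixed vectors, normalized by `Hc` acting f.p.f. on it. -/
theorem main [FiniteDimensional k V] (ρ : Representation k A V) (F Hc : Subgroup A)
    (hnil : Group.IsNilpotent ↥F) (hcard : (Nat.card F : k) ≠ 0)
    (hHF : ∀ h ∈ Hc, ∀ f ∈ F, h * f * h⁻¹ ∈ F)
    (hfpf : ∀ h ∈ Hc, h ≠ 1 → ∀ f ∈ F, h * f = f * h → f = 1)
    (hCF : ∀ v : V, (∀ f ∈ F, ρ f v = v) → v = 0) : HFree (ρ.comp Hc.subtype) ⊤ := by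
  have h := mainInd ρ F Hc hnil hcard hHF hfpf _ ⊥ bot_le
    (fun f _ l hl => by rw [Subgroup.mem_bot] at hl ⊢; rw [hl]; simp)
    (fun f _ l hl => by rw [Subgroup.mem_bot] at hl ⊢; rw [hl]; simp) le_rfl
  rw [avg_bot, avg_eq_zero ρ hCF, sub_zero] at h
  have : LinearMap.range (1 : Module.End k V) = ⊤ := LinearMap.range_id
  rwa [this] at h

end Cfsg.Agent.Lib.H24FMMain
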