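import Mathlib
import Cfsg.Prelude.Def_Blocks
import Cfsg.Prelude.Def_Characters
import Cfsg.Agent.Lib.Helper81Base
import Cfsg.Agent.Lib.Helper82Linear

set_option autoImplicit false
set_option linter.unusedSectionVars false

/-! Vocabulary of the Brauer--Reynolds project (groups with a Sylow `p`-subgroup of order `p`). -/

namespace Cfsg.Agent.Lib.Helper59BRDefs

open Cfsg Subgroup
open Cfsg.Agent.Lib.Helper81Base Cfsg.Agent.Lib.Helper82Linear
open scoped ComplexConjugate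

/-- the exceptional arithmetic alternative of Brauer--Reynolds. -/
def Exc (p n : ℕ) : Prop :=
  ∃ h u : ℕ, 0 < h ∧ 0 < u ∧ n * (u + 1) = h * u * p + u ^ 2 + u + h

open scoped Classical in
/-- The principal `p`-block of a group with a Sylow `p`-subgroup `P` of order `p`:
`X` = the `e` non-exceptional characters (with signs `s`), `Y` = the `t` exceptional ones
(with sign `ε`). -/
structure BR {G : Type*} [Group G] [Fintype G] (p : ℕ) [Fact p.Prime] (P : Sylow p G) (e t : ℕ)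
    (X Y : Finset (IrrCharacter G)) (s : IrrCharacter G → ℤ) (ε : ℤ) : Prop where
  hP : Nat.card P = p
  he : (centralizer ((P : Subgroup G) : Set G)).relIndex
      (normalizer ((P : Subgroup G) : Set G)) = e
  hte : t * e + 1 = p
  cardX : X.card = e
  cardY : Y.card = t
  disj : Disjoint X Y
  one_mem : irrOne G ∈ X
  s_one : s (irrOne G) = 1
  hs : ∀ χ ∈ X, s χ = 1 ∨ s χ = -1
  hε : ε = 1 ∨ ε = -1
  valX : ∀ χ ∈ X, ∀ g : G, p ∣ orderOf g → (χ : G → ℂ) g = (s χ : ℂ)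
  regY : ∀ θ ∈ Y, ∀ θ' ∈ Y, ∀ g : G, ¬ p ∣ orderOf g → (θ : G → ℂ) g = (θ' : G → ℂ) g
  rel : ∀ θ ∈ Y, ∀ g : G, ¬ p ∣ orderOf g →
    (ε : ℂ) * (θ : G → ℂ) g = ∑ χ ∈ X, (s χ : ℂ) * (χ : G → ℂ) g
  sumY : ∀ g : G, p ∣ orderOf g → ∑ θ ∈ Y, (θ : G → ℂ) g = -(ε : ℂ)
  sumP : ∀ θ ∈ Y, ∑ x : G, (if x ∈ (P : Subgroup G) then (θ : G → ℂ) x else 0)
    = (θ : G → ℂ) 1 - (ε : ℂ) * (e : ℂ)
  congX : ∀ χ ∈ X, (charDegree (χ : G → ℂ) : ℤ) ≡ s χ [ZMOD p]
  congY : ∀ θ ∈ Y, (charDegree (θ : G → ℂ) : ℤ) ≡ ε * (e : ℤ) [ZMOD p]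
  gram : ∀ x : G, x ∈ (P : Subgroup G) → x ≠ 1 →
    ∑ χ ∈ X ∪ Y, (χ : G → ℂ) x * conj ((χ : G → ℂ) x) = (p : ℂ)

/-- The degree configuration forced when the exceptional alternative fails
(`o` = the trivial character, `y` = the common degree of the exceptional characters). -/
structure Cfg {ι : Type*} (p e t n : ℕ) (X : Finset ι) (o : ι) (deg : ι → ℕ) (s : ι → ℤ)
    (ε : ℤ) (y : ℕ) : Prop where
  degP : ∀ χ ∈ X, χ ≠ o → s χ = 1 → deg χ = 1 + n * p
  degM : ∀ χ ∈ X, s χ = -1 → deg χ = p - 1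
  exM : ∃ χ ∈ X, s χ = -1
  alt : (ε = 1 ∧ y = e ∧ ∃ a : ℕ, a * (n + 1) + 1 = e ∧
          ∑ χ ∈ X, (if s χ = -1 then deg χ else 0) = a * n * (p - 1)) ∨
        (ε = -1 ∧ t * y = 1 + n * p ∧ ∃ a v : ℕ, n + 1 = t * v ∧ (t * a + 1) * v + 1 = e)

/-- The geometric situation: `C(P) = P`, `|N(P)| = pe`, `1 + np` Sylow subgroups and all
`N(P) ∩ N(Q)` of order `e`. -/
structure Geo {G : Type*} [Group G] (p : ℕ) [Fact p.Prime] (P : Sylow p G) (e n : ℕ) : Prop where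
  hP : Nat.card P = p
  hC : centralizer ((P : Subgroup G) : Set G) = (P : Subgroup G)
  hN : Nat.card (normalizer ((P : Subgroup G) : Set G)) = p * e
  he : 2 ≤ e
  hep : e ∣ p - 1
  hn : Nat.card (Sylow p G) = 1 + n * p
  hn1 : 1 ≤ n
  hI : ∀ Q Q' : Sylow p G, Q ≠ Q' →
    Nat.card ↥(normalizer ((Q : Subgroup G) : Set G) ⊓ normalizer ((Q' : Subgroup G) : Set G)) = e

/-- `E` is a two point stabiliser `N(P) ∩ N(Q₀)` together with everything known about it. -/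
structure GeoE {G : Type*} [Group G] (p : ℕ) [Fact p.Prime] (P : Sylow p G) (e n : ℕ)
    (E : Subgroup G) : Prop where
  card_E : Nat.card E = e
  cyc : IsCyclic E
  le : E ≤ normalizer ((P : Subgroup G) : Set G)
  fix : ∀ g ∈ E, g ≠ 1 → ∀ Q : Sylow p G, g ∈ normalizer ((Q : Subgroup G) : Set G) →
    E ≤ normalizer ((Q : Subgroup G) : Set G)
  stab : ∀ Q Q' : Sylow p G, Q ≠ Q' → E ≤ normalizer ((Q : Subgroup G) : Set G) →
    E ≤ normalizer ((Q' : Subgroup G) : Set G) →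
    normalizer ((Q : Subgroup G) : Set G) ⊓ normalizer ((Q' : Subgroup G) : Set G) = E
  card_fix : Nat.card {Q : Sylow p G // E ≤ normalizer ((Q : Subgroup G) : Set G)} = n + 1
  trans : ∀ Q : Sylow p G, E ≤ normalizer ((Q : Subgroup G) : Set G) →
    ∃ m ∈ normalizer (E : Set G), m • P = Q
  inter : ∀ Q : Sylow p G, E ≤ normalizer ((Q : Subgroup G) : Set G) →
    normalizer (E : Set G) ⊓ normalizer ((Q : Subgroup G) : Set G) = E
  card_M : Nat.card (normalizer (E : Set G)) = e * (n + 1)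

end Cfsg.Agent.Lib.Helper59BRDefs
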