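import Mathlib
import Cfsg.Agent.Lib.Helper59BRDefs
import Cfsg.Agent.Lib.Helper47SL2Even

set_option autoImplicit false
set_option linter.unusedSectionVars false
set_option linter.unusedVariables false

namespace Cfsg.Agent.Lib.H59BRIso

open Cfsg Subgroup
open Cfsg.Agent.Lib.Helper81Base Cfsg.Agent.Lib.Helper82Linear Cfsg.Agent.Lib.Helper59BRDefs
open scoped ComplexConjugate

/-- `F` has characteristic `2`, the centre of `SL(2, F)` is trivial
(`Helper47SL2Even.center_eq_bot`, `mk_injective`). -/
theorem sl_equiv_psl (F : Type*) [Field F] [Fintype F] (m : ℕ) (h : Fintype.card F = 2 ^ m) :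
    Nonempty (Matrix.SpecialLinearGroup (Fin 2) F ≃*
      Matrix.ProjectiveSpecialLinearGroup (Fin 2) F) := by
  have hm : m ≠ 0 := by
    rintro rfl
    rw [pow_zero] at h
    have := Fintype.one_lt_card (α := F)
    omega
  haveI : CharP F 2 := by
    obtain ⟨q, hq⟩ := CharP.exists F
    haveI := hq
    haveI hqp : Fact q.Prime := ⟨CharP.char_is_prime F q⟩
    have h1 : q ∣ Fintype.card F := by
      obtain ⟨n, -, hn⟩ := FiniteField.card F q
      rw [hn]
      exact dvd_pow_self q n.ne_zero
    rw [h] at h1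
    have h2 : q = 2 := (Nat.prime_dvd_prime_iff_eq hqp.out Nat.prime_two).mp
      (hqp.out.dvd_of_dvd_pow h1)
    exact h2 ▸ hq
  exact ⟨MulEquiv.ofBijective
    (QuotientGroup.mk' (Subgroup.center (Matrix.SpecialLinearGroup (Fin 2) F)))
    ⟨Cfsg.Agent.Lib.Helper47SL2Even.mk_injective, QuotientGroup.mk'_surjective _⟩⟩

end Cfsg.Agent.Lib.H59BRIso
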