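import Mathlib
import Cfsg.Agent.Lib.Helper59BRDefs

set_option autoImplicit false
set_option linter.unusedSectionVars false
set_option linter.unusedVariables false

namespace Cfsg.Agent.Lib.H59BRArA

open Cfsg Subgroup
open Cfsg.Agent.Lib.Helper81Base Cfsg.Agent.Lib.Helper82Linear Cfsg.Agent.Lib.Helper59BRDefs
open scoped ComplexConjugate

/-- `T = e(1+np) = (up+1)(vp+e)`, `u, v ≥ 1`.  Then `e (n - u) = v (u p + 1)`, `e ∣ v (u + 1)`
(as `p ≡ 1 mod e`) and `h = v (u + 1) / e`, same `u`, work. -/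
theorem exc_of_plus {p e t n u v : ℕ} (hte : t * e + 1 = p) (he : 0 < e) (hu : 0 < u) (hv : 0 < v)
    (h : e * (1 + n * p) = (u * p + 1) * (v * p + e)) : Exc p n := by
  have hp : 0 < p := by omega
  have h1 : e * n = u * v * p + u * e + v := by
    have : p * (e * n) = p * (u * v * p + u * e + v) := by nlinarith [h]
    exact Nat.eq_of_mul_eq_mul_left hp this
  obtain ⟨h', hh⟩ : e ∣ v * (u + 1) := by
    have h2 : e * n = e * (u * v * t + u) + v * (u + 1) := by rw [h1, ← hte]; ring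
    exact (Nat.dvd_add_right (Dvd.intro _ rfl)).1 (h2 ▸ Dvd.intro _ rfl)
  refine ⟨h', u, ?_, hu, ?_⟩
  · rcases Nat.eq_zero_or_pos h' with h0 | h0
    · rw [h0, mul_zero] at hh
      have : 0 < v * (u + 1) := by positivity
      omega
    · exact h0
  · apply Nat.eq_of_mul_eq_mul_left he
    have e1 : e * (n * (u + 1)) = (u * v * p + u * e + v) * (u + 1) := by rw [← h1]; ring
    have e2 : e * (h' * u * p + u ^ 2 + u + h') = (e * h') * (u * p + 1) + e * (u ^ 2 + u) := by ring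
    rw [e1, e2, ← hh]
    ring

/-- `T = e(1+np) = d₁ d₂`, `d₁ = up-1`, `d₂ = vp-e`, `u ≥ 2`, `v ≥ 1`, `tv ≥ 2`.
Then `e (n + u) = v (u p - 1)`, `e ∣ v (u - 1)`, and `u' = t v - 1`, `h' = (u - 1) v / e` work. -/
theorem exc_of_minus {p e t n u v d₁ d₂ : ℕ} (hte : t * e + 1 = p) (he : 0 < e) (hu : 2 ≤ u)
    (hv : 1 ≤ v) (htv : 2 ≤ t * v) (h1 : d₁ + 1 = u * p) (h2 : d₂ + e = v * p)
    (h : e * (1 + n * p) = d₁ * d₂) : Exc p n := by
  have hp : 0 < p := by omega
  obtain ⟨w, rfl⟩ : ∃ w, u = w + 1 := ⟨u - 1, by omega⟩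
  obtain ⟨r, hr⟩ : ∃ r, t * v = r + 1 := ⟨t * v - 1, by omega⟩
  have h3 : e * n + e * (w + 1) + v = (w + 1) * v * p := by
    have : p * (e * n + e * (w + 1) + v) = p * ((w + 1) * v * p) := by
      have e1 : (d₁ + 1) * (d₂ + e) = (w + 1) * p * (v * p) := by rw [h1, h2]
      nlinarith [h, e1, h1, h2]
    exact Nat.eq_of_mul_eq_mul_left hp this
  obtain ⟨h', hh⟩ : e ∣ v * w := by
    have h4 : e * (n + (w + 1)) = e * (v * (w + 1) * t) + v * w := by
      have : e * (n + (w + 1)) + v = e * (v * (w + 1) * t) + v * w + v := by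
        have e3 : e * (n + (w + 1)) + v = (w + 1) * v * p := by rw [← h3]; ring
        rw [e3, ← hte]; ring
      omega
    exact (Nat.dvd_add_right (Dvd.intro _ rfl)).1 (h4 ▸ Dvd.intro _ rfl)
  refine ⟨h', r, ?_, by omega, ?_⟩
  · rcases Nat.eq_zero_or_pos h' with h0 | h0
    · rw [h0, mul_zero] at hh
      have : 0 < v * w := Nat.mul_pos hv (by omega)
      omega
    · exact h0
  · apply Nat.eq_of_mul_eq_mul_left he
    have hnz : (e : ℤ) * n = (w + 1) * v * p - e * (w + 1) - v := by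
      have := congrArg (Nat.cast : ℕ → ℤ) h3
      push_cast at this
      linarith
    have hhz : (e : ℤ) * h' = v * w := by
      have := congrArg (Nat.cast : ℕ → ℤ) hh
      push_cast at this
      linarith
    have hrz : (r : ℤ) = t * v - 1 := by
      have := congrArg (Nat.cast : ℕ → ℤ) hr
      push_cast at this
      linarith
    have hpz : (p : ℤ) = t * e + 1 := by
      have := congrArg (Nat.cast : ℕ → ℤ) hte
      push_cast at this
      linarith
    have goal : (e : ℤ) * (n * (r + 1)) = e * (h' * r * p + r ^ 2 + r + h') := by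
      have e1 : (e : ℤ) * (n * (r + 1)) = (e * n) * (r + 1) := by ring
      have e2 : (e : ℤ) * (h' * r * p + r ^ 2 + r + h') = (e * h') * (r * p + 1) + e * (r ^ 2 + r) := by
        ring
      rw [e1, e2, hnz, hhz, hrz, hpz]
      ring
    exact_mod_cast goal

/-- `2 n (u+1) ≥ 2 (u p + 1 + u² + u) ≥ (p + 3)(u + 1)`. -/
theorem two_n_ge {p n : ℕ} (h : Exc p n) : p + 3 ≤ 2 * n := by
  obtain ⟨h, u, hh, hu, e⟩ := h
  obtain ⟨j, rfl⟩ : ∃ j, h = j + 1 := ⟨h - 1, by omega⟩
  obtain ⟨k, rfl⟩ : ∃ k, u = k + 1 := ⟨u - 1, by omega⟩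
  have h1 : (p + 3) * (k + 1 + 1) ≤ (2 * n) * (k + 1 + 1) := by
    have e1 : (2 * n) * (k + 1 + 1) = 2 * (n * (k + 1 + 1)) := by ring
    rw [e1, e]
    have e2 : 2 * ((j + 1) * (k + 1) * p + (k + 1) ^ 2 + (k + 1) + (j + 1)) =
        (p + 3) * (k + 1 + 1) + (2 * j * k * p + 2 * j * p + k * p + 2 * k ^ 2 + 3 * k + 2 * j) := by
      ring
    rw [e2]
    exact Nat.le_add_right _ _
  exact Nat.le_of_mul_le_mul_right h1 (by omega)

/-- `1 + np = (1 + n' p)(1 + k p)`, `n', k ≥ 1`: take `u = k`, `h = n' (k + 1)`. -/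
theorem exc_of_prod {p n n' k : ℕ} (hn : 0 < n') (hk : 0 < k) (hp : 0 < p)
    (h : 1 + n * p = (1 + n' * p) * (1 + k * p)) : Exc p n := by
  have h1 : n = n' + k + n' * k * p := by
    have : p * n = p * (n' + k + n' * k * p) := by nlinarith [h]
    exact Nat.eq_of_mul_eq_mul_left hp this
  refine ⟨n' * (k + 1), k, by positivity, hk, ?_⟩
  rw [h1]
  ring

end Cfsg.Agent.Lib.H59BRArA
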