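import Mathlib
import Cfsg.Agent.Lib.Helper59BRDefs

set_option autoImplicit false
set_option linter.unusedSectionVars false
set_option linter.unusedVariables false

namespace Cfsg.Agent.Lib.H59BRBasicA

open Cfsg Subgroup
open Cfsg.Agent.Lib.Helper81Base Cfsg.Agent.Lib.Helper82Linear Cfsg.Agent.Lib.Helper59BRDefs
open scoped ComplexConjugate

variable {G : Type*} [Group G] [Finite G] {p : ℕ} [Fact p.Prime]

/-- a homomorphism from a perfect group to a commutative group is trivial. -/
theorem ker_eq_top_of_perfect {A : Type*} [Group A] (hA : ∀ a b : A, a * b = b * a)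
    (hperf : commutator G = ⊤) (f : G →* A) : f.ker = ⊤ := by
  rw [eq_top_iff, ← hperf, commutator_def, Subgroup.commutator_le]
  intro a _ b _
  rw [MonoidHom.mem_ker, commutatorElement_def, map_mul, map_mul, map_mul, map_inv, map_inv,
    hA (f a) (f b)]
  group

/-- Burnside transfer: if `N(P) = C(P)` then (`MonoidHom.ker_transferSylow_isComplement'`) `G` has
a normal `p`-complement `K` with `G/K ≅ P` abelian and non-trivial, so `G` is not perfect. -/
theorem two_le_e (hperf : commutator G = ⊤) (P : Sylow p G) (hP : Nat.card P = p) :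
    2 ≤ (centralizer ((P : Subgroup G) : Set G)).relIndex
      (normalizer ((P : Subgroup G) : Set G)) := by
  by_contra hlt
  have hne : (centralizer ((P : Subgroup G) : Set G)).relIndex
      (normalizer ((P : Subgroup G) : Set G)) ≠ 0 := by
    intro h0
    have h := Subgroup.relIndex_dvd_card (centralizer ((P : Subgroup G) : Set G))
      (normalizer ((P : Subgroup G) : Set G))
    rw [h0, zero_dvd_iff] at h
    exact Nat.card_pos.ne' h
  have h1 : (centralizer ((P : Subgroup G) : Set G)).relIndex
      (normalizer ((P : Subgroup G) : Set G)) = 1 := by omega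
  have hle : normalizer ((P : Subgroup G) : Set G) ≤ centralizer ((P : Subgroup G) : Set G) :=
    relIndex_eq_one.mp h1
  have hcompl := MonoidHom.ker_transferSylow_isComplement' P hle
  have hcyc : IsCyclic (P : Subgroup G) := isCyclic_of_prime_card hP
  have hker : (MonoidHom.transferSylow P hle).ker = ⊤ :=
    ker_eq_top_of_perfect (fun a b => (hcyc.isMulCommutative.is_comm.comm a b)) hperf _
  have hcard := hcompl.card_mul_card
  rw [hker, Subgroup.card_top, hP] at hcard
  have hpos : 0 < Nat.card G := Nat.card_pos
  have hp2 : 2 ≤ p := (Fact.out : p.Prime).two_le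
  nlinarith

/-- If `n = 0` then `P` is normal, `G / C(P)` embeds in `Aut P` (abelian), so `G = C(P)` by
perfectness, against `two_le_e`. -/
theorem n_pos (hperf : commutator G = ⊤) (P : Sylow p G) (hP : Nat.card P = p) (n : ℕ)
    (hn : Nat.card (Sylow p G) = 1 + n * p) : 1 ≤ n := by
  by_contra hlt
  have hn0 : n = 0 := by omega
  subst hn0
  have h2 := two_le_e hperf P hP
  have hcyc : IsCyclic (P : Subgroup G) := isCyclic_of_prime_card hP
  have hidx : (normalizer ((P : Subgroup G) : Set G)).index = 1 := by
    have h5 : Nat.card (Sylow p G) = (normalizer ((P : Subgroup G) : Set G)).index :=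
      Sylow.card_eq_index_normalizer P
    rw [← h5, hn]; simp
  have htop : normalizer ((P : Subgroup G) : Set G) = ⊤ := Subgroup.index_eq_one.1 hidx
  -- the action map restricted along `G → N(P)`
  let ι : G →* normalizer ((P : Subgroup G) : Set G) :=
    { toFun := fun g => ⟨g, htop ▸ Subgroup.mem_top g⟩
      map_one' := rfl
      map_mul' := fun _ _ => rfl }
  have hcomm : ∀ a b : MulAut (P : Subgroup G), a * b = b * a := by
    intro a b
    have e := IsCyclic.mulAutMulEquiv (P : Subgroup G)
    apply e.injective
    rw [map_mul, map_mul, mul_comm]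
  have hker := ker_eq_top_of_perfect hcomm hperf
    ((P : Subgroup G).normalizerMonoidHom.comp ι)
  have hle : normalizer ((P : Subgroup G) : Set G) ≤ centralizer ((P : Subgroup G) : Set G) := by
    intro g hg
    have h3 : g ∈ ((P : Subgroup G).normalizerMonoidHom.comp ι).ker := hker ▸ Subgroup.mem_top g
    rw [MonoidHom.mem_ker, MonoidHom.comp_apply] at h3
    have h4 : ι g ∈ (P : Subgroup G).normalizerMonoidHom.ker := h3
    rw [normalizerMonoidHom_ker, Subgroup.mem_subgroupOf] at h4
    exact h4
  rw [relIndex_eq_one.mpr hle] at h2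
  omega

end Cfsg.Agent.Lib.H59BRBasicA
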