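import Mathlib

/-!
# Class equation for groups in which commuting is transitive on non-central elements

Abstract part of the Dickson classification of the subgroups of `SL₂(q)`.
-/

set_option autoImplicit false

namespace Cfsg.Agent.Lib.Helper41Dk

variable {𝔾 : Type*} [Group 𝔾]

/-- Commutation is transitive on non-central elements. -/
def CT (𝔾 : Type*) [Group 𝔾] : Prop :=
  ∀ x y z : 𝔾, x ∉ Subgroup.center 𝔾 → Commute y x → Commute z x → Commute y z

/-- relative centralizer -/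
def AA (G : Subgroup 𝔾) (x : 𝔾) : Subgroup 𝔾 := Subgroup.centralizer {x} ⊓ G

/-- relative normalizer of the centralizer -/
def NN (G : Subgroup 𝔾) (x : 𝔾) : Subgroup 𝔾 :=
  Subgroup.normalizer ((Subgroup.centralizer {x} : Subgroup 𝔾) : Set 𝔾) ⊓ G

/-- `z` is `G`-conjugate to an element commuting with `x`. -/
def Rel (G : Subgroup 𝔾) (x z : 𝔾) : Prop := ∃ g ∈ G, Commute (g⁻¹ * z * g) x

/-- the class of `x`: non-central elements of `G` conjugate into the centralizer of `x`. -/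
def cls (G : Subgroup 𝔾) (x : 𝔾) : Set 𝔾 :=
  {z | z ∈ G ∧ z ∉ Subgroup.center 𝔾 ∧ Rel G x z}

theorem mem_cent_iff {x y : 𝔾} : y ∈ (Subgroup.centralizer {x} : Subgroup 𝔾) ↔ Commute y x := by
  rw [Subgroup.mem_centralizer_singleton_iff]; rfl

theorem mem_AA {G : Subgroup 𝔾} {x y : 𝔾} : y ∈ AA G x ↔ Commute y x ∧ y ∈ G := by
  rw [AA, Subgroup.mem_inf, mem_cent_iff]

theorem conj_not_mem_center {z : 𝔾} (hz : z ∉ Subgroup.center 𝔾) (g : 𝔾) :
    g * z * g⁻¹ ∉ Subgroup.center 𝔾 := by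
  intro h
  apply hz
  have := (Subgroup.center 𝔾).normal_of_characteristic.conj_mem _ h g⁻¹
  simpa [mul_assoc] using this

theorem conj_not_mem_center' {z : 𝔾} (hz : z ∉ Subgroup.center 𝔾) (g : 𝔾) :
    g⁻¹ * z * g ∉ Subgroup.center 𝔾 := by
  have := conj_not_mem_center hz g⁻¹
  simpa using this

theorem commute_conj_iff {a b g : 𝔾} : Commute (g * a * g⁻¹) (g * b * g⁻¹) ↔ Commute a b := by
  constructor
  · intro h
    have h1 : g * a * g⁻¹ * (g * b * g⁻¹) = g * b * g⁻¹ * (g * a * g⁻¹) := h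
    have h2 : g * (a * b) * g⁻¹ = g * (b * a) * g⁻¹ := by
      calc g * (a * b) * g⁻¹ = g * a * g⁻¹ * (g * b * g⁻¹) := by group
        _ = g * b * g⁻¹ * (g * a * g⁻¹) := h1
        _ = g * (b * a) * g⁻¹ := by group
    exact mul_left_cancel (mul_right_cancel h2)
  · intro h
    have h1 : a * b = b * a := h
    show g * a * g⁻¹ * (g * b * g⁻¹) = g * b * g⁻¹ * (g * a * g⁻¹)
    calc g * a * g⁻¹ * (g * b * g⁻¹) = g * (a * b) * g⁻¹ := by group
      _ = g * (b * a) * g⁻¹ := by rw [h1]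
      _ = g * b * g⁻¹ * (g * a * g⁻¹) := by group

theorem mem_normalizer_cent_iff (hCT : CT 𝔾) {x g : 𝔾} (hx : x ∉ Subgroup.center 𝔾) :
    g ∈ Subgroup.normalizer ((Subgroup.centralizer {x} : Subgroup 𝔾) : Set 𝔾) ↔
      Commute (g * x * g⁻¹) x := by
  rw [Subgroup.mem_normalizer_iff]
  constructor
  · intro h
    exact mem_cent_iff.mp ((h x).mp (mem_cent_iff.mpr (Commute.refl x)))
  · intro h y
    rw [mem_cent_iff, mem_cent_iff]
    constructor
    · intro hy
      exact hCT (g * x * g⁻¹) _ _ (conj_not_mem_center hx g) (commute_conj_iff.mpr hy) h.symm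
    · intro hy
      exact commute_conj_iff.mp (hCT x _ _ hx hy h)

theorem mem_NN (hCT : CT 𝔾) {G : Subgroup 𝔾} {x g : 𝔾} (hx : x ∉ Subgroup.center 𝔾) :
    g ∈ NN G x ↔ Commute (g * x * g⁻¹) x ∧ g ∈ G := by
  rw [NN, Subgroup.mem_inf, mem_normalizer_cent_iff hCT hx]

theorem AA_le_NN (G : Subgroup 𝔾) (x : 𝔾) : AA G x ≤ NN G x :=
  inf_le_inf_right _ Subgroup.le_normalizer

theorem AA_le (G : Subgroup 𝔾) (x : 𝔾) : AA G x ≤ G := inf_le_right

theorem NN_le (G : Subgroup 𝔾) (x : 𝔾) : NN G x ≤ G := inf_le_right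

theorem center_le_AA {G : Subgroup 𝔾} (hZ : Subgroup.center 𝔾 ≤ G) (x : 𝔾) :
    Subgroup.center 𝔾 ≤ AA G x := by
  intro z hz
  rw [mem_AA]
  exact ⟨(Subgroup.mem_center_iff.mp hz x).symm, hZ hz⟩

theorem Rel.refl' (G : Subgroup 𝔾) (x : 𝔾) : Rel G x x := ⟨1, one_mem _, by simp⟩

theorem Rel.symm' {G : Subgroup 𝔾} {x z : 𝔾} (h : Rel G x z) : Rel G z x := by
  obtain ⟨g, hg, hc⟩ := h
  refine ⟨g⁻¹, inv_mem hg, ?_⟩
  have := (commute_conj_iff (g := g)).mpr hc.symm
  have e : g * (g⁻¹ * z * g) * g⁻¹ = z := by group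
  rw [e] at this
  simpa using this

theorem Rel.trans' (hCT : CT 𝔾) {G : Subgroup 𝔾} {x y z : 𝔾} (hy : y ∉ Subgroup.center 𝔾)
    (h1 : Rel G x y) (h2 : Rel G y z) : Rel G x z := by
  obtain ⟨g, hg, hc⟩ := h1
  obtain ⟨k, hk, hd⟩ := h2
  refine ⟨k * g, mul_mem hk hg, ?_⟩
  have h3 := (commute_conj_iff (g := g⁻¹)).mpr hd
  have e : (k * g)⁻¹ * z * (k * g) = g⁻¹ * (k⁻¹ * z * k) * g⁻¹⁻¹ := by group
  rw [e]
  have e2 : g⁻¹ * y * g⁻¹⁻¹ = g⁻¹ * y * g := by group
  rw [e2] at h3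
  exact hCT _ _ _ (conj_not_mem_center' hy g) h3 hc.symm

theorem mem_cls_self {G : Subgroup 𝔾} {x : 𝔾} (hx : x ∈ G) (hxZ : x ∉ Subgroup.center 𝔾) :
    x ∈ cls G x := ⟨hx, hxZ, Rel.refl' G x⟩

theorem cls_eq_of_mem (hCT : CT 𝔾) {G : Subgroup 𝔾} {x y : 𝔾} (hxZ : x ∉ Subgroup.center 𝔾)
    (hy : y ∈ cls G x) : cls G y = cls G x := by
  ext z
  constructor
  · rintro ⟨h1, h2, h3⟩
    exact ⟨h1, h2, Rel.trans' hCT hy.2.1 hy.2.2 h3⟩
  · rintro ⟨h1, h2, h3⟩
    exact ⟨h1, h2, Rel.trans' hCT hxZ hy.2.2.symm' h3⟩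

/-- The mass formula. -/
theorem ncard_cls_mul [Finite 𝔾] (hCT : CT 𝔾) {G : Subgroup 𝔾} (hZ : Subgroup.center 𝔾 ≤ G)
    {x : 𝔾} (hxZ : x ∉ Subgroup.center 𝔾) :
    (cls G x).ncard * Nat.card (NN G x) =
      Nat.card G * (Nat.card (AA G x) - Nat.card (Subgroup.center 𝔾)) := by
  classical
  have := Fintype.ofFinite 𝔾
  set s : Finset 𝔾 := Finset.univ.filter (· ∈ G) with hs
  set t : Finset 𝔾 := Finset.univ.filter (· ∈ cls G x) with ht
  have hscard : s.card = Nat.card G := by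
    rw [Nat.card_eq_fintype_card, Fintype.card_subtype]
  have htcard : t.card = (cls G x).ncard := by
    rw [Set.ncard_eq_toFinset_card', Set.toFinset_card, Fintype.card_subtype]
  have key := Finset.card_mul_eq_card_mul (s := s) (t := t)
    (fun g z => Commute (g⁻¹ * z * g) x)
    (m := Nat.card (AA G x) - Nat.card (Subgroup.center 𝔾)) (n := Nat.card (NN G x)) ?_ ?_
  · rw [hscard, htcard] at key
    exact key.symm
  · -- fixed `g`
    intro g hg
    have hgG : g ∈ G := (Finset.mem_filter.mp hg).2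
    have h1 : (t.bipartiteAbove (fun g z => Commute (g⁻¹ * z * g) x) g) =
        ((Finset.univ.filter (· ∈ AA G x)) \ (Finset.univ.filter (· ∈ Subgroup.center 𝔾))).image
          (fun y => g * y * g⁻¹) := by
      ext z
      simp only [Finset.bipartiteAbove, Finset.mem_filter, Finset.mem_image, Finset.mem_sdiff,
        Finset.mem_univ, true_and, ht]
      constructor
      · rintro ⟨⟨h1, h2, -⟩, h4⟩
        refine ⟨g⁻¹ * z * g, ⟨mem_AA.mpr ⟨h4, ?_⟩, conj_not_mem_center' h2 g⟩, by group⟩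
        exact mul_mem (mul_mem (inv_mem hgG) h1) hgG
      · rintro ⟨y, ⟨hy1, hy2⟩, rfl⟩
        have hy := mem_AA.mp hy1
        have e : g⁻¹ * (g * y * g⁻¹) * g = y := by group
        refine ⟨⟨mul_mem (mul_mem hgG hy.2) (inv_mem hgG), conj_not_mem_center hy2 g,
          ⟨g, hgG, by rw [e]; exact hy.1⟩⟩, by rw [e]; exact hy.1⟩
    rw [h1, Finset.card_image_of_injective _ (fun a b hab => by
      have := mul_right_cancel hab
      exact mul_left_cancel this), Finset.card_sdiff_of_subset]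
    · rw [Nat.card_eq_fintype_card, Fintype.card_subtype, Nat.card_eq_fintype_card,
        Fintype.card_subtype]
    · intro z hz
      simp only [Finset.mem_filter, Finset.mem_univ, true_and] at hz ⊢
      exact center_le_AA hZ x hz
  · -- fixed `z`
    intro z hz
    have hzc : z ∈ cls G x := (Finset.mem_filter.mp hz).2
    obtain ⟨hzG, hzZ, g0, hg0, hc0⟩ := hzc
    have h1 : (s.bipartiteBelow (fun g z => Commute (g⁻¹ * z * g) x) z) =
        (Finset.univ.filter (· ∈ NN G x)).image (fun n => g0 * n⁻¹) := by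
      ext g
      simp only [Finset.bipartiteBelow, Finset.mem_filter, Finset.mem_image,
        Finset.mem_univ, true_and, hs]
      constructor
      · rintro ⟨hgG, hc⟩
        refine ⟨g⁻¹ * g0, (mem_NN hCT hxZ).mpr ⟨?_, mul_mem (inv_mem hgG) hg0⟩, by group⟩
        -- `x` commutes with `g0⁻¹ z g0`, so its conjugate commutes with `g⁻¹ z g`
        have h3 := (commute_conj_iff (g := g⁻¹ * g0)).mpr hc0.symm
        have e : g⁻¹ * g0 * (g0⁻¹ * z * g0) * (g⁻¹ * g0)⁻¹ = g⁻¹ * z * g := by group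
        rw [e] at h3
        exact hCT _ _ _ (conj_not_mem_center' hzZ g) h3 hc.symm
      · rintro ⟨n, hn, rfl⟩
        obtain ⟨hn1, hn2⟩ := (mem_NN hCT hxZ).mp hn
        refine ⟨mul_mem hg0 (inv_mem hn2), ?_⟩
        have h3 := (commute_conj_iff (g := n)).mpr hc0
        have e : (g0 * n⁻¹)⁻¹ * z * (g0 * n⁻¹) = n * (g0⁻¹ * z * g0) * n⁻¹ := by group
        rw [e]
        exact hCT _ _ _ (conj_not_mem_center hxZ n) h3 hn1.symm
    rw [h1, Finset.card_image_of_injective _ (fun a b hab => by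
      have := mul_left_cancel hab
      exact inv_injective this), Nat.card_eq_fintype_card, Fintype.card_subtype]

/-- non-central elements of `G` -/
def NC (G : Subgroup 𝔾) := {x : 𝔾 // x ∈ G ∧ x ∉ Subgroup.center 𝔾}

/-- the equivalence relation on non-central elements -/
def relSetoid (hCT : CT 𝔾) (G : Subgroup 𝔾) : Setoid (NC G) where
  r x z := Rel G x.1 z.1
  iseqv := ⟨fun x => Rel.refl' G x.1, fun h => h.symm',
    fun {_ y _} h1 h2 => Rel.trans' hCT y.2.2 h1 h2⟩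

/-- A system of representatives of the classes, with the class equation. -/
theorem exists_reps [Finite 𝔾] (hCT : CT 𝔾) {G : Subgroup 𝔾} (hZ : Subgroup.center 𝔾 ≤ G) :
    ∃ R : Finset 𝔾, (∀ x ∈ R, x ∈ G ∧ x ∉ Subgroup.center 𝔾) ∧
      (∀ x ∈ R, ∀ y ∈ R, Rel G x y → x = y) ∧
      (∀ z ∈ G, z ∉ Subgroup.center 𝔾 → ∃ x ∈ R, Rel G x z) ∧
      ∑ x ∈ R, (cls G x).ncard + Nat.card (Subgroup.center 𝔾) = Nat.card G := by
  classical
  have := Fintype.ofFinite 𝔾
  have : Fintype (NC G) := by unfold NC; infer_instance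
  let st := relSetoid hCT G
  have : Fintype (Quotient st) := Fintype.ofFinite _
  let R : Finset 𝔾 := Finset.univ.image (fun c : Quotient st => c.out.1)
  have hR1 : ∀ x ∈ R, x ∈ G ∧ x ∉ Subgroup.center 𝔾 := by
    intro x hx
    obtain ⟨c, -, rfl⟩ := Finset.mem_image.mp hx
    exact c.out.2
  have hR2 : ∀ x ∈ R, ∀ y ∈ R, Rel G x y → x = y := by
    intro x hx y hy hxy
    obtain ⟨c, -, rfl⟩ := Finset.mem_image.mp hx
    obtain ⟨d, -, rfl⟩ := Finset.mem_image.mp hy
    have h1 : (⟦c.out⟧ : Quotient st) = ⟦d.out⟧ := Quotient.sound hxy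
    rw [Quotient.out_eq, Quotient.out_eq] at h1
    rw [h1]
  have hR3 : ∀ z ∈ G, z ∉ Subgroup.center 𝔾 → ∃ x ∈ R, Rel G x z := by
    intro z hz hzZ
    refine ⟨(⟦(⟨z, hz, hzZ⟩ : NC G)⟧ : Quotient st).out.1,
      Finset.mem_image.mpr ⟨_, Finset.mem_univ _, rfl⟩, ?_⟩
    exact Quotient.exact (Quotient.out_eq (⟦(⟨z, hz, hzZ⟩ : NC G)⟧ : Quotient st))
  refine ⟨R, hR1, hR2, hR3, ?_⟩
  have h1 : (Finset.univ.filter (· ∈ G) : Finset 𝔾) =
      (R.biUnion fun x => Finset.univ.filter (· ∈ cls G x)) ∪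
        Finset.univ.filter (· ∈ Subgroup.center 𝔾) := by
    ext z
    simp only [Finset.mem_filter, Finset.mem_univ, true_and, Finset.mem_union,
      Finset.mem_biUnion]
    constructor
    · intro hz
      by_cases hzZ : z ∈ Subgroup.center 𝔾
      · exact Or.inr hzZ
      · obtain ⟨x, hx, hxz⟩ := hR3 z hz hzZ
        exact Or.inl ⟨x, hx, hz, hzZ, hxz⟩
    · rintro (⟨x, -, hz⟩ | hz)
      · exact hz.1
      · exact hZ hz
  have h2 : Disjoint (R.biUnion fun x => Finset.univ.filter (· ∈ cls G x))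
      (Finset.univ.filter (· ∈ Subgroup.center 𝔾)) := by
    rw [Finset.disjoint_left]
    intro z hz hz2
    simp only [Finset.mem_filter, Finset.mem_univ, true_and, Finset.mem_biUnion] at hz hz2
    obtain ⟨x, -, hz⟩ := hz
    exact hz.2.1 hz2
  have h3 : Nat.card G = (Finset.univ.filter (· ∈ G) : Finset 𝔾).card := by
    rw [Nat.card_eq_fintype_card, Fintype.card_subtype]
  rw [h3, h1, Finset.card_union_of_disjoint h2, Finset.card_biUnion]
  · congr 1
    · apply Finset.sum_congr rfl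
      intro x _
      rw [Set.ncard_eq_toFinset_card', Set.toFinset_card, Fintype.card_subtype]
    · rw [Nat.card_eq_fintype_card, Fintype.card_subtype]
  · intro x hx y hy hxy
    rw [Function.onFun, Finset.disjoint_left]
    intro z hz1 hz2
    simp only [Finset.mem_filter, Finset.mem_univ, true_and] at hz1 hz2
    exact hxy (hR2 x hx y hy (Rel.trans' hCT hz1.2.1 hz1.2.2 hz2.2.2.symm'))

/-- the mass of a class -/
noncomputable def mass (G : Subgroup 𝔾) (x : 𝔾) : ℚ :=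
  ((Nat.card (AA G x) : ℚ) - Nat.card (Subgroup.center 𝔾)) / Nat.card (NN G x)

theorem ncard_cls_eq [Finite 𝔾] (hCT : CT 𝔾) {G : Subgroup 𝔾} (hZ : Subgroup.center 𝔾 ≤ G)
    {x : 𝔾} (hxZ : x ∉ Subgroup.center 𝔾) :
    ((cls G x).ncard : ℚ) = Nat.card G * mass G x := by
  have h := ncard_cls_mul hCT hZ hxZ
  have h1 : Nat.card (Subgroup.center 𝔾) ≤ Nat.card (AA G x) :=
    Subgroup.card_le_of_le (center_le_AA hZ x)
  have h2 : (Nat.card (NN G x) : ℚ) ≠ 0 := by
    have : 0 < Nat.card (NN G x) := Nat.card_pos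
    positivity
  have h3 : ((cls G x).ncard : ℚ) * Nat.card (NN G x) =
      Nat.card G * ((Nat.card (AA G x) : ℚ) - Nat.card (Subgroup.center 𝔾)) := by
    rw [← Nat.cast_sub h1]
    exact_mod_cast h
  rw [mass]
  field_simp
  exact h3

/-- The class equation. -/
theorem exists_reps' [Finite 𝔾] (hCT : CT 𝔾) {G : Subgroup 𝔾} (hZ : Subgroup.center 𝔾 ≤ G) :
    ∃ R : Finset 𝔾, (∀ x ∈ R, x ∈ G ∧ x ∉ Subgroup.center 𝔾) ∧
      (∀ x ∈ R, ∀ y ∈ R, Rel G x y → x = y) ∧
      (∀ z ∈ G, z ∉ Subgroup.center 𝔾 → ∃ x ∈ R, Rel G x z) ∧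
      ∑ x ∈ R, mass G x = 1 - (Nat.card (Subgroup.center 𝔾) : ℚ) / Nat.card G := by
  obtain ⟨R, h1, h2, h3, h4⟩ := exists_reps hCT hZ
  refine ⟨R, h1, h2, h3, ?_⟩
  have hG : (Nat.card G : ℚ) ≠ 0 := by
    have : 0 < Nat.card G := Nat.card_pos
    positivity
  have h5 : (∑ x ∈ R, ((cls G x).ncard : ℚ)) + Nat.card (Subgroup.center 𝔾) = Nat.card G := by
    exact_mod_cast h4
  have h6 : ∑ x ∈ R, ((cls G x).ncard : ℚ) = Nat.card G * ∑ x ∈ R, mass G x := by
    rw [Finset.mul_sum]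
    exact Finset.sum_congr rfl fun x hx => ncard_cls_eq hCT hZ (h1 x hx).2
  rw [h6] at h5
  field_simp
  linarith

theorem AA_conj {G : Subgroup 𝔾} {g : 𝔾} (hg : g ∈ G) (z : 𝔾) :
    AA G (g * z * g⁻¹) = (AA G z).map (MulAut.conj g).toMonoidHom := by
  ext y
  rw [mem_AA, Subgroup.mem_map]
  constructor
  · rintro ⟨h1, h2⟩
    refine ⟨g⁻¹ * y * g, mem_AA.mpr ⟨?_, mul_mem (mul_mem (inv_mem hg) h2) hg⟩, ?_⟩
    · apply (commute_conj_iff (g := g)).mp
      have e : g * (g⁻¹ * y * g) * g⁻¹ = y := by group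
      rw [e]; exact h1
    · simp only [MulEquiv.coe_toMonoidHom, MulAut.conj_apply]; group
  · rintro ⟨w, hw, rfl⟩
    obtain ⟨h1, h2⟩ := mem_AA.mp hw
    simp only [MulEquiv.coe_toMonoidHom, MulAut.conj_apply]
    exact ⟨commute_conj_iff.mpr h1, mul_mem (mul_mem hg h2) (inv_mem hg)⟩

theorem NN_conj (hCT : CT 𝔾) {G : Subgroup 𝔾} {g : 𝔾} (hg : g ∈ G) {z : 𝔾}
    (hz : z ∉ Subgroup.center 𝔾) :
    NN G (g * z * g⁻¹) = (NN G z).map (MulAut.conj g).toMonoidHom := by
  ext y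
  rw [mem_NN hCT (conj_not_mem_center hz g), Subgroup.mem_map]
  constructor
  · rintro ⟨h1, h2⟩
    refine ⟨g⁻¹ * y * g, (mem_NN hCT hz).mpr ⟨?_, mul_mem (mul_mem (inv_mem hg) h2) hg⟩, ?_⟩
    · apply (commute_conj_iff (g := g)).mp
      have e : g * (g⁻¹ * y * g * z * (g⁻¹ * y * g)⁻¹) * g⁻¹ = y * (g * z * g⁻¹) * y⁻¹ := by group
      rw [e]; exact h1
    · simp only [MulEquiv.coe_toMonoidHom, MulAut.conj_apply]; group
  · rintro ⟨w, hw, rfl⟩
    obtain ⟨h1, h2⟩ := (mem_NN hCT hz).mp hw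
    simp only [MulEquiv.coe_toMonoidHom, MulAut.conj_apply]
    refine ⟨?_, mul_mem (mul_mem hg h2) (inv_mem hg)⟩
    have e : g * w * g⁻¹ * (g * z * g⁻¹) * (g * w * g⁻¹)⁻¹ = g * (w * z * w⁻¹) * g⁻¹ := by group
    rw [e]
    exact commute_conj_iff.mpr h1

theorem cent_eq_of_commute (hCT : CT 𝔾) {x y : 𝔾} (hx : x ∉ Subgroup.center 𝔾)
    (hy : y ∉ Subgroup.center 𝔾) (h : Commute x y) :
    (Subgroup.centralizer {x} : Subgroup 𝔾) = Subgroup.centralizer {y} := by
  ext z
  rw [mem_cent_iff, mem_cent_iff]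
  exact ⟨fun hz => hCT x _ _ hx hz h.symm, fun hz => hCT y _ _ hy hz h⟩

theorem AA_eq_of_commute (hCT : CT 𝔾) (G : Subgroup 𝔾) {x y : 𝔾} (hx : x ∉ Subgroup.center 𝔾)
    (hy : y ∉ Subgroup.center 𝔾) (h : Commute x y) : AA G x = AA G y := by
  rw [AA, AA, cent_eq_of_commute hCT hx hy h]

theorem NN_eq_of_commute (hCT : CT 𝔾) (G : Subgroup 𝔾) {x y : 𝔾} (hx : x ∉ Subgroup.center 𝔾)
    (hy : y ∉ Subgroup.center 𝔾) (h : Commute x y) : NN G x = NN G y := by
  rw [NN, NN, cent_eq_of_commute hCT hx hy h]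

theorem card_AA_of_rel (hCT : CT 𝔾) {G : Subgroup 𝔾} {x z : 𝔾} (hx : x ∉ Subgroup.center 𝔾)
    (hz : z ∉ Subgroup.center 𝔾) (h : Rel G x z) : Nat.card (AA G z) = Nat.card (AA G x) := by
  obtain ⟨g, hg, hc⟩ := h
  rw [← AA_eq_of_commute hCT G (conj_not_mem_center' hz g) hx hc]
  have := AA_conj (inv_mem hg) z
  rw [inv_inv] at this
  rw [this, Subgroup.card_map_of_injective (MulAut.conj g⁻¹).injective]

theorem card_NN_of_rel (hCT : CT 𝔾) {G : Subgroup 𝔾} {x z : 𝔾} (hx : x ∉ Subgroup.center 𝔾)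
    (hz : z ∉ Subgroup.center 𝔾) (h : Rel G x z) : Nat.card (NN G z) = Nat.card (NN G x) := by
  obtain ⟨g, hg, hc⟩ := h
  rw [← NN_eq_of_commute hCT G (conj_not_mem_center' hz g) hx hc]
  have := NN_conj hCT (inv_mem hg) hz
  rw [inv_inv] at this
  rw [this, Subgroup.card_map_of_injective (MulAut.conj g⁻¹).injective]

theorem mass_of_rel (hCT : CT 𝔾) {G : Subgroup 𝔾} {x z : 𝔾} (hx : x ∉ Subgroup.center 𝔾)
    (hz : z ∉ Subgroup.center 𝔾) (h : Rel G x z) : mass G z = mass G x := by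
  rw [mass, mass, card_AA_of_rel hCT hx hz h, card_NN_of_rel hCT hx hz h]

/-- orbit-stabilizer inequality -/
theorem card_le_card_AA_mul [Finite 𝔾] (B : Subgroup 𝔾) (y : 𝔾) (S : Set 𝔾)
    (h : ∀ b ∈ B, b * y * b⁻¹ ∈ S) : Nat.card B ≤ Nat.card (AA B y) * S.ncard := by
  classical
  have := Fintype.ofFinite 𝔾
  have h1 := Finset.card_le_mul_card_image (f := fun b => b * y * b⁻¹)
    (Finset.univ.filter (· ∈ B)) (Nat.card (AA B y)) ?_
  · have h2 : ((Finset.univ.filter (· ∈ B)).image (fun b => b * y * b⁻¹)).card ≤ S.ncard := by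
      rw [Set.ncard_eq_toFinset_card']
      apply Finset.card_le_card
      intro z hz
      obtain ⟨b, hb, rfl⟩ := Finset.mem_image.mp hz
      rw [Set.mem_toFinset]
      exact h b (Finset.mem_filter.mp hb).2
    have h3 : Nat.card B = (Finset.univ.filter (· ∈ B) : Finset 𝔾).card := by
      rw [Nat.card_eq_fintype_card, Fintype.card_subtype]
    rw [h3]
    exact h1.trans (Nat.mul_le_mul_left _ h2)
  · intro a ha
    obtain ⟨b1, hb1, rfl⟩ := Finset.mem_image.mp ha
    have hb1' : b1 ∈ B := (Finset.mem_filter.mp hb1).2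
    have h3 : Nat.card (AA B y) = (Finset.univ.filter (· ∈ AA B y) : Finset 𝔾).card := by
      rw [Nat.card_eq_fintype_card, Fintype.card_subtype]
    rw [h3]
    apply Finset.card_le_card_of_injOn (fun b => b1⁻¹ * b)
    · intro b hb
      simp only [Finset.coe_filter, Finset.mem_filter, Finset.mem_univ, true_and,
        Set.mem_ofPred_eq] at hb ⊢
      refine mem_AA.mpr ⟨?_, mul_mem (inv_mem hb1') hb.1⟩
      have h4 : b * y * b⁻¹ = b1 * y * b1⁻¹ := hb.2
      show b1⁻¹ * b * y = y * (b1⁻¹ * b)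
      have h5 : b * y = b1 * y * b1⁻¹ * b := by rw [← h4]; group
      calc b1⁻¹ * b * y = b1⁻¹ * (b * y) := by group
        _ = b1⁻¹ * (b1 * y * b1⁻¹ * b) := by rw [h5]
        _ = y * (b1⁻¹ * b) := by group
    · intro a _ b _ hab
      exact mul_left_cancel hab


theorem card_dvd_of_semiregular [Finite 𝔾] {G A B : Subgroup 𝔾} (hA : A ≤ G)
    (hZA : Subgroup.center 𝔾 ≤ A) (hZB : Subgroup.center 𝔾 ≤ B)
    (h : ∀ g ∈ G, ∀ t ∈ A, g⁻¹ * t * g ∈ B → t ∈ Subgroup.center 𝔾) :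
    Nat.card A ∣ Nat.card (Subgroup.center 𝔾) * B.relIndex G := by
  classical
  let A' : Subgroup G := A.subgroupOf G
  let B' : Subgroup G := B.subgroupOf G
  have : Fintype A' := Fintype.ofFinite _
  have : Fintype (G ⧸ B') := Fintype.ofFinite _
  have : Fintype (Quotient (MulAction.orbitRel A' (G ⧸ B'))) := Fintype.ofFinite _
  have burn := MulAction.sum_card_fixedBy_eq_card_orbits_mul_card_group A' (G ⧸ B')
  have hfix : ∀ a : A', Fintype.card (MulAction.fixedBy (G ⧸ B') a) =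
      if (a.1.1 ∈ Subgroup.center 𝔾) then Fintype.card (G ⧸ B') else 0 := by
    intro a
    split_ifs with ha
    · rw [Fintype.card_subtype]
      congr 1
      ext x
      simp only [Finset.mem_filter, Finset.mem_univ, true_and, iff_true]
      induction x using QuotientGroup.induction_on with
      | H g =>
        rw [MulAction.mem_fixedBy]
        change ((a.1 * g : G) : G ⧸ B') = (g : G ⧸ B')
        rw [QuotientGroup.eq, Subgroup.mem_subgroupOf]
        have e : (((a.1 * g)⁻¹ * g : G) : 𝔾) = (g.1⁻¹ * a.1.1 * g.1)⁻¹ := by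
          simp only [Subgroup.coe_mul, Subgroup.coe_inv]; group
        rw [e]
        apply inv_mem
        have : g.1⁻¹ * a.1.1 * g.1 = a.1.1 := by
          rw [mul_assoc, (Subgroup.mem_center_iff.mp ha g.1).symm]; group
        rw [this]
        exact hZB ha
    · rw [Fintype.card_eq_zero_iff]
      constructor
      rintro ⟨x, hx⟩
      induction x using QuotientGroup.induction_on with
      | H g =>
        rw [MulAction.mem_fixedBy] at hx
        change ((a.1 * g : G) : G ⧸ B') = (g : G ⧸ B') at hx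
        rw [QuotientGroup.eq, Subgroup.mem_subgroupOf] at hx
        have e : (((a.1 * g)⁻¹ * g : G) : 𝔾) = (g.1⁻¹ * a.1.1 * g.1)⁻¹ := by
          simp only [Subgroup.coe_mul, Subgroup.coe_inv]; group
        rw [e] at hx
        exact ha (h g.1 g.2 a.1.1 (Subgroup.mem_subgroupOf.mp a.2) ((inv_mem_iff).mp hx))
  simp_rw [hfix] at burn
  rw [Finset.sum_ite, Finset.sum_const_zero, add_zero, Finset.sum_const, smul_eq_mul] at burn
  have hc1 : (Finset.univ.filter (fun a : A' => a.1.1 ∈ Subgroup.center 𝔾)).card =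
      Nat.card (Subgroup.center 𝔾) := by
    rw [← Fintype.card_subtype, ← Nat.card_eq_fintype_card]
    apply Nat.card_congr
    exact ⟨fun a => ⟨a.1.1.1, a.2⟩,
      fun z => ⟨⟨⟨z.1, hA (hZA z.2)⟩, Subgroup.mem_subgroupOf.mpr (hZA z.2)⟩, z.2⟩,
      fun a => rfl, fun z => rfl⟩
  have hc2 : Fintype.card (G ⧸ B') = B.relIndex G := by
    rw [Subgroup.relIndex, Subgroup.index_eq_card, Nat.card_eq_fintype_card]
  have hc3 : Fintype.card A' = Nat.card A := by
    rw [← Nat.card_eq_fintype_card]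
    exact Nat.card_congr (Subgroup.subgroupOfEquivOfLe hA).toEquiv
  rw [hc1, hc2, hc3] at burn
  exact Dvd.intro_left _ burn.symm

/-- If every non-identity element of `A` fixes exactly the trivial coset of `B`, then
`|A|` divides `|G : B| - 1`. -/
theorem card_dvd_of_fix_one [Finite 𝔾] {G A B : Subgroup 𝔾} (hA : A ≤ G)
    (h : ∀ g ∈ G, ∀ t ∈ A, t ≠ 1 → (g⁻¹ * t * g ∈ B ↔ g ∈ B)) :
    Nat.card A ∣ B.relIndex G + (Nat.card A - 1) := by
  classical
  let A' : Subgroup G := A.subgroupOf G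
  let B' : Subgroup G := B.subgroupOf G
  have : Fintype A' := Fintype.ofFinite _
  have : Fintype (G ⧸ B') := Fintype.ofFinite _
  have : Fintype (Quotient (MulAction.orbitRel A' (G ⧸ B'))) := Fintype.ofFinite _
  have burn := MulAction.sum_card_fixedBy_eq_card_orbits_mul_card_group A' (G ⧸ B')
  have hfix : ∀ a : A', Fintype.card (MulAction.fixedBy (G ⧸ B') a) =
      if a = 1 then Fintype.card (G ⧸ B') else 1 := by
    intro a
    split_ifs with ha
    · subst ha
      rw [Fintype.card_subtype]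
      congr 1
      ext x
      simp
    · rw [Fintype.card_eq_one_iff]
      have ha1 : a.1.1 ≠ 1 := by
        intro h1
        apply ha
        apply Subtype.ext
        apply Subtype.ext
        exact h1
      have key : ∀ g : G, ((g : G ⧸ B') ∈ MulAction.fixedBy (G ⧸ B') a) ↔ g.1 ∈ B := by
        intro g
        rw [MulAction.mem_fixedBy]
        change ((a.1 * g : G) : G ⧸ B') = (g : G ⧸ B') ↔ _
        rw [QuotientGroup.eq, Subgroup.mem_subgroupOf]
        have e : (((a.1 * g)⁻¹ * g : G) : 𝔾) = (g.1⁻¹ * a.1.1 * g.1)⁻¹ := by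
          simp only [Subgroup.coe_mul, Subgroup.coe_inv]; group
        rw [e, inv_mem_iff]
        exact h g.1 g.2 a.1.1 (Subgroup.mem_subgroupOf.mp a.2) ha1
      refine ⟨⟨((1 : G) : G ⧸ B'), (key 1).mpr (one_mem B)⟩, ?_⟩
      rintro ⟨x, hx⟩
      apply Subtype.ext
      induction x using QuotientGroup.induction_on with
      | H g =>
        change (g : G ⧸ B') = ((1 : G) : G ⧸ B')
        rw [QuotientGroup.eq, Subgroup.mem_subgroupOf]
        have := (key g).mp hx
        simpa using this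
  simp_rw [hfix] at burn
  rw [Finset.sum_ite, Finset.sum_const, Finset.sum_const, smul_eq_mul, smul_eq_mul, mul_one,
    Finset.filter_eq' Finset.univ (1 : A'), if_pos (Finset.mem_univ _), Finset.card_singleton,
    one_mul, Finset.filter_ne' Finset.univ (1 : A'), Finset.card_erase_of_mem (Finset.mem_univ _),
    Finset.card_univ] at burn
  have hc2 : Fintype.card (G ⧸ B') = B.relIndex G := by
    rw [Subgroup.relIndex, Subgroup.index_eq_card, Nat.card_eq_fintype_card]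
  have hc3 : Fintype.card A' = Nat.card A := by
    rw [← Nat.card_eq_fintype_card]
    exact Nat.card_congr (Subgroup.subgroupOfEquivOfLe hA).toEquiv
  rw [hc2, hc3] at burn
  exact Dvd.intro_left _ burn.symm

end Cfsg.Agent.Lib.Helper41Dk
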