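import Mathlib

set_option autoImplicit false

namespace Cfsg.Agent.Lib.Helper41Conj

theorem card_carrier_eq_index {G : Type*} [Group G] (g : G) :
    Nat.card (ConjClasses.mk g).carrier = (Subgroup.centralizer {g} : Subgroup G).index := by
  have h1 : (Subgroup.centralizer {g} : Subgroup G).index =
      (MulAction.stabilizer (ConjAct G) g).index := by
    rw [Subgroup.centralizer_eq_comap_stabilizer]
    exact Subgroup.index_comap_of_surjective (MulAction.stabilizer (ConjAct G) g)
      (f := (ConjAct.toConjAct (G := G)).toMonoidHom) (ConjAct.toConjAct (G := G)).surjective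
  rw [h1, MulAction.index_stabilizer, ← ConjAct.orbit_eq_carrier_conjClasses]
  rfl

theorem card_carrier_mul_card_centralizer {G : Type*} [Group G] (g : G) :
    Nat.card (ConjClasses.mk g).carrier * Nat.card (Subgroup.centralizer {g} : Subgroup G) =
      Nat.card G := by
  rw [card_carrier_eq_index, mul_comm, Subgroup.card_mul_index]

/-- Counting conjugacy classes with a complete invariant. -/
theorem card_conjClasses_of_invariant {G α : Type*} [Group G] (f : G → α)
    (hs : Function.Surjective f) (h : ∀ g h : G, f g = f h ↔ IsConj g h) :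
    Nat.card (ConjClasses G) = Nat.card α := by
  apply Nat.card_congr
  refine Equiv.ofBijective (Quotient.lift f (fun a b hab => (h a b).mpr hab)) ⟨?_, ?_⟩
  · intro c d hcd
    obtain ⟨a, rfl⟩ := ConjClasses.mk_surjective c
    obtain ⟨b, rfl⟩ := ConjClasses.mk_surjective d
    exact ConjClasses.mk_eq_mk_iff_isConj.mpr ((h a b).mp hcd)
  · intro x
    obtain ⟨a, rfl⟩ := hs x
    exact ⟨ConjClasses.mk a, rfl⟩

end Cfsg.Agent.Lib.Helper41Conj
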