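import Mathlib
import Cfsg.Agent.Lib.Helper41SL2Dic

set_option autoImplicit false

namespace Cfsg.Agent.Lib.Helper41SL2

open Matrix Cfsg.Agent.Lib.Helper46SL2 Cfsg.Agent.Lib.Helper41Dic

variable {F : Type*} [Field F]

local notation "SL2" => Matrix.SpecialLinearGroup (Fin 2)

theorem exists_sq_ne_one [Fintype F] (hq : 3 < Fintype.card F) : ∃ a : F, a ≠ 0 ∧ a ^ 2 ≠ 1 := by
  obtain ⟨g, hg⟩ := IsCyclic.exists_generator (α := Fˣ)
  refine ⟨g, g.ne_zero, ?_⟩
  intro h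
  have h1 : g ^ 2 = 1 := Units.ext (by simpa using h)
  have h2 := orderOf_dvd_of_pow_eq_one h1
  rw [orderOf_eq_card_of_forall_mem_zpowers hg, Nat.card_units, Nat.card_eq_fintype_card] at h2
  have := Nat.le_of_dvd (by norm_num) h2
  omega

theorem two_adic_aux (N : ℕ) (h4 : 4 ∣ N) (hN : N ≠ 0) : ∃ k m : ℕ, 1 ≤ k ∧ Odd m ∧ N = 2 ^ (k + 1) * m := by
  obtain ⟨e, m, hm, rfl⟩ := Nat.exists_eq_two_pow_mul_odd hN
  have he : 2 ≤ e := by
    by_contra hcon
    push Not at hcon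
    obtain ⟨j, rfl⟩ := hm
    interval_cases e <;> omega
  exact ⟨e - 1, m, by omega, hm, by rw [show e - 1 + 1 = e by omega]⟩

theorem exists_good_torus [Fintype F] (hodd : Odd (Fintype.card F)) :
    ∃ (A : SL2 F) (k m r : ℕ), 1 ≤ k ∧ Odd m ∧ Odd r ∧ tr A ^ 2 ≠ 4 ∧
      Nat.card (Subgroup.centralizer {A} : Subgroup (SL2 F)) = 2 ^ (k + 1) * m ∧
      Nat.card (SL2 F) = 2 ^ (k + 2) * r := by
  have hq : 1 < Fintype.card F := Fintype.one_lt_card
  have hG := Cfsg.Agent.Lib.Helper7SL.card_SL_two (F := F)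
  have hodd' := hodd
  obtain ⟨j, hj⟩ := hodd
  rcases Nat.even_or_odd' j with ⟨i, hi | hi⟩
  · -- q = 4 i + 1
    have hi0 : i ≠ 0 := by rintro rfl; omega
    obtain ⟨a, ha0, ha⟩ := exists_sq_ne_one (F := F) (by omega)
    obtain ⟨k, m, hk, hm, hN⟩ := two_adic_aux (Fintype.card F - 1) ⟨i, by omega⟩ (by omega)
    refine ⟨dg a ha0, k, m, Fintype.card F * m * (2 * i + 1), hk, hm, ?_, ?_, ?_, ?_⟩
    · exact (hodd'.mul hm).mul ⟨i, rfl⟩
    · rw [tr_dg]; exact add_inv_sq_ne_four ha0 ha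
    · rw [card_centralizer_split ha0 ha (tr_dg a ha0), hN]
    · rw [hG]
      have h1 : Fintype.card F ^ 2 - 1 = (Fintype.card F - 1) * (2 * (2 * i + 1)) := by
        have : Fintype.card F = 4 * i + 1 := by omega
        rw [this]
        simp only [Nat.add_sub_cancel]
        have : (4 * i + 1) ^ 2 = 4 * i * (2 * (2 * i + 1)) + 1 := by ring
        omega
      rw [h1, hN]
      ring
  · -- q = 4 i + 3
    obtain ⟨A₀, hns, -, -⟩ := exists_nonSplit_generator (F := F)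
    obtain ⟨k, m, hk, hm, hN⟩ := two_adic_aux (Fintype.card F + 1) ⟨i + 1, by omega⟩ (by omega)
    refine ⟨A₀, k, m, Fintype.card F * m * (2 * i + 1), hk, hm, ?_, hns.sq_ne_four, ?_, ?_⟩
    · exact (hodd'.mul hm).mul ⟨i, rfl⟩
    · rw [card_centralizer_nonSplit hns, hN]
    · rw [hG]
      have h1 : Fintype.card F ^ 2 - 1 = (Fintype.card F + 1) * (2 * (2 * i + 1)) := by
        have : Fintype.card F = 4 * i + 3 := by omega
        rw [this]
        have : (4 * i + 3) ^ 2 = (4 * i + 3 + 1) * (2 * (2 * i + 1)) + 1 := by ring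
        omega
      rw [h1, hN]
      ring

theorem card_centralizer_congr {A B : SL2 F} (hA : A ∉ Subgroup.center (SL2 F))
    (hB : B ∉ Subgroup.center (SL2 F)) (h : tr A = tr B) :
    Nat.card (Subgroup.centralizer {A} : Subgroup (SL2 F)) =
      Nat.card (Subgroup.centralizer {B} : Subgroup (SL2 F)) :=
  Nat.card_congr ((centEquiv' hA h).symm.trans (centEquiv hB)).toEquiv

instance finite_SL2 [Finite F] : Finite (SL2 F) := by
  have := Fintype.ofFinite F
  classical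
  infer_instance

/-- Structure of an arbitrary Sylow 2-subgroup of `SL₂(q)`, `q` odd. -/
theorem sylow_two_structure [Fintype F] (hodd : Odd (Fintype.card F)) (S : Sylow 2 (SL2 F)) :
    ∃ (k m : ℕ) (A c w : SL2 F), 1 ≤ k ∧ Odd m ∧ tr A ^ 2 ≠ 4 ∧
      Nat.card (Subgroup.centralizer {A} : Subgroup (SL2 F)) = 2 ^ (k + 1) * m ∧
      c * A = A * c ∧ orderOf c = 2 ^ (k + 1) ∧ c ^ (2 ^ k) = -1 ∧ w * A * w⁻¹ = A⁻¹ ∧ w * w = -1 ∧
      w * c * w⁻¹ = c⁻¹ ∧ w ∉ Subgroup.zpowers c ∧ c ∈ S ∧ w ∈ S ∧ Nat.card S = 2 ^ (k + 2) := by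
  have h2 : (2 : F) ≠ 0 := two_ne_zero_of_odd hodd
  obtain ⟨A, k, m, r, hk, hm, hr, ht, hC, hG⟩ := exists_good_torus hodd
  have hm0 : m ≠ 0 := by rintro rfl; simp at hm
  have hne : NeZero (2 ^ k * m) := ⟨by positivity⟩
  obtain ⟨c₀, w, hz, hord, hcn, hww, hwA, hwc, hwn⟩ :=
    exists_dicyclic_generators h2 ht (2 ^ k * m) (by rw [hC]; ring)
  have hA := not_mem_center_of_tr ht
  have hc₀ : c₀ ∈ (Subgroup.centralizer {A} : Subgroup (SL2 F)) := by
    rw [← hz]; exact Subgroup.mem_zpowers c₀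
  have hcm : c₀ ^ m ∈ (Subgroup.centralizer {A} : Subgroup (SL2 F)) := Subgroup.pow_mem _ hc₀ m
  have hordc : orderOf (c₀ ^ m) = 2 * 2 ^ k := by
    rw [orderOf_pow_of_dvd hm0 (by rw [hord]; exact ⟨2 * 2 ^ k, by ring⟩), hord]
    exact Nat.div_eq_of_eq_mul_left (Nat.pos_of_ne_zero hm0) (by ring)
  have hcpow : (c₀ ^ m) ^ (2 ^ k) = -1 := by
    rw [← pow_mul, mul_comm, hcn]
  have hwc' : w * c₀ ^ m * w⁻¹ = (c₀ ^ m)⁻¹ :=
    inverts_centralizer hA hwA (mem_centralizer_iff.mp hcm)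
  have hwz : w ∉ Subgroup.zpowers (c₀ ^ m) := by
    intro h
    apply hwn
    exact (Subgroup.zpowers_le.mpr hcm) h
  have hfact : (Nat.card (SL2 F)).factorization 2 = k + 2 := by
    rw [hG, Nat.factorization_mul (by positivity) (by rintro rfl; simp at hr)]
    simp only [Finsupp.coe_add, Pi.add_apply]
    rw [Nat.factorization_eq_zero_of_not_dvd (n := r) (by rw [Nat.odd_iff] at hr; omega),
      Nat.Prime.factorization_pow Nat.prime_two]
    simp
  have hinj := quatHom_injective (2 ^ k) (c₀ ^ m) w hordc (by rw [sq, hww, hcpow]) hwc' hwz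
  set φ := quatHom (2 ^ k) (c₀ ^ m) w (hordc ▸ pow_orderOf_eq_one _) (by rw [sq, hww, hcpow]) hwc' with hφ
  have hne2 : NeZero (2 ^ k) := ⟨by positivity⟩
  have hcardR : Nat.card φ.range = 2 ^ (Nat.card (SL2 F)).factorization 2 := by
    rw [hfact, ← Nat.card_congr (MonoidHom.ofInjective hinj).toEquiv, card_quaternion]
    ring
  obtain ⟨g, hg⟩ := MulAction.exists_smul_eq (SL2 F) (Sylow.ofCard φ.range hcardR) S
  set e : SL2 F ≃* SL2 F := MulAut.conj g with he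
  have hmemS : ∀ x ∈ φ.range, e x ∈ S := by
    intro x hx
    rw [← hg]
    change e x ∈ ((g • Sylow.ofCard φ.range hcardR : Sylow 2 (SL2 F)) : Subgroup (SL2 F))
    rw [Sylow.coe_subgroup_smul]
    exact Subgroup.smul_mem_pointwise_smul x (MulAut.conj g) _ hx
  have hneg : e (-1) = -1 := by
    rw [he, MulAut.conj_apply]
    simp
  have htre : tr (e A) = tr A := by rw [he, MulAut.conj_apply, tr_conj]
  refine ⟨k, m, e A, e (c₀ ^ m), e w, hk, hm, by rwa [htre], ?_, ?_, ?_, ?_,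
    ?_, ?_, ?_, ?_, ?_, ?_, ?_⟩
  · rw [← hC]
    exact card_centralizer_congr (not_mem_center_of_tr (by rwa [htre])) hA htre
  · rw [← map_mul, ← map_mul, mem_centralizer_iff.mp hcm]
  · rw [MulEquiv.orderOf_eq, hordc]; ring
  · rw [← map_pow, hcpow, hneg]
  · rw [← map_inv, ← map_mul, ← map_mul, hwA, map_inv]
  · rw [← map_mul, hww, hneg]
  · rw [← map_inv, ← map_mul, ← map_mul, hwc', map_inv]
  · intro h
    obtain ⟨j, hj⟩ := Subgroup.mem_zpowers_iff.mp h
    rw [← map_zpow] at hj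
    exact hwz (Subgroup.mem_zpowers_iff.mpr ⟨j, e.injective hj⟩)
  · apply hmemS
    refine ⟨QuaternionGroup.a 1, ?_⟩
    rw [hφ, quatHom_a]
    have := pw_natCast (2 * 2 ^ k) (c₀ ^ m) (hordc ▸ pow_orderOf_eq_one _) 1
    simpa using this
  · apply hmemS
    refine ⟨QuaternionGroup.xa 0, ?_⟩
    rw [hφ, quatHom_xa]
    simp
  · rw [Sylow.card_eq_multiplicity, hfact]

end Cfsg.Agent.Lib.Helper41SL2
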