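import Mathlib
import Cfsg.Agent.Lib.Helper41SL2Syl

set_option autoImplicit false

namespace Cfsg.Agent.Lib.Helper41SL2

open Matrix Cfsg.Agent.Lib.Helper46SL2 Cfsg.Agent.Lib.Helper41Dic

variable {F : Type*} [Field F]

local notation "SL2" => Matrix.SpecialLinearGroup (Fin 2)
local notation "PSL2" => Matrix.ProjectiveSpecialLinearGroup (Fin 2)

theorem tr_eq_zero_of_sq_eq_neg_one {X : SL2 F} (h : X * X = -1) : tr X = 0 := by
  by_contra ht
  have e00 : (X * X) 0 0 = (-1 : SL2 F) 0 0 := by rw [h]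
  have e01 : (X * X) 0 1 = (-1 : SL2 F) 0 1 := by rw [h]
  have n00 : (-1 : SL2 F) 0 0 = -1 := by rw [Helper46SL2.neg_apply, one_00]
  have n01 : (-1 : SL2 F) 0 1 = 0 := by rw [Helper46SL2.neg_apply, one_01, neg_zero]
  rw [n00, sq_eq, one_00] at e00
  rw [n01, sq_eq, one_01] at e01
  have h00 : X 0 0 = 0 := by
    have : tr X * X 0 0 = 0 := by linear_combination e00
    exact (mul_eq_zero.mp this).resolve_left ht
  have h01 : X 0 1 = 0 := by
    have : tr X * X 0 1 = 0 := by linear_combination e01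
    exact (mul_eq_zero.mp this).resolve_left ht
  have := det2 X
  rw [h00, h01] at this
  simp at this

theorem sq_eq_neg_one_iff {X : SL2 F} : X * X = -1 ↔ tr X = 0 :=
  ⟨tr_eq_zero_of_sq_eq_neg_one, sq_eq_neg_one_of_tr_eq_zero⟩

theorem zero_sq_ne_four (h2 : (2 : F) ≠ 0) : (0 : F) ^ 2 ≠ 4 := by
  intro h
  apply h2
  have : (2 : F) * 2 = 0 := by linear_combination -h
  exact (mul_eq_zero.mp this).elim id id

theorem isConj_of_tr_eq_zero [Finite F] (h2 : (2 : F) ≠ 0) {X Y : SL2 F} (hX : tr X = 0)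
    (hY : tr Y = 0) : IsConj X Y :=
  isConj_of_tr_eq (hX.trans hY.symm) (by rw [hX]; exact zero_sq_ne_four h2)

theorem normalizer_zpowers_eq {x : SL2 F} (ht : tr x ^ 2 ≠ 4) :
    Subgroup.normalizer ((Subgroup.zpowers x : Subgroup (SL2 F)) : Set (SL2 F)) =
      Subgroup.normalizer ((Subgroup.centralizer {x} : Subgroup (SL2 F)) : Set (SL2 F)) := by
  ext g
  rw [mem_normalizer_centralizer_iff ht]
  constructor
  · intro h
    have h1 : g * x * g⁻¹ ∈ Subgroup.zpowers x :=
      (Subgroup.mem_normalizer_iff.mp h x).mp (Subgroup.mem_zpowers x)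
    obtain ⟨j, hj⟩ := Subgroup.mem_zpowers_iff.mp h1
    apply eq_or_eq_inv_of_commute ht _ (tr_conj x g)
    rw [← hj]
    exact ((Commute.refl x).zpow_left j).eq
  · intro h
    rw [Subgroup.mem_normalizer_iff_map_conj_eq]
    have : (Subgroup.zpowers x).map ((MulAut.conj g : SL2 F ≃* SL2 F) : SL2 F →* SL2 F) =
        Subgroup.zpowers (g * x * g⁻¹) := by
      rw [MonoidHom.map_zpowers]; rfl
    rcases h with h | h
    · rw [h] at this; exact this
    · rw [h, Subgroup.zpowers_inv] at this; exact this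

theorem card_centralizer_tr_zero_one [Fintype F] (h : Fintype.card F % 4 = 1) {x : SL2 F}
    (hx : tr x = 0) :
    Nat.card (Subgroup.centralizer {x} : Subgroup (SL2 F)) = Fintype.card F - 1 := by
  have h2 : (2 : F) ≠ 0 := two_ne_zero_of_odd (Nat.odd_iff.mpr (by omega))
  obtain ⟨a, ha⟩ := (FiniteField.isSquare_neg_one_iff (F := F)).mpr (by omega)
  have ha0 : a ≠ 0 := by
    rintro rfl
    simp at ha
  apply card_centralizer_split (a := a) ha0
  · intro h1
    apply h2
    linear_combination -h1 - ha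
  · rw [hx]
    field_simp
    linear_combination ha

theorem card_centralizer_tr_zero_three [Fintype F] (h : Fintype.card F % 4 = 3) {x : SL2 F}
    (hx : tr x = 0) :
    Nat.card (Subgroup.centralizer {x} : Subgroup (SL2 F)) = Fintype.card F + 1 := by
  apply card_centralizer_nonSplit
  rw [hx]
  intro r hr
  have : IsSquare (-1 : F) := ⟨r, by linear_combination -hr⟩
  rw [FiniteField.isSquare_neg_one_iff] at this
  exact this h

/-- A subgroup of order `4` of `SL₂(F)`, char `F ≠ 2`, is generated by an element of trace `0`. -/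
theorem exists_generator_of_card_four (h2 : (2 : F) ≠ 0) (A : Subgroup (SL2 F)) (hA : Nat.card A = 4) :
    ∃ x : SL2 F, tr x = 0 ∧ A = Subgroup.zpowers x := by
  have hfin : Finite A := Nat.finite_of_card_ne_zero (by rw [hA]; norm_num)
  have hex : ∃ x ∈ A, x * x ≠ 1 := by
    by_contra hcon
    push Not at hcon
    have hsub : (A : Set (SL2 F)) ⊆ {1, -1} := by
      intro x hx
      have := (sq_eq_one_iff' h2).mp (hcon x hx)
      simpa using this
    have h1 : Nat.card A ≤ Nat.card ({1, -1} : Set (SL2 F)) :=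
      Nat.card_mono (Set.toFinite _) hsub
    have h3 : Nat.card ({1, -1} : Set (SL2 F)) ≤ 2 := by
      classical
      rw [Nat.card_coe_set_eq]
      exact (Set.ncard_insert_le _ _).trans (by rw [Set.ncard_singleton])
    omega
  obtain ⟨x, hxA, hx⟩ := hex
  have hx4 : x ^ 4 = 1 := by
    have := pow_card_eq_one' (G := A) (x := ⟨x, hxA⟩)
    rw [hA] at this
    exact congrArg Subtype.val this
  have hxx : x * x = -1 := by
    have : (x * x) * (x * x) = 1 := by
      rw [← hx4, show (4 : ℕ) = 2 + 2 from rfl, pow_add, sq]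
    rcases (sq_eq_one_iff' h2).mp this with h | h
    · exact absurd h hx
    · exact h
  refine ⟨x, tr_eq_zero_of_sq_eq_neg_one hxx, ?_⟩
  have hord : orderOf x = 4 := by
    have : orderOf x = 2 ^ 2 := by
      apply orderOf_eq_prime_pow
      · rw [pow_one, sq]; exact hx
      · exact hx4
    simpa using this
  symm
  apply Subgroup.eq_of_le_of_card_ge (Subgroup.zpowers_le.mpr hxA)
  rw [hA, Nat.card_zpowers, hord]

/-- Involutions of `PSL₂(F)` lift to trace zero elements. -/
theorem exists_lift_of_orderOf_two (h2 : (2 : F) ≠ 0) {x : PSL2 F} (hx : orderOf x = 2) :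
    ∃ X : SL2 F, tr X = 0 ∧ (QuotientGroup.mk X : PSL2 F) = x := by
  obtain ⟨X, rfl⟩ := QuotientGroup.mk_surjective x
  refine ⟨X, ?_, rfl⟩
  have h1 : (QuotientGroup.mk X : PSL2 F) ^ 2 = 1 := by
    have := pow_orderOf_eq_one (QuotientGroup.mk X : PSL2 F)
    rwa [hx] at this
  rw [mk_pow_eq_one_iff, mem_center_iff_eq, sq] at h1
  rcases h1 with h1 | h1
  · exfalso
    have h3 : (QuotientGroup.mk X : PSL2 F) = 1 := by
      rw [mk_eq_one_iff, mem_center_iff_eq]
      exact (sq_eq_one_iff' h2).mp h1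
    rw [h3, orderOf_one] at hx
    omega
  · exact tr_eq_zero_of_sq_eq_neg_one h1

theorem isConj_of_orderOf_two [Finite F] (h2 : (2 : F) ≠ 0) {x y : PSL2 F} (hx : orderOf x = 2)
    (hy : orderOf y = 2) : IsConj x y := by
  obtain ⟨X, hX, rfl⟩ := exists_lift_of_orderOf_two h2 hx
  obtain ⟨Y, hY, rfl⟩ := exists_lift_of_orderOf_two h2 hy
  exact (QuotientGroup.mk' (Subgroup.center (SL2 F))).map_isConj (isConj_of_tr_eq_zero h2 hX hY)

end Cfsg.Agent.Lib.Helper41SL2
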