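import Mathlib
import Cfsg.Agent.Lib.Helper41SL2Inv
import Cfsg.Agent.Lib.Helper41Conj

set_option autoImplicit false

namespace Cfsg.Agent.Lib.Helper41SL2

open Matrix Cfsg.Agent.Lib.Helper46SL2 Cfsg.Agent.Lib.Helper41Conj

variable {F : Type*} [Field F]

local notation "SL2" => Matrix.SpecialLinearGroup (Fin 2)

theorem neg_one_eq_one_of_char_two [CharP F 2] : (-1 : SL2 F) = 1 := by
  apply ext2 <;> rw [Helper46SL2.neg_apply] <;> exact CharTwo.neg_eq _

theorem mem_center_iff_char_two [CharP F 2] {A : SL2 F} : A ∈ Subgroup.center (SL2 F) ↔ A = 1 := by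
  rw [mem_center_iff_eq, neg_one_eq_one_of_char_two, or_self]

theorem universal_char_two [Finite F] [CharP F 2] (t c : F) :
    ∃ x y : F, x ^ 2 + t * x * y + y ^ 2 = c := by
  have := Fintype.ofFinite F
  obtain ⟨x, hx⟩ := FiniteField.isSquare_of_char_two (F := F) (ringChar.eq F 2) c
  exact ⟨x, 0, by rw [hx]; ring⟩

theorem isConj_of_tr_eq_char_two [Finite F] [CharP F 2] {A B : SL2 F} (hA : A ≠ 1) (hB : B ≠ 1)
    (h : tr A = tr B) : IsConj A B :=
  isConj_of_tr_eq_of_universal (fun h => hA (mem_center_iff_char_two.mp h))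
    (fun h => hB (mem_center_iff_char_two.mp h)) h (universal_char_two _)

theorem comp_ne_one (t : F) : comp 1 t one_ne_zero ≠ 1 := by
  intro h
  have : (comp 1 t one_ne_zero) 1 0 = (1 : SL2 F) 1 0 := by rw [h]
  rw [one_10] at this
  simp [Helper46SL2.comp] at this

theorem card_conjClasses_char_two [Fintype F] [CharP F 2] :
    Nat.card (ConjClasses (SL2 F)) = Fintype.card F + 1 := by
  classical
  rw [card_conjClasses_of_invariant (fun A : SL2 F => if A = 1 then none else some (tr A)),
    Nat.card_eq_fintype_card, Fintype.card_option]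
  · rintro (_ | t)
    · exact ⟨1, by simp⟩
    · exact ⟨comp 1 t one_ne_zero, by simp [comp_ne_one, tr_comp]⟩
  · intro A B
    constructor
    · intro h
      by_cases hA : A = 1 <;> by_cases hB : B = 1
      · rw [hA, hB]; exact IsConj.refl 1
      · simp [hA, hB] at h
      · simp [hA, hB] at h
      · simp only [hA, hB, if_false, Option.some.injEq] at h
        exact isConj_of_tr_eq_char_two hA hB h
    · intro h
      have h1 : A = 1 ↔ B = 1 := by
        constructor
        · rintro rfl; exact (isConj_one_right.mp h)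
        · rintro rfl; exact (isConj_one_left.mp h)
      simp only [h1, tr_of_isConj h]

theorem card_sq_eq_one_char_two [CharP F 2] : Nat.card {s : F // s ^ 2 = 1} = 1 := by
  rw [Nat.card_eq_one_iff_unique]
  refine ⟨⟨?_⟩, ⟨⟨1, one_pow 2⟩⟩⟩
  rintro ⟨a, ha⟩ ⟨b, hb⟩
  apply Subtype.ext
  have key : ∀ s : F, s ^ 2 = 1 → s = 1 := by
    intro s hs
    have : (s - 1) ^ 2 = 0 := by
      have h2 : (2 : F) = 0 := CharTwo.two_eq_zero
      linear_combination hs - (s - 1) * h2
    have := pow_eq_zero_iff (two_ne_zero) |>.mp this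
    linear_combination this
  change a = b
  rw [key a ha, key b hb]

theorem card_centralizer_unip_char_two [Fintype F] [CharP F 2] {A : SL2 F} (hA : A ≠ 1)
    (ht : tr A = 0) :
    Nat.card (Subgroup.centralizer {A} : Subgroup (SL2 F)) = Fintype.card F := by
  have h2 : (2 : F) = 0 := CharTwo.two_eq_zero
  have hA' : A ∉ Subgroup.center (SL2 F) := fun h => hA (mem_center_iff_char_two.mp h)
  rw [← Nat.card_congr (centEquiv' hA' (t := 2 * 1) (by rw [ht, h2]; ring)).toEquiv,
    Nat.card_congr (torUnipEquiv (one_pow 2)), Nat.card_prod, card_sq_eq_one_char_two, one_mul,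
    Nat.card_eq_fintype_card]

theorem tr_eq_zero_of_orderOf_two_char_two [CharP F 2] {g : SL2 F} (hg : orderOf g = 2) :
    tr g = 0 := by
  apply tr_eq_zero_of_sq_eq_neg_one
  rw [neg_one_eq_one_of_char_two, ← sq]
  have := pow_orderOf_eq_one g
  rwa [hg] at this

end Cfsg.Agent.Lib.Helper41SL2
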