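import Mathlib
import Cfsg.Agent.Lib.Helper41SL2Inv

set_option autoImplicit false

namespace Cfsg.Agent.Lib.Helper41SL2

open Matrix Cfsg.Agent.Lib.Helper46SL2 Cfsg.Agent.Lib.Helper41Dic

variable {F : Type*} [Field F]

local notation "SL2" => Matrix.SpecialLinearGroup (Fin 2)

theorem card_centralizer_unip_odd [Fintype F] (hodd : Odd (Fintype.card F)) {A : SL2 F}
    (hA : A ∉ Subgroup.center (SL2 F)) (ht : tr A ^ 2 = 4) :
    Nat.card (Subgroup.centralizer {A} : Subgroup (SL2 F)) = 2 * Fintype.card F := by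
  have h2 : (2 : F) ≠ 0 := two_ne_zero_of_odd hodd
  have he : (tr A / 2) ^ 2 = 1 := by
    field_simp
    linear_combination ht
  rw [← Nat.card_congr (centEquiv' hA (t := 2 * (tr A / 2)) (by field_simp)).toEquiv,
    Nat.card_congr (torUnipEquiv he), Nat.card_prod, card_sq_eq_one_odd hodd,
    Nat.card_eq_fintype_card]

/-- A `p`-element normalizing a Sylow `p`-subgroup lies in it. -/
theorem mem_sylow_of_mem_normalizer {G : Type*} [Group G] {p : ℕ} (S : Sylow p G) {g : G}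
    (hg : g ∈ Subgroup.normalizer ((S : Subgroup G) : Set G)) (k : ℕ) (hk : g ^ p ^ k = 1) :
    g ∈ S := by
  have hP : IsPGroup p (Subgroup.zpowers g) := by
    rintro ⟨x, hx⟩
    obtain ⟨j, rfl⟩ := Subgroup.mem_zpowers_iff.mp hx
    refine ⟨k, Subtype.ext ?_⟩
    change (g ^ j) ^ p ^ k = 1
    rw [← zpow_natCast, ← _root_.zpow_mul, mul_comm, _root_.zpow_mul, zpow_natCast, hk, _root_.one_zpow]
  have := hP.inf_normalizer_sylow S
  have h1 : g ∈ Subgroup.zpowers g ⊓ Subgroup.normalizer (S : Set G) :=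
    ⟨Subgroup.mem_zpowers g, hg⟩
  rw [this] at h1
  exact h1.2

/-- Structure of an arbitrary Sylow 2-subgroup of `SL₂(q)`, `q` odd (second form). -/
theorem sylow_two_structure' [Fintype F] (hodd : Odd (Fintype.card F)) (S : Sylow 2 (SL2 F)) :
    ∃ (k m : ℕ) (c w : SL2 F), 1 ≤ k ∧ Odd m ∧ tr c ^ 2 ≠ 4 ∧
      Nat.card (Subgroup.centralizer {c} : Subgroup (SL2 F)) = 2 ^ (k + 1) * m ∧
      orderOf c = 2 ^ (k + 1) ∧ c ^ (2 ^ k) = -1 ∧ w * w = -1 ∧
      w * c * w⁻¹ = c⁻¹ ∧ c ∈ S ∧ w ∈ S ∧ Nat.card S = 2 ^ (k + 2) ∧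
      (∀ H : Subgroup (SL2 F), c ∈ H → w ∈ H → (S : Subgroup (SL2 F)) ≤ H) ∧
      (∀ x ∈ S, x ∈ Subgroup.zpowers c ∨ ∃ y ∈ Subgroup.zpowers c, x = w * y) := by
  obtain ⟨k, m, A, c, w, hk, hm, ht, hC, hcA, hord, hck, hwA, hww, hwc, hwz, hcS, hwS, hcard⟩ :=
    sylow_two_structure hodd S
  have hA := not_mem_center_of_tr ht
  have h2 : (2 : F) ≠ 0 := two_ne_zero_of_odd hodd
  have hc : c ∉ Subgroup.center (SL2 F) := by
    intro h
    have h1 : c * c = 1 := by
      rcases mem_center_iff_eq.mp h with rfl | rfl <;> simp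
    have h3 := orderOf_dvd_of_pow_eq_one (x := c) (n := 2) (by rw [sq]; exact h1)
    rw [hord] at h3
    have h4 : 2 ^ (k + 1) ≤ 2 := Nat.le_of_dvd (by norm_num) h3
    have h5 : 2 ^ 2 ≤ 2 ^ (k + 1) := Nat.pow_le_pow_right (by norm_num) (by omega)
    omega
  have hCc : (Subgroup.centralizer {c} : Subgroup (SL2 F)) = Subgroup.centralizer {A} :=
    centralizer_eq_of_commute hA hc hcA
  have htc : tr c ^ 2 ≠ 4 := by
    intro h
    have h1 := card_centralizer_unip_odd hodd hc h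
    rw [hCc, hC] at h1
    obtain ⟨j, hj⟩ := hodd
    have h5 : 2 ^ (k + 1) = 4 * 2 ^ (k - 1) := by
      rw [show k + 1 = (k - 1) + 2 by omega]; ring
    rw [h5, hj] at h1
    have h6 : 4 * 2 ^ (k - 1) * m = 4 * (2 ^ (k - 1) * m) := by ring
    omega
  have hne : NeZero (2 ^ k) := ⟨by positivity⟩
  have hord' : orderOf c = 2 * 2 ^ k := by rw [hord]; ring
  have hinj := quatHom_injective (2 ^ k) c w hord' (by rw [sq, hww, hck]) hwc hwz
  have hle := quatHom_range_le (2 ^ k) c w (hord' ▸ pow_orderOf_eq_one c) (by rw [sq, hww, hck]) hwc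
  have hr : (quatHom (2 ^ k) c w (hord' ▸ pow_orderOf_eq_one c) (by rw [sq, hww, hck]) hwc).range
      = (S : Subgroup (SL2 F)) := by
    apply Subgroup.eq_of_le_of_card_ge (hle _ hcS hwS)
    rw [← Nat.card_congr (MonoidHom.ofInjective hinj).toEquiv, card_quaternion]
    rw [hcard]
    apply le_of_eq; ring
  refine ⟨k, m, c, w, hk, hm, htc, by rw [hCc, hC], hord, hck, hww, hwc, hcS, hwS, hcard, ?_, ?_⟩
  · intro H hcH hwH
    rw [← hr]
    exact hle H hcH hwH
  · intro x hx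
    have hx' : x ∈ (S : Subgroup (SL2 F)) := hx
    rw [← hr] at hx'
    obtain ⟨(i | i), rfl⟩ := hx'
    · left
      rw [quatHom_a]
      obtain ⟨j, -, hj⟩ := pw_eq_zpow (2 * 2 ^ k) c (hord' ▸ pow_orderOf_eq_one c) i
      rw [hj]; exact Subgroup.zpow_mem_zpowers c j
    · right
      rw [quatHom_xa]
      obtain ⟨j, -, hj⟩ := pw_eq_zpow (2 * 2 ^ k) c (hord' ▸ pow_orderOf_eq_one c) i
      exact ⟨_, by rw [hj]; exact Subgroup.zpow_mem_zpowers c j, rfl⟩

theorem centralizer_sylow_two [Fintype F] (hodd : Odd (Fintype.card F)) (S : Sylow 2 (SL2 F)) :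
    Subgroup.centralizer ((S : Subgroup (SL2 F)) : Set (SL2 F)) = Subgroup.center (SL2 F) := by
  obtain ⟨k, m, c, w, hk, hm, htc, hC, hord, hck, hww, hwc, hcS, hwS, hcard, hgen, hel⟩ :=
    sylow_two_structure' hodd S
  have h2 : (2 : F) ≠ 0 := two_ne_zero_of_odd hodd
  apply le_antisymm
  · intro x hx
    rw [Subgroup.mem_centralizer_iff] at hx
    have h1 : x * c = c * x := (hx c hcS).symm
    have h3 : w * x = x * w := hx w hwS
    have h4 : w * x * w⁻¹ = x⁻¹ := inverts_centralizer (not_mem_center_of_tr htc) hwc h1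
    rw [h3, mul_inv_cancel_right] at h4
    rw [mem_center_iff_eq, ← sq_eq_one_iff' h2]
    nth_rewrite 1 [h4]
    exact inv_mul_cancel x
  · exact Subgroup.center_le_centralizer _

/-- An element of `N(S)` normalizing `⟨c⟩` lies in `S`. -/
theorem mem_sylow_of_conj_eq {S : Sylow 2 (SL2 F)} {c w g : SL2 F} (htc : tr c ^ 2 ≠ 4)
    (hwc : w * c * w⁻¹ = c⁻¹) (hwS : w ∈ S)
    (hg : g ∈ Subgroup.normalizer ((S : Subgroup (SL2 F)) : Set (SL2 F)))
    (hgc : g * c * g⁻¹ = c ∨ g * c * g⁻¹ = c⁻¹) : g ∈ S := by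
  have hcc := not_mem_center_of_tr htc
  -- first the case where g centralizes c
  have key : ∀ g : SL2 F, g ∈ Subgroup.normalizer ((S : Subgroup (SL2 F)) : Set (SL2 F)) →
      g * c * g⁻¹ = c → g ∈ S := by
    intro g hg hgc
    have h1 : g * c = c * g := mul_inv_eq_iff_eq_mul.mp hgc
    have h3 : w * g⁻¹ * w⁻¹ = g := by
      have hc' : Commute g⁻¹ c := (show Commute g c from h1).inv_left
      have := inverts_centralizer hcc hwc (B := g⁻¹) hc'.eq
      rwa [inv_inv] at this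
    have h4 : g * g ∈ S := by
      have h5 : g * w * g⁻¹ ∈ S := (Subgroup.mem_normalizer_iff.mp hg w).mp hwS
      have h6 : g * w * g⁻¹ * w⁻¹ ∈ S := S.mul_mem h5 (S.inv_mem hwS)
      have h7 : g * w * g⁻¹ * w⁻¹ = g * g := by
        calc g * w * g⁻¹ * w⁻¹ = g * (w * g⁻¹ * w⁻¹) := by group
          _ = g * g := by rw [h3]
      rwa [h7] at h6
    obtain ⟨j, hj⟩ := S.isPGroup' ⟨g * g, h4⟩
    have hj' : (g * g) ^ 2 ^ j = 1 := congrArg Subtype.val hj
    apply mem_sylow_of_mem_normalizer S hg (j + 1)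
    rw [pow_succ', pow_mul, sq]
    exact hj'
  rcases hgc with h | h
  · exact key g hg h
  · have hw' : w ∈ Subgroup.normalizer ((S : Subgroup (SL2 F)) : Set (SL2 F)) :=
      Subgroup.le_normalizer hwS
    have h1 : g * w ∈ S := by
      apply key _ (Subgroup.mul_mem _ hg hw')
      calc g * w * c * (g * w)⁻¹ = g * (w * c * w⁻¹) * g⁻¹ := by group
        _ = (g * c * g⁻¹)⁻¹ := by rw [hwc]; group
        _ = c := by rw [h, inv_inv]
    have := S.mul_mem h1 (S.inv_mem hwS)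
    rwa [mul_inv_cancel_right] at this

theorem sq_eq_neg_one_of_mul_zpowers {c w y : SL2 F} (htc : tr c ^ 2 ≠ 4)
    (hwc : w * c * w⁻¹ = c⁻¹) (hy : y ∈ Subgroup.zpowers c) : (w * y) * (w * y) = -1 := by
  apply sq_eq_neg_one_of_inverts htc
  obtain ⟨j, rfl⟩ := Subgroup.mem_zpowers_iff.mp hy
  calc w * c ^ j * c * (w * c ^ j)⁻¹ = w * (c ^ j * c * (c ^ j)⁻¹) * w⁻¹ := by group
    _ = w * c * w⁻¹ := by
        rw [((Commute.refl c).zpow_left j).eq, mul_inv_cancel_right]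
    _ = c⁻¹ := hwc

theorem normalizer_sylow_two_of_sixteen [Fintype F] (hodd : Odd (Fintype.card F))
    (h16 : 16 ∣ Fintype.card F ^ 2 - 1) (S : Sylow 2 (SL2 F)) :
    Subgroup.normalizer ((S : Subgroup (SL2 F)) : Set (SL2 F)) = (S : Subgroup (SL2 F)) := by
  obtain ⟨k, m, c, w, hk, hm, htc, hC, hord, hck, hww, hwc, hcS, hwS, hcard, hgen, hel⟩ :=
    sylow_two_structure' hodd S
  have h2 : (2 : F) ≠ 0 := two_ne_zero_of_odd hodd
  have hk2 : 2 ≤ k := by
    have h1 : 2 ^ 4 ∣ Nat.card (SL2 F) := by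
      rw [Cfsg.Agent.Lib.Helper7SL.card_SL_two]
      exact Dvd.dvd.mul_left h16 _
    have h3 := S.pow_dvd_card_of_pow_dvd_card h1
    rw [hcard] at h3
    have := (Nat.pow_dvd_pow_iff_le_right (by norm_num : 1 < 2)).mp h3
    omega
  apply le_antisymm _ Subgroup.le_normalizer
  intro g hg
  apply mem_sylow_of_conj_eq htc hwc hwS hg
  have h1 : g * c * g⁻¹ ∈ S := (Subgroup.mem_normalizer_iff.mp hg c).mp hcS
  rcases hel _ h1 with h3 | ⟨y, hy, h3⟩
  · obtain ⟨j, hj⟩ := Subgroup.mem_zpowers_iff.mp h3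
    apply eq_or_eq_inv_of_commute htc _ (tr_conj c g)
    rw [← hj]
    exact ((Commute.refl c).zpow_left j).eq
  · exfalso
    have h4 := sq_eq_neg_one_of_mul_zpowers htc hwc hy
    rw [← h3] at h4
    have h5 : c * c = -1 := by
      have : g * (c * c) * g⁻¹ = -1 := by rw [← h4]; group
      have h6 : c * c = g⁻¹ * (-1) * g := by rw [← this]; group
      rw [h6]; simp
    have h6 : c ^ 4 = 1 := by
      rw [show (4 : ℕ) = 2 + 2 from rfl, pow_add, sq, h5]; simp
    have h7 := orderOf_dvd_of_pow_eq_one h6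
    rw [hord] at h7
    have h8 : 2 ^ (k + 1) ≤ 4 := Nat.le_of_dvd (by norm_num) h7
    have h9 : 2 ^ 3 ≤ 2 ^ (k + 1) := Nat.pow_le_pow_right (by norm_num) (by omega)
    omega

end Cfsg.Agent.Lib.Helper41SL2
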