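import Mathlib
import Cfsg.Agent.Lib.Helper41SL2Syl2

set_option autoImplicit false

namespace Cfsg.Agent.Lib.Helper41SL2

open Matrix Cfsg.Agent.Lib.Helper46SL2

variable {F : Type*} [Field F]

local notation "SL2" => Matrix.SpecialLinearGroup (Fin 2)

/-- Upper unitriangular matrices. -/
def uu (b : F) : SL2 F := mk2 1 b 0 1 (by ring)

@[simp] theorem uu_00 (b : F) : uu b 0 0 = 1 := rfl
@[simp] theorem uu_01 (b : F) : uu b 0 1 = b := rfl
@[simp] theorem uu_10 (b : F) : uu b 1 0 = 0 := rfl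
@[simp] theorem uu_11 (b : F) : uu b 1 1 = 1 := rfl

theorem uu_mul (a b : F) : uu a * uu b = uu (a + b) := by
  apply ext2 <;> simp [mul_00, mul_01, mul_10, mul_11, add_comm]

theorem uu_zero : uu (0 : F) = 1 := by
  apply ext2 <;> simp

theorem uu_inj {a b : F} (h : uu a = uu b) : a = b := by
  have : uu a 0 1 = uu b 0 1 := by rw [h]
  simpa using this

/-- The upper unitriangular subgroup. -/
def UU (F : Type*) [Field F] : Subgroup (SL2 F) where
  carrier := {g | g 0 0 = 1 ∧ g 1 0 = 0 ∧ g 1 1 = 1}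
  mul_mem' := by
    rintro a b ⟨a0, a1, a2⟩ ⟨b0, b1, b2⟩
    refine ⟨?_, ?_, ?_⟩
    · rw [mul_00, a0, b0, b1]; ring
    · rw [mul_10, a1, b1]; ring
    · rw [mul_11, a1, a2, b2]; ring
  one_mem' := ⟨one_00, one_10, one_11⟩
  inv_mem' := by
    rintro a ⟨a0, a1, a2⟩
    exact ⟨by rw [inv_00, a2], by rw [inv_10, a1, neg_zero], by rw [inv_11, a0]⟩

theorem mem_UU {g : SL2 F} : g ∈ UU F ↔ g 0 0 = 1 ∧ g 1 0 = 0 ∧ g 1 1 = 1 := Iff.rfl

theorem uu_mem (b : F) : uu b ∈ UU F := ⟨rfl, rfl, rfl⟩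

theorem eq_uu_of_mem {g : SL2 F} (h : g ∈ UU F) : g = uu (g 0 1) := by
  obtain ⟨h0, h1, h2⟩ := h
  apply ext2 <;> simp [h0, h1, h2]

/-- `F ≃ U`. -/
def uuEquiv (F : Type*) [Field F] : F ≃ UU F where
  toFun b := ⟨uu b, uu_mem b⟩
  invFun g := (g : SL2 F) 0 1
  left_inv b := rfl
  right_inv g := Subtype.ext (eq_uu_of_mem g.2).symm

theorem card_UU [Fintype F] : Nat.card (UU F) = Fintype.card F := by
  rw [← Nat.card_congr (uuEquiv F), Nat.card_eq_fintype_card]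

theorem conj_uu_10 (g : SL2 F) (b : F) : (g * uu b * g⁻¹) 1 0 = - (b * g 1 0 ^ 2) := by
  simp only [mul_10, mul_11, inv_00, inv_10, uu_00, uu_01, uu_10, uu_11]
  ring

theorem conj_mem_UU_of_upper {g x : SL2 F} (hg : g 1 0 = 0) (hx : x ∈ UU F) :
    g * x * g⁻¹ ∈ UU F := by
  obtain ⟨h0, h1, h2⟩ := hx
  have hd := det2 g
  rw [hg] at hd
  refine ⟨?_, ?_, ?_⟩
  · simp only [mul_00, mul_01, inv_00, inv_10, h0, h1, h2, hg]
    linear_combination hd
  · simp only [mul_10, mul_11, inv_00, inv_10, h0, h1, h2, hg]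
    ring
  · simp only [mul_10, mul_11, inv_01, inv_11, h0, h1, h2, hg]
    linear_combination hd

theorem mem_normalizer_UU_of_upper {g : SL2 F} (hg : g 1 0 = 0) :
    g ∈ Subgroup.normalizer ((UU F : Subgroup (SL2 F)) : Set (SL2 F)) := by
  rw [Subgroup.mem_normalizer_iff]
  intro x
  constructor
  · exact conj_mem_UU_of_upper hg
  · intro hx
    have h1 : g⁻¹ 1 0 = 0 := by rw [inv_10, hg, neg_zero]
    have := conj_mem_UU_of_upper h1 hx
    have e : g⁻¹ * (g * x * g⁻¹) * g⁻¹⁻¹ = x := by group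
    rwa [e] at this

theorem upper_of_conj_mem_UU {g x : SL2 F} (hx : x ∈ UU F) (hx1 : x ≠ 1)
    (h : g * x * g⁻¹ ∈ UU F) : g 1 0 = 0 := by
  rw [eq_uu_of_mem hx] at h hx1
  have hb : x 0 1 ≠ 0 := by
    intro h0
    rw [h0, uu_zero] at hx1
    exact hx1 rfl
  have h1 := h.2.1
  rw [conj_uu_10] at h1
  have h2 : x 0 1 * g 1 0 ^ 2 = 0 := by linear_combination -h1
  exact pow_eq_zero_iff (two_ne_zero) |>.mp ((mul_eq_zero.mp h2).resolve_left hb)

section sylow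

variable [Fintype F] (p : ℕ) [Fact p.Prime] [CharP F p]

theorem factorization_card_SL2 :
    p ^ (Nat.card (SL2 F)).factorization p = Fintype.card F := by
  obtain ⟨n, -, hn⟩ := FiniteField.card F p
  have hp : p.Prime := Fact.out
  have hq : 1 < Fintype.card F := Fintype.one_lt_card
  rw [Cfsg.Agent.Lib.Helper7SL.card_SL_two, Nat.factorization_mul (by omega)
    (by
      have : 1 < Fintype.card F ^ 2 := Nat.one_lt_pow (by norm_num) hq
      omega)]
  simp only [Finsupp.coe_add, Pi.add_apply]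
  have h1 : (Fintype.card F ^ 2 - 1).factorization p = 0 := by
    apply Nat.factorization_eq_zero_of_not_dvd
    intro h
    have h2 : p ∣ Fintype.card F ^ 2 := by
      rw [hn]
      exact dvd_pow (dvd_pow_self p n.pos.ne') (by norm_num)
    have h3 : p ∣ 1 := by
      have h4 := (Nat.dvd_sub h2 h)
      have h5 : Fintype.card F ^ 2 - (Fintype.card F ^ 2 - 1) = 1 := by
        have : 1 < Fintype.card F ^ 2 := Nat.one_lt_pow (by norm_num) hq
        omega
      rwa [h5] at h4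
    exact hp.one_lt.ne' (Nat.dvd_one.mp h3)
  rw [h1, add_zero, hn, Nat.Prime.factorization_pow hp]
  simp

/-- `U` as a Sylow `p`-subgroup. -/
noncomputable def sylowUU : Sylow p (SL2 F) :=
  Sylow.ofCard (UU F) (by rw [card_UU, factorization_card_SL2])

theorem coe_sylowUU : ((sylowUU p : Sylow p (SL2 F)) : Subgroup (SL2 F)) = UU F := rfl

theorem mem_smul_sylowUU (g x : SL2 F) :
    x ∈ (g • sylowUU p : Sylow p (SL2 F)) ↔ g⁻¹ * x * g ∈ UU F := by
  change x ∈ ((g • sylowUU p : Sylow p (SL2 F)) : Subgroup (SL2 F)) ↔ _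
  rw [Sylow.coe_subgroup_smul, Subgroup.mem_pointwise_smul_iff_inv_smul_mem, coe_sylowUU]
  simp [MulAut.smul_def]

/-- Sylow `p`-subgroups in the defining characteristic are TI. -/
theorem sylow_char_eq_of_mem {P Q : Sylow p (SL2 F)} {x : SL2 F} (hx1 : x ≠ 1) (hxP : x ∈ P)
    (hxQ : x ∈ Q) : P = Q := by
  obtain ⟨g₁, rfl⟩ := MulAction.exists_smul_eq (SL2 F) (sylowUU p) P
  obtain ⟨g₂, rfl⟩ := MulAction.exists_smul_eq (SL2 F) (sylowUU p) Q
  rw [mem_smul_sylowUU] at hxP hxQ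
  have h1 : g₁⁻¹ * x * g₁ ≠ 1 := by
    intro h
    apply hx1
    have : x = g₁ * (g₁⁻¹ * x * g₁) * g₁⁻¹ := by group
    rw [this, h]; group
  have h2 : (g₂⁻¹ * g₁) * (g₁⁻¹ * x * g₁) * (g₂⁻¹ * g₁)⁻¹ ∈ UU F := by
    have : (g₂⁻¹ * g₁) * (g₁⁻¹ * x * g₁) * (g₂⁻¹ * g₁)⁻¹ = g₂⁻¹ * x * g₂ := by group
    rw [this]; exact hxQ
  have h3 := mem_normalizer_UU_of_upper (upper_of_conj_mem_UU hxP h1 h2)
  have h4 : (g₂⁻¹ * g₁) • sylowUU p = (sylowUU p : Sylow p (SL2 F)) :=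
    Sylow.smul_eq_iff_mem_normalizer.mpr h3
  rw [mul_smul, inv_smul_eq_iff] at h4
  exact h4

end sylow

end Cfsg.Agent.Lib.Helper41SL2
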