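import Mathlib
import Cfsg.Agent.Lib.Helper41SL2Unip
import Cfsg.Agent.Lib.Helper41Conj

set_option autoImplicit false

namespace Cfsg.Agent.Lib.Helper41SL2

open Matrix Cfsg.Agent.Lib.Helper46SL2 Cfsg.Agent.Lib.Helper41Conj

variable {F : Type*} [Field F]

local notation "SL2" => Matrix.SpecialLinearGroup (Fin 2)

theorem conj_10_eq_cyc (A P : SL2 F) : (P⁻¹ * A * P) 1 0 = cyc A (P 0 0) (P 1 0) := by
  simp only [mul_10, mul_11, inv_10, inv_11, cyc]
  ring

theorem comp_10 (δ t : F) (hδ : δ ≠ 0) : Helper46SL2.comp δ t hδ 1 0 = δ := rfl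

theorem cyc_comp (δ t : F) (hδ : δ ≠ 0) (x y : F) :
    cyc (Helper46SL2.comp δ t hδ) x y = δ * x ^ 2 + t * x * y + δ⁻¹ * y ^ 2 := by
  simp only [cyc, Helper46SL2.comp, mk2_00, mk2_01, mk2_10, mk2_11]
  ring

theorem isConj_comp_mul_sq (δ t s : F) (hδ : δ ≠ 0) (hs : s ≠ 0) :
    IsConj (Helper46SL2.comp δ t hδ)
      (Helper46SL2.comp (δ * s ^ 2) t (mul_ne_zero hδ (pow_ne_zero 2 hs))) := by
  have hc : cyc (Helper46SL2.comp δ t hδ) s 0 = δ * s ^ 2 := by rw [cyc_comp]; ring
  have hne : cyc (Helper46SL2.comp δ t hδ) s 0 ≠ 0 := by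
    rw [hc]; exact mul_ne_zero hδ (pow_ne_zero 2 hs)
  obtain ⟨P, hP⟩ := conj_comp_of_cyc (Helper46SL2.comp δ t hδ) s 0 hne
  rw [isConj_iff]
  refine ⟨P⁻¹, ?_⟩
  rw [inv_inv, hP]
  exact comp_congr _ _ hc (tr_comp _ _ _)

theorem isConj_comp_iff {δ δ' e : F} (hδ : δ ≠ 0) (hδ' : δ' ≠ 0) (he : e ^ 2 = 1) :
    IsConj (Helper46SL2.comp δ (2 * e) hδ) (Helper46SL2.comp δ' (2 * e) hδ') ↔ IsSquare (δ * δ') := by
  constructor
  · intro h
    obtain ⟨P, hP⟩ := isConj_iff.mp h
    have h1 := conj_10_eq_cyc (Helper46SL2.comp δ (2 * e) hδ) P⁻¹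
    rw [inv_inv, hP, comp_10, cyc_comp] at h1
    refine ⟨δ * P⁻¹ 0 0 + e * P⁻¹ 1 0, ?_⟩
    rw [h1]
    field_simp
    linear_combination (-(P⁻¹ 1 0) ^ 2) * he
  · rintro ⟨s, hs⟩
    have hs0 : s ≠ 0 := by
      rintro rfl
      rw [mul_zero] at hs
      exact (mul_ne_zero hδ hδ') hs
    have h1 := isConj_comp_mul_sq δ (2 * e) (s / δ) hδ (div_ne_zero hs0 hδ)
    have h2 : δ * (s / δ) ^ 2 = δ' := by
      field_simp
      linear_combination -hs
    rwa [comp_congr _ hδ' h2 rfl] at h1

theorem isConj_uu_comp {b : F} (hb : b ≠ 0) :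
    IsConj (uu b) (Helper46SL2.comp (-b) 2 (neg_ne_zero.mpr hb)) := by
  have hc : cyc (uu b) 0 1 = -b := by simp [cyc]
  have hne : cyc (uu b) 0 1 ≠ 0 := by rw [hc]; exact neg_ne_zero.mpr hb
  obtain ⟨P, hP⟩ := conj_comp_of_cyc (uu b) 0 1 hne
  rw [isConj_iff]
  refine ⟨P⁻¹, ?_⟩
  rw [inv_inv, hP]
  exact comp_congr _ _ hc (by simp [tr]; norm_num)

theorem isConj_uu_iff {b b' : F} (hb : b ≠ 0) (hb' : b' ≠ 0) :
    IsConj (uu b) (uu b') ↔ IsSquare (b * b') := by
  have h1 := isConj_uu_comp hb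
  have h2 := isConj_uu_comp hb'
  have h3 := isConj_comp_iff (e := 1) (neg_ne_zero.mpr hb) (neg_ne_zero.mpr hb') (one_pow 2)
  rw [neg_mul_neg] at h3
  rw [← h3]
  simp only [mul_one]
  constructor
  · intro h
    exact h1.symm.trans (h.trans h2)
  · intro h
    exact h1.trans (h.trans h2.symm)

section finite

variable [Fintype F]

theorem isSquare_mul_of_not_isSquare {a b : F} (ha : ¬ IsSquare a) (hb : ¬ IsSquare b) :
    IsSquare (a * b) := by
  classical
  have ha0 : a ≠ 0 := by rintro rfl; exact ha IsSquare.zero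
  have hb0 : b ≠ 0 := by rintro rfl; exact hb IsSquare.zero
  rw [← quadraticChar_one_iff_isSquare (mul_ne_zero ha0 hb0), map_mul,
    quadraticChar_neg_one_iff_not_isSquare.mpr ha, quadraticChar_neg_one_iff_not_isSquare.mpr hb]
  norm_num

theorem ringChar_ne_two_of_odd (hodd : Odd (Fintype.card F)) : ringChar F ≠ 2 := by
  intro h
  have := FiniteField.even_card_of_char_two h
  rw [Nat.odd_iff] at hodd
  omega

/-- Representatives of the conjugacy classes of `SL₂(q)`, `q` odd. -/
noncomputable def rep (ν : F) (hν : ν ≠ 0) : F ⊕ (Bool × Bool) → SL2 F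
  | Sum.inl t => Helper46SL2.comp 1 t one_ne_zero
  | Sum.inr (true, true) => 1
  | Sum.inr (false, true) => -1
  | Sum.inr (true, false) => Helper46SL2.comp ν 2 hν
  | Sum.inr (false, false) => Helper46SL2.comp ν (-2) hν

omit [Fintype F] in
theorem comp_not_mem_center (δ t : F) (hδ : δ ≠ 0) :
    Helper46SL2.comp δ t hδ ∉ Subgroup.center (SL2 F) := by
  rw [mem_center_iff]
  rintro ⟨-, h, -⟩
  exact hδ h

theorem isConj_comp_cases {ν : F} (hν : ¬ IsSquare ν) (hν0 : ν ≠ 0) {δ e : F} (hδ : δ ≠ 0)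
    (he : e ^ 2 = 1) :
    IsConj (Helper46SL2.comp δ (2 * e) hδ) (Helper46SL2.comp 1 (2 * e) one_ne_zero) ∨
    IsConj (Helper46SL2.comp δ (2 * e) hδ) (Helper46SL2.comp ν (2 * e) hν0) := by
  by_cases hs : IsSquare δ
  · left
    rw [isConj_comp_iff hδ one_ne_zero he, mul_one]; exact hs
  · right
    rw [isConj_comp_iff hδ hν0 he]
    exact isSquare_mul_of_not_isSquare hs hν

theorem card_conjClasses_odd (hodd : Odd (Fintype.card F)) :
    Nat.card (ConjClasses (SL2 F)) = Fintype.card F + 4 := by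
  classical
  have h2 : (2 : F) ≠ 0 := two_ne_zero_of_odd hodd
  obtain ⟨ν, hν⟩ := FiniteField.exists_nonsquare (ringChar_ne_two_of_odd hodd)
  have hν0 : ν ≠ 0 := by rintro rfl; exact hν IsSquare.zero
  have h22 : (2 : F) ≠ -2 := by
    intro h
    apply h2
    have : (2 : F) * 2 = 0 := by linear_combination h
    exact (mul_eq_zero.mp this).elim id id
  have hcard : Nat.card (F ⊕ (Bool × Bool)) = Fintype.card F + 4 := by
    rw [Nat.card_eq_fintype_card, Fintype.card_sum, Fintype.card_prod, Fintype.card_bool]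
  rw [← hcard]
  symm
  apply Nat.card_congr
  refine Equiv.ofBijective (fun x => ConjClasses.mk (rep ν hν0 x)) ⟨?_, ?_⟩
  · -- injectivity
    intro x y hxy
    have hc : IsConj (rep ν hν0 x) (rep ν hν0 y) := ConjClasses.mk_eq_mk_iff_isConj.mp hxy
    have htr := tr_of_isConj hc
    have hcen : rep ν hν0 x ∈ Subgroup.center (SL2 F) ↔ rep ν hν0 y ∈ Subgroup.center (SL2 F) := by
      obtain ⟨g, hg⟩ := isConj_iff.mp hc
      rw [← hg]
      constructor
      · intro h
        exact (inferInstance : (Subgroup.center (SL2 F)).Normal).conj_mem _ h g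
      · intro h
        have := (inferInstance : (Subgroup.center (SL2 F)).Normal).conj_mem _ h g⁻¹
        have e : g⁻¹ * (g * rep ν hν0 x * g⁻¹) * g⁻¹⁻¹ = rep ν hν0 x := by group
        rwa [e] at this
    have hone : (1 : SL2 F) ∈ Subgroup.center (SL2 F) := Subgroup.one_mem _
    have hneg : (-1 : SL2 F) ∈ Subgroup.center (SL2 F) := mem_center_iff_eq.mpr (Or.inr rfl)
    have hnsq : ∀ e : F, e ^ 2 = 1 → ¬ IsConj (Helper46SL2.comp 1 (2 * e) one_ne_zero)
        (Helper46SL2.comp ν (2 * e) hν0) := by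
      intro e he h
      rw [isConj_comp_iff one_ne_zero hν0 he, one_mul] at h
      exact hν h
    have hn1 := hnsq 1 (one_pow 2)
    have hn2 := hnsq (-1) (by ring)
    rw [mul_one] at hn1
    rw [mul_neg, mul_one] at hn2
    rcases x with t | ⟨_ | _, _ | _⟩ <;> rcases y with t' | ⟨_ | _, _ | _⟩ <;>
      simp only [rep, tr_comp, tr_one, tr_neg, comp_not_mem_center, hone, hneg, iff_true, iff_false,
        not_true] at htr hcen hc ⊢
    all_goals first
      | rfl
      | exact absurd htr h22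
      | exact absurd htr.symm h22
      | (subst htr; exact absurd hc hn1)
      | (subst htr; exact absurd hc hn2)
      | (subst htr; exact absurd hc.symm hn1)
      | (subst htr; exact absurd hc.symm hn2)
      | (rw [htr])
  · -- surjectivity
    intro c
    obtain ⟨A, rfl⟩ := ConjClasses.mk_surjective c
    by_cases hA : A ∈ Subgroup.center (SL2 F)
    · rcases mem_center_iff_eq.mp hA with rfl | rfl
      · exact ⟨Sum.inr (true, true), rfl⟩
      · exact ⟨Sum.inr (false, true), rfl⟩
    · by_cases ht : tr A ^ 2 = 4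
      · obtain ⟨δ, hδ, P, hP⟩ := exists_conj_comp hA
        have hAc : IsConj A (Helper46SL2.comp δ (tr A) hδ) := by
          rw [isConj_iff]; exact ⟨P⁻¹, by rw [inv_inv]; exact hP⟩
        have h4 : (tr A - 2) * (tr A + 2) = 0 := by linear_combination ht
        rcases mul_eq_zero.mp h4 with h | h
        · have ht2 : tr A = 2 * 1 := by linear_combination h
          rw [comp_congr hδ hδ rfl ht2] at hAc
          rcases isConj_comp_cases hν hν0 hδ (one_pow 2) with h5 | h5
          · refine ⟨Sum.inl 2, ?_⟩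
            apply ConjClasses.mk_eq_mk_iff_isConj.mpr
            have := (hAc.trans h5).symm
            simpa [rep] using this
          · refine ⟨Sum.inr (true, false), ?_⟩
            apply ConjClasses.mk_eq_mk_iff_isConj.mpr
            have := (hAc.trans h5).symm
            simpa [rep] using this
        · have ht2 : tr A = 2 * (-1) := by linear_combination h
          rw [comp_congr hδ hδ rfl ht2] at hAc
          rcases isConj_comp_cases hν hν0 hδ (show (-1 : F) ^ 2 = 1 by ring) with h5 | h5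
          · refine ⟨Sum.inl (-2), ?_⟩
            apply ConjClasses.mk_eq_mk_iff_isConj.mpr
            have := (hAc.trans h5).symm
            simpa [rep] using this
          · refine ⟨Sum.inr (false, false), ?_⟩
            apply ConjClasses.mk_eq_mk_iff_isConj.mpr
            have := (hAc.trans h5).symm
            simpa [rep] using this
      · refine ⟨Sum.inl (tr A), ?_⟩
        apply ConjClasses.mk_eq_mk_iff_isConj.mpr
        have h5 : tr (rep ν hν0 (Sum.inl (tr A))) = tr A := tr_comp 1 (tr A) one_ne_zero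
        exact isConj_of_tr_eq h5 (by rw [h5]; exact ht)

end finite

end Cfsg.Agent.Lib.Helper41SL2
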