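import Mathlib
import Cfsg.Agent.Lib.Helper41SL2ClassOdd

set_option autoImplicit false

namespace Cfsg.Agent.Lib.Helper41SL2

open Matrix Cfsg.Agent.Lib.Helper46SL2 Cfsg.Agent.Lib.Helper41Conj

variable {F : Type*} [Field F]

local notation "SL2" => Matrix.SpecialLinearGroup (Fin 2)

theorem uu_pow (b : F) (n : ℕ) : uu b ^ n = uu (n * b) := by
  induction n with
  | zero => simp [uu_zero]
  | succ k ih => rw [pow_succ, ih, uu_mul]; congr 1; push_cast; ring

theorem uu_ne_one {b : F} (hb : b ≠ 0) : uu b ≠ 1 := by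
  intro h
  rw [← uu_zero] at h
  exact hb (uu_inj h)

theorem orderOf_uu (p : ℕ) [Fact p.Prime] [CharP F p] {b : F} (hb : b ≠ 0) : orderOf (uu b) = p := by
  apply orderOf_eq_prime
  · rw [uu_pow, CharP.cast_eq_zero, zero_mul, uu_zero]
  · exact uu_ne_one hb

/-- Non-central elements of trace `2` are conjugate to upper unitriangular matrices. -/
theorem exists_isConj_uu {A : SL2 F} (hA : A ∉ Subgroup.center (SL2 F)) (ht : tr A = 2) :
    ∃ b : F, b ≠ 0 ∧ IsConj A (uu b) := by
  obtain ⟨δ, hδ, P, hP⟩ := exists_conj_comp hA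
  refine ⟨-δ, neg_ne_zero.mpr hδ, ?_⟩
  have h1 : IsConj A (Helper46SL2.comp δ (tr A) hδ) := by
    rw [isConj_iff]; exact ⟨P⁻¹, by rw [inv_inv]; exact hP⟩
  have h2 := isConj_uu_comp (neg_ne_zero.mpr hδ)
  rw [comp_congr _ hδ (neg_neg δ) ht.symm] at h2
  exact h1.trans h2.symm

theorem eq_one_of_pow_char_eq_one {K : Type*} [Field K] (p : ℕ) [Fact p.Prime] [CharP K p] {a : K}
    (n : ℕ) (h : a ^ p ^ n = 1) : a = 1 := by
  have h1 : (a - 1) ^ p ^ n = 0 := by rw [sub_pow_char_pow, h, one_pow, sub_self]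
  have := pow_eq_zero_iff (pow_ne_zero n (Fact.out : p.Prime).ne_zero) |>.mp h1
  linear_combination this

theorem tr_sq_eq_four_of_pow_char [Fintype F] (p : ℕ) [Fact p.Prime] [CharP F p] {g : SL2 F} (n : ℕ)
    (h : g ^ p ^ n = 1) : tr g ^ 2 = 4 := by
  rcases eigen_cases (tr g) with ⟨a, ha0, ha⟩ | ⟨l, hl0, hl, -, hl2, -⟩
  · by_cases ha2 : a ^ 2 = 1
    · rw [← ha]
      have : a⁻¹ = a := by field_simp; exact ha2.symm
      rw [this]
      linear_combination 4 * ha2
    · exfalso
      have h1 := (pow_eq_one_iff_of_eigen (RingHom.id F) g a ha0 ha2 ha.symm (p ^ n)).mp h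
      apply ha2
      rw [eq_one_of_pow_char_eq_one p n h1, one_pow]
  · exfalso
    have : CharP (AlgebraicClosure F) p :=
      charP_of_injective_algebraMap (algebraMap F (AlgebraicClosure F)).injective p
    have h1 := (pow_eq_one_iff_of_eigen (algebraMap F (AlgebraicClosure F)) g l hl0 hl2 hl.symm
      (p ^ n)).mp h
    apply hl2
    rw [eq_one_of_pow_char_eq_one p n h1, one_pow]

theorem neg_one_pow_odd_SL2 {n : ℕ} (hn : Odd n) : (-1 : SL2 F) ^ n = -1 := hn.neg_one_pow

/-- `p`-elements are unipotent (trace `2`). -/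
theorem tr_eq_two_of_pow_char [Fintype F] (p : ℕ) [Fact p.Prime] [CharP F p] {g : SL2 F} (n : ℕ)
    (h : g ^ p ^ n = 1) : tr g = 2 := by
  have h4 := tr_sq_eq_four_of_pow_char p n h
  have h5 : (tr g - 2) * (tr g + 2) = 0 := by linear_combination h4
  rcases mul_eq_zero.mp h5 with h6 | h6
  · linear_combination h6
  · -- tr g = -2
    by_cases hp2 : p = 2
    · subst hp2
      have : (2 : F) = 0 := CharTwo.two_eq_zero
      linear_combination h6 - 2 * this
    exfalso
    have hodd : Odd (p ^ n) := Odd.pow ((Nat.Prime.eq_two_or_odd' Fact.out).resolve_left hp2)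
    have h2 : (2 : F) ≠ 0 := by
      intro h2
      have : ((2 : ℕ) : F) = 0 := by exact_mod_cast h2
      rw [CharP.cast_eq_zero_iff F p] at this
      exact hp2 ((Nat.prime_dvd_prime_iff_eq Fact.out Nat.prime_two).mp this)
    have hne : (-1 : SL2 F) ≠ 1 := by
      intro h7
      have h8 : (-1 : SL2 F) 0 0 = (1 : SL2 F) 0 0 := by rw [h7]
      rw [Helper46SL2.neg_apply, one_00] at h8
      apply h2
      linear_combination -h8
    have htn : tr (-g) = 2 := by rw [tr_neg]; linear_combination -h6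
    have hpow : (-g) ^ p ^ n = -1 := by
      rw [hodd.neg_pow, h]
    have h22 : (2 : F) ≠ -2 := by
      intro h7
      apply h2
      have : (2 : F) * 2 = 0 := by linear_combination h7
      exact (mul_eq_zero.mp this).elim id id
    have hN : ((p ^ n : ℕ) : F) = 0 := by
      rcases Nat.eq_zero_or_pos n with rfl | hn
      · exfalso
        rw [pow_zero, pow_one] at h
        rw [h, tr_one] at h6
        apply h22
        linear_combination h6
      · rw [CharP.cast_eq_zero_iff F p]
        exact dvd_pow_self p (by omega)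
    have hone : (-g) ^ p ^ n = 1 := by
      by_cases hc : -g ∈ Subgroup.center (SL2 F)
      · rcases mem_center_iff_eq.mp hc with h7 | h7
        · rw [h7, one_pow]
        · exfalso
          rw [h7, tr_neg, tr_one] at htn
          exact h22 htn.symm
      · obtain ⟨b, -, hb⟩ := exists_isConj_uu hc htn
        obtain ⟨c, hc'⟩ := isConj_iff.mp hb
        have h8 : c * (-g) ^ p ^ n * c⁻¹ = 1 := by
          rw [← conj_pow, hc', uu_pow, hN, zero_mul, uu_zero]
        have h9 : (-g) ^ p ^ n = c⁻¹ * (c * (-g) ^ p ^ n * c⁻¹) * c := by group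
        rw [h9, h8]; group
    rw [hone] at hpow
    exact hne hpow.symm

end Cfsg.Agent.Lib.Helper41SL2
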