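import Mathlib
import Cfsg.Agent.Lib.Helper41Dk1
import Cfsg.Agent.Lib.Helper41SL2Syl2
import Cfsg.Agent.Lib.Helper41SL2Unip2
import Cfsg.Agent.Lib.Helper41SL2Even

/-!
# Dickson, part 2: semisimple classes in a subgroup of `SL₂(q)`
-/

set_option autoImplicit false

namespace Cfsg.Agent.Lib.Helper41Dk

open Matrix Cfsg.Agent.Lib.Helper46SL2 Cfsg.Agent.Lib.Helper41SL2

variable {F : Type*} [Field F]

local notation "SL2" => Matrix.SpecialLinearGroup (Fin 2)

theorem ct_SL2 : CT (SL2 F) := fun _ _ _ hx hy hz => commute_of_mem_centralizer hx hy hz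

/-- the order of the centre -/
noncomputable def ee (F : Type*) [Field F] : ℕ := Nat.card (Subgroup.center (SL2 F))

theorem ee_pos [Finite F] : 0 < ee F := Nat.card_pos

/-- `|C_G(x)| = e a` with `a ≥ 2`. -/
theorem exists_card_AA [Finite F] {G : Subgroup (SL2 F)} (hZ : Subgroup.center (SL2 F) ≤ G)
    {x : SL2 F} (hx : x ∈ G) (hxZ : x ∉ Subgroup.center (SL2 F)) :
    ∃ a : ℕ, 2 ≤ a ∧ Nat.card (AA G x) = ee F * a := by
  obtain ⟨a, ha⟩ := Subgroup.card_dvd_of_le (center_le_AA hZ x)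
  refine ⟨a, ?_, ha⟩
  have hpos : 0 < Nat.card (AA G x) := Nat.card_pos
  have hepos : 0 < Nat.card (Subgroup.center (SL2 F)) := Nat.card_pos
  by_contra hlt
  have ha1 : a = 1 := by
    have : a ≠ 0 := by rintro rfl; simp at ha; omega
    omega
  rw [ha1, mul_one] at ha
  have := Subgroup.eq_of_le_of_card_ge (center_le_AA hZ x) ha.le
  apply hxZ
  rw [this]
  exact mem_AA.mpr ⟨Commute.refl x, hx⟩

theorem isCyclic_AA [Finite F] (G : Subgroup (SL2 F)) {x : SL2 F} (ht : tr x ^ 2 ≠ 4) :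
    IsCyclic (AA G x) := by
  have := isCyclic_centralizer ht
  exact Subgroup.isCyclic_of_le (inf_le_left : AA G x ≤ Subgroup.centralizer {x})

/-- the normalizer of a semisimple class -/
theorem card_NN_ss [Finite F] (G : Subgroup (SL2 F)) {x : SL2 F} (ht : tr x ^ 2 ≠ 4) :
    NN G x = AA G x ∨
      (Nat.card (NN G x) = 2 * Nat.card (AA G x) ∧ ∃ y ∈ G, y * x * y⁻¹ = x⁻¹) := by
  by_cases h : ∃ y ∈ G, y * x * y⁻¹ = x⁻¹
  · right
    refine ⟨?_, h⟩
    obtain ⟨w, hwG, hw⟩ := h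
    have h2 : (AA G x).relIndex (NN G x) = 2 := by
      rw [Subgroup.relIndex_eq_two_iff]
      refine ⟨w, ⟨(mem_normalizer_centralizer_iff ht).mpr (Or.inr hw), hwG⟩, ?_⟩
      intro b hb
      have hne := ne_inv_of_tr ht
      have conj_eq : ∀ z : SL2 F, z ∈ G → (z ∈ AA G x ↔ z * x * z⁻¹ = x) := by
        intro z hz
        rw [mem_AA, mul_inv_eq_iff_eq_mul]
        exact ⟨fun h => h.1, fun h => ⟨h, hz⟩⟩
      have hbw : b * w * x * (b * w)⁻¹ = b * x⁻¹ * b⁻¹ := by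
        rw [← hw]; group
      rw [conj_eq _ (mul_mem hb.2 hwG), conj_eq _ hb.2, hbw, ← conj_inv]
      rcases (mem_normalizer_centralizer_iff ht).mp hb.1 with h | h
      · rw [h]
        exact Or.inr ⟨rfl, fun h' => hne h'.symm⟩
      · rw [h, inv_inv]
        exact Or.inl ⟨rfl, fun h' => hne h'.symm⟩
    have h3 := Subgroup.relIndex_mul_relIndex ⊥ _ _ bot_le (AA_le_NN G x)
    rw [h2, Subgroup.relIndex_bot_left, Subgroup.relIndex_bot_left] at h3
    rw [← h3, mul_comm]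
  · left
    apply le_antisymm _ (AA_le_NN G x)
    intro g hg
    rcases (mem_normalizer_centralizer_iff ht).mp hg.1 with h1 | h1
    · exact mem_AA.mpr ⟨mul_inv_eq_iff_eq_mul.mp h1, hg.2⟩
    · exact absurd ⟨g, hg.2, h1⟩ h

/-- masses of the semisimple classes -/
theorem mass_ss [Finite F] {G : Subgroup (SL2 F)} (hZ : Subgroup.center (SL2 F) ≤ G)
    {x : SL2 F} (hx : x ∈ G) (ht : tr x ^ 2 ≠ 4) :
    ∃ a : ℕ, 2 ≤ a ∧ Nat.card (AA G x) = ee F * a ∧
      ((NN G x = AA G x ∧ mass G x = 1 - 1 / (a : ℚ)) ∨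
        (Nat.card (NN G x) = 2 * Nat.card (AA G x) ∧ (∃ y ∈ G, y * x * y⁻¹ = x⁻¹) ∧
          mass G x = (1 - 1 / (a : ℚ)) / 2)) := by
  obtain ⟨a, ha2, ha⟩ := exists_card_AA hZ hx (not_mem_center_of_tr ht)
  refine ⟨a, ha2, ha, ?_⟩
  have he : (ee F : ℚ) ≠ 0 := by
    have := ee_pos (F := F)
    positivity
  have ha0 : (a : ℚ) ≠ 0 := by positivity
  rcases card_NN_ss G ht with h | ⟨h, hy⟩
  · left
    refine ⟨h, ?_⟩
    rw [mass, h, ha]
    change ((ee F * a : ℕ) - (ee F : ℚ)) / (ee F * a : ℕ) = _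
    push_cast
    field_simp
  · right
    refine ⟨h, hy, ?_⟩
    rw [mass, h, ha]
    change ((ee F * a : ℕ) - (ee F : ℚ)) / (2 * (ee F * a) : ℕ) = _
    push_cast
    field_simp

end Cfsg.Agent.Lib.Helper41Dk
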