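import Mathlib
import Cfsg.Agent.Lib.Helper41Dk2

/-!
# Dickson, part 3: the unipotent class in a subgroup of `SL₂(q)` containing `uu b₀`
-/

set_option autoImplicit false

namespace Cfsg.Agent.Lib.Helper41Dk

open Matrix Cfsg.Agent.Lib.Helper46SL2 Cfsg.Agent.Lib.Helper41SL2

variable {F : Type*} [Field F]

local notation "SL2" => Matrix.SpecialLinearGroup (Fin 2)

/-- The Borel subgroup of upper triangular matrices. -/
def Bor (F : Type*) [Field F] : Subgroup (SL2 F) where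
  carrier := {g | g 1 0 = 0}
  mul_mem' := by
    intro a b ha hb
    change (a * b) 1 0 = 0
    have ha' : a 1 0 = 0 := ha
    have hb' : b 1 0 = 0 := hb
    rw [mul_10, ha', hb']; ring
  one_mem' := one_10
  inv_mem' := by
    intro a ha
    change (a⁻¹) 1 0 = 0
    have ha' : a 1 0 = 0 := ha
    rw [inv_10, ha', neg_zero]

theorem mem_Bor {g : SL2 F} : g ∈ Bor F ↔ g 1 0 = 0 := Iff.rfl

/-- unipotent part of `G` -/
def QQ (G : Subgroup (SL2 F)) : Subgroup (SL2 F) := UU F ⊓ G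

/-- Borel part of `G` -/
def BB (G : Subgroup (SL2 F)) : Subgroup (SL2 F) := Bor F ⊓ G

theorem commute_uu_iff {b : F} (hb : b ≠ 0) {z : SL2 F} :
    Commute z (uu b) ↔ z 1 0 = 0 ∧ z 0 0 = z 1 1 := by
  constructor
  · intro h
    have h' : z * uu b = uu b * z := h
    have e00 : (z * uu b) 0 0 = (uu b * z) 0 0 := by rw [h']
    have e01 : (z * uu b) 0 1 = (uu b * z) 0 1 := by rw [h']
    simp only [mul_00, mul_01, uu_00, uu_01, uu_10, uu_11] at e00 e01
    have h10 : z 1 0 = 0 := by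
      have : b * z 1 0 = 0 := by linear_combination -e00
      exact (mul_eq_zero.mp this).resolve_left hb
    refine ⟨h10, ?_⟩
    have : b * (z 0 0 - z 1 1) = 0 := by linear_combination e01
    have := (mul_eq_zero.mp this).resolve_left hb
    linear_combination this
  · rintro ⟨h10, h⟩
    show z * uu b = uu b * z
    apply ext2 <;> simp only [mul_00, mul_01, mul_10, mul_11, uu_00, uu_01, uu_10, uu_11, h10, h] <;>
      ring

theorem uu_not_mem_center {b : F} (hb : b ≠ 0) : uu b ∉ Subgroup.center (SL2 F) := by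
  rw [mem_center_iff]
  rintro ⟨h, -, -⟩
  exact hb h

theorem NN_uu (G : Subgroup (SL2 F)) {b : F} (hb : b ≠ 0) : NN G (uu b) = BB G := by
  ext g
  rw [mem_NN ct_SL2 (uu_not_mem_center hb), BB, Subgroup.mem_inf, mem_Bor, commute_uu_iff hb]
  constructor
  · rintro ⟨⟨h1, -⟩, h2⟩
    refine ⟨?_, h2⟩
    rw [conj_uu_10] at h1
    have : b * g 1 0 ^ 2 = 0 := by linear_combination -h1
    exact pow_eq_zero_iff (two_ne_zero) |>.mp ((mul_eq_zero.mp this).resolve_left hb)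
  · rintro ⟨h1, h2⟩
    have := conj_mem_UU_of_upper h1 (uu_mem b)
    exact ⟨⟨this.2.1, this.1.trans this.2.2.symm⟩, h2⟩

theorem mem_AA_uu {G : Subgroup (SL2 F)} {b : F} (hb : b ≠ 0) {z : SL2 F} :
    z ∈ AA G (uu b) ↔ (z 1 0 = 0 ∧ z 0 0 = z 1 1) ∧ z ∈ G := by
  rw [mem_AA, commute_uu_iff hb]

theorem eq_one_of_mem_center_of_mem_UU {z : SL2 F} (h1 : z ∈ Subgroup.center (SL2 F))
    (h2 : z ∈ UU F) : z = 1 := by
  rw [eq_uu_of_mem h2, (mem_center_iff.mp h1).1, uu_zero]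

theorem card_AA_uu [Finite F] {G : Subgroup (SL2 F)} (hZ : Subgroup.center (SL2 F) ≤ G) {b : F}
    (hb : b ≠ 0) : Nat.card (AA G (uu b)) = ee F * Nat.card (QQ G) := by
  rw [ee, ← Nat.card_prod]
  symm
  let φ : (Subgroup.center (SL2 F)) × (QQ G) → AA G (uu b) := fun x =>
    ⟨x.1.1 * x.2.1, by
      obtain ⟨h01, h10, h⟩ := mem_center_iff.mp x.1.2
      obtain ⟨⟨u0, u1, u2⟩, hG⟩ := x.2.2
      rw [mem_AA_uu hb]
      refine ⟨⟨?_, ?_⟩, mul_mem (hZ x.1.2) hG⟩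
      · rw [mul_10, h10, u1]; ring
      · rw [mul_00, mul_11, h10, u1, u0, u2, h]; ring⟩
  apply Nat.card_congr (Equiv.ofBijective φ ⟨?_, ?_⟩)
  · rintro ⟨ζ, u⟩ ⟨ζ', u'⟩ h
    have h1 : ζ.1 * u.1 = ζ'.1 * u'.1 := congrArg Subtype.val h
    have h2 : ζ'.1⁻¹ * ζ.1 = u'.1 * u.1⁻¹ := by
      rw [eq_mul_inv_iff_mul_eq, mul_assoc, h1]; group
    have h3 : ζ'.1⁻¹ * ζ.1 = 1 := by
      apply eq_one_of_mem_center_of_mem_UU (mul_mem (inv_mem ζ'.2) ζ.2)
      rw [h2]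
      exact mul_mem u'.2.1 (inv_mem u.2.1)
    have h4 : ζ.1 = ζ'.1 := by
      have := inv_mul_eq_one.mp h3
      exact this.symm
    have h5 : u.1 = u'.1 := by
      rw [h4] at h1
      exact mul_left_cancel h1
    exact Prod.ext (Subtype.ext h4) (Subtype.ext h5)
  · rintro ⟨z, hz⟩
    obtain ⟨⟨h10, h⟩, hG⟩ := (mem_AA_uu hb).mp hz
    have hd := det2 z
    rw [h10, ← h] at hd
    have h0 : (z 0 0 - 1) * (z 0 0 + 1) = 0 := by linear_combination hd
    rcases mul_eq_zero.mp h0 with h1 | h1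
    · have h00 : z 0 0 = 1 := by linear_combination h1
      refine ⟨(1, ⟨z, ⟨h00, h10, by rw [← h, h00]⟩, hG⟩), ?_⟩
      apply Subtype.ext
      simp [φ]
    · have h00 : z 0 0 = -1 := by linear_combination h1
      have hneg : (-1 : SL2 F) ∈ Subgroup.center (SL2 F) := mem_center_iff_eq.mpr (Or.inr rfl)
      refine ⟨(⟨-1, hneg⟩, ⟨-z, ⟨?_, ?_, ?_⟩, ?_⟩), ?_⟩
      · rw [Helper46SL2.neg_apply, h00]; ring
      · rw [Helper46SL2.neg_apply, h10]; ring
      · rw [Helper46SL2.neg_apply, ← h, h00]; ring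
      · have : -z = (-1 : SL2 F) * z := by simp
        rw [this]
        exact mul_mem (hZ hneg) hG
      · apply Subtype.ext
        simp [φ]

theorem diag_of_mem_Bor {g : SL2 F} (hg : g ∈ Bor F) : g 0 0 * g 1 1 = 1 := by
  have hd := det2 g
  rw [mem_Bor.mp hg] at hd
  linear_combination hd

/-- diagonal character on `BB G` -/
def dlt (G : Subgroup (SL2 F)) : ↥(BB G) →* Fˣ where
  toFun g := ⟨g.1 0 0, g.1 1 1, diag_of_mem_Bor g.2.1, by
    rw [mul_comm]; exact diag_of_mem_Bor g.2.1⟩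
  map_one' := Units.ext one_00
  map_mul' a b := Units.ext (by
    change (a.1 * b.1) 0 0 = a.1 0 0 * b.1 0 0
    rw [mul_00, mem_Bor.mp b.2.1]; ring)

theorem dlt_coe (G : Subgroup (SL2 F)) (g : ↥(BB G)) : ((dlt G g : Fˣ) : F) = g.1 0 0 := rfl

theorem QQ_le_BB (G : Subgroup (SL2 F)) : QQ G ≤ BB G :=
  inf_le_inf_right _ (fun _ hg => hg.2.1)

theorem card_ker_dlt (G : Subgroup (SL2 F)) : Nat.card (dlt G).ker = Nat.card (QQ G) := by
  apply Nat.card_congr
  refine ⟨fun g => ⟨g.1.1, ⟨?_, mem_Bor.mp g.1.2.1, ?_⟩, g.1.2.2⟩,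
    fun u => ⟨⟨u.1, QQ_le_BB G u.2⟩, ?_⟩, fun g => rfl, fun u => rfl⟩
  · have := g.2
    rw [MonoidHom.mem_ker] at this
    have h2 := congrArg (fun x : Fˣ => (x : F)) this
    simpa [dlt_coe] using h2
  · have := g.2
    rw [MonoidHom.mem_ker] at this
    have h2 := congrArg (fun x : Fˣ => (x : F)) this
    have h3 : g.1.1 0 0 = 1 := by simpa [dlt_coe] using h2
    have h4 := diag_of_mem_Bor g.1.2.1
    rw [h3, one_mul] at h4
    exact h4
  · rw [MonoidHom.mem_ker]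
    apply Units.ext
    rw [dlt_coe]
    exact u.2.1.1

theorem card_BB [Finite F] (G : Subgroup (SL2 F)) :
    Nat.card (BB G) = Nat.card (QQ G) * Nat.card (dlt G).range := by
  rw [← (dlt G).ker.card_mul_index, Subgroup.index_ker, card_ker_dlt]

theorem AA_uu_le_BB (G : Subgroup (SL2 F)) {b : F} (hb : b ≠ 0) : AA G (uu b) ≤ BB G := by
  rw [← NN_uu G hb]; exact AA_le_NN G _

theorem AA_eq_of_le {G B : Subgroup (SL2 F)} (hBG : B ≤ G) {y : SL2 F} (h : AA G y ≤ B) :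
    AA B y = AA G y := by
  apply le_antisymm
  · exact inf_le_inf_left _ hBG
  · intro z hz
    exact ⟨hz.1, h hz⟩

theorem BB_le (G : Subgroup (SL2 F)) : BB G ≤ G := inf_le_right

theorem QQ_le (G : Subgroup (SL2 F)) : QQ G ≤ G := inf_le_right

theorem card_QQ_dvd [Fintype F] (G : Subgroup (SL2 F)) : Nat.card (QQ G) ∣ Fintype.card F := by
  rw [← card_UU]
  exact Subgroup.card_dvd_of_le inf_le_left

/-- The numerical invariants of the Borel part. -/
theorem exists_k [Fintype F] {G : Subgroup (SL2 F)} (hZ : Subgroup.center (SL2 F) ≤ G) {b : F}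
    (hb : b ≠ 0) (hbG : uu b ∈ G) :
    ∃ k : ℕ, 1 ≤ k ∧ Nat.card (BB G) = ee F * Nat.card (QQ G) * k ∧
      Nat.card (dlt G).range = ee F * k ∧ k + 1 ≤ Nat.card (QQ G) ∧
      Nat.Coprime k (Nat.card (QQ G)) := by
  obtain ⟨k, hk⟩ := Subgroup.card_dvd_of_le (AA_uu_le_BB G hb)
  rw [card_AA_uu hZ hb] at hk
  have hBpos : 0 < Nat.card (BB G) := Nat.card_pos
  have hQpos : 0 < Nat.card (QQ G) := Nat.card_pos
  have hepos : 0 < ee F := ee_pos
  have hk1 : 1 ≤ k := by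
    rcases Nat.eq_zero_or_pos k with rfl | h
    · simp at hk; omega
    · exact h
  have hM : Nat.card (dlt G).range = ee F * k := by
    have h1 := card_BB G
    rw [hk] at h1
    have h2 : Nat.card (QQ G) * (ee F * k) = Nat.card (QQ G) * Nat.card (dlt G).range := by
      rw [← h1]; ring
    exact (Nat.eq_of_mul_eq_mul_left hQpos h2).symm
  refine ⟨k, hk1, hk, hM, ?_, ?_⟩
  · have h1 := card_le_card_AA_mul (BB G) (uu b) ((QQ G : Set (SL2 F)) \ {1}) (by
      intro g hg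
      refine ⟨(⟨conj_mem_UU_of_upper (mem_Bor.mp hg.1) (uu_mem b),
        G.mul_mem (G.mul_mem hg.2 hbG) (G.inv_mem hg.2)⟩ : g * uu b * g⁻¹ ∈ QQ G), ?_⟩
      intro h
      have h2 : g * uu b * g⁻¹ = 1 := h
      rw [mul_inv_eq_one] at h2
      have h3 : uu b = 1 := by
        have : g * uu b = g * 1 := by rw [h2, mul_one]
        exact mul_left_cancel this
      exact uu_ne_one hb h3)
    rw [AA_eq_of_le (BB_le G) (AA_uu_le_BB G hb), card_AA_uu hZ hb, hk,
      Set.ncard_sdiff_singleton_of_mem (one_mem (QQ G))] at h1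
    have h2 : ((QQ G : Subgroup (SL2 F)) : Set (SL2 F)).ncard = Nat.card (QQ G) := rfl
    rw [h2] at h1
    have h3 : k ≤ Nat.card (QQ G) - 1 :=
      Nat.le_of_mul_le_mul_left h1 (Nat.mul_pos hepos hQpos)
    omega
  · have h1 : ee F * k ∣ Fintype.card F - 1 := by
      rw [← hM, ← Nat.card_eq_fintype_card, ← Nat.card_units]
      exact Subgroup.card_subgroup_dvd_card _
    have h2 : k ∣ Fintype.card F - 1 := (Dvd.intro_left _ rfl).trans h1
    have h3 := card_QQ_dvd G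
    have h4 : Nat.Coprime (Fintype.card F - 1) (Fintype.card F) := by
      have : 0 < Fintype.card F := Fintype.card_pos
      exact (Nat.coprime_self_sub_left (n := Fintype.card F) (m := 1) (by omega)).mpr
        (Nat.coprime_one_left _)
    exact Nat.Coprime.coprime_dvd_left h2 (Nat.Coprime.coprime_dvd_right h3 h4)

theorem ne_of_sq_ne_one {y : SL2 F} (hy : y ∈ Bor F) (h : y 0 0 ^ 2 ≠ 1) : y 0 0 ≠ y 1 1 := by
  intro h1
  apply h
  have := diag_of_mem_Bor hy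
  rw [← h1] at this
  rw [sq]; exact this

theorem tr_ss_of_Bor {y : SL2 F} (hy : y ∈ Bor F) (h : y 0 0 ^ 2 ≠ 1) : tr y ^ 2 ≠ 4 := by
  have hd := diag_of_mem_Bor hy
  have h0 : y 0 0 ≠ 0 := by
    intro h0; rw [h0, zero_mul] at hd; exact zero_ne_one hd
  have h1 : y 1 1 = (y 0 0)⁻¹ := eq_inv_of_mul_eq_one_right hd
  have : tr y = y 0 0 + (y 0 0)⁻¹ := by rw [← h1]; rfl
  rw [this]
  exact add_inv_sq_ne_four h0 h

theorem sq_eq_one_of_Bor_of_tr {y : SL2 F} (hy : y ∈ Bor F) (h : tr y ^ 2 = 4) :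
    y 0 0 ^ 2 = 1 := by
  by_contra h1
  exact tr_ss_of_Bor hy h1 h

theorem upper_of_commute {y z : SL2 F} (hy : y ∈ Bor F) (h : y 0 0 ^ 2 ≠ 1) (hc : Commute z y) :
    z 1 0 = 0 := by
  have h' : z * y = y * z := hc
  have e10 : (z * y) 1 0 = (y * z) 1 0 := by rw [h']
  rw [mul_10, mul_10, mem_Bor.mp hy] at e10
  have h1 : z 1 0 * (y 0 0 - y 1 1) = 0 := by linear_combination e10
  exact (mul_eq_zero.mp h1).resolve_right (sub_ne_zero.mpr (ne_of_sq_ne_one hy h))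

theorem AA_le_BB_of_ss (G : Subgroup (SL2 F)) {y : SL2 F} (hy : y ∈ Bor F) (h : y 0 0 ^ 2 ≠ 1) :
    AA G y ≤ BB G := by
  intro z hz
  obtain ⟨h1, h2⟩ := mem_AA.mp hz
  exact ⟨upper_of_commute hy h h1, h2⟩

theorem eq_one_of_commute_of_UU {y z : SL2 F} (hy : y ∈ Bor F) (h : y 0 0 ^ 2 ≠ 1)
    (hc : Commute z y) (hz : z ∈ UU F) : z = 1 := by
  have h' : z * y = y * z := hc
  have e01 : (z * y) 0 1 = (y * z) 0 1 := by rw [h']
  obtain ⟨z0, z1, z2⟩ := hz
  rw [mul_01, mul_01, z0, z2] at e01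
  have h1 : z 0 1 * (y 0 0 - y 1 1) = 0 := by linear_combination -e01
  have h2 := (mul_eq_zero.mp h1).resolve_right (sub_ne_zero.mpr (ne_of_sq_ne_one hy h))
  rw [eq_uu_of_mem ⟨z0, z1, z2⟩, h2, uu_zero]

/-- The restriction of the diagonal character to `C_G(y)` is injective. -/
theorem eq_of_AA_of_diag {G : Subgroup (SL2 F)} {y z z' : SL2 F} (hy : y ∈ Bor F)
    (h : y 0 0 ^ 2 ≠ 1) (hz : z ∈ AA G y) (hz' : z' ∈ AA G y) (h00 : z 0 0 = z' 0 0) : z = z' := by
  have h1 := AA_le_BB_of_ss G hy h hz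
  have h2 := AA_le_BB_of_ss G hy h hz'
  have h3 : z⁻¹ * z' ∈ AA G y := mul_mem (inv_mem hz) hz'
  have h4 : z⁻¹ * z' ∈ UU F := by
    have d1 := diag_of_mem_Bor h1.1
    have d2 := diag_of_mem_Bor h2.1
    refine ⟨?_, ?_, ?_⟩
    · rw [mul_00, inv_00, inv_01, mem_Bor.mp h2.1, ← h00]; linear_combination d1
    · rw [mul_10, inv_10, inv_11, mem_Bor.mp h2.1, mem_Bor.mp h1.1]; ring
    · rw [mul_11, inv_10, inv_11, mem_Bor.mp h1.1, h00]; linear_combination d2
  have h5 := eq_one_of_commute_of_UU hy h (mem_AA.mp h3).1 h4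
  exact (inv_mul_eq_one.mp h5)

theorem card_AA_K [Finite F] {G : Subgroup (SL2 F)} {y : SL2 F} (hy : y ∈ BB G)
    (h : y 0 0 ^ 2 ≠ 1) : Nat.card (AA G y) = Nat.card (dlt G).range := by
  apply le_antisymm
  · apply Nat.card_le_card_of_injective
      (fun z : AA G y => (⟨dlt G ⟨z.1, AA_le_BB_of_ss G hy.1 h z.2⟩, ⟨_, rfl⟩⟩ : (dlt G).range))
    intro z z' hzz
    have h1 := congrArg (fun x : (dlt G).range => ((x : Fˣ) : F)) hzz
    exact Subtype.ext (eq_of_AA_of_diag hy.1 h z.2 z'.2 h1)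
  · have h1 := card_le_card_AA_mul (BB G) y ((fun u => y * u) '' (QQ G : Set (SL2 F))) (by
      intro b hb
      refine ⟨y⁻¹ * (b * y * b⁻¹), ⟨?_, ?_⟩, by group⟩
      · have d1 := diag_of_mem_Bor hb.1
        have d2 := diag_of_mem_Bor hy.1
        have b10 := mem_Bor.mp hb.1
        have y10 := mem_Bor.mp hy.1
        refine ⟨?_, ?_, ?_⟩
        · simp only [mul_00, mul_01, mul_10, mul_11, inv_00, inv_01, inv_10, inv_11, b10, y10]
          linear_combination (y 0 0 * y 1 1) * d1 + d2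
        · simp only [mul_00, mul_01, mul_10, mul_11, inv_00, inv_01, inv_10, inv_11, b10, y10]
          ring
        · simp only [mul_00, mul_01, mul_10, mul_11, inv_00, inv_01, inv_10, inv_11, b10, y10]
          linear_combination (y 0 0 * y 1 1) * d1 + d2
      · exact G.mul_mem (G.inv_mem hy.2) (G.mul_mem (G.mul_mem hb.2 hy.2) (G.inv_mem hb.2)))
    rw [AA_eq_of_le (BB_le G) (AA_le_BB_of_ss G hy.1 h), card_BB] at h1
    have h2 : ((fun u => y * u) '' (QQ G : Set (SL2 F))).ncard ≤ Nat.card (QQ G) :=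
      Set.ncard_image_le (Set.toFinite _)
    have h3 : Nat.card (QQ G) * Nat.card (dlt G).range ≤ Nat.card (QQ G) * Nat.card (AA G y) := by
      calc _ ≤ _ := h1
        _ ≤ Nat.card (AA G y) * Nat.card (QQ G) := Nat.mul_le_mul_left _ h2
        _ = _ := mul_comm _ _
    exact Nat.le_of_mul_le_mul_left h3 Nat.card_pos

/-- Any two semisimple elements of the Borel part are related. -/
theorem rel_of_mem_BB [Finite F] {G : Subgroup (SL2 F)} {y t : SL2 F} (hy : y ∈ BB G)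
    (h : y 0 0 ^ 2 ≠ 1) (ht : t ∈ BB G) (h' : t 0 0 ^ 2 ≠ 1) : Rel G y t := by
  -- an element `y'` of `C_G(y)` with the diagonal of `t`
  have hinj : Function.Injective
      (fun z : AA G y => (⟨dlt G ⟨z.1, AA_le_BB_of_ss G hy.1 h z.2⟩, ⟨_, rfl⟩⟩ : (dlt G).range)) := by
    intro z z' hzz
    have h1 := congrArg (fun x : (dlt G).range => ((x : Fˣ) : F)) hzz
    exact Subtype.ext (eq_of_AA_of_diag hy.1 h z.2 z'.2 h1)
  have hsurj := (Function.Injective.bijective_of_nat_card_le hinj (card_AA_K hy h).ge).2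
  obtain ⟨⟨y', hy'⟩, hy'2⟩ := hsurj ⟨dlt G ⟨t, ht⟩, ⟨_, rfl⟩⟩
  have h00 : y' 0 0 = t 0 0 := congrArg (fun x : (dlt G).range => ((x : Fˣ) : F)) hy'2
  have hy'B := AA_le_BB_of_ss G hy.1 h hy'
  have hy'1 : y' 0 0 ^ 2 ≠ 1 := by rw [h00]; exact h'
  -- the commutator map on `Q`
  have hmem : ∀ v : QQ G, y'⁻¹ * (v.1 * y' * v.1⁻¹) ∈ QQ G := by
    intro v
    refine ⟨?_, G.mul_mem (G.inv_mem hy'B.2) (G.mul_mem (G.mul_mem v.2.2 hy'B.2) (G.inv_mem v.2.2))⟩
    obtain ⟨v0, v1, v2⟩ := v.2.1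
    have d2 := diag_of_mem_Bor hy'B.1
    have y10 := mem_Bor.mp hy'B.1
    refine ⟨?_, ?_, ?_⟩
    · simp only [mul_00, mul_01, mul_10, mul_11, inv_00, inv_01, inv_10, inv_11, v0, v1, v2, y10]
      linear_combination d2
    · simp only [mul_00, mul_01, mul_10, mul_11, inv_00, inv_01, inv_10, inv_11, v0, v1, v2, y10]
      ring
    · simp only [mul_00, mul_01, mul_10, mul_11, inv_00, inv_01, inv_10, inv_11, v0, v1, v2, y10]
      linear_combination d2
  let f : QQ G → QQ G := fun v => ⟨_, hmem v⟩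
  have hf : Function.Injective f := by
    intro v v' hvv
    have h1 : y'⁻¹ * (v.1 * y' * v.1⁻¹) = y'⁻¹ * (v'.1 * y' * v'.1⁻¹) := congrArg Subtype.val hvv
    have h2 : v.1 * y' * v.1⁻¹ = v'.1 * y' * v'.1⁻¹ := mul_left_cancel h1
    have h3 : Commute (v'.1⁻¹ * v.1) y' := by
      show v'.1⁻¹ * v.1 * y' = y' * (v'.1⁻¹ * v.1)
      have h4 : v.1 * y' = v'.1 * y' * v'.1⁻¹ * v.1 := by rw [← h2]; group
      calc v'.1⁻¹ * v.1 * y' = v'.1⁻¹ * (v.1 * y') := by group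
        _ = v'.1⁻¹ * (v'.1 * y' * v'.1⁻¹ * v.1) := by rw [h4]
        _ = y' * (v'.1⁻¹ * v.1) := by group
    have h5 := eq_one_of_commute_of_UU hy'B.1 hy'1 h3 (mul_mem (inv_mem v'.2.1) v.2.1)
    exact Subtype.ext (inv_mul_eq_one.mp h5).symm
  have hu : y'⁻¹ * t ∈ QQ G := by
    refine ⟨?_, G.mul_mem (G.inv_mem hy'B.2) ht.2⟩
    have d1 := diag_of_mem_Bor hy'B.1
    have d2 := diag_of_mem_Bor ht.1
    refine ⟨?_, ?_, ?_⟩
    · rw [mul_00, inv_00, inv_01, mem_Bor.mp ht.1, ← h00]; linear_combination d1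
    · rw [mul_10, inv_10, inv_11, mem_Bor.mp ht.1, mem_Bor.mp hy'B.1]; ring
    · rw [mul_11, inv_10, inv_11, mem_Bor.mp hy'B.1, h00]; linear_combination d2
  obtain ⟨v, hv⟩ := (Finite.surjective_of_injective hf) ⟨_, hu⟩
  have hv1 : y'⁻¹ * (v.1 * y' * v.1⁻¹) = y'⁻¹ * t := congrArg Subtype.val hv
  have hv2 : v.1 * y' * v.1⁻¹ = t := mul_left_cancel hv1
  refine ⟨v.1, v.2.2, ?_⟩
  rw [← hv2]
  have e : v.1⁻¹ * (v.1 * y' * v.1⁻¹) * v.1 = y' := by group
  rw [e]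
  exact (mem_AA.mp hy').1

end Cfsg.Agent.Lib.Helper41Dk
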