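import Cfsg.Agent.Lib.Helper46ToriNS

set_option autoImplicit false

namespace Cfsg.Agent.Lib.Helper46Tori2

open Cfsg.Agent.Lib.Helper46SL2 Cfsg.Agent.Lib.Helper46Tori Cfsg.Agent.Lib.Helper46ToriNS

/-! ### Abstract group theory -/

section abstract

variable {G : Type*} [Group G]

theorem conj_mem_centralizer_of_mem_normalizer {H : Subgroup G} {n h : G}
    (hn : n ∈ Subgroup.normalizer (H : Set G)) (hh : h ∈ Subgroup.centralizer (H : Set G)) :
    n * h * n⁻¹ ∈ Subgroup.centralizer (H : Set G) := by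
  rw [Subgroup.mem_centralizer_iff] at hh ⊢
  intro p hp
  have hp' : n⁻¹ * p * n ∈ H := (Subgroup.mem_normalizer_iff''.mp hn p).mp hp
  have hc := hh _ hp'
  calc p * (n * h * n⁻¹) = n * ((n⁻¹ * p * n) * h) * n⁻¹ := by group
    _ = n * (h * (n⁻¹ * p * n)) * n⁻¹ := by rw [hc]
    _ = n * h * n⁻¹ * p := by group

theorem normalizer_le_normalizer_centralizer (H : Subgroup G) :
    Subgroup.normalizer (H : Set G) ≤
      Subgroup.normalizer ((Subgroup.centralizer (H : Set G) : Subgroup G) : Set G) := by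
  intro n hn
  rw [Subgroup.mem_normalizer_iff]
  intro h
  constructor
  · exact conj_mem_centralizer_of_mem_normalizer hn
  · intro hh
    have := conj_mem_centralizer_of_mem_normalizer (inv_mem hn) hh
    have e : n⁻¹ * (n * h * n⁻¹) * n⁻¹⁻¹ = h := by group
    rwa [e] at this

theorem sylow_in_abelian {p : ℕ} (P : Sylow p G) (T : Subgroup G)
    (hT : ∀ a ∈ T, ∀ b ∈ T, a * b = b * a) (hPT : (P : Subgroup G) ≤ T)
    (x : G) (hx : x ∈ P) (hxT : Subgroup.centralizer {x} = T) :
    Subgroup.centralizer ((P : Subgroup G) : Set G) = T ∧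
    Subgroup.normalizer ((P : Subgroup G) : Set G) = Subgroup.normalizer (T : Set G) := by
  have h1 : Subgroup.centralizer ((P : Subgroup G) : Set G) = T := by
    apply le_antisymm
    · intro h hh
      rw [← hxT, Subgroup.mem_centralizer_singleton_iff]
      exact ((Subgroup.mem_centralizer_iff.mp hh) x hx).symm
    · intro t ht
      rw [Subgroup.mem_centralizer_iff]
      intro y hy
      exact hT y (hPT hy) t ht
  refine ⟨h1, le_antisymm ?_ ?_⟩
  · have := normalizer_le_normalizer_centralizer (P : Subgroup G)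
    rwa [h1] at this
  · intro n hn
    refine (Sylow.smul_eq_iff_mem_normalizer (P := P)).mp ?_
    have hQT : ((n • P : Sylow p G) : Subgroup G) ≤ T := by
      intro y hy
      rw [Sylow.coe_subgroup_smul, Subgroup.mem_pointwise_smul_iff_inv_smul_mem] at hy
      have hy' : (MulAut.conj n)⁻¹ • y ∈ T := hPT hy
      have e : (MulAut.conj n)⁻¹ • y = n⁻¹ * y * n := by
        simp [MulAut.smul_def]
      rw [e] at hy'
      exact (Subgroup.mem_normalizer_iff''.mp hn y).mpr hy'
    have hQN : ((n • P : Sylow p G) : Subgroup G) ≤ Subgroup.normalizer ((P : Subgroup G) : Set G) := by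
      intro y hy
      rw [Subgroup.mem_normalizer_iff]
      intro h
      constructor
      · intro hh
        have : y * h * y⁻¹ = h := by
          rw [mul_inv_eq_iff_eq_mul]
          exact hT y (hQT hy) h (hPT hh)
        rw [this]; exact hh
      · intro hh
        have hc := hT y⁻¹ (inv_mem (hQT hy)) _ (hPT hh)
        have : h = y * h * y⁻¹ := by
          calc h = y⁻¹ * (y * h * y⁻¹) * y := by group
            _ = (y * h * y⁻¹) * y⁻¹ * y := by rw [hc]
            _ = y * h * y⁻¹ := by group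
        rw [this]; exact hh
    have h2 : ((n • P : Sylow p G) : Subgroup G) ⊓ Subgroup.normalizer ((P : Subgroup G) : Set G) =
        ((n • P : Sylow p G) : Subgroup G) ⊓ P := IsPGroup.inf_normalizer_sylow (n • P : Sylow p G).isPGroup' P
    rw [inf_eq_left.mpr hQN] at h2
    have hQP : ((n • P : Sylow p G) : Subgroup G) ≤ P := by
      rw [h2]; exact inf_le_right
    exact Sylow.ext ((n • P : Sylow p G).is_maximal' P.isPGroup' hQP).symm

/-- The data of a "torus": commutative, cyclic, of order `m`, with normaliser of order `2m`. -/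
def IsTorus (T : Subgroup G) (m : ℕ) : Prop :=
  (∀ a ∈ T, ∀ b ∈ T, a * b = b * a) ∧ IsCyclic T ∧ Nat.card T = m ∧
    Nat.card (Subgroup.normalizer (T : Set G)) = 2 * m

theorem mem_centralizer_conj_iff (g B h : G) :
    h ∈ Subgroup.centralizer {B} ↔ g * h * g⁻¹ ∈ Subgroup.centralizer {g * B * g⁻¹} := by
  rw [Subgroup.mem_centralizer_singleton_iff, Subgroup.mem_centralizer_singleton_iff]
  constructor
  · intro hc
    calc g * h * g⁻¹ * (g * B * g⁻¹) = g * (h * B) * g⁻¹ := by group
      _ = g * (B * h) * g⁻¹ := by rw [hc]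
      _ = g * B * g⁻¹ * (g * h * g⁻¹) := by group
  · intro hc
    calc h * B = g⁻¹ * (g * h * g⁻¹ * (g * B * g⁻¹)) * g := by group
      _ = g⁻¹ * (g * B * g⁻¹ * (g * h * g⁻¹)) * g := by rw [hc]
      _ = B * h := by group

theorem mem_normalizer_centralizer_conj_iff (g B n : G) :
    n ∈ Subgroup.normalizer ((Subgroup.centralizer {B} : Subgroup G) : Set G) ↔
      g * n * g⁻¹ ∈ Subgroup.normalizer ((Subgroup.centralizer {g * B * g⁻¹} : Subgroup G) : Set G) := by
  rw [Subgroup.mem_normalizer_iff, Subgroup.mem_normalizer_iff]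
  constructor
  · intro hn h'
    have e1 : h' = g * (g⁻¹ * h' * g) * g⁻¹ := by group
    have e2 : g * n * g⁻¹ * h' * (g * n * g⁻¹)⁻¹ = g * (n * (g⁻¹ * h' * g) * n⁻¹) * g⁻¹ := by group
    rw [e2, ← mem_centralizer_conj_iff, ← hn]
    conv_lhs => rw [e1]
    rw [← mem_centralizer_conj_iff]
  · intro hn h
    have e2 : g * n * g⁻¹ * (g * h * g⁻¹) * (g * n * g⁻¹)⁻¹ = g * (n * h * n⁻¹) * g⁻¹ := by group
    rw [mem_centralizer_conj_iff g B h, hn, e2, ← mem_centralizer_conj_iff]

theorem IsTorus.conj {B : G} {m : ℕ} (h : IsTorus (Subgroup.centralizer {B}) m) (g : G) :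
    IsTorus (Subgroup.centralizer {g * B * g⁻¹}) m := by
  obtain ⟨h1, h2, h3, h4⟩ := h
  have hback : ∀ a ∈ Subgroup.centralizer {g * B * g⁻¹}, g⁻¹ * a * g ∈ Subgroup.centralizer {B} := by
    intro a ha
    rw [mem_centralizer_conj_iff g B]
    have : g * (g⁻¹ * a * g) * g⁻¹ = a := by group
    rwa [this]
  refine ⟨?_, ?_, ?_, ?_⟩
  · intro a ha b hb
    have := h1 _ (hback a ha) _ (hback b hb)
    calc a * b = g * ((g⁻¹ * a * g) * (g⁻¹ * b * g)) * g⁻¹ := by group
      _ = g * ((g⁻¹ * b * g) * (g⁻¹ * a * g)) * g⁻¹ := by rw [this]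
      _ = b * a := by group
  · let f : (Subgroup.centralizer {g * B * g⁻¹} : Subgroup G) →* (Subgroup.centralizer {B} : Subgroup G) :=
      ((MulAut.conj g⁻¹).toMonoidHom.comp (Subgroup.subtype _)).codRestrict _ (by
        intro a
        have := hback a.1 a.2
        simpa [MulAut.conj_apply] using this)
    have hf : Function.Injective f := by
      intro a b hab
      have := congrArg Subtype.val hab
      simp only [f, MonoidHom.codRestrict_apply, MonoidHom.comp_apply] at this
      exact Subtype.ext ((MulAut.conj g⁻¹).injective this)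
    exact isCyclic_of_injective f hf
  · rw [← h3]
    exact (Nat.card_congr ((MulAut.conj g).toEquiv.subtypeEquiv (fun h => by
      simpa [MulAut.conj_apply] using mem_centralizer_conj_iff g B h))).symm
  · rw [← h4]
    exact (Nat.card_congr ((MulAut.conj g).toEquiv.subtypeEquiv (fun h => by
      simpa [MulAut.conj_apply] using mem_normalizer_centralizer_conj_iff g B h))).symm

end abstract

/-! ### Tori of `SL₂(q)` -/

section sltwo

variable {F : Type*} [Field F] [Fintype F]

local notation "SL2" => Matrix.SpecialLinearGroup (Fin 2)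
local notation "φ" => algebraMap F (AlgebraicClosure F)

theorem isTorus_split (x : SL2 F) (a : F) (ha0 : a ≠ 0) (ha2 : a ^ 2 ≠ 1) (htr : tr x = a + a⁻¹) :
    IsTorus (Subgroup.centralizer {x}) (Fintype.card F - 1) := by
  obtain ⟨c, hc⟩ := isConj_iff.mp (isConj_dg a ha0 ha2 htr)
  have hdD : dg a ha0 ∈ D F := ⟨rfl, rfl⟩
  have hda : (dg a ha0) 0 0 ^ 2 ≠ 1 := ha2
  have h0 : IsTorus (Subgroup.centralizer {dg a ha0}) (Fintype.card F - 1) := by
    rw [centralizer_eq_D hdD hda]
    exact ⟨D_comm, isCyclic_D, card_D, card_normalizer_D ⟨_, hdD, hda⟩⟩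
  have := h0.conj c⁻¹
  have e : c⁻¹ * dg a ha0 * c⁻¹⁻¹ = x := by
    rw [← hc]; group
  rwa [e] at this

theorem isTorus_nonsplit (x : SL2 F) (l : AlgebraicClosure F) (hl0 : l ≠ 0) (hl : l + l⁻¹ = φ (tr x))
    (hlq : l ^ (Fintype.card F + 1) = 1) (hl2 : l ^ 2 ≠ 1) :
    IsTorus (Subgroup.centralizer {x}) (Fintype.card F + 1) := by
  obtain ⟨t0, z, hord, hz0, hsum⟩ := exists_nonsplit (F := F)
  obtain ⟨i, hi⟩ := exists_pow_tr_eq hord hz0 hsum (tr x) l hl0 hl hlq
  have h4 : tr x ^ 2 ≠ 4 := by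
    intro h
    apply add_inv_sq_ne_four hl0 hl2
    rw [hl, ← map_pow, h]
    exact map_ofNat φ 4
  obtain ⟨c, hc⟩ := isConj_iff.mp (isConj_of_tr_eq hi.symm h4)
  have h0 : IsTorus (Subgroup.centralizer {stdA t0 ^ i}) (Fintype.card F + 1) := by
    rw [centralizer_eq_of_inC (inC_pow (inC_stdA t0) i) (not_mem_center_of_tr (hi ▸ h4))]
    exact ⟨T_comm, isCyclic_T hord hz0 hsum, card_T hord hz0 hsum, card_normalizer_T hord hz0 hsum⟩
  have := h0.conj c⁻¹
  have e : c⁻¹ * stdA t0 ^ i * c⁻¹⁻¹ = x := by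
    rw [← hc]; group
  rwa [e] at this

theorem pow_card_mem_center (A : SL2 F) (h : tr A ^ 2 = 4) :
    A ^ Fintype.card F ∈ Subgroup.center (SL2 F) := by
  obtain ⟨p, hp⟩ := CharP.exists F
  have hprime : Fact p.Prime := ⟨CharP.char_is_prime F p⟩
  obtain ⟨n, -, hn⟩ := FiniteField.card F p
  have hn1 : (n : ℕ) = (n - 1) + 1 := by
    have := n.pos
    omega
  rw [hn, hn1, pow_succ, mul_comm, pow_mul]
  exact pow_mem (pow_char_mem_center p A h) _

theorem pow_two_card_eq_one (A : SL2 F) (h : tr A ^ 2 = 4) : A ^ (2 * Fintype.card F) = 1 := by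
  rw [mul_comm, pow_mul]
  rcases mem_center_iff_eq.mp (pow_card_mem_center A h) with h1 | h1
  · rw [h1, one_pow]
  · rw [h1]; simp

end sltwo

end Cfsg.Agent.Lib.Helper46Tori2
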