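import Mathlib
import Cfsg.Agent.Lib.Helper41SL2Unip
import Cfsg.Agent.Lib.Helper46Tori2

set_option autoImplicit false

namespace Cfsg.Agent.Lib.Helper41Redundant

open Matrix Cfsg.Agent.Lib.Helper46SL2 Cfsg.Agent.Lib.Helper41SL2

/-- `Q` is a redundant Sylow subgroup. -/
def Red {G : Type*} [Group G] (p : ℕ) (Q : Sylow p G) : Prop :=
  ∀ x : G, (∃ k : ℕ, orderOf x = p ^ k) → ∃ P : Sylow p G, P ≠ Q ∧ x ∈ P

theorem not_red_of_forall {G : Type*} [Group G] {p : ℕ} (Q : Sylow p G) (x : G)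
    (hx : ∃ k : ℕ, orderOf x = p ^ k) (h : ∀ P : Sylow p G, x ∈ P → P = Q) : ¬ Red p Q := by
  intro hr
  obtain ⟨P, hne, hxP⟩ := hr x hx
  exact hne (h P hxP)

theorem not_red_of_isCyclic {G : Type*} [Group G] [Finite G] {p : ℕ} [Fact p.Prime] (Q : Sylow p G)
    (hc : IsCyclic Q) : ¬ Red p Q := by
  obtain ⟨g, hg⟩ := IsCyclic.exists_generator (α := Q)
  apply not_red_of_forall Q (g : G)
  · obtain ⟨k, hk⟩ := (IsPGroup.iff_orderOf.mp Q.isPGroup') g
    exact ⟨k, by rw [Subgroup.orderOf_coe]; exact hk⟩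
  · intro P hP
    have hle : (Q : Subgroup G) ≤ P := by
      intro x hx
      obtain ⟨j, hj⟩ := Subgroup.mem_zpowers_iff.mp (hg ⟨x, hx⟩)
      have : x = (g : G) ^ j := by
        have := congrArg Subtype.val hj
        simpa using this.symm
      rw [this]
      exact P.zpow_mem hP j
    exact Sylow.ext (Q.is_maximal' P.isPGroup' hle)

theorem mem_smul_sylow {G : Type*} [Group G] {p : ℕ} (S : Sylow p G) (g x : G) :
    x ∈ (g • S : Sylow p G) ↔ g⁻¹ * x * g ∈ S := by
  change x ∈ ((g • S : Sylow p G) : Subgroup G) ↔ _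
  rw [Sylow.coe_subgroup_smul, Subgroup.mem_pointwise_smul_iff_inv_smul_mem]
  simp only [MulAut.smul_def, MulAut.conj_inv_apply]
  exact Iff.rfl

variable {F : Type*} [Field F] [Fintype F]

local notation "SL2" => Matrix.SpecialLinearGroup (Fin 2)

theorem not_red_char (p : ℕ) [Fact p.Prime] [CharP F p] (Q : Sylow p (SL2 F)) : ¬ Red p Q := by
  have hcard : Nat.card Q = Fintype.card F := by
    rw [Sylow.card_eq_multiplicity, factorization_card_SL2]
  have hq : 1 < Fintype.card F := Fintype.one_lt_card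
  have : Nontrivial Q := (Finite.one_lt_card_iff_nontrivial).mp (by rw [hcard]; exact hq)
  obtain ⟨x, hx⟩ := exists_ne (1 : Q)
  apply not_red_of_forall Q (x : SL2 F)
  · obtain ⟨k, hk⟩ := (IsPGroup.iff_orderOf.mp Q.isPGroup') x
    exact ⟨k, by rw [Subgroup.orderOf_coe]; exact hk⟩
  · intro P hP
    exact sylow_char_eq_of_mem p (fun h => hx (Subtype.ext h)) hP x.2

/-- nontrivial elements of order prime to `2 q` are regular semisimple -/
theorem tr_sq_ne_four_of_coprime {z : SL2 F} (hz : z ≠ 1)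
    (hco : (orderOf z).Coprime (2 * Fintype.card F)) : tr z ^ 2 ≠ 4 := by
  intro h
  have h1 := Cfsg.Agent.Lib.Helper46Tori2.pow_two_card_eq_one z h
  have h2 := orderOf_dvd_of_pow_eq_one h1
  have h3 : orderOf z = 1 := Nat.Coprime.eq_one_of_dvd hco h2
  exact hz (orderOf_eq_one_iff.mp h3)

theorem isCyclic_sylow_of_ne_char (r : ℕ) [Fact r.Prime] [CharP F r] (p : ℕ) [Fact p.Prime]
    (hp2 : p ≠ 2) (hpr : p ≠ r) (Q : Sylow p (SL2 F)) : IsCyclic Q := by
  by_cases hnt : Nontrivial Q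
  · have hcn : Nontrivial (Subgroup.center Q) := Q.isPGroup'.center_nontrivial
    obtain ⟨z, hz⟩ := exists_ne (1 : Subgroup.center Q)
    have hz1 : ((z : Q) : SL2 F) ≠ 1 := by
      intro h
      apply hz
      apply Subtype.ext
      apply Subtype.ext
      exact h
    obtain ⟨k, hk⟩ := (IsPGroup.iff_orderOf.mp Q.isPGroup') (z : Q)
    have hord : orderOf ((z : Q) : SL2 F) = p ^ k := by rw [Subgroup.orderOf_coe]; exact hk
    obtain ⟨n, -, hn⟩ := FiniteField.card F r
    have hco : (orderOf ((z : Q) : SL2 F)).Coprime (2 * Fintype.card F) := by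
      rw [hord, hn]
      apply Nat.Coprime.pow_left
      apply Nat.Coprime.mul_right
      · exact (Nat.coprime_primes Fact.out Nat.prime_two).mpr hp2
      · exact Nat.Coprime.pow_right _ ((Nat.coprime_primes Fact.out Fact.out).mpr hpr)
    have ht := tr_sq_ne_four_of_coprime hz1 hco
    have hcyc := isCyclic_centralizer ht
    have hle : (Q : Subgroup (SL2 F)) ≤ Subgroup.centralizer {((z : Q) : SL2 F)} := by
      intro x hx
      rw [mem_centralizer_iff]
      have := (Subgroup.mem_center_iff.mp z.2) ⟨x, hx⟩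
      exact congrArg Subtype.val this
    exact isCyclic_of_injective (Subgroup.inclusion hle) (Subgroup.inclusion_injective hle)
  · rw [not_nontrivial_iff_subsingleton] at hnt
    exact isCyclic_of_subsingleton


theorem card_centralizer_cases {c : SL2 F} (ht : tr c ^ 2 ≠ 4) :
    Nat.card (Subgroup.centralizer {c} : Subgroup (SL2 F)) = Fintype.card F - 1 ∨
    Nat.card (Subgroup.centralizer {c} : Subgroup (SL2 F)) = Fintype.card F + 1 := by
  rcases split_or_nonSplit ht with ⟨a, ha0, ha, hta⟩ | h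
  · exact Or.inl (card_centralizer_split ha0 ha hta)
  · exact Or.inr (card_centralizer_nonSplit h)

/-- If the torus containing the cyclic maximal subgroup of `S` is a 2-group, `S` is not redundant. -/
theorem not_red_two_of_torus (hodd : Odd (Fintype.card F)) (S : Sylow 2 (SL2 F)) {k : ℕ} {c w : SL2 F}
    (htc : tr c ^ 2 ≠ 4)
    (hC : Nat.card (Subgroup.centralizer {c} : Subgroup (SL2 F)) = 2 ^ (k + 1))
    (hord : orderOf c = 2 ^ (k + 1)) (hwc : w * c * w⁻¹ = c⁻¹) (hcard : Nat.card S = 2 ^ (k + 2))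
    (hgen : ∀ H : Subgroup (SL2 F), c ∈ H → w ∈ H → (S : Subgroup (SL2 F)) ≤ H) : ¬ Red 2 S := by
  set N := Subgroup.normalizer ((Subgroup.centralizer {c} : Subgroup (SL2 F)) : Set (SL2 F)) with hN
  have hNcard : Nat.card N = 2 ^ (k + 2) := by
    rw [hN, card_normalizer_centralizer htc, hC]; ring
  have hSN : (S : Subgroup (SL2 F)) = N := by
    apply Subgroup.eq_of_le_of_card_ge
    · apply hgen
      · exact centralizer_le_normalizer c (mem_centralizer_iff.mpr rfl)
      · exact (mem_normalizer_centralizer_iff htc).mpr (Or.inr hwc)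
    · rw [hNcard]; exact hcard.ge
  apply not_red_of_forall S c ⟨k + 1, hord⟩
  intro P hcP
  have hPcard : Nat.card P = 2 ^ (k + 2) := by
    rw [Sylow.card_eq_multiplicity, ← hcard, Sylow.card_eq_multiplicity]
  have hzP : Subgroup.zpowers c ≤ (P : Subgroup (SL2 F)) := Subgroup.zpowers_le.mpr hcP
  have hrel : (Subgroup.zpowers c).relIndex (P : Subgroup (SL2 F)) = 2 := by
    have h := Subgroup.relIndex_mul_relIndex ⊥ _ _ bot_le hzP
    rw [Subgroup.relIndex_bot_left, Subgroup.relIndex_bot_left, Nat.card_zpowers, hord] at h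
    have h' : Nat.card (P : Subgroup (SL2 F)) = 2 ^ (k + 2) := hPcard
    rw [h', pow_succ 2 (k + 1)] at h
    exact Nat.eq_of_mul_eq_mul_left (by positivity) h
  have hnorm : ((Subgroup.zpowers c).subgroupOf (P : Subgroup (SL2 F))).Normal :=
    Subgroup.normal_of_index_eq_two hrel
  have hPN : (P : Subgroup (SL2 F)) ≤ N := by
    intro y hy
    rw [hN, mem_normalizer_centralizer_iff htc]
    have h1 := hnorm.conj_mem ⟨c, hcP⟩ (Subgroup.mem_subgroupOf.mpr (Subgroup.mem_zpowers c)) ⟨y, hy⟩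
    rw [Subgroup.mem_subgroupOf] at h1
    obtain ⟨j, hj⟩ := Subgroup.mem_zpowers_iff.mp h1
    apply eq_or_eq_inv_of_commute htc _ (tr_conj c y)
    have hj' : c ^ j = y * c * y⁻¹ := hj
    rw [← hj']
    exact ((Commute.refl c).zpow_left j).eq
  apply Sylow.ext
  rw [hSN]
  apply Subgroup.eq_of_le_of_card_ge hPN
  rw [hNcard]; exact hPcard.ge

theorem odd_eq_one_of_mul_eq_two_pow {a m j : ℕ} (hm : Odd m) (h : 2 ^ a * m = 2 ^ j) : m = 1 := by
  have h1 : m ∣ 2 ^ j := ⟨2 ^ a, by rw [← h]; ring⟩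
  obtain ⟨i, -, rfl⟩ := (Nat.dvd_prime_pow Nat.prime_two).mp h1
  rcases Nat.eq_zero_or_pos i with rfl | hi
  · rfl
  · exfalso
    have : Even (2 ^ i) := Nat.even_pow.mpr ⟨even_two, by omega⟩
    exact (Nat.not_even_iff_odd.mpr hm) this

theorem two_pow_mod_four {j : ℕ} (h : 2 ^ j % 4 = 2) : j = 1 := by
  rcases j with _ | _ | j
  · simp at h
  · rfl
  · exfalso
    have : 2 ^ (j + 1 + 1) = 4 * 2 ^ j := by ring
    omega

theorem arith_m_eq_one {q k m : ℕ} (hk : 1 ≤ k) (hm : Odd m) (hq : 1 < q)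
    (hC : 2 ^ (k + 1) * m = q - 1 ∨ 2 ^ (k + 1) * m = q + 1)
    (h : (∃ j : ℕ, q + 1 = 2 ^ j) ∨ (∃ j : ℕ, q = 2 ^ j + 1)) : m = 1 := by
  have h4 : 2 ^ (k + 1) * m = 4 * (2 ^ (k - 1) * m) := by
    rw [show k + 1 = (k - 1) + 2 by omega]; ring
  rcases hC with hC | hC <;> rcases h with ⟨j, hj⟩ | ⟨j, hj⟩
  · exfalso
    have : j = 1 := two_pow_mod_four (by omega)
    subst this
    omega
  · exact odd_eq_one_of_mul_eq_two_pow hm (a := k + 1) (j := j) (by omega)
  · exact odd_eq_one_of_mul_eq_two_pow hm (a := k + 1) (j := j) (by omega)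
  · have : j = 1 := two_pow_mod_four (by omega)
    subst this
    exact odd_eq_one_of_mul_eq_two_pow hm (a := k + 1) (j := 2) (by omega)

theorem not_red_two (hodd : Odd (Fintype.card F))
    (h : (∃ j : ℕ, Fintype.card F + 1 = 2 ^ j) ∨ (∃ j : ℕ, Fintype.card F = 2 ^ j + 1))
    (S : Sylow 2 (SL2 F)) : ¬ Red 2 S := by
  obtain ⟨k, m, c, w, hk, hm, htc, hC, hord, hck, hww, hwc, hcS, hwS, hcard, hgen, hel⟩ :=
    sylow_two_structure' hodd S
  have hm1 : m = 1 := by
    apply arith_m_eq_one hk hm Fintype.one_lt_card _ h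
    rw [← hC]
    exact card_centralizer_cases htc
  subst hm1
  exact not_red_two_of_torus hodd S htc (by rw [hC, mul_one]) hord hwc hcard hgen

/-- every 2-element lies in two distinct Sylow 2-subgroups -/
theorem exists_two_sylow (hodd : Odd (Fintype.card F))
    (h1 : ¬ ∃ j : ℕ, Fintype.card F + 1 = 2 ^ j) (h3 : ¬ ∃ j : ℕ, Fintype.card F = 2 ^ j + 1)
    (x : SL2 F) (hx : ∃ k : ℕ, orderOf x = 2 ^ k) :
    ∃ S₁ S₂ : Sylow 2 (SL2 F), S₁ ≠ S₂ ∧ x ∈ S₁ ∧ x ∈ S₂ := by
  have h2 : (2 : F) ≠ 0 := two_ne_zero_of_odd hodd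
  have hq : 1 < Fintype.card F := Fintype.one_lt_card
  obtain ⟨n, hn⟩ := hx
  have hP : IsPGroup 2 (Subgroup.zpowers x) := by
    apply IsPGroup.of_card (n := n)
    rw [Nat.card_zpowers, hn]
  obtain ⟨S, hS⟩ := hP.exists_le_sylow
  have hxS : x ∈ S := hS (Subgroup.mem_zpowers x)
  obtain ⟨k, m, c, w, hk, hm, htc, hC, hord, hck, hww, hwc, hcS, hwS, hcard, hgen, hel⟩ :=
    sylow_two_structure' hodd S
  have hm1 : m ≠ 1 := by
    rintro rfl
    rw [mul_one] at hC
    rcases card_centralizer_cases htc with h | h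
    · exact h3 ⟨k + 1, by omega⟩
    · exact h1 ⟨k + 1, by omega⟩
  -- an element of odd prime order in the torus
  obtain ⟨l, hl, hlm⟩ := Nat.exists_prime_and_dvd hm1
  have hl2 : l ≠ 2 := by
    rintro rfl
    rw [Nat.odd_iff] at hm
    omega
  have : Fact l.Prime := ⟨hl⟩
  obtain ⟨t, ht⟩ := exists_prime_orderOf_dvd_card' (G := (Subgroup.centralizer {c} : Subgroup (SL2 F))) l
    (by rw [hC]; exact Dvd.dvd.mul_left hlm _)
  have htord : orderOf (t : SL2 F) = l := by rw [Subgroup.orderOf_coe]; exact ht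
  have htc' : (t : SL2 F) * c = c * t := mem_centralizer_iff.mp t.2
  have htN : (t : SL2 F) ∉ Subgroup.normalizer ((S : Subgroup (SL2 F)) : Set (SL2 F)) := by
    intro hN
    have h5 : (t : SL2 F) ∈ S :=
      mem_sylow_of_conj_eq htc hwc hwS hN (Or.inl (mul_inv_eq_iff_eq_mul.mpr htc'))
    obtain ⟨j, hj⟩ := (IsPGroup.iff_orderOf.mp S.isPGroup') ⟨t, h5⟩
    have hj' : orderOf (t : SL2 F) = 2 ^ j := by
      rw [← hj]; exact (Subgroup.orderOf_mk _ _).symm
    rw [htord] at hj'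
    have h6 : (2 : ℕ) ∣ l := by
      rcases Nat.eq_zero_or_pos j with rfl | hj0
      · rw [pow_zero] at hj'; exact absurd hj' hl.one_lt.ne'
      · rw [hj']; exact dvd_pow_self 2 (by omega)
    exact hl2 ((Nat.prime_dvd_prime_iff_eq Nat.prime_two hl).mp h6).symm
  have htS : (t : SL2 F) • S ≠ S := fun h => htN (Sylow.smul_eq_iff_mem_normalizer.mp h)
  have hfix : ∀ y ∈ Subgroup.zpowers c, y ∈ S ∧ y ∈ ((t : SL2 F) • S : Sylow 2 (SL2 F)) := by
    intro y hy
    obtain ⟨j, rfl⟩ := Subgroup.mem_zpowers_iff.mp hy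
    have hyS : c ^ j ∈ S := S.zpow_mem hcS j
    refine ⟨hyS, ?_⟩
    rw [mem_smul_sylow]
    have hcomm : Commute (t : SL2 F) (c ^ j) := (show Commute (t : SL2 F) c from htc').zpow_right j
    have : (t : SL2 F)⁻¹ * c ^ j * t = c ^ j := by
      rw [mul_assoc, ← hcomm.eq, inv_mul_cancel_left]
    rw [this]; exact hyS
  rcases hel x hxS with hxz | ⟨y, hy, rfl⟩
  · exact ⟨S, (t : SL2 F) • S, htS.symm, (hfix x hxz).1, (hfix x hxz).2⟩
  · have hx0 : tr (w * y) = 0 :=
      tr_eq_zero_of_sq_eq_neg_one (sq_eq_neg_one_of_mul_zpowers htc hwc hy)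
    have hc4 : tr (c ^ (2 ^ (k - 1))) = 0 := by
      apply tr_eq_zero_of_sq_eq_neg_one
      rw [← pow_add, ← two_mul, ← pow_succ', show k - 1 + 1 = k by omega, hck]
    obtain ⟨g, hg⟩ := isConj_iff.mp (isConj_of_tr_eq_zero h2 hc4 hx0)
    obtain ⟨hm1', hm2'⟩ := hfix (c ^ (2 ^ (k - 1))) (Subgroup.pow_mem _ (Subgroup.mem_zpowers c) _)
    refine ⟨g • S, g • ((t : SL2 F) • S), ?_, ?_, ?_⟩
    · intro h
      exact htS (smul_left_cancel g h).symm
    · rw [mem_smul_sylow, ← hg]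
      have : g⁻¹ * (g * c ^ 2 ^ (k - 1) * g⁻¹) * g = c ^ 2 ^ (k - 1) := by group
      rw [this]; exact hm1'
    · rw [mem_smul_sylow, ← hg]
      have : g⁻¹ * (g * c ^ 2 ^ (k - 1) * g⁻¹) * g = c ^ 2 ^ (k - 1) := by group
      rw [this]; exact hm2'

theorem odd_card_of_char_ne_two (r : ℕ) [Fact r.Prime] [CharP F r] (hr : r ≠ 2) :
    Odd (Fintype.card F) := by
  obtain ⟨n, -, hn⟩ := FiniteField.card F r
  rw [hn]
  exact Odd.pow ((Nat.Prime.eq_two_or_odd' Fact.out).resolve_left hr)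

/-- The main statement for `SL₂`. -/
theorem red_SL2_iff (p : ℕ) [Fact p.Prime] :
    (∃ Q : Sylow p (SL2 F), Red p Q) ↔
      (p = 2 ∧ (¬ ∃ k : ℕ, Fintype.card F + 1 = 2 ^ k) ∧ (¬ ∃ k : ℕ, Fintype.card F = 2 ^ k) ∧
        ¬ ∃ k : ℕ, Fintype.card F = 2 ^ k + 1) := by
  obtain ⟨r, hr⟩ := CharP.exists F
  have hrp : Fact r.Prime := ⟨CharP.char_is_prime F r⟩
  constructor
  · rintro ⟨Q, hQ⟩
    by_cases hpr : p = r
    · subst hpr
      exact absurd hQ (not_red_char p Q)
    by_cases hp2 : p = 2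
    · subst hp2
      have hodd : Odd (Fintype.card F) := odd_card_of_char_ne_two r (fun h => hpr h.symm)
      refine ⟨rfl, ?_, ?_, ?_⟩
      · intro h
        exact not_red_two hodd (Or.inl h) Q hQ
      · rintro ⟨k, hk⟩
        rcases Nat.eq_zero_or_pos k with rfl | hk0
        · have : 1 < Fintype.card F := Fintype.one_lt_card
          omega
        · rw [hk] at hodd
          exact (Nat.not_even_iff_odd.mpr hodd) (Nat.even_pow.mpr ⟨even_two, by omega⟩)
      · intro h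
        exact not_red_two hodd (Or.inr h) Q hQ
    · exact absurd hQ (not_red_of_isCyclic Q (isCyclic_sylow_of_ne_char r p hp2 hpr Q))
  · rintro ⟨rfl, h1, h2, h3⟩
    have hr2 : r ≠ 2 := by
      rintro rfl
      obtain ⟨n, -, hn⟩ := FiniteField.card F 2
      exact h2 ⟨n, hn⟩
    have hodd : Odd (Fintype.card F) := odd_card_of_char_ne_two r hr2
    obtain ⟨Q⟩ : Nonempty (Sylow 2 (SL2 F)) := inferInstance
    refine ⟨Q, ?_⟩
    intro x hx
    obtain ⟨S₁, S₂, hne, hx1, hx2⟩ := exists_two_sylow hodd h1 h3 x hx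
    by_cases h : S₁ = Q
    · exact ⟨S₂, fun h' => hne (h.trans h'.symm), hx2⟩
    · exact ⟨S₁, h, hx1⟩

end Cfsg.Agent.Lib.Helper41Redundant
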