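import Mathlib
import Cfsg.Agent.Lib.Helper41Dk3
import Cfsg.Agent.Lib.Helper41Redundant

/-!
# Dickson, part 4: one unipotent class; semiregular action on the cosets of the Borel part
-/

set_option autoImplicit false

namespace Cfsg.Agent.Lib.Helper41Dk

open Matrix Cfsg.Agent.Lib.Helper46SL2 Cfsg.Agent.Lib.Helper41SL2

variable {F : Type*} [Field F]

local notation "SL2" => Matrix.SpecialLinearGroup (Fin 2)

theorem commute_of_mem_UU {a b : SL2 F} (ha : a ∈ UU F) (hb : b ∈ UU F) : Commute a b := by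
  rw [eq_uu_of_mem ha, eq_uu_of_mem hb]
  show uu _ * uu _ = uu _ * uu _
  rw [uu_mul, uu_mul, add_comm]

theorem commute_of_mem_sylow [Fintype F] (p : ℕ) [Fact p.Prime] [CharP F p]
    {S : Sylow p (SL2 F)} {a b : SL2 F} (ha : a ∈ S) (hb : b ∈ S) : Commute a b := by
  obtain ⟨h, rfl⟩ := MulAction.exists_smul_eq (SL2 F) (sylowUU p) S
  rw [mem_smul_sylowUU] at ha hb
  have := commute_of_mem_UU ha hb
  have h2 := (commute_conj_iff (g := h)).mpr this
  have e1 : h * (h⁻¹ * a * h) * h⁻¹ = a := by group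
  have e2 : h * (h⁻¹ * b * h) * h⁻¹ = b := by group
  rwa [e1, e2] at h2

/-- Two elements of order dividing `p` of `G` are related. -/
theorem rel_of_pow_char [Fintype F] (p : ℕ) [Fact p.Prime] [CharP F p] {G : Subgroup (SL2 F)}
    {u1 u2 : SL2 F} (h1 : u1 ∈ G) (h2 : u2 ∈ G) (hp1 : u1 ^ p = 1) (hp2 : u2 ^ p = 1) :
    Rel G u1 u2 := by
  have hpg : ∀ u : G, u ^ p = 1 → IsPGroup p (Subgroup.zpowers u) := by
    intro u hu
    rintro ⟨x, hx⟩
    obtain ⟨j, rfl⟩ := Subgroup.mem_zpowers_iff.mp hx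
    refine ⟨1, ?_⟩
    apply Subtype.ext
    simp only [pow_one, SubmonoidClass.mk_pow, OneMemClass.coe_one]
    rw [← zpow_natCast, ← _root_.zpow_mul, mul_comm, _root_.zpow_mul, zpow_natCast, hu,
      _root_.one_zpow]
  obtain ⟨P1, hP1⟩ := (hpg ⟨u1, h1⟩ (Subtype.ext hp1)).exists_le_sylow
  obtain ⟨P2, hP2⟩ := (hpg ⟨u2, h2⟩ (Subtype.ext hp2)).exists_le_sylow
  obtain ⟨g, rfl⟩ := MulAction.exists_smul_eq G P1 P2
  have m1 : (⟨u1, h1⟩ : G) ∈ P1 := hP1 (Subgroup.mem_zpowers _)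
  have m2 : (⟨u2, h2⟩ : G) ∈ g • P1 := hP2 (Subgroup.mem_zpowers _)
  rw [Cfsg.Agent.Lib.Helper41Redundant.mem_smul_sylow] at m2
  have hmap : IsPGroup p ((P1 : Subgroup G).map G.subtype) := P1.2.map _
  obtain ⟨S, hS⟩ := hmap.exists_le_sylow
  refine ⟨g.1, g.2, ?_⟩
  apply commute_of_mem_sylow p (S := S)
  · exact hS ⟨_, m2, rfl⟩
  · exact hS ⟨_, m1, rfl⟩

/-- All non-central elements of `G` with `tr² = 4` are related to `uu b`. -/
theorem rel_uu_of_tr [Fintype F] {G : Subgroup (SL2 F)}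
    (hZ : Subgroup.center (SL2 F) ≤ G) {b : F} (hbG : uu b ∈ G) {x : SL2 F} (hx : x ∈ G)
    (hxZ : x ∉ Subgroup.center (SL2 F)) (ht : tr x ^ 2 = 4) : Rel G (uu b) x := by
  obtain ⟨p, hp⟩ := CharP.exists F
  have : Fact p.Prime := ⟨(CharP.char_is_prime_or_zero F p).resolve_right
    (CharP.char_ne_zero_of_finite F p)⟩
  have hub : uu b ^ p = 1 := by rw [uu_pow, CharP.cast_eq_zero, zero_mul, uu_zero]
  have key : ∀ u : SL2 F, u ∉ Subgroup.center (SL2 F) → tr u = 2 → u ^ p = 1 := by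
    intro u hu htu
    obtain ⟨c, -, hc⟩ := exists_isConj_uu hu htu
    obtain ⟨w, hw⟩ := isConj_iff.mp hc
    have : u = w⁻¹ * uu c * w := by rw [← hw]; group
    have e : u ^ p = w⁻¹ * (uu c) ^ p * w := by
      rw [this]
      have := conj_pow (a := w⁻¹) (b := uu c) (i := p)
      rw [inv_inv] at this
      exact this
    rw [e, uu_pow, CharP.cast_eq_zero, zero_mul, uu_zero]; group
  have h5 : (tr x - 2) * (tr x + 2) = 0 := by linear_combination ht
  rcases mul_eq_zero.mp h5 with h6 | h6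
  · exact rel_of_pow_char p hbG hx hub (key x hxZ (by linear_combination h6))
  · have hneg : (-1 : SL2 F) ∈ Subgroup.center (SL2 F) := mem_center_iff_eq.mpr (Or.inr rfl)
    have e : -x = (-1 : SL2 F) * x := by simp
    have hx' : -x ∈ G := by rw [e]; exact mul_mem (hZ hneg) hx
    have hxZ' : -x ∉ Subgroup.center (SL2 F) := by
      intro h
      apply hxZ
      have := mul_mem hneg h
      simpa using this
    obtain ⟨g, hg, hc⟩ := rel_of_pow_char p hbG hx' hub
      (key (-x) hxZ' (by rw [tr_neg]; linear_combination -h6))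
    refine ⟨g, hg, ?_⟩
    have e2 : g⁻¹ * -x * g = -(g⁻¹ * x * g) := by simp
    rw [e2] at hc
    have h7 : -(g⁻¹ * x * g) * uu b = uu b * -(g⁻¹ * x * g) := hc
    show g⁻¹ * x * g * uu b = uu b * (g⁻¹ * x * g)
    have h8 : -(g⁻¹ * x * g * uu b) = -(uu b * (g⁻¹ * x * g)) := by
      simpa using h7
    exact neg_injective h8

/-- `|Q|` divides `|G : B| - 1`. -/
theorem card_QQ_dvd_relIndex [Finite F] (G : Subgroup (SL2 F)) :
    Nat.card (QQ G) ∣ (BB G).relIndex G + (Nat.card (QQ G) - 1) := by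
  apply card_dvd_of_fix_one (QQ_le G)
  intro g hg t ht ht1
  rw [BB, Subgroup.mem_inf, Subgroup.mem_inf, mem_Bor, mem_Bor]
  constructor
  · rintro ⟨h1, -⟩
    refine ⟨?_, hg⟩
    have h2 := upper_of_conj_mem_UU (g := g⁻¹) ht.1 ht1
    rw [inv_inv, inv_10, neg_eq_zero] at h2
    apply h2
    -- the conjugate is upper triangular with trace two
    rw [eq_uu_of_mem ht.1] at h1 ⊢
    have h3 := conj_uu_10 g⁻¹ (t 0 1)
    rw [inv_inv, h1, inv_10] at h3
    have hb : t 0 1 ≠ 0 := by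
      intro h0
      apply ht1
      rw [eq_uu_of_mem ht.1, h0, uu_zero]
    have h4 : g 1 0 = 0 := by
      have : t 0 1 * g 1 0 ^ 2 = 0 := by linear_combination h3
      exact pow_eq_zero_iff (two_ne_zero) |>.mp ((mul_eq_zero.mp this).resolve_left hb)
    have := conj_mem_UU_of_upper (g := g⁻¹) (by rw [inv_10, h4, neg_zero]) (uu_mem (t 0 1))
    rwa [inv_inv] at this
  · rintro ⟨h1, -⟩
    have := conj_mem_UU_of_upper (g := g⁻¹) (by rw [inv_10, h1, neg_zero]) ht.1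
    rw [inv_inv] at this
    exact ⟨this.2.1, mul_mem (mul_mem (inv_mem hg) ht.2) hg⟩

theorem center_le_BB {G : Subgroup (SL2 F)} (hZ : Subgroup.center (SL2 F) ≤ G) :
    Subgroup.center (SL2 F) ≤ BB G := fun _ hz => ⟨(mem_center_iff.mp hz).2.1, hZ hz⟩

/-- A semisimple class not meeting the Borel part acts semiregularly on `G / B`. -/
theorem card_AA_dvd_relIndex [Finite F] {G : Subgroup (SL2 F)}
    (hZ : Subgroup.center (SL2 F) ≤ G) {z : SL2 F} (hz : tr z ^ 2 ≠ 4)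
    (hrel : ∀ y ∈ BB G, y 0 0 ^ 2 ≠ 1 → ¬ Rel G y z) :
    Nat.card (AA G z) ∣ ee F * (BB G).relIndex G := by
  apply card_dvd_of_semiregular (AA_le G z) (center_le_AA hZ z) (center_le_BB hZ)
  intro g hg t ht htB
  by_contra htZ
  have htc : Commute t z := (mem_AA.mp ht).1
  have hc' : Commute (g⁻¹ * z * g) (g⁻¹ * t * g) := by
    have := (commute_conj_iff (g := g⁻¹)).mpr htc.symm
    simpa using this
  by_cases h1 : (g⁻¹ * t * g) 0 0 ^ 2 = 1
  · -- then `g⁻¹ t g` commutes with `uu 1`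
    have hd := diag_of_mem_Bor htB.1
    have h2 : (g⁻¹ * t * g) 0 0 = (g⁻¹ * t * g) 1 1 := by
      have h0 : (g⁻¹ * t * g) 0 0 ≠ 0 := by
        intro h0; rw [h0, zero_mul] at hd; exact zero_ne_one hd
      apply mul_left_cancel₀ h0
      rw [hd, ← sq, h1]
    have h3 : Commute (g⁻¹ * t * g) (uu (1 : F)) :=
      (commute_uu_iff one_ne_zero).mpr ⟨mem_Bor.mp htB.1, h2⟩
    have h4 : Commute (g⁻¹ * z * g) (uu (1 : F)) :=
      ct_SL2 _ _ _ (conj_not_mem_center' htZ g) hc' h3.symm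
    obtain ⟨h5, h6⟩ := (commute_uu_iff one_ne_zero).mp h4
    apply hz
    have h7 : tr z = tr (g⁻¹ * z * g) := by
      have := tr_conj z g⁻¹
      rw [inv_inv] at this
      exact this.symm
    have h8 := det2 (g⁻¹ * z * g)
    rw [h5, ← h6] at h8
    rw [h7]
    change ((g⁻¹ * z * g) 0 0 + (g⁻¹ * z * g) 1 1) ^ 2 = 4
    rw [← h6]
    linear_combination 4 * h8
  · exact hrel _ htB h1 ⟨g, hg, hc'⟩

end Cfsg.Agent.Lib.Helper41Dk
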