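import Mathlib

/-!
# Dickson, part 5: the arithmetic of the class equation
-/

set_option autoImplicit false

namespace Cfsg.Agent.Lib.Helper41Dk

theorem inv_le_half {a : ℕ} (h : 2 ≤ a) : 1 / (a : ℚ) ≤ 1 / 2 := by
  have : (2 : ℚ) ≤ a := by exact_mod_cast h
  exact one_div_le_one_div_of_le (by norm_num) this

theorem inv_pos' {a : ℕ} (h : 1 ≤ a) : 0 < 1 / (a : ℚ) := by
  have : (0 : ℚ) < a := by exact_mod_cast h
  positivity

theorem num_1 {a g : ℕ} (h1 : 2 ≤ a) (hg : 1 ≤ g) (h : 1 - 1 / (a : ℚ) = 1 - 1 / (g : ℚ)) :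
    a = g := by
  have ha : (a : ℚ) ≠ 0 := by positivity
  have hg' : (g : ℚ) ≠ 0 := by positivity
  field_simp at h
  have : (a : ℚ) = g := by linarith
  exact_mod_cast this

theorem num_12 {a1 a2 g : ℕ} (h1 : 2 ≤ a1) (h2 : 2 ≤ a2) (hg : 1 ≤ g)
    (h : (1 - 1 / (a1 : ℚ)) + (1 - 1 / (a2 : ℚ)) / 2 = 1 - 1 / (g : ℚ)) :
    (a1 = 2 ∧ g = 2 * a2) ∨ (a1 = 3 ∧ a2 = 2 ∧ g = 12) := by
  have ha1 : (a1 : ℚ) ≠ 0 := by positivity
  have ha2 : (a2 : ℚ) ≠ 0 := by positivity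
  have hg' : (g : ℚ) ≠ 0 := by positivity
  have E : (a1 : ℚ) * a2 * g + 2 * a1 * a2 = 2 * a2 * g + a1 * g := by
    field_simp at h
    linarith
  have E' : a1 * a2 * g + 2 * a1 * a2 = 2 * a2 * g + a1 * g := by exact_mod_cast E
  rcases Nat.lt_or_ge 2 a1 with h3 | h3
  · right
    have ha2' : a2 = 2 := by
      by_contra hne
      have h4 : 3 ≤ a2 := by omega
      have h5 : 2 * a2 + a1 ≤ a1 * a2 := by nlinarith
      have h6 := Nat.mul_le_mul_right g h5
      nlinarith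
    subst ha2'
    have h7 : a1 < 4 := by
      by_contra hne
      have h4 : 4 ≤ a1 := by omega
      nlinarith
    have : a1 = 3 := by omega
    subst this
    refine ⟨rfl, rfl, ?_⟩
    omega
  · left
    have : a1 = 2 := by omega
    subst this
    refine ⟨rfl, ?_⟩
    nlinarith

theorem num_222_sorted {a1 a2 a3 g : ℕ} (h1 : 2 ≤ a1) (h12 : a1 ≤ a2) (h23 : a2 ≤ a3) (hg : 1 ≤ g)
    (E : g * (a2 * a3 + a1 * a3 + a1 * a2) = a1 * a2 * a3 * g + 2 * a1 * a2 * a3) :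
    a1 = 2 ∧ ((a2 = 2 ∧ g = 2 * a3) ∨ (a2 = 3 ∧ a3 = 3 ∧ g = 12) ∨ (a2 = 3 ∧ a3 = 4 ∧ g = 24) ∨
      (a2 = 3 ∧ a3 = 5 ∧ g = 60)) := by
  have ha1 : a1 = 2 := by
    by_contra hne
    have h3 : 3 ≤ a1 := by omega
    have h4 : a2 * a3 + a1 * a3 + a1 * a2 ≤ a1 * a2 * a3 := by
      have e1 : 3 * (a2 * a3) ≤ a1 * (a2 * a3) := Nat.mul_le_mul_right _ h3
      have e2 : 3 * (a1 * a3) ≤ a2 * (a1 * a3) := Nat.mul_le_mul_right _ (by omega)
      have e3 : 3 * (a1 * a2) ≤ a3 * (a1 * a2) := Nat.mul_le_mul_right _ (by omega)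
      nlinarith
    have h5 := Nat.mul_le_mul_left g h4
    have h6 : 0 < a1 * a2 * a3 := Nat.mul_pos (Nat.mul_pos (by omega) (by omega)) (by omega)
    nlinarith
  subst ha1
  refine ⟨rfl, ?_⟩
  have ha2 : a2 < 4 := by
    by_contra hne
    have h3 : 4 ≤ a2 := by omega
    have h4 : a2 * a3 + 2 * a3 + 2 * a2 ≤ 2 * a2 * a3 := by nlinarith
    have h5 := Nat.mul_le_mul_left g h4
    have h6 : 0 < 2 * a2 * a3 := Nat.mul_pos (Nat.mul_pos (by omega) (by omega)) (by omega)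
    nlinarith
  interval_cases a2
  · left
    refine ⟨rfl, ?_⟩
    nlinarith
  · right
    have ha3 : a3 < 6 := by
      by_contra hne
      have h3 : 6 ≤ a3 := by omega
      have h4 : 3 * a3 + 2 * a3 + 2 * 3 ≤ 2 * 3 * a3 := by omega
      have h5 := Nat.mul_le_mul_left g h4
      nlinarith
    interval_cases a3
    · left; refine ⟨rfl, rfl, ?_⟩; omega
    · right; left; refine ⟨rfl, rfl, ?_⟩; omega
    · right; right; refine ⟨rfl, rfl, ?_⟩; omega

theorem num_222_eq {a1 a2 a3 g : ℕ} (h1 : 2 ≤ a1) (h2 : 2 ≤ a2) (h3 : 2 ≤ a3) (hg : 1 ≤ g)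
    (h : (1 - 1 / (a1 : ℚ)) / 2 + (1 - 1 / (a2 : ℚ)) / 2 + (1 - 1 / (a3 : ℚ)) / 2 =
      1 - 1 / (g : ℚ)) :
    g * (a2 * a3 + a1 * a3 + a1 * a2) = a1 * a2 * a3 * g + 2 * a1 * a2 * a3 := by
  have ha1 : (a1 : ℚ) ≠ 0 := by positivity
  have ha2 : (a2 : ℚ) ≠ 0 := by positivity
  have ha3 : (a3 : ℚ) ≠ 0 := by positivity
  have hg' : (g : ℚ) ≠ 0 := by positivity
  have E : (g : ℚ) * (a2 * a3 + a1 * a3 + a1 * a2) = a1 * a2 * a3 * g + 2 * a1 * a2 * a3 := by
    field_simp at h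
    linarith
  exact_mod_cast E

theorem num_k1 {q a g : ℕ} (hq : 2 ≤ q) (ha : 2 ≤ a) (hg : 1 ≤ g)
    (h : 1 / (q : ℚ) - 1 / (g : ℚ) = (1 - 1 / (a : ℚ)) / 2) :
    (q = 2 ∧ g = 2 * a) ∨ (q = 3 ∧ a = 2 ∧ g = 12) := by
  have hq' : (q : ℚ) ≠ 0 := by positivity
  have ha' : (a : ℚ) ≠ 0 := by positivity
  have hg' : (g : ℚ) ≠ 0 := by positivity
  have E : 2 * (g : ℚ) * a + q * g = q * g * a + 2 * q * a := by
    field_simp at h
    linarith
  have E' : 2 * g * a + q * g = q * g * a + 2 * q * a := by exact_mod_cast E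
  have hq4 : q < 4 := by
    by_contra hne
    have h4 : 4 ≤ q := by omega
    have h5 : 2 * a + q ≤ q * a := by nlinarith
    have h6 := Nat.mul_le_mul_left g h5
    have h7 : 0 < q * a := by positivity
    nlinarith
  interval_cases q
  · left; refine ⟨rfl, ?_⟩; nlinarith
  · right
    have ha3 : a < 3 := by
      by_contra hne
      have h4 : 3 ≤ a := by omega
      nlinarith
    have : a = 2 := by omega
    subst this
    refine ⟨rfl, rfl, ?_⟩
    omega

/-- the main case -/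
theorem num_main {q k n g2 c r : ℕ} (hk : 2 ≤ k) (hkq : k + 1 ≤ q) (hg2 : 2 ≤ g2)
    (hn : n = g2 * c) (hr : n = 1 + q * r)
    (E : q * k * c = 2 + (q - 2) * g2 * c) :
    (n = q + 1 ∧ k + 1 = q ∧ g2 = q + 1) ∨ (n = q + 1 ∧ 2 * k + 1 = q ∧ 2 * g2 = q + 1) ∨
      (q = 3 ∧ k = 2 ∧ n = 10 ∧ g2 = 5) := by
  obtain ⟨m, rfl⟩ : ∃ m, q = m + 3 := ⟨q - 3, by omega⟩
  have e1 : m + 3 - 2 = m + 1 := by omega
  rw [e1] at E
  have hc : c ∣ 2 := by
    have h1 : c ∣ (m + 3) * k * c := Dvd.intro_left _ rfl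
    have h2 : c ∣ (m + 1) * g2 * c := Dvd.intro_left _ rfl
    rw [E] at h1
    exact (Nat.dvd_add_left h2).mp h1
  have hc2 : c = 1 ∨ c = 2 := by
    have := Nat.le_of_dvd (by norm_num) hc
    have h0 : c ≠ 0 := by rintro rfl; simp at hc
    omega
  have hr1 : 1 ≤ r := by
    rcases Nat.eq_zero_or_pos r with rfl | h
    · rcases hc2 with rfl | rfl <;> omega
    · exact h
  rcases hc2 with rfl | rfl
  · -- c = 1
    left
    simp only [mul_one] at E hn
    subst hn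
    -- (m+1) (1 + (m+3) r) + 2 = (m+3) k
    rw [hr] at E
    have h3 : k = 1 + (m + 1) * r := by
      have : (m + 3) * k = (m + 3) * (1 + (m + 1) * r) := by nlinarith
      exact Nat.eq_of_mul_eq_mul_left (by omega) this
    have h4 : r = 1 := by
      by_contra hne
      have : 2 ≤ r := by omega
      nlinarith
    subst h4
    refine ⟨by omega, by omega, by omega⟩
  · -- c = 2
    right
    have h3 : 2 * k = 1 + (m + 1) * r := by
      have h5 : (m + 1) * (g2 * 2) = (m + 1) * (1 + (m + 3) * r) := by rw [← hn, hr]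
      have : (m + 3) * (2 * k) = (m + 3) * (1 + (m + 1) * r) := by nlinarith
      exact Nat.eq_of_mul_eq_mul_left (by omega) this
    have h4 : r = 1 ∨ r = 2 ∨ 3 ≤ r := by omega
    rcases h4 with rfl | rfl | h4
    · left
      refine ⟨by omega, by omega, by omega⟩
    · exfalso; omega
    · right
      have hm : m = 0 := by
        by_contra hne
        have : 1 ≤ m := by omega
        nlinarith
      subst hm
      have : r = 3 := by omega
      subst this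
      refine ⟨rfl, by omega, by omega, by omega⟩

end Cfsg.Agent.Lib.Helper41Dk
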