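import Mathlib
import Cfsg.Agent.Lib.Helper41Dk4
import Cfsg.Agent.Lib.Helper41Dk5

/-!
# Dickson, part 6: analysis of the class equation, the `p'`-case
-/

set_option autoImplicit false

namespace Cfsg.Agent.Lib.Helper41Dk

open Matrix Cfsg.Agent.Lib.Helper46SL2 Cfsg.Agent.Lib.Helper41SL2
open scoped Classical

variable {F : Type*} [Field F]

local notation "SL2" => Matrix.SpecialLinearGroup (Fin 2)

/-- data of a semisimple class -/
structure SSd (G : Subgroup (SL2 F)) (x : SL2 F) (a n : ℕ) : Prop where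
  mem : x ∈ G
  tr : tr x ^ 2 ≠ 4
  ha : 2 ≤ a
  cardA : Nat.card (AA G x) = ee F * a
  cardN : Nat.card (NN G x) = ee F * (n * a)
  mass : mass G x = (1 - 1 / (a : ℚ)) / n
  hn : (n = 1 ∧ NN G x = AA G x) ∨ (n = 2 ∧ ∃ y ∈ G, y * x * y⁻¹ = x⁻¹)

theorem exists_SSd [Finite F] {G : Subgroup (SL2 F)} (hZ : Subgroup.center (SL2 F) ≤ G)
    {x : SL2 F} (hx : x ∈ G) (ht : tr x ^ 2 ≠ 4) : ∃ a n, SSd G x a n := by
  obtain ⟨a, ha, hA, ⟨h1, h2⟩ | ⟨h1, h2, h3⟩⟩ := mass_ss hZ hx ht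
  · exact ⟨a, 1, hx, ht, ha, hA, by rw [h1, hA, one_mul], by rw [h2]; simp, Or.inl ⟨rfl, h1⟩⟩
  · exact ⟨a, 2, hx, ht, ha, hA, by rw [h1, hA]; ring, by rw [h3]; simp, Or.inr ⟨rfl, h2⟩⟩

theorem SSd.not_center {G : Subgroup (SL2 F)} {x : SL2 F} {a n : ℕ} (d : SSd G x a n) :
    x ∉ Subgroup.center (SL2 F) := not_mem_center_of_tr d.tr

theorem SSd.mass_ge {G : Subgroup (SL2 F)} {x : SL2 F} {a n : ℕ} (d : SSd G x a n) :
    1 / 4 ≤ Helper41Dk.mass G x := by
  have h1 := inv_le_half d.ha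
  rw [d.mass]
  rcases d.hn with ⟨rfl, -⟩ | ⟨rfl, -⟩
  · push_cast; linarith
  · push_cast; linarith

theorem SSd.mass_ge_one {G : Subgroup (SL2 F)} {x : SL2 F} {a : ℕ} (d : SSd G x a 1) :
    1 / 2 ≤ Helper41Dk.mass G x := by
  have h1 := inv_le_half d.ha
  rw [d.mass]
  push_cast; linarith

theorem SSd.le [Finite F] {G : Subgroup (SL2 F)} {x : SL2 F} {a n g : ℕ} (d : SSd G x a n)
    (hg : Nat.card G = ee F * g) : n * a ≤ g := by
  have h1 := Subgroup.card_le_of_le (NN_le G x)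
  rw [d.cardN, hg] at h1
  exact Nat.le_of_mul_le_mul_left h1 ee_pos

theorem SSd.eq_NN [Finite F] {G : Subgroup (SL2 F)} {x : SL2 F} {a n g : ℕ} (d : SSd G x a n)
    (hg : Nat.card G = ee F * g) (h : g = n * a) : G = NN G x := by
  symm
  apply Subgroup.eq_of_le_of_card_ge (NN_le G x)
  rw [d.cardN, hg, h]

/-- no element is central modulo the centre -/
def NoCentral (G : Subgroup (SL2 F)) : Prop :=
  ∀ x ∈ G, x ∉ Subgroup.center (SL2 F) → Nat.card (NN G x) < Nat.card G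

/-- the icosahedral outcome -/
def O60 (G : Subgroup (SL2 F)) : Prop :=
  Nat.card G = ee F * 60 ∧ ∃ x2 x3 x5 : SL2 F,
    (x2 ∈ G ∧ x2 ∉ Subgroup.center (SL2 F) ∧ Nat.card (AA G x2) = ee F * 2 ∧
      mass G x2 = 1 / 4) ∧
    (x3 ∈ G ∧ x3 ∉ Subgroup.center (SL2 F) ∧ Nat.card (AA G x3) = ee F * 3 ∧
      mass G x3 = 1 / 3) ∧
    (x5 ∈ G ∧ x5 ∉ Subgroup.center (SL2 F) ∧ Nat.card (AA G x5) = ee F * 5 ∧
      mass G x5 = 2 / 5) ∧
    ∀ z ∈ G, z ∉ Subgroup.center (SL2 F) → Rel G x2 z ∨ Rel G x3 z ∨ Rel G x5 z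

/-- the list of outcomes in the `p'`-case -/
def OutA (G : Subgroup (SL2 F)) : Prop :=
  G = Subgroup.center (SL2 F) ∨ (∃ x ∈ G, tr x ^ 2 ≠ 4 ∧ G = AA G x) ∨
    (∃ x ∈ G, tr x ^ 2 ≠ 4 ∧ G = NN G x ∧ ∃ y ∈ G, y * x * y⁻¹ = x⁻¹) ∨
    (Nat.card G = ee F * 12 ∧ NoCentral G) ∨
    (Nat.card G = ee F * 24 ∧ NoCentral G ∧ ∃ x ∈ G, x ∉ Subgroup.center (SL2 F) ∧
      Nat.card (AA G x) = ee F * 3 ∧ Nat.card (NN G x) = ee F * 6) ∨ O60 G

theorem noCentral_of_cover {G : Subgroup (SL2 F)} {P : SL2 F → Prop}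
    (hP : ∀ x, P x → x ∉ Subgroup.center (SL2 F) ∧ Nat.card (NN G x) < Nat.card G)
    (hcov : ∀ z ∈ G, z ∉ Subgroup.center (SL2 F) → ∃ x, P x ∧ Rel G x z) : NoCentral G := by
  intro z hz hzZ
  obtain ⟨x, hx, hrel⟩ := hcov z hz hzZ
  rw [card_NN_of_rel ct_SL2 (hP x hx).1 hzZ hrel]
  exact (hP x hx).2

theorem caseA3 [Finite F] {G : Subgroup (SL2 F)} {g : ℕ} (hg : Nat.card G = ee F * g)
    (hg1 : 1 ≤ g) {x1 x2 x3 : SL2 F} {a1 a2 a3 : ℕ} (d1 : SSd G x1 a1 2) (d2 : SSd G x2 a2 2)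
    (d3 : SSd G x3 a3 2)
    (hcov : ∀ z ∈ G, z ∉ Subgroup.center (SL2 F) → Rel G x1 z ∨ Rel G x2 z ∨ Rel G x3 z)
    (hsum : mass G x1 + mass G x2 + mass G x3 = 1 - 1 / (g : ℚ)) (h12 : a1 ≤ a2) (h23 : a2 ≤ a3) :
    OutA G := by
  rw [d1.mass, d2.mass, d3.mass] at hsum
  have E := num_222_eq d1.ha d2.ha d3.ha hg1 (by exact_mod_cast hsum)
  have hepos : 0 < ee F := ee_pos
  have hnc : ∀ N : ℕ, g = N → 2 * a1 < N → 2 * a2 < N → 2 * a3 < N → NoCentral G := by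
    intro N hN h1 h2 h3
    apply noCentral_of_cover (P := fun x => x = x1 ∨ x = x2 ∨ x = x3)
    · rintro x (rfl | rfl | rfl)
      · exact ⟨d1.not_center, by rw [d1.cardN, hg, hN]; exact Nat.mul_lt_mul_of_pos_left h1 hepos⟩
      · exact ⟨d2.not_center, by rw [d2.cardN, hg, hN]; exact Nat.mul_lt_mul_of_pos_left h2 hepos⟩
      · exact ⟨d3.not_center, by rw [d3.cardN, hg, hN]; exact Nat.mul_lt_mul_of_pos_left h3 hepos⟩
    · intro z hz hzZ
      rcases hcov z hz hzZ with h | h | h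
      · exact ⟨x1, Or.inl rfl, h⟩
      · exact ⟨x2, Or.inr (Or.inl rfl), h⟩
      · exact ⟨x3, Or.inr (Or.inr rfl), h⟩
  obtain ⟨rfl, ⟨rfl, h⟩ | ⟨rfl, rfl, h⟩ | ⟨rfl, rfl, h⟩ | ⟨rfl, rfl, h⟩⟩ :=
    num_222_sorted d1.ha h12 h23 hg1 E
  · right; right; left
    rcases d3.hn with ⟨h0, -⟩ | ⟨-, hy⟩
    · omega
    · exact ⟨x3, d3.mem, d3.tr, d3.eq_NN hg h, hy⟩
  · right; right; right; left
    exact ⟨by rw [hg, h], hnc 12 h (by norm_num) (by norm_num) (by norm_num)⟩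
  · right; right; right; right; left
    exact ⟨by rw [hg, h], hnc 24 h (by norm_num) (by norm_num) (by norm_num),
      x2, d2.mem, d2.not_center, d2.cardA, d2.cardN⟩
  · right; right; right; right; right
    refine ⟨by rw [hg, h], x1, x2, x3, ⟨d1.mem, d1.not_center, d1.cardA, ?_⟩,
      ⟨d2.mem, d2.not_center, d2.cardA, ?_⟩, ⟨d3.mem, d3.not_center, d3.cardA, ?_⟩, hcov⟩
    · rw [d1.mass]; norm_num
    · rw [d2.mass]; norm_num
    · rw [d3.mass]; norm_num

theorem SSd.n_cases {G : Subgroup (SL2 F)} {x : SL2 F} {a n : ℕ} (d : SSd G x a n) :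
    n = 1 ∨ n = 2 := by
  rcases d.hn with ⟨h, -⟩ | ⟨h, -⟩
  · exact Or.inl h
  · exact Or.inr h

theorem card_le_of_sum_lt {G : Subgroup (SL2 F)} {S : Finset (SL2 F)}
    (hS : ∀ x ∈ S, ∃ a n, SSd G x a n) : (S.card : ℚ) / 4 ≤ ∑ x ∈ S, mass G x := by
  have := Finset.card_nsmul_le_sum S (fun x => mass G x) (1 / 4) (by
    intro x hx
    obtain ⟨a, n, d⟩ := hS x hx
    exact d.mass_ge)
  rw [nsmul_eq_mul] at this
  linarith

/-- a set of semisimple classes of total mass `< 1/4` is empty -/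
theorem sum_lt_quarter {G : Subgroup (SL2 F)} {S : Finset (SL2 F)}
    (hS : ∀ x ∈ S, ∃ a n, SSd G x a n) (h : ∑ x ∈ S, mass G x < 1 / 4) : S = ∅ := by
  have h1 := card_le_of_sum_lt hS
  have h2 : (S.card : ℚ) < 1 := by linarith
  have h3 : S.card < 1 := by exact_mod_cast h2
  exact Finset.card_eq_zero.mp (by omega)

/-- total mass `< 1/2` -/
theorem sum_lt_half {G : Subgroup (SL2 F)} {S : Finset (SL2 F)}
    (hS : ∀ x ∈ S, ∃ a n, SSd G x a n) (h : ∑ x ∈ S, mass G x < 1 / 2) :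
    S = ∅ ∨ ∃ x a, S = {x} ∧ SSd G x a 2 := by
  have h1 := card_le_of_sum_lt hS
  have h2 : (S.card : ℚ) < 2 := by linarith
  have h3 : S.card < 2 := by exact_mod_cast h2
  have h4 : S.card = 0 ∨ S.card = 1 := by omega
  rcases h4 with h4 | h4
  · exact Or.inl (Finset.card_eq_zero.mp h4)
  · right
    obtain ⟨x, rfl⟩ := Finset.card_eq_one.mp h4
    obtain ⟨a, n, d⟩ := hS x (Finset.mem_singleton_self x)
    rcases d.n_cases with rfl | rfl
    · exfalso
      rw [Finset.sum_singleton] at h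
      have := d.mass_ge_one
      linarith
    · exact ⟨x, a, rfl, d⟩

/-- total mass `< 1` -/
theorem sum_lt_one {G : Subgroup (SL2 F)} {S : Finset (SL2 F)}
    (hS : ∀ x ∈ S, ∃ a n, SSd G x a n) (h : ∑ x ∈ S, mass G x < 1) :
    S = ∅ ∨ (∃ x a n, S = {x} ∧ SSd G x a n) ∨
      (∃ x1 x2 a1 a2 n, x1 ≠ x2 ∧ S = {x1, x2} ∧ SSd G x1 a1 n ∧ SSd G x2 a2 2) ∨
      (∃ x1 x2 x3 a1 a2 a3, x1 ≠ x2 ∧ x1 ≠ x3 ∧ x2 ≠ x3 ∧ S = {x1, x2, x3} ∧ SSd G x1 a1 2 ∧
        SSd G x2 a2 2 ∧ SSd G x3 a3 2) := by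
  have h1 := card_le_of_sum_lt hS
  have h2 : (S.card : ℚ) < 4 := by linarith
  have h3 : S.card < 4 := by exact_mod_cast h2
  have h4 : S.card = 0 ∨ S.card = 1 ∨ S.card = 2 ∨ S.card = 3 := by omega
  rcases h4 with h4 | h4 | h4 | h4
  · exact Or.inl (Finset.card_eq_zero.mp h4)
  · right; left
    obtain ⟨x, rfl⟩ := Finset.card_eq_one.mp h4
    obtain ⟨a, n, d⟩ := hS x (Finset.mem_singleton_self x)
    exact ⟨x, a, n, rfl, d⟩
  · right; right; left
    obtain ⟨x1, x2, hne, rfl⟩ := Finset.card_eq_two.mp h4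
    obtain ⟨a1, n1, d1⟩ := hS x1 (by simp)
    obtain ⟨a2, n2, d2⟩ := hS x2 (by simp)
    rw [Finset.sum_pair hne] at h
    rcases d2.n_cases with rfl | rfl
    · rcases d1.n_cases with rfl | rfl
      · exfalso
        have := d1.mass_ge_one
        have := d2.mass_ge_one
        linarith
      · exact ⟨x2, x1, a2, a1, 1, hne.symm, Finset.pair_comm _ _, d2, d1⟩
    · exact ⟨x1, x2, a1, a2, n1, hne, rfl, d1, d2⟩
  · right; right; right
    obtain ⟨x1, x2, x3, h12, h13, h23, rfl⟩ := Finset.card_eq_three.mp h4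
    obtain ⟨a1, n1, d1⟩ := hS x1 (by simp)
    obtain ⟨a2, n2, d2⟩ := hS x2 (by simp)
    obtain ⟨a3, n3, d3⟩ := hS x3 (by simp)
    rw [Finset.sum_insert (by simp [h12, h13]), Finset.sum_pair h23] at h
    have m1 := d1.mass_ge
    have m2 := d2.mass_ge
    have m3 := d3.mass_ge
    rcases d1.n_cases with rfl | rfl
    · exfalso
      have := d1.mass_ge_one
      linarith
    rcases d2.n_cases with rfl | rfl
    · exfalso
      have := d2.mass_ge_one
      linarith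
    rcases d3.n_cases with rfl | rfl
    · exfalso
      have := d3.mass_ge_one
      linarith
    exact ⟨x1, x2, x3, a1, a2, a3, h12, h13, h23, rfl, d1, d2, d3⟩

theorem exists_g [Finite F] {G : Subgroup (SL2 F)} (hZ : Subgroup.center (SL2 F) ≤ G) :
    ∃ g : ℕ, 1 ≤ g ∧ Nat.card G = ee F * g ∧
      (1 - (Nat.card (Subgroup.center (SL2 F)) : ℚ) / Nat.card G = 1 - 1 / (g : ℚ)) := by
  obtain ⟨g, hg⟩ := Subgroup.card_dvd_of_le hZ
  have hpos : 0 < Nat.card G := Nat.card_pos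
  have hepos : 0 < ee F := ee_pos
  have hg1 : 1 ≤ g := by
    rcases Nat.eq_zero_or_pos g with rfl | h
    · simp at hg; omega
    · exact h
  refine ⟨g, hg1, hg, ?_⟩
  rw [hg]
  have h1 : (Nat.card (Subgroup.center (SL2 F)) : ℚ) ≠ 0 := by
    have : 0 < Nat.card (Subgroup.center (SL2 F)) := hepos
    positivity
  have h2 : (g : ℚ) ≠ 0 := by positivity
  push_cast
  field_simp

/-- The `p'`-case of the classification. -/
theorem caseA [Finite F] {G : Subgroup (SL2 F)} (hZ : Subgroup.center (SL2 F) ≤ G)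
    (hss : ∀ x ∈ G, x ∉ Subgroup.center (SL2 F) → tr x ^ 2 ≠ 4) : OutA G := by
  obtain ⟨R, hR1, hR2, hR3, hsum⟩ := exists_reps' ct_SL2 hZ
  obtain ⟨g, hg1, hg, hgq⟩ := exists_g hZ
  rw [hgq] at hsum
  have hS : ∀ x ∈ R, ∃ a n, SSd G x a n := fun x hx =>
    exists_SSd hZ (hR1 x hx).1 (hss x (hR1 x hx).1 (hR1 x hx).2)
  have hgpos := inv_pos' hg1
  have hepos : 0 < ee F := ee_pos
  rcases sum_lt_one hS (by rw [hsum]; linarith) with rfl | ⟨x, a, n, rfl, d⟩ |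
    ⟨x1, x2, a1, a2, n, hne, rfl, d1, d2⟩ | ⟨x1, x2, x3, a1, a2, a3, h12, h13, h23, rfl, d1, d2, d3⟩
  · left
    apply le_antisymm _ hZ
    intro z hz
    by_contra hzZ
    obtain ⟨x, hx, -⟩ := hR3 z hz hzZ
    simp at hx
  · rw [Finset.sum_singleton, d.mass] at hsum
    rcases d.hn with ⟨rfl, hN⟩ | ⟨rfl, -⟩
    · right; left
      have h1 := num_1 d.ha hg1 (by simpa using hsum)
      refine ⟨x, d.mem, d.tr, ?_⟩
      rw [← hN]
      exact d.eq_NN hg (by rw [one_mul, h1])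
    · exfalso
      have h1 := d.le hg
      have h2 : (4 : ℚ) ≤ g := by
        have : 4 ≤ g := by have := d.ha; omega
        exact_mod_cast this
      have h3 : 1 / (g : ℚ) ≤ 1 / 4 := one_div_le_one_div_of_le (by norm_num) h2
      have h4 := inv_pos' (show 1 ≤ a by have := d.ha; omega)
      push_cast at hsum
      linarith
  · rw [Finset.sum_pair hne, d1.mass, d2.mass] at hsum
    rcases d1.hn with ⟨rfl, hN⟩ | ⟨rfl, -⟩
    · rcases num_12 d1.ha d2.ha hg1 (by simpa using hsum) with ⟨rfl, h⟩ | ⟨rfl, rfl, h⟩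
      · right; right; left
        rcases d2.hn with ⟨h0, -⟩ | ⟨-, hy⟩
        · omega
        · exact ⟨x2, d2.mem, d2.tr, d2.eq_NN hg h, hy⟩
      · right; right; right; left
        refine ⟨by rw [hg, h], ?_⟩
        apply noCentral_of_cover (P := fun x => x = x1 ∨ x = x2)
        · rintro x (rfl | rfl)
          · exact ⟨d1.not_center, by
              rw [d1.cardN, hg, h]; exact Nat.mul_lt_mul_of_pos_left (by norm_num) hepos⟩
          · exact ⟨d2.not_center, by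
              rw [d2.cardN, hg, h]; exact Nat.mul_lt_mul_of_pos_left (by norm_num) hepos⟩
        · intro z hz hzZ
          obtain ⟨x, hx, hrel⟩ := hR3 z hz hzZ
          simp only [Finset.mem_insert, Finset.mem_singleton] at hx
          exact ⟨x, hx, hrel⟩
    · exfalso
      have l1 := d1.le hg
      have l2 := d2.le hg
      have p1 : (0 : ℚ) < a1 := by have := d1.ha; positivity
      have p2 : (0 : ℚ) < a2 := by have := d2.ha; positivity
      have pg : (0 : ℚ) < g := by positivity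
      have q1 : 1 / (g : ℚ) ≤ 1 / (2 * a1 : ℚ) :=
        one_div_le_one_div_of_le (by positivity) (by exact_mod_cast l1)
      have q2 : 1 / (g : ℚ) ≤ 1 / (2 * a2 : ℚ) :=
        one_div_le_one_div_of_le (by positivity) (by exact_mod_cast l2)
      have e1 : 1 / (2 * a1 : ℚ) = (1 / (a1 : ℚ)) / 2 := by field_simp
      have e2 : 1 / (2 * a2 : ℚ) = (1 / (a2 : ℚ)) / 2 := by field_simp
      push_cast at hsum
      rw [e1] at q1
      rw [e2] at q2
      linarith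
  · rw [Finset.sum_insert (by simp [h12, h13]), Finset.sum_pair h23, ← add_assoc] at hsum
    have hcov : ∀ z ∈ G, z ∉ Subgroup.center (SL2 F) → Rel G x1 z ∨ Rel G x2 z ∨ Rel G x3 z := by
      intro z hz hzZ
      obtain ⟨x, hx, hrel⟩ := hR3 z hz hzZ
      simp only [Finset.mem_insert, Finset.mem_singleton] at hx
      rcases hx with rfl | rfl | rfl
      · exact Or.inl hrel
      · exact Or.inr (Or.inl hrel)
      · exact Or.inr (Or.inr hrel)
    rcases le_total a1 a2 with l12 | l12 <;> rcases le_total a2 a3 with l23 | l23 <;>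
      rcases le_total a1 a3 with l13 | l13
    · exact caseA3 hg hg1 d1 d2 d3 hcov hsum l12 l23
    · exact caseA3 hg hg1 d1 d2 d3 hcov hsum l12 l23
    · exact caseA3 hg hg1 d1 d3 d2 (fun z hz hzZ => by have := hcov z hz hzZ; tauto)
        (by linarith) l13 l23
    · exact caseA3 hg hg1 d3 d1 d2 (fun z hz hzZ => by have := hcov z hz hzZ; tauto)
        (by linarith) l13 l12
    · exact caseA3 hg hg1 d2 d1 d3 (fun z hz hzZ => by have := hcov z hz hzZ; tauto)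
        (by linarith) l12 l13
    · exact caseA3 hg hg1 d2 d3 d1 (fun z hz hzZ => by have := hcov z hz hzZ; tauto)
        (by linarith) l23 l13
    · exact caseA3 hg hg1 d3 d2 d1 (fun z hz hzZ => by have := hcov z hz hzZ; tauto)
        (by linarith) l23 l12
    · exact caseA3 hg hg1 d3 d2 d1 (fun z hz hzZ => by have := hcov z hz hzZ; tauto)
        (by linarith) l23 l12

end Cfsg.Agent.Lib.Helper41Dk
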