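import Mathlib
import Cfsg.Agent.Lib.Helper41Dk6

/-!
# Dickson, part 7: analysis of the class equation when `G` contains a unipotent element
-/

set_option autoImplicit false

namespace Cfsg.Agent.Lib.Helper41Dk

open Matrix Cfsg.Agent.Lib.Helper46SL2 Cfsg.Agent.Lib.Helper41SL2
open scoped Classical

variable {F : Type*} [Field F]

local notation "SL2" => Matrix.SpecialLinearGroup (Fin 2)

/-- the main outcome: `q₀ + 1` Sylow subgroups -/
def MainOut (G : Subgroup (SL2 F)) : Prop :=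
  (BB G).relIndex G = Nat.card (QQ G) + 1 ∧ ∃ k : ℕ, 2 ≤ k ∧
    Nat.card (BB G) = ee F * Nat.card (QQ G) * k ∧
    (k + 1 = Nat.card (QQ G) ∨ 2 * k + 1 = Nat.card (QQ G))

/-- the list of outcomes when `G` contains a unipotent element -/
def OutB (G : Subgroup (SL2 F)) : Prop :=
  G ≤ Bor F ∨ (∃ x ∈ G, tr x ^ 2 ≠ 4 ∧ G = NN G x ∧ ∃ y ∈ G, y * x * y⁻¹ = x⁻¹) ∨
    (Nat.card G = ee F * 12 ∧ NoCentral G) ∨ O60 G ∨ MainOut G

theorem num_main_eq {q k g2 c g : ℕ} (hq : 2 ≤ q) (hk : 1 ≤ k) (hg2 : 1 ≤ g2) (hc : 1 ≤ c)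
    (hg : g = q * k * (g2 * c))
    (h : (1 - 1 / (g2 : ℚ)) / 2 = 1 / 2 - 1 / (g : ℚ) - 1 / (2 * k : ℚ) + 1 / (q * k : ℚ)) :
    q * k * c = 2 + (q - 2) * g2 * c := by
  obtain ⟨m, rfl⟩ : ∃ m, q = m + 2 := ⟨q - 2, by omega⟩
  have e1 : m + 2 - 2 = m := by omega
  rw [e1]
  subst hg
  have h1 : (k : ℚ) ≠ 0 := by positivity
  have h2 : (g2 : ℚ) ≠ 0 := by positivity
  have h3 : (c : ℚ) ≠ 0 := by positivity
  have h4 : ((m : ℚ) + 2) ≠ 0 := by positivity
  push_cast at h
  field_simp at h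
  have E : ((m : ℚ) + 2) * k * c = 2 + m * g2 * c := by linear_combination (-1) * h
  exact_mod_cast E

theorem relIndex_mul_card' {𝔾 : Type*} [Group 𝔾] {B G : Subgroup 𝔾} (h : B ≤ G) :
    Nat.card B * B.relIndex G = Nat.card G := by
  have h3 := Subgroup.relIndex_mul_relIndex ⊥ _ _ bot_le h
  rwa [Subgroup.relIndex_bot_left, Subgroup.relIndex_bot_left] at h3

theorem not_rel_uu_of_ss {G : Subgroup (SL2 F)} {b : F} (hb : b ≠ 0) {y : SL2 F}
    (hy : tr y ^ 2 ≠ 4) : ¬ Rel G (uu b) y := by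
  rintro ⟨g, -, hc⟩
  obtain ⟨h5, h6⟩ := (commute_uu_iff hb).mp hc
  apply hy
  have h7 : tr y = tr (g⁻¹ * y * g) := by
    have := tr_conj y g⁻¹
    rw [inv_inv] at this
    exact this.symm
  have h8 := det2 (g⁻¹ * y * g)
  rw [h5, ← h6] at h8
  rw [h7]
  change ((g⁻¹ * y * g) 0 0 + (g⁻¹ * y * g) 1 1) ^ 2 = 4
  rw [← h6]
  linear_combination 4 * h8

theorem mass_uu [Finite F] {G : Subgroup (SL2 F)} (hZ : Subgroup.center (SL2 F) ≤ G) {b : F}
    (hb : b ≠ 0) {k : ℕ} (hk : 1 ≤ k) (hB : Nat.card (BB G) = ee F * Nat.card (QQ G) * k) :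
    mass G (uu b) = 1 / (k : ℚ) - 1 / (Nat.card (QQ G) * k : ℚ) := by
  rw [mass, NN_uu G hb, card_AA_uu hZ hb, hB]
  have h1 : (ee F : ℚ) ≠ 0 := by
    have := ee_pos (F := F)
    positivity
  have h2 : (Nat.card (QQ G) : ℚ) ≠ 0 := by
    have : 0 < Nat.card (QQ G) := Nat.card_pos
    positivity
  have h3 : (k : ℚ) ≠ 0 := by positivity
  change ((ee F * Nat.card (QQ G) : ℕ) - (ee F : ℚ)) / _ = _
  push_cast
  field_simp

/-- The case where `G` contains a non-trivial unipotent element. -/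
theorem caseB [Fintype F] {G : Subgroup (SL2 F)} (hZ : Subgroup.center (SL2 F) ≤ G) {b : F}
    (hb : b ≠ 0) (hbG : uu b ∈ G) : OutB G := by
  obtain ⟨R, hR1, hR2, hR3, hsum⟩ := exists_reps' ct_SL2 hZ
  obtain ⟨g, hg1, hg, hgq⟩ := exists_g hZ
  rw [hgq] at hsum
  obtain ⟨k, hk1, hB, hM, hkq, hcop⟩ := exists_k hZ hb hbG
  set q := Nat.card (QQ G) with hq
  have hepos : 0 < ee F := ee_pos
  have hubZ := uu_not_mem_center hb
  obtain ⟨x0, hx0R, hx0⟩ := hR3 _ hbG hubZ
  have hx0Z := (hR1 x0 hx0R).2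
  have hm0 : mass G x0 = 1 / (k : ℚ) - 1 / (q * k : ℚ) := by
    rw [← mass_of_rel ct_SL2 hx0Z hubZ hx0, mass_uu hZ hb hk1 hB]
  have hS : ∀ x ∈ R.erase x0, ∃ a n, SSd G x a n := by
    intro x hx
    obtain ⟨hne, hxR⟩ := Finset.mem_erase.mp hx
    apply exists_SSd hZ (hR1 x hxR).1
    intro ht
    apply hne
    have h1 := rel_uu_of_tr hZ hbG (hR1 x hxR).1 (hR1 x hxR).2 ht
    exact (hR2 x0 hx0R x hxR (Rel.trans' ct_SL2 hubZ hx0 h1)).symm
  have hsum' : ∑ x ∈ R.erase x0, mass G x = 1 - 1 / (g : ℚ) - (1 / (k : ℚ) - 1 / (q * k : ℚ)) := by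
    rw [← hm0, ← hsum, ← Finset.add_sum_erase R _ hx0R]; ring
  have hgpos := inv_pos' hg1
  have hq2 : 2 ≤ q := by omega
  have hqQ : (2 : ℚ) ≤ q := by exact_mod_cast hq2
  have hn := relIndex_mul_card' (BB_le G)
  set n := (BB G).relIndex G with hndef
  have hgn : g = q * k * n := by
    rw [hB, hg] at hn
    have : ee F * (q * k * n) = ee F * g := by rw [← hn]; ring
    exact (Nat.eq_of_mul_eq_mul_left hepos this).symm
  have hBor : g = q * k → G ≤ Bor F := by
    intro h
    have : BB G = G := by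
      apply Subgroup.eq_of_le_of_card_ge (BB_le G)
      rw [hB, hg, h, mul_assoc]
    rw [← this]
    exact inf_le_left
  have hN0 : Nat.card (NN G x0) = ee F * (q * k) := by
    rw [← card_NN_of_rel ct_SL2 hx0Z hubZ hx0, NN_uu G hb, hB, mul_assoc]
  have hA0 : Nat.card (AA G x0) = ee F * q := by
    rw [← card_AA_of_rel ct_SL2 hx0Z hubZ hx0, card_AA_uu hZ hb]
  rcases Nat.lt_or_ge 1 k with hk2 | hk2
  swap
  · -- k = 1
    have hk : k = 1 := by omega
    subst hk
    have hsum2 : ∑ x ∈ R.erase x0, mass G x = 1 / (q : ℚ) - 1 / (g : ℚ) := by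
      rw [hsum']; push_cast; ring
    have hq' : 1 / (q : ℚ) ≤ 1 / 2 := inv_le_half hq2
    rcases sum_lt_half hS (by rw [hsum2]; linarith) with hE | ⟨x, a, hE, d⟩
    · left
      apply hBor
      rw [hE, Finset.sum_empty] at hsum2
      have h1 : 1 - 1 / (q : ℚ) = 1 - 1 / (g : ℚ) := by linarith
      rw [mul_one]
      exact (num_1 hq2 hg1 h1).symm
    · rw [hE, Finset.sum_singleton, d.mass] at hsum2
      have hcov : ∀ z ∈ G, z ∉ Subgroup.center (SL2 F) → Rel G x0 z ∨ Rel G x z := by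
        intro z hz hzZ
        obtain ⟨w, hw, hrel⟩ := hR3 z hz hzZ
        by_cases hw0 : w = x0
        · left; rw [← hw0]; exact hrel
        · right
          have : w ∈ R.erase x0 := Finset.mem_erase.mpr ⟨hw0, hw⟩
          rw [hE, Finset.mem_singleton] at this
          rw [← this]; exact hrel
      rcases num_k1 hq2 d.ha hg1 (by rw [← hsum2]; push_cast; ring) with ⟨h1, h2⟩ | ⟨h1, rfl, h2⟩
      · right; left
        rcases d.hn with ⟨h0, -⟩ | ⟨-, hy⟩
        · omega
        · exact ⟨x, d.mem, d.tr, d.eq_NN hg h2, hy⟩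
      · right; right; left
        refine ⟨by rw [hg, h2], ?_⟩
        apply noCentral_of_cover (P := fun w => w = x0 ∨ w = x)
        · rintro w (rfl | rfl)
          · exact ⟨hx0Z, by
              rw [hN0, hg, h2, h1]; exact Nat.mul_lt_mul_of_pos_left (by norm_num) hepos⟩
          · exact ⟨d.not_center, by
              rw [d.cardN, hg, h2]; exact Nat.mul_lt_mul_of_pos_left (by norm_num) hepos⟩
        · intro z hz hzZ
          rcases hcov z hz hzZ with h | h
          · exact ⟨x0, Or.inl rfl, h⟩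
          · exact ⟨x, Or.inr rfl, h⟩
  · -- k ≥ 2
    have hkQ : (2 : ℚ) ≤ k := by exact_mod_cast hk2
    obtain ⟨y, hyB, hy1⟩ : ∃ y ∈ BB G, y 0 0 ^ 2 ≠ 1 := by
      by_contra hcon
      push Not at hcon
      have hle : BB G ≤ AA G (uu b) := by
        intro y hy
        have hd := diag_of_mem_Bor hy.1
        have h1 := hcon y hy
        have h0 : y 0 0 ≠ 0 := by
          intro h0; rw [h0, zero_mul] at hd; exact zero_ne_one hd
        refine (mem_AA_uu hb).mpr ⟨⟨mem_Bor.mp hy.1, ?_⟩, hy.2⟩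
        apply mul_left_cancel₀ h0
        rw [hd, ← sq, h1]
      have h2 := Subgroup.card_le_of_le hle
      rw [hB, card_AA_uu hZ hb] at h2
      have h3 : 0 < ee F * q := Nat.mul_pos hepos (by omega)
      nlinarith
    have hyss := tr_ss_of_Bor hyB.1 hy1
    have hyZ := not_mem_center_of_tr hyss
    have hAy : Nat.card (AA G y) = ee F * k := by rw [card_AA_K hyB hy1, hM]
    obtain ⟨xK, hxKR, hxK⟩ := hR3 y hyB.2 hyZ
    have hxKZ := (hR1 xK hxKR).2
    have hxK0 : xK ≠ x0 := by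
      rintro rfl
      exact not_rel_uu_of_ss hb hyss (Rel.trans' ct_SL2 hx0Z hx0.symm' hxK)
    have hxKR' : xK ∈ R.erase x0 := Finset.mem_erase.mpr ⟨hxK0, hxKR⟩
    obtain ⟨aK, nK, dK⟩ := hS xK hxKR'
    have haK : aK = k := by
      have h1 := card_AA_of_rel ct_SL2 hxKZ hyZ hxK
      rw [hAy, dK.cardA] at h1
      exact (Nat.eq_of_mul_eq_mul_left hepos h1).symm
    subst haK
    have hS' : ∀ x ∈ (R.erase x0).erase xK, ∃ a n, SSd G x a n := fun x hx =>
      hS x (Finset.mem_of_mem_erase hx)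
    have hsum2 : ∑ x ∈ (R.erase x0).erase xK, mass G x =
        1 - 1 / (g : ℚ) - (1 / (aK : ℚ) - 1 / (q * aK : ℚ)) - (1 - 1 / (aK : ℚ)) / nK := by
      rw [← hsum', ← dK.mass, ← Finset.add_sum_erase (R.erase x0) _ hxKR']; ring
    have hqk : 1 / (q * aK : ℚ) ≤ 1 / 4 := by
      apply one_div_le_one_div_of_le (by norm_num)
      nlinarith
    have hqk2 : 1 / (q * aK : ℚ) ≤ 1 / (2 * aK : ℚ) := by
      apply one_div_le_one_div_of_le (by positivity)
      nlinarith
    have hqkpos : (0 : ℚ) < 1 / (q * aK : ℚ) := by positivity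
    have e2k : 1 / (2 * aK : ℚ) = (1 / (aK : ℚ)) / 2 := by field_simp
    have hcovAll : ∀ z ∈ G, z ∉ Subgroup.center (SL2 F) →
        Rel G x0 z ∨ Rel G xK z ∨ ∃ w ∈ (R.erase x0).erase xK, Rel G w z := by
      intro z hz hzZ
      obtain ⟨w, hw, hrel⟩ := hR3 z hz hzZ
      by_cases hw0 : w = x0
      · left; rw [← hw0]; exact hrel
      · by_cases hwK : w = xK
        · right; left; rw [← hwK]; exact hrel
        · right; right
          exact ⟨w, Finset.mem_erase.mpr ⟨hwK, Finset.mem_erase.mpr ⟨hw0, hw⟩⟩, hrel⟩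
    rcases dK.hn with ⟨rfl, -⟩ | ⟨rfl, -⟩
    · -- self-normalizing torus: `G` is the Borel part
      left
      apply hBor
      have hsum3 : ∑ x ∈ (R.erase x0).erase xK, mass G x = 1 / (q * aK : ℚ) - 1 / (g : ℚ) := by
        rw [hsum2]; push_cast; ring
      have hE := sum_lt_quarter hS' (by rw [hsum3]; linarith)
      rw [hE, Finset.sum_empty] at hsum3
      have h1 : 1 - 1 / ((q * aK : ℕ) : ℚ) = 1 - 1 / (g : ℚ) := by push_cast; linarith
      exact (num_1 (by nlinarith) hg1 h1).symm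
    · have hsum3 : ∑ x ∈ (R.erase x0).erase xK, mass G x =
          1 / 2 - 1 / (g : ℚ) - 1 / (2 * aK : ℚ) + 1 / (q * aK : ℚ) := by
        rw [hsum2, e2k]; push_cast; ring
      rcases sum_lt_half hS' (by rw [hsum3]; linarith) with hE | ⟨z, g2, hE, dz⟩
      · exfalso
        rw [hE, Finset.sum_empty] at hsum3
        have h1 : (q * aK : ℚ) ≤ g := by
          have : q * aK ≤ g := by
            rw [hgn]
            have hn0 : 0 < n := by
              rcases Nat.eq_zero_or_pos n with h0 | h0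
              · rw [h0, mul_zero] at hgn; omega
              · exact h0
            exact Nat.le_mul_of_pos_right _ hn0
          exact_mod_cast this
        have h2 : 1 / (g : ℚ) ≤ 1 / (q * aK : ℚ) := one_div_le_one_div_of_le (by positivity) h1
        have h3 : 1 / (aK : ℚ) ≤ 1 / 2 := inv_le_half hk2
        have h4 : (0 : ℚ) < 1 / (2 * aK : ℚ) := by positivity
        linarith
      · rw [hE, Finset.sum_singleton, dz.mass] at hsum3
        have hzmem : z ∈ (R.erase x0).erase xK := by rw [hE]; exact Finset.mem_singleton_self z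
        have hzK : z ≠ xK := (Finset.mem_erase.mp hzmem).1
        have hzR : z ∈ R := Finset.mem_of_mem_erase (Finset.mem_of_mem_erase hzmem)
        have hdvd := card_AA_dvd_relIndex hZ dz.tr (by
          intro y' hy' hy'1 hrel
          apply hzK
          have h1 := rel_of_mem_BB hyB hy1 hy' hy'1
          have hy'Z := not_mem_center_of_tr (tr_ss_of_Bor hy'.1 hy'1)
          exact (hR2 xK hxKR z hzR
            (Rel.trans' ct_SL2 hy'Z (Rel.trans' ct_SL2 hyZ hxK h1) hrel)).symm)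
        rw [dz.cardA] at hdvd
        obtain ⟨c, hc⟩ := (Nat.mul_dvd_mul_iff_left hepos).mp hdvd
        replace hc : n = g2 * c := hc
        have hn0 : 0 < n := by
          rcases Nat.eq_zero_or_pos n with h0 | h0
          · rw [h0, mul_zero] at hgn; omega
          · exact h0
        have hc1 : 1 ≤ c := by
          rcases Nat.eq_zero_or_pos c with rfl | h0
          · rw [mul_zero] at hc; omega
          · exact h0
        have hg21 : 1 ≤ g2 := by have := dz.ha; omega
        have E := num_main_eq (g := g) hq2 hk1 hg21 hc1 (by rw [hgn, hc])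
          (by rw [← hsum3]; push_cast; ring)
        obtain ⟨r', hr'⟩ := card_QQ_dvd_relIndex G
        replace hr' : n + (q - 1) = q * r' := hr'
        obtain ⟨r, hr⟩ : ∃ r, n = 1 + q * r := by
          have hr0 : 1 ≤ r' := by
            rcases Nat.eq_zero_or_pos r' with rfl | h0
            · rw [mul_zero] at hr'; omega
            · exact h0
          refine ⟨r' - 1, ?_⟩
          obtain ⟨s, rfl⟩ : ∃ s, r' = s + 1 := ⟨r' - 1, by omega⟩
          have : q * (s + 1) = q * s + q := by ring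
          simp only [Nat.add_sub_cancel]
          omega
        rcases num_main hk2 hkq dz.ha hc hr E with ⟨h1, h2, -⟩ | ⟨h1, h2, -⟩ | ⟨h1, h2, h3, h4⟩
        · right; right; right; right
          exact ⟨h1, aK, hk2, hB, Or.inl h2⟩
        · right; right; right; right
          exact ⟨h1, aK, hk2, hB, Or.inr h2⟩
        · right; right; right; left
          subst h2 h4
          refine ⟨by rw [hg, hgn, h1, h3], xK, x0, z, ⟨dK.mem, dK.not_center, dK.cardA, ?_⟩,
            ⟨(hR1 x0 hx0R).1, hx0Z, by rw [hA0, h1], ?_⟩, ⟨dz.mem, dz.not_center, dz.cardA, ?_⟩, ?_⟩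
          · rw [dK.mass]; norm_num
          · rw [hm0, h1]; norm_num
          · rw [dz.mass]; norm_num
          · intro w hw hwZ
            rcases hcovAll w hw hwZ with h | h | ⟨v, hv, h⟩
            · exact Or.inr (Or.inl h)
            · exact Or.inl h
            · rw [hE, Finset.mem_singleton] at hv
              rw [hv] at h
              exact Or.inr (Or.inr h)

end Cfsg.Agent.Lib.Helper41Dk
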