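import Mathlib
import Cfsg.Agent.Lib.Helper41Dk7
import Cfsg.Agent.Lib.Helper57Free

/-!
# Dickson, part 8: the main case: Bruhat decomposition and the subfield
-/

set_option autoImplicit false

namespace Cfsg.Agent.Lib.Helper41Dk

open Matrix Cfsg.Agent.Lib.Helper46SL2 Cfsg.Agent.Lib.Helper41SL2

variable {F : Type*} [Field F]

local notation "SL2" => Matrix.SpecialLinearGroup (Fin 2)

/-- lower unitriangular matrices -/
def ll (c : F) : SL2 F := mk2 1 0 c 1 (by ring)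

@[simp] theorem ll_00 (c : F) : ll c 0 0 = 1 := rfl
@[simp] theorem ll_01 (c : F) : ll c 0 1 = 0 := rfl
@[simp] theorem ll_10 (c : F) : ll c 1 0 = c := rfl
@[simp] theorem ll_11 (c : F) : ll c 1 1 = 1 := rfl

theorem upper_of_conj_upper {g t : SL2 F} (ht : t ∈ UU F) (ht1 : t ≠ 1)
    (h : (g⁻¹ * t * g) 1 0 = 0) : g 1 0 = 0 := by
  rw [eq_uu_of_mem ht] at h
  have h3 := conj_uu_10 g⁻¹ (t 0 1)
  rw [inv_inv, h, inv_10] at h3
  have hb : t 0 1 ≠ 0 := by
    intro h0
    apply ht1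
    rw [eq_uu_of_mem ht, h0, uu_zero]
  have : t 0 1 * g 1 0 ^ 2 = 0 := by linear_combination h3
  exact pow_eq_zero_iff (two_ne_zero) |>.mp ((mul_eq_zero.mp this).resolve_left hb)

/-- Bruhat decomposition in the main case. -/
theorem bruhat [Finite F] {G : Subgroup (SL2 F)}
    (hmain : (BB G).relIndex G = Nat.card (QQ G) + 1) {w : SL2 F} (hw : w ∈ G) (hwB : w 1 0 ≠ 0)
    {g : SL2 F} (hg : g ∈ G) (hgB : g 1 0 ≠ 0) :
    ∃ v : F, uu v ∈ G ∧ ∃ b ∈ BB G, g = uu v * w * b := by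
  obtain ⟨r, hr, hr1⟩ := Cfsg.Agent.Lib.Helper57Free.free_count ((QQ G).subgroupOf G)
    ((BB G).subgroupOf G) (by
      intro x hx
      exact QQ_le_BB G hx) (by
      intro x hx v hv hc
      by_contra hv1
      apply hx
      rw [Subgroup.mem_subgroupOf] at hv hc ⊢
      refine ⟨upper_of_conj_upper hv.1 (fun h => hv1 (Subtype.ext h)) ?_, x.2⟩
      exact hc.1)
  have c1 : Nat.card ((BB G).subgroupOf G) = Nat.card (BB G) :=
    Nat.card_congr (Subgroup.subgroupOfEquivOfLe (BB_le G)).toEquiv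
  have c2 : Nat.card ((QQ G).subgroupOf G) = Nat.card (QQ G) :=
    Nat.card_congr (Subgroup.subgroupOfEquivOfLe (QQ_le G)).toEquiv
  have hn := relIndex_mul_card' (BB_le G)
  rw [c1, c2, ← hn, hmain] at hr
  have hBpos : 0 < Nat.card (BB G) := Nat.card_pos
  have hQpos : 0 < Nat.card (QQ G) := Nat.card_pos
  have h1 : Nat.card (QQ G) + 1 = 1 + r * Nat.card (QQ G) := Nat.eq_of_mul_eq_mul_left hBpos hr
  have hr' : r = 1 := by
    have : r * Nat.card (QQ G) = 1 * Nat.card (QQ G) := by omega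
    exact Nat.eq_of_mul_eq_mul_right hQpos this
  obtain ⟨v, hv, b, hb, hgv⟩ := hr1 hr' ⟨w, hw⟩ (fun h => hwB h.1) ⟨g, hg⟩ (fun h => hgB h.1)
  rw [Subgroup.mem_subgroupOf] at hv hb
  refine ⟨v.1 0 1, ?_, b.1, hb, ?_⟩
  · rw [← eq_uu_of_mem hv.1]; exact hv.2
  · rw [← eq_uu_of_mem hv.1]
    exact congrArg Subtype.val hgv

/-- The orbit of `∞`: if `w ∈ G` maps `∞` to `0` then every `g ∈ G` maps `∞` into `A ∪ {∞}`. -/
theorem uu_ratio_mem [Finite F] {G : Subgroup (SL2 F)}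
    (hmain : (BB G).relIndex G = Nat.card (QQ G) + 1) {w : SL2 F} (hw : w ∈ G) (hw0 : w 0 0 = 0)
    {g : SL2 F} (hg : g ∈ G) (hgB : g 1 0 ≠ 0) : uu (g 0 0 / g 1 0) ∈ G := by
  have hwB : w 1 0 ≠ 0 := by
    intro h
    have := det2 w
    rw [hw0, h] at this
    simp at this
  obtain ⟨v, hv, b, hb, rfl⟩ := bruhat hmain hw hwB hg hgB
  have b10 := mem_Bor.mp hb.1
  have hb0 : b 0 0 ≠ 0 := by
    intro h0
    have := diag_of_mem_Bor hb.1
    rw [h0, zero_mul] at this
    exact zero_ne_one this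
  have e : (uu v * w * b) 0 0 / (uu v * w * b) 1 0 = v := by
    simp only [mul_00, mul_01, mul_10, mul_11, uu_00, uu_01, uu_10, uu_11, b10, hw0]
    field_simp
    ring
  rw [e]
  exact hv

/-- there is an element of `G` swapping `0` and `∞` -/
theorem exists_swap [Finite F] {G : Subgroup (SL2 F)}
    (hmain : (BB G).relIndex G = Nat.card (QQ G) + 1) {w : SL2 F} (hw : w ∈ G) (hw0 : w 0 0 = 0) :
    ∃ w' ∈ G, w' 0 0 = 0 ∧ w' 1 1 = 0 := by
  have hwB : w 1 0 ≠ 0 := by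
    intro h
    have := det2 w
    rw [hw0, h] at this
    simp at this
  have h1 := uu_ratio_mem hmain hw hw0 (inv_mem hw) (by rw [inv_10]; exact neg_ne_zero.mpr hwB)
  rw [inv_00, inv_10] at h1
  refine ⟨w * uu (w 1 1 / -w 1 0), mul_mem hw h1, ?_, ?_⟩
  · rw [mul_00, hw0, uu_10]; ring
  · rw [mul_11, uu_01, uu_11]; field_simp; ring

theorem uu_neg (c : F) : uu (-c) = (uu c)⁻¹ := by
  rw [eq_inv_iff_mul_eq_one, uu_mul, neg_add_cancel, uu_zero]

/-- the additive group of `Q` -/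
def Aadd (G : Subgroup (SL2 F)) : AddSubgroup F where
  carrier := {c | uu c ∈ G}
  add_mem' := by
    intro a b ha hb
    change uu (a + b) ∈ G
    rw [← uu_mul]; exact mul_mem ha hb
  zero_mem' := by
    change uu (0 : F) ∈ G
    rw [uu_zero]; exact one_mem G
  neg_mem' := by
    intro a ha
    change uu (-a) ∈ G
    rw [uu_neg]; exact inv_mem ha

theorem mem_Aadd {G : Subgroup (SL2 F)} {c : F} : c ∈ Aadd G ↔ uu c ∈ G := Iff.rfl

theorem card_Aadd (G : Subgroup (SL2 F)) : Nat.card (Aadd G) = Nat.card (QQ G) := by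
  apply Nat.card_congr
  exact ⟨fun c => ⟨uu c.1, uu_mem _, c.2⟩, fun u => ⟨u.1 0 1, by
    rw [mem_Aadd, ← eq_uu_of_mem u.2.1]; exact u.2.2⟩, fun c => rfl,
    fun u => Subtype.ext (eq_uu_of_mem u.2.1).symm⟩

/-- the field of multipliers of `A` -/
def KK [Finite F] (G : Subgroup (SL2 F)) : Subfield F where
  carrier := {r | ∀ a ∈ Aadd G, r * a ∈ Aadd G}
  mul_mem' := by
    intro r s hr hs a ha
    rw [mul_assoc]; exact hr _ (hs a ha)
  one_mem' := by
    intro a ha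
    rw [one_mul]; exact ha
  add_mem' := by
    intro r s hr hs a ha
    rw [add_mul]; exact add_mem (hr a ha) (hs a ha)
  zero_mem' := by
    intro a _
    rw [zero_mul]; exact zero_mem _
  neg_mem' := by
    intro r hr a ha
    rw [neg_mul]; exact neg_mem (hr a ha)
  inv_mem' := by
    intro r hr a ha
    by_cases h0 : r = 0
    · rw [h0, _root_.inv_zero, zero_mul]; exact zero_mem _
    · let f : Aadd G → Aadd G := fun x => ⟨r * x.1, hr x.1 x.2⟩
      have hf : Function.Injective f := by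
        intro x y hxy
        have : r * x.1 = r * y.1 := congrArg Subtype.val hxy
        exact Subtype.ext (mul_left_cancel₀ h0 this)
      obtain ⟨x, hx⟩ := Finite.surjective_of_injective hf ⟨a, ha⟩
      have hx' : r * x.1 = a := congrArg Subtype.val hx
      rw [← hx', inv_mul_cancel_left₀ h0]
      exact x.2

theorem mem_KK [Finite F] {G : Subgroup (SL2 F)} {r : F} :
    r ∈ KK G ↔ ∀ a ∈ Aadd G, r * a ∈ Aadd G := Iff.rfl

theorem conj_uu_of_upper {y : SL2 F} (hy : y 1 0 = 0) (a : F) :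
    y * uu a * y⁻¹ = uu (y 0 0 ^ 2 * a) := by
  have hd := det2 y
  rw [hy] at hd
  apply ext2 <;>
    simp only [mul_00, mul_01, mul_10, mul_11, inv_00, inv_01, inv_10, inv_11, uu_00, uu_01, uu_10,
      uu_11, hy]
  · linear_combination hd
  · ring
  · ring
  · linear_combination hd

theorem sq_mem_KK [Finite F] {G : Subgroup (SL2 F)} {y : SL2 F} (hy : y ∈ BB G) :
    y 0 0 ^ 2 ∈ KK G := by
  intro a ha
  rw [mem_Aadd, ← conj_uu_of_upper (mem_Bor.mp hy.1)]
  exact mul_mem (mul_mem hy.2 ha) (inv_mem hy.2)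

theorem KK_le_Aadd [Finite F] {G : Subgroup (SL2 F)} (h1 : uu (1 : F) ∈ G) {r : F}
    (hr : r ∈ KK G) : r ∈ Aadd G := by
  have := hr 1 h1
  rwa [mul_one] at this

theorem k_lt_card_KK [Finite F] {G : Subgroup (SL2 F)} (hZ : Subgroup.center (SL2 F) ≤ G)
    {k : ℕ} (hB : Nat.card (BB G) = ee F * Nat.card (QQ G) * k) : k + 1 ≤ Nat.card (KK G) := by
  have h1 := card_le_card_AA_mul (BB G) (uu (1 : F))
    ((fun r : F => uu r) '' ((KK G : Set F) \ {0})) (by
      intro y hy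
      refine ⟨y 0 0 ^ 2, ⟨sq_mem_KK hy, ?_⟩, ?_⟩
      · intro h0
        have h0' : y 0 0 ^ 2 = 0 := h0
        have := diag_of_mem_Bor hy.1
        rw [pow_eq_zero_iff two_ne_zero |>.mp h0', zero_mul] at this
        exact zero_ne_one this
      · change uu (y 0 0 ^ 2) = _
        rw [conj_uu_of_upper (mem_Bor.mp hy.1), mul_one])
  rw [AA_eq_of_le (BB_le G) (AA_uu_le_BB G one_ne_zero), card_AA_uu hZ one_ne_zero, hB] at h1
  have h2 : ((fun r : F => uu r) '' ((KK G : Set F) \ {0})).ncard ≤ Nat.card (KK G) - 1 := by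
    refine (Set.ncard_image_le (Set.toFinite _)).trans ?_
    rw [Set.ncard_sdiff_singleton_of_mem (zero_mem (KK G))]
    rfl
  have h3 : ee F * Nat.card (QQ G) * k ≤ ee F * Nat.card (QQ G) * (Nat.card (KK G) - 1) :=
    h1.trans (Nat.mul_le_mul_left _ h2)
  have h4 : 0 < ee F * Nat.card (QQ G) := Nat.mul_pos ee_pos Nat.card_pos
  have h5 := Nat.le_of_mul_le_mul_left h3 h4
  have h6 : 0 < Nat.card (KK G) := Nat.card_pos
  omega

/-- In the main case `A` is a subfield. -/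
theorem Aadd_eq_KK [Finite F] {G : Subgroup (SL2 F)} (hZ : Subgroup.center (SL2 F) ≤ G)
    (h1 : uu (1 : F) ∈ G) {k : ℕ} (hk : 1 ≤ k)
    (hB : Nat.card (BB G) = ee F * Nat.card (QQ G) * k) (hkq : Nat.card (QQ G) ≤ 2 * k + 1)
    {c : F} : uu c ∈ G ↔ c ∈ KK G := by
  constructor
  · intro hc
    by_contra hcK
    have hk1 := k_lt_card_KK hZ hB
    -- `K × K` embeds in `A`
    have h2 : Nat.card (KK G × KK G) ≤ Nat.card (Aadd G) := by
      apply Nat.card_le_card_of_injective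
        (fun x : KK G × KK G => (⟨x.1.1 + x.2.1 * c,
          add_mem (KK_le_Aadd h1 x.1.2) (x.2.2 c hc)⟩ : Aadd G))
      rintro ⟨r, s⟩ ⟨r', s'⟩ h
      have h3 : r.1 + s.1 * c = r'.1 + s'.1 * c := congrArg Subtype.val h
      have h4 : s = s' := by
        by_contra hne
        have hne' : s.1 - s'.1 ≠ 0 := sub_ne_zero.mpr (fun h => hne (Subtype.ext h))
        apply hcK
        have h5 : c = (r'.1 - r.1) * (s.1 - s'.1)⁻¹ := by
          field_simp
          linear_combination h3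
        rw [h5]
        exact mul_mem (sub_mem r'.2 r.2) (inv_mem (sub_mem s.2 s'.2))
      subst h4
      have h5 : r.1 = r'.1 := by linear_combination h3
      exact Prod.ext (Subtype.ext h5) rfl
    rw [Nat.card_prod, card_Aadd] at h2
    nlinarith
  · intro hc
    exact KK_le_Aadd h1 hc

theorem card_KK [Finite F] {G : Subgroup (SL2 F)} (hZ : Subgroup.center (SL2 F) ≤ G)
    (h1 : uu (1 : F) ∈ G) {k : ℕ} (hk : 1 ≤ k)
    (hB : Nat.card (BB G) = ee F * Nat.card (QQ G) * k) (hkq : Nat.card (QQ G) ≤ 2 * k + 1) :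
    Nat.card (KK G) = Nat.card (QQ G) := by
  rw [← card_Aadd]
  apply Nat.card_congr
  exact ⟨fun r => ⟨r.1, (Aadd_eq_KK hZ h1 hk hB hkq).mpr r.2⟩,
    fun a => ⟨a.1, (Aadd_eq_KK hZ h1 hk hB hkq).mp a.2⟩, fun _ => rfl, fun _ => rfl⟩

end Cfsg.Agent.Lib.Helper41Dk
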