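import Mathlib
import Cfsg.Agent.Lib.Helper41Dk8

/-!
# Dickson, part 9: the main case: `SL₂(K) ≤ G ≤ F^* GL₂(K) ∩ SL₂(F)`
-/

set_option autoImplicit false

namespace Cfsg.Agent.Lib.Helper41Dk

open Matrix Cfsg.Agent.Lib.Helper46SL2 Cfsg.Agent.Lib.Helper41SL2

variable {F : Type*} [Field F]

local notation "SL2" => Matrix.SpecialLinearGroup (Fin 2)

/-- `SL₂(K)` inside `SL₂(F)` -/
def SLK (K : Subfield F) : Subgroup (SL2 F) where
  carrier := {g | g 0 0 ∈ K ∧ g 0 1 ∈ K ∧ g 1 0 ∈ K ∧ g 1 1 ∈ K}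
  mul_mem' := by
    rintro a b ⟨a0, a1, a2, a3⟩ ⟨b0, b1, b2, b3⟩
    refine ⟨?_, ?_, ?_, ?_⟩
    · rw [mul_00]; exact add_mem (mul_mem a0 b0) (mul_mem a1 b2)
    · rw [mul_01]; exact add_mem (mul_mem a0 b1) (mul_mem a1 b3)
    · rw [mul_10]; exact add_mem (mul_mem a2 b0) (mul_mem a3 b2)
    · rw [mul_11]; exact add_mem (mul_mem a2 b1) (mul_mem a3 b3)
  one_mem' := by
    refine ⟨?_, ?_, ?_, ?_⟩
    · rw [one_00]; exact one_mem K
    · rw [one_01]; exact zero_mem K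
    · rw [one_10]; exact zero_mem K
    · rw [one_11]; exact one_mem K
  inv_mem' := by
    rintro a ⟨a0, a1, a2, a3⟩
    refine ⟨?_, ?_, ?_, ?_⟩
    · rw [inv_00]; exact a3
    · rw [inv_01]; exact neg_mem a1
    · rw [inv_10]; exact neg_mem a2
    · rw [inv_11]; exact a0

theorem mem_SLK {K : Subfield F} {g : SL2 F} :
    g ∈ SLK K ↔ g 0 0 ∈ K ∧ g 0 1 ∈ K ∧ g 1 0 ∈ K ∧ g 1 1 ∈ K := Iff.rfl

/-- `F^* GL₂(K) ∩ SL₂(F)` -/
def PK (K : Subfield F) : Subgroup (SL2 F) where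
  carrier := {g | ∃ l : F, l ≠ 0 ∧ l * g 0 0 ∈ K ∧ l * g 0 1 ∈ K ∧ l * g 1 0 ∈ K ∧ l * g 1 1 ∈ K}
  mul_mem' := by
    rintro a b ⟨l, hl, a0, a1, a2, a3⟩ ⟨m, hm, b0, b1, b2, b3⟩
    refine ⟨l * m, mul_ne_zero hl hm, ?_, ?_, ?_, ?_⟩
    · rw [mul_00]
      have := add_mem (mul_mem a0 b0) (mul_mem a1 b2)
      convert this using 1; ring
    · rw [mul_01]
      have := add_mem (mul_mem a0 b1) (mul_mem a1 b3)
      convert this using 1; ring
    · rw [mul_10]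
      have := add_mem (mul_mem a2 b0) (mul_mem a3 b2)
      convert this using 1; ring
    · rw [mul_11]
      have := add_mem (mul_mem a2 b1) (mul_mem a3 b3)
      convert this using 1; ring
  one_mem' := by
    refine ⟨1, one_ne_zero, ?_, ?_, ?_, ?_⟩
    · rw [one_00, mul_one]; exact one_mem K
    · rw [one_01, mul_zero]; exact zero_mem K
    · rw [one_10, mul_zero]; exact zero_mem K
    · rw [one_11, mul_one]; exact one_mem K
  inv_mem' := by
    rintro a ⟨l, hl, a0, a1, a2, a3⟩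
    refine ⟨l, hl, ?_, ?_, ?_, ?_⟩
    · rw [inv_00]; exact a3
    · rw [inv_01, mul_neg]; exact neg_mem a1
    · rw [inv_10, mul_neg]; exact neg_mem a2
    · rw [inv_11]; exact a0

theorem mem_PK {K : Subfield F} {g : SL2 F} :
    g ∈ PK K ↔ ∃ l : F, l ≠ 0 ∧ l * g 0 0 ∈ K ∧ l * g 0 1 ∈ K ∧ l * g 1 0 ∈ K ∧ l * g 1 1 ∈ K :=
  Iff.rfl

theorem SLK_le_PK (K : Subfield F) : SLK K ≤ PK K := by
  rintro g ⟨a0, a1, a2, a3⟩
  exact ⟨1, one_ne_zero, by rwa [one_mul], by rwa [one_mul], by rwa [one_mul], by rwa [one_mul]⟩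

/-- `SL₂(K)` is generated by the elementary matrices. -/
theorem SLK_le {K : Subfield F} {G : Subgroup (SL2 F)} (hu : ∀ c ∈ K, uu c ∈ G)
    (hl : ∀ c ∈ K, ll c ∈ G) : SLK K ≤ G := by
  have key : ∀ g : SL2 F, g ∈ SLK K → g 1 0 ≠ 0 → g ∈ G := by
    rintro g ⟨a0, a1, a2, a3⟩ hc
    have e : g = uu ((g 0 0 - 1) / g 1 0) * ll (g 1 0) * uu ((g 1 1 - 1) / g 1 0) := by
      have hd := det2 g
      apply ext2 <;>
        simp only [mul_00, mul_01, mul_10, mul_11, uu_00, uu_01, uu_10, uu_11, ll_00, ll_01, ll_10,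
          ll_11]
      · field_simp; ring
      · field_simp; linear_combination -hd
      · ring
      · field_simp; ring
    rw [e]
    exact mul_mem (mul_mem (hu _ (div_mem (sub_mem a0 (one_mem K)) a2)) (hl _ a2))
      (hu _ (div_mem (sub_mem a3 (one_mem K)) a2))
  intro g hg
  by_cases hc : g 1 0 = 0
  · have h1 : ll (1 : F) ∈ SLK K := ⟨one_mem K, zero_mem K, one_mem K, one_mem K⟩
    have h2 : g * ll 1 ∈ G := by
      apply key _ (mul_mem hg h1)
      rw [mul_10, hc, ll_00, ll_10, zero_mul, zero_add, mul_one]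
      intro h0
      have := det2 g
      rw [hc, h0] at this
      simp at this
    have h3 : g = g * ll 1 * (ll 1)⁻¹ := by group
    rw [h3]
    exact mul_mem h2 (inv_mem (hl 1 (one_mem K)))
  · exact key g hg hc

/-- The main case: `SL₂(K) ≤ G ≤ F^* GL₂(K)`. -/
theorem main_sandwich [Finite F] {G : Subgroup (SL2 F)} (hZ : Subgroup.center (SL2 F) ≤ G)
    (h1 : uu (1 : F) ∈ G) {w : SL2 F} (hw : w ∈ G) (hw0 : w 0 0 = 0) (hmain : MainOut G) :
    SLK (KK G) ≤ G ∧ G ≤ PK (KK G) ∧ Nat.card (KK G) = Nat.card (QQ G) := by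
  obtain ⟨hn, k, hk2, hB, hkq⟩ := hmain
  have hk1 : 1 ≤ k := by omega
  have hkq' : Nat.card (QQ G) ≤ 2 * k + 1 := by omega
  have hA : ∀ {c : F}, uu c ∈ G ↔ c ∈ KK G := Aadd_eq_KK hZ h1 hk1 hB hkq'
  obtain ⟨s, hs, hs0, hs1⟩ := exists_swap hn hw hw0
  have hd := det2 s
  rw [hs0, hs1] at hd
  have hc0 : s 1 0 ≠ 0 := by
    intro h; rw [h] at hd; simp at hd
  have hs01 : s 0 1 = -(s 1 0)⁻¹ := by
    field_simp
    linear_combination -hd
  -- `γ² ∈ K`
  have hg2 : s 1 0 ^ 2 ∈ KK G := by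
    have h2 : s * uu (1 : F) * s ∈ G := mul_mem (mul_mem hs h1) hs
    have e10 : (s * uu (1 : F) * s) 1 0 = s 1 0 ^ 2 := by
      simp only [mul_00, mul_01, mul_10, mul_11, uu_00, uu_01, uu_10, uu_11, hs0, hs1]; ring
    have e00 : (s * uu (1 : F) * s) 0 0 = -1 := by
      simp only [mul_00, mul_01, mul_10, mul_11, uu_00, uu_01, uu_10, uu_11, hs0, hs1]
      linear_combination -hd
    have h3 := uu_ratio_mem hn hw hw0 h2 (by rw [e10]; exact pow_ne_zero 2 hc0)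
    rw [e10, e00, hA] at h3
    have h4 := inv_mem (neg_mem h3)
    have e : (-(-1 / s 1 0 ^ 2))⁻¹ = s 1 0 ^ 2 := by field_simp
    rwa [e] at h4
  have hll : ∀ c ∈ KK G, ll c ∈ G := by
    intro c hc
    have h2 : uu (-c / s 1 0 ^ 2) ∈ G := hA.mpr (div_mem (neg_mem hc) hg2)
    have e : ll c = s * uu (-c / s 1 0 ^ 2) * s⁻¹ := by
      apply ext2 <;>
        simp only [mul_00, mul_01, mul_10, mul_11, inv_00, inv_01, inv_10, inv_11, uu_00, uu_01,
          uu_10, uu_11, ll_00, ll_01, ll_10, ll_11, hs0, hs1]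
      · linear_combination -hd
      · ring
      · field_simp; ring
      · linear_combination -hd
    rw [e]
    exact mul_mem (mul_mem hs h2) (inv_mem hs)
  refine ⟨SLK_le (fun c hc => hA.mpr hc) hll, ?_, card_KK hZ h1 hk1 hB hkq'⟩
  -- the upper bound
  have hBP : BB G ≤ PK (KK G) := by
    intro y hy
    have y10 := mem_Bor.mp hy.1
    have hdy := diag_of_mem_Bor hy.1
    have hy0 : y 0 0 ≠ 0 := by
      intro h0; rw [h0, zero_mul] at hdy; exact zero_ne_one hdy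
    have hy1 : y 1 1 ≠ 0 := by
      intro h0; rw [h0, mul_zero] at hdy; exact zero_ne_one hdy
    refine ⟨y 0 0, hy0, ?_, ?_, ?_, ?_⟩
    · rw [← sq]; exact sq_mem_KK hy
    · have h2 : y * s ∈ G := mul_mem hy.2 hs
      have e10 : (y * s) 1 0 = y 1 1 * s 1 0 := by rw [mul_10, y10]; ring
      have e00 : (y * s) 0 0 = y 0 1 * s 1 0 := by rw [mul_00, hs0]; ring
      have h3 := uu_ratio_mem hn hw hw0 h2 (by rw [e10]; exact mul_ne_zero hy1 hc0)
      rw [e10, e00, hA] at h3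
      have e : y 0 1 * s 1 0 / (y 1 1 * s 1 0) = y 0 0 * y 0 1 := by
        field_simp
        linear_combination (-(y 0 1)) * hdy
      rwa [e] at h3
    · rw [y10, mul_zero]; exact zero_mem _
    · rw [hdy]; exact one_mem _
  have hsP : s ∈ PK (KK G) := by
    refine ⟨(s 1 0)⁻¹, inv_ne_zero hc0, ?_, ?_, ?_, ?_⟩
    · rw [hs0, mul_zero]; exact zero_mem _
    · rw [hs01]
      have := neg_mem (inv_mem hg2)
      convert this using 1
      field_simp
    · rw [inv_mul_cancel₀ hc0]; exact one_mem _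
    · rw [hs1, mul_zero]; exact zero_mem _
  intro g hg
  by_cases hc : g 1 0 = 0
  · exact hBP ⟨hc, hg⟩
  · obtain ⟨v, hv, b, hb, rfl⟩ := bruhat hn hs hc0 hg hc
    refine mul_mem (mul_mem (SLK_le_PK _ ?_) hsP) (hBP hb)
    exact ⟨one_mem _, hA.mp hv, zero_mem _, one_mem _⟩

end Cfsg.Agent.Lib.Helper41Dk
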