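import Mathlib
import Cfsg.Agent.Lib.Helper41Dk9

/-!
# Dickson, part 10: the classification of the subgroups of `SL₂(q)` containing the centre
-/

set_option autoImplicit false

namespace Cfsg.Agent.Lib.Helper41Dk

open Matrix Cfsg.Agent.Lib.Helper46SL2 Cfsg.Agent.Lib.Helper41SL2

variable {F : Type*} [Field F]

local notation "SL2" => Matrix.SpecialLinearGroup (Fin 2)

/-- conjugation by `diag(s, 1)` -/
def scl (s : F) (hs : s ≠ 0) : SL2 F ≃* SL2 F where
  toFun g := mk2 (g 0 0) (s * g 0 1) (s⁻¹ * g 1 0) (g 1 1) (by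
    have := det2 g
    field_simp
    linear_combination this)
  invFun g := mk2 (g 0 0) (s⁻¹ * g 0 1) (s * g 1 0) (g 1 1) (by
    have := det2 g
    field_simp
    linear_combination this)
  left_inv g := by
    apply ext2 <;> simp only [mk2_00, mk2_01, mk2_10, mk2_11] <;> field_simp
  right_inv g := by
    apply ext2 <;> simp only [mk2_00, mk2_01, mk2_10, mk2_11] <;> field_simp
  map_mul' a b := by
    apply ext2 <;> simp only [mk2_00, mk2_01, mk2_10, mk2_11, mul_00, mul_01, mul_10, mul_11] <;>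
      field_simp

theorem scl_uu (s : F) (hs : s ≠ 0) (b : F) : scl s hs (uu b) = uu (s * b) := by
  apply ext2 <;> simp [scl]

/-- the subfield outcome -/
def SubOut (G : Subgroup (SL2 F)) : Prop :=
  ∃ K : Subfield F, SLK K ≤ G ∧ G ≤ PK K ∧ 3 ≤ Nat.card K ∧
    (Nat.card G = ee F * (Nat.card K * (Nat.card K - 1) * (Nat.card K + 1)) ∨
      2 * Nat.card G = ee F * (Nat.card K * (Nat.card K - 1) * (Nat.card K + 1)))

/-- the complete list of outcomes -/
def Out (G : Subgroup (SL2 F)) : Prop := OutA G ∨ G ≤ Bor F ∨ SubOut G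

theorem center_le_map {G : Subgroup (SL2 F)} (hZ : Subgroup.center (SL2 F) ≤ G)
    (φ : SL2 F ≃* SL2 F) : Subgroup.center (SL2 F) ≤ G.map φ.toMonoidHom := by
  have h := (Subgroup.characteristic_iff_map_eq.mp
    (inferInstance : (Subgroup.center (SL2 F)).Characteristic)) φ
  rw [← h]
  exact Subgroup.map_mono hZ

theorem out_of_outB [Finite F] {G : Subgroup (SL2 F)} (hZ : Subgroup.center (SL2 F) ≤ G)
    (h1 : uu (1 : F) ∈ G) {w : SL2 F} (hw : w ∈ G) (hw0 : w 0 0 = 0) (h : OutB G) : Out G := by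
  rcases h with h | h | h | h | h
  · exact Or.inr (Or.inl h)
  · exact Or.inl (Or.inr (Or.inr (Or.inl h)))
  · exact Or.inl (Or.inr (Or.inr (Or.inr (Or.inl h))))
  · exact Or.inl (Or.inr (Or.inr (Or.inr (Or.inr (Or.inr h)))))
  · right; right
    obtain ⟨s1, s2, s3⟩ := main_sandwich hZ h1 hw hw0 h
    obtain ⟨hn, k, hk2, hB, hkq⟩ := h
    have hG := relIndex_mul_card' (BB_le G)
    rw [hn, hB, ← s3] at hG
    rw [← s3] at hkq
    refine ⟨KK G, s1, s2, by omega, ?_⟩
    rcases hkq with hkq | hkq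
    · left
      rw [← hG, ← hkq]
      simp only [Nat.add_sub_cancel]
      ring
    · right
      rw [← hG, ← hkq]
      simp only [Nat.add_sub_cancel]
      ring

/-- **Dickson's theorem** for subgroups of `SL₂(q)` containing the centre, up to an automorphism
of `SL₂(q)` (induced by conjugation in `GL₂(q)`). -/
theorem dickson_SL2 [Fintype F] {G : Subgroup (SL2 F)} (hZ : Subgroup.center (SL2 F) ≤ G) :
    ∃ φ : SL2 F ≃* SL2 F, Out (G.map φ.toMonoidHom) := by
  by_cases hss : ∀ x ∈ G, x ∉ Subgroup.center (SL2 F) → tr x ^ 2 ≠ 4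
  · refine ⟨MulEquiv.refl _, Or.inl ?_⟩
    have : G.map (MulEquiv.refl (SL2 F)).toMonoidHom = G := by
      ext x; simp
    rw [this]
    exact caseA hZ hss
  · push Not at hss
    obtain ⟨x, hx, hxZ, ht⟩ := hss
    -- a unipotent element
    obtain ⟨u, hu, huZ, htu⟩ : ∃ u ∈ G, u ∉ Subgroup.center (SL2 F) ∧ tr u = 2 := by
      have h5 : (tr x - 2) * (tr x + 2) = 0 := by linear_combination ht
      rcases mul_eq_zero.mp h5 with h6 | h6
      · exact ⟨x, hx, hxZ, by linear_combination h6⟩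
      · have hneg : (-1 : SL2 F) ∈ Subgroup.center (SL2 F) := mem_center_iff_eq.mpr (Or.inr rfl)
        have e : -x = (-1 : SL2 F) * x := by simp
        refine ⟨-x, by rw [e]; exact mul_mem (hZ hneg) hx, ?_, by rw [tr_neg]; linear_combination -h6⟩
        intro h
        apply hxZ
        have := mul_mem hneg h
        simpa using this
    obtain ⟨b, hb, hc⟩ := exists_isConj_uu huZ htu
    obtain ⟨c, hc⟩ := isConj_iff.mp hc
    let φ1 : SL2 F ≃* SL2 F := (MulAut.conj c).trans (scl b⁻¹ (inv_ne_zero hb))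
    have h1 : uu (1 : F) ∈ G.map φ1.toMonoidHom := by
      refine ⟨u, hu, ?_⟩
      change scl b⁻¹ (inv_ne_zero hb) (c * u * c⁻¹) = _
      rw [hc, scl_uu, inv_mul_cancel₀ hb]
    by_cases hB : G.map φ1.toMonoidHom ≤ Bor F
    · exact ⟨φ1, Or.inr (Or.inl hB)⟩
    · obtain ⟨w, hw, hwB⟩ := SetLike.not_le_iff_exists.mp hB
      have hw10 : w 1 0 ≠ 0 := hwB
      let φ2 : SL2 F ≃* SL2 F := φ1.trans (MulAut.conj (uu (-(w 0 0 / w 1 0))))
      have hmap : G.map φ2.toMonoidHom =
          (G.map φ1.toMonoidHom).map (MulAut.conj (uu (-(w 0 0 / w 1 0)))).toMonoidHom := by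
        rw [Subgroup.map_map]; rfl
      refine ⟨φ2, ?_⟩
      have hZ2 := center_le_map hZ φ2
      have h12 : uu (1 : F) ∈ G.map φ2.toMonoidHom := by
        rw [hmap]
        refine ⟨uu 1, h1, ?_⟩
        change uu (-(w 0 0 / w 1 0)) * uu (1 : F) * (uu (-(w 0 0 / w 1 0)))⁻¹ = uu (1 : F)
        rw [← uu_neg, uu_mul, uu_mul]
        congr 1; ring
      have hw2 : uu (-(w 0 0 / w 1 0)) * w * (uu (-(w 0 0 / w 1 0)))⁻¹ ∈ G.map φ2.toMonoidHom := by
        rw [hmap]
        exact ⟨w, hw, rfl⟩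
      have hw00 : (uu (-(w 0 0 / w 1 0)) * w * (uu (-(w 0 0 / w 1 0)))⁻¹) 0 0 = 0 := by
        simp only [mul_00, mul_01, inv_00, inv_10, uu_00, uu_01, uu_10, uu_11]
        field_simp
        ring
      exact out_of_outB hZ2 h12 hw2 hw00 (caseB hZ2 one_ne_zero h12)

end Cfsg.Agent.Lib.Helper41Dk
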