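import Mathlib
import Cfsg.Agent.Lib.Helper41SL2Syl2

set_option autoImplicit false

namespace Cfsg.Agent.Lib.Helper41SL2

open Matrix Cfsg.Agent.Lib.Helper46SL2 Cfsg.Agent.Lib.Helper41Dic

variable {F : Type*} [Field F]

local notation "SL2" => Matrix.SpecialLinearGroup (Fin 2)
local notation "PSL2" => Matrix.ProjectiveSpecialLinearGroup (Fin 2)

/-- The projection `SL₂ → PSL₂`. -/
abbrev proj (F : Type*) [Field F] : SL2 F →* PSL2 F := QuotientGroup.mk' (Subgroup.center (SL2 F))

instance finite_PSL2 [Finite F] : Finite (PSL2 F) :=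
  Finite.of_surjective (proj F) (QuotientGroup.mk'_surjective _)

theorem isPGroup_center [Fintype F] (hodd : Odd (Fintype.card F)) :
    IsPGroup 2 (Subgroup.center (SL2 F)) :=
  IsPGroup.of_card (n := 1) (by rw [Cfsg.Agent.Lib.Helper7SL.card_center_SL_two hodd]; rfl)

/-- The Sylow 2-subgroup of `SL₂` above a Sylow 2-subgroup of `PSL₂`. -/
noncomputable def liftSylow [Fintype F] (hodd : Odd (Fintype.card F)) (S : Sylow 2 (PSL2 F)) :
    Sylow 2 (SL2 F) :=
  S.comapOfKerIsPGroup (proj F) (by rw [QuotientGroup.ker_mk']; exact isPGroup_center hodd)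
    (by rw [MonoidHom.range_eq_top.mpr (QuotientGroup.mk'_surjective _)]; exact le_top)

theorem mem_liftSylow [Fintype F] (hodd : Odd (Fintype.card F)) (S : Sylow 2 (PSL2 F)) (x : SL2 F) :
    x ∈ liftSylow hodd S ↔ proj F x ∈ S := Iff.rfl

theorem mem_normalizer_liftSylow [Fintype F] (hodd : Odd (Fintype.card F)) (S : Sylow 2 (PSL2 F))
    (g : SL2 F) :
    g ∈ Subgroup.normalizer ((liftSylow hodd S : Subgroup (SL2 F)) : Set (SL2 F)) ↔
      proj F g ∈ Subgroup.normalizer ((S : Subgroup (PSL2 F)) : Set (PSL2 F)) := by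
  rw [Subgroup.mem_normalizer_iff, Subgroup.mem_normalizer_iff]
  constructor
  · intro h x
    obtain ⟨x, rfl⟩ := QuotientGroup.mk'_surjective _ x
    have := h x
    rw [← map_inv, ← map_mul, ← map_mul]
    exact this
  · intro h x
    have := h (proj F x)
    rw [← map_inv, ← map_mul, ← map_mul] at this
    exact this

theorem normalizer_sylow_two_PSL2 [Fintype F] (hodd : Odd (Fintype.card F))
    (h16 : 16 ∣ Fintype.card F ^ 2 - 1) (S : Sylow 2 (PSL2 F)) :
    Subgroup.normalizer ((S : Subgroup (PSL2 F)) : Set (PSL2 F)) = (S : Subgroup (PSL2 F)) := by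
  apply le_antisymm _ Subgroup.le_normalizer
  intro g hg
  obtain ⟨g, rfl⟩ := QuotientGroup.mk'_surjective _ g
  have h1 := (mem_normalizer_liftSylow hodd S g).mpr hg
  rw [normalizer_sylow_two_of_sixteen hodd h16] at h1
  exact h1

/-- A subgroup of `PSL₂(q)` containing all involutions of the Sylow 2-subgroup `S` contains `S`. -/
theorem sylow_le_of_involutions [Fintype F] (hodd : Odd (Fintype.card F)) (S : Sylow 2 (PSL2 F))
    (T : Subgroup (PSL2 F)) (hT : ∀ x ∈ S, orderOf x = 2 → x ∈ T) : (S : Subgroup (PSL2 F)) ≤ T := by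
  obtain ⟨k, m, c, w, hk, hm, htc, hC, hord, hck, hww, hwc, hcS, hwS, hcard, hgen, hel⟩ :=
    sylow_two_structure' hodd (liftSylow hodd S)
  have h2 : (2 : F) ≠ 0 := two_ne_zero_of_odd hodd
  have hinv : ∀ X : SL2 F, X * X = -1 → orderOf (proj F X) = 2 := by
    intro X hX
    apply orderOf_eq_prime
    · rw [← map_pow, sq, hX]
      exact (mk_eq_one_iff _).mpr (mem_center_iff_eq.mpr (Or.inr rfl))
    · intro h
      have h3 := mem_center_iff_eq.mp ((mk_eq_one_iff X).mp h)
      have h4 : X * X = 1 := by rcases h3 with rfl | rfl <;> simp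
      rw [h4] at hX
      have h5 : (1 : SL2 F) 0 0 = (-1 : SL2 F) 0 0 := by rw [← hX]
      rw [Helper46SL2.neg_apply, one_00] at h5
      apply h2
      linear_combination h5
  have hw : proj F w ∈ T := hT _ hwS (hinv w hww)
  have hwc' : proj F (w * c) ∈ T :=
    hT _ ((liftSylow hodd S).mul_mem hwS hcS)
      (hinv _ (sq_eq_neg_one_of_mul_zpowers htc hwc (Subgroup.mem_zpowers c)))
  have hc : proj F c ∈ T := by
    have := T.mul_mem (T.inv_mem hw) hwc'
    rwa [← map_inv, ← map_mul, inv_mul_cancel_left] at this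
  have h3 := hgen (T.comap (proj F)) hc hw
  intro x hx
  obtain ⟨x, rfl⟩ := QuotientGroup.mk'_surjective _ x
  exact h3 hx

end Cfsg.Agent.Lib.Helper41SL2
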