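import Mathlib
import Cfsg.Agent.Lib.Helper41Dk10
import Cfsg.Agent.Lib.Helper41PSL2Syl

/-!
# Dickson, part 11: from `PSL₂(q)` to `SL₂(q)` and back
-/

set_option autoImplicit false

namespace Cfsg.Agent.Lib.Helper41Dk

open Matrix Cfsg.Agent.Lib.Helper46SL2 Cfsg.Agent.Lib.Helper41SL2

variable {F : Type*} [Field F]

local notation "SL2" => Matrix.SpecialLinearGroup (Fin 2)
local notation "PSL2" => Matrix.ProjectiveSpecialLinearGroup (Fin 2)

/-- the full preimage in `SL₂` of a subgroup of `PSL₂` -/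
def pre (H : Subgroup (PSL2 F)) : Subgroup (SL2 F) := H.comap (proj F)

theorem mem_pre {H : Subgroup (PSL2 F)} {x : SL2 F} : x ∈ pre H ↔ proj F x ∈ H := Iff.rfl

theorem center_le_pre (H : Subgroup (PSL2 F)) : Subgroup.center (SL2 F) ≤ pre H := by
  intro z hz
  rw [mem_pre]
  have : proj F z = 1 := (QuotientGroup.eq_one_iff z).mpr hz
  rw [this]
  exact one_mem H

theorem map_pre (H : Subgroup (PSL2 F)) : (pre H).map (proj F) = H :=
  Subgroup.map_comap_eq_self_of_surjective (QuotientGroup.mk'_surjective _) H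

theorem pre_mono {H K : Subgroup (PSL2 F)} : pre H ≤ pre K ↔ H ≤ K :=
  Subgroup.comap_le_comap_of_surjective (QuotientGroup.mk'_surjective _)

theorem pre_map_proj {G : Subgroup (SL2 F)} (hZ : Subgroup.center (SL2 F) ≤ G) :
    pre (G.map (proj F)) = G := by
  rw [pre, Subgroup.comap_map_eq, QuotientGroup.ker_mk', sup_eq_left.mpr hZ]

theorem card_SL2_eq [Finite F] : Nat.card (SL2 F) = ee F * Nat.card (PSL2 F) := by
  rw [Subgroup.card_eq_card_quotient_mul_card_subgroup (Subgroup.center (SL2 F)), mul_comm]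
  rfl

theorem card_pre [Finite F] (H : Subgroup (PSL2 F)) : Nat.card (pre H) = ee F * Nat.card H := by
  have h1 : (pre H).index = H.index :=
    Subgroup.index_comap_of_surjective H (QuotientGroup.mk'_surjective _)
  have h2 := (pre H).card_mul_index
  have h3 := H.card_mul_index
  rw [h1, card_SL2_eq, ← h3, ← mul_assoc] at h2
  exact Nat.eq_of_mul_eq_mul_right (Nat.pos_of_ne_zero Subgroup.index_ne_zero_of_finite) h2

theorem map_center (φ : SL2 F ≃* SL2 F) :
    (Subgroup.center (SL2 F)).map φ.toMonoidHom = Subgroup.center (SL2 F) :=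
  (Subgroup.characteristic_iff_map_eq.mp
    (inferInstance : (Subgroup.center (SL2 F)).Characteristic)) φ

/-- the automorphism of `PSL₂` induced by an automorphism of `SL₂` -/
noncomputable def barEquiv (φ : SL2 F ≃* SL2 F) : PSL2 F ≃* PSL2 F :=
  QuotientGroup.congr _ _ φ (map_center φ)

theorem barEquiv_proj (φ : SL2 F ≃* SL2 F) (x : SL2 F) :
    barEquiv φ (proj F x) = proj F (φ x) := rfl

theorem pre_map_barEquiv (H : Subgroup (PSL2 F)) (φ : SL2 F ≃* SL2 F) :
    pre (H.map (barEquiv φ).toMonoidHom) = (pre H).map φ.toMonoidHom := by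
  ext x
  rw [mem_pre, Subgroup.mem_map, Subgroup.mem_map]
  constructor
  · rintro ⟨h, hh, hx⟩
    obtain ⟨y, rfl⟩ := QuotientGroup.mk'_surjective _ h
    refine ⟨φ.symm x, ?_, by simp⟩
    rw [mem_pre]
    have h1 : barEquiv φ (proj F y) = proj F x := hx
    have h2 : barEquiv φ (proj F (φ.symm x)) = proj F x := by rw [barEquiv_proj]; simp
    have h3 := (barEquiv φ).injective (h1.trans h2.symm)
    rw [← h3]; exact hh
  · rintro ⟨y, hy, rfl⟩
    exact ⟨proj F y, hy, rfl⟩

/-- **Dickson's theorem**, `PSL₂`-form. -/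
theorem dickson_PSL2 [Fintype F] (H : Subgroup (PSL2 F)) :
    ∃ ψ : PSL2 F ≃* PSL2 F, Out (pre (H.map ψ.toMonoidHom)) := by
  obtain ⟨φ, hφ⟩ := dickson_SL2 (center_le_pre H)
  exact ⟨barEquiv φ, by rw [pre_map_barEquiv]; exact hφ⟩

theorem ee_eq_two [Fintype F] (hodd : Odd (Fintype.card F)) : ee F = 2 :=
  Cfsg.Agent.Lib.Helper7SL.card_center_SL_two hodd

theorem ee_eq_one [Fintype F] (heven : Even (Fintype.card F)) : ee F = 1 := by
  have h2 : (2 : F) = 0 := by
    by_contra h
    have hc : ringChar F ≠ 2 := by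
      intro hc
      apply h
      have := CharP.cast_eq_zero F (ringChar F)
      rw [hc] at this
      exact_mod_cast this
    have := FiniteField.odd_card_of_char_ne_two hc
    exact (Nat.not_even_iff_odd.mpr (Nat.odd_iff.mpr this)) heven
  have : CharP F 2 := CharTwo.of_one_ne_zero_of_two_eq_zero one_ne_zero h2
  rw [ee, Nat.card_eq_one_iff_unique]
  refine ⟨⟨?_⟩, ⟨1⟩⟩
  rintro ⟨a, ha⟩ ⟨b, hb⟩
  apply Subtype.ext
  exact (mem_center_iff_char_two.mp ha).trans (mem_center_iff_char_two.mp hb).symm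

theorem ee_eq_gcd [Fintype F] : ee F = Nat.gcd 2 (Fintype.card F - 1) := by
  rcases Nat.even_or_odd (Fintype.card F) with h | h
  · rw [ee_eq_one h]
    obtain ⟨m, hm⟩ := h
    have : 0 < Fintype.card F := Fintype.card_pos
    have h2 : Odd (Fintype.card F - 1) := ⟨m - 1, by omega⟩
    have h3 : Nat.gcd 2 (Fintype.card F - 1) = 1 := Nat.coprime_two_left.mpr h2
    rw [h3]
  · rw [ee_eq_two h]
    obtain ⟨m, hm⟩ := h
    have : Fintype.card F - 1 = 2 * m := by omega
    rw [this]
    simp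

end Cfsg.Agent.Lib.Helper41Dk
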