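import Mathlib
import Cfsg.Agent.Lib.Helper41Dk11
import Cfsg.Agent.Lib.Helper41SL2Unip2
import Cfsg.Agent.Lib.Helper41SL2Norm

/-!
# Dickson: orders of the subgroups of `PSL₂(F)` that are neither "dihedral-like" nor "Borel-like"
-/

set_option autoImplicit false

namespace Cfsg.Agent.Lib.Helper6DkCor

open Matrix Cfsg.Agent.Lib.Helper46SL2 Cfsg.Agent.Lib.Helper41SL2 Cfsg.Agent.Lib.Helper41Dk

variable {F : Type*} [Field F]

local notation "SL2" => Matrix.SpecialLinearGroup (Fin 2)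
local notation "PSL2" => Matrix.ProjectiveSpecialLinearGroup (Fin 2)

theorem comm_mem_UU {a b : SL2 F} (ha : a ∈ Bor F) (hb : b ∈ Bor F) : a * b * a⁻¹ * b⁻¹ ∈ UU F := by
  rw [mem_Bor] at ha hb
  have da := det2 a
  have db := det2 b
  rw [ha, mul_zero, sub_zero] at da
  rw [hb, mul_zero, sub_zero] at db
  rw [mem_UU]
  refine ⟨?_, ?_, ?_⟩
  · simp only [mul_00, mul_01, mul_10, mul_11, inv_00, inv_01, inv_10, inv_11, ha, hb]
    linear_combination (a 0 0 * a 1 1) * db + da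
  · simp only [mul_00, mul_01, mul_10, mul_11, inv_00, inv_01, inv_10, inv_11, ha, hb]
    ring
  · simp only [mul_00, mul_01, mul_10, mul_11, inv_00, inv_01, inv_10, inv_11, ha, hb]
    linear_combination (a 0 0 * a 1 1) * db + da

theorem pow_char_of_mem_UU (p : ℕ) [CharP F p] {g : SL2 F} (hg : g ∈ UU F) : g ^ p = 1 := by
  rw [eq_uu_of_mem hg, uu_pow, CharP.cast_eq_zero, zero_mul, uu_zero]

theorem sq_commute_of_mem_normalizer {x g : SL2 F} (ht : tr x ^ 2 ≠ 4)
    (hg : g ∈ Subgroup.normalizer ((Subgroup.centralizer {x} : Subgroup (SL2 F)) : Set (SL2 F))) :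
    Commute (g ^ 2) x := by
  rcases (mem_normalizer_centralizer_iff ht).1 hg with h | h
  · have h1 : Commute g x := by
      have : g * x = x * g := by
        calc g * x = g * x * g⁻¹ * g := by group
          _ = x * g := by rw [h]
      exact this
    exact h1.pow_left 2
  · have h1 : g * x = x⁻¹ * g := by
      calc g * x = g * x * g⁻¹ * g := by group
        _ = x⁻¹ * g := by rw [h]
    have h2 : g * x⁻¹ = x * g := by
      calc g * x⁻¹ = x * (x⁻¹ * g) * x⁻¹ := by group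
        _ = x * (g * x) * x⁻¹ := by rw [h1]
        _ = x * g := by group
    show g ^ 2 * x = x * g ^ 2
    calc g ^ 2 * x = g * (g * x) := by rw [sq]; group
      _ = g * (x⁻¹ * g) := by rw [h1]
      _ = (g * x⁻¹) * g := by group
      _ = x * g * g := by rw [h2]
      _ = x * g ^ 2 := by rw [sq]; group

/-- The possible orders of a subgroup `M` of `PSL₂(F)` (odd characteristic) which has a commutator
of order 2 and two squares that do not commute. -/
theorem card_cases [Fintype F] (p : ℕ) [Fact p.Prime] [CharP F p] (hp : p ≠ 2)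
    (M : Subgroup (PSL2 F))
    (hV : ∃ a ∈ M, ∃ b ∈ M, a * b * a⁻¹ * b⁻¹ ≠ 1 ∧ (a * b * a⁻¹ * b⁻¹) ^ 2 = 1)
    (hSq : ∃ c ∈ M, ∃ d ∈ M, ¬ Commute (c ^ 2) (d ^ 2)) :
    Nat.card M = 12 ∨ Nat.card M = 24 ∨ Nat.card M = 60 ∨
      ∃ K : Subfield F, 3 ≤ Nat.card K ∧
        (Nat.card M = Nat.card K * (Nat.card K - 1) * (Nat.card K + 1) ∨
          2 * Nat.card M = Nat.card K * (Nat.card K - 1) * (Nat.card K + 1)) := by
  obtain ⟨ψ, hOut⟩ := dickson_PSL2 M
  set M' := M.map ψ.toMonoidHom with hM'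
  set G := pre M' with hG
  have hcM : Nat.card M' = Nat.card M := Subgroup.card_map_of_injective ψ.injective
  have hcG : Nat.card G = ee F * Nat.card M := by rw [hG, card_pre, hcM]
  have hepos : 0 < ee F := ee_pos
  -- lifts
  have hlift : ∀ a ∈ M, ∃ â ∈ G, proj F â = ψ a := by
    intro a ha
    obtain ⟨â, hâ⟩ := QuotientGroup.mk'_surjective (Subgroup.center (SL2 F)) (ψ a)
    refine ⟨â, ?_, hâ⟩
    rw [hG, mem_pre, hâ]
    exact Subgroup.mem_map_of_mem _ ha
  obtain ⟨a, ha, b, hb, hab1, hab2⟩ := hV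
  obtain ⟨c, hc, d, hd, hcd⟩ := hSq
  obtain ⟨â, hâG, hâ⟩ := hlift a ha
  obtain ⟨b', hb'G, hb'⟩ := hlift b hb
  obtain ⟨c', hc'G, hc'⟩ := hlift c hc
  obtain ⟨d', hd'G, hd'⟩ := hlift d hd
  have hsq_of : Commute (c' ^ 2) (d' ^ 2) → False := by
    intro h
    apply hcd
    have h1 : Commute (proj F (c' ^ 2)) (proj F (d' ^ 2)) := h.map (proj F)
    rw [map_pow, map_pow, hc', hd', ← map_pow, ← map_pow] at h1
    have h2 : ψ (c ^ 2 * d ^ 2) = ψ (d ^ 2 * c ^ 2) := by
      rw [map_mul, map_mul]; exact h1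
    exact ψ.injective h2
  have hcancel : ∀ n, Nat.card G = ee F * n → Nat.card M = n := by
    intro n hn
    rw [hcG] at hn
    exact Nat.eq_of_mul_eq_mul_left hepos hn
  rcases hOut with (h | ⟨x, hx, ht, h⟩ | ⟨x, hx, ht, h, -⟩ | ⟨h, -⟩ | ⟨h, -⟩ | h) | h | h
  · -- centre
    exfalso
    apply hsq_of
    rw [h] at hc'G
    have : c' ^ 2 ∈ Subgroup.center (SL2 F) := pow_mem hc'G 2
    exact (Subgroup.mem_center_iff.1 this _).symm
  · exfalso
    apply hsq_of
    rw [h] at hc'G hd'G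
    have h1 := (mem_AA.1 hc'G).1
    have h2 := (mem_AA.1 hd'G).1
    exact (ct_SL2 x _ _ (not_mem_center_of_tr ht) h1 h2).pow_pow 2 2
  · exfalso
    apply hsq_of
    rw [h] at hc'G hd'G
    exact ct_SL2 x _ _ (not_mem_center_of_tr ht) (sq_commute_of_mem_normalizer ht hc'G.1)
      (sq_commute_of_mem_normalizer ht hd'G.1)
  · exact Or.inl (hcancel _ h)
  · exact Or.inr (Or.inl (hcancel _ h))
  · exact Or.inr (Or.inr (Or.inl (hcancel _ h.1)))
  · -- Borel
    exfalso
    apply hab1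
    have h1 : (â * b' * â⁻¹ * b'⁻¹) ^ p = 1 :=
      pow_char_of_mem_UU p (comm_mem_UU (h hâG) (h hb'G))
    have h2 : ψ ((a * b * a⁻¹ * b⁻¹) ^ p) = 1 := by
      rw [map_pow, map_mul, map_mul, map_mul, map_inv, map_inv, ← hâ, ← hb', ← map_inv, ← map_inv,
        ← map_mul, ← map_mul, ← map_mul, ← map_pow, h1, map_one]
    have h3 : (a * b * a⁻¹ * b⁻¹) ^ p = 1 := ψ.injective (by rw [h2, map_one])
    have hodd : Odd p := (Fact.out : p.Prime).odd_of_ne_two hp
    obtain ⟨k, hk⟩ := hodd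
    rw [hk, pow_succ, pow_mul, hab2, one_pow, one_mul] at h3
    exact h3
  · obtain ⟨K, -, -, hK3, hK⟩ := h
    refine Or.inr (Or.inr (Or.inr ⟨K, hK3, ?_⟩))
    rcases hK with hK | hK
    · exact Or.inl (hcancel _ hK)
    · right
      rw [hcG] at hK
      exact Nat.eq_of_mul_eq_mul_left hepos (by rw [← hK]; ring)

end Cfsg.Agent.Lib.Helper6DkCor
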