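import Mathlib
import Cfsg.Agent.Lib.Helper6DkCor

/-!
# Dickson corollaries: tools for maximality of `A₄`, `S₄`, `A₅`
-/

set_option autoImplicit false

namespace Cfsg.Agent.Lib.Helper6DkCor

/-- a commutator of order two -/
def HasV (X : Type*) [Group X] : Prop :=
  ∃ a b : X, a * b * a⁻¹ * b⁻¹ ≠ 1 ∧ (a * b * a⁻¹ * b⁻¹) ^ 2 = 1

/-- two squares that do not commute -/
def HasSq (X : Type*) [Group X] : Prop := ∃ c d : X, ¬ Commute (c ^ 2) (d ^ 2)

theorem hasV_perm4 : HasV (Equiv.Perm (Fin 4)) :=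
  ⟨c[0, 1, 2], c[0, 1, 3], by decide, by decide⟩

theorem hasSq_perm4 : HasSq (Equiv.Perm (Fin 4)) :=
  ⟨c[0, 1, 2], c[0, 1, 3], by unfold Commute SemiconjBy; decide⟩

theorem hasV_alt4 : HasV (alternatingGroup (Fin 4)) :=
  ⟨⟨c[0, 1, 2], by rw [Equiv.Perm.mem_alternatingGroup]; decide⟩,
    ⟨c[0, 1, 3], by rw [Equiv.Perm.mem_alternatingGroup]; decide⟩, by decide, by decide⟩

theorem hasSq_alt4 : HasSq (alternatingGroup (Fin 4)) :=
  ⟨⟨c[0, 1, 2], by rw [Equiv.Perm.mem_alternatingGroup]; decide⟩,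
    ⟨c[0, 1, 3], by rw [Equiv.Perm.mem_alternatingGroup]; decide⟩, by unfold Commute SemiconjBy; decide⟩

theorem hasV_alt5 : HasV (alternatingGroup (Fin 5)) :=
  ⟨⟨c[0, 1, 2], by rw [Equiv.Perm.mem_alternatingGroup]; decide⟩,
    ⟨c[0, 1, 3], by rw [Equiv.Perm.mem_alternatingGroup]; decide⟩, by decide, by decide⟩

theorem hasSq_alt5 : HasSq (alternatingGroup (Fin 5)) :=
  ⟨⟨c[0, 1, 2], by rw [Equiv.Perm.mem_alternatingGroup]; decide⟩,
    ⟨c[0, 1, 3], by rw [Equiv.Perm.mem_alternatingGroup]; decide⟩, by unfold Commute SemiconjBy; decide⟩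

theorem hV_of_equiv {G X : Type*} [Group G] [Group X] {H M : Subgroup G} (hHM : H ≤ M)
    (e : H ≃* X) (hX : HasV X) :
    ∃ a ∈ M, ∃ b ∈ M, a * b * a⁻¹ * b⁻¹ ≠ 1 ∧ (a * b * a⁻¹ * b⁻¹) ^ 2 = 1 := by
  obtain ⟨a, b, h1, h2⟩ := hX
  refine ⟨e.symm a, hHM (e.symm a).2, e.symm b, hHM (e.symm b).2, ?_, ?_⟩
  · intro h
    apply h1
    have h3 : e.symm (a * b * a⁻¹ * b⁻¹) = 1 := by
      apply Subtype.ext
      simpa using h
    exact e.symm.injective (by rw [h3, map_one])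
  · have h3 : e.symm ((a * b * a⁻¹ * b⁻¹) ^ 2) = 1 := by rw [h2, map_one]
    have h4 := congrArg Subtype.val h3
    simpa using h4

theorem hSq_of_equiv {G X : Type*} [Group G] [Group X] {H M : Subgroup G} (hHM : H ≤ M)
    (e : H ≃* X) (hX : HasSq X) : ∃ c ∈ M, ∃ d ∈ M, ¬ Commute (c ^ 2) (d ^ 2) := by
  obtain ⟨c, d, h1⟩ := hX
  refine ⟨e.symm c, hHM (e.symm c).2, e.symm d, hHM (e.symm d).2, ?_⟩
  intro h
  apply h1
  have h3 : e.symm (c ^ 2 * d ^ 2) = e.symm (d ^ 2 * c ^ 2) := by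
    apply Subtype.ext
    have h' : ((e.symm c : H) : G) ^ 2 * ((e.symm d : H) : G) ^ 2 =
      ((e.symm d : H) : G) ^ 2 * ((e.symm c : H) : G) ^ 2 := h
    simpa using h'
  exact e.symm.injective h3

theorem card_subfield_pow {F : Type*} [Field F] [Finite F] (K : Subfield F) :
    ∃ m : ℕ, Nat.card K ^ m = Nat.card F :=
  ⟨Module.finrank K F, (Module.natCard_eq_pow_finrank (K := K) (V := F)).symm⟩

theorem charP_of_card_prime {F : Type*} [Field F] [Fintype F] {p : ℕ} (hp : p.Prime)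
    (hF : Fintype.card F = p) : CharP F p := by
  obtain ⟨r, hr⟩ := CharP.exists F
  obtain ⟨n, hr', hn⟩ := FiniteField.card F r
  have h1 : r ∣ p := by
    rw [← hF, hn]; exact dvd_pow_self r n.ne_zero
  have h2 : r = p := (Nat.prime_dvd_prime_iff_eq hr' hp).1 h1
  exact h2 ▸ hr

theorem card_subfield_of_prime {F : Type*} [Field F] [Finite F] {p : ℕ} (hp : p.Prime)
    (hF : Nat.card F = p) (K : Subfield F) : Nat.card K = p := by
  obtain ⟨m, hm⟩ := card_subfield_pow K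
  rw [hF] at hm
  have hm0 : m ≠ 0 := by
    rintro rfl
    rw [pow_zero] at hm
    exact hp.one_lt.ne hm
  have h1 : Nat.card K ∣ p := by rw [← hm]; exact dvd_pow_self _ hm0
  rcases (Nat.dvd_prime hp).1 h1 with h | h
  · rw [h, one_pow] at hm
    exact absurd hm hp.one_lt.ne
  · exact h

theorem card_PSL2_odd {F : Type*} [Field F] [Fintype F] (hodd : Odd (Fintype.card F)) :
    2 * Nat.card (Matrix.ProjectiveSpecialLinearGroup (Fin 2) F) =
      Fintype.card F * (Fintype.card F - 1) * (Fintype.card F + 1) := by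
  have h := Cfsg.Agent.Lib.Helper7SL.card_PSL_two_mul_two hodd
  have h2 := Nat.sq_sub_sq (Fintype.card F) 1
  rw [one_pow] at h2
  rw [mul_comm, h, h2]; ring

theorem eq_top_of_card_full {F : Type*} [Field F] [Fintype F] (hodd : Odd (Fintype.card F))
    (M : Subgroup (Matrix.ProjectiveSpecialLinearGroup (Fin 2) F)) {k : ℕ}
    (hk : k = Fintype.card F)
    (h : Nat.card M = k * (k - 1) * (k + 1) ∨ 2 * Nat.card M = k * (k - 1) * (k + 1)) :
    M = ⊤ := by
  have hG := card_PSL2_odd hodd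
  rw [← hk] at hG
  haveI : Finite (Matrix.ProjectiveSpecialLinearGroup (Fin 2) F) :=
    Cfsg.Agent.Lib.Helper41SL2.finite_PSL2
  have hle : Nat.card M ≤ Nat.card (Matrix.ProjectiveSpecialLinearGroup (Fin 2) F) :=
    Subgroup.card_le_card_group M
  have hpos : 0 < Nat.card (Matrix.ProjectiveSpecialLinearGroup (Fin 2) F) := Nat.card_pos
  apply Subgroup.eq_top_of_card_eq
  rcases h with h | h <;> omega

end Cfsg.Agent.Lib.Helper6DkCor
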