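import Mathlib

set_option autoImplicit false

namespace Cfsg.Agent.Lib.Helper6Inv

/-- parity of a finite type equals the parity of the fixed points of an involutive map -/
theorem card_fixed_involutive_mod_two {α : Type*} [Finite α] (f : α → α)
    (hf : Function.Involutive f) :
    Nat.card {a : α // f a = a} % 2 = Nat.card α % 2 := by
  classical
  have := Fintype.ofFinite α
  have h := Equiv.Perm.card_compl_support_modEq (p := 2) (n := 1) (σ := hf.toPerm) (by
    ext x
    simp [pow_two, hf x])
  rw [Nat.card_eq_fintype_card, Nat.card_eq_fintype_card, Fintype.card_subtype]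
  have h2 : (hf.toPerm.support)ᶜ = Finset.univ.filter (fun a => f a = a) := by
    ext a
    simp
  rw [h2] at h
  exact h

section
variable {G : Type*} [Group G]

theorem orderOf_two_iff (x : G) : orderOf x = 2 ↔ x * x = 1 ∧ x ≠ 1 := by
  rw [orderOf_eq_prime_iff, pow_two]

theorem mul_self_of_orderOf_two {x : G} (h : orderOf x = 2) : x * x = 1 :=
  ((orderOf_two_iff x).1 h).1

theorem inv_eq_self_of_orderOf_two {x : G} (h : orderOf x = 2) : x⁻¹ = x := by
  rw [inv_eq_iff_mul_eq_one]
  exact mul_self_of_orderOf_two h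

theorem ne_one_of_orderOf_two {x : G} (h : orderOf x = 2) : x ≠ 1 :=
  ((orderOf_two_iff x).1 h).2

/-- `g` inverts `x` -/
theorem semiconj_sq {g x : G} (h : SemiconjBy g x x⁻¹) : Commute (g ^ 2) x := by
  have h2 : SemiconjBy g x⁻¹ x := by simpa using h.inv_right
  rw [pow_two]
  exact h2.mul_left h

theorem semiconj_odd_pow {g x : G} (h : SemiconjBy g x x⁻¹) {k : ℕ} (hk : Odd k) :
    SemiconjBy (g ^ k) x x⁻¹ := by
  obtain ⟨j, rfl⟩ := hk
  rw [pow_succ, pow_mul]
  have h1 : Commute ((g ^ 2) ^ j) x⁻¹ := ((semiconj_sq h).pow_left j).inv_right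
  exact SemiconjBy.mul_left h1 h

theorem semiconj_even_pow {g x : G} (h : SemiconjBy g x x⁻¹) {k : ℕ} (hk : Even k) :
    Commute (g ^ k) x := by
  obtain ⟨j, rfl⟩ := hk
  rw [← two_mul, pow_mul]
  exact (semiconj_sq h).pow_left j

theorem semiconj_iff {g x y : G} : SemiconjBy g x y ↔ g * x * g⁻¹ = y := by
  rw [SemiconjBy, mul_inv_eq_iff_eq_mul]

/-- first involution inverts the product -/
theorem inv_left_inverts {s t : G} (hs : orderOf s = 2) (ht : orderOf t = 2) :
    SemiconjBy s (s * t) (s * t)⁻¹ := by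
  have h1 := mul_self_of_orderOf_two hs
  have h2 := inv_eq_self_of_orderOf_two hs
  have h3 := inv_eq_self_of_orderOf_two ht
  rw [SemiconjBy, mul_inv_rev, h2, h3, ← mul_assoc, h1, one_mul, mul_assoc, h1, mul_one]

theorem inv_right_inverts {s t : G} (hs : orderOf s = 2) (ht : orderOf t = 2) :
    SemiconjBy t (s * t) (s * t)⁻¹ := by
  have h1 := mul_self_of_orderOf_two ht
  have h2 := inv_eq_self_of_orderOf_two hs
  have h3 := inv_eq_self_of_orderOf_two ht
  rw [SemiconjBy, mul_inv_rev, h2, h3, mul_assoc]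

/-- The dihedral lemma: two involutions whose product has finite order are conjugate or commute
with a common involution, a power of the product. -/
theorem dihedral {s t : G} (hs : orderOf s = 2) (ht : orderOf t = 2)
    (hfin : 0 < orderOf (s * t)) :
    (Odd (orderOf (s * t)) ∧ IsConj s t) ∨
      (Even (orderOf (s * t)) ∧ ∃ z : G, orderOf z = 2 ∧ Commute z s ∧ Commute z t ∧
        z = (s * t) ^ (orderOf (s * t) / 2)) := by
  have hS := inv_left_inverts hs ht
  have hT := inv_right_inverts hs ht
  set x := s * t with hx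
  rcases Nat.even_or_odd (orderOf x) with he | ho
  · right
    refine ⟨he, x ^ (orderOf x / 2), ?_, ?_, ?_, rfl⟩
    · obtain ⟨k, hk⟩ := he
      have hk2 : orderOf x / 2 = k := by omega
      rw [hk2, orderOf_pow_of_dvd (by omega) ⟨2, by omega⟩, hk]
      have : 0 < k := by omega
      rw [← two_mul, Nat.mul_div_cancel _ this]
    · obtain ⟨k, hk⟩ := he
      have hk2 : orderOf x / 2 = k := by omega
      rw [hk2]
      have hz : (x ^ k)⁻¹ = x ^ k := by
        rw [inv_eq_iff_mul_eq_one, ← pow_add, ← hk, pow_orderOf_eq_one]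
      have := hS.pow_right k
      rw [inv_pow, hz] at this
      exact (Commute.symm this)
    · obtain ⟨k, hk⟩ := he
      have hk2 : orderOf x / 2 = k := by omega
      rw [hk2]
      have hz : (x ^ k)⁻¹ = x ^ k := by
        rw [inv_eq_iff_mul_eq_one, ← pow_add, ← hk, pow_orderOf_eq_one]
      have := hT.pow_right k
      rw [inv_pow, hz] at this
      exact (Commute.symm this)
  · left
    refine ⟨ho, ?_⟩
    obtain ⟨k, hk⟩ := ho
    rw [isConj_iff]
    refine ⟨x ^ k, ?_⟩
    -- x^k s x^-k = x^(2k) s = x⁻¹ s = t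
    have h1 : s * (x ^ k)⁻¹ = x ^ k * s := by
      have := hS.pow_right k
      rw [inv_pow] at this
      have h2 := this.inv_right
      rw [inv_inv] at h2
      exact h2
    have h3 : x ^ k * x ^ k = x⁻¹ := by
      rw [eq_inv_iff_mul_eq_one, ← pow_add, ← pow_succ, ← two_mul, ← hk, pow_orderOf_eq_one]
    rw [mul_assoc, h1, ← mul_assoc, h3, hx, mul_inv_rev, inv_eq_self_of_orderOf_two hs,
      inv_eq_self_of_orderOf_two ht, mul_assoc, mul_self_of_orderOf_two hs, mul_one]

end

end Cfsg.Agent.Lib.Helper6Inv
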