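import Mathlib
import Cfsg.Agent.Lib.Helper6Inv

set_option autoImplicit false

namespace Cfsg.Agent.Lib.Helper6Syl

open Cfsg.Agent.Lib.Helper6Inv
open scoped Pointwise

variable {G : Type*} [Group G]

theorem card_conj_mul_card_centralizer [Finite G] (s : G) :
    Nat.card {a : G // IsConj s a} * Nat.card (Subgroup.centralizer ({s} : Set G))
      = Nat.card G := by
  classical
  rw [Subgroup.nat_card_centralizer_nat_card_stabilizer]
  have e := MulAction.orbitProdStabilizerEquivGroup (ConjAct G) s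
  have h1 : Nat.card (MulAction.orbit (ConjAct G) s) = Nat.card {a : G // IsConj s a} := by
    apply Nat.card_congr
    apply Equiv.subtypeEquivRight
    intro a
    rw [ConjAct.mem_orbit_conjAct, isConj_comm]
  rw [← h1, ← Nat.card_prod, Nat.card_congr e]
  rfl

theorem mem_conj_smul_iff (g x : G) (Q : Subgroup G) :
    x ∈ MulAut.conj g • Q ↔ g⁻¹ * x * g ∈ Q := by
  rw [Subgroup.mem_pointwise_smul_iff_inv_smul_mem]
  simp [MulAut.smul_def]

theorem mem_smul_sylow_iff {p : ℕ} (g x : G) (Q : Sylow p G) :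
    x ∈ g • Q ↔ g⁻¹ * x * g ∈ Q := by
  have : x ∈ g • Q ↔ x ∈ ((g • Q : Sylow p G) : Subgroup G) := Iff.rfl
  rw [this, Sylow.coe_subgroup_smul, mem_conj_smul_iff]
  rfl

theorem conj_mem_smul_sylow {p : ℕ} (g x : G) (Q : Sylow p G) (hx : x ∈ Q) :
    g * x * g⁻¹ ∈ g • Q := by
  rw [mem_smul_sylow_iff]
  have : g⁻¹ * (g * x * g⁻¹) * g = x := by group
  rw [this]; exact hx

/-- every `p`-subgroup is conjugate into a given Sylow `p`-subgroup -/
theorem sylow_conj [Finite G] {p : ℕ} [Fact p.Prime] (K : Subgroup G) (hK : IsPGroup p K)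
    (S : Sylow p G) : ∃ g : G, ∀ x ∈ K, g * x * g⁻¹ ∈ S := by
  obtain ⟨Q, hQ⟩ := hK.exists_le_sylow
  obtain ⟨g, hg⟩ := MulAction.exists_smul_eq G Q S
  refine ⟨g, fun x hx => ?_⟩
  rw [← hg]
  exact conj_mem_smul_sylow g x Q (hQ hx)

theorem isPGroup_zpowers_of_orderOf_two {a : G} (ha : orderOf a = 2) :
    IsPGroup 2 (Subgroup.zpowers a) := by
  apply IsPGroup.of_card (n := 1)
  rw [Nat.card_zpowers, ha, pow_one]

theorem isPGroup_sup_of_commute {a b : G} (ha : orderOf a = 2) (hb : orderOf b = 2)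
    (hab : Commute a b) : IsPGroup 2 (Subgroup.zpowers a ⊔ Subgroup.zpowers b : Subgroup G) := by
  apply IsPGroup.to_sup_of_normal_right' (isPGroup_zpowers_of_orderOf_two ha)
    (isPGroup_zpowers_of_orderOf_two hb)
  rw [Subgroup.zpowers_le]
  apply Subgroup.centralizer_le_normalizer
  rw [Subgroup.mem_centralizer_iff]
  intro h hh
  obtain ⟨k, rfl⟩ := Subgroup.mem_zpowers_iff.1 hh
  exact ((hab.zpow_right k).symm).eq

/-- two commuting involutions lie in a common Sylow 2-subgroup -/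
theorem exists_sylow_of_commute [Finite G] {a b : G} (ha : orderOf a = 2) (hb : orderOf b = 2)
    (hab : Commute a b) : ∃ P : Sylow 2 G, a ∈ P ∧ b ∈ P := by
  obtain ⟨Q, hQ⟩ := (isPGroup_sup_of_commute ha hb hab).exists_le_sylow
  exact ⟨Q, hQ (Subgroup.mem_sup_left (Subgroup.mem_zpowers a)),
    hQ (Subgroup.mem_sup_right (Subgroup.mem_zpowers b))⟩

end Cfsg.Agent.Lib.Helper6Syl
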