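import Mathlib
import Cfsg.Agent.Lib.Helper6Syl

set_option autoImplicit false

namespace Cfsg.Agent.Lib.Helper6GL2
open Matrix Matrix.GeneralLinearGroup

variable {F : Type*} [Field F]

/-- the upper unitriangular matrix -/
abbrev u (b : F) : GL (Fin 2) F := upperRightHom b

/-- the upper unitriangular subgroup of `GL₂` -/
def U : Subgroup (GL (Fin 2) F) := (upperRightHom (R := F)).toMonoidHom.range

theorem mem_U (g : GL (Fin 2) F) : g ∈ (U : Subgroup (GL (Fin 2) F)) ↔ ∃ b, u b = g := by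
  constructor
  · rintro ⟨b, hb⟩
    exact ⟨Multiplicative.toAdd b, hb⟩
  · rintro ⟨b, hb⟩
    exact ⟨Multiplicative.ofAdd b, hb⟩

theorem card_U : Nat.card (U : Subgroup (GL (Fin 2) F)) = Nat.card F := by
  have e := MonoidHom.ofInjective (f := (upperRightHom (R := F)).toMonoidHom)
    (fun x y h => Multiplicative.toAdd.injective
      (injective_upperRightHom (R := F) (a₁ := Multiplicative.toAdd x)
        (a₂ := Multiplicative.toAdd y) h))
  rw [U, ← Nat.card_congr e.toEquiv]
  rfl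

theorem entry_zero_of_comm (k : GL (Fin 2) F) (b c : F) (hc : c ≠ 0) (h : k * u b = u c * k) :
    k.1 1 0 = 0 := by
  have := congrArg (fun g : GL (Fin 2) F => g.1 0 0) h
  simp [Matrix.mul_apply, Fin.sum_univ_two] at this
  tauto

theorem comm_of_entry_zero (k : GL (Fin 2) F) (h : k.1 1 0 = 0) (b c : F)
    (hbc : k.1 0 0 * b = c * k.1 1 1) : k * u b = u c * k := by
  ext i j
  fin_cases i <;> fin_cases j <;> simp [Matrix.mul_apply, Fin.sum_univ_two, h]
  linear_combination hbc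

theorem diag_ne_zero (k : GL (Fin 2) F) (h : k.1 1 0 = 0) : k.1 0 0 ≠ 0 ∧ k.1 1 1 ≠ 0 := by
  have h1 : k.1.det ≠ 0 := by
    have := (Matrix.GeneralLinearGroup.det k).ne_zero
    simpa using this
  rw [Matrix.det_fin_two, h, mul_zero, sub_zero] at h1
  exact ⟨left_ne_zero_of_mul h1, right_ne_zero_of_mul h1⟩

theorem mem_normalizer_iff (k : GL (Fin 2) F) :
    k ∈ Subgroup.normalizer ((U : Subgroup (GL (Fin 2) F)) : Set (GL (Fin 2) F)) ↔ k.1 1 0 = 0 := by
  rw [Subgroup.mem_normalizer_iff]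
  constructor
  · intro h
    have h1 := (h (u 1)).1 ((mem_U _).2 ⟨1, rfl⟩)
    obtain ⟨c, hc⟩ := (mem_U _).1 h1
    have hc0 : c ≠ 0 := by
      rintro rfl
      have h2 : k * u 1 * k⁻¹ = 1 := by rw [← hc]; exact AddChar.map_zero_eq_one _
      have h3 : u (1 : F) = 1 := by
        have : u (1 : F) = k⁻¹ * (k * u 1 * k⁻¹) * k := by group
        rw [this, h2]; group
      have h4 : u (1 : F) = u 0 := by rw [h3]; exact (AddChar.map_zero_eq_one _).symm
      exact one_ne_zero (injective_upperRightHom h4)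
    apply entry_zero_of_comm k 1 c hc0
    rw [hc]; group
  · intro h g
    obtain ⟨h0, h1⟩ := diag_ne_zero k h
    constructor
    · intro hg
      obtain ⟨b, rfl⟩ := (mem_U _).1 hg
      refine (mem_U _).2 ⟨k.1 0 0 * b / k.1 1 1, ?_⟩
      rw [comm_of_entry_zero k h b (k.1 0 0 * b / k.1 1 1) (by field_simp)]
      group
    · intro hg
      obtain ⟨c, hc⟩ := (mem_U _).1 hg
      refine (mem_U _).2 ⟨c * k.1 1 1 / k.1 0 0, ?_⟩
      have h2 := comm_of_entry_zero k h (c * k.1 1 1 / k.1 0 0) c (by field_simp)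
      rw [hc] at h2
      have h3 : k * g * k⁻¹ * k = k * g := by group
      rw [h3] at h2
      exact mul_left_cancel h2

/-- the Borel subgroup is in bijection with `Fˣ × Fˣ × F` -/
noncomputable def borelEquiv : {k : GL (Fin 2) F // k.1 1 0 = 0} ≃ Fˣ × Fˣ × F where
  toFun k := (Units.mk0 (k.1.1 0 0) (diag_ne_zero k.1 k.2).1,
    Units.mk0 (k.1.1 1 1) (diag_ne_zero k.1 k.2).2, k.1.1 0 1)
  invFun x := ⟨Matrix.GeneralLinearGroup.mkOfDetNeZero !![(x.1 : F), x.2.2; 0, (x.2.1 : F)]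
    (by simp [Matrix.det_fin_two]), by simp [Matrix.GeneralLinearGroup.mkOfDetNeZero]⟩
  left_inv k := by
    apply Subtype.ext
    ext i j
    fin_cases i <;> fin_cases j <;> simp [Matrix.GeneralLinearGroup.mkOfDetNeZero, k.2]
  right_inv x := by
    obtain ⟨a, d, b⟩ := x
    simp [Matrix.GeneralLinearGroup.mkOfDetNeZero]

theorem card_normalizer [Fintype F] :
    Nat.card (Subgroup.normalizer ((U : Subgroup (GL (Fin 2) F)) : Set (GL (Fin 2) F)))
      = (Fintype.card F - 1) * ((Fintype.card F - 1) * Fintype.card F) := by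
  have e : (Subgroup.normalizer ((U : Subgroup (GL (Fin 2) F)) : Set (GL (Fin 2) F)))
      ≃ {k : GL (Fin 2) F // k.1 1 0 = 0} :=
    Equiv.subtypeEquivRight (fun k => mem_normalizer_iff k)
  rw [Nat.card_congr (e.trans borelEquiv), Nat.card_prod, Nat.card_prod, Nat.card_units,
    Nat.card_eq_fintype_card]

theorem card_GL2 [Fintype F] : Nat.card (GL (Fin 2) F)
    = (Fintype.card F ^ 2 - 1) * (Fintype.card F ^ 2 - Fintype.card F) := by
  rw [Matrix.card_GL_field, Fin.prod_univ_two]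
  simp

theorem not_dvd_pred {p q : ℕ} (hp : p.Prime) (hq : p ∣ q) (hq0 : 0 < q) : ¬ p ∣ q - 1 := by
  intro h
  have h1 := Nat.dvd_sub hq h
  have h2 : q - (q - 1) = 1 := by omega
  rw [h2] at h1
  exact hp.one_lt.ne' (Nat.dvd_one.1 h1)

theorem isPGroup_U [Fintype F] (p : ℕ) [Fact p.Prime] [CharP F p] :
    IsPGroup p (U : Subgroup (GL (Fin 2) F)) := by
  obtain ⟨n, -, hn⟩ := FiniteField.card F p
  apply IsPGroup.of_card (n := n)
  rw [card_U, Nat.card_eq_fintype_card, hn]

theorem not_dvd_index_U [Fintype F] (p : ℕ) [Fact p.Prime] [CharP F p] :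
    ¬ p ∣ (U : Subgroup (GL (Fin 2) F)).index := by
  obtain ⟨n, hp, hn⟩ := FiniteField.card F p
  have h := Subgroup.card_mul_index (U : Subgroup (GL (Fin 2) F))
  rw [card_U, card_GL2, Nat.card_eq_fintype_card] at h
  set q := Fintype.card F with hq
  have hq0 : 0 < q := Fintype.card_pos
  have hpq : p ∣ q := by rw [hn]; exact dvd_pow_self p n.pos.ne'
  have h1 : q ^ 2 - q = q * (q - 1) := by rw [Nat.mul_sub, mul_one, sq]
  rw [h1] at h
  have h2 : (U : Subgroup (GL (Fin 2) F)).index = (q ^ 2 - 1) * (q - 1) := by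
    apply Nat.eq_of_mul_eq_mul_left hq0
    rw [h]; ring
  rw [h2, hp.dvd_mul]
  rintro (h3 | h3)
  · exact not_dvd_pred hp (hpq.trans (dvd_pow_self q two_ne_zero)) (by positivity) h3
  · exact not_dvd_pred hp hpq hq0 h3

/-- the upper unitriangular subgroup as a Sylow subgroup -/
def sylU [Fintype F] (p : ℕ) [Fact p.Prime] [CharP F p] : Sylow p (GL (Fin 2) F) :=
  (isPGroup_U p).toSylow (not_dvd_index_U p)

theorem coe_sylU [Fintype F] (p : ℕ) [Fact p.Prime] [CharP F p] :
    ((sylU p : Sylow p (GL (Fin 2) F)) : Subgroup (GL (Fin 2) F)) = U := rfl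

end Cfsg.Agent.Lib.Helper6GL2
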