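import Mathlib
import Cfsg.Agent.Lib.Helper6Syl
import Cfsg.Agent.Lib.Helper6SL2Hom
import Cfsg.Agent.Lib.Helper6GL2
import Cfsg.Agent.S0242

set_option autoImplicit false

namespace Cfsg.Agent.Lib.Helper6SL2Syl
open Matrix Cfsg.Agent.Lib.Helper6SL2Hom

variable {F : Type*} [Field F]

/-- upper unitriangular -/
def t (b : F) : Matrix.SpecialLinearGroup (Fin 2) F := ⟨!![1, b; 0, 1], by simp [Matrix.det_fin_two]⟩
/-- lower unitriangular -/
def l (b : F) : Matrix.SpecialLinearGroup (Fin 2) F := ⟨!![1, 0; b, 1], by simp [Matrix.det_fin_two]⟩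

theorem t_coe (b : F) : ((t b : Matrix.SpecialLinearGroup (Fin 2) F) : Matrix (Fin 2) (Fin 2) F)
    = !![1, b; 0, 1] := rfl

theorem l_coe (b : F) : ((l b : Matrix.SpecialLinearGroup (Fin 2) F) : Matrix (Fin 2) (Fin 2) F)
    = !![1, 0; b, 1] := rfl

theorem t_eq (b : F) : t b = Matrix.SpecialLinearGroup.transvection (zero_ne_one : (0 : Fin 2) ≠ 1) b :=
  Subtype.ext (T01_entries b).symm

theorem l_eq (b : F) : l b = Matrix.SpecialLinearGroup.transvection (one_ne_zero : (1 : Fin 2) ≠ 0) b :=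
  Subtype.ext (T10_entries b).symm

theorem t_add (a b : F) : t (a + b) = t a * t b := by
  ext i j
  fin_cases i <;> fin_cases j <;> simp [Matrix.SpecialLinearGroup.coe_mul, t_coe, Matrix.mul_apply, Fin.sum_univ_two, add_comm]

theorem t_zero : t (0 : F) = 1 := by
  ext i j
  fin_cases i <;> fin_cases j <;> simp [t_coe]

theorem t_injective : Function.Injective (t : F → Matrix.SpecialLinearGroup (Fin 2) F) := by
  intro a b h
  have := congrArg (fun g : Matrix.SpecialLinearGroup (Fin 2) F => g.1 0 1) h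
  simpa [t] using this

/-- `t` as a hom -/
def tHom : Multiplicative F →* Matrix.SpecialLinearGroup (Fin 2) F where
  toFun b := t (Multiplicative.toAdd b)
  map_one' := t_zero
  map_mul' _ _ := t_add _ _

/-- the upper unitriangular subgroup of `SL₂` -/
def U : Subgroup (Matrix.SpecialLinearGroup (Fin 2) F) := tHom.range

theorem mem_U (g : Matrix.SpecialLinearGroup (Fin 2) F) : g ∈ (U : Subgroup _) ↔ ∃ b, t b = g := by
  constructor
  · rintro ⟨b, hb⟩
    exact ⟨Multiplicative.toAdd b, hb⟩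
  · rintro ⟨b, hb⟩
    exact ⟨Multiplicative.ofAdd b, hb⟩

theorem card_U : Nat.card (U : Subgroup (Matrix.SpecialLinearGroup (Fin 2) F)) = Nat.card F := by
  have e := MonoidHom.ofInjective (f := (tHom : Multiplicative F →* _))
    (fun x y h => Multiplicative.toAdd.injective (t_injective h))
  rw [U, ← Nat.card_congr e.toEquiv]
  rfl

theorem det_eq (k : Matrix.SpecialLinearGroup (Fin 2) F) :
    k.1 0 0 * k.1 1 1 - k.1 0 1 * k.1 1 0 = 1 := by
  have := k.2
  rwa [Matrix.det_fin_two] at this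

theorem comm_of_entry_zero (k : Matrix.SpecialLinearGroup (Fin 2) F) (h : k.1 1 0 = 0) (b c : F)
    (hbc : k.1 0 0 * b = c * k.1 1 1) : k * t b = t c * k := by
  ext i j
  fin_cases i <;> fin_cases j <;> simp [Matrix.SpecialLinearGroup.coe_mul, t_coe, Matrix.mul_apply, Fin.sum_univ_two, h]
  linear_combination hbc

theorem diag_ne_zero (k : Matrix.SpecialLinearGroup (Fin 2) F) (h : k.1 1 0 = 0) :
    k.1 0 0 ≠ 0 ∧ k.1 1 1 ≠ 0 := by
  have h1 := det_eq k
  rw [h, mul_zero, sub_zero] at h1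
  have h2 : k.1 0 0 * k.1 1 1 ≠ 0 := by rw [h1]; exact one_ne_zero
  exact ⟨left_ne_zero_of_mul h2, right_ne_zero_of_mul h2⟩

theorem mem_normalizer_of_entry_zero (k : Matrix.SpecialLinearGroup (Fin 2) F) (h : k.1 1 0 = 0) :
    k ∈ Subgroup.normalizer ((U : Subgroup (Matrix.SpecialLinearGroup (Fin 2) F)) : Set _) := by
  rw [Subgroup.mem_normalizer_iff]
  intro g
  obtain ⟨h0, h1⟩ := diag_ne_zero k h
  constructor
  · intro hg
    obtain ⟨b, rfl⟩ := (mem_U _).1 hg
    refine (mem_U _).2 ⟨k.1 0 0 * b / k.1 1 1, ?_⟩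
    rw [comm_of_entry_zero k h b (k.1 0 0 * b / k.1 1 1) (by field_simp)]
    group
  · intro hg
    obtain ⟨c, hc⟩ := (mem_U _).1 hg
    refine (mem_U _).2 ⟨c * k.1 1 1 / k.1 0 0, ?_⟩
    have h2 := comm_of_entry_zero k h (c * k.1 1 1 / k.1 0 0) c (by field_simp)
    rw [hc] at h2
    have h3 : k * g * k⁻¹ * k = k * g := by group
    rw [h3] at h2
    exact mul_left_cancel h2

theorem bruhat_conj (k : Matrix.SpecialLinearGroup (Fin 2) F) (h : k.1 1 0 ≠ 0) (b : F) :
    t (-(k.1 0 0) / k.1 1 0) * k * t b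
      = l (-(k.1 1 0) ^ 2 * b) * (t (-(k.1 0 0) / k.1 1 0) * k) := by
  have hd := det_eq k
  ext i j
  fin_cases i <;> fin_cases j <;>
    simp [Matrix.SpecialLinearGroup.coe_mul, t_coe, l_coe, Matrix.mul_apply, Fin.sum_univ_two,
      Matrix.vecMul, dotProduct]
  · left
    field_simp
    ring
  · right
    field_simp
    ring
  · field_simp
    linear_combination (-b) * hd

/-- a subgroup containing `U` and a conjugate `k U k⁻¹` with `k₁₀ ≠ 0` is everything -/
theorem eq_top_of_U_of_conj (H : Subgroup (Matrix.SpecialLinearGroup (Fin 2) F))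
    (hU : ∀ b, t b ∈ H) (k : Matrix.SpecialLinearGroup (Fin 2) F) (hk : k.1 1 0 ≠ 0)
    (hkU : ∀ b, k * t b * k⁻¹ ∈ H) : H = ⊤ := by
  have hl : ∀ c, l c ∈ H := by
    intro c
    have h1 := bruhat_conj k hk (-c / (k.1 1 0) ^ 2)
    have h2 : -(k.1 1 0) ^ 2 * (-c / (k.1 1 0) ^ 2) = c := by field_simp
    rw [h2] at h1
    set s := t (-(k.1 0 0) / k.1 1 0) with hs
    have h3 : l c = s * (k * t (-c / (k.1 1 0) ^ 2) * k⁻¹) * s⁻¹ := by
      have : l c = (l c * (s * k)) * (s * k)⁻¹ := by group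
      rw [this, ← h1]; group
    rw [h3]
    exact H.mul_mem (H.mul_mem (hU _) (hkU _)) (H.inv_mem (hU _))
  rw [eq_top_iff, ← closure_transvections, Subgroup.closure_le]
  rintro A (⟨c, rfl⟩ | ⟨c, rfl⟩)
  · rw [← t_eq]; exact hU c
  · rw [← l_eq]; exact hl c

theorem card_SL2 [Fintype F] : Nat.card (Matrix.SpecialLinearGroup (Fin 2) F)
    = Fintype.card F * (Fintype.card F ^ 2 - 1) := by
  have h := Cfsg.Agent.S0242.result (F := F) rfl 2 (by norm_num)
  rw [Fin.prod_univ_two] at h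
  simp only [Fin.val_zero, Fin.val_one, pow_zero, pow_one] at h
  set q := Fintype.card F with hq
  have hq1 : 1 < q := Fintype.one_lt_card
  have h1 : q ^ 2 - q = q * (q - 1) := by rw [Nat.mul_sub, mul_one, sq]
  rw [h1] at h
  apply Nat.eq_of_mul_eq_mul_left (show 0 < q - 1 by omega)
  rw [h]; ring

theorem isPGroup_U [Fintype F] (p : ℕ) [Fact p.Prime] [CharP F p] :
    IsPGroup p (U : Subgroup (Matrix.SpecialLinearGroup (Fin 2) F)) := by
  obtain ⟨n, -, hn⟩ := FiniteField.card F p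
  apply IsPGroup.of_card (n := n)
  rw [card_U, Nat.card_eq_fintype_card, hn]

theorem not_dvd_index_U [Fintype F] (p : ℕ) [Fact p.Prime] [CharP F p] :
    ¬ p ∣ (U : Subgroup (Matrix.SpecialLinearGroup (Fin 2) F)).index := by
  obtain ⟨n, hp, hn⟩ := FiniteField.card F p
  have h := Subgroup.card_mul_index (U : Subgroup (Matrix.SpecialLinearGroup (Fin 2) F))
  rw [card_U, card_SL2, Nat.card_eq_fintype_card] at h
  set q := Fintype.card F with hq
  have hq0 : 0 < q := Fintype.card_pos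
  have hpq : p ∣ q := by rw [hn]; exact dvd_pow_self p n.pos.ne'
  have h2 := Nat.eq_of_mul_eq_mul_left hq0 h
  rw [h2]
  exact Cfsg.Agent.Lib.Helper6GL2.not_dvd_pred hp (hpq.trans (dvd_pow_self q two_ne_zero))
    (by positivity)

/-- the upper unitriangular subgroup as a Sylow subgroup -/
def sylU [Fintype F] (p : ℕ) [Fact p.Prime] [CharP F p] :
    Sylow p (Matrix.SpecialLinearGroup (Fin 2) F) :=
  (isPGroup_U p).toSylow (not_dvd_index_U p)

end Cfsg.Agent.Lib.Helper6SL2Syl
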