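import Mathlib
import Cfsg.Agent.Lib.Helper59BRDefs
import Cfsg.Agent.Lib.H59BRArA

set_option autoImplicit false
set_option linter.unusedSectionVars false
set_option linter.unusedVariables false

namespace Cfsg.Agent.Lib.H59BRArB

open Cfsg Subgroup
open Cfsg.Agent.Lib.Helper81Base Cfsg.Agent.Lib.Helper82Linear Cfsg.Agent.Lib.Helper59BRDefs
open scoped ComplexConjugate

variable {p e t n d : ℕ}

/-- residue `r` with `0 ≤ r < p` -/
theorem exists_of_modEq_pos {p d r : ℕ} (hp : 0 < p) (hr : r < p) (h : (p : ℤ) ∣ (r : ℤ) - d) :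
    ∃ u : ℕ, d = u * p + r := by
  obtain ⟨k, hk⟩ := h
  have hk0 : k ≤ 0 := by
    by_contra hlt
    have h1 : 1 ≤ k := by omega
    have h2 : (p : ℤ) * 1 ≤ p * k := mul_le_mul_of_nonneg_left h1 (by positivity)
    have h3 : (r : ℤ) < p := by exact_mod_cast hr
    have h4 : (0 : ℤ) ≤ d := by positivity
    linarith
  refine ⟨(-k).toNat, ?_⟩
  have h5 : (((-k).toNat : ℕ) : ℤ) = -k := Int.toNat_of_nonneg (by omega)
  have : (d : ℤ) = ((-k).toNat : ℕ) * p + r := by
    rw [h5]; linarith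
  exact_mod_cast this

/-- residue `-r` with `0 < r` -/
theorem exists_of_modEq_neg {p d r : ℕ} (hp : 0 < p) (hr : 0 < r) (h : (p : ℤ) ∣ -(r : ℤ) - d) :
    ∃ u : ℕ, 1 ≤ u ∧ d + r = u * p := by
  obtain ⟨k, hk⟩ := h
  have hk0 : k ≤ -1 := by
    by_contra hlt
    have h1 : 0 ≤ k := by omega
    have h2 : (0 : ℤ) ≤ p * k := by positivity
    have h3 : (0 : ℤ) < r := by exact_mod_cast hr
    have h4 : (0 : ℤ) ≤ d := by positivity
    linarith
  refine ⟨(-k).toNat, ?_, ?_⟩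
  · omega
  have h5 : (((-k).toNat : ℕ) : ℤ) = -k := Int.toNat_of_nonneg (by omega)
  have : (d : ℤ) + r = ((-k).toNat : ℕ) * p := by
    rw [h5]; linarith
  exact_mod_cast this

theorem e_lt (hp : p.Prime) (hte : t * e + 1 = p) : e < p ∧ 0 < t := by
  have ht : 0 < t := by
    rcases Nat.eq_zero_or_pos t with h | h
    · subst h
      have := hp.two_le
      omega
    · exact h
  have : e ≤ t * e := Nat.le_mul_of_pos_left e ht
  exact ⟨by omega, ht⟩

theorem not_dvd_e (hp : p.Prime) (hte : t * e + 1 = p) (he : 0 < e) : ¬ (p : ℤ) ∣ (e : ℤ) := by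
  intro h
  have h1 : p ∣ e := by exact_mod_cast h
  have := Nat.le_of_dvd he h1
  have := (e_lt hp hte).1
  omega

/-- write `d = up+1`, cofactor `= vp+e`; `exc_of_plus` forces `u = 0` or `v = 0`. -/
theorem div_one (hp : p.Prime) (hte : t * e + 1 = p) (he : 0 < e) (hexc : ¬ Exc p n)
    (hd : d ∣ e * (1 + n * p)) (hc : (d : ℤ) ≡ 1 [ZMOD p]) : d = 1 ∨ d = 1 + n * p := by
  obtain ⟨c, hT⟩ := hd
  have hTz : (e : ℤ) * (1 + n * p) = d * c := by exact_mod_cast hT
  rw [Int.modEq_iff_dvd] at hc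
  obtain ⟨u, hu⟩ := exists_of_modEq_pos (r := 1) hp.pos hp.one_lt (by simpa using hc)
  have hc2 : (p : ℤ) ∣ (e : ℤ) - c := by
    have e1 : (e : ℤ) - c = p * (-(e * n)) + c * -(1 - d) := by linear_combination hTz
    rw [e1]
    exact dvd_add (Dvd.intro _ rfl) (Dvd.dvd.mul_left (hc.neg_right) _)
  obtain ⟨v, hv⟩ := exists_of_modEq_pos hp.pos (e_lt hp hte).1 hc2
  rcases Nat.eq_zero_or_pos u with h0 | h0
  · left; rw [hu, h0]; simp
  rcases Nat.eq_zero_or_pos v with h1 | h1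
  · right
    rw [h1, zero_mul, zero_add] at hv
    rw [hv, mul_comm d e] at hT
    exact (Nat.eq_of_mul_eq_mul_left he hT).symm
  · exfalso
    apply hexc
    apply Cfsg.Agent.Lib.H59BRArA.exc_of_plus hte he h0 h1
    rw [hT, hu, hv]

/-- `d = up-1`, cofactor `= vp-e`; `exc_of_minus` forces `u = 1` or `t = v = 1`. -/
theorem div_neg_one (hp : p.Prime) (hte : t * e + 1 = p) (he : 0 < e) (hexc : ¬ Exc p n)
    (hd : d ∣ e * (1 + n * p)) (hc : (d : ℤ) ≡ -1 [ZMOD p]) :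
    d = p - 1 ∨ (t = 1 ∧ d = e * (1 + n * p)) := by
  obtain ⟨c, hT⟩ := hd
  have hTz : (e : ℤ) * (1 + n * p) = d * c := by exact_mod_cast hT
  rw [Int.modEq_iff_dvd] at hc
  obtain ⟨u, hu1, hu⟩ := exists_of_modEq_neg (r := 1) hp.pos one_pos (by simpa using hc)
  have hc2 : (p : ℤ) ∣ -(e : ℤ) - c := by
    have e1 : -(e : ℤ) - c = p * (e * n) + c * (-1 - d) := by linear_combination -hTz
    rw [e1]
    exact dvd_add (Dvd.intro _ rfl) (Dvd.dvd.mul_left hc _)
  obtain ⟨v, hv1, hv⟩ := exists_of_modEq_neg hp.pos he hc2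
  have ht := (e_lt hp hte).2
  by_cases hu2 : 2 ≤ u
  · by_cases htv : 2 ≤ t * v
    · exfalso
      exact hexc (Cfsg.Agent.Lib.H59BRArA.exc_of_minus hte he hu2 hv1 htv hu hv hT)
    · right
      have h1 : t * v = 1 := by
        have : 0 < t * v := Nat.mul_pos ht hv1
        omega
      have ht1 : t = 1 := Nat.eq_one_of_mul_eq_one_right h1
      have hv1' : v = 1 := Nat.eq_one_of_mul_eq_one_left h1
      subst ht1 hv1'
      have hc1 : c = 1 := by omega
      rw [hT, hc1, mul_one]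
      exact ⟨rfl, rfl⟩
  · left
    have : u = 1 := by omega
    subst this
    omega

/-- `d = vp+e`, cofactor `= up+1`. -/
theorem div_e (hp : p.Prime) (hte : t * e + 1 = p) (he : 0 < e) (hexc : ¬ Exc p n)
    (hd : d ∣ e * (1 + n * p)) (hc : (d : ℤ) ≡ e [ZMOD p]) : d = e ∨ d = e * (1 + n * p) := by
  obtain ⟨c, hT⟩ := hd
  have hTz : (e : ℤ) * (1 + n * p) = d * c := by exact_mod_cast hT
  rw [Int.modEq_iff_dvd] at hc
  obtain ⟨v, hv⟩ := exists_of_modEq_pos hp.pos (e_lt hp hte).1 hc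
  have hpz : Prime (p : ℤ) := Nat.prime_iff_prime_int.1 hp
  have hc2 : (p : ℤ) ∣ ((1 : ℕ) : ℤ) - c := by
    have e1 : (e : ℤ) * (((1 : ℕ) : ℤ) - c) = p * (-(e * n)) + c * -(e - d) := by
      push_cast
      linear_combination hTz
    have h2 : (p : ℤ) ∣ (e : ℤ) * (((1 : ℕ) : ℤ) - c) := by
      rw [e1]
      exact dvd_add (Dvd.intro _ rfl) (Dvd.dvd.mul_left (hc.neg_right) _)
    exact (hpz.dvd_or_dvd h2).resolve_left (not_dvd_e hp hte he)
  obtain ⟨u, hu⟩ := exists_of_modEq_pos hp.pos hp.one_lt hc2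
  rcases Nat.eq_zero_or_pos u with h0 | h0
  · right
    rw [hT, hu, h0]; simp
  rcases Nat.eq_zero_or_pos v with h1 | h1
  · left; rw [hv, h1]; simp
  · exfalso
    apply hexc
    apply Cfsg.Agent.Lib.H59BRArA.exc_of_plus hte he h0 h1
    rw [hT, hu, hv, mul_comm]

/-- `d = vp-e`, cofactor `= up-1`; `u = 1` gives `t d = 1 + n p`, `t = v = 1` gives `d = 1`. -/
theorem div_neg_e (hp : p.Prime) (hte : t * e + 1 = p) (he : 0 < e) (hexc : ¬ Exc p n)
    (hd : d ∣ e * (1 + n * p)) (hc : (d : ℤ) ≡ -(e : ℤ) [ZMOD p]) :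
    t * d = 1 + n * p ∨ d = 1 := by
  obtain ⟨c, hT⟩ := hd
  have hTz : (e : ℤ) * (1 + n * p) = d * c := by exact_mod_cast hT
  rw [Int.modEq_iff_dvd] at hc
  obtain ⟨v, hv1, hv⟩ := exists_of_modEq_neg hp.pos he hc
  have hpz : Prime (p : ℤ) := Nat.prime_iff_prime_int.1 hp
  have hc2 : (p : ℤ) ∣ -((1 : ℕ) : ℤ) - c := by
    have e1 : (e : ℤ) * (-((1 : ℕ) : ℤ) - c) = p * (e * n) + c * (-e - d) := by
      push_cast
      linear_combination -hTz
    have h2 : (p : ℤ) ∣ (e : ℤ) * (-((1 : ℕ) : ℤ) - c) := by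
      rw [e1]
      exact dvd_add (Dvd.intro _ rfl) (Dvd.dvd.mul_left hc _)
    exact (hpz.dvd_or_dvd h2).resolve_left (not_dvd_e hp hte he)
  obtain ⟨u, hu1, hu⟩ := exists_of_modEq_neg hp.pos one_pos hc2
  have ht := (e_lt hp hte).2
  by_cases hu2 : 2 ≤ u
  · by_cases htv : 2 ≤ t * v
    · exfalso
      exact hexc (Cfsg.Agent.Lib.H59BRArA.exc_of_minus hte he hu2 hv1 htv hu hv
        (by rw [hT, mul_comm]))
    · right
      have h1 : t * v = 1 := by
        have : 0 < t * v := Nat.mul_pos ht hv1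
        omega
      have ht1 : t = 1 := Nat.eq_one_of_mul_eq_one_right h1
      have hv1' : v = 1 := Nat.eq_one_of_mul_eq_one_left h1
      subst ht1 hv1'
      omega
  · left
    have : u = 1 := by omega
    subst this
    have hc1 : c = t * e := by omega
    rw [hc1] at hT
    have : e * (1 + n * p) = e * (t * d) := by rw [hT]; ring
    exact (Nat.eq_of_mul_eq_mul_left he this).symm

end Cfsg.Agent.Lib.H59BRArB
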