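import Mathlib
import Cfsg.Agent.Lib.Helper59BRDefs
import Cfsg.Agent.Lib.H59BRArB

set_option autoImplicit false
set_option linter.unusedSectionVars false
set_option linter.unusedVariables false

namespace Cfsg.Agent.Lib.H59BRArC

open Cfsg Subgroup
open Cfsg.Agent.Lib.Helper81Base Cfsg.Agent.Lib.Helper82Linear Cfsg.Agent.Lib.Helper59BRDefs
open scoped ComplexConjugate

/-- The degree configuration (see BR.md, step 3). -/
theorem cfg_of_not_exc {ι : Type*} [DecidableEq ι] {p e t n : ℕ} (hp : p.Prime)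
    (hte : t * e + 1 = p) (he : 2 ≤ e) (hn : 1 ≤ n) (X : Finset ι) (o : ι) (ho : o ∈ X)
    (hX : X.card = e) (deg : ι → ℕ) (s : ι → ℤ) (ε : ℤ) (y : ℕ)
    (hs : ∀ χ ∈ X, s χ = 1 ∨ s χ = -1) (hso : s o = 1) (hdo : deg o = 1)
    (hlin : ∀ χ ∈ X, deg χ = 1 → χ = o)
    (hdvd : ∀ χ ∈ X, deg χ ∣ e * (1 + n * p)) (hcong : ∀ χ ∈ X, (deg χ : ℤ) ≡ s χ [ZMOD p])
    (hε : ε = 1 ∨ ε = -1) (hy1 : y ≠ 1) (hyd : y ∣ e * (1 + n * p))
    (hyc : (y : ℤ) ≡ ε * (e : ℤ) [ZMOD p])
    (hrel : ε * (y : ℤ) = ∑ χ ∈ X, s χ * (deg χ : ℤ)) (hexc : ¬ Exc p n) :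
    Cfg p e t n X o deg s ε y := by
  have hp0 := hp.pos
  have he0 : 0 < e := by omega
  obtain ⟨a, ha⟩ : ∃ a : ℕ, a = ∑ χ ∈ X, if (χ ≠ o ∧ s χ = 1) then 1 else 0 := ⟨_, rfl⟩
  obtain ⟨b, hb⟩ : ∃ b : ℕ, b = ∑ χ ∈ X, if s χ = -1 then 1 else 0 := ⟨_, rfl⟩
  obtain ⟨Sm, hSm⟩ : ∃ Sm : ℕ, Sm = ∑ χ ∈ X, if s χ = -1 then deg χ else 0 := ⟨_, rfl⟩
  have degP : ∀ χ ∈ X, χ ≠ o → s χ = 1 → deg χ = 1 + n * p := by
    intro χ hχ hne h1
    have hc := hcong χ hχ
    rw [h1] at hc
    rcases H59BRArB.div_one hp hte he0 hexc (hdvd χ hχ) hc with h | h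
    · exact absurd (hlin χ hχ h) hne
    · exact h
  have F1 : 1 + a + b = e := by
    rw [← hX, Finset.card_eq_sum_ones, ha, hb]
    have : ∑ χ ∈ X, (1 : ℕ) = ∑ χ ∈ X, ((if χ = o then 1 else 0) +
        (if (χ ≠ o ∧ s χ = 1) then 1 else 0) + (if s χ = -1 then 1 else 0)) := by
      apply Finset.sum_congr rfl
      intro χ hχ
      by_cases h0 : χ = o
      · subst h0
        simp [hso]
      · rcases hs χ hχ with h | h
        · simp [h0, h]
        · simp [h0, h]
    rw [this, Finset.sum_add_distrib, Finset.sum_add_distrib, Finset.sum_ite_eq' X o, if_pos ho]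
  have F2 : ε * (y : ℤ) = 1 + (a : ℤ) * (1 + n * p) - (Sm : ℤ) := by
    rw [hrel, ha, hSm]
    have : ∑ χ ∈ X, s χ * (deg χ : ℤ) = ∑ χ ∈ X, ((if χ = o then (1 : ℤ) else 0) +
        (if (χ ≠ o ∧ s χ = 1) then (1 : ℤ) else 0) * (1 + n * p) -
        (if s χ = -1 then (deg χ : ℤ) else 0)) := by
      apply Finset.sum_congr rfl
      intro χ hχ
      by_cases h0 : χ = o
      · subst h0
        simp [hso, hdo]
      · rcases hs χ hχ with h | h
        · simp [h0, h, degP χ hχ h0 h]
        · simp [h0, h]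
    rw [this, Finset.sum_sub_distrib, Finset.sum_add_distrib, Finset.sum_ite_eq' X o, if_pos ho,
      ← Finset.sum_mul]
    push_cast
    rfl
  have hy' : (ε = 1 ∧ (y = e ∨ y = e * (1 + n * p))) ∨ (ε = -1 ∧ t * y = 1 + n * p) := by
    rcases hε with h | h
    · left
      refine ⟨h, ?_⟩
      rw [h, one_mul] at hyc
      exact H59BRArB.div_e hp hte he0 hexc hyd hyc
    · right
      refine ⟨h, ?_⟩
      rw [h, neg_one_mul] at hyc
      exact (H59BRArB.div_neg_e hp hte he0 hexc hyd hyc).resolve_right hy1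
  have hK : (1 : ℤ) < 1 + n * p := by
    have : 0 < n * p := Nat.mul_pos hn hp0
    have : (0 : ℤ) < n * p := by exact_mod_cast this
    linarith
  have degM : ∀ χ ∈ X, s χ = -1 → deg χ = p - 1 := by
    intro χ hχ h1
    have hc := hcong χ hχ
    rw [h1] at hc
    rcases H59BRArB.div_neg_one hp hte he0 hexc (hdvd χ hχ) hc with h | ⟨ht, h⟩
    · exact h
    · exfalso
      have hS : deg χ ≤ Sm := by
        rw [hSm]
        have := Finset.single_le_sum (f := fun χ => if s χ = -1 then deg χ else 0)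
          (fun _ _ => Nat.zero_le _) hχ
        simpa [h1] using this
      have hb1 : 1 ≤ b := by
        rw [hb]
        have := Finset.single_le_sum (f := fun χ => if s χ = -1 then 1 else 0)
          (fun _ _ => Nat.zero_le _) hχ
        simpa [h1] using this
      have hlow : -(1 + (n : ℤ) * p) ≤ ε * y := by
        rcases hy' with ⟨h1, -⟩ | ⟨h1, h2⟩
        · rw [h1, one_mul]
          have : (0 : ℤ) ≤ y := Int.natCast_nonneg y
          linarith
        · rw [h1, ht, one_mul] at *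
          rw [h2]; push_cast; linarith
      have hS' : (e : ℤ) * (1 + n * p) ≤ Sm := by
        rw [h] at hS
        exact_mod_cast hS
      have ha2 : (a : ℤ) ≤ e - 2 := by
        have : a + 2 ≤ e := by omega
        have : ((a + 2 : ℕ) : ℤ) ≤ e := by exact_mod_cast this
        push_cast at this
        linarith
      have h5 : (a : ℤ) * (1 + n * p) ≤ (e - 2) * (1 + n * p) :=
        mul_le_mul_of_nonneg_right ha2 (by linarith)
      rw [F2] at hlow
      nlinarith
  have F3 : Sm = b * (p - 1) := by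
    rw [hSm, hb, Finset.sum_mul]
    apply Finset.sum_congr rfl
    intro χ hχ
    by_cases h : s χ = -1
    · simp [h, degM χ hχ h]
    · simp [h]
  have F3' : (Sm : ℤ) = b * (p - 1) := by
    rw [F3]
    push_cast [Nat.cast_sub hp0]
    ring
  have F1' : (b : ℤ) = e - 1 - a := by
    have : ((1 + a + b : ℕ) : ℤ) = e := by exact_mod_cast F1
    push_cast at this
    linarith
  have hpz : (p : ℤ) ≠ 0 := by exact_mod_cast hp0.ne'
  have hte' : (t : ℤ) * e + 1 = p := by exact_mod_cast hte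
  have exM_of : 1 ≤ b → ∃ χ ∈ X, s χ = -1 := by
    intro hb1
    by_contra hcon
    push Not at hcon
    have : b = 0 := by
      rw [hb]
      apply Finset.sum_eq_zero
      intro χ hχ
      simp [hcon χ hχ]
    omega
  rcases hy' with ⟨h1, h2 | h2⟩ | ⟨h1, h2⟩
  · -- (alpha)
    have key : (e : ℤ) - 1 = a * (n + 1) := by
      rw [h1, h2, one_mul, F3', F1'] at F2
      have : ((e : ℤ) - 1 - a * (n + 1)) * p = 0 := by linear_combination F2
      rcases mul_eq_zero.1 this with h | h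
      · linarith
      · exact absurd h hpz
    have key' : a * (n + 1) + 1 = e := by
      have : ((a * (n + 1) + 1 : ℕ) : ℤ) = e := by push_cast; linarith
      exact_mod_cast this
    have hbn : b = a * n := by
      have : (b : ℤ) = a * n := by rw [F1']; linarith
      exact_mod_cast this
    have ha1 : 1 ≤ a := by
      rcases Nat.eq_zero_or_pos a with h | h
      · rw [h] at key'; omega
      · exact h
    refine ⟨degP, degM, exM_of (by rw [hbn]; exact Nat.mul_pos ha1 hn), Or.inl ⟨h1, h2, a, key', ?_⟩⟩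
    rw [← hSm, F3, hbn]
  · -- (beta)
    exfalso
    rw [h1, h2, one_mul, F3'] at F2
    push_cast at F2
    have hb0 : (0 : ℤ) ≤ b := Int.natCast_nonneg b
    have hp1 : (0 : ℤ) ≤ (p : ℤ) - 1 := by
      have : (1 : ℤ) ≤ p := by exact_mod_cast hp0
      linarith
    have h3 : (0 : ℤ) ≤ b * (p - 1) := mul_nonneg hb0 hp1
    have ha2 : (a : ℤ) ≤ e - 1 := by linarith
    have h5 : (a : ℤ) * (1 + n * p) ≤ (e - 1) * (1 + n * p) :=
      mul_le_mul_of_nonneg_right ha2 (by linarith)
    nlinarith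
  · -- (gamma)
    rw [h1, neg_one_mul] at hyc
    have hdv : (p : ℤ) ∣ (y : ℤ) + e := by
      have := hyc.symm.dvd
      simpa using this
    have hdv' : p ∣ y + e := by exact_mod_cast hdv
    obtain ⟨v, hv⟩ := hdv'
    have hv' : (y : ℤ) + e = p * v := by exact_mod_cast hv
    have h2' : (t : ℤ) * y = 1 + n * p := by exact_mod_cast h2
    have k1 : (n : ℤ) + 1 = t * v := by
      have : ((n : ℤ) + 1 - t * v) * p = 0 := by
        linear_combination (-1 : ℤ) * h2' + (t : ℤ) * hv' - hte'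
      rcases mul_eq_zero.1 this with h | h
      · linarith
      · exact absurd h hpz
    have k2 : ((t : ℤ) * a + 1) * v + 1 = e := by
      rw [h1, F3', F1'] at F2
      have : (((t : ℤ) * a + 1) * v + 1 - e) * p = 0 := by
        linear_combination (-1 : ℤ) * F2 - (1 + (t : ℤ) * a) * hv' + (a : ℤ) * h2' + (a : ℤ) * hte'
      rcases mul_eq_zero.1 this with h | h
      · linarith
      · exact absurd h hpz
    have hb1 : 1 ≤ b := by
      rcases Nat.eq_zero_or_pos b with h | h
      · exfalso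
        rw [h1, F3', h] at F2
        have : (0 : ℤ) ≤ y := Int.natCast_nonneg y
        have : (0 : ℤ) ≤ (a : ℤ) * (1 + n * p) := mul_nonneg (Int.natCast_nonneg a) (by linarith)
        push_cast at F2
        linarith
      · exact h
    refine ⟨degP, degM, exM_of hb1, Or.inr ⟨h1, h2, a, v, ?_, ?_⟩⟩
    · exact_mod_cast k1
    · exact_mod_cast k2

end Cfsg.Agent.Lib.H59BRArC
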