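import Mathlib
import Cfsg.Agent.Lib.Helper59BRDefs

set_option autoImplicit false
set_option linter.unusedSectionVars false
set_option linter.unusedVariables false

namespace Cfsg.Agent.Lib.H59BRArD

open Cfsg Subgroup
open Cfsg.Agent.Lib.Helper81Base Cfsg.Agent.Lib.Helper82Linear Cfsg.Agent.Lib.Helper59BRDefs
open scoped ComplexConjugate

/-- `(n+1) ∣ p t e` -/
theorem dvd_aux {p e t n : ℕ} (hte : t * e + 1 = p) (he : 2 ≤ e)
    (hdvd : e * (n + 1) ∣ p * e * (1 + n * p)) : n + 1 ∣ p * (t * e) := by
  have h1 : n + 1 ∣ p * (1 + n * p) := by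
    have : e * (n + 1) ∣ e * (p * (1 + n * p)) := by
      have e1 : e * (p * (1 + n * p)) = p * e * (1 + n * p) := by ring
      rw [e1]; exact hdvd
    exact Nat.dvd_of_mul_dvd_mul_left (by omega) this
  have h2 : p * (1 + n * p) + p * (t * e) = (n + 1) * (p * p) := by
    rw [← hte]; ring
  exact (Nat.dvd_add_right h1).1 (h2 ▸ Dvd.intro _ rfl)

/-- Final arithmetic (see BR.md, step 6). -/
theorem arith_final {ι : Type*} {p e t n : ℕ} (hp : p.Prime)
    (hte : t * e + 1 = p) (he : 2 ≤ e) (hn : 1 ≤ n) {X : Finset ι} {o : ι} {deg : ι → ℕ}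
    {s : ι → ℤ} {ε : ℤ} {y : ℕ} (C : Cfg p e t n X o deg s ε y)
    (hdvd : e * (n + 1) ∣ p * e * (1 + n * p))
    (hdelta : 2 ≤ t → ∑ χ ∈ X, (if s χ = -1 then deg χ else 0) ≤ y ^ 2) :
    2 ≤ t ∧ (n = 1 ∨ ((n + 1) * e = p - 1 ∧ 2 ∣ e)) := by
  have hd := dvd_aux hte he hdvd
  have ht : 0 < t := by
    rcases Nat.eq_zero_or_pos t with h | h
    · subst h
      have := hp.two_le
      omega
    · exact h
  have hep : e < p := by
    have : e ≤ t * e := Nat.le_mul_of_pos_left e ht
    omega
  rcases C.alt with ⟨-, hy, a, ha, hsum⟩ | ⟨-, hy, a, v, hnv, hav⟩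
  · -- case alpha
    have ha0 : 0 < a := by
      rcases Nat.eq_zero_or_pos a with h | h
      · subst h; omega
      · exact h
    have hle : n + 1 ≤ a * (n + 1) := Nat.le_mul_of_pos_left _ ha0
    have hcop_p : Nat.Coprime (n + 1) p := by
      rw [Nat.coprime_comm]
      exact (Nat.Prime.coprime_iff_not_dvd hp).2 (fun h => by
        have := Nat.le_of_dvd (by omega) h
        omega)
    have hcop_e : Nat.Coprime (n + 1) e := by
      rw [← ha]
      have : Nat.Coprime (n + 1) (a * (n + 1) + 1) := by
        rw [Nat.coprime_mul_right_add_right]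
        exact Nat.coprime_one_right _
      exact this
    have h1 : n + 1 ∣ t * e := hcop_p.dvd_of_dvd_mul_left hd
    have h2 : n + 1 ∣ t := hcop_e.dvd_of_dvd_mul_right h1
    have h3 : n + 1 ≤ t := Nat.le_of_dvd ht h2
    have ht2 : 2 ≤ t := by omega
    refine ⟨ht2, Or.inl ?_⟩
    have h4 := hdelta ht2
    rw [hsum, hy] at h4
    have hp1 : p - 1 = t * e := by omega
    rw [hp1] at h4
    have h5 : a * n * t ≤ e := by
      have : (a * n * t) * e ≤ e * e := by
        calc (a * n * t) * e = a * n * (t * e) := by ring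
          _ ≤ e ^ 2 := h4
          _ = e * e := by ring
      exact Nat.le_of_mul_le_mul_right this (by omega)
    by_contra hn1
    have hn2 : 2 ≤ n := by omega
    have h6 : a * n * (n + 1) ≤ a * n * t := Nat.mul_le_mul_left _ h3
    have h7 : a * n * (n + 1) ≤ a * (n + 1) + 1 := by omega
    have h8 : a * 2 * (n + 1) ≤ a * n * (n + 1) :=
      Nat.mul_le_mul_right _ (Nat.mul_le_mul_left _ hn2)
    have h9 : a * 2 * (n + 1) = a * (n + 1) + a * (n + 1) := by ring
    omega
  · -- case gamma
    have hv0 : 0 < v := by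
      rcases Nat.eq_zero_or_pos v with h | h
      · subst h; omega
      · exact h
    have h1 : v ∣ p * e := by
      have : t * v ∣ t * (p * e) := by
        have e1 : t * (p * e) = p * (t * e) := by ring
        rw [e1, ← hnv]; exact hd
      exact Nat.dvd_of_mul_dvd_mul_left ht this
    have hcop_e : Nat.Coprime v e := by
      rw [← hav]
      have : Nat.Coprime v ((t * a + 1) * v + 1) := by
        rw [Nat.coprime_mul_right_add_right]
        exact Nat.coprime_one_right _
      exact this
    have h2 : v ∣ p := hcop_e.dvd_of_dvd_mul_right h1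
    have hvle : v ≤ (t * a + 1) * v := Nat.le_mul_of_pos_left _ (by omega)
    have hv1 : v = 1 := by
      rcases (Nat.dvd_prime hp).1 h2 with h | h
      · exact h
      · omega
    subst hv1
    rw [mul_one] at hnv hav
    have ht2 : 2 ≤ t := by omega
    refine ⟨ht2, Or.inr ⟨by rw [hnv]; omega, ?_⟩⟩
    -- parity
    have hodd : Odd p := by
      apply hp.odd_of_ne_two
      intro h2p
      have : 2 * 2 ≤ t * e := Nat.mul_le_mul ht2 he
      omega
    have heven : Even (t * e) := by
      rcases Nat.even_or_odd (t * e) with h | h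
      · exact h
      · exfalso
        have : Even p := by rw [← hte]; exact h.add_one
        exact (Nat.not_even_iff_odd.2 hodd) this
    rw [← even_iff_two_dvd]
    rcases Nat.even_mul.1 heven with h | h
    · rw [← hav]
      have : Even (t * a) := h.mul_right a
      have e1 : t * a + 1 + 1 = t * a + 2 := by ring
      rw [e1]
      exact this.add even_two
    · exact h

end Cfsg.Agent.Lib.H59BRArD
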