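import Mathlib
import Cfsg.Agent.Lib.Helper59BRDefs

set_option autoImplicit false
set_option linter.unusedSectionVars false
set_option linter.unusedVariables false

namespace Cfsg.Agent.Lib.H59BRBasicB

open Cfsg Subgroup
open Cfsg.Agent.Lib.Helper81Base Cfsg.Agent.Lib.Helper82Linear Cfsg.Agent.Lib.Helper59BRDefs
open scoped ComplexConjugate

variable {G : Type*} [Group G] [Finite G] {p : ℕ} [Fact p.Prime]

theorem zpowers_eq (P : Sylow p G) (hP : Nat.card P = p) (x : G) (hx : x ∈ (P : Subgroup G))
    (hx1 : x ≠ 1) : zpowers x = (P : Subgroup G) := by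
  have hle : zpowers x ≤ (P : Subgroup G) := by
    rw [zpowers_le]; exact hx
  apply Subgroup.eq_of_le_of_card_ge hle
  have hdvd : Nat.card (zpowers x) ∣ p := hP ▸ Subgroup.card_dvd_of_le hle
  rcases (Nat.dvd_prime (Fact.out : p.Prime)).1 hdvd with h | h
  · exfalso
    rw [Subgroup.card_eq_one, zpowers_eq_bot] at h
    exact hx1 h
  · rw [h, hP]

/-- `C(x) = C(P)` for `1 ≠ x ∈ P` and `|G : C(P)| = |G : N(P)| |N(P) : C(P)|`,
`|G : N(P)| = ` number of Sylow subgroups (`Sylow.card_eq_index_normalizer`). -/
theorem index_centralizer (P : Sylow p G) (hP : Nat.card P = p) (n : ℕ)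
    (hn : Nat.card (Sylow p G) = 1 + n * p) (x : G) (hx : x ∈ (P : Subgroup G)) (hx1 : x ≠ 1) :
    (centralizer ({x} : Set G)).index = (centralizer ((P : Subgroup G) : Set G)).relIndex
      (normalizer ((P : Subgroup G) : Set G)) * (1 + n * p) := by
  have h1 : centralizer ({x} : Set G) = centralizer ((P : Subgroup G) : Set G) := by
    rw [← zpowers_eq P hP x hx hx1, zpowers_eq_closure, centralizer_closure]
  rw [h1, ← hn, Sylow.card_eq_index_normalizer P]
  exact (Subgroup.relIndex_mul_index (centralizer_le_normalizer _)).symm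

/-- `N(P)/C(P)` embeds in `Aut P ≅ (ZMod p)ˣ`. -/
theorem e_dvd (P : Sylow p G) (hP : Nat.card P = p) :
    (centralizer ((P : Subgroup G) : Set G)).relIndex
      (normalizer ((P : Subgroup G) : Set G)) ∣ p - 1 := by
  have key := card_dvd_of_injective _
    (QuotientGroup.kerLift_injective (P : Subgroup G).normalizerMonoidHom)
  rw [normalizerMonoidHom_ker, ← index, ← relIndex] at key
  have hcyc : IsCyclic (P : Subgroup G) := isCyclic_of_prime_card hP
  rw [hcyc.card_mulAut, hP, Nat.totient_prime Fact.out] at key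
  exact key

/-- when `C(P) = P`. -/
theorem card_normalizer (P : Sylow p G) (hP : Nat.card P = p)
    (hC : centralizer ((P : Subgroup G) : Set G) = (P : Subgroup G)) :
    Nat.card (normalizer ((P : Subgroup G) : Set G)) =
      p * (centralizer ((P : Subgroup G) : Set G)).relIndex
      (normalizer ((P : Subgroup G) : Set G)) := by
  have h := Subgroup.relIndex_mul_relIndex ⊥ (centralizer ((P : Subgroup G) : Set G))
    (normalizer ((P : Subgroup G) : Set G)) bot_le (centralizer_le_normalizer _)
  rw [Subgroup.relIndex_bot_left, Subgroup.relIndex_bot_left] at h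
  rw [← h]
  congr 1
  rw [hC, hP]

end Cfsg.Agent.Lib.H59BRBasicB
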