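import Mathlib
import Cfsg.Agent.Lib.Helper59BRDefs

set_option autoImplicit false
set_option linter.unusedSectionVars false
set_option linter.unusedVariables false

namespace Cfsg.Agent.Lib.H59BRBasicC

open Cfsg Subgroup
open Cfsg.Agent.Lib.Helper81Base Cfsg.Agent.Lib.Helper82Linear Cfsg.Agent.Lib.Helper59BRDefs
open scoped ComplexConjugate

variable {G : Type*} [Group G] [Fintype G]

/-- A linear character of a perfect group is trivial (a character of degree `1` is a
homomorphism to `ℂˣ`, see `Helper82Linear`; it kills the commutator subgroup). -/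
theorem lin_eq_one (hperf : commutator G = ⊤) (χ : IrrCharacter G)
    (h : charDegree (χ : G → ℂ) = 1) : χ = irrOne G := by
  have h1 : (χ : G → ℂ) 1 = 1 := by
    rw [← charDegree_eq χ, h]
    simp
  apply Subtype.ext
  funext g
  have hg : g ∈ commutator G := by
    rw [hperf]
    exact mem_top g
  exact irr_linear_eq_one_of_mem_commutator χ h1 hg

end Cfsg.Agent.Lib.H59BRBasicC
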