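import Mathlib

set_option autoImplicit false
set_option linter.unusedSectionVars false
set_option linter.unusedVariables false

/-! Modular representations, part A: the orbit-sum lemma and the commutator construction. -/

namespace Cfsg.Agent.Lib.Helper25ModA

open scoped Classical in
/-- Orbit lemma: a sum of an equivariant function over a set on which every point is either fixed
or has trivial stabiliser is the sum over the fixed points plus a norm. -/
theorem orbit_sum {Γ Ω V : Type*} [Group Γ] [Fintype Γ] [MulAction Γ Ω] [Fintype Ω]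
    [AddCommMonoid V] (a : Γ → V →+ V) (τ : Ω → V) (hτ : ∀ z ω, τ (z • ω) = a z (τ ω))
    (hfree : ∀ ω : Ω, (∀ z : Γ, z • ω = ω) ∨ (∀ z : Γ, z • ω = ω → z = 1)) :
    ∃ v : V, ∑ ω, τ ω = (∑ ω, if (∀ z : Γ, z • ω = ω) then τ ω else 0) + ∑ z, a z v := by
  let s := MulAction.orbitRel Γ Ω
  let out : Ω → Ω := fun ω => Quotient.out (Quotient.mk s ω)
  have hout : ∀ ω, ∃ z : Γ, z • out ω = ω := by
    intro ω
    have h1 : s (out ω) ω := Quotient.exact (Quotient.out_eq (Quotient.mk s ω))
    have h2 : s ω (out ω) := Setoid.symm h1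
    obtain ⟨z, hz⟩ := (MulAction.orbitRel_apply.mp h2)
    exact ⟨z, hz⟩
  have hout2 : ∀ (z : Γ) ω, out (z • ω) = out ω := by
    intro z ω
    have : Quotient.mk s (z • ω) = Quotient.mk s ω :=
      Quotient.sound (MulAction.orbitRel_apply.mpr ⟨z, rfl⟩)
    simp only [out, this]
  have hout3 : ∀ ω, out (out ω) = out ω := by
    intro ω
    obtain ⟨z, hz⟩ := hout ω
    conv_rhs => rw [← hz]
    rw [hout2]
  let R : Finset Ω := Finset.univ.filter (fun ω => ¬ (∀ z : Γ, z • ω = ω) ∧ out ω = ω)
  refine ⟨∑ ω ∈ R, τ ω, ?_⟩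
  have h1 : ∑ z, a z (∑ ω ∈ R, τ ω) = ∑ x ∈ (Finset.univ : Finset Γ) ×ˢ R, τ (x.1 • x.2) := by
    rw [Finset.sum_product]
    apply Finset.sum_congr rfl
    intro z _
    rw [map_sum]
    apply Finset.sum_congr rfl
    intro ω _
    rw [hτ]
  have hfix : ∀ (z : Γ) (ω : Ω), (∀ z' : Γ, z' • (z • ω) = z • ω) → ∀ z' : Γ, z' • ω = ω := by
    intro z ω h z'
    have := h (z * z' * z⁻¹)
    rw [← mul_smul, inv_mul_cancel_right, mul_smul] at this
    exact smul_left_cancel z this
  have h2 : ∑ x ∈ (Finset.univ : Finset Γ) ×ˢ R, τ (x.1 • x.2)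
      = ∑ ω ∈ Finset.univ.filter (fun ω : Ω => ¬ (∀ z : Γ, z • ω = ω)), τ ω := by
    apply Finset.sum_bij (fun x _ => x.1 • x.2)
    · rintro ⟨z, ω⟩ hx
      simp only [Finset.mem_product, Finset.mem_univ, true_and, R, Finset.mem_filter] at hx
      simp only [Finset.mem_filter, Finset.mem_univ, true_and]
      exact fun h => hx.1 (hfix z ω h)
    · rintro ⟨z, ω⟩ hx ⟨z', ω'⟩ hx' he
      simp only [Finset.mem_product, Finset.mem_univ, true_and, R, Finset.mem_filter] at hx hx'
      simp only at he
      have h3 : ω = ω' := by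
        rw [← hx.2, ← hx'.2, ← hout2 z ω, ← hout2 z' ω', he]
      subst h3
      have h4 : (z'⁻¹ * z) • ω = ω := by
        rw [mul_smul, he, inv_smul_smul]
      have h5 := (hfree ω).resolve_left hx.1 _ h4
      have h6 : z = z' := by
        have := congrArg (fun t => z' * t) h5
        simpa using this
      rw [h6]
    · intro ω hω
      simp only [Finset.mem_filter, Finset.mem_univ, true_and] at hω
      obtain ⟨z, hz⟩ := hout ω
      refine ⟨(z, out ω), ?_, hz⟩
      simp only [Finset.mem_product, Finset.mem_univ, true_and, R, Finset.mem_filter]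
      refine ⟨fun h => hω ?_, hout3 ω⟩
      intro z'
      rw [← hz, h z, h z']
    · intro x _
      rfl
  rw [h1, h2, Finset.sum_filter, ← Finset.sum_add_distrib]
  apply Finset.sum_congr rfl
  intro ω _
  by_cases h : ∀ z : Γ, z • ω = ω
  · rw [if_pos h, if_neg (not_not.mpr h), add_zero]
  · rw [if_neg h, if_pos h, zero_add]

/-- for a group of prime order, every point is fixed or free. -/
theorem fixed_or_free {Γ Ω : Type*} [Group Γ] [MulAction Γ Ω] {p : ℕ} [Fact p.Prime]
    (hΓ : Nat.card Γ = p) (ω : Ω) :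
    (∀ z : Γ, z • ω = ω) ∨ (∀ z : Γ, z • ω = ω → z = 1) := by
  have : Fact (Nat.card Γ).Prime := ⟨by rw [hΓ]; exact Fact.out⟩
  rcases Subgroup.eq_bot_or_eq_top_of_prime_card (MulAction.stabilizer Γ ω) with h | h
  · right
    intro z hz
    have : z ∈ MulAction.stabilizer Γ ω := hz
    rw [h] at this
    exact Subgroup.mem_bot.mp this
  · left
    intro z
    have : z ∈ MulAction.stabilizer Γ ω := by rw [h]; exact Subgroup.mem_top z
    exact this

section comm

variable {E : Type*} [Ring E]

/-- `F x θ r = ∑_{i+j=r-1} x^i θ x^j`. -/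
def F (x θ : E) : ℕ → E
  | 0 => 0
  | (r + 1) => F x θ r * x + x ^ r * θ

theorem F_comm (x θ : E) (r : ℕ) : x * F x θ r - F x θ r * x = x ^ r * θ - θ * x ^ r := by
  induction r with
  | zero => simp [F]
  | succ r ih =>
    have e1 : x * F x θ (r + 1) - F x θ (r + 1) * x
        = (x * F x θ r - F x θ r * x) * x + x ^ (r + 1) * θ - x ^ r * θ * x := by
      simp only [F]
      rw [pow_succ']
      noncomm_ring
    rw [e1, ih, pow_succ]
    noncomm_ring

end comm

end Cfsg.Agent.Lib.Helper25ModA
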