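import Mathlib
import Cfsg.Agent.Lib.Helper25ModA

set_option autoImplicit false
set_option linter.unusedSectionVars false
set_option linter.unusedVariables false

/-! Modular representations, part B: relative trace from a Sylow subgroup of prime order, and the
uniqueness of the eigen-type of a representation satisfying Schur's lemma. -/

namespace Cfsg.Agent.Lib.Helper25ModB

open Cfsg.Agent.Lib.Helper25ModA Subgroup

variable {k : Type*} [Field k] {G : Type*} [Group G] [Fintype G] {V : Type*} [AddCommGroup V]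
  [Module k V] (ρ : Representation k G V)

/-- conjugate of an endomorphism. -/
def cjE (φ : Module.End k V) (g : G) : Module.End k V := ρ g * φ * ρ g⁻¹

theorem cjE_mul (φ : Module.End k V) (g h : G) : cjE ρ φ (g * h) = ρ g * cjE ρ φ h * ρ g⁻¹ := by
  unfold cjE
  rw [mul_inv_rev, map_mul, map_mul]
  noncomm_ring

theorem cjE_of_comm (φ : Module.End k V) (z : G) (hz : ρ z * φ = φ * ρ z) : cjE ρ φ z = φ := by
  unfold cjE
  rw [hz, mul_assoc, ← map_mul, mul_inv_cancel, map_one, mul_one]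

variable (P : Subgroup G)

theorem cjE_out (φ : Module.End k V) (hφ : ∀ z ∈ P, ρ z * φ = φ * ρ z) (g : G) :
    cjE ρ φ ((g : G ⧸ P).out) = cjE ρ φ g := by
  obtain ⟨h, hh⟩ := QuotientGroup.mk_out_eq_mul P g
  rw [hh, cjE_mul, cjE_of_comm ρ φ h (hφ h h.2)]
  rfl

open scoped Classical in
/-- relative trace. -/
noncomputable def trP (φ : Module.End k V) : Module.End k V :=
  ∑ q : G ⧸ P, cjE ρ φ q.out

open scoped Classical in
theorem trP_comm (φ : Module.End k V) (hφ : ∀ z ∈ P, ρ z * φ = φ * ρ z) (h : G) :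
    trP ρ P φ * ρ h = ρ h * trP ρ P φ := by
  have h1 : ρ h * trP ρ P φ * ρ h⁻¹ = trP ρ P φ := by
    unfold trP
    rw [Finset.mul_sum, Finset.sum_mul]
    refine Eq.trans ?_ (Equiv.sum_comp (MulAction.toPerm h : Equiv.Perm (G ⧸ P))
      (fun q => cjE ρ φ q.out))
    apply Finset.sum_congr rfl
    intro q _
    rw [← cjE_mul]
    have : (MulAction.toPerm h : Equiv.Perm (G ⧸ P)) q = ((h * q.out : G) : G ⧸ P) := by
      conv_lhs => rw [← QuotientGroup.out_eq' q]
      rfl
    rw [this, cjE_out ρ P φ hφ]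
  conv_lhs => rw [← h1]
  rw [mul_assoc, ← map_mul, inv_mul_cancel, map_one, mul_one]

open scoped Classical in
theorem trP_apply {p : ℕ} [Fact p.Prime] (hP : Nat.card P = p) (φ : Module.End k V)
    (hφ : ∀ z ∈ P, ρ z * φ = φ * ρ z) (w : V) (hw : ∀ z ∈ P, ρ z w = w) :
    ∃ v : V, trP ρ P φ w
      = (∑ q : G ⧸ P, if (∀ z : P, z • q = q) then cjE ρ φ q.out w else 0)
        + ∑ z : P, ρ z v := by
  obtain ⟨v, hv⟩ := orbit_sum (Γ := P) (Ω := G ⧸ P) (fun z => (ρ (z : G)).toAddMonoidHom)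
    (fun q => cjE ρ φ q.out w) (by
      intro z q
      have h1 : z • q = (((z : G) * q.out : G) : G ⧸ P) := by
        conv_lhs => rw [← QuotientGroup.out_eq' q]
        rfl
      rw [h1, cjE_out ρ P φ hφ, cjE_mul]
      simp only [Module.End.mul_apply, LinearMap.toAddMonoidHom_coe]
      rw [hw _ (inv_mem z.2)]) (fun q => fixed_or_free hP q)
  refine ⟨v, ?_⟩
  unfold trP
  rw [LinearMap.sum_apply, hv]
  simp only [LinearMap.toAddMonoidHom_coe]
  congr 1
  apply Finset.sum_congr rfl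
  intro q _
  by_cases h : ∀ z : P, z • q = q
  · rw [if_pos h, if_pos h]
  · rw [if_neg h, if_neg h]

omit [Fintype G] in
/-- the image of a power of `ρ y - 1` is stable under every `g` with `g y g⁻¹` a power of `y`. -/
theorem range_pow_stable (y g : G) (a : ℕ) (ha : y ^ a = g * y * g⁻¹) (r : ℕ) (v : V)
    (hv : v ∈ LinearMap.range ((ρ y - 1) ^ r)) : ρ g v ∈ LinearMap.range ((ρ y - 1) ^ r) := by
  obtain ⟨m, rfl⟩ := hv
  set x := ρ y - 1 with hx
  set Gs := ∑ i ∈ Finset.range a, (ρ y) ^ i with hGs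
  have h1 : SemiconjBy (ρ g) x (x * Gs) := by
    unfold SemiconjBy
    rw [hx, hGs, mul_geom_sum, ← map_pow, ha, mul_sub, sub_mul, mul_one, one_mul, ← map_mul,
      ← map_mul, inv_mul_cancel_right]
  have h2 : Commute x Gs := by
    rw [hGs]
    apply Commute.sum_right
    intro i _
    apply Commute.pow_right
    rw [hx]
    exact (Commute.refl _).sub_left (Commute.one_left _)
  have h3 := h1.pow_right r
  rw [h2.mul_pow] at h3
  have h4 : ρ g ((x ^ r) m) = (x ^ r) ((Gs ^ r) (ρ g m)) := by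
    have := congrArg (fun T : Module.End k V => T m) h3.eq
    simpa only [Module.End.mul_apply] using this
  rw [h4]
  exact ⟨_, rfl⟩

open scoped Classical in
/-- A representation satisfying Schur's lemma has at most one eigen-type. -/
theorem unique_type {p : ℕ} [Fact p.Prime] [CharP k p] (P : Sylow p G) (hP : Nat.card P = p)
    (hS : ∀ T : Module.End k V, (∀ g, T * ρ g = ρ g * T) → ∃ c : k, T = c • 1)
    (l₁ l₂ : G → k) (w₁ w₂ : V)
    (h1 : ∀ g ∈ normalizer ((P : Subgroup G) : Set G), ρ g w₁ = l₁ g • w₁)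
    (h2 : ∀ g ∈ normalizer ((P : Subgroup G) : Set G), ρ g w₂ = l₂ g • w₂)
    (hl1 : ∀ z ∈ (P : Subgroup G), l₁ z = 1) (hl2 : ∀ z ∈ (P : Subgroup G), l₂ z = 1)
    (hne : ∃ g ∈ normalizer ((P : Subgroup G) : Set G), l₁ g ≠ l₂ g)
    (hw1 : ∀ v, w₁ ≠ ∑ z : (P : Subgroup G), ρ z v)
    (hw2 : ∀ v, w₂ ≠ ∑ z : (P : Subgroup G), ρ z v) : False := by
  have hpp : p.Prime := Fact.out
  have hPN : (P : Subgroup G) ≤ normalizer ((P : Subgroup G) : Set G) := le_normalizer
  have hw1P : ∀ z ∈ (P : Subgroup G), ρ z w₁ = w₁ := fun z hz => by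
    rw [h1 z (hPN hz), hl1 z hz, one_smul]
  have hw2P : ∀ z ∈ (P : Subgroup G), ρ z w₂ = w₂ := fun z hz => by
    rw [h2 z (hPN hz), hl2 z hz, one_smul]
  have hw20 : w₂ ≠ 0 := by
    intro h0
    apply hw2 0
    simp [h0]
  -- a generator
  have hnt : Nontrivial (P : Subgroup G) := by
    apply Finite.one_lt_card_iff_nontrivial.mp
    rw [hP]; exact hpp.one_lt
  obtain ⟨y, hy⟩ := exists_ne (1 : (P : Subgroup G))
  have hgen : ∀ z ∈ (P : Subgroup G), ∃ a : ℕ, (y : G) ^ a = z := by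
    intro z hz
    obtain ⟨a, ha⟩ := mem_powers_of_prime_card (g' := (⟨z, hz⟩ : (P : Subgroup G))) hP hy
    exact ⟨a, by simpa using congrArg Subtype.val ha⟩
  set x : Module.End k V := ρ (y : G) - 1 with hx
  have hyp : (y : G) ^ p = 1 := by
    have : y ^ p = 1 := by
      have h' := pow_card_eq_one' (x := y)
      rwa [hP] at h'
    simpa using congrArg Subtype.val this
  have hxp : x ^ p = 0 := by
    have e1 : ((Polynomial.X : Polynomial k) - 1) ^ p = Polynomial.X ^ p - 1 := by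
      rw [sub_pow_char, one_pow]
    have e2 := congrArg (Polynomial.aeval (ρ (y : G))) e1
    simp only [map_pow, map_sub, Polynomial.aeval_X, map_one] at e2
    rw [hx, e2, ← map_pow, hyp, map_one, sub_self]
  have hxw2 : x w₂ = 0 := by
    rw [hx, LinearMap.sub_apply, hw2P y y.2]
    simp
  have hxw1 : x w₁ = 0 := by
    rw [hx, LinearMap.sub_apply, hw1P y y.2]
    simp
  -- the depth of `w₂`
  have hex : ∃ r : ℕ, w₂ ∉ LinearMap.range (x ^ r) := by
    refine ⟨p, ?_⟩
    rw [hxp]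
    rintro ⟨m, hm⟩
    exact hw20 (by rw [← hm]; rfl)
  set r := Nat.find hex with hr
  have hr1 : w₂ ∉ LinearMap.range (x ^ r) := Nat.find_spec hex
  have hr0 : r ≠ 0 := by
    intro h0
    rw [h0, pow_zero] at hr1
    exact hr1 ⟨w₂, rfl⟩
  obtain ⟨r', hr'⟩ := Nat.exists_eq_succ_of_ne_zero hr0
  have hr2 : w₂ ∈ LinearMap.range (x ^ r') := by
    by_contra hcon
    have := Nat.find_min' hex hcon
    omega
  obtain ⟨u, hu⟩ := hr2
  -- the functional
  have hstab : ∀ g ∈ normalizer ((P : Subgroup G) : Set G), ∀ v ∈ LinearMap.range (x ^ r),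
      ρ g v ∈ LinearMap.range (x ^ r) := by
    intro g hg v hv
    obtain ⟨a, ha⟩ := hgen (g * y * g⁻¹) ((mem_normalizer_iff.mp hg y).mp y.2)
    exact range_pow_stable ρ y g a ha r v hv
  have hnot : w₂ ∉ LinearMap.range (x ^ r) ⊔ Submodule.span k {w₁} := by
    intro hmem
    obtain ⟨u', hu', t, ht, hsum⟩ := Submodule.mem_sup.mp hmem
    obtain ⟨c, rfl⟩ := Submodule.mem_span_singleton.mp ht
    obtain ⟨g, hg, hgne⟩ := hne
    have e1 : ρ g w₂ = ρ g u' + c • l₁ g • w₁ := by
      rw [← hsum, map_add, map_smul, h1 g hg]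
    rw [h2 g hg] at e1
    have e2 : (l₂ g - l₁ g) • w₂ = ρ g u' - l₁ g • u' := by
      have e3 : c • w₁ = w₂ - u' := by rw [← hsum]; abel
      rw [sub_smul, e1, smul_comm, e3, smul_sub]
      abel
    have e4 : (l₂ g - l₁ g) • w₂ ∈ LinearMap.range (x ^ r) := by
      rw [e2]
      exact Submodule.sub_mem _ (hstab g hg u' hu') (Submodule.smul_mem _ _ hu')
    have e5 : l₂ g - l₁ g ≠ 0 := sub_ne_zero.mpr (Ne.symm hgne)
    exact hr1 ((Submodule.smul_mem_iff _ e5).mp e4)
  obtain ⟨μ₀, hμ1, hμ2⟩ := Submodule.exists_dual_map_eq_bot_of_notMem hnot inferInstance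
  set μ : Module.Dual k V := (μ₀ w₂)⁻¹ • μ₀ with hμ
  have hμw2 : μ w₂ = 1 := by
    rw [hμ, LinearMap.smul_apply, smul_eq_mul, inv_mul_cancel₀ hμ1]
  have hμ0 : ∀ v ∈ LinearMap.range (x ^ r) ⊔ Submodule.span k {w₁}, μ v = 0 := by
    intro v hv
    have : μ₀ v ∈ Submodule.map μ₀ (LinearMap.range (x ^ r) ⊔ Submodule.span k {w₁}) :=
      ⟨v, hv, rfl⟩
    rw [hμ2, Submodule.mem_bot] at this
    rw [hμ, LinearMap.smul_apply, this, smul_zero]
  have hμw1 : μ w₁ = 0 :=
    hμ0 w₁ (Submodule.mem_sup_right (Submodule.mem_span_singleton_self w₁))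
  set θ : Module.End k V := μ.smulRight u with hθ
  set φ : Module.End k V := F x θ r with hφ
  have hcomm : x * φ = φ * x := by
    have e1 := F_comm x θ r
    have e2 : x ^ r * θ = 0 := by
      ext v
      rw [Module.End.mul_apply, hθ, LinearMap.smulRight_apply, map_smul, hr', pow_succ',
        Module.End.mul_apply, hu, hxw2, smul_zero]
      rfl
    have e3 : θ * x ^ r = 0 := by
      ext v
      rw [Module.End.mul_apply, hθ, LinearMap.smulRight_apply,
        hμ0 _ (Submodule.mem_sup_left ⟨v, rfl⟩), zero_smul]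
      rfl
    rw [e2, e3, sub_zero] at e1
    exact sub_eq_zero.mp e1
  have hφP : ∀ z ∈ (P : Subgroup G), ρ z * φ = φ * ρ z := by
    intro z hz
    obtain ⟨a, rfl⟩ := hgen z hz
    have e1 : Commute (ρ (y : G)) φ := by
      have : ρ (y : G) = x + 1 := by rw [hx]; abel
      rw [this]
      exact Commute.add_left hcomm (Commute.one_left _)
    rw [map_pow]
    exact (e1.pow_left a).eq
  have hφw : ∀ w, x w = 0 → φ w = μ w • w₂ := by
    intro w hw
    rw [hφ, hr']
    simp only [F]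
    rw [LinearMap.add_apply, Module.End.mul_apply, hw, map_zero, zero_add, Module.End.mul_apply,
      hθ, LinearMap.smulRight_apply, map_smul, hu]
  -- Schur
  obtain ⟨c, hc⟩ := hS (trP ρ P φ) (trP_comm ρ P φ hφP)
  -- fixed cosets
  have hfixN : ∀ q : G ⧸ (P : Subgroup G), (∀ z : (P : Subgroup G), z • q = q) →
      q.out ∈ normalizer ((P : Subgroup G) : Set G) := by
    intro q hq
    apply Sylow.mem_fixedPoints_mul_left_cosets_iff_mem_normalizer.mp
    rw [QuotientGroup.out_eq']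
    exact hq
  obtain ⟨v₁, hv₁⟩ := trP_apply ρ P hP φ hφP w₁ hw1P
  obtain ⟨v₂, hv₂⟩ := trP_apply ρ P hP φ hφP w₂ hw2P
  have hs1 : (∑ q : G ⧸ (P : Subgroup G),
      if (∀ z : (P : Subgroup G), z • q = q) then cjE ρ φ q.out w₁ else 0) = 0 := by
    apply Finset.sum_eq_zero
    intro q _
    split_ifs with hq
    · unfold cjE
      rw [Module.End.mul_apply, Module.End.mul_apply, h1 _ (inv_mem (hfixN q hq)), map_smul,
        hφw w₁ hxw1, hμw1, zero_smul, smul_zero, map_zero]
    · rfl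
  have hs2 : (∑ q : G ⧸ (P : Subgroup G),
      if (∀ z : (P : Subgroup G), z • q = q) then cjE ρ φ q.out w₂ else 0)
      = (Nat.card (MulAction.fixedPoints (P : Subgroup G) (G ⧸ (P : Subgroup G))) : k) • w₂ := by
    have e1 : ∀ q : G ⧸ (P : Subgroup G),
        (if (∀ z : (P : Subgroup G), z • q = q) then cjE ρ φ q.out w₂ else 0)
        = if q ∈ MulAction.fixedPoints (P : Subgroup G) (G ⧸ (P : Subgroup G)) then w₂ else 0 := by
      intro q
      by_cases hq : ∀ z : (P : Subgroup G), z • q = q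
      · rw [if_pos hq, if_pos (show q ∈ MulAction.fixedPoints _ _ from hq)]
        unfold cjE
        rw [Module.End.mul_apply, Module.End.mul_apply, h2 _ (inv_mem (hfixN q hq)), map_smul,
          hφw w₂ hxw2, hμw2, one_smul, ← h2 _ (inv_mem (hfixN q hq)),
          ← Module.End.mul_apply, ← map_mul, mul_inv_cancel, map_one]
        rfl
      · rw [if_neg hq, if_neg (show q ∉ MulAction.fixedPoints _ _ from hq)]
    simp only [e1]
    rw [← Finset.sum_filter, Finset.sum_const, Nat.card_eq_fintype_card, Fintype.card_subtype,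
      Nat.cast_smul_eq_nsmul]
  rw [hs1, zero_add, hc, LinearMap.smul_apply, Module.End.one_apply] at hv₁
  rw [hs2, hc, LinearMap.smul_apply, Module.End.one_apply] at hv₂
  have hc0 : c = 0 := by
    by_contra hc0
    apply hw1 (c⁻¹ • v₁)
    simp only [map_smul]
    rw [← Finset.smul_sum, ← hv₁, smul_smul, inv_mul_cancel₀ hc0, one_smul]
  rw [hc0, zero_smul] at hv₂
  have hcard : (Nat.card (MulAction.fixedPoints (P : Subgroup G) (G ⧸ (P : Subgroup G))) : k)
      ≠ 0 := by
    intro h0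
    rw [CharP.cast_eq_zero_iff k p] at h0
    have e1 := P.isPGroup'.card_modEq_card_fixedPoints (G ⧸ (P : Subgroup G))
    have e2 : p ∣ Nat.card (G ⧸ (P : Subgroup G)) :=
      (Nat.modEq_zero_iff_dvd.mp (e1.trans (Nat.modEq_zero_iff_dvd.mpr h0)))
    exact P.not_dvd_index e2
  apply hw2 (-(Nat.card (MulAction.fixedPoints (P : Subgroup G) (G ⧸ (P : Subgroup G))) : k)⁻¹ • v₂)
  simp only [map_smul]
  rw [← Finset.smul_sum]
  have e1 : ∑ z : (P : Subgroup G), ρ (z : G) v₂
      = -((Nat.card (MulAction.fixedPoints (P : Subgroup G) (G ⧸ (P : Subgroup G))) : k) • w₂) :=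
    eq_neg_of_add_eq_zero_right hv₂.symm
  rw [e1, smul_neg, neg_smul, neg_neg, smul_smul, inv_mul_cancel₀ hcard, one_smul]

end Cfsg.Agent.Lib.Helper25ModB
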