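import Mathlib
import Cfsg.Agent.Lib.Helper25ModB

set_option autoImplicit false
set_option linter.unusedSectionVars false
set_option linter.unusedVariables false

/-! Modular representations, part C: eigen-types of `k[G]`-modules; every type occurs in a simple
module. -/

namespace Cfsg.Agent.Lib.Helper25ModC

open Cfsg.Agent.Lib.Helper25ModA Cfsg.Agent.Lib.Helper25ModB Subgroup

variable {k : Type*} [Field k] {G : Type*} [Group G] [Fintype G]

open scoped Classical in
/-- the twisted norm element of `N`. -/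
noncomputable def nu (N : Subgroup G) (l : N →* kˣ) : MonoidAlgebra k G :=
  ∑ g : N, MonoidAlgebra.single (g : G) (((l g)⁻¹ : kˣ) : k)

/-- `V` has an `N`-eigenvector of type `l` which is not a twisted norm. -/
def HasType (N : Subgroup G) (l : N →* kˣ) (V : Type*) [AddCommGroup V] [Module k V]
    [Module (MonoidAlgebra k G) V] : Prop :=
  ∃ w : V, (∀ g : N, MonoidAlgebra.single (g : G) (1 : k) • w = ((l g : kˣ) : k) • w) ∧
    ∀ v : V, w ≠ nu N l • v

variable (N : Subgroup G) (l : N →* kˣ)

theorem single_mul_nu (g : N) :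
    MonoidAlgebra.single (g : G) (1 : k) * nu N l = ((l g : kˣ) : k) • nu N l := by
  classical
  unfold nu
  rw [Finset.mul_sum, Finset.smul_sum]
  refine Eq.trans ?_ (Equiv.sum_comp (Equiv.mulLeft g) _)
  apply Finset.sum_congr rfl
  intro h _
  rw [MonoidAlgebra.single_mul_single, MonoidAlgebra.smul_single, Equiv.coe_mulLeft, map_mul,
    one_mul, smul_eq_mul, mul_inv_rev, Units.val_mul, Subgroup.coe_mul, mul_comm (((l h)⁻¹ : kˣ) : k),
    ← mul_assoc, ← Units.val_mul, mul_inv_cancel, Units.val_one, one_mul]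

theorem nu_coeff_one : (nu N l).coeff 1 = 1 := by
  classical
  unfold nu
  rw [MonoidAlgebra.coeff_sum, Finsupp.finsetSum_apply, Finset.sum_eq_single (1 : N)]
  · simp
  · intro g _ hg
    rw [MonoidAlgebra.coeff_single, Finsupp.single_apply, if_neg]
    intro h
    exact hg (Subtype.ext h)
  · intro h
    exact absurd (Finset.mem_univ _) h

theorem nu_mul_nu_coeff {p : ℕ} [Fact p.Prime] [CharP k p] (hN : p ∣ Nat.card N)
    (a : MonoidAlgebra k G) : (nu N l * a * nu N l).coeff 1 = 0 := by
  classical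
  have h1 : ∀ t : G, (nu N l * a).coeff t
      = ∑ g : N, (((l g)⁻¹ : kˣ) : k) * a.coeff ((g : G)⁻¹ * t) := by
    intro t
    unfold nu
    rw [Finset.sum_mul, MonoidAlgebra.coeff_sum, Finsupp.finsetSum_apply]
    apply Finset.sum_congr rfl
    intro g _
    rw [MonoidAlgebra.coeff_single_mul_apply]
  have h2 : (nu N l * a * nu N l).coeff 1
      = ∑ h : N, (nu N l * a).coeff (1 * (h : G)⁻¹) * (((l h)⁻¹ : kˣ) : k) := by
    generalize nu N l * a = b
    unfold nu
    rw [Finset.mul_sum, MonoidAlgebra.coeff_sum, Finsupp.finsetSum_apply]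
    apply Finset.sum_congr rfl
    intro g _
    rw [MonoidAlgebra.coeff_mul_single_apply]
  rw [h2]
  simp only [h1, Finset.sum_mul]
  rw [Finset.sum_comm]
  have h3 : ∀ g : N, ∑ h : N, (((l g)⁻¹ : kˣ) : k) * a.coeff ((g : G)⁻¹ * (1 * (h : G)⁻¹))
      * (((l h)⁻¹ : kˣ) : k) = ∑ m : N, (((l m)⁻¹ : kˣ) : k) * a.coeff ((m : G)⁻¹) := by
    intro g
    refine Eq.trans ?_ (Equiv.sum_comp (Equiv.mulRight g) _)
    apply Finset.sum_congr rfl
    intro h _
    have e1 : (Equiv.mulRight g) h = h * g := rfl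
    rw [e1, map_mul l, mul_inv_rev, Units.val_mul, Subgroup.coe_mul, mul_inv_rev, one_mul]
    ring
  simp only [h3]
  rw [Finset.sum_const, Finset.card_univ, ← Nat.card_eq_fintype_card, ← Nat.cast_smul_eq_nsmul k,
    (CharP.cast_eq_zero_iff k p _).mpr hN, zero_smul]

section modules

variable {V : Type*} [AddCommGroup V] [Module k V] [Module (MonoidAlgebra k G) V]
  [IsScalarTower k (MonoidAlgebra k G) V]

theorem eigen_sub_nu (w v : V)
    (hw : ∀ g : N, MonoidAlgebra.single (g : G) (1 : k) • w = ((l g : kˣ) : k) • w) (g : N) :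
    MonoidAlgebra.single (g : G) (1 : k) • (w - nu N l • v)
      = ((l g : kˣ) : k) • (w - nu N l • v) := by
  rw [smul_sub, smul_sub, hw g, ← mul_smul, single_mul_nu, smul_assoc]

theorem hasType_quotient (U' : Submodule (MonoidAlgebra k G) V) (h : HasType N l V)
    (h' : ¬ HasType N l U') : HasType N l (V ⧸ U') := by
  obtain ⟨w, hw1, hw2⟩ := h
  refine ⟨U'.mkQ w, ?_, ?_⟩
  · intro g
    rw [← map_smul, hw1 g]
    rfl
  · intro v hv
    obtain ⟨v0, rfl⟩ := U'.mkQ_surjective v
    rw [← map_smul, ← sub_eq_zero, ← map_sub] at hv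
    have hmem : w - nu N l • v0 ∈ U' := by
      rwa [Submodule.mkQ_apply, Submodule.Quotient.mk_eq_zero] at hv
    apply h'
    refine ⟨⟨w - nu N l • v0, hmem⟩, ?_, ?_⟩
    · intro g
      apply Subtype.ext
      exact eigen_sub_nu N l w v0 hw1 g
    · intro v' hv'
      apply hw2 (v0 + v')
      have := congrArg Subtype.val hv'
      simp only [Submodule.coe_smul] at this
      rw [smul_add, ← this]
      abel

theorem hasType_of_equiv {W : Type*} [AddCommGroup W] [Module k W] [Module (MonoidAlgebra k G) W]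
    [IsScalarTower k (MonoidAlgebra k G) W] (e : V ≃ₗ[MonoidAlgebra k G] W)
    (h : HasType N l V) : HasType N l W := by
  obtain ⟨w, hw1, hw2⟩ := h
  refine ⟨e w, ?_, ?_⟩
  · intro g
    rw [← map_smul, hw1 g, ← algebraMap_smul (MonoidAlgebra k G), map_smul, algebraMap_smul]
  · intro v hv
    apply hw2 (e.symm v)
    apply e.injective
    rw [map_smul, e.apply_symm_apply, hv]

end modules

theorem hasType_span {p : ℕ} [Fact p.Prime] [CharP k p] (hN : p ∣ Nat.card N) :
    HasType N l (Submodule.span (MonoidAlgebra k G) {nu N l}) := by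
  refine ⟨⟨nu N l, Submodule.mem_span_singleton_self _⟩, ?_, ?_⟩
  · intro g
    apply Subtype.ext
    exact single_mul_nu N l g
  · rintro ⟨v, hv⟩ h
    obtain ⟨a, rfl⟩ := Submodule.mem_span_singleton.mp hv
    have h1 := congrArg Subtype.val h
    simp only [Submodule.coe_smul, smul_eq_mul] at h1
    have h2 := congrArg (fun b : MonoidAlgebra k G => b.coeff 1) h1
    rw [nu_coeff_one, ← mul_assoc, nu_mul_nu_coeff N l hN] at h2
    exact one_ne_zero h2

theorem exists_simple {p : ℕ} [Fact p.Prime] [CharP k p] (hN : p ∣ Nat.card N) :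
    ∃ (U : Submodule (MonoidAlgebra k G) (MonoidAlgebra k G)) (U' : Submodule (MonoidAlgebra k G) U),
      IsCoatom U' ∧ HasType N l (U ⧸ U') := by
  have hart : IsArtinian (MonoidAlgebra k G) (MonoidAlgebra k G) :=
    isArtinian_of_tower k inferInstance
  have hnoe : IsNoetherian (MonoidAlgebra k G) (MonoidAlgebra k G) :=
    isNoetherian_of_tower k inferInstance
  obtain ⟨U, hU, hmin⟩ := WellFounded.has_min
    (wellFounded_lt (α := Submodule (MonoidAlgebra k G) (MonoidAlgebra k G)))
    {U | HasType N l U} ⟨_, hasType_span N l hN⟩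
  have hU' : HasType N l U := hU
  have hnt : (⊥ : Submodule (MonoidAlgebra k G) U) ≠ ⊤ := by
    obtain ⟨w, _, hw2⟩ := hU'
    intro h
    have h1 : w ∈ (⊤ : Submodule (MonoidAlgebra k G) U) := Submodule.mem_top
    rw [← h, Submodule.mem_bot] at h1
    apply hw2 0
    rw [h1, smul_zero]
  obtain ⟨U', hco, _⟩ := (eq_top_or_exists_le_coatom
    (⊥ : Submodule (MonoidAlgebra k G) U)).resolve_left hnt
  refine ⟨U, U', hco, hasType_quotient N l U' hU' ?_⟩
  intro hT
  have h1 : HasType N l (U'.map U.subtype) :=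
    hasType_of_equiv N l (Submodule.equivMapOfInjective U.subtype U.injective_subtype U') hT
  apply hmin _ h1
  refine lt_of_le_of_ne (Submodule.map_subtype_le U U') ?_
  intro h2
  apply hco.1
  rw [eq_top_iff]
  intro x _
  have h3 : (x : MonoidAlgebra k G) ∈ U'.map U.subtype := by rw [h2]; exact x.2
  obtain ⟨y, hy, hyx⟩ := h3
  have : y = x := Subtype.ext hyx
  rwa [← this]

end Cfsg.Agent.Lib.Helper25ModC
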