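import Mathlib
import Cfsg.Agent.Lib.Helper25ModC

set_option autoImplicit false
set_option linter.unusedSectionVars false
set_option linter.unusedVariables false

/-! Modular representations, part D: simple modules with different eigen-types are not isomorphic;
central elements; trace functions. -/

namespace Cfsg.Agent.Lib.Helper25ModD

open Cfsg.Agent.Lib.Helper25ModA Cfsg.Agent.Lib.Helper25ModB Cfsg.Agent.Lib.Helper25ModC Subgroup

open scoped Classical in
theorem sum_coset {Γ : Type*} [Group Γ] [Fintype Γ] (S : Subgroup Γ) {β : Type*} [AddCommMonoid β]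
    (f : Γ → β) : ∑ g, f g = ∑ q : Γ ⧸ S, ∑ z : S, f (q.out * z) := by
  rw [← Finset.sum_fiberwise Finset.univ (fun g : Γ => (g : Γ ⧸ S)) f]
  apply Finset.sum_congr rfl
  intro q _
  symm
  apply Finset.sum_bij (fun (z : S) _ => q.out * (z : Γ))
  · intro z _
    simp only [Finset.mem_filter, Finset.mem_univ, true_and]
    rw [QuotientGroup.mk_mul_of_mem _ z.2, QuotientGroup.out_eq']
  · intro z _ z' _ h
    exact Subtype.ext (mul_left_cancel h)
  · intro g hg
    simp only [Finset.mem_filter, Finset.mem_univ, true_and] at hg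
    refine ⟨⟨q.out⁻¹ * g, ?_⟩, Finset.mem_univ _, by simp⟩
    rw [← QuotientGroup.eq, QuotientGroup.out_eq', hg]
  · intro z _
    rfl

variable {k : Type*} [Field k] {G : Type*} [Group G] [Fintype G]

section modules

variable (V : Type*) [AddCommGroup V] [Module k V] [Module (MonoidAlgebra k G) V]
  [IsScalarTower k (MonoidAlgebra k G) V]

/-- the representation attached to a module. -/
noncomputable def rep : Representation k G V :=
  ((Algebra.lsmul k k V : MonoidAlgebra k G →ₐ[k] Module.End k V) :
    MonoidAlgebra k G →* Module.End k V).comp (MonoidAlgebra.of k G)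

variable {V}

theorem rep_apply (g : G) (v : V) : rep (k := k) V g v = MonoidAlgebra.single g (1 : k) • v := rfl

theorem single_smul (g : G) (c : k) (v : V) :
    MonoidAlgebra.single g c • v = c • (MonoidAlgebra.single g (1 : k) • v) := by
  rw [← smul_assoc, MonoidAlgebra.smul_single, smul_eq_mul, mul_one]

theorem schur [IsSimpleModule (MonoidAlgebra k G) V] [FiniteDimensional k V] [IsAlgClosed k]
    (T : Module.End k V) (hT : ∀ g : G, T * rep V g = rep V g * T) : ∃ c : k, T = c • 1 := by
  let T' : Module.End (MonoidAlgebra k G) V :=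
    { toFun := T
      map_add' := T.map_add
      map_smul' := by
        intro a v
        induction a using MonoidAlgebra.induction_linear with
        | zero => simp
        | add x y hx hy =>
          simp only [RingHom.id_apply] at hx hy ⊢
          rw [add_smul, add_smul, map_add, hx, hy]
        | single g c =>
          simp only [RingHom.id_apply]
          have := congrArg (fun S : Module.End k V => S v) (hT g)
          simp only [Module.End.mul_apply, rep_apply] at this
          rw [single_smul g c v, single_smul g c (T v), map_smul, this] }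
  obtain ⟨c, hc⟩ := (IsSimpleModule.algebraMap_end_bijective_of_isAlgClosed
    (A := MonoidAlgebra k G) (V := V) k).2 T'
  refine ⟨c, ?_⟩
  ext v
  have := congrArg (fun S : Module.End (MonoidAlgebra k G) V => S v) hc
  simp only [Module.algebraMap_end_apply] at this
  rw [LinearMap.smul_apply, Module.End.one_apply, this]
  rfl

open scoped Classical in
/-- an eigenvector which is a `P`-norm is a twisted `N`-norm. -/
theorem not_norm (N P : Subgroup G) (hPN : P ≤ N) (l : N →* kˣ)
    (hl : ∀ g : N, (g : G) ∈ P → l g = 1) (hidx : ((P.relIndex N : ℕ) : k) ≠ 0) (w : V)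
    (hw1 : ∀ g : N, MonoidAlgebra.single (g : G) (1 : k) • w = ((l g : kˣ) : k) • w)
    (hw2 : ∀ v : V, w ≠ nu N l • v) (v : V) :
    w ≠ ∑ z : P, MonoidAlgebra.single (z : G) (1 : k) • v := by
  intro hv
  apply hw2 (((P.relIndex N : ℕ) : k)⁻¹ • v)
  have h1 : nu N l • v = ((P.relIndex N : ℕ) : k) • w := by
    unfold nu
    rw [Finset.sum_smul, sum_coset (P.subgroupOf N)]
    have h2 : ∀ q : N ⧸ P.subgroupOf N, ∑ z : P.subgroupOf N,
        MonoidAlgebra.single (((q.out * (z : N) : N)) : G)
          (((l (q.out * (z : N)))⁻¹ : kˣ) : k) • v = w := by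
      intro q
      have h3 : ∀ z : P.subgroupOf N, MonoidAlgebra.single (((q.out * (z : N) : N)) : G)
          (((l (q.out * (z : N)))⁻¹ : kˣ) : k) • v
          = MonoidAlgebra.single ((q.out : N) : G) (((l q.out)⁻¹ : kˣ) : k) •
            (MonoidAlgebra.single (((z : N) : G)) (1 : k) • v) := by
        intro z
        rw [← mul_smul, MonoidAlgebra.single_mul_single, mul_one, map_mul,
          hl (z : N) (Subgroup.mem_subgroupOf.mp z.2), mul_one, Subgroup.coe_mul]
      simp only [h3]
      rw [← Finset.smul_sum]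
      have h4 : ∑ z : P.subgroupOf N, MonoidAlgebra.single (((z : N) : G)) (1 : k) • v = w := by
        rw [hv]
        exact Equiv.sum_comp (Subgroup.subgroupOfEquivOfLe hPN).toEquiv
          (fun z : P => MonoidAlgebra.single (z : G) (1 : k) • v)
      rw [h4, single_smul, hw1, smul_smul, ← Units.val_mul, inv_mul_cancel, Units.val_one, one_smul]
    simp only [h2]
    rw [Finset.sum_const, Finset.card_univ, ← Nat.card_eq_fintype_card, Nat.cast_smul_eq_nsmul]
    rfl
  rw [smul_comm, h1, smul_smul, inv_mul_cancel₀ hidx, one_smul]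

/-- a simple module has at most one eigen-type. -/
theorem type_unique [IsSimpleModule (MonoidAlgebra k G) V] [FiniteDimensional k V] [IsAlgClosed k]
    {p : ℕ} [Fact p.Prime] [CharP k p] (P : Sylow p G) (hP : Nat.card P = p)
    (l₁ l₂ : normalizer ((P : Subgroup G) : Set G) →* kˣ)
    (hl1 : ∀ g : normalizer ((P : Subgroup G) : Set G), (g : G) ∈ (P : Subgroup G) → l₁ g = 1)
    (hl2 : ∀ g : normalizer ((P : Subgroup G) : Set G), (g : G) ∈ (P : Subgroup G) → l₂ g = 1)
    (h1 : HasType _ l₁ V) (h2 : HasType _ l₂ V) : l₁ = l₂ := by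
  classical
  by_contra hne
  obtain ⟨w₁, hw1, hw1'⟩ := h1
  obtain ⟨w₂, hw2, hw2'⟩ := h2
  have hPN : (P : Subgroup G) ≤ normalizer ((P : Subgroup G) : Set G) := le_normalizer
  have hidx : (((P : Subgroup G).relIndex (normalizer ((P : Subgroup G) : Set G)) : ℕ) : k) ≠ 0 := by
    intro h0
    rw [CharP.cast_eq_zero_iff k p] at h0
    apply P.not_dvd_index
    rw [← Subgroup.relIndex_mul_index hPN]
    exact Dvd.dvd.mul_right h0 _
  have hne' : ∃ g, l₁ g ≠ l₂ g := by
    by_contra hcon
    push Not at hcon
    exact hne (MonoidHom.ext hcon)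
  obtain ⟨g, hg⟩ := hne'
  apply unique_type (rep (k := k) V) P hP schur
    (fun g => if h : g ∈ normalizer ((P : Subgroup G) : Set G) then ((l₁ ⟨g, h⟩ : kˣ) : k) else 0)
    (fun g => if h : g ∈ normalizer ((P : Subgroup G) : Set G) then ((l₂ ⟨g, h⟩ : kˣ) : k) else 0)
    w₁ w₂
  · intro g hg
    rw [dif_pos hg]
    exact hw1 ⟨g, hg⟩
  · intro g hg
    rw [dif_pos hg]
    exact hw2 ⟨g, hg⟩
  · intro z hz
    rw [dif_pos (hPN hz), hl1 ⟨z, hPN hz⟩ hz, Units.val_one]
  · intro z hz
    rw [dif_pos (hPN hz), hl2 ⟨z, hPN hz⟩ hz, Units.val_one]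
  · refine ⟨g, g.2, ?_⟩
    rw [dif_pos g.2, dif_pos g.2]
    intro h
    exact hg (Units.ext h)
  · exact not_norm _ _ hPN l₁ hl1 hidx w₁ hw1 hw1'
  · exact not_norm _ _ hPN l₂ hl2 hidx w₂ hw2 hw2'

end modules

end Cfsg.Agent.Lib.Helper25ModD
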