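import Mathlib

set_option autoImplicit false
set_option linter.unusedSectionVars false
set_option linter.unusedVariables false

/-! Modular representations, part E: dual elements for the trace functions of pairwise
non-isomorphic simple modules over an algebraically closed field (Jacobson density). -/

namespace Cfsg.Agent.Lib.Helper25ModE

variable {k : Type*} [Field k] [IsAlgClosed k] {A : Type*} [Ring A] [Algebra k A]
  {ι : Type*} [Fintype ι] [DecidableEq ι] (S : ι → Type*) [∀ i, AddCommGroup (S i)]
  [∀ i, Module k (S i)] [∀ i, Module A (S i)] [∀ i, IsScalarTower k A (S i)]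
  [∀ i, IsSimpleModule A (S i)] [∀ i, FiniteDimensional k (S i)]

theorem diag (hne : ∀ i j, i ≠ j → IsEmpty (S i ≃ₗ[A] S j)) (θ : Module.End A (Π i, S i)) :
    ∃ c : ι → k, ∀ (m : Π i, S i) (i : ι), θ m i = c i • m i := by
  have h1 : ∀ i, ∃ c : k, ∀ v : S i, θ (Pi.single i v) i = c • v := by
    intro i
    obtain ⟨c, hc⟩ := (IsSimpleModule.algebraMap_end_bijective_of_isAlgClosed
      (A := A) (V := S i) k).2 ((LinearMap.proj i) ∘ₗ θ ∘ₗ (LinearMap.single A S i))
    refine ⟨c, fun v => ?_⟩
    have := congrArg (fun T : Module.End A (S i) => T v) hc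
    simp only [Module.algebraMap_end_apply] at this
    rw [this]
    rfl
  choose c hc using h1
  refine ⟨c, fun m i => ?_⟩
  have h2 : ∀ l, l ≠ i → ∀ v : S l, θ (Pi.single l v) i = 0 := by
    intro l hl v
    rcases LinearMap.bijective_or_eq_zero ((LinearMap.proj i) ∘ₗ θ ∘ₗ (LinearMap.single A S l))
      with h | h
    · exact ((hne l i hl).false (LinearEquiv.ofBijective _ h)).elim
    · have := congrArg (fun T : S l →ₗ[A] S i => T v) h
      exact this
  conv_lhs => rw [← Finset.univ_sum_single m]
  rw [map_sum, Finset.sum_apply, Finset.sum_eq_single i]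
  · exact hc i (m i)
  · intro l _ hl
    exact h2 l hl (m l)
  · intro h
    exact absurd (Finset.mem_univ _) h

theorem exists_dual (hne : ∀ i j, i ≠ j → IsEmpty (S i ≃ₗ[A] S j)) :
    ∃ a : ι → A, ∀ i j, LinearMap.trace k (S i) (Algebra.lsmul k k (S i) (a j))
      = if i = j then 1 else 0 := by
  have hfin : Module.Finite (Module.End A (Π i, S i)) (Π i, S i) :=
    Module.Finite.of_restrictScalars_finite k _ _
  have key : ∀ j, ∃ a : A, ∀ i, LinearMap.trace k (S i) (Algebra.lsmul k k (S i) a)
      = if i = j then 1 else 0 := by
    intro j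
    have hnt : Nontrivial (S j) := IsSimpleModule.nontrivial A (S j)
    obtain ⟨u, hu⟩ := exists_ne (0 : S j)
    obtain ⟨μ₀, hμ₀⟩ : ∃ μ : Module.Dual k (S j), μ u ≠ 0 := by
      by_contra hcon
      push Not at hcon
      exact hu ((Module.forall_dual_apply_eq_zero_iff k u).mp hcon)
    set μ : Module.Dual k (S j) := (μ₀ u)⁻¹ • μ₀ with hμ
    have hμu : μ u = 1 := by
      rw [hμ, LinearMap.smul_apply, smul_eq_mul, inv_mul_cancel₀ hμ₀]
    set π : Module.End k (S j) := μ.smulRight u with hπ
    let f : Module.End (Module.End A (Π i, S i)) (Π i, S i) :=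
      { toFun := fun m => Pi.single j (π (m j))
        map_add' := by
          intro m m'
          rw [Pi.add_apply, map_add, Pi.single_add]
        map_smul' := by
          intro θ m
          obtain ⟨c, hc⟩ := diag (k := k) S hne θ
          simp only [RingHom.id_apply, Module.End.smul_def]
          funext i
          rw [hc, hc, map_smul]
          by_cases hij : i = j
          · subst hij
            simp
          · simp [Pi.single_eq_of_ne hij] }
    obtain ⟨a, ha⟩ := Module.Finite.toModuleEnd_moduleEnd_surjective (R := A) (M := Π i, S i) f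
    have ha' : ∀ m : Π i, S i, a • m = Pi.single j (π (m j)) := by
      intro m
      have := congrArg (fun T : Module.End (Module.End A (Π i, S i)) (Π i, S i) => T m) ha
      exact this
    refine ⟨a, fun i => ?_⟩
    by_cases hij : i = j
    · subst hij
      rw [if_pos rfl]
      have : Algebra.lsmul k k (S i) a = π := by
        ext v
        have := congrFun (ha' (Pi.single i v)) i
        simpa using this
      rw [this, hπ, LinearMap.trace_smulRight, hμu]
    · rw [if_neg hij]
      have : Algebra.lsmul k k (S i) a = 0 := by
        ext v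
        have := congrFun (ha' (Pi.single i v)) i
        simpa [Pi.single_eq_of_ne hij] using this
      rw [this, map_zero]
  choose a ha using key
  exact ⟨a, fun i j => ha j i⟩

end Cfsg.Agent.Lib.Helper25ModE
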