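import Mathlib
import Cfsg.Agent.Lib.Helper25ModD
import Cfsg.Agent.Lib.Helper25ModE

set_option autoImplicit false
set_option linter.unusedSectionVars false
set_option linter.unusedVariables false

/-! Modular representations, part F: central elements act on a simple module of principal type
through the augmentation; trace functions. -/

namespace Cfsg.Agent.Lib.Helper25ModF

open Cfsg.Agent.Lib.Helper25ModA Cfsg.Agent.Lib.Helper25ModB Cfsg.Agent.Lib.Helper25ModC
  Cfsg.Agent.Lib.Helper25ModD Cfsg.Agent.Lib.Helper25ModE Subgroup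

variable {k : Type*} [Field k] {G : Type*} [Group G] [Fintype G]

section modules

variable {V : Type*} [AddCommGroup V] [Module k V] [Module (MonoidAlgebra k G) V]
  [IsScalarTower k (MonoidAlgebra k G) V]

theorem central_smul [IsSimpleModule (MonoidAlgebra k G) V] [FiniteDimensional k V] [IsAlgClosed k]
    {p : ℕ} [Fact p.Prime] [CharP k p] (P : Sylow p G) (hP : Nat.card P = p)
    (l : normalizer ((P : Subgroup G) : Set G) →* kˣ)
    (hl : ∀ g : normalizer ((P : Subgroup G) : Set G),
      (g : G) ∈ centralizer ((P : Subgroup G) : Set G) → l g = 1)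
    (h : HasType _ l V) (β : G → k) (hβ : ∀ g x, β (x * g * x⁻¹) = β g) (v : V) :
    (∑ g, MonoidAlgebra.single g (β g)) • v = (∑ g, β g) • v := by
  classical
  obtain ⟨w, hw1, hw2⟩ := h
  have hPN : (P : Subgroup G) ≤ normalizer ((P : Subgroup G) : Set G) := le_normalizer
  have hab : ∀ z ∈ (P : Subgroup G), z ∈ centralizer ((P : Subgroup G) : Set G) := by
    have hc : IsCyclic (P : Subgroup G) := isCyclic_of_prime_card hP
    intro z hz
    rw [mem_centralizer_iff]
    intro x hx
    have := hc.isMulCommutative.is_comm.comm (⟨x, hx⟩ : (P : Subgroup G)) ⟨z, hz⟩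
    exact congrArg Subtype.val this
  have hlP : ∀ g : normalizer ((P : Subgroup G) : Set G), (g : G) ∈ (P : Subgroup G) → l g = 1 :=
    fun g hg => hl g (hab g hg)
  have hidx : (((P : Subgroup G).relIndex (normalizer ((P : Subgroup G) : Set G)) : ℕ) : k) ≠ 0 := by
    intro h0
    rw [CharP.cast_eq_zero_iff k p] at h0
    apply P.not_dvd_index
    rw [← Subgroup.relIndex_mul_index hPN]
    exact Dvd.dvd.mul_right h0 _
  have hnn := not_norm _ _ hPN l hlP hidx w hw1 hw2
  set b : MonoidAlgebra k G := ∑ g, MonoidAlgebra.single g (β g) with hb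
  -- `b` is central
  have hbc : ∀ x : G, MonoidAlgebra.single x (1 : k) * b = b * MonoidAlgebra.single x (1 : k) := by
    intro x
    rw [hb, Finset.mul_sum, Finset.sum_mul]
    refine Eq.trans ?_ (Equiv.sum_comp (MulAut.conj x).toEquiv _)
    apply Finset.sum_congr rfl
    intro g _
    rw [MonoidAlgebra.single_mul_single, MonoidAlgebra.single_mul_single]
    simp only [MulEquiv.toEquiv_eq_coe, EquivLike.coe_coe, MulAut.conj_apply, hβ, one_mul, mul_one,
      inv_mul_cancel_right]
  obtain ⟨c, hc⟩ := schur (k := k) (G := G) (V := V) (Algebra.lsmul k k V b) (by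
    intro x
    ext v
    simp only [Module.End.mul_apply, rep_apply, Algebra.lsmul_coe]
    rw [← mul_smul, ← mul_smul, hbc])
  have hc' : ∀ v : V, b • v = c • v := by
    intro v
    have := congrArg (fun T : Module.End k V => T v) hc
    simpa using this
  rw [hc']
  congr 1
  -- the conjugation action of `P`
  let _ : MulAction (P : Subgroup G) G :=
    MulAction.compHom G ((MulAut.conj : G →* MulAut G).comp (P : Subgroup G).subtype)
  have hs : ∀ (z : (P : Subgroup G)) (g : G), z • g = (z : G) * g * (z : G)⁻¹ := fun z g => rfl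
  have hwP : ∀ z : (P : Subgroup G), MonoidAlgebra.single (z : G) (1 : k) • w = w := by
    intro z
    rw [hw1 ⟨z, hPN z.2⟩, hlP ⟨z, hPN z.2⟩ z.2, Units.val_one, one_smul]
  obtain ⟨v₁, hv₁⟩ := orbit_sum (Γ := (P : Subgroup G)) (Ω := G)
    (fun z => (rep (k := k) V (z : G)).toAddMonoidHom)
    (fun g => β g • (MonoidAlgebra.single g (1 : k) • w)) (by
      intro z g
      simp only [LinearMap.toAddMonoidHom_coe, map_smul, rep_apply]
      rw [hs, hβ, ← mul_smul, MonoidAlgebra.single_mul_single, mul_one]
      conv_rhs => rw [← hwP z⁻¹]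
      rw [← mul_smul, MonoidAlgebra.single_mul_single, mul_one]
      rfl) (fun g => fixed_or_free hP g)
  obtain ⟨v₂, hv₂⟩ := orbit_sum (Γ := (P : Subgroup G)) (Ω := G)
    (fun z => AddMonoidHom.id k) (fun g => β g) (by
      intro z g
      rw [hs, hβ]
      rfl) (fun g => fixed_or_free hP g)
  have hfix : ∀ g : G, (∀ z : (P : Subgroup G), z • g = g) →
      MonoidAlgebra.single g (1 : k) • w = w := by
    intro g hg
    have hgC : g ∈ centralizer ((P : Subgroup G) : Set G) := by
      rw [mem_centralizer_iff]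
      intro x hx
      have := hg ⟨x, hx⟩
      rw [hs] at this
      exact mul_inv_eq_iff_eq_mul.mp this
    have hgN : g ∈ normalizer ((P : Subgroup G) : Set G) := by
      rw [mem_normalizer_iff]
      intro x
      constructor
      · intro hx
        have := (mem_centralizer_iff.mp hgC) x hx
        rw [← this, mul_inv_cancel_right]
        exact hx
      · intro hx
        have := (mem_centralizer_iff.mp hgC) _ hx
        have e : x = g * x * g⁻¹ := by
          have e2 : g * x * g⁻¹ * g = g * x := by group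
          rw [e2] at this
          have e3 := mul_left_cancel this
          exact e3
        rw [e]; exact hx
    rw [hw1 ⟨g, hgN⟩, hl ⟨g, hgN⟩ hgC, Units.val_one, one_smul]
  have e1 : b • w = ∑ g, β g • (MonoidAlgebra.single g (1 : k) • w) := by
    rw [hb, Finset.sum_smul]
    apply Finset.sum_congr rfl
    intro g _
    rw [single_smul]
  have e2 : (∑ g : G, if (∀ z : (P : Subgroup G), z • g = g)
      then β g • (MonoidAlgebra.single g (1 : k) • w) else 0)
      = (∑ g : G, if (∀ z : (P : Subgroup G), z • g = g) then β g else 0) • w := by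
    rw [Finset.sum_smul]
    apply Finset.sum_congr rfl
    intro g _
    split_ifs with hg
    · rw [hfix g hg]
    · rw [zero_smul]
  have e3 : ∑ z : (P : Subgroup G), (AddMonoidHom.id k) v₂ = 0 := by
    simp only [AddMonoidHom.id_apply, Finset.sum_const, Finset.card_univ]
    rw [← Nat.card_eq_fintype_card, hP, ← Nat.cast_smul_eq_nsmul k, CharP.cast_eq_zero, zero_smul]
  rw [e3, add_zero] at hv₂
  rw [← e1, hc', e2, ← hv₂] at hv₁
  by_contra hne
  have hne' : c - ∑ g, β g ≠ 0 := sub_ne_zero.mpr hne
  apply hnn ((c - ∑ g, β g)⁻¹ • v₁)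
  have e4 : (c - ∑ g, β g) • w = ∑ z : (P : Subgroup G), MonoidAlgebra.single (z : G) (1 : k) • v₁ := by
    rw [sub_smul, hv₁]
    simp only [LinearMap.toAddMonoidHom_coe, rep_apply]
    abel
  have e5 : ∀ z : (P : Subgroup G), MonoidAlgebra.single (z : G) (1 : k) • (c - ∑ g, β g)⁻¹ • v₁
      = (c - ∑ g, β g)⁻¹ • (MonoidAlgebra.single (z : G) (1 : k) • v₁) := fun z => smul_comm _ _ _
  simp only [e5]
  rw [← Finset.smul_sum, ← e4, smul_smul, inv_mul_cancel₀ hne', one_smul]

variable (k V) in
/-- the trace function of a module. -/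
noncomputable def tf (g : G) : k := LinearMap.trace k V (rep (k := k) V g)

theorem tf_conj (g x : G) : tf k V (x * g * x⁻¹) = tf k V g := by
  unfold tf
  rw [map_mul (rep (k := k) V), LinearMap.trace_mul_comm, ← map_mul (rep (k := k) V),
    inv_mul_cancel_left]

theorem tf_ppart {p : ℕ} [Fact p.Prime] [CharP k p] (y v : G) (m : ℕ) (hc : Commute y v)
    (hy : y ^ (p ^ m) = 1) : tf k V (y * v) = tf k V v := by
  unfold tf
  have e1 : ((Polynomial.X : Polynomial k) - 1) ^ (p ^ m) = Polynomial.X ^ (p ^ m) - 1 := by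
    rw [sub_pow_char_pow, one_pow]
  have e2 := congrArg (Polynomial.aeval (rep (k := k) V y)) e1
  simp only [map_pow, map_sub, Polynomial.aeval_X, map_one] at e2
  rw [← map_pow, hy, map_one, sub_self] at e2
  have h1 : IsNilpotent (rep (k := k) V y - 1) := ⟨_, e2⟩
  have h2 : Commute (rep (k := k) V y - 1) (rep (k := k) V v) := by
    apply Commute.sub_left
    · unfold Commute SemiconjBy
      rw [← map_mul, ← map_mul, hc.eq]
    · exact Commute.one_left _
  have h3 : IsNilpotent ((rep (k := k) V y - 1) * rep (k := k) V v) := h2.isNilpotent_mul_right h1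
  have h4 := (LinearMap.isNilpotent_trace_of_isNilpotent h3).eq_zero
  rw [sub_mul, one_mul, map_sub, sub_eq_zero, ← map_mul] at h4
  exact h4

theorem lsmul_eq_sum (a : MonoidAlgebra k G) :
    Algebra.lsmul k k V a = ∑ g, a.coeff g • rep (k := k) V g := by
  have h1 : a = ∑ g, MonoidAlgebra.single g (a.coeff g) := by
    classical
    apply MonoidAlgebra.ext
    ext x
    rw [MonoidAlgebra.coeff_sum, Finsupp.finsetSum_apply, Finset.sum_eq_single x]
    · simp
    · intro g _ hg
      rw [MonoidAlgebra.coeff_single, Finsupp.single_apply, if_neg hg]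
    · intro h
      exact absurd (Finset.mem_univ _) h
  conv_lhs => rw [h1]
  rw [map_sum]
  apply Finset.sum_congr rfl
  intro g _
  ext v
  simp only [Algebra.lsmul_coe, LinearMap.smul_apply, rep_apply]
  rw [single_smul]

theorem trace_lsmul (a : MonoidAlgebra k G) :
    LinearMap.trace k V (Algebra.lsmul k k V a) = ∑ g, a.coeff g * tf k V g := by
  rw [lsmul_eq_sum, map_sum]
  apply Finset.sum_congr rfl
  intro g _
  rw [map_smul, smul_eq_mul]
  rfl

theorem tf_central [IsSimpleModule (MonoidAlgebra k G) V] [FiniteDimensional k V] [IsAlgClosed k]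
    {p : ℕ} [Fact p.Prime] [CharP k p] (P : Sylow p G) (hP : Nat.card P = p)
    (l : normalizer ((P : Subgroup G) : Set G) →* kˣ)
    (hl : ∀ g : normalizer ((P : Subgroup G) : Set G),
      (g : G) ∈ centralizer ((P : Subgroup G) : Set G) → l g = 1)
    (h : HasType _ l V) (β : G → k) (hβ : ∀ g x, β (x * g * x⁻¹) = β g) (g : G) :
    ∑ x, β x * tf k V (x * g) = (∑ x, β x) * tf k V g := by
  have h1 : (∑ x, β x • rep (k := k) V (x * g)) = (∑ x, β x) • rep (k := k) V g := by
    ext v
    have := central_smul P hP l hl h β hβ (rep (k := k) V g v)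
    rw [Finset.sum_smul] at this
    rw [LinearMap.sum_apply, LinearMap.smul_apply, ← this]
    apply Finset.sum_congr rfl
    intro x _
    rw [LinearMap.smul_apply, map_mul, Module.End.mul_apply, single_smul]
    rfl
  have h2 := congrArg (LinearMap.trace k V) h1
  rw [map_sum, map_smul, smul_eq_mul] at h2
  rw [← tf] at h2
  rw [← h2]
  apply Finset.sum_congr rfl
  intro x _
  rw [map_smul, smul_eq_mul]
  rfl

end modules

/-- The modular input for the lower bound. -/
theorem modular_main [IsAlgClosed k] {p : ℕ} [Fact p.Prime] [CharP k p] (P : Sylow p G)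
    (hP : Nat.card P = p) {ι : Type*} [Fintype ι] [DecidableEq ι]
    (l : ι → (normalizer ((P : Subgroup G) : Set G) →* kˣ)) (hinj : Function.Injective l)
    (hl : ∀ i, ∀ g : normalizer ((P : Subgroup G) : Set G),
      (g : G) ∈ centralizer ((P : Subgroup G) : Set G) → l i g = 1) :
    ∃ (f a : ι → G → k), (∀ i g x, f i (x * g * x⁻¹) = f i g) ∧
      (∀ i y v m, Commute y v → y ^ (p ^ m) = 1 → f i (y * v) = f i v) ∧
      (∀ i (β : G → k), (∀ g x, β (x * g * x⁻¹) = β g) →
        ∀ g, ∑ x, β x * f i (x * g) = (∑ x, β x) * f i g) ∧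
      ∀ i j, ∑ g, a j g * f i g = if i = j then 1 else 0 := by
  have hPN : (P : Subgroup G) ≤ normalizer ((P : Subgroup G) : Set G) := le_normalizer
  have hN : p ∣ Nat.card (normalizer ((P : Subgroup G) : Set G)) := by
    have := Subgroup.card_dvd_of_le hPN
    rwa [hP] at this
  have hab : ∀ z ∈ (P : Subgroup G), z ∈ centralizer ((P : Subgroup G) : Set G) := by
    have hc : IsCyclic (P : Subgroup G) := isCyclic_of_prime_card hP
    intro z hz
    rw [mem_centralizer_iff]
    intro x hx
    have := hc.isMulCommutative.is_comm.comm (⟨x, hx⟩ : (P : Subgroup G)) ⟨z, hz⟩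
    exact congrArg Subtype.val this
  have hex := fun i => exists_simple (k := k) _ (l i) hN
  choose U U' hco hT using hex
  have hsimple : ∀ i, IsSimpleModule (MonoidAlgebra k G) (U i ⧸ U' i) :=
    fun i => isSimpleModule_iff_isCoatom.mpr (hco i)
  have hne : ∀ i j, i ≠ j → IsEmpty ((U i ⧸ U' i) ≃ₗ[MonoidAlgebra k G] (U j ⧸ U' j)) := by
    intro i j hij
    refine ⟨fun e => hij (hinj ?_)⟩
    exact type_unique (V := U j ⧸ U' j) P hP (l i) (l j) (fun g hg => hl i g (hab g hg))
      (fun g hg => hl j g (hab g hg)) (hasType_of_equiv _ _ e (hT i)) (hT j)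
  obtain ⟨a, ha⟩ := exists_dual (k := k) (A := MonoidAlgebra k G) (fun i => U i ⧸ U' i) hne
  refine ⟨fun i => tf k (U i ⧸ U' i), fun j g => (a j).coeff g, ?_, ?_, ?_, ?_⟩
  · intro i g x
    exact tf_conj g x
  · intro i y v m hc hy
    exact tf_ppart y v m hc hy
  · intro i β hβ g
    exact tf_central P hP (l i) (hl i) (hT i) β hβ g
  · intro i j
    rw [← trace_lsmul]
    exact ha i j

end Cfsg.Agent.Lib.Helper25ModF
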