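import Mathlib
import Cfsg.Prelude.Def_Blocks
import Cfsg.Agent.Lib.Helper81Local

set_option autoImplicit false
set_option linter.unusedSectionVars false
set_option linter.unusedVariables false

/-! The residue field of the local ring `Rt M` is algebraically closed of characteristic `p`. -/

namespace Cfsg.Agent.Lib.Helper25Res

open Cfsg Cfsg.Agent.Lib.Helper81Local

variable {M : Ideal AlgInt} [M.IsPrime]

/-- the inclusion of the algebraic integers in the local ring. -/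
def incl (M : Ideal AlgInt) [M.IsPrime] : AlgInt →+* Rt M :=
  (algebraMap AlgInt ℂ).codRestrict (Rt M) (fun a => memLocalRing_coe a)

theorem incl_coe (a : AlgInt) : ((incl M a : Rt M) : ℂ) = (a : ℂ) := rfl

theorem res_surj (hmax : M.IsMaximal) :
    Function.Surjective ((IsLocalRing.residue (Rt M)).comp (incl M)) := by
  intro x
  obtain ⟨r, rfl⟩ := IsLocalRing.residue_surjective x
  obtain ⟨a, b, hb, hab⟩ := r.2
  obtain ⟨y, i, hi, hyi⟩ := hmax.exists_inv hb
  refine ⟨a * y, ?_⟩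
  rw [RingHom.comp_apply, ← sub_eq_zero, ← map_sub, IsLocalRing.residue_eq_zero_iff,
    mem_maximalIdeal_Rt_iff]
  refine ⟨-(a * i), b, M.neg_mem (M.mul_mem_left a hi), hb, ?_⟩
  have hb0 : (b : ℂ) ≠ 0 := ne_zero_of_not_mem hb
  have h1 : (y : ℂ) * (b : ℂ) + (i : ℂ) = 1 := by exact_mod_cast congrArg (fun t : AlgInt => (t : ℂ)) hyi
  have h2 : (i : ℂ) = 1 - (y : ℂ) * (b : ℂ) := by linear_combination h1
  have h3 : (((incl M (a * y) - r : Rt M)) : ℂ) = (a : ℂ) * (y : ℂ) - (a : ℂ) / (b : ℂ) := by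
    rw [hab]
    rfl
  rw [h3]
  push_cast
  rw [h2]
  field_simp
  ring

theorem exists_root_algInt (Q : Polynomial AlgInt) (hQ : Q.Monic) (hd : Q.natDegree ≠ 0) :
    ∃ z : AlgInt, Q.eval z = 0 := by
  have hdeg : (Q.map (algebraMap AlgInt ℂ)).degree ≠ 0 := by
    rw [hQ.degree_map, Polynomial.degree_eq_natDegree hQ.ne_zero]
    exact_mod_cast hd
  obtain ⟨z₀, hz₀⟩ := IsAlgClosed.exists_root _ hdeg
  have h1 : IsIntegral AlgInt z₀ := ⟨Q, hQ, by rwa [Polynomial.IsRoot.def, Polynomial.eval_map] at hz₀⟩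
  have h2 : IsIntegral ℤ z₀ := isIntegral_trans z₀ h1
  refine ⟨⟨z₀, h2⟩, ?_⟩
  apply Subtype.ext
  have h3 : ((Q.eval (⟨z₀, h2⟩ : AlgInt) : AlgInt) : ℂ)
      = (Q.map (algebraMap AlgInt ℂ)).eval z₀ := by
    rw [Polynomial.eval_map]
    exact (Polynomial.hom_eval₂ Q (RingHom.id AlgInt) (algebraMap AlgInt ℂ) ⟨z₀, h2⟩).trans (by simp)
  rw [h3]
  exact hz₀

theorem isAlgClosed (hmax : M.IsMaximal) : IsAlgClosed (IsLocalRing.ResidueField (Rt M)) := by
  apply IsAlgClosed.of_exists_root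
  intro q hq hirr
  obtain ⟨Q, hQ1, hQ2, hQ3⟩ := Polynomial.lifts_and_natDegree_eq_and_monic
    ((Polynomial.mem_lifts q).mpr (Polynomial.map_surjective _ (res_surj hmax) q)) hq
  have hd : Q.natDegree ≠ 0 := by
    rw [hQ2]
    exact (Polynomial.natDegree_pos_iff_degree_pos.mpr
      (Polynomial.degree_pos_of_irreducible hirr)).ne'
  obtain ⟨z, hz⟩ := exists_root_algInt Q hQ3 hd
  refine ⟨((IsLocalRing.residue (Rt M)).comp (incl M)) z, ?_⟩
  rw [← hQ1, Polynomial.eval_map, Polynomial.eval₂_at_apply, hz, map_zero]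

theorem charP {p : ℕ} (hM : IsPModular p M) : CharP (IsLocalRing.ResidueField (Rt M)) p := by
  rw [CharP.charP_iff_prime_eq_zero hM.1]
  have h1 : ((p : Rt M)) ∈ IsLocalRing.maximalIdeal (Rt M) := by
    rw [mem_maximalIdeal_Rt_iff]
    exact_mod_cast memLocalIdeal_p hM
  have h2 := (IsLocalRing.residue_eq_zero_iff _).mpr h1
  rwa [map_natCast] at h2

end Cfsg.Agent.Lib.Helper25Res
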