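import Mathlib

set_option autoImplicit false
set_option linter.unusedSectionVars false
set_option linter.unusedVariables false

/-! The linear characters of `N_G(P)/C_G(P)` with values in an algebraically closed field of
characteristic `p`, for a subgroup `P` of order `p`. -/

namespace Cfsg.Agent.Lib.Helper25Types

open Subgroup

universe u

variable {k : Type u} [Field k] {G : Type*} [Group G] [Finite G]

theorem exists_types [IsAlgClosed k] {p : ℕ} [Fact p.Prime] [CharP k p] (P : Subgroup G)
    (hP : Nat.card P = p) :
    ∃ (ι : Type u) (_ : Fintype ι) (_ : DecidableEq ι)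
      (l : ι → (normalizer (P : Set G) →* kˣ)), Function.Injective l ∧
      (∀ i, ∀ g : normalizer (P : Set G), (g : G) ∈ centralizer (P : Set G) → l i g = 1) ∧
      Fintype.card ι = (centralizer (P : Set G)).relIndex (normalizer (P : Set G)) := by
  classical
  have hcyc : IsCyclic P := isCyclic_of_prime_card hP
  let φ : normalizer (P : Set G) →* (ZMod (Nat.card P))ˣ :=
    (IsCyclic.mulAutMulEquiv P).toMonoidHom.comp P.normalizerMonoidHom
  have hker : φ.ker = (centralizer (P : Set G)).subgroupOf (normalizer (P : Set G)) := by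
    rw [← normalizerMonoidHom_ker]
    ext g
    simp only [φ, MonoidHom.mem_ker, MonoidHom.comp_apply, MulEquiv.coe_toMonoidHom,
      EmbeddingLike.map_eq_one_iff]
  have hcard : Nat.card φ.range = (centralizer (P : Set G)).relIndex (normalizer (P : Set G)) := by
    rw [← Subgroup.index_ker, hker]
    rfl
  have hne : NeZero (Nat.card P) := ⟨by rw [hP]; exact (Fact.out : p.Prime).ne_zero⟩
  have hexp : ¬ p ∣ Monoid.exponent φ.range := by
    intro hdvd
    have h1 : Monoid.exponent φ.range ∣ Nat.card φ.range := Group.exponent_dvd_nat_card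
    have h2 : Nat.card φ.range ∣ Nat.card (ZMod (Nat.card P))ˣ := Subgroup.card_subgroup_dvd_card _
    have h3 : Nat.card (ZMod (Nat.card P))ˣ = p - 1 := by
      rw [Nat.card_eq_fintype_card, ZMod.card_units_eq_totient, hP, Nat.totient_prime Fact.out]
    rw [h3] at h2
    have h4 := Nat.le_of_dvd (by have := (Fact.out : p.Prime).two_le; omega)
      (hdvd.trans (h1.trans h2))
    have := (Fact.out : p.Prime).two_le
    omega
  have hnz : NeZero ((Monoid.exponent φ.range : ℕ) : k) :=
    ⟨fun h0 => hexp ((CharP.cast_eq_zero_iff k p _).mp h0)⟩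
  have hfin : Finite (φ.range →* kˣ) := by
    apply Nat.finite_of_card_ne_zero
    rw [CommGroup.card_monoidHom_of_hasEnoughRootsOfUnity]
    exact Nat.card_pos.ne'
  refine ⟨φ.range →* kˣ, Fintype.ofFinite _, inferInstance, fun χ => χ.comp φ.rangeRestrict,
    ?_, ?_, ?_⟩
  · intro χ χ' h
    exact (MonoidHom.cancel_right φ.rangeRestrict_surjective).mp h
  · intro χ g hg
    have h1 : g ∈ φ.ker := by
      rw [hker]
      exact Subgroup.mem_subgroupOf.mpr hg
    have h2 : φ.rangeRestrict g = 1 := Subtype.ext h1
    rw [MonoidHom.comp_apply, h2, map_one]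
  · rw [← hcard, ← CommGroup.card_monoidHom_of_hasEnoughRootsOfUnity φ.range k]
    exact (@Nat.card_eq_fintype_card _ (Fintype.ofFinite _)).symm

end Cfsg.Agent.Lib.Helper25Types
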