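import Mathlib
import Cfsg.Prelude.Def_Blocks
import Cfsg.Agent.Lib.Helper25ModF
import Cfsg.Agent.Lib.Helper25Res
import Cfsg.Agent.Lib.Helper25Types
import Cfsg.Agent.Lib.Helper81Block
import Cfsg.Agent.Lib.Helper81Orth
import Cfsg.Agent.Lib.Helper81Subsec2
import Cfsg.Agent.Lib.Helper82Linear

set_option autoImplicit false
set_option linter.unusedSectionVars false
set_option linter.unusedVariables false

/-! Lower bound `l(B₀) ≥ e` for the principal block of a group with a Sylow subgroup of order `p`. -/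

namespace Cfsg.Agent.Lib.Helper25LB

open Cfsg Subgroup
open Cfsg.Agent.Lib.Helper81Base Cfsg.Agent.Lib.Helper81BB Cfsg.Agent.Lib.Helper81Local
  Cfsg.Agent.Lib.Helper81Block Cfsg.Agent.Lib.Helper81Orth Cfsg.Agent.Lib.Helper82Linear
  Cfsg.Agent.Lib.Helper25ModF Cfsg.Agent.Lib.Helper25Res Cfsg.Agent.Lib.Helper25Types
open scoped ComplexConjugate

variable {G : Type*} [Group G] [Fintype G]

/-- a class function is a linear combination of irreducible characters. -/
theorem classfn_expand {F : G → ℂ} (hF : IsClassFunction G F) :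
    ∃ c : IrrCharacter G → ℂ, ∀ x, F x = ∑ χ : IrrCharacter G, c χ * (χ : G → ℂ) x := by
  have hF' : IsClassFunction G (fun x => F x⁻¹) := by
    intro g h
    have : (h * g * h⁻¹)⁻¹ = h * g⁻¹ * h⁻¹ := by group
    simp only [this]
    exact hF _ _
  refine ⟨fun χ => (Nat.card G : ℂ)⁻¹ * ((χ : G → ℂ) 1 * om (fun x => F x⁻¹) χ), fun x => ?_⟩
  have h1 := inversion hF' x⁻¹
  simp only [inv_inv] at h1
  rw [h1, Finset.mul_sum]
  apply Finset.sum_congr rfl
  intro χ _
  rw [← irr_inv, inv_inv]
  ring

open scoped Classical in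
theorem sum_blockCoeff_mul (B : Set (IrrCharacter G)) (χ : IrrCharacter G) (h : G) :
    ∑ x, blockCoeff B x * (χ : G → ℂ) (x * h) = if χ ∈ B then (χ : G → ℂ) h else 0 := by
  rw [irr_sum_classfn χ _ (blockCoeff_classfn B) h]
  have h1 := om_blockCoeff B χ
  unfold om at h1
  rw [← Finset.sum_div] at h1
  have h0 := irr_one_ne_zero χ
  rw [mul_div_right_comm, h1]
  split_ifs <;> simp

theorem sum_blockCoeff_principal {M : Ideal AlgInt} [M.IsPrime] :
    ∑ x, blockCoeff (principalBlock M G) x = 1 := by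
  classical
  have h1 := om_blockCoeff (principalBlock M G) (irrOne G)
  rw [if_pos (show irrOne G ∈ principalBlock M G from sameBlock_refl _)] at h1
  rw [← h1]
  unfold om
  apply Finset.sum_congr rfl
  intro x _
  have e : ∀ y, ((irrOne G : IrrCharacter G) : G → ℂ) y = 1 := fun y => rfl
  rw [e, e]
  simp

/-- **Lower bound**: if the restrictions to the `p`-regular elements of the characters of the
principal block are spanned by those of the members of `X`, then `|N_G(P) : C_G(P)| ≤ |X|`. -/
theorem lower_bound {p : ℕ} [Fact p.Prime] {M : Ideal AlgInt} (hM : IsPModular p M) (P : Sylow p G)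
    (hP : Nat.card P = p) (X : Finset (IrrCharacter G))
    (hX : ∀ χ ∈ principalBlock M G, ∃ c : IrrCharacter G → ℂ, ∀ g : G, ¬ p ∣ orderOf g →
      (χ : G → ℂ) g = ∑ ψ ∈ X, c ψ * (ψ : G → ℂ) g) :
    (centralizer ((P : Subgroup G) : Set G)).relIndex (normalizer ((P : Subgroup G) : Set G))
      ≤ X.card := by
  classical
  have hpr : M.IsPrime := hM.2.1.isPrime
  have hac : IsAlgClosed (IsLocalRing.ResidueField (Rt M)) := isAlgClosed hM.2.1
  have hch : CharP (IsLocalRing.ResidueField (Rt M)) p := charP hM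
  obtain ⟨ι, _, _, l, hinj, hl, hcard⟩ :=
    exists_types (k := IsLocalRing.ResidueField (Rt M)) (P : Subgroup G) hP
  obtain ⟨f, a, hf1, hf2, hf3, hf4⟩ := modular_main P hP l hinj hl
  rw [← hcard]
  by_contra hlt
  push Not at hlt
  set B := principalBlock M G with hBdef
  have hB : IsPBlock M B := Cfsg.Agent.Lib.Helper81Subsec2.isPBlock_principalBlock
  let res := IsLocalRing.residue (Rt M)
  let sec : IsLocalRing.ResidueField (Rt M) → Rt M :=
    Function.surjInv IsLocalRing.residue_surjective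
  have hsec : ∀ t, res (sec t) = t := Function.surjInv_eq _
  let βR : G → Rt M := fun g => ⟨blockCoeff B g, osima hB g⟩
  have hβcl : ∀ g x, res (βR (x * g * x⁻¹)) = res (βR g) := by
    intro g x
    congr 1
    exact Subtype.ext (blockCoeff_classfn B g x)
  have hβsum : ∑ x, res (βR x) = 1 := by
    rw [← map_sum]
    have : ∑ x, βR x = 1 := by
      apply Subtype.ext
      have e : ((∑ x, βR x : Rt M) : ℂ) = ∑ x, ((βR x : Rt M) : ℂ) := map_sum (Rt M).subtype _ _
      rw [e]
      exact sum_blockCoeff_principal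
    rw [this, map_one]
  -- the `p'`-part
  have hpp : ∀ g : G, ∃ v : G, ¬ p ∣ orderOf v ∧ ∀ i, f i g = f i v := by
    intro g
    obtain ⟨y, v, hyv, hc, ⟨m, hm⟩, hv⟩ := exists_ppart hM.1 g
    refine ⟨v, hv, fun i => ?_⟩
    rw [← hyv]
    exact hf2 i y v m hc (by rw [← hm]; exact pow_orderOf_eq_one y)
  choose pp hpp1 hpp2 using hpp
  let D : Matrix ι ι (Rt M) := fun i j => ∑ g, sec (a j g) * ∑ x, βR x * sec (f i (x * pp g))
  have hD1 : D.map res = 1 := by
    ext i j
    rw [Matrix.map_apply, Matrix.one_apply, ← hf4 i j]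
    simp only [D, map_sum, map_mul, hsec]
    apply Finset.sum_congr rfl
    intro g _
    rw [hf3 i (fun x => res (βR x)) hβcl (pp g), hβsum, one_mul, ← hpp2]
  have hdet : res D.det = 1 := by
    rw [RingHom.map_det, RingHom.mapMatrix_apply, hD1, Matrix.det_one]
  have hdet0 : D.det ≠ 0 := by
    intro h0
    rw [h0, map_zero] at hdet
    exact zero_ne_one hdet
  have hdetC : (D.map (Rt M).subtype).det ≠ 0 := by
    have : (D.map (Rt M).subtype).det = (Rt M).subtype D.det := by
      rw [RingHom.map_det, RingHom.mapMatrix_apply]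
    rw [this]
    intro h0
    exact hdet0 (Subtype.ext h0)
  -- expansions
  have hFcl : ∀ i, IsClassFunction G (fun x => ((sec (f i x) : Rt M) : ℂ)) := by
    intro i g h
    simp only [hf1]
  choose c hc using fun i => classfn_expand (hFcl i)
  have hX' : ∀ χ : IrrCharacter G, ∃ c : IrrCharacter G → ℂ, χ ∈ B → ∀ g : G, ¬ p ∣ orderOf g →
      (χ : G → ℂ) g = ∑ ψ ∈ X, c ψ * (ψ : G → ℂ) g := by
    intro χ
    by_cases hχ : χ ∈ B
    · obtain ⟨c, hc⟩ := hX χ hχ
      exact ⟨c, fun _ => hc⟩
    · exact ⟨0, fun h => absurd h hχ⟩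
  choose cX hcX using hX'
  let U : Matrix ι X ℂ := fun i ψ => ∑ χ, if χ ∈ B then c i χ * cX χ ψ else 0
  let V : Matrix X ι ℂ := fun ψ j => ∑ g, ((sec (a j g) : Rt M) : ℂ) * ((ψ : IrrCharacter G) : G → ℂ) (pp g)
  have hUV : D.map (Rt M).subtype = U * V := by
    ext i j
    rw [Matrix.map_apply, Matrix.mul_apply]
    have e1 : ∀ h : G, ¬ p ∣ orderOf h →
        ∑ x, blockCoeff B x * ((sec (f i (x * h)) : Rt M) : ℂ)
        = ∑ ψ : X, U i ψ * ((ψ : IrrCharacter G) : G → ℂ) h := by
      intro h hh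
      simp only [hc i, Finset.mul_sum]
      rw [Finset.sum_comm]
      have e2 : ∀ χ : IrrCharacter G, ∑ x, blockCoeff B x * (c i χ * (χ : G → ℂ) (x * h))
          = ∑ ψ : X, (if χ ∈ B then c i χ * cX χ ψ else 0) * ((ψ : IrrCharacter G) : G → ℂ) h := by
        intro χ
        have e3 : ∑ x, blockCoeff B x * (c i χ * (χ : G → ℂ) (x * h))
            = c i χ * ∑ x, blockCoeff B x * (χ : G → ℂ) (x * h) := by
          rw [Finset.mul_sum]
          apply Finset.sum_congr rfl
          intro x _
          ring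
        rw [e3, sum_blockCoeff_mul]
        split_ifs with hχ
        · rw [hcX χ hχ h hh, ← Finset.sum_coe_sort X, Finset.mul_sum]
          apply Finset.sum_congr rfl
          intro ψ _
          ring
        · simp
      simp only [e2, U, Finset.sum_mul]
      rw [Finset.sum_comm]
    have e4 : (Rt M).subtype (D i j)
        = ∑ g, ((sec (a j g) : Rt M) : ℂ) * ∑ x, blockCoeff B x * ((sec (f i (x * pp g)) : Rt M) : ℂ) := by
      simp only [D, map_sum, map_mul]
      rfl
    rw [e4]
    simp only [e1 _ (hpp1 _), V, Finset.mul_sum]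
    rw [Finset.sum_comm]
    apply Finset.sum_congr rfl
    intro ψ _
    apply Finset.sum_congr rfl
    intro g _
    ring
  have hunit : IsUnit (D.map (Rt M).subtype) := by
    rw [Matrix.isUnit_iff_isUnit_det]
    exact isUnit_iff_ne_zero.mpr hdetC
  have hr1 := Matrix.rank_of_isUnit _ hunit
  have hr2 : (U * V).rank ≤ Fintype.card X :=
    (Matrix.rank_mul_le_left U V).trans (Matrix.rank_le_card_width U)
  rw [← hUV, hr1, Fintype.card_coe] at hr2
  omega

end Cfsg.Agent.Lib.Helper25LB
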