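import Mathlib

set_option autoImplicit false

namespace Cfsg.Agent.Lib.Helper59BLCoh

section two

variable {ι : Type*} [Fintype ι] [DecidableEq ι]

/-- an integer vector of squared length two, orthogonal to a positive vector, is a difference of
two coordinate vectors. -/
theorem two_of_sum_sq (v deg : ι → ℤ) (hdeg : ∀ i, 0 < deg i) (h2 : ∑ i, v i ^ 2 = 2)
    (h0 : ∑ i, v i * deg i = 0) :
    ∃ a b : ι, a ≠ b ∧ ∀ i, v i = (if i = a then 1 else 0) - (if i = b then 1 else 0) := by
  set T : Finset ι := Finset.univ.filter (fun i => v i ≠ 0) with hT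
  have split : ∀ (f : ι → ℤ), (∀ i, v i = 0 → f i = 0) → ∑ i, f i = ∑ i ∈ T, f i := by
    intro f hf
    symm
    apply Finset.sum_subset (Finset.subset_univ _)
    intro i _ hi
    apply hf
    by_contra hne
    exact hi (by rw [hT, Finset.mem_filter]; exact ⟨Finset.mem_univ _, hne⟩)
  have h3 : ∑ i ∈ T, v i ^ 2 = 2 := by
    rw [← split (fun i => v i ^ 2) (by intro i hi; simp [hi])]; exact h2
  have hpm : ∀ i ∈ T, v i = 1 ∨ v i = -1 := by
    intro i hi
    have h4 : v i ^ 2 ≤ 2 := by
      rw [← h3]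
      exact Finset.single_le_sum (f := fun i => v i ^ 2) (fun j _ => by positivity) hi
    have h5 : v i ≠ 0 := by
      rw [hT, Finset.mem_filter] at hi
      exact hi.2
    have h6 : v i < 2 := by nlinarith
    have h7 : -2 < v i := by nlinarith
    omega
  have hcard : T.card = 2 := by
    have : ∑ i ∈ T, v i ^ 2 = ∑ i ∈ T, (1 : ℤ) := by
      apply Finset.sum_congr rfl
      intro i hi
      rcases hpm i hi with h | h <;> rw [h] <;> norm_num
    rw [h3] at this
    simp at this
    omega
  obtain ⟨a, b, hab, hTeq⟩ := Finset.card_eq_two.mp hcard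
  have ma : a ∈ T := by rw [hTeq]; simp
  have mb : b ∈ T := by rw [hTeq]; simp
  have hz : ∀ i, i ≠ a → i ≠ b → v i = 0 := by
    intro i hia hib
    by_contra hne
    have : i ∈ T := by rw [hT, Finset.mem_filter]; exact ⟨Finset.mem_univ _, hne⟩
    rw [hTeq] at this
    simp at this
    tauto
  have h0' : v a * deg a + v b * deg b = 0 := by
    rw [split (fun i => v i * deg i) (by intro i hi; simp [hi]), hTeq,
      Finset.sum_insert (by simp [hab]), Finset.sum_singleton] at h0
    exact h0
  have da := hdeg a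
  have db := hdeg b
  rcases hpm a ma with ha | ha <;> rcases hpm b mb with hb | hb
  · rw [ha, hb] at h0'; omega
  · refine ⟨a, b, hab, fun i => ?_⟩
    by_cases hia : i = a
    · subst hia; simp [ha, hab]
    · by_cases hib : i = b
      · subst hib; simp [hb, hia]
      · simp [hia, hib, hz i hia hib]
  · refine ⟨b, a, hab.symm, fun i => ?_⟩
    by_cases hia : i = a
    · subst hia; simp [ha, hab]
    · by_cases hib : i = b
      · subst hib; simp [hb, hia]
      · simp [hia, hib, hz i hia hib]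
  · rw [ha, hb] at h0'; omega

/-- inner product of two differences of coordinate vectors. -/
theorem inner_diff (a b a' b' : ι) :
    ∑ i, (((if i = a then 1 else 0) - (if i = b then 1 else 0) : ℤ) *
      ((if i = a' then 1 else 0) - (if i = b' then 1 else 0)))
      = (if a = a' then 1 else 0) - (if a = b' then 1 else 0) - (if b = a' then 1 else 0)
        + (if b = b' then 1 else 0) := by
  simp only [sub_mul, mul_sub, Finset.sum_sub_distrib, ite_mul, one_mul, zero_mul,
    Finset.sum_ite_eq', Finset.mem_univ, if_true]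
  ring

end two

section coh

variable {ι Λ : Type*} [Fintype ι] [DecidableEq ι]

omit [Fintype ι] in
open scoped Classical in
theorem coh_aux (R : Λ → Λ → Prop) (hR : Equivalence R) (D : Λ → ι → ℤ)
    (hrel : ∀ l l', R l l' → D l = D l') (l₁ l₂ : Λ) (h12 : ¬ R l₁ l₂) (α β : Λ → ι)
    (hαβ : ∀ l, ¬ R l₁ l → α l ≠ β l)
    (hD : ∀ l, ¬ R l₁ l → ∀ i, D l₁ i - D l i
      = (if i = α l then 1 else 0) - (if i = β l then 1 else 0))
    (hA : ∀ l l', ¬ R l₁ l → ¬ R l₁ l' → α l = α l')
    (hinj : ∀ l l', ¬ R l₁ l → ¬ R l₁ l' → (β l = β l' ↔ R l l')) :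
    ∃ (ζ : Λ → ι) (A : ι → ℤ), (∀ l i, D l i = A i + (if i = ζ l then 1 else 0)) ∧
      (∀ l l', ζ l = ζ l' ↔ R l l') := by
  refine ⟨fun l => if R l₁ l then α l₂ else β l,
    fun i => D l₁ i - (if i = α l₂ then 1 else 0), ?_, ?_⟩
  · intro l i
    by_cases hl : R l₁ l
    · simp only [if_pos hl]
      rw [hrel l₁ l hl]; ring
    · simp only [if_neg hl]
      have := hD l hl i
      rw [hA l l₂ hl h12] at this
      linarith
  · intro l l'
    by_cases hl : R l₁ l <;> by_cases hl' : R l₁ l'
    · simp only [if_pos hl, if_pos hl', true_iff]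
      exact hR.trans (hR.symm hl) hl'
    · simp only [if_pos hl, if_neg hl']
      constructor
      · intro h
        exact absurd (by rw [hA l' l₂ hl' h12, h]) (hαβ l' hl')
      · intro h
        exact absurd (hR.trans hl h) hl'
    · simp only [if_neg hl, if_pos hl']
      constructor
      · intro h
        exact absurd (by rw [hA l l₂ hl h12, h]) (hαβ l hl)
      · intro h
        exact absurd (hR.trans hl' (hR.symm h)) hl
    · simp only [if_neg hl, if_neg hl']
      exact hinj l l' hl hl'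

/-- **Coherence.** -/
theorem coherence (R : Λ → Λ → Prop) (hR : Equivalence R) (D : Λ → ι → ℤ) (deg : ι → ℤ)
    (hdeg : ∀ i, 0 < deg i)
    (hrel : ∀ l l', R l l' → D l = D l')
    (h2 : ∀ l l', ¬ R l l' → ∑ i, (D l i - D l' i) ^ 2 = 2)
    (h1 : ∀ l l' l'', ¬ R l l' → ¬ R l l'' → ¬ R l' l'' →
      ∑ i, (D l i - D l' i) * (D l i - D l'' i) = 1)
    (h0 : ∀ l l', ∑ i, (D l i - D l' i) * deg i = 0)
    (l₁ l₂ : Λ) (h12 : ¬ R l₁ l₂) :
    ∃ (δ : ℤ) (ζ : Λ → ι) (A : ι → ℤ), (δ = 1 ∨ δ = -1) ∧
      (∀ l i, D l i = A i - δ * (if i = ζ l then 1 else 0)) ∧ (∀ l l', ζ l = ζ l' ↔ R l l') := by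
  classical
  have key : ∀ l, ¬ R l₁ l → ∃ a b : ι, a ≠ b ∧ ∀ i, D l₁ i - D l i
      = (if i = a then 1 else 0) - (if i = b then 1 else 0) := fun l hl =>
    two_of_sum_sq (fun i => D l₁ i - D l i) deg hdeg (h2 l₁ l hl) (h0 l₁ l)
  have : Nonempty ι := ⟨(key l₂ h12).choose⟩
  choose! α β hαβ hD using key
  have dich : ∀ l l', ¬ R l₁ l → ¬ R l₁ l' → ¬ R l l' →
      (α l = α l' ∧ β l ≠ β l') ∨ (α l ≠ α l' ∧ β l = β l') := by
    intro l l' hl hl' hll
    have h := h1 l₁ l l' hl hl' hll
    simp only [hD l hl, hD l' hl'] at h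
    rw [inner_diff] at h
    have n1 := hαβ l hl
    have n2 := hαβ l' hl'
    by_cases e1 : α l = α l' <;> by_cases e4 : β l = β l'
    · exfalso
      have e2 : α l ≠ β l' := by rw [← e4]; exact n1
      have e3 : β l ≠ α l' := by rw [← e1]; exact n1.symm
      rw [if_pos e1, if_pos e4, if_neg e2, if_neg e3] at h
      omega
    · exact Or.inl ⟨e1, e4⟩
    · exact Or.inr ⟨e1, e4⟩
    · exfalso
      rw [if_neg e1, if_neg e4] at h
      split_ifs at h <;> omega
  have relαβ : ∀ l l', ¬ R l₁ l → ¬ R l₁ l' → R l l' → α l = α l' ∧ β l = β l' := by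
    intro l l' hl hl' hll
    have hDD := hrel l l' hll
    have n1 := hαβ l hl
    have n2 := hαβ l' hl'
    constructor
    · have h3 := hD l hl (α l)
      have h4 := hD l' hl' (α l)
      rw [hDD, h4] at h3
      rw [if_pos rfl, if_neg n1] at h3
      by_contra hne
      rw [if_neg hne] at h3
      split_ifs at h3 <;> omega
    · have h3 := hD l hl (β l)
      have h4 := hD l' hl' (β l)
      rw [hDD, h4] at h3
      rw [if_pos rfl, if_neg n1.symm] at h3
      by_contra hne
      rw [if_neg hne] at h3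
      split_ifs at h3 <;> omega
  by_cases hA : ∀ l l', ¬ R l₁ l → ¬ R l₁ l' → α l = α l'
  · obtain ⟨ζ, A, hζ1, hζ2⟩ := coh_aux R hR D hrel l₁ l₂ h12 α β hαβ hD hA (by
      intro l l' hl hl'
      constructor
      · intro h
        by_contra hll
        rcases dich l l' hl hl' hll with h' | h'
        · exact h'.2 h
        · exact h'.1 (hA l l' hl hl')
      · intro h
        exact (relαβ l l' hl hl' h).2)
    exact ⟨-1, ζ, A, Or.inr rfl, fun l i => by rw [hζ1]; ring, hζ2⟩
  · push Not at hA
    obtain ⟨la, lb, hla, hlb, hne⟩ := hA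
    have hab : ¬ R la lb := fun h => hne (relαβ la lb hla hlb h).1
    have hβab : β la = β lb := by
      rcases dich la lb hla hlb hab with h' | h'
      · exact absurd h'.1 hne
      · exact h'.2
    have hβ : ∀ l, ¬ R l₁ l → β l = β la := by
      intro l hl
      by_contra hcon
      have h5 : ¬ R l la := fun h => hcon (relαβ l la hl hla h).2
      have h6 : ¬ R l lb := fun h => hcon (by rw [hβab]; exact (relαβ l lb hl hlb h).2)
      have h7 : α l = α la := by
        rcases dich l la hl hla h5 with h' | h'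
        · exact h'.1
        · exact absurd h'.2 hcon
      have h8 : α l = α lb := by
        rcases dich l lb hl hlb h6 with h' | h'
        · exact h'.1
        · exact absurd (by rw [hβab]; exact h'.2) hcon
      exact hne (by rw [← h7, h8])
    obtain ⟨ζ, A, hζ1, hζ2⟩ := coh_aux R hR (fun l i => - D l i)
      (fun l l' h => by rw [hrel l l' h]) l₁ l₂ h12 β α (fun l hl => (hαβ l hl).symm)
      (fun l hl i => by have := hD l hl i; linarith)
      (fun l l' hl hl' => by rw [hβ l hl, hβ l' hl']) (by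
      intro l l' hl hl'
      constructor
      · intro h
        by_contra hll
        rcases dich l l' hl hl' hll with h' | h'
        · exact h'.2 (by rw [hβ l hl, hβ l' hl'])
        · exact h'.1 h
      · intro h
        exact (relαβ l l' hl hl' h).1)
    refine ⟨1, ζ, fun i => - A i, Or.inl rfl, fun l i => ?_, hζ2⟩
    have := hζ1 l i
    linarith

end coh

section norm

variable {ι Λ : Type*} [Fintype ι] [DecidableEq ι]

theorem norm_rel (δ : ℤ) (hδ : δ = 1 ∨ δ = -1) (ζ : Λ → ι) (A : ι → ℤ) (D : Λ → ι → ℤ)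
    (hD : ∀ l i, D l i = A i - δ * (if i = ζ l then 1 else 0)) (m : ℤ)
    (hn : ∀ l, ∑ i, D l i ^ 2 = m + 1) (l : Λ) :
    ∑ i, A i ^ 2 = m + 2 * δ * A (ζ l) := by
  have h := hn l
  simp only [hD] at h
  have e : ∀ i, (A i - δ * (if i = ζ l then 1 else 0)) ^ 2
      = A i ^ 2 - 2 * δ * (if i = ζ l then A i else 0) + (if i = ζ l then 1 else 0) := by
    intro i
    have hδ2 : δ ^ 2 = 1 := by rcases hδ with h | h <;> rw [h] <;> norm_num
    split_ifs
    · ring_nf; rw [hδ2]; ring
    · ring
  simp only [e, Finset.sum_add_distrib, Finset.sum_sub_distrib, ← Finset.mul_sum,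
    Finset.sum_ite_eq', Finset.mem_univ, if_true] at h
  linarith

end norm

section perm

/-- summing along an orbit. -/
theorem sum_perm {N α : Type*} [Group N] [Fintype N] [Fintype α] [DecidableEq α]
    (ρ : N →* Equiv.Perm α) (a : α) (f : α → ℂ) [DecidablePred fun b => ∃ n, ρ n a = b] :
    ∑ n, f (ρ n a) = (Nat.card {n : N // ρ n a = a} : ℂ) *
      ∑ b, (if ∃ n, ρ n a = b then f b else 0) := by
  classical
  have h1 : ∀ n : N, f (ρ n a) = ∑ b, (if ρ n a = b then f b else 0) := by
    intro n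
    rw [Finset.sum_ite_eq, if_pos (Finset.mem_univ _)]
  simp only [h1]
  rw [Finset.sum_comm, Finset.mul_sum]
  apply Finset.sum_congr rfl
  intro b _
  by_cases hb : ∃ n, ρ n a = b
  · rw [if_pos hb]
    obtain ⟨n₀, hn₀⟩ := hb
    rw [← Finset.sum_filter, Finset.sum_const, nsmul_eq_mul]
    congr 1
    rw [← Fintype.card_subtype, ← Nat.card_eq_fintype_card]
    congr 1
    apply Nat.card_congr
    refine ⟨fun n => ⟨n₀⁻¹ * n.1, ?_⟩, fun n => ⟨n₀ * n.1, ?_⟩, ?_, ?_⟩
    · rw [map_mul, Equiv.Perm.mul_apply, n.2, ← hn₀, ← Equiv.Perm.mul_apply, ← map_mul]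
      simp
    · rw [map_mul, Equiv.Perm.mul_apply, n.2, hn₀]
    · intro n; simp
    · intro n; simp
  · rw [if_neg hb, mul_zero]
    apply Finset.sum_eq_zero
    intro n _
    rw [if_neg (fun h => hb ⟨n, h⟩)]

end perm

end Cfsg.Agent.Lib.Helper59BLCoh
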