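import Mathlib

set_option autoImplicit false

namespace Cfsg.Agent.Lib.Helper59BLDual

open scoped ComplexConjugate

section dual

variable {A : Type*} [Group A]

theorem hom_conj [Finite A] (ψ : A →* ℂˣ) (x : A) :
    conj ((ψ x : ℂˣ) : ℂ) = ((ψ x⁻¹ : ℂˣ) : ℂ) := by
  have h1 : ((ψ x : ℂˣ) : ℂ) ^ orderOf x = 1 := by
    rw [← Units.val_pow_eq_pow_val, ← map_pow, pow_orderOf_eq_one, map_one, Units.val_one]
  have h2 : ‖((ψ x : ℂˣ) : ℂ)‖ = 1 :=
    Complex.norm_eq_one_of_pow_eq_one h1 (orderOf_pos x).ne'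
  rw [map_inv, Units.val_inv_eq_inv_val, Complex.inv_eq_conj h2]

theorem sum_hom_eq_zero [Fintype A] (ψ : A →* ℂˣ) (hψ : ψ ≠ 1) :
    ∑ x : A, ((ψ x : ℂˣ) : ℂ) = 0 := by
  have : ∃ a, ψ a ≠ 1 := by
    by_contra h
    push Not at h
    exact hψ (MonoidHom.ext h)
  obtain ⟨a, ha⟩ := this
  have h1 : ∑ x : A, ((ψ x : ℂˣ) : ℂ) = ((ψ a : ℂˣ) : ℂ) * ∑ x : A, ((ψ x : ℂˣ) : ℂ) := by
    rw [Finset.mul_sum, ← Equiv.sum_comp (Equiv.mulLeft a)]
    apply Finset.sum_congr rfl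
    intro x _
    simp
  have h2 : (((ψ a : ℂˣ) : ℂ) - 1) * ∑ x : A, ((ψ x : ℂˣ) : ℂ) = 0 := by
    rw [sub_mul, one_mul, ← h1, sub_self]
  rcases mul_eq_zero.mp h2 with h | h
  · exfalso
    apply ha
    apply Units.ext
    rw [Units.val_one]
    exact sub_eq_zero.mp h
  · exact h

open scoped Classical in
theorem orth_hom [Fintype A] (ψ ψ' : A →* ℂˣ) :
    ∑ x : A, ((ψ x : ℂˣ) : ℂ) * conj ((ψ' x : ℂˣ) : ℂ)
      = if ψ = ψ' then (Nat.card A : ℂ) else 0 := by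
  have e : ∀ x : A, ((ψ x : ℂˣ) : ℂ) * conj ((ψ' x : ℂˣ) : ℂ) = (((ψ * ψ'⁻¹) x : ℂˣ) : ℂ) := by
    intro x
    rw [hom_conj]
    simp
  simp only [e]
  split_ifs with h
  · subst h
    simp
  · apply sum_hom_eq_zero
    intro h'
    exact h (mul_inv_eq_one.mp h')

variable (A) in
theorem enough [Finite A] : HasEnoughRootsOfUnity ℂ (Monoid.exponent A) := by
  have : NeZero (Monoid.exponent A) := ⟨Monoid.exponent_ne_zero_of_finite⟩
  infer_instance

variable (A) in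
theorem finite_hom [Finite A] (hA : IsMulCommutative A) : Finite (A →* ℂˣ) := by
  let _ : CommGroup A := { (inferInstance : Group A) with mul_comm := hA.is_comm.comm }
  have := enough A
  obtain ⟨e⟩ := CommGroup.monoidHom_mulEquiv_of_hasEnoughRootsOfUnity A ℂ
  exact Finite.of_equiv A e.symm.toEquiv

variable (A) in
theorem card_hom [Finite A] (hA : IsMulCommutative A) : Nat.card (A →* ℂˣ) = Nat.card A := by
  let _ : CommGroup A := { (inferInstance : Group A) with mul_comm := hA.is_comm.comm }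
  have := enough A
  exact CommGroup.card_monoidHom_of_hasEnoughRootsOfUnity A ℂ

theorem exists_hom_ne_one [Finite A] (hA : IsMulCommutative A) {a : A} (ha : a ≠ 1) :
    ∃ ψ : A →* ℂˣ, ψ a ≠ 1 := by
  let _ : CommGroup A := { (inferInstance : Group A) with mul_comm := hA.is_comm.comm }
  have := enough A
  exact CommGroup.exists_apply_ne_one_of_hasEnoughRootsOfUnity A ℂ ha

theorem sum_dual_eq_zero [Finite A] (hA : IsMulCommutative A) [Fintype (A →* ℂˣ)] {a : A}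
    (ha : a ≠ 1) : ∑ ψ : A →* ℂˣ, ((ψ a : ℂˣ) : ℂ) = 0 := by
  obtain ⟨φ, hφ⟩ := exists_hom_ne_one hA ha
  have h1 : ∑ ψ : A →* ℂˣ, ((ψ a : ℂˣ) : ℂ)
      = ((φ a : ℂˣ) : ℂ) * ∑ ψ : A →* ℂˣ, ((ψ a : ℂˣ) : ℂ) := by
    rw [Finset.mul_sum, ← Equiv.sum_comp (Equiv.mulLeft φ)]
    apply Finset.sum_congr rfl
    intro x _
    simp
  have h2 : (((φ a : ℂˣ) : ℂ) - 1) * ∑ ψ : A →* ℂˣ, ((ψ a : ℂˣ) : ℂ) = 0 := by
    rw [sub_mul, one_mul, ← h1, sub_self]
  rcases mul_eq_zero.mp h2 with h | h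
  · exfalso
    apply hφ
    apply Units.ext
    rw [Units.val_one]
    exact sub_eq_zero.mp h
  · exact h

open scoped Classical in
theorem orth2_hom [Finite A] (hA : IsMulCommutative A) [Fintype (A →* ℂˣ)] (x y : A) :
    ∑ ψ : A →* ℂˣ, conj ((ψ x : ℂˣ) : ℂ) * ((ψ y : ℂˣ) : ℂ)
      = if x = y then (Nat.card A : ℂ) else 0 := by
  have e : ∀ ψ : A →* ℂˣ, conj ((ψ x : ℂˣ) : ℂ) * ((ψ y : ℂˣ) : ℂ)
      = ((ψ (x⁻¹ * y) : ℂˣ) : ℂ) := by
    intro ψ
    rw [hom_conj]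
    simp
  simp only [e]
  split_ifs with h
  · subst h
    simp only [inv_mul_cancel, map_one, Units.val_one, Finset.sum_const, Finset.card_univ,
      nsmul_eq_mul, mul_one]
    rw [← Nat.card_eq_fintype_card, card_hom A hA]
  · apply sum_dual_eq_zero hA
    intro h'
    exact h (inv_mul_eq_one.mp h')

/-- Fourier inversion. -/
theorem fourier [Fintype A] (hA : IsMulCommutative A) [Fintype (A →* ℂˣ)] (f : A → ℂ) (y : A) :
    ∑ ψ : A →* ℂˣ, ((Nat.card A : ℂ)⁻¹ * ∑ x : A, f x * conj ((ψ x : ℂˣ) : ℂ))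
      * ((ψ y : ℂˣ) : ℂ) = f y := by
  classical
  have hc : (Nat.card A : ℂ) ≠ 0 := by
    exact_mod_cast Nat.card_pos.ne'
  have e : ∀ ψ : A →* ℂˣ, ((Nat.card A : ℂ)⁻¹ * ∑ x : A, f x * conj ((ψ x : ℂˣ) : ℂ))
      * ((ψ y : ℂˣ) : ℂ)
      = (Nat.card A : ℂ)⁻¹ * ∑ x : A, f x * (conj ((ψ x : ℂˣ) : ℂ) * ((ψ y : ℂˣ) : ℂ)) := by
    intro ψ
    rw [mul_assoc, Finset.sum_mul]
    congr 1
    apply Finset.sum_congr rfl
    intro x _
    ring
  simp only [e]
  rw [← Finset.mul_sum, Finset.sum_comm]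
  simp only [← Finset.mul_sum, orth2_hom hA]
  simp only [mul_ite, mul_zero, Finset.sum_ite_eq', Finset.mem_univ, if_true]
  field_simp

theorem exists_hom_trivial_on [Finite A] (hA : IsMulCommutative A) (H : Subgroup A)
    (hH : H ≠ ⊤) : ∃ ψ : A →* ℂˣ, ψ ≠ 1 ∧ ∀ y ∈ H, ψ y = 1 := by
  let _ : CommGroup A := { (inferInstance : Group A) with mul_comm := hA.is_comm.comm }
  have := enough A
  obtain ⟨x, hx⟩ : ∃ x, x ∉ H := by
    by_contra hcon
    push Not at hcon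
    exact hH (Subgroup.eq_top_iff' H |>.mpr hcon)
  have h1 := (CommGroup.forall_monoidHom_apply_eq_one_iff (M := ℂ) H x).not.mpr hx
  push Not at h1
  obtain ⟨φ, hφ, hφx⟩ := h1
  exact ⟨φ, fun h' => hφx (by rw [h']; rfl), hφ⟩

/-- the four-group generated by two commuting involutions. -/
theorem exists_four (hA : IsMulCommutative A) (a b : A) (ha : a * a = 1) (hb : b * b = 1) :
    ∃ V : Subgroup A, a ∈ V ∧ b ∈ V ∧ Nat.card V ≤ 4 := by
  classical
  let _ : CommGroup A := { (inferInstance : Group A) with mul_comm := hA.is_comm.comm }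
  have ha' : ∀ x, a * (a * x) = x := fun x => by rw [← mul_assoc, ha, one_mul]
  have hb' : ∀ x, b * (b * x) = x := fun x => by rw [← mul_assoc, hb, one_mul]
  have hai : a⁻¹ = a := inv_eq_of_mul_eq_one_left ha
  have hbi : b⁻¹ = b := inv_eq_of_mul_eq_one_left hb
  let V : Subgroup A :=
    { carrier := {x | x = 1 ∨ x = a ∨ x = b ∨ x = a * b}
      one_mem' := Or.inl rfl
      mul_mem' := by
        rintro x y (rfl | rfl | rfl | rfl) (rfl | rfl | rfl | rfl) <;>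
          simp [mul_comm, mul_left_comm, ha, hb, ha', hb']
      inv_mem' := by
        rintro x (rfl | rfl | rfl | rfl) <;> simp [hai, hbi, mul_comm] }
  refine ⟨V, Or.inr (Or.inl rfl), Or.inr (Or.inr (Or.inl rfl)), ?_⟩
  have h1 : (V : Set A) ⊆ ↑({1, a, b, a * b} : Finset A) := by
    intro x hx
    simp only [Finset.coe_insert, Finset.coe_singleton, Set.mem_insert_iff,
      Set.mem_singleton_iff]
    exact hx
  have h2 : Nat.card V = (V : Set A).ncard := (Nat.card_coe_set_eq _)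
  rw [h2]
  calc (V : Set A).ncard ≤ (↑({1, a, b, a * b} : Finset A) : Set A).ncard :=
        Set.ncard_le_ncard h1 (Finset.finite_toSet _)
    _ = ({1, a, b, a * b} : Finset A).card := Set.ncard_coe_finset _
    _ ≤ 4 := Finset.card_le_four

end dual

end Cfsg.Agent.Lib.Helper59BLDual
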