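import Cfsg.Agent.Lib.Helper5Cliff2
import Cfsg.Agent.Lib.Helper19Det
import Cfsg.Agent.Lib.Helper82Linear
import Mathlib

set_option autoImplicit false

namespace Cfsg.Agent.Lib.Helper5Abel

open Cfsg Cfsg.Agent.Lib.Helper19Ind Cfsg.Agent.Lib.Helper4Char Cfsg.Agent.Lib.Helper4Char2
  Cfsg.Agent.Lib.Helper4Char4 Cfsg.Agent.Lib.Helper5Ind Cfsg.Agent.Lib.Helper5Clifford
  Cfsg.Agent.Lib.Helper82Quot Cfsg.Agent.Lib.Helper82Linear Cfsg.Agent.Lib.Helper19Lin
open scoped ComplexConjugate

theorem irr_one_of_comm {G : Type*} [Group G] [IsMulCommutative G] (φ : IrrCharacter G) :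
    (φ : G → ℂ) 1 = 1 := by
  obtain ⟨n, ρ, hρ, h⟩ := φ.2
  rw [← h, Representation.char_one,
    Representation.IsIrreducible.finrank_eq_one_of_isMulCommutative ρ]
  simp

theorem isMulCommutative_quotient {T : Type*} [Group T] (K : Subgroup T) [K.Normal]
    (hab : ∀ x y : T, x * y * x⁻¹ * y⁻¹ ∈ K) : IsMulCommutative (T ⧸ K) := by
  refine ⟨⟨?_⟩⟩
  intro a b
  obtain ⟨a, rfl⟩ := QuotientGroup.mk_surjective a
  obtain ⟨b, rfl⟩ := QuotientGroup.mk_surjective b
  rw [← QuotientGroup.mk_mul, ← QuotientGroup.mk_mul, QuotientGroup.eq]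
  have := hab b⁻¹ a⁻¹
  simpa [mul_assoc] using this

open scoped Classical in
/-- the sum of the (inflated) irreducible characters of an abelian quotient -/
theorem sum_irr_quotient {T : Type*} [Group T] [Fintype T] (K : Subgroup T) [K.Normal]
    [Fintype (T ⧸ K)] (hab : ∀ x y : T, x * y * x⁻¹ * y⁻¹ ∈ K) (t : T) :
    ∑ β : IrrCharacter (T ⧸ K), (β : T ⧸ K → ℂ) (t : T ⧸ K) =
      if t ∈ K then (K.index : ℂ) else 0 := by
  haveI := isMulCommutative_quotient K hab
  have h := sum_degree_mul (t : T ⧸ K)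
  simp only [irr_one_of_comm, one_mul] at h
  rw [h]
  simp only [QuotientGroup.eq_one_iff]
  rfl

/-- if `T/K` is abelian, irreducible characters with non-orthogonal restrictions to `K` differ by
a linear character of `T/K`. -/
theorem exists_linear_mul {T : Type*} [Group T] [Fintype T] (K : Subgroup T) [K.Normal]
    [Fintype K] (hab : ∀ x y : T, x * y * x⁻¹ * y⁻¹ ∈ K) {ψ ψ' : T → ℂ}
    (hψ : IsIrrCharacter T ψ) (hψ' : IsIrrCharacter T ψ')
    (h : classInner (fun k : K => ψ k) (fun k : K => ψ' k) ≠ 0) :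
    ∃ f : T →* ℂˣ, (∀ k ∈ K, f k = 1) ∧ ψ' = homFun f * ψ := by
  classical
  letI : Fintype (T ⧸ K) := Fintype.ofFinite _
  haveI := isMulCommutative_quotient K hab
  have key : ∑ β : IrrCharacter (T ⧸ K),
      classInner ((inflate K β : T → ℂ) * ψ) ψ' =
      classInner (fun k : K => ψ k) (fun k : K => ψ' k) := by
    unfold classInner
    rw [← Finset.mul_sum, Finset.sum_comm]
    have h1 : ∀ t : T, ∑ β : IrrCharacter (T ⧸ K),
        ((inflate K β : T → ℂ) * ψ) t * conj (ψ' t) =
        if t ∈ K then (K.index : ℂ) * (ψ t * conj (ψ' t)) else 0 := by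
      intro t
      simp only [Pi.mul_apply, inflate_apply, mul_assoc]
      rw [← Finset.sum_mul, sum_irr_quotient K hab]
      split_ifs <;> simp
    rw [Finset.sum_congr rfl (fun t _ => h1 t), ← Finset.sum_filter, ← Finset.mul_sum,
      Finset.sum_subtype (p := fun a => a ∈ K) (Finset.univ.filter (fun t : T => t ∈ K))
        (by intro x; simp), ← mul_assoc]
    congr 1
    rw [← K.card_mul_index]
    push_cast
    have hK : (Nat.card K : ℂ) ≠ 0 := Helper19Ind.card_ne_zero K
    have hI : (K.index : ℂ) ≠ 0 := by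
      exact_mod_cast (Subgroup.index_ne_zero_of_finite (H := K))
    field_simp
  rw [← key] at h
  obtain ⟨β, -, hβ⟩ := Finset.exists_ne_zero_of_sum_ne_zero h
  have h1 : (inflate K β : T → ℂ) 1 = 1 := by
    rw [inflate_apply]
    exact irr_one_of_comm β
  refine ⟨homOfLinear (inflate K β) h1, ?_, ?_⟩
  · intro k hk
    apply Units.ext
    rw [homOfLinear_apply, inflate_ker K β hk, h1]
    rfl
  · have h2 : homFun (homOfLinear (inflate K β) h1) = (inflate K β : T → ℂ) := by
      funext t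
      rw [homFun_apply, homOfLinear_apply]
    have h3 := Helper19Det.isIrr_homFun_mul (homOfLinear (inflate K β) h1) hψ
    rw [h2] at h3 ⊢
    by_contra hne
    exact hβ (classInner_irr_ne h3 hψ' (fun hh => hne hh.symm))

end Cfsg.Agent.Lib.Helper5Abel
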