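import Mathlib
import Cfsg.Prelude.Def_Blocks
import Cfsg.Agent.Lib.Helper59BSChar
import Cfsg.Agent.Lib.Helper59BSGrp
import Cfsg.Agent.Lib.Helper59BLCoh
import Cfsg.Agent.Lib.Helper5Abel
import Cfsg.Agent.Lib.Helper59BLDual

set_option autoImplicit false

namespace Cfsg.Agent.Lib.Helper59BLGram

open Cfsg Subgroup
open Cfsg.Agent.Lib.Helper81Base Cfsg.Agent.Lib.Helper81BB
  Cfsg.Agent.Lib.Helper81Block Cfsg.Agent.Lib.Helper81Orth Cfsg.Agent.Lib.Helper81Orth2
  Cfsg.Agent.Lib.Helper81Subsec Cfsg.Agent.Lib.Helper81Subsec2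
  Cfsg.Agent.Lib.Helper82Linear Cfsg.Agent.Lib.Helper82Quot Cfsg.Agent.Lib.Helper59BSChar
  Cfsg.Agent.Lib.Helper59BSGrp Cfsg.Agent.Lib.Helper59BLCoh Cfsg.Agent.Lib.Helper59BLDual
open scoped ComplexConjugate

section grp

variable {G : Type*} [Group G] {p : ℕ} [Fact p.Prime] (P : Sylow p G)

/-- the conjugation action of `N_G(P)` on `P`. -/
def actHom : normalizer ((P : Subgroup G) : Set G) →* MulAut (P : Subgroup G) where
  toFun n :=
    { toFun := fun x => ⟨(n : G) * x * (n : G)⁻¹, (mem_normalizer_iff.mp n.2 x).mp x.2⟩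
      invFun := fun x => ⟨(n : G)⁻¹ * x * (n : G), by
        have := (mem_normalizer_iff.mp (inv_mem n.2) x).mp x.2
        simpa using this⟩
      left_inv := fun x => by apply Subtype.ext; simp [mul_assoc]
      right_inv := fun x => by apply Subtype.ext; simp [mul_assoc]
      map_mul' := fun x y => by apply Subtype.ext; simp [mul_assoc] }
  map_one' := by ext x; simp
  map_mul' a b := by ext x; simp [mul_assoc]

@[simp] theorem actHom_apply (n : normalizer ((P : Subgroup G) : Set G)) (x : (P : Subgroup G)) :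
    ((actHom P n x : (P : Subgroup G)) : G) = (n : G) * x * (n : G)⁻¹ := rfl

@[simp] theorem actHom_symm_apply (n : normalizer ((P : Subgroup G) : Set G))
    (x : (P : Subgroup G)) :
    (((actHom P n).symm x : (P : Subgroup G)) : G) = (n : G)⁻¹ * x * (n : G) := rfl

variable [Finite G]

/-- `C_G(y)` has a normal `p`-complement of index `|P|`. -/
theorem index_core_of_frob (hab : IsMulCommutative P) (y : G) (hy : y ∈ (P : Subgroup G))
    (hfr : centralizer ({y} : Set G) ⊓ normalizer ((P : Subgroup G) : Set G)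
      = centralizer ((P : Subgroup G) : Set G)) :
    (pPrimeCore p (centralizer ({y} : Set G))).index = Nat.card P := by
  set H := centralizer ({y} : Set G) with hH
  have hPH : (P : Subgroup G) ≤ H := by
    intro x hx
    rw [hH, mem_centralizer_singleton_iff]
    exact congrArg Subtype.val (hab.is_comm.comm ⟨x, hx⟩ ⟨y, hy⟩)
  set Q : Sylow p H := P.subtype hPH with hQ
  have hQmem : ∀ h : H, h ∈ (Q : Subgroup H) ↔ (h : G) ∈ (P : Subgroup G) := by
    intro h
    rw [hQ, Sylow.coe_subtype, mem_subgroupOf]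
  have hNC : normalizer ((Q : Subgroup H) : Set H) ≤ centralizer ((Q : Subgroup H) : Set H) := by
    intro h hh
    have h1 : (h : G) ∈ normalizer ((P : Subgroup G) : Set G) := by
      rw [mem_normalizer_iff]
      intro x
      constructor
      · intro hx
        have := (mem_normalizer_iff.mp hh ⟨x, hPH hx⟩).mp ((hQmem _).mpr hx)
        exact (hQmem _).mp this
      · intro hx
        have hxH : x ∈ H := by
          have h2 : (h : G)⁻¹ * ((h : G) * x * (h : G)⁻¹) * (h : G) ∈ H :=
            H.mul_mem (H.mul_mem (H.inv_mem h.2) (hPH hx)) h.2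
          have e : (h : G)⁻¹ * ((h : G) * x * (h : G)⁻¹) * (h : G) = x := by group
          rwa [e] at h2
        have := (mem_normalizer_iff.mp hh ⟨x, hxH⟩).mpr ((hQmem _).mpr hx)
        exact (hQmem _).mp this
    have h2 : (h : G) ∈ centralizer ((P : Subgroup G) : Set G) := by
      rw [← hfr]; exact ⟨h.2, h1⟩
    rw [mem_centralizer_iff]
    intro q hq
    apply Subtype.ext
    exact mem_centralizer_iff.mp h2 q ((hQmem q).mp hq)
  rw [index_pPrimeCore_of_complement Q _ inferInstance
    (MonoidHom.ker_transferSylow_isComplement' Q hNC)]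
  exact Nat.card_congr (subgroupOfEquivOfLe hPH).toEquiv

/-- Burnside: fusion in an abelian Sylow subgroup is controlled by its normalizer. -/
theorem exists_act_of_isConj (hab : IsMulCommutative P) (x y : (P : Subgroup G))
    (h : IsConj (x : G) (y : G)) : ∃ n, actHom P n x = y := by
  obtain ⟨g, hg⟩ := isConj_iff.mp h
  have := P.conj_eq_normalizer_conj_of_mem (x : G) g⁻¹ x.2 (by rw [inv_inv, hg]; exact y.2)
  obtain ⟨n, hn, hn2⟩ := this
  refine ⟨⟨n⁻¹, inv_mem hn⟩, Subtype.ext ?_⟩
  rw [actHom_apply]
  simp only [inv_inv] at hn2 ⊢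
  rw [← hn2, hg]

end grp

section gram

variable {G : Type*} [Group G] [Fintype G] {p : ℕ} [Fact p.Prime] {M : Ideal AlgInt}

/-- the Brauer--Leonard hypotheses. -/
structure BL (p : ℕ) [Fact p.Prime] (M : Ideal AlgInt) (P : Sylow p G) : Prop where
  hM : IsPModular p M
  hab : IsMulCommutative P
  hfrob : ∀ y : G, y ∈ (P : Subgroup G) → y ≠ 1 →
    centralizer ({y} : Set G) ⊓ normalizer ((P : Subgroup G) : Set G)
      = centralizer ((P : Subgroup G) : Set G)

variable {P : Sylow p G}

omit [Fintype G] in
theorem isPPart_self (x : (P : Subgroup G)) : IsPPart p (x : G) (x : G) := by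
  refine ⟨1, mul_one _, Commute.one_right _, ?_, ?_⟩
  · obtain ⟨k, hk⟩ := (IsPGroup.iff_orderOf.mp P.isPGroup') x
    exact ⟨k, by rw [← hk, Subgroup.orderOf_coe]⟩
  · rw [orderOf_one]
    exact (Fact.out : p.Prime).one_lt.ne' ∘ Nat.dvd_one.mp

open scoped Classical in
/-- the Gram matrix of the principal block columns at elements of `P`. -/
theorem gram_elem (h : BL p M P) (x y : (P : Subgroup G)) (hx : x ≠ 1) :
    ∑ χ : IrrCharacter G, (if χ ∈ principalBlock M G then
      (χ : G → ℂ) x * conj ((χ : G → ℂ) y) else 0)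
      = if IsConj (x : G) (y : G) then (Nat.card P : ℂ) else 0 := by
  have hx1 : (x : G) ≠ 1 := fun h1 => hx (Subtype.ext h1)
  split_ifs with hc
  · have hidx := index_core_of_frob P h.hab x x.2 (h.hfrob x x.2 hx1)
    obtain ⟨k, hk⟩ := (isPPart_self x).choose_spec.2.2.1
    obtain ⟨k', hk'⟩ := IsPGroup.iff_card.mp P.isPGroup'
    have := sum_principal_norm h.hM (x : G) ⟨k, hk⟩ ⟨k', by rw [hidx]; exact hk'⟩
    rw [hidx] at this
    rw [← this]
    apply Finset.sum_congr rfl
    intro χ _
    rw [Cfsg.Agent.Lib.Helper82Schur.irr_isConj χ hc]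
  · exact block_orth h.hM isPBlock_principalBlock (isPPart_self x) (isPPart_self y) hc

theorem mem_centralizer_of_fix (h : BL p M P) (n : normalizer ((P : Subgroup G) : Set G))
    (x : (P : Subgroup G)) (hx : x ≠ 1) (hn : actHom P n x = x) :
    (n : G) ∈ centralizer ((P : Subgroup G) : Set G) := by
  have hx1 : (x : G) ≠ 1 := fun h1 => hx (Subtype.ext h1)
  rw [← h.hfrob x x.2 hx1]
  refine Subgroup.mem_inf.mpr ⟨?_, n.2⟩
  rw [mem_centralizer_singleton_iff]
  have := congrArg Subtype.val hn
  rw [actHom_apply, mul_inv_eq_iff_eq_mul] at this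
  exact this

omit [Fintype G] in
theorem centralizer_le_normalizer' :
    centralizer ((P : Subgroup G) : Set G) ≤ normalizer ((P : Subgroup G) : Set G) := by
  intro c hc
  rw [mem_normalizer_iff]
  intro x
  constructor
  · intro hx
    have := mem_centralizer_iff.mp hc x hx
    rw [← this, mul_inv_cancel_right]; exact hx
  · intro hx
    have := mem_centralizer_iff.mp hc _ hx
    have e : c * x * c⁻¹ = x := by
      have h2 : c * x * c⁻¹ * c = c * (c * x * c⁻¹) := this
      have h3 : c * x = c * (c * x * c⁻¹) := by rw [← h2]; group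
      exact (mul_left_cancel h3).symm
    rwa [e] at hx

omit [Fintype G] in
theorem act_of_mem_centralizer (n : normalizer ((P : Subgroup G) : Set G))
    (hn : (n : G) ∈ centralizer ((P : Subgroup G) : Set G)) (x : (P : Subgroup G)) :
    actHom P n x = x := by
  apply Subtype.ext
  rw [actHom_apply]
  have := mem_centralizer_iff.mp hn x x.2
  rw [← this, mul_inv_cancel_right]

theorem card_stab_elem (h : BL p M P) (x : (P : Subgroup G)) (hx : x ≠ 1) :
    Nat.card {n : normalizer ((P : Subgroup G) : Set G) // actHom P n x = x}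
      = Nat.card (centralizer ((P : Subgroup G) : Set G)) := by
  apply Nat.card_congr
  refine ⟨fun n => ⟨(n.1 : G), mem_centralizer_of_fix h n.1 x hx n.2⟩,
    fun c => ⟨⟨(c : G), centralizer_le_normalizer' c.2⟩, act_of_mem_centralizer _ c.2 x⟩, ?_, ?_⟩
  · intro n; rfl
  · intro c; rfl

open scoped Classical in
/-- summation over the `G`-conjugates in `P` of a nonidentity element. -/
theorem sum_isConj (h : BL p M P) [Fintype ↥(P : Subgroup G)]
    [Fintype (normalizer ((P : Subgroup G) : Set G))] (x : (P : Subgroup G)) (hx : x ≠ 1)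
    (f : ↥(P : Subgroup G) → ℂ) :
    ∑ n : normalizer ((P : Subgroup G) : Set G), f (actHom P n x)
      = (Nat.card (centralizer ((P : Subgroup G) : Set G)) : ℂ) *
        ∑ y : (P : Subgroup G), (if IsConj (x : G) (y : G) then f y else 0) := by
  have := sum_perm ((MulAut.toPerm (P : Subgroup G)).comp (actHom P)) x f
  have e0 : ∀ n : normalizer ((P : Subgroup G) : Set G),
      ((MulAut.toPerm (P : Subgroup G)).comp (actHom P)) n x = actHom P n x := fun n => rfl
  simp only [e0] at this
  rw [this]
  congr 1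
  · congr 1
    exact card_stab_elem h x hx
  · apply Finset.sum_congr rfl
    intro y _
    have e : (∃ n, actHom P n x = y) ↔ IsConj (x : G) (y : G) := by
      constructor
      · rintro ⟨n, rfl⟩
        exact isConj_iff.mpr ⟨n, rfl⟩
      · intro hc
        exact exists_act_of_isConj P h.hab x y hc
    by_cases hy : IsConj (x : G) (y : G)
    · rw [if_pos hy, if_pos (e.mpr hy)]
    · rw [if_neg hy, if_neg (fun h' => hy (e.mp h'))]

open scoped Classical in
/-- the Gram formula. -/
theorem gram (h : BL p M P) [Fintype ↥(P : Subgroup G)]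
    [Fintype (normalizer ((P : Subgroup G) : Set G))] (φ φ' : ↥(P : Subgroup G) → ℂ)
    (h1 : φ 1 = 0) :
    ∑ χ : IrrCharacter G, (if χ ∈ principalBlock M G then
      classInner (fun x : ↥(P : Subgroup G) => (χ : G → ℂ) x) φ *
        conj (classInner (fun x : ↥(P : Subgroup G) => (χ : G → ℂ) x) φ') else 0)
      = (Nat.card (centralizer ((P : Subgroup G) : Set G)) : ℂ)⁻¹ *
        ∑ n : normalizer ((P : Subgroup G) : Set G),
          classInner (fun x => φ' (actHom P n x)) φ := by
  have hP : (Nat.card ↥(P : Subgroup G) : ℂ) ≠ 0 := by exact_mod_cast Nat.card_pos.ne'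
  have hC : (Nat.card (centralizer ((P : Subgroup G) : Set G)) : ℂ) ≠ 0 := by
    exact_mod_cast Nat.card_pos.ne'
  have e1 : ∀ χ : IrrCharacter G, (if χ ∈ principalBlock M G then
      classInner (fun x : ↥(P : Subgroup G) => (χ : G → ℂ) x) φ *
        conj (classInner (fun x : ↥(P : Subgroup G) => (χ : G → ℂ) x) φ') else 0)
      = ((Nat.card ↥(P : Subgroup G) : ℂ)⁻¹) ^ 2 * ∑ x : ↥(P : Subgroup G),
          ∑ y : ↥(P : Subgroup G), conj (φ x) * φ' y *
            (if χ ∈ principalBlock M G then (χ : G → ℂ) x * conj ((χ : G → ℂ) y) else 0) := by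
    intro χ
    split_ifs with hχ
    · unfold classInner
      rw [map_mul, map_inv₀, Complex.conj_natCast, map_sum]
      simp only [map_mul, Complex.conj_conj]
      rw [mul_mul_mul_comm, ← sq, Finset.sum_mul_sum]
      congr 1
      apply Finset.sum_congr rfl
      intro x _
      apply Finset.sum_congr rfl
      intro y _
      ring
    · simp
  simp only [e1]
  rw [← Finset.mul_sum, Finset.sum_comm]
  have e2 : ∀ x : ↥(P : Subgroup G), ∑ χ : IrrCharacter G,
      ∑ y : ↥(P : Subgroup G), conj (φ x) * φ' y *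
            (if χ ∈ principalBlock M G then (χ : G → ℂ) x * conj ((χ : G → ℂ) y) else 0)
      = (Nat.card ↥(P : Subgroup G) : ℂ) *
        (Nat.card (centralizer ((P : Subgroup G) : Set G)) : ℂ)⁻¹ *
        ∑ n : normalizer ((P : Subgroup G) : Set G), φ' (actHom P n x) * conj (φ x) := by
    intro x
    by_cases hx : x = 1
    · subst hx
      simp [h1]
    · rw [Finset.sum_comm]
      simp only [← Finset.mul_sum, gram_elem h x _ hx]
      rw [← Finset.sum_mul, sum_isConj h x hx φ']
      rw [Finset.mul_sum, Finset.sum_mul, Finset.mul_sum]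
      apply Finset.sum_congr rfl
      intro y _
      split_ifs
      · field_simp
      · simp
  simp only [e2]
  unfold classInner
  rw [← Finset.mul_sum, Finset.sum_comm, ← Finset.mul_sum]
  field_simp

end gram

end Cfsg.Agent.Lib.Helper59BLGram
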