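import Mathlib
import Cfsg.Prelude.Def_Blocks
import Cfsg.Agent.Lib.Helper59BLGram

set_option autoImplicit false
set_option linter.unusedSectionVars false

namespace Cfsg.Agent.Lib.Helper59BLTw

open Cfsg Subgroup
open Cfsg.Agent.Lib.Helper59BLCoh Cfsg.Agent.Lib.Helper59BLDual Cfsg.Agent.Lib.Helper59BLGram
open scoped ComplexConjugate

section tw

variable {G : Type*} [Group G] {p : ℕ} [Fact p.Prime] (P : Sylow p G)

/-- the action of `N_G(P)` on the dual group of `P`. -/
def twHom : normalizer ((P : Subgroup G) : Set G) →* Equiv.Perm (↥(P : Subgroup G) →* ℂˣ) where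
  toFun n :=
    { toFun := fun ψ => ψ.comp ((actHom P n).symm : ↥(P : Subgroup G) ≃* ↥(P : Subgroup G)).toMonoidHom
      invFun := fun ψ => ψ.comp (actHom P n : ↥(P : Subgroup G) ≃* ↥(P : Subgroup G)).toMonoidHom
      left_inv := fun ψ => by ext x; simp
      right_inv := fun ψ => by ext x; simp }
  map_one' := by
    ext ψ x
    show ((ψ ((actHom P 1).symm x) : ℂˣ) : ℂ) = ψ x
    congr 2
    apply Subtype.ext
    rw [actHom_symm_apply]
    simp
  map_mul' a b := by
    ext ψ x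
    show ((ψ ((actHom P (a * b)).symm x) : ℂˣ) : ℂ)
      = ψ ((actHom P b).symm ((actHom P a).symm x))
    congr 2
    apply Subtype.ext
    rw [actHom_symm_apply, actHom_symm_apply, actHom_symm_apply]
    simp [mul_assoc]

theorem twHom_apply (n : normalizer ((P : Subgroup G) : Set G)) (ψ : ↥(P : Subgroup G) →* ℂˣ)
    (x : ↥(P : Subgroup G)) : twHom P n ψ x = ψ ((actHom P n).symm x) := rfl

theorem twHom_act (n : normalizer ((P : Subgroup G) : Set G)) (ψ : ↥(P : Subgroup G) →* ℂˣ)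
    (x : ↥(P : Subgroup G)) : twHom P n ψ (actHom P n x) = ψ x := by
  rw [twHom_apply]; simp

theorem twHom_one (n : normalizer ((P : Subgroup G) : Set G)) :
    twHom P n (1 : ↥(P : Subgroup G) →* ℂˣ) = 1 := by
  ext x; rfl

/-- `N`-conjugacy of linear characters of `P`. -/
def Rel (ψ ψ' : ↥(P : Subgroup G) →* ℂˣ) : Prop := ∃ n, twHom P n ψ = ψ'

theorem rel_equiv : Equivalence (Rel P) where
  refl ψ := ⟨1, by rw [map_one]; rfl⟩
  symm := by
    rintro ψ ψ' ⟨n, rfl⟩
    refine ⟨n⁻¹, ?_⟩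
    rw [← Equiv.Perm.mul_apply, ← map_mul, inv_mul_cancel, map_one]; rfl
  trans := by
    rintro ψ ψ' ψ'' ⟨n, rfl⟩ ⟨n', rfl⟩
    exact ⟨n' * n, by rw [map_mul]; rfl⟩

theorem rel_iff (ψ ψ' : ↥(P : Subgroup G) →* ℂˣ) :
    (∃ n : G, n ∈ normalizer ((P : Subgroup G) : Set G) ∧
      ∀ w w' : ↥(P : Subgroup G), (w' : G) = n * w * n⁻¹ → ψ' w' = ψ w) ↔ Rel P ψ ψ' := by
  constructor
  · rintro ⟨n, hn, h⟩
    refine ⟨⟨n, hn⟩, ?_⟩
    ext x
    rw [twHom_apply]
    rw [h ((actHom P ⟨n, hn⟩).symm x) x (by rw [actHom_symm_apply]; simp [mul_assoc])]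
  · rintro ⟨n, rfl⟩
    refine ⟨n, n.2, ?_⟩
    intro w w' hw
    have : w' = actHom P n w := Subtype.ext hw
    rw [this, twHom_act]

theorem rel_one_iff (ψ : ↥(P : Subgroup G) →* ℂˣ) : Rel P ψ 1 ↔ ψ = 1 := by
  constructor
  · rintro ⟨n, hn⟩
    have := congrArg (twHom P n⁻¹) hn
    rw [← Equiv.Perm.mul_apply, ← map_mul, inv_mul_cancel, map_one, twHom_one] at this
    exact this
  · rintro rfl
    exact ⟨1, twHom_one P 1⟩

theorem ne_one_of_rel {ψ ψ' : ↥(P : Subgroup G) →* ℂˣ} (h : Rel P ψ ψ') (hψ : ψ ≠ 1) :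
    ψ' ≠ 1 := by
  rintro rfl
  exact hψ ((rel_one_iff P ψ).mp h)

end tw

section stab

variable {G : Type*} [Group G] [Fintype G] {p : ℕ} [Fact p.Prime] {M : Ideal AlgInt}
  {P : Sylow p G}

theorem mem_centralizer_of_tw (h : BL p M P) (n : normalizer ((P : Subgroup G) : Set G))
    (ψ : ↥(P : Subgroup G) →* ℂˣ) (hψ : ψ ≠ 1) (hn : twHom P n ψ = ψ) :
    (n : G) ∈ centralizer ((P : Subgroup G) : Set G) := by
  by_contra hc
  apply hψ
  have hcomm : ∀ a b : ↥(P : Subgroup G), a * b = b * a := h.hab.is_comm.comm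
  have hinj : Function.Injective (fun x : ↥(P : Subgroup G) => x⁻¹ * actHom P n x) := by
    intro x y hxy
    have hxy' : x⁻¹ * actHom P n x = y⁻¹ * actHom P n y := hxy
    by_contra hne
    have h1 : x * y⁻¹ ≠ 1 := fun h' => hne (mul_inv_eq_one.mp h')
    apply hc
    apply mem_centralizer_of_fix h n (x * y⁻¹) h1
    rw [map_mul, map_inv]
    have h2 : actHom P n x = x * (y⁻¹ * actHom P n y) := by rw [← hxy']; group
    rw [h2, mul_assoc, mul_assoc, mul_inv_cancel, mul_one]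
  have hsurj := Finite.surjective_of_injective hinj
  ext z
  obtain ⟨x, rfl⟩ := hsurj z
  have h3 : ψ (actHom P n x) = ψ x := by
    conv_lhs => rw [← hn]
    exact twHom_act P n ψ x
  simp only [map_mul, map_inv, h3, inv_mul_cancel, MonoidHom.one_apply]

theorem tw_of_mem_centralizer (n : normalizer ((P : Subgroup G) : Set G))
    (hn : (n : G) ∈ centralizer ((P : Subgroup G) : Set G)) (ψ : ↥(P : Subgroup G) →* ℂˣ) :
    twHom P n ψ = ψ := by
  ext x
  conv_lhs => rw [← act_of_mem_centralizer n hn x]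
  rw [twHom_act]

theorem card_stab_char (h : BL p M P) (ψ : ↥(P : Subgroup G) →* ℂˣ) (hψ : ψ ≠ 1) :
    Nat.card {n : normalizer ((P : Subgroup G) : Set G) // twHom P n ψ = ψ}
      = Nat.card (centralizer ((P : Subgroup G) : Set G)) := by
  apply Nat.card_congr
  refine ⟨fun n => ⟨(n.1 : G), mem_centralizer_of_tw h n.1 ψ hψ n.2⟩,
    fun c => ⟨⟨(c : G), centralizer_le_normalizer' c.2⟩, tw_of_mem_centralizer _ c.2 ψ⟩, ?_, ?_⟩
  · intro n; rfl
  · intro c; rfl

theorem card_normalizer (m : ℕ)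
    (hm : (centralizer ((P : Subgroup G) : Set G)).relIndex
      (normalizer ((P : Subgroup G) : Set G)) = m) :
    Nat.card (normalizer ((P : Subgroup G) : Set G))
      = Nat.card (centralizer ((P : Subgroup G) : Set G)) * m := by
  rw [← hm, ← Subgroup.card_mul_index ((centralizer ((P : Subgroup G) : Set G)).subgroupOf
    (normalizer ((P : Subgroup G) : Set G)))]
  congr 1
  exact Nat.card_congr (subgroupOfEquivOfLe centralizer_le_normalizer').toEquiv

variable [Fintype ↥(P : Subgroup G)] [Fintype (normalizer ((P : Subgroup G) : Set G))]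

/-- indicator of a proposition. -/
noncomputable def ind (q : Prop) : ℂ := @ite _ q (Classical.propDecidable q) 1 0

theorem ind_pos {q : Prop} (h : q) : ind q = 1 := if_pos h

theorem ind_neg {q : Prop} (h : ¬ q) : ind q = 0 := if_neg h

theorem ind_eq_ite (q : Prop) [Decidable q] : ind q = if q then 1 else 0 := by
  by_cases h : q
  · rw [ind_pos h, if_pos h]
  · rw [ind_neg h, if_neg h]

/-- the Gram matrix of the linear characters. -/
noncomputable def kappa (P : Sylow p G) [Fintype (normalizer ((P : Subgroup G) : Set G))]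
    (ψ ψ' : ↥(P : Subgroup G) →* ℂˣ) : ℂ :=
  (Nat.card (centralizer ((P : Subgroup G) : Set G)) : ℂ)⁻¹ *
    ∑ n : normalizer ((P : Subgroup G) : Set G), ind (twHom P n ψ = ψ')

theorem kappa_of_ne_one (h : BL p M P) [Fintype (↥(P : Subgroup G) →* ℂˣ)]
    (ψ ψ' : ↥(P : Subgroup G) →* ℂˣ) (hψ : ψ ≠ 1) :
    kappa P ψ ψ' = ind (Rel P ψ ψ') := by
  classical
  have hC : (Nat.card (centralizer ((P : Subgroup G) : Set G)) : ℂ) ≠ 0 := by
    exact_mod_cast Nat.card_pos.ne'
  have := sum_perm (twHom P) ψ (fun b => ind (b = ψ'))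
  unfold kappa
  rw [this, card_stab_char h ψ hψ, inv_mul_cancel_left₀ hC]
  by_cases hr : Rel P ψ ψ'
  · rw [ind_pos hr, Finset.sum_eq_single ψ']
    · rw [if_pos (show ∃ n, twHom P n ψ = ψ' from hr), ind_pos rfl]
    · intro b _ hb
      rw [ind_neg hb]; simp
    · intro h'; exact absurd (Finset.mem_univ _) h'
  · rw [ind_neg hr]
    apply Finset.sum_eq_zero
    intro b _
    by_cases hb : b = ψ'
    · subst hb
      rw [if_neg (show ¬ ∃ n, twHom P n ψ = b from hr)]
    · rw [ind_neg hb]; simp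

theorem kappa_one (m : ℕ)
    (hm : (centralizer ((P : Subgroup G) : Set G)).relIndex
      (normalizer ((P : Subgroup G) : Set G)) = m) (ψ' : ↥(P : Subgroup G) →* ℂˣ) :
    kappa P 1 ψ' = (m : ℂ) * ind (ψ' = 1) := by
  have hC : (Nat.card (centralizer ((P : Subgroup G) : Set G)) : ℂ) ≠ 0 := by
    exact_mod_cast Nat.card_pos.ne'
  unfold kappa
  simp only [twHom_one]
  by_cases h1 : ψ' = 1
  · subst h1
    simp only [ind_pos, Finset.sum_const, Finset.card_univ, nsmul_eq_mul, mul_one]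
    rw [← Nat.card_eq_fintype_card, card_normalizer m hm]
    push_cast
    field_simp
  · have : ¬ (1 : ↥(P : Subgroup G) →* ℂˣ) = ψ' := fun h' => h1 h'.symm
    simp [ind_neg this, ind_neg h1]

/-- the multiplicity of `ψ` in the restriction of `χ`. -/
noncomputable def mu (χ : IrrCharacter G) (ψ : ↥(P : Subgroup G) →* ℂˣ) : ℂ :=
  classInner (fun x : ↥(P : Subgroup G) => (χ : G → ℂ) x) (fun x => ((ψ x : ℂˣ) : ℂ))

theorem classInner_sub_right (f g₁ g₂ : ↥(P : Subgroup G) → ℂ) :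
    classInner f (fun x => g₁ x - g₂ x) = classInner f g₁ - classInner f g₂ := by
  unfold classInner
  rw [← mul_sub, ← Finset.sum_sub_distrib]
  congr 1
  apply Finset.sum_congr rfl
  intro x _
  rw [map_sub]; ring

theorem classInner_sub_left (f₁ f₂ g : ↥(P : Subgroup G) → ℂ) :
    classInner (fun x => f₁ x - f₂ x) g = classInner f₁ g - classInner f₂ g := by
  unfold classInner
  rw [← mul_sub, ← Finset.sum_sub_distrib]
  congr 1
  apply Finset.sum_congr rfl
  intro x _
  ring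

open scoped Classical in
theorem classInner_tw (n : normalizer ((P : Subgroup G) : Set G))
    (ψ ψ' : ↥(P : Subgroup G) →* ℂˣ) :
    classInner (fun x => ((ψ' (actHom P n x) : ℂˣ) : ℂ)) (fun x => ((ψ x : ℂˣ) : ℂ))
      = ind (twHom P n ψ = ψ') := by
  have hP : (Nat.card ↥(P : Subgroup G) : ℂ) ≠ 0 := by exact_mod_cast Nat.card_pos.ne'
  unfold classInner
  have := orth_hom (ψ'.comp (actHom P n : ↥(P : Subgroup G) ≃* ↥(P : Subgroup G)).toMonoidHom) ψ
  have e : ∀ x, (ψ'.comp (actHom P n : ↥(P : Subgroup G) ≃* ↥(P : Subgroup G)).toMonoidHom) x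
      = ψ' (actHom P n x) := fun x => rfl
  simp only [e] at this
  rw [this]
  have e2 : (ψ'.comp (actHom P n : ↥(P : Subgroup G) ≃* ↥(P : Subgroup G)).toMonoidHom = ψ)
      ↔ twHom P n ψ = ψ' := by
    constructor
    · intro h
      rw [← h]
      ext x
      rw [twHom_apply]
      simp
    · intro h
      rw [← h]
      ext x
      show ((twHom P n ψ (actHom P n x) : ℂˣ) : ℂ) = _
      rw [twHom_act]
  by_cases h : twHom P n ψ = ψ'
  · rw [ind_pos h, if_pos (e2.mpr h)]
    field_simp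
  · rw [ind_neg h, if_neg (fun h' => h (e2.mp h'))]
    simp

open scoped Classical in
theorem gram_chars (h : BL p M P) (ψ₁ ψ₂ ψ₃ ψ₄ : ↥(P : Subgroup G) →* ℂˣ) :
    ∑ χ : IrrCharacter G, (if χ ∈ principalBlock M G then
      (mu χ ψ₁ - mu χ ψ₂) * conj (mu χ ψ₃ - mu χ ψ₄) else 0)
      = kappa P ψ₁ ψ₃ - kappa P ψ₁ ψ₄ - kappa P ψ₂ ψ₃ + kappa P ψ₂ ψ₄ := by
  have := gram h (fun x => ((ψ₁ x : ℂˣ) : ℂ) - ((ψ₂ x : ℂˣ) : ℂ))
    (fun x => ((ψ₃ x : ℂˣ) : ℂ) - ((ψ₄ x : ℂˣ) : ℂ)) (by simp)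
  simp only [classInner_sub_right, classInner_sub_left, classInner_tw] at this
  unfold mu kappa
  rw [this]
  simp only [Finset.sum_sub_distrib]
  ring

end stab

end Cfsg.Agent.Lib.Helper59BLTw
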