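import Mathlib
import Cfsg.Prelude.Def_Blocks
import Cfsg.Agent.Lib.Helper59BLTw
import Cfsg.Agent.Lib.Helper20Local

set_option autoImplicit false
set_option linter.unusedSectionVars false

namespace Cfsg.Agent.Lib.Helper59BLStruct

open Cfsg Subgroup
open Cfsg.Agent.Lib.Helper81Base Cfsg.Agent.Lib.Helper81BB
  Cfsg.Agent.Lib.Helper81Block Cfsg.Agent.Lib.Helper81Orth Cfsg.Agent.Lib.Helper81Subsec2
  Cfsg.Agent.Lib.Helper82Linear
  Cfsg.Agent.Lib.Helper59BLCoh Cfsg.Agent.Lib.Helper59BLDual Cfsg.Agent.Lib.Helper59BLGram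
  Cfsg.Agent.Lib.Helper59BLTw
open scoped ComplexConjugate

variable {G : Type*} [Group G] [Fintype G] {p : ℕ} [Fact p.Prime] {M : Ideal AlgInt}
  {P : Sylow p G} [Fintype ↥(P : Subgroup G)] [Fintype (normalizer ((P : Subgroup G) : Set G))]

theorem exists_nat_mu (χ : IrrCharacter G) (ψ : ↥(P : Subgroup G) →* ℂˣ) :
    ∃ k : ℕ, mu χ ψ = k :=
  Cfsg.Agent.Lib.Helper82Mult.exists_nat_classInner
    (Cfsg.Agent.Lib.Helper82Mult.isCharacter_restrict
      (Cfsg.Agent.Lib.Helper82Irr.irr_isCharacter χ) (P : Subgroup G))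
    (Cfsg.Agent.Lib.Helper82Irr.irr_isCharacter ⟨_, isIrrCharacter_of_hom ψ⟩)

/-- integer multiplicities. -/
noncomputable def muZ (χ : IrrCharacter G) (ψ : ↥(P : Subgroup G) →* ℂˣ) : ℤ :=
  ((exists_nat_mu χ ψ).choose : ℤ)

theorem mu_eq (χ : IrrCharacter G) (ψ : ↥(P : Subgroup G) →* ℂˣ) :
    mu χ ψ = (muZ χ ψ : ℂ) := by
  rw [(exists_nat_mu χ ψ).choose_spec]
  simp [muZ]

theorem mu_tw (χ : IrrCharacter G) (n : normalizer ((P : Subgroup G) : Set G))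
    (ψ : ↥(P : Subgroup G) →* ℂˣ) : mu χ (twHom P n ψ) = mu χ ψ := by
  unfold mu classInner
  congr 1
  rw [← Equiv.sum_comp (actHom P n).toEquiv]
  apply Finset.sum_congr rfl
  intro x _
  have e1 : ((actHom P n).toEquiv x) = actHom P n x := rfl
  rw [e1]
  beta_reduce
  rw [twHom_act, actHom_apply, irr_conj]

theorem muZ_rel (χ : IrrCharacter G) {ψ ψ' : ↥(P : Subgroup G) →* ℂˣ} (h : Rel P ψ ψ') :
    muZ χ ψ = muZ χ ψ' := by
  obtain ⟨n, rfl⟩ := h
  have := mu_tw χ n ψ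
  rw [mu_eq, mu_eq] at this
  exact_mod_cast this.symm

theorem mu_irrOne (ψ : ↥(P : Subgroup G) →* ℂˣ) : mu (irrOne G) ψ = ind (ψ = 1) := by
  classical
  have hP : (Nat.card ↥(P : Subgroup G) : ℂ) ≠ 0 := by exact_mod_cast Nat.card_pos.ne'
  have := orth_hom (1 : ↥(P : Subgroup G) →* ℂˣ) ψ
  unfold mu classInner
  simp only [MonoidHom.one_apply, Units.val_one] at this
  have e : ∀ x : ↥(P : Subgroup G), ((irrOne G : IrrCharacter G) : G → ℂ) x = 1 := fun x => rfl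
  simp only [e]
  rw [this]
  by_cases h : ψ = 1
  · rw [ind_pos h, if_pos h.symm]; field_simp
  · rw [ind_neg h, if_neg (fun h' => h h'.symm)]; simp

open scoped Classical in
theorem sum_mu_regular (h : BL p M P) (ψ₁ ψ₂ : ↥(P : Subgroup G) →* ℂˣ) (g : G)
    (hg : ¬ p ∣ orderOf g) :
    ∑ χ : IrrCharacter G, (if χ ∈ principalBlock M G then
      (mu χ ψ₁ - mu χ ψ₂) * conj ((χ : G → ℂ) g) else 0) = 0 := by
  have e1 : ∀ χ : IrrCharacter G, (if χ ∈ principalBlock M G then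
      (mu χ ψ₁ - mu χ ψ₂) * conj ((χ : G → ℂ) g) else 0)
      = (Nat.card ↥(P : Subgroup G) : ℂ)⁻¹ * ∑ x : ↥(P : Subgroup G),
        conj (((ψ₁ x : ℂˣ) : ℂ) - ((ψ₂ x : ℂˣ) : ℂ)) *
          conj (if χ ∈ principalBlock M G then (χ : G → ℂ) g * conj ((χ : G → ℂ) x) else 0) := by
    intro χ
    split_ifs with hχ
    · unfold mu classInner
      rw [← mul_sub, ← Finset.sum_sub_distrib, mul_assoc, Finset.sum_mul]
      congr 1
      apply Finset.sum_congr rfl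
      intro x _
      simp only [map_sub, map_mul, Complex.conj_conj]
      ring
    · simp
  simp only [e1]
  rw [← Finset.mul_sum, Finset.sum_comm]
  simp only [← Finset.mul_sum, ← map_sum]
  rw [Finset.sum_eq_zero, mul_zero]
  intro x _
  by_cases hx : x = 1
  · subst hx; simp
  · have hx1 : (x : G) ≠ 1 := fun h1 => hx (Subtype.ext h1)
    have hpx : p ∣ orderOf (x : G) := by
      obtain ⟨k, hk⟩ := (isPPart_self x).choose_spec.2.2.1
      rw [hk]
      rcases k with _ | k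
      · rw [pow_zero, orderOf_eq_one_iff] at hk
        exact absurd hk hx1
      · exact dvd_pow_self p (Nat.succ_ne_zero k)
    rw [weak_block_orth h.hM isPBlock_principalBlock hg hpx]
    simp

theorem value_eq (h : BL p M P) [Fintype (↥(P : Subgroup G) →* ℂˣ)] (χ : IrrCharacter G)
    (y : ↥(P : Subgroup G)) :
    (χ : G → ℂ) y = ∑ ψ : ↥(P : Subgroup G) →* ℂˣ, mu χ ψ * ((ψ y : ℂˣ) : ℂ) :=
  (fourier h.hab (fun x : ↥(P : Subgroup G) => (χ : G → ℂ) x) y).symm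

open scoped Classical in
theorem gramZ (h : BL p M P) (ψ₁ ψ₂ ψ₃ ψ₄ : ↥(P : Subgroup G) →* ℂˣ) :
    ((∑ χ : IrrCharacter G, (if χ ∈ principalBlock M G then
      (muZ χ ψ₁ - muZ χ ψ₂) * (muZ χ ψ₃ - muZ χ ψ₄) else 0) : ℤ) : ℂ)
      = kappa P ψ₁ ψ₃ - kappa P ψ₁ ψ₄ - kappa P ψ₂ ψ₃ + kappa P ψ₂ ψ₄ := by
  rw [← gram_chars h]
  push_cast
  apply Finset.sum_congr rfl
  intro χ _
  split_ifs
  · simp only [mu_eq, map_sub, map_intCast]
  · rfl

theorem card_orbit (h : BL p M P) [Fintype (↥(P : Subgroup G) →* ℂˣ)] (m : ℕ)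
    (hm : (centralizer ((P : Subgroup G) : Set G)).relIndex
      (normalizer ((P : Subgroup G) : Set G)) = m)
    (ψ : ↥(P : Subgroup G) →* ℂˣ) (hψ : ψ ≠ 1) :
    Nat.card {ψ' : ↥(P : Subgroup G) →* ℂˣ // Rel P ψ ψ'} = m := by
  classical
  have hC : (Nat.card (centralizer ((P : Subgroup G) : Set G)) : ℂ) ≠ 0 := by
    exact_mod_cast Nat.card_pos.ne'
  have h1 : ∑ ψ' : ↥(P : Subgroup G) →* ℂˣ, kappa P ψ ψ' = m := by
    unfold kappa
    rw [← Finset.mul_sum, Finset.sum_comm]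
    have : ∀ n : normalizer ((P : Subgroup G) : Set G),
        ∑ ψ' : ↥(P : Subgroup G) →* ℂˣ, ind (twHom P n ψ = ψ') = 1 := by
      intro n
      rw [Finset.sum_eq_single (twHom P n ψ)]
      · exact ind_pos rfl
      · intro b _ hb
        exact ind_neg (fun h' => hb h'.symm)
      · intro h'; exact absurd (Finset.mem_univ _) h'
    simp only [this, Finset.sum_const, Finset.card_univ, nsmul_eq_mul, mul_one]
    rw [← Nat.card_eq_fintype_card, card_normalizer m hm]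
    push_cast
    field_simp
  simp only [kappa_of_ne_one h ψ _ hψ, ind_eq_ite] at h1
  rw [Finset.sum_boole] at h1
  rw [Nat.card_eq_fintype_card, Fintype.card_subtype]
  exact_mod_cast h1


open scoped Classical in
/-- the output of the Brauer--Leonard analysis. -/
structure BLData (M : Ideal AlgInt) (P : Sylow p G) [Fintype ↥(P : Subgroup G)]
    [Fintype (↥(P : Subgroup G) →* ℂˣ)] (m : ℕ) (δ d : ℤ)
    (ζ : (↥(P : Subgroup G) →* ℂˣ) → IrrCharacter G) (A : IrrCharacter G → ℤ) : Prop where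
  hδ : δ = 1 ∨ δ = -1
  hζ : ∀ ψ ψ', ψ ≠ 1 → ψ' ≠ 1 → (ζ ψ = ζ ψ' ↔ Rel P ψ ψ')
  hmem : ∀ ψ, ψ ≠ 1 → ζ ψ ∈ principalBlock M G
  hd : ∀ ψ, ψ ≠ 1 → A (ζ ψ) = d
  hout : ∀ χ, χ ∉ principalBlock M G → A χ = 0
  hone : ∀ ψ, ψ ≠ 1 → ζ ψ ≠ irrOne G
  hAone : A (irrOne G) = 1
  hnorm : ∑ χ, A χ ^ 2 = m + 2 * δ * d
  hval : ∀ χ ∈ principalBlock M G, ∀ y : ↥(P : Subgroup G), y ≠ 1 →
    (χ : G → ℂ) y = (A χ : ℂ) + (δ : ℂ) *
      ∑ ψ : ↥(P : Subgroup G) →* ℂˣ, (if ψ ≠ 1 ∧ ζ ψ = χ then ((ψ y : ℂˣ) : ℂ) else 0)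
  hreg : ∀ ψ, ψ ≠ 1 → ∀ g : G, ¬ p ∣ orderOf g →
    ∑ χ : IrrCharacter G, (A χ : ℂ) * (χ : G → ℂ) g = (δ : ℂ) * (ζ ψ : G → ℂ) g

theorem exists_ne_one (h : BL p M P) (hP : 1 < Nat.card ↥(P : Subgroup G)) :
    ∃ ψ : ↥(P : Subgroup G) →* ℂˣ, ψ ≠ 1 := by
  have : Nontrivial ↥(P : Subgroup G) := Finite.one_lt_card_iff_nontrivial.mp hP
  obtain ⟨a, ha⟩ := exists_ne (1 : ↥(P : Subgroup G))
  obtain ⟨ψ, hψ⟩ := exists_hom_ne_one h.hab ha
  exact ⟨ψ, fun h' => hψ (by rw [h']; rfl)⟩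

theorem exists_not_rel (h : BL p M P) [Fintype (↥(P : Subgroup G) →* ℂˣ)] (m : ℕ)
    (hm : (centralizer ((P : Subgroup G) : Set G)).relIndex
      (normalizer ((P : Subgroup G) : Set G)) = m) (hm2 : m + 1 < Nat.card ↥(P : Subgroup G))
    (ψ : ↥(P : Subgroup G) →* ℂˣ) (hψ : ψ ≠ 1) :
    ∃ ψ' : ↥(P : Subgroup G) →* ℂˣ, ψ' ≠ 1 ∧ ¬ Rel P ψ ψ' := by
  classical
  by_contra hcon
  push Not at hcon
  have h1 := card_orbit h m hm ψ hψ
  have h2 : Nat.card {ψ' : ↥(P : Subgroup G) →* ℂˣ // Rel P ψ ψ'}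
      = Nat.card {ψ' : ↥(P : Subgroup G) →* ℂˣ // ψ' ≠ 1} := by
    apply Nat.card_congr
    exact Equiv.subtypeEquivRight (fun ψ' => ⟨fun hr => ne_one_of_rel P hr hψ, hcon ψ'⟩)
  have h3 : Nat.card {ψ' : ↥(P : Subgroup G) →* ℂˣ // ψ' ≠ 1} + 1
      = Nat.card ↥(P : Subgroup G) := by
    rw [← card_hom _ h.hab, Nat.card_eq_fintype_card, Nat.card_eq_fintype_card,
      Fintype.card_subtype_compl, Fintype.card_subtype_eq]
    have : 0 < Fintype.card (↥(P : Subgroup G) →* ℂˣ) := Fintype.card_pos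
    omega
  omega

open scoped Classical in
theorem exists_data (h : BL p M P) [Fintype (↥(P : Subgroup G) →* ℂˣ)] (m : ℕ)
    (hm : (centralizer ((P : Subgroup G) : Set G)).relIndex
      (normalizer ((P : Subgroup G) : Set G)) = m) (hm2 : m + 1 < Nat.card ↥(P : Subgroup G)) :
    ∃ (δ d : ℤ) (ζ : (↥(P : Subgroup G) →* ℂˣ) → IrrCharacter G) (A : IrrCharacter G → ℤ),
      BLData M P m δ d ζ A := by
  have := h.hM.2.1.isPrime
  set Λ := {ψ : ↥(P : Subgroup G) →* ℂˣ // ψ ≠ 1} with hΛ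
  set R : Λ → Λ → Prop := fun l l' => Rel P l.1 l'.1 with hR
  have hRe : Equivalence R :=
    ⟨fun l => (rel_equiv P).refl _, fun h' => (rel_equiv P).symm h',
      fun h' h'' => (rel_equiv P).trans h' h''⟩
  set D : Λ → IrrCharacter G → ℤ := fun l χ =>
    if χ ∈ principalBlock M G then muZ χ (1 : ↥(P : Subgroup G) →* ℂˣ) - muZ χ l.1 else 0 with hD
  have kap : ∀ l l' : Λ, kappa P l.1 l'.1 = ind (R l l') := fun l l' =>
    kappa_of_ne_one h l.1 l'.1 l.2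
  have kap1 : ∀ l : Λ, kappa P l.1 1 = 0 := fun l => by
    rw [kappa_of_ne_one h l.1 1 l.2, ind_neg]
    exact fun h' => l.2 ((rel_one_iff P _).mp h')
  have kap2 : ∀ l : Λ, kappa P 1 l.1 = 0 := fun l => by
    rw [kappa_one m hm, ind_neg l.2, mul_zero]
  have kap3 : kappa P (1 : ↥(P : Subgroup G) →* ℂˣ) 1 = m := by
    rw [kappa_one m hm, ind_pos rfl, mul_one]
  have hdiff : ∀ (l l' : Λ) (χ : IrrCharacter G), D l χ - D l' χ
      = if χ ∈ principalBlock M G then muZ χ l'.1 - muZ χ l.1 else 0 := by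
    intro l l' χ
    simp only [hD]
    split_ifs
    · ring
    · ring
  have hrel : ∀ l l', R l l' → D l = D l' := by
    intro l l' hl
    funext χ
    simp only [hD]
    rw [muZ_rel χ hl]
  have h2 : ∀ l l', ¬ R l l' → ∑ χ, (D l χ - D l' χ) ^ 2 = 2 := by
    intro l l' hl
    have := gramZ h l'.1 l.1 l'.1 l.1
    rw [kap, kap, kap, kap, ind_pos (hRe.refl _), ind_pos (hRe.refl _), ind_neg hl,
      ind_neg (fun h' => hl (hRe.symm h'))] at this
    have e : ∑ χ, (D l χ - D l' χ) ^ 2 = ∑ χ : IrrCharacter G, (if χ ∈ principalBlock M G then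
      (muZ χ l'.1 - muZ χ l.1) * (muZ χ l'.1 - muZ χ l.1) else 0) := by
      apply Finset.sum_congr rfl
      intro χ _
      rw [hdiff]
      split_ifs
      · ring
      · ring
    rw [e]
    have h3 : ((∑ χ : IrrCharacter G, (if χ ∈ principalBlock M G then
      (muZ χ l'.1 - muZ χ l.1) * (muZ χ l'.1 - muZ χ l.1) else 0) : ℤ) : ℂ) = ((2 : ℤ) : ℂ) := by
      rw [this]; norm_num
    exact_mod_cast h3
  have h1 : ∀ l l' l'', ¬ R l l' → ¬ R l l'' → ¬ R l' l'' →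
      ∑ χ, (D l χ - D l' χ) * (D l χ - D l'' χ) = 1 := by
    intro l l' l'' hl hl' hl''
    have := gramZ h l'.1 l.1 l''.1 l.1
    rw [kap, kap, kap, kap, ind_pos (hRe.refl _), ind_neg hl'', ind_neg hl',
      ind_neg (fun h' => hl (hRe.symm h'))] at this
    have e : ∑ χ, (D l χ - D l' χ) * (D l χ - D l'' χ)
        = ∑ χ : IrrCharacter G, (if χ ∈ principalBlock M G then
      (muZ χ l'.1 - muZ χ l.1) * (muZ χ l''.1 - muZ χ l.1) else 0) := by
      apply Finset.sum_congr rfl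
      intro χ _
      rw [hdiff, hdiff]
      split_ifs
      · ring
      · ring
    rw [e]
    have h3 : ((∑ χ : IrrCharacter G, (if χ ∈ principalBlock M G then
      (muZ χ l'.1 - muZ χ l.1) * (muZ χ l''.1 - muZ χ l.1) else 0) : ℤ) : ℂ) = ((1 : ℤ) : ℂ) := by
      rw [this]; norm_num
    exact_mod_cast h3
  have hn : ∀ l, ∑ χ, D l χ ^ 2 = (m : ℤ) + 1 := by
    intro l
    have := gramZ h 1 l.1 1 l.1
    rw [kap, kap1, kap2, kap3, ind_pos (hRe.refl _)] at this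
    have e : ∑ χ, D l χ ^ 2 = ∑ χ : IrrCharacter G, (if χ ∈ principalBlock M G then
      (muZ χ (1 : ↥(P : Subgroup G) →* ℂˣ) - muZ χ l.1) *
        (muZ χ (1 : ↥(P : Subgroup G) →* ℂˣ) - muZ χ l.1) else 0) := by
      apply Finset.sum_congr rfl
      intro χ _
      simp only [hD]
      split_ifs
      · ring
      · ring
    rw [e]
    have h3 : ((∑ χ : IrrCharacter G, (if χ ∈ principalBlock M G then
      (muZ χ (1 : ↥(P : Subgroup G) →* ℂˣ) - muZ χ l.1) *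
        (muZ χ (1 : ↥(P : Subgroup G) →* ℂˣ) - muZ χ l.1) else 0) : ℤ) : ℂ)
        = (((m : ℤ) + 1 : ℤ) : ℂ) := by
      rw [this]; push_cast; ring
    exact_mod_cast h3
  -- vanishing on regular elements
  have hregD : ∀ (l : Λ) (g : G), ¬ p ∣ orderOf g →
      ∑ χ : IrrCharacter G, (D l χ : ℂ) * conj ((χ : G → ℂ) g) = 0 := by
    intro l g hg
    rw [← sum_mu_regular h 1 l.1 g hg]
    apply Finset.sum_congr rfl
    intro χ _
    simp only [hD]
    split_ifs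
    · rw [mu_eq, mu_eq]; push_cast; ring
    · simp
  have h0 : ∀ l l', ∑ χ, (D l χ - D l' χ) * (charDegree (χ : G → ℂ) : ℤ) = 0 := by
    intro l l'
    have hp1 : ¬ p ∣ orderOf (1 : G) := by
      rw [orderOf_one]; exact (Fact.out : p.Prime).one_lt.ne' ∘ Nat.dvd_one.mp
    have a1 := hregD l 1 hp1
    have a2 := hregD l' 1 hp1
    have h3 : ((∑ χ, (D l χ - D l' χ) * (charDegree (χ : G → ℂ) : ℤ) : ℤ) : ℂ) = ((0 : ℤ) : ℂ) := by
      push_cast
      have e : ∑ χ : IrrCharacter G, ((D l χ : ℂ) - (D l' χ : ℂ)) * (charDegree (χ : G → ℂ) : ℂ)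
          = ∑ χ : IrrCharacter G, (D l χ : ℂ) * conj ((χ : G → ℂ) 1)
            - ∑ χ : IrrCharacter G, (D l' χ : ℂ) * conj ((χ : G → ℂ) 1) := by
        rw [← Finset.sum_sub_distrib]
        apply Finset.sum_congr rfl
        intro χ _
        rw [← charDegree_eq, Complex.conj_natCast]
        ring
      rw [e, a1, a2, sub_self]
    exact_mod_cast h3
  obtain ⟨ψ₁, hψ₁⟩ := exists_ne_one h (by omega)
  obtain ⟨ψ₂, hψ₂, h12⟩ := exists_not_rel h m hm hm2 ψ₁ hψ₁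
  obtain ⟨δ, ζ, A, hδ, hDA, hζ⟩ := coherence R hRe D (fun χ => (charDegree (χ : G → ℂ) : ℤ))
    (fun χ => by exact_mod_cast charDegree_pos χ) hrel h2 h1 h0 ⟨ψ₁, hψ₁⟩ ⟨ψ₂, hψ₂⟩ h12
  have hnr := norm_rel δ hδ ζ A D hDA m hn
  have hδ0 : δ ≠ 0 := by rcases hδ with h' | h' <;> rw [h'] <;> norm_num
  -- another unrelated element
  have hother : ∀ l : Λ, ∃ l' : Λ, ¬ R l l' := by
    intro l
    obtain ⟨ψ', hψ', hr⟩ := exists_not_rel h m hm hm2 l.1 l.2
    exact ⟨⟨ψ', hψ'⟩, hr⟩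
  have hmem : ∀ l : Λ, ζ l ∈ principalBlock M G := by
    intro l
    by_contra hc
    obtain ⟨l', hl'⟩ := hother l
    have a1 := hDA l (ζ l)
    have a2 := hDA l' (ζ l)
    have hne : ζ l ≠ ζ l' := fun h' => hl' ((hζ l l').mp h')
    simp only [hD, if_neg hc, if_pos, if_neg hne] at a1 a2
    apply hδ0
    linarith
  have hout : ∀ χ, χ ∉ principalBlock M G → A χ = 0 := by
    intro χ hχ
    have a1 := hDA ⟨ψ₁, hψ₁⟩ χ
    have hne : χ ≠ ζ ⟨ψ₁, hψ₁⟩ := fun h' => hχ (h' ▸ hmem _)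
    simp only [hD, if_neg hχ, if_neg hne] at a1
    linarith
  have hD1 : ∀ l : Λ, D l (irrOne G) = 1 := by
    intro l
    have hmem1 : irrOne G ∈ principalBlock M G := sameBlock_refl _
    simp only [hD, if_pos hmem1]
    have b1 := mu_irrOne (P := P) 1
    have b2 := mu_irrOne (P := P) l.1
    rw [ind_pos rfl, mu_eq] at b1
    rw [ind_neg l.2, mu_eq] at b2
    have c1 : muZ (irrOne G) (1 : ↥(P : Subgroup G) →* ℂˣ) = 1 := by exact_mod_cast b1
    have c2 : muZ (irrOne G) l.1 = 0 := by exact_mod_cast b2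
    rw [c1, c2]; ring
  have hone : ∀ l : Λ, ζ l ≠ irrOne G := by
    intro l hl
    obtain ⟨l', hl'⟩ := hother l
    have a1 := hDA l (irrOne G)
    have a2 := hDA l' (irrOne G)
    have hne : irrOne G ≠ ζ l' := fun h' => hl' ((hζ l l').mp (hl.trans h'))
    rw [hD1, if_pos hl.symm] at a1
    rw [hD1, if_neg hne] at a2
    apply hδ0
    linarith
  have hAone : A (irrOne G) = 1 := by
    have a1 := hDA ⟨ψ₁, hψ₁⟩ (irrOne G)
    rw [hD1, if_neg (hone _).symm] at a1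
    linarith
  set d := A (ζ ⟨ψ₁, hψ₁⟩) with hd
  have hdc : ∀ l : Λ, A (ζ l) = d := by
    intro l
    have a1 := hnr l
    have a2 := hnr ⟨ψ₁, hψ₁⟩
    rw [a1] at a2
    have : 2 * δ * (A (ζ l) - d) = 0 := by rw [hd]; linarith
    rcases mul_eq_zero.mp this with h' | h'
    · exfalso; apply hδ0; linarith
    · linarith
  refine ⟨δ, d, fun ψ => if hψ : ψ ≠ 1 then ζ ⟨ψ, hψ⟩ else irrOne G, A, hδ, ?_, ?_, ?_, hout, ?_,
    hAone, ?_, ?_, ?_⟩
  · intro ψ ψ' hψ hψ'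
    simp only [dif_pos hψ, dif_pos hψ']
    exact hζ ⟨ψ, hψ⟩ ⟨ψ', hψ'⟩
  · intro ψ hψ
    simp only [dif_pos hψ]
    exact hmem _
  · intro ψ hψ
    simp only [dif_pos hψ]
    exact hdc _
  · intro ψ hψ
    simp only [dif_pos hψ]
    exact hone _
  · exact hnr ⟨ψ₁, hψ₁⟩
  · intro χ hχ y hy
    rw [value_eq h χ y]
    have e : ∀ ψ : ↥(P : Subgroup G) →* ℂˣ, mu χ ψ * ((ψ y : ℂˣ) : ℂ)
        = ((muZ χ (1 : ↥(P : Subgroup G) →* ℂˣ) : ℂ) - A χ) * ((ψ y : ℂˣ) : ℂ)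
          + (if ψ = 1 then (A χ : ℂ) else 0)
          + (δ : ℂ) * (if ψ ≠ 1 ∧ (if hψ : ψ ≠ 1 then ζ ⟨ψ, hψ⟩ else irrOne G) = χ
              then ((ψ y : ℂˣ) : ℂ) else 0) := by
      intro ψ
      by_cases hψ : ψ = 1
      · subst hψ
        rw [if_pos rfl, if_neg (fun h' => h'.1 rfl), mu_eq]
        simp
      · rw [if_neg hψ]
        have a1 := hDA ⟨ψ, hψ⟩ χ
        simp only [hD, if_pos hχ] at a1
        have a2 : (muZ χ ψ : ℂ) = (muZ χ (1 : ↥(P : Subgroup G) →* ℂˣ) : ℂ) - A χ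
            + δ * (if χ = ζ ⟨ψ, hψ⟩ then 1 else 0) := by
          have : muZ χ ψ = muZ χ (1 : ↥(P : Subgroup G) →* ℂˣ) - A χ
            + δ * (if χ = ζ ⟨ψ, hψ⟩ then 1 else 0) := by linarith
          rw [this]; push_cast; rfl
        rw [mu_eq, a2]
        simp only [dif_pos hψ]
        by_cases hc : χ = ζ ⟨ψ, hψ⟩
        · rw [if_pos hc, if_pos ⟨hψ, hc.symm⟩]; ring
        · rw [if_neg hc, if_neg (fun h' => hc h'.2.symm)]; ring
    simp only [e, Finset.sum_add_distrib, ← Finset.mul_sum]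
    rw [sum_dual_eq_zero h.hab hy, Finset.sum_ite_eq' Finset.univ, if_pos (Finset.mem_univ _)]
    ring
  · intro ψ hψ g hg
    simp only [dif_pos hψ]
    have a1 := hregD ⟨ψ, hψ⟩ g hg
    simp only [hDA] at a1
    have a2 : ∑ χ : IrrCharacter G, (A χ : ℂ) * conj ((χ : G → ℂ) g)
        = (δ : ℂ) * conj ((ζ ⟨ψ, hψ⟩ : G → ℂ) g) := by
      have e : ∀ χ : IrrCharacter G, (((A χ - δ * (if χ = ζ ⟨ψ, hψ⟩ then 1 else 0) : ℤ)) : ℂ)
          * conj ((χ : G → ℂ) g) = (A χ : ℂ) * conj ((χ : G → ℂ) g)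
            - (if χ = ζ ⟨ψ, hψ⟩ then (δ : ℂ) * conj ((χ : G → ℂ) g) else 0) := by
        intro χ
        split_ifs
        · push_cast; ring
        · push_cast; ring
      simp only [e, Finset.sum_sub_distrib] at a1
      rw [Finset.sum_ite_eq' Finset.univ, if_pos (Finset.mem_univ _)] at a1
      exact sub_eq_zero.mp a1
    have a3 := congrArg conj a2
    simp only [map_sum, map_mul, Complex.conj_conj, map_intCast] at a3
    exact a3

end Cfsg.Agent.Lib.Helper59BLStruct
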