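import Mathlib
import Cfsg.Prelude.Def_Blocks
import Cfsg.Prelude.Def_Local
import Cfsg.Agent.Lib.Helper59BLStruct
import Cfsg.Agent.S0942

set_option autoImplicit false
set_option linter.unusedSectionVars false

namespace Cfsg.Agent.Lib.Helper59BLSec

open Cfsg Subgroup
open Cfsg.Agent.Lib.Helper81Base
  Cfsg.Agent.Lib.Helper59BLGram Cfsg.Agent.Lib.Helper59BLTw Cfsg.Agent.Lib.Helper59BLStruct
open scoped ComplexConjugate

theorem mem_of_index_pow {p : ℕ} [Fact p.Prime] {H : Type*} [Group H] [Finite H] (K : Subgroup H)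
    [K.Normal] (k : ℕ) (hK : K.index = p ^ k) (v : H) (hv : ¬ p ∣ orderOf v) : v ∈ K := by
  rw [← QuotientGroup.eq_one_iff]
  have h1 : orderOf (v : H ⧸ K) ∣ orderOf v := orderOf_map_dvd (QuotientGroup.mk' K) v
  have h2 : orderOf (v : H ⧸ K) ∣ p ^ k := by
    rw [← hK, Subgroup.index_eq_card]; exact orderOf_dvd_natCard _
  have h3 : (orderOf v).Coprime (p ^ k) :=
    Nat.Coprime.pow_right _ ((Nat.Prime.coprime_iff_not_dvd Fact.out).mpr hv).symm
  exact orderOf_eq_one_iff.mp (Nat.eq_one_of_dvd_coprimes h3 h1 h2)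

variable {G : Type*} [Group G] [Fintype G] {p : ℕ} [Fact p.Prime] {M : Ideal AlgInt}
  {P : Sylow p G}

/-- characters of the principal block are constant on the `p`-sections of elements of `P`. -/
theorem section_const (h : BL p M P) (χ : IrrCharacter G) (hχ : χ ∈ principalBlock M G)
    (z y : G) (hzy : IsPPart p z y) (hy : y ∈ (P : Subgroup G)) (hy1 : y ≠ 1) :
    (χ : G → ℂ) z = (χ : G → ℂ) y := by
  obtain ⟨v, hv1, hv2, hv3, hv4⟩ := hzy
  rw [← hv1]
  apply Cfsg.Agent.S0942.result p M h.hM y hv3 v _ χ hχ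
  have hidx := index_core_of_frob P h.hab y hy (h.hfrob y hy hy1)
  obtain ⟨k', hk'⟩ := IsPGroup.iff_card.mp P.isPGroup'
  have hvC : v ∈ centralizer ({y} : Set G) := by
    rw [mem_centralizer_singleton_iff]
    exact hv2.eq.symm
  have := Cfsg.Agent.Lib.Helper1Fitting.pPrimeCore_normal (G := centralizer ({y} : Set G)) p
  have hmem := mem_of_index_pow (p := p) (pPrimeCore p (centralizer ({y} : Set G))) k'
    (by rw [hidx]; exact hk') ⟨v, hvC⟩ (by rw [Subgroup.orderOf_mk]; exact hv4)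
  exact ⟨⟨v, hvC⟩, hmem, rfl⟩

theorem ne_zero_of_mem (h : BL p M P) (χ : IrrCharacter G) (hχ : χ ∈ principalBlock M G)
    (y : G) (hy : y ∈ (P : Subgroup G)) : (χ : G → ℂ) y ≠ 0 := by
  intro h0
  have h1 : MemLocalIdeal M (centralChar (fun _ : G => (1 : ℂ)) y - centralChar (χ : G → ℂ) y) :=
    hχ y
  unfold centralChar at h1
  rw [h0] at h1
  simp only [mul_one, div_one, mul_zero, zero_div, sub_zero] at h1
  have h2 := (Cfsg.Agent.Lib.Helper20Local.memLocalIdeal_natCast_iff h.hM _).mp h1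
  have hPH : (P : Subgroup G) ≤ centralizer ({y} : Set G) := by
    intro x hx
    rw [mem_centralizer_singleton_iff]
    exact congrArg Subtype.val (h.hab.is_comm.comm ⟨x, hx⟩ ⟨y, hy⟩)
  exact P.not_dvd_index (h2.trans (Subgroup.index_dvd_of_le hPH))

end Cfsg.Agent.Lib.Helper59BLSec
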