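import Mathlib
import Cfsg.Prelude.Def_Blocks
import Cfsg.Agent.Lib.Helper59BLSec

set_option autoImplicit false
set_option linter.unusedSectionVars false

namespace Cfsg.Agent.Lib.Helper59BLFin

open Cfsg Subgroup
open Cfsg.Agent.Lib.Helper81Base Cfsg.Agent.Lib.Helper81Block Cfsg.Agent.Lib.Helper82Linear
  Cfsg.Agent.Lib.Helper59BLDual
  Cfsg.Agent.Lib.Helper59BLGram Cfsg.Agent.Lib.Helper59BLTw Cfsg.Agent.Lib.Helper59BLStruct
  Cfsg.Agent.Lib.Helper59BLSec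
open scoped ComplexConjugate

theorem finsum_mem_fintype {α β : Type*} [Fintype α] [AddCommMonoid β] (S : Set α)
    [DecidablePred (· ∈ S)] (f : α → β) :
    ∑ᶠ a ∈ S, f a = ∑ a, if a ∈ S then f a else 0 := by
  rw [finsum_mem_def, finsum_eq_sum_of_fintype]
  apply Finset.sum_congr rfl
  intro χ _
  simp [Set.indicator_apply]

variable {G : Type*} [Group G] [Fintype G] {p : ℕ} [Fact p.Prime] {M : Ideal AlgInt}
  {P : Sylow p G} [Fintype ↥(P : Subgroup G)] [Fintype (normalizer ((P : Subgroup G) : Set G))]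
  [Fintype (↥(P : Subgroup G) →* ℂˣ)]

/-- the exceptional characters. -/
def Yset (ζ : (↥(P : Subgroup G) →* ℂˣ) → IrrCharacter G) : Set (IrrCharacter G) :=
  {χ | ∃ ψ, ψ ≠ 1 ∧ ζ ψ = χ}

/-- the non-exceptional characters. -/
def Xset (M : Ideal AlgInt) (ζ : (↥(P : Subgroup G) →* ℂˣ) → IrrCharacter G) :
    Set (IrrCharacter G) :=
  {χ | χ ∈ principalBlock M G ∧ χ ∉ Yset ζ}

variable {m : ℕ} {δ d : ℤ} {ζ : (↥(P : Subgroup G) →* ℂˣ) → IrrCharacter G}
  {A : IrrCharacter G → ℤ}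

theorem Yset_sub (D : BLData M P m δ d ζ A) : Yset ζ ⊆ principalBlock M G := by
  rintro χ ⟨ψ, hψ, rfl⟩
  exact D.hmem ψ hψ

theorem union_eq (D : BLData M P m δ d ζ A) : principalBlock M G = Xset M ζ ∪ Yset ζ := by
  ext χ
  constructor
  · intro h
    by_cases hY : χ ∈ Yset ζ
    · exact Or.inr hY
    · exact Or.inl ⟨h, hY⟩
  · rintro (h | h)
    · exact h.1
    · exact Yset_sub D h

theorem disjoint_XY : Disjoint (Xset M ζ) (Yset ζ) := by
  rw [Set.disjoint_left]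
  intro χ h1 h2
  exact h1.2 h2

theorem one_mem_X (h : BL p M P) (D : BLData M P m δ d ζ A) : irrOne G ∈ Xset M ζ := by
  have := h.hM.2.1.isPrime
  refine ⟨sameBlock_refl _, ?_⟩
  rintro ⟨ψ, hψ, h1⟩
  exact D.hone ψ hψ h1

theorem A_of_mem_Y (D : BLData M P m δ d ζ A) {χ : IrrCharacter G} (hχ : χ ∈ Yset ζ) :
    A χ = d := by
  obtain ⟨ψ, hψ, rfl⟩ := hχ
  exact D.hd ψ hψ

theorem card_Y (h : BL p M P) (D : BLData M P m δ d ζ A)
    (hm : (centralizer ((P : Subgroup G) : Set G)).relIndex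
      (normalizer ((P : Subgroup G) : Set G)) = m) :
    Nat.card (Yset ζ) * m + 1 = Nat.card ↥(P : Subgroup G) := by
  classical
  set T : Finset (↥(P : Subgroup G) →* ℂˣ) := Finset.univ.filter (fun ψ => ψ ≠ 1) with hT
  have h1 : T.card + 1 = Nat.card ↥(P : Subgroup G) := by
    rw [← card_hom _ h.hab, Nat.card_eq_fintype_card, hT, Finset.filter_ne' Finset.univ,
      Finset.card_erase_of_mem (Finset.mem_univ _), Finset.card_univ]
    have : 0 < Fintype.card (↥(P : Subgroup G) →* ℂˣ) := Fintype.card_pos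
    omega
  have h2 : Nat.card (Yset ζ) = (T.image ζ).card := by
    rw [Nat.card_eq_fintype_card, ← Set.toFinset_card]
    congr 1
    ext χ
    simp only [Set.mem_toFinset, Finset.mem_image, hT, Finset.mem_filter, Finset.mem_univ,
      true_and]
    rfl
  have h3 := Finset.card_eq_sum_card_image ζ T
  have h4 : ∀ b ∈ T.image ζ, (T.filter (fun a => ζ a = b)).card = m := by
    intro b hb
    obtain ⟨ψ, hψ, rfl⟩ := Finset.mem_image.mp hb
    have hψ1 : ψ ≠ 1 := (Finset.mem_filter.mp hψ).2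
    rw [← card_orbit h m hm ψ hψ1, Nat.card_eq_fintype_card, Fintype.card_subtype]
    congr 1
    ext ψ'
    simp only [hT, Finset.mem_filter, Finset.mem_univ, true_and]
    constructor
    · rintro ⟨h5, h6⟩
      exact (D.hζ ψ ψ' hψ1 h5).mp h6.symm
    · intro h5
      have h6 := ne_one_of_rel P h5 hψ1
      exact ⟨h6, ((D.hζ ψ ψ' hψ1 h6).mpr h5).symm⟩
  rw [Finset.sum_congr rfl h4, Finset.sum_const, smul_eq_mul] at h3
  rw [h2, ← h3, h1]

theorem X_val (D : BLData M P m δ d ζ A) {χ : IrrCharacter G} (hχ : χ ∈ Xset M ζ)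
    (y : ↥(P : Subgroup G)) (hy : y ≠ 1) : (χ : G → ℂ) y = (A χ : ℂ) := by
  classical
  have := D.hval χ hχ.1 y hy
  rw [this, Finset.sum_eq_zero, mul_zero, add_zero]
  intro ψ _
  rw [if_neg]
  rintro ⟨h1, h2⟩
  exact hχ.2 ⟨ψ, h1, h2⟩

theorem X_ne_zero (h : BL p M P) (D : BLData M P m δ d ζ A) (hP : 1 < Nat.card ↥(P : Subgroup G))
    {χ : IrrCharacter G} (hχ : χ ∈ Xset M ζ) : A χ ≠ 0 := by
  have : Nontrivial ↥(P : Subgroup G) := Finite.one_lt_card_iff_nontrivial.mp hP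
  obtain ⟨y, hy⟩ := exists_ne (1 : ↥(P : Subgroup G))
  intro h0
  have h1 := X_val D hχ y hy
  rw [h0] at h1
  exact ne_zero_of_mem h χ hχ.1 y y.2 (by rw [h1]; simp)

open scoped Classical in
theorem Y_val (D : BLData M P m δ d ζ A) (ψ : ↥(P : Subgroup G) →* ℂˣ) (hψ : ψ ≠ 1)
    (y : ↥(P : Subgroup G)) (hy : y ≠ 1) :
    (ζ ψ : G → ℂ) y = (d : ℂ) + (δ : ℂ) *
      ∑ ψ' : ↥(P : Subgroup G) →* ℂˣ, (if Rel P ψ ψ' then ((ψ' y : ℂˣ) : ℂ) else 0) := by
  have := D.hval (ζ ψ) (D.hmem ψ hψ) y hy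
  rw [this, D.hd ψ hψ]
  congr 2
  apply Finset.sum_congr rfl
  intro ψ' _
  by_cases hr : Rel P ψ ψ'
  · have h6 := ne_one_of_rel P hr hψ
    rw [if_pos hr, if_pos ⟨h6, ((D.hζ ψ ψ' hψ h6).mpr hr).symm⟩]
  · rw [if_neg hr, if_neg]
    rintro ⟨h1, h2⟩
    exact hr ((D.hζ ψ ψ' hψ h1).mp h2.symm)

open scoped Classical in
/-- splitting a sum over all irreducible characters. -/
theorem sum_split {β : Type*} [AddCommMonoid β] (D : BLData M P m δ d ζ A)
    (f : IrrCharacter G → β) (hf : ∀ χ, χ ∉ principalBlock M G → f χ = 0) :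
    ∑ χ, f χ = (∑ χ, if χ ∈ Xset M ζ then f χ else 0) + ∑ χ, if χ ∈ Yset ζ then f χ else 0 := by
  rw [← Finset.sum_add_distrib]
  apply Finset.sum_congr rfl
  intro χ _
  by_cases hY : χ ∈ Yset ζ
  · rw [if_pos hY, if_neg (fun h' : χ ∈ Xset M ζ => h'.2 hY), zero_add]
  · rw [if_neg hY, add_zero]
    by_cases hB : χ ∈ principalBlock M G
    · rw [if_pos (show χ ∈ Xset M ζ from ⟨hB, hY⟩)]
    · rw [if_neg (fun h' : χ ∈ Xset M ζ => hB h'.1), hf χ hB]

open scoped Classical in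
theorem sum_Y_const {β : Type*} [AddCommMonoid β] (c : β) :
    (∑ χ : IrrCharacter G, if χ ∈ Yset ζ then c else 0) = Nat.card (Yset ζ) • c := by
  rw [← Finset.sum_filter, Finset.sum_const]
  congr 1
  rw [Nat.card_eq_fintype_card, ← Set.toFinset_card]
  congr 1
  ext χ
  simp

open scoped Classical in
theorem norm_eq (D : BLData M P m δ d ζ A) :
    (∑ χ, if χ ∈ Xset M ζ then A χ ^ 2 else 0) + (Nat.card (Yset ζ) : ℤ) * d ^ 2
      = m + 2 * δ * d := by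
  rw [← D.hnorm, sum_split D (fun χ => A χ ^ 2) (fun χ hχ => by rw [D.hout χ hχ]; ring)]
  congr 1
  rw [← nsmul_eq_mul, ← sum_Y_const]
  apply Finset.sum_congr rfl
  intro χ _
  split_ifs with hY
  · rw [A_of_mem_Y D hY]
  · rfl

theorem Y_agree (D : BLData M P m δ d ζ A) {η η' : IrrCharacter G} (hη : η ∈ Yset ζ)
    (hη' : η' ∈ Yset ζ) (g : G) (hg : ¬ p ∣ orderOf g) : (η : G → ℂ) g = (η' : G → ℂ) g := by
  obtain ⟨ψ, hψ, rfl⟩ := hη
  obtain ⟨ψ', hψ', rfl⟩ := hη'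
  have h1 := D.hreg ψ hψ g hg
  have h2 := D.hreg ψ' hψ' g hg
  rw [h1] at h2
  have hδ0 : (δ : ℂ) ≠ 0 := by
    rcases D.hδ with h' | h' <;> rw [h'] <;> norm_num
  exact mul_left_cancel₀ hδ0 h2

open scoped Classical in
theorem reg_rel (D : BLData M P m δ d ζ A) {η : IrrCharacter G} (hη : η ∈ Yset ζ) (g : G)
    (hg : ¬ p ∣ orderOf g) :
    ((Nat.card (Yset ζ) : ℂ) * d - δ) * (η : G → ℂ) g
      + ∑ χ, (if χ ∈ Xset M ζ then (A χ : ℂ) * (χ : G → ℂ) g else 0) = 0 := by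
  obtain ⟨ψ, hψ, hψη⟩ := id hη
  have h1 := D.hreg ψ hψ g hg
  rw [hψη, sum_split D (fun χ => (A χ : ℂ) * (χ : G → ℂ) g)
    (fun χ hχ => by rw [D.hout χ hχ]; simp)] at h1
  have h2 : (∑ χ : IrrCharacter G, if χ ∈ Yset ζ then (A χ : ℂ) * (χ : G → ℂ) g else 0)
      = Nat.card (Yset ζ) • ((d : ℂ) * (η : G → ℂ) g) := by
    rw [← sum_Y_const]
    apply Finset.sum_congr rfl
    intro χ _
    split_ifs with hY
    · rw [A_of_mem_Y D hY, Y_agree D hY hη g hg]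
    · rfl
  rw [h2, nsmul_eq_mul] at h1
  linear_combination h1

end Cfsg.Agent.Lib.Helper59BLFin
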