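import Mathlib
import Cfsg.Prelude.Def_Blocks
import Cfsg.Agent.Lib.Helper25LB
import Cfsg.Agent.Lib.Helper59BLFin
import Cfsg.Agent.Lib.Helper20Avg

set_option autoImplicit false
set_option linter.unusedSectionVars false
set_option linter.unusedVariables false

/-! The principal block of a group with a Sylow `p`-subgroup of order `p`. -/

namespace Cfsg.Agent.Lib.Helper25DefOne

open Cfsg Subgroup
open Cfsg.Agent.Lib.Helper81Base Cfsg.Agent.Lib.Helper81BB Cfsg.Agent.Lib.Helper81Local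
  Cfsg.Agent.Lib.Helper81Block Cfsg.Agent.Lib.Helper81Orth Cfsg.Agent.Lib.Helper82Linear
  Cfsg.Agent.Lib.Helper59BLDual Cfsg.Agent.Lib.Helper59BLGram Cfsg.Agent.Lib.Helper59BLTw
  Cfsg.Agent.Lib.Helper59BLStruct Cfsg.Agent.Lib.Helper59BLSec Cfsg.Agent.Lib.Helper59BLFin
  Cfsg.Agent.Lib.Helper25LB
open scoped ComplexConjugate

variable {G : Type*} [Group G] [Fintype G] {p : ℕ} [Fact p.Prime] {M : Ideal AlgInt}
  {P : Sylow p G}

theorem gen_of_card (hP : Nat.card P = p) (y : G) (hy : y ∈ (P : Subgroup G)) (hy1 : y ≠ 1)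
    (z : G) (hz : z ∈ (P : Subgroup G)) : ∃ a : ℕ, y ^ a = z := by
  have hy' : (⟨y, hy⟩ : (P : Subgroup G)) ≠ 1 := fun h => hy1 (congrArg Subtype.val h)
  obtain ⟨a, ha⟩ := mem_powers_of_prime_card (g' := (⟨z, hz⟩ : (P : Subgroup G))) hP hy'
  exact ⟨a, by simpa using congrArg Subtype.val ha⟩

theorem bl_of_card (hM : IsPModular p M) (hP : Nat.card P = p) : BL p M P where
  hM := hM
  hab := (isCyclic_of_prime_card hP).isMulCommutative
  hfrob := by
    intro y hy hy1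
    ext g
    rw [mem_inf, mem_centralizer_singleton_iff]
    constructor
    · rintro ⟨h1, -⟩
      rw [mem_centralizer_iff]
      intro z hz
      obtain ⟨a, rfl⟩ := gen_of_card hP y hy hy1 z hz
      exact ((Commute.pow_right (show Commute g y from h1) a).eq).symm
    · intro h
      refine ⟨((mem_centralizer_iff.mp h) y hy).symm, ?_⟩
      exact centralizer_le_normalizer' h

theorem deg_congr (hM : IsPModular p M) (χ : IrrCharacter G) (y : G) (hy : y ∈ (P : Subgroup G))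
    (A : ℤ) (hA : MemLocalIdeal M ((χ : G → ℂ) y - A)) :
    (charDegree (χ : G → ℂ) : ℤ) ≡ A [ZMOD p] := by
  have hpr : M.IsPrime := hM.2.1.isPrime
  obtain ⟨k, hk⟩ := (IsPGroup.iff_orderOf.mp P.isPGroup') ⟨y, hy⟩
  have hyk : y ^ (p ^ k) = 1 := by
    rw [← hk, Subgroup.orderOf_mk]
    exact pow_orderOf_eq_one y
  have h1 := Cfsg.Agent.Lib.Helper20Avg.char_mul_sub_mem hM
    (Cfsg.Agent.Lib.Helper82Irr.irr_isCharacter χ) (Commute.one_right y) hyk
  rw [mul_one] at h1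
  have h2 : MemLocalIdeal M (((A - (charDegree (χ : G → ℂ) : ℤ) : ℤ)) : ℂ) := by
    have e : (((A - (charDegree (χ : G → ℂ) : ℤ) : ℤ)) : ℂ)
        = ((χ : G → ℂ) y - (χ : G → ℂ) 1) - ((χ : G → ℂ) y - A) := by
      push_cast
      rw [charDegree_eq]
      ring
    rw [e]
    exact memLocalIdeal_sub h1 hA
  exact (Int.modEq_iff_dvd).mpr ((memLocalIdeal_intCast_iff hM).mp h2)

theorem sq_eq_one_iff_of_side {a : ℤ} (h : a ^ 2 = 1) : a = 1 ∨ a = -1 := by
  have h1 : (a - 1) * (a + 1) = 0 := by ring_nf; omega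
  rcases mul_eq_zero.mp h1 with h2 | h2
  · left; omega
  · right; omega

/-- the conclusion of the theorem on the principal block. -/
def Concl (p : ℕ) (M : Ideal AlgInt) (P : Sylow p G) (e : ℕ) : Prop :=
  ∃ X Y : Set (Cfsg.IrrCharacter G), Cfsg.principalBlock M G = X ∪ Y ∧ Disjoint X Y ∧
    Nat.card X = e ∧ Nat.card Y = (p - 1) / e ∧ ∃ (εX : Cfsg.IrrCharacter G → ℤ) (ε : ℤ),
    (∀ χ ∈ X, (εX χ = 1 ∨ εX χ = -1) ∧ (Cfsg.charDegree (χ : G → ℂ) : ℤ) ≡ εX χ [ZMOD p] ∧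
      ∀ x : G, x ∈ (P : Subgroup G) → x ≠ 1 → ∀ y : G,
        y ∈ Subgroup.centralizer ((P : Subgroup G) : Set G) → ¬ p ∣ orderOf y →
        (χ : G → ℂ) (x * y) = (εX χ : ℂ)) ∧ (ε = 1 ∨ ε = -1) ∧
    (∀ θ ∈ Y, (Cfsg.charDegree (θ : G → ℂ) : ℤ) ≡ ε * (e : ℤ) [ZMOD p]) ∧
    (∀ θ ∈ Y, ∀ θ' ∈ Y, ∀ g : G, ¬ p ∣ orderOf g → (θ : G → ℂ) g = (θ' : G → ℂ) g) ∧
    ∀ θ ∈ Y, ∀ g : G, ¬ p ∣ orderOf g →
      (ε : ℂ) * (θ : G → ℂ) g = ∑ᶠ χ ∈ X, (εX χ : ℂ) * (χ : G → ℂ) g

open scoped Classical in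
theorem final (h : BL p M P) (hP : Nat.card P = p) (e : ℕ)
    (he : (centralizer ((P : Subgroup G) : Set G)).relIndex
      (normalizer ((P : Subgroup G) : Set G)) = e)
    (X Y : Set (IrrCharacter G)) (A : IrrCharacter G → ℤ) (κ : ℤ) (t : ℕ)
    (hXY : principalBlock M G = X ∪ Y) (hdisj : Disjoint X Y) (hcY : Nat.card Y = t)
    (hte : t * e + 1 = p) (hA0 : ∀ χ ∈ X, A χ ≠ 0)
    (hval : ∀ χ ∈ X, ∀ y : (P : Subgroup G), y ≠ 1 → (χ : G → ℂ) y = (A χ : ℂ))
    (hκ0 : κ ≠ 0)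
    (hrel : ∀ θ ∈ Y, ∀ g : G, ¬ p ∣ orderOf g →
      (κ : ℂ) * (θ : G → ℂ) g = ∑ χ, if χ ∈ X then (A χ : ℂ) * (χ : G → ℂ) g else 0)
    (hnorm : (t : ℤ) * (∑ χ, if χ ∈ X then A χ ^ 2 else 0) + κ ^ 2 = p)
    (hdeg : ∀ θ ∈ Y, (charDegree (θ : G → ℂ) : ℤ) ≡ κ * (e : ℤ) [ZMOD p]) :
    Concl p M P e := by
  have hpp : p.Prime := Fact.out
  have hκC : (κ : ℂ) ≠ 0 := by exact_mod_cast hκ0
  have ht0 : 0 < t := by
    rcases Nat.eq_zero_or_pos t with h0 | h0
    · rw [h0] at hte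
      have := hpp.two_le
      omega
    · exact h0
  have he0 : 0 < e := by
    rcases Nat.eq_zero_or_pos e with h0 | h0
    · rw [h0] at hte
      have := hpp.two_le
      omega
    · exact h0
  have sumX : ∀ {β : Type} [AddCommMonoid β] (f : IrrCharacter G → β),
      (∑ χ, if χ ∈ X then f χ else 0) = ∑ χ ∈ X.toFinset, f χ := by
    intro β _ f
    rw [← Finset.sum_filter]
    congr 1
    ext ψ
    simp
  -- lower bound
  have hlb : e ≤ X.toFinset.card := by
    rw [← he]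
    apply lower_bound h.hM P hP
    intro χ hχ
    rw [hXY] at hχ
    rcases hχ with hχ | hχ
    · refine ⟨fun ψ => if ψ = χ then 1 else 0, fun g _ => ?_⟩
      rw [Finset.sum_eq_single χ]
      · simp
      · intro ψ _ hne
        simp [hne]
      · intro hn
        exact absurd (Set.mem_toFinset.mpr hχ) hn
    · refine ⟨fun ψ => (A ψ : ℂ) / κ, fun g hg => ?_⟩
      have h1 := hrel χ hχ g hg
      rw [sumX] at h1
      have h2 : (χ : G → ℂ) g = (∑ ψ ∈ X.toFinset, (A ψ : ℂ) * (ψ : G → ℂ) g) / κ := by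
        rw [← h1]
        field_simp
      rw [h2, Finset.sum_div]
      apply Finset.sum_congr rfl
      intro ψ _
      ring
  rw [sumX] at hnorm
  have hsq : ∀ χ ∈ X.toFinset, (1 : ℤ) ≤ A χ ^ 2 := by
    intro χ hχ
    have := hA0 χ (Set.mem_toFinset.mp hχ)
    have h2 : 0 < A χ ^ 2 := by positivity
    omega
  have hcs : (X.toFinset.card : ℤ) ≤ ∑ χ ∈ X.toFinset, A χ ^ 2 := by
    have := Finset.sum_le_sum hsq
    simpa using this
  have hκ1 : (1 : ℤ) ≤ κ ^ 2 := by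
    have h2 : 0 < κ ^ 2 := by positivity
    omega
  have hpz : (p : ℤ) = t * e + 1 := by exact_mod_cast hte.symm
  have hse : ∑ χ ∈ X.toFinset, A χ ^ 2 ≤ (e : ℤ) := by
    have h3 : (t : ℤ) * (∑ χ ∈ X.toFinset, A χ ^ 2) ≤ t * e := by linarith
    exact le_of_mul_le_mul_left h3 (by exact_mod_cast ht0)
  have hlb' : (e : ℤ) ≤ X.toFinset.card := by exact_mod_cast hlb
  have hs : ∑ χ ∈ X.toFinset, A χ ^ 2 = (e : ℤ) := le_antisymm hse (hlb'.trans hcs)
  have hcard : X.toFinset.card = e := by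
    have : (X.toFinset.card : ℤ) = e := le_antisymm (hcs.trans hse) hlb'
    exact_mod_cast this
  have hκ2 : κ ^ 2 = 1 := by
    rw [hs] at hnorm
    linarith
  have hκ : κ = 1 ∨ κ = -1 := sq_eq_one_iff_of_side hκ2
  have hA1 : ∀ χ ∈ X, A χ = 1 ∨ A χ = -1 := by
    have h4 : ∑ χ ∈ X.toFinset, (A χ ^ 2 - 1) = 0 := by
      rw [Finset.sum_sub_distrib, hs]
      simp [hcard]
    have h5 := (Finset.sum_eq_zero_iff_of_nonneg (fun χ hχ => by have := hsq χ hχ; omega)).mp h4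
    intro χ hχ
    have h6 := h5 χ (Set.mem_toFinset.mpr hχ)
    have h7 : A χ ^ 2 = 1 := by omega
    exact sq_eq_one_iff_of_side h7
  have hnt : Nontrivial (P : Subgroup G) := by
    apply Finite.one_lt_card_iff_nontrivial.mp
    rw [hP]; exact hpp.one_lt
  obtain ⟨y₀, hy₀⟩ := exists_ne (1 : (P : Subgroup G))
  have hpr : M.IsPrime := h.hM.2.1.isPrime
  refine ⟨X, Y, hXY, hdisj, ?_, ?_, A, κ, ?_, hκ, hdeg, ?_, ?_⟩
  · rw [Nat.card_eq_fintype_card, ← Set.toFinset_card, hcard]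
  · rw [hcY, ← hte, Nat.add_sub_cancel, Nat.mul_div_cancel _ he0]
  · intro χ hχ
    refine ⟨hA1 χ hχ, ?_, ?_⟩
    · apply deg_congr h.hM χ y₀ y₀.2
      rw [hval χ hχ y₀ hy₀, sub_self]
      exact memLocalIdeal_zero
    · intro x hx hx1 y hy hyp
      have hχB : χ ∈ principalBlock M G := by rw [hXY]; exact Or.inl hχ
      obtain ⟨k, hk⟩ := (IsPGroup.iff_orderOf.mp P.isPGroup') ⟨x, hx⟩
      rw [section_const h χ hχB (x * y) x ⟨y, rfl, ((mem_centralizer_iff.mp hy) x hx),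
        ⟨k, by rw [← hk, Subgroup.orderOf_mk]⟩, hyp⟩ hx hx1]
      exact hval χ hχ ⟨x, hx⟩ (fun h' => hx1 (congrArg Subtype.val h'))
  · intro θ hθ θ' hθ' g hg
    have h1 := hrel θ hθ g hg
    rw [← hrel θ' hθ' g hg] at h1
    exact mul_left_cancel₀ hκC h1
  · intro θ hθ g hg
    rw [hrel θ hθ g hg, finsum_mem_fintype]

theorem hom_sub_one_mem (hM : IsPModular p M) (ψ : ↥(P : Subgroup G) →* ℂˣ)
    (y : (P : Subgroup G)) : MemLocalIdeal M (((ψ y : ℂˣ) : ℂ) - 1) := by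
  obtain ⟨k, hk⟩ := (IsPGroup.iff_orderOf.mp P.isPGroup') y
  have hyk : y ^ (p ^ k) = 1 := by
    rw [← hk]
    exact pow_orderOf_eq_one y
  have h1 := Cfsg.Agent.Lib.Helper20Avg.char_mul_sub_mem hM
    (Cfsg.Agent.Lib.Helper82Irr.irr_isCharacter ⟨_, isIrrCharacter_of_hom ψ⟩)
    (Commute.one_right y) hyk
  simpa using h1

open scoped Classical in
theorem case_one (h : BL p M P) (hP : Nat.card P = p) (e : ℕ)
    (he : (centralizer ((P : Subgroup G) : Set G)).relIndex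
      (normalizer ((P : Subgroup G) : Set G)) = e) (hlt : e + 1 < p) : Concl p M P e := by
  have hpr : M.IsPrime := h.hM.2.1.isPrime
  have : Finite (↥(P : Subgroup G) →* ℂˣ) := finite_hom _ h.hab
  let _ : Fintype (↥(P : Subgroup G) →* ℂˣ) := Fintype.ofFinite _
  obtain ⟨δ, d, ζ, A, D⟩ := exists_data h e he (by rw [hP]; exact hlt)
  have hcY := card_Y h D he
  rw [hP] at hcY
  set t := Nat.card (Yset ζ) with ht
  have ht2 : 2 ≤ t := by
    by_contra hcon
    have : t ≤ 1 := by omega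
    have h2 : t * e ≤ 1 * e := Nat.mul_le_mul_right e this
    omega
  have hδ2 : δ ^ 2 = 1 := by rcases D.hδ with h' | h' <;> rw [h'] <;> norm_num
  have hP1 : 1 < Nat.card ↥(P : Subgroup G) := by rw [hP]; exact (Fact.out : p.Prime).one_lt
  have hnt : Nontrivial (P : Subgroup G) := Finite.one_lt_card_iff_nontrivial.mp hP1
  obtain ⟨y₀, hy₀⟩ := exists_ne (1 : (P : Subgroup G))
  apply final h hP e he (Xset M ζ) (Yset ζ) A (δ - t * d) t (union_eq D) disjoint_XY rfl hcY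
    (fun χ hχ => X_ne_zero h D hP1 hχ) (fun χ hχ y hy => X_val D hχ y hy)
  · intro h0
    have h1 : (t : ℤ) ∣ 1 := by
      refine ⟨δ * d, ?_⟩
      have : δ = t * d := by linarith
      calc (1 : ℤ) = δ ^ 2 := hδ2.symm
        _ = δ * (t * d) := by rw [sq]; congr 1
        _ = t * (δ * d) := by ring
    have h2 := Int.le_of_dvd one_pos h1
    have : (2 : ℤ) ≤ t := by exact_mod_cast ht2
    omega
  · intro θ hθ g hg
    have h1 := reg_rel D hθ g hg
    push_cast
    linear_combination -h1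
  · have h1 := norm_eq D
    have hpz : (p : ℤ) = t * e + 1 := by exact_mod_cast hcY.symm
    rw [hpz]
    have h2 : (∑ χ, if χ ∈ Xset M ζ then A χ ^ 2 else 0) = e + 2 * δ * d - t * d ^ 2 := by
      linarith
    rw [h2]
    linear_combination hδ2
  · rintro θ ⟨ψ, hψ, rfl⟩
    have h1 : (charDegree ((ζ ψ : IrrCharacter G) : G → ℂ) : ℤ) ≡ d + δ * e [ZMOD p] := by
      apply deg_congr h.hM (ζ ψ) y₀ y₀.2
      rw [Y_val D ψ hψ y₀ hy₀]
      have h2 : (e : ℂ) = ∑ ψ' : ↥(P : Subgroup G) →* ℂˣ, (if Rel P ψ ψ' then (1 : ℂ) else 0) := by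
        rw [Finset.sum_boole, ← card_orbit h e he ψ hψ, Nat.card_eq_fintype_card,
          Fintype.card_subtype]
      have h3 : (d : ℂ) + (δ : ℂ) * ∑ ψ' : ↥(P : Subgroup G) →* ℂˣ,
          (if Rel P ψ ψ' then ((ψ' y₀ : ℂˣ) : ℂ) else 0) - ((d + δ * e : ℤ) : ℂ)
          = (δ : ℂ) * ∑ ψ' : ↥(P : Subgroup G) →* ℂˣ,
            (if Rel P ψ ψ' then (((ψ' y₀ : ℂˣ) : ℂ) - 1) else 0) := by
        push_cast
        rw [h2, add_sub_add_left_eq_sub, ← mul_sub, ← Finset.sum_sub_distrib]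
        congr 1
        apply Finset.sum_congr rfl
        intro ψ' _
        split_ifs <;> simp
      rw [h3]
      apply memLocalIdeal_mul (memLocalRing_intCast δ)
      apply memLocalIdeal_sum
      intro ψ' _
      split_ifs
      · exact hom_sub_one_mem h.hM ψ' y₀
      · exact memLocalIdeal_zero
    refine h1.trans ?_
    apply (Int.modEq_iff_dvd).mpr
    refine ⟨-d, ?_⟩
    have hpz : (p : ℤ) = t * e + 1 := by exact_mod_cast hcY.symm
    rw [hpz]
    ring

open scoped Classical in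
theorem case_two (h : BL p M P) (hP : Nat.card P = p) (e : ℕ)
    (he : (centralizer ((P : Subgroup G) : Set G)).relIndex
      (normalizer ((P : Subgroup G) : Set G)) = e) (hge : ¬ e + 1 < p) : Concl p M P e := by
  have hpr : M.IsPrime := h.hM.2.1.isPrime
  have hpp : p.Prime := Fact.out
  have : Finite (↥(P : Subgroup G) →* ℂˣ) := finite_hom _ h.hab
  let _ : Fintype (↥(P : Subgroup G) →* ℂˣ) := Fintype.ofFinite _
  have hP1 : 1 < Nat.card ↥(P : Subgroup G) := by rw [hP]; exact hpp.one_lt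
  have hnt : Nontrivial (P : Subgroup G) := Finite.one_lt_card_iff_nontrivial.mp hP1
  obtain ⟨y₀, hy₀⟩ := exists_ne (1 : (P : Subgroup G))
  obtain ⟨ψ₀, hψ₀⟩ := exists_ne_one h hP1
  -- all non-trivial characters of `P` are conjugate
  have hc1 := card_orbit h e he ψ₀ hψ₀
  rw [Nat.card_eq_fintype_card, Fintype.card_subtype] at hc1
  have hc2 : (Finset.univ.filter (fun ψ : ↥(P : Subgroup G) →* ℂˣ => ψ ≠ 1)).card + 1 = p := by
    have hch := card_hom _ h.hab
    rw [hP, Nat.card_eq_fintype_card] at hch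
    rw [Finset.filter_ne' Finset.univ,
      Finset.card_erase_of_mem (Finset.mem_univ _), Finset.card_univ, hch]
    have := hpp.two_le
    omega
  have hsub : Finset.univ.filter (fun ψ : ↥(P : Subgroup G) →* ℂˣ => Rel P ψ₀ ψ)
      ⊆ Finset.univ.filter (fun ψ : ↥(P : Subgroup G) →* ℂˣ => ψ ≠ 1) := by
    intro ψ hψ
    simp only [Finset.mem_filter, Finset.mem_univ, true_and] at hψ ⊢
    exact ne_one_of_rel P hψ hψ₀
  have hle := Finset.card_le_card hsub
  have hep : e + 1 = p := by omega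
  have heq := Finset.eq_of_subset_of_card_le hsub (by omega)
  have hall : ∀ ψ : ↥(P : Subgroup G) →* ℂˣ, ψ ≠ 1 → Rel P ψ₀ ψ := by
    intro ψ hψ
    have : ψ ∈ Finset.univ.filter (fun ψ : ↥(P : Subgroup G) →* ℂˣ => ψ ≠ 1) := by simp [hψ]
    rw [← heq] at this
    simpa using this
  set A : IrrCharacter G → ℤ := fun χ => muZ χ (1 : ↥(P : Subgroup G) →* ℂˣ) - muZ χ ψ₀ with hA
  have hval : ∀ (χ : IrrCharacter G) (y : (P : Subgroup G)), y ≠ 1 →
      (χ : G → ℂ) y = (A χ : ℂ) := by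
    intro χ y hy
    rw [value_eq h χ y]
    have e1 : ∀ ψ : ↥(P : Subgroup G) →* ℂˣ, mu χ ψ * ((ψ y : ℂˣ) : ℂ)
        = (muZ χ ψ₀ : ℂ) * ((ψ y : ℂˣ) : ℂ) + (if ψ = 1 then (A χ : ℂ) else 0) := by
      intro ψ
      rw [mu_eq]
      by_cases hψ : ψ = 1
      · rw [if_pos hψ, hψ, hA]
        push_cast
        simp
      · rw [if_neg hψ, add_zero, ← muZ_rel χ (hall ψ hψ)]
    simp only [e1]
    rw [Finset.sum_add_distrib, ← Finset.mul_sum, sum_dual_eq_zero h.hab hy, mul_zero, zero_add,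
      Finset.sum_ite_eq' Finset.univ, if_pos (Finset.mem_univ _)]
  have hone : ∀ x : G, ((irrOne G : IrrCharacter G) : G → ℂ) x = 1 := fun x => rfl
  have hA1 : A (irrOne G) = 1 := by
    have := hval (irrOne G) y₀ hy₀
    rw [hone] at this
    exact_mod_cast this.symm
  have hmem1 : irrOne G ∈ principalBlock M G := sameBlock_refl _
  obtain ⟨X, hX⟩ : ∃ X : Set (IrrCharacter G), X = principalBlock M G \ {irrOne G} := ⟨_, rfl⟩
  have hmemX : ∀ χ, χ ∈ X ↔ χ ∈ principalBlock M G ∧ χ ≠ irrOne G := by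
    intro χ
    rw [hX]
    simp
  have hsplit : ∀ f : IrrCharacter G → ℂ, (∑ χ, if χ ∈ principalBlock M G then f χ else 0)
      = f (irrOne G) + ∑ χ, if χ ∈ X then f χ else 0 := by
    intro f
    have e1 : ∀ χ : IrrCharacter G, (if χ ∈ principalBlock M G then f χ else 0)
        = (if χ = irrOne G then f χ else 0)
          + if χ ∈ X then f χ else 0 := by
      intro χ
      by_cases h1 : χ = irrOne G
      · rw [if_pos h1, if_pos (by rw [h1]; exact hmem1),
          if_neg (fun h3 => ((hmemX χ).mp h3).2 h1), add_zero]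
      · rw [if_neg h1, zero_add]
        by_cases h2 : χ ∈ principalBlock M G
        · rw [if_pos h2, if_pos ((hmemX χ).mpr ⟨h2, h1⟩)]
        · rw [if_neg h2, if_neg (fun h3 => h2 ((hmemX χ).mp h3).1)]
    simp only [e1]
    rw [Finset.sum_add_distrib, Finset.sum_ite_eq' Finset.univ, if_pos (Finset.mem_univ _)]
  have hy₀1 : (y₀ : G) ≠ 1 := fun h1 => hy₀ (Subtype.ext h1)
  have hpy : p ∣ orderOf (y₀ : G) := by
    obtain ⟨k, hk⟩ := (IsPGroup.iff_orderOf.mp P.isPGroup') y₀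
    rw [Subgroup.orderOf_coe, hk]
    rcases k with _ | k
    · rw [pow_zero, orderOf_eq_one_iff] at hk
      exact absurd hk hy₀
    · exact dvd_pow_self p (Nat.succ_ne_zero k)
  apply final h hP e he X {irrOne G} A (-1) 1
  · rw [hX, Set.sdiff_union_self]
    exact (Set.union_eq_self_of_subset_right (Set.singleton_subset_iff.mpr hmem1)).symm
  · rw [hX]
    exact Set.disjoint_sdiff_left
  · simp
  · omega
  · intro χ hχ h0
    have h1 := hval χ y₀ hy₀
    rw [h0] at h1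
    exact ne_zero_of_mem h χ ((hmemX χ).mp hχ).1 y₀ y₀.2 (by rw [h1]; simp)
  · intro χ _ y hy
    exact hval χ y hy
  · norm_num
  · intro θ hθ g hg
    rw [Set.mem_singleton_iff.mp hθ, hone]
    have h1 := weak_block_orth h.hM Cfsg.Agent.Lib.Helper81Subsec2.isPBlock_principalBlock hg hpy
    rw [hsplit, hone, hone] at h1
    have h2 : ∀ χ : IrrCharacter G,
        (if χ ∈ X then (χ : G → ℂ) g * conj ((χ : G → ℂ) y₀) else 0)
        = if χ ∈ X then (A χ : ℂ) * (χ : G → ℂ) g else 0 := by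
      intro χ
      split_ifs
      · rw [hval χ y₀ hy₀, map_intCast, mul_comm]
      · rfl
    simp only [h2] at h1
    push_cast
    simp only [map_one, mul_one] at h1
    linear_combination -h1
  · have h1 := gram_elem h y₀ y₀ hy₀
    rw [if_pos (IsConj.refl _), hsplit, hone] at h1
    have h2 : ∀ χ : IrrCharacter G,
        (if χ ∈ X then (χ : G → ℂ) y₀ * conj ((χ : G → ℂ) y₀) else 0)
        = (((if χ ∈ X then A χ ^ 2 else 0 : ℤ)) : ℂ) := by
      intro χ
      split_ifs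
      · rw [hval χ y₀ hy₀, map_intCast]
        push_cast
        ring
      · simp
    simp only [h2] at h1
    rw [← Int.cast_sum, hP] at h1
    simp only [map_one, mul_one] at h1
    have h3 : (1 : ℤ) + ∑ χ, (if χ ∈ X then A χ ^ 2 else 0)
        = (p : ℤ) := by exact_mod_cast h1
    push_cast
    linarith
  · intro θ hθ
    rw [Set.mem_singleton_iff.mp hθ]
    have h1 : (charDegree ((irrOne G : IrrCharacter G) : G → ℂ) : ℤ) ≡ 1 [ZMOD p] := by
      apply deg_congr h.hM (irrOne G) y₀ y₀.2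
      rw [hone]
      simpa using memLocalIdeal_zero
    refine h1.trans ?_
    apply (Int.modEq_iff_dvd).mpr
    refine ⟨-1, ?_⟩
    have hpz : (p : ℤ) = e + 1 := by exact_mod_cast hep.symm
    rw [hpz]
    ring

/-- The principal block of a group with a Sylow `p`-subgroup of order `p`. -/
theorem main (hM : IsPModular p M) (hP : Nat.card P = p) (e : ℕ)
    (he : (centralizer ((P : Subgroup G) : Set G)).relIndex
      (normalizer ((P : Subgroup G) : Set G)) = e) : Concl p M P e := by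
  by_cases hlt : e + 1 < p
  · exact case_one (bl_of_card hM hP) hP e he hlt
  · exact case_two (bl_of_card hM hP) hP e he hlt

end Cfsg.Agent.Lib.Helper25DefOne
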