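import Mathlib
import Cfsg.Agent.Lib.Helper59BRDefs
import Cfsg.Agent.Lib.Helper25DefOne
import Cfsg.Agent.Lib.Helper81ClassMul

set_option autoImplicit false
set_option linter.unusedSectionVars false
set_option linter.unusedVariables false

namespace Cfsg.Agent.Lib.H59BRData

open Cfsg Subgroup
open Cfsg.Agent.Lib.Helper81Base Cfsg.Agent.Lib.Helper82Linear Cfsg.Agent.Lib.Helper59BRDefs
open Cfsg.Agent.Lib.Helper81BB Cfsg.Agent.Lib.Helper81Local
  Cfsg.Agent.Lib.Helper81Block Cfsg.Agent.Lib.Helper81Orth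
  Cfsg.Agent.Lib.Helper59BLDual Cfsg.Agent.Lib.Helper59BLGram Cfsg.Agent.Lib.Helper59BLTw
  Cfsg.Agent.Lib.Helper59BLStruct Cfsg.Agent.Lib.Helper59BLSec Cfsg.Agent.Lib.Helper59BLFin
  Cfsg.Agent.Lib.Helper25LB Cfsg.Agent.Lib.Helper25DefOne
open scoped ComplexConjugate

variable {G : Type*} [Group G] [Fintype G] {p : ℕ} [Fact p.Prime]

/-- a `p`-singular element is conjugate to an element whose `p`-part is a non-trivial
element of `P`. -/
theorem exists_conj_ppart (P : Sylow p G) (g : G) (hg : p ∣ orderOf g) :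
    ∃ c y : G, IsPPart p (c * g * c⁻¹) y ∧ y ∈ (P : Subgroup G) ∧ y ≠ 1 := by
  have hpp : p.Prime := Fact.out
  obtain ⟨x, v, hxv, hcomm, ⟨k, hk⟩, hv⟩ := exists_ppart hpp g
  have hx1 : x ≠ 1 := by
    rintro rfl
    rw [one_mul] at hxv
    rw [hxv] at hv
    exact hv hg
  -- `x` lies in a Sylow subgroup
  have hpg : IsPGroup p (zpowers x) := by
    rw [IsPGroup.iff_card]
    exact ⟨k, by rw [Nat.card_zpowers, hk]⟩
  obtain ⟨Q, hQ⟩ := hpg.exists_le_sylow
  obtain ⟨c, hc⟩ := MulAction.exists_smul_eq G Q P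
  refine ⟨c, c * x * c⁻¹, ⟨c * v * c⁻¹, ?_, ?_, ⟨k, ?_⟩, ?_⟩, ?_, ?_⟩
  · rw [← hxv]; group
  · have := hcomm.eq
    show c * x * c⁻¹ * (c * v * c⁻¹) = c * v * c⁻¹ * (c * x * c⁻¹)
    calc c * x * c⁻¹ * (c * v * c⁻¹) = c * (x * v) * c⁻¹ := by group
      _ = c * (v * x) * c⁻¹ := by rw [this]
      _ = _ := by group
  · rw [← hk]
    exact (MulAut.conj c).orderOf_eq x
  · rw [show orderOf (c * v * c⁻¹) = orderOf v from (MulAut.conj c).orderOf_eq v]
    exact hv
  · rw [← hc, Sylow.coe_subgroup_smul]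
    exact Subgroup.smul_mem_pointwise_smul x (MulAut.conj c) _ (hQ (mem_zpowers x))
  · intro h
    apply hx1
    have : x = c⁻¹ * (c * x * c⁻¹) * c := by group
    rw [this, h]; group


variable {M : Ideal AlgInt} {P : Sylow p G}

theorem dvd_orderOf_of_mem (x : G) (hx : x ∈ (P : Subgroup G)) (hx1 : x ≠ 1) : p ∣ orderOf x := by
  obtain ⟨k, hk⟩ := (IsPGroup.iff_orderOf.mp P.isPGroup') ⟨x, hx⟩
  rw [Subgroup.orderOf_mk] at hk
  rw [hk]
  rcases k with _ | k
  · rw [pow_zero, orderOf_eq_one_iff] at hk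
    exact absurd hk hx1
  · exact dvd_pow_self p (Nat.succ_ne_zero k)

open scoped Classical in
theorem final' (h : BL p M P) (hP : Nat.card P = p) (e : ℕ)
    (he : (centralizer ((P : Subgroup G) : Set G)).relIndex
      (normalizer ((P : Subgroup G) : Set G)) = e)
    (X Y : Set (IrrCharacter G)) (A : IrrCharacter G → ℤ) (κ : ℤ) (t : ℕ)
    (hXY : principalBlock M G = X ∪ Y) (hdisj : Disjoint X Y) (hcY : Nat.card Y = t)
    (hte : t * e + 1 = p) (hA0 : ∀ χ ∈ X, A χ ≠ 0)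
    (hval : ∀ χ ∈ X, ∀ y : (P : Subgroup G), y ≠ 1 → (χ : G → ℂ) y = (A χ : ℂ))
    (hκ0 : κ ≠ 0)
    (hrel : ∀ θ ∈ Y, ∀ g : G, ¬ p ∣ orderOf g →
      (κ : ℂ) * (θ : G → ℂ) g = ∑ χ, if χ ∈ X then (A χ : ℂ) * (χ : G → ℂ) g else 0)
    (hnorm : (t : ℤ) * (∑ χ, if χ ∈ X then A χ ^ 2 else 0) + κ ^ 2 = p)
    (hdeg : ∀ θ ∈ Y, (charDegree (θ : G → ℂ) : ℤ) ≡ κ * (e : ℤ) [ZMOD p])
    (h1X : irrOne G ∈ X)
    (hsumP : ∀ θ ∈ Y, ∑ x : G, (if x ∈ (P : Subgroup G) then (θ : G → ℂ) x else 0)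
      = (θ : G → ℂ) 1 - (κ : ℂ) * (e : ℂ)) :
    BR p P e t X.toFinset Y.toFinset A κ := by
  have hpp : p.Prime := Fact.out
  have hκC : (κ : ℂ) ≠ 0 := by exact_mod_cast hκ0
  have ht0 : 0 < t := by
    rcases Nat.eq_zero_or_pos t with h0 | h0
    · rw [h0] at hte
      have := hpp.two_le
      omega
    · exact h0
  have he0 : 0 < e := by
    rcases Nat.eq_zero_or_pos e with h0 | h0
    · rw [h0] at hte
      have := hpp.two_le
      omega
    · exact h0
  have sumX : ∀ {β : Type} [AddCommMonoid β] (f : IrrCharacter G → β),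
      (∑ χ, if χ ∈ X then f χ else 0) = ∑ χ ∈ X.toFinset, f χ := by
    intro β _ f
    rw [← Finset.sum_filter]
    congr 1
    ext ψ
    simp
  -- lower bound
  have hlb : e ≤ X.toFinset.card := by
    rw [← he]
    apply lower_bound h.hM P hP
    intro χ hχ
    rw [hXY] at hχ
    rcases hχ with hχ | hχ
    · refine ⟨fun ψ => if ψ = χ then 1 else 0, fun g _ => ?_⟩
      rw [Finset.sum_eq_single χ]
      · simp
      · intro ψ _ hne
        simp [hne]
      · intro hn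
        exact absurd (Set.mem_toFinset.mpr hχ) hn
    · refine ⟨fun ψ => (A ψ : ℂ) / κ, fun g hg => ?_⟩
      have h1 := hrel χ hχ g hg
      rw [sumX] at h1
      have h2 : (χ : G → ℂ) g = (∑ ψ ∈ X.toFinset, (A ψ : ℂ) * (ψ : G → ℂ) g) / κ := by
        rw [← h1]
        field_simp
      rw [h2, Finset.sum_div]
      apply Finset.sum_congr rfl
      intro ψ _
      ring
  rw [sumX] at hnorm
  have hsq : ∀ χ ∈ X.toFinset, (1 : ℤ) ≤ A χ ^ 2 := by
    intro χ hχ
    have := hA0 χ (Set.mem_toFinset.mp hχ)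
    have h2 : 0 < A χ ^ 2 := by positivity
    omega
  have hcs : (X.toFinset.card : ℤ) ≤ ∑ χ ∈ X.toFinset, A χ ^ 2 := by
    have := Finset.sum_le_sum hsq
    simpa using this
  have hκ1 : (1 : ℤ) ≤ κ ^ 2 := by
    have h2 : 0 < κ ^ 2 := by positivity
    omega
  have hpz : (p : ℤ) = t * e + 1 := by exact_mod_cast hte.symm
  have hse : ∑ χ ∈ X.toFinset, A χ ^ 2 ≤ (e : ℤ) := by
    have h3 : (t : ℤ) * (∑ χ ∈ X.toFinset, A χ ^ 2) ≤ t * e := by linarith
    exact le_of_mul_le_mul_left h3 (by exact_mod_cast ht0)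
  have hlb' : (e : ℤ) ≤ X.toFinset.card := by exact_mod_cast hlb
  have hs : ∑ χ ∈ X.toFinset, A χ ^ 2 = (e : ℤ) := le_antisymm hse (hlb'.trans hcs)
  have hcard : X.toFinset.card = e := by
    have : (X.toFinset.card : ℤ) = e := le_antisymm (hcs.trans hse) hlb'
    exact_mod_cast this
  have hκ2 : κ ^ 2 = 1 := by
    rw [hs] at hnorm
    linarith
  have hκ : κ = 1 ∨ κ = -1 := sq_eq_one_iff_of_side hκ2
  have hA1 : ∀ χ ∈ X, A χ = 1 ∨ A χ = -1 := by
    have h4 : ∑ χ ∈ X.toFinset, (A χ ^ 2 - 1) = 0 := by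
      rw [Finset.sum_sub_distrib, hs]
      simp [hcard]
    have h5 := (Finset.sum_eq_zero_iff_of_nonneg (fun χ hχ => by have := hsq χ hχ; omega)).mp h4
    intro χ hχ
    have h6 := h5 χ (Set.mem_toFinset.mpr hχ)
    have h7 : A χ ^ 2 = 1 := by omega
    exact sq_eq_one_iff_of_side h7
  have hnt : Nontrivial (P : Subgroup G) := by
    apply Finite.one_lt_card_iff_nontrivial.mp
    rw [hP]; exact hpp.one_lt
  obtain ⟨y₀, hy₀⟩ := exists_ne (1 : (P : Subgroup G))
  have hpr : M.IsPrime := h.hM.2.1.isPrime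
  have hone : ∀ x : G, ((irrOne G : IrrCharacter G) : G → ℂ) x = 1 := fun x => rfl
  have hp1 : ¬ p ∣ orderOf (1 : G) := by
    rw [orderOf_one]; exact hpp.one_lt.ne' ∘ Nat.dvd_one.mp
  -- values on singular elements
  have hvalX : ∀ χ ∈ X, ∀ g : G, p ∣ orderOf g → (χ : G → ℂ) g = (A χ : ℂ) := by
    intro χ hχ g hg
    obtain ⟨c, y, hcy, hyP, hy1⟩ := exists_conj_ppart P g hg
    have hχB : χ ∈ principalBlock M G := by rw [hXY]; exact Or.inl hχ
    have h1 := section_const h χ hχB _ y hcy hyP hy1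
    rw [irr_conj] at h1
    rw [h1]
    exact hval χ hχ ⟨y, hyP⟩ (fun h' => hy1 (congrArg Subtype.val h'))
  have hregY : ∀ θ ∈ Y, ∀ θ' ∈ Y, ∀ g : G, ¬ p ∣ orderOf g →
      (θ : G → ℂ) g = (θ' : G → ℂ) g := by
    intro θ hθ θ' hθ' g hg
    have h1 := hrel θ hθ g hg
    rw [← hrel θ' hθ' g hg] at h1
    exact mul_left_cancel₀ hκC h1
  have hsplit : ∀ f : IrrCharacter G → ℂ, (∑ χ, if χ ∈ principalBlock M G then f χ else 0)
      = ∑ χ ∈ X.toFinset, f χ + ∑ χ ∈ Y.toFinset, f χ := by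
    intro f
    rw [← Finset.sum_filter, ← Finset.sum_union (by
      rw [Set.disjoint_toFinset]; exact hdisj)]
    congr 1
    ext ψ
    simp [hXY]
  refine ⟨hP, he, hte, hcard, ?_, ?_, Set.mem_toFinset.mpr h1X, ?_, ?_, hκ, ?_, ?_, ?_, ?_, ?_,
    ?_, ?_, ?_⟩
  · rw [Set.toFinset_card, ← Nat.card_eq_fintype_card, hcY]
  · rw [Set.disjoint_toFinset]; exact hdisj
  · have := hval _ h1X y₀ hy₀
    rw [hone] at this
    exact_mod_cast this.symm
  · intro χ hχ
    exact hA1 χ (Set.mem_toFinset.mp hχ)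
  · intro χ hχ
    exact hvalX χ (Set.mem_toFinset.mp hχ)
  · intro θ hθ θ' hθ'
    exact hregY θ (Set.mem_toFinset.mp hθ) θ' (Set.mem_toFinset.mp hθ')
  · intro θ hθ g hg
    rw [hrel θ (Set.mem_toFinset.mp hθ) g hg, sumX]
  · -- sumY
    intro g hg
    have hYne : Y.toFinset.Nonempty := by
      rw [← Finset.card_pos, Set.toFinset_card, ← Nat.card_eq_fintype_card, hcY]; exact ht0
    obtain ⟨θ₀, hθ₀⟩ := hYne
    have hθ₀' := Set.mem_toFinset.mp hθ₀
    have h1 := weak_block_orth h.hM Cfsg.Agent.Lib.Helper81Subsec2.isPBlock_principalBlock hp1 hg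
    rw [hsplit] at h1
    have h2 := hrel θ₀ hθ₀' 1 hp1
    rw [sumX] at h2
    have h3 : ∑ χ ∈ X.toFinset, (χ : G → ℂ) 1 * conj ((χ : G → ℂ) g)
        = (κ : ℂ) * (θ₀ : G → ℂ) 1 := by
      rw [h2]
      apply Finset.sum_congr rfl
      intro χ hχ
      rw [hvalX χ (Set.mem_toFinset.mp hχ) g hg, map_intCast, mul_comm]
    have h4 : ∑ χ ∈ Y.toFinset, (χ : G → ℂ) 1 * conj ((χ : G → ℂ) g)
        = (θ₀ : G → ℂ) 1 * conj (∑ χ ∈ Y.toFinset, (χ : G → ℂ) g) := by
      rw [map_sum, Finset.mul_sum]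
      apply Finset.sum_congr rfl
      intro χ hχ
      rw [hregY χ (Set.mem_toFinset.mp hχ) θ₀ hθ₀' 1 hp1]
    rw [h3, h4] at h1
    have h5 : (θ₀ : G → ℂ) 1 ≠ 0 := by
      rw [← charDegree_eq]
      exact_mod_cast (charDegree_pos θ₀).ne'
    have h6 : conj (∑ χ ∈ Y.toFinset, (χ : G → ℂ) g) = -(κ : ℂ) := by
      have : (θ₀ : G → ℂ) 1 * ((κ : ℂ) + conj (∑ χ ∈ Y.toFinset, (χ : G → ℂ) g)) = 0 := by
        linear_combination h1
      rcases mul_eq_zero.mp this with h7 | h7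
      · exact absurd h7 h5
      · linear_combination h7
    have h7 := congrArg conj h6
    rw [Complex.conj_conj] at h7
    rw [h7]
    simp
  · intro θ hθ
    exact hsumP θ (Set.mem_toFinset.mp hθ)
  · intro χ hχ
    have hχ' := Set.mem_toFinset.mp hχ
    apply deg_congr h.hM χ y₀ y₀.2
    rw [hval χ hχ' y₀ hy₀, sub_self]
    exact memLocalIdeal_zero
  · intro θ hθ
    exact hdeg θ (Set.mem_toFinset.mp hθ)
  · intro x hx hx1
    have h1 := gram_elem h ⟨x, hx⟩ ⟨x, hx⟩ (fun h' => hx1 (congrArg Subtype.val h'))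
    rw [if_pos (IsConj.refl _), hsplit, hP] at h1
    rw [Finset.sum_union (by rw [Set.disjoint_toFinset]; exact hdisj)]
    exact h1


open scoped Classical in
theorem sum_mem_eq (f : G → ℂ) :
    ∑ x : G, (if x ∈ (P : Subgroup G) then f x else 0)
      = f 1 + ∑ y : (P : Subgroup G), (if y ≠ 1 then f y else 0) := by
  have h1 : ∑ x : G, (if x ∈ (P : Subgroup G) then f x else 0)
      = ∑ y : (P : Subgroup G), f y := by
    rw [← Finset.sum_filter]
    exact (Finset.sum_subtype (Finset.univ.filter (· ∈ (P : Subgroup G))) (by simp) f)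
  rw [h1, ← Finset.add_sum_erase _ _ (Finset.mem_univ (1 : (P : Subgroup G)))]
  congr 1
  rw [← Finset.sum_filter]
  apply Finset.sum_congr
  · ext y; simp
  · intro _ _; rfl

open scoped Classical in
theorem case_one' (h : BL p M P) (hP : Nat.card P = p) (e : ℕ)
    (he : (centralizer ((P : Subgroup G) : Set G)).relIndex
      (normalizer ((P : Subgroup G) : Set G)) = e) (hlt : e + 1 < p) :
    ∃ (t : ℕ) (X Y : Finset (IrrCharacter G)) (s : IrrCharacter G → ℤ) (ε : ℤ),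
      BR p P e t X Y s ε := by
  have hpr : M.IsPrime := h.hM.2.1.isPrime
  have : Finite (↥(P : Subgroup G) →* ℂˣ) := finite_hom _ h.hab
  let _ : Fintype (↥(P : Subgroup G) →* ℂˣ) := Fintype.ofFinite _
  obtain ⟨δ, d, ζ, A, D⟩ := exists_data h e he (by rw [hP]; exact hlt)
  have hcY := card_Y h D he
  rw [hP] at hcY
  set t := Nat.card (Yset ζ) with ht
  have ht2 : 2 ≤ t := by
    by_contra hcon
    have : t ≤ 1 := by omega
    have h2 : t * e ≤ 1 * e := Nat.mul_le_mul_right e this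
    omega
  have hδ2 : δ ^ 2 = 1 := by rcases D.hδ with h' | h' <;> rw [h'] <;> norm_num
  have hP1 : 1 < Nat.card ↥(P : Subgroup G) := by rw [hP]; exact (Fact.out : p.Prime).one_lt
  have hnt : Nontrivial (P : Subgroup G) := Finite.one_lt_card_iff_nontrivial.mp hP1
  obtain ⟨y₀, hy₀⟩ := exists_ne (1 : (P : Subgroup G))
  refine ⟨t, (Xset M ζ).toFinset, (Yset ζ).toFinset, A, δ - t * d, ?_⟩
  apply final' h hP e he (Xset M ζ) (Yset ζ) A (δ - t * d) t (union_eq D) disjoint_XY rfl hcY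
    (fun χ hχ => X_ne_zero h D hP1 hχ) (fun χ hχ y hy => X_val D hχ y hy)
  · intro h0
    have h1 : (t : ℤ) ∣ 1 := by
      refine ⟨δ * d, ?_⟩
      have : δ = t * d := by linarith
      calc (1 : ℤ) = δ ^ 2 := hδ2.symm
        _ = δ * (t * d) := by rw [sq]; congr 1
        _ = t * (δ * d) := by ring
    have h2 := Int.le_of_dvd one_pos h1
    have : (2 : ℤ) ≤ t := by exact_mod_cast ht2
    omega
  · intro θ hθ g hg
    have h1 := reg_rel D hθ g hg
    push_cast
    linear_combination -h1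
  · have h1 := norm_eq D
    have hpz : (p : ℤ) = t * e + 1 := by exact_mod_cast hcY.symm
    rw [hpz]
    have h2 : (∑ χ, if χ ∈ Xset M ζ then A χ ^ 2 else 0) = e + 2 * δ * d - t * d ^ 2 := by
      linarith
    rw [h2]
    linear_combination hδ2
  · rintro θ ⟨ψ, hψ, rfl⟩
    have h1 : (charDegree ((ζ ψ : IrrCharacter G) : G → ℂ) : ℤ) ≡ d + δ * e [ZMOD p] := by
      apply deg_congr h.hM (ζ ψ) y₀ y₀.2
      rw [Y_val D ψ hψ y₀ hy₀]
      have h2 : (e : ℂ) = ∑ ψ' : ↥(P : Subgroup G) →* ℂˣ, (if Rel P ψ ψ' then (1 : ℂ) else 0) := by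
        rw [Finset.sum_boole, ← card_orbit h e he ψ hψ, Nat.card_eq_fintype_card,
          Fintype.card_subtype]
      have h3 : (d : ℂ) + (δ : ℂ) * ∑ ψ' : ↥(P : Subgroup G) →* ℂˣ,
          (if Rel P ψ ψ' then ((ψ' y₀ : ℂˣ) : ℂ) else 0) - ((d + δ * e : ℤ) : ℂ)
          = (δ : ℂ) * ∑ ψ' : ↥(P : Subgroup G) →* ℂˣ,
            (if Rel P ψ ψ' then (((ψ' y₀ : ℂˣ) : ℂ) - 1) else 0) := by
        push_cast
        rw [h2, add_sub_add_left_eq_sub, ← mul_sub, ← Finset.sum_sub_distrib]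
        congr 1
        apply Finset.sum_congr rfl
        intro ψ' _
        split_ifs <;> simp
      rw [h3]
      apply memLocalIdeal_mul (memLocalRing_intCast δ)
      apply memLocalIdeal_sum
      intro ψ' _
      split_ifs
      · exact hom_sub_one_mem h.hM ψ' y₀
      · exact memLocalIdeal_zero
    refine h1.trans ?_
    apply (Int.modEq_iff_dvd).mpr
    refine ⟨-d, ?_⟩
    have hpz : (p : ℤ) = t * e + 1 := by exact_mod_cast hcY.symm
    rw [hpz]
    ring
  · exact one_mem_X h D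
  · rintro θ ⟨ψ, hψ, rfl⟩
    rw [sum_mem_eq]
    have h1 : ∀ y : (P : Subgroup G), (if y ≠ 1 then ((ζ ψ : IrrCharacter G) : G → ℂ) y else 0)
        = (if y ≠ 1 then (d : ℂ) else 0) + (δ : ℂ) * ∑ ψ' : ↥(P : Subgroup G) →* ℂˣ,
          (if Rel P ψ ψ' then (if y ≠ 1 then ((ψ' y : ℂˣ) : ℂ) else 0) else 0) := by
      intro y
      by_cases hy : y = 1
      · simp [hy]
      · simp only [if_pos hy, ne_eq]
        exact Y_val D ψ hψ y hy
    simp only [h1]
    rw [Finset.sum_add_distrib, ← Finset.mul_sum, Finset.sum_comm]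
    have h2 : ∑ y : (P : Subgroup G), (if y ≠ 1 then (d : ℂ) else 0) = ((p : ℂ) - 1) * d := by
      rw [← Finset.sum_filter, Finset.sum_const, Finset.filter_ne' Finset.univ,
        Finset.card_erase_of_mem (Finset.mem_univ _), Finset.card_univ,
        ← Nat.card_eq_fintype_card, hP, nsmul_eq_mul,
        Nat.cast_sub (Fact.out : p.Prime).one_le]
      simp
    have h3 : ∀ ψ' : ↥(P : Subgroup G) →* ℂˣ,
        ∑ y : (P : Subgroup G), (if Rel P ψ ψ' then (if y ≠ 1 then ((ψ' y : ℂˣ) : ℂ) else 0) else 0)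
        = if Rel P ψ ψ' then (-1 : ℂ) else 0 := by
      intro ψ'
      split_ifs with hr
      · have h4 := sum_hom_eq_zero ψ' (ne_one_of_rel P hr hψ)
        rw [← Finset.add_sum_erase _ _ (Finset.mem_univ (1 : (P : Subgroup G)))] at h4
        rw [← Finset.sum_filter, Finset.filter_ne' Finset.univ]
        simp only [map_one, Units.val_one] at h4
        linear_combination h4
      · simp
    simp only [h3]
    have h5 : ∑ ψ' : ↥(P : Subgroup G) →* ℂˣ, (if Rel P ψ ψ' then (-1 : ℂ) else 0) = -(e : ℂ) := by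
      rw [← Finset.sum_filter, Finset.sum_const, ← card_orbit h e he ψ hψ,
        Nat.card_eq_fintype_card, Fintype.card_subtype]
      simp
    rw [h2, h5]
    have hpz : (p : ℂ) = t * e + 1 := by exact_mod_cast hcY.symm
    rw [hpz]
    push_cast
    ring


open scoped Classical in
theorem case_two' (h : BL p M P) (hP : Nat.card P = p) (e : ℕ)
    (he : (centralizer ((P : Subgroup G) : Set G)).relIndex
      (normalizer ((P : Subgroup G) : Set G)) = e) (hge : ¬ e + 1 < p) :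
    ∃ (t : ℕ) (X Y : Finset (IrrCharacter G)) (s : IrrCharacter G → ℤ) (ε : ℤ),
      BR p P e t X Y s ε := by
  have hpr : M.IsPrime := h.hM.2.1.isPrime
  have hpp : p.Prime := Fact.out
  have : Finite (↥(P : Subgroup G) →* ℂˣ) := finite_hom _ h.hab
  let _ : Fintype (↥(P : Subgroup G) →* ℂˣ) := Fintype.ofFinite _
  have hP1 : 1 < Nat.card ↥(P : Subgroup G) := by rw [hP]; exact hpp.one_lt
  have hnt : Nontrivial (P : Subgroup G) := Finite.one_lt_card_iff_nontrivial.mp hP1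
  obtain ⟨y₀, hy₀⟩ := exists_ne (1 : (P : Subgroup G))
  obtain ⟨ψ₀, hψ₀⟩ := exists_ne_one h hP1
  -- all non-trivial characters of `P` are conjugate
  have hc1 := card_orbit h e he ψ₀ hψ₀
  rw [Nat.card_eq_fintype_card, Fintype.card_subtype] at hc1
  have hc2 : (Finset.univ.filter (fun ψ : ↥(P : Subgroup G) →* ℂˣ => ψ ≠ 1)).card + 1 = p := by
    have hch := card_hom _ h.hab
    rw [hP, Nat.card_eq_fintype_card] at hch
    rw [Finset.filter_ne' Finset.univ,
      Finset.card_erase_of_mem (Finset.mem_univ _), Finset.card_univ, hch]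
    have := hpp.two_le
    omega
  have hsub : Finset.univ.filter (fun ψ : ↥(P : Subgroup G) →* ℂˣ => Rel P ψ₀ ψ)
      ⊆ Finset.univ.filter (fun ψ : ↥(P : Subgroup G) →* ℂˣ => ψ ≠ 1) := by
    intro ψ hψ
    simp only [Finset.mem_filter, Finset.mem_univ, true_and] at hψ ⊢
    exact ne_one_of_rel P hψ hψ₀
  have hle := Finset.card_le_card hsub
  have hep : e + 1 = p := by omega
  have heq := Finset.eq_of_subset_of_card_le hsub (by omega)
  have hall : ∀ ψ : ↥(P : Subgroup G) →* ℂˣ, ψ ≠ 1 → Rel P ψ₀ ψ := by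
    intro ψ hψ
    have : ψ ∈ Finset.univ.filter (fun ψ : ↥(P : Subgroup G) →* ℂˣ => ψ ≠ 1) := by simp [hψ]
    rw [← heq] at this
    simpa using this
  set A : IrrCharacter G → ℤ := fun χ => muZ χ (1 : ↥(P : Subgroup G) →* ℂˣ) - muZ χ ψ₀ with hA
  have hval : ∀ (χ : IrrCharacter G) (y : (P : Subgroup G)), y ≠ 1 →
      (χ : G → ℂ) y = (A χ : ℂ) := by
    intro χ y hy
    rw [value_eq h χ y]
    have e1 : ∀ ψ : ↥(P : Subgroup G) →* ℂˣ, mu χ ψ * ((ψ y : ℂˣ) : ℂ)
        = (muZ χ ψ₀ : ℂ) * ((ψ y : ℂˣ) : ℂ) + (if ψ = 1 then (A χ : ℂ) else 0) := by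
      intro ψ
      rw [mu_eq]
      by_cases hψ : ψ = 1
      · rw [if_pos hψ, hψ, hA]
        push_cast
        simp
      · rw [if_neg hψ, add_zero, ← muZ_rel χ (hall ψ hψ)]
    simp only [e1]
    rw [Finset.sum_add_distrib, ← Finset.mul_sum, sum_dual_eq_zero h.hab hy, mul_zero, zero_add,
      Finset.sum_ite_eq' Finset.univ, if_pos (Finset.mem_univ _)]
  have hone : ∀ x : G, ((irrOne G : IrrCharacter G) : G → ℂ) x = 1 := fun x => rfl
  have hA1 : A (irrOne G) = 1 := by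
    have := hval (irrOne G) y₀ hy₀
    rw [hone] at this
    exact_mod_cast this.symm
  have hmem1 : irrOne G ∈ principalBlock M G := sameBlock_refl _
  have hy₀1 : (y₀ : G) ≠ 1 := fun h1 => hy₀ (Subtype.ext h1)
  have hpy : p ∣ orderOf (y₀ : G) := dvd_orderOf_of_mem (y₀ : G) y₀.2 hy₀1
  -- the norm
  have hnormB : (∑ χ, if χ ∈ principalBlock M G then A χ ^ 2 else 0) = (p : ℤ) := by
    have h1 := gram_elem h y₀ y₀ hy₀
    rw [if_pos (IsConj.refl _)] at h1
    have h2 : ∀ χ : IrrCharacter G,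
        (if χ ∈ principalBlock M G then (χ : G → ℂ) y₀ * conj ((χ : G → ℂ) y₀) else 0)
        = (((if χ ∈ principalBlock M G then A χ ^ 2 else 0 : ℤ)) : ℂ) := by
      intro χ
      split_ifs
      · rw [hval χ y₀ hy₀, map_intCast]
        push_cast
        ring
      · simp
    simp only [h2] at h1
    rw [← Int.cast_sum, hP] at h1
    exact_mod_cast h1
  -- a non-trivial member of the block
  obtain ⟨θ₀, hθ₀B, hθ₀1⟩ : ∃ θ₀ : IrrCharacter G, θ₀ ∈ principalBlock M G ∧ θ₀ ≠ irrOne G := by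
    by_contra hcon
    push Not at hcon
    have h1 : (∑ χ, if χ ∈ principalBlock M G then A χ ^ 2 else 0) = 1 := by
      rw [Finset.sum_eq_single (irrOne G)]
      · rw [if_pos hmem1, hA1]; norm_num
      · intro χ _ hne
        rw [if_neg (fun hB => hne (hcon χ hB))]
      · intro hn; exact absurd (Finset.mem_univ _) hn
    rw [h1] at hnormB
    have := hpp.two_le
    have : (2 : ℤ) ≤ p := by exact_mod_cast this
    omega
  obtain ⟨X, hX⟩ : ∃ X : Set (IrrCharacter G), X = principalBlock M G \ {θ₀} := ⟨_, rfl⟩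
  have hmemX : ∀ χ, χ ∈ X ↔ χ ∈ principalBlock M G ∧ χ ≠ θ₀ := by
    intro χ
    rw [hX]
    simp
  have hsplit : ∀ {β : Type} [AddCommMonoid β] (f : IrrCharacter G → β),
      (∑ χ, if χ ∈ principalBlock M G then f χ else 0)
      = f θ₀ + ∑ χ, if χ ∈ X then f χ else 0 := by
    intro β _ f
    have e1 : ∀ χ : IrrCharacter G, (if χ ∈ principalBlock M G then f χ else 0)
        = (if χ = θ₀ then f χ else 0)
          + if χ ∈ X then f χ else 0 := by
      intro χ
      by_cases h1 : χ = θ₀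
      · rw [if_pos h1, if_pos (by rw [h1]; exact hθ₀B),
          if_neg (fun h3 => ((hmemX χ).mp h3).2 h1), add_zero]
      · rw [if_neg h1, zero_add]
        by_cases h2 : χ ∈ principalBlock M G
        · rw [if_pos h2, if_pos ((hmemX χ).mpr ⟨h2, h1⟩)]
        · rw [if_neg h2, if_neg (fun h3 => h2 ((hmemX χ).mp h3).1)]
    simp only [e1]
    rw [Finset.sum_add_distrib, Finset.sum_ite_eq' Finset.univ, if_pos (Finset.mem_univ _)]
  have hAne : ∀ χ ∈ principalBlock M G, A χ ≠ 0 := by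
    intro χ hχ h0
    have h1 := hval χ y₀ hy₀
    rw [h0] at h1
    exact ne_zero_of_mem h χ hχ y₀ y₀.2 (by rw [h1]; simp)
  refine ⟨1, _, _, A, -A θ₀, final' h hP e he X {θ₀} A (-A θ₀) 1 ?_ ?_ ?_ ?_ ?_ ?_ ?_ ?_ ?_ ?_ ?_ ?_⟩
  · rw [hX, Set.sdiff_union_self]
    exact (Set.union_eq_self_of_subset_right (Set.singleton_subset_iff.mpr hθ₀B)).symm
  · rw [hX]
    exact Set.disjoint_sdiff_left
  · simp
  · omega
  · intro χ hχ
    exact hAne χ ((hmemX χ).mp hχ).1
  · intro χ _ y hy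
    exact hval χ y hy
  · exact neg_ne_zero.mpr (hAne θ₀ hθ₀B)
  · intro θ hθ g hg
    rw [Set.mem_singleton_iff.mp hθ]
    have h1 := weak_block_orth h.hM Cfsg.Agent.Lib.Helper81Subsec2.isPBlock_principalBlock hg hpy
    rw [hsplit] at h1
    have h2 : ∀ χ : IrrCharacter G,
        (if χ ∈ X then (χ : G → ℂ) g * conj ((χ : G → ℂ) y₀) else 0)
        = if χ ∈ X then (A χ : ℂ) * (χ : G → ℂ) g else 0 := by
      intro χ
      split_ifs
      · rw [hval χ y₀ hy₀, map_intCast, mul_comm]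
      · rfl
    simp only [h2] at h1
    rw [hval θ₀ y₀ hy₀, map_intCast] at h1
    push_cast
    linear_combination -h1
  · rw [hsplit] at hnormB
    push_cast
    linarith
  · intro θ hθ
    rw [Set.mem_singleton_iff.mp hθ]
    have h1 : (charDegree ((θ₀ : IrrCharacter G) : G → ℂ) : ℤ) ≡ A θ₀ [ZMOD p] := by
      apply deg_congr h.hM θ₀ y₀ y₀.2
      rw [hval θ₀ y₀ hy₀, sub_self]
      exact memLocalIdeal_zero
    refine h1.trans ?_
    apply (Int.modEq_iff_dvd).mpr
    refine ⟨-A θ₀, ?_⟩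
    have hpz : (p : ℤ) = e + 1 := by exact_mod_cast hep.symm
    rw [hpz]
    ring
  · exact (hmemX _).mpr ⟨hmem1, hθ₀1.symm⟩
  · intro θ hθ
    rw [Set.mem_singleton_iff.mp hθ, sum_mem_eq]
    have h1 : ∀ y : (P : Subgroup G), (if y ≠ 1 then ((θ₀ : IrrCharacter G) : G → ℂ) y else 0)
        = (if y ≠ 1 then (A θ₀ : ℂ) else 0) := by
      intro y
      split_ifs with hy
      · exact hval θ₀ y hy
      · rfl
    simp only [h1]
    rw [← Finset.sum_filter, Finset.sum_const, Finset.filter_ne' Finset.univ,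
        Finset.card_erase_of_mem (Finset.mem_univ _), Finset.card_univ,
        ← Nat.card_eq_fintype_card, hP, nsmul_eq_mul, ← hep]
    push_cast
    simp
    ring

/-- L0 (helper59). The principal block data. -/
theorem exists_br (P : Sylow p G) (hP : Nat.card P = p) :
    ∃ (e t : ℕ) (X Y : Finset (IrrCharacter G)) (s : IrrCharacter G → ℤ) (ε : ℤ),
      BR p P e t X Y s ε := by
  obtain ⟨M, hM⟩ := Cfsg.Agent.Lib.Helper81ClassMul.exists_modular (Fact.out : p.Prime)
  refine ⟨(centralizer ((P : Subgroup G) : Set G)).relIndex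
      (normalizer ((P : Subgroup G) : Set G)), ?_⟩
  by_cases hlt : (centralizer ((P : Subgroup G) : Set G)).relIndex
      (normalizer ((P : Subgroup G) : Set G)) + 1 < p
  · exact case_one' (bl_of_card hM hP) hP _ rfl hlt
  · exact case_two' (bl_of_card hM hP) hP _ rfl hlt

end Cfsg.Agent.Lib.H59BRData
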