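import Mathlib
import Cfsg.Agent.Lib.Helper59BRDefs
import Cfsg.Agent.Lib.Helper4Char4
import Cfsg.Agent.Lib.Helper82Mult
import Cfsg.Agent.Lib.Helper82Irr

set_option autoImplicit false
set_option linter.unusedSectionVars false
set_option linter.unusedVariables false

namespace Cfsg.Agent.Lib.H59BRDelta

open Cfsg Subgroup
open Cfsg.Agent.Lib.Helper81Base Cfsg.Agent.Lib.Helper82Linear Cfsg.Agent.Lib.Helper59BRDefs
open Cfsg.Agent.Lib.Helper4Char Cfsg.Agent.Lib.Helper4Char4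
open scoped ComplexConjugate

variable {G : Type*} [Group G] [Fintype G] {p : ℕ} [Fact p.Prime] {P : Sylow p G} {e t : ℕ}
  {X Y : Finset (IrrCharacter G)} {s : IrrCharacter G → ℤ} {ε : ℤ}

theorem degree_cast (χ : IrrCharacter G) : (χ : G → ℂ) 1 = (charDegree (χ : G → ℂ) : ℂ) :=
  (Helper82Irr.charDegree_cast (IsIrrCharacter.isCharacter χ.2)).symm

/-- the key inner product -/
theorem inner_ge (D : BR p P e t X Y s ε) (θ θ' : IrrCharacter G) (hθ : θ ∈ Y) (hθ' : θ' ∈ Y)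
    (hne : θ ≠ θ') (ξ : IrrCharacter G) (hξ : ξ ∈ X) (hs : s ξ = -1) :
    ∃ k : ℕ, classInner ((θ : G → ℂ) * fun g => conj ((θ' : G → ℂ) g)) (ξ : G → ℂ) = (k : ℂ) + 1 := by
  have hθc := IsIrrCharacter.isCharacter θ.2
  obtain ⟨k, hk⟩ := IsCharacter.classInner_nat (IsCharacter.mul hθc (IsCharacter.conj hθc))
    (IsIrrCharacter.isCharacter ξ.2)
  refine ⟨k, ?_⟩
  rw [← hk]
  have h1 : classInner (θ : G → ℂ) (θ : G → ℂ) = 1 := classInner_irr_self θ.2
  have h2 : classInner (θ : G → ℂ) (θ' : G → ℂ) = 0 :=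
    classInner_irr_ne θ.2 θ'.2 (fun h => hne (Subtype.ext h))
  unfold classInner at h1 h2 ⊢
  have key : ∀ g : G, ((θ : G → ℂ) * fun g => conj ((θ' : G → ℂ) g)) g * conj ((ξ : G → ℂ) g) =
      ((θ : G → ℂ) * fun g => conj ((θ : G → ℂ) g)) g * conj ((ξ : G → ℂ) g) +
      ((θ : G → ℂ) g * conj ((θ : G → ℂ) g) - (θ : G → ℂ) g * conj ((θ' : G → ℂ) g)) := by
    intro g
    simp only [Pi.mul_apply]
    by_cases hg : p ∣ orderOf g
    · rw [D.valX ξ hξ g hg, hs]
      simp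
      ring
    · rw [D.regY θ hθ θ' hθ' g hg]
      ring
  rw [Finset.sum_congr rfl (fun g _ => key g), Finset.sum_add_distrib, Finset.sum_sub_distrib,
    mul_add, mul_sub, h1, h2, sub_zero]

/-- The `Δ`-trick.  For `ξ ∈ X` with `s ξ = -1`:
`(θ conj θ', ξ) = (θ conj θ, ξ) - (θ conj (θ - θ'), ξ)`, and since `θ - θ'` vanishes on the
`p`-regular elements (`D.regY`) and `ξ = s ξ` on the `p`-singular ones (`D.valX`),
`(θ conj(θ - θ'), ξ) = s ξ (θ, θ - θ') = s ξ = -1`.  As `(θ conj θ, ξ) ≥ 0`, the multiplicity of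
`ξ` in the character `θ conj θ'` (`Helper4Char4.IsCharacter.mul`, `.conj`) is `≥ 1`.
Compare degrees (`Helper82Mult.exists_mult`, `degree_eq_sum_mult`). -/
theorem delta (D : BR p P e t X Y s ε) (θ θ' : IrrCharacter G) (hθ : θ ∈ Y) (hθ' : θ' ∈ Y)
    (hne : θ ≠ θ') :
    ∑ ξ ∈ X, (if s ξ = -1 then charDegree (ξ : G → ℂ) else 0) ≤ charDegree (θ : G → ℂ) ^ 2 := by
  classical
  have hp : p.Prime := Fact.out
  have hφ : IsCharacter G ((θ : G → ℂ) * fun g => conj ((θ' : G → ℂ) g)) :=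
    IsCharacter.mul (IsIrrCharacter.isCharacter θ.2) (IsCharacter.conj (IsIrrCharacter.isCharacter θ'.2))
  obtain ⟨m, hm1, hm2⟩ := Helper82Mult.exists_mult hφ
  have hdeg := Helper82Mult.degree_eq_sum_mult hφ m hm2
  have hd : charDegree ((θ : G → ℂ) * fun g => conj ((θ' : G → ℂ) g)) = charDegree (θ : G → ℂ) ^ 2 := by
    have h1 := Helper82Irr.charDegree_cast hφ
    have h2 := D.regY θ hθ θ' hθ' 1 (by rw [orderOf_one]; exact hp.one_lt.ne' ∘ Nat.dvd_one.1)
    simp only [Pi.mul_apply] at h1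
    rw [← h2, degree_cast] at h1
    have : ((charDegree ((θ : G → ℂ) * fun g => conj ((θ' : G → ℂ) g)) : ℕ) : ℂ) =
        ((charDegree (θ : G → ℂ) ^ 2 : ℕ) : ℂ) := by
      rw [h1]; simp; ring
    exact_mod_cast this
  rw [← hd, hdeg]
  calc ∑ ξ ∈ X, (if s ξ = -1 then charDegree (ξ : G → ℂ) else 0)
      ≤ ∑ ξ ∈ X, m ξ * charDegree (ξ : G → ℂ) := by
        apply Finset.sum_le_sum
        intro ξ hξ
        split_ifs with hs
        · obtain ⟨k, hk⟩ := inner_ge D θ θ' hθ hθ' hne ξ hξ hs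
          rw [hm1] at hk
          have : m ξ = k + 1 := by exact_mod_cast hk
          rw [this]
          nlinarith [Nat.zero_le (k * charDegree (ξ : G → ℂ))]
        · exact Nat.zero_le _
    _ ≤ ∑ ξ : IrrCharacter G, m ξ * charDegree (ξ : G → ℂ) :=
        Finset.sum_le_sum_of_subset (Finset.subset_univ X)

end Cfsg.Agent.Lib.H59BRDelta
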