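import Mathlib
import Cfsg.Agent.Lib.Helper59BRDefs
import Cfsg.Agent.Lib.Helper73Class

set_option autoImplicit false
set_option linter.unusedSectionVars false
set_option linter.unusedVariables false

namespace Cfsg.Agent.Lib.H59BRInvA

open Cfsg Subgroup
open Cfsg.Agent.Lib.Helper81Base Cfsg.Agent.Lib.Helper82Linear Cfsg.Agent.Lib.Helper59BRDefs
open scoped ComplexConjugate

variable {G : Type*} [Group G] [Finite G] {p : ℕ} [Fact p.Prime] {P : Sylow p G} {e n : ℕ}

variable {E : Subgroup G}

theorem mem_norm_iff {g : G} {Q : Sylow p G} :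
    g ∈ normalizer ((Q : Subgroup G) : Set G) ↔ g • Q = Q :=
  Sylow.smul_eq_iff_mem_normalizer.symm

/-- a cyclic group has at most one element of order two. -/
theorem invol_unique (hc : IsCyclic E) {a b : G} (ha : a ∈ E) (hb : b ∈ E)
    (ha2 : orderOf a = 2) (hb2 : orderOf b = 2) : a = b := by
  classical
  have : Fintype E := Fintype.ofFinite E
  have h := IsCyclic.card_pow_eq_one_le (α := E) (n := 2) (by norm_num)
  by_contra hne
  have ha1 : a ≠ 1 := by
    rintro rfl
    simp at ha2
  have hb1 : b ≠ 1 := by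
    rintro rfl
    simp at hb2
  have hsub : ({1, ⟨a, ha⟩, ⟨b, hb⟩} : Finset E) ⊆ Finset.univ.filter (fun x : E => x ^ 2 = 1) := by
    intro x hx
    simp only [Finset.mem_insert, Finset.mem_singleton] at hx
    simp only [Finset.mem_filter, Finset.mem_univ, true_and]
    rcases hx with rfl | rfl | rfl
    · simp
    · apply Subtype.ext
      simp [← ha2, pow_orderOf_eq_one]
    · apply Subtype.ext
      simp [← hb2, pow_orderOf_eq_one]
  have hcard : ({1, ⟨a, ha⟩, ⟨b, hb⟩} : Finset E).card = 3 := by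
    rw [Finset.card_insert_of_notMem, Finset.card_insert_of_notMem, Finset.card_singleton]
    · simp only [Finset.mem_singleton]
      intro h
      exact hne (congrArg Subtype.val h)
    · simp only [Finset.mem_insert, Finset.mem_singleton, not_or]
      constructor
      · intro h
        exact ha1 (congrArg Subtype.val h).symm
      · intro h
        exact hb1 (congrArg Subtype.val h).symm
  have := Finset.card_le_card hsub
  omega

theorem exists_Q0 (H : Geo p P e n) (HE : GeoE p P e n E) :
    ∃ Q₀ : Sylow p G, Q₀ ≠ P ∧ E ≤ normalizer ((Q₀ : Subgroup G) : Set G) := by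
  by_contra hcon
  push Not at hcon
  have hsub : Subsingleton {Q : Sylow p G // E ≤ normalizer ((Q : Subgroup G) : Set G)} := by
    constructor
    rintro ⟨Q, hQ⟩ ⟨Q', hQ'⟩
    apply Subtype.ext
    show Q = Q'
    have h1 : Q = P := by
      by_contra h
      exact hcon Q h hQ
    have h2 : Q' = P := by
      by_contra h
      exact hcon Q' h hQ'
    rw [h1, h2]
  have h1 := HE.card_fix
  have h2 := H.hn1
  have h3 : Nat.card {Q : Sylow p G // E ≤ normalizer ((Q : Subgroup G) : Set G)} ≤ 1 :=
    Finite.card_le_one_iff_subsingleton.2 hsub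
  omega

theorem conj_mem_E (H : Geo p P e n) (HE : GeoE p P e n E) (z : G) (hz : z ∈ E)
    (hz2 : orderOf z = 2) (c : G) (hc : c * z = z * c) (x : G) (hx : x ∈ E) :
    c * x * c⁻¹ ∈ E := by
  obtain ⟨Q₀, hQ₀, hEQ₀⟩ := exists_Q0 H HE
  have hz1 : z ≠ 1 := by
    rintro rfl
    simp at hz2
  have key : ∀ Q : Sylow p G, E ≤ normalizer ((Q : Subgroup G) : Set G) →
      E ≤ normalizer (((c • Q : Sylow p G) : Subgroup G) : Set G) := by
    intro Q hQ
    apply HE.fix z hz hz1
    rw [mem_norm_iff, ← mul_smul, ← hc, mul_smul, mem_norm_iff.1 (hQ hz)]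
  have key2 : ∀ Q : Sylow p G, E ≤ normalizer ((Q : Subgroup G) : Set G) →
      c * x * c⁻¹ ∈ normalizer (((c • Q : Sylow p G) : Subgroup G) : Set G) := by
    intro Q hQ
    rw [mem_norm_iff, ← mul_smul, inv_mul_cancel_right, mul_smul, mem_norm_iff.1 (hQ hx)]
  have hne : c • P ≠ c • Q₀ := by
    intro h
    exact hQ₀ (smul_left_cancel c h).symm
  rw [← HE.stab (c • P) (c • Q₀) hne (key P HE.le) (key Q₀ hEQ₀)]
  exact ⟨key2 P HE.le, key2 Q₀ hEQ₀⟩

/-- `⊇`: `m z m⁻¹ ∈ E` has order `2` and a cyclic group has at most one element of order `2`.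
`⊆`: let `c ∈ C(z)` and `Q₀ ≠ P` fixed by `E` (`card_fix`, `n ≥ 1`).  `z = c z c⁻¹` fixes `c • P`
and `c • Q₀`, so `E` fixes them (`HE.fix`), and `c E c⁻¹ ≤ N(c • P) ∩ N(c • Q₀) = E` (`HE.stab`). -/
theorem cent_z (H : Geo p P e n) (HE : GeoE p P e n E) (z : G) (hz : z ∈ E)
    (hz2 : orderOf z = 2) : centralizer ({z} : Set G) = normalizer (E : Set G) := by
  apply le_antisymm
  · intro c hc
    rw [Subgroup.mem_centralizer_singleton_iff] at hc
    rw [Subgroup.mem_set_normalizer_iff]
    intro x
    constructor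
    · intro hx
      exact conj_mem_E H HE z hz hz2 c hc x hx
    · intro hx
      have hc' : c⁻¹ * z = z * c⁻¹ := by
        rw [inv_mul_eq_iff_eq_mul, ← mul_assoc, hc, mul_inv_cancel_right]
      have := conj_mem_E H HE z hz hz2 c⁻¹ hc' _ hx
      simpa [mul_assoc] using this
  · intro m hm
    rw [Subgroup.mem_centralizer_singleton_iff]
    have h1 : m * z * m⁻¹ ∈ E := ((Subgroup.mem_set_normalizer_iff).1 hm z).1 hz
    have h2 : orderOf (m * z * m⁻¹) = 2 := by
      rw [← hz2]
      exact MulEquiv.orderOf_eq (MulAut.conj m) z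
    have := invol_unique HE.cyc h1 hz h2 hz2
    exact mul_inv_eq_iff_eq_mul.1 this

/-- each conjugate of `z` fixes exactly `n + 1` Sylow subgroups (`HE.fix`, `HE.card_fix`). -/
theorem card_fix_conj (H : Geo p P e n) (HE : GeoE p P e n E) (z : G) (hz : z ∈ E)
    (hz2 : orderOf z = 2) (i : G) (hi : IsConj z i) :
    Nat.card {Q : Sylow p G // i • Q = Q} = n + 1 := by
  obtain ⟨g, rfl⟩ := isConj_iff.1 hi
  have hz1 : z ≠ 1 := by
    rintro rfl
    simp at hz2
  rw [← HE.card_fix]
  apply Nat.card_congr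
  refine Equiv.subtypeEquiv (MulAction.toPerm g⁻¹) ?_
  intro Q
  show _ ↔ E ≤ normalizer (((g⁻¹ • Q : Sylow p G) : Subgroup G) : Set G)
  constructor
  · intro hQ
    apply HE.fix z hz hz1
    rw [mem_norm_iff]
    conv_rhs => rw [← hQ]
    simp only [← mul_smul]
    congr 1
    group
  · intro hQ
    have h1 := mem_norm_iff.1 (hQ hz)
    rw [mul_smul, mul_smul, h1, smul_inv_smul]

/-- `|G| = (1 + n p) p e`, `|C(z)| = e (n + 1)`. -/
theorem card_class (H : Geo p P e n) (HE : GeoE p P e n E) (z : G) (hz : z ∈ E)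
    (hz2 : orderOf z = 2) :
    Nat.card {i : G // IsConj z i} * (n + 1) = (1 + n * p) * p := by
  have h1 : (centralizer ({z} : Set G)).index = Nat.card {i : G // IsConj z i} :=
    Cfsg.Agent.Lib.Helper73Class.index_centralizer_eq_card z
  have h2 := Subgroup.card_mul_index (centralizer ({z} : Set G))
  rw [cent_z H HE z hz hz2, HE.card_M] at h2
  rw [cent_z H HE z hz hz2] at h1
  have h3 := Subgroup.card_mul_index (normalizer ((P : Subgroup G) : Set G))
  have h4 : (normalizer ((P : Subgroup G) : Set G)).index = 1 + n * p := by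
    rw [← H.hn]
    exact (Sylow.card_eq_index_normalizer P).symm
  rw [H.hN, h4] at h3
  rw [← h1]
  have he : 0 < e := by have := H.he; omega
  apply Nat.eq_of_mul_eq_mul_left he
  calc e * ((normalizer (E : Set G)).index * (n + 1))
      = e * (n + 1) * (normalizer (E : Set G)).index := by ring
    _ = Nat.card G := h2
    _ = p * e * (1 + n * p) := h3.symm
    _ = e * ((1 + n * p) * p) := by ring

end Cfsg.Agent.Lib.H59BRInvA
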