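import Mathlib

/-!
# A field from a large commutative semiregular group of automorphisms
-/

set_option autoImplicit false

universe u v

namespace Cfsg.Agent.Lib.Helper26Fld

section

variable {A : Type u} [AddCommGroup A] [Finite A] {D : Type v} [Group D] [DistribMulAction D A]

omit [Finite A] in
theorem smul_injective_of_semireg
    (hsemi : ∀ (d : D) (a : A), a ≠ 0 → d • a = a → d = 1) {a : A} (ha : a ≠ 0) :
    Function.Injective (fun d : D => d • a) := by
  intro d d' h
  have h1 : (d'⁻¹ * d) • a = a := by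
    rw [mul_smul]
    change d'⁻¹ • (d • a) = a
    have h' : d • a = d' • a := h
    rw [h', inv_smul_smul]
  have := hsemi _ a ha h1
  rw [inv_mul_eq_one] at this
  exact this.symm

theorem finite_of_semireg (hsemi : ∀ (d : D) (a : A), a ≠ 0 → d • a = a → d = 1) {a : A}
    (ha : a ≠ 0) : Finite D :=
  Finite.of_injective _ (smul_injective_of_semireg hsemi ha)

/-- An invariant subgroup is trivial or everything. -/
theorem invariant_eq (hsemi : ∀ (d : D) (a : A), a ≠ 0 → d • a = a → d = 1)
    (hcard : Nat.card A ≤ 2 * Nat.card D + 1) (W : AddSubgroup A)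
    (hW : ∀ (d : D), ∀ a ∈ W, d • a ∈ W) : W = ⊥ ∨ W = ⊤ := by
  by_contra hcon
  push Not at hcon
  obtain ⟨hb, ht⟩ := hcon
  obtain ⟨w, hwW, hw0⟩ : ∃ w ∈ W, w ≠ 0 := by
    by_contra hc
    push Not at hc
    exact hb ((AddSubgroup.eq_bot_iff_forall _).2 hc)
  obtain ⟨x, hx⟩ : ∃ x : A, x ∉ W := by
    by_contra hc
    push Not at hc
    exact ht ((AddSubgroup.eq_top_iff' _).2 hc)
  have hx0 : x ≠ 0 := by
    rintro rfl
    exact hx W.zero_mem
  have : Finite D := finite_of_semireg hsemi hw0
  -- `D + 1 ≤ W`
  have h1 : Nat.card D + 1 ≤ Nat.card W := by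
    rw [← Finite.card_option]
    apply Nat.card_le_card_of_injective
      (fun o : Option D => (o.elim (⟨0, W.zero_mem⟩ : W) (fun d => ⟨d • w, hW d w hwW⟩)))
    intro o o' h
    cases o with
    | none =>
      cases o' with
      | none => rfl
      | some d' =>
        exfalso
        have h' : (0 : A) = d' • w := congrArg Subtype.val h
        exact hw0 ((smul_eq_zero_iff_eq d').1 h'.symm)
    | some d =>
      cases o' with
      | none =>
        exfalso
        have h' : d • w = (0 : A) := congrArg Subtype.val h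
        exact hw0 ((smul_eq_zero_iff_eq d).1 h')
      | some d' =>
        have h' : d • w = d' • w := congrArg Subtype.val h
        rw [smul_injective_of_semireg hsemi hw0 h']
  have h2 : Nat.card D ≤ ((W : Set A)ᶜ).ncard := by
    rw [← Nat.card_coe_set_eq]
    apply Nat.card_le_card_of_injective
      (fun d : D => (⟨d • x, fun hd => hx (by
        have := hW d⁻¹ _ hd
        rwa [inv_smul_smul] at this)⟩ : ((W : Set A)ᶜ : Set A)))
    intro d d' h
    have h' : d • x = d' • x := congrArg Subtype.val h
    exact smul_injective_of_semireg hsemi hx0 h'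
  have h3 : (W : Set A).ncard + ((W : Set A)ᶜ).ncard = Nat.card A := Set.ncard_add_ncard_compl _
  have h4 : (W : Set A).ncard = Nat.card W := (Nat.card_coe_set_eq _).symm
  have h5 : Nat.card W ∣ Nat.card A := AddSubgroup.card_addSubgroup_dvd_card W
  have h6 : Nat.card A + 1 = 2 * Nat.card W := by omega
  have h7 : Nat.card W ∣ 1 := by
    have : Nat.card W ∣ Nat.card A + 1 := h6 ▸ Dvd.intro_left 2 rfl
    exact (Nat.dvd_add_right h5).1 this
  have h8 : Nat.card W = 1 := Nat.dvd_one.1 h7
  have h9 : 0 < Nat.card D := Nat.card_pos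
  omega

end

/-- Every finite field has a copy in `Type`. -/
theorem exists_small (K : Type u) [Field K] [Finite K] :
    ∃ (F : Type) (_ : Field F) (_ : Fintype F), Nonempty (F ≃+* K) := by
  let ε := (Finite.equivFin K).symm
  exact ⟨Fin (Nat.card K), ε.field, inferInstance, ⟨ε.ringEquiv⟩⟩


section

variable {A : Type u} [AddCommGroup A] [Finite A] {D : Type v} [Group D] [DistribMulAction D A]

omit [Finite A] in
theorem of_commRing (K : Type u) [CommRing K] [IsDomain K] [Finite K] (e : A) (φ : K ≃+ A)
    (χ : D →* K) (h1 : φ 1 = e) (h2 : ∀ (d : D) (k : K), d • φ k = φ (χ d * k)) :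
    ∃ (K' : Type u) (_ : Field K') (_ : Finite K') (φ : K' ≃+ A) (χ : D →* K'ˣ),
      φ 1 = e ∧ ∀ (d : D) (k : K'), d • φ k = φ (χ d * k) := by
  letI : Field K := (Finite.isField_of_domain K).toField
  exact ⟨K, inferInstance, inferInstance, φ, χ.toHomUnits, h1, fun d k => h2 d k⟩

theorem exists_field_aux (hcomm : ∀ d d' : D, d * d' = d' * d)
    (hsemi : ∀ (d : D) (a : A), a ≠ 0 → d • a = a → d = 1)
    (hcard : Nat.card A ≤ 2 * Nat.card D + 1) (e : A) (he : e ≠ 0) :
    ∃ (K : Type u) (_ : Field K) (_ : Finite K) (φ : K ≃+ A) (χ : D →* Kˣ),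
      φ 1 = e ∧ ∀ (d : D) (k : K), d • φ k = φ (χ d * k) := by
  let ι : D →* AddMonoid.End A := DistribMulAction.toAddMonoidEnd D A
  have hι : ∀ (d : D) (a : A), ι d a = d • a := fun d a => rfl
  have hs : ∀ a ∈ Set.range ι, ∀ b ∈ Set.range ι, a * b = b * a := by
    rintro _ ⟨d, rfl⟩ _ ⟨d', rfl⟩
    rw [← map_mul, ← map_mul, hcomm]
  letI : CommRing (Subring.closure (Set.range ι)) := Subring.closureCommRingOfComm hs
  have hfinEnd : Finite (AddMonoid.End A) :=
    Finite.of_injective (fun f : AddMonoid.End A => (f : A → A)) DFunLike.coe_injective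
  have hfin : Finite (Subring.closure (Set.range ι)) := inferInstance
  have hcommd : ∀ (k : Subring.closure (Set.range ι)) (d : D) (a : A),
      (k : AddMonoid.End A) (d • a) = d • (k : AddMonoid.End A) a := by
    intro k d a
    have h1 := mul_comm k ⟨ι d, Subring.subset_closure ⟨d, rfl⟩⟩
    have h2 : (k : AddMonoid.End A) * ι d = ι d * (k : AddMonoid.End A) :=
      congrArg Subtype.val h1
    exact congrArg (fun f : AddMonoid.End A => f a) h2
  have hker : ∀ (k : Subring.closure (Set.range ι)), k ≠ 0 → ∀ a : A,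
      (k : AddMonoid.End A) a = 0 → a = 0 := by
    intro k hk a ha
    rcases invariant_eq hsemi hcard (AddMonoidHom.ker (k : A →+ A)) (by
      intro d x hx
      rw [AddMonoidHom.mem_ker] at hx ⊢
      have := hcommd k d x
      rw [show (k : AddMonoid.End A) x = 0 from hx, smul_zero] at this
      exact this) with h0 | h0
    · have : a ∈ AddMonoidHom.ker (k : A →+ A) := ha
      rw [h0] at this
      exact this
    · exfalso
      apply hk
      apply Subtype.ext
      ext x
      have : x ∈ AddMonoidHom.ker (k : A →+ A) := by rw [h0]; trivial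
      exact this
  have hnt : Nontrivial (Subring.closure (Set.range ι)) := by
    refine ⟨⟨0, 1, ?_⟩⟩
    intro h01
    have : ((0 : Subring.closure (Set.range ι)) : AddMonoid.End A) e
        = ((1 : Subring.closure (Set.range ι)) : AddMonoid.End A) e := by rw [h01]
    exact he this.symm
  have hnzd : NoZeroDivisors (Subring.closure (Set.range ι)) := by
    refine ⟨?_⟩
    intro k k' hkk
    by_contra hcon
    push Not at hcon
    obtain ⟨hk, hk'⟩ := hcon
    apply hk'
    apply Subtype.ext
    ext x
    have h1 : ((k * k' : Subring.closure (Set.range ι)) : AddMonoid.End A) x = 0 := by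
      rw [hkk]; rfl
    exact hker k hk _ h1
  have hdom : IsDomain (Subring.closure (Set.range ι)) := NoZeroDivisors.to_isDomain _
  let ev : Subring.closure (Set.range ι) →+ A :=
    { toFun := fun k => (k : AddMonoid.End A) e
      map_zero' := rfl
      map_add' := fun _ _ => rfl }
  have hinj : Function.Injective ev := by
    rw [injective_iff_map_eq_zero]
    intro k hk
    by_contra hk0
    exact he (hker k hk0 e hk)
  have hsurj : Function.Surjective ev := by
    rcases invariant_eq hsemi hcard ev.range (by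
      rintro d _ ⟨k, rfl⟩
      exact ⟨⟨ι d, Subring.subset_closure ⟨d, rfl⟩⟩ * k, rfl⟩) with h0 | h0
    · exfalso
      have : e ∈ ev.range := ⟨1, rfl⟩
      rw [h0] at this
      exact he this
    · exact AddMonoidHom.range_eq_top.1 h0
  let χ : D →* Subring.closure (Set.range ι) :=
    { toFun := fun d => ⟨ι d, Subring.subset_closure ⟨d, rfl⟩⟩
      map_one' := Subtype.ext (map_one ι)
      map_mul' := fun d d' => Subtype.ext (map_mul ι d d') }
  exact of_commRing _ e (AddEquiv.ofBijective ev ⟨hinj, hsurj⟩) χ rfl (fun d k => rfl)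

/-- The field. -/
theorem exists_field (hcomm : ∀ d d' : D, d * d' = d' * d)
    (hsemi : ∀ (d : D) (a : A), a ≠ 0 → d • a = a → d = 1)
    (hcard : Nat.card A ≤ 2 * Nat.card D + 1) (e : A) (he : e ≠ 0) :
    ∃ (F : Type) (_ : Field F) (_ : Fintype F) (φ : F ≃+ A) (χ : D →* Fˣ),
      φ 1 = e ∧ ∀ (d : D) (k : F), d • φ k = φ (χ d * k) := by
  obtain ⟨K, _, _, φ, χ, h1, h2⟩ := exists_field_aux hcomm hsemi hcard e he
  obtain ⟨F, _, _, ⟨ε⟩⟩ := exists_small K
  refine ⟨F, inferInstance, inferInstance, ε.toAddEquiv.trans φ,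
    (Units.map ε.symm.toMonoidHom).comp χ, ?_, ?_⟩
  · simp [h1]
  · intro d k
    simp [h2]

end

end Cfsg.Agent.Lib.Helper26Fld
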