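import Cfsg.Agent.Lib.Helper26Rec
import Cfsg.Agent.Lib.Helper26Fld

/-!
# From a split rank one datum to `PGL₂` / `PSL₂`
-/

set_option autoImplicit false

namespace Cfsg.Agent.Lib.Helper26Dat

open OnePoint Cfsg.Agent.Lib.Helper26Mob Cfsg.Agent.Lib.Helper26Rec Cfsg.Agent.Lib.Helper26Fld

variable {G Ω : Type*} [Group G] [MulAction G Ω]

/-- The data: `U` abelian regular on the points other than `i`, `D` the abelian stabiliser of
`o` and `i`, inverted by `v` which interchanges `o` and `i`. -/
structure Datum (o i : Ω) (U D : Subgroup G) (v : G) : Prop where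
  faithful : ∀ g : G, (∀ x : Ω, g • x = x) → g = 1
  ne : o ≠ i
  U_fix : ∀ u ∈ U, u • i = i
  U_trans : ∀ y : Ω, y ≠ i → ∃ u ∈ U, u • o = y
  U_free : ∀ u ∈ U, u • o = o → u = 1
  U_comm : ∀ u ∈ U, ∀ u' ∈ U, u * u' = u' * u
  U_ne : U ≠ ⊥
  D_iff : ∀ g : G, g ∈ D ↔ g • o = o ∧ g • i = i
  D_norm : ∀ d ∈ D, ∀ u ∈ U, d * u * d⁻¹ ∈ U
  D_comm : ∀ d ∈ D, ∀ d' ∈ D, d * d' = d' * d
  D_free : ∀ d ∈ D, ∀ x : Ω, x ≠ o → x ≠ i → d • x = x → d = 1
  v_o : v • o = i
  v_i : v • i = o
  v_inv : ∀ d ∈ D, v * d * v⁻¹ = d⁻¹
  card : Nat.card U ≤ 2 * Nat.card D + 1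

variable {o i : Ω} {U D : Subgroup G} {v : G}

theorem Datum.smul_o_ne (h : Datum o i U D v) {u : G} (hu : u ∈ U) : u • o ≠ i := by
  intro h1
  have h2 : u⁻¹ • i = i := h.U_fix _ (U.inv_mem hu)
  rw [← h1, inv_smul_smul] at h2
  exact h.ne (h2.trans h1)

theorem Datum.conj_free (h : Datum o i U D v) {d u : G} (hd : d ∈ D) (hu : u ∈ U) (hu1 : u ≠ 1)
    (hdu : d * u * d⁻¹ = u) : d = 1 := by
  apply h.D_free d hd (u • o)
  · intro h1
    exact hu1 (h.U_free u hu h1)
  · exact h.smul_o_ne hu
  · have h1 : d * u = u * d := by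
      have := congrArg (· * d) hdu
      simpa [mul_assoc] using this
    rw [← mul_smul, h1, mul_smul, ((h.D_iff d).1 hd).1]

theorem Datum.exists_coord [Finite U] (h : Datum o i U D v) :
    ∃ (F : Type) (_ : Field F) (_ : Fintype F) (uu : F → G) (χ : D →* Fˣ),
      (∀ k, uu k ∈ U) ∧ (∀ a b, uu (a + b) = uu a * uu b) ∧ (∀ u ∈ U, ∃ k, uu k = u) ∧
      Function.Injective uu ∧ (∀ (d : D) k, (d : G) * uu k * (d : G)⁻¹ = uu (χ d * k)) := by
  letI : CommGroup U :=
    { (inferInstance : Group U) with
      mul_comm := fun a b => Subtype.ext (h.U_comm a a.2 b b.2) }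
  letI : DistribMulAction D (Additive U) :=
    { smul := fun d a => Additive.ofMul
        ⟨(d : G) * (Additive.toMul a : U) * (d : G)⁻¹, h.D_norm d d.2 _ (Additive.toMul a).2⟩
      one_smul := fun u => by
        apply Additive.toMul.injective
        apply Subtype.ext
        change ((1 : D) : G) * (Additive.toMul u : U) * ((1 : D) : G)⁻¹ = (Additive.toMul u : U)
        simp
      mul_smul := fun d d' u => by
        apply Additive.toMul.injective
        apply Subtype.ext
        change ((d * d' : D) : G) * (Additive.toMul u : U) * ((d * d' : D) : G)⁻¹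
          = (d : G) * ((d' : G) * (Additive.toMul u : U) * (d' : G)⁻¹) * (d : G)⁻¹
        simp [mul_assoc]
      smul_add := fun d u u' => by
        apply Additive.toMul.injective
        apply Subtype.ext
        change (d : G) * ((Additive.toMul u * Additive.toMul u' : U) : G) * (d : G)⁻¹
          = ((d : G) * (Additive.toMul u : U) * (d : G)⁻¹)
            * ((d : G) * (Additive.toMul u' : U) * (d : G)⁻¹)
        simp [mul_assoc]
      smul_zero := fun d => by
        apply Additive.toMul.injective
        apply Subtype.ext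
        change (d : G) * ((1 : U) : G) * (d : G)⁻¹ = 1
        simp }
  obtain ⟨u₀, hu₀U, hu₀⟩ : ∃ u ∈ U, u ≠ 1 := by
    by_contra hc
    push Not at hc
    exact h.U_ne ((Subgroup.eq_bot_iff_forall _).2 hc)
  obtain ⟨F, iF, iFt, φ, χ, -, h2⟩ := exists_field (A := Additive U) (D := D)
    (fun d d' => Subtype.ext (h.D_comm d d.2 d' d'.2))
    (by
      intro d a ha hda
      apply Subtype.ext
      apply h.conj_free d.2 (Additive.toMul a).2 (u := (Additive.toMul a : U))
      · intro h1
        apply ha
        have : Additive.toMul a = 1 := Subtype.ext h1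
        exact this
      · have := congrArg (fun x : Additive U => ((Additive.toMul x : U) : G)) hda
        exact this)
    (by rw [show Nat.card (Additive U) = Nat.card U from rfl]; exact h.card)
    (Additive.ofMul ⟨u₀, hu₀U⟩)
    (by
      intro h1
      apply hu₀
      exact congrArg (fun x : Additive U => ((Additive.toMul x : U) : G)) h1)
  refine ⟨F, iF, iFt, fun k => ((Additive.toMul (φ k) : U) : G), χ, fun k => (Additive.toMul (φ k)).2,
    ?_, ?_, ?_, ?_⟩
  · intro a b
    change ((Additive.toMul (φ (a + b)) : U) : G) = _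
    rw [map_add]; rfl
  · intro u hu
    refine ⟨φ.symm (Additive.ofMul ⟨u, hu⟩), ?_⟩
    simp
  · intro a b hab
    apply φ.injective
    have : Additive.toMul (φ a) = Additive.toMul (φ b) := Subtype.ext hab
    exact this
  · intro d k
    have := congrArg (fun x : Additive U => ((Additive.toMul x : U) : G)) (h2 d k)
    exact this


open Matrix MatrixGroups in
/-- The recognition theorem. -/
theorem Datum.main [Finite G] (h : Datum o i U D v) :
    ∃ (F : Type) (_ : Field F) (_ : Fintype F), Fintype.card F = Nat.card U ∧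
      ((Nat.card D + 1 = Nat.card U ∧ Nonempty (G ≃* ProjGenLinGroup (Fin 2) F)) ∨
       (2 * Nat.card D + 1 = Nat.card U ∧ ringChar F ≠ 2 ∧
          Nonempty (G ≃* ProjectiveSpecialLinearGroup (Fin 2) F))) := by
  classical
  obtain ⟨F, iF, iFt, uu, χ, huU, hadd, hsurj, hinj, hconj⟩ := h.exists_coord
  have hu0 : uu 0 = 1 := by
    have := hadd 0 0
    rw [add_zero] at this
    exact (mul_eq_left.1 this.symm)
  have hcardF : Fintype.card F = Nat.card U := by
    rw [← Nat.card_eq_fintype_card]
    apply Nat.card_congr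
    exact Equiv.ofBijective (fun k => (⟨uu k, huU k⟩ : U))
      ⟨fun a b hab => hinj (congrArg Subtype.val hab), fun u => by
        obtain ⟨k, hk⟩ := hsurj u u.2
        exact ⟨k, Subtype.ext hk⟩⟩
  -- the coordinate bijection
  let E₀ : OnePoint F → Ω := fun x => x.elim i (fun k => uu k • o)
  have hE₀inf : E₀ ∞ = i := rfl
  have hE₀coe : ∀ k : F, E₀ (k : OnePoint F) = uu k • o := fun k => rfl
  have hE₀bij : Function.Bijective E₀ := by
    constructor
    · intro x y hxy
      cases x with
      | infty =>
        cases y with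
        | infty => rfl
        | coe b =>
          rw [hE₀inf, hE₀coe] at hxy
          exact absurd hxy.symm (h.smul_o_ne (huU b))
      | coe a =>
        cases y with
        | infty =>
          rw [hE₀inf, hE₀coe] at hxy
          exact absurd hxy (h.smul_o_ne (huU a))
        | coe b =>
          rw [hE₀coe, hE₀coe] at hxy
          have h1 : ((uu b)⁻¹ * uu a) • o = o := by
            rw [mul_smul, hxy, inv_smul_smul]
          have h2 := h.U_free _ (U.mul_mem (U.inv_mem (huU b)) (huU a)) h1
          rw [inv_mul_eq_one] at h2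
          rw [hinj h2]
    · intro y
      by_cases hy : y = i
      · exact ⟨∞, hy ▸ hE₀inf⟩
      · obtain ⟨u, hu, huy⟩ := h.U_trans y hy
        obtain ⟨k, hk⟩ := hsurj u hu
        exact ⟨(k : OnePoint F), by rw [hE₀coe, hk, huy]⟩
  let E : OnePoint F ≃ Ω := Equiv.ofBijective E₀ hE₀bij
  have hEinf : E ∞ = i := rfl
  have hEcoe : ∀ k : F, E (k : OnePoint F) = uu k • o := fun k => rfl
  have hE0 : E ((0 : F) : OnePoint F) = o := by rw [hEcoe, hu0, one_smul]
  let ρ : G →* Equiv.Perm (OnePoint F) :=
    { toFun := fun g => (E.trans (MulAction.toPerm g)).trans E.symm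
      map_one' := by
        ext x
        simp
      map_mul' := fun g g' => by
        ext x
        simp [mul_smul] }
  have hρ : ∀ (g : G) (x : OnePoint F), E (ρ g x) = g • E x := by
    intro g x
    simp [ρ]
  have hρeq : ∀ (g : G) (x y : OnePoint F), g • E x = E y → ρ g x = y := by
    intro g x y hxy
    apply E.injective
    rw [hρ, hxy]
  have hρinj : Function.Injective ρ := by
    rw [injective_iff_map_eq_one]
    intro g hg
    apply h.faithful
    intro x
    have := hρ g (E.symm x)
    rw [hg] at this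
    simpa using this.symm
  have hρT : ∀ b : F, ρ (uu b) = T b := by
    intro b
    apply perm_ext
    · rw [T_infty]
      apply hρeq
      rw [hEinf]
      exact h.U_fix _ (huU b)
    · intro x
      rw [T_coe]
      apply hρeq
      rw [hEcoe, hEcoe, add_comm, hadd, mul_smul]
  have hρM : ∀ d : D, ρ (d : G) = M (χ d) := by
    intro d
    obtain ⟨hdo, hdi⟩ := (h.D_iff d).1 d.2
    apply perm_ext
    · rw [M_infty]
      apply hρeq
      rw [hEinf]
      exact hdi
    · intro x
      rw [M_coe]
      apply hρeq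
      rw [hEcoe, hEcoe, ← hconj, mul_smul, mul_smul, ← mul_smul _ _ o]
      have : (d : G)⁻¹ • o = o := by
        rw [inv_smul_eq_iff, hdo]
      rw [mul_smul, this]
  have hχinj : Function.Injective χ := by
    rw [injective_iff_map_eq_one]
    intro d hd
    have h1 := hρM d
    rw [hd] at h1
    have h2 : ρ (d : G) = 1 := by
      rw [h1]
      apply perm_ext
      · simp
      · intro x; simp
    exact Subtype.ext (hρinj (h2.trans (map_one ρ).symm))
  have hcond : Cond ρ.range χ.range (ρ v) :=
    { T_mem := fun b => ⟨uu b, hρT b⟩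
      stab := by
        intro π h1 h0
        constructor
        · rintro ⟨g, rfl⟩
          have hg : g ∈ D := by
            rw [h.D_iff]
            constructor
            · have := hρ g ((0 : F) : OnePoint F)
              rw [h0, hE0] at this
              exact this.symm
            · have := hρ g ∞
              rw [h1, hEinf] at this
              exact this.symm
          exact ⟨χ ⟨g, hg⟩, ⟨_, rfl⟩, hρM ⟨g, hg⟩⟩
        · rintro ⟨_, ⟨d, rfl⟩, rfl⟩
          exact ⟨d, hρM d⟩
      v_mem := ⟨v, rfl⟩
      v_infty := by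
        apply hρeq
        rw [hEinf, hE0, h.v_i]
      v_zero := by
        apply hρeq
        rw [hEinf, hE0, h.v_o]
      v_inv := by
        rintro _ ⟨d, rfl⟩
        rw [← hρM, ← map_inv, ← map_mul, ← map_mul, h.v_inv d d.2, ← map_inv χ, ← hρM]
        rfl }
  have hcardS : Nat.card χ.range = Nat.card D :=
    (Nat.card_congr (MonoidHom.ofInjective hχinj).toEquiv).symm
  have hcardU : Nat.card Fˣ + 1 = Nat.card U := by
    rw [← hcardF, Nat.card_eq_fintype_card, Fintype.card_units]
    have : 0 < Fintype.card F := Fintype.card_pos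
    omega
  have hidx : χ.range.index * Nat.card D = Nat.card Fˣ := by
    rw [← hcardS, mul_comm]
    exact Subgroup.card_mul_index _
  have hDpos : 0 < Nat.card D := Nat.card_pos
  have hidx2 : χ.range.index ≤ 2 := by
    by_contra hc
    push Not at hc
    have h1 : 3 * Nat.card D ≤ χ.range.index * Nat.card D := Nat.mul_le_mul_right _ hc
    have h2 := h.card
    omega
  have hidx0 : χ.range.index ≠ 0 := Subgroup.index_ne_zero_of_finite
  have hS2 : ∀ a : Fˣ, a ^ 2 ∈ χ.range := by
    intro a
    have : χ.range.index = 1 ∨ χ.range.index = 2 := by omega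
    rcases this with h1 | h1
    · rw [Subgroup.index_eq_one.1 h1]; trivial
    · exact Subgroup.sq_mem_of_index_two h1 a
  have hG : Nonempty (G ≃* ρ.range) := ⟨MonoidHom.ofInjective hρinj⟩
  obtain ⟨eG⟩ := hG
  refine ⟨F, iF, iFt, hcardF, ?_⟩
  rcases hcond.main hS2 with ⟨hS, hΓ⟩ | ⟨hS, hF, hΓ⟩
  · left
    constructor
    · rw [Subgroup.index_eq_one.2 hS, one_mul] at hidx
      omega
    · obtain ⟨e2⟩ := nonempty_equiv_MG (F := F)
      exact ⟨(eG.trans (MulEquiv.subgroupCongr hΓ)).trans e2⟩
  · right
    refine ⟨?_, hF, ?_⟩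
    · have : χ.range.index = 2 := by
        have h1 : χ.range.index ≠ 1 := fun h1 => hS (Subgroup.index_eq_one.1 h1)
        omega
      rw [this] at hidx
      omega
    · obtain ⟨e2⟩ := nonempty_equiv_MS (F := F)
      exact ⟨(eG.trans (MulEquiv.subgroupCongr hΓ)).trans e2⟩

end Cfsg.Agent.Lib.Helper26Dat
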