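import Cfsg.Agent.S0680
import Cfsg.Agent.Lib.Helper26Dat

/-!
# Sharply triply transitive groups: the kernel of a point stabiliser, and the case of odd degree
-/

set_option autoImplicit false

namespace Cfsg.Agent.Lib.Helper26Sh3

open MulAction Cfsg.Agent.Lib.Helper26Dat

/-- Sharp triple transitivity, pointwise. -/
structure Sharp3 (G Ω : Type*) [Group G] [MulAction G Ω] : Prop where
  trans : ∀ x₁ x₂ x₃ y₁ y₂ y₃ : Ω, x₁ ≠ x₂ → x₁ ≠ x₃ → x₂ ≠ x₃ → y₁ ≠ y₂ → y₁ ≠ y₃ → y₂ ≠ y₃ →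
    ∃ g : G, g • x₁ = y₁ ∧ g • x₂ = y₂ ∧ g • x₃ = y₃
  sharp : ∀ g : G, ∀ x₁ x₂ x₃ : Ω, x₁ ≠ x₂ → x₁ ≠ x₃ → x₂ ≠ x₃ → g • x₁ = x₁ → g • x₂ = x₂ →
    g • x₃ = x₃ → g = 1

variable {G Ω : Type*} [Group G] [MulAction G Ω]

theorem Sharp3.exists_kernel [Finite Ω] (h : Sharp3 G Ω) {i o e : Ω} (hoi : o ≠ i) (hei : e ≠ i)
    (heo : e ≠ o) :
    ∃ (p j : ℕ) (U : Subgroup G), p.Prime ∧ 1 ≤ j ∧ Nat.card Ω = p ^ j + 1 ∧ Nat.card U = p ^ j ∧
      (∀ u ∈ U, u • i = i) ∧ (∀ u ∈ U, ∀ x, x ≠ i → u • x = x → u = 1) ∧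
      (∀ y, y ≠ i → ∃ u ∈ U, u • o = y) ∧ (∀ u ∈ U, ∀ u' ∈ U, u * u' = u' * u) ∧
      (∀ u ∈ U, u ^ p = 1) ∧ (∀ g : G, g • i = i → ∀ u ∈ U, g * u * g⁻¹ ∈ U) := by
  classical
  have : Fintype (SubMulAction.ofStabilizer G i) := Fintype.ofFinite _
  have hne : ∀ x : SubMulAction.ofStabilizer G i, (x : Ω) ≠ i := fun x =>
    SubMulAction.neq_of_mem_ofStabilizer G i
  have h2t : IsMultiplyPretransitive (stabilizer G i) (SubMulAction.ofStabilizer G i) 2 := by
    rw [is_two_pretransitive_iff]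
    intro a b c d hab hcd
    obtain ⟨g, h1, h2, h3⟩ := h.trans i a b i c d (hne a).symm (hne b).symm
      (fun hh => hab (Subtype.ext hh)) (hne c).symm (hne d).symm (fun hh => hcd (Subtype.ext hh))
    exact ⟨⟨g, h1⟩, Subtype.ext h2, Subtype.ext h3⟩
  have hsh : ∀ (g : stabilizer G i) (a b : SubMulAction.ofStabilizer G i), a ≠ b → g • a = a →
      g • b = b → g = 1 := by
    intro g a b hab ha hb
    apply Subtype.ext
    exact h.sharp g i a b (hne a).symm (hne b).symm (fun hh => hab (Subtype.ext hh)) g.2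
      (congrArg Subtype.val ha) (congrArg Subtype.val hb)
  have hcardX : Nat.card (SubMulAction.ofStabilizer G i) + 1 = Nat.card Ω :=
    SubMulAction.nat_card_ofStabilizer_add_one_eq G i
  let o' : SubMulAction.ofStabilizer G i := ⟨o, hoi⟩
  let e' : SubMulAction.ofStabilizer G i := ⟨e, hei⟩
  have h2 : 2 ≤ Fintype.card (SubMulAction.ofStabilizer G i) := by
    have : 1 < Fintype.card (SubMulAction.ofStabilizer G i) :=
      Fintype.one_lt_card_iff.2 ⟨e', o', fun hh => heo (congrArg Subtype.val hh)⟩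
    omega
  obtain ⟨p, j, C, hp, hj, hcard, -, hCn, hCiff, hCcomm, hCp, hCcard⟩ :=
    Cfsg.Agent.S0680.core h2t hsh h2
  have hfree : ∀ c ∈ C, ∀ x : SubMulAction.ofStabilizer G i, c • x = x → c = 1 := by
    intro c hc x hx
    rcases (hCiff c).1 hc with h1 | h1
    · exact h1
    · exact absurd hx (h1 x)
  have hfinC : Finite C := Nat.finite_of_card_ne_zero (by rw [hCcard]; exact (pow_pos hp.pos j).ne')
  have htrans : ∀ y : SubMulAction.ofStabilizer G i, ∃ c ∈ C, c • o' = y := by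
    have hinj : Function.Injective (fun c : C => (c : stabilizer G i) • o') := by
      intro c c' hcc
      have h1 : ((c' : stabilizer G i)⁻¹ * c) • o' = o' := by
        rw [mul_smul]
        change (c' : stabilizer G i)⁻¹ • ((c : stabilizer G i) • o') = o'
        have hcc' : (c : stabilizer G i) • o' = (c' : stabilizer G i) • o' := hcc
        rw [hcc', inv_smul_smul]
      have h2 := hfree _ (C.mul_mem (C.inv_mem c'.2) c.2) o' h1
      rw [inv_mul_eq_one] at h2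
      exact Subtype.ext h2.symm
    have hbij : Function.Bijective (fun c : C => (c : stabilizer G i) • o') := by
      have : Fintype C := Fintype.ofFinite C
      rw [Fintype.bijective_iff_injective_and_card]
      refine ⟨hinj, ?_⟩
      rw [hcard, ← hCcard, Nat.card_eq_fintype_card]
    intro y
    obtain ⟨c, hc⟩ := hbij.2 y
    exact ⟨c, c.2, hc⟩
  refine ⟨p, j, C.map (stabilizer G i).subtype, hp, hj, ?_, ?_, ?_, ?_, ?_, ?_, ?_, ?_⟩
  · rw [← hcardX, Nat.card_eq_fintype_card, hcard]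
  · rw [Nat.card_congr (Subgroup.equivMapOfInjective C _ (Subgroup.subtype_injective _)).symm.toEquiv,
      hCcard]
  · rintro _ ⟨c, -, rfl⟩
    exact c.2
  · rintro _ ⟨c, hc, rfl⟩ x hx hcx
    have := hfree c hc ⟨x, hx⟩ (Subtype.ext hcx)
    rw [this]; rfl
  · intro y hy
    obtain ⟨c, hc, hcy⟩ := htrans ⟨y, hy⟩
    exact ⟨c, ⟨c, hc, rfl⟩, congrArg Subtype.val hcy⟩
  · rintro _ ⟨c, hc, rfl⟩ _ ⟨c', hc', rfl⟩
    exact congrArg Subtype.val (hCcomm c hc c' hc')
  · rintro _ ⟨c, hc, rfl⟩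
    exact congrArg Subtype.val (hCp c hc)
  · rintro g hg _ ⟨c, hc, rfl⟩
    exact ⟨⟨g, hg⟩ * c * ⟨g, hg⟩⁻¹, hCn.conj_mem c hc ⟨g, hg⟩, rfl⟩


theorem card_fix_mod [Fintype Ω] (s : G) (hs : s * s = 1) :
    Fintype.card Ω ≡ Nat.card (fixedBy Ω s) [MOD 2] := by
  classical
  have h := Equiv.Perm.card_fixedPoints_modEq (α := Ω) (f := MulAction.toEndHom s)
    (p := 2) (n := 1) (by rw [pow_one, ← map_pow, pow_two, hs, map_one])
  have e : Nat.card (fixedBy Ω s) = Fintype.card (Function.fixedPoints (toEndHom s : Ω → Ω)) := by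
    rw [← Nat.card_eq_fintype_card]
    rfl
  rw [e]
  exact h

omit [MulAction G Ω] in
/-- An involutory automorphism without non-trivial fixed points inverts every element. -/
theorem inv_of_fpf {D : Subgroup G} [Finite D] {v : G} (hv : v * v = 1)
    (hnorm : ∀ d ∈ D, v * d * v⁻¹ ∈ D) (hfix : ∀ d ∈ D, v * d * v⁻¹ = d → d = 1) :
    ∀ d ∈ D, v * d * v⁻¹ = d⁻¹ := by
  have hvi : v⁻¹ = v := inv_eq_of_mul_eq_one_left hv
  have hinj : Function.Injective
      (fun d : D => (⟨(d : G)⁻¹ * (v * d * v⁻¹), D.mul_mem (D.inv_mem d.2) (hnorm d d.2)⟩ : D)) := by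
    intro d d' hdd
    have h1 : (d : G)⁻¹ * (v * d * v⁻¹) = (d' : G)⁻¹ * (v * d' * v⁻¹) := congrArg Subtype.val hdd
    have h2 : v * ((d' : G) * (d : G)⁻¹) * v⁻¹ = (d' : G) * (d : G)⁻¹ := by
      have h3 : v * ((d' : G) * (d : G)⁻¹) * v⁻¹ = (v * d' * v⁻¹) * (v * d * v⁻¹)⁻¹ := by group
      rw [h3, mul_inv_eq_iff_eq_mul]
      have h6 : (d' : G) * (d : G)⁻¹ * (v * d * v⁻¹) = (d' : G) * ((d : G)⁻¹ * (v * d * v⁻¹)) :=
        mul_assoc _ _ _
      rw [h6, h1]
      group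
    have h4 := hfix _ (D.mul_mem d'.2 (D.inv_mem d.2)) h2
    rw [mul_inv_eq_one] at h4
    exact Subtype.ext h4.symm
  have hsurj := Finite.surjective_of_injective hinj
  intro x hx
  obtain ⟨d, hd⟩ := hsurj ⟨x, hx⟩
  have hd' : (d : G)⁻¹ * (v * d * v⁻¹) = x := congrArg Subtype.val hd
  rw [← hd', hvi]
  have : v * ((d : G)⁻¹ * (v * d * v)) * v = (v * (d : G)⁻¹ * v) * d * (v * v) := by
    group
  rw [this, hv]
  have h5 : (v * (d : G) * v)⁻¹ = v * (d : G)⁻¹ * v := by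
    rw [mul_inv_rev, mul_inv_rev, hvi, mul_assoc]
  rw [mul_inv_rev, h5]
  simp

omit [MulAction G Ω] in
theorem comm_of_inv {D : Subgroup G} {v : G} (hinv : ∀ d ∈ D, v * d * v⁻¹ = d⁻¹) :
    ∀ d ∈ D, ∀ d' ∈ D, d * d' = d' * d := by
  intro d hd d' hd'
  have h1 := hinv _ (D.mul_mem hd hd')
  have h2 : v * (d * d') * v⁻¹ = (v * d * v⁻¹) * (v * d' * v⁻¹) := by group
  rw [h2, hinv d hd, hinv d' hd', ← mul_inv_rev, inv_inj] at h1
  exact h1.symm

theorem ringChar_eq_two {F : Type*} [Field F] [Fintype F] {j : ℕ} (h : Fintype.card F = 2 ^ j) :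
    ringChar F = 2 := by
  have h1 : ((Fintype.card F : ℕ) : F) = 0 := Nat.cast_card_eq_zero F
  rw [h, Nat.cast_pow] at h1
  have h2 : ((2 : ℕ) : F) = 0 := by
    have hj : j ≠ 0 := by
      rintro rfl
      simp at h1
    exact (pow_eq_zero_iff hj).1 h1
  have h3 : ringChar F ∣ 2 := (ringChar.spec F 2).1 h2
  rcases (Nat.dvd_prime Nat.prime_two).1 h3 with h4 | h4
  · exact absurd h4 CharP.ringChar_ne_one
  · exact h4

open Matrix MatrixGroups in
/-- Sharply triply transitive groups of odd degree. -/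
theorem Sharp3.main_odd [Finite G] [Finite Ω] (h : Sharp3 G Ω) (hodd : Odd (Nat.card Ω))
    (h3 : 3 ≤ Nat.card Ω) :
    ∃ (a : ℕ) (F : Type) (_ : Field F) (_ : Fintype F), 1 ≤ a ∧ Nat.card Ω = 2 ^ a + 1 ∧
      Fintype.card F = 2 ^ a ∧ Nonempty (G ≃* ProjGenLinGroup (Fin 2) F) ∧
      Nonempty (G ≃* ProjectiveSpecialLinearGroup (Fin 2) F) ∧
      Nonempty (G ≃* SpecialLinearGroup (Fin 2) F) := by
  classical
  have : Fintype Ω := Fintype.ofFinite Ω
  obtain ⟨i, o, e, hio, hie, hoe⟩ : ∃ a b c : Ω, a ≠ b ∧ a ≠ c ∧ b ≠ c := by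
    rw [← Fintype.two_lt_card_iff, ← Nat.card_eq_fintype_card]
    omega
  obtain ⟨p, j, U, hp, hj, hcard, hUcard, hUfix, hUfree, hUtrans, hUcomm, -, hUnorm⟩ :=
    h.exists_kernel hio.symm hie.symm hoe.symm
  have hp2 : p = 2 := by
    have h1 : Even (p ^ j) := by
      rw [hcard] at hodd
      by_contra hne
      rw [Nat.not_even_iff_odd] at hne
      have := hne.add_odd odd_one
      exact (Nat.not_even_iff_odd.2 hodd) this
    have h2 : Even p := (Nat.even_pow.1 h1).1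
    exact (hp.even_iff.1 h2)
  subst hp2
  obtain ⟨v, hvi, hvo, hve⟩ := h.trans i o e o i e hio hie hoe hio.symm hoe hie
  have hvv : v * v = 1 := by
    apply h.sharp _ i o e hio hie hoe
    · rw [mul_smul, hvi, hvo]
    · rw [mul_smul, hvo, hvi]
    · rw [mul_smul, hve, hve]
  have hv1 : v ≠ 1 := by
    rintro rfl
    rw [one_smul] at hvi
    exact hio hvi
  have hfixv : ∀ x : Ω, v • x = x → x = e := by
    intro x hx
    by_contra hxe
    have h1 := card_fix_mod (Ω := Ω) v hvv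
    have h2 : 2 < (fixedBy Ω v).ncard := by
      have h4 : 1 < (fixedBy Ω v).ncard := by
        rw [Set.one_lt_ncard_iff]
        exact ⟨x, e, hx, hve, hxe⟩
      have h5 : Odd (fixedBy Ω v).ncard := by
        rw [← Nat.card_coe_set_eq]
        rw [← Nat.card_eq_fintype_card] at h1
        rw [Nat.odd_iff] at hodd ⊢
        rw [← h1, hodd]
      rcases h5 with ⟨k, hk⟩
      omega
    rw [Set.two_lt_ncard_iff] at h2
    obtain ⟨a, b, c, ha, hb, hc, hab, hac, hbc⟩ := h2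
    exact hv1 (h.sharp v a b c hab hac hbc ha hb hc)
  have hviv : v⁻¹ = v := inv_eq_of_mul_eq_one_left hvv
  have hDmem : ∀ g : G, g ∈ stabilizer G o ⊓ stabilizer G i ↔ g • o = o ∧ g • i = i := by
    intro g
    rw [Subgroup.mem_inf, mem_stabilizer_iff, mem_stabilizer_iff]
  have hDnorm : ∀ d ∈ stabilizer G o ⊓ stabilizer G i,
      v * d * v⁻¹ ∈ stabilizer G o ⊓ stabilizer G i := by
    intro d hd
    obtain ⟨h1, h2⟩ := (hDmem d).1 hd
    rw [hDmem, hviv]
    constructor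
    · rw [mul_smul, mul_smul, hvo, h2, hvi]
    · rw [mul_smul, mul_smul, hvi, h1, hvo]
  have hDfix : ∀ d ∈ stabilizer G o ⊓ stabilizer G i, v * d * v⁻¹ = d → d = 1 := by
    intro d hd hvd
    obtain ⟨h1, h2⟩ := (hDmem d).1 hd
    have h4 : v * d = d * v := by
      have := congrArg (· * v) hvd
      simpa [mul_assoc] using this
    have h5 : v • (d • e) = d • e := by
      rw [← mul_smul, h4, mul_smul, hve]
    exact h.sharp d i o e hio hie hoe h2 h1 (hfixv _ h5)
  have hinv := inv_of_fpf hvv hDnorm hDfix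
  have hcardD : Nat.card Ω ≤ Nat.card (stabilizer G o ⊓ stabilizer G i : Subgroup G) + 2 := by
    have h1 : Nat.card (Option (Option (stabilizer G o ⊓ stabilizer G i : Subgroup G)))
        = Nat.card (stabilizer G o ⊓ stabilizer G i : Subgroup G) + 2 := by
      rw [Finite.card_option, Finite.card_option]
    rw [← h1]
    apply Nat.card_le_card_of_surjective
      (fun x : Option (Option (stabilizer G o ⊓ stabilizer G i : Subgroup G)) =>
        x.elim o (fun y => y.elim i (fun d => (d : G) • e)))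
    intro y
    by_cases hyo : y = o
    · exact ⟨none, hyo.symm⟩
    · by_cases hyi : y = i
      · exact ⟨some none, hyi.symm⟩
      · obtain ⟨g, hg1, hg2, hg3⟩ := h.trans i o e i o y hio hie hoe hio (Ne.symm hyi) (Ne.symm hyo)
        exact ⟨some (some ⟨g, (hDmem g).2 ⟨hg2, hg1⟩⟩), hg3⟩
  have hdat : Datum o i U (stabilizer G o ⊓ stabilizer G i) v :=
    { faithful := fun g hg => h.sharp g i o e hio hie hoe (hg i) (hg o) (hg e)
      ne := hio.symm
      U_fix := hUfix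
      U_trans := hUtrans
      U_free := fun u hu huo => hUfree u hu o hio.symm huo
      U_comm := hUcomm
      U_ne := by
        intro hU
        rw [hU, Subgroup.card_bot] at hUcard
        have : 2 ≤ 2 ^ j := by
          calc 2 = 2 ^ 1 := (pow_one 2).symm
            _ ≤ 2 ^ j := Nat.pow_le_pow_right (by norm_num) hj
        omega
      D_iff := hDmem
      D_norm := fun d hd u hu => hUnorm d ((hDmem d).1 hd).2 u hu
      D_comm := comm_of_inv hinv
      D_free := fun d hd x hxo hxi hdx =>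
        h.sharp d i o x hio (Ne.symm hxi) (Ne.symm hxo) ((hDmem d).1 hd).2 ((hDmem d).1 hd).1 hdx
      v_o := hvo
      v_i := hvi
      v_inv := hinv
      card := by omega }
  obtain ⟨F, iF, iFt, hF, hcases⟩ := hdat.main
  have hF2 : Fintype.card F = 2 ^ j := by rw [hF, hUcard]
  have hchar : ringChar F = 2 := ringChar_eq_two hF2
  rcases hcases with ⟨-, ⟨e1⟩⟩ | ⟨-, hne, -⟩
  · obtain ⟨e2⟩ := Cfsg.Agent.Lib.Helper26Rec.nonempty_PGL_equiv_PSL F hchar
    obtain ⟨e3⟩ := Cfsg.Agent.Lib.Helper26Rec.nonempty_PSL_equiv_SL F hchar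
    exact ⟨j, F, iF, iFt, hj, hcard, hF2, ⟨e1⟩, ⟨e1.trans e2⟩, ⟨(e1.trans e2).trans e3⟩⟩
  · exact absurd hchar hne

end Cfsg.Agent.Lib.Helper26Sh3
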