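import Cfsg.Agent.Lib.Helper26ElemCent

set_option autoImplicit false

namespace Cfsg.Agent.Lib.Helper26ElemCentB

open Cfsg.Agent.Lib.Helper26StrEmb Cfsg.Agent.Lib.Helper26ElemCent

variable {G : Type*} [Group G] [Finite G]

section general

variable {H : Subgroup G} (hH : Cfsg.IsStronglyEmbedded H)
include hH

omit [Finite G] in
theorem free {d : G} {x y : G ⧸ H} (hx : d • x = x) (hy : d • y = y) (hxy : x ≠ y)
    (hd : d * d = 1) : d = 1 := by
  by_contra hne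
  exact hxy (fixed_unique hH (orderOf_eq_two_of hd hne) hx hy)

theorem exists_invol_fix (x : G ⧸ H) : ∃ s : G, orderOf s = 2 ∧ s • x = x := by
  obtain ⟨s, hsH, hs⟩ := exists_invol_mem hH
  obtain ⟨g, rfl⟩ := QuotientGroup.mk_surjective x
  refine ⟨g * s * g⁻¹, by rw [orderOf_conj, hs], ?_⟩
  rw [smul_mk_eq_iff]
  simpa [mul_assoc] using hsH

theorem exists_swap' {x y : G ⧸ H} (hxy : x ≠ y) :
    ∃ u : G, orderOf u = 2 ∧ u • x = y ∧ u • y = x := by
  obtain ⟨s, hs, hsx⟩ := exists_invol_fix hH x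
  obtain ⟨s', hs', hsy⟩ := exists_invol_fix hH y
  obtain ⟨w, hw, _, h1, h2⟩ := exists_swap hH hs hs' hsx hsy hxy
  exact ⟨w, hw, h1, h2⟩

theorem trans_invol {x y : G ⧸ H} (hxy : x ≠ y) {u s t : G} (hu : orderOf u = 2) (hux : u • x = y)
    (hs : orderOf s = 2) (hsx : s • x = x) (ht : orderOf t = 2) (htx : t • x = x) :
    ∃ w : G, orderOf w = 2 ∧ (w * u) • x = x ∧ (w * u) • y = y ∧
      (w * u) * s * (w * u)⁻¹ = t := by
  have huy : u • y = x := by rw [← hux, ← mul_smul, sq_eq_one_of_orderOf hu, one_smul]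
  have hs' : orderOf (u * s * u⁻¹) = 2 := by rw [orderOf_conj, hs]
  have hfix' : (u * s * u⁻¹) • y = y := by
    rw [← hux, ← mul_smul]
    simp [mul_smul, hsx]
  obtain ⟨w, hw, hconj, h1, h2⟩ := exists_swap hH hs' ht hfix' htx hxy.symm
  refine ⟨w, hw, ?_, ?_, ?_⟩
  · rw [mul_smul, hux, h1]
  · rw [mul_smul, huy, h2]
  · rw [← hconj]; group

end general

section elem

variable (hC : ElemCent G) {H : Subgroup G} (hH : Cfsg.IsStronglyEmbedded H)
include hC hH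

omit [Finite G] in
theorem cent_fix {s c : G} {x : G ⧸ H} (hs : orderOf s = 2) (hsx : s • x = x)
    (hc : c * s = s * c) : c • x = x ∧ c * c = 1 := by
  constructor
  · apply fixed_unique hH hs _ hsx
    rw [← mul_smul, ← hc, mul_smul, hsx]
  · have := (hC s hs).2 c (Subgroup.mem_centralizer_singleton_iff.2 hc)
    rwa [pow_two] at this

theorem invert {x y : G ⧸ H} (hxy : x ≠ y) {u d : G} (hu : orderOf u = 2) (hux : u • x = y)
    (hdx : d • x = x) (hdy : d • y = y) : u * d * u⁻¹ = d⁻¹ := by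
  obtain ⟨s, hs, hsx⟩ := exists_invol_fix hH x
  have ht : orderOf (d * s * d⁻¹) = 2 := by rw [orderOf_conj, hs]
  have hdx' : d⁻¹ • x = x := by rw [inv_smul_eq_iff, hdx]
  have htx : (d * s * d⁻¹) • x = x := by
    rw [mul_smul, mul_smul, hdx', hsx, hdx]
  obtain ⟨w, hw, h1, h2, h3⟩ := trans_invol hH hxy hu hux hs hsx ht htx
  have hcomm : ((w * u)⁻¹ * d) * s = s * ((w * u)⁻¹ * d) := by
    have : (w * u) * s = d * s * d⁻¹ * (w * u) := by
      rw [← h3]; group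
    calc ((w * u)⁻¹ * d) * s = (w * u)⁻¹ * (d * s * d⁻¹) * d := by group
      _ = (w * u)⁻¹ * (d * s * d⁻¹ * (w * u)) * (w * u)⁻¹ * d := by group
      _ = (w * u)⁻¹ * ((w * u) * s) * (w * u)⁻¹ * d := by rw [this]
      _ = s * ((w * u)⁻¹ * d) := by group
  obtain ⟨_, hsq⟩ := cent_fix hC hH hs hsx hcomm
  have hfx : ((w * u)⁻¹ * d) • x = x := by
    rw [mul_smul, hdx, inv_smul_eq_iff, h1]
  have hfy : ((w * u)⁻¹ * d) • y = y := by
    rw [mul_smul, hdy, inv_smul_eq_iff, h2]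
  have h1' := free hH hfx hfy hxy hsq
  have hd : d = w * u := by
    rw [inv_mul_eq_one] at h1'
    exact h1'.symm
  rw [hd, mul_inv_rev, inv_eq_self_of_orderOf hu, inv_eq_self_of_orderOf hw]
  calc u * (w * u) * u = u * w * (u * u) := by group
    _ = u * w := by rw [sq_eq_one_of_orderOf hu, mul_one]

theorem stab_comm {x y : G ⧸ H} (hxy : x ≠ y) {d e : G} (hdx : d • x = x) (hdy : d • y = y)
    (hex : e • x = x) (hey : e • y = y) : d * e = e * d := by
  obtain ⟨u, hu, hux, _⟩ := exists_swap' hH hxy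
  have h1 := invert hC hH hxy hu hux hdx hdy
  have h2 := invert hC hH hxy hu hux hex hey
  have h3 := invert hC hH hxy hu hux (d := d * e) (by rw [mul_smul, hex, hdx])
    (by rw [mul_smul, hey, hdy])
  have h4 : u * (d * e) * u⁻¹ = (u * d * u⁻¹) * (u * e * u⁻¹) := by group
  rw [h4, h1, h2, mul_inv_rev] at h3
  have := congrArg (fun z => z⁻¹) h3
  simpa using this.symm

theorem factor {x y : G ⧸ H} (hxy : x ≠ y) {h : G} (hhx : h • x = x) :
    ∃ d t : G, d • x = x ∧ d • y = y ∧ t • x = x ∧ t * t = 1 ∧ h = d * t := by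
  obtain ⟨s, hs, hsx⟩ := exists_invol_fix hH x
  obtain ⟨u, hu, hux, _⟩ := exists_swap' hH hxy
  have ht : orderOf (h * s * h⁻¹) = 2 := by rw [orderOf_conj, hs]
  have hhx' : h⁻¹ • x = x := by rw [inv_smul_eq_iff, hhx]
  have htx : (h * s * h⁻¹) • x = x := by
    rw [mul_smul, mul_smul, hhx', hsx, hhx]
  obtain ⟨w, hw, h1, h2, h3⟩ := trans_invol hH hxy hu hux hs hsx ht htx
  have hcomm : ((w * u)⁻¹ * h) * s = s * ((w * u)⁻¹ * h) := by
    have : (w * u) * s = h * s * h⁻¹ * (w * u) := by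
      rw [← h3]; group
    calc ((w * u)⁻¹ * h) * s = (w * u)⁻¹ * (h * s * h⁻¹) * h := by group
      _ = (w * u)⁻¹ * (h * s * h⁻¹ * (w * u)) * (w * u)⁻¹ * h := by group
      _ = (w * u)⁻¹ * ((w * u) * s) * (w * u)⁻¹ * h := by rw [this]
      _ = s * ((w * u)⁻¹ * h) := by group
  obtain ⟨hfx, hsq⟩ := cent_fix hC hH hs hsx hcomm
  exact ⟨w * u, (w * u)⁻¹ * h, h1, h2, hfx, hsq, by group⟩

end elem

section sylow

variable (hC : ElemCent G) (T : Sylow 2 G)

/-- the normalizer of `T` -/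
abbrev NT (T : Sylow 2 G) : Subgroup G := Subgroup.normalizer ((T : Subgroup G) : Set G)

include hC in
theorem inT_iff (g t : G) :
    (t • (QuotientGroup.mk g : G ⧸ NT T) = QuotientGroup.mk g ∧ t * t = 1) ↔
      g⁻¹ * t * g ∈ (T : Subgroup G) := by
  constructor
  · rintro ⟨h1, h2⟩
    rw [smul_mk_eq_iff] at h1
    have h3 : (g⁻¹ * t * g) * (g⁻¹ * t * g) = 1 := by
      calc (g⁻¹ * t * g) * (g⁻¹ * t * g) = g⁻¹ * (t * t) * g := by group
        _ = 1 := by rw [h2]; group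
    by_cases h4 : g⁻¹ * t * g = 1
    · rw [h4]; exact Subgroup.one_mem _
    · exact invol_mem_of_mem_normalizer T (orderOf_eq_two_of h3 h4) h1
  · intro h
    refine ⟨(smul_mk_eq_iff _ _ _).2 (Subgroup.le_normalizer h), ?_⟩
    have h3 := sq_eq_one_of_mem hC T h
    rw [pow_two] at h3
    calc t * t = g * ((g⁻¹ * t * g) * (g⁻¹ * t * g)) * g⁻¹ := by group
      _ = 1 := by rw [h3]; group

include hC in
theorem Tx_comm {x : G ⧸ NT T} {s t : G} (hs : s • x = x) (hs2 : s * s = 1) (ht : t • x = x)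
    (ht2 : t * t = 1) : s * t = t * s := by
  obtain ⟨g, rfl⟩ := QuotientGroup.mk_surjective x
  have h1 := (inT_iff hC T g s).1 ⟨hs, hs2⟩
  have h2 := (inT_iff hC T g t).1 ⟨ht, ht2⟩
  have h3 := comm_of_mem hC T h1 h2
  calc s * t = g * ((g⁻¹ * s * g) * (g⁻¹ * t * g)) * g⁻¹ := by group
    _ = g * ((g⁻¹ * t * g) * (g⁻¹ * s * g)) * g⁻¹ := by rw [h3]
    _ = t * s := by group

include hC in
theorem Tx_mul {x : G ⧸ NT T} {s t : G} (hs : s • x = x) (hs2 : s * s = 1) (ht : t • x = x)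
    (ht2 : t * t = 1) : (s * t) • x = x ∧ (s * t) * (s * t) = 1 := by
  refine ⟨by rw [mul_smul, ht, hs], ?_⟩
  have h := Tx_comm hC T hs hs2 ht ht2
  calc (s * t) * (s * t) = s * (t * s) * t := by group
    _ = s * (s * t) * t := by rw [h]
    _ = (s * s) * (t * t) := by group
    _ = 1 := by rw [hs2, ht2, one_mul]

variable (hnc : ¬ IsCyclic (T : Subgroup G))

include hC hnc in
theorem exists_two_invol (x : G ⧸ NT T) :
    ∃ s t : G, orderOf s = 2 ∧ orderOf t = 2 ∧ s • x = x ∧ t • x = x ∧ s ≠ t := by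
  obtain ⟨g, rfl⟩ := QuotientGroup.mk_surjective x
  obtain ⟨z, hzT, hz, _⟩ := exists_central_invol T (ne_bot_of_not_cyclic T hnc)
  have hex : ∃ a ∈ (T : Subgroup G), a ≠ 1 ∧ a ≠ z := by
    by_contra hcon
    push Not at hcon
    apply hnc
    refine ⟨⟨⟨z, hzT⟩, ?_⟩⟩
    intro a
    by_cases ha : (a : G) = 1
    · exact ⟨0, by ext; simp [ha]⟩
    · exact ⟨1, by ext; simp [hcon a a.2 ha]⟩
  obtain ⟨a, haT, ha1, haz⟩ := hex
  have ha2 : a * a = 1 := by
    have := sq_eq_one_of_mem hC T haT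
    rwa [pow_two] at this
  refine ⟨g * z * g⁻¹, g * a * g⁻¹, by rw [orderOf_conj, hz],
    by rw [orderOf_conj, orderOf_eq_two_of ha2 ha1], ?_, ?_, ?_⟩
  · rw [smul_mk_eq_iff]
    have : g⁻¹ * (g * z * g⁻¹) * g = z := by group
    rw [this]; exact Subgroup.le_normalizer hzT
  · rw [smul_mk_eq_iff]
    have : g⁻¹ * (g * a * g⁻¹) * g = a := by group
    rw [this]; exact Subgroup.le_normalizer haT
  · intro h
    apply haz
    have := congrArg (fun w => g⁻¹ * w * g) h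
    simpa [mul_assoc] using this.symm

variable (hnn : ¬ (T : Subgroup G).Normal)

include hC hnc hnn in
theorem exists_ne_one_stab {x y : G ⧸ NT T} (hxy : x ≠ y) :
    ∃ d : G, d ≠ 1 ∧ d • x = x ∧ d • y = y := by
  have hH := stronglyEmbedded_normalizer hC T hnc hnn
  obtain ⟨s, t, hs, ht, hsx, htx, hst⟩ := exists_two_invol hC T hnc x
  obtain ⟨u, hu, hux, _⟩ := exists_swap' hH hxy
  obtain ⟨w, _, h1, h2, h3⟩ := trans_invol hH hxy hu hux hs hsx ht htx
  refine ⟨w * u, ?_, h1, h2⟩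
  intro h
  rw [h] at h3
  apply hst
  simpa using h3

include hC hnc hnn in
theorem three_fixed {x y z : G ⧸ NT T} (hxy : x ≠ y) (hxz : x ≠ z) (hyz : y ≠ z) {d : G}
    (hdx : d • x = x) (hdy : d • y = y) (hdz : d • z = z) : d = 1 := by
  have hH := stronglyEmbedded_normalizer hC T hnc hnn
  obtain ⟨u, hu, hux, huy⟩ := exists_swap' hH hxy
  obtain ⟨i, hi, hiy, hiz⟩ := exists_swap' hH hyz
  obtain ⟨i', hi', hi'x, hi'z⟩ := exists_swap' hH hxz
  have h1 := invert hC hH hxy hu hux hdx hdy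
  have h2 := invert hC hH hyz hi hiy hdy hdz
  have h3 := invert hC hH hxz hi' hi'x hdx hdz
  set e := i' * u * i with he
  have hez : e • z = z := by
    rw [he, mul_smul, mul_smul, hiz, huy, hi'x]
  have hed : e * d * e⁻¹ = d⁻¹ := by
    calc e * d * e⁻¹ = i' * (u * (i * d * i⁻¹) * u⁻¹) * i'⁻¹ := by rw [he]; group
      _ = i' * (u * d * u⁻¹)⁻¹ * i'⁻¹ := by rw [h2]; group
      _ = i' * d * i'⁻¹ := by rw [h1, inv_inv]
      _ = d⁻¹ := h3
  obtain ⟨d', t, hd'z, hd'x, htz, ht2, hfac⟩ := factor hC hH hxz.symm hez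
  have hcomm := stab_comm hC hH hxz.symm hd'z hd'x hdz hdx
  have htinv : t⁻¹ = t := inv_eq_of_mul_eq_one_left ht2
  have htd : t * d * t⁻¹ = d⁻¹ := by
    have ht : t = d'⁻¹ * e := by rw [hfac]; group
    calc t * d * t⁻¹ = d'⁻¹ * (e * d * e⁻¹) * d' := by rw [ht]; group
      _ = d'⁻¹ * d⁻¹ * d' := by rw [hed]
      _ = (d * d')⁻¹ * d' := by group
      _ = (d' * d)⁻¹ * d' := by rw [hcomm]
      _ = d⁻¹ := by group
  have hdz' : d⁻¹ • z = z := by rw [inv_smul_eq_iff, hdz]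
  have hdx' : d⁻¹ • x = x := by rw [inv_smul_eq_iff, hdx]
  have hr1 : (d * t * d⁻¹) • z = z := by rw [mul_smul, mul_smul, hdz', htz, hdz]
  have hr2 : (d * t * d⁻¹) * (d * t * d⁻¹) = 1 := by
    calc (d * t * d⁻¹) * (d * t * d⁻¹) = d * (t * t) * d⁻¹ := by group
      _ = 1 := by rw [ht2]; group
  obtain ⟨_, hm2⟩ := Tx_mul hC T htz ht2 hr1 hr2
  have hprod : t * (d * t * d⁻¹) = d⁻¹ * d⁻¹ := by
    calc t * (d * t * d⁻¹) = (t * d * t) * d⁻¹ := by group
      _ = (t * d * t⁻¹) * d⁻¹ := by rw [htinv]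
      _ = d⁻¹ * d⁻¹ := by rw [htd]
  rw [hprod] at hm2
  have h5 : d⁻¹ * d⁻¹ = 1 :=
    free hH (x := z) (y := x) (by rw [mul_smul, hdz', hdz']) (by rw [mul_smul, hdx', hdx'])
      hxz.symm hm2
  have h6 : d * d = 1 := by
    have := congrArg (fun w => w⁻¹) h5
    simpa using this
  exact free hH hdx hdy hxy h6

include hC hnc hnn in
theorem T_trans {x y z : G ⧸ NT T} (hy : y ≠ x) (hz : z ≠ x) :
    ∃ t : G, t • x = x ∧ t * t = 1 ∧ t • y = z := by
  have hH := stronglyEmbedded_normalizer hC T hnc hnn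
  obtain ⟨d, hd1, hdx, hdy⟩ := exists_ne_one_stab hC T hnc hnn hy.symm
  obtain ⟨e, t', hex, hez, ht'x, ht'2, hfac⟩ := factor hC hH hz.symm hdx
  have hdx' : d⁻¹ • x = x := by rw [inv_smul_eq_iff, hdx]
  have hex' : e⁻¹ • x = x := by rw [inv_smul_eq_iff, hex]
  have he1 : e ≠ 1 := by
    intro h
    rw [h, one_mul] at hfac
    apply hd1
    rw [hfac] at hdx hdy ⊢
    exact free hH hdx hdy hy.symm ht'2
  have hmem : ∀ t : G, t • x = x → t * t = 1 →
      (t * d * t⁻¹ * d⁻¹) • x = x ∧ (t * d * t⁻¹ * d⁻¹) * (t * d * t⁻¹ * d⁻¹) = 1 := by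
    intro t htx ht2
    have htinv : t⁻¹ = t := inv_eq_of_mul_eq_one_left ht2
    have hr1 : (d * t * d⁻¹) • x = x := by rw [mul_smul, mul_smul, hdx', htx, hdx]
    have hr2 : (d * t * d⁻¹) * (d * t * d⁻¹) = 1 := by
      calc (d * t * d⁻¹) * (d * t * d⁻¹) = d * (t * t) * d⁻¹ := by group
        _ = 1 := by rw [ht2]; group
    have := Tx_mul hC T htx ht2 hr1 hr2
    have heq : t * d * t⁻¹ * d⁻¹ = t * (d * t * d⁻¹) := by rw [htinv]; group
    rw [heq]; exact this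
  let f : {t : G // t • x = x ∧ t * t = 1} → {t : G // t • x = x ∧ t * t = 1} :=
    fun t => ⟨t.1 * d * t.1⁻¹ * d⁻¹, hmem t.1 t.2.1 t.2.2⟩
  have hinj : Function.Injective f := by
    intro t s hts
    have h1 : t.1 * d * t.1⁻¹ * d⁻¹ = s.1 * d * s.1⁻¹ * d⁻¹ := congrArg Subtype.val hts
    have h2 : t.1 * d * t.1⁻¹ = s.1 * d * s.1⁻¹ := mul_right_cancel h1
    have hsinv : s.1⁻¹ = s.1 := inv_eq_of_mul_eq_one_left s.2.2
    have hr := Tx_mul hC T s.2.1 s.2.2 t.2.1 t.2.2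
    have hcomm : d * (s.1 * t.1) = (s.1 * t.1) * d := by
      calc d * (s.1 * t.1) = d * (s.1⁻¹ * t.1) := by rw [hsinv]
        _ = s.1⁻¹ * (s.1 * d * s.1⁻¹) * t.1 := by group
        _ = s.1⁻¹ * (t.1 * d * t.1⁻¹) * t.1 := by rw [h2]
        _ = (s.1⁻¹ * t.1) * d := by group
        _ = (s.1 * t.1) * d := by rw [hsinv]
    by_cases hr1 : s.1 * t.1 = 1
    · ext
      have : t.1 = s.1⁻¹ := eq_inv_of_mul_eq_one_right hr1
      rw [this, hsinv]
    · exfalso
      obtain ⟨_, hd2⟩ := cent_fix hC hH (orderOf_eq_two_of hr.2 hr1) hr.1 hcomm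
      exact hd1 (free hH hdx hdy hy.symm hd2)
  have hsurj := Finite.surjective_of_injective hinj
  have htarget : (e * d⁻¹) • x = x ∧ (e * d⁻¹) * (e * d⁻¹) = 1 := by
    have ht'inv : t'⁻¹ = t' := inv_eq_of_mul_eq_one_left ht'2
    have heq : e * d⁻¹ = e * t' * e⁻¹ := by rw [hfac, mul_inv_rev, ht'inv]; group
    rw [heq]
    refine ⟨by rw [mul_smul, mul_smul, hex', ht'x, hex], ?_⟩
    calc (e * t' * e⁻¹) * (e * t' * e⁻¹) = e * (t' * t') * e⁻¹ := by group
      _ = 1 := by rw [ht'2]; group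
  obtain ⟨t, ht⟩ := hsurj ⟨e * d⁻¹, htarget⟩
  have h1 : t.1 * d * t.1⁻¹ * d⁻¹ = e * d⁻¹ := congrArg Subtype.val ht
  have h2 : t.1 * d * t.1⁻¹ = e := mul_right_cancel h1
  refine ⟨t.1, t.2.1, t.2.2, ?_⟩
  by_contra hne
  have hfix : e • (t.1 • y) = t.1 • y := by
    rw [← h2, ← mul_smul]
    simp [mul_smul, hdy]
  have hne2 : x ≠ t.1 • y := by
    intro h
    apply hy
    have h3 : t.1 • x = t.1 • y := by rw [t.2.1]; exact h
    exact (smul_left_cancel _ h3).symm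
  exact he1 (three_fixed hC T hnc hnn hz.symm hne2 (Ne.symm hne) hex hez hfix)

end sylow

end Cfsg.Agent.Lib.Helper26ElemCentB
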