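import Mathlib
import Cfsg.Agent.Lib.Helper59BRDefs
import Cfsg.Agent.Lib.H59BRInvA
import Cfsg.Agent.S1230

set_option autoImplicit false
set_option linter.unusedSectionVars false
set_option linter.unusedVariables false

namespace Cfsg.Agent.Lib.H59BREndTwo

open Cfsg Subgroup
open Cfsg.Agent.Lib.Helper81Base Cfsg.Agent.Lib.Helper82Linear Cfsg.Agent.Lib.Helper59BRDefs
open scoped ComplexConjugate

variable {G : Type*} [Group G] [Finite G] {p : ℕ} [Fact p.Prime] {P : Sylow p G} {e n : ℕ}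

variable {E : Subgroup G}

/-- Apply `Cfsg.Agent.S1230.result`.  `M = N(E) = C(z)` (`cent_z`) has order `2 (n+1) = p - 1` and
all its non-identity elements are conjugate to `z`, so it is an elementary abelian `2`-group.
`|G : M| = p (1 + np)/(n+1) = p (p - 2)` is odd, so `M` is a Sylow `2`-subgroup `T`; every involution
is conjugate into `M`, hence to `z`, and its centraliser is a conjugate of `M`.  `T` is not cyclic
(`|M| ≥ 4`, exponent `2`), not normal (`z` has `p (p-2) > |M|` conjugates, all would lie in `M`).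
`|T| = 2 ^ m`. -/
theorem end_two (H : Geo p P 2 n) (HE : GeoE p P 2 n E) (hne : (n + 1) * 2 = p - 1) (z : G)
    (hz : z ∈ E) (hz2 : orderOf z = 2)
    (hall : ∀ m ∈ normalizer (E : Set G), m ≠ 1 → IsConj z m) :
    ∃ (m : ℕ) (F : Type) (_ : Field F) (_ : Fintype F), Fintype.card F = 2 ^ m ∧ p = 2 ^ m + 1 ∧
      3 < p ∧ Nonempty (G ≃* Matrix.ProjectiveSpecialLinearGroup (Fin 2) F) := by
  have hp : p.Prime := Fact.out
  have : Fact (Nat.Prime 2) := ⟨Nat.prime_two⟩
  have hn1 := H.hn1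
  have hp' : p = 2 * n + 3 := by have := hp.two_le; omega
  have hcz : centralizer ({z} : Set G) = normalizer (E : Set G) :=
    Cfsg.Agent.Lib.H59BRInvA.cent_z H HE z hz hz2
  have hcardM : Nat.card (normalizer (E : Set G)) = 2 * (n + 1) := HE.card_M
  have hsq : ∀ m ∈ normalizer (E : Set G), m ^ 2 = 1 := by
    intro m hm
    by_cases h1 : m = 1
    · rw [h1, one_pow]
    · obtain ⟨c, hc⟩ := isConj_iff.mp (hall m hm h1)
      rw [← hc, conj_pow, ← hz2, pow_orderOf_eq_one, mul_one, mul_inv_cancel]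
  have hcardG : Nat.card G = (1 + n * p) * (p * 2) := by
    have h0 := (normalizer ((P : Subgroup G) : Set G)).card_mul_index
    have h1 : Nat.card (Sylow p G) = (normalizer ((P : Subgroup G) : Set G)).index :=
      P.card_eq_index_normalizer
    rw [← h0, H.hN, ← h1, H.hn, mul_comm]
  have hidx : (normalizer (E : Set G)).index = (2 * n + 1) * (2 * n + 3) := by
    have h1 := (normalizer (E : Set G)).card_mul_index
    rw [hcardM, hcardG, hp'] at h1
    have h2 : (1 + n * (2 * n + 3)) * ((2 * n + 3) * 2) =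
        2 * (n + 1) * ((2 * n + 1) * (2 * n + 3)) := by ring
    rw [h2] at h1
    exact Nat.eq_of_mul_eq_mul_left (by omega) h1
  have hM2 : IsPGroup 2 (normalizer (E : Set G)) := by
    intro g
    refine ⟨1, ?_⟩
    rw [pow_one]
    exact Subtype.ext (hsq g g.2)
  have hodd : ¬ 2 ∣ (normalizer (E : Set G)).index := by
    rw [hidx]
    intro h2
    rcases (Nat.Prime.dvd_mul Nat.prime_two).mp h2 with h | h <;> omega
  obtain ⟨m, hm⟩ := IsPGroup.iff_card.mp hM2
  -- involutions
  have hinv : ∀ t : G, orderOf t = 2 → ∀ c ∈ centralizer ({t} : Set G), c ^ 2 = 1 := by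
    intro t ht x hx
    have h2t : IsPGroup 2 (zpowers t) := IsPGroup.of_card (n := 1) (by
      rw [Nat.card_zpowers, ht, pow_one])
    obtain ⟨Q, hQ⟩ := h2t.exists_le_sylow
    obtain ⟨g, hg⟩ := MulAction.exists_smul_eq G Q (hM2.toSylow hodd)
    have htQ : t ∈ (Q : Subgroup G) := hQ (mem_zpowers t)
    have h1 : g * t * g⁻¹ ∈ normalizer (E : Set G) := by
      have h3 : g * t * g⁻¹ ∈ ((g • Q : Sylow 2 G) : Subgroup G) := by
        rw [Sylow.coe_subgroup_smul]
        exact ⟨t, htQ, rfl⟩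
      rw [hg] at h3
      exact h3
    have h4 : g * t * g⁻¹ ≠ 1 := by
      intro h0
      have ht1 : t = 1 := by
        have : t = g⁻¹ * (g * t * g⁻¹) * g := by group
        rw [this, h0]; group
      rw [ht1, orderOf_one] at ht
      omega
    obtain ⟨c, hc⟩ := isConj_iff.mp (hall _ h1 h4)
    -- `t = d z d⁻¹`, `d = g⁻¹ c`
    have htd : t = (g⁻¹ * c) * z * (g⁻¹ * c)⁻¹ := by
      have : t = g⁻¹ * (g * t * g⁻¹) * g := by group
      rw [this, ← hc]; group
    have hxt : t * x = x * t := Subgroup.mem_centralizer_iff.mp hx t rfl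
    have h5 : (g⁻¹ * c)⁻¹ * x * (g⁻¹ * c) ∈ centralizer ({z} : Set G) := by
      rw [Subgroup.mem_centralizer_iff]
      intro y hy
      rw [Set.mem_singleton_iff] at hy
      subst hy
      have e1 : y * ((g⁻¹ * c)⁻¹ * x * (g⁻¹ * c)) =
          (g⁻¹ * c)⁻¹ * (((g⁻¹ * c) * y * (g⁻¹ * c)⁻¹) * x) * (g⁻¹ * c) := by group
      have e2 : (g⁻¹ * c)⁻¹ * x * (g⁻¹ * c) * y =
          (g⁻¹ * c)⁻¹ * (x * ((g⁻¹ * c) * y * (g⁻¹ * c)⁻¹)) * (g⁻¹ * c) := by group
      rw [e1, e2, ← htd, hxt]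
    rw [hcz] at h5
    have h6 := hsq _ h5
    have h7 : x ^ 2 = (g⁻¹ * c) * ((g⁻¹ * c)⁻¹ * x * (g⁻¹ * c)) ^ 2 * (g⁻¹ * c)⁻¹ := by
      rw [← conj_pow]; congr 1; group
    rw [h7, h6, mul_one, mul_inv_cancel]
  have hC : ∀ t : G, orderOf t = 2 → IsMulCommutative (Subgroup.centralizer ({t} : Set G)) ∧
      ∀ c ∈ Subgroup.centralizer ({t} : Set G), c ^ 2 = 1 := by
    intro t ht
    refine ⟨⟨⟨fun x y => ?_⟩⟩, hinv t ht⟩
    apply Subtype.ext
    have hx := hinv t ht x x.2
    have hy := hinv t ht y y.2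
    have hxy := hinv t ht (x * y : centralizer ({t} : Set G)) (x * y).2
    show (x : G) * (y : G) = (y : G) * (x : G)
    have hxy' : ((x : G) * (y : G)) ^ 2 = 1 := hxy
    rw [pow_two] at hx hy hxy'
    calc (x : G) * y = ((x : G) * y)⁻¹ := (inv_eq_of_mul_eq_one_left hxy').symm
      _ = (y : G)⁻¹ * (x : G)⁻¹ := mul_inv_rev _ _
      _ = (y : G) * x := by rw [inv_eq_of_mul_eq_one_left hy, inv_eq_of_mul_eq_one_left hx]
  have hnc : ¬ IsCyclic ((hM2.toSylow hodd : Sylow 2 G) : Subgroup G) := by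
    intro hcyc
    obtain ⟨g, hg⟩ := hcyc.exists_generator
    have h1 : orderOf g = Nat.card (normalizer (E : Set G)) :=
      orderOf_eq_card_of_forall_mem_zpowers hg
    have h2 : g ^ 2 = 1 := Subtype.ext (hsq g g.2)
    have h3 := orderOf_le_of_pow_eq_one (by norm_num) h2
    rw [h1, hcardM] at h3
    omega
  have hnn : ¬ ((hM2.toSylow hodd : Sylow 2 G) : Subgroup G).Normal := by
    intro hnor
    have hnor' : (normalizer (E : Set G)).Normal := hnor
    have hzM : z ∈ normalizer (E : Set G) := le_normalizer hz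
    have h1 := Cfsg.Agent.Lib.H59BRInvA.card_class H HE z hz hz2
    have h2 : Nat.card {i : G // IsConj z i} ≤ Nat.card (normalizer (E : Set G)) := by
      apply Nat.card_le_card_of_injective
        (fun i : {i : G // IsConj z i} => (⟨i.1, by
          obtain ⟨c, hc⟩ := isConj_iff.mp i.2
          rw [← hc]
          exact hnor'.conj_mem z hzM c⟩ : normalizer (E : Set G)))
      intro a b hab
      exact Subtype.ext (congrArg (fun x : normalizer (E : Set G) => (x : G)) hab)
    rw [hcardM] at h2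
    rw [hp'] at h1
    have h3 : (1 + n * (2 * n + 3)) * (2 * n + 3) = ((2 * n + 1) * (2 * n + 3)) * (n + 1) := by ring
    rw [h3] at h1
    have h4 := Nat.eq_of_mul_eq_mul_right (by omega) h1
    rw [h4] at h2
    nlinarith
  obtain ⟨F, hF1, hF2, hcard, hiso⟩ := Cfsg.Agent.S1230.result (hM2.toSylow hodd) hnc hnn hC
  have hcT : Nat.card (hM2.toSylow hodd : Sylow 2 G) = 2 ^ m := hm
  refine ⟨m, F, hF1, hF2, hcard.trans hcT, ?_, by omega, hiso⟩
  rw [← hm, hcardM]
  omega

end Cfsg.Agent.Lib.H59BREndTwo
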