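import Mathlib
import Cfsg.Agent.Lib.Helper59BRDefs
import Cfsg.Agent.Lib.Helper82Mult

set_option autoImplicit false
set_option linter.unusedSectionVars false
set_option linter.unusedVariables false

namespace Cfsg.Agent.Lib.H59BRDec

open Cfsg Subgroup
open Cfsg.Agent.Lib.Helper81Base Cfsg.Agent.Lib.Helper82Linear Cfsg.Agent.Lib.Helper59BRDefs
open scoped ComplexConjugate

theorem dec_core {ι : Type*} [Fintype ι] [DecidableEq ι] {p e t n y : ℕ} {ε : ℤ} (hp : p.Prime)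
    (hte : t * e + 1 = p) (hn : 1 ≤ n)
    (X Y : Finset ι) (hdisj : Disjoint X Y) (o : ι) (ho : o ∈ X) (s : ι → ℤ)
    (hs : ∀ χ ∈ X, s χ = 1 ∨ s χ = -1) (hso : s o = 1) (deg : ι → ℕ) (hdo : deg o = 1)
    (m : ι → ℕ) (C : Cfg p e t n X o deg s ε y) (hy : ∀ θ ∈ Y, deg θ = y)
    (hpos : ∀ χ, 0 < deg χ)
    (hstar : (t : ℤ) = t * ∑ χ ∈ X, (m χ : ℤ) * s χ - ε * ∑ θ ∈ Y, (m θ : ℤ))
    (hdeg : 1 + n * p = ∑ χ, m χ * deg χ) :
    (m o = 0 → ∀ χ, χ ∉ X ∪ Y → m χ = 0) ∧ (m o = 1 → ∀ χ ∈ X ∪ Y, χ ≠ o → m χ = 0) := by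
  have hp0 := hp.pos
  have ht : 1 ≤ t := by
    rcases Nat.eq_zero_or_pos t with h | h
    · rw [h] at hte
      have := hp.one_lt
      omega
    · exact h
  obtain ⟨mp, hmp⟩ : ∃ a : ℕ, a = ∑ χ ∈ X, if (χ ≠ o ∧ s χ = 1) then m χ else 0 := ⟨_, rfl⟩
  obtain ⟨mm, hmm⟩ : ∃ b : ℕ, b = ∑ χ ∈ X, if s χ = -1 then m χ else 0 := ⟨_, rfl⟩
  obtain ⟨mY, hmY⟩ : ∃ b : ℕ, b = ∑ χ ∈ Y, m χ := ⟨_, rfl⟩
  obtain ⟨out, hout⟩ : ∃ b : ℕ, b = ∑ χ ∈ (X ∪ Y)ᶜ, m χ * deg χ := ⟨_, rfl⟩
  have F1 : ∑ χ ∈ X, (m χ : ℤ) * s χ = m o + mp - mm := by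
    rw [hmp, hmm]
    have : ∑ χ ∈ X, (m χ : ℤ) * s χ = ∑ χ ∈ X, ((if χ = o then (m o : ℤ) else 0) +
        (if (χ ≠ o ∧ s χ = 1) then (m χ : ℤ) else 0) - (if s χ = -1 then (m χ : ℤ) else 0)) := by
      apply Finset.sum_congr rfl
      intro χ hχ
      by_cases h0 : χ = o
      · subst h0
        simp [hso]
      · rcases hs χ hχ with h | h
        · simp [h0, h]
        · simp [h0, h]
    rw [this, Finset.sum_sub_distrib, Finset.sum_add_distrib, Finset.sum_ite_eq' X o, if_pos ho]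
    push_cast
    rfl
  have F2 : ∑ χ ∈ X, m χ * deg χ = m o + mp * (1 + n * p) + mm * (p - 1) := by
    rw [hmp, hmm]
    have : ∑ χ ∈ X, m χ * deg χ = ∑ χ ∈ X, ((if χ = o then m o else 0) +
        (if (χ ≠ o ∧ s χ = 1) then m χ else 0) * (1 + n * p) +
        (if s χ = -1 then m χ else 0) * (p - 1)) := by
      apply Finset.sum_congr rfl
      intro χ hχ
      by_cases h0 : χ = o
      · subst h0
        simp [hso, hdo]
      · rcases hs χ hχ with h | h
        · simp [h0, h, C.degP χ hχ h0 h]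
        · simp [h0, h, C.degM χ hχ h]
    rw [this, Finset.sum_add_distrib, Finset.sum_add_distrib, Finset.sum_ite_eq' X o, if_pos ho,
      ← Finset.sum_mul, ← Finset.sum_mul]
  have F3 : ∑ χ ∈ Y, m χ * deg χ = mY * y := by
    rw [hmY, Finset.sum_mul]
    exact Finset.sum_congr rfl (fun χ hχ => by rw [hy χ hχ])
  have F4 : 1 + n * p = m o + mp * (1 + n * p) + mm * (p - 1) + mY * y + out := by
    rw [← Finset.sum_add_sum_compl (X ∪ Y), Finset.sum_union hdisj, F2, F3, ← hout] at hdeg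
    exact hdeg
  have F5 : (t : ℤ) = t * (m o + mp - mm) - ε * mY := by
    rw [F1] at hstar
    rw [hmY]
    push_cast
    exact hstar
  have hout0 : out = 0 → ∀ χ, χ ∉ X ∪ Y → m χ = 0 := by
    intro h0 χ hχ
    rw [hout, Finset.sum_eq_zero_iff] at h0
    have := h0 χ (Finset.mem_compl.2 hχ)
    rcases Nat.mul_eq_zero.1 this with h | h
    · exact h
    · exact absurd h (hpos χ).ne'
  have hin0 : mp = 0 → mm = 0 → mY = 0 → ∀ χ ∈ X ∪ Y, χ ≠ o → m χ = 0 := by
    intro h1 h2 h3 χ hχ hne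
    rw [hmp, Finset.sum_eq_zero_iff] at h1
    rw [hmm, Finset.sum_eq_zero_iff] at h2
    rw [hmY, Finset.sum_eq_zero_iff] at h3
    rcases Finset.mem_union.1 hχ with h | h
    · rcases hs χ h with h' | h'
      · simpa [hne, h'] using h1 χ h
      · simpa [h'] using h2 χ h
    · exact h3 χ h
  have hK : 0 < n * p := Nat.mul_pos hn hp0
  constructor
  · intro hm0
    apply hout0
    rw [hm0] at F4 F5
    have hcase : 1 ≤ mp → out = 0 := by
      intro h1
      have : 1 * (1 + n * p) ≤ mp * (1 + n * p) := Nat.mul_le_mul_right _ h1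
      omega
    rcases C.alt with ⟨h1, h2, -⟩ | ⟨h1, h2, -⟩
    · apply hcase
      rw [h1] at F5
      by_contra hlt
      have h0 : mp = 0 := by omega
      rw [h0] at F5
      have e1 : (0 : ℤ) ≤ (t : ℤ) * mm := by positivity
      have e2 : (0 : ℤ) ≤ (mY : ℤ) := by positivity
      have e3 : (1 : ℤ) ≤ t := by exact_mod_cast ht
      push_cast at F5
      nlinarith
    · by_cases h0 : 1 ≤ mp
      · exact hcase h0
      · have h0 : mp = 0 := by omega
        rw [h0, h1] at F5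
        have e1 : (mY : ℤ) = t + t * mm := by push_cast at F5; linarith
        have e2 : mY = t + t * mm := by exact_mod_cast e1
        rw [e2, h0] at F4
        have e3 : (t + t * mm) * y = (1 + n * p) + mm * (1 + n * p) := by
          rw [← h2]; ring
        rw [e3] at F4
        omega
  · intro hm1
    rw [hm1] at F4 F5
    have hmp0 : mp = 0 := by
      by_contra h0
      have h1 : 1 ≤ mp := by omega
      have : 1 * (1 + n * p) ≤ mp * (1 + n * p) := Nat.mul_le_mul_right _ h1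
      omega
    rw [hmp0] at F4 F5
    rcases C.alt with ⟨h1, h2, -⟩ | ⟨h1, h2, -⟩
    · rw [h1] at F5
      have e1 : (0 : ℤ) ≤ (t : ℤ) * mm := by positivity
      have e2 : (0 : ℤ) ≤ (mY : ℤ) := by positivity
      have e3 : (t : ℤ) * mm + mY = 0 := by push_cast at F5; linarith
      have e4 : (mY : ℤ) = 0 := by linarith
      have e5 : (t : ℤ) * mm = 0 := by linarith
      have e6 : mY = 0 := by exact_mod_cast e4
      have e7 : t * mm = 0 := by exact_mod_cast e5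
      have e8 : mm = 0 := by
        rcases Nat.mul_eq_zero.1 e7 with h | h
        · omega
        · exact h
      exact hin0 hmp0 e8 e6
    · rw [h1] at F5
      have e1 : (mY : ℤ) = t * mm := by push_cast at F5; linarith
      have e2 : mY = t * mm := by exact_mod_cast e1
      have e3 : mY * y = mm * (1 + n * p) := by rw [e2, ← h2]; ring
      rw [e3] at F4
      have e8 : mm = 0 := by
        by_contra h0
        have h1 : 1 ≤ mm := by omega
        have : 1 * (1 + n * p) ≤ mm * (1 + n * p) := Nat.mul_le_mul_right _ h1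
        omega
      exact hin0 hmp0 e8 (by rw [e2, e8, mul_zero])


variable {G : Type*} [Group G] [Fintype G] {p : ℕ} [Fact p.Prime] {P : Sylow p G} {e t : ℕ}
  {X Y : Finset (IrrCharacter G)} {s : IrrCharacter G → ℤ} {ε : ℤ}

variable {n y : ℕ}

open scoped Classical in
theorem dec_sumP_const (hP : Nat.card P = p) (φ : G → ℂ) (c : ℂ)
    (h : ∀ x : G, x ∈ (P : Subgroup G) → x ≠ 1 → φ x = c) :
    ∑ x : G, (if x ∈ (P : Subgroup G) then φ x else 0) = φ 1 + ((p : ℂ) - 1) * c := by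
  have h1 : ∀ x : G, (if x ∈ (P : Subgroup G) then φ x else 0) =
      (if x ∈ (P : Subgroup G) then c else 0) + (if x = 1 then φ 1 - c else 0) := by
    intro x
    by_cases hx1 : x = 1
    · subst hx1
      simp [one_mem]
    · by_cases hxP : x ∈ (P : Subgroup G)
      · simp [hxP, hx1, h x hxP hx1]
      · simp [hxP, hx1]
  simp_rw [h1]
  rw [Finset.sum_add_distrib, Finset.sum_ite_eq' Finset.univ (1 : G), if_pos (Finset.mem_univ _),
    ← Finset.sum_filter, Finset.sum_const, nsmul_eq_mul]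
  have h2 : (Finset.univ.filter (fun x : G => x ∈ (P : Subgroup G))).card = p := by
    refine Eq.trans ?_ hP
    rw [Nat.card_eq_fintype_card, Fintype.card_subtype]
  rw [h2]
  ring

theorem dec_order (hP : Nat.card P = p) {x : G} (hx : x ∈ (P : Subgroup G)) (hx1 : x ≠ 1) :
    p ∣ orderOf x := by
  have hp : p.Prime := Fact.out
  have h1 := orderOf_dvd_natCard (⟨x, hx⟩ : (P : Subgroup G))
  rw [Subgroup.orderOf_mk] at h1
  have h2 : orderOf x ∣ p := hP ▸ h1
  rcases (Nat.dvd_prime hp).1 h2 with h | h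
  · exact absurd (orderOf_eq_one_iff.1 h) hx1
  · rw [h]

open scoped Classical in
theorem dec_data (D : BR p P e t X Y s ε)
    (hout : ∀ χ : IrrCharacter G, χ ∉ X ∪ Y → ∀ x : G, x ∈ (P : Subgroup G) → x ≠ 1 →
      (χ : G → ℂ) x = 0)
    (Φ : G → ℂ) (hΦ : IsCharacter G Φ) (h1 : Φ 1 = ((1 + n * p : ℕ) : ℂ))
    (hx : ∀ x : G, x ∈ (P : Subgroup G) → x ≠ 1 → Φ x = 1) :
    ∃ m : IrrCharacter G → ℕ, (∀ χ : IrrCharacter G, classInner Φ (χ : G → ℂ) = m χ) ∧
      (t : ℤ) = t * ∑ χ ∈ X, (m χ : ℤ) * s χ - ε * ∑ θ ∈ Y, (m θ : ℤ) ∧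
      1 + n * p = ∑ χ, m χ * charDegree (χ : G → ℂ) := by
  have hp : p.Prime := Fact.out
  obtain ⟨m, hm, hsum⟩ := Cfsg.Agent.Lib.Helper82Mult.exists_mult hΦ
  refine ⟨m, hm, ?_, ?_⟩
  swap
  · have h2 : ((1 + n * p : ℕ) : ℂ) = ((∑ χ, m χ * charDegree (χ : G → ℂ) : ℕ) : ℂ) := by
      rw [← h1]
      conv_lhs => rw [hsum]
      push_cast
      rw [Finset.sum_apply]
      refine Finset.sum_congr rfl fun χ _ => ?_
      rw [charDegree_eq]
      rfl
    exact_mod_cast h2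
  · have hdeg : Φ 1 = ∑ χ : IrrCharacter G, (m χ : ℂ) * (χ : G → ℂ) 1 := by
      conv_lhs => rw [hsum]
      rw [Finset.sum_apply]
      rfl
    have hT := dec_sumP_const D.hP Φ 1 hx
    have hlin : ∑ x : G, (if x ∈ (P : Subgroup G) then Φ x else 0) =
        ∑ χ : IrrCharacter G, (m χ : ℂ) *
          ∑ x : G, (if x ∈ (P : Subgroup G) then (χ : G → ℂ) x else 0) := by
      simp_rw [Finset.mul_sum]
      rw [Finset.sum_comm]
      refine Finset.sum_congr rfl fun x _ => ?_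
      by_cases hxP : x ∈ (P : Subgroup G)
      · simp only [hxP, if_true]
        conv_lhs => rw [hsum]
        rw [Finset.sum_apply]
        rfl
      · simp [hxP]
    have hval : ∀ χ : IrrCharacter G,
        ∑ x : G, (if x ∈ (P : Subgroup G) then (χ : G → ℂ) x else 0) = (χ : G → ℂ) 1 +
          ((if χ ∈ X then ((p : ℂ) - 1) * (s χ : ℂ) else 0) +
            (if χ ∈ Y then -((ε : ℂ) * (e : ℂ)) else 0)) := by
      intro χ
      by_cases hX : χ ∈ X
      · have hY : χ ∉ Y := fun hY => (Finset.disjoint_left.1 D.disj hX hY)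
        rw [dec_sumP_const D.hP (χ : G → ℂ) (s χ : ℂ)
          (fun x hxP hx1 => D.valX χ hX x (dec_order D.hP hxP hx1))]
        simp [hX, hY]
      · by_cases hY : χ ∈ Y
        · rw [D.sumP χ hY]
          simp [hX, hY]
          ring
        · rw [dec_sumP_const D.hP (χ : G → ℂ) 0
            (fun x hxP hx1 => hout χ (by simp [hX, hY]) x hxP hx1)]
          simp [hX, hY]
    rw [hlin] at hT
    simp_rw [hval, mul_add] at hT
    rw [Finset.sum_add_distrib, ← hdeg, Finset.sum_add_distrib] at hT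
    simp_rw [mul_ite, mul_zero] at hT
    rw [Finset.sum_ite_mem, Finset.sum_ite_mem, Finset.univ_inter, Finset.univ_inter] at hT
    have hte' : (p : ℂ) - 1 = (t : ℂ) * e := by
      have := D.hte
      have h3 : ((t * e + 1 : ℕ) : ℂ) = p := by exact_mod_cast this
      push_cast at h3
      linear_combination -h3
    have he0 : (e : ℂ) ≠ 0 := by
      intro h0
      have h00 : e = 0 := by exact_mod_cast h0
      have := D.hte
      rw [h00] at this
      have := hp.one_lt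
      omega
    have key : ((t : ℂ) - ((t : ℂ) * ∑ χ ∈ X, (m χ : ℂ) * (s χ : ℂ) -
        (ε : ℂ) * ∑ θ ∈ Y, (m θ : ℂ))) * e = 0 := by
      have e1 : ∑ χ ∈ X, (m χ : ℂ) * (((p : ℂ) - 1) * (s χ : ℂ)) =
          ((p : ℂ) - 1) * ∑ χ ∈ X, (m χ : ℂ) * (s χ : ℂ) := by
        rw [Finset.mul_sum]
        exact Finset.sum_congr rfl (fun χ _ => by ring)
      have e2 : ∑ χ ∈ Y, (m χ : ℂ) * (-((ε : ℂ) * (e : ℂ))) =
          -((ε : ℂ) * (e : ℂ)) * ∑ χ ∈ Y, (m χ : ℂ) := by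
        rw [Finset.mul_sum]
        exact Finset.sum_congr rfl (fun χ _ => by ring)
      rw [e1, e2, hte'] at hT
      linear_combination -hT
    have key2 := (mul_eq_zero.1 key).resolve_right he0
    have key3 : (t : ℂ) = (((t : ℤ) * ∑ χ ∈ X, (m χ : ℤ) * s χ - ε * ∑ θ ∈ Y, (m θ : ℤ) : ℤ) : ℂ) := by
      push_cast
      linear_combination key2
    exact_mod_cast key3

open scoped Classical in
/-- See BR.md step 6a.  `m χ = (Φ, χ) ∈ ℕ`, `Φ = ∑ m χ • χ` (`Helper82Mult.exists_mult`).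
Summing `Φ x = 1` over `x ∈ P \ 1` (use `D.valX`, `D.sumP`, `hout`) and dividing by `e`:
`t = t ∑_X m χ s χ - ε ∑_Y m θ`.  Degrees: `1 + n p = ∑ m χ χ(1)`. -/
theorem decomp_zero (D : BR p P e t X Y s ε)
    (hout : ∀ χ : IrrCharacter G, χ ∉ X ∪ Y → ∀ x : G, x ∈ (P : Subgroup G) → x ≠ 1 →
      (χ : G → ℂ) x = 0)
    (C : Cfg p e t n X (irrOne G) (fun χ => charDegree (χ : G → ℂ)) s ε y)
    (hy : ∀ θ ∈ Y, charDegree (θ : G → ℂ) = y) (hn : 1 ≤ n)
    (Φ : G → ℂ) (hΦ : IsCharacter G Φ) (h1 : Φ 1 = ((1 + n * p : ℕ) : ℂ))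
    (hx : ∀ x : G, x ∈ (P : Subgroup G) → x ≠ 1 → Φ x = 1)
    (h0 : classInner Φ (irrOne G : G → ℂ) = 0) :
    ∀ χ : IrrCharacter G, χ ∉ X ∪ Y → classInner Φ (χ : G → ℂ) = 0 := by
  obtain ⟨m, hm, hstar, hdeg⟩ := dec_data D hout Φ hΦ h1 hx
  have hdo : charDegree (irrOne G : G → ℂ) = 1 := by
    have := charDegree_eq (irrOne G)
    have h2 : (irrOne G : G → ℂ) 1 = 1 := rfl
    rw [h2] at this
    exact_mod_cast this
  have := (dec_core Fact.out D.hte hn X Y D.disj (irrOne G) D.one_mem s D.hs D.s_one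
    (fun χ => charDegree (χ : G → ℂ)) hdo m C hy (fun χ => charDegree_pos χ) hstar hdeg).1
  intro χ hχ
  rw [hm χ, this (by rw [hm] at h0; exact_mod_cast h0) χ hχ, Nat.cast_zero]

open scoped Classical in
theorem decomp_one (D : BR p P e t X Y s ε)
    (hout : ∀ χ : IrrCharacter G, χ ∉ X ∪ Y → ∀ x : G, x ∈ (P : Subgroup G) → x ≠ 1 →
      (χ : G → ℂ) x = 0)
    (C : Cfg p e t n X (irrOne G) (fun χ => charDegree (χ : G → ℂ)) s ε y)
    (hy : ∀ θ ∈ Y, charDegree (θ : G → ℂ) = y) (hn : 1 ≤ n)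
    (Φ : G → ℂ) (hΦ : IsCharacter G Φ) (h1 : Φ 1 = ((1 + n * p : ℕ) : ℂ))
    (hx : ∀ x : G, x ∈ (P : Subgroup G) → x ≠ 1 → Φ x = 1)
    (h0 : classInner Φ (irrOne G : G → ℂ) = 1) :
    ∀ χ : IrrCharacter G, χ ∈ X ∪ Y → χ ≠ irrOne G → classInner Φ (χ : G → ℂ) = 0 := by
  obtain ⟨m, hm, hstar, hdeg⟩ := dec_data D hout Φ hΦ h1 hx
  have hdo : charDegree (irrOne G : G → ℂ) = 1 := by
    have := charDegree_eq (irrOne G)
    have h2 : (irrOne G : G → ℂ) 1 = 1 := rfl
    rw [h2] at this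
    exact_mod_cast this
  have := (dec_core Fact.out D.hte hn X Y D.disj (irrOne G) D.one_mem s D.hs D.s_one
    (fun χ => charDegree (χ : G → ℂ)) hdo m C hy (fun χ => charDegree_pos χ) hstar hdeg).2
  intro χ hχ hne
  rw [hm χ, this (by rw [hm] at h0; exact_mod_cast h0) χ hχ hne, Nat.cast_zero]

end Cfsg.Agent.Lib.H59BRDec
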