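import Mathlib
import Cfsg.Agent.Lib.Helper59BRDefs
import Cfsg.Agent.Lib.Helper19Cliff
import Cfsg.Agent.Lib.Helper82Mult
import Cfsg.Agent.Lib.Helper59BLDual

set_option autoImplicit false
set_option linter.unusedSectionVars false
set_option linter.unusedVariables false

namespace Cfsg.Agent.Lib.H59BRInd

open Cfsg Subgroup
open Cfsg.Agent.Lib.Helper81Base Cfsg.Agent.Lib.Helper82Linear Cfsg.Agent.Lib.Helper59BRDefs
open scoped ComplexConjugate

variable {G : Type*} [Group G] [Fintype G] {p : ℕ} [Fact p.Prime] (P : Sylow p G)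

/-- the character of `G` induced from a linear character of `N(P)`. -/
noncomputable def Phi (ν : normalizer ((P : Subgroup G) : Set G) →* ℂˣ) : G → ℂ :=
  indFun (normalizer ((P : Subgroup G) : Set G)) (fun a => ((ν a : ℂˣ) : ℂ))

/-- `Helper19Cliff.ind_isCharacter`, `ind_subtype`, `Helper82Linear.isIrrCharacter_of_hom`. -/
theorem phi_char (ν : normalizer ((P : Subgroup G) : Set G) →* ℂˣ) : IsCharacter G (Phi P ν) := by
  classical
  rw [Phi, ← Cfsg.Agent.Lib.Helper19Cliff.ind_subtype]
  exact Cfsg.Agent.Lib.Helper19Cliff.ind_isCharacter _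
    (Cfsg.Agent.Lib.Helper4Char.IsIrrCharacter.isCharacter (isIrrCharacter_of_hom ν))

/-- `Helper82Mult.indFun_one`, `Sylow.card_eq_index_normalizer`. -/
theorem phi_one (ν : normalizer ((P : Subgroup G) : Set G) →* ℂˣ) (n : ℕ)
    (hn : Nat.card (Sylow p G) = 1 + n * p) : Phi P ν 1 = ((1 + n * p : ℕ) : ℂ) := by
  have h1 : Nat.card (Sylow p G) = (normalizer ((P : Subgroup G) : Set G)).index :=
    Sylow.card_eq_index_normalizer P
  rw [Phi, Cfsg.Agent.Lib.Helper82Mult.indFun_one, ← h1, hn]
  simp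

theorem mem_of_mem_normalizer (y : G) (hy : y ∈ normalizer ((P : Subgroup G) : Set G))
    (hyp : IsPGroup p (zpowers y)) : y ∈ (P : Subgroup G) := by
  have hle : zpowers y ≤ normalizer ((P : Subgroup G) : Set G) := by
    rw [zpowers_le]; exact hy
  have hpg : IsPGroup p (zpowers y ⊔ (P : Subgroup G) : Subgroup G) :=
    IsPGroup.to_sup_of_normal_right' hyp P.2 hle
  have := P.3 hpg le_sup_right
  rw [← this]
  exact (le_sup_left : zpowers y ≤ _) (mem_zpowers y)

/-- for `1 ≠ x ∈ P`: `g⁻¹ x g ∈ N(P)` has order `p`, so lies in `P` (the only Sylow subgroup of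
`N(P)`), so `g⁻¹ P g = P` (as `x` generates `P`), i.e. `g ∈ N(P)`; each of these `|N(P)|` terms
is `ν(g⁻¹ x g) = 1`. -/
theorem phi_val (hP : Nat.card P = p) (ν : normalizer ((P : Subgroup G) : Set G) →* ℂˣ)
    (hν : ∀ a : normalizer ((P : Subgroup G) : Set G), (a : G) ∈ (P : Subgroup G) → ν a = 1)
    (x : G) (hx : x ∈ (P : Subgroup G)) (hx1 : x ≠ 1) : Phi P ν x = 1 := by
  classical
  have hp : p.Prime := Fact.out
  have hgen : ∀ y : G, y ∈ (P : Subgroup G) → y ≠ 1 → zpowers y = (P : Subgroup G) := by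
    intro y hy hy1
    have hle : zpowers y ≤ (P : Subgroup G) := by rw [zpowers_le]; exact hy
    apply Subgroup.eq_of_le_of_card_ge hle
    have h1 : Nat.card (zpowers y) ∣ p := by
      have := Subgroup.card_dvd_of_le hle
      rwa [show Nat.card (P : Subgroup G) = p from hP] at this
    rcases (Nat.dvd_prime hp).mp h1 with h | h
    · exfalso
      apply hy1
      rw [Nat.card_zpowers] at h
      exact orderOf_eq_one_iff.mp h
    · rw [h]; exact hP.le
  have key : ∀ g : G, extendByZero (normalizer ((P : Subgroup G) : Set G))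
      (fun a => ((ν a : ℂˣ) : ℂ)) (g⁻¹ * x * g)
      = if g ∈ normalizer ((P : Subgroup G) : Set G) then 1 else 0 := by
    intro g
    split_ifs with hg
    · have h1 : g⁻¹ * x * g ∈ (P : Subgroup G) := (mem_normalizer_iff''.mp hg x).mp hx
      have h2 : g⁻¹ * x * g ∈ normalizer ((P : Subgroup G) : Set G) := le_normalizer h1
      rw [Cfsg.Agent.Lib.Helper19Ind.extendByZero_of_mem _ _ h2, hν ⟨_, h2⟩ h1]
      simp
    · apply Cfsg.Agent.Lib.Helper19Ind.extendByZero_of_not_mem
      intro h2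
      apply hg
      have hyp : IsPGroup p (zpowers (g⁻¹ * x * g)) := by
        apply IsPGroup.of_card (n := 1)
        rw [Nat.card_zpowers, pow_one]
        have : g⁻¹ * x * g = g⁻¹ * x * g⁻¹⁻¹ := by rw [inv_inv]
        rw [this, ← MulAut.conj_apply, MulEquiv.orderOf_eq]
        rw [← Nat.card_zpowers, hgen x hx hx1]
        exact hP
      have h3 := mem_of_mem_normalizer P _ h2 hyp
      have h4 : g⁻¹ ∈ normalizer ((P : Subgroup G) : Set G) := by
        apply mem_normalizer_fintype
        intro n hn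
        have hn' : n ∈ zpowers x := by rw [hgen x hx hx1]; exact hn
        obtain ⟨k, rfl⟩ := mem_zpowers_iff.mp hn'
        have : g⁻¹ * x ^ k * g⁻¹⁻¹ = (g⁻¹ * x * g) ^ k := by
          rw [inv_inv]
          have := conj_zpow (a := g⁻¹) (b := x) (i := k)
          rw [inv_inv] at this
          exact this.symm
        rw [this]
        exact (P : Subgroup G).zpow_mem h3 k
      simpa using inv_mem h4
  rw [Phi, Cfsg.Agent.Lib.Helper19Ind.indFun_apply]
  simp only [key]
  rw [Finset.sum_boole, ← Fintype.card_subtype]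
  have h5 : Fintype.card {g : G // g ∈ normalizer ((P : Subgroup G) : Set G)}
      = Nat.card (normalizer ((P : Subgroup G) : Set G)) := by
    rw [Nat.card_eq_fintype_card]
  rw [h5]
  exact inv_mul_cancel₀ (by exact_mod_cast Nat.card_pos.ne')

/-- Frobenius reciprocity (`Helper19Cliff.frobenius`) and orthogonality of linear characters
(`Helper59BLDual.orth_hom`). -/
theorem phi_inner_one (ν : normalizer ((P : Subgroup G) : Set G) →* ℂˣ) (hν : ν ≠ 1) :
    classInner (Phi P ν) (irrOne G : G → ℂ) = 0 := by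
  classical
  rw [Phi, ← Cfsg.Agent.Lib.Helper19Cliff.ind_subtype,
    Cfsg.Agent.Lib.Helper19Cliff.frobenius _ _ _
      (Cfsg.Agent.Lib.Helper4Char.IsIrrCharacter.isClassFunction (irrOne G).2)]
  unfold classInner
  have := Cfsg.Agent.Lib.Helper59BLDual.sum_hom_eq_zero ν hν
  have h2 : ∀ a : normalizer ((P : Subgroup G) : Set G),
      ((ν a : ℂˣ) : ℂ) * conj ((irrOne G : G → ℂ)
        ((normalizer ((P : Subgroup G) : Set G)).subtype a)) = ((ν a : ℂˣ) : ℂ) := by
    intro a
    show ((ν a : ℂˣ) : ℂ) * conj (1 : ℂ) = _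
    simp
  simp only [h2, this, mul_zero]

theorem phi_inner_one' : classInner (Phi P 1) (irrOne G : G → ℂ) = 1 := by
  classical
  rw [Phi, ← Cfsg.Agent.Lib.Helper19Cliff.ind_subtype,
    Cfsg.Agent.Lib.Helper19Cliff.frobenius _ _ _
      (Cfsg.Agent.Lib.Helper4Char.IsIrrCharacter.isClassFunction (irrOne G).2)]
  unfold classInner
  have h2 : ∀ a : normalizer ((P : Subgroup G) : Set G),
      (((1 : normalizer ((P : Subgroup G) : Set G) →* ℂˣ) a : ℂˣ) : ℂ) * conj ((irrOne G : G → ℂ)
        ((normalizer ((P : Subgroup G) : Set G)).subtype a)) = 1 := by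
    intro a
    show (((1 : normalizer ((P : Subgroup G) : Set G) →* ℂˣ) a : ℂˣ) : ℂ) * conj (1 : ℂ) = _
    simp
  simp only [h2, Finset.sum_const, Finset.card_univ, nsmul_eq_mul, mul_one]
  rw [← Nat.card_eq_fintype_card]
  exact inv_mul_cancel₀ (by exact_mod_cast Nat.card_pos.ne')

end Cfsg.Agent.Lib.H59BRInd
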