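import Mathlib
import Cfsg.Agent.Lib.Helper59BRDefs
import Cfsg.Agent.Lib.Helper4Char2

set_option autoImplicit false
set_option linter.unusedSectionVars false
set_option linter.unusedVariables false

namespace Cfsg.Agent.Lib.H59BROut

open Cfsg Subgroup
open Cfsg.Agent.Lib.Helper81Base Cfsg.Agent.Lib.Helper82Linear Cfsg.Agent.Lib.Helper59BRDefs
open scoped ComplexConjugate

variable {G : Type*} [Group G] [Fintype G] {p : ℕ} [Fact p.Prime] {P : Sylow p G} {e t : ℕ}
  {X Y : Finset (IrrCharacter G)} {s : IrrCharacter G → ℤ} {ε : ℤ}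

omit [Fintype G] in
/-- a nonidentity element of a group `P` of prime order has the same centralizer as `P`. -/
theorem centralizer_singleton (hP : Nat.card P = p) (x : G) (hx : x ∈ (P : Subgroup G))
    (hx1 : x ≠ 1) : centralizer ({x} : Set G) = centralizer ((P : Subgroup G) : Set G) := by
  apply le_antisymm
  · intro g hg
    rw [mem_centralizer_iff] at hg ⊢
    intro y hy
    have h1 : (⟨y, hy⟩ : (P : Subgroup G)) ∈ zpowers (⟨x, hx⟩ : (P : Subgroup G)) := by
      rw [zpowers_eq_top_of_prime_card hP (fun h => hx1 (congrArg Subtype.val h))]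
      trivial
    obtain ⟨k, hk⟩ := mem_zpowers_iff.1 h1
    have hk' : x ^ k = y := congrArg Subtype.val hk
    have h2 : Commute x g := hg x rfl
    rw [← hk']
    exact (h2.zpow_left k)
  · apply centralizer_le
    intro y hy
    rw [Set.mem_singleton_iff] at hy
    rw [hy]; exact hx

open scoped Classical in
/-- If `C(P) = P`, the characters outside the principal block vanish on `P \ 1`.
Column orthogonality (`Helper4Char2.col_orth x x`) gives `∑_χ |χ x|² = |C(x)| = p`
(`C(x) = C(P) = P` because `x` generates `P`), and `D.gram` says that the part over `X ∪ Y`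
is already `p`. -/
theorem out (D : BR p P e t X Y s ε)
    (hC : centralizer ((P : Subgroup G) : Set G) = (P : Subgroup G))
    (χ : IrrCharacter G) (hχ : χ ∉ X ∪ Y) (x : G) (hx : x ∈ (P : Subgroup G)) (hx1 : x ≠ 1) :
    (χ : G → ℂ) x = 0 := by
  have h1 := Helper4Char2.col_orth x x
  rw [if_pos (IsConj.refl x), centralizer_singleton D.hP x hx hx1, hC, D.hP] at h1
  have h2 := D.gram x hx hx1
  have h3 := Finset.sum_sdiff (Finset.subset_univ (X ∪ Y))
    (f := fun χ : IrrCharacter G => (χ : G → ℂ) x * conj ((χ : G → ℂ) x))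
  rw [h1, h2] at h3
  have h4 : ∑ χ ∈ Finset.univ \ (X ∪ Y), (χ : G → ℂ) x * conj ((χ : G → ℂ) x) = 0 := by
    linear_combination h3
  have h5 : ∑ χ ∈ Finset.univ \ (X ∪ Y), ‖(χ : G → ℂ) x‖ ^ 2 = 0 := by
    have : ((∑ χ ∈ Finset.univ \ (X ∪ Y), ‖(χ : G → ℂ) x‖ ^ 2 : ℝ) : ℂ) = 0 := by
      rw [← h4]
      push_cast
      refine Finset.sum_congr rfl fun χ _ => ?_
      rw [Complex.mul_conj, Complex.normSq_eq_norm_sq]
      push_cast; rfl
    exact_mod_cast this
  rw [Finset.sum_eq_zero_iff_of_nonneg (fun _ _ => by positivity)] at h5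
  have := h5 χ (by simp only [Finset.mem_sdiff, Finset.mem_univ, true_and]; exact hχ)
  simpa using this

end Cfsg.Agent.Lib.H59BROut
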