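import Mathlib
import Cfsg.Agent.Lib.Helper59BRDefs
import Cfsg.Agent.Lib.Helper82Mult
import Cfsg.Agent.Lib.Helper4Char
import Cfsg.Agent.Lib.H59BRInd
import Cfsg.Agent.Lib.H59BRDec
import Cfsg.Agent.Lib.H59BROut

set_option autoImplicit false
set_option linter.unusedSectionVars false
set_option linter.unusedVariables false

namespace Cfsg.Agent.Lib.H59BRGeoA

open Cfsg Subgroup
open Cfsg.Agent.Lib.Helper81Base Cfsg.Agent.Lib.Helper82Linear Cfsg.Agent.Lib.Helper59BRDefs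
open scoped ComplexConjugate

variable {G : Type*} [Group G] [Fintype G] {p : ℕ} [Fact p.Prime] {P : Sylow p G} {e t : ℕ}
  {X Y : Finset (IrrCharacter G)} {s : IrrCharacter G → ℤ} {ε : ℤ}

variable {n y : ℕ}

open Cfsg.Agent.Lib.H59BRInd in
/-- `Φ₁ = Phi P 1` has no constituent in `(X ∪ Y) \ 1` (`decomp_one`), `Φ₂ = Phi P ν` has no
constituent outside `X ∪ Y` and does not contain `1` (`decomp_zero`, `phi_inner_one`).  Expand
`Φ₂ = ∑ m χ • χ` (`Helper82Mult.exists_mult`). -/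
theorem inner_zero (D : BR p P e t X Y s ε)
    (hC : centralizer ((P : Subgroup G) : Set G) = (P : Subgroup G))
    (hn : Nat.card (Sylow p G) = 1 + n * p) (hn1 : 1 ≤ n)
    (C : Cfg p e t n X (irrOne G) (fun χ => charDegree (χ : G → ℂ)) s ε y)
    (hy : ∀ θ ∈ Y, charDegree (θ : G → ℂ) = y)
    (ν : normalizer ((P : Subgroup G) : Set G) →* ℂˣ) (hν1 : ν ≠ 1)
    (hν : ∀ a : normalizer ((P : Subgroup G) : Set G), (a : G) ∈ (P : Subgroup G) → ν a = 1) :
    classInner (Phi P 1) (Phi P ν) = 0 := by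
  classical
  have hout : ∀ χ : IrrCharacter G, χ ∉ X ∪ Y → ∀ x : G, x ∈ (P : Subgroup G) → x ≠ 1 →
      (χ : G → ℂ) x = 0 := fun χ hχ x hx hx1 => Cfsg.Agent.Lib.H59BROut.out D hC χ hχ x hx hx1
  have h2 := Cfsg.Agent.Lib.H59BRDec.decomp_zero D hout C hy hn1 (Phi P ν) (phi_char P ν)
    (phi_one P ν n hn) (fun x hx hx1 => phi_val P D.hP ν hν x hx hx1) (phi_inner_one P ν hν1)
  have h1 := Cfsg.Agent.Lib.H59BRDec.decomp_one D hout C hy hn1 (Phi P 1) (phi_char P 1)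
    (phi_one P 1 n hn) (fun x hx hx1 => phi_val P D.hP 1 (fun _ _ => rfl) x hx hx1)
    (phi_inner_one' P)
  obtain ⟨m, hm, hsum⟩ := Cfsg.Agent.Lib.Helper82Mult.exists_mult (phi_char P ν)
  rw [hsum, Cfsg.Agent.Lib.Helper4Char.classInner_sum_right]
  apply Finset.sum_eq_zero
  intro χ _
  rw [Cfsg.Agent.Lib.Helper4Char.classInner_smul_right]
  by_cases hχ : χ ∈ X ∪ Y
  · by_cases hχ1 : χ = irrOne G
    · have : (m χ : ℂ) = 0 := by rw [← hm χ, hχ1]; exact phi_inner_one P ν hν1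
      rw [this]; simp
    · rw [h1 χ hχ hχ1, mul_zero]
  · have : (m χ : ℂ) = 0 := by rw [← hm χ]; exact h2 χ hχ
    rw [this]; simp

end Cfsg.Agent.Lib.H59BRGeoA
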