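import Mathlib
import Cfsg.Agent.Lib.Helper59BRDefs
import Cfsg.Agent.Lib.H59BRInvA

set_option autoImplicit false
set_option linter.unusedSectionVars false
set_option linter.unusedVariables false

namespace Cfsg.Agent.Lib.H59BRInvB

open Cfsg Subgroup
open Cfsg.Agent.Lib.Helper81Base Cfsg.Agent.Lib.Helper82Linear Cfsg.Agent.Lib.Helper59BRDefs
open scoped ComplexConjugate

variable {G : Type*} [Group G] [Finite G] {p : ℕ} [Fact p.Prime] {P : Sylow p G} {e n : ℕ}

variable {E : Subgroup G}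

/-- if `i₀, i` are involutions mapping `Q` to `Q'` then `i₀⁻¹ i ∈ N(Q) ∩ N(Q')` (order `e`). -/
theorem card_swap_le (H : Geo p P e n) (z : G) (hz2 : orderOf z = 2) (Q Q' : Sylow p G)
    (hQ : Q ≠ Q') : Nat.card {i : G // IsConj z i ∧ i • Q = Q'} ≤ e := by
  classical
  by_cases hemp : IsEmpty {i : G // IsConj z i ∧ i • Q = Q'}
  · rw [Nat.card_of_isEmpty]; exact Nat.zero_le _
  rw [not_isEmpty_iff] at hemp
  obtain ⟨⟨i₀, hi₀c, hi₀⟩⟩ := hemp
  have hinv : ∀ i : G, IsConj z i → i * i = 1 := by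
    intro i hi
    obtain ⟨c, hc⟩ := isConj_iff.1 hi
    have hz : z * z = 1 := by
      rw [← pow_two, ← hz2]; exact pow_orderOf_eq_one z
    rw [← hc]
    calc c * z * c⁻¹ * (c * z * c⁻¹) = c * (z * z) * c⁻¹ := by group
      _ = 1 := by rw [hz]; group
  have hback : ∀ i : G, IsConj z i → i • Q = Q' → i • Q' = Q := by
    intro i hi hiQ
    rw [← hiQ, smul_smul, hinv i hi, one_smul]
  rw [← H.hI Q Q' hQ]
  apply Nat.card_le_card_of_injective
    (fun i : {i : G // IsConj z i ∧ i • Q = Q'} =>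
      (⟨i₀ * i.1, by
        refine Subgroup.mem_inf.2 ⟨?_, ?_⟩
        · apply Sylow.smul_eq_iff_mem_normalizer.1
          rw [mul_smul, i.2.2, hback i₀ hi₀c hi₀]
        · apply Sylow.smul_eq_iff_mem_normalizer.1
          rw [mul_smul, hback i.1 i.2.1 i.2.2, hi₀]⟩ :
        ↥(normalizer ((Q : Subgroup G) : Set G) ⊓ normalizer ((Q' : Subgroup G) : Set G))))
  intro a b hab
  have h1 : i₀ * a.1 = i₀ * b.1 := congrArg Subtype.val hab
  exact Subtype.ext (mul_left_cancel h1)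

end Cfsg.Agent.Lib.H59BRInvB
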