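import Mathlib
import Cfsg.Agent.Lib.Helper59BRDefs
import Cfsg.Agent.Lib.H59BRInvB

set_option autoImplicit false
set_option linter.unusedSectionVars false
set_option linter.unusedVariables false

namespace Cfsg.Agent.Lib.H59BRInvB2

open Cfsg Subgroup
open Cfsg.Agent.Lib.Helper81Base Cfsg.Agent.Lib.Helper82Linear Cfsg.Agent.Lib.Helper59BRDefs
open scoped ComplexConjugate

variable {G : Type*} [Group G] [Finite G] {p : ℕ} [Fact p.Prime] {P : Sylow p G} {e n : ℕ}

variable {E : Subgroup G}

/-- Double count `{(i, Q) : i ~ z, i • Q ≠ Q}`: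
`|z^G| (1 + np - (n+1)) = ∑_{Q ≠ Q'} #{i ~ z : i • Q = Q'} ≤ (1 + np) n p e`, and the left side is
`(1+np) p n (p-1) / (n+1) = (1+np) p n e`; so every term attains the bound `e`. -/
theorem card_swap (H : Geo p P e n) (HE : GeoE p P e n E) (hne : (n + 1) * e = p - 1) (z : G)
    (hz : z ∈ E) (hz2 : orderOf z = 2) (Q Q' : Sylow p G) (hQ : Q ≠ Q') :
    Nat.card {i : G // IsConj z i ∧ i • Q = Q'} = e := by
  classical
  have hp : p.Prime := Fact.out
  have := Fintype.ofFinite G
  have := Fintype.ofFinite (Sylow p G)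
  have hs : Fintype.card (Sylow p G) = 1 + n * p := by
    rw [← Nat.card_eq_fintype_card]; exact H.hn
  -- the indicator
  let ind : G → Sylow p G → Sylow p G → ℕ := fun i Q Q' =>
    if i • Q = Q' then (if (IsConj z i ∧ Q ≠ Q') then 1 else 0) else 0
  let c : Sylow p G → Sylow p G → ℕ := fun Q Q' => Nat.card {i : G // IsConj z i ∧ i • Q = Q'}
  have hA1 : ∀ i Q, ∑ Q', ind i Q Q' = if (IsConj z i ∧ Q ≠ i • Q) then 1 else 0 := by
    intro i Q
    simp only [ind]
    rw [Finset.sum_ite_eq Finset.univ (i • Q), if_pos (Finset.mem_univ _)]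
  have hA2 : ∀ i, ∑ Q, ∑ Q', ind i Q Q' = if IsConj z i then n * (p - 1) else 0 := by
    intro i
    simp_rw [hA1]
    by_cases hi : IsConj z i
    · simp only [hi, true_and, if_true]
      have h1 := H59BRInvA.card_fix_conj H HE z hz hz2 i hi
      rw [Nat.card_eq_fintype_card, Fintype.card_subtype] at h1
      have h2 := Finset.card_filter_add_card_filter_not (s := (Finset.univ : Finset (Sylow p G)))
        (fun Q : Sylow p G => i • Q = Q)
      rw [h1, Finset.card_univ, hs] at h2
      rw [← Finset.card_filter]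
      have h3 : (Finset.univ.filter (fun Q : Sylow p G => Q ≠ i • Q)) =
          (Finset.univ.filter (fun Q : Sylow p G => ¬ i • Q = Q)) := by
        ext Q
        simp [eq_comm]
      rw [h3]
      have h4 : n * (p - 1) + n = n * p := by
        have := hp.pos
        obtain ⟨q, rfl⟩ : ∃ q, p = q + 1 := ⟨p - 1, by omega⟩
        simp
        ring
      omega
    · simp only [hi, false_and, if_false, Finset.sum_const_zero]
  have hA3 : ∑ i, ∑ Q, ∑ Q', ind i Q Q' = Nat.card {i : G // IsConj z i} * (n * (p - 1)) := by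
    simp_rw [hA2]
    rw [← Finset.sum_filter, Finset.sum_const, smul_eq_mul, Nat.card_eq_fintype_card,
      Fintype.card_subtype]
  have hB1 : ∀ Q Q', ∑ i, ind i Q Q' = if Q ≠ Q' then c Q Q' else 0 := by
    intro Q Q'
    by_cases h : Q = Q'
    · simp [ind, h]
    · simp only [ind, c, h, ne_eq, not_false_eq_true, and_true, if_true]
      rw [Nat.card_eq_fintype_card, Fintype.card_subtype, Finset.card_filter]
      apply Finset.sum_congr rfl
      intro i _
      by_cases h1 : i • Q = Q' <;> by_cases h2 : IsConj z i <;> simp only [h1, h2, and_true, and_false, true_and, false_and, if_true, if_false]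
  have hB2 : ∑ i, ∑ Q, ∑ Q', ind i Q Q' = ∑ Q, ∑ Q', if Q ≠ Q' then c Q Q' else 0 := by
    rw [Finset.sum_comm]
    apply Finset.sum_congr rfl
    intro Q _
    rw [Finset.sum_comm]
    apply Finset.sum_congr rfl
    intro Q' _
    exact hB1 Q Q'
  have hC : ∑ Q : Sylow p G, ∑ Q' : Sylow p G, (if Q ≠ Q' then e else 0) =
      (1 + n * p) * ((n * p) * e) := by
    have : ∀ Q : Sylow p G, ∑ Q' : Sylow p G, (if Q ≠ Q' then e else 0) = (n * p) * e := by
      intro Q
      rw [← Finset.sum_filter, Finset.sum_const, smul_eq_mul, Finset.filter_ne,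
        Finset.card_erase_of_mem (Finset.mem_univ _), Finset.card_univ, hs]
      congr 1
      omega
    simp_rw [this]
    rw [Finset.sum_const, smul_eq_mul, Finset.card_univ, hs]
  have hK := H59BRInvA.card_class H HE z hz hz2
  have hnum : Nat.card {i : G // IsConj z i} * (n * (p - 1)) = (1 + n * p) * ((n * p) * e) := by
    rw [← hne]
    calc Nat.card {i : G // IsConj z i} * (n * ((n + 1) * e))
        = (Nat.card {i : G // IsConj z i} * (n + 1)) * (n * e) := by ring
      _ = ((1 + n * p) * p) * (n * e) := by rw [hK]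
      _ = _ := by ring
  have hle : ∀ Q Q' : Sylow p G, (if Q ≠ Q' then c Q Q' else 0) ≤ (if Q ≠ Q' then e else 0) := by
    intro Q Q'
    by_cases h : Q = Q'
    · simp [h]
    · simp only [ne_eq, h, not_false_eq_true, if_true]
      exact H59BRInvB.card_swap_le H z hz2 Q Q' h
  have hsum : ∑ Q : Sylow p G, ∑ Q' : Sylow p G, (if Q ≠ Q' then c Q Q' else 0) =
      ∑ Q : Sylow p G, ∑ Q' : Sylow p G, (if Q ≠ Q' then e else 0) := by
    rw [← hB2, hA3, hnum, hC]
  have h1 := (Finset.sum_eq_sum_iff_of_le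
    (fun Q _ => Finset.sum_le_sum (fun Q' _ => hle Q Q'))).1 hsum Q (Finset.mem_univ _)
  have h2 := (Finset.sum_eq_sum_iff_of_le (fun Q' _ => hle Q Q')).1 h1 Q' (Finset.mem_univ _)
  simpa [hQ, c] using h2

end Cfsg.Agent.Lib.H59BRInvB2
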