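import Mathlib
import Cfsg.Agent.Lib.Helper59BRDefs
import Cfsg.Agent.Lib.H59BRInvA
import Cfsg.Agent.Lib.H59BRInvB2

set_option autoImplicit false
set_option linter.unusedSectionVars false
set_option linter.unusedVariables false

namespace Cfsg.Agent.Lib.H59BRInvC

open Cfsg Subgroup
open Cfsg.Agent.Lib.Helper81Base Cfsg.Agent.Lib.Helper82Linear Cfsg.Agent.Lib.Helper59BRDefs
open Cfsg.Agent.Lib.H59BRInvA
open scoped ComplexConjugate

variable {G : Type*} [Group G] [Finite G] {p : ℕ} [Fact p.Prime] {P : Sylow p G} {e n : ℕ}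

variable {E : Subgroup G}

theorem sq_of_conj {z i : G} (hz2 : orderOf z = 2) (hi : IsConj z i) : i * i = 1 := by
  obtain ⟨g, rfl⟩ := isConj_iff.1 hi
  have : z * z = 1 := by
    rw [← pow_two, ← hz2, pow_orderOf_eq_one]
  calc g * z * g⁻¹ * (g * z * g⁻¹) = g * (z * z) * g⁻¹ := by group
    _ = 1 := by rw [this]; group

/-- `Q' = m • P ≠ P` (`HE.inter`) is fixed by `E`.  Every `i ~ z` with `i • P = Q'` swaps `P, Q'`,
so `i E i⁻¹ ≤ N(P) ∩ N(Q') = E`, `i ∈ N(E)`, `m⁻¹ i ∈ N(E) ∩ N(P) = E`.  So these `e` elements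
(`card_swap`) fill the coset `m E`, in particular `m` is one of them. -/
theorem conj_of_mem (H : Geo p P e n) (HE : GeoE p P e n E) (hne : (n + 1) * e = p - 1) (z : G)
    (hz : z ∈ E) (hz2 : orderOf z = 2) (m : G) (hm : m ∈ normalizer (E : Set G)) (hmE : m ∉ E) :
    IsConj z m := by
  have hQP : P ≠ m • P := by
    intro h
    apply hmE
    rw [← HE.inter P HE.le]
    exact ⟨hm, mem_norm_iff.2 h.symm⟩
  have hEQ : E ≤ normalizer (((m • P : Sylow p G) : Subgroup G) : Set G) := by
    intro x hx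
    rw [mem_norm_iff]
    have h1 : m⁻¹ * x * m⁻¹⁻¹ ∈ E :=
      ((Subgroup.mem_set_normalizer_iff).1 ((normalizer (E : Set G)).inv_mem hm) x).1 hx
    have h2 := mem_norm_iff.1 (HE.le h1)
    conv_rhs => rw [← h2]
    simp only [← mul_smul]
    congr 1
    group
  have hstab := HE.stab P (m • P) hQP HE.le hEQ
  have hcard := Cfsg.Agent.Lib.H59BRInvB2.card_swap H HE hne z hz hz2 P (m • P) hQP
  have hmem : ∀ i : G, IsConj z i → i • P = m • P → m⁻¹ * i ∈ E := by
    intro i hi hiP
    have hii := sq_of_conj hz2 hi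
    have hinv : i⁻¹ = i := inv_eq_of_mul_eq_one_left hii
    have hiQ : i • (m • P) = P := by
      rw [← hiP, ← mul_smul, hii, one_smul]
    have hconj : ∀ x ∈ E, i * x * i⁻¹ ∈ E := by
      intro x hx
      rw [← hstab, hinv, Subgroup.mem_inf]
      constructor
      · rw [mem_norm_iff, mul_smul, mul_smul, hiP, mem_norm_iff.1 (hEQ hx), hiQ]
      · rw [mem_norm_iff, mul_smul, mul_smul, hiQ, mem_norm_iff.1 (HE.le hx), hiP]
    have hiN : i ∈ normalizer (E : Set G) := by
      rw [Subgroup.mem_set_normalizer_iff]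
      intro x
      constructor
      · exact hconj x
      · intro hx
        have := hconj _ hx
        rw [hinv] at this
        have h3 : i * (i * x * i) * i = (i * i) * x * (i * i) := by group
        rw [h3, hii] at this
        simpa using this
    rw [← HE.inter P HE.le, Subgroup.mem_inf]
    refine ⟨(normalizer (E : Set G)).mul_mem ((normalizer (E : Set G)).inv_mem hm) hiN, ?_⟩
    rw [mem_norm_iff, mul_smul, hiP, inv_smul_smul]
  let f : {i : G // IsConj z i ∧ i • P = m • P} → E := fun i => ⟨m⁻¹ * i.1, hmem i.1 i.2.1 i.2.2⟩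
  have hf : Function.Injective f := by
    intro a b hab
    apply Subtype.ext
    have := congrArg Subtype.val hab
    exact mul_left_cancel this
  have hbij := hf.bijective_of_nat_card_le (by rw [hcard, HE.card_E])
  obtain ⟨i, hi⟩ := hbij.2 1
  have h1 : m⁻¹ * i.1 = 1 := congrArg Subtype.val hi
  have h2 : i.1 = m := by
    rw [inv_mul_eq_one] at h1
    exact h1.symm
  rw [← h2]
  exact i.2.1

/-- All elements of `M \ E` are involutions, so each of them inverts `E`.  If `|M : E| = n + 1 ≥ 3`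
choose `m, m' ∈ M \ E` with `m m' ∉ E`: `m m'` both inverts and centralises `E`, so `E` has
exponent `2`; being cyclic of order `e ≥ 2`, `e = 2`, `E = {1, z}`. -/
theorem dichotomy (H : Geo p P e n) (HE : GeoE p P e n E) (hne : (n + 1) * e = p - 1) (z : G)
    (hz : z ∈ E) (hz2 : orderOf z = 2) :
    n = 1 ∨ (e = 2 ∧ ∀ m ∈ normalizer (E : Set G), m ≠ 1 → IsConj z m) := by
  classical
  by_cases hn : n = 1
  · exact Or.inl hn
  right
  have hn2 : 2 ≤ n := by have := H.hn1; omega
  have he := H.he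
  have hEM : E ≤ normalizer (E : Set G) := Subgroup.le_normalizer
  have hinv : ∀ m ∈ normalizer (E : Set G), m ∉ E → ∀ x ∈ E, m * x * m⁻¹ = x⁻¹ := by
    intro m hm hmE x hx
    have h1 := sq_of_conj hz2 (conj_of_mem H HE hne z hz hz2 m hm hmE)
    have hmx : m * x ∉ E := by
      intro h
      apply hmE
      have := E.mul_mem h (E.inv_mem hx)
      simpa using this
    have h2 := sq_of_conj hz2 (conj_of_mem H HE hne z hz hz2 (m * x)
      ((normalizer (E : Set G)).mul_mem hm (hEM hx)) hmx)
    have hmi : m⁻¹ = m := inv_eq_of_mul_eq_one_left h1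
    rw [hmi, eq_inv_iff_mul_eq_one]
    rw [← h2]
    group
  have hrel : E.relIndex (normalizer (E : Set G)) = n + 1 := by
    have h2 := Subgroup.relIndex_mul_relIndex ⊥ E (normalizer (E : Set G)) bot_le hEM
    rw [Subgroup.relIndex_bot_left, Subgroup.relIndex_bot_left, HE.card_E, HE.card_M] at h2
    exact Nat.eq_of_mul_eq_mul_left (by omega) h2
  obtain ⟨m, hm, hmE⟩ : ∃ m ∈ normalizer (E : Set G), m ∉ E := by
    by_contra hcon
    push Not at hcon
    have : normalizer (E : Set G) ≤ E := hcon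
    have := Subgroup.relIndex_eq_one.2 this
    omega
  have hne2 : E.relIndex (normalizer (E : Set G)) ≠ 2 := by omega
  rw [Ne, Subgroup.relIndex_eq_two_iff] at hne2
  push Not at hne2
  obtain ⟨b, hb, hxor⟩ := hne2 m hm
  have hbE : b ∉ E ∧ b * m ∉ E := by
    by_cases hbE : b ∈ E
    · exfalso
      by_cases hbm : b * m ∈ E
      · apply hmE
        have := E.mul_mem (E.inv_mem hbE) hbm
        simpa using this
      · exact hxor (Or.inr ⟨hbE, hbm⟩)
    · refine ⟨hbE, ?_⟩
      intro hbm
      exact hxor (Or.inl ⟨hbm, hbE⟩)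
  have hsq : ∀ x ∈ E, x ^ 2 = 1 := by
    intro x hx
    have h1 := hinv (b * m) ((normalizer (E : Set G)).mul_mem hb hm) hbE.2 x hx
    have h2 := hinv m hm hmE x hx
    have h3 := hinv b hb hbE.1 x⁻¹ (E.inv_mem hx)
    have h4 : b * m * x * (b * m)⁻¹ = b * (m * x * m⁻¹) * b⁻¹ := by group
    rw [h4, h2, h3, inv_inv] at h1
    rw [pow_two]
    nth_rewrite 1 [h1]
    simp
  have he2 : e = 2 := by
    have : Fintype E := Fintype.ofFinite E
    have := HE.cyc
    have h := IsCyclic.card_pow_eq_one_le (α := E) (n := 2) (by norm_num)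
    have h5 : Finset.univ.filter (fun x : E => x ^ 2 = 1) = Finset.univ := by
      apply Finset.filter_true_of_mem
      intro x _
      apply Subtype.ext
      exact hsq x.1 x.2
    rw [h5, Finset.card_univ, ← Nat.card_eq_fintype_card, HE.card_E] at h
    omega
  refine ⟨he2, ?_⟩
  intro m' hm' hm1
  by_cases hmE' : m' ∈ E
  · have h6 : orderOf m' = 2 := by
      have h7 : orderOf m' ∣ 2 := orderOf_dvd_of_pow_eq_one (hsq m' hmE')
      rcases (Nat.dvd_prime Nat.prime_two).1 h7 with h | h
      · exact absurd (orderOf_eq_one_iff.1 h) hm1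
      · exact h
    rw [invol_unique HE.cyc hz hmE' hz2 h6]
  · exact conj_of_mem H HE hne z hz hz2 m' hm' hmE'

end Cfsg.Agent.Lib.H59BRInvC
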