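import Mathlib
import Cfsg.Agent.Lib.Helper59BRDefs
import Cfsg.Agent.Lib.Helper82Irr
import Cfsg.Agent.Lib.Helper4Char

set_option autoImplicit false
set_option linter.unusedSectionVars false
set_option linter.unusedVariables false

namespace Cfsg.Agent.Lib.H59BRKer

open Cfsg Subgroup
open Cfsg.Agent.Lib.Helper81Base Cfsg.Agent.Lib.Helper82Linear Cfsg.Agent.Lib.Helper59BRDefs
open scoped ComplexConjugate

variable {G : Type*} [Group G] [Fintype G] {p : ℕ} [Fact p.Prime] {P : Sylow p G} {e t : ℕ}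
  {X Y : Finset (IrrCharacter G)} {s : IrrCharacter G → ℤ} {ε : ℤ}

/-- an operator with `E ∘ E = c E`, `c ≠ 0`, and trace zero vanishes. -/
theorem eq_zero_of_trace {V : Type*} [AddCommGroup V] [Module ℂ V] [FiniteDimensional ℂ V]
    (E : V →ₗ[ℂ] V) (c : ℂ) (hc : c ≠ 0) (h : E * E = c • E) (htr : LinearMap.trace ℂ V E = 0) :
    E = 0 := by
  have hid : IsIdempotentElem (c⁻¹ • E) := by
    unfold IsIdempotentElem
    rw [smul_mul_smul_comm, h, smul_smul]
    congr 1
    field_simp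
  have h1 := (LinearMap.IsIdempotentElem.isProj_range _ hid).trace
  rw [map_smul, htr, smul_zero] at h1
  have h2 : Module.finrank ℂ (LinearMap.range (c⁻¹ • E)) = 0 := by exact_mod_cast h1.symm
  rw [Submodule.finrank_eq_zero, LinearMap.range_eq_bot] at h2
  have := congrArg (fun f => c • f) h2
  simpa [smul_smul, hc] using this

open scoped Classical in
/-- sums over a group of prime order of a function which is constant off the identity. -/
theorem sum_P (hP : Nat.card P = p) (F : ↥(P : Subgroup G) → ℂ) (c : ℂ)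
    (hF : ∀ x : (P : Subgroup G), x ≠ 1 → F x = c) : ∑ x, F x = F 1 + ((p : ℂ) - 1) * c := by
  classical
  have hp : p.Prime := Fact.out
  rw [← Finset.add_sum_erase Finset.univ F (Finset.mem_univ 1)]
  congr 1
  rw [Finset.sum_congr rfl (fun x hx => hF x (Finset.ne_of_mem_erase hx)), Finset.sum_const,
    Finset.card_erase_of_mem (Finset.mem_univ _), Finset.card_univ, ← Nat.card_eq_fintype_card, hP,
    nsmul_eq_mul, Nat.cast_sub hp.one_lt.le]
  simp

/-- Let `x` generate `P` and `g = x y` (commuting, coprime orders), `k = orderOf y`.  `g ^ i` is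
`p`-singular unless `p ∣ i`.  `0 ≤ (ξ|⟨g⟩, 1) = (1/(pk)) (∑_{j<k} ξ(g^(pj)) - (p-1) k)` and
`|ξ(h)| ≤ ξ(1) = p - 1` (`Helper82Irr.irr_norm_le`) force `ξ(g^(pj)) = p - 1` for all `j`;
`y` is a power of `g ^ p`. -/
theorem ker_val (D : BR p P e t X Y s ε) (ξ : IrrCharacter G) (hξ : ξ ∈ X) (hs : s ξ = -1)
    (hdeg : charDegree (ξ : G → ℂ) = p - 1) (y : G)
    (hy : y ∈ centralizer ((P : Subgroup G) : Set G)) (hyp : ¬ p ∣ orderOf y) :
    (ξ : G → ℂ) y = (ξ : G → ℂ) 1 := by
  classical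
  have hp : p.Prime := Fact.out
  have hord : ∀ x : (P : Subgroup G), x ≠ 1 → orderOf (x : G) = p := by
    intro x hx
    have h1 : orderOf x ∣ p := by
      have := orderOf_dvd_natCard x
      rwa [D.hP] at this
    rcases (Nat.dvd_prime hp).1 h1 with h | h
    · exact absurd (orderOf_eq_one_iff.1 h) hx
    · rwa [← Subgroup.orderOf_coe] at h
  have hξ1 : (ξ : G → ℂ) 1 = (p : ℂ) - 1 := by
    rw [← Helper82Irr.charDegree_cast (Helper4Char.IsIrrCharacter.isCharacter ξ.2), hdeg,
      Nat.cast_sub hp.one_lt.le]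
    simp
  obtain ⟨n, ρ, hirr, hρ⟩ := ξ.2
  have hval : ∀ g : G, (ξ : G → ℂ) g = LinearMap.trace ℂ (Fin n → ℂ) (ρ g) := by
    intro g; rw [← hρ]; rfl
  obtain ⟨E, hE⟩ : ∃ E : (Fin n → ℂ) →ₗ[ℂ] (Fin n → ℂ), E = ∑ x : (P : Subgroup G), ρ (x : G) := ⟨_, rfl⟩
  have hEE : E * E = (p : ℂ) • E := by
    rw [hE, Finset.sum_mul]
    have : ∀ x : (P : Subgroup G), ρ (x : G) * ∑ x' : (P : Subgroup G), ρ (x' : G) =
        ∑ x' : (P : Subgroup G), ρ (x' : G) := by
      intro x
      rw [Finset.mul_sum]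
      refine Fintype.sum_equiv (Equiv.mulLeft x) _ _ ?_
      intro x'
      simp [map_mul]
    rw [Finset.sum_congr rfl (fun x _ => this x), Finset.sum_const, Finset.card_univ,
      ← Nat.card_eq_fintype_card, D.hP, ← Nat.cast_smul_eq_nsmul ℂ]
  have htr : LinearMap.trace ℂ (Fin n → ℂ) E = 0 := by
    rw [hE, map_sum]
    simp only [← hval]
    rw [sum_P D.hP (fun x => (ξ : G → ℂ) (x : G)) (-1) (by
      intro x hx
      rw [D.valX ξ hξ x (by rw [hord x hx]), hs]; simp)]
    simp only [OneMemClass.coe_one]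
    rw [hξ1]; ring
  have hE0 := eq_zero_of_trace E (p : ℂ) (by exact_mod_cast hp.ne_zero) hEE htr
  have h2 : LinearMap.trace ℂ (Fin n → ℂ) (ρ y * E) = 0 := by rw [hE0, mul_zero, map_zero]
  rw [hE, Finset.mul_sum, map_sum] at h2
  simp only [← map_mul, ← hval] at h2
  rw [sum_P D.hP (fun x => (ξ : G → ℂ) (y * (x : G))) (-1) (by
    intro x hx
    have hcomm : Commute y (x : G) := ((mem_centralizer_iff.1 hy) x x.2).symm
    have hcop : Nat.Coprime (orderOf y) (orderOf (x : G)) := by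
      rw [hord x hx]
      exact ((Nat.Prime.coprime_iff_not_dvd hp).2 hyp).symm
    rw [D.valX ξ hξ _ (by
      rw [hcomm.orderOf_mul_eq_mul_orderOf_of_coprime hcop, hord x hx]
      exact dvd_mul_left _ _), hs]
    simp)] at h2
  simp only [OneMemClass.coe_one, mul_one] at h2
  rw [hξ1]
  linear_combination h2

end Cfsg.Agent.Lib.H59BRKer
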