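import Mathlib
import Cfsg.Agent.Lib.Helper59BRDefs
import Cfsg.Agent.Lib.H59BRKer
import Cfsg.Prelude.Def_Solvable
import Cfsg.Agent.Lib.Helper82Quot
import Cfsg.Agent.Lib.Helper1Fitting

set_option autoImplicit false
set_option linter.unusedSectionVars false
set_option linter.unusedVariables false

namespace Cfsg.Agent.Lib.H59BRKerB

open Cfsg Subgroup
open Cfsg.Agent.Lib.Helper81Base Cfsg.Agent.Lib.Helper82Linear Cfsg.Agent.Lib.Helper59BRDefs
open scoped ComplexConjugate

variable {G : Type*} [Group G] [Fintype G] {p : ℕ} [Fact p.Prime] {P : Sylow p G} {e t : ℕ}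
  {X Y : Finset (IrrCharacter G)} {s : IrrCharacter G → ℤ} {ε : ℤ}

/-- `K = ker ξ` (`Helper82Quot.charKer`, normal) does not contain a generator `x` of `P`
(`ξ x = -1 ≠ ξ 1`), so `K ∩ P = 1` and `p ∤ |K|` (a normal subgroup of order divisible by `p`
contains a Sylow `p`-subgroup of `G`, hence all of them); so `K ≤ O_{p'}(G) = 1`
(`Helper1Fitting.le_pPrimeCore`).  For `c ∈ C(P)` write `c = c_p c_{p'}` (powers of `c`);
`c_{p'} ∈ K = 1` by `ker_val`; `c_p` is a `p`-element centralising `P`, so it lies in `P`. -/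
theorem cent_eq (D : BR p P e t X Y s ε) (ξ : IrrCharacter G) (hξ : ξ ∈ X) (hs : s ξ = -1)
    (hdeg : charDegree (ξ : G → ℂ) = p - 1) (hO : pPrimeCore p G = ⊥) :
    centralizer ((P : Subgroup G) : Set G) = (P : Subgroup G) := by
  classical
  have hp : p.Prime := Fact.out
  have hχ : IsCharacter G (ξ : G → ℂ) := Cfsg.Agent.Lib.Helper4Char.IsIrrCharacter.isCharacter ξ.2
  set K := Cfsg.Agent.Lib.Helper82Quot.charKer hχ with hK
  have hξ1 : (ξ : G → ℂ) 1 = ((p - 1 : ℕ) : ℂ) := by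
    rw [← charDegree_eq, hdeg]
  -- `p ∤ |K|`
  have hcop : (Nat.card K).Coprime p := by
    rw [Nat.coprime_comm, Nat.Prime.coprime_iff_not_dvd hp]
    intro hdvd
    obtain ⟨k, hk⟩ := exists_prime_orderOf_dvd_card' (G := K) p hdvd
    have hk' : orderOf (k : G) = p := by rw [Subgroup.orderOf_coe, hk]
    have h1 : (ξ : G → ℂ) (k : G) = (s ξ : ℂ) := D.valX ξ hξ k (by rw [hk'])
    have h2 : (ξ : G → ℂ) (k : G) = (ξ : G → ℂ) 1 :=
      (Cfsg.Agent.Lib.Helper82Quot.mem_charKer hχ _).mp k.2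
    rw [h1, hs, hξ1] at h2
    have h3 : ((p - 1 : ℕ) : ℂ) + 1 = 0 := by
      rw [← h2]; push_cast; ring
    have h4 : (((p - 1 : ℕ) + 1 : ℕ) : ℂ) = 0 := by
      push_cast; exact h3
    exact absurd (Nat.cast_eq_zero.mp h4) (Nat.succ_ne_zero _)
  have hKbot : K = ⊥ := by
    have := Cfsg.Agent.Lib.Helper1Fitting.le_pPrimeCore
      (Cfsg.Agent.Lib.Helper82Quot.charKer_normal hχ) hcop
    rw [hO] at this
    exact eq_bot_iff.mpr this
  apply le_antisymm
  · intro c hc
    set a := (orderOf c).factorization p with ha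
    have hord : orderOf c ≠ 0 := (orderOf_pos c).ne'
    have hy : c ^ (p ^ a) ∈ centralizer ((P : Subgroup G) : Set G) := pow_mem hc _
    have hyp : ¬ p ∣ orderOf (c ^ (p ^ a)) := by
      rw [orderOf_pow, Nat.gcd_eq_right (Nat.ordProj_dvd _ _)]
      exact Nat.not_dvd_ordCompl hp hord
    have h1 := Cfsg.Agent.Lib.H59BRKer.ker_val D ξ hξ hs hdeg _ hy hyp
    have h2 : c ^ (p ^ a) ∈ K := (Cfsg.Agent.Lib.Helper82Quot.mem_charKer hχ _).mpr h1
    rw [hKbot, mem_bot] at h2
    have hZ : IsPGroup p (zpowers c) := by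
      rintro ⟨g, hg⟩
      obtain ⟨i, rfl⟩ := mem_zpowers_iff.mp hg
      refine ⟨a, ?_⟩
      apply Subtype.ext
      change (c ^ i) ^ (p ^ a) = 1
      rw [← zpow_natCast, ← zpow_mul, mul_comm, zpow_mul, zpow_natCast, h2, one_zpow]
    have hnorm : zpowers c ≤ normalizer ((P : Subgroup G) : Set G) := by
      rw [zpowers_le]
      exact Subgroup.centralizer_le_normalizer _ hc
    have hsup : IsPGroup p (zpowers c ⊔ (P : Subgroup G) : Subgroup G) :=
      IsPGroup.to_sup_of_normal_right' hZ P.2 hnorm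
    have heq := P.is_maximal' hsup le_sup_right
    rw [← heq]
    exact le_sup_left (a := zpowers c) (mem_zpowers c)
  · haveI : IsCyclic (P : Subgroup G) := isCyclic_of_prime_card D.hP
    intro x hx
    rw [mem_centralizer_iff]
    intro y hy
    letI := IsCyclic.commGroup (α := (P : Subgroup G))
    exact congrArg Subtype.val (mul_comm (⟨y, hy⟩ : (P : Subgroup G)) ⟨x, hx⟩)

end Cfsg.Agent.Lib.H59BRKerB
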