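import Mathlib
import Cfsg.Agent.Lib.Helper59BRDefs
import Cfsg.Agent.Lib.Helper19Cliff
import Cfsg.Agent.Lib.Helper59BLDual

set_option autoImplicit false
set_option linter.unusedSectionVars false
set_option linter.unusedVariables false

namespace Cfsg.Agent.Lib.H59BRMackey

open Cfsg Subgroup
open Cfsg.Agent.Lib.Helper81Base Cfsg.Agent.Lib.Helper82Linear Cfsg.Agent.Lib.Helper59BRDefs
open scoped ComplexConjugate

variable {G : Type*} [Group G] [Fintype G]

/-- the subgroup `N ∩ x N x⁻¹` of `N`. -/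
def interSub (N : Subgroup G) (x : G) : Subgroup N where
  carrier := {n | x⁻¹ * (n : G) * x ∈ N}
  one_mem' := by simp
  mul_mem' := by
    intro a b ha hb
    have : x⁻¹ * ((a * b : N) : G) * x = (x⁻¹ * (a : G) * x) * (x⁻¹ * (b : G) * x) := by
      push_cast; group
    show x⁻¹ * ((a * b : N) : G) * x ∈ N
    rw [this]
    exact N.mul_mem ha hb
  inv_mem' := by
    intro a ha
    have : x⁻¹ * ((a⁻¹ : N) : G) * x = (x⁻¹ * (a : G) * x)⁻¹ := by
      push_cast; group
    show x⁻¹ * ((a⁻¹ : N) : G) * x ∈ N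
    rw [this]
    exact N.inv_mem ha

/-- conjugation `N ∩ x N x⁻¹ → N`. -/
def interHom (N : Subgroup G) (x : G) : interSub N x →* N where
  toFun n := ⟨x⁻¹ * ((n : N) : G) * x, n.2⟩
  map_one' := by ext; simp
  map_mul' := by
    intro a b
    ext
    push_cast
    group

open scoped Classical in
theorem inner_sum (N : Subgroup G) (ν : N →* ℂˣ) (x : G) :
    ∑ n : N, extendByZero N (fun a => ((ν a : ℂˣ) : ℂ)) (x⁻¹ * (n : G) * x)
      = ∑ k : interSub N x, (((ν.comp (interHom N x)) k : ℂˣ) : ℂ) := by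
  have h1 : ∀ n : N, extendByZero N (fun a => ((ν a : ℂˣ) : ℂ)) (x⁻¹ * (n : G) * x)
      = if h : n ∈ interSub N x then (((ν.comp (interHom N x)) ⟨n, h⟩ : ℂˣ) : ℂ) else 0 := by
    intro n
    split_ifs with h
    · have h' : x⁻¹ * (n : G) * x ∈ N := h
      rw [Cfsg.Agent.Lib.Helper19Ind.extendByZero_of_mem _ _ h']
      rfl
    · exact Cfsg.Agent.Lib.Helper19Ind.extendByZero_of_not_mem _ _ h
  simp only [h1]
  have h2 : ∑ n : N, (if h : n ∈ interSub N x then
        (((ν.comp (interHom N x)) ⟨n, h⟩ : ℂˣ) : ℂ) else 0)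
      = ∑ n ∈ Finset.univ.filter (· ∈ interSub N x), (if h : n ∈ interSub N x then
        (((ν.comp (interHom N x)) ⟨n, h⟩ : ℂˣ) : ℂ) else 0) := by
    symm
    apply Finset.sum_subset (Finset.filter_subset _ _)
    intro n _ hn
    rw [dif_neg]
    intro h
    exact hn (Finset.mem_filter.mpr ⟨Finset.mem_univ _, h⟩)
  rw [h2, Finset.sum_subtype (p := (· ∈ interSub N x)) _ (by simp)]
  refine Finset.sum_congr rfl fun k _ => ?_
  rw [dif_pos k.2]

/-- `(1_N^G, ν^G) = |N|⁻² ∑_{h ∈ G} ∑_{g ∈ N ∩ h N h⁻¹} conj ν(g)` (Frobenius reciprocity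
`Helper19Cliff.frobenius` + the definition of `indFun`), and each inner sum is the sum of a linear
character over a subgroup: `|N ∩ h N h⁻¹|` if it is trivial there and `0` otherwise. -/
theorem exists_ne_of_inner_zero (N : Subgroup G) (ν : N →* ℂˣ)
    (h0 : classInner (indFun N (fun _ => (1 : ℂ))) (indFun N (fun a => ((ν a : ℂˣ) : ℂ))) = 0)
    (h : G) : ∃ g : N, h⁻¹ * (g : G) * h ∈ N ∧ ν g ≠ 1 := by
  classical
  rw [← Cfsg.Agent.Lib.Helper19Cliff.ind_subtype N (fun _ => (1 : ℂ)),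
    Cfsg.Agent.Lib.Helper19Cliff.frobenius _ _ _
      (Cfsg.Agent.Lib.Helper19Ind.indFun_isClassFunction N _)] at h0
  unfold classInner at h0
  have hN : (Nat.card N : ℂ) ≠ 0 := by exact_mod_cast Nat.card_pos.ne'
  have h1 : ∑ n : N, conj (indFun N (fun a => ((ν a : ℂˣ) : ℂ)) (n : G)) = 0 := by
    rcases mul_eq_zero.mp h0 with h | h
    · exact absurd h (inv_ne_zero hN)
    · simpa using h
  rw [← map_sum, map_eq_zero] at h1
  simp only [Cfsg.Agent.Lib.Helper19Ind.indFun_apply] at h1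
  rw [← Finset.mul_sum, Finset.sum_comm] at h1
  have h2 : ∑ x : G, ∑ k : interSub N x, (((ν.comp (interHom N x)) k : ℂˣ) : ℂ) = 0 := by
    rcases mul_eq_zero.mp h1 with h | h
    · exact absurd h (inv_ne_zero hN)
    · simpa only [inner_sum] using h
  -- each term is `0` or a positive natural number
  have h3 : ∀ x : G, ∑ k : interSub N x, (((ν.comp (interHom N x)) k : ℂˣ) : ℂ)
      = if ν.comp (interHom N x) = 1 then (Nat.card (interSub N x) : ℂ) else 0 := by
    intro x
    split_ifs with hx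
    · rw [hx]
      simp
    · exact Cfsg.Agent.Lib.Helper59BLDual.sum_hom_eq_zero _ hx
  simp only [h3] at h2
  have h4 : ∑ x : G, (if ν.comp (interHom N x) = 1 then (Nat.card (interSub N x) : ℝ) else 0) = 0 := by
    have := congrArg Complex.re h2
    rw [Complex.re_sum] at this
    refine Eq.trans ?_ (this.trans Complex.zero_re)
    refine Finset.sum_congr rfl fun x _ => ?_
    split_ifs <;> simp
  rw [Finset.sum_eq_zero_iff_of_nonneg (fun x _ => by split_ifs <;> positivity)] at h4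
  have h5 := h4 h⁻¹ (Finset.mem_univ _)
  have h6 : ν.comp (interHom N h⁻¹) ≠ 1 := by
    intro h7
    rw [if_pos h7] at h5
    have : (0 : ℝ) < (Nat.card (interSub N h⁻¹) : ℝ) := by exact_mod_cast Nat.card_pos
    linarith
  have h7 : ∃ k, (ν.comp (interHom N h⁻¹)) k ≠ 1 := by
    by_contra hc
    push Not at hc
    exact h6 (MonoidHom.ext hc)
  obtain ⟨k, hk⟩ := h7
  refine ⟨interHom N h⁻¹ k, ?_, hk⟩
  have : h⁻¹ * ((interHom N h⁻¹ k : N) : G) * h = ((k : N) : G) := by
    show h⁻¹ * (h⁻¹⁻¹ * ((k : N) : G) * h⁻¹) * h = _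
    group
  rw [this]
  exact (k : N).2

end Cfsg.Agent.Lib.H59BRMackey
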