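import Mathlib
import Cfsg.Agent.Lib.Helper59BRDefs
import Cfsg.Prelude.Def_Perm

set_option autoImplicit false
set_option linter.unusedSectionVars false
set_option linter.unusedVariables false

namespace Cfsg.Agent.Lib.H59BRSolv

open Cfsg Subgroup
open Cfsg.Agent.Lib.Helper81Base Cfsg.Agent.Lib.Helper82Linear Cfsg.Agent.Lib.Helper59BRDefs
open scoped ComplexConjugate commutatorElement

/-- ring automorphisms of a finite field commute -/
theorem aut_comm (F : Type*) [Field F] [Finite F] (φ ψ : F ≃+* F) (x : F) :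
    φ (ψ x) = ψ (φ x) := by
  classical
  have := Fintype.ofFinite F
  by_cases hx : x = 0
  · subst hx; simp
  obtain ⟨γ, hγ⟩ := IsCyclic.exists_generator (α := Fˣ)
  have hpow : ∀ u : Fˣ, ∃ t : ℕ, γ ^ t = u := by
    intro u
    have := (mem_powers_iff_mem_zpowers (x := γ) (y := u)).2 (hγ u)
    exact Submonoid.mem_powers_iff _ _ |>.1 this
  have hval : ∀ y : F, y ≠ 0 → ∃ t : ℕ, (γ : F) ^ t = y := by
    intro y hy
    obtain ⟨t, ht⟩ := hpow (Units.mk0 y hy)
    refine ⟨t, ?_⟩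
    have := congrArg Units.val ht
    simpa using this
  obtain ⟨t, rfl⟩ := hval x hx
  obtain ⟨k, hk⟩ := hval (φ γ) (by simp)
  obtain ⟨l, hl⟩ := hval (ψ γ) (by simp)
  simp only [map_pow, ← hk, ← hl]
  simp only [← pow_mul]
  congr 1
  ring

/-- the translations -/
def transl (F : Type*) [Field F] : Subgroup (Equiv.Perm F) where
  carrier := {σ | ∃ b : F, ∀ x, σ x = x + b}
  one_mem' := ⟨0, fun x => by simp⟩
  mul_mem' := by
    rintro σ τ ⟨b, hσ⟩ ⟨d, hτ⟩
    refine ⟨d + b, fun x => ?_⟩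
    simp only [Equiv.Perm.coe_mul, Function.comp_apply, hτ, hσ, add_assoc]
  inv_mem' := by
    rintro σ ⟨b, hσ⟩
    refine ⟨-b, fun x => ?_⟩
    apply σ.injective
    rw [Equiv.Perm.inv_def, Equiv.apply_symm_apply, hσ, neg_add_cancel_right]

theorem comm_apply {α : Type*} (σ τ : Equiv.Perm α) (x : α) :
    ⁅σ, τ⁆ (τ (σ x)) = σ (τ x) := by
  simp [commutatorElement_def]

theorem comm_mem_of {α : Type*} (σ τ : Equiv.Perm α) (f : α → α)
    (h : ∀ x, σ (τ x) = f (τ (σ x))) (y : α) : ⁅σ, τ⁆ y = f y := by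
  obtain ⟨x, rfl⟩ : ∃ x, τ (σ x) = y := ⟨σ⁻¹ (τ⁻¹ y), by simp⟩
  rw [comm_apply, h]

theorem step1 (F : Type*) [Field F] [Finite F] :
    ⁅Cfsg.semiaffineGroup F, Cfsg.semiaffineGroup F⁆ ≤ Cfsg.affineGroup F := by
  rw [Subgroup.commutator_le]
  rintro σ ⟨a, b, φ, hσ⟩ τ ⟨c, d, ψ, hτ⟩
  have hA : (a : F) * φ c ≠ 0 := mul_ne_zero a.ne_zero (by simp)
  have hC : (c : F) * ψ a ≠ 0 := mul_ne_zero c.ne_zero (by simp)
  refine ⟨Units.mk0 _ hA * (Units.mk0 _ hC)⁻¹,
    ((a : F) * φ d + b) - (a : F) * φ c * ((c : F) * ψ a)⁻¹ * ((c : F) * ψ b + d), ?_⟩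
  apply comm_mem_of
  intro x
  simp only [hσ, hτ, map_add, map_mul, Units.val_mul, Units.val_mk0, Units.val_inv_eq_inv_val]
  rw [aut_comm F φ ψ x]
  field_simp
  ring

theorem step2 (F : Type*) [Field F] :
    ⁅Cfsg.affineGroup F, Cfsg.affineGroup F⁆ ≤ transl F := by
  rw [Subgroup.commutator_le]
  rintro σ ⟨a, b, hσ⟩ τ ⟨c, d, hτ⟩
  refine ⟨(a : F) * d + b - ((c : F) * b + d), ?_⟩
  apply comm_mem_of
  intro x
  simp only [hσ, hτ]
  ring

theorem step3 (F : Type*) [Field F] : ⁅transl F, transl F⁆ = ⊥ := by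
  rw [Subgroup.commutator_eq_bot_iff_le_centralizer]
  rintro σ ⟨b, hσ⟩ τ ⟨d, hτ⟩
  ext x
  simp only [Equiv.Perm.coe_mul, Function.comp_apply, hσ, hτ]
  ring

/-- `σ ↦ φ` (where `σ x = a φ(x) + b`; `b = σ 0`, `a = σ 1 - σ 0`) is a homomorphism (or
anti-homomorphism) to the abelian group `F ≃+* F` (generated by Frobenius); its kernel, the affine
maps, maps to `Fˣ` with kernel the translations. -/
theorem semiaffine_solvable (F : Type*) [Field F] [Finite F] :
    IsSolvable (Cfsg.semiaffineGroup F) := by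
  set G := Cfsg.semiaffineGroup F with hG
  have h0 : (derivedSeries G 0).map G.subtype ≤ G := by
    rintro _ ⟨x, -, rfl⟩
    exact x.2
  have h1 : (derivedSeries G 1).map G.subtype ≤ Cfsg.affineGroup F := by
    rw [derivedSeries_succ, Subgroup.map_commutator]
    exact (Subgroup.commutator_mono h0 h0).trans (step1 F)
  have h2 : (derivedSeries G 2).map G.subtype ≤ transl F := by
    rw [derivedSeries_succ, Subgroup.map_commutator]
    exact (Subgroup.commutator_mono h1 h1).trans (step2 F)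
  have h3 : (derivedSeries G 3).map G.subtype ≤ ⊥ := by
    rw [derivedSeries_succ, Subgroup.map_commutator]
    exact (Subgroup.commutator_mono h2 h2).trans (step3 F).le
  refine ⟨⟨3, ?_⟩⟩
  rw [le_bot_iff, Subgroup.map_eq_bot_iff_of_injective _ G.subtype_injective] at h3
  exact h3

end Cfsg.Agent.Lib.H59BRSolv
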