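import Cfsg.Prelude.Def_LieExceptional
import Cfsg.Agent.S0035
import Cfsg.Agent.S4252
import Cfsg.Agent.Lib.Helper26Sh3

/-!
# Zassenhaus groups with two-point stabilisers of even order `(n - 1) / 2`
-/

set_option autoImplicit false

namespace Cfsg.Agent.Lib.Helper26Zas

open MulAction Cfsg.Agent.Lib.Helper26Dat Cfsg.Agent.Lib.Helper26Sh3

/-- Faithful, doubly transitive, only the identity fixes three points. -/
structure Zas (G Ω : Type*) [Group G] [MulAction G Ω] : Prop where
  faithful : ∀ g : G, (∀ x : Ω, g • x = x) → g = 1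
  two : ∀ x₁ x₂ y₁ y₂ : Ω, x₁ ≠ x₂ → y₁ ≠ y₂ → ∃ g : G, g • x₁ = y₁ ∧ g • x₂ = y₂
  three : ∀ g : G, ∀ x₁ x₂ x₃ : Ω, x₁ ≠ x₂ → x₁ ≠ x₃ → x₂ ≠ x₃ → g • x₁ = x₁ → g • x₂ = x₂ →
    g • x₃ = x₃ → g = 1

variable {G Ω : Type*} [Group G] [MulAction G Ω]

/-- The Frobenius kernel of a point stabiliser. -/
theorem Zas.exists_kernel [Finite G] [Finite Ω] (h : Zas G Ω) {a b : Ω} (hab : a ≠ b)
    (hd : ∃ g : G, g ≠ 1 ∧ g • a = a ∧ g • b = b) :
    ∃ U : Subgroup G, Nat.card U + 1 = Nat.card Ω ∧
      (∀ u ∈ U, u • a = a) ∧ (∀ u ∈ U, ∀ x, x ≠ a → u • x = x → u = 1) ∧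
      (∀ y, y ≠ a → ∃ u ∈ U, u • b = y) ∧ (∀ g : G, g • a = a → ∀ u ∈ U, g * u * g⁻¹ ∈ U) := by
  classical
  have : Fintype (SubMulAction.ofStabilizer G a) := Fintype.ofFinite _
  have hne : ∀ x : SubMulAction.ofStabilizer G a, (x : Ω) ≠ a := fun x =>
    SubMulAction.neq_of_mem_ofStabilizer G a
  let b' : SubMulAction.ofStabilizer G a := ⟨b, hab.symm⟩
  obtain ⟨g₀, hg₀1, hg₀a, hg₀b⟩ := hd
  have htrans : ∀ α β : SubMulAction.ofStabilizer G a, ∃ g : stabilizer G a, g • α = β := by
    intro α β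
    obtain ⟨g, h1, h2⟩ := h.two a α a β (hne α).symm (hne β).symm
    exact ⟨⟨g, h1⟩, Subtype.ext h2⟩
  have hcardX : Nat.card (SubMulAction.ofStabilizer G a) + 1 = Nat.card Ω :=
    SubMulAction.nat_card_ofStabilizer_add_one_eq G a
  have hfix : ∀ g : stabilizer G a, g ≠ 1 → ∀ α β : SubMulAction.ofStabilizer G a,
      g • α = α → g • β = β → α = β := by
    intro g hg α β hα hβ
    by_contra hne'
    apply hg
    apply Subtype.ext
    exact h.three g a α β (hne α).symm (hne β).symm (fun hh => hne' (Subtype.ext hh)) g.2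
      (congrArg Subtype.val hα) (congrArg Subtype.val hβ)
  obtain ⟨c, hc⟩ : ∃ c : Ω, g₀ • c ≠ c := by
    by_contra hcon
    push Not at hcon
    exact hg₀1 (h.faithful g₀ hcon)
  have hca : c ≠ a := by rintro rfl; exact hc hg₀a
  have hcb : c ≠ b := by rintro rfl; exact hc hg₀b
  let c' : SubMulAction.ofStabilizer G a := ⟨c, hca⟩
  have h1X : 1 < Fintype.card (SubMulAction.ofStabilizer G a) :=
    Fintype.one_lt_card_iff.2 ⟨c', b', fun hh => hcb (congrArg Subtype.val hh)⟩
  obtain ⟨hFC, hker⟩ := Cfsg.Agent.S4252.result h1X htrans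
    ⟨⟨g₀, hg₀a⟩, fun hh => hg₀1 (congrArg Subtype.val hh), b', Subtype.ext hg₀b⟩ hfix b'
  obtain ⟨C, hCset, hCn, hCcompl⟩ := Cfsg.Agent.S0035.result _ hFC
  have hCiff : ∀ g : stabilizer G a, g ∈ C ↔ g = 1 ∨ ∀ ω : SubMulAction.ofStabilizer G a, g • ω ≠ ω := by
    intro g
    have : g ∈ (C : Set (stabilizer G a)) ↔ g ∈ {g : stabilizer G a | g = 1 ∨
        ∀ ω : SubMulAction.ofStabilizer G a, g • ω ≠ ω} := by rw [hCset, hker]
    exact this
  have hpre : IsPretransitive (stabilizer G a) (SubMulAction.ofStabilizer G a) := ⟨htrans⟩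
  have hCcard : Nat.card C = Nat.card (SubMulAction.ofStabilizer G a) := by
    have h1 := hCcompl.card_mul_card
    have h2 := (stabilizer (stabilizer G a) b').card_mul_index
    rw [index_stabilizer_of_transitive] at h2
    have h3 : 0 < Nat.card (stabilizer (stabilizer G a) b') := Nat.card_pos
    have h4 : Nat.card C * Nat.card (stabilizer (stabilizer G a) b')
        = Nat.card (SubMulAction.ofStabilizer G a) * Nat.card (stabilizer (stabilizer G a) b') := by
      rw [h1, ← h2, mul_comm]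
    exact Nat.eq_of_mul_eq_mul_right h3 h4
  have hfree : ∀ c ∈ C, ∀ x : SubMulAction.ofStabilizer G a, c • x = x → c = 1 := by
    intro c hc x hx
    rcases (hCiff c).1 hc with h1 | h1
    · exact h1
    · exact absurd hx (h1 x)
  have htrans' : ∀ y : SubMulAction.ofStabilizer G a, ∃ c ∈ C, c • b' = y := by
    have hinj : Function.Injective (fun c : C => (c : stabilizer G a) • b') := by
      intro c c' hcc
      have h1 : ((c' : stabilizer G a)⁻¹ * c) • b' = b' := by
        rw [mul_smul]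
        have hcc' : (c : stabilizer G a) • b' = (c' : stabilizer G a) • b' := hcc
        rw [hcc', inv_smul_smul]
      have h2 := hfree _ (C.mul_mem (C.inv_mem c'.2) c.2) b' h1
      rw [inv_mul_eq_one] at h2
      exact Subtype.ext h2.symm
    have hbij : Function.Bijective (fun c : C => (c : stabilizer G a) • b') := by
      have : Fintype C := Fintype.ofFinite C
      rw [Fintype.bijective_iff_injective_and_card]
      refine ⟨hinj, ?_⟩
      rw [← Nat.card_eq_fintype_card, ← Nat.card_eq_fintype_card, hCcard]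
    intro y
    obtain ⟨c, hc⟩ := hbij.2 y
    exact ⟨c, c.2, hc⟩
  refine ⟨C.map (stabilizer G a).subtype, ?_, ?_, ?_, ?_, ?_⟩
  · rw [Nat.card_congr (Subgroup.equivMapOfInjective C _ (Subgroup.subtype_injective _)).symm.toEquiv,
      hCcard, hcardX]
  · rintro _ ⟨c, -, rfl⟩
    exact c.2
  · rintro _ ⟨c, hc, rfl⟩ x hx hcx
    have := hfree c hc ⟨x, hx⟩ (Subtype.ext hcx)
    rw [this]; rfl
  · intro y hy
    obtain ⟨c, hc, hcy⟩ := htrans' ⟨y, hy⟩
    exact ⟨c, ⟨c, hc, rfl⟩, congrArg Subtype.val hcy⟩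
  · rintro g hg _ ⟨c, hc, rfl⟩
    exact ⟨⟨g, hg⟩ * c * ⟨g, hg⟩⁻¹, hCn.conj_mem c hc ⟨g, hg⟩, rfl⟩


/-- A two-point stabiliser contains at most one involution. -/
theorem Zas.uniq_invol [Finite G] [Finite Ω] (h : Zas G Ω) {x y : Ω} (hxy : x ≠ y) {s t : G}
    (hs : s * s = 1) (hs1 : s ≠ 1) (hsx : s • x = x) (hsy : s • y = y)
    (ht : t * t = 1) (ht1 : t ≠ 1) (htx : t • x = x) (hty : t • y = y) : s = t := by
  obtain ⟨U, -, hUfix, hUfree, hUtrans, hUnorm⟩ := h.exists_kernel hxy ⟨s, hs1, hsx, hsy⟩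
  have key : ∀ r : G, r * r = 1 → r ≠ 1 → r • x = x → r • y = y → ∀ u ∈ U, r * u * r⁻¹ = u⁻¹ := by
    intro r hr hr1 hrx hry
    apply inv_of_fpf hr (fun u hu => hUnorm r hrx u hu)
    intro u hu hru
    by_contra hu1
    have h1 : u • y ≠ y := fun hh => hu1 (hUfree u hu y hxy.symm hh)
    have h2 : u • y ≠ x := by
      intro hh
      have h3 : u • x = x := hUfix u hu
      exact hxy (smul_left_cancel u (hh.trans h3.symm)).symm
    have h3 : r • (u • y) = u • y := by
      have h4 : r * u = u * r := by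
        have := congrArg (· * r) hru
        simpa [mul_assoc] using this
      rw [← mul_smul, h4, mul_smul, hry]
    exact hr1 (h.three r x y (u • y) hxy h2.symm h1.symm hrx hry h3)
  have hst : s * t = 1 := by
    apply h.faithful
    intro z
    by_cases hz : z = x
    · rw [hz, mul_smul, htx, hsx]
    · obtain ⟨u, hu, rfl⟩ := hUtrans z hz
      have h1 : s * t * u = u * (s * t) := by
        have e1 := key t ht ht1 htx hty u hu
        have e2 := key s hs hs1 hsx hsy u⁻¹ (U.inv_mem hu)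
        rw [inv_inv] at e2
        have e3 : t * u = u⁻¹ * t := by
          have := congrArg (· * t) e1
          simpa [mul_assoc] using this
        have e4 : s * u⁻¹ = u * s := by
          have := congrArg (· * s) e2
          simpa [mul_assoc] using this
        rw [mul_assoc, e3, ← mul_assoc, e4, mul_assoc]
      rw [← mul_smul, h1, mul_smul, mul_smul s t y, hty, hsy]
  have : t⁻¹ = t := inv_eq_of_mul_eq_one_left ht
  rw [← this]
  exact eq_inv_of_mul_eq_one_left hst

/-- For every further point there is an element interchanging `a`, `b` and fixing that point. -/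
theorem Zas.exists_swap_fix [Finite G] [Finite Ω] (h : Zas G Ω) {a b c : Ω} (hab : a ≠ b)
    (hca : c ≠ a) (hcb : c ≠ b) {j : G} (hj : j * j = 1) (hj1 : j ≠ 1) (hja : j • a = a)
    (hjb : j • b = b) : ∃ w : G, w • a = b ∧ w • b = a ∧ w • c = c := by
  have hji : j⁻¹ = j := inv_eq_of_mul_eq_one_left hj
  have hjj : ∀ z : Ω, j • j • z = z := fun z => by rw [← mul_smul, hj, one_smul]
  have hc' : j • c ≠ c := fun hh => hj1 (h.three j a b c hab hca.symm hcb.symm hja hjb hh)
  have hc'a : j • c ≠ a := by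
    intro hh
    have := congrArg (j • ·) hh
    simp only [hjj, hja] at this
    exact hca this
  obtain ⟨g, hga, hgb⟩ := h.two a b c (j • c) hab hc'.symm
  have hgia : g⁻¹ • c = a := by rw [← hga, inv_smul_smul]
  have hgib : g⁻¹ • (j • c) = b := by rw [← hgb, inv_smul_smul]
  obtain ⟨w, hw⟩ : ∃ w : G, w = g * j * g⁻¹ := ⟨_, rfl⟩
  have hww : w * w = 1 := by
    rw [hw]
    have : g * j * g⁻¹ * (g * j * g⁻¹) = g * (j * j) * g⁻¹ := by group
    rw [this, hj]; group
  have hw1 : w ≠ 1 := by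
    intro hh
    apply hj1
    rw [hw] at hh
    have := congrArg (fun z => g⁻¹ * z * g) hh
    simpa [mul_assoc] using this
  have hwc : w • c = c := by
    rw [hw, mul_smul, mul_smul, hgia, hja, hga]
  have hwc' : w • (j • c) = j • c := by
    rw [hw, mul_smul, mul_smul, hgib, hjb, hgb]
  have hcomm : j * w * j⁻¹ = w := by
    apply h.uniq_invol hc'.symm (x := c) (y := j • c) _ _ _ _ hww hw1 hwc hwc'
    · have : j * w * j⁻¹ * (j * w * j⁻¹) = j * (w * w) * j⁻¹ := by group
      rw [this, hww]; group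
    · intro hh
      apply hw1
      have := congrArg (fun z => j⁻¹ * z * j) hh
      simpa [mul_assoc] using this
    · rw [hji, mul_smul, mul_smul, hwc', hjj]
    · rw [hji, mul_smul, mul_smul, hjj, hwc]
  have hjw : j * w = w * j := by
    have := congrArg (· * j) hcomm
    simpa [mul_assoc] using this
  have h1 : j • (w • a) = w • a := by
    rw [← mul_smul, hjw, mul_smul, hja]
  have hwa : w • a = b := by
    by_contra hne
    by_cases hwa : w • a = a
    · exact hw1 (h.three w a c (j • c) hca.symm hc'a.symm hc'.symm hwa hwc hwc')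
    · exact hj1 (h.three j a b (w • a) hab (Ne.symm hwa) (Ne.symm hne) hja hjb h1)
  refine ⟨w, hwa, ?_, hwc⟩
  rw [← hwa, ← mul_smul, hww, one_smul]

/-- If `2 d = n - 1`, every element interchanging `a` and `b` is an involution. -/
theorem Zas.swap_sq [Finite G] [Finite Ω] (h : Zas G Ω) {a b : Ω} (hab : a ≠ b)
    {j : G} (hj : j * j = 1) (hj1 : j ≠ 1) (hja : j • a = a) (hjb : j • b = b)
    (hcard : 2 * Nat.card (stabilizer G a ⊓ stabilizer G b : Subgroup G) + 2 = Nat.card Ω) :
    ∀ w : G, w • a = b → w • b = a → w * w = 1 := by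
  classical
  have : Fintype Ω := Fintype.ofFinite Ω
  have : Fintype G := Fintype.ofFinite G
  obtain ⟨v, hva, hvb⟩ := h.two a b b a hab hab.symm
  have hWcard : Nat.card (stabilizer G a ⊓ stabilizer G b : Subgroup G)
      = (Finset.univ.filter (fun w : G => w • a = b ∧ w • b = a)).card := by
    rw [← Fintype.card_subtype, ← Nat.card_eq_fintype_card]
    apply Nat.card_congr
    refine ⟨fun x => ⟨v * x, ?_, ?_⟩, fun w => ⟨v⁻¹ * w, ?_⟩, ?_, ?_⟩
    · rw [mul_smul, (Subgroup.mem_inf.1 x.2).1, hva]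
    · rw [mul_smul, (Subgroup.mem_inf.1 x.2).2, hvb]
    · rw [Subgroup.mem_inf, mem_stabilizer_iff, mem_stabilizer_iff, mul_smul, mul_smul, w.2.1, w.2.2]
      exact ⟨by rw [inv_smul_eq_iff, hva], by rw [inv_smul_eq_iff, hvb]⟩
    · intro x; simp
    · intro w; simp
  have hex : ∀ c : Ω, c ≠ a ∧ c ≠ b → ∃ w : G, w • a = b ∧ w • b = a ∧ w • c = c := fun c hc =>
    h.exists_swap_fix hab hc.1 hc.2 hj hj1 hja hjb
  let f : Ω → G := fun c => if hc : c ≠ a ∧ c ≠ b then Classical.choose (hex c hc) else 1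
  have hf : ∀ c : Ω, c ≠ a ∧ c ≠ b → f c • a = b ∧ f c • b = a ∧ f c • c = c := by
    intro c hc
    simp only [f, dif_pos hc]
    exact Classical.choose_spec (hex c hc)
  have hle := Finset.card_le_mul_card_image_of_maps_to
    (s := Finset.univ.filter (fun c : Ω => c ≠ a ∧ c ≠ b))
    (t := Finset.univ.filter (fun w : G => (w • a = b ∧ w • b = a) ∧ w * w = 1)) (f := f)
    (by
      intro c hc
      rw [Finset.mem_filter] at hc
      obtain ⟨h1, h2, h3⟩ := hf c hc.2
      rw [Finset.mem_filter]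
      refine ⟨Finset.mem_univ _, ⟨h1, h2⟩, ?_⟩
      apply h.three _ a b c hab hc.2.1.symm hc.2.2.symm
      · rw [mul_smul, h1, h2]
      · rw [mul_smul, h2, h1]
      · rw [mul_smul, h3, h3]) 2
    (by
      intro w hw
      rw [Finset.mem_filter] at hw
      by_contra hcon
      push Not at hcon
      rw [Finset.two_lt_card_iff] at hcon
      obtain ⟨x, y, z, hx, hy, hz, hxy, hxz, hyz⟩ := hcon
      simp only [Finset.mem_filter, Finset.mem_univ, true_and] at hx hy hz
      have hw1 : w = 1 := by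
        apply h.three w x y z hxy hxz hyz
        · rw [← hx.2]; exact (hf x hx.1).2.2
        · rw [← hy.2]; exact (hf y hy.1).2.2
        · rw [← hz.2]; exact (hf z hz.1).2.2
      rw [hw1, one_smul] at hw
      exact hab hw.2.1.1)
  have hscard : (Finset.univ.filter (fun c : Ω => c ≠ a ∧ c ≠ b)).card + 2 = Fintype.card Ω := by
    have h1 : Finset.univ.filter (fun c : Ω => c ≠ a ∧ c ≠ b) = (Finset.univ.erase a).erase b := by
      ext c
      simp [and_comm]
    rw [h1, Finset.card_erase_of_mem (by simp [hab.symm]), Finset.card_erase_of_mem (by simp),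
      Finset.card_univ]
    have : 1 < Fintype.card Ω := Fintype.one_lt_card_iff.2 ⟨a, b, hab⟩
    omega
  have hsub : Finset.univ.filter (fun w : G => (w • a = b ∧ w • b = a) ∧ w * w = 1)
      ⊆ Finset.univ.filter (fun w : G => w • a = b ∧ w • b = a) := by
    intro w hw
    rw [Finset.mem_filter] at hw ⊢
    exact ⟨hw.1, hw.2.1⟩
  have heq := Finset.eq_of_subset_of_card_le hsub (by
    rw [Nat.card_eq_fintype_card (α := Ω)] at hcard
    omega)
  intro w hwa hwb
  have : w ∈ Finset.univ.filter (fun w : G => (w • a = b ∧ w • b = a) ∧ w * w = 1) := by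
    rw [heq, Finset.mem_filter]
    exact ⟨Finset.mem_univ _, hwa, hwb⟩
  rw [Finset.mem_filter] at this
  exact this.2.2


open Matrix MatrixGroups in
/-- Zassenhaus: `d` even and `2 d = n - 1` force `PSL₂(F)`. -/
theorem Zas.main_even [Finite G] [Finite Ω] (h : Zas G Ω) {a b : Ω} (hab : a ≠ b)
    (heven : Even (Nat.card (stabilizer G a ⊓ stabilizer G b : Subgroup G)))
    (hcard : 2 * Nat.card (stabilizer G a ⊓ stabilizer G b : Subgroup G) + 2 = Nat.card Ω) :
    ∃ (F : Type) (_ : Field F) (_ : Fintype F), Fintype.card F + 1 = Nat.card Ω ∧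
      ringChar F ≠ 2 ∧ Nonempty (G ≃* ProjectiveSpecialLinearGroup (Fin 2) F) := by
  obtain ⟨x, hx⟩ := exists_prime_orderOf_dvd_card' (G := (stabilizer G a ⊓ stabilizer G b : Subgroup G))
    2 heven.two_dvd
  obtain ⟨j, hjdef⟩ : ∃ j : G, j = x := ⟨_, rfl⟩
  have hjo : orderOf j = 2 := by rw [hjdef, Subgroup.orderOf_coe, hx]
  have hj : j * j = 1 := by rw [← pow_two, ← hjo]; exact pow_orderOf_eq_one j
  have hj1 : j ≠ 1 := by
    rintro rfl
    rw [orderOf_one] at hjo
    omega
  have hja : j • a = a := hjdef ▸ (Subgroup.mem_inf.1 x.2).1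
  have hjb : j • b = b := hjdef ▸ (Subgroup.mem_inf.1 x.2).2
  obtain ⟨U, hUcard, hUfix, hUfree, hUtrans, hUnorm⟩ := h.exists_kernel hab ⟨j, hj1, hja, hjb⟩
  have hjinv : ∀ u ∈ U, j * u * j⁻¹ = u⁻¹ := by
    apply inv_of_fpf hj (fun u hu => hUnorm j hja u hu)
    intro u hu hru
    by_contra hu1
    have h1 : u • b ≠ b := fun hh => hu1 (hUfree u hu b hab.symm hh)
    have h2 : u • b ≠ a := by
      intro hh
      have h3 : u • a = a := hUfix u hu
      exact hab (smul_left_cancel u (hh.trans h3.symm)).symm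
    have h3 : j • (u • b) = u • b := by
      have h4 : j * u = u * j := by
        have := congrArg (· * j) hru
        simpa [mul_assoc] using this
      rw [← mul_smul, h4, mul_smul, hjb]
    exact hj1 (h.three j a b (u • b) hab h2.symm h1.symm hja hjb h3)
  have hsq := h.swap_sq hab hj hj1 hja hjb hcard
  obtain ⟨v, hva, hvb⟩ := h.two a b b a hab hab.symm
  have hvv : v * v = 1 := hsq v hva hvb
  have hvi : v⁻¹ = v := inv_eq_of_mul_eq_one_left hvv
  have hDmem : ∀ g : G, g ∈ stabilizer G a ⊓ stabilizer G b ↔ g • b = b ∧ g • a = a := by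
    intro g
    rw [Subgroup.mem_inf, mem_stabilizer_iff, mem_stabilizer_iff, and_comm]
  have hinv : ∀ d ∈ stabilizer G a ⊓ stabilizer G b, v * d * v⁻¹ = d⁻¹ := by
    intro d hd
    obtain ⟨hdb, hda⟩ := (hDmem d).1 hd
    have h1 : (v * d) * (v * d) = 1 := by
      apply hsq
      · rw [mul_smul, hda, hva]
      · rw [mul_smul, hdb, hvb]
    rw [hvi]
    apply eq_inv_of_mul_eq_one_left
    rw [← h1]; group
  have hDpos : 0 < Nat.card (stabilizer G a ⊓ stabilizer G b : Subgroup G) := Nat.card_pos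
  have hdat : Datum b a U (stabilizer G a ⊓ stabilizer G b) v :=
    { faithful := h.faithful
      ne := hab.symm
      U_fix := hUfix
      U_trans := hUtrans
      U_free := fun u hu hub => hUfree u hu b hab.symm hub
      U_comm := comm_of_inv hjinv
      U_ne := by
        intro hU
        rw [hU, Subgroup.card_bot] at hUcard
        omega
      D_iff := hDmem
      D_norm := fun d hd u hu => hUnorm d ((hDmem d).1 hd).2 u hu
      D_comm := comm_of_inv hinv
      D_free := fun d hd x hxb hxa hdx =>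
        h.three d a b x hab (Ne.symm hxa) (Ne.symm hxb) ((hDmem d).1 hd).2 ((hDmem d).1 hd).1 hdx
      v_o := hvb
      v_i := hva
      v_inv := hinv
      card := by omega }
  obtain ⟨F, iF, iFt, hF, hcases⟩ := hdat.main
  rcases hcases with ⟨h1, -⟩ | ⟨-, hne, hPSL⟩
  · omega
  · exact ⟨F, iF, iFt, by omega, hne, hPSL⟩

theorem zas_of_isZassenhaus (hZ : Cfsg.IsZassenhausGroup G Ω) : Zas G Ω :=
  { faithful := fun g hg => hZ.1.eq_of_smul_eq_smul (fun x => by rw [hg x, one_smul])
    two := fun _ _ _ _ h1 h2 => (is_two_pretransitive_iff.1 hZ.2.1) h1 h2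
    three := fun g x₁ x₂ x₃ h12 h13 h23 h1 h2 h3 => hZ.2.2.1 g x₁ x₂ x₃ h12 h23 h13 h1 h2 h3 }

end Cfsg.Agent.Lib.Helper26Zas
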