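import Cfsg.Agent.Lib.Helper16FeitC
import Cfsg.Agent.Lib.Helper26Dat
import Cfsg.Agent.Lib.Helper26Zas
import Cfsg.Agent.S0741
import Mathlib

set_option autoImplicit false
set_option linter.unusedSectionVars false
set_option linter.unusedVariables false
set_option linter.style.haveILetI false

/-! Zassenhaus groups with abelian kernel which are not sharply triply transitive. -/

namespace Cfsg.Agent.Helper16Feit

open Cfsg Cfsg.Agent.Lib.Helper61Feit Cfsg.Agent.Lib.Helper61Feit2 Cfsg.Agent.Lib.Helper61Feit3

theorem psl_of_zass {G Ω : Type*} [Group G] [Finite G] [MulAction G Ω] [Finite Ω] {h : ℕ}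
    (hZ : Cfsg.IsZassenhausGroup G Ω) (hh : Nat.card Ω = h + 1) {x y : Ω} (hxy : x ≠ y)
    {F : Subgroup G} (K : KData G Ω x h F) (hHab : ∀ u ∈ F, ∀ v ∈ F, u * v = v * u)
    (hne : Nat.card (stab2 G x y) + 1 ≠ h) :
    2 * Nat.card (stab2 G x y) + 1 = h ∧ ∃ (K' : Type) (_ : Field K') (_ : Fintype K'),
      Fintype.card K' = h ∧ ringChar K' ≠ 2 ∧
      Nonempty (G ≃* Matrix.ProjectiveSpecialLinearGroup (Fin 2) K') := by
  classical
  letI : Fintype Ω := Fintype.ofFinite Ω
  have D := tdata_of_zass hZ hh
  have hyx : y ≠ x := hxy.symm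
  have he2 := two_le_card_stab2 hZ hh hxy
  have hh2 := two_le_h hZ hh
  have hdvd := dvd_sub_one D hxy he2 hh2
  obtain ⟨q, hq⟩ := hdvd
  have hcardΩ : Fintype.card Ω = h + 1 := by rw [← Nat.card_eq_fintype_card, hh]
  have hq1 : q ≠ 1 := by
    rintro rfl
    rw [mul_one] at hq
    omega
  have hq2 : 2 ≤ q := by
    rcases Nat.eq_zero_or_pos q with h0 | h0
    · rw [h0, mul_zero] at hq; omega
    · omega
  have hle : 2 * Nat.card (stab2 G x y) ≤ h - 1 := by
    rw [hq, mul_comm]
    exact Nat.mul_le_mul_left _ hq2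
  rcases Nat.even_or_odd (Nat.card (stab2 G x y)) with heven | hodd
  · have h1 : Fintype.card Ω - 2 ≤ 2 * Nat.card (stab2 G x y) := Cfsg.Agent.S0741.result hZ hxy heven
    have heq : 2 * Nat.card (stab2 G x y) + 1 = h := by omega
    refine ⟨heq, ?_⟩
    obtain ⟨K', iF, iFt, hcard, hchar, hiso⟩ :=
      (Cfsg.Agent.Lib.Helper26Zas.zas_of_isZassenhaus hZ).main_even hxy heven (by
        rw [hh]
        show 2 * Nat.card (stab2 G x y) + 2 = h + 1
        omega)
    exact ⟨K', iF, iFt, by omega, hchar, hiso⟩
  · have hfeit := feit_ab hh hxy (Nat.card G) G hZ hodd F K hHab rfl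
    have heq : 2 * Nat.card (stab2 G x y) = h - 1 := le_antisymm hle hfeit
    refine ⟨by omega, ?_⟩
    haveI := simple_of_eq hZ hh hxy hodd K hHab heq
    have hodd' : Odd (Nat.card (stab2 G y x)) := by
      rw [card_stab2_eq D hyx hxy]; exact hodd
    obtain ⟨v, hv1, hv2⟩ := exists_smul_pair D hyx hxy
    have hdat : Cfsg.Agent.Lib.Helper26Dat.Datum y x F (stab2 G y x) v :=
      { faithful := by
          intro g hg
          have := hZ.1
          apply FaithfulSMul.eq_of_smul_eq_smul (α := Ω)
          intro z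
          rw [hg, one_smul]
        ne := hyx
        U_fix := fun u hu => K.le hu
        U_trans := fun z hz => H_trans D K hxy z hz
        U_free := by
          intro u hu huy
          by_contra hu1
          exact hyx (K.fix u hu hu1 y huy)
        U_comm := hHab
        U_ne := by
          intro hbot
          have := K.card
          rw [hbot, Subgroup.card_bot] at this
          omega
        D_iff := fun g => mem_stab2
        D_norm := fun d hd u hu => K.conj_mem D hxy he2 hh2 (mem_stab2.1 hd).2 hu
        D_comm := comm hZ hh hyx hodd'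
        D_free := by
          intro d hd z hzy hzx hdz
          have hd' := mem_stab2.1 hd
          exact D.three_point d y x z hyx (Ne.symm hzx) (Ne.symm hzy) hd'.1 hd'.2 hdz
        v_o := hv1
        v_i := hv2
        v_inv := inverts hZ hh hyx hodd' hv1 hv2
        card := by
          rw [K.card, card_stab2_eq D hyx hxy]
          omega }
    obtain ⟨K', iF, iFt, hcard, h1 | ⟨-, hchar, hiso⟩⟩ := hdat.main
    · exfalso
      rw [K.card, card_stab2_eq D hyx hxy] at h1
      omega
    · exact ⟨K', iF, iFt, by rw [hcard, K.card], hchar, hiso⟩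

end Cfsg.Agent.Helper16Feit
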