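import Cfsg.Agent.Lib.Helper16PglA
import Mathlib

set_option autoImplicit false
set_option linter.unusedSectionVars false
set_option linter.unusedVariables false
set_option linter.style.haveILetI false

/-! Recognition of `PGL₂(p)` as a sharply triply transitive group of degree `p + 1`. -/

namespace Cfsg.Agent.Helper16Pgl

open OnePoint Cfsg.Agent.Lib.Helper26Mob Cfsg.Agent.Lib.Helper26Rec

theorem pow_mod_of_pow_eq_one {G : Type*} [Group G] {u : G} {p : ℕ} (hup : u ^ p = 1) (n : ℕ) :
    u ^ (n % p) = u ^ n := by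
  conv_rhs => rw [← Nat.div_add_mod n p, pow_add, pow_mul, hup, one_pow, one_mul]

theorem pgl_of_sharp3 {G Ω : Type*} [Group G] [MulAction G Ω] {p : ℕ} [Fact p.Prime]
    (hfaith : ∀ g : G, (∀ x : Ω, g • x = x) → g = 1)
    (h3pt : ∀ g : G, ∀ a b c : Ω, a ≠ b → a ≠ c → b ≠ c → g • a = a → g • b = b → g • c = c → g = 1)
    {o i : Ω} (hoi : o ≠ i) (u : G) (hui : u • i = i) (hup : u ^ p = 1)
    (hfree : ∀ k : ℕ, u ^ k • o = o → p ∣ k)
    (hsurj : ∀ y, y ≠ i → ∃ k : ℕ, u ^ k • o = y)
    (hnorm : ∀ d : G, d • o = o → d • i = i → ∃ m : ℕ, d * u * d⁻¹ = u ^ m)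
    (htr : ∀ y, y ≠ o → y ≠ i → ∃ d : G, d • o = o ∧ d • i = i ∧ d • (u • o) = y)
    (v : G) (hvo : v • o = i) (hvi : v • i = o) :
    Nonempty (G ≃* Matrix.ProjGenLinGroup (Fin 2) (ZMod p)) := by
  classical
  have hp := (Fact.out : p.Prime)
  haveI : Fact (1 < p) := ⟨hp.one_lt⟩
  let uu : ZMod p → G := fun k => u ^ k.val
  have huu : ∀ k, uu k = u ^ k.val := fun k => rfl
  have huun : ∀ n : ℕ, uu (n : ZMod p) = u ^ n := by
    intro n
    rw [huu, ZMod.val_natCast, pow_mod_of_pow_eq_one hup]
  have hadd : ∀ a b, uu (a + b) = uu a * uu b := by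
    intro a b
    rw [huu, huu, huu, ZMod.val_add, pow_mod_of_pow_eq_one hup, pow_add]
  have hu0 : uu 0 = 1 := by rw [huu, ZMod.val_zero, pow_zero]
  have hu1 : uu 1 = u := by rw [huu, ZMod.val_one, pow_one]
  have hpowi : ∀ n : ℕ, u ^ n • i = i := by
    intro n
    induction n with
    | zero => simp
    | succ n ih => rw [pow_succ, mul_smul, hui, ih]
  have hfixi : ∀ k, uu k • i = i := fun k => hpowi _
  have hne_i : ∀ k, uu k • o ≠ i := by
    intro k h1
    exact hoi (smul_left_cancel (uu k) (h1.trans (hfixi k).symm))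
  have hinj : ∀ a b, uu a • o = uu b • o → a = b := by
    intro a b hab
    have h1 : uu (a - b) • o = o := by
      have : a - b = -b + a := by ring
      rw [this, hadd, mul_smul, hab, ← mul_smul, ← hadd, neg_add_cancel, hu0, one_smul]
    have h2 := hfree _ h1
    have h3 : (a - b).val = 0 := Nat.eq_zero_of_dvd_of_lt h2 (ZMod.val_lt _)
    exact sub_eq_zero.1 ((ZMod.val_eq_zero _).1 h3)
  let E₀ : OnePoint (ZMod p) → Ω := fun x => x.elim i (fun k => uu k • o)
  have hE₀inf : E₀ ∞ = i := rfl
  have hE₀coe : ∀ k : ZMod p, E₀ (k : OnePoint (ZMod p)) = uu k • o := fun k => rfl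
  have hE₀bij : Function.Bijective E₀ := by
    constructor
    · intro x y hxy
      cases x with
      | infty =>
        cases y with
        | infty => rfl
        | coe b =>
          rw [hE₀inf, hE₀coe] at hxy
          exact absurd hxy.symm (hne_i b)
      | coe a =>
        cases y with
        | infty =>
          rw [hE₀inf, hE₀coe] at hxy
          exact absurd hxy (hne_i a)
        | coe b =>
          rw [hE₀coe, hE₀coe] at hxy
          rw [hinj a b hxy]
    · intro y
      by_cases hy : y = i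
      · exact ⟨∞, hy ▸ hE₀inf⟩
      · obtain ⟨k, hk⟩ := hsurj y hy
        exact ⟨((k : ZMod p) : OnePoint (ZMod p)), by rw [hE₀coe, huun, hk]⟩
  let E : OnePoint (ZMod p) ≃ Ω := Equiv.ofBijective E₀ hE₀bij
  have hEinf : E ∞ = i := rfl
  have hEcoe : ∀ k : ZMod p, E (k : OnePoint (ZMod p)) = uu k • o := fun k => rfl
  have hE0 : E ((0 : ZMod p) : OnePoint (ZMod p)) = o := by rw [hEcoe, hu0, one_smul]
  let ρ : G →* Equiv.Perm (OnePoint (ZMod p)) :=
    { toFun := fun g => (E.trans (MulAction.toPerm g)).trans E.symm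
      map_one' := by
        ext x
        simp
      map_mul' := fun g g' => by
        ext x
        simp [mul_smul] }
  have hρ : ∀ (g : G) (x : OnePoint (ZMod p)), E (ρ g x) = g • E x := by
    intro g x
    simp [ρ]
  have hρeq : ∀ (g : G) (x y : OnePoint (ZMod p)), g • E x = E y → ρ g x = y := by
    intro g x y hxy
    apply E.injective
    rw [hρ, hxy]
  have hρinj : Function.Injective ρ := by
    rw [injective_iff_map_eq_one]
    intro g hg
    apply hfaith
    intro x
    have := hρ g (E.symm x)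
    rw [hg] at this
    simpa using this.symm
  have hρT : ∀ b : ZMod p, ρ (uu b) = T b := by
    intro b
    apply perm_ext
    · rw [T_infty]
      apply hρeq
      rw [hEinf]
      exact hfixi b
    · intro x
      rw [T_coe]
      apply hρeq
      rw [hEcoe, hEcoe, add_comm, hadd, mul_smul]
  have hρM : ∀ d : G, d • o = o → d • i = i → ∃ a : (ZMod p)ˣ, ρ d = M a := by
    intro d hdo hdi
    obtain ⟨m, hm⟩ := hnorm d hdo hdi
    have hm0 : (m : ZMod p) ≠ 0 := by
      intro h
      rw [ZMod.natCast_eq_zero_iff] at h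
      obtain ⟨c, rfl⟩ := h
      rw [pow_mul, hup, one_pow] at hm
      have hu : u = 1 := by
        have : u = d⁻¹ * (d * u * d⁻¹) * d := by group
        rw [this, hm]; group
      have := hfree 1 (by rw [hu]; simp)
      exact hp.one_lt.ne' (Nat.dvd_one.1 this)
    have hpow : ∀ n : ℕ, d * u ^ n * d⁻¹ = u ^ (m * n) := by
      intro n
      rw [pow_mul, ← hm, conj_pow]
    refine ⟨Units.mk0 _ hm0, ?_⟩
    apply perm_ext
    · rw [M_infty]
      apply hρeq
      rw [hEinf]
      exact hdi
    · intro x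
      rw [M_coe]
      apply hρeq
      rw [hEcoe, hEcoe, Units.val_mk0]
      have h1 : d • uu x • o = (d * uu x * d⁻¹) • o := by
        rw [mul_smul, mul_smul]
        congr 2
        rw [eq_inv_smul_iff, hdo]
      rw [h1, huu x, hpow]
      have h2 : (m : ZMod p) * x = ((m * x.val : ℕ) : ZMod p) := by
        push_cast
        rw [ZMod.natCast_zmod_val]
      rw [h2, huun]
  have hΓ : ρ.range = MG (ZMod p) := by
    apply gamma_eq ρ.range ?_ (fun b => ⟨uu b, hρT b⟩) ?_ (ρ v) ⟨v, rfl⟩
    · apply hρeq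
      rw [hEinf, hE0, hvi]
    · apply hρeq
      rw [hEinf, hE0, hvo]
    · rintro _ ⟨g, rfl⟩ x y z hxy hxz hyz hx hy hz
      have hg : g = 1 := by
        apply h3pt g (E x) (E y) (E z) (fun h => hxy (E.injective h)) (fun h => hxz (E.injective h))
          (fun h => hyz (E.injective h))
        · rw [← hρ, hx]
        · rw [← hρ, hy]
        · rw [← hρ, hz]
      rw [hg, map_one]
    · intro a
      have hy1 : uu (a : ZMod p) • o ≠ o := by
        intro h
        have := hinj (a : ZMod p) 0 (by rw [h, hu0, one_smul])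
        exact a.ne_zero this
      obtain ⟨d, hdo, hdi, hd⟩ := htr _ hy1 (hne_i _)
      obtain ⟨a', ha'⟩ := hρM d hdo hdi
      have h1 := hρ d ((1 : ZMod p) : OnePoint (ZMod p))
      rw [ha', M_coe, mul_one, hEcoe, hEcoe, hu1, hd] at h1
      have h2 := hinj _ _ h1
      refine ⟨d, ?_⟩
      rw [ha', Units.ext h2]
  obtain ⟨e2⟩ := nonempty_equiv_MG (F := ZMod p)
  exact ⟨((MonoidHom.ofInjective hρinj).trans (MulEquiv.subgroupCongr hΓ)).trans e2⟩

end Cfsg.Agent.Helper16Pgl
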