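import Mathlib

/-!
# Transitive groups of degree `p + 1` and order `(p + 1) p d`, `d < p`: the kernel of a point
stabiliser, double transitivity, three fixed points.
-/

set_option autoImplicit false

namespace Cfsg.Agent.Lib.Helper75DegP1

open MulAction

variable {G Ω : Type*} [Group G] [Finite G] [MulAction G Ω] [Fintype Ω] [FaithfulSMul G Ω]
  [IsPretransitive G Ω] {p d : ℕ}

omit [FaithfulSMul G Ω] in
theorem card_stabilizer (hΩ : Fintype.card Ω = p + 1) (hG : Nat.card G = (p + 1) * p * d) (a : Ω) :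
    Nat.card (stabilizer G a) = p * d := by
  have h1 := MulAction.index_stabilizer_of_transitive G a
  have h2 := (stabilizer G a).card_mul_index
  rw [h1, Nat.card_eq_fintype_card (α := Ω), hΩ, hG] at h2
  have h3 : 0 < p + 1 := by positivity
  apply Nat.eq_of_mul_eq_mul_right h3
  rw [h2]; ring

/-- The kernel of the point stabiliser. -/
theorem exists_kernel (hp : p.Prime) (hΩ : Fintype.card Ω = p + 1)
    (hG : Nat.card G = (p + 1) * p * d) (hd : d < p) (a : Ω) :
    ∃ U : Subgroup G, Nat.card U = p ∧ U ≤ stabilizer G a ∧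
      (∀ g ∈ stabilizer G a, ∀ u ∈ U, g * u * g⁻¹ ∈ U) ∧
      (∀ u ∈ U, ∀ y, y ≠ a → u • y = y → u = 1) ∧
      (∀ y z, y ≠ a → z ≠ a → ∃ u ∈ U, u • y = z) := by
  classical
  have : Fact p.Prime := ⟨hp⟩
  have hd0 : 0 < d := by
    rcases Nat.eq_zero_or_pos d with h | h
    · rw [h, mul_zero] at hG
      exact absurd hG (Nat.card_pos).ne'
    · exact h
  have hS := card_stabilizer hΩ hG a
  set S := stabilizer G a with hSdef
  let Q : Sylow p S := default
  have hpd : ¬ p ∣ d := fun h => absurd (Nat.le_of_dvd hd0 h) (by omega)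
  have hQ : Nat.card Q = p := by
    have h1 := Sylow.card_eq_multiplicity Q
    rw [hS, Nat.factorization_mul hp.ne_zero hd0.ne', Finsupp.add_apply,
      hp.factorization_self, Nat.factorization_eq_zero_of_not_dvd hpd, add_zero, pow_one] at h1
    exact h1
  have hidx : (Q : Subgroup S).index = d := by
    have h1 := (Q : Subgroup S).card_mul_index
    rw [hS] at h1
    have h2 : Nat.card (Q : Subgroup S) = p := hQ
    rw [h2] at h1
    exact Nat.eq_of_mul_eq_mul_left hp.pos h1
  have hn1 : Nat.card (Sylow p S) = 1 := by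
    have h1 := card_sylow_modEq_one p S
    have h2 := Sylow.card_dvd_index Q
    rw [hidx] at h2
    have h3 := Nat.le_of_dvd hd0 h2
    have h4 : Nat.card (Sylow p S) % p = 1 % p := h1
    rw [Nat.mod_eq_of_lt (by omega), Nat.mod_eq_of_lt hp.one_lt] at h4
    exact h4
  have hQn : (Q : Subgroup S).Normal := by
    rw [Sylow.card_eq_index_normalizer Q, Subgroup.index_eq_one] at hn1
    exact Subgroup.normalizer_eq_top_iff.1 hn1
  set U : Subgroup G := (Q : Subgroup S).map S.subtype with hU
  have hUcard : Nat.card U = p := by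
    rw [hU, Subgroup.card_map_of_injective S.subtype_injective]
    exact hQ
  have hUle : U ≤ S := by
    rintro _ ⟨x, -, rfl⟩
    exact x.2
  have hUnorm : ∀ g ∈ S, ∀ u ∈ U, g * u * g⁻¹ ∈ U := by
    rintro g hg _ ⟨x, hx, rfl⟩
    exact ⟨⟨g, hg⟩ * x * ⟨g, hg⟩⁻¹, hQn.conj_mem x hx ⟨g, hg⟩, rfl⟩
  have hUp : IsPGroup p U := IsPGroup.of_card (n := 1) (by rw [hUcard, pow_one])
  -- only `a` is fixed by all of `U`
  have hfix : ∀ y, y ≠ a → ∃ u ∈ U, u • y ≠ y := by
    intro y hya
    by_contra hcon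
    push Not at hcon
    have h1 := hUp.card_modEq_card_fixedPoints Ω
    rw [Nat.card_eq_fintype_card, hΩ] at h1
    have ha : a ∈ fixedPoints U Ω := fun u => hUle u.2
    have hy : y ∈ fixedPoints U Ω := fun u => hcon u u.2
    have h2 : 1 < Nat.card (fixedPoints U Ω) := by
      rw [Nat.card_coe_set_eq, Set.one_lt_ncard_iff]
      exact ⟨y, a, hy, ha, hya⟩
    have h3 : Nat.card (fixedPoints U Ω) ≤ p + 1 := by
      rw [← hΩ, ← Nat.card_eq_fintype_card]
      exact Nat.card_le_card_of_injective _ Subtype.val_injective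
    have h4 : Nat.card (fixedPoints U Ω) = p + 1 := by
      have h5 : (p + 1) % p = Nat.card (fixedPoints U Ω) % p := h1
      rw [Nat.add_mod_left, Nat.mod_eq_of_lt hp.one_lt] at h5
      by_contra hne
      have h6 : Nat.card (fixedPoints U Ω) ≤ p := by omega
      rcases h6.lt_or_eq with h7 | h7
      · rw [Nat.mod_eq_of_lt h7] at h5
        omega
      · rw [h7, Nat.mod_self] at h5
        omega
    have h5 : fixedPoints U Ω = Set.univ := by
      rw [Set.eq_univ_iff_ncard, ← Nat.card_coe_set_eq, h4, Nat.card_eq_fintype_card, hΩ]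
    have h6 : U = ⊥ := by
      rw [eq_bot_iff]
      intro u hu
      rw [Subgroup.mem_bot]
      apply FaithfulSMul.eq_of_smul_eq_smul (α := Ω)
      intro x
      rw [one_smul]
      have : x ∈ fixedPoints U Ω := by rw [h5]; trivial
      exact this ⟨u, hu⟩
    rw [h6, Subgroup.card_bot] at hUcard
    exact hp.one_lt.ne hUcard
  have hfree : ∀ u ∈ U, ∀ y, y ≠ a → u • y = y → u = 1 := by
    intro u hu y hya huy
    have h1 : Nat.card (U ⊓ stabilizer G y : Subgroup G) ∣ p := by
      rw [← hUcard]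
      exact Subgroup.card_dvd_of_le inf_le_left
    rcases (Nat.dvd_prime hp).1 h1 with h2 | h2
    · have h3 : u ∈ (U ⊓ stabilizer G y : Subgroup G) := ⟨hu, huy⟩
      rw [Subgroup.card_eq_one.1 h2] at h3
      exact h3
    · exfalso
      obtain ⟨w, hw, hwy⟩ := hfix y hya
      have h3 : (U ⊓ stabilizer G y : Subgroup G) = U := by
        apply Subgroup.eq_of_le_of_card_ge inf_le_left
        rw [h2, hUcard]
      have h4 : w ∈ (U ⊓ stabilizer G y : Subgroup G) := by rw [h3]; exact hw
      exact hwy h4.2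
  refine ⟨U, hUcard, hUle, hUnorm, hfree, ?_⟩
  intro y z hya hza
  have hne : ∀ u : U, (u : G) • y ≠ a := by
    intro u hu
    exact hya (smul_left_cancel (u : G) (hu.trans (hUle u.2).symm))
  have hinj : Function.Injective (fun u : U => (⟨(u : G) • y, hne u⟩ : {z : Ω // z ≠ a})) := by
    intro u v huv
    have h1 : (u : G) • y = (v : G) • y := congrArg Subtype.val huv
    have h2 : ((v : G)⁻¹ * (u : G)) = 1 := by
      apply hfree _ (U.mul_mem (U.inv_mem v.2) u.2) y hya
      rw [mul_smul, h1, inv_smul_smul]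
    exact Subtype.ext (inv_mul_eq_one.1 h2).symm
  have hcard : Nat.card {z : Ω // z ≠ a} ≤ Nat.card U := by
    rw [hUcard, Nat.card_eq_fintype_card, Fintype.card_subtype_compl, Fintype.card_subtype_eq, hΩ]
    simp
  obtain ⟨u, hu⟩ := (Function.Injective.bijective_of_nat_card_le hinj hcard).2 ⟨z, hza⟩
  exact ⟨u, u.2, congrArg Subtype.val hu⟩

theorem three_point (hp : p.Prime) (hΩ : Fintype.card Ω = p + 1)
    (hG : Nat.card G = (p + 1) * p * d) (hd : d < p) (g : G) (a b c : Ω) (hab : a ≠ b)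
    (hbc : b ≠ c) (hac : a ≠ c) (ha : g • a = a) (hb : g • b = b) (hc : g • c = c) : g = 1 := by
  have : Fact p.Prime := ⟨hp⟩
  obtain ⟨U, hUcard, hUle, hUnorm, hfree, htr⟩ := exists_kernel hp hΩ hG hd a
  obtain ⟨u, hu, hub⟩ := htr b c hab.symm hac.symm
  have hu1 : u ≠ 1 := by
    rintro rfl
    rw [one_smul] at hub
    exact hbc hub
  have hgb : g⁻¹ • b = b := by rw [inv_smul_eq_iff, hb]
  have hcomm : g * u * g⁻¹ = u := by
    have h1 : u⁻¹ * (g * u * g⁻¹) = 1 := by
      apply hfree _ (U.mul_mem (U.inv_mem hu) (hUnorm g ha u hu)) b hab.symm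
      rw [mul_smul, mul_smul, mul_smul, hgb, hub, hc, inv_smul_eq_iff, hub]
    exact (inv_mul_eq_one.1 h1).symm
  have hall : ∀ v ∈ U, g * v * g⁻¹ = v := by
    intro v hv
    have h1 : (⟨v, hv⟩ : U) ∈ Subgroup.zpowers (⟨u, hu⟩ : U) :=
      mem_zpowers_of_prime_card hUcard (fun h => hu1 (congrArg Subtype.val h))
    obtain ⟨k, hk⟩ := h1
    have h2 : u ^ k = v := by
      have := congrArg Subtype.val hk
      simpa using this
    rw [← h2, ← conj_zpow, hcomm]
  apply FaithfulSMul.eq_of_smul_eq_smul (α := Ω)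
  intro x
  rw [one_smul]
  by_cases hxa : x = a
  · rw [hxa, ha]
  · obtain ⟨v, hv, hvb⟩ := htr b x hab.symm hxa
    have h1 : g * v = v * g := by
      have := congrArg (· * g) (hall v hv)
      simpa [mul_assoc] using this
    rw [← hvb, ← mul_smul, h1, mul_smul, hb]

theorem two_trans (hp : p.Prime) (hΩ : Fintype.card Ω = p + 1)
    (hG : Nat.card G = (p + 1) * p * d) (hd : d < p) : IsMultiplyPretransitive G Ω 2 := by
  rw [MulAction.is_two_pretransitive_iff]
  intro a b c e hab hce
  obtain ⟨g, hg⟩ := exists_smul_eq G a c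
  obtain ⟨U, -, hUle, -, -, htr⟩ := exists_kernel (G := G) hp hΩ hG hd c
  have h1 : g • b ≠ c := by
    intro h
    exact hab (smul_left_cancel g (hg.trans h.symm))
  obtain ⟨u, hu, hub⟩ := htr (g • b) e h1 hce.symm
  refine ⟨u * g, ?_, ?_⟩
  · rw [mul_smul, hg]; exact hUle hu
  · rw [mul_smul, hub]

end Cfsg.Agent.Lib.Helper75DegP1
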