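import Mathlib
import Cfsg.Agent.Lib.Helper26Fld

/-!
# Coordinates for a regular normal elementary abelian subgroup acted on by a large abelian group
-/

set_option autoImplicit false

namespace Cfsg.Agent.Lib.Helper75DegP1

open MulAction Cfsg.Agent.Lib.Helper26Fld

section coord

variable {G : Type*} [Group G]

theorem exists_coord (N U : Subgroup G) [Finite N]
    (hNcomm : ∀ a ∈ N, ∀ b ∈ N, a * b = b * a) (hN1 : N ≠ ⊥)
    (hUcomm : ∀ a ∈ U, ∀ b ∈ U, a * b = b * a)
    (hnorm : ∀ u ∈ U, ∀ n ∈ N, u * n * u⁻¹ ∈ N)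
    (hfree : ∀ u ∈ U, ∀ n ∈ N, n ≠ 1 → u * n * u⁻¹ = n → u = 1)
    (hcard : Nat.card N ≤ 2 * Nat.card U + 1) :
    ∃ (F : Type) (_ : Field F) (_ : Fintype F) (nn : F → G) (χ : U →* Fˣ),
      (∀ k, nn k ∈ N) ∧ (∀ a b, nn (a + b) = nn a * nn b) ∧ (∀ n ∈ N, ∃ k, nn k = n) ∧
      Function.Injective nn ∧ (∀ (u : U) k, (u : G) * nn k * (u : G)⁻¹ = nn (χ u * k)) := by
  letI : CommGroup N :=
    { (inferInstance : Group N) with
      mul_comm := fun a b => Subtype.ext (hNcomm a a.2 b b.2) }
  letI : DistribMulAction U (Additive N) :=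
    { smul := fun d a => Additive.ofMul
        ⟨(d : G) * (Additive.toMul a : N) * (d : G)⁻¹, hnorm d d.2 _ (Additive.toMul a).2⟩
      one_smul := fun u => by
        apply Additive.toMul.injective
        apply Subtype.ext
        change ((1 : U) : G) * (Additive.toMul u : N) * ((1 : U) : G)⁻¹ = (Additive.toMul u : N)
        simp
      mul_smul := fun d d' u => by
        apply Additive.toMul.injective
        apply Subtype.ext
        change ((d * d' : U) : G) * (Additive.toMul u : N) * ((d * d' : U) : G)⁻¹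
          = (d : G) * ((d' : G) * (Additive.toMul u : N) * (d' : G)⁻¹) * (d : G)⁻¹
        simp [mul_assoc]
      smul_add := fun d u u' => by
        apply Additive.toMul.injective
        apply Subtype.ext
        change (d : G) * ((Additive.toMul u * Additive.toMul u' : N) : G) * (d : G)⁻¹
          = ((d : G) * (Additive.toMul u : N) * (d : G)⁻¹)
            * ((d : G) * (Additive.toMul u' : N) * (d : G)⁻¹)
        simp [mul_assoc]
      smul_zero := fun d => by
        apply Additive.toMul.injective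
        apply Subtype.ext
        change (d : G) * ((1 : N) : G) * (d : G)⁻¹ = 1
        simp }
  obtain ⟨u₀, hu₀U, hu₀⟩ : ∃ u ∈ N, u ≠ 1 := by
    by_contra hc
    push Not at hc
    exact hN1 ((Subgroup.eq_bot_iff_forall _).2 hc)
  obtain ⟨F, iF, iFt, φ, χ, -, h2⟩ := exists_field (A := Additive N) (D := U)
    (fun d d' => Subtype.ext (hUcomm d d.2 d' d'.2))
    (by
      intro d a ha hda
      apply Subtype.ext
      apply hfree d d.2 (Additive.toMul a : N) (Additive.toMul a).2
      · intro h1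
        apply ha
        have : Additive.toMul a = 1 := Subtype.ext h1
        exact this
      · have := congrArg (fun x : Additive N => ((Additive.toMul x : N) : G)) hda
        exact this)
    (by rw [show Nat.card (Additive N) = Nat.card N from rfl]; exact hcard)
    (Additive.ofMul ⟨u₀, hu₀U⟩)
    (by
      intro h1
      apply hu₀
      exact congrArg (fun x : Additive N => ((Additive.toMul x : N) : G)) h1)
  refine ⟨F, iF, iFt, fun k => ((Additive.toMul (φ k) : N) : G), χ,
    fun k => (Additive.toMul (φ k)).2, ?_, ?_, ?_, ?_⟩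
  · intro a b
    change ((Additive.toMul (φ (a + b)) : N) : G) = _
    rw [map_add]; rfl
  · intro u hu
    refine ⟨φ.symm (Additive.ofMul ⟨u, hu⟩), ?_⟩
    simp
  · intro a b hab
    apply φ.injective
    have : Additive.toMul (φ a) = Additive.toMul (φ b) := Subtype.ext hab
    exact this
  · intro d k
    have := congrArg (fun x : Additive N => ((Additive.toMul x : N) : G)) (h2 d k)
    exact this

end coord

section main

variable {G Ω : Type*} [Group G] [MulAction G Ω]

/-- Coordinates on a regular normal subgroup `N` by a field `K`, the group `U` (fixing `a`) acting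
as the full multiplicative group. -/
structure AffData (a : Ω) (N U : Subgroup G) (K : Type*) [Field K] (nn : K → G) (χ : U →* Kˣ) :
    Prop where
  N_normal : N.Normal
  N_trans : ∀ y : Ω, ∃ n ∈ N, n • a = y
  N_free : ∀ n ∈ N, n • a = a → n = 1
  U_fix : ∀ u ∈ U, u • a = a
  U_norm : ∀ g : G, g • a = a → ∀ u ∈ U, g * u * g⁻¹ ∈ U
  mem : ∀ k, nn k ∈ N
  add : ∀ x y, nn (x + y) = nn x * nn y
  surj : ∀ n ∈ N, ∃ k, nn k = n
  inj : Function.Injective nn
  conj : ∀ (u : U) k, (u : G) * nn k * (u : G)⁻¹ = nn (χ u * k)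
  χsurj : ∀ y : K, y ≠ 0 → ∃ u : U, (χ u : K) = y

variable {a : Ω} {N U : Subgroup G} {K : Type*} [Field K] {nn : K → G} {χ : U →* Kˣ}

theorem AffData.exists_aut [Finite K] (h : AffData a N U K nn χ) (g : G) (hg : g • a = a) :
    ∃ (c : Kˣ) (φ : K ≃+* K), (∀ x, g * nn x * g⁻¹ = nn (c * φ x)) ∧
      ∀ u : U, φ (χ u) = χ ⟨g * u * g⁻¹, h.U_norm g hg u u.2⟩ := by
  have hex : ∀ x, ∃ y, nn y = g * nn x * g⁻¹ := fun x =>
    h.surj _ (h.N_normal.conj_mem _ (h.mem x) g)
  choose η hη using hex
  have hadd : ∀ x y, η (x + y) = η x + η y := by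
    intro x y
    apply h.inj
    rw [h.add, hη, hη, hη, h.add]
    group
  have hinj : Function.Injective η := by
    intro x y hxy
    apply h.inj
    have h1 : g * nn x * g⁻¹ = g * nn y * g⁻¹ := by rw [← hη, ← hη, hxy]
    exact mul_left_cancel (mul_right_cancel h1)
  have h0 : η 0 = 0 := by
    have := hadd 0 0
    rw [add_zero] at this
    exact left_eq_add.1 this
  have hc0 : η 1 ≠ 0 := by
    intro h1
    exact one_ne_zero (hinj (h1.trans h0.symm))
  have hrel : ∀ (u : U) x, η (χ u * x)
      = χ ⟨g * u * g⁻¹, h.U_norm g hg u u.2⟩ * η x := by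
    intro u x
    apply h.inj
    rw [hη, ← h.conj, ← h.conj, hη]
    group
  have hφu : ∀ u : U, (η 1)⁻¹ * η (χ u) = χ ⟨g * u * g⁻¹, h.U_norm g hg u u.2⟩ := by
    intro u
    have := hrel u 1
    rw [mul_one] at this
    rw [this]
    field_simp
  have hmul : ∀ x y, (η 1)⁻¹ * η (x * y) = ((η 1)⁻¹ * η x) * ((η 1)⁻¹ * η y) := by
    intro x y
    by_cases hx : x = 0
    · rw [hx, zero_mul, h0]; simp
    · obtain ⟨u, hu⟩ := h.χsurj x hx
      rw [← hu, hrel, hφu]
      ring
  let φ₀ : K →+* K :=
    { toFun := fun x => (η 1)⁻¹ * η x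
      map_one' := inv_mul_cancel₀ hc0
      map_mul' := hmul
      map_zero' := by rw [h0, mul_zero]
      map_add' := fun x y => by rw [hadd, mul_add] }
  have hbij : Function.Bijective φ₀ := by
    apply Finite.injective_iff_bijective.1
    exact φ₀.injective
  refine ⟨Units.mk0 (η 1) hc0, RingEquiv.ofBijective φ₀ hbij, ?_, ?_⟩
  · intro x
    rw [← hη]
    congr 1
    change η x = η 1 * ((η 1)⁻¹ * η x)
    field_simp
  · intro u
    exact hφu u

theorem AffData.zero (h : AffData a N U K nn χ) : nn 0 = 1 := by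
  have := h.add 0 0
  rw [add_zero] at this
  exact (mul_eq_left.1 this.symm)

theorem AffData.semiaffine [Finite K] (h : AffData a N U K nn χ) (g : G) :
    ∃ (c : Kˣ) (b : K) (φ : K ≃+* K), ∀ x, g • (nn x • a) = nn (c * φ x + b) • a := by
  obtain ⟨n, hn, hna⟩ := h.N_trans (g • a)
  obtain ⟨b, rfl⟩ := h.surj n hn
  have hfix : ((nn b)⁻¹ * g) • a = a := by
    rw [mul_smul, ← hna, inv_smul_smul]
  obtain ⟨c, φ, h1, -⟩ := h.exists_aut _ hfix
  refine ⟨c, b, φ, fun x => ?_⟩
  have h2 : ((nn b)⁻¹ * g)⁻¹ • a = a := by rw [inv_smul_eq_iff, hfix]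
  have h3 : g * nn x = nn b * (((nn b)⁻¹ * g) * nn x * ((nn b)⁻¹ * g)⁻¹) * ((nn b)⁻¹ * g) := by
    group
  rw [← mul_smul, h3, h1, mul_smul, hfix, add_comm, h.add]

theorem AffData.bijective (h : AffData a N U K nn χ) :
    Function.Bijective (fun k : K => nn k • a) := by
  constructor
  · intro x y hxy
    apply h.inj
    have h1 : ((nn y)⁻¹ * nn x) = 1 := by
      apply h.N_free _ (N.mul_mem (N.inv_mem (h.mem y)) (h.mem x))
      rw [mul_smul]
      change (nn y)⁻¹ • (nn x • a) = a
      have h2 : nn x • a = nn y • a := hxy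
      rw [h2, inv_smul_smul]
    exact (inv_mul_eq_one.1 h1).symm
  · intro y
    obtain ⟨n, hn, hna⟩ := h.N_trans y
    obtain ⟨k, rfl⟩ := h.surj n hn
    exact ⟨k, hna⟩

end main

end Cfsg.Agent.Lib.Helper75DegP1
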