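import Mathlib
import Cfsg.Agent.Lib.Helper75DegP1
import Cfsg.Agent.Lib.Helper75DegP1B
import Cfsg.Prelude.Def_Perm

/-!
# Degree `p + 1`, order `(p + 1) p d`: the case of a regular normal subgroup
-/

set_option autoImplicit false

namespace Cfsg.Agent.Lib.Helper75DegP1

open MulAction

section hom

variable {G Ω : Type*} [Group G] [MulAction G Ω]
variable {a : Ω} {N U : Subgroup G} {K : Type*} [Field K] {nn : K → G} {χ : U →* Kˣ}

theorem AffData.ringEquiv_ext (h : AffData a N U K nn χ) {φ ψ : K ≃+* K}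
    (hφ : ∀ u : U, φ (χ u) = ψ (χ u)) : φ = ψ := by
  ext x
  by_cases hx : x = 0
  · simp [hx]
  · obtain ⟨u, rfl⟩ := h.χsurj x hx
    exact hφ u

theorem AffData.card_stab [Finite G] [Finite K] [FaithfulSMul G Ω] (h : AffData a N U K nn χ)
    (hUcomm : ∀ u ∈ U, ∀ v ∈ U, u * v = v * u) (hχinj : Function.Injective χ)
    (htr : ∀ y z, y ≠ a → z ≠ a → ∃ u ∈ U, u • y = z) (b : Ω) (hb : b ≠ a) :
    ∃ m, m ∣ Nat.card (K ≃+* K) ∧ Nat.card (stabilizer G a) = Nat.card U * m := by
  have hex : ∀ g : stabilizer G a, ∃ φ : K ≃+* K, ∀ u : U,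
      φ (χ u) = χ ⟨(g : G) * u * (g : G)⁻¹, h.U_norm g g.2 u u.2⟩ := by
    intro g
    obtain ⟨c, φ, -, h2⟩ := h.exists_aut g g.2
    exact ⟨φ, h2⟩
  choose Θ hΘ using hex
  let T : stabilizer G a →* RingAut K := MonoidHom.mk' Θ (by
    intro g g'
    apply h.ringEquiv_ext
    intro u
    rw [hΘ, RingAut.mul_apply, hΘ, hΘ]
    congr 2
    apply Subtype.ext
    simp [mul_assoc])
  have hUle : U ≤ stabilizer G a := fun u hu => h.U_fix u hu
  have hker : T.ker = U.subgroupOf (stabilizer G a) := by
    ext g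
    rw [MonoidHom.mem_ker, Subgroup.mem_subgroupOf]
    constructor
    · intro hg
      have hcomm : ∀ u ∈ U, (g : G) * u * (g : G)⁻¹ = u := by
        intro u hu
        have h1 := hΘ g ⟨u, hu⟩
        have h2 : Θ g = 1 := hg
        rw [h2, RingAut.one_apply] at h1
        have h3 := hχinj (Units.ext h1)
        exact (congrArg Subtype.val h3).symm
      have hgb : (g : G) • b ≠ a := by
        intro h1
        exact hb (smul_left_cancel (g : G) (h1.trans g.2.symm))
      obtain ⟨u₀, hu₀, hu₀b⟩ := htr b ((g : G) • b) hb hgb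
      have h1 : u₀⁻¹ * (g : G) = 1 := by
        apply FaithfulSMul.eq_of_smul_eq_smul (α := Ω)
        intro x
        rw [one_smul]
        by_cases hxa : x = a
        · rw [hxa, mul_smul]
          have : (g : G) • a = a := g.2
          rw [this, inv_smul_eq_iff, h.U_fix u₀ hu₀]
        · obtain ⟨v, hv, hvb⟩ := htr b x hb hxa
          have h2 : (g : G) * v = v * (g : G) := by
            have := congrArg (· * (g : G)) (hcomm v hv)
            simpa [mul_assoc] using this
          rw [← hvb, ← mul_smul, mul_assoc, h2, mul_smul, mul_smul, ← hu₀b, ← mul_smul, ← mul_smul,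
            hUcomm _ (U.inv_mem hu₀) v hv, mul_assoc, inv_mul_cancel, mul_one]
      rw [← inv_mul_eq_one.1 h1]
      exact hu₀
    · intro hg
      change Θ g = 1
      apply h.ringEquiv_ext
      intro u
      rw [hΘ, RingAut.one_apply]
      congr 2
      apply Subtype.ext
      change (g : G) * u * (g : G)⁻¹ = u
      rw [hUcomm _ hg u u.2, mul_inv_cancel_right]
  refine ⟨Nat.card T.range, Subgroup.card_subgroup_dvd_card _, ?_⟩
  have h1 := T.ker.card_mul_index
  rw [Subgroup.index_ker, hker, Nat.card_congr (Subgroup.subgroupOfEquivOfLe hUle).toEquiv] at h1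
  exact h1.symm

end hom

theorem card_ringAut_galoisField (k : ℕ) (hk : k ≠ 0) :
    Nat.card (GaloisField 2 k ≃+* GaloisField 2 k) = k := by
  let e : (GaloisField 2 k ≃+* GaloisField 2 k) ≃ (GaloisField 2 k ≃ₐ[ZMod 2] GaloisField 2 k) :=
    { toFun := fun φ => AlgEquiv.ofRingEquiv (f := φ) (fun r =>
        RingHom.congr_fun (Subsingleton.elim
          ((φ : GaloisField 2 k →+* GaloisField 2 k).comp (algebraMap (ZMod 2) (GaloisField 2 k)))
          (algebraMap (ZMod 2) (GaloisField 2 k))) r)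
      invFun := fun φ => φ.toRingEquiv
      left_inv := fun φ => by ext x; rfl
      right_inv := fun φ => by ext x; rfl }
  rw [Nat.card_congr e, IsGalois.card_aut_eq_finrank, GaloisField.finrank 2 hk]

section top

variable {G Ω : Type*} [Group G] [Finite G] [MulAction G Ω] [Fintype Ω] [FaithfulSMul G Ω]
  [IsPretransitive G Ω] {p d : ℕ}

theorem semiaffine_of_regular_normal (hp : p.Prime) (hp2 : p ≠ 2) (hΩ : Fintype.card Ω = p + 1)
    (hG : Nat.card G = (p + 1) * p * d) (hd : d < p)
    (N : Subgroup G) (hN : N.Normal) (hNt : IsPretransitive N Ω)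
    (hNr : ∀ a : Ω, stabilizer N a = ⊥) :
    ∃ q : ℕ, q.Prime ∧ p + 1 = 2 ^ q ∧ (d = 1 ∨ d = q) ∧ ∃ e : Ω ≃ GaloisField 2 q, ∀ g : G,
      (e.symm.trans ((MulAction.toPerm g).trans e)) ∈ Cfsg.semiaffineGroup (GaloisField 2 q) := by
  classical
  have : Fact p.Prime := ⟨hp⟩
  obtain ⟨a, b, hab⟩ : ∃ a b : Ω, b ≠ a := by
    have h1 : 1 < Fintype.card Ω := by rw [hΩ]; have := hp.pos; omega
    obtain ⟨a, b, hab⟩ := Fintype.one_lt_card_iff.1 h1
    exact ⟨a, b, hab.symm⟩
  obtain ⟨U, hUcard, hUle, hUnorm, hUfree, hUtr⟩ := exists_kernel (G := G) hp hΩ hG hd a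
  have hNtr : ∀ y : Ω, ∃ n ∈ N, n • a = y := by
    intro y
    obtain ⟨n, hn⟩ := exists_smul_eq N a y
    exact ⟨n, n.2, hn⟩
  have hNfree : ∀ n ∈ N, n • a = a → n = 1 := by
    intro n hn hna
    have h1 : (⟨n, hn⟩ : N) ∈ stabilizer N a := hna
    rw [hNr a, Subgroup.mem_bot] at h1
    exact congrArg Subtype.val h1
  have hNcard : Nat.card N = p + 1 := by
    rw [← hΩ, ← Nat.card_eq_fintype_card]
    apply Nat.card_congr
    refine Equiv.ofBijective (fun n : N => (n : G) • a) ⟨?_, ?_⟩
    · intro n m hnm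
      have h1 : (n : G) • a = (m : G) • a := hnm
      have h2 : (m : G)⁻¹ * (n : G) = 1 := by
        apply hNfree _ (N.mul_mem (N.inv_mem m.2) n.2)
        rw [mul_smul, h1, inv_smul_smul]
      exact Subtype.ext (inv_mul_eq_one.1 h2).symm
    · intro y
      obtain ⟨n, hn, hna⟩ := hNtr y
      exact ⟨⟨n, hn⟩, hna⟩
  have hUinv : ∀ u ∈ U, u⁻¹ • a = a := fun u hu => by rw [inv_smul_eq_iff]; exact (hUle hu).symm
  have hconj : ∀ n ∈ N, ∀ m ∈ N, n ≠ 1 → m ≠ 1 → ∃ u ∈ U, u * n * u⁻¹ = m := by
    intro n hn m hm hn1 hm1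
    obtain ⟨u, hu, hunm⟩ := hUtr (n • a) (m • a) (fun h => hn1 (hNfree n hn h))
      (fun h => hm1 (hNfree m hm h))
    refine ⟨u, hu, ?_⟩
    have h1 : m⁻¹ * (u * n * u⁻¹) = 1 := by
      apply hNfree _ (N.mul_mem (N.inv_mem hm) (hN.conj_mem n hn u))
      rw [mul_smul, mul_smul, mul_smul, hUinv u hu, hunm, inv_smul_smul]
    exact (inv_mul_eq_one.1 h1).symm
  have hsq : ∀ n ∈ N, n * n = 1 := by
    have h2 : 2 ∣ Nat.card N := by
      rw [hNcard]
      rcases hp.eq_two_or_odd' with h | h
      · exact absurd h hp2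
      · obtain ⟨k, hk⟩ := h
        exact ⟨k + 1, by omega⟩
    obtain ⟨t, ht⟩ := exists_prime_orderOf_dvd_card' (G := N) 2 h2
    have ht1 : (t : G) ≠ 1 := by
      intro h
      have : t = 1 := Subtype.ext h
      rw [this, orderOf_one] at ht
      omega
    have htt : (t : G) * (t : G) = 1 := by
      have h3 := pow_orderOf_eq_one t
      rw [ht, pow_two] at h3
      exact congrArg Subtype.val h3
    intro n hn
    by_cases hn1 : n = 1
    · rw [hn1, one_mul]
    · obtain ⟨u, -, hu⟩ := hconj t t.2 n hn ht1 hn1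
      rw [← hu]
      calc u * t * u⁻¹ * (u * t * u⁻¹) = u * ((t : G) * (t : G)) * u⁻¹ := by group
        _ = 1 := by rw [htt]; group
  have hNcomm : ∀ x ∈ N, ∀ y ∈ N, x * y = y * x := by
    intro x hx y hy
    have h1 := hsq (x * y) (N.mul_mem hx hy)
    have h2 := hsq x hx
    have h3 := hsq y hy
    calc x * y = y * y * (x * y) * (x * x) := by rw [h2, h3]; group
      _ = y * (y * x) * (y * x) * x := by group
      _ = y * x * ((x * y) * (x * y)) * (y * x) * (y * x) * (x * x) * (y * y) := by
          rw [h1, h2, h3]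
          have h4 := hsq (y * x) (N.mul_mem hy hx)
          calc y * (y * x) * (y * x) * x = y * ((y * x) * (y * x)) * x := by group
            _ = y * x := by rw [h4]; group
            _ = y * x * ((y * x) * (y * x)) := by rw [h4, mul_one]
            _ = y * x * 1 * (y * x) * (y * x) * 1 * 1 := by group
      _ = y * x := by
          rw [h1, h2, h3]
          have h4 := hsq (y * x) (N.mul_mem hy hx)
          calc y * x * 1 * (y * x) * (y * x) * 1 * 1 = y * x * ((y * x) * (y * x)) := by group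
            _ = y * x := by rw [h4, mul_one]
  have hN1 : N ≠ ⊥ := by
    intro h
    rw [h, Subgroup.card_bot] at hNcard
    have := hp.pos
    omega
  have hUcomm : ∀ x ∈ U, ∀ y ∈ U, x * y = y * x := by
    have hcyc : IsCyclic U := isCyclic_of_prime_card hUcard
    intro x hx y hy
    let _ := IsCyclic.commGroup (α := U)
    exact congrArg Subtype.val (mul_comm (⟨x, hx⟩ : U) ⟨y, hy⟩)
  have hfree : ∀ u ∈ U, ∀ n ∈ N, n ≠ 1 → u * n * u⁻¹ = n → u = 1 := by
    intro u hu n hn hn1 hun
    apply hUfree u hu (n • a) (fun h => hn1 (hNfree n hn h))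
    have h1 : u * n = n * u := by
      have := congrArg (· * u) hun
      simpa [mul_assoc] using this
    rw [← mul_smul, h1, mul_smul]
    congr 1
    exact hUle hu
  obtain ⟨F, iF, iFt, nn, χ, hmem, hadd, hsurj, hinj, hcj⟩ := exists_coord N U hNcomm hN1 hUcomm
    (fun u _ n hn => hN.conj_mem n hn u) hfree (by rw [hNcard, hUcard]; omega)
  have hcardF : Fintype.card F = p + 1 := by
    rw [← hNcard, ← Nat.card_eq_fintype_card]
    apply Nat.card_congr
    exact Equiv.ofBijective (fun k => (⟨nn k, hmem k⟩ : N))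
      ⟨fun x y hxy => hinj (congrArg Subtype.val hxy), fun n => by
        obtain ⟨k, hk⟩ := hsurj n n.2
        exact ⟨k, Subtype.ext hk⟩⟩
  have hnn0 : nn 0 = 1 := by
    have := hadd 0 0
    rw [add_zero] at this
    exact (mul_eq_left.1 this.symm)
  have hχinj : Function.Injective χ := by
    rw [injective_iff_map_eq_one]
    intro u hu
    apply Subtype.ext
    apply hfree u u.2 (nn 1) (hmem 1)
    · intro h1
      exact one_ne_zero (hinj (h1.trans hnn0.symm))
    · rw [hcj, hu, Units.val_one, one_mul]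
  have hχsurj : Function.Surjective χ := by
    have h1 : Nat.card Fˣ ≤ Nat.card U := by
      rw [hUcard, Nat.card_eq_fintype_card, Fintype.card_units, hcardF]
      simp
    exact (Function.Injective.bijective_of_nat_card_le hχinj h1).2
  have htwo : (2 : F) = 0 := by
    apply hinj
    rw [hnn0, ← one_add_one_eq_two, hadd]
    exact hsq _ (hmem 1)
  have hchar : CharP F 2 := CharTwo.of_one_ne_zero_of_two_eq_zero one_ne_zero htwo
  obtain ⟨k, -, hk⟩ := FiniteField.card F 2
  rw [hcardF] at hk
  have hk1 : (k : ℕ) ≠ 1 := by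
    intro h
    rw [h, pow_one] at hk
    have := hp.one_lt
    omega
  have hkp : (k : ℕ).Prime := by
    apply (Nat.prime_of_pow_sub_one_prime (a := 2) hk1 _).2
    rw [← hk]
    simpa using hp
  have : Fintype (GaloisField 2 (k : ℕ)) := Fintype.ofFinite _
  have hcardK : Fintype.card F = Fintype.card (GaloisField 2 (k : ℕ)) := by
    rw [hcardF, hk, ← Nat.card_eq_fintype_card, GaloisField.card 2 _ k.pos.ne']
  let ψ : F ≃+* GaloisField 2 (k : ℕ) := FiniteField.ringEquivOfCardEq hcardK
  have hD : AffData a N U (GaloisField 2 (k : ℕ)) (fun x => nn (ψ.symm x))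
      ((Units.map (ψ : F →* GaloisField 2 (k : ℕ))).comp χ) :=
    { N_normal := hN
      N_trans := hNtr
      N_free := hNfree
      U_fix := fun u hu => hUle hu
      U_norm := fun g hg u hu => hUnorm g hg u hu
      mem := fun x => hmem _
      add := fun x y => by rw [map_add, hadd]
      surj := fun n hn => by
        obtain ⟨x, hx⟩ := hsurj n hn
        exact ⟨ψ x, by simpa using hx⟩
      inj := fun x y hxy => ψ.symm.injective (hinj hxy)
      conj := fun u x => by
        rw [hcj]
        congr 1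
        simp
      χsurj := fun y hy => by
        have h1 : ψ.symm y ≠ 0 := by
          intro h
          apply hy
          have := congrArg ψ h
          simpa using this
        obtain ⟨u, hu⟩ := hχsurj (Units.mk0 _ h1)
        refine ⟨u, ?_⟩
        simp [hu] }
  refine ⟨k, hkp, hk, ?_, ?_⟩
  · obtain ⟨m, hm1, hm2⟩ := hD.card_stab hUcomm (by
      intro x y hxy
      apply hχinj
      have h1 : Function.Injective (Units.map (ψ : F →* GaloisField 2 (k : ℕ))) :=
        Units.map_injective ψ.injective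
      exact h1 hxy) hUtr b hab
    rw [card_ringAut_galoisField _ k.pos.ne'] at hm1
    rw [card_stabilizer hΩ hG a, hUcard] at hm2
    have h1 : d = m := Nat.eq_of_mul_eq_mul_left hp.pos hm2
    rw [h1]
    exact (Nat.dvd_prime hkp).1 hm1
  · refine ⟨(Equiv.ofBijective _ hD.bijective).symm, fun g => ?_⟩
    obtain ⟨c, b', φ, hφ⟩ := hD.semiaffine g
    refine ⟨c, b', φ, fun x => ?_⟩
    change (Equiv.ofBijective _ hD.bijective).symm (g • (nn (ψ.symm x) • a)) = _
    rw [Equiv.symm_apply_eq]
    exact hφ x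

end top

end Cfsg.Agent.Lib.Helper75DegP1
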