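import Mathlib
import Cfsg.Agent.Lib.Helper59BRDefs
import Cfsg.Agent.Lib.H59BRSolv
import Cfsg.Agent.S0732

set_option autoImplicit false
set_option linter.unusedSectionVars false
set_option linter.unusedVariables false

namespace Cfsg.Agent.Lib.H59BRNOne

open Cfsg Subgroup
open Cfsg.Agent.Lib.Helper81Base Cfsg.Agent.Lib.Helper82Linear Cfsg.Agent.Lib.Helper59BRDefs
open scoped ComplexConjugate

variable {G : Type*} [Group G] [Finite G] {p : ℕ} [Fact p.Prime] {P : Sylow p G} {e n : ℕ}

/-- the action on the Sylow subgroups is faithful -/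
theorem ker_eq_bot (H : Geo p P e n) : (MulAction.toPermHom G (Sylow p G)).ker = ⊥ := by
  have hp : p.Prime := Fact.out
  have hn1 := H.hn1
  -- a second Sylow subgroup
  obtain ⟨Q, hQ⟩ : ∃ Q : Sylow p G, Q ≠ P := by
    by_contra hcon
    push Not at hcon
    have : Subsingleton (Sylow p G) := ⟨fun a b => by rw [hcon a, hcon b]⟩
    have h1 : Nat.card (Sylow p G) ≤ 1 := Finite.card_le_one_iff_subsingleton.mpr this
    rw [H.hn] at h1
    have : 0 < n * p := Nat.mul_pos hn1 hp.pos
    omega
  have hK : ∀ k ∈ (MulAction.toPermHom G (Sylow p G)).ker, ∀ R : Sylow p G,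
      k ∈ normalizer ((R : Subgroup G) : Set G) := by
    intro k hk R
    have h1 : MulAction.toPermHom G (Sylow p G) k = 1 := hk
    have h2 : k • R = R := by
      have := congrArg (fun σ : Equiv.Perm (Sylow p G) => σ R) h1
      simpa using this
    exact Sylow.smul_eq_iff_mem_normalizer.mp h2
  have hcop : Nat.Coprime e p := by
    have h1 : Nat.Coprime (p - 1) p := by
      have := Nat.coprime_self_sub_right (n := p) (m := 1) hp.one_lt.le
      simpa [Nat.coprime_comm] using this
    exact Nat.Coprime.coprime_dvd_left H.hep h1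
  have hKP : (MulAction.toPermHom G (Sylow p G)).ker ⊓ (P : Subgroup G) = ⊥ := by
    rw [← Subgroup.card_eq_one]
    apply Nat.eq_one_of_dvd_coprimes hcop
    · rw [← H.hI Q P hQ]
      apply Subgroup.card_dvd_of_le
      intro k hk
      exact ⟨hK k hk.1 Q, hK k hk.1 P⟩
    · have h5 : Nat.card (P : Subgroup G) = p := H.hP
      have h6 := Subgroup.card_dvd_of_le
        (inf_le_right : (MulAction.toPermHom G (Sylow p G)).ker ⊓ (P : Subgroup G) ≤ P)
      rwa [h5] at h6
  have hle : (MulAction.toPermHom G (Sylow p G)).ker ≤ centralizer ((P : Subgroup G) : Set G) := by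
    intro k hk
    rw [Subgroup.mem_centralizer_iff]
    intro x hx
    have hx' : x ∈ (P : Subgroup G) := hx
    have h1 : k * x * k⁻¹ * x⁻¹ ∈ (MulAction.toPermHom G (Sylow p G)).ker ⊓ (P : Subgroup G) := by
      constructor
      · have h2 : k * x * k⁻¹ * x⁻¹ = k * (x * k⁻¹ * x⁻¹) := by group
        rw [h2]
        exact Subgroup.mul_mem _ hk
          ((MonoidHom.normal_ker _).conj_mem _ (Subgroup.inv_mem _ hk) x)
      · exact Subgroup.mul_mem _ ((mem_normalizer_iff.mp (hK k hk P) x).mp hx')
          (Subgroup.inv_mem _ hx')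
    rw [hKP, Subgroup.mem_bot] at h1
    have : x * k = (k * x * k⁻¹ * x⁻¹)⁻¹ * (k * x) := by group
    rw [this, h1, inv_one, one_mul]
  rw [H.hC] at hle
  rw [← hKP]
  exact (inf_eq_left.mpr hle).symm

/-- `G` acts on the `p + 1` Sylow subgroups, transitively and faithfully (the kernel `K` is normal,
`K ∩ P = 1`, so `[K, P] = 1`, `K ≤ C(P) = P`, `K = 1`); `|G| = (p+1) p e`.  Apply
`Cfsg.Agent.S0732.result` to the image of `G` in `Equiv.Perm (Sylow p G)` with `d = e`:
`d = p - 1` is excluded by `ht`; in the semi-affine case `G` embeds in a solvable group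
(`semiaffine_solvable`), impossible for a non-trivial perfect group. `2 e = p - 1`, `e ≥ 2` give
`p > 3`. -/
theorem n_one (hperf : commutator G = ⊤) (H : Geo p P e 1) (ht : e < p - 1) :
    3 < p ∧ Nonempty (G ≃* Matrix.ProjectiveSpecialLinearGroup (Fin 2) (ZMod p)) := by
  classical
  have hp : p.Prime := Fact.out
  have he := H.he
  have := Fintype.ofFinite (Sylow p G)
  have hinj : Function.Injective (MulAction.toPermHom G (Sylow p G)) :=
    (MonoidHom.ker_eq_bot_iff _).mp (ker_eq_bot H)
  have hα : Fintype.card (Sylow p G) = p + 1 := by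
    rw [← Nat.card_eq_fintype_card, H.hn]; ring
  have hcardG : Nat.card G = (p + 1) * p * e := by
    have h0 := (normalizer ((P : Subgroup G) : Set G)).card_mul_index
    have h1 : Nat.card (Sylow p G) = (normalizer ((P : Subgroup G) : Set G)).index :=
      P.card_eq_index_normalizer
    rw [← h0, H.hN, ← h1, H.hn]; ring
  have hiso : G ≃* (MulAction.toPermHom G (Sylow p G)).range := MonoidHom.ofInjective hinj
  have hcardR : Nat.card (MulAction.toPermHom G (Sylow p G)).range = (p + 1) * p * e := by
    rw [← hcardG]; exact (Nat.card_congr hiso.toEquiv).symm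
  have htr : MulAction.IsPretransitive (MulAction.toPermHom G (Sylow p G)).range (Sylow p G) := by
    refine ⟨fun Q Q' => ?_⟩
    obtain ⟨g, hg⟩ := MulAction.exists_smul_eq G Q Q'
    exact ⟨⟨MulAction.toPermHom G (Sylow p G) g, g, rfl⟩, hg⟩
  rcases Cfsg.Agent.S0732.result hp hα (MulAction.toPermHom G (Sylow p G)).range hcardR
    (by omega) with h1 | h1 | h1
  · omega
  · obtain ⟨h2, ⟨f⟩⟩ := h1
    exact ⟨by omega, ⟨hiso.trans f⟩⟩
  · exfalso
    obtain ⟨q, -, -, -, ε, hε⟩ := h1
    have hsol : Group.IsSolvable (Cfsg.semiaffineGroup (GaloisField 2 q)) :=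
      Cfsg.Agent.Lib.H59BRSolv.semiaffine_solvable (GaloisField 2 q)
    let ψ : (MulAction.toPermHom G (Sylow p G)).range →* Cfsg.semiaffineGroup (GaloisField 2 q) :=
      (ε.permCongrHom.toMonoidHom.comp
        (MulAction.toPermHom G (Sylow p G)).range.subtype).codRestrict _ (fun g => hε g)
    have hψ : Function.Injective ψ := by
      intro a b hab
      have h2 : ε.permCongrHom (a : Equiv.Perm (Sylow p G)) =
          ε.permCongrHom (b : Equiv.Perm (Sylow p G)) := congrArg Subtype.val hab
      exact Subtype.ext (ε.permCongrHom.injective h2)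
    have hsolG : Group.IsSolvable G :=
      Group.isSolvable_of_isSolvable_injective (f := ψ.comp hiso.toMonoidHom)
        (hψ.comp hiso.injective)
    have hnt : Nontrivial G := by
      have h3 : 1 < Nat.card G := by
        rw [hcardG]
        have : 0 < p * e := Nat.mul_pos hp.pos (by omega)
        nlinarith [hp.two_le]
      exact Finite.one_lt_card_iff_nontrivial.mp h3
    have := Group.IsSolvable.commutator_lt_top_of_nontrivial (G := G)
    rw [hperf] at this
    exact lt_irrefl _ this

end Cfsg.Agent.Lib.H59BRNOne
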