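import Mathlib
import Cfsg.Agent.Lib.Helper59BRDefs

set_option autoImplicit false
set_option linter.unusedSectionVars false
set_option linter.unusedVariables false

namespace Cfsg.Agent.Lib.H59BRFrob

open Cfsg Subgroup
open Cfsg.Agent.Lib.Helper81Base Cfsg.Agent.Lib.Helper82Linear Cfsg.Agent.Lib.Helper59BRDefs
open scoped ComplexConjugate

variable {G : Type*} [Group G] [Finite G] {p : ℕ} [Fact p.Prime] {P : Sylow p G} {e n : ℕ}

theorem coprime_e_p (H : Geo p P e n) : e.Coprime p := by
  have hp : p.Prime := Fact.out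
  have h1 : (p - 1).Coprime p := by
    have : (p - 1).Coprime (p - 1 + 1) := by simp
    rwa [Nat.sub_add_cancel hp.one_le] at this
  exact Nat.Coprime.coprime_dvd_left H.hep h1

/-- an element commuting with a nontrivial element of `P` centralizes `P` -/
theorem mem_centralizer_of_comm (hP : Nat.card P = p) {x g : G} (hx : x ∈ (P : Subgroup G))
    (hx1 : x ≠ 1) (hc : g * x = x * g) : g ∈ centralizer ((P : Subgroup G) : Set G) := by
  have hp : p.Prime := Fact.out
  have hle : zpowers x ≤ (P : Subgroup G) := (Subgroup.zpowers_le).mpr hx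
  have hd : Nat.card (zpowers x) ∣ Nat.card (P : Subgroup G) := Subgroup.card_dvd_of_le hle
  have hP' : Nat.card (P : Subgroup G) = p := hP
  have heq : zpowers x = (P : Subgroup G) := by
    rw [hP'] at hd
    rcases (Nat.dvd_prime hp).mp hd with h | h
    · exfalso
      apply hx1
      exact Subgroup.zpowers_eq_bot.mp (Subgroup.card_eq_one.mp h)
    · exact Subgroup.eq_of_le_of_card_ge hle (by rw [h, hP'])
  rw [← heq, Subgroup.mem_centralizer_iff]
  rintro _ ⟨k, rfl⟩
  exact ((show Commute x g from hc.symm).zpow_left k)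

/-- Complements of `P` in `N(P)`.  `D ∩ P = 1` since `gcd(e, p) = 1`.  `D` acts faithfully on `P`
(`C(P) = P`), so `D` embeds in `MulAut P ≃* (ZMod p)ˣ` (`IsCyclic.mulAutMulEquiv`), cyclic.
For `1 ≠ g ∈ D`: `D ≤ C(g) ∩ N(P)` (abelian), and `C(g) ∩ N(P) ∩ P = 1` (else `g ∈ C(P) = P`),
so `|C(g) ∩ N(P)| ≤ |N(P)|/p = e`. -/
theorem compl_props (H : Geo p P e n) (D : Subgroup G)
    (hD : D ≤ normalizer ((P : Subgroup G) : Set G)) (hc : Nat.card D = e) :
    Disjoint D (P : Subgroup G) ∧ IsCyclic D ∧
      ∀ g ∈ D, g ≠ 1 → centralizer ({g} : Set G) ⊓ normalizer ((P : Subgroup G) : Set G) = D := by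
  have hp : p.Prime := Fact.out
  have hP' : Nat.card (P : Subgroup G) = p := H.hP
  have hdisj : Disjoint D (P : Subgroup G) := by
    apply Subgroup.disjoint_of_coprime_natCard
    rw [hc, hP']
    exact coprime_e_p H
  have hcyc : IsCyclic D := by
    have : Fact (Nat.card (P : Subgroup G)).Prime := ⟨hP'.symm ▸ hp⟩
    have hPc : IsCyclic (P : Subgroup G) := isCyclic_of_prime_card rfl
    let f : D →* (ZMod (Nat.card (P : Subgroup G)))ˣ :=
      (IsCyclic.mulAutMulEquiv (P : Subgroup G)).toMonoidHom.comp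
        ((P : Subgroup G).normalizerMonoidHom.comp (Subgroup.inclusion hD))
    apply isCyclic_of_injective f
    rw [injective_iff_map_eq_one]
    intro d hd
    have h1 : (P : Subgroup G).normalizerMonoidHom (Subgroup.inclusion hD d) = 1 := by
      have : (IsCyclic.mulAutMulEquiv (P : Subgroup G))
          ((P : Subgroup G).normalizerMonoidHom (Subgroup.inclusion hD d)) = 1 := hd
      exact (MulEquiv.map_eq_one_iff _).mp this
    have h2 : Subgroup.inclusion hD d ∈ (P : Subgroup G).normalizerMonoidHom.ker := h1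
    rw [Subgroup.normalizerMonoidHom_ker, Subgroup.mem_subgroupOf, H.hC] at h2
    have h3 : (d : G) ∈ D ⊓ (P : Subgroup G) := ⟨d.2, h2⟩
    rw [hdisj.eq_bot] at h3
    exact Subtype.ext (Subgroup.mem_bot.mp h3)
  refine ⟨hdisj, hcyc, ?_⟩
  intro g hg hg1
  set T : Subgroup G := centralizer ({g} : Set G) ⊓ normalizer ((P : Subgroup G) : Set G) with hT
  have hDT : D ≤ T := by
    intro d hd
    refine Subgroup.mem_inf.mpr ⟨?_, hD hd⟩
    rw [Subgroup.mem_centralizer_singleton_iff]
    have hcomm : IsMulCommutative D := hcyc.isMulCommutative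
    have := mul_comm' (⟨d, hd⟩ : D) ⟨g, hg⟩
    exact congrArg Subtype.val this
  have hTP : Disjoint T (P : Subgroup G) := by
    rw [Subgroup.disjoint_def]
    intro x hxT hxP
    by_contra hx1
    have hxg : x * g = g * x := Subgroup.mem_centralizer_singleton_iff.mp (Subgroup.mem_inf.mp hxT).1
    have hgC : g ∈ centralizer ((P : Subgroup G) : Set G) :=
      mem_centralizer_of_comm H.hP hxP hx1 hxg.symm
    rw [H.hC] at hgC
    have h3 : g ∈ D ⊓ (P : Subgroup G) := ⟨hg, hgC⟩
    rw [hdisj.eq_bot] at h3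
    exact hg1 (Subgroup.mem_bot.mp h3)
  have hcard : Nat.card T * p ≤ p * e := by
    have e1 : Nat.card T * p = Nat.card (T × (P : Subgroup G)) := by
      rw [Nat.card_prod, hP']
    rw [← H.hN, e1]
    let φ : T × (P : Subgroup G) → normalizer ((P : Subgroup G) : Set G) := fun z =>
      ⟨(z.1 : G) * (z.2 : G), mul_mem (Subgroup.mem_inf.mp z.1.2).2 (Subgroup.le_normalizer z.2.2)⟩
    apply Nat.card_le_card_of_injective φ
    intro a b hab
    apply Subgroup.mul_injective_of_disjoint hTP
    exact congrArg Subtype.val hab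
  have hTe : Nat.card T ≤ e := by
    rw [mul_comm] at hcard
    exact Nat.le_of_mul_le_mul_left hcard hp.pos
  exact (Subgroup.eq_of_le_of_card_ge hDT (by rw [hc]; exact hTe)).symm

end Cfsg.Agent.Lib.H59BRFrob
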