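import Mathlib
import Cfsg.Agent.Lib.Helper59BRDefs
import Cfsg.Agent.Lib.H59BRFrob

set_option autoImplicit false
set_option linter.unusedSectionVars false
set_option linter.unusedVariables false

namespace Cfsg.Agent.Lib.H59BRCompl

open Cfsg Subgroup
open Cfsg.Agent.Lib.Helper81Base Cfsg.Agent.Lib.Helper82Linear Cfsg.Agent.Lib.Helper59BRDefs
open scoped ComplexConjugate

variable {G : Type*} [Group G] [Finite G] {p : ℕ} [Fact p.Prime] {P : Sylow p G} {e n : ℕ}

open scoped Pointwise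

/-- `N(P) = P D` for a complement `D`. -/
theorem exists_mul_of_mem (H : Geo p P e n) (D : Subgroup G)
    (hD : D ≤ normalizer ((P : Subgroup G) : Set G)) (hc : Nat.card D = e) {g : G}
    (hg : g ∈ normalizer ((P : Subgroup G) : Set G)) :
    ∃ y ∈ (P : Subgroup G), ∃ d ∈ D, g = y * d := by
  have hdisj : Disjoint (P : Subgroup G) D := (H59BRFrob.compl_props H D hD hc).1.symm
  have hP' : Nat.card (P : Subgroup G) = p := H.hP
  let φ : ↥(P : Subgroup G) × D → normalizer ((P : Subgroup G) : Set G) := fun z =>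
    ⟨(z.1 : G) * (z.2 : G), mul_mem (Subgroup.le_normalizer z.1.2) (hD z.2.2)⟩
  have hinj : Function.Injective φ := by
    intro a b hab
    apply Subgroup.mul_injective_of_disjoint hdisj
    exact congrArg Subtype.val hab
  have hbij : Function.Bijective φ := by
    rw [Nat.bijective_iff_injective_and_card]
    refine ⟨hinj, ?_⟩
    rw [Nat.card_prod, hP', hc, H.hN]
  obtain ⟨z, hz⟩ := hbij.2 ⟨g, hg⟩
  exact ⟨z.1, z.1.2, z.2, z.2.2, (congrArg Subtype.val hz).symm⟩

/-- Schur--Zassenhaus conjugacy (`Cfsg.Agent.S0001.result` inside `N(P)`, or directly: the `p`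
conjugates `x D x⁻¹`, `x ∈ P`, pairwise meet trivially and cover `N(P) \ P`; a non-trivial
`g ∈ D'` lies in some `x D x⁻¹`, and both `D'` and `x D x⁻¹` equal `C(g) ∩ N(P)`). -/
theorem compl_conj (H : Geo p P e n) (D D' : Subgroup G)
    (hD : D ≤ normalizer ((P : Subgroup G) : Set G)) (hc : Nat.card D = e)
    (hD' : D' ≤ normalizer ((P : Subgroup G) : Set G)) (hc' : Nat.card D' = e) :
    ∃ x ∈ (P : Subgroup G), MulAut.conj x • D = D' := by
  obtain ⟨hdisj, -, hcent⟩ := H59BRFrob.compl_props H D hD hc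
  obtain ⟨hdisj', -, hcent'⟩ := H59BRFrob.compl_props H D' hD' hc'
  -- a nontrivial element of `D'`
  have hD'1 : D' ≠ ⊥ := by
    intro h
    rw [h, Subgroup.card_bot] at hc'
    have := H.he
    omega
  obtain ⟨g', hg', hg'1⟩ : ∃ x : G, x ∈ D' ∧ x ≠ 1 := by
    obtain ⟨x, hx⟩ := Subgroup.ne_bot_iff_exists_ne_one.mp hD'1
    exact ⟨(x : G), x.2, fun e => hx (Subtype.ext e)⟩
  obtain ⟨y, hy, d, hd, hgyd⟩ := exists_mul_of_mem H D hD hc (hD' hg')
  have hd1 : d ≠ 1 := by
    intro h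
    rw [h, mul_one] at hgyd
    have h3 : g' ∈ D' ⊓ (P : Subgroup G) := ⟨hg', hgyd ▸ hy⟩
    rw [hdisj'.eq_bot] at h3
    exact hg'1 (Subgroup.mem_bot.mp h3)
  have hdN : d ∈ normalizer ((P : Subgroup G) : Set G) := hD hd
  let ψ : ↥(P : Subgroup G) → ↥(P : Subgroup G) := fun x =>
    ⟨(x : G) * (d * (x : G)⁻¹ * d⁻¹),
      mul_mem x.2 ((Subgroup.mem_set_normalizer_iff.mp hdN _).mp (inv_mem x.2))⟩
  have hinj : Function.Injective ψ := by
    intro a b hab
    have h1 : (a : G) * (d * (a : G)⁻¹ * d⁻¹) = (b : G) * (d * (b : G)⁻¹ * d⁻¹) :=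
      congrArg Subtype.val hab
    have h2 : ((b : G)⁻¹ * a) * d = d * ((b : G)⁻¹ * a) := by
      have h3 : (a : G) * d * (a : G)⁻¹ = (b : G) * d * (b : G)⁻¹ := by
        have := congrArg (· * d) h1
        simpa [mul_assoc] using this
      calc ((b : G)⁻¹ * a) * d = (b : G)⁻¹ * ((a : G) * d * (a : G)⁻¹) * a := by group
        _ = (b : G)⁻¹ * ((b : G) * d * (b : G)⁻¹) * a := by rw [h3]
        _ = d * ((b : G)⁻¹ * a) := by group
    have hbaP : (b : G)⁻¹ * a ∈ (P : Subgroup G) := mul_mem (inv_mem b.2) a.2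
    have h4 : (b : G)⁻¹ * a ∈ centralizer ({d} : Set G) ⊓ normalizer ((P : Subgroup G) : Set G) :=
      Subgroup.mem_inf.mpr ⟨Subgroup.mem_centralizer_singleton_iff.mpr h2,
        Subgroup.le_normalizer hbaP⟩
    rw [hcent d hd hd1] at h4
    have h5 : (b : G)⁻¹ * a ∈ D ⊓ (P : Subgroup G) := ⟨h4, hbaP⟩
    rw [hdisj.eq_bot] at h5
    have h6 : (b : G)⁻¹ * a = 1 := Subgroup.mem_bot.mp h5
    apply Subtype.ext
    exact (inv_mul_eq_one.mp h6).symm
  obtain ⟨x, hx⟩ := Finite.surjective_of_injective hinj ⟨y, hy⟩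
  have hx' : (x : G) * (d * (x : G)⁻¹ * d⁻¹) = y := congrArg Subtype.val hx
  have hg'x : g' = (x : G) * d * (x : G)⁻¹ := by
    rw [hgyd, ← hx']
    group
  refine ⟨x, x.2, ?_⟩
  set D'' : Subgroup G := MulAut.conj (x : G) • D with hD''
  have hD''N : D'' ≤ normalizer ((P : Subgroup G) : Set G) := by
    intro z hz
    rw [hD'', Subgroup.mem_pointwise_smul_iff_inv_smul_mem, MulAut.smul_def,
      MulAut.conj_inv_apply] at hz
    have hxN : (x : G) ∈ normalizer ((P : Subgroup G) : Set G) := Subgroup.le_normalizer x.2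
    have : z = (x : G) * ((x : G)⁻¹ * z * x) * (x : G)⁻¹ := by group
    rw [this]
    exact mul_mem (mul_mem hxN (hD hz)) (inv_mem hxN)
  have hc'' : Nat.card D'' = e := by
    rw [hD'', Subgroup.pointwise_smul_def]
    exact (Subgroup.card_map_of_injective (MulAut.conj (x : G)).injective).trans hc
  have hg'' : g' ∈ D'' := by
    rw [hD'', Subgroup.mem_pointwise_smul_iff_inv_smul_mem, MulAut.smul_def,
      MulAut.conj_inv_apply, hg'x]
    have : (x : G)⁻¹ * ((x : G) * d * (x : G)⁻¹) * x = d := by group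
    rw [this]
    exact hd
  rw [← (H59BRFrob.compl_props H D'' hD''N hc'').2.2 g' hg'' hg'1, hcent' g' hg' hg'1]

end Cfsg.Agent.Lib.H59BRCompl
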