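import Mathlib
import Cfsg.Agent.Lib.Helper59BRDefs

set_option autoImplicit false
set_option linter.unusedSectionVars false
set_option linter.unusedVariables false

namespace Cfsg.Agent.Lib.H59BRSymm

open Cfsg Subgroup
open Cfsg.Agent.Lib.Helper81Base Cfsg.Agent.Lib.Helper82Linear Cfsg.Agent.Lib.Helper59BRDefs
open scoped ComplexConjugate Pointwise

variable {G : Type*} [Group G] [Finite G] {p : ℕ} [Fact p.Prime]

omit [Finite G] [Fact p.Prime] in
theorem stab_eq (P : Sylow p G) :
    MulAction.stabilizer G P = normalizer ((P : Subgroup G) : Set G) :=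
  Sylow.stabilizer_eq_normalizer P

omit [Finite G] [Fact p.Prime] in
theorem coe_smul' (g : G) (P : Sylow p G) :
    ((g • P : Sylow p G) : Subgroup G) = MulAut.conj g • (P : Subgroup G) := by
  rw [Sylow.smul_def, Sylow.pointwise_smul_def]

omit [Finite G] [Fact p.Prime] in
theorem normalizer_smul (g : G) (P : Sylow p G) :
    normalizer (((g • P : Sylow p G) : Subgroup G) : Set G) =
      (normalizer ((P : Subgroup G) : Set G)).map (MulAut.conj g).toMonoidHom := by
  rw [← stab_eq, ← stab_eq, MulAction.stabilizer_smul_eq_stabilizer_map_conj]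

omit [Finite G] [Fact p.Prime] in
theorem mem_smul_iff (g x : G) (P : Sylow p G) :
    x ∈ ((g • P : Sylow p G) : Subgroup G) ↔ g⁻¹ * x * g ∈ (P : Subgroup G) := by
  rw [coe_smul', Subgroup.mem_pointwise_smul_iff_inv_smul_mem, MulAut.smul_def,
    MulAut.conj_inv_apply]

omit [Finite G] [Fact p.Prime] in
theorem card_smul (g : G) (P : Sylow p G) :
    Nat.card ((g • P : Sylow p G) : Subgroup G) = Nat.card (P : Subgroup G) := by
  rw [coe_smul', Subgroup.pointwise_smul_def]
  exact Subgroup.card_map_of_injective (MulAut.conj g).injective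

omit [Finite G] [Fact p.Prime] in
theorem mem_centralizer_smul_iff (g x : G) (P : Sylow p G) :
    x ∈ centralizer (((g • P : Sylow p G) : Subgroup G) : Set G) ↔
      g⁻¹ * x * g ∈ centralizer ((P : Subgroup G) : Set G) := by
  rw [Subgroup.mem_centralizer_iff, Subgroup.mem_centralizer_iff]
  constructor
  · intro h y hy
    have hy' : g * y * g⁻¹ ∈ ((g • P : Sylow p G) : Subgroup G) := by
      rw [mem_smul_iff]
      have : g⁻¹ * (g * y * g⁻¹) * g = y := by group
      rw [this]
      exact hy
    have h1 := h _ hy'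
    calc y * (g⁻¹ * x * g) = g⁻¹ * ((g * y * g⁻¹) * x) * g := by group
      _ = g⁻¹ * (x * (g * y * g⁻¹)) * g := by rw [h1]
      _ = g⁻¹ * x * g * y := by group
  · intro h y hy
    have hy' : g⁻¹ * y * g ∈ (P : Subgroup G) := (mem_smul_iff g y P).mp hy
    have h1 := h _ hy'
    calc y * x = g * ((g⁻¹ * y * g) * (g⁻¹ * x * g)) * g⁻¹ := by group
      _ = g * ((g⁻¹ * x * g) * (g⁻¹ * y * g)) * g⁻¹ := by rw [h1]
      _ = x * y := by group

/-- transport by conjugation (all Sylow subgroups are conjugate). -/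
theorem card_inter_all (P : Sylow p G) (e : ℕ)
    (h : ∀ Q : Sylow p G, Q ≠ P →
      Nat.card ↥(normalizer ((P : Subgroup G) : Set G) ⊓ normalizer ((Q : Subgroup G) : Set G))
        = e) (Q Q' : Sylow p G) (hQ : Q ≠ Q') :
    Nat.card ↥(normalizer ((Q : Subgroup G) : Set G) ⊓ normalizer ((Q' : Subgroup G) : Set G))
      = e := by
  obtain ⟨g, rfl⟩ := MulAction.exists_smul_eq G P Q
  have hQ'' : g⁻¹ • Q' ≠ P := by
    intro h1
    apply hQ
    rw [← h1, smul_inv_smul]
  have e1 : Q' = g • (g⁻¹ • Q') := by rw [smul_inv_smul]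
  rw [e1, normalizer_smul, normalizer_smul,
    ← Subgroup.map_inf _ _ _ (MulAut.conj g).injective,
    Subgroup.card_map_of_injective (MulAut.conj g).injective]
  exact h _ hQ''

/-- the hypotheses `Geo` do not depend on the chosen Sylow subgroup. -/
theorem geo_symm {P : Sylow p G} {e n : ℕ} (H : Geo p P e n) (Q : Sylow p G) : Geo p Q e n := by
  obtain ⟨g, rfl⟩ := MulAction.exists_smul_eq G P Q
  refine ⟨?_, ?_, ?_, H.he, H.hep, H.hn, H.hn1, H.hI⟩
  · exact (card_smul g P).trans H.hP
  · ext x
    rw [mem_centralizer_smul_iff, H.hC, mem_smul_iff]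
  · rw [normalizer_smul, Subgroup.card_map_of_injective (MulAut.conj g).injective]
    exact H.hN

end Cfsg.Agent.Lib.H59BRSymm
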