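import Mathlib
import Cfsg.Agent.Lib.Helper59BRDefs
import Cfsg.Agent.Lib.H59BRFrob
import Cfsg.Agent.Lib.H59BRCompl
import Cfsg.Agent.Lib.H59BRSymm

set_option autoImplicit false
set_option linter.unusedSectionVars false
set_option linter.unusedVariables false

namespace Cfsg.Agent.Lib.H59BRFixA

open Cfsg Subgroup
open Cfsg.Agent.Lib.Helper81Base Cfsg.Agent.Lib.Helper82Linear Cfsg.Agent.Lib.Helper59BRDefs
open scoped ComplexConjugate

variable {G : Type*} [Group G] [Finite G] {p : ℕ} [Fact p.Prime] {P : Sylow p G} {e n : ℕ}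

variable {E : Subgroup G}

/-- `g ∈ D := N(P) ∩ N(Q)` (order `e`); by `compl_props` both `D` and `E` equal `C(g) ∩ N(P)`. -/
theorem fix (H : Geo p P e n) (hE : E ≤ normalizer ((P : Subgroup G) : Set G))
    (hc : Nat.card E = e) (g : G) (hg : g ∈ E) (hg1 : g ≠ 1) (Q : Sylow p G)
    (hQ : g ∈ normalizer ((Q : Subgroup G) : Set G)) :
    E ≤ normalizer ((Q : Subgroup G) : Set G) := by
  by_cases hPQ : P = Q
  · rw [← hPQ]; exact hE
  have h1 := (Cfsg.Agent.Lib.H59BRFrob.compl_props H E hE hc).2.2 g hg hg1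
  have h2 := (Cfsg.Agent.Lib.H59BRFrob.compl_props H
    (normalizer ((P : Subgroup G) : Set G) ⊓ normalizer ((Q : Subgroup G) : Set G)) inf_le_left
    (H.hI P Q hPQ)).2.2 g ⟨hE hg, hQ⟩ hg1
  rw [← h1, h2]
  exact inf_le_right

/-- `E ≤ N(Q) ∩ N(Q')`, equal orders. -/
theorem stab (H : Geo p P e n) (hc : Nat.card E = e) (Q Q' : Sylow p G) (hne : Q ≠ Q')
    (hQ : E ≤ normalizer ((Q : Subgroup G) : Set G))
    (hQ' : E ≤ normalizer ((Q' : Subgroup G) : Set G)) :
    normalizer ((Q : Subgroup G) : Set G) ⊓ normalizer ((Q' : Subgroup G) : Set G) = E :=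
  (Subgroup.eq_of_le_of_card_ge (le_inf hQ hQ') (by rw [H.hI Q Q' hne, hc])).symm

/-- `m ∈ N(Q)` normalising `E`; `N(Q) = Q E`, `m = x g`; `x ∈ Q` normalises `E`, so
`[x, d] ∈ E ∩ Q = 1` for `d ∈ E`; taking `d ≠ 1`, `x ∈ C(d) ∩ N(Q) = E`, so `x = 1`.
(use `geo_symm H Q` and `compl_props`). -/
theorem inter (H : Geo p P e n) (hc : Nat.card E = e) (Q : Sylow p G)
    (hQ : E ≤ normalizer ((Q : Subgroup G) : Set G)) :
    normalizer (E : Set G) ⊓ normalizer ((Q : Subgroup G) : Set G) = E := by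
  have hp : p.Prime := Fact.out
  have HQ := Cfsg.Agent.Lib.H59BRSymm.geo_symm H Q
  obtain ⟨hdis, -, hcent⟩ := Cfsg.Agent.Lib.H59BRFrob.compl_props HQ E hQ hc
  have hle : E ≤ normalizer (E : Set G) ⊓ normalizer ((Q : Subgroup G) : Set G) :=
    le_inf le_normalizer hQ
  have he0 : 0 < e := by have := H.he; omega
  symm
  apply Subgroup.eq_of_le_of_card_ge hle
  obtain ⟨k, hk⟩ := Subgroup.card_dvd_of_le hle
  have h2 := Subgroup.card_dvd_of_le
    (inf_le_right : normalizer (E : Set G) ⊓ normalizer ((Q : Subgroup G) : Set G) ≤ _)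
  rw [HQ.hN, hk, hc, mul_comm p e] at h2
  have h3 : k ∣ p := Nat.dvd_of_mul_dvd_mul_left he0 h2
  rcases (Nat.dvd_prime hp).1 h3 with hk1 | hkp
  · rw [hk, hk1, mul_one]
  · exfalso
    rw [hkp] at hk
    have htop : normalizer (E : Set G) ⊓ normalizer ((Q : Subgroup G) : Set G)
        = normalizer ((Q : Subgroup G) : Set G) := by
      apply Subgroup.eq_of_le_of_card_ge inf_le_right
      rw [HQ.hN, hk, hc, mul_comm]
    have hQN : (Q : Subgroup G) ≤ normalizer (E : Set G) := by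
      have h4 : (Q : Subgroup G) ≤ normalizer ((Q : Subgroup G) : Set G) := le_normalizer
      rw [← htop] at h4
      exact h4.trans inf_le_left
    -- a nontrivial element of `E`
    have hnt : Nontrivial E := by
      rw [← Finite.one_lt_card_iff_nontrivial, hc]
      have := H.he; omega
    obtain ⟨d, hd⟩ := exists_ne (1 : E)
    have hd1 : (d : G) ≠ 1 := fun h => hd (Subtype.ext h)
    have hQbot : ∀ x ∈ (Q : Subgroup G), x = 1 := by
      intro x hx
      have hxE : x * (d : G) * x⁻¹ ∈ E := (mem_normalizer_iff.1 (hQN hx) d).1 d.2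
      have hdQ : (d : G) * x⁻¹ * (d : G)⁻¹ ∈ (Q : Subgroup G) :=
        (mem_normalizer_iff.1 (hQ d.2) x⁻¹).1 (inv_mem hx)
      have hcE : x * (d : G) * x⁻¹ * (d : G)⁻¹ ∈ E := mul_mem hxE (inv_mem d.2)
      have hcQ : x * (d : G) * x⁻¹ * (d : G)⁻¹ ∈ (Q : Subgroup G) := by
        have := mul_mem hx hdQ
        simpa [mul_assoc] using this
      have hc1 : x * (d : G) * x⁻¹ * (d : G)⁻¹ = 1 := Subgroup.disjoint_def.1 hdis hcE hcQ
      have hcomm : (d : G) * x = x * (d : G) := by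
        have h5 : x * (d : G) * x⁻¹ = d := by rwa [mul_inv_eq_one] at hc1
        calc (d : G) * x = (x * (d : G) * x⁻¹) * x := by rw [h5]
          _ = x * (d : G) := by group
      have hxmem : x ∈ centralizer ({(d : G)} : Set G) ⊓ normalizer ((Q : Subgroup G) : Set G) :=
        ⟨mem_centralizer_singleton_iff.2 hcomm.symm, le_normalizer hx⟩
      rw [hcent d d.2 hd1] at hxmem
      exact Subgroup.disjoint_def.1 hdis hxmem hx
    have hcardQ := HQ.hP
    have hbot : (Q : Subgroup G) = ⊥ := (Subgroup.eq_bot_iff_forall _).2 hQbot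
    have h6 : Nat.card (Q : Subgroup G) = 1 := by rw [hbot]; exact Subgroup.card_bot
    have h7 : Nat.card (Q : Subgroup G) = p := hcardQ
    have := hp.two_le
    omega

open scoped Pointwise in
/-- `Q = h • P`; `E` and `h E h⁻¹` are complements in `N(Q)`; `compl_conj` for `Q` gives `x ∈ Q`
with `x h E h⁻¹ x⁻¹ = E`; `m = x h`. -/
theorem trans (H : Geo p P e n) (hE : E ≤ normalizer ((P : Subgroup G) : Set G))
    (hc : Nat.card E = e) (Q : Sylow p G) (hQ : E ≤ normalizer ((Q : Subgroup G) : Set G)) :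
    ∃ m ∈ normalizer (E : Set G), m • P = Q := by
  have HQ := Cfsg.Agent.Lib.H59BRSymm.geo_symm H Q
  obtain ⟨h, hh⟩ := MulAction.exists_smul_eq G P Q
  have hE' : MulAut.conj h • E ≤ normalizer ((Q : Subgroup G) : Set G) := by
    rintro _ ⟨d, hd, rfl⟩
    have hdP : d • P = P := Sylow.smul_eq_iff_mem_normalizer.2 (hE hd)
    apply Sylow.smul_eq_iff_mem_normalizer.1
    show (h * d * h⁻¹) • Q = Q
    rw [← hh, mul_smul, mul_smul, inv_smul_smul, hdP]
  have hc' : Nat.card ↥(MulAut.conj h • E) = e := by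
    rw [← Nat.card_congr (Subgroup.equivSMul (MulAut.conj h) E).toEquiv, hc]
  obtain ⟨x, hx, hxE⟩ := Cfsg.Agent.Lib.H59BRCompl.compl_conj HQ _ E hE' hc' hQ hc
  refine ⟨x * h, ?_, ?_⟩
  · rw [mem_normalizer_iff]
    intro d
    have h1 : MulAut.conj (x * h) • E = E := by
      rw [map_mul, mul_smul, hxE]
    constructor
    · intro hd
      rw [← h1]
      exact ⟨d, hd, rfl⟩
    · intro hd
      rw [← h1] at hd
      obtain ⟨d', hd', hdd⟩ := hd
      have : d' = d := (MulAut.conj (x * h)).injective hdd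
      rwa [← this]
  · rw [mul_smul, hh]
    exact Sylow.smul_eq_iff_mem_normalizer.2 (le_normalizer hx)

end Cfsg.Agent.Lib.H59BRFixA
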