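import Mathlib
import Cfsg.Agent.Lib.Helper59BRDefs
import Cfsg.Agent.Lib.H59BRFrob
import Cfsg.Agent.Lib.H59BRCompl
import Cfsg.Agent.Lib.H59BRSymm

set_option autoImplicit false
set_option linter.unusedSectionVars false
set_option linter.unusedVariables false

namespace Cfsg.Agent.Lib.H59BRFixB

open Cfsg Subgroup
open Cfsg.Agent.Lib.Helper81Base Cfsg.Agent.Lib.Helper82Linear Cfsg.Agent.Lib.Helper59BRDefs
open scoped ComplexConjugate

variable {G : Type*} [Group G] [Finite G] {p : ℕ} [Fact p.Prime] {P : Sylow p G} {e n : ℕ}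

variable {E : Subgroup G}

/-- The map `(Q, x) ↦ x • Q` from `{Q ≠ P fixed by E} × P` to `{Q ≠ P}` is a bijection, so
`(f - 1) p = n p`.  Surjective: `N(P) ∩ N(Q)` is a complement, conjugate to `E` by some `x ∈ P`
(`compl_conj`).  Injective: if `Q' = z • Q`, `z ∈ P`, both fixed by `E`, then
`E = N(P) ∩ N(Q') = z (N(P) ∩ N(Q)) z⁻¹ = z E z⁻¹`, so `[z, d] ∈ P ∩ E = 1` for `d ∈ E`, so
`z = 1` (else `E ≤ C(z) = C(P) = P`). -/
theorem card_fix (H : Geo p P e n) (hE : E ≤ normalizer ((P : Subgroup G) : Set G))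
    (hc : Nat.card E = e) :
    Nat.card {Q : Sylow p G // E ≤ normalizer ((Q : Subgroup G) : Set G)} = n + 1 := by
  classical
  have hp : p.Prime := Fact.out
  obtain ⟨hdisj, -, hcent⟩ := H59BRFrob.compl_props H E hE hc
  have hN : ∀ (Q : Sylow p G) (g : G), g ∈ normalizer ((Q : Subgroup G) : Set G) ↔ g • Q = Q :=
    fun Q g => Sylow.smul_eq_iff_mem_normalizer.symm
  have hfixP : ∀ x ∈ (P : Subgroup G), x • P = P := fun x hx => (hN P x).1 (le_normalizer hx)
  have hEeq : ∀ Q : Sylow p G, Q ≠ P → E ≤ normalizer ((Q : Subgroup G) : Set G) →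
      normalizer ((P : Subgroup G) : Set G) ⊓ normalizer ((Q : Subgroup G) : Set G) = E := by
    intro Q hQ hEQ
    symm
    apply Subgroup.eq_of_le_of_card_ge (le_inf hE hEQ)
    rw [H.hI P Q hQ.symm, hc]
  have hwd : ∀ (Q : Sylow p G) (x : G), x ∈ (P : Subgroup G) → Q ≠ P → x • Q ≠ P := by
    intro Q x hx hQ h
    apply hQ
    have : x⁻¹ • (x • Q) = x⁻¹ • P := by rw [h]
    rw [inv_smul_smul, hfixP _ (inv_mem hx)] at this
    exact this
  let Ψ : {Q : Sylow p G // Q ≠ P ∧ E ≤ normalizer ((Q : Subgroup G) : Set G)} × (P : Subgroup G) →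
      {Q : Sylow p G // Q ≠ P} := fun a => ⟨(a.2 : G) • a.1.1, hwd _ _ a.2.2 a.1.2.1⟩
  obtain ⟨g, hgE, hg1⟩ : ∃ g ∈ E, g ≠ 1 := by
    by_contra hcon
    push Not at hcon
    have : E = ⊥ := (Subgroup.eq_bot_iff_forall E).2 hcon
    rw [this, Subgroup.card_bot] at hc
    have := H.he
    omega
  have hbij : Function.Bijective Ψ := by
    constructor
    · rintro ⟨⟨Q1, hQ1, hE1⟩, ⟨x1, hx1⟩⟩ ⟨⟨Q2, hQ2, hE2⟩, ⟨x2, hx2⟩⟩ hab
      have hab' : x1 • Q1 = x2 • Q2 := congrArg Subtype.val hab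
      have hzP : x2⁻¹ * x1 ∈ (P : Subgroup G) := mul_mem (inv_mem hx2) hx1
      have hzQ : (x2⁻¹ * x1) • Q1 = Q2 := by rw [mul_smul, hab', inv_smul_smul]
      obtain ⟨z, hz⟩ : ∃ z, z = x2⁻¹ * x1 := ⟨_, rfl⟩
      rw [← hz] at hzP hzQ
      have hzN : z ∈ normalizer ((P : Subgroup G) : Set G) := le_normalizer hzP
      have hcomm : ∀ d ∈ E, z * d = d * z := by
        intro d hd
        have h1 : z * d * z⁻¹ ∈ E := by
          rw [← hEeq Q2 hQ2 hE2]
          have hzi : z⁻¹ ∈ normalizer ((P : Subgroup G) : Set G) := inv_mem hzN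
          have hzd : z * d * z⁻¹ ∈ normalizer ((P : Subgroup G) : Set G) :=
            mul_mem (mul_mem hzN (hE hd)) hzi
          refine ⟨hzd, ?_⟩
          show _ ∈ normalizer _
          rw [hN, mul_smul, mul_smul, ← hzQ, inv_smul_smul, (hN Q1 d).1 (hE1 hd)]
        have h2 : z * d * z⁻¹ * d⁻¹ ∈ E := mul_mem h1 (inv_mem hd)
        have h3 : z * d * z⁻¹ * d⁻¹ ∈ (P : Subgroup G) := by
          have : d * z⁻¹ * d⁻¹ ∈ (P : Subgroup G) :=
            (mem_normalizer_iff.1 (hE hd) z⁻¹).1 (inv_mem hzP)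
          have h4 := mul_mem hzP this
          have e1 : z * d * z⁻¹ * d⁻¹ = z * (d * z⁻¹ * d⁻¹) := by group
          rw [e1]; exact h4
        have h5 : z * d * z⁻¹ * d⁻¹ = 1 := by
          have := (Subgroup.disjoint_def.1 hdisj) h2 h3
          exact this
        calc z * d = (z * d * z⁻¹ * d⁻¹) * (d * z) := by group
          _ = d * z := by rw [h5, one_mul]
      have hzE : z ∈ E := by
        rw [← hcent g hgE hg1]
        refine ⟨?_, hzN⟩
        show _ ∈ centralizer _
        rw [mem_centralizer_singleton_iff]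
        exact hcomm g hgE
      have hz1 : z = 1 := (Subgroup.disjoint_def.1 hdisj) hzE hzP
      have hx : x1 = x2 := by
        rw [hz1] at hz
        have := eq_inv_of_mul_eq_one_right hz.symm
        rw [inv_inv] at this
        exact this
      have hQ : Q1 = Q2 := by rw [← hzQ, hz1, one_smul]
      subst hx
      subst hQ
      rfl
    · rintro ⟨Q, hQ⟩
      obtain ⟨x, hx, hxD⟩ := H59BRCompl.compl_conj H
        (normalizer ((P : Subgroup G) : Set G) ⊓ normalizer ((Q : Subgroup G) : Set G)) E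
        inf_le_left (H.hI P Q hQ.symm) hE hc
      have hE1 : E ≤ normalizer (((x • Q : Sylow p G) : Subgroup G) : Set G) := by
        intro d hd
        rw [← hxD, Subgroup.mem_pointwise_smul_iff_inv_smul_mem] at hd
        have hd2 : x⁻¹ * d * x ∈ normalizer ((Q : Subgroup G) : Set G) := by
          have := hd.2
          simpa [MulAut.smul_def, MulAut.conj_inv_apply] using this
        rw [hN] at hd2 ⊢
        have : d • x • Q = x • ((x⁻¹ * d * x) • Q) := by
          simp only [← mul_smul]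
          congr 1
          group
        rw [this, hd2]
      refine ⟨(⟨x • Q, hwd Q x hx hQ, hE1⟩, ⟨x⁻¹, inv_mem hx⟩), ?_⟩
      apply Subtype.ext
      show x⁻¹ • x • Q = Q
      rw [inv_smul_smul]
  have hcard := Nat.card_congr (Equiv.ofBijective Ψ hbij)
  rw [Nat.card_prod, H.hP] at hcard
  have := Fintype.ofFinite (Sylow p G)
  have h1 : Nat.card {Q : Sylow p G // Q ≠ P} = n * p := by
    have h2 := H.hn
    rw [Nat.card_eq_fintype_card] at h2 ⊢
    rw [Fintype.card_subtype_compl, h2]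
    simp
  rw [h1] at hcard
  have h2 : Nat.card {Q : Sylow p G // Q ≠ P ∧ E ≤ normalizer ((Q : Subgroup G) : Set G)} = n :=
    Nat.eq_of_mul_eq_mul_right hp.pos hcard
  rw [Nat.card_eq_fintype_card, Fintype.card_subtype] at h2 ⊢
  have h3 : (Finset.univ.filter (fun Q : Sylow p G => Q ≠ P ∧
      E ≤ normalizer ((Q : Subgroup G) : Set G))) =
      (Finset.univ.filter (fun Q : Sylow p G => E ≤ normalizer ((Q : Subgroup G) : Set G))).erase P := by
    ext Q
    simp
  have hPm : P ∈ (Finset.univ.filter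
      (fun Q : Sylow p G => E ≤ normalizer ((Q : Subgroup G) : Set G))) :=
    Finset.mem_filter.2 ⟨Finset.mem_univ _, hE⟩
  rw [h3, Finset.card_erase_of_mem hPm] at h2
  have h4 : 0 < (Finset.univ.filter
      (fun Q : Sylow p G => E ≤ normalizer ((Q : Subgroup G) : Set G))).card :=
    Finset.card_pos.2 ⟨P, hPm⟩
  omega

end Cfsg.Agent.Lib.H59BRFixB
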