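import Mathlib
import Cfsg.Agent.Lib.Helper59BRDefs
import Cfsg.Agent.Lib.H59BRFixA
import Cfsg.Agent.Lib.H59BRFixB

set_option autoImplicit false
set_option linter.unusedSectionVars false
set_option linter.unusedVariables false

namespace Cfsg.Agent.Lib.H59BRNorm

open Cfsg Subgroup
open Cfsg.Agent.Lib.Helper81Base Cfsg.Agent.Lib.Helper82Linear Cfsg.Agent.Lib.Helper59BRDefs
open scoped ComplexConjugate

variable {G : Type*} [Group G] [Finite G] {p : ℕ} [Fact p.Prime] {P : Sylow p G} {e n : ℕ}

variable {E : Subgroup G}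

/-- orbit--stabiliser for `M = N(E)` acting on the Sylow subgroups: the orbit of `P` is the set of
`Q` fixed by `E` (`trans`; conversely `m • P` is fixed by `m E m⁻¹ = E`), of size `n + 1`
(`card_fix`), the stabiliser is `M ∩ N(P) = E` (`inter`). -/
theorem card_M (H : Geo p P e n) (hE : E ≤ normalizer ((P : Subgroup G) : Set G))
    (hc : Nat.card E = e) : Nat.card (normalizer (E : Set G)) = e * (n + 1) := by
  set M : Subgroup G := normalizer (E : Set G) with hM
  have hEM : E ≤ M := Subgroup.le_normalizer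
  -- the orbit
  have horb : MulAction.orbit M P = {Q : Sylow p G | E ≤ normalizer ((Q : Subgroup G) : Set G)} := by
    ext Q
    constructor
    · rintro ⟨m, rfl⟩
      show E ≤ normalizer ((((m : G) • P : Sylow p G) : Subgroup G) : Set G)
      rw [H59BRSymm.normalizer_smul]
      intro x hx
      refine ⟨(m : G)⁻¹ * x * (m : G), hE ?_, ?_⟩
      · have := (Subgroup.mem_set_normalizer_iff.mp (inv_mem m.2) x).mp hx
        rwa [inv_inv] at this
      · show (m : G) * ((m : G)⁻¹ * x * (m : G)) * (m : G)⁻¹ = x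
        group
    · intro hQ
      obtain ⟨m, hm, hmQ⟩ := H59BRFixA.trans H hE hc Q hQ
      exact ⟨⟨m, hm⟩, hmQ⟩
  have hcorb : Nat.card (MulAction.orbit M P) = n + 1 := by
    rw [horb]
    exact H59BRFixB.card_fix H hE hc
  -- the stabilizer
  have hstab : MulAction.stabilizer M P = E.subgroupOf M := by
    ext m
    rw [MulAction.mem_stabilizer_iff, Subgroup.mem_subgroupOf]
    have h1 : m • P = P ↔ (m : G) ∈ normalizer ((P : Subgroup G) : Set G) :=
      Sylow.smul_eq_iff_mem_normalizer
    rw [h1]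
    constructor
    · intro h2
      have h3 : (m : G) ∈ M ⊓ normalizer ((P : Subgroup G) : Set G) := ⟨m.2, h2⟩
      have h4 : M ⊓ normalizer ((P : Subgroup G) : Set G) = E := H59BRFixA.inter H hc P hE
      rw [h4] at h3
      exact h3
    · intro h2
      exact hE h2
  have hcstab : Nat.card (MulAction.stabilizer M P) = e := by
    rw [hstab, Nat.card_congr (Subgroup.subgroupOfEquivOfLe hEM).toEquiv, hc]
  rw [Subgroup.card_eq_card_quotient_mul_card_subgroup (MulAction.stabilizer M P),
    ← Nat.card_congr (MulAction.orbitEquivQuotientStabilizer M P), hcorb, hcstab, mul_comm]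

/-- take `E = N(P) ∩ N(Q₀)` for any `Q₀ ≠ P` (exists as `n ≥ 1`). -/
theorem exists_geoE (H : Geo p P e n) : ∃ E : Subgroup G, GeoE p P e n E := by
  have hp : p.Prime := Fact.out
  obtain ⟨Q₀, hQ₀⟩ : ∃ Q₀ : Sylow p G, Q₀ ≠ P := by
    have h1 : 1 < Nat.card (Sylow p G) := by
      rw [H.hn]
      have := Nat.mul_pos H.hn1 hp.pos
      omega
    have : Nontrivial (Sylow p G) := (Finite.one_lt_card_iff_nontrivial).mp h1
    exact exists_ne P
  set E : Subgroup G :=
    normalizer ((P : Subgroup G) : Set G) ⊓ normalizer ((Q₀ : Subgroup G) : Set G) with hE'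
  have hE : E ≤ normalizer ((P : Subgroup G) : Set G) := inf_le_left
  have hc : Nat.card E = e := H.hI P Q₀ hQ₀.symm
  exact ⟨E, hc, (H59BRFrob.compl_props H E hE hc).2.1, hE, H59BRFixA.fix H hE hc,
    H59BRFixA.stab H hc, H59BRFixB.card_fix H hE hc, H59BRFixA.trans H hE hc,
    H59BRFixA.inter H hc, card_M H hE hc⟩

end Cfsg.Agent.Lib.H59BRNorm
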