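import Mathlib
import Cfsg.Agent.Lib.Helper59BRDefs
import Cfsg.Agent.Lib.Helper82Irr
import Cfsg.Agent.Lib.H59BRData
import Cfsg.Agent.Lib.H59BRBasicA
import Cfsg.Agent.Lib.H59BRBasicB
import Cfsg.Agent.Lib.H59BRBasicC
import Cfsg.Agent.Lib.H59BRDvd
import Cfsg.Agent.Lib.H59BRArC
import Cfsg.Agent.Lib.H59BRArD
import Cfsg.Agent.Lib.H59BRDelta
import Cfsg.Agent.Lib.H59BRKerB
import Cfsg.Agent.Lib.H59BRMackey
import Cfsg.Agent.Lib.H59BRGeoA
import Cfsg.Agent.Lib.H59BRGeoB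
import Cfsg.Agent.Lib.H59BRSymm
import Cfsg.Agent.Lib.H59BRNorm
import Cfsg.Agent.Lib.H59BRInvC
import Cfsg.Agent.Lib.H59BREndTwo
import Cfsg.Agent.Lib.H59BRNOne

set_option autoImplicit false
set_option linter.unusedSectionVars false
set_option linter.unusedVariables false

namespace Cfsg.Agent.Lib.H59BRCore

open Cfsg Subgroup
open Cfsg.Agent.Lib.Helper81Base Cfsg.Agent.Lib.Helper82Linear Cfsg.Agent.Lib.Helper59BRDefs
open scoped ComplexConjugate

section
variable {G : Type*} [Group G] [Fintype G] {p : ℕ} [Fact p.Prime] {P : Sylow p G} {e t : ℕ}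
  {X Y : Finset (IrrCharacter G)} {s : IrrCharacter G → ℤ} {ε : ℤ}

theorem exists_cfg (hperf : commutator G = ⊤) (D : BR p P e t X Y s ε) (n : ℕ)
    (hn : Nat.card (Sylow p G) = 1 + n * p) (hexc : ¬ Exc p n) :
    ∃ y : ℕ, (∀ θ ∈ Y, charDegree (θ : G → ℂ) = y) ∧
      Cfg p e t n X (irrOne G) (fun χ => charDegree (χ : G → ℂ)) s ε y := by
  classical
  have hpp : p.Prime := Fact.out
  have he2 : 2 ≤ e := by
    rw [← D.he]; exact H59BRBasicA.two_le_e hperf P D.hP
  have hn1 : 1 ≤ n := H59BRBasicA.n_pos hperf P D.hP n hn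
  have ht : 0 < t := by
    rcases Nat.eq_zero_or_pos t with h0 | h0
    · have := D.hte
      rw [h0] at this
      have := hpp.two_le
      omega
    · exact h0
  have hYne : Y.Nonempty := by
    rw [← Finset.card_pos, D.cardY]; exact ht
  obtain ⟨θ₀, hθ₀⟩ := hYne
  refine ⟨charDegree (θ₀ : G → ℂ), fun θ hθ => H59BRDvd.deg_Y D θ θ₀ hθ hθ₀, ?_⟩
  have hdeg1 : charDegree ((irrOne G : IrrCharacter G) : G → ℂ) = 1 := by
    have h1 := Cfsg.Agent.Lib.Helper82Irr.irr_charDegree_cast (irrOne G)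
    have h2 : ((irrOne G : IrrCharacter G) : G → ℂ) 1 = 1 := rfl
    rw [h2] at h1
    exact_mod_cast h1
  apply H59BRArC.cfg_of_not_exc hpp D.hte he2 hn1 X (irrOne G) D.one_mem D.cardX _ s ε _ D.hs
    D.s_one hdeg1 (fun χ _ h => H59BRBasicC.lin_eq_one hperf χ h)
    (fun χ hχ => H59BRDvd.dvd_X D n hn χ hχ) D.congX D.hε ?_ (H59BRDvd.dvd_Y D n hn θ₀ hθ₀)
    (D.congY θ₀ hθ₀) ?_ hexc
  · intro h1
    have := H59BRBasicC.lin_eq_one hperf θ₀ h1
    rw [this] at hθ₀
    exact (Finset.disjoint_left.mp D.disj D.one_mem) hθ₀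
  · have h1 := D.rel θ₀ hθ₀ 1 (by
      rw [orderOf_one]; exact hpp.one_lt.ne' ∘ Nat.dvd_one.mp)
    have h2 : ((ε * (charDegree (θ₀ : G → ℂ) : ℤ) : ℤ) : ℂ)
        = ((∑ χ ∈ X, s χ * (charDegree (χ : G → ℂ) : ℤ) : ℤ) : ℂ) := by
      push_cast
      rw [Cfsg.Agent.Lib.Helper82Irr.irr_charDegree_cast, h1]
      apply Finset.sum_congr rfl
      intro χ _
      rw [Cfsg.Agent.Lib.Helper82Irr.irr_charDegree_cast]
    exact_mod_cast h2

theorem geo_of_cfg (hperf : commutator G = ⊤) (D : BR p P e t X Y s ε)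
    (hC : centralizer ((P : Subgroup G) : Set G) = (P : Subgroup G)) (n y : ℕ)
    (hn : Nat.card (Sylow p G) = 1 + n * p)
    (hy : ∀ θ ∈ Y, charDegree (θ : G → ℂ) = y)
    (C : Cfg p e t n X (irrOne G) (fun χ => charDegree (χ : G → ℂ)) s ε y) : Geo p P e n := by
  have he2 : 2 ≤ e := by
    rw [← D.he]; exact H59BRBasicA.two_le_e hperf P D.hP
  have hn1 : 1 ≤ n := H59BRBasicA.n_pos hperf P D.hP n hn
  have hN : Nat.card (normalizer ((P : Subgroup G) : Set G)) = p * e := by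
    rw [H59BRBasicB.card_normalizer P D.hP hC, D.he]
  refine ⟨D.hP, hC, hN, he2, ?_, hn, hn1, ?_⟩
  · rw [← D.he]; exact H59BRBasicB.e_dvd P D.hP
  · apply H59BRSymm.card_inter_all P e
    intro Q hQ
    apply H59BRGeoB.card_inter P D.hP hC e hN ?_ Q hQ
    intro ν hν1 hν h
    apply H59BRMackey.exists_ne_of_inner_zero
    have := H59BRGeoA.inner_zero D hC hn hn1 C hy ν hν1 hν
    simpa [H59BRInd.Phi] using this

end

section
variable {G : Type*} [Group G] [Finite G] {p : ℕ} [Fact p.Prime]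

/-- Core B: `O_{p'}(G) = 1` and not exceptional imply `C(P) = P`. -/
theorem coreB (hperf : commutator G = ⊤) (P : Sylow p G) (hP : Nat.card P = p)
    (hO : pPrimeCore p G = ⊥) (n : ℕ) (hn : Nat.card (Sylow p G) = 1 + n * p)
    (hexc : ¬ Exc p n) : centralizer ((P : Subgroup G) : Set G) = (P : Subgroup G) := by
  classical
  let _ : Fintype G := Fintype.ofFinite G
  obtain ⟨e, t, X, Y, s, ε, D⟩ := H59BRData.exists_br P hP
  obtain ⟨y, hy, C⟩ := exists_cfg hperf D n hn hexc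
  obtain ⟨ξ, hξ, hs⟩ := C.exM
  exact H59BRKerB.cent_eq D ξ hξ hs (C.degM ξ hξ hs) hO

/-- Core A. -/
theorem coreA (hperf : commutator G = ⊤) (P : Sylow p G) (hP : Nat.card P = p)
    (hC : centralizer ((P : Subgroup G) : Set G) = (P : Subgroup G)) (n : ℕ)
    (hn : Nat.card (Sylow p G) = 1 + n * p) (hexc : ¬ Exc p n) :
    (3 < p ∧ Nonempty (G ≃* Matrix.ProjectiveSpecialLinearGroup (Fin 2) (ZMod p))) ∨
    (∃ (m : ℕ) (F : Type) (_ : Field F) (_ : Fintype F), Fintype.card F = 2 ^ m ∧ p = 2 ^ m + 1 ∧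
      3 < p ∧ Nonempty (G ≃* Matrix.ProjectiveSpecialLinearGroup (Fin 2) F)) := by
  classical
  let _ : Fintype G := Fintype.ofFinite G
  have hpp : p.Prime := Fact.out
  obtain ⟨e, t, X, Y, s, ε, D⟩ := H59BRData.exists_br P hP
  obtain ⟨y, hy, C⟩ := exists_cfg hperf D n hn hexc
  have H := geo_of_cfg hperf D hC n y hn hy C
  obtain ⟨E, HE⟩ := H59BRNorm.exists_geoE H
  have hG : Nat.card G = p * e * (1 + n * p) := by
    have h3 : (normalizer ((P : Subgroup G) : Set G)).index = 1 + n * p := by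
      rw [← hn]; exact (Sylow.card_eq_index_normalizer P).symm
    rw [← (normalizer ((P : Subgroup G) : Set G)).card_mul_index, H.hN, h3]
  have hdvd : e * (n + 1) ∣ p * e * (1 + n * p) := by
    rw [← hG, ← HE.card_M]
    exact Subgroup.card_subgroup_dvd_card _
  have hdelta : 2 ≤ t → ∑ χ ∈ X, (if s χ = -1 then charDegree (χ : G → ℂ) else 0) ≤ y ^ 2 := by
    intro ht
    have : 1 < Y.card := by rw [D.cardY]; exact ht
    obtain ⟨θ, hθ, θ', hθ', hne⟩ := Finset.one_lt_card.mp this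
    rw [← hy θ hθ]
    exact H59BRDelta.delta D θ θ' hθ hθ' hne
  obtain ⟨ht, hcase⟩ := H59BRArD.arith_final hpp D.hte H.he H.hn1 C hdvd hdelta
  have hlt : e < p - 1 := by
    have h1 := D.hte
    have h2 : 2 * e ≤ t * e := Nat.mul_le_mul_right e ht
    have := H.he
    omega
  have none : n = 1 → (3 < p ∧ Nonempty (G ≃* Matrix.ProjectiveSpecialLinearGroup (Fin 2) (ZMod p))) := by
    intro h1
    subst h1
    exact H59BRNOne.n_one hperf H hlt
  rcases hcase with h1 | ⟨hne, h2⟩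
  · exact Or.inl (none h1)
  · -- an involution in `E`
    have : 2 ∣ Nat.card E := by rw [HE.card_E]; exact h2
    obtain ⟨z', hz'⟩ := exists_prime_orderOf_dvd_card' 2 this
    have hz2 : orderOf (z' : G) = 2 := by rw [Subgroup.orderOf_coe]; exact hz'
    rcases H59BRInvC.dichotomy H HE hne (z' : G) z'.2 hz2 with h1 | ⟨he2, hall⟩
    · exact Or.inl (none h1)
    · subst he2
      exact Or.inr (H59BREndTwo.end_two H HE hne (z' : G) z'.2 hz2 hall)

end

end Cfsg.Agent.Lib.H59BRCore
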