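import Mathlib
import Cfsg.Agent.Lib.Helper59BRDefs
import Cfsg.Agent.Lib.Helper14CoreB
import Cfsg.Prelude.Def_Solvable
import Cfsg.Prelude.Def_CaseTheorems

set_option autoImplicit false
set_option linter.unusedSectionVars false
set_option linter.unusedVariables false

namespace Cfsg.Agent.Lib.H59BRRed

open Cfsg Subgroup
open Cfsg.Agent.Lib.Helper81Base Cfsg.Agent.Lib.Helper82Linear Cfsg.Agent.Lib.Helper59BRDefs
open scoped ComplexConjugate

variable {G : Type*} [Group G] [Finite G] {p : ℕ} [Fact p.Prime]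

/-- `Pb = ` image of `P` (`Sylow.mapSurjective`), of order `p` since `P ∩ O_{p'}(G) = 1`.
`N(P) ≤ comap N(Pb)`, so `|G/H : N(Pb)| = |G : comap N(Pb)|` divides `|G : N(P)|`
(`Subgroup.index_dvd_of_le`, `Sylow.card_eq_index_normalizer`). -/
theorem red (P : Sylow p G) (hP : Nat.card P = p) :
    ∃ Pb : Sylow p (G ⧸ pPrimeCore p G), Nat.card Pb = p ∧
      Nat.card (Sylow p (G ⧸ pPrimeCore p G)) ∣ Nat.card (Sylow p G) := by
  have hsurj := QuotientGroup.mk'_surjective (pPrimeCore p G)
  refine ⟨P.mapSurjective hsurj, ?_, ?_⟩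
  · have hcoe : ((P.mapSurjective hsurj : Sylow p (G ⧸ pPrimeCore p G)) :
        Subgroup (G ⧸ pPrimeCore p G)) = (P : Subgroup G).map (QuotientGroup.mk' (pPrimeCore p G)) :=
      rfl
    have hdisj : Disjoint (P : Subgroup G) (pPrimeCore p G) := by
      apply Subgroup.disjoint_of_coprime_natCard
      rw [hP]
      exact (Helper14CoreB.card_pPrimeCore_coprime p).symm
    have hinj : Function.Injective
        ((QuotientGroup.mk' (pPrimeCore p G)).comp (P : Subgroup G).subtype) := by
      rw [← MonoidHom.ker_eq_bot_iff, eq_bot_iff]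
      intro x hx
      rw [MonoidHom.mem_ker] at hx
      have h1 : (x : G) ∈ pPrimeCore p G := (QuotientGroup.eq_one_iff (x : G)).1 hx
      have h2 : (x : G) ∈ (P : Subgroup G) ⊓ pPrimeCore p G := ⟨x.2, h1⟩
      rw [hdisj.eq_bot, Subgroup.mem_bot] at h2
      rw [Subgroup.mem_bot]
      exact Subtype.ext h2
    have hrange : ((QuotientGroup.mk' (pPrimeCore p G)).comp (P : Subgroup G).subtype).range
        = (P : Subgroup G).map (QuotientGroup.mk' (pPrimeCore p G)) := by
      rw [MonoidHom.range_eq_map, ← Subgroup.map_map, ← MonoidHom.range_eq_map,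
        Subgroup.range_subtype]
    change Nat.card ((P.mapSurjective hsurj : Sylow p (G ⧸ pPrimeCore p G)) :
        Subgroup (G ⧸ pPrimeCore p G)) = p
    rw [hcoe, ← hrange]
    exact (Nat.card_congr (MonoidHom.ofInjective hinj).toEquiv).symm.trans hP
  · rw [Sylow.card_eq_index_normalizer P, Sylow.card_eq_index_normalizer (P.mapSurjective hsurj),
      ← Subgroup.index_comap_of_surjective _ hsurj]
    apply Subgroup.index_dvd_of_le
    intro g hg
    rw [Subgroup.mem_comap]
    have := Subgroup.le_normalizer_map (QuotientGroup.mk' (pPrimeCore p G)) (H := (P : Subgroup G))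
    exact this (Subgroup.mem_map_of_mem _ hg)

/-- the preimage of a normal `p'`-subgroup of `G / O_{p'}(G)` is a normal `p'`-subgroup. -/
theorem core_quot : pPrimeCore p (G ⧸ pPrimeCore p G) = ⊥ :=
  Helper14CoreB.pPrimeCore_quotient_eq_bot p

theorem perf_quot (hperf : commutator G = ⊤) (N : Subgroup G) [N.Normal] :
    commutator (G ⧸ N) = ⊤ := by
  have h := Subgroup.map_commutator (⊤ : Subgroup G) ⊤ (QuotientGroup.mk' N)
  rw [Subgroup.map_top_of_surjective _ (QuotientGroup.mk'_surjective N)] at h
  rw [commutator_def, ← h, ← commutator_def, hperf,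
    Subgroup.map_top_of_surjective _ (QuotientGroup.mk'_surjective N)]

end Cfsg.Agent.Lib.H59BRRed
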