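import Mathlib
import Cfsg.Agent.S0999
import Cfsg.Agent.Lib.Helper7SL

set_option autoImplicit false

/-! A simple group whose order has a prime divisor `p` with `|G| < p ^ 3` has the order of a `PSL₂`
(consequence of the landed Brauer-Reynolds statement S0999). -/

namespace Cfsg.Agent.Lib.H26SvBig

open Matrix

theorem card_psl_mul {F : Type*} [Field F] [Fintype F] :
    ∃ c : ℕ, (c = 1 ∨ c = 2) ∧
      Nat.card (ProjectiveSpecialLinearGroup (Fin 2) F) * c = Fintype.card F * (Fintype.card F ^ 2 - 1) := by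
  have h1 := Subgroup.card_eq_card_quotient_mul_card_subgroup
      (Subgroup.center (SpecialLinearGroup (Fin 2) F))
  rw [Cfsg.Agent.Lib.Helper7SL.card_SL_two] at h1
  refine ⟨Nat.card (Subgroup.center (SpecialLinearGroup (Fin 2) F)), ?_, h1.symm⟩
  have h2 : Nat.card (Subgroup.center (SpecialLinearGroup (Fin 2) F)) ≤ 2 := by
    rw [Nat.card_congr (SpecialLinearGroup.center_equiv_rootsOfUnity (n := Fin 2) (R := F)).toEquiv]
    have h := card_rootsOfUnity F 2
    simpa using h
  have h3 : 0 < Nat.card (Subgroup.center (SpecialLinearGroup (Fin 2) F)) := Nat.card_pos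
  omega

theorem false_of_big_prime {G : Type*} [Group G] [Finite G] [IsSimpleGroup G] (n p : ℕ)
    (hn : Nat.card G = n) (hp : p.Prime) (hd : p ∣ n) (hb : n < p ^ 3) (hnp : ¬ n.Prime)
    (h1 : n ≠ p * (p ^ 2 - 1)) (h2 : n * 2 ≠ p * (p ^ 2 - 1))
    (h3 : n ≠ (p - 1) * ((p - 1) ^ 2 - 1)) (h4 : n * 2 ≠ (p - 1) * ((p - 1) ^ 2 - 1)) : False := by
  have hcyc : ¬ IsCyclic G := by
    intro hc
    apply hnp
    rw [← hn]
    exact @IsSimpleGroup.prime_card G IsCyclic.commGroup _
  rcases Cfsg.Agent.S0999.result hcyc p hp (hn ▸ hd) (hn ▸ hb) with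
    ⟨F, _, _, hF, _, ⟨e⟩⟩ | ⟨m, F, _, _, hF, hpm, _, ⟨e⟩⟩
  · obtain ⟨c, hc, hcard⟩ := card_psl_mul (F := F)
    rw [← Nat.card_congr e.toEquiv, hn, hF] at hcard
    rcases hc with rfl | rfl
    · exact h1 (by simpa using hcard)
    · exact h2 hcard
  · obtain ⟨c, hc, hcard⟩ := card_psl_mul (F := F)
    have hq : Fintype.card F = p - 1 := by omega
    rw [← Nat.card_congr e.toEquiv, hn, hq] at hcard
    rcases hc with rfl | rfl
    · exact h3 (by simpa using hcard)
    · exact h4 hcard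

end Cfsg.Agent.Lib.H26SvBig
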