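import Cfsg.Agent.Lib.H27CcR5

set_option autoImplicit false

namespace Cfsg.Agent.Lib.H27CcR6

open Subgroup Cfsg.Agent.Lib.H27CcDefs Cfsg.Agent.Lib.Helper58Subnormal

variable {G : Type*} [Group G] [Finite G] {p q : ℕ} {H P X Y : Subgroup G} {z : G}

/-- `C ∩ Y = 1` for `C = C_H(F)`: it is a subnormal `q'`-subgroup. -/
theorem inf_eq_bot [Fact p.Prime] [Fact q.Prime] (h : Cfg p q H P X Y z)
    (hred : Cfsg.pPrimeCore q G ⊓ H = ⊥) :
    (H ⊓ centralizer ((FF q H P : Subgroup G) : Set G)) ⊓ Y = ⊥ := by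
  have hH : H.Normal := h.hH
  have hFn : (FF q H P).Normal := H27CcR1.FF_normal q H P h.hH h.hG
  have hcn : (centralizer ((FF q H P : Subgroup G) : Set G)).Normal := inferInstance
  have hCn : (H ⊓ centralizer ((FF q H P : Subgroup G) : Set G)).Normal := inferInstance
  have hCT : (H ⊓ centralizer ((FF q H P : Subgroup G) : Set G)) ≤
      normalizer (((H ⊓ centralizer ((FF q H P : Subgroup G) : Set G)) ⊓ Y : Subgroup G) : Set G) := by
    apply Cfsg.Agent.Lib.Helper27Core.le_normalizer_of_cj_le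
    intro c hc
    rintro _ ⟨t, ht, rfl⟩
    obtain ⟨n, hn1, hn2, hn3⟩ := H27CcR5.decomp h hred c hc.1 hc.2
    have hdH : c * n ∈ H := H.mul_mem hc.1 (H27CcR1.FF_le q H P hH hn1)
    have hdY : c * n ∈ normalizer (Y : Set G) := h.hY2 ⟨hdH, hn3⟩
    have hnt : n * t = t * n := (mem_centralizer_iff.mp ht.1.2) n hn1
    have heq : c * t * c⁻¹ = (c * n) * t * (c * n)⁻¹ := by
      calc c * t * c⁻¹ = c * (t * n) * n⁻¹ * c⁻¹ := by group
        _ = c * (n * t) * n⁻¹ * c⁻¹ := by rw [hnt]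
        _ = _ := by group
    show (MulAut.conj c) t ∈ _
    rw [MulAut.conj_apply, heq]
    exact ⟨hCn.conj_mem t ht.1 _, (mem_normalizer_iff.mp hdY t).mp ht.2⟩
  have hsn : ((H ⊓ centralizer ((FF q H P : Subgroup G) : Set G)) ⊓ Y).IsSubnormal :=
    sn_top_iff.mp ((NormIn.sn ⟨inf_le_left, hCT⟩).trans (NormIn.sn (normIn_top_iff.mpr hCn)))
  have hTq : (Nat.card ((H ⊓ centralizer ((FF q H P : Subgroup G) : Set G)) ⊓ Y : Subgroup G)).Coprime q :=
    Nat.Coprime.coprime_dvd_left (card_dvd_of_le inf_le_right) h.hY4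
  have h1 := Cfsg.Agent.Lib.Helper27Core.subnormal_le_pPrimeCore hsn hTq
  rw [eq_bot_iff, ← hred]
  exact le_inf h1 (inf_le_left.trans inf_le_left)

end Cfsg.Agent.Lib.H27CcR6
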