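import Cfsg.Agent.Lib.H27CcQA1
import Cfsg.Agent.Lib.H27CcQA2
import Cfsg.Agent.Lib.H27CcQX
import Cfsg.Agent.Lib.H27CcQY
import Cfsg.Agent.Lib.H27CcQRed
import Cfsg.Agent.Lib.H27CcR6

set_option autoImplicit false

namespace Cfsg.Agent.Lib.H27CcMain

open Subgroup Cfsg.Agent.Lib.H27CcDefs

variable {G : Type*} [Group G] [Finite G] {p q : ℕ} {H P X Y : Subgroup G} {z : G}

theorem cfg_map [Fact p.Prime] [Fact q.Prime] (h : Cfg p q H P X Y z) (N : Subgroup G) [N.Normal]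
    (hNH : N ≤ H) (hNq : (Nat.card N).Coprime q) :
    Cfg p q (H.map (QuotientGroup.mk' N)) (P.map (QuotientGroup.mk' N))
      (X.map (QuotientGroup.mk' N)) (Y.map (QuotientGroup.mk' N)) (QuotientGroup.mk' N z) where
  hH := H27CcQA1.hH h N
  hG := H27CcQA1.hG h N
  hHp := H27CcQA1.card_map_coprime H N p h.hHp
  hP := H27CcQA1.hP h N
  hsol := H27CcQA1.hsol h N
  hzH := mem_map_of_mem _ h.hzH
  hzP := H27CcQA2.hzP h N
  hz := H27CcQA2.hz h N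
  hX1 := H27CcQA2.hX1 h N
  hX2 := H27CcQX.hX2 h N hNH hNq
  hX3 := H27CcQA2.hX3 h N
  hX4 := H27CcQA1.card_map_coprime X N q h.hX4
  hY1 := H27CcQA2.hY1 h N
  hY2 := H27CcQY.hY2 h N hNH
  hY4 := H27CcQA1.card_map_coprime Y N q h.hY4

/-- the reduced case -/
theorem reduced [Fact p.Prime] [Fact q.Prime] (h : Cfg p q H P X Y z)
    (hred : Cfsg.pPrimeCore q G ⊓ H = ⊥) : X ⊓ Y = ⊥ ∧ ⁅X, P⁆ = ⊥ := by
  refine ⟨?_, H27CcR4.comm_eq_bot h hred⟩
  rw [eq_bot_iff, ← H27CcR6.inf_eq_bot h hred]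
  exact inf_le_inf_right _ (le_inf (h.hX1.trans inf_le_left) (H27CcR3.X_le h))

theorem main [Fact p.Prime] [Fact q.Prime] (h : Cfg p q H P X Y z) :
    (X ⊓ Y) ⊔ ⁅X, P⁆ ≤ Cfsg.pPrimeCore q G ⊓ H := by
  have hN : (Cfsg.pPrimeCore q G ⊓ H).Normal := H27CcQRed.core_inf_normal q H h.hH
  have hNq : (Nat.card (Cfsg.pPrimeCore q G ⊓ H : Subgroup G)).Coprime q :=
    Nat.Coprime.coprime_dvd_left (card_dvd_of_le inf_le_left)
      (Cfsg.Agent.Lib.Helper27Core.card_pPrimeCore_coprime q)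
  have h1 := cfg_map h (Cfsg.pPrimeCore q G ⊓ H) inf_le_right hNq
  obtain ⟨h2, h3⟩ := reduced h1 (H27CcQRed.red q H h.hH)
  have hker : ∀ T : Subgroup G, T.map (QuotientGroup.mk' (Cfsg.pPrimeCore q G ⊓ H)) = ⊥ →
      T ≤ Cfsg.pPrimeCore q G ⊓ H := by
    intro T hT t ht
    have : QuotientGroup.mk' (Cfsg.pPrimeCore q G ⊓ H) t ∈
        T.map (QuotientGroup.mk' (Cfsg.pPrimeCore q G ⊓ H)) := mem_map_of_mem _ ht
    rw [hT, mem_bot] at this
    exact (QuotientGroup.eq_one_iff t).mp this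
  refine sup_le (hker _ ?_) (hker _ ?_)
  · rw [eq_bot_iff, ← h2]
    exact le_inf (map_mono inf_le_left) (map_mono inf_le_right)
  · rw [map_commutator, h3]

end Cfsg.Agent.Lib.H27CcMain
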