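import Cfsg.Agent.Lib.H27CcR2a
import Cfsg.Agent.Lib.Helper30Bender

set_option autoImplicit false

namespace Cfsg.Agent.Lib.H27CcR2

open Subgroup Cfsg.Agent.Lib.H27CcDefs Cfsg.Agent.Lib.Helper58Subnormal
  Cfsg.Agent.Lib.Helper30Bender

/-- `C_S(O_q(G) ∩ S) ≤ O_q(G) ∩ S` for a solvable normal subgroup `S` with `O_{q'}(G) ∩ S = 1`. -/
theorem self_centralizing {G : Type*} [Group G] [Finite G] {q : ℕ} [Fact q.Prime]
    (S : Subgroup G) (hS : S.Normal) (hsol : Group.IsSolvable ↥S)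
    (hred : Cfsg.pPrimeCore q G ⊓ S = ⊥) :
    S ⊓ centralizer ((Cfsg.pCore q G ⊓ S : Subgroup G) : Set G) ≤ Cfsg.pCore q G ⊓ S := by
  have hKS : fittingOf S ≤ S := fittingOf_le S
  have h1 : NormIn (fittingOf S) S := ⟨hKS, le_normalizer_fittingOf S⟩
  have h2 : NormIn S ⊤ := normIn_top_iff.2 hS
  have hsn : Sn (fittingOf S) ⊤ := h1.sn.trans h2.sn
  have hredK : Cfsg.pPrimeCore q G ⊓ fittingOf S = ⊥ := by
    rw [eq_bot_iff, ← hred]
    exact inf_le_inf_left _ hKS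
  have hpg : IsPGroup q (fittingOf S) :=
    H27CcR2a.isPGroup_of_nilpotent (fittingOf S) (fittingOf_isNilpotent S) hsn hredK
  have hKq : fittingOf S ≤ Cfsg.pCore q G :=
    Cfsg.Agent.Lib.Helper27Core.subnormal_le_pCore (sn_top_iff.1 hsn) hpg
  have hK : fittingOf S ≤ Cfsg.pCore q G ⊓ S := le_inf hKq hKS
  calc S ⊓ centralizer ((Cfsg.pCore q G ⊓ S : Subgroup G) : Set G)
      ≤ S ⊓ centralizer (fittingOf S : Set G) := inf_le_inf_left _ (Subgroup.centralizer_le hK)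
    _ ≤ fittingOf S := inf_centralizer_fittingOf_le hsol
    _ ≤ Cfsg.pCore q G ⊓ S := hK

end Cfsg.Agent.Lib.H27CcR2
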