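import Cfsg.Agent.Lib.H27CcR1
import Cfsg.Agent.Lib.H27CcR2
import Cfsg.Agent.Lib.H27CcR3

set_option autoImplicit false

namespace Cfsg.Agent.Lib.H27CcR4

open Subgroup Cfsg.Agent.Lib.H27CcDefs
open scoped commutatorElement

variable {G : Type*} [Group G] [Finite G] {p q : ℕ} {H P X Y : Subgroup G} {z : G}

/-- `pPrimeCore q G ⊓ ⁅H,P⁆ ≤ pPrimeCore q G ⊓ H = ⊥` (`Subgroup.commutator_le_left`), `H27CcR1.comm_normal`,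
`h.hsol`, `H27CcR2.self_centralizing` (unfold `FF`). -/
theorem FF_self [Fact q.Prime] (h : Cfg p q H P X Y z) (hred : Cfsg.pPrimeCore q G ⊓ H = ⊥) :
    ⁅H, P⁆ ⊓ centralizer ((FF q H P : Subgroup G) : Set G) ≤ FF q H P := by
  have := h.hH
  have hred' : Cfsg.pPrimeCore q G ⊓ ⁅H, P⁆ = ⊥ := by
    rw [eq_bot_iff, ← hred]
    exact inf_le_inf_left _ (Subgroup.commutator_le_left H P)
  exact H27CcR2.self_centralizing ⁅H, P⁆ (H27CcR1.comm_normal H P h.hH h.hG) h.hsol hred'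

/-- `⁅X,P⁆ ≤ ⁅H,P⁆` (`Subgroup.commutator_mono`, `X ≤ H`); `⁅X,P⁆ ≤ X` (`P ≤ N(X)`:
`Subgroup.commutator_le` and `x*y*x⁻¹*y⁻¹ = x*(y*x⁻¹*y⁻¹)`); `X ≤ centralizer FF` (`H27CcR3.X_le`).  So
`⁅X,P⁆ ≤ (⁅H,P⁆ ⊓ centralizer FF) ⊓ X ≤ FF ⊓ X = ⊥` (`FF_self`, `H27CcR1.inf_eq_bot`, `H27CcR1.FF_isPGroup`). -/
theorem comm_eq_bot [Fact q.Prime] (h : Cfg p q H P X Y z)
    (hred : Cfsg.pPrimeCore q G ⊓ H = ⊥) : ⁅X, P⁆ = ⊥ := by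
  have hXH : X ≤ H := h.hX1.trans inf_le_left
  have h1 : ⁅X, P⁆ ≤ ⁅H, P⁆ := Subgroup.commutator_mono hXH le_rfl
  have h2 : ⁅X, P⁆ ≤ X := by
    rw [Subgroup.commutator_le]
    intro x hx y hy
    have h3 : y * x⁻¹ * y⁻¹ ∈ X := (mem_normalizer_iff.1 (h.hX3 hy) x⁻¹).1 (X.inv_mem hx)
    have e : ⁅x, y⁆ = x * (y * x⁻¹ * y⁻¹) := by
      rw [commutatorElement_def]; group
    rw [e]
    exact X.mul_mem hx h3
  have h3 : ⁅X, P⁆ ≤ FF q H P ⊓ X :=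
    le_inf ((le_inf h1 (h2.trans (H27CcR3.X_le h))).trans (FF_self h hred)) h2
  rw [H27CcR1.inf_eq_bot (H27CcR1.FF_isPGroup q H P) h.hX4] at h3
  exact eq_bot_iff.2 h3

end Cfsg.Agent.Lib.H27CcR4
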