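import Cfsg.Agent.Lib.H27CcR4
import Cfsg.Agent.Lib.H27CcLift

set_option autoImplicit false

namespace Cfsg.Agent.Lib.H27CcR5

open Subgroup Cfsg.Agent.Lib.H27CcDefs

variable {G : Type*} [Group G] [Finite G] {p q : ℕ} {H P X Y : Subgroup G} {z : G}

/-- `C = C_H(F) = Z(F) C_C(P)`.  `Z₁ = FF ⊓ centralizer FF` is normal in `G` (`FF` normal: `H27CcR1.FF_normal`; the
centralizer of a normal subgroup is normal: instance `Subgroup.normal_centralizer`-like / by hand), `Z₁ ≤ H`, so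
`card Z₁` is prime to `p`.  For `c ∈ H ⊓ centralizer FF` and `y ∈ P`: `c*y*c⁻¹*y⁻¹ ∈ ⁅H,P⁆`
(`Subgroup.commutator_mem_commutator`) and `∈ centralizer FF` (`c ∈ centralizer FF`, and `y*c⁻¹*y⁻¹ ∈ centralizer FF` by
normality), so `∈ FF` by `H27CcR4.FF_self`, so `∈ Z₁`.  Hence `mk c` commutes with `mk y` in `G ⧸ Z₁`:
`mk' Z₁ c ∈ centralizer (P.map (mk' Z₁))`.  `H27CcLift.lift Z₁ P h.hP _ c _` gives `d` with `c⁻¹*d ∈ Z₁`,
`d ∈ centralizer P`; take `n = c⁻¹*d`. -/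
theorem decomp [Fact p.Prime] [Fact q.Prime] (h : Cfg p q H P X Y z)
    (hred : Cfsg.pPrimeCore q G ⊓ H = ⊥) (c : G) (hcH : c ∈ H)
    (hc : c ∈ centralizer ((FF q H P : Subgroup G) : Set G)) :
    ∃ n, n ∈ FF q H P ∧ n ∈ centralizer ((FF q H P : Subgroup G) : Set G) ∧
      c * n ∈ centralizer (P : Set G) := by
  have hFn : (FF q H P).Normal := H27CcR1.FF_normal q H P h.hH h.hG
  have hCn : (centralizer ((FF q H P : Subgroup G) : Set G)).Normal := inferInstance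
  set Z₁ : Subgroup G := FF q H P ⊓ centralizer ((FF q H P : Subgroup G) : Set G) with hZ₁
  have hZn : Z₁.Normal := Subgroup.normal_inf_normal _ _
  have hZH : Z₁ ≤ H := inf_le_left.trans (H27CcR1.FF_le q H P h.hH)
  have hZcop : (Nat.card Z₁).Coprime p :=
    Nat.Coprime.coprime_dvd_left (Subgroup.card_dvd_of_le hZH) h.hHp
  have claim : ∀ c' ∈ H, c' ∈ centralizer ((FF q H P : Subgroup G) : Set G) → ∀ y' ∈ P,
      c' * y' * c'⁻¹ * y'⁻¹ ∈ Z₁ := by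
    intro c' hc'H hc' y' hy'
    have h1 : c' * y' * c'⁻¹ * y'⁻¹ ∈ (⁅H, P⁆ : Subgroup G) :=
      Subgroup.commutator_mem_commutator hc'H hy'
    have h2 : c' * y' * c'⁻¹ * y'⁻¹ ∈ centralizer ((FF q H P : Subgroup G) : Set G) := by
      have e : c' * y' * c'⁻¹ * y'⁻¹ = c' * (y' * c'⁻¹ * y'⁻¹) := by group
      rw [e]
      exact mul_mem hc' (hCn.conj_mem _ (inv_mem hc') y')
    exact ⟨H27CcR4.FF_self h hred ⟨h1, h2⟩, h2⟩
  have hg : (QuotientGroup.mk' Z₁ c) ∈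
      centralizer ((P.map (QuotientGroup.mk' Z₁) : Subgroup (G ⧸ Z₁)) : Set (G ⧸ Z₁)) := by
    rw [Subgroup.mem_centralizer_iff]
    rintro b ⟨y, hy, rfl⟩
    rw [← map_mul, ← map_mul]
    show ((y * c : G) : G ⧸ Z₁) = ((c * y : G) : G ⧸ Z₁)
    rw [QuotientGroup.eq]
    have h3 := claim c⁻¹ (H.inv_mem hcH) (inv_mem hc) y⁻¹ (P.inv_mem hy)
    have e : (y * c)⁻¹ * (c * y) = c⁻¹ * y⁻¹ * c⁻¹⁻¹ * y⁻¹⁻¹ := by group
    rw [e]
    exact h3
  obtain ⟨d, hd1, hd2⟩ := H27CcLift.lift Z₁ P h.hP hZcop c hg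
  refine ⟨c⁻¹ * d, hd1.1, hd1.2, ?_⟩
  rw [mul_inv_cancel_left]
  exact hd2

end Cfsg.Agent.Lib.H27CcR5
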