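import Cfsg.Agent.Lib.H28StdDefs

/-! PROJECT 1323 (S1323), piece `Alt`.
(60 min) `Fx Δ ≃* alternatingGroup {x // x ∉ Δ}`.  classical.
Map ψ : alternatingGroup {x // x ∉ Δ} →* alternatingGroup (Fin n), σ ↦ ⟨Equiv.Perm.ofSubtype σ, _⟩ (`Equiv.Perm.sign_ofSubtype`), injective (`Equiv.Perm.ofSubtype_injective`),
range = Fx Δ: `ofSubtype_apply_of_not_mem` for ⊆; for ⊇, g ∈ Fx Δ: g maps Δᶜ to Δᶜ, σ = g.subtypePerm _, `Equiv.Perm.ofSubtype_subtypePerm` (needs: g x ≠ x → x ∉ Δ), sign σ = sign g by `sign_ofSubtype`.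
Then `(MonoidHom.ofInjective hψ).trans (MulEquiv.subgroupCongr hrange)` and symm. -/

set_option autoImplicit false

namespace Cfsg.Agent.Lib.H28StdAlt

open Equiv Equiv.Perm Cfsg.Agent.Lib.H28StdDefs

variable {n : ℕ}

theorem equivAlt (Δ : Set (Fin n)) [DecidablePred (· ∉ Δ)] :
    Nonempty (Fx Δ ≃* alternatingGroup {x : Fin n // x ∉ Δ}) := by
  let ψ : alternatingGroup {x : Fin n // x ∉ Δ} →* alternatingGroup (Fin n) :=
    ((Equiv.Perm.ofSubtype (p := (· ∉ Δ))).comp
      (alternatingGroup {x : Fin n // x ∉ Δ}).subtype).codRestrict (alternatingGroup (Fin n))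
      (fun σ => by
        rw [mem_alternatingGroup]
        simp only [MonoidHom.coe_comp, Function.comp_apply, Subgroup.coe_subtype]
        rw [Equiv.Perm.sign_ofSubtype]
        exact σ.2)
  have hψ : Function.Injective ψ := by
    intro a b hab
    have h1 : (ψ a : Perm (Fin n)) = (ψ b : Perm (Fin n)) := congrArg Subtype.val hab
    exact Subtype.ext (Equiv.Perm.ofSubtype_injective h1)
  have hrange : ψ.range = Fx Δ := by
    ext g
    constructor
    · rintro ⟨σ, rfl⟩ x hx
      exact Equiv.Perm.ofSubtype_apply_of_not_mem _ (not_not.2 hx)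
    · intro hg
      have h1 : ∀ x, (g : Perm (Fin n)) x ∉ Δ ↔ x ∉ Δ := by
        intro x
        rw [not_iff_not]
        constructor
        · intro hx
          have h2 := hg _ hx
          have h3 : (g : Perm (Fin n)) x = x := (g : Perm (Fin n)).injective h2
          rwa [h3] at hx
        · intro hx
          rw [hg x hx]; exact hx
      have h2 : ∀ x, (g : Perm (Fin n)) x ≠ x → x ∉ Δ := fun x hx hxΔ => hx (hg x hxΔ)
      refine ⟨⟨Equiv.Perm.subtypePerm (g : Perm (Fin n)) h1, ?_⟩, ?_⟩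
      · rw [mem_alternatingGroup, Equiv.Perm.sign_subtypePerm _ h1 h2]
        exact g.2
      · apply Subtype.ext
        exact Equiv.Perm.ofSubtype_subtypePerm h1 h2
  exact ⟨((MonoidHom.ofInjective hψ).trans (MulEquiv.subgroupCongr hrange)).symm⟩

end Cfsg.Agent.Lib.H28StdAlt
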