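import Cfsg.Agent.Lib.H28StdDefs

/-! PROJECT 1323 (S1323), piece `Cent`.
`C(Fx Δ) = Fx Δᶜ` when Δᶜ has at least 4 points. -/

set_option autoImplicit false

namespace Cfsg.Agent.Lib.H28StdCent

open Equiv Equiv.Perm Cfsg.Agent.Lib.H28StdDefs

variable {n : ℕ}

theorem centralizer_Fx {Δ : Set (Fin n)} (h : 4 ≤ (Δᶜ).ncard) :
    Subgroup.centralizer (Fx Δ : Set (alternatingGroup (Fin n))) = Fx Δᶜ := by
  ext c
  rw [Subgroup.mem_centralizer_iff, mem_Fx]
  constructor
  · intro hc x hx
    by_contra hne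
    obtain ⟨u, hu, huF⟩ := exists_avoid Δᶜ {x, (c : Perm (Fin n)) x} (by
      have : ({x, (c : Perm (Fin n)) x} : Finset (Fin n)).card ≤ 2 := Finset.card_le_two
      omega)
    obtain ⟨v, hv, hvF⟩ := exists_avoid Δᶜ {x, (c : Perm (Fin n)) x, u} (by
      have : ({x, (c : Perm (Fin n)) x, u} : Finset (Fin n)).card ≤ 3 := Finset.card_le_three
      omega)
    simp only [Finset.mem_insert, Finset.mem_singleton, not_or] at huF hvF
    have hxu : x ≠ u := fun e => huF.1 e.symm
    have hxv : x ≠ v := fun e => hvF.1 e.symm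
    have huv : u ≠ v := fun e => hvF.2.2 e.symm
    have hmem : tc x u v hxu hxv huv ∈ Fx Δ := tc_mem_Fx hxu hxv huv hx hu hv
    have hcomm := hc _ hmem
    have h1 : ((tc x u v hxu hxv huv * c : alternatingGroup (Fin n)) : Perm (Fin n)) x
        = ((c * tc x u v hxu hxv huv : alternatingGroup (Fin n)) : Perm (Fin n)) x := by
      rw [hcomm]
    have h2 : (tc x u v hxu hxv huv : Perm (Fin n)) ((c : Perm (Fin n)) x)
        = (c : Perm (Fin n)) ((tc x u v hxu hxv huv : Perm (Fin n)) x) := h1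
    rw [tc_a, tc_other hxu hxv huv hne (fun e => huF.2 e.symm) (fun e => hvF.2.1 e.symm)] at h2
    exact hxu ((c : Perm (Fin n)).injective h2)
  · intro hc g hg
    apply Subtype.ext
    have hdis : Perm.Disjoint (g : Perm (Fin n)) (c : Perm (Fin n)) := by
      intro x
      by_cases hx : x ∈ Δ
      · exact Or.inl (hg x hx)
      · exact Or.inr (hc x hx)
    exact hdis.commute

end Cfsg.Agent.Lib.H28StdCent
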