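import Cfsg.Agent.Lib.H28StdDefs

/-! PROJECT 1323 (S1323), piece `Comm`.
Two distinct 4-sets: the pointwise stabilisers do not commute. -/

set_option autoImplicit false

namespace Cfsg.Agent.Lib.H28StdComm

open Equiv Equiv.Perm Cfsg.Agent.Lib.H28StdDefs

variable {n : ℕ}

theorem ncard_compl4 {Δ : Set (Fin n)} (h : Δ.ncard = 4) : (Δᶜ).ncard = n - 4 := by
  rw [Set.ncard_compl, h, Nat.card_eq_fintype_card, Fintype.card_fin]

theorem noncomm (hn : 9 ≤ n) {Δ Δ' : Set (Fin n)} (h : Δ.ncard = 4) (h' : Δ'.ncard = 4) (hne : Δ ≠ Δ') :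
    ⁅Fx Δ, Fx Δ'⁆ ≠ ⊥ := by
  obtain ⟨w, hw, hw'⟩ : ∃ w ∈ Δ, w ∉ Δ' := by
    by_contra hcon
    push Not at hcon
    exact hne (Set.eq_of_subset_of_ncard_le hcon (by omega) (Set.toFinite _))
  have hc := ncard_compl4 h
  have hc' := ncard_compl4 h'
  have hU : ((Δ ∪ Δ')ᶜ).ncard ≥ 1 := by
    rw [Set.ncard_compl, Nat.card_eq_fintype_card, Fintype.card_fin]
    have := Set.ncard_union_le Δ Δ'
    omega
  obtain ⟨x, hx, -⟩ := exists_avoid (Δ ∪ Δ')ᶜ ∅ (by rw [Finset.card_empty]; omega)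
  have hxΔ : x ∉ Δ := fun e => hx (Or.inl e)
  have hxΔ' : x ∉ Δ' := fun e => hx (Or.inr e)
  obtain ⟨y, hy, hyF⟩ := exists_avoid Δᶜ {x} (by
    have : ({x} : Finset (Fin n)).card = 1 := Finset.card_singleton x
    omega)
  obtain ⟨z, hz, hzF⟩ := exists_avoid Δᶜ {x, y} (by
    have : ({x, y} : Finset (Fin n)).card ≤ 2 := Finset.card_le_two
    omega)
  obtain ⟨v, hv, hvF⟩ := exists_avoid Δ'ᶜ {x, w} (by
    have : ({x, w} : Finset (Fin n)).card ≤ 2 := Finset.card_le_two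
    omega)
  simp only [Finset.mem_insert, Finset.mem_singleton, not_or] at hyF hzF hvF
  have hxy : x ≠ y := fun e => hyF e.symm
  have hxz : x ≠ z := fun e => hzF.1 e.symm
  have hyz : y ≠ z := fun e => hzF.2 e.symm
  have hxw : x ≠ w := fun e => hxΔ (e ▸ hw)
  have hxv : x ≠ v := fun e => hvF.1 e.symm
  have hwv : w ≠ v := fun e => hvF.2 e.symm
  have ha : tc x y z hxy hxz hyz ∈ Fx Δ := tc_mem_Fx hxy hxz hyz hxΔ hy hz
  have hb : tc x w v hxw hxv hwv ∈ Fx Δ' := tc_mem_Fx hxw hxv hwv hxΔ' hw' hv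
  intro hbot
  have hmem := Subgroup.commutator_mem_commutator ha hb
  rw [hbot, Subgroup.mem_bot, commutatorElement_eq_one_iff_mul_comm] at hmem
  have h1 : ((tc x y z hxy hxz hyz * tc x w v hxw hxv hwv : alternatingGroup (Fin n)) : Perm (Fin n)) x
      = ((tc x w v hxw hxv hwv * tc x y z hxy hxz hyz : alternatingGroup (Fin n)) : Perm (Fin n)) x := by
    rw [hmem]
  have h2 : (tc x y z hxy hxz hyz : Perm (Fin n)) ((tc x w v hxw hxv hwv : Perm (Fin n)) x)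
      = (tc x w v hxw hxv hwv : Perm (Fin n)) ((tc x y z hxy hxz hyz : Perm (Fin n)) x) := h1
  rw [tc_a, tc_a, ha w hw] at h2
  have h3 : (tc x w v hxw hxv hwv : Perm (Fin n)) x = (tc x w v hxw hxv hwv : Perm (Fin n)) y := by
    rw [tc_a]; exact h2
  exact hxy ((tc x w v hxw hxv hwv : Perm (Fin n)).injective h3)

end Cfsg.Agent.Lib.H28StdComm
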