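import Cfsg.Agent.Lib.H28StdDefs

/-! PROJECT 1323 (S1323), piece `Conj`.
(15 min) `g (Fx S) g⁻¹ = Fx (g S)`.  ext h; `Subgroup.mem_map`, `MulAut.conj_apply`.
(→) h = g a g⁻¹, y = g x with x ∈ S: (g a g⁻¹)(g x) = g (a x) = g x.  (←) take a = g⁻¹ h g: it fixes x ∈ S because h fixes g x.
Coercions: `((g * a * g⁻¹ : alternatingGroup _) : Perm _) = g * a * g⁻¹` is rfl / `Subgroup.coe_mul`, `Perm.mul_apply`, `Perm.inv_apply_self`. -/

set_option autoImplicit false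

namespace Cfsg.Agent.Lib.H28StdConj

open Equiv Equiv.Perm Cfsg.Agent.Lib.H28StdDefs

variable {n : ℕ}

theorem conj_Fx (g : alternatingGroup (Fin n)) (S : Set (Fin n)) :
    (Fx S).map (MulAut.conj g).toMonoidHom = Fx ((g : Perm (Fin n)) '' S) := by
  ext h
  rw [Subgroup.mem_map, mem_Fx]
  constructor
  · rintro ⟨a, ha, rfl⟩ _ ⟨x, hx, rfl⟩
    show (g : Perm (Fin n)) ((a : Perm (Fin n)) ((g : Perm (Fin n))⁻¹ ((g : Perm (Fin n)) x))) = _
    have e1 : (g : Perm (Fin n))⁻¹ ((g : Perm (Fin n)) x) = x := by simp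
    rw [e1, ha x hx]
  · intro hh
    refine ⟨g⁻¹ * h * g, ?_, ?_⟩
    · intro x hx
      show (g : Perm (Fin n))⁻¹ ((h : Perm (Fin n)) ((g : Perm (Fin n)) x)) = x
      rw [hh _ ⟨x, hx, rfl⟩]
      simp
    · show g * (g⁻¹ * h * g) * g⁻¹ = h
      group

end Cfsg.Agent.Lib.H28StdConj
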