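import Mathlib

/-!
PROJECT 1323 (row S1323): `A_{n-4}` is a standard subgroup of `A_n`, `n ≥ 9`.  Vocabulary.

`Fx S`  : the even permutations of `Fin n` fixing every point of `S`.
`tc a b c` : the 3-cycle `a ↦ b ↦ c ↦ a` as an element of the alternating group.
-/

set_option autoImplicit false

namespace Cfsg.Agent.Lib.H28StdDefs

open Equiv Equiv.Perm

variable {n : ℕ}

/-- even permutations fixing `S` pointwise -/
def Fx (S : Set (Fin n)) : Subgroup (alternatingGroup (Fin n)) where
  carrier := {g | ∀ x ∈ S, (g : Perm (Fin n)) x = x}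
  mul_mem' := by
    intro a b ha hb x hx
    show (a : Perm (Fin n)) ((b : Perm (Fin n)) x) = x
    rw [hb x hx, ha x hx]
  one_mem' := fun x _ => rfl
  inv_mem' := by
    intro a ha x hx
    show (a : Perm (Fin n))⁻¹ x = x
    rw [Perm.inv_eq_iff_eq]
    exact (ha x hx).symm

theorem mem_Fx {S : Set (Fin n)} {g : alternatingGroup (Fin n)} :
    g ∈ Fx S ↔ ∀ x ∈ S, (g : Perm (Fin n)) x = x := Iff.rfl

/-- the 3-cycle `a ↦ b ↦ c ↦ a` -/
def tc (a b c : Fin n) (hab : a ≠ b) (hac : a ≠ c) (hbc : b ≠ c) : alternatingGroup (Fin n) :=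
  ⟨swap a b * swap b c, by
    rw [mem_alternatingGroup, map_mul, sign_swap hab, sign_swap hbc]; rfl⟩

variable {a b c : Fin n} (hab : a ≠ b) (hac : a ≠ c) (hbc : b ≠ c)

theorem tc_a : (tc a b c hab hac hbc : Perm (Fin n)) a = b := by
  show swap a b (swap b c a) = b
  rw [swap_apply_of_ne_of_ne hab hac, swap_apply_left]

theorem tc_b : (tc a b c hab hac hbc : Perm (Fin n)) b = c := by
  show swap a b (swap b c b) = c
  rw [swap_apply_left, swap_apply_of_ne_of_ne hac.symm hbc.symm]

theorem tc_c : (tc a b c hab hac hbc : Perm (Fin n)) c = a := by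
  show swap a b (swap b c c) = a
  rw [swap_apply_right, swap_apply_right]

theorem tc_other {x : Fin n} (hxa : x ≠ a) (hxb : x ≠ b) (hxc : x ≠ c) :
    (tc a b c hab hac hbc : Perm (Fin n)) x = x := by
  show swap a b (swap b c x) = x
  rw [swap_apply_of_ne_of_ne hxb hxc, swap_apply_of_ne_of_ne hxa hxb]

theorem tc_mem_Fx {S : Set (Fin n)} (ha : a ∉ S) (hb : b ∉ S) (hc : c ∉ S) :
    tc a b c hab hac hbc ∈ Fx S := by
  intro x hx
  exact tc_other hab hac hbc (fun h => ha (h ▸ hx)) (fun h => hb (h ▸ hx)) (fun h => hc (h ▸ hx))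

theorem Fx_inf (S S' : Set (Fin n)) : Fx S ⊓ Fx S' = Fx (S ∪ S') := by
  ext g
  simp only [Subgroup.mem_inf, mem_Fx, Set.mem_union]
  constructor
  · rintro ⟨h1, h2⟩ x (hx | hx)
    · exact h1 x hx
    · exact h2 x hx
  · intro h
    exact ⟨fun x hx => h x (Or.inl hx), fun x hx => h x (Or.inr hx)⟩

/-- choose a point of `T` outside a small finite set -/
theorem exists_avoid (T : Set (Fin n)) (F : Finset (Fin n)) (h : F.card < T.ncard) : ∃ a ∈ T, a ∉ F := by
  by_contra hcon
  push Not at hcon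
  have hsub : T ⊆ (F : Set (Fin n)) := fun a ha => hcon a ha
  have := Set.ncard_le_ncard hsub (Set.toFinite _)
  rw [Set.ncard_coe_finset] at this
  omega

end Cfsg.Agent.Lib.H28StdDefs
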