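import Cfsg.Agent.Lib.H28StdDefs

/-! PROJECT 1323 (S1323), piece `Even`.
(20 min) g = (a b)(c d) = swap a b * swap c d is even, fixes S pointwise, g ≠ 1, g * g = 1, so `orderOf g = 2` (`orderOf_eq_prime`) divides the order (`orderOf_dvd_natCard`). -/

set_option autoImplicit false

namespace Cfsg.Agent.Lib.H28StdEven

open Equiv Equiv.Perm Cfsg.Agent.Lib.H28StdDefs

variable {n : ℕ}

theorem even_Fx {S : Set (Fin n)} {a b c d : Fin n} (hab : a ≠ b) (hac : a ≠ c) (had : a ≠ d) (hbc : b ≠ c) (hbd : b ≠ d)
    (hcd : c ≠ d) (ha : a ∉ S) (hb : b ∉ S) (hc : c ∉ S) (hd : d ∉ S) : Even (Nat.card (Fx S)) := by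
  let g : alternatingGroup (Fin n) := ⟨swap a b * swap c d, by
    rw [mem_alternatingGroup, map_mul, sign_swap hab, sign_swap hcd]; rfl⟩
  have hg : g ∈ Fx S := by
    intro x hx
    show swap a b (swap c d x) = x
    have hxa : x ≠ a := fun h => ha (h ▸ hx)
    have hxb : x ≠ b := fun h => hb (h ▸ hx)
    have hxc : x ≠ c := fun h => hc (h ▸ hx)
    have hxd : x ≠ d := fun h => hd (h ▸ hx)
    rw [swap_apply_of_ne_of_ne hxc hxd, swap_apply_of_ne_of_ne hxa hxb]
  have hcomm : swap a b * swap c d = swap c d * swap a b := by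
    ext x
    simp only [Perm.mul_apply]
    by_cases hxa : x = a
    · subst hxa
      rw [swap_apply_of_ne_of_ne hac had, swap_apply_left, swap_apply_of_ne_of_ne hbc hbd]
    · by_cases hxb : x = b
      · subst hxb
        rw [swap_apply_of_ne_of_ne hbc hbd, swap_apply_right, swap_apply_of_ne_of_ne hac had]
      · rw [swap_apply_of_ne_of_ne hxa hxb]
        by_cases hxc : x = c
        · subst hxc
          rw [swap_apply_left, swap_apply_of_ne_of_ne had.symm hbd.symm]
        · by_cases hxd : x = d
          · subst hxd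
            rw [swap_apply_right, swap_apply_of_ne_of_ne hac.symm hbc.symm]
          · rw [swap_apply_of_ne_of_ne hxc hxd, swap_apply_of_ne_of_ne hxa hxb]
  have h2 : g ^ 2 = 1 := by
    apply Subtype.ext
    show (swap a b * swap c d) ^ 2 = 1
    rw [pow_two]
    calc swap a b * swap c d * (swap a b * swap c d)
        = swap a b * swap c d * (swap c d * swap a b) := by rw [hcomm]
      _ = swap a b * (swap c d * swap c d) * swap a b := by group
      _ = 1 := by rw [swap_mul_self, mul_one, swap_mul_self]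
  have h1 : g ≠ 1 := by
    intro h
    have : (g : Perm (Fin n)) a = a := by rw [h]; rfl
    have h3 : (g : Perm (Fin n)) a = b := by
      show swap a b (swap c d a) = b
      rw [swap_apply_of_ne_of_ne hac had, swap_apply_left]
    exact hab (this.symm.trans h3)
  have ho : orderOf g = 2 := orderOf_eq_prime h2 h1
  have hdvd : orderOf (⟨g, hg⟩ : Fx S) ∣ Nat.card (Fx S) := orderOf_dvd_natCard _
  rw [← Subgroup.orderOf_coe] at hdvd
  rw [show ((⟨g, hg⟩ : Fx S) : alternatingGroup (Fin n)) = g from rfl, ho] at hdvd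
  exact even_iff_two_dvd.mpr hdvd

end Cfsg.Agent.Lib.H28StdEven
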