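import Cfsg.Agent.Lib.H28StdConj

/-! PROJECT 1323 (S1323), piece `Le`.
`Fx S ≤ Fx S'` forces `S' ⊆ S`; the normaliser of `Fx S` is the setwise stabiliser of `S`. -/

set_option autoImplicit false

namespace Cfsg.Agent.Lib.H28StdLe

open Equiv Equiv.Perm Cfsg.Agent.Lib.H28StdDefs

variable {n : ℕ}

theorem Fx_le_imp {S S' : Set (Fin n)} (h : 3 ≤ (Sᶜ).ncard) (hle : Fx S ≤ Fx S') : S' ⊆ S := by
  intro w hw
  by_contra hwS
  obtain ⟨a, ha, haF⟩ := exists_avoid Sᶜ {w} (by
    have : ({w} : Finset (Fin n)).card = 1 := Finset.card_singleton w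
    omega)
  obtain ⟨b, hb, hbF⟩ := exists_avoid Sᶜ {w, a} (by
    have : ({w, a} : Finset (Fin n)).card ≤ 2 := Finset.card_le_two
    omega)
  simp only [Finset.mem_insert, Finset.mem_singleton, not_or] at haF hbF
  have hwa : w ≠ a := fun e => haF e.symm
  have hwb : w ≠ b := fun e => hbF.1 e.symm
  have hab : a ≠ b := fun e => hbF.2 e.symm
  have hmem : tc w a b hwa hwb hab ∈ Fx S := tc_mem_Fx hwa hwb hab hwS ha hb
  have h2 := hle hmem w hw
  rw [tc_a] at h2
  exact hwa h2.symm

theorem Fx_injective {S S' : Set (Fin n)} (h : 3 ≤ (Sᶜ).ncard) (h' : 3 ≤ (S'ᶜ).ncard) (he : Fx S = Fx S') : S = S' :=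
  Set.Subset.antisymm (Fx_le_imp h' he.ge) (Fx_le_imp h he.le)

theorem normalizer_Fx {S : Set (Fin n)} (h : 3 ≤ (Sᶜ).ncard) (g : alternatingGroup (Fin n)) :
    g ∈ Subgroup.normalizer (Fx S : Set (alternatingGroup (Fin n))) ↔ (g : Perm (Fin n)) '' S = S := by
  have hcard : 3 ≤ (((g : Perm (Fin n)) '' S)ᶜ).ncard := by
    rw [← Set.image_compl_eq (g : Perm (Fin n)).bijective,
      Set.ncard_image_of_injective _ (g : Perm (Fin n)).injective]
    exact h
  have key : g ∈ Subgroup.normalizer (Fx S : Set (alternatingGroup (Fin n))) ↔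
      (Fx S).map (MulAut.conj g).toMonoidHom = Fx S := by
    rw [Subgroup.mem_set_normalizer_iff]
    constructor
    · intro hg
      ext x
      rw [Subgroup.mem_map]
      constructor
      · rintro ⟨a, ha, rfl⟩
        exact (hg a).1 ha
      · intro hx
        refine ⟨g⁻¹ * x * g, ?_, ?_⟩
        · apply (hg _).2
          have : g * (g⁻¹ * x * g) * g⁻¹ = x := by group
          rw [this]; exact hx
        · show g * (g⁻¹ * x * g) * g⁻¹ = x
          group
    · intro he a
      constructor
      · intro ha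
        have : g * a * g⁻¹ ∈ (Fx S).map (MulAut.conj g).toMonoidHom :=
          Subgroup.mem_map.2 ⟨a, ha, rfl⟩
        rw [he] at this
        exact this
      · intro ha
        have ha' : g * a * g⁻¹ ∈ Fx S := ha
        rw [← he, Subgroup.mem_map] at ha'
        obtain ⟨b, hb, hb'⟩ := ha'
        have hb'' : g * b * g⁻¹ = g * a * g⁻¹ := hb'
        have : b = a := by
          have := mul_right_cancel hb''
          exact mul_left_cancel this
        rw [← this]; exact hb
  rw [key, H28StdConj.conj_Fx]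
  constructor
  · intro he
    exact Fx_injective hcard h he
  · intro he
    rw [he]

end Cfsg.Agent.Lib.H28StdLe
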