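import Cfsg.Agent.Lib.H28StdDefs

/-! PROJECT 1323 (S1323), piece `Odd`.
(45 min) even permutations supported on at most 3 points form a group of odd order.
By contradiction: even order, Cauchy (`exists_prime_orderOf_dvd_card'`) gives g ∈ Fx T of order 2; σ := (g : Perm (Fin n)) has order 2 (`Subgroup.orderOf_coe` twice), σ.support ⊆ Tᶜ so σ.support.card ≤ 3.
`Equiv.Perm.cycleType_prime_order` : σ.cycleType = replicate (k+1) 2; `sum_cycleType` : support.card = 2 (k+1) ≤ 3, so k = 0, cycleType = {2};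
`sign_of_cycleType` (or `card_support_eq_two` + `IsSwap.sign_eq`) gives sign σ = -1, contradicting `mem_alternatingGroup`. -/

set_option autoImplicit false

namespace Cfsg.Agent.Lib.H28StdOdd

open Equiv Equiv.Perm Cfsg.Agent.Lib.H28StdDefs

variable {n : ℕ}

theorem odd_small {T : Set (Fin n)} (h : (Tᶜ).ncard ≤ 3) : Odd (Nat.card (Fx T)) := by
  by_contra hodd
  rw [Nat.not_odd_iff_even] at hodd
  have : Fact (Nat.Prime 2) := ⟨Nat.prime_two⟩
  obtain ⟨g, hg⟩ := exists_prime_orderOf_dvd_card' 2 hodd.two_dvd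
  obtain ⟨σ, hσ⟩ : ∃ σ : Perm (Fin n), σ = ((g : alternatingGroup (Fin n)) : Perm (Fin n)) := ⟨_, rfl⟩
  have hσo : orderOf σ = 2 := by rw [hσ, Subgroup.orderOf_coe, Subgroup.orderOf_coe, hg]
  have hsupp : σ.support.card ≤ 3 := by
    have h1 : (σ.support : Set (Fin n)) ⊆ Tᶜ := by
      intro x hx hxT
      rw [Finset.mem_coe, Perm.mem_support] at hx
      apply hx
      rw [hσ]
      exact g.2 x hxT
    have h2 := Set.ncard_le_ncard h1 (Set.toFinite _)
    rw [Set.ncard_coe_finset] at h2
    omega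
  obtain ⟨k, hk⟩ := Equiv.Perm.cycleType_prime_order (σ := σ) (hσo ▸ Nat.prime_two)
  rw [hσo] at hk
  have hsum := σ.sum_cycleType
  rw [hk, Multiset.sum_replicate] at hsum
  simp only [smul_eq_mul] at hsum
  have hk0 : k = 0 := by omega
  subst hk0
  have hsign := Equiv.Perm.sign_of_cycleType σ
  rw [hk] at hsign
  have halt : sign σ = 1 := by
    rw [hσ]; exact (g : alternatingGroup (Fin n)).2
  rw [halt] at hsign
  simp at hsign
  exact absurd hsign (by decide)

end Cfsg.Agent.Lib.H28StdOdd
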