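import Cfsg.Agent.Lib.H28StdAlt
import Cfsg.Agent.Lib.Helper28Comp
import Cfsg.Prelude.Def_CaseTheorems

/-! PROJECT 1323 (S1323), piece `QS`.
A simple non-abelian group is quasisimple; `Fx Δ` is quasisimple when `Δᶜ` has at least 5 points. -/

set_option autoImplicit false

namespace Cfsg.Agent.Lib.H28StdQS

open Equiv Equiv.Perm Cfsg.Agent.Lib.H28StdDefs
open scoped commutatorElement

variable {n : ℕ}

theorem qs_of_simple {H : Type*} [Group H] [IsSimpleGroup H] (hna : ∃ a b : H, a * b ≠ b * a) : Cfsg.IsQuasisimple H := by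
  rw [Cfsg.Agent.Lib.Helper28Comp.isQuasisimple_iff]
  obtain ⟨a, b, hab⟩ := hna
  refine ⟨?_, inferInstance, ?_⟩
  · rw [Group.isPerfect_def]
    rcases (inferInstance : (commutator H).Normal).eq_bot_or_eq_top with h | h
    · exfalso
      apply hab
      have hm : (⁅a, b⁆ : H) ∈ commutator H :=
        Subgroup.commutator_mem_commutator (Subgroup.mem_top a) (Subgroup.mem_top b)
      rw [h, Subgroup.mem_bot, commutatorElement_eq_one_iff_mul_comm] at hm
      exact hm
    · exact h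
  · intro N hN
    rcases hN.eq_bot_or_eq_top with h | h
    · right; rw [h]; exact bot_le
    · left; exact h

theorem quasisimple {Δ : Set (Fin n)} (h : 5 ≤ (Δᶜ).ncard) : Cfsg.IsQuasisimple (Fx Δ) := by
  classical
  obtain ⟨e⟩ := H28StdAlt.equivAlt Δ
  have hcard : 5 ≤ Nat.card {x : Fin n // x ∉ Δ} := by
    have : Nat.card {x : Fin n // x ∉ Δ} = (Δᶜ).ncard := Nat.card_coe_set_eq Δᶜ
    omega
  have : IsSimpleGroup (alternatingGroup {x : Fin n // x ∉ Δ}) := alternatingGroup.isSimpleGroup hcard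
  have : IsSimpleGroup (Fx Δ) := e.isSimpleGroup
  apply qs_of_simple
  obtain ⟨x, hx, -⟩ := exists_avoid Δᶜ ∅ (by rw [Finset.card_empty]; omega)
  obtain ⟨y, hy, hyF⟩ := exists_avoid Δᶜ {x} (by
    have : ({x} : Finset (Fin n)).card = 1 := Finset.card_singleton x
    omega)
  obtain ⟨z, hz, hzF⟩ := exists_avoid Δᶜ {x, y} (by
    have : ({x, y} : Finset (Fin n)).card ≤ 2 := Finset.card_le_two
    omega)
  obtain ⟨w, hw, hwF⟩ := exists_avoid Δᶜ {x, y, z} (by
    have : ({x, y, z} : Finset (Fin n)).card ≤ 3 := Finset.card_le_three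
    omega)
  simp only [Finset.mem_insert, Finset.mem_singleton, not_or] at hyF hzF hwF
  have hxy : x ≠ y := fun e => hyF e.symm
  have hxz : x ≠ z := fun e => hzF.1 e.symm
  have hyz : y ≠ z := fun e => hzF.2 e.symm
  have hxw : x ≠ w := fun e => hwF.1 e.symm
  have hyw : y ≠ w := fun e => hwF.2.1 e.symm
  have hzw : z ≠ w := fun e => hwF.2.2 e.symm
  refine ⟨⟨tc x y z hxy hxz hyz, tc_mem_Fx hxy hxz hyz hx hy hz⟩,
    ⟨tc x y w hxy hxw hyw, tc_mem_Fx hxy hxw hyw hx hy hw⟩, ?_⟩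
  intro hcomm
  have h0 : tc x y z hxy hxz hyz * tc x y w hxy hxw hyw = tc x y w hxy hxw hyw * tc x y z hxy hxz hyz :=
    congrArg Subtype.val hcomm
  have h1 : ((tc x y z hxy hxz hyz * tc x y w hxy hxw hyw : alternatingGroup (Fin n)) : Perm (Fin n)) x
      = ((tc x y w hxy hxw hyw * tc x y z hxy hxz hyz : alternatingGroup (Fin n)) : Perm (Fin n)) x := by
    rw [h0]
  have h2 : (tc x y z hxy hxz hyz : Perm (Fin n)) ((tc x y w hxy hxw hyw : Perm (Fin n)) x)
      = (tc x y w hxy hxw hyw : Perm (Fin n)) ((tc x y z hxy hxz hyz : Perm (Fin n)) x) := h1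
  rw [tc_a, tc_a, tc_b, tc_b] at h2
  exact hzw h2

end Cfsg.Agent.Lib.H28StdQS
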