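import Cfsg.Agent.Lib.H28StdLe
import Cfsg.Agent.Lib.H28StdOdd
import Cfsg.Agent.Lib.H28StdEven
import Cfsg.Prelude.Def_Local

/-! PROJECT 1323 (S1323), piece `Tight`.
`Fx Δᶜ` is tightly embedded when `Δ` has 4 points. -/

set_option autoImplicit false

namespace Cfsg.Agent.Lib.H28StdTight

open Equiv Equiv.Perm Cfsg.Agent.Lib.H28StdDefs

variable {n : ℕ}

theorem tight {Δ : Set (Fin n)} (h : Δ.ncard = 4) : Cfsg.IsTightlyEmbedded (Fx Δᶜ) := by
  constructor
  · obtain ⟨a, ha, -⟩ := exists_avoid Δ ∅ (by rw [Finset.card_empty]; omega)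
    obtain ⟨b, hb, hbF⟩ := exists_avoid Δ {a} (by
      have : ({a} : Finset (Fin n)).card = 1 := Finset.card_singleton a
      omega)
    obtain ⟨c, hc, hcF⟩ := exists_avoid Δ {a, b} (by
      have : ({a, b} : Finset (Fin n)).card ≤ 2 := Finset.card_le_two
      omega)
    obtain ⟨d, hd, hdF⟩ := exists_avoid Δ {a, b, c} (by
      have : ({a, b, c} : Finset (Fin n)).card ≤ 3 := Finset.card_le_three
      omega)
    simp only [Finset.mem_insert, Finset.mem_singleton, not_or] at hbF hcF hdF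
    exact H28StdEven.even_Fx (S := Δᶜ) (a := a) (b := b) (c := c) (d := d)
      (fun e => hbF e.symm) (fun e => hcF.1 e.symm) (fun e => hdF.1 e.symm)
      (fun e => hcF.2 e.symm) (fun e => hdF.2.1 e.symm) (fun e => hdF.2.2 e.symm)
      (fun e => e ha) (fun e => e hb) (fun e => e hc) (fun e => e hd)
  · intro g hg
    rw [H28StdLe.normalizer_Fx (by rw [compl_compl]; omega)] at hg
    rw [H28StdConj.conj_Fx, Fx_inf]
    apply H28StdOdd.odd_small
    have hsub : (Δᶜ ∪ (g : Perm (Fin n)) '' Δᶜ)ᶜ ⊆ Δ := by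
      intro x hx
      by_contra hxΔ
      exact hx (Or.inl hxΔ)
    have hne : (Δᶜ ∪ (g : Perm (Fin n)) '' Δᶜ)ᶜ ≠ Δ := by
      intro he
      apply hg
      have hsub2 : (g : Perm (Fin n)) '' Δᶜ ⊆ Δᶜ := by
        intro x hx hxΔ
        rw [← he] at hxΔ
        exact hxΔ (Or.inr hx)
      exact Set.eq_of_subset_of_ncard_le hsub2
        (by rw [Set.ncard_image_of_injective _ (g : Perm (Fin n)).injective]) (Set.toFinite _)
    have hlt := Set.ncard_lt_ncard (Set.ssubset_iff_subset_ne.2 ⟨hsub, hne⟩) (Set.toFinite _)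
    omega

end Cfsg.Agent.Lib.H28StdTight
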