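import Cfsg.Agent.Lib.H29ThHomo
import Cfsg.Agent.Lib.Helper66PLen

set_option autoImplicit false
open Cfsg

/-! Project 3797 (conclusion part): from 2-length one to the structure of a Sylow 2-subgroup. -/

namespace Cfsg.Agent.Lib.H29ThConcl

variable {G : Type*} [Group G]

/-- `K` normal of odd order, `K S` normal, all involutions conjugate: `N_G(S)` is transitive on the
involutions of `S` (Frattini). -/
theorem normalizer_trans [Finite G] (S : Sylow 2 G) (K : Subgroup G) [K.Normal]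
    (hK : Odd (Nat.card K)) (hKS : (K ⊔ (S : Subgroup G)).Normal)
    (hconj : ∀ x y : G, x ≠ 1 → x ^ 2 = 1 → y ≠ 1 → y ^ 2 = 1 → IsConj x y) :
    ∀ x ∈ (S : Subgroup G), ∀ y ∈ (S : Subgroup G), x ≠ 1 → x ^ 2 = 1 → y ≠ 1 → y ^ 2 = 1 →
      ∃ n ∈ Subgroup.normalizer ((S : Subgroup G) : Set G), n * x * n⁻¹ = y := by
  classical
  haveI : Fact (Nat.Prime 2) := ⟨Nat.prime_two⟩
  intro x hx y hy hx1 hx2 hy1 hy2
  obtain ⟨g, hg⟩ := isConj_iff.1 (hconj x y hx1 hx2 hy1 hy2)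
  have hF : Subgroup.normalizer ((S : Subgroup G) : Set G) ⊔ (K ⊔ (S : Subgroup G)) = ⊤ :=
    Sylow.normalizer_sup_eq_top' S le_sup_right
  have hF2 : Subgroup.normalizer ((S : Subgroup G) : Set G) ⊔ K = ⊤ := by
    rw [← hF, sup_comm K, ← sup_assoc, sup_eq_left.2 (Subgroup.le_normalizer)]
  have hgm : g ∈ Subgroup.normalizer ((S : Subgroup G) : Set G) ⊔ K := hF2 ▸ Subgroup.mem_top g
  rw [← SetLike.mem_coe, Subgroup.mul_normal] at hgm
  obtain ⟨n, hn, k, hk, rfl⟩ := Set.mem_mul.1 hgm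
  refine ⟨n, hn, ?_⟩
  have hn' : n⁻¹ ∈ Subgroup.normalizer ((S : Subgroup G) : Set G) := Subgroup.inv_mem _ hn
  have h1 : k * x * k⁻¹ ∈ (S : Subgroup G) := by
    have h2 : n⁻¹ * y * n⁻¹⁻¹ ∈ (S : Subgroup G) := (Subgroup.mem_normalizer_iff.1 hn' y).1 hy
    have h3 : n⁻¹ * y * n⁻¹⁻¹ = k * x * k⁻¹ := by
      rw [← hg]; group
    rwa [h3] at h2
  have h4 : x⁻¹ * (k * x * k⁻¹) ∈ K ⊓ (S : Subgroup G) := by
    refine ⟨?_, (S : Subgroup G).mul_mem ((S : Subgroup G).inv_mem hx) h1⟩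
    have h5 : x⁻¹ * k * x⁻¹⁻¹ ∈ K := ‹K.Normal›.conj_mem k hk x⁻¹
    have h6 : x⁻¹ * (k * x * k⁻¹) = (x⁻¹ * k * x⁻¹⁻¹) * k⁻¹ := by group
    rw [h6]
    exact K.mul_mem h5 (K.inv_mem hk)
  have hdisj : K ⊓ (S : Subgroup G) = ⊥ := by
    apply disjoint_iff.1
    apply Subgroup.disjoint_of_coprime_natCard
    obtain ⟨m, hm⟩ := (IsPGroup.iff_card.1 S.2)
    rw [hm]
    exact Nat.Coprime.pow_right _ (Nat.coprime_two_right.2 hK)
  rw [hdisj, Subgroup.mem_bot] at h4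
  have h7 : k * x * k⁻¹ = x := by
    have := congrArg (fun z => x * z) h4
    simpa using this
  rw [← hg]
  calc n * x * n⁻¹ = n * (k * x * k⁻¹) * n⁻¹ := by rw [h7]
    _ = n * k * x * (n * k)⁻¹ := by group

/-- The conclusion of S3797 about `S`, from the 2-length one data `K`, `K S`. -/
theorem concl [Finite G] (hG : Group.IsSolvable G) (S : Sylow 2 G) (K : Subgroup G) [K.Normal]
    (hK : Odd (Nat.card K)) (hKS : (K ⊔ (S : Subgroup G)).Normal)
    (hconj : ∀ x y : G, x ≠ 1 → x ^ 2 = 1 → y ≠ 1 → y ^ 2 = 1 → IsConj x y) :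
    (∃ m r : ℕ, Nonempty (↥(S : Subgroup G) ≃* (Fin r → Multiplicative (ZMod (2 ^ m))))) ∨
      (¬ IsMulCommutative (S : Subgroup G) ∧ ∃ Y : Subgroup (MulAut ↥(S : Subgroup G)),
        Group.IsSolvable Y ∧ ∀ x y : ↥(S : Subgroup G), x ≠ 1 → x ^ 2 = 1 → y ≠ 1 → y ^ 2 = 1 →
          ∃ a ∈ Y, a x = y) := by
  classical
  have htr := normalizer_trans S K hK hKS hconj
  have hY : ∀ x y : ↥(S : Subgroup G), x ≠ 1 → x ^ 2 = 1 → y ≠ 1 → y ^ 2 = 1 →
      ∃ a ∈ (S : Subgroup G).normalizerMonoidHom.range, a x = y := by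
    intro x y hx1 hx2 hy1 hy2
    obtain ⟨n, hn, hnx⟩ := htr x.1 x.2 y.1 y.2 (fun h => hx1 (Subtype.ext h))
      (by have := congrArg Subtype.val hx2; simpa using this) (fun h => hy1 (Subtype.ext h))
      (by have := congrArg Subtype.val hy2; simpa using this)
    refine ⟨(S : Subgroup G).normalizerMonoidHom ⟨n, hn⟩, ⟨_, rfl⟩, ?_⟩
    apply Subtype.ext
    exact hnx
  by_cases hc : IsMulCommutative (S : Subgroup G)
  · left
    apply H29ThHomo.homocyclic (fun a b => hc.is_comm.comm a b) S.2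
    intro x y hx1 hx2 hy1 hy2
    obtain ⟨a, -, ha⟩ := hY x y hx1 hx2 hy1 hy2
    exact ⟨a, ha⟩
  · right
    refine ⟨hc, (S : Subgroup G).normalizerMonoidHom.range, ?_, hY⟩
    haveI := hG
    exact Group.isSolvable_of_surjective (MonoidHom.rangeRestrict_surjective _)

/-- a normal subgroup of odd index contains every Sylow 2-subgroup. -/
theorem sylow_le_of_coprime_index [Finite G] (S : Sylow 2 G) (D : Subgroup G) [D.Normal]
    (hD : (D.index).Coprime 2) : (S : Subgroup G) ≤ D := by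
  intro x hx
  obtain ⟨k, hk⟩ := (S.2 ⟨x, hx⟩)
  have hk' : x ^ 2 ^ k = 1 := by
    have := congrArg Subtype.val hk
    simpa using this
  rw [← QuotientGroup.eq_one_iff]
  have h1 : ((x : G) : G ⧸ D) ^ 2 ^ k = 1 := by
    rw [← QuotientGroup.mk_pow, hk', QuotientGroup.mk_one]
  have h2 : orderOf ((x : G) : G ⧸ D) ∣ 2 ^ k := orderOf_dvd_of_pow_eq_one h1
  have h3 : orderOf ((x : G) : G ⧸ D) ∣ D.index := by
    rw [Subgroup.index_eq_card]
    exact orderOf_dvd_natCard _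
  have h4 : orderOf ((x : G) : G ⧸ D) = 1 :=
    Nat.eq_one_of_dvd_coprimes (Nat.Coprime.pow_right k hD) h3 h2
  exact orderOf_eq_one_iff.1 h4

/-- The 2-length one data from `PLengthLE 2 1 G`. -/
theorem exists_data [Finite G] (S : Sylow 2 G) (h : PLengthLE 2 1 G) :
    ∃ K : Subgroup G, K.Normal ∧ Odd (Nat.card K) ∧ (K ⊔ (S : Subgroup G)).Normal := by
  classical
  haveI : Fact (Nat.Prime 2) := ⟨Nat.prime_two⟩
  obtain ⟨C, D, h1, h2, h3⟩ := Helper66PLen.len_of_pLengthLE h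
  obtain ⟨-, hCn, -, hCc⟩ := h1
  obtain ⟨-, hDn, hCD, m, hm⟩ := h2
  obtain ⟨-, -, -, hDc⟩ := h3
  rw [Subgroup.relIndex_bot_left] at hCc
  rw [Subgroup.relIndex_top_right] at hDc
  have hCodd : Odd (Nat.card C) := Nat.coprime_two_right.1 hCc
  refine ⟨C, hCn, hCodd, ?_⟩
  have hSD : (S : Subgroup G) ≤ D := sylow_le_of_coprime_index S D hDc
  have hle : C ⊔ (S : Subgroup G) ≤ D := sup_le hCD hSD
  have hcardD : Nat.card D = Nat.card C * 2 ^ m := by
    have h6 := Subgroup.relIndex_mul_relIndex ⊥ C D bot_le hCD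
    rw [Subgroup.relIndex_bot_left, Subgroup.relIndex_bot_left, hm] at h6
    exact h6.symm
  have h2m : 2 ^ m ∣ Nat.card (S : Subgroup G) := by
    rw [Sylow.card_eq_multiplicity]
    apply pow_dvd_pow
    have h5 : 2 ^ m ∣ Nat.card G :=
      (Dvd.intro_left _ hcardD.symm).trans (Subgroup.card_subgroup_dvd_card D)
    exact (Nat.Prime.pow_dvd_iff_le_factorization Nat.prime_two Nat.card_pos.ne').1 h5
  have hcop : (Nat.card C).Coprime (Nat.card (S : Subgroup G)) := by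
    obtain ⟨j, hj⟩ := (IsPGroup.iff_card.1 S.2)
    rw [hj]
    exact Nat.Coprime.pow_right _ hCc
  have hdvd : Nat.card C * Nat.card (S : Subgroup G) ∣ Nat.card (C ⊔ (S : Subgroup G) : Subgroup G) :=
    Nat.Coprime.mul_dvd_of_dvd_of_dvd hcop (Subgroup.card_dvd_of_le le_sup_left)
      (Subgroup.card_dvd_of_le le_sup_right)
  have hge : Nat.card D ≤ Nat.card (C ⊔ (S : Subgroup G) : Subgroup G) := by
    apply Nat.le_of_dvd Nat.card_pos
    rw [hcardD]
    exact (Nat.mul_dvd_mul_left _ h2m).trans hdvd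
  have heq : C ⊔ (S : Subgroup G) = D := Subgroup.eq_of_le_of_card_ge hle hge
  rw [heq]
  exact hDn

/-- The conclusion of S3797 about `S`, from `PLengthLE 2 1 G`. -/
theorem concl' [Finite G] (hG : Group.IsSolvable G) (S : Sylow 2 G) (h : PLengthLE 2 1 G)
    (hconj : ∀ x y : G, x ≠ 1 → x ^ 2 = 1 → y ≠ 1 → y ^ 2 = 1 → IsConj x y) :
    (∃ m r : ℕ, Nonempty (↥(S : Subgroup G) ≃* (Fin r → Multiplicative (ZMod (2 ^ m))))) ∨
      (¬ IsMulCommutative (S : Subgroup G) ∧ ∃ Y : Subgroup (MulAut ↥(S : Subgroup G)),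
        Group.IsSolvable Y ∧ ∀ x y : ↥(S : Subgroup G), x ≠ 1 → x ^ 2 = 1 → y ≠ 1 → y ^ 2 = 1 →
          ∃ a ∈ Y, a x = y) := by
  obtain ⟨K, hKn, hK, hKS⟩ := exists_data S h
  exact concl hG S K hK hKS hconj

end Cfsg.Agent.Lib.H29ThConcl
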