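import Mathlib
import Cfsg.Agent.Lib.Helper52BG14
import Cfsg.Agent.Lib.Helper52BG14b
import Cfsg.Agent.Lib.Helper30BG1412Defs
import Cfsg.Agent.Lib.Helper27BG16basic
import Cfsg.Agent.Lib.Helper21BGExcbasic
import Cfsg.Agent.Lib.Helper37BGPart
import Cfsg.Agent.S1369

/-!
Project 1412 (B-G Lemma 14.12), piece `basic`.
-/

set_option autoImplicit false

namespace Cfsg.Agent.Lib.H30BG1412basic

open Cfsg Subgroup
open Cfsg.Agent.Lib.Helper30Trans Cfsg.Agent.Lib.Helper24BG Cfsg.Agent.Lib.Helper52BG14Defs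
open Cfsg.Agent.Lib.Helper30BG1412Defs

variable {G : Type*} [Group G] [Finite G]

omit [Finite G] in
theorem pt_of {M K U Ms : Subgroup G} (h : P2 M K U Ms) : PT M K := ⟨h.hM, h.hKU.hall, h.hK1⟩

theorem card_K (hG : IsMinSimpleOddOrder G) {M K U Ms : Subgroup G} (h : P2 M K U Ms) :
    (Nat.card K).Prime := by
  apply Cfsg.Agent.Lib.Helper52BG14b.card_prime_of_not_noU hG (pt_of h)
  intro hno
  have hU : Nat.card U ≠ 1 := by
    intro h1
    exact h.hU1 (Subgroup.card_eq_one.mp h1)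
  obtain ⟨r, hr, hrd⟩ := Nat.exists_prime_and_dvd hU
  have h2 := Cfsg.Agent.Lib.Helper27BG16basic.U_primes hG h.hM h.hKU r hr hrd
  have hrM : r ∣ Nat.card M := hrd.trans (Subgroup.card_dvd_of_le h.hKU.compl.1)
  exact h2.1 (hno r hr hrM h2.2)

theorem norm_K_le (hG : IsMinSimpleOddOrder G) {M K U Ms : Subgroup G} (h : P2 M K U Ms) :
    normalizer (K : Set G) ≤ Ms :=
  (Cfsg.Agent.Lib.Helper52BG14b.partner_iff hG (pt_of h) h.hMs).mp ⟨h.hKst, h.hKstH⟩ K le_rfl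
    (card_K hG h)

theorem mem_sigma_Ms (hG : IsMinSimpleOddOrder G) {M K U Ms : Subgroup G} (h : P2 M K U Ms) :
    Nat.card K ∈ sigma Ms := by
  have h1 : K ≤ sigmaCore Ms := h.hKst.le.trans inf_le_left
  exact Cfsg.Agent.Lib.Helper30BG2.card_sigmaCore hG h.hMs _ (card_K hG h)
    (Subgroup.card_dvd_of_le h1)

/-- `M*` is the only maximal subgroup `L ≥ K` with `|K| ∈ σ(L)` -/
theorem eq_Ms (hG : IsMinSimpleOddOrder G) {M K U Ms : Subgroup G} (h : P2 M K U Ms)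
    {L : Subgroup G} (hL : IsCoatom L) (hKL : K ≤ L) (hp : Nat.card K ∈ sigma L) : L = Ms := by
  obtain ⟨g, rfl⟩ := Cfsg.Agent.Lib.Helper37BGPart.sigma_conj hG h.hMs hL (mem_sigma_Ms hG h) hp
  obtain ⟨hPT, hKs, -, -, -⟩ := Cfsg.Agent.Lib.Helper52BG14b.pair_main hG (pt_of h) le_rfl
    (card_K hG h) h.hMs (norm_K_le hG h)
  have h1 : cj g⁻¹ K ≤ Ms := by
    rw [cj_le_iff, inv_inv]; exact hKL
  have h2 : g⁻¹ ∈ Ms := Cfsg.Agent.Lib.Helper52BG14b.mem_of_cj_le hG hPT hKs.ge h.hK1 h1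
  have h3 : g ∈ Ms := by simpa using Ms.inv_mem h2
  exact cj_eq_self_of_mem_normalizer (le_normalizer h3)

theorem not_le_Ms (hG : IsMinSimpleOddOrder G) {M K U Ms : Subgroup G} (h : P2 M K U Ms)
    {X : Subgroup G} (hXU : X ≤ U) (hX1 : X ≠ ⊥) : ¬ X ≤ Ms := by
  intro hXMs
  obtain ⟨-, -, hinf, -, -⟩ := Cfsg.Agent.Lib.Helper52BG14b.pair_main hG (pt_of h) le_rfl
    (card_K hG h) h.hMs (norm_K_le hG h)
  have h1 : X ≤ K ⊔ Ks M K := hinf ▸ le_inf (hXU.trans h.hKU.compl.1) hXMs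
  have h2 : Nat.card X ∣ Nat.card K * Nat.card (Ks M K) := by
    rw [← (Cfsg.Agent.Lib.Helper52BG14b.card_sup_Ks hG (pt_of h)).1]
    exact Subgroup.card_dvd_of_le h1
  have h3 : Nat.card X ∣ Nat.card U := Subgroup.card_dvd_of_le hXU
  have c1 : (Nat.card U).Coprime (Nat.card K) :=
    (Cfsg.Agent.Lib.Helper27BG16basic.coprime_K_U hG h.hM h.hKU).symm
  have c2 : (Nat.card U).Coprime (Nat.card (Ks M K)) :=
    Nat.Coprime.coprime_dvd_right (Subgroup.card_dvd_of_le inf_le_left)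
      (Cfsg.Agent.Lib.Helper27BG16basic.coprime_U_Ms hG h.hM h.hKU)
  have c3 : (Nat.card U).Coprime (Nat.card K * Nat.card (Ks M K)) := Nat.Coprime.mul_right c1 c2
  have h4 : Nat.card X = 1 := Nat.eq_one_of_dvd_coprimes c3 h3 h2
  exact hX1 (Subgroup.card_eq_one.mp h4)

theorem two_classes (hG : IsMinSimpleOddOrder G) {M K U Ms : Subgroup G} (h : P2 M K U Ms)
    {L : Subgroup G} (hL : IsCoatom L) (hk : (kappa L).Nonempty) :
    (∃ g : G, L = cj g M) ∨ Nat.card K ∈ sigma L := by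
  obtain ⟨g, hg | hg⟩ := (Cfsg.Agent.S1369.result hG M h.hM K U h.hKU h.hK1 Ms h.hMs h.hKst
    h.hKstH).2 L hL hk
  · exact Or.inl ⟨g, hg⟩
  · right
    have : L = cj g Ms := hg
    rw [this, Cfsg.Agent.Lib.Helper21BGExcbasic.sigma_cj]
    exact mem_sigma_Ms hG h

end Cfsg.Agent.Lib.H30BG1412basic
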