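import Mathlib
import Cfsg.Agent.Lib.Helper52BG14
import Cfsg.Agent.Lib.Helper52BG14Defs
import Cfsg.Agent.Lib.Helper30BG1412Defs
import Cfsg.Agent.Lib.H30BG1412basic

/-!
PROJECT 1412 (B-G 14.12 = S1435), piece `caseT2`.  Proof sketch: notes/helper30/BG1412.md.
-/

set_option autoImplicit false

namespace Cfsg.Agent.Lib.H30BG1412caseT2

open Cfsg Subgroup
open Cfsg.Agent.Lib.Helper30Trans Cfsg.Agent.Lib.Helper24BG Cfsg.Agent.Lib.Helper52BG14Defs
open Cfsg.Agent.Lib.Helper30BG1412Defs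
open Cfsg.Agent.Lib.H30BG1412basic

variable {G : Type*} [Group G] [Finite G]

theorem case_tau2 (hG : IsMinSimpleOddOrder G) {M K U Ms : Subgroup G} (h : P2 M K U Ms)
    {H F : Subgroup G} (hH : IsCoatom H) (hF : IsComplIn F (sigmaCore H) H) (hKF : K ≤ F)
    (hp : Nat.card K ∈ tau2 H) : F ≤ Ms ∧ K ≤ fittingOf F ∧ sigmaCore H ⊓ Ms = ⊥ := by
  have hpp : (Nat.card K).Prime := card_K hG h
  have : Fact (Nat.card K).Prime := ⟨hpp⟩
  obtain ⟨A, hAF, hAe, hA2⟩ :=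
    Cfsg.Agent.Lib.Helper90BG14normtau2.exists_sq_compl hG hH hF hp
  obtain ⟨⟨hFA, hsub⟩, -, -⟩ := Cfsg.Agent.S1418.result hG H hH F hF (Nat.card K) hp A ⟨hAF, hAe, hA2⟩
  have hKA : K ≤ A := hsub K hKF rfl
  have hAp : IsPGroup (Nat.card K) A := IsPGroup.of_card hA2
  have hAK : A ≤ centralizer (K : Set G) := by
    have hc := hAe.1
    intro a ha
    rw [mem_centralizer_iff]
    intro k hk
    have := hc.is_comm.comm ⟨k, hKA hk⟩ ⟨a, ha⟩
    exact congrArg Subtype.val this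
  have hAMs : A ≤ Ms := hAK.trans ((centralizer_le_normalizer _).trans (norm_K_le hG h))
  have hnc : ¬ IsCyclic A := Cfsg.Agent.Lib.Helper37BG.not_cyclic_of_sq hAe hA2
  have hNA : normalizer (A : Set G) ≤ Ms :=
    Cfsg.Agent.Lib.Helper30BG.norm_le_of_noncyclic hG h.hMs (mem_sigma_Ms hG h) hAp hAMs hnc
  refine ⟨hFA.trans hNA, ?_, ?_⟩
  · exact hKA.trans (Cfsg.Agent.Lib.Helper30Bender.le_fittingOf hAF hFA hAp.isNilpotent)
  · have hne : Ms ≠ H := by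
      rintro rfl
      exact hp.2.1 (mem_sigma_Ms hG h)
    exact (Cfsg.Agent.S1417.result hG H hH (Nat.card K) hp A
      ⟨hAF.trans hF.1, hAe, hA2⟩).2.2.2.2.1 Ms h.hMs hne hAMs

end Cfsg.Agent.Lib.H30BG1412caseT2
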