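import Mathlib
import Cfsg.Agent.Lib.Helper52BG14
import Cfsg.Agent.Lib.Helper52BG14Defs
import Cfsg.Agent.Lib.Helper30BG1412Defs
import Cfsg.Agent.Lib.H30BG1412basic

/-!
PROJECT 1412 (B-G 14.12 = S1435), piece `regMs`.  Proof sketch: notes/helper30/BG1412.md.
-/

set_option autoImplicit false

namespace Cfsg.Agent.Lib.H30BG1412regMs

open Cfsg Subgroup
open Cfsg.Agent.Lib.Helper30Trans Cfsg.Agent.Lib.Helper24BG Cfsg.Agent.Lib.Helper52BG14Defs
open Cfsg.Agent.Lib.Helper30BG1412Defs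
open Cfsg.Agent.Lib.H30BG1412basic

variable {G : Type*} [Group G] [Finite G]

theorem inf_Ms_of_reg (hG : IsMinSimpleOddOrder G) {M K U Ms : Subgroup G} (h : P2 M K U Ms)
    {H : Subgroup G} (hH : IsCoatom H) (hKH : K ≤ H) (hp : Nat.card K ∉ sigma H)
    (hreg : sigmaCore H ⊓ centralizer (K : Set G) = ⊥) : sigmaCore H ⊓ Ms = ⊥ := by
  have hKs : K ≤ sigmaCore Ms := by
    have := h.hKst
    exact this.le.trans inf_le_left
  -- `H_σ ∩ Ms_σ = 1`
  have hcop : (Nat.card (sigmaCore H)).Coprime (Nat.card (sigmaCore Ms)) := by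
    apply Nat.coprime_of_dvd
    intro q hq h1 h2
    have hq1 := Cfsg.Agent.Lib.Helper30BG2.card_sigmaCore hG hH q hq h1
    have hq2 := Cfsg.Agent.Lib.Helper30BG2.card_sigmaCore hG h.hMs q hq h2
    obtain ⟨g, hg⟩ := Cfsg.Agent.Lib.Helper37BGPart.sigma_conj hG h.hMs hH hq2 hq1
    apply hp
    rw [hg, Cfsg.Agent.Lib.Helper21BGExcbasic.sigma_cj]
    exact mem_sigma_Ms hG h
  have hinf : sigmaCore H ⊓ sigmaCore Ms = ⊥ := (disjoint_of_coprime_natCard hcop).eq_bot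
  rw [eq_bot_iff, ← hreg]
  refine le_inf inf_le_left ?_
  rw [le_centralizer_iff, ← commutator_eq_bot_iff_le_centralizer, eq_bot_iff, ← hinf]
  refine le_inf ?_ ?_
  · -- `[K, D] ≤ H_σ`
    have hn : K ≤ normalizer (sigmaCore H : Set G) :=
      hKH.trans (Cfsg.Agent.Lib.Helper30BG2.le_normalizer_sigmaCore H)
    rw [commutator_le]
    intro k hk d hd
    have h1 : k * d * k⁻¹ ∈ sigmaCore H := (mem_normalizer_iff.mp (hn hk) d).mp hd.1
    exact (sigmaCore H).mul_mem h1 ((sigmaCore H).inv_mem hd.1)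
  · have hn : Ms ≤ normalizer (sigmaCore Ms : Set G) :=
      Cfsg.Agent.Lib.Helper30BG2.le_normalizer_sigmaCore Ms
    rw [commutator_le]
    intro k hk d hd
    have h1 : d * k⁻¹ * d⁻¹ ∈ sigmaCore Ms :=
      (mem_normalizer_iff.mp (hn hd.2) k⁻¹).mp ((sigmaCore Ms).inv_mem (hKs hk))
    have h2 := (sigmaCore Ms).mul_mem (hKs hk) h1
    simpa [commutatorElement_def, mul_assoc] using h2

end Cfsg.Agent.Lib.H30BG1412regMs
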