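import Mathlib
import Cfsg.Agent.Lib.Helper52BG14
import Cfsg.Agent.Lib.Helper52BG14Defs
import Cfsg.Agent.Lib.Helper30BG1412Defs
import Cfsg.Agent.Lib.H30BG1412basic
import Cfsg.Agent.Lib.H30BG1412regMs

/-!
PROJECT 1412 (B-G 14.12 = S1435), piece `caseT3`.  Proof sketch: notes/helper30/BG1412.md.
-/

set_option autoImplicit false

namespace Cfsg.Agent.Lib.H30BG1412caseT3

open Cfsg Subgroup
open Cfsg.Agent.Lib.Helper30Trans Cfsg.Agent.Lib.Helper24BG Cfsg.Agent.Lib.Helper52BG14Defs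
open Cfsg.Agent.Lib.Helper30BG1412Defs
open Cfsg.Agent.Lib.H30BG1412basic Cfsg.Agent.Lib.H30BG1412regMs

variable {G : Type*} [Group G] [Finite G]

theorem case_tau3 (hG : IsMinSimpleOddOrder G) {M K U Ms : Subgroup G} (h : P2 M K U Ms)
    {H F : Subgroup G} (hH : IsCoatom H) (hk : kappa H = ∅) (hF : IsComplIn F (sigmaCore H) H)
    (hKF : K ≤ F) (hp : Nat.card K ∈ tau3 H) :
    F ≤ Ms ∧ K ≤ fittingOf F ∧ sigmaCore H ⊓ Ms = ⊥ := by
  have hpp : (Nat.card K).Prime := card_K hG h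
  have : Fact (Nat.card K).Prime := ⟨hpp⟩
  have hKH : K ≤ H := hKF.trans hF.1
  have hFs : Group.IsSolvable F := by
    have hHs : Group.IsSolvable H := sol hG hH.1
    exact Group.isSolvable_of_isSolvable_injective (f := Subgroup.inclusion hF.1) (Subgroup.inclusion_injective hF.1)
  obtain ⟨F₃, hF₃⟩ := Cfsg.Agent.Lib.Helper37BGPart.exists_hallOf hFs (tau3 H)
  obtain ⟨hcyc, -, hn⟩ := (Cfsg.Agent.S1415.result hG H hH F hF).2.2 F₃ hF₃
  have hKF₃ : K ≤ F₃ := by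
    apply Cfsg.Agent.Lib.Helper30BG2.le_of_normal_hall hF₃.1 hn hKF
    rw [Nat.Prime.coprime_iff_not_dvd hpp]
    exact hF₃.2.2 _ hpp hp
  have hFK : F ≤ normalizer (K : Set G) :=
    hn.trans (Cfsg.Agent.Lib.Helper27BGa.normalizer_le_of_cyclic hcyc hKF₃)
  have hns : Nat.card K ∉ sigma H :=
    Cfsg.Agent.Lib.Helper31BGS.not_mem_sigma_of_dvd_compl hG hH hF hpp (card_dvd_of_le hKF)
  have hreg : sigmaCore H ⊓ centralizer (K : Set G) = ⊥ := by
    by_contra hne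
    have : Nat.card K ∈ kappa H :=
      Cfsg.Agent.Lib.Helper52BG14.mem_kappa_of hG (Or.inr hp) hKH rfl hne
    rw [hk] at this
    exact this
  refine ⟨hFK.trans (norm_K_le hG h), ?_, inf_Ms_of_reg hG h hH hKH hns hreg⟩
  exact Cfsg.Agent.Lib.Helper30Bender.le_fittingOf hKF hFK
    (IsPGroup.of_card (p := Nat.card K) (n := 1) (by simp)).isNilpotent

end Cfsg.Agent.Lib.H30BG1412caseT3
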