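import Mathlib
import Cfsg.Agent.Lib.Helper52BG14
import Cfsg.Agent.Lib.Helper3BGNotuniq
import Cfsg.Agent.S1423
import Cfsg.Agent.S1432
import Cfsg.Agent.Lib.Helper52BG14Defs
import Cfsg.Agent.Lib.Helper30BG1412Defs
import Cfsg.Agent.Lib.H30BG1412basic
import Cfsg.Agent.Lib.Helper38BG13classify

/-!
PROJECT 1412 (B-G 14.12 = S1435), piece `t1final` (proved by helper37).
-/

set_option autoImplicit false

namespace Cfsg.Agent.Lib.H30BG1412t1final

open Cfsg Subgroup
open Cfsg.Agent.Lib.Helper30Trans Cfsg.Agent.Lib.Helper24BG Cfsg.Agent.Lib.Helper52BG14Defs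
open Cfsg.Agent.Lib.Helper30BG1412Defs
open Cfsg.Agent.Lib.H30BG1412basic
open scoped commutatorElement

variable {G : Type*} [Group G] [Finite G]

/-- a subgroup of prime order is generated by any of its nontrivial elements -/
theorem eq_zpowers_of_prime {X : Subgroup G} (hX : (Nat.card X).Prime) {x : G} (hx : x ∈ X)
    (hx1 : x ≠ 1) : X = zpowers x := by
  have hle : zpowers x ≤ X := (Subgroup.zpowers_le).mpr hx
  have hd : Nat.card (zpowers x) ∣ Nat.card X := Subgroup.card_dvd_of_le hle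
  rcases (Nat.dvd_prime hX).mp hd with h | h
  · exfalso
    apply hx1
    have := Subgroup.card_eq_one.mp h
    exact Subgroup.zpowers_eq_bot.mp this
  · exact (Subgroup.eq_of_le_of_card_ge hle (by rw [h])).symm

omit [Finite G] in
theorem beta_cj_of {M : Subgroup G} {g : G} {p : ℕ} (hp : p ∈ beta M) : p ∈ beta (cj g M) := by
  refine ⟨⟨hp.1.1, ?_⟩, hp.2⟩
  intro h
  exact hp.1.2 ((Helper38BG13classify.rank_cj_iff p 2 M g).mp h)

theorem t1_final (hG : IsMinSimpleOddOrder G) {M K U Ms : Subgroup G} (h : P2 M K U Ms)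
    (hbeta : ∀ r : ℕ, r.Prime → r ∣ Nat.card (sigmaCore M) → r ∈ beta M)
    {H F : Subgroup G} (hH : IsCoatom H) (hF : IsComplIn F (sigmaCore H) H) (hKF : K ≤ F)
    {s : ℕ} {A Y₁ Y₂ : Subgroup G} (hT : T1 H F K s A Y₁ Y₂) : False := by
  have hs : s.Prime := hT.hs
  have : Fact s.Prime := ⟨hs⟩
  have hpp : (Nat.card K).Prime := card_K hG h
  have : Fact (Nat.card K).Prime := ⟨hpp⟩
  have hFH : F ≤ H := hF.1
  have hY₂1 : Y₂ ≠ ⊥ := by
    intro e
    have := hT.hY₂
    rw [e, Subgroup.card_bot] at this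
    exact hs.one_lt.ne this
  have hY₂top : Y₂ ≠ ⊤ := by
    intro e
    apply hH.1
    exact top_le_iff.mp (e ▸ (hT.hY₂A.trans (hT.hAF.trans hFH)))
  obtain ⟨L, hL, hNL⟩ := exists_coatom (norm_ne_top hG hY₂1 hY₂top)
  have hNAL : normalizer (A : Set G) ≤ L := hT.hN.trans hNL
  obtain ⟨hsL, hsβ, hHL, hHsL, -, -⟩ :=
    Helper52BG14.norm_tau2 hG hH hF hT.hs2 hT.hAF hT.hAe hT.hA2 hL hNAL
  have hFL : F ≤ L := hHL ▸ inf_le_right
  have hAL : A ≤ L := hT.hAF.trans hFL
  have hKL : K ≤ L := hKF.trans hFL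
  have hALs : A ≤ sigmaCore L :=
    Helper30BG2.pgroup_le_sigmaCore hG hL hsL (isPGroup_of_elemAb hT.hAe) hAL
  -- it is enough to show `C(Y₁) ≤ L`
  suffices hC : centralizer (Y₁ : Set G) ≤ L by
    apply Helper3BGNotuniq.sigmaCore_ne_bot hG hH
    rw [← hHsL]
    exact (inf_eq_left.mpr (hT.hcent.trans hC)).symm
  by_cases hpL : Nat.card K ∈ sigma L
  · -- `K ≤ L_σ`
    have hKp : IsPGroup (Nat.card K) K := IsPGroup.of_card (n := 1) (by rw [pow_one])
    have hKLs : K ≤ sigmaCore L := Helper30BG2.pgroup_le_sigmaCore hG hL hpL hKp hKL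
    obtain ⟨k, hkK, hkn⟩ := SetLike.not_le_iff_exists.mp hT.hKnc
    rw [Subgroup.mem_centralizer_iff] at hkn
    push Not at hkn
    obtain ⟨y, hy, hyk⟩ := hkn
    have hy' : y ∈ Y₁ := hy
    have hc1 : ⁅k, y⁆ ≠ 1 := by
      intro e
      apply hyk
      rw [commutatorElement_eq_one_iff_mul_comm] at e
      exact e.symm
    have hcY : ⁅k, y⁆ ∈ Y₁ := by
      rw [commutatorElement_def]
      have := (Subgroup.mem_set_normalizer_iff.mp (hT.hKn hkK) y).mp hy'
      exact mul_mem this (inv_mem hy')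
    have hcL : ⁅k, y⁆ ∈ ⁅sigmaCore L, sigmaCore L⁆ :=
      Subgroup.commutator_mem_commutator (hKLs hkK) (hALs (hT.hY₁A hy'))
    have hY₁L : Y₁ ≤ ⁅sigmaCore L, sigmaCore L⁆ := by
      rw [eq_zpowers_of_prime (hT.hY₁ ▸ hs) hcY hc1, Subgroup.zpowers_le]
      exact hcL
    exact (S1423.result hG L hL s hsL Y₁ (hT.hY₁A.trans hAL) hT.hY₁ default (Or.inr hY₁L)).1.1
  · exfalso
    obtain ⟨y₂, hy₂, hy₂1⟩ : ∃ x : G, x ∈ Y₂ ∧ x ≠ 1 := by
      obtain ⟨x, hx⟩ := Subgroup.ne_bot_iff_exists_ne_one.mp hY₂1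
      exact ⟨(x : G), x.2, fun e => hx (Subtype.ext e)⟩
    obtain ⟨k, hk, hk1⟩ : ∃ x : G, x ∈ K ∧ x ≠ 1 := by
      obtain ⟨x, hx⟩ := Subgroup.ne_bot_iff_exists_ne_one.mp h.hK1
      exact ⟨(x : G), x.2, fun e => hx (Subtype.ext e)⟩
    have hKz : K = zpowers k := eq_zpowers_of_prime hpp hk hk1
    have hko : orderOf k = Nat.card K := by
      rw [← Nat.card_zpowers, ← hKz]
    have hky : k ∈ L ⊓ centralizer ({y₂} : Set G) := by
      refine Subgroup.mem_inf.mpr ⟨hKL hk, ?_⟩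
      rw [Subgroup.mem_centralizer_singleton_iff]
      exact ((Subgroup.mem_centralizer_iff.mp (hT.hKc hk)) y₂ hy₂).symm
    have hprime_k : ∀ q : ℕ, q.Prime → q ∣ orderOf k → q = Nat.card K := by
      intro q hq hqd
      rw [hko] at hqd
      exact (Nat.prime_dvd_prime_iff_eq hq hpp).mp hqd
    rcases S1432.result hG L hL y₂ (hALs (hT.hY₂A hy₂)) hy₂1 k hky hk1
      (fun q hq hqd => (hprime_k q hq hqd) ▸ hpL) with h1 | h1
    · have hpk : Nat.card K ∈ kappa L := h1.1 _ hpp (hko ▸ dvd_rfl)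
      rcases two_classes hG h hL ⟨_, hpk⟩ with ⟨g, hg⟩ | h2
      · apply hsβ
        rw [hg]
        apply beta_cj_of
        apply hbeta s hs
        have h3 : s ∣ Nat.card (sigmaCore L) :=
          hT.hY₁ ▸ Subgroup.card_dvd_of_le (hT.hY₁A.trans hALs)
        rw [hg, Helper21BGExcbasic.sigmaCore_cj, card_cj] at h3
        exact h3
      · exact hpL h2
    · have hle : centralizer ({k} : Set G) ≤ Ms := by
        refine le_trans ?_ (norm_K_le hG h)
        refine le_trans ?_ (Subgroup.centralizer_le_normalizer _)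
        intro c hc
        rw [Subgroup.mem_centralizer_singleton_iff] at hc
        rw [hKz]
        exact Helper37BG14kbasic.mem_centralizer_zpowers hc.symm
      have hMsL : Ms = L := h1.2.2.2 Ms h.hMs hle
      exact hpL (hMsL ▸ mem_sigma_Ms hG h)

end Cfsg.Agent.Lib.H30BG1412t1final
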