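import Mathlib
import Cfsg.Agent.Lib.Helper52BG14
import Cfsg.Agent.Lib.Helper3BGNotuniq
import Cfsg.Agent.S1432
import Cfsg.Agent.Lib.Helper52BG14Defs
import Cfsg.Agent.Lib.Helper30BG1412Defs
import Cfsg.Agent.Lib.H30BG1412pure
import Cfsg.Agent.S1420
import Cfsg.Agent.S1418
import Cfsg.Agent.S1417
import Cfsg.Agent.Lib.Helper84BGFrobact
import Cfsg.Agent.Lib.Helper90BG14normtau2

/-!
PROJECT 1412 (B-G 14.12 = S1435), piece `t1setup` (proved by helper37).
-/

set_option autoImplicit false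

namespace Cfsg.Agent.Lib.H30BG1412t1setup

open Cfsg Subgroup
open Cfsg.Agent.Lib.Helper30Trans Cfsg.Agent.Lib.Helper24BG Cfsg.Agent.Lib.Helper52BG14Defs
open Cfsg.Agent.Lib.Helper30BG1412Defs
open Cfsg.Agent.Lib.H30BG1412pure

variable {G : Type*} [Group G] [Finite G]

omit [Finite G] in
/-- `k` normalizing `A` and `B` normalizes `⁅A, B⁆`. -/
theorem mem_normalizer_commutator {A B : Subgroup G} {k : G} (hA : k ∈ normalizer (A : Set G))
    (hB : k ∈ normalizer (B : Set G)) : k ∈ normalizer ((⁅A, B⁆ : Subgroup G) : Set G) := by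
  apply Helper27BGa.mem_normalizer_of_cj_eq
  show Subgroup.map (MulEquiv.toMonoidHom (MulAut.conj k)) ⁅A, B⁆ = ⁅A, B⁆
  rw [Subgroup.map_commutator]
  have h1 : cj k A = A := cj_eq_self_of_mem_normalizer hA
  have h2 : cj k B = B := cj_eq_self_of_mem_normalizer hB
  unfold cj at h1 h2
  rw [h1, h2]

omit [Finite G] in
/-- `k` normalizing `A` normalizes `C(A)`. -/
theorem mem_normalizer_centralizer {A : Subgroup G} {k : G} (hA : k ∈ normalizer (A : Set G)) :
    k ∈ normalizer ((centralizer (A : Set G) : Subgroup G) : Set G) := by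
  have key : ∀ k : G, k ∈ normalizer (A : Set G) → ∀ c ∈ centralizer (A : Set G),
      k * c * k⁻¹ ∈ centralizer (A : Set G) := by
    intro k hk c hc
    rw [Subgroup.mem_centralizer_iff] at hc ⊢
    intro a ha
    have ha' : k⁻¹ * a * k⁻¹⁻¹ ∈ A := by
      have := (Subgroup.mem_set_normalizer_iff.mp (inv_mem hk) a).mp ha
      exact this
    have h1 := hc _ ha'
    rw [inv_inv] at h1
    calc a * (k * c * k⁻¹) = k * ((k⁻¹ * a * k) * c) * k⁻¹ := by group
      _ = k * (c * (k⁻¹ * a * k)) * k⁻¹ := by rw [h1]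
      _ = k * c * k⁻¹ * a := by group
  rw [Subgroup.mem_set_normalizer_iff]
  intro c
  constructor
  · intro hc
    exact key k hA c hc
  · intro hc
    have := key k⁻¹ (inv_mem hA) _ hc
    have e : k⁻¹ * (k * c * k⁻¹) * k⁻¹⁻¹ = c := by group
    rw [e] at this
    exact this

/-- a subgroup `B` of a group `A` of order `s²`, `B ≠ ⊥`, `B ≠ A`, has order `s`. -/
theorem card_eq_of_sq {s : ℕ} (hs : s.Prime) {A B : Subgroup G} (hA : Nat.card A = s ^ 2)
    (hBA : B ≤ A) (h1 : B ≠ ⊥) (h2 : B ≠ A) : Nat.card B = s := by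
  have hd : Nat.card B ∣ s ^ 2 := hA ▸ Subgroup.card_dvd_of_le hBA
  obtain ⟨i, hi, he⟩ := (Nat.dvd_prime_pow hs).mp hd
  interval_cases i
  · exfalso
    apply h1
    rw [pow_zero] at he
    exact Subgroup.card_eq_one.mp he
  · rw [he, pow_one]
  · exfalso
    apply h2
    exact Subgroup.eq_of_le_of_card_ge hBA (by rw [he, hA])

theorem t1_setup (hG : IsMinSimpleOddOrder G) {H F K : Subgroup G} (hH : IsCoatom H)
    (hk : kappa H = ∅) (hF : IsComplIn F (sigmaCore H) H) (hKF : K ≤ F)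
    (hp : Nat.card K ∈ tau1 H) (hnc : ¬ F ≤ centralizer (K : Set G)) :
    ∃ (s : ℕ) (A Y₁ Y₂ : Subgroup G), T1 H F K s A Y₁ Y₂ := by
  have hFH : F ≤ H := hF.1
  have hKH : K ≤ H := hKF.trans hFH
  have hpp : (Nat.card K).Prime := hp.1
  -- (1)
  have hreg : sigmaCore H ⊓ centralizer (K : Set G) = ⊥ := by
    by_contra hne
    have := Helper52BG14.mem_kappa_of hG (Or.inl hp) hKH rfl hne
    rw [hk] at this
    exact this
  have hHs1 : sigmaCore H ≠ ⊥ := Helper3BGNotuniq.sigmaCore_ne_bot hG hH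
  have hd : ¬ Nat.card K ∣ Nat.card ↥⁅F, F⁆ := by
    intro h
    exact hp.2.2.2.1 (h.trans (Subgroup.card_dvd_of_le (Subgroup.commutator_mono hFH hFH)))
  -- (2)
  have hnc' : ¬ K ≤ centralizer ((⁅F, F⁆ : Subgroup G) : Set G) :=
    fun hc => hnc (central_of_cent_der hKF hpp hd hc)
  have hFab : IsMulCommutative ↥⁅F, F⁆ := (S1420.result hG H hH F hF).2.1
  have hFnF' : F ≤ normalizer ((⁅F, F⁆ : Subgroup G) : Set G) := fun f hf =>
    mem_normalizer_commutator (Subgroup.le_normalizer hf) (Subgroup.le_normalizer hf)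
  have hKnF' : K ≤ normalizer ((⁅F, F⁆ : Subgroup G) : Set G) := hKF.trans hFnF'
  set Y : Subgroup G := ⁅⁅F, F⁆, K⁆ with hY
  have hY1 : Y ≠ ⊥ := by
    intro h
    rw [hY, Subgroup.commutator_eq_bot_iff_le_centralizer, Subgroup.le_centralizer_iff] at h
    exact hnc' h
  have hYF' : Y ≤ ⁅F, F⁆ := by
    rw [hY, Subgroup.commutator_le]
    intro a ha k hk'
    exact Subgroup.commutator_mem_commutator (Subgroup.commutator_le_self F ha) (hKF hk')
  have hYF : Y ≤ F := hYF'.trans (Subgroup.commutator_le_self F)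
  have hKnY : K ≤ normalizer (Y : Set G) := fun k hk' =>
    mem_normalizer_commutator (hKnF' hk') (Subgroup.le_normalizer hk')
  have hcopF' : (Nat.card ↥⁅F, F⁆).Coprime (Nat.card K) :=
    ((Nat.Prime.coprime_iff_not_dvd hpp).mpr hd).symm
  have hYC : Y ⊓ centralizer (K : Set G) = ⊥ := comm_inf_cent hFab hKnF' hcopF'
  -- (3)
  have hHn : H ≤ normalizer ((sigmaCore H : Subgroup G) : Set G) :=
    Helper31BGS.le_normalizer_sigmaCore H
  have hsolH : Group.IsSolvable H := sol hG hH.1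
  have hsolHs : Group.IsSolvable (sigmaCore H) :=
    Helper30SZ.solvable_of_le hsolH (Helper31BGS.sigmaCore_le H)
  have hcopF : (Nat.card F).Coprime (Nat.card (sigmaCore H)) :=
    Helper37BGPart.coprime_compl hG hH hF
  have hcop_of : ∀ {X : Subgroup G}, X ≤ F → (Nat.card X).Coprime (Nat.card (sigmaCore H)) :=
    fun hX => Nat.Coprime.coprime_dvd_left (Subgroup.card_dvd_of_le hX) hcopF
  have hYcent : Y ≤ centralizer ((sigmaCore H : Subgroup G) : Set G) :=
    Helper84BGFrobact.frob_act hsolHs ((hYF.trans hFH).trans hHn) (hKH.trans hHn) hKnY hpp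
      (hcop_of hYF) (hcop_of hKF) hYC hreg
  -- (4)
  obtain ⟨s, hs, hsY⟩ : ∃ s : ℕ, s.Prime ∧ s ∣ Nat.card Y := by
    refine ⟨(Nat.card Y).minFac, Nat.minFac_prime ?_, Nat.minFac_dvd _⟩
    intro h
    exact hY1 (Subgroup.card_eq_one.mp h)
  have : Fact s.Prime := ⟨hs⟩
  obtain ⟨y, hyY, hy1, hyc⟩ := Helper37BGPart.exists_card_prime_le hsY
  have hyo : orderOf y = s := by rw [← Nat.card_zpowers]; exact hyc
  have hsF : s ∣ Nat.card F := hsY.trans (Subgroup.card_dvd_of_le hYF)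
  have hsσ : s ∉ sigma H := Helper31BGS.not_mem_sigma_of_dvd_compl hG hH hF hs hsF
  obtain ⟨x, hx, hx1⟩ : ∃ x : G, x ∈ sigmaCore H ∧ x ≠ 1 := by
    obtain ⟨x, h⟩ := Subgroup.ne_bot_iff_exists_ne_one.mp hHs1
    exact ⟨(x : G), x.2, fun e => h (Subtype.ext e)⟩
  have hprime_y : ∀ q : ℕ, q.Prime → q ∣ orderOf y → q = s := by
    intro q hq hqd
    rw [hyo] at hqd
    exact (Nat.prime_dvd_prime_iff_eq hq hs).mp hqd
  have hs2 : s ∈ tau2 H := by
    have hyx : y ∈ H ⊓ centralizer ({x} : Set G) := by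
      refine Subgroup.mem_inf.mpr ⟨hFH (hYF hyY), ?_⟩
      rw [Subgroup.mem_centralizer_singleton_iff]
      have := (Subgroup.mem_centralizer_iff.mp (hYcent hyY)) x hx
      exact this.symm
    rcases S1432.result hG H hH x hx hx1 y hyx hy1
      (fun q hq hqd => (hprime_y q hq hqd) ▸ hsσ) with h | h
    · have := h.1 s hs (hyo ▸ dvd_rfl)
      rw [hk] at this
      exact this.elim
    · exact h.1 s hs (hyo ▸ dvd_rfl)
  -- (5)
  obtain ⟨A, hAF, hAe, hA2⟩ := Helper90BG14normtau2.exists_sq_compl hG hH hF hs2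
  obtain ⟨⟨hFnA, hsubA⟩, ⟨-, -, hNAH⟩, -⟩ := S1418.result hG H hH F hF s hs2 A ⟨hAF, hAe, hA2⟩
  have hAH : A ≤ H := hAF.trans hFH
  have hCA : sigmaCore H ⊓ centralizer (A : Set G) = ⊥ :=
    (S1417.result hG H hH s hs2 A ⟨hAH, hAe, hA2⟩).2.2.2.1
  set Y₁ : Subgroup G := zpowers y with hY₁
  have hY₁F : Y₁ ≤ F := by
    rw [hY₁, Subgroup.zpowers_le]
    exact hYF hyY
  have hY₁A : Y₁ ≤ A := hsubA Y₁ hY₁F hyc
  have hY₁1 : Y₁ ≠ ⊥ := by
    intro h
    rw [hY₁, Subgroup.zpowers_eq_bot] at h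
    exact hy1 h
  -- (6)
  have hY₁c : Y₁ ≤ centralizer ((sigmaCore H : Subgroup G) : Set G) := by
    rw [hY₁, Subgroup.zpowers_le]
    exact hYcent hyY
  have hnotAc : ¬ A ≤ centralizer ((sigmaCore H : Subgroup G) : Set G) := by
    intro h
    apply hHs1
    rw [← hCA]
    exact (inf_eq_left.mpr (Subgroup.le_centralizer_iff.mp h)).symm
  have hY₁eq : Y₁ = A ⊓ centralizer ((sigmaCore H : Subgroup G) : Set G) := by
    have hle : Y₁ ≤ A ⊓ centralizer ((sigmaCore H : Subgroup G) : Set G) := le_inf hY₁A hY₁c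
    have hc : Nat.card ↥(A ⊓ centralizer ((sigmaCore H : Subgroup G) : Set G)) = s := by
      apply card_eq_of_sq hs hA2 inf_le_left
      · intro h
        apply hY₁1
        exact le_bot_iff.mp (h ▸ hle)
      · intro h
        exact hnotAc (inf_eq_left.mp h)
    exact Subgroup.eq_of_le_of_card_ge hle (by rw [hc, hyc])
  have hcent : sigmaCore H ≤ centralizer (Y₁ : Set G) := Subgroup.le_centralizer_iff.mp hY₁c
  have hFnY₁ : F ≤ normalizer (Y₁ : Set G) := by
    intro f hf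
    have h1 : f ∈ normalizer (A : Set G) := hFnA hf
    have h2 : f ∈ normalizer ((centralizer ((sigmaCore H : Subgroup G) : Set G) : Subgroup G) : Set G) :=
      mem_normalizer_centralizer (hHn (hFH hf))
    rw [hY₁eq, Subgroup.mem_set_normalizer_iff]
    intro c
    have e1 := Subgroup.mem_set_normalizer_iff.mp h1 c
    have e2 := Subgroup.mem_set_normalizer_iff.mp h2 c
    show c ∈ A ⊓ centralizer ((sigmaCore H : Subgroup G) : Set G) ↔
      f * c * f⁻¹ ∈ A ⊓ centralizer ((sigmaCore H : Subgroup G) : Set G)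
    rw [Subgroup.mem_inf, Subgroup.mem_inf]
    exact and_congr e1 e2
  have hHnY₁ : H ≤ normalizer (Y₁ : Set G) := by
    intro m hm
    obtain ⟨a, ha, b, hb, rfl⟩ := hF.2.2.2 m hm
    exact mul_mem (hFnY₁ ha) (Subgroup.centralizer_le_normalizer _ (hcent hb))
  have hNY₁ : normalizer (Y₁ : Set G) = H := norm_eq hG hH hY₁1 (hY₁F.trans hFH) hHnY₁
  -- (7)
  have hKnc : ¬ K ≤ centralizer (Y₁ : Set G) := by
    intro h
    apply hy1
    have hyK : y ∈ centralizer (K : Set G) :=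
      (Subgroup.le_centralizer_iff.mp h) (Subgroup.mem_zpowers y)
    have : y ∈ Y ⊓ centralizer (K : Set G) := ⟨hyY, hyK⟩
    rw [hYC] at this
    exact Subgroup.mem_bot.mp this
  set Y₂ : Subgroup G := A ⊓ centralizer (K : Set G) with hY₂
  have hY₂c : Nat.card Y₂ = s := by
    apply card_eq_of_sq hs hA2 inf_le_left
    · intro h
      apply hnotAc
      exact Helper84BGFrobact.frob_act hsolHs (hAH.trans hHn) (hKH.trans hHn) (hKF.trans hFnA) hpp
        (hcop_of hAF) (hcop_of hKF) h hreg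
    · intro h
      apply hKnc
      exact Subgroup.le_centralizer_iff.mp (hY₁A.trans (inf_eq_left.mp h))
  -- (8)
  obtain ⟨k, hkK, hkn⟩ := SetLike.not_le_iff_exists.mp hKnc
  have hKc : K ≤ centralizer (Y₂ : Set G) := Subgroup.le_centralizer_iff.mp inf_le_right
  have hN : normalizer (A : Set G) ≤ normalizer (Y₂ : Set G) := by
    rcases Helper52BG14.norm_sq_le hG hH hs2 hAH hAe hA2 (inf_le_left : Y₂ ≤ A) hY₁A hY₂c hyc
      (hFnA (hKF hkK)) (hKc hkK) (hFnY₁ (hKF hkK)) hkn with h | h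
    · exact h
    · exact absurd (hNY₁ ▸ h) hNAH
  exact ⟨s, A, Y₁, Y₂, hs, hs2, hAF, hAe, hA2, hY₁A, inf_le_left, hyc, hY₂c, hcent,
    hKF.trans hFnY₁, hKnc, hKc, hN⟩

end Cfsg.Agent.Lib.H30BG1412t1setup
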