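import Mathlib
import Cfsg.Agent.Lib.Helper52BG14
import Cfsg.Agent.Lib.Helper38BG13classify
import Cfsg.Agent.Lib.Helper52BG14Defs
import Cfsg.Agent.Lib.Helper30BG1412Defs
import Cfsg.Agent.Lib.H30BG1412basic
import Cfsg.Agent.Lib.H30BG1412regMs
import Cfsg.Agent.Lib.H30BG1412caseT2
import Cfsg.Agent.Lib.H30BG1412caseT3
import Cfsg.Agent.Lib.H30BG1412t1setup
import Cfsg.Agent.Lib.H30BG1412t1final

/-!
PROJECT 1412 (B-G 14.12 = S1435), piece `lemmaF`.  Proof sketch: notes/helper30/BG1412.md.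
-/

set_option autoImplicit false

namespace Cfsg.Agent.Lib.H30BG1412lemmaF

open Cfsg Subgroup
open Cfsg.Agent.Lib.Helper30Trans Cfsg.Agent.Lib.Helper24BG Cfsg.Agent.Lib.Helper52BG14Defs
open Cfsg.Agent.Lib.Helper30BG1412Defs
open Cfsg.Agent.Lib.H30BG1412basic Cfsg.Agent.Lib.H30BG1412regMs Cfsg.Agent.Lib.H30BG1412caseT2 Cfsg.Agent.Lib.H30BG1412caseT3 Cfsg.Agent.Lib.H30BG1412t1setup Cfsg.Agent.Lib.H30BG1412t1final

variable {G : Type*} [Group G] [Finite G]

theorem lemmaF (hG : IsMinSimpleOddOrder G) {M K U Ms : Subgroup G} (h : P2 M K U Ms)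
    (hbeta : ∀ r : ℕ, r.Prime → r ∣ Nat.card (sigmaCore M) → r ∈ beta M)
    {H F : Subgroup G} (hH : IsCoatom H) (hk : kappa H = ∅) (hF : IsComplIn F (sigmaCore H) H)
    (hKF : K ≤ F) : F ≤ Ms ∧ K ≤ fittingOf F ∧ sigmaCore H ⊓ Ms = ⊥ := by
  have hp : (Nat.card K).Prime := card_K hG h
  have hKH : K ≤ H := hKF.trans hF.1
  have hdF : Nat.card K ∣ Nat.card F := card_dvd_of_le hKF
  have hdH : Nat.card K ∣ Nat.card H := card_dvd_of_le hKH
  have hns : Nat.card K ∉ sigma H :=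
    Cfsg.Agent.Lib.Helper31BGS.not_mem_sigma_of_dvd_compl hG hH hF hp hdF
  rcases Cfsg.Agent.Lib.Helper38BG13classify.mem_tau_cases hG hH hp hdH with h1 | h1 | h1 | h1
  · exact absurd h1 hns
  · -- τ₁
    have hc : F ≤ centralizer (K : Set G) := by
      by_contra hnc
      obtain ⟨s, A, Y₁, Y₂, hT⟩ := t1_setup hG hH hk hF hKF h1 hnc
      exact t1_final hG h hbeta hH hF hKF hT
    have hreg : sigmaCore H ⊓ centralizer (K : Set G) = ⊥ := by
      by_contra hne
      have : Nat.card K ∈ kappa H :=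
        Cfsg.Agent.Lib.Helper52BG14.mem_kappa_of hG (Or.inl h1) hKH rfl hne
      rw [hk] at this
      exact this
    refine ⟨?_, ?_, inf_Ms_of_reg hG h hH hKH hns hreg⟩
    · exact hc.trans ((centralizer_le_normalizer _).trans (norm_K_le hG h))
    · apply Cfsg.Agent.Lib.Helper30Bender.le_fittingOf hKF
        (hc.trans (centralizer_le_normalizer _))
      have : Fact (Nat.card K).Prime := ⟨hp⟩
      exact (IsPGroup.of_card (p := Nat.card K) (n := 1) (by simp)).isNilpotent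
  · exact case_tau2 hG h hH hF hKF h1
  · exact case_tau3 hG h hH hk hF hKF h1

end Cfsg.Agent.Lib.H30BG1412lemmaF
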