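import Mathlib
import Cfsg.Agent.Lib.Helper21BG16
import Cfsg.Agent.S1354

/-!
PROJECT 16, piece `Ulemma`: for `K ≠ 1` every `U` of a standard factorisation is abelian and `K`
acts regularly on it.
-/

set_option autoImplicit false
set_option linter.unusedSectionVars false

namespace Cfsg.Agent.Lib.Helper21BG16Ulemma

open Cfsg Subgroup
open scoped commutatorElement
open Cfsg.Agent.Lib.Helper30Trans Cfsg.Agent.Lib.Helper24BG
open Cfsg.Agent.Lib.Helper2BGa Cfsg.Agent.Lib.Helper2BGb Cfsg.Agent.Lib.Helper21BG16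

universe u
variable {G : Type u} [Group G] [Finite G]

theorem U_primes (hG : IsMinSimpleOddOrder G) {M K U : Subgroup G} (hM : IsCoatom M)
    (hKU : IsSigmaDecomposition M K U) :
    ∀ p : ℕ, p.Prime → p ∣ Nat.card U → p ∉ kappa M ∧ p ∉ sigma M := by
  intro p hp hd
  rw [← Cfsg.Agent.Lib.Helper31BGS.relIndex_compl' hKU.compl] at hd
  constructor
  · intro h
    exact hKU.hall.2.2 p hp h (hd.trans (relIndex_dvd_of_le_left M le_sup_left))
  · intro h
    exact (Cfsg.Agent.S1350.result hG M hM).1.2.2 p hp h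
      (hd.trans (relIndex_dvd_of_le_left M le_sup_right))

/-- `C_U(k) = 1` for `1 ≠ k ∈ K` (S1353). -/
theorem U_free (hG : IsMinSimpleOddOrder G) {M K U : Subgroup G} (hM : IsCoatom M)
    (hKU : IsSigmaDecomposition M K U) :
    ∀ k ∈ K, k ≠ 1 → U ⊓ centralizer ({k} : Set G) = ⊥ := by
  intro k hk hk1
  have hK1 : K ≠ ⊥ := by
    rintro rfl
    exact hk1 hk
  have h := (Cfsg.Agent.S1354.result hG M hM K hKU.cyclic hKU.hall).2 hK1 k hk hk1
  rw [eq_bot_iff, ← hKU.compl.2.2.1]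
  refine le_inf inf_le_left ?_
  calc U ⊓ centralizer ({k} : Set G) ≤ M ⊓ centralizer ({k} : Set G) :=
        inf_le_inf_right _ hKU.compl.1
    _ = K ⊔ (sigmaCore M ⊓ centralizer (K : Set G)) := h
    _ ≤ K ⊔ sigmaCore M := sup_le_sup_left inf_le_left _

theorem U_abelian (hG : IsMinSimpleOddOrder G) {M K U : Subgroup G} (hM : IsCoatom M)
    (hKU : IsSigmaDecomposition M K U) (hK1 : K ≠ ⊥) : IsMulCommutative U := by
  obtain ⟨-, ⟨U₀, hab, hU₀, hKU₀, -⟩, -⟩ := Cfsg.Agent.S1430.result hG M hM K hKU.hall hK1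
  have hdec := decomposition_of_hall hG hM hKU.cyclic hKU.hall hU₀ hKU₀
  have hle : U ≤ U₀ ⊔ sigmaCore M := by
    apply le_of_relIndex_coprime hKU.compl.1 (normal_UMs hdec)
    intro p hp hd hd2
    obtain ⟨h1, h2⟩ := U_primes hG hM hKU p hp hd
    exact hU₀.2.2 p hp ⟨hp, h1, h2⟩ (hd2.trans (relIndex_dvd_of_le_left M le_sup_left))
  have hU₀n : U₀ ≤ normalizer (sigmaCore M : Set G) := hU₀.1.trans (le_normalizer_sigmaCore M)
  have hcomm : ⁅U₀ ⊔ sigmaCore M, U₀ ⊔ sigmaCore M⁆ ≤ sigmaCore M ⊔ ⁅U₀, U₀⁆ := by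
    apply commutator_le_sup le_sup_left (sup_le hU₀n le_normalizer)
    intro m hm
    have hm' : m⁻¹ ∈ sigmaCore M ⊔ U₀ := by
      rw [sup_comm]; exact inv_mem hm
    obtain ⟨n, hn, a, ha, h⟩ := (Cfsg.Agent.Lib.Helper30SZ.mem_sup_iff hU₀n).mp hm'
    refine ⟨a⁻¹, inv_mem ha, n⁻¹, inv_mem hn, ?_⟩
    rw [← mul_inv_rev, ← h, inv_inv]
  have hU₀c : ⁅U₀, U₀⁆ = ⊥ := by
    rw [commutator_eq_bot_iff_le_centralizer]
    intro a ha
    rw [mem_centralizer_iff]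
    intro b hb
    exact congrArg Subtype.val (hab.is_comm.comm ⟨b, hb⟩ ⟨a, ha⟩)
  rw [hU₀c, sup_bot_eq] at hcomm
  refine ⟨⟨fun a b => ?_⟩⟩
  have h1 : ⁅(a : G), (b : G)⁆ ∈ sigmaCore M :=
    hcomm (commutator_mem_commutator (hle a.2) (hle b.2))
  have h2 : ⁅(a : G), (b : G)⁆ ∈ U := by
    rw [commutatorElement_def]
    exact mul_mem (mul_mem (mul_mem a.2 b.2) (inv_mem a.2)) (inv_mem b.2)
  have h3 : ⁅(a : G), (b : G)⁆ ∈ U ⊓ (K ⊔ sigmaCore M) := ⟨h2, mem_sup_right h1⟩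
  rw [hKU.compl.2.2.1, mem_bot, commutatorElement_eq_one_iff_mul_comm] at h3
  exact Subtype.ext h3

/-- for `K ≠ 1` EVERY `U` of a standard factorisation is abelian and `K` acts regularly on it. -/
theorem U_abelian_free (hG : IsMinSimpleOddOrder G) {M K U : Subgroup G} (hM : IsCoatom M)
    (hKU : IsSigmaDecomposition M K U) (hK1 : K ≠ ⊥) :
    IsMulCommutative U ∧ ∀ k ∈ K, k ≠ 1 → U ⊓ centralizer ({k} : Set G) = ⊥ :=
  ⟨U_abelian hG hM hKU hK1, U_free hG hM hKU⟩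

end Cfsg.Agent.Lib.Helper21BG16Ulemma
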