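import Mathlib
import Cfsg.Agent.Lib.Helper52BG14
import Cfsg.Agent.Lib.Helper27BG16basic
import Cfsg.Agent.Lib.Helper21BG16Ulemma
import Cfsg.Agent.S1429
import Cfsg.Agent.Lib.Helper52BG14Defs
import Cfsg.Agent.Lib.Helper30BG1412Defs

/-!
PROJECT 1412 (B-G 14.12 = S1435), piece `sylU`.  Proof sketch: notes/helper30/BG1412.md.
-/

set_option autoImplicit false

namespace Cfsg.Agent.Lib.H30BG1412sylU

open Cfsg Subgroup
open Cfsg.Agent.Lib.Helper30Trans Cfsg.Agent.Lib.Helper24BG Cfsg.Agent.Lib.Helper52BG14Defs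
open Cfsg.Agent.Lib.Helper30BG1412Defs

variable {G : Type*} [Group G] [Finite G]

/-- a Sylow subgroup `S` of `U`: it is normalized by `U K`, is a Sylow subgroup of `M`,
`N(S) ≰ M`, and `C_{M_σ}(S) = 1` -/
theorem sylU (hG : IsMinSimpleOddOrder G) {M K U Ms : Subgroup G} (h : P2 M K U Ms) {s : ℕ}
    [Fact s.Prime] {S : Subgroup G} (hS : IsSyl s S U) (hS1 : S ≠ ⊥) :
    U ⊔ K ≤ normalizer (S : Set G) ∧ IsSyl s S M ∧ s ∉ sigma M ∧
      ¬ normalizer (S : Set G) ≤ M ∧ sigmaCore M ⊓ centralizer (S : Set G) = ⊥ := by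
  have hsP : s.Prime := Fact.out
  have hM := h.hM
  have hKU := h.hKU
  have hab : IsMulCommutative U :=
    (Cfsg.Agent.Lib.Helper21BG16Ulemma.U_abelian_free hG hM hKU h.hK1).1
  have hcomm : ∀ a ∈ U, ∀ b ∈ U, a * b = b * a := fun a ha b hb =>
    congrArg Subtype.val (hab.is_comm.comm ⟨a, ha⟩ ⟨b, hb⟩)
  have hsU : s ∣ Nat.card U := dvd_card_of_pgroup hS.2.1 hS1 hS.1
  obtain ⟨hsk, hss⟩ := Cfsg.Agent.Lib.Helper27BG16basic.U_primes hG hM hKU s hsP hsU
  have hUN : U ≤ normalizer (S : Set G) := by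
    intro u hu
    rw [mem_normalizer_iff]
    intro x
    constructor
    · intro hx
      have : u * x * u⁻¹ = x := by
        rw [hcomm u hu x (hS.1 hx)]; group
      rw [this]; exact hx
    · intro hx
      have h1 : u⁻¹ * (u * x * u⁻¹) * u = u * x * u⁻¹ := by
        rw [hcomm u⁻¹ (inv_mem hu) _ (hS.1 hx)]; group
      have h2 : u⁻¹ * (u * x * u⁻¹) * u = x := by group
      rw [← h2, h1]; exact hx
  have hKN : K ≤ normalizer (S : Set G) := by
    have key : ∀ k ∈ K, cj k S ≤ S := by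
      intro k hk
      have h1 : cj k S ≤ U := by
        rintro _ ⟨x, hx, rfl⟩
        have := (mem_normalizer_iff.mp (hKU.normal hk) x).mp (hS.1 hx)
        exact this
      have h2 : IsPGroup s (cj k S) := hS.2.1.map _
      have h3 : IsPGroup s ↥(cj k S ⊔ S) :=
        IsPGroup.to_sup_of_normal_right' h2 hS.2.1 (h1.trans hUN)
      have h4 := hS.2.2 _ (sup_le h1 hS.1) h3 le_sup_right
      exact le_sup_left.trans h4.le
    intro k hk
    rw [mem_normalizer_iff]
    intro x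
    constructor
    · intro hx
      exact key k hk ⟨x, hx, rfl⟩
    · intro hx
      have := key k⁻¹ (inv_mem hk) ⟨_, hx, rfl⟩
      simpa [mul_assoc] using this
  have hrel : ¬ s ∣ U.relIndex M := by
    rw [Cfsg.Agent.Lib.Helper31BGS.relIndex_compl hKU.compl,
      Cfsg.Agent.Lib.Helper27BG16basic.card_KMs hG hM hKU, hsP.dvd_mul]
    rintro (hd | hd)
    · exact hsk (Cfsg.Agent.Lib.Helper27BG16basic.K_primes hKU s hsP hd)
    · exact Cfsg.Agent.Lib.Helper31BGS.not_dvd_sigmaCore hG hM hsP hss hd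
  have hSM : IsSyl s S M :=
    Cfsg.Agent.Lib.Helper31BGS.isSyl_of_not_dvd_relIndex hS hKU.compl.1 hrel
  have hsM : s ∣ Nat.card M := hsU.trans (card_dvd_of_le hKU.compl.1)
  refine ⟨sup_le hUN hKN, hSM, hss, ?_, ?_⟩
  · intro hN
    apply hss
    refine ⟨hsP, hsM, hSM.toSylow, ?_⟩
    rw [hSM.map_toSylow]
    exact hN
  · have h29 := (Cfsg.Agent.S1429.result hG M hM (fun hall => hsk (hall s hsP hsM hss)) s hsM
      (by rintro (h1 | h1); exacts [hss h1, hsk h1]) hSM.toSylow).2.1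
    rw [eq_bot_iff, ← h29]
    refine inf_le_inf_left _ (centralizer_le ?_)
    have : closure {x : G | x ∈ ((hSM.toSylow : Sylow s M) : Subgroup M).map M.subtype ∧ x ^ s = 1}
        ≤ S := by
      rw [closure_le]
      rintro x ⟨hx, -⟩
      rw [hSM.map_toSylow] at hx
      exact hx
    exact this

end Cfsg.Agent.Lib.H30BG1412sylU
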