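import Mathlib
import Cfsg.Agent.Lib.Helper52BG14
import Cfsg.Agent.Lib.Helper52BG14Defs
import Cfsg.Agent.Lib.Helper27BG16basic
import Cfsg.Agent.Lib.Helper30BG1412Defs
import Cfsg.Agent.Lib.H30BG1412basic
import Cfsg.Agent.Lib.H30BG1412sylU
import Cfsg.Agent.Lib.H30BG1412lemmaF

/-!
PROJECT 1412 (B-G 14.12 = S1435), piece `Usigma`.  Proof sketch: notes/helper30/BG1412.md.
-/

set_option autoImplicit false

namespace Cfsg.Agent.Lib.H30BG1412Usigma

open Cfsg Subgroup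
open Cfsg.Agent.Lib.Helper30Trans Cfsg.Agent.Lib.Helper24BG Cfsg.Agent.Lib.Helper52BG14Defs
open Cfsg.Agent.Lib.Helper30BG1412Defs
open Cfsg.Agent.Lib.H30BG1412basic Cfsg.Agent.Lib.H30BG1412sylU Cfsg.Agent.Lib.H30BG1412lemmaF

variable {G : Type*} [Group G] [Finite G]

theorem U_le_sigmaCore (hG : IsMinSimpleOddOrder G) {M K U Ms : Subgroup G} (h : P2 M K U Ms)
    (hbeta : ∀ r : ℕ, r.Prime → r ∣ Nat.card (sigmaCore M) → r ∈ beta M)
    {H : Subgroup G} (hH : IsCoatom H) (hk : kappa H = ∅) (hp : Nat.card K ∉ sigma H)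
    (hUK : U ⊔ K ≤ H) : U ≤ sigmaCore H := by
  have hUH : U ≤ H := le_sup_left.trans hUK
  have hKH : K ≤ H := le_sup_right.trans hUK
  apply Cfsg.Agent.Lib.Helper31BGS.le_sigmaCore hG hH hUH
  intro s hsP hsU
  by_contra hsH
  haveI : Fact s.Prime := ⟨hsP⟩
  obtain ⟨x, hx⟩ := exists_prime_orderOf_dvd_card' (G := U) s hsU
  have hxo : orderOf (x : G) = s := by rw [Subgroup.orderOf_coe]; exact hx
  have hB : IsPGroup s (zpowers (x : G)) := by
    apply IsPGroup.of_card (n := 1)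
    rw [Nat.card_zpowers, hxo, pow_one]
  have hBU : zpowers (x : G) ≤ U := by
    rw [zpowers_le]; exact x.2
  obtain ⟨S, hS, hBS⟩ := exists_isSyl_ge hBU hB
  have hS1 : S ≠ ⊥ := by
    rintro rfl
    have h1 : (x : G) = 1 := by
      have := hBS (mem_zpowers (x : G))
      simpa using this
    rw [h1, orderOf_one] at hxo
    exact hsP.one_lt.ne hxo
  obtain ⟨hN, -, -, -, -⟩ := sylU hG h hS hS1
  have hKN : K ≤ normalizer (S : Set G) := le_sup_right.trans hN
  have hpP := card_K hG h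
  have hsp : s ≠ Nat.card K := by
    intro he
    have h1 := Cfsg.Agent.Lib.Helper27BG16basic.coprime_K_U hG h.hM h.hKU
    have h2 : s ∣ Nat.gcd (Nat.card K) (Nat.card U) := Nat.dvd_gcd (he ▸ dvd_rfl) hsU
    rw [Nat.coprime_iff_gcd_eq_one.mp h1] at h2
    exact hsP.one_lt.ne' (Nat.dvd_one.mp h2)
  obtain ⟨n, hn⟩ := IsPGroup.iff_card.mp hS.2.1
  have hcop : (Nat.card K).Coprime (Nat.card S) := by
    rw [hn]
    apply Nat.Coprime.pow_right
    exact (Nat.coprime_primes hpP hsP).mpr (Ne.symm hsp)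
  have hcard := Cfsg.Agent.Lib.Helper30SZ.card_sup hKN hcop
  have hSKH : S ⊔ K ≤ H := sup_le (hS.1.trans hUH) hKH
  obtain ⟨F, hF, hle⟩ := Cfsg.Agent.Lib.Helper31BGS.exists_compl_ge hG hH hSKH (by
    intro q hq hqd
    rw [hcard, hq.dvd_mul] at hqd
    rcases hqd with hqd | hqd
    · rw [hn] at hqd
      have := (Nat.prime_dvd_prime_iff_eq hq hsP).mp (hq.dvd_of_dvd_pow hqd)
      rw [this]; exact hsH
    · have := (Nat.prime_dvd_prime_iff_eq hq hpP).mp hqd
      rw [this]; exact hp)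
  have hFM := (lemmaF hG h hbeta hH hk hF (le_sup_right.trans hle)).1
  exact not_le_Ms hG h hS.1 hS1 ((le_sup_left.trans hle).trans hFM)

end Cfsg.Agent.Lib.H30BG1412Usigma
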