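import Mathlib
import Cfsg.Agent.Lib.Helper52BG14
import Cfsg.Agent.Lib.Helper27BG16basic
import Cfsg.Agent.Lib.Helper52BG14Defs
import Cfsg.Agent.Lib.Helper30BG1412Defs
import Cfsg.Agent.Lib.H30BG1412sylU
import Cfsg.Agent.Lib.Helper55Core

/-!
PROJECT 1412 (B-G 14.12 = S1435), piece `inter`.  Proof sketch: notes/helper30/BG1412.md.
-/

set_option autoImplicit false

namespace Cfsg.Agent.Lib.H30BG1412inter

open Cfsg Subgroup
open Cfsg.Agent.Lib.Helper30Trans Cfsg.Agent.Lib.Helper24BG Cfsg.Agent.Lib.Helper52BG14Defs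
open Cfsg.Agent.Lib.Helper30BG1412Defs
open Cfsg.Agent.Lib.H30BG1412sylU
open scoped commutatorElement

variable {G : Type*} [Group G] [Finite G]

theorem inter_eq (hG : IsMinSimpleOddOrder G) {M K U Ms : Subgroup G} (h : P2 M K U Ms)
    {H : Subgroup G} (hH : IsCoatom H) (hUK : U ⊔ K ≤ H) (hU : U ≤ sigmaCore H) :
    M ⊓ H = U ⊔ K := by
  have hUM : U ≤ M := h.hKU.compl.1
  have hKM : K ≤ M := h.hKU.hall.1
  -- a prime divisor of `|U|`
  have hcU : Nat.card U ≠ 1 := fun hc => h.hU1 ((card_eq_one).1 hc)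
  obtain ⟨r, hr, hrU⟩ := Nat.exists_prime_and_dvd hcU
  have := Fact.mk hr
  obtain ⟨R, hRsyl, -⟩ := exists_isSyl_ge (p := r) (bot_le : (⊥ : Subgroup G) ≤ U) IsPGroup.of_bot
  have hR1 : R ≠ ⊥ := by
    intro hb
    obtain ⟨x, hx⟩ := exists_prime_orderOf_dvd_card' (G := ↥U) r hrU
    have hxo : orderOf (x : G) = r := by rw [Subgroup.orderOf_coe]; exact hx
    have hQ : IsPGroup r (zpowers (x : G)) := by
      rw [IsPGroup.iff_card]
      exact ⟨1, by rw [Nat.card_zpowers, hxo, pow_one]⟩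
    have h1 := hRsyl.2.2 (zpowers (x : G)) (by rw [zpowers_le]; exact x.2) hQ (hb ▸ bot_le)
    rw [hb, zpowers_eq_bot] at h1
    rw [h1, orderOf_one] at hxo
    exact hr.one_lt.ne hxo
  obtain ⟨-, -, hrM, -, hcent⟩ := sylU hG h hRsyl hR1
  have hRU : R ≤ U := hRsyl.1
  have hrH : r ∈ sigma H := by
    apply Cfsg.Agent.Lib.Helper30BG2.card_sigmaCore hG hH r hr
    exact dvd_card_of_pgroup hRsyl.2.1 hR1 (hRU.trans hU)
  have hdisj : sigmaCore M ⊓ sigmaCore H = ⊥ := by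
    apply (disjoint_of_coprime_natCard _).eq_bot
    apply Nat.coprime_of_dvd
    intro q hq h1 h2
    have hqM := Cfsg.Agent.Lib.Helper30BG2.card_sigmaCore hG h.hM q hq h1
    have hqH := Cfsg.Agent.Lib.Helper30BG2.card_sigmaCore hG hH q hq h2
    obtain ⟨g, hg⟩ := Cfsg.Agent.Lib.Helper37BGPart.sigma_conj hG h.hM hH hqM hqH
    rw [hg, Cfsg.Agent.Lib.Helper21BGExcbasic.sigma_cj] at hrH
    exact hrM hrH
  have hD : sigmaCore M ⊓ H = ⊥ := by
    rw [eq_bot_iff, ← hcent]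
    refine le_inf inf_le_left ?_
    have hc : ⁅sigmaCore M ⊓ H, R⁆ = ⊥ := by
      rw [eq_bot_iff, ← hdisj]
      refine le_inf ?_ ?_
      · refine (commutator_mono inf_le_left le_rfl).trans ?_
        exact Cfsg.Agent.Lib.Helper55Core.commutator_le_left_of_le_normalizer
          ((hRU.trans hUM).trans (Cfsg.Agent.Lib.Helper30BG2.le_normalizer_sigmaCore M))
      · refine (commutator_mono inf_le_right (hRU.trans hU)).trans ?_
        rw [commutator_comm]
        exact Cfsg.Agent.Lib.Helper55Core.commutator_le_left_of_le_normalizer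
          (Cfsg.Agent.Lib.Helper30BG2.le_normalizer_sigmaCore H)
    rw [commutator_eq_bot_iff_le_centralizer] at hc
    exact hc
  apply le_antisymm _ (le_inf (sup_le hUM hKM) hUK)
  rintro m ⟨hmM, hmH⟩
  obtain ⟨e, he, a, ha, rfl⟩ := (Cfsg.Agent.Lib.Helper27BG16basic.compl_KU hG h.hM h.hKU).2.2.2 m hmM
  have he' : e ∈ U ⊔ K := by rw [sup_comm]; exact he
  have haH : a ∈ H := by
    have := H.mul_mem (H.inv_mem (hUK he')) hmH
    simpa using this
  have ha1 : a ∈ sigmaCore M ⊓ H := ⟨ha, haH⟩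
  rw [hD, mem_bot] at ha1
  rw [ha1, mul_one]; exact he'

end Cfsg.Agent.Lib.H30BG1412inter
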