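import Mathlib
import Cfsg.Agent.Lib.Helper52BG14
import Cfsg.Agent.Lib.Helper52BG14Defs
import Cfsg.Agent.Lib.Helper30BG1412Defs
import Cfsg.Agent.Lib.H30BG1412basic
import Cfsg.Agent.Lib.H30BG1412sylU

/-!
PROJECT 1412 (B-G 14.12 = S1435), piece `kempty`.  Proof sketch: notes/helper30/BG1412.md.
-/

set_option autoImplicit false

namespace Cfsg.Agent.Lib.H30BG1412kempty

open Cfsg Subgroup
open Cfsg.Agent.Lib.Helper30Trans Cfsg.Agent.Lib.Helper24BG Cfsg.Agent.Lib.Helper52BG14Defs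
open Cfsg.Agent.Lib.Helper30BG1412Defs
open Cfsg.Agent.Lib.H30BG1412basic Cfsg.Agent.Lib.H30BG1412sylU

variable {G : Type*} [Group G] [Finite G]

theorem card_isSyl {p : ℕ} [Fact p.Prime] {R X : Subgroup G} (hR : IsSyl p R X) :
    Nat.card R = p ^ (Nat.card X).factorization p := by
  have := hR.toSylow.card_eq_multiplicity
  rw [← this]
  show Nat.card R = Nat.card (R.subgroupOf X)
  exact (Nat.card_congr (subgroupOfEquivOfLe hR.1).toEquiv).symm

theorem kappa_empty (hG : IsMinSimpleOddOrder G) {M K U Ms : Subgroup G} (h : P2 M K U Ms) {r : ℕ}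
    [Fact r.Prime] {R : Subgroup G} (hR : IsSyl r R U) (hR1 : R ≠ ⊥) {H : Subgroup G}
    (hH : IsCoatom H) (hNR : normalizer (R : Set G) ≤ H) :
    kappa H = ∅ ∧ Nat.card K ∉ sigma H ∧ H ≠ M := by
  obtain ⟨hUK, hRM, hrs, hnot, -⟩ := sylU hG h hR hR1
  have hKH : K ≤ H := (le_sup_right.trans hUK).trans hNR
  have hRH : R ≤ H := le_normalizer.trans hNR
  have hp : Nat.card K ∉ sigma H := by
    intro hp
    have := eq_Ms hG h hH hKH hp
    exact not_le_Ms hG h hR.1 hR1 (this ▸ hRH)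
  refine ⟨?_, hp, ?_⟩
  · by_contra hne
    have hne' : (kappa H).Nonempty := Set.nonempty_iff_ne_empty.mpr hne
    rcases two_classes hG h hH hne' with ⟨g, hg⟩ | h2
    · obtain ⟨Q, hQ, hRQ⟩ := exists_isSyl_ge hRH hR.2.1
      have hc : Nat.card Q = Nat.card R := by
        rw [card_isSyl hQ, card_isSyl hRM, hg, card_cj]
      have hQR : R = Q := by
        apply SetLike.coe_injective
        apply Set.eq_of_subset_of_ncard_le hRQ _ (Set.toFinite _)
        have h1 : (Q : Set G).ncard = Nat.card Q := rfl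
        have h2 : (R : Set G).ncard = Nat.card R := rfl
        rw [h1, h2, hc]
      have hs : r ∈ sigma H :=
        Cfsg.Agent.Lib.Helper27BGa.mem_sigma_of_isSyl (hQR ▸ hQ) hR1 hNR
      rw [hg, Cfsg.Agent.Lib.Helper21BGExcbasic.sigma_cj] at hs
      exact hrs hs
    · exact hp h2
  · rintro rfl
    exact hnot hNR

end Cfsg.Agent.Lib.H30BG1412kempty
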