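import Mathlib
import Cfsg.Agent.Lib.Helper52BG14
import Cfsg.Agent.Lib.Helper27BG16basic
import Cfsg.Agent.S1429
import Cfsg.Agent.Lib.Helper52BG14Defs
import Cfsg.Agent.Lib.Helper30BG1412Defs
import Cfsg.Agent.Lib.H30BG1412basic

/-!
PROJECT 1412 (B-G 14.12 = S1435), piece `normU`.  Proof sketch: notes/helper30/BG1412.md.
-/

set_option autoImplicit false

namespace Cfsg.Agent.Lib.H30BG1412normU

open Cfsg Subgroup
open Cfsg.Agent.Lib.Helper30Trans Cfsg.Agent.Lib.Helper24BG Cfsg.Agent.Lib.Helper52BG14Defs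
open Cfsg.Agent.Lib.Helper30BG1412Defs

variable {G : Type*} [Group G] [Finite G]

theorem normU_not_le (hG : IsMinSimpleOddOrder G) {M K U Ms : Subgroup G} (h : P2 M K U Ms)
    {H : Subgroup G} (hH : IsCoatom H) (hk : kappa H = ∅) (hp : Nat.card K ∉ sigma H)
    (hne : H ≠ M) (hU : U ≤ sigmaCore H) (hMH : M ⊓ H = U ⊔ K) :
    ¬ H ⊓ normalizer (U : Set G) ≤ M := by
  intro hcon
  have hpr : (Nat.card K).Prime := Cfsg.Agent.Lib.H30BG1412basic.card_K hG h
  have := Fact.mk hpr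
  have hKH : K ≤ H := (le_sup_right : K ≤ U ⊔ K).trans (hMH ▸ inf_le_right)
  have hdvd : Nat.card K ∣ Nat.card H := Subgroup.card_dvd_of_le hKH
  have hP1 : ¬ (∀ q : ℕ, q.Prime → q ∣ Nat.card H → q ∉ sigma H → q ∈ kappa H) := by
    intro hall
    have h1 := hall _ hpr hdvd hp
    rw [hk] at h1
    exact h1
  have hp' : Nat.card K ∉ sigma H ∪ kappa H := by
    rw [hk, Set.union_empty]; exact hp
  obtain ⟨-, -, hnil⟩ := Cfsg.Agent.S1429.result hG H hH hP1 (Nat.card K) hdvd hp'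
    (Classical.arbitrary (Sylow (Nat.card K) H))
  have hSH : sigmaCore H ≤ H := Cfsg.Agent.Lib.Helper30BG2.sigmaCore_le H
  -- `K ∩ H_σ = 1`
  have hKS : K ⊓ sigmaCore H = ⊥ := by
    apply (disjoint_of_coprime_natCard _).eq_bot
    rw [Nat.Prime.coprime_iff_not_dvd hpr]
    intro hd
    exact hp (Cfsg.Agent.Lib.Helper30BG2.card_sigmaCore hG hH _ hpr hd)
  have hint : (U ⊔ K) ⊓ sigmaCore H ≤ U := by
    rintro x ⟨hx1, hx2⟩
    obtain ⟨u, hu, k, hk', rfl⟩ := (Cfsg.Agent.Lib.Helper30SZ.mem_sup_iff h.hKU.normal).1 hx1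
    have h1 : k ∈ K ⊓ sigmaCore H := by
      refine ⟨hk', ?_⟩
      have := (sigmaCore H).mul_mem ((sigmaCore H).inv_mem (hU hu)) hx2
      simpa using this
    rw [hKS, mem_bot] at h1
    rw [h1, mul_one]; exact hu
  by_cases hUS : U = sigmaCore H
  · apply hne
    have h1 : H ≤ normalizer (U : Set G) := by
      rw [hUS]; exact Cfsg.Agent.Lib.Helper30BG2.le_normalizer_sigmaCore H
    have h2 : H ≤ M := (le_inf le_rfl h1).trans hcon
    rcases h2.lt_or_eq with h3 | h3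
    · exact absurd (hH.2 M h3) h.hM.1
    · exact h3
  · have hlt : U.subgroupOf (sigmaCore H) < ⊤ := by
      rw [lt_top_iff_ne_top]
      intro ht
      rw [subgroupOf_eq_top] at ht
      exact hUS (le_antisymm hU ht)
    have h1 := Group.normalizerCondition_of_isNilpotent (G := ↥(sigmaCore H)) _ hlt
    obtain ⟨x, hx1, hx2⟩ := SetLike.exists_of_lt h1
    rw [← subgroupOf_normalizer_eq hU, mem_subgroupOf] at hx1
    apply hx2
    rw [mem_subgroupOf]
    apply hint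
    refine ⟨?_, x.2⟩
    rw [← hMH]
    exact ⟨hcon ⟨hSH x.2, hx1⟩, hSH x.2⟩

end Cfsg.Agent.Lib.H30BG1412normU
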