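import Cfsg.Agent.Lib.Helper63Derange

set_option autoImplicit false
set_option linter.style.haveILetI false
set_option linter.unusedSectionVars false

namespace Cfsg.Agent.Lib.Helper63Prim

open MulAction Cfsg.Agent.Lib.Helper63Derange

/-- Minimal elements among subgroups of a finite group. -/
theorem exists_minimal_subgroup {G : Type*} [Group G] [Finite G] (P : Subgroup G → Prop)
    (S₀ : Subgroup G) (h : P S₀) :
    ∃ S, P S ∧ S ≤ S₀ ∧ ∀ S', P S' → S' ≤ S → S' = S := by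
  classical
  induction' hn : Nat.card S₀ using Nat.strong_induction_on with n ih generalizing S₀
  by_cases hmin : ∀ S', P S' → S' ≤ S₀ → S' = S₀
  · exact ⟨S₀, h, le_rfl, hmin⟩
  · push Not at hmin
    obtain ⟨S', hS', hle, hne⟩ := hmin
    have hlt : Nat.card S' < n := by
      rw [← hn]
      apply lt_of_le_of_ne (Subgroup.card_le_of_le hle)
      intro hc
      exact hne (Subgroup.eq_of_le_of_card_ge hle hc.ge)
    obtain ⟨S, h1, h2, h3⟩ := ih _ hlt S' hS' rfl
    exact ⟨S, h1, h2.trans hle, h3⟩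

/-- Jordan's lemma: a finite group is not the union of the conjugates of a proper subgroup. -/
theorem jordan {T : Type*} [Group T] [Finite T] (R : Subgroup T) (hR : R ≠ ⊤) :
    ∃ x : T, ∀ t : T, t * x * t⁻¹ ∉ R := by
  by_contra hcon
  push Not at hcon
  apply hR
  have h1 := (counting (G := T) (Ω := T ⧸ R) ⊥ (fun g _ => by
    obtain ⟨t, ht⟩ := hcon g
    refine ⟨((t⁻¹ : T) : T ⧸ R), ?_⟩
    change ((g * t⁻¹ : T) : T ⧸ R) = ((t⁻¹ : T) : T ⧸ R)
    rw [QuotientGroup.eq]
    have : (g * t⁻¹)⁻¹ * t⁻¹ = (t * g * t⁻¹)⁻¹ := by group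
    rw [this]
    exact R.inv_mem ht)).1
  rw [Nat.card_eq_one_iff_unique] at h1
  have h2 : IsPretransitive (⊥ : Subgroup T) (T ⧸ R) :=
    (pretransitive_iff_subsingleton_quotient _ _).mpr h1.1
  rw [eq_top_iff]
  intro x _
  obtain ⟨⟨b, hb⟩, hbx⟩ := h2.exists_smul_eq ((1 : T) : T ⧸ R) ((x : T) : T ⧸ R)
  rw [Subgroup.mem_bot] at hb
  subst hb
  have h3 : ((1 : T) : T ⧸ R) = ((x : T) : T ⧸ R) := by
    rw [← hbx]
    exact (one_smul T _).symm
  rw [QuotientGroup.eq] at h3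
  simpa using h3

section
variable {G Ω : Type*} [Group G] [Finite G] [MulAction G Ω] [FaithfulSMul G Ω]

theorem pretransitive_of_normal [hprim : IsPreprimitive G Ω] (N : Subgroup G) [N.Normal]
    (hN : N ≠ ⊥) : IsPretransitive N Ω := by
  apply IsQuasiPreprimitive.isPretransitive_of_normal (G := G)
  intro h
  apply hN
  rw [eq_bot_iff]
  intro x hx
  rw [Subgroup.mem_bot]
  apply FaithfulSMul.eq_of_smul_eq_smul (α := Ω)
  intro a
  have : a ∈ fixedPoints N Ω := by rw [h]; trivial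
  rw [one_smul]
  exact this ⟨x, hx⟩

/-- If `C` is transitive and commutes with `x`, and `x` has a fixed point, then `x = 1`. -/
theorem eq_one_of_commute_transitive (C : Subgroup G) [IsPretransitive C Ω] (x : G)
    (hx : ∀ c ∈ C, c * x = x * c) (ω : Ω) (hω : x • ω = ω) : x = 1 := by
  apply FaithfulSMul.eq_of_smul_eq_smul (α := Ω)
  intro a
  obtain ⟨c, rfl⟩ := exists_smul_eq C ω a
  rw [one_smul]
  change x • (c : G) • ω = (c : G) • ω
  rw [← mul_smul, ← hx c c.2, mul_smul, hω]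

theorem isPGroup_of_der (p : ℕ)
    (hder : ∀ g : G, (∀ ω : Ω, g • ω ≠ ω) → ∃ k : ℕ, orderOf g = p ^ k) (S : Subgroup G)
    (hS : ∀ s ∈ S, s ≠ 1 → ∀ ω : Ω, s • ω ≠ ω) : IsPGroup p S := by
  intro g
  by_cases hg : (g : G) = 1
  · exact ⟨0, by simpa using Subtype.ext hg⟩
  · obtain ⟨k, hk⟩ := hder g (hS g g.2 hg)
    refine ⟨k, Subtype.ext ?_⟩
    rw [Subgroup.coe_pow, ← hk, pow_orderOf_eq_one]
    rfl

end

theorem center_ne_bot {G : Type*} [Group G] [Finite G] (p : ℕ) [Fact p.Prime] (S : Subgroup G)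
    (hS : S ≠ ⊥) (hp : IsPGroup p S) : S ⊓ Subgroup.centralizer (S : Set G) ≠ ⊥ := by
  haveI : Nontrivial S := (Subgroup.nontrivial_iff_ne_bot S).mpr hS
  haveI : Nontrivial (Subgroup.center S) := hp.center_nontrivial
  obtain ⟨z, hz⟩ := exists_ne (1 : Subgroup.center S)
  intro hbot
  apply hz
  have h1 : ((z : S) : G) ∈ S ⊓ Subgroup.centralizer (S : Set G) := by
    refine Subgroup.mem_inf.mpr ⟨(z : S).2, ?_⟩
    rw [Subgroup.mem_centralizer_iff]
    intro s hs
    have := (Subgroup.mem_center_iff.mp z.2) ⟨s, hs⟩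
    exact congrArg Subtype.val this
  rw [hbot, Subgroup.mem_bot] at h1
  exact Subtype.ext (Subtype.ext h1)

end Cfsg.Agent.Lib.Helper63Prim
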