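import Mathlib
import Cfsg.Prelude.Def_Transfer
import Cfsg.Prelude.Def_CaseTheorems
import Cfsg.Prelude.Def_ClassicalGeometry

/-! # Vocabulary for S2136 (involution centraliser `2^{1+8} Sp(6,2)` of `Co2`) (helper33) -/

set_option autoImplicit false

namespace Cfsg.Agent.Lib.H33I2Defs

open Cfsg

/-- the property asserted by S2136, for an arbitrary group `G` and target `S` -/
def HasInv (G : Type*) [Group G] (S : Type*) [Group S] : Prop :=
  ∃ t : G, orderOf t = 2 ∧
    Cfsg.IsExtraspecial 2 (Cfsg.pCore 2 ↥(Subgroup.centralizer ({t} : Set G))) ∧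
    Nat.card (Cfsg.pCore 2 ↥(Subgroup.centralizer ({t} : Set G))) = 2 ^ 9 ∧
    Nonempty (↥(Subgroup.centralizer ({t} : Set G)) ⧸
      Cfsg.pCore 2 ↥(Subgroup.centralizer ({t} : Set G)) ≃* S)

abbrev I6 : Type := Fin 3 ⊕ Fin 3
abbrev V6 : Type := I6 → ZMod 2
abbrev Sp6 : Type := ↥(Matrix.symplecticGroup (Fin 3) (ZMod 2))

end Cfsg.Agent.Lib.H33I2Defs
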