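import Cfsg.Agent.Lib.H33I2Defs
import Cfsg.Agent.Lib.Helper3PGroup

set_option autoImplicit false

namespace Cfsg.Agent.Lib.H33I2Extra

open Cfsg Cfsg.Agent.Lib.H33I2Defs
open scoped commutatorElement

/-- abstract elementwise criterion -/
theorem extraspecial_of_elts {Q : Type*} [Group Q] (z : Q) (n : ℕ) (hn : 2 ≤ n)
    (card : Nat.card Q = 2 ^ n) (z_ne : z ≠ 1) (zc : ∀ r : Q, z * r = r * z)
    (cen : ∀ r : Q, (∀ s, s * r = r * s) → r = 1 ∨ r = z)
    (sq : ∀ r : Q, r * r = 1 ∨ r * r = z) : Cfsg.IsExtraspecial 2 Q := by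
  have hfin : Finite Q := Nat.finite_of_card_ne_zero (by rw [card]; positivity)
  have : Fact (Nat.Prime 2) := ⟨Nat.prime_two⟩
  have hP : IsPGroup 2 Q := IsPGroup.of_card card
  have z_sq : z * z = 1 := by
    rcases sq z with h1 | h1
    · exact h1
    · exact absurd (mul_eq_left.mp h1) z_ne
  have mem_center : ∀ r : Q, r ∈ Subgroup.center Q ↔ r = 1 ∨ r = z := by
    intro r
    rw [Subgroup.mem_center_iff]
    constructor
    · exact cen r
    · rintro (rfl | rfl)
      · intro s; simp
      · intro s; exact (zc s).symm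
  have ho : orderOf z = 2 := orderOf_eq_prime (by rw [pow_two]; exact z_sq) z_ne
  have center_eq : Subgroup.center Q = Subgroup.zpowers z := by
    ext r
    rw [mem_center]
    constructor
    · rintro (h1 | h1)
      · rw [h1]; exact Subgroup.one_mem _
      · rw [h1]; exact Subgroup.mem_zpowers z
    · intro hr
      rw [← mem_powers_iff_mem_zpowers, Submonoid.mem_powers_iff] at hr
      obtain ⟨n, rfl⟩ := hr
      rw [← pow_mod_orderOf, ho]
      have h2 : n % 2 = 0 ∨ n % 2 = 1 := by omega
      rcases h2 with h2 | h2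
      · left; rw [h2, pow_zero]
      · right; rw [h2, pow_one]
  have card_center : Nat.card (Subgroup.center Q) = 2 := by
    rw [center_eq, Nat.card_zpowers, ho]
  have sq_mem : ∀ r : Q, r * r ∈ Subgroup.center Q := fun r => (mem_center _).2 (sq r)
  have comm_mem : ∀ a b : Q, ⁅a, b⁆ ∈ Subgroup.center Q := by
    intro a b
    have hc : ∀ s, s * (a⁻¹ * a⁻¹) = (a⁻¹ * a⁻¹) * s := Subgroup.mem_center_iff.1 (sq_mem a⁻¹)
    have h1 : ⁅a, b⁆ = (a * b) * (a * b) * ((a⁻¹ * a⁻¹) * (b⁻¹ * b⁻¹)) := by
      rw [commutatorElement_def]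
      calc a * b * a⁻¹ * b⁻¹ = a * b * a * ((a⁻¹ * a⁻¹) * b) * (b⁻¹ * b⁻¹) := by group
        _ = a * b * a * (b * (a⁻¹ * a⁻¹)) * (b⁻¹ * b⁻¹) := by rw [hc b]
        _ = _ := by group
    rw [h1]
    exact mul_mem (sq_mem _) (mul_mem (sq_mem _) (sq_mem _))
  have exists_noncomm : ∃ r s : Q, r * s ≠ s * r := by
    by_contra hcon
    push Not at hcon
    have h1 : Subgroup.center Q = ⊤ := by
      rw [eq_top_iff]
      intro r _
      rw [Subgroup.mem_center_iff]
      intro s
      exact hcon s r
    rw [h1, Subgroup.card_top, card] at card_center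
    have : 2 ^ 2 ≤ 2 ^ n := Nat.pow_le_pow_right (by norm_num) hn
    omega
  have commutator_eq : commutator Q = Subgroup.center Q := by
    apply le_antisymm
    · rw [commutator_def, Subgroup.commutator_le]
      intro a _ b _
      exact comm_mem a b
    · obtain ⟨r, s, hrs⟩ := exists_noncomm
      have h2 : ⁅r, s⁆ = z := by
        refine ((mem_center _).1 (comm_mem r s)).resolve_left fun h0 => hrs ?_
        exact commutatorElement_eq_one_iff_mul_comm.1 h0
      have h3 : z ∈ commutator Q := by
        rw [← h2]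
        exact Subgroup.commutator_mem_commutator (Subgroup.mem_top _) (Subgroup.mem_top _)
      intro t ht
      rcases (mem_center t).mp ht with rfl | rfl
      · exact Subgroup.one_mem _
      · exact h3
  refine ⟨⟨hP, ?_, commutator_eq⟩, card_center⟩
  apply le_antisymm
  · apply Cfsg.Agent.Lib.Helper3PGroup.frattini_le_of_elementary (p := 2)
    · rw [commutator_eq]
    · intro x
      rw [pow_two]
      exact sq_mem x
  · rw [← commutator_eq]
    exact Cfsg.Agent.Lib.Helper3PGroup.commutator_le_frattini hP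

/-- Elementwise criterion for `2^{1+8}`, for a subgroup `K` of `C` whose image under an injective
hom `φ` is an explicit duplicate-free list of 512 elements.
Sketch: `Nat.card K = 512` (bijection with the list), so `K` is a 2-group; `center K = {1, z'}`
(`φ z' = z`), of order 2; squares lie in the centre so `K / Z` is elementary abelian:
`commutator K ≤ Z`, `frattini K ≤ Z`
(`Cfsg.Agent.Lib.Helper3PGroup.frattini_le_of_elementary`); `K` is not abelian (else `center K = K`
has order 512), so `commutator K = Z`; `commutator ≤ frattini`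
(`Cfsg.Agent.Lib.Helper3PGroup.commutator_le_frattini`).  Model proof:
`Cfsg.Agent.Helper64ES.ES32.extraspecial` in `Lib/Helper64ES32.lean`. -/
theorem extraspecial_of_list {C G : Type*} [Group C] [Group G] (φ : C →* G)
    (hφ : Function.Injective φ) (K : Subgroup C) (L : List G) (hL : L.Nodup)
    (hlen : L.length = 512) (hK : ∀ y : G, y ∈ L ↔ ∃ x ∈ K, φ x = y)
    (z : G) (hzL : z ∈ L) (hz1 : z ≠ 1) (hzc : ∀ y ∈ L, z * y = y * z)
    (hcen : ∀ x ∈ L, (∀ y ∈ L, x * y = y * x) → x = 1 ∨ x = z)
    (hsq : ∀ x ∈ L, x * x = 1 ∨ x * x = z) :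
    Cfsg.IsExtraspecial 2 ↥K ∧ Nat.card ↥K = 2 ^ 9 := by
  classical
  have hmem : ∀ x : K, φ x ∈ L := fun x => (hK _).2 ⟨x, x.2, rfl⟩
  have hcard : Nat.card ↥K = 2 ^ 9 := by
    have e : K ≃ {y // y ∈ L.toFinset} :=
      Equiv.ofBijective (fun x : K => ⟨φ x, List.mem_toFinset.2 (hmem x)⟩) ⟨by
        intro x y hxy
        exact Subtype.ext (hφ (congrArg Subtype.val hxy)), by
        rintro ⟨y, hy⟩
        obtain ⟨x, hx, rfl⟩ := (hK y).1 (List.mem_toFinset.1 hy)
        exact ⟨⟨x, hx⟩, rfl⟩⟩
    rw [Nat.card_congr e, Nat.card_eq_fintype_card, Fintype.card_coe,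
      List.toFinset_card_of_nodup hL, hlen]
    norm_num
  refine ⟨?_, hcard⟩
  obtain ⟨z0, hz0K, hz0⟩ := (hK z).1 hzL
  have hinj : ∀ x y : K, φ x = φ y → x = y := fun x y h => Subtype.ext (hφ h)
  apply extraspecial_of_elts (⟨z0, hz0K⟩ : K) 9 (by norm_num) hcard
  · intro h0
    apply hz1
    rw [← hz0]
    have : z0 = 1 := congrArg Subtype.val h0
    rw [this, map_one]
  · intro r
    apply hinj
    show φ (z0 * r) = φ (r * z0)
    rw [map_mul, map_mul, hz0]
    exact hzc _ (hmem r)
  · intro r hr
    have h1 : ∀ y ∈ L, φ r * y = y * φ r := by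
      intro y hy
      obtain ⟨x, hx, rfl⟩ := (hK y).1 hy
      have := congrArg (fun w : K => φ w) (hr ⟨x, hx⟩)
      simp only [Subgroup.coe_mul, map_mul] at this
      exact this.symm
    rcases hcen _ (hmem r) h1 with h2 | h2
    · left
      apply hinj
      rw [h2]
      simp
    · right
      apply hinj
      rw [h2]
      exact hz0.symm
  · intro r
    rcases hsq _ (hmem r) with h2 | h2
    · left
      apply hinj
      show φ (r * r) = φ 1
      rw [map_mul, h2, map_one]
    · right
      apply hinj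
      show φ (r * r) = φ z0
      rw [map_mul, h2, hz0]

end Cfsg.Agent.Lib.H33I2Extra
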