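import Mathlib
import Cfsg.Agent.Lib.Helper33Golay

set_option autoImplicit false

/-!
Arithmetic of packed permutations of the 24 points (5 bits per image, as in `Helper33Golay`):
composition, mask of fixed points.
-/

namespace Cfsg.Agent.Lib.Helper88Packed

open Cfsg Cfsg.Agent.Lib.Helper33Golay
open scoped Pointwise

theorem testBit_img (X i k : ℕ) : (img X i).testBit k = (decide (k < 5) && X.testBit (5 * i + k)) := by
  unfold img
  show ((X >>> (5 * i)) &&& 31).testBit k = _
  have h : (31 : ℕ) = 2 ^ 5 - 1 := by norm_num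
  rw [Nat.testBit_and, Nat.testBit_shiftRight, h, Nat.testBit_two_pow_sub_one, Bool.and_comm]

theorem img_lt32 (X i : ℕ) : img X i < 32 := by
  unfold img
  show (X >>> (5 * i)) &&& 31 < 32
  exact lt_of_le_of_lt Nat.and_le_right (by norm_num)

theorem testBit_foldr_pack (f : ℕ → ℕ) (l : List ℕ) (n : ℕ) :
    (l.foldr (fun j acc => Nat.lor (Nat.shiftLeft (f j) (Nat.mul 5 j)) acc) 0).testBit n = true ↔
      ∃ j ∈ l, 5 * j ≤ n ∧ (f j).testBit (n - 5 * j) = true := by
  induction l with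
  | nil => simp
  | cons a t ih =>
    rw [List.foldr_cons]
    show ((f a <<< (5 * a)) ||| _).testBit n = true ↔ _
    rw [Nat.testBit_or, Bool.or_eq_true, ih, Nat.testBit_shiftLeft]
    simp

theorem img_foldr_pack (f : ℕ → ℕ) (hf : ∀ j, f j < 32) (l : List ℕ) {i : ℕ} (hi : i ∈ l) :
    img (l.foldr (fun j acc => Nat.lor (Nat.shiftLeft (f j) (Nat.mul 5 j)) acc) 0) i = f i := by
  apply Nat.eq_of_testBit_eq
  intro k
  rw [testBit_img]
  by_cases hk : k < 5
  · simp only [hk, decide_true, Bool.true_and]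
    rw [Bool.eq_iff_iff, testBit_foldr_pack]
    constructor
    · rintro ⟨j, -, h1, h2⟩
      have h3 : 5 * i + k - 5 * j < 5 := by
        by_contra hc
        have : (f j).testBit (5 * i + k - 5 * j) = false :=
          Nat.testBit_lt_two_pow (lt_of_lt_of_le (hf j) (by
            calc 32 = 2 ^ 5 := by norm_num
              _ ≤ 2 ^ (5 * i + k - 5 * j) := Nat.pow_le_pow_right (by norm_num) (by omega)))
        rw [this] at h2
        exact absurd h2 (by simp)
      have hij : j = i := by omega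
      subst hij
      have : 5 * j + k - 5 * j = k := by omega
      rwa [this] at h2
    · intro h
      refine ⟨i, hi, by omega, ?_⟩
      have : 5 * i + k - 5 * i = k := by omega
      rwa [this]
  · simp only [hk, decide_false, Bool.false_and]
    symm
    exact Nat.testBit_lt_two_pow (lt_of_lt_of_le (hf i) (by
      calc 32 = 2 ^ 5 := by norm_num
        _ ≤ 2 ^ k := Nat.pow_le_pow_right (by norm_num) (by omega)))

/-- packed composition: `mulP P Q` codes `i ↦ P (Q i)` (closed form) -/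
def mulP (P Q : ℕ) : ℕ :=
  Nat.lor (Nat.shiftLeft (img P (img Q 0)) (Nat.mul 5 0)) (Nat.lor (Nat.shiftLeft (img P (img Q 1)) (Nat.mul 5 1)) (Nat.lor (Nat.shiftLeft (img P (img Q 2)) (Nat.mul 5 2)) (Nat.lor (Nat.shiftLeft (img P (img Q 3)) (Nat.mul 5 3)) (Nat.lor (Nat.shiftLeft (img P (img Q 4)) (Nat.mul 5 4)) (Nat.lor (Nat.shiftLeft (img P (img Q 5)) (Nat.mul 5 5)) (Nat.lor (Nat.shiftLeft (img P (img Q 6)) (Nat.mul 5 6)) (Nat.lor (Nat.shiftLeft (img P (img Q 7)) (Nat.mul 5 7)) (Nat.lor (Nat.shiftLeft (img P (img Q 8)) (Nat.mul 5 8)) (Nat.lor (Nat.shiftLeft (img P (img Q 9)) (Nat.mul 5 9)) (Nat.lor (Nat.shiftLeft (img P (img Q 10)) (Nat.mul 5 10)) (Nat.lor (Nat.shiftLeft (img P (img Q 11)) (Nat.mul 5 11)) (Nat.lor (Nat.shiftLeft (img P (img Q 12)) (Nat.mul 5 12)) (Nat.lor (Nat.shiftLeft (img P (img Q 13)) (Nat.mul 5 13)) (Nat.lor (Nat.shiftLeft (img P (img Q 14)) (Nat.mul 5 14)) (Nat.lor (Nat.shiftLeft (img P (img Q 15)) (Nat.mul 5 15)) (Nat.lor (Nat.shiftLeft (img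 P (img Q 16)) (Nat.mul 5 16)) (Nat.lor (Nat.shiftLeft (img P (img Q 17)) (Nat.mul 5 17)) (Nat.lor (Nat.shiftLeft (img P (img Q 18)) (Nat.mul 5 18)) (Nat.lor (Nat.shiftLeft (img P (img Q 19)) (Nat.mul 5 19)) (Nat.lor (Nat.shiftLeft (img P (img Q 20)) (Nat.mul 5 20)) (Nat.lor (Nat.shiftLeft (img P (img Q 21)) (Nat.mul 5 21)) (Nat.lor (Nat.shiftLeft (img P (img Q 22)) (Nat.mul 5 22)) (Nat.lor (Nat.shiftLeft (img P (img Q 23)) (Nat.mul 5 23)) (0))))))))))))))))))))))))

theorem mulP_eq (P Q : ℕ) : mulP P Q = (List.range 24).foldr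
    (fun j acc => Nat.lor (Nat.shiftLeft (img P (img Q j)) (Nat.mul 5 j)) acc) 0 := by
  rw [range24]
  simp only [List.foldr_cons, List.foldr_nil]
  unfold mulP
  rfl

theorem img_mulP (P Q : ℕ) {i : ℕ} (hi : i < 24) : img (mulP P Q) i = img P (img Q i) := by
  rw [mulP_eq]
  exact img_foldr_pack (fun j => img P (img Q j)) (fun j => img_lt32 _ _) _ (List.mem_range.2 hi)

theorem validPerm_of {P : ℕ} (h1 : ∀ i < 24, img P i < 24) (h2 : ∀ k < 24, ∃ i < 24, img P i = k) :
    validPerm P = true := by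
  rw [validPerm_iff]
  apply Nat.eq_of_testBit_eq
  intro k
  rw [Bool.eq_iff_iff, testBit_app, testBit_full]
  constructor
  · rintro ⟨i, hi, -, rfl⟩
    exact h1 i hi
  · intro hk
    obtain ⟨i, hi, rfl⟩ := h2 k hk
    exact ⟨i, hi, (testBit_full i).2 hi, rfl⟩

theorem validPerm_mulP {P Q : ℕ} (hP : validPerm P = true) (hQ : validPerm Q = true) :
    validPerm (mulP P Q) = true := by
  apply validPerm_of
  · intro i hi
    rw [img_mulP P Q hi]
    exact img_lt hP (img_lt hQ hi)
  · intro k hk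
    obtain ⟨j, hj, rfl⟩ := exists_img_eq hP hk
    obtain ⟨i, hi, rfl⟩ := exists_img_eq hQ hj
    exact ⟨i, hi, img_mulP P Q hi⟩

theorem toPerm_mulP {P Q : ℕ} (hP : validPerm P = true) (hQ : validPerm Q = true) :
    toPerm (mulP P Q) = toPerm P * toPerm Q := by
  ext1 p
  rw [Equiv.Perm.mul_apply, toPerm_apply (validPerm_mulP hP hQ), toPerm_apply hP, idx_toPerm hQ,
    img_mulP P Q (idx_lt p)]

/-- mask of the indices fixed by the packed permutation (closed form) -/
def fixMask (P : ℕ) : ℕ :=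
  Nat.lor (Nat.shiftLeft (Bool.toNat (Nat.beq (img P 0) 0)) 0) (Nat.lor (Nat.shiftLeft (Bool.toNat (Nat.beq (img P 1) 1)) 1) (Nat.lor (Nat.shiftLeft (Bool.toNat (Nat.beq (img P 2) 2)) 2) (Nat.lor (Nat.shiftLeft (Bool.toNat (Nat.beq (img P 3) 3)) 3) (Nat.lor (Nat.shiftLeft (Bool.toNat (Nat.beq (img P 4) 4)) 4) (Nat.lor (Nat.shiftLeft (Bool.toNat (Nat.beq (img P 5) 5)) 5) (Nat.lor (Nat.shiftLeft (Bool.toNat (Nat.beq (img P 6) 6)) 6) (Nat.lor (Nat.shiftLeft (Bool.toNat (Nat.beq (img P 7) 7)) 7) (Nat.lor (Nat.shiftLeft (Bool.toNat (Nat.beq (img P 8) 8)) 8) (Nat.lor (Nat.shiftLeft (Bool.toNat (Nat.beq (img P 9) 9)) 9) (Nat.lor (Nat.shiftLeft (Bool.toNat (Nat.beq (img P 10) 10)) 10) (Nat.lor (Nat.shiftLeft (Bool.toNat (Nat.beq (img P 11) 11)) 11) (Nat.lor (Nat.shiftLeft (Bool.toNat (Nat.beq (img P 12) 12)) 12) (Nat.lor (Nat.shiftLeft (Bool.toNat (Nat.beq (img P 13) 13)) 13) (Nat.lor (Nat.shiftLeft (Bool.toNat (Nat.beq (img P 14) 14)) 14) (Nat.lor (Nat.shiftLeft (Bool.toNat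 (Nat.beq (img P 15) 15)) 15) (Nat.lor (Nat.shiftLeft (Bool.toNat (Nat.beq (img P 16) 16)) 16) (Nat.lor (Nat.shiftLeft (Bool.toNat (Nat.beq (img P 17) 17)) 17) (Nat.lor (Nat.shiftLeft (Bool.toNat (Nat.beq (img P 18) 18)) 18) (Nat.lor (Nat.shiftLeft (Bool.toNat (Nat.beq (img P 19) 19)) 19) (Nat.lor (Nat.shiftLeft (Bool.toNat (Nat.beq (img P 20) 20)) 20) (Nat.lor (Nat.shiftLeft (Bool.toNat (Nat.beq (img P 21) 21)) 21) (Nat.lor (Nat.shiftLeft (Bool.toNat (Nat.beq (img P 22) 22)) 22) (Nat.lor (Nat.shiftLeft (Bool.toNat (Nat.beq (img P 23) 23)) 23) (0))))))))))))))))))))))))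

theorem testBit_foldr_fix (P : ℕ) (l : List ℕ) (n : ℕ) :
    (l.foldr (fun j acc => Nat.lor (Nat.shiftLeft (Bool.toNat (Nat.beq (img P j) j)) j) acc) 0).testBit n
      = true ↔ n ∈ l ∧ img P n = n := by
  induction l with
  | nil => simp
  | cons a t ih =>
    rw [List.foldr_cons]
    show ((Bool.toNat (Nat.beq (img P a) a) <<< a) ||| _).testBit n = true ↔ _
    rw [Nat.testBit_or, Bool.or_eq_true, ih, Nat.testBit_shiftLeft]
    by_cases h : img P a = a
    · have hb : Nat.beq (img P a) a = true := by simpa using h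
      rw [hb]
      simp only [Bool.toNat_true, List.mem_cons, Bool.and_eq_true, decide_eq_true_eq]
      constructor
      · rintro (⟨h1, h2⟩ | h2)
        · have : n = a := by
            by_contra hne
            have h3 : n - a ≠ 0 := by omega
            obtain ⟨m, hm⟩ := Nat.exists_eq_succ_of_ne_zero h3
            rw [hm] at h2
            simp [Nat.testBit_succ] at h2
          subst this
          exact ⟨Or.inl rfl, h⟩
        · exact ⟨Or.inr h2.1, h2.2⟩
      · rintro ⟨rfl | h1, h2⟩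
        · left; simp
        · right; exact ⟨h1, h2⟩
    · have hb : Nat.beq (img P a) a = false := by
        rw [Bool.eq_false_iff]
        intro hc
        exact h (Nat.eq_of_beq_eq_true hc)
      rw [hb]
      simp only [Bool.toNat_false, Nat.zero_testBit, Bool.and_false, Bool.false_eq_true, false_or,
        List.mem_cons]
      constructor
      · rintro ⟨h1, h2⟩; exact ⟨Or.inr h1, h2⟩
      · rintro ⟨rfl | h1, h2⟩
        · exact absurd h2 h
        · exact ⟨h1, h2⟩

theorem testBit_fixMask (P n : ℕ) : (fixMask P).testBit n = true ↔ n < 24 ∧ img P n = n := by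
  have h := testBit_foldr_fix P (List.range 24) n
  rw [List.mem_range] at h
  rw [← h, range24]
  simp only [List.foldr_cons, List.foldr_nil]
  unfold fixMask
  rfl

/-- `P` fixes every index of the mask `A` -/
def fixesP (A P : ℕ) : Bool := Nat.beq (Nat.land A (fixMask P)) A

theorem fixesP_iff {A P : ℕ} (hA : A < 2 ^ 24) (hP : validPerm P = true) :
    fixesP A P = true ↔ ∀ a ∈ dec A, toPerm P a = a := by
  have h0 : fixesP A P = true ↔ A &&& fixMask P = A := by simp [fixesP]
  rw [h0]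
  constructor
  · intro h a ha
    rw [mem_dec, ← h, Nat.testBit_and, Bool.and_eq_true, testBit_fixMask] at ha
    rw [toPerm_apply hP, ha.2.2, pt_idx]
  · intro h
    apply Nat.eq_of_testBit_eq
    intro k
    rw [Nat.testBit_and]
    by_cases hk : A.testBit k = true
    · have hk24 : k < 24 := by
        by_contra hc
        have : A.testBit k = false :=
          Nat.testBit_lt_two_pow (lt_of_lt_of_le hA (Nat.pow_le_pow_right (by norm_num) (by omega)))
        rw [this] at hk
        exact absurd hk (by simp)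
      have h1 := h (pt k) (by rw [mem_dec, idx_pt hk24]; exact hk)
      rw [toPerm_pt hP hk24] at h1
      have h2 : img P k = k := by
        have := congrArg idx h1
        rwa [idx_pt (img_lt hP hk24), idx_pt hk24] at this
      rw [hk, (testBit_fixMask P k).2 ⟨hk24, h2⟩]
      rfl
    · have : A.testBit k = false := by simpa using hk
      rw [this]
      rfl

theorem toPerm_eq_one_of {P : ℕ} (hP : validPerm P = true) (h : fixMask P = 16777215) :
    toPerm P = 1 := by
  ext1 p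
  have := (testBit_full (idx p)).2 (idx_lt p)
  rw [← h, testBit_fixMask] at this
  rw [toPerm_apply hP, this.2, pt_idx]
  rfl

end Cfsg.Agent.Lib.Helper88Packed
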