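import Mathlib
import Cfsg.Agent.Lib.Helper88Packed

set_option autoImplicit false

/-!
2-groups of permutations of the 24 points given by a polycyclic generating sequence of packed
permutations: verified enumeration of the elements and order.
-/

namespace Cfsg.Agent.Lib.Helper88PC

open Cfsg Cfsg.Agent.Lib.Helper33Golay Cfsg.Agent.Lib.Helper88Packed
open scoped Pointwise

section general
variable {G : Type*} [Group G]

theorem mem_sup_step (K : Subgroup G) (x : G) (hx2 : x * x ∈ K) (hn : ∀ k ∈ K, x * k * x⁻¹ ∈ K)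
    (h : G) : h ∈ K ⊔ Subgroup.zpowers x ↔ h ∈ K ∨ x⁻¹ * h ∈ K := by
  have hn' : ∀ k ∈ K, x⁻¹ * k * x ∈ K := by
    intro k hk
    have : x⁻¹ * k * x = (x * x)⁻¹ * (x * k * x⁻¹) * (x * x) := by group
    rw [this]
    exact K.mul_mem (K.mul_mem (K.inv_mem hx2) (hn k hk)) hx2
  let M : Subgroup G :=
    { carrier := {h | h ∈ K ∨ x⁻¹ * h ∈ K}
      one_mem' := Or.inl K.one_mem
      mul_mem' := by
        rintro a b (ha | ha) (hb | hb)
        · exact Or.inl (K.mul_mem ha hb)
        · right
          have : x⁻¹ * (a * b) = (x⁻¹ * a * x) * (x⁻¹ * b) := by group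
          rw [this]
          exact K.mul_mem (hn' a ha) hb
        · right
          rw [← mul_assoc]
          exact K.mul_mem ha hb
        · left
          have : a * b = (x * x) * (x⁻¹ * (x⁻¹ * a) * x) * (x⁻¹ * b) := by group
          rw [this]
          exact K.mul_mem (K.mul_mem hx2 (hn' _ ha)) hb
      inv_mem' := by
        rintro a (ha | ha)
        · exact Or.inl (K.inv_mem ha)
        · right
          have : x⁻¹ * a⁻¹ = (x * x)⁻¹ * (x * (x⁻¹ * a)⁻¹ * x⁻¹) := by group
          rw [this]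
          exact K.mul_mem (K.inv_mem hx2) (hn _ (K.inv_mem ha)) }
  constructor
  · intro hh
    have hle : K ⊔ Subgroup.zpowers x ≤ M := by
      apply sup_le
      · intro k hk; exact Or.inl hk
      · rw [Subgroup.zpowers_le]
        right
        rw [inv_mul_cancel]
        exact K.one_mem
    exact hle hh
  · rintro (hh | hh)
    · exact Subgroup.mem_sup_left hh
    · have : h = x * (x⁻¹ * h) := by group
      rw [this]
      exact Subgroup.mul_mem _ (Subgroup.mem_sup_right (Subgroup.mem_zpowers x))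
        (Subgroup.mem_sup_left hh)

theorem card_sup_step [Finite G] (K : Subgroup G) (x : G) (hx2 : x * x ∈ K)
    (hn : ∀ k ∈ K, x * k * x⁻¹ ∈ K) (hx : x ∉ K) :
    Nat.card ↥(K ⊔ Subgroup.zpowers x) = 2 * Nat.card K := by
  have hset : ((K ⊔ Subgroup.zpowers x : Subgroup G) : Set G) = (K : Set G) ∪ (fun k => x * k) '' (K : Set G) := by
    ext h
    rw [SetLike.mem_coe, mem_sup_step K x hx2 hn]
    constructor
    · rintro (hh | hh)
      · exact Or.inl hh
      · exact Or.inr ⟨x⁻¹ * h, hh, by group⟩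
    · rintro (hh | ⟨k, hk, rfl⟩)
      · exact Or.inl hh
      · right
        rw [inv_mul_cancel_left]
        exact hk
  have hdisj : Disjoint (K : Set G) ((fun k => x * k) '' (K : Set G)) := by
    rw [Set.disjoint_left]
    rintro _ ha ⟨k, hk, rfl⟩
    apply hx
    have : x = (x * k) * k⁻¹ := by group
    rw [this]
    exact K.mul_mem ha (K.inv_mem hk)
  have h1 : Nat.card ↥(K ⊔ Subgroup.zpowers x) = ((K ⊔ Subgroup.zpowers x : Subgroup G) : Set G).ncard :=
    rfl
  have h2 : Nat.card K = (K : Set G).ncard := rfl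
  rw [h1, hset, Set.ncard_union_eq hdisj (Set.toFinite _) (Set.toFinite _),
    Set.ncard_image_of_injective _ (mul_right_injective x), h2]
  ring

end general

/-- the subgroup generated by a list of packed permutations -/
def Sub (l : List ℕ) : Subgroup (Equiv.Perm GolayPt) :=
  Subgroup.closure {g | ∃ x ∈ l, toPerm x = g}

theorem toPerm_mem_Sub {l : List ℕ} {x : ℕ} (h : x ∈ l) : toPerm x ∈ Sub l :=
  Subgroup.subset_closure ⟨x, h, rfl⟩

theorem Sub_le {l : List ℕ} {K : Subgroup (Equiv.Perm GolayPt)} (h : ∀ x ∈ l, toPerm x ∈ K) :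
    Sub l ≤ K := by
  unfold Sub
  rw [Subgroup.closure_le]
  rintro _ ⟨x, hx, rfl⟩
  exact h x hx

theorem Sub_nil : Sub [] = ⊥ := by
  rw [eq_bot_iff]
  exact Sub_le (by simp)

theorem Sub_cons (x : ℕ) (l : List ℕ) : Sub (x :: l) = Sub l ⊔ Subgroup.zpowers (toPerm x) := by
  apply le_antisymm
  · apply Sub_le
    intro y hy
    rcases List.mem_cons.1 hy with rfl | hy
    · exact Subgroup.mem_sup_right (Subgroup.mem_zpowers _)
    · exact Subgroup.mem_sup_left (toPerm_mem_Sub hy)
  · apply sup_le
    · exact Sub_le (fun y hy => toPerm_mem_Sub (List.mem_cons_of_mem _ hy))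
    · rw [Subgroup.zpowers_le]
      exact toPerm_mem_Sub (List.mem_cons_self ..)

/-- all the products `x₁^{e₁} ⋯ x_k^{e_k}`, `e_i ∈ {0, 1}` -/
def elems : List ℕ → List ℕ
  | [] => [idP]
  | x :: l => elems l ++ (elems l).map (mulP x)

def gensOf (d : List (ℕ × ℕ × ℕ)) : List ℕ := d.map (fun e => e.1)

/-- checker for a polycyclic sequence: entries `(x, x⁻¹, B)` with `B` a mask fixed by the later
generators and moved by `x` -/
def pcOK : List (ℕ × ℕ × ℕ) → Bool
  | [] => true
  | (x, xi, B) :: d =>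
      validPerm x && validPerm xi && Nat.beq (mulP x xi) idP
      && (elems (gensOf d)).contains (mulP x x)
      && (gensOf d).all (fun y => (elems (gensOf d)).contains (mulP (mulP x y) xi))
      && (gensOf d).all (fun y => Nat.beq (app y B) B)
      && !(Nat.beq (app x B) B) && decide (B < 16777216)
      && pcOK d

theorem pcOK_valid {d : List (ℕ × ℕ × ℕ)} (h : pcOK d = true) : ∀ y ∈ gensOf d, validPerm y = true := by
  induction d with
  | nil => simp [gensOf]
  | cons e d ih =>
    obtain ⟨x, xi, B⟩ := e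
    simp only [pcOK, Bool.and_eq_true] at h
    intro y hy
    simp only [gensOf, List.map_cons, List.mem_cons] at hy
    rcases hy with rfl | hy
    · exact h.1.1.1.1.1.1.1.1
    · exact ih h.2 y hy

theorem pc_sound {d : List (ℕ × ℕ × ℕ)} (h : pcOK d = true) :
    (∀ P ∈ elems (gensOf d), validPerm P = true) ∧
    (∀ g, g ∈ Sub (gensOf d) ↔ ∃ P ∈ elems (gensOf d), toPerm P = g) ∧
    Nat.card (Sub (gensOf d)) = 2 ^ d.length := by
  induction d with
  | nil =>
    refine ⟨?_, ?_, ?_⟩
    · intro P hP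
      simp only [gensOf, List.map_nil, elems, List.mem_singleton] at hP
      rw [hP]; exact idP_valid
    · intro g
      simp only [gensOf, List.map_nil, elems, List.mem_singleton, exists_eq_left, Sub_nil,
        Subgroup.mem_bot, toPerm_idP]
      exact eq_comm
    · simp [gensOf, Sub_nil]
  | cons e d ih =>
    obtain ⟨x, xi, B⟩ := e
    have hvalid := pcOK_valid h
    simp only [pcOK, Bool.and_eq_true, List.all_eq_true, List.contains_iff_mem,
      decide_eq_true_eq, Bool.not_eq_true'] at h
    obtain ⟨⟨⟨⟨⟨⟨⟨⟨hx, hxi⟩, hinv⟩, hsq⟩, hconj⟩, hB⟩, hxB⟩, hB24⟩, hd⟩ := h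
    obtain ⟨ih1, ih2, ih3⟩ := ih hd
    have hvd := pcOK_valid hd
    set l := gensOf d with hl
    have hgens : gensOf ((x, xi, B) :: d) = x :: l := rfl
    rw [hgens]
    have hxi' : toPerm xi = (toPerm x)⁻¹ := by
      apply eq_inv_of_mul_eq_one_right
      rw [← toPerm_mulP hx hxi, Nat.eq_of_beq_eq_true hinv, toPerm_idP]
    have hx2 : toPerm x * toPerm x ∈ Sub l := by
      rw [← toPerm_mulP hx hx]
      exact (ih2 _).2 ⟨_, hsq, rfl⟩
    have hn : ∀ k ∈ Sub l, toPerm x * k * (toPerm x)⁻¹ ∈ Sub l := by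
      have hle : Sub l ≤ (Sub l).comap (MulAut.conj (toPerm x)).toMonoidHom := by
        apply Sub_le
        intro y hy
        rw [Subgroup.mem_comap]
        show toPerm x * toPerm y * (toPerm x)⁻¹ ∈ Sub l
        rw [← hxi', ← toPerm_mulP hx (hvd y hy), ← toPerm_mulP (validPerm_mulP hx (hvd y hy)) hxi]
        exact (ih2 _).2 ⟨_, hconj y hy, rfl⟩
      intro k hk
      exact hle hk
    have hxK : toPerm x ∉ Sub l := by
      intro hmem
      have hle : Sub l ≤ MulAction.stabilizer (Equiv.Perm GolayPt) (dec B) := by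
        apply Sub_le
        intro y hy
        rw [MulAction.mem_stabilizer_iff, smul_dec (hvd y hy), Nat.eq_of_beq_eq_true (hB y hy)]
      have h1 := hle hmem
      rw [MulAction.mem_stabilizer_iff, smul_dec hx] at h1
      have h2 := dec_injOn (app_lt hx B) (by norm_num; exact hB24) h1
      rw [h2] at hxB
      simp at hxB
    refine ⟨?_, ?_, ?_⟩
    · intro P hP
      simp only [elems, List.mem_append, List.mem_map] at hP
      rcases hP with hP | ⟨Q, hQ, rfl⟩
      · exact ih1 P hP
      · exact validPerm_mulP hx (ih1 Q hQ)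
    · intro g
      rw [Sub_cons, mem_sup_step _ _ hx2 hn, ih2, ih2]
      simp only [elems, List.mem_append, List.mem_map]
      constructor
      · rintro (⟨P, hP, rfl⟩ | ⟨P, hP, hPg⟩)
        · exact ⟨P, Or.inl hP, rfl⟩
        · refine ⟨mulP x P, Or.inr ⟨P, hP, rfl⟩, ?_⟩
          rw [toPerm_mulP hx (ih1 P hP), hPg]
          group
      · rintro ⟨P, hP | ⟨Q, hQ, rfl⟩, rfl⟩
        · exact Or.inl ⟨P, hP, rfl⟩
        · refine Or.inr ⟨Q, hQ, ?_⟩
          rw [toPerm_mulP hx (ih1 Q hQ)]
          group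
    · rw [Sub_cons, card_sup_step _ _ hx2 hn hxK, ih3, List.length_cons, pow_succ]
      ring

end Cfsg.Agent.Lib.Helper88PC
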