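import Mathlib
import Cfsg.Agent.Lib.Helper88PC

set_option autoImplicit false

/-!
A small verified calculus proving that an enumerated group `S₀` of permutations of the 24 points is
self-normalizing in a subgroup `G` of the group of the code.
-/

namespace Cfsg.Agent.Lib.Helper88NormCalc

open Cfsg Cfsg.Agent.Lib.Helper33Golay Cfsg.Agent.Lib.Helper88Packed Cfsg.Agent.Lib.Helper88PC
open scoped Pointwise

abbrev X := Equiv.Perm GolayPt

theorem smul_eq_of_iff {g : X} {s : Finset GolayPt} (h : ∀ p, p ∈ s ↔ g p ∈ s) : g • s = s := by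
  ext q
  rw [Finset.mem_smul_finset]
  constructor
  · rintro ⟨p, hp, rfl⟩
    exact (h p).1 hp
  · intro hq
    refine ⟨g⁻¹ q, ?_, by simp⟩
    rw [h]
    simpa using hq

theorem mem_iff_of_smul_eq {g : X} {s : Finset GolayPt} (h : g • s = s) (p : GolayPt) :
    p ∈ s ↔ g p ∈ s := by
  constructor
  · intro hp
    rw [← h]
    exact Finset.smul_mem_smul_finset hp
  · intro hp
    rw [← h, Finset.mem_smul_finset] at hp
    obtain ⟨q, hq, hqp⟩ := hp
    have : q = p := g.injective hqp
    rwa [← this]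

/-! ### orbits of pointwise stabilisers -/

/-- mask of the images of the index `x` under the packed permutations of the list -/
def orbMask (H : List ℕ) (x : ℕ) : ℕ :=
  H.foldr (fun P acc => Nat.lor (Nat.shiftLeft 1 (img P x)) acc) 0

theorem testBit_orbMask (H : List ℕ) (x n : ℕ) :
    (orbMask H x).testBit n = true ↔ ∃ P ∈ H, img P x = n := by
  induction H with
  | nil => simp [orbMask]
  | cons a t ih =>
    unfold orbMask at ih ⊢
    rw [List.foldr_cons]
    show ((1 <<< img a x) ||| _).testBit n = true ↔ _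
    rw [Nat.testBit_or, Bool.or_eq_true, ih, Nat.one_shiftLeft, Nat.testBit_two_pow]
    simp

/-- mask of the indices whose orbit under the pointwise stabiliser of `A` has `k` elements -/
def sizeMask (L : List ℕ) (A k : ℕ) : ℕ :=
  (List.range 24).foldr (fun x acc => Nat.lor (Nat.shiftLeft
    (Bool.toNat (Nat.beq (pop (orbMask (L.filter (fixesP A)) x)) k)) x) acc) 0

theorem testBit_foldr_bool (f : ℕ → Bool) (l : List ℕ) (n : ℕ) :
    (l.foldr (fun x acc => Nat.lor (Nat.shiftLeft (Bool.toNat (f x)) x) acc) 0).testBit n = true ↔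
      n ∈ l ∧ f n = true := by
  induction l with
  | nil => simp
  | cons a t ih =>
    rw [List.foldr_cons]
    show ((Bool.toNat (f a) <<< a) ||| _).testBit n = true ↔ _
    rw [Nat.testBit_or, Bool.or_eq_true, ih, Nat.testBit_shiftLeft]
    cases h : f a
    · simp only [Bool.toNat_false, Nat.zero_testBit, Bool.and_false, Bool.false_eq_true, false_or,
        List.mem_cons]
      constructor
      · rintro ⟨h1, h2⟩; exact ⟨Or.inr h1, h2⟩
      · rintro ⟨rfl | h1, h2⟩
        · rw [h] at h2; exact absurd h2 (by simp)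
        · exact ⟨h1, h2⟩
    · simp only [Bool.toNat_true, List.mem_cons, Bool.and_eq_true, decide_eq_true_eq]
      constructor
      · rintro (⟨h1, h2⟩ | h2)
        · have : n = a := by
            by_contra hne
            have h3 : n - a ≠ 0 := by omega
            obtain ⟨m, hm⟩ := Nat.exists_eq_succ_of_ne_zero h3
            rw [hm] at h2
            simp [Nat.testBit_succ] at h2
          subst this
          exact ⟨Or.inl rfl, h⟩
        · exact ⟨Or.inr h2.1, h2.2⟩
      · rintro ⟨rfl | h1, h2⟩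
        · left; simp
        · right; exact ⟨h1, h2⟩

theorem testBit_sizeMask (L : List ℕ) (A k n : ℕ) :
    (sizeMask L A k).testBit n = true ↔ n < 24 ∧ pop (orbMask (L.filter (fixesP A)) n) = k := by
  unfold sizeMask
  rw [testBit_foldr_bool (fun x => Nat.beq (pop (orbMask (L.filter (fixesP A)) x)) k), List.mem_range]
  simp

theorem lt_of_testBit {m : ℕ} (h : ∀ n, m.testBit n = true → n < 24) : m < 2 ^ 24 := by
  apply Nat.lt_pow_two_of_testBit
  intro k hk
  by_contra hc
  have := h k (by simpa using hc)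
  omega

theorem sizeMask_lt (L : List ℕ) (A k : ℕ) : sizeMask L A k < 2 ^ 24 :=
  lt_of_testBit (fun n hn => ((testBit_sizeMask L A k n).1 hn).1)

section ctx

variable (S₀ : Subgroup X) (L : List ℕ)

/-- `L` enumerates `S₀` -/
structure Enum : Prop where
  valid : ∀ P ∈ L, validPerm P = true
  mem : ∀ g, g ∈ S₀ ↔ ∃ P ∈ L, toPerm P = g

open Classical in
/-- orbit of `p` under the pointwise stabiliser of `dec A` in `S₀` -/
noncomputable def orbF (A : ℕ) (p : GolayPt) : Finset GolayPt :=
  Finset.univ.filter (fun q => ∃ h ∈ S₀, (∀ a ∈ dec A, h a = a) ∧ h p = q)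

variable {S₀ L}

theorem mem_orbF {A : ℕ} {p q : GolayPt} :
    q ∈ orbF S₀ A p ↔ ∃ h ∈ S₀, (∀ a ∈ dec A, h a = a) ∧ h p = q := by
  simp [orbF]

theorem orbF_eq (hE : Enum S₀ L) {A : ℕ} (hA : A < 2 ^ 24) (p : GolayPt) :
    orbF S₀ A p = dec (orbMask (L.filter (fixesP A)) (idx p)) := by
  ext q
  rw [mem_orbF, mem_dec, testBit_orbMask]
  constructor
  · rintro ⟨h, hh, hfix, rfl⟩
    obtain ⟨P, hP, rfl⟩ := (hE.mem h).1 hh
    refine ⟨P, List.mem_filter.2 ⟨hP, (fixesP_iff hA (hE.valid P hP)).2 hfix⟩, ?_⟩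
    rw [idx_toPerm (hE.valid P hP)]
  · rintro ⟨P, hP, hPq⟩
    obtain ⟨hPL, hfix⟩ := List.mem_filter.1 hP
    refine ⟨toPerm P, (hE.mem _).2 ⟨P, hPL, rfl⟩, (fixesP_iff hA (hE.valid P hPL)).1 hfix, ?_⟩
    rw [toPerm_apply (hE.valid P hPL), hPq, pt_idx]

theorem card_orbF_smul {g : X} (hN : ∀ h, h ∈ S₀ ↔ g * h * g⁻¹ ∈ S₀) {A : ℕ}
    (hA : g • dec A = dec A) (p : GolayPt) : (orbF S₀ A (g p)).card = (orbF S₀ A p).card := by
  have : orbF S₀ A (g p) = (orbF S₀ A p).map g.toEmbedding := by
    ext q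
    rw [Finset.mem_map, mem_orbF]
    constructor
    · rintro ⟨h, hh, hfix, rfl⟩
      refine ⟨g⁻¹ (h (g p)), ?_, by simp⟩
      rw [mem_orbF]
      refine ⟨g⁻¹ * h * g, ?_, ?_, rfl⟩
      · rw [hN]
        have : g * (g⁻¹ * h * g) * g⁻¹ = h := by group
        rwa [this]
      · intro a ha
        have h1 : g a ∈ dec A := (mem_iff_of_smul_eq hA a).1 ha
        show g⁻¹ (h (g a)) = a
        rw [hfix _ h1]
        simp
    · rintro ⟨r, hr, rfl⟩
      obtain ⟨h, hh, hfix, rfl⟩ := mem_orbF.1 hr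
      refine ⟨g * h * g⁻¹, (hN h).1 hh, ?_, ?_⟩
      · intro a ha
        have h1 : g⁻¹ a ∈ dec A := by
          rw [mem_iff_of_smul_eq hA]
          simpa using ha
        show g (h (g⁻¹ a)) = a
        rw [hfix _ h1]
        simp
      · show g (h (g⁻¹ (g p))) = _
        simp
  rw [this, Finset.card_map]

theorem sizeMask_inv (hE : Enum S₀ L) {g : X} (hN : ∀ h, h ∈ S₀ ↔ g * h * g⁻¹ ∈ S₀) {A : ℕ}
    (hA24 : A < 2 ^ 24) (hA : g • dec A = dec A) (k : ℕ) :
    g • dec (sizeMask L A k) = dec (sizeMask L A k) := by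
  apply smul_eq_of_iff
  intro p
  have key : ∀ q : GolayPt, q ∈ dec (sizeMask L A k) ↔ (orbF S₀ A q).card = k := by
    intro q
    rw [mem_dec, testBit_sizeMask, orbF_eq hE hA24, card_dec]
    exact ⟨fun h => h.2, fun h => ⟨idx_lt q, h⟩⟩
  rw [key, key, card_orbF_smul hN hA]

/-! ### the calculus -/

/-- every mask of the list is invariant under `g` -/
def Good (g : X) (T : List ℕ) : Prop := ∀ m ∈ T, m < 2 ^ 24 ∧ g • dec m = dec m

theorem Good.getD {g : X} {T : List ℕ} (h : Good g T) (i : ℕ) :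
    T.getD i 0 < 2 ^ 24 ∧ g • dec (T.getD i 0) = dec (T.getD i 0) := by
  by_cases hi : i < T.length
  · rw [List.getD_eq_getElem _ _ hi]; exact h _ (List.getElem_mem hi)
  · rw [List.getD_eq_default _ _ (by omega)]
    exact ⟨by norm_num, by simp⟩

theorem Good.cons {g : X} {T : List ℕ} (h : Good g T) {m : ℕ} (h1 : m < 2 ^ 24)
    (h2 : g • dec m = dec m) : Good g (m :: T) := by
  intro n hn
  rcases List.mem_cons.1 hn with rfl | hn
  · exact ⟨h1, h2⟩
  · exact h n hn

variable (L) in
/-- one instruction: `(0,i,j)` intersection, `(1,i,j)` symmetric difference, `(2,o,i)` the octad `o`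
containing the invariant set number `i` of at least five points, `(3,i,k)` the points whose orbit under
the pointwise stabiliser of the invariant set number `i` has `k` elements -/
def step (T : List ℕ) (ins : ℕ × ℕ × ℕ) : List ℕ :=
  match ins.1 with
  | 0 => Nat.land (T.getD ins.2.1 0) (T.getD ins.2.2 0) :: T
  | 1 => Nat.xor (T.getD ins.2.1 0) (T.getD ins.2.2 0) :: T
  | 2 => bif isOct ins.2.1 && Nat.beq (Nat.land (T.getD ins.2.2 0) ins.2.1) (T.getD ins.2.2 0)
            && Nat.ble 5 (pop (T.getD ins.2.2 0)) then ins.2.1 :: T else T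
  | _ => sizeMask L (T.getD ins.2.1 0) ins.2.2 :: T

theorem step_sound (hE : Enum S₀ L) {g : X} (hg : g ∈ M24)
    (hN : ∀ h, h ∈ S₀ ↔ g * h * g⁻¹ ∈ S₀) (T : List ℕ) (ins : ℕ × ℕ × ℕ) (h : Good g T) :
    Good g (step L T ins) := by
  obtain ⟨op, a, b⟩ := ins
  unfold step
  match op with
  | 0 =>
    apply h.cons
    · exact lt_of_le_of_lt Nat.and_le_left (h.getD a).1
    · show g • dec (T.getD a 0 &&& T.getD b 0) = dec (T.getD a 0 &&& T.getD b 0)
      rw [dec_and, Finset.smul_finset_inter, (h.getD a).2, (h.getD b).2]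
  | 1 =>
    apply h.cons
    · exact Nat.xor_lt_two_pow (h.getD a).1 (h.getD b).1
    · show g • dec (T.getD a 0 ^^^ T.getD b 0) = dec (T.getD a 0 ^^^ T.getD b 0)
      rw [dec_xor, Finset.smul_finset_symmDiff, (h.getD a).2, (h.getD b).2]
  | 2 =>
    simp only
    cases hc : (isOct a && Nat.beq (Nat.land (T.getD b 0) a) (T.getD b 0)
            && Nat.ble 5 (pop (T.getD b 0)))
    · exact h
    · simp only [Bool.and_eq_true] at hc
      obtain ⟨⟨h1, h2⟩, h3⟩ := hc
      have ho : a ∈ octL := isOct_iff.1 h1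
      have hsub : dec (T.getD b 0) ⊆ dec a :=
        (dec_subset_iff (h.getD b).1).2 (Nat.eq_of_beq_eq_true h2)
      have h5 : 5 ≤ (dec (T.getD b 0)).card := by
        rw [card_dec]; exact Nat.le_of_ble_eq_true h3
      apply h.cons (octL_lt ho)
      apply octads_eq_of_inter (smul_mem_octads hg (dec_mem_octads ho)) (dec_mem_octads ho)
      refine le_trans h5 (Finset.card_le_card (Finset.subset_inter ?_ hsub))
      rw [← (h.getD b).2]
      exact Finset.smul_finset_subset_smul_finset hsub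
  | (n + 3) =>
    exact h.cons (sizeMask_lt _ _ _) (sizeMask_inv hE hN (h.getD a).1 (h.getD a).2 b)

theorem run_sound (hE : Enum S₀ L) {g : X} (hg : g ∈ M24)
    (hN : ∀ h, h ∈ S₀ ↔ g * h * g⁻¹ ∈ S₀) (prog : List (ℕ × ℕ × ℕ)) (T : List ℕ) (h : Good g T) :
    Good g (prog.foldl (step L) T) := by
  induction prog generalizing T with
  | nil => exact h
  | cons ins prog ih => exact ih _ (step_sound hE hg hN T ins h)

/-- mask of a list of indices -/
def maskOf : List ℕ → ℕ
  | [] => 0
  | a :: l => Nat.lor (Nat.shiftLeft 1 a) (maskOf l)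

theorem testBit_maskOf (l : List ℕ) (i : ℕ) : (maskOf l).testBit i = true ↔ i ∈ l := by
  induction l with
  | nil => simp [maskOf]
  | cons a l ih =>
    unfold maskOf
    show ((1 <<< a) ||| _).testBit i = true ↔ _
    rw [Nat.testBit_or, Bool.or_eq_true, ih, Nat.one_shiftLeft, Nat.testBit_two_pow, List.mem_cons]
    simp [eq_comm]

variable (L) in
/-- checker for the whole argument: a list of stages `(a, prog)` (the program shows that the orbit of `a` under
the stabiliser in `S₀` of the points fixed so far is invariant) and a final program (showing that all the points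
are fixed) -/
def chainOK (init : List ℕ) (fixed : List ℕ) :
    List (ℕ × List (ℕ × ℕ × ℕ)) → List (ℕ × ℕ × ℕ) → Bool
  | [], fin =>
      let T := fin.foldl (step L) (init ++ fixed.map (fun a => Nat.shiftLeft 1 a))
      (List.range 24).all (fun i => T.contains (Nat.shiftLeft 1 i))
  | (a, prog) :: rest, fin =>
      let T := prog.foldl (step L) (init ++ fixed.map (fun a => Nat.shiftLeft 1 a))
      T.contains (orbMask (L.filter (fixesP (maskOf fixed))) a) && Nat.blt a 24
        && chainOK init (a :: fixed) rest fin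

theorem good_init {g : X} {init fixed : List ℕ} (h1 : ∀ m ∈ init, m < 2 ^ 24 ∧ g • dec m = dec m)
    (h2 : ∀ a ∈ fixed, a < 24 ∧ g (pt a) = pt a) :
    Good g (init ++ fixed.map (fun a => Nat.shiftLeft 1 a)) := by
  intro m hm
  rcases List.mem_append.1 hm with hm | hm
  · exact h1 m hm
  · obtain ⟨a, ha, rfl⟩ := List.mem_map.1 hm
    obtain ⟨ha24, hga⟩ := h2 a ha
    show 1 <<< a < 2 ^ 24 ∧ g • dec (1 <<< a) = dec (1 <<< a)
    rw [Nat.one_shiftLeft]
    refine ⟨Nat.pow_lt_pow_right (by norm_num) ha24, ?_⟩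
    rw [dec_two_pow' ha24, Finset.smul_finset_singleton]
    exact congrArg _ hga

theorem chain_sound (hE : Enum S₀ L) (G : Subgroup X) (hGM : G ≤ M24) (hSG : S₀ ≤ G)
    (init : List ℕ) (hinit : ∀ g ∈ G, ∀ m ∈ init, m < 2 ^ 24 ∧ g • dec m = dec m)
    (stages : List (ℕ × List (ℕ × ℕ × ℕ))) (fin : List (ℕ × ℕ × ℕ)) (fixed : List ℕ)
    (hfix : ∀ a ∈ fixed, a < 24)
    (hchk : chainOK L init fixed stages fin = true) :
    ∀ g ∈ G, (∀ h, h ∈ S₀ ↔ g * h * g⁻¹ ∈ S₀) → (∀ a ∈ fixed, g (pt a) = pt a) → g ∈ S₀ := by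
  induction stages generalizing fixed with
  | nil =>
    intro g hg hN hgf
    simp only [chainOK, List.all_eq_true, List.mem_range, List.contains_iff_mem] at hchk
    have hgood := run_sound hE (hGM hg) hN fin _
      (good_init (hinit g hg) (fun a ha => ⟨hfix a ha, hgf a ha⟩))
    have : g = 1 := by
      ext1 p
      have h1 := (hgood _ (hchk (idx p) (idx_lt p))).2
      have h2 : g • dec (1 <<< idx p) = dec (1 <<< idx p) := h1
      rw [Nat.one_shiftLeft, dec_two_pow, Finset.smul_finset_singleton, Finset.singleton_inj] at h2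
      exact h2
    rw [this]
    exact S₀.one_mem
  | cons st rest ih =>
    obtain ⟨a, prog⟩ := st
    intro g hg hN hgf
    simp only [chainOK, Bool.and_eq_true, List.contains_iff_mem] at hchk
    obtain ⟨⟨h1, h2⟩, h3⟩ := hchk
    have ha24 : a < 24 := by
      have := Nat.le_of_ble_eq_true h2
      omega
    have hgood := run_sound hE (hGM hg) hN prog _
      (good_init (hinit g hg) (fun a ha => ⟨hfix a ha, hgf a ha⟩))
    have hO := (hgood _ h1).2
    have hm24 : maskOf fixed < 2 ^ 24 :=
      lt_of_testBit (fun n hn => hfix n ((testBit_maskOf fixed n).1 hn))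
    have horb := orbF_eq hE hm24 (pt a)
    rw [idx_pt ha24] at horb
    rw [← horb] at hO
    have hmem : pt a ∈ orbF S₀ (maskOf fixed) (pt a) :=
      mem_orbF.2 ⟨1, S₀.one_mem, fun _ _ => rfl, rfl⟩
    have hmem2 := (mem_iff_of_smul_eq hO _).1 hmem
    obtain ⟨h, hh, hhfix, hha⟩ := mem_orbF.1 hmem2
    have hfix' : ∀ b ∈ fixed, h (pt b) = pt b := by
      intro b hb
      apply hhfix
      rw [mem_dec, idx_pt (hfix b hb), testBit_maskOf]
      exact hb
    have key : h⁻¹ * g ∈ S₀ := by
      apply ih (a :: fixed) _ h3 (h⁻¹ * g) (G.mul_mem (G.inv_mem (hSG hh)) hg)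
      · intro k
        have e : h⁻¹ * g * k * (h⁻¹ * g)⁻¹ = h⁻¹ * (g * k * g⁻¹) * h := by group
        rw [e, hN k]
        constructor
        · intro hk
          exact S₀.mul_mem (S₀.mul_mem (S₀.inv_mem hh) hk) hh
        · intro hk
          have e2 : g * k * g⁻¹ = h * (h⁻¹ * (g * k * g⁻¹) * h) * h⁻¹ := by group
          rw [e2]
          exact S₀.mul_mem (S₀.mul_mem hh hk) (S₀.inv_mem hh)
      · intro b hb
        show h⁻¹ (g (pt b)) = pt b
        rcases List.mem_cons.1 hb with rfl | hb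
        · rw [← hha]; simp
        · rw [hgf b hb, Equiv.Perm.inv_eq_iff_eq, hfix' b hb]
      · intro b hb
        rcases List.mem_cons.1 hb with rfl | hb
        · exact ha24
        · exact hfix b hb
    have e : g = h * (h⁻¹ * g) := by group
    rw [e]
    exact S₀.mul_mem hh key

end ctx

end Cfsg.Agent.Lib.Helper88NormCalc
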