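import Mathlib
import Cfsg.Agent.Lib.Helper88NormCalc
import Cfsg.Agent.Lib.Helper67PGroup

set_option autoImplicit false

/-!
Certificates showing that an enumerated 2-group `S₀ ≤ G` of permutations of the 24 points has no proper nontrivial
subgroup that is strongly closed with respect to `G`.
-/

namespace Cfsg.Agent.Lib.Helper88FusCert

open Cfsg Cfsg.Agent.Lib.Helper33Golay Cfsg.Agent.Lib.Helper88Packed Cfsg.Agent.Lib.Helper88PC
  Cfsg.Agent.Lib.Helper88NormCalc
open scoped Pointwise

theorem mulP_congr {P Q P' Q' : ℕ} (h : ∀ i < 24, img P (img Q i) = img P' (img Q' i)) :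
    mulP P Q = mulP P' Q' := by
  rw [mulP_eq, mulP_eq]
  have : ∀ l : List ℕ, (∀ i ∈ l, i < 24) →
      l.foldr (fun j acc => Nat.lor (Nat.shiftLeft (img P (img Q j)) (Nat.mul 5 j)) acc) 0 =
      l.foldr (fun j acc => Nat.lor (Nat.shiftLeft (img P' (img Q' j)) (Nat.mul 5 j)) acc) 0 := by
    intro l
    induction l with
    | nil => intro _; rfl
    | cons a t ih =>
      intro hl
      rw [List.foldr_cons, List.foldr_cons, ih (fun i hi => hl i (List.mem_cons_of_mem _ hi)),
        h a (hl a (List.mem_cons_self ..))]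
  exact this _ (fun i hi => List.mem_range.1 hi)

theorem mulP_eq_of_toPerm {P Q P' Q' : ℕ} (hP : validPerm P = true) (hQ : validPerm Q = true)
    (hP' : validPerm P' = true) (hQ' : validPerm Q' = true)
    (h : toPerm P * toPerm Q = toPerm P' * toPerm Q') : mulP P Q = mulP P' Q' := by
  apply mulP_congr
  intro i hi
  have h1 := congrArg (fun f : X => idx (f (pt i))) h
  simp only [Equiv.Perm.mul_apply] at h1
  rwa [idx_toPerm hP, idx_toPerm hQ, idx_toPerm hP', idx_toPerm hQ', idx_pt hi] at h1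

/-- the only members of `L` commuting with all the generators are the identity and `z` -/
def centerOK (L gens : List ℕ) (z : ℕ) : Bool :=
  L.all (fun P => Nat.beq P idP || Nat.beq P z ||
    gens.any (fun s => !(Nat.beq (mulP s P) (mulP P s))))

/-- one step of a derivation of members of a strongly closed subgroup: `(0,i,j)` product of the members number
`i` and `j`; `(i+1,c,t)`: `t` is the conjugate by `c` of the member number `i` -/
def fstep (inG : ℕ → Bool) (L : List ℕ) (D : List ℕ) (ins : ℕ × ℕ × ℕ) : List ℕ :=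
  match ins.1 with
  | 0 => mulP (D.getD ins.2.1 idP) (D.getD ins.2.2 idP) :: D
  | (i + 1) => bif inG ins.2.1 && Nat.beq (mulP ins.2.1 (D.getD i idP)) (mulP ins.2.2 ins.2.1)
      && L.contains ins.2.2 then ins.2.2 :: D else D

def closureOK (inG : ℕ → Bool) (L gens : List ℕ) (z : ℕ) (prog : List (ℕ × ℕ × ℕ)) : Bool :=
  L.contains z && centerOK L gens z && gens.all (fun x => (prog.foldl (fstep inG L) [z]).contains x)

section
variable {S₀ : Subgroup X} {L : List ℕ}

def InT (T : Subgroup X) (D : List ℕ) : Prop := ∀ P ∈ D, validPerm P = true ∧ toPerm P ∈ T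

theorem InT.getD {T : Subgroup X} {D : List ℕ} (h : InT T D) (i : ℕ) :
    validPerm (D.getD i idP) = true ∧ toPerm (D.getD i idP) ∈ T := by
  by_cases hi : i < D.length
  · rw [List.getD_eq_getElem _ _ hi]; exact h _ (List.getElem_mem hi)
  · rw [List.getD_eq_default _ _ (by omega)]
    exact ⟨idP_valid, by rw [toPerm_idP]; exact T.one_mem⟩

theorem fstep_sound (hE : Enum S₀ L) (G : Subgroup X) (inG : ℕ → Bool)
    (hinG : ∀ c, inG c = true → validPerm c = true ∧ toPerm c ∈ G) (T : Subgroup X)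
    (hcl : ∀ t ∈ T, ∀ c ∈ G, c * t * c⁻¹ ∈ S₀ → c * t * c⁻¹ ∈ T) (D : List ℕ) (ins : ℕ × ℕ × ℕ)
    (h : InT T D) : InT T (fstep inG L D ins) := by
  obtain ⟨op, a, b⟩ := ins
  unfold fstep
  match op with
  | 0 =>
    intro P hP
    rcases List.mem_cons.1 hP with rfl | hP
    · refine ⟨validPerm_mulP (h.getD a).1 (h.getD b).1, ?_⟩
      show toPerm (mulP (D.getD a idP) (D.getD b idP)) ∈ T
      rw [toPerm_mulP (h.getD a).1 (h.getD b).1]
      exact T.mul_mem (h.getD a).2 (h.getD b).2
    · exact h P hP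
  | (i + 1) =>
    simp only
    cases hc : (inG a && Nat.beq (mulP a (D.getD i idP)) (mulP b a) && L.contains b)
    · exact h
    · simp only [Bool.and_eq_true, List.contains_iff_mem] at hc
      obtain ⟨⟨h1, h2⟩, h3⟩ := hc
      obtain ⟨hav, haG⟩ := hinG a h1
      have hbv := hE.valid b h3
      intro P hP
      rcases List.mem_cons.1 hP with rfl | hP
      · refine ⟨hbv, ?_⟩
        have e : toPerm a * toPerm (D.getD i idP) = toPerm P * toPerm a := by
          rw [← toPerm_mulP hav (h.getD i).1, ← toPerm_mulP hbv hav, Nat.eq_of_beq_eq_true h2]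
        have e2 : toPerm P = toPerm a * toPerm (D.getD i idP) * (toPerm a)⁻¹ := by
          rw [e]; group
        rw [e2]
        apply hcl _ (h.getD i).2 _ haG
        rw [← e2]
        exact (hE.mem _).2 ⟨P, h3, rfl⟩
      · exact h P hP

theorem frun_sound (hE : Enum S₀ L) (G : Subgroup X) (inG : ℕ → Bool)
    (hinG : ∀ c, inG c = true → validPerm c = true ∧ toPerm c ∈ G) (T : Subgroup X)
    (hcl : ∀ t ∈ T, ∀ c ∈ G, c * t * c⁻¹ ∈ S₀ → c * t * c⁻¹ ∈ T) (prog : List (ℕ × ℕ × ℕ))
    (D : List ℕ) (h : InT T D) : InT T (prog.foldl (fstep inG L) D) := by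
  induction prog generalizing D with
  | nil => exact h
  | cons ins prog ih => exact ih _ (fstep_sound hE G inG hinG T hcl D ins h)

theorem closure_sound (hE : Enum S₀ L) (gens : List ℕ) (hgens : S₀ = Sub gens)
    (hgv : ∀ s ∈ gens, validPerm s = true) (hp : IsPGroup 2 S₀)
    (G : Subgroup X) (hSG : S₀ ≤ G) (inG : ℕ → Bool)
    (hinG : ∀ c, inG c = true → validPerm c = true ∧ toPerm c ∈ G) (z : ℕ)
    (prog : List (ℕ × ℕ × ℕ)) (hchk : closureOK inG L gens z prog = true) :
    ∀ T : Subgroup X, T ≤ S₀ → T ≠ ⊥ →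
      (∀ t ∈ T, ∀ c ∈ G, c * t * c⁻¹ ∈ S₀ → c * t * c⁻¹ ∈ T) → T = S₀ := by
  intro T hT hb hcl
  simp only [closureOK, Bool.and_eq_true, List.contains_iff_mem, List.all_eq_true] at hchk
  obtain ⟨⟨hzL, hcen⟩, hall⟩ := hchk
  have hzT : toPerm z ∈ T := by
    have hnorm : (T.subgroupOf S₀).Normal := by
      constructor
      intro n hn g
      rw [Subgroup.mem_subgroupOf] at hn ⊢
      exact hcl _ hn _ (hSG g.2) (S₀.mul_mem (S₀.mul_mem g.2 n.2) (S₀.inv_mem g.2))
    have hne : T.subgroupOf S₀ ≠ ⊥ := by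
      intro h0
      rw [Subgroup.subgroupOf_eq_bot, disjoint_iff, inf_eq_left.2 hT] at h0
      exact hb h0
    have hfact : Fact (Nat.Prime 2) := ⟨Nat.prime_two⟩
    have h1 := Cfsg.Agent.Lib.Helper67PGroup.normal_inf_center_ne_bot hp (T.subgroupOf S₀) hne
    obtain ⟨⟨n, hn⟩, hn1'⟩ := Subgroup.ne_bot_iff_exists_ne_one.1 h1
    have hn1 : n ≠ 1 := fun h => hn1' (Subtype.ext h)
    obtain ⟨hnT, hnc⟩ := Subgroup.mem_inf.1 hn
    rw [Subgroup.mem_subgroupOf] at hnT
    rw [Subgroup.mem_center_iff] at hnc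
    obtain ⟨P, hP, hPn⟩ := (hE.mem _).1 n.2
    have hPv := hE.valid P hP
    have h2 := List.all_eq_true.1 hcen P hP
    simp only [Bool.or_eq_true, List.any_eq_true, Bool.not_eq_true'] at h2
    rcases h2 with (h2 | h2) | ⟨s, hs, h2⟩
    · exfalso
      apply hn1
      apply Subtype.ext
      rw [← hPn, Nat.eq_of_beq_eq_true h2, toPerm_idP]
      rfl
    · rw [← Nat.eq_of_beq_eq_true h2, hPn]
      exact hnT
    · exfalso
      have hsS : toPerm s ∈ S₀ := by rw [hgens]; exact toPerm_mem_Sub hs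
      have h3 := congrArg Subtype.val (hnc ⟨toPerm s, hsS⟩)
      have h4 : toPerm s * toPerm P = toPerm P * toPerm s := by
        rw [hPn]; exact h3
      have h5 := mulP_eq_of_toPerm (hgv s hs) hPv hPv (hgv s hs) h4
      rw [h5] at h2
      simp at h2
  have hD : InT T (prog.foldl (fstep inG L) [z]) := by
    apply frun_sound hE G inG hinG T hcl
    intro P hP
    rw [List.mem_singleton] at hP
    rw [hP]
    exact ⟨hE.valid z hzL, hzT⟩
  apply le_antisymm hT
  rw [hgens]
  apply Sub_le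
  intro x hx
  exact (hD x (hall x hx)).2

end

end Cfsg.Agent.Lib.Helper88FusCert
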