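import Cfsg.Agent.Lib.Helper34CovP

set_option autoImplicit false

/-! PROJECT 34, wave M, piece `MModel`: the model from generation and the order (pigeonhole). -/

namespace Cfsg.Agent.Lib.H34MModel

open Cfsg.Agent.Lib.Helper34CovA Cfsg.Agent.Lib.Helper34CovB Cfsg.Agent.Lib.Helper34CovC
  Cfsg.Agent.Lib.Helper34CovP

universe u

/-- PROOF.  `hHo : wev ux uy C.hw ^ oh = 1` from `wev_pow`, `chk6`, `hrel 0 hm`.
`f : Fin oh × Fin C.N → G := fun p => wev ux uy C.hw ^ (p.1 : ℕ) * wrep C ux uy p.2` is SURJECTIVE: copy the surjectivity part of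
`Helper34CovC.card_closure` (it uses `Helper34CovA.cover C ux uy (fun _ => 1) ..` for `g ∈ closure {ux, uy} = ⊤` and reduces the exponent mod `oh`).
Both sides have `oh * C.N` elements (`hcard`), so `f` is injective (`Function.Surjective.injective_of_fintype`/`Finite.injective_iff_surjective_of_equiv`,
`Nat.bijective_iff_surjective_and_card`, ...): this is `hinj`. -/
theorem model_of_top {G : Type u} [Group G] [Finite G] (ux uy : G) (C : Cert) (oh : ℕ)
    (hcard : Nat.card G = oh * C.N) (htop : Subgroup.closure ({ux, uy} : Set G) = ⊤)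
    (hrel : ∀ k < C.m, wev ux uy (C.rel k) = 1) (chk1 : C.chkAll = true)
    (chk6 : C.rel 0 = (List.replicate oh C.hw).flatten) (hm : 0 < C.m) (hpos : 0 < oh * C.N) :
    Model G C oh ux uy := by
  have hoh : 0 < oh := Nat.pos_of_mul_pos_right hpos
  have hN : 0 < C.N := Nat.pos_of_mul_pos_left hpos
  have hHo : wev ux uy C.hw ^ oh = 1 := by
    rw [← wev_pow, ← chk6]; exact hrel 0 hm
  let f : Fin oh × Fin C.N → G := fun p => wev ux uy C.hw ^ (p.1 : ℕ) * wrep C ux uy p.2
  have hsurj : Function.Surjective f := by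
    intro g
    have hg : g ∈ Subgroup.closure ({ux, uy} : Set G) := by rw [htop]; trivial
    obtain ⟨c, j, v, hj, rfl⟩ := cover C ux uy (fun _ => 1) (by simpa using hrel) chk1 hN g hg
    have hc0 : 0 ≤ c % (oh : ℤ) := Int.emod_nonneg _ (by exact_mod_cast hoh.ne')
    have hc1 : c % (oh : ℤ) < oh := Int.emod_lt_of_pos _ (by exact_mod_cast hoh)
    refine ⟨(⟨(c % (oh : ℤ)).toNat, by omega⟩, ⟨j, hj⟩), ?_⟩
    have h1 : al (fun _ => (1 : Subgroup.center G)) C.m v = 1 := by simp [al]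
    have h2 : wev ux uy C.hw ^ c = wev ux uy C.hw ^ (c % (oh : ℤ)).toNat := by
      rw [← zpow_natCast, Int.toNat_of_nonneg hc0]
      conv_lhs => rw [← Int.mul_ediv_add_emod c oh]
      rw [zpow_add, zpow_mul, zpow_natCast, hHo, one_zpow, one_mul]
    simp only [f, h1, h2]
    simp
  have hbij : Function.Bijective f := by
    rw [Nat.bijective_iff_surjective_and_card]
    refine ⟨hsurj, ?_⟩
    rw [Nat.card_prod, Nat.card_fin, Nat.card_fin, hcard]
  refine ⟨hoh, hN, hrel, hHo, ?_, htop⟩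
  intro c hc j hj c' hc' j' hj' h
  have := hbij.1 (a₁ := (⟨c, hc⟩, ⟨j, hj⟩)) (a₂ := (⟨c', hc'⟩, ⟨j', hj'⟩)) h
  simp only [Prod.mk.injEq, Fin.mk.injEq] at this
  exact this

end Cfsg.Agent.Lib.H34MModel
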