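import Mathlib
import Cfsg.Agent.Lib.H37PrDefs
import Cfsg.Agent.Lib.H37PrCmp

set_option autoImplicit false

/-! PROJECT 5140 = PR (row S5140), piece `Step` (est. 75m).  If `a ∈ Aut_F(S)` restricts to a `D`-map on the `F`-centric `P`, it restricts to a `D`-map on `N_S(P)`.
Keep file name, namespace, theorem names and statements; extra helper lemmas are fine.

SKETCH.  `P₁` := image of `P` under `a` (`haP.exists_image`); `D.IsConj P P₁` (`isConj_iff`).  `hD P hP.1` gives `T` with `D.IsConj P T`, `D`-fully automized, `D`-receptive.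
`Helper86Fusion.exists_normalizer_map hS D T P h₁ h₂ (isConj_symm ..)`... (argument order: `(P Q) (h₁ : f.a. P) (h₂ : receptive P) (hQ : IsConj Q P)` gives a `D`-map on `normalizerIn S Q` with `f '' Q = P`, into `normalizerIn S P`):
  `κ` on `Q := normalizerIn S P`, `κ '' P = T`;   `κ'` on `normalizerIn S P₁`, `κ' '' P₁ = T` (`D.IsConj P₁ T` by symm/trans).
`a` maps `normalizerIn S P` into `normalizerIn S P₁` (`mem_normalizerIn`; for `g ∈ N_S(P)`, `y ∈ S`: `y ∈ P₁ ↔ a g * y * (a g)⁻¹ ∈ P₁`; use `y = a y₀` with `y₀ ∈ S` (`image_S`), injectivity `ha.inj`; or prove only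
  `∀ y ∈ P₁, a g y (a g)⁻¹ ∈ P₁` and the same for `g⁻¹`, then `Helper86Fusion.mem_normalizer_of_conj_mem`).
`Q₁` := image of `κ` (`≤ normalizerIn S T`, `T ≤ Q₁`), `λ` := `D`-inverse of `κ` on `Q₁`.   `b := fun x => κ' (a (λ x))` : an `F`-map on `Q₁` (`isMap_of_le hDF`, `ha.restrict`, `IsMap.comp`), `b '' T = T`, and
`b` restricted to `T` is a `D`-map (compose `λ|T`, `a|P` (= `haP`), `κ'|P₁`).  `isReceptive_extend h₂ (b on T) (b '' T = T) (N := Q₁)`: for `g ∈ Q₁`: `g ∈ S`, `g` normalizes `T`, `h := b g ∈ S`, `b (g x g⁻¹) = b g * b x * (b g)⁻¹` (`IsMap.map_conj`).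
This gives a `D`-map `b'` on `Q₁` with `b' = b` on `T`.  `centralizerIn S T ≤ T`: `hP.2 T (F.IsConj P T)` (a `D`-conjugate is an `F`-conjugate: `isConj_iff` + `isMap_of_le`).   `Cmp.cmp`: `IsMap D Q₁ b`.
Finally `a x = μ (b (κ x))` on `Q`, `μ` := `D`-inverse of `κ'` on its image: `b (κ x) = κ' (a x)`.  Compose in `D`, congr. -/

namespace Cfsg.Agent.Lib.H37PrStep

open Cfsg Cfsg.FusionSystem Cfsg.Agent.Lib.Helper87Fusion Cfsg.Agent.Lib.H37PrDefs

variable {Ω : Type*} [Group Ω] {S : Subgroup Ω}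

theorem step [Finite S] {p : ℕ} [Fact p.Prime] (hS : IsPGroup p S) {F D : FusionSystem S}
    (hDF : D ≤ F) (hD : D.IsSaturated p) (hgen : Gen F D p) {P : Subgroup Ω} (hP : F.IsCentric P)
    {a : Ω → Ω} (ha : IsMap F S a) (haP : IsMap D P a) : IsMap D (normalizerIn S P) a := by
  have hPS := hP.1
  obtain ⟨P₁, hP₁⟩ := haP.exists_image
  have hP₁S : P₁ ≤ S := haP.image_le hP₁
  have hconj1 : D.IsConj P P₁ := isConj_iff.2 ⟨a, haP, hP₁⟩
  obtain ⟨T, hPT, hfa, hrec⟩ := hD P hPS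
  have hTS : T ≤ S := isConj_le_right hPT
  have hP₁T : D.IsConj P₁ T := isConj_trans (isConj_symm hconj1) hPT
  obtain ⟨κ, hκ, hκP, hκN⟩ :=
    Cfsg.Agent.Lib.Helper86Fusion.exists_normalizer_map hS D T P hfa hrec hPT
  obtain ⟨κ', hκ', hκ'P, hκ'N⟩ :=
    Cfsg.Agent.Lib.Helper86Fusion.exists_normalizer_map hS D T P₁ hfa hrec hP₁T
  -- `a` maps `N_S(P)` into `N_S(P₁)`
  have haN : ∀ g ∈ normalizerIn S P, a g ∈ normalizerIn S P₁ := by
    intro g hg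
    have hgS : g ∈ S := normalizerIn_le S P hg
    refine Subgroup.mem_inf.2 ⟨ha.mem hgS,
      Cfsg.Agent.Lib.Helper86Fusion.mem_normalizer_of_conj_mem ?_ ?_⟩
    · intro y hy
      obtain ⟨y₀, hy₀, rfl⟩ := IsMap.exists_of_mem_image hP₁ hy
      rw [← ha.map_conj hgS (hPS hy₀)]
      exact IsMap.mem_image hP₁ (((mem_normalizerIn.1 hg).2 y₀).1 hy₀)
    · intro y hy
      obtain ⟨y₀, hy₀, rfl⟩ := IsMap.exists_of_mem_image hP₁ hy
      have e : (a g)⁻¹ * a y₀ * a g = a (g⁻¹ * y₀ * g) := by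
        rw [ha.map_mul (S.mul_mem (S.inv_mem hgS) (hPS hy₀)) hgS,
          ha.map_mul (S.inv_mem hgS) (hPS hy₀), ha.map_inv hgS]
      rw [e]
      apply IsMap.mem_image hP₁
      rw [(mem_normalizerIn.1 hg).2 (g⁻¹ * y₀ * g)]
      have : g * (g⁻¹ * y₀ * g) * g⁻¹ = y₀ := by group
      rw [this]
      exact hy₀
  obtain ⟨Q₁, hQ₁⟩ := hκ.exists_image
  obtain ⟨lam, hlam, hlamκ, hκlam, hlamQ⟩ := hκ.inv hQ₁
  have hPQ : P ≤ normalizerIn S P := le_normalizerIn hPS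
  have hQ₁S : Q₁ ≤ S := hκ.image_le hQ₁
  have hTQ₁ : T ≤ Q₁ := by
    intro y hy
    obtain ⟨y₀, hy₀, rfl⟩ := IsMap.exists_of_mem_image hκP hy
    exact IsMap.mem_image hQ₁ (hPQ hy₀)
  have hQ₁N : Q₁ ≤ normalizerIn S T := by
    intro y hy
    obtain ⟨y₀, hy₀, rfl⟩ := IsMap.exists_of_mem_image hQ₁ hy
    exact hκN y₀ hy₀
  have hlamT : ∀ y ∈ T, lam y ∈ P := by
    intro y hy
    obtain ⟨y₀, hy₀, rfl⟩ := IsMap.exists_of_mem_image hκP hy
    rw [hlamκ y₀ (hPQ hy₀)]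
    exact hy₀
  have hlamQ' : ∀ y ∈ Q₁, lam y ∈ normalizerIn S P := fun y hy => IsMap.mem_image hlamQ hy
  have hbF : IsMap F Q₁ (fun x => κ' (a (lam x))) :=
    ((isMap_of_le hDF hlam).comp (ha.restrict (normalizerIn_le S P)) hlamQ').comp
      (isMap_of_le hDF hκ') (fun x hx => haN _ (hlamQ' x hx))
  have hbT : IsMap D T (fun x => κ' (a (lam x))) :=
    ((hlam.restrict hTQ₁).comp haP hlamT).comp (hκ'.restrict (le_normalizerIn hP₁S))
      (fun x hx => IsMap.mem_image hP₁ (hlamT x hx))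
  have hbTimg : (fun x => κ' (a (lam x))) '' (T : Set Ω) = (T : Set Ω) :=
    Cfsg.Agent.Lib.Helper86Fusion2.image_eq_of_card_le hbT hTS
      (fun x hx => IsMap.mem_image hκ'P (IsMap.mem_image hP₁ (hlamT x hx))) le_rfl
  obtain ⟨b', hb', hb'eq⟩ := isReceptive_extend hrec hbT hbTimg (N := Q₁)
    (fun g hg => ⟨hQ₁S hg, (Subgroup.mem_inf.1 (hQ₁N hg)).2, _, hbF.mem hg,
      fun x hx => hbF.map_conj hg (hTQ₁ hx)⟩)
  have hPTF : F.IsConj P T := by
    obtain ⟨f, hf, hfT⟩ := isConj_iff.1 hPT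
    exact isConj_iff.2 ⟨f, isMap_of_le hDF hf, hfT⟩
  have hcen : centralizerIn S T ≤ T := hP.2 T hPTF
  have hbD : IsMap D Q₁ (fun x => κ' (a (lam x))) :=
    Cfsg.Agent.Lib.H37PrCmp.cmp hS hDF hgen hTQ₁ hQ₁N hcen hbF hb' hb'eq hbTimg
  obtain ⟨I, hI⟩ := hκ'.exists_image
  obtain ⟨μ, hμ, hμκ', -, -⟩ := hκ'.inv hI
  refine ((hκ.comp hbD (fun x hx => IsMap.mem_image hQ₁ hx)).comp hμ (fun x hx => ?_)).congr
    (fun x hx => ?_)
  · show κ' (a (lam (κ x))) ∈ I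
    rw [hlamκ x hx]
    exact IsMap.mem_image hI (haN x hx)
  · show μ (κ' (a (lam (κ x)))) = a x
    rw [hlamκ x hx, hμκ' _ (haN x hx)]

end Cfsg.Agent.Lib.H37PrStep
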