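import Mathlib
import Cfsg.Agent.Lib.H37PrDefs
import Cfsg.Agent.Lib.H37PrStep

set_option autoImplicit false

/-! PROJECT 5140 = PR (row S5140), piece `M` (est. 25m).  If `a ∈ Aut_F(S)` restricts to a `D`-map on some `F`-centric `P`, then `a ∈ Aut_D(S)`.
Keep file name, namespace, theorem names and statements; extra helper lemmas are fine.

SKETCH.  Strong induction on `Nat.card S - Nat.card P` (generalizing `P`).  If `P = S` done.  Else `P < S` (`lt_of_le_of_ne hP.1`), `P < normalizerIn S P` (`Helper86Alperin.lt_normalizerIn hS`),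
`normalizerIn S P` is `F`-centric (`Helper87Fusion2.isCentric_of_le hP _ (normalizerIn_le S P)`), of larger order (`Helper86Group.card_lt_card_of_lt`, finiteness by `Helper86Fusion.finite_of_le`; and
`card (normalizerIn S P) ≤ card S`: `Subgroup.card_le_of_le`), `Step.step` gives the `D`-map there. -/

namespace Cfsg.Agent.Lib.H37PrM

open Cfsg Cfsg.FusionSystem Cfsg.Agent.Lib.Helper87Fusion Cfsg.Agent.Lib.H37PrDefs

variable {Ω : Type*} [Group Ω] {S : Subgroup Ω}

theorem main [Finite S] {p : ℕ} [Fact p.Prime] (hS : IsPGroup p S) {F D : FusionSystem S}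
    (hDF : D ≤ F) (hD : D.IsSaturated p) (hgen : Gen F D p) {P : Subgroup Ω} (hP : F.IsCentric P)
    {a : Ω → Ω} (ha : IsMap F S a) (haP : IsMap D P a) : IsMap D S a := by
  induction hn : Nat.card S - Nat.card P using Nat.strong_induction_on generalizing P with
  | _ n ih =>
    by_cases hPS : P = S
    · exact haP.restrict (le_of_eq hPS.symm)
    · have hlt : P < S := lt_of_le_of_ne hP.1 hPS
      have hlt2 : P < normalizerIn S P := Cfsg.Agent.Lib.Helper86Alperin.lt_normalizerIn hS hlt
      have hNS : normalizerIn S P ≤ S := normalizerIn_le S P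
      have : Finite (normalizerIn S P) := Cfsg.Agent.Lib.Helper86Fusion.finite_of_le hNS
      have hc1 : Nat.card P < Nat.card (normalizerIn S P) :=
        Cfsg.Agent.Lib.Helper86Group.card_lt_card_of_lt hlt2
      have hc2 : Nat.card (normalizerIn S P) ≤ Nat.card S := Subgroup.card_le_of_le hNS
      exact ih (Nat.card S - Nat.card (normalizerIn S P)) (by omega)
        (Cfsg.Agent.Lib.Helper87Fusion2.isCentric_of_le hP hlt2.le hNS)
        (Cfsg.Agent.Lib.H37PrStep.step hS hDF hD hgen hP ha haP) rfl

end Cfsg.Agent.Lib.H37PrM
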