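import Mathlib
import Cfsg.Agent.Lib.H37PsDefs

set_option autoImplicit false

/-! PROJECT 5142 = PS (row S5142), piece `Cmp`: copy of `H37PrCmp.cmp` with `Gen` only at `N`. -/

namespace Cfsg.Agent.Lib.H37PsCmp

open Cfsg Cfsg.FusionSystem Cfsg.Agent.Lib.Helper87Fusion Cfsg.Agent.Lib.H37PrDefs

variable {Ω : Type*} [Group Ω] {S : Subgroup Ω}

open Cfsg.Agent.Lib.H37PsDefs

theorem cmp [Finite S] {p : ℕ} [Fact p.Prime] (hS : IsPGroup p S) {F D : FusionSystem S}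
    (hDF : D ≤ F) {R N : Subgroup Ω} (hgen : GenAt F D p N) (hRN : R ≤ N)
    (hnorm : N ≤ normalizerIn S R) (hcen : centralizerIn S R ≤ R) {b b' : Ω → Ω}
    (hb : IsMap F N b) (hb' : IsMap D N b') (heq : ∀ x ∈ R, b' x = b x)
    (hbR : b '' (R : Set Ω) = (R : Set Ω)) : IsMap D N b := by
  have hb'F : IsMap F N b' := isMap_of_le hDF hb'
  have hNS : N ≤ S := hb.le
  have hRS : R ≤ S := hRN.trans hNS
  -- (1)
  have hz : ∀ x ∈ N, (b x)⁻¹ * b' x ∈ R := by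
    intro x hx
    apply hcen
    rw [mem_centralizerIn]
    refine ⟨S.mul_mem (S.inv_mem (hb.mem hx)) (hb'F.mem hx), fun y hy => ?_⟩
    obtain ⟨y₀, hy₀, rfl⟩ := IsMap.exists_of_mem_image hbR hy
    have hxy : x * y₀ * x⁻¹ ∈ R := ((mem_normalizerIn.1 (hnorm hx)).2 y₀).1 hy₀
    have e1 : b (x * y₀ * x⁻¹) = b x * b y₀ * (b x)⁻¹ := hb.map_conj hx (hRN hy₀)
    have e2 : b' (x * y₀ * x⁻¹) = b' x * b' y₀ * (b' x)⁻¹ := hb'F.map_conj hx (hRN hy₀)
    rw [heq _ hxy, heq _ hy₀, e1] at e2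
    -- e2 : b x * b y₀ * (b x)⁻¹ = b' x * b y₀ * (b' x)⁻¹
    have e3 : b y₀ * ((b x)⁻¹ * b' x) = (b x)⁻¹ * (b x * b y₀ * (b x)⁻¹) * b' x := by group
    rw [e3, e2]
    group
  -- (2)
  obtain ⟨N', hN'⟩ := hb.exists_image
  obtain ⟨c, hc, hcb, hbc, hcN⟩ := hb.inv hN'
  have hRN' : R ≤ N' := by
    intro y hy
    obtain ⟨y₀, hy₀, rfl⟩ := IsMap.exists_of_mem_image hbR hy
    exact IsMap.mem_image hN' (hRN hy₀)
  have hb'N' : ∀ x ∈ N, b' x ∈ N' := by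
    intro x hx
    have : b' x = b x * ((b x)⁻¹ * b' x) := by group
    rw [this]
    exact N'.mul_mem (IsMap.mem_image hN' hx) (hRN' (hz x hx))
  have hcR : ∀ y ∈ R, c y ∈ R := by
    intro y hy
    obtain ⟨y₀, hy₀, rfl⟩ := IsMap.exists_of_mem_image hbR hy
    rw [hcb _ (hRN hy₀)]
    exact hy₀
  have hρ : IsMap F N (fun x => c (b' x)) := hb'F.comp hc hb'N'
  have hρx : ∀ x ∈ N, c (b' x) = x * c ((b x)⁻¹ * b' x) := by
    intro x hx
    have : b' x = b x * ((b x)⁻¹ * b' x) := by group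
    conv_lhs => rw [this]
    rw [hc.map_mul (IsMap.mem_image hN' hx) (hRN' (hz x hx)), hcb x hx]
  have hρR : ∀ w ∈ R, c (b' w) = w := by
    intro w hw
    rw [heq w hw, hcb w (hRN hw)]
  have hρN : ∀ x ∈ N, c (b' x) ∈ N := by
    intro x hx
    exact IsMap.mem_image hcN (hb'N' x hx)
  have hρimg : (fun x => c (b' x)) '' (N : Set Ω) = (N : Set Ω) :=
    Cfsg.Agent.Lib.Helper86Fusion2.image_eq_of_card_le hρ hNS hρN le_rfl
  -- (3)
  have hiter : ∀ x ∈ N, ∀ n : ℕ,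
      (fun x => c (b' x))^[n] x = x * (c ((b x)⁻¹ * b' x)) ^ n := by
    intro x hx n
    induction n with
    | zero => simp
    | succ n ih =>
      rw [Function.iterate_succ_apply', ih]
      have hw : c ((b x)⁻¹ * b' x) ∈ R := hcR _ (hz x hx)
      have hwn : (c ((b x)⁻¹ * b' x)) ^ n ∈ R := R.pow_mem hw n
      show c (b' (x * (c ((b x)⁻¹ * b' x)) ^ n)) = _
      have : c (b' (x * (c ((b x)⁻¹ * b' x)) ^ n)) =
          c (b' x) * c (b' ((c ((b x)⁻¹ * b' x)) ^ n)) := hρ.map_mul hx (hRN hwn)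
      rw [this, hρR _ hwn, hρx x hx, pow_succ', mul_assoc]
  have : Finite R := Cfsg.Agent.Lib.Helper86Fusion.finite_of_le hRS
  obtain ⟨k, hk⟩ := (IsPGroup.iff_card (p := p) (G := R)).1 (hS.to_le hRS)
  have hρD : IsMap D N (fun x => c (b' x)) := by
    refine hgen _ k hρ hρimg (fun x hx => ?_)
    rw [hiter x hx, ← hk]
    have hw : c ((b x)⁻¹ * b' x) ∈ R := hcR _ (hz x hx)
    have h1 : (⟨_, hw⟩ : R) ^ Nat.card R = 1 := pow_card_eq_one'
    have h2 := congrArg Subtype.val h1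
    simp only [Subgroup.coe_pow, Subgroup.coe_one] at h2
    rw [h2, mul_one]
  -- (4)
  obtain ⟨σ, hσ, -, hρσ, hσN⟩ := hρD.inv hρimg
  have hσmem : ∀ x ∈ N, σ x ∈ N := fun x hx => IsMap.mem_image hσN hx
  refine (hσ.comp hb' hσmem).congr (fun x hx => ?_)
  show b' (σ x) = b x
  have h1 : c (b' (σ x)) = x := hρσ x hx
  have h2 := hbc _ (hb'N' _ (hσmem x hx))
  rw [h1] at h2
  exact h2.symm


end Cfsg.Agent.Lib.H37PsCmp
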