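import Mathlib
import Cfsg.Agent.Lib.H37PsDefs

set_option autoImplicit false

/-! PROJECT 5142 = PS (row S5142), piece `PPow` (est. 60m).  `p`-power order automorphisms of a centric `Q` lie in `D`, given (W') for the centric subgroups of order `≥ |Q|`.
Keep file name, namespace, theorem names and statements; extra helper lemmas are fine.

SKETCH.  Let `ρ` be an `F`-map on `Q`, `ρ '' Q = Q`, `ρ^[p^k] = id` on `Q`.  `h.dec`: `ρ = a ∘ f₀` on `Q`, `a ∈ Aut_F(S)`, `f₀` a `D`-map on `Q`.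
(0) iter_isMap: `IsMap F S (a^[m])` (induction, `Function.iterate_succ_apply'`, `IsMap.comp`, `isMap_id`).  `ρ^[m]` maps `Q` to `Q`.
(1) CLAIM: for every `m` there is `g` with `IsMap D Q g` and `∀ x ∈ Q, ρ^[m] x = a^[m] (g x)`.  `m = 0`: `g = id`.  Step: let `A = a^[m]`, `A'` its inverse on `S` (`exists_inv_S`), `Q₁` the image of `Q` under `A'`;
    `f₁ := fun y => A' (f₀ (A y))` is a `D`-map on `Q₁` (`h.invar Q Q₁ A' A f₀`, with `right inverse` `∀ x ∈ S, A (A' x) = x`); `g x = A' (ρ^[m] x) ∈ Q₁`;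
    `ρ^[m+1] x = a (f₀ (A (g x))) = a (A (f₁ (g x))) = a^[m+1] (f₁ (g x))`; new `g` := `f₁ ∘ g` (`IsMap.comp`).
(2) at `m = p^k`: `x = A (g x)` on `Q`.  `R` := image of `g` (`exists_image`); `A` on `R` is the `D`-inverse of `g` (`IsMap.inv` + congr): `IsMap D R A`.  `R` is `F`-centric (`Helper87Fusion2.isCentric_of_isConj hQ`,
    `isConj_iff`, `isMap_of_le h.le`), `Nat.card R = Nat.card Q` (`IsMap.card_image`).  `hW R`: `IsMap D S A`.  `h.pp a k`: `IsMap D S a`.  So `ρ = a ∘ f₀` is a `D`-map (comp, congr). -/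

namespace Cfsg.Agent.Lib.H37PsPPow

open Cfsg Cfsg.FusionSystem Cfsg.Agent.Lib.Helper87Fusion Cfsg.Agent.Lib.H37PrDefs

variable {Ω : Type*} [Group Ω] {S : Subgroup Ω}

open Cfsg.Agent.Lib.H37PsDefs

theorem iter_isMap {F : FusionSystem S} {a : Ω → Ω} (ha : IsMap F S a) (m : ℕ) :
    IsMap F S (a^[m]) := by
  induction m with
  | zero => exact isMap_id F le_rfl
  | succ m ih =>
    refine (ih.comp ha (fun x hx => ih.mem hx)).congr (fun x _ => ?_)
    rw [Function.iterate_succ_apply']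

theorem ppow [Finite S] {p : ℕ} {F D : FusionSystem S} (h : WCtx p F D) {Q : Subgroup Ω}
    (hQ : F.IsCentric Q)
    (hW : ∀ R : Subgroup Ω, F.IsCentric R → Nat.card Q ≤ Nat.card R → ∀ a : Ω → Ω, IsMap F S a →
      IsMap D R a → IsMap D S a) : GenAt F D p Q := by
  intro ρ k hρ hρQ hk
  obtain ⟨a, f₀, ha, hf₀, hρa⟩ := h.dec Q ρ hρ
  have hQS : Q ≤ S := hQ.1
  have hρm : ∀ m : ℕ, ∀ x ∈ Q, ρ^[m] x ∈ Q := by
    intro m
    induction m with
    | zero => intro x hx; exact hx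
    | succ m ih =>
      intro x hx
      rw [Function.iterate_succ_apply']
      exact IsMap.mem_image hρQ (ih x hx)
  have claim : ∀ m : ℕ, ∃ g : Ω → Ω, IsMap D Q g ∧ ∀ x ∈ Q, ρ^[m] x = a^[m] (g x) := by
    intro m
    induction m with
    | zero => exact ⟨id, isMap_id D hQS, fun _ _ => rfl⟩
    | succ m ih =>
      obtain ⟨g, hg, hgρ⟩ := ih
      have hA : IsMap F S (a^[m]) := iter_isMap ha m
      obtain ⟨A', hA', hA'A, hAA', -⟩ := exists_inv_S hA
      obtain ⟨Q₁, hQ₁⟩ := (hA'.restrict hQS).exists_image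
      have hf₁ : IsMap D Q₁ (fun y => A' (f₀ (a^[m] y))) :=
        h.invar Q Q₁ A' (a^[m]) f₀ hA' hA hAA' hQ₁ hf₀
      have hgS : ∀ x ∈ Q, g x ∈ S := fun x hx => (isMap_of_le h.le hg).mem hx
      have hgQ₁ : ∀ x ∈ Q, g x ∈ Q₁ := by
        intro x hx
        have : g x = A' (ρ^[m] x) := by rw [hgρ x hx, hA'A _ (hgS x hx)]
        rw [this]
        exact IsMap.mem_image hQ₁ (hρm m x hx)
      refine ⟨fun x => A' (f₀ (a^[m] (g x))), hg.comp hf₁ hgQ₁, fun x hx => ?_⟩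
      rw [Function.iterate_succ_apply', hρa _ (hρm m x hx), hgρ x hx,
        Function.iterate_succ_apply']
      have hmem : f₀ (a^[m] (g x)) ∈ S := by
        rw [← hgρ x hx]
        exact (isMap_of_le h.le hf₀).mem (hρm m x hx)
      rw [hAA' _ hmem]
  obtain ⟨g, hg, hgρ⟩ := claim (p ^ k)
  obtain ⟨R, hR⟩ := hg.exists_image
  obtain ⟨g', hg', hg'g, -, -⟩ := hg.inv hR
  have hAR : IsMap D R (a^[p ^ k]) := by
    refine hg'.congr (fun y hy => ?_)
    obtain ⟨x, hx, rfl⟩ := IsMap.exists_of_mem_image hR hy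
    rw [hg'g x hx, ← hgρ x hx, hk x hx]
  have hRcen : F.IsCentric R :=
    Cfsg.Agent.Lib.Helper87Fusion2.isCentric_of_isConj hQ
      (isConj_iff.2 ⟨g, isMap_of_le h.le hg, hR⟩)
  have hAS : IsMap D S (a^[p ^ k]) :=
    hW R hRcen (hg.card_image hR).ge _ (iter_isMap ha _) hAR
  have haD : IsMap D S a := h.pp a k ha hAS
  exact (hf₀.comp haD (fun x hx => (isMap_of_le h.le hf₀).mem hx)).congr
    (fun x hx => (hρa x hx).symm)

end Cfsg.Agent.Lib.H37PsPPow
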