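import Mathlib
import Cfsg.Agent.Lib.H37PsDefs
import Cfsg.Agent.Lib.H37PsCmp

set_option autoImplicit false

/-! PROJECT 5142 = PS (row S5142), piece `Step`: copy of `H37PrStep.step` with `GenAt` on the larger centric subgroups. -/

namespace Cfsg.Agent.Lib.H37PsStep

open Cfsg Cfsg.FusionSystem Cfsg.Agent.Lib.Helper87Fusion Cfsg.Agent.Lib.H37PrDefs

variable {Ω : Type*} [Group Ω] {S : Subgroup Ω}

open Cfsg.Agent.Lib.H37PsDefs

theorem step [Finite S] {p : ℕ} [Fact p.Prime] (hS : IsPGroup p S) {F D : FusionSystem S}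
    (hDF : D ≤ F) (hD : D.IsSaturated p) {P : Subgroup Ω} (hP : F.IsCentric P) (hPS' : P ≠ S)
    (hgen : ∀ N : Subgroup Ω, F.IsCentric N → Nat.card P < Nat.card N → GenAt F D p N)
    {a : Ω → Ω} (ha : IsMap F S a) (haP : IsMap D P a) : IsMap D (normalizerIn S P) a := by
  have hPS := hP.1
  have hPne := hPS'
  obtain ⟨P₁, hP₁⟩ := haP.exists_image
  have hP₁S : P₁ ≤ S := haP.image_le hP₁
  have hconj1 : D.IsConj P P₁ := isConj_iff.2 ⟨a, haP, hP₁⟩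
  obtain ⟨T, hPT, hfa, hrec⟩ := hD P hPS
  have hTS : T ≤ S := isConj_le_right hPT
  have hP₁T : D.IsConj P₁ T := isConj_trans (isConj_symm hconj1) hPT
  obtain ⟨κ, hκ, hκP, hκN⟩ :=
    Cfsg.Agent.Lib.Helper86Fusion.exists_normalizer_map hS D T P hfa hrec hPT
  obtain ⟨κ', hκ', hκ'P, hκ'N⟩ :=
    Cfsg.Agent.Lib.Helper86Fusion.exists_normalizer_map hS D T P₁ hfa hrec hP₁T
  -- `a` maps `N_S(P)` into `N_S(P₁)`
  have haN : ∀ g ∈ normalizerIn S P, a g ∈ normalizerIn S P₁ := by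
    intro g hg
    have hgS : g ∈ S := normalizerIn_le S P hg
    refine Subgroup.mem_inf.2 ⟨ha.mem hgS,
      Cfsg.Agent.Lib.Helper86Fusion.mem_normalizer_of_conj_mem ?_ ?_⟩
    · intro y hy
      obtain ⟨y₀, hy₀, rfl⟩ := IsMap.exists_of_mem_image hP₁ hy
      rw [← ha.map_conj hgS (hPS hy₀)]
      exact IsMap.mem_image hP₁ (((mem_normalizerIn.1 hg).2 y₀).1 hy₀)
    · intro y hy
      obtain ⟨y₀, hy₀, rfl⟩ := IsMap.exists_of_mem_image hP₁ hy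
      have e : (a g)⁻¹ * a y₀ * a g = a (g⁻¹ * y₀ * g) := by
        rw [ha.map_mul (S.mul_mem (S.inv_mem hgS) (hPS hy₀)) hgS,
          ha.map_mul (S.inv_mem hgS) (hPS hy₀), ha.map_inv hgS]
      rw [e]
      apply IsMap.mem_image hP₁
      rw [(mem_normalizerIn.1 hg).2 (g⁻¹ * y₀ * g)]
      have : g * (g⁻¹ * y₀ * g) * g⁻¹ = y₀ := by group
      rw [this]
      exact hy₀
  obtain ⟨Q₁, hQ₁⟩ := hκ.exists_image
  obtain ⟨lam, hlam, hlamκ, hκlam, hlamQ⟩ := hκ.inv hQ₁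
  have hPQ : P ≤ normalizerIn S P := le_normalizerIn hPS
  have hQ₁S : Q₁ ≤ S := hκ.image_le hQ₁
  have hTQ₁ : T ≤ Q₁ := by
    intro y hy
    obtain ⟨y₀, hy₀, rfl⟩ := IsMap.exists_of_mem_image hκP hy
    exact IsMap.mem_image hQ₁ (hPQ hy₀)
  have hQ₁N : Q₁ ≤ normalizerIn S T := by
    intro y hy
    obtain ⟨y₀, hy₀, rfl⟩ := IsMap.exists_of_mem_image hQ₁ hy
    exact hκN y₀ hy₀
  have hlamT : ∀ y ∈ T, lam y ∈ P := by
    intro y hy
    obtain ⟨y₀, hy₀, rfl⟩ := IsMap.exists_of_mem_image hκP hy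
    rw [hlamκ y₀ (hPQ hy₀)]
    exact hy₀
  have hlamQ' : ∀ y ∈ Q₁, lam y ∈ normalizerIn S P := fun y hy => IsMap.mem_image hlamQ hy
  have hbF : IsMap F Q₁ (fun x => κ' (a (lam x))) :=
    ((isMap_of_le hDF hlam).comp (ha.restrict (normalizerIn_le S P)) hlamQ').comp
      (isMap_of_le hDF hκ') (fun x hx => haN _ (hlamQ' x hx))
  have hbT : IsMap D T (fun x => κ' (a (lam x))) :=
    ((hlam.restrict hTQ₁).comp haP hlamT).comp (hκ'.restrict (le_normalizerIn hP₁S))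
      (fun x hx => IsMap.mem_image hP₁ (hlamT x hx))
  have hbTimg : (fun x => κ' (a (lam x))) '' (T : Set Ω) = (T : Set Ω) :=
    Cfsg.Agent.Lib.Helper86Fusion2.image_eq_of_card_le hbT hTS
      (fun x hx => IsMap.mem_image hκ'P (IsMap.mem_image hP₁ (hlamT x hx))) le_rfl
  obtain ⟨b', hb', hb'eq⟩ := isReceptive_extend hrec hbT hbTimg (N := Q₁)
    (fun g hg => ⟨hQ₁S hg, (Subgroup.mem_inf.1 (hQ₁N hg)).2, _, hbF.mem hg,
      fun x hx => hbF.map_conj hg (hTQ₁ hx)⟩)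
  have hPTF : F.IsConj P T := by
    obtain ⟨f, hf, hfT⟩ := isConj_iff.1 hPT
    exact isConj_iff.2 ⟨f, isMap_of_le hDF hf, hfT⟩
  have hcen : centralizerIn S T ≤ T := hP.2 T hPTF
  have hTcen : F.IsCentric T := Cfsg.Agent.Lib.Helper87Fusion2.isCentric_of_isConj hP hPTF
  have hQ₁cen : F.IsCentric Q₁ := Cfsg.Agent.Lib.Helper87Fusion2.isCentric_of_le hTcen hTQ₁ hQ₁S
  have hlt2 : P < normalizerIn S P :=
    Cfsg.Agent.Lib.Helper86Alperin.lt_normalizerIn hS (lt_of_le_of_ne hPS hPne)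
  have : Finite (normalizerIn S P) :=
    Cfsg.Agent.Lib.Helper86Fusion.finite_of_le (normalizerIn_le S P)
  have hcard : Nat.card P < Nat.card Q₁ := by
    rw [hκ.card_image hQ₁]
    exact Cfsg.Agent.Lib.Helper86Group.card_lt_card_of_lt hlt2
  have hbD : IsMap D Q₁ (fun x => κ' (a (lam x))) :=
    Cfsg.Agent.Lib.H37PsCmp.cmp hS hDF (hgen Q₁ hQ₁cen hcard) hTQ₁ hQ₁N hcen hbF hb' hb'eq hbTimg
  obtain ⟨I, hI⟩ := hκ'.exists_image
  obtain ⟨μ, hμ, hμκ', -, -⟩ := hκ'.inv hI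
  refine ((hκ.comp hbD (fun x hx => IsMap.mem_image hQ₁ hx)).comp hμ (fun x hx => ?_)).congr
    (fun x hx => ?_)
  · show κ' (a (lam (κ x))) ∈ I
    rw [hlamκ x hx]
    exact IsMap.mem_image hI (haN x hx)
  · show μ (κ' (a (lam (κ x)))) = a x
    rw [hlamκ x hx, hμκ' _ (haN x hx)]


end Cfsg.Agent.Lib.H37PsStep
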