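import Mathlib
import Cfsg.Agent.Lib.H37PsDefs
import Cfsg.Agent.Lib.H37PsStep
import Cfsg.Agent.Lib.H37PsPPow

set_option autoImplicit false

/-! PROJECT 5142 = PS (row S5142), piece `W` (est. 35m).  LEMMA (W'): `a ∈ Aut_F(S)` restricting to a `D`-map on an `F`-centric `P` lies in `Aut_D(S)`.
Keep file name, namespace, theorem names and statements; extra helper lemmas are fine.

SKETCH.  Strong induction on `Nat.card S - Nat.card P`, generalizing `P` AND `a` (model: `H37PrM.main`).  `P = S`: `haP.restrict`.  Otherwise the induction hypothesis gives (W') for all centric `R` with `card P < card R`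
(`card R ≤ card S`: `Subgroup.card_le_of_le hR.1`).  For `N` centric with `card P < card N`: `PPow.ppow h hN (fun R hR hle a ha haR => IH ..)` gives `GenAt F D p N`.  `Step.step` gives `IsMap D (normalizerIn S P) a`;
`normalizerIn S P` is centric of larger order (as in `H37PrM.main`); induction hypothesis again. -/

namespace Cfsg.Agent.Lib.H37PsW

open Cfsg Cfsg.FusionSystem Cfsg.Agent.Lib.Helper87Fusion Cfsg.Agent.Lib.H37PrDefs

variable {Ω : Type*} [Group Ω] {S : Subgroup Ω}

open Cfsg.Agent.Lib.H37PsDefs

theorem w [Finite S] {p : ℕ} [Fact p.Prime] (hS : IsPGroup p S) {F D : FusionSystem S}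
    (h : WCtx p F D) {P : Subgroup Ω} (hP : F.IsCentric P) {a : Ω → Ω} (ha : IsMap F S a)
    (haP : IsMap D P a) : IsMap D S a := by
  induction hn : Nat.card S - Nat.card P using Nat.strong_induction_on generalizing P a with
  | _ n ih =>
    by_cases hPS : P = S
    · exact haP.restrict (le_of_eq hPS.symm)
    · have hlt : P < S := lt_of_le_of_ne hP.1 hPS
      have hlt2 : P < normalizerIn S P := Cfsg.Agent.Lib.Helper86Alperin.lt_normalizerIn hS hlt
      have hNS : normalizerIn S P ≤ S := normalizerIn_le S P
      have : Finite (normalizerIn S P) := Cfsg.Agent.Lib.Helper86Fusion.finite_of_le hNS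
      have hc1 : Nat.card P < Nat.card (normalizerIn S P) :=
        Cfsg.Agent.Lib.Helper86Group.card_lt_card_of_lt hlt2
      have hc2 : Nat.card (normalizerIn S P) ≤ Nat.card S := Subgroup.card_le_of_le hNS
      have hbig : ∀ R : Subgroup Ω, F.IsCentric R → Nat.card P < Nat.card R → ∀ b : Ω → Ω,
          IsMap F S b → IsMap D R b → IsMap D S b := by
        intro R hR hlt' b hb hbR
        have hRS : Nat.card R ≤ Nat.card S := Subgroup.card_le_of_le hR.1
        exact ih (Nat.card S - Nat.card R) (by omega) hR hb hbR rfl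
      have hgen : ∀ N : Subgroup Ω, F.IsCentric N → Nat.card P < Nat.card N → GenAt F D p N := by
        intro N hN hlt'
        exact Cfsg.Agent.Lib.H37PsPPow.ppow h hN
          (fun R hR hle b hb hbR => hbig R hR (lt_of_lt_of_le hlt' hle) b hb hbR)
      exact hbig (normalizerIn S P)
        (Cfsg.Agent.Lib.Helper87Fusion2.isCentric_of_le hP hlt2.le hNS) hc1 a ha
        (Cfsg.Agent.Lib.H37PsStep.step hS h.le h.sat hP hPS hgen ha haP)

end Cfsg.Agent.Lib.H37PsW
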