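import Cfsg.Agent.Lib.H37WkDefs
import Cfsg.Agent.Lib.H37WkHB
import Cfsg.Agent.Lib.Helper88Solv
import Cfsg.Agent.S5132
import Cfsg.Agent.S5256

set_option autoImplicit false

namespace Cfsg.Agent.Lib.H37WkB2

open Cfsg Cfsg.FusionSystem Cfsg.Agent.Lib.Helper87Fusion Cfsg.Agent.Lib.H37WkDefs

/-- (B2). -/
theorem hyp_le {Ω : Type*} [Group Ω] {S : Subgroup Ω} [Finite S] {p : ℕ} [Fact p.Prime]
    (hS : IsPGroup p S) (F : FusionSystem S) (hF : F.IsSaturated p) {H : Subgroup Ω}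
    (hH : F.StronglyClosed H) (h : InnAbove F H) : F.hyperfocalSubgroup p ≤ H := by
  haveI := Helper88Solv.sc_normal hH
  obtain ⟨E, hE⟩ := Cfsg.Agent.S5132.result p hS F H hH
  set θ := QuotientGroup.mk' (H.subgroupOf S) with hθ
  have hhyp := Cfsg.Agent.S5256.result p hS F hF H hH θ E hE
  have hq := Helper88Factor.IsFactorSystem.isQuot hE
  have hTp : IsPGroup p (⊤ : Subgroup (S ⧸ H.subgroupOf S)) :=
    (hS.to_quotient (H.subgroupOf S)).to_subgroup ⊤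
  have hinn : InnAbove E ⊥ := by
    intro P' f' _ hf'
    obtain ⟨hP', f, hf, hff'⟩ := (Helper88Factor.isMap_factor_iff hE).1 hf'
    have hHle : H ≤ preimageAlong θ P' := by
      intro x hx
      have hxS : x ∈ S := hE.1 hx
      rw [Helper88Factor.mem_preimageAlong]
      refine ⟨hxS, ?_⟩
      rw [(hq.tt_eq_one_iff hxS).2 hx]
      exact P'.one_mem
    obtain ⟨s, hs, hsf⟩ := h _ f hHle hf
    refine ⟨Helper88Factor.tt θ s, trivial, ?_⟩
    intro y hy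
    obtain ⟨x, hxS, rfl⟩ := hq.exists_tt (hP' hy)
    have hxpre : x ∈ preimageAlong θ P' := (Helper88Factor.mem_preimageAlong θ).2 ⟨hxS, hy⟩
    rw [hff' x hxpre, hsf x hxpre, Helper88Factor.tt_mul θ (S.mul_mem hs hxS) (S.inv_mem hs),
      Helper88Factor.tt_mul θ hs hxS, Helper88Factor.tt_inv θ hs]
  have hbot := H37WkHB.hyp_eq_bot hTp E hinn
  intro y hy
  have hyS : y ∈ S := Helper87Closed.hyperfocal_le F p hy
  have h1 : θ ⟨y, hyS⟩ ∈ E.hyperfocalSubgroup p := by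
    rw [hhyp]
    exact ⟨⟨y, hyS⟩, hy, rfl⟩
  rw [hbot, Subgroup.mem_bot] at h1
  exact (hE.2.1 ⟨y, hyS⟩).1 h1

end Cfsg.Agent.Lib.H37WkB2
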