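import Mathlib
import Cfsg.Agent.Lib.Helper86Mono

set_option autoImplicit false

namespace Cfsg.Agent.Lib.Helper86Mono2

open MulAction Cfsg.Agent.Lib.Helper86Mono

/-- extension of an invariant homomorphism on a normal subgroup to a function on the group. -/
theorem exists_ext {G A : Type*} [Group G] [CommGroup A] (D : Subgroup G) [hD : D.Normal] (μ : D →* A)
    (hinv : ∀ (g : G) (d : D) (h : g * d * g⁻¹ ∈ D), μ ⟨g * d * g⁻¹, h⟩ = μ d) :
    ∃ ν : G → A, (∀ d : D, ν d = μ d) ∧ (∀ d ∈ D, ∀ s, ν (d * s) = ν d * ν s) ∧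
      (∀ d ∈ D, ∀ s, ν (s * d) = ν s * ν d) := by
  classical
  let r : G ⧸ D → G := fun q => if q = 1 then 1 else q.out
  have hr : ∀ s : G, (r (s : G ⧸ D))⁻¹ * s ∈ D := by
    intro s
    by_cases h : (s : G ⧸ D) = 1
    · have : r (s : G ⧸ D) = 1 := if_pos h
      rw [this, inv_one, one_mul]
      exact (QuotientGroup.eq_one_iff s).1 h
    · have : r (s : G ⧸ D) = (s : G ⧸ D).out := if_neg h
      rw [this]
      exact QuotientGroup.eq.1 (QuotientGroup.out_eq' _)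
  let ν : G → A := fun s => μ ⟨(r (s : G ⧸ D))⁻¹ * s, hr s⟩
  have h1 : ∀ d : D, ν d = μ d := by
    intro d
    have h : ((d : G) : G ⧸ D) = 1 := (QuotientGroup.eq_one_iff _).2 d.2
    have h2 : r ((d : G) : G ⧸ D) = 1 := if_pos h
    show μ _ = μ d
    congr 1
    apply Subtype.ext
    show (r ((d : G) : G ⧸ D))⁻¹ * d = d
    rw [h2, inv_one, one_mul]
  have h3 : ∀ d ∈ D, ∀ s, ν (s * d) = ν s * ν d := by
    intro d hd s
    have h : ((s * d : G) : G ⧸ D) = (s : G ⧸ D) := by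
      rw [QuotientGroup.eq]
      simpa using hd
    rw [h1 ⟨d, hd⟩]
    show μ _ = μ _ * μ _
    rw [← map_mul]
    congr 1
    apply Subtype.ext
    show (r ((s * d : G) : G ⧸ D))⁻¹ * (s * d) = (r (s : G ⧸ D))⁻¹ * s * d
    rw [h, mul_assoc]
  refine ⟨ν, h1, fun d hd s => ?_, h3⟩
  have h4 : d * s = s * (s⁻¹ * d * (s⁻¹)⁻¹) := by group
  have h5 : s⁻¹ * d * (s⁻¹)⁻¹ ∈ D := hD.conj_mem d hd s⁻¹
  rw [h4, h3 _ h5, h1 ⟨_, h5⟩, hinv s⁻¹ ⟨d, hd⟩ h5, h1 ⟨d, hd⟩, mul_comm]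

variable {G X A : Type*} [Group G] [MulAction (G × G) X] [CommGroup A]

/-- the diagonal part of the monomial transfer. -/
noncomputable def Lam (ν : G → A) (γ : X → G) (s : G) : A :=
  ∏ᶠ x : X0 γ, ν (s * γ (((1 : G), s) • x.1))

theorem Lam_mul [Finite X] (ν : G → A) (D : Subgroup G)
    (hl : ∀ d ∈ D, ∀ s, ν (d * s) = ν d * ν s)
    (hc : ∀ d ∈ D, ∀ s, s * d * s⁻¹ ∈ D ∧ ν (s * d * s⁻¹) = ν d)
    {γ : X → G} (hγ : Triv γ) (hD : ∀ (s : G) (x : X0 γ), s * γ (((1 : G), s) • x.1) ∈ D) (s s' : G) :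
    Lam ν γ (s * s') = Lam ν γ s * Lam ν γ s' := by
  unfold Lam
  rw [← finprod_comp_equiv (hat hγ (rgt s') (eqv_rgt s'))
    (f := fun x : X0 γ => ν (s * γ (((1 : G), s) • x.1))),
    ← finprod_mul_distrib (Set.toFinite _) (Set.toFinite _)]
  apply finprod_congr
  intro x
  have h1 := cocycle hγ (rgt s') (eqv_rgt s') (fun x : X => ((1 : G), s) • x) (eqv_right s) x
  have h2 : ((1 : G), s * s') • x.1 = ((1 : G), s) • (rgt s' : X ≃ X) x.1 := by
    rw [rgt_apply, smul_smul]; simp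
  rw [h2, h1]
  have h3 : s * s' * (γ ((rgt s' : X ≃ X) x.1) *
      γ (((1 : G), s) • (hat hγ (rgt s') (eqv_rgt s') x).1)) =
      (s * (s' * γ (((1 : G), s') • x.1)) * s⁻¹) *
        (s * γ (((1 : G), s) • (hat hγ (rgt s') (eqv_rgt s') x).1)) := by
    rw [rgt_apply]; group
  rw [h3, hl _ (hc _ (hD s' x) s).1, (hc _ (hD s' x) s).2, mul_comm]

theorem Lam_of_mem [Finite X] (ν : G → A) (D : Subgroup G)
    (hl : ∀ d ∈ D, ∀ s, ν (d * s) = ν d * ν s) (γ : X → G) {w : G} (hw : w ∈ D) :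
    Lam ν γ w = ν w ^ Nat.card (X0 γ) * T ν γ (fun x : X => ((1 : G), w) • x) := by
  unfold Lam T
  rw [← finprod_const_X0, ← finprod_mul_distrib (Set.toFinite _) (Set.toFinite _)]
  apply finprod_congr
  intro x
  rw [hl w hw]

omit [MulAction (G × G) X] in
theorem finprod_pow_eq_one [Finite X] (γ : X → G) (f : X0 γ → A) (n : ℕ) (h : ∀ x, f x ^ n = 1) :
    (∏ᶠ x, f x) ^ n = 1 := by
  classical
  haveI := Fintype.ofFinite (X0 γ)
  rw [finprod_eq_prod_of_fintype, ← Finset.prod_pow]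
  exact Finset.prod_eq_one (fun x _ => h x)

end Cfsg.Agent.Lib.Helper86Mono2
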