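import Mathlib
import Cfsg.Agent.Lib.Helper86Stable
import Cfsg.Agent.Lib.Helper86Mono2
import Cfsg.Agent.Lib.Helper86Focal
import Cfsg.Agent.Lib.Helper87Closed
import Cfsg.Agent.Lib.Helper71Frattini
import Cfsg.Agent.Lib.Helper3PGroup

set_option autoImplicit false

namespace Cfsg.Agent.Lib.Helper86TateF

open Subgroup MulAction Cfsg Cfsg.FusionSystem
open Cfsg.Agent.Lib.Helper86Graph Cfsg.Agent.Lib.Helper86Group
open Cfsg.Agent.Lib.Helper86Burnside Cfsg.Agent.Lib.Helper86Biset Cfsg.Agent.Lib.Helper86Mono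
open Cfsg.Agent.Lib.Helper86Mono2 Cfsg.Agent.Lib.Helper86Stable
open Cfsg.Agent.Lib.Helper87Fusion Cfsg.Agent.Lib.Helper86Fusion Cfsg.Agent.Lib.Helper86Fusion2
open Cfsg.Agent.Lib.Helper86Fusion4 Cfsg.Agent.Lib.Helper86Sub Cfsg.Agent.Lib.Helper87Closed
open Cfsg.Agent.Lib.Helper87Fusion2 Cfsg.Agent.Lib.Helper87Fusion3

open scoped IsMulCommutative

universe u
variable {Ω : Type u} [Group Ω] {S : Subgroup Ω}

/-- modulo the hyperfocal subgroup every map of the system is a conjugation. -/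
theorem inner_mod_hyp [Finite S] {p : ℕ} [Fact p.Prime] (hS : IsPGroup p S) (F : FusionSystem S)
    (hF : F.IsSaturated p) {P : Subgroup Ω} {f : Ω → Ω} (hf : IsMap F P f) :
    ∃ s ∈ S, ∀ u ∈ P, (s * u * s⁻¹)⁻¹ * f u ∈ F.hyperfocalSubgroup p := by
  refine alperin_induction hS F hF
    (fun P f => ∃ s ∈ S, ∀ u ∈ P, (s * u * s⁻¹)⁻¹ * f u ∈ F.hyperfocalSubgroup p)
    ?_ ?_ ?_ ?_ ?_ hf
  · rintro P f g hfg ⟨s, hs, h⟩
    exact ⟨s, hs, fun u hu => by rw [← hfg u hu]; exact h u hu⟩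
  · intro P g _ hg
    exact ⟨g, hg, fun u _ => by rw [inv_mul_cancel]; exact one_mem _⟩
  · rintro P Q f g hf hg hfQ ⟨s₁, hs₁, h₁⟩ ⟨s₂, hs₂, h₂⟩
    refine ⟨s₂ * s₁, S.mul_mem hs₂ hs₁, fun u hu => ?_⟩
    have e : (s₂ * s₁ * u * (s₂ * s₁)⁻¹)⁻¹ * g (f u) =
        (s₂ * ((s₁ * u * s₁⁻¹)⁻¹ * f u) * s₂⁻¹) * ((s₂ * f u * s₂⁻¹)⁻¹ * g (f u)) := by group
    rw [e]
    exact mul_mem (hyperfocal_conj_mem F p hs₂ (h₁ u hu)) (h₂ _ (hfQ u hu))
  · rintro P Q f g hf hfQ hg hgf ⟨s, hs, h⟩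
    refine ⟨s⁻¹, S.inv_mem hs, fun y hy => ?_⟩
    obtain ⟨x, hx, rfl⟩ := IsMap.exists_of_mem_image hfQ hy
    rw [hgf x hx]
    have e : (s⁻¹ * f x * s⁻¹⁻¹)⁻¹ * x = s⁻¹ * ((s * x * s⁻¹)⁻¹ * f x)⁻¹ * s⁻¹⁻¹ := by group
    rw [e]
    exact hyperfocal_conj_mem F p (S.inv_mem hs) (inv_mem (h x hx))
  · intro P f hP hf hfP
    have hPn : F.IsFullyNormalized P := by
      rcases hP with rfl | hP
      · exact fullyNormalized_self F
      · exact hP.2.1
    have hPS := hPn.1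
    have : Finite P := finite_of_le hPS
    obtain ⟨-, ⟨-, R, hR⟩, -⟩ := saturated_fullyNormalized hS hF hPn
    obtain ⟨α, hα, hαf⟩ := hf.exists_aut hfP
    obtain ⟨a, ha, b, hb, hab⟩ := exists_mul_of_pResidual_sylow R ⟨α, hα⟩
    have hb' : (b : MulAut P) ∈ autInducedBy S P := by
      have : b ∈ (R : Subgroup (F.autGroup P)) := hb
      rw [hR, Subgroup.mem_subgroupOf] at this
      exact this
    obtain ⟨g, hg, hgb⟩ := (mem_autInducedBy_iff S P _).1 hb'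
    refine ⟨g, hg, fun x hx => ?_⟩
    have e1 : f x = (((a : MulAut P) ((b : MulAut P) ⟨x, hx⟩) : P) : Ω) := by
      rw [← hαf ⟨x, hx⟩]
      have : α = (a : MulAut P) * (b : MulAut P) := congrArg Subtype.val hab
      rw [this]; rfl
    have h1 := mem_hyperfocal_of hPS ha ((b : MulAut P) ⟨x, hx⟩)
    rw [hgb] at h1
    rw [e1]
    exact h1

/-- a trivialization compatible with a normal subgroup modulo which the system is inner. -/
theorem exists_triv_deg {F : FusionSystem S} {X : Type*} [MulAction (S × S) X]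
    (hg : ∀ x : X, IsGraph F (stabilizer (S × S) x)) (D : Subgroup S) [hD : D.Normal]
    (hin : ∀ (P : Subgroup Ω) (f : Ω → Ω), IsMap F P f → ∃ s : S, ∀ u v : S, (u : Ω) ∈ P →
      (v : Ω) = f u → (s * u * s⁻¹)⁻¹ * v ∈ D) :
    ∃ γ : X → S, Triv γ ∧ ∀ (s : S) (x : X0 γ), s * γ (((1 : S), s) • x.1) ∈ D := by
  -- the degree
  letI : MulAction (S × S) (Bi (S ⧸ D)) := MulAction.compHom _
    (MonoidHom.prodMap (QuotientGroup.mk' D) (QuotientGroup.mk' D))
  obtain ⟨deg', hdeg'⟩ := exists_equivariant (H := S × S) (X := X) (Y := Bi (S ⧸ D)) (fun x => by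
    obtain ⟨P, f, hf, hE⟩ := hg x
    obtain ⟨s, hs⟩ := hin P f hf
    refine ⟨Bi.inn (s : S ⧸ D), fun g hfix => ?_⟩
    obtain ⟨h1, h2⟩ := (hE g).1 hfix
    have h3 := hs g.2 g.1 h1 h2
    show ((g.1 : S ⧸ D) * (s : S ⧸ D) * (g.2 : S ⧸ D)⁻¹ : S ⧸ D) = (s : S ⧸ D)
    have h4 : ((s * g.2 * s⁻¹ : S) : S ⧸ D) = (g.1 : S ⧸ D) := QuotientGroup.eq.2 h3
    rw [← h4]
    simp)
  let deg : X → S ⧸ D := fun x => (deg' x).out
  have hdeg : ∀ (g : S × S) (x : X), deg (g • x) = (g.1 : S ⧸ D) * deg x * (g.2 : S ⧸ D)⁻¹ :=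
    fun g x => congrArg Bi.out (hdeg' g x)
  -- a first trivialization
  obtain ⟨γ', hγ'⟩ := exists_equivariant (H := ((⊤ : Subgroup S).prod (⊥ : Subgroup S) :
      Subgroup (S × S))) (X := X) (Y := Bi S) (fun x => ⟨Bi.inn 1, by
    intro g hfix
    obtain ⟨⟨a, b⟩, hab⟩ := g
    have hb : b = 1 := Subgroup.mem_bot.1 hab.2
    subst hb
    have ha : a = 1 := free_of_graph hg hfix
    subst ha
    exact one_smul _ _⟩)
  let γ₀ : X → S := fun x => (γ' x).out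
  have hγ₀ : Triv γ₀ := by
    intro a x
    have := hγ' ⟨(a, 1), Subgroup.mem_top _, one_mem _⟩ x
    have h2 := congrArg Bi.out this
    have h3 : γ₀ ((a, (1 : S)) • x) = a * γ₀ x * 1⁻¹ := h2
    simpa using h3
  let γ : X → S := fun x => γ₀ x * (((γ₀ x : S) : S ⧸ D)⁻¹ * deg x).out
  have hγ : Triv γ := by
    intro a x
    show γ₀ ((a, (1 : S)) • x) * (((γ₀ ((a, (1 : S)) • x) : S) : S ⧸ D)⁻¹ *
      deg ((a, (1 : S)) • x)).out = a * (γ₀ x * (((γ₀ x : S) : S ⧸ D)⁻¹ * deg x).out)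
    rw [hγ₀, hdeg]
    have : (((a * γ₀ x : S) : S ⧸ D)⁻¹ * ((a : S ⧸ D) * deg x * ((1 : S) : S ⧸ D)⁻¹)) =
        ((γ₀ x : S) : S ⧸ D)⁻¹ * deg x := by
      simp [mul_assoc]
    rw [this, mul_assoc]
  have hγdeg : ∀ x, ((γ x : S) : S ⧸ D) = deg x := by
    intro x
    show ((γ₀ x * (((γ₀ x : S) : S ⧸ D)⁻¹ * deg x).out : S) : S ⧸ D) = deg x
    rw [QuotientGroup.mk_mul, QuotientGroup.out_eq']
    simp
  refine ⟨γ, hγ, fun s x => ?_⟩
  rw [← QuotientGroup.eq_one_iff, QuotientGroup.mk_mul, hγdeg, hdeg, ← hγdeg x.1, x.2]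
  simp

/-- a function on `S`, multiplicative and stable on the hyperfocal subgroup, of exponent `p`, kills it. -/
theorem stable_kills_hyp [Finite S] {p : ℕ} [Fact p.Prime] (F : FusionSystem S)
    {A : Type*} [CommGroup A] (Vs : S → A)
    (hmul : ∀ u u' : S, (u' : Ω) ∈ F.hyperfocalSubgroup p → Vs (u * u') = Vs u * Vs u')
    (hpow : ∀ u : S, (u : Ω) ∈ F.hyperfocalSubgroup p → Vs u ^ p = 1)
    (hst : ∀ (P : Subgroup Ω) (f : Ω → Ω), IsMap F P f → ∀ u : S, (u : Ω) ∈ P →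
      (u : Ω) ∈ F.hyperfocalSubgroup p → Vs (lift f u) = Vs u) :
    ∀ u : S, (u : Ω) ∈ F.hyperfocalSubgroup p → Vs u = 1 := by
  have hone : Vs 1 = 1 := by
    have := hmul 1 1 (one_mem _)
    rw [mul_one] at this
    exact (mul_eq_left.1 this.symm)
  have hinv : ∀ u : S, (u : Ω) ∈ F.hyperfocalSubgroup p → Vs u⁻¹ = (Vs u)⁻¹ := by
    intro u hu
    have := hmul u⁻¹ u hu
    rw [inv_mul_cancel, hone] at this
    exact eq_inv_of_mul_eq_one_left this.symm
  have key : ∀ (P : Subgroup Ω) (hP : P ≤ S) (α : F.autGroup P), α ∈ pResidual p (F.autGroup P) →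
      ∀ x : P, Vs ((⟨x, hP x.2⟩ : S)⁻¹ * ⟨((α : MulAut P) x : P), hP ((α : MulAut P) x).2⟩) = 1 := by
    intro P hP α hα
    unfold pResidual at hα
    induction hα using Subgroup.closure_induction with
    | mem β hβ =>
      intro x
      have hβres : ∀ k : ℕ, β ^ k ∈ pResidual p (F.autGroup P) :=
        fun k => pow_mem (Subgroup.subset_closure hβ) k
      let b : ℕ → S := fun k => (⟨x, hP x.2⟩ : S)⁻¹ *
        ⟨(((β ^ k : F.autGroup P) : MulAut P) x : P), hP (((β ^ k : F.autGroup P) : MulAut P) x).2⟩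
      have hbD : ∀ k, ((b k : S) : Ω) ∈ F.hyperfocalSubgroup p :=
        fun k => mem_hyperfocal_of hP (hβres k) x
      have hbP : ∀ k, ((b k : S) : Ω) ∈ P :=
        fun k => P.mul_mem (P.inv_mem x.2) (((β ^ k : F.autGroup P) : MulAut P) x).2
      have hfβ : IsMap F P (totA (β : MulAut P)) := (mem_autGroup_iff_totA F hP _).1 β.2
      have hstep : ∀ k, b (k + 1) = b 1 * lift (totA (β : MulAut P)) (b k) := by
        intro k
        apply Subtype.ext
        show (x : Ω)⁻¹ * _ = ((x : Ω)⁻¹ * _) * ((lift (totA (β : MulAut P)) (b k) : S) : Ω)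
        rw [lift_coe (hfβ.mem (hbP k))]
        have h1 : totA (β : MulAut P) ((b k : S) : Ω) =
            (((β : MulAut P) (x⁻¹ * ((β ^ k : F.autGroup P) : MulAut P) x) : P) : Ω) :=
          totA_apply (β : MulAut P) (x⁻¹ * ((β ^ k : F.autGroup P) : MulAut P) x)
        rw [h1, map_mul, map_inv]
        have h2 : ((β ^ (k + 1) : F.autGroup P) : MulAut P) x =
            (β : MulAut P) (((β ^ k : F.autGroup P) : MulAut P) x) := by
          rw [pow_succ']; rfl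
        rw [h2, pow_one]
        simp
      have hV : ∀ k, Vs (b k) = Vs (b 1) ^ k := by
        intro k
        induction k with
        | zero =>
          have : b 0 = 1 := by
            apply Subtype.ext
            show (x : Ω)⁻¹ * _ = 1
            simp
          rw [this, hone, pow_zero]
        | succ k ih =>
          have h3 : ((lift (totA (β : MulAut P)) (b k) : S) : Ω) ∈ F.hyperfocalSubgroup p := by
            have := hbD (k + 1)
            rw [hstep k] at this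
            have h4 := mul_mem (inv_mem (hbD 1)) this
            simpa using h4
          rw [hstep k, hmul _ _ h3, hst P _ hfβ _ (hbP k) (hbD k), ih, pow_succ']
      have h5 : Vs (b 1) ^ orderOf β = 1 := by
        rw [← hV]
        have : b (orderOf β) = 1 := by
          apply Subtype.ext
          show (x : Ω)⁻¹ * _ = 1
          rw [pow_orderOf_eq_one]
          simp
        rw [this, hone]
      have h6 := hpow _ (hbD 1)
      have h7 : orderOf (Vs (b 1)) = 1 := Nat.eq_one_of_dvd_coprimes hβ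
        (orderOf_dvd_of_pow_eq_one h5) (orderOf_dvd_of_pow_eq_one h6)
      have h8 := orderOf_eq_one_iff.1 h7
      have h9 : b 1 = (⟨x, hP x.2⟩ : S)⁻¹ * ⟨((β : MulAut P) x : P), hP ((β : MulAut P) x).2⟩ := by
        show (⟨x, hP x.2⟩ : S)⁻¹ * _ = _
        simp only [pow_one]
      rw [← h9]; exact h8
    | one =>
      intro x
      have : (⟨x, hP x.2⟩ : S)⁻¹ * ⟨(((1 : F.autGroup P) : MulAut P) x : P),
          hP (((1 : F.autGroup P) : MulAut P) x).2⟩ = 1 := by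
        apply Subtype.ext
        show (x : Ω)⁻¹ * x = 1
        simp
      rw [this, hone]
    | mul α β hα hβ ihα ihβ =>
      intro x
      have e : (⟨x, hP x.2⟩ : S)⁻¹ * ⟨(((α * β : F.autGroup P) : MulAut P) x : P),
          hP (((α * β : F.autGroup P) : MulAut P) x).2⟩ =
          ((⟨x, hP x.2⟩ : S)⁻¹ * ⟨((β : MulAut P) x : P), hP ((β : MulAut P) x).2⟩) *
          ((⟨((β : MulAut P) x : P), hP ((β : MulAut P) x).2⟩ : S)⁻¹ *
            ⟨((α : MulAut P) ((β : MulAut P) x) : P), hP ((α : MulAut P) ((β : MulAut P) x)).2⟩) := by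
        apply Subtype.ext
        show (x : Ω)⁻¹ * (((α : MulAut P) ((β : MulAut P) x) : P) : Ω) = _
        simp [mul_assoc]
      rw [e, hmul _ _ (mem_hyperfocal_of hP hα ((β : MulAut P) x)), ihα, ihβ, one_mul]
    | inv α hα ih =>
      intro x
      have e : (⟨x, hP x.2⟩ : S)⁻¹ * ⟨(((α⁻¹ : F.autGroup P) : MulAut P) x : P),
          hP (((α⁻¹ : F.autGroup P) : MulAut P) x).2⟩ =
          ((⟨(((α⁻¹ : F.autGroup P) : MulAut P) x : P),
            hP (((α⁻¹ : F.autGroup P) : MulAut P) x).2⟩ : S)⁻¹ *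
            ⟨((α : MulAut P) (((α⁻¹ : F.autGroup P) : MulAut P) x) : P),
              hP ((α : MulAut P) (((α⁻¹ : F.autGroup P) : MulAut P) x)).2⟩)⁻¹ := by
        apply Subtype.ext
        simp
      rw [e, hinv _ (mem_hyperfocal_of hP hα _), ih, inv_one]
  -- the kernel
  let W : Subgroup Ω :=
    { carrier := {y | y ∈ F.hyperfocalSubgroup p ∧ ∀ h : y ∈ S, Vs ⟨y, h⟩ = 1}
      mul_mem' := by
        rintro y y' ⟨hy, h⟩ ⟨hy', h'⟩
        refine ⟨mul_mem hy hy', fun hS' => ?_⟩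
        have h1 := hyperfocal_le F p hy
        have h2 := hyperfocal_le F p hy'
        have : (⟨y * y', hS'⟩ : S) = ⟨y, h1⟩ * ⟨y', h2⟩ := rfl
        rw [this, hmul _ _ hy', h h1, h' h2, one_mul]
      one_mem' := ⟨one_mem _, fun _ => hone⟩
      inv_mem' := by
        rintro y ⟨hy, h⟩
        refine ⟨inv_mem hy, fun hS' => ?_⟩
        have h1 := hyperfocal_le F p hy
        have : (⟨y⁻¹, hS'⟩ : S) = (⟨y, h1⟩ : S)⁻¹ := rfl
        rw [this, hinv _ hy, h h1, inv_one] }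
  have hW : F.hyperfocalSubgroup p ≤ W := by
    conv_lhs => unfold hyperfocalSubgroup
    rw [Subgroup.closure_le]
    rintro _ ⟨P, α, x, hP, hα, rfl⟩
    exact ⟨mem_hyperfocal_of hP hα x, fun _ => key P hP α hα x⟩
  intro u hu
  exact (hW hu).2 u.2

theorem tate_core [Finite S] {p : ℕ} [Fact p.Prime] (hS : IsPGroup p S) (F : FusionSystem S)
    (hF : F.IsSaturated p) (D₁ : Subgroup S) [hD₁ : D₁.Normal]
    (h1 : D₁ ≤ (F.hyperfocalSubgroup p).subgroupOf S)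
    (h2 : ∀ s : S, ∀ d ∈ (F.hyperfocalSubgroup p).subgroupOf S, s * d * s⁻¹ * d⁻¹ ∈ D₁)
    (h3 : ∀ d ∈ (F.hyperfocalSubgroup p).subgroupOf S, d ^ p ∈ D₁)
    (h4 : (F.hyperfocalSubgroup p).subgroupOf S ≤ frattini S ⊔ D₁) :
    (F.hyperfocalSubgroup p).subgroupOf S ≤ D₁ := by
  set D : Subgroup S := (F.hyperfocalSubgroup p).subgroupOf S with hDdef
  have hDmem : ∀ u : S, u ∈ D ↔ (u : Ω) ∈ F.hyperfocalSubgroup p := fun u => Iff.rfl
  haveI hDn : D.Normal := ⟨fun d hd s => hyperfocal_conj_mem F p s.2 hd⟩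
  -- the homomorphism μ
  have hcen : ∀ d : D, (QuotientGroup.mk' D₁).comp D.subtype d ∈ Subgroup.center (S ⧸ D₁) := by
    intro d
    rw [Subgroup.mem_center_iff]
    intro q
    obtain ⟨s, rfl⟩ := QuotientGroup.mk_surjective q
    have h5 := (QuotientGroup.eq_one_iff _).2 (h2 s d d.2)
    show (s : S ⧸ D₁) * ((d : S) : S ⧸ D₁) = ((d : S) : S ⧸ D₁) * (s : S ⧸ D₁)
    rw [QuotientGroup.mk_mul, QuotientGroup.mk_mul, QuotientGroup.mk_mul, QuotientGroup.mk_inv,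
      QuotientGroup.mk_inv] at h5
    rw [mul_inv_eq_one, mul_inv_eq_iff_eq_mul] at h5
    exact h5
  let μ : D →* Subgroup.center (S ⧸ D₁) :=
    ((QuotientGroup.mk' D₁).comp D.subtype).codRestrict (Subgroup.center (S ⧸ D₁)) hcen
  have hμ : ∀ d : D, ((μ d : Subgroup.center (S ⧸ D₁)) : S ⧸ D₁) = ((d : S) : S ⧸ D₁) := fun d => rfl
  have hμinv : ∀ (g : S) (d : D) (h : g * d * g⁻¹ ∈ D), μ ⟨g * d * g⁻¹, h⟩ = μ d := by
    intro g d h
    apply Subtype.ext
    rw [hμ, hμ]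
    show ((g * d * g⁻¹ : S) : S ⧸ D₁) = _
    have h6 : (g : S ⧸ D₁) * ((d : S) : S ⧸ D₁) = ((d : S) : S ⧸ D₁) * (g : S ⧸ D₁) :=
      Subgroup.mem_center_iff.1 (hcen d) (g : S ⧸ D₁)
    rw [QuotientGroup.mk_mul, QuotientGroup.mk_mul, QuotientGroup.mk_inv, h6]
    simp
  obtain ⟨ν, hν, hl, hr⟩ := exists_ext (A := Subgroup.center (S ⧸ D₁)) D μ hμinv
  have hc : ∀ d ∈ D, ∀ s, s * d * s⁻¹ ∈ D ∧ ν (s * d * s⁻¹) = ν d := by
    intro d hd s
    have h5 := hDn.conj_mem d hd s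
    exact ⟨h5, by rw [hν ⟨_, h5⟩, hμinv s ⟨d, hd⟩ h5, hν ⟨d, hd⟩]⟩
  have hνpow : ∀ d ∈ D, ν d ^ p = 1 := by
    intro d hd
    rw [hν ⟨d, hd⟩, ← map_pow]
    apply Subtype.ext
    rw [hμ]
    exact (QuotientGroup.eq_one_iff _).2 (h3 d hd)
  have hνone : ∀ d ∈ D, ν d = 1 → d ∈ D₁ := by
    intro d hd h
    rw [hν ⟨d, hd⟩] at h
    have := congrArg Subtype.val h
    rw [hμ] at this
    exact (QuotientGroup.eq_one_iff _).1 this
  have hνD₁ : ∀ d ∈ D₁, ν d = 1 := by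
    intro d hd
    rw [hν ⟨d, h1 hd⟩]
    apply Subtype.ext
    rw [hμ]
    exact (QuotientGroup.eq_one_iff _).2 hd
  -- the biset
  obtain ⟨X, _, _, hg, hst, hp⟩ := exists_charBiset hS F hF
  obtain ⟨γ, hγ, hγD⟩ := exists_triv_deg hg D (fun P f hf => by
    obtain ⟨s, hs, h⟩ := inner_mod_hyp hS F hF hf
    refine ⟨⟨s, hs⟩, fun u v hu hv => ?_⟩
    have := h u hu
    rw [← hv] at this
    exact this)
  have hγD' : ∀ u ∈ D, ∀ x : X0 γ, γ (((1 : S), u) • x.1) ∈ D := by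
    intro u hu x
    have := mul_mem (inv_mem hu) (hγD u x)
    simpa using this
  let Vs : S → Subgroup.center (S ⧸ D₁) := fun b => T ν γ (fun x : X => ((1 : S), b) • x)
  have hVs : ∀ u : S, u ∈ D → Vs u = 1 := by
    apply stable_kills_hyp F Vs
    · intro u u' hu'
      exact T_rgt_mul ν D hl hγ u u' (hγD' u' hu')
    · intro u hu
      exact finprod_pow_eq_one γ _ p (fun x => hνpow _ (hγD' u hu x))
    · intro P f hf u hu huD
      obtain ⟨e, he, heu⟩ := right_stable hst hf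
      have h5 : lift f u ∈ D := by
        rw [hDmem, lift_coe (hf.mem hu)]
        exact StronglyClosed_mem (hyperfocal_stronglyClosed hS hF) hf hu huD
      exact (T_eq_of_intertwine ν D hl hr hγ e he u (lift f u) (heu u hu) (hγD' u huD)
        (hγD' _ h5)).symm
  let Λ : S →* Subgroup.center (S ⧸ D₁) := MonoidHom.mk' (Lam ν γ) (Lam_mul ν D hl hc hγ hγD)
  have hΛ1 : frattini S ≤ Λ.ker := by
    apply Cfsg.Agent.Lib.Helper71Frattini.frattini_le_of_elem_quot p Fact.out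
    · intro x y
      rw [MonoidHom.mem_ker]
      simp [mul_comm (Λ x)]
    · intro x
      rw [MonoidHom.mem_ker, map_pow]
      exact finprod_pow_eq_one γ _ p (fun y => hνpow _ (hγD x y))
  have hΛD : ∀ w ∈ D, Λ w = ν w ^ Nat.card (X0 γ) := by
    intro w hw
    have h5 : Λ w = ν w ^ Nat.card (X0 γ) * Vs w := Lam_of_mem ν D hl γ hw
    rw [h5, hVs w hw, mul_one]
  have hΛ2 : D₁ ≤ Λ.ker := by
    intro w hw
    rw [MonoidHom.mem_ker, hΛD w (h1 hw), hνD₁ w hw, one_pow]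
  have hm : ¬ p ∣ Nat.card (X0 γ) := by
    intro hdvd
    apply hp
    rw [← card_X0 hγ, mul_comm]
    exact Nat.mul_dvd_mul_left _ hdvd
  intro d hd
  apply hνone d hd
  have h5 : Λ d = 1 := (sup_le hΛ1 hΛ2) (h4 hd)
  rw [hΛD d hd] at h5
  have h6 : Nat.Coprime p (Nat.card (X0 γ)) := (Nat.Prime.coprime_iff_not_dvd Fact.out).2 hm
  exact orderOf_eq_one_iff.1 (Nat.eq_one_of_dvd_coprimes h6
    (orderOf_dvd_of_pow_eq_one (hνpow d hd)) (orderOf_dvd_of_pow_eq_one h5))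

/-- a maximal normal subgroup below a normal subgroup of a `p`-group. -/
theorem exists_chief {G : Type*} [Group G] [Finite G] {p : ℕ} [Fact p.Prime] (hG : IsPGroup p G)
    (W D : Subgroup G) [hW : W.Normal] [hD : D.Normal] (hWD : W < D) :
    ∃ D₁ : Subgroup G, D₁.Normal ∧ W ≤ D₁ ∧ D₁ < D ∧ (∀ s : G, ∀ d ∈ D, s * d * s⁻¹ * d⁻¹ ∈ D₁) ∧
      ∀ d ∈ D, d ^ p ∈ D₁ := by
  obtain ⟨D₁, hWD₁, hmax⟩ := (Set.toFinite {N : Subgroup G | N.Normal ∧ W ≤ N ∧ N < D}).exists_le_maximal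
    (a := W) ⟨hW, le_rfl, hWD⟩
  obtain ⟨hn, -, hlt⟩ := hmax.prop
  haveI := hn
  have hne : D.map (QuotientGroup.mk' D₁) ≠ ⊥ := by
    intro h
    rw [Subgroup.map_eq_bot_iff, QuotientGroup.ker_mk'] at h
    exact absurd h (not_le_of_gt hlt)
  haveI : (D.map (QuotientGroup.mk' D₁)).Normal := hD.map _ (QuotientGroup.mk'_surjective D₁)
  obtain ⟨z, hzD, hzc, hz1, hzp⟩ := Cfsg.Agent.Lib.Helper3PGroup.exists_central_order_p
    (hG.to_quotient D₁) (D.map (QuotientGroup.mk' D₁)) hne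
  have hzn : (zpowers z).Normal := by
    constructor
    rintro _ ⟨i, rfl⟩ g
    have h1 : g * z ^ i = z ^ i * g := Subgroup.mem_center_iff.1 (zpow_mem hzc i) g
    show g * z ^ i * g⁻¹ ∈ _
    rw [h1, mul_inv_cancel_right]
    exact ⟨i, rfl⟩
  let N' := (zpowers z).comap (QuotientGroup.mk' D₁)
  have hN'n : N'.Normal := hzn.comap _
  have hD₁N' : D₁ ≤ N' := by
    intro x hx
    show (x : G ⧸ D₁) ∈ zpowers z
    rw [(QuotientGroup.eq_one_iff x).2 hx]
    exact one_mem _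
  have hN'D : N' ≤ D := by
    intro x hx
    have h1 : (x : G ⧸ D₁) ∈ D.map (QuotientGroup.mk' D₁) := by
      have h2 : zpowers z ≤ D.map (QuotientGroup.mk' D₁) := by
        rw [Subgroup.zpowers_le]; exact hzD
      exact h2 hx
    obtain ⟨d, hd, hdx⟩ := h1
    have h3 : d⁻¹ * x ∈ D₁ := QuotientGroup.eq.1 hdx
    have h4 := D.mul_mem hd (hlt.le h3)
    simpa using h4
  have hN'eq : N' = D := by
    by_contra hne'
    have h1 : N' ≤ D₁ := hmax.le_of_ge (y := N') ⟨hN'n, hWD₁.trans hD₁N', lt_of_le_of_ne hN'D hne'⟩ hD₁N'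
    obtain ⟨x, rfl⟩ := QuotientGroup.mk_surjective z
    apply hz1
    exact (QuotientGroup.eq_one_iff x).2 (h1 (Subgroup.mem_zpowers _))
  have hDz : ∀ d ∈ D, ∃ i : ℤ, z ^ i = (d : G ⧸ D₁) := by
    intro d hd
    rw [← hN'eq] at hd
    exact hd
  refine ⟨D₁, hn, hWD₁, hlt, fun s d hd => ?_, fun d hd => ?_⟩
  · obtain ⟨i, hi⟩ := hDz d hd
    rw [← QuotientGroup.eq_one_iff]
    rw [QuotientGroup.mk_mul, QuotientGroup.mk_mul, QuotientGroup.mk_mul, QuotientGroup.mk_inv,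
      QuotientGroup.mk_inv, ← hi, Subgroup.mem_center_iff.1 (zpow_mem hzc i) (s : G ⧸ D₁)]
    simp
  · obtain ⟨i, hi⟩ := hDz d hd
    rw [← QuotientGroup.eq_one_iff, QuotientGroup.mk_pow, ← hi, ← zpow_natCast, ← zpow_mul, mul_comm,
      zpow_mul, zpow_natCast, hzp, one_zpow]

/-- **Tate's theorem** for the hyperfocal subgroup. -/
theorem tate_hyp [Finite S] {p : ℕ} [Fact p.Prime] (hS : IsPGroup p S) (F : FusionSystem S)
    (hF : F.IsSaturated p) (W : Subgroup Ω) (hW : W ≤ F.hyperfocalSubgroup p)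
    (hWn : ∀ s ∈ S, ∀ w ∈ W, s * w * s⁻¹ ∈ W)
    (h : F.hyperfocalSubgroup p ≤ (frattini S).map S.subtype ⊔ W) :
    F.hyperfocalSubgroup p ≤ W := by
  by_contra hcon
  have hDS := hyperfocal_le F p
  have hWS : W ≤ S := hW.trans hDS
  haveI hDn : ((F.hyperfocalSubgroup p).subgroupOf S).Normal :=
    ⟨fun d hd s => hyperfocal_conj_mem F p s.2 hd⟩
  haveI hWn' : (W.subgroupOf S).Normal := ⟨fun d hd s => hWn s s.2 d hd⟩
  have hlt : W.subgroupOf S < (F.hyperfocalSubgroup p).subgroupOf S := by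
    refine lt_of_le_of_ne (fun x hx => hW hx) fun heq => hcon fun y hy => ?_
    have : (⟨y, hDS hy⟩ : S) ∈ (F.hyperfocalSubgroup p).subgroupOf S := hy
    rw [← heq] at this
    exact this
  obtain ⟨D₁, hn, hWD₁, hlt₁, h2, h3⟩ := exists_chief hS _ _ hlt
  haveI := hn
  refine absurd (tate_core hS F hF D₁ hlt₁.le h2 h3 ?_) (not_le_of_gt hlt₁)
  intro d hd
  have h5 : (d : Ω) ∈ (frattini S).map S.subtype ⊔ W := h hd
  rw [← Subgroup.map_subgroupOf_eq_of_le hWS, ← Subgroup.map_sup] at h5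
  obtain ⟨d', hd', hdd⟩ := h5
  have : d' = d := Subtype.ext hdd
  rw [← this]
  exact (sup_le_sup_left hWD₁ _) hd'

end Cfsg.Agent.Lib.Helper86TateF
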