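import Cfsg.Agent.Lib.H37WkDefs
import Cfsg.Agent.Lib.Helper86TateF
import Cfsg.Agent.Lib.Helper88Solv
import Cfsg.Agent.S5132
import Cfsg.Agent.S5133
import Cfsg.Agent.S5134
import Cfsg.Agent.S5256

set_option autoImplicit false

namespace Cfsg.Agent.Lib.H37WkC

open Cfsg Cfsg.FusionSystem Cfsg.Agent.Lib.Helper87Fusion Cfsg.Agent.Lib.H37WkDefs

/-- (2) TATE IN THE QUOTIENT. -/
theorem exists_coatom {Ω : Type*} [Group Ω] {S : Subgroup Ω} [Finite S] {p : ℕ} [Fact p.Prime]
    (hS : IsPGroup p S) (F : FusionSystem S) (hF : F.IsSaturated p) {W : Subgroup Ω}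
    (hW : F.StronglyClosed W) (h : ¬ F.hyperfocalSubgroup p ≤ W) :
    ∃ M : Subgroup S, IsCoatom M ∧ W.subgroupOf S ≤ M ∧ ¬ (F.hyperfocalSubgroup p).subgroupOf S ≤ M := by
  by_contra hcon
  push_neg at hcon
  haveI := Helper88Solv.sc_normal hW
  obtain ⟨E, hE⟩ := Cfsg.Agent.S5132.result p hS F W hW
  set θ := QuotientGroup.mk' (W.subgroupOf S) with hθ
  have hsur := Cfsg.Agent.S5134.result p hS F hF W hW θ E hE
  have hEs : E.IsSaturated p := Cfsg.Agent.S5133.result p hS F hF E θ hsur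
  have hhyp := Cfsg.Agent.S5256.result p hS F hF W hW θ E hE
  have hTp : IsPGroup p (⊤ : Subgroup (S ⧸ W.subgroupOf S)) :=
    (hS.to_quotient (W.subgroupOf S)).to_subgroup ⊤
  have hfin : Finite (⊤ : Subgroup (S ⧸ W.subgroupOf S)) := inferInstance
  have key : E.hyperfocalSubgroup p ≤ ⊥ := by
    refine Helper86TateF.tate_hyp hTp E hEs ⊥ bot_le ?_ ?_
    · intro s _ w hw
      rw [Subgroup.mem_bot] at hw ⊢
      subst hw
      simp
    · intro z hz
      rw [hhyp] at hz
      obtain ⟨y, hy, rfl⟩ := hz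
      apply Subgroup.mem_sup_left
      let θ' : S →* ↥(⊤ : Subgroup (S ⧸ W.subgroupOf S)) := θ.codRestrict ⊤ (fun _ => trivial)
      have hθ' : Function.Surjective θ' := by
        rintro ⟨x, hx⟩
        obtain ⟨s, rfl⟩ := QuotientGroup.mk'_surjective (W.subgroupOf S) x
        exact ⟨s, rfl⟩
      refine ⟨θ' y, ?_, rfl⟩
      show θ' y ∈ frattini _
      unfold frattini Order.radical
      simp only [Subgroup.mem_iInf]
      intro M' hM'
      have hco : IsCoatom (M'.comap θ') := Subgroup.isCoatom_comap_of_surjective hθ' hM'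
      have hker : W.subgroupOf S ≤ M'.comap θ' := by
        intro x hx
        rw [Subgroup.mem_comap]
        have : θ' x = 1 := by
          apply Subtype.ext
          show θ x = 1
          rw [hθ, QuotientGroup.mk'_apply, QuotientGroup.eq_one_iff]
          exact hx
        rw [this]
        exact M'.one_mem
      exact hcon _ hco hker hy
  apply h
  intro y hy
  have hyS : y ∈ S := Helper87Closed.hyperfocal_le F p hy
  have h1 : θ ⟨y, hyS⟩ ∈ E.hyperfocalSubgroup p := by
    rw [hhyp]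
    exact ⟨⟨y, hyS⟩, hy, rfl⟩
  have h2 := key h1
  rw [Subgroup.mem_bot, hθ, QuotientGroup.mk'_apply, QuotientGroup.eq_one_iff] at h2
  exact h2

end Cfsg.Agent.Lib.H37WkC
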