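import Cfsg.Agent.Lib.H37WkDefs
import Cfsg.Agent.Lib.H37WkLdId
import Cfsg.Agent.S5124

set_option autoImplicit false

namespace Cfsg.Agent.Lib.H37WkLd

open Cfsg Cfsg.FusionSystem Cfsg.Agent.Lib.Helper87Fusion Cfsg.Agent.Lib.H37WkDefs

/-- (Ld).  The hyperfocal subgroup does not have order `p` when all `F`-maps with source `S` are inner. -/
theorem card_hyp_ne {Ω : Type*} [Group Ω] {S : Subgroup Ω} [Finite S] {p : ℕ} [Fact p.Prime]
    (hS : IsPGroup p S) (F : FusionSystem S) (hF : F.IsSaturated p) (hinn : InnAbove F S) :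
    Nat.card (F.hyperfocalSubgroup p) ≠ p := by
  intro hZp
  have hZ := Cfsg.Agent.S5124.result p hS F hF
  have hpp : p.Prime := Fact.out
  have key : ∀ (P : Subgroup Ω), P ≤ S → ∀ α : F.autGroup P, (orderOf α).Coprime p → α = 1 := by
    intro P hP α hα
    have hres : α ∈ pResidual p (F.autGroup P) := Subgroup.subset_closure hα
    have hz : ∀ x : P, (x : Ω)⁻¹ * ((α : MulAut P) x : P) ∈ F.hyperfocalSubgroup p := fun x =>
      Subgroup.subset_closure ⟨P, α, x, hP, hres, rfl⟩
    have ha : IsMap F P (tot (P.subtype.comp (α : MulAut P).toMonoidHom)) :=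
      isMap_tot ((mem_autGroup_iff F hP α.1).mp α.2)
    have hid := Cfsg.Agent.Lib.H37WkLdId.map_eq_id hS F hF hinn hZ hZp inf_le_right
      (ha.restrict inf_le_left)
    have hfix : ∀ x : P, (α : MulAut P) (x⁻¹ * (α : MulAut P) x) = x⁻¹ * (α : MulAut P) x := by
      intro x
      have hm : ((x⁻¹ * (α : MulAut P) x : P) : Ω) ∈ P ⊓ F.hyperfocalSubgroup p :=
        ⟨(x⁻¹ * (α : MulAut P) x : P).2, by simpa using hz x⟩
      have := hid _ hm
      rw [tot_apply] at this
      exact Subtype.ext this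
    have hpow : ∀ (j : ℕ) (x : P),
        ((α : MulAut P) ^ j) x = x * (x⁻¹ * (α : MulAut P) x) ^ j := by
      intro j x
      induction j with
      | zero => simp
      | succ j ih =>
        rw [pow_succ', MulAut.mul_apply, ih, map_mul, map_pow, hfix, pow_succ', ← mul_assoc,
          mul_inv_cancel_left]
    have hzp : ∀ x : P, (x⁻¹ * (α : MulAut P) x) ^ p = 1 := by
      intro x
      apply Subtype.ext
      have h1 : ((⟨(x : Ω)⁻¹ * ((α : MulAut P) x : P), hz x⟩ : F.hyperfocalSubgroup p)) ^ p = 1 := by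
        have h0 := pow_card_eq_one'
          (x := (⟨(x : Ω)⁻¹ * ((α : MulAut P) x : P), hz x⟩ : F.hyperfocalSubgroup p))
        rwa [hZp] at h0
      have h2 := congrArg Subtype.val h1
      simpa using h2
    have hαp : α ^ p = 1 := by
      apply Subtype.ext
      rw [Subgroup.coe_pow, Subgroup.coe_one]
      ext x
      rw [hpow, hzp]
      simp
    have hdvd : orderOf α ∣ p := orderOf_dvd_of_pow_eq_one hαp
    have h1 : orderOf α = 1 := Nat.Coprime.eq_one_of_dvd hα hdvd
    exact orderOf_eq_one_iff.mp h1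
  have hbot : F.hyperfocalSubgroup p = ⊥ := by
    rw [hyperfocalSubgroup, Subgroup.closure_eq_bot_iff]
    rintro y ⟨P, α, x, hP, hα, rfl⟩
    have hres : pResidual p (F.autGroup P) = ⊥ := by
      rw [pResidual, Subgroup.closure_eq_bot_iff]
      intro g hg
      exact key P hP g hg
    rw [hres, Subgroup.mem_bot] at hα
    rw [hα]
    simp
  rw [hbot, Subgroup.card_bot] at hZp
  exact hpp.one_lt.ne hZp

end Cfsg.Agent.Lib.H37WkLd
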