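import Cfsg.Agent.Lib.H37WkDefs
import Cfsg.Agent.Lib.H37WkLd
import Cfsg.Agent.Lib.Helper86TateF
import Cfsg.Agent.Lib.Helper88Solv
import Cfsg.Agent.S5132
import Cfsg.Agent.S5133
import Cfsg.Agent.S5134
import Cfsg.Agent.S5256

set_option autoImplicit false

namespace Cfsg.Agent.Lib.H37WkD

open Cfsg Cfsg.FusionSystem Cfsg.Agent.Lib.Helper87Fusion Cfsg.Agent.Lib.H37WkDefs

/-- (3).  `haveI := Helper88Solv.sc_normal hW`; `obtain ⟨E, hE⟩ := Cfsg.Agent.S5132.result p hS F W hW`; `θ := QuotientGroup.mk' (W.subgroupOf S)`; `hsur := Cfsg.Agent.S5134.result p hS F hF W hW θ E hE`; `hEs := Cfsg.Agent.S5133.result p hS F hF E θ hsur`;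
`hhyp := Cfsg.Agent.S5256.result p hS F hF W hW θ E hE : E.hyperfocalSubgroup p = Y.map θ`, `Y := (F.hyperfocalSubgroup p).subgroupOf S`.
`InnAbove E ⊤`: `⊤ ≤ P'` so `P' = ⊤`; `(Helper88Factor.isMap_factor_iff hE).1` gives `f` on `preimageAlong θ ⊤ = S` (`Helper88Factor.mem_preimageAlong`; use `hf.restrict`/`le_antisymm`), `hinn` gives `s`, and `f' (θ x) = θ (s x s⁻¹) = θ s * θ x * (θ s)⁻¹` (`Helper88Factor.tt_of_mem`), every element of `⊤` is some `θ x`.
`H37WkLd.card_hyp_ne (p-group ↥⊤) E hEs _ : Nat.card (E.hyperfocalSubgroup p) ≠ p`.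
Cardinality: `Nat.card (Y.map θ) * Nat.card (θ.ker ⊓ Y)= Nat.card Y` (first isomorphism theorem for `θ.restrict Y`/`θ.subgroupMap Y`: `Subgroup.card_mul_index`, `Subgroup.index_ker`, `MonoidHom.ker_restrict`…), `θ.ker = W.subgroupOf S` (`QuotientGroup.ker_mk'`),
`Nat.card Y = Nat.card hyp` (`hyp ≤ S`: `Helper87Closed.hyperfocal_le F p`, `Subgroup.subgroupOfEquivOfLe`), `Nat.card (W.subgroupOf S ⊓ Y) = Nat.card (hyp ⊓ W)`.  So `Nat.card hyp = p * Nat.card (hyp ⊓ W)` would give `Nat.card (Y.map θ) = p`. -/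
theorem card_ne {Ω : Type*} [Group Ω] {S : Subgroup Ω} [Finite S] {p : ℕ} [Fact p.Prime]
    (hS : IsPGroup p S) (F : FusionSystem S) (hF : F.IsSaturated p) (hinn : InnAbove F S)
    {W : Subgroup Ω} (hW : F.StronglyClosed W) :
    Nat.card (F.hyperfocalSubgroup p) ≠ p * Nat.card (F.hyperfocalSubgroup p ⊓ W : Subgroup Ω) := by
  intro hcard
  have := Cfsg.Agent.Lib.Helper88Solv.sc_normal hW
  obtain ⟨E, hE⟩ := Cfsg.Agent.S5132.result p hS F W hW
  set θ := QuotientGroup.mk' (W.subgroupOf S) with hθ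
  have hsur := Cfsg.Agent.S5134.result p hS F hF W hW θ E hE
  have hEs := Cfsg.Agent.S5133.result p hS F hF E θ hsur
  have hhyp := Cfsg.Agent.S5256.result p hS F hF W hW θ E hE
  have hq := Cfsg.Agent.Lib.Helper88Factor.IsFactorSystem.isQuot hE
  have hinnE : InnAbove E ⊤ := by
    intro P' f' hP' hf'
    obtain ⟨hP'S, f, hf, H⟩ := (Cfsg.Agent.Lib.Helper88Factor.isMap_factor_iff hE).1 hf'
    have hpre : S ≤ preimageAlong θ P' := by
      intro x hx
      exact (Cfsg.Agent.Lib.Helper88Factor.mem_preimageAlong θ).2 ⟨hx, hP' (Subgroup.mem_top _)⟩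
    obtain ⟨s, hs, hsf⟩ := hinn (preimageAlong θ P') f hpre hf
    refine ⟨Cfsg.Agent.Lib.Helper88Factor.tt θ s, Subgroup.mem_top _, ?_⟩
    intro y hy
    obtain ⟨x, hx, rfl⟩ := hq.exists_pre hP'S hy
    have hxS : x ∈ S := hf.le hx
    rw [H x hx, hsf x hx, Cfsg.Agent.Lib.Helper88Factor.tt_mul θ (S.mul_mem hs hxS) (S.inv_mem hs),
      Cfsg.Agent.Lib.Helper88Factor.tt_mul θ hs hxS, Cfsg.Agent.Lib.Helper88Factor.tt_inv θ hs]
  have hTp : IsPGroup p (⊤ : Subgroup (S ⧸ W.subgroupOf S)) :=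
    (hS.to_quotient _).to_subgroup ⊤
  have hne := Cfsg.Agent.Lib.H37WkLd.card_hyp_ne hTp E hEs hinnE
  apply hne
  rw [hhyp]
  set Z := F.hyperfocalSubgroup p with hZ
  have hZS : Z ≤ S := Cfsg.Agent.Lib.Helper87Closed.hyperfocal_le F p
  set Y := Z.subgroupOf S with hY
  have h1 : Nat.card (θ.comp Y.subtype).ker * (θ.comp Y.subtype).ker.index = Nat.card Y :=
    Subgroup.card_mul_index _
  have hr : (θ.comp Y.subtype).range = Y.map θ := by
    rw [MonoidHom.range_comp, Subgroup.range_subtype]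
  have hk : (θ.comp Y.subtype).ker = θ.ker.subgroupOf Y := rfl
  rw [Subgroup.index_ker, hr, hk] at h1
  have hYc : Nat.card Y = Nat.card Z := Nat.card_congr (Subgroup.subgroupOfEquivOfLe hZS).toEquiv
  have hker : θ.ker = W.subgroupOf S := QuotientGroup.ker_mk' _
  have hKc : Nat.card (θ.ker.subgroupOf Y) = Nat.card (Z ⊓ W : Subgroup Ω) := by
    have e1 : Nat.card ((θ.ker.subgroupOf Y).map Y.subtype) = Nat.card (θ.ker.subgroupOf Y) :=
      Subgroup.card_map_of_injective Y.subtype_injective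
    have e2 : Nat.card ((θ.ker ⊓ Y).map S.subtype) = Nat.card (θ.ker ⊓ Y : Subgroup S) :=
      Subgroup.card_map_of_injective S.subtype_injective
    rw [← e1, Subgroup.subgroupOf_map_subtype, ← e2, hker]
    congr 2
    ext x
    constructor
    · rintro ⟨s, ⟨hs1, hs2⟩, rfl⟩
      exact ⟨hs2, hs1⟩
    · rintro ⟨hx1, hx2⟩
      exact ⟨⟨x, hZS hx1⟩, ⟨hx2, hx1⟩, rfl⟩
  rw [hKc, hYc, hcard] at h1
  have hpos : 0 < Nat.card (Z ⊓ W : Subgroup Ω) := by
    have : Finite (Z ⊓ W : Subgroup Ω) :=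
      Finite.of_injective (Subgroup.inclusion (inf_le_left.trans hZS))
        (Subgroup.inclusion_injective _)
    exact Nat.card_pos
  have h2 : Nat.card (Z ⊓ W : Subgroup Ω) * Nat.card (Y.map θ)
      = Nat.card (Z ⊓ W : Subgroup Ω) * p := by rw [h1, mul_comm]
  exact Nat.eq_of_mul_eq_mul_left hpos h2

end Cfsg.Agent.Lib.H37WkD
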