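import Cfsg.Agent.Lib.H37WkDefs
import Cfsg.Agent.Lib.Helper87Fusion3
import Cfsg.Agent.Lib.Helper89Normal
import Cfsg.Agent.S5128

set_option autoImplicit false

namespace Cfsg.Agent.Lib.H37WkSC

open Cfsg Cfsg.FusionSystem Cfsg.Agent.Lib.Helper87Fusion Cfsg.Agent.Lib.H37WkDefs

/-- The strongly closed subgroups form a `Lat`: `le := fun A h => h.1`; `conj`: `Helper87Fusion3.StronglyClosed_conj_mem`; `inf`: `Helper89Normal.stronglyClosed_inf`; `sup`: `Cfsg.Agent.S5128.result p hS F hF`. -/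
theorem lat_sc {Ω : Type*} [Group Ω] {S : Subgroup Ω} [Finite S] {p : ℕ} [Fact p.Prime]
    (hS : IsPGroup p S) (F : FusionSystem S) (hF : F.IsSaturated p) : Lat S F.StronglyClosed :=
  { le := fun A h => h.1
    conj := fun A hA s hs a ha => Cfsg.Agent.Lib.Helper87Fusion3.StronglyClosed_conj_mem hA hs ha
    inf := fun A B hA hB => Cfsg.Agent.Lib.Helper89Normal.stronglyClosed_inf hA hB
    sup := fun A B hA hB => Cfsg.Agent.S5128.result p hS F hF A B hA hB }

end Cfsg.Agent.Lib.H37WkSC
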