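import Cfsg.Agent.Lib.H37WkDefs
import Cfsg.Agent.Lib.H37WkSC
import Cfsg.Agent.Lib.H37WkA
import Cfsg.Agent.Lib.H37WkB1
import Cfsg.Agent.Lib.H37WkB2
import Cfsg.Agent.Lib.H37WkC
import Cfsg.Agent.Lib.H37WkMY
import Cfsg.Agent.Lib.H37WkD
import Cfsg.Agent.Lib.H37WkFin
import Cfsg.Agent.Lib.Helper86Series
import Cfsg.Agent.Lib.Helper87Closed

set_option autoImplicit false

namespace Cfsg.Agent.Lib.H37WkMain

open Cfsg Cfsg.FusionSystem Cfsg.Agent.Lib.Helper87Fusion Cfsg.Agent.Lib.H37WkDefs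

theorem sc_self {Ω : Type*} [Group Ω] {S : Subgroup Ω} (F : FusionSystem S) : F.StronglyClosed S :=
  ⟨le_rfl, fun _ _ _ hφ x => (F.le_of_mem hφ).2 x⟩

/-- a maximal member of a family of subgroups of the finite group `S` -/
theorem exists_max {Ω : Type*} [Group Ω] {S : Subgroup Ω} [Finite S] (C : Subgroup Ω → Prop)
    (hle : ∀ X, C X → X ≤ S) (X0 : Subgroup Ω) (h0 : C X0) :
    ∃ W, C W ∧ ∀ X, C X → W ≤ X → X = W := by
  classical
  by_contra hcon
  push Not at hcon
  have key : ∀ n : ℕ, ∃ X, C X ∧ n ≤ Nat.card X := by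
    intro n
    induction n with
    | zero => exact ⟨X0, h0, Nat.zero_le _⟩
    | succ n ih =>
      obtain ⟨X, hX, hn⟩ := ih
      obtain ⟨X', hX', hle', hne⟩ := hcon X hX
      refine ⟨X', hX', ?_⟩
      haveI : Finite X' := Finite.of_injective (Subgroup.inclusion (hle X' hX'))
        (Subgroup.inclusion_injective _)
      by_contra hlt
      push Not at hlt
      have : Nat.card X' ≤ Nat.card X := by omega
      exact hne (Subgroup.eq_of_le_of_card_ge hle' this).symm
  obtain ⟨X, hX, hn⟩ := key (Nat.card S + 1)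
  have := Subgroup.card_le_of_le (hle X hX)
  omega

theorem hyp_bot {Ω : Type*} [Group Ω] {S : Subgroup Ω} [Finite S] {p : ℕ} [Fact p.Prime]
    (hS : IsPGroup p S) (F : FusionSystem S) (hF : F.IsSaturated p) {k : ℕ}
    (hk : p ^ k < Nat.card S) (hWE : WE F (p ^ k)) (hNI : NI F (p ^ k)) :
    F.hyperfocalSubgroup p = ⊥ := by
  classical
  have hp : p.Prime := Fact.out
  by_contra hY
  have hL := H37WkSC.lat_sc hS F hF
  have hbot := Helper86Series.stronglyClosed_bot F
  have hYS : F.hyperfocalSubgroup p ≤ S := Helper87Closed.hyperfocal_le F p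
  obtain ⟨H0, hH0, -, hH0c⟩ := H37WkA.exists_card hS hL hbot hWE (sc_self F) hk.le
  have hinn0 := H37WkB1.innAbove F hNI hH0 hH0c
  have hinn : InnAbove F S := fun P f hSP hf => hinn0 P f (hH0.1.trans hSP) hf
  obtain ⟨W, ⟨hW, hYW⟩, hmax'⟩ := exists_max (S := S)
    (fun X => F.StronglyClosed X ∧ ¬ F.hyperfocalSubgroup p ≤ X) (fun X hX => hX.1.1) ⊥
    ⟨hbot, fun h => hY (le_bot_iff.mp h)⟩
  have hmax : ∀ X, F.StronglyClosed X → W ≤ X → ¬ F.hyperfocalSubgroup p ≤ X → X = W :=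
    fun X h1 h2 h3 => hmax' X ⟨h1, h3⟩ h2
  have hWk : Nat.card W < p ^ k := by
    by_contra hcon
    push Not at hcon
    obtain ⟨H, hH, hHW, hHc⟩ := H37WkA.exists_card hS hL hbot hWE hW hcon
    exact hYW ((H37WkB2.hyp_le hS F hF hH (H37WkB1.innAbove F hNI hH hHc)).trans hHW)
  obtain ⟨M0, hM0, hWM0, hYM0⟩ := H37WkC.exists_coatom hS F hF hW hYW
  obtain ⟨hc1, hc2⟩ := H37WkMY.coatom_card hS M0 hM0 _ hYM0
  have hMS : M0.map S.subtype ≤ S := by
    rintro _ ⟨x, -, rfl⟩
    exact x.2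
  have hmemM : ∀ x (hx : x ∈ S), x ∈ M0.map S.subtype ↔ (⟨x, hx⟩ : S) ∈ M0 := by
    intro x hx
    constructor
    · rintro ⟨y, hy, hyx⟩
      have : y = ⟨x, hx⟩ := Subtype.ext hyx
      rwa [← this]
    · intro h
      exact ⟨⟨x, hx⟩, h, rfl⟩
  have hWM : W ≤ M0.map S.subtype := by
    intro w hw
    rw [hmemM w (hW.1 hw)]
    exact hWM0 (Subgroup.mem_subgroupOf.mpr hw)
  have hYM : ¬ F.hyperfocalSubgroup p ≤ M0.map S.subtype := by
    intro h
    apply hYM0
    intro y hy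
    exact (hmemM y.1 y.2).1 (h (Subgroup.mem_subgroupOf.mp hy))
  have hcM : Nat.card (M0.map S.subtype) = Nat.card M0 :=
    Subgroup.card_map_of_injective S.subtype_injective
  have hMk : p ^ k ≤ Nat.card (M0.map S.subtype) := by
    rw [hcM]
    obtain ⟨n, hn⟩ := (hS.to_subgroup M0).exists_card_eq
    rw [hc1, hn, ← pow_succ'] at hk
    rw [hn]
    have : k < n + 1 := (Nat.pow_lt_pow_iff_right hp.one_lt).mp hk
    exact Nat.pow_le_pow_right hp.pos (by omega)
  -- cardinalities of the intersections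
  have hcY : Nat.card ((F.hyperfocalSubgroup p).subgroupOf S) = Nat.card (F.hyperfocalSubgroup p) :=
    Nat.card_congr (Subgroup.subgroupOfEquivOfLe hYS).toEquiv
  have hcMY : Nat.card (M0 ⊓ (F.hyperfocalSubgroup p).subgroupOf S : Subgroup S) =
      Nat.card (M0.map S.subtype ⊓ F.hyperfocalSubgroup p : Subgroup Ω) := by
    have : (M0 ⊓ (F.hyperfocalSubgroup p).subgroupOf S).map S.subtype =
        M0.map S.subtype ⊓ F.hyperfocalSubgroup p := by
      ext x
      constructor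
      · rintro ⟨y, ⟨hy1, hy2⟩, rfl⟩
        exact ⟨⟨y, hy1, rfl⟩, Subgroup.mem_subgroupOf.mp hy2⟩
      · rintro ⟨⟨y, hy, rfl⟩, h2⟩
        exact ⟨y, ⟨hy, Subgroup.mem_subgroupOf.mpr h2⟩, rfl⟩
    rw [← this]
    exact (Subgroup.card_map_of_injective S.subtype_injective).symm
  have hMYW : ¬ M0.map S.subtype ⊓ F.hyperfocalSubgroup p ≤ W := by
    intro hle
    apply H37WkD.card_ne hS F hF hinn hW
    rw [hcY, hcMY] at hc2
    haveI : Finite (F.hyperfocalSubgroup p) := Finite.of_injective (Subgroup.inclusion hYS)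
      (Subgroup.inclusion_injective _)
    have h1 : M0.map S.subtype ⊓ F.hyperfocalSubgroup p ≤ F.hyperfocalSubgroup p ⊓ W :=
      le_inf inf_le_right hle
    have h2 : Nat.card (M0.map S.subtype ⊓ F.hyperfocalSubgroup p : Subgroup Ω) ∣
        Nat.card (F.hyperfocalSubgroup p ⊓ W : Subgroup Ω) := Subgroup.card_dvd_of_le h1
    have h3 : Nat.card (F.hyperfocalSubgroup p ⊓ W : Subgroup Ω) ∣
        Nat.card (F.hyperfocalSubgroup p) := Subgroup.card_dvd_of_le inf_le_left
    have h4 : Nat.card (F.hyperfocalSubgroup p ⊓ W : Subgroup Ω) ≠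
        Nat.card (F.hyperfocalSubgroup p) := by
      intro heq
      apply hYW
      have := Subgroup.eq_of_le_of_card_ge
        (inf_le_left : F.hyperfocalSubgroup p ⊓ W ≤ F.hyperfocalSubgroup p) (le_of_eq heq.symm)
      exact inf_eq_left.mp this
    obtain ⟨t, ht⟩ := h2
    have hc0 : 0 < Nat.card (M0.map S.subtype ⊓ F.hyperfocalSubgroup p : Subgroup Ω) := by
      haveI : Finite (M0.map S.subtype ⊓ F.hyperfocalSubgroup p : Subgroup Ω) :=
        Finite.of_injective (Subgroup.inclusion (inf_le_right.trans hYS))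
          (Subgroup.inclusion_injective _)
      exact Nat.card_pos
    rw [ht, hc2, mul_comm p] at h3
    have h5 : t ∣ p := Nat.dvd_of_mul_dvd_mul_left hc0 h3
    rcases (Nat.dvd_prime hp).mp h5 with h6 | h6
    · rw [hc2, ht, h6, mul_one]
    · exfalso
      apply h4
      rw [ht, hc2, h6, mul_comm]
  exact H37WkFin.fin hS hL hW hmax hWk hMS hWM hYM hMk hMYW hWE

end Cfsg.Agent.Lib.H37WkMain
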