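import Mathlib
import Cfsg.Agent.Lib.H38GTDefs


set_option autoImplicit false

namespace Cfsg.Agent.Lib.H38GTCen

open Cfsg Cfsg.FusionSystem Cfsg.Agent.Lib.Helper87Fusion Cfsg.Agent.Lib.Helper87Fusion2
  Cfsg.Agent.Lib.H38GTDefs

variable {Ω : Type*} [Group Ω] {S : Subgroup Ω}

/-- (G6a) `F₀`-centric implies `F`-centric.
PROOF.  `refine ⟨hP.1, fun Q hPQ => ?_⟩`.  `isConj_iff.1 hPQ` : `F`-map `f`, `f '' P = Q`; `hfrat` : `f = a f₀` on `P`.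
 `Q₀ := f₀ P` (`IsMap.exists_image`), `F₀.IsConj P Q₀`, so `hP.2 Q₀ _ : centralizerIn S Q₀ ≤ Q₀`;  `a '' Q₀ = Q`.
 `obtain ⟨a', ha', h1, h2⟩ := exists_inv_top ha`.  For `c ∈ C_S(Q)` (`mem_centralizerIn`): `a' c ∈ S`, and for `y ∈ Q₀`:
 `y * a' c = a' (a y) * a' c = a' (a y * c) = a' (c * a y) = a' c * y`.  So `a' c ∈ Q₀` and `c = a (a' c) ∈ Q`. -/
theorem centric [Finite S] (F F₀ : FusionSystem S) (hfrat : Frat F₀ F) {P : Subgroup Ω}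
    (hP : F₀.IsCentric P) : F.IsCentric P := by
  refine ⟨hP.1, fun Q hPQ => ?_⟩
  obtain ⟨f, hf, hfQ⟩ := isConj_iff.1 hPQ
  obtain ⟨a, f₀, ha, hf₀, hfa⟩ := hfrat P f hf
  obtain ⟨Q₀, hQ₀⟩ := hf₀.exists_image
  have hc : F₀.IsConj P Q₀ := isConj_iff.2 ⟨f₀, hf₀, hQ₀⟩
  have hcen := hP.2 Q₀ hc
  have hQ₀S : Q₀ ≤ S := isConj_le_right hc
  obtain ⟨a', ha', h1, h2⟩ := exists_inv_top ha
  have haQ : ∀ y ∈ Q₀, a y ∈ Q := by
    intro y hy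
    obtain ⟨x, hx, rfl⟩ := IsMap.exists_of_mem_image hQ₀ hy
    rw [← hfa x hx]
    exact IsMap.mem_image hfQ hx
  intro c hc
  rw [mem_centralizerIn] at hc
  obtain ⟨hcS, hcc⟩ := hc
  have h3 : a' c ∈ centralizerIn S Q₀ := by
    rw [mem_centralizerIn]
    refine ⟨ha'.mem hcS, fun y hy => ?_⟩
    have hyS := hQ₀S hy
    calc y * a' c = a' (a y) * a' c := by rw [h1 y hyS]
      _ = a' (a y * c) := (ha'.map_mul (ha.mem hyS) hcS).symm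
      _ = a' (c * a y) := by rw [hcc _ (haQ y hy)]
      _ = a' c * a' (a y) := ha'.map_mul hcS (ha.mem hyS)
      _ = a' c * y := by rw [h1 y hyS]
  have h4 := haQ _ (hcen h3)
  rwa [h2 c hcS] at h4

end Cfsg.Agent.Lib.H38GTCen
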