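import Cfsg.Agent.Lib.H65DecMonMain

/-! # Project 40 (S5798), piece `Mon`: the monomial group is maximal in `SL_6(q)`, `q ≥ 5`

Copy of `H65DecStar`, `H65DecNF`, `H65DecA3`, `H65DecMonMain` with `7 ≤ card ι` weakened to `6 ≤ card ι`. -/

set_option autoImplicit false
set_option linter.unusedSectionVars false
set_option linter.unusedVariables false

namespace Cfsg.Agent.Lib.H40O6Mon

open Matrix Module Cfsg.Geo Cfsg.Agent.Lib.Helper95Basic Cfsg.Agent.Lib.H65DecDefs
  Cfsg.Agent.Lib.H65DecCalc Cfsg.Agent.Lib.H65DecMonA Cfsg.Agent.Lib.H65DecMonApi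

variable {ι : Type} [Fintype ι] [DecidableEq ι] {F : Type*} [Field F] [Fintype F]

/-- `E i = g⁻¹ (w_i e_i)` where `w` is the column `k0` of `g`. -/
private noncomputable def E (g : GL ι F) (k0 i : ι) : ι → F :=
  ((g⁻¹ : GL ι F) : Matrix ι ι F) *ᵥ ((g : Matrix ι ι F) i k0 • e i)

private lemma mulVec_eq_sum_e (g : GL ι F) (Y : ι → F) :
    (g : Matrix ι ι F) *ᵥ Y = ∑ k, Y k • ((g : Matrix ι ι F) *ᵥ e k) := by
  ext i
  simp only [Finset.sum_apply, Pi.smul_apply, mulVec_e, smul_eq_mul]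
  simp only [Matrix.mulVec, dotProduct]
  exact Finset.sum_congr rfl (fun k _ => mul_comm _ _)

private lemma g_E_sub (g : GL ι F) (k0 i j : ι) :
    (g : Matrix ι ι F) *ᵥ (E g k0 i - E g k0 j)
      = (g : Matrix ι ι F) i k0 • e i - (g : Matrix ι ι F) j k0 • e j := by
  unfold E
  rw [Matrix.mulVec_sub, mulVec_inv_mulVec, mulVec_inv_mulVec]

/-- (F) -/
private lemma F_T (g : GL ι F) (hc : Col1 g) (k0 : ι) (T : Finset ι)
    (hTS : ∀ i ∈ T, (g : Matrix ι ι F) i k0 ≠ 0) (hT2 : 2 ≤ T.card)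
    (hTn : T.card + 2 ≤ Fintype.card ι) (t0 : ι) (ht0 : t0 ∈ T) (J : Finset ι)
    (hJ : ∀ i ∈ T, i ≠ t0 → ∀ k, k ∉ J → (E g k0 i - E g k0 t0) k = 0) : T.card ≤ J.card := by
  classical
  by_contra hlt
  rw [not_le] at hlt
  -- two coordinates outside `T`
  have hcompl : 1 < (Finset.univ \ T).card := by
    rw [Finset.card_sdiff_of_subset (Finset.subset_univ T), Finset.card_univ]
    omega
  obtain ⟨p, hp, p', hp', hpp⟩ := Finset.one_lt_card.1 hcompl
  have hpT : p ∉ T := (Finset.mem_sdiff.1 hp).2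
  have hpT' : p' ∉ T := (Finset.mem_sdiff.1 hp').2
  let T' := T.erase t0
  have hT'card : T'.card + 1 = T.card := Finset.card_erase_add_one ht0
  let v : T' → (ι → F) := fun i =>
    (g : Matrix ι ι F) i k0 • e (i : ι) - (g : Matrix ι ι F) t0 k0 • e t0
  have hLI : LinearIndependent F v := by
    rw [Fintype.linearIndependent_iff]
    intro c hc0 j
    have hj : (j : ι) ≠ t0 := (Finset.mem_erase.1 j.2).1
    have h1 := congrFun hc0 (j : ι)
    simp only [v, Finset.sum_apply, Pi.smul_apply, Pi.sub_apply, e_apply, smul_eq_mul,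
      Pi.zero_apply, if_neg hj, mul_zero, sub_zero] at h1
    rw [Finset.sum_eq_single j] at h1
    · simp only [if_true, mul_one] at h1
      exact (mul_eq_zero.1 h1).resolve_right (hTS j (Finset.mem_of_mem_erase j.2))
    · intro i _ hij
      rw [if_neg (fun h => hij (Subtype.ext h.symm))]
      simp
    · intro h; exact absurd (Finset.mem_univ j) h
  let X : Submodule F (ι → F) := Submodule.span F (Set.range v)
  let Wj : Submodule F (ι → F) :=
    Submodule.span F ((J.image (fun a => (g : Matrix ι ι F) *ᵥ e a) : Finset (ι → F)) : Set (ι → F))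
  have hXr : finrank F X = T'.card := by
    rw [finrank_span_eq_card hLI, Fintype.card_coe]
  have hWr : finrank F Wj ≤ J.card :=
    (finrank_span_finset_le_card _).trans Finset.card_image_le
  have hXW : X ≤ Wj := by
    rw [Submodule.span_le]
    rintro _ ⟨i, rfl⟩
    have hi : (i : ι) ∈ T := Finset.mem_of_mem_erase i.2
    have hi0 : (i : ι) ≠ t0 := (Finset.mem_erase.1 i.2).1
    change v i ∈ Wj
    have : v i = (g : Matrix ι ι F) *ᵥ (E g k0 i - E g k0 t0) := (g_E_sub g k0 i t0).symm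
    rw [this, mulVec_eq_sum_e]
    refine Submodule.sum_mem _ (fun k _ => ?_)
    by_cases hk : k ∈ J
    · exact Submodule.smul_mem _ _ (Submodule.subset_span (by
        rw [Finset.coe_image]; exact ⟨k, hk, rfl⟩))
    · rw [hJ i hi hi0 k hk, zero_smul]
      exact Submodule.zero_mem _
  have hle : T'.card ≤ J.card := by
    rw [← hXr]
    exact (Submodule.finrank_mono hXW).trans hWr
  have hXeq : X = Wj := Submodule.eq_of_le_of_finrank_le hXW (by rw [hXr]; omega)
  have hJne : J.Nonempty := by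
    rw [← Finset.card_pos]; omega
  obtain ⟨a, ha⟩ := hJne
  have haX : (g : Matrix ι ι F) *ᵥ e a ∈ X := by
    rw [hXeq]
    exact Submodule.subset_span (by rw [Finset.coe_image]; exact ⟨a, ha, rfl⟩)
  have hzero : ∀ q, q ∉ T → ∀ x ∈ X, x q = 0 := by
    intro q hq x hx
    have hXq : X ≤ LinearMap.ker (LinearMap.proj q : (ι → F) →ₗ[F] F) := by
      rw [Submodule.span_le]
      rintro _ ⟨i, rfl⟩
      have hi : (i : ι) ∈ T := Finset.mem_of_mem_erase i.2
      have h1 : q ≠ (i : ι) := fun h => hq (h ▸ hi)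
      have h2 : q ≠ t0 := fun h => hq (h ▸ ht0)
      simp [v, h1, h2]
    exact hXq hx
  have h1 := hzero p hpT _ haX
  have h2 := hzero p' hpT' _ haX
  rw [mulVec_e] at h1 h2
  exact hc a p p' hpp h1 h2

section vec

variable [DecidableEq F]

private def sp (v : ι → F) : Finset ι := Finset.univ.filter (fun k => v k ≠ 0)

private lemma mem_sp {v : ι → F} {k : ι} : k ∈ sp v ↔ v k ≠ 0 := by simp [sp]

private lemma three_zero {D : ι → F} (h : (sp D).card ≤ 2) {k1 k2 k3 : ι} (h12 : k1 ≠ k2)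
    (h13 : k1 ≠ k3) (h23 : k2 ≠ k3) (h1 : D k1 ≠ 0) (h2 : D k2 ≠ 0) : D k3 = 0 := by
  by_contra h3
  have hsub : ({k1, k2, k3} : Finset ι) ⊆ sp D := by
    intro k hk
    simp only [Finset.mem_insert, Finset.mem_singleton] at hk
    rcases hk with rfl | rfl | rfl <;> rw [mem_sp] <;> assumption
  have := Finset.card_le_card hsub
  rw [Finset.card_eq_three.2 ⟨k1, k2, k3, h12, h13, h23, rfl⟩] at this
  omega

private lemma dich_half {Y1 Yi : ι → F} {a b : ι} (hab : a ≠ b) (hb : Y1 b ≠ 0)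
    (hY1 : ∀ k, k ≠ a → k ≠ b → Y1 k = 0) (hcard : (sp Yi).card = 2)
    (hD : (sp (Yi - Y1)).card ≤ 2) (hib : Yi b = 0) : Yi a = Y1 a := by
  obtain ⟨c, hc, hca⟩ : ∃ c ∈ sp Yi, c ≠ a := Finset.exists_mem_ne (by omega) a
  have hcb : c ≠ b := by rintro rfl; exact (mem_sp.1 hc) hib
  have h1 : (Yi - Y1) b ≠ 0 := by simp [hib, hb]
  have h2 : (Yi - Y1) c ≠ 0 := by simp [hY1 c hca hcb, mem_sp.1 hc]
  have h3 := three_zero hD (Ne.symm hcb) hab.symm hca h1 h2
  simpa [sub_eq_zero] using h3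

private lemma dich {Y1 Yi : ι → F} {a b : ι} (hab : a ≠ b) (ha : Y1 a ≠ 0) (hb : Y1 b ≠ 0)
    (hY1 : ∀ k, k ≠ a → k ≠ b → Y1 k = 0) (hcard : (sp Yi).card = 2)
    (hD : (sp (Yi - Y1)).card ≤ 2) (hne : ¬ (Yi a ≠ 0 ∧ Yi b ≠ 0)) :
    (Yi a = Y1 a ∧ Yi b = 0) ∨ (Yi b = Y1 b ∧ Yi a = 0) := by
  by_cases hib : Yi b = 0
  · exact Or.inl ⟨dich_half hab hb hY1 hcard hD hib, hib⟩
  · have hia : Yi a = 0 := by
      by_contra hia
      exact hne ⟨hia, hib⟩
    exact Or.inr ⟨dich_half hab.symm ha (fun k h1 h2 => hY1 k h2 h1) hcard hD hia, hia⟩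

private lemma mono_of {Y : ι → F} {a k0 : ι} (hcard : (sp Y).card = 2) (hk0 : k0 ∉ sp Y)
    (ha : Y a ≠ 0) : ∃ t, t ≠ k0 ∧ ∃ α : F, α ≠ 0 ∧ Y - Y a • e a = α • e t := by
  obtain ⟨c, hc, hca⟩ : ∃ c ∈ sp Y, c ≠ a := Finset.exists_mem_ne (by omega) a
  refine ⟨c, fun h => hk0 (h ▸ hc), Y c, mem_sp.1 hc, ?_⟩
  ext k
  simp only [Pi.sub_apply, Pi.smul_apply, e_apply, smul_eq_mul]
  by_cases hka : k = a
  · subst hka
    rw [if_pos rfl, if_neg (Ne.symm hca)]
    ring
  · by_cases hkc : k = c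
    · subst hkc
      rw [if_neg hka, if_pos rfl]
      ring
    · rw [if_neg hka, if_neg hkc, three_zero hcard.le (Ne.symm hca) (Ne.symm hka) (Ne.symm hkc) ha
        (mem_sp.1 hc)]
      ring

end vec

section main

variable [DecidableEq F]

private lemma tri' {g : GL ι F} {k0 : ι} (ht : Tri g k0) {i1 i2 i3 : ι} (h12 : i1 ≠ i2)
    (h13 : i1 ≠ i3) (h23 : i2 ≠ i3) (h1 : (g : Matrix ι ι F) i1 k0 ≠ 0)
    (h2 : (g : Matrix ι ι F) i2 k0 ≠ 0) (h3 : (g : Matrix ι ι F) i3 k0 ≠ 0) :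
    ∃ J : Finset ι, J.card ≤ 3 ∧ k0 ∉ J ∧ ∀ k, k ∉ J →
      (E g k0 i1 - E g k0 i2) k = 0 ∧ (E g k0 i2 - E g k0 i3) k = 0 := by
  obtain ⟨J, hJ, hk, h⟩ := ht i1 i2 i3 h12 h13 h23 h1 h2 h3
  refine ⟨J, hJ, hk, fun k hkJ => ?_⟩
  unfold E
  rw [← Matrix.mulVec_sub, ← Matrix.mulVec_sub]
  exact h k hkJ

private lemma card_S (g : GL ι F) (hc : Col1 g) (k0 : ι) :
    Fintype.card ι ≤ (Finset.univ.filter (fun i => (g : Matrix ι ι F) i k0 ≠ 0)).card + 1 := by
  have h1 : (Finset.univ.filter (fun i => ¬ (g : Matrix ι ι F) i k0 ≠ 0)).card ≤ 1 := by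
    rw [Finset.card_le_one]
    intro a ha b hb
    by_contra hab
    simp only [Finset.mem_filter, Finset.mem_univ, true_and, not_not] at ha hb
    exact hc k0 a b hab ha hb
  have h2 := Finset.card_filter_add_card_filter_not (s := (Finset.univ : Finset ι))
    (fun i => (g : Matrix ι ι F) i k0 ≠ 0)
  rw [Finset.card_univ] at h2
  omega

/-- two more elements of `S` outside a given small set -/
private lemma exists_two (hn : 6 ≤ Fintype.card ι) (g : GL ι F) (hc : Col1 g) (k0 : ι)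
    (A : Finset ι) (hA : A.card ≤ 2) :
    ∃ l l', l ≠ l' ∧ l ∉ A ∧ l' ∉ A ∧ (g : Matrix ι ι F) l k0 ≠ 0 ∧
      (g : Matrix ι ι F) l' k0 ≠ 0 := by
  have h1 := card_S g hc k0
  have h2 := Finset.le_card_sdiff A (Finset.univ.filter (fun i => (g : Matrix ι ι F) i k0 ≠ 0))
  have h3 : 1 < ((Finset.univ.filter (fun i => (g : Matrix ι ι F) i k0 ≠ 0)) \ A).card := by
    omega
  obtain ⟨l, hl, l', hl', hll⟩ := Finset.one_lt_card.1 h3
  simp only [Finset.mem_sdiff, Finset.mem_filter, Finset.mem_univ, true_and] at hl hl'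
  exact ⟨l, l', hll, hl.2, hl'.2, hl.1, hl'.1⟩

private lemma L3 (hn : 6 ≤ Fintype.card ι) (g : GL ι F) (hc : Col1 g) (k0 : ι) (ht : Tri g k0)
    {i i' : ι} (hii : i ≠ i') (hi : (g : Matrix ι ι F) i k0 ≠ 0)
    (hi' : (g : Matrix ι ι F) i' k0 ≠ 0) :
    (sp (E g k0 i - E g k0 i')).card = 2 ∧ k0 ∉ sp (E g k0 i - E g k0 i') := by
  obtain ⟨l, l', hll, hlA, hlA', hl, hl'⟩ := exists_two hn g hc k0 {i, i'}
    ((Finset.card_le_two).trans (by norm_num))
  simp only [Finset.mem_insert, Finset.mem_singleton, not_or] at hlA hlA'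
  obtain ⟨J, hJ3, hkJ, hJ⟩ := tri' ht hii (Ne.symm hlA.1) (Ne.symm hlA.2) hi hi' hl
  obtain ⟨J', hJ3', hkJ', hJ'⟩ := tri' ht hii (Ne.symm hlA'.1) (Ne.symm hlA'.2) hi hi' hl'
  have hsub : sp (E g k0 i - E g k0 i') ⊆ J ∩ J' := by
    intro k hk
    rw [mem_sp] at hk
    rw [Finset.mem_inter]
    constructor
    · by_contra h
      exact hk (hJ k h).1
    · by_contra h
      exact hk (hJ' k h).1
  have h2le : 2 ≤ (sp (E g k0 i - E g k0 i')).card := by
    have := F_T g hc k0 {i, i'} (by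
        intro x hx
        simp only [Finset.mem_insert, Finset.mem_singleton] at hx
        rcases hx with rfl | rfl <;> assumption)
      (by rw [Finset.card_pair hii]) (by rw [Finset.card_pair hii]; omega) i' (by simp)
      (sp (E g k0 i - E g k0 i')) (by
        intro x hx hxi k hk
        simp only [Finset.mem_insert, Finset.mem_singleton] at hx
        rcases hx with rfl | rfl
        · rw [mem_sp, not_not] at hk
          exact hk
        · exact absurd rfl hxi)
    rwa [Finset.card_pair hii] at this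
  have hI : (J ∩ J').card ≤ 2 := by
    by_contra hcon
    rw [not_le] at hcon
    have e1 : J ∩ J' = J' := Finset.eq_of_subset_of_card_le Finset.inter_subset_right (by omega)
    have hJJ : J' ⊆ J := by rw [← e1]; exact Finset.inter_subset_left
    have hT4 : ({i, i', l, l'} : Finset ι).card = 4 := by
      rw [Finset.card_insert_of_notMem, Finset.card_insert_of_notMem, Finset.card_pair hll]
      · simp only [Finset.mem_insert, Finset.mem_singleton, not_or]
        exact ⟨Ne.symm hlA.2, Ne.symm hlA'.2⟩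
      · simp only [Finset.mem_insert, Finset.mem_singleton, not_or]
        exact ⟨hii, Ne.symm hlA.1, Ne.symm hlA'.1⟩
    have := F_T g hc k0 {i, i', l, l'} (by
        intro x hx
        simp only [Finset.mem_insert, Finset.mem_singleton] at hx
        rcases hx with rfl | rfl | rfl | rfl <;> assumption)
      (by rw [hT4]; norm_num) (by rw [hT4]; omega) i' (by simp) J (by
        intro x hx hxi k hk
        simp only [Finset.mem_insert, Finset.mem_singleton] at hx
        rcases hx with rfl | rfl | rfl | rfl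
        · exact (hJ k hk).1
        · exact absurd rfl hxi
        · have := (hJ k hk).2
          simp only [Pi.sub_apply] at this ⊢
          linear_combination (-1 : F) * this
        · have := (hJ' k (fun h => hk (hJJ h))).2
          simp only [Pi.sub_apply] at this ⊢
          linear_combination (-1 : F) * this)
    rw [hT4] at this
    omega
  refine ⟨le_antisymm ((Finset.card_le_card hsub).trans hI) h2le, fun h => hkJ ?_⟩
  exact (Finset.mem_inter.1 (hsub h)).1

private lemma sub_sub_E (g : GL ι F) (k0 i j i0 : ι) :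
    (E g k0 i - E g k0 i0) - (E g k0 j - E g k0 i0) = E g k0 i - E g k0 j := by abel

private lemma exists_common (hn : 6 ≤ Fintype.card ι) (g : GL ι F) (hc : Col1 g) (k0 : ι)
    (ht : Tri g k0) {i0 i1 : ι} (h01 : i1 ≠ i0) (hi0 : (g : Matrix ι ι F) i0 k0 ≠ 0)
    (hi1 : (g : Matrix ι ι F) i1 k0 ≠ 0) :
    ∃ (a : ι) (lam : F), lam ≠ 0 ∧ a ≠ k0 ∧ ∀ i, (g : Matrix ι ι F) i k0 ≠ 0 → i ≠ i0 →
      (E g k0 i - E g k0 i0) a = lam := by
  obtain ⟨hY1c, hY1k⟩ := L3 hn g hc k0 ht h01 hi1 hi0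
  obtain ⟨a, b, hab, hsp⟩ := Finset.card_eq_two.1 hY1c
  have ha : (E g k0 i1 - E g k0 i0) a ≠ 0 := by rw [← mem_sp, hsp]; simp
  have hb : (E g k0 i1 - E g k0 i0) b ≠ 0 := by rw [← mem_sp, hsp]; simp
  have hY1 : ∀ k, k ≠ a → k ≠ b → (E g k0 i1 - E g k0 i0) k = 0 := by
    intro k hka hkb
    by_contra h
    rw [← ne_eq, ← mem_sp, hsp] at h
    simp only [Finset.mem_insert, Finset.mem_singleton] at h
    rcases h with h | h
    · exact hka h
    · exact hkb h
  have hak : a ≠ k0 := by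
    rintro rfl
    exact hY1k (mem_sp.2 ha)
  have hbk : b ≠ k0 := by
    rintro rfl
    exact hY1k (mem_sp.2 hb)
  -- the dichotomy for every other index
  have hdich : ∀ i, (g : Matrix ι ι F) i k0 ≠ 0 → i ≠ i0 → i ≠ i1 →
      ((E g k0 i - E g k0 i0) a = (E g k0 i1 - E g k0 i0) a ∧ (E g k0 i - E g k0 i0) b = 0) ∨
      ((E g k0 i - E g k0 i0) b = (E g k0 i1 - E g k0 i0) b ∧ (E g k0 i - E g k0 i0) a = 0) := by
    intro i hi hii0 hii1
    have hc2 := (L3 hn g hc k0 ht hii0 hi hi0).1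
    refine dich hab ha hb hY1 hc2 ?_ ?_
    · rw [sub_sub_E]
      exact (L3 hn g hc k0 ht hii1 hi hi1).1.le
    · rintro ⟨hia, hib⟩
      have hT3 : ({i0, i1, i} : Finset ι).card = 3 :=
        Finset.card_eq_three.2 ⟨i0, i1, i, Ne.symm h01, Ne.symm hii0, Ne.symm hii1, rfl⟩
      have := F_T g hc k0 {i0, i1, i} (by
          intro x hx
          simp only [Finset.mem_insert, Finset.mem_singleton] at hx
          rcases hx with rfl | rfl | rfl <;> assumption)
        (by rw [hT3]; norm_num) (by rw [hT3]; omega) i0 (by simp)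
        (sp (E g k0 i - E g k0 i0)) (by
          intro x hx hxi k hk
          simp only [Finset.mem_insert, Finset.mem_singleton] at hx
          rcases hx with rfl | rfl | rfl
          · exact absurd rfl hxi
          · refine hY1 k ?_ ?_
            · rintro rfl
              exact hk (mem_sp.2 hia)
            · rintro rfl
              exact hk (mem_sp.2 hib)
          · rw [mem_sp, not_not] at hk
            exact hk)
      rw [hT3, hc2] at this
      omega
  -- no mixing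
  have hmix : ∀ i j, (g : Matrix ι ι F) i k0 ≠ 0 → i ≠ i0 → i ≠ i1 →
      (g : Matrix ι ι F) j k0 ≠ 0 → j ≠ i0 → j ≠ i1 →
      ((E g k0 i - E g k0 i0) a = (E g k0 i1 - E g k0 i0) a ∧ (E g k0 i - E g k0 i0) b = 0) →
      ((E g k0 j - E g k0 i0) b = (E g k0 i1 - E g k0 i0) b ∧ (E g k0 j - E g k0 i0) a = 0) →
      False := by
    intro i j hi hii0 hii1 hj hji0 hji1 ⟨hia, hib⟩ ⟨hjb, hja⟩
    have hij : i ≠ j := by
      rintro rfl
      rw [hja] at hia
      exact ha hia.symm
    have hD := (L3 hn g hc k0 ht hij hi hj).1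
    rw [← sub_sub_E g k0 i j i0] at hD
    have hDa : ((E g k0 i - E g k0 i0) - (E g k0 j - E g k0 i0)) a ≠ 0 := by
      rw [Pi.sub_apply, hia, hja, sub_zero]; exact ha
    have hDb : ((E g k0 i - E g k0 i0) - (E g k0 j - E g k0 i0)) b ≠ 0 := by
      rw [Pi.sub_apply, hib, hjb, zero_sub]; exact neg_ne_zero.2 hb
    have hJcard : (sp (E g k0 i1 - E g k0 i0) ∪ sp (E g k0 i - E g k0 i0)).card ≤ 3 := by
      have h1 := Finset.card_union_add_card_inter (sp (E g k0 i1 - E g k0 i0))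
        (sp (E g k0 i - E g k0 i0))
      have h2 : 0 < (sp (E g k0 i1 - E g k0 i0) ∩ sp (E g k0 i - E g k0 i0)).card :=
        Finset.card_pos.2 ⟨a, Finset.mem_inter.2 ⟨mem_sp.2 ha, mem_sp.2 (by rw [hia]; exact ha)⟩⟩
      rw [hY1c, (L3 hn g hc k0 ht hii0 hi hi0).1] at h1
      omega
    have hT4 : ({i0, i1, i, j} : Finset ι).card = 4 := by
      rw [Finset.card_insert_of_notMem, Finset.card_insert_of_notMem, Finset.card_pair hij]
      · simp only [Finset.mem_insert, Finset.mem_singleton, not_or]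
        exact ⟨Ne.symm hii1, Ne.symm hji1⟩
      · simp only [Finset.mem_insert, Finset.mem_singleton, not_or]
        exact ⟨Ne.symm h01, Ne.symm hii0, Ne.symm hji0⟩
    have := F_T g hc k0 {i0, i1, i, j} (by
        intro x hx
        simp only [Finset.mem_insert, Finset.mem_singleton] at hx
        rcases hx with rfl | rfl | rfl | rfl <;> assumption)
      (by rw [hT4]; norm_num) (by rw [hT4]; omega) i0 (by simp)
      (sp (E g k0 i1 - E g k0 i0) ∪ sp (E g k0 i - E g k0 i0)) (by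
        intro x hx hxi k hk
        rw [Finset.mem_union, not_or, mem_sp, mem_sp, not_not, not_not] at hk
        simp only [Finset.mem_insert, Finset.mem_singleton] at hx
        rcases hx with rfl | rfl | rfl | rfl
        · exact absurd rfl hxi
        · exact hk.1
        · exact hk.2
        · have hka : k ≠ a := by
            rintro rfl
            exact ha hk.1
          have hkb : k ≠ b := by
            rintro rfl
            exact hb hk.1
          have h3 := three_zero hD.le hab (Ne.symm hka) (Ne.symm hkb) hDa hDb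
          rw [Pi.sub_apply, hk.2, zero_sub, neg_eq_zero] at h3
          exact h3)
    rw [hT4] at this
    omega
  by_cases hB : ∃ j, (g : Matrix ι ι F) j k0 ≠ 0 ∧ j ≠ i0 ∧ j ≠ i1 ∧
      ((E g k0 j - E g k0 i0) b = (E g k0 i1 - E g k0 i0) b ∧ (E g k0 j - E g k0 i0) a = 0)
  · obtain ⟨j, hj, hji0, hji1, hjB⟩ := hB
    refine ⟨b, _, hb, hbk, fun i hi hii0 => ?_⟩
    by_cases hii1 : i = i1
    · rw [hii1]
    · rcases hdich i hi hii0 hii1 with h | h
      · exact (hmix i j hi hii0 hii1 hj hji0 hji1 h hjB).elim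
      · exact h.1
  · refine ⟨a, _, ha, hak, fun i hi hii0 => ?_⟩
    by_cases hii1 : i = i1
    · rw [hii1]
    · rcases hdich i hi hii0 hii1 with h | h
      · exact h.1
      · exact (hB ⟨i, hi, hii0, hii1, h⟩).elim

end main

/-- **Step 2, (A2b)**: pure linear algebra + combinatorics of 2-sets -/
theorem star (hn : 6 ≤ Fintype.card ι) (g : GL ι F) (hc : Col1 g) (k0 : ι) (ht : Tri g k0) :
    Star g k0 := by
  classical
  obtain ⟨i0, i1, h01, -, -, hi0, hi1⟩ := exists_two hn g hc k0 ∅ (by simp)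
  obtain ⟨a, lam, hlam, hak, hcom⟩ := exists_common hn g hc k0 ht (Ne.symm h01) hi0 hi1
  obtain ⟨z, hz⟩ : ∃ z : ι → F, z = (g : Matrix ι ι F) i0 k0 • e i0
      + lam • ((g : Matrix ι ι F) *ᵥ e a) := ⟨_, rfl⟩
  have key : ∀ i, (g : Matrix ι ι F) i k0 ≠ 0 → ∃ t, t ≠ k0 ∧
      ∃ α : F, α ≠ 0 ∧ (g : Matrix ι ι F) i k0 • e i - z = α • ((g : Matrix ι ι F) *ᵥ e t) := by
    intro i hi
    by_cases hii0 : i = i0
    · subst hii0
      refine ⟨a, hak, -lam, neg_ne_zero.2 hlam, ?_⟩
      rw [hz, neg_smul]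
      abel
    · obtain ⟨hc2, hk2⟩ := L3 hn g hc k0 ht hii0 hi hi0
      have hia := hcom i hi hii0
      obtain ⟨t, htk, α, hα, hY⟩ := mono_of hc2 hk2 (by rw [hia]; exact hlam)
      refine ⟨t, htk, α, hα, ?_⟩
      have h1 := congrArg (fun v => (g : Matrix ι ι F) *ᵥ v) hY
      simp only [Matrix.mulVec_sub, Matrix.mulVec_smul] at h1
      rw [← Matrix.mulVec_sub, g_E_sub, hia] at h1
      rw [← h1, hz]
      abel
  choose! θ hθ using key
  refine ⟨z, θ, fun i hi => hθ i hi, ?_⟩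
  intro i i' hi hi' hθe
  by_contra hne
  obtain ⟨-, α, -, h1⟩ := hθ i hi
  obtain ⟨-, α', -, h2⟩ := hθ i' hi'
  rw [← hθe] at h2
  have h3 : (g : Matrix ι ι F) *ᵥ (E g k0 i - E g k0 i') = (g : Matrix ι ι F) *ᵥ ((α - α') • e (θ i)) := by
    rw [g_E_sub, Matrix.mulVec_smul, sub_smul, ← h1, ← h2]
    abel
  have h4 : E g k0 i - E g k0 i' = (α - α') • e (θ i) := by
    have := congrArg (fun v => ((g⁻¹ : GL ι F) : Matrix ι ι F) *ᵥ v) h3
    simpa only [inv_mulVec_mulVec] using this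
  have h5 := (L3 hn g hc k0 ht hne hi hi').1
  have h6 : sp (E g k0 i - E g k0 i') ⊆ {θ i} := by
    intro k hk
    rw [mem_sp, h4] at hk
    rw [Finset.mem_singleton]
    by_contra hkt
    apply hk
    simp [hkt]
  have h7 := Finset.card_le_card h6
  rw [h5, Finset.card_singleton] at h7
  omega


private lemma exists_avoid (s : Finset ι) (h : s.card < Fintype.card ι) : ∃ i, i ∉ s := by
  by_contra hcon
  have hcon' : ∀ i, i ∈ s := by
    intro i
    by_contra hi
    exact hcon ⟨i, hi⟩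
  have : s = Finset.univ := Finset.eq_univ_iff_forall.mpr hcon'
  rw [this, Finset.card_univ] at h
  exact lt_irrefl _ h

/-- **Step 2, (A2c)**: normal form of a foreign frame -/
theorem nf (hn : 6 ≤ Fintype.card ι) (g : GL ι F) (hc : Col1 g) (hs : ∀ k0, Star g k0) : NF g := by
  classical
  -- Step 1: every column has a zero
  have step1 : ∀ k0, ∃ i, (g : Matrix ι ι F) i k0 = 0 := by
    intro k0
    by_contra hcon
    have hcon' : ∀ i, (g : Matrix ι ι F) i k0 ≠ 0 := fun i hi => hcon ⟨i, hi⟩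
    obtain ⟨z, θ, h1, h2⟩ := hs k0
    have hinj : Function.Injective θ := fun i i' h => h2 i i' (hcon' i) (hcon' i') h
    obtain ⟨i, hi⟩ := (Finite.injective_iff_surjective.mp hinj) k0
    exact (h1 i (hcon' i)).1 hi
  have hne : Nonempty ι := Fintype.card_pos_iff.mp (by omega)
  obtain ⟨k0⟩ := hne
  obtain ⟨j, hj⟩ := step1 k0
  have hw : ∀ i, i ≠ j → (g : Matrix ι ι F) i k0 ≠ 0 := fun i hij h => hc k0 i j hij h hj
  obtain ⟨z, θ, h1, h2⟩ := hs k0
  -- entries of the columns `θ i`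
  have ent : ∀ i, i ≠ j → ∃ α : F, α ≠ 0 ∧
      (∀ k, k ≠ i → - z k = α * (g : Matrix ι ι F) k (θ i)) ∧
      ((g : Matrix ι ι F) i k0 - z i = α * (g : Matrix ι ι F) i (θ i)) := by
    intro i hi
    obtain ⟨α, hα, hE⟩ := (h1 i (hw i hi)).2
    refine ⟨α, hα, ?_, ?_⟩
    · intro k hk
      have := congrFun hE k
      simp only [Pi.sub_apply, Pi.smul_apply, e_apply, smul_eq_mul, mulVec_e, if_neg hk, mul_zero,
        zero_sub] at this
      exact this
    · have := congrFun hE i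
      simp only [Pi.sub_apply, Pi.smul_apply, e_apply, smul_eq_mul, mulVec_e, if_true, mul_one]
        at this
      exact this
  -- the extended map
  set θ' : ι → ι := fun i => if i = j then k0 else θ i with hθ'
  have hθ'inj : Function.Injective θ' := by
    intro a b hab
    simp only [hθ'] at hab
    by_cases ha : a = j <;> by_cases hb : b = j
    · rw [ha, hb]
    · rw [if_pos ha, if_neg hb] at hab
      exact absurd hab.symm (h1 b (hw b hb)).1
    · rw [if_neg ha, if_pos hb] at hab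
      exact absurd hab (h1 a (hw a ha)).1
    · rw [if_neg ha, if_neg hb] at hab
      exact h2 a b (hw a ha) (hw b hb) hab
  have hθ'surj : Function.Surjective θ' := Finite.injective_iff_surjective.mp hθ'inj
  -- at most one zero of `z`
  have hz2 : ∀ k1 k2, k1 ≠ k2 → z k1 = 0 → z k2 = 0 → False := by
    intro k1 k2 hk h1z h2z
    obtain ⟨i, hi⟩ := exists_avoid ({k1, k2, j} : Finset ι)
      (lt_of_le_of_lt Finset.card_le_three (by omega))
    simp only [Finset.mem_insert, Finset.mem_singleton, not_or] at hi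
    obtain ⟨hi1, hi2, hi3⟩ := hi
    obtain ⟨α, hα, hE, -⟩ := ent i hi3
    have e1 := hE k1 (Ne.symm hi1)
    have e2 := hE k2 (Ne.symm hi2)
    rw [h1z, neg_zero] at e1
    rw [h2z, neg_zero] at e2
    have e1' := (mul_eq_zero.mp e1.symm).resolve_left hα
    have e2' := (mul_eq_zero.mp e2.symm).resolve_left hα
    exact hc (θ i) k1 k2 hk e1' e2'
  have hz : ∀ k, z k ≠ 0 := by
    intro k1 hk1
    by_cases hkj : k1 = j
    · subst hkj
      obtain ⟨k, hk⟩ := exists_row_ne_zero g k1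
      obtain ⟨i, rfl⟩ := hθ'surj k
      by_cases hi : i = k1
      · simp only [hθ', if_pos hi] at hk
        exact hk hj
      · simp only [hθ', if_neg hi] at hk
        obtain ⟨α, hα, hE, -⟩ := ent i hi
        have e1 := hE k1 (Ne.symm hi)
        rw [hk1, neg_zero] at e1
        exact hk ((mul_eq_zero.mp e1.symm).resolve_left hα)
    · obtain ⟨α, hα, hE, hE'⟩ := ent k1 hkj
      obtain ⟨r, hr⟩ := step1 (θ k1)
      by_cases hrk : r = k1
      · subst hrk
        rw [hr, mul_zero, hk1, sub_zero] at hE'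
        exact hw r hkj hE'
      · have e1 := hE r hrk
        rw [hr, mul_zero, neg_eq_zero] at e1
        exact hz2 r k1 hrk e1 hk1
  have hzw : ∀ i, i ≠ j → (g : Matrix ι ι F) i k0 = z i := by
    intro i hi
    obtain ⟨α, hα, hE, hE'⟩ := ent i hi
    obtain ⟨r, hr⟩ := step1 (θ i)
    by_cases hri : r = i
    · subst hri
      rw [hr, mul_zero] at hE'
      exact sub_eq_zero.mp hE'
    · have e1 := hE r hri
      rw [hr, mul_zero, neg_eq_zero] at e1
      exact absurd e1 (hz r)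
  have hbij : Function.Bijective θ' := ⟨hθ'inj, hθ'surj⟩
  refine ⟨z, Equiv.ofBijective θ' hbij, hz, ?_⟩
  intro l
  rw [Equiv.ofBijective_apply]
  by_cases hl : l = j
  · refine ⟨-1, neg_ne_zero.mpr one_ne_zero, ?_⟩
    simp only [hθ', if_pos hl]
    funext k
    rw [mulVec_e]
    simp only [Pi.sub_apply, Pi.smul_apply, e_apply, smul_eq_mul]
    by_cases hk : k = j
    · rw [hk, hl, hj]
      simp
    · rw [hzw k hk, if_neg (by rw [hl]; exact hk)]
      ring
  · obtain ⟨α, hα, hE⟩ := (h1 l (hw l hl)).2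
    refine ⟨α⁻¹, inv_ne_zero hα, ?_⟩
    simp only [hθ', if_neg hl]
    rw [← hzw l hl, hE, smul_smul, inv_mul_cancel₀ hα, one_smul]


/-- the identity `t f_p = f_p + (1-a) f_r + (1-c) f_s` for `a + c = 2` -/
private lemma ident (z : ι → F) {p r s : ι} (hpr : p ≠ r) (hps : p ≠ s) (hrs : r ≠ s)
    (a c : Fˣ) (hac : (a : F) + c = 2) :
    ((d2 r p a * d2 s p c : GL ι F) : Matrix ι ι F) *ᵥ (z p • e p - z)
      = (z p • e p - z) + (1 - (a : F)) • (z r • e r - z) + (1 - (c : F)) • (z s • e s - z) := by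
  have hc : (c : F) = 2 - a := by linear_combination hac
  funext k
  rw [mul_mulVec]
  unfold d2
  rw [dg_apply, dg_apply]
  by_cases hkp : k = p
  · subst hkp
    simp [hpr, hps, hc]
    ring
  · by_cases hkr : k = r
    · subst hkr
      simp [hkp, hrs, hc]
      ring
    · by_cases hks : k = s
      · subst hks
        simp [hkp, hkr, hc]
        ring
      · simp [hkp, hkr, hks, hc]
        ring

/-- **Step 2, (A3)**: the normal form is impossible -/
theorem a3 (hq : 5 ≤ Fintype.card F) (hn : 6 ≤ Fintype.card ι) (H : Subgroup (GL ι F))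
    (hM : SMon ι F ≤ H) (hA : A1 H) (g : GL ι F) (hg : g ∈ H) (hnf : NF g) : False := by
  classical
  obtain ⟨z, θ, hz, hθ⟩ := hnf
  -- three indices
  have h3 : 3 ≤ (Finset.univ : Finset ι).card := by rw [Finset.card_univ]; omega
  obtain ⟨S, -, hS3⟩ := Finset.exists_subset_card_eq h3
  obtain ⟨p, r, s, hpr, hps, hrs, -⟩ := Finset.card_eq_three.mp hS3
  -- two further indices
  have hcard : 2 ≤ ((Finset.univ : Finset ι) \ {θ p, θ r, θ s}).card := by
    have h3 := Finset.le_card_sdiff ({θ p, θ r, θ s} : Finset ι) Finset.univ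
    have h4 : ({θ p, θ r, θ s} : Finset ι).card ≤ 3 := Finset.card_le_three
    rw [Finset.card_univ] at h3
    omega
  obtain ⟨T, hT, hT2⟩ := Finset.exists_subset_card_eq hcard
  obtain ⟨k1, k2, hk12, rfl⟩ := Finset.card_eq_two.mp hT2
  have hk1 : k1 ≠ θ p ∧ k1 ≠ θ r ∧ k1 ≠ θ s := by
    have := hT (show k1 ∈ ({k1, k2} : Finset ι) by simp)
    simpa using this
  have hk2 : k2 ≠ θ p ∧ k2 ≠ θ r ∧ k2 ≠ θ s := by
    have := hT (show k2 ∈ ({k1, k2} : Finset ι) by simp)
    simpa using this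
  -- the scalar
  obtain ⟨a, ha0, ha1, ha2⟩ : ∃ a : F, a ≠ 0 ∧ a ≠ 1 ∧ a ≠ 2 := by
    by_contra hcon
    push Not at hcon
    have hsub : (Finset.univ : Finset F) ⊆ {0, 1, 2} := by
      intro k _
      by_cases h : k = 0
      · simp [h]
      · by_cases h' : k = 1
        · simp [h']
        · simp [hcon k h h']
    have h1 := Finset.card_le_card hsub
    have h2 : ({0, 1, 2} : Finset F).card ≤ 3 := Finset.card_le_three
    rw [Finset.card_univ] at h1
    omega
  have hc0 : 2 - a ≠ 0 := fun h => ha2 (by linear_combination -h)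
  obtain ⟨αp, hαp, hgp⟩ := hθ p
  obtain ⟨αr, hαr, hgr⟩ := hθ r
  obtain ⟨αs, hαs, hgs⟩ := hθ s
  have hid := ident z hpr hps hrs (Units.mk0 a ha0) (Units.mk0 (2 - a) hc0) (by simp)
  simp only [Units.val_mk0] at hid
  obtain ⟨t, ht⟩ : ∃ t : GL ι F, t = d2 r p (Units.mk0 a ha0) * d2 s p (Units.mk0 (2 - a) hc0) :=
    ⟨_, rfl⟩
  rw [← ht] at hid
  have htH : t ∈ H := by
    rw [ht]
    exact H.mul_mem (hM (d2_mem hpr.symm _)) (hM (d2_mem hps.symm _))
  have hxH : g⁻¹ * t * g ∈ H := H.mul_mem (H.mul_mem (H.inv_mem hg) htH) hg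
  have hcol : ((g⁻¹ * t * g : GL ι F) : Matrix ι ι F) *ᵥ e (θ p)
      = e (θ p) + (αp * (1 - a) * αr⁻¹) • e (θ r) + (αp * (1 - (2 - a)) * αs⁻¹) • e (θ s) := by
    rw [mul_mulVec, mul_mulVec]
    have h1 : (t : Matrix ι ι F) *ᵥ ((g : Matrix ι ι F) *ᵥ e (θ p))
        = (g : Matrix ι ι F) *ᵥ (e (θ p) + (αp * (1 - a) * αr⁻¹) • e (θ r)
          + (αp * (1 - (2 - a)) * αs⁻¹) • e (θ s)) := by
      have e1 : αp * (1 - a) * αr⁻¹ * αr = αp * (1 - a) := by field_simp
      have e2 : αp * (1 - (2 - a)) * αs⁻¹ * αs = αp * (1 - (2 - a)) := by field_simp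
      rw [Matrix.mulVec_add, Matrix.mulVec_add, Matrix.mulVec_smul, Matrix.mulVec_smul, hgp, hgr,
        hgs, Matrix.mulVec_smul, hid, smul_smul _ αr, smul_smul _ αs, e1, e2, smul_add, smul_add,
        smul_smul αp, smul_smul αp]
    rw [h1, inv_mulVec_mulVec]
  have hθpr : θ p ≠ θ r := fun h => hpr (θ.injective h)
  have hθps : θ p ≠ θ s := fun h => hps (θ.injective h)
  have hθrs : θ r ≠ θ s := fun h => hrs (θ.injective h)
  have hent : ∀ k, ((g⁻¹ * t * g : GL ι F) : Matrix ι ι F) k (θ p)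
      = (e (θ p) + (αp * (1 - a) * αr⁻¹) • e (θ r) + (αp * (1 - (2 - a)) * αs⁻¹) • e (θ s) : ι → F) k := by
    intro k
    rw [← mulVec_e, hcol]
  have hnM : g⁻¹ * t * g ∉ Mon ι F := by
    intro hmem
    apply hθpr
    refine col_unique_of_mem hmem (k := θ p) ?_ ?_
    · rw [hent]
      simp [hθpr, hθps]
    · rw [hent]
      simp [hθpr.symm, hθrs]
      exact ⟨⟨hαp, fun h => ha1 (by linear_combination -h)⟩, hαr⟩
  refine hA _ hxH hnM (θ p) k1 k2 hk12 ?_ ?_
  · rw [hent]
    simp [hk1.1, hk1.2.1, hk1.2.2]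
  · rw [hent]
    simp [hk2.1, hk2.2.1, hk2.2.2]


open Cfsg.Agent.Lib.H65DecStabMon Cfsg.Agent.Lib.H65DecA1 Cfsg.Agent.Lib.H65DecTri
  Cfsg.Agent.Lib.H65DecElTop

/-- **Step 2**: if the stabilisers of the coordinate lines are monomial, so is `H` -/
theorem caseA (hq : 5 ≤ Fintype.card F) (hn : 6 ≤ Fintype.card ι) (H : Subgroup (GL ι F))
    (hM : SMon ι F ≤ H) (hN : NN H) : H ≤ Mon ι F := by
  intro g hg
  by_contra hgM
  have hA : A1 H := a1 hq (by omega) H hM hN
  have hc : Col1 g := hA g hg hgM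
  exact a3 hq hn H hM hA g hg
    (nf hn g hc fun k0 => star hn g hc k0 (tri (by omega) H hM hN hA g hg hgM k0))

/-- the monomial group of determinant 1 is maximal in `SL` -/
theorem mon_main6 (hq : 5 ≤ Fintype.card F) (hn : 6 ≤ Fintype.card ι) (H : Subgroup (GL ι F))
    (hM : SMon ι F ≤ H) (hH : H ≤ specialLinear ι F) (hne : ¬ H ≤ Mon ι F) :
    specialLinear ι F ≤ H := by
  by_contra hcon
  have hE : ¬ HasEl H := fun hE => hcon (el_top (by omega) H hM hE)
  exact hne (caseA hq hn H hM (stab_mon hq (by omega) H hM hH hE))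

end Cfsg.Agent.Lib.H40O6Mon
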