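import Mathlib
import Cfsg.Agent.Lib.Helper41Dk11
import Cfsg.Agent.Lib.Helper7Dih

/-!
# Dickson, part 12: cyclic, dihedral and Borel outcomes in `PSL₂(q)`
-/

set_option autoImplicit false

namespace Cfsg.Agent.Lib.Helper41Dk

open Matrix Cfsg.Agent.Lib.Helper46SL2 Cfsg.Agent.Lib.Helper41SL2

variable {F : Type*} [Field F]

local notation "SL2" => Matrix.SpecialLinearGroup (Fin 2)
local notation "PSL2" => Matrix.ProjectiveSpecialLinearGroup (Fin 2)

theorem card_cent_cases [Fintype F] {x : SL2 F} (ht : tr x ^ 2 ≠ 4) :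
    Nat.card (Subgroup.centralizer {x} : Subgroup (SL2 F)) = Fintype.card F + 1 ∨
      Nat.card (Subgroup.centralizer {x} : Subgroup (SL2 F)) = Fintype.card F - 1 := by
  rcases split_or_nonSplit ht with ⟨a, ha0, ha, htr⟩ | h
  · exact Or.inr (card_centralizer_split ha0 ha htr)
  · exact Or.inl (card_centralizer_nonSplit h)

/-- `a ∣ (q ± 1)/e` -/
theorem dvd_of_card_AA [Fintype F] (G : Subgroup (SL2 F)) {x : SL2 F} (ht : tr x ^ 2 ≠ 4) {a : ℕ}
    (ha : Nat.card (AA G x) = ee F * a) :
    a ∣ (Fintype.card F + 1) / ee F ∨ a ∣ (Fintype.card F - 1) / ee F := by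
  have h1 : Nat.card (AA G x) ∣ Nat.card (Subgroup.centralizer {x} : Subgroup (SL2 F)) :=
    Subgroup.card_dvd_of_le inf_le_left
  rw [ha] at h1
  rcases card_cent_cases ht with h | h
  · left; rw [h] at h1; exact Nat.dvd_div_of_mul_dvd h1
  · right; rw [h] at h1; exact Nat.dvd_div_of_mul_dvd h1

theorem cyclic_of_AA [Fintype F] {H : Subgroup (PSL2 F)} {x : SL2 F} (ht : tr x ^ 2 ≠ 4)
    (h : pre H = AA (pre H) x) :
    IsCyclic H ∧ (Nat.card H ∣ (Fintype.card F + 1) / ee F ∨
      Nat.card H ∣ (Fintype.card F - 1) / ee F) := by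
  constructor
  · have := isCyclic_AA (pre H) ht
    let f : AA (pre H) x →* H :=
      ((proj F).comp (AA (pre H) x).subtype).codRestrict H
        (fun z => (AA_le (pre H) x z.2 : z.1 ∈ pre H))
    apply isCyclic_of_surjective f
    rintro ⟨y, hy⟩
    obtain ⟨z, rfl⟩ := QuotientGroup.mk'_surjective _ y
    have hz : z ∈ AA (pre H) x := by rw [← h]; exact hy
    exact ⟨⟨z, hz⟩, rfl⟩
  · apply dvd_of_card_AA (pre H) ht
    rw [← h, card_pre]

theorem orderOf_proj_of_sq [Finite F] {y : SL2 F} (hy : y * y ∈ Subgroup.center (SL2 F))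
    (hyZ : y ∉ Subgroup.center (SL2 F)) : orderOf (proj F y) = 2 := by
  apply orderOf_eq_prime
  · rw [← map_pow, sq]
    exact (QuotientGroup.eq_one_iff _).mpr hy
  · intro h
    exact hyZ ((QuotientGroup.eq_one_iff _).mp h)

theorem dihedral_of_NN [Fintype F] {H : Subgroup (PSL2 F)} {x y : SL2 F} (ht : tr x ^ 2 ≠ 4)
    (hx : x ∈ pre H) (h : pre H = NN (pre H) x) (hy : y ∈ pre H) (hyx : y * x * y⁻¹ = x⁻¹) :
    ∃ a : ℕ, 2 ≤ a ∧ (a ∣ (Fintype.card F + 1) / ee F ∨ a ∣ (Fintype.card F - 1) / ee F) ∧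
      Nat.card H = 2 * a ∧ Nonempty (H ≃* DihedralGroup a) := by
  set G := pre H with hG
  have hZ : Subgroup.center (SL2 F) ≤ G := center_le_pre H
  have hxZ := not_mem_center_of_tr ht
  obtain ⟨a, ha2, hA⟩ := exists_card_AA hZ hx hxZ
  have hepos : 0 < ee F := ee_pos
  have hN : Nat.card (NN G x) = 2 * Nat.card (AA G x) := by
    rcases card_NN_ss G ht with h1 | ⟨h1, -⟩
    · exfalso
      have : y ∈ AA G x := by rw [← h1, ← h]; exact hy
      have hc : y * x = x * y := (mem_AA.mp this).1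
      apply ne_inv_of_tr ht
      rw [← hyx, hc]; group
    · exact h1
  have hcardH : Nat.card H = 2 * a := by
    have h1 := card_pre H
    rw [← hG, h, hN, hA] at h1
    have : ee F * (2 * a) = ee F * Nat.card H := by rw [← h1]; ring
    exact (Nat.eq_of_mul_eq_mul_left hepos this).symm
  refine ⟨a, ha2, dvd_of_card_AA G ht hA, hcardH, ?_⟩
  -- a generator of the cyclic group
  have hcyc := isCyclic_AA G ht
  obtain ⟨⟨c, hcA⟩, hc⟩ := hcyc.exists_generator
  have hcG : c ∈ G := AA_le _ _ hcA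
  have hzp : Subgroup.zpowers c = AA G x := by
    apply le_antisymm
    · rw [Subgroup.zpowers_le]; exact hcA
    · intro z hz
      obtain ⟨j, hj⟩ := Subgroup.mem_zpowers_iff.mp (hc ⟨z, hz⟩)
      exact Subgroup.mem_zpowers_iff.mpr ⟨j, congrArg Subtype.val hj⟩
  have hord : orderOf (proj F c) = a := by
    rw [← Nat.card_zpowers, ← MonoidHom.map_zpowers, hzp]
    have h1 := card_pre ((AA G x).map (proj F))
    rw [pre_map_proj (center_le_AA hZ x), hA] at h1
    exact (Nat.eq_of_mul_eq_mul_left hepos h1).symm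
  have hcx : c * x = x * c := (mem_AA.mp hcA).1
  have hyc : y * c * y⁻¹ = c⁻¹ := inverts_centralizer hxZ hyx hcx
  have hyy : y * y = -1 := sq_eq_neg_one_of_inverts ht hyx
  have hneg : (-1 : SL2 F) ∈ Subgroup.center (SL2 F) := mem_center_iff_eq.mpr (Or.inr rfl)
  have hynA : ∀ z ∈ AA G x, y * z ∉ Subgroup.center (SL2 F) := by
    intro z hz hyz
    have h1 : y * z ∈ AA G x := center_le_AA hZ x hyz
    have h2 : y ∈ AA G x := by
      have := mul_mem h1 (inv_mem hz)
      simpa using this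
    have hc : y * x = x * y := (mem_AA.mp h2).1
    apply ne_inv_of_tr ht
    rw [← hyx, hc]; group
  have o1 : orderOf (proj F y) = 2 := by
    apply orderOf_proj_of_sq (by rw [hyy]; exact hneg)
    have := hynA 1 (one_mem _)
    simpa using this
  have o2 : orderOf (proj F (y * c)) = 2 := by
    apply orderOf_proj_of_sq _ (hynA c hcA)
    have e : y * c * (y * c) = (y * c * y⁻¹) * (y * y) * c := by group
    rw [e, hyc, hyy]
    simpa using hneg
  have hyH : proj F y ∈ H := hy
  have hycH : proj F (y * c) ∈ H := mul_mem hy hcG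
  apply Cfsg.Agent.Lib.Helper7Dih.dihedral_of_involutions (⟨proj F y, hyH⟩ : H)
    ⟨proj F (y * c), hycH⟩ _ _ _ a _ hcardH
  · rw [← Subgroup.orderOf_coe]; exact o1
  · rw [← Subgroup.orderOf_coe]; exact o2
  · intro heq
    have h1 : proj F y = proj F (y * c) := congrArg Subtype.val heq
    rw [map_mul] at h1
    have h2 : proj F c = 1 := by
      have := mul_left_cancel (a := proj F y) (b := 1) (c := proj F c) (by rw [mul_one]; exact h1)
      exact this.symm
    rw [h2, orderOf_one] at hord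
    omega
  · rw [← Subgroup.orderOf_coe]
    change orderOf (proj F y * proj F (y * c)) = a
    rw [← map_mul]
    have e : y * (y * c) = (-1 : SL2 F) * c := by rw [← mul_assoc, hyy]
    rw [e, map_mul]
    have : proj F (-1) = 1 := (QuotientGroup.eq_one_iff _).mpr hneg
    rw [this, one_mul]
    exact hord

theorem borel_outcome [Fintype F] (p : ℕ) [Fact p.Prime] [CharP F p] {H : Subgroup (PSL2 F)}
    (h : pre H ≤ Bor F) :
    ∃ P : Sylow p (PSL2 F), H ≤ Subgroup.normalizer ((P : Subgroup (PSL2 F)) : Set (PSL2 F)) := by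
  refine ⟨(sylowUU p).mapSurjective (f := proj F) (QuotientGroup.mk'_surjective _), ?_⟩
  rw [Sylow.coe_mapSurjective]
  intro y hy
  obtain ⟨z, rfl⟩ := QuotientGroup.mk'_surjective _ y
  apply Subgroup.le_normalizer_map (proj F)
  exact ⟨z, mem_normalizer_UU_of_upper (h hy), rfl⟩

end Cfsg.Agent.Lib.Helper41Dk
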