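import Mathlib

set_option autoImplicit false

namespace Cfsg.Agent.Lib.Helper6Perm

/-- An injective homomorphism into the permutations of an `n`-element set from a group of
order `n!` gives an isomorphism with `Perm (Fin n)`. -/
theorem mulEquiv_perm_of_injective {G : Type*} [Group G] {X : Type*} [Finite X] {n : ℕ}
    (hX : Nat.card X = n) (f : G →* Equiv.Perm X) (hf : Function.Injective f)
    (hcard : Nat.card G = n.factorial) : Nonempty (G ≃* Equiv.Perm (Fin n)) := by
  classical
  have e : X ≃ Fin n := Finite.equivFinOfCardEq hX
  let f' : G →* Equiv.Perm (Fin n) := (e.permCongrHom.toMonoidHom).comp f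
  have hf' : Function.Injective f' := e.permCongrHom.injective.comp hf
  have hG : Finite G := Nat.finite_of_card_ne_zero (by rw [hcard]; exact Nat.factorial_ne_zero n)
  have hbij : Function.Bijective f' := by
    rw [Nat.bijective_iff_injective_and_card]
    refine ⟨hf', ?_⟩
    rw [hcard, Nat.card_eq_fintype_card, Fintype.card_perm, Fintype.card_fin]
  exact ⟨MulEquiv.ofBijective f' hbij⟩

/-- An injective homomorphism into the permutations of an `n`-element set from a group of
order `n!/2` gives an isomorphism with the alternating group. -/
theorem mulEquiv_alternating_of_injective {G : Type*} [Group G] {X : Type*} [Finite X] {n : ℕ}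
    (hX : Nat.card X = n) (f : G →* Equiv.Perm X) (hf : Function.Injective f)
    (hcard : 2 * Nat.card G = n.factorial) : Nonempty (G ≃* alternatingGroup (Fin n)) := by
  classical
  have e : X ≃ Fin n := Finite.equivFinOfCardEq hX
  let f' : G →* Equiv.Perm (Fin n) := (e.permCongrHom.toMonoidHom).comp f
  have hf' : Function.Injective f' := e.permCongrHom.injective.comp hf
  have h1 : Nat.card f'.range = Nat.card G := (Nat.card_congr (MonoidHom.ofInjective hf').toEquiv).symm
  have h2 : Nat.card f'.range * f'.range.index = n.factorial := by
    rw [Subgroup.card_mul_index, Nat.card_eq_fintype_card, Fintype.card_perm, Fintype.card_fin]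
  have h3 : f'.range.index = 2 := by
    rw [h1, ← hcard, mul_comm] at h2
    have hpos : 0 < Nat.card G := by
      rcases Nat.eq_zero_or_pos (Nat.card G) with h | h
      · rw [h] at hcard
        exact absurd hcard.symm (Nat.factorial_ne_zero n)
      · exact h
    exact Nat.eq_of_mul_eq_mul_right hpos h2
  have h4 := Equiv.Perm.eq_alternatingGroup_of_index_eq_two h3
  exact ⟨(MonoidHom.ofInjective hf').trans (MulEquiv.subgroupCongr h4)⟩

end Cfsg.Agent.Lib.Helper6Perm
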