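import Mathlib
import Cfsg.Agent.Lib.Helper41Dk12
import Cfsg.Agent.Lib.Helper6Perm
import Cfsg.Agent.S0228

/-!
# Dickson, part 13: the outcomes `A₄` and `S₄`
-/

set_option autoImplicit false

namespace Cfsg.Agent.Lib.Helper41Dk

open Matrix Cfsg.Agent.Lib.Helper46SL2 Cfsg.Agent.Lib.Helper41SL2

variable {F : Type*} [Field F]

local notation "SL2" => Matrix.SpecialLinearGroup (Fin 2)
local notation "PSL2" => Matrix.ProjectiveSpecialLinearGroup (Fin 2)

theorem commute_of_proj_eq {a b : SL2 F} (h : proj F a = proj F b) : Commute a b := by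
  rcases (mk_eq_mk_iff a b).mp h with rfl | rfl
  · exact Commute.refl _
  · show a * -a = -a * a
    simp

theorem not_le_NN_of_noCentral [Finite F] {G : Subgroup (SL2 F)} (hnc : NoCentral G) {z : SL2 F}
    (hz : z ∈ G) (hzZ : z ∉ Subgroup.center (SL2 F))
    (h : ∀ g ∈ G, Commute (g * z * g⁻¹) z) : False := by
  have h1 : G ≤ NN G z := fun g hg => (mem_NN ct_SL2 hzZ).mpr ⟨h g hg, hg⟩
  have h2 := Subgroup.card_le_of_le h1
  have h3 := hnc z hz hzZ
  omega

theorem eq_one_of_mem_center [Finite F] {H : Subgroup (PSL2 F)} (hnc : NoCentral (pre H)) (z : H)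
    (hz : z ∈ Subgroup.center H) : z = 1 := by
  obtain ⟨z0, hz0⟩ := QuotientGroup.mk'_surjective _ z.1
  by_contra hne
  have hz0G : z0 ∈ pre H := by rw [mem_pre, hz0]; exact z.2
  have hz0Z : z0 ∉ Subgroup.center (SL2 F) := by
    intro h
    apply hne
    apply Subtype.ext
    rw [← hz0]
    exact (QuotientGroup.eq_one_iff _).mpr h
  apply not_le_NN_of_noCentral hnc hz0G hz0Z
  intro g hg
  apply commute_of_proj_eq
  have h1 := Subgroup.mem_center_iff.mp hz ⟨proj F g, hg⟩
  have h2 : proj F g * z.1 = z.1 * proj F g := congrArg Subtype.val h1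
  rw [map_mul, map_mul, map_inv, hz0, h2]
  group

theorem card_of_card_pre [Finite F] {H : Subgroup (PSL2 F)} {n : ℕ}
    (h : Nat.card (pre H) = ee F * n) : Nat.card H = n := by
  rw [card_pre] at h
  exact Nat.eq_of_mul_eq_mul_left ee_pos h

/-- the tetrahedral outcome -/
theorem A4_outcome [Finite F] {H : Subgroup (PSL2 F)} (h : Nat.card (pre H) = ee F * 12)
    (hnc : NoCentral (pre H)) : Nonempty (H ≃* alternatingGroup (Fin 4)) := by
  apply Cfsg.Agent.S0228.result (card_of_card_pre h)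
  intro z hz hzc
  rw [eq_one_of_mem_center hnc z hzc, orderOf_one] at hz
  omega

theorem idx2 {𝔾 : Type*} [Group 𝔾] {A N : Subgroup 𝔾} (h : A.relIndex N = 2) {u v : 𝔾}
    (hu : u ∈ N) (hv : v ∈ N) : u * v ∈ A ↔ (u ∈ A ↔ v ∈ A) :=
  Subgroup.mul_mem_iff_of_index_two (H := A.subgroupOf N) h (a := ⟨u, hu⟩) (b := ⟨v, hv⟩)

theorem core_trivial_24 [Finite F] {G : Subgroup (SL2 F)} (hZ : Subgroup.center (SL2 F) ≤ G)
    (hnc : NoCentral G) {x : SL2 F} (hxZ : x ∉ Subgroup.center (SL2 F))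
    (hA : Nat.card (AA G x) = ee F * 3) (hN : Nat.card (NN G x) = ee F * 6) {g0 : SL2 F}
    (hg0 : g0 ∈ G) (hcore : ∀ h ∈ G, h * g0 * h⁻¹ ∈ NN G x) : g0 ∈ Subgroup.center (SL2 F) := by
  have hidx : (AA G x).relIndex (NN G x) = 2 := by
    have h1 := relIndex_mul_card' (AA_le_NN G x)
    rw [hA, hN] at h1
    have h2 : ee F * 3 * (AA G x).relIndex (NN G x) = ee F * 3 * 2 := by rw [h1]; ring
    exact Nat.eq_of_mul_eq_mul_left (Nat.mul_pos ee_pos (by norm_num)) h2
  have hcube : ∀ t ∈ AA G x, t ^ 3 ∈ Subgroup.center (SL2 F) := by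
    intro t ht
    have h1 := card_pre ((AA G x).map (proj F))
    rw [pre_map_proj (center_le_AA hZ x), hA] at h1
    have h2 : Nat.card ((AA G x).map (proj F)) = 3 := (Nat.eq_of_mul_eq_mul_left ee_pos h1).symm
    have h3 : (⟨proj F t, t, ht, rfl⟩ : (AA G x).map (proj F)) ^ 3 = 1 := by
      rw [← h2]; exact pow_card_eq_one'
    have h4 : proj F t ^ 3 = 1 := congrArg Subtype.val h3
    rw [← map_pow] at h4
    exact (QuotientGroup.eq_one_iff _).mp h4
  -- first case
  have case1 : ∀ t ∈ AA G x, (∀ h ∈ G, h * t * h⁻¹ ∈ NN G x) → t ∈ Subgroup.center (SL2 F) := by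
    intro t ht hcore
    by_contra htZ
    apply not_le_NN_of_noCentral hnc (AA_le _ _ ht) htZ
    intro h hh
    have hu := hcore h hh
    have hu2 : (h * t * h⁻¹) * (h * t * h⁻¹) ∈ AA G x := (idx2 hidx hu hu).mpr Iff.rfl
    have hu3 : (h * t * h⁻¹) ^ 3 ∈ AA G x := by
      apply center_le_AA hZ x
      rw [conj_pow]
      exact (Subgroup.center (SL2 F)).normal_of_characteristic.conj_mem _ (hcube t ht) h
    have huA : h * t * h⁻¹ ∈ AA G x := by
      have := mul_mem hu3 (inv_mem hu2)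
      have e : ∀ u : SL2 F, u ^ 3 * (u * u)⁻¹ = u := by intro u; group
      rwa [e] at this
    exact ct_SL2 x _ _ hxZ (mem_AA.mp huA).1 (mem_AA.mp ht).1
  by_cases hg0A : g0 ∈ AA G x
  · exact case1 g0 hg0A hcore
  · by_contra hg0Z
    have hg0N : g0 ∈ NN G x := by
      have := hcore 1 (one_mem G)
      simpa using this
    apply not_le_NN_of_noCentral hnc hg0 hg0Z
    intro h hh
    have hu := hcore h hh
    have huA : h * g0 * h⁻¹ ∉ AA G x := by
      intro huA
      have := case1 _ huA (by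
        intro k hk
        have e : k * (h * g0 * h⁻¹) * k⁻¹ = (k * h) * g0 * (k * h)⁻¹ := by group
        rw [e]
        exact hcore _ (mul_mem hk hh))
      exact conj_not_mem_center hg0Z h this
    have htA : g0⁻¹ * (h * g0 * h⁻¹) ∈ AA G x := by
      rw [idx2 hidx (inv_mem hg0N) hu, inv_mem_iff]
      exact ⟨fun h' => absurd h' hg0A, fun h' => absurd h' huA⟩
    have htZ := case1 _ htA (by
      intro k hk
      have e : k * (g0⁻¹ * (h * g0 * h⁻¹)) * k⁻¹ =
          (k * g0 * k⁻¹)⁻¹ * ((k * h) * g0 * (k * h)⁻¹) := by group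
      rw [e]
      exact mul_mem (inv_mem (hcore k hk)) (hcore _ (mul_mem hk hh)))
    have e : h * g0 * h⁻¹ = g0 * (g0⁻¹ * (h * g0 * h⁻¹)) := by group
    rw [e]
    have hc := Subgroup.mem_center_iff.mp htZ g0
    show g0 * (g0⁻¹ * (h * g0 * h⁻¹)) * g0 = g0 * (g0 * (g0⁻¹ * (h * g0 * h⁻¹)))
    rw [mul_assoc, ← hc]

/-- the octahedral outcome -/
theorem S4_outcome [Finite F] {H : Subgroup (PSL2 F)} (h : Nat.card (pre H) = ee F * 24)
    (hnc : NoCentral (pre H)) {x : SL2 F} (hxZ : x ∉ Subgroup.center (SL2 F))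
    (hA : Nat.card (AA (pre H) x) = ee F * 3) (hN : Nat.card (NN (pre H) x) = ee F * 6) :
    Nonempty (H ≃* Equiv.Perm (Fin 4)) := by
  set G := pre H with hG
  have hZ : Subgroup.center (SL2 F) ≤ G := center_le_pre H
  have hcardH : Nat.card H = 24 := card_of_card_pre h
  let Nb : Subgroup (PSL2 F) := (NN G x).map (proj F)
  have hpreN : pre Nb = NN G x := pre_map_proj ((center_le_AA hZ x).trans (AA_le_NN G x))
  have hNbH : Nb ≤ H := by
    rw [← pre_mono, hpreN]; exact NN_le G x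
  have hcardN : Nat.card Nb = 6 := card_of_card_pre (by rw [hpreN, hN])
  let N' : Subgroup H := Nb.subgroupOf H
  have hcardN' : Nat.card N' = 6 := by
    rw [← hcardN]
    exact Nat.card_congr (Subgroup.subgroupOfEquivOfLe hNbH).toEquiv
  have hidx : Nat.card (H ⧸ N') = 4 := by
    have h1 := N'.card_mul_index
    rw [hcardN', hcardH, Subgroup.index_eq_card] at h1
    omega
  apply Cfsg.Agent.Lib.Helper6Perm.mulEquiv_perm_of_injective hidx
    (MulAction.toPermHom H (H ⧸ N')) _ (by rw [hcardH]; rfl)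
  rw [← MonoidHom.ker_eq_bot_iff, ← Subgroup.normalCore_eq_ker, Subgroup.eq_bot_iff_forall]
  intro z hz
  obtain ⟨z0, hz0⟩ := QuotientGroup.mk'_surjective _ z.1
  have hz0G : z0 ∈ G := by rw [hG, mem_pre, hz0]; exact z.2
  have := core_trivial_24 hZ hnc hxZ hA hN hz0G (by
    intro g hg
    rw [← hpreN, mem_pre]
    have h1 : (⟨proj F g, hg⟩ : H) * z * (⟨proj F g, hg⟩ : H)⁻¹ ∈ N' := hz _
    rw [Subgroup.mem_subgroupOf] at h1
    rw [map_mul, map_mul, map_inv, hz0]
    exact h1)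
  apply Subtype.ext
  rw [← hz0]
  exact (QuotientGroup.eq_one_iff _).mpr this

end Cfsg.Agent.Lib.Helper41Dk
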