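import Mathlib

set_option autoImplicit false

namespace Cfsg.Agent.Lib.Helper18Field

/-- a finite field whose order is a power of the order of `K` contains a copy of `K` -/
theorem exists_ringHom {K F : Type*} [Field K] [Fintype K] [Field F] [Fintype F] (m : ℕ)
    (h : Fintype.card K ^ m = Fintype.card F) : Nonempty (K →+* F) := by
  obtain ⟨p, hp⟩ := CharP.exists K
  obtain ⟨a, hpp, ha⟩ := FiniteField.card K p
  obtain ⟨p', hp'⟩ := CharP.exists F
  obtain ⟨b, hpp', hb⟩ := FiniteField.card F p'
  have hm : m ≠ 0 := by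
    rintro rfl
    have : 1 < Fintype.card F := Fintype.one_lt_card
    rw [← h] at this
    simp at this
  have hpeq : p' = p := by
    have h1 : p' ∣ p ^ ((a : ℕ) * m) := by
      rw [pow_mul, ← ha, h, hb]
      exact dvd_pow_self _ b.ne_zero
    exact (Nat.prime_dvd_prime_iff_eq hpp' hpp).1 (hpp'.dvd_of_dvd_pow h1)
  subst hpeq
  haveI := Fact.mk hpp
  letI := ZMod.algebra K p'
  letI := ZMod.algebra F p'
  have h1 := FiniteField.pow_finrank_eq_card p' K
  have h2 := FiniteField.pow_finrank_eq_card p' F
  have h3 : Module.finrank (ZMod p') K * m = Module.finrank (ZMod p') F := by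
    apply Nat.pow_right_injective hpp.two_le
    simp only
    rw [pow_mul, h1, h2, h]
  obtain ⟨f⟩ := FiniteField.nonempty_algHom_of_finrank_dvd (F := ZMod p') (K := K) (L := F)
    (Dvd.intro _ h3)
  exact ⟨f.toRingHom⟩

end Cfsg.Agent.Lib.Helper18Field
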