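import Mathlib
import Cfsg.Agent.Lib.Helper41Dk13
import Cfsg.Agent.S0805

/-!
# Dickson, part 14: the subfield outcome: `PSL₂(K)` and `PGL₂(K)`
-/

set_option autoImplicit false

namespace Cfsg.Agent.Lib.Helper41Dk

open Matrix Cfsg.Agent.Lib.Helper46SL2 Cfsg.Agent.Lib.Helper41SL2

variable {F : Type*} [Field F]

local notation "SL2" => Matrix.SpecialLinearGroup (Fin 2)
local notation "PSL2" => Matrix.ProjectiveSpecialLinearGroup (Fin 2)
local notation "PGL2" => Matrix.ProjGenLinGroup (Fin 2)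

theorem equiv_of_map_eq_range {A C X : Type*} [Group A] [Group C] [Group X] (j : A →* C)
    (hj : Function.Injective j) (φ : X →* C) (hφ : Function.Injective φ) (H : Subgroup A)
    (h : H.map j = φ.range) : Nonempty (H ≃* X) :=
  ⟨(H.equivMapOfInjective j hj).trans
    ((MulEquiv.subgroupCongr h).trans (MonoidHom.ofInjective hφ).symm)⟩

/-- a finite field has a copy in `Type` -/
theorem exists_small_field (K : Type*) [Field K] [Finite K] :
    ∃ (K' : Type) (_ : Field K') (_ : Fintype K'), Nonempty (K' ≃+* K) := by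
  let e : Fin (Nat.card K) ≃ K := (Finite.equivFin K).symm
  let _ : Field (Fin (Nat.card K)) := e.field
  exact ⟨Fin (Nat.card K), e.field, inferInstance, ⟨e.ringEquiv⟩⟩

/-- the image of `PK K` in `PGL₂(F)` lies in `PGL₂(K)` -/
theorem toPGL_mem_range_of_mem_PK {K' : Type*} [Field K'] (ι : K' →+* F) {K : Subfield F}
    (hK : ∀ x ∈ K, ∃ y, ι y = x) {g : SL2 F} (hg : g ∈ PK K) :
    ProjectiveSpecialLinearGroup.toPGL (proj F g) ∈ (ProjGenLinGroup.map (n := Fin 2) ι).range := by
  obtain ⟨l, hl, h0, h1, h2, h3⟩ := hg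
  obtain ⟨a, ha⟩ := hK _ h0
  obtain ⟨b, hb⟩ := hK _ h1
  obtain ⟨c, hc⟩ := hK _ h2
  obtain ⟨d, hd⟩ := hK _ h3
  have hdet : (!![a, b; c, d] : Matrix (Fin 2) (Fin 2) K').det ≠ 0 := by
    rw [Matrix.det_fin_two_of]
    intro h
    have h' := congrArg ι h
    rw [map_sub, map_mul, map_mul, ha, hb, hc, hd, map_zero] at h'
    have := det2 g
    apply hl
    have h5 : l ^ 2 = 0 := by linear_combination h' + l ^ 2 * (-this)
    exact pow_eq_zero_iff (two_ne_zero) |>.mp h5
  refine ⟨ProjGenLinGroup.mk (GeneralLinearGroup.mkOfDetNeZero _ hdet), ?_⟩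
  rw [ProjGenLinGroup.map_mk]
  change _ = ProjGenLinGroup.mk (SpecialLinearGroup.toGL g)
  symm
  rw [ProjGenLinGroup.mk_eq_mk_iff]
  refine ⟨Units.mk0 l hl, Units.ext ?_⟩
  ext i j
  fin_cases i <;> fin_cases j <;>
    simp [GeneralLinearGroup.mkOfDetNeZero, Matrix.mul_apply, Matrix.diagonal_apply, ha, hb, hc, hd,
      mul_comm]

/-- the image of `PSL₂(K)` in `PGL₂(F)` lies in the image of `SLK K` -/
theorem map_toPGL_mem {K' : Type*} [Field K'] (ι : K' →+* F) {K : Subfield F}
    (hK : ∀ y, ι y ∈ K) {H : Subgroup (PSL2 F)} (hH : SLK K ≤ pre H) (y : PSL2 K') :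
    ProjGenLinGroup.map (n := Fin 2) ι (ProjectiveSpecialLinearGroup.toPGL y) ∈
      H.map ProjectiveSpecialLinearGroup.toPGL := by
  obtain ⟨s, rfl⟩ := QuotientGroup.mk'_surjective _ y
  refine ⟨proj F (SpecialLinearGroup.map ι s), ?_, ?_⟩
  · apply hH
    exact ⟨hK _, hK _, hK _, hK _⟩
  · change ProjGenLinGroup.mk (SpecialLinearGroup.toGL (SpecialLinearGroup.map ι s)) =
      ProjGenLinGroup.map ι (ProjGenLinGroup.mk (SpecialLinearGroup.toGL s))
    rw [ProjGenLinGroup.map_mk]
    congr 1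
    apply Units.ext
    ext i j
    rfl

theorem sub_outcome_aux [Fintype F] {H : Subgroup (PSL2 F)} {K : Subfield F}
    (h1 : SLK K ≤ pre H) (h2 : pre H ≤ PK K)
    (h3 : Nat.card (pre H) = ee F * (Nat.card K * (Nat.card K - 1) * (Nat.card K + 1)) ∨
      2 * Nat.card (pre H) = ee F * (Nat.card K * (Nat.card K - 1) * (Nat.card K + 1)))
    {K' : Type*} [Field K'] [Fintype K'] (ε : K' ≃+* K) :
    Nonempty (H ≃* PSL2 K') ∨ Nonempty (H ≃* PGL2 K') := by
  have : Finite (PGL2 F) := Finite.of_surjective _ ProjGenLinGroup.mk_surjective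
  let ι : K' →+* F := K.subtype.comp ε.toRingHom
  have hι1 : ∀ x ∈ K, ∃ y, ι y = x := fun x hx => ⟨ε.symm ⟨x, hx⟩, by simp [ι]⟩
  have hι2 : ∀ y, ι y ∈ K := fun y => (ε y).2
  have hcard : Nat.card K = Fintype.card K' := by
    rw [← Nat.card_eq_fintype_card]; exact (Nat.card_congr ε.toEquiv).symm
  have hk1 : 1 < Fintype.card K' := Fintype.one_lt_card
  rw [card_pre, hcard] at h3
  have hnum : Fintype.card K' * (Fintype.card K' - 1) * (Fintype.card K' + 1) =
      Fintype.card K' * (Fintype.card K' ^ 2 - 1) := by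
    obtain ⟨t, ht⟩ : ∃ t, Fintype.card K' = t + 1 := ⟨Fintype.card K' - 1, by omega⟩
    rw [ht, Nat.add_sub_cancel]
    have : (t + 1) ^ 2 - 1 = t * (t + 1 + 1) := by
      have : (t + 1) ^ 2 = t * (t + 1 + 1) + 1 := by ring
      rw [this, Nat.add_sub_cancel]
    rw [this]; ring
  rw [hnum] at h3
  have hj := ProjectiveSpecialLinearGroup.toPGL_injective (n := Fin 2) (R := F)
  have hcm : Nat.card (H.map ProjectiveSpecialLinearGroup.toPGL) = Nat.card H :=
    Subgroup.card_map_of_injective hj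
  rcases h3 with h3 | h3
  · right
    have h4 : Nat.card H = Fintype.card K' * (Fintype.card K' ^ 2 - 1) :=
      Nat.eq_of_mul_eq_mul_left ee_pos h3
    apply equiv_of_map_eq_range _ hj (ProjGenLinGroup.map (n := Fin 2) ι)
      (Cfsg.Agent.S0805.pgl_map_injective ι)
    apply Subgroup.eq_of_le_of_card_ge
    · rintro _ ⟨x, hx, rfl⟩
      obtain ⟨g, rfl⟩ := QuotientGroup.mk'_surjective _ x
      exact toPGL_mem_range_of_mem_PK ι hι1 (h2 hx)
    · rw [hcm, h4, ← Cfsg.Agent.S0805.card_PGL_two]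
      exact le_of_eq (Nat.card_congr
        (MonoidHom.ofInjective (Cfsg.Agent.S0805.pgl_map_injective ι)).toEquiv).symm
  · left
    have hφ : Function.Injective ((ProjGenLinGroup.map (n := Fin 2) ι).comp
        (ProjectiveSpecialLinearGroup.toPGL (n := Fin 2) (R := K'))) :=
      (Cfsg.Agent.S0805.pgl_map_injective ι).comp ProjectiveSpecialLinearGroup.toPGL_injective
    have hle : ((ProjGenLinGroup.map (n := Fin 2) ι).comp
        (ProjectiveSpecialLinearGroup.toPGL (n := Fin 2) (R := K'))).range ≤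
        H.map ProjectiveSpecialLinearGroup.toPGL := by
      rintro _ ⟨y, rfl⟩
      exact map_toPGL_mem ι hι2 h1 y
    have hcr : Nat.card ((ProjGenLinGroup.map (n := Fin 2) ι).comp
        (ProjectiveSpecialLinearGroup.toPGL (n := Fin 2) (R := K'))).range = Nat.card (PSL2 K') :=
      (Nat.card_congr (MonoidHom.ofInjective hφ).toEquiv).symm
    have h5 := Subgroup.card_le_of_le hle
    rw [hcm, hcr] at h5
    apply equiv_of_map_eq_range _ hj _ hφ
    symm
    apply Subgroup.eq_of_le_of_card_ge hle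
    rw [hcm, hcr]
    have h6 := card_SL2_eq (F := K')
    rw [Cfsg.Agent.Lib.Helper7SL.card_SL_two] at h6
    have h7 : ee F ≤ 2 := by
      rcases Nat.even_or_odd (Fintype.card F) with h | h
      · rw [ee_eq_one h]; norm_num
      · rw [ee_eq_two h]
    have h8 : ee K' ≤ 2 := by
      rcases Nat.even_or_odd (Fintype.card K') with h | h
      · rw [ee_eq_one h]; norm_num
      · rw [ee_eq_two h]
    have h9 : 0 < ee F := ee_pos
    have h10 : 0 < ee K' := ee_pos
    rw [h6] at h3
    generalize Nat.card H = a at *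
    generalize Nat.card (PSL2 K') = b at *
    generalize ee F = e1 at *
    generalize ee K' = e2 at *
    have h11 : e1 = 1 ∨ e1 = 2 := by omega
    have h12 : e2 = 1 ∨ e2 = 2 := by omega
    rcases h11 with rfl | rfl <;> rcases h12 with rfl | rfl <;> omega

theorem card_pow_finrank [Fintype F] (K : Subfield F) :
    Nat.card K ^ Module.finrank K F = Fintype.card F := by
  have := Module.natCard_eq_pow_finrank (K := K) (V := F)
  rw [← this, Nat.card_eq_fintype_card]

/-- T8: the subfield outcome -/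
theorem sub_outcome [Fintype F] {H : Subgroup (PSL2 F)} (h : SubOut (pre H)) :
    ∃ (K : Type) (_ : Field K) (_ : Fintype K) (m : ℕ), Fintype.card K ^ m = Fintype.card F ∧
      (Nonempty (H ≃* PSL2 K) ∨ Nonempty (H ≃* PGL2 K)) := by
  obtain ⟨K, h1, h2, -, h3⟩ := h
  obtain ⟨K', i1, i2, ⟨ε⟩⟩ := exists_small_field K
  refine ⟨K', i1, i2, Module.finrank K F, ?_, sub_outcome_aux h1 h2 h3 ε⟩
  rw [← card_pow_finrank K, ← Nat.card_eq_fintype_card, Nat.card_congr ε.toEquiv]

end Cfsg.Agent.Lib.Helper41Dk
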