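import Mathlib
import Cfsg.Agent.Lib.Helper41Dk14

/-!
# Dickson, part 15: the strong form (characteristic information, trace preservation)
-/

set_option autoImplicit false

namespace Cfsg.Agent.Lib.Helper41Dk

open Matrix Cfsg.Agent.Lib.Helper46SL2 Cfsg.Agent.Lib.Helper41SL2
open scoped Classical

variable {F : Type*} [Field F]

local notation "SL2" => Matrix.SpecialLinearGroup (Fin 2)
local notation "PSL2" => Matrix.ProjectiveSpecialLinearGroup (Fin 2)

/-- the list of outcomes when `G` contains a unipotent element, with the order of `QQ G` -/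
def OutB' (G : Subgroup (SL2 F)) : Prop :=
  G ≤ Bor F ∨ (Nat.card (QQ G) = 2 ∧
      ∃ x ∈ G, tr x ^ 2 ≠ 4 ∧ G = NN G x ∧ ∃ y ∈ G, y * x * y⁻¹ = x⁻¹) ∨
    (Nat.card (QQ G) = 3 ∧ Nat.card G = ee F * 12 ∧ NoCentral G) ∨
    (Nat.card (QQ G) = 3 ∧ O60 G) ∨ MainOut G

theorem caseB' [Fintype F] {G : Subgroup (SL2 F)} (hZ : Subgroup.center (SL2 F) ≤ G) {b : F}
    (hb : b ≠ 0) (hbG : uu b ∈ G) : OutB' G := by
  obtain ⟨R, hR1, hR2, hR3, hsum⟩ := exists_reps' ct_SL2 hZ
  obtain ⟨g, hg1, hg, hgq⟩ := exists_g hZ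
  rw [hgq] at hsum
  obtain ⟨k, hk1, hB, hM, hkq, hcop⟩ := exists_k hZ hb hbG
  set q := Nat.card (QQ G) with hq
  have hepos : 0 < ee F := ee_pos
  have hubZ := uu_not_mem_center hb
  obtain ⟨x0, hx0R, hx0⟩ := hR3 _ hbG hubZ
  have hx0Z := (hR1 x0 hx0R).2
  have hm0 : mass G x0 = 1 / (k : ℚ) - 1 / (q * k : ℚ) := by
    rw [← mass_of_rel ct_SL2 hx0Z hubZ hx0, mass_uu hZ hb hk1 hB]
  have hS : ∀ x ∈ R.erase x0, ∃ a n, SSd G x a n := by
    intro x hx
    obtain ⟨hne, hxR⟩ := Finset.mem_erase.mp hx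
    apply exists_SSd hZ (hR1 x hxR).1
    intro ht
    apply hne
    have h1 := rel_uu_of_tr hZ hbG (hR1 x hxR).1 (hR1 x hxR).2 ht
    exact (hR2 x0 hx0R x hxR (Rel.trans' ct_SL2 hubZ hx0 h1)).symm
  have hsum' : ∑ x ∈ R.erase x0, mass G x = 1 - 1 / (g : ℚ) - (1 / (k : ℚ) - 1 / (q * k : ℚ)) := by
    rw [← hm0, ← hsum, ← Finset.add_sum_erase R _ hx0R]; ring
  have hgpos := inv_pos' hg1
  have hq2 : 2 ≤ q := by omega
  have hqQ : (2 : ℚ) ≤ q := by exact_mod_cast hq2
  have hn := relIndex_mul_card' (BB_le G)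
  set n := (BB G).relIndex G with hndef
  have hgn : g = q * k * n := by
    rw [hB, hg] at hn
    have : ee F * (q * k * n) = ee F * g := by rw [← hn]; ring
    exact (Nat.eq_of_mul_eq_mul_left hepos this).symm
  have hBor : g = q * k → G ≤ Bor F := by
    intro h
    have : BB G = G := by
      apply Subgroup.eq_of_le_of_card_ge (BB_le G)
      rw [hB, hg, h, mul_assoc]
    rw [← this]
    exact inf_le_left
  have hN0 : Nat.card (NN G x0) = ee F * (q * k) := by
    rw [← card_NN_of_rel ct_SL2 hx0Z hubZ hx0, NN_uu G hb, hB, mul_assoc]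
  have hA0 : Nat.card (AA G x0) = ee F * q := by
    rw [← card_AA_of_rel ct_SL2 hx0Z hubZ hx0, card_AA_uu hZ hb]
  rcases Nat.lt_or_ge 1 k with hk2 | hk2
  swap
  · -- k = 1
    have hk : k = 1 := by omega
    subst hk
    have hsum2 : ∑ x ∈ R.erase x0, mass G x = 1 / (q : ℚ) - 1 / (g : ℚ) := by
      rw [hsum']; push_cast; ring
    have hq' : 1 / (q : ℚ) ≤ 1 / 2 := inv_le_half hq2
    rcases sum_lt_half hS (by rw [hsum2]; linarith) with hE | ⟨x, a, hE, d⟩
    · left
      apply hBor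
      rw [hE, Finset.sum_empty] at hsum2
      have h1 : 1 - 1 / (q : ℚ) = 1 - 1 / (g : ℚ) := by linarith
      rw [mul_one]
      exact (num_1 hq2 hg1 h1).symm
    · rw [hE, Finset.sum_singleton, d.mass] at hsum2
      have hcov : ∀ z ∈ G, z ∉ Subgroup.center (SL2 F) → Rel G x0 z ∨ Rel G x z := by
        intro z hz hzZ
        obtain ⟨w, hw, hrel⟩ := hR3 z hz hzZ
        by_cases hw0 : w = x0
        · left; rw [← hw0]; exact hrel
        · right
          have : w ∈ R.erase x0 := Finset.mem_erase.mpr ⟨hw0, hw⟩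
          rw [hE, Finset.mem_singleton] at this
          rw [← this]; exact hrel
      rcases num_k1 hq2 d.ha hg1 (by rw [← hsum2]; push_cast; ring) with ⟨h1, h2⟩ | ⟨h1, rfl, h2⟩
      · right; left
        rcases d.hn with ⟨h0, -⟩ | ⟨-, hy⟩
        · omega
        · exact ⟨h1, x, d.mem, d.tr, d.eq_NN hg h2, hy⟩
      · right; right; left
        refine ⟨h1, by rw [hg, h2], ?_⟩
        apply noCentral_of_cover (P := fun w => w = x0 ∨ w = x)
        · rintro w (rfl | rfl)
          · exact ⟨hx0Z, by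
              rw [hN0, hg, h2, h1]; exact Nat.mul_lt_mul_of_pos_left (by norm_num) hepos⟩
          · exact ⟨d.not_center, by
              rw [d.cardN, hg, h2]; exact Nat.mul_lt_mul_of_pos_left (by norm_num) hepos⟩
        · intro z hz hzZ
          rcases hcov z hz hzZ with h | h
          · exact ⟨x0, Or.inl rfl, h⟩
          · exact ⟨x, Or.inr rfl, h⟩
  · -- k ≥ 2
    have hkQ : (2 : ℚ) ≤ k := by exact_mod_cast hk2
    obtain ⟨y, hyB, hy1⟩ : ∃ y ∈ BB G, y 0 0 ^ 2 ≠ 1 := by
      by_contra hcon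
      push Not at hcon
      have hle : BB G ≤ AA G (uu b) := by
        intro y hy
        have hd := diag_of_mem_Bor hy.1
        have h1 := hcon y hy
        have h0 : y 0 0 ≠ 0 := by
          intro h0; rw [h0, zero_mul] at hd; exact zero_ne_one hd
        refine (mem_AA_uu hb).mpr ⟨⟨mem_Bor.mp hy.1, ?_⟩, hy.2⟩
        apply mul_left_cancel₀ h0
        rw [hd, ← sq, h1]
      have h2 := Subgroup.card_le_of_le hle
      rw [hB, card_AA_uu hZ hb] at h2
      have h3 : 0 < ee F * q := Nat.mul_pos hepos (by omega)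
      nlinarith
    have hyss := tr_ss_of_Bor hyB.1 hy1
    have hyZ := not_mem_center_of_tr hyss
    have hAy : Nat.card (AA G y) = ee F * k := by rw [card_AA_K hyB hy1, hM]
    obtain ⟨xK, hxKR, hxK⟩ := hR3 y hyB.2 hyZ
    have hxKZ := (hR1 xK hxKR).2
    have hxK0 : xK ≠ x0 := by
      rintro rfl
      exact not_rel_uu_of_ss hb hyss (Rel.trans' ct_SL2 hx0Z hx0.symm' hxK)
    have hxKR' : xK ∈ R.erase x0 := Finset.mem_erase.mpr ⟨hxK0, hxKR⟩
    obtain ⟨aK, nK, dK⟩ := hS xK hxKR'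
    have haK : aK = k := by
      have h1 := card_AA_of_rel ct_SL2 hxKZ hyZ hxK
      rw [hAy, dK.cardA] at h1
      exact (Nat.eq_of_mul_eq_mul_left hepos h1).symm
    subst haK
    have hS' : ∀ x ∈ (R.erase x0).erase xK, ∃ a n, SSd G x a n := fun x hx =>
      hS x (Finset.mem_of_mem_erase hx)
    have hsum2 : ∑ x ∈ (R.erase x0).erase xK, mass G x =
        1 - 1 / (g : ℚ) - (1 / (aK : ℚ) - 1 / (q * aK : ℚ)) - (1 - 1 / (aK : ℚ)) / nK := by
      rw [← hsum', ← dK.mass, ← Finset.add_sum_erase (R.erase x0) _ hxKR']; ring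
    have hqk : 1 / (q * aK : ℚ) ≤ 1 / 4 := by
      apply one_div_le_one_div_of_le (by norm_num)
      nlinarith
    have hqk2 : 1 / (q * aK : ℚ) ≤ 1 / (2 * aK : ℚ) := by
      apply one_div_le_one_div_of_le (by positivity)
      nlinarith
    have hqkpos : (0 : ℚ) < 1 / (q * aK : ℚ) := by positivity
    have e2k : 1 / (2 * aK : ℚ) = (1 / (aK : ℚ)) / 2 := by field_simp
    have hcovAll : ∀ z ∈ G, z ∉ Subgroup.center (SL2 F) →
        Rel G x0 z ∨ Rel G xK z ∨ ∃ w ∈ (R.erase x0).erase xK, Rel G w z := by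
      intro z hz hzZ
      obtain ⟨w, hw, hrel⟩ := hR3 z hz hzZ
      by_cases hw0 : w = x0
      · left; rw [← hw0]; exact hrel
      · by_cases hwK : w = xK
        · right; left; rw [← hwK]; exact hrel
        · right; right
          exact ⟨w, Finset.mem_erase.mpr ⟨hwK, Finset.mem_erase.mpr ⟨hw0, hw⟩⟩, hrel⟩
    rcases dK.hn with ⟨rfl, -⟩ | ⟨rfl, -⟩
    · -- self-normalizing torus: `G` is the Borel part
      left
      apply hBor
      have hsum3 : ∑ x ∈ (R.erase x0).erase xK, mass G x = 1 / (q * aK : ℚ) - 1 / (g : ℚ) := by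
        rw [hsum2]; push_cast; ring
      have hE := sum_lt_quarter hS' (by rw [hsum3]; linarith)
      rw [hE, Finset.sum_empty] at hsum3
      have h1 : 1 - 1 / ((q * aK : ℕ) : ℚ) = 1 - 1 / (g : ℚ) := by push_cast; linarith
      exact (num_1 (by nlinarith) hg1 h1).symm
    · have hsum3 : ∑ x ∈ (R.erase x0).erase xK, mass G x =
          1 / 2 - 1 / (g : ℚ) - 1 / (2 * aK : ℚ) + 1 / (q * aK : ℚ) := by
        rw [hsum2, e2k]; push_cast; ring
      rcases sum_lt_half hS' (by rw [hsum3]; linarith) with hE | ⟨z, g2, hE, dz⟩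
      · exfalso
        rw [hE, Finset.sum_empty] at hsum3
        have h1 : (q * aK : ℚ) ≤ g := by
          have : q * aK ≤ g := by
            rw [hgn]
            have hn0 : 0 < n := by
              rcases Nat.eq_zero_or_pos n with h0 | h0
              · rw [h0, mul_zero] at hgn; omega
              · exact h0
            exact Nat.le_mul_of_pos_right _ hn0
          exact_mod_cast this
        have h2 : 1 / (g : ℚ) ≤ 1 / (q * aK : ℚ) := one_div_le_one_div_of_le (by positivity) h1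
        have h3 : 1 / (aK : ℚ) ≤ 1 / 2 := inv_le_half hk2
        have h4 : (0 : ℚ) < 1 / (2 * aK : ℚ) := by positivity
        linarith
      · rw [hE, Finset.sum_singleton, dz.mass] at hsum3
        have hzmem : z ∈ (R.erase x0).erase xK := by rw [hE]; exact Finset.mem_singleton_self z
        have hzK : z ≠ xK := (Finset.mem_erase.mp hzmem).1
        have hzR : z ∈ R := Finset.mem_of_mem_erase (Finset.mem_of_mem_erase hzmem)
        have hdvd := card_AA_dvd_relIndex hZ dz.tr (by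
          intro y' hy' hy'1 hrel
          apply hzK
          have h1 := rel_of_mem_BB hyB hy1 hy' hy'1
          have hy'Z := not_mem_center_of_tr (tr_ss_of_Bor hy'.1 hy'1)
          exact (hR2 xK hxKR z hzR
            (Rel.trans' ct_SL2 hy'Z (Rel.trans' ct_SL2 hyZ hxK h1) hrel)).symm)
        rw [dz.cardA] at hdvd
        obtain ⟨c, hc⟩ := (Nat.mul_dvd_mul_iff_left hepos).mp hdvd
        replace hc : n = g2 * c := hc
        have hn0 : 0 < n := by
          rcases Nat.eq_zero_or_pos n with h0 | h0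
          · rw [h0, mul_zero] at hgn; omega
          · exact h0
        have hc1 : 1 ≤ c := by
          rcases Nat.eq_zero_or_pos c with rfl | h0
          · rw [mul_zero] at hc; omega
          · exact h0
        have hg21 : 1 ≤ g2 := by have := dz.ha; omega
        have E := num_main_eq (g := g) hq2 hk1 hg21 hc1 (by rw [hgn, hc])
          (by rw [← hsum3]; push_cast; ring)
        obtain ⟨r', hr'⟩ := card_QQ_dvd_relIndex G
        replace hr' : n + (q - 1) = q * r' := hr'
        obtain ⟨r, hr⟩ : ∃ r, n = 1 + q * r := by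
          have hr0 : 1 ≤ r' := by
            rcases Nat.eq_zero_or_pos r' with rfl | h0
            · rw [mul_zero] at hr'; omega
            · exact h0
          refine ⟨r' - 1, ?_⟩
          obtain ⟨s, rfl⟩ : ∃ s, r' = s + 1 := ⟨r' - 1, by omega⟩
          have : q * (s + 1) = q * s + q := by ring
          simp only [Nat.add_sub_cancel]
          omega
        rcases num_main hk2 hkq dz.ha hc hr E with ⟨h1, h2, -⟩ | ⟨h1, h2, -⟩ | ⟨h1, h2, h3, h4⟩
        · right; right; right; right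
          exact ⟨h1, aK, hk2, hB, Or.inl h2⟩
        · right; right; right; right
          exact ⟨h1, aK, hk2, hB, Or.inr h2⟩
        · right; right; right; left
          subst h2 h4
          refine ⟨h1, by rw [hg, hgn, h1, h3], xK, x0, z, ⟨dK.mem, dK.not_center, dK.cardA, ?_⟩,
            ⟨(hR1 x0 hx0R).1, hx0Z, by rw [hA0, h1], ?_⟩, ⟨dz.mem, dz.not_center, dz.cardA, ?_⟩, ?_⟩
          · rw [dK.mass]; norm_num
          · rw [hm0, h1]; norm_num
          · rw [dz.mass]; norm_num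
          · intro w hw hwZ
            rcases hcovAll w hw hwZ with h | h | ⟨v, hv, h⟩
            · exact Or.inr (Or.inl h)
            · exact Or.inl h
            · rw [hE, Finset.mem_singleton] at hv
              rw [hv] at h
              exact Or.inr (Or.inr h)


/-- trace preserving automorphisms -/
def TrP (φ : SL2 F ≃* SL2 F) : Prop := ∀ x, tr (φ x) = tr x

theorem TrP.refl : TrP (MulEquiv.refl (SL2 F)) := fun _ => rfl

theorem TrP.trans {φ ψ : SL2 F ≃* SL2 F} (h1 : TrP φ) (h2 : TrP ψ) : TrP (φ.trans ψ) :=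
  fun x => (h2 (φ x)).trans (h1 x)

theorem TrP.conj (c : SL2 F) : TrP (MulAut.conj c) := fun x => tr_conj x c

theorem TrP.scl (s : F) (hs : s ≠ 0) : TrP (scl s hs) := fun _ => rfl

theorem TrP.symm {φ : SL2 F ≃* SL2 F} (h : TrP φ) : TrP φ.symm := fun x => by
  have := h (φ.symm x)
  rw [MulEquiv.apply_symm_apply] at this
  exact this.symm

/-- the complete list of outcomes, with information on the characteristic -/
def Out' (G : Subgroup (SL2 F)) : Prop :=
  G = Subgroup.center (SL2 F) ∨ (∃ x ∈ G, tr x ^ 2 ≠ 4 ∧ G = AA G x) ∨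
    (∃ x ∈ G, tr x ^ 2 ≠ 4 ∧ G = NN G x ∧ ∃ y ∈ G, y * x * y⁻¹ = x⁻¹) ∨
    ((2 : F) ≠ 0 ∧ Nat.card G = ee F * 12 ∧ NoCentral G) ∨
    ((2 : F) ≠ 0 ∧ (3 : F) ≠ 0 ∧ Nat.card G = ee F * 24 ∧ NoCentral G ∧
      ∃ x ∈ G, x ∉ Subgroup.center (SL2 F) ∧
      Nat.card (AA G x) = ee F * 3 ∧ Nat.card (NN G x) = ee F * 6) ∨
    ((2 : F) ≠ 0 ∧ (5 : F) ≠ 0 ∧ O60 G) ∨ G ≤ Bor F ∨ SubOut G

theorem cast_ne_zero_of_ss [Fintype F] {G : Subgroup (SL2 F)}
    (hss : ∀ x ∈ G, x ∉ Subgroup.center (SL2 F) → tr x ^ 2 ≠ 4) {n : ℕ} (hn : n.Prime)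
    (hdvd : n ∣ Nat.card G) : (n : F) ≠ 0 := by
  intro h0
  obtain ⟨p, hp⟩ := CharP.exists F
  have hpp : Fact p.Prime := ⟨CharP.char_is_prime F p⟩
  have h1 := (CharP.cast_eq_zero_iff F p n).mp h0
  have h2 : p = n := (Nat.prime_dvd_prime_iff_eq hpp.out hn).mp h1
  subst h2
  obtain ⟨x, hx⟩ := exists_prime_orderOf_dvd_card' p hdvd
  have hx1 : (x : SL2 F) ^ p ^ 1 = 1 := by
    rw [pow_one, ← Subgroup.coe_pow, ← hx, pow_orderOf_eq_one]; rfl
  have hxne : (x : SL2 F) ≠ 1 := by
    intro h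
    have : x = 1 := Subtype.ext h
    rw [this, orderOf_one] at hx
    exact hpp.out.one_lt.ne hx
  have htr := tr_eq_two_of_pow_char p 1 hx1
  apply hss x x.2 _ (by rw [htr]; norm_num)
  intro hc
  rcases mem_center_iff_eq.mp hc with h | h
  · exact hxne h
  · rw [h, tr_neg] at htr
    have h3 : tr (1 : SL2 F) = 2 := by simp [tr]; norm_num
    rw [h3] at htr
    -- `-2 = 2`, so `4 = 0`, so `p = 2` and `-1 = 1`
    have h4 : (2 : F) = 0 := by
      have h5 : (2 : F) * 2 = 0 := by linear_combination -htr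
      exact mul_self_eq_zero.mp h5
    apply hxne
    rw [h]
    apply ext2 <;> simp [Helper46SL2.neg_apply] <;> linear_combination -h4

theorem three_eq_zero_of_card_QQ {G : Subgroup (SL2 F)} (h1 : uu (1 : F) ∈ G)
    (h : Nat.card (QQ G) = 3) : (3 : F) = 0 := by
  have hmem : uu (1 : F) ∈ QQ G := ⟨uu_mem 1, h1⟩
  have h2 : (⟨uu (1 : F), hmem⟩ : QQ G) ^ Nat.card (QQ G) = 1 := pow_card_eq_one'
  rw [h] at h2
  have h3 : uu (1 : F) ^ 3 = 1 := congrArg Subtype.val h2
  rw [uu_pow, ← uu_zero] at h3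
  have := uu_inj h3
  simpa using this

theorem out'_of_outB' [Finite F] {G : Subgroup (SL2 F)} (hZ : Subgroup.center (SL2 F) ≤ G)
    (h1 : uu (1 : F) ∈ G) {w : SL2 F} (hw : w ∈ G) (hw0 : w 0 0 = 0) (h : OutB' G) : Out' G := by
  rcases h with h | ⟨-, h⟩ | ⟨h3, h⟩ | ⟨h3, h⟩ | h
  · exact Or.inr (Or.inr (Or.inr (Or.inr (Or.inr (Or.inr (Or.inl h))))))
  · exact Or.inr (Or.inr (Or.inl h))
  · have h3' := three_eq_zero_of_card_QQ h1 h3
    refine Or.inr (Or.inr (Or.inr (Or.inl ⟨?_, h⟩)))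
    intro h2
    exact one_ne_zero (α := F) (by linear_combination h3' - h2)
  · have h3' := three_eq_zero_of_card_QQ h1 h3
    refine Or.inr (Or.inr (Or.inr (Or.inr (Or.inr (Or.inl ⟨?_, ?_, h⟩)))))
    · intro h2
      exact one_ne_zero (α := F) (by linear_combination h3' - h2)
    · intro h5
      exact one_ne_zero (α := F) (by linear_combination 2 * h3' - h5)
  · have := out_of_outB hZ h1 hw hw0 (Or.inr (Or.inr (Or.inr (Or.inr h))))
    -- re-derive the subfield outcome
    right; right; right; right; right; right; right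
    obtain ⟨s1, s2, s3⟩ := main_sandwich hZ h1 hw hw0 h
    obtain ⟨hn, k, hk2, hB, hkq⟩ := h
    have hG := relIndex_mul_card' (BB_le G)
    rw [hn, hB, ← s3] at hG
    rw [← s3] at hkq
    refine ⟨KK G, s1, s2, by omega, ?_⟩
    rcases hkq with hkq | hkq
    · left
      rw [← hG, ← hkq]
      simp only [Nat.add_sub_cancel]
      ring
    · right
      rw [← hG, ← hkq]
      simp only [Nat.add_sub_cancel]
      ring

theorem out'_of_caseA [Fintype F] {G : Subgroup (SL2 F)}
    (hss : ∀ x ∈ G, x ∉ Subgroup.center (SL2 F) → tr x ^ 2 ≠ 4) (h : OutA G) : Out' G := by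
  rcases h with h | h | h | h | h | h
  · exact Or.inl h
  · exact Or.inr (Or.inl h)
  · exact Or.inr (Or.inr (Or.inl h))
  · refine Or.inr (Or.inr (Or.inr (Or.inl ⟨?_, h⟩)))
    have := cast_ne_zero_of_ss hss Nat.prime_two (by rw [h.1]; exact Dvd.dvd.mul_left (by norm_num) _)
    exact_mod_cast this
  · refine Or.inr (Or.inr (Or.inr (Or.inr (Or.inl ⟨?_, ?_, h⟩))))
    · have := cast_ne_zero_of_ss hss Nat.prime_two
        (by rw [h.1]; exact Dvd.dvd.mul_left (by norm_num) _)
      exact_mod_cast this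
    · have := cast_ne_zero_of_ss hss Nat.prime_three
        (by rw [h.1]; exact Dvd.dvd.mul_left (by norm_num) _)
      exact_mod_cast this
  · refine Or.inr (Or.inr (Or.inr (Or.inr (Or.inr (Or.inl ⟨?_, ?_, h⟩)))))
    · have := cast_ne_zero_of_ss hss Nat.prime_two
        (by rw [h.1]; exact Dvd.dvd.mul_left (by norm_num) _)
      exact_mod_cast this
    · have := cast_ne_zero_of_ss hss Nat.prime_five
        (by rw [h.1]; exact Dvd.dvd.mul_left (by norm_num) _)
      exact_mod_cast this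

/-- **Dickson's theorem**, strong form: up to a trace preserving automorphism. -/
theorem dickson_SL2' [Fintype F] {G : Subgroup (SL2 F)} (hZ : Subgroup.center (SL2 F) ≤ G) :
    ∃ φ : SL2 F ≃* SL2 F, TrP φ ∧ Out' (G.map φ.toMonoidHom) := by
  by_cases hss : ∀ x ∈ G, x ∉ Subgroup.center (SL2 F) → tr x ^ 2 ≠ 4
  · refine ⟨MulEquiv.refl _, TrP.refl, ?_⟩
    have : G.map (MulEquiv.refl (SL2 F)).toMonoidHom = G := by
      ext x; simp
    rw [this]
    exact out'_of_caseA hss (caseA hZ hss)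
  · push Not at hss
    obtain ⟨x, hx, hxZ, ht⟩ := hss
    -- a unipotent element
    obtain ⟨u, hu, huZ, htu⟩ : ∃ u ∈ G, u ∉ Subgroup.center (SL2 F) ∧ tr u = 2 := by
      have h5 : (tr x - 2) * (tr x + 2) = 0 := by linear_combination ht
      rcases mul_eq_zero.mp h5 with h6 | h6
      · exact ⟨x, hx, hxZ, by linear_combination h6⟩
      · have hneg : (-1 : SL2 F) ∈ Subgroup.center (SL2 F) := mem_center_iff_eq.mpr (Or.inr rfl)
        have e : -x = (-1 : SL2 F) * x := by simp
        refine ⟨-x, by rw [e]; exact mul_mem (hZ hneg) hx, ?_, by rw [tr_neg]; linear_combination -h6⟩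
        intro h
        apply hxZ
        have := mul_mem hneg h
        simpa using this
    obtain ⟨b, hb, hc⟩ := exists_isConj_uu huZ htu
    obtain ⟨c, hc⟩ := isConj_iff.mp hc
    let φ1 : SL2 F ≃* SL2 F := (MulAut.conj c).trans (scl b⁻¹ (inv_ne_zero hb))
    have hφ1 : TrP φ1 := (TrP.conj c).trans (TrP.scl _ _)
    have h1 : uu (1 : F) ∈ G.map φ1.toMonoidHom := by
      refine ⟨u, hu, ?_⟩
      change scl b⁻¹ (inv_ne_zero hb) (c * u * c⁻¹) = _
      rw [hc, scl_uu, inv_mul_cancel₀ hb]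
    by_cases hB : G.map φ1.toMonoidHom ≤ Bor F
    · exact ⟨φ1, hφ1, Or.inr (Or.inr (Or.inr (Or.inr (Or.inr (Or.inr (Or.inl hB))))))⟩
    · obtain ⟨w, hw, hwB⟩ := SetLike.not_le_iff_exists.mp hB
      have hw10 : w 1 0 ≠ 0 := hwB
      let φ2 : SL2 F ≃* SL2 F := φ1.trans (MulAut.conj (uu (-(w 0 0 / w 1 0))))
      have hmap : G.map φ2.toMonoidHom =
          (G.map φ1.toMonoidHom).map (MulAut.conj (uu (-(w 0 0 / w 1 0)))).toMonoidHom := by
        rw [Subgroup.map_map]; rfl
      refine ⟨φ2, hφ1.trans (TrP.conj _), ?_⟩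
      have hZ2 := center_le_map hZ φ2
      have h12 : uu (1 : F) ∈ G.map φ2.toMonoidHom := by
        rw [hmap]
        refine ⟨uu 1, h1, ?_⟩
        change uu (-(w 0 0 / w 1 0)) * uu (1 : F) * (uu (-(w 0 0 / w 1 0)))⁻¹ = uu (1 : F)
        rw [← uu_neg, uu_mul, uu_mul]
        congr 1; ring
      have hw2 : uu (-(w 0 0 / w 1 0)) * w * (uu (-(w 0 0 / w 1 0)))⁻¹ ∈ G.map φ2.toMonoidHom := by
        rw [hmap]
        exact ⟨w, hw, rfl⟩
      have hw00 : (uu (-(w 0 0 / w 1 0)) * w * (uu (-(w 0 0 / w 1 0)))⁻¹) 0 0 = 0 := by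
        simp only [mul_00, mul_01, inv_00, inv_10, uu_00, uu_01, uu_10, uu_11]
        field_simp
        ring
      exact out'_of_outB' hZ2 h12 hw2 hw00 (caseB' hZ2 one_ne_zero h12)

/-- **Dickson's theorem**, strong `PSL₂`-form. -/
theorem dickson_PSL2' [Fintype F] (H : Subgroup (PSL2 F)) :
    ∃ φ : SL2 F ≃* SL2 F, TrP φ ∧ Out' (pre (H.map (barEquiv φ).toMonoidHom)) := by
  obtain ⟨φ, h1, hφ⟩ := dickson_SL2' (center_le_pre H)
  exact ⟨φ, h1, by rw [pre_map_barEquiv]; exact hφ⟩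

end Cfsg.Agent.Lib.Helper41Dk
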