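import Mathlib
import Cfsg.Agent.Lib.Helper41Dk15

/-!
# Dickson, part 16: subfield subgroups: orders, traces, intermediate fields
-/

set_option autoImplicit false

namespace Cfsg.Agent.Lib.Helper41Dk

open Matrix Cfsg.Agent.Lib.Helper46SL2 Cfsg.Agent.Lib.Helper41SL2

variable {F : Type*} [Field F]

local notation "SL2" => Matrix.SpecialLinearGroup (Fin 2)
local notation "PSL2" => Matrix.ProjectiveSpecialLinearGroup (Fin 2)
local notation "PGL2" => Matrix.ProjGenLinGroup (Fin 2)

theorem SLK_eq_range (K : Subfield F) :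
    SLK K = (SpecialLinearGroup.map (n := Fin 2) K.subtype).range := by
  ext g
  constructor
  · rintro ⟨h0, h1, h2, h3⟩
    refine ⟨mk2 ⟨_, h0⟩ ⟨_, h1⟩ ⟨_, h2⟩ ⟨_, h3⟩ (Subtype.ext (det2 g)), ?_⟩
    apply ext2 <;> rfl
  · rintro ⟨s, rfl⟩
    exact ⟨(s 0 0).2, (s 0 1).2, (s 1 0).2, (s 1 1).2⟩

theorem map_subtype_injective (K : Subfield F) :
    Function.Injective (SpecialLinearGroup.map (n := Fin 2) K.subtype) := by
  intro a b h
  apply ext2
  · exact Subtype.ext (congrArg (fun g : SL2 F => g 0 0) h)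
  · exact Subtype.ext (congrArg (fun g : SL2 F => g 0 1) h)
  · exact Subtype.ext (congrArg (fun g : SL2 F => g 1 0) h)
  · exact Subtype.ext (congrArg (fun g : SL2 F => g 1 1) h)

theorem card_SLK [Finite F] (K : Subfield F) :
    Nat.card (SLK K) = Nat.card K * (Nat.card K ^ 2 - 1) := by
  have := Fintype.ofFinite K
  rw [SLK_eq_range, ← Nat.card_congr (MonoidHom.ofInjective (map_subtype_injective K)).toEquiv,
    Cfsg.Agent.Lib.Helper7SL.card_SL_two, Nat.card_eq_fintype_card]

theorem center_le_PK (K : Subfield F) : Subgroup.center (SL2 F) ≤ PK K := by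
  intro g hg
  apply SLK_le_PK
  rcases mem_center_iff_eq.mp hg with rfl | rfl
  · exact one_mem _
  · refine ⟨?_, ?_, ?_, ?_⟩ <;> simp [Helper46SL2.neg_apply]

theorem SLK_top : SLK (⊤ : Subfield F) = ⊤ := by
  ext g
  simp [mem_SLK]

theorem tr_sq_mem_of_mem_PK {K : Subfield F} {g : SL2 F} (hg : g ∈ PK K) : tr g ^ 2 ∈ K := by
  obtain ⟨l, hl, h0, h1, h2, h3⟩ := hg
  have hd : l ^ 2 ∈ K := by
    have := sub_mem (mul_mem h0 h3) (mul_mem h1 h2)
    have e : l * g 0 0 * (l * g 1 1) - l * g 0 1 * (l * g 1 0) = l ^ 2 := by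
      linear_combination l ^ 2 * det2 g
    rwa [e] at this
  have ht : (l * g 0 0 + l * g 1 1) ^ 2 ∈ K := pow_mem (add_mem h0 h3) 2
  have e : tr g ^ 2 = (l * g 0 0 + l * g 1 1) ^ 2 * (l ^ 2)⁻¹ := by
    rw [tr]; field_simp
  rw [e]
  exact mul_mem ht (inv_mem hd)

theorem le_of_sq_mem [Finite F] {K K1 : Subfield F} (h : ∀ t ∈ K, t ^ 2 ∈ K1) : K ≤ K1 := by
  intro t ht
  by_cases h2 : (2 : F) = 0
  · have : CharP K 2 := CharTwo.of_one_ne_zero_of_two_eq_zero one_ne_zero (Subtype.ext h2)
    obtain ⟨s, hs⟩ := FiniteField.isSquare_of_char_two (ringChar.eq K 2) (⟨t, ht⟩ : K)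
    have := h s s.2
    have e : t = (s : F) ^ 2 := by
      have := congrArg Subtype.val hs
      rw [sq]; exact this
    rw [e]; exact this
  · have h1 := h (t + 1) (add_mem ht (one_mem K))
    have h3 := h t ht
    have e : t = ((t + 1) ^ 2 - t ^ 2 - 1) * 2⁻¹ := by field_simp; ring
    rw [e]
    exact mul_mem (sub_mem (sub_mem h1 h3) (one_mem _)) (inv_mem (by
      have := add_mem (one_mem K1) (one_mem K1)
      rwa [one_add_one_eq_two] at this))

theorem eq_or_eq_top_of_prime [Fintype F] {K K1 : Subfield F} (h : K ≤ K1) {r : ℕ} (hr : r.Prime)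
    (hq : Nat.card K ^ r = Fintype.card F) : K1 = K ∨ K1 = ⊤ := by
  let _ : Algebra K K1 := (Subfield.inclusion h).toAlgebra
  have h1 := Module.natCard_eq_pow_finrank (K := K) (V := K1)
  have h2 := card_pow_finrank K1
  rw [h1, ← pow_mul, ← hq] at h2
  have hK : 2 ≤ Nat.card K := by
    have := Fintype.ofFinite K
    rw [Nat.card_eq_fintype_card]
    exact Fintype.one_lt_card
  have h3 := Nat.pow_right_injective hK h2
  rcases (Nat.dvd_prime hr).mp ⟨_, h3.symm⟩ with h4 | h4
  · left
    rw [h4, pow_one] at h1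
    symm
    apply SetLike.coe_injective
    apply Set.eq_of_subset_of_ncard_le h _ (Set.toFinite _)
    change Nat.card K1 ≤ Nat.card K
    rw [h1]
  · right
    rw [h4, hq] at h1
    apply SetLike.coe_injective
    apply Set.eq_of_subset_of_ncard_le (Set.subset_univ _) _ (Set.toFinite _)
    rw [Set.ncard_univ, Nat.card_eq_fintype_card]
    change _ ≤ Nat.card K1
    rw [h1]

/-- the image of `PK K` in `PSL₂(F)` -/
def PKbar (K : Subfield F) : Subgroup (PSL2 F) := (PK K).map (proj F)

theorem pre_PKbar (K : Subfield F) : pre (PKbar K) = PK K := pre_map_proj (center_le_PK K)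

theorem card_PK [Finite F] (K : Subfield F) : Nat.card (PK K) = ee F * Nat.card (PKbar K) := by
  rw [← card_pre, pre_PKbar]

theorem card_PKbar_le [Finite F] (K : Subfield F) :
    Nat.card (PKbar K) ≤ Nat.card K * (Nat.card K ^ 2 - 1) := by
  have := Fintype.ofFinite K
  have : Finite (PGL2 F) := Finite.of_surjective _ ProjGenLinGroup.mk_surjective
  have hj := ProjectiveSpecialLinearGroup.toPGL_injective (n := Fin 2) (R := F)
  rw [← Subgroup.card_map_of_injective hj, Nat.card_eq_fintype_card (α := K),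
    ← Cfsg.Agent.S0805.card_PGL_two,
    Nat.card_congr (MonoidHom.ofInjective (Cfsg.Agent.S0805.pgl_map_injective K.subtype)).toEquiv]
  apply Subgroup.card_le_of_le
  rintro _ ⟨x, hx, rfl⟩
  obtain ⟨g, hg, rfl⟩ := hx
  exact toPGL_mem_range_of_mem_PK K.subtype (fun x hx => ⟨⟨x, hx⟩, rfl⟩) hg

theorem card_PK_cases [Fintype F] (K : Subfield F) :
    PK K = SLK K ∨ (ee F = 2 ∧ Nat.card (PK K) = 2 * (Nat.card K * (Nat.card K ^ 2 - 1))) := by
  have h1 := card_PK K
  have h2 := card_PKbar_le K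
  have h3 := card_SLK K
  have h4 := Subgroup.card_dvd_of_le (SLK_le_PK K)
  have hpos : 0 < Nat.card (SLK K) := Nat.card_pos
  rw [h3] at h4 hpos
  by_cases h : Nat.card (PK K) ≤ Nat.card (SLK K)
  · left
    exact (Subgroup.eq_of_le_of_card_ge (SLK_le_PK K) h).symm
  · right
    rw [h3] at h
    obtain ⟨c, hc⟩ := h4
    generalize Nat.card K * (Nat.card K ^ 2 - 1) = n at *
    have he : ee F = 1 ∨ ee F = 2 := by
      rcases Nat.even_or_odd (Fintype.card F) with h | h
      · left; exact ee_eq_one h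
      · right; exact ee_eq_two h
    rcases he with he | he
    · rw [he] at h1; omega
    · refine ⟨he, ?_⟩
      rw [he] at h1
      have hc2 : c ≤ 2 := by
        by_contra hcon
        have : n * 3 ≤ n * c := Nat.mul_le_mul_left _ (by omega)
        omega
      have hc1 : 2 ≤ c := by
        by_contra hcon
        have : n * c ≤ n * 1 := Nat.mul_le_mul_left _ (by omega)
        omega
      have : c = 2 := by omega
      rw [hc, this, mul_comm]

theorem PK_eq_SLK_of_even [Fintype F] (heven : Even (Fintype.card F)) (K : Subfield F) :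
    PK K = SLK K := by
  rcases card_PK_cases K with h | ⟨h, -⟩
  · exact h
  · rw [ee_eq_one heven] at h; omega

theorem odd_card_subfield [Fintype F] (hodd : Odd (Fintype.card F)) (K : Subfield F) :
    Odd (Nat.card K) := by
  rw [← card_pow_finrank K] at hodd
  by_contra h
  rw [Nat.not_odd_iff_even] at h
  have h0 : Module.finrank K F ≠ 0 := Module.finrank_pos.ne'
  exact (Nat.not_odd_iff_even.2 (h.pow_of_ne_zero h0)) hodd

theorem PK_eq_SLK_of_odd [Fintype F] (hodd : Odd (Fintype.card F)) {K : Subfield F} {m : ℕ}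
    (hm : Odd m) (hq : Nat.card K ^ m = Fintype.card F) : PK K = SLK K := by
  rcases card_PK_cases K with h | ⟨he, h⟩
  · exact h
  · exfalso
    have h1 := card_PK K
    rw [he, h] at h1
    have h2 : Nat.card (PKbar K) = Nat.card K * (Nat.card K ^ 2 - 1) := by omega
    have h3 := Subgroup.card_subgroup_dvd_card (PKbar K)
    rw [h2] at h3
    have hK : 1 < Nat.card K := by
      have := Fintype.ofFinite K
      rw [Nat.card_eq_fintype_card]
      exact Fintype.one_lt_card
    refine Cfsg.Agent.S0805.arith_odd (Nat.card K) m _ (odd_card_subfield hodd K) hK hm ?_ h3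
    rw [hq]
    exact Cfsg.Agent.Lib.Helper7SL.card_PSL_two_mul_two hodd

theorem exists_sqrt_not_mem [Fintype F] (hodd : Odd (Fintype.card F)) {K : Subfield F} {m : ℕ}
    (hm : Even m) (hq : Nat.card K ^ m = Fintype.card F) : ∃ s : F, s ∉ K ∧ s ≠ 0 ∧ s ^ 2 ∈ K := by
  have := Fintype.ofFinite K
  have hKodd := odd_card_subfield hodd K
  have hchar : ringChar K ≠ 2 := by
    intro h
    have := FiniteField.even_card_of_char_two h
    rw [Nat.card_eq_fintype_card] at hKodd
    have := Nat.odd_iff.1 hKodd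
    omega
  obtain ⟨d, hd⟩ := FiniteField.exists_nonsquare hchar
  have hd0 : d ≠ 0 := by
    rintro rfl
    exact hd (IsSquare.zero)
  rw [Nat.card_eq_fintype_card] at hq
  obtain ⟨s, hs⟩ := Cfsg.Agent.S0805.isSquare_of_even hodd m hm hq K.subtype d hd0
  have hs' : (d : F) = s * s := hs
  refine ⟨s, ?_, ?_, ?_⟩
  · intro hsK
    apply hd
    exact ⟨⟨s, hsK⟩, Subtype.ext hs'⟩
  · rintro rfl
    apply hd0
    apply Subtype.ext
    rw [hs']; simp
  · rw [sq, ← hs']; exact d.2

theorem card_PK_of_even_deg [Fintype F] (hodd : Odd (Fintype.card F)) {K : Subfield F} {m : ℕ}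
    (hm : Even m) (hq : Nat.card K ^ m = Fintype.card F) :
    Nat.card (PK K) = 2 * (Nat.card K * (Nat.card K ^ 2 - 1)) := by
  rcases card_PK_cases K with h | ⟨-, h⟩
  · exfalso
    obtain ⟨s, hs, hs0, hs2⟩ := exists_sqrt_not_mem hodd hm hq
    have hmem : mk2 s 0 0 s⁻¹ (by field_simp; ring) ∈ PK K := by
      refine ⟨s, hs0, ?_, ?_, ?_, ?_⟩
      · rw [mk2_00, ← sq]; exact hs2
      · rw [mk2_01, mul_zero]; exact zero_mem K
      · rw [mk2_10, mul_zero]; exact zero_mem K
      · rw [mk2_11, mul_inv_cancel₀ hs0]; exact one_mem K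
    rw [h] at hmem
    exact hs hmem.1
  · exact h

end Cfsg.Agent.Lib.Helper41Dk
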