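import Mathlib
import Cfsg.Agent.Lib.Helper41Dk16

/-!
# Dickson, part 17: maximality of the subfield subgroups of prime degree
-/

set_option autoImplicit false

namespace Cfsg.Agent.Lib.Helper41Dk

open Matrix Cfsg.Agent.Lib.Helper46SL2 Cfsg.Agent.Lib.Helper41SL2

variable {F : Type*} [Field F]

local notation "SL2" => Matrix.SpecialLinearGroup (Fin 2)
local notation "PSL2" => Matrix.ProjectiveSpecialLinearGroup (Fin 2)
local notation "PGL2" => Matrix.ProjGenLinGroup (Fin 2)

/-- everything commuting with a non-central element with `tr² = 4` has `tr² = 4` -/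
theorem tr_sq_of_commute_unip {z x : SL2 F} (hz : z ∉ Subgroup.center (SL2 F))
    (htz : tr z ^ 2 = 4) (hx : Commute x z) : tr x ^ 2 = 4 := by
  obtain ⟨u, huZ, htu, hxu⟩ : ∃ u : SL2 F, u ∉ Subgroup.center (SL2 F) ∧ tr u = 2 ∧ Commute x u := by
    have h5 : (tr z - 2) * (tr z + 2) = 0 := by linear_combination htz
    rcases mul_eq_zero.mp h5 with h6 | h6
    · exact ⟨z, hz, by linear_combination h6, hx⟩
    · have hneg : (-1 : SL2 F) ∈ Subgroup.center (SL2 F) := mem_center_iff_eq.mpr (Or.inr rfl)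
      refine ⟨-z, ?_, by rw [tr_neg]; linear_combination -h6, ?_⟩
      · intro h
        apply hz
        have := mul_mem hneg h
        simpa using this
      · show x * -z = -z * x
        have : x * z = z * x := hx
        simp [this]
  obtain ⟨b, hb, hc⟩ := exists_isConj_uu huZ htu
  obtain ⟨c, hc⟩ := isConj_iff.mp hc
  have h1 : Commute (c * x * c⁻¹) (uu b) := by
    rw [← hc]
    exact (Commute.conj_iff c).mpr hxu
  obtain ⟨h2, h3⟩ := (commute_uu_iff hb).mp h1
  have h4 := det2 (c * x * c⁻¹)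
  rw [← tr_conj x c, tr]
  rw [h2] at h4
  rw [← h3] at h4 ⊢
  linear_combination 4 * h4

theorem mem_center_equiv (φ : SL2 F ≃* SL2 F) {x : SL2 F} :
    φ x ∈ Subgroup.center (SL2 F) ↔ x ∈ Subgroup.center (SL2 F) := by
  constructor
  · intro h
    rw [← map_center φ] at h
    obtain ⟨y, hy, hyx⟩ := h
    have : y = x := φ.injective hyx
    rwa [← this]
  · intro h
    rw [← map_center φ]
    exact ⟨x, h, rfl⟩

/-- in `N(C(x))`, of three elements `a`, `b`, `ab` one centralizes `x` -/
theorem exists_commute_of_NN {G : Subgroup (SL2 F)} {x a b : SL2 F} (ht : tr x ^ 2 ≠ 4)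
    (ha : a ∈ NN G x) (hb : b ∈ NN G x) : Commute a x ∨ Commute b x ∨ Commute (a * b) x := by
  have hA := (mem_normalizer_centralizer_iff ht).mp ha.1
  have hB := (mem_normalizer_centralizer_iff ht).mp hb.1
  rcases hA with hA | hA
  · left
    exact mul_inv_eq_iff_eq_mul.mp hA
  rcases hB with hB | hB
  · right; left
    exact mul_inv_eq_iff_eq_mul.mp hB
  · right; right
    apply mul_inv_eq_iff_eq_mul.mp
    have : a * b * x * (a * b)⁻¹ = a * (b * x * b⁻¹) * a⁻¹ := by group
    rw [this, hB, ← conj_inv, hA, inv_inv]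

theorem not_commute_uu_ll : ¬ Commute (uu (1 : F)) (ll (1 : F)) := by
  intro h
  have h1 : uu (1 : F) * ll (1 : F) = ll (1 : F) * uu (1 : F) := h
  have h2 := congrArg (fun g : SL2 F => g 0 0) h1
  simp only [mul_00, uu_00, uu_01, ll_00, ll_10, ll_01, uu_10] at h2
  simp at h2

theorem mem_UU_of_Bor_of_tr {g : SL2 F} (hg : g ∈ Bor F) (ht : tr g = 2) : g ∈ UU F := by
  have h1 : g 1 0 = 0 := hg
  have h2 := det2 g
  rw [h1, mul_zero, sub_zero] at h2
  rw [tr] at ht
  have h3 : (g 0 0 - 1) ^ 2 = 0 := by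
    have : g 1 1 = 2 - g 0 0 := by linear_combination ht
    rw [this] at h2
    linear_combination -h2
  have h4 : g 0 0 = 1 := by
    have := pow_eq_zero_iff (two_ne_zero) |>.mp h3
    linear_combination this
  exact ⟨h4, h1, by rw [h4] at ht; linear_combination ht⟩

theorem UU_comm {a b : SL2 F} (ha : a ∈ UU F) (hb : b ∈ UU F) : Commute a b := by
  rw [eq_uu_of_mem ha, eq_uu_of_mem hb]
  show _ * _ = _ * _
  rw [uu_mul, uu_mul, add_comm]

theorem stdT_mem_SLK {K : Subfield F} {t : F} (ht : t ∈ K) :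
    mk2 t (-1) 1 0 (by ring) ∈ SLK K :=
  ⟨ht, neg_mem (one_mem K), one_mem K, zero_mem K⟩

/-- a group containing `SL₂(K)`, `|K| ≥ 3`, is not of "small" type; if it is of subfield type for
`K₁` then `K ≤ K₁` -/
theorem out_of_SLK_le [Fintype F] {K : Subfield F} (h3 : 3 ≤ Nat.card K) {M : Subgroup (SL2 F)}
    (hM : SLK K ≤ M) {φ : SL2 F ≃* SL2 F} (hφ : TrP φ) (hout : Out' (M.map φ.toMonoidHom)) :
    ((2 : F) ≠ 0 ∧ Nat.card M = ee F * 12) ∨
    ((2 : F) ≠ 0 ∧ (3 : F) ≠ 0 ∧ Nat.card M = ee F * 24) ∨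
    ((2 : F) ≠ 0 ∧ (5 : F) ≠ 0 ∧ Nat.card M = ee F * 60) ∨
    ∃ K1 : Subfield F, K ≤ K1 ∧ SLK K1 ≤ M.map φ.toMonoidHom ∧ M.map φ.toMonoidHom ≤ PK K1 := by
  have hcard : Nat.card (M.map φ.toMonoidHom) = Nat.card M :=
    Subgroup.card_map_of_injective φ.injective
  have hmem : ∀ z ∈ SLK K, φ z ∈ M.map φ.toMonoidHom := fun z hz => ⟨z, hM hz, rfl⟩
  have huK : ∀ b ∈ K, uu b ∈ SLK K := fun b hb => ⟨one_mem K, hb, zero_mem K, one_mem K⟩
  have hu : ∀ b ∈ K, φ (uu b) ∈ M.map φ.toMonoidHom := fun b hb => hmem _ (huK b hb)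
  have hutr : ∀ b : F, tr (φ (uu b)) ^ 2 = 4 := by
    intro b
    rw [hφ]
    simp only [tr, uu_00, uu_11]; norm_num
  have huZ : ∀ b : F, b ≠ 0 → φ (uu b) ∉ Subgroup.center (SL2 F) := fun b hb h =>
    uu_not_mem_center hb ((mem_center_equiv φ).mp h)
  have hnc : ∀ (x : SL2 F) (b : F), tr x ^ 2 ≠ 4 → b ≠ 0 → ¬ Commute (φ (uu b)) x :=
    fun x b ht hb hc => ht (tr_sq_of_commute_unip (huZ b hb) (hutr b) hc.symm)
  rcases hout with h | ⟨x, -, ht, h⟩ | ⟨x, -, ht, h, -⟩ | ⟨h2, h, -⟩ | ⟨h2, h3', h, -⟩ |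
    ⟨h2, h5, h, -⟩ | h | ⟨K1, s1, s2, -, -⟩
  · exfalso
    have := hu 1 (one_mem K)
    rw [h] at this
    exact huZ 1 one_ne_zero this
  · exfalso
    have := hu 1 (one_mem K)
    rw [h] at this
    exact hnc x 1 ht one_ne_zero (mem_AA.mp this).1
  · exfalso
    -- an element `b ∈ K`, `b ≠ 0, -1`
    obtain ⟨b, hbK, hb0, hb1⟩ : ∃ b ∈ K, b ≠ 0 ∧ 1 + b ≠ 0 := by
      by_contra hcon
      push Not at hcon
      have hsub : (K : Set F) ⊆ {0, -1} := by
        intro b hb
        by_cases hb0 : b = 0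
        · left; exact hb0
        · right
          have := hcon b hb hb0
          rw [Set.mem_singleton_iff]
          linear_combination this
      have h4 : (K : Set F).ncard ≤ 2 :=
        (Set.ncard_le_ncard hsub (Set.toFinite _)).trans
          ((Set.ncard_insert_le _ _).trans (by rw [Set.ncard_singleton]))
      have h5 : (K : Set F).ncard = Nat.card K := rfl
      omega
    have ha := hu 1 (one_mem K)
    have hb := hu b hbK
    rw [h] at ha hb
    rcases exists_commute_of_NN ht ha hb with h6 | h6 | h6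
    · exact hnc x 1 ht one_ne_zero h6
    · exact hnc x b ht hb0 h6
    · rw [← map_mul, uu_mul] at h6
      exact hnc x _ ht hb1 h6
  · left; exact ⟨h2, by rw [← hcard, h]⟩
  · right; left; exact ⟨h2, h3', by rw [← hcard, h]⟩
  · right; right; left; exact ⟨h2, h5, by rw [← hcard, h]⟩
  · exfalso
    have ha := h (hu 1 (one_mem K))
    have hb := h (hmem (ll 1) ⟨one_mem K, zero_mem K, one_mem K, one_mem K⟩)
    have hta : tr (φ (uu (1 : F))) = 2 := by
      rw [hφ]; simp only [tr, uu_00, uu_11]; norm_num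
    have htb : tr (φ (ll (1 : F))) = 2 := by
      rw [hφ]; simp only [tr, ll_00, ll_11]; norm_num
    have hc := UU_comm (mem_UU_of_Bor_of_tr ha hta) (mem_UU_of_Bor_of_tr hb htb)
    apply not_commute_uu_ll (F := F)
    have h7 : φ (uu (1 : F) * ll (1 : F)) = φ (ll (1 : F) * uu (1 : F)) := by
      rw [map_mul, map_mul]; exact hc
    exact φ.injective h7
  · right; right; right
    refine ⟨K1, ?_, s1, s2⟩
    apply le_of_sq_mem
    intro t ht
    have h6 := tr_sq_mem_of_mem_PK (s2 (hmem _ (stdT_mem_SLK ht)))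
    rw [hφ] at h6
    simpa [tr] using h6

theorem odd_card_of_two_ne_zero [Fintype F] (h2 : (2 : F) ≠ 0) : Odd (Fintype.card F) := by
  by_contra h
  rw [Nat.not_odd_iff_even] at h
  apply h2
  have h1 : ((Fintype.card F : ℕ) : F) = 0 := Nat.cast_card_eq_zero F
  obtain ⟨p, hp⟩ := CharP.exists F
  have hpp : Fact p.Prime := ⟨CharP.char_is_prime F p⟩
  obtain ⟨n, hn1, hn⟩ := FiniteField.card F p
  rw [hn] at h
  have h3 : Even p := by
    by_contra h4
    rw [Nat.not_even_iff_odd] at h4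
    exact (Nat.not_even_iff_odd.2 h4.pow) h
  have h4 : p = 2 := (Nat.Prime.even_iff hpp.out).mp h3
  subst h4
  exact_mod_cast CharP.cast_eq_zero F 2

theorem cast_card_subfield [Finite F] (K : Subfield F) : ((Nat.card K : ℕ) : F) = 0 := by
  have := Fintype.ofFinite K
  have h1 : ((Fintype.card K : ℕ) : K) = 0 := Nat.cast_card_eq_zero K
  rw [Nat.card_eq_fintype_card]
  have h2 := congrArg K.subtype h1
  rw [map_natCast, map_zero] at h2
  exact h2

theorem num_cube_mono {a b : ℕ} (h : a ≤ b) : a * (a ^ 2 - 1) ≤ b * (b ^ 2 - 1) := by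
  apply Nat.mul_le_mul h
  apply Nat.sub_le_sub_right
  exact Nat.pow_le_pow_left h 2

theorem not_five_dvd {r : ℕ} (hr : Odd r) : ¬ 5 ∣ 3 ^ r * ((3 ^ r) ^ 2 - 1) := by
  intro h
  obtain ⟨k, rfl⟩ := hr
  rcases (Nat.Prime.dvd_mul Nat.prime_five).mp h with h | h
  · have := Nat.Prime.dvd_of_dvd_pow Nat.prime_five h
    omega
  · have e : (3 ^ (2 * k + 1)) ^ 2 = 9 * 81 ^ k := by
      rw [← pow_mul]
      have : (2 * k + 1) * 2 = 4 * k + 2 := by ring
      rw [this, pow_add, pow_mul]; norm_num; ring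
    rw [e] at h
    have h1 : 81 ^ k % 5 = 1 := by
      rw [Nat.pow_mod]; norm_num
    have h2 : 1 ≤ 81 ^ k := Nat.one_le_pow _ _ (by norm_num)
    omega

/-- **Maximality of the subfield subgroups of prime degree.** -/
theorem PK_max [Fintype F] {K : Subfield F} (h3 : 3 ≤ Nat.card K) {r : ℕ} (hr : r.Prime)
    (hq : Nat.card K ^ r = Fintype.card F) {M : Subgroup (SL2 F)} (hM : PK K ≤ M)
    (hMtop : M ≠ ⊤) : M = PK K := by
  have hZ : Subgroup.center (SL2 F) ≤ M := (center_le_PK K).trans hM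
  obtain ⟨φ, hφ, hout⟩ := dickson_SL2' hZ
  have hS := card_SLK K
  have hSP := Subgroup.card_le_of_le (SLK_le_PK K)
  have hPM := Subgroup.card_le_of_le hM
  have hcast := cast_card_subfield K
  symm
  rcases out_of_SLK_le h3 ((SLK_le_PK K).trans hM) hφ hout with ⟨h2, h⟩ | ⟨h2, h3', h⟩ |
    ⟨h2, h5, h⟩ | ⟨K1, hK1, s1, s2⟩
  · apply Subgroup.eq_of_le_of_card_ge hM
    rw [ee_eq_two (odd_card_of_two_ne_zero h2)] at h
    have := num_cube_mono h3
    norm_num at this
    omega
  · exfalso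
    rw [ee_eq_two (odd_card_of_two_ne_zero h2)] at h
    have h5 : 5 ≤ Nat.card K := by
      by_contra hcon
      have : Nat.card K = 3 ∨ Nat.card K = 4 := by omega
      rcases this with h6 | h6
      · rw [h6] at hcast; exact h3' (by exact_mod_cast hcast)
      · rw [h6] at hcast
        apply h2
        have h7 : (2 : F) * 2 = 0 := by
          have : ((4 : ℕ) : F) = 4 := by norm_num
          rw [this] at hcast
          linear_combination hcast
        exact mul_self_eq_zero.mp h7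
    have := num_cube_mono h5
    norm_num at this
    omega
  · exfalso
    have hodd := odd_card_of_two_ne_zero h2
    rw [ee_eq_two hodd] at h
    have h6 : Nat.card K = 3 := by
      by_contra hcon
      have h7 : 6 ≤ Nat.card K := by
        by_contra hcon2
        have : Nat.card K = 4 ∨ Nat.card K = 5 := by omega
        rcases this with h6 | h6
        · rw [h6] at hcast
          apply h2
          have h7 : (2 : F) * 2 = 0 := by
            have : ((4 : ℕ) : F) = 4 := by norm_num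
            rw [this] at hcast
            linear_combination hcast
          exact mul_self_eq_zero.mp h7
        · rw [h6] at hcast; exact h5 (by exact_mod_cast hcast)
      have := num_cube_mono h7
      norm_num at this
      omega
    rcases hr.eq_two_or_odd' with rfl | hrodd
    · have h7 := card_PK_of_even_deg hodd (by norm_num) hq
      have h8 := Subgroup.card_dvd_of_le hM
      rw [h7, h6, h] at h8
      norm_num at h8
    · have h8 := Subgroup.card_subgroup_dvd_card M
      rw [h, Cfsg.Agent.Lib.Helper7SL.card_SL_two, ← hq, h6] at h8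
      exact not_five_dvd hrodd (Dvd.dvd.trans (by norm_num) h8)
  · rcases eq_or_eq_top_of_prime hK1 hr hq with rfl | rfl
    · apply Subgroup.eq_of_le_of_card_ge hM
      have hc : Nat.card (M.map φ.toMonoidHom) = Nat.card M :=
        Subgroup.card_map_of_injective φ.injective
      rw [← hc]
      exact Subgroup.card_le_of_le s2
    · exfalso
      apply hMtop
      rw [SLK_top, top_le_iff] at s1
      have hinj : Function.Injective φ.toMonoidHom := φ.injective
      apply Subgroup.map_injective hinj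
      rw [s1, ← MonoidHom.range_eq_map]
      exact (MonoidHom.range_eq_top.mpr φ.surjective).symm

theorem uu_mem_PK_iff {K : Subfield F} {t : F} : uu t ∈ PK K ↔ t ∈ K := by
  constructor
  · rintro ⟨l, hl, h0, h1, -, -⟩
    rw [uu_00, mul_one] at h0
    rw [uu_01] at h1
    have : t = l⁻¹ * (l * t) := by field_simp
    rw [this]
    exact mul_mem (inv_mem h0) h1
  · intro h
    exact SLK_le_PK K ⟨one_mem K, h, zero_mem K, one_mem K⟩

theorem PK_ne_top {K : Subfield F} (hK : K ≠ ⊤) : PK K ≠ ⊤ := by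
  intro h
  apply hK
  rw [eq_top_iff]
  intro t _
  apply uu_mem_PK_iff.mp
  rw [h]; trivial

theorem subfield_ne_top_of_card [Fintype F] {K : Subfield F} {r : ℕ} (hr : 2 ≤ r)
    (hq : Nat.card K ^ r = Fintype.card F) : K ≠ ⊤ := by
  rintro rfl
  have h1 : Nat.card (⊤ : Subfield F) = Fintype.card F := by
    rw [← Nat.card_eq_fintype_card]
    exact Nat.card_congr (Subfield.topEquiv (K := F)).toEquiv
  rw [h1] at hq
  have h2 : 2 ≤ Fintype.card F := Fintype.one_lt_card
  have h3 : Fintype.card F ^ r = Fintype.card F ^ 1 := by rw [hq, pow_one]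
  have := Nat.pow_right_injective h2 h3
  omega

theorem pre_eq_top_iff {H : Subgroup (PSL2 F)} : pre H = ⊤ ↔ H = ⊤ := by
  constructor
  · intro h
    rw [← map_pre H, h, ← MonoidHom.range_eq_map]
    exact MonoidHom.range_eq_top.mpr (QuotientGroup.mk'_surjective _)
  · rintro rfl
    rfl

theorem pre_injective {H1 H2 : Subgroup (PSL2 F)} (h : pre H1 = pre H2) : H1 = H2 := by
  rw [← map_pre H1, h, map_pre]

theorem isCoatom_PKbar [Fintype F] {K : Subfield F} (h3 : 3 ≤ Nat.card K) {r : ℕ} (hr : r.Prime)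
    (hq : Nat.card K ^ r = Fintype.card F) : IsCoatom (PKbar K) := by
  constructor
  · intro h
    apply PK_ne_top (subfield_ne_top_of_card hr.two_le hq)
    rw [← pre_PKbar, h]; rfl
  · intro M hM
    by_contra hMtop
    have h1 : PK K ≤ pre M := by
      rw [← pre_PKbar]; exact pre_mono.mpr hM.le
    have h2 := PK_max h3 hr hq h1 (fun h => hMtop (pre_eq_top_iff.mp h))
    rw [← pre_PKbar] at h2
    exact hM.ne (pre_injective h2).symm

theorem PKbar_equiv_PSL {K : Subfield F} (h : PK K = SLK K) {K' : Type*} [Field K']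
    (ε : K' ≃+* K) : Nonempty (PKbar K ≃* PSL2 K') := by
  let ι : K' →+* F := K.subtype.comp ε.toRingHom
  have hι2 : ∀ y, ι y ∈ K := fun y => (ε y).2
  have hj := ProjectiveSpecialLinearGroup.toPGL_injective (n := Fin 2) (R := F)
  have hφ : Function.Injective ((ProjGenLinGroup.map (n := Fin 2) ι).comp
      (ProjectiveSpecialLinearGroup.toPGL (n := Fin 2) (R := K'))) :=
    (Cfsg.Agent.S0805.pgl_map_injective ι).comp ProjectiveSpecialLinearGroup.toPGL_injective
  apply equiv_of_map_eq_range _ hj _ hφ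
  apply le_antisymm
  · rintro _ ⟨x, ⟨g, hg, rfl⟩, rfl⟩
    replace hg : g ∈ SLK K := by rw [← h]; exact hg
    obtain ⟨h0, h1, h2, h3⟩ := hg
    have hdet : ε.symm ⟨_, h0⟩ * ε.symm ⟨_, h3⟩ - ε.symm ⟨_, h1⟩ * ε.symm ⟨_, h2⟩ = 1 := by
      apply ε.injective
      simp only [map_sub, map_mul, RingEquiv.apply_symm_apply, map_one]
      exact Subtype.ext (det2 g)
    refine ⟨proj K' (mk2 _ _ _ _ hdet), ?_⟩
    change ProjGenLinGroup.map ι (ProjGenLinGroup.mk (SpecialLinearGroup.toGL _)) =
      ProjGenLinGroup.mk (SpecialLinearGroup.toGL g)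
    rw [ProjGenLinGroup.map_mk]
    congr 1
    apply Units.ext
    ext i j
    fin_cases i <;> fin_cases j
    · change ((ε (ε.symm ⟨_, h0⟩) : K) : F) = _; rw [RingEquiv.apply_symm_apply]; rfl
    · change ((ε (ε.symm ⟨_, h1⟩) : K) : F) = _; rw [RingEquiv.apply_symm_apply]; rfl
    · change ((ε (ε.symm ⟨_, h2⟩) : K) : F) = _; rw [RingEquiv.apply_symm_apply]; rfl
    · change ((ε (ε.symm ⟨_, h3⟩) : K) : F) = _; rw [RingEquiv.apply_symm_apply]; rfl
  · rintro _ ⟨y, rfl⟩
    exact map_toPGL_mem ι hι2 (by rw [pre_PKbar]; exact SLK_le_PK K) y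

theorem PKbar_equiv_PGL [Fintype F] {K : Subfield F} (he : ee F = 2)
    (h : Nat.card (PK K) = 2 * (Nat.card K * (Nat.card K ^ 2 - 1))) {K' : Type*} [Field K']
    [Fintype K'] (ε : K' ≃+* K) : Nonempty (PKbar K ≃* PGL2 K') := by
  have : Finite (PGL2 F) := Finite.of_surjective _ ProjGenLinGroup.mk_surjective
  let ι : K' →+* F := K.subtype.comp ε.toRingHom
  have hι1 : ∀ x ∈ K, ∃ y, ι y = x := fun x hx => ⟨ε.symm ⟨x, hx⟩, by simp [ι]⟩
  have hcard : Nat.card K = Fintype.card K' := by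
    rw [← Nat.card_eq_fintype_card]; exact (Nat.card_congr ε.toEquiv).symm
  have hj := ProjectiveSpecialLinearGroup.toPGL_injective (n := Fin 2) (R := F)
  have hcm : Nat.card ((PKbar K).map ProjectiveSpecialLinearGroup.toPGL) = Nat.card (PKbar K) :=
    Subgroup.card_map_of_injective hj
  have h4 : Nat.card (PKbar K) = Fintype.card K' * (Fintype.card K' ^ 2 - 1) := by
    have := card_PK K
    rw [he, h, hcard] at this
    omega
  apply equiv_of_map_eq_range _ hj (ProjGenLinGroup.map (n := Fin 2) ι)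
    (Cfsg.Agent.S0805.pgl_map_injective ι)
  apply Subgroup.eq_of_le_of_card_ge
  · rintro _ ⟨x, ⟨g, hg, rfl⟩, rfl⟩
    exact toPGL_mem_range_of_mem_PK ι hι1 hg
  · rw [hcm, h4, ← Cfsg.Agent.S0805.card_PGL_two]
    exact le_of_eq (Nat.card_congr
      (MonoidHom.ofInjective (Cfsg.Agent.S0805.pgl_map_injective ι)).toEquiv).symm

end Cfsg.Agent.Lib.Helper41Dk
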