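import Mathlib
import Cfsg.Agent.Lib.Helper41Dk17

/-!
# Dickson, part 18: analysis of the maximal subgroups
-/

set_option autoImplicit false

namespace Cfsg.Agent.Lib.Helper41Dk

open Matrix Cfsg.Agent.Lib.Helper46SL2 Cfsg.Agent.Lib.Helper41SL2

variable {F : Type*} [Field F]

local notation "SL2" => Matrix.SpecialLinearGroup (Fin 2)
local notation "PSL2" => Matrix.ProjectiveSpecialLinearGroup (Fin 2)
local notation "PGL2" => Matrix.ProjGenLinGroup (Fin 2)

theorem isCoatom_map_equiv {𝔾 : Type*} [Group 𝔾] (ψ : 𝔾 ≃* 𝔾) {M : Subgroup 𝔾} (hM : IsCoatom M) :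
    IsCoatom (M.map ψ.toMonoidHom) :=
  (OrderIso.isCoatom_iff (MulEquiv.mapSubgroup ψ) M).mpr hM

theorem isCoatom_pre {M : Subgroup (PSL2 F)} (hM : IsCoatom M) : IsCoatom (pre M) := by
  constructor
  · intro h
    exact hM.1 (pre_eq_top_iff.mp h)
  · intro X hX
    have hZ : Subgroup.center (SL2 F) ≤ X := (center_le_pre M).trans hX.le
    have h1 : pre (X.map (proj F)) = X := pre_map_proj hZ
    have h2 : M < X.map (proj F) := by
      constructor
      · rw [← pre_mono, h1]; exact hX.le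
      · intro h
        apply hX.not_ge
        rw [← pre_mono, h1] at h
        exact h
    rw [← h1, hM.2 _ h2]; rfl

/-- the Borel subgroup is `Fˣ × F` as a set -/
def borEquiv (F : Type*) [Field F] : Bor F ≃ Fˣ × F where
  toFun g := (Units.mk0 (g.1 0 0) (by
    intro h0
    have h1 : g.1 1 0 = 0 := g.2
    have := det2 g.1
    rw [h0, h1] at this
    simp at this), g.1 0 1)
  invFun ab := ⟨mk2 ab.1 ab.2 0 (ab.1 : F)⁻¹ (by simp), rfl⟩
  left_inv g := by
    apply Subtype.ext
    have h1 : g.1 1 0 = 0 := g.2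
    have h2 := det2 g.1
    rw [h1, mul_zero, sub_zero] at h2
    apply ext2
    · rfl
    · rfl
    · exact h1.symm
    · simp only [mk2_11, Units.val_mk0]
      exact (eq_inv_of_mul_eq_one_right h2).symm
  right_inv ab := by
    apply Prod.ext
    · apply Units.ext; rfl
    · rfl

theorem card_Bor [Fintype F] : Nat.card (Bor F) = Fintype.card F * (Fintype.card F - 1) := by
  rw [Nat.card_congr (borEquiv F), Nat.card_prod, Nat.card_units, Nat.card_eq_fintype_card, mul_comm]

theorem Bor_ne_top : Bor F ≠ ⊤ := by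
  intro h
  have : ll (1 : F) ∈ Bor F := by rw [h]; trivial
  exact one_ne_zero (α := F) this

theorem exists_intermediate [Fintype F] {K : Subfield F} {a b : ℕ} (ha : 2 ≤ a) (hb : 2 ≤ b)
    (hq : Nat.card K ^ (a * b) = Fintype.card F) : ∃ K1 : Subfield F, K ≤ K1 ∧ K1 ≠ K ∧ K1 ≠ ⊤ := by
  have := Fintype.ofFinite K
  obtain ⟨p, hp⟩ := CharP.exists K
  obtain ⟨n0, hpp, hn0⟩ := FiniteField.card K p
  have : Fact p.Prime := ⟨hpp⟩
  let E := GaloisField p (n0 * a)
  have : Fintype E := Fintype.ofFinite E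
  have hK2 : 2 ≤ Nat.card K := by
    rw [Nat.card_eq_fintype_card]; exact Fintype.one_lt_card
  have hE : Fintype.card E = Nat.card K ^ a := by
    rw [← Nat.card_eq_fintype_card, GaloisField.card p _ (by
      have := n0.pos
      positivity), Nat.card_eq_fintype_card, hn0, pow_mul]
  obtain ⟨ι⟩ := Cfsg.Agent.Lib.Helper18Field.exists_ringHom (K := E) (F := F) b
    (by rw [hE, ← pow_mul, hq])
  have hc : Nat.card ι.fieldRange = Nat.card K ^ a := by
    rw [← hE, ← Nat.card_eq_fintype_card]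
    exact (Nat.card_congr ι.rangeRestrictFieldEquiv.toEquiv).symm
  refine ⟨ι.fieldRange, ?_, ?_, ?_⟩
  · intro x hx
    let _ : Algebra E F := ι.toAlgebra
    have h1 : (⟨x, hx⟩ : K) ^ (Fintype.card K ^ a) = ⟨x, hx⟩ := FiniteField.pow_card_pow a _
    have h2 : x ^ Fintype.card E = x := by
      rw [hE, Nat.card_eq_fintype_card]
      exact congrArg Subtype.val h1
    obtain ⟨y, hy⟩ := mem_range_of_pow_card_eq (F := E) x h2
    exact ⟨y, hy⟩
  · intro h
    rw [h] at hc
    have h3 : Nat.card K ^ 1 = Nat.card K ^ a := by rw [pow_one]; exact hc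
    have := Nat.pow_right_injective hK2 h3
    omega
  · intro h
    rw [h] at hc
    have h1 : Nat.card (⊤ : Subfield F) = Fintype.card F := by
      rw [← Nat.card_eq_fintype_card]
      exact Nat.card_congr (Subfield.topEquiv (K := F)).toEquiv
    rw [h1, ← hq] at hc
    have := Nat.pow_right_injective hK2 hc
    have h5 : a * 2 ≤ a * b := Nat.mul_le_mul_left a hb
    omega

theorem PK_mono {K K1 : Subfield F} (h : K ≤ K1) : PK K ≤ PK K1 := by
  rintro g ⟨l, hl, h0, h1, h2, h3⟩
  exact ⟨l, hl, h h0, h h1, h h2, h h3⟩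

theorem PK_injective {K K1 : Subfield F} (h : PK K = PK K1) : K = K1 := by
  ext t
  rw [← uu_mem_PK_iff, ← uu_mem_PK_iff, h]

/-- if `PK K` is maximal then the degree is a prime -/
theorem prime_finrank_of_coatom [Fintype F] {K : Subfield F} (h : IsCoatom (PK K)) :
    (Module.finrank K F).Prime := by
  have hq := card_pow_finrank K
  set r := Module.finrank K F with hr
  by_contra hnp
  have hK2 : 2 ≤ Nat.card K := by
    have := Fintype.ofFinite K
    rw [Nat.card_eq_fintype_card]; exact Fintype.one_lt_card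
  have hr0 : r ≠ 0 := Module.finrank_pos.ne'
  have hr1 : r ≠ 1 := by
    intro h1
    rw [h1, pow_one] at hq
    apply h.1
    have : K = ⊤ := by
      apply SetLike.coe_injective
      apply Set.eq_of_subset_of_ncard_le (Set.subset_univ _) _ (Set.toFinite _)
      rw [Set.ncard_univ, Nat.card_eq_fintype_card]
      change _ ≤ Nat.card K
      rw [hq]
    rw [this, eq_top_iff, ← SLK_top]
    exact SLK_le_PK _
  obtain ⟨a, ha1, ha2, ha3⟩ := Nat.exists_dvd_of_not_prime2 (by omega) hnp
  obtain ⟨b, hb⟩ := ha1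
  have hb2 : 2 ≤ b := by
    rcases Nat.lt_or_ge b 2 with h5 | h5
    · interval_cases b
      · omega
      · omega
    · exact h5
  rw [hb] at hq
  obtain ⟨K1, h1, h2, h3⟩ := exists_intermediate ha2 hb2 hq
  have h4 : PK K < PK K1 := lt_of_le_of_ne (PK_mono h1) (fun h5 => h2 (PK_injective h5).symm)
  exact PK_ne_top h3 (h.2 _ h4)

theorem normalizer_cent_ne_top [Fintype F] (h4 : 4 ≤ Fintype.card F) {x : SL2 F}
    (ht : tr x ^ 2 ≠ 4) :
    Subgroup.normalizer ((Subgroup.centralizer {x} : Subgroup (SL2 F)) : Set (SL2 F)) ≠ ⊤ := by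
  intro h
  have h1 := card_normalizer_centralizer ht
  rw [h, Subgroup.card_top, Cfsg.Agent.Lib.Helper7SL.card_SL_two] at h1
  have h2 : Nat.card (Subgroup.centralizer {x} : Subgroup (SL2 F)) ≤ Fintype.card F + 1 := by
    rcases card_cent_cases ht with h | h <;> omega
  generalize Fintype.card F = q at *
  have h3 : q ^ 2 - 1 ≥ 4 * q - 1 := by
    apply Nat.sub_le_sub_right
    nlinarith
  have h5 : q * (4 * q - 1) ≤ q * (q ^ 2 - 1) := Nat.mul_le_mul_left _ h3
  have h6 : 4 * (4 * q - 1) ≤ q * (4 * q - 1) := Nat.mul_le_mul_right _ h4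
  omega

/-- the possibilities for a maximal subgroup of `SL₂(q)` in "normal form" -/
theorem coatom_cases [Fintype F] (h4 : 4 ≤ Fintype.card F) {G : Subgroup (SL2 F)}
    (hG : IsCoatom G) (hout : Out' G) :
    G = Bor F ∨
    (∃ x ∈ G, tr x ^ 2 ≠ 4 ∧ G = NN G x ∧ (∃ y ∈ G, y * x * y⁻¹ = x⁻¹) ∧
      Nat.card G = 2 * Nat.card (Subgroup.centralizer {x} : Subgroup (SL2 F))) ∨
    ((2 : F) ≠ 0 ∧ Nat.card G = ee F * 12 ∧ NoCentral G) ∨
    ((2 : F) ≠ 0 ∧ (3 : F) ≠ 0 ∧ Nat.card G = ee F * 24 ∧ NoCentral G ∧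
      ∃ x ∈ G, x ∉ Subgroup.center (SL2 F) ∧
      Nat.card (AA G x) = ee F * 3 ∧ Nat.card (NN G x) = ee F * 6) ∨
    ((2 : F) ≠ 0 ∧ (5 : F) ≠ 0 ∧ O60 G) ∨
    (∃ K : Subfield F, 3 ≤ Nat.card K ∧ (Module.finrank K F).Prime ∧ G = PK K) := by
  have key : ∀ X : Subgroup (SL2 F), G ≤ X → X ≠ ⊤ → G = X := by
    intro X h1 h2
    rcases hG.le_iff.mp h1 with h | h
    · exact absurd h h2
    · exact h.symm
  rcases hout with h | ⟨x, -, ht, h⟩ | ⟨x, hx, ht, h, hy⟩ | h | h | h | h | ⟨K, s1, s2, s3, -⟩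
  · left
    apply key _ _ Bor_ne_top
    rw [h]
    intro g hg
    exact ((mem_center_iff).mp hg).2.1
  · exfalso
    have h1 : G ≤ Subgroup.centralizer {x} := by rw [h]; exact inf_le_left
    have h2 := key _ (h1.trans (centralizer_le_normalizer x)) (normalizer_cent_ne_top h4 ht)
    have h3 := card_normalizer_centralizer ht
    rw [← h2] at h3
    have h5 := Subgroup.card_le_of_le h1
    have h6 : 0 < Nat.card G := Nat.card_pos
    omega
  · right; left
    refine ⟨x, hx, ht, h, hy, ?_⟩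
    have h1 : G ≤ Subgroup.normalizer ((Subgroup.centralizer {x} : Subgroup (SL2 F)) : Set (SL2 F)) := by
      rw [h]; exact inf_le_left
    have h2 := key _ h1 (normalizer_cent_ne_top h4 ht)
    have h3 := card_normalizer_centralizer ht
    rw [← h2] at h3
    exact h3
  · right; right; left; exact h
  · right; right; right; left; exact h
  · right; right; right; right; left; exact h
  · left; exact key _ h Bor_ne_top
  · right; right; right; right; right
    have hK : K ≠ ⊤ := by
      rintro rfl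
      rw [SLK_top, top_le_iff] at s1
      exact hG.1 s1
    have h1 := key _ s2 (PK_ne_top hK)
    refine ⟨K, s3, ?_, h1⟩
    apply prime_finrank_of_coatom
    rw [← h1]; exact hG

end Cfsg.Agent.Lib.Helper41Dk
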