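import Mathlib
import Cfsg.Agent.Lib.Helper41Dk18

/-!
# Dickson, part 19: powers and traces, normal form of a pair of unipotent elements
-/

set_option autoImplicit false

namespace Cfsg.Agent.Lib.Helper41Dk

open Matrix Cfsg.Agent.Lib.Helper46SL2 Cfsg.Agent.Lib.Helper41SL2

variable {F : Type*} [Field F]

local notation "SL2" => Matrix.SpecialLinearGroup (Fin 2)
local notation "PSL2" => Matrix.ProjectiveSpecialLinearGroup (Fin 2)

/-- `g ^ n = cheb t n • g - cheb t (n - 1) • 1` -/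
def cheb (t : F) : ℕ → F
  | 0 => 0
  | 1 => 1
  | (n + 2) => t * cheb t (n + 1) - cheb t n

theorem cheb_two (t : F) : cheb t 2 = t := by simp [cheb]
theorem cheb_three (t : F) : cheb t 3 = t ^ 2 - 1 := by simp [cheb]; ring
theorem cheb_four (t : F) : cheb t 4 = t ^ 3 - 2 * t := by simp [cheb]; ring
theorem cheb_five (t : F) : cheb t 5 = t ^ 4 - 3 * t ^ 2 + 1 := by simp [cheb]; ring

theorem pow_entries (g : SL2 F) (n : ℕ) :
    (g ^ (n + 1)) 0 0 = cheb (tr g) (n + 1) * g 0 0 - cheb (tr g) n ∧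
    (g ^ (n + 1)) 0 1 = cheb (tr g) (n + 1) * g 0 1 ∧
    (g ^ (n + 1)) 1 0 = cheb (tr g) (n + 1) * g 1 0 ∧
    (g ^ (n + 1)) 1 1 = cheb (tr g) (n + 1) * g 1 1 - cheb (tr g) n := by
  induction n with
  | zero => simp [cheb]
  | succ n ih =>
    obtain ⟨h0, h1, h2, h3⟩ := ih
    have hd := det2 g
    rw [pow_succ]
    refine ⟨?_, ?_, ?_, ?_⟩
    · rw [mul_00, h0, h1]
      simp only [cheb, tr]
      linear_combination (-cheb (g 0 0 + g 1 1) (n + 1)) * hd
    · rw [mul_01, h0, h1]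
      simp only [cheb, tr]
      ring
    · rw [mul_10, h2, h3]
      simp only [cheb, tr]
      ring
    · rw [mul_11, h2, h3]
      simp only [cheb, tr]
      linear_combination (-cheb (g 0 0 + g 1 1) (n + 1)) * hd

theorem cheb_eq_zero_of_pow_mem_center {g : SL2 F} (hg : g ∉ Subgroup.center (SL2 F)) {n : ℕ}
    (h : g ^ (n + 1) ∈ Subgroup.center (SL2 F)) : cheb (tr g) (n + 1) = 0 := by
  by_contra hc
  apply hg
  obtain ⟨h0, h1, h2, h3⟩ := pow_entries g n
  obtain ⟨c1, c2, c3⟩ := mem_center_iff.mp h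
  rw [mem_center_iff]
  refine ⟨?_, ?_, ?_⟩
  · rw [h1] at c1; exact (mul_eq_zero.mp c1).resolve_left hc
  · rw [h2] at c2; exact (mul_eq_zero.mp c2).resolve_left hc
  · rw [h0, h3] at c3
    apply mul_left_cancel₀ hc
    linear_combination c3

/-- normal form of a pair of non-commuting elements of trace `2` -/
theorem exists_normal_form_unip {g1 g2 : SL2 F} (h1 : tr g1 = 2) (h2 : tr g2 = 2)
    (hnc : ¬ Commute g1 g2) :
    ∃ (φ : SL2 F ≃* SL2 F) (μ : F), TrP φ ∧ μ ≠ 0 ∧ φ g1 = ll 1 ∧ φ g2 = uu μ := by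
  have hg2 : g2 ∉ Subgroup.center (SL2 F) := fun h =>
    hnc ((Subgroup.mem_center_iff.mp h g1))
  obtain ⟨b, hb, hc⟩ := exists_isConj_uu hg2 h2
  obtain ⟨c, hc⟩ := isConj_iff.mp hc
  set g1' := c * g1 * c⁻¹ with hg1'
  have htr : tr g1' = 2 := by rw [hg1', tr_conj, h1]
  have hγ : g1' 1 0 ≠ 0 := by
    intro h0
    apply hnc
    have hU := mem_UU_of_Bor_of_tr (g := g1') h0 htr
    have hcm := UU_comm hU (uu_mem b)
    rw [← hc, hg1'] at hcm
    exact (Commute.conj_iff c).mp hcm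
  set t := (1 - g1' 0 0) / g1' 1 0 with ht
  set γ := g1' 1 0 with hγdef
  let φ : SL2 F ≃* SL2 F := ((MulAut.conj c).trans (MulAut.conj (uu t))).trans (scl γ hγ)
  refine ⟨φ, γ * b, ((TrP.conj c).trans (TrP.conj _)).trans (TrP.scl _ _), mul_ne_zero hγ hb, ?_, ?_⟩
  · change scl γ hγ (uu t * (c * g1 * c⁻¹) * (uu t)⁻¹) = ll 1
    rw [← hg1']
    have hd := det2 g1'
    have htr' : g1' 0 0 + g1' 1 1 = 2 := htr
    apply ext2
    · simp only [scl, MulEquiv.coe_mk, Equiv.coe_fn_mk, mk2_00, mul_00, mul_01, inv_00, inv_10, uu_00,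
        uu_01, uu_10, uu_11, ll_00]
      rw [ht]; field_simp; ring
    · simp only [scl, MulEquiv.coe_mk, Equiv.coe_fn_mk, mk2_01, mul_00, mul_01, inv_01, inv_11, uu_00,
        uu_01, uu_10, uu_11, ll_01]
      rw [ht]
      have h11 : g1' 1 1 = 2 - g1' 0 0 := by linear_combination htr'
      rw [h11] at hd ⊢
      field_simp
      linear_combination (-γ) * hd
    · simp only [scl, MulEquiv.coe_mk, Equiv.coe_fn_mk, mk2_10, mul_10, mul_11, inv_00, inv_10, uu_00,
        uu_01, uu_10, uu_11, ll_10]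
      field_simp
      ring
    · simp only [scl, MulEquiv.coe_mk, Equiv.coe_fn_mk, mk2_11, mul_10, mul_11, inv_01, inv_11, uu_00,
        uu_01, uu_10, uu_11, ll_11]
      rw [ht]
      have h11 : g1' 1 1 = 2 - g1' 0 0 := by linear_combination htr'
      rw [h11]
      field_simp
      ring
  · change scl γ hγ (uu t * (c * g2 * c⁻¹) * (uu t)⁻¹) = uu (γ * b)
    rw [hc, ← uu_neg, uu_mul, uu_mul, scl_uu]
    congr 1; ring

theorem cheb_of_card_AA (h2 : (2 : F) ≠ 0) {G : Subgroup (SL2 F)} {x w : SL2 F} {n : ℕ}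
    (hw : w ∈ AA G x) (hwZ : w ∉ Subgroup.center (SL2 F))
    (hcard : Nat.card (AA G x) = 2 * (n + 1)) : cheb (tr w) (n + 1) = 0 := by
  apply cheb_eq_zero_of_pow_mem_center hwZ
  have h1 : (⟨w, hw⟩ : AA G x) ^ Nat.card (AA G x) = 1 := pow_card_eq_one'
  have h3 : w ^ (2 * (n + 1)) = 1 := by
    rw [← hcard]; exact congrArg Subtype.val h1
  have h4 : w ^ (n + 1) * w ^ (n + 1) = 1 := by rw [← pow_add, ← two_mul, h3]
  exact mem_center_iff_eq.mpr ((sq_eq_one_iff' h2).mp h4)

theorem tr_conj' (A P : SL2 F) : tr (P⁻¹ * A * P) = tr A := by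
  have := tr_conj A P⁻¹
  rwa [inv_inv] at this

/-- the traces of the elements of the binary icosahedral group -/
theorem O60_traces [Fintype F] (h2 : (2 : F) ≠ 0) {G : Subgroup (SL2 F)} (h : O60 G) {z : SL2 F}
    (hz : z ∈ G) : z ∈ Subgroup.center (SL2 F) ∨ tr z = 0 ∨ tr z ^ 2 = 1 ∨
      tr z ^ 4 - 3 * tr z ^ 2 + 1 = 0 := by
  by_cases hzZ : z ∈ Subgroup.center (SL2 F)
  · exact Or.inl hzZ
  right
  have he : ee F = 2 := ee_eq_two (odd_card_of_two_ne_zero h2)
  obtain ⟨-, x2, x3, x5, ⟨-, -, c2, -⟩, ⟨-, -, c3, -⟩, ⟨-, -, c5, -⟩, hcov⟩ := h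
  rw [he] at c2 c3 c5
  have key : ∀ (x : SL2 F) (n : ℕ), Nat.card (AA G x) = 2 * (n + 1) → Rel G x z →
      cheb (tr z) (n + 1) = 0 := by
    rintro x n hc ⟨g, hg, hcm⟩
    have hw : g⁻¹ * z * g ∈ AA G x := mem_AA.mpr ⟨hcm, mul_mem (mul_mem (inv_mem hg) hz) hg⟩
    have hwZ : g⁻¹ * z * g ∉ Subgroup.center (SL2 F) := by
      have := conj_not_mem_center hzZ g⁻¹
      rwa [inv_inv] at this
    have := cheb_of_card_AA h2 hw hwZ hc
    rwa [tr_conj'] at this
  rcases hcov z hz hzZ with h | h | h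
  · left
    have := key x2 1 c2 h
    rwa [cheb_two] at this
  · right; left
    have := key x3 2 c3 h
    rw [cheb_three] at this
    linear_combination this
  · right; right
    have := key x5 4 c5 h
    rwa [cheb_five] at this

theorem A4_exponent : ∀ g : alternatingGroup (Fin 4), g ^ 2 = 1 ∨ g ^ 3 = 1 := by decide

/-- the traces of the elements of the binary tetrahedral group -/
theorem A4_traces [Finite F] {G : Subgroup (SL2 F)} (hZ : Subgroup.center (SL2 F) ≤ G)
    (h : Nat.card G = ee F * 12) (hnc : NoCentral G) {z : SL2 F} (hz : z ∈ G) :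
    z ∈ Subgroup.center (SL2 F) ∨ tr z = 0 ∨ tr z ^ 2 = 1 := by
  by_cases hzZ : z ∈ Subgroup.center (SL2 F)
  · exact Or.inl hzZ
  right
  have hpre : pre (G.map (proj F)) = G := pre_map_proj hZ
  obtain ⟨e⟩ := A4_outcome (H := G.map (proj F)) (by rw [hpre]; exact h) (by rw [hpre]; exact hnc)
  let zb : G.map (proj F) := ⟨proj F z, z, hz, rfl⟩
  have key : ∀ n : ℕ, e zb ^ n = 1 → z ^ n ∈ Subgroup.center (SL2 F) := by
    intro n hn
    rw [← map_pow] at hn
    have h1 : zb ^ n = 1 := e.injective (by rw [hn, map_one])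
    have h2 : proj F z ^ n = 1 := congrArg Subtype.val h1
    rw [← map_pow] at h2
    exact (QuotientGroup.eq_one_iff _).mp h2
  rcases A4_exponent (e zb) with h1 | h1
  · left
    have := cheb_eq_zero_of_pow_mem_center hzZ (n := 1) (key 2 h1)
    rwa [cheb_two] at this
  · right
    have := cheb_eq_zero_of_pow_mem_center hzZ (n := 2) (key 3 h1)
    rw [cheb_three] at this
    linear_combination this

/-- a field generated by a root of `X ^ (p ^ n) - X` has at most `p ^ n` elements -/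
theorem card_le_of_closure [Fintype F] (p : ℕ) [Fact p.Prime] [CharP F p] (n : ℕ) (hn : 0 < n)
    {lam : F} (hlam : lam ^ p ^ n = lam) (hgen : Subfield.closure ({lam} : Set F) = ⊤) :
    Fintype.card F ≤ p ^ n := by
  have hall : ∀ x : F, x ^ p ^ n = x := by
    intro x
    have hx : x ∈ Subfield.closure ({lam} : Set F) := by rw [hgen]; trivial
    induction hx using Subfield.closure_induction with
    | mem y hy => rw [Set.mem_singleton_iff.mp hy]; exact hlam
    | one => exact one_pow _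
    | add a b _ _ ha hb => rw [add_pow_char_pow, ha, hb]
    | neg a _ ha =>
      have : (-a) ^ p ^ n + a ^ p ^ n = 0 := by rw [← add_pow_char_pow]; simp [(Fact.out : p.Prime).ne_zero]
      rw [ha] at this
      linear_combination this
    | inv a _ ha => rw [inv_pow, ha]
    | mul a b _ _ ha hb => rw [mul_pow, ha, hb]
  obtain ⟨g, hg⟩ := IsCyclic.exists_generator (α := Fˣ)
  have hord : orderOf g = Fintype.card F - 1 := by
    rw [orderOf_eq_card_of_forall_mem_zpowers hg, Nat.card_units, Nat.card_eq_fintype_card]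
  have hpn : 1 ≤ p ^ n := Nat.one_le_pow _ _ (Fact.out : p.Prime).pos
  have h1 : g ^ (p ^ n - 1) = 1 := by
    apply Units.ext
    have h2 := hall (g : F)
    have h3 : (g : F) ^ (p ^ n - 1) * g = 1 * g := by
      rw [← pow_succ, Nat.sub_add_cancel hpn, h2, one_mul]
    rw [Units.val_pow_eq_pow_val, Units.val_one]
    exact mul_right_cancel₀ g.ne_zero h3
  have h4 := orderOf_dvd_of_pow_eq_one h1
  rw [hord] at h4
  have hp2 : 2 ≤ p := (Fact.out : p.Prime).two_le
  have h6 : 2 ^ 1 ≤ p ^ n := (Nat.pow_le_pow_left hp2 1).trans (Nat.pow_le_pow_right (by omega) hn)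
  have := Nat.le_of_dvd (by omega) h4
  omega

end Cfsg.Agent.Lib.Helper41Dk
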