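import Mathlib
import Cfsg.Agent.S2530

set_option autoImplicit false

namespace Cfsg.Agent.Lib.Helper47AltHom

/-- The wreath product `G ≀ C₂` as a bare monoid. -/
@[ext] structure Wr (G : Type*) where
  x : G
  y : G
  b : Bool

namespace Wr
variable {G : Type*} [Group G]

instance : Mul (Wr G) :=
  ⟨fun p q => match p.b with
    | false => ⟨p.x * q.x, p.y * q.y, q.b⟩
    | true => ⟨p.x * q.y, p.y * q.x, !q.b⟩⟩

instance : One (Wr G) := ⟨⟨1, 1, false⟩⟩

theorem mk_false_mul (x y : G) (q : Wr G) : (⟨x, y, false⟩ : Wr G) * q = ⟨x * q.x, y * q.y, q.b⟩ := rfl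
theorem mk_true_mul (x y : G) (q : Wr G) : (⟨x, y, true⟩ : Wr G) * q = ⟨x * q.y, y * q.x, !q.b⟩ := rfl
theorem one_def : (1 : Wr G) = ⟨1, 1, false⟩ := rfl

instance : Monoid (Wr G) where
  mul_assoc := by
    rintro ⟨x1, y1, b1⟩ ⟨x2, y2, b2⟩ ⟨x3, y3, b3⟩
    cases b1 <;> cases b2 <;> simp [mk_false_mul, mk_true_mul, mul_assoc]
  one_mul := by
    rintro ⟨x, y, b⟩
    simp [one_def, mk_false_mul]
  mul_one := by
    rintro ⟨x, y, b⟩
    cases b <;> simp [one_def, mk_false_mul, mk_true_mul]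

theorem mk_false_pow (x y : G) (m : ℕ) : (⟨x, y, false⟩ : Wr G) ^ m = ⟨x ^ m, y ^ m, false⟩ := by
  induction m with
  | zero => simp [one_def]
  | succ m ih => rw [pow_succ, ih, mk_false_mul, pow_succ, pow_succ]

/-- The sign homomorphism. -/
def sgn : Wr G →* ℤˣ where
  toFun p := if p.b then -1 else 1
  map_one' := rfl
  map_mul' := by
    rintro ⟨x1, y1, b1⟩ ⟨x2, y2, b2⟩
    cases b1 <;> cases b2 <;> simp [mk_false_mul, mk_true_mul]

end Wr

variable {G : Type*} [Group G]

theorem exists_altHom (n : ℕ) (a : Fin (n + 1) → G) (h0 : a 0 = 1)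
    (hrel : ∀ i j, ((a i)⁻¹ * a j) ^ (CoxeterMatrix.A (n + 1) i j) = 1) :
    ∃ φ : alternatingGroup (Fin (n + 2)) →* G, ∀ (i : Fin (n + 1))
      (h : Equiv.swap (0 : Fin (n + 2)) 1 * Equiv.swap i.castSucc i.succ ∈ alternatingGroup (Fin (n + 2))),
      φ ⟨Equiv.swap (0 : Fin (n + 2)) 1 * Equiv.swap i.castSucc i.succ, h⟩ = a i := by
  obtain ⟨cs, hcs⟩ := Cfsg.Agent.S2530.result (n + 1)
  let t : Fin (n + 1) → Wr G := fun i => ⟨(a i)⁻¹, a i, true⟩
  have htt : ∀ i j, t i * t j = ⟨(a i)⁻¹ * a j, a i * (a j)⁻¹, false⟩ := by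
    intro i j
    simp [t, Wr.mk_true_mul]
  have hlift : (CoxeterMatrix.A (n + 1)).IsLiftable t := by
    intro i j
    rw [htt, Wr.mk_false_pow, hrel i j]
    have h2 : (a i * (a j)⁻¹) ^ (CoxeterMatrix.A (n + 1) i j) = 1 := by
      have h3 := hrel j i
      rw [(CoxeterMatrix.A (n + 1)).symmetric j i] at h3
      have h4 : a i * (a j)⁻¹ = a j * ((a j)⁻¹ * a i) * (a j)⁻¹ := by group
      rw [h4, conj_pow, h3]
      simp
    rw [h2]
    rfl
  let Φ : Equiv.Perm (Fin (n + 2)) →* Wr G := cs.lift ⟨t, hlift⟩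
  have hΦ : ∀ i, Φ (cs.simple i) = t i := fun i => cs.lift_apply_simple hlift i
  have hsgn : Wr.sgn.comp Φ = Equiv.Perm.sign := by
    apply cs.ext_simple
    intro i
    rw [MonoidHom.comp_apply, hΦ, hcs, Equiv.Perm.sign_swap (by
      intro h
      have := congrArg Fin.val h
      simp at this)]
    rfl
  have hb : ∀ w : Equiv.Perm (Fin (n + 2)), w ∈ alternatingGroup (Fin (n + 2)) → (Φ w).b = false := by
    intro w hw
    have h1 : Wr.sgn (Φ w) = 1 := by
      have := DFunLike.congr_fun hsgn w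
      rw [MonoidHom.comp_apply] at this
      rw [this]
      exact hw
    by_contra hne
    have hbt : (Φ w).b = true := by simpa using hne
    have : Wr.sgn (Φ w) = -1 := by
      simp [Wr.sgn, hbt]
    rw [this] at h1
    exact absurd h1 (by decide)
  refine ⟨{ toFun := fun w => (Φ w.1).x
            map_one' := by
              change (Φ 1).x = 1
              rw [map_one]
              rfl
            map_mul' := by
              intro w1 w2
              change (Φ (w1.1 * w2.1)).x = (Φ w1.1).x * (Φ w2.1).x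
              rw [map_mul]
              have h1 := hb w1.1 w1.2
              generalize Φ w1.1 = P at h1
              obtain ⟨x1, y1, b1⟩ := P
              subst h1
              rfl }, ?_⟩
  intro i h
  change (Φ (Equiv.swap (0 : Fin (n + 2)) 1 * Equiv.swap i.castSucc i.succ)).x = a i
  have e0 : Equiv.swap (0 : Fin (n + 2)) 1 = cs.simple 0 := by
    rw [hcs]
    rfl
  rw [e0, ← hcs, map_mul, hΦ, hΦ, htt, h0]
  simp

/-- Homomorphisms out of the symmetric group from the Coxeter relations. -/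
theorem exists_permHom (n : ℕ) (t : Fin n → G)
    (hrel : ∀ i j, (t i * t j) ^ (CoxeterMatrix.A n i j) = 1) :
    ∃ φ : Equiv.Perm (Fin (n + 1)) →* G, ∀ i : Fin n, φ (Equiv.swap i.castSucc i.succ) = t i := by
  obtain ⟨cs, hcs⟩ := Cfsg.Agent.S2530.result n
  refine ⟨cs.lift ⟨t, hrel⟩, fun i => ?_⟩
  rw [← hcs]
  exact cs.lift_apply_simple hrel i

end Cfsg.Agent.Lib.Helper47AltHom
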