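import Mathlib
import Cfsg.Agent.Lib.Helper47AltHom

set_option autoImplicit false

namespace Cfsg.Agent.Lib.Helper47Poly

open Cfsg.Agent.Lib.Helper47AltHom

section small
variable {G : Type*} [Group G]

theorem coxA4 : ∀ i j : Fin 4, CoxeterMatrix.A 4 i j =
    (![![1, 3, 2, 2], ![3, 1, 3, 2], ![2, 3, 1, 3], ![2, 2, 3, 1]] : Fin 4 → Fin 4 → ℕ) i j := by
  intro i j
  fin_cases i <;> fin_cases j <;> rfl

theorem coxA3 : ∀ i j : Fin 3, CoxeterMatrix.A 3 i j =
    (![![1, 3, 2], ![3, 1, 3], ![2, 3, 1]] : Fin 3 → Fin 3 → ℕ) i j := by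
  intro i j
  fin_cases i <;> fin_cases j <;> rfl

theorem inv_mul_pow_symm (x y : G) (m : ℕ) (h : (x⁻¹ * y) ^ m = 1) : (y⁻¹ * x) ^ m = 1 := by
  have : y⁻¹ * x = (x⁻¹ * y)⁻¹ := by group
  rw [this, inv_pow, h, inv_one]

/-- `A₅` from three elements and six relations. -/
theorem exists_altHom_five (a1 a2 a3 : G) (h1 : a1 ^ 3 = 1) (h2 : a2 ^ 2 = 1) (h3 : a3 ^ 2 = 1)
    (h12 : (a1⁻¹ * a2) ^ 3 = 1) (h13 : (a1⁻¹ * a3) ^ 2 = 1) (h23 : (a2⁻¹ * a3) ^ 3 = 1) :
    ∃ φ : alternatingGroup (Fin 5) →* G, a1 ∈ φ.range ∧ a2 ∈ φ.range ∧ a3 ∈ φ.range := by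
  obtain ⟨φ, hφ⟩ : ∃ φ : alternatingGroup (Fin 5) →* G, ∀ (i : Fin 4)
      (h : Equiv.swap (0 : Fin 5) 1 * Equiv.swap i.castSucc i.succ ∈ alternatingGroup (Fin 5)),
      φ ⟨Equiv.swap (0 : Fin 5) 1 * Equiv.swap i.castSucc i.succ, h⟩ = (![1, a1, a2, a3] : Fin 4 → G) i :=
    exists_altHom 3 ![1, a1, a2, a3] rfl (by
      intro i j
      rw [coxA4]
      have h1' := inv_mul_pow_symm 1 a1 3 (by simpa using h1)
      have h2' := inv_mul_pow_symm 1 a2 2 (by simpa using h2)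
      have h3' := inv_mul_pow_symm 1 a3 2 (by simpa using h3)
      have h12' := inv_mul_pow_symm _ _ _ h12
      have h13' := inv_mul_pow_symm _ _ _ h13
      have h23' := inv_mul_pow_symm _ _ _ h23
      fin_cases i <;> fin_cases j <;> simp <;> assumption)
  have hs : ∀ i : Fin 4, Equiv.swap (0 : Fin 5) 1 * Equiv.swap i.castSucc i.succ ∈ alternatingGroup (Fin 5) := by
    intro i
    rw [Equiv.Perm.mem_alternatingGroup]
    revert i
    decide
  exact ⟨φ, ⟨_, hφ 1 (hs 1)⟩, ⟨_, hφ 2 (hs 2)⟩, ⟨_, hφ 3 (hs 3)⟩⟩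

end small

section sl2
variable {F : Type*} [Field F]

/-- constructor for `SL₂`. -/
def mkSL (a b c d : F) (h : a * d - b * c = 1) : Matrix.SpecialLinearGroup (Fin 2) F :=
  ⟨!![a, b; c, d], by rw [Matrix.det_fin_two_of]; exact h⟩

theorem exists_mkSL (M : Matrix.SpecialLinearGroup (Fin 2) F) :
    ∃ a b c d h, M = mkSL a b c d h := by
  refine ⟨M.1 0 0, M.1 0 1, M.1 1 0, M.1 1 1, ?_, ?_⟩
  · have := M.2
    rw [Matrix.det_fin_two] at this
    exact this
  · apply Subtype.ext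
    exact Matrix.eta_fin_two M.1

theorem mkSL_mul (a b c d a' b' c' d' : F) (h h') :
    mkSL a b c d h * mkSL a' b' c' d' h' =
      mkSL (a * a' + b * c') (a * b' + b * d') (c * a' + d * c') (c * b' + d * d')
        (by linear_combination (a' * d' - b' * c') * h + h') := by
  apply Subtype.ext
  rw [Matrix.SpecialLinearGroup.coe_mul]
  simp [mkSL, Matrix.mul_fin_two]

theorem mkSL_inv (a b c d : F) (h) :
    (mkSL a b c d h)⁻¹ = mkSL d (-b) (-c) a (by linear_combination h) := by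
  apply Subtype.ext
  rw [Matrix.SpecialLinearGroup.coe_inv]
  simp [mkSL, Matrix.adjugate_fin_two_of]

theorem mkSL_ext {a b c d a' b' c' d' : F} {h h'} (h1 : a = a') (h2 : b = b') (h3 : c = c')
    (h4 : d = d') : mkSL a b c d h = mkSL a' b' c' d' h' := by
  subst h1 h2 h3 h4
  rfl

theorem one_eq_mkSL : (1 : Matrix.SpecialLinearGroup (Fin 2) F) = mkSL 1 0 0 1 (by ring) := by
  apply Subtype.ext
  simp [mkSL, Matrix.one_fin_two]

theorem neg_one_eq_mkSL : (-1 : Matrix.SpecialLinearGroup (Fin 2) F) = mkSL (-1) 0 0 (-1) (by ring) := by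
  apply Subtype.ext
  rw [Matrix.SpecialLinearGroup.coe_neg]
  simp [mkSL, Matrix.one_fin_two]

/-- the projection to `PSL₂`. -/
def pr : Matrix.SpecialLinearGroup (Fin 2) F →* Matrix.ProjectiveSpecialLinearGroup (Fin 2) F :=
  QuotientGroup.mk' _

theorem pr_eq_one_iff (a b c d : F) (h) : pr (mkSL a b c d h) = 1 ↔ b = 0 ∧ c = 0 ∧ a = d := by
  change ((mkSL a b c d h : Matrix.SpecialLinearGroup (Fin 2) F) :
    Matrix.ProjectiveSpecialLinearGroup (Fin 2) F) = 1 ↔ _
  rw [QuotientGroup.eq_one_iff, Matrix.SpecialLinearGroup.mem_center_iff]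
  constructor
  · rintro ⟨r, _, hr⟩
    have h00 := congrFun (congrFun hr 0) 0
    have h01 := congrFun (congrFun hr 0) 1
    have h10 := congrFun (congrFun hr 1) 0
    have h11 := congrFun (congrFun hr 1) 1
    simp [mkSL] at h00 h01 h10 h11
    exact ⟨h01.symm, h10.symm, by rw [← h00, ← h11]⟩
  · rintro ⟨rfl, rfl, rfl⟩
    refine ⟨a, by simp only [Fintype.card_fin]; linear_combination h, ?_⟩
    ext i j
    fin_cases i <;> fin_cases j <;> simp [mkSL]

theorem pr_sq (a b c d : F) (h) (ht : a + d = 0) : pr (mkSL a b c d h) ^ 2 = 1 := by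
  rw [← map_pow, pow_two, mkSL_mul, pr_eq_one_iff]
  refine ⟨by linear_combination b * ht, by linear_combination c * ht, by linear_combination (a - d) * ht⟩

theorem pr_cube (a b c d : F) (h) (ht : a + d = 1 ∨ a + d = -1) : pr (mkSL a b c d h) ^ 3 = 1 := by
  rw [← map_pow, pow_succ, pow_two, mkSL_mul, mkSL_mul, pr_eq_one_iff]
  rcases ht with ht | ht
  · refine ⟨?_, ?_, ?_⟩
    · linear_combination (-b) * h + (b * (a + d) + b) * ht
    · linear_combination (-c) * h + (c * (a + d) + c) * ht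
    · linear_combination (d - a) * h + ((a - d) * (a + d) + (a - d)) * ht
  · refine ⟨?_, ?_, ?_⟩
    · linear_combination (-b) * h + (b * (a + d) - b) * ht
    · linear_combination (-c) * h + (c * (a + d) - c) * ht
    · linear_combination (d - a) * h + ((a - d) * (a + d) - (a - d)) * ht

end sl2

end Cfsg.Agent.Lib.Helper47Poly
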