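import Mathlib
import Cfsg.Agent.Lib.Helper41Dk19
import Cfsg.Agent.S0804

/-!
# Dickson's generation theorem for `SL₂(q)`: auxiliary results
-/

set_option autoImplicit false

namespace Cfsg.Agent.Lib.Helper41Gen

open Matrix Cfsg.Agent.Lib.Helper46SL2 Cfsg.Agent.Lib.Helper41SL2 Cfsg.Agent.Lib.Helper41Dk

variable {F : Type*} [Field F]

local notation "SL2" => Matrix.SpecialLinearGroup (Fin 2)
local notation "PSL2" => Matrix.ProjectiveSpecialLinearGroup (Fin 2)

theorem not_commute_uu_ll' {lam : F} (hlam : lam ≠ 0) : ¬ Commute (uu lam) (ll (1 : F)) := by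
  intro h
  have h1 : uu lam * ll (1 : F) = ll (1 : F) * uu lam := h
  have h2 := congrArg (fun g : SL2 F => g 0 0) h1
  simp only [mul_00, uu_00, uu_01, ll_00, ll_10, ll_01, uu_10] at h2
  apply hlam
  linear_combination h2

theorem tr_uu_ll (lam : F) : tr (uu lam * ll (1 : F)) = 2 + lam := by
  simp only [tr, mul_00, mul_11, uu_00, uu_01, uu_10, uu_11, ll_00, ll_01, ll_10, ll_11]; ring

theorem tr_uu_ll_inv (lam : F) : tr (uu lam * (ll (1 : F))⁻¹) = 2 - lam := by
  simp only [tr, mul_00, mul_11, uu_00, uu_01, uu_10, uu_11, inv_00, inv_01, inv_10, inv_11, ll_00,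
    ll_01, ll_10, ll_11]; ring

theorem out_of_two_unip [Fintype F] (h2 : (2 : F) ≠ 0) {M : Subgroup (SL2 F)} {lam : F}
    (hlam : lam ≠ 0) (hu : uu lam ∈ M) (hl : ll (1 : F) ∈ M) {φ : SL2 F ≃* SL2 F} (hφ : TrP φ)
    (hout : Out' (M.map φ.toMonoidHom)) :
    (Nat.card (M.map φ.toMonoidHom) = ee F * 12 ∧ NoCentral (M.map φ.toMonoidHom)) ∨
    ((5 : F) ≠ 0 ∧ O60 (M.map φ.toMonoidHom)) ∨
    ∃ K1 : Subfield F, lam ∈ K1 ∧ SLK K1 ≤ M.map φ.toMonoidHom := by
  have hcard : Nat.card (M.map φ.toMonoidHom) = Nat.card M :=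
    Subgroup.card_map_of_injective φ.injective
  have hmem : ∀ z ∈ M, φ z ∈ M.map φ.toMonoidHom := fun z hz => ⟨z, hz, rfl⟩
  have hutr : ∀ b : F, tr (φ (uu b)) ^ 2 = 4 := by
    intro b
    rw [hφ]
    simp only [tr, uu_00, uu_11]; norm_num
  have huZ : ∀ b : F, b ≠ 0 → φ (uu b) ∉ Subgroup.center (SL2 F) := fun b hb h =>
    uu_not_mem_center hb ((mem_center_equiv φ).mp h)
  have hnc : ∀ (x : SL2 F) (b : F), tr x ^ 2 ≠ 4 → b ≠ 0 → ¬ Commute (φ (uu b)) x :=
    fun x b ht hb hc => ht (tr_sq_of_commute_unip (huZ b hb) (hutr b) hc.symm)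
  rcases hout with h | ⟨x, -, ht, h⟩ | ⟨x, -, ht, h, -⟩ | ⟨-, h, h'⟩ | ⟨-, h3', h, -⟩ |
    ⟨-, h5', h⟩ | h | ⟨K1, s1, s2, -, -⟩
  · exfalso
    have := hmem _ hu
    rw [h] at this
    exact huZ lam hlam this
  · exfalso
    have := hmem _ hu
    rw [h] at this
    exact hnc x lam ht hlam (mem_AA.mp this).1
  · exfalso
    have ha := hmem _ hu
    rw [h] at ha
    rcases exists_commute_of_NN ht ha ha with h6 | h6 | h6
    · exact hnc x lam ht hlam h6
    · exact hnc x lam ht hlam h6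
    · rw [← map_mul, uu_mul] at h6
      refine hnc x _ ht ?_ h6
      intro h7
      apply hlam
      have : (2 : F) * lam = 0 := by linear_combination h7
      exact (mul_eq_zero.mp this).resolve_left h2
  · left; exact ⟨h, h'⟩
  · exfalso
    obtain ⟨p, hp⟩ := CharP.exists F
    have hpp : Fact p.Prime := ⟨CharP.char_is_prime F p⟩
    have ho := orderOf_uu p hlam
    have h4 : p ∣ Nat.card M := by
      rw [← ho]
      have := orderOf_dvd_natCard (⟨uu lam, hu⟩ : M)
      rwa [Subgroup.orderOf_mk] at this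
    rw [← hcard, h, ee_eq_two (odd_card_of_two_ne_zero h2)] at h4
    have h5 : p ∣ 2 ^ 4 * 3 := by norm_num; exact h4
    have h0 : ((p : ℕ) : F) = 0 := CharP.cast_eq_zero F p
    rcases (Nat.Prime.dvd_mul hpp.out).mp h5 with h6 | h6
    · have := (Nat.prime_dvd_prime_iff_eq hpp.out Nat.prime_two).mp (hpp.out.dvd_of_dvd_pow h6)
      rw [this] at h0
      exact h2 (by exact_mod_cast h0)
    · have := (Nat.prime_dvd_prime_iff_eq hpp.out Nat.prime_three).mp h6
      rw [this] at h0
      exact h3' (by exact_mod_cast h0)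
  · right; left; exact ⟨h5', h⟩
  · exfalso
    have ha := h (hmem _ hu)
    have hb := h (hmem _ hl)
    have hta : tr (φ (uu lam)) = 2 := by
      rw [hφ]; simp only [tr, uu_00, uu_11]; norm_num
    have htb : tr (φ (ll (1 : F))) = 2 := by
      rw [hφ]; simp only [tr, ll_00, ll_11]; norm_num
    have hc := UU_comm (mem_UU_of_Bor_of_tr ha hta) (mem_UU_of_Bor_of_tr hb htb)
    apply not_commute_uu_ll' hlam
    have h7 : φ (uu lam * ll (1 : F)) = φ (ll (1 : F) * uu lam) := by
      rw [map_mul, map_mul]; exact hc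
    exact φ.injective h7
  · right; right
    refine ⟨K1, ?_, s1⟩
    have h6 := tr_sq_mem_of_mem_PK (s2 (hmem _ (mul_mem hu hl)))
    have h7 := tr_sq_mem_of_mem_PK (s2 (hmem _ (mul_mem hu (inv_mem hl))))
    rw [hφ, tr_uu_ll] at h6
    rw [hφ, tr_uu_ll_inv] at h7
    have h8 : (8 : F) ∈ K1 := by
      have : ((8 : ℕ) : F) ∈ K1 := natCast_mem K1 8
      exact_mod_cast this
    have h80 : (8 : F) ≠ 0 := by
      have : (8 : F) = 2 ^ 3 := by norm_num
      rw [this]; exact pow_ne_zero 3 h2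
    have e : lam = ((2 + lam) ^ 2 - (2 - lam) ^ 2) * 8⁻¹ := by field_simp; ring
    rw [e]
    exact mul_mem (sub_mem h6 h7) (inv_mem h8)

theorem A5_pair : ∃ a b : alternatingGroup (Fin 5), a ^ 3 = 1 ∧ b ^ 3 = 1 ∧ (a * b) ^ 5 = 1 ∧
    (a * b⁻¹) ^ 5 = 1 ∧ a * b ≠ b * a ∧ a * b ≠ 1 ∧ a * b⁻¹ ≠ 1 := by
  refine ⟨⟨Equiv.swap 0 1 * Equiv.swap 1 2, Equiv.Perm.mem_alternatingGroup.mpr (by decide)⟩,
    ⟨Equiv.swap 2 3 * Equiv.swap 3 4, Equiv.Perm.mem_alternatingGroup.mpr (by decide)⟩,
    by decide, by decide, by decide, by decide, by decide, by decide, by decide⟩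

/-- lifting elements of order `3` -/
theorem exists_lift_cube {S : Subgroup (PSL2 F)} (c : S) (hc : c ^ 3 = 1) :
    ∃ g ∈ pre S, proj F g = c ∧ g ^ 3 = 1 := by
  obtain ⟨g0, hg0⟩ := QuotientGroup.mk'_surjective (Subgroup.center (SL2 F)) (c : PSL2 F)
  have h1 : proj F (g0 ^ 3) = 1 := by
    rw [map_pow]
    change (QuotientGroup.mk' _ g0) ^ 3 = 1
    rw [hg0]
    exact congrArg Subtype.val hc
  have h2 : g0 ^ 3 ∈ Subgroup.center (SL2 F) := (QuotientGroup.eq_one_iff _).mp h1
  rcases mem_center_iff_eq.mp h2 with h3 | h3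
  · refine ⟨g0, ?_, hg0, h3⟩
    change proj F g0 ∈ S
    have : proj F g0 = c := hg0
    rw [this]; exact c.2
  · have hneg : proj F (-g0) = c := by
      have : proj F (-g0) = proj F g0 := mk_neg g0
      rw [this]; exact hg0
    refine ⟨-g0, ?_, hneg, ?_⟩
    · change proj F (-g0) ∈ S
      rw [hneg]; exact c.2
    · rw [Odd.neg_pow (by decide), h3, neg_neg]

theorem exc_subgroup [Fintype F] (hq : Fintype.card F = 9) {lam : F} (hlam : lam ^ 2 = -1) :
    ∃ X : Subgroup (SL2 F), Nat.card X = 120 ∧ ll (1 : F) ∈ X ∧ uu lam ∈ X := by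
  have h3 : (3 : F) = 0 := by
    have h9 : ((Fintype.card F : ℕ) : F) = 0 := Nat.cast_card_eq_zero F
    rw [hq] at h9
    have : (3 : F) * 3 = 0 := by
      have e : ((9 : ℕ) : F) = 3 * 3 := by norm_num
      rw [← e]; exact h9
    exact mul_self_eq_zero.mp this
  have h2 : (2 : F) ≠ 0 := by
    intro h
    exact one_ne_zero (α := F) (by linear_combination h3 - h)
  have : Fact (Nat.Prime 3) := ⟨Nat.prime_three⟩
  have : CharP F 3 := (CharP.charP_iff_prime_eq_zero Nat.prime_three).mpr (by exact_mod_cast h3)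
  obtain ⟨S, ⟨e⟩⟩ := (Cfsg.Agent.S0804.result (F := F) rfl).mpr (by rw [hq]; norm_num)
  obtain ⟨a, b, ha, hb, hab, hab', hnc, hne, hne'⟩ := A5_pair
  obtain ⟨g1, hg1, hp1, hc1⟩ := exists_lift_cube (e.symm a) (by rw [← map_pow, ha, map_one])
  obtain ⟨g2, hg2, hp2, hc2⟩ := exists_lift_cube (e.symm b) (by rw [← map_pow, hb, map_one])
  have ht1 : tr g1 = 2 := tr_eq_two_of_pow_char 3 1 (by rw [pow_one]; exact hc1)
  have ht2 : tr g2 = 2 := tr_eq_two_of_pow_char 3 1 (by rw [pow_one]; exact hc2)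
  have hcomm : ¬ Commute g1 g2 := by
    intro h
    apply hnc
    have h5 : proj F (g1 * g2) = proj F (g2 * g1) := by rw [h.eq]
    rw [map_mul, map_mul, hp1, hp2] at h5
    have h6 : e.symm a * e.symm b = e.symm b * e.symm a := Subtype.ext h5
    rw [← map_mul, ← map_mul] at h6
    exact e.symm.injective h6
  obtain ⟨φ, μ, hφ, hμ, hφ1, hφ2⟩ := exists_normal_form_unip ht1 ht2 hcomm
  -- the two products have order five
  have key : ∀ (w : SL2 F) (c : alternatingGroup (Fin 5)), proj F w = e.symm c → c ^ 5 = 1 → c ≠ 1 →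
      tr w ^ 4 - 3 * tr w ^ 2 + 1 = 0 := by
    intro w c hw hc5 hc1
    rw [← cheb_five]
    apply cheb_eq_zero_of_pow_mem_center (n := 4)
    · intro hZ
      apply hc1
      have h5 : proj F w = 1 := (QuotientGroup.eq_one_iff _).mpr hZ
      rw [hw] at h5
      have h6 : e.symm c = 1 := Subtype.ext h5
      exact e.symm.injective (by rw [h6, map_one])
    · apply (QuotientGroup.eq_one_iff _).mp
      change proj F (w ^ 5) = 1
      rw [map_pow, hw, ← Subgroup.coe_pow, ← map_pow, hc5, map_one]; rfl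
  have E1 := key (g1 * g2) (a * b) (by rw [map_mul, hp1, hp2, map_mul]; rfl) hab hne
  have E2 := key (g1 * g2⁻¹) (a * b⁻¹) (by rw [map_mul, map_inv, hp1, hp2, map_mul, map_inv]; rfl)
    hab' hne'
  have t1 : tr (g1 * g2) = 2 + μ := by
    rw [← hφ, map_mul, hφ1, hφ2, tr_mul_comm, tr_uu_ll]
  have t2 : tr (g1 * g2⁻¹) = 2 - μ := by
    rw [← hφ, map_mul, map_inv, hφ1, hφ2]
    simp only [tr, mul_00, mul_11, uu_00, uu_01, uu_10, uu_11, inv_00, inv_01, inv_10, inv_11, ll_00,
      ll_01, ll_10, ll_11]; ring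
  rw [t1] at E1
  rw [t2] at E2
  have hμ2 : μ ^ 2 = -1 := by
    have h5 : μ * (μ ^ 2 + 1) = 0 := by
      linear_combination E1 - E2 - (5 * μ ^ 3 + 13 * μ) * h3
    have := (mul_eq_zero.mp h5).resolve_left hμ
    linear_combination this
  refine ⟨(pre S).map φ.toMonoidHom, ?_, ⟨g1, hg1, hφ1⟩, ?_⟩
  · have hc : Nat.card ((pre S).map φ.toMonoidHom) = Nat.card (pre S) :=
      Subgroup.card_map_of_injective φ.injective
    rw [hc, card_pre, ee_eq_two (odd_card_of_two_ne_zero h2), Nat.card_congr e.toEquiv]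
    have : Nat.card (alternatingGroup (Fin 5)) = 60 := by
      rw [Nat.card_eq_fintype_card]; rfl
    rw [this]
  · have h5 : (μ - lam) * (μ + lam) = 0 := by linear_combination hμ2 - hlam
    rcases mul_eq_zero.mp h5 with h6 | h6
    · have : lam = μ := by linear_combination -h6
      rw [this]; exact ⟨g2, hg2, hφ2⟩
    · have : lam = -μ := by linear_combination h6
      rw [this, uu_neg]
      exact inv_mem ⟨g2, hg2, hφ2⟩

theorem neg_one_eq_pow {lam : F} (h3 : (3 : F) = 0) (hlam : lam ^ 2 = -1) :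
    (uu lam * ll (1 : F)) ^ 5 = -1 := by
  obtain ⟨e0, e1, e2, e3⟩ := pow_entries (uu lam * ll (1 : F)) 4
  rw [tr_uu_ll, cheb_five] at e0 e1 e2 e3
  rw [cheb_four] at e0 e3
  have c5 : (2 + lam) ^ 4 - 3 * (2 + lam) ^ 2 + 1 = 0 := by
    linear_combination (-5 + 4 * lam) * h3 + (19 + 8 * lam + (lam ^ 2 + 1)) * hlam
  have c4 : (2 + lam) ^ 3 - 2 * (2 + lam) = 1 := by
    linear_combination (-1 + 3 * lam) * h3 + (6 + lam) * hlam
  rw [c5, c4] at e0 e3
  rw [c5] at e1 e2
  apply ext2
  · rw [e0]; simp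
  · rw [e1]; simp
  · rw [e2]; simp
  · rw [e3]; simp

theorem eq_top_of_sup_center (h2 : (2 : F) ≠ 0) {G : Subgroup (SL2 F)}
    (h : G ⊔ Subgroup.center (SL2 F) = ⊤) : G = ⊤ := by
  have hsq : ∀ g : SL2 F, g * g ∈ G := by
    intro g
    have hg : g ∈ G ⊔ Subgroup.center (SL2 F) := by rw [h]; trivial
    obtain ⟨y, hy, z, hz, rfl⟩ := Subgroup.mem_sup_of_normal_right.mp hg
    have hz2 : z * z = 1 := by rcases mem_center_iff_eq.mp hz with rfl | rfl <;> simp
    have hc : z * y = y * z := (Subgroup.mem_center_iff.mp hz y).symm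
    have : y * z * (y * z) = y * y := by
      calc y * z * (y * z) = y * (z * y) * z := by group
        _ = y * (y * z) * z := by rw [hc]
        _ = y * y * (z * z) := by group
        _ = y * y := by rw [hz2, mul_one]
    rw [this]; exact mul_mem hy hy
  rw [eq_top_iff, ← SLK_top]
  apply SLK_le
  · intro c _
    have := hsq (uu (c / 2))
    rw [uu_mul] at this
    have e : c / 2 + c / 2 = c := by field_simp; ring
    rwa [e] at this
  · intro c _
    have := hsq (ll (c / 2))
    have e : ll (c / 2) * ll (c / 2) = ll c := by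
      apply ext2 <;> simp only [mul_00, mul_01, mul_10, mul_11, ll_00, ll_01, ll_10, ll_11]
      · ring
      · ring
      · field_simp; ring
      · ring
    rwa [e] at this

theorem cube_of_traces {lam : F} (h3 : (3 : F) = 0) (h : 2 + lam = 0 ∨ (2 + lam) ^ 2 = 1) :
    lam ^ 3 = lam := by
  rcases h with h | h
  · have : lam = -2 := by linear_combination h
    rw [this]; linear_combination (-2 : F) * h3
  · linear_combination (lam - 1) * h - (lam ^ 2 - 1) * h3

theorem gen_main [Fintype F] (h2 : (2 : F) ≠ 0) (lam : F) (hlam : lam ≠ 0)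
    (hgen : Subfield.closure ({lam} : Set F) = ⊤) {G : Subgroup (SL2 F)} (hl : ll (1 : F) ∈ G)
    (hu : uu lam ∈ G)
    (hmin : ∀ X : Subgroup (SL2 F), ll (1 : F) ∈ X → uu lam ∈ X → G ≤ X) :
    (G = ⊤ ∧ ¬ (Fintype.card F = 9 ∧ lam ^ 2 = -1)) ∨
      (Fintype.card F = 9 ∧ lam ^ 2 = -1 ∧ Nat.card G = 120) := by
  set G1 := G ⊔ Subgroup.center (SL2 F) with hG1
  have hZ : Subgroup.center (SL2 F) ≤ G1 := le_sup_right
  have hGG : G ≤ G1 := le_sup_left
  obtain ⟨φ, hφ, hout⟩ := dickson_SL2' hZ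
  have hcard : Nat.card (G1.map φ.toMonoidHom) = Nat.card G1 :=
    Subgroup.card_map_of_injective φ.injective
  have hodd := odd_card_of_two_ne_zero h2
  have he : ee F = 2 := ee_eq_two hodd
  obtain ⟨p, hp⟩ := CharP.exists F
  have hpp : Fact p.Prime := ⟨CharP.char_is_prime F p⟩
  have hpdvd : p ∣ Nat.card G1 := by
    rw [← orderOf_uu p hlam]
    have := orderOf_dvd_natCard (⟨uu lam, hGG hu⟩ : G1)
    rwa [Subgroup.orderOf_mk] at this
  have h0 : ((p : ℕ) : F) = 0 := CharP.cast_eq_zero F p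
  have hSL := Cfsg.Agent.Lib.Helper7SL.card_SL_two (F := F)
  have hq1 : 1 < Fintype.card F := Fintype.one_lt_card
  have hmem : ∀ z ∈ G1, φ z ∈ G1.map φ.toMonoidHom := fun z hz => ⟨z, hz, rfl⟩
  have hw1 : uu lam * ll (1 : F) ∈ G1 := hGG (mul_mem hu hl)
  have hw2 : uu lam * (ll (1 : F))⁻¹ ∈ G1 := hGG (mul_mem hu (inv_mem hl))
  have hw1Z : φ (uu lam * ll (1 : F)) ∉ Subgroup.center (SL2 F) := by
    intro h
    have := (mem_center_iff.mp ((mem_center_equiv φ).mp h)).2.1
    simp only [mul_10, uu_10, uu_11, ll_00, ll_10] at this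
    exact one_ne_zero (α := F) (by linear_combination this)
  have hw2Z : φ (uu lam * (ll (1 : F))⁻¹) ∉ Subgroup.center (SL2 F) := by
    intro h
    have := (mem_center_iff.mp ((mem_center_equiv φ).mp h)).2.1
    simp only [mul_10, uu_10, uu_11, inv_00, inv_10, ll_11, ll_10] at this
    exact one_ne_zero (α := F) (by linear_combination -this)
  have hsmall : (3 : F) = 0 → lam ^ 3 = lam → Fintype.card F = 3 := by
    intro h3 hc
    have : CharP F 3 := (CharP.charP_iff_prime_eq_zero Nat.prime_three).mpr (by exact_mod_cast h3)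
    have : Fact (Nat.Prime 3) := ⟨Nat.prime_three⟩
    have h5 := card_le_of_closure 3 1 one_pos (by rw [pow_one]; exact hc) hgen
    obtain ⟨k, hk⟩ := hodd
    omega
  rcases out_of_two_unip h2 hlam (hGG hu) (hGG hl) hφ hout with ⟨h12, hnc⟩ | ⟨h5', h60⟩ |
    ⟨K1, hK, hS⟩
  · left
    have h3 : (3 : F) = 0 := by
      rw [← hcard, h12, he] at hpdvd
      have h5 : p ∣ 2 ^ 3 * 3 := by norm_num; exact hpdvd
      rcases (Nat.Prime.dvd_mul hpp.out).mp h5 with h6 | h6
      · have := (Nat.prime_dvd_prime_iff_eq hpp.out Nat.prime_two).mp (hpp.out.dvd_of_dvd_pow h6)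
        rw [this] at h0
        exact absurd (by exact_mod_cast h0) h2
      · have := (Nat.prime_dvd_prime_iff_eq hpp.out Nat.prime_three).mp h6
        rw [this] at h0
        exact_mod_cast h0
    have hq : Fintype.card F = 3 := by
      apply hsmall h3
      apply cube_of_traces h3
      have := (A4_traces (center_le_map hZ φ) h12 hnc (hmem _ hw1)).resolve_left hw1Z
      rwa [hφ, tr_uu_ll] at this
    refine ⟨?_, by rw [hq]; norm_num⟩
    apply eq_top_of_sup_center h2
    apply Subgroup.eq_top_of_card_eq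
    rw [← hG1, ← hcard, h12, he, hSL, hq]
    norm_num
  · have h3 : (3 : F) = 0 := by
      rw [← hcard, h60.1, he] at hpdvd
      have h5 : p ∣ 2 ^ 3 * (3 * 5) := by norm_num; exact hpdvd
      rcases (Nat.Prime.dvd_mul hpp.out).mp h5 with h6 | h6
      · have := (Nat.prime_dvd_prime_iff_eq hpp.out Nat.prime_two).mp (hpp.out.dvd_of_dvd_pow h6)
        rw [this] at h0
        exact absurd (by exact_mod_cast h0) h2
      · rcases (Nat.Prime.dvd_mul hpp.out).mp h6 with h6 | h6
        · have := (Nat.prime_dvd_prime_iff_eq hpp.out Nat.prime_three).mp h6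
          rw [this] at h0
          exact_mod_cast h0
        · have := (Nat.prime_dvd_prime_iff_eq hpp.out Nat.prime_five).mp h6
          rw [this] at h0
          exact absurd (by exact_mod_cast h0) h5'
    have hc120 : Nat.card G1 = 120 := by rw [← hcard, h60.1, he]
    have hle : 120 ≤ Fintype.card F * (Fintype.card F ^ 2 - 1) := by
      rw [← hSL, ← hc120]
      exact Subgroup.card_le_card_group G1
    have hnot3 : ¬ lam ^ 3 = lam := by
      intro hc
      rw [hsmall h3 hc] at hle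
      norm_num at hle
    have E1 := (O60_traces h2 h60 (hmem _ hw1)).resolve_left hw1Z
    have E2 := (O60_traces h2 h60 (hmem _ hw2)).resolve_left hw2Z
    rw [hφ, tr_uu_ll] at E1
    rw [hφ, tr_uu_ll_inv] at E2
    have E1' : (2 + lam) ^ 4 - 3 * (2 + lam) ^ 2 + 1 = 0 := by
      rcases E1 with h | h | h
      · exact absurd (cube_of_traces h3 (Or.inl h)) hnot3
      · exact absurd (cube_of_traces h3 (Or.inr h)) hnot3
      · exact h
    have E2' : (2 - lam) ^ 4 - 3 * (2 - lam) ^ 2 + 1 = 0 := by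
      have hneg : (-lam) ^ 3 = -lam → lam ^ 3 = lam := fun h => by linear_combination -h
      rcases E2 with h | h | h
      · exact absurd (hneg (cube_of_traces h3 (Or.inl (by linear_combination h)))) hnot3
      · exact absurd (hneg (cube_of_traces h3 (Or.inr (by linear_combination h)))) hnot3
      · exact h
    have hl2 : lam ^ 2 = -1 := by
      have h5 : lam * (lam ^ 2 + 1) = 0 := by
        linear_combination E1' - E2' - (5 * lam ^ 3 + 13 * lam) * h3
      have := (mul_eq_zero.mp h5).resolve_left hlam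
      linear_combination this
    have hq : Fintype.card F = 9 := by
      have : CharP F 3 := (CharP.charP_iff_prime_eq_zero Nat.prime_three).mpr (by exact_mod_cast h3)
      have : Fact (Nat.Prime 3) := ⟨Nat.prime_three⟩
      have h9 : lam ^ 3 ^ 2 = lam := by
        have : lam ^ 3 ^ 2 = (lam ^ 2) ^ 4 * lam := by ring
        rw [this, hl2]; ring
      have h5 := card_le_of_closure 3 2 two_pos h9 hgen
      have h6 : 3 ∣ Fintype.card F := (CharP.cast_eq_zero_iff F 3 _).mp (Nat.cast_card_eq_zero F)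
      obtain ⟨k, hk⟩ := h6
      obtain ⟨m, hm⟩ := hodd
      have hk3 : k ≤ 3 := by norm_num at h5; omega
      interval_cases k
      · omega
      · rw [hk] at hle; norm_num at hle
      · omega
      · omega
    right
    refine ⟨hq, hl2, ?_⟩
    have hneg : (-1 : SL2 F) ∈ G := by
      rw [← neg_one_eq_pow h3 hl2]
      exact pow_mem (mul_mem hu hl) 5
    have hZG : Subgroup.center (SL2 F) ≤ G := by
      intro z hz
      rcases mem_center_iff_eq.mp hz with rfl | rfl
      · exact one_mem _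
      · exact hneg
    have : G1 = G := sup_eq_left.mpr hZG
    rw [← this, hc120]
  · left
    have hK1 : K1 = ⊤ := by
      rw [eq_top_iff, ← hgen, Subfield.closure_le]
      intro x hx
      rw [Set.mem_singleton_iff.mp hx]; exact hK
    rw [hK1, SLK_top] at hS
    have hG1top : G1 = ⊤ := by
      rw [eq_top_iff]
      intro x _
      obtain ⟨y, hy, hyx⟩ := hS (Subgroup.mem_top (φ x))
      have : y = x := φ.injective hyx
      rwa [← this]
    have hGtop : G = ⊤ := eq_top_of_sup_center h2 hG1top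
    refine ⟨hGtop, ?_⟩
    rintro ⟨hq, hl2⟩
    obtain ⟨X, hX, hX1, hX2⟩ := exc_subgroup hq hl2
    have h5 := hmin X hX1 hX2
    rw [hGtop] at h5
    have h6 : X = ⊤ := eq_top_iff.mpr h5
    rw [h6, Subgroup.card_top, hSL, hq] at hX
    norm_num at hX

end Cfsg.Agent.Lib.Helper41Gen
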