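import Mathlib
import Cfsg.Agent.Lib.Helper41Dk19

/-!
# Conjugacy of pairs `(x, h)` in `SL₂(F)` with `tr x = 0`
-/

set_option autoImplicit false

namespace Cfsg.Agent.Lib.Helper41Pair

open Matrix Cfsg.Agent.Lib.Helper46SL2 Cfsg.Agent.Lib.Helper41SL2 Cfsg.Agent.Lib.Helper41Dk

variable {F : Type*} [Field F]

local notation "SL2" => Matrix.SpecialLinearGroup (Fin 2)
local notation "PSL2" => Matrix.ProjectiveSpecialLinearGroup (Fin 2)

/-- conjugation by an invertible matrix -/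
def conjM (C D : Matrix (Fin 2) (Fin 2) F) (h1 : C * D = 1) (h2 : D * C = 1) : SL2 F ≃* SL2 F where
  toFun g := ⟨C * g.1 * D, by
    rw [det_mul, det_mul, g.2, mul_one, ← det_mul, h1, det_one]⟩
  invFun g := ⟨D * g.1 * C, by
    rw [det_mul, det_mul, g.2, mul_one, ← det_mul, h2, det_one]⟩
  left_inv g := by
    apply Subtype.ext
    change D * (C * g.1 * D) * C = g.1
    calc D * (C * g.1 * D) * C = (D * C) * g.1 * (D * C) := by simp only [Matrix.mul_assoc]
      _ = g.1 := by rw [h2, Matrix.one_mul, Matrix.mul_one]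
  right_inv g := by
    apply Subtype.ext
    change C * (D * g.1 * C) * D = g.1
    calc C * (D * g.1 * C) * D = (C * D) * g.1 * (C * D) := by simp only [Matrix.mul_assoc]
      _ = g.1 := by rw [h1, Matrix.one_mul, Matrix.mul_one]
  map_mul' a b := by
    apply Subtype.ext
    change C * (a.1 * b.1) * D = (C * a.1 * D) * (C * b.1 * D)
    calc C * (a.1 * b.1) * D = C * a.1 * 1 * b.1 * D := by simp only [Matrix.mul_assoc, Matrix.one_mul]
      _ = (C * a.1 * D) * (C * b.1 * D) := by rw [← h2]; simp only [Matrix.mul_assoc]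

theorem conjM_eq {C D : Matrix (Fin 2) (Fin 2) F} (h1 : C * D = 1) (h2 : D * C = 1) {g g' : SL2 F}
    (h : C * g.1 = g'.1 * C) : conjM C D h1 h2 g = g' := by
  apply Subtype.ext
  change C * g.1 * D = g'.1
  rw [h, Matrix.mul_assoc, h1, Matrix.mul_one]

/-- the standard element of order four -/
def x0 : SL2 F := mk2 0 (-1) 1 0 (by ring)

@[simp] theorem x0_00 : (x0 : SL2 F) 0 0 = 0 := rfl
@[simp] theorem x0_01 : (x0 : SL2 F) 0 1 = -1 := rfl
@[simp] theorem x0_10 : (x0 : SL2 F) 1 0 = 1 := rfl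
@[simp] theorem x0_11 : (x0 : SL2 F) 1 1 = 0 := rfl

theorem tr_x0 : tr (x0 : SL2 F) = 0 := by simp [tr]

theorem tr_x0_mul (h : SL2 F) : tr (x0 * h) = h 0 1 - h 1 0 := by
  simp only [tr, mul_00, mul_11, x0_00, x0_01, x0_10, x0_11]; ring

theorem intertw (h2 : (2 : F) ≠ 0) {a b c d a' b' c' d' : F} (hd : a * d - b * c = 1)
    (hd' : a' * d' - b' * c' = 1) (h1 : a + d = a' + d') (ht : b - c = b' - c')
    (hN : (a + d) ^ 2 + (b - c) ^ 2 - 4 ≠ 0) :
    ∃ s r : F, s ^ 2 + r ^ 2 ≠ 0 ∧ s * a - r * c = a' * s + b' * r ∧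
      s * b - r * d = -(a' * r) + b' * s ∧ r * a + s * c = c' * s + d' * r ∧
      r * b + s * d = -(c' * r) + d' * s := by
  obtain rfl : d' = a + d - a' := by linear_combination -h1
  obtain rfl : c' = b' - (b - c) := by linear_combination ht
  set U := a - d with hU
  set V := b + c with hV
  set U' := a' - (a + d - a') with hU'
  set V' := b' + (b' - (b - c)) with hV'
  set N := U ^ 2 + V ^ 2 with hNdef
  have hN1 : N = (a + d) ^ 2 + (b - c) ^ 2 - 4 := by
    rw [hNdef, hU, hV]; linear_combination (-4 : F) * hd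
  have hN' : U' ^ 2 + V' ^ 2 = N := by
    rw [hN1, hU', hV']; linear_combination (-4 : F) * hd'
  have hN0 : N ≠ 0 := by rw [hN1]; exact hN
  by_cases hS : N + U * U' + V * V' = 0
  · have hS' : N - U * U' - V * V' ≠ 0 := by
      intro h
      have : 2 * N = 0 := by linear_combination hS + h
      exact (mul_ne_zero h2 hN0) this
    refine ⟨V' * U - U' * V, N - U * U' - V * V', ?_, ?_, ?_, ?_, ?_⟩
    · have e : (V' * U - U' * V) ^ 2 + (N - U * U' - V * V') ^ 2 = 2 * N * (N - U * U' - V * V') := by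
        linear_combination N * hN' + (U' ^ 2 + V' ^ 2) * hNdef.symm
      rw [e]
      exact mul_ne_zero (mul_ne_zero h2 hN0) hS'
    · rw [hNdef, hU, hV, hU', hV']
      linear_combination (2 * (b + c)) * hd - (2 * (b + c)) * hd'
    · rw [hNdef, hU, hV, hU', hV']
      linear_combination (-2 * (a - d)) * hd + (2 * (a - d)) * hd'
    · rw [hNdef, hU, hV, hU', hV']
      linear_combination (-2 * (a - d)) * hd + (2 * (a - d)) * hd'
    · rw [hNdef, hU, hV, hU', hV']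
      linear_combination (-2 * (b + c)) * hd + (2 * (b + c)) * hd'
  · refine ⟨N + U * U' + V * V', V' * U - U' * V, ?_, ?_, ?_, ?_, ?_⟩
    · have e : (N + U * U' + V * V') ^ 2 + (V' * U - U' * V) ^ 2 = 2 * N * (N + U * U' + V * V') := by
        linear_combination N * hN' + (U' ^ 2 + V' ^ 2) * hNdef.symm
      rw [e]
      exact mul_ne_zero (mul_ne_zero h2 hN0) hS
    · rw [hNdef, hU, hV, hU', hV']
      linear_combination (-2 * (a - d)) * hd + (2 * (a - d)) * hd'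
    · rw [hNdef, hU, hV, hU', hV']
      linear_combination (-2 * (b + c)) * hd + (2 * (b + c)) * hd'
    · rw [hNdef, hU, hV, hU', hV']
      linear_combination (-2 * (b + c)) * hd + (2 * (b + c)) * hd'
    · rw [hNdef, hU, hV, hU', hV']
      linear_combination (2 * (a - d)) * hd - (2 * (a - d)) * hd'

/-- the rotation-type matrices -/
theorem rot_mul_inv {s r : F} (h : s ^ 2 + r ^ 2 ≠ 0) :
    (!![s, -r; r, s] : Matrix (Fin 2) (Fin 2) F) * ((s ^ 2 + r ^ 2)⁻¹ • !![s, r; -r, s]) = 1 := by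
  ext i j
  fin_cases i <;> fin_cases j <;> simp [Matrix.mul_apply, Fin.sum_univ_two] <;> field_simp <;> ring

theorem rot_inv_mul {s r : F} (h : s ^ 2 + r ^ 2 ≠ 0) :
    ((s ^ 2 + r ^ 2)⁻¹ • !![s, r; -r, s] : Matrix (Fin 2) (Fin 2) F) * !![s, -r; r, s] = 1 := by
  ext i j
  fin_cases i <;> fin_cases j <;> simp [Matrix.mul_apply, Fin.sum_univ_two] <;> field_simp <;> ring

theorem pair_conj_x0 (h2 : (2 : F) ≠ 0) {h h' : SL2 F} (hτ : tr h = tr h')
    (ht : tr (x0 * h) = tr (x0 * h')) (hN : tr h ^ 2 + tr (x0 * h) ^ 2 - 4 ≠ 0) :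
    ∃ ψ : SL2 F ≃* SL2 F, ψ x0 = x0 ∧ ψ h = h' := by
  rw [tr_x0_mul, tr_x0_mul] at ht
  rw [tr_x0_mul] at hN
  obtain ⟨s, r, hsr, e0, e1, e2, e3⟩ := intertw h2 (det2 h) (det2 h') hτ ht hN
  refine ⟨conjM _ _ (rot_mul_inv hsr) (rot_inv_mul hsr), ?_, ?_⟩
  · apply conjM_eq
    ext i j
    fin_cases i <;> fin_cases j <;>
      simp [Matrix.mul_apply, Fin.sum_univ_two, x0, mk2]
  · apply conjM_eq
    ext i j
    fin_cases i <;> fin_cases j <;> simp only [Matrix.mul_apply, Fin.sum_univ_two]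
    · change s * h 0 0 + -r * h 1 0 = h' 0 0 * s + h' 0 1 * r
      linear_combination e0
    · change s * h 0 1 + -r * h 1 1 = h' 0 0 * -r + h' 0 1 * s
      linear_combination e1
    · change r * h 0 0 + s * h 1 0 = h' 1 0 * s + h' 1 1 * r
      linear_combination e2
    · change r * h 0 1 + s * h 1 1 = h' 1 0 * -r + h' 1 1 * s
      linear_combination e3

/-- pairs `(x, h)` with `tr x = 0` are classified by `tr h` and `tr (x h)` up to automorphisms -/
theorem pair_conj [Finite F] (h2 : (2 : F) ≠ 0) {x h x' h' : SL2 F} (hx : tr x = 0) (hx' : tr x' = 0)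
    (hτ : tr h = tr h') (ht : tr (x * h) = tr (x' * h')) (hN : tr h ^ 2 + tr (x * h) ^ 2 - 4 ≠ 0) :
    ∃ ψ : SL2 F ≃* SL2 F, ψ x = x' ∧ ψ h = h' := by
  obtain ⟨c, hc⟩ := isConj_iff.mp (isConj_of_tr_eq_zero h2 hx tr_x0)
  obtain ⟨c', hc'⟩ := isConj_iff.mp (isConj_of_tr_eq_zero h2 hx' tr_x0)
  have e1 : tr (x0 * (c * h * c⁻¹)) = tr (x * h) := by
    rw [← hc, ← tr_conj (x * h) c]; congr 1; group
  have e2 : tr (x0 * (c' * h' * c'⁻¹)) = tr (x' * h') := by
    rw [← hc', ← tr_conj (x' * h') c']; congr 1; group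
  obtain ⟨ψ, h5, h6⟩ := pair_conj_x0 h2 (h := c * h * c⁻¹) (h' := c' * h' * c'⁻¹)
    (by rw [tr_conj, tr_conj, hτ]) (by rw [e1, e2, ht]) (by rw [tr_conj, e1]; exact hN)
  refine ⟨((MulAut.conj c).trans ψ).trans (MulAut.conj c').symm, ?_, ?_⟩
  · change (MulAut.conj c').symm (ψ (c * x * c⁻¹)) = x'
    rw [hc, h5, MulEquiv.symm_apply_eq]
    exact hc'.symm
  · change (MulAut.conj c').symm (ψ (c * h * c⁻¹)) = h'
    rw [h6, MulEquiv.symm_apply_eq]
    rfl

/-- every element of a finite field of odd characteristic is a sum of two squares -/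
theorem exists_sq_add_sq [Finite F] (h2 : (2 : F) ≠ 0) (K : Subfield F) {c : F} (hc : c ∈ K) :
    ∃ u ∈ K, ∃ v ∈ K, u ^ 2 + v ^ 2 = c := by
  have := Fintype.ofFinite F
  have := Fintype.ofFinite K
  have hodd : Fintype.card K % 2 = 1 := by
    have := odd_card_subfield (odd_card_of_two_ne_zero h2) K
    rw [Nat.card_eq_fintype_card] at this
    exact Nat.odd_iff.mp this
  obtain ⟨a, b, hab⟩ := FiniteField.exists_root_sum_quadratic (R := K)
    (f := Polynomial.X ^ 2) (g := Polynomial.X ^ 2 - Polynomial.C ⟨c, hc⟩)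
    (Polynomial.degree_X_pow 2) (Polynomial.degree_X_pow_sub_C (by norm_num) _) hodd
  refine ⟨a, a.2, b, b.2, ?_⟩
  simp only [Polynomial.eval_pow, Polynomial.eval_X, Polynomial.eval_sub, Polynomial.eval_C] at hab
  have h5 := congrArg Subtype.val hab
  push_cast at h5
  linear_combination h5

/-- the normal form of `h` -/
def hh (τ t u v : F) (h2 : (2 : F) ≠ 0) (h : 4 * (u ^ 2 + v ^ 2) = τ ^ 2 + t ^ 2 - 4) : SL2 F :=
  mk2 (τ / 2 + u) (v + t / 2) (v - t / 2) (τ / 2 - u) (by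
    field_simp
    linear_combination -h)

theorem tr_hh (τ t u v : F) (h2 : (2 : F) ≠ 0) (h : 4 * (u ^ 2 + v ^ 2) = τ ^ 2 + t ^ 2 - 4) :
    tr (hh τ t u v h2 h) = τ := by
  simp only [tr, hh, mk2_00, mk2_11]; field_simp; ring

theorem tr_x0_hh (τ t u v : F) (h2 : (2 : F) ≠ 0) (h : 4 * (u ^ 2 + v ^ 2) = τ ^ 2 + t ^ 2 - 4) :
    tr (x0 * hh τ t u v h2 h) = t := by
  rw [tr_x0_mul]
  simp only [hh, mk2_01, mk2_10]; field_simp; ring

theorem x0_mem_SLK (K : Subfield F) : (x0 : SL2 F) ∈ SLK K :=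
  ⟨zero_mem K, neg_mem (one_mem K), one_mem K, zero_mem K⟩

/-- a pair can be moved into `SL₂(K)` as soon as its traces lie in `K` -/
theorem pair_into_SLK [Finite F] (h2 : (2 : F) ≠ 0) (K : Subfield F) {x h : SL2 F} (hx : tr x = 0)
    (hτ : tr h ∈ K) (ht : tr (x * h) ∈ K) (hN : tr h ^ 2 + tr (x * h) ^ 2 - 4 ≠ 0) :
    ∃ ψ : SL2 F ≃* SL2 F, ψ x = x0 ∧ ψ h ∈ SLK K := by
  have h2K : (2 : F) ∈ K := by
    have : ((2 : ℕ) : F) ∈ K := natCast_mem K 2
    exact_mod_cast this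
  have h4K : (4 : F) ∈ K := by
    have : ((4 : ℕ) : F) ∈ K := natCast_mem K 4
    exact_mod_cast this
  have h40 : (4 : F) ≠ 0 := by
    have : (4 : F) = 2 * 2 := by norm_num
    rw [this]; exact mul_ne_zero h2 h2
  obtain ⟨u, hu, v, hv, huv⟩ := exists_sq_add_sq h2 K
    (c := (tr h ^ 2 + tr (x * h) ^ 2 - 4) / 4)
    (div_mem (sub_mem (add_mem (pow_mem hτ 2) (pow_mem ht 2)) h4K) h4K)
  have huv' : 4 * (u ^ 2 + v ^ 2) = tr h ^ 2 + tr (x * h) ^ 2 - 4 := by
    rw [huv]; field_simp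
  obtain ⟨ψ, h5, h6⟩ := pair_conj h2 hx tr_x0 (tr_hh _ _ u v h2 huv').symm
    (tr_x0_hh _ _ u v h2 huv').symm hN
  refine ⟨ψ, h5, ?_⟩
  rw [h6]
  exact ⟨add_mem (div_mem hτ h2K) hu, add_mem hv (div_mem ht h2K), sub_mem hv (div_mem ht h2K),
    sub_mem (div_mem hτ h2K) hu⟩

end Cfsg.Agent.Lib.Helper41Pair
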