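import Mathlib
import Cfsg.Agent.Lib.Helper41Pair
import Cfsg.Agent.Lib.Helper41Gen

/-!
# Lifting generators of `A₄`, `S₄`, `A₅` from `PSL₂(F)` to `SL₂(F)`
-/

set_option autoImplicit false

namespace Cfsg.Agent.Lib.Helper41Lift

open Matrix Cfsg.Agent.Lib.Helper46SL2 Cfsg.Agent.Lib.Helper41SL2 Cfsg.Agent.Lib.Helper41Dk
  Cfsg.Agent.Lib.Helper41Pair Cfsg.Agent.Lib.Helper41Gen

variable {F : Type*} [Field F] {Γ : Type*} [Group Γ]

local notation "SL2" => Matrix.SpecialLinearGroup (Fin 2)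
local notation "PSL2" => Matrix.ProjectiveSpecialLinearGroup (Fin 2)

theorem not_mem_center_of_lift {S : Subgroup (PSL2 F)} (e : S ≃* Γ) {w : SL2 F} {c : Γ}
    (hw : proj F w = e.symm c) (hc1 : c ≠ 1) : w ∉ Subgroup.center (SL2 F) := by
  intro hZ
  apply hc1
  have h5 : proj F w = 1 := (QuotientGroup.eq_one_iff _).mpr hZ
  rw [hw] at h5
  have h6 : e.symm c = 1 := Subtype.ext h5
  exact e.symm.injective (by rw [h6, map_one])

theorem pow_mem_center_of_lift {S : Subgroup (PSL2 F)} (e : S ≃* Γ) {w : SL2 F} {c : Γ}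
    (hw : proj F w = e.symm c) {n : ℕ} (hc : c ^ n = 1) : w ^ n ∈ Subgroup.center (SL2 F) := by
  apply (QuotientGroup.eq_one_iff _).mp
  change proj F (w ^ n) = 1
  rw [map_pow, hw, ← Subgroup.coe_pow, ← map_pow, hc, map_one]; rfl

theorem cheb_of_lift {S : Subgroup (PSL2 F)} (e : S ≃* Γ) {w : SL2 F} {c : Γ}
    (hw : proj F w = e.symm c) {n : ℕ} (hc : c ^ (n + 1) = 1) (hc1 : c ≠ 1) :
    cheb (tr w) (n + 1) = 0 :=
  cheb_eq_zero_of_pow_mem_center (not_mem_center_of_lift e hw hc1) (pow_mem_center_of_lift e hw hc)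

theorem exists_lift {S : Subgroup (PSL2 F)} (e : S ≃* Γ) (c : Γ) :
    ∃ w ∈ pre S, proj F w = e.symm c := by
  obtain ⟨g0, hg0⟩ := QuotientGroup.mk'_surjective (Subgroup.center (SL2 F)) (e.symm c : PSL2 F)
  refine ⟨g0, ?_, hg0⟩
  change proj F g0 ∈ S
  have : proj F g0 = e.symm c := hg0
  rw [this]; exact (e.symm c).2

theorem tr_of_cube {g : SL2 F} (hg : g ^ 3 = 1) (hgZ : g ∉ Subgroup.center (SL2 F)) : tr g = -1 := by
  have h3 := cheb_eq_zero_of_pow_mem_center hgZ (n := 2) (by rw [hg]; exact one_mem _)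
  obtain ⟨e0, -, -, -⟩ := pow_entries g 2
  rw [h3, cheb_two, hg, one_00] at e0
  linear_combination e0

theorem exists_pair {S : Subgroup (PSL2 F)} (e : S ≃* Γ) {a b : Γ} (ha : a ^ 2 = 1) (ha1 : a ≠ 1)
    (hb : b ^ 3 = 1) (hb1 : b ≠ 1) :
    ∃ x h : SL2 F, x ∈ pre S ∧ h ∈ pre S ∧ proj F x = e.symm a ∧ proj F h = e.symm b ∧
      tr x = 0 ∧ tr h = -1 := by
  obtain ⟨x, hx, hxa⟩ := exists_lift e a
  obtain ⟨h, hh, hhb, hh3⟩ := exists_lift_cube (e.symm b) (by rw [← map_pow, hb, map_one])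
  refine ⟨x, h, hx, hh, hxa, hhb, ?_, tr_of_cube hh3 (not_mem_center_of_lift e hhb hb1)⟩
  have := cheb_of_lift e hxa (n := 1) ha ha1
  rwa [cheb_two] at this

theorem pre_eq_closure {S : Subgroup (PSL2 F)} (e : S ≃* Γ) {a b : Γ}
    (hgen : Subgroup.closure ({a, b} : Set Γ) = ⊤) {x h : SL2 F} (hx : proj F x = e.symm a)
    (hh : proj F h = e.symm b) (hneg : (-1 : SL2 F) ∈ Subgroup.closure ({x, h} : Set (SL2 F))) :
    pre S = Subgroup.closure ({x, h} : Set (SL2 F)) := by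
  have hZ : Subgroup.center (SL2 F) ≤ Subgroup.closure ({x, h} : Set (SL2 F)) := by
    intro z hz
    rcases mem_center_iff_eq.mp hz with rfl | rfl
    · exact one_mem _
    · exact hneg
  rw [← pre_map_proj hZ]
  congr 1
  rw [MonoidHom.map_closure, Set.image_pair, hx, hh]
  have h1 : (⊤ : Subgroup Γ).map (S.subtype.comp e.symm.toMonoidHom) = S := by
    rw [← Subgroup.map_map]
    have : (⊤ : Subgroup Γ).map e.symm.toMonoidHom = ⊤ := by
      rw [← MonoidHom.range_eq_map]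
      exact MonoidHom.range_eq_top.mpr e.symm.surjective
    rw [this, ← MonoidHom.range_eq_map, Subgroup.range_subtype]
  rw [← hgen, MonoidHom.map_closure, Set.image_pair] at h1
  exact h1.symm

/-! ### facts on permutation groups -/

/-- generators of `A₄` -/
def a4 : alternatingGroup (Fin 4) :=
  ⟨Equiv.swap 0 1 * Equiv.swap 2 3, Equiv.Perm.mem_alternatingGroup.mpr (by decide)⟩
def b4 : alternatingGroup (Fin 4) :=
  ⟨Equiv.swap 0 1 * Equiv.swap 1 2, Equiv.Perm.mem_alternatingGroup.mpr (by decide)⟩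

theorem a4_facts : a4 ^ 2 = 1 ∧ a4 ≠ 1 ∧ b4 ^ 3 = 1 ∧ b4 ≠ 1 ∧ (a4 * b4) ^ 3 = 1 ∧ a4 * b4 ≠ 1 := by
  decide

theorem a4_words : ∀ g : alternatingGroup (Fin 4), ∃ i : Fin 3, ∃ j : Fin 2, ∃ k : Fin 3,
    g = b4 ^ (i : ℕ) * a4 ^ (j : ℕ) * b4 ^ (k : ℕ) := by decide

theorem a4_gen : Subgroup.closure ({a4, b4} : Set (alternatingGroup (Fin 4))) = ⊤ := by
  rw [eq_top_iff]
  intro g _
  obtain ⟨i, j, k, rfl⟩ := a4_words g
  have ha : a4 ∈ Subgroup.closure ({a4, b4} : Set (alternatingGroup (Fin 4))) :=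
    Subgroup.subset_closure (by simp)
  have hb : b4 ∈ Subgroup.closure ({a4, b4} : Set (alternatingGroup (Fin 4))) :=
    Subgroup.subset_closure (by simp)
  exact mul_mem (mul_mem (pow_mem hb _) (pow_mem ha _)) (pow_mem hb _)

/-- generators of `S₄` -/
def c4 : Equiv.Perm (Fin 4) := Equiv.swap 0 1 * Equiv.swap 1 2 * Equiv.swap 2 3
def d4 : Equiv.Perm (Fin 4) := Equiv.swap 0 1 * Equiv.swap 1 2

set_option maxRecDepth 100000 in
theorem s4_facts : (c4 ^ 2) ^ 2 = 1 ∧ c4 ^ 2 ≠ 1 ∧ d4 ^ 3 = 1 ∧ d4 ≠ 1 ∧ (c4 ^ 2 * d4) ^ 3 = 1 ∧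
    c4 ^ 2 * d4 ≠ 1 := by
  decide

set_option maxRecDepth 100000 in
theorem s4_words : ∀ g : Equiv.Perm (Fin 4), ∃ i : Fin 4, ∃ j : Fin 3, ∃ k : Fin 4, ∃ l : Fin 3,
    g = c4 ^ (i : ℕ) * d4 ^ (j : ℕ) * c4 ^ (k : ℕ) * d4 ^ (l : ℕ) := by decide

theorem s4_gen : Subgroup.closure ({c4, d4} : Set (Equiv.Perm (Fin 4))) = ⊤ := by
  rw [eq_top_iff]
  intro g _
  obtain ⟨i, j, k, l, rfl⟩ := s4_words g
  have ha : c4 ∈ Subgroup.closure ({c4, d4} : Set (Equiv.Perm (Fin 4))) :=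
    Subgroup.subset_closure (by simp)
  have hb : d4 ∈ Subgroup.closure ({c4, d4} : Set (Equiv.Perm (Fin 4))) :=
    Subgroup.subset_closure (by simp)
  exact mul_mem (mul_mem (mul_mem (pow_mem ha _) (pow_mem hb _)) (pow_mem ha _)) (pow_mem hb _)

/-- elements of `A₅` -/
def a5 : alternatingGroup (Fin 5) :=
  ⟨Equiv.swap 0 1 * Equiv.swap 2 3, Equiv.Perm.mem_alternatingGroup.mpr (by decide)⟩
def b5 : alternatingGroup (Fin 5) :=
  ⟨Equiv.swap 0 1 * Equiv.swap 1 2, Equiv.Perm.mem_alternatingGroup.mpr (by decide)⟩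
def e5 : alternatingGroup (Fin 5) :=
  ⟨Equiv.swap 1 2 * Equiv.swap 2 4, Equiv.Perm.mem_alternatingGroup.mpr (by decide)⟩

set_option maxRecDepth 100000 in
theorem a5_facts : a5 ^ 2 = 1 ∧ a5 ≠ 1 ∧ b5 ^ 3 = 1 ∧ b5 ≠ 1 ∧ (a5 * b5) ^ 3 = 1 ∧ a5 * b5 ≠ 1 := by
  decide

set_option maxRecDepth 100000 in
theorem a5_facts' : e5 ^ 3 = 1 ∧ e5 ≠ 1 ∧ (a5 * e5) ^ 5 = 1 ∧ a5 * e5 ≠ 1 := by
  decide

theorem card_A5 : Nat.card (alternatingGroup (Fin 5)) = 60 := by
  rw [Nat.card_eq_fintype_card]; rfl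

theorem a5_gen : Subgroup.closure ({a5, e5} : Set (alternatingGroup (Fin 5))) = ⊤ := by
  set C := Subgroup.closure ({a5, e5} : Set (alternatingGroup (Fin 5))) with hC
  have ha : a5 ∈ C := Subgroup.subset_closure (by simp)
  have hb : e5 ∈ C := Subgroup.subset_closure (by simp)
  have key : ∀ (g : alternatingGroup (Fin 5)) (r : ℕ), r.Prime → g ∈ C → g ^ r = 1 → g ≠ 1 →
      r ∣ Nat.card C := by
    intro g r hr hg h1 h2
    have : Fact r.Prime := ⟨hr⟩
    rw [← orderOf_eq_prime h1 h2]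
    have := orderOf_dvd_natCard (⟨g, hg⟩ : C)
    rwa [Subgroup.orderOf_mk] at this
  have d2 := key a5 2 Nat.prime_two ha a5_facts.1 a5_facts.2.1
  have d3 := key e5 3 Nat.prime_three hb a5_facts'.1 a5_facts'.2.1
  have d5 := key (a5 * e5) 5 Nat.prime_five (mul_mem ha hb) a5_facts'.2.2.1 a5_facts'.2.2.2
  have d30 : 30 ∣ Nat.card C := by
    have d6 : 2 * 3 ∣ Nat.card C := Nat.Coprime.mul_dvd_of_dvd_of_dvd (by norm_num) d2 d3
    have : 2 * 3 * 5 ∣ Nat.card C := Nat.Coprime.mul_dvd_of_dvd_of_dvd (by norm_num) d6 d5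
    exact this
  obtain ⟨k, hk⟩ := d30
  have hidx := C.card_mul_index
  rw [card_A5, hk] at hidx
  have hk0 : k ≠ 0 := by rintro rfl; omega
  have hi : C.index = 1 ∨ C.index = 2 := by
    have h1 : k * C.index = 2 := by nlinarith
    have h2 : C.index ∣ 2 := ⟨k, by rw [← h1, mul_comm]⟩
    rcases (Nat.dvd_prime Nat.prime_two).mp h2 with h | h
    · exact Or.inl h
    · exact Or.inr h
  rcases hi with h | h
  · exact Subgroup.index_eq_one.mp h
  · have hn := Subgroup.normal_of_index_eq_two h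
    have := alternatingGroup.isSimpleGroup_five
    rcases hn.eq_bot_or_eq_top with h1 | h1
    · exfalso
      rw [h1] at ha
      exact a5_facts.2.1 (Subgroup.mem_bot.mp ha)
    · exact h1

/-! ### moving the exceptional subgroups -/

theorem map_closure_pair_le {φ : SL2 F ≃* SL2 F} {x h : SL2 F} {X : Subgroup (SL2 F)}
    (hx : φ x ∈ X) (hh : φ h ∈ X) :
    (Subgroup.closure ({x, h} : Set (SL2 F))).map φ.toMonoidHom ≤ X := by
  rw [MonoidHom.map_closure, Subgroup.closure_le, Set.image_pair]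
  rintro y (rfl | rfl)
  · exact hx
  · exact hh

theorem neg_one_mem_closure {x h : SL2 F} (hx : tr x = 0) :
    (-1 : SL2 F) ∈ Subgroup.closure ({x, h} : Set (SL2 F)) := by
  rw [← sq_eq_neg_one_iff.mpr hx]
  have : x ∈ Subgroup.closure ({x, h} : Set (SL2 F)) := Subgroup.subset_closure (by simp)
  exact mul_mem this this

theorem two_ne (h2 : (2 : F) ≠ 0) : (-1 : F) ^ 2 + 1 - 4 ≠ 0 := by
  intro h
  apply h2
  linear_combination -h

/-- data extracted from a copy of `A₄` -/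
theorem A4_data {M : Subgroup (PSL2 F)} (e : M ≃* alternatingGroup (Fin 4)) :
    ∃ x h : SL2 F, tr x = 0 ∧ tr h = -1 ∧ tr (x * h) ^ 2 = 1 ∧
      pre M = Subgroup.closure ({x, h} : Set (SL2 F)) := by
  obtain ⟨f1, f2, f3, f4, f5, f6⟩ := a4_facts
  obtain ⟨x, h, -, -, hxa, hhb, t1, t2⟩ := exists_pair (F := F) e f1 f2 f3 f4
  refine ⟨x, h, t1, t2, ?_, pre_eq_closure e a4_gen hxa hhb (neg_one_mem_closure t1)⟩
  have := cheb_of_lift e (w := x * h) (c := a4 * b4) (by rw [map_mul, hxa, hhb, map_mul]; rfl)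
    (n := 2) f5 f6
  rw [cheb_three] at this
  linear_combination this

theorem A4_into_SLK [Finite F] (h2 : (2 : F) ≠ 0) {M : Subgroup (PSL2 F)}
    (e : M ≃* alternatingGroup (Fin 4)) (K : Subfield F) :
    ∃ ψ : SL2 F ≃* SL2 F, (pre M).map ψ.toMonoidHom ≤ SLK K := by
  obtain ⟨x, h, t1, t2, t3, hgen⟩ := A4_data e
  have hK : tr (x * h) ∈ K := by
    have h5 : (tr (x * h) - 1) * (tr (x * h) + 1) = 0 := by linear_combination t3
    rcases mul_eq_zero.mp h5 with h6 | h6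
    · have : tr (x * h) = 1 := by linear_combination h6
      rw [this]; exact one_mem K
    · have : tr (x * h) = -1 := by linear_combination h6
      rw [this]; exact neg_mem (one_mem K)
  obtain ⟨ψ, h5, h6⟩ := pair_into_SLK h2 K t1 (by rw [t2]; exact neg_mem (one_mem K)) hK
    (by rw [t2, t3]; exact two_ne h2)
  refine ⟨ψ, ?_⟩
  rw [hgen]
  exact map_closure_pair_le (by rw [h5]; exact x0_mem_SLK K) h6

/-- a copy of `A₄` can be moved into any subgroup containing a suitable pair -/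
theorem emb_A4 [Finite F] (h2 : (2 : F) ≠ 0) {M : Subgroup (PSL2 F)}
    (e : M ≃* alternatingGroup (Fin 4)) {X : Subgroup (SL2 F)} {x' h' : SL2 F} (hx' : x' ∈ X)
    (hh' : h' ∈ X) (hneg : (-1 : SL2 F) ∈ X) (s1 : tr x' = 0) (s2 : tr h' = -1)
    (s3 : tr (x' * h') ^ 2 = 1) :
    ∃ ψ : SL2 F ≃* SL2 F, (pre M).map ψ.toMonoidHom ≤ X := by
  obtain ⟨x, h, t1, t2, t3, hgen⟩ := A4_data e
  have h5 : (tr (x * h) - tr (x' * h')) * (tr (x * h) + tr (x' * h')) = 0 := by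
    linear_combination t3 - s3
  rcases mul_eq_zero.mp h5 with h6 | h6
  · obtain ⟨ψ, h7, h8⟩ := pair_conj h2 t1 s1 (t2.trans s2.symm) (by linear_combination h6)
      (by rw [t2, t3]; exact two_ne h2)
    refine ⟨ψ, ?_⟩
    rw [hgen]
    exact map_closure_pair_le (by rw [h7]; exact hx') (by rw [h8]; exact hh')
  · have hx'' : -x' ∈ X := by
      have : -x' = (-1 : SL2 F) * x' := by rw [neg_one_mul]
      rw [this]; exact mul_mem hneg hx'
    obtain ⟨ψ, h7, h8⟩ := pair_conj h2 t1 (x' := -x') (by rw [tr_neg, s1, neg_zero])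
      (t2.trans s2.symm) (by rw [neg_mul, tr_neg]; linear_combination h6)
      (by rw [t2, t3]; exact two_ne h2)
    refine ⟨ψ, ?_⟩
    rw [hgen]
    exact map_closure_pair_le (by rw [h7]; exact hx'') (by rw [h8]; exact hh')

/-- a copy of `A₄` can be moved into any subgroup whose image contains a `(2,3,3)`-pair -/
theorem emb_A4_pre [Finite F] (h2 : (2 : F) ≠ 0) {M S : Subgroup (PSL2 F)}
    (e : M ≃* alternatingGroup (Fin 4)) (e' : S ≃* Γ) {a b : Γ} (f1 : a ^ 2 = 1) (f2 : a ≠ 1)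
    (f3 : b ^ 3 = 1) (f4 : b ≠ 1) (f5 : (a * b) ^ 3 = 1) (f6 : a * b ≠ 1) :
    ∃ ψ : SL2 F ≃* SL2 F, (pre M).map ψ.toMonoidHom ≤ pre S := by
  obtain ⟨x, h, hx, hh, hxa, hhb, t1, t2⟩ := exists_pair (F := F) e' f1 f2 f3 f4
  apply emb_A4 h2 e hx hh (center_le_pre S (mem_center_iff_eq.mpr (Or.inr rfl))) t1 t2
  have := cheb_of_lift e' (w := x * h) (c := a * b) (by rw [map_mul, hxa, hhb, map_mul]; rfl)
    (n := 2) f5 f6
  rw [cheb_three] at this
  linear_combination this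

theorem mem_PK_of_sq_eq_x0 (K : Subfield F) {z : SL2 F} (hz : z ^ 2 = x0) : z ∈ PK K := by
  have e00 := congrArg (fun g : SL2 F => g 0 0) hz
  have e01 := congrArg (fun g : SL2 F => g 0 1) hz
  have e10 := congrArg (fun g : SL2 F => g 1 0) hz
  have e11 := congrArg (fun g : SL2 F => g 1 1) hz
  simp only [sq, mul_00, mul_01, mul_10, mul_11, x0_00, x0_01, x0_10, x0_11] at e00 e01 e10 e11
  have hc : z 1 0 ≠ 0 := by
    intro h
    rw [h] at e10
    exact one_ne_zero (α := F) (by linear_combination -e10)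
  have hs : z 0 0 + z 1 1 ≠ 0 := by
    intro h
    exact one_ne_zero (α := F) (by linear_combination -e10 + z 1 0 * h)
  have had : z 0 0 = z 1 1 := by
    have : (z 0 0 - z 1 1) * (z 0 0 + z 1 1) = 0 := by linear_combination e00 - e11
    have := (mul_eq_zero.mp this).resolve_right hs
    linear_combination this
  have hb : z 0 1 = - z 1 0 := by
    have : (z 0 1 + z 1 0) * (z 0 0 + z 1 1) = 0 := by linear_combination e01 + e10
    have := (mul_eq_zero.mp this).resolve_right hs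
    linear_combination this
  have hac : (z 0 0 - z 1 0) * (z 0 0 + z 1 0) = 0 := by
    rw [hb] at e00
    linear_combination e00
  have h1 : (z 1 0)⁻¹ * z 1 0 = 1 := inv_mul_cancel₀ hc
  have ha : (z 1 0)⁻¹ * z 0 0 ∈ K := by
    rcases mul_eq_zero.mp hac with h | h
    · have : z 0 0 = z 1 0 := by linear_combination h
      rw [this, h1]; exact one_mem K
    · have : z 0 0 = - z 1 0 := by linear_combination h
      rw [this, mul_neg, h1]; exact neg_mem (one_mem K)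
  refine ⟨(z 1 0)⁻¹, inv_ne_zero hc, ha, ?_, ?_, ?_⟩
  · rw [hb, mul_neg, h1]; exact neg_mem (one_mem K)
  · rw [h1]; exact one_mem K
  · rw [← had]; exact ha

theorem S4_into_PK [Finite F] (h2 : (2 : F) ≠ 0) {M : Subgroup (PSL2 F)}
    (e : M ≃* Equiv.Perm (Fin 4)) (K : Subfield F) :
    ∃ ψ : SL2 F ≃* SL2 F, (pre M).map ψ.toMonoidHom ≤ PK K := by
  obtain ⟨f1, f2, f3, f4, f5, f6⟩ := s4_facts
  obtain ⟨z, -, hz⟩ := exists_lift (F := F) e c4
  obtain ⟨h, -, hhb, hh3⟩ := exists_lift_cube (F := F) (e.symm d4) (by rw [← map_pow, f3, map_one])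
  have hx : proj F (z ^ 2) = e.symm (c4 ^ 2) := by rw [map_pow, hz, map_pow]; rfl
  have t1 : tr (z ^ 2) = 0 := by
    have := cheb_of_lift e hx (n := 1) f1 f2
    rwa [cheb_two] at this
  have t2 : tr h = -1 := tr_of_cube hh3 (not_mem_center_of_lift e hhb f4)
  have t3 : tr (z ^ 2 * h) ^ 2 = 1 := by
    have := cheb_of_lift e (w := z ^ 2 * h) (c := c4 ^ 2 * d4)
      (by rw [map_mul, hx, hhb, map_mul]; rfl) (n := 2) f5 f6
    rw [cheb_three] at this
    linear_combination this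
  have hK : tr (z ^ 2 * h) ∈ K := by
    have h5 : (tr (z ^ 2 * h) - 1) * (tr (z ^ 2 * h) + 1) = 0 := by linear_combination t3
    rcases mul_eq_zero.mp h5 with h6 | h6
    · have : tr (z ^ 2 * h) = 1 := by linear_combination h6
      rw [this]; exact one_mem K
    · have : tr (z ^ 2 * h) = -1 := by linear_combination h6
      rw [this]; exact neg_mem (one_mem K)
  obtain ⟨ψ, h5, h6⟩ := pair_into_SLK h2 K t1 (by rw [t2]; exact neg_mem (one_mem K)) hK
    (by rw [t2, t3]; exact two_ne h2)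
  refine ⟨ψ, ?_⟩
  have hneg : (-1 : SL2 F) ∈ Subgroup.closure ({z, h} : Set (SL2 F)) := by
    rw [← sq_eq_neg_one_iff.mpr t1]
    have : z ∈ Subgroup.closure ({z, h} : Set (SL2 F)) := Subgroup.subset_closure (by simp)
    exact mul_mem (pow_mem this 2) (pow_mem this 2)
  rw [pre_eq_closure e s4_gen hz hhb hneg]
  apply map_closure_pair_le
  · apply mem_PK_of_sq_eq_x0
    rw [← map_pow, h5]
  · exact SLK_le_PK K h6

theorem A5_into_SLK [Finite F] (h2 : (2 : F) ≠ 0) {M : Subgroup (PSL2 F)}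
    (e : M ≃* alternatingGroup (Fin 5)) :
    ∃ t : F, t ^ 4 - 3 * t ^ 2 + 1 = 0 ∧
      ∃ ψ : SL2 F ≃* SL2 F, (pre M).map ψ.toMonoidHom ≤ SLK (Subfield.closure {t}) := by
  obtain ⟨f1, f2, -, -, -, -⟩ := a5_facts
  obtain ⟨f3, f4, f5, f6⟩ := a5_facts'
  obtain ⟨x, h, -, -, hxa, hhb, t1, t2⟩ := exists_pair (F := F) e f1 f2 f3 f4
  have t3 : tr (x * h) ^ 4 - 3 * tr (x * h) ^ 2 + 1 = 0 := by
    have := cheb_of_lift e (w := x * h) (c := a5 * e5) (by rw [map_mul, hxa, hhb, map_mul]; rfl)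
      (n := 4) f5 f6
    rwa [cheb_five] at this
  refine ⟨tr (x * h), t3, ?_⟩
  have hN : tr h ^ 2 + tr (x * h) ^ 2 - 4 ≠ 0 := by
    rw [t2]
    intro h5
    have h6 : tr (x * h) ^ 2 = 3 := by linear_combination h5
    have : tr (x * h) ^ 4 = 9 := by
      have : tr (x * h) ^ 4 = (tr (x * h) ^ 2) ^ 2 := by ring
      rw [this, h6]; norm_num
    rw [this, h6] at t3
    exact one_ne_zero (α := F) (by linear_combination t3)
  obtain ⟨ψ, h5, h6⟩ := pair_into_SLK h2 (Subfield.closure {tr (x * h)}) t1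
    (by rw [t2]; exact neg_mem (one_mem _)) (Subfield.subset_closure (by simp)) hN
  refine ⟨ψ, ?_⟩
  rw [pre_eq_closure e a5_gen hxa hhb (neg_one_mem_closure t1)]
  exact map_closure_pair_le (by rw [h5]; exact x0_mem_SLK _) h6

end Cfsg.Agent.Lib.Helper41Lift
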