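import Mathlib
import Cfsg.Agent.Lib.Helper41Lift
import Cfsg.Agent.Lib.Helper41Dic

/-!
# Klein four-subgroups of `PSL₂(q)`, `q` odd
-/

set_option autoImplicit false

namespace Cfsg.Agent.Lib.Helper41Klein

open Matrix Cfsg.Agent.Lib.Helper46SL2 Cfsg.Agent.Lib.Helper41SL2 Cfsg.Agent.Lib.Helper41Dk
  Cfsg.Agent.Lib.Helper41Pair Cfsg.Agent.Lib.Helper41Gen Cfsg.Agent.Lib.Helper41Lift

variable {F : Type*} [Field F]

local notation "SL2" => Matrix.SpecialLinearGroup (Fin 2)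
local notation "PSL2" => Matrix.ProjectiveSpecialLinearGroup (Fin 2)

/-- quaternion pairs -/
def QP (x y : SL2 F) : Prop := tr x = 0 ∧ y * x * y⁻¹ = x⁻¹

theorem neg_one_ne_one (h2 : (2 : F) ≠ 0) : (-1 : SL2 F) ≠ 1 := by
  intro h
  have := congrArg (fun g : SL2 F => g 0 0) h
  simp only [Helper46SL2.neg_apply, one_00] at this
  apply h2
  linear_combination -this

namespace QP

variable {x y : SL2 F}

theorem tr_y (h2 : (2 : F) ≠ 0) (h : QP x y) : tr y = 0 :=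
  tr_eq_zero_of_inverts (by rw [h.1]; exact zero_sq_ne_four h2) h.2

theorem sq_x (h : QP x y) : x * x = -1 := sq_eq_neg_one_iff.mpr h.1

theorem sq_y (h2 : (2 : F) ≠ 0) (h : QP x y) : y * y = -1 := sq_eq_neg_one_iff.mpr (h.tr_y h2)

theorem not_commute (h2 : (2 : F) ≠ 0) (h : QP x y) : ¬ Commute y x := by
  intro hc
  have h1 : y * x * y⁻¹ = x := by rw [hc.eq, mul_inv_cancel_right]
  rw [h.2] at h1
  have h3 : x * x = 1 := by
    nth_rewrite 1 [← h1]; exact inv_mul_cancel x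
  rw [h.sq_x] at h3
  exact neg_one_ne_one h2 h3

theorem orderOf_x (h2 : (2 : F) ≠ 0) (h : QP x y) : orderOf x = 2 * 2 := by
  have : Fact (Nat.Prime 2) := ⟨Nat.prime_two⟩
  have h1 := orderOf_eq_prime_pow (x := x) (p := 2) (n := 1)
    (by rw [pow_one, sq, h.sq_x]; exact neg_one_ne_one h2)
    (by
      have : x ^ 2 ^ (1 + 1) = (x * x) * (x * x) := by
        norm_num; rw [show (4 : ℕ) = 2 + 2 from rfl, pow_add, sq]
      rw [this, h.sq_x]; simp)
  rw [h1]; norm_num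

theorem not_mem_zpowers (h2 : (2 : F) ≠ 0) (h : QP x y) : y ∉ Subgroup.zpowers x := by
  intro hy
  obtain ⟨k, rfl⟩ := Subgroup.mem_zpowers_iff.mp hy
  exact h.not_commute h2 ((Commute.refl x).zpow_left k)

theorem not_mem_center_x (h2 : (2 : F) ≠ 0) (h : QP x y) : x ∉ Subgroup.center (SL2 F) := by
  intro hx
  exact h.not_commute h2 (Subgroup.mem_center_iff.mp hx y)

theorem not_mem_center_y (h2 : (2 : F) ≠ 0) (h : QP x y) : y ∉ Subgroup.center (SL2 F) := by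
  intro hy
  exact h.not_commute h2 (Subgroup.mem_center_iff.mp hy x).symm

theorem proj_x_ne (h2 : (2 : F) ≠ 0) (h : QP x y) : proj F x ≠ 1 := fun h1 =>
  h.not_mem_center_x h2 ((QuotientGroup.eq_one_iff _).mp h1)

theorem proj_y_ne (h2 : (2 : F) ≠ 0) (h : QP x y) : proj F y ≠ 1 := fun h1 =>
  h.not_mem_center_y h2 ((QuotientGroup.eq_one_iff _).mp h1)

theorem proj_ne (h2 : (2 : F) ≠ 0) (h : QP x y) : proj F x ≠ proj F y := by
  intro h1
  rcases (mk_eq_mk_iff x y).mp h1 with h3 | h3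
  · rw [h3] at h
    exact h.not_commute h2 (Commute.refl x)
  · apply h.not_commute h2
    rw [h3]
    exact (Commute.refl x).neg_left

end QP

theorem quat_sq : ∀ w : QuaternionGroup 2, w ^ 2 = 1 ∨ w ^ 2 = QuaternionGroup.a 2 := by decide

theorem isKleinFour_of {G : Type*} [Group G] (h4 : Nat.card G = 4) (hsq : ∀ g : G, g ^ 2 = 1) :
    IsKleinFour G := by
  refine ⟨h4, ?_⟩
  have h1 : Monoid.exponent G ∣ 2 := Monoid.exponent_dvd_of_forall_pow_eq_one hsq
  rcases (Nat.dvd_prime Nat.prime_two).mp h1 with h | h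
  · exfalso
    have := Monoid.exp_eq_one_iff.mp h
    have h5 : Nat.card G ≤ 1 := Finite.card_le_one_iff_subsingleton.mpr this
    omega
  · exact h

/-- the Klein four-group attached to a quaternion pair -/
theorem exists_klein [Fintype F] (h2 : (2 : F) ≠ 0) {x y : SL2 F} (h : QP x y) :
    ∃ V : Subgroup (PSL2 F), IsKleinFour V ∧ proj F x ∈ V ∧ proj F y ∈ V ∧
      Nonempty (pre V ≃* QuaternionGroup 2) := by
  have hord := h.orderOf_x h2
  have hy : y ^ 2 = x ^ 2 := by rw [sq, sq, h.sq_x, h.sq_y h2]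
  have hinj := Cfsg.Agent.Lib.Helper41Dic.quatHom_injective 2 x y hord hy h.2 (h.not_mem_zpowers h2)
  set f := Cfsg.Agent.Lib.Helper41Dic.quatHom 2 x y (hord ▸ pow_orderOf_eq_one x) hy h.2 with hf
  have hx1 : f (QuaternionGroup.a 1) = x := by
    rw [hf, Cfsg.Agent.Lib.Helper41Dic.quatHom_a]
    have := Cfsg.Agent.Lib.Helper41Dic.pw_natCast (2 * 2) x (hord ▸ pow_orderOf_eq_one x) 1
    simpa using this
  have hy1 : f (QuaternionGroup.xa 0) = y := by
    rw [hf, Cfsg.Agent.Lib.Helper41Dic.quatHom_xa]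
    simp
  have hxR : x ∈ f.range := ⟨_, hx1⟩
  have hyR : y ∈ f.range := ⟨_, hy1⟩
  have hZ : Subgroup.center (SL2 F) ≤ f.range := by
    intro z hz
    rcases mem_center_iff_eq.mp hz with rfl | rfl
    · exact one_mem _
    · rw [← h.sq_x]; exact mul_mem hxR hxR
  have hpre : pre (f.range.map (proj F)) = f.range := pre_map_proj hZ
  have hcard : Nat.card f.range = 8 := by
    rw [← Nat.card_congr (MonoidHom.ofInjective hinj).toEquiv,
      Cfsg.Agent.Lib.Helper41Dic.card_quaternion]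
  refine ⟨f.range.map (proj F), ?_, ⟨x, hxR, rfl⟩, ⟨y, hyR, rfl⟩, ?_⟩
  · apply isKleinFour_of
    · apply card_of_card_pre
      rw [hpre, hcard, ee_eq_two (odd_card_of_two_ne_zero h2)]
    · rintro ⟨_, g, ⟨w, rfl⟩, rfl⟩
      apply Subtype.ext
      change (proj F (f w)) ^ 2 = 1
      rw [← map_pow, ← map_pow]
      apply (QuotientGroup.eq_one_iff _).mpr
      rcases quat_sq w with h5 | h5
      · rw [h5, map_one]; exact one_mem _
      · have : (QuaternionGroup.a 2 : QuaternionGroup 2) = QuaternionGroup.a 1 * QuaternionGroup.a 1 := by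
          decide
        rw [h5, this, map_mul, hx1, h.sq_x]
        exact mem_center_iff_eq.mpr (Or.inr rfl)
  · rw [hpre]
    exact ⟨(MonoidHom.ofInjective hinj).symm⟩

theorem klein_le {G : Type*} [Group G] {V W : Subgroup G} (hV : IsKleinFour V) {a b : G}
    (ha : a ∈ V) (hb : b ∈ V) (ha' : a ∈ W) (hb' : b ∈ W) (ha1 : a ≠ 1) (hb1 : b ≠ 1)
    (hab : a ≠ b) : V ≤ W := by
  classical
  intro g hg
  have := IsKleinFour.instFinite (G := V)
  have := Fintype.ofFinite V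
  have h1 := IsKleinFour.eq_finset_univ (G := V) (x := ⟨a, ha⟩) (y := ⟨b, hb⟩)
    (fun h => ha1 (congrArg Subtype.val h)) (fun h => hb1 (congrArg Subtype.val h))
    (fun h => hab (congrArg Subtype.val h))
  have h2 : (⟨g, hg⟩ : V) ∈ ({⟨a, ha⟩ * ⟨b, hb⟩, ⟨a, ha⟩, ⟨b, hb⟩, 1} : Finset V) := by
    rw [h1]; exact Finset.mem_univ _
  simp only [Finset.mem_insert, Finset.mem_singleton] at h2
  rcases h2 with h | h | h | h
  · have := congrArg Subtype.val h
    rw [show g = a * b from this]; exact mul_mem ha' hb'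
  · have := congrArg Subtype.val h
    rw [show g = a from this]; exact ha'
  · have := congrArg Subtype.val h
    rw [show g = b from this]; exact hb'
  · have := congrArg Subtype.val h
    rw [show g = 1 from this]; exact one_mem _

theorem klein_unique {G : Type*} [Group G] {V W : Subgroup G} (hV : IsKleinFour V)
    (hW : IsKleinFour W) {a b : G}
    (ha : a ∈ V) (hb : b ∈ V) (ha' : a ∈ W) (hb' : b ∈ W) (ha1 : a ≠ 1) (hb1 : b ≠ 1)
    (hab : a ≠ b) : V = W :=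
  le_antisymm (klein_le hV ha hb ha' hb' ha1 hb1 hab) (klein_le hW ha' hb' ha hb ha1 hb1 hab)

theorem d2_facts : (DihedralGroup.r 1 : DihedralGroup 2) ^ 2 = 1 ∧
    (DihedralGroup.r 1 : DihedralGroup 2) ≠ 1 ∧ (DihedralGroup.sr 0 : DihedralGroup 2) ^ 2 = 1 ∧
    (DihedralGroup.sr 0 : DihedralGroup 2) ≠ 1 ∧
    ((DihedralGroup.r 1 : DihedralGroup 2) * DihedralGroup.sr 0) ^ 2 = 1 ∧
    (DihedralGroup.r 1 : DihedralGroup 2) * DihedralGroup.sr 0 ≠ 1 := by decide

/-- `x² = y² = (xy)² = -1` gives a quaternion pair -/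
theorem QP_of_tr {x y : SL2 F} (hx : tr x = 0) (hy : tr y = 0) (hxy : tr (x * y) = 0) : QP x y := by
  refine ⟨hx, ?_⟩
  have h1 := sq_eq_neg_one_iff.mpr hx
  have h2 := sq_eq_neg_one_iff.mpr hy
  have h3 := sq_eq_neg_one_iff.mpr hxy
  have hxi : x⁻¹ = -x := by
    rw [inv_eq_iff_mul_eq_one, mul_neg, h1, neg_neg]
  have hyi : y⁻¹ = -y := by
    rw [inv_eq_iff_mul_eq_one, mul_neg, h2, neg_neg]
  -- `y x y = x`
  have h4 : y * x * y = x := by
    have : x * (y * x * y) = x * x := by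
      rw [h1, ← h3]; group
    exact mul_left_cancel this
  rw [hyi, hxi, mul_neg, h4]

theorem exists_QP_of_klein {V : Subgroup (PSL2 F)} (hV : IsKleinFour V) :
    ∃ x y : SL2 F, QP x y ∧ proj F x ∈ V ∧ proj F y ∈ V := by
  obtain ⟨e⟩ := IsKleinFour.nonempty_mulEquiv (G₁ := V) (G₂ := DihedralGroup 2)
  obtain ⟨f1, f2, f3, f4, f5, f6⟩ := d2_facts
  obtain ⟨x, hx, hxa⟩ := exists_lift (F := F) e (DihedralGroup.r 1)
  obtain ⟨y, hy, hyb⟩ := exists_lift (F := F) e (DihedralGroup.sr 0)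
  refine ⟨x, y, QP_of_tr ?_ ?_ ?_, hx, hy⟩
  · have := cheb_of_lift e hxa (n := 1) f1 f2
    rwa [cheb_two] at this
  · have := cheb_of_lift e hyb (n := 1) f3 f4
    rwa [cheb_two] at this
  · have := cheb_of_lift e (w := x * y) (by rw [map_mul, hxa, hyb, map_mul]; rfl) (n := 1) f5 f6
    rwa [cheb_two] at this

/-- the set of quaternion pairs -/
def TT (F : Type*) [Field F] : Type _ := {t : SL2 F × SL2 F // QP t.1 t.2}

/-- the number of quaternion pairs -/
theorem card_TT [Fintype F] (h2 : (2 : F) ≠ 0) : Nat.card (TT F) = Nat.card (SL2 F) := by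
  classical
  let X0 := {x : SL2 F // tr x = 0}
  have e1 : TT F ≃ Σ x : X0, {y : SL2 F // y * x.1 * y⁻¹ = x.1⁻¹} :=
    { toFun := fun t => ⟨⟨t.1.1, t.2.1⟩, ⟨t.1.2, t.2.2⟩⟩
      invFun := fun s => ⟨(s.1.1, s.2.1), s.1.2, s.2.2⟩
      left_inv := fun t => rfl
      right_inv := fun s => rfl }
  let f : SL2 F → X0 := fun g => ⟨g * x0 * g⁻¹, by rw [tr_conj, tr_x0]⟩
  have e2 : (Σ x : X0, {g : SL2 F // f g = x}) ≃ SL2 F := Equiv.sigmaFiberEquiv f
  rw [Nat.card_congr e1, ← Nat.card_congr e2, Nat.card_sigma, Nat.card_sigma]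
  apply Finset.sum_congr rfl
  rintro ⟨x, hx⟩ -
  obtain ⟨g0, hg0⟩ := isConj_iff.mp (isConj_of_tr_eq_zero h2 tr_x0 hx)
  obtain ⟨y1, hy1⟩ := exists_inverting (A := x) (by rw [hx]; exact zero_sq_ne_four h2)
  apply Nat.card_congr
  refine
    { toFun := fun y => ⟨y1⁻¹ * y.1 * g0, ?_⟩
      invFun := fun g => ⟨y1 * g.1 * g0⁻¹, ?_⟩
      left_inv := fun y => by apply Subtype.ext; simp only; group
      right_inv := fun g => by apply Subtype.ext; simp only; group }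
  · apply Subtype.ext
    change y1⁻¹ * y.1 * g0 * x0 * (y1⁻¹ * y.1 * g0)⁻¹ = x
    have h5 : y1⁻¹ * y.1 * g0 * x0 * (y1⁻¹ * y.1 * g0)⁻¹ =
        y1⁻¹ * (y.1 * (g0 * x0 * g0⁻¹) * y.1⁻¹) * y1 := by group
    have h6 : y.1 * x * y.1⁻¹ = x⁻¹ := y.2
    rw [h5, hg0, h6, ← hy1]; group
  · have h7 : g.1 * x0 * g.1⁻¹ = x := congrArg Subtype.val g.2
    change y1 * g.1 * g0⁻¹ * x * (y1 * g.1 * g0⁻¹)⁻¹ = x⁻¹
    have h5 : y1 * g.1 * g0⁻¹ * x * (y1 * g.1 * g0⁻¹)⁻¹ =
        y1 * (g.1 * (g0⁻¹ * x * g0) * g.1⁻¹) * y1⁻¹ := by group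
    have h6 : g0⁻¹ * x * g0 = x0 := by rw [← hg0]; group
    rw [h5, h6, h7, hy1]

/-- quaternion pairs lying above `V` -/
def PV (V : Subgroup (PSL2 F)) : Type _ :=
  {t : SL2 F × SL2 F // QP t.1 t.2 ∧ proj F t.1 ∈ V ∧ proj F t.2 ∈ V}

set_option maxRecDepth 100000 in
theorem card_quat_pairs : Fintype.card {ab : QuaternionGroup 2 × QuaternionGroup 2 //
    ab.1 ^ 2 ≠ 1 ∧ ab.2 * ab.1 * ab.2⁻¹ = ab.1⁻¹} = 24 := by decide

theorem pre_equiv_quat [Fintype F] (h2 : (2 : F) ≠ 0) {V : Subgroup (PSL2 F)} (hV : IsKleinFour V) :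
    Nonempty (pre V ≃* QuaternionGroup 2) := by
  obtain ⟨x, y, hq, hx, hy⟩ := exists_QP_of_klein hV
  obtain ⟨V', hV', hx', hy', he⟩ := exists_klein h2 hq
  rw [klein_unique hV hV' hx hy hx' hy' (hq.proj_x_ne h2) (hq.proj_y_ne h2) (hq.proj_ne h2)]
  exact he

theorem tr_eq_zero_iff_of_mem (h2 : (2 : F) ≠ 0) {V : Subgroup (PSL2 F)} (hV : IsKleinFour V)
    {x : SL2 F} (hx : x ∈ pre V) : tr x = 0 ↔ x ^ 2 ≠ 1 := by
  constructor
  · intro h
    rw [sq, sq_eq_neg_one_iff.mpr h]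
    exact neg_one_ne_one h2
  · intro h
    have hxZ : x ∉ Subgroup.center (SL2 F) := by
      intro hz
      apply h
      rcases mem_center_iff_eq.mp hz with rfl | rfl <;> simp
    have h1 : x ^ (1 + 1) ∈ Subgroup.center (SL2 F) := by
      apply (QuotientGroup.eq_one_iff _).mp
      change proj F (x ^ 2) = 1
      have h3 := IsKleinFour.mul_self (⟨proj F x, hx⟩ : V)
      have h4 : proj F x * proj F x = 1 := congrArg Subtype.val h3
      rw [map_pow, sq, h4]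
    have := cheb_eq_zero_of_pow_mem_center hxZ h1
    rwa [cheb_two] at this

theorem card_PV [Fintype F] (h2 : (2 : F) ≠ 0) {V : Subgroup (PSL2 F)} (hV : IsKleinFour V) :
    Nat.card (PV V) = 24 := by
  obtain ⟨e8⟩ := pre_equiv_quat h2 hV
  have e1 : PV V ≃ {t : pre V × pre V // QP (t.1 : SL2 F) (t.2 : SL2 F)} :=
    { toFun := fun t => ⟨(⟨t.1.1, t.2.2.1⟩, ⟨t.1.2, t.2.2.2⟩), t.2.1⟩
      invFun := fun t => ⟨(t.1.1.1, t.1.2.1), t.2, t.1.1.2, t.1.2.2⟩
      left_inv := fun t => rfl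
      right_inv := fun t => rfl }
  have e2 : {t : pre V × pre V // QP (t.1 : SL2 F) (t.2 : SL2 F)} ≃
      {ab : QuaternionGroup 2 × QuaternionGroup 2 //
        ab.1 ^ 2 ≠ 1 ∧ ab.2 * ab.1 * ab.2⁻¹ = ab.1⁻¹} := by
    apply Equiv.subtypeEquiv (Equiv.prodCongr e8.toEquiv e8.toEquiv)
    rintro ⟨a, b⟩
    change QP (a : SL2 F) (b : SL2 F) ↔ (e8 a) ^ 2 ≠ 1 ∧ e8 b * e8 a * (e8 b)⁻¹ = (e8 a)⁻¹
    rw [← map_pow, ← map_inv, ← map_inv, ← map_mul, ← map_mul, e8.injective.eq_iff,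
      Ne, ← map_one e8, e8.injective.eq_iff, QP, tr_eq_zero_iff_of_mem h2 hV a.2]
    constructor
    · rintro ⟨h5, h6⟩
      exact ⟨fun h => h5 (congrArg Subtype.val h), Subtype.ext h6⟩
    · rintro ⟨h5, h6⟩
      exact ⟨fun h => h5 (Subtype.ext h), congrArg Subtype.val h6⟩
  rw [Nat.card_congr (e1.trans e2), Nat.card_eq_fintype_card, card_quat_pairs]

/-- the number of Klein four-subgroups -/
theorem card_klein [Fintype F] (h2 : (2 : F) ≠ 0) :
    12 * Nat.card {V : Subgroup (PSL2 F) // IsKleinFour V} = Nat.card (PSL2 F) := by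
  classical
  have hex : ∀ t : TT F, ∃ V : {V : Subgroup (PSL2 F) // IsKleinFour V},
      proj F t.1.1 ∈ V.1 ∧ proj F t.1.2 ∈ V.1 := by
    intro t
    obtain ⟨V, hV, h5, h6, -⟩ := exists_klein h2 t.2
    exact ⟨⟨V, hV⟩, h5, h6⟩
  choose Φ hΦ using hex
  have e1 : (Σ V : {V : Subgroup (PSL2 F) // IsKleinFour V}, {t : TT F // Φ t = V}) ≃ TT F :=
    Equiv.sigmaFiberEquiv Φ
  have hmem : ∀ (V : {V : Subgroup (PSL2 F) // IsKleinFour V}) (t : TT F), Φ t = V →
      proj F t.1.1 ∈ V.1 ∧ proj F t.1.2 ∈ V.1 := by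
    rintro V t rfl
    exact hΦ t
  have e2 : ∀ V : {V : Subgroup (PSL2 F) // IsKleinFour V}, {t : TT F // Φ t = V} ≃ PV V.1 := by
    intro V
    exact
      { toFun := fun t => ⟨t.1.1, t.1.2, hmem V t.1 t.2⟩
        invFun := fun t => ⟨⟨t.1, t.2.1⟩, by
          apply Subtype.ext
          exact klein_unique (Φ ⟨t.1, t.2.1⟩).2 V.2 (hΦ ⟨t.1, t.2.1⟩).1 (hΦ ⟨t.1, t.2.1⟩).2
            t.2.2.1 t.2.2.2 (t.2.1.proj_x_ne h2) (t.2.1.proj_y_ne h2) (t.2.1.proj_ne h2)⟩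
        left_inv := fun t => rfl
        right_inv := fun t => rfl }
  have h5 : Nat.card (TT F) = 24 * Nat.card {V : Subgroup (PSL2 F) // IsKleinFour V} := by
    have := Fintype.ofFinite {V : Subgroup (PSL2 F) // IsKleinFour V}
    have : Finite (TT F) := inferInstanceAs (Finite {t : SL2 F × SL2 F // QP t.1 t.2})
    rw [← Nat.card_congr e1, Nat.card_sigma]
    have : ∀ V : {V : Subgroup (PSL2 F) // IsKleinFour V}, Nat.card {t : TT F // Φ t = V} = 24 :=
      fun V => by rw [Nat.card_congr (e2 V), card_PV h2 V.2]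
    simp only [this, Finset.sum_const, Finset.card_univ, smul_eq_mul, Nat.card_eq_fintype_card]
    ring
  rw [card_TT h2, card_SL2_eq, ee_eq_two (odd_card_of_two_ne_zero h2)] at h5
  omega

end Cfsg.Agent.Lib.Helper41Klein
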