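import Mathlib
import Cfsg.Agent.Lib.Helper41Klein
import Cfsg.Agent.S0803

/-!
# Conjugacy classes of Klein four-subgroups of `PSL₂(q)`, `q` odd
-/

set_option autoImplicit false

namespace Cfsg.Agent.Lib.Helper41Klein

open Matrix Cfsg.Agent.Lib.Helper46SL2 Cfsg.Agent.Lib.Helper41SL2 Cfsg.Agent.Lib.Helper41Dk
  Cfsg.Agent.Lib.Helper41Pair Cfsg.Agent.Lib.Helper41Gen Cfsg.Agent.Lib.Helper41Lift

variable {F : Type*} [Field F]

local notation "SL2" => Matrix.SpecialLinearGroup (Fin 2)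
local notation "PSL2" => Matrix.ProjectiveSpecialLinearGroup (Fin 2)

/-- `ψ` is conjugation by the invertible matrix `C` -/
def ConjBy (ψ : SL2 F ≃* SL2 F) (C : Matrix (Fin 2) (Fin 2) F) : Prop :=
  C.det ≠ 0 ∧ ∀ g : SL2 F, C * g.1 = (ψ g).1 * C

theorem ConjBy.conj (c : SL2 F) : ConjBy (MulAut.conj c) c.1 := by
  refine ⟨by rw [c.2]; exact one_ne_zero, fun g => ?_⟩
  have : c * g = (MulAut.conj c g) * c := by
    rw [MulAut.conj_apply]; group
  exact congrArg Subtype.val this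

theorem ConjBy.conjM {C D : Matrix (Fin 2) (Fin 2) F} (h1 : C * D = 1) (h2 : D * C = 1) :
    ConjBy (conjM C D h1 h2) C := by
  refine ⟨?_, fun g => ?_⟩
  · intro h
    have := congrArg Matrix.det h1
    rw [det_mul, h, zero_mul, det_one] at this
    exact zero_ne_one this
  · change C * g.1 = C * g.1 * D * C
    rw [Matrix.mul_assoc (C * g.1), h2, Matrix.mul_one]

theorem ConjBy.trans {ψ1 ψ2 : SL2 F ≃* SL2 F} {C1 C2 : Matrix (Fin 2) (Fin 2) F}
    (h1 : ConjBy ψ1 C1) (h2 : ConjBy ψ2 C2) : ConjBy (ψ1.trans ψ2) (C2 * C1) := by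
  refine ⟨by rw [det_mul]; exact mul_ne_zero h2.1 h1.1, fun g => ?_⟩
  change C2 * C1 * g.1 = (ψ2 (ψ1 g)).1 * (C2 * C1)
  rw [Matrix.mul_assoc, h1.2, ← Matrix.mul_assoc, h2.2, Matrix.mul_assoc]

theorem ConjBy.symm {ψ : SL2 F ≃* SL2 F} {C : Matrix (Fin 2) (Fin 2) F} (h : ConjBy ψ C) :
    ConjBy ψ.symm C.adjugate := by
  refine ⟨by rw [det_adjugate]; exact pow_ne_zero _ h.1, fun g => ?_⟩
  have h1 := h.2 (ψ.symm g)
  rw [MulEquiv.apply_symm_apply] at h1
  have h2 : C.det • (C.adjugate * g.1) = C.det • ((ψ.symm g).1 * C.adjugate) := by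
    calc C.det • (C.adjugate * g.1) = C.adjugate * g.1 * (C * C.adjugate) := by
          rw [mul_adjugate, Matrix.mul_smul, Matrix.mul_one]
      _ = C.adjugate * (g.1 * C) * C.adjugate := by simp only [Matrix.mul_assoc]
      _ = C.adjugate * (C * (ψ.symm g).1) * C.adjugate := by rw [h1]
      _ = (C.adjugate * C) * (ψ.symm g).1 * C.adjugate := by simp only [Matrix.mul_assoc]
      _ = C.det • ((ψ.symm g).1 * C.adjugate) := by
          rw [adjugate_mul, Matrix.smul_mul, Matrix.one_mul, Matrix.smul_mul]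
  exact smul_right_injective _ h.1 h2

theorem ConjBy.exists_conj {ψ : SL2 F ≃* SL2 F} {C : Matrix (Fin 2) (Fin 2) F} (h : ConjBy ψ C)
    (hsq : IsSquare C.det) : ∃ g : SL2 F, ∀ w, ψ w = g * w * g⁻¹ := by
  obtain ⟨δ, hδ⟩ := hsq
  have hδ0 : δ ≠ 0 := by
    rintro rfl
    apply h.1
    rw [hδ, mul_zero]
  have hdet : (δ⁻¹ • C).det = 1 := by
    rw [det_smul, hδ, Fintype.card_fin]; field_simp
  refine ⟨⟨δ⁻¹ • C, hdet⟩, fun w => ?_⟩
  apply eq_mul_inv_of_mul_eq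
  apply Subtype.ext
  change (ψ w).1 * (δ⁻¹ • C) = (δ⁻¹ • C) * w.1
  rw [Matrix.mul_smul, Matrix.smul_mul, h.2]

theorem pair_conj_x0' (h2 : (2 : F) ≠ 0) {h h' : SL2 F} (hτ : tr h = tr h')
    (ht : tr (x0 * h) = tr (x0 * h')) (hN : tr h ^ 2 + tr (x0 * h) ^ 2 - 4 ≠ 0) :
    ∃ (ψ : SL2 F ≃* SL2 F) (C : Matrix (Fin 2) (Fin 2) F), ConjBy ψ C ∧ ψ x0 = x0 ∧ ψ h = h' := by
  rw [tr_x0_mul, tr_x0_mul] at ht
  rw [tr_x0_mul] at hN
  obtain ⟨s, r, hsr, e0, e1, e2, e3⟩ := intertw h2 (det2 h) (det2 h') hτ ht hN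
  refine ⟨conjM _ _ (rot_mul_inv hsr) (rot_inv_mul hsr), _, ConjBy.conjM _ _, ?_, ?_⟩
  · apply conjM_eq
    ext i j
    fin_cases i <;> fin_cases j <;>
      simp [Matrix.mul_apply, Fin.sum_univ_two, x0, mk2]
  · apply conjM_eq
    ext i j
    fin_cases i <;> fin_cases j <;> simp only [Matrix.mul_apply, Fin.sum_univ_two]
    · change s * h 0 0 + -r * h 1 0 = h' 0 0 * s + h' 0 1 * r
      linear_combination e0
    · change s * h 0 1 + -r * h 1 1 = h' 0 0 * -r + h' 0 1 * s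
      linear_combination e1
    · change r * h 0 0 + s * h 1 0 = h' 1 0 * s + h' 1 1 * r
      linear_combination e2
    · change r * h 0 1 + s * h 1 1 = h' 1 0 * -r + h' 1 1 * s
      linear_combination e3

theorem pair_conj' [Finite F] (h2 : (2 : F) ≠ 0) {x h x' h' : SL2 F} (hx : tr x = 0)
    (hx' : tr x' = 0) (hτ : tr h = tr h') (ht : tr (x * h) = tr (x' * h'))
    (hN : tr h ^ 2 + tr (x * h) ^ 2 - 4 ≠ 0) :
    ∃ (ψ : SL2 F ≃* SL2 F) (C : Matrix (Fin 2) (Fin 2) F), ConjBy ψ C ∧ ψ x = x' ∧ ψ h = h' := by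
  obtain ⟨c, hc⟩ := isConj_iff.mp (isConj_of_tr_eq_zero h2 hx tr_x0)
  obtain ⟨c', hc'⟩ := isConj_iff.mp (isConj_of_tr_eq_zero h2 hx' tr_x0)
  have e1 : tr (x0 * (c * h * c⁻¹)) = tr (x * h) := by
    rw [← hc, ← tr_conj (x * h) c]; congr 1; group
  have e2 : tr (x0 * (c' * h' * c'⁻¹)) = tr (x' * h') := by
    rw [← hc', ← tr_conj (x' * h') c']; congr 1; group
  obtain ⟨ψ, C, hC, h5, h6⟩ := pair_conj_x0' h2 (h := c * h * c⁻¹) (h' := c' * h' * c'⁻¹)
    (by rw [tr_conj, tr_conj, hτ]) (by rw [e1, e2, ht]) (by rw [tr_conj, e1]; exact hN)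
  refine ⟨((MulAut.conj c).trans ψ).trans (MulAut.conj c').symm, _,
    ((ConjBy.conj c).trans hC).trans (ConjBy.conj c').symm, ?_, ?_⟩
  · change (MulAut.conj c').symm (ψ (c * x * c⁻¹)) = x'
    rw [hc, h5, MulEquiv.symm_apply_eq]
    exact hc'.symm
  · change (MulAut.conj c').symm (ψ (c * h * c⁻¹)) = h'
    rw [h6, MulEquiv.symm_apply_eq]
    rfl

theorem QP.tr_mul (h2 : (2 : F) ≠ 0) {x y : SL2 F} (h : QP x y) : tr (x * y) = 0 := by
  rw [← sq_eq_neg_one_iff]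
  have h1 : y * x = x⁻¹ * y := mul_inv_eq_iff_eq_mul.mp h.2
  calc x * y * (x * y) = x * (y * x) * y := by group
    _ = y * y := by rw [h1]; group
    _ = -1 := h.sq_y h2

theorem QP_conj [Finite F] (h2 : (2 : F) ≠ 0) {x y x' y' : SL2 F} (h : QP x y) (h' : QP x' y') :
    ∃ (ψ : SL2 F ≃* SL2 F) (C : Matrix (Fin 2) (Fin 2) F), ConjBy ψ C ∧ ψ x = x' ∧ ψ y = y' := by
  apply pair_conj' h2 h.1 h'.1 ((h.tr_y h2).trans (h'.tr_y h2).symm)
    ((h.tr_mul h2).trans (h'.tr_mul h2).symm)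
  rw [h.tr_y h2, h.tr_mul h2]
  intro h5
  have : (2 : F) * 2 = 0 := by linear_combination -h5
  exact h2 (mul_self_eq_zero.mp this)

/-- the image of a Klein four-group under an isomorphism -/
theorem isKleinFour_map {G : Type*} [Group G] {V : Subgroup G} (hV : IsKleinFour V) (φ : G ≃* G) :
    IsKleinFour (V.map φ.toMonoidHom) := by
  have e : V ≃* V.map φ.toMonoidHom := V.equivMapOfInjective _ φ.injective
  exact ⟨by rw [← Nat.card_congr e.toEquiv, hV.card_four],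
    by rw [← Monoid.exponent_eq_of_mulEquiv e, hV.exponent_two]⟩

/-- if the pairs are conjugate in `SL₂` then the four-groups are conjugate in `PSL₂` -/
theorem klein_conj_of (h2 : (2 : F) ≠ 0) {V W : Subgroup (PSL2 F)} (hV : IsKleinFour V)
    (hW : IsKleinFour W) {x y x' y' : SL2 F} (hx : proj F x ∈ V) (hy : proj F y ∈ V)
    (h' : QP x' y') (hx' : proj F x' ∈ W) (hy' : proj F y' ∈ W) {g : SL2 F}
    (h5 : g * x * g⁻¹ = x') (h6 : g * y * g⁻¹ = y') :
    W = V.map (MulAut.conj (proj F g)).toMonoidHom := by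
  apply klein_unique hW (isKleinFour_map hV _) hx' hy' _ _ (h'.proj_x_ne h2) (h'.proj_y_ne h2)
    (h'.proj_ne h2)
  · refine ⟨proj F x, hx, ?_⟩
    change proj F g * proj F x * (proj F g)⁻¹ = proj F x'
    rw [← h5, map_mul, map_mul, map_inv]
  · refine ⟨proj F y, hy, ?_⟩
    change proj F g * proj F y * (proj F g)⁻¹ = proj F y'
    rw [← h6, map_mul, map_mul, map_inv]

theorem isSquare_mul_of_not [Fintype F] {a b : F} (ha : ¬ IsSquare a) (hb : ¬ IsSquare b) :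
    IsSquare (a * b) := by
  classical
  have ha0 : a ≠ 0 := by rintro rfl; exact ha ⟨0, by simp⟩
  have hb0 : b ≠ 0 := by rintro rfl; exact hb ⟨0, by simp⟩
  rw [← quadraticChar_one_iff_isSquare (mul_ne_zero ha0 hb0), map_mul,
    quadraticChar_neg_one_iff_not_isSquare.mpr ha, quadraticChar_neg_one_iff_not_isSquare.mpr hb]
  norm_num

/-- conjugation by `1 + x` -/
theorem exists_theta (h2 : (2 : F) ≠ 0) {x y : SL2 F} (h : QP x y) :
    ∃ (θ : SL2 F ≃* SL2 F) (C : Matrix (Fin 2) (Fin 2) F), ConjBy θ C ∧ C.det = 2 ∧ θ x = x ∧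
      θ y = x * y := by
  have hxx : x.1 * x.1 = -1 := by
    have := congrArg Subtype.val h.sq_x
    simpa using this
  have h1 : (1 + x.1) * ((2 : F)⁻¹ • (1 - x.1)) = 1 := by
    rw [Matrix.mul_smul]
    have : (1 + x.1) * (1 - x.1) = (2 : F) • (1 : Matrix (Fin 2) (Fin 2) F) := by
      rw [add_mul, mul_sub, mul_sub, hxx]
      simp only [Matrix.one_mul, Matrix.mul_one]
      rw [two_smul]; abel
    rw [this, smul_smul, inv_mul_cancel₀ h2, one_smul]
  have h1' : ((2 : F)⁻¹ • (1 - x.1)) * (1 + x.1) = 1 := by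
    rw [Matrix.smul_mul]
    have : (1 - x.1) * (1 + x.1) = (2 : F) • (1 : Matrix (Fin 2) (Fin 2) F) := by
      rw [sub_mul, mul_add, mul_add, hxx]
      simp only [Matrix.one_mul, Matrix.mul_one]
      rw [two_smul]; abel
    rw [this, smul_smul, inv_mul_cancel₀ h2, one_smul]
  refine ⟨conjM _ _ h1 h1', _, ConjBy.conjM h1 h1', ?_, ?_, ?_⟩
  · rw [det_fin_two]
    have hd := det2 x
    have ht : x 0 0 + x 1 1 = 0 := h.1
    simp only [Matrix.add_apply, Matrix.one_apply_eq, Matrix.one_apply_ne (show (0 : Fin 2) ≠ 1 by decide),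
      Matrix.one_apply_ne (show (1 : Fin 2) ≠ 0 by decide)]
    change (1 + x 0 0) * (1 + x 1 1) - (0 + x 0 1) * (0 + x 1 0) = 2
    linear_combination hd + ht
  · apply conjM_eq
    rw [add_mul, mul_add, Matrix.one_mul, Matrix.mul_one]
  · apply conjM_eq
    have hxyx : x * y * x = y := by
      have h3 : y * x = x⁻¹ * y := mul_inv_eq_iff_eq_mul.mp h.2
      rw [mul_assoc, h3]; group
    have hxyx' : x.1 * y.1 * x.1 = y.1 := congrArg Subtype.val hxyx
    change (1 + x.1) * y.1 = (x.1 * y.1) * (1 + x.1)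
    rw [add_mul, mul_add, Matrix.one_mul, Matrix.mul_one, hxyx', add_comm]

/-- `q ≡ ±3 (mod 8)`: all four-groups are conjugate -/
theorem klein_conj_all [Fintype F] (h2 : (2 : F) ≠ 0) (hq : ¬ IsSquare (2 : F))
    {V W : Subgroup (PSL2 F)} (hV : IsKleinFour V) (hW : IsKleinFour W) :
    ∃ g : PSL2 F, W = V.map (MulAut.conj g).toMonoidHom := by
  obtain ⟨x, y, hq1, hx, hy⟩ := exists_QP_of_klein hV
  obtain ⟨x', y', hq2, hx', hy'⟩ := exists_QP_of_klein hW
  obtain ⟨ψ, C, hC, h5, h6⟩ := QP_conj h2 hq1 hq2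
  by_cases hsq : IsSquare C.det
  · obtain ⟨g, hg⟩ := hC.exists_conj hsq
    exact ⟨proj F g, klein_conj_of h2 hV hW hx hy hq2 hx' hy' (by rw [← hg, h5]) (by rw [← hg, h6])⟩
  · obtain ⟨θ, D, hD, hdet, h7, h8⟩ := exists_theta h2 hq1
    have hCD := hD.trans hC
    obtain ⟨g, hg⟩ := hCD.exists_conj (by
      rw [det_mul, hdet]; exact isSquare_mul_of_not hsq hq)
    have h9 : g * x * g⁻¹ = x' := by
      rw [← hg]; change ψ (θ x) = x'; rw [h7, h5]
    have h10 : g * y * g⁻¹ = x' * y' := by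
      rw [← hg]; change ψ (θ y) = x' * y'; rw [h8, map_mul, h5, h6]
    -- use the pair `(x, x⁻¹ y)`
    refine ⟨proj F g, klein_conj_of h2 hV hW (x := x) (y := x⁻¹ * y) hx ?_ hq2 hx' hy' h9 ?_⟩
    · rw [map_mul, map_inv]; exact mul_mem (inv_mem hx) hy
    · have : g * (x⁻¹ * y) * g⁻¹ = (g * x * g⁻¹)⁻¹ * (g * y * g⁻¹) := by group
      rw [this, h9, h10]; group

set_option maxRecDepth 100000 in
theorem n4_mul : ∀ a b : Equiv.Perm (Fin 4), (a ^ 2 = 1 ∧ Equiv.Perm.sign a = 1) →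
    (b ^ 2 = 1 ∧ Equiv.Perm.sign b = 1) → ((a * b) ^ 2 = 1 ∧ Equiv.Perm.sign (a * b) = 1) := by
  decide

/-- the normal four-group of `S₄` -/
def N4 : Subgroup (Equiv.Perm (Fin 4)) where
  carrier := {σ | σ ^ 2 = 1 ∧ Equiv.Perm.sign σ = 1}
  mul_mem' := fun {a b} ha hb => n4_mul a b ha hb
  one_mem' := ⟨one_pow 2, map_one _⟩
  inv_mem' := by
    rintro a ⟨h1, h2⟩
    exact ⟨by rw [inv_pow, h1, inv_one], by rw [map_inv, h2, inv_one]⟩

instance : DecidablePred (· ∈ N4) := fun σ =>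
  inferInstanceAs (Decidable (σ ^ 2 = 1 ∧ Equiv.Perm.sign σ = 1))

theorem card_N4 : Nat.card N4 = 4 := by
  rw [Nat.card_eq_fintype_card]; decide

theorem N4_conj (g a : Equiv.Perm (Fin 4)) (ha : a ∈ N4) : g * a * g⁻¹ ∈ N4 := by
  obtain ⟨h1, h2⟩ := ha
  refine ⟨?_, ?_⟩
  · rw [conj_pow, h1]; group
  · rw [map_mul, map_mul, map_inv, h2, mul_one, mul_inv_cancel]

/-- a generic counting argument -/
theorem exists_not_conj {X : Type*} [Group X] [Finite X] {V1 S : Subgroup X}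
    (hS : ∀ s ∈ S, V1.map (MulAut.conj s).toMonoidHom = V1) (P : Subgroup X → Prop)
    (hcount : S.index < Nat.card {V : Subgroup X // P V}) :
    ∃ V2, P V2 ∧ ¬ ∃ g : X, V2 = V1.map (MulAut.conj g).toMonoidHom := by
  by_contra hcon
  push Not at hcon
  choose g hg using hcon
  let f : {V : Subgroup X // P V} → X ⧸ S := fun V => QuotientGroup.mk (g V.1 V.2)
  have hf : Function.Injective f := by
    intro V W hVW
    have h1 : (g V.1 V.2)⁻¹ * g W.1 W.2 ∈ S := QuotientGroup.eq.mp hVW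
    apply Subtype.ext
    rw [hg V.1 V.2, hg W.1 W.2]
    have h2 : g W.1 W.2 = g V.1 V.2 * ((g V.1 V.2)⁻¹ * g W.1 W.2) := by group
    conv_rhs => rw [h2, map_mul]
    have h3 : (MulAut.conj (g V.1 V.2) * MulAut.conj ((g V.1 V.2)⁻¹ * g W.1 W.2)).toMonoidHom =
        (MulAut.conj (g V.1 V.2)).toMonoidHom.comp
          (MulAut.conj ((g V.1 V.2)⁻¹ * g W.1 W.2)).toMonoidHom := rfl
    rw [h3, ← Subgroup.map_map, hS _ h1]
  have := Nat.card_le_card_of_injective f hf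
  rw [← Subgroup.index_eq_card] at this
  omega

/-- `q ≡ ±1 (mod 8)`: exactly two classes of four-groups -/
theorem klein_two_classes [Fintype F] (h2 : (2 : F) ≠ 0) {S : Subgroup (PSL2 F)}
    (e : S ≃* Equiv.Perm (Fin 4)) :
    ∃ V₁ V₂ : Subgroup (PSL2 F), IsKleinFour V₁ ∧ IsKleinFour V₂ ∧
      (¬ ∃ g : PSL2 F, V₂ = V₁.map (MulAut.conj g).toMonoidHom) ∧
      ∀ W : Subgroup (PSL2 F), IsKleinFour W →
        (∃ g : PSL2 F, W = V₁.map (MulAut.conj g).toMonoidHom) ∨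
        (∃ g : PSL2 F, W = V₂.map (MulAut.conj g).toMonoidHom) := by
  set V1 : Subgroup (PSL2 F) := (N4.map e.symm.toMonoidHom).map S.subtype with hV1def
  have hmem : ∀ v, v ∈ V1 ↔ ∃ n ∈ N4, ((e.symm n : S) : PSL2 F) = v := by
    intro v
    constructor
    · rintro ⟨_, ⟨n, hn, rfl⟩, rfl⟩
      exact ⟨n, hn, rfl⟩
    · rintro ⟨n, hn, rfl⟩
      exact ⟨_, ⟨n, hn, rfl⟩, rfl⟩
  have hcard1 : Nat.card V1 = 4 := by
    rw [hV1def, Subgroup.card_map_of_injective S.subtype_injective]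
    have : Nat.card (N4.map e.symm.toMonoidHom) = Nat.card N4 :=
      Subgroup.card_map_of_injective e.symm.injective
    rw [this, card_N4]
  have hV1 : IsKleinFour V1 := by
    apply isKleinFour_of hcard1
    rintro ⟨v, hv⟩
    obtain ⟨n, hn, rfl⟩ := (hmem v).mp hv
    apply Subtype.ext
    change ((e.symm n : S) : PSL2 F) ^ 2 = 1
    rw [← Subgroup.coe_pow, ← map_pow, hn.1, map_one]; rfl
  have hnorm : ∀ s ∈ S, V1.map (MulAut.conj s).toMonoidHom = V1 := by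
    intro s hs
    apply Subgroup.eq_of_le_of_card_ge
    · rintro _ ⟨v, hv, rfl⟩
      obtain ⟨n, hn, rfl⟩ := (hmem v).mp hv
      rw [hmem]
      refine ⟨e ⟨s, hs⟩ * n * (e ⟨s, hs⟩)⁻¹, N4_conj _ _ hn, ?_⟩
      rw [map_mul, map_mul, map_inv, MulEquiv.symm_apply_apply]
      rfl
    · have : Nat.card (V1.map (MulAut.conj s).toMonoidHom) = Nat.card V1 :=
        Subgroup.card_map_of_injective (MulAut.conj s).injective
      rw [this]
  have hcount : S.index < Nat.card {V : Subgroup (PSL2 F) // IsKleinFour V} := by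
    have h5 := card_klein h2
    have h6 := S.card_mul_index
    have h7 : Nat.card S = 24 := by
      rw [Nat.card_congr e.toEquiv, Nat.card_eq_fintype_card]; rfl
    rw [h7] at h6
    have h8 : 0 < S.index := Nat.pos_of_ne_zero S.index_ne_zero_of_finite
    omega
  obtain ⟨V2, hV2, hnc⟩ := exists_not_conj hnorm (fun V => IsKleinFour V) hcount
  refine ⟨V1, V2, hV1, hV2, hnc, ?_⟩
  obtain ⟨x1, y1, hq1, hx1, hy1⟩ := exists_QP_of_klein hV1
  obtain ⟨x2, y2, hq2, hx2, hy2⟩ := exists_QP_of_klein hV2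
  obtain ⟨ψ21, C21, hC21, a5, a6⟩ := QP_conj h2 hq1 hq2
  have hns : ¬ IsSquare C21.det := by
    intro hsq
    obtain ⟨g, hg⟩ := hC21.exists_conj hsq
    exact hnc ⟨proj F g, klein_conj_of h2 hV1 hV2 hx1 hy1 hq2 hx2 hy2 (by rw [← hg, a5])
      (by rw [← hg, a6])⟩
  intro W hW
  obtain ⟨x', y', hq', hx', hy'⟩ := exists_QP_of_klein hW
  obtain ⟨ψ, C, hC, b5, b6⟩ := QP_conj h2 hq1 hq'
  by_cases hsq : IsSquare C.det
  · left
    obtain ⟨g, hg⟩ := hC.exists_conj hsq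
    exact ⟨proj F g, klein_conj_of h2 hV1 hW hx1 hy1 hq' hx' hy' (by rw [← hg, b5])
      (by rw [← hg, b6])⟩
  · right
    have hCC := hC21.symm.trans hC
    obtain ⟨g, hg⟩ := hCC.exists_conj (by
      rw [det_mul, det_adjugate, Fintype.card_fin]
      simpa using isSquare_mul_of_not hsq hns)
    refine ⟨proj F g, klein_conj_of h2 hV2 hW hx2 hy2 hq' hx' hy' ?_ ?_⟩
    · rw [← hg]
      change ψ (ψ21.symm x2) = x'
      rw [← a5, MulEquiv.symm_apply_apply, b5]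
    · rw [← hg]
      change ψ (ψ21.symm y2) = y'
      rw [← a6, MulEquiv.symm_apply_apply, b6]

end Cfsg.Agent.Lib.Helper41Klein
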