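import Mathlib
import Cfsg.Agent.Lib.Helper41Dk18

/-!
# Sylow arguments excluding small maximal subgroups
-/

set_option autoImplicit false

namespace Cfsg.Agent.Lib.Helper41SylArg

open Cfsg.Agent.Lib.Helper41Dk

variable {X : Type*} [Group X] [Finite X]

/-- two subgroups of the full `r`-power order are conjugate -/
theorem exists_conj_of_card {r k : ℕ} [Fact r.Prime] {P Q : Subgroup X} (hP : Nat.card P = r ^ k)
    (hQ : Nat.card Q = r ^ k) (hX : ¬ r ^ (k + 1) ∣ Nat.card X) :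
    ∃ g : X, Q = P.map (MulAut.conj g).toMonoidHom := by
  have hk : (Nat.card X).factorization r = k := by
    have h1 : r ^ k ∣ Nat.card X := hP ▸ Subgroup.card_subgroup_dvd_card P
    have hne : Nat.card X ≠ 0 := Nat.card_pos.ne'
    have h3 := (Nat.Prime.pow_dvd_iff_le_factorization Fact.out hne).mp h1
    have h2 : ¬ (k + 1 ≤ (Nat.card X).factorization r) := fun h =>
      hX ((Nat.Prime.pow_dvd_iff_le_factorization Fact.out hne).mpr h)
    omega
  let P' : Sylow r X := Sylow.ofCard P (by rw [hP, hk])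
  let Q' : Sylow r X := Sylow.ofCard Q (by rw [hQ, hk])
  obtain ⟨g, hg⟩ := MulAction.exists_smul_eq X P' Q'
  refine ⟨g, ?_⟩
  have h5 := congrArg Sylow.toSubgroup hg
  rw [Sylow.coe_subgroup_smul] at h5
  exact h5.symm

theorem exists_subgroup_le {r k : ℕ} [Fact r.Prime] {S : Subgroup X} (hS : r ^ k ∣ Nat.card S) :
    ∃ P : Subgroup X, P ≤ S ∧ Nat.card P = r ^ k := by
  obtain ⟨K, hK⟩ := Sylow.exists_subgroup_card_pow_prime (G := S) r hS
  refine ⟨K.map S.subtype, Subgroup.map_subtype_le K, ?_⟩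
  rw [Subgroup.card_map_of_injective S.subtype_injective, hK]

theorem coatom_eq {M S : Subgroup X} (hM : IsCoatom M) (h : M ≤ S) (hS : S ≠ ⊤) : M = S := by
  rcases hM.le_iff.mp h with h1 | h1
  · exact absurd h1 hS
  · exact h1.symm

theorem card_map_conj (M : Subgroup X) (g : X) :
    Nat.card (M.map (MulAut.conj g).toMonoidHom) = Nat.card M :=
  Subgroup.card_map_of_injective (MulAut.conj g).injective

/-- a maximal subgroup which is a Sylow subgroup is not contained (up to conjugacy) in a bigger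
proper subgroup -/
theorem sylA {M S : Subgroup X} (hM : IsCoatom M) (r k : ℕ) [Fact r.Prime]
    (hMc : Nat.card M = r ^ k) (hX : ¬ r ^ (k + 1) ∣ Nat.card X) (hS : r ^ k ∣ Nat.card S)
    (hS1 : S ≠ ⊤) (hS2 : Nat.card S ≠ r ^ k) : False := by
  obtain ⟨P, hPS, hP⟩ := exists_subgroup_le hS
  obtain ⟨g, hg⟩ := exists_conj_of_card hMc hP hX
  have hco := isCoatom_map_equiv (MulAut.conj g) hM
  rw [← hg] at hco
  have := coatom_eq hco hPS hS1
  rw [← this] at hS2
  exact hS2 hP

theorem le_normalizer_of_card {P M : Subgroup X} (hPM : P ≤ M) (h : Nat.card M = 2 * Nat.card P) :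
    M ≤ Subgroup.normalizer (P : Set X) := by
  have hidx : (P.subgroupOf M).index = 2 := by
    have h1 := (P.subgroupOf M).card_mul_index
    have h2 : Nat.card (P.subgroupOf M) = Nat.card P :=
      Nat.card_congr (Subgroup.subgroupOfEquivOfLe hPM).toEquiv
    rw [h2, h] at h1
    have hpos : 0 < Nat.card P := Nat.card_pos
    nlinarith
  have := Subgroup.normal_of_index_eq_two hidx
  exact Subgroup.le_normalizer_of_normal_subgroupOf hPM

/-- a maximal subgroup of order `2r` is not conjugate into a bigger proper subgroup -/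
theorem sylB {M D S : Subgroup X} (hM : IsCoatom M) (r : ℕ) [Fact r.Prime]
    (hMc : Nat.card M = 2 * r) (hX : ¬ r ^ 2 ∣ Nat.card X)
    (hsimple : ∀ P : Subgroup X, P.Normal → Nat.card P ≠ r) (hD : Nat.card D = 2 * r)
    (hDS : D ≤ S) (hS1 : S ≠ ⊤) (hS2 : Nat.card S ≠ 2 * r) : False := by
  obtain ⟨P, hPM, hP⟩ := exists_subgroup_le (r := r) (k := 1) (S := M) (by rw [hMc, pow_one]; exact ⟨2, by ring⟩)
  obtain ⟨Q, hQD, hQ⟩ := exists_subgroup_le (r := r) (k := 1) (S := D) (by rw [hD, pow_one]; exact ⟨2, by ring⟩)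
  obtain ⟨g, hg⟩ := exists_conj_of_card hP hQ hX
  have hco := isCoatom_map_equiv (MulAut.conj g) hM
  set M1 := M.map (MulAut.conj g).toMonoidHom with hM1
  have hQM1 : Q ≤ M1 := by rw [hg]; exact Subgroup.map_mono hPM
  have hM1c : Nat.card M1 = 2 * r := by rw [hM1, card_map_conj, hMc]
  rw [pow_one] at hQ
  have h1 : M1 ≤ Subgroup.normalizer (Q : Set X) := le_normalizer_of_card hQM1 (by rw [hM1c, hQ])
  have h2 : D ≤ Subgroup.normalizer (Q : Set X) := le_normalizer_of_card hQD (by rw [hD, hQ])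
  have h3 : Subgroup.normalizer (Q : Set X) ≠ ⊤ := by
    intro h
    exact hsimple Q (Subgroup.normalizer_eq_top_iff.mp h) hQ
  have h4 := coatom_eq hco h1 h3
  rw [← h4] at h2
  have h5 : D = M1 := Subgroup.eq_of_le_of_card_ge h2 (by rw [hD, hM1c])
  rw [← h5] at hco
  have h6 := coatom_eq hco hDS hS1
  rw [← h6] at hS2
  exact hS2 hD

/-! ### subgroups of `S₄` and `A₅` -/

/-- a point stabiliser in `S₄` -/
def D6 : Subgroup (Equiv.Perm (Fin 4)) where
  carrier := {σ | σ 3 = 3}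
  mul_mem' := by
    intro a b ha hb
    change a (b 3) = 3
    rw [show b 3 = 3 from hb]; exact ha
  one_mem' := rfl
  inv_mem' := by
    intro a ha
    change a⁻¹ 3 = 3
    rw [Equiv.Perm.inv_eq_iff_eq]; exact (show a 3 = 3 from ha).symm

instance : DecidablePred (· ∈ D6) := fun σ => inferInstanceAs (Decidable (σ 3 = 3))

theorem card_D6 : Nat.card D6 = 6 := by
  rw [Nat.card_eq_fintype_card]; decide

/-- the five-cycle -/
def c5 : alternatingGroup (Fin 5) :=
  ⟨Equiv.swap 0 1 * Equiv.swap 1 2 * Equiv.swap 2 3 * Equiv.swap 3 4,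
    Equiv.Perm.mem_alternatingGroup.mpr (by decide)⟩

/-- the normaliser of a five-cycle in `A₅` -/
def D10 : Subgroup (alternatingGroup (Fin 5)) where
  carrier := {σ | σ * c5 * σ⁻¹ = c5 ∨ σ * c5 * σ⁻¹ = c5⁻¹}
  mul_mem' := by
    intro a b ha hb
    have e : a * b * c5 * (a * b)⁻¹ = a * (b * c5 * b⁻¹) * a⁻¹ := by group
    have e' : a * c5⁻¹ * a⁻¹ = (a * c5 * a⁻¹)⁻¹ := by group
    change a * b * c5 * (a * b)⁻¹ = c5 ∨ a * b * c5 * (a * b)⁻¹ = c5⁻¹
    rw [e]
    rcases ha with ha | ha <;> rcases hb with hb | hb <;> rw [hb]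
    · left; exact ha
    · right; rw [e', ha]
    · right; exact ha
    · left; rw [e', ha, inv_inv]
  one_mem' := by left; group
  inv_mem' := by
    intro a ha
    change a⁻¹ * c5 * a⁻¹⁻¹ = c5 ∨ a⁻¹ * c5 * a⁻¹⁻¹ = c5⁻¹
    rcases ha with ha | ha
    · left
      calc a⁻¹ * c5 * a⁻¹⁻¹ = a⁻¹ * (a * c5 * a⁻¹) * a := by rw [ha, inv_inv]
        _ = c5 := by group
    · right
      have : c5 = a * c5⁻¹ * a⁻¹ := by
        have e' : a * c5⁻¹ * a⁻¹ = (a * c5 * a⁻¹)⁻¹ := by group
        rw [e', ha, inv_inv]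
      calc a⁻¹ * c5 * a⁻¹⁻¹ = a⁻¹ * (a * c5⁻¹ * a⁻¹) * a := by rw [← this, inv_inv]
        _ = c5⁻¹ := by group

instance : DecidablePred (· ∈ D10) := fun σ =>
  inferInstanceAs (Decidable (σ * c5 * σ⁻¹ = c5 ∨ σ * c5 * σ⁻¹ = c5⁻¹))

set_option maxRecDepth 100000 in
theorem card_D10 : Nat.card D10 = 10 := by
  rw [Nat.card_eq_fintype_card]; decide

/-- transport of a subgroup along an isomorphism -/
theorem exists_subgroup_of_equiv {Γ : Type*} [Group Γ] {S : Subgroup X} (e : S ≃* Γ)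
    (D0 : Subgroup Γ) : ∃ D : Subgroup X, D ≤ S ∧ Nat.card D = Nat.card D0 := by
  refine ⟨(D0.map e.symm.toMonoidHom).map S.subtype, Subgroup.map_subtype_le _, ?_⟩
  rw [Subgroup.card_map_of_injective S.subtype_injective]
  exact Subgroup.card_map_of_injective e.symm.injective

end Cfsg.Agent.Lib.Helper41SylArg
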