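import Mathlib
import Cfsg.Agent.Lib.Helper41Lift
import Cfsg.Agent.Lib.Helper41SylArg
import Cfsg.Agent.S0802
import Cfsg.Agent.S0803
import Cfsg.Agent.S0804

/-!
# Maximal subgroups of `PSL₂(q)`, `q` odd: auxiliary results
-/

set_option autoImplicit false

namespace Cfsg.Agent.Lib.Helper41Max

open Matrix Cfsg.Agent.Lib.Helper46SL2 Cfsg.Agent.Lib.Helper41SL2 Cfsg.Agent.Lib.Helper41Dk
  Cfsg.Agent.Lib.Helper41Pair Cfsg.Agent.Lib.Helper41Gen Cfsg.Agent.Lib.Helper41Lift
  Cfsg.Agent.Lib.Helper41SylArg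

variable {F : Type*} [Field F]

local notation "SL2" => Matrix.SpecialLinearGroup (Fin 2)
local notation "PSL2" => Matrix.ProjectiveSpecialLinearGroup (Fin 2)

/-- the subfield outcome -/
theorem sub_case [Fintype F] (hodd : Odd (Fintype.card F)) {M : Subgroup (PSL2 F)}
    (hM : IsCoatom M) (ψ : SL2 F ≃* SL2 F) {K : Subfield F} (hK : K ≠ ⊤)
    (hle : (pre M).map ψ.toMonoidHom ≤ PK K) :
    (∃ (F₀ : Type) (_ : Field F₀) (_ : Fintype F₀), Fintype.card F = Fintype.card F₀ ^ 2 ∧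
        Nonempty (M ≃* Matrix.ProjGenLinGroup (Fin 2) F₀)) ∨
    (∃ (F₀ : Type) (_ : Field F₀) (_ : Fintype F₀) (r : ℕ), r.Prime ∧ Odd r ∧
        Fintype.card F = Fintype.card F₀ ^ r ∧
        Nonempty (M ≃* Matrix.ProjectiveSpecialLinearGroup (Fin 2) F₀)) := by
  have hco := isCoatom_map_equiv ψ (isCoatom_pre hM)
  have heq : (pre M).map ψ.toMonoidHom = PK K := coatom_eq hco hle (PK_ne_top hK)
  have hcoPK : IsCoatom (PK K) := heq ▸ hco
  have hr := prime_finrank_of_coatom hcoPK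
  have e0 : M ≃* M.map (barEquiv ψ).toMonoidHom := M.equivMapOfInjective _ (barEquiv ψ).injective
  have hMK : M.map (barEquiv ψ).toMonoidHom = PKbar K := by
    apply pre_injective
    rw [pre_map_barEquiv, heq, pre_PKbar]
  obtain ⟨K', i1, i2, ⟨ε⟩⟩ := exists_small_field K
  have hcK : Fintype.card K' = Nat.card K := by
    rw [← Nat.card_eq_fintype_card]; exact Nat.card_congr ε.toEquiv
  have hq := card_pow_finrank K
  rcases hr.eq_two_or_odd' with h2 | hro
  · left
    rw [h2] at hq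
    obtain ⟨e1⟩ := PKbar_equiv_PGL (ee_eq_two hodd) (card_PK_of_even_deg hodd even_two hq) ε
    exact ⟨K', i1, i2, by rw [hcK, hq], ⟨e0.trans ((MulEquiv.subgroupCongr hMK).trans e1)⟩⟩
  · right
    obtain ⟨e1⟩ := PKbar_equiv_PSL (PK_eq_SLK_of_odd hodd hro hq) ε
    exact ⟨K', i1, i2, _, hr, hro, by rw [hcK, hq],
      ⟨e0.trans ((MulEquiv.subgroupCongr hMK).trans e1)⟩⟩

theorem card_eq_of_closure_one [Fintype F] (p : ℕ) [Fact p.Prime] [CharP F p]
    (h : Subfield.closure ({1} : Set F) = ⊤) : Fintype.card F = p := by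
  have h1 := card_le_of_closure p 1 one_pos (lam := (1 : F)) (by simp) h
  have h2 : p ∣ Fintype.card F := (CharP.cast_eq_zero_iff F p _).mp (Nat.cast_card_eq_zero F)
  have h3 := Nat.le_of_dvd Fintype.card_pos h2
  rw [pow_one] at h1
  omega

theorem not_coatom_of_emb [Finite F] {M S : Subgroup (PSL2 F)} (hM : IsCoatom M)
    (ψ : SL2 F ≃* SL2 F) (hle : (pre M).map ψ.toMonoidHom ≤ pre S)
    (hS : Nat.card S ≠ Nat.card (PSL2 F)) (hMS : Nat.card M ≠ Nat.card S) : False := by
  have hco := isCoatom_map_equiv ψ (isCoatom_pre hM)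
  have hne : pre S ≠ ⊤ := by
    intro h
    apply hS
    rw [pre_eq_top_iff.mp h, Subgroup.card_top]
  have heq := coatom_eq hco hle hne
  have hc : Nat.card ((pre M).map ψ.toMonoidHom) = Nat.card (pre M) :=
    Subgroup.card_map_of_injective ψ.injective
  rw [heq, card_pre, card_pre] at hc
  exact hMS (Nat.eq_of_mul_eq_mul_left ee_pos hc).symm

theorem mod10 {q : ℕ} (hodd : Odd q) (h5 : ¬ 5 ∣ q) (h : 5 ∣ q * (q ^ 2 - 1)) :
    q % 10 = 1 ∨ q % 10 = 9 := by
  have h1 : 5 ∣ q ^ 2 - 1 := ((Nat.Prime.dvd_mul Nat.prime_five).mp h).resolve_left h5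
  have hq : 1 ≤ q ^ 2 := Nat.one_le_pow _ _ (by rcases hodd with ⟨k, hk⟩; omega)
  have h2 : q ^ 2 % 5 = 1 := by omega
  rw [Nat.pow_mod] at h2
  have h3 : q % 5 < 5 := Nat.mod_lt _ (by norm_num)
  obtain ⟨k, hk⟩ := hodd
  have h4 : q % 5 = 1 ∨ q % 5 = 4 := by
    interval_cases (q % 5) <;> simp_all
  omega

theorem mod8 {q : ℕ} (hodd : Odd q) (h : 16 ∣ q * (q ^ 2 - 1)) : q % 8 = 1 ∨ q % 8 = 7 := by
  have hc : Nat.Coprime 16 q := by
    have : Nat.Coprime 2 q := Nat.coprime_two_left.mpr hodd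
    exact Nat.Coprime.pow_left 4 this
  have h1 : 16 ∣ q ^ 2 - 1 := hc.dvd_of_dvd_mul_left h
  have hq : 1 ≤ q ^ 2 := Nat.one_le_pow _ _ (by rcases hodd with ⟨k, hk⟩; omega)
  have h2 : q ^ 2 % 16 = 1 := by omega
  rw [Nat.pow_mod] at h2
  have h3 : q % 16 < 16 := Nat.mod_lt _ (by norm_num)
  have h4 : q % 16 = 1 ∨ q % 16 = 7 ∨ q % 16 = 9 ∨ q % 16 = 15 := by
    interval_cases (q % 16) <;> simp_all
  omega

theorem natCast_mem_closure (S : Set F) (n : ℕ) : (n : F) ∈ Subfield.closure S :=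
  natCast_mem _ n

/-- the arithmetic of the icosahedral case -/
theorem A5_arith [Fintype F] (p : ℕ) [Fact p.Prime] [CharP F p] (h2 : (2 : F) ≠ 0)
    (h5 : (5 : F) ≠ 0) {t : F} (ht : t ^ 4 - 3 * t ^ 2 + 1 = 0)
    (hgen : Subfield.closure ({t} : Set F) = ⊤) :
    Fintype.card F = p ∨ (Fintype.card F = p ^ 2 ∧ (p % 10 = 3 ∨ p % 10 = 7)) := by
  have hpp : p.Prime := Fact.out
  obtain ⟨ε, hε, hεt⟩ : ∃ ε : F, (ε = 1 ∨ ε = -1) ∧ t ^ 2 = ε * t + 1 := by
    have : (t ^ 2 - t - 1) * (t ^ 2 + t - 1) = 0 := by linear_combination ht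
    rcases mul_eq_zero.mp this with h | h
    · exact ⟨1, Or.inl rfl, by linear_combination h⟩
    · exact ⟨-1, Or.inr rfl, by linear_combination h⟩
  have hε2 : ε ^ 2 = 1 := by rcases hε with rfl | rfl <;> ring
  have hσε : frobenius F p ε = ε := by
    rcases hε with rfl | rfl
    · exact map_one _
    · rw [map_neg, map_one]
  have hσ : frobenius F p t = t ∨ frobenius F p t = ε - t := by
    have h1 := congrArg (frobenius F p) hεt
    rw [map_pow, map_add, map_mul, map_one, hσε] at h1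
    have h3 : (frobenius F p t - t) * (frobenius F p t - (ε - t)) = 0 := by
      linear_combination h1 - hεt
    rcases mul_eq_zero.mp h3 with h | h
    · left; linear_combination h
    · right; linear_combination h
  have hpp2 : t ^ p ^ 2 = t := by
    have e : t ^ p ^ 2 = frobenius F p (frobenius F p t) := by
      rw [frobenius_def, frobenius_def, ← pow_mul, sq]
    rw [e]
    rcases hσ with h | h
    · rw [h, h]
    · rw [h, map_sub, hσε, h]; ring
  have hle := card_le_of_closure p 2 two_pos hpp2 hgen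
  obtain ⟨n, -, hn⟩ := FiniteField.card F p
  have hn2 : (n : ℕ) ≤ 2 := by
    rw [hn] at hle
    exact (Nat.pow_le_pow_iff_right hpp.one_lt).mp hle
  have hn1 : 1 ≤ (n : ℕ) := n.pos
  have hcases : (n : ℕ) = 1 ∨ (n : ℕ) = 2 := by omega
  rcases hcases with h | h
  · left; rw [hn, h, pow_one]
  · right
    rw [h] at hn
    refine ⟨hn, ?_⟩
    have hp2 : p ≠ 2 := by
      rintro rfl
      exact h2 (by exact_mod_cast CharP.cast_eq_zero F 2)
    have hp5 : p ≠ 5 := by
      rintro rfl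
      exact h5 (by exact_mod_cast CharP.cast_eq_zero F 5)
    have hodd : p % 2 = 1 := hpp.eq_two_or_odd.resolve_left hp2
    have h5' : p % 5 ≠ 0 := by
      intro h0
      exact hp5 ((Nat.prime_dvd_prime_iff_eq Nat.prime_five hpp).mp (Nat.dvd_of_mod_eq_zero h0)).symm
    by_contra hcon
    have h19 : p % 5 = 1 ∨ p % 5 = 4 := by omega
    have : Fact (Nat.Prime 5) := ⟨Nat.prime_five⟩
    have hsq5 : IsSquare ((p : ℕ) : ZMod 5) := by
      have e : ((p : ℕ) : ZMod 5) = ((p % 5 : ℕ) : ZMod 5) := by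
        rw [ZMod.natCast_eq_natCast_iff']; simp
      rw [e]
      rcases h19 with h | h <;> rw [h]
      · exact ⟨1, by norm_num⟩
      · exact ⟨2, by norm_num⟩
    obtain ⟨s, hs⟩ := (ZMod.exists_sq_eq_prime_iff_of_mod_four_eq_one (p := 5) (q := p)
      (by norm_num) hp2).mp hsq5
    set s' : F := ((s.val : ℕ) : F) with hs'
    have hs'2 : s' * s' = 5 := by
      have e : s' = ZMod.castHom (dvd_refl p) F s := by
        rw [hs', ← map_natCast (ZMod.castHom (dvd_refl p) F), ZMod.natCast_zmod_val]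
      rw [e, ← map_mul, ← hs, map_natCast]; norm_num
    have hK : t ∈ Subfield.closure ({1} : Set F) := by
      have h2K : (2 : F) ∈ Subfield.closure ({1} : Set F) := by
        exact_mod_cast natCast_mem_closure ({1} : Set F) 2
      have hεK : ε ∈ Subfield.closure ({1} : Set F) := by
        rcases hε with rfl | rfl
        · exact one_mem _
        · exact neg_mem (one_mem _)
      have hsK : s' ∈ Subfield.closure ({1} : Set F) := natCast_mem_closure _ _
      have h6 : (2 * t - ε - s') * (2 * t - ε + s') = 0 := by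
        linear_combination 4 * hεt + hε2 - hs'2
      rcases mul_eq_zero.mp h6 with h7 | h7
      · have : t = (ε + s') / 2 := by field_simp; linear_combination h7
        rw [this]; exact div_mem (add_mem hεK hsK) h2K
      · have : t = (ε - s') / 2 := by field_simp; linear_combination h7
        rw [this]; exact div_mem (sub_mem hεK hsK) h2K
    have htop : Subfield.closure ({1} : Set F) = ⊤ := by
      rw [eq_top_iff, ← hgen, Subfield.closure_le]
      intro x hx
      rw [Set.mem_singleton_iff.mp hx]; exact hK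
    have := card_eq_of_closure_one p htop
    rw [hn] at this
    have h1 := hpp.one_lt
    nlinarith

theorem two_card_PSL2 [Fintype F] (hodd : Odd (Fintype.card F)) :
    2 * Nat.card (PSL2 F) = Fintype.card F * (Fintype.card F ^ 2 - 1) := by
  rw [← Cfsg.Agent.Lib.Helper7SL.card_SL_two, card_SL2_eq, ee_eq_two hodd]

theorem card_A4 : Nat.card (alternatingGroup (Fin 4)) = 12 := by
  rw [Nat.card_eq_fintype_card]; rfl

theorem card_S4 : Nat.card (Equiv.Perm (Fin 4)) = 24 := by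
  rw [Nat.card_eq_fintype_card]; rfl

/-- the small dihedral groups are not maximal -/
theorem small_dihedral_false [Fintype F] (p : ℕ) [Fact p.Prime] [CharP F p]
    (hodd : Odd (Fintype.card F)) {M : Subgroup (PSL2 F)} (hM : IsCoatom M)
    (h : (Fintype.card F = 5 ∧ Nat.card M = 4) ∨ (Fintype.card F = 7 ∧ Nat.card M = 8) ∨
      (Fintype.card F = 9 ∧ Nat.card M = 8) ∨ (Fintype.card F = 7 ∧ Nat.card M = 6) ∨
      (Fintype.card F = 11 ∧ Nat.card M = 10) ∨ (Fintype.card F = 9 ∧ Nat.card M = 10)) :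
    False := by
  have hX := two_card_PSL2 hodd
  have : Fact (Nat.Prime 2) := ⟨Nat.prime_two⟩
  have : Fact (Nat.Prime 3) := ⟨Nat.prime_three⟩
  have : Fact (Nat.Prime 5) := ⟨Nat.prime_five⟩
  have hsimple : 4 ≤ Fintype.card F → ∀ r : ℕ, 1 < r → r < Nat.card (PSL2 F) →
      ∀ P : Subgroup (PSL2 F), P.Normal → Nat.card P ≠ r := by
    intro h4 r h1 h2 P hP hc
    have := Matrix.ProjectiveSpecialLinearGroup.rank_two_simple (F := F)
      (by rw [Nat.card_eq_fintype_card]; exact h4)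
    rcases hP.eq_bot_or_eq_top with h | h
    · rw [h, Subgroup.card_bot] at hc; omega
    · rw [h, Subgroup.card_top] at hc; omega
  have hne : ∀ S : Subgroup (PSL2 F), Nat.card S ≠ Nat.card (PSL2 F) → S ≠ ⊤ := by
    intro S h1 h2
    rw [h2, Subgroup.card_top] at h1
    exact h1 rfl
  rcases h with ⟨hq, hc⟩ | ⟨hq, hc⟩ | ⟨hq, hc⟩ | ⟨hq, hc⟩ | ⟨hq, hc⟩ | ⟨hq, hc⟩ <;> rw [hq] at hX
  · have hX' : Nat.card (PSL2 F) = 60 := by omega
    obtain ⟨n, -, hn⟩ := FiniteField.card F p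
    obtain ⟨S, ⟨e⟩⟩ := (Cfsg.Agent.S0802.result (F := F) p n hn).mpr (by
      rintro ⟨rfl, -⟩
      rw [hn] at hodd
      exact (Nat.not_even_iff_odd.mpr hodd) (Nat.even_pow.mpr ⟨by decide, n.pos.ne'⟩))
    have hS : Nat.card S = 12 := by rw [Nat.card_congr e.toEquiv, card_A4]
    exact sylA hM 2 2 (by rw [hc]; norm_num) (by rw [hX']; norm_num) (by rw [hS]; norm_num)
      (hne S (by rw [hS, hX']; norm_num)) (by rw [hS]; norm_num)
  · have hX' : Nat.card (PSL2 F) = 168 := by omega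
    obtain ⟨S, ⟨e⟩⟩ := (Cfsg.Agent.S0803.result (F := F) hq).mpr (by norm_num)
    have hS : Nat.card S = 24 := by rw [Nat.card_congr e.toEquiv, card_S4]
    exact sylA hM 2 3 (by rw [hc]; norm_num) (by rw [hX']; norm_num) (by rw [hS]; norm_num)
      (hne S (by rw [hS, hX']; norm_num)) (by rw [hS]; norm_num)
  · have hX' : Nat.card (PSL2 F) = 360 := by omega
    obtain ⟨S, ⟨e⟩⟩ := (Cfsg.Agent.S0803.result (F := F) hq).mpr (by norm_num)
    have hS : Nat.card S = 24 := by rw [Nat.card_congr e.toEquiv, card_S4]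
    exact sylA hM 2 3 (by rw [hc]; norm_num) (by rw [hX']; norm_num) (by rw [hS]; norm_num)
      (hne S (by rw [hS, hX']; norm_num)) (by rw [hS]; norm_num)
  · have hX' : Nat.card (PSL2 F) = 168 := by omega
    obtain ⟨S, ⟨e⟩⟩ := (Cfsg.Agent.S0803.result (F := F) hq).mpr (by norm_num)
    have hS : Nat.card S = 24 := by rw [Nat.card_congr e.toEquiv, card_S4]
    obtain ⟨D, hDS, hD⟩ := exists_subgroup_of_equiv e D6
    rw [card_D6] at hD
    exact sylB hM 3 (by rw [hc]) (by rw [hX']; norm_num)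
      (hsimple (by omega) 3 (by norm_num) (by omega)) (by rw [hD]) hDS
      (hne S (by rw [hS, hX']; norm_num)) (by rw [hS]; norm_num)
  · have hX' : Nat.card (PSL2 F) = 660 := by omega
    obtain ⟨S, ⟨e⟩⟩ := (Cfsg.Agent.S0804.result (F := F) hq).mpr (by norm_num)
    have hS : Nat.card S = 60 := by rw [Nat.card_congr e.toEquiv, card_A5]
    obtain ⟨D, hDS, hD⟩ := exists_subgroup_of_equiv e D10
    rw [card_D10] at hD
    exact sylB hM 5 (by rw [hc]) (by rw [hX']; norm_num)
      (hsimple (by omega) 5 (by norm_num) (by omega)) (by rw [hD]) hDS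
      (hne S (by rw [hS, hX']; norm_num)) (by rw [hS]; norm_num)
  · have hX' : Nat.card (PSL2 F) = 360 := by omega
    obtain ⟨S, ⟨e⟩⟩ := (Cfsg.Agent.S0804.result (F := F) hq).mpr (by norm_num)
    have hS : Nat.card S = 60 := by rw [Nat.card_congr e.toEquiv, card_A5]
    obtain ⟨D, hDS, hD⟩ := exists_subgroup_of_equiv e D10
    rw [card_D10] at hD
    exact sylB hM 5 (by rw [hc]) (by rw [hX']; norm_num)
      (hsimple (by omega) 5 (by norm_num) (by omega)) (by rw [hD]) hDS
      (hne S (by rw [hS, hX']; norm_num)) (by rw [hS]; norm_num)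

/-- the conditions in the tetrahedral case over the prime field -/
theorem A4_arith [Fintype F] (p : ℕ) [Fact p.Prime] (hq : Fintype.card F = p) (h5 : 5 ≤ p)
    (h2 : (2 : F) ≠ 0) {M : Subgroup (PSL2 F)} (hM : IsCoatom M)
    (e : M ≃* alternatingGroup (Fin 4)) :
    (p % 8 = 3 ∨ p % 8 = 5) ∧ ¬ (p % 10 = 1 ∨ p % 10 = 9) := by
  have hodd := odd_card_of_two_ne_zero h2
  have hX := two_card_PSL2 hodd
  rw [hq] at hX hodd
  have hMc : Nat.card M = 12 := by rw [Nat.card_congr e.toEquiv, card_A4]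
  obtain ⟨k, hk⟩ := hodd
  constructor
  · by_contra hcon
    have h17 : p % 8 = 1 ∨ p % 8 = 7 := by omega
    have h7 : 7 ≤ p := by omega
    obtain ⟨S, ⟨e'⟩⟩ := (Cfsg.Agent.S0803.result (F := F) hq).mpr (by
      rw [Nat.pow_mod]
      have h3 : p % 16 < 16 := Nat.mod_lt _ (by norm_num)
      have h4 : p % 16 = 1 ∨ p % 16 = 7 ∨ p % 16 = 9 ∨ p % 16 = 15 := by omega
      rcases h4 with h | h | h | h <;> rw [h])
    have hS : Nat.card S = 24 := by rw [Nat.card_congr e'.toEquiv, card_S4]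
    obtain ⟨f1, f2, f3, f4, f5, f6⟩ := s4_facts
    obtain ⟨ψ, hψ⟩ := emb_A4_pre h2 e e' f1 f2 f3 f4 f5 f6
    apply not_coatom_of_emb hM ψ hψ
    · rw [hS]
      intro h
      rw [← h] at hX
      have : 7 * (7 ^ 2 - 1) ≤ p * (p ^ 2 - 1) :=
        Nat.mul_le_mul h7 (Nat.sub_le_sub_right (Nat.pow_le_pow_left h7 2) 1)
      omega
    · rw [hMc, hS]; norm_num
  · intro h19
    have h9 : p ≠ 9 := by
      intro h
      have hpp : p.Prime := Fact.out
      rw [h] at hpp
      exact absurd hpp (by norm_num)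
    have h11 : 11 ≤ p := by omega
    obtain ⟨S, ⟨e'⟩⟩ := (Cfsg.Agent.S0804.result (F := F) hq).mpr (by
      apply Dvd.dvd.mul_left
      have h1 : p ^ 2 % 5 = 1 := by
        rw [Nat.pow_mod]
        have h4 : p % 5 = 1 ∨ p % 5 = 4 := by omega
        rcases h4 with h | h <;> rw [h]
      omega)
    have hS : Nat.card S = 60 := by rw [Nat.card_congr e'.toEquiv, card_A5]
    obtain ⟨f1, f2, f3, f4, f5, f6⟩ := a5_facts
    obtain ⟨ψ, hψ⟩ := emb_A4_pre h2 e e' f1 f2 f3 f4 f5 f6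
    apply not_coatom_of_emb hM ψ hψ
    · rw [hS]
      intro h
      rw [← h] at hX
      have : 11 * (11 ^ 2 - 1) ≤ p * (p ^ 2 - 1) :=
        Nat.mul_le_mul h11 (Nat.sub_le_sub_right (Nat.pow_le_pow_left h11 2) 1)
      omega
    · rw [hMc, hS]; norm_num

end Cfsg.Agent.Lib.Helper41Max
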