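import Mathlib
import Cfsg.Agent.S0228
import Cfsg.Agent.Lib.Helper6Perm

/-!
# Recognition of `A₄` and `S₄` among groups without non-trivial normal cyclic subgroups
-/

set_option autoImplicit false

namespace Cfsg.Agent.Lib.Helper6Small

variable {H : Type*} [Group H]

theorem eq_zpowers_of_prime_card [Finite H] {K : Subgroup H} {r : ℕ} (hr : r.Prime)
    (hK : Nat.card K = r) : ∃ y : H, y ≠ 1 ∧ K = Subgroup.zpowers y := by
  have h1 : K ≠ ⊥ := by
    rintro rfl
    rw [Subgroup.card_bot] at hK
    exact hr.one_lt.ne hK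
  obtain ⟨y, hy, hy1⟩ := K.bot_or_exists_ne_one.resolve_left h1
  refine ⟨y, hy1, ?_⟩
  symm
  apply Subgroup.eq_of_le_of_card_ge (by rwa [Subgroup.zpowers_le])
  rw [Nat.card_zpowers, hK]
  have h2 : orderOf y ∣ r := by
    rw [← hK]
    have := orderOf_dvd_natCard (⟨y, hy⟩ : K)
    rwa [Subgroup.orderOf_mk] at this
  rcases (Nat.dvd_prime hr).1 h2 with h3 | h3
  · exact absurd (orderOf_eq_one_iff.1 h3) hy1
  · exact h3.ge

theorem a4_of_card [Finite H] (h12 : Nat.card H = 12)
    (hnc : ∀ y : H, y ≠ 1 → ¬ (Subgroup.zpowers y).Normal) :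
    Nonempty (H ≃* alternatingGroup (Fin 4)) := by
  apply Cfsg.Agent.S0228.result h12
  intro z hz hzc
  apply hnc z (by rintro rfl; simp at hz)
  refine ⟨fun n hn g => ?_⟩
  obtain ⟨k, rfl⟩ := hn
  have h1 : z ^ k ∈ Subgroup.center H := Subgroup.zpow_mem _ hzc k
  have h2 : g * z ^ k = z ^ k * g := Subgroup.mem_center_iff.1 h1 g
  simp only
  rw [h2, mul_inv_cancel_right]
  exact ⟨k, rfl⟩

theorem s4_of_card [Finite H] (h24 : Nat.card H = 24)
    (hnc : ∀ y : H, y ≠ 1 → ¬ (Subgroup.zpowers y).Normal) :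
    Nonempty (H ≃* Equiv.Perm (Fin 4)) := by
  classical
  haveI : Fact (Nat.Prime 3) := ⟨by norm_num⟩
  have hP : ∀ P : Sylow 3 H, Nat.card P = 3 := by
    intro P
    rw [Sylow.card_eq_multiplicity, h24]
    have : (24 : ℕ).factorization 3 = 1 := by
      rw [← Nat.primeFactorsList_count_eq]
      norm_num [Nat.primeFactorsList]
    rw [this, pow_one]
  obtain ⟨P⟩ : Nonempty (Sylow 3 H) := inferInstance
  have hidx : (P : Subgroup H).index = 8 := by
    have := (P : Subgroup H).card_mul_index
    rw [hP P, h24] at this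
    omega
  have hn1 : Nat.card (Sylow 3 H) ≡ 1 [MOD 3] := card_sylow_modEq_one 3 H
  have hn2 : Nat.card (Sylow 3 H) ∣ 8 := hidx ▸ P.card_dvd_index
  have hn : Nat.card (Sylow 3 H) = 1 ∨ Nat.card (Sylow 3 H) = 4 := by
    have h8 : Nat.card (Sylow 3 H) ≤ 8 := Nat.le_of_dvd (by norm_num) hn2
    unfold Nat.ModEq at hn1
    interval_cases (Nat.card (Sylow 3 H)) <;> simp_all
  rcases hn with hn | hn
  · exfalso
    haveI : Subsingleton (Sylow 3 H) := (Nat.card_eq_one_iff_unique.1 hn).1
    have hnorm : (P : Subgroup H).Normal := Sylow.normal_of_subsingleton P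
    obtain ⟨y, hy1, hy⟩ := eq_zpowers_of_prime_card (by norm_num : Nat.Prime 3) (hP P)
    exact hnc y hy1 (hy ▸ hnorm)
  · set φ := MulAction.toPermHom H (Sylow 3 H) with hφ
    have hker : ∀ x ∈ φ.ker, ∀ Q : Sylow 3 H, x ∈ Subgroup.normalizer (Q : Set H) := by
      intro x hx Q
      rw [← Sylow.smul_eq_iff_mem_normalizer]
      have : φ x = 1 := hx
      have h2 := congrArg (fun f => f Q) this
      simpa [hφ] using h2
    have hN : Nat.card (Subgroup.normalizer (P : Set H)) = 6 := by
      have h1 := (Subgroup.normalizer (P : Set H)).card_mul_index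
      rw [← Sylow.card_eq_index_normalizer, hn, h24] at h1
      omega
    have hK6 : Nat.card φ.ker ∣ 6 := hN ▸ Subgroup.card_dvd_of_le (fun x hx => hker x hx P)
    have hinj : Function.Injective φ := by
      rw [← MonoidHom.ker_eq_bot_iff]
      by_contra hne
      by_cases h3 : 3 ∣ Nat.card φ.ker
      · obtain ⟨y, hy⟩ := exists_prime_orderOf_dvd_card' 3 h3
        have hy3 : orderOf (y : H) = 3 := by rw [Subgroup.orderOf_coe]; exact hy
        have hmem : ∀ Q : Sylow 3 H, (y : H) ∈ (Q : Subgroup H) := by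
          intro Q
          have hp : IsPGroup 3 (Subgroup.zpowers (y : H)) := by
            apply IsPGroup.of_card (n := 1)
            rw [Nat.card_zpowers, hy3, pow_one]
          have h4 := hp.inf_normalizer_sylow Q
          have h5 : (y : H) ∈ Subgroup.zpowers (y : H) ⊓
              Subgroup.normalizer (Q : Set H) :=
            ⟨Subgroup.mem_zpowers _, hker y y.2 Q⟩
          rw [h4] at h5
          exact h5.2
        have heq : ∀ Q : Sylow 3 H, (Q : Subgroup H) = Subgroup.zpowers (y : H) := by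
          intro Q
          symm
          apply Subgroup.eq_of_le_of_card_ge (by rw [Subgroup.zpowers_le]; exact hmem Q)
          rw [Nat.card_zpowers, hy3, hP Q]
        haveI : Subsingleton (Sylow 3 H) :=
          ⟨fun Q Q' => Sylow.ext ((heq Q).trans (heq Q').symm)⟩
        have := Nat.card_eq_one_iff_unique.2 ⟨this, ⟨P⟩⟩
        omega
      · have h2 : Nat.card φ.ker ∣ 2 := by
          have hc : Nat.Coprime (Nat.card φ.ker) 3 :=
            ((Nat.Prime.coprime_iff_not_dvd (by norm_num)).2 h3).symm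
          exact hc.dvd_of_dvd_mul_right (by simpa using hK6)
        rcases (Nat.dvd_prime Nat.prime_two).1 h2 with h1 | h1
        · exact hne (Subgroup.card_eq_one.1 h1)
        · obtain ⟨z, hz1, hz⟩ := eq_zpowers_of_prime_card Nat.prime_two h1
          exact hnc z hz1 (hz ▸ (inferInstance : φ.ker.Normal))
    exact Cfsg.Agent.Lib.Helper6Perm.mulEquiv_perm_of_injective hn φ hinj (by rw [h24]; rfl)

end Cfsg.Agent.Lib.Helper6Small
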