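import Mathlib
import Cfsg.Agent.Lib.Helper11Frobenius

set_option autoImplicit false

namespace Cfsg.Agent.Lib.Helper11Counting

open Subgroup

section
variable {G : Type*} [Group G]

/-- If `g` does not centralize `Q`, some Sylow subgroup of `⟨g⟩` does not. -/
theorem exists_prime_subgroup_not_centralizing (Q : Subgroup G) (g : G) (hfin : IsOfFinOrder g)
    (hgC : g ∉ centralizer (Q : Set G)) :
    ∃ r : ℕ, r.Prime ∧ r ∣ orderOf g ∧ ∃ R : Subgroup G, R ≤ zpowers g ∧ IsPGroup r R ∧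
      ¬ R ≤ centralizer (Q : Set G) := by
  set Z := zpowers g with hZ
  have : Finite Z := by
    rw [hZ]; exact Nat.finite_of_card_ne_zero (by rw [Nat.card_zpowers]; exact (orderOf_pos_iff.mpr hfin).ne')
  set Z₀ := (centralizer (Q : Set G)).subgroupOf Z with hZ₀
  have h1 : Z₀.index ≠ 1 := by
    rw [Ne, index_eq_one, hZ₀, subgroupOf_eq_top]
    intro h
    exact hgC (h (mem_zpowers g))
  set r := Z₀.index.minFac with hr
  have hrp : r.Prime := Nat.minFac_prime h1
  have hrd : r ∣ Z₀.index := Nat.minFac_dvd _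
  have : Fact r.Prime := ⟨hrp⟩
  refine ⟨r, hrp, ?_, ?_⟩
  · rw [← Nat.card_zpowers]
    exact hrd.trans Z₀.index_dvd_card
  · let R : Sylow r Z := default
    refine ⟨(R : Subgroup Z).map Z.subtype, map_subtype_le _, R.isPGroup'.map _, ?_⟩
    intro hle
    have h2 : (R : Subgroup Z) ≤ Z₀ := by
      intro x hx
      exact hle ⟨x, hx, rfl⟩
    exact R.not_dvd_index (hrd.trans (index_dvd_of_le h2))

/-- Fixed-point counting for an `r`-group `R` normalizing `Q`. -/
theorem card_modEq_card_inf_centralizer (Q R : Subgroup G) [Finite Q] (r : ℕ) [Fact r.Prime]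
    (hR : IsPGroup r R) (hRN : R ≤ normalizer (Q : Set G)) :
    Nat.card Q ≡ Nat.card (Q ⊓ centralizer (R : Set G) : Subgroup G) [MOD r] := by
  set R' := R.subgroupOf (normalizer (Q : Set G)) with hR'
  have hR'p : IsPGroup r R' := hR.comap_subtype
  have h1 := hR'p.card_modEq_card_fixedPoints Q
  have key : Nat.card (MulAction.fixedPoints R' Q) =
      Nat.card (Q ⊓ centralizer (R : Set G) : Subgroup G) := by
    apply Nat.card_congr
    refine ⟨fun q => ⟨q.1.1, q.1.2, ?_⟩, fun q => ⟨⟨q.1, q.2.1⟩, ?_⟩, fun _ => rfl, fun _ => rfl⟩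
    · intro x hx
      have h2 := q.2 ⟨⟨x, hRN hx⟩, hx⟩
      have h3 : x * (q.1 : G) * x⁻¹ = q.1 := congrArg Subtype.val h2
      calc x * (q.1 : G) = (x * (q.1 : G) * x⁻¹) * x := by group
        _ = q.1 * x := by rw [h3]
    · intro x
      apply Subtype.ext
      show (x : G) * q.1 * (x : G)⁻¹ = q.1
      have h2 := q.2.2 (x : G) x.2
      rw [h2]; group
  rwa [key] at h1

/-- Key arithmetic consequence: a `p'`-element normalizing but not centralizing a group of order
`p ^ a` has order divisible by a prime divisor of `p ^ d - 1` for some `1 ≤ d ≤ a`. -/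
theorem exists_prime_dvd_pow_sub_one {p : ℕ} [Fact p.Prime] (Q : Subgroup G) (a : ℕ)
    (hQ : Nat.card Q = p ^ a) (g : G) (hg : (orderOf g).Coprime p)
    (hgN : g ∈ normalizer (Q : Set G)) (hgC : g ∉ centralizer (Q : Set G)) :
    ∃ r : ℕ, r.Prime ∧ r ∣ orderOf g ∧ ∃ d : ℕ, 1 ≤ d ∧ d ≤ a ∧ r ∣ p ^ d - 1 := by
  have hp : p.Prime := Fact.out
  have : Finite Q := Nat.finite_of_card_ne_zero (by rw [hQ]; exact pow_ne_zero _ hp.ne_zero)
  have hfin : IsOfFinOrder g := by
    rw [← orderOf_pos_iff]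
    rcases Nat.eq_zero_or_pos (orderOf g) with h | h
    · rw [h, Nat.coprime_zero_left] at hg
      exact absurd hg hp.ne_one
    · exact h
  obtain ⟨r, hrp, hrd, R, hRZ, hRp, hRC⟩ := exists_prime_subgroup_not_centralizing Q g hfin hgC
  have : Fact r.Prime := ⟨hrp⟩
  have hRN : R ≤ normalizer (Q : Set G) := hRZ.trans (by rw [zpowers_le]; exact hgN)
  have h1 := card_modEq_card_inf_centralizer Q R r hRp hRN
  have hQp : IsPGroup p Q := IsPGroup.of_card hQ
  have : Finite (Q ⊓ centralizer (R : Set G) : Subgroup G) :=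
    Finite.of_injective _ (inclusion_injective (inf_le_left : Q ⊓ centralizer (R : Set G) ≤ Q))
  obtain ⟨b, hb⟩ := IsPGroup.iff_card.mp (hQp.to_le (inf_le_left : Q ⊓ centralizer (R : Set G) ≤ Q))
  have hlt : Q ⊓ centralizer (R : Set G) < Q := by
    refine lt_of_le_of_ne inf_le_left ?_
    intro h
    apply hRC
    rw [le_centralizer_iff]
    rw [← h]
    exact inf_le_right
  have hcardlt : p ^ b < p ^ a := by
    rw [← hb, ← hQ]
    by_contra hc
    push Not at hc
    exact hlt.ne (eq_of_le_of_card_ge hlt.le hc)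
  have hba : b < a := (Nat.pow_lt_pow_iff_right hp.one_lt).mp hcardlt
  rw [hQ, hb] at h1
  have h2 : r ∣ p ^ a - p ^ b := (Nat.modEq_iff_dvd' hcardlt.le).mp h1.symm
  have h3 : p ^ a - p ^ b = p ^ b * (p ^ (a - b) - 1) := by
    rw [Nat.mul_sub, mul_one, ← pow_add, Nat.add_sub_cancel' hba.le]
  rw [h3] at h2
  have hrp' : r ≠ p := by
    rintro rfl
    have : r ∣ Nat.gcd (orderOf g) r := Nat.dvd_gcd hrd dvd_rfl
    rw [Nat.Coprime] at hg
    rw [hg] at this
    exact hrp.one_lt.ne' (Nat.dvd_one.mp this)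
  refine ⟨r, hrp, hrd, a - b, by omega, by omega, ?_⟩
  rcases (Nat.Prime.dvd_mul hrp).mp h2 with h | h
  · exact absurd ((Nat.prime_dvd_prime_iff_eq hrp hp).mp (hrp.dvd_of_dvd_pow h)) hrp'
  · exact h

end

end Cfsg.Agent.Lib.Helper11Counting
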