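import Mathlib
import Cfsg.Agent.Lib.Helper41Dk1
import Cfsg.Agent.Lib.Helper6Small
import Cfsg.Agent.S0494

/-!
# Dickson: translation of the outcomes `12`, `24`, `60` to the central quotient
-/

set_option autoImplicit false

namespace Cfsg.Agent.Lib.Helper6DkT

open Cfsg.Agent.Lib.Helper41Dk

variable {𝔾 : Type*} [Group 𝔾]

/-- the full preimage in `𝔾` of a subgroup of `𝔾 / Z(𝔾)` -/
abbrev pre (H : Subgroup (𝔾 ⧸ Subgroup.center 𝔾)) : Subgroup 𝔾 :=
  H.comap (QuotientGroup.mk' (Subgroup.center 𝔾))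

theorem center_le_pre (H : Subgroup (𝔾 ⧸ Subgroup.center 𝔾)) : Subgroup.center 𝔾 ≤ pre H := by
  intro z hz
  rw [Subgroup.mem_comap]
  have : QuotientGroup.mk' (Subgroup.center 𝔾) z = 1 := (QuotientGroup.eq_one_iff z).2 hz
  rw [this]; exact one_mem _

theorem card_pre [Finite 𝔾] (H : Subgroup (𝔾 ⧸ Subgroup.center 𝔾)) :
    Nat.card (pre H) = Nat.card (Subgroup.center 𝔾) * Nat.card H := by
  have h1 : (pre H).index = H.index :=
    Subgroup.index_comap_of_surjective H (QuotientGroup.mk'_surjective _)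
  have h2 := (pre H).card_mul_index
  have h3 := H.card_mul_index
  have h4 := Subgroup.card_eq_card_quotient_mul_card_subgroup (Subgroup.center 𝔾)
  rw [h1] at h2
  have h5 : H.index ≠ 0 := Subgroup.index_ne_zero_of_finite
  apply Nat.eq_of_mul_eq_mul_right (Nat.pos_of_ne_zero h5)
  rw [h2, h4, ← h3]; ring

theorem no_normal_zpowers [Finite 𝔾] (hCT : CT 𝔾) (H : Subgroup (𝔾 ⧸ Subgroup.center 𝔾))
    (hNC : ∀ x ∈ pre H, x ∉ Subgroup.center 𝔾 → Nat.card (NN (pre H) x) < Nat.card (pre H))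
    (y : H) (hy : y ≠ 1) : ¬ (Subgroup.zpowers y).Normal := by
  intro hn
  obtain ⟨x, hx⟩ := QuotientGroup.mk'_surjective (Subgroup.center 𝔾) y.1
  have hxG : x ∈ pre H := by rw [Subgroup.mem_comap, hx]; exact y.2
  have hxZ : x ∉ Subgroup.center 𝔾 := by
    intro h
    apply hy
    apply Subtype.ext
    rw [← hx]
    exact (QuotientGroup.eq_one_iff x).2 h
  have hle : pre H ≤ NN (pre H) x := by
    intro g hg
    rw [mem_NN hCT hxZ]
    refine ⟨?_, hg⟩
    obtain ⟨k, hk⟩ := hn.conj_mem y (Subgroup.mem_zpowers y) ⟨_, hg⟩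
    have hk' := congrArg Subtype.val hk
    simp only [Subgroup.coe_zpow, Subgroup.coe_mul, Subgroup.coe_inv] at hk'
    rw [← hx, ← map_zpow, ← map_inv, ← map_mul, ← map_mul] at hk'
    have h2 : (x ^ k)⁻¹ * (g * x * g⁻¹) ∈ Subgroup.center 𝔾 := QuotientGroup.eq.1 hk'
    have h3 : g * x * g⁻¹ = x ^ k * ((x ^ k)⁻¹ * (g * x * g⁻¹)) := by group
    rw [h3]
    apply Commute.mul_left
    · exact (Commute.refl x).zpow_left k
    · exact (Subgroup.mem_center_iff.1 h2 x).symm
  exact absurd (Subgroup.card_le_of_le hle) (not_le.2 (hNC x hxG hxZ))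

theorem a4_of_pre [Finite 𝔾] (hCT : CT 𝔾) (H : Subgroup (𝔾 ⧸ Subgroup.center 𝔾))
    (hcard : Nat.card (pre H) = Nat.card (Subgroup.center 𝔾) * 12)
    (hNC : ∀ x ∈ pre H, x ∉ Subgroup.center 𝔾 → Nat.card (NN (pre H) x) < Nat.card (pre H)) :
    Nonempty (H ≃* alternatingGroup (Fin 4)) := by
  apply Cfsg.Agent.Lib.Helper6Small.a4_of_card
  · rw [card_pre] at hcard
    exact Nat.eq_of_mul_eq_mul_left Nat.card_pos hcard
  · exact no_normal_zpowers hCT H hNC

theorem s4_of_pre [Finite 𝔾] (hCT : CT 𝔾) (H : Subgroup (𝔾 ⧸ Subgroup.center 𝔾))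
    (hcard : Nat.card (pre H) = Nat.card (Subgroup.center 𝔾) * 24)
    (hNC : ∀ x ∈ pre H, x ∉ Subgroup.center 𝔾 → Nat.card (NN (pre H) x) < Nat.card (pre H)) :
    Nonempty (H ≃* Equiv.Perm (Fin 4)) := by
  apply Cfsg.Agent.Lib.Helper6Small.s4_of_card
  · rw [card_pre] at hcard
    exact Nat.eq_of_mul_eq_mul_left Nat.card_pos hcard
  · exact no_normal_zpowers hCT H hNC

/-- A subgroup `N` of `G` containing the centre and normalised by `G` contains a class `cls G x`
or is disjoint from it, if `AA G x` has prime index over the centre. -/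
theorem cls_subset_or_disjoint [Finite 𝔾] {G N : Subgroup 𝔾}
    (hZG : Subgroup.center 𝔾 ≤ G) (hZN : Subgroup.center 𝔾 ≤ N) (hnorm : ∀ g ∈ G, ∀ n ∈ N, g * n * g⁻¹ ∈ N)
    {x : 𝔾} {r : ℕ} (hr : r.Prime)
    (hA : Nat.card (AA G x) = Nat.card (Subgroup.center 𝔾) * r) :
    cls G x ⊆ N ∨ (N : Set 𝔾) ∩ cls G x = ∅ := by
  by_cases hemp : (N : Set 𝔾) ∩ cls G x = ∅
  · exact Or.inr hemp
  left
  obtain ⟨z, hzN, hzG, hzZ, g, hg, hc⟩ := Set.nonempty_iff_ne_empty.2 hemp
  set z' := g⁻¹ * z * g with hz'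
  have hz'N : z' ∈ N := by
    have := hnorm g⁻¹ (inv_mem hg) z hzN
    rwa [inv_inv] at this
  have hz'G : z' ∈ G := mul_mem (mul_mem (inv_mem hg) hzG) hg
  have hz'Z : z' ∉ Subgroup.center 𝔾 := conj_not_mem_center' hzZ g
  have hz'A : z' ∈ AA G x := mem_AA.2 ⟨hc, hz'G⟩
  have hAle : AA G x ≤ N := by
    set M := N ⊓ AA G x with hM
    have hZM : Subgroup.center 𝔾 ≤ M := le_inf hZN (center_le_AA hZG x)
    obtain ⟨d, hd⟩ := Subgroup.card_dvd_of_le hZM
    have h2 : Nat.card M ∣ Nat.card (AA G x) := Subgroup.card_dvd_of_le inf_le_right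
    rw [hd, hA] at h2
    have h3 : d ∣ r := Nat.dvd_of_mul_dvd_mul_left Nat.card_pos h2
    rcases (Nat.dvd_prime hr).1 h3 with rfl | rfl
    · exfalso
      have h4 : Subgroup.center 𝔾 = M :=
        Subgroup.eq_of_le_of_card_ge hZM (by rw [hd, mul_one])
      exact hz'Z (h4 ▸ (⟨hz'N, hz'A⟩ : z' ∈ M))
    · have h4 : M = AA G x :=
        Subgroup.eq_of_le_of_card_ge inf_le_right (by rw [hd, hA])
      rw [← h4]; exact inf_le_left
  intro w hw
  obtain ⟨hwG, hwZ, k, hk, hkc⟩ := hw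
  have h1 : k⁻¹ * w * k ∈ N := hAle (mem_AA.2 ⟨hkc, mul_mem (mul_mem (inv_mem hk) hwG) hk⟩)
  have h2 := hnorm k hk _ h1
  have h3 : k * (k⁻¹ * w * k) * k⁻¹ = w := by group
  rw [h3] at h2
  exact h2

theorem ncard_inter_cls [Finite 𝔾] {G N : Subgroup 𝔾}
    (hZG : Subgroup.center 𝔾 ≤ G) (hZN : Subgroup.center 𝔾 ≤ N)
    (hnorm : ∀ g ∈ G, ∀ n ∈ N, g * n * g⁻¹ ∈ N)
    {x : 𝔾} {r : ℕ} (hr : r.Prime)
    (hA : Nat.card (AA G x) = Nat.card (Subgroup.center 𝔾) * r) :
    ((N : Set 𝔾) ∩ cls G x).ncard = 0 ∨ ((N : Set 𝔾) ∩ cls G x).ncard = (cls G x).ncard := by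
  rcases cls_subset_or_disjoint hZG hZN hnorm hr hA with h | h
  · right; rw [Set.inter_eq_right.2 h]
  · left; rw [h, Set.ncard_empty]

theorem cls_disjoint (hCT : CT 𝔾) {G : Subgroup 𝔾} {x y : 𝔾} (hx : x ∉ Subgroup.center 𝔾)
    (hy : y ∉ Subgroup.center 𝔾) (hne : Nat.card (AA G x) ≠ Nat.card (AA G y)) :
    Disjoint (cls G x) (cls G y) := by
  rw [Set.disjoint_left]
  rintro z ⟨-, hzZ, h1⟩ ⟨-, -, h2⟩
  exact hne ((card_AA_of_rel hCT hx hzZ h1).symm.trans (card_AA_of_rel hCT hy hzZ h2))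

/-- The icosahedral outcome gives a simple group of order 60. -/
theorem a5_of_pre [Finite 𝔾] (hCT : CT 𝔾) (H : Subgroup (𝔾 ⧸ Subgroup.center 𝔾))
    (hcard : Nat.card (pre H) = Nat.card (Subgroup.center 𝔾) * 60) (x2 x3 x5 : 𝔾)
    (h2 : x2 ∉ Subgroup.center 𝔾 ∧
      Nat.card (AA (pre H) x2) = Nat.card (Subgroup.center 𝔾) * 2 ∧ mass (pre H) x2 = 1 / 4)
    (h3 : x3 ∉ Subgroup.center 𝔾 ∧
      Nat.card (AA (pre H) x3) = Nat.card (Subgroup.center 𝔾) * 3 ∧ mass (pre H) x3 = 1 / 3)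
    (h5 : x5 ∉ Subgroup.center 𝔾 ∧
      Nat.card (AA (pre H) x5) = Nat.card (Subgroup.center 𝔾) * 5 ∧ mass (pre H) x5 = 2 / 5)
    (hcov : ∀ z ∈ pre H, z ∉ Subgroup.center 𝔾 →
      Rel (pre H) x2 z ∨ Rel (pre H) x3 z ∨ Rel (pre H) x5 z) :
    Nonempty (H ≃* alternatingGroup (Fin 5)) := by
  set G := pre H with hG
  set e := Nat.card (Subgroup.center 𝔾) with he
  have hepos : 0 < e := Nat.card_pos
  have hZG : Subgroup.center 𝔾 ≤ G := center_le_pre H
  have hH60 : Nat.card H = 60 := by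
    rw [hG, card_pre] at hcard
    exact Nat.eq_of_mul_eq_mul_left Nat.card_pos hcard
  have hc2 : (cls G x2).ncard = e * 15 := by
    have := ncard_cls_eq hCT hZG h2.1
    rw [hcard, h2.2.2] at this
    have h' : ((cls G x2).ncard : ℚ) = ((e * 15 : ℕ) : ℚ) := by rw [this]; push_cast; ring
    exact_mod_cast h'
  have hc3 : (cls G x3).ncard = e * 20 := by
    have := ncard_cls_eq hCT hZG h3.1
    rw [hcard, h3.2.2] at this
    have h' : ((cls G x3).ncard : ℚ) = ((e * 20 : ℕ) : ℚ) := by rw [this]; push_cast; ring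
    exact_mod_cast h'
  have hc5 : (cls G x5).ncard = e * 24 := by
    have := ncard_cls_eq hCT hZG h5.1
    rw [hcard, h5.2.2] at this
    have h' : ((cls G x5).ncard : ℚ) = ((e * 24 : ℕ) : ℚ) := by rw [this]; push_cast; ring
    exact_mod_cast h'
  have hd23 : Disjoint (cls G x2) (cls G x3) := cls_disjoint hCT h2.1 h3.1 (by
    rw [h2.2.1, h3.2.1]; intro h; have := Nat.eq_of_mul_eq_mul_left hepos h; omega)
  have hd25 : Disjoint (cls G x2) (cls G x5) := cls_disjoint hCT h2.1 h5.1 (by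
    rw [h2.2.1, h5.2.1]; intro h; have := Nat.eq_of_mul_eq_mul_left hepos h; omega)
  have hd35 : Disjoint (cls G x3) (cls G x5) := cls_disjoint hCT h3.1 h5.1 (by
    rw [h3.2.1, h5.2.1]; intro h; have := Nat.eq_of_mul_eq_mul_left hepos h; omega)
  haveI : Nontrivial H := by
    rw [← Finite.one_lt_card_iff_nontrivial, hH60]; norm_num
  haveI : IsSimpleGroup H := by
    refine ⟨fun Nb hNb => ?_⟩
    set N : Subgroup 𝔾 := pre (Nb.map H.subtype) with hN
    have hZN : Subgroup.center 𝔾 ≤ N := center_le_pre _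
    have hNG : N ≤ G := by
      apply Subgroup.comap_mono
      exact Subgroup.map_subtype_le Nb
    have hcN : Nat.card N = e * Nat.card Nb := by
      rw [hN, card_pre, Subgroup.card_map_of_injective H.subtype_injective]
    have hnorm : ∀ g ∈ G, ∀ n ∈ N, g * n * g⁻¹ ∈ N := by
      intro g hg n hn
      rw [hN, Subgroup.mem_comap, Subgroup.mem_map] at hn ⊢
      obtain ⟨m, hm, hmn⟩ := hn
      refine ⟨⟨_, hg⟩ * m * ⟨_, hg⟩⁻¹, hNb.conj_mem m hm _, ?_⟩
      simp only [map_mul, map_inv, Subgroup.subtype_apply, hmn]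
    have hdecomp : (N : Set 𝔾) = (Subgroup.center 𝔾 : Set 𝔾) ∪ ((N : Set 𝔾) ∩ cls G x2) ∪
        ((N : Set 𝔾) ∩ cls G x3) ∪ ((N : Set 𝔾) ∩ cls G x5) := by
      ext z
      simp only [Set.mem_union, Set.mem_inter_iff, SetLike.mem_coe]
      constructor
      · intro hz
        by_cases hzZ : z ∈ Subgroup.center 𝔾
        · exact Or.inl (Or.inl (Or.inl hzZ))
        · rcases hcov z (hNG hz) hzZ with h | h | h
          · exact Or.inl (Or.inl (Or.inr ⟨hz, hNG hz, hzZ, h⟩))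
          · exact Or.inl (Or.inr ⟨hz, hNG hz, hzZ, h⟩)
          · exact Or.inr ⟨hz, hNG hz, hzZ, h⟩
      · rintro (((h | h) | h) | h)
        · exact hZN h
        · exact h.1
        · exact h.1
        · exact h.1
    have hZc : ∀ x, Disjoint (Subgroup.center 𝔾 : Set 𝔾) ((N : Set 𝔾) ∩ cls G x) := by
      intro x
      rw [Set.disjoint_left]
      rintro z hz ⟨-, -, hzZ, -⟩
      exact hzZ hz
    have hcount : Nat.card N = e + ((N : Set 𝔾) ∩ cls G x2).ncard +
        ((N : Set 𝔾) ∩ cls G x3).ncard + ((N : Set 𝔾) ∩ cls G x5).ncard := by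
      have h0 : Nat.card N = ((Subgroup.center 𝔾 : Set 𝔾) ∪ ((N : Set 𝔾) ∩ cls G x2) ∪
          ((N : Set 𝔾) ∩ cls G x3) ∪ ((N : Set 𝔾) ∩ cls G x5)).ncard := by
        rw [← hdecomp]; rfl
      rw [h0, Set.ncard_union_eq _ (Set.toFinite _) (Set.toFinite _),
        Set.ncard_union_eq _ (Set.toFinite _) (Set.toFinite _),
        Set.ncard_union_eq (hZc x2) (Set.toFinite _) (Set.toFinite _)]
      · rfl
      · rw [Set.disjoint_union_left]
        exact ⟨hZc x3, (hd23.mono Set.inter_subset_right Set.inter_subset_right)⟩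
      · rw [Set.disjoint_union_left, Set.disjoint_union_left]
        exact ⟨⟨hZc x5, hd25.mono Set.inter_subset_right Set.inter_subset_right⟩,
          hd35.mono Set.inter_subset_right Set.inter_subset_right⟩
    have hk60 : Nat.card Nb ∣ 60 := hH60 ▸ Subgroup.card_subgroup_dvd_card Nb
    have key : Nat.card Nb = 1 ∨ Nat.card Nb = 60 := by
      rw [hcN] at hcount
      rcases ncard_inter_cls hZG hZN hnorm Nat.prime_two h2.2.1 with a2 | a2 <;>
      rcases ncard_inter_cls hZG hZN hnorm Nat.prime_three h3.2.1 with a3 | a3 <;>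
      rcases ncard_inter_cls hZG hZN hnorm Nat.prime_five h5.2.1 with a5 | a5 <;>
      rw [a2, a3, a5] at hcount
      · left
        exact Nat.eq_of_mul_eq_mul_left hepos (by rw [hcount]; ring)
      · exfalso
        have : Nat.card Nb = 25 := Nat.eq_of_mul_eq_mul_left hepos (by rw [hcount, hc5]; ring)
        rw [this] at hk60; revert hk60; decide
      · exfalso
        have : Nat.card Nb = 21 := Nat.eq_of_mul_eq_mul_left hepos (by rw [hcount, hc3]; ring)
        rw [this] at hk60; revert hk60; decide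
      · exfalso
        have : Nat.card Nb = 45 :=
          Nat.eq_of_mul_eq_mul_left hepos (by rw [hcount, hc3, hc5]; ring)
        rw [this] at hk60; revert hk60; decide
      · exfalso
        have : Nat.card Nb = 16 := Nat.eq_of_mul_eq_mul_left hepos (by rw [hcount, hc2]; ring)
        rw [this] at hk60; revert hk60; decide
      · exfalso
        have : Nat.card Nb = 40 :=
          Nat.eq_of_mul_eq_mul_left hepos (by rw [hcount, hc2, hc5]; ring)
        rw [this] at hk60; revert hk60; decide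
      · exfalso
        have : Nat.card Nb = 36 :=
          Nat.eq_of_mul_eq_mul_left hepos (by rw [hcount, hc2, hc3]; ring)
        rw [this] at hk60; revert hk60; decide
      · right
        exact Nat.eq_of_mul_eq_mul_left hepos (by rw [hcount, hc2, hc3, hc5]; ring)
    rcases key with h | h
    · left; exact Subgroup.card_eq_one.1 h
    · right; exact Subgroup.eq_top_of_card_eq Nb (by rw [h, hH60])
  exact Cfsg.Agent.S0494.result hH60

end Cfsg.Agent.Lib.Helper6DkT
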