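import Mathlib
import Cfsg.Agent.Lib.Helper41Dk6
import Cfsg.Agent.Lib.Helper6DkT

/-!
# Dickson: the outcomes `12`, `24`, `O60` of `Helper41Dk` for subgroups of `PSL₂(F)`
-/

set_option autoImplicit false

namespace Cfsg.Agent.Lib.Helper6DkT

open Cfsg.Agent.Lib.Helper41Dk

variable {F : Type*} [Field F] [Finite F]

local notation "SL2" => Matrix.SpecialLinearGroup (Fin 2)

theorem T3 (H : Subgroup (Matrix.ProjectiveSpecialLinearGroup (Fin 2) F))
    (hcard : Nat.card (pre H) = ee F * 12) (hNC : NoCentral (pre H)) :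
    Nonempty (H ≃* alternatingGroup (Fin 4)) :=
  a4_of_pre ct_SL2 H hcard hNC

theorem T4 (H : Subgroup (Matrix.ProjectiveSpecialLinearGroup (Fin 2) F))
    (hcard : Nat.card (pre H) = ee F * 24) (hNC : NoCentral (pre H)) :
    Nonempty (H ≃* Equiv.Perm (Fin 4)) :=
  s4_of_pre ct_SL2 H hcard hNC

theorem T5 (H : Subgroup (Matrix.ProjectiveSpecialLinearGroup (Fin 2) F)) (h : O60 (pre H)) :
    Nonempty (H ≃* alternatingGroup (Fin 5)) := by
  obtain ⟨hcard, x2, x3, x5, h2, h3, h5, hcov⟩ := h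
  exact a5_of_pre ct_SL2 H hcard x2 x3 x5 ⟨h2.2.1, h2.2.2⟩ ⟨h3.2.1, h3.2.2⟩ ⟨h5.2.1, h5.2.2⟩ hcov

end Cfsg.Agent.Lib.Helper6DkT
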