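import Mathlib
import Cfsg.Agent.Lib.Helper41Dk11
import Cfsg.Agent.Lib.Helper6DkT2

/-!
# Dickson: the icosahedral outcome, in the notation of `Helper41Dk11`
-/

set_option autoImplicit false

namespace Cfsg.Agent.Lib.Helper6DkT

open Cfsg.Agent.Lib.Helper41Dk

variable {F : Type*} [Field F] [Finite F]

theorem A5_outcome {H : Subgroup (Matrix.ProjectiveSpecialLinearGroup (Fin 2) F)}
    (h : O60 (Cfsg.Agent.Lib.Helper41Dk.pre H)) : Nonempty (H ≃* alternatingGroup (Fin 5)) :=
  T5 H h

end Cfsg.Agent.Lib.Helper6DkT
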