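import Mathlib
import Cfsg.Agent.Lib.Helper6DkCor2
import Cfsg.Agent.Lib.Helper6DkT3
import Cfsg.Agent.S0800
import Cfsg.Agent.Lib.Helper41Dk14

/-!
# Dickson corollaries: overgroups of the normaliser of a maximal torus of `SL₂(F)`
-/

set_option autoImplicit false

namespace Cfsg.Agent.Lib.Helper6DkCor

open Matrix Cfsg.Agent.Lib.Helper46SL2 Cfsg.Agent.Lib.Helper41SL2 Cfsg.Agent.Lib.Helper41Dk

variable {F : Type*} [Field F]

local notation "SL2" => Matrix.SpecialLinearGroup (Fin 2)
local notation "PSL2" => Matrix.ProjectiveSpecialLinearGroup (Fin 2)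

theorem sq_mem_SLK {K : Subfield F} {g : SL2 F} (hg : g ∈ PK K) : g ^ 2 ∈ SLK K := by
  obtain ⟨l, hl, h0, h1, h2, h3⟩ := hg
  have hd := det2 g
  have hl2 : l ^ 2 ∈ K := by
    have := sub_mem (mul_mem h0 h3) (mul_mem h1 h2)
    have e : l * g 0 0 * (l * g 1 1) - l * g 0 1 * (l * g 1 0) = l ^ 2 := by
      linear_combination l ^ 2 * hd
    rwa [e] at this
  have hl2' : (l ^ 2)⁻¹ ∈ K := inv_mem hl2
  have hl0 : l ^ 2 ≠ 0 := pow_ne_zero 2 hl
  rw [sq, mem_SLK, mul_00, mul_01, mul_10, mul_11]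
  refine ⟨?_, ?_, ?_, ?_⟩
  · have := mul_mem hl2' (add_mem (mul_mem h0 h0) (mul_mem h1 h2))
    convert this using 1; field_simp
  · have := mul_mem hl2' (add_mem (mul_mem h0 h1) (mul_mem h1 h3))
    convert this using 1; field_simp
  · have := mul_mem hl2' (add_mem (mul_mem h2 h0) (mul_mem h3 h2))
    convert this using 1; field_simp
  · have := mul_mem hl2' (add_mem (mul_mem h2 h1) (mul_mem h3 h3))
    convert this using 1; field_simp

theorem orderOf_dvd_of_mem_SLK [Finite F] (p : ℕ) [Fact p.Prime] [CharP F p] {K : Subfield F}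
    {y : SL2 F} (hy : y ∈ SLK K) (hc : Nat.Coprime (orderOf y) p) :
    orderOf y ∣ Nat.card K - 1 ∨ orderOf y ∣ Nat.card K + 1 := by
  classical
  obtain ⟨h0, h1, h2, h3⟩ := hy
  have : Fintype K := Fintype.ofFinite K
  have : CharP K p := (RingHom.charP_iff K.subtype K.subtype_injective p).2 inferInstance
  let yK : SL2 K := mk2 ⟨_, h0⟩ ⟨_, h1⟩ ⟨_, h2⟩ ⟨_, h3⟩ (by
    apply Subtype.ext
    simpa using det2 y)
  have hmap : Matrix.SpecialLinearGroup.map K.subtype yK = y := by
    apply ext2 <;> rfl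
  have hinj : Function.Injective (Matrix.SpecialLinearGroup.map (n := Fin 2) K.subtype) := by
    intro a b hab
    apply ext2
    · exact K.subtype_injective (congrArg (fun m : SL2 F => m 0 0) hab)
    · exact K.subtype_injective (congrArg (fun m : SL2 F => m 0 1) hab)
    · exact K.subtype_injective (congrArg (fun m : SL2 F => m 1 0) hab)
    · exact K.subtype_injective (congrArg (fun m : SL2 F => m 1 1) hab)
  have hord : orderOf yK = orderOf y := by
    rw [← hmap, orderOf_injective _ hinj]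
  have := Cfsg.Agent.S0800.result (F := K) (q := Nat.card K)
    (by rw [Nat.card_eq_fintype_card]) p yK (by rw [hord]; exact hc)
  rwa [hord] at this

theorem dvd_of_proj_pow [Finite F] {x : SL2 F} {j : ℕ} (h : proj F x ^ j = 1) :
    orderOf x ∣ j * ee F := by
  rw [← map_pow] at h
  have h1 : x ^ j ∈ Subgroup.center (SL2 F) := (QuotientGroup.eq_one_iff _).1 h
  have h2 : (⟨x ^ j, h1⟩ : Subgroup.center (SL2 F)) ^ ee F = 1 := pow_card_eq_one'
  have h3 := congrArg Subtype.val h2
  apply orderOf_dvd_of_pow_eq_one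
  rw [pow_mul]
  simpa using h3

set_option maxRecDepth 100000 in
theorem alt4_inverted : ∀ g t : alternatingGroup (Fin 4), t * g * t⁻¹ = g⁻¹ → g ^ 2 = 1 := by
  decide +kernel

theorem perm4_pow : ∀ g : Equiv.Perm (Fin 4), g ^ 3 = 1 ∨ g ^ 4 = 1 := by decide +kernel

set_option maxRecDepth 100000 in
theorem alt5_pow : ∀ g : alternatingGroup (Fin 5), g ^ 2 = 1 ∨ g ^ 3 = 1 ∨ g ^ 5 = 1 := by
  decide +kernel

theorem subfield_eq_top_or [Fintype F] (K : Subfield F) :
    K = ⊤ ∨ Nat.card K ^ 2 ≤ Fintype.card F := by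
  have h := card_pow_finrank K
  have hq : 1 < Fintype.card F := Fintype.one_lt_card
  have hk : 0 < Nat.card K := Nat.card_pos
  rcases Nat.lt_or_ge (Module.finrank K F) 2 with h2 | h2
  · left
    have h3 : Module.finrank K F = 0 ∨ Module.finrank K F = 1 := by omega
    rcases h3 with h3 | h3
    · rw [h3, pow_zero] at h; omega
    · rw [h3, pow_one] at h
      have h4 : (K : Set F) = Set.univ := by
        rw [Set.eq_univ_iff_ncard, Nat.card_eq_fintype_card, ← h]
        rfl
      exact SetLike.ext' (by rw [h4]; rfl)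
  · right
    rw [← h]
    exact Nat.pow_le_pow_right hk h2

theorem SLK_top : SLK (⊤ : Subfield F) = ⊤ := by
  rw [eq_top_iff]
  intro g _
  rw [mem_SLK]
  exact ⟨trivial, trivial, trivial, trivial⟩

/-- The overgroups of an inverted semisimple element of `SL₂(F)`. -/
theorem torus_cases [Fintype F] (p : ℕ) [Fact p.Prime] [CharP F p] {G : Subgroup (SL2 F)}
    (hZ : Subgroup.center (SL2 F) ≤ G) {x y : SL2 F} (hx : x ∈ G) (hy : y ∈ G)
    (hyx : y * x * y⁻¹ = x⁻¹) (hc : (orderOf x).Coprime p) :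
    Nat.card G ≤ 2 * (Fintype.card F + 1) ∨
    (Nat.card G = ee F * 12 ∧ orderOf x ∣ 2 * ee F) ∨
    (Nat.card G = ee F * 24 ∧ (orderOf x ∣ 3 * ee F ∨ orderOf x ∣ 4 * ee F)) ∨
    (Nat.card G = ee F * 60 ∧
      (orderOf x ∣ 2 * ee F ∨ orderOf x ∣ 3 * ee F ∨ orderOf x ∣ 5 * ee F)) ∨
    orderOf x ∣ 2 ∨ G = ⊤ ∨
    ∃ k : ℕ, 3 ≤ k ∧ k ^ 2 ≤ Fintype.card F ∧
      (orderOf x ∣ 2 * (k - 1) ∨ orderOf x ∣ 2 * (k + 1)) := by
  obtain ⟨φ, hOut⟩ := dickson_SL2 hZ
  set G' := G.map φ.toMonoidHom with hG'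
  have hcG : Nat.card G' = Nat.card G := Subgroup.card_map_of_injective φ.injective
  have hZ' : Subgroup.center (SL2 F) ≤ G' := center_le_map hZ φ
  obtain ⟨x', hx'def⟩ : ∃ x', x' = φ x := ⟨_, rfl⟩
  obtain ⟨y', hy'def⟩ : ∃ y', y' = φ y := ⟨_, rfl⟩
  have hx' : x' ∈ G' := by rw [hx'def]; exact Subgroup.mem_map_of_mem _ hx
  have hy' : y' ∈ G' := by rw [hy'def]; exact Subgroup.mem_map_of_mem _ hy
  have hyx' : y' * x' * y'⁻¹ = x'⁻¹ := by
    rw [hx'def, hy'def, ← map_inv, ← map_mul, ← map_mul, hyx, map_inv]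
  have hord : orderOf x' = orderOf x := by rw [hx'def]; exact φ.orderOf_eq x
  set H' := G'.map (proj F) with hH'
  have hpre : pre H' = G' := pre_map_proj hZ'
  have hXm : proj F x' ∈ H' := Subgroup.mem_map_of_mem _ hx'
  have hYm : proj F y' ∈ H' := Subgroup.mem_map_of_mem _ hy'
  have hq : 1 < Fintype.card F := Fintype.one_lt_card
  rw [← hcG, ← hord]
  rw [← hord] at hc
  rcases hOut with (h | ⟨z, hz, ht, h⟩ | ⟨z, hz, ht, h, -⟩ | ⟨h, hnc⟩ |
    ⟨h, hnc, z, -, hzZ, hA, hN⟩ | h) | h | h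
  · left
    rw [h]
    have h1 : ee F ≤ 2 := by
      rw [ee_eq_gcd]; exact Nat.gcd_le_left _ (by norm_num)
    have h2 : Nat.card (Subgroup.center (SL2 F)) = ee F := rfl
    omega
  · left
    have h1 : G' ≤ Subgroup.centralizer {z} := by
      rw [h]; exact inf_le_left
    have h2 := Subgroup.card_le_of_le h1
    rcases card_cent_cases ht with h3 | h3 <;> omega
  · left
    have h1 : G' ≤ Subgroup.normalizer ((Subgroup.centralizer {z} : Subgroup (SL2 F)) : Set (SL2 F)) := by
      rw [h]; exact inf_le_left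
    have h2 := Subgroup.card_le_of_le h1
    rw [card_normalizer_centralizer ht] at h2
    rcases card_cent_cases ht with h3 | h3 <;> omega
  · right; left
    refine ⟨h, ?_⟩
    obtain ⟨e1⟩ := A4_outcome (H := H') (by rw [hpre]; exact h) (by rw [hpre]; exact hnc)
    have h1 : e1 ⟨_, hYm⟩ * e1 ⟨_, hXm⟩ * (e1 ⟨_, hYm⟩)⁻¹ = (e1 ⟨_, hXm⟩)⁻¹ := by
      rw [← map_inv, ← map_mul, ← map_mul, ← map_inv]
      congr 1
      apply Subtype.ext
      show proj F y' * proj F x' * (proj F y')⁻¹ = (proj F x')⁻¹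
      rw [← map_inv, ← map_mul, ← map_mul, hyx', map_inv]
    have h2 := alt4_inverted _ _ h1
    rw [← map_pow] at h2
    have h3 : (⟨_, hXm⟩ : H') ^ 2 = 1 := e1.injective (by rw [h2, map_one])
    exact dvd_of_proj_pow (congrArg Subtype.val h3)
  · right; right; left
    refine ⟨h, ?_⟩
    obtain ⟨e1⟩ := S4_outcome (H := H') (by rw [hpre]; exact h) (by rw [hpre]; exact hnc) hzZ
      (by rw [hpre]; exact hA) (by rw [hpre]; exact hN)
    rcases perm4_pow (e1 ⟨_, hXm⟩) with h2 | h2
    · left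
      rw [← map_pow] at h2
      have h3 : (⟨_, hXm⟩ : H') ^ 3 = 1 := e1.injective (by rw [h2, map_one])
      exact dvd_of_proj_pow (congrArg Subtype.val h3)
    · right
      rw [← map_pow] at h2
      have h3 : (⟨_, hXm⟩ : H') ^ 4 = 1 := e1.injective (by rw [h2, map_one])
      exact dvd_of_proj_pow (congrArg Subtype.val h3)
  · right; right; right; left
    refine ⟨h.1, ?_⟩
    obtain ⟨e1⟩ := Cfsg.Agent.Lib.Helper6DkT.A5_outcome (H := H') (by rw [hpre]; exact h)
    rcases alt5_pow (e1 ⟨_, hXm⟩) with h2 | h2 | h2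
    · left
      rw [← map_pow] at h2
      have h3 : (⟨_, hXm⟩ : H') ^ 2 = 1 := e1.injective (by rw [h2, map_one])
      exact dvd_of_proj_pow (congrArg Subtype.val h3)
    · right; left
      rw [← map_pow] at h2
      have h3 : (⟨_, hXm⟩ : H') ^ 3 = 1 := e1.injective (by rw [h2, map_one])
      exact dvd_of_proj_pow (congrArg Subtype.val h3)
    · right; right
      rw [← map_pow] at h2
      have h3 : (⟨_, hXm⟩ : H') ^ 5 = 1 := e1.injective (by rw [h2, map_one])
      exact dvd_of_proj_pow (congrArg Subtype.val h3)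
  · right; right; right; right; left
    have h1 : (y' * x' * y'⁻¹ * x'⁻¹) ^ p = 1 :=
      pow_char_of_mem_UU p (comm_mem_UU (h hy') (h hx'))
    rw [hyx', ← _root_.mul_inv_rev, inv_pow, inv_eq_one, ← sq, ← pow_mul] at h1
    have h2 := orderOf_dvd_of_pow_eq_one h1
    exact hc.dvd_of_dvd_mul_right h2
  · right; right; right; right; right
    obtain ⟨K, h1, h2, hK3, -⟩ := h
    rcases subfield_eq_top_or K with hK | hK
    · left
      rw [hK, SLK_top, top_le_iff] at h1
      apply Subgroup.eq_top_of_card_eq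
      rw [← hcG, h1, Subgroup.card_top]
    · right
      refine ⟨Nat.card K, hK3, hK, ?_⟩
      have h3 : x' ^ 2 ∈ SLK K := sq_mem_SLK (h2 hx')
      have h4 : (orderOf (x' ^ 2)).Coprime p :=
        Nat.Coprime.coprime_dvd_left (orderOf_pow_dvd 2) hc
      rcases orderOf_dvd_of_mem_SLK p h3 h4 with h5 | h5
      · left
        apply orderOf_dvd_of_pow_eq_one
        rw [pow_mul]
        exact orderOf_dvd_iff_pow_eq_one.1 h5
      · right
        apply orderOf_dvd_of_pow_eq_one
        rw [pow_mul]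
        exact orderOf_dvd_iff_pow_eq_one.1 h5

/-- the arithmetic conditions that a proper overgroup of order `g` would have to satisfy -/
def TorusBad (q e n g : ℕ) : Prop :=
  g ≤ 2 * (q + 1) ∨ (g = e * 12 ∧ n ∣ 2 * e) ∨ (g = e * 24 ∧ (n ∣ 3 * e ∨ n ∣ 4 * e)) ∨
    (g = e * 60 ∧ (n ∣ 2 * e ∨ n ∣ 3 * e ∨ n ∣ 5 * e)) ∨ n ∣ 2 ∨
    ∃ k : ℕ, 3 ≤ k ∧ k ^ 2 ≤ q ∧ (n ∣ 2 * (k - 1) ∨ n ∣ 2 * (k + 1))

theorem exists_dihedral_coatom [Fintype F] (p : ℕ) [Fact p.Prime] [CharP F p] {x : SL2 F}
    (ht : tr x ^ 2 ≠ 4)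
    (hC : Nat.card (Subgroup.centralizer {x} : Subgroup (SL2 F)) = orderOf x)
    (hc : (orderOf x).Coprime p)
    (hlt : 2 * orderOf x < Fintype.card F * (Fintype.card F ^ 2 - 1))
    (hmax : ∀ g : ℕ, 2 * orderOf x ∣ g → 4 * orderOf x ≤ g →
      g ∣ Fintype.card F * (Fintype.card F ^ 2 - 1) →
      g ≠ Fintype.card F * (Fintype.card F ^ 2 - 1) →
      ¬ TorusBad (Fintype.card F) (ee F) (orderOf x) g) :
    ∃ H : Subgroup (PSL2 F), IsCoatom H ∧ Nonempty (H ≃* DihedralGroup (orderOf x / ee F)) := by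
  have hcS : Nat.card (SL2 F) = Fintype.card F * (Fintype.card F ^ 2 - 1) :=
    Cfsg.Agent.Lib.Helper7SL.card_SL_two
  set N : Subgroup (SL2 F) :=
    Subgroup.normalizer ((Subgroup.centralizer {x} : Subgroup (SL2 F)) : Set (SL2 F)) with hN
  have hcN : Nat.card N = 2 * orderOf x := by rw [hN, card_normalizer_centralizer ht, hC]
  have hZN : Subgroup.center (SL2 F) ≤ N :=
    (Subgroup.center_le_centralizer _).trans (centralizer_le_normalizer x)
  obtain ⟨y, hyx⟩ := exists_inverting ht
  have hyN : y ∈ N := (mem_normalizer_centralizer_iff ht).2 (Or.inr hyx)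
  have hxN : x ∈ N := (mem_normalizer_centralizer_iff ht).2 (Or.inl (by group))
  set H := N.map (proj F) with hH
  have hpre : pre H = N := pre_map_proj hZN
  have hNN : pre H = NN (pre H) x := by
    rw [hpre]
    exact (inf_idem N).symm
  obtain ⟨a, -, -, hHa, he⟩ := dihedral_of_NN ht (by rw [hpre]; exact hxN) hNN
    (by rw [hpre]; exact hyN) hyx
  have hpos : 0 < ee F := ee_pos
  have ha : orderOf x / ee F = a := by
    apply Nat.div_eq_of_eq_mul_right hpos
    have h1 := card_pre H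
    rw [hpre, hcN, hHa] at h1
    have h2 : 2 * orderOf x = 2 * (ee F * a) := by rw [h1]; ring
    omega
  rw [ha]
  refine ⟨H, ⟨?_, ?_⟩, he⟩
  · intro h
    have h1 : pre H = ⊤ := by rw [h]; rfl
    rw [hpre] at h1
    rw [h1, Subgroup.card_top, hcS] at hcN
    omega
  · intro M hM
    have hle : N ≤ pre M := by rw [← hpre]; exact pre_mono.2 hM.le
    have hne : N ≠ pre M := by
      intro h
      rw [← hpre] at h
      have h1 : H = M := by rw [← map_pre H, h, map_pre]
      exact hM.ne h1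
    have hdvd : 2 * orderOf x ∣ Nat.card (pre M) := by
      rw [← hcN]; exact Subgroup.card_dvd_of_le hle
    have hlt' : 2 * orderOf x < Nat.card (pre M) := by
      rw [← hcN]
      refine lt_of_le_of_ne (Subgroup.card_le_of_le hle) ?_
      intro h
      exact hne (Subgroup.eq_of_le_of_card_ge hle h.ge)
    have h4 : 4 * orderOf x ≤ Nat.card (pre M) := by
      obtain ⟨c, hc'⟩ := hdvd
      rw [hc'] at hlt' ⊢
      have : 2 ≤ c := by
        by_contra hcon
        have : c = 0 ∨ c = 1 := by omega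
        rcases this with rfl | rfl <;> omega
      nlinarith
    have htop : pre M = ⊤ → M = ⊤ := by
      intro h
      rw [← map_pre M, h]
      exact Subgroup.map_top_of_surjective _ (QuotientGroup.mk'_surjective _)
    have hdS : Nat.card (pre M) ∣ Fintype.card F * (Fintype.card F ^ 2 - 1) := by
      rw [← hcS]; exact Subgroup.card_subgroup_dvd_card _
    by_cases hfull : Nat.card (pre M) = Fintype.card F * (Fintype.card F ^ 2 - 1)
    · apply htop
      apply Subgroup.eq_top_of_card_eq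
      rw [hfull, hcS]
    · have hbad := hmax _ hdvd h4 hdS hfull
      rcases torus_cases p (center_le_pre M) (hle hxN) (hle hyN) hyx hc with
        h | h | h | h | h | h | h
      · exact absurd (Or.inl h) hbad
      · exact absurd (Or.inr (Or.inl h)) hbad
      · exact absurd (Or.inr (Or.inr (Or.inl h))) hbad
      · exact absurd (Or.inr (Or.inr (Or.inr (Or.inl h)))) hbad
      · exact absurd (Or.inr (Or.inr (Or.inr (Or.inr (Or.inl h))))) hbad
      · exact htop h
      · exact absurd (Or.inr (Or.inr (Or.inr (Or.inr (Or.inr h))))) hbad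

theorem arith_plus {q e g : ℕ} (hq2 : 2 ≤ q) (he : e = Nat.gcd 2 (q - 1))
    (hq : q ∉ ({2, 7, 9} : Finset ℕ)) (h2 : 4 * (q + 1) ≤ g)
    (h3 : g ∣ q * (q ^ 2 - 1)) (h4 : g ≠ q * (q ^ 2 - 1)) : ¬ TorusBad q e (q + 1) g := by
  have he2 : e ≤ 2 := by rw [he]; exact Nat.gcd_le_left _ (by norm_num)
  have he0 : 0 < e := by rw [he]; exact Nat.gcd_pos_of_pos_left _ (by norm_num)
  simp only [Finset.mem_insert, Finset.mem_singleton, not_or] at hq
  obtain ⟨hq2', hq7, hq9⟩ := hq
  rintro (h | ⟨hg, h⟩ | ⟨hg, h⟩ | ⟨hg, h⟩ | h | ⟨k, hk3, hkq, h⟩)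
  · omega
  · have h5 := Nat.le_of_dvd (by omega) h
    have h6 : q = 3 := by omega
    subst h6
    norm_num at he
    subst he
    subst hg
    norm_num at h4
  · have h6 : q ≤ 7 := by
      rcases h with h | h
      · have h5 := Nat.le_of_dvd (by omega) h
        omega
      · have h5 := Nat.le_of_dvd (by omega) h
        omega
    subst hg
    interval_cases q <;> first | omega | (norm_num at he; subst he; revert h h3; decide)
  · have h6 : q ≤ 9 := by
      rcases h with h | h | h
      · have h5 := Nat.le_of_dvd (by omega) h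
        omega
      · have h5 := Nat.le_of_dvd (by omega) h
        omega
      · have h5 := Nat.le_of_dvd (by omega) h
        omega
    subst hg
    interval_cases q <;> first | omega | (norm_num at he; subst he; revert h h3 h4; decide)
  · have h5 := Nat.le_of_dvd (by omega) h
    omega
  · have h6 : q + 1 ≤ 2 * (k + 1) := by
      rcases h with h | h
      · have h5 := Nat.le_of_dvd (by omega) h
        omega
      · exact Nat.le_of_dvd (by omega) h
    nlinarith

theorem arith_minus {q e g : ℕ} (hq2 : 2 ≤ q) (he : e = Nat.gcd 2 (q - 1))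
    (hq : q ∉ ({2, 3, 5, 7, 9, 11} : Finset ℕ)) (h2 : 4 * (q - 1) ≤ g)
    (h3 : g ∣ q * (q ^ 2 - 1)) (h4 : g ≠ q * (q ^ 2 - 1)) : ¬ TorusBad q e (q - 1) g := by
  have he2 : e ≤ 2 := by rw [he]; exact Nat.gcd_le_left _ (by norm_num)
  have he0 : 0 < e := by rw [he]; exact Nat.gcd_pos_of_pos_left _ (by norm_num)
  simp only [Finset.mem_insert, Finset.mem_singleton, not_or] at hq
  obtain ⟨hq2', hq3, hq5, hq7, hq9, hq11⟩ := hq
  rintro (h | ⟨hg, h⟩ | ⟨hg, h⟩ | ⟨hg, h⟩ | h | ⟨k, hk3, hkq, h⟩)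
  · omega
  · have h5 := Nat.le_of_dvd (by omega) h
    have h6 : q = 4 := by omega
    subst h6
    norm_num at he
    subst he
    revert h; decide
  · have h6 : q ≤ 9 := by
      rcases h with h | h
      · have h5 := Nat.le_of_dvd (by omega) h
        omega
      · have h5 := Nat.le_of_dvd (by omega) h
        omega
    subst hg
    interval_cases q <;> first | omega | (norm_num at he; subst he; revert h h3; decide)
  · have h6 : q ≤ 11 := by
      rcases h with h | h | h
      · have h5 := Nat.le_of_dvd (by omega) h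
        omega
      · have h5 := Nat.le_of_dvd (by omega) h
        omega
      · have h5 := Nat.le_of_dvd (by omega) h
        omega
    subst hg
    interval_cases q <;> first | omega | (norm_num at he; subst he; revert h h3 h4; decide)
  · have h5 := Nat.le_of_dvd (by omega) h
    omega
  · have h6 : q - 1 ≤ 2 * (k + 1) := by
      rcases h with h | h
      · have h5 := Nat.le_of_dvd (by omega) h
        omega
      · exact Nat.le_of_dvd (by omega) h
    have h7 : k ≤ 3 := by
      by_contra hcon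
      have : 4 ≤ k := by omega
      have : q ≤ 2 * k + 3 := by omega
      nlinarith
    have h8 : k = 3 := by omega
    subst h8
    omega

end Cfsg.Agent.Lib.Helper6DkCor
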