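import Mathlib
import Cfsg.Agent.Lib.Helper41Max
import Cfsg.Agent.Lib.Helper41Klein2
import Cfsg.Agent.Lib.Helper6DkT3
import Cfsg.Agent.Lib.Helper6DkTorus

/-!
# Project PG (S5891, S5890): maximal subgroups of `PGL₂(q)`, `q` odd.  Vocabulary.

`PGL₂(q)` is realised as `X / {±1}` with `X = PK K ≤ SL₂(E)`, `|K| = q`, `|E| = q²`
(`PK K = E^* GL₂(K) ∩ SL₂(E)`), and `PSL₂(q)` as `S / {±1}`, `S = SLK K` (index 2 in `X`).
-/

set_option autoImplicit false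

namespace Cfsg.Agent.Lib.H41PG

open Matrix Cfsg.Agent.Lib.Helper46SL2 Cfsg.Agent.Lib.Helper41SL2 Cfsg.Agent.Lib.Helper41Dk

local notation "SL2" => Matrix.SpecialLinearGroup (Fin 2)
local notation "PSL2" => Matrix.ProjectiveSpecialLinearGroup (Fin 2)

/-- `A` is a maximal proper subgroup of `B` -/
def MaxIn {𝔾 : Type*} [Group 𝔾] (A B : Subgroup 𝔾) : Prop :=
  A < B ∧ ∀ Y : Subgroup 𝔾, A < Y → Y ≤ B → Y = B

theorem MaxIn.eq_of_le {𝔾 : Type*} [Group 𝔾] {A B Y : Subgroup 𝔾} (h : MaxIn A B) (h1 : A ≤ Y)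
    (h2 : Y ≤ B) (h3 : Y ≠ B) : A = Y := by
  by_contra hne
  exact h3 (h.2 Y (lt_of_le_of_ne h1 hne) h2)

variable {E : Type*} [Field E]

/-- the standing hypotheses on the fields: `|K| = q` odd, `> 3`, `|E| = q²` -/
structure Setup (E : Type*) [Field E] [Fintype E] (K : Subfield E) (q : ℕ) : Prop where
  odd : Odd (Fintype.card E)
  cardK : Nat.card K = q
  cardE : Fintype.card E = q ^ 2
  three : 3 < q

/-- `G / {±1}` is a maximal subgroup of `PGL₂(K) = PK K / {±1}` not containing `PSL₂(K)` -/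
structure IsMax (K : Subfield E) (G : Subgroup (SL2 E)) : Prop where
  center : Subgroup.center (SL2 E) ≤ G
  max : MaxIn G (PK K)
  notS : ¬ SLK K ≤ G

/-- an automorphism of `SL₂(E)` stabilising `PK K` and `SLK K` -/
def Stab (K : Subfield E) (φ : SL2 E ≃* SL2 E) : Prop :=
  (PK K).map φ.toMonoidHom = PK K ∧ (SLK K).map φ.toMonoidHom = SLK K

/-- the normal forms of the maximal subgroups -/
def NF (K : Subfield E) (q : ℕ) (G : Subgroup (SL2 E)) : Prop :=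
  G = Bor E ⊓ PK K ∨
  (∃ x ∈ SLK K, tr x ^ 2 ≠ 4 ∧ G = NN (PK K) x) ∨
  (q.Prime ∧ (q % 8 = 3 ∨ q % 8 = 5) ∧ Nat.card G = 48 ∧
    Nonempty (G.map (proj E) ≃* Equiv.Perm (Fin 4))) ∨
  (∃ K1 : Subfield E, K1 ≤ K ∧ 3 ≤ Nat.card K1 ∧ G = PK K1 ∧
    ∃ r : ℕ, r.Prime ∧ Odd r ∧ Nat.card K1 ^ r = q)

end Cfsg.Agent.Lib.H41PG
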