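import Mathlib
import Cfsg.Agent.Lib.H41PGDefs

/-!
# Project PG, piece A4MaxK
-/

set_option autoImplicit false

namespace Cfsg.Agent.Lib.H41PG

open Matrix Cfsg.Agent.Lib.Helper46SL2 Cfsg.Agent.Lib.Helper41SL2 Cfsg.Agent.Lib.Helper41Dk
  Cfsg.Agent.Lib.Helper41Pair Cfsg.Agent.Lib.Helper41Lift

variable {E : Type*} [Field E]

local notation "SL2" => Matrix.SpecialLinearGroup (Fin 2)
local notation "PSL2" => Matrix.ProjectiveSpecialLinearGroup (Fin 2)
local notation "PGL2" => Matrix.ProjGenLinGroup (Fin 2)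

/-- `T ≠ ⊤` by orders (`Helper7SL.card_SL_two`).  Let `Y ≥ T` be a coatom (`eq_top_or_exists_le_coatom`).
`dickson_SL2'` gives a trace preserving `φ` with `Out' (Y.map φ)`; `coatom_cases` (with
`isCoatom_map_equiv φ`) leaves:
* `Y.map φ = Bor F`: `24 ∣ q (q - 1)` (`card_Bor`), so `8 ∣ q - 1`: no;
* `Y.map φ ≤ N(C(x))`, `tr x ^ 2 ≠ 4`: then `T ≤ N(C(φ.symm x))` and `tr (φ.symm x) = tr x`: excluded by `hno`;
* `|Y| = 24`: `Y = T`, done;
* `|Y| = 48`: `16 ∣ q (q² - 1)`, `Helper41Max.mod8`: no;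
* `O60`: `|Y| = 120`, `(5 : F) ≠ 0`, `Helper41Max.mod10`: `q % 10 ∈ {1, 9}`, against `h8`, `h40`;
* `Y.map φ = PK K1`, `finrank K1 F` prime: `card_pow_finrank`: `q` is a proper power, not a prime. -/
theorem A4_coatom {F : Type*} [Field F] [Fintype F] (hp : (Fintype.card F).Prime)
    (h5 : 5 ≤ Fintype.card F) (h8 : Fintype.card F % 8 = 3 ∨ Fintype.card F % 8 = 5)
    (h40 : Fintype.card F % 40 ∉ ({11, 19, 21, 29} : Finset ℕ))
    {T : Subgroup (SL2 F)} (hZ : Subgroup.center (SL2 F) ≤ T) (hT : Nat.card T = 24)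
    (hno : ∀ x : SL2 F, tr x ^ 2 ≠ 4 → ¬ T ≤ Subgroup.normalizer
      ((Subgroup.centralizer {x} : Subgroup (SL2 F)) : Set (SL2 F))) : IsCoatom T := by
  have hcS : Nat.card (SL2 F) = Fintype.card F * (Fintype.card F ^ 2 - 1) :=
    Cfsg.Agent.Lib.Helper7SL.card_SL_two
  have hodd : Odd (Fintype.card F) := by
    rw [Nat.odd_iff]; omega
  have hee : ee F = 2 := ee_eq_two hodd
  have hTtop : T ≠ ⊤ := by
    intro h
    rw [h, Subgroup.card_top, hcS] at hT
    have h1 : 24 ≤ Fintype.card F ^ 2 - 1 := by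
      have : 5 * 5 ≤ Fintype.card F ^ 2 := by nlinarith
      omega
    nlinarith
  obtain ⟨Y, hY, hTY⟩ := (eq_top_or_exists_le_coatom T).resolve_left hTtop
  obtain ⟨φ, hφ, hout⟩ := dickson_SL2' (hZ.trans hTY)
  have hcY : Nat.card (Y.map φ.toMonoidHom) = Nat.card Y :=
    Subgroup.card_map_of_injective φ.injective
  have hdT : 24 ∣ Nat.card Y := by rw [← hT]; exact Subgroup.card_dvd_of_le hTY
  have hdS : Nat.card Y ∣ Fintype.card F * (Fintype.card F ^ 2 - 1) := by
    rw [← hcS]; exact Subgroup.card_subgroup_dvd_card _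
  rcases coatom_cases (by omega) (isCoatom_map_equiv φ hY) hout with
    h | ⟨x, -, ht, h, -, -⟩ | ⟨-, h, -⟩ | ⟨-, -, h, -⟩ | ⟨-, h5F, h, -⟩ | ⟨K, -, hK, -⟩
  · exfalso
    rw [h, card_Bor] at hcY
    rw [← hcY] at hdT
    have h1 : 8 ∣ Fintype.card F * (Fintype.card F - 1) := Dvd.dvd.trans (by norm_num) hdT
    have hc : Nat.Coprime 8 (Fintype.card F) := by
      have : Nat.Coprime 2 (Fintype.card F) := Nat.coprime_two_left.mpr hodd
      exact Nat.Coprime.pow_left 3 this
    have h2 : 8 ∣ Fintype.card F - 1 := hc.dvd_of_dvd_mul_left h1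
    omega
  · exfalso
    have htr : tr (φ.symm x) ^ 2 ≠ 4 := by
      have : tr (φ.symm x) = tr x := by
        rw [← hφ (φ.symm x), MulEquiv.apply_symm_apply]
      rw [this]; exact ht
    apply hno (φ.symm x) htr
    intro t htT
    have h1 : φ t ∈ Y.map φ.toMonoidHom := Subgroup.mem_map_of_mem _ (hTY htT)
    rw [h] at h1
    have h2 := (mem_normalizer_centralizer_iff ht).1 h1.1
    rw [mem_normalizer_centralizer_iff htr]
    rcases h2 with h2 | h2
    · left
      apply φ.injective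
      rw [map_mul, map_mul, map_inv, MulEquiv.apply_symm_apply]
      exact h2
    · right
      apply φ.injective
      rw [map_mul, map_mul, map_inv, map_inv, MulEquiv.apply_symm_apply]
      exact h2
  · rw [hcY, hee] at h
    have : T = Y := Subgroup.eq_of_le_of_card_ge hTY (by rw [h, hT])
    rw [this]
    exact hY
  · exfalso
    rw [hcY, hee] at h
    rw [h] at hdS
    have h1 : 16 ∣ Fintype.card F * (Fintype.card F ^ 2 - 1) := Dvd.dvd.trans (by norm_num) hdS
    have := Cfsg.Agent.Lib.Helper41Max.mod8 hodd h1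
    omega
  · exfalso
    rw [hcY, hee] at h
    rw [h] at hdS
    have h1 : 5 ∣ Fintype.card F * (Fintype.card F ^ 2 - 1) := Dvd.dvd.trans (by norm_num) hdS
    have h5' : ¬ 5 ∣ Fintype.card F := by
      intro h6
      have h7 : 5 = Fintype.card F := (Nat.prime_dvd_prime_iff_eq Nat.prime_five hp).1 h6
      apply h5F
      have := FiniteField.cast_card_eq_zero F
      rw [← h7] at this
      exact_mod_cast this
    have h2 := Cfsg.Agent.Lib.Helper41Max.mod10 hodd h5' h1
    simp only [Finset.mem_insert, Finset.mem_singleton, not_or] at h40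
    omega
  · exfalso
    have h1 := card_pow_finrank K
    have h2 := (hp.pow_eq_iff).1 h1
    rw [h2.2] at hK
    exact Nat.not_prime_one hK

end Cfsg.Agent.Lib.H41PG
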