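import Mathlib
import Cfsg.Agent.Lib.H41PGDefs

/-!
# Project PG, piece Basic
-/

set_option autoImplicit false

namespace Cfsg.Agent.Lib.H41PG

open Matrix Cfsg.Agent.Lib.Helper46SL2 Cfsg.Agent.Lib.Helper41SL2 Cfsg.Agent.Lib.Helper41Dk
  Cfsg.Agent.Lib.Helper41Pair Cfsg.Agent.Lib.Helper41Lift

variable {E : Type*} [Field E]

local notation "SL2" => Matrix.SpecialLinearGroup (Fin 2)
local notation "PSL2" => Matrix.ProjectiveSpecialLinearGroup (Fin 2)
local notation "PGL2" => Matrix.ProjGenLinGroup (Fin 2)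

/-- `g = l⁻¹ g'` with `g'` over `K`; `tr g' = l * tr g`, so `l = tr g' / tr g ∈ K` and `g` is over `K`. -/
theorem mem_SLK_of_tr {K : Subfield E} {g : SL2 E} (hg : g ∈ PK K) (ht : tr g ∈ K)
    (h0 : tr g ≠ 0) : g ∈ SLK K := by
  obtain ⟨l, hl, a0, a1, a2, a3⟩ := hg
  have h1 : l * tr g ∈ K := by
    have := add_mem a0 a3
    rw [← mul_add] at this
    exact this
  have hlK : l ∈ K := by
    have := div_mem h1 ht
    rwa [mul_div_assoc, div_self h0, mul_one] at this
  have key : ∀ y : E, l * y ∈ K → y ∈ K := by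
    intro y hy
    have := div_mem hy hlK
    rwa [mul_div_assoc, mul_comm, div_mul_cancel₀ _ hl] at this
  exact ⟨key _ a0, key _ a1, key _ a2, key _ a3⟩

theorem sq_mul_mem {K : Subfield E} {c : SL2 E} {l : E} (a0 : l * c 0 0 ∈ K) (a1 : l * c 0 1 ∈ K)
    (a2 : l * c 1 0 ∈ K) (a3 : l * c 1 1 ∈ K) : l ^ 2 ∈ K := by
  have h := sub_mem (mul_mem a0 a3) (mul_mem a1 a2)
  have hd := det2 c
  have e : l * c 0 0 * (l * c 1 1) - l * c 0 1 * (l * c 1 0) = l ^ 2 := by
    linear_combination l ^ 2 * hd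
  rwa [e] at h

/-- `SLK K` is normalised by `PK K`. -/
theorem conj_mem_SLK {K : Subfield E} {c g : SL2 E} (hc : c ∈ PK K) (hg : g ∈ SLK K) :
    c * g * c⁻¹ ∈ SLK K := by
  obtain ⟨l, hl, a0, a1, a2, a3⟩ := hc
  obtain ⟨g0, g1, g2, g3⟩ := hg
  have hl2 : l ^ 2 ∈ K := sq_mul_mem a0 a1 a2 a3
  have hl20 : l ^ 2 ≠ 0 := pow_ne_zero 2 hl
  have key : ∀ y : E, l ^ 2 * y ∈ K → y ∈ K := by
    intro y hy
    have := div_mem hy hl2
    rwa [mul_div_assoc, mul_comm, div_mul_cancel₀ _ hl20] at this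
  refine ⟨key _ ?_, key _ ?_, key _ ?_, key _ ?_⟩
  · simp only [mul_00, mul_01, inv_00, inv_10]
    have := sub_mem (mul_mem (add_mem (mul_mem a0 g0) (mul_mem a1 g2)) a3)
      (mul_mem (add_mem (mul_mem a0 g1) (mul_mem a1 g3)) a2)
    convert this using 1; ring
  · simp only [mul_00, mul_01, inv_01, inv_11]
    have := sub_mem (mul_mem (add_mem (mul_mem a0 g1) (mul_mem a1 g3)) a0)
      (mul_mem (add_mem (mul_mem a0 g0) (mul_mem a1 g2)) a1)
    convert this using 1; ring
  · simp only [mul_10, mul_11, inv_00, inv_10]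
    have := sub_mem (mul_mem (add_mem (mul_mem a2 g0) (mul_mem a3 g2)) a3)
      (mul_mem (add_mem (mul_mem a2 g1) (mul_mem a3 g3)) a2)
    convert this using 1; ring
  · simp only [mul_10, mul_11, inv_01, inv_11]
    have := sub_mem (mul_mem (add_mem (mul_mem a2 g1) (mul_mem a3 g3)) a0)
      (mul_mem (add_mem (mul_mem a2 g0) (mul_mem a3 g2)) a1)
    convert this using 1; ring

theorem ratio_mem {K : Subfield E} {w : SL2 E} (hw : w ∈ PK K) (h : w 1 0 ≠ 0) :
    w 0 0 / w 1 0 ∈ K := by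
  obtain ⟨l, hl, a0, -, a2, -⟩ := hw
  have := div_mem a0 a2
  rwa [mul_div_mul_left _ _ hl] at this

theorem map_eq_of_forall {𝔾 : Type*} [Group 𝔾] {H : Subgroup 𝔾} {φ : 𝔾 ≃* 𝔾}
    (h1 : ∀ g ∈ H, φ g ∈ H) (h2 : ∀ g ∈ H, φ.symm g ∈ H) : H.map φ.toMonoidHom = H := by
  apply le_antisymm
  · rintro _ ⟨g, hg, rfl⟩
    exact h1 g hg
  · intro g hg
    exact ⟨φ.symm g, h2 g hg, φ.apply_symm_apply g⟩

/-- conjugation by an element of `PK K` stabilises `PK K` and `SLK K` -/
theorem stab_conj {K : Subfield E} {c : SL2 E} (hc : c ∈ PK K) : Stab K (MulAut.conj c) := by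
  constructor
  · apply map_eq_of_forall
    · intro g hg
      rw [MulAut.conj_apply]
      exact mul_mem (mul_mem hc hg) (inv_mem hc)
    · intro g hg
      rw [MulAut.conj_symm_apply]
      exact mul_mem (mul_mem (inv_mem hc) hg) hc
  · apply map_eq_of_forall
    · intro g hg
      rw [MulAut.conj_apply]
      exact conj_mem_SLK hc hg
    · intro g hg
      rw [MulAut.conj_symm_apply]
      have := conj_mem_SLK (inv_mem hc) hg
      rwa [inv_inv] at this

/-- `scl s` = conjugation by `diag(s,1)`, `s ∈ K` -/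
theorem stab_scl {K : Subfield E} {s : E} (hs : s ≠ 0) (hsK : s ∈ K) : Stab K (scl s hs) := by
  have hi : s⁻¹ ∈ K := inv_mem hsK
  constructor
  · apply map_eq_of_forall
    · rintro g ⟨l, hl, a0, a1, a2, a3⟩
      refine ⟨l, hl, a0, ?_, ?_, a3⟩
      · change l * (s * g 0 1) ∈ K
        have := mul_mem hsK a1
        convert this using 1; ring
      · change l * (s⁻¹ * g 1 0) ∈ K
        have := mul_mem hi a2
        convert this using 1; ring
    · rintro g ⟨l, hl, a0, a1, a2, a3⟩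
      refine ⟨l, hl, a0, ?_, ?_, a3⟩
      · change l * (s⁻¹ * g 0 1) ∈ K
        have := mul_mem hi a1
        convert this using 1; ring
      · change l * (s * g 1 0) ∈ K
        have := mul_mem hsK a2
        convert this using 1; ring
  · apply map_eq_of_forall
    · rintro g ⟨a0, a1, a2, a3⟩
      exact ⟨a0, mul_mem hsK a1, mul_mem hi a2, a3⟩
    · rintro g ⟨a0, a1, a2, a3⟩
      exact ⟨a0, mul_mem hi a1, mul_mem hsK a2, a3⟩

theorem stab_refl (K : Subfield E) : Stab K (MulEquiv.refl (SL2 E)) := by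
  constructor <;> · ext x; simp

theorem Stab.trans {K : Subfield E} {φ ψ : SL2 E ≃* SL2 E} (h1 : Stab K φ) (h2 : Stab K ψ) :
    Stab K (φ.trans ψ) := by
  constructor
  · have : (PK K).map (φ.trans ψ).toMonoidHom =
        ((PK K).map φ.toMonoidHom).map ψ.toMonoidHom := by
      rw [Subgroup.map_map]; rfl
    rw [this, h1.1, h2.1]
  · have : (SLK K).map (φ.trans ψ).toMonoidHom =
        ((SLK K).map φ.toMonoidHom).map ψ.toMonoidHom := by
      rw [Subgroup.map_map]; rfl
    rw [this, h1.2, h2.2]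

end Cfsg.Agent.Lib.H41PG
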