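import Mathlib
import Cfsg.Agent.Lib.H41PGDefs
import Cfsg.Agent.Lib.H41PGBasic

/-!
# Project PG, piece Idx
-/

set_option autoImplicit false

namespace Cfsg.Agent.Lib.H41PG

open Matrix Cfsg.Agent.Lib.Helper46SL2 Cfsg.Agent.Lib.Helper41SL2 Cfsg.Agent.Lib.Helper41Dk
  Cfsg.Agent.Lib.Helper41Pair Cfsg.Agent.Lib.Helper41Lift

variable {E : Type*} [Field E]

local notation "SL2" => Matrix.SpecialLinearGroup (Fin 2)
local notation "PSL2" => Matrix.ProjectiveSpecialLinearGroup (Fin 2)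
local notation "PGL2" => Matrix.ProjGenLinGroup (Fin 2)

theorem two_ne_zero' [Fintype E] {K : Subfield E} {q : ℕ} (hs : Setup E K q) : (2 : E) ≠ 0 := by
  intro h
  have h1 : ringChar E = 2 := by
    have h2 : ((2 : ℕ) : E) = 0 := by exact_mod_cast h
    have h3 := ringChar.dvd h2
    rcases (Nat.dvd_prime Nat.prime_two).mp h3 with h4 | h4
    · exact absurd h4 (CharP.ringChar_ne_one)
    · exact h4
  have := FiniteField.even_card_of_char_two h1
  exact (Nat.not_even_iff_odd.mpr hs.odd) (Nat.even_iff.mpr this)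

theorem card_PK' [Fintype E] {K : Subfield E} {q : ℕ} (hs : Setup E K q) :
    Nat.card (PK K) = 2 * (q * (q ^ 2 - 1)) := by
  have := card_PK_of_even_deg hs.odd (K := K) even_two (by rw [hs.cardK, hs.cardE])
  rwa [hs.cardK] at this

theorem card_SLK' [Fintype E] {K : Subfield E} {q : ℕ} (hs : Setup E K q) :
    Nat.card (SLK K) = q * (q ^ 2 - 1) := by
  rw [card_SLK, hs.cardK]

theorem center_le_SLK (K : Subfield E) : Subgroup.center (SL2 E) ≤ SLK K := by
  intro g hg
  rcases mem_center_iff_eq.mp hg with rfl | rfl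
  · exact one_mem _
  · refine ⟨?_, ?_, ?_, ?_⟩ <;> simp [Helper46SL2.neg_apply]

theorem relIndex_SLK_PK [Fintype E] {K : Subfield E} {q : ℕ} (hs : Setup E K q) :
    (SLK K).relIndex (PK K) = 2 := by
  have h := relIndex_mul_card' (SLK_le_PK K)
  rw [card_PK' hs, card_SLK' hs, mul_comm] at h
  have h3 := hs.three
  have hpos : 0 < q * (q ^ 2 - 1) := by
    apply Nat.mul_pos (by omega)
    have : 1 < q ^ 2 := by nlinarith
    omega
  exact Nat.eq_of_mul_eq_mul_right hpos h

theorem card_eq_two_mul [Fintype E] {K : Subfield E} {q : ℕ} (hs : Setup E K q)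
    {G : Subgroup (SL2 E)} (h1 : G ≤ PK K) (h2 : ¬ G ≤ SLK K) :
    Nat.card G = 2 * Nat.card (G ⊓ SLK K : Subgroup (SL2 E)) := by
  have hidx := relIndex_SLK_PK hs
  obtain ⟨w, hw, hwS⟩ := SetLike.not_le_iff_exists.mp h2
  have h3 : (G ⊓ SLK K).relIndex G = 2 := by
    rw [Subgroup.relIndex_eq_two_iff]
    refine ⟨w, hw, fun b hb => ?_⟩
    have key := idx2 hidx (h1 hb) (h1 hw)
    by_cases hbS : b ∈ SLK K
    · right
      refine ⟨⟨hb, hbS⟩, fun h => ?_⟩
      exact hwS ((key.mp h.2).mp hbS)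
    · left
      refine ⟨⟨mul_mem hb hw, key.mpr ⟨fun h => absurd h hbS, fun h => absurd h hwS⟩⟩, fun h => hbS h.2⟩
  have h4 := relIndex_mul_card' (inf_le_left : G ⊓ SLK K ≤ G)
  rw [h3, mul_comm] at h4
  exact h4.symm

theorem IsMax.not_le_SLK [Fintype E] {K : Subfield E} {q : ℕ} (hs : Setup E K q)
    {G : Subgroup (SL2 E)} (hG : IsMax K G) : ¬ G ≤ SLK K := by
  intro h
  have hne : SLK K ≠ PK K := by
    intro h1
    have h2 := relIndex_SLK_PK hs
    rw [h1, Subgroup.relIndex_self] at h2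
    omega
  have := hG.max.eq_of_le h (SLK_le_PK K) hne
  exact hG.notS this.ge

theorem exists_index_two [Fintype E] {K : Subfield E} {q : ℕ} (hs : Setup E K q)
    {G : Subgroup (SL2 E)} (hG : IsMax K G) : ∃ H0 : Subgroup (G.map (proj E)), H0.index = 2 := by
  have he : ee E = 2 := ee_eq_two hs.odd
  refine ⟨((G ⊓ SLK K).map (proj E)).subgroupOf (G.map (proj E)), ?_⟩
  change ((G ⊓ SLK K).map (proj E)).relIndex (G.map (proj E)) = 2
  have hle : (G ⊓ SLK K).map (proj E) ≤ G.map (proj E) := Subgroup.map_mono inf_le_left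
  have h1 := relIndex_mul_card' hle
  rw [mul_comm] at h1
  have h2 := card_pre (G.map (proj E))
  have h3 := card_pre ((G ⊓ SLK K).map (proj E))
  rw [pre_map_proj hG.center, he] at h2
  rw [pre_map_proj (le_inf hG.center (center_le_SLK K)), he] at h3
  have h4 := card_eq_two_mul hs hG.max.1.le (hG.not_le_SLK hs)
  have hpos : 0 < Nat.card ((G ⊓ SLK K).map (proj E)) := Nat.card_pos
  have h5 : Nat.card (G.map (proj E)) = 2 * Nat.card ((G ⊓ SLK K).map (proj E)) := by omega
  rw [h5] at h1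
  exact Nat.eq_of_mul_eq_mul_right hpos h1

end Cfsg.Agent.Lib.H41PG
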