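import Mathlib
import Cfsg.Agent.Lib.H41PGDefs

/-!
# Project PG, piece NNS
-/

set_option autoImplicit false

namespace Cfsg.Agent.Lib.H41PG

open Matrix Cfsg.Agent.Lib.Helper46SL2 Cfsg.Agent.Lib.Helper41SL2 Cfsg.Agent.Lib.Helper41Dk
  Cfsg.Agent.Lib.Helper41Pair Cfsg.Agent.Lib.Helper41Lift

variable {E : Type*} [Field E]

local notation "SL2" => Matrix.SpecialLinearGroup (Fin 2)
local notation "PSL2" => Matrix.ProjectiveSpecialLinearGroup (Fin 2)
local notation "PGL2" => Matrix.ProjGenLinGroup (Fin 2)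

/-- the embedding `SL₂(↥K) → SL₂(E)` -/
abbrev iota (K : Subfield E) : SL2 K →* SL2 E := SpecialLinearGroup.map (n := Fin 2) K.subtype

theorem iota_injective (K : Subfield E) : Function.Injective (iota K) := map_subtype_injective K

theorem tr_iota {K : Subfield E} (g : SL2 K) : tr (iota K g) = ((tr g : K) : E) := rfl

theorem tr_iota_sq_ne {K : Subfield E} {g : SL2 K} : tr (iota K g) ^ 2 ≠ 4 ↔ tr g ^ 2 ≠ 4 := by
  rw [tr_iota, not_iff_not]
  have h4 : (((4 : K) : K) : E) = 4 := by
    have : ((4 : K) : E) = K.subtype 4 := rfl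
    rw [this, map_ofNat]
  constructor
  · intro h
    apply Subtype.ext
    rw [h4, ← h]
    rfl
  · intro h
    have := congrArg (Subtype.val) h
    rw [h4] at this
    rw [← this]
    rfl

theorem iota_mem_SLK {K : Subfield E} (g : SL2 K) : iota K g ∈ SLK K := by
  rw [SLK_eq_range]; exact ⟨g, rfl⟩

theorem exists_iota {K : Subfield E} {x : SL2 E} (hx : x ∈ SLK K) : ∃ x', iota K x' = x := by
  rw [SLK_eq_range] at hx; exact hx

theorem map_centralizer {K : Subfield E} (x' : SL2 K) :
    (Subgroup.centralizer {x'} : Subgroup (SL2 K)).map (iota K) = AA (SLK K) (iota K x') := by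
  ext g
  constructor
  · rintro ⟨g', hg', rfl⟩
    refine mem_AA.mpr ⟨?_, iota_mem_SLK g'⟩
    exact (mem_cent_iff.mp hg').map (iota K)
  · intro hg
    obtain ⟨h1, h2⟩ := mem_AA.mp hg
    obtain ⟨g', rfl⟩ := exists_iota h2
    refine ⟨g', mem_cent_iff.mpr ?_, rfl⟩
    apply iota_injective K
    rw [map_mul, map_mul]
    exact h1

theorem map_normalizer {K : Subfield E} {x' : SL2 K} (ht : tr x' ^ 2 ≠ 4) :
    (Subgroup.normalizer ((Subgroup.centralizer {x'} : Subgroup (SL2 K)) : Set (SL2 K))).map (iota K)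
      = NN (SLK K) (iota K x') := by
  have ht' := tr_iota_sq_ne.mpr ht
  ext g
  constructor
  · rintro ⟨g', hg', rfl⟩
    refine ⟨(mem_normalizer_centralizer_iff ht').mpr ?_, iota_mem_SLK g'⟩
    rcases (mem_normalizer_centralizer_iff ht).mp hg' with h | h
    · left; rw [← map_inv, ← map_mul, ← map_mul, h]
    · right; rw [← map_inv, ← map_mul, ← map_mul, h, map_inv]
  · rintro ⟨h1, h2⟩
    obtain ⟨g', rfl⟩ := exists_iota h2
    refine ⟨g', (mem_normalizer_centralizer_iff ht).mpr ?_, rfl⟩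
    rcases (mem_normalizer_centralizer_iff ht').mp h1 with h | h
    · left
      apply iota_injective K
      rw [map_mul, map_mul, map_inv, h]
    · right
      apply iota_injective K
      rw [map_mul, map_mul, map_inv, h, map_inv]

/-- transport `exists_inverting` from `SL₂(↥K)`. -/
theorem exists_inverting_SLK [Finite E] {K : Subfield E} {x : SL2 E} (hx : x ∈ SLK K)
    (ht : tr x ^ 2 ≠ 4) : ∃ y ∈ SLK K, y * x * y⁻¹ = x⁻¹ := by
  obtain ⟨x', rfl⟩ := exists_iota hx
  obtain ⟨w, hw⟩ := exists_inverting (tr_iota_sq_ne.mp ht)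
  exact ⟨iota K w, iota_mem_SLK w, by rw [← map_inv, ← map_mul, ← map_mul, hw, map_inv]⟩

theorem card_AA_SLK [Finite E] {K : Subfield E} {x : SL2 E} (hx : x ∈ SLK K)
    (ht : tr x ^ 2 ≠ 4) :
    Nat.card (AA (SLK K) x) = Nat.card K + 1 ∨ Nat.card (AA (SLK K) x) = Nat.card K - 1 := by
  obtain ⟨x', rfl⟩ := exists_iota hx
  have := Fintype.ofFinite K
  rw [← map_centralizer, Subgroup.card_map_of_injective (iota_injective K),
    Nat.card_eq_fintype_card (α := K)]
  exact card_cent_cases (tr_iota_sq_ne.mp ht)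

theorem card_NN_SLK [Finite E] {K : Subfield E} {x : SL2 E} (hx : x ∈ SLK K)
    (ht : tr x ^ 2 ≠ 4) : Nat.card (NN (SLK K) x) = 2 * Nat.card (AA (SLK K) x) := by
  obtain ⟨x', rfl⟩ := exists_iota hx
  rw [← map_centralizer, ← map_normalizer (tr_iota_sq_ne.mp ht),
    Subgroup.card_map_of_injective (iota_injective K),
    Subgroup.card_map_of_injective (iota_injective K)]
  exact card_normalizer_centralizer (tr_iota_sq_ne.mp ht)

end Cfsg.Agent.Lib.H41PG
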