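import Mathlib
import Cfsg.Agent.Lib.H41PGDefs
import Cfsg.Agent.Lib.H41PGIdx

/-!
# Project PG, piece S4noTorus
-/

set_option autoImplicit false

namespace Cfsg.Agent.Lib.H41PG

open Matrix Cfsg.Agent.Lib.Helper46SL2 Cfsg.Agent.Lib.Helper41SL2 Cfsg.Agent.Lib.Helper41Dk
  Cfsg.Agent.Lib.Helper41Pair Cfsg.Agent.Lib.Helper41Lift

variable {E : Type*} [Field E]

local notation "SL2" => Matrix.SpecialLinearGroup (Fin 2)
local notation "PSL2" => Matrix.ProjectiveSpecialLinearGroup (Fin 2)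
local notation "PGL2" => Matrix.ProjGenLinGroup (Fin 2)

theorem S4_no_torus [Fintype E] {K : Subfield E} {q : ℕ} (hs : Setup E K q)
    {G : Subgroup (SL2 E)} (hG : IsMax K G) (e : G.map (proj E) ≃* Equiv.Perm (Fin 4)) {x : SL2 E}
    (ht : tr x ^ 2 ≠ 4) :
    ¬ (G ⊓ SLK K ≤ Subgroup.normalizer
      ((Subgroup.centralizer {x} : Subgroup (SL2 E)) : Set (SL2 E))) := by
  intro hle
  have he : ee E = 2 := ee_eq_two hs.odd
  have hpre : pre (G.map (proj E)) = G := pre_map_proj hG.center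
  have hc : Nat.card G = 48 := by
    have h3 := card_pre (G.map (proj E))
    rw [hpre, he, Nat.card_congr e.toEquiv, Cfsg.Agent.Lib.Helper41Max.card_S4] at h3
    exact h3
  have h1 := card_eq_two_mul hs hG.max.1.le (hG.not_le_SLK hs)
  set T := G ⊓ SLK K with hT
  have hcT : Nat.card T = 24 := by omega
  have hNN : NN T x = T := inf_eq_right.mpr hle
  have hA : Nat.card (AA T x) = 24 ∨ Nat.card (AA T x) = 12 := by
    rcases card_NN_ss T ht with h | ⟨h, -⟩
    · left; rw [← h, hNN, hcT]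
    · right; rw [hNN, hcT] at h; omega
  have hcyc := isCyclic_AA T ht
  obtain ⟨g, hg⟩ := IsCyclic.exists_generator (α := AA T x)
  have hord : orderOf g = Nat.card (AA T x) := orderOf_eq_card_of_forall_mem_zpowers hg
  have hord' : orderOf (g : SL2 E) = Nat.card (AA T x) := by rw [← hord, Subgroup.orderOf_coe]
  have hgG : (g : SL2 E) ∈ G := (g.2.2 : (g : SL2 E) ∈ T).1
  have hmem : proj E (g : SL2 E) ∈ G.map (proj E) := ⟨g, hgG, rfl⟩
  have key : ∀ n : ℕ, (e ⟨_, hmem⟩) ^ n = 1 → (g : SL2 E) ^ (2 * n) = 1 := by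
    intro n hn
    rw [← map_pow] at hn
    have h5 : (⟨_, hmem⟩ : G.map (proj E)) ^ n = 1 := e.injective (by rw [hn, map_one])
    have h6 : proj E ((g : SL2 E) ^ n) = 1 := by
      rw [map_pow]; exact congrArg Subtype.val h5
    have h7 : (g : SL2 E) ^ n ∈ Subgroup.center (SL2 E) := (QuotientGroup.eq_one_iff _).mp h6
    rw [mul_comm, pow_mul]
    rcases mem_center_iff_eq.mp h7 with h8 | h8
    · rw [h8, one_pow]
    · rw [h8]; simp
  rcases Cfsg.Agent.Lib.Helper6DkCor.perm4_pow (e ⟨_, hmem⟩) with h | h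
  · have := orderOf_dvd_of_pow_eq_one (key 3 h)
    rw [hord'] at this
    rcases hA with h' | h' <;> rw [h'] at this <;> omega
  · have := orderOf_dvd_of_pow_eq_one (key 4 h)
    rw [hord'] at this
    rcases hA with h' | h' <;> rw [h'] at this <;> omega

end Cfsg.Agent.Lib.H41PG
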