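import Mathlib
import Cfsg.Agent.Lib.H41PGDefs

/-!
# Project PG, piece TrK
-/

set_option autoImplicit false

namespace Cfsg.Agent.Lib.H41PG

open Matrix Cfsg.Agent.Lib.Helper46SL2 Cfsg.Agent.Lib.Helper41SL2 Cfsg.Agent.Lib.Helper41Dk
  Cfsg.Agent.Lib.Helper41Pair Cfsg.Agent.Lib.Helper41Lift

variable {E : Type*} [Field E]

local notation "SL2" => Matrix.SpecialLinearGroup (Fin 2)
local notation "PSL2" => Matrix.ProjectiveSpecialLinearGroup (Fin 2)
local notation "PGL2" => Matrix.ProjGenLinGroup (Fin 2)

/-- pure group theory -/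
theorem maxIn_map_of_coatom {A B : Type*} [Group A] [Group B] (ι : A →* B)
    (hι : Function.Injective ι) {M : Subgroup A} (hM : IsCoatom M) : MaxIn (M.map ι) ι.range := by
  constructor
  · refine lt_of_le_of_ne (Subgroup.map_le_range ι M) ?_
    intro h
    apply hM.1
    rw [← Subgroup.comap_map_eq_self_of_injective hι M, h]
    ext x
    simp
  · intro Y hMY hY
    have h1 : M < Y.comap ι := by
      refine lt_of_le_of_ne ?_ ?_
      · rw [← Subgroup.map_le_iff_le_comap]; exact hMY.le
      · intro h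
        apply hMY.ne
        rw [h, Subgroup.map_comap_eq, inf_eq_right.2 hY]
    have h2 := hM.2 _ h1
    apply le_antisymm hY
    rintro _ ⟨a, rfl⟩
    have : a ∈ Y.comap ι := by rw [h2]; trivial
    exact this

/-- `SLK_eq_range`, `map_subtype_injective` -/
theorem maxIn_SLK_of_coatom {K : Subfield E} {M : Subgroup (SL2 K)} (hM : IsCoatom M) :
    MaxIn (M.map (SpecialLinearGroup.map K.subtype)) (SLK K) := by
  rw [SLK_eq_range]
  exact maxIn_map_of_coatom _ (map_subtype_injective K) hM

end Cfsg.Agent.Lib.H41PG
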