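import Mathlib
import Cfsg.Agent.Lib.H41PGDefs
import Cfsg.Agent.Lib.H41PGIdx
import Cfsg.Agent.Lib.H41PGTrK
import Cfsg.Agent.Lib.H41PGA4MaxK
import Cfsg.Agent.Lib.H41PGS4noTorus
import Cfsg.Agent.Lib.H41PGNNS

/-!
# Project PG, piece A4MaxE
-/

set_option autoImplicit false

namespace Cfsg.Agent.Lib.H41PG

open Matrix Cfsg.Agent.Lib.Helper46SL2 Cfsg.Agent.Lib.Helper41SL2 Cfsg.Agent.Lib.Helper41Dk
  Cfsg.Agent.Lib.Helper41Pair Cfsg.Agent.Lib.Helper41Lift

variable {E : Type*} [Field E]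

local notation "SL2" => Matrix.SpecialLinearGroup (Fin 2)
local notation "PSL2" => Matrix.ProjectiveSpecialLinearGroup (Fin 2)
local notation "PGL2" => Matrix.ProjGenLinGroup (Fin 2)

theorem S4_inf_maxIn [Fintype E] {K : Subfield E} {q : ℕ} (hs : Setup E K q)
    {G : Subgroup (SL2 E)} (hG : IsMax K G) (hp : q.Prime) (h8 : q % 8 = 3 ∨ q % 8 = 5)
    (h40 : q % 40 ∉ ({11, 19, 21, 29} : Finset ℕ)) (hc : Nat.card G = 48)
    (e : G.map (proj E) ≃* Equiv.Perm (Fin 4)) : MaxIn (G ⊓ SLK K) (SLK K) := by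
  have := Fintype.ofFinite K
  have hq : Fintype.card K = q := by rw [← Nat.card_eq_fintype_card]; exact hs.cardK
  have h3 := hs.three
  have h1 := card_eq_two_mul hs hG.max.1.le (hG.not_le_SLK hs)
  set T := G ⊓ SLK K with hT
  have hcT : Nat.card T = 24 := by omega
  have hmap : (T.comap (iota K)).map (iota K) = T := by
    rw [Subgroup.map_comap_eq, inf_eq_right, ← SLK_eq_range]
    exact inf_le_right
  rw [← hmap]
  apply maxIn_SLK_of_coatom
  apply A4_coatom (by rw [hq]; exact hp) (by rw [hq]; omega) (by rw [hq]; exact h8)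
    (by rw [hq]; exact h40)
  · intro z hz
    change iota K z ∈ T
    refine ⟨hG.center ?_, iota_mem_SLK z⟩
    rcases mem_center_iff_eq.mp hz with rfl | rfl
    · rw [map_one]; exact one_mem _
    · apply mem_center_iff_eq.mpr
      right
      apply ext2 <;> simp [Helper46SL2.neg_apply, SpecialLinearGroup.map_apply_coe]
  · rw [← Subgroup.card_map_of_injective (iota_injective K), hmap, hcT]
  · intro x' ht' hle
    apply S4_no_torus hs hG e (tr_iota_sq_ne.mpr ht')
    rw [← hT, ← hmap]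
    have h5 := Subgroup.map_mono (f := iota K) hle
    rw [map_normalizer ht'] at h5
    exact h5.trans inf_le_left

end Cfsg.Agent.Lib.H41PG
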