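import Mathlib
import Cfsg.Agent.Lib.H41PGDefs
import Cfsg.Agent.Lib.H41PGNNS

/-!
# Project PG, piece Bor
-/

set_option autoImplicit false

namespace Cfsg.Agent.Lib.H41PG

open Matrix Cfsg.Agent.Lib.Helper46SL2 Cfsg.Agent.Lib.Helper41SL2 Cfsg.Agent.Lib.Helper41Dk
  Cfsg.Agent.Lib.Helper41Pair Cfsg.Agent.Lib.Helper41Lift

variable {E : Type*} [Field E]

local notation "SL2" => Matrix.SpecialLinearGroup (Fin 2)
local notation "PSL2" => Matrix.ProjectiveSpecialLinearGroup (Fin 2)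
local notation "PGL2" => Matrix.ProjGenLinGroup (Fin 2)

theorem map_Bor (K : Subfield E) : (Bor K).map (iota K) = Bor E ⊓ SLK K := by
  ext g
  constructor
  · rintro ⟨g', hg', rfl⟩
    refine ⟨?_, iota_mem_SLK g'⟩
    change ((g' 1 0 : K) : E) = 0
    have : g' 1 0 = 0 := hg'
    rw [this]; rfl
  · rintro ⟨h1, h2⟩
    obtain ⟨g', rfl⟩ := exists_iota h2
    refine ⟨g', ?_, rfl⟩
    change g' 1 0 = 0
    apply Subtype.ext
    exact h1

theorem card_Bor_inf_SLK [Finite E] (K : Subfield E) :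
    Nat.card (Bor E ⊓ SLK K : Subgroup (SL2 E)) = Nat.card K * (Nat.card K - 1) := by
  have := Fintype.ofFinite K
  rw [← map_Bor, Subgroup.card_map_of_injective (iota_injective K), card_Bor,
    Nat.card_eq_fintype_card]

theorem Bor_inf_PK_ne (K : Subfield E) : Bor E ⊓ PK K ≠ PK K := by
  intro h
  have h1 : ll (1 : E) ∈ PK K := SLK_le_PK K ⟨one_mem K, zero_mem K, one_mem K, one_mem K⟩
  rw [← h] at h1
  have h2 : (ll (1 : E)) 1 0 = 0 := h1.1
  rw [ll_10] at h2
  exact one_ne_zero h2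

end Cfsg.Agent.Lib.H41PG
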