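import Mathlib
import Cfsg.Agent.Lib.H41PGDefs

/-!
# Project PG, piece BorMax
-/

set_option autoImplicit false
set_option linter.unusedSimpArgs false

namespace Cfsg.Agent.Lib.H41PG

open Matrix Cfsg.Agent.Lib.Helper46SL2 Cfsg.Agent.Lib.Helper41SL2 Cfsg.Agent.Lib.Helper41Dk
  Cfsg.Agent.Lib.Helper41Pair Cfsg.Agent.Lib.Helper41Lift

variable {E : Type*} [Field E]

local notation "SL2" => Matrix.SpecialLinearGroup (Fin 2)
local notation "PSL2" => Matrix.ProjectiveSpecialLinearGroup (Fin 2)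
local notation "PGL2" => Matrix.ProjGenLinGroup (Fin 2)

/-- Proper: `ll 1 ∈ SLK K`, `∉ Bor E`.  Let `Bor E ⊓ SLK K < Y ≤ SLK K` and `g ∈ Y` with `t = g 1 0 ≠ 0`.
Then `w = uu (-(g 0 0 / t)) * g * uu (-(g 1 1 / t)) = [[0, -1/t], [t, 0]] ∈ Y` and
`ll c = w * uu (-(c / t²)) * w⁻¹ ∈ Y` for `c ∈ K`; `uu c ∈ Bor E ⊓ SLK K ≤ Y`.  Conclude by `SLK_le`. -/
theorem Bor_maxIn (K : Subfield E) : MaxIn (Bor E ⊓ SLK K) (SLK K) := by
  have huB : ∀ c ∈ K, uu c ∈ Bor E ⊓ SLK K := by
    intro c hc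
    refine ⟨?_, ?_⟩
    · show uu c 1 0 = 0
      simp
    · refine ⟨?_, ?_, ?_, ?_⟩
      · rw [uu_00]; exact one_mem K
      · rw [uu_01]; exact hc
      · rw [uu_10]; exact zero_mem K
      · rw [uu_11]; exact one_mem K
  constructor
  · refine lt_of_le_of_ne inf_le_right ?_
    intro h
    have h1 : ll (1 : E) ∈ SLK K := by
      refine ⟨?_, ?_, ?_, ?_⟩
      · rw [ll_00]; exact one_mem K
      · rw [ll_01]; exact zero_mem K
      · rw [ll_10]; exact one_mem K
      · rw [ll_11]; exact one_mem K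
    rw [← h] at h1
    have h2 : ll (1 : E) 1 0 = 0 := h1.1
    rw [ll_10] at h2
    exact one_ne_zero h2
  · intro Y hlt hle
    refine le_antisymm hle ?_
    obtain ⟨g, hgY, hgB⟩ := SetLike.exists_of_lt hlt
    have hgK : g ∈ SLK K := hle hgY
    have ht : g 1 0 ≠ 0 := fun h0 => hgB ⟨h0, hgK⟩
    obtain ⟨a0, a1, a2, a3⟩ := hgK
    have hu : ∀ c ∈ K, uu c ∈ Y := fun c hc => hlt.le (huB c hc)
    apply SLK_le hu
    intro c hc
    set t := g 1 0 with htdef
    set w := uu (-(g 0 0 / t)) * g * uu (-(g 1 1 / t)) with hw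
    have hwY : w ∈ Y :=
      mul_mem (mul_mem (hu _ (neg_mem (div_mem a0 a2))) hgY) (hu _ (neg_mem (div_mem a3 a2)))
    have hd := det2 g
    have w00 : w 0 0 = 0 := by
      simp only [hw, mul_00, mul_01, mul_10, mul_11, uu_00, uu_01, uu_10, uu_11]
      rw [← htdef]
      field_simp
      ring
    have w10 : w 1 0 = t := by
      simp only [hw, mul_00, mul_01, mul_10, mul_11, uu_00, uu_01, uu_10, uu_11]
      rw [← htdef]
      ring
    have w11 : w 1 1 = 0 := by
      simp only [hw, mul_00, mul_01, mul_10, mul_11, uu_00, uu_01, uu_10, uu_11]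
      rw [← htdef]
      field_simp
      ring
    have w01 : w 0 1 = -1 / t := by
      have hdw := det2 w
      rw [w00, w10, w11] at hdw
      field_simp
      linear_combination -hdw
    have e : ll c = w * uu (-(c / t ^ 2)) * w⁻¹ := by
      apply ext2 <;>
        simp only [mul_00, mul_01, mul_10, mul_11, uu_00, uu_01, uu_10, uu_11, ll_00, ll_01, ll_10,
          ll_11, inv_00, inv_01, inv_10, inv_11, w00, w01, w10, w11]
      · field_simp; ring
      · ring
      · field_simp; ring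
      · field_simp; ring
    rw [e]
    exact mul_mem (mul_mem hwY (hu _ (neg_mem (div_mem hc (pow_mem a2 2))))) (inv_mem hwY)

end Cfsg.Agent.Lib.H41PG
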