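import Mathlib
import Cfsg.Agent.Lib.H41PGDefs

/-!
# Project PG, piece Comm
-/

set_option autoImplicit false

namespace Cfsg.Agent.Lib.H41PG

open Matrix Cfsg.Agent.Lib.Helper46SL2 Cfsg.Agent.Lib.Helper41SL2 Cfsg.Agent.Lib.Helper41Dk
  Cfsg.Agent.Lib.Helper41Pair Cfsg.Agent.Lib.Helper41Lift

variable {E : Type*} [Field E]

local notation "SL2" => Matrix.SpecialLinearGroup (Fin 2)
local notation "PSL2" => Matrix.ProjectiveSpecialLinearGroup (Fin 2)
local notation "PGL2" => Matrix.ProjGenLinGroup (Fin 2)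

open Polynomial in
theorem exists_good_m [Finite E] {K : Subfield E} (h3 : 3 < Nat.card K) {τ δ : E}
    (hd : τ ^ 2 - 4 * δ ≠ 0) : ∃ m ∈ K, m ^ 2 + m * τ + δ ≠ 0 ∧ 2 * m + τ ≠ 0 := by
  classical
  by_contra hcon
  push Not at hcon
  have := Fintype.ofFinite E
  let P : E[X] := (X ^ 2 + C τ * X + C δ) * (C 2 * X + C τ)
  have hP1 : (X ^ 2 + C τ * X + C δ : E[X]) ≠ 0 := by
    intro h
    have := congrArg (fun p => coeff p 2) h
    simp [coeff_X, coeff_C] at this
  have hP2 : (C 2 * X + C τ : E[X]) ≠ 0 := by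
    intro h
    have h1 := congrArg (fun p => coeff p 1) h
    have h0 := congrArg (fun p => coeff p 0) h
    simp [coeff_X, coeff_C] at h1 h0
    apply hd
    rw [h0]
    linear_combination (-2 * δ) * h1
  have hP : P ≠ 0 := mul_ne_zero hP1 hP2
  have hdeg : P.natDegree ≤ 3 := by
    have h1 : (X ^ 2 + C τ * X + C δ : E[X]).natDegree ≤ 2 := by compute_degree
    have h2 : (C 2 * X + C τ : E[X]).natDegree ≤ 1 := by compute_degree
    exact (natDegree_mul_le).trans (by omega)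
  apply hP
  apply eq_zero_of_natDegree_lt_card_of_eval_eq_zero' P ((K : Set E).toFinset)
  · intro m hm
    have hmK : m ∈ K := by simpa using hm
    simp only [P, eval_mul, eval_add, eval_pow, eval_X, eval_C]
    by_cases h : m ^ 2 + m * τ + δ = 0
    · have : m ^ 2 + τ * m + δ = 0 := by linear_combination h
      rw [this, zero_mul]
    · rw [hcon m hmK h, mul_zero]
  · have : ((K : Set E).toFinset).card = Nat.card K := by
      rw [Set.toFinset_card, Nat.card_eq_fintype_card]; rfl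
    omega

theorem exists_commuting_in_SLK [Finite E] {K : Subfield E} (h3 : 3 < Nat.card K) {x : SL2 E}
    (hx : x ∈ PK K) (ht : tr x ^ 2 ≠ 4) : ∃ x1 ∈ SLK K, Commute x1 x ∧ tr x1 ^ 2 ≠ 4 := by
  obtain ⟨l, hl, a0, a1, a2, a3⟩ := hx
  have hdet := det2 x
  set a := l * x 0 0 with ha
  set b := l * x 0 1 with hb
  set c := l * x 1 0 with hc
  set d := l * x 1 1 with hd
  have hδ : a * d - b * c = l ^ 2 := by
    rw [ha, hb, hc, hd]; linear_combination l ^ 2 * hdet
  have hdisc : (a + d) ^ 2 - 4 * (a * d - b * c) ≠ 0 := by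
    rw [hδ]
    have : (a + d) ^ 2 - 4 * l ^ 2 = l ^ 2 * (tr x ^ 2 - 4) := by
      rw [ha, hd, tr]; ring
    rw [this]
    exact mul_ne_zero (pow_ne_zero 2 hl) (sub_ne_zero.mpr ht)
  obtain ⟨m, hm, hQ, h2m⟩ := exists_good_m h3 hdisc
  set Q := m ^ 2 + m * (a + d) + (a * d - b * c) with hQdef
  have hQK : Q ∈ K := add_mem (add_mem (pow_mem hm 2) (mul_mem hm (add_mem a0 a3)))
    (sub_mem (mul_mem a0 a3) (mul_mem a1 a2))
  have h2K : (2 : E) ∈ K := by
    have : ((2 : ℕ) : E) ∈ K := natCast_mem K 2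
    exact_mod_cast this
  have hsK : 2 * m + (a + d) ∈ K := add_mem (mul_mem h2K hm) (add_mem a0 a3)
  let x1 : SL2 E := mk2 (((m + a) ^ 2 + b * c) / Q) (b * (2 * m + (a + d)) / Q)
    (c * (2 * m + (a + d)) / Q) (((m + d) ^ 2 + b * c) / Q) (by
      field_simp
      rw [hQdef]; ring)
  refine ⟨x1, ⟨?_, ?_, ?_, ?_⟩, ?_, ?_⟩
  · exact div_mem (add_mem (pow_mem (add_mem hm a0) 2) (mul_mem a1 a2)) hQK
  · exact div_mem (mul_mem a1 hsK) hQK
  · exact div_mem (mul_mem a2 hsK) hQK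
  · exact div_mem (add_mem (pow_mem (add_mem hm a3) 2) (mul_mem a1 a2)) hQK
  · apply ext2 <;>
      simp only [x1, mul_00, mul_01, mul_10, mul_11, mk2_00, mk2_01, mk2_10, mk2_11] <;>
      field_simp <;> rw [ha, hb, hc, hd] <;> ring
  · have htr : tr x1 = ((2 * m + (a + d)) ^ 2 - 2 * Q) / Q := by
      simp only [tr, x1, mk2_00, mk2_11]
      field_simp
      rw [hQdef]; ring
    intro h4
    have h5 : (2 * m + (a + d)) ^ 2 * ((a + d) ^ 2 - 4 * (a * d - b * c)) = 0 := by
      rw [htr] at h4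
      field_simp at h4
      have h6 : (2 * m + (a + d)) ^ 2 - 4 * Q = (a + d) ^ 2 - 4 * (a * d - b * c) := by
        rw [hQdef]; ring
      rw [← h6]
      linear_combination h4
    rcases mul_eq_zero.mp h5 with h6 | h6
    · exact h2m (pow_eq_zero_iff (two_ne_zero) |>.mp h6)
    · exact hdisc h6

end Cfsg.Agent.Lib.H41PG
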