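import Mathlib
import Cfsg.Agent.Lib.H41PGDefs

/-!
# Project PG, piece Corr
-/

set_option autoImplicit false

namespace Cfsg.Agent.Lib.H41PG

open Matrix Cfsg.Agent.Lib.Helper46SL2 Cfsg.Agent.Lib.Helper41SL2 Cfsg.Agent.Lib.Helper41Dk
  Cfsg.Agent.Lib.Helper41Pair Cfsg.Agent.Lib.Helper41Lift

variable {E : Type*} [Field E]

local notation "SL2" => Matrix.SpecialLinearGroup (Fin 2)
local notation "PSL2" => Matrix.ProjectiveSpecialLinearGroup (Fin 2)
local notation "PGL2" => Matrix.ProjGenLinGroup (Fin 2)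

theorem corrAux_le {P Γ : Type*} [Group P] [Group Γ] {Xb : Subgroup P} (e : Xb ≃* Γ)
    {M L : Subgroup Γ} :
    (M.comap e.toMonoidHom).map Xb.subtype ≤ (L.comap e.toMonoidHom).map Xb.subtype ↔ M ≤ L := by
  rw [Subgroup.map_le_map_iff_of_injective Xb.subtype_injective]
  exact Subgroup.comap_le_comap_of_surjective e.surjective

theorem corrAux_lt {P Γ : Type*} [Group P] [Group Γ] {Xb : Subgroup P} (e : Xb ≃* Γ)
    {M L : Subgroup Γ} :
    (M.comap e.toMonoidHom).map Xb.subtype < (L.comap e.toMonoidHom).map Xb.subtype ↔ M < L := by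
  rw [lt_iff_le_not_ge, lt_iff_le_not_ge, corrAux_le, corrAux_le]

theorem corrAux_top {P Γ : Type*} [Group P] [Group Γ] {Xb : Subgroup P} (e : Xb ≃* Γ) :
    ((⊤ : Subgroup Γ).comap e.toMonoidHom).map Xb.subtype = Xb := by
  rw [Subgroup.comap_top, ← MonoidHom.range_eq_map, Subgroup.range_subtype]

theorem corrAux_surj {P Γ : Type*} [Group P] [Group Γ] {Xb : Subgroup P} (e : Xb ≃* Γ)
    {Y : Subgroup P} (hY : Y ≤ Xb) :
    ((((Y.subgroupOf Xb).map e.toMonoidHom)).comap e.toMonoidHom).map Xb.subtype = Y := by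
  rw [Subgroup.comap_map_eq_self_of_injective e.injective, Subgroup.subgroupOf_map_subtype,
    inf_eq_left.2 hY]

theorem corrAux_inf {P Γ : Type*} [Group P] [Group Γ] {Xb : Subgroup P} (e : Xb ≃* Γ)
    (M L : Subgroup Γ) :
    ((M ⊓ L).comap e.toMonoidHom).map Xb.subtype =
      (M.comap e.toMonoidHom).map Xb.subtype ⊓ (L.comap e.toMonoidHom).map Xb.subtype := by
  rw [Subgroup.comap_inf, Subgroup.map_inf _ _ _ Xb.subtype_injective]

/-- pure group theory: subgroups of `Γ ≃ X̄ ≤ P` -/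
theorem maxIn_of_coatom {P Γ : Type*} [Group P] [Group Γ] {Xb : Subgroup P} (e : Xb ≃* Γ)
    {M : Subgroup Γ} (hM : IsCoatom M) :
    MaxIn ((M.comap e.toMonoidHom).map Xb.subtype) Xb := by
  constructor
  · have h := (corrAux_lt e (M := M) (L := ⊤)).2 hM.lt_top
    rwa [corrAux_top] at h
  · intro Y hlt hle
    have hY := corrAux_surj e hle
    rw [← hY, corrAux_lt] at hlt
    have := hM.2 _ hlt
    rw [this, corrAux_top] at hY
    exact hY.symm

theorem equiv_of_corr {P Γ : Type*} [Group P] [Group Γ] {Xb : Subgroup P} (e : Xb ≃* Γ)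
    (M : Subgroup Γ) : Nonempty (M ≃* (M.comap e.toMonoidHom).map Xb.subtype) := by
  have h : M.map e.symm.toMonoidHom = M.comap e.toMonoidHom := by
    ext x
    constructor
    · rintro ⟨y, hy, rfl⟩
      show e (e.symm y) ∈ M
      rwa [e.apply_symm_apply]
    · intro hx
      exact ⟨e x, hx, e.symm_apply_apply x⟩
  exact ⟨((e.symm.subgroupMap M).trans (MulEquiv.subgroupCongr h)).trans
    (Subgroup.equivMapOfInjective _ Xb.subtype Xb.subtype_injective)⟩

theorem corrAux_pre_lt {A B : Subgroup (PSL2 E)} : pre A < pre B ↔ A < B := by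
  rw [lt_iff_le_not_ge, lt_iff_le_not_ge, pre_mono, pre_mono]

/-- `pre` = preimage in `SL₂(E)`; `pre_mono`, `map_pre`, `pre_map_proj`, `center_le_pre` -/
theorem maxIn_pre {A B : Subgroup (PSL2 E)} (h : MaxIn A B) : MaxIn (pre A) (pre B) := by
  refine ⟨corrAux_pre_lt.2 h.1, ?_⟩
  intro Y hlt hle
  have hZ : Subgroup.center (SL2 E) ≤ Y := (center_le_pre A).trans hlt.le
  have hY := pre_map_proj hZ
  rw [← hY] at hlt hle ⊢
  rw [h.2 _ (corrAux_pre_lt.1 hlt) (pre_mono.1 hle)]

/-- converse direction, for S5890 -/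
theorem coatom_of_maxIn {P Γ : Type*} [Group P] [Group Γ] {Xb : Subgroup P} (e : Xb ≃* Γ)
    {M L : Subgroup Γ}
    (h : MaxIn ((M.comap e.toMonoidHom).map Xb.subtype ⊓ (L.comap e.toMonoidHom).map Xb.subtype)
      ((L.comap e.toMonoidHom).map Xb.subtype)) :
    IsCoatom ((M ⊓ L).subgroupOf L) := by
  rw [← corrAux_inf] at h
  obtain ⟨h1, h2⟩ := h
  rw [corrAux_lt] at h1
  constructor
  · intro ht
    rw [Subgroup.subgroupOf_eq_top] at ht
    exact absurd ht h1.not_ge
  · intro b hb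
    have hbL : b.map L.subtype ≤ L := by
      rintro _ ⟨y, -, rfl⟩
      exact y.2
    have hlt : M ⊓ L < b.map L.subtype := by
      have e1 : ((M ⊓ L).subgroupOf L).map L.subtype = M ⊓ L := by
        rw [Subgroup.subgroupOf_map_subtype, inf_eq_left.2 inf_le_right]
      rw [← e1]
      exact (Subgroup.map_lt_map_iff_of_injective L.subtype_injective).2 hb
    have h3 := h2 _ ((corrAux_lt e).2 hlt) ((corrAux_le e).2 hbL)
    have h4 : b.map L.subtype = L :=
      le_antisymm ((corrAux_le e).1 h3.le) ((corrAux_le e).1 h3.ge)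
    rw [eq_top_iff]
    intro y _
    have hy : (y : Γ) ∈ b.map L.subtype := by rw [h4]; exact y.2
    obtain ⟨z, hz, hzy⟩ := hy
    have : z = y := Subtype.ext hzy
    rwa [← this]

theorem maxIn_of_pre {A B : Subgroup (PSL2 E)} (h : MaxIn (pre A) (pre B)) : MaxIn A B := by
  refine ⟨corrAux_pre_lt.1 h.1, ?_⟩
  intro Y hlt hle
  have h3 := h.2 _ (corrAux_pre_lt.2 hlt) (pre_mono.2 hle)
  exact le_antisymm (pre_mono.1 h3.le) (pre_mono.1 h3.ge)

end Cfsg.Agent.Lib.H41PG
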