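import Mathlib
import Cfsg.Agent.Lib.H41PGDefs
import Cfsg.Agent.Lib.H41PGIdx
import Cfsg.Agent.Lib.H41PGComm

/-!
# Project PG, piece DihA
-/

set_option autoImplicit false

namespace Cfsg.Agent.Lib.H41PG

open Matrix Cfsg.Agent.Lib.Helper46SL2 Cfsg.Agent.Lib.Helper41SL2 Cfsg.Agent.Lib.Helper41Dk
  Cfsg.Agent.Lib.Helper41Pair Cfsg.Agent.Lib.Helper41Lift

variable {E : Type*} [Field E]

local notation "SL2" => Matrix.SpecialLinearGroup (Fin 2)
local notation "PSL2" => Matrix.ProjectiveSpecialLinearGroup (Fin 2)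
local notation "PGL2" => Matrix.ProjGenLinGroup (Fin 2)

theorem NN_PK_ne [Fintype E] {K : Subfield E} {q : ℕ} (hs : Setup E K q) {x : SL2 E}
    (ht : tr x ^ 2 ≠ 4) : NN (PK K) x ≠ PK K := by
  intro h
  have h1 : Nat.card (NN (PK K) x) ≤ Nat.card (Subgroup.normalizer
      ((Subgroup.centralizer {x} : Subgroup (SL2 E)) : Set (SL2 E))) :=
    Subgroup.card_le_of_le inf_le_left
  rw [h, card_PK' hs, card_normalizer_centralizer ht] at h1
  have h2 : Nat.card (Subgroup.centralizer {x} : Subgroup (SL2 E)) ≤ q ^ 2 + 1 := by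
    rcases card_cent_cases ht with h | h <;> rw [h, hs.cardE] <;> omega
  have h3 := hs.three
  have h4 : q * (q ^ 2 - 1) ≤ q ^ 2 + 1 := by omega
  have h5 : 4 * (q ^ 2 - 1) ≤ q * (q ^ 2 - 1) := Nat.mul_le_mul_right _ (by omega)
  have h6 : 16 ≤ q ^ 2 := by nlinarith
  omega

theorem dih_normal_form [Fintype E] {K : Subfield E} {q : ℕ} (hs : Setup E K q)
    {G : Subgroup (SL2 E)} (hG : IsMax K G) {x : SL2 E} (hx : x ∈ G) (ht : tr x ^ 2 ≠ 4)
    (hle : G ≤ Subgroup.normalizer ((Subgroup.centralizer {x} : Subgroup (SL2 E)) : Set (SL2 E))) :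
    ∃ x1 ∈ SLK K, tr x1 ^ 2 ≠ 4 ∧ G = NN (PK K) x1 := by
  obtain ⟨x1, hx1, hc, ht1⟩ := exists_commuting_in_SLK (by rw [hs.cardK]; exact hs.three)
    (hG.max.1.le hx) ht
  refine ⟨x1, hx1, ht1, ?_⟩
  have hcent : (Subgroup.centralizer {x1} : Subgroup (SL2 E)) = Subgroup.centralizer {x} :=
    centralizer_eq_of_commute (not_mem_center_of_tr ht) (not_mem_center_of_tr ht1) hc
  refine hG.max.eq_of_le ?_ inf_le_right (NN_PK_ne hs ht1)
  unfold NN
  rw [hcent]
  exact le_inf hle hG.max.1.le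

end Cfsg.Agent.Lib.H41PG
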