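import Mathlib
import Cfsg.Agent.Lib.H41PGDefs
import Cfsg.Agent.Lib.H41PGIdx
import Cfsg.Agent.Lib.H41PGNNS

/-!
# Project PG, piece DihB
-/

set_option autoImplicit false

namespace Cfsg.Agent.Lib.H41PG

open Matrix Cfsg.Agent.Lib.Helper46SL2 Cfsg.Agent.Lib.Helper41SL2 Cfsg.Agent.Lib.Helper41Dk
  Cfsg.Agent.Lib.Helper41Pair Cfsg.Agent.Lib.Helper41Lift

variable {E : Type*} [Field E]

local notation "SL2" => Matrix.SpecialLinearGroup (Fin 2)
local notation "PSL2" => Matrix.ProjectiveSpecialLinearGroup (Fin 2)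
local notation "PGL2" => Matrix.ProjGenLinGroup (Fin 2)

theorem dih_concl [Fintype E] {K : Subfield E} {q : ℕ} (hs : Setup E K q)
    {G : Subgroup (SL2 E)} (hG : IsMax K G) {x : SL2 E} (hx : x ∈ SLK K) (ht : tr x ^ 2 ≠ 4)
    (h : G = NN (PK K) x) :
    Nonempty (G.map (proj E) ≃* DihedralGroup (q + 1)) ∨
      (Nonempty (G.map (proj E) ≃* DihedralGroup (q - 1)) ∧ Nat.card (AA (SLK K) x) = q - 1) := by
  have he : ee E = 2 := ee_eq_two hs.odd
  have hpre : pre (G.map (proj E)) = G := pre_map_proj hG.center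
  have h2 : G ⊓ SLK K = NN (SLK K) x := by
    rw [h, NN, NN, inf_assoc, inf_eq_right.mpr (SLK_le_PK K)]
  have h1 := card_eq_two_mul hs hG.max.1.le (hG.not_le_SLK hs)
  rw [h2, card_NN_SLK hx ht] at h1
  obtain ⟨y, hy, hyx⟩ := exists_inverting_SLK hx ht
  have hxG : x ∈ G := by
    rw [h]
    exact ⟨(mem_normalizer_centralizer_iff ht).mpr (Or.inl (by group)), SLK_le_PK K hx⟩
  have hyG : y ∈ G := by
    rw [h]
    exact ⟨(mem_normalizer_centralizer_iff ht).mpr (Or.inr hyx), SLK_le_PK K hy⟩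
  have hNN : G = NN G x := by
    conv_rhs => rw [NN, h, NN, ← inf_assoc, inf_idem]
    exact h
  obtain ⟨a, -, -, hHa, ⟨e⟩⟩ := dihedral_of_NN (H := G.map (proj E)) ht (by rw [hpre]; exact hxG)
    (by rw [hpre]; exact hNN) (by rw [hpre]; exact hyG) hyx
  have h3 := card_pre (G.map (proj E))
  rw [hpre, he, hHa, h1] at h3
  have ha : a = Nat.card (AA (SLK K) x) := by omega
  rcases card_AA_SLK hx ht with h5 | h5
  · left
    rw [hs.cardK] at h5
    rw [← h5, ← ha]; exact ⟨e⟩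
  · right
    rw [hs.cardK] at h5
    refine ⟨?_, h5⟩
    rw [← h5, ← ha]; exact ⟨e⟩

end Cfsg.Agent.Lib.H41PG
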