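import Mathlib
import Cfsg.Agent.Lib.H41PGDefs

/-!
# Project PG, piece Even
-/

set_option autoImplicit false

namespace Cfsg.Agent.Lib.H41PG

open Matrix Cfsg.Agent.Lib.Helper46SL2 Cfsg.Agent.Lib.Helper41SL2 Cfsg.Agent.Lib.Helper41Dk
  Cfsg.Agent.Lib.Helper41Pair Cfsg.Agent.Lib.Helper41Lift

variable {E : Type*} [Field E]

local notation "SL2" => Matrix.SpecialLinearGroup (Fin 2)
local notation "PSL2" => Matrix.ProjectiveSpecialLinearGroup (Fin 2)
local notation "PGL2" => Matrix.ProjGenLinGroup (Fin 2)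

/-- in characteristic 2 every element of `F` is a square (`FiniteField.isSquare_of_char_two`,
`FiniteField.even_card_iff_char_two`): for `g : GL₂(F)`, `det g = s²`, `s⁻¹ • g` has determinant one and the same
image in `PGL₂(F)` (`ProjGenLinGroup.mk` is the quotient by the centre = scalars; see
`Helper41Dk14.toPGL_mem_range_of_mem_PK` for a computation of this kind). -/
theorem range_eq_top_of_even {F : Type*} [Field F] [Fintype F] (h : Even (Fintype.card F)) :
    (Matrix.ProjGenLinGroup.mk.comp Matrix.SpecialLinearGroup.toGL : SL2 F →* PGL2 F).range = ⊤ := by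
  have hc : ringChar F = 2 := FiniteField.even_card_iff_char_two.2 (Nat.even_iff.1 h)
  have hR : ∀ r : Fˣ, ∃ k : Fˣ, k ^ Fintype.card (Fin 2) = r := by
    intro r
    obtain ⟨s, hs⟩ := FiniteField.isSquare_of_char_two hc (r : F)
    have hs0 : s ≠ 0 := by
      rintro rfl
      rw [mul_zero] at hs
      exact r.ne_zero hs
    refine ⟨Units.mk0 s hs0, Units.ext ?_⟩
    rw [Fintype.card_fin, Units.val_pow_eq_pow_val, Units.val_mk0, hs, sq]
  rw [eq_top_iff]
  intro x _
  obtain ⟨y, rfl⟩ := ProjectiveSpecialLinearGroup.toPGL_surj_of_roots hR x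
  obtain ⟨s, rfl⟩ := QuotientGroup.mk'_surjective _ y
  exact ⟨s, rfl⟩

theorem coatom_inf_top {Γ : Type*} [Group Γ] {M L : Subgroup Γ} (hL : L = ⊤) (hM : IsCoatom M) :
    IsCoatom ((M ⊓ L).subgroupOf L) := by
  subst hL
  rw [inf_top_eq]
  constructor
  · intro ht
    rw [Subgroup.subgroupOf_eq_top] at ht
    exact hM.1 (eq_top_iff.2 ht)
  · intro b hb
    have hlt : M < b.map (⊤ : Subgroup Γ).subtype := by
      have e1 : (M.subgroupOf ⊤).map (⊤ : Subgroup Γ).subtype = M := by
        rw [Subgroup.subgroupOf_map_subtype, inf_top_eq]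
      rw [← e1]
      exact (Subgroup.map_lt_map_iff_of_injective (⊤ : Subgroup Γ).subtype_injective).2 hb
    have h4 := hM.2 _ hlt
    rw [eq_top_iff]
    intro y _
    have hy : (y : Γ) ∈ b.map (⊤ : Subgroup Γ).subtype := by rw [h4]; exact y.2
    obtain ⟨z, hz, hzy⟩ := hy
    have : z = y := Subtype.ext hzy
    rwa [← this]

end Cfsg.Agent.Lib.H41PG
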