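import Mathlib
import Cfsg.Agent.Lib.H41PGDefs

/-!
# Project PG, piece Ext
-/

set_option autoImplicit false

namespace Cfsg.Agent.Lib.H41PG

open Matrix Cfsg.Agent.Lib.Helper46SL2 Cfsg.Agent.Lib.Helper41SL2 Cfsg.Agent.Lib.Helper41Dk
  Cfsg.Agent.Lib.Helper41Pair Cfsg.Agent.Lib.Helper41Lift

variable {E : Type*} [Field E]

local notation "SL2" => Matrix.SpecialLinearGroup (Fin 2)
local notation "PSL2" => Matrix.ProjectiveSpecialLinearGroup (Fin 2)
local notation "PGL2" => Matrix.ProjGenLinGroup (Fin 2)

/-- a quadratic extension: e.g. `E = GaloisField p (2 n)` for `|F| = p ^ n`; the subfield `K` of the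
roots of `X ^ |F| - X` (or the range of any ring hom `F →+* E`, which exists because
`F ≃+* GaloisField p n` and `GaloisField p n` embeds in `GaloisField p (2 n)`; see the proof of
`Helper41Dk.exists_intermediate` in Helper41Dk18.lean for this kind of argument).
Alternative: `E = AdjoinRoot (X ^ 2 - C d)`, `d` a non-square, transported to `Type` by
`exists_small_field`. -/
theorem exists_ext (F : Type*) [Field F] [Fintype F] :
    ∃ (E : Type) (_ : Field E) (_ : Fintype E) (K : Subfield E),
      Fintype.card E = Fintype.card F ^ 2 ∧ Nonempty (F ≃+* K) := by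
  obtain ⟨p, hp⟩ := CharP.exists F
  obtain ⟨n0, hpp, hn0⟩ := FiniteField.card F p
  have : Fact p.Prime := ⟨hpp⟩
  let E := GaloisField p (n0 * 2)
  have : Fintype E := Fintype.ofFinite E
  have hE : Fintype.card E = Fintype.card F ^ 2 := by
    rw [← Nat.card_eq_fintype_card, GaloisField.card p _ (by
      have := n0.pos
      positivity), hn0, pow_mul]
  obtain ⟨ι⟩ := Cfsg.Agent.Lib.Helper18Field.exists_ringHom (K := F) (F := E) 2 hE.symm
  exact ⟨E, inferInstance, inferInstance, ι.fieldRange, hE, ⟨ι.rangeRestrictFieldEquiv⟩⟩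

end Cfsg.Agent.Lib.H41PG
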