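import Mathlib
import Cfsg.Agent.Lib.Helper41SL2Syl2

set_option autoImplicit false

namespace Cfsg.Agent.Lib.Helper41SL2

open Matrix Cfsg.Agent.Lib.Helper46SL2

variable {F : Type*} [Field F]

local notation "SL2" => Matrix.SpecialLinearGroup (Fin 2)

/-- The standard element of order four. -/
def c0 (F : Type*) [Field F] : SL2 F := mk2 0 (-1) 1 0 (by ring)

theorem tr_c0 : tr (c0 F) = 0 := by simp [tr, c0]

/-- Elements inverting `c0`. -/
theorem entries_of_inverts_c0 {w : SL2 F} (h : w * c0 F * w⁻¹ = (c0 F)⁻¹) :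
    w 1 0 = w 0 1 ∧ w 1 1 = - w 0 0 := by
  have h1 : w * c0 F = (c0 F)⁻¹ * w := mul_inv_eq_iff_eq_mul.mp h
  have e00 : (w * c0 F) 0 0 = ((c0 F)⁻¹ * w) 0 0 := by rw [h1]
  have e01 : (w * c0 F) 0 1 = ((c0 F)⁻¹ * w) 0 1 := by rw [h1]
  simp only [mul_00, mul_01, inv_00, inv_01, c0, mk2_00, mk2_01, mk2_10, mk2_11] at e00 e01
  constructor
  · linear_combination -e00
  · linear_combination -e01

/-- The Hurwitz unit. -/
noncomputable def hur (a b : F) (h2 : (2 : F) ≠ 0) (hab : a ^ 2 + b ^ 2 = -1) : SL2 F :=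
  mk2 ((1 + a - b) / 2) ((-1 + b + a) / 2) ((1 + b + a) / 2) ((1 - a + b) / 2) (by
    field_simp
    linear_combination (-2) * hab)

theorem exists_cyclic_c0 (h2 : (2 : F) ≠ 0) {w : SL2 F} (h : w * c0 F * w⁻¹ = (c0 F)⁻¹) :
    ∃ g : SL2 F, g * c0 F * g⁻¹ = w ∧ g * w * g⁻¹ = c0 F * w := by
  obtain ⟨h10, h11⟩ := entries_of_inverts_c0 h
  have hd := det2 w
  rw [h10, h11] at hd
  have hab : w 0 0 ^ 2 + w 0 1 ^ 2 = -1 := by linear_combination -hd
  refine ⟨hur (w 0 0) (w 0 1) h2 hab, ?_, ?_⟩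
  · rw [mul_inv_eq_iff_eq_mul]
    apply ext2 <;>
      simp only [mul_00, mul_01, mul_10, mul_11, c0, hur, mk2_00, mk2_01, mk2_10, mk2_11, h10, h11] <;>
      field_simp <;>
      first
        | ring1
        | linear_combination hab
        | linear_combination -hab
  · rw [mul_inv_eq_iff_eq_mul]
    apply ext2 <;>
      simp only [mul_00, mul_01, mul_10, mul_11, c0, hur, mk2_00, mk2_01, mk2_10, mk2_11, h10, h11] <;>
      field_simp <;>
      ring1

/-- For any quaternion pair `(c, w)` there is an element cyclically permuting `c, w, c w`. -/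
theorem exists_cyclic [Finite F] (h2 : (2 : F) ≠ 0) {c w : SL2 F} (hc : tr c = 0)
    (h : w * c * w⁻¹ = c⁻¹) :
    ∃ g : SL2 F, g * c * g⁻¹ = w ∧ g * w * g⁻¹ = c * w := by
  obtain ⟨u, hu⟩ := isConj_iff.mp (isConj_of_tr_eq_zero h2 hc (tr_c0 (F := F)))
  have hc' : c = u⁻¹ * c0 F * u := by rw [← hu]; group
  have h' : (u * w * u⁻¹) * c0 F * (u * w * u⁻¹)⁻¹ = (c0 F)⁻¹ := by
    rw [← hu]
    have : u * w * u⁻¹ * (u * c * u⁻¹) * (u * w * u⁻¹)⁻¹ = u * (w * c * w⁻¹) * u⁻¹ := by group
    rw [this, h]; group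
  obtain ⟨g, hg1, hg2⟩ := exists_cyclic_c0 h2 h'
  refine ⟨u⁻¹ * g * u, ?_, ?_⟩
  · have : u⁻¹ * g * u * c * (u⁻¹ * g * u)⁻¹ = u⁻¹ * (g * (u * c * u⁻¹) * g⁻¹) * u := by group
    rw [this, hu, hg1]; group
  · have : u⁻¹ * g * u * w * (u⁻¹ * g * u)⁻¹ = u⁻¹ * (g * (u * w * u⁻¹) * g⁻¹) * u := by group
    rw [this, hg2, ← hu]; group

theorem card_normalizer_sylow_two_of_not_sixteen [Fintype F] (hodd : Odd (Fintype.card F))
    (h16 : ¬ 16 ∣ Fintype.card F ^ 2 - 1) (S : Sylow 2 (SL2 F)) :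
    Nat.card (Subgroup.normalizer ((S : Subgroup (SL2 F)) : Set (SL2 F))) = 3 * Nat.card S := by
  obtain ⟨k, m, c, w, hk, hm, htc, hC, hord, hck, hww, hwc, hcS, hwS, hcard, hgen, hel⟩ :=
    sylow_two_structure' hodd S
  have h2 : (2 : F) ≠ 0 := two_ne_zero_of_odd hodd
  have hk1 : k = 1 := by
    by_contra hne
    have h1 : 2 ^ 4 ∣ Nat.card S := by
      rw [hcard]; exact pow_dvd_pow 2 (by omega)
    have h3 : 2 ^ 4 ∣ Nat.card (SL2 F) := h1.trans (Subgroup.card_subgroup_dvd_card _)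
    rw [Cfsg.Agent.Lib.Helper7SL.card_SL_two] at h3
    have h4 : Nat.Coprime (2 ^ 4) (Fintype.card F) :=
      Nat.Coprime.pow_left 4 (Nat.coprime_two_left.mpr hodd)
    exact h16 (h4.dvd_of_dvd_mul_left h3)
  subst hk1
  have hcc : c * c = -1 := by rw [← hck]; simp [sq]
  have htr0 : tr c = 0 := tr_eq_zero_of_sq_eq_neg_one hcc
  obtain ⟨h, hh1, hh2⟩ := exists_cyclic h2 htr0 hwc
  have hcinv : c⁻¹ = -c := by
    rw [inv_eq_iff_mul_eq_one]
    have : c * -c = -(c * c) := by simp
    rw [this, hcc]; simp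
  have hwinv : w⁻¹ = -w := by
    rw [inv_eq_iff_mul_eq_one]
    have : w * -w = -(w * w) := by simp
    rw [this, hww]; simp
  have hwc' : w * c = -(c * w) := by
    have : w * c = c⁻¹ * w := mul_inv_eq_iff_eq_mul.mp hwc
    rw [this, hcinv]; simp
  -- `h (c w) h⁻¹ = c`
  have hh3 : h * (c * w) * h⁻¹ = c := by
    have : h * (c * w) * h⁻¹ = (h * c * h⁻¹) * (h * w * h⁻¹) := by group
    rw [this, hh1, hh2, ← mul_assoc, hwc', neg_mul, mul_assoc, hww]; simp
  have hneg : ∀ x : SL2 F, ∀ g : SL2 F, g * (-x) * g⁻¹ = -(g * x * g⁻¹) := by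
    intro x g; simp
  have hN : h ∈ Subgroup.normalizer ((S : Subgroup (SL2 F)) : Set (SL2 F)) := by
    have H1 := hgen ((S : Subgroup (SL2 F)).comap (MulAut.conj h).toMonoidHom)
      (by simp only [Subgroup.mem_comap, MulEquiv.coe_toMonoidHom, MulAut.conj_apply]
          rw [hh1]; exact hwS)
      (by simp only [Subgroup.mem_comap, MulEquiv.coe_toMonoidHom, MulAut.conj_apply]
          rw [hh2]; exact mul_mem hcS hwS)
    have H2 := hgen ((S : Subgroup (SL2 F)).comap (MulAut.conj h⁻¹).toMonoidHom)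
      (by simp only [Subgroup.mem_comap, MulEquiv.coe_toMonoidHom, MulAut.conj_apply]
          have : h⁻¹ * c * h⁻¹⁻¹ = c * w := by
            calc h⁻¹ * c * h⁻¹⁻¹ = h⁻¹ * (h * (c * w) * h⁻¹) * h⁻¹⁻¹ := by rw [hh3]
              _ = c * w := by group
          rw [this]; exact mul_mem hcS hwS)
      (by simp only [Subgroup.mem_comap, MulEquiv.coe_toMonoidHom, MulAut.conj_apply]
          have : h⁻¹ * w * h⁻¹⁻¹ = c := by
            calc h⁻¹ * w * h⁻¹⁻¹ = h⁻¹ * (h * c * h⁻¹) * h⁻¹⁻¹ := by rw [hh1]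
              _ = c := by group
          rw [this]; exact hcS)
    rw [Subgroup.mem_normalizer_iff]
    intro x
    constructor
    · intro hx
      have := H1 hx
      simpa only [Subgroup.mem_comap, MulEquiv.coe_toMonoidHom, MulAut.conj_apply] using this
    · intro hx
      have := H2 hx
      simp only [Subgroup.mem_comap, MulEquiv.coe_toMonoidHom, MulAut.conj_apply] at this
      have e : h⁻¹ * (h * x * h⁻¹) * h⁻¹⁻¹ = x := by group
      rwa [e] at this
  have hcne : c ≠ c⁻¹ := ne_inv_of_tr htc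
  have hwnc : w * c ≠ c * w := by
    intro hcomm
    apply hcne
    rw [← hwc, hcomm]; group
  have hnS : h ∉ S := by
    intro hS
    rcases hel h hS with h3 | ⟨y, hy, h3⟩
    · obtain ⟨j, hj⟩ := Subgroup.mem_zpowers_iff.mp h3
      have : h * c * h⁻¹ = c := by
        rw [← hj, ((Commute.refl c).zpow_left j).eq]; group
      rw [hh1] at this
      apply hwnc; rw [this]
    · obtain ⟨j, hj⟩ := Subgroup.mem_zpowers_iff.mp hy
      have : h * c * h⁻¹ = c⁻¹ := by
        rw [h3, ← hj, mul_assoc w, ((Commute.refl c).zpow_left j).eq, ← hwc]; group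
      rw [hh1] at this
      apply hwnc; rw [this]; group
  set N := Subgroup.normalizer ((S : Subgroup (SL2 F)) : Set (SL2 F)) with hNdef
  have hc4 : c ^ 4 = 1 := by
    rw [show (4 : ℕ) = 2 + 2 from rfl, pow_add, sq, hcc]; simp
  have hzp : ∀ y ∈ Subgroup.zpowers c, y = 1 ∨ y = c ∨ y = -1 ∨ y = -c := by
    intro y hy
    obtain ⟨j, hj⟩ := Subgroup.mem_zpowers_iff.mp hy
    have h5 : c ^ j = c ^ (j % 4) := by
      have := zpow_mod_orderOf c j
      rw [hord] at this
      exact this.symm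
    have h6 : 0 ≤ j % 4 := Int.emod_nonneg _ (by norm_num)
    have h7 : j % 4 < 4 := Int.emod_lt_of_pos _ (by norm_num)
    rw [← hj, h5]
    obtain ⟨n, hn⟩ := Int.eq_ofNat_of_zero_le h6
    rw [hn] at h7 ⊢
    rw [zpow_natCast]
    have h8 : n < 4 := by omega
    interval_cases n
    · left; simp
    · right; left; simp
    · right; right; left; rw [sq, hcc]
    · right; right; right; rw [pow_succ, sq, hcc]; simp
  have htri : ∀ g ∈ N, g ∈ S ∨ h⁻¹ * g ∈ S ∨ h * g ∈ S := by
    intro g hg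
    have h1 : g * c * g⁻¹ ∈ S := (Subgroup.mem_normalizer_iff.mp hg c).mp hcS
    have hA : ∀ u : SL2 F, u ∈ N → (u * (g * c * g⁻¹) * u⁻¹ = c ∨ u * (g * c * g⁻¹) * u⁻¹ = -c) →
        u * g ∈ S := by
      intro u hu hc
      apply mem_sylow_of_conj_eq htc hwc hwS (mul_mem hu hg)
      have e : u * g * c * (u * g)⁻¹ = u * (g * c * g⁻¹) * u⁻¹ := by group
      rw [e, hcinv]; exact hc
    have hi1 : h⁻¹ * w * h⁻¹⁻¹ = c := by
      calc h⁻¹ * w * h⁻¹⁻¹ = h⁻¹ * (h * c * h⁻¹) * h⁻¹⁻¹ := by rw [hh1]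
        _ = c := by group
    rcases hel _ h1 with h3 | ⟨y, hy, h3⟩
    · left
      have := hA 1 (one_mem _) (by
        rcases hzp _ h3 with h4 | h4 | h4 | h4
        · exfalso
          have : tr (g * c * g⁻¹) = 2 := by rw [h4, tr_one]
          rw [tr_conj, htr0] at this
          exact h2 this.symm
        · left; rw [h4]; group
        · exfalso
          have : tr (g * c * g⁻¹) = -2 := by rw [h4, tr_neg, tr_one]
          rw [tr_conj, htr0] at this
          apply h2
          linear_combination this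
        · right; rw [h4]; simp)
      simpa using this
    · rcases hzp _ hy with h4 | h4 | h4 | h4
      · right; left
        apply hA _ (inv_mem hN)
        left; rw [h3, h4, mul_one, hi1]
      · right; right
        apply hA _ hN
        right; rw [h3, h4, hwc', hneg, hh3]
      · right; left
        apply hA _ (inv_mem hN)
        right; rw [h3, h4, mul_neg, mul_one, hneg, hi1]
      · right; right
        apply hA _ hN
        left; rw [h3, h4, mul_neg, hwc', neg_neg, hh3]
  have hle : (S : Subgroup (SL2 F)) ≤ N := Subgroup.le_normalizer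
  have hr1 : (S : Subgroup (SL2 F)).relIndex N ≠ 1 := by
    rw [Ne, Subgroup.relIndex_eq_one]
    intro hNS
    exact hnS (hNS hN)
  have hr2 : ¬ 2 ∣ (S : Subgroup (SL2 F)).relIndex N := by
    intro hd
    exact S.not_dvd_index (hd.trans (Subgroup.relIndex_dvd_index_of_le hle))
  have hr3 : (S : Subgroup (SL2 F)).relIndex N ≤ 3 := by
    rw [Subgroup.relIndex, Subgroup.index_eq_card]
    let f : Fin 3 → N ⧸ (S : Subgroup (SL2 F)).subgroupOf N :=
      ![QuotientGroup.mk 1, QuotientGroup.mk ⟨h, hN⟩, QuotientGroup.mk ⟨h⁻¹, inv_mem hN⟩]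
    have hf : Function.Surjective f := by
      intro x
      induction x using QuotientGroup.induction_on with
      | H g =>
        rcases htri g.1 g.2 with h4 | h4 | h4
        · refine ⟨0, ?_⟩
          change QuotientGroup.mk 1 = _
          rw [QuotientGroup.eq, Subgroup.mem_subgroupOf]
          simpa using (show _ ∈ (S : Subgroup (SL2 F)) from h4)
        · refine ⟨1, ?_⟩
          change QuotientGroup.mk _ = _
          rw [QuotientGroup.eq, Subgroup.mem_subgroupOf]
          simpa using (show _ ∈ (S : Subgroup (SL2 F)) from h4)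
        · refine ⟨2, ?_⟩
          change QuotientGroup.mk _ = _
          rw [QuotientGroup.eq, Subgroup.mem_subgroupOf]
          simpa using (show _ ∈ (S : Subgroup (SL2 F)) from h4)
    have := Nat.card_le_card_of_surjective f hf
    simpa using this
  have hr : (S : Subgroup (SL2 F)).relIndex N = 3 := by
    have h0 : (S : Subgroup (SL2 F)).relIndex N ≠ 0 := by
      intro h0; rw [h0] at hr2; exact hr2 (dvd_zero 2)
    omega
  have hfin := Subgroup.relIndex_mul_relIndex ⊥ _ _ bot_le hle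
  rw [hr, Subgroup.relIndex_bot_left, Subgroup.relIndex_bot_left] at hfin
  rw [← hfin, mul_comm]

end Cfsg.Agent.Lib.Helper41SL2
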