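import Mathlib
import Cfsg.Agent.Lib.H41PGDefs
import Cfsg.Agent.Lib.H41PGIdx
import Cfsg.Agent.Lib.H41PGNNS
import Cfsg.Agent.Lib.Helper41SL2Q8

/-!
# Project PG, piece Five
-/

set_option autoImplicit false

namespace Cfsg.Agent.Lib.H41PG

open Matrix Cfsg.Agent.Lib.Helper46SL2 Cfsg.Agent.Lib.Helper41SL2 Cfsg.Agent.Lib.Helper41Dk
  Cfsg.Agent.Lib.Helper41Pair Cfsg.Agent.Lib.Helper41Lift Cfsg.Agent.Lib.Helper41Klein

variable {E : Type*} [Field E]

local notation "SL2" => Matrix.SpecialLinearGroup (Fin 2)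
local notation "PSL2" => Matrix.ProjectiveSpecialLinearGroup (Fin 2)
local notation "PGL2" => Matrix.ProjGenLinGroup (Fin 2)

theorem mem_normalizer_of_map_le {𝔾 : Type*} [Group 𝔾] {Q : Subgroup 𝔾} [Finite Q] {w : 𝔾}
    (h : Q.map (MulAut.conj w).toMonoidHom ≤ Q) : w ∈ Subgroup.normalizer (Q : Set 𝔾) := by
  have heq : Q.map (MulAut.conj w).toMonoidHom = Q :=
    Subgroup.eq_of_le_of_card_ge h
      (by rw [Subgroup.card_map_of_injective (MulAut.conj w).injective])
  rw [Subgroup.mem_normalizer_iff]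
  intro g
  constructor
  · intro hg
    exact h ⟨g, hg, rfl⟩
  · intro hg
    rw [← heq] at hg
    obtain ⟨g', hg', h1⟩ := hg
    have : g' = g := (MulAut.conj w).injective h1
    rwa [← this]

theorem tr_mul_conj_uu {x : SL2 E} (ht : tr x = 0) (t : E) :
    tr (x * (uu t * x * (uu t)⁻¹)) = -2 - t ^ 2 * x 1 0 ^ 2 := by
  have hd := det2 x
  have h11 : x 1 1 = - x 0 0 := by
    have : x 0 0 + x 1 1 = 0 := ht
    linear_combination this
  simp only [tr, mul_00, mul_01, mul_10, mul_11, inv_00, inv_01, inv_10, inv_11, uu_00, uu_01,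
    uu_10, uu_11]
  rw [h11] at hd ⊢
  linear_combination (-2) * hd

/-- the possible values of `tr (x w)` for `w` of trace 0 normalising `C(x)`, `w ≠ x` -/
theorem tr_mul_cases (h2 : (2 : E) ≠ 0) {x w : SL2 E} (hx : tr x = 0) (hw : tr w = 0)
    (h : w * x * w⁻¹ = x ∨ w * x * w⁻¹ = x⁻¹) : w = x ∨ tr (x * w) = 2 ∨ tr (x * w) = 0 := by
  have ht : tr x ^ 2 ≠ 4 := by rw [hx]; exact zero_sq_ne_four h2
  rcases h with h | h
  · rcases eq_or_eq_inv_of_commute ht (mul_inv_eq_iff_eq_mul.mp h) (hw.trans hx.symm) with h1 | h1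
    · exact Or.inl h1
    · right; left
      rw [h1, mul_inv_cancel]
      simp [tr]; norm_num
  · right; right
    have h1 : w * x = x⁻¹ * w := mul_inv_eq_iff_eq_mul.mp h
    have h3 : x⁻¹ = -x := by
      have := sq_eq_neg_one_iff.mpr hx
      rw [inv_eq_iff_mul_eq_one, mul_neg, this, neg_neg]
    have h4 : tr (w * x) = - tr (x * w) := by rw [h1, h3, neg_mul, tr_neg]
    have h5 : tr (w * x) = tr (x * w) := by
      simp only [tr, mul_00, mul_11]; ring
    have h6 : 2 * tr (x * w) = 0 := by linear_combination h4 - h5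
    exact (mul_eq_zero.mp h6).resolve_left h2

theorem five_false [Fintype E] {K : Subfield E} (hs : Setup E K 5)
    {G : Subgroup (SL2 E)} (hG : IsMax K G) {x : SL2 E} (hx : x ∈ SLK K) (ht : tr x ^ 2 ≠ 4)
    (h : G = NN (PK K) x) (hA : Nat.card (AA (SLK K) x) = 4) : False := by
  have h2 := two_ne_zero' hs
  have h5 : (5 : E) = 0 := by
    have h1 : ((Fintype.card E : ℕ) : E) = 0 := Nat.cast_card_eq_zero E
    rw [hs.cardE] at h1
    have h3 : (5 : E) * 5 = 0 := by
      have : (((5 ^ 2 : ℕ)) : E) = 5 * 5 := by norm_num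
      rw [← this]; exact h1
    exact mul_self_eq_zero.mp h3
  -- `tr x = 0`
  have hxA : x ∈ AA (SLK K) x := mem_AA.mpr ⟨Commute.refl x, hx⟩
  have hx4 : x ^ 4 = 1 := by
    have h1 : (⟨x, hxA⟩ : AA (SLK K) x) ^ Nat.card (AA (SLK K) x) = 1 := pow_card_eq_one'
    rw [hA] at h1
    exact congrArg Subtype.val h1
  have hxZ := not_mem_center_of_tr ht
  have htx : tr x = 0 := by
    rw [← sq_eq_neg_one_iff]
    have h1 : (x * x) * (x * x) = 1 := by
      have : (x * x) * (x * x) = x ^ 4 := by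
        rw [show (4 : ℕ) = 2 + 2 from rfl, pow_add, pow_two]
      rw [this, hx4]
    rcases (sq_eq_one_iff' h2).mp h1 with h3 | h3
    · exfalso
      apply hxZ
      exact mem_center_iff_eq.mpr ((sq_eq_one_iff' h2).mp h3)
    · exact h3
  -- the quaternion pair and the element of order 3, all in `SLK K`
  obtain ⟨x', rfl⟩ := exists_iota hx
  have ht' := tr_iota_sq_ne.mp ht
  have htx' : tr x' = 0 := Subtype.ext htx
  have h2K : (2 : K) ≠ 0 := by
    intro h
    apply h2
    have := congrArg K.subtype h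
    rwa [map_ofNat, map_zero] at this
  obtain ⟨y', hy'⟩ := exists_inverting ht'
  obtain ⟨w', hw1, hw2⟩ := exists_cyclic h2K htx' hy'
  set x := iota K x' with hxdef
  set y := iota K y' with hydef
  set w := iota K w' with hwdef
  have hyx : y * x * y⁻¹ = x⁻¹ := by
    rw [hxdef, hydef, ← map_inv, ← map_mul, ← map_mul, hy', map_inv]
  have hwx : w * x * w⁻¹ = y := by
    rw [hxdef, hydef, hwdef, ← map_inv, ← map_mul, ← map_mul, hw1]
  have hwy : w * y * w⁻¹ = x * y := by
    rw [hxdef, hydef, hwdef, ← map_inv, ← map_mul, ← map_mul, hw2, map_mul]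
  have hyS : y ∈ SLK K := iota_mem_SLK y'
  have hwS : w ∈ SLK K := iota_mem_SLK w'
  have hQP : QP x y := ⟨htx, hyx⟩
  -- `Q = closure {x, y}`
  set Q := NN (SLK K) x with hQ
  have hxQ : x ∈ Q := ⟨(mem_normalizer_centralizer_iff ht).mpr (Or.inl (by group)), hx⟩
  have hyQ : y ∈ Q := ⟨(mem_normalizer_centralizer_iff ht).mpr (Or.inr hyx), hyS⟩
  have hAz : AA (SLK K) x = Subgroup.zpowers x := by
    symm
    apply Subgroup.eq_of_le_of_card_ge
    · rw [Subgroup.zpowers_le]; exact hxA
    · rw [hA, Nat.card_zpowers, hQP.orderOf_x h2]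
  have hQcl : Q = Subgroup.closure ({x, y} : Set (SL2 E)) := by
    apply le_antisymm
    · intro g hg
      have hxc : x ∈ Subgroup.closure ({x, y} : Set (SL2 E)) := Subgroup.subset_closure (by simp)
      have hyc : y ∈ Subgroup.closure ({x, y} : Set (SL2 E)) := Subgroup.subset_closure (by simp)
      have hz : Subgroup.zpowers x ≤ Subgroup.closure ({x, y} : Set (SL2 E)) := by
        rw [Subgroup.zpowers_le]; exact hxc
      rcases (mem_normalizer_centralizer_iff ht).mp hg.1 with h1 | h1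
      · apply hz
        rw [← hAz]
        exact mem_AA.mpr ⟨mul_inv_eq_iff_eq_mul.mp h1, hg.2⟩
      · have h3 : y⁻¹ * g ∈ AA (SLK K) x := by
          refine mem_AA.mpr ⟨?_, mul_mem (inv_mem hyS) hg.2⟩
          have h4 : y⁻¹ * x⁻¹ * y = x := by rw [← hyx]; group
          have h6 : (y⁻¹ * g) * x * (y⁻¹ * g)⁻¹ = x := by
            have : (y⁻¹ * g) * x * (y⁻¹ * g)⁻¹ = y⁻¹ * (g * x * g⁻¹) * y := by group
            rw [this, h1, h4]
          exact mul_inv_eq_iff_eq_mul.mp h6
        rw [hAz] at h3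
        have := mul_mem hyc (hz h3)
        rwa [mul_inv_cancel_left] at this
    · rw [Subgroup.closure_le]
      rintro g (rfl | rfl)
      · exact hxQ
      · exact hyQ
  -- `w` normalises `Q`
  have hwN : w ∈ Subgroup.normalizer (Q : Set (SL2 E)) := by
    apply mem_normalizer_of_map_le
    conv_lhs => rw [hQcl]
    apply map_closure_pair_le
    · rw [MulAut.conj_apply, hwx]; exact hyQ
    · rw [MulAut.conj_apply, hwy]; exact mul_mem hxQ hyQ
  -- `G` normalises `Q`
  have hGN : G ≤ Subgroup.normalizer (Q : Set (SL2 E)) := by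
    intro g hg
    apply mem_normalizer_of_map_le
    rintro _ ⟨k, hk, rfl⟩
    rw [h] at hg
    change g * k * g⁻¹ ∈ Q
    exact ⟨Subgroup.mul_mem _ (Subgroup.mul_mem _ hg.1 hk.1) (Subgroup.inv_mem _ hg.1),
      conj_mem_SLK hg.2 hk.2⟩
  have hwG : w ∉ G := by
    intro hw
    rw [h] at hw
    rcases (mem_normalizer_centralizer_iff ht).mp hw.1 with h1 | h1
    · rw [hwx] at h1
      apply hQP.not_commute h2
      rw [h1]
    · rw [hwx] at h1
      apply hQP.not_commute h2
      rw [h1]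
      exact (Commute.refl x).inv_left
  have hY : Subgroup.normalizer (Q : Set (SL2 E)) ⊓ PK K = PK K := by
    apply hG.max.2 _ _ inf_le_right
    apply lt_of_le_of_ne (le_inf hGN hG.max.1.le)
    intro h1
    apply hwG
    rw [h1]
    exact ⟨hwN, SLK_le_PK K hwS⟩
  have hPN : PK K ≤ Subgroup.normalizer (Q : Set (SL2 E)) := inf_eq_right.mp hY
  -- unipotent elements
  have key : ∀ t ∈ K, t ≠ 0 → -2 - t ^ 2 * x 1 0 ^ 2 = 2 ∨ -2 - t ^ 2 * x 1 0 ^ 2 = 0 := by
    intro t htK ht0
    have hu : uu t ∈ PK K := SLK_le_PK K ⟨one_mem K, htK, zero_mem K, one_mem K⟩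
    have h1 : uu t * x * (uu t)⁻¹ ∈ Q := (Subgroup.mem_normalizer_iff.mp (hPN hu) x).mp hxQ
    rw [← tr_mul_conj_uu htx t]
    rcases tr_mul_cases h2 htx (by rw [tr_conj, htx])
      ((mem_normalizer_centralizer_iff ht).mp h1.1) with h3 | h3
    · exfalso
      have h4 : Commute x (uu t) := by
        have := mul_inv_eq_iff_eq_mul.mp h3
        exact this.symm
      obtain ⟨h6, h7⟩ := (commute_uu_iff ht0).mp h4
      have hd := det2 x
      have h8 : x 0 0 + x 1 1 = 0 := htx
      have h9 : x 0 0 = 0 := by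
        have : 2 * x 0 0 = 0 := by linear_combination h8 + h7
        exact (mul_eq_zero.mp this).resolve_left h2
      rw [h6, h9] at hd
      simp at hd
    · exact h3
  have h2K' : (2 : E) ∈ K := by
    have : ((2 : ℕ) : E) ∈ K := natCast_mem K 2
    exact_mod_cast this
  have k1 := key 1 (one_mem K) one_ne_zero
  have k2 := key 2 h2K' h2
  rcases k1 with k1 | k1 <;> rcases k2 with k2 | k2
  · exact h2 (by linear_combination (-4) * k1 + k2 - 2 * h5)
  · exact one_ne_zero (α := E) (by linear_combination 4 * k1 - k2 + 3 * h5)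
  · exact one_ne_zero (α := E) (by linear_combination 4 * k1 - k2 + h5)
  · exact one_ne_zero (α := E) (by linear_combination (-4) * k1 + k2 - h5)

end Cfsg.Agent.Lib.H41PG
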