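import Mathlib
import Cfsg.Agent.Lib.H41PGDefs

/-!
# Project PG, piece NoIdx
-/

set_option autoImplicit false

namespace Cfsg.Agent.Lib.H41PG

open Matrix Cfsg.Agent.Lib.Helper46SL2 Cfsg.Agent.Lib.Helper41SL2 Cfsg.Agent.Lib.Helper41Dk
  Cfsg.Agent.Lib.Helper41Pair Cfsg.Agent.Lib.Helper41Lift

variable {E : Type*} [Field E]

local notation "SL2" => Matrix.SpecialLinearGroup (Fin 2)
local notation "PSL2" => Matrix.ProjectiveSpecialLinearGroup (Fin 2)
local notation "PGL2" => Matrix.ProjGenLinGroup (Fin 2)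

theorem alt_no_index_two {α : Type*} [Fintype α] [DecidableEq α] (H : Subgroup (alternatingGroup α)) :
    H.index ≠ 2 := by
  intro h
  have h1 : ∀ σ : Equiv.Perm α, σ.IsThreeCycle → σ ∈ H.map (alternatingGroup α).subtype := by
    intro σ hσ
    have hm : σ ∈ alternatingGroup α := hσ.mem_alternatingGroup
    refine ⟨((⟨σ, hm⟩ : alternatingGroup α) ^ 2) ^ 2, Subgroup.sq_mem_of_index_two h _, ?_⟩
    have h3 : σ ^ 3 = 1 := by rw [← hσ.orderOf]; exact pow_orderOf_eq_one σ
    show (σ ^ 2) ^ 2 = σ
    rw [← pow_mul]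
    calc σ ^ 4 = σ ^ 3 * σ := pow_succ σ 3
      _ = σ := by rw [h3, one_mul]
  have h2 : alternatingGroup α ≤ H.map (alternatingGroup α).subtype := by
    have h4 : Subgroup.closure {σ : Equiv.Perm α | σ.IsThreeCycle} ≤ H.map (alternatingGroup α).subtype := by
      rw [Subgroup.closure_le]
      exact h1
    rwa [Equiv.Perm.closure_three_cycles_eq_alternating] at h4
  have h3 : H = ⊤ := by
    rw [eq_top_iff]
    intro g _
    obtain ⟨g', hg', e⟩ := h2 g.2
    have : g' = g := Subtype.ext e
    exact this ▸ hg'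
  rw [h3, Subgroup.index_top] at h
  norm_num at h

/-- a subgroup of index 2 contains all squares (`Subgroup.sq_mem_of_index_two`), hence all elements
of order 3 (`g = (g²)²`): 8 three-cycles and 1, more than 6 elements.  (`decide` helps for
facts on elements of `alternatingGroup (Fin 4)`.) -/
theorem A4_no_index_two (H : Subgroup (alternatingGroup (Fin 4))) : H.index ≠ 2 :=
  alt_no_index_two H

/-- index 2 ⇒ normal; `alternatingGroup.isSimpleGroup_five` -/
theorem A5_no_index_two (H : Subgroup (alternatingGroup (Fin 5))) : H.index ≠ 2 :=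
  alt_no_index_two H

theorem no_index_two_of_equiv {A B : Type*} [Group A] [Group B] (e : A ≃* B)
    (h : ∀ H : Subgroup B, H.index ≠ 2) (H : Subgroup A) : H.index ≠ 2 := by
  rw [← Subgroup.index_map_equiv H e]
  exact h _

end Cfsg.Agent.Lib.H41PG
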