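import Mathlib
import Cfsg.Agent.Lib.H41PGDefs

/-!
# Project PG, piece Sqrt
-/

set_option autoImplicit false

namespace Cfsg.Agent.Lib.H41PG

open Matrix Cfsg.Agent.Lib.Helper46SL2 Cfsg.Agent.Lib.Helper41SL2 Cfsg.Agent.Lib.Helper41Dk
  Cfsg.Agent.Lib.Helper41Pair Cfsg.Agent.Lib.Helper41Lift

variable {E : Type*} [Field E]

local notation "SL2" => Matrix.SpecialLinearGroup (Fin 2)
local notation "PSL2" => Matrix.ProjectiveSpecialLinearGroup (Fin 2)
local notation "PGL2" => Matrix.ProjGenLinGroup (Fin 2)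

/-- every element of `K` is a square in `E` (`|E| = |K|²`): for `a ≠ 0`,
`a ^ ((q² - 1)/2) = (a ^ (q - 1)) ^ ((q + 1)/2) = 1`, then Euler's criterion
(`FiniteField.isSquare_iff` / `FiniteField.unit_isSquare_iff`). -/
theorem exists_sqrt [Fintype E] {K : Subfield E} {q : ℕ} (hs : Setup E K q) {a : E} (ha : a ∈ K) :
    ∃ l : E, l ^ 2 = a := by
  by_cases ha0 : a = 0
  · exact ⟨0, by rw [ha0]; simp⟩
  have hchar : ringChar E ≠ 2 := by
    intro h
    have h1 := FiniteField.even_card_of_char_two h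
    have h2 := Nat.odd_iff.1 hs.odd
    omega
  have hq : Odd q := by
    have := hs.odd
    rw [hs.cardE, sq] at this
    exact Nat.Odd.of_mul_left this
  obtain ⟨t, ht⟩ := hq
  have hsq : IsSquare a := by
    rw [FiniteField.isSquare_iff hchar ha0, hs.cardE]
    have e1 : q ^ 2 / 2 = (q - 1) * (t + 1) := by
      have e2 : q ^ 2 = 2 * ((q - 1) * (t + 1)) + 1 := by
        subst ht
        rw [Nat.add_sub_cancel]; ring
      omega
    rw [e1, pow_mul]
    have e3 : a ^ (q - 1) = 1 := by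
      letI : Fintype K := Fintype.ofFinite K
      have h1 : (⟨a, ha⟩ : K) ≠ 0 := by
        intro h
        exact ha0 (congrArg Subtype.val h)
      have h2 := FiniteField.pow_card_sub_one_eq_one (⟨a, ha⟩ : K) h1
      rw [← Nat.card_eq_fintype_card, hs.cardK] at h2
      have h3 := congrArg Subtype.val h2
      simpa using h3
    rw [e3, one_pow]
  obtain ⟨l, hl⟩ := hsq
  exact ⟨l, by rw [hl, sq]⟩

/-- a matrix over `K` of non-zero determinant, rescaled to determinant one, lies in `PK K` -/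
theorem exists_rescale [Fintype E] {K : Subfield E} {q : ℕ} (hs : Setup E K q) {a b c d : E}
    (ha : a ∈ K) (hb : b ∈ K) (hc : c ∈ K) (hd : d ∈ K) (hdet : a * d - b * c ≠ 0) :
    ∃ (l : E) (g : SL2 E), l ≠ 0 ∧ g ∈ PK K ∧ g 0 0 = l * a ∧ g 0 1 = l * b ∧ g 1 0 = l * c ∧
      g 1 1 = l * d := by
  have hD : (a * d - b * c)⁻¹ ∈ K := inv_mem (sub_mem (mul_mem ha hd) (mul_mem hb hc))
  obtain ⟨l, hl⟩ := exists_sqrt hs hD
  have hl0 : l ≠ 0 := by
    rintro rfl
    have : (a * d - b * c)⁻¹ = 0 := by rw [← hl]; simp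
    exact hdet (inv_eq_zero.1 this)
  have hone : (l * a) * (l * d) - (l * b) * (l * c) = 1 := by
    have : (l * a) * (l * d) - (l * b) * (l * c) = l ^ 2 * (a * d - b * c) := by ring
    rw [this, hl, inv_mul_cancel₀ hdet]
  refine ⟨l, mk2 (l * a) (l * b) (l * c) (l * d) hone, hl0, ?_, rfl, rfl, rfl, rfl⟩
  refine ⟨l⁻¹, inv_ne_zero hl0, ?_, ?_, ?_, ?_⟩
  · rw [mk2_00, inv_mul_cancel_left₀ hl0]; exact ha
  · rw [mk2_01, inv_mul_cancel_left₀ hl0]; exact hb
  · rw [mk2_10, inv_mul_cancel_left₀ hl0]; exact hc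
  · rw [mk2_11, inv_mul_cancel_left₀ hl0]; exact hd

end Cfsg.Agent.Lib.H41PG
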