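import Mathlib
import Cfsg.Agent.Lib.H41PGDefs
import Cfsg.Agent.Lib.H41PGSqrt
import Cfsg.Agent.Lib.H41PGNNS

/-!
# Project PG, piece S4b
-/

set_option autoImplicit false

namespace Cfsg.Agent.Lib.H41PG

open Matrix Cfsg.Agent.Lib.Helper46SL2 Cfsg.Agent.Lib.Helper41SL2 Cfsg.Agent.Lib.Helper41Dk
  Cfsg.Agent.Lib.Helper41Pair Cfsg.Agent.Lib.Helper41Lift

variable {E : Type*} [Field E]

local notation "SL2" => Matrix.SpecialLinearGroup (Fin 2)
local notation "PSL2" => Matrix.ProjectiveSpecialLinearGroup (Fin 2)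
local notation "PGL2" => Matrix.ProjGenLinGroup (Fin 2)

theorem conj_fix_x0 [Fintype E] {K : Subfield E} {q : ℕ} (hs : Setup E K q) {h h' : SL2 E}
    (hh : h ∈ SLK K) (hh' : h' ∈ SLK K) (hτ : tr h = tr h') (ht : tr (x0 * h) = tr (x0 * h'))
    (hN : tr h ^ 2 + tr (x0 * h) ^ 2 - 4 ≠ 0) :
    ∃ c ∈ PK K, c * x0 * c⁻¹ = x0 ∧ c * h * c⁻¹ = h' := by
  have h2E : (2 : E) ≠ 0 := by
    intro h
    have h1 : ringChar E = 2 := by
      have h2 : ((2 : ℕ) : E) = 0 := by exact_mod_cast h
      have h3 := ringChar.dvd h2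
      rcases (Nat.dvd_prime Nat.prime_two).mp h3 with h4 | h4
      · exact absurd h4 (CharP.ringChar_ne_one)
      · exact h4
    have := FiniteField.even_card_of_char_two h1
    exact (Nat.not_even_iff_odd.mpr hs.odd) (Nat.even_iff.mpr this)
  obtain ⟨k, rfl⟩ := exists_iota hh
  obtain ⟨k', rfl⟩ := exists_iota hh'
  rw [tr_x0_mul, tr_x0_mul] at ht
  rw [tr_x0_mul] at hN
  have h2K : (2 : K) ≠ 0 := by
    intro h
    apply h2E
    have := congrArg K.subtype h
    rwa [map_ofNat, map_zero] at this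
  have hinj : Function.Injective K.subtype := K.subtype.injective
  obtain ⟨s, r, hsr, e0, e1, e2, e3⟩ := intertw h2K (det2 k) (det2 k')
    (Subtype.ext hτ) (Subtype.ext ht) (by
      intro h
      apply hN
      have := congrArg K.subtype h
      rw [map_sub, map_add, map_pow, map_pow, map_add, map_sub, map_ofNat, map_zero] at this
      exact this)
  have f0 := congrArg K.subtype e0
  have f1 := congrArg K.subtype e1
  have f2 := congrArg K.subtype e2
  have f3 := congrArg K.subtype e3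
  simp only [map_sub, map_add, map_mul, map_neg, Subfield.coe_subtype] at f0 f1 f2 f3
  obtain ⟨l, g, -, hg, g0, g1, g2, g3⟩ := exists_rescale hs s.2 (neg_mem r.2) r.2 s.2 (by
    intro h
    apply hsr
    apply Subtype.ext
    change (s : E) ^ 2 + (r : E) ^ 2 = 0
    linear_combination h)
  have key : ∀ {c x x' : SL2 E}, c * x = x' * c → c * x * c⁻¹ = x' := by
    intro c x x' h
    rw [h, mul_assoc, mul_inv_cancel, mul_one]
  have i00 : (iota K k) 0 0 = (k 0 0 : E) := rfl
  have i01 : (iota K k) 0 1 = (k 0 1 : E) := rfl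
  have i10 : (iota K k) 1 0 = (k 1 0 : E) := rfl
  have i11 : (iota K k) 1 1 = (k 1 1 : E) := rfl
  have j00 : (iota K k') 0 0 = (k' 0 0 : E) := rfl
  have j01 : (iota K k') 0 1 = (k' 0 1 : E) := rfl
  have j10 : (iota K k') 1 0 = (k' 1 0 : E) := rfl
  have j11 : (iota K k') 1 1 = (k' 1 1 : E) := rfl
  refine ⟨g, hg, key ?_, key ?_⟩
  · apply ext2 <;>
      simp only [mul_00, mul_01, mul_10, mul_11, x0_00, x0_01, x0_10, x0_11, g0, g1, g2, g3] <;> ring
  · apply ext2 <;>
      simp only [mul_00, mul_01, mul_10, mul_11, g0, g1, g2, g3, i00, i01, i10, i11, j00, j01, j10,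
        j11]
    · linear_combination l * f0
    · linear_combination l * f1
    · linear_combination l * f2
    · linear_combination l * f3

end Cfsg.Agent.Lib.H41PG
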