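import Mathlib
import Cfsg.Agent.Lib.H41PGDefs
import Cfsg.Agent.Lib.H41PGSqrt

/-!
# Project PG, piece S4c
-/

set_option autoImplicit false

namespace Cfsg.Agent.Lib.H41PG

open Matrix Cfsg.Agent.Lib.Helper46SL2 Cfsg.Agent.Lib.Helper41SL2 Cfsg.Agent.Lib.Helper41Dk
  Cfsg.Agent.Lib.Helper41Pair Cfsg.Agent.Lib.Helper41Lift

variable {E : Type*} [Field E]

local notation "SL2" => Matrix.SpecialLinearGroup (Fin 2)
local notation "PSL2" => Matrix.ProjectiveSpecialLinearGroup (Fin 2)
local notation "PGL2" => Matrix.ProjGenLinGroup (Fin 2)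

/-- `c x = x' c` gives `c x c⁻¹ = x'` -/
theorem conj_eq_of_mul_eq {c x x' : SL2 E} (h : c * x = x' * c) : c * x * c⁻¹ = x' := by
  rw [h, mul_assoc, mul_inv_cancel, mul_one]

theorem conj_to_x0_aux [Fintype E] {K : Subfield E} {q : ℕ} (hs : Setup E K q) {x : SL2 E}
    {a b c d : E} (ha : a ∈ K) (hb : b ∈ K) (hc : c ∈ K) (hd : d ∈ K) (hdet : a * d - b * c ≠ 0)
    (e0 : a * x 0 0 + b * x 1 0 = -c) (e1 : a * x 0 1 + b * x 1 1 = -d)
    (e2 : c * x 0 0 + d * x 1 0 = a) (e3 : c * x 0 1 + d * x 1 1 = b) :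
    ∃ c ∈ PK K, c * x * c⁻¹ = x0 := by
  obtain ⟨l, g, -, hg, g0, g1, g2, g3⟩ := exists_rescale hs ha hb hc hd hdet
  refine ⟨g, hg, conj_eq_of_mul_eq ?_⟩
  apply ext2 <;> simp only [mul_00, mul_01, mul_10, mul_11, x0_00, x0_01, x0_10, x0_11, g0, g1, g2, g3]
  · linear_combination l * e0
  · linear_combination l * e1
  · linear_combination l * e2
  · linear_combination l * e3

theorem conj_to_x0 [Fintype E] {K : Subfield E} {q : ℕ} (hs : Setup E K q) {x : SL2 E}
    (hx : x ∈ SLK K) (ht : tr x = 0) : ∃ c ∈ PK K, c * x * c⁻¹ = x0 := by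
  obtain ⟨h0, h1, h2, h3⟩ := hx
  have hd := det2 x
  have ht' : x 1 1 = - x 0 0 := by
    have : x 0 0 + x 1 1 = 0 := ht
    linear_combination this
  have h2E : (2 : E) ≠ 0 := by
    intro h
    have h1 : ringChar E = 2 := by
      have h2 : ((2 : ℕ) : E) = 0 := by exact_mod_cast h
      have h3 := ringChar.dvd h2
      rcases (Nat.dvd_prime Nat.prime_two).mp h3 with h4 | h4
      · exact absurd h4 (CharP.ringChar_ne_one)
      · exact h4
    have := FiniteField.even_card_of_char_two h1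
    exact (Nat.not_even_iff_odd.mpr hs.odd) (Nat.even_iff.mpr this)
  -- `c = adj P`, `P = [v | x v]`
  by_cases hc : x 1 0 = 0
  · by_cases hb : x 0 1 = 0
    · -- `v = (1,1)`, `x v = (a, -a)`, `P = [[1, a], [1, -a]]`, `adj P = [[-a, -a], [-1, 1]]`
      have ha2 : x 0 0 * x 0 0 = -1 := by
        rw [ht', hc, hb] at hd; linear_combination -hd
      have ha0 : x 0 0 ≠ 0 := by
        intro h; rw [h] at ha2; simp at ha2
      apply conj_to_x0_aux hs (a := -x 0 0) (b := -x 0 0) (c := -1) (d := 1) (neg_mem h0)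
        (neg_mem h0) (neg_mem (one_mem K)) (one_mem K)
      · intro h
        apply mul_ne_zero h2E ha0
        linear_combination -h
      · rw [hc]; linear_combination -ha2
      · rw [hb, ht']; linear_combination ha2
      · rw [hc]; ring
      · rw [hb, ht']; ring
    · -- `v = (0,1)`, `x v = (b, -a)`, `P = [[0, b], [1, -a]]`, `adj P = [[-a, -b], [-1, 0]]`
      apply conj_to_x0_aux hs (a := -x 0 0) (b := -x 0 1) (c := -1) (d := 0) (neg_mem h0)
        (neg_mem h1) (neg_mem (one_mem K)) (zero_mem K)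
      · intro h
        apply hb
        linear_combination -h
      · rw [ht'] at hd; linear_combination hd
      · rw [ht']; ring
      · ring
      · ring
  · -- `v = (1,0)`, `x v = (a, c)`, `P = [[1, a], [0, c]]`, `adj P = [[c, -a], [0, 1]]`
    apply conj_to_x0_aux hs (a := x 1 0) (b := -x 0 0) (c := 0) (d := 1) h2
      (neg_mem h0) (zero_mem K) (one_mem K)
    · intro h
      apply hc
      linear_combination h
    · ring
    · rw [ht'] at hd ⊢; linear_combination -hd
    · ring
    · rw [ht']; ring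

end Cfsg.Agent.Lib.H41PG
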