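import Mathlib
import Cfsg.Agent.Lib.H41PGDefs
import Cfsg.Agent.Lib.H41PGBasic
import Cfsg.Agent.Lib.H41PGS4b
import Cfsg.Agent.Lib.H41PGS4c

/-!
# Project PG, piece S4d
-/

set_option autoImplicit false

namespace Cfsg.Agent.Lib.H41PG

open Matrix Cfsg.Agent.Lib.Helper46SL2 Cfsg.Agent.Lib.Helper41SL2 Cfsg.Agent.Lib.Helper41Dk
  Cfsg.Agent.Lib.Helper41Pair Cfsg.Agent.Lib.Helper41Lift Cfsg.Agent.Lib.Helper41Gen

variable {E : Type*} [Field E]

local notation "SL2" => Matrix.SpecialLinearGroup (Fin 2)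
local notation "PSL2" => Matrix.ProjectiveSpecialLinearGroup (Fin 2)
local notation "PGL2" => Matrix.ProjGenLinGroup (Fin 2)

/-- the data extracted from a copy of `2.S₄` inside `PK K` -/
theorem S4_data {K : Subfield E} {G : Subgroup (SL2 E)} (hZ : Subgroup.center (SL2 E) ≤ G)
    (hG : G ≤ PK K) (e : G.map (proj E) ≃* Equiv.Perm (Fin 4)) :
    ∃ z h : SL2 E, z ∈ G ∧ h ∈ SLK K ∧ proj E z = e.symm c4 ∧ tr (z ^ 2) = 0 ∧ tr h = -1 ∧
      tr (z ^ 2 * h) ^ 2 = 1 ∧ G = Subgroup.closure ({z, h} : Set (SL2 E)) := by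
  have hpre : pre (G.map (proj E)) = G := pre_map_proj hZ
  obtain ⟨f1, f2, f3, f4, f5, f6⟩ := s4_facts
  obtain ⟨z, hzG, hz⟩ := exists_lift (F := E) e c4
  obtain ⟨h, hhG, hhb, hh3⟩ := exists_lift_cube (F := E) (e.symm d4)
    (by rw [← map_pow, f3, map_one])
  rw [hpre] at hzG hhG
  have hx : proj E (z ^ 2) = e.symm (c4 ^ 2) := by rw [map_pow, hz, map_pow]; rfl
  have t1 : tr (z ^ 2) = 0 := by
    have := cheb_of_lift e hx (n := 1) f1 f2
    rwa [cheb_two] at this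
  have t2 : tr h = -1 := tr_of_cube hh3 (not_mem_center_of_lift e hhb f4)
  have t3 : tr (z ^ 2 * h) ^ 2 = 1 := by
    have := cheb_of_lift e (w := z ^ 2 * h) (c := c4 ^ 2 * d4)
      (by rw [map_mul, hx, hhb, map_mul]; rfl) (n := 2) f5 f6
    rw [cheb_three] at this
    linear_combination this
  have hneg : (-1 : SL2 E) ∈ Subgroup.closure ({z, h} : Set (SL2 E)) := by
    rw [← sq_eq_neg_one_iff.mpr t1]
    have : z ∈ Subgroup.closure ({z, h} : Set (SL2 E)) := Subgroup.subset_closure (by simp)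
    exact mul_mem (pow_mem this 2) (pow_mem this 2)
  have hhS : h ∈ SLK K := by
    have h5 : h = (h ^ 2) ^ 2 := by
      rw [← pow_mul]
      calc h = h ^ 3 * h := by rw [hh3, one_mul]
        _ = h ^ (2 * 2) := by group
    rw [h5]
    exact Cfsg.Agent.Lib.Helper6DkCor.sq_mem_SLK (pow_mem (hG hhG) 2)
  refine ⟨z, h, hzG, hhS, hz, t1, t2, t3, ?_⟩
  rw [← hpre]
  exact pre_eq_closure e s4_gen hz hhb hneg

theorem S4_into_PK_tracked [Fintype E] {K : Subfield E} {q : ℕ} (hs : Setup E K q)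
    {G : Subgroup (SL2 E)} (hZ : Subgroup.center (SL2 E) ≤ G) (hG : G ≤ PK K)
    (e : G.map (proj E) ≃* Equiv.Perm (Fin 4)) {K0 : Subfield E} (hK0 : K0 ≤ K) :
    ∃ c ∈ PK K, G.map (MulAut.conj c).toMonoidHom ≤ PK K0 := by
  have h2 : (2 : E) ≠ 0 := by
    intro h
    have h1 : ringChar E = 2 := by
      have h2 : ((2 : ℕ) : E) = 0 := by exact_mod_cast h
      have h3 := ringChar.dvd h2
      rcases (Nat.dvd_prime Nat.prime_two).mp h3 with h4 | h4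
      · exact absurd h4 (CharP.ringChar_ne_one)
      · exact h4
    have := FiniteField.even_card_of_char_two h1
    exact (Nat.not_even_iff_odd.mpr hs.odd) (Nat.even_iff.mpr this)
  obtain ⟨z, h, hzG, hhS, -, t1, t2, t3, hgen⟩ := S4_data hZ hG e
  have hxS : z ^ 2 ∈ SLK K := Cfsg.Agent.Lib.Helper6DkCor.sq_mem_SLK (hG hzG)
  obtain ⟨c1, hc1, hc1x⟩ := conj_to_x0 hs hxS t1
  set h1 := c1 * h * c1⁻¹ with hh1
  have hh1S : h1 ∈ SLK K := conj_mem_SLK hc1 hhS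
  have s2 : tr h1 = -1 := by rw [hh1, tr_conj, t2]
  have s3' : tr (x0 * h1) = tr (z ^ 2 * h) := by
    rw [← hc1x, hh1]
    have : c1 * z ^ 2 * c1⁻¹ * (c1 * h * c1⁻¹) = c1 * (z ^ 2 * h) * c1⁻¹ := by group
    rw [this, tr_conj]
  have s3 : tr (x0 * h1) ^ 2 = 1 := by rw [s3', t3]
  have hτ : tr h1 ∈ K0 := by rw [s2]; exact neg_mem (one_mem K0)
  have ht : tr (x0 * h1) ∈ K0 := by
    have h5 : (tr (x0 * h1) - 1) * (tr (x0 * h1) + 1) = 0 := by linear_combination s3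
    rcases mul_eq_zero.mp h5 with h6 | h6
    · have : tr (x0 * h1) = 1 := by linear_combination h6
      rw [this]; exact one_mem K0
    · have : tr (x0 * h1) = -1 := by linear_combination h6
      rw [this]; exact neg_mem (one_mem K0)
  have hN : tr h1 ^ 2 + tr (x0 * h1) ^ 2 - 4 ≠ 0 := by rw [s2, s3]; exact two_ne h2
  have h2K : (2 : E) ∈ K0 := by
    have : ((2 : ℕ) : E) ∈ K0 := natCast_mem K0 2
    exact_mod_cast this
  have h4K : (4 : E) ∈ K0 := by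
    have : ((4 : ℕ) : E) ∈ K0 := natCast_mem K0 4
    exact_mod_cast this
  have h40 : (4 : E) ≠ 0 := by
    have : (4 : E) = 2 * 2 := by norm_num
    rw [this]; exact mul_ne_zero h2 h2
  obtain ⟨u, hu, v, hv, huv⟩ := exists_sq_add_sq h2 K0
    (c := (tr h1 ^ 2 + tr (x0 * h1) ^ 2 - 4) / 4)
    (div_mem (sub_mem (add_mem (pow_mem hτ 2) (pow_mem ht 2)) h4K) h4K)
  have huv' : 4 * (u ^ 2 + v ^ 2) = tr h1 ^ 2 + tr (x0 * h1) ^ 2 - 4 := by
    rw [huv]; field_simp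
  have hh'0 : hh (tr h1) (tr (x0 * h1)) u v h2 huv' ∈ SLK K0 :=
    ⟨add_mem (div_mem hτ h2K) hu, add_mem hv (div_mem ht h2K), sub_mem hv (div_mem ht h2K),
      sub_mem (div_mem hτ h2K) hu⟩
  have hh' : hh (tr h1) (tr (x0 * h1)) u v h2 huv' ∈ SLK K :=
    ⟨hK0 hh'0.1, hK0 hh'0.2.1, hK0 hh'0.2.2.1, hK0 hh'0.2.2.2⟩
  obtain ⟨c2, hc2, hc2x, hc2h⟩ := conj_fix_x0 hs hh1S hh' (tr_hh _ _ u v h2 huv').symm
    (tr_x0_hh _ _ u v h2 huv').symm hN
  refine ⟨c2 * c1, mul_mem hc2 hc1, ?_⟩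
  rw [hgen]
  apply map_closure_pair_le
  · apply mem_PK_of_sq_eq_x0
    rw [MulAut.conj_apply, conj_pow]
    have : c2 * c1 * z ^ 2 * (c2 * c1)⁻¹ = c2 * (c1 * z ^ 2 * c1⁻¹) * c2⁻¹ := by group
    rw [this, hc1x, hc2x]
  · apply SLK_le_PK
    rw [MulAut.conj_apply]
    have : c2 * c1 * h * (c2 * c1)⁻¹ = c2 * (c1 * h * c1⁻¹) * c2⁻¹ := by group
    rw [this, ← hh1, hc2h]
    exact hh'0

end Cfsg.Agent.Lib.H41PG
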