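import Mathlib
import Cfsg.Agent.Lib.H41PGDefs
import Cfsg.Agent.Lib.H41PGBasic
import Cfsg.Agent.Lib.H41PGIdx

/-!
# Project PG, piece S4e
-/

set_option autoImplicit false

namespace Cfsg.Agent.Lib.H41PG

open Matrix Cfsg.Agent.Lib.Helper46SL2 Cfsg.Agent.Lib.Helper41SL2 Cfsg.Agent.Lib.Helper41Dk
  Cfsg.Agent.Lib.Helper41Pair Cfsg.Agent.Lib.Helper41Lift

variable {E : Type*} [Field E]

local notation "SL2" => Matrix.SpecialLinearGroup (Fin 2)
local notation "PSL2" => Matrix.ProjectiveSpecialLinearGroup (Fin 2)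
local notation "PGL2" => Matrix.ProjGenLinGroup (Fin 2)

/-- As in `S4_into_PK`: `G = closure {z, h}` with `z, h` lifting `c4, d4`, `h ^ 3 = 1` so
`h = (h^2)^2 ∈ SLK K`.  As `¬ G ≤ SLK K` (`IsMax.not_le_SLK`), `z ∉ SLK K`.
`cheb_of_lift` with `n = 3`, `cheb_four`: `tr z ^ 3 - 2 tr z = 0`; `tr z ≠ 0` (else `z ^ 2 = -1` is central
but `c4 ^ 2 ≠ 1`), so `tr z ^ 2 = 2`.  If `2 = k ^ 2` with `k ∈ K` then `tr z = ± k ∈ K`, `≠ 0`, and
`z ∈ SLK K` by `mem_SLK_of_tr`.  So `2` is not a square in `↥K`: `FiniteField.isSquare_two_iff`. -/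
theorem S4_mod_eight [Fintype E] {K : Subfield E} {q : ℕ} (hs : Setup E K q)
    {G : Subgroup (SL2 E)} (hG : IsMax K G) (e : G.map (proj E) ≃* Equiv.Perm (Fin 4)) :
    q % 8 = 3 ∨ q % 8 = 5 := by
  have h2 : (2 : E) ≠ 0 := two_ne_zero' hs
  obtain ⟨f1, f2, f3, f4, f5, f6⟩ := s4_facts
  obtain ⟨z, hzM, hz⟩ := exists_lift (F := E) e c4
  obtain ⟨h, hhM, hhb, hh3⟩ := Cfsg.Agent.Lib.Helper41Gen.exists_lift_cube (F := E) (e.symm d4) (by rw [← map_pow, f3, map_one])
  rw [pre_map_proj hG.center] at hzM hhM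
  have hx : proj E (z ^ 2) = e.symm (c4 ^ 2) := by rw [map_pow, hz, map_pow]; rfl
  have t1 : tr (z ^ 2) = 0 := by
    have := cheb_of_lift e hx (n := 1) f1 f2
    rwa [cheb_two] at this
  have t2 : tr h = -1 := tr_of_cube hh3 (not_mem_center_of_lift e hhb f4)
  have hneg : (-1 : SL2 E) ∈ Subgroup.closure ({z, h} : Set (SL2 E)) := by
    rw [← sq_eq_neg_one_iff.mpr t1]
    have : z ∈ Subgroup.closure ({z, h} : Set (SL2 E)) := Subgroup.subset_closure (by simp)
    exact mul_mem (pow_mem this 2) (pow_mem this 2)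
  have hGc := pre_eq_closure e s4_gen hz hhb hneg
  rw [pre_map_proj hG.center] at hGc
  have hGP : G ≤ PK K := hG.max.1.le
  have hhS : h ∈ SLK K := by
    apply mem_SLK_of_tr (hGP hhM)
    · rw [t2]; exact neg_mem (one_mem K)
    · rw [t2]; exact neg_ne_zero.2 one_ne_zero
  have hzS : z ∉ SLK K := by
    intro hzS
    apply IsMax.not_le_SLK hs hG
    rw [hGc, Subgroup.closure_le]
    rintro x (rfl | rfl)
    · exact hzS
    · exact hhS
  have t3 : tr z ^ 2 = 2 := by
    have hd := det2 z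
    simp only [tr, sq, mul_00, mul_11] at t1 ⊢
    linear_combination t1 + 2 * hd
  have t4 : tr z ≠ 0 := by
    intro h0
    rw [h0] at t3
    apply h2
    rw [← t3]; ring
  let _ : Fintype K := Fintype.ofFinite K
  have hns : ¬ IsSquare (2 : K) := by
    rintro ⟨k, hk⟩
    have hk' : (2 : E) = (k : E) * (k : E) := by
      have := congrArg (K.subtype) hk
      rw [map_mul, map_ofNat] at this
      exact this
    apply hzS
    apply mem_SLK_of_tr (hGP hzM) _ t4
    have h5 : (tr z - k) * (tr z + k) = 0 := by linear_combination t3 + hk'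
    rcases mul_eq_zero.mp h5 with h6 | h6
    · have : tr z = k := by linear_combination h6
      rw [this]; exact k.2
    · have : tr z = -k := by linear_combination h6
      rw [this]; exact neg_mem k.2
  rw [FiniteField.isSquare_two_iff, ← Nat.card_eq_fintype_card, hs.cardK] at hns
  omega

end Cfsg.Agent.Lib.H41PG
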