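import Mathlib
import Cfsg.Agent.Lib.H41PGDefs

/-!
# Project PG, piece SubDeg
-/

set_option autoImplicit false

namespace Cfsg.Agent.Lib.H41PG

open Matrix Cfsg.Agent.Lib.Helper46SL2 Cfsg.Agent.Lib.Helper41SL2 Cfsg.Agent.Lib.Helper41Dk
  Cfsg.Agent.Lib.Helper41Pair Cfsg.Agent.Lib.Helper41Lift

variable {E : Type*} [Field E]

local notation "SL2" => Matrix.SpecialLinearGroup (Fin 2)
local notation "PSL2" => Matrix.ProjectiveSpecialLinearGroup (Fin 2)
local notation "PGL2" => Matrix.ProjGenLinGroup (Fin 2)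

theorem subDegAux_card {K1 K : Subfield E} (h : K1 ≤ K) :
    Nat.card (K1.comap K.subtype) = Nat.card K1 :=
  Nat.card_congr
    { toFun := fun x => ⟨x.1.1, x.2⟩
      invFun := fun y => ⟨⟨y.1, h y.2⟩, y.2⟩
      left_inv := fun _ => rfl
      right_inv := fun _ => rfl }

/-- apply `card_pow_finrank` in the field `↥K` to the subfield `K1.comap K.subtype` (same cardinality
as `K1` because `K1 ≤ K`) -/
theorem exists_deg [Finite E] {K1 K : Subfield E} (h : K1 ≤ K) :
    ∃ r : ℕ, 0 < r ∧ Nat.card K1 ^ r = Nat.card K := by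
  have := Fintype.ofFinite K
  refine ⟨Module.finrank (K1.comap K.subtype) K, Module.finrank_pos, ?_⟩
  rw [← subDegAux_card h, card_pow_finrank, Nat.card_eq_fintype_card]

/-- apply `Helper41Dk.exists_intermediate` in the field `↥K` to `K1.comap K.subtype`, and map the
result back by `Subfield.map K.subtype` -/
theorem exists_between [Finite E] {K1 K : Subfield E} (h : K1 ≤ K) {a b : ℕ} (ha : 2 ≤ a)
    (hb : 2 ≤ b) (hq : Nat.card K1 ^ (a * b) = Nat.card K) :
    ∃ K2 : Subfield E, K1 ≤ K2 ∧ K2 ≤ K ∧ K2 ≠ K1 ∧ K2 ≠ K := by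
  have := Fintype.ofFinite K
  obtain ⟨L, h1, h2, h3⟩ := exists_intermediate (F := K) (K := K1.comap K.subtype) ha hb
    (by rw [subDegAux_card h, hq, Nat.card_eq_fintype_card])
  have hmem : ∀ x : K, (x : E) ∈ L.map K.subtype ↔ x ∈ L := by
    intro x
    constructor
    · rintro ⟨y, hy, hyx⟩
      have : y = x := Subtype.ext hyx
      rwa [← this]
    · intro hx
      exact ⟨x, hx, rfl⟩
  refine ⟨L.map K.subtype, ?_, ?_, ?_, ?_⟩
  · intro x hx
    exact (hmem ⟨x, h hx⟩).2 (h1 hx)
  · rintro _ ⟨y, -, rfl⟩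
    exact y.2
  · intro e
    apply h2
    ext x
    rw [← hmem, e]
    rfl
  · intro e
    apply h3
    rw [eq_top_iff]
    intro x _
    rw [← hmem, e]
    exact x.2

/-- the prime field -/
theorem card_bot_prime [Finite E] : (Nat.card (⊥ : Subfield E)).Prime := by
  obtain ⟨p, hp⟩ := CharP.exists E
  have hpp : p.Prime := by
    rcases CharP.char_is_prime_or_zero E p with h | h
    · exact h
    · subst h
      have := CharP.charP_to_charZero E
      exact absurd (inferInstance : Finite E) (not_finite_iff_infinite.2 inferInstance)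
  have : Fact p.Prime := ⟨hpp⟩
  rw [Subfield.card_bot E p]
  exact hpp

end Cfsg.Agent.Lib.H41PG
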