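import Mathlib
import Cfsg.Agent.Lib.H41PGDefs

/-!
# Project PG, piece SubEven
-/

set_option autoImplicit false

namespace Cfsg.Agent.Lib.H41PG

open Matrix Cfsg.Agent.Lib.Helper46SL2 Cfsg.Agent.Lib.Helper41SL2 Cfsg.Agent.Lib.Helper41Dk
  Cfsg.Agent.Lib.Helper41Pair Cfsg.Agent.Lib.Helper41Lift

variable {E : Type*} [Field E]

local notation "SL2" => Matrix.SpecialLinearGroup (Fin 2)
local notation "PSL2" => Matrix.ProjectiveSpecialLinearGroup (Fin 2)
local notation "PGL2" => Matrix.ProjGenLinGroup (Fin 2)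

/-- If `|K| = |K1| ^ r` with `r` even, every `a ∈ K1` is a square **in `K`**:
`a ^ ((|K| - 1) / 2) = 1` because `(|K1| - 1) ∣ (|K| - 1) / 2`
(`(|K1|^r - 1)/(|K1| - 1) = 1 + |K1| + ... ` has an even number of odd terms); Euler's criterion in `↥K`.
For `g ∈ PK K1`: `l g` is over `K1` and `l² = det (l g) ∈ K1`, so `l = ± b` with `b ∈ K`, and
`g = l⁻¹ (l g)` is over `K`.
(Alternative: `card_PK_of_even_deg` in the field `↥K` and a cardinality comparison.) -/
theorem PK_le_SLK_of_even [Fintype E] (hodd : Odd (Fintype.card E)) {K1 K : Subfield E}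
    (h : K1 ≤ K) {r : ℕ} (hr : Even r) (hq : Nat.card K1 ^ r = Nat.card K) : PK K1 ≤ SLK K := by
  rintro g ⟨l, hl, h0, h1, h2, h3⟩
  have := Fintype.ofFinite K
  have := Fintype.ofFinite K1
  have hd := det2 g
  have ha : l ^ 2 ∈ K1 := by
    have := sub_mem (mul_mem h0 h3) (mul_mem h1 h2)
    convert this using 1
    linear_combination (-l ^ 2) * hd
  -- arithmetic
  set q1 := Nat.card K1 with hq1
  have hq1odd : Odd q1 := by
    have h5 := card_pow_finrank K1
    rw [← h5] at hodd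
    by_contra hne
    rw [Nat.not_odd_iff_even] at hne
    have hpos : Module.finrank K1 E ≠ 0 := Module.finrank_pos.ne'
    exact (Nat.not_even_iff_odd.2 hodd) (hne.pow_of_ne_zero hpos)
  obtain ⟨s, rfl⟩ := hr
  have hAodd : Odd (q1 ^ s) := hq1odd.pow
  obtain ⟨B, hB⟩ : ∃ B, q1 ^ s + 1 = 2 * B := by
    obtain ⟨m, hm⟩ := hAodd
    exact ⟨m + 1, by omega⟩
  obtain ⟨C, hC⟩ : q1 - 1 ∣ q1 ^ s - 1 := by
    have := Nat.sub_dvd_pow_sub_pow q1 1 s
    rwa [one_pow] at this
  have hApos : 0 < q1 ^ s := hAodd.pos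
  have hqe : Nat.card K = 2 * ((q1 - 1) * (C * B)) + 1 := by
    rw [← hq, pow_add]
    have e1 : q1 ^ s = (q1 - 1) * C + 1 := by omega
    have e2 : q1 ^ s * q1 ^ s = (q1 ^ s - 1) * (q1 ^ s + 1) + 1 := by
      obtain ⟨A', hA'⟩ : ∃ A', q1 ^ s = A' + 1 := ⟨q1 ^ s - 1, by omega⟩
      rw [hA']
      simp only [Nat.add_sub_cancel]
      ring
    rw [e2, hC, hB]
    ring
  have hone : (l ^ 2) ^ (q1 - 1) = 1 := by
    have h6 : (⟨l ^ 2, ha⟩ : K1) ≠ 0 := by
      intro h7
      have := congrArg Subtype.val h7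
      exact pow_ne_zero 2 hl this
    have h7 := FiniteField.pow_card_sub_one_eq_one (⟨l ^ 2, ha⟩ : K1) h6
    have h8 := congrArg Subtype.val h7
    rw [hq1, Nat.card_eq_fintype_card]
    simpa using h8
  have hfix : l ^ Fintype.card K = l := by
    rw [← Nat.card_eq_fintype_card, hqe, pow_succ, pow_mul, pow_mul, hone, one_pow, one_mul]
  obtain ⟨y, hy⟩ := mem_range_of_pow_card_eq (F := K) l hfix
  have hlK : l ∈ K := by
    rw [← hy]
    exact y.2
  have key : ∀ x : E, l * x ∈ K1 → x ∈ K := by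
    intro x hx
    have := mul_mem (inv_mem hlK) (h hx)
    rwa [inv_mul_cancel_left₀ hl] at this
  exact ⟨key _ h0, key _ h1, key _ h2, key _ h3⟩

end Cfsg.Agent.Lib.H41PG
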