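import Mathlib
import Cfsg.Agent.Lib.H41PGDefs
import Cfsg.Agent.Lib.H41PGIdx
import Cfsg.Agent.Lib.H41PGSubDeg
import Cfsg.Agent.Lib.H41PGSubEven

/-!
# Project PG, piece Sub
-/

set_option autoImplicit false

namespace Cfsg.Agent.Lib.H41PG

open Matrix Cfsg.Agent.Lib.Helper46SL2 Cfsg.Agent.Lib.Helper41SL2 Cfsg.Agent.Lib.Helper41Dk
  Cfsg.Agent.Lib.Helper41Pair Cfsg.Agent.Lib.Helper41Lift

variable {E : Type*} [Field E]

local notation "SL2" => Matrix.SpecialLinearGroup (Fin 2)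
local notation "PSL2" => Matrix.ProjectiveSpecialLinearGroup (Fin 2)
local notation "PGL2" => Matrix.ProjGenLinGroup (Fin 2)

theorem sub_normal_form [Fintype E] {K : Subfield E} {q : ℕ} (hs : Setup E K q)
    {G : Subgroup (SL2 E)} (hG : IsMax K G) {K1 : Subfield E} (h1 : K1 ≤ K) (hne : K1 ≠ K)
    (hle : G ≤ PK K1) :
    G = PK K1 ∧ ∃ r : ℕ, r.Prime ∧ Odd r ∧ Nat.card K1 ^ r = q := by
  have hGeq : G = PK K1 :=
    hG.max.eq_of_le hle (PK_mono h1) (fun h => hne (PK_injective h))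
  refine ⟨hGeq, ?_⟩
  obtain ⟨r, hr0, hr⟩ := exists_deg h1
  have hodd : Odd r := by
    by_contra hcon
    rw [Nat.not_odd_iff_even] at hcon
    apply hG.not_le_SLK hs
    rw [hGeq]
    exact PK_le_SLK_of_even hs.odd h1 hcon hr
  have hr1 : r ≠ 1 := by
    rintro rfl
    rw [pow_one] at hr
    apply hne
    have : (K1 : Set E) = K := by
      apply Set.eq_of_subset_of_ncard_le h1 _ (Set.toFinite _)
      rw [← Nat.card_coe_set_eq, ← Nat.card_coe_set_eq]
      exact hr.ge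
    exact SetLike.coe_injective this
  refine ⟨r, ?_, hodd, by rw [hr, hs.cardK]⟩
  by_contra hnp
  obtain ⟨a, ha1, ha2, ha3⟩ := (Nat.not_prime_iff_exists_dvd_ne (by omega)).mp hnp
  obtain ⟨b, rfl⟩ := ha1
  have ha : 2 ≤ a := by
    rcases Nat.eq_zero_or_pos a with rfl | h
    · simp at hr0
    · omega
  have hb : 2 ≤ b := by
    rcases Nat.eq_zero_or_pos b with rfl | h
    · simp at hr0
    · by_contra hcon
      have : b = 1 := by omega
      rw [this, mul_one] at ha3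
      exact ha3 rfl
  obtain ⟨K2, k1, k2, k3, k4⟩ := exists_between h1 ha hb hr
  have h5 : G < PK K2 := by
    rw [hGeq]
    exact lt_of_le_of_ne (PK_mono k1) (fun h => k3 (PK_injective h).symm)
  exact k4 (PK_injective (hG.max.2 _ h5 (PK_mono k2)))

theorem sub_iso [Fintype E] {K : Subfield E} {q : ℕ} (hs : Setup E K q) {K1 : Subfield E} {r : ℕ}
    (hq : Nat.card K1 ^ r = q) :
    ∃ (F₀ : Type) (_ : Field F₀) (_ : Fintype F₀), q = Fintype.card F₀ ^ r ∧
      Nonempty ((PK K1).map (proj E) ≃* PGL2 F₀) := by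
  obtain ⟨K', i1, i2, ⟨ε⟩⟩ := exists_small_field K1
  have hcK : Fintype.card K' = Nat.card K1 := by
    rw [← Nat.card_eq_fintype_card]; exact Nat.card_congr ε.toEquiv
  refine ⟨K', i1, i2, by rw [hcK, hq], ?_⟩
  exact PKbar_equiv_PGL (ee_eq_two hs.odd) (card_PK_of_even_deg hs.odd (m := 2 * r)
    (even_two_mul r) (by rw [mul_comm, pow_mul, hq, hs.cardE])) ε

end Cfsg.Agent.Lib.H41PG
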