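import Mathlib
import Cfsg.Agent.Lib.H41PGDefs
import Cfsg.Agent.Lib.H41PGBasic

/-!
# Project PG, piece Track
-/

set_option autoImplicit false

namespace Cfsg.Agent.Lib.H41PG

open Matrix Cfsg.Agent.Lib.Helper46SL2 Cfsg.Agent.Lib.Helper41SL2 Cfsg.Agent.Lib.Helper41Dk
  Cfsg.Agent.Lib.Helper41Pair Cfsg.Agent.Lib.Helper41Lift

variable {E : Type*} [Field E]

local notation "SL2" => Matrix.SpecialLinearGroup (Fin 2)
local notation "PSL2" => Matrix.ProjectiveSpecialLinearGroup (Fin 2)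
local notation "PGL2" => Matrix.ProjGenLinGroup (Fin 2)

/-- a unipotent element of `SLK K` is conjugate in `SLK K` to some `uu b`, `b ∈ K` -/
theorem exists_conj_uu_SLK {K : Subfield E} {u : SL2 E} (hu : u ∈ SLK K)
    (huZ : u ∉ Subgroup.center (SL2 E)) (ht : tr u = 2) :
    ∃ b ∈ K, b ≠ 0 ∧ ∃ c ∈ SLK K, c * u * c⁻¹ = uu b := by
  rw [SLK_eq_range] at hu
  obtain ⟨u', rfl⟩ := hu
  have ht' : tr u' = 2 := by
    apply Subtype.ext
    exact ht
  have huZ' : u' ∉ Subgroup.center (SL2 K) := by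
    intro h
    apply huZ
    rcases mem_center_iff_eq.mp h with rfl | rfl
    · rw [map_one]; exact one_mem _
    · apply mem_center_iff_eq.mpr
      right
      apply ext2 <;> simp [Helper46SL2.neg_apply, SpecialLinearGroup.map_apply_coe]
  obtain ⟨b, hb, hc⟩ := exists_isConj_uu huZ' ht'
  obtain ⟨c, hc⟩ := isConj_iff.mp hc
  refine ⟨b, b.2, fun h => hb (Subtype.ext h), SpecialLinearGroup.map K.subtype c, ?_, ?_⟩
  · rw [SLK_eq_range]; exact ⟨c, rfl⟩
  · rw [← map_inv, ← map_mul, ← map_mul, hc]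
    apply ext2 <;> rfl

/-- **Dickson's theorem inside `PK K`**: the normalising automorphism can be chosen to stabilise
`PK K` and `SLK K`. -/
theorem dickson_in_PK [Fintype E] (h2 : (2 : E) ≠ 0) {K : Subfield E} {G : Subgroup (SL2 E)}
    (hZ : Subgroup.center (SL2 E) ≤ G) (hG : G ≤ PK K) :
    ∃ φ : SL2 E ≃* SL2 E, Stab K φ ∧ Out' (G.map φ.toMonoidHom) := by
  by_cases hss : ∀ x ∈ G, x ∉ Subgroup.center (SL2 E) → tr x ^ 2 ≠ 4
  · refine ⟨MulEquiv.refl _, stab_refl K, ?_⟩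
    have : G.map (MulEquiv.refl (SL2 E)).toMonoidHom = G := by
      ext x; simp
    rw [this]
    exact out'_of_caseA hss (caseA hZ hss)
  · push Not at hss
    obtain ⟨x, hx, hxZ, ht⟩ := hss
    -- a unipotent element
    obtain ⟨u, hu, huZ, htu⟩ : ∃ u ∈ G, u ∉ Subgroup.center (SL2 E) ∧ tr u = 2 := by
      have h5 : (tr x - 2) * (tr x + 2) = 0 := by linear_combination ht
      rcases mul_eq_zero.mp h5 with h6 | h6
      · exact ⟨x, hx, hxZ, by linear_combination h6⟩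
      · have hneg : (-1 : SL2 E) ∈ Subgroup.center (SL2 E) := mem_center_iff_eq.mpr (Or.inr rfl)
        have e : -x = (-1 : SL2 E) * x := by simp
        refine ⟨-x, by rw [e]; exact mul_mem (hZ hneg) hx, ?_, by rw [tr_neg]; linear_combination -h6⟩
        intro h
        apply hxZ
        have := mul_mem hneg h
        simpa using this
    have huS : u ∈ SLK K := by
      apply mem_SLK_of_tr (hG hu)
      · rw [htu]
        have : ((2 : ℕ) : E) ∈ K := natCast_mem K 2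
        exact_mod_cast this
      · rw [htu]; exact h2
    obtain ⟨b, hbK, hb, c, hcS, hc⟩ := exists_conj_uu_SLK huS huZ htu
    let φ1 : SL2 E ≃* SL2 E := (MulAut.conj c).trans (scl b⁻¹ (inv_ne_zero hb))
    have hφ1 : Stab K φ1 := (stab_conj (SLK_le_PK K hcS)).trans (stab_scl _ (inv_mem hbK))
    have hG1 : G.map φ1.toMonoidHom ≤ PK K := by
      rw [← hφ1.1]; exact Subgroup.map_mono hG
    have h1 : uu (1 : E) ∈ G.map φ1.toMonoidHom := by
      refine ⟨u, hu, ?_⟩
      change scl b⁻¹ (inv_ne_zero hb) (c * u * c⁻¹) = _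
      rw [hc, scl_uu, inv_mul_cancel₀ hb]
    by_cases hB : G.map φ1.toMonoidHom ≤ Bor E
    · exact ⟨φ1, hφ1, Or.inr (Or.inr (Or.inr (Or.inr (Or.inr (Or.inr (Or.inl hB))))))⟩
    · obtain ⟨w, hw, hwB⟩ := SetLike.not_le_iff_exists.mp hB
      have hw10 : w 1 0 ≠ 0 := hwB
      have hr : uu (-(w 0 0 / w 1 0)) ∈ PK K := by
        apply SLK_le_PK
        exact ⟨one_mem _, neg_mem (ratio_mem (hG1 hw) hw10), zero_mem _, one_mem _⟩
      let φ2 : SL2 E ≃* SL2 E := φ1.trans (MulAut.conj (uu (-(w 0 0 / w 1 0))))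
      have hmap : G.map φ2.toMonoidHom =
          (G.map φ1.toMonoidHom).map (MulAut.conj (uu (-(w 0 0 / w 1 0)))).toMonoidHom := by
        rw [Subgroup.map_map]; rfl
      refine ⟨φ2, hφ1.trans (stab_conj hr), ?_⟩
      have hZ2 := center_le_map hZ φ2
      have h12 : uu (1 : E) ∈ G.map φ2.toMonoidHom := by
        rw [hmap]
        refine ⟨uu 1, h1, ?_⟩
        change uu (-(w 0 0 / w 1 0)) * uu (1 : E) * (uu (-(w 0 0 / w 1 0)))⁻¹ = uu (1 : E)
        rw [← uu_neg, uu_mul, uu_mul]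
        congr 1; ring
      have hw2 : uu (-(w 0 0 / w 1 0)) * w * (uu (-(w 0 0 / w 1 0)))⁻¹ ∈ G.map φ2.toMonoidHom := by
        rw [hmap]
        exact ⟨w, hw, rfl⟩
      have hw00 : (uu (-(w 0 0 / w 1 0)) * w * (uu (-(w 0 0 / w 1 0)))⁻¹) 0 0 = 0 := by
        simp only [mul_00, mul_01, inv_00, inv_10, uu_00, uu_01, uu_10, uu_11]
        field_simp
        ring
      exact out'_of_outB' hZ2 h12 hw2 hw00 (caseB' hZ2 one_ne_zero h12)

end Cfsg.Agent.Lib.H41PG
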