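import Mathlib
import Cfsg.Agent.Lib.H41PGDefs

/-!
# Project PG, piece Transp
-/

set_option autoImplicit false

namespace Cfsg.Agent.Lib.H41PG

open Matrix Cfsg.Agent.Lib.Helper46SL2 Cfsg.Agent.Lib.Helper41SL2 Cfsg.Agent.Lib.Helper41Dk
  Cfsg.Agent.Lib.Helper41Pair Cfsg.Agent.Lib.Helper41Lift

variable {E : Type*} [Field E]

local notation "SL2" => Matrix.SpecialLinearGroup (Fin 2)
local notation "PSL2" => Matrix.ProjectiveSpecialLinearGroup (Fin 2)
local notation "PGL2" => Matrix.ProjGenLinGroup (Fin 2)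

theorem map_le_aux {𝔾 : Type*} [Group 𝔾] (φ : 𝔾 ≃* 𝔾) {A B : Subgroup 𝔾} :
    A.map φ.toMonoidHom ≤ B.map φ.toMonoidHom ↔ A ≤ B :=
  Subgroup.map_le_map_iff_of_injective φ.injective

theorem map_lt_aux {𝔾 : Type*} [Group 𝔾] (φ : 𝔾 ≃* 𝔾) {A B : Subgroup 𝔾} :
    A.map φ.toMonoidHom < B.map φ.toMonoidHom ↔ A < B := by
  rw [lt_iff_le_not_ge, lt_iff_le_not_ge, map_le_aux, map_le_aux]

/-- `MaxIn` is invariant under an automorphism -/
theorem MaxIn.map_equiv {𝔾 : Type*} [Group 𝔾] {A B : Subgroup 𝔾} (φ : 𝔾 ≃* 𝔾) :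
    MaxIn (A.map φ.toMonoidHom) (B.map φ.toMonoidHom) ↔ MaxIn A B := by
  constructor
  · rintro ⟨h1, h2⟩
    refine ⟨(map_lt_aux φ).1 h1, fun Y hY hYB => ?_⟩
    have := h2 (Y.map φ.toMonoidHom) ((map_lt_aux φ).2 hY) ((map_le_aux φ).2 hYB)
    exact Subgroup.map_injective φ.injective this
  · rintro ⟨h1, h2⟩
    refine ⟨(map_lt_aux φ).2 h1, fun Y hY hYB => ?_⟩
    have hYe : (Y.comap φ.toMonoidHom).map φ.toMonoidHom = Y :=
      Subgroup.map_comap_eq_self_of_surjective φ.surjective Y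
    rw [← hYe] at hY hYB ⊢
    rw [h2 _ ((map_lt_aux φ).1 hY) ((map_le_aux φ).1 hYB)]

/-- transport of maximality along an automorphism stabilising `PK K`, `SLK K`
(`Y ↦ Y.map φ` is an order automorphism of the subgroup lattice; the centre is characteristic,
see `Helper41Dk.center_le_map`). -/
theorem IsMax.map {K : Subfield E} {G : Subgroup (SL2 E)} (hG : IsMax K G)
    {φ : SL2 E ≃* SL2 E} (hφ : Stab K φ) : IsMax K (G.map φ.toMonoidHom) := by
  refine ⟨center_le_map hG.center φ, ?_, ?_⟩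
  · have := (MaxIn.map_equiv (A := G) (B := PK K) φ).2 hG.max
    rwa [hφ.1] at this
  · intro h
    rw [← hφ.2, map_le_aux] at h
    exact hG.notS h

/-- use `barEquiv φ` and `pre_map_barEquiv`, `map_pre`, `pre_map_proj` -/
theorem equiv_map_proj {G : Subgroup (SL2 E)} (hZ : Subgroup.center (SL2 E) ≤ G)
    (φ : SL2 E ≃* SL2 E) :
    Nonempty (G.map (proj E) ≃* (G.map φ.toMonoidHom).map (proj E)) := by
  have h : (G.map (proj E)).map (barEquiv φ).toMonoidHom = (G.map φ.toMonoidHom).map (proj E) := by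
    ext y
    constructor
    · rintro ⟨_, ⟨x, hx, rfl⟩, rfl⟩
      exact ⟨φ x, ⟨x, hx, rfl⟩, rfl⟩
    · rintro ⟨_, ⟨x, hx, rfl⟩, rfl⟩
      exact ⟨proj E x, ⟨x, hx, rfl⟩, rfl⟩
  exact ⟨((G.map (proj E)).equivMapOfInjective _ (barEquiv φ).injective).trans
    (MulEquiv.subgroupCongr h)⟩

end Cfsg.Agent.Lib.H41PG
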