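import Mathlib
import Cfsg.Agent.Lib.H41PGDefs
import Cfsg.Agent.Lib.H41PGBasic
import Cfsg.Agent.Lib.H41PGIdx
import Cfsg.Agent.Lib.H41PGTrack
import Cfsg.Agent.Lib.H41PGTransp
import Cfsg.Agent.Lib.H41PGBor
import Cfsg.Agent.Lib.H41PGDihA
import Cfsg.Agent.Lib.H41PGDihB
import Cfsg.Agent.Lib.H41PGFive
import Cfsg.Agent.Lib.H41PGNoIdx
import Cfsg.Agent.Lib.H41PGS4d
import Cfsg.Agent.Lib.H41PGS4e
import Cfsg.Agent.Lib.H41PGSub

/-!
# Project PG: the normal form theorem and its consequences (assembly)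
-/

set_option autoImplicit false

namespace Cfsg.Agent.Lib.H41PG

open Matrix Cfsg.Agent.Lib.Helper46SL2 Cfsg.Agent.Lib.Helper41SL2 Cfsg.Agent.Lib.Helper41Dk
  Cfsg.Agent.Lib.Helper41Pair Cfsg.Agent.Lib.Helper41Lift

variable {E : Type*} [Field E]

local notation "SL2" => Matrix.SpecialLinearGroup (Fin 2)
local notation "PSL2" => Matrix.ProjectiveSpecialLinearGroup (Fin 2)
local notation "PGL2" => Matrix.ProjGenLinGroup (Fin 2)

theorem normal_form [Fintype E] {K : Subfield E} {q : ℕ} (hs : Setup E K q)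
    {G : Subgroup (SL2 E)} (hG : IsMax K G) :
    ∃ φ : SL2 E ≃* SL2 E, Stab K φ ∧ NF K q (G.map φ.toMonoidHom) := by
  have h2 := two_ne_zero' hs
  have he : ee E = 2 := ee_eq_two hs.odd
  obtain ⟨φ, hφ, hout⟩ := dickson_in_PK h2 hG.center hG.max.1.le
  have hG' := hG.map hφ
  set G' := G.map φ.toMonoidHom with hG'def
  have hpre : pre (G'.map (proj E)) = G' := pre_map_proj hG'.center
  obtain ⟨H0, hH0⟩ := exists_index_two hs hG'
  rcases hout with h | ⟨x, hx, ht, h⟩ | ⟨x, hx, ht, h, -⟩ | ⟨-, h12, hnc⟩ |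
    ⟨-, h3, h24, hnc, x, -, hxZ, hA, hN⟩ | ⟨-, h5, h60⟩ | h | ⟨K1, s1, s2, s3, -⟩
  · exfalso
    apply hG'.not_le_SLK hs
    rw [h]
    intro g hg
    rcases mem_center_iff_eq.mp hg with rfl | rfl
    · exact one_mem _
    · refine ⟨?_, ?_, ?_, ?_⟩ <;> simp [Helper46SL2.neg_apply]
  · have hle : G' ≤ Subgroup.normalizer
        ((Subgroup.centralizer {x} : Subgroup (SL2 E)) : Set (SL2 E)) := by
      have h1 : G' ≤ Subgroup.centralizer {x} := by rw [h]; exact inf_le_left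
      exact h1.trans (centralizer_le_normalizer x)
    exact ⟨φ, hφ, Or.inr (Or.inl (dih_normal_form hs hG' hx ht hle))⟩
  · have hle : G' ≤ Subgroup.normalizer
        ((Subgroup.centralizer {x} : Subgroup (SL2 E)) : Set (SL2 E)) := by
      rw [h]; exact inf_le_left
    exact ⟨φ, hφ, Or.inr (Or.inl (dih_normal_form hs hG' hx ht hle))⟩
  · exfalso
    obtain ⟨e⟩ := A4_outcome (H := G'.map (proj E)) (by rw [hpre]; exact h12)
      (by rw [hpre]; exact hnc)
    exact no_index_two_of_equiv e A4_no_index_two H0 hH0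
  · obtain ⟨e⟩ := S4_outcome (H := G'.map (proj E)) (by rw [hpre]; exact h24)
      (by rw [hpre]; exact hnc) hxZ (by rw [hpre]; exact hA) (by rw [hpre]; exact hN)
    by_cases hK : (⊥ : Subfield E) = K
    · refine ⟨φ, hφ, Or.inr (Or.inr (Or.inl ⟨?_, S4_mod_eight hs hG' e, by rw [h24, he], ⟨e⟩⟩))⟩
      rw [← hs.cardK, ← hK]
      exact card_bot_prime
    · obtain ⟨c, hc, hle⟩ := S4_into_PK_tracked hs hG'.center hG'.max.1.le e (bot_le : ⊥ ≤ K)
      have hG'' := hG'.map (stab_conj hc)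
      obtain ⟨h6, r, hr⟩ := sub_normal_form hs hG'' bot_le hK hle
      refine ⟨φ.trans (MulAut.conj c), hφ.trans (stab_conj hc), ?_⟩
      have hmap : G.map (φ.trans (MulAut.conj c)).toMonoidHom =
          G'.map (MulAut.conj c).toMonoidHom := by
        rw [hG'def, Subgroup.map_map]; rfl
      rw [hmap]
      refine Or.inr (Or.inr (Or.inr ⟨⊥, bot_le, ?_, h6, r, hr⟩))
      have h7 := (card_bot_prime (E := E)).two_le
      have h8 := odd_card_subfield hs.odd (⊥ : Subfield E)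
      rcases h8 with ⟨k, hk⟩
      omega
  · exfalso
    obtain ⟨e⟩ := Cfsg.Agent.Lib.Helper6DkT.A5_outcome (H := G'.map (proj E))
      (by rw [hpre]; exact h60)
    exact no_index_two_of_equiv e A5_no_index_two H0 hH0
  · refine ⟨φ, hφ, Or.inl ?_⟩
    exact hG'.max.eq_of_le (le_inf h hG'.max.1.le) inf_le_right (Bor_inf_PK_ne K)
  · have hK1 : K1 ≤ K := by
      intro t ht
      have h6 : uu t ∈ SLK K1 := ⟨one_mem _, ht, zero_mem _, one_mem _⟩
      exact uu_mem_PK_iff.mp (hG'.max.1.le (s1 h6))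
    have hne : K1 ≠ K := by
      rintro rfl
      exact hG'.notS s1
    obtain ⟨h6, r, hr⟩ := sub_normal_form hs hG' hK1 hne s2
    exact ⟨φ, hφ, Or.inr (Or.inr (Or.inr ⟨K1, hK1, s3, h6, r, hr⟩))⟩

/-- the conclusion of S5891 for a subgroup in normal form -/
theorem concl_of_NF [Fintype E] {K : Subfield E} {q : ℕ} (hs : Setup E K q)
    {G : Subgroup (SL2 E)} (hG : IsMax K G) (h : NF K q G) :
    Nat.card (G.map (proj E)) = q * (q - 1) ∨
    (q ≠ 5 ∧ Nonempty (G.map (proj E) ≃* DihedralGroup (q - 1))) ∨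
    Nonempty (G.map (proj E) ≃* DihedralGroup (q + 1)) ∨
    (q.Prime ∧ (q % 8 = 3 ∨ q % 8 = 5) ∧ Nonempty (G.map (proj E) ≃* Equiv.Perm (Fin 4))) ∨
    (∃ (F₀ : Type) (_ : Field F₀) (_ : Fintype F₀) (r : ℕ), r.Prime ∧ Odd r ∧
      q = Fintype.card F₀ ^ r ∧ Nonempty (G.map (proj E) ≃* PGL2 F₀)) := by
  have he : ee E = 2 := ee_eq_two hs.odd
  have hpre : pre (G.map (proj E)) = G := pre_map_proj hG.center
  rcases h with h | ⟨x, hx, ht, h⟩ | ⟨h1, h2, -, h3⟩ | ⟨K1, -, -, h, r, hr, hro, hq⟩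
  · left
    have h1 := card_eq_two_mul hs hG.max.1.le (hG.not_le_SLK hs)
    have h2 : G ⊓ SLK K = Bor E ⊓ SLK K := by
      rw [h, inf_assoc, inf_eq_right.mpr (SLK_le_PK K)]
    rw [h2, card_Bor_inf_SLK, hs.cardK] at h1
    have h3 := card_pre (G.map (proj E))
    rw [hpre, he, h1] at h3
    omega
  · rcases dih_concl hs hG hx ht h with h1 | ⟨h1, h2⟩
    · exact Or.inr (Or.inr (Or.inl h1))
    · refine Or.inr (Or.inl ⟨?_, h1⟩)
      rintro rfl
      exact five_false hs hG hx ht h h2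
  · exact Or.inr (Or.inr (Or.inr (Or.inl ⟨h1, h2, h3⟩)))
  · obtain ⟨F₀, i1, i2, h1, h2⟩ := sub_iso hs hq
    refine Or.inr (Or.inr (Or.inr (Or.inr ⟨F₀, i1, i2, r, hr, hro, h1, ?_⟩)))
    rw [h]; exact h2

end Cfsg.Agent.Lib.H41PG
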