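import Mathlib
import Cfsg.Agent.Lib.H41PGDefs
import Cfsg.Agent.Lib.H41PGTrK
import Cfsg.Agent.Lib.H41PGNNS

/-!
# Project PG, piece SubMax
-/

set_option autoImplicit false

namespace Cfsg.Agent.Lib.H41PG

open Matrix Cfsg.Agent.Lib.Helper46SL2 Cfsg.Agent.Lib.Helper41SL2 Cfsg.Agent.Lib.Helper41Dk
  Cfsg.Agent.Lib.Helper41Pair Cfsg.Agent.Lib.Helper41Lift

variable {E : Type*} [Field E]

local notation "SL2" => Matrix.SpecialLinearGroup (Fin 2)
local notation "PSL2" => Matrix.ProjectiveSpecialLinearGroup (Fin 2)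
local notation "PGL2" => Matrix.ProjGenLinGroup (Fin 2)

theorem card_comap_subtype {K1 K : Subfield E} (h1 : K1 ≤ K) :
    Nat.card (K1.comap K.subtype) = Nat.card K1 := by
  apply Nat.card_congr
  exact
    { toFun := fun x => ⟨(x : K), x.2⟩
      invFun := fun x => ⟨⟨x, h1 x.2⟩, x.2⟩
      left_inv := fun _ => rfl
      right_inv := fun _ => rfl }

theorem sub_inf_maxIn [Fintype E] {K : Subfield E} {q : ℕ} (hs : Setup E K q)
    {G : Subgroup (SL2 E)} (hG : IsMax K G) {K1 : Subfield E} (h1 : K1 ≤ K) (h3 : 3 ≤ Nat.card K1)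
    (h : G = PK K1) {r : ℕ} (hr : r.Prime) (hq : Nat.card K1 ^ r = q) :
    MaxIn (G ⊓ SLK K) (SLK K) := by
  have := Fintype.ofFinite K
  have hqK : Fintype.card K = q := by rw [← Nat.card_eq_fintype_card]; exact hs.cardK
  set K1' : Subfield K := K1.comap K.subtype with hK1'
  have hc : Nat.card K1' = Nat.card K1 := card_comap_subtype h1
  have hq' : Nat.card K1' ^ r = Fintype.card K := by rw [hc, hq, hqK]
  have hco : IsCoatom (PK K1') := by
    constructor
    · exact PK_ne_top (subfield_ne_top_of_card hr.two_le hq')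
    · intro M hM
      by_contra hMtop
      exact hM.ne (PK_max (by rw [hc]; exact h3) hr hq' hM.le hMtop).symm
  have hmax := maxIn_SLK_of_coatom hco
  have hle : (PK K1').map (iota K) ≤ G ⊓ SLK K := by
    rintro _ ⟨g, ⟨l, hl, a0, a1, a2, a3⟩, rfl⟩
    refine ⟨?_, iota_mem_SLK g⟩
    rw [h]
    exact ⟨(l : E), fun h0 => hl (Subtype.ext h0), a0, a1, a2, a3⟩
  have hne : G ⊓ SLK K ≠ SLK K := by
    intro h5
    exact hG.notS (inf_eq_right.mp h5)
  rw [← hmax.eq_of_le hle inf_le_right hne]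
  exact hmax

end Cfsg.Agent.Lib.H41PG
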