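import Mathlib
import Cfsg.Agent.Lib.H41PGDefs

/-!
# Project PG, piece TorMaxK
-/

set_option autoImplicit false

namespace Cfsg.Agent.Lib.H41PG

open Matrix Cfsg.Agent.Lib.Helper46SL2 Cfsg.Agent.Lib.Helper41SL2 Cfsg.Agent.Lib.Helper41Dk
  Cfsg.Agent.Lib.Helper41Pair Cfsg.Agent.Lib.Helper41Lift

variable {E : Type*} [Field E]

local notation "SL2" => Matrix.SpecialLinearGroup (Fin 2)
local notation "PSL2" => Matrix.ProjectiveSpecialLinearGroup (Fin 2)
local notation "PGL2" => Matrix.ProjGenLinGroup (Fin 2)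

open Cfsg.Agent.Lib.Helper6DkCor in
/-- the `SL₂` version of `Helper6DkCor.exists_dihedral_coatom` -/
theorem normalizer_coatom_core {F : Type*} [Field F] [Fintype F] (p : ℕ) [Fact p.Prime] [CharP F p]
    {x : SL2 F} (ht : tr x ^ 2 ≠ 4)
    (hC : Nat.card (Subgroup.centralizer {x} : Subgroup (SL2 F)) = orderOf x)
    (hc : (orderOf x).Coprime p)
    (hlt : 2 * orderOf x < Fintype.card F * (Fintype.card F ^ 2 - 1))
    (hmax : ∀ g : ℕ, 2 * orderOf x ∣ g → 4 * orderOf x ≤ g →
      g ∣ Fintype.card F * (Fintype.card F ^ 2 - 1) →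
      g ≠ Fintype.card F * (Fintype.card F ^ 2 - 1) →
      ¬ TorusBad (Fintype.card F) (ee F) (orderOf x) g) :
    IsCoatom (Subgroup.normalizer ((Subgroup.centralizer {x} : Subgroup (SL2 F)) : Set (SL2 F))) := by
  have hcS : Nat.card (SL2 F) = Fintype.card F * (Fintype.card F ^ 2 - 1) :=
    Cfsg.Agent.Lib.Helper7SL.card_SL_two
  set N : Subgroup (SL2 F) :=
    Subgroup.normalizer ((Subgroup.centralizer {x} : Subgroup (SL2 F)) : Set (SL2 F)) with hN
  have hcN : Nat.card N = 2 * orderOf x := by rw [hN, card_normalizer_centralizer ht, hC]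
  have hZN : Subgroup.center (SL2 F) ≤ N :=
    (Subgroup.center_le_centralizer _).trans (centralizer_le_normalizer x)
  obtain ⟨y, hyx⟩ := exists_inverting ht
  have hyN : y ∈ N := (mem_normalizer_centralizer_iff ht).2 (Or.inr hyx)
  have hxN : x ∈ N := (mem_normalizer_centralizer_iff ht).2 (Or.inl (by group))
  refine ⟨?_, ?_⟩
  · intro h1
    rw [h1, Subgroup.card_top, hcS] at hcN
    omega
  · intro M hM
    have hle : N ≤ M := hM.le
    have hdvd : 2 * orderOf x ∣ Nat.card M := by
      rw [← hcN]; exact Subgroup.card_dvd_of_le hle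
    have hlt' : 2 * orderOf x < Nat.card M := by
      rw [← hcN]
      refine lt_of_le_of_ne (Subgroup.card_le_of_le hle) ?_
      intro h
      exact hM.ne (Subgroup.eq_of_le_of_card_ge hle h.ge)
    have h4 : 4 * orderOf x ≤ Nat.card M := by
      obtain ⟨c, hc'⟩ := hdvd
      rw [hc'] at hlt' ⊢
      have : 2 ≤ c := by
        by_contra hcon
        have : c = 0 ∨ c = 1 := by omega
        rcases this with rfl | rfl <;> omega
      nlinarith
    have hdS : Nat.card M ∣ Fintype.card F * (Fintype.card F ^ 2 - 1) := by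
      rw [← hcS]; exact Subgroup.card_subgroup_dvd_card _
    by_cases hfull : Nat.card M = Fintype.card F * (Fintype.card F ^ 2 - 1)
    · apply Subgroup.eq_top_of_card_eq
      rw [hfull, hcS]
    · have hbad := hmax _ hdvd h4 hdS hfull
      rcases torus_cases p (hZN.trans hle) (hle hxN) (hle hyN) hyx hc with
        h | h | h | h | h | h | h
      · exact absurd (Or.inl h) hbad
      · exact absurd (Or.inr (Or.inl h)) hbad
      · exact absurd (Or.inr (Or.inr (Or.inl h))) hbad
      · exact absurd (Or.inr (Or.inr (Or.inr (Or.inl h)))) hbad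
      · exact absurd (Or.inr (Or.inr (Or.inr (Or.inr (Or.inl h))))) hbad
      · exact h
      · exact absurd (Or.inr (Or.inr (Or.inr (Or.inr (Or.inr h))))) hbad

open Cfsg.Agent.Lib.Helper6DkCor in
/-- **The normaliser of a maximal torus of `SL₂(q)` is maximal** (with the usual exceptions).
Adapt `Helper6DkCor.exists_dihedral_coatom` (Helper6DkTorus.lean l. 238-320) and its two applications
`S0811.lean`, `S0812.lean`:  let `g` generate the cyclic group `C(x)` (`isCyclic_centralizer ht`), so
`orderOf g = |C(x)| = q ± 1` is prime to `p`; `g` is not central (`|C(x)| > 2 ≥ |Z|`), `tr g ^ 2 ≠ 4`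
(otherwise `tr x ^ 2 = 4` by `tr_sq_of_commute_unip`, Helper41Dk17) and `C(g) = C(x)`
(`centralizer_eq_of_commute`).  `N = N(C(g))` has order `2 (q ± 1)`, contains `g` and an inverting `y`.
For `N < M`: `|M| ≥ 4 (q ± 1)`, `|M|` divides `q (q² - 1)`; `torus_cases` + `arith_plus` / `arith_minus`
(`ee_eq_gcd`) give `M = ⊤`. -/
theorem normalizer_coatom {F : Type*} [Field F] [Fintype F] {x : SL2 F} (ht : tr x ^ 2 ≠ 4)
    (h : (Nat.card (Subgroup.centralizer {x} : Subgroup (SL2 F)) = Fintype.card F + 1 ∧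
          Fintype.card F ∉ ({2, 7, 9} : Finset ℕ)) ∨
        (Nat.card (Subgroup.centralizer {x} : Subgroup (SL2 F)) = Fintype.card F - 1 ∧
          Fintype.card F ∉ ({2, 3, 5, 7, 9, 11} : Finset ℕ))) :
    IsCoatom (Subgroup.normalizer ((Subgroup.centralizer {x} : Subgroup (SL2 F)) : Set (SL2 F))) := by
  obtain ⟨p, hp⟩ := CharP.exists F
  obtain ⟨f, hp', hf⟩ := FiniteField.card F p
  have : Fact p.Prime := ⟨hp'⟩
  have hq2 : 2 ≤ Fintype.card F := Fintype.one_lt_card
  have hpq : p ∣ Fintype.card F := by rw [hf]; exact dvd_pow_self p f.ne_zero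
  have hcyc := isCyclic_centralizer ht
  obtain ⟨g0, hg0⟩ := IsCyclic.exists_generator
    (α := (Subgroup.centralizer {x} : Subgroup (SL2 F)))
  have hog0 : orderOf (g0 : SL2 F) = Nat.card (Subgroup.centralizer {x} : Subgroup (SL2 F)) := by
    rw [Subgroup.orderOf_coe, orderOf_eq_card_of_forall_mem_zpowers hg0]
  obtain ⟨g, hgdef⟩ : ∃ g : SL2 F, g = (g0 : SL2 F) := ⟨_, rfl⟩
  rw [← hgdef] at hog0
  have hgx : g * x = x * g := by
    rw [hgdef]; exact mem_centralizer_iff.1 g0.2
  have h3 : 3 ≤ orderOf g := by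
    rw [hog0]
    rcases h with ⟨h1, h2⟩ | ⟨h1, h2⟩
    · omega
    · simp only [Finset.mem_insert, Finset.mem_singleton, not_or] at h2
      omega
  have hgZ : g ∉ Subgroup.center (SL2 F) := by
    intro hmem
    have h2 : g ^ 2 = 1 := by
      rcases mem_center_iff_eq.mp hmem with rfl | rfl
      · simp
      · simp
    have := Nat.le_of_dvd (by norm_num) (orderOf_dvd_of_pow_eq_one h2)
    omega
  have hxZ : x ∉ Subgroup.center (SL2 F) := not_mem_center_of_tr ht
  have htg : tr g ^ 2 ≠ 4 := fun h4 => ht (tr_sq_of_commute_unip hgZ h4 hgx.symm)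
  have hCC : (Subgroup.centralizer {g} : Subgroup (SL2 F)) = Subgroup.centralizer {x} :=
    centralizer_eq_of_commute hxZ hgZ hgx
  rw [← hCC]
  rw [← hCC] at hog0 h
  rcases h with ⟨h1, hq⟩ | ⟨h1, hq⟩
  · have hord : orderOf g = Fintype.card F + 1 := hog0.trans h1
    have hq' := hq
    simp only [Finset.mem_insert, Finset.mem_singleton, not_or] at hq'
    apply normalizer_coatom_core p htg hog0.symm
    · rw [hord]
      apply Nat.Coprime.symm
      rw [hp'.coprime_iff_not_dvd]
      intro h
      have := (Nat.dvd_add_right hpq).1 h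
      exact hp'.one_lt.ne' (Nat.dvd_one.1 this)
    · rw [hord]
      have h3 : 3 ≤ Fintype.card F := by omega
      have h4 : Fintype.card F + 1 ≤ Fintype.card F ^ 2 - 1 := by
        have : Fintype.card F * 3 ≤ Fintype.card F ^ 2 := by nlinarith
        omega
      nlinarith
    · intro g' _ h2 h3 h4
      rw [hord] at h2 ⊢
      exact arith_plus hq2 ee_eq_gcd hq h2 h3 h4
  · have hord : orderOf g = Fintype.card F - 1 := hog0.trans h1
    have hq' := hq
    simp only [Finset.mem_insert, Finset.mem_singleton, not_or] at hq'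
    apply normalizer_coatom_core p htg hog0.symm
    · rw [hord]
      apply Nat.Coprime.symm
      rw [hp'.coprime_iff_not_dvd]
      intro h
      have h1 : p ∣ (Fintype.card F - 1) + 1 := by
        rw [Nat.sub_add_cancel (by omega)]; exact hpq
      have := (Nat.dvd_add_right h).1 h1
      exact hp'.one_lt.ne' (Nat.dvd_one.1 this)
    · rw [hord]
      have h3 : 3 ≤ Fintype.card F := by omega
      have h4 : Fintype.card F + 1 ≤ Fintype.card F ^ 2 - 1 := by
        have : Fintype.card F * 3 ≤ Fintype.card F ^ 2 := by nlinarith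
        omega
      have h5 : 2 * (Fintype.card F - 1) < 2 * (Fintype.card F + 1) := by omega
      nlinarith
    · intro g' _ h2 h3 h4
      rw [hord] at h2 ⊢
      exact arith_minus hq2 ee_eq_gcd hq h2 h3 h4

end Cfsg.Agent.Lib.H41PG
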