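import Mathlib
import Cfsg.Agent.Lib.H41PGDefs
import Cfsg.Agent.Lib.H41PGTrK
import Cfsg.Agent.Lib.H41PGTorMaxK
import Cfsg.Agent.Lib.H41PGNNS

/-!
# Project PG, piece TorMaxE
-/

set_option autoImplicit false

namespace Cfsg.Agent.Lib.H41PG

open Matrix Cfsg.Agent.Lib.Helper46SL2 Cfsg.Agent.Lib.Helper41SL2 Cfsg.Agent.Lib.Helper41Dk
  Cfsg.Agent.Lib.Helper41Pair Cfsg.Agent.Lib.Helper41Lift

variable {E : Type*} [Field E]

local notation "SL2" => Matrix.SpecialLinearGroup (Fin 2)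
local notation "PSL2" => Matrix.ProjectiveSpecialLinearGroup (Fin 2)
local notation "PGL2" => Matrix.ProjGenLinGroup (Fin 2)

theorem NN_SLK_maxIn [Fintype E] {K : Subfield E} {q : ℕ} (hs : Setup E K q) {x : SL2 E}
    (hx : x ∈ SLK K) (ht : tr x ^ 2 ≠ 4)
    (h : (Nat.card (AA (SLK K) x) = q + 1 ∧ q ≠ 7 ∧ q ≠ 9) ∨
      (Nat.card (AA (SLK K) x) = q - 1 ∧ q ≠ 5 ∧ q ≠ 7 ∧ q ≠ 9 ∧ q ≠ 11)) :
    MaxIn (NN (SLK K) x) (SLK K) := by
  obtain ⟨x', rfl⟩ := exists_iota hx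
  have ht' := tr_iota_sq_ne.mp ht
  have := Fintype.ofFinite K
  have hq : Fintype.card K = q := by rw [← Nat.card_eq_fintype_card]; exact hs.cardK
  have h3 := hs.three
  rw [← map_centralizer, Subgroup.card_map_of_injective (iota_injective K)] at h
  rw [← map_normalizer ht']
  apply maxIn_SLK_of_coatom
  apply normalizer_coatom ht'
  rw [hq]
  rcases h with ⟨h1, h7, h9⟩ | ⟨h1, h5, h7, h9, h11⟩
  · left
    refine ⟨h1, ?_⟩
    simp only [Finset.mem_insert, Finset.mem_singleton, not_or]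
    exact ⟨by omega, h7, h9⟩
  · right
    refine ⟨h1, ?_⟩
    simp only [Finset.mem_insert, Finset.mem_singleton, not_or]
    exact ⟨by omega, by omega, h5, h7, h9, h11⟩

end Cfsg.Agent.Lib.H41PG
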