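import Mathlib
import Cfsg.Agent.Lib.H41PGNF
import Cfsg.Agent.Lib.H41PGBorMax
import Cfsg.Agent.Lib.H41PGTorMaxE
import Cfsg.Agent.Lib.H41PGA4MaxE
import Cfsg.Agent.Lib.H41PGSubMax

/-!
# Project PG: `G ⊓ S` is maximal in `S` (assembly for S5890)
-/

set_option autoImplicit false

namespace Cfsg.Agent.Lib.H41PG

open Matrix Cfsg.Agent.Lib.Helper46SL2 Cfsg.Agent.Lib.Helper41SL2 Cfsg.Agent.Lib.Helper41Dk
  Cfsg.Agent.Lib.Helper41Pair Cfsg.Agent.Lib.Helper41Lift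

variable {E : Type*} [Field E]

local notation "SL2" => Matrix.SpecialLinearGroup (Fin 2)
local notation "PSL2" => Matrix.ProjectiveSpecialLinearGroup (Fin 2)
local notation "PGL2" => Matrix.ProjGenLinGroup (Fin 2)

theorem inf_maxIn_of_NF [Fintype E] {K : Subfield E} {q : ℕ} (hs : Setup E K q)
    {G : Subgroup (SL2 E)} (hG : IsMax K G) (h : NF K q G) (h7 : q ≠ 7) (h9 : q ≠ 9)
    (h11 : q ≠ 11) (h40 : q.Prime → q % 40 ∉ ({11, 19, 21, 29} : Finset ℕ)) :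
    MaxIn (G ⊓ SLK K) (SLK K) := by
  rcases h with h | ⟨x, hx, ht, h⟩ | ⟨h1, h2, h3, ⟨e⟩⟩ | ⟨K1, h1, h3, h, r, hr, -, hq⟩
  · have h2 : G ⊓ SLK K = Bor E ⊓ SLK K := by
      rw [h, inf_assoc, inf_eq_right.mpr (SLK_le_PK K)]
    rw [h2]
    exact Bor_maxIn K
  · have h2 : G ⊓ SLK K = NN (SLK K) x := by
      rw [h, NN, NN, inf_assoc, inf_eq_right.mpr (SLK_le_PK K)]
    rw [h2]
    apply NN_SLK_maxIn hs hx ht
    rcases card_AA_SLK hx ht with h5 | h5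
    · left; rw [h5, hs.cardK]; exact ⟨rfl, h7, h9⟩
    · right
      rw [hs.cardK] at h5
      refine ⟨h5, ?_, h7, h9, h11⟩
      rintro rfl
      exact five_false hs hG hx ht h h5
  · exact S4_inf_maxIn hs hG h1 h2 (h40 h1) h3 e
  · exact sub_inf_maxIn hs hG h1 h3 h hr hq

/-- the statement is invariant under the normalising automorphism -/
theorem inf_maxIn [Fintype E] {K : Subfield E} {q : ℕ} (hs : Setup E K q)
    {G : Subgroup (SL2 E)} (hG : IsMax K G) (h7 : q ≠ 7) (h9 : q ≠ 9)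
    (h11 : q ≠ 11) (h40 : q.Prime → q % 40 ∉ ({11, 19, 21, 29} : Finset ℕ)) :
    MaxIn (G ⊓ SLK K) (SLK K) := by
  obtain ⟨φ, hφ, hNF⟩ := normal_form hs hG
  have h1 := inf_maxIn_of_NF hs (hG.map hφ) hNF h7 h9 h11 h40
  have h2 : G.map φ.toMonoidHom ⊓ SLK K = (G ⊓ SLK K).map φ.toMonoidHom := by
    rw [Subgroup.map_inf _ _ _ φ.injective, hφ.2]
  rw [h2] at h1
  nth_rewrite 2 [← hφ.2] at h1
  exact (MaxIn.map_equiv φ).mp h1

end Cfsg.Agent.Lib.H41PG
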