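import Mathlib
import Cfsg.Agent.Lib.H41PGDefs

/-!
# Project PG, piece Theta
-/

set_option autoImplicit false

namespace Cfsg.Agent.Lib.H41PG

open Matrix Cfsg.Agent.Lib.Helper46SL2 Cfsg.Agent.Lib.Helper41SL2 Cfsg.Agent.Lib.Helper41Dk
  Cfsg.Agent.Lib.Helper41Pair Cfsg.Agent.Lib.Helper41Lift

variable {E : Type*} [Field E]

local notation "SL2" => Matrix.SpecialLinearGroup (Fin 2)
local notation "PSL2" => Matrix.ProjectiveSpecialLinearGroup (Fin 2)
local notation "PGL2" => Matrix.ProjGenLinGroup (Fin 2)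

theorem map_mk_toGL {F : Type*} [Field F] (ι : F →+* E) (s : SL2 F) :
    ProjGenLinGroup.map (n := Fin 2) ι (ProjGenLinGroup.mk (SpecialLinearGroup.toGL s)) =
      ProjectiveSpecialLinearGroup.toPGL (proj E (SpecialLinearGroup.map ι s)) := by
  change _ = ProjGenLinGroup.mk (SpecialLinearGroup.toGL (SpecialLinearGroup.map ι s))
  rw [ProjGenLinGroup.map_mk]
  congr 1
  apply Units.ext
  ext i j
  rfl

theorem exists_theta [Fintype E] {K : Subfield E} {q : ℕ} (hs : Setup E K q) {F : Type*} [Field F]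
    [Fintype F] (ε : F ≃+* K) :
    ∃ e : PKbar K ≃* PGL2 F, ∀ x : PKbar K,
      e x ∈ (Matrix.ProjGenLinGroup.mk.comp Matrix.SpecialLinearGroup.toGL :
        SL2 F →* PGL2 F).range ↔ (x : PSL2 E) ∈ (SLK K).map (proj E) := by
  have he : ee E = 2 := ee_eq_two hs.odd
  have h : Nat.card (PK K) = 2 * (Nat.card K * (Nat.card K ^ 2 - 1)) :=
    card_PK_of_even_deg hs.odd even_two (by rw [hs.cardK, hs.cardE])
  have : Finite (PGL2 E) := Finite.of_surjective _ ProjGenLinGroup.mk_surjective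
  let ι : F →+* E := K.subtype.comp ε.toRingHom
  have hι1 : ∀ x ∈ K, ∃ y, ι y = x := fun x hx => ⟨ε.symm ⟨x, hx⟩, by simp [ι]⟩
  have hι2 : ∀ y, ι y ∈ K := fun y => (ε y).2
  have hcard : Nat.card K = Fintype.card F := by
    rw [← Nat.card_eq_fintype_card]; exact (Nat.card_congr ε.toEquiv).symm
  have hj := ProjectiveSpecialLinearGroup.toPGL_injective (n := Fin 2) (R := E)
  have hφ := Cfsg.Agent.S0805.pgl_map_injective ι
  have hcm : Nat.card ((PKbar K).map ProjectiveSpecialLinearGroup.toPGL) = Nat.card (PKbar K) :=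
    Subgroup.card_map_of_injective hj
  have h4 : Nat.card (PKbar K) = Fintype.card F * (Fintype.card F ^ 2 - 1) := by
    have := card_PK K
    rw [he, h, hcard] at this
    omega
  have heq : (PKbar K).map ProjectiveSpecialLinearGroup.toPGL =
      (ProjGenLinGroup.map (n := Fin 2) ι).range := by
    apply Subgroup.eq_of_le_of_card_ge
    · rintro _ ⟨x, ⟨g, hg, rfl⟩, rfl⟩
      exact toPGL_mem_range_of_mem_PK ι hι1 hg
    · rw [hcm, h4, ← Cfsg.Agent.S0805.card_PGL_two]
      exact le_of_eq (Nat.card_congr (MonoidHom.ofInjective hφ).toEquiv).symm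
  let e : PKbar K ≃* PGL2 F := ((PKbar K).equivMapOfInjective _ hj).trans
    ((MulEquiv.subgroupCongr heq).trans (MonoidHom.ofInjective hφ).symm)
  have hcomp : ∀ x : PKbar K, ProjGenLinGroup.map (n := Fin 2) ι (e x) =
      ProjectiveSpecialLinearGroup.toPGL (x : PSL2 E) := by
    intro x
    have h5 := (MonoidHom.ofInjective hφ).apply_symm_apply
      ((MulEquiv.subgroupCongr heq) ((PKbar K).equivMapOfInjective _ hj x))
    exact congrArg Subtype.val h5
  refine ⟨e, fun x => ?_⟩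
  constructor
  · rintro ⟨s, hs'⟩
    have h5 := hcomp x
    rw [← hs'] at h5
    change ProjGenLinGroup.map (n := Fin 2) ι (ProjGenLinGroup.mk (SpecialLinearGroup.toGL s)) = _
      at h5
    rw [map_mk_toGL] at h5
    have h6 := hj h5
    rw [← h6]
    exact ⟨_, ⟨hι2 _, hι2 _, hι2 _, hι2 _⟩, rfl⟩
  · rintro ⟨g, ⟨h0, h1, h2, h3⟩, hgx⟩
    have hdet : ε.symm ⟨_, h0⟩ * ε.symm ⟨_, h3⟩ - ε.symm ⟨_, h1⟩ * ε.symm ⟨_, h2⟩ = 1 := by
      apply ε.injective
      simp only [map_sub, map_mul, RingEquiv.apply_symm_apply, map_one]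
      exact Subtype.ext (det2 g)
    refine ⟨mk2 _ _ _ _ hdet, ?_⟩
    apply hφ
    rw [hcomp x, ← hgx]
    change ProjGenLinGroup.map (n := Fin 2) ι (ProjGenLinGroup.mk (SpecialLinearGroup.toGL _)) = _
    rw [map_mk_toGL]
    congr 2
    apply ext2
    · change ((ε (ε.symm ⟨_, h0⟩) : K) : E) = _; rw [RingEquiv.apply_symm_apply]
    · change ((ε (ε.symm ⟨_, h1⟩) : K) : E) = _; rw [RingEquiv.apply_symm_apply]
    · change ((ε (ε.symm ⟨_, h2⟩) : K) : E) = _; rw [RingEquiv.apply_symm_apply]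
    · change ((ε (ε.symm ⟨_, h3⟩) : K) : E) = _; rw [RingEquiv.apply_symm_apply]

end Cfsg.Agent.Lib.H41PG
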