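import Mathlib

/-!
# Vocabulary for S3501 (unique class of derangements iff sharply 2-transitive)
-/

set_option autoImplicit false

namespace Cfsg.Agent.Lib.H42DcDefs

/-- `g` is a derangement of `Ω`. -/
def IsDer {G : Type*} [Group G] (Ω : Type*) [MulAction G Ω] (g : G) : Prop :=
  ∀ ω : Ω, g • ω ≠ ω

/-- Derangements exist and any two of them are conjugate. -/
def OneClass (G : Type*) [Group G] (Ω : Type*) [MulAction G Ω] : Prop :=
  (∃ g : G, IsDer Ω g) ∧ ∀ g h : G, IsDer Ω g → IsDer Ω h → ∃ c : G, c * g * c⁻¹ = h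

/-- No non-identity element fixes two points. -/
def Sharp (G : Type*) [Group G] (Ω : Type*) [MulAction G Ω] : Prop :=
  ∀ g : G, g ≠ 1 → ∀ a b : Ω, a ≠ b → g • a = a → g • b ≠ b

/-- The subgroup `N` is transitive on `Ω`. -/
def TransOn {G : Type*} [Group G] (Ω : Type*) [MulAction G Ω] (N : Subgroup G) : Prop :=
  ∀ a b : Ω, ∃ n ∈ N, n • a = b

/-- The subgroup `Y` is semiregular on `Ω`. -/
def SemiReg {G : Type*} [Group G] (Ω : Type*) [MulAction G Ω] (Y : Subgroup G) : Prop :=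
  ∀ y ∈ Y, ∀ ω : Ω, y • ω = ω → y = 1

/-- `A` and `B` commute elementwise. -/
def Comm {G : Type*} [Group G] (A B : Subgroup G) : Prop :=
  ∀ a ∈ A, ∀ b ∈ B, a * b = b * a

/-- `N` normalises `T`. -/
def NInv {G : Type*} [Group G] (N T : Subgroup G) : Prop :=
  ∀ n ∈ N, ∀ t ∈ T, n * t * n⁻¹ ∈ T

/-- `T` is minimal among the nontrivial subgroups of `N` normalised by `N`. -/
def MinInv {G : Type*} [Group G] (N T : Subgroup G) : Prop :=
  T ≠ ⊥ ∧ T ≤ N ∧ NInv N T ∧ ∀ S : Subgroup G, S ≠ ⊥ → S ≤ T → NInv N S → S = T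

/-- `N` is a minimal normal subgroup of `G`. -/
def MinNormal {G : Type*} [Group G] (N : Subgroup G) : Prop :=
  N.Normal ∧ N ≠ ⊥ ∧ ∀ K : Subgroup G, K.Normal → K ≠ ⊥ → K ≤ N → K = N

/-- The conjugate subgroup `g T g⁻¹`. -/
def cj {G : Type*} [Group G] (g : G) (T : Subgroup G) : Subgroup G :=
  T.map (MulAut.conj g).toMonoidHom

theorem mem_cj {G : Type*} [Group G] (g : G) (T : Subgroup G) (x : G) :
    x ∈ cj g T ↔ ∃ t ∈ T, g * t * g⁻¹ = x := by
  simp [cj, Subgroup.mem_map]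

/-- `C_N(T)`. -/
def cen {G : Type*} [Group G] (N T : Subgroup G) : Subgroup G :=
  Subgroup.centralizer (T : Set G) ⊓ N

theorem mem_cen {G : Type*} [Group G] (N T : Subgroup G) (x : G) :
    x ∈ cen N T ↔ x ∈ N ∧ ∀ t ∈ T, t * x = x * t := by
  simp only [cen, Subgroup.mem_inf, Subgroup.mem_centralizer_iff, SetLike.mem_coe]
  tauto

end Cfsg.Agent.Lib.H42DcDefs
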