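import Mathlib
import Cfsg.Agent.Lib.H42DcDefs

set_option autoImplicit false

namespace Cfsg.Agent.Lib.H42DcCard

open Cfsg.Agent.Lib.H42DcDefs

theorem card_iff {G : Type*} [Group G] {Ω : Type*} [MulAction G Ω] :
    Nat.card {c : ConjClasses G // ∃ g : G, ConjClasses.mk g = c ∧ ∀ ω : Ω, g • ω ≠ ω} = 1 ↔
      OneClass G Ω := by
  rw [Nat.card_eq_one_iff_unique]
  constructor
  · rintro ⟨hsub, ⟨⟨c, g, hg, hd⟩⟩⟩
    refine ⟨⟨g, hd⟩, ?_⟩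
    intro a b ha hb
    have h := @Subsingleton.elim _ hsub
      (⟨ConjClasses.mk a, a, rfl, ha⟩ : {c : ConjClasses G // ∃ g : G, ConjClasses.mk g = c ∧ ∀ ω : Ω, g • ω ≠ ω})
      ⟨ConjClasses.mk b, b, rfl, hb⟩
    have h2 : ConjClasses.mk a = ConjClasses.mk b := congrArg Subtype.val h
    rw [ConjClasses.mk_eq_mk_iff_isConj, isConj_iff] at h2
    exact h2
  · rintro ⟨⟨g, hg⟩, hall⟩
    refine ⟨⟨?_⟩, ⟨⟨ConjClasses.mk g, g, rfl, hg⟩⟩⟩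
    rintro ⟨c, a, rfl, ha⟩ ⟨d, b, rfl, hb⟩
    apply Subtype.ext
    show ConjClasses.mk a = ConjClasses.mk b
    rw [ConjClasses.mk_eq_mk_iff_isConj, isConj_iff]
    exact hall a b ha hb

end Cfsg.Agent.Lib.H42DcCard
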