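import Mathlib
import Cfsg.Agent.Lib.H42DcDefs

set_option autoImplicit false

namespace Cfsg.Agent.Lib.H42DcCardDer

open Cfsg.Agent.Lib.H42DcDefs

theorem card_der {G : Type*} [Group G] [Finite G] {Ω : Type*} [Fintype Ω] [MulAction G Ω]
    (hΩ : 2 ≤ Fintype.card Ω) (htr : MulAction.IsPretransitive G Ω) (hs : Sharp G Ω) :
    Nat.card {g : G // IsDer Ω g} = Fintype.card Ω - 1 := by
  classical
  have := Fintype.ofFinite G
  set n := Fintype.card Ω with hn
  have hne : Nonempty Ω := by
    rw [← Fintype.card_pos_iff]; omega
  have hB := MulAction.sum_card_fixedBy_eq_card_orbits_mul_card_group G Ω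
  have horb : Fintype.card (Quotient (MulAction.orbitRel G Ω)) = 1 := by
    rw [Fintype.card_eq_one_iff]
    obtain ⟨ω⟩ := hne
    refine ⟨Quotient.mk'' ω, ?_⟩
    intro q
    induction q using Quotient.inductionOn' with
    | h a =>
      apply Quotient.sound'
      exact MulAction.exists_smul_eq G ω a
  rw [horb, one_mul] at hB
  -- value of each summand
  have hval : ∀ g : G, Fintype.card (MulAction.fixedBy Ω g) =
      (if g = 1 then n else 0) + (if g ≠ 1 ∧ ¬ IsDer Ω g then 1 else 0) := by
    intro g
    by_cases h1 : g = 1
    · subst h1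
      simp only [if_true, ne_eq, not_true_eq_false, false_and, if_false, add_zero]
      rw [hn]
      apply Fintype.card_congr
      exact ⟨fun x => x.1, fun x => ⟨x, by simp [MulAction.mem_fixedBy]⟩, fun _ => rfl, fun _ => rfl⟩
    · by_cases hd : IsDer Ω g
      · simp only [h1, if_false, ne_eq, not_false_eq_true, hd, not_true_eq_false, and_false, add_zero]
        rw [Fintype.card_eq_zero_iff]
        exact ⟨fun x => hd x.1 x.2⟩
      · simp only [h1, if_false, ne_eq, not_false_eq_true, hd, and_self, if_true, zero_add]
        rw [Fintype.card_eq_one_iff]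
        unfold IsDer at hd
        push Not at hd
        obtain ⟨ω, hω⟩ := hd
        refine ⟨⟨ω, hω⟩, ?_⟩
        rintro ⟨b, hb⟩
        apply Subtype.ext
        show b = ω
        by_contra hbω
        exact hs g h1 ω b (fun h => hbω h.symm) hω hb
  simp_rw [hval] at hB
  rw [Finset.sum_add_distrib] at hB
  simp only [Finset.sum_ite_eq', Finset.mem_univ, if_true] at hB
  rw [Finset.sum_boole] at hB
  -- partition of G
  have hpart : Fintype.card G = 1 + (Finset.univ.filter (fun g : G => g ≠ 1 ∧ ¬ IsDer Ω g)).card
      + (Finset.univ.filter (fun g : G => IsDer Ω g)).card := by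
    have h1 : (Finset.univ : Finset G) = {1} ∪ (Finset.univ.filter (fun g : G => g ≠ 1 ∧ ¬ IsDer Ω g))
        ∪ (Finset.univ.filter (fun g : G => IsDer Ω g)) := by
      ext g
      simp only [Finset.mem_univ, Finset.mem_union, Finset.mem_singleton, Finset.mem_filter, true_and,
        true_iff]
      tauto
    have hone : ¬ IsDer Ω (1 : G) := by
      intro h
      obtain ⟨ω⟩ := hne
      exact h ω (one_smul _ _)
    have hd1 : Disjoint ({1} : Finset G) (Finset.univ.filter (fun g : G => g ≠ 1 ∧ ¬ IsDer Ω g)) := by
      rw [Finset.disjoint_left]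
      intro g hg hg2
      simp only [Finset.mem_singleton] at hg
      simp only [Finset.mem_filter, Finset.mem_univ, true_and] at hg2
      exact hg2.1 hg
    have hd2 : Disjoint (({1} : Finset G) ∪ (Finset.univ.filter (fun g : G => g ≠ 1 ∧ ¬ IsDer Ω g)))
        (Finset.univ.filter (fun g : G => IsDer Ω g)) := by
      rw [Finset.disjoint_left]
      intro g hg hg2
      simp only [Finset.mem_union, Finset.mem_singleton, Finset.mem_filter, Finset.mem_univ,
        true_and] at hg hg2
      rcases hg with rfl | hg
      · exact hone hg2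
      · exact hg.2 hg2
    have h2 := congrArg Finset.card h1
    rw [Finset.card_union_of_disjoint hd2, Finset.card_union_of_disjoint hd1,
      Finset.card_singleton, Finset.card_univ] at h2
    exact h2
  have hcard : Nat.card {g : G // IsDer Ω g} = (Finset.univ.filter (fun g : G => IsDer Ω g)).card := by
    rw [Nat.card_eq_fintype_card, Fintype.card_subtype]
  rw [hcard]
  simp only [Nat.cast_id] at hB
  omega

end Cfsg.Agent.Lib.H42DcCardDer
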