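import Mathlib
import Cfsg.Agent.Lib.H42DcDefs

set_option autoImplicit false

namespace Cfsg.Agent.Lib.H42DcCardG

open Cfsg.Agent.Lib.H42DcDefs

theorem card_G {G : Type*} [Group G] [Finite G] {Ω : Type*} [Fintype Ω] [MulAction G Ω]
    (hΩ : 2 ≤ Fintype.card Ω) (h2 : MulAction.IsMultiplyPretransitive G Ω 2) (hs : Sharp G Ω) :
    Nat.card G = Fintype.card Ω * (Fintype.card Ω - 1) := by
  classical
  have h1 : 1 < Fintype.card Ω := by omega
  obtain ⟨a, b, hab⟩ := Fintype.one_lt_card_iff.mp h1
  have hx : Nonempty (Fin 2 ↪ Ω) := by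
    refine ⟨⟨![a, b], ?_⟩⟩
    intro i j hij
    fin_cases i <;> fin_cases j <;> simp_all
  obtain ⟨x⟩ := hx
  have hx01 : x 0 ≠ x 1 := by
    intro h
    have := x.injective h
    simp at this
  have hbij : Function.Bijective (fun g : G => g • x) := by
    constructor
    · intro g h hgh
      simp only at hgh
      by_contra hne
      have he : h⁻¹ * g ≠ 1 := by
        intro h1
        apply hne
        have := congrArg (fun z => h * z) h1
        simpa using this
      have h0 : g • x 0 = h • x 0 := by
        have := congrArg (fun e : Fin 2 ↪ Ω => e 0) hgh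
        simpa using this
      have h1 : g • x 1 = h • x 1 := by
        have := congrArg (fun e : Fin 2 ↪ Ω => e 1) hgh
        simpa using this
      refine hs _ he (x 0) (x 1) hx01 ?_ ?_
      · rw [mul_smul, h0, inv_smul_smul]
      · rw [mul_smul, h1, inv_smul_smul]
    · intro y
      exact MulAction.exists_smul_eq G x y
  rw [Nat.card_eq_of_bijective _ hbij, Nat.card_eq_fintype_card, Fintype.card_embedding_eq,
    Fintype.card_fin]
  simp [Nat.descFactorial]
  ring

end Cfsg.Agent.Lib.H42DcCardG
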