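import Mathlib
import Cfsg.Agent.Lib.H42DcDefs

set_option autoImplicit false

namespace Cfsg.Agent.Lib.H42DcCent

open Cfsg.Agent.Lib.H42DcDefs

theorem card_centralizer_le {G : Type*} [Group G] {Ω : Type*} [Fintype Ω] [MulAction G Ω]
    (hΩ : 2 ≤ Fintype.card Ω) (hs : Sharp G Ω) (x : G) (hx : IsDer Ω x) :
    Nat.card (Subgroup.centralizer ({x} : Set G)) ≤ Fintype.card Ω := by
  have hne : Nonempty Ω := by
    rw [← Fintype.card_pos_iff]; omega
  obtain ⟨ω⟩ := hne
  rw [← Nat.card_eq_fintype_card]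
  apply Nat.card_le_card_of_injective (fun c : Subgroup.centralizer ({x} : Set G) => (c : G) • ω)
  rintro ⟨c, hc⟩ ⟨d, hd⟩ h
  simp only at h
  rw [Subgroup.mem_centralizer_singleton_iff] at hc hd
  apply Subtype.ext
  show c = d
  by_contra hne
  have he : d⁻¹ * c ≠ 1 := by
    intro h1
    apply hne
    have := congrArg (fun z => d * z) h1
    simpa using this
  have h1 : (d⁻¹ * c) • ω = ω := by
    rw [mul_smul, h, inv_smul_smul]
  have hcomm : (d⁻¹ * c) * x = x * (d⁻¹ * c) := by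
    have hd' : d⁻¹ * x = x * d⁻¹ := by
      have : x = d * x * d⁻¹ := by rw [hd]; group
      calc d⁻¹ * x = d⁻¹ * (d * x * d⁻¹) := by rw [← this]
        _ = x * d⁻¹ := by group
    calc (d⁻¹ * c) * x = d⁻¹ * (c * x) := by group
      _ = d⁻¹ * (x * c) := by rw [hc]
      _ = (d⁻¹ * x) * c := by group
      _ = (x * d⁻¹) * c := by rw [hd']
      _ = x * (d⁻¹ * c) := by group
  have h2 : (d⁻¹ * c) • (x • ω) = x • ω := by
    rw [smul_smul, hcomm, mul_smul, h1]
  exact hs _ he ω (x • ω) (fun h => hx ω h.symm) h1 h2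

end Cfsg.Agent.Lib.H42DcCent
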