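import Mathlib
import Cfsg.Agent.Lib.H42DcDefs

set_option autoImplicit false

namespace Cfsg.Agent.Lib.H42DcConjMin

open Cfsg.Agent.Lib.H42DcDefs

theorem ninv_cj {G : Type*} [Group G] (N T : Subgroup G) (hN : N.Normal) (hT : NInv N T) (g : G) :
    NInv N (cj g T) := by
  intro n hn x hx
  obtain ⟨t, ht, rfl⟩ := (mem_cj g T x).1 hx
  refine (mem_cj g T _).2 ⟨(g⁻¹ * n * g) * t * (g⁻¹ * n * g)⁻¹, hT _ ?_ t ht, by group⟩
  have := hN.conj_mem n hn g⁻¹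
  simpa using this

theorem cj_ne_bot {G : Type*} [Group G] (T : Subgroup G) (hT : T ≠ ⊥) (g : G) : cj g T ≠ ⊥ := by
  intro h
  apply hT
  rw [Subgroup.eq_bot_iff_forall] at h ⊢
  intro t ht
  have := h (g * t * g⁻¹) ((mem_cj g T _).2 ⟨t, ht, rfl⟩)
  have h2 : t = g⁻¹ * (g * t * g⁻¹) * g := by group
  rw [h2, this]; group

/-- PIECE ConjMin.  A `G`-conjugate of a minimal `N`-invariant subgroup is one. -/
theorem minInv_cj {G : Type*} [Group G] (N T : Subgroup G) (hN : N.Normal) (hT : MinInv N T) (g : G) :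
    MinInv N (cj g T) := by
  obtain ⟨hT0, hTN, hTi, hTm⟩ := hT
  refine ⟨cj_ne_bot T hT0 g, ?_, ninv_cj N T hN hTi g, ?_⟩
  · intro x hx
    obtain ⟨t, ht, rfl⟩ := (mem_cj g T x).1 hx
    exact hN.conj_mem t (hTN ht) g
  · intro S hS hST hSi
    have h1 : cj g⁻¹ S ≤ T := by
      intro x hx
      obtain ⟨s, hs, rfl⟩ := (mem_cj g⁻¹ S x).1 hx
      obtain ⟨t, ht, rfl⟩ := (mem_cj g T s).1 (hST hs)
      have : g⁻¹ * (g * t * g⁻¹) * g⁻¹⁻¹ = t := by group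
      rw [this]; exact ht
    have h2 := hTm _ (cj_ne_bot S hS g⁻¹) h1 (ninv_cj N S hN hSi g⁻¹)
    apply le_antisymm hST
    intro x hx
    obtain ⟨t, ht, rfl⟩ := (mem_cj g T x).1 hx
    rw [← h2] at ht
    obtain ⟨s, hs, rfl⟩ := (mem_cj g⁻¹ S t).1 ht
    have : g * (g⁻¹ * s * g⁻¹⁻¹) * g⁻¹ = s := by group
    rw [this]; exact hs

end Cfsg.Agent.Lib.H42DcConjMin
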