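import Mathlib
import Cfsg.Agent.Lib.H42DcDefs

set_option autoImplicit false

namespace Cfsg.Agent.Lib.H42DcCount

open Cfsg.Agent.Lib.H42DcDefs

theorem oneClass_of_count {G : Type*} [Group G] [Finite G] {Ω : Type*} [Fintype Ω] [MulAction G Ω]
    (hΩ : 2 ≤ Fintype.card Ω)
    (hG : Nat.card G = Fintype.card Ω * (Fintype.card Ω - 1))
    (hder : Nat.card {g : G // IsDer Ω g} = Fintype.card Ω - 1)
    (hcen : ∀ x : G, IsDer Ω x → Nat.card (Subgroup.centralizer ({x} : Set G)) ≤ Fintype.card Ω) :
    OneClass G Ω := by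
  classical
  set n := Fintype.card Ω with hn
  have hex : ∃ g : G, IsDer Ω g := by
    have hpos : 0 < Nat.card {g : G // IsDer Ω g} := by omega
    obtain ⟨⟨g, hg⟩⟩ := (Nat.card_pos_iff.mp hpos).1
    exact ⟨g, hg⟩
  refine ⟨hex, ?_⟩
  intro x y hx hy
  -- the orbit of x under conjugation
  have horb : Nat.card (MulAction.orbit (ConjAct G) x) *
      Nat.card (MulAction.stabilizer (ConjAct G) x) = Nat.card (ConjAct G) := by
    have e := MulAction.orbitProdStabilizerEquivGroup (ConjAct G) x
    rw [← Nat.card_congr e, Nat.card_prod]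
  have hstab : Nat.card (MulAction.stabilizer (ConjAct G) x) =
      Nat.card (Subgroup.centralizer ({x} : Set G)) := by
    apply Nat.card_congr
    refine ⟨fun c => ⟨ConjAct.ofConjAct c.1, ?_⟩, fun c => ⟨ConjAct.toConjAct c.1, ?_⟩, ?_, ?_⟩
    · have h := c.2
      rw [MulAction.mem_stabilizer_iff, ConjAct.smul_def] at h
      rw [Subgroup.mem_centralizer_singleton_iff]
      calc ConjAct.ofConjAct c.1 * x
          = (ConjAct.ofConjAct c.1 * x * (ConjAct.ofConjAct c.1)⁻¹) * ConjAct.ofConjAct c.1 := by group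
        _ = x * ConjAct.ofConjAct c.1 := by rw [h]
    · have h := c.2
      rw [Subgroup.mem_centralizer_singleton_iff] at h
      rw [MulAction.mem_stabilizer_iff, ConjAct.smul_def]
      simp only [ConjAct.ofConjAct_toConjAct]
      rw [h]; group
    · intro c; rfl
    · intro c; rfl
  have hGc : Nat.card (ConjAct G) = Nat.card G := rfl
  have hsub : (MulAction.orbit (ConjAct G) x) ⊆ {g : G | IsDer Ω g} := by
    rintro _ ⟨c, rfl⟩
    intro ω hω
    simp only [ConjAct.smul_def] at hω
    apply hx ((ConjAct.ofConjAct c)⁻¹ • ω)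
    have := congrArg (fun z => (ConjAct.ofConjAct c)⁻¹ • z) hω
    simp only [mul_smul, inv_smul_smul] at this
    exact this
  have hK : n - 1 ≤ Nat.card (MulAction.orbit (ConjAct G) x) := by
    have h1 := hcen x hx
    rw [hstab, hGc, hG] at horb
    have h2 : n * (n - 1) ≤ Nat.card (MulAction.orbit (ConjAct G) x) * n := by
      rw [← horb]
      exact Nat.mul_le_mul_left _ h1
    have hnpos : 0 < n := by omega
    rw [mul_comm] at h2
    exact Nat.le_of_mul_le_mul_right h2 hnpos
  have heq : (MulAction.orbit (ConjAct G) x) = {g : G | IsDer Ω g} := by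
    apply Set.eq_of_subset_of_ncard_le hsub
    · rw [← Nat.card_coe_set_eq, ← Nat.card_coe_set_eq]
      have : Nat.card ({g : G | IsDer Ω g} : Set G) = n - 1 := hder
      rw [this]
      exact hK
  have hy' : y ∈ MulAction.orbit (ConjAct G) x := by
    rw [heq]; exact hy
  obtain ⟨c, hc⟩ := hy'
  refine ⟨ConjAct.ofConjAct c, ?_⟩
  simpa [ConjAct.smul_def] using hc

end Cfsg.Agent.Lib.H42DcCount
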