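import Mathlib
import Cfsg.Agent.Lib.H42DcDefs

set_option autoImplicit false

namespace Cfsg.Agent.Lib.H42DcDecomp

open Cfsg.Agent.Lib.H42DcDefs

/-- `N = T C_N(T)`. -/
theorem decomp {G : Type*} [Group G] (N T : Subgroup G) (hN : MinNormal N) (hT : MinInv N T)
    (hA : ∀ g : G, cj g T = T ∨ Comm T (cj g T)) :
    ∀ n ∈ N, ∃ t ∈ T, ∃ c ∈ cen N T, n = t * c := by
  classical
  obtain ⟨hNn, hN1, hNmin⟩ := hN
  obtain ⟨hT1, hTN, hinv, hmin⟩ := hT
  have hcomm : ∀ t ∈ T, ∀ c ∈ cen N T, t * c = c * t := fun t ht c hc =>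
    ((mem_cen N T c).mp hc).2 t ht
  let P : Subgroup G :=
    { carrier := {x | ∃ t ∈ T, ∃ c ∈ cen N T, x = t * c}
      one_mem' := ⟨1, T.one_mem, 1, (cen N T).one_mem, by simp⟩
      mul_mem' := by
        rintro _ _ ⟨t, ht, c, hc, rfl⟩ ⟨t', ht', c', hc', rfl⟩
        refine ⟨t * t', T.mul_mem ht ht', c * c', (cen N T).mul_mem hc hc', ?_⟩
        have := hcomm t' ht' c hc
        calc t * c * (t' * c') = t * (c * t') * c' := by simp only [mul_assoc]
          _ = t * (t' * c) * c' := by rw [this]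
          _ = _ := by simp only [mul_assoc]
      inv_mem' := by
        rintro _ ⟨t, ht, c, hc, rfl⟩
        refine ⟨t⁻¹, T.inv_mem ht, c⁻¹, (cen N T).inv_mem hc, ?_⟩
        rw [hcomm t ht c hc]; simp }
  have hle : Subgroup.normalClosure (T : Set G) ≤ P := by
    unfold Subgroup.normalClosure
    rw [Subgroup.closure_le]
    intro x hx
    rw [Group.mem_conjugatesOfSet_iff] at hx
    obtain ⟨t, ht, hconj⟩ := hx
    obtain ⟨g, hg⟩ := isConj_iff.mp hconj
    have hmem : x ∈ cj g T := (mem_cj g T x).mpr ⟨t, ht, hg⟩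
    rcases hA g with h | h
    · rw [h] at hmem
      exact ⟨x, hmem, 1, (cen N T).one_mem, by simp⟩
    · have hxN : x ∈ N := by rw [← hg]; exact hNn.conj_mem t (hTN ht) g
      exact ⟨1, T.one_mem, x, (mem_cen N T x).mpr ⟨hxN, fun s hs => h s hs x hmem⟩, by simp⟩
  have hcl : Subgroup.normalClosure (T : Set G) = N := by
    apply hNmin _ Subgroup.normalClosure_normal
    · intro h
      apply hT1
      rw [eq_bot_iff, ← h]
      exact Subgroup.subset_normalClosure
    · haveI := hNn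
      exact Subgroup.normalClosure_le_normal hTN
  intro n hn
  rw [← hcl] at hn
  exact hle hn

end Cfsg.Agent.Lib.H42DcDecomp
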