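import Mathlib
import Cfsg.Agent.Lib.H42DcDefs

set_option autoImplicit false

namespace Cfsg.Agent.Lib.H42DcExN

open Cfsg.Agent.Lib.H42DcDefs

theorem exists_minNormal {G : Type*} [Group G] [Finite G] [Nontrivial G] :
    ∃ N : Subgroup G, MinNormal N := by
  classical
  have hex : ∃ k : ℕ, ∃ N : Subgroup G, N.Normal ∧ N ≠ ⊥ ∧ Nat.card N = k :=
    ⟨_, ⊤, inferInstance, top_ne_bot, rfl⟩
  obtain ⟨N, hNn, hNb, hNc⟩ := Nat.find_spec hex
  refine ⟨N, hNn, hNb, ?_⟩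
  intro K hKn hKb hKN
  apply Subgroup.eq_of_le_of_card_ge hKN
  rw [hNc]
  exact Nat.find_min' hex ⟨K, hKn, hKb, rfl⟩

end Cfsg.Agent.Lib.H42DcExN
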