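import Mathlib
import Cfsg.Agent.Lib.H42DcDefs

set_option autoImplicit false

namespace Cfsg.Agent.Lib.H42DcExT

open Cfsg.Agent.Lib.H42DcDefs

theorem exists_minInv {G : Type*} [Group G] [Finite G] (N : Subgroup G) (hN : N ≠ ⊥) :
    ∃ T : Subgroup G, MinInv N T := by
  classical
  have hex : ∃ k : ℕ, ∃ T : Subgroup G, T ≠ ⊥ ∧ T ≤ N ∧ NInv N T ∧ Nat.card T = k :=
    ⟨_, N, hN, le_refl _, fun n hn t ht => N.mul_mem (N.mul_mem hn ht) (N.inv_mem hn), rfl⟩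
  obtain ⟨T, hTb, hTN, hTi, hTc⟩ := Nat.find_spec hex
  refine ⟨T, hTb, hTN, hTi, ?_⟩
  intro S hSb hST hSi
  apply Subgroup.eq_of_le_of_card_ge hST
  rw [hTc]
  exact Nat.find_min' hex ⟨S, hSb, hST.trans hTN, hSi, rfl⟩

end Cfsg.Agent.Lib.H42DcExT
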