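import Mathlib
import Cfsg.Agent.Lib.H42DcDefs
import Cfsg.Agent.Lib.Helper72Class
set_option autoImplicit false

namespace Cfsg.Agent.Lib.H42DcJordan

open Cfsg.Agent.Lib.H42DcDefs

theorem exists_der {G : Type*} [Group G] [Finite G] {Ω : Type*} [Fintype Ω] [MulAction G Ω]
    (hΩ : 2 ≤ Fintype.card Ω) (N : Subgroup G) (hN : TransOn Ω N) :
    ∃ g ∈ N, IsDer Ω g := by
  classical
  by_contra hcon
  push Not at hcon
  have h1 : 1 < Fintype.card Ω := by omega
  obtain ⟨α, β, hab⟩ := Fintype.one_lt_card_iff.mp h1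
  have htop : (MulAction.stabilizer ↥N α) = ⊤ := by
    apply Cfsg.Agent.Lib.Helper72Class.eq_top_of_conj_cover
    intro g
    have hg := hcon g.1 g.2
    unfold IsDer at hg
    push Not at hg
    obtain ⟨ω, hω⟩ := hg
    obtain ⟨n, hn, rfl⟩ := hN α ω
    refine ⟨(⟨n, hn⟩ : ↥N)⁻¹, ?_⟩
    rw [MulAction.mem_stabilizer_iff, Subgroup.smul_def]
    simp only [Subgroup.coe_mul, Subgroup.coe_inv, inv_inv, mul_smul]
    rw [hω, inv_smul_smul]
  obtain ⟨n, hn, hnα⟩ := hN α β
  have : (⟨n, hn⟩ : ↥N) ∈ MulAction.stabilizer ↥N α := by rw [htop]; trivial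
  rw [MulAction.mem_stabilizer_iff, Subgroup.smul_def] at this
  simp only at this
  exact hab (this.symm.trans hnα)

end Cfsg.Agent.Lib.H42DcJordan
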