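import Mathlib
import Cfsg.Agent.Lib.H42DcDefs

set_option autoImplicit false

namespace Cfsg.Agent.Lib.H42DcPG

open Cfsg.Agent.Lib.H42DcDefs

/-- PIECE PG.  If all derangements are conjugate, a nontrivial semiregular
subgroup `Y` is a `p`-group, so it has a nontrivial central element. -/
theorem exists_central {G : Type*} [Group G] [Finite G] {Ω : Type*} [MulAction G Ω]
    (h1 : OneClass G Ω) (Y : Subgroup G) (hY : Y ≠ ⊥) (hsr : SemiReg Ω Y) :
    ∃ z ∈ Y, z ≠ 1 ∧ ∀ y ∈ Y, y * z = z * y := by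
  obtain ⟨y0, hy0, hy01⟩ : ∃ y ∈ Y, y ≠ 1 := by
    by_contra hcon
    push Not at hcon
    exact hY ((Subgroup.eq_bot_iff_forall Y).2 hcon)
  have hder : ∀ y ∈ Y, y ≠ 1 → IsDer Ω y := fun y hy hy1 ω h => hy1 (hsr y hy ω h)
  have hord : ∀ y ∈ Y, y ≠ 1 → orderOf y = orderOf y0 := by
    intro y hy hy1
    obtain ⟨c, hc⟩ := h1.2 y0 y (hder y0 hy0 hy01) (hder y hy hy1)
    rw [← hc]
    have : c * y0 * c⁻¹ = MulAut.conj c y0 := by simp
    rw [this, MulEquiv.orderOf_eq]
  have hm1 : orderOf y0 ≠ 1 := by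
    rw [Ne, orderOf_eq_one_iff]; exact hy01
  obtain ⟨p, hp, hpm⟩ := Nat.exists_prime_and_dvd hm1
  have hm0 : orderOf y0 ≠ 0 := (orderOf_pos y0).ne'
  have hop : orderOf (y0 ^ (orderOf y0 / p)) = p := orderOf_pow_orderOf_div hm0 hpm
  have hmp : orderOf y0 = p := by
    have hne : y0 ^ (orderOf y0 / p) ≠ 1 := by
      intro h
      rw [h, orderOf_one] at hop
      exact hp.one_lt.ne hop
    rw [← hord _ (Y.pow_mem hy0 _) hne, hop]
  have : Fact p.Prime := ⟨hp⟩
  have hpg : IsPGroup p Y := by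
    intro g
    refine ⟨1, ?_⟩
    by_cases hg : (g : G) = 1
    · have : g = 1 := Subtype.ext hg
      rw [this, one_pow]
    · apply Subtype.ext
      have := hord g g.2 hg
      rw [hmp] at this
      rw [pow_one, Subgroup.coe_pow, ← this, pow_orderOf_eq_one]; rfl
  have : Nontrivial Y := (Subgroup.nontrivial_iff_ne_bot Y).2 hY
  have := hpg.center_nontrivial
  obtain ⟨z, hz⟩ := exists_ne (1 : Subgroup.center Y)
  refine ⟨((z : Y) : G), (z : Y).2, ?_, ?_⟩
  · intro h
    apply hz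
    apply Subtype.ext; apply Subtype.ext; exact h
  · intro y hy
    have := (Subgroup.mem_center_iff.1 z.2) ⟨y, hy⟩
    exact congrArg Subtype.val this

end Cfsg.Agent.Lib.H42DcPG
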