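import Mathlib
import Cfsg.Agent.Lib.H42DcDefs
import Cfsg.Agent.Lib.Helper72Class
set_option autoImplicit false

namespace Cfsg.Agent.Lib.H42DcRTop

open Cfsg.Agent.Lib.H42DcDefs

/-- Step (3a).  `C := cen N T ≠ ⊥`, `N = T C` transitive, `T ∩ C = 1`, all derangements
conjugate.  Then every `t ∈ T` has a partner `c ∈ C` with `t c` fixing `α`. -/
theorem partner {G : Type*} [Group G] [Finite G] {Ω : Type*} [MulAction G Ω]
    (h1 : OneClass G Ω) (N T : Subgroup G) (hN : N.Normal) (hTN : T ≤ N) (htr : TransOn Ω N)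
    (hdec : ∀ n ∈ N, ∃ t ∈ T, ∃ c ∈ cen N T, n = t * c)
    (hA : ∀ g : G, cj g T = T ∨ Comm T (cj g T))
    (hZ : T ⊓ cen N T = ⊥) (hC : cen N T ≠ ⊥) (α : Ω) :
    ∀ t ∈ T, ∃ c ∈ cen N T, (t * c) • α = α := by
  classical
  have hcomm : ∀ t ∈ T, ∀ c ∈ cen N T, t * c = c * t := fun t ht c hc =>
    ((mem_cen N T c).mp hc).2 t ht
  let R : Subgroup ↥T :=
    { carrier := {t | ∃ c ∈ cen N T, ((t : G) * c) • α = α}
      one_mem' := ⟨1, (cen N T).one_mem, by simp⟩
      mul_mem' := by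
        rintro a b ⟨c, hc, h⟩ ⟨c', hc', h'⟩
        refine ⟨c * c', (cen N T).mul_mem hc hc', ?_⟩
        have : ((a * b : ↥T) : G) * (c * c') = ((a : G) * c) * ((b : G) * c') := by
          have := hcomm b b.2 c hc
          calc ((a * b : ↥T) : G) * (c * c') = (a : G) * ((b : G) * c) * c' := by
                simp [mul_assoc]
            _ = (a : G) * (c * (b : G)) * c' := by rw [this]
            _ = _ := by simp [mul_assoc]
        rw [this, mul_smul, h', h]
      inv_mem' := by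
        rintro a ⟨c, hc, h⟩
        refine ⟨c⁻¹, (cen N T).inv_mem hc, ?_⟩
        have : ((a⁻¹ : ↥T) : G) * c⁻¹ = ((a : G) * c)⁻¹ := by
          rw [hcomm a a.2 c hc]; simp
        rw [this, inv_smul_eq_iff, h] }
  have hRtop : R = ⊤ := by
    apply Cfsg.Agent.Lib.Helper72Class.eq_top_of_conj_cover
    by_contra hcon
    push_neg at hcon
    obtain ⟨x, hx⟩ := hcon
    have hx1 : (x : G) ≠ 1 := by
      intro h
      apply hx 1
      have : x = 1 := Subtype.ext h
      rw [this]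
      simpa using R.one_mem
    have hder : ∀ c ∈ cen N T, IsDer Ω ((x : G) * c) := by
      intro c hc ω hω
      obtain ⟨n, hn, rfl⟩ := htr α ω
      obtain ⟨t0, ht0, c0, hc0, rfl⟩ := hdec n hn
      apply hx (⟨t0, ht0⟩⁻¹)
      refine ⟨c0⁻¹ * c * c0, (cen N T).mul_mem ((cen N T).mul_mem ((cen N T).inv_mem hc0) hc) hc0, ?_⟩
      have e : (((⟨t0, ht0⟩ : ↥T)⁻¹ * x * (⟨t0, ht0⟩ : ↥T)⁻¹⁻¹ : ↥T) : G) * (c0⁻¹ * c * c0)
          = (t0 * c0)⁻¹ * ((x : G) * c) * (t0 * c0) := by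
        have e1 := hcomm t0 ht0 c0 hc0
        have e2 := hcomm x x.2 c0⁻¹ ((cen N T).inv_mem hc0)
        have e3 := hcomm t0 ht0 c hc
        have e4 := hcomm t0 ht0 c0⁻¹ ((cen N T).inv_mem hc0)
        simp only [Subgroup.coe_mul, Subgroup.coe_inv, inv_inv, mul_inv_rev]
        calc t0⁻¹ * (x : G) * t0 * (c0⁻¹ * c * c0)
            = t0⁻¹ * (x : G) * (t0 * c0⁻¹) * c * c0 := by simp only [mul_assoc]
          _ = t0⁻¹ * ((x : G) * c0⁻¹) * (t0 * c) * c0 := by rw [e4]; simp only [mul_assoc]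
          _ = t0⁻¹ * (c0⁻¹ * (x : G)) * (c * t0) * c0 := by rw [e2, e3]
          _ = (t0⁻¹ * c0⁻¹) * ((x : G) * c) * (t0 * c0) := by simp only [mul_assoc]
          _ = c0⁻¹ * t0⁻¹ * ((x : G) * c) * (t0 * c0) := by
              have : t0⁻¹ * c0⁻¹ = c0⁻¹ * t0⁻¹ := by
                rw [← mul_inv_rev, ← mul_inv_rev, e1]
              rw [this]
      rw [e, mul_smul, mul_smul, hω, inv_smul_smul]
    obtain ⟨c, hc, hc1⟩ : ∃ c ∈ cen N T, c ≠ 1 := by
      by_contra h
      push_neg at h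
      exact hC ((Subgroup.eq_bot_iff_forall _).mpr h)
    have hdx : IsDer Ω (x : G) := by
      have := hder 1 (cen N T).one_mem
      rwa [mul_one] at this
    obtain ⟨g, hg⟩ := h1.2 _ _ hdx (hder c hc)
    have hmem : (x : G) * c ∈ cj g T := (mem_cj g T _).mpr ⟨x, x.2, hg⟩
    rcases hA g with h | h
    · rw [h] at hmem
      have hcT : c ∈ T := by
        have := T.mul_mem (T.inv_mem x.2) hmem
        rwa [inv_mul_cancel_left] at this
      have : c ∈ T ⊓ cen N T := ⟨hcT, hc⟩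
      rw [hZ] at this
      exact hc1 (Subgroup.mem_bot.mp this)
    · have hxcN : (x : G) * c ∈ N := N.mul_mem (hTN x.2) ((mem_cen N T c).mp hc).1
      have hxc : (x : G) * c ∈ cen N T :=
        (mem_cen N T _).mpr ⟨hxcN, fun t ht => h t ht _ hmem⟩
      have hxC : (x : G) ∈ cen N T := by
        have := (cen N T).mul_mem hxc ((cen N T).inv_mem hc)
        rwa [mul_inv_cancel_right] at this
      have : (x : G) ∈ T ⊓ cen N T := ⟨x.2, hxC⟩
      rw [hZ] at this
      exact hx1 (Subgroup.mem_bot.mp this)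
  intro t ht
  have : (⟨t, ht⟩ : ↥T) ∈ R := by rw [hRtop]; trivial
  exact this

end Cfsg.Agent.Lib.H42DcRTop
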