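import Mathlib
import Cfsg.Agent.Lib.H42DcDefs

set_option autoImplicit false

namespace Cfsg.Agent.Lib.H42DcSemi

open Cfsg.Agent.Lib.H42DcDefs

theorem semireg_of_comm {G : Type*} [Group G] {Ω : Type*} [MulAction G Ω] [FaithfulSMul G Ω]
    (K Y : Subgroup G) (hK : TransOn Ω K) (hc : Comm K Y) : SemiReg Ω Y := by
  intro y hy ω hω
  apply FaithfulSMul.eq_of_smul_eq_smul (α := Ω)
  intro ω'
  obtain ⟨k, hk, rfl⟩ := hK ω ω'
  rw [one_smul, smul_smul, ← hc k hk y hy, mul_smul, hω]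

end Cfsg.Agent.Lib.H42DcSemi
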