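import Mathlib
import Cfsg.Agent.Lib.H42DcDefs

set_option autoImplicit false

namespace Cfsg.Agent.Lib.H42DcSemiT

open Cfsg.Agent.Lib.H42DcDefs

/-- Step (3b).  If every `t ∈ T` has a partner `c ∈ C = cen N T` with `t c`
fixing `α`, then `T` is semiregular. -/
theorem semireg_T {G : Type*} [Group G] {Ω : Type*} [MulAction G Ω] [FaithfulSMul G Ω]
    (N T : Subgroup G) (hT : MinInv N T) (htr : TransOn Ω N)
    (hdec : ∀ n ∈ N, ∃ t ∈ T, ∃ c ∈ cen N T, n = t * c) (α : Ω)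
    (hR : ∀ t ∈ T, ∃ c ∈ cen N T, (t * c) • α = α) : SemiReg Ω T := by
  classical
  obtain ⟨hT1, hTN, hinv, hmin⟩ := hT
  have hcomm : ∀ t ∈ T, ∀ c ∈ cen N T, t * c = c * t := fun t ht c hc =>
    ((mem_cen N T c).mp hc).2 t ht
  -- conjugating `y ∈ T` by `t * c`
  have hconj : ∀ y ∈ T, ∀ t : G, ∀ c ∈ cen N T, (t * c) * y * (t * c)⁻¹ = t * y * t⁻¹ := by
    intro y hy t c hc
    have := hcomm y hy c hc
    calc (t * c) * y * (t * c)⁻¹ = t * (c * y) * c⁻¹ * t⁻¹ := by simp [mul_assoc]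
      _ = t * (y * c) * c⁻¹ * t⁻¹ := by rw [this]
      _ = t * y * t⁻¹ := by simp [mul_assoc]
  let S : Subgroup G := T ⊓ MulAction.stabilizer G α
  have hSinv : NInv N S := by
    intro n hn y hy
    refine ⟨hinv n hn y hy.1, ?_⟩
    obtain ⟨t, ht, c1, hc1, rfl⟩ := hdec n hn
    obtain ⟨c, hc, hfix⟩ := hR t ht
    rw [hconj y hy.1 t c1 hc1, ← hconj y hy.1 t c hc]
    have hy2 : y • α = α := hy.2
    show (t * c * y * (t * c)⁻¹) • α = α
    rw [mul_smul, mul_smul]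
    have : (t * c)⁻¹ • α = α := by rw [inv_smul_eq_iff, hfix]
    rw [this, hy2, hfix]
  have hSbot : S = ⊥ := by
    by_contra hS
    have hST : S = T := hmin S hS inf_le_left hSinv
    apply hT1
    rw [Subgroup.eq_bot_iff_forall]
    intro t ht
    apply FaithfulSMul.eq_of_smul_eq_smul (α := Ω)
    intro ω
    obtain ⟨n, hn, rfl⟩ := htr α ω
    have h1 : n⁻¹ * t * n⁻¹⁻¹ ∈ T := hinv n⁻¹ (N.inv_mem hn) t ht
    rw [← hST] at h1
    have h2 : (n⁻¹ * t * n⁻¹⁻¹) • α = α := h1.2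
    rw [inv_inv, mul_smul, mul_smul, inv_smul_eq_iff] at h2
    rw [h2, one_smul]
  intro y hy ω hω
  obtain ⟨n, hn, rfl⟩ := htr α ω
  have h1 : n⁻¹ * y * n⁻¹⁻¹ ∈ S := by
    refine ⟨hinv n⁻¹ (N.inv_mem hn) y hy, ?_⟩
    show (n⁻¹ * y * n⁻¹⁻¹) • α = α
    rw [inv_inv, mul_smul, mul_smul, hω, inv_smul_smul]
  rw [hSbot, Subgroup.mem_bot, inv_inv] at h1
  have : y = n * (n⁻¹ * y * n) * n⁻¹ := by group
  rw [this, h1]; simp

end Cfsg.Agent.Lib.H42DcSemiT
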