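import Mathlib
import Cfsg.Agent.Lib.H42DcDefs

set_option autoImplicit false

namespace Cfsg.Agent.Lib.H42DcSharp

open Cfsg.Agent.Lib.H42DcDefs

/-- `N` normal, regular, containing all derangements.  Then no non-identity element fixes two
points. -/
theorem sharp_of {G : Type*} [Group G] [Finite G] {Ω : Type*} [MulAction G Ω]
    (N : Subgroup G) (hN : N.Normal) (htr : TransOn Ω N) (hsr : SemiReg Ω N)
    (hD : ∀ g : G, IsDer Ω g → g ∈ N) : Sharp G Ω := by
  classical
  intro g hg1 a b hab hga hgb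
  have hgN : g ∉ N := fun h => hg1 (hsr g h a hga)
  have hginv : g⁻¹ • a = a := by rw [inv_smul_eq_iff, hga]
  have reg : ∀ u ∈ N, ∀ v ∈ N, u • a = v • a → u = v := by
    intro u hu v hv h
    have : v⁻¹ * u = 1 := hsr _ (N.mul_mem (N.inv_mem hv) hu) a (by
      rw [mul_smul, h, inv_smul_smul])
    exact (inv_mul_eq_one.mp this).symm
  obtain ⟨x, hx, hxa⟩ := htr a b
  have hx1 : x ≠ 1 := by
    rintro rfl
    exact hab (by rw [← hxa, one_smul])
  have hgx : g * x * g⁻¹ = x := by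
    apply reg _ (hN.conj_mem x hx g) _ hx
    rw [mul_smul, mul_smul, hginv, hxa, hgb]
  let φ : ↥N → ↥N := fun y => ⟨g⁻¹ * y * g * (y : G)⁻¹, by
    have h1 : g⁻¹ * y * g⁻¹⁻¹ ∈ N := hN.conj_mem y y.2 g⁻¹
    rw [inv_inv] at h1
    exact N.mul_mem h1 (N.inv_mem y.2)⟩
  have hsurj : Function.Surjective φ := by
    intro w
    have hgw : g * w ∉ N := by
      intro h
      apply hgN
      have := N.mul_mem h (N.inv_mem w.2)
      rwa [mul_inv_cancel_right] at this
    have hnd : ¬ IsDer Ω (g * (w : G)) := fun h => hgw (hD _ h)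
    unfold IsDer at hnd
    push_neg at hnd
    obtain ⟨ω, hω⟩ := hnd
    obtain ⟨y, hy, rfl⟩ := htr a ω
    have h1 : g * ((w : G) * y) * g⁻¹ = y := by
      apply reg _ (hN.conj_mem _ (N.mul_mem w.2 hy) g) _ hy
      rw [mul_smul, mul_smul, hginv, mul_smul, ← mul_smul g, hω]
    refine ⟨⟨y, hy⟩, Subtype.ext ?_⟩
    show g⁻¹ * y * g * y⁻¹ = w
    have h2 : g⁻¹ * y * g = (w : G) * y := by
      conv_lhs => rw [← h1]
      group
    rw [h2]; group
  have hinj : Function.Injective φ := Finite.injective_iff_surjective.mpr hsurj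
  have h1 : φ ⟨x, hx⟩ = φ 1 := by
    apply Subtype.ext
    show g⁻¹ * x * g * x⁻¹ = g⁻¹ * (1 : G) * g * (1 : G)⁻¹
    have : g⁻¹ * x * g = x := by
      conv_lhs => rw [← hgx]
      group
    rw [this]; simp
  have := hinj h1
  exact hx1 (congrArg Subtype.val this)

end Cfsg.Agent.Lib.H42DcSharp
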