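import Mathlib
import Cfsg.Agent.Lib.H42DcDefs

set_option autoImplicit false

namespace Cfsg.Agent.Lib.H42DcSimple

open Cfsg.Agent.Lib.H42DcDefs

theorem simple_of_minInv {G : Type*} [Group G] (N : Subgroup G) (hN : MinInv N N) :
    IsSimpleGroup ↥N := by
  obtain ⟨hb, -, -, hmin⟩ := hN
  have hnt : Nontrivial ↥N := (Subgroup.nontrivial_iff_ne_bot N).mpr hb
  refine ⟨?_⟩
  intro K hK
  by_cases hKb : K = ⊥
  · exact Or.inl hKb
  · right
    have hS : K.map N.subtype = N := by
      apply hmin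
      · intro h
        apply hKb
        rw [Subgroup.map_eq_bot_iff_of_injective _ N.subtype_injective] at h
        exact h
      · exact Subgroup.map_subtype_le K
      · intro n hn t ht
        obtain ⟨k, hk, rfl⟩ := Subgroup.mem_map.mp ht
        refine Subgroup.mem_map.mpr ⟨⟨n, hn⟩ * k * ⟨n, hn⟩⁻¹, hK.conj_mem k hk ⟨n, hn⟩, ?_⟩
        simp
    rw [eq_top_iff]
    intro x _
    have hx : (x : G) ∈ K.map N.subtype := by rw [hS]; exact x.2
    obtain ⟨k, hk, hkx⟩ := Subgroup.mem_map.mp hx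
    have : k = x := Subtype.ext hkx
    rw [← this]; exact hk

end Cfsg.Agent.Lib.H42DcSimple
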