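import Mathlib
import Cfsg.Agent.Lib.H42DcDefs

set_option autoImplicit false

namespace Cfsg.Agent.Lib.H42DcTwo

open Cfsg.Agent.Lib.H42DcDefs

/-- PIECE Two.  Two minimal `N`-invariant subgroups are equal or commute elementwise. -/
theorem eq_or_comm {G : Type*} [Group G] (N T T' : Subgroup G) (hT : MinInv N T) (hT' : MinInv N T') :
    T' = T ∨ Comm T T' := by
  obtain ⟨hT0, hTN, hTi, hTm⟩ := hT
  obtain ⟨hT0', hTN', hTi', hTm'⟩ := hT'
  have hSi : NInv N (T ⊓ T') := by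
    intro n hn t ht
    exact ⟨hTi n hn t ht.1, hTi' n hn t ht.2⟩
  by_cases hS : T ⊓ T' = ⊥
  · right
    intro t ht s hs
    have h1 : t * s * t⁻¹ * s⁻¹ ∈ T' :=
      T'.mul_mem (hTi' t (hTN ht) s hs) (T'.inv_mem hs)
    have h2 : t * s * t⁻¹ * s⁻¹ ∈ T := by
      have : t * s * t⁻¹ * s⁻¹ = t * (s * t⁻¹ * s⁻¹) := by group
      rw [this]
      exact T.mul_mem ht (hTi s (hTN' hs) t⁻¹ (T.inv_mem ht))
    have h3 : t * s * t⁻¹ * s⁻¹ ∈ T ⊓ T' := ⟨h2, h1⟩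
    rw [hS, Subgroup.mem_bot] at h3
    have h4 : t * s = (t * s * t⁻¹ * s⁻¹) * (s * t) := by group
    rw [h4, h3, one_mul]
  · left
    have e1 := hTm _ hS inf_le_left hSi
    have e2 := hTm' _ hS inf_le_right hSi
    rw [← e2, e1]

end Cfsg.Agent.Lib.H42DcTwo
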