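import Mathlib
import Cfsg.Agent.Lib.H42DcDefs

set_option autoImplicit false

namespace Cfsg.Agent.Lib.H42DcTwoTr

open Cfsg.Agent.Lib.H42DcDefs

/-- PIECE TwoTr.  `N` abelian regular and all derangements conjugate: `G` is 2-transitive. -/
theorem two_trans {G : Type*} [Group G] {Ω : Type*} [MulAction G Ω]
    (h1 : OneClass G Ω) (N : Subgroup G) (hab : Comm N N) (htr : TransOn Ω N) (hsr : SemiReg Ω N) :
    MulAction.IsMultiplyPretransitive G Ω 2 := by
  rw [MulAction.is_two_pretransitive_iff]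
  intro a b c d hab' hcd
  obtain ⟨x, hx, hxa⟩ := htr a b
  obtain ⟨y, hy, hyc⟩ := htr c d
  have hx1 : x ≠ 1 := by
    rintro rfl
    exact hab' (by simpa using hxa)
  have hy1 : y ≠ 1 := by
    rintro rfl
    exact hcd (by simpa using hyc)
  have hxd : IsDer Ω x := fun ω h => hx1 (hsr x hx ω h)
  have hyd : IsDer Ω y := fun ω h => hy1 (hsr y hy ω h)
  obtain ⟨g, hg⟩ := h1.2 x y hxd hyd
  obtain ⟨m, hm, hmg⟩ := htr (g • a) c
  refine ⟨m * g, ?_, ?_⟩
  · rw [mul_smul, hmg]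
  · rw [← hxa, ← hyc, ← hmg, ← mul_smul, ← mul_smul, ← mul_smul]
    congr 1
    rw [← hab m hm y hy, ← hg]
    group

end Cfsg.Agent.Lib.H42DcTwoTr
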