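import Mathlib
import Cfsg.Agent.Lib.H42DcDefs

set_option autoImplicit false

namespace Cfsg.Agent.Lib.H42DcZT

open Cfsg.Agent.Lib.H42DcDefs

/-- `Z(T) = 1` if the minimal normal subgroup `N` is not abelian. -/
theorem center_trivial {G : Type*} [Group G] (N T : Subgroup G) (hN : MinNormal N) (hnab : ¬ Comm N N)
    (hT : MinInv N T) (hdec : ∀ n ∈ N, ∃ t ∈ T, ∃ c ∈ cen N T, n = t * c) :
    T ⊓ cen N T = ⊥ := by
  classical
  obtain ⟨hNn, hN1, hNmin⟩ := hN
  obtain ⟨hT1, hTN, hinv, hmin⟩ := hT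
  by_contra hZ
  have hZinv : NInv N (T ⊓ cen N T) := by
    intro n hn z hz
    refine ⟨hinv n hn z hz.1, (mem_cen N T _).mpr ⟨?_, ?_⟩⟩
    · exact N.mul_mem (N.mul_mem hn (hTN hz.1)) (N.inv_mem hn)
    · intro t ht
      have h1 : n⁻¹ * t * n⁻¹⁻¹ ∈ T := hinv n⁻¹ (N.inv_mem hn) t ht
      have h2 := ((mem_cen N T z).mp hz.2).2 _ h1
      rw [inv_inv] at h2
      calc t * (n * z * n⁻¹) = n * ((n⁻¹ * t * n) * z) * n⁻¹ := by group
        _ = n * (z * (n⁻¹ * t * n)) * n⁻¹ := by rw [h2]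
        _ = n * z * n⁻¹ * t := by group
  have hZT : T ⊓ cen N T = T := hmin _ hZ inf_le_left hZinv
  have hTab : ∀ s ∈ T, ∀ t ∈ T, t * s = s * t := by
    intro s hs t ht
    rw [← hZT] at hs
    exact ((mem_cen N T s).mp hs.2).2 t ht
  have hTcen : ∀ s ∈ T, ∀ n ∈ N, n * s = s * n := by
    intro s hs n hn
    obtain ⟨t, ht, c, hc, rfl⟩ := hdec n hn
    have h1 := hTab s hs t ht
    have h2 := ((mem_cen N T c).mp hc).2 s hs
    calc t * c * s = t * (c * s) := by rw [mul_assoc]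
      _ = t * (s * c) := by rw [h2]
      _ = (t * s) * c := by rw [mul_assoc]
      _ = s * t * c := by rw [h1]
      _ = s * (t * c) := by rw [mul_assoc]
  let K : Subgroup G := N ⊓ Subgroup.centralizer (N : Set G)
  have hKn : K.Normal := by
    haveI := hNn
    infer_instance
  have hTK : T ≤ K := by
    intro s hs
    refine ⟨hTN hs, ?_⟩
    exact Subgroup.mem_centralizer_iff.mpr (fun n hn => hTcen s hs n hn)
  have hK1 : K ≠ ⊥ := by
    intro h
    apply hT1
    rw [eq_bot_iff, ← h]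
    exact hTK
  have hKN : K = N := hNmin K hKn hK1 inf_le_left
  apply hnab
  intro a ha b hb
  rw [← hKN] at hb
  exact (Subgroup.mem_centralizer_iff.mp hb.2) a ha

end Cfsg.Agent.Lib.H42DcZT
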