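import Cfsg.Agent.Lib.Helper43StDefs

set_option autoImplicit false

/-! Project 43, wave 2, piece `tri3`. -/

namespace Cfsg.Agent.Lib.Helper36BPTri3

open Matrix Cfsg.Agent.Lib.Helper43St Cfsg.Agent.Lib.Helper43P3

variable {n : ℕ} {F : Type*} [Field F] {P : Type*} [Group P] (S : StSys n F P)

theorem tri3 (i j k : Fin n) (hij : i ≠ j) (hik : i ≠ k) (hjk : j ≠ k) :
    ∃ f : SpecialLinearGroup (Fin 3) F →* P,
      (∀ t, f (tv 0 1 t) = S.x i j t) ∧ (∀ t, f (tv 1 0 t) = S.x j i t) ∧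
      (∀ t, f (tv 0 2 t) = S.x i k t) ∧ (∀ t, f (tv 2 0 t) = S.x k i t) ∧
      (∀ t, f (tv 1 2 t) = S.x j k t) ∧ (∀ t, f (tv 2 1 t) = S.x k j t) := by
  have hinj : Function.Injective (![i, j, k] : Fin 3 → Fin n) := by
    intro a b hab
    fin_cases a <;> fin_cases b <;> simp_all [eq_comm]
  obtain ⟨f, hf⟩ := S.tri ![i, j, k] hinj
  refine ⟨f, fun t => ?_, fun t => ?_, fun t => ?_, fun t => ?_, fun t => ?_, fun t => ?_⟩
  · exact hf 0 1 t (by decide)
  · exact hf 1 0 t (by decide)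
  · exact hf 0 2 t (by decide)
  · exact hf 2 0 t (by decide)
  · exact hf 1 2 t (by decide)
  · exact hf 2 1 t (by decide)

theorem exists_third (hn : 3 ≤ n) (i j : Fin n) : ∃ k : Fin n, i ≠ k ∧ j ≠ k := by
  by_contra hcon
  push Not at hcon
  have hsub : (Finset.univ : Finset (Fin n)) ⊆ {i, j} := by
    intro k _
    by_cases h : i = k
    · simp [h]
    · simp [hcon k h]
  have h1 := Finset.card_le_card hsub
  have h2 : ({i, j} : Finset (Fin n)).card ≤ 2 := Finset.card_le_two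
  rw [Finset.card_univ, Fintype.card_fin] at h1
  omega

end Cfsg.Agent.Lib.Helper36BPTri3
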