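import Mathlib
import Cfsg.Agent.Lib.Helper43GlDefs
import Cfsg.Agent.Lib.Helper36BPTri3

set_option autoImplicit false

/-! Vocabulary of project 2086 (helper42): lifting the Steinberg relations of `SL_n(F)` through a
central extension `σ : Γ → G` along a homomorphism `θ : SL_n(F) → G`. -/

namespace Cfsg.Agent.Lib.H42SMDefs

open scoped commutatorElement

/-- a central extension `σ : Γ → G` together with a homomorphism `θ : H → G`. -/
structure CE (H G Γ : Type*) [Group H] [Group G] [Group Γ] where
  θ : H →* G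
  σ : Γ →* G
  surj : Function.Surjective σ
  cen : σ.ker ≤ Subgroup.center Γ

namespace CE

variable {H G Γ : Type*} [Group H] [Group G] [Group Γ] (C : CE H G Γ)

/-- a chosen lift of `g : H` -/
noncomputable def lf (g : H) : Γ := Classical.choose (C.surj (C.θ g))

theorem σ_lf (g : H) : C.σ (C.lf g) = C.θ g := Classical.choose_spec (C.surj (C.θ g))

/-- the commutator of lifts of `g` and `h` (it does not depend on the lifts: `H42SMGen.cc_eq`) -/
noncomputable def cc (g h : H) : Γ := ⁅C.lf g, C.lf h⁆

/-- all lifts of `g` commute with all lifts of `h` -/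
def CL (g h : H) : Prop := ∀ y z : Γ, C.σ y = C.θ g → C.σ z = C.θ h → Commute y z

end CE

open Matrix Cfsg.Agent.Lib.Helper43St

/-- `SL_n(F)` -/
abbrev SLn (n : ℕ) (F : Type*) [Field F] := SpecialLinearGroup (Fin n) F

variable {n : ℕ} {F : Type*} [Field F] {G Γ : Type*} [Group G] [Group Γ]

/-- Step 1: lifts of commuting root elements commute. -/
def Good (C : CE (SLn n F) G Γ) : Prop :=
  ∀ i j k l : Fin n, i ≠ j → k ≠ l → i ≠ l → j ≠ k → ∀ s t : F, C.CL (tv i j s) (tv k l t)

/-- the weight of the index `k` on `hv i j a = diag(a at i, a⁻¹ at j)` -/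
def wt (i j : Fin n) (a : F) (k : Fin n) : F := if k = i then a else if k = j then a⁻¹ else 1

/-- a chosen third index -/
noncomputable def th (hn : 3 ≤ n) (i j : Fin n) : Fin n :=
  Classical.choose (Cfsg.Agent.Lib.Helper36BPTri3.exists_third hn i j)

theorem th_ne_left (hn : 3 ≤ n) (i j : Fin n) : i ≠ th hn i j :=
  (Classical.choose_spec (Cfsg.Agent.Lib.Helper36BPTri3.exists_third hn i j)).1

theorem th_ne_right (hn : 3 ≤ n) (i j : Fin n) : j ≠ th hn i j :=
  (Classical.choose_spec (Cfsg.Agent.Lib.Helper36BPTri3.exists_third hn i j)).2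

/-- the canonical lift of the root element `x_ij(t)` -/
noncomputable def sx (C : CE (SLn n F) G Γ) (hn : 3 ≤ n) (i j : Fin n) (t : F) : Γ :=
  C.cc (tv i (th hn i j) 1) (tv (th hn i j) j t)

end Cfsg.Agent.Lib.H42SMDefs
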