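import Cfsg.Agent.Lib.H42SMDefs

set_option autoImplicit false

/-! Project 2086, piece `Gen`: generic calculus of commutators of lifts in a central extension. -/

namespace Cfsg.Agent.Lib.H42SMGen

open scoped commutatorElement
open Cfsg.Agent.Lib.H42SMDefs

variable {H G Γ : Type*} [Group H] [Group G] [Group Γ] (C : CE H G Γ)

theorem ker_comm {z : Γ} (hz : C.σ z = 1) (y : Γ) : Commute z y := by
  have h := C.cen (MonoidHom.mem_ker.2 hz)
  exact (Subgroup.mem_center_iff.1 h y).symm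

theorem exists_ker {y y' : Γ} (h : C.σ y = C.σ y') : ∃ c, C.σ c = 1 ∧ y = y' * c :=
  ⟨y'⁻¹ * y, by rw [map_mul, map_inv, h, inv_mul_cancel], by group⟩

theorem comm_congr {y y' z z' : Γ} (hy : C.σ y = C.σ y') (hz : C.σ z = C.σ z') :
    ⁅y, z⁆ = ⁅y', z'⁆ := by
  obtain ⟨c, hc, rfl⟩ := exists_ker C hy
  obtain ⟨d, hd, rfl⟩ := exists_ker C hz
  have c1 := fun x => (ker_comm C hc x).eq
  have d1 := fun x => (ker_comm C hd x).eq
  have c2 : ∀ x, c⁻¹ * x = x * c⁻¹ := fun x => ((ker_comm C hc x).inv_left).eq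
  have d2 : ∀ x, d⁻¹ * x = x * d⁻¹ := fun x => ((ker_comm C hd x).inv_left).eq
  rw [commutatorElement_def, commutatorElement_def, mul_inv_rev, mul_inv_rev]
  calc y' * c * (z' * d) * (c⁻¹ * y'⁻¹) * (d⁻¹ * z'⁻¹)
      = y' * (c * (z' * d * c⁻¹)) * y'⁻¹ * (d⁻¹ * z'⁻¹) := by group
    _ = y' * ((z' * d * c⁻¹) * c) * y'⁻¹ * (d⁻¹ * z'⁻¹) := by rw [c1]
    _ = y' * z' * (d * (y'⁻¹ * d⁻¹)) * z'⁻¹ := by group
    _ = y' * z' * ((y'⁻¹ * d⁻¹) * d) * z'⁻¹ := by rw [d1]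
    _ = y' * z' * y'⁻¹ * z'⁻¹ := by group

theorem cc_eq {g h : H} {y z : Γ} (hy : C.σ y = C.θ g) (hz : C.σ z = C.θ h) :
    ⁅y, z⁆ = C.cc g h :=
  comm_congr C (hy.trans (C.σ_lf g).symm) (hz.trans (C.σ_lf h).symm)

theorem σ_cc (g h : H) : C.σ (C.cc g h) = C.θ ⁅g, h⁆ := by
  unfold CE.cc
  rw [map_commutatorElement, map_commutatorElement, C.σ_lf, C.σ_lf]

theorem CL.symm {g h : H} (hh : C.CL g h) : C.CL h g := fun y z hy hz => (hh z y hz hy).symm

theorem CL_iff {g h : H} : C.CL g h ↔ C.cc g h = 1 := by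
  constructor
  · intro hh
    exact commutatorElement_eq_one_iff_commute.2 (hh _ _ (C.σ_lf g) (C.σ_lf h))
  · intro hh y z hy hz
    rw [← commutatorElement_eq_one_iff_commute, cc_eq C hy hz, hh]

theorem CL_one_right (g : H) : C.CL g 1 := fun y z _ hz =>
  (ker_comm C (by rw [hz, map_one]) y).symm

theorem cc_conj (x g h : H) :
    C.cc (x * g * x⁻¹) (x * h * x⁻¹) = C.lf x * C.cc g h * (C.lf x)⁻¹ := by
  rw [← cc_eq C (y := C.lf x * C.lf g * (C.lf x)⁻¹) (z := C.lf x * C.lf h * (C.lf x)⁻¹)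
    (by simp [C.σ_lf]) (by simp [C.σ_lf])]
  unfold CE.cc
  simp only [commutatorElement_def]
  group

/-- Milnor's lemma: if `w` commutes with `g` and `h`, every lift of `w` commutes with every lift
of `⁅g, h⁆`. -/
theorem milnor {w g h : H} (h1 : Commute w g) (h2 : Commute w h) : C.CL w ⁅g, h⁆ := by
  intro y z hy hz
  have e1 : C.σ (y * C.lf g * y⁻¹) = C.θ g := by
    rw [map_mul, map_mul, map_inv, hy, C.σ_lf, ← map_mul, ← map_inv, ← map_mul]
    congr 1
    rw [h1.eq]; group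
  have e2 : C.σ (y * C.lf h * y⁻¹) = C.θ h := by
    rw [map_mul, map_mul, map_inv, hy, C.σ_lf, ← map_mul, ← map_inv, ← map_mul]
    congr 1
    rw [h2.eq]; group
  have e3 : y * C.cc g h * y⁻¹ = C.cc g h := by
    calc y * C.cc g h * y⁻¹ = ⁅y * C.lf g * y⁻¹, y * C.lf h * y⁻¹⁆ := by
          unfold CE.cc
          simp only [commutatorElement_def]
          group
      _ = C.cc g h := cc_eq C e1 e2
  have e4 : Commute y (C.cc g h) := by
    show y * C.cc g h = C.cc g h * y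
    calc y * C.cc g h = (y * C.cc g h * y⁻¹) * y := by group
      _ = C.cc g h * y := by rw [e3]
  obtain ⟨c, hc, rfl⟩ := exists_ker C (hz.trans (σ_cc C g h).symm)
  exact e4.mul_right (ker_comm C hc y).symm

theorem cc_swap (g h : H) : C.cc h g = (C.cc g h)⁻¹ := by
  unfold CE.cc
  rw [commutatorElement_inv]

theorem cc_mul_right {g h h' : H} (hcl : C.CL h ⁅g, h'⁆) :
    C.cc g (h * h') = C.cc g h * C.cc g h' := by
  rw [← cc_eq C (y := C.lf g) (z := C.lf h * C.lf h') (C.σ_lf g) (by simp [C.σ_lf])]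
  have hc : Commute (C.lf h) (C.cc g h') := hcl _ _ (C.σ_lf h) (σ_cc C g h')
  have : ⁅C.lf g, C.lf h * C.lf h'⁆ = ⁅C.lf g, C.lf h⁆ * (C.lf h * ⁅C.lf g, C.lf h'⁆ * (C.lf h)⁻¹) := by
    simp only [commutatorElement_def]; group
  rw [this]
  have h3 : C.lf h * ⁅C.lf g, C.lf h'⁆ * (C.lf h)⁻¹ = C.cc g h' := by
    show C.lf h * C.cc g h' * (C.lf h)⁻¹ = C.cc g h'
    rw [hc.eq]; group
  rw [h3]; rfl

theorem cc_mul_left {g g' h : H} (hcl : C.CL g ⁅g', h⁆) :
    C.cc (g * g') h = C.cc g' h * C.cc g h := by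
  rw [← cc_eq C (y := C.lf g * C.lf g') (z := C.lf h) (by simp [C.σ_lf]) (C.σ_lf h)]
  have hc : Commute (C.lf g) (C.cc g' h) := hcl _ _ (C.σ_lf g) (σ_cc C g' h)
  have : ⁅C.lf g * C.lf g', C.lf h⁆ = (C.lf g * ⁅C.lf g', C.lf h⁆ * (C.lf g)⁻¹) * ⁅C.lf g, C.lf h⁆ := by
    simp only [commutatorElement_def]; group
  rw [this]
  have h3 : C.lf g * ⁅C.lf g', C.lf h⁆ * (C.lf g)⁻¹ = C.cc g' h := by
    show C.lf g * C.cc g' h * (C.lf g)⁻¹ = C.cc g' h
    rw [hc.eq]; group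
  rw [h3]; rfl

/-- for commuting `g, h` the element `cc g h` lies in the (central) kernel -/
theorem σ_cc_of_commute {g h : H} (hgh : Commute g h) : C.σ (C.cc g h) = 1 := by
  rw [σ_cc, commutatorElement_eq_one_iff_commute.2 hgh, map_one]

theorem cc_conj_of_commute {g h : H} (hgh : Commute g h) (x : H) :
    C.cc (x * g * x⁻¹) (x * h * x⁻¹) = C.cc g h := by
  rw [cc_conj, ((ker_comm C (σ_cc_of_commute C hgh) (C.lf x)).symm).eq]
  group

theorem cc_mul_right_of_commute {g h h' : H} (h2 : Commute g h') :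
    C.cc g (h * h') = C.cc g h * C.cc g h' := by
  apply cc_mul_right
  rw [commutatorElement_eq_one_iff_commute.2 h2]
  exact CL_one_right C h

theorem cc_mul_left_of_commute {g g' h : H} (h2 : Commute g' h) :
    C.cc (g * g') h = C.cc g' h * C.cc g h := by
  apply cc_mul_left
  rw [commutatorElement_eq_one_iff_commute.2 h2]
  exact CL_one_right C g

end Cfsg.Agent.Lib.H42SMGen
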