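import Cfsg.Agent.Lib.H42SMGen

set_option autoImplicit false

/-! Project 2086, piece `HW`: the Hall-Witt type identity `[u,[v,w]] = [[u,v],w]`. -/

namespace Cfsg.Agent.Lib.H42SMHW

open scoped commutatorElement
open Cfsg.Agent.Lib.H42SMDefs Cfsg.Agent.Lib.H42SMGen

theorem hw {Γ : Type*} [Group Γ] {u v w : Γ} (h1 : Commute u w) (h2 : Commute ⁅u, v⁆ ⁅v, w⁆)
    (h3 : Commute ⁅v, w⁆ ⁅⁅u, v⁆, w⁆) : ⁅u, ⁅v, w⁆⁆ = ⁅⁅u, v⁆, w⁆ := by
  set p := ⁅u, v⁆ with hp
  set r := ⁅v, w⁆ with hr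
  set m := ⁅u, r⁆ with hm
  set m' := ⁅p, w⁆ with hm'
  have e1 : u * v = p * v * u := by rw [hp, commutatorElement_def]; group
  have e2 : v * w = r * w * v := by rw [hr, commutatorElement_def]; group
  have e3 : u * r = m * r * u := by rw [hm, commutatorElement_def]; group
  have e4 : w * p = m'⁻¹ * p * w := by rw [hm', commutatorElement_def]; group
  have A : u * v * w = p * r * w * v * u := by
    calc u * v * w = p * v * (u * w) := by rw [e1]; group
      _ = p * (v * w) * u := by rw [h1.eq]; group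
      _ = p * r * w * v * u := by rw [e2]; group
  have B : u * v * w = m * m'⁻¹ * (p * r * w * v * u) := by
    calc u * v * w = u * (v * w) := by group
      _ = (u * r) * w * v := by rw [e2]; group
      _ = m * r * (u * w) * v := by rw [e3]; group
      _ = m * r * w * (u * v) := by rw [h1.eq]; group
      _ = m * r * (w * p) * v * u := by rw [e1]; group
      _ = m * (r * m'⁻¹) * p * w * v * u := by rw [e4]; group
      _ = m * m'⁻¹ * (r * p) * w * v * u := by rw [(h3.inv_right).eq]; group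
      _ = m * m'⁻¹ * (p * r * w * v * u) := by rw [← h2.eq]; group
  have h5 : m * m'⁻¹ = 1 := by
    have := A.symm.trans B
    exact (mul_eq_right.1 this.symm)
  exact mul_inv_eq_one.1 h5

variable {H G Γ : Type*} [Group H] [Group G] [Group Γ] (C : CE H G Γ)

theorem cc_assoc {a b c : H} (h1 : C.CL a c) (h2 : C.CL ⁅a, b⁆ ⁅b, c⁆)
    (h3 : C.CL ⁅b, c⁆ ⁅⁅a, b⁆, c⁆) : C.cc a ⁅b, c⁆ = C.cc ⁅a, b⁆ c := by
  have hu := C.σ_lf a
  have hv := C.σ_lf b
  have hw' := C.σ_lf c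
  have hp : C.σ ⁅C.lf a, C.lf b⁆ = C.θ ⁅a, b⁆ := σ_cc C a b
  have hr : C.σ ⁅C.lf b, C.lf c⁆ = C.θ ⁅b, c⁆ := σ_cc C b c
  have hm : C.σ ⁅⁅C.lf a, C.lf b⁆, C.lf c⁆ = C.θ ⁅⁅a, b⁆, c⁆ := by
    rw [map_commutatorElement, hp, hw', ← map_commutatorElement]
  rw [← cc_eq C hu hr, ← cc_eq C hp hw']
  exact hw (h1 _ _ hu hw') (h2 _ _ hp hr) (h3 _ _ hr hm)

end Cfsg.Agent.Lib.H42SMHW
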