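import Cfsg.Prelude.Def_ChevE6
import Cfsg.Agent.Lib.Helper23Agr
import Cfsg.Agent.Lib.Helper23FastE6
import Cfsg.Agent.Lib.Helper23TabE6

set_option autoImplicit false
set_option maxRecDepth 1000000

/-! Agreement of the packed tables of type E6 with the datum, and the resulting order formulas,
conditional on the matrix relations `Rel`. -/

namespace Cfsg.Agent.Lib.Helper23AgrE6

open Cfsg.Lie Cfsg.Agent.Lib.Helper23Fast Cfsg.Agent.Lib.Helper23Agr Cfsg.Agent.Lib.Helper23FastE6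
open Cfsg.Agent.Lib.Helper23Diag Cfsg.Agent.Lib.Helper23Chev

theorem a1 : chevE6.nroots = P.n := by decide +kernel
theorem a2 : chevE6.rank = P.l := by decide +kernel
theorem a3 : ∀ i < P.l, chevE6.simple i = P.simp i := by decide +kernel
theorem a4 : ∀ i < P.l, ∀ r < P.n, chevE6.reflectRoot i r = P.refl i r := by decide +kernel
theorem a5 : ∀ r < P.n, chevE6.neg r = P.n - 1 - r := by decide +kernel
theorem a6 : ∀ i < P.l, ∀ r < P.n, chevE6.cartan i r = (P.pr r (P.simp i) : ℤ) - 8 := by decide +kernel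

theorem agr : Agr chevE6 P := ⟨a1, a2, a3, a4, a5, a6⟩

theorem c7 : chk7 P = true := by decide +kernel

theorem cartanRefl : CartanRefl chevE6 := Helper23Agr.cartanRefl valid agr c7

def U : Matrix (Fin chevE6.rank) (Fin chevE6.rank) ℤ := show Matrix (Fin 6) (Fin 6) ℤ from !![-1, 0, 0, 0, 0, 0; 0, -1, 0, 0, 0, 0; 1, -2, 0, -1, 0, 0; 2, -3, 0, -2, -1, 0; -2, 1, -1, 0, 0, 0; -5, 0, -4, -3, -2, -1]
def U' : Matrix (Fin chevE6.rank) (Fin chevE6.rank) ℤ := show Matrix (Fin 6) (Fin 6) ℤ from !![-1, 0, 0, 0, 0, 0; 0, -1, 0, 0, 0, 0; 2, -1, 0, 0, -1, 0; -1, 2, -1, 0, 0, 0; 0, -1, 2, -1, 0, 0; 0, 0, -1, 2, 4, -1]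
def V : Matrix (Fin chevE6.rank) (Fin chevE6.rank) ℤ := show Matrix (Fin 6) (Fin 6) ℤ from !![0, 0, 0, 0, 1, -2; 0, 0, 0, 0, 2, -3; 1, 0, 0, 0, 2, -4; 0, 1, 0, 0, 4, -6; 0, 0, 1, 0, 4, -5; 0, 0, 0, 1, 4, -4]
def V' : Matrix (Fin chevE6.rank) (Fin chevE6.rank) ℤ := show Matrix (Fin 6) (Fin 6) ℤ from !![-2, 0, 1, 0, 0, 0; 0, -2, 0, 1, 0, 0; 2, -3, 0, 0, 1, 0; 4, -4, 0, 0, 0, 1; -3, 2, 0, 0, 0, 0; -2, 1, 0, 0, 0, 0]
def d : Fin chevE6.rank → ℕ := show Fin 6 → ℕ from ![1, 1, 1, 1, 1, 3]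

theorem hU : U * U' = 1 := by decide +kernel
theorem hV : V * V' = 1 := by decide +kernel
theorem hS : U * cartanMat chevE6 * V = Matrix.diagonal (fun j => (d j : ℤ)) := by decide +kernel

variable {F : Type*} [Field F] [Fintype F]

theorem card_H (hR : Rel chevE6 F) :
    (∏ j, (Fintype.card F - 1).gcd (d j)) * Nat.card (chevE6.diagonalSubgroup F) = (Fintype.card F - 1) ^ 6 :=
  Helper23Diag.card_H Helper23TabE6.tableOK hR cartanRefl U U' V V' d hU hV hS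

theorem card_U (hR : Rel chevE6 F) : Nat.card (chevE6.posUnipotent F) = Fintype.card F ^ (chevE6.nroots / 2) :=
  (Helper23Agr.main Helper23TabE6.tableOK hR valid agr exists_w0).1

theorem card_G (hR : Rel chevE6 F) :
    (∏ j, (Fintype.card F - 1).gcd (d j)) * Nat.card (chevE6.group F) =
      Fintype.card F ^ 36 * ([2, 5, 6, 8, 9, 12].map (fun d => Fintype.card F ^ d - 1)).prod :=
  Helper23Agr.final Helper23TabE6.tableOK hR valid agr exists_w0 cartanRefl U U' V V' d hU hV hS _ poin_eq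

theorem prod_d (m : ℕ) : ∏ j, m.gcd (d j) = Nat.gcd 3 m := by
  show ∏ j : Fin 6, m.gcd ((![1, 1, 1, 1, 1, 3] : Fin 6 → ℕ) j) = _
  simp [Fin.prod_univ_succ, Nat.gcd_comm]

theorem card_H' (hR : Rel chevE6 F) {q : ℕ} (hq : Fintype.card F = q) :
    Nat.gcd 3 (q - 1) * Nat.card (chevE6.diagonalSubgroup F) = (q - 1) ^ 6 := by
  have h := card_H hR
  rw [prod_d, hq] at h
  simpa using h

theorem card_G' (hR : Rel chevE6 F) {q : ℕ} (hq : Fintype.card F = q) :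
    Nat.gcd 3 (q - 1) * Nat.card (chevE6.group F) = q ^ 36 * (q ^ 2 - 1) * (q ^ 5 - 1) * (q ^ 6 - 1) * (q ^ 8 - 1) * (q ^ 9 - 1) * (q ^ 12 - 1) := by
  have h := card_G hR
  rw [prod_d, hq] at h
  simpa [mul_assoc] using h

end Cfsg.Agent.Lib.Helper23AgrE6
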