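import Cfsg.Agent.Lib.Helper22ChevN
import Cfsg.Agent.Lib.Helper22ChevTabE6

set_option autoImplicit false

namespace Cfsg.Agent.Lib.Helper22ChevNTabE6

open Cfsg.Lie Cfsg.Agent.Lib.Helper22ChevEngine Cfsg.Agent.Lib.Helper22ChevFast Cfsg.Agent.Lib.Helper22ChevN
open Cfsg.Agent.Lib.Helper22ChevTabE6

def nT : ℕ := 0x470046004501430044004201400041013e003f003d013b003c003a0039003800370135003601330034003201300031002f002e012c002d002b002a0128002900270125002601230124002101220020001e011f001d001c001a011b0019001800160117001500130114001101120010000f000e000d000b010c000a000801090006010700050003010400020001000000470046014400450043014100420040003f013d003e003c013a003b003900380136003700350034013200330031012f0030002e002d012b002c002a002901270028002401220126012101250023001f0120001e001d001b011c001a0019001701180016001401150013001200100111000f000e000c010d000b0009010a000800070005010600040002010300010000004701450046004400430042013f013e00410040003d003c003b0139003a003800370134013300360035003200310030012e002f002d002c012a002b0026002501200129012800240023011f011e012700220021001c011d001b001a0018011900170016001500120011011401130010000f000d010e000c000b000a000700060109010800050004000300010102000000470046014201410140004500440043003f003e003d003c003b0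03a0138003900370036003501310130012f003400330032002e002900280027011d012d012c012b002600250024002300220021011c011b011a012a0020001f001e0019001500140013011801170116001200110010000e010f000d000c000b000a000900080004000300020107010601050001000001460047004500440043004200410040013c013b013a003f003e003d00390038003700360035012d012c012b0029002800270119003400330032002a01310130012f002600250024002300220021011801170116001d001500140013012e0020001f001e011c011b011a001200110010000f000e000a00090008010d010c010b0007000600050004000300020000010100470046004500440043003700360035003400330032002d002c002b002a010f014201410140013f013e013d00310030002f002e013c013b013a01390029002800270026002500240023002200210020001f001e010e010d010c010b0019001800170016010a010901080107010601050138001d001c001b001a00150014001300120011001000040003000200010000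

set_option maxRecDepth 1000000 in
theorem c1 : allLt fd.l (fun i => chkN1 fd nT i) = true := by decide +kernel

set_option maxRecDepth 1000000 in
theorem c2 : allLt fd.l (fun i => chkN2 fd nT i) = true := by decide +kernel

set_option maxRecDepth 1000000 in
theorem c3_0 : allLt fd.n (fun s => chkN3 fd nT 0 s) = true := by decide +kernel

set_option maxRecDepth 1000000 in
theorem c3_1 : allLt fd.n (fun s => chkN3 fd nT 1 s) = true := by decide +kernel

set_option maxRecDepth 1000000 in
theorem c3_2 : allLt fd.n (fun s => chkN3 fd nT 2 s) = true := by decide +kernel

set_option maxRecDepth 1000000 in
theorem c3_3 : allLt fd.n (fun s => chkN3 fd nT 3 s) = true := by decide +kernel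

set_option maxRecDepth 1000000 in
theorem c3_4 : allLt fd.n (fun s => chkN3 fd nT 4 s) = true := by decide +kernel

set_option maxRecDepth 1000000 in
theorem c3_5 : allLt fd.n (fun s => chkN3 fd nT 5 s) = true := by decide +kernel

theorem nTab : NTab fd nT where
  c1 := (allLt_iff _ _).mp c1
  c2 := (allLt_iff _ _).mp c2
  c3 := by
    intro i hi
    have hl : fd.l = 6 := rfl
    rw [hl] at hi
    interval_cases i
    · exact (allLt_iff _ _).mp c3_0
    · exact (allLt_iff _ _).mp c3_1
    · exact (allLt_iff _ _).mp c3_2
    · exact (allLt_iff _ _).mp c3_3
    · exact (allLt_iff _ _).mp c3_4
    · exact (allLt_iff _ _).mp c3_5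

end Cfsg.Agent.Lib.Helper22ChevNTabE6
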