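import Cfsg.Agent.Lib.Helper22ChevN
import Cfsg.Agent.Lib.Helper22ChevTabF4

set_option autoImplicit false

namespace Cfsg.Agent.Lib.Helper22ChevNTabF4

open Cfsg.Lie Cfsg.Agent.Lib.Helper22ChevEngine Cfsg.Agent.Lib.Helper22ChevFast Cfsg.Agent.Lib.Helper22ChevN
open Cfsg.Agent.Lib.Helper22ChevTabF4

def nT : ℕ := 0x12e002f002d002c002b0129002a002800270125002601230024002200210020011e001f011c001d001b0119001a011701180015011600140012011300100111000f000e000d000b010c0009010a000800070005010600040003000200000101002f012d002e002c012a002b002900280126002700250024012200230021011f0020001e001d011b001c00180116011a0115011900170013011400120011000f0110000e000c010d000b000a0008010900070006000401050003000101020000002f002e002b012c002d002a0029012700280124012300260025012100220020011a0119011d011c0114011f011e0018001701110110011b0113011201160115000f000d010e000a0009010c010b000701080006000500020103000400010000002f002e002d01280120011f011e002c012701260125001d001c001b010e012b012a0129012401230122001a00190018001700160015010d010c010b0106010501040121001400130012010a01090108000301110110010f0107000200010000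

set_option maxRecDepth 1000000 in
theorem c1 : allLt fd.l (fun i => chkN1 fd nT i) = true := by decide +kernel

set_option maxRecDepth 1000000 in
theorem c2 : allLt fd.l (fun i => chkN2 fd nT i) = true := by decide +kernel

set_option maxRecDepth 1000000 in
theorem c3_0 : allLt fd.n (fun s => chkN3 fd nT 0 s) = true := by decide +kernel

set_option maxRecDepth 1000000 in
theorem c3_1 : allLt fd.n (fun s => chkN3 fd nT 1 s) = true := by decide +kernel

set_option maxRecDepth 1000000 in
theorem c3_2 : allLt fd.n (fun s => chkN3 fd nT 2 s) = true := by decide +kernel

set_option maxRecDepth 1000000 in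
theorem c3_3 : allLt fd.n (fun s => chkN3 fd nT 3 s) = true := by decide +kernel

theorem nTab : NTab fd nT where
  c1 := (allLt_iff _ _).mp c1
  c2 := (allLt_iff _ _).mp c2
  c3 := by
    intro i hi
    have hl : fd.l = 4 := rfl
    rw [hl] at hi
    interval_cases i
    · exact (allLt_iff _ _).mp c3_0
    · exact (allLt_iff _ _).mp c3_1
    · exact (allLt_iff _ _).mp c3_2
    · exact (allLt_iff _ _).mp c3_3

end Cfsg.Agent.Lib.Helper22ChevNTabF4
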