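import Cfsg.Agent.Lib.Helper46ChevSt
import Cfsg.Agent.Lib.Helper22ChevRel
import Cfsg.Agent.Lib.Helper23Tab
import Cfsg.Agent.Lib.Helper23Main
import Cfsg.Agent.S1027
import Cfsg.Agent.S1035
import Cfsg.Agent.S1036
import Cfsg.Agent.S1037
import Cfsg.Agent.S1038
import Cfsg.Agent.S1042
import Cfsg.Agent.S1043
import Cfsg.Agent.S1053

set_option autoImplicit false

namespace Cfsg.Agent.Lib.Helper46ChevFacts

open Cfsg Cfsg.Lie Cfsg.Lie.ChevalleyDatum
open Cfsg.Agent.Lib.Helper23RG Cfsg.Agent.Lib.Helper23Table Cfsg.Agent.Lib.Helper23Chev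
open Cfsg.Agent.Lib.Helper46ChevSt
open scoped MatrixGroups

set_option maxRecDepth 1000000 in
theorem simple_inj {D : ChevalleyDatum} (hD : D ∈ [chevG2, chevB2, chevD4, chevF4, chevE6, chevE7, chevE8]) :
    ∀ i < D.rank, ∀ j < D.rank, D.simple i = D.simple j → i = j := by
  simp only [List.mem_cons, List.not_mem_nil, or_false] at hD
  rcases hD with rfl | rfl | rfl | rfl | rfl | rfl | rfl <;> decide

variable {F : Type*} [Field F] {D : ChevalleyDatum}

theorem facts (hD : D ∈ [chevG2, chevB2, chevD4, chevF4, chevE6, chevE7, chevE8]) : Facts D F where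
  bn := Cfsg.Agent.S1042.result D hD
  BG := (Cfsg.Agent.S1043.result D hD).1
  NG := (Cfsg.Agent.S1043.result D hD).2.1
  nex := fun i hi => by
    have hT := Cfsg.Agent.Lib.Helper23Tab.tableOK_of_mem hD
    have hR := Cfsg.Agent.Lib.Helper22ChevRel.rel_of_mem (F := F) hD
    refine ⟨(rg hT hR).nn ⟨i, hi⟩, ?_, coe_nn hT hR ⟨i, hi⟩⟩
    rw [← Helper23Chev.N_eq hT hR]
    exact RG.nn_mem_N _
  ninj := fun i hi j hj h => by
    have hT := Cfsg.Agent.Lib.Helper23Tab.tableOK_of_mem hD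
    have hR := Cfsg.Agent.Lib.Helper22ChevRel.rel_of_mem (F := F) hD
    have e : (rg hT hR).nn ⟨i, hi⟩ = (rg hT hR).nn ⟨j, hj⟩ := by
      apply Units.ext
      rw [coe_nn, coe_nn]
      exact h
    have h1 : ((rg hT hR).nn ⟨i, hi⟩)⁻¹ * (rg hT hR).nn ⟨j, hj⟩ ∈ (rg hT hR).B := by
      rw [e, inv_mul_cancel]; exact Subgroup.one_mem _
    have h2 := RG.simple_eq_of_mem_B (rg_ok hT hR) (hBV hT hR) (hUN hT hR) h1
    exact simple_inj hD i hi j hj (congrArg Fin.val h2)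
  n0 := Cfsg.Agent.S1053.result D hD
  BVH := (Cfsg.Agent.S1037.result D hD).2
  HN := Cfsg.Agent.S1038.result D hD
  HU := (Cfsg.Agent.S1036.result D hD).1
  UH := (Cfsg.Agent.S1036.result D hD).2

theorem exists_card_H [Fintype F] (hD : D ∈ [chevG2, chevB2, chevD4, chevF4, chevE6, chevE7, chevE8]) :
    ∃ d : ℕ, d * Nat.card (D.diagonalSubgroup F) = (Fintype.card F - 1) ^ D.rank := by
  simp only [List.mem_cons, List.not_mem_nil, or_false] at hD
  rcases hD with rfl | rfl | rfl | rfl | rfl | rfl | rfl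
  · exact ⟨_, Cfsg.Agent.S1035.result (F := F) rfl (chevG2, 1) (by simp)⟩
  · exact ⟨_, Cfsg.Agent.S1035.result (F := F) rfl (chevB2, Nat.gcd 2 (Fintype.card F - 1)) (by simp)⟩
  · exact ⟨_, Cfsg.Agent.S1035.result (F := F) rfl (chevD4, Nat.gcd 2 (Fintype.card F - 1) ^ 2) (by simp)⟩
  · exact ⟨_, Cfsg.Agent.S1035.result (F := F) rfl (chevF4, 1) (by simp)⟩
  · exact ⟨_, Cfsg.Agent.S1035.result (F := F) rfl (chevE6, Nat.gcd 3 (Fintype.card F - 1)) (by simp)⟩
  · exact ⟨_, Cfsg.Agent.S1035.result (F := F) rfl (chevE7, Nat.gcd 2 (Fintype.card F - 1)) (by simp)⟩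
  · exact ⟨_, Cfsg.Agent.S1035.result (F := F) rfl (chevE8, 1) (by simp)⟩

theorem not_dvd_card_H [Fintype F] (p : ℕ) [Fact p.Prime] [CharP F p]
    (hD : D ∈ [chevG2, chevB2, chevD4, chevF4, chevE6, chevE7, chevE8]) :
    ¬ p ∣ Nat.card (D.diagonalSubgroup F) := by
  intro h
  have hp := (Fact.out : p.Prime)
  obtain ⟨d, hd⟩ := exists_card_H (F := F) hD
  obtain ⟨n, _, hq⟩ := FiniteField.card F p
  have h1 : p ∣ (Fintype.card F - 1) ^ D.rank := hd ▸ Dvd.dvd.mul_left h d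
  have h2 := hp.dvd_of_dvd_pow h1
  have h3 : p ∣ Fintype.card F := by rw [hq]; exact dvd_pow_self p n.ne_zero
  have h4 : 1 ≤ Fintype.card F := Fintype.card_pos
  have h5 : p ∣ 1 := by
    have := (Nat.dvd_sub h3 h2)
    rwa [Nat.sub_sub_self h4] at this
  exact hp.one_lt.ne' (Nat.dvd_one.1 h5)

theorem exists_card_U [Fintype F] (p : ℕ) [Fact p.Prime] [CharP F p]
    (hD : D ∈ [chevG2, chevB2, chevD4, chevF4, chevE6, chevE7, chevE8]) :
    ∃ k, Nat.card (D.posUnipotent F) = p ^ k := by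
  obtain ⟨n, _, hq⟩ := FiniteField.card F p
  exact ⟨n * (D.nroots / 2), by rw [Cfsg.Agent.S1027.result D hD, hq, pow_mul]⟩

end Cfsg.Agent.Lib.Helper46ChevFacts
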