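import Mathlib
import Cfsg.Prelude.Def_Blocks
import Cfsg.Agent.Lib.Helper21Cover2

set_option autoImplicit false
set_option linter.unusedSectionVars false

/-! Blocks of quotient groups. -/

namespace Cfsg.Agent.Lib.Helper21Cover3

open Cfsg
open Cfsg.Agent.Lib.Helper81Local Cfsg.Agent.Lib.Helper81Base Cfsg.Agent.Lib.Helper81BB
  Cfsg.Agent.Lib.Helper81Block Cfsg.Agent.Lib.Helper81Orth Cfsg.Agent.Lib.Helper5Clifford
  Cfsg.Agent.Lib.Helper19Ind Cfsg.Agent.Lib.Helper32Ind Cfsg.Agent.Lib.Helper21Cover
  Cfsg.Agent.Lib.Helper21CoverQ Cfsg.Agent.Lib.Helper21Cover2 Cfsg.Agent.Lib.Helper82Quot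
open scoped ComplexConjugate

section push

variable {G : Type*} [Group G] [Fintype G] {N : Subgroup G} [hN : N.Normal] [Fintype (G ⧸ N)]

open scoped Classical in
/-- image in the group algebra of the quotient. -/
noncomputable def push (N : Subgroup G) (α : G → ℂ) (y : G ⧸ N) : ℂ :=
  ∑ g : G, if (g : G ⧸ N) = y then α g else 0

theorem push_classfn {α : G → ℂ} (hα : IsClassFunction G α) :
    IsClassFunction (G ⧸ N) (push N α) := by
  classical
  intro y k
  obtain ⟨k, rfl⟩ := QuotientGroup.mk_surjective k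
  unfold push
  symm
  apply Fintype.sum_equiv (MulAut.conj k).toEquiv
  intro g
  have e1 : (MulAut.conj k).toEquiv g = k * g * k⁻¹ := by simp [MulAut.conj_apply]
  rw [e1, hα]
  have e2 : (((k * g * k⁻¹ : G) : G ⧸ N) = (k : G ⧸ N) * y * (k : G ⧸ N)⁻¹) ↔ (g : G ⧸ N) = y := by
    rw [QuotientGroup.mk_mul, QuotientGroup.mk_mul, QuotientGroup.mk_inv]
    constructor
    · intro h
      exact mul_left_cancel (mul_right_cancel h)
    · intro h
      rw [h]
  simp only [e2]

theorem om_inflate (α : G → ℂ) (χ : IrrCharacter (G ⧸ N)) :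
    om α (inflate N χ) = om (push N α) χ := by
  classical
  unfold om push
  have h1 : ∀ y : G ⧸ N, (∑ g : G, if (g : G ⧸ N) = y then α g else 0) * (χ : G ⧸ N → ℂ) y
      / (χ : G ⧸ N → ℂ) 1
      = ∑ g : G, if (g : G ⧸ N) = y then α g * (inflate N χ : G → ℂ) g / (inflate N χ : G → ℂ) 1
        else 0 := by
    intro y
    rw [Finset.sum_mul, Finset.sum_div]
    apply Finset.sum_congr rfl
    intro g _
    split_ifs with h
    · rw [inflate_apply, inflate_apply, h]
      rfl
    · simp
  rw [Finset.sum_congr rfl fun y _ => h1 y, Finset.sum_comm]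
  apply Finset.sum_congr rfl
  intro g _
  simp

variable {M : Ideal AlgInt}

theorem push_local [M.IsPrime] {α : G → ℂ} (hα : ∀ g, MemLocalRing M (α g)) (y : G ⧸ N) :
    MemLocalRing M (push N α y) := by
  classical
  unfold push
  apply memLocalRing_sum
  intro g _
  split_ifs
  · exact hα g
  · simpa using memLocalRing_natCast (M := M) 0

/-- blocks of the quotient are contained in blocks of the group. -/
theorem sameBlock_inflate [M.IsPrime] {χ ψ : IrrCharacter (G ⧸ N)}
    (h : SameBlock M (χ : G ⧸ N → ℂ) (ψ : G ⧸ N → ℂ)) :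
    SameBlock M (inflate N χ : G → ℂ) (inflate N ψ : G → ℂ) := by
  classical
  intro g
  rw [centralChar_eq_om, centralChar_eq_om, om_inflate, om_inflate]
  apply om_congr (push_classfn (classInd_classfn g)) _ h
  apply push_local
  intro x
  split_ifs
  · simpa using memLocalRing_natCast (M := M) 1
  · simpa using memLocalRing_natCast (M := M) 0

/-- a criterion for the converse: the idempotent of the block of `χ` lifts. -/
theorem sameBlock_of_inflate_of_lift [M.IsPrime] {χ ψ : IrrCharacter (G ⧸ N)}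
    (h : SameBlock M (inflate N χ : G → ℂ) (inflate N ψ : G → ℂ))
    {α : G → ℂ} (hα : IsClassFunction G α) (hα' : ∀ g, MemLocalRing M (α g))
    (hp : push N α = blockCoeff (blockOf M (χ : G ⧸ N → ℂ))) :
    SameBlock M (χ : G ⧸ N → ℂ) (ψ : G ⧸ N → ℂ) := by
  classical
  have := om_congr hα hα' h
  rw [om_inflate, om_inflate, hp, om_blockCoeff, om_blockCoeff, if_pos (self_mem_blockOf χ)] at this
  by_contra hne
  have hne' : ψ ∉ blockOf M (χ : G ⧸ N → ℂ) := hne
  rw [if_neg hne', sub_zero] at this
  exact not_memLocalIdeal_one this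

end push

section regularlift

variable {G : Type*} [Group G] [Finite G] {p : ℕ}

/-- a `p`-regular element of a quotient lifts to a `p`-regular element. -/
theorem exists_regular_lift (hp : p.Prime) (N : Subgroup G) [N.Normal] {y : G ⧸ N}
    (hy : ¬ p ∣ orderOf y) : ∃ x : G, (x : G ⧸ N) = y ∧ ¬ p ∣ orderOf x := by
  obtain ⟨g, rfl⟩ := QuotientGroup.mk_surjective y
  obtain ⟨x, z, hxz, hc, ⟨k, hk⟩, hz⟩ := exists_ppart hp g
  refine ⟨z, ?_, hz⟩
  have hx1 : (x : G ⧸ N) = 1 := by
    rw [← orderOf_eq_one_iff]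
    have h1 : orderOf (x : G ⧸ N) ∣ p ^ k := by
      rw [← hk]
      exact orderOf_map_dvd (QuotientGroup.mk' N) x
    have h2 : (x : G ⧸ N) = (g : G ⧸ N) * (z : G ⧸ N)⁻¹ := by
      rw [← hxz, QuotientGroup.mk_mul, mul_inv_cancel_right]
    have hc' : Commute (g : G ⧸ N) (z : G ⧸ N)⁻¹ := by
      apply Commute.inv_right
      rw [← hxz, QuotientGroup.mk_mul]
      have : Commute (x : G ⧸ N) (z : G ⧸ N) := hc.map (QuotientGroup.mk' N)
      exact Commute.mul_left this (Commute.refl _)
    have h3 : orderOf (x : G ⧸ N) ∣ orderOf (g : G ⧸ N) * orderOf (z : G ⧸ N) := by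
      rw [h2]
      have := hc'.orderOf_mul_dvd_mul_orderOf
      rwa [orderOf_inv] at this
    have h4 : Nat.Coprime (orderOf (g : G ⧸ N) * orderOf (z : G ⧸ N)) (p ^ k) := by
      apply Nat.Coprime.pow_right
      apply Nat.Coprime.mul_left
      · exact ((Nat.Prime.coprime_iff_not_dvd hp).2 hy).symm
      · apply ((Nat.Prime.coprime_iff_not_dvd hp).2 _).symm
        intro hd
        exact hz (hd.trans (orderOf_map_dvd (QuotientGroup.mk' N) z))
    exact Nat.eq_one_of_dvd_coprimes h4 h3 h1
  rw [← hxz, QuotientGroup.mk_mul, hx1, one_mul]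

/-- in a coset of a `p`-subgroup `P` centralized by the `p`-regular element `x`, only `x` is
`p`-regular -/
theorem eq_of_regular_of_commute (hp : p.Prime) {x u : G} (hc : Commute x u)
    (hu : ∃ k : ℕ, u ^ p ^ k = 1) (hx : ¬ p ∣ orderOf x) (hxu : ¬ p ∣ orderOf (x * u)) : u = 1 := by
  obtain ⟨k, hk⟩ := hu
  set m := orderOf x * orderOf (x * u) with hm
  have h1 : u ^ m = 1 := by
    have e1 : (x * u) ^ m = 1 := by
      rw [hm, mul_comm, pow_mul, pow_orderOf_eq_one, one_pow]
    have e2 : x ^ m = 1 := by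
      rw [hm, pow_mul, pow_orderOf_eq_one, one_pow]
    rw [hc.mul_pow, e2, one_mul] at e1
    exact e1
  have h2 : Nat.Coprime m (p ^ k) := by
    apply Nat.Coprime.pow_right
    apply Nat.Coprime.mul_left
    · exact ((Nat.Prime.coprime_iff_not_dvd hp).2 hx).symm
    · exact ((Nat.Prime.coprime_iff_not_dvd hp).2 hxu).symm
  have h3 : orderOf u ∣ m := orderOf_dvd_of_pow_eq_one h1
  have h4 : orderOf u ∣ p ^ k := orderOf_dvd_of_pow_eq_one hk
  exact orderOf_eq_one_iff.1 (Nat.eq_one_of_dvd_coprimes h2 h3 h4)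

end regularlift

section pquot

variable {G : Type*} [Group G] [Fintype G] {P : Subgroup G} [hn : P.Normal] [Fintype (G ⧸ P)]
  {M : Ideal AlgInt} {p : ℕ}

/-- If `P` is a normal `p`-subgroup with `G / C_G(P)` a `p`-group, blocks of `G ⧸ P` are blocks
of `G`. -/
theorem sameBlock_of_inflate_pgroup (hM : IsPModular p M) (hP : IsPGroup p P)
    (hC : ∃ k : ℕ, (Subgroup.centralizer (P : Set G)).index = p ^ k)
    {χ ψ : IrrCharacter (G ⧸ P)}
    (h : SameBlock M (inflate P χ : G → ℂ) (inflate P ψ : G → ℂ)) :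
    SameBlock M (χ : G ⧸ P → ℂ) (ψ : G ⧸ P → ℂ) := by
  classical
  have := IsPModular.isPrime hM
  set e := blockCoeff (blockOf M (χ : G ⧸ P → ℂ)) with he
  have hecf : IsClassFunction (G ⧸ P) e := blockCoeff_classfn _
  have ord_conj : ∀ g k : G, orderOf (k * g * k⁻¹) = orderOf g := by
    intro g k
    have := (MulAut.conj k).orderOf_eq g
    simpa using this
  apply sameBlock_of_inflate_of_lift h
    (α := fun g => if p ∣ orderOf g then 0 else e (g : G ⧸ P))
  · intro g k
    dsimp only
    rw [ord_conj]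
    have := hecf (g : G ⧸ P) (k : G ⧸ P)
    rw [QuotientGroup.mk_mul, QuotientGroup.mk_mul, QuotientGroup.mk_inv, this]
  · intro g
    split_ifs
    · simpa using memLocalRing_natCast (M := M) 0
    · exact osima (isPBlock_blockOf χ) _
  · funext y
    unfold push
    beta_reduce
    by_cases hy : p ∣ orderOf y
    · rw [← he, he, blockCoeff_eq_zero_of_singular hM (isPBlock_blockOf χ) hy]
      apply Finset.sum_eq_zero
      intro g _
      split_ifs with h1 h2
      · rfl
      · rw [h1, blockCoeff_eq_zero_of_singular hM (isPBlock_blockOf χ) hy]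
      · rfl
    · obtain ⟨x, hx, hxr⟩ := exists_regular_lift hM.1 P hy
      rw [Finset.sum_eq_single x]
      · rw [if_pos hx, if_neg hxr, hx]
      · intro g _ hgx
        split_ifs with h1 h2
        · rfl
        · exfalso
          apply hgx
          have hxC : x ∈ Subgroup.centralizer (P : Set G) := by
            by_contra hne
            exact hxr (singular_of_not_mem hM.1 hC hne)
          have hu : x⁻¹ * g ∈ P := by
            rw [← QuotientGroup.eq, hx, h1]
          have hcomm : Commute x (x⁻¹ * g) :=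
            ((Subgroup.mem_centralizer_iff.1 hxC) _ hu).symm
          have hpow : ∃ k : ℕ, (x⁻¹ * g) ^ p ^ k = 1 := by
            obtain ⟨k, hk⟩ := hP ⟨_, hu⟩
            refine ⟨k, ?_⟩
            have := congrArg Subtype.val hk
            simpa using this
          have h3 := eq_of_regular_of_commute hM.1 hcomm hpow hxr (by
            rw [mul_inv_cancel_left]; exact h2)
          exact (inv_mul_eq_one.1 h3).symm
        · rfl
      · intro hh
        exact absurd (Finset.mem_univ _) hh

end pquot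

end Cfsg.Agent.Lib.Helper21Cover3
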