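import Mathlib
import Cfsg.Prelude.Def_Blocks
import Cfsg.Agent.Lib.Helper21Cover3

set_option autoImplicit false
set_option linter.unusedSectionVars false

/-! Blocks covering a block uniquely; normal `p`-subgroups and their centralizers. -/

namespace Cfsg.Agent.Lib.Helper21Cover4

open Cfsg
open Cfsg.Agent.Lib.Helper81Local Cfsg.Agent.Lib.Helper81Base Cfsg.Agent.Lib.Helper81BB
  Cfsg.Agent.Lib.Helper81Block Cfsg.Agent.Lib.Helper81Orth Cfsg.Agent.Lib.Helper5Clifford
  Cfsg.Agent.Lib.Helper19Ind Cfsg.Agent.Lib.Helper32Ind Cfsg.Agent.Lib.Helper21Cover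
  Cfsg.Agent.Lib.Helper21CoverQ Cfsg.Agent.Lib.Helper21Cover2 Cfsg.Agent.Lib.Helper82Quot
open scoped ComplexConjugate

section uniq

variable {G : Type*} [Group G] [Fintype G] {N : Subgroup G} [Fintype N] {M : Ideal AlgInt}

/-- every block covers some block. -/
theorem exists_covered [M.IsPrime] {B : Set (IrrCharacter G)} (hB : IsPBlock M B) :
    ∃ b : Set (IrrCharacter N), IsPBlock M b ∧
      ∃ χ ∈ B, ∃ θ ∈ b, classInner (fun n : N => (χ : G → ℂ) n) (θ : N → ℂ) ≠ 0 := by
  obtain ⟨χ, hχ⟩ := isPBlock_nonempty hB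
  obtain ⟨θ, hθ⟩ := exists_under (N := N) χ
  exact ⟨blockOf M (θ : N → ℂ), isPBlock_blockOf θ, χ, hχ, θ, self_mem_blockOf θ, hθ⟩

/-- the characters in blocks covering `b` are those lying over the orbit of `b`. -/
theorem mem_orb_of_mem [M.IsPrime] (hN : N.Normal) {B : Set (IrrCharacter G)} (hB : IsPBlock M B)
    {b : Set (IrrCharacter N)} (hb : IsPBlock M b)
    (hcov : ∃ χ ∈ B, ∃ θ ∈ b, classInner (fun n : N => (χ : G → ℂ) n) (θ : N → ℂ) ≠ 0)
    {χ : IrrCharacter G} (hχ : χ ∈ B) {θ : IrrCharacter N} (hθ : Over χ θ) : θ ∈ orb hN b := by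
  obtain ⟨χ₀, hχ₀, θ₀, hθ₀, h0⟩ := hcov
  rw [mem_orb]
  exact over_of_congr (M := M) hN (osima hb) hθ₀ h0 hθ
    (fun n => isPBlock_sameBlock hB hχ₀ hχ n)

theorem covers_of_mem_orb [M.IsPrime] (hN : N.Normal) {b : Set (IrrCharacter N)}
    {χ : IrrCharacter G} {θ : IrrCharacter N} (hθ : Over χ θ) (h : θ ∈ orb hN b) :
    ∃ θ' ∈ b, Over χ θ' := by
  obtain ⟨g, θ', h1, rfl⟩ := (mem_orb hN b θ).1 h
  refine ⟨θ', h1, ?_⟩
  have := over_cjI hN hθ g⁻¹
  rwa [cjI_cjI, mul_inv_cancel, cjI_one] at this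

/-- If `B` is the only block covering `b`, its idempotent is the sum of the idempotents of the
conjugates of `b`. -/
theorem blockCoeff_eq_ext [M.IsPrime] (hN : N.Normal) {B : Set (IrrCharacter G)}
    (hB : IsPBlock M B) {b : Set (IrrCharacter N)} (hb : IsPBlock M b)
    (hcov : ∃ χ ∈ B, ∃ θ ∈ b, classInner (fun n : N => (χ : G → ℂ) n) (θ : N → ℂ) ≠ 0)
    (huniq : ∀ B' : Set (IrrCharacter G), IsPBlock M B' →
      (∃ χ ∈ B', ∃ θ ∈ b, classInner (fun n : N => (χ : G → ℂ) n) (θ : N → ℂ) ≠ 0) → B' = B) :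
    blockCoeff B = extendByZero N (blockCoeff (orb hN b)) := by
  classical
  have hst := orb_stable hN b
  apply om_injective (blockCoeff_classfn B) (ext_blockCoeff_classfn hN hst)
  intro χ
  obtain ⟨θ, hθ⟩ := exists_under (N := N) χ
  rw [om_blockCoeff, om_ext_blockCoeff hN hst hθ]
  by_cases hχ : χ ∈ B
  · rw [if_pos hχ, if_pos (mem_orb_of_mem hN hB hb hcov hχ hθ)]
  · rw [if_neg hχ, if_neg]
    intro hmem
    obtain ⟨θ', h1, h2⟩ := covers_of_mem_orb (M := M) hN hθ hmem
    have := huniq (blockOf M (χ : G → ℂ)) (isPBlock_blockOf χ)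
      ⟨χ, self_mem_blockOf χ, θ', h1, h2⟩
    apply hχ
    rw [← this]
    exact self_mem_blockOf χ

variable {p : ℕ}

/-- If `N` contains the centralizer of a normal `p`-subgroup, blocks of `N` are covered by
exactly one block. -/
theorem unique_of_centralizer_le (hM : IsPModular p M) [hN : N.Normal] {P : Subgroup G}
    [P.Normal] (hP : IsPGroup p P) (hC : Subgroup.centralizer (P : Set G) ≤ N)
    {B B' : Set (IrrCharacter G)} (hB : IsPBlock M B) (hB' : IsPBlock M B')
    {b : Set (IrrCharacter N)} (hb : IsPBlock M b)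
    (h : ∃ χ ∈ B, ∃ θ ∈ b, classInner (fun n : N => (χ : G → ℂ) n) (θ : N → ℂ) ≠ 0)
    (h' : ∃ χ ∈ B', ∃ θ ∈ b, classInner (fun n : N => (χ : G → ℂ) n) (θ : N → ℂ) ≠ 0) :
    B' = B := by
  have := IsPModular.isPrime hM
  have : Fact p.Prime := ⟨hM.1⟩
  obtain ⟨χ, hχ⟩ := isPBlock_nonempty hB
  obtain ⟨χ', hχ'⟩ := isPBlock_nonempty hB'
  have hs : SameBlock M (χ : G → ℂ) (χ' : G → ℂ) := by
    intro g
    by_cases hg : g ∈ N
    · exact congr_of_covers hB hB' hb h h' hχ hχ' ⟨g, hg⟩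
    · have hav : ∀ x : G, IsConj g x → x ∉ Subgroup.centralizer (P : Set G) := by
        intro x hx hxC
        apply hg
        obtain ⟨c, hc⟩ := isConj_iff.1 hx.symm
        rw [← hc]
        exact hN.conj_mem x (hC hxC) c
      exact memLocalIdeal_sub (Helper20Brauer.centralChar_mem_of_normal hM P hP g hav χ.2)
        (Helper20Brauer.centralChar_mem_of_normal hM P hP g hav χ'.2)
  rw [isPBlock_eq_blockOf hB (isPBlock_mem_of_sameBlock hB hχ hs), isPBlock_eq_blockOf hB' hχ']

/-- block idempotents are supported on the centralizer of any normal `p`-subgroup. -/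
theorem blockCoeff_eq_zero_of_not_mem_centralizer (hM : IsPModular p M) {P : Subgroup G}
    [P.Normal] (hP : IsPGroup p P) {B : Set (IrrCharacter G)} (hB : IsPBlock M B) {g : G}
    (hg : g ∉ Subgroup.centralizer (P : Set G)) : blockCoeff B g = 0 := by
  classical
  have := IsPModular.isPrime hM
  have hn : (Subgroup.centralizer (P : Set G)).Normal := inferInstance
  obtain ⟨b, hb, hcov⟩ := exists_covered (N := Subgroup.centralizer (P : Set G)) hB
  rw [blockCoeff_eq_ext hn hB hb hcov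
    (fun B' hB' h' => unique_of_centralizer_le hM hP le_rfl hB hB' hb hcov h')]
  exact extendByZero_of_not_mem _ _ hg

theorem inducedCentralChar_eq_zero [hN : N.Normal] (θ : N → ℂ) {g : G} (hg : g ∉ N) :
    inducedCentralChar N θ g = 0 := by
  unfold inducedCentralChar
  have : {h : N | IsConj g (h : G)} = ∅ := by
    ext h
    simp only [Set.mem_ofPred_eq, Set.mem_empty_iff_false, iff_false]
    intro hc
    apply hg
    obtain ⟨c, hc⟩ := isConj_iff.1 hc.symm
    rw [← hc]
    exact hN.conj_mem h h.2 c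
  rw [this]
  simp

/-- If `N` contains the centralizer of a normal `p`-subgroup, a block covering `b` is induced
from `b`. -/
theorem isInducedBlock_of_covers (hM : IsPModular p M) [hN : N.Normal] {P : Subgroup G}
    [P.Normal] (hP : IsPGroup p P) (hC : Subgroup.centralizer (P : Set G) ≤ N)
    {B : Set (IrrCharacter G)} (hB : IsPBlock M B)
    {b : Set (IrrCharacter N)} (hb : IsPBlock M b)
    (h : ∃ χ ∈ B, ∃ θ ∈ b, classInner (fun n : N => (χ : G → ℂ) n) (θ : N → ℂ) ≠ 0) :
    IsInducedBlock M N b B := by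
  have := IsPModular.isPrime hM
  have : Fact p.Prime := ⟨hM.1⟩
  refine ⟨hb, hB, fun ξ hξ χ hχ g => ?_⟩
  by_cases hg : g ∈ N
  · have := memLocalIdeal_neg ((passman M N hB hb).1 h χ hχ ξ hξ ⟨g, hg⟩)
    simpa using this
  · rw [inducedCentralChar_eq_zero _ hg, zero_sub]
    apply memLocalIdeal_neg
    have hav : ∀ x : G, IsConj g x → x ∉ Subgroup.centralizer (P : Set G) := by
      intro x hx hxC
      apply hg
      obtain ⟨c, hc⟩ := isConj_iff.1 hx.symm
      rw [← hc]
      exact hN.conj_mem x (hC hxC) c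
    exact Helper20Brauer.centralChar_mem_of_normal hM P hP g hav χ.2

end uniq

end Cfsg.Agent.Lib.Helper21Cover4
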