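import Mathlib
import Cfsg.Prelude.Def_Blocks
import Cfsg.Agent.Lib.Helper19Ind
import Cfsg.Agent.Lib.Helper20Induced

set_option autoImplicit false
set_option linter.unusedSectionVars false
set_option linter.unusedVariables false

namespace Cfsg.Agent.Lib.Helper20IndBlock

open Cfsg
open Cfsg.Agent.Lib.Helper4Char Cfsg.Agent.Lib.Helper4Char2 Cfsg.Agent.Lib.Helper20Local
open Cfsg.Agent.Lib.Helper20Center Cfsg.Agent.Lib.Helper20Block Cfsg.Agent.Lib.Helper20Induced
open Cfsg.Agent.Lib.Helper19Ind

variable {G : Type*} [Group G] [Fintype G] (H : Subgroup G)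

theorem sum_mul_extendByZero [Fintype H] (a : G → ℂ) (ξ : H → ℂ) :
    ∑ y : G, a y * extendByZero H ξ y = ∑ h : H, a h * ξ h := by
  classical
  have h1 : ∀ h : H, a h * ξ h = (fun y : G => a y * extendByZero H ξ y) h := by
    intro h
    simp only [extendByZero_coe]
  rw [Finset.sum_congr rfl (fun h _ => h1 h),
    ← Finset.sum_subtype (Finset.univ.filter (fun x => x ∈ H)) (by simp)
      (fun y : G => a y * extendByZero H ξ y), Finset.sum_filter]
  apply Finset.sum_congr rfl
  intro y _
  split_ifs with hy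
  · rfl
  · rw [extendByZero_of_not_mem H ξ hy, mul_zero]

/-- Frobenius reciprocity in bilinear form. -/
theorem sum_mul_indFun [Fintype H] {a : G → ℂ} (ha : IsClassFunction G a) (ξ : H → ℂ) :
    ∑ y : G, a y * indFun H ξ y = (Nat.card H : ℂ)⁻¹ * (Nat.card G : ℂ) * ∑ h : H, a h * ξ h := by
  simp only [indFun_apply]
  have h1 : ∀ x : G, ∑ y : G, a y * extendByZero H ξ (x⁻¹ * y * x) = ∑ h : H, a h * ξ h := by
    intro x
    rw [← sum_mul_extendByZero]
    refine Fintype.sum_equiv (MulAut.conj x⁻¹).toEquiv _ _ (fun y => ?_)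
    have e : (MulAut.conj x⁻¹).toEquiv y = x⁻¹ * y * x := by simp
    rw [e]
    have := ha y x⁻¹
    rw [inv_inv] at this
    rw [this]
  calc ∑ y : G, a y * ((Nat.card H : ℂ)⁻¹ * ∑ x : G, extendByZero H ξ (x⁻¹ * y * x))
      = (Nat.card H : ℂ)⁻¹ * ∑ x : G, ∑ y : G, a y * extendByZero H ξ (x⁻¹ * y * x) := by
        rw [Finset.sum_comm, Finset.mul_sum]
        apply Finset.sum_congr rfl
        intro y _
        rw [Finset.mul_sum, Finset.mul_sum, Finset.mul_sum]
        apply Finset.sum_congr rfl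
        intro x _
        ring
    _ = _ := by
        rw [Finset.sum_congr rfl (fun x _ => h1 x), Finset.sum_const, Finset.card_univ,
          nsmul_eq_mul, Nat.card_eq_fintype_card (α := G)]
        ring

theorem indFun_one (ξ : H → ℂ) :
    indFun H ξ 1 = (Nat.card H : ℂ)⁻¹ * (Nat.card G : ℂ) * ξ 1 := by
  rw [indFun_apply]
  have h1 : ∀ x : G, extendByZero H ξ (x⁻¹ * 1 * x) = ξ 1 := by
    intro x
    have : x⁻¹ * 1 * x = ((1 : H) : G) := by simp
    rw [this, extendByZero_coe]
  rw [Finset.sum_congr rfl (fun x _ => h1 x), Finset.sum_const, Finset.card_univ,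
    nsmul_eq_mul, Nat.card_eq_fintype_card (α := G)]
  ring

theorem om_indFun [Fintype H] {a : G → ℂ} (ha : IsClassFunction G a) (ξ : H → ℂ) :
    om (indFun H ξ) a = om ξ (res H a) := by
  have hH : (Nat.card H : ℂ) ≠ 0 := card_ne_zero H
  have hG : (Nat.card G : ℂ) ≠ 0 := by exact_mod_cast Nat.card_pos.ne'
  simp only [om, sum_mul_indFun H ha, indFun_one, res]
  by_cases h1 : ξ 1 = 0
  · simp [h1]
  · field_simp

theorem inducedCentralChar_eq_centralChar (ξ : H → ℂ) (g : G) :
    inducedCentralChar H ξ g = centralChar (indFun H ξ) g := by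
  classical
  rw [inducedCentralChar_eq, ← om_classInd (indFun_isClassFunction H ξ), om_indFun H
    (classInd_isClassFunction g)]

end Cfsg.Agent.Lib.Helper20IndBlock
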