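import Mathlib
import Cfsg.Prelude.Def_Blocks
import Cfsg.Agent.Lib.Helper21Cover4
import Cfsg.Agent.Lib.Helper80Transport
import Cfsg.Agent.Lib.Helper20IndBlock
import Cfsg.Agent.S0148

set_option autoImplicit false
set_option linter.unusedSectionVars false

/-! The Fong–Reynolds correspondence. -/

namespace Cfsg.Agent.Lib.Helper21FR

open Cfsg
open Cfsg.Agent.Lib.Helper81Local Cfsg.Agent.Lib.Helper81Base Cfsg.Agent.Lib.Helper81BB
  Cfsg.Agent.Lib.Helper81Block Cfsg.Agent.Lib.Helper81Orth Cfsg.Agent.Lib.Helper5Clifford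
  Cfsg.Agent.Lib.Helper19Ind Cfsg.Agent.Lib.Helper32Ind Cfsg.Agent.Lib.Helper21Cover
  Cfsg.Agent.Lib.Helper21Cover2 Cfsg.Agent.Lib.Helper21Cover4
open scoped ComplexConjugate

section hom

variable {T N : Type*} [Group T] [Group N] [Fintype T] [Fintype N]

/-- version of `om_ext` for a homomorphism. -/
theorem om_ext_hom (ι : N →* T) {F : N → ℂ} {α : T → ℂ} (hα : IsClassFunction T α)
    (hF : IsClassFunction N F)
    (hαF : ∀ f : T → ℂ, ∑ h, α h * f h = ∑ n, F n * f (ι n))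
    {χ : IrrCharacter T} {θ : IrrCharacter N}
    (h : classInner (fun n => (χ : T → ℂ) (ι n)) (θ : N → ℂ) ≠ 0) : om α χ = om F θ := by
  have hsum : ∑ m : N, (χ : T → ℂ) (ι m) * conj ((θ : N → ℂ) m) ≠ 0 := by
    intro h0
    apply h
    unfold classInner
    rw [h0, mul_zero]
  have hχ1 := irr_one_ne_zero χ
  have hθ1 := irr_one_ne_zero θ
  have e1 : ∑ m : N, (∑ n : N, F n * (χ : T → ℂ) (ι n * ι m)) * conj ((θ : N → ℂ) m)
      = om α χ * ∑ m : N, (χ : T → ℂ) (ι m) * conj ((θ : N → ℂ) m) := by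
    rw [Finset.mul_sum]
    apply Finset.sum_congr rfl
    intro m _
    rw [← hαF (fun g => (χ : T → ℂ) (g * ι m)), irr_sum_classfn χ _ hα (ι m)]
    unfold om
    rw [← Finset.sum_div]
    ring
  have e2 : ∑ m : N, (∑ n : N, F n * (χ : T → ℂ) (ι n * ι m)) * conj ((θ : N → ℂ) m)
      = om F θ * ∑ m : N, (χ : T → ℂ) (ι m) * conj ((θ : N → ℂ) m) := by
    have s1 : ∀ m : N, (∑ n : N, F n * (χ : T → ℂ) (ι n * ι m)) * conj ((θ : N → ℂ) m)
        = ∑ n : N, F n * (χ : T → ℂ) (ι n * ι m) * conj ((θ : N → ℂ) m) := by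
      intro m
      rw [Finset.sum_mul]
    rw [Finset.sum_congr rfl fun m _ => s1 m, Finset.sum_comm]
    have s2 : ∀ n : N, ∑ m : N, F n * (χ : T → ℂ) (ι n * ι m) * conj ((θ : N → ℂ) m)
        = ∑ k : N, F n * (χ : T → ℂ) (ι k) * conj ((θ : N → ℂ) (n⁻¹ * k)) := by
      intro n
      apply Fintype.sum_equiv (Equiv.mulLeft n)
      intro m
      simp
    rw [Finset.sum_congr rfl fun n _ => s2 n, Finset.sum_comm, Finset.mul_sum]
    apply Finset.sum_congr rfl
    intro k _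
    have s3 : ∀ n : N, F n * (χ : T → ℂ) (ι k) * conj ((θ : N → ℂ) (n⁻¹ * k))
        = (χ : T → ℂ) (ι k) * (F n * (θ : N → ℂ) (n * k⁻¹)) := by
      intro n
      rw [← irr_inv, mul_inv_rev, inv_inv, irr_mul_comm]
      ring
    rw [Finset.sum_congr rfl fun n _ => s3 n, ← Finset.mul_sum, irr_sum_classfn θ F hF, irr_inv]
    unfold om
    rw [← Finset.sum_div]
    ring
  exact mul_right_cancel₀ hsum (e1.symm.trans e2)

theorem exists_under_hom (ι : N →* T) (χ : IrrCharacter T) :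
    ∃ θ : IrrCharacter N, classInner (fun n => (χ : T → ℂ) (ι n)) (θ : N → ℂ) ≠ 0 := by
  by_contra hne
  push Not at hne
  have hcf : IsClassFunction N (fun n : N => (χ : T → ℂ) (ι n)) := by
    intro n m
    have := irr_conj χ (ι n) (ι m)
    simpa using this
  have := Helper4Char.eq_zero_of_classInner_irr_eq_zero _ hcf (fun θ hθ => hne ⟨θ, hθ⟩)
  have h1 := congrFun this 1
  exact irr_one_ne_zero χ (by simpa using h1)

end hom

section conv

variable {G : Type*} [Group G] [Fintype G]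

theorem conv_blockCoeff_disjoint {A A' : Set (IrrCharacter G)} (h : ∀ χ ∈ A, χ ∉ A') :
    conv (blockCoeff A) (blockCoeff A') = 0 := by
  classical
  have h0 : IsClassFunction G (0 : G → ℂ) := fun _ _ => rfl
  apply om_injective (conv_classfn (blockCoeff_classfn A) (blockCoeff_classfn A')) h0
  intro χ
  rw [om_conv (blockCoeff_classfn A), om_blockCoeff, om_blockCoeff]
  have : om (0 : G → ℂ) χ = 0 := by simp [om]
  rw [this]
  by_cases hχ : χ ∈ A
  · rw [if_neg (h χ hχ), mul_zero]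
  · rw [if_neg hχ, zero_mul]

theorem conj_blockCoeff (A : Set (IrrCharacter G)) (g : G) :
    conj (blockCoeff A g) = blockCoeff A g⁻¹ := by
  classical
  rw [blockCoeff_eq, blockCoeff_eq, map_mul, map_inv₀, Complex.conj_natCast, map_sum]
  congr 1
  apply Finset.sum_congr rfl
  intro χ _
  split_ifs
  · rw [map_mul, ← irr_inv χ 1, inv_one, irr_inv χ g]
  · simp

end conv

section FR

variable {G : Type*} [Group G] [Fintype G] {N : Subgroup G} [Fintype N]
  {M : Ideal AlgInt} {b : Set (IrrCharacter N)} {T : Subgroup G} [Fintype T]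

/-- `T` is the stabilizer of `b`. -/
def IsStab (hN : N.Normal) (b : Set (IrrCharacter N)) (T : Subgroup G) : Prop :=
  ∀ g : G, g ∈ T ↔ ∀ θ ∈ b, cjI hN θ g ∈ b

/-- `θ` lies under the character `ψ` of the intermediate subgroup `T`. -/
def OverT (hNT : N ≤ T) (ψ : IrrCharacter T) (θ : IrrCharacter N) : Prop :=
  classInner (fun n : N => (ψ : T → ℂ) ⟨(n : G), hNT n.2⟩) (θ : N → ℂ) ≠ 0

/-- the idempotent of `U`, as a function on `T`. -/
noncomputable def aT (U : Set (IrrCharacter N)) (T : Subgroup G) : T → ℂ :=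
  fun t => extendByZero N (blockCoeff U) (t : G)

theorem image_eq_of_mem {hN : N.Normal} (hT : IsStab hN b T) {g : G} (hg : g ∈ T) :
    (fun θ => cjI hN θ g) '' b = b := by
  ext θ
  constructor
  · rintro ⟨θ', h, rfl⟩
    exact (hT g).1 hg θ' h
  · intro h
    refine ⟨cjI hN θ g⁻¹, (hT g⁻¹).1 (T.inv_mem hg) θ h, ?_⟩
    dsimp only
    rw [cjI_cjI, inv_mul_cancel, cjI_one]

theorem aT_classfn {hN : N.Normal} {U : Set (IrrCharacter N)}
    (hU : ∀ g ∈ T, (fun θ => cjI hN θ g) '' U = U) : IsClassFunction T (aT U T) := by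
  intro x g
  unfold aT
  have e : ((g * x * g⁻¹ : T) : G) = (g : G) * x * (g : G)⁻¹ := by simp
  rw [e]
  by_cases hx : (x : G) ∈ N
  · have hx' : (g : G) * x * (g : G)⁻¹ ∈ N := hN.conj_mem x hx g
    rw [extendByZero_of_mem N _ hx, extendByZero_of_mem N _ hx']
    have := blockCoeff_cj hN U g ⟨x, hx⟩
    rw [hU g g.2] at this
    exact this
  · have hx' : (g : G) * x * (g : G)⁻¹ ∉ N := by
      intro h
      apply hx
      have := hN.conj_mem _ h (g : G)⁻¹
      have e : (g : G)⁻¹ * ((g : G) * x * (g : G)⁻¹) * (g : G)⁻¹⁻¹ = x := by group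
      rwa [e] at this
    rw [extendByZero_of_not_mem N _ hx, extendByZero_of_not_mem N _ hx']

theorem aT_sum (hNT : N ≤ T) (U : Set (IrrCharacter N)) (f : T → ℂ) :
    ∑ h, aT U T h * f h = ∑ n : N, blockCoeff U n * f (Subgroup.inclusion hNT n) := by
  have h1 := sum_extendByZero_mul T f (extendByZero N (blockCoeff U))
  have h2 := sum_extendByZero_mul N (blockCoeff U) (extendByZero T f)
  have h3 : ∑ h, aT U T h * f h = ∑ h : T, f h * extendByZero N (blockCoeff U) h :=
    Finset.sum_congr rfl fun h _ => mul_comm _ _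
  rw [h3, ← h1]
  have h4 : ∑ g : G, extendByZero T f g * extendByZero N (blockCoeff U) g
      = ∑ g : G, extendByZero N (blockCoeff U) g * extendByZero T f g :=
    Finset.sum_congr rfl fun h _ => mul_comm _ _
  rw [h4, h2]
  apply Finset.sum_congr rfl
  intro n _
  rw [extendByZero_of_mem T f (hNT n.2)]
  rfl

theorem aT_local [M.IsPrime] {U : Set (IrrCharacter N)}
    (hU : ∀ n, MemLocalRing M (blockCoeff U n)) (t : T) : MemLocalRing M (aT U T t) :=
  ext_local hU _

theorem om_aT {hN : N.Normal} (hNT : N ≤ T) {U : Set (IrrCharacter N)} [DecidablePred (· ∈ U)]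
    (hU : ∀ g ∈ T, (fun θ => cjI hN θ g) '' U = U) {ψ : IrrCharacter T} {θ : IrrCharacter N}
    (h : OverT hNT ψ θ) : om (aT U T) ψ = if θ ∈ U then 1 else 0 := by
  rw [om_ext_hom (Subgroup.inclusion hNT) (aT_classfn hU) (blockCoeff_classfn U)
    (aT_sum hNT U) (θ := θ) h, om_blockCoeff]

theorem exists_underT (hNT : N ≤ T) (ψ : IrrCharacter T) : ∃ θ : IrrCharacter N, OverT hNT ψ θ :=
  exists_under_hom (Subgroup.inclusion hNT) ψ

/-- the idempotent of `U` acts as the identity on characters over `U`, as zero on the others. -/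
theorem sum_shift {hN : N.Normal} (hNT : N ≤ T) {U : Set (IrrCharacter N)} [DecidablePred (· ∈ U)]
    (hU : ∀ g ∈ T, (fun θ => cjI hN θ g) '' U = U) {ψ : IrrCharacter T} {θ : IrrCharacter N}
    (h : OverT hNT ψ θ) (t : T) :
    ∑ n : N, blockCoeff U n * (ψ : T → ℂ) (Subgroup.inclusion hNT n * t)
      = (if θ ∈ U then 1 else 0) * (ψ : T → ℂ) t := by
  rw [← aT_sum hNT U (fun x => (ψ : T → ℂ) (x * t)), irr_sum_classfn ψ _ (aT_classfn hU) t,
    ← om_aT hNT hU h]
  unfold om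
  rw [← Finset.sum_div]
  ring

/-- all characters of a block of `T` covering the stable block `b` lie over `b` only. -/
theorem mem_of_overT [M.IsPrime] {hN : N.Normal} (hNT : N ≤ T) (hT : IsStab hN b T)
    (hb : IsPBlock M b) {B' : Set (IrrCharacter T)} (hB' : IsPBlock M B')
    {ψ₀ : IrrCharacter T} (hψ₀ : ψ₀ ∈ B') {θ₀ : IrrCharacter N} (hθ₀ : θ₀ ∈ b)
    (h0 : OverT hNT ψ₀ θ₀) {ψ : IrrCharacter T} (hψ : ψ ∈ B') {θ : IrrCharacter N}
    (h : OverT hNT ψ θ) : θ ∈ b := by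
  classical
  have hU : ∀ g ∈ T, (fun θ => cjI hN θ g) '' b = b := fun g hg => image_eq_of_mem hT hg
  have := om_congr (M := M) (aT_classfn hU) (aT_local (osima hb)) (isPBlock_sameBlock hB' hψ₀ hψ)
  rw [om_aT hNT hU h0, om_aT hNT hU h, if_pos hθ₀] at this
  by_contra hne
  rw [if_neg hne, sub_zero] at this
  exact not_memLocalIdeal_one this

/-- the conjugate of a block is a block. -/
theorem isPBlock_image (hN : N.Normal) (hb : IsPBlock M b) (g : G) :
    IsPBlock M ((fun θ => cjI hN θ g) '' b) := by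
  have := hN
  have := Helper80Transport.isPBlock_mapBlk (M := M) (MulAut.conjNormal g : N ≃* N).symm hb
  have e : Helper80Transport.mapBlk (MulAut.conjNormal g : N ≃* N).symm b
      = (fun θ => cjI hN θ g) '' b := by
    unfold Helper80Transport.mapBlk
    apply Set.image_congr
    intro θ _
    apply Subtype.ext
    funext n
    rfl
  rwa [e] at this

theorem disjoint_of_not_mem [M.IsPrime] {hN : N.Normal} (hT : IsStab hN b T) (hb : IsPBlock M b)
    {g : G} (hg : g ∉ T) : ∀ θ ∈ b, θ ∉ (fun θ => cjI hN θ g) '' b := by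
  intro θ hθ hθ'
  apply hg
  rw [hT g]
  have h1 := isPBlock_eq_blockOf hb hθ
  have h2 := isPBlock_eq_blockOf (isPBlock_image hN hb g) hθ'
  intro θ₁ hθ₁
  rw [h1, ← h2]
  exact ⟨θ₁, hθ₁, rfl⟩

/-- idempotents of sets disjoint from `b` kill the characters of `T` over `b`. -/
theorem sum_shift_zero {hN : N.Normal} (hNT : N ≤ T) (hT : IsStab hN b T)
    {A : Set (IrrCharacter N)} (hA : ∀ θ ∈ b, θ ∉ A) {ψ : IrrCharacter T} {θ : IrrCharacter N}
    (hθ : θ ∈ b) (h : OverT hNT ψ θ) (t : T) :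
    ∑ m : N, blockCoeff A m * (ψ : T → ℂ) (Subgroup.inclusion hNT m * t) = 0 := by
  classical
  have hU : ∀ g ∈ T, (fun θ => cjI hN θ g) '' b = b := fun g hg => image_eq_of_mem hT hg
  have h1 : ∀ m : N, (ψ : T → ℂ) (Subgroup.inclusion hNT m * t)
      = ∑ n : N, blockCoeff b n * (ψ : T → ℂ) (Subgroup.inclusion hNT (n * m) * t) := by
    intro m
    have := sum_shift hNT hU h (Subgroup.inclusion hNT m * t)
    rw [if_pos hθ, one_mul] at this
    rw [← this]
    apply Finset.sum_congr rfl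
    intro n _
    rw [map_mul, mul_assoc]
  have h2 : ∀ m : N, blockCoeff A m * (ψ : T → ℂ) (Subgroup.inclusion hNT m * t)
      = ∑ n : N, blockCoeff b n * blockCoeff A m
        * (ψ : T → ℂ) (Subgroup.inclusion hNT (n * m) * t) := by
    intro m
    rw [h1 m, Finset.mul_sum]
    apply Finset.sum_congr rfl
    intro n _
    ring
  rw [Finset.sum_congr rfl fun m _ => h2 m, Finset.sum_comm]
  have h3 : ∀ n : N, ∑ m : N, blockCoeff b n * blockCoeff A m
        * (ψ : T → ℂ) (Subgroup.inclusion hNT (n * m) * t)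
      = ∑ k : N, blockCoeff b n * blockCoeff A (n⁻¹ * k)
        * (ψ : T → ℂ) (Subgroup.inclusion hNT k * t) := by
    intro n
    apply Fintype.sum_equiv (Equiv.mulLeft n)
    intro m
    simp
  rw [Finset.sum_congr rfl fun n _ => h3 n, Finset.sum_comm]
  apply Finset.sum_eq_zero
  intro k _
  rw [← Finset.sum_mul]
  have := congrFun (conv_blockCoeff_disjoint hA) k
  unfold conv at this
  rw [this]
  simp

theorem sum_ite_mem (T : Subgroup G) [Fintype T] [DecidablePred (· ∈ T)] (c : ℂ) :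
    ∑ g : G, (if g ∈ T then c else 0) = (Nat.card T : ℂ) * c := by
  rw [← Finset.sum_filter, Finset.sum_const, nsmul_eq_mul]
  congr 2
  rw [Nat.card_eq_fintype_card, Fintype.card_subtype]

/-- the `b`-part of the restriction to `T` of the induced character is the original character. -/
theorem sum_shift_ind [M.IsPrime] {hN : N.Normal} (hNT : N ≤ T) (hT : IsStab hN b T)
    (hb : IsPBlock M b) {ψ : IrrCharacter T} {θ : IrrCharacter N}
    (hθ : θ ∈ b) (h : OverT hNT ψ θ) (t : T) :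
    ∑ n : N, blockCoeff b n * indFun T (ψ : T → ℂ) ((n : G) * t) = (ψ : T → ℂ) t := by
  classical
  have hU : ∀ g ∈ T, (fun θ => cjI hN θ g) '' b = b := fun g hg => image_eq_of_mem hT hg
  have hS : ∀ g : G, ∑ n : N, blockCoeff b n * extendByZero T (ψ : T → ℂ) (g⁻¹ * ((n : G) * t) * g)
      = if g ∈ T then (ψ : T → ℂ) t else 0 := by
    intro g
    by_cases hg : g ∈ T
    · rw [if_pos hg]
      have := sum_shift hNT hU h t
      rw [if_pos hθ, one_mul] at this
      rw [← this]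
      apply Finset.sum_congr rfl
      intro n _
      congr 1
      have hmem : g⁻¹ * ((n : G) * t) * g ∈ T :=
        T.mul_mem (T.mul_mem (T.inv_mem hg) (T.mul_mem (hNT n.2) t.2)) hg
      rw [extendByZero_of_mem T _ hmem]
      have e : (⟨g⁻¹ * ((n : G) * t) * g, hmem⟩ : T)
          = (⟨g, hg⟩ : T)⁻¹ * (Subgroup.inclusion hNT n * t) * ((⟨g, hg⟩ : T)⁻¹)⁻¹ := by
        apply Subtype.ext
        simp
      rw [e, irr_conj]
    · rw [if_neg hg]
      by_cases ht : g⁻¹ * (t : G) * g ∈ T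
      · have h1 : ∀ m : N, blockCoeff ((fun θ => cjI hN θ g) '' b) m
            * (ψ : T → ℂ) (Subgroup.inclusion hNT m * ⟨g⁻¹ * (t : G) * g, ht⟩)
            = blockCoeff b (MulAut.conjNormal g m : N)
              * extendByZero T (ψ : T → ℂ) (g⁻¹ * (((MulAut.conjNormal g m : N) : G) * t) * g) := by
          intro m
          rw [← blockCoeff_cj]
          congr 1
          have e : g⁻¹ * (((MulAut.conjNormal g m : N) : G) * t) * g
              = (m : G) * (g⁻¹ * (t : G) * g) := by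
            rw [MulAut.conjNormal_apply]
            group
          rw [e, extendByZero_of_mem T _ (T.mul_mem (hNT m.2) ht)]
          rfl
        rw [← Fintype.sum_equiv (MulAut.conjNormal g : N ≃* N).toEquiv _ _ (fun m => h1 m)]
        exact sum_shift_zero hNT hT (disjoint_of_not_mem hT hb hg) hθ h _
      · apply Finset.sum_eq_zero
        intro n _
        rw [extendByZero_of_not_mem, mul_zero]
        intro hmem
        apply ht
        have hn : g⁻¹ * (n : G) * g ∈ T := by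
          have := hN.conj_mem n n.2 g⁻¹
          rw [inv_inv] at this
          exact hNT this
        have e : g⁻¹ * (t : G) * g = (g⁻¹ * (n : G) * g)⁻¹ * (g⁻¹ * ((n : G) * t) * g) := by group
        rw [e]
        exact T.mul_mem (T.inv_mem hn) hmem
  have h2 : ∀ n : N, blockCoeff b n * indFun T (ψ : T → ℂ) ((n : G) * t)
      = (Nat.card T : ℂ)⁻¹ * ∑ g : G,
        blockCoeff b n * extendByZero T (ψ : T → ℂ) (g⁻¹ * ((n : G) * t) * g) := by
    intro n
    rw [indFun_apply, Finset.mul_sum, Finset.mul_sum, Finset.mul_sum]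
    apply Finset.sum_congr rfl
    intro g _
    ring
  rw [Finset.sum_congr rfl fun n _ => h2 n, ← Finset.mul_sum, Finset.sum_comm,
    Finset.sum_congr rfl fun g _ => hS g, sum_ite_mem, ← mul_assoc,
    inv_mul_cancel₀ (Helper19Ind.card_ne_zero T), one_mul]

/-- induction is an isometry on the characters of `T` over `b`. -/
theorem classInner_ind_ind [M.IsPrime] {hN : N.Normal} (hNT : N ≤ T) (hT : IsStab hN b T)
    (hb : IsPBlock M b) {ψ δ : IrrCharacter T} {θ θ' : IrrCharacter N}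
    (hθ : θ ∈ b) (h : OverT hNT ψ θ) (hθ' : θ' ∈ b) (h' : OverT hNT δ θ') [Decidable (δ = ψ)] :
    classInner (indFun T (δ : T → ℂ)) (indFun T (ψ : T → ℂ)) = if δ = ψ then 1 else 0 := by
  classical
  have hU : ∀ g ∈ T, (fun θ => cjI hN θ g) '' b = b := fun g hg => image_eq_of_mem hT hg
  rw [frobenius T _ _ (indFun_isClassFunction T _)]
  unfold classInner
  have h1 : ∀ s : T, (δ : T → ℂ) s * conj (indFun T (ψ : T → ℂ) s)
      = ∑ n : N, blockCoeff b n * (δ : T → ℂ) (Subgroup.inclusion hNT n * s)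
        * conj (indFun T (ψ : T → ℂ) s) := by
    intro s
    have := sum_shift hNT hU h' s
    rw [if_pos hθ', one_mul] at this
    rw [← Finset.sum_mul, this]
  rw [Finset.sum_congr rfl fun s _ => h1 s, Finset.sum_comm]
  have h2 : ∀ n : N, ∑ s : T, blockCoeff b n * (δ : T → ℂ) (Subgroup.inclusion hNT n * s)
        * conj (indFun T (ψ : T → ℂ) s)
      = ∑ u : T, blockCoeff b n * (δ : T → ℂ) u
        * conj (indFun T (ψ : T → ℂ) (((n⁻¹ : N) : G) * u)) := by
    intro n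
    apply Fintype.sum_equiv (Equiv.mulLeft (Subgroup.inclusion hNT n))
    intro s
    simp
  rw [Finset.sum_congr rfl fun n _ => h2 n, Finset.sum_comm]
  have h3 : ∀ u : T, ∑ n : N, blockCoeff b n * (δ : T → ℂ) u
        * conj (indFun T (ψ : T → ℂ) (((n⁻¹ : N) : G) * u))
      = (δ : T → ℂ) u * conj ((ψ : T → ℂ) u) := by
    intro u
    rw [← sum_shift_ind hNT hT hb hθ h u, map_sum, Finset.mul_sum]
    apply Fintype.sum_equiv (Equiv.inv N)
    intro n
    rw [map_mul, conj_blockCoeff]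
    simp only [Equiv.inv_apply, inv_inv]
    ring
  rw [Finset.sum_congr rfl fun u _ => h3 u, irr_orth]
  split_ifs
  · exact inv_mul_cancel₀ (Helper19Ind.card_ne_zero T)
  · exact mul_zero _

theorem ind_isIrr [M.IsPrime] {hN : N.Normal} (hNT : N ≤ T) (hT : IsStab hN b T)
    (hb : IsPBlock M b) {ψ : IrrCharacter T} {θ : IrrCharacter N}
    (hθ : θ ∈ b) (h : OverT hNT ψ θ) : IsIrrCharacter G (indFun T (ψ : T → ℂ)) := by
  classical
  rw [Helper4Char4.isIrrCharacter_iff]
  refine ⟨S0148.result T _ (Helper4Char.IsIrrCharacter.isCharacter ψ.2), ?_⟩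
  rw [classInner_ind_ind hNT hT hb hθ h hθ h, if_pos rfl]

/-- the induced character, as an irreducible character. -/
noncomputable def indI [M.IsPrime] {hN : N.Normal} (hNT : N ≤ T) (hT : IsStab hN b T)
    (hb : IsPBlock M b) {ψ : IrrCharacter T} {θ : IrrCharacter N}
    (hθ : θ ∈ b) (h : OverT hNT ψ θ) : IrrCharacter G :=
  ⟨indFun T (ψ : T → ℂ), ind_isIrr hNT hT hb hθ h⟩

theorem ind_injective [M.IsPrime] {hN : N.Normal} (hNT : N ≤ T) (hT : IsStab hN b T)
    (hb : IsPBlock M b) {ψ δ : IrrCharacter T} {θ θ' : IrrCharacter N}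
    (hθ : θ ∈ b) (h : OverT hNT ψ θ) (hθ' : θ' ∈ b) (h' : OverT hNT δ θ')
    (e : indFun T (δ : T → ℂ) = indFun T (ψ : T → ℂ)) : δ = ψ := by
  classical
  have h1 := classInner_ind_ind hNT hT hb hθ h hθ' h'
  have h2 := classInner_ind_ind hNT hT hb hθ h hθ h
  rw [e, h2, if_pos rfl] at h1
  by_contra hne
  rw [if_neg hne] at h1
  exact one_ne_zero h1

/-- restriction in stages. -/
theorem classInner_res_eq_sum (hNT : N ≤ T) (χ : IrrCharacter G) (θ : IrrCharacter N) :
    classInner (fun n : N => (χ : G → ℂ) n) (θ : N → ℂ)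
      = ∑ δ : IrrCharacter T, classInner (fun t : T => (χ : G → ℂ) t) (δ : T → ℂ)
        * classInner (fun n : N => (δ : T → ℂ) ⟨(n : G), hNT n.2⟩) (θ : N → ℂ) := by
  have hcf : IsClassFunction T (fun t : T => (χ : G → ℂ) t) := by
    intro t s
    have := irr_conj χ (t : G) (s : G)
    simpa using this
  have h1 := Helper4Char.classFunction_eq_sum _ hcf
  have h2 : (fun n : N => (χ : G → ℂ) n)
      = ∑ δ : IrrCharacter T, classInner (fun t : T => (χ : G → ℂ) t) (δ : T → ℂ)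
        • (fun n : N => (δ : T → ℂ) ⟨(n : G), hNT n.2⟩) := by
    funext n
    have := congrFun h1 ⟨(n : G), hNT n.2⟩
    simp only [Finset.sum_apply, Pi.smul_apply] at this ⊢
    exact this
  rw [h2, Helper4Char.classInner_sum_left]
  apply Finset.sum_congr rfl
  intro δ _
  rw [Helper4Char.classInner_smul_left]

/-- every character of `G` over `b` is induced from a character of `T` over `b`. -/
theorem exists_ind [M.IsPrime] {hN : N.Normal} (hNT : N ≤ T) (hT : IsStab hN b T)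
    (hb : IsPBlock M b) {χ : IrrCharacter G} {θ : IrrCharacter N}
    (hθ : θ ∈ b) (h : Over χ θ) :
    ∃ ψ : IrrCharacter T, OverT hNT ψ θ ∧ (χ : G → ℂ) = indFun T (ψ : T → ℂ) := by
  classical
  unfold Over at h
  rw [classInner_res_eq_sum hNT] at h
  obtain ⟨δ, _, hδ⟩ := Finset.exists_ne_zero_of_sum_ne_zero h
  have h1 := left_ne_zero_of_mul hδ
  have h2 : OverT hNT δ θ := right_ne_zero_of_mul hδ
  refine ⟨δ, h2, ?_⟩
  by_contra hne
  have h3 := Helper4Char.classInner_irr_ne (ind_isIrr hNT hT hb hθ h2) χ.2 (fun e => hne e.symm)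
  rw [frobenius T _ _ (Helper4Char.IsIrrCharacter.isClassFunction χ.2),
    ← Helper4Char.classInner_conj_symm] at h3
  apply h1
  simpa using h3

/-- multiplicities over `b` are preserved by induction. -/
theorem classInner_res_ind [M.IsPrime] {hN : N.Normal} (hNT : N ≤ T) (hT : IsStab hN b T)
    (hb : IsPBlock M b) {ψ : IrrCharacter T} {θ : IrrCharacter N}
    (hθ : θ ∈ b) (h : OverT hNT ψ θ) :
    Over (indI hNT hT hb hθ h) θ := by
  classical
  unfold Over
  rw [classInner_res_eq_sum hNT, Finset.sum_eq_single ψ]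
  · apply mul_ne_zero _ h
    have h1 := classInner_ind_ind hNT hT hb hθ h hθ h
    rw [if_pos rfl, frobenius T _ _ (indFun_isClassFunction T _),
      ← Helper4Char.classInner_conj_symm] at h1
    intro h0
    have h0' : classInner (fun t : T => indFun T (ψ : T → ℂ) t) (ψ : T → ℂ) = 0 := h0
    rw [h0'] at h1
    simp at h1
  · intro δ _ hne
    by_cases hδ : OverT hNT δ θ
    · have h1 := classInner_ind_ind hNT hT hb hθ h hθ hδ
      rw [if_neg hne, frobenius T _ _ (indFun_isClassFunction T _),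
        ← Helper4Char.classInner_conj_symm] at h1
      have h0' : classInner (fun t : T => indFun T (ψ : T → ℂ) t)
          (δ : T → ℂ) = 0 := by
        simpa using h1
      have h0'' : classInner (fun t : T => ((indI hNT hT hb hθ h : IrrCharacter G) : G → ℂ) t)
          (δ : T → ℂ) = 0 := h0'
      rw [h0'', zero_mul]
    · unfold OverT at hδ
      push Not at hδ
      rw [hδ, mul_zero]
  · intro hh
    exact absurd (Finset.mem_univ _) hh

theorem sum_eq_card_mul_sum_out (T : Subgroup G) [Fintype T] [Fintype (G ⧸ T)] (f : G → ℂ)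
    (hf : ∀ (g : G) (t : T), f (g * t) = f g) :
    ∑ g, f g = (Nat.card T : ℂ) * ∑ q : G ⧸ T, f q.out := by
  classical
  have h1 : ∀ g : G, f g = f ((g : G ⧸ T).out) := by
    intro g
    obtain ⟨t, ht⟩ := QuotientGroup.mk_out_eq_mul T g
    rw [ht, hf]
  rw [Finset.sum_congr rfl fun g _ => h1 g,
    Fintype.sum_equiv (Subgroup.groupEquivQuotientProdSubgroup (s := T))
    (fun g : G => f ((g : G ⧸ T).out)) (fun z : (G ⧸ T) × T => f z.1.out) (fun g => rfl),
    Fintype.sum_prod_type, Finset.mul_sum]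
  apply Finset.sum_congr rfl
  intro y _
  simp [Nat.card_eq_fintype_card]

/-- the relative trace of a central element with local coefficients has local coefficients. -/
theorem indFun_local [M.IsPrime] {φ : T → ℂ} (hφ : IsClassFunction T φ)
    (hφ' : ∀ t, MemLocalRing M (φ t)) (x : G) : MemLocalRing M (indFun T φ x) := by
  classical
  rw [indFun_apply, sum_eq_card_mul_sum_out T (fun g => extendByZero T φ (g⁻¹ * x * g)),
    ← mul_assoc, inv_mul_cancel₀ (Helper19Ind.card_ne_zero T), one_mul]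
  · apply memLocalRing_sum
    intro q _
    exact ext_local hφ' _
  · intro g t
    have e : (g * (t : G))⁻¹ * x * (g * t) = (t : G)⁻¹ * (g⁻¹ * x * g) * t := by group
    rw [e]
    by_cases hy : g⁻¹ * x * g ∈ T
    · have hy' : (t : G)⁻¹ * (g⁻¹ * x * g) * t ∈ T := T.mul_mem (T.mul_mem (T.inv_mem t.2) hy) t.2
      rw [extendByZero_of_mem T _ hy, extendByZero_of_mem T _ hy']
      have := hφ ⟨_, hy⟩ t⁻¹
      rw [← this]
      congr 1
      apply Subtype.ext
      simp
    · have hy' : (t : G)⁻¹ * (g⁻¹ * x * g) * t ∉ T := by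
        intro h
        apply hy
        have := T.mul_mem (T.mul_mem t.2 h) (T.inv_mem t.2)
        have e2 : (t : G) * ((t : G)⁻¹ * (g⁻¹ * x * g) * t) * (t : G)⁻¹ = g⁻¹ * x * g := by group
        rwa [e2] at this
      rw [extendByZero_of_not_mem T _ hy, extendByZero_of_not_mem T _ hy']

/-- the relative trace of the idempotent of a block `B'` of `T` covering `b` detects the characters
induced from `B'`. -/
theorem om_ind_blockCoeff [M.IsPrime] {hN : N.Normal} (hNT : N ≤ T) (hT : IsStab hN b T)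
    (hb : IsPBlock M b) {B' : Set (IrrCharacter T)} [DecidablePred (· ∈ B')]
    (hB' : ∀ δ ∈ B', ∃ θ' ∈ b, OverT hNT δ θ')
    {ψ : IrrCharacter T} {θ : IrrCharacter N} (hθ : θ ∈ b) (h : OverT hNT ψ θ) :
    om (indFun T (blockCoeff B')) (indI hNT hT hb hθ h) = if ψ ∈ B' then 1 else 0 := by
  classical
  set χ := indI hNT hT hb hθ h with hχ
  have hχv : (χ : G → ℂ) = indFun T (ψ : T → ℂ) := rfl
  have hcfG : IsClassFunction G (χ : G → ℂ) := Helper4Char.IsIrrCharacter.isClassFunction χ.2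
  have hcf : IsClassFunction T (fun t : T => (χ : G → ℂ) t) := by
    intro t s
    have := irr_conj χ (t : G) (s : G)
    simpa using this
  have h1 := Helper4Char.classFunction_eq_sum _ hcf
  -- the sum over `T`
  have h2 : ∑ t : T, (χ : G → ℂ) t * blockCoeff B' t = if ψ ∈ B' then (ψ : T → ℂ) 1 else 0 := by
    have e1 : ∀ t : T, (χ : G → ℂ) t * blockCoeff B' t
        = ∑ δ : IrrCharacter T, classInner (fun t : T => (χ : G → ℂ) t) (δ : T → ℂ)
          * (blockCoeff B' t * (δ : T → ℂ) t) := by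
      intro t
      have := congrFun h1 t
      simp only [Finset.sum_apply, Pi.smul_apply, smul_eq_mul] at this
      rw [this, Finset.sum_mul]
      apply Finset.sum_congr rfl
      intro δ _
      ring
    rw [Finset.sum_congr rfl fun t _ => e1 t, Finset.sum_comm]
    have e2 : ∀ δ : IrrCharacter T, ∑ t : T, classInner (fun t : T => (χ : G → ℂ) t) (δ : T → ℂ)
          * (blockCoeff B' t * (δ : T → ℂ) t)
        = if δ = ψ then (if ψ ∈ B' then (ψ : T → ℂ) 1 else 0) else 0 := by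
      intro δ
      rw [← Finset.mul_sum]
      have e3 : ∑ t : T, blockCoeff B' t * (δ : T → ℂ) t
          = (if δ ∈ B' then 1 else 0) * (δ : T → ℂ) 1 := by
        rw [← om_blockCoeff B' δ]
        unfold om
        rw [← Finset.sum_div]
        field_simp [irr_one_ne_zero δ]
      rw [e3]
      by_cases hδ : δ ∈ B'
      · obtain ⟨θ', hθ', hδ'⟩ := hB' δ hδ
        have h3 := classInner_ind_ind hNT hT hb hθ h hθ' hδ'
        rw [frobenius T _ _ (indFun_isClassFunction T _),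
          ← Helper4Char.classInner_conj_symm] at h3
        have h4 : classInner (fun t : T => (χ : G → ℂ) t) (δ : T → ℂ) = if δ = ψ then 1 else 0 := by
          have := congrArg conj h3
          rw [Complex.conj_conj] at this
          rw [hχv, this]
          split_ifs <;> simp
        rw [h4, if_pos hδ]
        by_cases he : δ = ψ
        · subst he
          simp [hδ]
        · simp [he]
      · rw [if_neg hδ, zero_mul, mul_zero]
        by_cases he : δ = ψ
        · subst he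
          simp [hδ]
        · simp [he]
    rw [Finset.sum_congr rfl fun δ _ => e2 δ]
    simp
  have h3 := Helper20IndBlock.sum_mul_indFun T hcfG (blockCoeff B')
  rw [h2] at h3
  unfold om
  rw [← Finset.sum_div]
  have h4 : ∑ g : G, indFun T (blockCoeff B') g * (χ : G → ℂ) g
      = ∑ g : G, (χ : G → ℂ) g * indFun T (blockCoeff B') g :=
    Finset.sum_congr rfl fun g _ => mul_comm _ _
  rw [h4, h3, hχv, Helper20IndBlock.indFun_one]
  have hT0 := Helper19Ind.card_ne_zero T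
  have hG0 : (Nat.card G : ℂ) ≠ 0 := card_ne_zero
  have hψ1 := irr_one_ne_zero ψ
  split_ifs
  · field_simp
  · simp

theorem centralChar_indI [M.IsPrime] {hN : N.Normal} (hNT : N ≤ T) (hT : IsStab hN b T)
    (hb : IsPBlock M b) {ψ : IrrCharacter T} {θ : IrrCharacter N} (hθ : θ ∈ b)
    (h : OverT hNT ψ θ) (g : G) :
    centralChar (indI hNT hT hb hθ h : G → ℂ) g = inducedCentralChar T (ψ : T → ℂ) g :=
  (Helper20IndBlock.inducedCentralChar_eq_centralChar T (ψ : T → ℂ) g).symm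

theorem sameBlock_ind [M.IsPrime] {hN : N.Normal} (hNT : N ≤ T) (hT : IsStab hN b T)
    (hb : IsPBlock M b) {ψ ψ' : IrrCharacter T} {θ θ' : IrrCharacter N} (hθ : θ ∈ b)
    (h : OverT hNT ψ θ) (hθ' : θ' ∈ b) (h' : OverT hNT ψ' θ')
    (hs : SameBlock M (ψ : T → ℂ) (ψ' : T → ℂ)) :
    SameBlock M (indI hNT hT hb hθ h : G → ℂ) (indI hNT hT hb hθ' h' : G → ℂ) := by
  intro g
  rw [centralChar_indI, centralChar_indI]
  exact induced_congr hs g

theorem all_over [M.IsPrime] {hN : N.Normal} (hNT : N ≤ T) (hT : IsStab hN b T)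
    (hb : IsPBlock M b) {B' : Set (IrrCharacter T)} (hB' : IsPBlock M B')
    (hcov : ∃ ψ ∈ B', ∃ θ ∈ b, OverT hNT ψ θ) : ∀ δ ∈ B', ∃ θ' ∈ b, OverT hNT δ θ' := by
  obtain ⟨ψ₀, hψ₀, θ₀, hθ₀, h0⟩ := hcov
  intro δ hδ
  obtain ⟨θ', h'⟩ := exists_underT hNT δ
  exact ⟨θ', mem_of_overT hNT hT hb hB' hψ₀ hθ₀ h0 hδ h', h'⟩

/-- characters induced from `T` in the same block of `G` come from the same block of `T`. -/
theorem mem_of_sameBlock_ind [M.IsPrime] {hN : N.Normal} (hNT : N ≤ T) (hT : IsStab hN b T)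
    (hb : IsPBlock M b) {B' : Set (IrrCharacter T)} (hB' : IsPBlock M B')
    (hcov : ∃ ψ ∈ B', ∃ θ ∈ b, OverT hNT ψ θ)
    {ψ ψ' : IrrCharacter T} {θ θ' : IrrCharacter N} (hθ : θ ∈ b)
    (h : OverT hNT ψ θ) (hθ' : θ' ∈ b) (h' : OverT hNT ψ' θ') (hψ : ψ ∈ B')
    (hs : SameBlock M (indI hNT hT hb hθ h : G → ℂ) (indI hNT hT hb hθ' h' : G → ℂ)) :
    ψ' ∈ B' := by
  classical
  have hall := all_over hNT hT hb hB' hcov
  have := om_congr (M := M) (indFun_isClassFunction T (blockCoeff B'))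
    (indFun_local (blockCoeff_classfn B') (osima hB')) hs
  rw [om_ind_blockCoeff hNT hT hb hall, om_ind_blockCoeff hNT hT hb hall, if_pos hψ] at this
  by_contra hne
  rw [if_neg hne, sub_zero] at this
  exact not_memLocalIdeal_one this

/-- Fong–Reynolds, part (i). -/
theorem fr_induce [M.IsPrime] {hN : N.Normal} (hNT : N ≤ T) (hT : IsStab hN b T)
    (hb : IsPBlock M b) {B' : Set (IrrCharacter T)} (hB' : IsPBlock M B')
    (hcov : ∃ ψ ∈ B', ∃ θ ∈ b, OverT hNT ψ θ) :
    ∃ B : Set (IrrCharacter G), IsInducedBlock M T B' B ∧ (∃ χ ∈ B, ∃ θ ∈ b, Over χ θ) ∧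
      (∀ ψ ∈ B', IsIrrCharacter G (indFun T (ψ : T → ℂ))) ∧
      ∀ χ : IrrCharacter G, χ ∈ B ↔ ∃ ψ ∈ B', (χ : G → ℂ) = indFun T (ψ : T → ℂ) := by
  classical
  have hall := all_over hNT hT hb hB' hcov
  obtain ⟨ψ₀, hψ₀, θ₀, hθ₀, h0⟩ := hcov
  set χ₀ := indI hNT hT hb hθ₀ h0 with hχ₀
  have hB : IsPBlock M (blockOf M (χ₀ : G → ℂ)) := isPBlock_blockOf χ₀
  have hcovB : ∃ χ ∈ blockOf M (χ₀ : G → ℂ), ∃ θ ∈ b, Over χ θ :=
    ⟨χ₀, self_mem_blockOf χ₀, θ₀, hθ₀, classInner_res_ind hNT hT hb hθ₀ h0⟩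
  have hmem : ∀ ψ ∈ B', ∀ θ (hθ : θ ∈ b) (h : OverT hNT ψ θ),
      indI hNT hT hb hθ h ∈ blockOf M (χ₀ : G → ℂ) := by
    intro ψ hψ θ hθ h
    exact sameBlock_ind hNT hT hb hθ₀ h0 hθ h (isPBlock_sameBlock hB' hψ₀ hψ)
  refine ⟨blockOf M (χ₀ : G → ℂ), ⟨hB', hB, ?_⟩, hcovB, ?_, ?_⟩
  · intro ξ hξ χ hχ g
    obtain ⟨θ, hθ, h⟩ := hall ξ hξ
    rw [← centralChar_indI hNT hT hb hθ h]
    exact isPBlock_sameBlock hB (hmem ξ hξ θ hθ h) hχ g
  · intro ψ hψ
    obtain ⟨θ, hθ, h⟩ := hall ψ hψ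
    exact ind_isIrr hNT hT hb hθ h
  · intro χ
    constructor
    · intro hχ
      obtain ⟨θ₁, hθ₁⟩ := exists_under (N := N) χ
      obtain ⟨θ', hθ', ho⟩ := covers_of_mem_orb (M := M) hN hθ₁
        (mem_orb_of_mem hN hB hb hcovB hχ hθ₁)
      obtain ⟨ψ₁, h1, e⟩ := exists_ind hNT hT hb hθ' ho
      refine ⟨ψ₁, ?_, e⟩
      have e' : χ = indI hNT hT hb hθ' h1 := Subtype.ext e
      apply mem_of_sameBlock_ind hNT hT hb hB' ⟨ψ₀, hψ₀, θ₀, hθ₀, h0⟩ hθ₀ h0 hθ' h1 hψ₀
      rw [← e']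
      exact hχ
    · rintro ⟨ψ, hψ, e⟩
      obtain ⟨θ, hθ, h⟩ := hall ψ hψ
      have e' : χ = indI hNT hT hb hθ h := Subtype.ext e
      rw [e']
      exact hmem ψ hψ θ hθ h

/-- Fong–Reynolds, part (ii). -/
theorem fr_injective [M.IsPrime] {hN : N.Normal} (hNT : N ≤ T) (hT : IsStab hN b T)
    (hb : IsPBlock M b) {B'₁ B'₂ : Set (IrrCharacter T)} (hB'₁ : IsPBlock M B'₁)
    (hB'₂ : IsPBlock M B'₂) (hcov₁ : ∃ ψ ∈ B'₁, ∃ θ ∈ b, OverT hNT ψ θ)
    (hcov₂ : ∃ ψ ∈ B'₂, ∃ θ ∈ b, OverT hNT ψ θ) {B : Set (IrrCharacter G)}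
    (h1 : IsInducedBlock M T B'₁ B) (h2 : IsInducedBlock M T B'₂ B) : B'₁ = B'₂ := by
  obtain ⟨ψ₁, hψ₁, θ₁, hθ₁, ho₁⟩ := hcov₁
  obtain ⟨ψ₂, hψ₂, θ₂, hθ₂, ho₂⟩ := hcov₂
  obtain ⟨χ, hχ⟩ := isPBlock_nonempty h1.2.1
  have hs : SameBlock M (indI hNT hT hb hθ₁ ho₁ : G → ℂ) (indI hNT hT hb hθ₂ ho₂ : G → ℂ) := by
    intro g
    rw [centralChar_indI, centralChar_indI]
    have := memLocalIdeal_sub (h1.2.2 ψ₁ hψ₁ χ hχ g) (h2.2.2 ψ₂ hψ₂ χ hχ g)
    simpa using this
  have := mem_of_sameBlock_ind hNT hT hb hB'₁ ⟨ψ₁, hψ₁, θ₁, hθ₁, ho₁⟩ hθ₁ ho₁ hθ₂ ho₂ hψ₁ hs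
  rw [isPBlock_eq_blockOf hB'₁ this, isPBlock_eq_blockOf hB'₂ hψ₂]

/-- Fong–Reynolds, part (iii). -/
theorem fr_surjective [M.IsPrime] {hN : N.Normal} (hNT : N ≤ T) (hT : IsStab hN b T)
    (hb : IsPBlock M b) {B : Set (IrrCharacter G)} (hB : IsPBlock M B)
    (hcov : ∃ χ ∈ B, ∃ θ ∈ b, Over χ θ) :
    ∃ B' : Set (IrrCharacter T), IsPBlock M B' ∧ (∃ ψ ∈ B', ∃ θ ∈ b, OverT hNT ψ θ) ∧
      IsInducedBlock M T B' B := by
  obtain ⟨χ, hχ, θ, hθ, ho⟩ := hcov
  obtain ⟨ψ, h1, e⟩ := exists_ind hNT hT hb hθ ho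
  have hc : ∃ ψ' ∈ blockOf M (ψ : T → ℂ), ∃ θ ∈ b, OverT hNT ψ' θ :=
    ⟨ψ, self_mem_blockOf ψ, θ, hθ, h1⟩
  refine ⟨blockOf M (ψ : T → ℂ), isPBlock_blockOf ψ, hc, ?_⟩
  obtain ⟨B₁, hi, _, _, hiff⟩ := fr_induce hNT hT hb (isPBlock_blockOf ψ) hc
  have hχ₁ : χ ∈ B₁ := (hiff χ).2 ⟨ψ, self_mem_blockOf ψ, e⟩
  have : B₁ = B := by
    rw [isPBlock_eq_blockOf hi.2.1 hχ₁, isPBlock_eq_blockOf hB hχ]
  rwa [this] at hi

theorem isStab_of {hN : N.Normal}
    (hT : ∀ g : G, g ∈ T ↔ ∀ θ ∈ b, ∀ θ' : IrrCharacter N,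
      (∀ n : N, (θ' : N → ℂ) n = (θ : N → ℂ) ⟨g * n * g⁻¹, hN.conj_mem n n.2 g⟩) → θ' ∈ b) :
    IsStab hN b T := by
  intro g
  rw [hT g]
  constructor
  · intro h θ hθ
    exact h θ hθ _ (fun n => rfl)
  · intro h θ hθ θ' he
    have : θ' = cjI hN θ g := Subtype.ext (funext he)
    rw [this]
    exact h θ hθ

end FR

end Cfsg.Agent.Lib.Helper21FR
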