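import Mathlib
import Cfsg.Prelude.Def_Blocks
import Cfsg.Agent.Lib.Helper20Knorr
import Cfsg.Agent.Lib.Helper20Conj
import Cfsg.Agent.Lib.Helper21Cover4
import Cfsg.Agent.Lib.Helper21FR
import Cfsg.Agent.Lib.Helper80Stab
import Cfsg.Agent.Lib.Helper80Conj
import Cfsg.Agent.Lib.Helper20DefCard

set_option autoImplicit false
set_option linter.unusedSectionVars false
set_option linter.unusedVariables false

/-! Knörr's theorem on defect groups of covering blocks. -/

namespace Cfsg.Agent.Lib.Helper20Cov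

open Cfsg
open Cfsg.Agent.Lib.Helper20Local Cfsg.Agent.Lib.Helper20Center Cfsg.Agent.Lib.Helper20Block
open Cfsg.Agent.Lib.Helper20Ideal Cfsg.Agent.Lib.Helper20GA Cfsg.Agent.Lib.Helper20Defect
open Cfsg.Agent.Lib.Helper19Ind Cfsg.Agent.Lib.Helper20First Cfsg.Agent.Lib.Helper20Induced
open Cfsg.Agent.Lib.Helper4Char Cfsg.Agent.Lib.Helper4Char2
open Cfsg.Agent.Lib.Helper87Sylow Cfsg.Agent.Lib.Helper20Sub Cfsg.Agent.Lib.Helper20Knorr
open Cfsg.Agent.Lib.Helper20Conj Cfsg.Agent.Lib.Helper20DefCard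
open Cfsg.Agent.Lib.Helper21Cover Cfsg.Agent.Lib.Helper21Cover4

variable {G : Type*} [Group G] [Fintype G] {N : Subgroup G} [Fintype N] {M : Ideal Cfsg.AlgInt}

theorem om81_eq (α : G → ℂ) (χ : IrrCharacter G) :
    Helper81Block.om α χ = om (χ : G → ℂ) α := by
  unfold Helper81Block.om om
  rw [Finset.sum_div]

/-- `B` covers `b`. -/
abbrev Cv (B : Set (IrrCharacter G)) (b : Set (IrrCharacter N)) : Prop :=
  ∃ χ ∈ B, ∃ θ ∈ b, classInner (fun n : N => (χ : G → ℂ) n) (θ : N → ℂ) ≠ 0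

theorem isSC_orb (hM : M.IsPrime) (hN : N.Normal) {b : Set (IrrCharacter N)}
    (hb : IsPBlock M b) : IsSC M (blockCoeff (orb hN b)) := by
  have := hM
  exact ⟨blockCoeff_isClassFunction _, orb_local hN (isSC_blockCoeff hM hb).2⟩

theorem isSC_ext_orb (hM : M.IsPrime) (hN : N.Normal) {b : Set (IrrCharacter N)}
    (hb : IsPBlock M b) : IsSC M (extendByZero N (blockCoeff (orb hN b))) := by
  refine ⟨ext_blockCoeff_classfn hN (orb_stable hN b), fun g => ?_⟩
  by_cases hg : g ∈ N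
  · rw [extendByZero_of_mem N _ hg]; exact (isSC_orb hM hN hb).2 _
  · rw [extendByZero_of_not_mem N _ hg]; exact memLocalRing_zero hM

theorem om_ext_orb (hM : M.IsPrime) (hN : N.Normal) {B : Set (IrrCharacter G)}
    (hB : IsPBlock M B) {b : Set (IrrCharacter N)} (hb : IsPBlock M b) (hcov : Cv B b)
    {χ : IrrCharacter G} (hχ : χ ∈ B) :
    om (χ : G → ℂ) (extendByZero N (blockCoeff (orb hN b))) = 1 := by
  classical
  have := hM
  obtain ⟨θ, hθ⟩ := exists_under (N := N) χ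
  rw [← om81_eq, om_ext_blockCoeff hN (orb_stable hN b) hθ,
    if_pos (mem_orb_of_mem hN hB hb hcov hχ hθ)]

theorem absorb (hM : M.IsPrime) (hN : N.Normal) {B : Set (IrrCharacter G)}
    (hB : IsPBlock M B) {b : Set (IrrCharacter N)} (hb : IsPBlock M b) (hcov : Cv B b) :
    conv (extendByZero N (blockCoeff (orb hN b))) (blockCoeff B) = blockCoeff B := by
  classical
  have h1 := (isSC_ext_orb hM hN hb).1
  apply omVec_injective (conv_isClassFunction h1 (blockCoeff_isClassFunction B))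
    (blockCoeff_isClassFunction B)
  funext χ
  simp only [omVec]
  rw [om_conv χ.2 h1 (blockCoeff_isClassFunction B), om_blockCoeff]
  by_cases hχ : χ ∈ B
  · rw [om_ext_orb hM hN hB hb hcov hχ, one_mul]
  · rw [if_neg hχ, mul_zero]

/-- conjugating the argument of a central character. -/
theorem om_cjI (hN : N.Normal) (θ : IrrCharacter N) (g : G) (a : N → ℂ) :
    om ((cjI hN θ g : IrrCharacter N) : N → ℂ) a
      = om (θ : N → ℂ) (fun n : N => a ⟨g⁻¹ * n * g, by
          have := hN.conj_mem n n.2 g⁻¹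
          rwa [inv_inv] at this⟩) := by
  have := hN
  unfold om
  have h1 : (cjI hN θ g : N → ℂ) 1 = (θ : N → ℂ) 1 := by
    rw [cjI_apply]
    have e : (⟨g * ((1 : N) : G) * g⁻¹, hN.conj_mem _ (1 : N).2 g⟩ : N) = 1 :=
      Subtype.ext (by simp)
    rw [e]
  rw [h1]
  congr 1
  refine Fintype.sum_equiv (MulAut.conjNormal g : N ≃* N).toEquiv _ _ (fun n => ?_)
  rw [cjI_apply]
  have e1 : ((MulAut.conjNormal g : N ≃* N).toEquiv n) = ⟨g * n * g⁻¹, hN.conj_mem n n.2 g⟩ := by
    apply Subtype.ext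
    simp
  rw [e1]
  congr 2
  apply Subtype.ext
  simp only
  group

variable {p : ℕ} [Fact p.Prime]

/-- the lower bound in Knörr's theorem. -/
theorem exists_cj_le_defectGroup (hM : IsPModular p M) [hN : N.Normal]
    {b : Set (IrrCharacter N)} (hb : IsPBlock M b) {B : Set (IrrCharacter G)} (hB : IsPBlock M B)
    (hcov : Cv B b) {Q : Subgroup G} (hQ : IsPGroup p Q) (hQN : Q ≤ N)
    (hQb : ∃ x : N, (x : G) ∈ Subgroup.centralizer (Q : Set G) ∧
      ¬ MemLocalIdeal M (blockCoeff b x))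
    {D : Subgroup G} (hD : IsDefectGroup p M B D) : ∃ x : G, cj x Q ≤ D := by
  classical
  have hP := IsPModular.isPrime hM
  rw [← coeff_iff_le_defectGroup hM hB hD hQ]
  apply exists_coeff_of_absorb hM N (isSC_orb hP hN hb) hB (absorb hP hN hB hb hcov) hQ hQN
  intro θ' hθ' a ha haJ
  obtain ⟨g, θ, hθ, rfl⟩ := (mem_orb hN b θ').1 hθ'
  rw [om_cjI]
  set a' : N → ℂ := fun n : N => a ⟨g⁻¹ * n * g, by
          have := hN.conj_mem n n.2 g⁻¹
          rwa [inv_inv] at this⟩ with ha'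
  have ha'SC : IsSC M a' := by
    refine ⟨fun n m => ?_, fun n => ha.2 _⟩
    simp only [ha']
    have := ha.1 ⟨g⁻¹ * n * g, by
          have := hN.conj_mem n n.2 g⁻¹
          rwa [inv_inv] at this⟩ ⟨g⁻¹ * m * g, by
          have := hN.conj_mem m m.2 g⁻¹
          rwa [inv_inv] at this⟩
    rw [← this]
    congr 1
    apply Subtype.ext
    simp only [Subgroup.coe_mul, Subgroup.coe_inv]
    group
  have hT : IsIdealSet (G := N) M (fun n : N => (n : G) ∈ Subgroup.centralizer (Q : Set G)) := by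
    apply isIdealSet_of_centralizer hM
    intro c hc
    refine ⟨Q.subgroupOf N, hQ.comap_subtype, (mem_centralizer_subgroupOf_iff hQN c).2 hc, ?_⟩
    intro d hd
    exact (mem_centralizer_subgroupOf_iff hQN d).1 hd
  by_contra hnot
  have hJ : InJ M (fun n : N => (n : G) ∈ Subgroup.centralizer (Q : Set G)) (omVec a') := by
    refine ⟨a', ha'SC, fun n hn => ?_, rfl⟩
    apply haJ g⁻¹
    have := (Helper80Conj.mem_centralizer_cj g⁻¹ Q (n : G)).1 hn
    rwa [inv_inv] at this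
  obtain ⟨x, hx, hx'⟩ := hQb
  exact hx' (blockCoeff_mem_of_inJ hP hb hT hJ hθ hnot x hx)

theorem blockCoeff_eq_sum_inter (hM : M.IsPrime) {K : Type*} [Group K] [Fintype K]
    (U : Set (IrrCharacter K)) (y : K) :
    blockCoeff U y = ∑ β : Helper80Pairs.Blk M K, blockCoeff (U ∩ β.1) y := by
  have h1 : blockCoeff U y = conv (blockCoeff U) (∑ β : Helper80Pairs.Blk M K, blockCoeff β.1) y := by
    rw [Helper80Pairs.sum_blockCoeff hM, conv_delta]
  rw [h1]
  simp only [conv, Finset.sum_apply, Finset.mul_sum]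
  rw [Finset.sum_comm]
  apply Finset.sum_congr rfl
  intro β _
  exact congrFun (Helper80Stab.conv_blockCoeff U β.1) y

/-- a class in `N` at which both the idempotent of `b` and the central character of `B` are units. -/
theorem exists_coeff_centralChar (hM : M.IsPrime) [hN : N.Normal]
    {b : Set (IrrCharacter N)} (hb : IsPBlock M b) {B : Set (IrrCharacter G)} (hB : IsPBlock M B)
    (hcov : Cv B b) {χ : IrrCharacter G} (hχ : χ ∈ B) :
    ∃ y : N, ¬ MemLocalIdeal M (blockCoeff b y) ∧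
      ¬ MemLocalIdeal M (centralChar (χ : G → ℂ) (y : G)) := by
  classical
  have h1 := om_ext_orb hM hN hB hb hcov hχ
  have hSC := isSC_ext_orb hM hN hb
  rw [om_eq_sum_classes (IsIrrCharacter.isClassFunction χ.2) hSC.1] at h1
  have h2 : ∃ C : ConjClasses G, ¬ MemLocalIdeal M
      (extendByZero N (blockCoeff (orb hN b)) (rep C) * centralChar (χ : G → ℂ) (rep C)) := by
    by_contra hcon
    push Not at hcon
    have := liSum hM Finset.univ _ (fun C _ => hcon C)
    rw [h1] at this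
    exact not_memLocalIdeal_one hM this
  obtain ⟨C, hC⟩ := h2
  have h3 : ¬ MemLocalIdeal M (extendByZero N (blockCoeff (orb hN b)) (rep C)) :=
    fun h => hC (liMulRight hM h (centralChar_mem hM χ.2 _))
  have h4 : ¬ MemLocalIdeal M (centralChar (χ : G → ℂ) (rep C)) :=
    fun h => hC (liMulLeft hM (hSC.2 _) h)
  have hmem : rep C ∈ N := by
    by_contra hn
    rw [extendByZero_of_not_mem N _ hn] at h3
    exact h3 (memLocalIdeal_zero hM)
  rw [extendByZero_of_mem N _ hmem, blockCoeff_eq_sum_inter hM] at h3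
  have h5 : ∃ β : Helper80Pairs.Blk M N,
      ¬ MemLocalIdeal M (blockCoeff (orb hN b ∩ β.1) ⟨rep C, hmem⟩) := by
    by_contra hcon
    push Not at hcon
    exact h3 (liSum hM Finset.univ _ (fun β _ => hcon β))
  obtain ⟨β, hβ⟩ := h5
  have hne : (orb hN b ∩ β.1).Nonempty := by
    by_contra hemp
    rw [Set.not_nonempty_iff_eq_empty] at hemp
    rw [hemp, Helper80Stab.blockCoeff_empty] at hβ
    exact hβ (memLocalIdeal_zero hM)
  obtain ⟨θ', hθ'U, hθ'β⟩ := hne
  obtain ⟨g, θ, hθ, rfl⟩ := (mem_orb hN b θ').1 hθ'U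
  have himg := Helper21FR.isPBlock_image hN hb g
  have heq : β.1 = (fun θ => cjI hN θ g) '' b :=
    IsPBlock.eq_of_mem hM β.2 himg hθ'β ⟨θ, hθ, rfl⟩
  have hsub : orb hN b ∩ β.1 = (fun θ => cjI hN θ g) '' b := by
    rw [heq]
    apply Set.inter_eq_right.2
    rintro _ ⟨θ₁, h₁, rfl⟩
    exact (mem_orb hN b _).2 ⟨g, θ₁, h₁, rfl⟩
  rw [hsub, ← blockCoeff_cj] at hβ
  refine ⟨_, hβ, ?_⟩
  simp only
  rw [centralChar_conj (IsIrrCharacter.isClassFunction χ.2)]
  exact h4

theorem cj_inf_normal [hN : N.Normal] (t : G) (D : Subgroup G) : cj t (D ⊓ N) = cj t D ⊓ N := by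
  ext x
  simp only [mem_cj, Subgroup.mem_inf]
  constructor
  · rintro ⟨h1, h2⟩
    refine ⟨h1, ?_⟩
    have := hN.conj_mem _ h2 t
    have e1 : t * (t⁻¹ * x * t) * t⁻¹ = x := by group
    rwa [e1] at this
  · rintro ⟨h1, h2⟩
    refine ⟨h1, ?_⟩
    have := hN.conj_mem _ h2 t⁻¹
    rwa [inv_inv] at this

/-- the upper bound in Knörr's theorem. -/
theorem inf_le_cj (hM : IsPModular p M) [hN : N.Normal]
    {b : Set (IrrCharacter N)} (hb : IsPBlock M b) {B : Set (IrrCharacter G)} (hB : IsPBlock M B)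
    (hcov : Cv B b) {Q : Subgroup G} (hQN : Q ≤ N)
    (hQ : IsDefectGroup p M b (Q.subgroupOf N))
    {D : Subgroup G} (hD : IsDefectGroup p M B D) : ∃ g : G, D ⊓ N ≤ cj g Q := by
  classical
  have hP := IsPModular.isPrime hM
  obtain ⟨χ, hχ⟩ := IsPBlock.nonempty hP hB
  obtain ⟨θ, hθ⟩ := IsPBlock.nonempty hP hb
  obtain ⟨y, hy1, hy2⟩ := exists_coeff_centralChar hP hb hB hcov hχ
  obtain ⟨S, hS⟩ := exists_sylIn (p := p) (Subgroup.centralizer ({(y : G)} : Set G))
  obtain ⟨t, ht⟩ := defectGroup_le_of_centralChar hM hB hD hχ hy2 hS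
  obtain ⟨g0, hg0, hQS⟩ := isDefectGroup_iff.1 hQ
  have hcs := cSub_of_blockCoeff hM hb hθ (hg0.2.2 θ hθ) hQS hy1
  have hDp : IsPGroup p D := IsPGroup.of_card (card_defectGroup hM hB hD)
  set R : Subgroup G := cj t⁻¹ (D ⊓ N) with hR
  have hRN : R ≤ N := by rw [hR, cj_inf_normal]; exact inf_le_right
  have hRS : R ≤ S := by
    rw [hR, cj_le_iff, inv_inv]
    exact inf_le_left.trans ht
  have hRp : IsPGroup p R := isPGroup_cj (hDp.to_le inf_le_left)
  obtain ⟨x, hx⟩ := hcs (R.subgroupOf N) hRp.comap_subtype (by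
    intro r hr
    rw [Subgroup.mem_centralizer_singleton_iff]
    have h1 := hS.1 (hRS (Subgroup.mem_subgroupOf.1 hr))
    rw [Subgroup.mem_centralizer_singleton_iff] at h1
    apply Subtype.ext
    simpa using h1)
  refine ⟨t * x, ?_⟩
  rw [← cj_cj, ← inv_inv t, ← cj_le_iff, ← hR]
  intro r hr
  have h1 := hx (Subgroup.mem_subgroupOf.2 (show ((⟨r, hRN hr⟩ : N) : G) ∈ R from hr))
  rw [mem_cj, Subgroup.mem_subgroupOf] at h1
  rw [mem_cj]
  simpa using h1

/-- **Knörr's theorem.** -/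
theorem knorr (hM : IsPModular p M) [hN : N.Normal]
    {b : Set (IrrCharacter N)} (hb : IsPBlock M b) {B : Set (IrrCharacter G)} (hB : IsPBlock M B)
    (hcov : Cv B b) {Q : Subgroup G} (hQN : Q ≤ N)
    (hQ : IsDefectGroup p M b (Q.subgroupOf N))
    {D : Subgroup G} (hD : IsDefectGroup p M B D) : ∃ x : G, D ⊓ N = cj x Q := by
  have hP := IsPModular.isPrime hM
  obtain ⟨g, hg⟩ := inf_le_cj hM hb hB hcov hQN hQ hD
  have hQp : IsPGroup p Q := by
    have h1 : IsPGroup p (Q.subgroupOf N) := IsPGroup.of_card (card_defectGroup hM hb hQ)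
    exact h1.of_equiv (Subgroup.subgroupOfEquivOfLe hQN)
  obtain ⟨g0, hg0, hQS⟩ := isDefectGroup_iff.1 hQ
  obtain ⟨x, hx⟩ := exists_cj_le_defectGroup hM hb hB hcov hQp hQN
    ⟨g0, (mem_centralizer_subgroupOf_iff hQN g0).1 (le_centralizer_singleton_iff.1 hQS.1),
      hg0.2.1⟩ hD
  refine ⟨x, (Subgroup.eq_of_le_of_card_ge (le_inf hx ?_) ?_).symm⟩
  · intro y hy
    rw [mem_cj] at hy
    have := hN.conj_mem _ (hQN hy) x
    have e1 : x * (x⁻¹ * y * x) * x⁻¹ = y := by group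
    rwa [e1] at this
  · rw [card_cj, ← card_cj g Q]
    exact Subgroup.card_le_of_le hg

end Cfsg.Agent.Lib.Helper20Cov
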