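import Mathlib
import Cfsg.Prelude.Def_Blocks
import Cfsg.Agent.Lib.Helper20Cov
import Cfsg.Agent.Lib.Helper20Height

set_option autoImplicit false
set_option linter.unusedSectionVars false
set_option linter.unusedVariables false

/-! Fong's theorem on blocks covering a stable block. -/

namespace Cfsg.Agent.Lib.Helper20Fong

open Cfsg
open Cfsg.Agent.Lib.Helper20Local Cfsg.Agent.Lib.Helper20Center Cfsg.Agent.Lib.Helper20Block
open Cfsg.Agent.Lib.Helper20Ideal Cfsg.Agent.Lib.Helper20Defect
open Cfsg.Agent.Lib.Helper19Ind Cfsg.Agent.Lib.Helper20First Cfsg.Agent.Lib.Helper20Induced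
open Cfsg.Agent.Lib.Helper4Char Cfsg.Agent.Lib.Helper4Char2
open Cfsg.Agent.Lib.Helper87Sylow Cfsg.Agent.Lib.Helper20Sub
open Cfsg.Agent.Lib.Helper20Conj Cfsg.Agent.Lib.Helper20DefCard Cfsg.Agent.Lib.Helper20Height
open Cfsg.Agent.Lib.Helper21Cover Cfsg.Agent.Lib.Helper21Cover4 Cfsg.Agent.Lib.Helper20Cov

variable {G : Type*} [Group G] [Fintype G] {N : Subgroup G} [Fintype N] {M : Ideal Cfsg.AlgInt}

theorem cj_le_normal [hN : N.Normal] {Q : Subgroup G} (hQN : Q ≤ N) (x : G) : cj x Q ≤ N := by
  intro y hy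
  rw [mem_cj] at hy
  have := hN.conj_mem _ (hQN hy) x
  have e1 : x * (x⁻¹ * y * x) * x⁻¹ = y := by group
  rwa [e1] at this

theorem centralChar_cjI (hN : N.Normal) (θ : IrrCharacter N) (g : G) (n : N) :
    centralChar ((cjI hN θ g : IrrCharacter N) : N → ℂ) n
      = centralChar (θ : N → ℂ) ⟨g * n * g⁻¹, hN.conj_mem n n.2 g⟩ := by
  have := hN
  have h := Helper80Transport.centralChar_comp (MulAut.conjNormal g : N ≃* N).symm
    (θ : N → ℂ) ⟨g * n * g⁻¹, hN.conj_mem n n.2 g⟩
  have e1 : (MulAut.conjNormal g : N ≃* N).symm ⟨g * n * g⁻¹, hN.conj_mem n n.2 g⟩ = n := by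
    rw [MulEquiv.symm_apply_eq]
    apply Subtype.ext
    simp
  rw [e1] at h
  rw [← h]
  rfl

variable {p : ℕ} [Fact p.Prime]

/-- the conjugate block has the conjugate defect groups. -/
theorem isDefectGroup_image [hN : N.Normal] {b : Set (IrrCharacter N)} {Q : Subgroup G}
    (hQN : Q ≤ N) (hQ : IsDefectGroup p M b (Q.subgroupOf N)) (x : G) :
    IsDefectGroup p M ((fun θ => cjI hN θ x⁻¹) '' b) ((cj x Q).subgroupOf N) := by
  obtain ⟨g0, hg0, hS⟩ := isDefectGroup_iff.1 hQ
  rw [isDefectGroup_iff]
  set y : N := ⟨x * g0 * x⁻¹, hN.conj_mem g0 g0.2 x⟩ with hy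
  have hback : (⟨x⁻¹ * (y : G) * x⁻¹⁻¹, hN.conj_mem y y.2 x⁻¹⟩ : N) = g0 := by
    apply Subtype.ext
    simp only [hy]
    group
  have hco : blockCoeff ((fun θ => cjI hN θ x⁻¹) '' b) y = blockCoeff b g0 := by
    rw [← blockCoeff_cj hN b x⁻¹ y, hback]
  refine ⟨y, ⟨?_, ?_, ?_⟩, ?_⟩
  · rw [hco]; exact hg0.1
  · rw [hco]; exact hg0.2.1
  · rintro _ ⟨θ, hθ, rfl⟩
    simp only
    rw [centralChar_cjI, hback]
    exact hg0.2.2 θ hθ
  · rw [sylIn_subgroupOf_iff (cj_le_normal hQN x) y]
    have h1 := ((sylIn_subgroupOf_iff hQN g0).1 hS).conj x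
    rwa [cj_inf_normal, cj_centralizer_singleton] at h1

theorem isDefectGroup_cj_of_stable [hN : N.Normal] {b : Set (IrrCharacter N)}
    (hst : Stable hN b) {Q : Subgroup G}
    (hQN : Q ≤ N) (hQ : IsDefectGroup p M b (Q.subgroupOf N)) (x : G) :
    IsDefectGroup p M b ((cj x Q).subgroupOf N) := by
  have := isDefectGroup_image hQN hQ x
  rwa [image_of_stable hN hst] at this

open scoped Classical in
/-- the number of `N`-classes in the `G`-class of `y`. -/
noncomputable def numCl (y : N) : ℕ :=
  (Finset.univ.filter (fun C : ConjClasses N => IsConj (y : G) ((rep C : N) : G))).card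

open scoped Classical in
theorem om_res_classInd {ξ : N → ℂ} (hξ : IsClassFunction N ξ) (y : N) :
    om ξ (res N (classInd (y : G)))
      = ∑ C : ConjClasses N, if IsConj (y : G) ((rep C : N) : G) then centralChar ξ (rep C)
          else 0 := by
  rw [om_eq_sum_classes hξ (res_isClassFunction N (classInd_isClassFunction _))]
  apply Finset.sum_congr rfl
  intro C _
  simp only [res, classInd]
  split_ifs <;> simp

theorem index_centralizer_conj [hN : N.Normal] (y : N) (g : G) :
    (Subgroup.centralizer ({(⟨g * y * g⁻¹, hN.conj_mem y y.2 g⟩ : N)} : Set N)).index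
      = (Subgroup.centralizer ({y} : Set N)).index := by
  have h := Helper80Transport.index_centralizer_equiv (MulAut.conjNormal g : N ≃* N) y
  have e1 : (MulAut.conjNormal g : N ≃* N) y = ⟨g * y * g⁻¹, hN.conj_mem y y.2 g⟩ := by
    apply Subtype.ext
    simp
  rwa [e1] at h

theorem index_eq_numCl_mul [hN : N.Normal] (y : N) :
    (Subgroup.centralizer ({(y : G)} : Set G)).index
      = numCl y * (Subgroup.centralizer ({y} : Set N)).index := by
  classical
  have h1G : IsClassFunction G (fun _ : G => (1 : ℂ)) := fun _ _ => rfl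
  have h1N : IsClassFunction N (fun _ : N => (1 : ℂ)) := fun _ _ => rfl
  have e1 := om_classInd h1G (y : G)
  have e2 := om_res_classInd h1N y
  have e3 : om (fun _ : G => (1 : ℂ)) (classInd (y : G))
      = om (fun _ : N => (1 : ℂ)) (res N (classInd (y : G))) := by
    simp only [om, res, mul_one, div_one]
    apply Helper20Knorr.sum_eq_sum_subgroup N
    intro g hg
    simp only [classInd]
    rw [if_neg]
    intro hc
    obtain ⟨c, hc⟩ := isConj_iff.1 hc
    apply hg
    rw [← hc]
    exact hN.conj_mem y y.2 c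
  rw [e3, e2] at e1
  have e4 : ∀ C : ConjClasses N, (if IsConj (y : G) ((rep C : N) : G) then
      centralChar (fun _ : N => (1 : ℂ)) (rep C) else 0)
      = if IsConj (y : G) ((rep C : N) : G) then
        ((Subgroup.centralizer ({y} : Set N)).index : ℂ) else 0 := by
    intro C
    split_ifs with h
    · obtain ⟨c, hc⟩ := isConj_iff.1 h
      have : rep C = ⟨c * y * c⁻¹, hN.conj_mem y y.2 c⟩ := Subtype.ext hc.symm
      rw [this]
      simp only [centralChar, mul_one, div_one]
      rw [index_centralizer_conj]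
    · rfl
  rw [Finset.sum_congr rfl (fun C _ => e4 C), ← Finset.sum_filter, Finset.sum_const,
    nsmul_eq_mul] at e1
  simp only [centralChar, mul_one, div_one] at e1
  have : ((numCl y * (Subgroup.centralizer ({y} : Set N)).index : ℕ) : ℂ)
      = ((Subgroup.centralizer ({(y : G)} : Set G)).index : ℂ) := by
    rw [← e1]
    push_cast
    rfl
  exact_mod_cast this.symm

/-- for a stable block, the central character of a covering character is `numCl` times that of a
constituent, modulo the local ideal. -/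
theorem centralChar_sub_numCl_mul (hM : M.IsPrime) [hN : N.Normal] {b : Set (IrrCharacter N)}
    (hb : IsPBlock M b) (hst : Stable hN b) {χ : IrrCharacter G} {θ : IrrCharacter N}
    (hθ : θ ∈ b) (h : Over χ θ) (y : N) :
    MemLocalIdeal M (centralChar (χ : G → ℂ) (y : G)
      - (numCl y : ℂ) * centralChar (θ : N → ℂ) y) := by
  classical
  rw [centralChar_eq_induced h y, inducedCentralChar_eq,
    om_res_classInd (IsIrrCharacter.isClassFunction θ.2)]
  have e1 : (numCl y : ℂ) * centralChar (θ : N → ℂ) y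
      = ∑ C : ConjClasses N, if IsConj (y : G) ((rep C : N) : G) then centralChar (θ : N → ℂ) y
          else 0 := by
    rw [← Finset.sum_filter, Finset.sum_const, nsmul_eq_mul]
    rfl
  rw [e1, ← Finset.sum_sub_distrib]
  apply liSum hM
  intro C _
  split_ifs with hc
  · obtain ⟨c, hc⟩ := isConj_iff.1 hc
    have : rep C = ⟨c * y * c⁻¹, hN.conj_mem y y.2 c⟩ := Subtype.ext hc.symm
    rw [this, ← centralChar_cjI]
    exact IsPBlock.sameBlock hM hb (hst θ hθ c) hθ y
  · rw [sub_zero]; exact memLocalIdeal_zero hM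

/-- a class of `N` which is a defect class of the stable block `b` and whose centraliser in `G`
has the largest possible `p`-part. -/
theorem exists_defectClass_of_stable (hM : IsPModular p M) [hN : N.Normal]
    {b : Set (IrrCharacter N)} (hb : IsPBlock M b) (hst : Stable hN b) :
    ∃ y : N, IsDefectClass M b y ∧
      (Nat.card (Subgroup.centralizer ({(y : G)} : Set G))).factorization p
        = blockDefect p b + N.index.factorization p := by
  classical
  have hP := IsPModular.isPrime hM
  have := hP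
  obtain ⟨B, hB, hcov⟩ := exists_covering (G := G) hb
  obtain ⟨χ, hχ, θ, hθ, hov⟩ := id hcov
  obtain ⟨y, hy1, hy2⟩ := exists_coeff_centralChar hP hb hB hcov hχ
  have hsub := centralChar_sub_numCl_mul hP hb hst hθ hov y
  have hθy := centralChar_mem hP θ.2 y
  have hm : ¬ p ∣ numCl y := by
    intro hd
    apply hy2
    have h1 := liMulRight hP ((memLocalIdeal_natCast_iff hM _).2 hd) hθy
    have h2 := liAdd hP hsub h1
    rwa [sub_add_cancel] at h2
  have hθy' : ¬ MemLocalIdeal M (centralChar (θ : N → ℂ) y) := by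
    intro hd
    apply hy2
    have h1 := liMulLeft hP (memLocalRing_natCast hP (numCl y)) hd
    have h2 := liAdd hP hsub h1
    rwa [sub_add_cancel] at h2
  have hdc : IsDefectClass M b y := by
    refine ⟨(isSC_blockCoeff hP hb).2 y, hy1, fun θ' hθ' hd => hθy' ?_⟩
    have h1 := IsPBlock.sameBlock hP hb hθ hθ' y
    have h2 := liAdd hP h1 hd
    rwa [sub_add_cancel] at h2
  refine ⟨y, hdc, ?_⟩
  obtain ⟨S, hS⟩ := exists_sylIn (p := p) (Subgroup.centralizer ({y} : Set N))
  have hSd : IsDefectGroup p M b S := isDefectGroup_iff.2 ⟨y, hdc, hS⟩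
  have h1 := sylIn_factorization hS (card_defectGroup hM hb hSd)
  have h2 := index_factorization (p := p) (y : G)
  have h3 := index_factorization (p := p) y
  have h4 := index_eq_numCl_mul y
  have hm0 : numCl y ≠ 0 := fun h0 => hm (h0 ▸ dvd_zero p)
  have h5 : ((Subgroup.centralizer ({(y : G)} : Set G)).index).factorization p
      = ((Subgroup.centralizer ({y} : Set N)).index).factorization p := by
    rw [h4, Nat.factorization_mul hm0 (index_ne_zero y), Finsupp.add_apply,
      Nat.factorization_eq_zero_of_not_dvd hm, zero_add]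
  have h6 : (Nat.card G).factorization p
      = (Nat.card N).factorization p + N.index.factorization p := by
    rw [← Subgroup.card_mul_index N, Nat.factorization_mul Nat.card_pos.ne'
      Subgroup.index_ne_zero_of_finite, Finsupp.add_apply]
  omega

theorem orb_eq_of_stable {hN : N.Normal} {b : Set (IrrCharacter N)} (hst : Stable hN b) :
    orb hN b = b := by
  ext θ
  rw [mem_orb]
  constructor
  · rintro ⟨g, θ', h, rfl⟩
    exact hst θ' h g
  · intro h
    exact ⟨1, θ, h, (cjI_one hN θ).symm⟩

/-- the idempotent of a stable block is the sum of the idempotents of the covering blocks. -/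
theorem exists_covering_coeff (hM : M.IsPrime) [hN : N.Normal] {b : Set (IrrCharacter N)}
    (hb : IsPBlock M b) (hst : Stable hN b) {y : N} (hy : ¬ MemLocalIdeal M (blockCoeff b y)) :
    ∃ B : Set (IrrCharacter G), IsPBlock M B ∧ Cv B b ∧
      ¬ MemLocalIdeal M (blockCoeff B (y : G)) := by
  classical
  have := hM
  set ε : G → ℂ := extendByZero N (blockCoeff b) with hε
  have hεcl : IsClassFunction G ε := ext_blockCoeff_classfn hN hst
  have h1 : ε (y : G) = conv ε (∑ β : Helper80Pairs.Blk M G, blockCoeff β.1) (y : G) := by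
    rw [Helper80Pairs.sum_blockCoeff hM, Helper20GA.conv_delta]
  have h2 : ε (y : G) = ∑ β : Helper80Pairs.Blk M G, conv ε (blockCoeff β.1) (y : G) := by
    rw [h1]
    simp only [conv, Finset.sum_apply, Finset.mul_sum]
    rw [Finset.sum_comm]
  have h3 : ε (y : G) = blockCoeff b y := extendByZero_coe N _ y
  rw [← h3, h2] at hy
  have h4 : ∃ β : Helper80Pairs.Blk M G, ¬ MemLocalIdeal M (conv ε (blockCoeff β.1) (y : G)) := by
    by_contra hcon
    push Not at hcon
    exact hy (liSum hM Finset.univ _ (fun β _ => hcon β))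
  obtain ⟨β, hβ⟩ := h4
  have hcv : Cv β.1 b := by
    by_contra hncv
    apply hβ
    have h0 : conv ε (blockCoeff β.1) = 0 := by
      apply omVec_injective (conv_isClassFunction hεcl (blockCoeff_isClassFunction _))
        (fun _ _ => rfl)
      funext χ
      simp only [omVec]
      rw [om_conv χ.2 hεcl (blockCoeff_isClassFunction _), om_blockCoeff, om_zero]
      by_cases hχ : χ ∈ β.1
      · obtain ⟨θ, hθ⟩ := exists_under (N := N) χ
        rw [← om81_eq, om_ext_blockCoeff hN hst hθ, if_neg, zero_mul]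
        intro hθb
        exact hncv ⟨χ, hχ, θ, hθb, hθ⟩
      · rw [if_neg hχ, mul_zero]
    rw [h0]
    exact memLocalIdeal_zero hM
  refine ⟨β.1, β.2, hcv, ?_⟩
  have h5 := absorb hM hN β.2 hb hcv
  rw [orb_eq_of_stable hst] at h5
  rwa [h5] at hβ

/-- existence of a covering block of large defect. -/
theorem exists_covering_defect (hM : IsPModular p M) [hN : N.Normal]
    {b : Set (IrrCharacter N)} (hb : IsPBlock M b) (hst : Stable hN b) :
    ∃ B : Set (IrrCharacter G), IsPBlock M B ∧ Cv B b ∧
      blockDefect p b + N.index.factorization p ≤ blockDefect p B := by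
  have hP := IsPModular.isPrime hM
  obtain ⟨y, hy, hcard⟩ := exists_defectClass_of_stable (G := G) hM hb hst
  obtain ⟨B, hB, hcv, hBy⟩ := exists_covering_coeff (G := G) hP hb hst hy.2.1
  refine ⟨B, hB, hcv, ?_⟩
  obtain ⟨S, hS⟩ := exists_sylIn (p := p) (Subgroup.centralizer ({(y : G)} : Set G))
  obtain ⟨D, hD⟩ := exists_defectGroup hM hB
  obtain ⟨x, hx⟩ := (coeff_iff_le_defectGroup hM hB hD hS.isPGroup).1
    ⟨y, hBy, le_centralizer_singleton_iff.1 hS.1⟩
  have h1 := Subgroup.card_le_of_le hx
  rw [card_cj, hS.2, card_defectGroup hM hB hD, hcard] at h1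
  exact (Nat.pow_le_pow_iff_right (Fact.out : p.Prime).one_lt).1 h1

/-- the defect of a covering block. -/
theorem defect_add_index (hM : IsPModular p M) [hN : N.Normal]
    {b : Set (IrrCharacter N)} (hb : IsPBlock M b) {B : Set (IrrCharacter G)} (hB : IsPBlock M B)
    (hcov : Cv B b) {P : Subgroup G} (hP : IsDefectGroup p M B P) :
    blockDefect p B + (P ⊔ N).index.factorization p
      = blockDefect p b + N.index.factorization p := by
  have hpp : p.Prime := Fact.out
  obtain ⟨Q', hQ'⟩ := exists_defectGroup hM hb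
  set Q : Subgroup G := Q'.map N.subtype with hQdef
  have hQN : Q ≤ N := Subgroup.map_subtype_le _
  have hQQ : Q.subgroupOf N = Q' := by
    rw [hQdef]
    exact Subgroup.comap_map_eq_self_of_injective N.subtype_injective Q'
  rw [← hQQ] at hQ'
  obtain ⟨x, hx⟩ := knorr hM hb hB hcov hQN hQ' hP
  have hc1 : Nat.card (P ⊓ N : Subgroup G) = p ^ blockDefect p b := by
    rw [hx, card_cj, ← card_subgroupOf_of_le hQN]
    exact card_defectGroup hM hb hQ'
  have hc2 : Nat.card (N.subgroupOf P) * N.relIndex P = Nat.card P :=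
    Subgroup.card_mul_index (N.subgroupOf P)
  rw [card_subgroupOf_eq_inf, inf_comm, hc1, card_defectGroup hM hB hP] at hc2
  have hc3 : N.relIndex P * (P ⊔ N).index = N.index := by
    rw [← Subgroup.relIndex_sup_right P N]
    exact Subgroup.relIndex_mul_index le_sup_right
  have hr0 : N.relIndex P ≠ 0 := by
    intro h0
    rw [h0, mul_zero] at hc2
    exact (pow_pos hpp.pos _).ne hc2
  have hi0 : (P ⊔ N).index ≠ 0 := Subgroup.index_ne_zero_of_finite
  have h1 := congrArg (fun n => n.factorization p) hc2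
  have h2 := congrArg (fun n => n.factorization p) hc3
  beta_reduce at h1 h2
  rw [Nat.factorization_mul (pow_pos hpp.pos _).ne' hr0, Finsupp.add_apply,
    hpp.factorization_pow, hpp.factorization_pow, Finsupp.single_eq_same,
    Finsupp.single_eq_same] at h1
  rw [Nat.factorization_mul hr0 hi0, Finsupp.add_apply] at h2
  omega

theorem stabilizesBlock_iff_cjI (hN : N.Normal) (c : Set (IrrCharacter N)) (x : G) :
    StabilizesBlock N c x ↔ ∀ θ ∈ c, cjI hN θ x⁻¹ ∈ c := by
  constructor
  · rintro ⟨-, h⟩ θ hθ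
    obtain ⟨θ', hθ', hc⟩ := h θ hθ
    have : cjI hN θ x⁻¹ = θ' := by
      apply Subtype.ext
      funext n
      rw [cjI_apply]
      refine (hc _ n ?_).symm
      simp only
      group
    rw [this]; exact hθ'
  · intro h
    refine ⟨?_, fun θ hθ => ⟨cjI hN θ x⁻¹, h θ hθ, ?_⟩⟩
    · rw [Subgroup.normalizer_eq_top]; exact Subgroup.mem_top x
    · intro k k' hk
      rw [cjI_apply]
      have e : (⟨x⁻¹ * (k' : G) * x⁻¹⁻¹, hN.conj_mem k' k'.2 x⁻¹⟩ : N) = k := by
        apply Subtype.ext
        simp only [hk]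
        group
      rw [e]

theorem stable_of_stabilizes (hN : N.Normal) {c : Set (IrrCharacter N)}
    (h : ∀ x : G, StabilizesBlock N c x) : Stable hN c := by
  intro θ hθ g
  have := (stabilizesBlock_iff_cjI hN c g⁻¹).1 (h g⁻¹) θ hθ
  rwa [inv_inv] at this

theorem subgroupBlockCoeff_eq_ext (c : Set (IrrCharacter N)) :
    subgroupBlockCoeff N c = extendByZero N (blockCoeff c) := by
  funext g
  by_cases hg : g ∈ N
  · rw [extendByZero_of_mem N _ hg]
    simp [subgroupBlockCoeff, hg]
  · rw [extendByZero_of_not_mem N _ hg]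
    simp [subgroupBlockCoeff, hg]

/-- a block whose idempotent is that of the stable block `c` covers `c`. -/
theorem covers_of_blockCoeff_eq (hM : M.IsPrime) [hN : N.Normal] {c : Set (IrrCharacter N)}
    (hst : Stable hN c) {B : Set (IrrCharacter G)} (hB : IsPBlock M B)
    (h : blockCoeff B = extendByZero N (blockCoeff c)) : Cv B c := by
  classical
  obtain ⟨χ, hχ⟩ := IsPBlock.nonempty hM hB
  obtain ⟨θ, hθ⟩ := exists_under (N := N) χ
  have h1 := om_blockCoeff B χ
  rw [if_pos hχ, h, ← om81_eq, om_ext_blockCoeff hN hst hθ] at h1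
  refine ⟨χ, hχ, θ, ?_, hθ⟩
  by_contra hn
  rw [if_neg hn] at h1
  exact zero_ne_one h1

end Cfsg.Agent.Lib.Helper20Fong
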