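import Mathlib
import Cfsg.Prelude.Def_Blocks
import Cfsg.Agent.Lib.Helper20Cov

set_option autoImplicit false
set_option linter.unusedSectionVars false
set_option linter.unusedVariables false

/-! Graded nilpotency (after `Helper20Knorr.exists_coeff_of_absorb`): a central element absorbed by
the idempotent of a stable union of blocks of a normal subgroup `N` and killed by the Brauer maps at
the conjugates of `Q` is nilpotent modulo the local ideal.  Consequence: a block of `N` with a defect
group `Q` such that `C_G(Q) ≤ N` is covered by a unique block of `G`. -/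

namespace Cfsg.Agent.Lib.Helper21Nil

open Cfsg
open Cfsg.Agent.Lib.Helper20Local Cfsg.Agent.Lib.Helper20Center Cfsg.Agent.Lib.Helper20Block
open Cfsg.Agent.Lib.Helper20Ideal Cfsg.Agent.Lib.Helper20GA Cfsg.Agent.Lib.Helper20GrNil
open Cfsg.Agent.Lib.Helper19Ind Cfsg.Agent.Lib.Helper20First
open Cfsg.Agent.Lib.Helper4Char Cfsg.Agent.Lib.Helper4Char2
open Cfsg.Agent.Lib.Helper87Sylow Cfsg.Agent.Lib.Helper20Sub Cfsg.Agent.Lib.Helper20Knorr
open Cfsg.Agent.Lib.Helper20Cov Cfsg.Agent.Lib.Helper20Defect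
open Cfsg.Agent.Lib.Helper21Cover Cfsg.Agent.Lib.Helper21Cover4

variable {G : Type*} [Group G] [Fintype G] {M : Ideal Cfsg.AlgInt} {p : ℕ} [Fact p.Prime]

theorem pow_zr_of_absorb (hM : IsPModular p M) (N : Subgroup G) [hN : N.Normal] [Fintype N]
    [Fintype (G ⧸ N)]
    {U : Set (IrrCharacter N)} (hU : IsSC M (blockCoeff U))
    {e : GA G} (heSC : IsSC M e)
    (hεe0 : conv (extendByZero N (blockCoeff U)) e = e)
    {Q : Subgroup G} (hQ : IsPGroup p Q) (hQN : Q ≤ N)
    (hrad : ∀ θ ∈ U, ∀ a : N → ℂ, IsSC M a →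
      (∀ g : G, ∀ n : N, (n : G) ∈ Subgroup.centralizer ((cj g Q : Subgroup G) : Set G) →
        MemLocalIdeal M (a n)) → MemLocalIdeal M (om (θ : N → ℂ) a))
    (hz : ∀ g : G, ∀ x ∈ Subgroup.centralizer ((cj g Q : Subgroup G) : Set G),
      MemLocalIdeal M (e x)) :
    Zr M (e ^ (Fintype.card (IrrCharacter N) * Fintype.card (G ⧸ N))) := by
  classical
  have hP := IsPModular.isPrime hM
  have hcjN : ∀ g : G, cj g Q ≤ N := by
    intro g x hx
    rw [mem_cj] at hx
    have := hN.conj_mem _ (hQN hx) g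
    have e1 : g * (g⁻¹ * x * g) * g⁻¹ = x := by group
    rwa [e1] at this
  set ε : GA G := extendByZero N (blockCoeff U) with hε
  have hεoff : ∀ g, g ∉ N → ε g = 0 := fun g hg => extendByZero_of_not_mem N _ hg
  have hεe : ε * e = e := hεe0
  have hresε : res N ε = blockCoeff U := by
    funext n
    exact extendByZero_coe N _ n
  have hεCN : CN N M ε := by
    refine ⟨hεoff, ?_, ?_⟩
    · intro n hn g
      by_cases hg : g ∈ N
      · have hg' : n * g * n⁻¹ ∈ N := N.mul_mem (N.mul_mem hn hg) (N.inv_mem hn)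
        rw [hε, extendByZero_of_mem N _ hg, extendByZero_of_mem N _ hg']
        exact hU.1 ⟨g, hg⟩ ⟨n, hn⟩
      · have hg' : n * g * n⁻¹ ∉ N := by
          intro h
          apply hg
          have := N.mul_mem (N.mul_mem (N.inv_mem hn) h) hn
          have e1 : n⁻¹ * (n * g * n⁻¹) * n = g := by group
          rwa [e1] at this
        rw [hεoff g hg, hεoff _ hg']
    · intro g
      by_cases hg : g ∈ N
      · rw [hε, extendByZero_of_mem N _ hg]; exact hU.2 _
      · rw [hεoff g hg]; exact memLocalRing_zero hP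
  -- closed words are in the radical
  have hclosed : ∀ c : List (G ⧸ N), c ≠ [] → c.prod = 1 →
      CN N M (word N e c) ∧ ∀ θ, MemLocalIdeal M (omVec (res N (word N e c)) θ) := by
    intro c hc hc1
    obtain ⟨t, l, rfl⟩ := List.exists_cons_of_ne_nil hc
    have hw := word_props N hP heSC (t :: l)
    rw [hc1] at hw
    have hCN : CN N M (word N e (t :: l)) := ⟨off_of_sup_one N hw.1, hw.2.1, hw.2.2⟩
    refine ⟨hCN, ?_⟩
    have e1 : word N e (t :: l) = cpt N e t * word N e l := by simp [word]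
    have hl := word_props N hP heSC l
    have hbr : ∀ g : G, ∀ x ∈ Subgroup.centralizer ((cj g Q : Subgroup G) : Set G),
        MemLocalIdeal M (word N e (t :: l) x) := by
      intro g
      rw [e1]
      apply brz_mul hM (isPGroup_cj hQ) (rg_cpt N hP heSC.2 t) hl.2.2
        (fun q hq => inv_cpt N heSC.1 t q (hcjN g hq)) (fun q hq => hl.2.1 q (hcjN g hq))
      intro x hx
      simp only [cpt]
      split_ifs
      · exact hz g x hx
      · exact memLocalIdeal_zero hP
    have habs : ε * word N e (t :: l) = word N e (t :: l) := by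
      rw [e1, ← mul_assoc, eps_mul_cpt N hεoff hεe]
    intro θ
    by_cases hθ : θ ∈ U
    · exact hrad θ hθ _ (CN.isSC N hCN) (fun g n hn => hbr g n hn)
    · rw [← habs, omVec_res_mul N hεCN hCN, hresε, Pi.mul_apply, omVec_blockCoeff]
      simp only [if_neg hθ, zero_mul]
      exact memLocalIdeal_zero hP
  have key := graded_nil (X := G ⧸ N) (cpt N e) (Zr M) (Rg M)
    (fun g => memLocalIdeal_zero hP) (fun a b ha hb g => liAdd hP (ha g) (hb g))
    (fun a b => zr_mul_left hP) (fun a b => zr_mul_right hP) (rg_one hP)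
    (fun a b => rg_mul hP) (rg_cpt N hP heSC.2) (Fintype.card (IrrCharacter N)) (by
      intro L hL1 hL2
      have h1 := cn_listProd N hP (L.map (fun c => (c.map (cpt N e)).prod)) (by
        intro a ha
        obtain ⟨c, hc, rfl⟩ := List.mem_map.mp ha
        exact (hclosed c (hL2 c hc).1 (hL2 c hc).2).1)
      have h2 := rad_prod_univ hP
        ((L.map (fun c => (c.map (cpt N e)).prod)).map (fun a => omVec (res N a)))
        (by simp [hL1]) (by
          intro v hv
          obtain ⟨a, ha, rfl⟩ := List.mem_map.mp hv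
          obtain ⟨c, hc, rfl⟩ := List.mem_map.mp ha
          have := hclosed c (hL2 c hc).1 (hL2 c hc).2
          exact ⟨⟨_, CN.isSC N this.1, rfl⟩, this.2⟩)
      rw [← h1.2] at h2
      obtain ⟨a', ha', ha'J, hom⟩ := h2
      have e2 := omVec_injective ha'.1 (CN.isSC N h1.1).1 hom
      intro g
      by_cases hg : g ∈ N
      · have := ha'J ⟨g, hg⟩ trivial
        rw [e2] at this
        exact this
      · rw [h1.1.1 g hg]; exact memLocalIdeal_zero hP)
  rw [sum_cpt] at key
  exact key

theorem om_pow (χ : IrrCharacter G) {a : GA G} (ha : IsClassFunction G a)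
    (n : ℕ) : IsClassFunction G (a ^ n : GA G) ∧
      om (χ : G → ℂ) (a ^ n : GA G) = (om (χ : G → ℂ) a) ^ n := by
  induction n with
  | zero =>
    rw [pow_zero, pow_zero]
    refine ⟨delta_isClassFunction, om_delta ?_⟩
    exact Cfsg.Agent.Lib.Helper81Base.irr_one_ne_zero χ
  | succ n ih =>
    rw [pow_succ, pow_succ]
    refine ⟨conv_isClassFunction ih.1 ha, ?_⟩
    rw [← ih.2]
    exact om_conv χ.2 ih.1 ha

theorem om_mem_of_absorb (hM : IsPModular p M) (N : Subgroup G) [hN : N.Normal] [Fintype N]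
    {U : Set (IrrCharacter N)} (hU : IsSC M (blockCoeff U))
    {e : G → ℂ} (heSC : IsSC M e)
    (hεe0 : conv (extendByZero N (blockCoeff U)) e = e)
    {Q : Subgroup G} (hQ : IsPGroup p Q) (hQN : Q ≤ N)
    (hrad : ∀ θ ∈ U, ∀ a : N → ℂ, IsSC M a →
      (∀ g : G, ∀ n : N, (n : G) ∈ Subgroup.centralizer ((cj g Q : Subgroup G) : Set G) →
        MemLocalIdeal M (a n)) → MemLocalIdeal M (om (θ : N → ℂ) a))
    (hz : ∀ g : G, ∀ x ∈ Subgroup.centralizer ((cj g Q : Subgroup G) : Set G),
      MemLocalIdeal M (e x)) (χ : IrrCharacter G) :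
    MemLocalIdeal M (om (χ : G → ℂ) e) := by
  have hP := IsPModular.isPrime hM
  let _ : Fintype (G ⧸ N) := Fintype.ofFinite _
  have h1 := pow_zr_of_absorb hM N hU (e := e) heSC hεe0 hQ hQN hrad hz
  have h2 := om_pow χ (a := e) heSC.1 (Fintype.card (IrrCharacter N) * Fintype.card (G ⧸ N))
  have h3 := om_mem_ideal hP χ.2 h2.1 h1
  rw [h2.2] at h3
  exact liOfPow hP (om_mem hP χ.2 heSC) h3

/-- the radical hypothesis, from a coefficient of `b` on `C_N(Q)` outside the local ideal. -/
theorem hrad_of_coeff {N : Subgroup G} [Fintype N] (hM : IsPModular p M) [hN : N.Normal]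
    {b : Set (IrrCharacter N)} (hb : IsPBlock M b)
    {Q : Subgroup G} (hQ : IsPGroup p Q) (hQN : Q ≤ N)
    (hQb : ∃ x : N, (x : G) ∈ Subgroup.centralizer (Q : Set G) ∧
      ¬ MemLocalIdeal M (blockCoeff b x)) :
    ∀ θ ∈ orb hN b, ∀ a : N → ℂ, IsSC M a →
      (∀ g : G, ∀ n : N, (n : G) ∈ Subgroup.centralizer ((cj g Q : Subgroup G) : Set G) →
        MemLocalIdeal M (a n)) → MemLocalIdeal M (om (θ : N → ℂ) a) := by
  classical
  have hP := IsPModular.isPrime hM
  intro θ' hθ' a ha haJ
  obtain ⟨g, θ, hθ, rfl⟩ := (mem_orb hN b θ').1 hθ'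
  rw [om_cjI]
  set a' : N → ℂ := fun n : N => a ⟨g⁻¹ * n * g, by
          have := hN.conj_mem n n.2 g⁻¹
          rwa [inv_inv] at this⟩ with ha'
  have ha'SC : IsSC M a' := by
    refine ⟨fun n m => ?_, fun n => ha.2 _⟩
    simp only [ha']
    have := ha.1 ⟨g⁻¹ * n * g, by
          have := hN.conj_mem n n.2 g⁻¹
          rwa [inv_inv] at this⟩ ⟨g⁻¹ * m * g, by
          have := hN.conj_mem m m.2 g⁻¹
          rwa [inv_inv] at this⟩
    rw [← this]
    congr 1
    apply Subtype.ext
    simp only [Subgroup.coe_mul, Subgroup.coe_inv]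
    group
  have hT : IsIdealSet (G := N) M (fun n : N => (n : G) ∈ Subgroup.centralizer (Q : Set G)) := by
    apply isIdealSet_of_centralizer hM
    intro c hc
    refine ⟨Q.subgroupOf N, hQ.comap_subtype, (mem_centralizer_subgroupOf_iff hQN c).2 hc, ?_⟩
    intro d hd
    exact (mem_centralizer_subgroupOf_iff hQN d).1 hd
  by_contra hnot
  have hJ : InJ M (fun n : N => (n : G) ∈ Subgroup.centralizer (Q : Set G)) (omVec a') := by
    refine ⟨a', ha'SC, fun n hn => ?_, rfl⟩
    apply haJ g⁻¹
    have := (Helper80Conj.mem_centralizer_cj g⁻¹ Q (n : G)).1 hn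
    rwa [inv_inv] at this
  obtain ⟨x, hx, hx'⟩ := hQb
  exact hx' (blockCoeff_mem_of_inJ hP hb hT hJ hθ hnot x hx)

theorem conv_ext_orb_self {N : Subgroup G} [Fintype N] (hM : M.IsPrime) (hN : N.Normal)
    {b : Set (IrrCharacter N)} (hb : IsPBlock M b) :
    conv (extendByZero N (blockCoeff (orb hN b))) (extendByZero N (blockCoeff (orb hN b)))
      = extendByZero N (blockCoeff (orb hN b)) := by
  classical
  have h1 := (isSC_ext_orb hM hN hb).1
  apply omVec_injective (conv_isClassFunction h1 h1) h1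
  funext χ
  simp only [omVec]
  rw [om_conv χ.2 h1 h1]
  obtain ⟨θ, hθ⟩ := exists_under (N := N) χ
  have h2 := om_ext_blockCoeff hN (orb_stable hN b) hθ
  rw [om81_eq] at h2
  rw [h2]
  split_ifs <;> simp

/-- If `C_G(Q) ≤ N` for a `p`-subgroup `Q` of `N` on whose centralizer the idempotent of the block
`b` of `N` does not vanish (e.g. a defect group of `b`), the central characters of the blocks
covering `b` vanish outside `N`. -/
theorem centralChar_mem_of_not_mem {N : Subgroup G} [Fintype N] (hM : IsPModular p M)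
    [hN : N.Normal] {b : Set (IrrCharacter N)} (hb : IsPBlock M b)
    {B : Set (IrrCharacter G)} (hB : IsPBlock M B) (hcov : Cv B b)
    {Q : Subgroup G} (hQ : IsPGroup p Q) (hQN : Q ≤ N)
    (hQb : ∃ x : N, (x : G) ∈ Subgroup.centralizer (Q : Set G) ∧
      ¬ MemLocalIdeal M (blockCoeff b x))
    (hC : Subgroup.centralizer (Q : Set G) ≤ N) {χ : IrrCharacter G} (hχ : χ ∈ B) {g : G}
    (hg : g ∉ N) : MemLocalIdeal M (centralChar (χ : G → ℂ) g) := by
  classical
  have hP := IsPModular.isPrime hM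
  set ε : G → ℂ := extendByZero N (blockCoeff (orb hN b)) with hε
  have hεSC : IsSC M ε := isSC_ext_orb hP hN hb
  have hcSC : IsSC M (classInd g) := isSC_classInd hP g
  have h0 : ∀ x ∈ N, conv ε (classInd g) x = 0 := by
    intro x hx
    simp only [conv]
    apply Finset.sum_eq_zero
    intro y _
    by_cases hy : y ∈ N
    · have : classInd g (y⁻¹ * x) = 0 := by
        simp only [classInd]
        rw [if_neg]
        intro hc
        obtain ⟨c, hc⟩ := isConj_iff.1 hc
        apply hg
        have h1 : y⁻¹ * x ∈ N := N.mul_mem (N.inv_mem hy) hx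
        rw [← hc] at h1
        have := hN.conj_mem _ h1 c⁻¹
        have e1 : c⁻¹ * (c * g * c⁻¹) * c⁻¹⁻¹ = g := by group
        rwa [e1] at this
      rw [this, mul_zero]
    · rw [hε, extendByZero_of_not_mem N _ hy, zero_mul]
  have h1 := om_mem_of_absorb hM N (isSC_orb hP hN hb) (e := conv ε (classInd g))
    (hεSC.conv hP hcSC) (by rw [← conv_assoc, conv_ext_orb_self hP hN hb]) hQ hQN
    (hrad_of_coeff hM hb hQ hQN hQb) (by
      intro t x hx
      have h2 := hC (Helper20Sub.mem_centralizer_cj hx)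
      have h3 := hN.conj_mem _ h2 t
      have e1 : t * (t⁻¹ * x * t) * t⁻¹ = x := by group
      rw [e1] at h3
      rw [h0 x h3]
      exact memLocalIdeal_zero hP) χ
  rw [om_conv χ.2 hεSC.1 hcSC.1, om_ext_orb hP hN hB hb hcov hχ, one_mul,
    om_classInd (Helper4Char.IsIrrCharacter.isClassFunction χ.2)] at h1
  exact h1

/-- A block `b` of the normal subgroup `N` with `C_G(Q) ≤ N` (`Q` as above) is covered by a unique
block of `G`. -/
theorem unique_covering_of_centralizer_le {N : Subgroup G} [Fintype N] (hM : IsPModular p M)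
    [hN : N.Normal] {b : Set (IrrCharacter N)} (hb : IsPBlock M b)
    {B B' : Set (IrrCharacter G)} (hB : IsPBlock M B) (hB' : IsPBlock M B')
    (hcov : Cv B b) (hcov' : Cv B' b)
    {Q : Subgroup G} (hQ : IsPGroup p Q) (hQN : Q ≤ N)
    (hQb : ∃ x : N, (x : G) ∈ Subgroup.centralizer (Q : Set G) ∧
      ¬ MemLocalIdeal M (blockCoeff b x))
    (hC : Subgroup.centralizer (Q : Set G) ≤ N) : B' = B := by
  have hP := IsPModular.isPrime hM
  obtain ⟨χ, hχ⟩ := IsPBlock.nonempty hP hB
  obtain ⟨χ', hχ'⟩ := IsPBlock.nonempty hP hB'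
  have hs : SameBlock M (χ : G → ℂ) (χ' : G → ℂ) := by
    intro g
    by_cases hg : g ∈ N
    · have := hP
      exact congr_of_covers hB hB' hb hcov hcov' hχ hχ' ⟨g, hg⟩
    · exact liSub hP (centralChar_mem_of_not_mem hM hb hB hcov hQ hQN hQb hC hχ hg)
        (centralChar_mem_of_not_mem hM hb hB' hcov' hQ hQN hQb hC hχ' hg)
  exact IsPBlock.eq_of_mem hP hB' hB hχ' (IsPBlock.mem_of_sameBlock hP hB hχ hs)

end Cfsg.Agent.Lib.Helper21Nil
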