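import Cfsg.Agent.Lib.Helper82TI
import Cfsg.Agent.Lib.Helper82Linear
import Cfsg.Agent.Lib.Helper82Irr
import Cfsg.Agent.Lib.Helper4Char

set_option autoImplicit false

/-!
# Characters with a fixed vector for a subgroup containing the normalizer of a TI Sylow subgroup
-/

namespace Cfsg.Agent.Lib.Helper82TIChar

open Cfsg.Agent.Lib.Helper82TI Cfsg.Agent.Lib.Helper82Irr Cfsg.Agent.Lib.Helper82Linear
  Cfsg.Agent.Lib.Helper4Char
open scoped ComplexConjugate Pointwise

variable {G : Type*} [Group G] [Fintype G]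

/-- Let `P ≤ H` be a `p`-subgroup acting freely on the cosets of `H` other than `H`. A nonprincipal
irreducible character whose restriction to `H` contains the principal character has degree at least
`|P|`. -/
theorem degree_ge (p : ℕ) [Fact p.Prime] (P H : Subgroup G) [Fintype H] (hP : IsPGroup p P)
    (hPH : P ≤ H) (hfree : ∀ x ∈ P, x ≠ 1 → ∀ g, g ∉ H → g⁻¹ * x * g ∉ H)
    (θ : Cfsg.IrrCharacter G) (hθ : (θ : G → ℂ) ≠ fun _ => 1)
    (hne : Cfsg.classInner (fun h : H => (θ : G → ℂ) h) (fun _ => 1) ≠ 0) :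
    Nat.card P ≤ Cfsg.charDegree (θ : G → ℂ) := by
  classical
  obtain ⟨n, ρ, hρ, hχ⟩ := θ.2
  have hdeg : Cfsg.charDegree (θ : G → ℂ) = n := by
    have : ((Cfsg.charDegree (θ : G → ℂ) : ℕ) : ℂ) = (n : ℂ) := by
      rw [irr_charDegree_cast, ← hχ, Representation.char_one]; simp
    exact_mod_cast this
  rw [hdeg]
  -- the averaging operator over `H`
  let A : (Fin n → ℂ) →ₗ[ℂ] (Fin n → ℂ) := ∑ h : H, ρ (h : G)
  have htr : LinearMap.trace ℂ _ A = ∑ h : H, (θ : G → ℂ) h := by
    simp only [A, map_sum]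
    refine Finset.sum_congr rfl fun h _ => ?_
    rw [← hχ]; rfl
  have hA : A ≠ 0 := by
    intro h0
    apply hne
    unfold Cfsg.classInner
    rw [h0, map_zero] at htr
    simp only [map_one, mul_one]
    rw [← htr, mul_zero]
  obtain ⟨u, hu⟩ : ∃ u, A u ≠ 0 := by
    by_contra hcon
    push Not at hcon
    exact hA (LinearMap.ext hcon)
  have hfix : ∀ h ∈ H, ρ h (A u) = A u := by
    intro h hh
    simp only [A, LinearMap.sum_apply, map_sum]
    rw [← Equiv.sum_comp (Equiv.mulLeft (⟨h, hh⟩ : H)) (fun k : H => ρ (k : G) u)]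
    refine Finset.sum_congr rfl fun k _ => ?_
    rw [Equiv.coe_mulLeft, Subgroup.coe_mul, map_mul]
    rfl
  have hsum0 : ∑ g : G, (θ : G → ℂ) g = 0 := by
    have h1 := classInner_irr_ne θ.2 isIrrCharacter_one hθ
    unfold Cfsg.classInner at h1
    simp only [map_one, mul_one] at h1
    exact (mul_eq_zero.mp h1).resolve_left (inv_ne_zero card_ne_zero)
  have hB : ∑ g : G, ρ g = 0 := by
    have h1 := classOp_irr ρ (fun _ => 1) (fun _ _ => rfl)
    simp only [classOp, one_smul, one_mul] at h1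
    rw [h1, hχ, hsum0, zero_div, zero_smul]
  have hsum : ∑ g : G, ρ g (A u) = 0 := by
    rw [← LinearMap.sum_apply, hB]; rfl
  exact card_le_of_fixed p P H hP hPH hfree ρ (A u) hu hfix hsum

end Cfsg.Agent.Lib.Helper82TIChar
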