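import Cfsg.Agent.Lib.Helper82TIChar
import Cfsg.Agent.Lib.Helper82Mult
import Cfsg.Agent.Lib.Helper82Cod
import Cfsg.Agent.Lib.Helper4Char4
import Cfsg.Agent.Lib.Helper4Equiv
import Cfsg.Agent.Lib.Helper5Clifford
import Cfsg.Agent.Lib.Helper19Ratio
import Cfsg.Agent.Lib.Helper77Glaub
import Cfsg.Agent.S0887
import Cfsg.Agent.S4750

set_option autoImplicit false
set_option linter.unusedSectionVars false

/-!
# Groups `K ⋊ P` with `P` a TI Sylow subgroup and a character of small degree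
-/

namespace Cfsg.Agent.Lib.Helper82TISolv

open Cfsg.Agent.Lib.Helper82TI Cfsg.Agent.Lib.Helper82TIChar Cfsg.Agent.Lib.Helper82Irr
  Cfsg.Agent.Lib.Helper82Linear Cfsg.Agent.Lib.Helper82Mult Cfsg.Agent.Lib.Helper4Char
  Cfsg.Agent.Lib.Helper4Char4 Cfsg.Agent.Lib.Helper82Schur
open scoped ComplexConjugate Pointwise

/-- A representation whose character is an irreducible character is irreducible. -/
theorem isIrreducible_of_char {D : Type*} [Group D] [Finite D] {V : Type*} [AddCommGroup V]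
    [Module ℂ V] [FiniteDimensional ℂ V] (τ : Representation ℂ D V)
    (h : Cfsg.IsIrrCharacter D τ.character) : τ.IsIrreducible := by
  obtain ⟨m, τ', hτ', hchar⟩ := h
  obtain ⟨E⟩ := Cfsg.Agent.Lib.Helper4Equiv.equiv_of_char_eq τ' τ hchar
  exact isIrreducible_of_equiv E hτ'

/-- Rigidity: an automorphism `a` of `K` fixing the irreducible character `φ` and fixing pointwise
the image of `j : D → K`, where `φ ∘ j` is irreducible, acts trivially modulo the kernel of `φ`. -/
theorem rigid {K D : Type*} [Group K] [Finite K] [Group D] [Finite D] (j : D →* K) (a : K ≃* K)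
    (haj : ∀ d, a (j d) = j d) {φ : K → ℂ} (hφ : Cfsg.IsIrrCharacter K φ)
    (hinv : ∀ k, φ (a k) = φ k) (hres : Cfsg.IsIrrCharacter D (fun d => φ (j d))) (k : K) :
    φ (a k * k⁻¹) = φ 1 := by
  obtain ⟨n, ρ, hρ, rfl⟩ := hφ
  have hτ : Representation.IsIrreducible (k := ℂ) (G := D) (ρ.comp j) :=
    isIrreducible_of_char (ρ.comp j) hres
  obtain ⟨E⟩ := Cfsg.Agent.Lib.Helper4Equiv.equiv_of_char_eq ρ (ρ.comp a.toMonoidHom) (by
    funext k
    exact (hinv k).symm)
  have hE : ∀ k, E.toLinearMap ∘ₗ ρ k = ρ (a k) ∘ₗ E.toLinearMap := fun k => E.isIntertwining' k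
  obtain ⟨c, hc⟩ := Helper82Schur.schur_scalar (ρ.comp j) E.toLinearMap (by
    intro d
    have := hE (j d)
    rw [haj] at this
    exact this)
  have hc0 : c ≠ 0 := by
    rintro rfl
    have hnt := Helper82Schur.nontrivial_of_irreducible ρ
    obtain ⟨v, hv⟩ := exists_ne (0 : Fin n → ℂ)
    apply hv
    have h1 : E.toLinearMap v = 0 := by rw [hc]; simp
    exact E.toLinearEquiv.injective (by simpa using h1)
  have h2 : ρ (a k) = ρ k := by
    have := hE k
    rw [hc] at this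
    refine LinearMap.ext fun v => ?_
    have h3 := congrArg (fun T : (Fin n → ℂ) →ₗ[ℂ] (Fin n → ℂ) => T v) this
    simp only [LinearMap.comp_apply, LinearMap.smul_apply, LinearMap.id_apply, map_smul] at h3
    exact (smul_right_injective _ hc0 h3).symm
  have h3 : ρ (a k * k⁻¹) = ρ 1 := by
    rw [map_mul, h2, ← map_mul, mul_inv_cancel]
  unfold Representation.character
  rw [h3]

section Group

variable {X : Type*} [Group X] [Finite X] (p : ℕ) [Fact p.Prime] (K : Subgroup X) [K.Normal]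
  (hK : (Nat.card K).Coprime p) (P : Sylow p X)

include hK in
theorem inf_sylow_eq_bot : K ⊓ (P : Subgroup X) = ⊥ := by
  apply (Subgroup.disjoint_of_coprime_natCard _).eq_bot
  obtain ⟨n, hn⟩ := P.2.exists_card_eq
  rw [hn]
  exact Nat.Coprime.pow_right n hK

include hK in
theorem commute_of_mem_normalizer {c x : X} (hc : c ∈ K)
    (hcN : c ∈ Subgroup.normalizer ((P : Subgroup X) : Set X)) (hx : x ∈ (P : Subgroup X)) :
    x * c * x⁻¹ = c := by
  have h1 : x * c * x⁻¹ * c⁻¹ ∈ K ⊓ (P : Subgroup X) := by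
    refine ⟨K.mul_mem (Subgroup.Normal.conj_mem inferInstance c hc x) (K.inv_mem hc), ?_⟩
    have h2 : c * x⁻¹ * c⁻¹ ∈ (P : Subgroup X) :=
      (Subgroup.mem_normalizer_iff.mp hcN x⁻¹).mp ((P : Subgroup X).inv_mem hx)
    have h3 : x * c * x⁻¹ * c⁻¹ = x * (c * x⁻¹ * c⁻¹) := by group
    rw [h3]
    exact (P : Subgroup X).mul_mem hx h2
  rw [inf_sylow_eq_bot p K hK P, Subgroup.mem_bot] at h1
  exact mul_inv_eq_one.mp h1

/-- the inclusion of `K ∩ N_X(P)` (as a subgroup of `N_X(P)`) into `K`. -/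
def incl : (K.subgroupOf (Subgroup.normalizer ((P : Subgroup X) : Set X))) →* K :=
  (Subgroup.normalizer ((P : Subgroup X) : Set X)).subtype.subgroupComap K

theorem incl_coe (d : K.subgroupOf (Subgroup.normalizer ((P : Subgroup X) : Set X))) :
    ((incl p K P d : K) : X) = ((d : Subgroup.normalizer ((P : Subgroup X) : Set X)) : X) := rfl

theorem incl_injective : Function.Injective (incl p K P) := by
  intro a b h
  apply Subtype.ext
  apply Subtype.ext
  have := congrArg (fun k : K => (k : X)) h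
  exact this

include hK in
theorem isFix (hel : ∀ x ∈ (P : Subgroup X), x ≠ 1 → ∀ g, g⁻¹ * x * g ∈ (P : Subgroup X) →
      g ∈ Subgroup.normalizer ((P : Subgroup X) : Set X))
    (S : Subgroup X) (hS : S ≤ (P : Subgroup X)) (hS1 : S ≠ ⊥) :
    Cfsg.Agent.Lib.Helper77Glaub.IsFix ((MulAut.conjNormal (H := K)).comp S.subtype)
      (incl p K P) := by
  refine ⟨incl_injective p K P, fun k => ⟨fun h => ?_, ?_⟩⟩
  · obtain ⟨w, hw1⟩ := Subgroup.ne_bot_iff_exists_ne_one.mp hS1
    have h1 : (w : X) * (k : X) * (w : X)⁻¹ = (k : X) := congrArg (fun k : K => (k : X)) (h w)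
    have h2 : (k : X)⁻¹ * (w : X) * (k : X) = (w : X) := by
      have h3 : (w : X) * (k : X) = (k : X) * (w : X) := mul_inv_eq_iff_eq_mul.mp h1
      rw [mul_assoc, h3, inv_mul_cancel_left]
    have hkN : (k : X) ∈ Subgroup.normalizer ((P : Subgroup X) : Set X) :=
      hel w (hS w.2) (fun h0 => hw1 (Subtype.ext h0)) k (by rw [h2]; exact hS w.2)
    exact ⟨⟨⟨k, hkN⟩, k.2⟩, Subtype.ext rfl⟩
  · rintro ⟨d, rfl⟩ s
    apply Subtype.ext
    show (s : X) * _ * (s : X)⁻¹ = _
    exact commute_of_mem_normalizer p K hK P (incl p K P d).2 (by rw [incl_coe]; exact d.1.2)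
      (hS s.2)

include hK in
/-- By the Glauberman correspondence, an irreducible character of `K` fixed by one nonidentity
element of `P` is fixed by all of `P`. -/
theorem invariant_of_fixed (hel : ∀ x ∈ (P : Subgroup X), x ≠ 1 → ∀ g,
      g⁻¹ * x * g ∈ (P : Subgroup X) → g ∈ Subgroup.normalizer ((P : Subgroup X) : Set X))
    (φ : Cfsg.IrrCharacter K) {w : X} (hw : w ∈ (P : Subgroup X)) (hw1 : w ≠ 1)
    (hfix : ∀ k : K, (φ : K → ℂ) (MulAut.conjNormal w k) = (φ : K → ℂ) k) :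
    ∀ x ∈ (P : Subgroup X), ∀ k : K, (φ : K → ℂ) (MulAut.conjNormal x k) = (φ : K → ℂ) k := by
  classical
  let _ : Fintype K := Fintype.ofFinite _
  let _ : Fintype (K.subgroupOf (Subgroup.normalizer ((P : Subgroup X) : Set X))) :=
    Fintype.ofFinite _
  have hcopS : ∀ S : Subgroup X, S ≤ (P : Subgroup X) → (Nat.card K).Coprime (Nat.card S) := by
    intro S hS
    obtain ⟨n, hn⟩ := (P.2.to_le hS).exists_card_eq
    rw [hn]
    exact Nat.Coprime.pow_right n hK
  have hzP : Subgroup.zpowers w ≤ (P : Subgroup X) := (Subgroup.zpowers_le).mpr hw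
  have hz1 : Subgroup.zpowers w ≠ ⊥ := by
    rw [Ne, Subgroup.zpowers_eq_bot]
    exact hw1
  have hP1 : (P : Subgroup X) ≠ ⊥ := by
    intro h
    rw [h, Subgroup.mem_bot] at hw
    exact hw1 hw
  obtain ⟨a1, -, -, a4, -⟩ := Cfsg.Agent.Lib.Helper77Glaub.glauberman p (P.2.to_le hzP)
    (isFix p K hK P hel _ hzP hz1) (hcopS _ hzP)
  obtain ⟨-, -, -, -, b5⟩ := Cfsg.Agent.Lib.Helper77Glaub.glauberman p P.2
    (isFix p K hK P hel _ le_rfl hP1) (hcopS _ le_rfl)
  have hInv : Cfsg.Agent.Lib.Helper77Glaub.Inv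
      ((MulAut.conjNormal (H := K)).comp (Subgroup.zpowers w).subtype) φ.1 := by
    intro s g
    have h1 : Subgroup.zpowers w ≤ Cfsg.Agent.Lib.Helper19Ratio.inertia
        (MulAut.conjNormal (H := K)) (φ : K → ℂ) := (Subgroup.zpowers_le).mpr hfix
    exact h1 s.2 g
  obtain ⟨β, hβ⟩ := a1 φ hInv
  obtain ⟨φ', hInv', hβ'⟩ := b5 β
  have hInv2 : Cfsg.Agent.Lib.Helper77Glaub.Inv
      ((MulAut.conjNormal (H := K)).comp (Subgroup.zpowers w).subtype) φ'.1 := by
    intro s g
    exact hInv' ⟨s, hzP s.2⟩ g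
  have := a4 φ φ' hInv hInv2 β hβ hβ'
  subst this
  intro x hx k
  exact hInv' ⟨x, hx⟩ k

/-- conjugate of an irreducible character of the normal subgroup `K`. -/
noncomputable def cjn (φ : Cfsg.IrrCharacter K) (g : X) : Cfsg.IrrCharacter K :=
  ⟨(φ : K → ℂ) ∘ (MulAut.conjNormal g : K ≃* K).toMonoidHom,
    Cfsg.Agent.Lib.Helper82Quot.isIrrCharacter_comp φ.2 _ (MulAut.conjNormal g : K ≃* K).surjective⟩

theorem cjn_apply (φ : Cfsg.IrrCharacter K) (g : X) (k : K) :
    (cjn K φ g : K → ℂ) k = (φ : K → ℂ) (MulAut.conjNormal g k) := rfl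

theorem classInner_cjn [Fintype K] {θ : X → ℂ} (hθ : Cfsg.IsClassFunction X θ)
    (φ : Cfsg.IrrCharacter K) (g : X) :
    Cfsg.classInner (fun k : K => θ k) (cjn K φ g : K → ℂ) =
      Cfsg.classInner (fun k : K => θ k) (φ : K → ℂ) := by
  unfold Cfsg.classInner
  congr 1
  rw [← Equiv.sum_comp (MulAut.conjNormal g : K ≃* K).toEquiv
    (fun k : K => θ k * conj ((φ : K → ℂ) k))]
  refine Finset.sum_congr rfl fun k _ => ?_
  rw [cjn_apply]
  congr 1
  show θ k = θ ((MulAut.conjNormal g k : K) : X)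
  rw [MulAut.conjNormal_apply, hθ]

include hK in
/-- A constituent of the restriction to `K` of a character of degree less than `|P|` is
`P`-invariant. -/
theorem invariant_of_small [Fintype K] (hel : ∀ x ∈ (P : Subgroup X), x ≠ 1 → ∀ g,
      g⁻¹ * x * g ∈ (P : Subgroup X) → g ∈ Subgroup.normalizer ((P : Subgroup X) : Set X))
    {θ : X → ℂ} (hθ : Cfsg.IsCharacter X θ)
    (hdeg : Cfsg.charDegree θ < Nat.card (P : Subgroup X))
    (φ : Cfsg.IrrCharacter K) (hφ : Cfsg.classInner (fun k : K => θ k) (φ : K → ℂ) ≠ 0) :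
    ∀ x ∈ (P : Subgroup X), ∀ k : K, (φ : K → ℂ) (MulAut.conjNormal x k) = (φ : K → ℂ) k := by
  classical
  by_contra hcon
  have hinj : Function.Injective (fun y : (P : Subgroup X) => cjn K φ y) := by
    intro y z hyz
    by_contra hne
    apply hcon
    apply invariant_of_fixed p K hK P hel φ (w := (y : X) * (z : X)⁻¹)
      ((P : Subgroup X).mul_mem y.2 ((P : Subgroup X).inv_mem z.2))
    · intro h
      exact hne (Subtype.ext (mul_inv_eq_one.mp h))
    · intro k
      have h1 := congrFun (congrArg Subtype.val hyz) (MulAut.conjNormal (z : X)⁻¹ k)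
      simp only [cjn_apply] at h1
      rw [map_mul, MulAut.mul_apply, h1, ← MulAut.mul_apply, ← map_mul, mul_inv_cancel, map_one,
        MulAut.one_apply]
  have hθK : Cfsg.IsCharacter K (fun k : K => θ k) := IsCharacter.restrict K hθ
  obtain ⟨m, hm, hsum⟩ := exists_mult hθK
  have hd := degree_eq_sum_mult hθK m hsum
  have hdd : Cfsg.charDegree (fun k : K => θ k) = Cfsg.charDegree θ := rfl
  let _ : Fintype (P : Subgroup X) := Fintype.ofFinite _
  have h1 : ∑ ψ ∈ Finset.univ.image (fun y : (P : Subgroup X) => cjn K φ y), 1 ≤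
      ∑ ψ : Cfsg.IrrCharacter K, m ψ * Cfsg.charDegree (ψ : K → ℂ) := by
    refine le_trans (Finset.sum_le_sum ?_) (Finset.sum_le_sum_of_subset (Finset.subset_univ _))
    intro ψ hψ
    obtain ⟨y, -, rfl⟩ := Finset.mem_image.mp hψ
    have h2 : m (cjn K φ y) ≠ 0 := by
      intro h0
      apply hφ
      rw [← classInner_cjn K (IsCharacter.isClassFunction hθ) φ y, hm, h0]
      simp
    exact Nat.mul_pos (Nat.pos_of_ne_zero h2) (irr_charDegree_pos _)
  rw [Finset.sum_const, Finset.card_image_of_injective _ hinj, Finset.card_univ,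
    ← Nat.card_eq_fintype_card, smul_eq_mul, mul_one] at h1
  omega

theorem exists_constituent {D : Type*} [Group D] [Fintype D] {ψ : D → ℂ}
    (hψ : Cfsg.IsCharacter D ψ) (h1 : Cfsg.charDegree ψ ≠ 0) :
    ∃ α : Cfsg.IrrCharacter D, Cfsg.classInner ψ (α : D → ℂ) ≠ 0 := by
  classical
  obtain ⟨m, hm, hsum⟩ := exists_mult hψ
  have hd := degree_eq_sum_mult hψ m hsum
  by_contra hcon
  push Not at hcon
  apply h1
  rw [hd]
  refine Finset.sum_eq_zero fun α _ => ?_
  have : (m α : ℂ) = 0 := by rw [← hm, hcon]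
  have h0 : m α = 0 := by exact_mod_cast this
  rw [h0, zero_mul]

/-- transitivity of "being a constituent" along a homomorphism. -/
theorem constituent_trans {A D : Type*} [Group A] [Fintype A] [Group D] [Fintype D] (j : D →* A)
    {θ : A → ℂ} (hθ : Cfsg.IsCharacter A θ) (φ : Cfsg.IrrCharacter A)
    (hφ : Cfsg.classInner θ (φ : A → ℂ) ≠ 0) (α : Cfsg.IrrCharacter D)
    (hα : Cfsg.classInner (fun d => (φ : A → ℂ) (j d)) (α : D → ℂ) ≠ 0) :
    Cfsg.classInner (fun d => θ (j d)) (α : D → ℂ) ≠ 0 := by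
  classical
  obtain ⟨m, hm, hsum⟩ := exists_mult hθ
  choose n hn using fun ψ : Cfsg.IrrCharacter A =>
    exists_nat_classInner (IsCharacter.comp j (irr_isCharacter ψ)) (irr_isCharacter α)
  have hres : (fun d => θ (j d)) =
      ∑ ψ : Cfsg.IrrCharacter A, (m ψ : ℂ) • (fun d => (ψ : A → ℂ) (j d)) := by
    funext d
    rw [hsum]
    simp [Finset.sum_apply]
  have hn' : ∀ ψ : Cfsg.IrrCharacter A,
      Cfsg.classInner (fun d => (ψ : A → ℂ) (j d)) (α : D → ℂ) = n ψ := hn
  rw [hres, classInner_sum_left]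
  simp only [classInner_smul_left, hn']
  have h1 : m φ ≠ 0 := by
    intro h0
    apply hφ
    rw [hm, h0]
    simp
  have h2 : n φ ≠ 0 := by
    intro h0
    apply hα
    rw [hn', h0]
    simp
  have h3 : 0 < ∑ ψ : Cfsg.IrrCharacter A, m ψ * n ψ :=
    lt_of_lt_of_le (Nat.mul_pos (Nat.pos_of_ne_zero h1) (Nat.pos_of_ne_zero h2))
      (Finset.single_le_sum (f := fun ψ => m ψ * n ψ) (fun _ _ => Nat.zero_le _)
        (Finset.mem_univ φ))
  have h4 : (∑ ψ : Cfsg.IrrCharacter A, (m ψ : ℂ) * (n ψ : ℂ)) =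
      ((∑ ψ : Cfsg.IrrCharacter A, m ψ * n ψ : ℕ) : ℂ) := by push_cast; rfl
  rw [h4]
  exact_mod_cast h3.ne'

theorem eq_of_pow_mul_eq {p a b u v : ℕ} (hu : u.Coprime p) (hv : v.Coprime p)
    (h : p ^ a * u = p ^ b * v) : u = v := by
  apply Nat.dvd_antisymm
  · exact (Nat.Coprime.pow_right b hu).dvd_of_dvd_mul_left (h ▸ Dvd.intro_left _ rfl)
  · exact (Nat.Coprime.pow_right a hv).dvd_of_dvd_mul_left (h ▸ Dvd.intro_left _ rfl)

include hK in
/-- If `θ` restricts irreducibly to `N_X(P)` and `X / K` is a `p`-group, every irreducible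
constituent of `θ_K` restricts irreducibly to `K ∩ N_X(P)`. -/
theorem res_irr [Fintype X] [Fintype K] (hidx : ∃ a, K.index = p ^ a)
    {θ : X → ℂ} (hθ : Cfsg.IsIrrCharacter X θ)
    (hθN : Cfsg.IsIrrCharacter (Subgroup.normalizer ((P : Subgroup X) : Set X))
      (fun n : Subgroup.normalizer ((P : Subgroup X) : Set X) => θ n))
    (φ : Cfsg.IrrCharacter K) (hφ : Cfsg.classInner (fun k : K => θ k) (φ : K → ℂ) ≠ 0) :
    Cfsg.IsIrrCharacter (K.subgroupOf (Subgroup.normalizer ((P : Subgroup X) : Set X)))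
      (fun d => (φ : K → ℂ) (incl p K P d)) := by
  classical
  have hp : p.Prime := Fact.out
  let _ : Fintype (Subgroup.normalizer ((P : Subgroup X) : Set X)) := Fintype.ofFinite _
  let _ : Fintype (K.subgroupOf (Subgroup.normalizer ((P : Subgroup X) : Set X))) :=
    Fintype.ofFinite _
  have hφj : Cfsg.IsCharacter (K.subgroupOf (Subgroup.normalizer ((P : Subgroup X) : Set X)))
      (fun d => (φ : K → ℂ) (incl p K P d)) := IsCharacter.comp (incl p K P) (irr_isCharacter φ)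
  have hdj : Cfsg.charDegree (fun d => (φ : K → ℂ) (incl p K P d)) =
      Cfsg.charDegree (φ : K → ℂ) := by
    show ⌊((φ : K → ℂ) (incl p K P 1)).re⌋₊ = _
    rw [map_one]
    rfl
  obtain ⟨α, hα⟩ := exists_constituent hφj (by rw [hdj]; exact (irr_charDegree_pos φ).ne')
  have hαθ := constituent_trans (incl p K P) (IsCharacter.restrict K
    (IsIrrCharacter.isCharacter hθ)) φ hφ α hα
  obtain ⟨a, ha⟩ := hidx
  obtain ⟨h1, h2⟩ := Cfsg.Agent.S0887.result K θ hθ (φ : K → ℂ) φ.2 hφ (Cfsg.charDegree θ)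
    (Cfsg.charDegree (φ : K → ℂ)) (charDegree_cast (IsIrrCharacter.isCharacter hθ)).symm
    (irr_charDegree_cast φ).symm
  have hαθ' : Cfsg.classInner (fun d : K.subgroupOf (Subgroup.normalizer ((P : Subgroup X) : Set X))
      => (fun n : Subgroup.normalizer ((P : Subgroup X) : Set X) => θ n) d) α.1 ≠ 0 := hαθ
  have hone : (fun n : Subgroup.normalizer ((P : Subgroup X) : Set X) => θ n) 1 =
      (Cfsg.charDegree θ : ℂ) := by
    show θ ((1 : Subgroup.normalizer ((P : Subgroup X) : Set X)) : X) = _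
    rw [Subgroup.coe_one]
    exact (charDegree_cast (IsIrrCharacter.isCharacter hθ)).symm
  obtain ⟨h3, h4⟩ := Cfsg.Agent.S0887.result
    (K.subgroupOf (Subgroup.normalizer ((P : Subgroup X) : Set X)))
    (fun n : Subgroup.normalizer ((P : Subgroup X) : Set X) => θ n) hθN α.1 α.2 hαθ'
    (Cfsg.charDegree θ) (Cfsg.charDegree α.1) hone (irr_charDegree_cast α).symm
  rw [ha] at h2
  have h4' : Cfsg.charDegree θ / Cfsg.charDegree α.1 ∣ p ^ a := by
    refine h4.trans ?_
    rw [← ha]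
    exact Subgroup.relIndex_dvd_index_of_normal K _
  obtain ⟨b, -, hb⟩ := (Nat.dvd_prime_pow hp).mp h2
  obtain ⟨c, -, hc⟩ := (Nat.dvd_prime_pow hp).mp h4'
  have e1 : Cfsg.charDegree θ = p ^ b * Cfsg.charDegree (φ : K → ℂ) := by
    rw [← hb, Nat.div_mul_cancel h1]
  have e2 : Cfsg.charDegree θ = p ^ c * Cfsg.charDegree α.1 := by
    rw [← hc, Nat.div_mul_cancel h3]
  have c1 : (Cfsg.charDegree (φ : K → ℂ)).Coprime p :=
    Nat.Coprime.coprime_dvd_left (Cfsg.Agent.Lib.Helper82Cod.irr_degree_dvd_card φ) hK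
  have c2 : (Cfsg.charDegree α.1).Coprime p :=
    Nat.Coprime.coprime_dvd_left ((Cfsg.Agent.Lib.Helper82Cod.irr_degree_dvd_card α).trans
      (Subgroup.card_dvd_of_injective _ (incl_injective p K P))) hK
  have e3 := eq_of_pow_mul_eq c1 c2 (e1.symm.trans e2)
  rw [eq_of_degree_le hφj α hα (by rw [hdj, e3])]
  exact α.2

theorem elementwise_of_TI
    (hTI : ∀ g : X, g ∉ Subgroup.normalizer ((P : Subgroup X) : Set X) →
      (P : Subgroup X) ⊓ (MulAut.conj g • (P : Subgroup X)) = ⊥) :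
    ∀ x ∈ (P : Subgroup X), x ≠ 1 → ∀ g,
      g⁻¹ * x * g ∈ (P : Subgroup X) → g ∈ Subgroup.normalizer ((P : Subgroup X) : Set X) := by
  intro x hx hx1 g hg
  by_contra hgN
  exact free_of_TI p P hTI _ le_rfl x hx hx1 g hgN (Subgroup.le_normalizer hg)

include hK in
/-- Core: in `X` with normal `p'`-subgroup `K` of `p`-power index and TI Sylow `p`-subgroup `P ≠ 1`,
the commutators `[P, K]` lie in the kernel of every irreducible character `θ` with
`θ(1)² ≤ |P|`. -/
theorem core (hTI : ∀ g : X, g ∉ Subgroup.normalizer ((P : Subgroup X) : Set X) →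
      (P : Subgroup X) ⊓ (MulAut.conj g • (P : Subgroup X)) = ⊥)
    (hidx : ∃ a, K.index = p ^ a) (hP1 : (P : Subgroup X) ≠ ⊥)
    {θ : X → ℂ} (hθ : Cfsg.IsIrrCharacter X θ)
    (hdeg : Cfsg.charDegree θ ^ 2 ≤ Nat.card (P : Subgroup X)) (k : K) {x : X}
    (hx : x ∈ (P : Subgroup X)) : θ (x * k * x⁻¹ * (k : X)⁻¹) = θ 1 := by
  classical
  let _ : Fintype X := Fintype.ofFinite _
  let _ : Fintype K := Fintype.ofFinite _
  let _ : Fintype (Subgroup.normalizer ((P : Subgroup X) : Set X)) := Fintype.ofFinite _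
  have hel := elementwise_of_TI p P hTI
  have hθc := IsIrrCharacter.isCharacter hθ
  have hθN : Cfsg.IsIrrCharacter (Subgroup.normalizer ((P : Subgroup X) : Set X))
      (fun n : Subgroup.normalizer ((P : Subgroup X) : Set X) => θ n) := by
    rw [isIrrCharacter_iff]
    refine ⟨IsCharacter.restrict _ hθc, ?_⟩
    rw [← Cfsg.Agent.S4750.result p P hTI θ hθc hdeg _ le_rfl]
    exact classInner_irr_self hθ
  have hcard : 1 < Nat.card (P : Subgroup X) := by
    rw [Finite.one_lt_card_iff_nontrivial]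
    exact (Subgroup.nontrivial_iff_ne_bot _).mpr hP1
  have hlt : Cfsg.charDegree θ < Nat.card (P : Subgroup X) := by
    by_contra hge
    push Not at hge
    nlinarith
  have hθK : Cfsg.IsCharacter K (fun k : K => θ k) := IsCharacter.restrict K hθc
  obtain ⟨m, hm, hsum⟩ := exists_mult hθK
  have key : ∀ ψ : Cfsg.IrrCharacter K, (m ψ : ℂ) * (ψ : K → ℂ) (MulAut.conjNormal x k * k⁻¹) =
      (m ψ : ℂ) * (ψ : K → ℂ) 1 := by
    intro ψ
    by_cases h0 : m ψ = 0
    · rw [h0]; simp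
    have hψ : Cfsg.classInner (fun k : K => θ k) (ψ : K → ℂ) ≠ 0 := by
      rw [hm]
      exact_mod_cast h0
    have hinv := invariant_of_small p K hK P hel hθc hlt ψ hψ x hx
    have hres := res_irr p K hK P hidx hθ hθN ψ hψ
    rw [rigid (incl p K P) (MulAut.conjNormal x : K ≃* K) ?_ ψ.2 hinv hres k]
    intro d
    apply Subtype.ext
    rw [MulAut.conjNormal_apply]
    exact commute_of_mem_normalizer p K hK P (incl p K P d).2 (by rw [incl_coe]; exact d.1.2) hx
  have e1 : θ (x * k * x⁻¹ * (k : X)⁻¹) = (fun k : K => θ k) (MulAut.conjNormal x k * k⁻¹) := by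
    show _ = θ ((MulAut.conjNormal x k * k⁻¹ : K) : X)
    rw [Subgroup.coe_mul, MulAut.conjNormal_apply, Subgroup.coe_inv]
  have e2 : θ 1 = (fun k : K => θ k) 1 := rfl
  rw [e1, e2, hsum]
  simp only [Finset.sum_apply, Pi.smul_apply, smul_eq_mul]
  exact Finset.sum_congr rfl fun ψ _ => key ψ

include hK in
theorem commute_of_faithful (hTI : ∀ g : X, g ∉ Subgroup.normalizer ((P : Subgroup X) : Set X) →
      (P : Subgroup X) ⊓ (MulAut.conj g • (P : Subgroup X)) = ⊥)
    (hidx : ∃ a, K.index = p ^ a) (hP1 : (P : Subgroup X) ≠ ⊥)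
    {χ : X → ℂ} (hχ : Cfsg.IsCharacter X χ) (hfaith : ∀ g : X, χ g = χ 1 → g = 1)
    (hdeg : Cfsg.charDegree χ ^ 2 ≤ Nat.card (P : Subgroup X)) {k x : X} (hk : k ∈ K)
    (hx : x ∈ (P : Subgroup X)) : x * k * x⁻¹ * k⁻¹ = 1 := by
  classical
  let _ : Fintype X := Fintype.ofFinite _
  apply hfaith
  obtain ⟨m, hm, hsum⟩ := exists_mult hχ
  have hd := degree_eq_sum_mult hχ m hsum
  rw [hsum]
  simp only [Finset.sum_apply, Pi.smul_apply, smul_eq_mul]
  refine Finset.sum_congr rfl fun θ _ => ?_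
  by_cases h0 : m θ = 0
  · rw [h0]; simp
  have h1 : Cfsg.charDegree (θ : X → ℂ) ≤ Cfsg.charDegree χ := by
    rw [hd]
    refine le_trans (Nat.le_mul_of_pos_left _ (Nat.pos_of_ne_zero h0))
      (Finset.single_le_sum (f := fun θ : Cfsg.IrrCharacter X => m θ * Cfsg.charDegree (θ : X → ℂ))
        (fun _ _ => Nat.zero_le _) (Finset.mem_univ θ))
  have h2 : Cfsg.charDegree (θ : X → ℂ) ^ 2 ≤ Nat.card (P : Subgroup X) :=
    le_trans (Nat.pow_le_pow_left h1 2) hdeg
  rw [core p K hK P hTI hidx hP1 θ.2 h2 ⟨k, hk⟩ hx]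

end Group

section Transfer

variable {G : Type*} [Group G] [Finite G] (p : ℕ) [Fact p.Prime]

theorem TI_subtype (P : Sylow p G)
    (hTI : ∀ g : G, g ∉ Subgroup.normalizer ((P : Subgroup G) : Set G) →
      (P : Subgroup G) ⊓ (MulAut.conj g • (P : Subgroup G)) = ⊥)
    (X : Subgroup G) (hPX : (P : Subgroup G) ≤ X) :
    ∀ g : X, g ∉ Subgroup.normalizer (((P.subtype hPX : Sylow p X) : Subgroup X) : Set X) →
      ((P.subtype hPX : Sylow p X) : Subgroup X) ⊓
        (MulAut.conj g • ((P.subtype hPX : Sylow p X) : Subgroup X)) = ⊥ := by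
  intro g hg
  rw [Sylow.coe_subtype, ← Subgroup.subgroupOf_normalizer_eq hPX, Subgroup.mem_subgroupOf] at hg
  have h := hTI g hg
  rw [eq_bot_iff]
  rintro y ⟨hy1, hy2⟩
  rw [Subgroup.mem_bot]
  apply Subtype.ext
  have hy : (y : G) ∈ (P : Subgroup G) ⊓ (MulAut.conj (g : G) • (P : Subgroup G)) := by
    refine ⟨hy1, ?_⟩
    obtain ⟨z, hz, hzy⟩ := hy2
    refine ⟨z, hz, ?_⟩
    have := congrArg (fun t : X => (t : G)) hzy
    exact this
  rw [h, Subgroup.mem_bot] at hy
  exact hy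

/-- A normal `p'`-subgroup centralizes a TI Sylow `p`-subgroup `P ≠ 1` if there is a faithful
character of degree at most `√|P|`. -/
theorem commute_of_faithful' (K : Subgroup G) [K.Normal] (hK : (Nat.card K).Coprime p)
    (P : Sylow p G)
    (hTI : ∀ g : G, g ∉ Subgroup.normalizer ((P : Subgroup G) : Set G) →
      (P : Subgroup G) ⊓ (MulAut.conj g • (P : Subgroup G)) = ⊥)
    (hP1 : (P : Subgroup G) ≠ ⊥)
    {χ : G → ℂ} (hχ : Cfsg.IsCharacter G χ) (hfaith : ∀ g : G, χ g = χ 1 → g = 1)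
    (hdeg : Cfsg.charDegree χ ^ 2 ≤ Nat.card (P : Subgroup G)) {k x : G} (hk : k ∈ K)
    (hx : x ∈ (P : Subgroup G)) : x * k * x⁻¹ * k⁻¹ = 1 := by
  have hp : p.Prime := Fact.out
  have hKX : K ≤ K ⊔ (P : Subgroup G) := le_sup_left
  have hPX : (P : Subgroup G) ≤ K ⊔ (P : Subgroup G) := le_sup_right
  have hcK : Nat.card (K.subgroupOf (K ⊔ (P : Subgroup G))) = Nat.card K :=
    Nat.card_congr (Subgroup.subgroupOfEquivOfLe hKX).toEquiv
  have hcP : Nat.card ((P.subtype hPX : Sylow p _) : Subgroup (K ⊔ (P : Subgroup G) : Subgroup G)) =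
      Nat.card (P : Subgroup G) :=
    Nat.card_congr (Subgroup.subgroupOfEquivOfLe hPX).toEquiv
  have hidx : ∃ a, (K.subgroupOf (K ⊔ (P : Subgroup G))).index = p ^ a := by
    have h1 : (K.subgroupOf (K ⊔ (P : Subgroup G))).index = K.relIndex (P : Subgroup G) := by
      rw [← Subgroup.relIndex_sup_left]
      rfl
    obtain ⟨n, hn⟩ := P.2.exists_card_eq
    have h2 : K.relIndex (P : Subgroup G) ∣ p ^ n := hn ▸ Subgroup.relIndex_dvd_card _ _
    obtain ⟨a, -, ha⟩ := (Nat.dvd_prime_pow hp).mp h2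
    exact ⟨a, h1.trans ha⟩
  have hP1' : ((P.subtype hPX : Sylow p _) : Subgroup (K ⊔ (P : Subgroup G) : Subgroup G)) ≠ ⊥ := by
    intro h
    apply hP1
    rw [← Subgroup.card_eq_one, ← hcP, h]
    exact Subgroup.card_bot
  have := commute_of_faithful p (K.subgroupOf (K ⊔ (P : Subgroup G))) (by rw [hcK]; exact hK)
    (P.subtype hPX) (TI_subtype p P hTI _ hPX) hidx hP1'
    (χ := fun y : (K ⊔ (P : Subgroup G) : Subgroup G) => χ y) (IsCharacter.restrict _ hχ)
    (fun g hg => Subtype.ext (hfaith g hg)) (by rw [hcP]; exact hdeg)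
    (k := ⟨k, hKX hk⟩) (x := ⟨x, hPX hx⟩) hk hx
  exact congrArg (fun t : (K ⊔ (P : Subgroup G) : Subgroup G) => (t : G)) this

end Transfer

end Cfsg.Agent.Lib.Helper82TISolv
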