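import Mathlib
import Cfsg.Prelude.Def_Blocks
import Cfsg.Agent.Lib.Helper21Nil
import Cfsg.Agent.Lib.Helper20Fong
import Cfsg.Agent.Lib.Helper82TISolv
import Cfsg.Agent.Lib.Helper21Cover2

set_option autoImplicit false
set_option linter.unusedSectionVars false
set_option linter.unusedVariables false

/-! Blocks over an invariant character of a normal `p'`-subgroup `N`, when `N ≤ L`, `L/N` is a
`p`-group and `L` contains the centralizers of its Sylow `p`-subgroups. -/

namespace Cfsg.Agent.Lib.Helper21PS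

open Cfsg
open Cfsg.Agent.Lib.Helper20Local Cfsg.Agent.Lib.Helper20Center Cfsg.Agent.Lib.Helper20Block
open Cfsg.Agent.Lib.Helper20First Cfsg.Agent.Lib.Helper20Induced
open Cfsg.Agent.Lib.Helper87Sylow Cfsg.Agent.Lib.Helper20Sub
open Cfsg.Agent.Lib.Helper20Cov Cfsg.Agent.Lib.Helper20Defect Cfsg.Agent.Lib.Helper20Fong
open Cfsg.Agent.Lib.Helper20DefCard
open Cfsg.Agent.Lib.Helper21Cover Cfsg.Agent.Lib.Helper21Cover2 Cfsg.Agent.Lib.Helper21Cover4
open Cfsg.Agent.Lib.Helper21Nil

variable {G : Type*} [Group G] [Fintype G] {M : Ideal Cfsg.AlgInt} {p : ℕ} [Fact p.Prime]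

/-- restriction to `N` of a constituent `ψ` of `χ_L`, when `χ` lies over the invariant `θ`. -/
theorem res_eq_of_invariant {N L : Subgroup G} [hN : N.Normal] [Fintype N] [Fintype L]
    (hNL : N ≤ L) {θ : IrrCharacter N} (hinv : ∀ g : G, cjI hN θ g = θ)
    {χ : IrrCharacter G} (hχ : Over χ θ) {ψ : IrrCharacter L} (hψ : Over χ ψ) (n : N) :
    (ψ : L → ℂ) (Subgroup.inclusion hNL n)
      = (ψ : L → ℂ) 1 / (θ : N → ℂ) 1 * (θ : N → ℂ) n := by
  classical
  have hcf : IsClassFunction N (fun n : N => (ψ : L → ℂ) (Subgroup.inclusion hNL n)) := by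
    intro n m
    have := Helper4Char.IsIrrCharacter.isClassFunction ψ.2 (Subgroup.inclusion hNL n)
      (Subgroup.inclusion hNL m)
    simpa using this
  have h1 := Helper4Char.classFunction_eq_sum _ hcf
  have h2 : ∀ θ' : IrrCharacter N, θ' ≠ θ →
      classInner (fun n : N => (ψ : L → ℂ) (Subgroup.inclusion hNL n)) (θ' : N → ℂ) = 0 := by
    intro θ' hθ'
    by_contra hne
    have h3 := Helper82TISolv.constituent_trans (Subgroup.inclusion hNL)
      (Helper4Char4.IsCharacter.restrict L (Helper82Irr.irr_isCharacter χ)) ψ hψ θ' hne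
    obtain ⟨g, hg⟩ := over_conj hN hχ (show Over χ θ' from h3)
    rw [hinv] at hg
    exact hθ' hg
  have h3 : ∀ n : N, (ψ : L → ℂ) (Subgroup.inclusion hNL n)
      = classInner (fun n : N => (ψ : L → ℂ) (Subgroup.inclusion hNL n)) (θ : N → ℂ)
        * (θ : N → ℂ) n := by
    intro n
    have := congrFun h1 n
    rw [Finset.sum_apply, Finset.sum_eq_single θ] at this
    · simpa using this
    · intro ψ' _ hψ'
      rw [h2 ψ' hψ']
      simp
    · intro hh
      exact absurd (Finset.mem_univ _) hh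
  have h4 := h3 1
  have hζ := Helper81Base.irr_one_ne_zero θ
  rw [h3 n]
  have h5 : (ψ : L → ℂ) 1
      = classInner (fun n : N => (ψ : L → ℂ) (Subgroup.inclusion hNL n)) (θ : N → ℂ)
        * (θ : N → ℂ) 1 := by
    simpa using h4
  rw [h5]
  field_simp

/-- two constituents of characters over the invariant `θ` lie in the same block of `L`. -/
theorem sameBlock_of_invariant (hM : IsPModular p M) {N L : Subgroup G} [hN : N.Normal]
    [Fintype N] [Fintype L] (hNL : N ≤ L)
    (hreg : ∀ l ∈ L, ¬ p ∣ orderOf l → l ∈ N)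
    {θ : IrrCharacter N} (hinv : ∀ g : G, cjI hN θ g = θ)
    {χ χ' : IrrCharacter G} (hχ : Over χ θ) (hχ' : Over χ' θ) {ψ ψ' : IrrCharacter L}
    (hψ : Over χ ψ) (hψ' : Over χ' ψ') : SameBlock M (ψ : L → ℂ) (ψ' : L → ℂ) := by
  have hP := IsPModular.isPrime hM
  apply sameBlock_of_regular hM
  intro l hl
  have hl' : (l : G) ∈ N := hreg l l.2 (by rwa [Subgroup.orderOf_coe])
  have e1 : l = Subgroup.inclusion hNL ⟨l, hl'⟩ := rfl
  have h1 := res_eq_of_invariant hNL hinv hχ hψ ⟨l, hl'⟩
  have h2 := res_eq_of_invariant hNL hinv hχ' hψ' ⟨l, hl'⟩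
  rw [← e1] at h1 h2
  have hψ1 := Helper81Base.irr_one_ne_zero ψ
  have hψ1' := Helper81Base.irr_one_ne_zero ψ'
  have : centralChar (ψ : L → ℂ) l - centralChar (ψ' : L → ℂ) l = 0 := by
    unfold centralChar
    rw [h1, h2]
    field_simp
    ring
  rw [this]
  exact memLocalIdeal_zero hP

theorem block_over_invariant (hM : IsPModular p M) (N L : Subgroup G) [hN : N.Normal]
    [hL : L.Normal] [Fintype N] [Fintype L] (hNp : ¬ p ∣ Nat.card N) (hNL : N ≤ L)
    (hreg : ∀ l ∈ L, ¬ p ∣ orderOf l → l ∈ N)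
    (hC : ∀ Q : Subgroup G, Q ≤ L → Nat.card Q = p ^ (Nat.card L).factorization p →
      Subgroup.centralizer (Q : Set G) ≤ L)
    (θ : IrrCharacter N) (hinv : ∀ g : G, cjI hN θ g = θ) :
    ∃ B : Set (IrrCharacter G), IsPBlock M B ∧ (∀ χ, χ ∈ B ↔ Over χ θ) ∧
      blockDefect p B = (Nat.card G).factorization p := by
  classical
  have hP := IsPModular.isPrime hM
  have hp : p.Prime := Fact.out
  set b0 : Set (IrrCharacter N) := blockOf M (θ : N → ℂ) with hb0def
  have hb0 : IsPBlock M b0 := isPBlock_blockOf θ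
  have hb0eq : ∀ θ' ∈ b0, θ' = θ := fun θ' h => eq_of_sameBlock_of_pprime hM hNp h
  have hθb0 : θ ∈ b0 := mem_blockOf_self hP θ
  have hst : Stable hN b0 := by
    intro θ' hθ' g
    rw [hb0eq θ' hθ', hinv]
    exact hθb0
  obtain ⟨B, hB, hcov, hdef⟩ := exists_covering_defect hM hb0 hst
  have hidx : N.index.factorization p = (Nat.card G).factorization p := by
    rw [← N.card_mul_index, Nat.factorization_mul Nat.card_pos.ne' N.index_ne_zero_of_finite,
      Finsupp.add_apply, Nat.factorization_eq_zero_of_not_dvd hNp, zero_add]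
  have hBd : blockDefect p B = (Nat.card G).factorization p := by
    have h1 := Helper81Defect.blockDefect_def (p := p) B
    omega
  have hmem : ∀ χ ∈ B, Over χ θ := by
    intro χ hχ
    obtain ⟨θ', hθ'⟩ := exists_under (N := N) χ
    have := hP
    obtain ⟨g, θ'', hθ'', rfl⟩ := (mem_orb hN b0 θ').1 (mem_orb_of_mem hN hB hb0 hcov hχ hθ')
    rw [hb0eq θ'' hθ'', hinv] at hθ'
    exact hθ'
  refine ⟨B, hB, fun χ => ⟨hmem χ, ?_⟩, hBd⟩
  intro hχ
  have := hP
  obtain ⟨b, hb, χ0, hχ0, ψ0, hψ0, hov0⟩ := exists_covered (N := L) hB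
  have hcovL : Cv B b := ⟨χ0, hχ0, ψ0, hψ0, hov0⟩
  obtain ⟨D, hD⟩ := exists_defectGroup hM hB
  have hDcard := card_defectGroup hM hB hD
  have h1 := defect_add_index hM hb hB hcovL hD
  have hDidx : ¬ p ∣ D.index := by
    intro hdvd
    have h2 : (Nat.card G).factorization p
        = (Nat.card D).factorization p + D.index.factorization p := by
      rw [← D.card_mul_index, Nat.factorization_mul Nat.card_pos.ne' D.index_ne_zero_of_finite]
      rfl
    rw [hDcard, hBd, hp.factorization_pow, Finsupp.single_eq_same] at h2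
    have h3 : 1 ≤ D.index.factorization p :=
      (hp.dvd_iff_one_le_factorization D.index_ne_zero_of_finite).1 hdvd
    omega
  have hDL : (D ⊔ L).index.factorization p = 0 :=
    Nat.factorization_eq_zero_of_not_dvd
      (fun h => hDidx (h.trans (Subgroup.index_dvd_of_le le_sup_left)))
  have hLidx : (Nat.card G).factorization p
      = (Nat.card L).factorization p + L.index.factorization p := by
    rw [← L.card_mul_index, Nat.factorization_mul Nat.card_pos.ne' L.index_ne_zero_of_finite]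
    rfl
  have hbd : blockDefect p b = (Nat.card L).factorization p := by omega
  obtain ⟨Q', hQ'⟩ := exists_defectGroup hM hb
  have hQ'card := card_defectGroup hM hb hQ'
  set Q : Subgroup G := Q'.map L.subtype with hQdef
  have hQL : Q ≤ L := Subgroup.map_subtype_le Q'
  have hQsub : Q.subgroupOf L = Q' := by
    rw [hQdef, Subgroup.subgroupOf, Subgroup.comap_map_eq_self_of_injective L.subtype_injective]
  have hQcard : Nat.card Q = p ^ (Nat.card L).factorization p := by
    rw [hQdef, Subgroup.card_map_of_injective L.subtype_injective, hQ'card, hbd]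
  have hQp : IsPGroup p Q := IsPGroup.of_card hQcard
  have hQ'' : IsDefectGroup p M b (Q.subgroupOf L) := by rw [hQsub]; exact hQ'
  obtain ⟨g0, hg0, hQS⟩ := isDefectGroup_iff.1 hQ''
  have hQb : ∃ x : L, (x : G) ∈ Subgroup.centralizer (Q : Set G) ∧
      ¬ MemLocalIdeal M (blockCoeff b x) :=
    ⟨g0, (mem_centralizer_subgroupOf_iff hQL g0).1 (le_centralizer_singleton_iff.1 hQS.1),
      hg0.2.1⟩
  obtain ⟨ψ, hψ⟩ := exists_under (N := L) χ
  have hs := sameBlock_of_invariant hM hNL hreg hinv (hmem χ0 hχ0) hχ hov0 hψ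
  have hψb : ψ ∈ b := IsPBlock.mem_of_sameBlock hP hb hψ0 hs
  have hcov' : Cv (blockOf M (χ : G → ℂ)) b := ⟨χ, mem_blockOf_self hP χ, ψ, hψb, hψ⟩
  have := unique_covering_of_centralizer_le hM hb hB (isPBlock_blockOf χ) hcovL hcov' hQp hQL hQb
    (hC Q hQL hQcard)
  rw [← this]
  exact mem_blockOf_self hP χ

/-- a block of full defect has exactly the Sylow subgroups as defect groups. -/
theorem sylow_defect (hM : IsPModular p M) {B : Set (IrrCharacter G)} (hB : IsPBlock M B)
    (hd : blockDefect p B = (Nat.card G).factorization p) :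
    (∀ P : Sylow p G, IsDefectGroup p M B (P : Subgroup G)) ∧
      ∀ D : Subgroup G, IsDefectGroup p M B D → ∃ P : Sylow p G, D = (P : Subgroup G) := by
  have h2 : ∀ D : Subgroup G, IsDefectGroup p M B D → ∃ P : Sylow p G, D = (P : Subgroup G) := by
    intro D hD
    have h1 := card_defectGroup hM hB hD
    rw [hd] at h1
    exact ⟨Sylow.ofCard D h1, rfl⟩
  refine ⟨fun P => ?_, h2⟩
  obtain ⟨D, hD⟩ := exists_defectGroup hM hB
  obtain ⟨P0, rfl⟩ := h2 D hD
  obtain ⟨g, rfl⟩ := MulAction.exists_smul_eq G P0 P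
  exact isDefectGroup_cj hD g

end Cfsg.Agent.Lib.Helper21PS
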