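import Cfsg.Agent.Lib.Helper46SL2CharE

/-!
# Characters of `SL₂(q)`, part F: the table, organised by degree
-/

set_option autoImplicit false
set_option linter.unusedSectionVars false
set_option linter.unusedSimpArgs false
set_option linter.unusedVariables false

namespace Cfsg.Agent.Lib.Helper46SL2CharF

open Cfsg.Agent.Lib.Helper46SL2 Cfsg.Agent.Lib.Helper46Borel Cfsg.Agent.S2432
open Cfsg.Agent.Lib.Helper4Char Cfsg.Agent.Lib.Helper4Char2 Cfsg.Agent.Lib.Helper4Char4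
open Cfsg.Agent.Lib.Helper46SL2CharA Cfsg.Agent.Lib.Helper32Virt Cfsg.Agent.Lib.Helper46SL2CharD
open Cfsg.Agent.Lib.Helper46SL2CharB Cfsg.Agent.Lib.Helper46SL2CharC Cfsg.Agent.Lib.Helper46Fourier
open Cfsg.Agent.Lib.Helper46SL2CharE
open scoped ComplexConjugate

local notation "SL2" => Matrix.SpecialLinearGroup (Fin 2)

variable {F : Type*} [Field F] [Fintype F] [DecidableEq F]

local notation "q" => (Fintype.card F : ℂ)

theorem unit_eq_one_of_sq_of_odd_pow {u : ℂˣ} (h2 : u ^ 2 = 1) {n : ℕ} (hn : Odd n) (h : u ^ n = 1) : u = 1 := by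
  obtain ⟨k, rfl⟩ := hn
  rwa [pow_succ, pow_mul, h2, one_pow, one_mul] at h

theorem mulChar_eq_one_of_even (heven : ¬ Odd (Fintype.card F)) {α : MulChar F ℂ} (h : α = α⁻¹) : α = 1 := by
  by_contra hne
  apply toUnitHom_ne_one hne
  ext a
  have h1 : (MulChar.toUnitHom α a) ^ (Fintype.card F - 1) = 1 := by
    rw [← map_pow, ← Fintype.card_units, pow_card_eq_one, map_one]
  have hodd : Odd (Fintype.card F - 1) := by
    have h0 : 0 < Fintype.card F := Fintype.card_pos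
    rw [Nat.not_odd_iff_even] at heven
    obtain ⟨k, hk⟩ := heven
    exact ⟨k - 1, by omega⟩
  rw [unit_eq_one_of_sq_of_odd_pow (toUnitHom_sq h a) hodd h1]
  simp

variable {C : Subgroup (SL2 F)}

theorem hom_eq_one_of_even (heven : ¬ Odd (Fintype.card F)) (hC : IsNS C) {θ : C →* ℂˣ} (h : θ⁻¹ = θ) :
    θ = 1 := by
  ext c
  have h1 : (θ c) ^ (Fintype.card F + 1) = 1 := by
    rw [← map_pow, ← hC.card, pow_card_eq_one', map_one]
  have hodd : Odd (Fintype.card F + 1) := by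
    rw [Nat.not_odd_iff_even] at heven
    exact heven.add_one
  rw [unit_eq_one_of_sq_of_odd_pow (hom_sq h c) hodd h1]
  simp

/-- The classification, with degrees. -/
theorem classify_deg (hC : IsNS C) {χ : SL2 F → ℂ} (hχ : Cfsg.IsIrrCharacter (SL2 F) χ) :
    ∃ n : ℕ, χ 1 = (n : ℂ) ∧
      ((n = 1 ∧ χ = 1) ∨ (n = Fintype.card F ∧ χ = St) ∨
      (n = Fintype.card F + 1 ∧ ∃ α : MulChar F ℂ, α ≠ α⁻¹ ∧ χ = RR α) ∨
      (n = Fintype.card F - 1 ∧ ∃ (θ : C →* ℂˣ) (α : MulChar F ℂ), Compat θ α ∧ θ⁻¹ ≠ θ ∧ χ = cusp θ α) ∨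
      (Odd (Fintype.card F) ∧ n = (Fintype.card F + 1) / 2 ∧
        ∃ (α : MulChar F ℂ) (χ' : SL2 F → ℂ), α = α⁻¹ ∧ α ≠ 1 ∧ Halves C (RR α) χ χ') ∨
      (Odd (Fintype.card F) ∧ n = (Fintype.card F - 1) / 2 ∧
        ∃ (θ : C →* ℂˣ) (α : MulChar F ℂ) (χ' : SL2 F → ℂ), Compat θ α ∧ θ⁻¹ = θ ∧ θ ≠ 1 ∧
          Halves C (cusp θ α) χ χ')) := by
  rcases classify hC hχ with rfl | rfl | ⟨α, h1, rfl⟩ | ⟨θ, α, h1, h2, rfl⟩ | ⟨α, h1, h2, h3⟩ | ⟨θ, α, h1, h2, h3, h4⟩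
  · exact ⟨1, by simp, Or.inl ⟨rfl, rfl⟩⟩
  · exact ⟨Fintype.card F, St_one, Or.inr (Or.inl ⟨rfl, rfl⟩)⟩
  · exact ⟨Fintype.card F + 1, by rw [RR_one]; simp, Or.inr (Or.inr (Or.inl ⟨rfl, α, h1, rfl⟩))⟩
  · exact ⟨Fintype.card F - 1, cusp_one hC h1, Or.inr (Or.inr (Or.inr (Or.inl ⟨rfl, θ, α, h1, h2, rfl⟩)))⟩
  · have hodd : Odd (Fintype.card F) := by
      by_contra heven
      exact h2 (mulChar_eq_one_of_even heven h1)
    obtain ⟨ξ₁, ξ₂, hh⟩ := halves_RR hodd hC h1 h2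
    obtain ⟨χ', hχ'⟩ := hh.exists_of_inner hχ h3
    refine ⟨(Fintype.card F + 1) / 2, ?_, Or.inr (Or.inr (Or.inr (Or.inr (Or.inl ⟨hodd, rfl, α, χ', h1, h2, hχ'⟩))))⟩
    have := hχ'.two_mul_one
    rw [RR_one] at this
    obtain ⟨k, hk⟩ := hodd
    rw [show (Fintype.card F + 1) / 2 = k + 1 by omega]
    rw [hk] at this
    push_cast at this ⊢
    linear_combination (1 / 2 : ℂ) * this
  · have hodd : Odd (Fintype.card F) := by
      by_contra heven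
      exact h3 (hom_eq_one_of_even heven hC h2)
    obtain ⟨ξ₁, ξ₂, hh⟩ := halves_cusp hodd hC h1 h2 h3
    obtain ⟨χ', hχ'⟩ := hh.exists_of_inner hχ h4
    refine ⟨(Fintype.card F - 1) / 2, ?_,
      Or.inr (Or.inr (Or.inr (Or.inr (Or.inr ⟨hodd, rfl, θ, α, χ', h1, h2, h3, hχ'⟩))))⟩
    have := hχ'.two_mul_one
    rw [cusp_one hC h1] at this
    obtain ⟨k, hk⟩ := hodd
    rw [show (Fintype.card F - 1) / 2 = k by omega]
    rw [show Fintype.card F - 1 = 2 * k by omega] at this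
    push_cast at this
    linear_combination (1 / 2 : ℂ) * this

theorem two_le_card : 2 ≤ Fintype.card F := Fintype.one_lt_card

theorem eq_St_of_deg {χ : SL2 F → ℂ} (hχ : Cfsg.IsIrrCharacter (SL2 F) χ) (h : χ 1 = q) : χ = St := by
  obtain ⟨C, hC⟩ := exists_isNS (F := F)
  obtain ⟨n, hn, hcases⟩ := classify_deg hC hχ
  have h2 := two_le_card (F := F)
  have e : n = Fintype.card F := by
    rw [hn] at h
    exact_mod_cast h
  rcases hcases with ⟨h1, -⟩ | ⟨-, h1⟩ | ⟨h1, -⟩ | ⟨h1, -⟩ | ⟨-, h1, -⟩ | ⟨-, h1, -⟩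
  · omega
  · exact h1
  · omega
  · omega
  · omega
  · omega

theorem of_deg_add_one {χ : SL2 F → ℂ} (hχ : Cfsg.IsIrrCharacter (SL2 F) χ) (h : χ 1 = q + 1) :
    ∃ α : MulChar F ℂ, α ≠ α⁻¹ ∧ χ = RR α := by
  obtain ⟨C, hC⟩ := exists_isNS (F := F)
  obtain ⟨n, hn, hcases⟩ := classify_deg hC hχ
  have h2 := two_le_card (F := F)
  have e : n = Fintype.card F + 1 := by
    rw [hn] at h
    exact_mod_cast h
  rcases hcases with ⟨h1, -⟩ | ⟨h1, -⟩ | ⟨-, h1⟩ | ⟨h1, -⟩ | ⟨-, h1, -⟩ | ⟨-, h1, -⟩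
  · omega
  · omega
  · exact h1
  · omega
  · omega
  · omega

theorem cast_sub_one : q - 1 = ((Fintype.card F - 1 : ℕ) : ℂ) := by
  rw [Nat.cast_sub Fintype.card_pos]
  simp

theorem of_deg_sub_one (hC : IsNS C) (hq : 4 ≤ Fintype.card F) {χ : SL2 F → ℂ}
    (hχ : Cfsg.IsIrrCharacter (SL2 F) χ) (h : χ 1 = q - 1) :
    ∃ (θ : C →* ℂˣ) (α : MulChar F ℂ), Compat θ α ∧ θ⁻¹ ≠ θ ∧ χ = cusp θ α := by
  obtain ⟨n, hn, hcases⟩ := classify_deg hC hχ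
  have e : n = Fintype.card F - 1 := by
    rw [hn, cast_sub_one] at h
    exact_mod_cast h
  rcases hcases with ⟨h1, -⟩ | ⟨h1, -⟩ | ⟨h1, -⟩ | ⟨-, h1⟩ | ⟨-, h1, -⟩ | ⟨-, h1, -⟩
  · omega
  · omega
  · omega
  · exact h1
  · omega
  · omega

theorem of_deg_half_add (hC : IsNS C) (hq : 5 ≤ Fintype.card F) {χ : SL2 F → ℂ}
    (hχ : Cfsg.IsIrrCharacter (SL2 F) χ) (h : χ 1 = (((Fintype.card F + 1) / 2 : ℕ) : ℂ)) :
    ∃ (α : MulChar F ℂ) (χ' : SL2 F → ℂ), α = α⁻¹ ∧ α ≠ 1 ∧ Halves C (RR α) χ χ' := by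
  obtain ⟨n, hn, hcases⟩ := classify_deg hC hχ
  have e : n = (Fintype.card F + 1) / 2 := by
    rw [hn] at h
    exact_mod_cast h
  rcases hcases with ⟨h1, -⟩ | ⟨h1, -⟩ | ⟨h1, -⟩ | ⟨h1, -⟩ | ⟨-, -, h1⟩ | ⟨⟨k, hk⟩, h1, -⟩
  · omega
  · omega
  · omega
  · omega
  · exact h1
  · omega

theorem of_deg_half_sub (hC : IsNS C) (hq : 5 ≤ Fintype.card F) {χ : SL2 F → ℂ}
    (hχ : Cfsg.IsIrrCharacter (SL2 F) χ) (h : χ 1 = (((Fintype.card F - 1) / 2 : ℕ) : ℂ)) :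
    ∃ (θ : C →* ℂˣ) (α : MulChar F ℂ) (χ' : SL2 F → ℂ), Compat θ α ∧ θ⁻¹ = θ ∧ θ ≠ 1 ∧
      Halves C (cusp θ α) χ χ' := by
  obtain ⟨n, hn, hcases⟩ := classify_deg hC hχ
  have e : n = (Fintype.card F - 1) / 2 := by
    rw [hn] at h
    exact_mod_cast h
  rcases hcases with ⟨h1, -⟩ | ⟨h1, -⟩ | ⟨h1, -⟩ | ⟨h1, -⟩ | ⟨⟨k, hk⟩, h1, -⟩ | ⟨-, -, h1⟩
  · omega
  · omega
  · omega
  · omega
  · omega
  · exact h1

/-- Elements of the Borel subgroup in coordinates. -/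
theorem eq_mB_of_10 {g : SL2 F} (h : g 1 0 = 0) :
    ∃ a : Fˣ, (a : F) = g 0 0 ∧ g = (mB (a, g 0 1) : SL2 F) := by
  obtain ⟨a, e, hae⟩ := exists_eq_mB h
  refine ⟨a, ?_, ?_⟩
  · rw [hae]; rfl
  · conv_lhs => rw [hae]
    rw [hae]
    rfl

end Cfsg.Agent.Lib.Helper46SL2CharF
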