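import Cfsg.Agent.Lib.Helper46BNIrr

set_option autoImplicit false

/-! Applying the BN-pair Steinberg character: reindexing by an enumeration of the generators, and
`|G : B| ≡ 1 (mod p)` for a split BN-pair of characteristic `p`. -/

namespace Cfsg.Agent.Lib.Helper46BNApp

open Cfsg Cfsg.Agent.Lib.Helper8BN Cfsg.Agent.Lib.Helper46Len Cfsg.Agent.Lib.Helper46BN
open Cfsg.Agent.Lib.Helper46BNSt Cfsg.Agent.Lib.Helper46BNIrr

variable {G : Type*} [Group G] (P : Cfsg.BNPair G)

theorem St_reindex (r : ℕ) (ν : ℕ → G) (hν : ∀ i < r, ν i ∈ P.S) (hsurj : ∀ s ∈ P.S, ∃ i < r, s = ν i)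
    (hinj : ∀ i < r, ∀ j < r, ν i = ν j → i = j) :
    ∃ Sf : Finset (Wg P), (Sf : Set (Wg P)) = SW P ∧ ∀ g, St P Sf g =
      ∑ J ∈ (Finset.range r).powerset, (-1 : ℂ) ^ J.card *
        Cfsg.fixedPointCharacter (P.parabolic {s | ∃ j ∈ J, s = ν j}) g := by
  classical
  set φ : ℕ → Wg P := fun i => delta P (ν i) with hφ
  have hφ' : ∀ i (hi : i < r), φ i = mkW P (ν i) (P.subset (hν i hi)) := fun i hi =>
    delta_of_mem_N P (P.subset (hν i hi))
  have hφinj : ∀ i < r, ∀ j < r, φ i = φ j → i = j := by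
    intro i hi j hj h
    rw [hφ' i hi, hφ' j hj, mkW_eq_iff] at h
    exact hinj i hi j hj (P.inj _ (hν i hi) _ (hν j hj) h)
  refine ⟨(Finset.range r).image φ, ?_, ?_⟩
  · ext w
    simp only [Finset.coe_image, Finset.coe_range, Set.mem_image, Set.mem_Iio]
    constructor
    · rintro ⟨i, hi, rfl⟩
      exact ⟨ν i, hν i hi, hφ' i hi⟩
    · rintro ⟨s, hs, rfl⟩
      obtain ⟨i, hi, rfl⟩ := hsurj s hs
      exact ⟨i, hi, hφ' i hi⟩
  · intro g
    unfold St
    symm
    apply Finset.sum_bij (fun J _ => J.image φ)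
    · intro J hJ
      rw [Finset.mem_powerset] at hJ ⊢
      exact Finset.image_subset_image hJ
    · intro J hJ K hK h
      rw [Finset.mem_powerset] at hJ hK
      have key : ∀ J K : Finset ℕ, J ⊆ Finset.range r → K ⊆ Finset.range r → J.image φ = K.image φ → J ⊆ K := by
        intro J K hJ hK h x hx
        have h1 : φ x ∈ K.image φ := h ▸ Finset.mem_image_of_mem φ hx
        obtain ⟨y, hy, e⟩ := Finset.mem_image.1 h1
        have := hφinj y (Finset.mem_range.1 (hK hy)) x (Finset.mem_range.1 (hJ hx)) e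
        exact this ▸ hy
      exact Finset.Subset.antisymm (key J K hJ hK h) (key K J hK hJ h.symm)
    · intro K hK
      rw [Finset.mem_powerset] at hK
      refine ⟨(Finset.range r).filter (fun i => φ i ∈ K), ?_, ?_⟩
      · rw [Finset.mem_powerset]; exact Finset.filter_subset _ _
      · ext w
        simp only [Finset.mem_image, Finset.mem_filter, Finset.mem_range]
        constructor
        · rintro ⟨i, ⟨_, h⟩, rfl⟩; exact h
        · intro hw
          obtain ⟨i, hi, rfl⟩ := Finset.mem_image.1 (hK hw)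
          exact ⟨i, ⟨Finset.mem_range.1 hi, hw⟩, rfl⟩
    · intro J hJ
      rw [Finset.mem_powerset] at hJ
      have hc : (J.image φ).card = J.card := by
        apply Finset.card_image_of_injOn
        intro x hx y hy h
        exact hφinj x (Finset.mem_range.1 (hJ hx)) y (Finset.mem_range.1 (hJ hy)) h
      have hp : pre P ((J.image φ : Finset (Wg P)) : Set (Wg P)) = {s | ∃ j ∈ J, s = ν j} := by
        ext s
        constructor
        · rintro ⟨hs, h⟩
          obtain ⟨j, hj, e⟩ := Finset.mem_image.1 (Finset.mem_coe.1 h)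
          have hjr := Finset.mem_range.1 (hJ hj)
          rw [hφ' j hjr, mkW_eq_iff] at e
          exact ⟨j, hj, (P.inj _ (hν j hjr) _ hs e).symm⟩
        · rintro ⟨j, hj, rfl⟩
          have hjr := Finset.mem_range.1 (hJ hj)
          refine ⟨hν j hjr, Finset.mem_coe.2 (Finset.mem_image.2 ⟨j, hj, hφ' j hjr⟩)⟩
      rw [hc, hp]

/-- In a split BN-pair of characteristic `p`, the index of `B` is `≡ 1 (mod p)`. -/
theorem card_quot_modEq (p : ℕ) [Fact p.Prime] [Finite G] (U : Subgroup G) (hU : IsPGroup p U) (hUB : U ≤ P.B)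
    (hnorm : ∀ b ∈ P.B, ∀ u ∈ U, b * u * b⁻¹ ∈ U)
    (hUT : ∀ b ∈ P.B, ∃ u ∈ U, ∃ t ∈ P.B ⊓ P.N, b = u * t) :
    Nat.card (G ⧸ P.B) ≡ 1 [MOD p] := by
  have h1 := hU.card_modEq_card_fixedPoints (G ⧸ P.B)
  have h2 : MulAction.fixedPoints U (G ⧸ P.B) = {((1 : G) : G ⧸ P.B)} := by
    ext y
    rw [MulAction.mem_fixedPoints, Set.mem_singleton_iff]
    induction y using QuotientGroup.induction_on with
    | H g =>
    constructor
    · intro h
      have h' : ∀ u ∈ U, g⁻¹ * u * g ∈ P.B := by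
        intro u hu
        have := h ⟨u, hu⟩
        change ((u * g : G) : G ⧸ P.B) = _ at this
        rw [eq_comm, QuotientGroup.eq] at this
        rw [mul_assoc]; exact this
      obtain ⟨n, hn, x, hx, y, hy, rfl⟩ := bruhat_exists (P := P) g
      have hc : ∀ b ∈ P.B, n⁻¹ * b * n⁻¹⁻¹ ∈ P.B := by
        intro b hb
        rw [inv_inv]
        obtain ⟨u, hu, t, ht, rfl⟩ := hUT b hb
        have e : n⁻¹ * (u * t) * n = (n⁻¹ * u * n) * (n⁻¹ * t * n) := by group
        rw [e]
        refine P.B.mul_mem ?_ (conj_mem_T' hn ht).1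
        have := h' (x * u * x⁻¹) (hnorm x hx u hu)
        have e2 : n⁻¹ * u * n = y * ((x * n * y)⁻¹ * (x * u * x⁻¹) * (x * n * y)) * y⁻¹ := by group
        rw [e2]
        exact P.B.mul_mem (P.B.mul_mem hy this) (P.B.inv_mem hy)
      have hnB : n⁻¹ ∈ P.B := mem_of_conj (le_refl _) hc
      rw [eq_comm, QuotientGroup.eq, inv_one, one_mul]
      exact P.B.mul_mem (P.B.mul_mem hx (inv_mem_iff.1 hnB)) hy
    · intro h u
      rw [eq_comm, QuotientGroup.eq, inv_one, one_mul] at h
      change ((u.1 * g : G) : G ⧸ P.B) = _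
      rw [QuotientGroup.eq]
      have e2 : (u.1 * g)⁻¹ * g = g⁻¹ * u.1⁻¹ * g := by group
      rw [e2]
      exact P.B.mul_mem (P.B.mul_mem (P.B.inv_mem h) (P.B.inv_mem (hUB u.2))) h
  rw [h2] at h1
  simpa using h1

end Cfsg.Agent.Lib.Helper46BNApp
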