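import Mathlib

/-!
# Fourier analysis on finite commutative groups (homomorphisms to `ℂˣ`)
-/

set_option autoImplicit false
set_option linter.unusedSectionVars false

namespace Cfsg.Agent.Lib.Helper46Fourier

open scoped ComplexConjugate

variable {H : Type*} [CommGroup H] [Finite H]

theorem conj_hom {H : Type*} [Group H] [Finite H] (θ : H →* ℂˣ) (x : H) :
    conj ((θ x : ℂˣ) : ℂ) = ((θ x⁻¹ : ℂˣ) : ℂ) := by
  have h1 : ((θ x : ℂˣ) : ℂ) ^ orderOf x = 1 := by
    rw [← Units.val_pow_eq_pow_val, ← map_pow, pow_orderOf_eq_one, map_one, Units.val_one]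
  have h2 : ‖((θ x : ℂˣ) : ℂ)‖ = 1 := Complex.norm_eq_one_of_pow_eq_one h1 (orderOf_pos x).ne'
  rw [map_inv, Units.val_inv_eq_inv_val, Complex.inv_eq_conj h2]

instance : Finite (H →* ℂˣ) :=
  Finite.of_equiv _ (CommGroup.monoidHom_mulEquiv_of_hasEnoughRootsOfUnity H ℂ).some.symm.toEquiv

theorem sum_hom_eq_zero [Fintype (H →* ℂˣ)] {x : H} (hx : x ≠ 1) :
    ∑ θ : H →* ℂˣ, ((θ x : ℂˣ) : ℂ) = 0 := by
  obtain ⟨θ0, h0⟩ := CommGroup.exists_apply_ne_one_of_hasEnoughRootsOfUnity H ℂ hx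
  have h1 : ∑ θ : H →* ℂˣ, ((θ x : ℂˣ) : ℂ) = ((θ0 x : ℂˣ) : ℂ) * ∑ θ : H →* ℂˣ, ((θ x : ℂˣ) : ℂ) := by
    rw [Finset.mul_sum]
    exact (Fintype.sum_equiv (Equiv.mulLeft θ0) _ _ (fun θ => by simp)).symm
  have h2 : (1 - ((θ0 x : ℂˣ) : ℂ)) * ∑ θ : H →* ℂˣ, ((θ x : ℂˣ) : ℂ) = 0 := by
    linear_combination h1
  rcases mul_eq_zero.mp h2 with h3 | h3
  · exfalso
    apply h0
    apply Units.ext
    rw [Units.val_one]
    linear_combination -h3
  · exact h3

/-- A function orthogonal to all characters vanishes. -/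
theorem fourier [Fintype H] (φ : H → ℂ)
    (h : ∀ θ : H →* ℂˣ, ∑ x, φ x * conj ((θ x : ℂˣ) : ℂ) = 0) : φ = 0 := by
  classical
  have : Fintype (H →* ℂˣ) := Fintype.ofFinite _
  funext x0
  have h1 : ∑ θ : H →* ℂˣ, ((θ x0 : ℂˣ) : ℂ) * ∑ x, φ x * conj ((θ x : ℂˣ) : ℂ) = 0 := by
    apply Finset.sum_eq_zero
    intro θ _
    rw [h θ, mul_zero]
  simp_rw [Finset.mul_sum] at h1
  rw [Finset.sum_comm, Finset.sum_eq_single x0] at h1
  · have h2 : ∀ θ : H →* ℂˣ, ((θ x0 : ℂˣ) : ℂ) * (φ x0 * conj ((θ x0 : ℂˣ) : ℂ)) = φ x0 := by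
      intro θ
      rw [conj_hom, map_inv, Units.val_inv_eq_inv_val]
      field_simp
    simp_rw [h2] at h1
    rw [Finset.sum_const, Finset.card_univ, nsmul_eq_mul] at h1
    rcases mul_eq_zero.mp h1 with h3 | h3
    · exfalso
      have : Fintype.card (H →* ℂˣ) ≠ 0 := Fintype.card_ne_zero
      exact this (by exact_mod_cast h3)
    · exact h3
  · intro x _ hx
    have h2 : ∀ θ : H →* ℂˣ, ((θ x0 : ℂˣ) : ℂ) * (φ x * conj ((θ x : ℂˣ) : ℂ)) =
        φ x * ((θ (x0 * x⁻¹) : ℂˣ) : ℂ) := by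
      intro θ
      rw [conj_hom, map_mul, Units.val_mul]
      ring
    simp_rw [h2]
    rw [← Finset.mul_sum, sum_hom_eq_zero, mul_zero]
    intro h3
    exact hx (mul_inv_eq_one.mp h3).symm
  · intro h0
    exact absurd (Finset.mem_univ _) h0

/-- Orthogonality of characters. -/
theorem orth_hom {H : Type*} [Group H] [Fintype H] (θ θ' : H →* ℂˣ) [Decidable (θ = θ')] :
    ∑ x, ((θ x : ℂˣ) : ℂ) * conj ((θ' x : ℂˣ) : ℂ) = if θ = θ' then (Fintype.card H : ℂ) else 0 := by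
  split_ifs with h
  · subst h
    have h2 : ∀ x : H, ((θ x : ℂˣ) : ℂ) * conj ((θ x : ℂˣ) : ℂ) = 1 := by
      intro x
      rw [conj_hom, map_inv, Units.val_inv_eq_inv_val]
      field_simp
    simp_rw [h2]
    simp
  · have hex : ∃ x0, θ x0 ≠ θ' x0 := by
      by_contra hcon
      push Not at hcon
      exact h (MonoidHom.ext hcon)
    obtain ⟨x0, hx0⟩ := hex
    set S := ∑ x, ((θ x : ℂˣ) : ℂ) * conj ((θ' x : ℂˣ) : ℂ) with hS
    have h1 : S = ((θ x0 : ℂˣ) : ℂ) * ((θ' x0 : ℂˣ) : ℂ)⁻¹ * S := by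
      rw [hS, Finset.mul_sum]
      refine (Fintype.sum_equiv (Equiv.mulLeft x0) _ _ (fun x => ?_)).symm
      simp only [Equiv.coe_mulLeft, conj_hom, map_mul, map_inv, Units.val_mul, Units.val_inv_eq_inv_val,
        ]
      ring
    have h2 : (1 - ((θ x0 : ℂˣ) : ℂ) * ((θ' x0 : ℂˣ) : ℂ)⁻¹) * S = 0 := by linear_combination h1
    rcases mul_eq_zero.mp h2 with h3 | h3
    · exfalso
      apply hx0
      apply Units.ext
      have hne : ((θ' x0 : ℂˣ) : ℂ) ≠ 0 := Units.ne_zero _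
      field_simp at h3
      linear_combination -h3
    · exact h3

/-- Version of `fourier` for a group with a commutativity hypothesis. -/
theorem fourier' {H : Type*} [Group H] [Fintype H] (hcomm : ∀ a b : H, a * b = b * a) (φ : H → ℂ)
    (h : ∀ θ : H →* ℂˣ, ∑ x, φ x * conj ((θ x : ℂˣ) : ℂ) = 0) : φ = 0 := by
  letI : CommGroup H := { ‹Group H› with mul_comm := hcomm }
  exact fourier φ h

section Cyclic

variable {K : Type*} [Group K] [Finite K] [IsCyclic K]

theorem neg_one_ne_one_units : (-1 : ℂˣ) ≠ 1 := by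
  intro h
  have := congrArg Units.val h
  norm_num at this

theorem units_sq_eq_one {u : ℂˣ} (h : u ^ 2 = 1) : u = 1 ∨ u = -1 := sq_eq_one_iff_of_ne_zero_or.mp h
  where sq_eq_one_iff_of_ne_zero_or {u : ℂˣ} : u ^ 2 = 1 ↔ u = 1 ∨ u = -1 := by
          constructor
          · intro h
            have h1 : ((u : ℂ) - 1) * ((u : ℂ) + 1) = 0 := by
              have := congrArg Units.val h
              simp only [Units.val_pow_eq_pow_val, Units.val_one] at this
              linear_combination this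
            rcases mul_eq_zero.mp h1 with h2 | h2
            · left
              apply Units.ext
              rw [Units.val_one]
              linear_combination h2
            · right
              apply Units.ext
              rw [Units.val_neg, Units.val_one]
              linear_combination h2
          · rintro (rfl | rfl) <;> simp

/-- A character of order two of a cyclic group takes the value `-1` at every generator. -/
theorem hom_generator {ψ : K →* ℂˣ} (h2 : ∀ x, ψ x ^ 2 = 1) (h1 : ψ ≠ 1) {h : K}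
    (hh : ∀ x, x ∈ Subgroup.zpowers h) : ψ h = -1 := by
  rcases units_sq_eq_one (h2 h) with h3 | h3
  · exfalso
    apply h1
    ext x
    obtain ⟨k, rfl⟩ := Subgroup.mem_zpowers_iff.mp (hh x)
    simp [map_zpow, h3]
  · exact h3

theorem hom_order_two_unique {ψ ψ' : K →* ℂˣ} (h2 : ∀ x, ψ x ^ 2 = 1) (h1 : ψ ≠ 1)
    (h2' : ∀ x, ψ' x ^ 2 = 1) (h1' : ψ' ≠ 1) : ψ = ψ' := by
  obtain ⟨h, hh⟩ := IsCyclic.exists_generator (α := K)
  ext x
  obtain ⟨k, rfl⟩ := Subgroup.mem_zpowers_iff.mp (hh x)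
  rw [map_zpow, map_zpow, hom_generator h2 h1 hh, hom_generator h2' h1' hh]

theorem hom_order_two_eq_one_iff {ψ : K →* ℂˣ} (h2 : ∀ x, ψ x ^ 2 = 1) (h1 : ψ ≠ 1) {m : ℕ}
    (hm : Nat.card K = 2 * m) (x : K) : ψ x = 1 ↔ x ^ m = 1 := by
  obtain ⟨h, hh⟩ := IsCyclic.exists_generator (α := K)
  have hord : orderOf h = 2 * m := by rw [orderOf_eq_card_of_forall_mem_zpowers hh, hm]
  have hm0 : 0 < m := by
    have : 0 < Nat.card K := Nat.card_pos
    omega
  obtain ⟨k, rfl⟩ := (mem_powers_iff_mem_zpowers.mpr (hh x))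
  rw [map_pow, hom_generator h2 h1 hh, ← pow_mul, neg_one_pow_eq_one_iff_even neg_one_ne_one_units,
    ← orderOf_dvd_iff_pow_eq_one (x := h), hord, mul_comm k m, mul_comm 2 m,
    Nat.mul_dvd_mul_iff_left hm0, even_iff_two_dvd]

theorem hom_order_two_apply {ψ : K →* ℂˣ} (h2 : ∀ x, ψ x ^ 2 = 1) (h1 : ψ ≠ 1) {m : ℕ}
    (hm : Nat.card K = 2 * m) {z : K} (hz1 : z ≠ 1) (hz2 : z ^ 2 = 1) : ψ z = (-1) ^ m := by
  rcases Nat.even_or_odd' m with ⟨j, hj | hj⟩
  · have : z ^ m = 1 := by rw [hj, pow_mul, hz2, one_pow]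
    rw [(hom_order_two_eq_one_iff h2 h1 hm z).mpr this, hj, pow_mul]
    simp
  · have : z ^ m ≠ 1 := by rw [hj, pow_succ, pow_mul, hz2, one_pow, one_mul]; exact hz1
    have h3 : ψ z ≠ 1 := fun h => this ((hom_order_two_eq_one_iff h2 h1 hm z).mp h)
    rcases units_sq_eq_one (h2 z) with h4 | h4
    · exact absurd h4 h3
    · rw [h4, hj, pow_succ, pow_mul]
      simp

end Cyclic

end Cfsg.Agent.Lib.Helper46Fourier
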