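import Mathlib
import Cfsg.Prelude.Def_Characters
import Cfsg.Agent.Lib.Helper46Fourier
import Cfsg.Agent.Lib.Helper83Char

set_option autoImplicit false
set_option linter.unusedSectionVars false

/-! Abstract uniqueness of an irreducible character vanishing on the nontrivial elements of the
unipotent subgroup `U` of a "split BN-pair like" group with a nondegenerate linear character of `U`. -/

namespace Cfsg.Agent.Lib.Helper46DZ1

open Cfsg Cfsg.Agent.Lib.Helper46Fourier Cfsg.Agent.Lib.Helper83Char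

variable {G : Type*} [Group G] [Fintype G]

noncomputable local instance instFT (H : Subgroup G) : Fintype H := Fintype.ofFinite H

section Proj

variable {V : Type*} [AddCommGroup V] [Module ℂ V] (ρ : Representation ℂ G V)
  (U : Subgroup G) (φ : U →* ℂˣ)

/-- the projector onto the `φ`-isotypic part for `U`. -/
noncomputable def E : Module.End ℂ V :=
  (Nat.card U : ℂ)⁻¹ • ∑ u : U, ((φ u⁻¹ : ℂˣ) : ℂ) • ρ (u : G)

theorem rho_E (u₀ : U) : ρ (u₀ : G) * E ρ U φ = ((φ u₀ : ℂˣ) : ℂ) • E ρ U φ := by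
  have key : ρ (u₀ : G) * ∑ u : U, ((φ u⁻¹ : ℂˣ) : ℂ) • ρ (u : G) =
      ((φ u₀ : ℂˣ) : ℂ) • ∑ u : U, ((φ u⁻¹ : ℂˣ) : ℂ) • ρ (u : G) := by
    rw [Finset.mul_sum, Finset.smul_sum]
    apply Fintype.sum_equiv (Equiv.mulLeft u₀)
    intro u
    rw [mul_smul_comm, ← map_mul, smul_smul]
    simp only [Equiv.coe_mulLeft, Subgroup.coe_mul, mul_inv_rev, map_mul, Units.val_mul, map_inv]
    congr 1
    have : ((φ u₀ : ℂˣ) : ℂ) ≠ 0 := Units.ne_zero _
    rw [Units.val_inv_eq_inv_val, Units.val_inv_eq_inv_val]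
    field_simp
  unfold E
  rw [mul_smul_comm, key, smul_comm]

theorem E_rho (u₀ : U) : E ρ U φ * ρ (u₀ : G) = ((φ u₀ : ℂˣ) : ℂ) • E ρ U φ := by
  have key : (∑ u : U, ((φ u⁻¹ : ℂˣ) : ℂ) • ρ (u : G)) * ρ (u₀ : G) =
      ((φ u₀ : ℂˣ) : ℂ) • ∑ u : U, ((φ u⁻¹ : ℂˣ) : ℂ) • ρ (u : G) := by
    rw [Finset.sum_mul, Finset.smul_sum]
    apply Fintype.sum_equiv (Equiv.mulRight u₀)
    intro u
    rw [smul_mul_assoc, ← map_mul, smul_smul]
    simp only [Equiv.coe_mulRight, Subgroup.coe_mul, mul_inv_rev, map_mul, Units.val_mul, map_inv]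
    congr 1
    have : ((φ u₀ : ℂˣ) : ℂ) ≠ 0 := Units.ne_zero _
    rw [Units.val_inv_eq_inv_val, Units.val_inv_eq_inv_val]
    field_simp
  unfold E
  rw [smul_mul_assoc, key, smul_comm]

theorem card_ne : (Nat.card U : ℂ) ≠ 0 := by exact_mod_cast Nat.card_pos.ne'

theorem E_fix {x : V} (hx : ∀ u : U, ρ (u : G) x = ((φ u : ℂˣ) : ℂ) • x) : E ρ U φ x = x := by
  unfold E
  rw [LinearMap.smul_apply, LinearMap.sum_apply]
  have : ∀ u : U, (((φ u⁻¹ : ℂˣ) : ℂ) • ρ (u : G)) x = x := by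
    intro u
    rw [LinearMap.smul_apply, hx, smul_smul, ← Units.val_mul, ← map_mul, inv_mul_cancel, map_one,
      Units.val_one, one_smul]
  simp_rw [this]
  rw [Finset.sum_const, Finset.card_univ, ← Nat.card_eq_fintype_card, ← Nat.cast_smul_eq_nsmul ℂ,
    smul_smul, inv_mul_cancel₀ (card_ne U), one_smul]

theorem rho_E_apply (u₀ : U) (x : V) : ρ (u₀ : G) (E ρ U φ x) = ((φ u₀ : ℂˣ) : ℂ) • E ρ U φ x := by
  have := congrArg (fun f : Module.End ℂ V => f x) (rho_E ρ U φ u₀)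
  simpa using this

theorem E_rho_apply (u₀ : U) (x : V) : E ρ U φ (ρ (u₀ : G) x) = ((φ u₀ : ℂˣ) : ℂ) • E ρ U φ x := by
  have := congrArg (fun f : Module.End ℂ V => f x) (E_rho ρ U φ u₀)
  simpa using this

theorem E_idem : IsIdempotentElem (E ρ U φ) := by
  apply LinearMap.ext
  intro x
  exact E_fix ρ U φ (fun u => rho_E_apply ρ U φ u x)

theorem trace_E [FiniteDimensional ℂ V] (h : ∀ u ∈ U, u ≠ 1 → ρ.character u = 0) :
    LinearMap.trace ℂ V (E ρ U φ) = (Module.finrank ℂ V : ℂ) / (Nat.card U : ℂ) := by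
  unfold E
  rw [map_smul, map_sum, Finset.sum_eq_single (1 : U)]
  · rw [map_smul]
    simp only [inv_one, map_one, Units.val_one, one_smul, Subgroup.coe_one]
    rw [show (1 : Module.End ℂ V) = LinearMap.id from rfl, LinearMap.trace_id, smul_eq_mul]
    field_simp
  · intro u _ hu
    rw [map_smul]
    have := h u u.2 (fun e => hu (Subtype.ext e))
    rw [Representation.character] at this
    rw [this, smul_zero]
  · intro h0; exact absurd (Finset.mem_univ _) h0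

theorem trace_eq_finrank [FiniteDimensional ℂ V] :
    LinearMap.trace ℂ V (E ρ U φ) = (Module.finrank ℂ (LinearMap.range (E ρ U φ)) : ℂ) :=
  (LinearMap.IsIdempotentElem.isProj_range _ (E_idem ρ U φ)).trace

end Proj

theorem span_orbit {V : Type*} [AddCommGroup V] [Module ℂ V] (ρ : Representation ℂ G V)
    [ρ.IsIrreducible] {v : V} (hv : v ≠ 0) : Submodule.span ℂ (Set.range fun g => ρ g v) = ⊤ := by
  let W : Subrepresentation ρ :=
    { toSubmodule := Submodule.span ℂ (Set.range fun g => ρ g v)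
      apply_mem_toSubmodule := by
        intro g x hx
        induction hx using Submodule.span_induction with
        | mem x hx =>
          obtain ⟨h, rfl⟩ := hx
          apply Submodule.subset_span
          exact ⟨g * h, by simp⟩
        | zero => simp
        | add x y _ _ hx hy => rw [map_add]; exact Submodule.add_mem _ hx hy
        | smul a x _ hx => rw [map_smul]; exact Submodule.smul_mem _ _ hx }
  rcases IsSimpleOrder.eq_bot_or_eq_top W with h | h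
  · exfalso
    have h1 : v ∈ W.toSubmodule := Submodule.subset_span ⟨1, by simp⟩
    rw [h] at h1
    exact hv ((Submodule.mem_bot ℂ).1 h1)
  · exact congrArg Subrepresentation.toSubmodule h


/-- The abstract data: `U`, `T`, a linear character `ψ` of `U` which is "nondegenerate" (only the big
cell `U n0 T U` supports `(U, ψ)`-`U`-equivariant functions), rank-one relations for a set `S` of elements
normalising `T`, and `T = [T, S]`. -/
structure Setup (G : Type*) [Group G] where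
  U : Subgroup G
  T : Subgroup G
  ψ : U →* ℂˣ
  n0 : G
  S : Set G
  hTU : ∀ t ∈ T, ∀ u ∈ U, t * u * t⁻¹ ∈ U
  hTcomm : ∀ a b : T, a * b = b * a
  hcell : ∀ g : G, (∃ u : U, ∃ t ∈ T, ∃ u' ∈ U, g = u * n0 * t * u') ∨
    (∃ x : U, ψ x ≠ 1 ∧ g⁻¹ * x * g ∈ U)
  hST : ∀ s ∈ S, ∀ t ∈ T, s⁻¹ * t * s ∈ T
  hrank1 : ∀ s ∈ S, ∀ u ∈ U, s⁻¹ * u * s ∈ U ∨
    ∃ u₁ ∈ U, ∃ t ∈ T, ∃ u₂ ∈ U, s⁻¹ * u * s = u₁ * t * s * u₂
  hgen : ∀ θ : T →* ℂˣ, (∀ s (hs : s ∈ S) (t : T), θ ⟨s⁻¹ * t * s, hST s hs t t.2⟩ = θ t) → θ = 1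

variable (X : Setup G) {V : Type*} [AddCommGroup V] [Module ℂ V] [FiniteDimensional ℂ V]
  (ρ : Representation ℂ G V)

theorem exists_eigen {v₁ : V} (h0 : v₁ ≠ 0) (hU : ∀ u ∈ X.U, ρ u v₁ = v₁) :
    ∃ (θ : X.T →* ℂˣ) (v : V), v ≠ 0 ∧ (∀ u ∈ X.U, ρ u v = v) ∧
      ∀ t : X.T, ρ (t : G) v = ((θ t : ℂˣ) : ℂ) • v := by
  obtain ⟨ℓ, hℓ⟩ : ∃ ℓ : Module.Dual ℂ V, ℓ v₁ ≠ 0 := by
    by_contra hcon
    push Not at hcon
    exact h0 ((Module.forall_dual_apply_eq_zero_iff ℂ v₁).1 hcon)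
  obtain ⟨θ, hθ⟩ : ∃ θ : X.T →* ℂˣ, ∑ t : X.T, ℓ (ρ (t : G) v₁) * (starRingEnd ℂ) ((θ t : ℂˣ) : ℂ) ≠ 0 := by
    by_contra hcon
    push Not at hcon
    have := fourier' X.hTcomm (fun t : X.T => ℓ (ρ (t : G) v₁)) hcon
    have h1 := congrFun this 1
    simp at h1
    exact hℓ h1
  refine ⟨θ, ∑ t : X.T, ((θ t⁻¹ : ℂˣ) : ℂ) • ρ (t : G) v₁, ?_, ?_, ?_⟩
  · intro h
    apply hθ
    have := congrArg ℓ h
    rw [map_sum, map_zero] at this
    rw [← this]
    apply Finset.sum_congr rfl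
    intro t _
    rw [map_smul, conj_hom, smul_eq_mul, mul_comm]
  · intro u hu
    rw [map_sum]
    apply Finset.sum_congr rfl
    intro t _
    rw [map_smul]
    congr 1
    have h1 : (t : G)⁻¹ * u * ((t : G)⁻¹)⁻¹ ∈ X.U := X.hTU _ (inv_mem t.2) u hu
    have h2 : u * (t : G) = (t : G) * ((t : G)⁻¹ * u * ((t : G)⁻¹)⁻¹) := by group
    rw [← Module.End.mul_apply, ← map_mul, h2, map_mul, Module.End.mul_apply, hU _ h1]
  · intro t₀
    rw [map_sum, Finset.smul_sum]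
    apply Fintype.sum_equiv (Equiv.mulLeft t₀)
    intro t
    rw [map_smul, ← Module.End.mul_apply, ← map_mul, smul_smul]
    simp only [Equiv.coe_mulLeft, Subgroup.coe_mul, mul_inv_rev, map_mul, Units.val_mul, map_inv]
    congr 1
    have : ((θ t₀ : ℂˣ) : ℂ) ≠ 0 := Units.ne_zero _
    rw [Units.val_inv_eq_inv_val, Units.val_inv_eq_inv_val]
    field_simp

/-- conjugation by an element of `T` as a permutation of `U`. -/
def cT (t : G) (ht : t ∈ X.T) : X.U ≃ X.U where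
  toFun u := ⟨t * u * t⁻¹, X.hTU t ht u u.2⟩
  invFun u := ⟨t⁻¹ * u * t, by simpa using X.hTU t⁻¹ (inv_mem ht) u u.2⟩
  left_inv u := by apply Subtype.ext; simp only []; group
  right_inv u := by apply Subtype.ext; simp only []; group

theorem rho_T_E {t : G} (ht : t ∈ X.T) : ρ t * E ρ X.U 1 = E ρ X.U 1 * ρ t := by
  unfold E
  rw [mul_smul_comm, smul_mul_assoc, Finset.mul_sum, Finset.sum_mul]
  congr 1
  apply Fintype.sum_equiv (cT X t ht)
  intro u
  simp only [MonoidHom.one_apply, Units.val_one, one_smul]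
  rw [← map_mul, ← map_mul]
  congr 1
  simp [cT]


theorem E_one_apply (x : V) : E ρ X.U 1 x = (Nat.card X.U : ℂ)⁻¹ • ∑ u : X.U, ρ (u : G) x := by
  unfold E
  simp [LinearMap.sum_apply]

theorem theta_inv (h1 : Module.finrank ℂ (LinearMap.range (E ρ X.U 1)) = 1) {θ : X.T →* ℂˣ} {v : V}
    (hv0 : v ≠ 0) (hvU : ∀ u ∈ X.U, ρ u v = v) (hvT : ∀ t : X.T, ρ (t : G) v = ((θ t : ℂˣ) : ℂ) • v)
    {s : G} (hs : s ∈ X.S) (t : X.T) : θ ⟨s⁻¹ * t * s, X.hST s hs t t.2⟩ = θ t := by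
  classical
  have hEv : E ρ X.U 1 v = v := E_fix ρ X.U 1 (fun u => by simpa using hvU u u.2)
  have hvR : v ∈ LinearMap.range (E ρ X.U 1) := ⟨v, hEv⟩
  have hmul : ∀ y ∈ LinearMap.range (E ρ X.U 1), ∃ c : ℂ, c • v = y := by
    intro y hy
    have h2 : (⟨v, hvR⟩ : LinearMap.range (E ρ X.U 1)) ≠ 0 := by
      intro h; exact hv0 (congrArg Subtype.val h)
    obtain ⟨c, hc⟩ := (finrank_eq_one_iff_of_nonzero' _ h2).1 h1 ⟨y, hy⟩
    exact ⟨c, congrArg Subtype.val hc⟩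
  set v' := E ρ X.U 1 (ρ s v) with hv'
  obtain ⟨c, hc⟩ := hmul v' ⟨_, rfl⟩
  have hTE : ∀ t' ∈ X.T, ∀ x : V, ρ t' (E ρ X.U 1 x) = E ρ X.U 1 (ρ t' x) := by
    intro t' ht' x
    have := congrArg (fun f : Module.End ℂ V => f x) (rho_T_E X ρ ht')
    simpa using this
  have hEU : ∀ u ∈ X.U, ∀ x : V, E ρ X.U 1 (ρ u x) = E ρ X.U 1 x := by
    intro u hu x
    have := E_rho_apply ρ X.U 1 ⟨u, hu⟩ x
    simpa using this
  have hne : v' ≠ 0 := by
    intro h0
    have e1 : E ρ X.U 1 (ρ s⁻¹ v') = 0 := by rw [h0]; simp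
    have term : ∀ u : X.U, E ρ X.U 1 (ρ s⁻¹ (ρ (u : G) (ρ s v))) =
        if s⁻¹ * (u : G) * s ∈ X.U then v else 0 := by
      intro u
      have e : ρ s⁻¹ (ρ (u : G) (ρ s v)) = ρ (s⁻¹ * (u : G) * s) v := by
        rw [map_mul, map_mul]; rfl
      rw [e]
      split_ifs with hu
      · rw [hvU _ hu, hEv]
      · rcases X.hrank1 s hs u u.2 with h | ⟨u₁, hu₁, t', ht', u₂, hu₂, h⟩
        · exact absurd h hu
        · rw [h, map_mul, map_mul, map_mul]
          simp only [Module.End.mul_apply]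
          rw [hvU _ hu₂, hEU _ hu₁, ← hTE _ ht', ← hv', h0, map_zero]
    rw [hv', E_one_apply X ρ (ρ s v), map_smul, map_smul, map_sum, map_sum] at e1
    simp_rw [term] at e1
    rw [Finset.sum_ite, Finset.sum_const_zero, add_zero, Finset.sum_const, ← Nat.cast_smul_eq_nsmul ℂ,
      smul_smul] at e1
    rcases smul_eq_zero.1 e1 with h | h
    · rcases mul_eq_zero.1 h with h | h
      · exact inv_ne_zero (card_ne X.U) h
      · have h3 : (Finset.univ.filter fun u : X.U => s⁻¹ * (u : G) * s ∈ X.U).card ≠ 0 := by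
          apply Finset.card_ne_zero_of_mem (a := 1)
          simp
        exact h3 (by exact_mod_cast h)
    · exact hv0 h
  have a1 : ρ (t : G) v' = ((θ t : ℂˣ) : ℂ) • v' := by
    rw [← hc, map_smul, hvT, smul_comm]
  have a2 : ρ (t : G) v' = ((θ ⟨s⁻¹ * t * s, X.hST s hs t t.2⟩ : ℂˣ) : ℂ) • v' := by
    rw [hv', hTE _ t.2]
    have e : ρ (t : G) (ρ s v) = ρ s (ρ (s⁻¹ * t * s) v) := by
      rw [← Module.End.mul_apply, ← Module.End.mul_apply, ← map_mul, ← map_mul]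
      congr 2
      group
    rw [e, hvT ⟨s⁻¹ * t * s, X.hST s hs t t.2⟩, map_smul, map_smul]
  rw [a1] at a2
  have a3 : (((θ t : ℂˣ) : ℂ) - ((θ ⟨s⁻¹ * t * s, X.hST s hs t t.2⟩ : ℂˣ) : ℂ)) • v' = 0 := by
    rw [sub_smul, a2, sub_self]
  rcases smul_eq_zero.1 a3 with h | h
  · exact Units.ext (sub_eq_zero.1 h).symm
  · exact absurd h hne

theorem key [ρ.IsIrreducible] (h : ∀ u ∈ X.U, u ≠ 1 → ρ.character u = 0) :
    ∃ (v : V) (ℓ : V →ₗ[ℂ] ℂ),
      (∀ (u : X.U) (g : G), ℓ (ρ (u * g) v) = ((X.ψ u : ℂˣ) : ℂ) * ℓ (ρ g v)) ∧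
      (∀ g, ∀ u ∈ X.U, ℓ (ρ (g * u) v) = ℓ (ρ g v)) ∧ (∀ g, ∀ t ∈ X.T, ℓ (ρ (g * t) v) = ℓ (ρ g v)) ∧
      ℓ (ρ X.n0 v) ≠ 0 := by
  have hd : 0 < Module.finrank ℂ V := finrank_pos_of_irreducible ρ
  have htr : ∀ φ : X.U →* ℂˣ, (Module.finrank ℂ (LinearMap.range (E ρ X.U φ)) : ℂ) =
      (Module.finrank ℂ V : ℂ) / (Nat.card X.U : ℂ) := fun φ => by
    rw [← trace_eq_finrank, trace_E _ _ _ h]
  have hpos : ∀ φ : X.U →* ℂˣ, Module.finrank ℂ (LinearMap.range (E ρ X.U φ)) ≠ 0 := by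
    intro φ h0
    have := htr φ
    rw [h0, Nat.cast_zero, eq_comm, div_eq_zero_iff] at this
    rcases this with h | h
    · exact hd.ne' (by exact_mod_cast h)
    · exact card_ne X.U h
  obtain ⟨v₁, hv₁, hv₁0⟩ : ∃ v₁ ∈ LinearMap.range (E ρ X.U 1), v₁ ≠ 0 := by
    apply Submodule.exists_mem_ne_zero_of_ne_bot
    intro hb
    apply hpos 1
    rw [hb, finrank_bot]
  have hU₁ : ∀ u ∈ X.U, ρ u v₁ = v₁ := by
    obtain ⟨x, rfl⟩ := hv₁
    intro u hu
    have := rho_E_apply ρ X.U 1 ⟨u, hu⟩ x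
    simpa using this
  obtain ⟨θ, v, hv0, hvU, hvT⟩ := exists_eigen X ρ hv₁0 hU₁
  set Φ : G → V := fun g => E ρ X.U X.ψ (ρ g v) with hΦdef
  have hΦ : ∀ g, Φ g ∈ Submodule.span ℂ {Φ X.n0} := by
    intro g
    rcases X.hcell g with ⟨u, t, ht, u', hu', rfl⟩ | ⟨x, hx, hxg⟩
    · have : Φ (u * X.n0 * t * u') = (((X.ψ u : ℂˣ) : ℂ) * ((θ ⟨t, ht⟩ : ℂˣ) : ℂ)) • Φ X.n0 := by
        simp only [hΦdef]
        rw [map_mul, map_mul, map_mul]
        simp only [Module.End.mul_apply]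
        rw [hvU _ hu', hvT ⟨t, ht⟩, map_smul, map_smul, map_smul, E_rho_apply, smul_smul, mul_comm]
      rw [this]
      exact Submodule.smul_mem _ _ (Submodule.mem_span_singleton_self _)
    · have e1 : Φ g = ((X.ψ x : ℂˣ) : ℂ) • Φ g := by
        simp only [hΦdef]
        rw [← E_rho_apply]
        congr 1
        rw [← Module.End.mul_apply, ← map_mul]
        have e2 : (x : G) * g = g * (g⁻¹ * x * g) := by group
        rw [e2, map_mul, Module.End.mul_apply, hvU _ hxg]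
      have e3 : (1 - ((X.ψ x : ℂˣ) : ℂ)) • Φ g = 0 := by
        rw [sub_smul, one_smul, ← e1, sub_self]
      rcases smul_eq_zero.1 e3 with h' | h'
      · exfalso
        apply hx
        apply Units.ext
        rw [Units.val_one]
        exact (sub_eq_zero.1 h').symm
      · rw [h']; exact Submodule.zero_mem _
  have hrange : LinearMap.range (E ρ X.U X.ψ) ≤ Submodule.span ℂ {Φ X.n0} := by
    rintro _ ⟨y, rfl⟩
    have hy : y ∈ Submodule.span ℂ (Set.range fun g => ρ g v) := by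
      rw [span_orbit ρ hv0]; trivial
    induction hy using Submodule.span_induction with
    | mem x hx =>
      obtain ⟨g, rfl⟩ := hx
      exact hΦ g
    | zero => rw [map_zero]; exact Submodule.zero_mem _
    | add x y _ _ hx hy => rw [map_add]; exact Submodule.add_mem _ hx hy
    | smul a x _ hx => rw [map_smul]; exact Submodule.smul_mem _ _ hx
  have hle : Module.finrank ℂ (LinearMap.range (E ρ X.U X.ψ)) ≤ 1 :=
    by
    refine (Submodule.finrank_mono hrange).trans ?_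
    have := finrank_span_finset_le_card (R := ℂ) ({Φ X.n0} : Finset V)
    rw [Set.finrank, Finset.coe_singleton, Finset.card_singleton] at this
    exact this
  have hψ1 : Module.finrank ℂ (LinearMap.range (E ρ X.U X.ψ)) = 1 := by
    have := hpos X.ψ
    omega
  have h11 : Module.finrank ℂ (LinearMap.range (E ρ X.U 1)) = 1 := by
    have a := htr X.ψ
    have b := htr 1
    rw [← a, hψ1] at b
    exact_mod_cast b
  have hθ : θ = 1 := X.hgen θ (fun s hs t => theta_inv X ρ h11 hv0 hvU hvT hs t)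
  have hn0 : Φ X.n0 ≠ 0 := by
    intro h0
    rw [h0] at hrange
    have : LinearMap.range (E ρ X.U X.ψ) = ⊥ := by
      rw [eq_bot_iff]
      refine hrange.trans ?_
      simp
    rw [this, finrank_bot] at hψ1
    omega
  obtain ⟨ℓ₀, hℓ₀⟩ : ∃ ℓ : Module.Dual ℂ V, ℓ (Φ X.n0) ≠ 0 := by
    by_contra hcon
    push Not at hcon
    exact hn0 ((Module.forall_dual_apply_eq_zero_iff ℂ _).1 hcon)
  refine ⟨v, ℓ₀ ∘ₗ E ρ X.U X.ψ, ?_, ?_, ?_, hℓ₀⟩
  · intro u g
    rw [LinearMap.comp_apply, LinearMap.comp_apply, map_mul, Module.End.mul_apply, E_rho_apply, map_smul,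
      smul_eq_mul]
  · intro g u hu
    rw [map_mul, Module.End.mul_apply, hvU u hu]
  · intro g t ht
    rw [map_mul, Module.End.mul_apply, hvT ⟨t, ht⟩, hθ]
    simp

theorem unique {χ χ' : G → ℂ} (hχ : IsIrrCharacter G χ) (hχ' : IsIrrCharacter G χ')
    (h : ∀ u ∈ X.U, u ≠ 1 → χ u = 0) (h' : ∀ u ∈ X.U, u ≠ 1 → χ' u = 0) : χ = χ' := by
  by_contra hne
  have hχ0 := hχ
  have hχ0' := hχ'
  obtain ⟨d, ρ, hirr, rfl⟩ := hχ
  obtain ⟨d', ρ', hirr', rfl⟩ := hχ'
  obtain ⟨v, ℓ, a1, a2, a3, a4⟩ := key X ρ h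
  obtain ⟨v', ℓ', b1, b2, b3, b4⟩ := key X ρ' h'
  have hprop : ∀ g, ℓ' (ρ' g v') * ℓ (ρ X.n0 v) = ℓ' (ρ' X.n0 v') * ℓ (ρ g v) := by
    intro g
    rcases X.hcell g with ⟨u, t, ht, u', hu', rfl⟩ | ⟨x, hx, hxg⟩
    · rw [a2 _ _ hu', a3 _ _ ht, a1, b2 _ _ hu', b3 _ _ ht, b1]
      ring
    · have e2 : (x : G) * g = g * (g⁻¹ * x * g) := by group
      have hx' : ((X.ψ x : ℂˣ) : ℂ) ≠ 1 := by
        intro h0; exact hx (Units.ext (by rw [h0, Units.val_one]))
      have c1 : ℓ (ρ g v) = 0 := by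
        have := a1 x g
        rw [e2, a2 _ _ hxg] at this
        have h3 : (1 - ((X.ψ x : ℂˣ) : ℂ)) * ℓ (ρ g v) = 0 := by linear_combination this
        rcases mul_eq_zero.1 h3 with h4 | h4
        · exact absurd (sub_eq_zero.1 h4).symm hx'
        · exact h4
      have c2 : ℓ' (ρ' g v') = 0 := by
        have := b1 x g
        rw [e2, b2 _ _ hxg] at this
        have h3 : (1 - ((X.ψ x : ℂˣ) : ℂ)) * ℓ' (ρ' g v') = 0 := by linear_combination this
        rcases mul_eq_zero.1 h3 with h4 | h4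
        · exact absurd (sub_eq_zero.1 h4).symm hx'
        · exact h4
      rw [c1, c2]; ring
  have hf : IsClassFunction G (fun g => ρ.character g⁻¹) := by
    intro g k
    have := irr_class hχ0 g⁻¹ k
    simp only [mul_inv_rev, inv_inv]
    rw [← this]
    congr 1
    group
  have s1 := sum_smul_rho ρ _ hf
  have s2 := sum_smul_rho ρ' _ hf
  have o1 : ∑ g : G, ρ.character g⁻¹ * ρ.character g = (Nat.card G : ℂ) := by
    rw [← irr_sum_mul_inv_self hχ0]
    apply Finset.sum_congr rfl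
    intro g _; ring
  have o2 : ∑ g : G, ρ.character g⁻¹ * ρ'.character g = 0 := by
    rw [← irr_sum_mul_inv_ne hχ0' hχ0 (Ne.symm hne)]
    apply Finset.sum_congr rfl
    intro g _; ring
  rw [o1] at s1
  rw [o2, zero_div, zero_smul] at s2
  have t1 := congrArg (fun f : Module.End ℂ (Fin d → ℂ) => ℓ (f (ρ X.n0 v))) s1
  have t2 := congrArg (fun f : Module.End ℂ (Fin d' → ℂ) => ℓ' (f (ρ' X.n0 v'))) s2
  simp only [LinearMap.sum_apply, LinearMap.smul_apply, map_sum, map_smul, Module.End.one_apply,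
    LinearMap.zero_apply, map_zero, smul_eq_mul] at t1 t2
  have t3 : ∑ g : G, ρ.character g⁻¹ * (ℓ' (ρ' g (ρ' X.n0 v')) * ℓ (ρ X.n0 v)) =
      ∑ g : G, ρ.character g⁻¹ * (ℓ' (ρ' X.n0 v') * ℓ (ρ g (ρ X.n0 v))) := by
    apply Finset.sum_congr rfl
    intro g _
    have := hprop (g * X.n0)
    rw [map_mul, map_mul] at this
    rw [show ρ' g (ρ' X.n0 v') = (ρ' g * ρ' X.n0) v' from rfl, this]
    rfl
  have t4 : ∑ g : G, ρ.character g⁻¹ * (ℓ' (ρ' g (ρ' X.n0 v')) * ℓ (ρ X.n0 v)) = 0 := by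
    simp_rw [← mul_assoc]
    rw [← Finset.sum_mul, t2, zero_mul]
  have t5 : ∑ g : G, ρ.character g⁻¹ * (ℓ' (ρ' X.n0 v') * ℓ (ρ g (ρ X.n0 v))) =
      ℓ' (ρ' X.n0 v') * ((Nat.card G : ℂ) / (Module.finrank ℂ (Fin d → ℂ) : ℂ) * ℓ (ρ X.n0 v)) := by
    rw [← t1, Finset.mul_sum]
    apply Finset.sum_congr rfl
    intro g _; ring
  rw [t4, t5] at t3
  have hd : (Module.finrank ℂ (Fin d → ℂ) : ℂ) ≠ 0 := by
    have := finrank_pos_of_irreducible ρ
    exact_mod_cast this.ne'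
  have hG : (Nat.card G : ℂ) ≠ 0 := by exact_mod_cast Nat.card_pos.ne'
  exact (mul_ne_zero b4 (mul_ne_zero (div_ne_zero hG hd) a4)) t3.symm

end Cfsg.Agent.Lib.Helper46DZ1
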