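import Mathlib
import Cfsg.Agent.Lib.Helper6SL

set_option autoImplicit false
set_option linter.unusedSectionVars false
set_option linter.unusedSimpArgs false

/-! Monomial matrices, transvections and the subgroups `B`, `N`, `T`, `U` of `SL_n(F)`. -/

namespace Cfsg.Agent.Lib.Helper46SLn1

open Matrix Matrix.SpecialLinearGroup

variable {n : ℕ} {F : Type*} [Field F]

local notation "SLn" => Matrix.SpecialLinearGroup (Fin n) F
local notation "tr" => Matrix.SpecialLinearGroup.transvection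

/-- `g` is monomial with underlying permutation `w` (column `j` is supported in row `w j`). -/
def IsMon (w : Equiv.Perm (Fin n)) (g : SLn) : Prop := ∀ i j, i ≠ w j → g i j = 0

theorem IsMon.mul_apply {w : Equiv.Perm (Fin n)} {g : SLn} (h : IsMon w g) (M : SLn) (i j : Fin n) :
    (g * M) i j = g i (w⁻¹ i) * M (w⁻¹ i) j := by
  show ((g * M : SLn) : Matrix (Fin n) (Fin n) F) i j = _
  rw [Matrix.SpecialLinearGroup.coe_mul, Matrix.mul_apply, Finset.sum_eq_single (w⁻¹ i)]
  · intro k _ hk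
    rw [h i k (by intro e; apply hk; rw [e]; simp), zero_mul]
  · intro h0; exact absurd (Finset.mem_univ _) h0

theorem IsMon.apply_mul {w : Equiv.Perm (Fin n)} {g : SLn} (h : IsMon w g) (M : SLn) (i j : Fin n) :
    (M * g) i j = M i (w j) * g (w j) j := by
  show ((M * g : SLn) : Matrix (Fin n) (Fin n) F) i j = _
  rw [Matrix.SpecialLinearGroup.coe_mul, Matrix.mul_apply, Finset.sum_eq_single (w j)]
  · intro k _ hk
    rw [h k j hk, mul_zero]
  · intro h0; exact absurd (Finset.mem_univ _) h0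

theorem IsMon.ne_zero {w : Equiv.Perm (Fin n)} {g : SLn} (h : IsMon w g) (j : Fin n) : g (w j) j ≠ 0 := by
  intro h0
  have h1 : (g : Matrix (Fin n) (Fin n) F).det = 0 := by
    apply Matrix.det_eq_zero_of_column_eq_zero j
    intro i
    by_cases hi : i = w j
    · rw [hi]; exact h0
    · exact h i j hi
  rw [g.2] at h1
  exact one_ne_zero h1

theorem IsMon.unique {w w' : Equiv.Perm (Fin n)} {g : SLn} (h : IsMon w g) (h' : IsMon w' g) : w = w' := by
  ext j
  by_contra hne
  exact h.ne_zero j (h' _ _ (fun e => hne (congrArg Fin.val e)))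

theorem IsMon.one : IsMon (1 : Equiv.Perm (Fin n)) (1 : SLn) := by
  intro i j hij
  simp only [Equiv.Perm.one_apply] at hij
  simp [hij]

theorem IsMon.mul {w w' : Equiv.Perm (Fin n)} {g g' : SLn} (h : IsMon w g) (h' : IsMon w' g') :
    IsMon (w * w') (g * g') := by
  intro i j hij
  rw [h'.apply_mul]
  rw [h i (w' j) hij, zero_mul]

theorem IsMon.inv {w : Equiv.Perm (Fin n)} {g : SLn} (h : IsMon w g) : IsMon w⁻¹ g⁻¹ := by
  intro i k hik
  have h1 := h.apply_mul g⁻¹ i (w⁻¹ k)
  rw [inv_mul_cancel] at h1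
  have h2 : (1 : SLn) i (w⁻¹ k) = 0 := by
    show ((1 : SLn) : Matrix (Fin n) (Fin n) F) i (w⁻¹ k) = 0
    rw [Matrix.SpecialLinearGroup.coe_one, Matrix.one_apply_ne hik]
  have h4 : w (w⁻¹ k) = k := by simp
  rw [h2, h4] at h1
  rcases mul_eq_zero.1 h1.symm with h3 | h3
  · exact h3
  · have := h.ne_zero (w⁻¹ k)
    rw [h4] at this
    exact absurd h3 this

/-- conjugation by a monomial matrix. -/
theorem IsMon.conj_apply {w : Equiv.Perm (Fin n)} {g : SLn} (h : IsMon w g) (M : SLn) (k j : Fin n) :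
    (g * M * g⁻¹) (w k) (w j) * g (w j) j = g (w k) k * M k j := by
  have h1 := h.apply_mul (g * M * g⁻¹) (w k) j
  have h2 := h.mul_apply M (w k) j
  rw [inv_mul_cancel_right] at h1
  rw [← h1, h2]
  simp

theorem IsMon.conj_eq_zero {w : Equiv.Perm (Fin n)} {g : SLn} (h : IsMon w g) {M : SLn} {k j : Fin n}
    (h0 : M k j = 0) : (g * M * g⁻¹) (w k) (w j) = 0 := by
  have := h.conj_apply M k j
  rw [h0, mul_zero] at this
  exact (mul_eq_zero.1 this).resolve_right (h.ne_zero j)

theorem IsMon.conj_diag {w : Equiv.Perm (Fin n)} {g : SLn} (h : IsMon w g) (M : SLn) (k : Fin n) :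
    (g * M * g⁻¹) (w k) (w k) = M k k := by
  have := h.conj_apply M k k
  rw [mul_comm] at this
  exact mul_left_cancel₀ (h.ne_zero k) this

/-! ### transvections -/

theorem tr_apply {a b : Fin n} (h : a ≠ b) (c : F) (i j : Fin n) :
    (tr h c) i j = (if i = j then 1 else 0) + if i = a ∧ j = b then c else 0 := by
  show ((tr h c : SLn) : Matrix (Fin n) (Fin n) F) i j = _
  rw [transvection_coe, Matrix.add_apply, Matrix.one_apply, Matrix.single_apply]
  congr 1
  simp only [eq_comm]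

theorem tr_mul_apply {a b : Fin n} (h : a ≠ b) (c : F) (u : SLn) (i j : Fin n) :
    (tr h c * u) i j = u i j + if i = a then c * u b j else 0 := by
  show ((tr h c * u : SLn) : Matrix (Fin n) (Fin n) F) i j = _
  rw [Matrix.SpecialLinearGroup.coe_mul, transvection_coe, add_mul, one_mul, Matrix.add_apply]
  congr 1
  by_cases ha : i = a
  · subst ha
    rw [Matrix.single_mul_apply_same, if_pos rfl]
  · rw [Matrix.single_mul_apply_of_ne _ _ _ _ _ ha, if_neg ha]

theorem mul_tr_apply {a b : Fin n} (h : a ≠ b) (c : F) (u : SLn) (i j : Fin n) :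
    (u * tr h c) i j = u i j + if j = b then u i a * c else 0 := by
  show ((u * tr h c : SLn) : Matrix (Fin n) (Fin n) F) i j = _
  rw [Matrix.SpecialLinearGroup.coe_mul, transvection_coe, mul_add, mul_one, Matrix.add_apply]
  congr 1
  by_cases hb : j = b
  · subst hb
    rw [Matrix.mul_single_apply_same, if_pos rfl]
  · rw [Matrix.mul_single_apply_of_ne _ _ _ _ _ hb, if_neg hb]

/-- Steinberg's `w_α(e)`. -/
def wm {a b : Fin n} (h : a ≠ b) (e : F) : SLn := tr h e * (tr h.symm (-e⁻¹) * tr h e)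

theorem wm_isMon {a b : Fin n} (h : a ≠ b) {e : F} (he : e ≠ 0) : IsMon (Equiv.swap a b) (wm h e) := by
  intro i j hij
  unfold wm
  rw [tr_mul_apply, tr_mul_apply, tr_mul_apply, tr_apply, tr_apply, tr_apply]
  by_cases hja : j = a
  · subst hja
    rw [Equiv.swap_apply_left] at hij
    by_cases hia : i = j
    · subst hia
      simp [h, h.symm, he]
    · simp [hij, hia, h, h.symm]
  · by_cases hjb : j = b
    · subst hjb
      rw [Equiv.swap_apply_right] at hij
      by_cases hib : i = j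
      · subst hib
        simp [h, h.symm, he]
      · simp [hij, hib, h, h.symm]
    · rw [Equiv.swap_apply_of_ne_of_ne hja hjb] at hij
      have hja' : a ≠ j := fun e => hja e.symm
      have hjb' : b ≠ j := fun e => hjb e.symm
      simp [hij, hja, hjb, hja', hjb']

theorem exists_mon (w : Equiv.Perm (Fin n)) : ∃ g : SLn, IsMon w g := by
  induction w using Equiv.Perm.swap_induction_on with
  | one => exact ⟨1, IsMon.one⟩
  | swap_mul f x y hxy ih =>
    obtain ⟨g, hg⟩ := ih
    exact ⟨wm hxy 1 * g, (wm_isMon hxy one_ne_zero).mul hg⟩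

theorem tr_neg_eq {a b : Fin n} (h : a ≠ b) {e : F} :
    tr h.symm (-e⁻¹) = tr h (-e) * wm h e * tr h (-e) := by
  unfold wm
  have h1 : tr h (-e) * tr h e = 1 := by
    have := transvection_mul_neg h (-e)
    rwa [neg_neg] at this
  have h2 : tr h e * tr h (-e) = 1 := transvection_mul_neg h e
  calc tr h.symm (-e⁻¹) = (tr h (-e) * tr h e) * tr h.symm (-e⁻¹) * (tr h e * tr h (-e)) := by
        rw [h1, h2, one_mul, mul_one]
    _ = _ := by group


/-! ### the subgroups -/

theorem inv_mem_of_submonoid {G : Type*} [Group G] [Finite G] (S : Submonoid G) {g : G} (hg : g ∈ S) :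
    g⁻¹ ∈ S := by
  have h1 : g⁻¹ = g ^ (orderOf g - 1) := by
    apply inv_eq_of_mul_eq_one_right
    rw [← pow_succ', Nat.sub_add_cancel (orderOf_pos g), pow_orderOf_eq_one]
  rw [h1]
  exact S.pow_mem hg _

theorem one_apply_ne' {i j : Fin n} (h : i ≠ j) : (1 : SLn) i j = 0 := by
  show ((1 : SLn) : Matrix (Fin n) (Fin n) F) i j = 0
  rw [Matrix.SpecialLinearGroup.coe_one, Matrix.one_apply_ne h]

theorem one_apply_eq' (i : Fin n) : (1 : SLn) i i = 1 := by
  show ((1 : SLn) : Matrix (Fin n) (Fin n) F) i i = 1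
  rw [Matrix.SpecialLinearGroup.coe_one, Matrix.one_apply_eq]

theorem mul_apply' (g g' : SLn) (i j : Fin n) : (g * g') i j = ∑ k, g i k * g' k j := by
  show ((g * g' : SLn) : Matrix (Fin n) (Fin n) F) i j = _
  rw [Matrix.SpecialLinearGroup.coe_mul, Matrix.mul_apply]

/-- upper triangular matrices, as a submonoid -/
def BBm (n : ℕ) (F : Type*) [Field F] : Submonoid (Matrix.SpecialLinearGroup (Fin n) F) where
  carrier := {g | ∀ i j, j < i → g i j = 0}
  one_mem' := fun i j h => one_apply_ne' (ne_of_gt h)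
  mul_mem' := by
    intro g g' hg hg' i j hij
    rw [mul_apply']
    apply Finset.sum_eq_zero
    intro k _
    rcases lt_or_ge k i with h | h
    · rw [hg i k h, zero_mul]
    · rw [hg' k j (lt_of_lt_of_le hij h), mul_zero]

/-- upper unitriangular matrices, as a submonoid -/
def UUm (n : ℕ) (F : Type*) [Field F] : Submonoid (Matrix.SpecialLinearGroup (Fin n) F) where
  carrier := {g | (∀ i j, j < i → g i j = 0) ∧ ∀ i, g i i = 1}
  one_mem' := ⟨fun i j h => one_apply_ne' (ne_of_gt h), one_apply_eq'⟩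
  mul_mem' := by
    intro g g' hg hg'
    refine ⟨(BBm n F).mul_mem hg.1 hg'.1, fun i => ?_⟩
    rw [mul_apply', Finset.sum_eq_single i]
    · rw [hg.2, hg'.2, one_mul]
    · intro k _ hk
      rcases lt_or_gt_of_ne hk with h | h
      · rw [hg.1 i k h, zero_mul]
      · rw [hg'.1 k i h, mul_zero]
    · intro h0; exact absurd (Finset.mem_univ _) h0

variable (n F) in
/-- the Borel subgroup -/
def BB [Finite F] : Subgroup (Matrix.SpecialLinearGroup (Fin n) F) :=
  { BBm n F with inv_mem' := fun h => inv_mem_of_submonoid (BBm n F) h }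

variable (n F) in
/-- the unipotent radical of the Borel subgroup -/
def UU [Finite F] : Subgroup (Matrix.SpecialLinearGroup (Fin n) F) :=
  { UUm n F with inv_mem' := fun h => inv_mem_of_submonoid (UUm n F) h }

variable (n F) in
/-- the monomial subgroup -/
def NN : Subgroup (Matrix.SpecialLinearGroup (Fin n) F) where
  carrier := {g | ∃ w, IsMon w g}
  one_mem' := ⟨1, IsMon.one⟩
  mul_mem' := fun ⟨w, h⟩ ⟨w', h'⟩ => ⟨w * w', h.mul h'⟩
  inv_mem' := fun ⟨w, h⟩ => ⟨w⁻¹, h.inv⟩

variable (n F) in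
/-- the diagonal subgroup -/
def TT : Subgroup (Matrix.SpecialLinearGroup (Fin n) F) where
  carrier := {g | IsMon 1 g}
  one_mem' := IsMon.one
  mul_mem' := fun h h' => by simpa using h.mul h'
  inv_mem' := fun h => by simpa using h.inv

theorem mem_BB [Finite F] {g : SLn} : g ∈ BB n F ↔ ∀ i j, j < i → g i j = 0 := Iff.rfl
theorem mem_UU [Finite F] {g : SLn} : g ∈ UU n F ↔ (∀ i j, j < i → g i j = 0) ∧ ∀ i, g i i = 1 := Iff.rfl
theorem mem_NN {g : SLn} : g ∈ NN n F ↔ ∃ w, IsMon w g := Iff.rfl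
theorem mem_TT {g : SLn} : g ∈ TT n F ↔ IsMon 1 g := Iff.rfl
theorem mem_TT' {g : SLn} : g ∈ TT n F ↔ ∀ i j, i ≠ j → g i j = 0 := Iff.rfl

theorem UU_le_BB [Finite F] : UU n F ≤ BB n F := fun _ h => h.1
theorem TT_le_BB [Finite F] : TT n F ≤ BB n F := fun _ h i j hij => h i j (ne_of_gt hij)
theorem TT_le_NN : TT n F ≤ NN n F := fun _ h => ⟨1, h⟩

theorem perm_eq_one {w : Equiv.Perm (Fin n)} (h : ∀ j, w j ≤ j) : w = 1 := by
  ext j
  have key : ∀ k : ℕ, ∀ j : Fin n, j.val = k → w j = j := by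
    intro k
    induction k using Nat.strong_induction_on with
    | _ k ih =>
      intro j hj
      rcases lt_or_eq_of_le (h j) with h1 | h1
      · exfalso
        have h2 := ih (w j).val (by rw [← hj]; exact h1) (w j) rfl
        exact (ne_of_lt h1) (w.injective h2)
      · exact h1
  rw [key j.val j rfl]; rfl

theorem perm_of_mem_BB [Finite F] {w : Equiv.Perm (Fin n)} {g : SLn} (h : IsMon w g) (hB : g ∈ BB n F) :
    w = 1 := by
  apply perm_eq_one
  intro j
  by_contra hlt
  exact h.ne_zero j (hB _ _ (not_le.1 hlt))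

theorem BB_inf_NN [Finite F] : BB n F ⊓ NN n F = TT n F := by
  ext g
  constructor
  · rintro ⟨hB, w, hw⟩
    have := perm_of_mem_BB hw hB
    subst this
    exact hw
  · intro h
    exact ⟨TT_le_BB h, TT_le_NN h⟩

/-- criterion for a monomial conjugate to be upper triangular -/
theorem conj_mem_BB [Finite F] {w : Equiv.Perm (Fin n)} {g : SLn} (h : IsMon w g) {M : SLn}
    (hM : ∀ k j, w j < w k → M k j = 0) : g * M * g⁻¹ ∈ BB n F := by
  intro i j hij
  have hi : w (w⁻¹ i) = i := by simp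
  have hj : w (w⁻¹ j) = j := by simp
  rw [← hi, ← hj]
  apply h.conj_eq_zero
  apply hM
  rw [hi, hj]; exact hij

theorem conj_mem_UU [Finite F] {w : Equiv.Perm (Fin n)} {g : SLn} (h : IsMon w g) {M : SLn}
    (hM : ∀ k j, w j < w k → M k j = 0) (hd : ∀ k, M k k = 1) : g * M * g⁻¹ ∈ UU n F := by
  refine ⟨conj_mem_BB h hM, fun i => ?_⟩
  have hi : w (w⁻¹ i) = i := by simp
  rw [← hi, h.conj_diag, hd]

theorem tr_mem_UU [Finite F] {a b : Fin n} (h : a < b) (c : F) : tr (ne_of_lt h) c ∈ UU n F := by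
  constructor
  · intro i j hij
    rw [tr_apply, if_neg (ne_of_gt hij), if_neg, add_zero]
    rintro ⟨rfl, rfl⟩
    exact lt_asymm h hij
  · intro i
    rw [tr_apply, if_pos rfl, if_neg, add_zero]
    rintro ⟨rfl, h2⟩
    exact (ne_of_lt h) h2

theorem TT_conj_UU [Finite F] {t u : SLn} (ht : t ∈ TT n F) (hu : u ∈ UU n F) : t * u * t⁻¹ ∈ UU n F :=
  conj_mem_UU ht (fun k j hkj => hu.1 k j hkj) hu.2

theorem NN_conj_TT {g t : SLn} (hg : g ∈ NN n F) (ht : t ∈ TT n F) : g * t * g⁻¹ ∈ TT n F := by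
  obtain ⟨w, hw⟩ := hg
  have := (hw.mul ht).mul hw.inv
  rw [mul_one, mul_inv_cancel] at this
  exact this

/-- diagonal matrices -/
def dg (D : Fin n → F) (hD : ∏ i, D i = 1) : SLn := ⟨diagonal D, by rw [det_diagonal]; exact hD⟩

theorem dg_apply (D : Fin n → F) (hD : ∏ i, D i = 1) (i j : Fin n) :
    dg D hD i j = if i = j then D i else 0 := by
  show (diagonal D) i j = _
  rw [Matrix.diagonal_apply]

theorem dg_mem (D : Fin n → F) (hD : ∏ i, D i = 1) : dg D hD ∈ TT n F := by
  intro i j hij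
  rw [dg_apply, if_neg (by simpa using hij)]

theorem prod_diag [Finite F] {g : SLn} (hg : g ∈ BB n F) : ∏ i, g i i = 1 := by
  have h1 : (g : Matrix (Fin n) (Fin n) F).det = ∏ a, (g : Matrix (Fin n) (Fin n) F) a a := by
    apply Matrix.det_of_isUpperTriangular
    intro a b hab
    exact hg a b hab
  rw [g.2] at h1
  exact h1.symm

theorem eq_dg [Finite F] {t : SLn} (ht : t ∈ TT n F) : t = dg (fun i => t i i) (prod_diag (TT_le_BB ht)) := by
  apply Subtype.ext
  ext i j
  show t i j = dg _ _ i j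
  rw [dg_apply]
  split_ifs with h
  · rw [h]
  · exact ht i j h

theorem ext' {g g' : SLn} (h : ∀ i j, g i j = g' i j) : g = g' := by
  apply Subtype.ext
  ext i j
  exact h i j

theorem dg_mul (D D' : Fin n → F) (hD : ∏ i, D i = 1) (hD' : ∏ i, D' i = 1) :
    dg D hD * dg D' hD' = dg (D * D') (by simp [Finset.prod_mul_distrib, hD, hD']) := by
  apply Subtype.ext
  show diagonal D * diagonal D' = diagonal (D * D')
  rw [Matrix.diagonal_mul_diagonal]
  rfl

theorem TT_comm [Finite F] {t t' : SLn} (ht : t ∈ TT n F) (ht' : t' ∈ TT n F) : t * t' = t' * t := by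
  rw [eq_dg ht, eq_dg ht', dg_mul, dg_mul]
  congr 1
  exact mul_comm _ _

/-- `B = U T`. -/
theorem BB_decomp [Finite F] {b : SLn} (hb : b ∈ BB n F) : ∃ u ∈ UU n F, ∃ t ∈ TT n F, b = u * t := by
  have ht := dg_mem (fun i => b i i) (prod_diag hb)
  set t := dg (fun i => b i i) (prod_diag hb) with htdef
  refine ⟨b * t⁻¹, ⟨(BB n F).mul_mem hb ((BB n F).inv_mem (TT_le_BB ht)), fun i => ?_⟩, t, ht, by group⟩
  have h1 : IsMon 1 t⁻¹ := (TT n F).inv_mem ht
  rw [h1.apply_mul]
  simp only [Equiv.Perm.one_apply]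
  have h2 := (show IsMon 1 t from ht).apply_mul t⁻¹ i i
  rw [inv_mul_cancel, one_apply_eq'] at h2
  simp only [Equiv.Perm.one_apply] at h2
  have h3 : t i i = b i i := by rw [htdef, dg_apply, if_pos rfl]
  rw [h3] at h2
  rw [mul_comm]; exact h2.symm

theorem BB_decomp' [Finite F] {b : SLn} (hb : b ∈ BB n F) : ∃ t ∈ TT n F, ∃ u ∈ UU n F, b = t * u := by
  obtain ⟨u, hu, t, ht, rfl⟩ := BB_decomp hb
  refine ⟨t, ht, t⁻¹ * u * t, ?_, by group⟩
  have := TT_conj_UU ((TT n F).inv_mem ht) hu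
  rwa [inv_inv] at this

theorem BB_conj_UU [Finite F] {b u : SLn} (hb : b ∈ BB n F) (hu : u ∈ UU n F) : b * u * b⁻¹ ∈ UU n F := by
  obtain ⟨u', hu', t, ht, rfl⟩ := BB_decomp hb
  have h1 := TT_conj_UU ht hu
  have e : u' * t * u * (u' * t)⁻¹ = u' * (t * u * t⁻¹) * u'⁻¹ := by group
  rw [e]
  exact (UU n F).mul_mem ((UU n F).mul_mem hu' h1) ((UU n F).inv_mem hu')

end Cfsg.Agent.Lib.Helper46SLn1
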