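import Mathlib
import Cfsg.Prelude.Def_LieExceptional
import Cfsg.Agent.Lib.Helper46SLn1

set_option autoImplicit false
set_option linter.unusedSectionVars false
set_option linter.unusedSimpArgs false

/-! The BN-pair of `SL_{m+1}(F)`, `F` a finite field. -/

namespace Cfsg.Agent.Lib.Helper46SLn2

open Matrix Matrix.SpecialLinearGroup Cfsg.Agent.Lib.Helper46SLn1

variable {m : ℕ} {F : Type*} [Field F] [Finite F]

local notation "SLm" => Matrix.SpecialLinearGroup (Fin (m + 1)) F
local notation "tr" => Matrix.SpecialLinearGroup.transvection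

theorem cs_lt (i : Fin m) : i.castSucc < i.succ := Fin.castSucc_lt_succ

theorem cs_ne (i : Fin m) : i.castSucc ≠ i.succ := (cs_lt i).ne

/-- the simple reflections (as permutations) -/
abbrev sg (i : Fin m) : Equiv.Perm (Fin (m + 1)) := Equiv.swap i.castSucc i.succ

/-- representatives of the simple reflections -/
def ss (i : Fin m) : SLm := wm (cs_ne i) 1

theorem ss_isMon (i : Fin m) : IsMon (sg i) (ss i : SLm) := wm_isMon _ one_ne_zero

theorem adj (i : Fin m) (k j : Fin (m + 1)) (h : sg i j < sg i k) :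
    j < k ∨ (k = i.castSucc ∧ j = i.succ) := by
  unfold sg at h
  rw [Equiv.swap_apply_def, Equiv.swap_apply_def] at h
  split_ifs at h with h1 h2 h3 h4 h5 h6 h7 <;>
    simp only [Fin.lt_def, Fin.ext_iff, Fin.val_castSucc, Fin.val_succ] at * <;> omega

theorem sg_mul_self (i : Fin m) : sg i * sg i = 1 := Equiv.swap_mul_self _ _

theorem ss_sq_mem (i : Fin m) : (ss i : SLm) * ss i ∈ TT (m + 1) F := by
  have := (ss_isMon (F := F) i).mul (ss_isMon i)
  rw [sg_mul_self] at this
  exact this

theorem diag_ne_zero {b : SLm} (hb : b ∈ BB (m + 1) F) (a : Fin (m + 1)) : b a a ≠ 0 := by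
  have := prod_diag hb
  intro h0
  rw [Finset.prod_eq_zero (f := fun i => b i i) (Finset.mem_univ a) h0] at this
  exact zero_ne_one this

theorem tr_conj_mem {w : Equiv.Perm (Fin (m + 1))} {g : SLm} (hw : IsMon w g) {a c : Fin (m + 1)} (h : a ≠ c)
    (e : F) (hlt : w a < w c) : g * tr h e * g⁻¹ ∈ UU (m + 1) F := by
  apply conj_mem_UU hw
  · intro k j hkj
    have hne : k ≠ j := by rintro rfl; exact lt_irrefl _ hkj
    rw [tr_apply, if_neg hne, if_neg, add_zero]
    rintro ⟨rfl, rfl⟩
    exact lt_asymm hlt hkj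
  · intro k
    rw [tr_apply, if_pos rfl, if_neg, add_zero]
    rintro ⟨rfl, h2⟩
    exact h h2

theorem tr_conj_mem' {w : Equiv.Perm (Fin (m + 1))} {g : SLm} (hw : IsMon w g) {a c : Fin (m + 1)} (h : a ≠ c)
    (e : F) (hlt : w⁻¹ a < w⁻¹ c) : g⁻¹ * tr h e * g ∈ UU (m + 1) F := by
  have := tr_conj_mem hw.inv h e hlt
  rwa [inv_inv] at this

theorem mul_mem_union (i : Fin m) {g b : SLm} (hg : g ∈ NN (m + 1) F) (hb : b ∈ BB (m + 1) F) :
    ss i * b * g ∈ DoubleCoset.doubleCoset (ss i * g) (BB (m + 1) F : Set SLm) (BB (m + 1) F) ∪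
      DoubleCoset.doubleCoset g (BB (m + 1) F : Set SLm) (BB (m + 1) F) := by
  set a := i.castSucc with ha
  set c := i.succ with hc
  have hac : a < c := cs_lt i
  have hne : a ≠ c := hac.ne
  set s : SLm := ss i with hs
  have hsM : IsMon (sg i) s := ss_isMon i
  set e := b a c / b a a with he
  set b' := b * tr hne (-e) with hb'
  have hb'B : b' ∈ BB (m + 1) F := (BB (m + 1) F).mul_mem hb (UU_le_BB (tr_mem_UU hac _))
  have hb'0 : b' a c = 0 := by
    rw [hb', mul_tr_apply, if_pos rfl, he]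
    field_simp [diag_ne_zero hb a]
    ring
  have hbb : b = b' * tr hne e := by
    rw [hb', mul_assoc]
    have := transvection_mul_neg hne (-e)
    rw [neg_neg] at this
    rw [this, mul_one]
  have h1 : s * b' * s⁻¹ ∈ BB (m + 1) F := by
    apply conj_mem_BB hsM
    intro k j hkj
    rcases adj i k j hkj with h | ⟨rfl, rfl⟩
    · exact hb'B k j h
    · exact hb'0
  obtain ⟨w, hw⟩ := hg
  by_cases hcase : w⁻¹ a < w⁻¹ c
  · left
    rw [DoubleCoset.mem_doubleCoset]
    refine ⟨s * b' * s⁻¹, h1, g⁻¹ * tr hne e * g, UU_le_BB (tr_conj_mem' hw hne e hcase), ?_⟩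
    rw [hbb]; group
  · have hcase' : w⁻¹ c < w⁻¹ a := by
      rcases lt_trichotomy (w⁻¹ a) (w⁻¹ c) with h | h | h
      · exact absurd h hcase
      · exact absurd (w⁻¹.injective h) hne
      · exact h
    by_cases he0 : e = 0
    · left
      rw [DoubleCoset.mem_doubleCoset]
      refine ⟨s * b' * s⁻¹, h1, 1, (BB (m + 1) F).one_mem, ?_⟩
      rw [hbb, he0, transvection_coeff_zero]; group
    · right
      set f := -e⁻¹ with hf
      have hf0 : f ≠ 0 := by rw [hf]; exact neg_ne_zero.2 (inv_ne_zero he0)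
      have hx : tr hne e = tr hne.symm (-f) * wm hne.symm f * tr hne.symm (-f) := by
        have := tr_neg_eq hne.symm (e := f)
        rw [← this]
        congr 1
        rw [hf]; field_simp
      have h2 : s * tr hne.symm (-f) * s⁻¹ ∈ BB (m + 1) F := by
        apply UU_le_BB
        apply tr_conj_mem hsM
        show Equiv.swap a c c < Equiv.swap a c a
        rw [Equiv.swap_apply_left, Equiv.swap_apply_right]; exact hac
      have h3 : s * wm hne.symm f ∈ BB (m + 1) F := by
        apply TT_le_BB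
        have := hsM.mul (wm_isMon hne.symm hf0)
        have e2 : sg i * Equiv.swap c a = 1 := by
          rw [Equiv.swap_comm c a]; exact sg_mul_self i
        rw [e2] at this
        exact this
      have h4 : g⁻¹ * tr hne.symm (-f) * g ∈ BB (m + 1) F :=
        UU_le_BB (tr_conj_mem' hw hne.symm _ hcase')
      rw [DoubleCoset.mem_doubleCoset]
      refine ⟨(s * b' * s⁻¹) * (s * tr hne.symm (-f) * s⁻¹) * (s * wm hne.symm f),
        (BB (m + 1) F).mul_mem ((BB (m + 1) F).mul_mem h1 h2) h3, g⁻¹ * tr hne.symm (-f) * g, h4, ?_⟩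
      rw [hbb, hx]; group

theorem sup_eq_top : BB (m + 1) F ⊔ NN (m + 1) F = ⊤ := by
  rw [eq_top_iff]
  intro A hA0
  clear hA0
  rcases Nat.eq_zero_or_pos m with hm | hm
  · subst hm
    apply Subgroup.mem_sup_left
    intro i j hij
    have : i = j := by apply Fin.ext; omega
    exact absurd hij (by rw [this]; exact lt_irrefl _)
  · have : Nontrivial (Fin (m + 1)) := Fin.nontrivial_iff_two_le.2 (by omega)
    induction A using Cfsg.Agent.Lib.Helper6SL.transvection_induction with
    | htransvec i j h c =>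
      rcases lt_or_gt_of_ne h with hlt | hlt
      · exact Subgroup.mem_sup_left (UU_le_BB (tr_mem_UU hlt c))
      · by_cases hc : c = 0
        · rw [hc, transvection_coeff_zero]; exact Subgroup.one_mem _
        · have e1 := tr_neg_eq h.symm (e := -c⁻¹)
          have e2 : - (-c⁻¹)⁻¹ = c := by field_simp
          rw [e2] at e1
          rw [e1]
          have hu : ∀ x : F, tr h.symm x ∈ BB (m + 1) F ⊔ NN (m + 1) F := fun x =>
            Subgroup.mem_sup_left (UU_le_BB (tr_mem_UU hlt x))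
          refine Subgroup.mul_mem _ (Subgroup.mul_mem _ (hu _) ?_) (hu _)
          exact Subgroup.mem_sup_right ⟨_, wm_isMon h.symm (neg_ne_zero.2 (inv_ne_zero hc))⟩
    | hmul A B hA hB => exact Subgroup.mul_mem _ hA hB

theorem closure_sup :
    Subgroup.closure (Set.range (ss : Fin m → SLm)) ⊔ (BB (m + 1) F ⊓ NN (m + 1) F) = NN (m + 1) F := by
  apply le_antisymm
  · apply sup_le
    · rw [Subgroup.closure_le]
      rintro _ ⟨i, rfl⟩
      exact ⟨_, ss_isMon i⟩
    · exact inf_le_right
  · rintro g ⟨w, hw⟩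
    rw [BB_inf_NN]
    have hw' : w ∈ Submonoid.closure (Set.range fun i : Fin m => Equiv.swap i.castSucc i.succ) := by
      rw [Equiv.Perm.mclosure_swap_castSucc_succ]; trivial
    induction hw' using Submonoid.closure_induction generalizing g with
    | mem x hx =>
      obtain ⟨i, rfl⟩ := hx
      have e : g = ss i * ((ss i)⁻¹ * g) := by group
      rw [e]
      refine Subgroup.mul_mem _ (Subgroup.mem_sup_left (Subgroup.subset_closure ⟨i, rfl⟩))
        (Subgroup.mem_sup_right ?_)
      have := (ss_isMon (F := F) i).inv.mul hw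
      rw [inv_mul_cancel] at this
      exact this
    | one => exact Subgroup.mem_sup_right hw
    | mul x y _ _ hx hy =>
      obtain ⟨g₁, hg₁⟩ := exists_mon (F := F) x
      have e : g = g₁ * (g₁⁻¹ * g) := by group
      rw [e]
      refine Subgroup.mul_mem _ (hx hg₁) (hy ?_)
      have := hg₁.inv.mul hw
      rwa [inv_mul_cancel_left] at this

theorem ss_inj {i j : Fin m} (h : (ss i : SLm)⁻¹ * ss j ∈ BB (m + 1) F) : i = j := by
  have h1 := (ss_isMon (F := F) i).inv.mul (ss_isMon j)
  have h2 := perm_of_mem_BB h1 h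
  have h3 : sg j = sg i := by
    rw [inv_mul_eq_one] at h2; exact h2.symm
  have h4 : sg j i.castSucc = i.succ := by rw [h3]; exact Equiv.swap_apply_left _ _
  unfold sg at h4
  rw [Equiv.swap_apply_def] at h4
  split_ifs at h4 with h5 h6 <;>
    simp only [Fin.ext_iff, Fin.val_castSucc, Fin.val_succ] at * <;> omega

theorem conj_ne (i : Fin m) :
    (fun b : SLm => ss i * b * ss i) '' (BB (m + 1) F : Set SLm) ≠ (BB (m + 1) F : Set SLm) := by
  intro heq
  have hac := cs_lt i
  have hx : tr (cs_ne i) (1 : F) ∈ BB (m + 1) F := UU_le_BB (tr_mem_UU hac 1)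
  have h1 : ss i * tr (cs_ne i) (1 : F) * ss i ∈ (BB (m + 1) F : Set SLm) := by
    rw [← heq]; exact ⟨_, hx, rfl⟩
  have h2 : ss i * tr (cs_ne i) (1 : F) * (ss i)⁻¹ ∈ BB (m + 1) F := by
    have e : ss i * tr (cs_ne i) (1 : F) * (ss i)⁻¹ =
        (ss i * tr (cs_ne i) (1 : F) * ss i) * (ss i * ss i)⁻¹ := by group
    rw [e]
    exact (BB (m + 1) F).mul_mem h1 ((BB (m + 1) F).inv_mem (TT_le_BB (ss_sq_mem i)))
  have h3 := (ss_isMon (F := F) i).conj_apply (tr (cs_ne i) (1 : F)) i.castSucc i.succ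
  have e1 : sg i i.castSucc = i.succ := Equiv.swap_apply_left _ _
  have e2 : sg i i.succ = i.castSucc := Equiv.swap_apply_right _ _
  have h5 := (ss_isMon (F := F) i).ne_zero i.castSucc
  rw [e1, e2, h2 _ _ hac, zero_mul, tr_apply, if_neg (cs_ne i), if_pos ⟨rfl, rfl⟩, zero_add, mul_one] at h3
  rw [e1] at h5
  exact h5 h3.symm

variable (m F) in
/-- **The BN-pair of `SL_{m+1}(F)`.** -/
def bn : Cfsg.BNPair (Matrix.SpecialLinearGroup (Fin (m + 1)) F) where
  B := BB (m + 1) F
  N := NN (m + 1) F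
  S := Set.range ss
  sup_eq_top := sup_eq_top
  conj_mem := fun n hn t ht => TT_le_BB (NN_conj_TT hn (BB_inf_NN (n := m + 1) (F := F) ▸ ht))
  subset := by rintro _ ⟨i, rfl⟩; exact ⟨_, ss_isMon i⟩
  sq_mem := by rintro _ ⟨i, rfl⟩; exact TT_le_BB (ss_sq_mem i)
  inj := by
    rintro _ ⟨i, rfl⟩ _ ⟨j, rfl⟩ h
    rw [ss_inj h]
  closure_sup := closure_sup
  mul_mem_union := by
    rintro _ ⟨i, rfl⟩ n hn b hb
    exact mul_mem_union i hn hb
  conj_ne := by
    rintro _ ⟨i, rfl⟩
    exact conj_ne i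

end Cfsg.Agent.Lib.Helper46SLn2
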