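import Mathlib
import Cfsg.Agent.Lib.Helper46SLn2
import Cfsg.Agent.Lib.Helper46BNApp
import Cfsg.Agent.Lib.Helper46DZ1

set_option autoImplicit false
set_option linter.unusedSectionVars false
set_option linter.unusedSimpArgs false

/-! The Steinberg character of `SL_{m+1}(F)`, and the `Setup` for the uniqueness theorem. -/

namespace Cfsg.Agent.Lib.Helper46SLn3

open Matrix Matrix.SpecialLinearGroup Cfsg.Agent.Lib.Helper46SLn1 Cfsg.Agent.Lib.Helper46SLn2
open Cfsg Cfsg.Agent.Lib.Helper8BN Cfsg.Agent.Lib.Helper46Len Cfsg.Agent.Lib.Helper46BN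
open Cfsg.Agent.Lib.Helper46BNSt Cfsg.Agent.Lib.Helper46BNIrr Cfsg.Agent.Lib.Helper46BNApp

variable {m : ℕ} {F : Type*} [Field F] [Finite F]

local notation "SLm" => Matrix.SpecialLinearGroup (Fin (m + 1)) F
local notation "tr" => Matrix.SpecialLinearGroup.transvection

theorem UU_inf_TT {g : SLm} (hU : g ∈ UU (m + 1) F) (hT : g ∈ TT (m + 1) F) : g = 1 := by
  apply ext'
  intro i j
  by_cases h : i = j
  · subst h; rw [hU.2, one_apply_eq']
  · rw [mem_TT'.1 hT i j h, Helper46SLn1.one_apply_ne' h]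

theorem mem_TT_of_rev {m0 β : SLm} (h0 : IsMon Fin.revPerm m0) (hβ : β ∈ BB (m + 1) F)
    (h : m0⁻¹ * β * m0 ∈ BB (m + 1) F) : β ∈ TT (m + 1) F := by
  rw [mem_TT']
  intro k j hkj
  rcases lt_or_gt_of_ne hkj with hlt | hlt
  · have h1 := h0.inv.conj_apply β k j
    rw [inv_inv] at h1
    have h2 : (Fin.revPerm : Equiv.Perm (Fin (m + 1)))⁻¹ j < (Fin.revPerm : Equiv.Perm (Fin (m + 1)))⁻¹ k := by
      show Fin.rev j < Fin.rev k
      exact Fin.rev_lt_rev.2 hlt
    rw [h _ _ h2, zero_mul] at h1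
    exact (mul_eq_zero.1 h1.symm).resolve_left (h0.inv.ne_zero k)
  · exact hβ k j hlt

theorem card_quot : Nat.card (BB (m + 1) F ⧸ (TT (m + 1) F).subgroupOf (BB (m + 1) F)) =
    Nat.card (UU (m + 1) F) := by
  symm
  apply Nat.card_congr
  refine Equiv.ofBijective (fun u => QuotientGroup.mk ⟨u.1, UU_le_BB u.2⟩) ⟨?_, ?_⟩
  · intro u u' h
    rw [QuotientGroup.eq] at h
    have h1 : u.1⁻¹ * u'.1 ∈ TT (m + 1) F := h
    have h2 := UU_inf_TT ((UU (m + 1) F).mul_mem ((UU (m + 1) F).inv_mem u.2) u'.2) h1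
    rw [inv_mul_eq_one] at h2
    exact Subtype.ext h2
  · intro z
    induction z using QuotientGroup.induction_on with
    | H β =>
      obtain ⟨u, hu, t, ht, e⟩ := BB_decomp β.2
      refine ⟨⟨u, hu⟩, ?_⟩
      rw [QuotientGroup.eq]
      change u⁻¹ * β.1 ∈ TT (m + 1) F
      rw [e, inv_mul_cancel_left]
      exact ht

/-- **The Steinberg character of `SL_{m+1}(F)`.** -/
theorem exists_St : ∃ χ : SLm → ℂ, IsIrrCharacter SLm χ ∧ χ 1 = (Nat.card (UU (m + 1) F) : ℂ) ∧
    ∀ u ∈ UU (m + 1) F, u ≠ 1 → χ u = 0 := by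
  classical
  have : Fintype SLm := Fintype.ofFinite _
  set P := bn m F with hP
  set Sf : Finset (Wg P) := (Set.toFinite (SW P)).toFinset with hSf
  have hSf' : (Sf : Set (Wg P)) = SW P := Set.Finite.coe_toFinset _
  obtain ⟨m0, h0⟩ := exists_mon (F := F) (Fin.revPerm : Equiv.Perm (Fin (m + 1)))
  have hres : ∀ b : BB (m + 1) F, St P Sf b.1 = Cfsg.fixedPointCharacter ((TT (m + 1) F).subgroupOf (BB (m + 1) F)) b := by
    intro b
    refine St_restrict P Sf hSf' ((TT (m + 1) F).subgroupOf (BB (m + 1) F)) (m0 := m0) ⟨_, h0⟩ ?_ ?_ b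
    · intro β
      constructor
      · intro h
        have := NN_conj_TT (g := m0⁻¹) ⟨_, h0.inv⟩ (show β.1 ∈ TT (m + 1) F from h)
        rw [inv_inv] at this
        exact TT_le_BB this
      · intro h
        exact mem_TT_of_rev h0 β.2 h
    · intro β hβ
      exact TT_le_NN hβ
  refine ⟨St P Sf, St_irr P Sf hSf', ?_, ?_⟩
  · have := hres 1
    rw [Subgroup.coe_one] at this
    rw [this, ← card_quot]
    unfold Cfsg.fixedPointCharacter
    rw [MulAction.fixedBy_one_eq_univ]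
    congr 1
    exact Nat.card_congr (Equiv.Set.univ _)
  · intro u hu hne
    have := hres ⟨u, UU_le_BB hu⟩
    rw [this]
    unfold Cfsg.fixedPointCharacter
    have hempty : IsEmpty (MulAction.fixedBy (BB (m + 1) F ⧸ (TT (m + 1) F).subgroupOf (BB (m + 1) F))
        (⟨u, UU_le_BB hu⟩ : BB (m + 1) F)) := by
      constructor
      rintro ⟨z, hz⟩
      induction z using QuotientGroup.induction_on with
      | H β =>
        rw [MulAction.mem_fixedBy] at hz
        change (((⟨u, UU_le_BB hu⟩ : BB (m + 1) F) * β : BB (m + 1) F) :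
          BB (m + 1) F ⧸ (TT (m + 1) F).subgroupOf (BB (m + 1) F)) = _ at hz
        rw [eq_comm, QuotientGroup.eq] at hz
        have h1 : β.1⁻¹ * (u * β.1) ∈ TT (m + 1) F := hz
        have h2 : β.1⁻¹ * u * β.1⁻¹⁻¹ ∈ UU (m + 1) F := BB_conj_UU ((BB (m + 1) F).inv_mem β.2) hu
        rw [inv_inv] at h2
        rw [← mul_assoc] at h1
        have h3 := UU_inf_TT h2 h1
        apply hne
        have : u = β.1 * (β.1⁻¹ * u * β.1) * β.1⁻¹ := by group
        rw [this, h3]; group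
    rw [@Nat.card_of_isEmpty _ hempty, Nat.cast_zero]

end Cfsg.Agent.Lib.Helper46SLn3
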