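import Mathlib
import Cfsg.Agent.Lib.Helper46SLn3

set_option autoImplicit false
set_option linter.unusedSectionVars false
set_option linter.unusedSimpArgs false

/-! The `Setup` of `Helper46DZ1` for `SL_{m+1}(F)`, `m ≥ 2`. -/

namespace Cfsg.Agent.Lib.Helper46SLn4

open Matrix Matrix.SpecialLinearGroup Cfsg.Agent.Lib.Helper46SLn1 Cfsg.Agent.Lib.Helper46SLn2
open Cfsg Cfsg.Agent.Lib.Helper8BN Cfsg.Agent.Lib.Helper46SLn3

variable {m : ℕ} {F : Type*} [Field F] [Finite F]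

local notation "SLm" => Matrix.SpecialLinearGroup (Fin (m + 1)) F
local notation "tr" => Matrix.SpecialLinearGroup.transvection

theorem superdiag_mul {u u' : SLm} (hu : u ∈ UU (m + 1) F) (hu' : u' ∈ UU (m + 1) F) (i : Fin m) :
    (u * u') i.castSucc i.succ = u i.castSucc i.succ + u' i.castSucc i.succ := by
  rw [Helper46SLn1.mul_apply', Finset.sum_eq_add_of_mem i.castSucc i.succ (Finset.mem_univ _) (Finset.mem_univ _) (cs_ne i)]
  · rw [hu.2, hu'.2, one_mul, mul_one, add_comm]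
  · rintro k - ⟨hka, hkc⟩
    have : k < i.castSucc ∨ i.succ < k := by
      simp only [Fin.lt_def, Fin.ext_iff, Fin.val_castSucc, Fin.val_succ, ne_eq] at *
      omega
    rcases this with h | h
    · rw [hu.1 _ _ h, zero_mul]
    · rw [hu'.1 _ _ h, mul_zero]

/-- the sum of the superdiagonal entries -/
def sig : UU (m + 1) F →* Multiplicative F where
  toFun u := Multiplicative.ofAdd (∑ i : Fin m, u.1 i.castSucc i.succ)
  map_one' := by
    have : ∀ i : Fin m, ((1 : UU (m + 1) F) : SLm) i.castSucc i.succ = 0 := fun i =>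
      Helper46SLn1.one_apply_ne' (cs_ne i)
    simp_rw [this]
    simp
  map_mul' := fun u u' => by
    rw [← ofAdd_add, ← Finset.sum_add_distrib]
    congr 1
    apply Finset.sum_congr rfl
    intro i _
    exact superdiag_mul u.2 u'.2 i

theorem exists_psi1 : ∃ ψ₁ : Multiplicative F →* ℂˣ, ψ₁ (Multiplicative.ofAdd 1) ≠ 1 := by
  apply CommGroup.exists_apply_ne_one_of_hasEnoughRootsOfUnity (Multiplicative F) ℂ
  intro h
  have : (1 : F) = 0 := by
    have := congrArg Multiplicative.toAdd h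
    simp at this
  exact one_ne_zero this

variable (m F) in
/-- a nondegenerate linear character of `U` -/
noncomputable def psi : UU (m + 1) F →* ℂˣ := (exists_psi1 (F := F)).choose.comp sig

theorem psi_tr (i : Fin m) : psi m F ⟨tr (cs_ne i) 1, tr_mem_UU (cs_lt i) 1⟩ ≠ 1 := by
  have h := (exists_psi1 (F := F)).choose_spec
  have e : sig (⟨tr (cs_ne i) 1, tr_mem_UU (cs_lt i) 1⟩ : UU (m + 1) F) = Multiplicative.ofAdd (1 : F) := by
    show Multiplicative.ofAdd _ = _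
    congr 1
    rw [Finset.sum_eq_single i]
    · rw [tr_apply, if_neg (cs_ne i), if_pos ⟨rfl, rfl⟩, zero_add]
    · intro j _ hj
      rw [tr_apply, if_neg (cs_ne j), if_neg, zero_add]
      rintro ⟨h1, -⟩
      exact hj (Fin.castSucc_injective _ h1)
    · intro h0; exact absurd (Finset.mem_univ _) h0
  show (exists_psi1 (F := F)).choose (sig _) ≠ 1
  rw [e]; exact h

theorem exists_ascent {w : Equiv.Perm (Fin (m + 1))} (hw : w ≠ Fin.revPerm) :
    ∃ i : Fin m, w⁻¹ i.castSucc < w⁻¹ i.succ := by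
  by_contra hcon
  push Not at hcon
  apply hw
  have h1 : StrictAnti (fun i => w⁻¹ i) := by
    rw [Fin.strictAnti_iff_succ_lt]
    intro i
    exact lt_of_le_of_ne (hcon i) (fun e => cs_ne i (w⁻¹.injective e).symm)
  have h2 : StrictMono (fun i => Fin.rev (w⁻¹ i)) := fun a b hab => Fin.rev_lt_rev.2 (h1 hab)
  have h3 : (fun i => Fin.rev (w⁻¹ i)) = id := by
    apply (StrictMono.range_inj h2 strictMono_id).1
    rw [Set.range_id]
    have : Function.Surjective (fun i => Fin.rev (w⁻¹ i)) :=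
      (Fin.revPerm.surjective).comp w⁻¹.surjective
    exact this.range_eq
  ext j
  have h4 := congrFun h3 (w j)
  have h5 : w⁻¹ (w j) = j := by simp
  simp only [h5, id] at h4
  rw [← h4]
  simp

variable (m F) in
/-- a representative of the longest element -/
noncomputable def n0 : SLm := (exists_mon (F := F) (Fin.revPerm : Equiv.Perm (Fin (m + 1)))).choose

theorem n0_isMon : IsMon Fin.revPerm (n0 m F) :=
  (exists_mon (F := F) (Fin.revPerm : Equiv.Perm (Fin (m + 1)))).choose_spec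

theorem hcell (g : SLm) :
    (∃ u : UU (m + 1) F, ∃ t ∈ TT (m + 1) F, ∃ u' ∈ UU (m + 1) F, g = u * n0 m F * t * u') ∨
    (∃ x : UU (m + 1) F, psi m F x ≠ 1 ∧ g⁻¹ * x * g ∈ UU (m + 1) F) := by
  obtain ⟨n, hn, x, hx, y, hy, rfl⟩ := bruhat_exists (P := bn m F) g
  obtain ⟨u₁, hu₁, t₁, ht₁, rfl⟩ := BB_decomp (show x ∈ BB (m + 1) F from hx)
  obtain ⟨t₂, ht₂, u₂, hu₂, rfl⟩ := BB_decomp' (show y ∈ BB (m + 1) F from hy)
  obtain ⟨w, hw⟩ : ∃ w, IsMon w (t₁ * n * t₂) :=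
    (NN (m + 1) F).mul_mem ((NN (m + 1) F).mul_mem (TT_le_NN ht₁) hn) (TT_le_NN ht₂)
  set n' := t₁ * n * t₂ with hn'
  have eg : u₁ * t₁ * n * (t₂ * u₂) = u₁ * n' * u₂ := by rw [hn']; group
  rw [eg]
  by_cases hrev : w = Fin.revPerm
  · left
    subst hrev
    refine ⟨⟨u₁, hu₁⟩, (n0 m F)⁻¹ * n', ?_, u₂, hu₂, by group⟩
    have := n0_isMon.inv.mul hw
    rw [inv_mul_cancel] at this
    exact this
  · right
    obtain ⟨i, hi⟩ := exists_ascent hrev
    have hx0 := tr_mem_UU (F := F) (cs_lt i) 1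
    refine ⟨⟨u₁, hu₁⟩ * ⟨tr (cs_ne i) 1, hx0⟩ * ⟨u₁, hu₁⟩⁻¹, ?_, ?_⟩
    · rw [map_mul, map_mul, map_inv, mul_comm, inv_mul_cancel_left]
      exact psi_tr i
    · have h1 := tr_conj_mem' hw (cs_ne i) (1 : F) hi
      have e : (u₁ * n' * u₂)⁻¹ * ((⟨u₁, hu₁⟩ * ⟨tr (cs_ne i) 1, hx0⟩ * ⟨u₁, hu₁⟩⁻¹ : UU (m + 1) F) : SLm) *
          (u₁ * n' * u₂) = u₂⁻¹ * (n'⁻¹ * tr (cs_ne i) 1 * n') * u₂ := by
        simp only [Subgroup.coe_mul, Subgroup.coe_inv]
        group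
      rw [e]
      exact (UU (m + 1) F).mul_mem ((UU (m + 1) F).mul_mem ((UU (m + 1) F).inv_mem hu₂) h1) hu₂

theorem hST (i : Fin m) {t : SLm} (ht : t ∈ TT (m + 1) F) : (ss i)⁻¹ * t * ss i ∈ TT (m + 1) F := by
  have := NN_conj_TT (g := (ss i)⁻¹) ⟨_, (ss_isMon i).inv⟩ ht
  rwa [inv_inv] at this

theorem hrank1 (i : Fin m) {u : SLm} (hu : u ∈ UU (m + 1) F) : (ss i)⁻¹ * u * ss i ∈ UU (m + 1) F ∨
    ∃ u₁ ∈ UU (m + 1) F, ∃ t ∈ TT (m + 1) F, ∃ u₂ ∈ UU (m + 1) F, (ss i)⁻¹ * u * ss i = u₁ * t * ss i * u₂ := by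
  have hsq := ss_sq_mem (F := F) i
  have e : (ss i)⁻¹ * u * ss i = ss i * ((ss i * ss i)⁻¹ * u) * ss i := by group
  have h := mul_mem_union i (g := ss i) (b := (ss i * ss i)⁻¹ * u) ⟨_, ss_isMon i⟩
    ((BB (m + 1) F).mul_mem ((BB (m + 1) F).inv_mem (TT_le_BB hsq)) (UU_le_BB hu))
  rw [← e] at h
  rcases h with h | h
  · left
    rw [DoubleCoset.mem_doubleCoset] at h
    obtain ⟨b₁, hb₁, b₂, hb₂, h⟩ := h
    refine ⟨?_, fun k => ?_⟩
    · rw [h]
      exact (BB (m + 1) F).mul_mem ((BB (m + 1) F).mul_mem hb₁ (TT_le_BB hsq)) hb₂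
    · have := (ss_isMon (F := F) i).inv.conj_diag u ((sg i) k)
      rw [inv_inv] at this
      have h5 : (sg i)⁻¹ ((sg i) k) = k := by simp
      rw [h5] at this
      rw [this, hu.2]
  · right
    rw [DoubleCoset.mem_doubleCoset] at h
    obtain ⟨b₁, hb₁, b₂, hb₂, h⟩ := h
    obtain ⟨u₁, hu₁, t₁, ht₁, rfl⟩ := BB_decomp (show b₁ ∈ BB (m + 1) F from hb₁)
    obtain ⟨t₂, ht₂, u₂, hu₂, rfl⟩ := BB_decomp' (show b₂ ∈ BB (m + 1) F from hb₂)
    refine ⟨u₁, hu₁, t₁ * (ss i * t₂ * (ss i)⁻¹), ?_, u₂, hu₂, ?_⟩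
    · exact (TT (m + 1) F).mul_mem ht₁ (NN_conj_TT ⟨_, ss_isMon i⟩ ht₂)
    · rw [h]; group


/-! ### the torus -/

theorem coe_prod_eq {D : Fin (m + 1) → Fˣ} (hD : ∏ i, D i = 1) : ∏ i, ((D i : Fˣ) : F) = 1 := by
  have := congrArg Units.val hD
  rw [Units.coe_prod, Units.val_one] at this
  exact this

/-- diagonal matrices from units -/
def dgu (D : Fin (m + 1) → Fˣ) (hD : ∏ i, D i = 1) : TT (m + 1) F :=
  ⟨dg (fun i => (D i : F)) (coe_prod_eq hD), dg_mem _ _⟩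

theorem dgu_val (D : Fin (m + 1) → Fˣ) (hD : ∏ i, D i = 1) :
    (dgu D hD).1 = dg (fun i => (D i : F)) (coe_prod_eq hD) := rfl

theorem dgu_apply (D : Fin (m + 1) → Fˣ) (hD : ∏ i, D i = 1) (i j : Fin (m + 1)) :
    (dgu D hD).1 i j = if i = j then (D i : F) else 0 := by
  rw [dgu_val, dg_apply]

theorem dg_congr {D D' : Fin (m + 1) → F} (h : D = D') (hD : ∏ i, D i = 1) (hD' : ∏ i, D' i = 1) :
    dg D hD = dg D' hD' := by subst h; rfl

theorem dgu_congr {D D' : Fin (m + 1) → Fˣ} (h : D = D') (hD : ∏ i, D i = 1) (hD' : ∏ i, D' i = 1) :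
    dgu D hD = dgu D' hD' := by subst h; rfl

theorem dgu_mul (D D' : Fin (m + 1) → Fˣ) (hD : ∏ i, D i = 1) (hD' : ∏ i, D' i = 1)
    (h : ∏ i, (D * D') i = 1) : dgu D hD * dgu D' hD' = dgu (D * D') h := by
  apply Subtype.ext
  rw [Subgroup.coe_mul, dgu_val, dgu_val, dgu_val, dg_mul]
  apply dg_congr
  funext i
  simp

theorem dgu_one (h : ∏ i, (1 : Fin (m + 1) → Fˣ) i = 1) : dgu (1 : Fin (m + 1) → Fˣ) h = 1 := by
  apply Subtype.ext
  apply ext'
  intro i j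
  rw [dgu_apply, Subgroup.coe_one]
  split_ifs with hij
  · subst hij; rw [one_apply_eq']; simp
  · rw [Helper46SLn1.one_apply_ne' hij]

theorem prod_comp (D : Fin (m + 1) → Fˣ) (hD : ∏ i, D i = 1) (w : Equiv.Perm (Fin (m + 1))) :
    ∏ i, (D ∘ w) i = 1 := by
  rw [← hD]; exact Equiv.prod_comp w D

theorem conj_dgu {w : Equiv.Perm (Fin (m + 1))} {g : SLm} (hg : IsMon w g) (D : Fin (m + 1) → Fˣ)
    (hD : ∏ i, D i = 1) : g⁻¹ * (dgu D hD).1 * g = (dgu (D ∘ w) (prod_comp D hD w)).1 := by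
  have h1 : g⁻¹ * (dgu D hD).1 * g ∈ TT (m + 1) F := by
    have := NN_conj_TT (g := g⁻¹) ⟨_, hg.inv⟩ (dgu D hD).2
    rwa [inv_inv] at this
  apply ext'
  intro i j
  by_cases hij : i = j
  · subst hij
    have := hg.inv.conj_diag (dgu D hD).1 (w i)
    rw [inv_inv] at this
    have h5 : w⁻¹ (w i) = i := by simp
    rw [h5] at this
    rw [this, dgu_apply, dgu_apply, if_pos rfl, if_pos rfl]
    rfl
  · rw [mem_TT'.1 h1 i j hij, mem_TT'.1 (dgu (D ∘ w) _).2 i j hij]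

theorem theta_perm (θ : TT (m + 1) F →* ℂˣ)
    (hinv : ∀ (i : Fin m) (t : TT (m + 1) F), θ ⟨(ss i)⁻¹ * (t : SLm) * ss i, hST i t.2⟩ = θ t)
    (w : Equiv.Perm (Fin (m + 1))) : ∀ (D : Fin (m + 1) → Fˣ) (hD : ∏ i, D i = 1),
      θ (dgu (D ∘ w) (prod_comp D hD w)) = θ (dgu D hD) := by
  have hw' : w ∈ Submonoid.closure (Set.range fun i : Fin m => Equiv.swap i.castSucc i.succ) := by
    rw [Equiv.Perm.mclosure_swap_castSucc_succ]; trivial
  induction hw' using Submonoid.closure_induction with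
  | mem x hx =>
    obtain ⟨i, rfl⟩ := hx
    intro D hD
    rw [← hinv i (dgu D hD)]
    congr 1
    apply Subtype.ext
    exact (conj_dgu (ss_isMon i) D hD).symm
  | one => intro D hD; rfl
  | mul x y _ _ hx hy =>
    intro D hD
    rw [← hx D hD, ← hy (D ∘ x) (prod_comp D hD x)]
    rfl

/-- the coroot-like elements -/
def Hf (a b : Fin (m + 1)) (e : Fˣ) : Fin (m + 1) → Fˣ := Pi.mulSingle a e * Pi.mulSingle b e⁻¹

theorem prod_Hf (a b : Fin (m + 1)) (e : Fˣ) : ∏ i, Hf a b e i = 1 := by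
  unfold Hf
  simp only [Pi.mul_apply]
  rw [Finset.prod_mul_distrib, Fintype.prod_pi_mulSingle', Fintype.prod_pi_mulSingle', mul_inv_cancel]

theorem mulSingle_comp (x : Fin (m + 1)) (e : Fˣ) (σ : Equiv.Perm (Fin (m + 1))) :
    (Pi.mulSingle x e : Fin (m + 1) → Fˣ) ∘ σ = Pi.mulSingle (σ⁻¹ x) e := by
  funext i
  simp only [Function.comp, Pi.mulSingle_apply]
  congr 1
  rw [Equiv.Perm.eq_inv_iff_eq]

theorem Hf_comp (a b : Fin (m + 1)) (e : Fˣ) (σ : Equiv.Perm (Fin (m + 1))) :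
    Hf a b e ∘ σ = Hf (σ⁻¹ a) (σ⁻¹ b) e := by
  unfold Hf
  rw [← mulSingle_comp, ← mulSingle_comp]
  rfl

theorem theta_H (hm : 2 ≤ m) (θ : TT (m + 1) F →* ℂˣ)
    (hinv : ∀ (i : Fin m) (t : TT (m + 1) F), θ ⟨(ss i)⁻¹ * (t : SLm) * ss i, hST i t.2⟩ = θ t)
    {a b : Fin (m + 1)} (hab : a ≠ b) (e : Fˣ) : θ (dgu (Hf a b e) (prod_Hf a b e)) = 1 := by
  obtain ⟨k, hka, hkb⟩ : ∃ k : Fin (m + 1), k ≠ a ∧ k ≠ b := by
    by_contra hcon
    push Not at hcon
    have h1 : (Finset.univ : Finset (Fin (m + 1))) ⊆ {a, b} := by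
      intro k _
      by_cases h : k = a
      · simp [h]
      · simp [hcon k h]
    have h2 := Finset.card_le_card h1
    have h3 : ({a, b} : Finset (Fin (m + 1))).card ≤ 2 := Finset.card_le_two
    rw [Finset.card_univ, Fintype.card_fin] at h2
    omega
  have e1 : Hf a b e = Hf a k e * Hf k b e := by
    unfold Hf
    have : (Pi.mulSingle k e⁻¹ : Fin (m + 1) → Fˣ) * Pi.mulSingle k e = 1 := by
      rw [← Pi.mulSingle_mul, inv_mul_cancel, Pi.mulSingle_one]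
    calc (Pi.mulSingle a e : Fin (m + 1) → Fˣ) * Pi.mulSingle b e⁻¹
        = Pi.mulSingle a e * ((Pi.mulSingle k e⁻¹ : Fin (m + 1) → Fˣ) * Pi.mulSingle k e) *
            Pi.mulSingle b e⁻¹ := by rw [this, mul_one]
      _ = _ := by simp only [mul_assoc]
  have e2 : Hf a k e = Hf a b e ∘ (Equiv.swap b k) := by
    rw [Hf_comp, Equiv.swap_inv, Equiv.swap_apply_of_ne_of_ne hab hka.symm, Equiv.swap_apply_left]
  have e3 : Hf k b e = Hf a b e ∘ (Equiv.swap a k) := by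
    rw [Hf_comp, Equiv.swap_inv, Equiv.swap_apply_left, Equiv.swap_apply_of_ne_of_ne hab.symm hkb.symm]
  have t2 : θ (dgu (Hf a k e) (prod_Hf a k e)) = θ (dgu (Hf a b e) (prod_Hf a b e)) := by
    rw [← theta_perm θ hinv (Equiv.swap b k) (Hf a b e) (prod_Hf a b e)]
    congr 1
    exact dgu_congr e2 _ _
  have t3 : θ (dgu (Hf k b e) (prod_Hf k b e)) = θ (dgu (Hf a b e) (prod_Hf a b e)) := by
    rw [← theta_perm θ hinv (Equiv.swap a k) (Hf a b e) (prod_Hf a b e)]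
    congr 1
    exact dgu_congr e3 _ _
  have t1 : θ (dgu (Hf a b e) (prod_Hf a b e)) =
      θ (dgu (Hf a k e) (prod_Hf a k e)) * θ (dgu (Hf k b e) (prod_Hf k b e)) := by
    rw [← map_mul, dgu_mul _ _ _ _ (by rw [← e1]; exact prod_Hf a b e)]
    congr 1
    exact dgu_congr e1 _ _
  rw [t2, t3] at t1
  exact (mul_eq_left.1 t1.symm)

/-- correct the first coordinate so that the product is one -/
def cor (D : Fin (m + 1) → Fˣ) : Fin (m + 1) → Fˣ := D * Pi.mulSingle (0 : Fin (m + 1)) (∏ j, D j)⁻¹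

theorem prod_tau (D : Fin (m + 1) → Fˣ) : ∏ i, cor D i = 1 := by
  unfold cor
  simp only [Pi.mul_apply]
  rw [Finset.prod_mul_distrib, Fintype.prod_pi_mulSingle', mul_inv_cancel]

theorem tau_aux (D D' : Fin (m + 1) → Fˣ) : cor (D * D') = cor D * cor D' := by
  unfold cor
  have : (∏ j, (D * D') j)⁻¹ = (∏ j, D j)⁻¹ * (∏ j, D' j)⁻¹ := by
    simp only [Pi.mul_apply]
    rw [Finset.prod_mul_distrib, mul_inv]
  rw [this, Pi.mulSingle_mul]
  exact mul_mul_mul_comm _ _ _ _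

theorem cor_of_prod {D : Fin (m + 1) → Fˣ} (h : ∏ j, D j = 1) : cor D = D := by
  unfold cor
  rw [h, inv_one, Pi.mulSingle_one, mul_one]

theorem cor_single (j : Fin (m + 1)) (e : Fˣ) : cor (Pi.mulSingle j e) = Hf j 0 e := by
  unfold cor Hf
  rw [Fintype.prod_pi_mulSingle']

/-- a surjection from `(Fˣ)^(m+1)` onto the torus -/
def tau : (Fin (m + 1) → Fˣ) →* TT (m + 1) F where
  toFun D := dgu (cor D) (prod_tau D)
  map_one' := by
    rw [← dgu_one (by simp)]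
    exact dgu_congr (cor_of_prod (by simp)) _ _
  map_mul' := fun D D' => by
    rw [dgu_mul _ _ _ _ (by rw [← tau_aux]; exact prod_tau (D * D'))]
    exact dgu_congr (tau_aux D D') _ _

theorem tau_apply (D : Fin (m + 1) → Fˣ) : tau D = dgu (cor D) (prod_tau D) := rfl

theorem hgen (hm : 2 ≤ m) (θ : TT (m + 1) F →* ℂˣ)
    (hinv : ∀ (i : Fin m) (t : TT (m + 1) F), θ ⟨(ss i)⁻¹ * (t : SLm) * ss i, hST i t.2⟩ = θ t) : θ = 1 := by
  have h1 : ∀ D : Fin (m + 1) → Fˣ, θ (tau D) = 1 := by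
    intro D
    have : θ (tau D) = (θ.comp tau) D := rfl
    rw [this, ← Finset.univ_prod_mulSingle D, map_prod]
    apply Finset.prod_eq_one
    intro j _
    rw [MonoidHom.comp_apply, tau_apply]
    by_cases hj : j = 0
    · subst hj
      rw [← map_one θ, ← dgu_one (by simp)]
      congr 1
      apply dgu_congr
      rw [cor_single]
      unfold Hf
      rw [← Pi.mulSingle_mul, mul_inv_cancel, Pi.mulSingle_one]
    · rw [← theta_H hm θ hinv hj (D j)]
      congr 1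
      exact dgu_congr (cor_single _ _) _ _
  ext t
  rw [MonoidHom.one_apply]
  have hne : ∀ i, t.1 i i ≠ 0 := fun i => diag_ne_zero (TT_le_BB t.2) i
  have hprod : ∏ i, Units.mk0 (t.1 i i) (hne i) = 1 := by
    apply Units.ext
    rw [Units.coe_prod, Units.val_one]
    exact prod_diag (TT_le_BB t.2)
  have ht : t = tau (fun i => Units.mk0 (t.1 i i) (hne i)) := by
    apply Subtype.ext
    rw [tau_apply, dgu_val]
    conv_lhs => rw [eq_dg t.2]
    apply dg_congr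
    rw [cor_of_prod hprod]
    funext i
    simp
  rw [ht, h1]

variable (F) in
/-- the `Setup` for `SL_{m+1}(F)`, `m ≥ 2`. -/
noncomputable def setup (hm : 2 ≤ m) :
    Cfsg.Agent.Lib.Helper46DZ1.Setup (Matrix.SpecialLinearGroup (Fin (m + 1)) F) where
  U := UU (m + 1) F
  T := TT (m + 1) F
  ψ := psi m F
  n0 := n0 m F
  S := Set.range ss
  hTU := fun t ht u hu => TT_conj_UU ht hu
  hTcomm := fun a b => Subtype.ext (TT_comm a.2 b.2)
  hcell := hcell
  hST := by rintro _ ⟨i, rfl⟩ t ht; exact hST i ht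
  hrank1 := by rintro _ ⟨i, rfl⟩ u hu; exact hrank1 i hu
  hgen := fun θ h => hgen hm θ (fun i t => h (ss i) ⟨i, rfl⟩ t)

/-- uniqueness of the irreducible character vanishing on the nontrivial unipotent elements, `m ≥ 2`. -/
theorem unique_of_vanish (hm : 2 ≤ m) {χ χ' : SLm → ℂ} (hχ : IsIrrCharacter SLm χ) (hχ' : IsIrrCharacter SLm χ')
    (h : ∀ u ∈ UU (m + 1) F, u ≠ 1 → χ u = 0) (h' : ∀ u ∈ UU (m + 1) F, u ≠ 1 → χ' u = 0) : χ = χ' := by
  have : Fintype SLm := Fintype.ofFinite _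
  exact Cfsg.Agent.Lib.Helper46DZ1.unique (setup F hm) hχ hχ' h h'

end Cfsg.Agent.Lib.Helper46SLn4
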