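import Mathlib
import Cfsg.Prelude.Def_Solvable
import Cfsg.Agent.Lib.Helper50Tv
import Cfsg.Agent.Lib.Helper20Syl
import Cfsg.Agent.Lib.Helper23Grp
import Cfsg.Agent.Lib.Helper46SLn1

set_option autoImplicit false
set_option linter.unusedSectionVars false
set_option linter.unusedSimpArgs false

/-! A `p`-regular element of `SL_n(F)` (char `p`) centralising a nontrivial radical `p`-subgroup is central. -/

namespace Cfsg.Agent.Lib.Helper46SLn5

open Matrix Cfsg.Agent.Lib.Helper50Tv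

section Abstract

variable {G : Type*} [Group G] [Finite G] {p : ℕ} [Fact p.Prime]

/-- a `p`-subgroup normalised by the normaliser of a radical `p`-subgroup `D` lies in `D`. -/
theorem le_of_radical {D R : Subgroup G} (hD : IsPGroup p D) (hR : IsPGroup p R)
    (hrad : (Cfsg.pCore p (Subgroup.normalizer (D : Set G))).map (Subgroup.normalizer (D : Set G)).subtype = D)
    (hnorm : ∀ g ∈ Subgroup.normalizer (D : Set G), ∀ r ∈ R, g * r * g⁻¹ ∈ R) : R ≤ D := by
  have h1 : ∀ r ∈ R, r ∈ Subgroup.normalizer (D : Set G) → r ∈ D := by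
    intro r hr hrN
    have hKn : (R.subgroupOf (Subgroup.normalizer (D : Set G))).Normal :=
      ⟨fun k hk g => hnorm g.1 g.2 k.1 hk⟩
    have hKp : IsPGroup p (R.subgroupOf (Subgroup.normalizer (D : Set G))) := hR.comap_subtype
    have h2 : R.subgroupOf (Subgroup.normalizer (D : Set G)) ≤ Cfsg.pCore p _ := le_sSup ⟨hKn, hKp⟩
    rw [← hrad]
    exact ⟨⟨r, hrN⟩, h2 hr, rfl⟩
  by_contra hle
  have hDn : D ≤ Subgroup.normalizer (R : Set G) := by
    intro d hd
    have hdN : d ∈ Subgroup.normalizer (D : Set G) := Subgroup.le_normalizer hd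
    rw [Subgroup.mem_normalizer_iff]
    intro r
    constructor
    · exact hnorm d hdN r
    · intro h
      have := hnorm d⁻¹ (inv_mem hdN) _ h
      have e : d⁻¹ * (d * r * d⁻¹) * d⁻¹⁻¹ = r := by group
      rwa [e] at this
  have hQ : IsPGroup p (D ⊔ R : Subgroup G) := hD.to_sup_of_normal_right' hR hDn
  have hlt : D < D ⊔ R := lt_of_le_of_ne le_sup_left (fun e => hle (e ▸ le_sup_right))
  obtain ⟨y, hy1, hy2⟩ := SetLike.exists_of_lt (Cfsg.Agent.Lib.Helper20Syl.lt_inf_normalizer hQ hlt)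
  have hy3 : y ∈ R ⊔ D := by rw [sup_comm]; exact hy1.1
  obtain ⟨d, hd, r, hr, rfl⟩ := (Cfsg.Agent.Lib.Helper23Grp.mem_sup_of_normalizes' hDn).1 hy3
  apply hy2
  apply D.mul_mem hd
  apply h1 r hr
  have : r = d⁻¹ * (d * r) := by group
  rw [this]
  exact mul_mem (inv_mem (Subgroup.le_normalizer hd)) hy1.2

end Abstract

variable {n : ℕ} {F : Type*} [Field F]

local notation "SLn" => Matrix.SpecialLinearGroup (Fin n) F

theorem eq_zero_of_mulVec {M : Matrix (Fin n) (Fin n) F} (h : ∀ v, M *ᵥ v = 0) : M = 0 := by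
  ext i j
  have := congrFun (h (Pi.single j 1)) i
  rw [Matrix.mulVec_single_one] at this
  exact this

theorem coe_mul_mulVec (g g' : SLn) (v : Fin n → F) : (g * g').1 *ᵥ v = g.1 *ᵥ (g'.1 *ᵥ v) := by
  rw [Matrix.mulVec_mulVec]; rfl

theorem inv_mulVec (g : SLn) (v : Fin n → F) : g⁻¹.1 *ᵥ (g.1 *ᵥ v) = v := by
  rw [← coe_mul_mulVec, inv_mul_cancel]; simp

theorem mulVec_inv (g : SLn) (v : Fin n → F) : g.1 *ᵥ (g⁻¹.1 *ᵥ v) = v := by
  rw [← coe_mul_mulVec, mul_inv_cancel]; simp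

/-- fixed space of a subgroup -/
def fixW (D : Subgroup SLn) : Submodule F (Fin n → F) where
  carrier := {v | ∀ d ∈ D, d.1 *ᵥ v = v}
  add_mem' := fun {a b} ha hb d hd => by rw [Matrix.mulVec_add, ha d hd, hb d hd]
  zero_mem' := fun d _ => Matrix.mulVec_zero _
  smul_mem' := fun c v hv d hd => by rw [Matrix.mulVec_smul, hv d hd]

/-- the "unipotent radical" of the stabiliser of a subspace, as a submonoid -/
def radM (W : Submodule F (Fin n → F)) : Submonoid SLn where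
  carrier := {g | (∀ v ∈ W, g.1 *ᵥ v = v) ∧ ∀ v, g.1 *ᵥ v - v ∈ W}
  one_mem' := ⟨fun v _ => by simp, fun v => by simp⟩
  mul_mem' := by
    rintro g g' ⟨h1, h2⟩ ⟨h1', h2'⟩
    refine ⟨fun v hv => by rw [coe_mul_mulVec, h1' v hv, h1 v hv], fun v => ?_⟩
    rw [coe_mul_mulVec]
    have : g.1 *ᵥ (g'.1 *ᵥ v) - v = (g.1 *ᵥ (g'.1 *ᵥ v) - g'.1 *ᵥ v) + (g'.1 *ᵥ v - v) := by abel
    rw [this]
    exact W.add_mem (h2 _) (h2' _)

/-- the "unipotent radical" of the stabiliser of a subspace -/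
def rad [Finite F] (W : Submodule F (Fin n → F)) : Subgroup SLn :=
  { radM W with inv_mem' := fun h => Cfsg.Agent.Lib.Helper46SLn1.inv_mem_of_submonoid (radM W) h }

theorem mem_rad [Finite F] {W : Submodule F (Fin n → F)} {g : SLn} :
    g ∈ rad W ↔ (∀ v ∈ W, g.1 *ᵥ v = v) ∧ ∀ v, g.1 *ᵥ v - v ∈ W := Iff.rfl

theorem rad_isPGroup [Finite F] (p : ℕ) [Fact p.Prime] [CharP F p] (hn : 0 < n) (W : Submodule F (Fin n → F)) :
    IsPGroup p (rad W) := by
  have : Nonempty (Fin n) := ⟨⟨0, hn⟩⟩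
  rintro ⟨g, hg⟩
  refine ⟨1, ?_⟩
  apply Subtype.ext
  apply Subtype.ext
  rw [pow_one]
  show ((g ^ p : SLn) : Matrix (Fin n) (Fin n) F) = 1
  rw [Matrix.SpecialLinearGroup.coe_pow]
  have h0 : (g.1 - 1) * (g.1 - 1) = 0 := by
    apply eq_zero_of_mulVec
    intro v
    rw [← Matrix.mulVec_mulVec, Matrix.sub_mulVec, Matrix.sub_mulVec, Matrix.one_mulVec, Matrix.one_mulVec]
    rw [hg.1 _ (hg.2 v), sub_self]
  have h1 : g.1 = 1 + (g.1 - 1) := by abel
  have h2 : (g.1 - 1) ^ p = 0 := by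
    have hp2 : 2 ≤ p := (Fact.out : p.Prime).two_le
    obtain ⟨k, rfl⟩ := Nat.exists_eq_add_of_le hp2
    rw [pow_add, pow_two, h0, zero_mul]
  rw [h1, add_pow_char_of_commute _ (Commute.one_left _), one_pow, h2, add_zero]

theorem normalizer_fixW {D : Subgroup SLn} {g : SLn} (hg : g ∈ Subgroup.normalizer (D : Set SLn))
    {v : Fin n → F} (hv : v ∈ fixW D) : g.1 *ᵥ v ∈ fixW D := by
  intro d hd
  have h1 : g⁻¹ * d * g ∈ D := by
    have := (Subgroup.mem_normalizer_iff.1 (inv_mem hg) d).1 hd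
    rwa [inv_inv] at this
  have h2 := hv _ h1
  rw [coe_mul_mulVec, coe_mul_mulVec] at h2
  have h3 := congrArg (fun z => g.1 *ᵥ z) h2
  simp only [mulVec_inv] at h3
  exact h3

theorem normalizer_rad [Finite F] {D : Subgroup SLn} {g : SLn} (hg : g ∈ Subgroup.normalizer (D : Set SLn))
    {r : SLn} (hr : r ∈ rad (fixW D)) : g * r * g⁻¹ ∈ rad (fixW D) := by
  constructor
  · intro v hv
    rw [coe_mul_mulVec, coe_mul_mulVec, hr.1 _ (normalizer_fixW (inv_mem hg) hv), mulVec_inv]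
  · intro v
    rw [coe_mul_mulVec, coe_mul_mulVec]
    have e : g.1 *ᵥ (r.1 *ᵥ (g⁻¹.1 *ᵥ v)) - v = g.1 *ᵥ (r.1 *ᵥ (g⁻¹.1 *ᵥ v) - g⁻¹.1 *ᵥ v) := by
      rw [Matrix.mulVec_sub, mulVec_inv]
    rw [e]
    exact normalizer_fixW hg (hr.2 _)

theorem fixW_ne_bot [Fintype F] (p : ℕ) [Fact p.Prime] [CharP F p] (hn : 0 < n) {D : Subgroup SLn}
    (hD : IsPGroup p D) : ∃ w ∈ fixW D, w ≠ 0 := by
  have hcard : p ∣ Nat.card (Fin n → F) := by
    obtain ⟨k, -, hk⟩ := FiniteField.card F p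
    rw [Nat.card_fun, Nat.card_eq_fintype_card, Nat.card_eq_fintype_card, hk, Fintype.card_fin]
    apply dvd_pow _ hn.ne'
    exact dvd_pow_self p k.ne_zero
  have h0 : (0 : Fin n → F) ∈ MulAction.fixedPoints D (Fin n → F) := fun d => smul_zero d
  obtain ⟨b, hb, hne⟩ := hD.exists_fixed_point_of_prime_dvd_card_of_fixed_point (Fin n → F) hcard h0
  exact ⟨b, fun d hd => hb ⟨d, hd⟩, hne.symm⟩

theorem fixW_ne_top {D : Subgroup SLn} (hD : D ≠ ⊥) : ∃ z, z ∉ fixW D := by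
  by_contra hcon
  push Not at hcon
  apply hD
  rw [eq_bot_iff]
  intro d hd
  rw [Subgroup.mem_bot]
  apply Subtype.ext
  have : d.1 - 1 = 0 := by
    apply eq_zero_of_mulVec
    intro v
    rw [Matrix.sub_mulVec, Matrix.one_mulVec, hcon v d hd, sub_self]
  exact sub_eq_zero.1 this

/-- a covector vanishing on `W` but not at `z ∉ W`. -/
theorem exists_cov {W : Submodule F (Fin n → F)} {z : Fin n → F} (hz : z ∉ W) :
    ∃ f : Fin n → F, f ⬝ᵥ z ≠ 0 ∧ ∀ w ∈ W, f ⬝ᵥ w = 0 := by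
  obtain ⟨g, hg1, hg2⟩ := Submodule.exists_le_ker_of_notMem hz
  have key : ∀ v, g v = (fun j => g (Pi.single j 1)) ⬝ᵥ v := by
    intro v
    rw [LinearMap.pi_apply_eq_sum_univ g v, dotProduct]
    apply Finset.sum_congr rfl
    intro i _
    rw [smul_eq_mul, mul_comm]
    congr 2
    funext j
    simp [Pi.single_apply, eq_comm]
  refine ⟨fun j => g (Pi.single j 1), ?_, ?_⟩
  · rw [← key]; exact hg1
  · intro w hw
    rw [← key]; exact hg2 hw

theorem tv_mem_rad [Finite F] {W : Submodule F (Fin n → F)} {w f : Fin n → F} (hw : w ∈ W)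
    (hf : ∀ w ∈ W, f ⬝ᵥ w = 0) : tv w f (hf w hw) ∈ rad W := by
  constructor
  · intro v hv
    rw [show (tv w f (hf w hw)).1 = 1 + vecMulVec w f from rfl, Matrix.add_mulVec, Matrix.one_mulVec,
      Matrix.vecMulVec_mulVec, hf v hv]
    simp
  · intro v
    rw [show (tv w f (hf w hw)).1 = 1 + vecMulVec w f from rfl, Matrix.add_mulVec, Matrix.one_mulVec,
      Matrix.vecMulVec_mulVec, add_sub_cancel_left]
    have : MulOpposite.op (f ⬝ᵥ v) • w = (f ⬝ᵥ v) • w := by
      funext i; simp [mul_comm]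
    rw [this]
    exact W.smul_mem _ hw

/-- the linear algebra core: a matrix commuting with the whole `rad W`, `0 < W < V`, is `c + y`, `y² = 0`. -/
theorem exists_scalar_add [Finite F] {W : Submodule F (Fin n → F)} {w₀ z₀ : Fin n → F} (hw₀ : w₀ ∈ W) (hw₀0 : w₀ ≠ 0)
    (hz₀ : z₀ ∉ W) (x : SLn) (hx : ∀ r ∈ rad W, r * x = x * r) :
    ∃ c : F, (x.1 - c • 1) * (x.1 - c • 1) = 0 := by
  have hcomm : ∀ w ∈ W, ∀ f : Fin n → F, (∀ w ∈ W, f ⬝ᵥ w = 0) → ∀ i j, (x.1 *ᵥ w) i * f j = w i * (f ᵥ* x.1) j := by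
    intro w hw f hf i j
    have h1 := congrArg Subtype.val (hx _ (tv_mem_rad hw hf))
    have h2 : (1 + vecMulVec w f) * x.1 = x.1 * (1 + vecMulVec w f) := h1
    rw [add_mul, mul_add, one_mul, mul_one, add_right_inj, Matrix.mul_vecMulVec, Matrix.vecMulVec_mul] at h2
    have h3 := congrFun (congrFun h2 i) j
    rw [Matrix.vecMulVec_apply, Matrix.vecMulVec_apply] at h3
    exact h3.symm
  obtain ⟨f₀, hf₀z, hf₀⟩ := exists_cov hz₀
  obtain ⟨j₀, hj₀⟩ : ∃ j, f₀ j ≠ 0 := by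
    by_contra hcon
    push Not at hcon
    apply hf₀z
    simp [dotProduct, hcon]
  obtain ⟨i₀, hi₀⟩ : ∃ i, w₀ i ≠ 0 := by
    by_contra hcon
    push Not at hcon
    exact hw₀0 (funext hcon)
  set c := (f₀ ᵥ* x.1) j₀ / f₀ j₀ with hc
  have hW : ∀ w ∈ W, x.1 *ᵥ w = c • w := by
    intro w hw
    funext i
    have := hcomm w hw f₀ hf₀ i j₀
    rw [Pi.smul_apply, smul_eq_mul, hc]
    field_simp
    linear_combination this
  have hC : ∀ f : Fin n → F, (∀ w ∈ W, f ⬝ᵥ w = 0) → f ᵥ* x.1 = c • f := by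
    intro f hf
    funext j
    have := hcomm w₀ hw₀ f hf i₀ j
    rw [hW w₀ hw₀, Pi.smul_apply, smul_eq_mul] at this
    rw [Pi.smul_apply, smul_eq_mul]
    apply mul_left_cancel₀ hi₀
    linear_combination -this
  refine ⟨c, ?_⟩
  apply eq_zero_of_mulVec
  intro v
  rw [← Matrix.mulVec_mulVec]
  have hmem : (x.1 - c • 1) *ᵥ v ∈ W := by
    by_contra hnot
    obtain ⟨f, hf1, hf2⟩ := exists_cov hnot
    apply hf1
    rw [Matrix.dotProduct_mulVec, Matrix.vecMul_sub, hC f hf2, Matrix.vecMul_smul, Matrix.vecMul_one, sub_self,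
      zero_dotProduct]
  rw [Matrix.sub_mulVec, hW _ hmem, Matrix.smul_mulVec, Matrix.one_mulVec, sub_self]

theorem eq_scalar_of_regular (p : ℕ) [Fact p.Prime] [CharP F p] [Finite F] (x : SLn) (hx : ¬ p ∣ orderOf x) (c : F)
    (h : (x.1 - c • 1) * (x.1 - c • 1) = 0) : x.1 = c • 1 := by
  set y := x.1 - c • (1 : Matrix (Fin n) (Fin n) F) with hy
  have hxy : x.1 = c • 1 + y := by rw [hy]; abel
  have key : ∀ k : ℕ, ∃ a : F, x.1 ^ k = c ^ k • 1 + a • y ∧ a * c = k * c ^ k := by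
    intro k
    induction k with
    | zero => exact ⟨0, by simp, by simp⟩
    | succ k ih =>
      obtain ⟨a, h1, h2⟩ := ih
      refine ⟨c ^ k + a * c, ?_, ?_⟩
      · rw [pow_succ, h1]
        conv_lhs => rw [hxy]
        simp only [add_mul, mul_add, smul_mul_assoc, mul_smul_comm, one_mul, mul_one, h, smul_zero, add_zero,
          smul_smul, add_smul]
        rw [pow_succ, smul_add, smul_smul, smul_smul, mul_comm c (c ^ k), mul_comm c a]
        abel
      · push_cast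
        rw [add_mul, h2, pow_succ]; ring
  obtain ⟨a, h1, h2⟩ := key (orderOf x)
  have h3 : x.1 ^ orderOf x = 1 := by
    have := congrArg Subtype.val (pow_orderOf_eq_one x)
    rw [← Matrix.SpecialLinearGroup.coe_pow]
    exact this
  rw [h3] at h1
  by_contra hne
  have hy0 : y ≠ 0 := by
    intro h0
    apply hne
    rw [hxy, h0, add_zero]
  have h4 : y = c ^ orderOf x • y := by
    have := congrArg (fun M => M * y) h1
    simp only [one_mul, add_mul, smul_mul_assoc, h, smul_zero, add_zero] at this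
    exact this
  have h5 : c ^ orderOf x = 1 := by
    have : (1 - c ^ orderOf x) • y = 0 := by rw [sub_smul, one_smul, ← h4, sub_self]
    rcases smul_eq_zero.1 this with h | h
    · exact (sub_eq_zero.1 h).symm
    · exact absurd h hy0
  rw [h5, one_smul] at h1
  have h6 : a = 0 := by
    have : a • y = 0 := by
      have := h1
      rw [left_eq_add] at this
      exact this
    exact (smul_eq_zero.1 this).resolve_right hy0
  rw [h6, zero_mul, h5, mul_one] at h2
  exact hx ((CharP.cast_eq_zero_iff F p _).1 h2.symm)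

/-- **Main lemma.** -/
theorem central_of_radical [Fintype F] (p : ℕ) [Fact p.Prime] [CharP F p] (hn : 0 < n)
    (D : Subgroup SLn) (hD : IsPGroup p D) (hD1 : D ≠ ⊥)
    (hrad : (Cfsg.pCore p (Subgroup.normalizer (D : Set SLn))).map (Subgroup.normalizer (D : Set SLn)).subtype = D)
    (x : SLn) (hx : ¬ p ∣ orderOf x) (hcomm : ∀ d ∈ D, d * x = x * d) : x ∈ Subgroup.center SLn := by
  have hR : rad (fixW D) ≤ D :=
    le_of_radical hD (rad_isPGroup p hn _) hrad (fun g hg r hr => normalizer_rad hg hr)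
  obtain ⟨w₀, hw₀, hw₀0⟩ := fixW_ne_bot p hn hD
  obtain ⟨z₀, hz₀⟩ := fixW_ne_top hD1
  obtain ⟨c, hc⟩ := exists_scalar_add hw₀ hw₀0 hz₀ x (fun r hr => hcomm r (hR hr))
  have hxc := eq_scalar_of_regular p x hx c hc
  rw [Matrix.SpecialLinearGroup.mem_center_iff]
  refine ⟨c, ?_, ?_⟩
  · have := x.2
    rw [hxc, Matrix.det_smul, Matrix.det_one, mul_one] at this
    exact this
  · rw [hxc, Matrix.scalar_apply, Matrix.smul_one_eq_diagonal]

end Cfsg.Agent.Lib.Helper46SLn5
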