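import Mathlib
import Cfsg.Prelude.Def_Blocks
import Cfsg.Agent.Lib.Helper20First
import Cfsg.Agent.S0912

set_option autoImplicit false
set_option linter.unusedSectionVars false
set_option linter.unusedVariables false

namespace Cfsg.Agent.Lib.Helper20Sub

open Cfsg
open Cfsg.Agent.Lib.Helper4Char Cfsg.Agent.Lib.Helper4Char2 Cfsg.Agent.Lib.Helper20Local
open Cfsg.Agent.Lib.Helper20Center Cfsg.Agent.Lib.Helper20Block Cfsg.Agent.Lib.Helper20Induced
open Cfsg.Agent.Lib.Helper20Avg Cfsg.Agent.Lib.Helper20Defect Cfsg.Agent.Lib.Helper87Sylow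
open Cfsg.Agent.Lib.Helper20Syl Cfsg.Agent.Lib.Helper20DefCard Cfsg.Agent.Lib.Helper20Height
open Cfsg.Agent.Lib.Helper20Conj Cfsg.Agent.Lib.Helper20BrMap Cfsg.Agent.Lib.Helper20Ideal
open Cfsg.Agent.Lib.Helper20ModHom Cfsg.Agent.Lib.Helper20Brauer Cfsg.Agent.Lib.Helper20First

variable {G : Type*} [Group G] [Fintype G] {M : Ideal Cfsg.AlgInt} {p : ℕ} [Fact p.Prime]

/-- if the Brauer map with respect to `P` does not kill the block idempotent, the block is induced
from `H`, `P C(P) ≤ H ≤ N(P)`. -/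
theorem exists_block_induced_of_coeff (hM : IsPModular p M) {P H : Subgroup G} [Fintype H]
    (hP : IsPGroup p P) (hPH : P ≤ H) (hCH : Subgroup.centralizer (P : Set G) ≤ H)
    (hHN : H ≤ Subgroup.normalizer (P : Set G))
    {B : Set (IrrCharacter G)} (hB : IsPBlock M B) {y : G}
    (hyC : y ∈ Subgroup.centralizer (P : Set G)) (hy : ¬ MemLocalIdeal M (blockCoeff B y)) :
    ∃ b : Set (IrrCharacter H), IsInducedBlock M H b B := by
  classical
  have hPr := IsPModular.isPrime hM
  have hf := isSC_blockCoeff hPr hB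
  have hz : IsSC M (brRes P H (blockCoeff B)) := brRes_isSC hPr hHN hf
  have hex : ∃ ξ : IrrCharacter H, ¬ MemLocalIdeal M
      (om (ξ : H → ℂ) (brRes P H (blockCoeff B))) := by
    by_contra hcon
    push Not at hcon
    have h1 := coeff_mem_of_idem hPr hz (fun g => by
      have h2 := brRes_conv hM hP hCH hf hf g
      rw [conv_blockCoeff_self] at h2
      have := liNeg h2
      rwa [neg_sub] at this) hcon ⟨y, hCH hyC⟩
    apply hy
    simpa only [brRes, if_pos hyC] using h1
  obtain ⟨ξ, hξ⟩ := hex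
  obtain ⟨B', hB'⟩ := Cfsg.Agent.S0919.result p M hM P H hP hPH hCH hHN _
    (isPBlock_blockOf (M := M) ξ)
  obtain ⟨χ', hχ'⟩ := IsPBlock.nonempty hPr hB'.2.1
  have h1 := isInducedBlock_om _ hPr hB' (mem_blockOf_self hPr ξ) hχ' hf
  have h2 := om_res_sub_brRes hM hP hPH hHN ξ.2 hf
  rw [om_blockCoeff] at h1
  have hmem : χ' ∈ B := by
    by_contra hcon
    rw [if_neg hcon, sub_zero] at h1
    apply hξ
    have := liSub hPr h1 h2
    rwa [sub_sub_cancel] at this
  rw [IsPBlock.eq_of_mem hPr hB hB'.2.1 hmem hχ']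
  exact ⟨_, hB'⟩

theorem cj_eq_map (x : G) (P : Subgroup G) : P.map (MulAut.conj x).toMonoidHom = cj x P := rfl

theorem mem_centralizer_cj {x y : G} {P : Subgroup G}
    (h : y ∈ Subgroup.centralizer ((cj x P : Subgroup G) : Set G)) :
    x⁻¹ * y * x ∈ Subgroup.centralizer (P : Set G) := by
  rw [Subgroup.mem_centralizer_iff] at h ⊢
  intro u hu
  have h1 := h _ (conj_mem_cj (g := x) hu)
  calc u * (x⁻¹ * y * x) = x⁻¹ * (x * u * x⁻¹ * y) * x := by group
    _ = x⁻¹ * (y * (x * u * x⁻¹)) * x := by rw [h1]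
    _ = x⁻¹ * y * x * u := by group

/-- the Brauer map with respect to `P` does not kill the block idempotent iff `P` is contained in
a defect group. -/
theorem coeff_iff_le_defectGroup (hM : IsPModular p M) {B : Set (IrrCharacter G)}
    (hB : IsPBlock M B) {D : Subgroup G} (hD : IsDefectGroup p M B D) {P : Subgroup G}
    (hP : IsPGroup p P) :
    (∃ c : G, ¬ MemLocalIdeal M (blockCoeff B c) ∧ c ∈ Subgroup.centralizer (P : Set G)) ↔
      ∃ x : G, cj x P ≤ D := by
  have hPr := IsPModular.isPrime hM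
  obtain ⟨y, hy, hS⟩ := isDefectGroup_iff.mp hD
  obtain ⟨χ, hχ⟩ := IsPBlock.nonempty hPr hB
  constructor
  · rintro ⟨c, hc, hcP⟩
    obtain ⟨x, hx⟩ := cSub_of_blockCoeff hM hB hχ (hy.2.2 χ hχ) hS hc P hP
      (le_centralizer_singleton_iff.mpr hcP)
    refine ⟨x⁻¹, ?_⟩
    rw [cj_le_iff, inv_inv]
    exact hx
  · rintro ⟨x, hx⟩
    refine ⟨x⁻¹ * y * x, ?_, ?_⟩
    · have := blockCoeff_isClassFunction B y x⁻¹
      rw [inv_inv] at this
      rw [this]
      exact hy.2.1
    · apply mem_centralizer_cj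
      exact Subgroup.centralizer_le (by exact_mod_cast hx) (le_centralizer_singleton_iff.mp hS.1)

end Cfsg.Agent.Lib.Helper20Sub
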