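import Mathlib
import Cfsg.Prelude.Def_Blocks
import Cfsg.Agent.Lib.Helper20GA
import Cfsg.Agent.Lib.Helper20Orbit

set_option autoImplicit false
set_option linter.unusedSectionVars false
set_option linter.unusedVariables false

namespace Cfsg.Agent.Lib.Helper20Tuple

open Cfsg
open Cfsg.Agent.Lib.Helper20Center Cfsg.Agent.Lib.Helper20GA Cfsg.Agent.Lib.Helper20Local
open Cfsg.Agent.Lib.Helper20Orbit

variable {G : Type*} [Group G] (u : G) {N : ℕ} [NeZero N]

/-- twisted periodic extension of a tuple. -/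
def ext (l : Fin N → G) (i : ℕ) : G := u ^ (i / N) * l (Fin.ofNat N i) * (u ^ (i / N))⁻¹

theorem ext_lt (l : Fin N → G) {i : ℕ} (h : i < N) : ext u l i = l ⟨i, h⟩ := by
  have h1 : i / N = 0 := Nat.div_eq_of_lt h
  have h2 : Fin.ofNat N i = ⟨i, h⟩ := by
    apply Fin.ext
    simp [Fin.ofNat, Nat.mod_eq_of_lt h]
  unfold ext
  rw [h1, h2]
  simp

theorem ext_add (l : Fin N → G) (i : ℕ) : ext u l (i + N) = u * ext u l i * u⁻¹ := by
  have hN : 0 < N := Nat.pos_of_ne_zero (NeZero.ne N)
  have h1 : (i + N) / N = i / N + 1 := Nat.add_div_right i hN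
  have h2 : Fin.ofNat N (i + N) = Fin.ofNat N i := by
    apply Fin.ext
    simp [Fin.ofNat]
  simp only [ext, h1, h2, pow_succ']
  group

theorem ext_add_mul (l : Fin N → G) (m q : ℕ) :
    ext u l (m + N * q) = u ^ q * ext u l m * (u ^ q)⁻¹ := by
  induction q with
  | zero => simp
  | succ q ih =>
    have : m + N * (q + 1) = (m + N * q) + N := by ring
    rw [this, ext_add, ih, pow_succ']
    group

/-- twisted rotation. -/
def rot (l : Fin N → G) : Fin N → G := fun i => ext u l (i + 1)

theorem ext_rot (l : Fin N → G) (i : ℕ) : ext u (rot u l) i = ext u l (i + 1) := by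
  have h1 : i + 1 = (i % N + 1) + N * (i / N) := by
    have := Nat.mod_add_div i N
    omega
  rw [h1, ext_add_mul]
  simp [ext, rot, Fin.ofNat]

theorem ext_rot_iter (l : Fin N → G) (k i : ℕ) : ext u ((rot u)^[k] l) i = ext u l (i + k) := by
  induction k generalizing l with
  | zero => simp
  | succ k ih =>
    rw [Function.iterate_succ_apply, ih, ext_rot]
    rw [show i + k + 1 = i + (k + 1) by omega]

theorem ext_inj {l l' : Fin N → G} (h : ∀ i, ext u l i = ext u l' i) : l = l' := by
  funext i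
  have := h i
  rwa [ext_lt u l i.2, ext_lt u l' i.2] at this

theorem rot_iter_period {m : ℕ} (hu : u ^ m = 1) (l : Fin N → G) : (rot u)^[N * m] l = l := by
  apply ext_inj u
  intro i
  rw [ext_rot_iter, ext_add_mul, hu]
  simp

/-- the twisted rotation as a permutation. -/
def rotPerm {m : ℕ} (hm : 0 < m) (hu : u ^ m = 1) : Equiv.Perm (Fin N → G) where
  toFun := rot u
  invFun := (rot u)^[N * m - 1]
  left_inv := by
    intro l
    have hN : 0 < N * m := Nat.mul_pos (Nat.pos_of_ne_zero (NeZero.ne N)) hm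
    rw [← Function.iterate_succ_apply]
    have : (N * m - 1).succ = N * m := by omega
    rw [this, rot_iter_period u hu]
  right_inv := by
    intro l
    have hN : 0 < N * m := Nat.mul_pos (Nat.pos_of_ne_zero (NeZero.ne N)) hm
    have h1 := Function.iterate_succ_apply' (rot (N := N) u) (N * m - 1) l
    have : (N * m - 1).succ = N * m := by omega
    rw [this, rot_iter_period u hu] at h1
    exact h1.symm

theorem rotPerm_pow_apply {m : ℕ} (hm : 0 < m) (hu : u ^ m = 1) (k : ℕ) (l : Fin N → G) :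
    ((rotPerm (N := N) u hm hu) ^ k) l = (rot u)^[k] l := by
  rw [← Equiv.Perm.iterate_eq_pow]
  rfl

theorem rotPerm_pow_period {m : ℕ} (hm : 0 < m) (hu : u ^ m = 1) :
    (rotPerm (N := N) u hm hu) ^ (N * m) = 1 := by
  ext1 l
  rw [rotPerm_pow_apply, rot_iter_period u hu]
  rfl

theorem ofFn_eq (l : Fin N → G) : List.ofFn l = (List.range N).map (ext u l) := by
  apply List.ext_getElem
  · simp
  · intro i h1 h2
    simp only [List.getElem_ofFn, List.getElem_map, List.getElem_range]
    have hi : i < N := by simpa using h1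
    rw [ext_lt u l hi]

theorem prod_eq (y : G → ℂ) (l : Fin N → G) :
    ∏ i, y (l i) = ∏ i ∈ Finset.range N, y (ext u l i) := by
  rw [← Fin.prod_univ_eq_prod_range (fun i => y (ext u l i)) N]
  apply Finset.prod_congr rfl
  intro i _
  rw [ext_lt u l i.2]

theorem ext_N (l : Fin N → G) : ext u l N = u * ext u l 0 * u⁻¹ := by
  have := ext_add u l 0
  rwa [zero_add] at this

theorem prod_shift (f : ℕ → ℂ) (N : ℕ) (hN : N ≠ 0) (h : f N = f 0) :
    ∏ i ∈ Finset.range N, f (i + 1) = ∏ i ∈ Finset.range N, f i := by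
  obtain ⟨N', rfl⟩ := Nat.exists_eq_succ_of_ne_zero hN
  rw [Finset.prod_range_succ, Finset.prod_range_succ' f, h]

theorem listProd_shift (f : ℕ → G) (N : ℕ) (hN : N ≠ 0) :
    ∃ A : G, ((List.range N).map (fun i => f (i + 1))).prod = A * f N ∧
      ((List.range N).map f).prod = f 0 * A := by
  obtain ⟨N', rfl⟩ := Nat.exists_eq_succ_of_ne_zero hN
  exact ⟨((List.range N').map (fun i => f (i + 1))).prod, List.prod_range_succ _ _,
    List.prod_range_succ' _ _⟩

theorem prod_rot (y : G → ℂ) (hy : ∀ g, y (u * g * u⁻¹) = y g) (l : Fin N → G) :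
    ∏ i, y (rot u l i) = ∏ i, y (l i) := by
  rw [prod_eq u, prod_eq u]
  simp only [ext_rot]
  apply prod_shift (fun i => y (ext u l i)) N (NeZero.ne N)
  simp only [ext_N, hy]

theorem listProd_rot (φ : G → ℂ) (hφ : ∀ a b, φ (a * b) = φ (b * a)) (l : Fin N → G) :
    φ ((List.ofFn (rot u l)).prod * u) = φ ((List.ofFn l).prod * u) := by
  rw [ofFn_eq u, ofFn_eq u]
  have e : ext u (rot u l) = fun i => ext u l (i + 1) := by
    funext i; exact ext_rot u l i
  obtain ⟨A, h3, h4⟩ := listProd_shift (ext u l) N (NeZero.ne N)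
  rw [e, h3, h4, ext_N]
  have : A * (u * ext u l 0 * u⁻¹) * u = (A * u) * ext u l 0 := by group
  rw [this, hφ, mul_assoc]

end Cfsg.Agent.Lib.Helper20Tuple
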