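import Mathlib
import Cfsg.Prelude.Def_Blocks
import Cfsg.Agent.Lib.Helper20Tuple

set_option autoImplicit false
set_option linter.unusedSectionVars false
set_option linter.unusedVariables false

namespace Cfsg.Agent.Lib.Helper20Frob

open Cfsg
open Cfsg.Agent.Lib.Helper20Center Cfsg.Agent.Lib.Helper20GA Cfsg.Agent.Lib.Helper20Local
open Cfsg.Agent.Lib.Helper20Orbit Cfsg.Agent.Lib.Helper20Tuple

variable {G : Type*} [Group G]

theorem rot_one_const {N : ℕ} [NeZero N] (g : G) :
    rot (N := N) 1 (fun _ => g) = fun _ => g := by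
  funext i
  simp [rot, ext]

theorem const_of_rot_one {N : ℕ} [NeZero N] {l : Fin N → G} (h : rot 1 l = l) :
    l = fun _ => l 0 := by
  have h1 : ∀ i : ℕ, ext 1 l (i + 1) = ext 1 l i := by
    intro i
    rw [← ext_rot, h]
  have h2 : ∀ i : ℕ, ext 1 l i = ext 1 l 0 := by
    intro i
    induction i with
    | zero => rfl
    | succ i ih => rw [h1, ih]
  funext i
  have h3 := h2 i
  rw [ext_lt 1 l i.2, ext_lt 1 l (Nat.pos_of_ne_zero (NeZero.ne N))] at h3
  exact h3

variable [Fintype G] {M : Ideal Cfsg.AlgInt} {p : ℕ} [Fact p.Prime]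

/-- the Frobenius congruence in the group algebra modulo commutators. -/
theorem ev_pow_prime_pow (hM : IsPModular p M) (n : ℕ) (y : GA G)
    (hy : ∀ g, MemLocalRing M (y g)) (F : G → ℂ) (hF : ∀ g, MemLocalRing M (F g))
    (hFc : ∀ a b, F (a * b) = F (b * a)) :
    MemLocalIdeal M (ev F (y ^ (p ^ n)) - ∑ g, y g ^ (p ^ n) * F (g ^ (p ^ n))) := by
  classical
  have hPr := IsPModular.isPrime hM
  have hp : p.Prime := Fact.out
  haveI : NeZero (p ^ n) := ⟨pow_ne_zero n hp.ne_zero⟩
  set R := rotPerm (N := p ^ n) (1 : G) (m := 1) one_pos (pow_one 1) with hRdef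
  have hRapp : ∀ l, R l = rot 1 l := fun l => rfl
  have hR : R ^ (p ^ n) = 1 := by
    have := rotPerm_pow_period (N := p ^ n) (1 : G) (m := 1) one_pos (pow_one 1)
    rwa [mul_one] at this
  set W : (Fin (p ^ n) → G) → ℂ := fun l => (∏ i, y (l i)) * F (List.ofFn l).prod with hW
  have hinv : ∀ l, W (R l) = W l := by
    intro l
    have h1 := prod_rot (N := p ^ n) (1 : G) y (by intro g; simp) l
    have h2 := listProd_rot (N := p ^ n) (1 : G) F hFc l
    simp only [mul_one] at h2
    simp only [hW, hRapp, h1, h2]
  have hS : ∀ l, MemLocalRing M (W l) := fun l =>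
    lrMul hPr (lrProd hPr _ _ (fun i _ => hy _)) (hF _)
  obtain ⟨r, hr, hsum⟩ := sum_mem_of_perm hPr R n 0 hR (fun l => if R l = l then 0 else W l)
    (by
      intro l
      have : R (R l) = R l ↔ R l = l := R.injective.eq_iff
      simp only [this, hinv])
    (by
      intro l
      split_ifs
      · exact memLocalRing_zero hPr
      · exact hS l)
    (by
      intro l hl
      simp only [pow_zero, pow_one]
      intro h
      simp [h] at hl)
  have hfix : ∑ l, (if R l = l then W l else 0) = ∑ g, y g ^ (p ^ n) * F (g ^ (p ^ n)) := by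
    rw [← Finset.sum_filter]
    have himg : Finset.univ.filter (fun l : Fin (p ^ n) → G => R l = l)
        = Finset.univ.image (fun g : G => (fun _ : Fin (p ^ n) => g)) := by
      ext l
      simp only [Finset.mem_filter, Finset.mem_univ, true_and, Finset.mem_image]
      constructor
      · intro h
        exact ⟨l 0, (const_of_rot_one h).symm⟩
      · rintro ⟨g, rfl⟩
        exact rot_one_const g
    rw [himg, Finset.sum_image]
    · apply Finset.sum_congr rfl
      intro g _
      simp only [hW, Finset.prod_const, Finset.card_univ, Fintype.card_fin, List.ofFn_const,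
        List.prod_replicate]
    · intro a _ b _ h
      exact congrFun h 0
  rw [ev_pow, ← hfix, ← Finset.sum_sub_distrib]
  have e : ∀ l, W l - (if R l = l then W l else 0) = if R l = l then 0 else W l := by
    intro l
    split_ifs <;> simp
  rw [Finset.sum_congr rfl (fun l _ => e l), hsum]
  refine liMulRight hPr ?_ hr
  simpa using memLocalIdeal_p hM

end Cfsg.Agent.Lib.Helper20Frob
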