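import Mathlib
import Cfsg.Prelude.Def_Blocks
import Cfsg.Agent.Lib.Helper20Frob
import Cfsg.Agent.Lib.Helper20ModHom

set_option autoImplicit false
set_option linter.unusedSectionVars false
set_option linter.unusedVariables false

namespace Cfsg.Agent.Lib.Helper20ZS

open Cfsg
open Cfsg.Agent.Lib.Helper4Char Cfsg.Agent.Lib.Helper4Char2
open Cfsg.Agent.Lib.Helper20Center Cfsg.Agent.Lib.Helper20GA Cfsg.Agent.Lib.Helper20Local
open Cfsg.Agent.Lib.Helper20Block Cfsg.Agent.Lib.Helper20Ideal Cfsg.Agent.Lib.Helper20ModHom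
open Cfsg.Agent.Lib.Helper20Frob

variable {G : Type*} [Group G] [Fintype G] {M : Ideal Cfsg.AlgInt}

/-- the centre of the local group ring, as a subring of the group algebra. -/
def ZS (hM : M.IsPrime) : Subring (GA G) where
  carrier := {a | IsSC M a}
  mul_mem' := fun ha hb => IsSC.conv hM ha hb
  one_mem' := isSC_delta hM
  add_mem' := fun ha hb => IsSC.add hM ha hb
  zero_mem' := ⟨fun _ _ => rfl, fun _ => memLocalRing_zero hM⟩
  neg_mem' := by
    intro a ha
    refine ⟨fun g h => ?_, fun g => ?_⟩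
    · change -(a (h * g * h⁻¹)) = -(a g)
      rw [ha.1 g h]
    · exact lrNeg (ha.2 g)

theorem mem_ZS (hM : M.IsPrime) {a : GA G} : a ∈ ZS hM ↔ IsSC M a := Iff.rfl

theorem isSC_pow (hM : M.IsPrime) {a : GA G} (ha : IsSC M a) (k : ℕ) : IsSC M (a ^ k : GA G) :=
  (ZS hM).pow_mem ha k

theorem omVec_pow (hM : M.IsPrime) {a : GA G} (ha : IsSC M a) (k : ℕ) :
    omVec (a ^ k : GA G) = (omVec a) ^ k := by
  induction k with
  | zero => rw [pow_zero, pow_zero, one_def, omVec_delta]
  | succ k ih =>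
    rw [pow_succ, pow_succ, mul_def, omVec_conv (isSC_pow hM ha k).1 ha.1, ih]

theorem natCast_mul_apply (n : ℕ) (a : GA G) (g : G) : ((n : GA G) * a) g = (n : ℂ) * a g := by
  rw [← nsmul_eq_mul]
  change n • (a g) = _
  rw [nsmul_eq_mul]

/-- powers of an element killed modulo the ideal by all central characters eventually have all
coefficients in the ideal. -/
theorem exists_pow_mem (hM : M.IsPrime) {a : GA G} (ha : IsSC M a)
    (h : ∀ χ : IrrCharacter G, MemLocalIdeal M (om (χ : G → ℂ) a)) :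
    ∃ k₀ : ℕ, ∀ k, k₀ ≤ k → ∀ g, MemLocalIdeal M ((a ^ k : GA G) g) := by
  obtain ⟨k₀, hk⟩ := exists_pow_inJ_true hM (v := omVec a) ⟨a, ha, rfl⟩ h
  refine ⟨k₀, fun k hk₀ g => ?_⟩
  obtain ⟨t, rfl⟩ := Nat.exists_eq_add_of_le hk₀
  obtain ⟨b, hb, hb2, hb3⟩ := hk.mul_right hM (isIdealSet_true hM)
    (InZ.pow hM (v := omVec a) ⟨a, ha, rfl⟩ t)
  have : (a ^ (k₀ + t) : GA G) = b := by
    apply omVec_injective (isSC_pow hM ha _).1 hb.1
    rw [omVec_pow hM ha, hb3, pow_add]
  rw [this]
  exact hb2 g trivial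

/-- Frobenius for sums in the centre of the local group ring. -/
theorem add_pow_sub_mem {p : ℕ} [Fact p.Prime] (hM : IsPModular p M) {a b : GA G}
    (ha : IsSC M a) (hb : IsSC M b) (n : ℕ) (g : G) :
    MemLocalIdeal M (((a + b) ^ (p ^ n) : GA G) g - (a ^ (p ^ n) : GA G) g
      - (b ^ (p ^ n) : GA G) g) := by
  have hPr := IsPModular.isPrime hM
  have hc : Commute (⟨a, ha⟩ : ZS (G := G) hPr) ⟨b, hb⟩ := by
    apply Subtype.ext
    exact commute_of_class ha.1 b
  obtain ⟨r, hr⟩ := hc.exists_add_pow_prime_pow_eq (Fact.out : p.Prime) n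
  have h1 := congrArg Subtype.val hr
  simp only [Subring.coe_add, Subring.coe_pow, Subring.coe_mul, Subring.coe_natCast] at h1
  rw [h1, mul_assoc, mul_assoc, Helper20GA.add_apply, Helper20GA.add_apply, natCast_mul_apply]
  have h2 : IsSC M (a * (b * (r : GA G)) : GA G) :=
    (ZS hPr).mul_mem ha ((ZS hPr).mul_mem hb r.2)
  have := liMulRight hPr (memLocalIdeal_p hM) (h2.2 g)
  convert this using 1
  ring

theorem smul_idem_pow {e : GA G} (he : e * e = e) (c : ℂ) (k : ℕ) :
    ((c • e) ^ (k + 1) : GA G) = (c ^ (k + 1)) • e := by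
  induction k with
  | zero => simp
  | succ k ih =>
    rw [pow_succ, ih, smul_mul, mul_smul', he, pow_succ (c) (k + 1)]
    funext g
    simp only [Helper20GA.smul_apply]
    ring

theorem ev_delta (a : GA G) : ev delta a = a 1 := by
  classical
  simp only [ev, delta]
  rw [Finset.sum_eq_single 1]
  · simp
  · intro b _ hb; simp [hb]
  · intro h; exact absurd (Finset.mem_univ _) h

end Cfsg.Agent.Lib.Helper20ZS
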