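import Mathlib
import Cfsg.Prelude.Def_Blocks
import Cfsg.Agent.Lib.Helper20Sub
import Cfsg.Agent.Lib.Helper20ZS
import Cfsg.Agent.Lib.Helper80Pairs

set_option autoImplicit false
set_option linter.unusedSectionVars false
set_option linter.unusedVariables false

namespace Cfsg.Agent.Lib.Helper20Sub2

open Cfsg
open Cfsg.Agent.Lib.Helper4Char Cfsg.Agent.Lib.Helper4Char2 Cfsg.Agent.Lib.Helper20Local
open Cfsg.Agent.Lib.Helper20Center Cfsg.Agent.Lib.Helper20Block Cfsg.Agent.Lib.Helper20Induced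
open Cfsg.Agent.Lib.Helper20Avg Cfsg.Agent.Lib.Helper20Defect Cfsg.Agent.Lib.Helper87Sylow
open Cfsg.Agent.Lib.Helper20Syl Cfsg.Agent.Lib.Helper20DefCard Cfsg.Agent.Lib.Helper20Height
open Cfsg.Agent.Lib.Helper20Conj Cfsg.Agent.Lib.Helper20BrMap Cfsg.Agent.Lib.Helper20Ideal
open Cfsg.Agent.Lib.Helper20ModHom Cfsg.Agent.Lib.Helper20Brauer Cfsg.Agent.Lib.Helper20First
open Cfsg.Agent.Lib.Helper20Sub Cfsg.Agent.Lib.Helper20GA Cfsg.Agent.Lib.Helper20ZS
open Cfsg.Agent.Lib.Helper80Pairs

section Idem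

variable {X : Type*} [Group X] [Fintype X] {M : Ideal Cfsg.AlgInt}

/-- a central element, idempotent modulo the ideal, with a unit coefficient at `y`: some block
idempotent "below" it has a unit coefficient at `y`. -/
theorem exists_block_of_idem (hM : M.IsPrime) {z : X → ℂ} (hz : IsSC M z)
    (hid : ∀ g, MemLocalIdeal M (conv z z g - z g)) {y : X} (hy : ¬ MemLocalIdeal M (z y)) :
    ∃ b : Set (IrrCharacter X), IsPBlock M b ∧
      (∀ ξ ∈ b, MemLocalIdeal M (om (ξ : X → ℂ) z - 1)) ∧ ¬ MemLocalIdeal M (blockCoeff b y) := by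
  classical
  have h1 : ∃ b : Blk M X, ¬ MemLocalIdeal M (conv z (blockCoeff b.1) y) := by
    by_contra hcon
    push Not at hcon
    apply hy
    have e : z y = ∑ b : Blk M X, conv z (blockCoeff b.1) y := by
      have e1 : z = conv z delta := (conv_delta z).symm
      conv_lhs => rw [e1, ← sum_blockCoeff hM]
      simp only [conv, Finset.sum_apply, Finset.mul_sum]
      rw [Finset.sum_comm]
    rw [e]
    exact liSum hM _ _ (fun b _ => hcon b)
  obtain ⟨⟨b, hb⟩, hby⟩ := h1
  simp only at hby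
  have hf := isSC_blockCoeff hM hb
  have hff : conv (blockCoeff b) (blockCoeff b) = blockCoeff b := conv_blockCoeff_self b
  -- work in the group algebra
  set Z : GA X := z with hZ
  set F : GA X := blockCoeff b with hF
  have hFF : F * F = F := hff
  have hcomm : F * Z = Z * F := (commute_of_class hf.1 Z).eq
  have hu : IsSC M (Z * F : GA X) := hz.conv hM hf
  have huu : (Z * F) * (Z * F) = (Z * Z) * F := by
    calc (Z * F) * (Z * F) = Z * (F * Z) * F := by simp only [mul_assoc]
      _ = Z * (Z * F) * F := by rw [hcomm]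
      _ = (Z * Z) * (F * F) := by simp only [mul_assoc]
      _ = (Z * Z) * F := by rw [hFF]
  have hdiff : ∀ g, MemLocalIdeal M (((Z * Z - Z) * F : GA X) g) := fun g =>
    conv_mem_left hM (a := (Z * Z - Z : GA X)) hid hf.2 g
  have huid : ∀ g, MemLocalIdeal M (conv (Z * F : GA X) (Z * F : GA X) g - (Z * F : GA X) g) := by
    intro g
    have : conv (Z * F : GA X) (Z * F : GA X) g - (Z * F : GA X) g = ((Z * Z - Z) * F : GA X) g := by
      change (((Z * F) * (Z * F) : GA X) - (Z * F : GA X)) g = _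
      rw [huu, sub_mul]
    rw [this]; exact hdiff g
  have homu : ∀ ξ : IrrCharacter X, om (ξ : X → ℂ) (Z * F : GA X)
      = om (ξ : X → ℂ) z * (if ξ ∈ b then 1 else 0) := by
    intro ξ
    have := om_conv ξ.2 hz.1 hf.1
    rw [om_blockCoeff] at this
    exact this
  have h2 : ∃ ξ : IrrCharacter X, ¬ MemLocalIdeal M (om (ξ : X → ℂ) (Z * F : GA X)) := by
    by_contra hcon
    push Not at hcon
    exact hby (coeff_mem_of_idem hM hu huid hcon y)
  obtain ⟨ξ, hξ⟩ := h2
  rw [homu] at hξ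
  have hξb : ξ ∈ b := by
    by_contra hcon
    rw [if_neg hcon, mul_zero] at hξ
    exact hξ (memLocalIdeal_zero hM)
  rw [if_pos hξb, mul_one] at hξ
  have hone : ∀ ξ' ∈ b, MemLocalIdeal M (om (ξ' : X → ℂ) z - 1) := by
    intro ξ' hξ'
    have a1 : MemLocalIdeal M (om (ξ : X → ℂ) (conv z z - z)) :=
      om_mem_ideal hM ξ.2 (IsClassFunction.sub (conv_isClassFunction hz.1 hz.1) hz.1) hid
    rw [om_sub, om_conv ξ.2 hz.1 hz.1] at a1
    have a2 : MemLocalIdeal M (om (ξ : X → ℂ) z * (om (ξ : X → ℂ) z - 1)) := by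
      convert a1 using 1; ring
    have a3 := (liOfMul hM (om_mem hM ξ.2 hz)
      (lrSub hM (om_mem hM ξ.2 hz) (memLocalRing_one hM)) a2).resolve_left hξ
    have a4 := sameBlock_om hM ξ'.2 ξ.2 (IsPBlock.sameBlock hM hb hξ' hξb) hz
    have := liAdd hM a4 a3
    rwa [sub_add_sub_cancel] at this
  refine ⟨b, hb, hone, ?_⟩
  -- `F - Z F` is zero modulo the ideal
  have hv : IsSC M (F - Z * F : GA X) := hf.sub hM hu
  have hFu : F * (Z * F) = Z * F := by
    rw [← mul_assoc, hcomm, mul_assoc, hFF]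
  have huF : (Z * F) * F = Z * F := by rw [mul_assoc, hFF]
  have hvv : (F - Z * F) * (F - Z * F) - (F - Z * F) = (Z * Z - Z) * F := by
    rw [sub_mul, mul_sub, mul_sub, hFF, hFu, huF, huu, sub_mul]
    abel
  have hvid : ∀ g, MemLocalIdeal M
      (conv (F - Z * F : GA X) (F - Z * F : GA X) g - (F - Z * F : GA X) g) := by
    intro g
    have : conv (F - Z * F : GA X) (F - Z * F : GA X) g - (F - Z * F : GA X) g
        = ((Z * Z - Z) * F : GA X) g := by
      change (((F - Z * F) * (F - Z * F) : GA X) - (F - Z * F : GA X)) g = _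
      rw [hvv]
    rw [this]; exact hdiff g
  have homv : ∀ ξ' : IrrCharacter X, MemLocalIdeal M (om (ξ' : X → ℂ) (F - Z * F : GA X)) := by
    intro ξ'
    have e : om (ξ' : X → ℂ) (F - Z * F : GA X)
        = om (ξ' : X → ℂ) (blockCoeff b) - om (ξ' : X → ℂ) (Z * F : GA X) :=
      om_sub (ξ' : X → ℂ) F (Z * F : GA X)
    rw [e, homu, om_blockCoeff]
    by_cases h : ξ' ∈ b
    · rw [if_pos h, mul_one]
      have := liNeg (hone ξ' h)
      rwa [neg_sub] at this
    · rw [if_neg h, mul_zero, sub_zero]; exact memLocalIdeal_zero hM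
  have h3 := coeff_mem_of_idem hM hv hvid homv y
  intro hcon
  apply hby
  have := liSub hM hcon h3
  have e : blockCoeff b y - (F - Z * F : GA X) y = conv z (blockCoeff b) y := by
    change F y - (F y - (Z * F : GA X) y) = _
    rw [sub_sub_cancel]; rfl
  rwa [e] at this

end Idem

variable {G : Type*} [Group G] [Fintype G] {M : Ideal Cfsg.AlgInt} {p : ℕ} [Fact p.Prime]

/-- refinement of `exists_block_induced_of_coeff`: the local block can be chosen with a unit
coefficient at the given element. -/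
theorem exists_block_induced_coeff (hM : IsPModular p M) {P H : Subgroup G} [Fintype H]
    (hP : IsPGroup p P) (hPH : P ≤ H) (hCH : Subgroup.centralizer (P : Set G) ≤ H)
    (hHN : H ≤ Subgroup.normalizer (P : Set G))
    {B : Set (IrrCharacter G)} (hB : IsPBlock M B) {y : G}
    (hyC : y ∈ Subgroup.centralizer (P : Set G)) (hy : ¬ MemLocalIdeal M (blockCoeff B y)) :
    ∃ b : Set (IrrCharacter H), IsInducedBlock M H b B ∧
      ¬ MemLocalIdeal M (blockCoeff b ⟨y, hCH hyC⟩) := by
  classical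
  have hPr := IsPModular.isPrime hM
  have hf := isSC_blockCoeff hPr hB
  have hz : IsSC M (brRes P H (blockCoeff B)) := brRes_isSC hPr hHN hf
  obtain ⟨b, hb, hone, hby⟩ := exists_block_of_idem hPr hz (fun g => by
      have h2 := brRes_conv hM hP hCH hf hf g
      rw [conv_blockCoeff_self] at h2
      have := liNeg h2
      rwa [neg_sub] at this) (y := ⟨y, hCH hyC⟩) (by simpa only [brRes, if_pos hyC] using hy)
  refine ⟨b, ?_, hby⟩
  obtain ⟨ξ, hξ⟩ := IsPBlock.nonempty hPr hb
  obtain ⟨B', hB'⟩ := Cfsg.Agent.S0919.result p M hM P H hP hPH hCH hHN b hb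
  obtain ⟨χ', hχ'⟩ := IsPBlock.nonempty hPr hB'.2.1
  have h1 := isInducedBlock_om _ hPr hB' hξ hχ' hf
  have h2 := om_res_sub_brRes hM hP hPH hHN ξ.2 hf
  rw [om_blockCoeff] at h1
  have hmem : χ' ∈ B := by
    by_contra hcon
    rw [if_neg hcon, sub_zero] at h1
    have h3 := liSub hPr (liSub hPr h1 h2) (hone ξ hξ)
    rw [sub_sub_cancel, sub_sub_cancel] at h3
    exact not_memLocalIdeal_one hPr h3
  rw [IsPBlock.eq_of_mem hPr hB hB'.2.1 hmem hχ']
  exact hB'

end Cfsg.Agent.Lib.Helper20Sub2
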