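import Mathlib
import Cfsg.Prelude.Def_Blocks
import Cfsg.Agent.Lib.Helper20Sub2

set_option autoImplicit false
set_option linter.unusedSectionVars false
set_option linter.unusedVariables false

namespace Cfsg.Agent.Lib.Helper20Major

open Cfsg
open Cfsg.Agent.Lib.Helper4Char Cfsg.Agent.Lib.Helper4Char2 Cfsg.Agent.Lib.Helper20Local
open Cfsg.Agent.Lib.Helper20Center Cfsg.Agent.Lib.Helper20Block Cfsg.Agent.Lib.Helper20Induced
open Cfsg.Agent.Lib.Helper20Avg Cfsg.Agent.Lib.Helper20Defect Cfsg.Agent.Lib.Helper87Sylow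
open Cfsg.Agent.Lib.Helper20Syl Cfsg.Agent.Lib.Helper20DefCard Cfsg.Agent.Lib.Helper20Height
open Cfsg.Agent.Lib.Helper20Conj Cfsg.Agent.Lib.Helper20BrMap Cfsg.Agent.Lib.Helper20Ideal
open Cfsg.Agent.Lib.Helper20ModHom Cfsg.Agent.Lib.Helper20Brauer Cfsg.Agent.Lib.Helper20First
open Cfsg.Agent.Lib.Helper20Sub Cfsg.Agent.Lib.Helper20Sub2

variable {G : Type*} [Group G] [Fintype G] {M : Ideal Cfsg.AlgInt} {p : ℕ} [Fact p.Prime]

/-- the induced block is unique. -/
theorem induced_block_unique (hM : M.IsPrime) {H : Subgroup G} {b : Set (IrrCharacter H)}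
    {B B' : Set (IrrCharacter G)} (h : IsInducedBlock M H b B) (h' : IsInducedBlock M H b B') :
    B = B' := by
  obtain ⟨ξ, hξ⟩ := IsPBlock.nonempty hM h.1
  obtain ⟨χ, hχ⟩ := IsPBlock.nonempty hM h.2.1
  obtain ⟨χ', hχ'⟩ := IsPBlock.nonempty hM h'.2.1
  have hs : SameBlock M (χ : G → ℂ) (χ' : G → ℂ) := by
    intro g
    have := liSub hM (h'.2.2 ξ hξ χ' hχ' g) (h.2.2 ξ hξ χ hχ g)
    rwa [sub_sub_sub_cancel_left] at this
  exact IsPBlock.eq_of_mem hM h.2.1 h'.2.1 (IsPBlock.mem_of_sameBlock hM h.2.1 hχ hs) hχ'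

theorem pow_le_pow_iff' {a b : ℕ} : p ^ a ≤ p ^ b ↔ a ≤ b :=
  Nat.pow_le_pow_iff_right (Fact.out : p.Prime).one_lt

theorem blockDefect_le_of_induced (hM : IsPModular p M) (H : Subgroup G) [Fintype H]
    {b : Set (IrrCharacter H)} {B : Set (IrrCharacter G)} (hind : IsInducedBlock M H b B) :
    blockDefect p b ≤ blockDefect p B := by
  obtain ⟨D, hD⟩ := exists_defectGroup hM hind.1
  obtain ⟨E, hE, hle⟩ := defectGroup_le_of_induced H hM hind hD
  have h1 := Subgroup.card_le_of_le hle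
  rw [Subgroup.card_map_of_injective H.subtype_injective, card_defectGroup hM hind.1 hD,
    card_defectGroup hM hind.2.1 hE] at h1
  exact pow_le_pow_iff'.mp h1

/-- "major subsections": if `P ≤ Z(D)` for a defect group `D` of `B`, some block of `H`
(`P C(P) ≤ H ≤ N(P)`) inducing `B` has defect group `D`. -/
theorem exists_block_induced_defectGroup (hM : IsPModular p M) {P H : Subgroup G} [Fintype H]
    (hP : IsPGroup p P) (hPH : P ≤ H) (hCH : Subgroup.centralizer (P : Set G) ≤ H)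
    (hHN : H ≤ Subgroup.normalizer (P : Set G))
    {B : Set (IrrCharacter G)} (hB : IsPBlock M B) {D : Subgroup G}
    (hD : IsDefectGroup p M B D) (hPD : P ≤ D) (hDC : D ≤ Subgroup.centralizer (P : Set G)) :
    ∃ b : Set (IrrCharacter H), IsInducedBlock M H b B ∧
      IsDefectGroup p M b (D.subgroupOf H) := by
  have hPr := IsPModular.isPrime hM
  obtain ⟨y₀, hy₀, hS⟩ := isDefectGroup_iff.mp hD
  have hDH : D ≤ H := hDC.trans hCH
  have hyC : y₀ ∈ Subgroup.centralizer (P : Set G) :=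
    le_centralizer_singleton_iff.mp (hPD.trans hS.1)
  obtain ⟨b, hb, hby⟩ := exists_block_induced_coeff hM hP hPH hCH hHN hB hyC hy₀.2.1
  refine ⟨b, hb, ?_⟩
  obtain ⟨Q, hQ⟩ := exists_defectGroup hM hb.1
  obtain ⟨y₁, hy₁, hS₁⟩ := isDefectGroup_iff.mp hQ
  obtain ⟨ξ, hξ⟩ := IsPBlock.nonempty hPr hb.1
  have hDp : IsPGroup p (D.subgroupOf H) :=
    hS.isPGroup.of_equiv (Subgroup.subgroupOfEquivOfLe hDH).symm
  have hDle : D.subgroupOf H ≤ Subgroup.centralizer ({(⟨y₀, hCH hyC⟩ : H)} : Set H) := by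
    rw [centralizer_singleton_subgroupOf]
    intro d hd
    exact hS.1 hd
  obtain ⟨x, hx⟩ := cSub_of_blockCoeff hM hb.1 hξ (hy₁.2.2 ξ hξ) hS₁ hby _ hDp hDle
  have hcard : Nat.card (cj x Q) ≤ Nat.card (D.subgroupOf H) := by
    rw [card_cj, card_subgroupOf_of_le hDH, card_defectGroup hM hb.1 hQ, card_defectGroup hM hB hD]
    exact pow_le_pow_iff'.mpr (blockDefect_le_of_induced hM H hb)
  rw [Subgroup.eq_of_le_of_card_ge hx hcard]
  exact isDefectGroup_cj hQ x

section Zpowers

omit [Fintype G] in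
theorem centralizer_singleton_le_zpowers (y : G) :
    Subgroup.centralizer ({y} : Set G)
      ≤ Subgroup.centralizer ((Subgroup.zpowers y : Subgroup G) : Set G) := by
  intro c hc
  rw [Subgroup.mem_centralizer_singleton_iff] at hc
  rw [Subgroup.mem_centralizer_iff]
  rintro _ ⟨k, rfl⟩
  have h1 : Commute c y := hc
  exact (h1.zpow_right k).eq.symm

omit [Fintype G] in
theorem centralizer_zpowers_le (y : G) :
    Subgroup.centralizer ((Subgroup.zpowers y : Subgroup G) : Set G)
      ≤ Subgroup.centralizer ({y} : Set G) :=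
  Subgroup.centralizer_le (by
    intro x hx
    rw [Set.mem_singleton_iff] at hx
    rw [hx]
    exact Subgroup.mem_zpowers y)

omit [Fintype G] in
theorem zpowers_le_centralizer (y : G) :
    Subgroup.zpowers y ≤ Subgroup.centralizer ({y} : Set G) := by
  rw [Subgroup.zpowers_le, Subgroup.mem_centralizer_singleton_iff]

theorem centralizer_singleton_le_normalizer (y : G) :
    Subgroup.centralizer ({y} : Set G)
      ≤ Subgroup.normalizer ((Subgroup.zpowers y : Subgroup G) : Set G) :=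
  (centralizer_singleton_le_zpowers y).trans (centralizer_le_normalizer' _)

omit [Fintype G] in
theorem isPGroup_zpowers {y : G} {k : ℕ} (h : orderOf y = p ^ k) :
    IsPGroup p (Subgroup.zpowers y) := by
  apply IsPGroup.of_card (n := k)
  rw [Nat.card_zpowers, h]

end Zpowers

end Cfsg.Agent.Lib.Helper20Major
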