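import Mathlib
import Cfsg.Prelude.Def_Blocks
import Cfsg.Agent.Lib.Helper20First
import Cfsg.Agent.Lib.Helper20Syl
import Cfsg.Agent.Lib.Helper21Cover2
import Cfsg.Agent.Lib.Helper21FR
import Cfsg.Agent.Lib.Helper80Supp

set_option autoImplicit false
set_option linter.unusedSectionVars false
set_option linter.unusedVariables false

/-! Green's theorem: defect groups are Sylow intersections.

Proof: reduce to `N_G(D)` by the first main theorem.  For a block idempotent `e = ∑ a(g) g` of a
group `H` and a Sylow subgroup `Q`, the matrix `(∑_{s ∈ Q} a(x⁻¹ y s))` indexed by `H ⧸ Q` is a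
nonzero idempotent over the local ring, so not all of its entries are in the maximal ideal. -/

namespace Cfsg.Agent.Lib.Helper25Green

open Cfsg
open Cfsg.Agent.Lib.Helper87Sylow Cfsg.Agent.Lib.Helper81Local Cfsg.Agent.Lib.Helper20Center
open Cfsg.Agent.Lib.Helper20Block Cfsg.Agent.Lib.Helper20Defect Cfsg.Agent.Lib.Helper20Orbit

theorem idem_zero {A : Type*} [CommRing A] [IsLocalRing A] {Ω : Type*} [Fintype Ω] [DecidableEq Ω]
    (E : Matrix Ω Ω A) (hE : E * E = E) (hm : ∀ i j, E i j ∈ IsLocalRing.maximalIdeal A) :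
    E = 0 := by
  have h1 : (IsLocalRing.residue A).mapMatrix (1 - E) = 1 := by
    ext i j
    rw [RingHom.mapMatrix_apply, Matrix.map_apply, Matrix.sub_apply, map_sub,
      (IsLocalRing.residue_eq_zero_iff _).mpr (hm i j), sub_zero, Matrix.one_apply, Matrix.one_apply]
    split_ifs <;> simp
  have h2 : IsLocalRing.residue A (1 - E).det = 1 := by
    rw [RingHom.map_det, h1, Matrix.det_one]
  have h3 : IsUnit (1 - E).det := by
    by_contra h
    have h4 := (IsLocalRing.residue_eq_zero_iff _).mpr ((IsLocalRing.mem_maximalIdeal _).mpr h)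
    rw [h2] at h4
    exact one_ne_zero h4
  have h4 : IsUnit (1 - E) := (Matrix.isUnit_iff_isUnit_det _).mpr h3
  have h5 : E * (1 - E) = 0 := by rw [mul_sub, mul_one, hE, sub_self]
  exact (h4.mul_left_eq_zero).mp h5

variable {H : Type*} [Group H] [Fintype H] {M : Ideal AlgInt} {p : ℕ} [Fact p.Prime]

theorem al_mul_right (Q : Subgroup H) [Fintype Q] (a : H → ℂ) (g : H) (t : Q) :
    ∑ s : Q, a (g * t * s) = ∑ s : Q, a (g * s) := by
  apply Fintype.sum_equiv (Equiv.mulLeft t)
  intro s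
  simp [mul_assoc]

theorem al_mul_left (Q : Subgroup H) [Fintype Q] {a : H → ℂ} (ha : IsClassFunction H a) (g : H)
    (t : Q) : ∑ s : Q, a (t * g * s) = ∑ s : Q, a (g * s) := by
  apply Fintype.sum_equiv (Equiv.mulRight t)
  intro s
  have h := ha (g * s * t) t
  simp only [Equiv.coe_mulRight, Subgroup.coe_mul]
  rw [← mul_assoc g, ← h]
  congr 1
  group

theorem conv_shift {a : H → ℂ} (hid : conv a a = a) (u w : H) :
    ∑ h, a (u * h) * a (h⁻¹ * w) = a (u * w) := by
  refine Eq.trans ?_ (congrFun hid (u * w))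
  show ∑ h, a (u * h) * a (h⁻¹ * w) = ∑ x, a x * a (x⁻¹ * (u * w))
  apply Fintype.sum_equiv (Equiv.mulLeft u)
  intro h
  simp [mul_assoc]

theorem al_conv (Q : Subgroup H) [Fintype Q] {a : H → ℂ} (ha : IsClassFunction H a)
    (hid : conv a a = a) (u w : H) :
    ∑ h : H, (∑ s : Q, a (u * h * s)) * (∑ t : Q, a (h⁻¹ * w * t))
      = (Nat.card Q : ℂ) * ∑ t : Q, a (u * w * t) := by
  have h1 : ∀ s : Q, ∑ h : H, a (u * h * s) * (∑ t : Q, a (h⁻¹ * w * t))
      = ∑ t : Q, a (u * w * t) := by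
    intro s
    have e1 : ∑ h : H, a (u * h * s) * (∑ t : Q, a (h⁻¹ * w * t))
        = ∑ h : H, a (u * h) * (∑ t : Q, a (h⁻¹ * w * t)) := by
      apply Fintype.sum_equiv (Equiv.mulRight (s : H))
      intro h
      simp only [Equiv.coe_mulRight, mul_inv_rev]
      rw [mul_assoc u h s]
      congr 1
      have := al_mul_left Q ha (h⁻¹ * w) s⁻¹
      rw [← this]
      apply Finset.sum_congr rfl
      intro t _
      simp [mul_assoc]
    rw [e1]
    simp only [Finset.mul_sum]
    rw [Finset.sum_comm]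
    apply Finset.sum_congr rfl
    intro t _
    have := conv_shift hid u (w * t)
    simpa [mul_assoc] using this
  simp only [Finset.sum_mul]
  rw [Finset.sum_comm]
  rw [Finset.sum_congr rfl (fun s _ => h1 s)]
  rw [Finset.sum_const, Finset.card_univ, nsmul_eq_mul, Nat.card_eq_fintype_card]

theorem exists_al_not_mem (hM : IsPModular p M) {a : H → ℂ} (hcl : IsClassFunction H a)
    (hloc : ∀ g, MemLocalRing M (a g)) (hid : conv a a = a) (Q : Subgroup H) [Fintype Q]
    (hne : ∑ s : Q, a s ≠ 0) : ∃ g : H, ¬ MemLocalIdeal M (∑ s : Q, a (g * s)) := by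
  classical
  have hPr := IsPModular.isPrime hM
  by_contra hcon
  push Not at hcon
  have hαloc : ∀ g, MemLocalRing M (∑ s : Q, a (g * s)) :=
    fun g => memLocalRing_sum _ _ (fun s _ => hloc _)
  let E : Matrix (H ⧸ Q) (H ⧸ Q) (Rt M) := fun x y => ⟨∑ s : Q, a (x.out⁻¹ * y.out * s), hαloc _⟩
  have hcard : (Nat.card Q : ℂ) ≠ 0 := by
    exact_mod_cast Nat.card_pos.ne'
  have hE : E * E = E := by
    ext x z
    rw [Matrix.mul_apply]
    push_cast
    show ∑ y : H ⧸ Q, (∑ s : Q, a (x.out⁻¹ * y.out * s)) * (∑ s : Q, a (y.out⁻¹ * z.out * s))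
      = ∑ s : Q, a (x.out⁻¹ * z.out * s)
    have h1 := Cfsg.Agent.Lib.Helper21FR.sum_eq_card_mul_sum_out Q
      (fun h : H => (∑ s : Q, a (x.out⁻¹ * h * s)) * (∑ s : Q, a (h⁻¹ * z.out * s))) (by
        intro g t
        have e1 := al_mul_right Q a (x.out⁻¹ * g) t
        have e2 := al_mul_left Q hcl (g⁻¹ * z.out) t⁻¹
        simp only [mul_inv_rev]
        rw [← e1, ← e2]
        simp [mul_assoc])
    rw [al_conv Q hcl hid] at h1
    exact (mul_left_cancel₀ hcard h1).symm
  have h0 := idem_zero E hE (fun i j => mem_maximalIdeal_Rt_iff.mpr (hcon _))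
  apply hne
  have h2 := congrArg Subtype.val (congrFun (congrFun h0 ((1 : H) : H ⧸ Q)) ((1 : H) : H ⧸ Q))
  have h3 : ∑ s : Q, a (((1 : H) : H ⧸ Q).out⁻¹ * ((1 : H) : H ⧸ Q).out * s) = 0 := h2
  simpa using h3

theorem exists_fixed (hM : IsPModular p M) {a : H → ℂ} (hcl : IsClassFunction H a)
    (hloc : ∀ g, MemLocalRing M (a g)) (Q : Subgroup H) [Fintype Q] (hQ : IsPGroup p Q) (g : H)
    (hg : ¬ MemLocalIdeal M (∑ s : Q, a (g * s))) :
    ∃ h : H, ¬ MemLocalIdeal M (a h) ∧ Q ⊓ cj h Q ≤ Subgroup.centralizer {h} := by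
  classical
  have hPr := IsPModular.isPrime hM
  let R : Subgroup H := Q ⊓ cj g Q
  have hR : IsPGroup p R := hQ.to_le inf_le_left
  let act : MulAction R Q :=
    { smul := fun r s => ⟨g⁻¹ * r * g * s * (r : H)⁻¹,
        Q.mul_mem (Q.mul_mem (mem_cj.mp r.2.2) s.2) (Q.inv_mem r.2.1)⟩
      one_smul := by
        intro s
        apply Subtype.ext
        show g⁻¹ * ((1 : R) : H) * g * s * (((1 : R) : H))⁻¹ = s
        simp
      mul_smul := by
        intro r r' s
        apply Subtype.ext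
        show g⁻¹ * ((r * r' : R) : H) * g * s * (((r * r' : R) : H))⁻¹
          = g⁻¹ * r * g * (g⁻¹ * r' * g * s * (r' : H)⁻¹) * (r : H)⁻¹
        simp only [Subgroup.coe_mul]
        group }
  have hsm : ∀ (r : R) (s : Q), ((r • s : Q) : H) = g⁻¹ * r * g * s * (r : H)⁻¹ := fun r s => rfl
  have hinv : ∀ (r : R) (s : Q), a (g * ((r • s : Q) : H)) = a (g * s) := by
    intro r s
    rw [hsm, ← hcl (g * s) r]
    congr 1
    group
  have h1 := sum_sub_fixed_mem hM hR (fun s : Q => a (g * s)) hinv (fun s => hloc _)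
  by_contra hcon
  push Not at hcon
  apply hg
  have h2 : ∑ s : Q, a (g * s) = (∑ s : Q, if s ∈ MulAction.fixedPoints R Q then a (g * s) else 0)
      + ∑ s : Q, if s ∈ MulAction.fixedPoints R Q then 0 else a (g * s) := by
    rw [← Finset.sum_add_distrib]
    apply Finset.sum_congr rfl
    intro s _
    split_ifs <;> simp
  rw [h2]
  refine memLocalIdeal_add ?_ h1
  apply memLocalIdeal_sum
  intro s _
  split_ifs with hs
  · by_contra hs2
    obtain ⟨r, hr, hr2⟩ := SetLike.not_le_iff_exists.mp (hcon (g * s) hs2)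
    apply hr2
    have e1 : cj (g * s) Q = cj g Q := by
      rw [← cj_cj, cj_of_mem s.2]
    rw [e1] at hr
    have e2 := congrArg Subtype.val (hs ⟨r, hr⟩)
    rw [hsm] at e2
    rw [Subgroup.mem_centralizer_singleton_iff]
    have e2' : g⁻¹ * r * g * s * r⁻¹ = s := e2
    have e3 : g⁻¹ * r * g * s = s * r := by
      calc g⁻¹ * r * g * s = (g⁻¹ * r * g * s * r⁻¹) * r := by group
        _ = s * r := by rw [e2']
    calc r * (g * s) = g * (g⁻¹ * r * g * s) := by group
      _ = g * s * r := by rw [e3, mul_assoc]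
  · exact memLocalIdeal_zero

theorem cj_normal (D : Subgroup H) [hn : D.Normal] (x : H) : cj x D = D := by
  ext y
  rw [mem_cj]
  constructor
  · intro h
    have := hn.conj_mem _ h x
    simpa [mul_assoc] using this
  · intro h
    have := hn.conj_mem _ h x⁻¹
    simpa [mul_assoc] using this

/-- Green's theorem for a block with normal defect group. -/
theorem normal_case (hM : IsPModular p M) {b : Set (IrrCharacter H)} (hb : IsPBlock M b)
    (D : Subgroup H) [hn : D.Normal] (hD : IsDefectGroup p M b D) (Q : Sylow p H) :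
    ∃ h : H, ¬ p ∣ orderOf h ∧ h ∈ Subgroup.centralizer (D : Set H) ∧
      (Q : Subgroup H) ⊓ cj h Q = D ∧
      ∀ S : Subgroup H, IsPGroup p S → S ≤ Subgroup.centralizer {h} → S ≤ D := by
  classical
  have hPr := IsPModular.isPrime hM
  obtain ⟨y, hy, hS⟩ := isDefectGroup_iff.mp hD
  have hDp : IsPGroup p D := hS.isPGroup
  have hsc := isSC_blockCoeff hPr hb
  obtain ⟨χ, hχ⟩ := IsPBlock.nonempty hPr hb
  have hne : ∑ s : (Q : Subgroup H), blockCoeff b s ≠ 0 := by
    rw [Finset.sum_eq_single (1 : (Q : Subgroup H))]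
    · exact Cfsg.Agent.Lib.Helper21Cover2.blockCoeff_one_ne_zero ⟨χ, hχ⟩
    · intro s _ hs
      apply Cfsg.Agent.Lib.Helper81Orth.blockCoeff_eq_zero_of_singular hM hb
      obtain ⟨k, hk⟩ := (IsPGroup.iff_orderOf.mp Q.2) s
      rw [Subgroup.orderOf_coe, hk]
      rcases k with _ | k
      · rw [pow_zero, orderOf_eq_one_iff] at hk
        exact absurd hk hs
      · exact dvd_pow_self p (Nat.succ_ne_zero k)
    · intro h
      exact absurd (Finset.mem_univ _) h
  obtain ⟨g, hg⟩ := exists_al_not_mem hM hsc.1 hsc.2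
    (Cfsg.Agent.Lib.Helper20First.conv_blockCoeff_self b) (Q : Subgroup H) hne
  obtain ⟨h, hh, hc⟩ := exists_fixed hM hsc.1 hsc.2 (Q : Subgroup H) Q.2 g hg
  have hcs : CSub p D h := cSub_of_blockCoeff hM hb hχ (hy.2.2 χ hχ) hS hh
  have hsub : ∀ S : Subgroup H, IsPGroup p S → S ≤ Subgroup.centralizer {h} → S ≤ D := by
    intro S hSp hSc
    obtain ⟨x, hx⟩ := hcs S hSp hSc
    rwa [cj_normal] at hx
  have hcD : h ∈ Subgroup.centralizer (D : Set H) := by
    by_contra hcon
    apply hh
    rw [Cfsg.Agent.Lib.Helper80Supp.blockCoeff_eq_zero_of_normal hM D hDp hb hcon]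
    exact memLocalIdeal_zero
  refine ⟨h, ?_, hcD, ?_, hsub⟩
  · intro hcon
    apply hh
    rw [Cfsg.Agent.Lib.Helper81Orth.blockCoeff_eq_zero_of_singular hM hb hcon]
    exact memLocalIdeal_zero
  · apply le_antisymm
    · exact hsub _ (Q.2.to_le inf_le_left) hc
    · obtain ⟨z, hz⟩ := exists_conj_le_sylow Q hDp
      rw [cj_normal] at hz
      refine le_inf hz ?_
      intro d hd
      rw [mem_cj]
      have e := Subgroup.mem_centralizer_iff.mp hcD d hd
      have e2 : h⁻¹ * d * h = d := by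
        rw [mul_assoc, e]; group
      rw [e2]
      exact hz hd

/-- **Green's theorem**: defect groups are Sylow intersections. -/
theorem green {G : Type*} [Group G] [Fintype G] (hM : IsPModular p M)
    {B : Set (IrrCharacter G)} (hB : IsPBlock M B) (D : Subgroup G) (hD : IsDefectGroup p M B D)
    (P : Sylow p G) (hDP : D ≤ P) :
    ∃ x : G, ¬ p ∣ orderOf x ∧ SylIn p D (Subgroup.centralizer ({x} : Set G)) ∧
      (P : Subgroup G) ⊓ cj x P = D := by
  classical
  have hDp : IsPGroup p D := P.2.to_le hDP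
  set N : Subgroup G := Subgroup.normalizer (D : Set G) with hN
  obtain ⟨b, hind⟩ := Cfsg.Agent.Lib.Helper20First.exists_block_induced hM hDp hB hD
  have hbD := Cfsg.Agent.Lib.Helper20First.defectGroup_of_induced hM hDp hind hD
  have hnorm : (D.subgroupOf N).Normal := Subgroup.normal_in_normalizer
  have hKp : IsPGroup p (((P : Subgroup G) ⊓ N).subgroupOf N) :=
    (P.2.to_le inf_le_left).of_equiv (Subgroup.subgroupOfEquivOfLe inf_le_right).symm
  obtain ⟨Q, hQ⟩ := hKp.exists_le_sylow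
  obtain ⟨h, h1, h2, h3, h4⟩ := normal_case hM hind.1 (D.subgroupOf N) hbD Q
  have hDN : D ≤ N := Subgroup.le_normalizer
  have hcomm : ∀ d ∈ D, d * (h : G) = h * d := by
    intro d hd
    have e := Subgroup.mem_centralizer_iff.mp h2 ⟨d, hDN hd⟩
      (show (⟨d, hDN hd⟩ : N) ∈ D.subgroupOf N from hd)
    exact congrArg Subtype.val e
  have hmemQ : ∀ n : G, ∀ hn : n ∈ N, n ∈ (P : Subgroup G) → (⟨n, hn⟩ : N) ∈ (Q : Subgroup N) := by
    intro n hn hnP
    exact hQ (show (⟨n, hn⟩ : N) ∈ ((P : Subgroup G) ⊓ N).subgroupOf N from ⟨hnP, hn⟩)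
  refine ⟨(h : G), ?_, ?_, ?_⟩
  · rwa [Subgroup.orderOf_coe]
  · have hDC : D ≤ Subgroup.centralizer ({(h : G)} : Set G) := by
      intro d hd
      rw [Subgroup.mem_centralizer_singleton_iff]
      exact hcomm d hd
    obtain ⟨S, hDS, hS⟩ := exists_sylIn_ge hDC hDp
    rcases eq_or_lt_of_le hDS with he | hlt
    · rw [← he] at hS; exact hS
    · exfalso
      have hlt2 := Cfsg.Agent.Lib.Helper20Syl.lt_inf_normalizer hS.isPGroup hlt
      obtain ⟨n, hn1, hn2⟩ := SetLike.exists_of_lt hlt2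
      apply hn2
      have hSp : IsPGroup p ((S ⊓ N).subgroupOf N) :=
        (hS.isPGroup.to_le inf_le_left).of_equiv (Subgroup.subgroupOfEquivOfLe inf_le_right).symm
      have hle := h4 ((S ⊓ N).subgroupOf N) hSp (by
        intro z hz
        rw [Subgroup.mem_centralizer_singleton_iff]
        apply Subtype.ext
        have hz1 : (z : G) ∈ S := (Subgroup.mem_subgroupOf.mp hz).1
        exact Subgroup.mem_centralizer_singleton_iff.mp (hS.1 hz1))
      exact hle (show (⟨n, hn1.2⟩ : N) ∈ (S ⊓ N).subgroupOf N from hn1)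
  · apply le_antisymm
    · by_contra hcon
      have hle : D ≤ (P : Subgroup G) ⊓ cj (h : G) P := by
        refine le_inf hDP ?_
        intro d hd
        rw [mem_cj]
        have e2 : (h : G)⁻¹ * d * h = d := by
          rw [mul_assoc, hcomm d hd]; group
        rw [e2]
        exact hDP hd
      have hlt : D < (P : Subgroup G) ⊓ cj (h : G) P :=
        lt_of_le_of_ne hle (fun he => hcon he.ge)
      have hlt2 := Cfsg.Agent.Lib.Helper20Syl.lt_inf_normalizer (P.2.to_le inf_le_left) hlt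
      obtain ⟨n, hn1, hn2⟩ := SetLike.exists_of_lt hlt2
      apply hn2
      have hnN : n ∈ N := hn1.2
      have hm : (⟨n, hnN⟩ : N) ∈ (Q : Subgroup N) ⊓ cj h (Q : Subgroup N) := by
        refine Subgroup.mem_inf.mpr ⟨hmemQ n hnN hn1.1.1, ?_⟩
        rw [mem_cj]
        have e := hmemQ ((h : G)⁻¹ * n * h) (N.mul_mem (N.mul_mem (N.inv_mem h.2) hnN) h.2)
          (mem_cj.mp hn1.1.2)
        exact e
      rw [h3] at hm
      exact hm
    · refine le_inf hDP ?_
      intro d hd
      rw [mem_cj]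
      have e2 : (h : G)⁻¹ * d * h = d := by
        rw [mul_assoc, hcomm d hd]; group
      rw [e2]
      exact hDP hd

end Cfsg.Agent.Lib.Helper25Green
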