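import Mathlib
import Cfsg.Prelude.Def_Blocks
import Cfsg.Agent.Lib.Helper81Local

set_option autoImplicit false
set_option linter.unusedSectionVars false
set_option linter.unusedVariables false

/-! Rank of a matrix under a field extension; rank of an integer matrix modulo `p` which is
congruent, modulo the local ideal, to `W'ᵀ U W` with `W`, `W'` having right inverses. -/

namespace Cfsg.Agent.Lib.Helper25Rank

open Cfsg Matrix
open Cfsg.Agent.Lib.Helper81Local

theorem rank_nf (L : Type*) [Field L] (a b : ℕ) :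
    (fromBlocks (1 : Matrix (Fin a) (Fin a) L) 0 0 (0 : Matrix (Fin b) (Fin b) L)).rank = a := by
  classical
  rw [← diagonal_one, ← diagonal_zero, fromBlocks_diagonal, rank_diagonal]
  have e : {i : Fin a ⊕ Fin b // Sum.elim (fun _ => (1 : L)) (fun _ => (0 : L)) i ≠ 0} ≃ Fin a :=
    { toFun := fun i => match i with
        | ⟨Sum.inl x, _⟩ => x
        | ⟨Sum.inr x, h⟩ => absurd rfl h
      invFun := fun x => ⟨Sum.inl x, by simp⟩
      left_inv := by
        rintro ⟨x | x, h⟩
        · rfl
        · exact absurd rfl h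
      right_inv := fun x => rfl }
  rw [Fintype.card_congr e, Fintype.card_fin]

theorem rank_map_field {K L : Type*} [Field K] [Field L] (f : K →+* L) {m : Type*} [Fintype m]
    [DecidableEq m] (A : Matrix m m K) : (A.map f).rank = A.rank := by
  obtain ⟨V, U, e, hV, hU, h⟩ := exists_rank_normal_form A
  have hVf : IsUnit (V.map f) := hV.map f.mapMatrix
  have hUf : IsUnit (U.map f) := hU.map f.mapMatrix
  have h1 : V.map f * A.map f * U.map f
      = (fromBlocks (1 : Matrix (Fin A.rank) (Fin A.rank) L) 0 0
          (0 : Matrix (Fin (Fintype.card m - A.rank)) (Fin (Fintype.card m - A.rank)) L)).submatrix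
          e e := by
    rw [← Matrix.map_mul, ← Matrix.map_mul, h]
    ext i j
    simp only [Matrix.map_apply, submatrix_apply]
    rcases e i with x | x <;> rcases e j with y | y <;>
      simp [fromBlocks, Matrix.one_apply, apply_ite f]
  have h2 := rank_mul_eq_left_of_isUnit_det (U.map f) (V.map f * A.map f)
    ((isUnit_iff_isUnit_det _).1 hUf)
  have h3 := rank_mul_eq_right_of_isUnit_det (V.map f) (A.map f) ((isUnit_iff_isUnit_det _).1 hVf)
  rw [← h3, ← h2, h1, rank_submatrix, rank_nf]

theorem map_eq_of_sub_mem {R : Type*} [CommRing R] [IsLocalRing R] {m n : Type*}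
    {X Y : Matrix m n R} (h : ∀ i j, X i j - Y i j ∈ IsLocalRing.maximalIdeal R) :
    X.map (IsLocalRing.residue R) = Y.map (IsLocalRing.residue R) := by
  ext i j
  have h2 := (IsLocalRing.residue_eq_zero_iff _).mpr (h i j)
  rw [map_sub, sub_eq_zero] at h2
  simpa using h2

theorem rank_of_congr {p : ℕ} [Fact p.Prime] {M : Ideal AlgInt} (hM : IsPModular p M)
    {ι β : Type*} [Fintype ι] [DecidableEq ι] [Fintype β] [DecidableEq β]
    (Ω : ι → ι → ℕ) (W W' A A' : β → ι → ℂ) (u : β → ℂ)
    (hW : ∀ b i, MemLocalRing M (W b i)) (hW' : ∀ b i, MemLocalRing M (W' b i))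
    (hA : ∀ b i, MemLocalRing M (A b i)) (hA' : ∀ b i, MemLocalRing M (A' b i))
    (hu : ∀ b, MemLocalRing M (u b)) (hu' : ∀ b, ¬ MemLocalIdeal M (u b))
    (h1 : ∀ i j, MemLocalIdeal M ((Ω i j : ℂ) - ∑ b, u b * W' b i * W b j))
    (h2 : ∀ b b', MemLocalIdeal M (∑ i, A b i * W b' i - if b = b' then 1 else 0))
    (h3 : ∀ b b', MemLocalIdeal M (∑ i, A' b i * W' b' i - if b = b' then 1 else 0)) :
    (Matrix.of fun i j => ((Ω i j : ℕ) : ZMod p)).rank = Fintype.card β := by
  classical
  have hPr := IsPModular.isPrime hM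
  let R := Rt M
  let k := IsLocalRing.ResidueField R
  let π : R →+* k := IsLocalRing.residue R
  have hp0 : ((p : ℕ) : k) = 0 := by
    have : π ((p : ℕ) : R) = 0 := by
      rw [IsLocalRing.residue_eq_zero_iff, mem_maximalIdeal_Rt_iff]
      simpa using memLocalIdeal_p hM
    simpa using this
  have : CharP k p := (CharP.charP_iff_prime_eq_zero (Fact.out : p.Prime)).mpr hp0
  let f : ZMod p →+* k := ZMod.castHom (dvd_refl p) k
  rw [← rank_map_field f]
  let WR : Matrix β ι R := fun b i => ⟨W b i, hW b i⟩
  let WR' : Matrix β ι R := fun b i => ⟨W' b i, hW' b i⟩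
  let AR : Matrix β ι R := fun b i => ⟨A b i, hA b i⟩
  let AR' : Matrix β ι R := fun b i => ⟨A' b i, hA' b i⟩
  let uR : β → R := fun b => ⟨u b, hu b⟩
  let ΩR : Matrix ι ι R := fun i j => ((Ω i j : ℕ) : R)
  have e0 : (Matrix.of fun i j => ((Ω i j : ℕ) : ZMod p)).map f = ΩR.map π := by
    ext i j
    rw [Matrix.map_apply, Matrix.map_apply, Matrix.of_apply, map_natCast]
    show ((Ω i j : ℕ) : k) = π ((Ω i j : ℕ) : R)
    rw [map_natCast]
  have key1 : ΩR.map π = (WR'.map π)ᵀ * (diagonal uR).map π * WR.map π := by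
    rw [← Matrix.transpose_map, ← Matrix.map_mul, ← Matrix.map_mul]
    apply map_eq_of_sub_mem
    intro i j
    rw [mem_maximalIdeal_Rt_iff]
    convert h1 i j using 1
    rw [Matrix.mul_apply]
    simp only [Matrix.mul_diagonal, Matrix.transpose_apply]
    push_cast
    simp only [ΩR, WR, WR', uR]
    push_cast
    congr 1
    apply Finset.sum_congr rfl
    intro b _
    ring
  have key2 : AR.map π * (WR.map π)ᵀ = 1 := by
    have : (1 : Matrix β β k) = (1 : Matrix β β R).map π := by
      ext b b'
      simp [Matrix.one_apply, apply_ite π]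
    rw [this, ← Matrix.transpose_map, ← Matrix.map_mul]
    apply map_eq_of_sub_mem
    intro b b'
    rw [mem_maximalIdeal_Rt_iff]
    convert h2 b b' using 1
    rw [Matrix.mul_apply, Matrix.one_apply]
    simp only [Matrix.transpose_apply]
    push_cast
    simp only [AR, WR]
    split_ifs <;> simp
  have key3 : AR'.map π * (WR'.map π)ᵀ = 1 := by
    have : (1 : Matrix β β k) = (1 : Matrix β β R).map π := by
      ext b b'
      simp [Matrix.one_apply, apply_ite π]
    rw [this, ← Matrix.transpose_map, ← Matrix.map_mul]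
    apply map_eq_of_sub_mem
    intro b b'
    rw [mem_maximalIdeal_Rt_iff]
    convert h3 b b' using 1
    rw [Matrix.mul_apply, Matrix.one_apply]
    simp only [Matrix.transpose_apply]
    push_cast
    simp only [AR', WR']
    split_ifs <;> simp
  have key2' : WR.map π * (AR.map π)ᵀ = 1 := by
    have := congrArg Matrix.transpose key2
    rwa [Matrix.transpose_mul, Matrix.transpose_transpose, Matrix.transpose_one] at this
  have hU : ((diagonal uR).map π).rank = Fintype.card β := by
    have e1 : (diagonal uR).map π = diagonal (fun b => π (uR b)) := by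
      ext b b'
      simp [Matrix.diagonal_apply, apply_ite π]
    rw [e1]
    apply rank_of_det_ne_zero
    rw [det_diagonal]
    apply Finset.prod_ne_zero_iff.mpr
    intro b _ hb
    rw [IsLocalRing.residue_eq_zero_iff, mem_maximalIdeal_Rt_iff] at hb
    exact hu' b hb
  rw [e0]
  apply le_antisymm
  · rw [key1, Matrix.mul_assoc]
    exact le_trans (Matrix.rank_mul_le_left _ _) (Matrix.rank_le_card_width _)
  · have e2 : AR'.map π * ΩR.map π * (AR.map π)ᵀ = (diagonal uR).map π := by
      rw [key1]
      calc AR'.map π * ((WR'.map π)ᵀ * (diagonal uR).map π * WR.map π) * (AR.map π)ᵀ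
          = (AR'.map π * (WR'.map π)ᵀ) * (diagonal uR).map π * (WR.map π * (AR.map π)ᵀ) := by
            simp only [Matrix.mul_assoc]
        _ = (diagonal uR).map π := by rw [key3, key2', Matrix.one_mul, Matrix.mul_one]
    rw [← hU, ← e2]
    exact le_trans (Matrix.rank_mul_le_left _ _) (Matrix.rank_mul_le_right _ _)

end Cfsg.Agent.Lib.Helper25Rank
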