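import Mathlib
import Cfsg.Prelude.Def_Blocks
import Cfsg.Agent.Lib.Helper81Subsec2
import Cfsg.Agent.Lib.Helper81Second2
import Cfsg.Agent.Lib.Helper81Section
import Cfsg.Agent.Lib.Helper32Virt

set_option autoImplicit false

namespace Cfsg.Agent.Lib.Helper81Columns

open Cfsg
open Cfsg.Agent.Lib.Helper81Local Cfsg.Agent.Lib.Helper81Base Cfsg.Agent.Lib.Helper81BB
  Cfsg.Agent.Lib.Helper81Block Cfsg.Agent.Lib.Helper81Orth
  Cfsg.Agent.Lib.Helper81Orth2 Cfsg.Agent.Lib.Helper81Subsec Cfsg.Agent.Lib.Helper81Second2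
  Cfsg.Agent.Lib.Helper81Section
open Cfsg.Agent.Lib.Helper4Char Cfsg.Agent.Lib.Helper4Char2 Cfsg.Agent.Lib.Helper4Char4
  Cfsg.Agent.Lib.Helper32Virt
open scoped ComplexConjugate

variable {G : Type*} [Group G] [Fintype G] {p : ℕ} {M : Ideal AlgInt}

/-- the column coefficient `[χ|_P, θ]`. -/
noncomputable def col (P : Subgroup G) [Fintype P] (θ : P → ℂ) (χ : G → ℂ) : ℂ :=
  (Nat.card P : ℂ)⁻¹ * ∑ y : P, χ (y : G) * θ y⁻¹

theorem sum_col_mul (B : Set (IrrCharacter G)) [DecidablePred (· ∈ B)] (P : Subgroup G)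
    [Fintype P] (θ : P → ℂ) (f : IrrCharacter G → ℂ) :
    ∑ χ : IrrCharacter G, (if χ ∈ B then col P θ (χ : G → ℂ) * f χ else 0)
      = (Nat.card P : ℂ)⁻¹ * ∑ y : P, θ y⁻¹ *
        ∑ χ : IrrCharacter G, (if χ ∈ B then (χ : G → ℂ) (y : G) * f χ else 0) := by
  simp only [Finset.mul_sum]
  rw [Finset.sum_comm]
  apply Finset.sum_congr rfl
  intro χ _
  split_ifs
  · unfold col
    rw [mul_assoc, Finset.sum_mul, Finset.mul_sum]
    apply Finset.sum_congr rfl
    intro y _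
    ring
  · simp

theorem sum_col_mul_eq_zero (B : Set (IrrCharacter G)) [DecidablePred (· ∈ B)] (P : Subgroup G)
    [Fintype P] (θ : P → ℂ) (f : IrrCharacter G → ℂ)
    (h : ∀ y : P, θ y⁻¹ ≠ 0 →
      ∑ χ : IrrCharacter G, (if χ ∈ B then (χ : G → ℂ) (y : G) * f χ else 0) = 0) :
    ∑ χ : IrrCharacter G, (if χ ∈ B then col P θ (χ : G → ℂ) * f χ else 0) = 0 := by
  rw [sum_col_mul, Finset.sum_eq_zero, mul_zero]
  intro y _
  by_cases hy : θ y⁻¹ = 0
  · rw [hy, zero_mul]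
  · rw [h y hy, mul_zero]

theorem gen_apply_inv {H : Type*} [Group H] [Finite H] {θ : H → ℂ}
    (hθ : IsGeneralizedCharacter H θ) (y : H) : θ y⁻¹ = conj (θ y) := by
  obtain ⟨α, β, hα, hβ, rfl⟩ := hθ
  simp only [Pi.sub_apply, map_sub, IsCharacter.apply_inv hα, IsCharacter.apply_inv hβ]

theorem col_int (P : Subgroup G) [Fintype P] {θ : P → ℂ} (hθ : IsGeneralizedCharacter P θ)
    (χ : IrrCharacter G) : ∃ n : ℤ, col P θ (χ : G → ℂ) = n := by
  obtain ⟨n, hn⟩ := gen_inner_int (gen_of_char (IsCharacter.restrict P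
    (IsIrrCharacter.isCharacter χ.2))) hθ
  refine ⟨n, ?_⟩
  rw [← hn]
  unfold col classInner
  congr 1
  apply Finset.sum_congr rfl
  intro y _
  rw [gen_apply_inv hθ]

theorem isPPart_self (hp : p.Prime) {x : G} (hx : ∃ k : ℕ, orderOf x = p ^ k) : IsPPart p x x :=
  ⟨1, mul_one x, Commute.one_right x, hx, by
    rw [orderOf_one]; exact fun h => hp.one_lt.ne' (Nat.dvd_one.1 h)⟩

/-- block orthogonality for two non-conjugate `p`-elements. -/
theorem block_orth_pelements (hM : IsPModular p M) {B : Set (IrrCharacter G)} (hB : IsPBlock M B)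
    [DecidablePred (· ∈ B)] {x y : G} (hx : ∃ k : ℕ, orderOf x = p ^ k)
    (hy : ∃ k : ℕ, orderOf y = p ^ k) (hxy : ¬ IsConj x y) :
    ∑ χ : IrrCharacter G, (if χ ∈ B then (χ : G → ℂ) x * conj ((χ : G → ℂ) y) else 0) = 0 :=
  block_orth hM hB (isPPart_self hM.1 hx) (isPPart_self hM.1 hy) hxy

/-- the class multiplication relation inside a block: if no conjugate of the involution `t`
inverts the `2`-element `y`, then `∑_{χ ∈ B} χ(y) χ(t)² / χ(1) = 0`. -/
theorem sum_block_sq_div (hM : IsPModular p M) {B : Set (IrrCharacter G)} (hB : IsPBlock M B)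
    [DecidablePred (· ∈ B)] {y t : G} (hy : ∃ k : ℕ, orderOf y = p ^ k) (ht : t * t = 1)
    (hinv : ∀ g : G, (g * t * g⁻¹) * y * (g * t * g⁻¹)⁻¹ ≠ y⁻¹) :
    ∑ χ : IrrCharacter G, (if χ ∈ B then
      (χ : G → ℂ) y * ((χ : G → ℂ) t ^ 2 / (χ : G → ℂ) 1) else 0) = 0 := by
  have hG : (Nat.card G : ℂ) ≠ 0 := Cfsg.Agent.Lib.Helper81Base.card_ne_zero
  have h1 : ∀ χ : IrrCharacter G, (χ : G → ℂ) t ^ 2 / (χ : G → ℂ) 1
      = (Nat.card G : ℂ)⁻¹ * ∑ g : G, (χ : G → ℂ) (g * t * g⁻¹ * t) := by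
    intro χ
    rw [irr_avg]
    field_simp
  simp only [h1]
  have h2 : ∑ χ : IrrCharacter G, (if χ ∈ B then (χ : G → ℂ) y *
      ((Nat.card G : ℂ)⁻¹ * ∑ g : G, (χ : G → ℂ) (g * t * g⁻¹ * t)) else 0)
      = (Nat.card G : ℂ)⁻¹ * ∑ g : G, ∑ χ : IrrCharacter G, (if χ ∈ B then
        (χ : G → ℂ) y * conj ((χ : G → ℂ) (g * t * g⁻¹ * t)⁻¹) else 0) := by
    rw [Finset.sum_comm, Finset.mul_sum]
    apply Finset.sum_congr rfl
    intro χ _
    split_ifs
    · rw [mul_left_comm, Finset.mul_sum]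
      congr 1
      apply Finset.sum_congr rfl
      intro g _
      rw [← irr_inv, inv_inv]
    · simp
  rw [h2, Finset.sum_eq_zero, mul_zero]
  intro g _
  obtain ⟨v, hv⟩ := exists_ppart hM.1 (g * t * g⁻¹ * t)⁻¹
  apply block_orth hM hB (isPPart_self hM.1 hy) hv
  intro hc
  obtain ⟨s, hs⟩ := isConj_iff.1 hc
  have htinv : t⁻¹ = t := inv_eq_of_mul_eq_one_left ht
  -- `t` inverts `z`
  have hz : t * (g * t * g⁻¹ * t)⁻¹ * t⁻¹ = ((g * t * g⁻¹ * t)⁻¹)⁻¹ := by
    simp only [mul_inv_rev, inv_inv, htinv]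
    have : t * t = 1 := ht
    calc t * (t * (g * (t * g⁻¹))) * t = (t * t) * (g * (t * g⁻¹)) * t := by group
      _ = g * t * g⁻¹ * t := by rw [this]; group
  have h3 := isPPart_conj hv t
  rw [hz] at h3
  have h4 : t * v * t⁻¹ = v⁻¹ := isPPart_unique hM.1 h3 (isPPart_inv hv)
  apply hinv s⁻¹
  rw [← hs] at h4
  have : s⁻¹ * t * s⁻¹⁻¹ * y * (s⁻¹ * t * s⁻¹⁻¹)⁻¹ = s⁻¹ * (t * (s * y * s⁻¹) * t⁻¹) * s := by
    group
  rw [this, h4]
  group

section abstract

variable {ι : Type*} [Fintype ι]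

theorem exists_other_aux (a d v : ι → ℝ) (hd : ∀ i, 0 < d i)
    (h1 : ∑ i, a i * d i = 0) (h2 : ∑ i, a i * v i = 0) (h3 : ∑ i, a i * (v i ^ 2 / d i) = 0)
    (i0 : ι) (h0 : a i0 ≠ 0) (hv0 : v i0 = d i0)
    (hcard : ∀ i j : ι, 0 < a i → 0 < a j → i = j) :
    ∃ i, i ≠ i0 ∧ a i ≠ 0 ∧ v i = d i := by
  classical
  -- a positive index
  have hpos : ∃ j, 0 < a j := by
    by_contra hcon
    push Not at hcon
    have h4 : ∀ i ∈ (Finset.univ : Finset ι), a i * d i ≤ 0 := fun i _ =>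
      mul_nonpos_of_nonpos_of_nonneg (hcon i) (hd i).le
    have h5 := (Finset.sum_eq_zero_iff_of_nonpos h4).1 h1 i0 (Finset.mem_univ _)
    rcases mul_eq_zero.1 h5 with h6 | h6
    · exact h0 h6
    · exact (hd i0).ne' h6
  obtain ⟨j, hj⟩ := hpos
  have hle : ∀ i, i ≠ j → a i ≤ 0 := by
    intro i hi
    by_contra hcon
    push Not at hcon
    exact hi (hcard i j hcon hj)
  set c := v j / d j with hc
  have hsum : ∑ i, a i * ((v i - c * d i) ^ 2 / d i) = 0 := by
    have : ∀ i, a i * ((v i - c * d i) ^ 2 / d i)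
        = a i * (v i ^ 2 / d i) - 2 * c * (a i * v i) + c ^ 2 * (a i * d i) := by
      intro i
      have := (hd i).ne'
      field_simp
      ring
    simp only [this]
    rw [Finset.sum_add_distrib, Finset.sum_sub_distrib, ← Finset.mul_sum, ← Finset.mul_sum,
      h1, h2, h3]
    ring
  have hterm : ∀ i ∈ (Finset.univ : Finset ι), a i * ((v i - c * d i) ^ 2 / d i) ≤ 0 := by
    intro i _
    by_cases hi : i = j
    · subst hi
      have : v i - c * d i = 0 := by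
        rw [hc]
        have := (hd i).ne'
        field_simp
        ring
      rw [this]
      simp
    · exact mul_nonpos_of_nonpos_of_nonneg (hle i hi) (div_nonneg (sq_nonneg _) (hd i).le)
  have hz := (Finset.sum_eq_zero_iff_of_nonpos hterm).1 hsum
  have hval : ∀ i, a i ≠ 0 → v i = c * d i := by
    intro i hi
    have h4 := hz i (Finset.mem_univ _)
    rcases mul_eq_zero.1 h4 with h5 | h5
    · exact absurd h5 hi
    · rcases div_eq_zero_iff.1 h5 with h6 | h6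
      · have := pow_eq_zero_iff (two_ne_zero) |>.1 h6
        linarith
      · exact absurd h6 (hd i).ne'
  have hc1 : c = 1 := by
    have h4 := hval i0 h0
    rw [hv0] at h4
    have := (hd i0).ne'
    have h5 : (1 - c) * d i0 = 0 := by linarith
    rcases mul_eq_zero.1 h5 with h6 | h6
    · linarith
    · exact absurd h6 this
  by_cases hj0 : j = i0
  · subst hj0
    -- a negative index
    have hneg : ∃ i, a i < 0 := by
      by_contra hcon
      push Not at hcon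
      have h4 : ∀ i ∈ (Finset.univ : Finset ι), 0 ≤ a i * d i := fun i _ =>
        mul_nonneg (hcon i) (hd i).le
      have h5 := (Finset.sum_eq_zero_iff_of_nonneg h4).1 h1 j (Finset.mem_univ _)
      rcases mul_eq_zero.1 h5 with h6 | h6
      · exact h0 h6
      · exact (hd j).ne' h6
    obtain ⟨i, hi⟩ := hneg
    refine ⟨i, ?_, hi.ne, ?_⟩
    · rintro rfl
      linarith
    · rw [hval i hi.ne, hc1, one_mul]
  · exact ⟨j, hj0, hj.ne', by rw [hval j hj.ne', hc1, one_mul]⟩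

theorem exists_other (a d v : ι → ℝ) (hd : ∀ i, 0 < d i)
    (h1 : ∑ i, a i * d i = 0) (h2 : ∑ i, a i * v i = 0) (h3 : ∑ i, a i * (v i ^ 2 / d i) = 0)
    (i0 : ι) (h0 : a i0 ≠ 0) (hv0 : v i0 = d i0)
    (hcard : (∀ i j : ι, 0 < a i → 0 < a j → i = j) ∨ (∀ i j : ι, a i < 0 → a j < 0 → i = j)) :
    ∃ i, i ≠ i0 ∧ a i ≠ 0 ∧ v i = d i := by
  rcases hcard with h | h
  · exact exists_other_aux a d v hd h1 h2 h3 i0 h0 hv0 h
  · obtain ⟨i, hi1, hi2, hi3⟩ := exists_other_aux (fun i => - a i) d v hd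
      (by simp only [neg_mul, Finset.sum_neg_distrib, h1, neg_zero])
      (by simp only [neg_mul, Finset.sum_neg_distrib, h2, neg_zero])
      (by simp only [neg_mul, Finset.sum_neg_distrib, h3, neg_zero])
      i0 (by simpa using h0) hv0
      (fun i j hi hj => h i j (by simpa using hi) (by simpa using hj))
    exact ⟨i, hi1, by simpa using hi2, hi3⟩

end abstract

end Cfsg.Agent.Lib.Helper81Columns
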