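import Mathlib
import Cfsg.Prelude.Def_Blocks
import Cfsg.Agent.Lib.Helper25Green
import Cfsg.Agent.Lib.Helper25Rank
import Cfsg.Agent.Lib.Helper20Conj
import Cfsg.Agent.Lib.Helper81Columns
import Cfsg.Agent.Lib.Helper81Orth2
import Cfsg.Agent.Lib.Helper21Cover
import Cfsg.Agent.S0924

set_option autoImplicit false
set_option linter.unusedSectionVars false
set_option linter.unusedVariables false
set_option linter.unusedSimpArgs false

/-! Robinson's theorem on the number of blocks with a given normal defect group. -/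

namespace Cfsg.Agent.Lib.Helper25Rob

open Cfsg
open Cfsg.Agent.Lib.Helper87Sylow Cfsg.Agent.Lib.Helper81Local Cfsg.Agent.Lib.Helper81Base
open Cfsg.Agent.Lib.Helper81BB Cfsg.Agent.Lib.Helper81Block
open Cfsg.Agent.Lib.Helper20Defect Cfsg.Agent.Lib.Helper25Green
open scoped ComplexConjugate

variable {G : Type*} [Group G] [Fintype G] {M : Ideal AlgInt} {p : ℕ} [Fact p.Prime]

/-- `x` is `p`-regular and `D` is a Sylow `p`-subgroup of its centralizer. -/
def Good (p : ℕ) (D : Subgroup G) (x : G) : Prop :=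
  ¬ p ∣ orderOf x ∧ SylIn p D (Subgroup.centralizer ({x} : Set G))

theorem centralizer_inv (x : G) :
    Subgroup.centralizer ({x⁻¹} : Set G) = Subgroup.centralizer ({x} : Set G) := by
  ext y
  rw [Subgroup.mem_centralizer_singleton_iff, Subgroup.mem_centralizer_singleton_iff]
  constructor
  · intro h
    calc y * x = x * (x⁻¹ * y) * x := by group
      _ = x * (y * x⁻¹) * x := by rw [h]
      _ = x * y := by group
  · intro h
    calc y * x⁻¹ = x⁻¹ * (x * y) * x⁻¹ := by group
      _ = x⁻¹ * (y * x) * x⁻¹ := by rw [h]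
      _ = x⁻¹ * y := by group

theorem Good.inv {D : Subgroup G} {x : G} (h : Good p D x) : Good p D x⁻¹ := by
  refine ⟨?_, ?_⟩
  · rw [orderOf_inv]; exact h.1
  · rw [centralizer_inv]; exact h.2

theorem Good.conj {D : Subgroup G} [D.Normal] {x y : G} (h : Good p D x) (hc : IsConj x y) :
    Good p D y := by
  obtain ⟨c, rfl⟩ := isConj_iff.mp hc
  refine ⟨?_, ?_⟩
  · have : orderOf (c * x * c⁻¹) = orderOf x := by
      have := orderOf_injective (MulAut.conj c).toMonoidHom (MulAut.conj c).injective x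
      simpa [MulAut.conj_apply] using this
    rw [this]; exact h.1
  · have := h.2.conj c
    rwa [cj_normal, cj_centralizer_singleton] at this

theorem isConj_inv_inv {a b : G} : IsConj a⁻¹ b⁻¹ ↔ IsConj a b := by
  rw [isConj_iff, isConj_iff]
  constructor
  · rintro ⟨c, hc⟩
    refine ⟨c, ?_⟩
    have := congrArg (·⁻¹) hc
    simpa [mul_assoc] using this
  · rintro ⟨c, hc⟩
    refine ⟨c, ?_⟩
    rw [← hc]; group

/-- a system of representatives of the good classes. -/
structure Reps (p : ℕ) (D : Subgroup G) {ι : Type*} (x : ι → G) : Prop where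
  good : ∀ i, Good p D (x i)
  inj : ∀ i j, IsConj (x i) (x j) → i = j
  surj : ∀ g, Good p D g → ∃ i, IsConj (x i) g

theorem Reps.inv {D : Subgroup G} {ι : Type*} {x : ι → G} (h : Reps p D x) :
    Reps p D (fun i => (x i)⁻¹) where
  good := fun i => (h.good i).inv
  inj := fun i j hc => h.inj i j (isConj_inv_inv.mp hc)
  surj := fun g hg => by
    obtain ⟨i, hi⟩ := h.surj g⁻¹ hg.inv
    refine ⟨i, ?_⟩
    have := isConj_inv_inv.mpr hi
    rwa [inv_inv] at this

theorem sum_classes_congr [Fintype (ConjClasses G)] (hPr : M.IsPrime) {D : Subgroup G} [D.Normal]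
    {ι : Type*} [Fintype ι] {x : ι → G} (hx : Reps p D x) {φ : G → ℂ}
    (hφ : IsClassFunction G φ) (hbad : ∀ g, ¬ Good p D g → MemLocalIdeal M (φ g)) :
    MemLocalIdeal M (∑ C : ConjClasses G, φ (Quotient.out C) - ∑ i, φ (x i)) := by
  classical
  have hinj : Function.Injective (fun i => ConjClasses.mk (x i)) := by
    intro i j hij
    exact hx.inj i j (ConjClasses.mk_eq_mk_iff_isConj.mp hij)
  have h1 : ∑ i, φ (x i)
      = ∑ C ∈ Finset.univ.image (fun i => ConjClasses.mk (x i)), φ (Quotient.out C) := by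
    rw [Finset.sum_image (fun i _ j _ h => hinj h)]
    apply Finset.sum_congr rfl
    intro i _
    apply classfn_of_isConj hφ
    rw [← ConjClasses.mk_eq_mk_iff_isConj]
    exact (Quotient.out_eq (ConjClasses.mk (x i))).symm
  rw [h1, ← Finset.sum_sdiff (Finset.subset_univ
    (Finset.univ.image (fun i => ConjClasses.mk (x i)))), add_sub_cancel_right]
  apply memLocalIdeal_sum
  intro C hC
  apply hbad
  intro hg
  obtain ⟨i, hi⟩ := hx.surj _ hg
  rw [Finset.mem_sdiff] at hC
  apply hC.2
  rw [Finset.mem_image]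
  refine ⟨i, Finset.mem_univ _, ?_⟩
  rw [ConjClasses.mk_eq_mk_iff_isConj.mpr hi]
  exact Quotient.out_eq C

/-- the idempotent of a block with normal defect group `D` is, modulo the local ideal, supported
on the good classes. -/
theorem blockCoeff_mem_of_not_good (hM : IsPModular p M) {D : Subgroup G} [hn : D.Normal]
    {B : Set (IrrCharacter G)} (hB : IsPBlock M B) (hBD : IsDefectGroup p M B D) {g : G}
    (hg : ¬ Good p D g) : MemLocalIdeal M (blockCoeff B g) := by
  have hPr := IsPModular.isPrime hM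
  by_contra hh
  apply hg
  obtain ⟨y, hy, hS⟩ := isDefectGroup_iff.mp hBD
  have hDp : IsPGroup p D := hS.isPGroup
  obtain ⟨χ, hχ⟩ := Cfsg.Agent.Lib.Helper20Block.IsPBlock.nonempty hPr hB
  have hcs : CSub p D g := cSub_of_blockCoeff hM hB hχ (hy.2.2 χ hχ) hS hh
  refine ⟨?_, ?_⟩
  · intro hcon
    apply hh
    rw [Cfsg.Agent.Lib.Helper81Orth.blockCoeff_eq_zero_of_singular hM hB hcon]
    exact memLocalIdeal_zero
  · have hcD : g ∈ Subgroup.centralizer (D : Set G) := by
      by_contra hcon
      apply hh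
      rw [Cfsg.Agent.Lib.Helper80Supp.blockCoeff_eq_zero_of_normal hM D hDp hB hcon]
      exact memLocalIdeal_zero
    have hDC : D ≤ Subgroup.centralizer ({g} : Set G) := le_centralizer_singleton_iff.mpr hcD
    obtain ⟨Q, hDQ, hQ⟩ := exists_sylIn_ge hDC hDp
    obtain ⟨t, ht⟩ := hcs Q hQ.isPGroup hQ.1
    rw [cj_normal] at ht
    rw [le_antisymm hDQ ht]
    exact hQ

/-- central characters of blocks whose defect group is not `D` vanish on good classes. -/
theorem centralChar_mem_of_good (hM : IsPModular p M) {D : Subgroup G} [hn : D.Normal]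
    (hDp : IsPGroup p D) {B : Set (IrrCharacter G)} (hB : IsPBlock M B)
    (hBD : ¬ IsDefectGroup p M B D) {χ : IrrCharacter G} (hχ : χ ∈ B) {g : G}
    (hg : Good p D g) : MemLocalIdeal M (centralChar (χ : G → ℂ) g) := by
  by_contra hh
  apply hBD
  obtain ⟨D', hD'⟩ := Cfsg.Agent.Lib.Helper20Induced.exists_defectGroup hM hB
  obtain ⟨t, ht⟩ := Cfsg.Agent.Lib.Helper20Conj.defectGroup_le_of_centralChar hM hB hD' hχ hh hg.2
  rw [cj_normal] at ht
  have h2 := Cfsg.Agent.Lib.Helper20Brauer.le_defectGroup_of_normal hM D hDp hB hD'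
  rw [le_antisymm h2 ht]
  exact hD'

theorem centralChar_classfn (χ : IrrCharacter G) :
    IsClassFunction G (centralChar (χ : G → ℂ)) := fun g h =>
  Cfsg.Agent.Lib.Helper20Induced.centralChar_conj (fun a b => irr_conj χ a b) g h

theorem centralChar_loc (hPr : M.IsPrime) (χ : IrrCharacter G) (g : G) :
    MemLocalRing M (centralChar (χ : G → ℂ) g) :=
  memLocalRing_of_isIntegral (irr_omega_integral χ g)

theorem sum_coeff_central (hM : IsPModular p M) {D : Subgroup G} [hn : D.Normal]
    {ι : Type*} [Fintype ι] {x : ι → G} (hx : Reps p D x)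
    {B : Set (IrrCharacter G)} (hB : IsPBlock M B) (hBD : IsDefectGroup p M B D)
    (χ : IrrCharacter G) [Decidable (χ ∈ B)] :
    MemLocalIdeal M (∑ i, blockCoeff B (x i) * centralChar (χ : G → ℂ) (x i)
      - if χ ∈ B then 1 else 0) := by
  classical
  have hPr := IsPModular.isPrime hM
  have h1 := om_blockCoeff B χ
  rw [om_eq_sum_classes (blockCoeff_classfn B)] at h1
  have h2 := sum_classes_congr (p := p) hPr hx
    (φ := fun g => blockCoeff B g * centralChar (χ : G → ℂ) g)
    (by
      intro g h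
      simp only [blockCoeff_classfn B g h, centralChar_classfn χ g h])
    (by
      intro g hg
      exact memLocalIdeal_mul_right (blockCoeff_mem_of_not_good hM hB hBD hg)
        (centralChar_loc hPr χ g))
  rw [h1] at h2
  have h3 := memLocalIdeal_neg h2
  rw [neg_sub] at h3
  convert h3 using 3

theorem sum_ind (D : Subgroup G) [Fintype D] [DecidablePred (· ∈ D)] (f : G → ℂ) :
    ∑ h, (if h ∈ D then (1 : ℂ) else 0) * f h = ∑ u : D, f u := by
  simp only [ite_mul, one_mul, zero_mul]
  rw [← Finset.sum_filter]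
  exact Finset.sum_subtype _ (by simp) f

theorem sum_normal_mul (χ : IrrCharacter G) (D : Subgroup G) [hn : D.Normal] [Fintype D] (y : G) :
    ∑ u : D, (χ : G → ℂ) (u * y)
      = (∑ u : D, (χ : G → ℂ) u) * (χ : G → ℂ) y / (χ : G → ℂ) 1 := by
  classical
  have h := irr_sum_classfn χ (fun h => if h ∈ D then 1 else 0) (by
    intro g h
    have : h * g * h⁻¹ ∈ D ↔ g ∈ D :=
      ⟨fun h' => by simpa [mul_assoc] using hn.conj_mem _ h' h⁻¹, fun h' => hn.conj_mem _ h' h⟩
    simp only [this]) y
  rw [sum_ind D (fun h => (χ : G → ℂ) (h * y)), sum_ind D (fun h => (χ : G → ℂ) h)] at h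
  exact h

theorem sum_normal (χ : IrrCharacter G) (D : Subgroup G) [hn : D.Normal] [Fintype D] :
    ∑ u : D, (χ : G → ℂ) u = 0 ∨ ∑ u : D, (χ : G → ℂ) u = (Nat.card D : ℂ) * (χ : G → ℂ) 1 := by
  set σ := ∑ u : D, (χ : G → ℂ) u with hσ
  have h1 : ∑ y : D, ∑ u : D, (χ : G → ℂ) ((u : G) * y) = (Nat.card D : ℂ) * σ := by
    have : ∀ y : D, ∑ u : D, (χ : G → ℂ) ((u : G) * y) = σ :=
      fun y => Fintype.sum_equiv (Equiv.mulRight y) _ _ (fun u => rfl)
    rw [Finset.sum_congr rfl (fun y _ => this y)]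
    simp [Nat.card_eq_fintype_card]
  have h2 : ∑ y : D, ∑ u : D, (χ : G → ℂ) ((u : G) * y) = σ * σ / (χ : G → ℂ) 1 := by
    rw [Finset.sum_congr rfl (fun (y : D) _ => sum_normal_mul χ D (y : G)), ← Finset.sum_div,
      ← Finset.mul_sum]
  by_cases h0 : σ = 0
  · left; exact h0
  · right
    have h3 : (Nat.card D : ℂ) * σ = σ * σ / (χ : G → ℂ) 1 := h1.symm.trans h2
    have h4 := irr_one_ne_zero χ
    field_simp at h3
    exact h3.symm

theorem le_sylow_of_normal {D : Subgroup G} [hn : D.Normal] (hDp : IsPGroup p D) (S : Sylow p G) :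
    D ≤ S := by
  obtain ⟨z, hz⟩ := exists_conj_le_sylow S hDp
  rwa [cj_normal] at hz

theorem sum_sylow_eq (hM : IsPModular p M) {D : Subgroup G} [hn : D.Normal]
    {B : Set (IrrCharacter G)} (hB : IsPBlock M B) (hBD : IsDefectGroup p M B D)
    {χ : IrrCharacter G} (hχ : χ ∈ B) (S : Sylow p G) [Fintype (S : Subgroup G)] [Fintype D] :
    ∑ s : (S : Subgroup G), (χ : G → ℂ) s = ∑ u : D, (χ : G → ℂ) u := by
  classical
  have hPr := IsPModular.isPrime hM
  obtain ⟨y, hy, hS⟩ := isDefectGroup_iff.mp hBD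
  have hDp : IsPGroup p D := hS.isPGroup
  have hDS := le_sylow_of_normal hDp S
  rw [← sum_ind (S : Subgroup G), ← sum_ind D]
  apply Finset.sum_congr rfl
  intro h _
  by_cases h1 : h ∈ D
  · rw [if_pos h1, if_pos (hDS h1)]
  · rw [if_neg h1, zero_mul]
    by_cases h2 : h ∈ (S : Subgroup G)
    · rw [if_pos h2, one_mul]
      have ho : ∃ k : ℕ, orderOf h = p ^ k := by
        obtain ⟨k, hk⟩ := (IsPGroup.iff_orderOf.mp S.2) ⟨h, h2⟩
        exact ⟨k, by rw [← hk, Subgroup.orderOf_mk]⟩
      apply Cfsg.Agent.S0924.result p M hM χ h h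
        (Cfsg.Agent.Lib.Helper81Columns.isPPart_self Fact.out ho)
      intro D' hD'
      rw [← Cfsg.Agent.Lib.Helper20Block.IsPBlock.eq_blockOf hPr hB hχ] at hD'
      obtain ⟨t, ht⟩ := Cfsg.Agent.Lib.Helper20Conj.defectGroup_conj hM hB hBD hD'
      rw [cj_normal] at ht
      rw [ht]
      exact h1
    · rw [if_neg h2, zero_mul]

theorem good_index {D : Subgroup G} {g : G} (hg : Good p D g) :
    ∃ N : ℕ, (Subgroup.centralizer ({g} : Set G)).index
      = p ^ ((Nat.card G).factorization p - (Nat.card D).factorization p) * N ∧ ¬ p ∣ N := by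
  have hp : p.Prime := Fact.out
  set C := Subgroup.centralizer ({g} : Set G) with hC
  have h1 : Nat.card C * C.index = Nat.card G := Subgroup.card_mul_index C
  have hi : C.index ≠ 0 := Subgroup.index_ne_zero_of_finite
  have hc : Nat.card C ≠ 0 := Nat.card_pos.ne'
  have h2 : (Nat.card D).factorization p = (Nat.card C).factorization p := by
    rw [hg.2.2, hp.factorization_pow]
    simp [hC]
  have h3 : (Nat.card G).factorization p
      = (Nat.card C).factorization p + C.index.factorization p := by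
    rw [← h1, Nat.factorization_mul hc hi]
    rfl
  refine ⟨C.index / p ^ C.index.factorization p, ?_, Nat.not_dvd_ordCompl hp hi⟩
  rw [h3, h2, Nat.add_sub_cancel_left]
  exact (Nat.ordProj_mul_ordCompl_eq_self C.index p).symm

theorem key_rel (hM : IsPModular p M) {D : Subgroup G} [hn : D.Normal]
    {B : Set (IrrCharacter G)} (hB : IsPBlock M B) (hBD : IsDefectGroup p M B D)
    {χ : IrrCharacter G} (hχ : χ ∈ B) (S : Sylow p G) [Fintype (S : Subgroup G)] {q : ℕ}
    (hq : Nat.card (S : Subgroup G) = q * Nat.card D) {m : ℕ}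
    (hm : ∑ s : (S : Subgroup G), (χ : G → ℂ) s = (Nat.card (S : Subgroup G) : ℂ) * m)
    {g : G} {N : ℕ} (hN : (Subgroup.centralizer ({g} : Set G)).index = q * N) :
    (m : ℂ) * N * (χ : G → ℂ) g = (m : ℂ) ^ 2 * centralChar (χ : G → ℂ) g := by
  classical
  have hS0 : (Nat.card (S : Subgroup G) : ℂ) ≠ 0 := by exact_mod_cast Nat.card_pos.ne'
  have hD0 : (Nat.card D : ℂ) ≠ 0 := by exact_mod_cast Nat.card_pos.ne'
  rw [sum_sylow_eq hM hB hBD hχ S] at hm
  rcases sum_normal χ D with h0 | h0
  · rw [h0] at hm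
    have : (m : ℂ) = 0 := by
      rcases mul_eq_zero.mp hm.symm with h | h
      · exact absurd h hS0
      · exact h
    rw [this]; ring
  · rw [h0, hq] at hm
    push_cast at hm
    have h1 : (χ : G → ℂ) 1 = q * m := by
      have : (Nat.card D : ℂ) * (χ : G → ℂ) 1 = (Nat.card D : ℂ) * (q * m) := by
        rw [hm]; ring
      exact mul_left_cancel₀ hD0 this
    have h2 := irr_one_ne_zero χ
    rw [h1] at h2
    have hq0 : (q : ℂ) ≠ 0 := left_ne_zero_of_mul h2
    have hm0 : (m : ℂ) ≠ 0 := right_ne_zero_of_mul h2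
    unfold centralChar
    rw [h1, hN]
    push_cast
    field_simp

theorem cI_classfn (g : G) [DecidablePred (IsConj g)] :
    IsClassFunction G (fun h => if IsConj g h then (1 : ℂ) else 0) := by
  intro a b
  have : IsConj g (b * a * b⁻¹) ↔ IsConj g a := by
    have h1 : IsConj a (b * a * b⁻¹) := isConj_iff.mpr ⟨b, rfl⟩
    exact ⟨fun h => h.trans h1.symm, fun h => h.trans h1⟩
  simp only [this]

theorem count_eq_conv (a b : G) (S : Subgroup G) [Fintype S] [DecidablePred (IsConj b)]
    [DecidablePred (IsConj a⁻¹)] :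
    (Nat.card {yz : G × G // IsConj a yz.1 ∧ IsConj b yz.2 ∧ yz.2 * yz.1⁻¹ ∈ S} : ℂ)
      = ∑ s : S, conv (fun h => if IsConj b h then (1 : ℂ) else 0)
          (fun h => if IsConj a⁻¹ h then (1 : ℂ) else 0) s := by
  classical
  rw [Nat.card_eq_fintype_card, Fintype.card_subtype, ← Finset.sum_boole,
    Fintype.sum_prod_type_right, ← sum_ind S]
  unfold conv
  simp only [Finset.mul_sum]
  conv_rhs => rw [Finset.sum_comm]
  apply Finset.sum_congr rfl
  intro z _
  apply Fintype.sum_equiv ((Equiv.inv G).trans (Equiv.mulLeft z))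
  intro y
  simp only [Equiv.trans_apply, Equiv.inv_apply, Equiv.coe_mulLeft, inv_mul_cancel_left,
    isConj_inv_inv]
  by_cases h1 : IsConj a y <;> by_cases h2 : IsConj b z <;> by_cases h3 : z * y⁻¹ ∈ S <;>
    simp only [h1, h2, h3, true_and, and_true, false_and, and_false, if_true, if_false, mul_one,
      mul_zero, one_mul, zero_mul]

theorem count_eq (a b : G) (S : Subgroup G) [Fintype S] (m : IrrCharacter G → ℕ)
    (hm : ∀ χ : IrrCharacter G, ∑ s : S, (χ : G → ℂ) s = (Nat.card S : ℂ) * m χ) :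
    (Nat.card {yz : G × G // IsConj a yz.1 ∧ IsConj b yz.2 ∧ yz.2 * yz.1⁻¹ ∈ S} : ℂ)
      = (Nat.card G : ℂ)⁻¹ * (Nat.card S : ℂ) * ∑ χ : IrrCharacter G,
        (χ : G → ℂ) 1 * m χ * centralChar (χ : G → ℂ) b * centralChar (χ : G → ℂ) a⁻¹ := by
  classical
  rw [count_eq_conv]
  have h1 : ∀ s : S, conv (fun h => if IsConj b h then (1 : ℂ) else 0)
      (fun h => if IsConj a⁻¹ h then (1 : ℂ) else 0) s
      = (Nat.card G : ℂ)⁻¹ * ∑ χ : IrrCharacter G, (χ : G → ℂ) 1 * conj ((χ : G → ℂ) s)
        * (centralChar (χ : G → ℂ) b * centralChar (χ : G → ℂ) a⁻¹) := by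
    intro s
    rw [inversion (conv_classfn (cI_classfn b) (cI_classfn a⁻¹)) (s : G)]
    congr 1
    apply Finset.sum_congr rfl
    intro χ _
    rw [om_conv (cI_classfn b), ← Cfsg.Agent.Lib.Helper21Cover.centralChar_eq_om,
      ← Cfsg.Agent.Lib.Helper21Cover.centralChar_eq_om]
  rw [Finset.sum_congr rfl (fun s _ => h1 s), ← Finset.mul_sum, Finset.sum_comm, mul_assoc]
  congr 1
  rw [Finset.mul_sum]
  apply Finset.sum_congr rfl
  intro χ _
  have h2 : ∑ s : S, conj ((χ : G → ℂ) s) = (Nat.card S : ℂ) * m χ := by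
    rw [← map_sum, hm χ]
    simp
  calc ∑ s : S, (χ : G → ℂ) 1 * conj ((χ : G → ℂ) s)
        * (centralChar (χ : G → ℂ) b * centralChar (χ : G → ℂ) a⁻¹)
      = (χ : G → ℂ) 1 * (∑ s : S, conj ((χ : G → ℂ) s))
        * (centralChar (χ : G → ℂ) b * centralChar (χ : G → ℂ) a⁻¹) := by
        rw [Finset.mul_sum, Finset.sum_mul]
    _ = _ := by rw [h2]; ring

theorem card_sylow_eq {D : Subgroup G} [hn : D.Normal] (hDp : IsPGroup p D) (S : Sylow p G) :
    Nat.card (S : Subgroup G)
      = p ^ ((Nat.card G).factorization p - (Nat.card D).factorization p) * Nat.card D := by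
  have hp : p.Prime := Fact.out
  obtain ⟨n, hn'⟩ := IsPGroup.iff_card.mp hDp
  have h1 : (Nat.card D).factorization p = n := by
    rw [hn', hp.factorization_pow]; simp
  have h2 : Nat.card (S : Subgroup G) = p ^ (Nat.card G).factorization p :=
    Sylow.card_eq_multiplicity S
  have h3 : Nat.card D ∣ Nat.card (S : Subgroup G) :=
    Subgroup.card_dvd_of_le (le_sylow_of_normal hDp S)
  rw [hn', h2] at h3
  have h4 : n ≤ (Nat.card G).factorization p := (Nat.pow_dvd_pow_iff_le_right hp.one_lt).mp h3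
  rw [h2, h1, hn', pow_sub_mul_pow p h4]

/-- congruence of a weighted sum of central characters over a block. -/
theorem sum_block_congr (hPr : M.IsPrime) {B : Set (IrrCharacter G)} (hB : IsPBlock M B)
    [DecidablePred (· ∈ B)] (m : IrrCharacter G → ℕ) {χ₀ : IrrCharacter G} (hχ₀ : χ₀ ∈ B) (g : G) :
    MemLocalIdeal M ((∑ χ : IrrCharacter G,
        if χ ∈ B then (m χ : ℂ) ^ 2 * centralChar (χ : G → ℂ) g else 0)
      - (∑ χ : IrrCharacter G, if χ ∈ B then (m χ : ℂ) ^ 2 else 0)
        * centralChar (χ₀ : G → ℂ) g) := by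
  rw [Finset.sum_mul, ← Finset.sum_sub_distrib]
  apply memLocalIdeal_sum
  intro χ _
  split_ifs with h
  · rw [← mul_sub]
    apply memLocalIdeal_mul (memLocalRing_pow (memLocalRing_natCast _) _)
    exact Cfsg.Agent.Lib.Helper20Block.IsPBlock.sameBlock hPr hB h hχ₀ g
  · rw [zero_mul, sub_zero]; exact memLocalIdeal_zero

theorem t_not_mem (hM : IsPModular p M) {D : Subgroup G} [hn : D.Normal]
    {B : Set (IrrCharacter G)} (hB : IsPBlock M B) (hBD : IsDefectGroup p M B D)
    (S : Sylow p G) [Fintype (S : Subgroup G)] (m : IrrCharacter G → ℕ)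
    (hm : ∀ χ : IrrCharacter G,
      ∑ s : (S : Subgroup G), (χ : G → ℂ) s = (Nat.card (S : Subgroup G) : ℂ) * m χ)
    [DecidablePred (· ∈ B)] :
    ¬ MemLocalIdeal M (∑ χ : IrrCharacter G, if χ ∈ B then (m χ : ℂ) ^ 2 else 0) := by
  classical
  have hPr := IsPModular.isPrime hM
  have hp : p.Prime := Fact.out
  intro ht
  obtain ⟨g, hg, hS⟩ := isDefectGroup_iff.mp hBD
  have hDp : IsPGroup p D := hS.isPGroup
  have hgood : Good p D g := by
    by_contra hcon
    exact hg.2.1 (blockCoeff_mem_of_not_good hM hB hBD hcon)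
  obtain ⟨N, hN, hpN⟩ := good_index hgood.inv
  have hq := card_sylow_eq hDp S
  obtain ⟨χ₀, hχ₀⟩ := Cfsg.Agent.Lib.Helper20Block.IsPBlock.nonempty hPr hB
  have hc : ∀ x ∈ D, x * g = g * x := fun x hx =>
    Subgroup.mem_centralizer_singleton_iff.mp (hS.1 hx)
  have e1 := Cfsg.Agent.Lib.Helper20DefCard.blockCoeff_eq_sum_coset hM hB D hDp hc hgood.1
  have e2 : ∑ u : D, blockCoeff B ((u : G) * g) = (Nat.card G : ℂ)⁻¹ *
      ∑ χ : IrrCharacter G, if χ ∈ B then
        (Nat.card (S : Subgroup G) : ℂ) * m χ * (χ : G → ℂ) g⁻¹ else 0 := by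
    simp only [blockCoeff_eq]
    rw [← Finset.mul_sum, Finset.sum_comm]
    congr 1
    apply Finset.sum_congr rfl
    intro χ _
    split_ifs with h
    · rw [← Finset.mul_sum, ← map_sum, sum_normal_mul, ← sum_sylow_eq hM hB hBD h S, hm χ,
        irr_inv]
      have h1 : conj ((χ : G → ℂ) 1) = (χ : G → ℂ) 1 := by
        rw [← charDegree_eq]; simp
      have h2 := irr_one_ne_zero χ
      rw [map_div₀, map_mul, map_mul, h1]
      simp only [map_natCast]
      field_simp
    · simp
  have e3 : (Nat.card G : ℂ) * N * blockCoeff B g = (Nat.card (S : Subgroup G) : ℂ) *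
      ∑ χ : IrrCharacter G, if χ ∈ B then (m χ : ℂ) ^ 2 * centralChar (χ : G → ℂ) g⁻¹ else 0 := by
    rw [e1, e2]
    have hG0 : (Nat.card G : ℂ) ≠ 0 := card_ne_zero
    rw [mul_comm (Nat.card G : ℂ) (N : ℂ), mul_assoc, mul_inv_cancel_left₀ hG0, Finset.mul_sum,
      Finset.mul_sum]
    apply Finset.sum_congr rfl
    intro χ _
    split_ifs with h
    · rw [← key_rel hM hB hBD h S hq (hm χ) hN]
      ring
    · simp
  have hidx : Nat.card (S : Subgroup G) * (S : Subgroup G).index = Nat.card G :=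
    Subgroup.card_mul_index _
  have hS0 : (Nat.card (S : Subgroup G) : ℂ) ≠ 0 := by exact_mod_cast Nat.card_pos.ne'
  have e4 : (((S : Subgroup G).index * N : ℕ) : ℂ) * blockCoeff B g =
      ∑ χ : IrrCharacter G, if χ ∈ B then (m χ : ℂ) ^ 2 * centralChar (χ : G → ℂ) g⁻¹ else 0 := by
    apply mul_left_cancel₀ hS0
    rw [← e3, ← hidx]
    push_cast
    ring
  have e5 : MemLocalIdeal M (∑ χ : IrrCharacter G,
      if χ ∈ B then (m χ : ℂ) ^ 2 * centralChar (χ : G → ℂ) g⁻¹ else 0) := by
    have h1 := sum_block_congr hPr hB m hχ₀ g⁻¹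
    have h2 := memLocalIdeal_mul_right ht (centralChar_loc hPr χ₀ g⁻¹)
    have h3 := memLocalIdeal_add h1 h2
    rwa [sub_add_cancel] at h3
  rw [← e4] at e5
  rcases memLocalIdeal_or_of_mul (memLocalRing_natCast _) hg.1 e5 with h | h
  · rw [memLocalIdeal_natCast_iff hM] at h
    rcases hp.dvd_mul.mp h with h | h
    · exact S.not_dvd_index h
    · exact hpN h
  · exact hg.2.1 h

theorem mul_sub_mul_mem (hPr : M.IsPrime) {a a' b b' : ℂ} (ha' : MemLocalRing M a')
    (hb : MemLocalRing M b) (h1 : MemLocalIdeal M (a - a')) (h2 : MemLocalIdeal M (b - b')) :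
    MemLocalIdeal M (a * b - a' * b') := by
  have : a * b - a' * b' = (a - a') * b + a' * (b - b') := by ring
  rw [this]
  exact memLocalIdeal_add (memLocalIdeal_mul_right h1 hb) (memLocalIdeal_mul ha' h2)

/-- **Robinson's theorem** (representatives form). -/
theorem robinson (hM : IsPModular p M) (D : Subgroup G) [hn : D.Normal] (hDp : IsPGroup p D)
    (S : Sylow p G) {ι : Type*} [Fintype ι] [DecidableEq ι] {x : ι → G} (hx : Reps p D x) :
    Nat.card {B : Set (IrrCharacter G) // IsPBlock M B ∧ IsDefectGroup p M B D}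
      = (Matrix.of fun i j : ι => ((Nat.card {yz : G × G // IsConj (x i) yz.1 ∧ IsConj (x j) yz.2 ∧
          yz.2 * yz.1⁻¹ ∈ (S : Subgroup G)} /
          p ^ ((Nat.card G).factorization p - (Nat.card D).factorization p) : ℕ) : ZMod p)).rank := by
  classical
  have hPr := IsPModular.isPrime hM
  have hp : p.Prime := Fact.out
  let β := {B : Set (IrrCharacter G) // IsPBlock M B ∧ IsDefectGroup p M B D}
  haveI : Fintype β := Fintype.ofFinite β
  choose m hm using fun χ : IrrCharacter G => Cfsg.Agent.Lib.Helper81Orth2.sum_subgroup χ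
    (S : Subgroup G)
  choose r hr using fun b : β => Cfsg.Agent.Lib.Helper20Block.IsPBlock.nonempty hPr b.2.1
  choose Nn hN hpN using fun j : ι => good_index (hx.good j)
  set e := (Nat.card G).factorization p - (Nat.card D).factorization p with he
  set q := p ^ e with hq
  have hqS := card_sylow_eq hDp S
  set n' := (S : Subgroup G).index with hn'
  have hidx : Nat.card (S : Subgroup G) * n' = Nat.card G := Subgroup.card_mul_index _
  have hpn' : ¬ p ∣ n' := S.not_dvd_index
  have hn0 : (n' : ℂ) ≠ 0 := by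
    have : n' ≠ 0 := fun h => hpn' (h ▸ dvd_zero p)
    exact_mod_cast this
  have hq0 : (q : ℂ) ≠ 0 := by
    have : q ≠ 0 := pow_ne_zero _ hp.ne_zero
    exact_mod_cast this
  have hS0 : (Nat.card (S : Subgroup G) : ℂ) ≠ 0 := by exact_mod_cast Nat.card_pos.ne'
  have hG0 : (Nat.card G : ℂ) ≠ 0 := card_ne_zero
  let ω : ι → ι → ℕ := fun i j => Nat.card {yz : G × G // IsConj (x i) yz.1 ∧ IsConj (x j) yz.2 ∧
          yz.2 * yz.1⁻¹ ∈ (S : Subgroup G)}
  let T : ι → ι → ℂ := fun i j => ∑ χ : IrrCharacter G,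
    (m χ : ℂ) * Nn j * (χ : G → ℂ) (x j) * centralChar (χ : G → ℂ) (x i)⁻¹
  have hterm : ∀ (i j : ι) (χ : IrrCharacter G), MemLocalRing M
      ((m χ : ℂ) * Nn j * (χ : G → ℂ) (x j)) := fun i j χ =>
    memLocalRing_mul (memLocalRing_mul (memLocalRing_natCast _) (memLocalRing_natCast _))
      (memLocalRing_of_isIntegral (irr_integral χ _))
  have hT : ∀ i j, MemLocalRing M (T i j) := fun i j =>
    memLocalRing_sum _ _ (fun χ _ => memLocalRing_mul (hterm i j χ) (centralChar_loc hPr χ _))
  have F1 : ∀ i j, ((n' * ω i j : ℕ) : ℂ) = (q : ℂ) * T i j := by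
    intro i j
    have h1 := count_eq (x i) (x j) (S : Subgroup G) m hm
    push_cast
    show (n' : ℂ) * ((Nat.card {yz : G × G // IsConj (x i) yz.1 ∧ IsConj (x j) yz.2 ∧
          yz.2 * yz.1⁻¹ ∈ (S : Subgroup G)} : ℕ) : ℂ) = _
    rw [h1]
    have h2 : (n' : ℂ) * ((Nat.card G : ℂ)⁻¹ * (Nat.card (S : Subgroup G) : ℂ)) = 1 := by
      rw [← hidx]
      push_cast
      field_simp
    rw [← mul_assoc, h2, one_mul, Finset.mul_sum]
    apply Finset.sum_congr rfl
    intro χ _
    have h3 : (χ : G → ℂ) 1 * centralChar (χ : G → ℂ) (x j)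
        = (q : ℂ) * Nn j * (χ : G → ℂ) (x j) := by
      unfold centralChar
      rw [hN j]
      have := irr_one_ne_zero χ
      push_cast
      field_simp
    calc (χ : G → ℂ) 1 * m χ * centralChar (χ : G → ℂ) (x j) * centralChar (χ : G → ℂ) (x i)⁻¹
        = ((χ : G → ℂ) 1 * centralChar (χ : G → ℂ) (x j)) * m χ
          * centralChar (χ : G → ℂ) (x i)⁻¹ := by ring
      _ = _ := by rw [h3]; ring
  have hdvd : ∀ i j, q ∣ ω i j := by
    intro i j
    rcases Nat.eq_zero_or_pos (ω i j) with h0 | h0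
    · rw [h0]; exact dvd_zero _
    · have hne : n' * ω i j ≠ 0 :=
        Nat.mul_ne_zero (fun h => hpn' (h ▸ dvd_zero p)) h0.ne'
      have h1 := factorization_le_of_eq_mul hM hne (hT i j) (F1 i j)
      have h2 : q.factorization p = e := by
        rw [hq, hp.factorization_pow]; simp
      rw [h2] at h1
      have h3 : q ∣ n' * ω i j := (hp.pow_dvd_iff_le_factorization hne).mpr h1
      have hcop : Nat.Coprime q n' := Nat.Coprime.pow_left _ ((hp.coprime_iff_not_dvd).mpr hpn')
      exact hcop.dvd_of_dvd_mul_left h3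
  have F2 : ∀ i j, (n' : ℂ) * ((ω i j / q : ℕ) : ℂ) = T i j := by
    intro i j
    apply mul_left_cancel₀ hq0
    rw [← F1 i j]
    have : ω i j / q * q = ω i j := Nat.div_mul_cancel (hdvd i j)
    conv_rhs => rw [← this]
    push_cast
    ring
  let t : β → ℂ := fun b => ∑ χ : IrrCharacter G, if χ ∈ b.1 then (m χ : ℂ) ^ 2 else 0
  have ht : ∀ b, MemLocalRing M (t b) := fun b => memLocalRing_sum _ _ (fun χ _ => by
    split_ifs
    · exact memLocalRing_pow (memLocalRing_natCast _) _
    · exact MemLocalIdeal.memLocalRing memLocalIdeal_zero)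
  have hninv : MemLocalRing M ((n' : ℂ)⁻¹) :=
    memLocalRing_inv (memLocalRing_natCast _) (fun h => hpn' ((memLocalIdeal_natCast_iff hM).mp h))
  have hmemb : ∀ b b' : β, r b' ∈ b.1 ↔ b = b' := by
    intro b b'
    constructor
    · intro h
      exact Subtype.ext (Cfsg.Agent.Lib.Helper20Block.IsPBlock.eq_of_mem hPr b.2.1 b'.2.1 h (hr b'))
    · rintro rfl
      exact hr b
  have main := Cfsg.Agent.Lib.Helper25Rank.rank_of_congr hM (fun i j => ω i j / q)
    (fun b j => centralChar (r b : G → ℂ) (x j)) (fun b i => centralChar (r b : G → ℂ) (x i)⁻¹)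
    (fun b j => blockCoeff b.1 (x j)) (fun b i => blockCoeff b.1 (x i)⁻¹)
    (fun b => (n' : ℂ)⁻¹ * t b)
    (fun b i => centralChar_loc hPr _ _) (fun b i => centralChar_loc hPr _ _)
    (fun b i => osima b.2.1 _) (fun b i => osima b.2.1 _)
    (fun b => memLocalRing_mul hninv (ht b))
    (fun b h => by
      have h1 := memLocalIdeal_mul (memLocalRing_natCast (M := M) n') h
      rw [← mul_assoc, mul_inv_cancel₀ hn0, one_mul] at h1
      exact t_not_mem hM b.2.1 b.2.2 S m hm h1)
    (by
      intro i j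
      have key : MemLocalIdeal M (T i j - ∑ b : β, t b * (centralChar (r b : G → ℂ) (x i)⁻¹
          * centralChar (r b : G → ℂ) (x j))) := by
        have e1 : ∑ b : β, t b * (centralChar (r b : G → ℂ) (x i)⁻¹
            * centralChar (r b : G → ℂ) (x j))
            = ∑ χ : IrrCharacter G, ∑ b : β, (if χ ∈ b.1 then (m χ : ℂ) ^ 2 else 0)
              * (centralChar (r b : G → ℂ) (x i)⁻¹ * centralChar (r b : G → ℂ) (x j)) := by
          rw [Finset.sum_comm]
          apply Finset.sum_congr rfl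
          intro b _
          rw [Finset.sum_mul]
        rw [e1, ← Finset.sum_sub_distrib]
        apply memLocalIdeal_sum
        intro χ _
        by_cases hχ : IsDefectGroup p M (blockOf M (χ : G → ℂ)) D
        · let b0 : β := ⟨blockOf M (χ : G → ℂ), isPBlock_blockOf χ, hχ⟩
          have hχb : χ ∈ b0.1 := self_mem_blockOf χ
          rw [Finset.sum_eq_single b0]
          · rw [if_pos hχb, key_rel hM b0.2.1 b0.2.2 hχb S hqS (hm χ) (hN j), mul_assoc, ← mul_sub]
            apply memLocalIdeal_mul (memLocalRing_pow (memLocalRing_natCast _) _)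
            rw [mul_comm (centralChar (r b0 : G → ℂ) (x i)⁻¹)]
            exact mul_sub_mul_mem hPr (centralChar_loc hPr _ _) (centralChar_loc hPr _ _)
              (Cfsg.Agent.Lib.Helper20Block.IsPBlock.sameBlock hPr b0.2.1 hχb (hr b0) _)
              (Cfsg.Agent.Lib.Helper20Block.IsPBlock.sameBlock hPr b0.2.1 hχb (hr b0) _)
          · intro b _ hb
            rw [if_neg, zero_mul]
            intro hcon
            apply hb
            exact Subtype.ext
              (Cfsg.Agent.Lib.Helper20Block.IsPBlock.eq_of_mem hPr b.2.1 b0.2.1 hcon hχb)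
          · intro h; exact absurd (Finset.mem_univ _) h
        · rw [Finset.sum_eq_zero, sub_zero]
          · exact memLocalIdeal_mul (hterm i j χ) (centralChar_mem_of_good hM hDp
              (isPBlock_blockOf χ) hχ (self_mem_blockOf χ) (hx.good i).inv)
          · intro b _
            rw [if_neg, zero_mul]
            intro hcon
            apply hχ
            rw [← Cfsg.Agent.Lib.Helper20Block.IsPBlock.eq_blockOf hPr b.2.1 hcon]
            exact b.2.2
      have h2 := memLocalIdeal_mul hninv key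
      convert h2 using 1
      rw [← F2 i j, mul_sub, ← mul_assoc, inv_mul_cancel₀ hn0, one_mul, Finset.mul_sum]
      congr 1
      apply Finset.sum_congr rfl
      intro b _
      ring)
    (by
      intro b b'
      have h := sum_coeff_central hM hx b.2.1 b.2.2 (r b')
      simp only [hmemb] at h
      exact h)
    (by
      intro b b'
      have h := sum_coeff_central hM hx.inv b.2.1 b.2.2 (r b')
      simp only [hmemb] at h
      exact h)
  rw [Nat.card_eq_fintype_card]
  exact main.symm

end Cfsg.Agent.Lib.Helper25Rob
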