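import Mathlib
import Cfsg.Prelude.Def_Blocks
import Cfsg.Agent.Lib.Helper25Rob
import Cfsg.Agent.Lib.Helper20Major
import Cfsg.Agent.S0920

set_option autoImplicit false
set_option linter.unusedSectionVars false
set_option linter.unusedVariables false
set_option linter.unusedSimpArgs false

/-! Number of blocks of maximal defect (via Robinson's theorem and the first main theorem). -/

namespace Cfsg.Agent.Lib.Helper25Rob2

open Cfsg
open Cfsg.Agent.Lib.Helper87Sylow Cfsg.Agent.Lib.Helper81Local Cfsg.Agent.Lib.Helper81Base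
open Cfsg.Agent.Lib.Helper81BB Cfsg.Agent.Lib.Helper81Block
open Cfsg.Agent.Lib.Helper20Defect Cfsg.Agent.Lib.Helper25Green Cfsg.Agent.Lib.Helper25Rob

variable {G : Type*} [Group G] [Fintype G] {M : Ideal AlgInt} {p : ℕ} [Fact p.Prime]

/-- first main theorem, cardinality form. -/
theorem card_blocks_normalizer (hM : IsPModular p M) (D : Subgroup G) (hD : IsPGroup p D) :
    Nat.card {B : Set (IrrCharacter G) // IsPBlock M B ∧ IsDefectGroup p M B D}
      = Nat.card {b : Set (IrrCharacter (Subgroup.normalizer (D : Set G))) // IsPBlock M b ∧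
          IsDefectGroup p M b (D.subgroupOf (Subgroup.normalizer (D : Set G)))} := by
  classical
  have hPr := IsPModular.isPrime hM
  obtain ⟨h1, h2⟩ := Cfsg.Agent.S0920.result p M hM D hD
  choose F hF using fun b : {b : Set (IrrCharacter (Subgroup.normalizer (D : Set G))) //
    IsPBlock M b ∧ IsDefectGroup p M b (D.subgroupOf (Subgroup.normalizer (D : Set G)))} =>
      h1 b.1 b.2.1 b.2.2
  symm
  apply Nat.card_congr
  refine Equiv.ofBijective (fun b => ⟨F b, (hF b).1, (hF b).2.1⟩) ⟨?_, ?_⟩
  · intro b1 b2 h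
    have h' : F b1 = F b2 := congrArg Subtype.val h
    obtain ⟨b, _, hu⟩ := h2 (F b1) (hF b1).1 (hF b1).2.1
    apply Subtype.ext
    rw [hu b1.1 ⟨b1.2.1, b1.2.2, (hF b1).2.2⟩, hu b2.1 ⟨b2.2.1, b2.2.2, h' ▸ (hF b2).2.2⟩]
  · intro B
    obtain ⟨b, hb, _⟩ := h2 B.1 B.2.1 B.2.2
    refine ⟨⟨b, hb.1, hb.2.1⟩, ?_⟩
    apply Subtype.ext
    exact Cfsg.Agent.Lib.Helper20Major.induced_block_unique hPr (hF ⟨b, hb.1, hb.2.1⟩).2.2 hb.2.2

theorem eq_of_good {S : Sylow p G} {y z : G} (hy : Good p (S : Subgroup G) y)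
    (hz : ¬ p ∣ orderOf z) (h : z * y⁻¹ ∈ (S : Subgroup G)) : z = y := by
  have hp : p.Prime := Fact.out
  set s := z * y⁻¹ with hs
  have hzs : z = s * y := by rw [hs]; group
  have hc : Commute s y := Subgroup.mem_centralizer_singleton_iff.mp (hy.2.1 h)
  obtain ⟨k, hk⟩ := (IsPGroup.iff_orderOf.mp S.2) ⟨s, h⟩
  rw [Subgroup.orderOf_mk] at hk
  have hco : (orderOf s).Coprime (orderOf y) := by
    rw [hk]
    exact Nat.Coprime.pow_left _ ((hp.coprime_iff_not_dvd).mpr hy.1)
  have ho := hc.orderOf_mul_eq_mul_orderOf_of_coprime hco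
  rw [← hzs] at ho
  rcases k with _ | k
  · rw [pow_zero, orderOf_eq_one_iff] at hk
    rw [hzs, hk, one_mul]
  · exfalso
    apply hz
    rw [ho, hk]
    exact Dvd.dvd.mul_right (dvd_pow_self p (Nat.succ_ne_zero k)) _

theorem card_blocks_normal_sylow (hM : IsPModular p M) (S : Sylow p G)
    [hn : (S : Subgroup G).Normal] :
    Nat.card {B : Set (IrrCharacter G) // IsPBlock M B ∧ IsDefectGroup p M B (S : Subgroup G)}
      = Nat.card {C : ConjClasses G // Good p (S : Subgroup G) (Quotient.out C)} := by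
  classical
  have hp : p.Prime := Fact.out
  let ι := {C : ConjClasses G // Good p (S : Subgroup G) (Quotient.out C)}
  let x : ι → G := fun C => Quotient.out C.1
  have hx : Reps p (S : Subgroup G) x :=
    { good := fun i => i.2
      inj := fun i j h => by
        apply Subtype.ext
        have := ConjClasses.mk_eq_mk_iff_isConj.mpr h
        have e1 : ConjClasses.mk (Quotient.out i.1) = i.1 := Quotient.out_eq i.1
        have e2 : ConjClasses.mk (Quotient.out j.1) = j.1 := Quotient.out_eq j.1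
        rw [← e1, ← e2]; exact this
      surj := fun g hg => by
        have e1 : ConjClasses.mk (Quotient.out (ConjClasses.mk g)) = ConjClasses.mk g :=
          Quotient.out_eq _
        have hc : IsConj (Quotient.out (ConjClasses.mk g)) g :=
          ConjClasses.mk_eq_mk_iff_isConj.mp e1
        exact ⟨⟨ConjClasses.mk g, hg.conj hc.symm⟩, hc⟩ }
  have hfac : (Nat.card (S : Subgroup G)).factorization p = (Nat.card G).factorization p := by
    rw [Sylow.card_eq_multiplicity S, hp.factorization_pow]; simp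
  rw [robinson hM (S : Subgroup G) S.2 S hx, hfac, Nat.sub_self, pow_zero]
  have hdiag : (Matrix.of fun i j : ι => ((Nat.card {yz : G × G // IsConj (x i) yz.1 ∧
      IsConj (x j) yz.2 ∧ yz.2 * yz.1⁻¹ ∈ (S : Subgroup G)} / 1 : ℕ) : ZMod p))
      = Matrix.diagonal (fun i : ι =>
        (((Subgroup.centralizer ({x i} : Set G)).index : ℕ) : ZMod p)) := by
    ext i j
    rw [Matrix.of_apply, Nat.div_one, Matrix.diagonal_apply]
    split_ifs with hij
    · subst hij
      congr 1
      rw [← card_conj (x i), ← Fintype.card_subtype, ← Nat.card_eq_fintype_card]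
      apply Nat.card_congr
      refine ⟨fun yz => ⟨yz.1.1, yz.2.1⟩, fun y => ⟨(y.1, y.1), y.2, y.2, by simp⟩, ?_, ?_⟩
      · rintro ⟨⟨y, z⟩, h1, h2, h3⟩
        have : z = y := eq_of_good ((hx.good i).conj h1) ((hx.good i).conj h2).1 h3
        subst this
        rfl
      · intro y; rfl
    · have : IsEmpty {yz : G × G // IsConj (x i) yz.1 ∧
          IsConj (x j) yz.2 ∧ yz.2 * yz.1⁻¹ ∈ (S : Subgroup G)} := by
        constructor
        rintro ⟨⟨y, z⟩, h1, h2, h3⟩
        have : z = y := eq_of_good ((hx.good i).conj h1) ((hx.good j).conj h2).1 h3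
        subst this
        exact hij (hx.inj i j (h1.trans h2.symm))
      rw [Nat.card_of_isEmpty]
      simp
  rw [hdiag, Nat.card_eq_fintype_card]
  apply Matrix.rank_of_det_ne_zero
  rw [Matrix.det_diagonal]
  apply Finset.prod_ne_zero_iff.mpr
  intro i _ h0
  rw [ZMod.natCast_eq_zero_iff] at h0
  obtain ⟨N, hN, hpN⟩ := good_index (hx.good i)
  rw [hfac, Nat.sub_self, pow_zero, one_mul] at hN
  rw [hN] at h0
  exact hpN h0

end Cfsg.Agent.Lib.Helper25Rob2
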