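import Mathlib
import Cfsg.Agent.Lib.Helper46SLn4
import Cfsg.Agent.Lib.Helper46SLn5
import Cfsg.Agent.Lib.Helper46SL2CharF
import Cfsg.Agent.Lib.Helper50Syl
import Cfsg.Agent.Lib.Helper81Defect
import Cfsg.Agent.Lib.Helper21PS
import Cfsg.Agent.S0165
import Cfsg.Agent.S0955
import Cfsg.Agent.S0956
import Cfsg.Agent.S0953
import Cfsg.Agent.S0908

set_option autoImplicit false
set_option linter.unusedSectionVars false
set_option linter.unusedSimpArgs false

/-! `p`-blocks of `SL_n(F)` in the defining characteristic. -/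

namespace Cfsg.Agent.Lib.Helper46DZ2

open Cfsg Matrix Cfsg.Agent.Lib.Helper46SLn1 Cfsg.Agent.Lib.Helper46SLn3 Cfsg.Agent.Lib.Helper46SLn4
open Cfsg.Agent.Lib.Helper46SLn5 Cfsg.Agent.Lib.Helper83Char

section General

variable {G : Type*} [Group G] [Finite G] (p : ℕ) [Fact p.Prime]

/-- characters of `p`-defect zero vanish on `p`-singular elements. -/
theorem vanish_of_dz {χ : G → ℂ} (hχ : IsIrrCharacter G χ)
    (h : (charDegree χ).factorization p = (Nat.card G).factorization p) {x : G} (hx : p ∣ orderOf x) :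
    χ x = 0 := by
  have hc := charDegree_cast hχ
  obtain ⟨d, ρ, hirr, rfl⟩ := hχ
  have hd : charDegree ρ.character = d := by
    have h1 : ρ.character 1 = (d : ℂ) := by simp
    rw [h1] at hc
    exact_mod_cast hc
  have hp := (Fact.out : p.Prime)
  apply Cfsg.Agent.S0165.result ρ p ((Nat.card G).factorization p) hp (Nat.ordProj_dvd _ _)
    (Nat.pow_succ_factorization_not_dvd Nat.card_pos.ne' hp) _ x hx
  rw [← h, hd]
  simpa using Nat.ordProj_dvd d p

end General

variable {F : Type*} [Field F] [Fintype F] (p : ℕ) [Fact p.Prime] [CharP F p]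

theorem UU_eq (n : ℕ) : UU n F = Cfsg.Agent.Lib.Helper50Syl.U F (1 : Equiv.Perm (Fin n)) := by
  ext g; exact Iff.rfl

theorem exists_sylow_UU (n : ℕ) : ∃ P : Sylow p (Matrix.SpecialLinearGroup (Fin n) F), (P : Subgroup _) = UU n F := by
  rw [UU_eq]; exact Cfsg.Agent.Lib.Helper50Syl.exists_sylow p 1

theorem card_UU (n : ℕ) : Nat.card (UU n F) = Fintype.card F ^ (n * (n - 1) / 2) := by
  rw [UU_eq]; exact Cfsg.Agent.Lib.Helper50Syl.card_U 1

theorem card_UU_eq (n : ℕ) :
    Nat.card (UU n F) = p ^ (Nat.card (Matrix.SpecialLinearGroup (Fin n) F)).factorization p := by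
  obtain ⟨P, hP⟩ := exists_sylow_UU (F := F) p n
  rw [← hP]; exact P.card_eq_multiplicity

theorem fac_pos {n : ℕ} (hn : 2 ≤ n) : 0 < (Nat.card (Matrix.SpecialLinearGroup (Fin n) F)).factorization p := by
  rw [Nat.pos_iff_ne_zero]
  intro h0
  have h1 := card_UU_eq (F := F) p n
  rw [h0, pow_zero, card_UU] at h1
  have h2 : 1 < Fintype.card F := Fintype.one_lt_card
  have h3 : n * (n - 1) / 2 ≠ 0 := by
    obtain ⟨k, rfl⟩ := Nat.exists_eq_add_of_le hn
    have : 2 ≤ (2 + k) * (2 + k - 1) := by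
      have : 2 + k - 1 = k + 1 := by omega
      rw [this]; nlinarith
    omega
  have := Nat.one_lt_pow h3 h2
  omega

theorem dvd_orderOf_of_mem_UU {n : ℕ} {u : Matrix.SpecialLinearGroup (Fin n) F} (hu : u ∈ UU n F) (h1 : u ≠ 1) :
    p ∣ orderOf u := by
  have hpg : IsPGroup p (UU n F) := IsPGroup.of_card (card_UU_eq p n)
  obtain ⟨k, hk⟩ := hpg ⟨u, hu⟩
  have hk' : u ^ p ^ k = 1 := by
    have := congrArg Subtype.val hk
    simpa using this
  obtain ⟨j, -, hj⟩ := (Nat.dvd_prime_pow (Fact.out : p.Prime)).1 (orderOf_dvd_of_pow_eq_one hk')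
  rw [hj]
  rcases Nat.eq_zero_or_pos j with h0 | h0
  · exfalso
    rw [h0, pow_zero, orderOf_eq_one_iff] at hj
    exact h1 hj
  · exact dvd_pow_self p h0.ne'

/-- **Existence** of a character of defect zero. -/
theorem exists_dz {n : ℕ} (hn : 2 ≤ n) : ∃ χ : IrrCharacter (Matrix.SpecialLinearGroup (Fin n) F),
    (charDegree (χ : Matrix.SpecialLinearGroup (Fin n) F → ℂ)).factorization p =
      (Nat.card (Matrix.SpecialLinearGroup (Fin n) F)).factorization p := by
  obtain ⟨m, rfl⟩ : ∃ m, n = m + 1 := ⟨n - 1, by omega⟩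
  obtain ⟨χ, hχ, h1, -⟩ := exists_St (m := m) (F := F)
  refine ⟨⟨χ, hχ⟩, ?_⟩
  have h2 : charDegree χ = Nat.card (UU (m + 1) F) := by
    have := charDegree_cast hχ
    rw [h1] at this
    exact_mod_cast this
  show (charDegree χ).factorization p = _
  rw [h2, card_UU_eq p, Nat.Prime.factorization_pow (Fact.out : p.Prime)]
  simp

/-- **Uniqueness** of the character of defect zero. -/
theorem unique_dz {n : ℕ} (hn : 2 ≤ n) {χ χ' : Matrix.SpecialLinearGroup (Fin n) F → ℂ}
    (hχ : IsIrrCharacter _ χ) (hχ' : IsIrrCharacter _ χ')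
    (h : (charDegree χ).factorization p = (Nat.card (Matrix.SpecialLinearGroup (Fin n) F)).factorization p)
    (h' : (charDegree χ').factorization p = (Nat.card (Matrix.SpecialLinearGroup (Fin n) F)).factorization p) :
    χ = χ' := by
  classical
  rcases Nat.lt_or_ge 2 n with h3 | h3
  · obtain ⟨m, rfl⟩ : ∃ m, n = m + 1 := ⟨n - 1, by omega⟩
    apply unique_of_vanish (by omega) hχ hχ'
    · intro u hu hne
      exact vanish_of_dz p hχ h (dvd_orderOf_of_mem_UU p hu hne)
    · intro u hu hne
      exact vanish_of_dz p hχ' h' (dvd_orderOf_of_mem_UU p hu hne)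
  · obtain rfl : n = 2 := by omega
    obtain ⟨C, hC⟩ := Cfsg.Agent.Lib.Helper46SL2CharB.exists_isNS (F := F)
    have hq : Fintype.card F = p ^ (Nat.card (Matrix.SpecialLinearGroup (Fin 2) F)).factorization p := by
      rw [← card_UU_eq p 2, card_UU]; simp
    have hq2 : 2 ≤ Fintype.card F := Fintype.one_lt_card
    have key : ∀ ξ : Matrix.SpecialLinearGroup (Fin 2) F → ℂ, IsIrrCharacter _ ξ →
        (charDegree ξ).factorization p = (Nat.card (Matrix.SpecialLinearGroup (Fin 2) F)).factorization p →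
        ξ = Cfsg.Agent.Lib.Helper46SL2CharC.St := by
      intro ξ hξ hfac
      have hdvd : Fintype.card F ∣ charDegree ξ := by
        rw [hq, ← hfac]; exact Nat.ordProj_dvd _ _
      obtain ⟨k, hk, hcases⟩ := Cfsg.Agent.Lib.Helper46SL2CharF.classify_deg hC hξ
      have hk' : charDegree ξ = k := by
        have := charDegree_cast hξ
        rw [hk] at this
        exact_mod_cast this
      rw [hk'] at hdvd
      have hkpos : 0 < k := by rw [← hk']; exact charDegree_pos hξ
      have hle := Nat.le_of_dvd hkpos hdvd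
      rcases hcases with ⟨h1, -⟩ | ⟨-, h1⟩ | ⟨h1, -⟩ | ⟨h1, -⟩ | ⟨-, h1, -⟩ | ⟨-, h1, -⟩
      · omega
      · exact h1
      · exfalso
        rw [h1] at hdvd
        have := (Nat.dvd_add_right (dvd_refl _)).1 hdvd
        have := Nat.le_of_dvd one_pos this
        omega
      · omega
      · omega
      · omega
    rw [key χ hχ h, key χ' hχ' h']

section Blocks

variable {p} {n : ℕ} {M : Ideal AlgInt}

local notation "SLn" => Matrix.SpecialLinearGroup (Fin n) F

/-- every block has defect zero or full defect. -/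
theorem defect_dichotomy (hn : 0 < n) (hM : IsPModular p M) {B : Set (IrrCharacter SLn)} (hB : IsPBlock M B) :
    blockDefect p B = 0 ∨ blockDefect p B = (Nat.card SLn).factorization p := by
  classical
  have : Fintype SLn := Fintype.ofFinite _
  obtain ⟨D, hD⟩ := Cfsg.Agent.Lib.Helper20Induced.exists_defectGroup hM hB
  have hcard := Cfsg.Agent.S0908.result p M hM B hB D hD
  by_cases h0 : blockDefect p B = 0
  · exact Or.inl h0
  right
  have hp := (Fact.out : p.Prime)
  have hDp : IsPGroup p D := IsPGroup.of_card hcard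
  have hD1 : D ≠ ⊥ := by
    intro hb
    rw [hb, Subgroup.card_bot] at hcard
    have := Nat.one_lt_pow h0 hp.one_lt
    omega
  obtain ⟨P, hDP⟩ := hDp.exists_le_sylow
  obtain ⟨x, hx, ⟨S, hS⟩, -⟩ := Cfsg.Agent.S0956.result p M hM B hB D hD P hDP
  have hrad := Cfsg.Agent.S0955.result p M hM B hB D hD
  have hcomm : ∀ d ∈ D, d * x = x * d := by
    intro d hd
    rw [← hS] at hd
    obtain ⟨c, -, rfl⟩ := hd
    have := c.2
    rw [Subgroup.mem_centralizer_iff] at this
    exact (this x rfl).symm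
  have hxc := central_of_radical p hn D hDp hD1 hrad x hx hcomm
  have hC : Subgroup.centralizer ({x} : Set SLn) = ⊤ := by
    rw [eq_top_iff]
    intro g _
    rw [Subgroup.mem_centralizer_iff]
    intro h hh
    rw [Set.mem_singleton_iff] at hh
    subst hh
    exact (Subgroup.mem_center_iff.1 hxc g).symm
  have h1 : Nat.card D = Nat.card S := by
    rw [← hS]
    exact Subgroup.card_map_of_injective (Subgroup.subtype_injective _)
  have h2 := S.card_eq_multiplicity
  have h3 : Nat.card (Subgroup.centralizer ({x} : Set SLn)) = Nat.card SLn := by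
    rw [hC, Subgroup.card_top]
  rw [h3] at h2
  have h4 : p ^ blockDefect p B = p ^ (Nat.card SLn).factorization p := by
    rw [← hcard, h1]; exact h2
  exact Nat.pow_right_injective hp.two_le h4

theorem not_dvd_orderOf_center {z : SLn} (hz : z ∈ Subgroup.center SLn) : ¬ p ∣ orderOf z := by
  obtain ⟨r, hr, hz'⟩ := Matrix.SpecialLinearGroup.mem_center_iff.1 hz
  intro hdvd
  have h1 : z ^ (Fintype.card F - 1) = 1 := by
    apply Subtype.ext
    rw [Matrix.SpecialLinearGroup.coe_pow, ← hz', ← map_pow]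
    have hr0 : r ≠ 0 := by
      rintro rfl
      rcases Nat.eq_zero_or_pos (Fintype.card (Fin n)) with h | h
      · rw [Fintype.card_fin] at h
        subst h
        have : orderOf z = 1 := by rw [Subsingleton.elim z 1]; exact orderOf_one
        rw [this] at hdvd
        exact (Fact.out : p.Prime).one_lt.ne' (Nat.dvd_one.1 hdvd)
      · rw [zero_pow h.ne'] at hr
        exact zero_ne_one hr
    rw [FiniteField.pow_card_sub_one_eq_one r hr0, map_one]
    rfl
  have h2 : p ∣ Fintype.card F - 1 := hdvd.trans (orderOf_dvd_of_pow_eq_one h1)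
  obtain ⟨k, -, hk⟩ := FiniteField.card F p
  have h3 : p ∣ Fintype.card F := by rw [hk]; exact dvd_pow_self p k.ne_zero
  have h4 : 1 ≤ Fintype.card F := Fintype.card_pos
  have h5 : p ∣ 1 := by
    have := (Nat.dvd_sub h3 h2)
    rwa [Nat.sub_sub_self h4] at this
  exact (Fact.out : p.Prime).one_lt.ne' (Nat.dvd_one.1 h5)

/-- the number of blocks of full defect is the order of the centre. -/
theorem card_full_defect (hn : 2 ≤ n) (hM : IsPModular p M) :
    Nat.card {B : Set (IrrCharacter SLn) // IsPBlock M B ∧ blockDefect p B = (Nat.card SLn).factorization p} =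
      Nat.card (Subgroup.center SLn) := by
  classical
  have : Fintype SLn := Fintype.ofFinite _
  have hp := (Fact.out : p.Prime)
  obtain ⟨P⟩ : Nonempty (Sylow p SLn) := inferInstance
  have e1 : Nat.card {B : Set (IrrCharacter SLn) // IsPBlock M B ∧ blockDefect p B = (Nat.card SLn).factorization p} =
      Nat.card {B : Set (IrrCharacter SLn) // IsPBlock M B ∧ IsDefectGroup p M B (P : Subgroup SLn)} := by
    apply Nat.card_congr
    apply Equiv.subtypeEquivRight
    intro B
    constructor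
    · rintro ⟨hB, hd⟩
      exact ⟨hB, (Cfsg.Agent.Lib.Helper21PS.sylow_defect hM hB hd).1 P⟩
    · rintro ⟨hB, hD⟩
      refine ⟨hB, ?_⟩
      have h1 := Cfsg.Agent.S0908.result p M hM B hB _ hD
      have h2 := P.card_eq_multiplicity
      rw [h1] at h2
      exact Nat.pow_right_injective hp.two_le h2
  have e2 := Cfsg.Agent.S0953.result p M hM P
  rw [e1, e2]
  symm
  set N := Subgroup.normalizer ((P : Subgroup SLn) : Set SLn) with hN
  have hzN : ∀ z : Subgroup.center SLn, (z : SLn) ∈ N := by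
    intro z
    rw [hN, Subgroup.mem_normalizer_iff]
    intro h
    have : (z : SLn) * h * (z : SLn)⁻¹ = h := by
      rw [← Subgroup.mem_center_iff.1 z.2 h, mul_inv_cancel_right]
    rw [this]
  have hconj : ∀ (z : Subgroup.center SLn) (k : N), ConjClasses.mk k = ConjClasses.mk (⟨z, hzN z⟩ : N) →
      k = ⟨z, hzN z⟩ := by
    intro z k h
    rw [ConjClasses.mk_eq_mk_iff_isConj, isConj_comm, isConj_iff] at h
    obtain ⟨c, hc⟩ := h
    rw [← hc]
    apply Subtype.ext
    show (c : SLn) * z * (c : SLn)⁻¹ = z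
    rw [Subgroup.mem_center_iff.1 z.2 c, mul_inv_cancel_right]
  have hP1 : (P : Subgroup SLn) ≠ ⊥ := by
    intro hb
    have h2 := P.card_eq_multiplicity
    rw [hb, Subgroup.card_bot] at h2
    have := Nat.one_lt_pow (fac_pos (F := F) p hn).ne' hp.one_lt
    omega
  apply Nat.card_congr
  refine Equiv.ofBijective (fun z => ⟨ConjClasses.mk (⟨z, hzN z⟩ : N), ?_⟩) ⟨?_, ?_⟩
  · intro k hk
    rw [hconj z k hk]
    refine ⟨?_, ?_⟩
    · rw [Subgroup.orderOf_mk]
      exact not_dvd_orderOf_center z.2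
    · rw [Subgroup.mem_centralizer_iff]
      intro h _
      exact Subgroup.mem_center_iff.1 z.2 h
  · intro z z' h
    have h1 := congrArg Subtype.val h
    have h2 := hconj z' ⟨z, hzN z⟩ h1
    apply Subtype.ext
    exact congrArg (fun x : N => (x : SLn)) h2
  · rintro ⟨C, hC⟩
    obtain ⟨k, rfl⟩ := ConjClasses.exists_rep C
    obtain ⟨hk1, hk2⟩ := hC k rfl
    -- a block with defect group `P` exists
    have hne : Nonempty {B : Set (IrrCharacter SLn) // IsPBlock M B ∧ IsDefectGroup p M B (P : Subgroup SLn)} := by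
      have h1 : 0 < Nat.card {C : ConjClasses N // ∀ n : N, ConjClasses.mk n = C → ¬ p ∣ orderOf n ∧
          (n : SLn) ∈ Subgroup.centralizer ((P : Subgroup SLn) : Set SLn)} := by
        have : Nonempty {C : ConjClasses N // ∀ n : N, ConjClasses.mk n = C → ¬ p ∣ orderOf n ∧
          (n : SLn) ∈ Subgroup.centralizer ((P : Subgroup SLn) : Set SLn)} := ⟨⟨_, hC⟩⟩
        exact Nat.card_pos
      rw [← e2] at h1
      exact (Nat.card_pos_iff.1 h1).1
    obtain ⟨⟨B, hB, hD⟩⟩ := hne
    have hrad := Cfsg.Agent.S0955.result p M hM B hB _ hD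
    have hkc : (k : SLn) ∈ Subgroup.center SLn := by
      apply central_of_radical p (by omega) (P : Subgroup SLn) P.2 hP1 hrad
      · rwa [Subgroup.orderOf_coe]
      · intro d hd
        rw [Subgroup.mem_centralizer_iff] at hk2
        exact hk2 d hd
    exact ⟨⟨k, hkc⟩, rfl⟩

/-- exactly one block of defect zero. -/
theorem card_defect_zero (hn : 2 ≤ n) (hM : IsPModular p M) :
    Nat.card {B : Set (IrrCharacter SLn) // IsPBlock M B ∧ blockDefect p B = 0} = 1 := by
  classical
  have : Fintype SLn := Fintype.ofFinite _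
  have hp := (Fact.out : p.Prime)
  have hprime := hM.2.1.isPrime
  rw [Nat.card_eq_one_iff_unique]
  constructor
  · constructor
    rintro ⟨B, hB, h0⟩ ⟨B', hB', h0'⟩
    apply Subtype.ext
    show B = B'
    obtain ⟨χ, rfl⟩ := (Cfsg.Agent.Lib.Helper81Defect.blockDefect_eq_zero_iff hM hB).1 h0
    obtain ⟨χ', rfl⟩ := (Cfsg.Agent.Lib.Helper81Defect.blockDefect_eq_zero_iff hM hB').1 h0'
    have h1 : blockOf M (χ : SLn → ℂ) = {χ} :=
      (Cfsg.Agent.Lib.Helper81Block.isPBlock_eq_blockOf hB (Set.mem_singleton χ)).symm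
    have h1' : blockOf M (χ' : SLn → ℂ) = {χ'} :=
      (Cfsg.Agent.Lib.Helper81Block.isPBlock_eq_blockOf hB' (Set.mem_singleton χ')).symm
    rw [← Cfsg.Agent.Lib.Helper81Orth2.defect_zero_iff hM, Cfsg.Agent.Lib.Helper81Defect.not_dvd_div_iff hp] at h1 h1'
    have := unique_dz p hn χ.2 χ'.2 h1 h1'
    rw [Subtype.ext this]
  · obtain ⟨χ, hχ⟩ := exists_dz (F := F) p hn
    have h1 : blockOf M (χ : SLn → ℂ) = {χ} := by
      rw [← Cfsg.Agent.Lib.Helper81Orth2.defect_zero_iff hM, Cfsg.Agent.Lib.Helper81Defect.not_dvd_div_iff hp]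
      exact hχ
    exact ⟨⟨blockOf M (χ : SLn → ℂ), ⟨χ, rfl⟩,
      (Cfsg.Agent.Lib.Helper81Defect.blockDefect_eq_zero_iff hM ⟨χ, rfl⟩).2 ⟨χ, h1⟩⟩⟩

/-- the total number of blocks. -/
theorem card_blocks (hn : 2 ≤ n) (hM : IsPModular p M) :
    Nat.card {B : Set (IrrCharacter SLn) // IsPBlock M B} = Nat.card (Subgroup.center SLn) + 1 := by
  rw [← card_full_defect hn hM, ← card_defect_zero (F := F) hn hM]
  have hpos := fac_pos (F := F) p hn
  have hfin : Finite (IrrCharacter SLn) := inferInstance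
  rw [← Nat.card_sum]
  apply Nat.card_congr
  refine Equiv.ofBijective (fun B => ?_) ⟨?_, ?_⟩
  · exact if h : blockDefect p B.1 = 0 then Sum.inr ⟨B.1, B.2, h⟩
      else Sum.inl ⟨B.1, B.2, (defect_dichotomy (by omega) hM B.2).resolve_left h⟩
  · intro B B' h
    apply Subtype.ext
    dsimp only at h
    split_ifs at h with h1 h2 h2
    · exact congrArg (fun x : {B : Set (IrrCharacter SLn) // IsPBlock M B ∧ blockDefect p B = 0} => x.1)
        (Sum.inr.inj h)
    · exact congrArg (fun x : {B : Set (IrrCharacter SLn) // IsPBlock M B ∧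
        blockDefect p B = (Nat.card SLn).factorization p} => x.1) (Sum.inl.inj h)
  · rintro (⟨B, hB, hd⟩ | ⟨B, hB, hd⟩)
    · refine ⟨⟨B, hB⟩, ?_⟩
      have : ¬ blockDefect p B = 0 := by omega
      simp only [this, dite_false]
    · refine ⟨⟨B, hB⟩, ?_⟩
      simp only [hd, dite_true]

theorem card_center (hn : 0 < n) : Nat.card (Subgroup.center SLn) = Nat.gcd n (Fintype.card F - 1) := by
  classical
  rw [Nat.card_congr (Matrix.SpecialLinearGroup.center_equiv_rootsOfUnity' (⟨0, hn⟩ : Fin n)).toEquiv,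
    Fintype.card_fin]
  have h1 : rootsOfUnity n F = (powMonoidHom n : Fˣ →* Fˣ).ker := by
    ext x
    rw [mem_rootsOfUnity, MonoidHom.mem_ker]
    rfl
  rw [h1, IsCyclic.card_powMonoidHom_ker, Nat.card_eq_fintype_card, Fintype.card_units, Nat.gcd_comm]

end Blocks

end Cfsg.Agent.Lib.Helper46DZ2
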