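import Cfsg.Agent.Lib.Helper46Len

/-! Length systems of rank two: every element is an alternating product, functions defined by
alternating products (dihedral Matsumoto), summation over the group. -/

namespace Cfsg.Agent.Lib.Helper46FH1

open Cfsg.Agent.Lib.Helper46Len

/-- alternating product `x y x y ...` with `k` factors. -/
def pa {M : Type*} [Monoid M] : M → M → ℕ → M
  | _, _, 0 => 1
  | x, y, k + 1 => x * pa y x k

section monoid
variable {M : Type*} [Monoid M]

@[simp] theorem pa_zero (x y : M) : pa x y 0 = 1 := rfl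
theorem pa_succ (x y : M) (k : ℕ) : pa x y (k + 1) = x * pa y x k := rfl
@[simp] theorem pa_one (x y : M) : pa x y 1 = x := by rw [pa_succ, pa_zero, mul_one]

theorem pa_succ_right : ∀ (k : ℕ) (x y : M), pa x y (k + 1) = pa x y k * (if Even k then x else y) := by
  intro k
  induction k with
  | zero => intro x y; simp
  | succ k ih =>
    intro x y
    rw [pa_succ, ih y x, pa_succ x y k, mul_assoc]
    congr 2
    by_cases h : Even k
    · have : ¬ Even (k + 1) := by rw [Nat.even_add_one]; exact not_not.2 h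
      rw [if_pos h, if_neg this]
    · have : Even (k + 1) := by rw [Nat.even_add_one]; exact h
      rw [if_neg h, if_pos this]

theorem pa_add_two (x y : M) (k : ℕ) : pa x y (k + 2) = x * y * pa x y k := by
  rw [pa_succ, pa_succ, mul_assoc]

theorem pa_two_mul (x y : M) (i : ℕ) : pa x y (2 * i) = (x * y) ^ i := by
  induction i with
  | zero => simp
  | succ i ih => rw [Nat.mul_succ, pa_add_two, ih, pow_succ']

theorem pa_two_mul_add_one (x y : M) (i : ℕ) : pa x y (2 * i + 1) = (x * y) ^ i * x := by
  induction i with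
  | zero => simp
  | succ i ih =>
    have : 2 * (i + 1) + 1 = (2 * i + 1) + 2 := by ring
    rw [this, pa_add_two, ih, pow_succ']
    simp only [mul_assoc]

theorem map_pa {M' : Type*} [Monoid M'] (f : M →* M') : ∀ (k : ℕ) (x y : M), f (pa x y k) = pa (f x) (f y) k := by
  intro k
  induction k with
  | zero => intro x y; simp
  | succ k ih => intro x y; rw [pa_succ, pa_succ, map_mul, ih]

end monoid

variable {W : Type*} [Group W] (L : LenSys W)

theorem l_pa_le : ∀ (k : ℕ) (s s' : W), s ∈ L.S → s' ∈ L.S → L.l (pa s s' k) ≤ k := by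
  intro k
  induction k with
  | zero => intro s s' _ _; rw [pa_zero, L.l_one]
  | succ k ih =>
    intro s s' hs hs'
    have h1 := ih s' s hs' hs
    have h2 := L.step s hs (pa s' s k)
    rw [pa_succ]
    omega

theorem eq_pa : ∀ (k : ℕ) (s s' : W), L.S = {s, s'} → ∀ w, L.l w = k → L.l (s * w) + 1 = L.l w →
    w = pa s s' k := by
  intro k
  induction k with
  | zero => intro s s' _ w h1 h2; omega
  | succ k ih =>
    intro s s' hS w h1 h2
    have hs : s ∈ L.S := by rw [hS]; simp
    have hw : w = s * (s * w) := (L.mul_mul_cancel hs w).symm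
    by_cases hu : s * w = 1
    · have hk : k = 0 := by
        rw [hu, L.l_one] at h2
        omega
      rw [hk, hw, hu]
      simp
    · obtain ⟨t, ht, h⟩ := L.desc _ hu
      rw [hS] at ht
      rcases ht with rfl | ht
      · rw [← hw] at h
        omega
      · rw [Set.mem_singleton_iff] at ht
        subst ht
        have := ih t s (by rw [hS, Set.pair_comm]) (s * w) (by omega) h
        rw [pa_succ, ← this, ← hw]

/-- data of a finite rank two system. -/
structure Rk2 (a b w0 : W) (n : ℕ) : Prop where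
  hS : L.S = {a, b}
  hab : a ≠ b
  top : L.IsTopL w0
  hn : L.l w0 = n

variable {L} {a b w0 : W} {n : ℕ}

theorem Rk2.symm (h : Rk2 L a b w0 n) : Rk2 L b a w0 n :=
  ⟨by rw [h.hS, Set.pair_comm], h.hab.symm, h.top, h.hn⟩

theorem Rk2.ha (h : Rk2 L a b w0 n) : a ∈ L.S := by rw [h.hS]; simp
theorem Rk2.hb (h : Rk2 L a b w0 n) : b ∈ L.S := by rw [h.hS]; simp

theorem Rk2.l_le (h : Rk2 L a b w0 n) (w : W) : L.l w ≤ n := by
  have := L.top_add h.top _ w rfl
  rw [h.hn] at this
  omega

theorem Rk2.w0_eq (h : Rk2 L a b w0 n) : w0 = pa a b n :=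
  eq_pa L n a b h.hS w0 h.hn (h.top a h.ha)

theorem Rk2.l_pa_aux (h : Rk2 L a b w0 n) : ∀ d k : ℕ, k + d = n →
    L.l (pa a b k) = k ∧ L.l (pa b a k) = k := by
  intro d
  induction d with
  | zero =>
    intro k hk
    have hk' : k = n := by omega
    subst hk'
    rw [← h.w0_eq, ← h.symm.w0_eq]
    exact ⟨h.hn, h.hn⟩
  | succ d ih =>
    intro k hk
    obtain ⟨h1, h2⟩ := ih (k + 1) (by omega)
    rw [pa_succ] at h1 h2
    have h3 := L.step a h.ha (pa b a k)
    have h4 := L.step b h.hb (pa a b k)
    have h5 := l_pa_le L k a b h.ha h.hb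
    have h6 := l_pa_le L k b a h.hb h.ha
    constructor <;> omega

theorem Rk2.l_pa (h : Rk2 L a b w0 n) {k : ℕ} (hk : k ≤ n) : L.l (pa a b k) = k :=
  (h.l_pa_aux (n - k) k (by omega)).1

theorem Rk2.two_le (h : Rk2 L a b w0 n) : 2 ≤ n := by
  by_contra hlt
  have h1 := h.l_le a
  rw [L.l_S h.ha] at h1
  have hn1 : n = 1 := by omega
  have e1 := h.w0_eq
  have e2 := h.symm.w0_eq
  rw [hn1, pa_one] at e1 e2
  exact h.hab (e1.symm.trans e2)

/-- every element is an alternating product of its length. -/
theorem Rk2.exists_rep (h : Rk2 L a b w0 n) (w : W) : w = pa a b (L.l w) ∨ w = pa b a (L.l w) := by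
  by_cases hw : w = 1
  · left; rw [hw, L.l_one, pa_zero]
  · obtain ⟨t, ht, h1⟩ := L.desc w hw
    rw [h.hS] at ht
    rcases ht with rfl | ht
    · left; exact eq_pa L _ _ _ h.hS w rfl h1
    · rw [Set.mem_singleton_iff] at ht
      subst ht
      right; exact eq_pa L _ _ _ h.symm.hS w rfl h1

theorem Rk2.pa_ne (h : Rk2 L a b w0 n) {k : ℕ} (hk0 : 0 < k) (hk : k < n) : pa a b k ≠ pa b a k := by
  intro e
  obtain ⟨k, rfl⟩ := Nat.exists_eq_succ_of_ne_zero hk0.ne'
  have h1 : L.l (b * pa a b (k + 1)) = k + 2 := by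
    rw [← pa_succ]; exact h.symm.l_pa (by omega)
  rw [e, pa_succ, L.mul_mul_cancel h.hb, h.l_pa (by omega)] at h1
  omega

/-- a function given by alternating products. -/
structure Good {M : Type*} [Monoid M] (a b : W) (n : ℕ) (A B : M) (f : W → M) : Prop where
  fa : ∀ k ≤ n, f (pa a b k) = pa A B k
  fb : ∀ k ≤ n, f (pa b a k) = pa B A k

theorem Good.symm {M : Type*} [Monoid M] {A B : M} {f : W → M} (hf : Good a b n A B f) :
    Good b a n B A f := ⟨hf.fb, hf.fa⟩

theorem Good.one {M : Type*} [Monoid M] {A B : M} {f : W → M} (hf : Good a b n A B f) : f 1 = 1 := by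
  have := hf.fa 0 (Nat.zero_le _)
  simpa using this

open Classical in
/-- existence of the function, given the braid relation. -/
theorem Rk2.exists_good (h : Rk2 L a b w0 n) {M : Type*} [Monoid M] (A B : M) (hbr : pa A B n = pa B A n) :
    ∃ f : W → M, Good a b n A B f := by
  refine ⟨fun w => if L.l (a * w) < L.l w then pa A B (L.l w) else pa B A (L.l w), ?_, ?_⟩
  · intro k hk
    rw [h.l_pa hk]
    rcases Nat.eq_zero_or_pos k with rfl | hk0
    · simp
    · obtain ⟨k, rfl⟩ := Nat.exists_eq_succ_of_ne_zero hk0.ne'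
      rw [if_pos]
      rw [pa_succ, L.mul_mul_cancel h.ha, h.symm.l_pa (by omega)]
      omega
  · intro k hk
    rw [h.symm.l_pa hk]
    rcases Nat.lt_or_ge k n with hlt | hge
    · rw [if_neg]
      rw [← pa_succ, h.l_pa (by omega)]
      omega
    · have : k = n := by omega
      subst this
      split_ifs
      · exact hbr
      · rfl

theorem Rk2.good_L (h : Rk2 L a b w0 n) {M : Type*} [Monoid M] {A B : M} {f : W → M}
    (hf : Good a b n A B f) {w : W} (hw : L.l (a * w) = L.l w + 1) : f (a * w) = A * f w := by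
  have hle := h.l_le (a * w)
  rcases h.exists_rep w with e | e
  · by_cases hk : L.l w = 0
    · rw [(L.l_eq_zero w).1 hk, hf.one, mul_one, mul_one]
      have := hf.fa 1 (by omega)
      simpa using this
    · exfalso
      obtain ⟨k, hk⟩ := Nat.exists_eq_succ_of_ne_zero hk
      rw [hk] at e
      have h1 : L.l (a * w) ≤ k := by
        rw [e, pa_succ, L.mul_mul_cancel h.ha]
        exact l_pa_le L k b a h.hb h.ha
      omega
  · have e2 : a * w = pa a b (L.l w + 1) := by rw [pa_succ, ← e]
    rw [e2, hf.fa _ (by omega), pa_succ]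
    conv_rhs => rw [e]
    rw [hf.fb _ (by omega)]

theorem Rk2.good_R_aux (h : Rk2 L a b w0 n) {M : Type*} [Monoid M] {A B : M} {f : W → M}
    (hf : Good a b n A B f) {k : ℕ} (hw : L.l (pa a b k * a) = k + 1) :
    f (pa a b k * a) = f (pa a b k) * A := by
  have hle := h.l_le (pa a b k * a)
  by_cases hk : Even k
  · have e : pa a b k * a = pa a b (k + 1) := by rw [pa_succ_right, if_pos hk]
    rw [e, hf.fa _ (by omega), hf.fa _ (by omega), pa_succ_right, if_pos hk]
  · exfalso
    obtain ⟨k', rfl⟩ : ∃ k', k = k' + 1 := by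
      rcases k with _ | k'
      · simp at hk
      · exact ⟨k', rfl⟩
    have hk' : Even k' := by
      rw [Nat.even_add_one, not_not] at hk; exact hk
    rw [pa_succ_right, if_pos hk', L.mul_mul_cancel_right h.ha] at hw
    have := l_pa_le L k' a b h.ha h.hb
    omega

theorem Rk2.good_R_aux' (h : Rk2 L a b w0 n) {M : Type*} [Monoid M] {A B : M} {f : W → M}
    (hf : Good a b n A B f) {k : ℕ} (hw : L.l (pa b a k * a) = k + 1) :
    f (pa b a k * a) = f (pa b a k) * A := by
  have hle := h.l_le (pa b a k * a)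
  by_cases hk : Even k
  · rcases k with _ | k'
    · rw [pa_zero, one_mul, hf.one, one_mul]
      have := hf.fa 1 (by omega)
      simpa using this
    · exfalso
      have hk' : ¬ Even k' := by
        rw [Nat.even_add_one] at hk; exact hk
      rw [pa_succ_right, if_neg hk', L.mul_mul_cancel_right h.ha] at hw
      have := l_pa_le L k' b a h.hb h.ha
      omega
  · have e : pa b a k * a = pa b a (k + 1) := by rw [pa_succ_right, if_neg hk]
    rw [e, hf.fb _ (by omega), hf.fb _ (by omega), pa_succ_right, if_neg hk]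

theorem Rk2.good_R (h : Rk2 L a b w0 n) {M : Type*} [Monoid M] {A B : M} {f : W → M}
    (hf : Good a b n A B f) {w : W} (hw : L.l (w * a) = L.l w + 1) : f (w * a) = f w * A := by
  rcases h.exists_rep w with e | e
  · rw [e]
    apply h.good_R_aux hf
    rw [← e]; exact hw
  · rw [e]
    apply h.good_R_aux' hf
    rw [← e]; exact hw

open Classical in
theorem Rk2.filter_eq (h : Rk2 L a b w0 n) [Fintype W] {k : ℕ} (hk : k ≤ n) :
    Finset.univ.filter (fun w => L.l w = k) = {pa a b k, pa b a k} := by
  ext w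
  simp only [Finset.mem_filter, Finset.mem_univ, true_and, Finset.mem_insert, Finset.mem_singleton]
  constructor
  · rintro rfl
    exact h.exists_rep w
  · rintro (rfl | rfl)
    · exact h.l_pa hk
    · exact h.symm.l_pa hk

open Classical in
/-- summation over a rank two group. -/
theorem Rk2.sum_eq (h : Rk2 L a b w0 n) [Fintype W] {V : Type*} [AddCommMonoid V] (g : W → V) :
    ∑ w, g w = g 1 + g w0 + ∑ k ∈ Finset.Ico 1 n, (g (pa a b k) + g (pa b a k)) := by
  have hn := h.two_le
  have h1 : ∑ w, g w = ∑ k ∈ Finset.range (n + 1), ∑ w ∈ Finset.univ.filter (fun w => L.l w = k), g w := by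
    rw [Finset.sum_fiberwise_of_maps_to]
    intro w _
    rw [Finset.mem_range]
    have := h.l_le w
    omega
  rw [h1, Finset.sum_range_succ, Finset.range_eq_Ico, Finset.sum_eq_sum_Ico_succ_bot (by omega)]
  have e0 : ∑ w ∈ Finset.univ.filter (fun w => L.l w = 0), g w = g 1 := by
    rw [h.filter_eq (Nat.zero_le _)]
    simp
  have en : ∑ w ∈ Finset.univ.filter (fun w => L.l w = n), g w = g w0 := by
    rw [h.filter_eq le_rfl, ← h.w0_eq, ← h.symm.w0_eq]
    simp
  rw [e0, en]
  have e1 : ∑ k ∈ Finset.Ico (0 + 1) n, ∑ w ∈ Finset.univ.filter (fun w => L.l w = k), g w =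
      ∑ k ∈ Finset.Ico 1 n, (g (pa a b k) + g (pa b a k)) := by
    apply Finset.sum_congr rfl
    intro k hk
    rw [Finset.mem_Ico] at hk
    rw [h.filter_eq (by omega), Finset.sum_pair (h.pa_ne (by omega) hk.2)]
  rw [e1]
  abel

theorem Rk2.card_eq (h : Rk2 L a b w0 n) [Finite W] : Nat.card W = 2 * n := by
  have := Fintype.ofFinite W
  have hn := h.two_le
  have h1 := h.sum_eq (fun _ => (1 : ℕ))
  simp only [Finset.sum_const, Finset.card_univ, smul_eq_mul, mul_one, Nat.card_Ico] at h1
  rw [Nat.card_eq_fintype_card, h1]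
  omega

/-- inverse of an alternating product of involutions. -/
theorem pa_inv {x y : W} (hx : x * x = 1) (hy : y * y = 1) : ∀ k : ℕ,
    (pa x y k)⁻¹ = if Even k then pa y x k else pa x y k := by
  intro k
  have hx' : x⁻¹ = x := inv_eq_of_mul_eq_one_left hx
  have hy' : y⁻¹ = y := inv_eq_of_mul_eq_one_left hy
  induction k with
  | zero => simp
  | succ k ih =>
    by_cases h : Even k
    · have h' : ¬ Even (k + 1) := by rw [Nat.even_add_one]; exact not_not.2 h
      have e : (pa x y (k + 1))⁻¹ = x * pa y x k := by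
        rw [pa_succ_right, mul_inv_rev, ih, if_pos h, if_pos h, hx']
      rw [if_neg h', e, pa_succ]
    · have h' : Even (k + 1) := by rw [Nat.even_add_one]; exact h
      have e : (pa x y (k + 1))⁻¹ = y * pa x y k := by
        rw [pa_succ_right, mul_inv_rev, ih, if_neg h, if_neg h, hy']
      rw [if_pos h', e, pa_succ]

end Cfsg.Agent.Lib.Helper46FH1
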