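import Cfsg.Agent.Lib.Helper46BN
import Cfsg.Agent.Lib.Helper46FH1

/-! Two-dimensional representations of the Hecke algebra of a finite BN-pair: the Schur element
divides (rationality of the generic degree), by an idempotent-trace argument. -/

namespace Cfsg.Agent.Lib.Helper46FH2

open Cfsg Cfsg.Agent.Lib.Helper8BN Cfsg.Agent.Lib.Helper46Len Cfsg.Agent.Lib.Helper46BN
  Cfsg.Agent.Lib.Helper46FH1

open Classical

theorem trace_of_sq {ι : Type*} [Fintype ι] (E : Matrix ι ι ℂ) (c : ℂ) (h : E * E = c • E)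
    (ht : E.trace ≠ 0) : c ≠ 0 ∧ ∃ r : ℕ, E.trace = c * r := by
  have hc : c ≠ 0 := by
    rintro rfl
    rw [zero_smul] at h
    have : IsNilpotent E := ⟨2, by rw [pow_two, h]⟩
    exact ht (Matrix.isNilpotent_trace_of_isNilpotent this).eq_zero
  refine ⟨hc, ?_⟩
  have he : IsIdempotentElem (Matrix.toLin' (c⁻¹ • E)) := by
    unfold IsIdempotentElem
    rw [Module.End.mul_eq_comp, ← Matrix.toLin'_mul]
    congr 1
    rw [Matrix.smul_mul, Matrix.mul_smul, h, smul_smul, smul_smul]
    congr 1
    field_simp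
  have h1 := (LinearMap.IsIdempotentElem.isProj_range _ he).trace
  rw [Matrix.trace_toLin'_eq, Matrix.trace_smul, smul_eq_mul] at h1
  refine ⟨Module.finrank ℂ ↥(Matrix.toLin' (c⁻¹ • E)).range, ?_⟩
  rw [← h1]
  field_simp

variable {G : Type*} [Group G] [Fintype G] (P : Cfsg.BNPair G)

/-- the Bruhat cell. -/
noncomputable def cell (w : Wg P) : Finset G := Finset.univ.filter (fun g => delta P g = w)

theorem mem_cell {w : Wg P} {g : G} : g ∈ cell P w ↔ delta P g = w := by
  unfold cell; simp

theorem sw_inv {σ : Wg P} (hσ : σ ∈ SW P) : σ⁻¹ = σ := (lenSys P).inv_eq hσ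

theorem cell_pos (w : Wg P) : 0 < (cell P w).card :=
  Finset.card_pos.2 ⟨rep P w, (mem_cell P).2 (delta_rep P w)⟩

theorem count_down {σ : Wg P} (hσ : σ ∈ SW P) {g : G}
    (h : lenW P (σ * delta P g) + 1 = lenW P (delta P g)) :
    ((cell P σ).filter (fun x => delta P (x * g) = σ * delta P g)).card = (cell P 1).card ∧
    ∀ x ∈ cell P σ, delta P (x * g) ≠ σ * delta P g → delta P (x * g) = delta P g := by
  obtain ⟨y, g', rfl, hy, hg'⟩ := exists_split P (x := g) hσ
  set w := delta P (y * g') with hw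
  have hup : lenW P (σ * delta P g') = lenW P (delta P g') + 1 := by
    rw [hg', (lenSys P).mul_mul_cancel hσ]; omega
  have key : ∀ x ∈ cell P σ, (delta P (x * y) = 1 ∧ delta P (x * (y * g')) = σ * w) ∨
      (delta P (x * y) = σ ∧ delta P (x * (y * g')) = w) := by
    intro x hx
    rw [mem_cell] at hx
    rcases delta_S_mul P (x := x) (g := y) (by rw [hx]; exact hσ) with h1 | h1
    · left
      rw [hx, hy, (lenSys P).sq σ hσ] at h1
      refine ⟨h1, ?_⟩
      rw [← mul_assoc, delta_B_mul P ((delta_eq_one_iff P).1 h1), hg']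
    · right
      rw [hy] at h1
      refine ⟨h1, ?_⟩
      rw [← mul_assoc, delta_S_mul_up P (by rw [h1]; exact hσ) (by rw [h1]; exact hup), h1, hg',
        (lenSys P).mul_mul_cancel hσ]
  have hne : σ * w ≠ w := by
    intro e
    rw [e] at h
    omega
  constructor
  · apply Finset.card_bij (fun x _ => x * y)
    · intro x hx
      rw [Finset.mem_filter] at hx
      rw [mem_cell]
      rcases key x hx.1 with h1 | h1
      · exact h1.1
      · exact absurd (hx.2.symm.trans h1.2) hne
    · intro x _ x' _ e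
      exact mul_right_cancel e
    · intro c hc
      rw [mem_cell] at hc
      have hcB := (delta_eq_one_iff P).1 hc
      refine ⟨c * y⁻¹, ?_, by group⟩
      rw [Finset.mem_filter, mem_cell]
      constructor
      · rw [delta_B_mul P hcB, delta_inv, hy, sw_inv P hσ]
      · have : c * y⁻¹ * (y * g') = c * g' := by group
        rw [this, delta_B_mul P hcB, hg']
  · intro x hx hn
    rcases key x hx with h1 | h1
    · exact absurd h1.2 hn
    · exact h1.2

theorem sum_L_up {V : Type*} [AddCommMonoid V] (φ : Wg P → V) {σ : Wg P} (hσ : σ ∈ SW P) {g : G}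
    (h : lenW P (σ * delta P g) = lenW P (delta P g) + 1) :
    ∑ x ∈ cell P σ, φ (delta P (x * g)) = (cell P σ).card • φ (σ * delta P g) := by
  rw [Finset.sum_congr rfl (g := fun _ => φ (σ * delta P g)), Finset.sum_const]
  intro x hx
  rw [mem_cell] at hx
  rw [delta_S_mul_up P (by rw [hx]; exact hσ) (by rw [hx]; exact h), hx]

theorem sum_L_down {V : Type*} [AddCommMonoid V] (φ : Wg P → V) {σ : Wg P} (hσ : σ ∈ SW P) {g : G}
    (h : lenW P (σ * delta P g) + 1 = lenW P (delta P g)) :
    ∑ x ∈ cell P σ, φ (delta P (x * g)) =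
      (cell P 1).card • φ (σ * delta P g) + ((cell P σ).card - (cell P 1).card) • φ (delta P g) := by
  obtain ⟨h1, h2⟩ := count_down P hσ h
  rw [← Finset.sum_filter_add_sum_filter_not (cell P σ) (fun x => delta P (x * g) = σ * delta P g)]
  congr 1
  · rw [Finset.sum_congr rfl (g := fun _ => φ (σ * delta P g)), Finset.sum_const, h1]
    intro x hx
    rw [Finset.mem_filter] at hx
    rw [hx.2]
  · rw [Finset.sum_congr rfl (g := fun _ => φ (delta P g)), Finset.sum_const]
    · congr 1
      have := Finset.card_filter_add_card_filter_not (s := cell P σ)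
        (fun x => delta P (x * g) = σ * delta P g)
      omega
    · intro x hx
      rw [Finset.mem_filter] at hx
      rw [h2 x hx.1 hx.2]

theorem card_one_le {σ : Wg P} (hσ : σ ∈ SW P) : (cell P 1).card ≤ (cell P σ).card := by
  have h : lenW P (σ * delta P (rep P σ)) + 1 = lenW P (delta P (rep P σ)) := by
    rw [delta_rep, (lenSys P).sq σ hσ]
    have h1 := (lenSys P).l_one
    have h2 := (lenSys P).l_S hσ
    simp only [lenSys_l] at h1 h2
    omega
  rw [← (count_down P hσ h).1]
  exact Finset.card_filter_le _ _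

theorem sum_inv {V : Type*} [AddCommMonoid V] (ψ : G → V) {σ : Wg P} (hσ : σ ∈ SW P) :
    ∑ x ∈ cell P σ, ψ x = ∑ x ∈ cell P σ, ψ x⁻¹ := by
  apply Finset.sum_bij (fun x _ => x⁻¹)
  · intro x hx
    rw [mem_cell] at hx ⊢
    rw [delta_inv, hx, sw_inv P hσ]
  · intro x _ x' _ e
    exact inv_injective e
  · intro x hx
    rw [mem_cell] at hx
    exact ⟨x⁻¹, by rw [mem_cell, delta_inv, hx, sw_inv P hσ], inv_inv x⟩
  · intro x _
    rw [inv_inv]

theorem len_mul_inv {σ : Wg P} (hσ : σ ∈ SW P) (w : Wg P) : lenW P (σ * w⁻¹) = lenW P (w * σ) := by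
  have := (lenSys P).l_inv (w * σ)
  simp only [lenSys_l] at this
  rw [← this, mul_inv_rev, sw_inv P hσ]

theorem len_inv' (w : Wg P) : lenW P w⁻¹ = lenW P w := (lenSys P).l_inv w

theorem sum_R_up {V : Type*} [AddCommMonoid V] (φ : Wg P → V) {σ : Wg P} (hσ : σ ∈ SW P) {g : G}
    (h : lenW P (delta P g * σ) = lenW P (delta P g) + 1) :
    ∑ x ∈ cell P σ, φ (delta P (g * x)) = (cell P σ).card • φ (delta P g * σ) := by
  rw [sum_inv P _ hσ]
  have e : ∀ x, φ (delta P (g * x⁻¹)) = (fun w => φ w⁻¹) (delta P (x * g⁻¹)) := by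
    intro x
    simp only
    rw [← delta_inv]
    congr 2
    group
  simp only [e]
  rw [sum_L_up P (fun w => φ w⁻¹) hσ (g := g⁻¹)
    (by rw [delta_inv, len_mul_inv P hσ, len_inv']; exact h)]
  simp only [delta_inv, mul_inv_rev, inv_inv, sw_inv P hσ]

theorem sum_R_down {V : Type*} [AddCommMonoid V] (φ : Wg P → V) {σ : Wg P} (hσ : σ ∈ SW P) {g : G}
    (h : lenW P (delta P g * σ) + 1 = lenW P (delta P g)) :
    ∑ x ∈ cell P σ, φ (delta P (g * x)) =
      (cell P 1).card • φ (delta P g * σ) + ((cell P σ).card - (cell P 1).card) • φ (delta P g) := by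
  rw [sum_inv P _ hσ]
  have e : ∀ x, φ (delta P (g * x⁻¹)) = (fun w => φ w⁻¹) (delta P (x * g⁻¹)) := by
    intro x
    simp only
    rw [← delta_inv]
    congr 2
    group
  simp only [e]
  rw [sum_L_down P (fun w => φ w⁻¹) hσ (g := g⁻¹)
    (by rw [delta_inv, len_mul_inv P hσ, len_inv']; exact h)]
  simp only [delta_inv, mul_inv_rev, inv_inv, sw_inv P hσ]

/-- cardinalities of cells are multiplicative along reduced products. -/
theorem card_up {σ w : Wg P} (hσ : σ ∈ SW P) (h : lenW P (σ * w) = lenW P w + 1) :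
    (cell P (σ * w)).card * (cell P 1).card = (cell P σ).card * (cell P w).card := by
  -- sum over `g ∈ C(w)` of `1_{C(σ w)}(x g)`
  have h1 : ∑ k ∈ cell P (σ * w), ∑ x ∈ cell P σ, (if delta P (x * k) = w then 1 else 0 : ℕ) =
      (cell P (σ * w)).card * (cell P 1).card := by
    rw [Finset.sum_congr rfl (g := fun _ => (cell P 1).card), Finset.sum_const, smul_eq_mul]
    intro k hk
    rw [mem_cell] at hk
    have hd : lenW P (σ * delta P k) + 1 = lenW P (delta P k) := by
      rw [hk, (lenSys P).mul_mul_cancel hσ]; omega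
    rw [← (count_down P hσ hd).1, Finset.card_filter, hk, (lenSys P).mul_mul_cancel hσ]
  have h2 : ∑ k ∈ cell P (σ * w), ∑ x ∈ cell P σ, (if delta P (x * k) = w then 1 else 0 : ℕ) =
      (cell P σ).card * (cell P w).card := by
    rw [Finset.sum_comm, Finset.sum_congr rfl (g := fun _ => (cell P w).card), Finset.sum_const,
      smul_eq_mul]
    intro x hx
    rw [mem_cell] at hx
    rw [← Finset.card_filter]
    apply Finset.card_bij (fun k _ => x * k)
    · intro k hk
      rw [Finset.mem_filter] at hk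
      rw [mem_cell]; exact hk.2
    · intro k _ k' _ e
      exact mul_left_cancel e
    · intro g hg
      rw [mem_cell] at hg
      refine ⟨x⁻¹ * g, ?_, by group⟩
      rw [Finset.mem_filter, mem_cell]
      constructor
      · have hx' : delta P x⁻¹ = σ := by rw [delta_inv, hx, sw_inv P hσ]
        rw [delta_S_mul_up P (by rw [hx']; exact hσ) (by rw [hx', hg]; exact h), hx', hg]
      · rw [mul_inv_cancel_left]; exact hg
  rw [← h1, h2]

theorem sum_cells {V : Type*} [AddCommMonoid V] [Fintype (Wg P)] (ψ : Wg P → V) :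
    ∑ g : G, ψ (delta P g) = ∑ w, (cell P w).card • ψ w := by
  rw [← Finset.sum_fiberwise_of_maps_to (s := Finset.univ) (t := Finset.univ) (g := delta P)
    (fun _ _ => Finset.mem_univ _)]
  apply Finset.sum_congr rfl
  intro w _
  rw [Finset.sum_congr rfl (g := fun _ => ψ w), Finset.sum_const]
  · rfl
  · intro g hg
    rw [Finset.mem_filter] at hg
    rw [hg.2]

abbrev M2 := Matrix (Fin 2) (Fin 2) ℂ

/-- a two-dimensional irreducible representation of the Hecke algebra, normalised. -/
structure Harm (f m : Wg P → M2) : Prop where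
  one : f 1 = 1
  L : ∀ σ ∈ SW P, ∀ w, lenW P (σ * w) = lenW P w + 1 → f (σ * w) = m σ * f w
  R : ∀ σ ∈ SW P, ∀ w, lenW P (w * σ) = lenW P w + 1 → f (w * σ) = f w * m σ
  quad : ∀ σ ∈ SW P, ((cell P σ).card : ℂ) • (m σ * m σ) =
    (((cell P σ).card : ℂ) - (cell P 1).card) • m σ + ((cell P 1).card : ℂ) • (1 : M2)
  comm : ∀ X : M2, (∀ σ ∈ SW P, X * m σ = m σ * X) → ∃ c : ℂ, X = c • (1 : M2)

variable {P} {f m : Wg P → M2}

theorem Harm.LH (H : Harm P f m) {σ : Wg P} (hσ : σ ∈ SW P) (g : G) :
    ∑ x ∈ cell P σ, f (delta P (x * g)) = ((cell P σ).card : ℂ) • (m σ * f (delta P g)) := by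
  rcases (lenSys P).step σ hσ (delta P g) with h | h
  · simp only [lenSys_l] at h
    rw [sum_L_up P f hσ h, H.L σ hσ _ h, Nat.cast_smul_eq_nsmul]
  · simp only [lenSys_l] at h
    rw [sum_L_down P f hσ h]
    set w' := σ * delta P g with hw'
    have e : delta P g = σ * w' := by rw [hw', (lenSys P).mul_mul_cancel hσ]
    have e2 : f (delta P g) = m σ * f w' := by
      rw [e]
      apply H.L σ hσ
      rw [← e]; omega
    have hq := congrArg (· * f w') (H.quad σ hσ)
    simp only [add_mul, Matrix.smul_mul, one_mul] at hq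
    rw [e2, ← mul_assoc, hq, ← Nat.cast_smul_eq_nsmul ℂ, ← Nat.cast_smul_eq_nsmul ℂ,
      Nat.cast_sub (card_one_le P hσ), add_comm]

theorem Harm.RH (H : Harm P f m) {σ : Wg P} (hσ : σ ∈ SW P) (g : G) :
    ∑ x ∈ cell P σ, f (delta P (g * x)) = ((cell P σ).card : ℂ) • (f (delta P g) * m σ) := by
  rcases (lenSys P).step_right hσ (delta P g) with h | h
  · simp only [lenSys_l] at h
    rw [sum_R_up P f hσ h, H.R σ hσ _ h, Nat.cast_smul_eq_nsmul]
  · simp only [lenSys_l] at h
    rw [sum_R_down P f hσ h]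
    set w' := delta P g * σ with hw'
    have e : delta P g = w' * σ := by rw [hw', (lenSys P).mul_mul_cancel_right hσ]
    have e2 : f (delta P g) = f w' * m σ := by
      rw [e]
      apply H.R σ hσ
      rw [← e]; omega
    have hq := congrArg (f w' * ·) (H.quad σ hσ)
    simp only [mul_add, Matrix.mul_smul, mul_one] at hq
    rw [e2, mul_assoc, hq, ← Nat.cast_smul_eq_nsmul ℂ, ← Nat.cast_smul_eq_nsmul ℂ,
      Nat.cast_sub (card_one_le P hσ), add_comm]

/-- the convolution of the character with the representation. -/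
noncomputable def KK (f : Wg P → M2) (g : G) : M2 :=
  ∑ h : G, (f (delta P h)).trace • f (delta P (h⁻¹ * g))

theorem KK_congr {g g' : G} (h : delta P g = delta P g') : KK f g = KK f g' := by
  obtain ⟨x, hx, y, hy, rfl⟩ := (delta_eq_delta_iff P).1 h
  unfold KK
  apply Fintype.sum_equiv (Equiv.mulLeft x)
  intro h
  simp only [Equiv.coe_mulLeft]
  rw [delta_B_mul P hx]
  congr 2
  have : (x * h)⁻¹ * (x * g * y) = h⁻¹ * g * y := by group
  rw [this, delta_mul_B P hy]

theorem Harm.KK_RH (H : Harm P f m) {σ : Wg P} (hσ : σ ∈ SW P) (g : G) :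
    ∑ x ∈ cell P σ, KK f (g * x) = ((cell P σ).card : ℂ) • (KK f g * m σ) := by
  unfold KK
  rw [Finset.sum_comm, Finset.sum_mul, Finset.smul_sum]
  apply Finset.sum_congr rfl
  intro h _
  rw [← Finset.smul_sum]
  simp only [← mul_assoc]
  rw [H.RH hσ, Matrix.smul_mul, smul_comm]

theorem Harm.KK_LH (H : Harm P f m) {σ : Wg P} (hσ : σ ∈ SW P) (g : G) :
    ∑ x ∈ cell P σ, KK f (x * g) = ((cell P σ).card : ℂ) • (m σ * KK f g) := by
  have s1 : ∀ x : G, KK f (x * g) = ∑ h : G, (f (delta P (x * h))).trace • f (delta P (h⁻¹ * g)) := by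
    intro x
    unfold KK
    symm
    apply Fintype.sum_equiv (Equiv.mulLeft x)
    intro h
    simp only [Equiv.coe_mulLeft]
    congr 3
    group
  have s2 : ∀ h : G, ∑ x ∈ cell P σ, (f (delta P (x * h))).trace =
      ∑ x ∈ cell P σ, (f (delta P (h * x))).trace := by
    intro h
    rw [← Matrix.trace_sum, ← Matrix.trace_sum, H.LH hσ, H.RH hσ, Matrix.trace_smul, Matrix.trace_smul,
      Matrix.trace_mul_comm]
  have s3 : ∀ x : G, ∑ h : G, (f (delta P (h * x))).trace • f (delta P (h⁻¹ * g)) =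
      ∑ h : G, (f (delta P h)).trace • f (delta P (x * (h⁻¹ * g))) := by
    intro x
    apply Fintype.sum_equiv (Equiv.mulRight x)
    intro h
    simp only [Equiv.coe_mulRight]
    congr 3
    group
  simp only [s1]
  rw [Finset.sum_comm]
  simp only [← Finset.sum_smul, s2]
  simp only [Finset.sum_smul]
  rw [Finset.sum_comm]
  simp only [s3]
  rw [Finset.sum_comm]
  unfold KK
  rw [Finset.mul_sum, Finset.smul_sum]
  apply Finset.sum_congr rfl
  intro h _
  rw [← Finset.smul_sum, H.LH hσ, Matrix.mul_smul, smul_comm]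

theorem exists_split_right {x : G} {σ : Wg P} (hσ : σ ∈ SW P) :
    ∃ x' y, x = x' * y ∧ delta P y = σ ∧ delta P x' = delta P x * σ := by
  obtain ⟨y, x', e, hy, hx'⟩ := exists_split P (x := x⁻¹) hσ
  refine ⟨x'⁻¹, y⁻¹, ?_, ?_, ?_⟩
  · rw [← mul_inv_rev, ← e, inv_inv]
  · rw [delta_inv, hy, sw_inv P hσ]
  · rw [delta_inv, hx', delta_inv, mul_inv_rev, inv_inv, sw_inv P hσ]

theorem Harm.uniq_R (H : Harm P f m) : ∀ (k : ℕ) (g : G), lenW P (delta P g) = k →
    KK f g = KK f 1 * f (delta P g) := by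
  intro k
  induction k with
  | zero =>
    intro g hg
    have h1 : delta P g = 1 := ((lenSys P).l_eq_zero _).1 hg
    have h2 : delta P (1 : G) = 1 := (delta_eq_one_iff P).2 P.B.one_mem
    rw [KK_congr (h1.trans h2.symm), h1, H.one, mul_one]
  | succ k ih =>
    intro g hg
    have h1 : delta P g ≠ 1 := by
      intro h1
      rw [h1] at hg
      have := (lenSys P).l_one
      simp only [lenSys_l] at this
      omega
    obtain ⟨σ, hσ, h2⟩ := (lenSys P).desc_right _ h1
    simp only [lenSys_l, lenSys_S] at h2 hσ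
    obtain ⟨g0, y, rfl, hy, hg0⟩ := exists_split_right (P := P) (x := g) hσ
    set w := delta P (g0 * y) with hw
    have hws : w * σ * σ = w := (lenSys P).mul_mul_cancel_right hσ w
    have h3 := H.KK_RH hσ g0
    have h4 : ∀ x ∈ cell P σ, KK f (g0 * x) = KK f (g0 * y) := by
      intro x hx
      rw [mem_cell] at hx
      apply KK_congr
      have hl : lenW P σ = 1 := (lenSys P).l_S hσ
      rw [delta_mul_of_add' P (by rw [hg0, hx, hws, hl]; omega), hg0, hx, hws]
    rw [Finset.sum_congr rfl h4, Finset.sum_const, ← Nat.cast_smul_eq_nsmul ℂ] at h3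
    have h5 : ((cell P σ).card : ℂ) ≠ 0 := Nat.cast_ne_zero.2 (cell_pos P σ).ne'
    have h6 := smul_right_injective _ h5 h3
    rw [h6, ih g0 (by rw [hg0]; omega), hg0, mul_assoc, ← H.R σ hσ _ (by rw [hws]; omega), hws]

theorem Harm.uniq_L (H : Harm P f m) : ∀ (k : ℕ) (g : G), lenW P (delta P g) = k →
    KK f g = f (delta P g) * KK f 1 := by
  intro k
  induction k with
  | zero =>
    intro g hg
    have h1 : delta P g = 1 := ((lenSys P).l_eq_zero _).1 hg
    have h2 : delta P (1 : G) = 1 := (delta_eq_one_iff P).2 P.B.one_mem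
    rw [KK_congr (h1.trans h2.symm), h1, H.one, one_mul]
  | succ k ih =>
    intro g hg
    have h1 : delta P g ≠ 1 := by
      intro h1
      rw [h1] at hg
      have := (lenSys P).l_one
      simp only [lenSys_l] at this
      omega
    obtain ⟨σ, hσ, h2⟩ := (lenSys P).desc _ h1
    simp only [lenSys_l, lenSys_S] at h2 hσ
    obtain ⟨y, g0, rfl, hy, hg0⟩ := exists_split P (x := g) hσ
    set w := delta P (y * g0) with hw
    have hws : σ * (σ * w) = w := (lenSys P).mul_mul_cancel hσ w
    have h3 := H.KK_LH hσ g0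
    have h4 : ∀ x ∈ cell P σ, KK f (x * g0) = KK f (y * g0) := by
      intro x hx
      rw [mem_cell] at hx
      apply KK_congr
      rw [delta_S_mul_up P (by rw [hx]; exact hσ) (by rw [hx, hg0, hws]; omega), hg0, hx, hws]
    rw [Finset.sum_congr rfl h4, Finset.sum_const, ← Nat.cast_smul_eq_nsmul ℂ] at h3
    have h5 : ((cell P σ).card : ℂ) ≠ 0 := Nat.cast_ne_zero.2 (cell_pos P σ).ne'
    have h6 := smul_right_injective _ h5 h3
    rw [h6, ih g0 (by rw [hg0]; omega), hg0, ← mul_assoc, ← H.L σ hσ _ (by rw [hws]; omega), hws]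

theorem Harm.f_gen (H : Harm P f m) {σ : Wg P} (hσ : σ ∈ SW P) : f σ = m σ := by
  have h := H.L σ hσ 1 (by
    rw [mul_one]
    have h1 := (lenSys P).l_one
    have h2 := (lenSys P).l_S hσ
    simp only [lenSys_l] at h1 h2
    omega)
  rwa [mul_one, H.one, mul_one] at h

/-- **Rationality of the Schur element.** -/
theorem Harm.main (H : Harm P f m) :
    ∃ r : ℕ, r ≠ 0 ∧ (4 * Fintype.card G : ℂ) =
      (∑ h : G, (f (delta P h)).trace * (f (delta P h⁻¹)).trace) * r := by
  obtain ⟨c, hc⟩ := H.comm (KK f 1) (by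
    intro σ hσ
    have h1 := H.uniq_R _ (rep P σ) rfl
    have h2 := H.uniq_L _ (rep P σ) rfl
    rw [delta_rep, H.f_gen hσ] at h1 h2
    rw [← h1, h2])
  have hK : ∀ g, KK f g = c • f (delta P g) := by
    intro g
    rw [H.uniq_R _ g rfl, hc, Matrix.smul_mul, one_mul]
  have hT : ∀ g, ∑ h : G, (f (delta P h)).trace * (f (delta P (h⁻¹ * g))).trace =
      c * (f (delta P g)).trace := by
    intro g
    have := congrArg Matrix.trace (hK g)
    unfold KK at this
    rw [Matrix.trace_sum, Matrix.trace_smul, smul_eq_mul] at this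
    rw [← this]
    apply Finset.sum_congr rfl
    intro h _
    rw [Matrix.trace_smul, smul_eq_mul]
  have h1 : delta P (1 : G) = 1 := (delta_eq_one_iff P).2 P.B.one_mem
  have htr1 : (f (delta P (1 : G))).trace = 2 := by
    rw [h1, H.one, Matrix.trace_one]; simp
  have hsum : ∑ h : G, (f (delta P h)).trace * (f (delta P h⁻¹)).trace = c * 2 := by
    have := hT 1
    simp only [mul_one] at this
    rw [this, htr1]
  let E : Matrix G G ℂ := fun g g' => (f (delta P (g⁻¹ * g'))).trace
  have hE : E * E = c • E := by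
    ext g g''
    rw [Matrix.mul_apply, Matrix.smul_apply, smul_eq_mul]
    change ∑ g', (f (delta P (g⁻¹ * g'))).trace * (f (delta P (g'⁻¹ * g''))).trace =
      c * (f (delta P (g⁻¹ * g''))).trace
    rw [← hT]
    apply Fintype.sum_equiv (Equiv.mulLeft g⁻¹)
    intro g'
    simp only [Equiv.coe_mulLeft]
    congr 4
    group
  have hEt : E.trace = 2 * Fintype.card G := by
    unfold Matrix.trace
    simp only [Matrix.diag_apply]
    change ∑ g : G, (f (delta P (g⁻¹ * g))).trace = _
    simp only [inv_mul_cancel, htr1, Finset.sum_const, Finset.card_univ, nsmul_eq_mul]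
    ring
  have hG : (Fintype.card G : ℂ) ≠ 0 := Nat.cast_ne_zero.2 Fintype.card_ne_zero
  obtain ⟨hc0, r, hr⟩ := trace_of_sq E c hE (by rw [hEt]; exact mul_ne_zero two_ne_zero hG)
  refine ⟨r, ?_, ?_⟩
  · rintro rfl
    rw [hEt] at hr
    simp at hr
  · rw [hsum]
    rw [hEt] at hr
    linear_combination 2 * hr

end Cfsg.Agent.Lib.Helper46FH2
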