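import Mathlib
import Cfsg.Agent.Lib.Helper46FH2
import Cfsg.Agent.Lib.Helper46DZ1

set_option autoImplicit false
set_option linter.unusedSectionVars false
set_option linter.unusedSimpArgs false
set_option linter.unusedVariables false

/-! Split BN-pairs with rank one data: a spherical-type function `f` for `(U, θ)` whose "Schur element"
is that of the Steinberg character has `θ = 1`. -/

namespace Cfsg.Agent.Lib.Helper46DZ4

open Cfsg Cfsg.Agent.Lib.Helper8BN Cfsg.Agent.Lib.Helper46Len Cfsg.Agent.Lib.Helper46BN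
  Cfsg.Agent.Lib.Helper46FH2

open Classical

attribute [local instance] Cfsg.Agent.Lib.Helper46DZ1.instFT

variable {G : Type*} [Group G] [Fintype G]

/-- rank one data for a split BN-pair. -/
structure RK (P : BNPair G) (ι A : Type*) [CommGroup A] where
  U : Subgroup G
  T : Subgroup G
  hB : ∀ b, b ∈ P.B ↔ ∃ u ∈ U, ∃ t ∈ T, b = u * t
  hT : ∀ g, g ∈ T ↔ g ∈ P.B ∧ g ∈ P.N
  hUT : ∀ g, g ∈ U → g ∈ T → g = 1
  hTU : ∀ t ∈ T, ∀ u ∈ U, t * u * t⁻¹ ∈ U
  hTcomm : ∀ a b : T, a * b = b * a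
  ν : ι → G
  hS : P.S = Set.range ν
  X : ι → Subgroup G
  Y : ι → Subgroup G
  hXU : ∀ i, X i ≤ U
  hYU : ∀ i, Y i ≤ U
  hXY : ∀ i, ∀ u ∈ U, ∃ x ∈ X i, ∃ y ∈ Y i, u = x * y
  hXYbot : ∀ i g, g ∈ X i → g ∈ Y i → g = 1
  hY : ∀ i, ∀ y ∈ Y i, (ν i)⁻¹ * y * ν i ∈ U
  hY' : ∀ i, ∀ y ∈ Y i, ν i * y * (ν i)⁻¹ ∈ U
  hdich : ∀ i, ∀ n ∈ P.N, (∀ x ∈ X i, n⁻¹ * x * n ∈ U) ∨
    (∀ x ∈ X i, n⁻¹ * ((ν i)⁻¹ * x * ν i) * n ∈ U)
  η : ι → A →* T
  xx : ι → A → G
  hxx : ∀ i a, xx i a ∈ X i ∧ xx i a ≠ 1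
  hxx_inj : ∀ i, Function.Injective (xx i)
  hxx_surj : ∀ i, ∀ x ∈ X i, x ≠ 1 → ∃ a, xx i a = x
  hrk : ∀ i a, ∃ u₁ ∈ U, ∃ u₂ ∈ U, (ν i)⁻¹ * xx i a * ν i = u₁ * (η i a : G) * ν i * u₂
  hsq : ∀ i, ∃ a, ν i * ν i = (η i a : G)
  hgen : ∀ θ : T →* ℂˣ, (∀ i a, θ (η i a) = 1) → θ = 1
  n0 : G
  hn0 : n0 ∈ P.N
  hopp : ∀ β ∈ P.B, n0⁻¹ * β * n0 ∈ P.B → β ∈ T
  ψ : U →* ℂˣ
  hψ : ∀ i, ∃ x, ∃ hx : x ∈ X i, ψ ⟨x, hXU i hx⟩ ≠ 1

variable {P : BNPair G} {ι A : Type*} [CommGroup A] (K : RK P ι A)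

namespace RK

theorem mem_S (i : ι) : K.ν i ∈ P.S := by rw [K.hS]; exact Set.mem_range_self i

theorem mem_N (i : ι) : K.ν i ∈ P.N := P.subset (K.mem_S i)

theorem U_le_B : K.U ≤ P.B := fun u hu => (K.hB u).2 ⟨u, hu, 1, K.T.one_mem, by simp⟩

theorem T_le_B : K.T ≤ P.B := fun t ht => ((K.hT t).1 ht).1

theorem T_le_N : K.T ≤ P.N := fun t ht => ((K.hT t).1 ht).2

/-- the simple reflections -/
def sg (i : ι) : Wg P := mkW P (K.ν i) (K.mem_N i)

theorem sg_mem (i : ι) : K.sg i ∈ SW P := ⟨K.ν i, K.mem_S i, rfl⟩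

theorem exists_sg {σ : Wg P} (hσ : σ ∈ SW P) : ∃ i, σ = K.sg i := by
  obtain ⟨s, hs, rfl⟩ := hσ
  have hs' := hs
  rw [K.hS] at hs'
  obtain ⟨i, rfl⟩ := hs'
  exact ⟨i, rfl⟩

theorem delta_nu (i : ι) : delta P (K.ν i) = K.sg i := delta_of_mem_N P (K.mem_N i)

theorem sg_ne_one (i : ι) : K.sg i ≠ 1 := by
  intro h
  unfold sg at h
  rw [mkW_eq_one_iff] at h
  exact S_not_mem_B (K.mem_S i) h

include K in
theorem exists_a (i : ι) : Nonempty A := by
  obtain ⟨x, hx, h⟩ := K.hψ i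
  have : x ≠ 1 := by
    rintro rfl
    apply h
    exact map_one K.ψ
  obtain ⟨a, -⟩ := K.hxx_surj i x hx this
  exact ⟨a⟩

/-- if `l(s w) > l(w)` then `w⁻¹` maps `X_s` into `U`. -/
theorem conj_of_up (i : ι) {n : G} (hn : n ∈ P.N)
    (h : lenW P (K.sg i * mkW P n hn) = lenW P (mkW P n hn) + 1) :
    ∀ x ∈ K.X i, n⁻¹ * x * n ∈ K.U := by
  rcases K.hdich i n hn with h1 | h2
  · exact h1
  · exfalso
    obtain ⟨a⟩ := K.exists_a i
    obtain ⟨u₁, hu₁, u₂, hu₂, e⟩ := K.hrk i a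
    have h3 := h2 _ (K.hxx i a).1
    have e1 : K.ν i * u₂ * n = ((K.η i a : G))⁻¹ * u₁⁻¹ * n * (n⁻¹ * ((K.ν i)⁻¹ * K.xx i a * K.ν i) * n) := by
      rw [e]; group
    have d1 : delta P (K.ν i * u₂) = K.sg i := by
      rw [delta_mul_B P (K.U_le_B hu₂), K.delta_nu]
    have d2 : delta P (K.ν i * u₂ * n) = K.sg i * mkW P n hn := by
      have := delta_S_mul_up P (x := K.ν i * u₂) (g := n) (by rw [d1]; exact K.sg_mem i)
        (by rw [d1, delta_of_mem_N P hn]; exact h)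
      rw [this, d1, delta_of_mem_N P hn]
    have d3 : delta P (K.ν i * u₂ * n) = mkW P n hn := by
      rw [e1, delta_mul_B P (K.U_le_B h3),
        delta_B_mul P (P.B.mul_mem (P.B.inv_mem (K.T_le_B (K.η i a).2)) (P.B.inv_mem (K.U_le_B hu₁))),
        delta_of_mem_N P hn]
    rw [d2] at d3
    exact K.sg_ne_one i (mul_eq_right.1 d3)

/-- `n0` represents the longest element. -/
theorem top_n0 : (lenSys P).IsTopL (mkW P K.n0 K.hn0) := by
  intro σ hσ
  obtain ⟨i, rfl⟩ := K.exists_sg hσ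
  rcases (lenSys P).step _ hσ (mkW P K.n0 K.hn0) with h | h
  · exfalso
    have h1 := K.conj_of_up i K.hn0 h
    obtain ⟨x, hx, hne⟩ := K.hψ i
    have h2 := K.hopp x (K.U_le_B (K.hXU i hx)) (K.U_le_B (h1 x hx))
    have h3 := K.hUT x (K.hXU i hx) h2
    subst h3
    exact hne (map_one K.ψ)
  · exact h

/-- the "nondegeneracy" of `ψ`. -/
theorem hcell (g : G) : (∃ u : K.U, ∃ t ∈ K.T, ∃ u' ∈ K.U, g = u * K.n0 * t * u') ∨
    (∃ x : K.U, K.ψ x ≠ 1 ∧ g⁻¹ * x * g ∈ K.U) := by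
  obtain ⟨b₁, hb₁, b₂, hb₂, e⟩ := R_rep P g
  set n := rep P (delta P g) with hn
  have hnN : n ∈ P.N := rep_mem P _
  obtain ⟨u₁, hu₁, t₁, ht₁, rfl⟩ := (K.hB b₁).1 hb₁
  obtain ⟨u₂, hu₂, t₂, ht₂, e2⟩ := (K.hB b₂⁻¹).1 (P.B.inv_mem hb₂)
  have e3 : b₂ = t₂⁻¹ * u₂⁻¹ := by rw [← inv_inv b₂, e2]; group
  set n' := t₁ * n * t₂⁻¹ with hn'
  have hn'N : n' ∈ P.N := P.N.mul_mem (P.N.mul_mem (K.T_le_N ht₁) hnN) (P.N.inv_mem (K.T_le_N ht₂))
  have eg : g = u₁ * n' * u₂⁻¹ := by rw [e, e3, hn']; group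
  by_cases htop : (lenSys P).IsTopL (mkW P n' hn'N)
  · left
    have h1 := (lenSys P).topL_unique K.top_n0 htop
    rw [mkW_eq_iff] at h1
    have h2 : K.n0⁻¹ * n' ∈ K.T := (K.hT _).2 ⟨h1, P.N.mul_mem (P.N.inv_mem K.hn0) hn'N⟩
    exact ⟨⟨u₁, hu₁⟩, _, h2, u₂⁻¹, K.U.inv_mem hu₂, by rw [eg]; group⟩
  · right
    unfold LenSys.IsTopL at htop
    push Not at htop
    obtain ⟨σ, hσ, h1⟩ := htop
    obtain ⟨i, rfl⟩ := K.exists_sg hσ
    have h2 : lenW P (K.sg i * mkW P n' hn'N) = lenW P (mkW P n' hn'N) + 1 := by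
      rcases (lenSys P).step _ hσ (mkW P n' hn'N) with h | h
      · exact h
      · exact absurd h h1
    have h3 := K.conj_of_up i hn'N h2
    obtain ⟨x, hx, hne⟩ := K.hψ i
    refine ⟨⟨u₁, hu₁⟩ * ⟨x, K.hXU i hx⟩ * ⟨u₁, hu₁⟩⁻¹, ?_, ?_⟩
    · rw [map_mul, map_mul, map_inv, mul_comm, inv_mul_cancel_left]
      exact hne
    · have e4 : g⁻¹ * ((⟨u₁, hu₁⟩ * ⟨x, K.hXU i hx⟩ * ⟨u₁, hu₁⟩⁻¹ : K.U) : G) * g =
          u₂ * (n'⁻¹ * x * n') * u₂⁻¹ := by
        rw [eg]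
        simp only [Subgroup.coe_mul, Subgroup.coe_inv]
        group
      rw [e4]
      exact K.U.mul_mem (K.U.mul_mem hu₂ (h3 x hx)) (K.U.inv_mem hu₂)


/-! ### cardinalities -/

/-- `X_i = {1} ∪ xx_i(A)` -/
noncomputable def eX (i : ι) : Option A ≃ K.X i :=
  Equiv.ofBijective (fun o => o.elim ⟨1, (K.X i).one_mem⟩ (fun a => ⟨K.xx i a, (K.hxx i a).1⟩)) (by
    constructor
    · intro o o' h
      have h' := congrArg Subtype.val h
      cases o with
      | none =>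
        cases o' with
        | none => rfl
        | some a' => exact absurd h'.symm (K.hxx i a').2
      | some a =>
        cases o' with
        | none => exact absurd h' (K.hxx i a).2
        | some a' => rw [K.hxx_inj i h']
    · rintro ⟨x, hx⟩
      by_cases h1 : x = 1
      · exact ⟨none, Subtype.ext h1.symm⟩
      · obtain ⟨a, ha⟩ := K.hxx_surj i x hx h1
        exact ⟨some a, Subtype.ext ha⟩)

theorem eX_none (i : ι) : ((K.eX i none : K.X i) : G) = 1 := rfl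
theorem eX_some (i : ι) (a : A) : ((K.eX i (some a) : K.X i) : G) = K.xx i a := rfl

/-- `U = X_i Y_i` -/
noncomputable def eU (i : ι) : K.X i × K.Y i ≃ K.U :=
  Equiv.ofBijective (fun p => ⟨p.1 * p.2, K.U.mul_mem (K.hXU i p.1.2) (K.hYU i p.2.2)⟩) (by
    constructor
    · rintro ⟨x, y⟩ ⟨x', y'⟩ h
      have h' : (x : G) * y = x' * y' := congrArg Subtype.val h
      have h1 : (x' : G)⁻¹ * x = y' * (y : G)⁻¹ := by
        rw [inv_mul_eq_iff_eq_mul, ← mul_assoc, eq_mul_inv_iff_mul_eq]; exact h'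
      have h2 := K.hXYbot i _ ((K.X i).mul_mem ((K.X i).inv_mem x'.2) x.2)
        (by rw [h1]; exact (K.Y i).mul_mem y'.2 ((K.Y i).inv_mem y.2))
      have h3 : (x' : G) = x := by rw [inv_mul_eq_one] at h2; exact h2
      have h4 : (y : G) = y' := by rw [h3] at h'; exact mul_left_cancel h'
      exact Prod.ext (Subtype.ext h3.symm) (Subtype.ext h4)
    · rintro ⟨u, hu⟩
      obtain ⟨x, hx, y, hy, rfl⟩ := K.hXY i u hu
      exact ⟨(⟨x, hx⟩, ⟨y, hy⟩), rfl⟩)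

theorem eU_apply (i : ι) (p : K.X i × K.Y i) : ((K.eU i p : K.U) : G) = p.1 * p.2 := rfl

variable [Fintype A]

theorem card_X (i : ι) : Fintype.card (K.X i) = Fintype.card A + 1 := by
  rw [← Fintype.card_congr (K.eX i), Fintype.card_option]

theorem card_U (i : ι) : Fintype.card K.U = Fintype.card (K.X i) * Fintype.card (K.Y i) := by
  rw [← Fintype.card_congr (K.eU i), Fintype.card_prod]

theorem mem_cell_one {g : G} : g ∈ cell P 1 ↔ g ∈ P.B := by
  rw [mem_cell, delta_eq_one_iff]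

theorem not_mem_B_of_conj (i : ι) {z : G} (hz : z ∈ K.X i) (h1 : z ≠ 1) : (K.ν i)⁻¹ * z * K.ν i ∉ P.B := by
  intro h
  obtain ⟨a, rfl⟩ := K.hxx_surj i z hz h1
  obtain ⟨u₁, hu₁, u₂, hu₂, e⟩ := K.hrk i a
  rw [e, ← delta_eq_one_iff P, delta_mul_B P (K.U_le_B hu₂),
    delta_B_mul P (P.B.mul_mem (K.U_le_B hu₁) (K.T_le_B (K.η i a).2)), K.delta_nu] at h
  exact K.sg_ne_one i h

theorem card_cell_sg (i : ι) : (cell P (K.sg i)).card = (Fintype.card A + 1) * (cell P 1).card := by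
  rw [← K.card_X i, ← Finset.card_univ, ← Finset.card_product]
  symm
  apply Finset.card_bij (fun (p : K.X i × G) _ => (p.1 : G) * K.ν i * p.2)
  · rintro ⟨x, b⟩ hp
    rw [Finset.mem_product, mem_cell_one] at hp
    rw [mem_cell, delta_mul_B P hp.2, delta_B_mul P (K.U_le_B (K.hXU i x.2)), K.delta_nu]
  · rintro ⟨x, b⟩ hp ⟨x', b'⟩ hp' h
    rw [Finset.mem_product, mem_cell_one] at hp hp'
    simp only at h hp hp'
    have h1 : (K.ν i)⁻¹ * ((x' : G)⁻¹ * x) * K.ν i = b' * b⁻¹ := by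
      have : (x : G) * K.ν i = x' * K.ν i * b' * b⁻¹ := by rw [← h]; group
      calc (K.ν i)⁻¹ * ((x' : G)⁻¹ * x) * K.ν i = (K.ν i)⁻¹ * (x' : G)⁻¹ * (x * K.ν i) := by group
        _ = b' * b⁻¹ := by rw [this]; group
    have h2 : (x' : G)⁻¹ * x = 1 := by
      by_contra hne
      exact K.not_mem_B_of_conj i ((K.X i).mul_mem ((K.X i).inv_mem x'.2) x.2) hne
        (by rw [h1]; exact P.B.mul_mem hp'.2 (P.B.inv_mem hp.2))
    have h3 : (x' : G) = x := by rw [inv_mul_eq_one] at h2; exact h2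
    have h4 : b = b' := by rw [h3] at h; exact mul_left_cancel h
    exact Prod.ext (Subtype.ext h3.symm) h4
  · intro g hg
    rw [mem_cell] at hg
    obtain ⟨b₁, hb₁, b₂, hb₂, rfl⟩ := R_of_delta_eq P (K.mem_N i) hg
    obtain ⟨u, hu, t, ht, rfl⟩ := (K.hB b₁).1 hb₁
    obtain ⟨x, hx, y, hy, rfl⟩ := K.hXY i u hu
    refine ⟨(⟨x, hx⟩, ((K.ν i)⁻¹ * y * K.ν i) * ((K.ν i)⁻¹ * t * K.ν i) * b₂), ?_, by simp only []; group⟩
    rw [Finset.mem_product, mem_cell_one]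
    refine ⟨Finset.mem_univ _, P.B.mul_mem (P.B.mul_mem (K.U_le_B (K.hY i y hy)) ?_) hb₂⟩
    exact (conj_mem_T' (K.mem_N i) ((K.hT t).1 ht)).1

theorem card_cell_top : (cell P (mkW P K.n0 K.hn0)).card = Fintype.card K.U * (cell P 1).card := by
  rw [← Finset.card_univ, ← Finset.card_product]
  symm
  apply Finset.card_bij (fun (p : K.U × G) _ => (p.1 : G) * K.n0 * p.2)
  · rintro ⟨x, b⟩ hp
    rw [Finset.mem_product, mem_cell_one] at hp
    rw [mem_cell, delta_mul_B P hp.2, delta_B_mul P (K.U_le_B x.2), delta_of_mem_N P K.hn0]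
  · rintro ⟨x, b⟩ hp ⟨x', b'⟩ hp' h
    rw [Finset.mem_product, mem_cell_one] at hp hp'
    simp only at h hp hp'
    have h1 : K.n0⁻¹ * ((x' : G)⁻¹ * x) * K.n0 = b' * b⁻¹ := by
      have : (x : G) * K.n0 = x' * K.n0 * b' * b⁻¹ := by rw [← h]; group
      calc K.n0⁻¹ * ((x' : G)⁻¹ * x) * K.n0 = K.n0⁻¹ * (x' : G)⁻¹ * (x * K.n0) := by group
        _ = b' * b⁻¹ := by rw [this]; group
    have hz : (x' : G)⁻¹ * x ∈ K.U := K.U.mul_mem (K.U.inv_mem x'.2) x.2
    have h2 : (x' : G)⁻¹ * x = 1 :=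
      K.hUT _ hz (K.hopp _ (K.U_le_B hz) (by rw [h1]; exact P.B.mul_mem hp'.2 (P.B.inv_mem hp.2)))
    have h3 : (x' : G) = x := by rw [inv_mul_eq_one] at h2; exact h2
    have h4 : b = b' := by rw [h3] at h; exact mul_left_cancel h
    exact Prod.ext (Subtype.ext h3.symm) h4
  · intro g hg
    rw [mem_cell] at hg
    obtain ⟨b₁, hb₁, b₂, hb₂, rfl⟩ := R_of_delta_eq P K.hn0 hg
    obtain ⟨u, hu, t, ht, rfl⟩ := (K.hB b₁).1 hb₁
    refine ⟨(⟨u, hu⟩, (K.n0⁻¹ * t * K.n0) * b₂), ?_, by simp only []; group⟩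
    rw [Finset.mem_product, mem_cell_one]
    exact ⟨Finset.mem_univ _, P.B.mul_mem (conj_mem_T' K.hn0 ((K.hT t).1 ht)).1 hb₂⟩

end RK

/-! ### the normalised cell sizes -/

section aa

variable (P)

/-- `|B w B| / |B|` -/
noncomputable def aa (w : Wg P) : ℝ := ((cell P w).card : ℝ) / ((cell P 1).card : ℝ)

theorem c1_pos : (0 : ℝ) < ((cell P 1).card : ℝ) := by exact_mod_cast cell_pos P 1

theorem aa_pos (w : Wg P) : 0 < aa P w := div_pos (by exact_mod_cast cell_pos P w) (c1_pos P)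

theorem aa_one : aa P 1 = 1 := div_self (c1_pos P).ne'

theorem aa_up {σ w : Wg P} (hσ : σ ∈ SW P) (h : lenW P (σ * w) = lenW P w + 1) :
    aa P (σ * w) = aa P σ * aa P w := by
  have h1 := card_up P hσ h
  have h2 : ((cell P (σ * w)).card : ℝ) * ((cell P 1).card : ℝ) = ((cell P σ).card : ℝ) * ((cell P w).card : ℝ) := by
    exact_mod_cast h1
  have h0 := (c1_pos P).ne'
  unfold aa
  field_simp
  linear_combination h2

theorem aa_add : ∀ (k : ℕ) (x y : Wg P), lenW P x = k → lenW P (x * y) = lenW P x + lenW P y →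
    aa P (x * y) = aa P x * aa P y := by
  intro k
  induction k with
  | zero =>
    intro x y hx _
    have : x = 1 := ((lenSys P).l_eq_zero x).1 hx
    rw [this, one_mul, aa_one, one_mul]
  | succ k ih =>
    intro x y hx hxy
    have hx1 : x ≠ 1 := by
      rintro rfl
      have := (lenSys P).l_one
      simp only [lenSys_l] at this
      omega
    obtain ⟨σ, hσ, h1⟩ := (lenSys P).desc x hx1
    simp only [lenSys_l, lenSys_S] at h1 hσ
    set x' := σ * x with hx'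
    have e : x = σ * x' := by rw [hx', (lenSys P).mul_mul_cancel hσ]
    have h2 := (lenSys P).l_mul_le x' y
    simp only [lenSys_l] at h2
    have h3 := (lenSys P).step σ hσ (x' * y)
    simp only [lenSys_l] at h3
    have e2 : σ * (x' * y) = x * y := by rw [e]; group
    rw [e2] at h3
    have h4 : lenW P (x' * y) = lenW P x' + lenW P y := by omega
    have h5 : aa P (x * y) = aa P σ * aa P (x' * y) := by
      rw [← e2]
      apply aa_up P hσ
      rw [e2]; omega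
    have h6 : aa P x = aa P σ * aa P x' := by
      conv_lhs => rw [e]
      apply aa_up P hσ
      rw [← e]; omega
    rw [h5, ih x' y (by omega) h4, h6, mul_assoc]

end aa


/-! ### spherical functions -/

/-- the properties of the matrix coefficient `f(g) = ⟨ρ(g) v, v^*⟩` of a `U`-fixed `θ`-eigenvector. -/
structure Fn (K : RK P ι A) (f : G → ℂ) (θ : K.T →* ℂˣ) : Prop where
  left_U : ∀ u ∈ K.U, ∀ g, f (u * g) = f g
  right_U : ∀ u ∈ K.U, ∀ g, f (g * u) = f g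
  left_T : ∀ (t : K.T) g, f (t * g) = ((θ t : ℂˣ) : ℂ) * f g
  right_T : ∀ (t : K.T) g, f (g * t) = ((θ t : ℂˣ) : ℂ) * f g
  one : f 1 = 1
  conv : ∀ g h, ∑ u : K.U, f (g * u * h) = (Fintype.card K.U : ℂ) * f g * f h
  schur : ∑ g, f g * f g⁻¹ = (Fintype.card G : ℂ) / (Fintype.card K.U : ℂ)

namespace Fn

variable {K} {f : G → ℂ} {θ : K.T →* ℂˣ} (H : Fn K f θ)
include H

theorem cardU_ne : (Fintype.card K.U : ℂ) ≠ 0 := by
  exact_mod_cast Fintype.card_ne_zero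

theorem phi_B_mul {b : G} (hb : b ∈ P.B) (g : G) : f (b * g) * f (b * g)⁻¹ = f g * f g⁻¹ := by
  obtain ⟨u, hu, t, ht, rfl⟩ := (K.hB b).1 hb
  have e1 : f (u * t * g) = ((θ ⟨t, ht⟩ : ℂˣ) : ℂ) * f g := by
    rw [mul_assoc, H.left_U u hu]
    exact H.left_T ⟨t, ht⟩ g
  have e2 : f (u * t * g)⁻¹ = ((θ ⟨t, ht⟩⁻¹ : ℂˣ) : ℂ) * f g⁻¹ := by
    have : (u * t * g)⁻¹ = g⁻¹ * ((⟨t, ht⟩⁻¹ : K.T) : G) * u⁻¹ := by
      simp only [Subgroup.coe_inv]; group
    rw [this, H.right_U _ (K.U.inv_mem hu)]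
    exact H.right_T _ _
  rw [e1, e2, map_inv]
  have : ((θ ⟨t, ht⟩ : ℂˣ) : ℂ) * (((θ ⟨t, ht⟩)⁻¹ : ℂˣ) : ℂ) = 1 := by
    rw [← Units.val_mul, mul_inv_cancel, Units.val_one]
  linear_combination (f g * f g⁻¹) * this

theorem phi_mul_B {b : G} (hb : b ∈ P.B) (g : G) : f (g * b) * f (g * b)⁻¹ = f g * f g⁻¹ := by
  have := H.phi_B_mul (P.B.inv_mem hb) g⁻¹
  rw [inv_inv] at this
  have e : (g * b)⁻¹ = b⁻¹ * g⁻¹ := by group
  have e' : (b⁻¹ * g⁻¹)⁻¹ = g * b := by group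
  rw [e, mul_comm, ← e', this, mul_comm]

theorem phi_delta {g g' : G} (h : delta P g = delta P g') : f g * f g⁻¹ = f g' * f g'⁻¹ := by
  obtain ⟨x, hx, y, hy, rfl⟩ := (delta_eq_delta_iff P).1 h
  rw [H.phi_mul_B hy, H.phi_B_mul hx]

theorem mul_up (i : ι) {n : G} (hn : n ∈ P.N)
    (h : lenW P (K.sg i * mkW P n hn) = lenW P (mkW P n hn) + 1) :
    f (K.ν i * n) = f (K.ν i) * f n ∧ f (n⁻¹ * (K.ν i)⁻¹) = f n⁻¹ * f (K.ν i)⁻¹ := by
  have hc := K.conj_of_up i hn h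
  have h0 := H.cardU_ne
  constructor
  · have h1 := H.conv (K.ν i) n
    rw [Finset.sum_congr rfl (g := fun _ => f (K.ν i * n)), Finset.sum_const, Finset.card_univ,
      nsmul_eq_mul] at h1
    · have : (Fintype.card K.U : ℂ) * (f (K.ν i * n) - f (K.ν i) * f n) = 0 := by linear_combination h1
      rcases mul_eq_zero.1 this with h2 | h2
      · exact absurd h2 h0
      · linear_combination h2
    · intro u _
      obtain ⟨x, hx, y, hy, e⟩ := K.hXY i (u : G)⁻¹ (K.U.inv_mem u.2)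
      have e1 : (u : G) = y⁻¹ * x⁻¹ := by rw [← inv_inv (u : G), e]; group
      have e2 : K.ν i * (u : G) * n = (K.ν i * y⁻¹ * (K.ν i)⁻¹) * (K.ν i * n) * (n⁻¹ * x⁻¹ * n) := by
        rw [e1]; group
      rw [e2, H.right_U _ (hc _ ((K.X i).inv_mem hx)), H.left_U _ (K.hY' i _ ((K.Y i).inv_mem hy))]
  · have h1 := H.conv n⁻¹ (K.ν i)⁻¹
    rw [Finset.sum_congr rfl (g := fun _ => f (n⁻¹ * (K.ν i)⁻¹)), Finset.sum_const, Finset.card_univ,
      nsmul_eq_mul] at h1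
    · have : (Fintype.card K.U : ℂ) * (f (n⁻¹ * (K.ν i)⁻¹) - f n⁻¹ * f (K.ν i)⁻¹) = 0 := by
        linear_combination h1
      rcases mul_eq_zero.1 this with h2 | h2
      · exact absurd h2 h0
      · linear_combination h2
    · intro u _
      obtain ⟨x, hx, y, hy, e⟩ := K.hXY i (u : G) u.2
      have e2 : n⁻¹ * (u : G) * (K.ν i)⁻¹ = (n⁻¹ * x * n) * (n⁻¹ * (K.ν i)⁻¹) * (K.ν i * y * (K.ν i)⁻¹) := by
        rw [e]; group
      rw [e2, H.right_U _ (K.hY' i _ hy), H.left_U _ (hc _ hx)]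

variable [Fintype A]

/-- the quadratic relation. -/
theorem quad (i : ι) : ((Fintype.card A : ℂ) + 1) * (f (K.ν i)⁻¹ * f (K.ν i)) =
    1 + (∑ a : A, ((θ (K.η i a) : ℂˣ) : ℂ)) * f (K.ν i) := by
  have h1 := H.conv (K.ν i)⁻¹ (K.ν i)
  rw [← Equiv.sum_comp (K.eU i), Fintype.sum_prod_type] at h1
  have h2 : ∀ (x : K.X i) (y : K.Y i), f ((K.ν i)⁻¹ * ((K.eU i (x, y) : K.U) : G) * K.ν i) =
      f ((K.ν i)⁻¹ * x * K.ν i) := by
    intro x y
    have e : (K.ν i)⁻¹ * ((K.eU i (x, y) : K.U) : G) * K.ν i =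
        ((K.ν i)⁻¹ * x * K.ν i) * ((K.ν i)⁻¹ * y * K.ν i) := by
      rw [K.eU_apply]; group
    rw [e, H.right_U _ (K.hY i y y.2)]
  simp_rw [h2] at h1
  simp only [Finset.sum_const, Finset.card_univ, nsmul_eq_mul] at h1
  rw [← Finset.mul_sum, ← Equiv.sum_comp (K.eX i), Fintype.sum_option, K.eX_none] at h1
  have h3 : ∀ a : A, f ((K.ν i)⁻¹ * ((K.eX i (some a) : K.X i) : G) * K.ν i) =
      ((θ (K.η i a) : ℂˣ) : ℂ) * f (K.ν i) := by
    intro a
    obtain ⟨u₁, hu₁, u₂, hu₂, e⟩ := K.hrk i a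
    rw [K.eX_some, e, H.right_U _ hu₂, mul_assoc, H.left_U _ hu₁]
    exact H.left_T _ _
  simp_rw [h3] at h1
  rw [← Finset.sum_mul] at h1
  have h4 : (K.ν i)⁻¹ * 1 * K.ν i = 1 := by group
  rw [h4, H.one, K.card_U i, K.card_X i] at h1
  have hY0 : (Fintype.card (K.Y i) : ℂ) ≠ 0 := by exact_mod_cast Fintype.card_ne_zero
  push_cast at h1
  have h5 : (Fintype.card (K.Y i) : ℂ) * (((Fintype.card A : ℂ) + 1) * (f (K.ν i)⁻¹ * f (K.ν i)) -
    (1 + (∑ a : A, ((θ (K.η i a) : ℂˣ) : ℂ)) * f (K.ν i))) = 0 := by linear_combination -h1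
  rcases mul_eq_zero.1 h5 with h6 | h6
  · exact absurd h6 hY0
  · linear_combination h6

theorem f_inv (i : ι) (hθ : ∀ a, θ (K.η i a) = 1) : f (K.ν i)⁻¹ = f (K.ν i) := by
  obtain ⟨a, ha⟩ := K.hsq i
  have e : (K.ν i)⁻¹ = K.ν i * (((K.η i a)⁻¹ : K.T) : G) := by
    rw [Subgroup.coe_inv, ← ha]; group
  rw [e, H.right_T, map_inv, hθ a]
  simp

/-- the three possible values of `φ(s)`. -/
theorem phi_cases (i : ι) :
    ((∀ a, θ (K.η i a) = 1) ∧ (f (K.ν i) * f (K.ν i)⁻¹ = 1 ∨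
      f (K.ν i) * f (K.ν i)⁻¹ = 1 / ((Fintype.card A : ℂ) + 1) ^ 2)) ∨
    ((¬ ∀ a, θ (K.η i a) = 1) ∧ f (K.ν i) * f (K.ν i)⁻¹ = 1 / ((Fintype.card A : ℂ) + 1)) := by
  have hq := H.quad i
  have hq0 : ((Fintype.card A : ℂ) + 1) ≠ 0 := by
    have : ((Fintype.card A + 1 : ℕ) : ℂ) ≠ 0 := Nat.cast_ne_zero.2 (Nat.succ_ne_zero _)
    simpa using this
  by_cases hθ : ∀ a, θ (K.η i a) = 1
  · left
    refine ⟨hθ, ?_⟩
    rw [H.f_inv i hθ] at hq ⊢
    simp only [hθ, Units.val_one, Finset.sum_const, Finset.card_univ, nsmul_eq_mul, mul_one] at hq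
    have h1 : (f (K.ν i) - 1) * (((Fintype.card A : ℂ) + 1) * f (K.ν i) + 1) = 0 := by
      linear_combination hq
    rcases mul_eq_zero.1 h1 with h2 | h2
    · left
      have : f (K.ν i) = 1 := by linear_combination h2
      rw [this]; ring
    · right
      have : f (K.ν i) = -1 / ((Fintype.card A : ℂ) + 1) := by
        field_simp
        linear_combination h2
      rw [this]
      field_simp
  · right
    refine ⟨hθ, ?_⟩
    have hz : ∑ a : A, ((θ (K.η i a) : ℂˣ) : ℂ) = 0 := by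
      have := sum_hom_units_eq_zero ((Units.coeHom ℂ).comp (θ.comp (K.η i))) (by
        intro h
        apply hθ
        intro a
        have := congrArg (fun φ : A →* ℂ => φ a) h
        simp only [MonoidHom.comp_apply, Units.coeHom_apply, MonoidHom.one_apply] at this
        exact Units.ext this)
      simpa using this
    rw [hz, zero_mul, add_zero] at hq
    field_simp
    linear_combination hq

/-- **the main inequality**: `φ(w) a(w)^2 ≥ 1`. -/
theorem phi_ge : ∀ (k : ℕ) (w : Wg P), lenW P w = k →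
    ∃ r : ℝ, f (rep P w) * f (rep P w)⁻¹ = (r : ℂ) ∧ 1 ≤ r * aa P w ^ 2 := by
  intro k
  induction k with
  | zero =>
    intro w hw
    have : w = 1 := ((lenSys P).l_eq_zero w).1 hw
    subst this
    refine ⟨1, ?_, by rw [aa_one]; norm_num⟩
    have h1 : delta P (rep P (1 : Wg P)) = delta P 1 := by
      rw [delta_rep, (delta_eq_one_iff P).2 P.B.one_mem]
    rw [H.phi_delta h1, inv_one, H.one]
    norm_num
  | succ k ih =>
    intro w hw
    have hw1 : w ≠ 1 := by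
      rintro rfl
      have := (lenSys P).l_one
      simp only [lenSys_l] at this
      omega
    obtain ⟨σ, hσ, h1⟩ := (lenSys P).desc w hw1
    simp only [lenSys_l, lenSys_S] at h1 hσ
    obtain ⟨i, rfl⟩ := K.exists_sg hσ
    set w' := K.sg i * w with hw'
    have e : w = K.sg i * w' := by rw [hw', (lenSys P).mul_mul_cancel hσ]
    obtain ⟨r', hr', hr2'⟩ := ih w' (by omega)
    have hup : lenW P (K.sg i * mkW P (rep P w') (rep_mem P w')) = lenW P (mkW P (rep P w') (rep_mem P w')) + 1 := by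
      rw [mkW_rep, ← e]; omega
    obtain ⟨m1, m2⟩ := H.mul_up i (rep_mem P w') hup
    have hd : delta P (rep P w) = delta P (K.ν i * rep P w') := by
      rw [delta_rep, delta_of_mem_N P (P.N.mul_mem (K.mem_N i) (rep_mem P w')),
        ← mkW_mul P (K.mem_N i) (rep_mem P w'), mkW_rep]
      exact e
    have e3 : (K.ν i * rep P w')⁻¹ = (rep P w')⁻¹ * (K.ν i)⁻¹ := by group
    have hphi : f (rep P w) * f (rep P w)⁻¹ = (f (K.ν i) * f (K.ν i)⁻¹) * (r' : ℂ) := by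
      rw [H.phi_delta hd, e3, m1, m2, ← hr']; ring
    have haa : aa P w = aa P (K.sg i) * aa P w' := by
      conv_lhs => rw [e]
      apply aa_up P hσ
      rw [← e]; omega
    have hq : aa P (K.sg i) = (Fintype.card A : ℝ) + 1 := by
      unfold aa
      rw [K.card_cell_sg i]
      push_cast
      exact mul_div_cancel_right₀ _ (c1_pos P).ne'
    have hqpos : (1 : ℝ) ≤ (Fintype.card A : ℝ) + 1 := by
      have : (0 : ℝ) ≤ (Fintype.card A : ℝ) := Nat.cast_nonneg _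
      linarith
    have hgen : ∀ r0 : ℝ, f (K.ν i) * f (K.ν i)⁻¹ = (r0 : ℂ) → 1 ≤ r0 * ((Fintype.card A : ℝ) + 1) ^ 2 →
        ∃ r : ℝ, f (rep P w) * f (rep P w)⁻¹ = (r : ℂ) ∧ 1 ≤ r * aa P w ^ 2 := by
      intro r0 h0 h0'
      refine ⟨r0 * r', by rw [hphi, h0]; push_cast; ring, ?_⟩
      rw [haa, hq]
      have : r0 * r' * (((Fintype.card A : ℝ) + 1) * aa P w') ^ 2 =
          (r0 * ((Fintype.card A : ℝ) + 1) ^ 2) * (r' * aa P w' ^ 2) := by ring
      rw [this]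
      nlinarith
    rcases H.phi_cases i with ⟨-, h2 | h2⟩ | ⟨-, h2⟩
    · apply hgen 1 (by rw [h2]; norm_num)
      nlinarith
    · apply hgen (1 / ((Fintype.card A : ℝ) + 1) ^ 2) (by rw [h2]; push_cast; ring)
      have : ((Fintype.card A : ℝ) + 1) ^ 2 ≠ 0 := by positivity
      field_simp
      exact le_refl _
    · apply hgen (1 / ((Fintype.card A : ℝ) + 1)) (by rw [h2]; push_cast; ring)
      have : ((Fintype.card A : ℝ) + 1) ≠ 0 := by positivity
      field_simp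
      linarith


/-- **`θ` is trivial.** -/
theorem theta_one : θ = 1 := by
  have : Fintype (Wg P) := Fintype.ofFinite _
  choose r hr1 hr2 using fun w => H.phi_ge _ w rfl
  set w0 := mkW P K.n0 K.hn0 with hw0
  have htop := K.top_n0
  have hc1 := c1_pos P
  have h1 : ∀ w, aa P w * aa P (w⁻¹ * w0) = aa P w0 := by
    intro w
    have h := (lenSys P).top_add htop _ w rfl
    simp only [lenSys_l] at h
    rw [← aa_add P _ w (w⁻¹ * w0) rfl (by rw [mul_inv_cancel_left]; exact h), mul_inv_cancel_left]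
  have h2 : aa P w0 = (Fintype.card K.U : ℝ) := by
    unfold aa
    rw [hw0, K.card_cell_top]
    push_cast
    exact mul_div_cancel_right₀ _ hc1.ne'
  have hU0 : (0 : ℝ) < (Fintype.card K.U : ℝ) := by exact_mod_cast Fintype.card_pos
  have h3 : ∑ w, ((cell P w).card : ℝ) = (Fintype.card G : ℝ) := by
    have h := sum_cells P (fun _ => (1 : ℝ))
    simp only [Finset.sum_const, Finset.card_univ, nsmul_eq_mul, mul_one] at h
    exact h.symm
  have h4 : ∑ w, ((cell P w).card : ℝ) * r w = (Fintype.card G : ℝ) / (Fintype.card K.U : ℝ) := by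
    have e := H.schur
    have e1 : ∑ g, f g * f g⁻¹ = ∑ g, (fun w => ((r w : ℝ) : ℂ)) (delta P g) := by
      apply Finset.sum_congr rfl
      intro g _
      show f g * f g⁻¹ = ((r (delta P g) : ℝ) : ℂ)
      rw [← hr1]
      exact H.phi_delta (delta_rep P _).symm
    have e2 := sum_cells P (fun w => ((r w : ℝ) : ℂ))
    rw [e1, e2] at e
    simp only [nsmul_eq_mul] at e
    apply Complex.ofReal_injective
    push_cast
    exact e
  have h5 : ∑ w, ((cell P 1).card : ℝ) / aa P w = (Fintype.card G : ℝ) / (Fintype.card K.U : ℝ) := by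
    rw [← h3, Finset.sum_div, ← Equiv.sum_comp ((Equiv.inv (Wg P)).trans (Equiv.mulRight w0))]
    apply Finset.sum_congr rfl
    intro w _
    simp only [Equiv.trans_apply, Equiv.inv_apply, Equiv.coe_mulRight]
    have ha := aa_pos P w
    have e2 : ((cell P w).card : ℝ) = aa P w * ((cell P 1).card : ℝ) := by
      unfold aa
      rw [div_mul_cancel₀ _ hc1.ne']
    rw [e2, ← h2, ← h1 w]
    have hb := aa_pos P (w⁻¹ * w0)
    field_simp
  have h6 : ∑ w, (((cell P w).card : ℝ) * r w - ((cell P 1).card : ℝ) / aa P w) = 0 := by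
    rw [Finset.sum_sub_distrib, h4, h5, sub_self]
  have hterm : ∀ w, ((cell P w).card : ℝ) * r w - ((cell P 1).card : ℝ) / aa P w =
      ((cell P 1).card : ℝ) * (r w * aa P w ^ 2 - 1) / aa P w := by
    intro w
    have ha := aa_pos P w
    have e2 : ((cell P w).card : ℝ) = aa P w * ((cell P 1).card : ℝ) := by
      unfold aa
      rw [div_mul_cancel₀ _ hc1.ne']
    rw [e2]
    field_simp
  have h7 : ∀ w ∈ (Finset.univ : Finset (Wg P)),
      0 ≤ ((cell P w).card : ℝ) * r w - ((cell P 1).card : ℝ) / aa P w := by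
    intro w _
    rw [hterm]
    apply div_nonneg _ (aa_pos P w).le
    apply mul_nonneg hc1.le
    linarith [hr2 w]
  have h8 := (Finset.sum_eq_zero_iff_of_nonneg h7).1 h6
  apply K.hgen
  intro i
  by_contra hcon
  have h9 := h8 (K.sg i) (Finset.mem_univ _)
  rw [hterm, div_eq_zero_iff] at h9
  have h10 : r (K.sg i) * aa P (K.sg i) ^ 2 = 1 := by
    rcases h9 with h9 | h9
    · rcases mul_eq_zero.1 h9 with h | h
      · exact absurd h hc1.ne'
      · linarith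
    · exact absurd h9 (aa_pos P _).ne'
  have hq : aa P (K.sg i) = (Fintype.card A : ℝ) + 1 := by
    unfold aa
    rw [K.card_cell_sg i]
    push_cast
    exact mul_div_cancel_right₀ _ hc1.ne'
  rcases H.phi_cases i with ⟨h, -⟩ | ⟨-, h⟩
  · exact hcon h
  · have hd : delta P (rep P (K.sg i)) = delta P (K.ν i) := by rw [delta_rep, K.delta_nu]
    have h11 := hr1 (K.sg i)
    rw [H.phi_delta hd, h] at h11
    have h12 : r (K.sg i) = 1 / ((Fintype.card A : ℝ) + 1) := by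
      have : ((1 / ((Fintype.card A : ℝ) + 1) : ℝ) : ℂ) = (r (K.sg i) : ℂ) := by
        rw [← h11]; push_cast; ring
      exact_mod_cast this.symm
    rw [h12, hq] at h10
    obtain ⟨a⟩ := K.exists_a i
    have hA : (0 : ℝ) < (Fintype.card A : ℝ) := by
      have : 0 < Fintype.card A := Fintype.card_pos_iff.2 ⟨a⟩
      exact_mod_cast this
    have : ((Fintype.card A : ℝ) + 1) ≠ 0 := by positivity
    field_simp at h10
    nlinarith

end Fn

end Cfsg.Agent.Lib.Helper46DZ4
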