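import Mathlib
import Cfsg.Agent.Lib.Helper46DZ4

set_option autoImplicit false
set_option linter.unusedSectionVars false
set_option linter.unusedSimpArgs false
set_option linter.unusedVariables false

/-! Uniqueness of the irreducible character vanishing on `U ∖ 1` for split BN-pairs with rank one data. -/

namespace Cfsg.Agent.Lib.Helper46DZ5

open Cfsg Cfsg.Agent.Lib.Helper46Fourier Cfsg.Agent.Lib.Helper83Char Cfsg.Agent.Lib.Helper46DZ1
open Cfsg.Agent.Lib.Helper46DZ4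

attribute [local instance] Cfsg.Agent.Lib.Helper46DZ1.instFT

variable {G : Type*} [Group G] [Fintype G]

/-- The abstract data: `U`, `T`, a linear character `ψ` of `U` which is "nondegenerate". -/
structure Base (G : Type*) [Group G] where
  U : Subgroup G
  T : Subgroup G
  ψ : U →* ℂˣ
  n0 : G
  hTU : ∀ t ∈ T, ∀ u ∈ U, t * u * t⁻¹ ∈ U
  hTcomm : ∀ a b : T, a * b = b * a
  hcell : ∀ g : G, (∃ u : U, ∃ t ∈ T, ∃ u' ∈ U, g = u * n0 * t * u') ∨
    (∃ x : U, ψ x ≠ 1 ∧ g⁻¹ * x * g ∈ U)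

variable (X : Base G) {V : Type*} [AddCommGroup V] [Module ℂ V] [FiniteDimensional ℂ V]
  (ρ : Representation ℂ G V)

theorem exists_eigen {v₁ : V} (h0 : v₁ ≠ 0) (hU : ∀ u ∈ X.U, ρ u v₁ = v₁) :
    ∃ (θ : X.T →* ℂˣ) (v : V), v ≠ 0 ∧ (∀ u ∈ X.U, ρ u v = v) ∧
      ∀ t : X.T, ρ (t : G) v = ((θ t : ℂˣ) : ℂ) • v := by
  obtain ⟨ℓ, hℓ⟩ : ∃ ℓ : Module.Dual ℂ V, ℓ v₁ ≠ 0 := by
    by_contra hcon
    push Not at hcon
    exact h0 ((Module.forall_dual_apply_eq_zero_iff ℂ v₁).1 hcon)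
  obtain ⟨θ, hθ⟩ : ∃ θ : X.T →* ℂˣ, ∑ t : X.T, ℓ (ρ (t : G) v₁) * (starRingEnd ℂ) ((θ t : ℂˣ) : ℂ) ≠ 0 := by
    by_contra hcon
    push Not at hcon
    have := fourier' X.hTcomm (fun t : X.T => ℓ (ρ (t : G) v₁)) hcon
    have h1 := congrFun this 1
    simp at h1
    exact hℓ h1
  refine ⟨θ, ∑ t : X.T, ((θ t⁻¹ : ℂˣ) : ℂ) • ρ (t : G) v₁, ?_, ?_, ?_⟩
  · intro h
    apply hθ
    have := congrArg ℓ h
    rw [map_sum, map_zero] at this
    rw [← this]
    apply Finset.sum_congr rfl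
    intro t _
    rw [map_smul, conj_hom, smul_eq_mul, mul_comm]
  · intro u hu
    rw [map_sum]
    apply Finset.sum_congr rfl
    intro t _
    rw [map_smul]
    congr 1
    have h1 : (t : G)⁻¹ * u * ((t : G)⁻¹)⁻¹ ∈ X.U := X.hTU _ (inv_mem t.2) u hu
    have h2 : u * (t : G) = (t : G) * ((t : G)⁻¹ * u * ((t : G)⁻¹)⁻¹) := by group
    rw [← Module.End.mul_apply, ← map_mul, h2, map_mul, Module.End.mul_apply, hU _ h1]
  · intro t₀
    rw [map_sum, Finset.smul_sum]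
    apply Fintype.sum_equiv (Equiv.mulLeft t₀)
    intro t
    rw [map_smul, ← Module.End.mul_apply, ← map_mul, smul_smul]
    simp only [Equiv.coe_mulLeft, Subgroup.coe_mul, mul_inv_rev, map_mul, Units.val_mul, map_inv]
    congr 1
    have : ((θ t₀ : ℂˣ) : ℂ) ≠ 0 := Units.ne_zero _
    rw [Units.val_inv_eq_inv_val, Units.val_inv_eq_inv_val]
    field_simp

/-- conjugation by an element of `T` as a permutation of `U`. -/
def cT (t : G) (ht : t ∈ X.T) : X.U ≃ X.U where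
  toFun u := ⟨t * u * t⁻¹, X.hTU t ht u u.2⟩
  invFun u := ⟨t⁻¹ * u * t, by simpa using X.hTU t⁻¹ (inv_mem ht) u u.2⟩
  left_inv u := by apply Subtype.ext; simp only []; group
  right_inv u := by apply Subtype.ext; simp only []; group

theorem rho_T_E {t : G} (ht : t ∈ X.T) : ρ t * E ρ X.U 1 = E ρ X.U 1 * ρ t := by
  unfold E
  rw [mul_smul_comm, smul_mul_assoc, Finset.mul_sum, Finset.sum_mul]
  congr 1
  apply Fintype.sum_equiv (cT X t ht)
  intro u
  simp only [MonoidHom.one_apply, Units.val_one, one_smul]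
  rw [← map_mul, ← map_mul]
  congr 1
  simp [cT]


theorem E_one_apply (x : V) : E ρ X.U 1 x = (Nat.card X.U : ℂ)⁻¹ • ∑ u : X.U, ρ (u : G) x := by
  unfold E
  simp [LinearMap.sum_apply]

theorem key [ρ.IsIrreducible] (h : ∀ u ∈ X.U, u ≠ 1 → ρ.character u = 0)
    (hθ0 : ∀ (θ : X.T →* ℂˣ) (v : V), v ≠ 0 → (∀ u ∈ X.U, ρ u v = v) →
      (∀ t : X.T, ρ (t : G) v = ((θ t : ℂˣ) : ℂ) • v) →
      Module.finrank ℂ (LinearMap.range (E ρ X.U 1)) = 1 →
      (Module.finrank ℂ V : ℂ) = (Nat.card X.U : ℂ) → θ = 1) :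
    ∃ (v : V) (ℓ : V →ₗ[ℂ] ℂ),
      (∀ (u : X.U) (g : G), ℓ (ρ (u * g) v) = ((X.ψ u : ℂˣ) : ℂ) * ℓ (ρ g v)) ∧
      (∀ g, ∀ u ∈ X.U, ℓ (ρ (g * u) v) = ℓ (ρ g v)) ∧ (∀ g, ∀ t ∈ X.T, ℓ (ρ (g * t) v) = ℓ (ρ g v)) ∧
      ℓ (ρ X.n0 v) ≠ 0 := by
  have hd : 0 < Module.finrank ℂ V := finrank_pos_of_irreducible ρ
  have htr : ∀ φ : X.U →* ℂˣ, (Module.finrank ℂ (LinearMap.range (E ρ X.U φ)) : ℂ) =
      (Module.finrank ℂ V : ℂ) / (Nat.card X.U : ℂ) := fun φ => by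
    rw [← trace_eq_finrank, trace_E _ _ _ h]
  have hpos : ∀ φ : X.U →* ℂˣ, Module.finrank ℂ (LinearMap.range (E ρ X.U φ)) ≠ 0 := by
    intro φ h0
    have := htr φ
    rw [h0, Nat.cast_zero, eq_comm, div_eq_zero_iff] at this
    rcases this with h | h
    · exact hd.ne' (by exact_mod_cast h)
    · exact card_ne X.U h
  obtain ⟨v₁, hv₁, hv₁0⟩ : ∃ v₁ ∈ LinearMap.range (E ρ X.U 1), v₁ ≠ 0 := by
    apply Submodule.exists_mem_ne_zero_of_ne_bot
    intro hb
    apply hpos 1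
    rw [hb, finrank_bot]
  have hU₁ : ∀ u ∈ X.U, ρ u v₁ = v₁ := by
    obtain ⟨x, rfl⟩ := hv₁
    intro u hu
    have := rho_E_apply ρ X.U 1 ⟨u, hu⟩ x
    simpa using this
  obtain ⟨θ, v, hv0, hvU, hvT⟩ := exists_eigen X ρ hv₁0 hU₁
  set Φ : G → V := fun g => E ρ X.U X.ψ (ρ g v) with hΦdef
  have hΦ : ∀ g, Φ g ∈ Submodule.span ℂ {Φ X.n0} := by
    intro g
    rcases X.hcell g with ⟨u, t, ht, u', hu', rfl⟩ | ⟨x, hx, hxg⟩
    · have : Φ (u * X.n0 * t * u') = (((X.ψ u : ℂˣ) : ℂ) * ((θ ⟨t, ht⟩ : ℂˣ) : ℂ)) • Φ X.n0 := by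
        simp only [hΦdef]
        rw [map_mul, map_mul, map_mul]
        simp only [Module.End.mul_apply]
        rw [hvU _ hu', hvT ⟨t, ht⟩, map_smul, map_smul, map_smul, E_rho_apply, smul_smul, mul_comm]
      rw [this]
      exact Submodule.smul_mem _ _ (Submodule.mem_span_singleton_self _)
    · have e1 : Φ g = ((X.ψ x : ℂˣ) : ℂ) • Φ g := by
        simp only [hΦdef]
        rw [← E_rho_apply]
        congr 1
        rw [← Module.End.mul_apply, ← map_mul]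
        have e2 : (x : G) * g = g * (g⁻¹ * x * g) := by group
        rw [e2, map_mul, Module.End.mul_apply, hvU _ hxg]
      have e3 : (1 - ((X.ψ x : ℂˣ) : ℂ)) • Φ g = 0 := by
        rw [sub_smul, one_smul, ← e1, sub_self]
      rcases smul_eq_zero.1 e3 with h' | h'
      · exfalso
        apply hx
        apply Units.ext
        rw [Units.val_one]
        exact (sub_eq_zero.1 h').symm
      · rw [h']; exact Submodule.zero_mem _
  have hrange : LinearMap.range (E ρ X.U X.ψ) ≤ Submodule.span ℂ {Φ X.n0} := by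
    rintro _ ⟨y, rfl⟩
    have hy : y ∈ Submodule.span ℂ (Set.range fun g => ρ g v) := by
      rw [span_orbit ρ hv0]; trivial
    induction hy using Submodule.span_induction with
    | mem x hx =>
      obtain ⟨g, rfl⟩ := hx
      exact hΦ g
    | zero => rw [map_zero]; exact Submodule.zero_mem _
    | add x y _ _ hx hy => rw [map_add]; exact Submodule.add_mem _ hx hy
    | smul a x _ hx => rw [map_smul]; exact Submodule.smul_mem _ _ hx
  have hle : Module.finrank ℂ (LinearMap.range (E ρ X.U X.ψ)) ≤ 1 :=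
    by
    refine (Submodule.finrank_mono hrange).trans ?_
    have := finrank_span_finset_le_card (R := ℂ) ({Φ X.n0} : Finset V)
    rw [Set.finrank, Finset.coe_singleton, Finset.card_singleton] at this
    exact this
  have hψ1 : Module.finrank ℂ (LinearMap.range (E ρ X.U X.ψ)) = 1 := by
    have := hpos X.ψ
    omega
  have h11 : Module.finrank ℂ (LinearMap.range (E ρ X.U 1)) = 1 := by
    have a := htr X.ψ
    have b := htr 1
    rw [← a, hψ1] at b
    exact_mod_cast b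
  have hdim : (Module.finrank ℂ V : ℂ) = (Nat.card X.U : ℂ) := by
    have b := htr 1
    rw [h11, Nat.cast_one, eq_div_iff (card_ne X.U), one_mul] at b
    exact b.symm
  have hθ : θ = 1 := hθ0 θ v hv0 hvU hvT h11 hdim
  have hn0 : Φ X.n0 ≠ 0 := by
    intro h0
    rw [h0] at hrange
    have : LinearMap.range (E ρ X.U X.ψ) = ⊥ := by
      rw [eq_bot_iff]
      refine hrange.trans ?_
      simp
    rw [this, finrank_bot] at hψ1
    omega
  obtain ⟨ℓ₀, hℓ₀⟩ : ∃ ℓ : Module.Dual ℂ V, ℓ (Φ X.n0) ≠ 0 := by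
    by_contra hcon
    push Not at hcon
    exact hn0 ((Module.forall_dual_apply_eq_zero_iff ℂ _).1 hcon)
  refine ⟨v, ℓ₀ ∘ₗ E ρ X.U X.ψ, ?_, ?_, ?_, hℓ₀⟩
  · intro u g
    rw [LinearMap.comp_apply, LinearMap.comp_apply, map_mul, Module.End.mul_apply, E_rho_apply, map_smul,
      smul_eq_mul]
  · intro g u hu
    rw [map_mul, Module.End.mul_apply, hvU u hu]
  · intro g t ht
    rw [map_mul, Module.End.mul_apply, hvT ⟨t, ht⟩, hθ]
    simp

theorem unique {χ χ' : G → ℂ} (hχ : IsIrrCharacter G χ) (hχ' : IsIrrCharacter G χ')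
    (h : ∀ u ∈ X.U, u ≠ 1 → χ u = 0) (h' : ∀ u ∈ X.U, u ≠ 1 → χ' u = 0)
    (hθ0 : ∀ (d : ℕ) (ρ : Representation ℂ G (Fin d → ℂ)), ρ.IsIrreducible →
      ∀ (θ : X.T →* ℂˣ) (v : Fin d → ℂ), v ≠ 0 → (∀ u ∈ X.U, ρ u v = v) →
      (∀ t : X.T, ρ (t : G) v = ((θ t : ℂˣ) : ℂ) • v) →
      Module.finrank ℂ (LinearMap.range (E ρ X.U 1)) = 1 →
      (Module.finrank ℂ (Fin d → ℂ) : ℂ) = (Nat.card X.U : ℂ) → θ = 1) : χ = χ' := by
  by_contra hne
  have hχ0 := hχ
  have hχ0' := hχ'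
  obtain ⟨d, ρ, hirr, rfl⟩ := hχ
  obtain ⟨d', ρ', hirr', rfl⟩ := hχ'
  obtain ⟨v, ℓ, a1, a2, a3, a4⟩ := key X ρ h (hθ0 d ρ hirr)
  obtain ⟨v', ℓ', b1, b2, b3, b4⟩ := key X ρ' h' (hθ0 d' ρ' hirr')
  have hprop : ∀ g, ℓ' (ρ' g v') * ℓ (ρ X.n0 v) = ℓ' (ρ' X.n0 v') * ℓ (ρ g v) := by
    intro g
    rcases X.hcell g with ⟨u, t, ht, u', hu', rfl⟩ | ⟨x, hx, hxg⟩
    · rw [a2 _ _ hu', a3 _ _ ht, a1, b2 _ _ hu', b3 _ _ ht, b1]
      ring
    · have e2 : (x : G) * g = g * (g⁻¹ * x * g) := by group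
      have hx' : ((X.ψ x : ℂˣ) : ℂ) ≠ 1 := by
        intro h0; exact hx (Units.ext (by rw [h0, Units.val_one]))
      have c1 : ℓ (ρ g v) = 0 := by
        have := a1 x g
        rw [e2, a2 _ _ hxg] at this
        have h3 : (1 - ((X.ψ x : ℂˣ) : ℂ)) * ℓ (ρ g v) = 0 := by linear_combination this
        rcases mul_eq_zero.1 h3 with h4 | h4
        · exact absurd (sub_eq_zero.1 h4).symm hx'
        · exact h4
      have c2 : ℓ' (ρ' g v') = 0 := by
        have := b1 x g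
        rw [e2, b2 _ _ hxg] at this
        have h3 : (1 - ((X.ψ x : ℂˣ) : ℂ)) * ℓ' (ρ' g v') = 0 := by linear_combination this
        rcases mul_eq_zero.1 h3 with h4 | h4
        · exact absurd (sub_eq_zero.1 h4).symm hx'
        · exact h4
      rw [c1, c2]; ring
  have hf : IsClassFunction G (fun g => ρ.character g⁻¹) := by
    intro g k
    have := irr_class hχ0 g⁻¹ k
    simp only [mul_inv_rev, inv_inv]
    rw [← this]
    congr 1
    group
  have s1 := sum_smul_rho ρ _ hf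
  have s2 := sum_smul_rho ρ' _ hf
  have o1 : ∑ g : G, ρ.character g⁻¹ * ρ.character g = (Nat.card G : ℂ) := by
    rw [← irr_sum_mul_inv_self hχ0]
    apply Finset.sum_congr rfl
    intro g _; ring
  have o2 : ∑ g : G, ρ.character g⁻¹ * ρ'.character g = 0 := by
    rw [← irr_sum_mul_inv_ne hχ0' hχ0 (Ne.symm hne)]
    apply Finset.sum_congr rfl
    intro g _; ring
  rw [o1] at s1
  rw [o2, zero_div, zero_smul] at s2
  have t1 := congrArg (fun f : Module.End ℂ (Fin d → ℂ) => ℓ (f (ρ X.n0 v))) s1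
  have t2 := congrArg (fun f : Module.End ℂ (Fin d' → ℂ) => ℓ' (f (ρ' X.n0 v'))) s2
  simp only [LinearMap.sum_apply, LinearMap.smul_apply, map_sum, map_smul, Module.End.one_apply,
    LinearMap.zero_apply, map_zero, smul_eq_mul] at t1 t2
  have t3 : ∑ g : G, ρ.character g⁻¹ * (ℓ' (ρ' g (ρ' X.n0 v')) * ℓ (ρ X.n0 v)) =
      ∑ g : G, ρ.character g⁻¹ * (ℓ' (ρ' X.n0 v') * ℓ (ρ g (ρ X.n0 v))) := by
    apply Finset.sum_congr rfl
    intro g _
    have := hprop (g * X.n0)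
    rw [map_mul, map_mul] at this
    rw [show ρ' g (ρ' X.n0 v') = (ρ' g * ρ' X.n0) v' from rfl, this]
    rfl
  have t4 : ∑ g : G, ρ.character g⁻¹ * (ℓ' (ρ' g (ρ' X.n0 v')) * ℓ (ρ X.n0 v)) = 0 := by
    simp_rw [← mul_assoc]
    rw [← Finset.sum_mul, t2, zero_mul]
  have t5 : ∑ g : G, ρ.character g⁻¹ * (ℓ' (ρ' X.n0 v') * ℓ (ρ g (ρ X.n0 v))) =
      ℓ' (ρ' X.n0 v') * ((Nat.card G : ℂ) / (Module.finrank ℂ (Fin d → ℂ) : ℂ) * ℓ (ρ X.n0 v)) := by
    rw [← t1, Finset.mul_sum]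
    apply Finset.sum_congr rfl
    intro g _; ring
  rw [t4, t5] at t3
  have hd : (Module.finrank ℂ (Fin d → ℂ) : ℂ) ≠ 0 := by
    have := finrank_pos_of_irreducible ρ
    exact_mod_cast this.ne'
  have hG : (Nat.card G : ℂ) ≠ 0 := by exact_mod_cast Nat.card_pos.ne'
  exact (mul_ne_zero b4 (mul_ne_zero (div_ne_zero hG hd) a4)) t3.symm


/-! ### the spherical function of a representation -/

section FnRep

variable {P : BNPair G} {ι A : Type*} [CommGroup A] (K : RK P ι A)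

/-- the underlying `Base`. -/
def toBase : Base G where
  U := K.U
  T := K.T
  ψ := K.ψ
  n0 := K.n0
  hTU := K.hTU
  hTcomm := K.hTcomm
  hcell := K.hcell

theorem sum_conj_E {V : Type*} [AddCommGroup V] [Module ℂ V] [FiniteDimensional ℂ V]
    (ρ : Representation ℂ G V) [ρ.IsIrreducible] (U : Subgroup G)
    (h11 : Module.finrank ℂ (LinearMap.range (E ρ U 1)) = 1) :
    ∑ g : G, ρ g * E ρ U 1 * ρ g⁻¹ = ((Fintype.card G : ℂ) / (Module.finrank ℂ V : ℂ)) • LinearMap.id := by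
  set M : Module.End ℂ V := ∑ g : G, ρ g * E ρ U 1 * ρ g⁻¹ with hM
  have hcomm : ∀ k : G, M ∘ₗ ρ k = ρ k ∘ₗ M := by
    intro k
    show M * ρ k = ρ k * M
    rw [hM, Finset.sum_mul, Finset.mul_sum]
    apply Fintype.sum_equiv (Equiv.mulLeft k⁻¹)
    intro g
    simp only [Equiv.coe_mulLeft]
    rw [mul_assoc, ← map_mul, ← mul_assoc, ← mul_assoc, ← map_mul]
    congr 2
    · congr 1; group
    · group
  obtain ⟨c, hc⟩ := schur_scalar ρ M hcomm
  have ht : LinearMap.trace ℂ V M = (Fintype.card G : ℂ) := by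
    rw [hM, map_sum]
    have : ∀ g : G, LinearMap.trace ℂ V (ρ g * E ρ U 1 * ρ g⁻¹) = 1 := by
      intro g
      rw [LinearMap.trace_mul_comm, ← mul_assoc, ← map_mul, inv_mul_cancel, map_one, one_mul,
        trace_eq_finrank, h11, Nat.cast_one]
    simp_rw [this]
    simp
  rw [hc, map_smul, LinearMap.trace_id, smul_eq_mul] at ht
  have hd : (Module.finrank ℂ V : ℂ) ≠ 0 := by
    have := finrank_pos_of_irreducible ρ
    exact_mod_cast this.ne'
  rw [hc]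
  congr 1
  field_simp
  exact ht

theorem fn_of_rep {V : Type*} [AddCommGroup V] [Module ℂ V] [FiniteDimensional ℂ V]
    (ρ : Representation ℂ G V) [ρ.IsIrreducible] (θ : K.T →* ℂˣ) (v : V) (hv0 : v ≠ 0)
    (hvU : ∀ u ∈ K.U, ρ u v = v) (hvT : ∀ t : K.T, ρ (t : G) v = ((θ t : ℂˣ) : ℂ) • v)
    (h11 : Module.finrank ℂ (LinearMap.range (E ρ K.U 1)) = 1)
    (hdim : (Module.finrank ℂ V : ℂ) = (Nat.card K.U : ℂ)) : ∃ f : G → ℂ, Fn K f θ := by
  classical
  have hEv : E ρ K.U 1 v = v := E_fix ρ K.U 1 (fun u => by simpa using hvU u u.2)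
  have hvR : v ∈ LinearMap.range (E ρ K.U 1) := ⟨v, hEv⟩
  have hmul : ∀ y : V, ∃ c : ℂ, E ρ K.U 1 y = c • v := by
    intro y
    have h2 : (⟨v, hvR⟩ : LinearMap.range (E ρ K.U 1)) ≠ 0 := by
      intro h; exact hv0 (congrArg Subtype.val h)
    obtain ⟨c, hc⟩ := (finrank_eq_one_iff_of_nonzero' _ h2).1 h11 ⟨E ρ K.U 1 y, ⟨y, rfl⟩⟩
    exact ⟨c, (congrArg Subtype.val hc).symm⟩
  choose c hc using hmul
  have hinj : ∀ a b : ℂ, a • v = b • v → a = b := fun a b h => smul_left_injective ℂ hv0 h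
  have hTE : ∀ t' ∈ K.T, ∀ x : V, ρ t' (E ρ K.U 1 x) = E ρ K.U 1 (ρ t' x) := by
    intro t' ht' x
    have := congrArg (fun f : Module.End ℂ V => f x) (rho_T_E (toBase K) ρ ht')
    simp only [Module.End.mul_apply] at this
    exact this
  have hEU : ∀ u ∈ K.U, ∀ x : V, E ρ K.U 1 (ρ u x) = E ρ K.U 1 x := by
    intro u hu x
    have := E_rho_apply ρ K.U 1 ⟨u, hu⟩ x
    simpa using this
  have hcard : (Nat.card K.U : ℂ) = (Fintype.card K.U : ℂ) := by rw [Nat.card_eq_fintype_card]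
  refine ⟨fun g => c (ρ g v), ?_, ?_, ?_, ?_, ?_, ?_, ?_⟩
  · intro u hu g
    apply hinj
    rw [← hc, ← hc, map_mul, Module.End.mul_apply, hEU u hu]
  · intro u hu g
    show c (ρ (g * u) v) = c (ρ g v)
    rw [map_mul, Module.End.mul_apply, hvU u hu]
  · intro t g
    apply hinj
    rw [← hc, map_mul, Module.End.mul_apply, ← hTE _ t.2, hc, map_smul, hvT, smul_smul, mul_comm]
  · intro t g
    apply hinj
    rw [← hc, map_mul, Module.End.mul_apply, hvT, map_smul, map_smul, hc, smul_smul]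
  · apply hinj
    rw [← hc, map_one, Module.End.one_apply, hEv, one_smul]
  · intro g h
    apply hinj
    rw [Finset.sum_smul]
    have e1 : ∀ u : K.U, c (ρ (g * (u : G) * h) v) • v = E ρ K.U 1 (ρ g (ρ (u : G) (ρ h v))) := by
      intro u
      rw [← hc, map_mul, map_mul]
      rfl
    simp_rw [e1]
    rw [← map_sum, ← map_sum]
    have e2 : ∑ u : K.U, ρ (u : G) (ρ h v) = (Nat.card K.U : ℂ) • E ρ K.U 1 (ρ h v) := by
      have e := E_one_apply (toBase K) ρ (ρ h v)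
      change E ρ K.U 1 (ρ h v) = (Nat.card K.U : ℂ)⁻¹ • ∑ u : K.U, ρ (u : G) (ρ h v) at e
      rw [e, smul_smul, mul_inv_cancel₀ (card_ne K.U), one_smul]
    rw [e2, hc (ρ h v), map_smul, map_smul, map_smul, map_smul, hc (ρ g v), smul_smul, smul_smul, hcard]
    congr 1
    ring
  · apply hinj
    have h1 := sum_conj_E ρ K.U h11
    have h2 := congrArg (fun f : Module.End ℂ V => E ρ K.U 1 (f v)) h1
    simp only [LinearMap.sum_apply, LinearMap.smul_apply, LinearMap.id_apply, map_sum, map_smul] at h2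
    rw [hEv, hdim, hcard] at h2
    rw [← h2, Finset.sum_smul]
    apply Finset.sum_congr rfl
    intro g _
    have e3 : (ρ g * E ρ K.U 1 * ρ g⁻¹) v = ρ g (E ρ K.U 1 (ρ g⁻¹ v)) := rfl
    rw [e3, hc (ρ g⁻¹ v), map_smul, map_smul, hc (ρ g v), smul_smul, mul_comm]

/-- **Uniqueness of the Steinberg character.** -/
theorem unique_RK [Fintype A] {χ χ' : G → ℂ} (hχ : IsIrrCharacter G χ) (hχ' : IsIrrCharacter G χ')
    (h : ∀ u ∈ K.U, u ≠ 1 → χ u = 0) (h' : ∀ u ∈ K.U, u ≠ 1 → χ' u = 0) : χ = χ' := by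
  apply unique (toBase K) hχ hχ' h h'
  intro d ρ hirr θ v hv0 hvU hvT h11 hdim
  obtain ⟨f, hf⟩ := fn_of_rep K ρ θ v hv0 hvU hvT h11 hdim
  exact hf.theta_one

end FnRep

end Cfsg.Agent.Lib.Helper46DZ5
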