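import Mathlib
import Cfsg.Agent.Lib.Helper46DZ5
import Cfsg.Agent.Lib.Helper46SLn4
import Cfsg.Agent.Lib.Helper23RG3

set_option autoImplicit false
set_option linter.unusedSectionVars false
set_option linter.unusedSimpArgs false
set_option linter.unusedVariables false

/-! Rank one data (`RK`) from abstract root group data (`RG`). -/

namespace Cfsg.Agent.Lib.Helper46DZ6

open Cfsg Cfsg.Agent.Lib.Helper23RG Cfsg.Agent.Lib.Helper23Grp Cfsg.Agent.Lib.Helper46DZ4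

open Classical

variable {𝔾 F R I : Type*} [Group 𝔾] [Field F] {S : RG 𝔾 F R I}

/-- the additional facts on the root group datum. -/
structure Extra (S : RG 𝔾 F R I) : Prop where
  ok : S.Ok
  hBV : ∀ g ∈ S.B, g ∈ S.V → g = 1
  hUN : ∀ g ∈ S.U, g ∈ S.N → g = 1
  hs : ∀ i (c d : F), c ≠ 0 → d ≠ 0 →
    S.hE (S.simple i) c * S.hE (S.simple i) d = S.hE (S.simple i) (c * d)
  hcomm : ∀ a ∈ S.H, ∀ b ∈ S.H, a * b = b * a
  hgen : S.H ≤ Subgroup.closure {g | ∃ i, ∃ c : F, c ≠ 0 ∧ g = S.hE (S.simple i) c}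
  hinj : Function.Injective S.simple
  n0 : ∃ n ∈ S.N, ∀ u ∈ S.U, n * u * n⁻¹ ∈ S.V

variable (E : Extra S)

namespace Extra

include E in
theorem X_inf_Ui (i : I) {g : 𝔾} (h1 : g ∈ S.X (S.simple i)) (h2 : g ∈ S.Ui i) : g = 1 := by
  obtain ⟨t, rfl⟩ := (RG.mem_X_iff E.ok).1 h1
  have h3 := conj_mem_of_mem_normalizer (RG.nn_mem_normalizer_Ui E.ok i) h2
  have h4 := h3
  rw [E.ok.n_conj, E.ok.refl_simple] at h4
  have h5 := E.hBV _ (RG.U_le_B (RG.Ui_le_U E.ok i h4)) (RG.x_mem_V (RG.not_pos_neg_simple E.ok i) _)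
  have h6 := E.ok.x_inj _ _ h5
  have h7 : t = 0 := by
    rcases mul_eq_zero.1 h6 with h | h
    · exact absurd h (RG.η_ne_zero E.ok _ _)
    · exact h
  rw [h7, RG.x_zero E.ok]

/-- the coefficient of `x_i` -/
noncomputable def coef (i : I) (u : S.U) : F := ((RG.mem_U_iff' E.ok i).1 u.2).choose

theorem coef_spec (i : I) (u : S.U) : ∃ u' ∈ S.Ui i, (u : 𝔾) = S.x (S.simple i) (E.coef i u) * u' :=
  ((RG.mem_U_iff' E.ok i).1 u.2).choose_spec

theorem coef_unique (i : I) (u : S.U) {t : F} {u' : 𝔾} (hu' : u' ∈ S.Ui i)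
    (e : (u : 𝔾) = S.x (S.simple i) t * u') : E.coef i u = t := by
  obtain ⟨v, hv, e2⟩ := E.coef_spec i u
  rw [e] at e2
  have h1 : S.x (S.simple i) (E.coef i u - t) = u' * v⁻¹ := by
    rw [sub_eq_neg_add, E.ok.x_add, ← RG.x_inv E.ok]
    rw [eq_mul_inv_iff_mul_eq, mul_assoc, ← e2]
    group
  have h2 := E.X_inf_Ui i (RG.x_mem_X _ _) (h1 ▸ (S.Ui i).mul_mem hu' ((S.Ui i).inv_mem hv))
  exact sub_eq_zero.1 (E.ok.x_inj _ _ h2)

theorem coef_mul (i : I) (u v : S.U) : E.coef i (u * v) = E.coef i u + E.coef i v := by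
  obtain ⟨u', hu', e1⟩ := E.coef_spec i u
  obtain ⟨v', hv', e2⟩ := E.coef_spec i v
  apply E.coef_unique i (u * v)
    (u' := ((S.x (S.simple i) (E.coef i v))⁻¹ * u' * S.x (S.simple i) (E.coef i v)) * v')
  · exact (S.Ui i).mul_mem
      (conj_mem_of_mem_normalizer' (RG.X_le_normalizer_Ui E.ok i (RG.x_mem_X _ _)) hu') hv'
  · rw [Subgroup.coe_mul, e1, e2, E.ok.x_add]
    group

/-- the coefficient homomorphism -/
noncomputable def sig (i : I) : S.U →* Multiplicative F where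
  toFun u := Multiplicative.ofAdd (E.coef i u)
  map_one' := by
    have : E.coef i 1 = 0 := by
      apply E.coef_unique i 1 (u' := 1) (S.Ui i).one_mem
      rw [RG.x_zero E.ok]; simp
    rw [this]; rfl
  map_mul' u v := by rw [E.coef_mul, ofAdd_add]

theorem coef_x_self (i : I) (t : F) :
    E.coef i ⟨S.x (S.simple i) t, RG.x_mem_U (E.ok.pos_simple i) t⟩ = t :=
  E.coef_unique i _ (u' := 1) (S.Ui i).one_mem (by simp)

theorem coef_x_ne {i j : I} (h : i ≠ j) (t : F) :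
    E.coef j ⟨S.x (S.simple i) t, RG.x_mem_U (E.ok.pos_simple i) t⟩ = 0 :=
  E.coef_unique j _ (u' := S.x (S.simple i) t)
    (RG.x_mem_Ui (E.ok.pos_simple i) (fun e => h (E.hinj e)) t) (by rw [RG.x_zero E.ok]; simp)

variable [Fintype I] [Fintype F]

/-- a nondegenerate character of `U` -/
noncomputable def psi : S.U →* ℂˣ :=
  (Cfsg.Agent.Lib.Helper46SLn4.exists_psi1 (F := F)).choose.comp (∏ i, E.sig i)

theorem psi_x (i : I) : E.psi ⟨S.x (S.simple i) 1, RG.x_mem_U (E.ok.pos_simple i) 1⟩ ≠ 1 := by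
  have h := (Cfsg.Agent.Lib.Helper46SLn4.exists_psi1 (F := F)).choose_spec
  unfold psi
  rw [MonoidHom.comp_apply, MonoidHom.finsetProd_apply, Finset.prod_eq_single i]
  · change (Cfsg.Agent.Lib.Helper46SLn4.exists_psi1 (F := F)).choose (Multiplicative.ofAdd (E.coef i _)) ≠ 1
    rw [E.coef_x_self]
    exact h
  · intro j _ hj
    change Multiplicative.ofAdd (E.coef j _) = 1
    rw [E.coef_x_ne (Ne.symm hj)]
    rfl
  · intro h; exact absurd (Finset.mem_univ i) h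

/-- the parameter of the root element attached to `a`. -/
def par (S : RG 𝔾 F R I) (i : I) (a : Fˣ) : F := S.η i (S.neg (S.simple i)) * (-(a : F)⁻¹)

omit [Fintype I] [Fintype F] in
include E in
theorem par_ne (i : I) (a : Fˣ) : par S i a ≠ 0 :=
  mul_ne_zero (RG.η_ne_zero E.ok _ _) (neg_ne_zero.2 (inv_ne_zero a.ne_zero))

omit [Fintype I] [Fintype F] in
include E in
theorem conj_par (i : I) (a : Fˣ) :
    (S.nn i)⁻¹ * S.x (S.simple i) (par S i a) * S.nn i =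
      S.x (S.simple i) (-(a : F)) * S.hE (S.simple i) a * S.nn i * S.x (S.simple i) (-(a : F)) := by
  rw [RG.n_conj' E.ok, E.ok.refl_simple]
  unfold par
  rw [← mul_assoc, RG.η_mul_self E.ok, one_mul]
  have hc : (-(a : F)⁻¹) ≠ 0 := neg_ne_zero.2 (inv_ne_zero a.ne_zero)
  rw [RG.rank_one E.ok (S.simple i) hc]
  have e1 : (-(a : F)⁻¹)⁻¹ = -(a : F) := by rw [inv_neg, inv_inv]
  rw [e1, neg_neg]
  change _ * (_ * S.nn i) * _ = _
  group

omit [Fintype I] [Fintype F] in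
include E in
theorem nn_sq (i : I) : S.nn i * S.nn i = S.hE (S.simple i) (-1) := by
  have h1 : S.hE (S.simple i) (-1) = (S.nn i)⁻¹ * (S.nn i)⁻¹ := by
    rw [RG.nn_inv E.ok]; rfl
  have h2 := E.hs i (-1) (-1) (by simp) (by simp)
  rw [neg_mul_neg, one_mul, RG.hE_one E.ok] at h2
  have h3 : S.hE (S.simple i) (-1) = (S.hE (S.simple i) (-1))⁻¹ := eq_inv_of_mul_eq_one_left h2
  rw [h3, h1]
  simp

variable {Γ : Subgroup 𝔾} (hΓ : S.G ≤ Γ) (P : BNPair Γ) (hPB : P.B = S.B.subgroupOf Γ)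
  (hPN : P.N = S.N.subgroupOf Γ) (hPS : P.S = {n : Γ | ∃ i, (n : 𝔾) = S.nn i})

/-- the rank one data. -/
noncomputable def toRK : RK P I Fˣ where
  U := S.U.subgroupOf Γ
  T := S.H.subgroupOf Γ
  hB := by
    intro b
    rw [hPB, Subgroup.mem_subgroupOf, RG.mem_B_iff E.ok]
    constructor
    · rintro ⟨u, hu, h, hh, e⟩
      exact ⟨⟨u, hΓ (RG.U_le_G E.ok hu)⟩, hu, ⟨h, hΓ (RG.H_le_G E.ok hh)⟩, hh, Subtype.ext e⟩
    · rintro ⟨u, hu, h, hh, e⟩
      exact ⟨u, hu, h, hh, congrArg Subtype.val e⟩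
  hT := by
    intro g
    rw [hPB, hPN, Subgroup.mem_subgroupOf, Subgroup.mem_subgroupOf, Subgroup.mem_subgroupOf,
      ← RG.B_inf_N E.ok E.hUN]
    exact Iff.rfl
  hUT := by
    intro g h1 h2
    exact Subtype.ext (E.hUN _ h1 (RG.H_le_N h2))
  hTU := by
    intro t ht u hu
    exact conj_mem_of_mem_normalizer (A := S.U) (RG.H_le_normalizer_XS E.ok _ ht) hu
  hTcomm := by
    intro a b
    exact Subtype.ext (Subtype.ext (E.hcomm _ a.2 _ b.2))
  ν := fun i => ⟨S.nn i, hΓ (RG.N_le_G E.ok (RG.nn_mem_N i))⟩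
  hS := by
    rw [hPS]
    ext n
    constructor
    · rintro ⟨i, e⟩
      exact ⟨i, Subtype.ext e.symm⟩
    · rintro ⟨i, rfl⟩
      exact ⟨i, rfl⟩
  X := fun i => (S.X (S.simple i)).subgroupOf Γ
  Y := fun i => (S.Ui i).subgroupOf Γ
  hXU := by
    intro i x hx
    exact RG.XS_mono (fun r hr => hr ▸ E.ok.pos_simple i) hx
  hYU := by
    intro i x hx
    exact RG.Ui_le_U E.ok i hx
  hXY := by
    intro i u hu
    obtain ⟨t, u', hu', e⟩ := (RG.mem_U_iff' E.ok i).1 hu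
    exact ⟨⟨S.x (S.simple i) t, hΓ (RG.x_mem_G _ _)⟩, RG.x_mem_X _ _,
      ⟨u', hΓ (RG.U_le_G E.ok (RG.Ui_le_U E.ok i hu'))⟩, hu', Subtype.ext e⟩
  hXYbot := by
    intro i g h1 h2
    exact Subtype.ext (E.X_inf_Ui i h1 h2)
  hY := by
    intro i y hy
    exact RG.Ui_le_U E.ok i (conj_mem_of_mem_normalizer' (RG.nn_mem_normalizer_Ui E.ok i) hy)
  hY' := by
    intro i y hy
    exact RG.Ui_le_U E.ok i (conj_mem_of_mem_normalizer (RG.nn_mem_normalizer_Ui E.ok i) hy)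
  hdich := by
    intro i n hn
    rw [hPN, Subgroup.mem_subgroupOf] at hn
    obtain ⟨π, hπ⟩ := RG.Mon_N E.ok _ hn
    obtain ⟨hπn, c, hc0, hcn, hc⟩ := hπ.inv
    by_cases hpos : S.pos (π⁻¹ (S.simple i))
    · left
      intro x hx
      obtain ⟨t, e⟩ := (RG.mem_X_iff E.ok).1 hx
      change (x : 𝔾) = _ at e
      change (n : 𝔾)⁻¹ * (x : 𝔾) * (n : 𝔾) ∈ S.U
      have := hc (S.simple i) t
      rw [inv_inv] at this
      rw [e, this]
      exact RG.x_mem_U hpos _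
    · right
      intro x hx
      obtain ⟨t, e⟩ := (RG.mem_X_iff E.ok).1 hx
      change (x : 𝔾) = _ at e
      change (n : 𝔾)⁻¹ * ((S.nn i)⁻¹ * (x : 𝔾) * S.nn i) * (n : 𝔾) ∈ S.U
      rw [e, RG.n_conj' E.ok, E.ok.refl_simple]
      have := hc (S.neg (S.simple i)) (S.η i (S.neg (S.simple i)) * t)
      rw [inv_inv] at this
      rw [this, hπn]
      exact RG.x_mem_U ((E.ok.pos_neg _).2 hpos) _
  η := fun i =>
    { toFun := fun a => ⟨⟨S.hE (S.simple i) a, hΓ (RG.H_le_G E.ok (RG.hE_mem_H _ a.ne_zero))⟩,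
        RG.hE_mem_H _ a.ne_zero⟩
      map_one' := by
        apply Subtype.ext; apply Subtype.ext
        change S.hE (S.simple i) ((1 : Fˣ) : F) = 1
        rw [Units.val_one, RG.hE_one E.ok]
      map_mul' := by
        intro a b
        apply Subtype.ext; apply Subtype.ext
        change S.hE (S.simple i) ((a * b : Fˣ) : F) = S.hE (S.simple i) a * S.hE (S.simple i) b
        rw [Units.val_mul, E.hs i _ _ a.ne_zero b.ne_zero] }
  xx := fun i a => ⟨S.x (S.simple i) (par S i a), hΓ (RG.x_mem_G _ _)⟩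
  hxx := by
    intro i a
    refine ⟨RG.x_mem_X _ _, fun h => ?_⟩
    exact E.par_ne i a (E.ok.x_inj _ _ (congrArg Subtype.val h))
  hxx_inj := by
    intro i a b h
    have h1 := (RG.x_eq_iff E.ok _ _ _).1 (congrArg Subtype.val h)
    unfold par at h1
    have h2 := mul_left_cancel₀ (RG.η_ne_zero E.ok _ _) h1
    have h3 := inv_injective (neg_injective h2)
    exact Units.ext h3
  hxx_surj := by
    intro i x hx hne
    obtain ⟨t, e⟩ := (RG.mem_X_iff E.ok).1 hx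
    change (x : 𝔾) = _ at e
    have ht : t ≠ 0 := by
      rintro rfl
      rw [RG.x_zero E.ok] at e
      exact hne (Subtype.ext e)
    have hη := RG.η_ne_zero E.ok i (S.neg (S.simple i))
    refine ⟨Units.mk0 (-(S.η i (S.neg (S.simple i)) * t))⁻¹
      (inv_ne_zero (neg_ne_zero.2 (mul_ne_zero hη ht))), Subtype.ext ?_⟩
    change S.x (S.simple i) _ = _
    rw [e]
    congr 1
    unfold par
    rw [Units.val_mk0, inv_inv, neg_neg, ← mul_assoc, RG.η_mul_self E.ok, one_mul]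
  hrk := by
    intro i a
    refine ⟨⟨S.x (S.simple i) (-(a : F)), hΓ (RG.x_mem_G _ _)⟩, RG.x_mem_U (E.ok.pos_simple i) _,
      ⟨S.x (S.simple i) (-(a : F)), hΓ (RG.x_mem_G _ _)⟩, RG.x_mem_U (E.ok.pos_simple i) _,
      Subtype.ext ?_⟩
    exact E.conj_par i a
  hsq := by
    intro i
    refine ⟨-1, Subtype.ext ?_⟩
    change S.nn i * S.nn i = S.hE (S.simple i) ((-1 : Fˣ) : F)
    rw [E.nn_sq i]
    simp
  hgen := by
    intro θ hθ
    have hle : S.H ≤ (θ.ker.map (S.H.subgroupOf Γ).subtype).map Γ.subtype := by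
      refine E.hgen.trans ?_
      rw [Subgroup.closure_le]
      rintro _ ⟨i, c, hc, rfl⟩
      refine ⟨⟨S.hE (S.simple i) c, hΓ (RG.H_le_G E.ok (RG.hE_mem_H _ hc))⟩,
        ⟨⟨⟨S.hE (S.simple i) c, hΓ (RG.H_le_G E.ok (RG.hE_mem_H _ hc))⟩, RG.hE_mem_H _ hc⟩, ?_, rfl⟩, rfl⟩
      exact hθ i (Units.mk0 c hc)
    ext t
    obtain ⟨_, ⟨t', ht', rfl⟩, e⟩ := hle t.2
    have : t' = t := Subtype.ext (Subtype.ext e)
    rw [← this]
    have h1 : θ t' = 1 := ht'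
    rw [h1]; rfl
  n0 := ⟨(E.n0.choose)⁻¹, hΓ (RG.N_le_G E.ok (S.N.inv_mem E.n0.choose_spec.1))⟩
  hn0 := by
    rw [hPN, Subgroup.mem_subgroupOf]
    exact S.N.inv_mem E.n0.choose_spec.1
  hopp := by
    intro β hβ h
    rw [hPB, Subgroup.mem_subgroupOf] at hβ h
    obtain ⟨hn, hUV⟩ := E.n0.choose_spec
    set n := E.n0.choose with hn_def
    have h' : n * (β : 𝔾) * n⁻¹ ∈ S.B := by
      have : (((⟨n⁻¹, hΓ (RG.N_le_G E.ok (S.N.inv_mem hn))⟩ : Γ)⁻¹ * β *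
        (⟨n⁻¹, hΓ (RG.N_le_G E.ok (S.N.inv_mem hn))⟩ : Γ) : Γ) : 𝔾) = n * (β : 𝔾) * n⁻¹ := by
        simp
      rw [← this]; exact h
    obtain ⟨u, hu, t, ht, e⟩ := (RG.mem_B_iff E.ok).1 hβ
    have e1 : n * (β : 𝔾) * n⁻¹ = (n * u * n⁻¹) * (n * t * n⁻¹) := by rw [e]; group
    rw [e1] at h'
    have h2 := (S.B.mul_mem_cancel_right (RG.H_le_B (RG.N_conj_H E.ok n hn t ht))).1 h'
    have h3 := E.hBV _ h2 (hUV u hu)
    have h4 : u = 1 := by
      have : u = n⁻¹ * (n * u * n⁻¹) * n := by group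
      rw [this, h3]; group
    rw [Subgroup.mem_subgroupOf, e, h4, one_mul]
    exact ht
  ψ := E.psi.comp (Subgroup.subgroupOfEquivOfLe ((RG.U_le_G E.ok).trans hΓ)).toMonoidHom
  hψ := by
    intro i
    refine ⟨⟨S.x (S.simple i) 1, hΓ (RG.x_mem_G _ _)⟩, RG.x_mem_X _ _, ?_⟩
    exact E.psi_x i

omit [Fintype I] [Fintype F] in
theorem toRK_U [Fintype I] [Fintype F] : (E.toRK hΓ P hPB hPN hPS).U = S.U.subgroupOf Γ := rfl

end Extra

end Cfsg.Agent.Lib.Helper46DZ6
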