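import Mathlib
import Cfsg.Agent.Lib.Helper46DZ6
import Cfsg.Agent.Lib.Helper46DZ2
import Cfsg.Agent.Lib.Helper46ChevFacts
import Cfsg.Agent.Lib.Helper23All

set_option autoImplicit false
set_option linter.unusedSectionVars false
set_option linter.unusedSimpArgs false
set_option linter.unusedVariables false

/-! Uniqueness of the Steinberg character for the Chevalley groups. -/

namespace Cfsg.Agent.Lib.Helper46DZ7

open Cfsg Cfsg.Lie Cfsg.Lie.ChevalleyDatum
open Cfsg.Agent.Lib.Helper23RG Cfsg.Agent.Lib.Helper23Table Cfsg.Agent.Lib.Helper23Chev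
open Cfsg.Agent.Lib.Helper23Diag
open Cfsg.Agent.Lib.Helper46ChevSt Cfsg.Agent.Lib.Helper46ChevFacts Cfsg.Agent.Lib.Helper46DZ6
open scoped MatrixGroups

variable {F : Type*} [Field F] {D : ChevalleyDatum}

theorem extra (hD : D ∈ [chevG2, chevB2, chevD4, chevF4, chevE6, chevE7, chevE8]) (hT : TableOK D)
    (hR : Rel D F) : Extra (rg hT hR) where
  ok := rg_ok hT hR
  hBV := hBV hT hR
  hUN := hUN hT hR
  hs := Cfsg.Agent.Lib.Helper23Main.hE_mul_simple hT hR
  hcomm := by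
    intro a ha b hb
    rw [H_eq_range hT hR (Cfsg.Agent.Lib.Helper23All.cartanRefl hD)] at ha hb
    obtain ⟨c, rfl⟩ := ha
    obtain ⟨d, rfl⟩ := hb
    rw [← map_mul, ← map_mul, mul_comm]
  hgen := by
    intro g hg
    rw [H_eq_range hT hR (Cfsg.Agent.Lib.Helper23All.cartanRefl hD)] at hg
    obtain ⟨c, rfl⟩ := hg
    have hc : c = ((List.finRange D.rank).map (fun i => Pi.mulSingle i (c i))).prod := by
      rw [← Fin.prod_univ_def, Finset.univ_prod_mulSingle]
    rw [hc, map_list_prod]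
    apply Subgroup.list_prod_mem
    intro g hg
    simp only [List.map_map, List.mem_map] at hg
    obtain ⟨i, _, rfl⟩ := hg
    simp only [Function.comp, MonoidHom.comp_apply]
    rw [← hE_eq hT hR]
    exact Subgroup.subset_closure ⟨i, _, (c i).ne_zero, rfl⟩
  hinj := by
    intro i j h
    exact Fin.ext (simple_inj hD i i.2 j j.2 (congrArg Fin.val h))
  n0 := by
    obtain ⟨n0, hn0, π0, hM, hneg⟩ := Cfsg.Agent.Lib.Helper23All.hasN0 hD hT hR
    exact ⟨n0, hn0, hM.conj_XS hneg⟩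

theorem unique_chev [Fintype F] (hD : D ∈ [chevG2, chevB2, chevD4, chevF4, chevE6, chevE7, chevE8])
    {χ χ' : ↥(D.group F) → ℂ} (hχ : IsIrrCharacter ↥(D.group F) χ)
    (hχ' : IsIrrCharacter ↥(D.group F) χ')
    (h : ∀ u : ↥(D.group F), (u : GL D.Idx F) ∈ D.posUnipotent F → u ≠ 1 → χ u = 0)
    (h' : ∀ u : ↥(D.group F), (u : GL D.Idx F) ∈ D.posUnipotent F → u ≠ 1 → χ' u = 0) : χ = χ' := by
  have hT := Cfsg.Agent.Lib.Helper23All.tab hD
  have hR := Cfsg.Agent.Lib.Helper23All.rel (F := F) hD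
  have E := extra hD hT hR
  have : Fintype ↥(D.group F) := Fintype.ofFinite _
  have : Fintype Fˣ := Fintype.ofFinite _
  have hS : (bnp (facts (F := F) hD)).S = {n : ↥(D.group F) | ∃ i, (n : GL D.Idx F) = (rg hT hR).nn i} := by
    rw [bnp_S]
    ext n
    constructor
    · rintro ⟨i, hi, e⟩
      exact ⟨⟨i, hi⟩, Units.ext (by rw [e, coe_nn])⟩
    · rintro ⟨i, e⟩
      exact ⟨i, i.2, by rw [e, coe_nn]⟩
  let K := E.toRK (Γ := D.group F) (Helper23Chev.G_eq hT hR).le (bnp (facts hD))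
    (by rw [bnp_B, Helper23Chev.B_eq hT hR]) (by rw [bnp_N, Helper23Chev.N_eq hT hR]) hS
  apply Cfsg.Agent.Lib.Helper46DZ5.unique_RK K hχ hχ'
  · intro u hu hne
    apply h u _ hne
    rw [← Helper23Chev.U_eq hT hR]
    exact hu
  · intro u hu hne
    apply h' u _ hne
    rw [← Helper23Chev.U_eq hT hR]
    exact hu

end Cfsg.Agent.Lib.Helper46DZ7
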