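import Cfsg.Agent.Lib.H46BTDefs
import Cfsg.Agent.Lib.H46BTCB
import Cfsg.Agent.Lib.H46BTHD
import Cfsg.Agent.Lib.Helper46DZ7

set_option autoImplicit false
set_option linter.unusedSectionVars false
set_option linter.unusedVariables false

namespace Cfsg.Agent.Lib.H46BTCU

open Subgroup Cfsg.Lie Cfsg.Lie.ChevalleyDatum
open Cfsg.Agent.Lib.Helper23Grp Cfsg.Agent.Lib.Helper23RG Cfsg.Agent.Lib.Helper23RG.RG
  Cfsg.Agent.Lib.Helper23Table Cfsg.Agent.Lib.Helper23Weyl Cfsg.Agent.Lib.Helper23Chev Cfsg.Agent.Lib.Helper23Shape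
  Cfsg.Agent.Lib.Helper22ChevRC Cfsg.Agent.Lib.Helper22ChevBasic Cfsg.Agent.Lib.Helper22ChevPar
  Cfsg.Agent.Lib.H46BTDefs

open Cfsg.Agent.Lib.Helper23Diag

variable {D : ChevalleyDatum} {a : ℕ → ℕ → ℤ} {F : Type*} [Field F] (hT : TableOK D) (hR : Rel D F)
variable {rf : Fin D.nroots → Fin D.nroots → Fin D.nroots} {pr : Fin D.nroots → Fin D.nroots → ℤ}
  (hW : (ws (rg_ok hT hR) rf pr).Ok)

include hW in
/-- The centraliser in `G` of `U_J`, `J` proper, lies in `U`.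
Sketch.  Let `C = {c ∈ G | c centralises U_J}`; `C ≤ B` (`H46BTCB.cent_le_B`), and `PJ` normalises `C` (it normalises `U_J`: `PJ_le_normalizer hT hR ha hD J`, and `PJ ≤ G`).
Let `y ∈ C`, `y = u * h` (`(mem_B_iff ok).1`), `u ∈ U`, `h ∈ H`.  By `H46BTHD.H_eq_one` (`hC := Helper23All.cartanRefl hD`) it suffices that `h` commutes with `X1 = x (simple j) 1` for every `j`.
`Mon_H ok h hh` gives `χ` with `h * X1 * h⁻¹ = x (simple j) χ`.  Let `z = y * X1 * y⁻¹ * X1⁻¹ = u * x (simple j) χ * u⁻¹ * x (simple j) (-1) ∈ U`.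
(†) `nn j * z * (nn j)⁻¹ ∈ B`: if `j ∈ J` then `z ∈ C` (`X1 ∈ U ≤ PJ`), `nn j ∈ PJ` (`nn_mem_PJ`), so the conjugate is in `C ≤ B`; if `j ∉ J` then `simple j ∈ ΨJ J` (`inRootSub_simple`), so `z = 1`.
With `E := Helper46DZ7.extra hD hT hR : Helper46DZ6.Extra (rg hT hR)` the coefficient map `E.coef j : U → F` is additive (`coef_mul`, `coef_x_self`), so `z = x (simple j) (χ - 1) * u'`, `u' ∈ Ui j` (`coef_spec`).
`nn j` normalises `Ui j` (`RG.nn_mem_normalizer_Ui`) and `nn j * x (simple j) (χ-1) * (nn j)⁻¹ = x (neg (simple j)) (η * (χ-1))` (`ok.n_conj`, `ok.refl_simple`); by (†) this element of `V` is in `B`, so it is `1` (`hBV`), so `χ = 1`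
(exactly the computation in the proof of `Helper46DZ6.Extra.X_inf_Ui`). -/
theorem cent_le_U (hD : Std D) (ha : RCFacts D a) (hL : RCLin D a) (J : Set ℕ) (hJ : ∃ i, i < D.rank ∧ i ∉ J)
    {c : GL D.Idx F} (hc : c ∈ (rg hT hR).G) (hcen : ∀ u ∈ (rg hT hR).XS (ΨJ hT hR J), c * u = u * c) :
    c ∈ (rg hT hR).U := by
  have ok := rg_ok hT hR
  have E : Helper46DZ6.Extra (rg hT hR) := Helper46DZ7.extra hD hT hR
  -- the centraliser, as a predicate
  have hCB : ∀ g : GL D.Idx F, g ∈ (rg hT hR).G →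
      (∀ u ∈ (rg hT hR).XS (ΨJ hT hR J), g * u = u * g) → g ∈ (rg hT hR).B :=
    fun g hg hgc => H46BTCB.cent_le_B hT hR hW hD ha hL J hJ hg hgc
  have hPG : PJ hT hR J ≤ (rg hT hR).G := by
    unfold PJ
    apply sup_le (RG.B_le_G ok)
    rw [closure_le]
    rintro _ ⟨j, -, rfl⟩
    exact RG.nE_mem_G ok _ _
  -- conjugation by `PJ`
  have hconj : ∀ g ∈ PJ hT hR J, ∀ y : GL D.Idx F,
      (∀ u ∈ (rg hT hR).XS (ΨJ hT hR J), y * u = u * y) →
      ∀ u ∈ (rg hT hR).XS (ΨJ hT hR J), (g * y * g⁻¹) * u = u * (g * y * g⁻¹) := by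
    intro g hg y hy u hu
    have h1 := conj_mem_of_mem_normalizer' (PJ_le_normalizer hT hR ha hD J hg) hu
    have h2 := hy _ h1
    calc g * y * g⁻¹ * u = g * (y * (g⁻¹ * u * g)) * g⁻¹ := by group
      _ = g * ((g⁻¹ * u * g) * y) * g⁻¹ := by rw [h2]
      _ = u * (g * y * g⁻¹) := by group
  have hinv : ∀ y : GL D.Idx F, (∀ u ∈ (rg hT hR).XS (ΨJ hT hR J), y * u = u * y) →
      ∀ u ∈ (rg hT hR).XS (ΨJ hT hR J), y⁻¹ * u = u * y⁻¹ := by
    intro y hy u hu
    have h := hy u hu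
    calc y⁻¹ * u = y⁻¹ * (u * y) * y⁻¹ := by group
      _ = y⁻¹ * (y * u) * y⁻¹ := by rw [h]
      _ = u * y⁻¹ := by group
  have hmul : ∀ y y' : GL D.Idx F, (∀ u ∈ (rg hT hR).XS (ΨJ hT hR J), y * u = u * y) →
      (∀ u ∈ (rg hT hR).XS (ΨJ hT hR J), y' * u = u * y') →
      ∀ u ∈ (rg hT hR).XS (ΨJ hT hR J), (y * y') * u = u * (y * y') := by
    intro y y' hy hy' u hu
    rw [mul_assoc, hy' u hu, ← mul_assoc, hy u hu, mul_assoc]
  obtain ⟨u, hu, h, hh, rfl⟩ := (RG.mem_B_iff ok).1 (hCB c hc hcen)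
  have hh1 : h = 1 := by
    apply H46BTHD.H_eq_one hT hR (Helper23All.cartanRefl hD) hh
    intro j
    obtain ⟨-, χ, -, -, hχ⟩ := RG.Mon_H ok h hh
    have hχj : h * (rg hT hR).x ((rg hT hR).simple j) 1 * h⁻¹
        = (rg hT hR).x ((rg hT hR).simple j) (χ ((rg hT hR).simple j)) := by
      have := hχ ((rg hT hR).simple j) 1
      rwa [mul_one, Equiv.Perm.one_apply] at this
    have hX1U : (rg hT hR).x ((rg hT hR).simple j) 1 ∈ (rg hT hR).U :=
      RG.x_mem_U (ok.pos_simple j) 1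
    have hX1P : (rg hT hR).x ((rg hT hR).simple j) 1 ∈ PJ hT hR J :=
      mem_sup_left (RG.U_le_B hX1U)
    -- the commutator
    have hz : u * h * (rg hT hR).x ((rg hT hR).simple j) 1 * (u * h)⁻¹ *
        ((rg hT hR).x ((rg hT hR).simple j) 1)⁻¹ =
        u * (rg hT hR).x ((rg hT hR).simple j) (χ ((rg hT hR).simple j)) * u⁻¹ *
          (rg hT hR).x ((rg hT hR).simple j) (-1) := by
      rw [← hχj, RG.x_inv ok]
      group
    have hdag : (rg hT hR).nn j * (u * h * (rg hT hR).x ((rg hT hR).simple j) 1 * (u * h)⁻¹ *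
        ((rg hT hR).x ((rg hT hR).simple j) 1)⁻¹) * ((rg hT hR).nn j)⁻¹ ∈ (rg hT hR).B := by
      by_cases hj : j.val ∈ J
      · apply hCB
        · have hn : (rg hT hR).nn j ∈ (rg hT hR).G := RG.nE_mem_G ok _ _
          have hx : (rg hT hR).x ((rg hT hR).simple j) 1 ∈ (rg hT hR).G := RG.x_mem_G _ _
          exact mul_mem (mul_mem hn (mul_mem (mul_mem (mul_mem hc hx) (inv_mem hc)) (inv_mem hx)))
            (inv_mem hn)
        · apply hconj _ (nn_mem_PJ hT hR hj)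
          have e : u * h * (rg hT hR).x ((rg hT hR).simple j) 1 * (u * h)⁻¹ *
              ((rg hT hR).x ((rg hT hR).simple j) 1)⁻¹ = (u * h) *
              ((rg hT hR).x ((rg hT hR).simple j) 1 * (u * h)⁻¹ *
                ((rg hT hR).x ((rg hT hR).simple j) 1)⁻¹) := by group
          rw [e]
          exact hmul _ _ hcen (hconj _ hX1P _ (hinv _ hcen))
      · have hΨ : ΨJ hT hR J ((rg hT hR).simple j) :=
          ⟨ok.pos_simple j, fun h' => hj ((inRootSub_simple hT hR ha J j).1 h')⟩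
        have h1 := hcen _ (RG.x_mem_XS hΨ (1 : F))
        rw [h1]
        have e : (rg hT hR).nn j * ((rg hT hR).x ((rg hT hR).simple j) 1 * (u * h) * (u * h)⁻¹ *
            ((rg hT hR).x ((rg hT hR).simple j) 1)⁻¹) * ((rg hT hR).nn j)⁻¹ = 1 := by group
        rw [e]
        exact one_mem _
    rw [hz] at hdag
    -- the coefficient
    have hxχ : (rg hT hR).x ((rg hT hR).simple j) (χ ((rg hT hR).simple j)) ∈ (rg hT hR).U :=
      RG.x_mem_U (ok.pos_simple j) _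
    have hxm : (rg hT hR).x ((rg hT hR).simple j) (-1 : F) ∈ (rg hT hR).U :=
      RG.x_mem_U (ok.pos_simple j) _
    have hcoef : E.coef j ((⟨u, hu⟩ : (rg hT hR).U) * ⟨_, hxχ⟩ * (⟨u, hu⟩ : (rg hT hR).U)⁻¹ * ⟨_, hxm⟩)
        = χ ((rg hT hR).simple j) - 1 := by
      have h0 : E.coef j ((⟨u, hu⟩ : (rg hT hR).U) * (⟨u, hu⟩ : (rg hT hR).U)⁻¹) = 0 := by
        rw [mul_inv_cancel]
        apply E.coef_unique j 1 (u' := 1) (one_mem _)
        rw [RG.x_zero ok]; simp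
      rw [E.coef_mul] at h0
      rw [E.coef_mul, E.coef_mul, E.coef_mul, E.coef_x_self, E.coef_x_self]
      linear_combination h0
    obtain ⟨u', hu', e⟩ := E.coef_spec j
      ((⟨u, hu⟩ : (rg hT hR).U) * ⟨_, hxχ⟩ * (⟨u, hu⟩ : (rg hT hR).U)⁻¹ * ⟨_, hxm⟩)
    rw [hcoef] at e
    have e' : u * (rg hT hR).x ((rg hT hR).simple j) (χ ((rg hT hR).simple j)) * u⁻¹ *
        (rg hT hR).x ((rg hT hR).simple j) (-1) =
        (rg hT hR).x ((rg hT hR).simple j) (χ ((rg hT hR).simple j) - 1) * u' := e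
    rw [e'] at hdag
    have h3 := conj_mem_of_mem_normalizer (RG.nn_mem_normalizer_Ui ok j) hu'
    have e2 : (rg hT hR).nn j * ((rg hT hR).x ((rg hT hR).simple j) (χ ((rg hT hR).simple j) - 1) * u') *
        ((rg hT hR).nn j)⁻¹ =
        ((rg hT hR).nn j * (rg hT hR).x ((rg hT hR).simple j) (χ ((rg hT hR).simple j) - 1) *
          ((rg hT hR).nn j)⁻¹) * ((rg hT hR).nn j * u' * ((rg hT hR).nn j)⁻¹) := by group
    rw [e2, ok.n_conj, ok.refl_simple] at hdag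
    have h4 : (rg hT hR).x ((rg hT hR).neg ((rg hT hR).simple j))
        ((rg hT hR).η j ((rg hT hR).simple j) * (χ ((rg hT hR).simple j) - 1)) ∈ (rg hT hR).B := by
      have := mul_mem hdag (inv_mem (RG.U_le_B (RG.Ui_le_U ok j h3)))
      rwa [mul_inv_cancel_right] at this
    have h5 := E.hBV _ h4 (RG.x_mem_V (RG.not_pos_neg_simple ok j) _)
    have h6 := ok.x_inj _ _ h5
    have h7 : χ ((rg hT hR).simple j) = 1 := by
      rcases mul_eq_zero.1 h6 with h' | h'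
      · exact absurd h' (RG.η_ne_zero ok _ _)
      · exact sub_eq_zero.1 h'
    rw [h7] at hχj
    calc h * (rg hT hR).x ((rg hT hR).simple j) 1
        = (h * (rg hT hR).x ((rg hT hR).simple j) 1 * h⁻¹) * h := by group
      _ = (rg hT hR).x ((rg hT hR).simple j) 1 * h := by rw [hχj]
  rw [hh1, mul_one]
  exact hu

end Cfsg.Agent.Lib.H46BTCU
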