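import Cfsg.Agent.Lib.H46BTDefs
import Cfsg.Agent.Lib.H46BTCU
import Cfsg.Agent.Lib.H46BTTab
import Cfsg.Agent.Lib.Helper46ChevFacts

set_option autoImplicit false
set_option linter.unusedSectionVars false
set_option linter.unusedVariables false

namespace Cfsg.Agent.Lib.H46BTCUD

open Subgroup Cfsg.Lie Cfsg.Lie.ChevalleyDatum
open Cfsg.Agent.Lib.Helper23Grp Cfsg.Agent.Lib.Helper23RG Cfsg.Agent.Lib.Helper23RG.RG
  Cfsg.Agent.Lib.Helper23Table Cfsg.Agent.Lib.Helper23Weyl Cfsg.Agent.Lib.Helper23Chev Cfsg.Agent.Lib.Helper23Shape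
  Cfsg.Agent.Lib.Helper22ChevRC Cfsg.Agent.Lib.Helper22ChevBasic Cfsg.Agent.Lib.Helper22ChevPar
  Cfsg.Agent.Lib.H46BTDefs

variable {D : ChevalleyDatum} {F : Type*} [Field F]

/-- `cent_le_U` in the vocabulary of the statements (see the end of `H46BTMain.borel_tits` for the translation: `tableOK_of_mem`, `rel_of_mem`, `exists_rc2`, `exists_hW`, `radical_eq`, `G_eq`, `U_eq`). -/
theorem cent_le_U (hD : Std D) (J : Set ℕ) (hJ : ∃ i, i < D.rank ∧ i ∉ J) :
    Subgroup.centralizer (D.unipotentRadical F J : Set (GL D.Idx F)) ⊓ D.group F ≤ D.posUnipotent F := by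
  have hT := Cfsg.Agent.Lib.Helper23Tab.tableOK_of_mem hD
  have hR : Rel D F := Cfsg.Agent.Lib.Helper22ChevRel.rel_of_mem hD
  obtain ⟨a, ha, hL⟩ := Cfsg.Agent.Lib.H46BTTab.exists_rc2 hD
  obtain ⟨rf, pr, hW⟩ := Cfsg.Agent.Lib.Helper22ChevInst.exists_hW hD hT hR
  intro c hc
  obtain ⟨hc1, hc2⟩ := Subgroup.mem_inf.1 hc
  rw [← U_eq hT hR]
  refine H46BTCU.cent_le_U hT hR hW hD ha hL J hJ (by rw [G_eq hT hR]; exact hc2) ?_
  intro u hu
  have hu' : u ∈ D.unipotentRadical F J := by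
    rw [radical_eq hT hR]
    exact hu
  exact ((Subgroup.mem_centralizer_iff.1 hc1) u hu').symm

/-- `U` is a `p`-group (`Helper46ChevFacts.exists_card_U`) -/
theorem isPGroup_U [Fintype F] (p : ℕ) [Fact p.Prime] [CharP F p] (hD : Std D) : IsPGroup p (D.posUnipotent F) := by
  obtain ⟨k, hk⟩ := Cfsg.Agent.Lib.Helper46ChevFacts.exists_card_U (F := F) p hD
  exact IsPGroup.of_card hk

/-- `closure_mono` -/
theorem radical_le_U (J : Set ℕ) : D.unipotentRadical F J ≤ D.posUnipotent F := by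
  unfold unipotentRadical posUnipotent
  apply Subgroup.closure_mono
  rintro g ⟨r, t, h1, -, h3⟩
  exact ⟨r, t, h1, h3⟩

end Cfsg.Agent.Lib.H46BTCUD
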