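import Cfsg.Agent.Lib.Helper22ChevPar2
import Cfsg.Agent.Lib.Helper22ChevInst

set_option autoImplicit false
set_option linter.unusedSectionVars false
set_option linter.unusedVariables false

/-! Vocabulary of project BT (Borel–Tits for the tabulated Chevalley groups):
real valued level functions on the index set of the adjoint module and the induced filtrations of matrices. -/

namespace Cfsg.Agent.Lib.H46BTDefs

open Cfsg.Lie Cfsg.Lie.ChevalleyDatum

section generic

variable {ι F : Type*} [Fintype ι] [DecidableEq ι] [Field F]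

/-- every non-zero entry of `A` raises the level `f` by at least `c` -/
def Lev (f : ι → ℝ) (c : ℝ) (A : Matrix ι ι F) : Prop := ∀ ρ κ, A ρ κ ≠ 0 → c ≤ f ρ - f κ

/-- `A` carries the level `f` (on columns) to the level `f'` (on rows) -/
def Tr (f f' : ι → ℝ) (A : Matrix ι ι F) : Prop := ∀ ρ κ, A ρ κ ≠ 0 → f' ρ = f κ

theorem Lev.mono {f : ι → ℝ} {c c' : ℝ} {A : Matrix ι ι F} (h : Lev f c A) (hc : c' ≤ c) : Lev f c' A :=
  fun ρ κ hne => hc.trans (h ρ κ hne)

theorem Lev_zero (f : ι → ℝ) (c : ℝ) : Lev f c (0 : Matrix ι ι F) := fun ρ κ h => absurd rfl h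

theorem Lev_one (f : ι → ℝ) : Lev f 0 (1 : Matrix ι ι F) := by
  intro ρ κ h
  by_cases e : ρ = κ
  · subst e; simp
  · exact absurd (Matrix.one_apply_ne e) h

theorem Lev.add {f : ι → ℝ} {c : ℝ} {A B : Matrix ι ι F} (hA : Lev f c A) (hB : Lev f c B) : Lev f c (A + B) := by
  intro ρ κ h
  by_cases h1 : A ρ κ = 0
  · by_cases h2 : B ρ κ = 0
    · exact absurd (by rw [Matrix.add_apply, h1, h2, add_zero]) h
    · exact hB ρ κ h2
  · exact hA ρ κ h1

theorem Lev.neg {f : ι → ℝ} {c : ℝ} {A : Matrix ι ι F} (hA : Lev f c A) : Lev f c (-A) := by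
  intro ρ κ h
  exact hA ρ κ (fun e => h (by rw [Matrix.neg_apply, e, neg_zero]))

theorem Lev.sub {f : ι → ℝ} {c : ℝ} {A B : Matrix ι ι F} (hA : Lev f c A) (hB : Lev f c B) : Lev f c (A - B) := by
  rw [sub_eq_add_neg]; exact hA.add hB.neg

theorem Lev.mul {f : ι → ℝ} {c c' : ℝ} {A B : Matrix ι ι F} (hA : Lev f c A) (hB : Lev f c' B) :
    Lev f (c + c') (A * B) := by
  intro ρ κ h
  rw [Matrix.mul_apply] at h
  obtain ⟨μ, _, hμ⟩ := Finset.exists_ne_zero_of_sum_ne_zero h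
  have h1 := hA ρ μ (left_ne_zero_of_mul hμ)
  have h2 := hB μ κ (right_ne_zero_of_mul hμ)
  linarith

/-- a matrix of level `≥ c` for `f` and `≥ c'` for `f'` has level `≥ c + c'` for `f + f'` -/
theorem Lev.add_fun {f f' : ι → ℝ} {c c' : ℝ} {A : Matrix ι ι F} (h : Lev f c A) (h' : Lev f' c' A) :
    Lev (f + f') (c + c') A := by
  intro ρ κ hne
  have h1 := h ρ κ hne
  have h2 := h' ρ κ hne
  simp only [Pi.add_apply]
  linarith

theorem Lev.conj_tr {f f' : ι → ℝ} {c : ℝ} {n n' A : Matrix ι ι F} (hn : Tr f f' n) (hn' : Tr f' f n')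
    (hA : Lev f c A) : Lev f' c (n * A * n') := by
  intro ρ κ h
  rw [Matrix.mul_apply] at h
  obtain ⟨μ, _, hμ⟩ := Finset.exists_ne_zero_of_sum_ne_zero h
  have h1 := left_ne_zero_of_mul hμ
  have h2 := hn' μ κ (right_ne_zero_of_mul hμ)
  rw [Matrix.mul_apply] at h1
  obtain ⟨ν, _, hν⟩ := Finset.exists_ne_zero_of_sum_ne_zero h1
  have h3 := hn ρ ν (left_ne_zero_of_mul hν)
  have h4 := hA ν μ (right_ne_zero_of_mul hν)
  rw [h3, ← h2]
  exact h4

theorem Tr_one (f : ι → ℝ) : Tr f f (1 : Matrix ι ι F) := by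
  intro ρ κ h
  by_cases e : ρ = κ
  · rw [e]
  · exact absurd (Matrix.one_apply_ne e) h

theorem Tr.mul {f f' f'' : ι → ℝ} {A B : Matrix ι ι F} (hA : Tr f' f'' A) (hB : Tr f f' B) : Tr f f'' (A * B) := by
  intro ρ κ h
  rw [Matrix.mul_apply] at h
  obtain ⟨μ, _, hμ⟩ := Finset.exists_ne_zero_of_sum_ne_zero h
  rw [hA ρ μ (left_ne_zero_of_mul hμ), hB μ κ (right_ne_zero_of_mul hμ)]

theorem Tr.lev {f : ι → ℝ} {A : Matrix ι ι F} (hA : Tr f f A) : Lev f 0 A := by
  intro ρ κ h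
  rw [hA ρ κ h, sub_self]

/-- the group of the invertible matrices which do not lower the level `f` -/
def PS (f : ι → ℝ) : Subgroup (GL ι F) where
  carrier := {g | Lev f 0 (g : Matrix ι ι F) ∧ Lev f 0 ((g⁻¹ : GL ι F) : Matrix ι ι F)}
  mul_mem' := by
    rintro x y ⟨hx, hx'⟩ ⟨hy, hy'⟩
    refine ⟨?_, ?_⟩
    · rw [Units.val_mul]; simpa using hx.mul hy
    · rw [mul_inv_rev, Units.val_mul]; simpa using hy'.mul hx'
  one_mem' := ⟨Lev_one f, by rw [inv_one]; exact Lev_one f⟩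
  inv_mem' := by
    rintro x ⟨hx, hx'⟩
    exact ⟨hx', by rw [inv_inv]; exact hx⟩

/-- the group of the invertible matrices which preserve the level `f` -/
def LS (f : ι → ℝ) : Subgroup (GL ι F) where
  carrier := {g | Tr f f (g : Matrix ι ι F) ∧ Tr f f ((g⁻¹ : GL ι F) : Matrix ι ι F)}
  mul_mem' := by
    rintro x y ⟨hx, hx'⟩ ⟨hy, hy'⟩
    refine ⟨?_, ?_⟩
    · rw [Units.val_mul]; exact hx.mul hy
    · rw [mul_inv_rev, Units.val_mul]; exact hy'.mul hx'
  one_mem' := ⟨Tr_one f, by rw [inv_one]; exact Tr_one f⟩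
  inv_mem' := by
    rintro x ⟨hx, hx'⟩
    exact ⟨hx', by rw [inv_inv]; exact hx⟩

theorem lev_mul_sub_one {f : ι → ℝ} {c : ℝ} (hc : 0 ≤ c) {A B : Matrix ι ι F} (hA : Lev f c (A - 1))
    (hB : Lev f c (B - 1)) : Lev f c (A * B - 1) := by
  have e : A * B - 1 = (A - 1) * (B - 1) + (A - 1) + (B - 1) := by noncomm_ring
  rw [e]
  exact (((hA.mul hB).mono (by linarith)).add hA).add hB

/-- the group of the invertible matrices `g` such that `g - 1` raises the level `f` by at least `c ≥ 0` -/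
def US (f : ι → ℝ) (c : ℝ) (hc : 0 ≤ c) : Subgroup (GL ι F) where
  carrier := {g | Lev f c ((g : Matrix ι ι F) - 1) ∧ Lev f c (((g⁻¹ : GL ι F) : Matrix ι ι F) - 1)}
  mul_mem' := by
    rintro x y ⟨hx, hx'⟩ ⟨hy, hy'⟩
    refine ⟨?_, ?_⟩
    · rw [Units.val_mul]; exact lev_mul_sub_one hc hx hy
    · rw [mul_inv_rev, Units.val_mul]; exact lev_mul_sub_one hc hy' hx'
  one_mem' := ⟨by simpa using Lev_zero f c, by rw [inv_one]; simpa using Lev_zero f c⟩
  inv_mem' := by
    rintro x ⟨hx, hx'⟩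
    exact ⟨hx', by rw [inv_inv]; exact hx⟩

end generic

/-! ### the level functions of a Chevalley datum -/

section chev

variable (D : ChevalleyDatum) (a : ℕ → ℕ → ℤ)

/-- the linear form on the roots with value `x i` at the `i`-th fundamental root -/
noncomputable def ell (x : Fin D.rank → ℝ) (r : ℕ) : ℝ := ∑ i : Fin D.rank, (a r i.val : ℝ) * x i

/-- the level function on the index set of the adjoint module -/
noncomputable def lvl (x : Fin D.rank → ℝ) : D.Idx → ℝ :=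
  Sum.elim (fun _ => 0) (fun s : Fin D.nroots => ell D a x s.val)

/-- the invariant quadratic form -/
noncomputable def qf (x : Fin D.rank → ℝ) : ℝ := ∑ r : Fin D.nroots, (ell D a x r.val) ^ 2

variable {D}

/-- dominant -/
def Dom (x : Fin D.rank → ℝ) : Prop := ∀ i, 0 ≤ x i

/-- the set of the fundamental roots on which `x` vanishes -/
def ZJ (x : Fin D.rank → ℝ) : Set ℕ := {i | ∃ h : i < D.rank, x ⟨i, h⟩ = 0}

variable (D)

/-- the permutation `τ` of the roots is linear in the coordinates `a` -/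
def LinC (τ : Equiv.Perm (Fin D.nroots)) : Prop :=
  ∃ m : Fin D.rank → Fin D.rank → ℤ, ∀ (r : Fin D.nroots) (k : Fin D.rank),
    a (τ r).val k.val = ∑ i : Fin D.rank, a r.val i.val * m i k

/-- two more table facts on the root coordinates: the fundamental reflections are linear, and connectedness -/
structure RCLin : Prop where
  lin : ∀ j < D.rank, ∀ r < D.nroots, a (D.reflectRoot j r) j =
    ∑ i ∈ Finset.range D.rank, a r i * a (D.reflectRoot j (D.simple i)) j
  conn : ∀ i < D.rank, ∀ j < D.rank, i ≠ j → ∃ r < D.nroots, D.nroots / 2 ≤ r ∧ a r i ≠ 0 ∧ a r j = 0 ∧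
    a (D.reflectRoot j r) j ≠ 0

variable {D} {F : Type*} [Field F]

/-- all `g⁻¹ v g - 1`, `v ∈ V`, raise the level of `x` by at least `c` -/
def LvV (V : Subgroup (GL D.Idx F)) (g : GL D.Idx F) (x : Fin D.rank → ℝ) (c : ℝ) : Prop :=
  ∀ v ∈ V, Lev (lvl D a x) c (((g⁻¹ * v * g : GL D.Idx F) : Matrix D.Idx D.Idx F) - 1)

open Classical in
/-- the positions of the non-zero entries of the `g⁻¹ v g - 1` -/
noncomputable def supp (V : Subgroup (GL D.Idx F)) (g : GL D.Idx F) : Finset (D.Idx × D.Idx) :=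
  Finset.univ.filter (fun e => ∃ v ∈ V, (((g⁻¹ * v * g : GL D.Idx F) : Matrix D.Idx D.Idx F) - 1) e.1 e.2 ≠ 0)

open Classical in
/-- the numerical function: the largest `c` with `LvV a V g x c` (if `V ≠ ⊥`) -/
noncomputable def Phi (V : Subgroup (GL D.Idx F)) (g : GL D.Idx F) (x : Fin D.rank → ℝ) : ℝ :=
  if h : (supp V g).Nonempty then (supp V g).inf' h (fun e => lvl D a x e.1 - lvl D a x e.2) else 0

open Cfsg.Agent.Lib.Helper23RG Cfsg.Agent.Lib.Helper23Table Cfsg.Agent.Lib.Helper23Chev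

/-- `n` acts on the roots by `σ` and carries the level function of `x` to that of `x'` -/
def NRel (hT : TableOK D) (hR : Rel D F) (n : GL D.Idx F) (σ : Equiv.Perm (Fin D.nroots))
    (x x' : Fin D.rank → ℝ) : Prop :=
  (rg hT hR).Mon n σ ∧ (∀ r : Fin D.nroots, ell D a x' (σ r).val = ell D a x r.val) ∧ qf D a x' = qf D a x ∧
    Tr (lvl D a x) (lvl D a x') (n : Matrix D.Idx D.Idx F) ∧
    Tr (lvl D a x') (lvl D a x) ((n⁻¹ : GL D.Idx F) : Matrix D.Idx D.Idx F)

end chev

end Cfsg.Agent.Lib.H46BTDefs
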