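import Cfsg.Agent.Lib.Helper22ChevNAll
import Cfsg.Agent.Lib.Helper22ChevCF

set_option autoImplicit false

/-! Root coefficients (on the fundamental roots) of the seven data, as a kernel checked table. -/

namespace Cfsg.Agent.Lib.Helper22ChevRC

open Cfsg.Lie Cfsg.Agent.Lib.Helper22ChevEngine Cfsg.Agent.Lib.Helper22ChevFast Cfsg.Agent.Lib.Helper22ChevBasic
  Cfsg.Agent.Lib.Helper22ChevTabs Cfsg.Agent.Lib.Helper22ChevCF Cfsg.Agent.Lib.Helper22ChevN

def rcD (P : FD) (rt r i : ℕ) : ℕ := Nat.mod (Nat.shiftRight rt (Nat.mul 4 (Nat.add (Nat.mul P.l r) i))) 16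

noncomputable def allEntI (f : ℕ → ℕ → Bool) (L : List (ℕ × ℕ)) : ℕ → Bool :=
  List.rec (fun _ => true) (fun x _ ih k => Bool.rec false (ih (Nat.succ k)) (f k x.1)) L

theorem allEntI_spec (f : ℕ → ℕ → Bool) (L : List (ℕ × ℕ)) : ∀ k0, allEntI f L k0 = true →
    ∀ j x, L[j]? = some x → f (k0 + j) x.1 = true := by
  induction L with
  | nil => intro k0 _ j x hx; simp at hx
  | cons y L ih =>
    intro k0 h j x hx
    have e : allEntI f (y :: L) k0 = Bool.rec false (allEntI f L (Nat.succ k0)) (f k0 y.1) := rfl
    rw [e] at h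
    cases hf : f k0 y.1 with
    | false => rw [hf] at h; exact absurd h (by simp)
    | true =>
      rw [hf] at h
      cases j with
      | zero =>
        simp only [List.getElem?_cons_zero, Option.some.injEq] at hx
        subst hx
        exact hf
      | succ j =>
        simp only [List.getElem?_cons_succ] at hx
        have := ih _ h j x hx
        rwa [show k0.succ + j = k0 + (j + 1) by omega] at this

noncomputable def chkRC (P : FD) (nT rt : ℕ) : Bool :=
  allLt P.n (fun r => allLt P.l (fun i =>
      Bool.rec (!(Nat.beq (P.corD r i) 8)) (Nat.beq (P.corD r i) 8) (Nat.beq (rcD P rt r i) 8)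
      && Bool.rec (Nat.ble (rcD P rt r i) 8) (Nat.ble 8 (rcD P rt r i)) (Nat.ble (Nat.div P.n 2) r)
      && Nat.beq (Nat.add (rcD P rt (P.negD r) i) (rcD P rt r i)) 16))
  && allLt P.l (fun j => allLt P.l (fun i => Nat.beq (rcD P rt (P.simpD j) i) (Bool.rec 8 9 (Nat.beq i j))))
  && allLt P.n (fun r => allLt P.n (fun s => allEntI (fun k q => allLt P.l (fun i =>
      Nat.beq (Nat.add (rcD P rt q i) (Nat.mul 8 (Nat.succ k))) (Nat.add (rcD P rt s i) (Nat.mul (Nat.succ k) (rcD P rt r i)))))
      (decN 3 (P.code r s)) 0))
  && allLt P.l (fun i => allLt P.n (fun r => allLt P.l (fun k =>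
      Bool.rec (Nat.beq (rcD P rt (wD P nT i r) k) (rcD P rt r k)) true (Nat.beq k i))))
  && allLt P.n (fun r => Bool.rec true (anyLt P.l (fun i => Nat.beq r (P.simpD i)) ||
      anyLt P.l (fun i => Nat.blt (rcD P rt (wD P nT i r) i) (rcD P rt r i) && !(Nat.beq (rcD P rt r i) 8)))
      (Nat.ble (Nat.div P.n 2) r))

structure RCFacts (D : ChevalleyDatum) (a : ℕ → ℕ → ℤ) : Prop where
  zero_iff : ∀ r < D.nroots, ∀ i < D.rank, a r i = 0 ↔ (D.coroot.getD r #[]).getD i 0 = 0
  nonneg : ∀ r < D.nroots, D.nroots / 2 ≤ r → ∀ i < D.rank, 0 ≤ a r i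
  nonpos : ∀ r < D.nroots / 2, ∀ i < D.rank, a r i ≤ 0
  neg : ∀ r < D.nroots, ∀ i < D.rank, a (D.neg r) i = - a r i
  simple : ∀ j < D.rank, ∀ i < D.rank, a (D.simple j) i = if i = j then 1 else 0
  chain : ∀ (r s k : ℕ) (q : ℕ × ℤ), (D.chainEntry r s)[k]? = some q → q.1 < D.nroots ∧ r < D.nroots ∧ s < D.nroots ∧
    ∀ i < D.rank, a q.1 i = a s i + (k + 1) * a r i
  refl : ∀ i < D.rank, ∀ r < D.nroots, ∀ k < D.rank, k ≠ i → a (D.reflectRoot i r) k = a r k
  desc : ∀ r < D.nroots, D.nroots / 2 ≤ r → (∃ i < D.rank, r = D.simple i) ∨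
    ∃ i < D.rank, a r i ≠ 0 ∧ a (D.reflectRoot i r) i < a r i

theorem beq_false_iff (a b : ℕ) : Nat.beq a b = false ↔ a ≠ b := by
  constructor
  · intro h e
    rw [nbeq_of_eq e] at h
    exact absurd h (by simp)
  · exact nbeq_of_ne

theorem rcFacts_of_chk {D : ChevalleyDatum} {P : FD} {nT rt : ℕ} (hA : Agree D P) (hN : NTab P nT)
    (h : chkRC P nT rt = true) : RCFacts D (fun r i => (rcD P rt r i : ℤ) - 8) := by
  have hn := hA.n_eq
  have hl := hA.l_eq
  simp only [chkRC, Bool.and_eq_true, allLt_iff] at h
  obtain ⟨⟨⟨⟨h1, h2⟩, h3⟩, h4⟩, h5⟩ := h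
  have hw : ∀ i < P.l, ∀ r < P.n, D.reflectRoot i r = wD P nT i r := by
    intro i hi r hr
    rw [reflectRoot_eq hA i r hi hr, (n2Facts_of_chk P nT i (hN.c2 i hi)).w_eq r hr]
  refine ⟨?_, ?_, ?_, ?_, ?_, ?_, ?_, ?_⟩
  · intro r hr i hi
    have := (h1 r (hn ▸ hr) i (hl ▸ hi)).1.1
    rw [hA.cor r (hn ▸ hr) i (hl ▸ hi)]
    cases hb : Nat.beq (rcD P rt r i) 8 with
    | true =>
      rw [hb] at this
      have e1 := Nat.eq_of_beq_eq_true hb
      have e2 := Nat.eq_of_beq_eq_true this
      simp only [e1, e2]
    | false =>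
      rw [hb] at this
      simp only [Bool.not_eq_true'] at this
      have e1 := (beq_false_iff _ _).mp hb
      have e2 := (beq_false_iff _ _).mp this
      constructor <;> intro h0 <;> omega
  · intro r hr hm i hi
    have := (h1 r (hn ▸ hr) i (hl ▸ hi)).1.2
    rw [show Nat.ble (Nat.div P.n 2) r = true from Nat.ble_eq_true_of_le (by rw [hn]; exact hm)] at this
    have := Nat.le_of_ble_eq_true this
    show (0 : ℤ) ≤ (rcD P rt r i : ℤ) - 8
    omega
  · intro r hr i hi
    have := (h1 r (by rw [hn]; omega) i (hl ▸ hi)).1.2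
    have e : Nat.ble (Nat.div P.n 2) r = false := by
      cases hb : Nat.ble (Nat.div P.n 2) r with
      | false => rfl
      | true =>
        have h6 : P.n / 2 ≤ r := Nat.le_of_ble_eq_true hb
        rw [hn] at h6
        omega
    rw [e] at this
    have := Nat.le_of_ble_eq_true this
    show (rcD P rt r i : ℤ) - 8 ≤ 0
    omega
  · intro r hr i hi
    have := Nat.eq_of_beq_eq_true (h1 r (hn ▸ hr) i (hl ▸ hi)).2
    rw [(hA.neg r (hn ▸ hr)).1]
    have e : rcD P rt (P.negD r) i + rcD P rt r i = 16 := this
    show (rcD P rt (P.negD r) i : ℤ) - 8 = -((rcD P rt r i : ℤ) - 8)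
    omega
  · intro j hj i hi
    have := Nat.eq_of_beq_eq_true (h2 j (hl ▸ hj) i (hl ▸ hi))
    rw [(hA.simple j (hl ▸ hj)).1]
    show (rcD P rt (P.simpD j) i : ℤ) - 8 = _
    by_cases hij : i = j
    · rw [nbeq_of_eq hij] at this
      rw [if_pos hij, this]; rfl
    · rw [nbeq_of_ne hij] at this
      rw [if_neg hij, this]; rfl
  · intro r s k q hq
    rw [chainEntry_eq hA, entS_eq] at hq
    split_ifs at hq with hrs
    · unfold decZ at hq
      rw [List.getElem?_map, Option.map_eq_some_iff] at hq
      obtain ⟨x, hx, rfl⟩ := hq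
      refine ⟨hn ▸ hA.ent_lt r hrs.1 s hrs.2 x (List.mem_of_getElem? hx), hn ▸ hrs.1, hn ▸ hrs.2, ?_⟩
      intro i hi
      have h6 := allEntI_spec _ _ 0 (h3 r hrs.1 s hrs.2) k x hx
      rw [allLt_iff] at h6
      have h7 := Nat.eq_of_beq_eq_true (h6 i (hl ▸ hi))
      rw [Nat.zero_add] at h7
      have h8 : rcD P rt x.1 i + 8 * (k + 1) = rcD P rt s i + (k + 1) * rcD P rt r i := h7
      show (rcD P rt x.1 i : ℤ) - 8 = ((rcD P rt s i : ℤ) - 8) + ((k : ℤ) + 1) * ((rcD P rt r i : ℤ) - 8)
      have h9 : (rcD P rt x.1 i : ℤ) + 8 * ((k : ℤ) + 1) = (rcD P rt s i : ℤ) + ((k : ℤ) + 1) * (rcD P rt r i : ℤ) := by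
        exact_mod_cast h8
      linear_combination h9
    · simp at hq
  · intro i hi r hr k hk hki
    have := h4 i (hl ▸ hi) r (hn ▸ hr) k (hl ▸ hk)
    rw [nbeq_of_ne hki] at this
    rw [hw i (hl ▸ hi) r (hn ▸ hr)]
    show (rcD P rt (wD P nT i r) k : ℤ) - 8 = (rcD P rt r k : ℤ) - 8
    rw [Nat.eq_of_beq_eq_true this]
  · intro r hr hm
    have := h5 r (hn ▸ hr)
    rw [show Nat.ble (Nat.div P.n 2) r = true from Nat.ble_eq_true_of_le (by rw [hn]; exact hm)] at this
    simp only [Bool.or_eq_true] at this
    rcases this with h6 | h6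
    · obtain ⟨i, hi, e⟩ := anyLt_spec _ _ h6
      exact Or.inl ⟨i, hl ▸ hi, by rw [(hA.simple i hi).1]; exact Nat.eq_of_beq_eq_true e⟩
    · obtain ⟨i, hi, e⟩ := anyLt_spec _ _ h6
      simp only [Bool.and_eq_true, Bool.not_eq_true'] at e
      refine Or.inr ⟨i, hl ▸ hi, ?_, ?_⟩
      · have := (beq_false_iff _ _).mp e.2
        show (rcD P rt r i : ℤ) - 8 ≠ 0
        omega
      · rw [hw i hi r (hn ▸ hr)]
        have := (blt_iff _ _).mp e.1
        show (rcD P rt (wD P nT i r) i : ℤ) - 8 < (rcD P rt r i : ℤ) - 8
        omega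

def rtG2 : ℕ := 0xab9b9a998998788777767565

def rtB2 : ℕ := 0x9a99899878877776

def rtD4 : ℕ := 0x99a999998999989988998889999889989898889889889888788887888878787887787778888788777877877777777767

def rtF4 : ℕ := 0xabca9bca9aca9aba9aaa99aa89aa9ab99aa999a989a999998999889988899aa899a889a8999889988898998889889888788887887788887887787778876877687668888788778777777787677767766776578766776676667656764675466546

def rtE6 : ℕ := 0x9abaa99aba999aaa9999aa9989aa999aa99999a99989a9999999998999998899999999898999898899898889898888899aa99899a99889a998999998899998889998999898899898889898888898999988899988889988888988999888899888889888998888898888988888788888878888778888887888877888777888888788887788877788777788888878887878877878777878887778877778777778876778776778766778888887888787887787877787777787887777877777777777876777776777766777876677776677766677765677765667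

def rtE7 : ℕ := 0x9abcbaa9abcba99abcaa99abbaa99aabaa999abaa989abaa99abba999aaba9999aba9989aba999aaaa9999aaa9989aaa99999aa99899aa99889aa999aaa99999aa99989aa999999a999899a999889a99999999998999999889999988899999999989899998988999898889989888898988888899aaa99899aa99889aa998999a998899a998889a998999999889999988899998888999899998988999898889989888898988888898999998889999888899988888998888889889999888899988888998888889888999888889988888898888998888889888889888888788888887888887788888887888887788887778888888788888778888777888777788888887888887788887778887777887777788888887888878788877878877787877778788887778887777887777787777778887677887767787776778876677877667787666778888888788887878887787887778787777877777787888777788777778777777777777788767778776777777677787667777766777766677788766778776677777667787666777766677766667787656777765677766567776556778765667776566776656677655667765466776545677654566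

def rtE8 : ℕ := 0xabcdecba9bcdecba9acdecba9abdecba9abcecba9abcdcba9abcdbba9abcdcaa9abcdbaa9abccbaa9abbcbaa9aabcbaa99abcbaa89abcbaa9abcdbb99abcdba99abccba99abbcba99aabcba999abcba989abcba99abccaa99abbcaa99aabcaa999abcaa989abcaa99abbbaa99aabbaa999abbaa989abbaa99aaabaa999aabaa989aabaa9999abaa9899abaa9889abaa99abbba999aabba9999abba9989abba999aaaba9999aaba9989aaba99999aba99899aba99889aba999aaaaa9999aaaa9989aaaa99999aaa99899aaa99889aaa999999aa998999aa998899aa998889aa999aaaa99999aaa99989aaa999999aa999899aa999889aa9999999a9998999a9998899a9998889a9999999999989999999889999998889999988889999999999898999998988999989888999898888998988888989888888899aaaa99899aaa99889aaa998999aa998899aa998889aa9989999a9988999a9988899a9988889a9989999999889999998889999988889999888889998999998988999989888999898888998988888989888888898999999888999998888999988888999888888998888888988999998888999988888999888888998888888988899998888899988888899888888898888999888888998888888988888998888888988888898888888788888888788888877888888887888888778888877788888888788888877888887778888777788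888888788888877888887778888777788877777888888887888888778888877788887777888777778877777788888888788888787888877878887778788777787877777878888877788887777888777778877777787777777888876778887767788777677877776778887667788776677877766778876667787766677876666778888888878888878788887787888777878877778787777787777777878888777788877777887777778777777777777777888767778877677787776777777767778876677787766777777667778766677777666777766667778887667788776677877766777777667788766677877666777776667787666677776666777666667788765677877656777776567787665677776656777666567787655677776556777665567776555677887656678776566777765667876656677766566776665667876556677765566776655667765556678765466777654667766546677655466776544667876545677765456776654567765545677654456776543567765435578765456677654566766545667655456676544566765435667654346676543556765434567654245676532456764324567543245665432456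

set_option maxRecDepth 1000000 in
theorem chkG2 : chkRC Helper22ChevTabG2.fd Helper22ChevNTabG2.nT rtG2 = true := by decide +kernel

set_option maxRecDepth 1000000 in
theorem chkB2 : chkRC Helper22ChevTabB2.fd Helper22ChevNTabB2.nT rtB2 = true := by decide +kernel

set_option maxRecDepth 1000000 in
theorem chkD4 : chkRC Helper22ChevTabD4.fd Helper22ChevNTabD4.nT rtD4 = true := by decide +kernel

set_option maxRecDepth 1000000 in
theorem chkF4 : chkRC Helper22ChevTabF4.fd Helper22ChevNTabF4.nT rtF4 = true := by decide +kernel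

set_option maxRecDepth 1000000 in
theorem chkE6 : chkRC Helper22ChevTabE6.fd Helper22ChevNTabE6.nT rtE6 = true := by decide +kernel

set_option maxRecDepth 1000000 in
theorem chkE7 : chkRC Helper22ChevTabE7.fd Helper22ChevNTabE7a.nT rtE7 = true := by decide +kernel

set_option maxRecDepth 1000000 in
theorem chkE8 : chkRC Helper22ChevTabE8.fd Helper22ChevNTabE8a.nT rtE8 = true := by decide +kernel

set_option maxRecDepth 100000 in
theorem exists_rc {D : ChevalleyDatum} (hD : Std D) : ∃ a, RCFacts D a := by
  simp only [List.mem_cons, List.mem_nil_iff, or_false] at hD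
  rcases hD with rfl | rfl | rfl | rfl | rfl | rfl | rfl
  · exact ⟨_, rcFacts_of_chk Helper22ChevTabG2.agree Helper22ChevNTabG2.nTab chkG2⟩
  · exact ⟨_, rcFacts_of_chk Helper22ChevTabB2.agree Helper22ChevNTabB2.nTab chkB2⟩
  · exact ⟨_, rcFacts_of_chk Helper22ChevTabD4.agree Helper22ChevNTabD4.nTab chkD4⟩
  · exact ⟨_, rcFacts_of_chk Helper22ChevTabF4.agree Helper22ChevNTabF4.nTab chkF4⟩
  · exact ⟨_, rcFacts_of_chk Helper22ChevTabE6.agree Helper22ChevNTabE6.nTab chkE6⟩
  · exact ⟨_, rcFacts_of_chk Helper22ChevTabE7.agree Helper22ChevNTabE7.nTab chkE7⟩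
  · exact ⟨_, rcFacts_of_chk Helper22ChevTabE8.agree Helper22ChevNTabE8.nTab chkE8⟩

end Cfsg.Agent.Lib.Helper22ChevRC
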