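import Mathlib
import Cfsg.Agent.Lib.Helper46BNApp

set_option autoImplicit false
set_option linter.unusedSectionVars false
set_option linter.unusedSimpArgs false
set_option linter.unusedVariables false

/-! Sum of the Steinberg character of a split BN-pair over the `p`-elements; tools for Steinberg's count of
unipotent elements. -/

namespace Cfsg.Agent.Lib.Helper46DU1

open Cfsg Cfsg.Agent.Lib.Helper8BN Cfsg.Agent.Lib.Helper46Len Cfsg.Agent.Lib.Helper46BN
open Cfsg.Agent.Lib.Helper46BNSt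

variable {G : Type*} [Group G]

/-- `p`-elements -/
def isP (p : ℕ) (g : G) : Prop := ∃ k : ℕ, orderOf g = p ^ k

theorem isP_conj (p : ℕ) (x g : G) : isP p (x * g * x⁻¹) ↔ isP p g := by
  unfold isP
  have : orderOf (x * g * x⁻¹) = orderOf g := by
    have := (MulAut.conj x).orderOf_eq g
    simpa using this
  rw [this]

/-- fixed point characters are class functions -/
theorem fpc_conj (H : Subgroup G) (x g : G) :
    fixedPointCharacter H (x * g * x⁻¹) = fixedPointCharacter H g := by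
  unfold fixedPointCharacter
  congr 1
  apply Nat.card_congr
  refine ⟨fun y => ⟨x⁻¹ • y.1, ?_⟩, fun y => ⟨x • y.1, ?_⟩, ?_, ?_⟩
  · have h := y.2
    rw [MulAction.mem_fixedBy] at h ⊢
    conv_rhs => rw [← h]
    simp only [smul_smul]
    congr 1
    group
  · have h := y.2
    rw [MulAction.mem_fixedBy] at h ⊢
    conv_rhs => rw [← h]
    simp only [smul_smul]
    congr 1
    group
  · intro y
    apply Subtype.ext
    simp
  · intro y
    apply Subtype.ext
    simp

/-- sum of a permutation character over a normal subset. -/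
theorem sum_fpc [Fintype G] (H : Subgroup G) (Pr : G → Prop) [DecidablePred Pr]
    (hPr : ∀ x g, Pr (x * g * x⁻¹) ↔ Pr g) :
    ∑ g ∈ Finset.univ.filter Pr, fixedPointCharacter H g =
      (Nat.card (G ⧸ H) : ℂ) * (Nat.card {h : G // h ∈ H ∧ Pr h} : ℂ) := by
  classical
  have : Fintype (G ⧸ H) := Fintype.ofFinite _
  have e1 : ∀ g, fixedPointCharacter H g = ∑ y : G ⧸ H, if g • y = y then (1 : ℂ) else 0 := by
    intro g
    unfold fixedPointCharacter
    change (Nat.card {y : G ⧸ H // g • y = y} : ℂ) = _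
    rw [Finset.sum_boole, Nat.card_eq_fintype_card, Fintype.card_subtype]
  simp only [e1]
  rw [Finset.sum_comm]
  have e2 : ∀ y : G ⧸ H, ∑ g ∈ Finset.univ.filter Pr, (if g • y = y then (1 : ℂ) else 0) =
      (Nat.card {h : G // h ∈ H ∧ Pr h} : ℂ) := by
    intro y
    induction y using QuotientGroup.induction_on with
    | H x =>
      rw [Finset.sum_boole, Finset.filter_filter]
      congr 1
      rw [Nat.card_eq_fintype_card, Fintype.card_subtype]
      apply Finset.card_bij (fun g _ => x⁻¹ * g * x)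
      · intro g hg
        rw [Finset.mem_filter] at hg ⊢
        obtain ⟨-, h1, h2⟩ := hg
        refine ⟨Finset.mem_univ _, ?_, ?_⟩
        · change ((g * x : G) : G ⧸ H) = x at h2
          rw [eq_comm, QuotientGroup.eq] at h2
          rw [mul_assoc]; exact h2
        · have := hPr x⁻¹ g
          rw [inv_inv] at this
          exact this.2 h1
      · intro a _ b _ h
        simpa using h
      · intro h hh
        rw [Finset.mem_filter] at hh
        obtain ⟨-, h1, h2⟩ := hh
        refine ⟨x * h * x⁻¹, ?_, by group⟩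
        rw [Finset.mem_filter]
        refine ⟨Finset.mem_univ _, (hPr x h).2 h2, ?_⟩
        change ((x * h * x⁻¹ * x : G) : G ⧸ H) = x
        rw [eq_comm, QuotientGroup.eq]
        have : x⁻¹ * (x * h * x⁻¹ * x) = h := by group
        rw [this]; exact h1
  rw [Finset.sum_congr rfl (fun y _ => e2 y), Finset.sum_const, Finset.card_univ, nsmul_eq_mul,
    Nat.card_eq_fintype_card (α := G ⧸ H)]

/-- Moebius inversion on the Boolean lattice. -/
theorem moebius {ι : Type*} [DecidableEq ι] (A : Finset ι) (f g : Finset ι → ℂ)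
    (h : ∀ J ⊆ A, g J = ∑ K ∈ J.powerset, (-1 : ℂ) ^ K.card * f K) :
    f A = ∑ J ∈ A.powerset, (-1 : ℂ) ^ J.card * g J := by
  have e1 : ∑ J ∈ A.powerset, (-1 : ℂ) ^ J.card * g J =
      ∑ J ∈ A.powerset, ∑ K ∈ A.powerset, if K ⊆ J then (-1 : ℂ) ^ J.card * ((-1 : ℂ) ^ K.card * f K) else 0 := by
    apply Finset.sum_congr rfl
    intro J hJ
    rw [Finset.mem_powerset] at hJ
    rw [h J hJ, Finset.mul_sum, ← Finset.sum_filter]
    apply Finset.sum_congr _ (fun _ _ => rfl)
    ext K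
    simp only [Finset.mem_filter, Finset.mem_powerset]
    exact ⟨fun h => ⟨h.trans hJ, h⟩, fun h => h.2⟩
  rw [e1, Finset.sum_comm]
  have e2 : ∀ K ∈ A.powerset, ∑ J ∈ A.powerset,
      (if K ⊆ J then (-1 : ℂ) ^ J.card * ((-1 : ℂ) ^ K.card * f K) else 0) = if K = A then f K else 0 := by
    intro K hK
    rw [Finset.mem_powerset] at hK
    rw [← Finset.sum_filter]
    have e3 : ∑ J ∈ A.powerset.filter (fun J => K ⊆ J), (-1 : ℂ) ^ J.card * ((-1 : ℂ) ^ K.card * f K) =
        ∑ L ∈ (A \ K).powerset, (-1 : ℂ) ^ L.card * f K := by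
      symm
      apply Finset.sum_bij (fun L _ => K ∪ L)
      · intro L hL
        rw [Finset.mem_powerset] at hL
        rw [Finset.mem_filter, Finset.mem_powerset]
        exact ⟨Finset.union_subset hK (hL.trans Finset.sdiff_subset), Finset.subset_union_left⟩
      · intro L hL L' hL' e
        rw [Finset.mem_powerset] at hL hL'
        have d1 : Disjoint K L := (Finset.disjoint_of_subset_right hL Finset.disjoint_sdiff)
        have d2 : Disjoint K L' := (Finset.disjoint_of_subset_right hL' Finset.disjoint_sdiff)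
        have := congrArg (fun X => X \ K) e
        simp only [Finset.union_sdiff_cancel_left d1, Finset.union_sdiff_cancel_left d2] at this
        exact this
      · intro J hJ
        rw [Finset.mem_filter, Finset.mem_powerset] at hJ
        refine ⟨J \ K, ?_, ?_⟩
        · rw [Finset.mem_powerset]
          exact Finset.sdiff_subset_sdiff hJ.1 (le_refl _)
        · exact Finset.union_sdiff_of_subset hJ.2
      · intro L hL
        rw [Finset.mem_powerset] at hL
        have d1 : Disjoint K L := (Finset.disjoint_of_subset_right hL Finset.disjoint_sdiff)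
        rw [Finset.card_union_of_disjoint d1, pow_add]
        have : ((-1 : ℂ) ^ K.card) * ((-1 : ℂ) ^ K.card) = 1 := by
          rw [← pow_add, ← two_mul, pow_mul]; simp
        linear_combination (-(-1 : ℂ) ^ L.card * f K) * this
    rw [e3, ← Finset.sum_mul]
    have := congrArg (Int.cast : ℤ → ℂ) (Finset.sum_powerset_neg_one_pow_card (x := A \ K))
    push_cast at this
    rw [this]
    by_cases hKA : K = A
    · subst hKA
      simp
    · have : A \ K ≠ ∅ := by
        intro h0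
        rw [Finset.sdiff_eq_empty_iff_subset] at h0
        exact hKA (Finset.Subset.antisymm hK h0)
      simp [this, hKA]
  rw [Finset.sum_congr rfl e2, Finset.sum_ite_eq' ]
  simp

variable (P : Cfsg.BNPair G)

theorem St_reindex' {ι : Type*} [DecidableEq ι] (A : Finset ι) (ν : ι → G) (hν : ∀ i ∈ A, ν i ∈ P.S)
    (hsurj : ∀ s ∈ P.S, ∃ i ∈ A, s = ν i) (hinj : ∀ i ∈ A, ∀ j ∈ A, ν i = ν j → i = j) :
    ∃ Sf : Finset (Wg P), (Sf : Set (Wg P)) = SW P ∧ ∀ g, St P Sf g =
      ∑ J ∈ A.powerset, (-1 : ℂ) ^ J.card *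
        Cfsg.fixedPointCharacter (P.parabolic {s | ∃ j ∈ J, s = ν j}) g := by
  classical
  set φ : ι → Wg P := fun i => delta P (ν i) with hφ
  have hφ' : ∀ i (hi : i ∈ A), φ i = mkW P (ν i) (P.subset (hν i hi)) := fun i hi =>
    delta_of_mem_N P (P.subset (hν i hi))
  have hφinj : ∀ i ∈ A, ∀ j ∈ A, φ i = φ j → i = j := by
    intro i hi j hj h
    rw [hφ' i hi, hφ' j hj, mkW_eq_iff] at h
    exact hinj i hi j hj (P.inj _ (hν i hi) _ (hν j hj) h)
  refine ⟨A.image φ, ?_, ?_⟩
  · ext w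
    simp only [Finset.coe_image, Set.mem_image, Finset.mem_coe]
    constructor
    · rintro ⟨i, hi, rfl⟩
      exact ⟨ν i, hν i hi, hφ' i hi⟩
    · rintro ⟨s, hs, rfl⟩
      obtain ⟨i, hi, rfl⟩ := hsurj s hs
      exact ⟨i, hi, hφ' i hi⟩
  · intro g
    unfold St
    symm
    apply Finset.sum_bij (fun J _ => J.image φ)
    · intro J hJ
      rw [Finset.mem_powerset] at hJ ⊢
      exact Finset.image_subset_image hJ
    · intro J hJ K hK h
      rw [Finset.mem_powerset] at hJ hK
      have key : ∀ J K : Finset ι, J ⊆ A → K ⊆ A → J.image φ = K.image φ → J ⊆ K := by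
        intro J K hJ hK h x hx
        have h1 : φ x ∈ K.image φ := h ▸ Finset.mem_image_of_mem φ hx
        obtain ⟨y, hy, e⟩ := Finset.mem_image.1 h1
        have := hφinj y (hK hy) x (hJ hx) e
        exact this ▸ hy
      exact Finset.Subset.antisymm (key J K hJ hK h) (key K J hK hJ h.symm)
    · intro K hK
      rw [Finset.mem_powerset] at hK
      refine ⟨A.filter (fun i => φ i ∈ K), ?_, ?_⟩
      · rw [Finset.mem_powerset]; exact Finset.filter_subset _ _
      · ext w
        simp only [Finset.mem_image, Finset.mem_filter]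
        constructor
        · rintro ⟨i, ⟨_, h⟩, rfl⟩; exact h
        · intro hw
          obtain ⟨i, hi, rfl⟩ := Finset.mem_image.1 (hK hw)
          exact ⟨i, ⟨hi, hw⟩, rfl⟩
    · intro J hJ
      rw [Finset.mem_powerset] at hJ
      have hc : (J.image φ).card = J.card := by
        apply Finset.card_image_of_injOn
        intro x hx y hy h
        exact hφinj x (hJ hx) y (hJ hy) h
      have hp : pre P ((J.image φ : Finset (Wg P)) : Set (Wg P)) = {s | ∃ j ∈ J, s = ν j} := by
        ext s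
        constructor
        · rintro ⟨hs, h⟩
          obtain ⟨j, hj, e⟩ := Finset.mem_image.1 (Finset.mem_coe.1 h)
          have hjr := hJ hj
          rw [hφ' j hjr, mkW_eq_iff] at e
          exact ⟨j, hj, (P.inj _ (hν j hjr) _ hs e).symm⟩
        · rintro ⟨j, hj, rfl⟩
          have hjr := hJ hj
          refine ⟨hν j hjr, Finset.mem_coe.2 (Finset.mem_image.2 ⟨j, hj, hφ' j hjr⟩)⟩
      rw [hc, hp]

theorem St_conj' (Sf : Finset (Wg P)) (x g : G) : St P Sf (x * g * x⁻¹) = St P Sf g := by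
  unfold St
  apply Finset.sum_congr rfl
  intro J _
  rw [fpc_conj]

/-- if `l(s w) > l(w)` then `w⁻¹` maps `X_s` into `U`. -/
theorem conj_up {s n : G} (hs : s ∈ P.S) (hn : n ∈ P.N) {X U : Subgroup G} (hUB : U ≤ P.B)
    (hdich : (∀ x ∈ X, n⁻¹ * x * n ∈ U) ∨ (∀ x ∈ X, n⁻¹ * (s⁻¹ * x * s) * n ∈ U))
    (hrk : ∃ x ∈ X, ∃ b₁ ∈ P.B, ∃ b₂ ∈ P.B, s⁻¹ * x * s = b₁ * s * b₂)
    (h : lenW P (mkW P s (P.subset hs) * mkW P n hn) = lenW P (mkW P n hn) + 1) :
    ∀ x ∈ X, n⁻¹ * x * n ∈ U := by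
  rcases hdich with h1 | h2
  · exact h1
  · exfalso
    obtain ⟨x, hx, b₁, hb₁, b₂, hb₂, e⟩ := hrk
    have h3 := h2 _ hx
    have hsS : mkW P s (P.subset hs) ∈ SW P := ⟨s, hs, rfl⟩
    have e1 : s * b₂ * n = b₁⁻¹ * n * (n⁻¹ * (s⁻¹ * x * s) * n) := by
      rw [e]; group
    have d1 : delta P (s * b₂) = mkW P s (P.subset hs) := by
      rw [delta_mul_B P hb₂, delta_of_mem_N P (P.subset hs)]
    have d2 : delta P (s * b₂ * n) = mkW P s (P.subset hs) * mkW P n hn := by
      have := delta_S_mul_up P (x := s * b₂) (g := n) (by rw [d1]; exact hsS)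
        (by rw [d1, delta_of_mem_N P hn]; exact h)
      rw [this, d1, delta_of_mem_N P hn]
    have d3 : delta P (s * b₂ * n) = mkW P n hn := by
      rw [e1, delta_mul_B P (hUB h3), delta_B_mul P (P.B.inv_mem hb₁), delta_of_mem_N P hn]
    rw [d2] at d3
    have h4 := mul_eq_right.1 d3
    rw [mkW_eq_one_iff] at h4
    exact S_not_mem_B hs h4

/-- `B ∩ n₀ B n₀⁻¹` -/
def QQ (n0 : G) : Subgroup P.B where
  carrier := {β | n0⁻¹ * β.1 * n0 ∈ P.B}
  mul_mem' := by
    intro a b ha hb
    have e : n0⁻¹ * (a * b : P.B).1 * n0 = (n0⁻¹ * a.1 * n0) * (n0⁻¹ * b.1 * n0) := by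
      rw [Subgroup.coe_mul]; group
    change n0⁻¹ * (a * b : P.B).1 * n0 ∈ P.B
    rw [e]
    exact P.B.mul_mem ha hb
  one_mem' := by
    change n0⁻¹ * ((1 : P.B) : G) * n0 ∈ P.B
    simp
  inv_mem' := by
    intro a ha
    have e : n0⁻¹ * (a⁻¹ : P.B).1 * n0 = (n0⁻¹ * a.1 * n0)⁻¹ := by
      rw [Subgroup.coe_inv]; group
    change n0⁻¹ * (a⁻¹ : P.B).1 * n0 ∈ P.B
    rw [e]
    exact P.B.inv_mem ha

theorem mem_QQ {n0 : G} {β : P.B} : β ∈ QQ P n0 ↔ n0⁻¹ * β.1 * n0 ∈ P.B := Iff.rfl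

section Split

variable {U O : Subgroup G} (hUB : U ≤ P.B) (hUn : ∀ b ∈ P.B, ∀ u ∈ U, b⁻¹ * u * b ∈ U)
  (hO : O ≤ U) (hOn : ∀ g : G, ∀ o ∈ O, g⁻¹ * o * g ∈ O)
  {n0 : G} (hn0 : n0 ∈ P.N) (htop : (lenSys P).IsTopR (mkW P n0 hn0))
  (hQ : ∀ u ∈ U, n0⁻¹ * u * n0 ∈ P.B → u ∈ O)

include hUB hUn hO hOn htop hQ in
open Classical in
theorem St_on_U [Finite G] (Sf : Finset (Wg P)) (hSf : (Sf : Set (Wg P)) = SW P) {u : G} (hu : u ∈ U) :
    St P Sf u = if u ∈ O then (Nat.card (P.B ⧸ QQ P n0) : ℂ) else 0 := by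
  obtain ⟨w0, hL, hR, _, huR⟩ := (lenSys P).exists_top
  have e : mkW P n0 hn0 = w0 := huR _ htop
  rw [St_eq_big_cell P Sf hSf hR huR (hUB hu), ← e,
    card_big_cell P hn0 (QQ P n0) (fun β => Iff.rfl) ⟨u, hUB hu⟩]
  have key : ∀ β : P.B, (⟨u, hUB hu⟩ : P.B) • (β : P.B ⧸ QQ P n0) = β ↔
      n0⁻¹ * (β.1⁻¹ * u * β.1) * n0 ∈ P.B := by
    intro β
    change (((⟨u, hUB hu⟩ : P.B) * β : P.B) : P.B ⧸ QQ P n0) = β ↔ _
    rw [eq_comm, QuotientGroup.eq, mem_QQ]
    simp only [Subgroup.coe_mul, Subgroup.coe_inv, mul_assoc]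
  split_ifs with h
  · congr 1
    have : MulAction.fixedBy (P.B ⧸ QQ P n0) (⟨u, hUB hu⟩ : P.B) = Set.univ := by
      rw [Set.eq_univ_iff_forall]
      intro z
      induction z using QuotientGroup.induction_on with
      | H β =>
        rw [MulAction.mem_fixedBy, key]
        exact hUB (hO (hOn _ _ (hOn _ _ h)))
    rw [this]
    exact Nat.card_congr (Equiv.Set.univ _)
  · have : MulAction.fixedBy (P.B ⧸ QQ P n0) (⟨u, hUB hu⟩ : P.B) = ∅ := by
      rw [Set.eq_empty_iff_forall_notMem]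
      intro z
      induction z using QuotientGroup.induction_on with
      | H β =>
        rw [MulAction.mem_fixedBy, key]
        intro h1
        have h2 := hQ _ (hUn _ β.2 _ hu) h1
        have h3 := hOn β.1⁻¹ _ h2
        apply h
        have e3 : β.1⁻¹⁻¹ * (β.1⁻¹ * u * β.1) * β.1⁻¹ = u := by group
        rwa [e3] at h3
    rw [this]
    simp

include hUB hO hOn hn0 hQ in
theorem card_BQ_mul [Finite G] (hBUT : ∀ b ∈ P.B, ∃ u ∈ U, ∃ t ∈ P.B ⊓ P.N, b = u * t) :
    Nat.card (P.B ⧸ QQ P n0) * Nat.card O = Nat.card U := by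
  have e1 : Nat.card (U ⧸ O.subgroupOf U) = Nat.card (P.B ⧸ QQ P n0) := by
    apply Nat.card_congr
    let ψ : U ⧸ O.subgroupOf U → P.B ⧸ QQ P n0 := fun z =>
      Quotient.liftOn' z (fun u => ((⟨u.1, hUB u.2⟩ : P.B) : P.B ⧸ QQ P n0)) (by
        intro a b h
        rw [QuotientGroup.leftRel_apply, Subgroup.mem_subgroupOf] at h
        rw [QuotientGroup.eq, mem_QQ]
        exact hUB (hO (hOn _ _ h)))
    have hψ : ∀ u : U, ψ (u : U ⧸ O.subgroupOf U) = ((⟨u.1, hUB u.2⟩ : P.B) : P.B ⧸ QQ P n0) :=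
      fun _ => rfl
    refine Equiv.ofBijective ψ ⟨?_, ?_⟩
    · intro z z' h
      induction z using QuotientGroup.induction_on with
      | H a =>
      induction z' using QuotientGroup.induction_on with
      | H b =>
        rw [hψ, hψ, QuotientGroup.eq, mem_QQ] at h
        rw [QuotientGroup.eq, Subgroup.mem_subgroupOf]
        exact hQ _ (U.mul_mem (U.inv_mem a.2) b.2) h
    · intro z
      induction z using QuotientGroup.induction_on with
      | H β =>
        obtain ⟨u, hu, t, ht, e⟩ := hBUT β.1 β.2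
        refine ⟨((⟨u, hu⟩ : U) : U ⧸ O.subgroupOf U), ?_⟩
        rw [hψ, QuotientGroup.eq, mem_QQ]
        have : ((⟨u, hUB hu⟩ : P.B)⁻¹ * β : P.B).1 = t := by
          rw [Subgroup.coe_mul, Subgroup.coe_inv, e]
          simp
        rw [this]
        exact (conj_mem_T' hn0 ht).1
  rw [← e1, Subgroup.card_eq_card_quotient_mul_card_subgroup (O.subgroupOf U),
    Nat.card_congr (Subgroup.subgroupOfEquivOfLe hO).toEquiv]

include hUB hUn hO hOn htop hQ in
open Classical in
/-- the sum of the Steinberg character over the `p`-elements. -/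
theorem sum_St_p [Fintype G] (p : ℕ) (Sf : Finset (Wg P)) (hSf : (Sf : Set (Wg P)) = SW P)
    (hBUT : ∀ b ∈ P.B, ∃ u ∈ U, ∃ t ∈ P.B ⊓ P.N, b = u * t)
    (hsyl : ∀ g : G, isP p g → ∃ x, x * g * x⁻¹ ∈ U) (hUp : ∀ u ∈ U, isP p u) :
    ∑ g ∈ Finset.univ.filter (isP p), St P Sf g = (Nat.card U : ℂ) := by
  have h1 : ∀ g ∈ Finset.univ.filter (isP (G := G) p), St P Sf g =
      if g ∈ O then (Nat.card (P.B ⧸ QQ P n0) : ℂ) else 0 := by
    intro g hg
    rw [Finset.mem_filter] at hg
    obtain ⟨x, hx⟩ := hsyl g hg.2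
    rw [← St_conj' P Sf x g, St_on_U P hUB hUn hO hOn hn0 htop hQ Sf hSf hx]
    have : x * g * x⁻¹ ∈ O ↔ g ∈ O := by
      constructor
      · intro h
        have := hOn x _ h
        have e : x⁻¹ * (x * g * x⁻¹) * x = g := by group
        rwa [e] at this
      · intro h
        have := hOn x⁻¹ _ h
        rwa [inv_inv] at this
    simp only [this]
  rw [Finset.sum_congr rfl h1, ← Finset.sum_filter, Finset.sum_const, nsmul_eq_mul,
    ← card_BQ_mul P hUB hO hOn hn0 hQ hBUT]
  push_cast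
  rw [mul_comm]
  congr 2
  rw [Nat.card_eq_fintype_card, Finset.filter_filter]
  change _ = Fintype.card {g : G // g ∈ O}
  rw [Fintype.card_subtype]
  congr 1
  ext g
  simp only [Finset.mem_filter, Finset.mem_univ, true_and]
  exact ⟨fun h => h.2, fun h => ⟨hUp g (hO h), h⟩⟩

include hUB hUn hO hOn htop hQ in
theorem St_one_mul [Finite G] (Sf : Finset (Wg P)) (hSf : (Sf : Set (Wg P)) = SW P)
    (hBUT : ∀ b ∈ P.B, ∃ u ∈ U, ∃ t ∈ P.B ⊓ P.N, b = u * t) :
    St P Sf 1 * (Nat.card O : ℂ) = (Nat.card U : ℂ) := by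
  classical
  rw [St_on_U P hUB hUn hO hOn hn0 htop hQ Sf hSf U.one_mem, if_pos O.one_mem,
    ← card_BQ_mul P hUB hO hOn hn0 hQ hBUT]
  push_cast
  rfl

end Split

end Cfsg.Agent.Lib.Helper46DU1
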