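import Mathlib
import Cfsg.Agent.Lib.Helper46DU1
import Cfsg.Agent.Lib.Helper46DZ6

set_option autoImplicit false
set_option linter.unusedSectionVars false
set_option linter.unusedSimpArgs false
set_option linter.unusedVariables false

/-! The BN-pairs of the standard parabolic subgroups of a root group datum, their longest elements. -/

namespace Cfsg.Agent.Lib.Helper46DU2

open Cfsg Cfsg.Agent.Lib.Helper23RG Cfsg.Agent.Lib.Helper23Grp Cfsg.Agent.Lib.Helper46DZ6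
open Cfsg.Agent.Lib.Helper8BN Cfsg.Agent.Lib.Helper46Len Cfsg.Agent.Lib.Helper46BN
open Cfsg.Agent.Lib.Helper46BNSt Cfsg.Agent.Lib.Helper46DU1

variable {𝔾 F R I : Type*} [Group 𝔾] [Field F] {S : RG 𝔾 F R I}

def gen (S : RG 𝔾 F R I) (J : Set I) : Set 𝔾 := {g | ∃ j ∈ J, g = S.nn j}

def PJ (S : RG 𝔾 F R I) (J : Set I) : Subgroup 𝔾 := S.B ⊔ Subgroup.closure (gen S J)

def NJ (S : RG 𝔾 F R I) (J : Set I) : Subgroup 𝔾 := S.H ⊔ Subgroup.closure (gen S J)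

theorem gen_mono {J K : Set I} (h : K ⊆ J) : gen S K ⊆ gen S J := by
  rintro _ ⟨j, hj, rfl⟩
  exact ⟨j, h hj, rfl⟩

theorem PJ_mono {J K : Set I} (h : K ⊆ J) : PJ S K ≤ PJ S J :=
  sup_le_sup_left (Subgroup.closure_mono (gen_mono h)) _

theorem B_le_PJ (J : Set I) : S.B ≤ PJ S J := le_sup_left

theorem NJ_le_N (J : Set I) : NJ S J ≤ S.N := by
  apply sup_le RG.H_le_N
  rw [Subgroup.closure_le]
  rintro _ ⟨j, _, rfl⟩
  exact RG.nn_mem_N j

theorem NJ_le_PJ (J : Set I) : NJ S J ≤ PJ S J := sup_le_sup_right RG.H_le_B _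

theorem H_le_NJ (J : Set I) : S.H ≤ NJ S J := le_sup_left

theorem nn_mem_NJ {J : Set I} {j : I} (hj : j ∈ J) : S.nn j ∈ NJ S J :=
  Subgroup.mem_sup_right (Subgroup.subset_closure ⟨j, hj, rfl⟩)

variable (E : Extra S)

include E in
theorem B_inf_NJ (J : Set I) : S.B ⊓ NJ S J = S.H := by
  apply le_antisymm
  · rw [← RG.B_inf_N E.ok E.hUN]
    exact inf_le_inf_left _ (NJ_le_N J)
  · exact le_inf RG.H_le_B (H_le_NJ J)

include E in
theorem PJ_le_G (J : Set I) : PJ S J ≤ S.G := by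
  apply sup_le (RG.B_le_G E.ok)
  rw [Subgroup.closure_le]
  rintro _ ⟨j, _, rfl⟩
  exact RG.N_le_G E.ok (RG.nn_mem_N j)

include E in
theorem exists_bnJ (J : Set I) :
    ∃ P : Cfsg.BNPair (PJ S J), P.B = S.B.subgroupOf (PJ S J) ∧ P.N = (NJ S J).subgroupOf (PJ S J) ∧
      P.S = {n : PJ S J | (n : 𝔾) ∈ gen S J} := by
  have ok := E.ok
  apply exists_bnpair (PJ S J) S.B (NJ S J) (gen S J) (B_le_PJ J) (NJ_le_PJ J)
  · unfold PJ NJ
    rw [← sup_assoc, sup_eq_left.2 (RG.H_le_B (S := S))]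
  · intro n hn t ht
    rw [B_inf_NJ E] at ht
    exact RG.H_le_B (RG.N_conj_H ok n (NJ_le_N J hn) t ht)
  · rintro _ ⟨j, hj, rfl⟩
    exact nn_mem_NJ hj
  · rintro _ ⟨i, _, rfl⟩
    exact RG.H_le_B (RG.nn_sq_mem ok i)
  · rintro _ ⟨i, _, rfl⟩ _ ⟨j, _, rfl⟩ h
    unfold RG.nn
    rw [RG.simple_eq_of_mem_B ok E.hBV E.hUN h]
  · rw [B_inf_NJ E, sup_comm]; rfl
  · rintro _ ⟨i, _, rfl⟩ n hn b hb
    exact RG.bn_axiom ok i (NJ_le_N J hn) hb
  · rintro _ ⟨i, _, rfl⟩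
    refine ⟨S.x (S.simple i) 1, RG.U_le_B (RG.x_mem_U (ok.pos_simple i) _), fun h => ?_⟩
    have e : S.nn i * S.x (S.simple i) 1 * S.nn i =
        (S.nn i * S.x (S.simple i) 1 * (S.nn i)⁻¹) * (S.nn i * S.nn i) := by group
    rw [e, ok.n_conj, ok.refl_simple] at h
    have h2 := (S.B.mul_mem_cancel_right (RG.H_le_B (RG.nn_sq_mem ok i))).1 h
    exact RG.x_neg_simple_not_mem_B ok E.hBV (RG.not_pos_neg_simple ok i)
      (mul_ne_zero (RG.η_ne_zero ok _ _) one_ne_zero) h2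

section Fix

variable {J : Set I} (P : Cfsg.BNPair (PJ S J)) (hPB : P.B = S.B.subgroupOf (PJ S J))
  (hPN : P.N = (NJ S J).subgroupOf (PJ S J)) (hPS : P.S = {n : PJ S J | (n : 𝔾) ∈ gen S J})

/-- the generator -/
def nuJ {j : I} (hj : j ∈ J) : PJ S J := ⟨S.nn j, NJ_le_PJ J (nn_mem_NJ hj)⟩

include hPS in
theorem nuJ_mem_S {j : I} (hj : j ∈ J) : nuJ hj ∈ P.S := by
  rw [hPS]; exact ⟨j, hj, rfl⟩

include E hPB hPN hPS in
/-- `l(s_j w) > l(w)` implies `w⁻¹ α_j > 0`. -/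
theorem pos_of_up {j : I} (hj : j ∈ J) {n : PJ S J} (hn : n ∈ P.N) {ρ : Equiv.Perm R} (hρ : S.Mon (n : 𝔾) ρ)
    (h : lenW P (mkW P (nuJ hj) (P.subset (nuJ_mem_S P hPS hj)) * mkW P n hn) = lenW P (mkW P n hn) + 1) :
    S.pos (ρ⁻¹ (S.simple j)) := by
  have ok := E.ok
  obtain ⟨hπn, c, hc0, hcn, hc⟩ := hρ.inv
  have hUB : S.U.subgroupOf (PJ S J) ≤ P.B := by
    rw [hPB]; intro x hx; exact RG.U_le_B hx
  have key := conj_up P (nuJ_mem_S P hPS hj) hn (X := (S.X (S.simple j)).subgroupOf (PJ S J))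
    (U := S.U.subgroupOf (PJ S J)) hUB ?_ ?_ h
  · have h1 := key ⟨S.x (S.simple j) 1, B_le_PJ J (RG.U_le_B (RG.x_mem_U (ok.pos_simple j) 1))⟩
      (RG.x_mem_X _ _)
    change (n : 𝔾)⁻¹ * S.x (S.simple j) 1 * (n : 𝔾) ∈ S.U at h1
    have h2 := hc (S.simple j) 1
    rw [inv_inv] at h2
    rw [h2] at h1
    by_contra hneg
    have h3 := E.hBV _ (RG.U_le_B h1) (RG.x_mem_V hneg _)
    have h4 := ok.x_inj _ _ h3
    rw [mul_one] at h4
    exact hc0 _ h4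
  · by_cases hpos : S.pos (ρ⁻¹ (S.simple j))
    · left
      intro x hx
      obtain ⟨t, e⟩ := (RG.mem_X_iff ok).1 hx
      change (x : 𝔾) = _ at e
      change (n : 𝔾)⁻¹ * (x : 𝔾) * (n : 𝔾) ∈ S.U
      have := hc (S.simple j) t
      rw [inv_inv] at this
      rw [e, this]
      exact RG.x_mem_U hpos _
    · right
      intro x hx
      obtain ⟨t, e⟩ := (RG.mem_X_iff ok).1 hx
      change (x : 𝔾) = _ at e
      change (n : 𝔾)⁻¹ * ((S.nn j)⁻¹ * (x : 𝔾) * S.nn j) * (n : 𝔾) ∈ S.U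
      rw [e, RG.n_conj' ok, ok.refl_simple]
      have := hc (S.neg (S.simple j)) (S.η j (S.neg (S.simple j)) * t)
      rw [inv_inv] at this
      rw [this, hπn]
      exact RG.x_mem_U ((ok.pos_neg _).2 hpos) _
  · refine ⟨⟨S.x (S.simple j) (Extra.par S j 1), B_le_PJ J (RG.U_le_B (RG.x_mem_U (ok.pos_simple j) _))⟩,
      RG.x_mem_X _ _,
      ⟨S.x (S.simple j) (-((1 : Fˣ) : F)) * S.hE (S.simple j) ((1 : Fˣ) : F), B_le_PJ J
        (S.B.mul_mem (RG.U_le_B (RG.x_mem_U (ok.pos_simple j) _)) (RG.H_le_B (RG.hE_mem_H _ (Units.ne_zero 1))))⟩,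
      ?_, ⟨S.x (S.simple j) (-((1 : Fˣ) : F)), B_le_PJ J (RG.U_le_B (RG.x_mem_U (ok.pos_simple j) _))⟩, ?_,
      Subtype.ext ?_⟩
    · rw [hPB]
      exact (S.B.mul_mem (RG.U_le_B (RG.x_mem_U (ok.pos_simple j) _)) (RG.H_le_B (RG.hE_mem_H _ (Units.ne_zero 1))))
    · rw [hPB]
      exact RG.U_le_B (RG.x_mem_U (ok.pos_simple j) _)
    · exact E.conj_par j 1

theorem sgJ_mem {j : I} (hj : j ∈ J) : mkW P (nuJ hj) (P.subset (nuJ_mem_S P hPS hj)) ∈ SW P :=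
  ⟨nuJ hj, nuJ_mem_S P hPS hj, rfl⟩

include E hPB hPN hPS in
/-- `l(s_j w) < l(w)` implies `w⁻¹ α_j < 0`. -/
theorem neg_of_down {j : I} (hj : j ∈ J) {n : PJ S J} (hn : n ∈ P.N) {ρ : Equiv.Perm R} (hρ : S.Mon (n : 𝔾) ρ)
    (h : lenW P (mkW P (nuJ hj) (P.subset (nuJ_mem_S P hPS hj)) * mkW P n hn) + 1 = lenW P (mkW P n hn)) :
    ¬ S.pos (ρ⁻¹ (S.simple j)) := by
  have ok := E.ok
  have hs := P.subset (nuJ_mem_S P hPS hj)
  have hn' : nuJ hj * n ∈ P.N := P.N.mul_mem hs hn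
  have hM : S.Mon ((nuJ hj * n : PJ S J) : 𝔾) (RG.reflPerm ok j * ρ) := (RG.Mon_nn ok j).mul hρ
  have e1 : mkW P (nuJ hj * n) hn' = mkW P (nuJ hj) hs * mkW P n hn := (mkW_mul P hs hn).symm
  have e2 : mkW P (nuJ hj) hs * mkW P (nuJ hj * n) hn' = mkW P n hn := by
    rw [e1]
    exact (lenSys P).mul_mul_cancel (sgJ_mem P hPS hj) _
  have h1 := pos_of_up E P hPB hPN hPS hj hn' hM (by rw [e2, e1]; omega)
  have e3 : (RG.reflPerm ok j * ρ)⁻¹ (S.simple j) = S.neg (ρ⁻¹ (S.simple j)) := by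
    rw [mul_inv_rev, RG.reflPerm_inv, Equiv.Perm.mul_apply, RG.reflPerm_apply, ok.refl_simple, hρ.inv.1]
  rw [e3, ok.pos_neg] at h1
  exact h1

/-- data on the root subsystem attached to `J`. -/
structure Par (S : RG 𝔾 F R I) (J : Set I) (Φ : R → Prop) : Prop where
  horb : ∀ r, S.pos r → Φ r → ∃ m ∈ NJ S J, ∃ ρ, S.Mon m ρ ∧ ∃ j ∈ J, ρ (S.simple j) = r
  hnorm : PJ S J ≤ Subgroup.normalizer (S.XS (fun r => S.pos r ∧ ¬ Φ r) : Set 𝔾)

variable {Φ : R → Prop} (hΦ : Par S J Φ)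

include E hPB hPN hPS hΦ in
/-- the longest element of `W_J` makes all positive roots of `Φ_J` negative. -/
theorem top_neg {n0 : PJ S J} (hn0 : n0 ∈ P.N) (htop : (lenSys P).IsTopL (mkW P n0 hn0))
    {π : Equiv.Perm R} (hπ : S.Mon (n0 : 𝔾) π) {r : R} (hr : S.pos r) (hrΦ : Φ r) : ¬ S.pos (π⁻¹ r) := by
  have ok := E.ok
  obtain ⟨m, hm, ρ, hρ, j, hj, rfl⟩ := hΦ.horb r hr hrΦ
  set m' : PJ S J := ⟨m, NJ_le_PJ J hm⟩ with hm'
  have hmN : m' ∈ P.N := by rw [hPN]; exact hm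
  have hs := P.subset (nuJ_mem_S P hPS hj)
  set σ := mkW P (nuJ hj) hs with hσ
  have hσS : σ ∈ SW P := sgJ_mem P hPS hj
  set wm := mkW P m' hmN with hwm
  set w0 := mkW P n0 hn0 with hw0
  -- `l(σ wm⁻¹) = l(wm⁻¹) + 1`
  have hmi : m'⁻¹ ∈ P.N := P.N.inv_mem hmN
  have h1 : lenW P (σ * wm⁻¹) = lenW P wm⁻¹ + 1 := by
    rcases (lenSys P).step σ hσS wm⁻¹ with h | h
    · exact h
    · exfalso
      have hM : S.Mon ((m'⁻¹ : PJ S J) : 𝔾) ρ⁻¹ := hρ.inv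
      have := neg_of_down E P hPB hPN hPS hj hmi hM (by
        have e : mkW P m'⁻¹ hmi = wm⁻¹ := (mkW_inv P hmN).symm
        rw [e]; exact h)
      rw [inv_inv] at this
      exact this hr
  have hy : m'⁻¹ * n0 ∈ P.N := P.N.mul_mem hmi hn0
  have ey : mkW P (m'⁻¹ * n0) hy = wm⁻¹ * w0 := by
    rw [hwm, mkW_inv, mkW_mul]
  have hMy : S.Mon ((m'⁻¹ * n0 : PJ S J) : 𝔾) (ρ⁻¹ * π) := hρ.inv.mul hπ
  have t1 := (lenSys P).top_add htop _ wm rfl
  have t2 := (lenSys P).top_add htop _ (wm * σ) rfl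
  simp only [lenSys_l] at t1 t2
  have e4 : (wm * σ)⁻¹ = σ * wm⁻¹ := by rw [mul_inv_rev, (lenSys P).inv_eq hσS]
  have t3 : lenW P (wm * σ) = lenW P (σ * wm⁻¹) := by
    have := (lenSys P).l_inv (wm * σ)
    simp only [lenSys_l] at this
    rw [← this, e4]
  have t4 : lenW P wm⁻¹ = lenW P wm := (lenSys P).l_inv wm
  rw [e4, mul_assoc] at t2
  have := neg_of_down E P hPB hPN hPS hj hy hMy (by
    rw [ey]
    change lenW P (σ * (wm⁻¹ * w0)) + 1 = _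
    omega)
  have e5 : (ρ⁻¹ * π)⁻¹ (S.simple j) = π⁻¹ (ρ (S.simple j)) := by
    rw [mul_inv_rev, inv_inv, Equiv.Perm.mul_apply]
  rwa [e5] at this

include E hPB hPN hPS hΦ in
theorem hQ_of_top {n0 : PJ S J} (hn0 : n0 ∈ P.N) (htop : (lenSys P).IsTopL (mkW P n0 hn0)) :
    ∀ u ∈ S.U.subgroupOf (PJ S J), n0⁻¹ * u * n0 ∈ P.B →
      u ∈ (S.XS (fun r => S.pos r ∧ ¬ Φ r)).subgroupOf (PJ S J) := by
  have ok := E.ok
  intro u hu h
  rw [hPB] at h
  change (n0 : 𝔾)⁻¹ * (u : 𝔾) * (n0 : 𝔾) ∈ S.B at h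
  change (u : 𝔾) ∈ S.U at hu
  change (u : 𝔾) ∈ S.XS (fun r => S.pos r ∧ ¬ Φ r)
  have hn0N : (n0 : 𝔾) ∈ S.N := by
    rw [hPN] at hn0
    exact NJ_le_N J hn0
  obtain ⟨π, hπ⟩ := RG.Mon_N ok _ hn0N
  set O := S.XS (fun r => S.pos r ∧ ¬ Φ r) with hO
  set L := S.XS (fun r => S.pos r ∧ Φ r) with hL
  have hOU : O ≤ S.U := RG.XS_mono (fun r hr => hr.1)
  have hLU : L ≤ S.U := RG.XS_mono (fun r hr => hr.1)
  have hLn : L ≤ Subgroup.normalizer (O : Set 𝔾) :=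
    (hLU.trans (RG.U_le_B.trans (B_le_PJ J))).trans hΦ.hnorm
  have hU : S.U ≤ O ⊔ L := by
    unfold RG.U RG.XS
    rw [Subgroup.closure_le]
    rintro _ ⟨r, t, hr, rfl⟩
    by_cases h : Φ r
    · exact Subgroup.mem_sup_right (RG.x_mem_XS (Ψ := fun r => S.pos r ∧ Φ r) ⟨hr, h⟩ t)
    · exact Subgroup.mem_sup_left (RG.x_mem_XS (Ψ := fun r => S.pos r ∧ ¬ Φ r) ⟨hr, h⟩ t)
  obtain ⟨v, hv, l, hl, e⟩ := (mem_sup_of_normalizes hLn).1 (hU hu)
  have e1 : (n0 : 𝔾)⁻¹ * (u : 𝔾) * (n0 : 𝔾) =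
      ((n0 : 𝔾)⁻¹ * v * (n0 : 𝔾)) * ((n0 : 𝔾)⁻¹ * l * (n0 : 𝔾)) := by rw [e]; group
  have h1 : (n0 : 𝔾)⁻¹ * v * (n0 : 𝔾) ∈ O := conj_mem_of_mem_normalizer' (hΦ.hnorm n0.2) hv
  rw [e1] at h
  have h2 := (S.B.mul_mem_cancel_left (RG.U_le_B (hOU h1))).1 h
  have h3 : (n0 : 𝔾)⁻¹ * l * (n0 : 𝔾) ∈ S.V := by
    have := hπ.inv.conj_XS (Ψ := fun r => S.pos r ∧ Φ r) (Ψ' := fun r => ¬ S.pos r)
      (fun r hr => top_neg E P hPB hPN hPS hΦ hn0 htop hπ hr.1 hr.2) l hl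
    rwa [inv_inv] at this
  have h4 := E.hBV _ h2 h3
  have h5 : l = 1 := by
    have : l = (n0 : 𝔾) * ((n0 : 𝔾)⁻¹ * l * (n0 : 𝔾)) * (n0 : 𝔾)⁻¹ := by group
    rw [this, h4]; group
  rw [e, h5, mul_one]
  exact hv

include hPB in
theorem parabolic_bnJ {K : Set I} (hK : K ⊆ J) (T : Set (PJ S J)) (hT : Subtype.val '' T = gen S K) :
    P.parabolic T = (PJ S K).subgroupOf (PJ S J) := by
  apply Subgroup.map_injective (PJ S J).subtype_injective
  unfold BNPair.parabolic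
  rw [Subgroup.map_sup, hPB, Subgroup.map_subgroupOf_eq_of_le (B_le_PJ J), MonoidHom.map_closure,
    Subgroup.map_subgroupOf_eq_of_le (PJ_mono hK)]
  have : (⇑(PJ S J).subtype '' T) = gen S K := hT
  rw [this]
  rfl

end Fix

section Count

variable [Finite 𝔾] (p : ℕ) [Fact p.Prime] (hUp : IsPGroup p S.U) (hidx : ¬ p ∣ S.U.relIndex S.G)

/-- number of `p`-elements in a subgroup -/
noncomputable def up (p : ℕ) (L : Subgroup 𝔾) : ℕ := Nat.card {g : 𝔾 // g ∈ L ∧ isP p g}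

theorem isP_coe {L : Subgroup 𝔾} (g : L) : isP p (g : 𝔾) ↔ isP p g := by
  unfold isP
  rw [Subgroup.orderOf_coe]

include hUp hidx in
theorem conj_into_U {L : Subgroup 𝔾} (hUL : S.U ≤ L) (hLG : L ≤ S.G) (g : L) (hg : isP p g) :
    ∃ x : L, x * g * x⁻¹ ∈ S.U.subgroupOf L := by
  have h1 : ¬ p ∣ (S.U.subgroupOf L).index := by
    change ¬ p ∣ S.U.relIndex L
    intro h
    apply hidx
    rw [← Subgroup.relIndex_mul_relIndex _ _ _ hUL hLG]
    exact Dvd.dvd.mul_right h _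
  have h2 : IsPGroup p (S.U.subgroupOf L) := hUp.of_equiv (Subgroup.subgroupOfEquivOfLe hUL).symm
  obtain ⟨k, hk⟩ := hg
  have h3 : IsPGroup p (Subgroup.zpowers g) := IsPGroup.of_card (n := k) (by rw [Nat.card_zpowers, hk])
  obtain ⟨Q, hQ⟩ := h3.exists_le_sylow
  obtain ⟨x, hx⟩ := MulAction.exists_smul_eq L Q (h2.toSylow h1)
  refine ⟨x, ?_⟩
  have h4 : x * g * x⁻¹ ∈ ((x • Q : Sylow p L) : Subgroup L) := by
    rw [Sylow.coe_subgroup_smul, Subgroup.mem_smul_pointwise_iff_exists]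
    exact ⟨g, hQ (Subgroup.mem_zpowers g), by simp [MulAut.smul_def]⟩
  rw [hx] at h4
  exact h4

theorem card_quot_C {H L : Subgroup 𝔾} (h : H ≤ L) :
    (Nat.card (L ⧸ H.subgroupOf L) : ℂ) = (Nat.card L : ℂ) / (Nat.card H : ℂ) := by
  have h1 := Subgroup.card_eq_card_quotient_mul_card_subgroup (H.subgroupOf L)
  rw [Nat.card_congr (Subgroup.subgroupOfEquivOfLe h).toEquiv] at h1
  have h2 : (Nat.card H : ℂ) ≠ 0 := by exact_mod_cast Nat.card_pos.ne'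
  rw [h1]
  push_cast
  field_simp

theorem card_up {H L : Subgroup 𝔾} (h : H ≤ L) :
    Nat.card {g : L // g ∈ H.subgroupOf L ∧ isP p g} = up p H := by
  unfold up
  apply Nat.card_congr
  refine ⟨fun g => ⟨g.1.1, g.2.1, (isP_coe p g.1).2 g.2.2⟩,
    fun g => ⟨⟨g.1, h g.2.1⟩, g.2.1, (isP_coe p (⟨g.1, h g.2.1⟩ : L)).1 g.2.2⟩, ?_, ?_⟩
  · intro g; rfl
  · intro g; rfl

include E hUp hidx in
open Classical in
theorem main_J (J : Finset I) {Φ : R → Prop} (hΦ : Par S (J : Set I) Φ) :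
    (∑ K ∈ J.powerset, (-1 : ℂ) ^ K.card * ((Nat.card (PJ S (J : Set I)) : ℂ) / (Nat.card (PJ S (K : Set I)) : ℂ) *
        (up p (PJ S (K : Set I)) : ℂ)) = (Nat.card S.U : ℂ)) ∧
    ((∑ K ∈ J.powerset, (-1 : ℂ) ^ K.card * ((Nat.card (PJ S (J : Set I)) : ℂ) / (Nat.card (PJ S (K : Set I)) : ℂ))) *
        (Nat.card (S.XS (fun r => S.pos r ∧ ¬ Φ r)) : ℂ) = (Nat.card S.U : ℂ)) := by
  have ok := E.ok
  obtain ⟨P, hPB, hPN, hPS⟩ := exists_bnJ E (J : Set I)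
  have : Fintype (PJ S (J : Set I)) := Fintype.ofFinite _
  set ν : I → PJ S (J : Set I) := fun j => if h : j ∈ (J : Set I) then nuJ h else 1 with hν
  have hν' : ∀ j (h : j ∈ (J : Set I)), ν j = nuJ h := fun j h => by rw [hν]; simp only [dif_pos h]
  obtain ⟨Sf, hSf, hSt⟩ := St_reindex' P J ν
    (fun i hi => by rw [hν' i hi]; exact nuJ_mem_S P hPS _)
    (by
      intro s hs
      rw [hPS] at hs
      obtain ⟨j, hj, e⟩ := hs
      exact ⟨j, hj, by rw [hν' j hj]; exact Subtype.ext e⟩)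
    (by
      intro i hi j hj h
      rw [hν' i hi, hν' j hj] at h
      have h1 : S.nn i = S.nn j := congrArg Subtype.val h
      have h2 : (S.nn i)⁻¹ * S.nn j ∈ S.B := by rw [h1, inv_mul_cancel]; exact S.B.one_mem
      exact E.hinj (RG.simple_eq_of_mem_B ok E.hBV E.hUN h2))
  obtain ⟨w0, hL, hR, _, _⟩ := (lenSys P).exists_top
  have hn0 := rep_mem P w0
  have htopL : (lenSys P).IsTopL (mkW P (rep P w0) hn0) := by rw [mkW_rep]; exact hL
  have htopR : (lenSys P).IsTopR (mkW P (rep P w0) hn0) := by rw [mkW_rep]; exact hR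
  have hQ := hQ_of_top E P hPB hPN hPS hΦ hn0 htopL
  set O := S.XS (fun r => S.pos r ∧ ¬ Φ r) with hO
  have hOU : O ≤ S.U := RG.XS_mono (fun r hr => hr.1)
  have hUL : S.U ≤ PJ S (J : Set I) := RG.U_le_B.trans (B_le_PJ _)
  have hUB : S.U.subgroupOf (PJ S (J : Set I)) ≤ P.B := by
    rw [hPB]; intro x hx; exact RG.U_le_B hx
  have hBn : S.B ≤ Subgroup.normalizer (S.U : Set 𝔾) :=
    sup_le Subgroup.le_normalizer (RG.H_le_normalizer_XS ok _)
  have hUn : ∀ b ∈ P.B, ∀ u ∈ S.U.subgroupOf (PJ S (J : Set I)), b⁻¹ * u * b ∈ S.U.subgroupOf (PJ S (J : Set I)) := by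
    intro b hb u hu
    rw [hPB] at hb
    exact conj_mem_of_mem_normalizer' (A := S.U) (hBn hb) hu
  have hO' : O.subgroupOf (PJ S (J : Set I)) ≤ S.U.subgroupOf (PJ S (J : Set I)) := fun x hx => hOU hx
  have hOn : ∀ g : PJ S (J : Set I), ∀ o ∈ O.subgroupOf (PJ S (J : Set I)),
      g⁻¹ * o * g ∈ O.subgroupOf (PJ S (J : Set I)) := by
    intro g o ho
    exact conj_mem_of_mem_normalizer' (A := O) (hΦ.hnorm g.2) ho
  have hBUT : ∀ b ∈ P.B, ∃ u ∈ S.U.subgroupOf (PJ S (J : Set I)), ∃ t ∈ P.B ⊓ P.N, b = u * t := by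
    intro b hb
    rw [hPB] at hb
    obtain ⟨u, hu, t, ht, e⟩ := (RG.mem_B_iff ok).1 hb
    refine ⟨⟨u, hUL hu⟩, hu, ⟨t, B_le_PJ _ (RG.H_le_B ht)⟩, ?_, Subtype.ext e⟩
    rw [hPB, hPN]
    exact ⟨RG.H_le_B ht, H_le_NJ _ ht⟩
  have hUp' : ∀ u ∈ S.U.subgroupOf (PJ S (J : Set I)), isP p u := by
    intro u hu
    obtain ⟨k, hk⟩ := (IsPGroup.iff_orderOf.1 hUp) ⟨u, hu⟩
    rw [← Subgroup.orderOf_coe] at hk
    exact (isP_coe p u).1 ⟨k, hk⟩
  have hpar : ∀ K ∈ J.powerset, P.parabolic {s | ∃ j ∈ K, s = ν j} =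
      (PJ S (K : Set I)).subgroupOf (PJ S (J : Set I)) := by
    intro K hK
    rw [Finset.mem_powerset] at hK
    apply parabolic_bnJ P hPB (by exact_mod_cast hK)
    ext g
    constructor
    · rintro ⟨s, ⟨j, hj, rfl⟩, rfl⟩
      exact ⟨j, hj, by rw [hν' j (hK hj)]; rfl⟩
    · rintro ⟨j, hj, rfl⟩
      exact ⟨ν j, ⟨j, hj, rfl⟩, by rw [hν' j (hK hj)]; rfl⟩
  have cU : Nat.card (S.U.subgroupOf (PJ S (J : Set I))) = Nat.card S.U :=
    Nat.card_congr (Subgroup.subgroupOfEquivOfLe hUL).toEquiv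
  have cO : Nat.card (O.subgroupOf (PJ S (J : Set I))) = Nat.card O :=
    Nat.card_congr (Subgroup.subgroupOfEquivOfLe (hOU.trans hUL)).toEquiv
  constructor
  · have A := sum_St_p P hUB hUn hO' hOn hn0 htopR hQ p Sf hSf hBUT
      (fun g hg => conj_into_U p hUp hidx hUL (PJ_le_G E _) g hg) hUp'
    rw [cU] at A
    rw [← A]
    simp only [hSt]
    rw [Finset.sum_comm]
    apply Finset.sum_congr rfl
    intro K hK
    rw [← Finset.mul_sum, hpar K hK, sum_fpc _ _ (isP_conj p)]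
    rw [Finset.mem_powerset] at hK
    have hKJ : PJ S (K : Set I) ≤ PJ S (J : Set I) := PJ_mono (by exact_mod_cast hK)
    rw [card_quot_C hKJ, card_up p hKJ]
  · have A := St_one_mul P hUB hUn hO' hOn hn0 htopR hQ Sf hSf hBUT
    rw [cU, cO] at A
    rw [← A, hSt]
    congr 1
    apply Finset.sum_congr rfl
    intro K hK
    rw [hpar K hK]
    rw [Finset.mem_powerset] at hK
    have hKJ : PJ S (K : Set I) ≤ PJ S (J : Set I) := PJ_mono (by exact_mod_cast hK)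
    congr 1
    unfold fixedPointCharacter
    rw [MulAction.fixedBy_one_eq_univ, ← card_quot_C hKJ]
    congr 1
    exact (Nat.card_congr (Equiv.Set.univ _)).symm

include E in
theorem PJ_univ : PJ S (Set.univ : Set I) = S.G := by
  rw [← RG.B_sup_N E.ok, RG.N_eq E.ok, ← sup_assoc, sup_eq_left.2 (RG.H_le_B (S := S))]
  unfold PJ RG.K gen
  congr 2
  ext g
  simp

include E hUp hidx in
open Classical in
/-- **Steinberg's count of the `p`-elements.** -/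
theorem count [Fintype I] (Φ : Finset I → R → Prop) (hΦ : ∀ J : Finset I, Par S (J : Set I) (Φ J))
    (htop : ∀ r, Φ Finset.univ r) : up p S.G = Nat.card S.U ^ 2 := by
  set c : Finset I → ℂ := fun J => (Nat.card (PJ S (J : Set I)) : ℂ) with hc
  have hc0 : ∀ J, c J ≠ 0 := fun J => by
    change (Nat.card (PJ S (J : Set I)) : ℂ) ≠ 0
    exact_mod_cast (Nat.card_pos (α := PJ S (J : Set I))).ne'
  set f : Finset I → ℂ := fun K => (up p (PJ S (K : Set I)) : ℂ) / c K with hf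
  set g : Finset I → ℂ := fun J => (Nat.card S.U : ℂ) / c J with hg
  have h1 : ∀ J ⊆ (Finset.univ : Finset I), g J = ∑ K ∈ J.powerset, (-1 : ℂ) ^ K.card * f K := by
    intro J _
    have := (main_J E p hUp hidx J (hΦ J)).1
    rw [hg]
    simp only
    rw [← this, Finset.sum_div]
    apply Finset.sum_congr rfl
    intro K _
    rw [hf]
    simp only
    have := hc0 J
    have := hc0 K
    change _ * (c J / c K * _) / c J = _
    field_simp
  have h2 := moebius Finset.univ f g h1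
  have h3 := (main_J E p hUp hidx Finset.univ (hΦ Finset.univ)).2
  have hO : S.XS (fun r => S.pos r ∧ ¬ Φ Finset.univ r) = ⊥ := by
    unfold RG.XS
    rw [Subgroup.closure_eq_bot_iff]
    rintro _ ⟨r, t, ⟨_, h⟩, rfl⟩
    exact absurd (htop r) h
  rw [hO, Subgroup.card_bot, Nat.cast_one, mul_one] at h3
  have e1 : PJ S ((Finset.univ : Finset I) : Set I) = S.G := by
    rw [Finset.coe_univ]; exact PJ_univ E
  have h4 : (up p S.G : ℂ) = (Nat.card S.U : ℂ) ^ 2 := by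
    have h5 : f Finset.univ * c Finset.univ = (up p S.G : ℂ) := by
      rw [hf]
      simp only
      rw [div_mul_cancel₀ _ (hc0 Finset.univ), e1]
    have h6 : (∑ J ∈ (Finset.univ : Finset I).powerset, (-1 : ℂ) ^ J.card * g J) * c Finset.univ =
        (Nat.card S.U : ℂ) * ∑ K ∈ (Finset.univ : Finset I).powerset, (-1 : ℂ) ^ K.card *
          ((Nat.card (PJ S ((Finset.univ : Finset I) : Set I)) : ℂ) / (Nat.card (PJ S (K : Set I)) : ℂ)) := by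
      rw [Finset.sum_mul, Finset.mul_sum]
      apply Finset.sum_congr rfl
      intro J _
      rw [hg]
      simp only
      change _ = _ * (_ * (c Finset.univ / c J))
      have := hc0 J
      field_simp
    rw [← h5, h2, h6, h3, sq]
  exact_mod_cast h4

end Count

end Cfsg.Agent.Lib.Helper46DU2
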