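import Mathlib
import Cfsg.Agent.Lib.Helper46DU2
import Cfsg.Agent.Lib.Helper46DZ7
import Cfsg.Agent.Lib.Helper22ChevPar

set_option autoImplicit false
set_option linter.unusedSectionVars false
set_option linter.unusedSimpArgs false
set_option linter.unusedVariables false

/-! Steinberg's count of unipotent elements for the Chevalley groups. -/

namespace Cfsg.Agent.Lib.Helper46DU3

open Cfsg Cfsg.Lie Cfsg.Lie.ChevalleyDatum
open Cfsg.Agent.Lib.Helper23RG Cfsg.Agent.Lib.Helper23Table Cfsg.Agent.Lib.Helper23Chev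
open Cfsg.Agent.Lib.Helper46ChevSt Cfsg.Agent.Lib.Helper46ChevFacts Cfsg.Agent.Lib.Helper46DZ6
open Cfsg.Agent.Lib.Helper46DZ7 Cfsg.Agent.Lib.Helper46DU1 Cfsg.Agent.Lib.Helper46DU2
open Cfsg.Agent.Lib.Helper22ChevRC Cfsg.Agent.Lib.Helper22ChevPar
open scoped MatrixGroups

variable {F : Type*} [Field F] {D : ChevalleyDatum}

theorem orbit (hT : TableOK D) (hR : Rel D F) {a : ℕ → ℕ → ℤ} (ha : RCFacts D a) (J : Set (Fin D.rank)) :
    ∀ (k : ℕ) (r : Fin D.nroots), (htA D a r.val).toNat = k → (rg hT hR).pos r →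
    D.InRootSub (Fin.val '' J) r.val →
    ∃ m ∈ NJ (rg hT hR) J, ∃ ρ, (rg hT hR).Mon m ρ ∧ ∃ j ∈ J, ρ ((rg hT hR).simple j) = r := by
  have ok := rg_ok hT hR
  intro k
  induction k using Nat.strong_induction_on with
  | _ k ih =>
    intro r hk hp hJ
    by_cases hs : ∃ i, r = (rg hT hR).simple i
    · obtain ⟨i, rfl⟩ := hs
      obtain ⟨i', hi', e⟩ := (inRootSub_simple hT hR ha _ i).mp hJ
      have : i' = i := Fin.ext e
      subst this
      exact ⟨1, Subgroup.one_mem _, 1, RG.Mon.one, i', hi', rfl⟩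
    · rcases ha.desc r r.2 hp with ⟨i, hi, e⟩ | ⟨i, hi, h1, h2⟩
      · exact absurd ⟨⟨i, hi⟩, Fin.ext e⟩ hs
      · have hiJ : i ∈ Fin.val '' J := by
          by_contra hn
          exact h1 ((inRootSub_iff ha _ r).mp hJ i hi hn)
        obtain ⟨i', hi', e⟩ := hiJ
        have ei : i' = ⟨i, hi⟩ := Fin.ext e
        set r'' := (rg hT hR).refl ⟨i, hi⟩ r with hr''
        have hp'' : (rg hT hR).pos r'' := ok.refl_pos _ r hp (fun e => hs ⟨_, e⟩)
        have hJ'' : D.InRootSub (Fin.val '' J) r''.val :=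
          (inRootSub_refl hT hR ha (Fin.val '' J) ⟨i, hi⟩ ⟨i', hi', e⟩ r).mpr hJ
        have hlt : htA D a r''.val < htA D a r.val := by
          unfold htA
          apply Finset.sum_lt_sum
          · intro k hk
            by_cases hki : k = i
            · subst hki; exact le_of_lt h2
            · exact le_of_eq (ha.refl i hi r r.2 k (Finset.mem_range.mp hk) hki)
          · exact ⟨i, Finset.mem_range.mpr hi, h2⟩
        have hnn : 0 ≤ htA D a r''.val :=
          Finset.sum_nonneg (fun k hk => ha.nonneg r'' r''.2 hp'' k (Finset.mem_range.mp hk))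
        obtain ⟨m, hm, ρ, hρ, j, hj, e2⟩ := ih _ (by omega) r'' rfl hp'' hJ''
        refine ⟨(rg hT hR).nn ⟨i, hi⟩ * m, Subgroup.mul_mem _ (nn_mem_NJ (ei ▸ hi')) hm,
          RG.reflPerm ok ⟨i, hi⟩ * ρ, (RG.Mon_nn ok _).mul hρ, j, hj, ?_⟩
        rw [Equiv.Perm.mul_apply, e2, RG.reflPerm_apply, hr'', ok.refl_refl]

theorem PJ_eq' (hT : TableOK D) (hR : Rel D F) (J : Set (Fin D.rank)) :
    Helper46DU2.PJ (rg hT hR) J = Helper22ChevPar.PJ hT hR (Fin.val '' J) := by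
  unfold Helper46DU2.PJ Helper22ChevPar.PJ gen
  congr 2
  ext g
  constructor
  · rintro ⟨j, hj, rfl⟩
    exact ⟨j, ⟨j, hj, rfl⟩, rfl⟩
  · rintro ⟨j, ⟨j', hj', e⟩, rfl⟩
    have : j' = j := Fin.ext e
    exact ⟨j, this ▸ hj', rfl⟩

theorem par (hD : D ∈ [chevG2, chevB2, chevD4, chevF4, chevE6, chevE7, chevE8]) (hT : TableOK D) (hR : Rel D F)
    (J : Set (Fin D.rank)) :
    Par (rg hT hR) J (fun r => D.InRootSub (Fin.val '' J) r.val) := by
  obtain ⟨a, ha⟩ := exists_rc hD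
  refine ⟨fun r hr hΦ => orbit hT hR ha J _ r rfl hr hΦ, ?_⟩
  rw [PJ_eq']
  exact PJ_le_normalizer hT hR ha hD _

theorem card_p_elements [Fintype F] (p : ℕ) [Fact p.Prime] [CharP F p]
    (hD : D ∈ [chevG2, chevB2, chevD4, chevF4, chevE6, chevE7, chevE8]) :
    Nat.card {g : ↥(D.group F) // ∃ k : ℕ, orderOf g = p ^ k} = Nat.card (D.posUnipotent F) ^ 2 := by
  classical
  have hT := Cfsg.Agent.Lib.Helper23All.tab hD
  have hR := Cfsg.Agent.Lib.Helper23All.rel (F := F) hD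
  have E := extra hD hT hR
  have hF := facts (F := F) hD
  obtain ⟨k, hk⟩ := exists_card_U (F := F) p hD
  have hH := not_dvd_card_H (F := F) p hD
  have hU : IsPGroup p (D.posUnipotent F) := IsPGroup.of_card hk
  have hidx := not_dvd_index hF p hU hH
  have h := count E p (by rw [Helper23Chev.U_eq]; exact hU)
    (by rw [Helper23Chev.U_eq, Helper23Chev.G_eq]; exact hidx)
    (fun J r => D.InRootSub (Fin.val '' (J : Set (Fin D.rank))) r.val) (fun J => par hD hT hR _)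
    (fun r => ⟨r.2, fun i hi hn => absurd ⟨⟨i, hi⟩, by simp, rfl⟩ hn⟩)
  rw [Helper23Chev.U_eq, Helper23Chev.G_eq] at h
  rw [← h]
  unfold up
  apply Nat.card_congr
  refine ⟨fun g => ⟨g.1.1, g.1.2, (isP_coe p g.1).2 g.2⟩,
    fun g => ⟨⟨g.1, g.2.1⟩, (isP_coe p (⟨g.1, g.2.1⟩ : ↥(D.group F))).1 g.2.2⟩, ?_, ?_⟩
  · intro g; rfl
  · intro g; rfl

end Cfsg.Agent.Lib.Helper46DU3
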