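import Cfsg.Agent.Lib.H46BTDefs
import Cfsg.Agent.Lib.Helper46DU3

set_option autoImplicit false
set_option linter.unusedSectionVars false
set_option linter.unusedVariables false

namespace Cfsg.Agent.Lib.H46BTSyl

open Subgroup Cfsg.Lie Cfsg.Lie.ChevalleyDatum
open Cfsg.Agent.Lib.Helper23Grp Cfsg.Agent.Lib.Helper23RG Cfsg.Agent.Lib.Helper23RG.RG
  Cfsg.Agent.Lib.Helper23Table Cfsg.Agent.Lib.Helper23Weyl Cfsg.Agent.Lib.Helper23Chev Cfsg.Agent.Lib.Helper23Shape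
  Cfsg.Agent.Lib.Helper22ChevRC Cfsg.Agent.Lib.Helper22ChevBasic Cfsg.Agent.Lib.Helper22ChevPar
  Cfsg.Agent.Lib.H46BTDefs

variable {D : ChevalleyDatum} {F : Type*} [Field F] [Fintype F]

/-- Sylow: see the first lines of the proof of `Helper46DU3.card_p_elements` (`exists_card_U`, `not_dvd_card_H`, `not_dvd_index`: `U` is a `p`-group of index prime to `p` in `G`)
and the proof of `Helper46DU2.conj_into_U` (work in `↥(D.group F)`: `V.subgroupOf G` is a `p`-group, `IsPGroup.exists_le_sylow`, `MulAction.exists_smul_eq`,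
`Sylow.coe_subgroup_smul`, `Subgroup.mem_smul_pointwise_iff_exists`). -/
theorem conj_into_U (p : ℕ) [Fact p.Prime] [CharP F p] (hD : Std D) (V : Subgroup (GL D.Idx F)) (hVG : V ≤ D.group F)
    (hV : IsPGroup p V) : ∃ g ∈ D.group F, ∀ v ∈ V, g⁻¹ * v * g ∈ D.posUnipotent F := by
  classical
  have hF := Cfsg.Agent.Lib.Helper46ChevFacts.facts (F := F) hD
  obtain ⟨k, hk⟩ := Cfsg.Agent.Lib.Helper46ChevFacts.exists_card_U (F := F) p hD
  have hH := Cfsg.Agent.Lib.Helper46ChevFacts.not_dvd_card_H (F := F) p hD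
  have hU : IsPGroup p (D.posUnipotent F) := IsPGroup.of_card hk
  have hidx := Cfsg.Agent.Lib.Helper46ChevSt.not_dvd_index hF p hU hH
  have h2 : IsPGroup p ((D.posUnipotent F).subgroupOf (D.group F)) := hU.comap_subtype
  have h3 : IsPGroup p (V.subgroupOf (D.group F)) := hV.comap_subtype
  obtain ⟨Q, hQ⟩ := h3.exists_le_sylow
  obtain ⟨x, hx⟩ := MulAction.exists_smul_eq ↥(D.group F) Q (h2.toSylow hidx)
  refine ⟨(x : GL D.Idx F)⁻¹, inv_mem x.2, fun v hv => ?_⟩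
  have h4 : x * ⟨v, hVG hv⟩ * x⁻¹ ∈ ((x • Q : Sylow p ↥(D.group F)) : Subgroup ↥(D.group F)) := by
    rw [Sylow.coe_subgroup_smul, Subgroup.mem_smul_pointwise_iff_exists]
    exact ⟨⟨v, hVG hv⟩, hQ (Subgroup.mem_subgroupOf.2 hv), by simp [MulAut.smul_def]⟩
  rw [hx] at h4
  have h5 : ((x * ⟨v, hVG hv⟩ * x⁻¹ : ↥(D.group F)) : GL D.Idx F) ∈ D.posUnipotent F := h4
  simpa using h5

end Cfsg.Agent.Lib.H46BTSyl
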