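import Cfsg.Agent.Lib.H46BTDefs
import Cfsg.Agent.Lib.H46BTOpt
import Cfsg.Agent.Lib.H46BTQ
import Cfsg.Agent.Lib.H46BTPhi
import Cfsg.Agent.Lib.H46BTTab
import Cfsg.Agent.Lib.H46BTB
import Cfsg.Agent.Lib.H46BTN
import Cfsg.Agent.Lib.H46BTDom
import Cfsg.Agent.Lib.H46BTP
import Cfsg.Agent.Lib.H46BTU
import Cfsg.Agent.Lib.H46BTSyl
import Cfsg.Agent.Lib.H46BTT

set_option autoImplicit false
set_option linter.unusedSectionVars false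
set_option linter.unusedVariables false

/-! The Borel–Tits theorem for the tabulated Chevalley groups (assembly of project BT). -/

namespace Cfsg.Agent.Lib.H46BTMain

open Subgroup Cfsg.Lie Cfsg.Lie.ChevalleyDatum
open Cfsg.Agent.Lib.Helper23Grp Cfsg.Agent.Lib.Helper23RG Cfsg.Agent.Lib.Helper23RG.RG
  Cfsg.Agent.Lib.Helper23Table Cfsg.Agent.Lib.Helper23Weyl Cfsg.Agent.Lib.Helper23Chev Cfsg.Agent.Lib.Helper23Shape
  Cfsg.Agent.Lib.Helper22ChevRC Cfsg.Agent.Lib.Helper22ChevBasic Cfsg.Agent.Lib.Helper22ChevPar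
  Cfsg.Agent.Lib.H46BTDefs
open Cfsg.Agent.Lib.H46BTOpt Cfsg.Agent.Lib.H46BTQ Cfsg.Agent.Lib.H46BTPhi Cfsg.Agent.Lib.H46BTB Cfsg.Agent.Lib.H46BTN
  Cfsg.Agent.Lib.H46BTDom Cfsg.Agent.Lib.H46BTP Cfsg.Agent.Lib.H46BTU Cfsg.Agent.Lib.H46BTT

variable {D : ChevalleyDatum} {a : ℕ → ℕ → ℤ} {F : Type*} [Field F] [Fintype F] (hT : TableOK D) (hR : Rel D F)
variable {rf : Fin D.nroots → Fin D.nroots → Fin D.nroots} {pr : Fin D.nroots → Fin D.nroots → ℤ}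
  (hW : (ws (rg_ok hT hR) rf pr).Ok)

include hW in
theorem bt (p : ℕ) [Fact p.Prime] [CharP F p] (hD : Std D) (ha : RCFacts D a) (hL : RCLin D a)
    (V : Subgroup (GL D.Idx F)) (hVG : V ≤ (rg hT hR).G) (hVp : IsPGroup p V) (hV : V ≠ ⊥) :
    ∃ g ∈ (rg hT hR).G, ∃ x : Fin D.rank → ℝ, (∃ i, x i ≠ 0) ∧
      (∀ k ∈ normalizer (V : Set (GL D.Idx F)), k ∈ (rg hT hR).G → g⁻¹ * k * g ∈ PJ hT hR (ZJ x)) ∧
      (∀ v ∈ V, g⁻¹ * v * g ∈ (rg hT hR).XS (ΨJ hT hR (ZJ x))) := by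
  classical
  have ok := rg_ok hT hR
  have hO := Helper22ChevU.ordFacts hD
  have hbv := hBV hT hR
  have hun := hUN hT hR
  obtain ⟨g₀, hg₀, hU₀⟩ := H46BTSyl.conj_into_U p hD V (by rw [← G_eq hT hR]; exact hVG) hVp
  rw [← G_eq hT hR] at hg₀
  have h1 : LvV a V g₀ (fun _ => 1) 1 := by
    intro v hv
    have := hU₀ v hv
    rw [← U_eq hT hR] at this
    exact (U_le_US hT hR ha hO this).1
  let Φ : ↥(rg hT hR).G → (Fin D.rank → ℝ) → ℝ := fun g x => Phi a V g.1 x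
  obtain ⟨g₁, x₁, hM, hq1, hbound⟩ := opt Φ (qf D a) (fun g => Phi_continuous a V g.1)
    (fun g t x ht => Phi_smul a V g.1 t x ht) (qf_continuous a) (qf_smul a) (sq_le_qf hT ha)
    ⟨⟨g₀, hg₀⟩, fun _ => 1, lt_of_lt_of_le one_pos ((le_Phi_iff a hV _ _ _).2 h1)⟩
  set M := Φ g₁ x₁ with hMdef
  have hL1 : LvV a V g₁.1 x₁ M := (le_Phi_iff a hV _ _ _).1 le_rfl
  obtain ⟨n₀, hn₀, σ₀, x₀, hrel₀, hdom⟩ := exists_dom hT hR ha hL x₁
  have hq0 : qf D a x₀ = 1 := by rw [hrel₀.2.2.1, hq1]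
  have hg₂ : g₁.1 * n₀⁻¹ ∈ (rg hT hR).G := mul_mem g₁.2 (inv_mem (N_le_G ok hn₀))
  have hL2 : LvV a V (g₁.1 * n₀⁻¹) x₀ M := LvV_tr hT hR hrel₀ hL1
  set g₂ := g₁.1 * n₀⁻¹ with hg₂def
  have hBP := B_le_PS hT hR ha hO hdom
  have key : ∀ k ∈ normalizer (V : Set (GL D.Idx F)), k ∈ (rg hT hR).G → g₂⁻¹ * k * g₂ ∈ PJ hT hR (ZJ x₀) := by
    intro k hk hkG
    obtain ⟨n, hn, b1, hb1, b2, hb2, e⟩ := bruhat_ex ok hbv hun (mul_mem (mul_mem (inv_mem hg₂) hkG) hg₂)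
    have hA : LvV a V (g₂ * b1) x₀ M := LvV_P (hBP hb1) hL2
    have hB : LvV a V (k * g₂ * b2⁻¹) x₀ M := LvV_P (inv_mem (hBP hb2)) (LvV_norm hk hL2)
    have e2 : k * g₂ * b2⁻¹ = g₂ * b1 * n := by
      have : k * g₂ = g₂ * (b1 * n * b2) := by rw [← e]; group
      rw [this]; group
    rw [e2] at hB
    obtain ⟨σ, hσ⟩ := exists_NRel hT hR ha hL n hn
    obtain ⟨x', hx'⟩ := hσ x₀
    have hC : LvV a V (g₂ * b1) x' M := by
      have := LvV_tr hT hR hx' hB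
      rwa [mul_inv_cancel_right] at this
    have hsum := LvV_add hA hC
    have hgG : g₂ * b1 ∈ (rg hT hR).G := mul_mem hg₂ (B_le_G ok hb1)
    have h5 : M + M ≤ Φ ⟨g₂ * b1, hgG⟩ (x₀ + x') := (le_Phi_iff a hV _ _ _).2 hsum
    have h6 := hbound ⟨g₂ * b1, hgG⟩ (x₀ + x')
    have hx : x₀ = x' := uniq (qf D a) (sq_le_qf hT ha) (qf_par a) hM hq0 (by rw [hx'.2.2.1, hq0]) (by linarith)
    have hn' : n ∈ PJ hT hR (ZJ x₀) := mem_PJ hT hR hW hD ha hdom hn hx'.1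
      (fun r => by have := hx'.2.1 r; rwa [← hx] at this)
    rw [e]
    exact mul_mem (mul_mem (mem_sup_left hb1) hn') (mem_sup_left hb2)
  refine ⟨g₂, hg₂, x₀, ?_, key, ?_⟩
  · by_contra hcon
    push Not at hcon
    have h0 : x₀ = 0 := funext hcon
    have h00 : qf D a (0 : Fin D.rank → ℝ) = 0 := by
      have := qf_smul a 0 x₀
      simpa using this
    rw [h0, h00] at hq0
    exact zero_ne_one hq0
  · intro v hv
    exact mem_UJ hT hR hD ha hdom (key v (le_normalizer hv) (hVG hv)) hM (hL2 v hv)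

/-- the Borel–Tits theorem in the vocabulary of the statements -/
theorem borel_tits (p : ℕ) [Fact p.Prime] [CharP F p] (hD : Std D) (U : Subgroup (GL D.Idx F)) (hUG : U ≤ D.group F)
    (hU : IsPGroup p ↥U) (hne : U ≠ ⊥) : ∃ g ∈ D.group F, ∃ J : Set ℕ, (∃ i, i < D.rank ∧ i ∉ J) ∧
      Subgroup.normalizer (U : Set (GL D.Idx F)) ⊓ D.group F ≤ (D.parabolicSubgroup F J).map (MulAut.conj g).toMonoidHom ∧
      U ≤ (D.unipotentRadical F J).map (MulAut.conj g).toMonoidHom := by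
  have hT := Cfsg.Agent.Lib.Helper23Tab.tableOK_of_mem hD
  have hR : Rel D F := Cfsg.Agent.Lib.Helper22ChevRel.rel_of_mem hD
  obtain ⟨a, ha, hL⟩ := Cfsg.Agent.Lib.H46BTTab.exists_rc2 hD
  obtain ⟨rf, pr, hW⟩ := Cfsg.Agent.Lib.Helper22ChevInst.exists_hW hD hT hR
  obtain ⟨g, hg, x, ⟨i, hi⟩, h1, h2⟩ := bt hT hR hW p hD ha hL U (by rw [G_eq hT hR]; exact hUG) hU hne
  rw [G_eq hT hR] at hg
  refine ⟨g, hg, ZJ x, ⟨i.val, i.2, fun ⟨_, h⟩ => hi h⟩, ?_, ?_⟩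
  · rintro k ⟨hk1, hk2⟩
    rw [parabolic_eq hT hR]
    refine ⟨g⁻¹ * k * g, h1 k hk1 (by rw [G_eq hT hR]; exact hk2), ?_⟩
    simp [MulAut.conj_apply, mul_assoc]
  · intro v hv
    rw [radical_eq hT hR]
    refine ⟨g⁻¹ * v * g, h2 v hv, ?_⟩
    simp [MulAut.conj_apply, mul_assoc]

end Cfsg.Agent.Lib.H46BTMain
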