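import Cfsg.Agent.Lib.H46WCDefs

set_option autoImplicit false

namespace Cfsg.Agent.Lib.H46WCCT

open Cfsg.Lie Cfsg.Lie.ChevalleyDatum Cfsg.Agent.Lib.Helper22ChevU

/-- every root of the commutator formula of two positive roots comes after both of them -/
theorem commTerms_gt2 {D : ChevalleyDatum} (hO : OrdFacts D) {r s : ℕ} (hr : D.nroots / 2 ≤ r) (hs : D.nroots / 2 ≤ s) :
    ∀ c ∈ D.commTerms r s, r < c.1 ∧ s < c.1 := by
  intro c hc
  have A : ∀ i k, D.chainRoot r s i = some k → r < k ∧ s < k := by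
    intro i k h
    obtain ⟨q, hq, rfl⟩ := chainRoot_mem h
    exact ⟨hO.up2 r s hr hs q hq, hO.up r s hr q hq⟩
  have B : ∀ i k, D.chainRoot s r i = some k → r < k ∧ s < k := by
    intro i k h
    obtain ⟨q, hq, rfl⟩ := chainRoot_mem h
    exact ⟨hO.up s r hs q hq, hO.up2 s r hs hr q hq⟩
  unfold ChevalleyDatum.commTerms at hc
  simp only [List.mem_filterMap, List.mem_cons, List.not_mem_nil, or_false, Option.map_eq_some_iff] at hc
  obtain ⟨a, ha, k, hk, rfl⟩ := hc
  show r < k ∧ s < k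
  rcases ha with rfl | rfl | rfl | rfl | rfl | rfl | rfl
  · exact A _ _ hk
  · exact A _ _ hk
  · exact B _ _ hk
  · exact A _ _ hk
  · exact B _ _ hk
  · simp only [Option.bind_eq_some_iff] at hk
    obtain ⟨k', hk', hk⟩ := hk
    have h1 := A _ _ hk'
    obtain ⟨q, hq, rfl⟩ := chainRoot_mem hk
    have := hO.up2 k' s (by omega) hs q hq
    omega
  · simp only [Option.bind_eq_some_iff] at hk
    obtain ⟨k', hk', hk⟩ := hk
    have h1 := B _ _ hk'
    obtain ⟨q, hq, rfl⟩ := chainRoot_mem hk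
    have := hO.up2 k' r (by omega) hr q hq
    omega

end Cfsg.Agent.Lib.H46WCCT
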