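import Cfsg.Agent.Lib.H46WCDefs
import Cfsg.Agent.Lib.H46WCCT

set_option autoImplicit false
set_option linter.unusedSectionVars false
set_option linter.unusedVariables false

namespace Cfsg.Agent.Lib.H46WCUkN

open Subgroup Cfsg.Lie Cfsg.Lie.ChevalleyDatum
open Cfsg.Agent.Lib.Helper23Grp Cfsg.Agent.Lib.Helper23RG Cfsg.Agent.Lib.Helper23RG.RG
  Cfsg.Agent.Lib.Helper23Table Cfsg.Agent.Lib.Helper23Chev Cfsg.Agent.Lib.Helper22ChevRC
  Cfsg.Agent.Lib.Helper22ChevBasic Cfsg.Agent.Lib.Helper22ChevU Cfsg.Agent.Lib.Helper22ChevPar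
  Cfsg.Agent.Lib.H46WCDefs

variable {F : Type*} [Field F] {D : ChevalleyDatum}

theorem x_conj (hD : Std D) {k j : ℕ} (hk : D.nroots / 2 ≤ k) (hj : D.nroots / 2 ≤ j) (a : F) :
    ∀ u ∈ Uk (F := F) hD k, xG hD j a * u * (xG hD j a)⁻¹ ∈ Uk (F := F) hD k := by
  apply Helper23Grp.conj_closure_mem
  rintro g ⟨s, b, hs, rfl⟩
  by_cases hjn : j < D.nroots
  · by_cases hsn : s < D.nroots
    · by_cases hsj : s = j
      · subst hsj
        have : xG hD s a * xG hD s b * (xG hD s a)⁻¹ = xG hD s b := by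
          rw [xG_inv, xG_add, xG_add]; congr 1; ring
        rw [this]
        exact xG_mem_Uk hD hs _
      · have hP := Cfsg.Agent.Lib.Helper22ChevTabs.posFacts hD
        have hneg : s ≠ D.neg j := by
          rw [hP.neg_eq j hjn]
          have := hP.even
          omega
        rw [conj_eq hD hjn hsn hsj hneg]
        refine mul_mem (xG_mem_Uk hD hs _) (wordG_mem_Uk hD _ ?_)
        intro p hp
        unfold ChevalleyDatum.commWord at hp
        rw [List.mem_map] at hp
        obtain ⟨c, hc, rfl⟩ := hp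
        have := (H46WCCT.commTerms_gt2 (ordFacts hD) hj (by omega) c hc).2
        show k ≤ c.1
        omega
    · rw [xG_eq_one hD hsn]
      simp
  · rw [xG_eq_one hD hjn]
    simpa using xG_mem_Uk hD hs b

/-- The tails `Uk k` (`k` in the positive range) are normalised by `B = UH`. -/
theorem Uk_conj (hD : Std D) {k : ℕ} (hk : D.nroots / 2 ≤ k) :
    ∀ b ∈ D.borelSubgroup F, ∀ u ∈ Uk (F := F) hD k, b * u * b⁻¹ ∈ Uk (F := F) hD k := by
  have hT := Cfsg.Agent.Lib.Helper23Tab.tableOK_of_mem hD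
  have hR : Rel D F := Cfsg.Agent.Lib.Helper22ChevRel.rel_of_mem hD
  have ok := rg_ok hT hR
  -- the subgroup of the elements which, together with their inverses, stabilise `Uk k`
  let N : Subgroup (GL D.Idx F) :=
    { carrier := {b | (∀ u ∈ Uk (F := F) hD k, b * u * b⁻¹ ∈ Uk (F := F) hD k) ∧
        ∀ u ∈ Uk (F := F) hD k, b⁻¹ * u * b ∈ Uk (F := F) hD k}
      mul_mem' := by
        rintro x y ⟨hx, hx'⟩ ⟨hy, hy'⟩
        refine ⟨fun u hu => ?_, fun u hu => ?_⟩
        · have := hx _ (hy u hu)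
          simpa [mul_assoc] using this
        · have := hy' _ (hx' u hu)
          simpa [mul_assoc] using this
      one_mem' := ⟨fun u hu => by simpa using hu, fun u hu => by simpa using hu⟩
      inv_mem' := by
        rintro x ⟨hx, hx'⟩
        exact ⟨fun u hu => by simpa using hx' u hu, fun u hu => by simpa using hx u hu⟩ }
  have hU : D.posUnipotent F ≤ N := by
    rw [posUnipotent_eq_Uk hD]
    unfold Uk
    rw [closure_le]
    rintro g ⟨j, a, hj, rfl⟩
    refine ⟨x_conj hD hk hj a, fun u hu => ?_⟩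
    have := x_conj hD hk hj (-a) u hu
    rwa [xG_inv, neg_neg, ← xG_inv] at this
  have hH : D.diagonalSubgroup F ≤ N := by
    intro h hh
    rw [← H_eq hT hR] at hh
    have key : ∀ h ∈ (rg hT hR).H, ∀ u ∈ Uk (F := F) hD k, h * u * h⁻¹ ∈ Uk (F := F) hD k := by
      intro h hh
      obtain ⟨_, c, _, _, hc⟩ := Mon_H ok h hh
      apply Helper23Grp.conj_closure_mem
      rintro g ⟨s, b, hs, rfl⟩
      by_cases hsn : s < D.nroots
      · have := hc ⟨s, hsn⟩ b
        have e1 : (rg hT hR).x ⟨s, hsn⟩ b = xG hD s b := xg_eq_xG hR hD s b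
        have e2 : (rg hT hR).x ((1 : Equiv.Perm (Fin D.nroots)) ⟨s, hsn⟩) (c ⟨s, hsn⟩ * b) = xG hD s (c ⟨s, hsn⟩ * b) :=
          xg_eq_xG hR hD s _
        rw [e1, e2] at this
        rw [this]
        exact xG_mem_Uk hD hs _
      · rw [xG_eq_one hD hsn]
        simp
    refine ⟨key h hh, fun u hu => ?_⟩
    have := key h⁻¹ (inv_mem hh) u hu
    rwa [inv_inv] at this
  intro b hb
  exact ((sup_le hU hH : D.borelSubgroup F ≤ N) hb).1

end Cfsg.Agent.Lib.H46WCUkN
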