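import Cfsg.Agent.Lib.H46FCRel
import Cfsg.Agent.Lib.H46WCUkN

set_option autoImplicit false
set_option linter.unusedSectionVars false
set_option linter.unusedVariables false

namespace Cfsg.Agent.Lib.H46FCMulE

open Subgroup Cfsg.Lie Cfsg.Lie.ChevalleyDatum
open Cfsg.Agent.Lib.Helper23Grp Cfsg.Agent.Lib.Helper23RG Cfsg.Agent.Lib.Helper23RG.RG
  Cfsg.Agent.Lib.Helper23Table Cfsg.Agent.Lib.Helper23Chev
  Cfsg.Agent.Lib.Helper22ChevBasic Cfsg.Agent.Lib.Helper22ChevU Cfsg.Agent.Lib.Helper22ChevPar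
  Cfsg.Agent.Lib.H46FCRel

variable {F : Type*} [Field F] [CharP F 2]

theorem S_lt' : ∀ r ∈ S, r < 48 := by decide

theorem CS {r s : ℕ} (hr : r ∈ S) (hs : s ∈ S) (a b : F) : Commute (X r a) (X s b) :=
  CT (S_lt' r hr) (S_lt' s hs) (tabS r hr s hs) a b

/-- `E` is abelian: the six root subgroups commute pairwise (`CT _ _ (tabS s _ r _)`), merge with `X_add`.  Model: `H46GCPi9.mul3`. -/
theorem mulE (t t' : ℕ → F) : eL t * eL t' = eL (fun r => t r + t' r) := by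
  unfold eL
  have m39 : 39 ∈ S := by simp [S]
  have m40 : 40 ∈ S := by simp [S]
  have m44 : 44 ∈ S := by simp [S]
  have m45 : 45 ∈ S := by simp [S]
  have m46 : 46 ∈ S := by simp [S]
  have m47 : 47 ∈ S := by simp [S]
  have h6 : Commute (X 47 (t 47)) (X 39 (t' 39) * X 40 (t' 40) * X 44 (t' 44) * X 45 (t' 45) * X 46 (t' 46)) :=
    ((((CS m47 m39 _ _).mul_right (CS m47 m40 _ _)).mul_right (CS m47 m44 _ _)).mul_right (CS m47 m45 _ _)).mul_right (CS m47 m46 _ _)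
  have h5 : Commute (X 46 (t 46)) (X 39 (t' 39) * X 40 (t' 40) * X 44 (t' 44) * X 45 (t' 45)) :=
    (((CS m46 m39 _ _).mul_right (CS m46 m40 _ _)).mul_right (CS m46 m44 _ _)).mul_right (CS m46 m45 _ _)
  have h4 : Commute (X 45 (t 45)) (X 39 (t' 39) * X 40 (t' 40) * X 44 (t' 44)) :=
    ((CS m45 m39 _ _).mul_right (CS m45 m40 _ _)).mul_right (CS m45 m44 _ _)
  have h3 : Commute (X 44 (t 44)) (X 39 (t' 39) * X 40 (t' 40)) :=
    (CS m44 m39 _ _).mul_right (CS m44 m40 _ _)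
  have h2 : Commute (X 40 (t 40)) (X 39 (t' 39)) := CS m40 m39 _ _
  rw [h6.mul_mul_mul_comm, h5.mul_mul_mul_comm, h4.mul_mul_mul_comm, h3.mul_mul_mul_comm,
    h2.mul_mul_mul_comm, X_add, X_add, X_add, X_add, X_add, X_add]

theorem eL_zero : eL (fun _ => (0 : F)) = 1 := by
  simp [eL]

/-- `mulE`, `add_self'`, `eL_zero`. -/
theorem eL_sq (t : ℕ → F) : eL t * eL t = 1 := by
  rw [mulE]
  simp only [add_self']
  exact eL_zero

end Cfsg.Agent.Lib.H46FCMulE
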