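import Cfsg.Agent.Lib.H46FCRel
import Cfsg.Agent.Lib.H46WCUkN
import Cfsg.Agent.Lib.H46FCMulE

set_option autoImplicit false
set_option linter.unusedSectionVars false
set_option linter.unusedVariables false

namespace Cfsg.Agent.Lib.H46FCAct

open Subgroup Cfsg.Lie Cfsg.Lie.ChevalleyDatum
open Cfsg.Agent.Lib.Helper23Grp Cfsg.Agent.Lib.Helper23RG Cfsg.Agent.Lib.Helper23RG.RG
  Cfsg.Agent.Lib.Helper23Table Cfsg.Agent.Lib.Helper23Chev
  Cfsg.Agent.Lib.Helper22ChevBasic Cfsg.Agent.Lib.Helper22ChevU Cfsg.Agent.Lib.Helper22ChevPar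
  Cfsg.Agent.Lib.H46FCRel

variable {F : Type*} [Field F] [CharP F 2]

theorem X_eq_eL {k : ℕ} (hk : k ∈ S) (b : F) : X k b = eL (fun r => if r = k then b else 0) := by
  have h : k = 39 ∨ k = 40 ∨ k = 44 ∨ k = 45 ∨ k = 46 ∨ k = 47 := by simpa [S] using hk
  rcases h with rfl | rfl | rfl | rfl | rfl | rfl <;> simp [eL, X_zero]

theorem comm_eL {g : GL chevF4.Idx F} {t : ℕ → F} (h : ∀ r ∈ S, Commute g (X r (t r))) :
    Commute g (eL t) := by
  unfold eL
  exact (((((h 39 (by simp [S])).mul_right (h 40 (by simp [S]))).mul_right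
    (h 44 (by simp [S]))).mul_right (h 45 (by simp [S]))).mul_right
    (h 46 (by simp [S]))).mul_right (h 47 (by simp [S]))

/-- positive root elements outside the six act trivially on `E` (`CT`, `tabU`). -/
theorem act_triv {s : ℕ} (hs : 24 ≤ s) (hs' : s < 48) (h : s ∉ [24,25,26,27,33,34]) (c : F) (t : ℕ → F) :
    X s c * eL t * (X s c)⁻¹ = eL t := by
  have hS48 : ∀ r ∈ S, r < 48 := by decide
  have hc : Commute (X s c) (eL t) := by
    apply comm_eL
    intro r hr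
    refine CT hs' (hS48 r hr) (tabU ⟨s, hs'⟩ hs r hr ?_) _ _
    intro hmem
    apply h
    simp only [List.mem_cons, Prod.mk.injEq, List.not_mem_nil, or_false] at hmem ⊢
    omega
  rw [hc.eq, mul_inv_cancel_right]

/-- For `(s, r, k) ∈ Six`: `X s c` fixes `X r' _` for `r' ∈ S`, `r' ≠ r` (`CT`, `tabU`) and `X s c * X r b * (X s c)⁻¹ = X r b * X k (c*b)` (`R6`); reorder inside the abelian `E` (`CT`, `tabS`, or `H46FCMulE.mulE` after writing
every factor as an `eL`).  Six cases. -/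
theorem act_six {s r k : ℕ} (h : (s, r, k) ∈ Six) (c : F) (t : ℕ → F) :
    X s c * eL t * (X s c)⁻¹ = eL (Function.update t k (t k + c * t r)) := by
  have hb : ∀ p ∈ Six, 24 ≤ p.1 ∧ p.1 < 48 ∧ p.2.1 ∈ S ∧ p.2.2 ∈ S := by decide
  obtain ⟨hs, hs', hrS, hkS⟩ := hb _ h
  have hx : ∀ p ∈ Six, ∀ r' ∈ S, r' ≠ p.2.1 →
      (p.1, r') ∉ [(24,46),(25,45),(26,45),(27,39),(33,40),(34,39)] := by decide
  have hS48 : ∀ r ∈ S, r < 48 := by decide
  obtain ⟨t₀, ht₀⟩ : ∃ t₀ : ℕ → F, t₀ = Function.update t r 0 := ⟨_, rfl⟩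
  have hc : Commute (X s c) (eL t₀) := by
    apply comm_eL
    intro r' hr'
    by_cases e : r' = r
    · rw [e, ht₀, Function.update_self, X_zero]
      exact Commute.one_right _
    · exact CT hs' (hS48 r' hr') (tabU ⟨s, hs'⟩ hs r' hr' (hx _ h r' hr' e)) _ _
  have e1 : eL t = eL t₀ * X r (t r) := by
    rw [X_eq_eL hrS, Cfsg.Agent.Lib.H46FCMulE.mulE]
    congr 1
    funext r'
    rw [ht₀]
    by_cases e : r' = r
    · rw [e]; simp
    · simp [e, Function.update_of_ne e]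
  have e2 : eL (Function.update t k (t k + c * t r)) = eL t * X k (c * t r) := by
    rw [X_eq_eL hkS, Cfsg.Agent.Lib.H46FCMulE.mulE]
    congr 1
    funext r'
    by_cases e : r' = k
    · rw [e]; simp
    · simp [e, Function.update_of_ne e]
  have e3 := R6 h c (t r)
  rw [e2]
  calc X s c * eL t * (X s c)⁻¹ = X s c * (eL t₀ * X r (t r)) * (X s c)⁻¹ := by rw [e1]
    _ = (X s c * eL t₀) * X r (t r) * (X s c)⁻¹ := by group
    _ = eL t₀ * (X s c * X r (t r)) * (X s c)⁻¹ := by rw [hc.eq]; group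
    _ = eL t₀ * (X r (t r) * X k (c * t r) * X s c) * (X s c)⁻¹ := by rw [e3]
    _ = (eL t₀ * X r (t r)) * X k (c * t r) := by group
    _ = eL t * X k (c * t r) := by rw [← e1]

end Cfsg.Agent.Lib.H46FCAct
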