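import Cfsg.Agent.Lib.H46FCRel
import Cfsg.Agent.Lib.H46WCUkN

set_option autoImplicit false
set_option linter.unusedSectionVars false
set_option linter.unusedVariables false

namespace Cfsg.Agent.Lib.H46FCBNorm

open Subgroup Cfsg.Lie Cfsg.Lie.ChevalleyDatum
open Cfsg.Agent.Lib.Helper23Grp Cfsg.Agent.Lib.Helper23RG Cfsg.Agent.Lib.Helper23RG.RG
  Cfsg.Agent.Lib.Helper23Table Cfsg.Agent.Lib.Helper23Chev
  Cfsg.Agent.Lib.Helper22ChevBasic Cfsg.Agent.Lib.Helper22ChevU Cfsg.Agent.Lib.Helper22ChevPar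
  Cfsg.Agent.Lib.H46FCRel

variable {F : Type*} [Field F] [CharP F 2]

omit [CharP F 2] in
theorem wordG_memK (K : Subgroup (GL chevF4.Idx F)) (w : List (ℕ × F))
    (h : ∀ p ∈ w, X p.1 p.2 ∈ K) : wordG hD w ∈ K := by
  induction w with
  | nil => rw [wordG_nil]; exact one_mem _
  | cons p w ih =>
    rw [wordG_cons]
    exact mul_mem (h p (by simp)) (ih (fun q hq => h q (by simp [hq])))

theorem S_lt {r : ℕ} (hr : r ∈ S) : r < 48 ∧ 24 ≤ r := by
  have h6 : r = 39 ∨ r = 40 ∨ r = 44 ∨ r = 45 ∨ r = 46 ∨ r = 47 := by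
    simpa [S] using hr
  omega

theorem x_conjE (Ψ : ℕ → Prop) (hΨ : ∀ s : Fin 48, 24 ≤ s.val → ∀ r ∈ S, Ψ r → s.val ≠ r →
      ∀ c ∈ chevF4.commTerms s.val r, (2 : ℤ) ∣ c.2.1 ∨ (c.1 ∈ S ∧ Ψ c.1))
    {j : ℕ} (hj : 24 ≤ j) (a : F) :
    ∀ u ∈ E' F Ψ, X j a * u * (X j a)⁻¹ ∈ E' F Ψ := by
  unfold E'
  apply Helper23Grp.conj_closure_mem
  rintro g ⟨s, hs, b, hΨs, rfl⟩
  have hgen : ∀ c : F, X s c ∈ closure {g | ∃ r ∈ S, ∃ t : F, Ψ r ∧ g = X r t} :=
    fun c => Subgroup.subset_closure ⟨s, hs, c, hΨs, rfl⟩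
  obtain ⟨hsn, hs24⟩ := S_lt hs
  by_cases hjn : j < 48
  · by_cases hsj : s = j
    · subst hsj
      have : X s a * X s b * (X s a)⁻¹ = X s b := by
        rw [X_inv, X_add, X_add]; congr 1
        rw [add_comm a b, add_assoc, add_self', add_zero]
      rw [this]
      exact hgen b
    · have hneg : s ≠ 47 - j := by omega
      have h1 := conjW (F := F) hjn hsn hsj hneg a b
      have h2 : X j a * X s b * (X j a)⁻¹ = X s b * wordG hD (chevF4.commWord F j s (-a) b) := by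
        rw [h1]; group
      rw [h2]
      refine mul_mem (hgen b) (wordG_memK _ _ ?_)
      intro p hp
      unfold ChevalleyDatum.commWord at hp
      rw [List.mem_map] at hp
      obtain ⟨c, hc, rfl⟩ := hp
      rcases hΨ ⟨j, hjn⟩ hj s hs hΨs (fun e => hsj e.symm) c hc with h2 | ⟨hcS, hcΨ⟩
      · have h0 : ((c.2.1 : ℤ) : F) = 0 := (CharP.intCast_eq_zero_iff F 2 _).2 (by exact_mod_cast h2)
        simp only [h0, zero_mul, X_zero]
        exact one_mem _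
      · exact Subgroup.subset_closure ⟨c.1, hcS, _, hcΨ, rfl⟩
  · have hjn' : ¬ j < chevF4.nroots := by
      have : chevF4.nroots = 48 := by decide
      omega
    have : X j a = 1 := xG_eq_one hD hjn' a
    rw [this]
    simpa using hgen b

/-- `B = U H` normalises `E' F Ψ` when `Ψ` is closed (mod 2).  `borelSubgroup = posUnipotent ⊔ diagonalSubgroup`; model: the proof of `H46WCUkN.Uk_conj` / `H46WCUkN.x_conj` (`Helper23Grp.conj_closure_mem`, `conj_eq`/`conjW`: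
`X s a * X r b * (X s a)⁻¹ = X r b * wordG hD (chevF4.commWord F s r (-a) b)`; each letter of the word has an even coefficient (so it is `X _ 0 = 1`, `CharP.intCast_eq_zero_iff`) or a root in `S` with `Ψ`);
`s = r`: `X_add`.  `H` acts on every `X r` by scalars (`Mon_H`). -/
theorem bnorm (Ψ : ℕ → Prop) (hΨ : ∀ s : Fin 48, 24 ≤ s.val → ∀ r ∈ S, Ψ r → s.val ≠ r →
      ∀ c ∈ chevF4.commTerms s.val r, (2 : ℤ) ∣ c.2.1 ∨ (c.1 ∈ S ∧ Ψ c.1)) :
    ∀ b ∈ chevF4.borelSubgroup F, ∀ g ∈ E' F Ψ, b * g * b⁻¹ ∈ E' F Ψ := by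
  have hT := Cfsg.Agent.Lib.Helper23Tab.tableOK_of_mem hD
  have hR : Rel chevF4 F := Cfsg.Agent.Lib.Helper22ChevRel.rel_of_mem hD
  have ok := rg_ok hT hR
  let N : Subgroup (GL chevF4.Idx F) :=
    { carrier := {b | (∀ u ∈ E' F Ψ, b * u * b⁻¹ ∈ E' F Ψ) ∧
        ∀ u ∈ E' F Ψ, b⁻¹ * u * b ∈ E' F Ψ}
      mul_mem' := by
        rintro x y ⟨hx, hx'⟩ ⟨hy, hy'⟩
        refine ⟨fun u hu => ?_, fun u hu => ?_⟩
        · have := hx _ (hy u hu)
          simpa [mul_assoc] using this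
        · have := hy' _ (hx' u hu)
          simpa [mul_assoc] using this
      one_mem' := ⟨fun u hu => by simpa using hu, fun u hu => by simpa using hu⟩
      inv_mem' := by
        rintro x ⟨hx, hx'⟩
        exact ⟨fun u hu => by simpa using hx' u hu, fun u hu => by simpa using hx u hu⟩ }
  have hU : chevF4.posUnipotent F ≤ N := by
    rw [posUnipotent_eq_Uk hD]
    unfold Uk
    rw [closure_le]
    rintro g ⟨j, a, hj, rfl⟩
    have hj' : 24 ≤ j := by
      have : chevF4.nroots = 48 := by decide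
      omega
    refine ⟨x_conjE Ψ hΨ hj' a, fun u hu => ?_⟩
    have := x_conjE Ψ hΨ hj' a u hu
    rw [X_inv] at this
    show (X j a)⁻¹ * u * X j a ∈ E' F Ψ
    rw [X_inv]
    exact this
  have hH : chevF4.diagonalSubgroup F ≤ N := by
    intro h hh
    rw [← H_eq hT hR] at hh
    have key : ∀ h ∈ (rg hT hR).H, ∀ u ∈ E' F Ψ, h * u * h⁻¹ ∈ E' F Ψ := by
      intro h hh
      obtain ⟨_, c, _, _, hc⟩ := Mon_H ok h hh
      unfold E'
      apply Helper23Grp.conj_closure_mem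
      rintro g ⟨s, hs, b, hΨs, rfl⟩
      have hsn : s < chevF4.nroots := by
        have : chevF4.nroots = 48 := by decide
        have := (S_lt hs).1
        omega
      have := hc ⟨s, hsn⟩ b
      have e1 : (rg hT hR).x ⟨s, hsn⟩ b = xG hD s b := xg_eq_xG hR hD s b
      have e2 : (rg hT hR).x ((1 : Equiv.Perm (Fin chevF4.nroots)) ⟨s, hsn⟩) (c ⟨s, hsn⟩ * b) = xG hD s (c ⟨s, hsn⟩ * b) :=
        xg_eq_xG hR hD s _
      rw [e1, e2] at this
      rw [this]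
      exact Subgroup.subset_closure ⟨s, hs, _, hΨs, rfl⟩
    refine ⟨key h hh, fun u hu => ?_⟩
    have := key h⁻¹ (inv_mem hh) u hu
    rwa [inv_inv] at this
  intro b hb
  exact ((sup_le hU hH : chevF4.borelSubgroup F ≤ N) hb).1

set_option maxRecDepth 100000 in
theorem tabT : ∀ s : Fin 48, 24 ≤ s.val → ∀ r ∈ S, True → s.val ≠ r →
      ∀ c ∈ chevF4.commTerms s.val r, (2 : ℤ) ∣ c.2.1 ∨ (c.1 ∈ S ∧ True) := by decide +kernel

set_option maxRecDepth 100000 in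
theorem tab45 : ∀ s : Fin 48, 24 ≤ s.val → ∀ r ∈ S, r ≠ 45 → s.val ≠ r →
      ∀ c ∈ chevF4.commTerms s.val r, (2 : ℤ) ∣ c.2.1 ∨ (c.1 ∈ S ∧ c.1 ≠ 45) := by decide +kernel

/-- `bnorm` + `decide +kernel` (`set_option maxRecDepth 100000`). -/
theorem bnormT : ∀ b ∈ chevF4.borelSubgroup F, ∀ g ∈ E' F (fun _ => True), b * g * b⁻¹ ∈ E' F (fun _ => True) :=
  bnorm _ tabT

theorem bnorm45 : ∀ b ∈ chevF4.borelSubgroup F, ∀ g ∈ E' F (fun r => r ≠ 45), b * g * b⁻¹ ∈ E' F (fun r => r ≠ 45) :=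
  bnorm _ tab45

end Cfsg.Agent.Lib.H46FCBNorm
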