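import Cfsg.Agent.Lib.H46FCRel
import Cfsg.Agent.Lib.H46WCUkN
import Cfsg.Agent.Lib.H46FCMulE

set_option autoImplicit false
set_option linter.unusedSectionVars false
set_option linter.unusedVariables false

namespace Cfsg.Agent.Lib.H46FCZeroE

open Subgroup Cfsg.Lie Cfsg.Lie.ChevalleyDatum
open Cfsg.Agent.Lib.Helper23Grp Cfsg.Agent.Lib.Helper23RG Cfsg.Agent.Lib.Helper23RG.RG
  Cfsg.Agent.Lib.Helper23Table Cfsg.Agent.Lib.Helper23Chev
  Cfsg.Agent.Lib.Helper22ChevBasic Cfsg.Agent.Lib.Helper22ChevU Cfsg.Agent.Lib.Helper22ChevPar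
  Cfsg.Agent.Lib.H46FCRel

variable {F : Type*} [Field F] [CharP F 2]

theorem peel0 {k : ℕ} (h1 : 24 ≤ k) (h2 : k < 48) {a : F} {y : GL chevF4.Idx F}
    (hy : y ∈ Uk (F := F) hD (k + 1)) (h : X k a * y ∈ Uk (F := F) hD (k + 1)) : a = 0 := by
  have hn : chevF4.nroots = 48 := by decide
  have hn2 : chevF4.nroots / 2 = 24 := by decide
  apply eq_zero_of_mem_Uk hD (k := k) (by rw [hn2]; exact h1) (by rw [hn]; exact h2)
  have : X k a = X k a * y * y⁻¹ := by group
  show X k a ∈ _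
  rw [this]
  exact mul_mem h (inv_mem hy)

theorem eL_assoc (t : ℕ → F) : eL t = X 39 (t 39) * (X 40 (t 40) * (X 44 (t 44) * (X 45 (t 45) *
    (X 46 (t 46) * X 47 (t 47))))) := by
  unfold eL
  simp only [mul_assoc]

theorem t39 {t : ℕ → F} (h : eL t ∈ Uk (F := F) hD 40) : t 39 = 0 := by
  rw [eL_assoc] at h
  refine peel0 (k := 39) (by norm_num) (by norm_num) ?_ h
  exact mul_mem (xG_mem_Uk hD (by norm_num) _) (mul_mem (xG_mem_Uk hD (by norm_num) _)
    (mul_mem (xG_mem_Uk hD (by norm_num) _) (mul_mem (xG_mem_Uk hD (by norm_num) _)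
      (xG_mem_Uk hD (by norm_num) _))))

/-- Uniqueness of coordinates. -/
theorem zeroE {t : ℕ → F} (h : eL t = 1) : ∀ r ∈ S, t r = 0 := by
  have h39 : t 39 = 0 := t39 (by rw [h]; exact one_mem _)
  rw [eL_assoc, h39, X_zero, one_mul] at h
  have h40 : t 40 = 0 := by
    refine peel0 (k := 40) (by norm_num) (by norm_num) ?_ (by rw [h]; exact one_mem _)
    exact mul_mem (xG_mem_Uk hD (by norm_num) _)
      (mul_mem (xG_mem_Uk hD (by norm_num) _) (mul_mem (xG_mem_Uk hD (by norm_num) _)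
        (xG_mem_Uk hD (by norm_num) _)))
  rw [h40, X_zero, one_mul] at h
  have h44 : t 44 = 0 := by
    refine peel0 (k := 44) (by norm_num) (by norm_num) ?_ (by rw [h]; exact one_mem _)
    exact mul_mem (xG_mem_Uk hD (by norm_num) _) (mul_mem (xG_mem_Uk hD (by norm_num) _)
        (xG_mem_Uk hD (by norm_num) _))
  rw [h44, X_zero, one_mul] at h
  have h45 : t 45 = 0 := by
    refine peel0 (k := 45) (by norm_num) (by norm_num) ?_ (by rw [h]; exact one_mem _)
    exact mul_mem (xG_mem_Uk hD (by norm_num) _) (xG_mem_Uk hD (by norm_num) _)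
  rw [h45, X_zero, one_mul] at h
  have h46 : t 46 = 0 := by
    refine peel0 (k := 46) (by norm_num) (by norm_num) ?_ (by rw [h]; exact one_mem _)
    exact xG_mem_Uk hD (by norm_num) _
  rw [h46, X_zero, one_mul] at h
  have h47 : t 47 = 0 := X_inj (by norm_num) h
  intro r hr
  simp only [S, List.mem_cons, List.not_mem_nil, or_false] at hr
  rcases hr with rfl | rfl | rfl | rfl | rfl | rfl <;> assumption

/-- `eL t * eL t' = 1` (`eL_sq`), `mulE`, `zeroE`, characteristic 2. -/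
theorem injE {t t' : ℕ → F} (h : eL t = eL t') : ∀ r ∈ S, t r = t' r := by
  have h1 : eL (fun r => t r + t' r) = 1 := by
    rw [← H46FCMulE.mulE, h, H46FCMulE.eL_sq]
  intro r hr
  have h2 : t r + t' r = 0 := zeroE h1 r hr
  have h3 : t r = - t' r := by linear_combination h2
  rw [h3, neg_eq']

end Cfsg.Agent.Lib.H46FCZeroE
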