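import Cfsg.Agent.Lib.H46FCRel
import Cfsg.Agent.Lib.H46WCUkN
import Cfsg.Agent.Lib.H46FCMulE
import Cfsg.Agent.Lib.H46FCZeroE

set_option autoImplicit false
set_option linter.unusedSectionVars false
set_option linter.unusedVariables false

namespace Cfsg.Agent.Lib.H46FCPeel

open Subgroup Cfsg.Lie Cfsg.Lie.ChevalleyDatum
open Cfsg.Agent.Lib.Helper23Grp Cfsg.Agent.Lib.Helper23RG Cfsg.Agent.Lib.Helper23RG.RG
  Cfsg.Agent.Lib.Helper23Table Cfsg.Agent.Lib.Helper23Chev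
  Cfsg.Agent.Lib.Helper22ChevBasic Cfsg.Agent.Lib.Helper22ChevU Cfsg.Agent.Lib.Helper22ChevPar
  Cfsg.Agent.Lib.H46FCRel

variable {F : Type*} [Field F] [CharP F 2]

/-- `eL t = eL t₁ * eL t₂` (`mulE`, `t₁ + t₂ = t`), so `n * eL t₁ * n⁻¹ = (n * eL t * n⁻¹) * (n * eL t₂ * n⁻¹)⁻¹ ∈ A ∩ C = 1`, `eL t₁ = 1`, `zeroE`.  Model: `hM`, `hM1` in `H46GCPi9.pi9`. -/
theorem peel (n : GL chevF4.Idx F) (t : ℕ → F) (Pd : ℕ → Prop) [DecidablePred Pd] (A C : Subgroup (GL chevF4.Idx F))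
    (hAC : ∀ g ∈ A, g ∈ C → g = 1) (hz : n * eL t * n⁻¹ ∈ A)
    (h2 : n * eL (fun r => if Pd r then 0 else t r) * n⁻¹ ∈ A)
    (h1 : n * eL (fun r => if Pd r then t r else 0) * n⁻¹ ∈ C) : ∀ r ∈ S, Pd r → t r = 0 := by
  have hsplit : eL t = eL (fun r => if Pd r then t r else 0) * eL (fun r => if Pd r then 0 else t r) := by
    rw [H46FCMulE.mulE]
    congr 1
    funext r
    by_cases h : Pd r <;> simp [h]
  have hA : n * eL (fun r => if Pd r then t r else 0) * n⁻¹ ∈ A := by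
    have h3 : n * eL (fun r => if Pd r then t r else 0) * n⁻¹
        = (n * eL t * n⁻¹) * (n * eL (fun r => if Pd r then 0 else t r) * n⁻¹)⁻¹ := by
      rw [hsplit]; group
    rw [h3]
    exact A.mul_mem hz (A.inv_mem h2)
  have h4 := hAC _ hA h1
  have h5 : eL (fun r => if Pd r then t r else 0) = 1 := by
    have : eL (fun r => if Pd r then t r else 0)
        = n⁻¹ * (n * eL (fun r => if Pd r then t r else 0) * n⁻¹) * n := by group
    rw [this, h4]; group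
  intro r hr hP
  have h6 := H46FCZeroE.zeroE h5 r hr
  simpa [hP] using h6

/-- `n * eL t * n⁻¹` is the product of the six `n * X r (t r) * n⁻¹ = X (p r) (κ r * t r)` (`group`); a factor with `t r = 0` is `1`. -/
theorem conj_mem (n : GL chevF4.Idx F) (p : ℕ → ℕ) (κ : ℕ → F)
    (hn : ∀ r < 48, ∀ t : F, n * X r t * n⁻¹ = X (p r) (κ r * t)) (t : ℕ → F) (A : Subgroup (GL chevF4.Idx F))
    (h : ∀ r ∈ S, t r ≠ 0 → ∀ c : F, X (p r) c ∈ A) : n * eL t * n⁻¹ ∈ A := by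
  have key : ∀ r ∈ S, n * X r (t r) * n⁻¹ ∈ A := by
    intro r hr
    by_cases h0 : t r = 0
    · rw [h0, X_zero]
      have : n * (1 : GL chevF4.Idx F) * n⁻¹ = 1 := by group
      rw [this]; exact A.one_mem
    · have hlt : r < 48 := by
        have : ∀ r ∈ S, r < 48 := by decide
        exact this r hr
      rw [hn r hlt]
      exact h r hr h0 _
  have e : n * eL t * n⁻¹ = (n * X 39 (t 39) * n⁻¹) * (n * X 40 (t 40) * n⁻¹) * (n * X 44 (t 44) * n⁻¹)
      * (n * X 45 (t 45) * n⁻¹) * (n * X 46 (t 46) * n⁻¹) * (n * X 47 (t 47) * n⁻¹) := by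
    unfold eL; group
  rw [e]
  exact A.mul_mem (A.mul_mem (A.mul_mem (A.mul_mem (A.mul_mem (key 39 (by decide)) (key 40 (by decide)))
    (key 44 (by decide))) (key 45 (by decide))) (key 46 (by decide))) (key 47 (by decide))

end Cfsg.Agent.Lib.H46FCPeel
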