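import Cfsg.Agent.Lib.H46FCRel
import Cfsg.Agent.Lib.H46WCUkN
import Cfsg.Agent.Lib.H46FCPeel

set_option autoImplicit false
set_option linter.unusedSectionVars false
set_option linter.unusedVariables false

namespace Cfsg.Agent.Lib.H46FCGL

open Subgroup Cfsg.Lie Cfsg.Lie.ChevalleyDatum
open Cfsg.Agent.Lib.Helper23Grp Cfsg.Agent.Lib.Helper23RG Cfsg.Agent.Lib.Helper23RG.RG
  Cfsg.Agent.Lib.Helper23Table Cfsg.Agent.Lib.Helper23Chev
  Cfsg.Agent.Lib.Helper22ChevBasic Cfsg.Agent.Lib.Helper22ChevU Cfsg.Agent.Lib.Helper22ChevPar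
  Cfsg.Agent.Lib.H46FCRel

variable {F : Type*} [Field F] [CharP F 2]

/-- If `n` maps `eL t` into `Uk K` then every root of the support of `t` is mapped to an index `≥ K`.
(1) positivity: `peel` with `Pd r := p r < 24`, `A := posUnipotent` (`Uk K ≤ Uk 24 = posUnipotent`, `posUnipotent_eq_Uk`), `C := closure {X r t | r < 24}`, `hAC := UV_trivial`, memberships by `conj_mem`.
(2) induction on `k` from `24` to `K`: `∀ r ∈ S, t r ≠ 0 → k ≤ p r`.  Step `k → k+1` (`k < K`): `peel` with `Pd r := p r = k`, `A := Uk (k+1)`, `C := chevF4.rootSubgroup F k`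
(`hAC`: `mem_rootSubgroup_iff`, `eq_zero_of_mem_Uk`, `xG_zero`), memberships by `conj_mem` (`xG_mem_Uk`, `xG_mem_rootSubgroup`). -/
theorem gl (n : GL chevF4.Idx F) (p : ℕ → ℕ) (κ : ℕ → F)
    (hn : ∀ r < 48, ∀ t : F, n * X r t * n⁻¹ = X (p r) (κ r * t)) (t : ℕ → F) (K : ℕ) (hK : 24 ≤ K) (hK' : K ≤ 48)
    (hz : n * eL t * n⁻¹ ∈ Uk (F := F) hD K) : ∀ r ∈ S, t r ≠ 0 → K ≤ p r := by
  have hn48 : chevF4.nroots = 48 := by decide
  have Uk_le : ∀ {j k : ℕ}, j ≤ k → Uk (F := F) hD k ≤ Uk (F := F) hD j := by
    intro j k h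
    unfold Uk
    apply Subgroup.closure_mono
    rintro _ ⟨r, t, hr, rfl⟩
    exact ⟨r, t, by omega, rfl⟩
  have hU24 : chevF4.posUnipotent F = Uk (F := F) hD 24 := by
    rw [posUnipotent_eq_Uk hD]
    have : chevF4.nroots / 2 = 24 := by decide
    rw [this]
  have hpos : ∀ r ∈ S, t r ≠ 0 → 24 ≤ p r := by
    intro r hr ht
    by_contra hlt
    have := H46FCPeel.peel n t (fun r => p r < 24) (chevF4.posUnipotent F)
      (closure {g : GL chevF4.Idx F | ∃ (r : ℕ) (t : F), r < 24 ∧ g = X r t}) UV_trivial
      (by rw [hU24]; exact Uk_le hK hz)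
      (by
        apply H46FCPeel.conj_mem n p κ hn
        intro r _ h c
        have h' : ¬ p r < 24 := by
          intro h''; simp only [h'', if_true, ne_eq, not_true_eq_false] at h
        rw [hU24]
        exact xG_mem_Uk hD (by omega) c)
      (by
        apply H46FCPeel.conj_mem n p κ hn
        intro r _ h c
        have h' : p r < 24 := by
          by_contra h''; simp only [h'', if_false, ne_eq, not_true_eq_false] at h
        exact subset_closure ⟨p r, c, h', rfl⟩) r hr (by omega)
    exact ht this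
  have key : ∀ k, 24 ≤ k → k ≤ K → ∀ r ∈ S, t r ≠ 0 → k ≤ p r := by
    intro k hk
    induction k, hk using Nat.le_induction with
    | base => intro _; exact hpos
    | succ k hk ih =>
      intro hkK r hr ht
      have ih' := ih (by omega)
      have hz0 := H46FCPeel.peel n t (fun r => p r = k) (Uk (F := F) hD (k + 1)) (chevF4.rootSubgroup F k)
        (by
          intro g h1 h2
          obtain ⟨a, rfl⟩ := (mem_rootSubgroup_iff hD k g).1 h2
          rw [eq_zero_of_mem_Uk hD (k := k) (by rw [hn48]; omega) (by rw [hn48]; omega) h1, xG_zero])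
        (Uk_le hkK hz)
        (by
          apply H46FCPeel.conj_mem n p κ hn
          intro r hr h c
          have h' : ¬ p r = k := by
            intro h''; simp only [h'', if_true, ne_eq, not_true_eq_false] at h
          have h3 : t r ≠ 0 := by simpa only [h', if_false] using h
          have := ih' r hr h3
          exact xG_mem_Uk hD (by omega) c)
        (by
          apply H46FCPeel.conj_mem n p κ hn
          intro r _ h c
          have h' : p r = k := by
            by_contra h''; simp only [h'', if_false, ne_eq, not_true_eq_false] at h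
          rw [h']
          exact xG_mem_rootSubgroup hD k c)
      have h1 : p r ≠ k := fun e => ht (hz0 r hr e)
      have h2 := ih' r hr ht
      omega
  exact key K hK le_rfl

end Cfsg.Agent.Lib.H46FCGL
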