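import Cfsg.Agent.Lib.H46FCRel
import Cfsg.Agent.Lib.H46WCUkN

set_option autoImplicit false
set_option linter.unusedSectionVars false
set_option linter.unusedVariables false

namespace Cfsg.Agent.Lib.H46FCHCent

open Subgroup Cfsg.Lie Cfsg.Lie.ChevalleyDatum
open Cfsg.Agent.Lib.Helper23Grp Cfsg.Agent.Lib.Helper23RG Cfsg.Agent.Lib.Helper23RG.RG
  Cfsg.Agent.Lib.Helper23Table Cfsg.Agent.Lib.Helper23Chev
  Cfsg.Agent.Lib.Helper22ChevBasic Cfsg.Agent.Lib.Helper22ChevU Cfsg.Agent.Lib.Helper22ChevPar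
  Cfsg.Agent.Lib.H46FCRel

variable {F : Type*} [Field F] [CharP F 2]

omit [CharP F 2] in
/-- decomposition of a diagonal element and its action on the root elements -/
theorem hdec (h : GL chevF4.Idx F) (hh : h ∈ chevF4.diagonalSubgroup F) :
    ∃ c : ℕ → F, c 0 ≠ 0 ∧ c 1 ≠ 0 ∧ c 2 ≠ 0 ∧ c 3 ≠ 0 ∧
      h = hG hD (chevF4.simple 0) (c 0) * hG hD (chevF4.simple 1) (c 1) *
        hG hD (chevF4.simple 2) (c 2) * hG hD (chevF4.simple 3) (c 3) ∧
      ∀ s < 48, ∀ t : F, h * X s t * h⁻¹ = X s (c 0 ^ (chevF4.cartan 0 s) * (c 1 ^ (chevF4.cartan 1 s) *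
        (c 2 ^ (chevF4.cartan 2 s) * (c 3 ^ (chevF4.cartan 3 s) * t)))) := by
  have hR : Rel chevF4 F := Cfsg.Agent.Lib.Helper22ChevRel.rel_of_mem hD
  obtain ⟨c, hc, hm⟩ := Cfsg.Agent.S1034.result chevF4 hD h hh
  have hw : h = wordG hD ((List.range chevF4.rank).flatMap fun i => chevF4.hWord (chevF4.simple i) (c i)) :=
    (eq_wordG_iff hD h _).1 hm
  have hr : List.range chevF4.rank = [0, 1, 2, 3] := by decide
  have e : h = hG hD (chevF4.simple 0) (c 0) * hG hD (chevF4.simple 1) (c 1) *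
      hG hD (chevF4.simple 2) (c 2) * hG hD (chevF4.simple 3) (c 3) := by
    rw [hw, hr]
    simp only [List.flatMap_cons, List.flatMap_nil, List.append_nil, wordG_append, mul_assoc]
    rfl
  have h0 := hc 0 (by decide)
  have h1 := hc 1 (by decide)
  have h2 := hc 2 (by decide)
  have h3 := hc 3 (by decide)
  refine ⟨c, h0, h1, h2, h3, e, fun s hs t => ?_⟩
  have hs' : s < chevF4.nroots := hs
  rw [mul_inv_eq_iff_eq_mul, e]
  show _ * xG hD s t = _
  rw [mul_assoc, Cfsg.Agent.Lib.LeadChevCent.hG_conj hD hR (i := 3) (by decide) hs' h3, ← mul_assoc,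
    mul_assoc _ _ (xG hD s _), Cfsg.Agent.Lib.LeadChevCent.hG_conj hD hR (i := 2) (by decide) hs' h2,
    ← mul_assoc, mul_assoc _ _ (xG hD s _),
    Cfsg.Agent.Lib.LeadChevCent.hG_conj hD hR (i := 1) (by decide) hs' h1, ← mul_assoc,
    Cfsg.Agent.Lib.LeadChevCent.hG_conj hD hR (i := 0) (by decide) hs' h0]
  simp only [mul_assoc]

omit [CharP F 2] in
theorem hG_mem {K : Subgroup (GL chevF4.Idx F)} (r r' : ℕ) (hn : chevF4.neg r = r')
    (h1 : ∀ t : F, X r t ∈ K) (h2 : ∀ t : F, X r' t ∈ K) (c : F) : hG hD r c ∈ K := by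
  show wordG hD (chevF4.hWord r c) ∈ K
  apply Cfsg.Agent.Lib.LeadChevCent.wordG_mem_of
  intro p hp
  simp only [hWord, nWord, hn, List.mem_append, List.mem_cons, List.not_mem_nil, or_false] at hp
  rcases hp with (rfl | rfl | rfl) | (rfl | rfl | rfl)
  · exact h1 _
  · exact h2 _
  · exact h1 _
  · exact h1 _
  · exact h2 _
  · exact h1 _

/-- MODEL: `Cfsg/Agent/Lib/H46GCHCent.lean`. -/
theorem hcent (h : GL chevF4.Idx F) (hh : h ∈ chevF4.diagonalSubgroup F) :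
    ∃ χ1 χ2 : F, (∀ t : F, h * X 39 t * h⁻¹ = X 39 (χ1 * t)) ∧ (∀ t : F, h * X 45 t * h⁻¹ = X 45 (χ2 * t)) ∧
      (χ1 = 1 → χ2 = 1 → h ∈ LJ F) := by
  have hT : TableOK chevF4 := Cfsg.Agent.Lib.Helper23Tab.tableOK_of_mem hD
  have hR : Rel chevF4 F := Cfsg.Agent.Lib.Helper22ChevRel.rel_of_mem hD
  obtain ⟨c, h0, h1, h2, h3, e, hconj⟩ := hdec h hh
  have a0 : chevF4.cartan 0 39 = 0 := by decide +kernel
  have a1 : chevF4.cartan 1 39 = -1 := by decide +kernel
  have a2 : chevF4.cartan 2 39 = 1 := by decide +kernel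
  have a3 : chevF4.cartan 3 39 = 0 := by decide +kernel
  have b0 : chevF4.cartan 0 45 = 0 := by decide +kernel
  have b1 : chevF4.cartan 1 45 = 2 := by decide +kernel
  have b2 : chevF4.cartan 2 45 = -1 := by decide +kernel
  have b3 : chevF4.cartan 3 45 = 0 := by decide +kernel
  refine ⟨(c 1)⁻¹ * c 2, (c 1) ^ 2 * (c 2)⁻¹, fun t => ?_, fun t => ?_, fun hχ1 hχ2 => ?_⟩
  · rw [hconj 39 (by norm_num) t, a0, a1, a2, a3]
    congr 1
    simp only [zpow_zero, zpow_neg, zpow_one, one_mul, mul_assoc]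
  · rw [hconj 45 (by norm_num) t, b0, b1, b2, b3]
    congr 1
    simp only [zpow_zero, zpow_neg, zpow_one, one_mul, mul_assoc]
    rw [show (2 : ℤ) = ((2 : ℕ) : ℤ) from rfl, zpow_natCast]
  · have e12 : c 2 = c 1 := by
      field_simp at hχ1
      exact hχ1
    have e1 : c 1 = 1 := by
      rw [e12] at hχ2
      field_simp at hχ2
      exact hχ2
    have e2 : c 2 = 1 := by rw [e12, e1]
    rw [e, e1, e2, Cfsg.Agent.Lib.LeadChevCent.hG_one hD hT hR (by decide),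
      Cfsg.Agent.Lib.LeadChevCent.hG_one hD hT hR (by decide), mul_one, mul_one]
    have hX : ∀ r : ℕ, r ∈ [33, 14, 24, 23] → ∀ t : F, H46FCRel.X r t ∈ LJ F := fun r hr t =>
      Subgroup.subset_closure ⟨r, hr, t, rfl⟩
    have s0 : chevF4.simple 0 = 33 := by decide
    have s3 : chevF4.simple 3 = 24 := by decide
    rw [s0, s3]
    exact mul_mem (hG_mem 33 14 (by decide) (hX 33 (by simp)) (hX 14 (by simp)) _)
      (hG_mem 24 23 (by decide) (hX 24 (by simp)) (hX 23 (by simp)) _)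

/-- same with `cartan · 44 = [1,0,0,0]`, `cartan · 47 = [0,0,0,1]`. -/
theorem hcentW (h : GL chevF4.Idx F) (hh : h ∈ chevF4.diagonalSubgroup F) :
    ∃ χ1 χ2 : F, (∀ t : F, h * X 44 t * h⁻¹ = X 44 (χ1 * t)) ∧ (∀ t : F, h * X 47 t * h⁻¹ = X 47 (χ2 * t)) ∧
      (χ1 = 1 → χ2 = 1 → h ∈ closure {g | ∃ r ∈ [27, 20, 25, 22], ∃ t : F, g = X r t}) := by
  have hT : TableOK chevF4 := Cfsg.Agent.Lib.Helper23Tab.tableOK_of_mem hD
  have hR : Rel chevF4 F := Cfsg.Agent.Lib.Helper22ChevRel.rel_of_mem hD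
  obtain ⟨c, h0, h1, h2, h3, e, hconj⟩ := hdec h hh
  have a0 : chevF4.cartan 0 44 = 1 := by decide +kernel
  have a1 : chevF4.cartan 1 44 = 0 := by decide +kernel
  have a2 : chevF4.cartan 2 44 = 0 := by decide +kernel
  have a3 : chevF4.cartan 3 44 = 0 := by decide +kernel
  have b0 : chevF4.cartan 0 47 = 0 := by decide +kernel
  have b1 : chevF4.cartan 1 47 = 0 := by decide +kernel
  have b2 : chevF4.cartan 2 47 = 0 := by decide +kernel
  have b3 : chevF4.cartan 3 47 = 1 := by decide +kernel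
  refine ⟨c 0, c 3, fun t => ?_, fun t => ?_, fun hχ1 hχ2 => ?_⟩
  · rw [hconj 44 (by norm_num) t, a0, a1, a2, a3]
    congr 1
    simp only [zpow_zero, zpow_one, one_mul]
  · rw [hconj 47 (by norm_num) t, b0, b1, b2, b3]
    congr 1
    simp only [zpow_zero, zpow_one, one_mul]
  · rw [e, hχ1, hχ2, Cfsg.Agent.Lib.LeadChevCent.hG_one hD hT hR (by decide),
      Cfsg.Agent.Lib.LeadChevCent.hG_one hD hT hR (by decide), mul_one, one_mul]
    have hX : ∀ r : ℕ, r ∈ [27, 20, 25, 22] → ∀ t : F,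
        H46FCRel.X r t ∈ closure {g | ∃ r ∈ [27, 20, 25, 22], ∃ t : F, g = X r t} := fun r hr t =>
      Subgroup.subset_closure ⟨r, hr, t, rfl⟩
    have s1 : chevF4.simple 1 = 27 := by decide
    have s2 : chevF4.simple 2 = 25 := by decide
    rw [s1, s2]
    exact mul_mem (hG_mem 27 20 (by decide) (hX 27 (by simp)) (hX 20 (by simp)) _)
      (hG_mem 25 22 (by decide) (hX 25 (by simp)) (hX 22 (by simp)) _)

end Cfsg.Agent.Lib.H46FCHCent
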