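import Cfsg.Agent.Lib.H46FCRel
import Cfsg.Agent.Lib.H46WCUkN
import Cfsg.Agent.Lib.H46FCMulE

set_option autoImplicit false
set_option linter.unusedSectionVars false
set_option linter.unusedVariables false

namespace Cfsg.Agent.Lib.H46FCMemE

open Subgroup Cfsg.Lie Cfsg.Lie.ChevalleyDatum
open Cfsg.Agent.Lib.Helper23Grp Cfsg.Agent.Lib.Helper23RG Cfsg.Agent.Lib.Helper23RG.RG
  Cfsg.Agent.Lib.Helper23Table Cfsg.Agent.Lib.Helper23Chev
  Cfsg.Agent.Lib.Helper22ChevBasic Cfsg.Agent.Lib.Helper22ChevU Cfsg.Agent.Lib.Helper22ChevPar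
  Cfsg.Agent.Lib.H46FCRel

variable {F : Type*} [Field F] [CharP F 2]

omit [CharP F 2] in
theorem eL_single (r : ℕ) (hr : r ∈ S) (c : F) :
    X r c = eL (fun k => if k = r then c else 0) := by
  have h6 : r = 39 ∨ r = 40 ∨ r = 44 ∨ r = 45 ∨ r = 46 ∨ r = 47 := by
    simpa [S] using hr
  rcases h6 with rfl | rfl | rfl | rfl | rfl | rfl <;>
    simp [eL, X_zero]

/-- closure induction with `mulE`, `eL_zero`, `eL_sq` (inverse = itself); a generator `X r c`, `r ∈ S`, is `eL (fun k => if k = r then c else 0)` (six cases, `X_zero`). -/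
theorem memE (Ψ : ℕ → Prop) (g : GL chevF4.Idx F) (hg : g ∈ E' F Ψ) :
    ∃ t : ℕ → F, g = eL t ∧ ∀ r, ¬ Ψ r → t r = 0 := by
  unfold E' at hg
  induction hg using Subgroup.closure_induction with
  | mem x hx =>
    obtain ⟨r, hr, c, hΨ, rfl⟩ := hx
    refine ⟨fun k => if k = r then c else 0, eL_single r hr c, ?_⟩
    intro k hk
    have : k ≠ r := by
      rintro rfl
      exact hk hΨ
    simp [this]
  | one => exact ⟨fun _ => 0, (H46FCMulE.eL_zero).symm, fun _ _ => rfl⟩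
  | mul x y _ _ hx hy =>
    obtain ⟨t, rfl, ht⟩ := hx
    obtain ⟨t', rfl, ht'⟩ := hy
    refine ⟨fun r => t r + t' r, H46FCMulE.mulE t t', ?_⟩
    intro r hr
    simp [ht r hr, ht' r hr]
  | inv x _ hx =>
    obtain ⟨t, rfl, ht⟩ := hx
    exact ⟨t, inv_eq_of_mul_eq_one_left (H46FCMulE.eL_sq t), ht⟩

omit [CharP F 2] in
theorem eL_mem (Ψ : ℕ → Prop) (t : ℕ → F) (h : ∀ r ∈ S, ¬ Ψ r → t r = 0) : eL t ∈ E' F Ψ := by
  have key : ∀ r ∈ S, X r (t r) ∈ E' F Ψ := by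
    intro r hr
    by_cases hΨ : Ψ r
    · exact Subgroup.subset_closure ⟨r, hr, t r, hΨ, rfl⟩
    · rw [h r hr hΨ, X_zero]
      exact one_mem _
  unfold eL
  exact mul_mem (mul_mem (mul_mem (mul_mem (mul_mem (key 39 (by simp [S])) (key 40 (by simp [S])))
    (key 44 (by simp [S]))) (key 45 (by simp [S]))) (key 46 (by simp [S]))) (key 47 (by simp [S]))

omit [CharP F 2] in
/-- generators have index `≥ 39`. -/
theorem E_le_Uk (Ψ : ℕ → Prop) : E' F Ψ ≤ Uk (F := F) hD 39 := by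
  unfold E'
  rw [Subgroup.closure_le]
  rintro g ⟨r, hr, t, -, rfl⟩
  have h39 : 39 ≤ r := by
    have h6 : r = 39 ∨ r = 40 ∨ r = 44 ∨ r = 45 ∨ r = 46 ∨ r = 47 := by
      simpa [S] using hr
    omega
  exact xG_mem_Uk hD h39 t

end Cfsg.Agent.Lib.H46FCMemE
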