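import Cfsg.Agent.Lib.H46FCRel
import Cfsg.Agent.Lib.H46WCUkN
import Cfsg.Agent.Lib.H46FCPeel
import Cfsg.Agent.Lib.H46FCGL
import Cfsg.Agent.Lib.H46FCMemE

set_option autoImplicit false
set_option linter.unusedSectionVars false
set_option linter.unusedVariables false

namespace Cfsg.Agent.Lib.H46FCMid

open Subgroup Cfsg.Lie Cfsg.Lie.ChevalleyDatum
open Cfsg.Agent.Lib.Helper23Grp Cfsg.Agent.Lib.Helper23RG Cfsg.Agent.Lib.Helper23RG.RG
  Cfsg.Agent.Lib.Helper23Table Cfsg.Agent.Lib.Helper23Chev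
  Cfsg.Agent.Lib.Helper22ChevBasic Cfsg.Agent.Lib.Helper22ChevU Cfsg.Agent.Lib.Helper22ChevPar
  Cfsg.Agent.Lib.H46FCRel

variable {F : Type*} [Field F] [CharP F 2]

/-- `E ≤ Uk 39` (`E_le_Uk`), so `gl` with `K = 39` gives `39 ≤ p r` on the support.  Let `t₁`/`t₂` be `t` restricted to `p r ∈ {39, 40}` / its complement (`if`), `z₁ = n * eL t₁ * n⁻¹ ∈ C := closure (X 39 _, X 40 _)`,
`z₂ = n * eL t₂ * n⁻¹ ∈ Uk 41` (`conj_mem`), `z = z₁ * z₂` (`mulE`).  By `memE`, `z = eL s = c' * a'` with `c' = X 39 _ * X 40 _ ∈ C`, `a' ∈ Uk 44`.  `C ∩ Uk 41 = 1` (elements of `C` are `X 39 a * X 40 b` since they commute (`CT`, `tabS`); `eq_zero_of_mem_Uk` twice),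
so `z₂ = a' ∈ Uk 44`; `gl` with `K = 44` for `t₂`. -/
theorem mid (n : GL chevF4.Idx F) (p : ℕ → ℕ) (κ : ℕ → F)
    (hn : ∀ r < 48, ∀ t : F, n * X r t * n⁻¹ = X (p r) (κ r * t)) (t : ℕ → F)
    (hz : n * eL t * n⁻¹ ∈ E' F (fun _ => True)) : ∀ r ∈ S, t r ≠ 0 → p r = 39 ∨ p r = 40 ∨ 44 ≤ p r := by
  classical
  have hn48 : chevF4.nroots = 48 := by decide
  have hn24 : chevF4.nroots / 2 = 24 := by decide
  have hanti : ∀ {i j : ℕ}, i ≤ j → Uk (F := F) hD j ≤ Uk (F := F) hD i := by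
    intro i j hij
    unfold Uk
    apply Subgroup.closure_mono
    rintro g ⟨r, t, h, e⟩
    exact ⟨r, t, by omega, e⟩
  have h39 := H46FCGL.gl n p κ hn t 39 (by norm_num) (by norm_num) (H46FCMemE.E_le_Uk _ hz)
  have hc3940 : ∀ a b : F, X 39 a * X 40 b = X 40 b * X 39 a := fun a b =>
    CT (by norm_num) (by norm_num) (tabS 39 (by simp [S]) 40 (by simp [S])) a b
  let C : Subgroup (GL chevF4.Idx F) :=
    { carrier := {g | ∃ a b : F, g = X 39 a * X 40 b}
      one_mem' := ⟨0, 0, by rw [X_zero, X_zero, one_mul]⟩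
      mul_mem' := by
        rintro _ _ ⟨a, b, rfl⟩ ⟨a', b', rfl⟩
        refine ⟨a + a', b + b', ?_⟩
        rw [← X_add, ← X_add]
        calc X 39 a * X 40 b * (X 39 a' * X 40 b')
            = X 39 a * (X 40 b * X 39 a') * X 40 b' := by simp only [mul_assoc]
          _ = X 39 a * (X 39 a' * X 40 b) * X 40 b' := by rw [hc3940]
          _ = _ := by simp only [mul_assoc]
      inv_mem' := by
        rintro _ ⟨a, b, rfl⟩
        exact ⟨a, b, by rw [mul_inv_rev, X_inv, X_inv, hc3940]⟩ }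
  have hCU : ∀ g ∈ C, g ∈ Uk (F := F) hD 41 → g = 1 := by
    rintro _ ⟨a, b, rfl⟩ hg
    have ha : a = 0 := H46FCZeroE.peel0 (k := 39) (by norm_num) (by norm_num)
      (xG_mem_Uk hD (le_refl _) b) (hanti (by norm_num) hg)
    subst ha
    rw [X_zero, one_mul] at hg ⊢
    have hb : b = 0 := eq_zero_of_mem_Uk hD (k := 40) (by rw [hn24]; norm_num) (by rw [hn48]; norm_num) hg
    rw [hb, X_zero]
  obtain ⟨Pd, hPd⟩ : ∃ Pd : ℕ → Prop, ∀ r, Pd r ↔ (p r = 39 ∨ p r = 40) := ⟨_, fun _ => Iff.rfl⟩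
  have hsplit : eL t = eL (fun r => if Pd r then t r else 0) * eL (fun r => if Pd r then 0 else t r) := by
    rw [H46FCMulE.mulE]
    congr 1
    funext r
    by_cases h : Pd r <;> simp [h]
  have hz1 : n * eL (fun r => if Pd r then t r else 0) * n⁻¹ ∈ C := by
    apply H46FCPeel.conj_mem n p κ hn
    intro r hr h0 c
    have hP : Pd r := by
      by_contra h
      simp [h] at h0
    rcases (hPd r).1 hP with h | h
    · rw [h]; exact ⟨c, 0, by rw [X_zero, mul_one]⟩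
    · rw [h]; exact ⟨0, c, by rw [X_zero, one_mul]⟩
  have hz2 : n * eL (fun r => if Pd r then 0 else t r) * n⁻¹ ∈ Uk (F := F) hD 41 := by
    apply H46FCPeel.conj_mem n p κ hn
    intro r hr h0 c
    have hP : ¬ Pd r := by
      intro h
      simp [h] at h0
    have ht : t r ≠ 0 := by simpa [hP] using h0
    have h1 := h39 r hr ht
    have h2 : ¬ (p r = 39 ∨ p r = 40) := fun h => hP ((hPd r).2 h)
    exact xG_mem_Uk hD (by omega) _
  obtain ⟨s, hs, -⟩ := H46FCMemE.memE _ _ hz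
  have ha' : X 44 (s 44) * (X 45 (s 45) * (X 46 (s 46) * X 47 (s 47))) ∈ Uk (F := F) hD 44 :=
    mul_mem (xG_mem_Uk hD (by norm_num) _) (mul_mem (xG_mem_Uk hD (by norm_num) _)
      (mul_mem (xG_mem_Uk hD (by norm_num) _) (xG_mem_Uk hD (by norm_num) _)))
  have hzz : n * eL t * n⁻¹ = (n * eL (fun r => if Pd r then t r else 0) * n⁻¹) *
      (n * eL (fun r => if Pd r then 0 else t r) * n⁻¹) := by
    rw [hsplit]; group
  rw [H46FCZeroE.eL_assoc s] at hs
  have hkey : (X 39 (s 39) * X 40 (s 40))⁻¹ * (n * eL (fun r => if Pd r then t r else 0) * n⁻¹)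
      = X 44 (s 44) * (X 45 (s 45) * (X 46 (s 46) * X 47 (s 47))) *
        (n * eL (fun r => if Pd r then 0 else t r) * n⁻¹)⁻¹ := by
    have h3 : (n * eL (fun r => if Pd r then t r else 0) * n⁻¹) *
        (n * eL (fun r => if Pd r then 0 else t r) * n⁻¹) = X 39 (s 39) * X 40 (s 40) *
          (X 44 (s 44) * (X 45 (s 45) * (X 46 (s 46) * X 47 (s 47)))) := by
      rw [← hzz, hs]; simp only [mul_assoc]
    rw [inv_mul_eq_iff_eq_mul, ← mul_assoc, eq_mul_inv_iff_mul_eq]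
    exact h3
  have h1 := hCU _ (C.mul_mem (C.inv_mem ⟨_, _, rfl⟩) hz1)
    (by rw [hkey]; exact mul_mem (hanti (by norm_num) ha') (inv_mem hz2))
  rw [hkey] at h1
  have hz2' := (mul_inv_eq_one.1 h1).symm
  have h44 := H46FCGL.gl n p κ hn _ 44 (by norm_num) (by norm_num) (by rw [hz2']; exact ha')
  intro r hr ht
  by_cases hP : Pd r
  · rcases (hPd r).1 hP with h | h
    · left; exact h
    · right; left; exact h
  · right; right
    exact h44 r hr (by simpa [hP] using ht)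

end Cfsg.Agent.Lib.H46FCMid
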