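import Cfsg.Agent.Lib.H46FCRel
import Cfsg.Agent.Lib.H46WCUkN

set_option autoImplicit false
set_option linter.unusedSectionVars false
set_option linter.unusedVariables false

namespace Cfsg.Agent.Lib.H46FCWinv

open Subgroup Cfsg.Lie Cfsg.Lie.ChevalleyDatum
open Cfsg.Agent.Lib.Helper23Grp Cfsg.Agent.Lib.Helper23RG Cfsg.Agent.Lib.Helper23RG.RG
  Cfsg.Agent.Lib.Helper23Table Cfsg.Agent.Lib.Helper23Chev
  Cfsg.Agent.Lib.Helper22ChevBasic Cfsg.Agent.Lib.Helper22ChevU Cfsg.Agent.Lib.Helper22ChevPar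
  Cfsg.Agent.Lib.H46FCRel

variable {F : Type*} [Field F] [CharP F 2]

/-- `⟨s, r^∨⟩` from the tables -/
def pairT (r s : ℕ) : ℤ := ((List.range 4).map fun i => ((chevF4.coroot.getD r #[]).getD i 0) * chevF4.cartan i s).sum

/-- the short roots -/
def Sh (r : ℕ) : Prop := r ∈ [27,28,29,33,34,35,36,37,38,39,40,44,20,19,18,14,13,12,11,10,9,8,7,3]

instance (r : ℕ) : Decidable (Sh r) := by unfold Sh; infer_instance

def Inv (π : Equiv.Perm (Fin chevF4.nroots)) : Prop :=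
  (∀ r, Sh r.val ↔ Sh (π r).val) ∧ ∀ r s, pairT (π r).val (π s).val = pairT r.val s.val

theorem Inv.one : Inv 1 := ⟨fun _ => Iff.rfl, fun _ _ => rfl⟩

theorem Inv.mul {π ρ : Equiv.Perm (Fin chevF4.nroots)} (h1 : Inv π) (h2 : Inv ρ) : Inv (π * ρ) :=
  ⟨fun r => (h2.1 r).trans (h1.1 (ρ r)), fun r s => (h1.2 (ρ r) (ρ s)).trans (h2.2 r s)⟩

theorem Inv.inv {π : Equiv.Perm (Fin chevF4.nroots)} (h1 : Inv π) : Inv π⁻¹ := by
  refine ⟨fun r => ?_, fun r s => ?_⟩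
  · have := h1.1 (π⁻¹ r)
    simp at this
    exact this.symm
  · have := h1.2 (π⁻¹ r) (π⁻¹ s)
    simp at this
    exact this.symm

set_option maxRecDepth 100000 in
theorem tab1 : ∀ i : Fin 4, ∀ r : Fin 48, (Sh r.val ↔ Sh (chevF4.reflectRoot i.val r.val)) := by decide +kernel

set_option maxRecDepth 100000 in
theorem tab2 : ∀ i : Fin 4, ∀ r s : Fin 48,
    pairT (chevF4.reflectRoot i.val r.val) (chevF4.reflectRoot i.val s.val) = pairT r.val s.val := by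
  decide +kernel

omit [CharP F 2] in
theorem Inv_refl (hT : TableOK chevF4) (hR : Rel chevF4 F) (i : Fin chevF4.rank) :
    Inv (reflPerm (rg_ok hT hR) i) :=
  ⟨fun r => tab1 i r, fun r s => tab2 i r s⟩

omit [CharP F 2] in
theorem Mon_N' (hT : TableOK chevF4) (hR : Rel chevF4 F) :
    ∀ n ∈ (rg hT hR).N, ∃ π, (rg hT hR).Mon n π ∧ Inv π := by
  have ok := rg_ok hT hR
  intro n hn
  rw [N_eq ok, sup_eq_closure] at hn
  induction hn using closure_induction with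
  | mem x hx =>
    rcases hx with hx | hx
    · exact ⟨1, Mon_H ok x hx, Inv.one⟩
    · induction hx using closure_induction with
      | mem y hy =>
        obtain ⟨i, rfl⟩ := hy
        exact ⟨_, Mon_nn ok i, Inv_refl hT hR i⟩
      | one => exact ⟨1, Mon.one, Inv.one⟩
      | mul a b _ _ ha hb =>
        obtain ⟨π, ha, ha'⟩ := ha
        obtain ⟨ρ, hb, hb'⟩ := hb
        exact ⟨_, ha.mul hb, ha'.mul hb'⟩
      | inv a _ ha =>
        obtain ⟨π, ha, ha'⟩ := ha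
        exact ⟨_, ha.inv, ha'.inv⟩
  | one => exact ⟨1, Mon.one, Inv.one⟩
  | mul a b _ _ ha hb =>
    obtain ⟨π, ha, ha'⟩ := ha
    obtain ⟨ρ, hb, hb'⟩ := hb
    exact ⟨_, ha.mul hb, ha'.mul hb'⟩
  | inv a _ ha =>
    obtain ⟨π, ha, ha'⟩ := ha
    exact ⟨_, ha.inv, ha'.inv⟩

omit [CharP F 2] in
theorem winv (hT : TableOK chevF4) (hR : Rel chevF4 F) (n : GL chevF4.Idx F) (hn : n ∈ (rg hT hR).N) :
    ∃ p : ℕ → ℕ, ∃ κ : ℕ → F, (∀ r, κ r ≠ 0) ∧ (∀ r < 48, p r < 48) ∧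
      (∀ r < 48, ∀ t : F, n * X r t * n⁻¹ = X (p r) (κ r * t)) ∧
      (∀ r < 48, (Sh r ↔ Sh (p r))) ∧ (∀ r < 48, ∀ s < 48, pairT (p r) (p s) = pairT r s) := by
  obtain ⟨π, ⟨_, c, hc0, _, hc⟩, hI⟩ := Mon_N' hT hR n hn
  have hxx : ∀ (r : ℕ) (a : F), xg chevF4 F r a = xG hD r a := xg_eq_xG hR hD
  refine ⟨fun r => if h : r < 48 then (π ⟨r, h⟩).val else r, fun r => if h : r < 48 then c ⟨r, h⟩ else 1,
    ?_, ?_, ?_, ?_, ?_⟩
  · intro r
    by_cases h : r < 48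
    · simp only [h, dif_pos]; exact hc0 _
    · simp only [h, dif_neg, not_false_eq_true]; exact one_ne_zero
  · intro r h
    simp only [h, dif_pos]
    exact (π ⟨r, h⟩).2
  · intro r h t
    simp only [h, dif_pos]
    have := hc ⟨r, h⟩ t
    show _ * xG hD r t * _ = xG hD _ _
    rw [← hxx, ← hxx]
    exact this
  · intro r h
    simp only [h, dif_pos]
    exact hI.1 ⟨r, h⟩
  · intro r h s h'
    simp only [h, h', dif_pos]
    exact hI.2 ⟨r, h⟩ ⟨s, h'⟩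

end Cfsg.Agent.Lib.H46FCWinv
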