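import Cfsg.Agent.Lib.H46FCRel
import Cfsg.Agent.Lib.H46WCUkN
import Cfsg.Agent.Lib.H46FCWinv

set_option autoImplicit false
set_option linter.unusedSectionVars false
set_option linter.unusedVariables false

namespace Cfsg.Agent.Lib.H46FCPi

open Subgroup Cfsg.Lie Cfsg.Lie.ChevalleyDatum
open Cfsg.Agent.Lib.Helper23Grp Cfsg.Agent.Lib.Helper23RG Cfsg.Agent.Lib.Helper23RG.RG
  Cfsg.Agent.Lib.Helper23Table Cfsg.Agent.Lib.Helper23Chev
  Cfsg.Agent.Lib.Helper22ChevBasic Cfsg.Agent.Lib.Helper22ChevU Cfsg.Agent.Lib.Helper22ChevPar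
  Cfsg.Agent.Lib.H46FCRel

variable {F : Type*} [Field F] [CharP F 2]

open H46FCWinv in
set_option maxRecDepth 100000 in
theorem tA : ∀ a b : Fin 48, Sh a.val → ¬ Sh b.val → (a.val = 39 ∨ a.val = 40 ∨ 44 ≤ a.val) →
    (b.val = 39 ∨ b.val = 40 ∨ 44 ≤ b.val) → pairT a.val b.val = 0 → a.val = 39 ∧ b.val = 45 := by decide +kernel

open H46FCWinv in
set_option maxRecDepth 100000 in
theorem tB : ∀ c : Fin 48, pairT 39 c.val = 1 → pairT 45 c.val = 1 → c.val = 40 ∨ c.val = 44 := by decide +kernel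

open H46FCWinv in
set_option maxRecDepth 100000 in
theorem tC : ∀ c : Fin 48, pairT 39 c.val = 2 → pairT 45 c.val = 1 → c.val = 46 ∨ c.val = 47 := by decide +kernel

open H46FCWinv in
set_option maxRecDepth 100000 in
theorem tD : pairT 39 45 = 0 ∧ pairT 39 40 = 1 ∧ pairT 45 40 = 1 ∧ pairT 39 44 = 1 ∧ pairT 45 44 = 1 ∧
    pairT 39 46 = 2 ∧ pairT 45 46 = 1 ∧ pairT 39 47 = 2 ∧ pairT 45 47 = 1 := by decide +kernel

/-- Pure table lemma.  `∀ a b : Fin 48, Sh a → ¬ Sh b → (a = 39 ∨ a = 40 ∨ 44 ≤ a) → (b = 39 ∨ b = 40 ∨ 44 ≤ b) → pairT a b = 0 → a = 39 ∧ b = 45` and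
`∀ c : Fin 48, pairT 39 c = 1 → pairT 45 c = 1 → c = 40 ∨ c = 44`, `∀ c : Fin 48, pairT 39 c = 2 → pairT 45 c = 1 → c = 46 ∨ c = 47` by `decide +kernel`; `pairT 39 45 = 0`, `pairT 39 40 = 1 = pairT 45 40` etc. -/
theorem pi (p : ℕ → ℕ) (hp : ∀ r < 48, p r < 48) (hsh : ∀ r < 48, (H46FCWinv.Sh r ↔ H46FCWinv.Sh (p r)))
    (hpair : ∀ r < 48, ∀ s < 48, H46FCWinv.pairT (p r) (p s) = H46FCWinv.pairT r s)
    (h39 : p 39 = 39 ∨ p 39 = 40 ∨ 44 ≤ p 39) (h45 : p 45 = 39 ∨ p 45 = 40 ∨ 44 ≤ p 45) : ∀ r ∈ S, p r ∈ S := by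
  obtain ⟨d0, d1, d2, d3, d4, d5, d6, d7, d8⟩ := tD
  have s39 : H46FCWinv.Sh (p 39) := (hsh 39 (by norm_num)).1 (by decide)
  have s45 : ¬ H46FCWinv.Sh (p 45) := fun h => absurd ((hsh 45 (by norm_num)).2 h) (by decide)
  obtain ⟨e39, e45⟩ := tA ⟨p 39, hp 39 (by norm_num)⟩ ⟨p 45, hp 45 (by norm_num)⟩ s39 s45 h39 h45
    (by rw [hpair 39 (by norm_num) 45 (by norm_num)]; exact d0)
  simp only at e39 e45
  have q : ∀ r < 48, H46FCWinv.pairT 39 (p r) = H46FCWinv.pairT 39 r ∧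
      H46FCWinv.pairT 45 (p r) = H46FCWinv.pairT 45 r := by
    intro r hr
    have a1 := hpair 39 (by norm_num) r hr
    have a2 := hpair 45 (by norm_num) r hr
    rw [e39] at a1
    rw [e45] at a2
    exact ⟨a1, a2⟩
  intro r hr
  simp only [S, List.mem_cons, List.not_mem_nil, or_false] at hr ⊢
  rcases hr with rfl | rfl | rfl | rfl | rfl | rfl
  · left; exact e39
  · obtain ⟨a1, a2⟩ := q 40 (by norm_num)
    rcases tB ⟨p 40, hp 40 (by norm_num)⟩ (by rw [a1]; exact d1) (by rw [a2]; exact d2) with h | h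
    · right; left; exact h
    · right; right; left; exact h
  · obtain ⟨a1, a2⟩ := q 44 (by norm_num)
    rcases tB ⟨p 44, hp 44 (by norm_num)⟩ (by rw [a1]; exact d3) (by rw [a2]; exact d4) with h | h
    · right; left; exact h
    · right; right; left; exact h
  · right; right; right; left; exact e45
  · obtain ⟨a1, a2⟩ := q 46 (by norm_num)
    rcases tC ⟨p 46, hp 46 (by norm_num)⟩ (by rw [a1]; exact d5) (by rw [a2]; exact d6) with h | h
    · right; right; right; right; left; exact h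
    · right; right; right; right; right; exact h
  · obtain ⟨a1, a2⟩ := q 47 (by norm_num)
    rcases tC ⟨p 47, hp 47 (by norm_num)⟩ (by rw [a1]; exact d7) (by rw [a2]; exact d8) with h | h
    · right; right; right; right; left; exact h
    · right; right; right; right; right; exact h

end Cfsg.Agent.Lib.H46FCPi
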