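import Cfsg.Agent.Lib.H46FCRel
import Cfsg.Agent.Lib.H46WCUkN
import Cfsg.Agent.Lib.H46FCWinv
import Cfsg.Agent.Lib.H46FCPi
import Cfsg.Agent.Lib.H46FCMid
import Cfsg.Agent.Lib.H46FCMemE
import Cfsg.Agent.Lib.H46FCBNorm
import Cfsg.Agent.Lib.H46FCZeroE

set_option autoImplicit false
set_option linter.unusedSectionVars false
set_option linter.unusedVariables false

namespace Cfsg.Agent.Lib.H46FCInNE

open Subgroup Cfsg.Lie Cfsg.Lie.ChevalleyDatum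
open Cfsg.Agent.Lib.Helper23Grp Cfsg.Agent.Lib.Helper23RG Cfsg.Agent.Lib.Helper23RG.RG
  Cfsg.Agent.Lib.Helper23Table Cfsg.Agent.Lib.Helper23Chev
  Cfsg.Agent.Lib.Helper22ChevBasic Cfsg.Agent.Lib.Helper22ChevU Cfsg.Agent.Lib.Helper22ChevPar
  Cfsg.Agent.Lib.H46FCRel

variable {F : Type*} [Field F] [CharP F 2]

/-- `v = X 39 1 * X 45 1` as an `eL`. -/
theorem v_eq : (X 39 1 * X 45 1 : GL chevF4.Idx F) =
    eL (fun k => if k = 39 then (1 : F) else if k = 45 then 1 else 0) := by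
  simp [eL]

/-- The centraliser of `v = X 39 1 * X 45 1` maps `E` into itself. -/
theorem inNE (g : GL chevF4.Idx F) (hg : g ∈ chevF4.group F) (hc : g * (X 39 1 * X 45 1) = (X 39 1 * X 45 1) * g) :
    ∀ y ∈ E' F (fun _ => True), g * y * g⁻¹ ∈ E' F (fun _ => True) := by
  have hT : TableOK chevF4 := Cfsg.Agent.Lib.Helper23Tab.tableOK_of_mem hD
  have hR : Rel chevF4 F := Cfsg.Agent.Lib.Helper22ChevRel.rel_of_mem hD
  have ok := rg_ok hT hR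
  have hgG : g ∈ (rg hT hR).G := by rw [G_eq]; exact hg
  obtain ⟨n, hn, b1, hb1, b2, hb2, rfl⟩ :=
    Cfsg.Agent.Lib.Helper23RG.RG.bruhat_ex ok (hBV hT hR) (hUN hT hR) hgG
  rw [B_eq] at hb1 hb2
  set v : GL chevF4.Idx F := X 39 1 * X 45 1 with hv
  have hU := Cfsg.Agent.Lib.H46FCBNorm.bnormT (F := F)
  have hU45 := Cfsg.Agent.Lib.H46FCBNorm.bnorm45 (F := F)
  have hU40 : ∀ b ∈ chevF4.borelSubgroup F, ∀ u ∈ Uk (F := F) hD 40, b * u * b⁻¹ ∈ Uk (F := F) hD 40 :=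
    Cfsg.Agent.Lib.H46WCUkN.Uk_conj hD (by decide)
  have hvE : v ∈ E' F (fun _ => True) := by
    rw [hv, v_eq]
    exact Cfsg.Agent.Lib.H46FCMemE.eL_mem _ _ (fun r _ h => absurd trivial h)
  have hy0 : b2 * v * b2⁻¹ ∈ E' F (fun _ => True) := hU b2 hb2 _ hvE
  obtain ⟨t, hyt, -⟩ := Cfsg.Agent.Lib.H46FCMemE.memE _ _ hy0
  have eback : b2⁻¹ * (b2 * v * b2⁻¹) * b2⁻¹⁻¹ = v := by group
  have ht39 : t 39 ≠ 0 := by
    intro h0
    have h1 : b2 * v * b2⁻¹ ∈ Uk (F := F) hD 40 := by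
      rw [hyt]
      unfold eL
      rw [h0, X_zero, one_mul]
      exact mul_mem (mul_mem (mul_mem (mul_mem (xG_mem_Uk hD (by norm_num) _)
        (xG_mem_Uk hD (by norm_num) _)) (xG_mem_Uk hD (by norm_num) _))
        (xG_mem_Uk hD (by norm_num) _)) (xG_mem_Uk hD (by norm_num) _)
    have h2 := hU40 b2⁻¹ (inv_mem hb2) _ h1
    rw [eback, hv, v_eq] at h2
    have h3 := Cfsg.Agent.Lib.H46FCZeroE.t39 h2
    simp at h3
  have ht45 : t 45 ≠ 0 := by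
    intro h0
    have h1 : b2 * v * b2⁻¹ ∈ E' F (fun r => r ≠ 45) := by
      rw [hyt]
      apply Cfsg.Agent.Lib.H46FCMemE.eL_mem
      intro r _ hr
      have : r = 45 := by
        by_contra h; exact hr h
      rw [this]; exact h0
    have h2 := hU45 b2⁻¹ (inv_mem hb2) _ h1
    rw [eback] at h2
    obtain ⟨t', hvt', ht'⟩ := Cfsg.Agent.Lib.H46FCMemE.memE _ _ h2
    rw [hv, v_eq] at hvt'
    have h3 := Cfsg.Agent.Lib.H46FCZeroE.injE hvt' 45 (by decide)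
    rw [ht' 45 (by simp)] at h3
    simp at h3
  have hz : n * eL t * n⁻¹ ∈ E' F (fun _ => True) := by
    have e : n * (b2 * v * b2⁻¹) * n⁻¹ = b1⁻¹ * v * b1⁻¹⁻¹ := by
      calc n * (b2 * v * b2⁻¹) * n⁻¹ = b1⁻¹ * (b1 * n * b2 * v) * b2⁻¹ * n⁻¹ := by group
        _ = b1⁻¹ * v * b1⁻¹⁻¹ := by rw [hc]; group
    rw [← hyt, e]
    exact hU b1⁻¹ (inv_mem hb1) _ hvE
  obtain ⟨p, κ, hκ, hp48, hnX, hsh, hpair⟩ := Cfsg.Agent.Lib.H46FCWinv.winv hT hR n hn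
  have hmid := Cfsg.Agent.Lib.H46FCMid.mid n p κ hnX t hz
  have hS : ∀ r ∈ S, p r ∈ S :=
    Cfsg.Agent.Lib.H46FCPi.pi p hp48 hsh hpair (hmid 39 (by decide) ht39) (hmid 45 (by decide) ht45)
  have hnU : ∀ u ∈ E' F (fun _ => True), n * u * n⁻¹ ∈ E' F (fun _ => True) := by
    apply Helper23Grp.conj_closure_mem
    rintro _ ⟨r, hr, c, -, rfl⟩
    have hr48 : r < 48 := (Cfsg.Agent.Lib.H46FCBNorm.S_lt hr).1
    rw [hnX r hr48 c]
    exact subset_closure ⟨p r, hS r hr, _, trivial, rfl⟩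
  intro y hy
  have e : b1 * n * b2 * y * (b1 * n * b2)⁻¹ = b1 * (n * (b2 * y * b2⁻¹) * n⁻¹) * b1⁻¹ := by group
  rw [e]
  exact hU b1 hb1 _ (hnU _ (hU b2 hb2 _ hy))

end Cfsg.Agent.Lib.H46FCInNE
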