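import Cfsg.Agent.Lib.H46FCRel
import Cfsg.Agent.Lib.H46WCUkN

set_option autoImplicit false
set_option linter.unusedSectionVars false
set_option linter.unusedVariables false

namespace Cfsg.Agent.Lib.H46FCLNorm

open Subgroup Cfsg.Lie Cfsg.Lie.ChevalleyDatum
open Cfsg.Agent.Lib.Helper23Grp Cfsg.Agent.Lib.Helper23RG Cfsg.Agent.Lib.Helper23RG.RG
  Cfsg.Agent.Lib.Helper23Table Cfsg.Agent.Lib.Helper23Chev
  Cfsg.Agent.Lib.Helper22ChevBasic Cfsg.Agent.Lib.Helper22ChevU Cfsg.Agent.Lib.Helper22ChevPar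
  Cfsg.Agent.Lib.H46FCRel

variable {F : Type*} [Field F] [CharP F 2]

/-- the unipotent radical of `P_{p1,p4}` -/
def UJ (F : Type*) [Field F] : Subgroup (GL chevF4.Idx F) := closure {g | ∃ (r : ℕ) (t : F), 25 ≤ r ∧ r < 48 ∧ r ≠ 33 ∧ g = X r t}

set_option maxRecDepth 100000 in
theorem termsJ : ∀ s ∈ [33, 14, 24, 23], ∀ r : Fin 48, 25 ≤ r.val → r.val ≠ 33 →
    ∀ c ∈ chevF4.commTerms s r.val, 25 ≤ c.1 ∧ c.1 < 48 ∧ c.1 ≠ 33 := by decide +kernel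

omit [CharP F 2] in
theorem wordG_mem_UJ (w : List (ℕ × F)) (h : ∀ p ∈ w, 25 ≤ p.1 ∧ p.1 < 48 ∧ p.1 ≠ 33) :
    wordG hD w ∈ UJ F := by
  induction w with
  | nil => simp
  | cons p w ih =>
    rw [wordG_cons]
    exact mul_mem (subset_closure ⟨p.1, p.2, (h p (by simp)).1, (h p (by simp)).2.1,
      (h p (by simp)).2.2, rfl⟩) (ih (fun q hq => h q (by simp [hq])))

omit [CharP F 2] in
theorem conjJ {s : ℕ} (hs : s ∈ [33, 14, 24, 23]) (a : F) :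
    ∀ u ∈ UJ F, X s a * u * (X s a)⁻¹ ∈ UJ F := by
  apply Helper23Grp.conj_closure_mem
  rintro g ⟨r, b, h1, h2, h3, rfl⟩
  have hs' : s = 33 ∨ s = 14 ∨ s = 24 ∨ s = 23 := by simpa using hs
  have hs48 : s < 48 := by omega
  have hrs : r ≠ s := by omega
  have hneg : r ≠ 47 - s := by omega
  have e := conjW (F := F) hs48 h2 hrs hneg a b
  rw [e, mul_inv_cancel_right]
  refine mul_mem (subset_closure ⟨r, b, h1, h2, h3, rfl⟩) (wordG_mem_UJ _ ?_)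
  intro p hp
  unfold ChevalleyDatum.commWord at hp
  rw [List.mem_map] at hp
  obtain ⟨c, hc, rfl⟩ := hp
  exact termsJ s hs ⟨r, h2⟩ h1 h3 c hc

/-- MODEL: `Cfsg/Agent/Lib/H46GCLNorm.lean`.  For `s ∈ [33,14,24,23]`, `25 ≤ r < 48`, `r ≠ 33`: `X s a * X r b * (X s a)⁻¹ = X r b * wordG hD (chevF4.commWord F s r (-a) b)` (`conjW`) and
`∀ c ∈ chevF4.commTerms s r, 25 ≤ c.1 ∧ c.1 < 48 ∧ c.1 ≠ 33` by `decide +kernel`. -/
theorem lnorm : LJ F ≤ normalizer (UJ F : Set (GL chevF4.Idx F)) := by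
  unfold LJ
  rw [closure_le]
  rintro g ⟨s, hs, t, rfl⟩
  have h1 := conjJ (F := F) hs t
  apply Helper23Grp.mem_normalizer_of_conj h1
  intro a ha
  have := h1 a ha
  rw [X_inv] at this ⊢
  exact this

end Cfsg.Agent.Lib.H46FCLNorm
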