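import Cfsg.Agent.Lib.H46FCRel
import Cfsg.Agent.Lib.H46WCUkN
import Cfsg.Agent.Lib.H46FCLNorm
import Cfsg.Agent.Lib.H46FCMemE
import Cfsg.Agent.Lib.H46FCZeroE
import Cfsg.Agent.Lib.H46FCBNorm

set_option autoImplicit false
set_option linter.unusedSectionVars false
set_option linter.unusedVariables false

namespace Cfsg.Agent.Lib.H46FCInP

open Subgroup Cfsg.Lie Cfsg.Lie.ChevalleyDatum
open Cfsg.Agent.Lib.Helper23Grp Cfsg.Agent.Lib.Helper23RG Cfsg.Agent.Lib.Helper23RG.RG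
  Cfsg.Agent.Lib.Helper23Table Cfsg.Agent.Lib.Helper23Chev
  Cfsg.Agent.Lib.Helper22ChevBasic Cfsg.Agent.Lib.Helper22ChevU Cfsg.Agent.Lib.Helper22ChevPar
  Cfsg.Agent.Lib.H46FCRel

variable {F : Type*} [Field F] [CharP F 2]

/-- MODEL: `Cfsg/Agent/Lib/H46GCInP.lean` (same lemma for `G₂`, fully proved).  `M := normalizer E ⊓ group ⊇ borelSubgroup` (`bnormT`); `LeadChevCent.hover hD hT hR M`.  `nn 1 ∉ M`: `reflectRoot 1 45 = 43`, `X 43 c ∈ E → c = 0`
(`memE`; `E`-elements: `X 43 c = eL t`; peel with `eq_zero_of_mem_Uk`: `t 39 = t 40 = 0`, then `X 43 c ∈ Uk 44`).  `nn 2 ∉ M`: `reflectRoot 2 39 = 38`, `X 38 c ∈ E ≤ Uk 39 → c = 0`.  `nn 0 = X 33 1 * X 14 _ * X 33 1`, `nn 3 = X 24 1 * X 23 _ * X 24 1 ∈ LJ F`.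
`posUnipotent ≤ UJ ⊔ LJ`; `H` normalises `UJ`, `LJ`; `lnorm`; `Helper23Grp.mem_sup_of_normalizes` twice; `UJ ≤ posUnipotent`. -/
theorem inP (g : GL chevF4.Idx F) (hg : g ∈ chevF4.group F)
    (h1 : ∀ y ∈ E' F (fun _ => True), g * y * g⁻¹ ∈ E' F (fun _ => True))
    (h2 : ∀ y ∈ E' F (fun _ => True), g⁻¹ * y * g ∈ E' F (fun _ => True)) :
    ∃ u ∈ chevF4.posUnipotent F, ∃ l ∈ LJ F, ∃ h ∈ chevF4.diagonalSubgroup F, g = u * l * h := by
  have hT : TableOK chevF4 := Cfsg.Agent.Lib.Helper23Tab.tableOK_of_mem hD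
  have hR : Rel chevF4 F := Cfsg.Agent.Lib.Helper22ChevRel.rel_of_mem hD
  have ok := rg_ok hT hR
  have hxx : ∀ (r : ℕ) (a : F), xg chevF4 F r a = xG hD r a := xg_eq_xG hR hD
  have hn48 : chevF4.nroots = 48 := by decide
  have hn24 : chevF4.nroots / 2 = 24 := by decide
  have hrk : chevF4.rank = 4 := by decide
  have hBn : chevF4.borelSubgroup F ≤ normalizer (E' F (fun _ => True) : Set (GL chevF4.Idx F)) := by
    intro b hb
    apply Helper23Grp.mem_normalizer_of_conj (H46FCBNorm.bnormT b hb)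
    intro a ha
    have := H46FCBNorm.bnormT b⁻¹ (inv_mem hb) a ha
    rwa [inv_inv] at this
  have hBG : chevF4.borelSubgroup F ≤ chevF4.group F := by
    rw [← B_eq hT hR, ← G_eq hT hR]; exact B_le_G ok
  have hgM : g ∈ normalizer (E' F (fun _ => True) : Set (GL chevF4.Idx F)) ⊓ chevF4.group F :=
    ⟨Helper23Grp.mem_normalizer_of_conj h1 h2, hg⟩
  have h3 := Cfsg.Agent.Lib.LeadChevCent.hover hD hT hR _ (le_inf hBn hBG) inf_le_right hgM
  have hcc : ∀ h ∈ (rg hT hR).H, ∃ c : Fin chevF4.nroots → F, ∀ (s : ℕ) (hs : s < chevF4.nroots) (b : F),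
      h * X s b * h⁻¹ = X s (c ⟨s, hs⟩ * b) := by
    intro h hh
    obtain ⟨_, c, _, _, hc⟩ := Mon_H ok h hh
    refine ⟨c, ?_⟩
    intro s hs b
    have := hc ⟨s, hs⟩ b
    have e1 : (rg hT hR).x ⟨s, hs⟩ b = xG hD s b := hxx s b
    have e2 : (rg hT hR).x ((1 : Equiv.Perm (Fin chevF4.nroots)) ⟨s, hs⟩) (c ⟨s, hs⟩ * b)
        = xG hD s (c ⟨s, hs⟩ * b) := hxx s _
    rw [e1, e2] at this
    exact this
  have hHL : chevF4.diagonalSubgroup F ≤ normalizer (LJ F : Set (GL chevF4.Idx F)) := by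
    have key : ∀ h ∈ (rg hT hR).H, ∀ u ∈ LJ F, h * u * h⁻¹ ∈ LJ F := by
      intro h hh
      obtain ⟨c, hc⟩ := hcc h hh
      apply Helper23Grp.conj_closure_mem
      rintro _ ⟨r, hr, t, rfl⟩
      have hr48 : r < chevF4.nroots := by
        rw [hn48]
        simp only [List.mem_cons, List.not_mem_nil, or_false] at hr
        omega
      rw [hc r hr48]
      exact subset_closure ⟨r, hr, _, rfl⟩
    intro h hh
    rw [← H_eq hT hR] at hh
    apply Helper23Grp.mem_normalizer_of_conj (key h hh)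
    intro a ha
    have := key h⁻¹ (inv_mem hh) a ha
    rwa [inv_inv] at this
  have hHU : chevF4.diagonalSubgroup F ≤ normalizer (H46FCLNorm.UJ F : Set (GL chevF4.Idx F)) := by
    have key : ∀ h ∈ (rg hT hR).H, ∀ u ∈ H46FCLNorm.UJ F, h * u * h⁻¹ ∈ H46FCLNorm.UJ F := by
      intro h hh
      obtain ⟨c, hc⟩ := hcc h hh
      apply Helper23Grp.conj_closure_mem
      rintro _ ⟨r, t, hr1, hr2, hr3, rfl⟩
      rw [hc r (by rw [hn48]; exact hr2)]
      exact subset_closure ⟨r, _, hr1, hr2, hr3, rfl⟩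
    intro h hh
    rw [← H_eq hT hR] at hh
    apply Helper23Grp.mem_normalizer_of_conj (key h hh)
    intro a ha
    have := key h⁻¹ (inv_mem hh) a ha
    rwa [inv_inv] at this
  have hnc : ∀ (i : ℕ) (hi : i < chevF4.rank) (r : ℕ) (hr : r < chevF4.nroots),
      (rg hT hR).nn ⟨i, hi⟩ * X r 1 * ((rg hT hR).nn ⟨i, hi⟩)⁻¹
        = X (chevF4.reflectRoot i r) ((rg hT hR).η ⟨i, hi⟩ ⟨r, hr⟩ * 1) := by
    intro i hi r hr
    have := ok.n_conj ⟨i, hi⟩ ⟨r, hr⟩ (1 : F)
    show _ * xG hD r 1 * _ = xG hD _ _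
    rw [← hxx, ← hxx]
    exact this
  have hXE : ∀ r ∈ S, X r (1 : F) ∈ E' F (fun _ => True) := fun r hr =>
    subset_closure ⟨r, hr, 1, trivial, rfl⟩
  have hle : chevF4.borelSubgroup F ⊔ closure {x | ∃ i : Fin chevF4.rank, x = (rg hT hR).nn i ∧
      x ∈ normalizer (E' F (fun _ => True) : Set (GL chevF4.Idx F)) ⊓ chevF4.group F} ≤
      H46FCLNorm.UJ F ⊔ (LJ F ⊔ chevF4.diagonalSubgroup F) := by
    apply sup_le
    · apply sup_le
      · rw [posUnipotent_eq_Uk hD]
        unfold Uk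
        rw [closure_le]
        rintro _ ⟨r, t, hr, rfl⟩
        rw [hn24] at hr
        by_cases h48 : r < 48
        · by_cases h6 : r = 24 ∨ r = 33
          · refine mem_sup_right (mem_sup_left (subset_closure ⟨r, ?_, t, rfl⟩))
            rcases h6 with rfl | rfl <;> simp
          · exact mem_sup_left (subset_closure ⟨r, t, by omega, h48, by omega, rfl⟩)
        · rw [SetLike.mem_coe, xG_eq_one hD (by rw [hn48]; exact h48)]
          exact one_mem _
      · exact le_trans le_sup_right le_sup_right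
    · rw [closure_le]
      rintro _ ⟨⟨i, hi⟩, rfl, hiN, -⟩
      have hi01 : i = 0 ∨ i = 1 ∨ i = 2 ∨ i = 3 := by omega
      rcases hi01 with rfl | rfl | rfl | rfl
      · apply mem_sup_right
        apply mem_sup_left
        have e6 : ∀ a : F, (rg hT hR).x ((rg hT hR).simple ⟨0, hi⟩) a = X 33 a := fun a => hxx 33 a
        have e5 : ∀ a : F, (rg hT hR).x ((rg hT hR).neg ((rg hT hR).simple ⟨0, hi⟩)) a = X 14 a :=
          fun a => hxx 14 a
        show (rg hT hR).x ((rg hT hR).simple ⟨0, hi⟩) 1 *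
          (rg hT hR).x ((rg hT hR).neg ((rg hT hR).simple ⟨0, hi⟩)) (-1⁻¹) *
          (rg hT hR).x ((rg hT hR).simple ⟨0, hi⟩) 1 ∈ LJ F
        rw [e6, e5]
        exact mul_mem (mul_mem (subset_closure ⟨33, by simp, _, rfl⟩) (subset_closure ⟨14, by simp, _, rfl⟩))
          (subset_closure ⟨33, by simp, _, rfl⟩)
      · exfalso
        have h45 : 45 < chevF4.nroots := by rw [hn48]; norm_num
        have e9 := hnc 1 hi 45 h45
        have hr : chevF4.reflectRoot 1 45 = 43 := by decide +kernel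
        rw [hr, mul_one] at e9
        have hm := Helper23Grp.conj_mem_of_mem_normalizer hiN (hXE 45 (by simp [S]))
        rw [e9] at hm
        obtain ⟨t, ht, -⟩ := H46FCMemE.memE _ _ hm
        have h39 : t 39 = 0 := H46FCZeroE.t39 (by rw [← ht]; exact xG_mem_Uk hD (by norm_num) _)
        rw [H46FCZeroE.eL_assoc, h39, X_zero, one_mul] at ht
        have hrest : X 44 (t 44) * (X 45 (t 45) * (X 46 (t 46) * X 47 (t 47))) ∈ Uk (F := F) hD 44 :=
          mul_mem (xG_mem_Uk hD (by norm_num) _) (mul_mem (xG_mem_Uk hD (by norm_num) _)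
            (mul_mem (xG_mem_Uk hD (by norm_num) _) (xG_mem_Uk hD (by norm_num) _)))
        have hanti : Uk (F := F) hD 44 ≤ Uk (F := F) hD 41 := by
          unfold Uk
          apply Subgroup.closure_mono
          rintro g ⟨r, t, h, e⟩
          exact ⟨r, t, by omega, e⟩
        have h40 : t 40 = 0 := by
          refine H46FCZeroE.peel0 (k := 40) (by norm_num) (by norm_num) (hanti hrest) ?_
          rw [← ht]; exact xG_mem_Uk hD (by norm_num) _
        rw [h40, X_zero, one_mul] at ht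
        have h0 := eq_zero_of_mem_Uk hD (k := 43) (by rw [hn24]; norm_num) (by rw [hn48]; norm_num)
          (a := (rg hT hR).η ⟨1, hi⟩ ⟨45, h45⟩) (by
            show X 43 _ ∈ _
            rw [ht]; exact hrest)
        exact η_ne_zero ok _ _ h0
      · exfalso
        have h39 : 39 < chevF4.nroots := by rw [hn48]; norm_num
        have e9 := hnc 2 hi 39 h39
        have hr : chevF4.reflectRoot 2 39 = 38 := by decide +kernel
        rw [hr, mul_one] at e9
        have hm := Helper23Grp.conj_mem_of_mem_normalizer hiN (hXE 39 (by simp [S]))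
        rw [e9] at hm
        have h0 := eq_zero_of_mem_Uk hD (k := 38) (by rw [hn24]; norm_num) (by rw [hn48]; norm_num)
          (H46FCMemE.E_le_Uk _ hm)
        exact η_ne_zero ok _ _ h0
      · apply mem_sup_right
        apply mem_sup_left
        have e6 : ∀ a : F, (rg hT hR).x ((rg hT hR).simple ⟨3, hi⟩) a = X 24 a := fun a => hxx 24 a
        have e5 : ∀ a : F, (rg hT hR).x ((rg hT hR).neg ((rg hT hR).simple ⟨3, hi⟩)) a = X 23 a :=
          fun a => hxx 23 a
        show (rg hT hR).x ((rg hT hR).simple ⟨3, hi⟩) 1 *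
          (rg hT hR).x ((rg hT hR).neg ((rg hT hR).simple ⟨3, hi⟩)) (-1⁻¹) *
          (rg hT hR).x ((rg hT hR).simple ⟨3, hi⟩) 1 ∈ LJ F
        rw [e6, e5]
        exact mul_mem (mul_mem (subset_closure ⟨24, by simp, _, rfl⟩) (subset_closure ⟨23, by simp, _, rfl⟩))
          (subset_closure ⟨24, by simp, _, rfl⟩)
  have hK : LJ F ⊔ chevF4.diagonalSubgroup F ≤ normalizer (H46FCLNorm.UJ F : Set (GL chevF4.Idx F)) :=
    sup_le H46FCLNorm.lnorm hHU
  obtain ⟨v, hv, k, hk, rfl⟩ := (Helper23Grp.mem_sup_of_normalizes hK).1 (hle h3)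
  obtain ⟨l, hl, h, hh, rfl⟩ := (Helper23Grp.mem_sup_of_normalizes hHL).1 hk
  have hUJ : H46FCLNorm.UJ F ≤ chevF4.posUnipotent F := by
    rw [posUnipotent_eq_Uk hD, hn24]
    unfold H46FCLNorm.UJ
    rw [closure_le]
    rintro _ ⟨r, t, hr1, -, -, rfl⟩
    exact xG_mem_Uk hD (by omega) _
  exact ⟨v, hUJ hv, l, hl, h, hh, (mul_assoc _ _ _).symm⟩

end Cfsg.Agent.Lib.H46FCInP
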