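import Cfsg.Agent.Lib.H46FCRel
import Cfsg.Agent.Lib.H46WCUkN
import Cfsg.Agent.Lib.H46FCAct
import Cfsg.Agent.Lib.H46FCZeroE

set_option autoImplicit false
set_option linter.unusedSectionVars false
set_option linter.unusedVariables false

namespace Cfsg.Agent.Lib.H46FCVCent

open Subgroup Cfsg.Lie Cfsg.Lie.ChevalleyDatum
open Cfsg.Agent.Lib.Helper23Grp Cfsg.Agent.Lib.Helper23RG Cfsg.Agent.Lib.Helper23RG.RG
  Cfsg.Agent.Lib.Helper23Table Cfsg.Agent.Lib.Helper23Chev
  Cfsg.Agent.Lib.Helper22ChevBasic Cfsg.Agent.Lib.Helper22ChevU Cfsg.Agent.Lib.Helper22ChevPar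
  Cfsg.Agent.Lib.H46FCRel

variable {F : Type*} [Field F] [CharP F 2]

theorem hn48 : chevF4.nroots = 48 := by decide

/-- `Uk 35` acts trivially on `E`. -/
theorem triv35 (u' : GL chevF4.Idx F) (hu' : u' ∈ Uk (F := F) hD 35) :
    ∀ t : ℕ → F, u' * eL t * u'⁻¹ = eL t := by
  unfold Uk at hu'
  induction hu' using Subgroup.closure_induction with
  | mem g hg =>
    obtain ⟨r, c, hr, rfl⟩ := hg
    intro t
    by_cases h48 : r < 48
    · apply H46FCAct.act_triv (by omega) h48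
      simp only [List.mem_cons, List.not_mem_nil, or_false, not_or]
      omega
    · rw [xG_eq_one hD (by rw [hn48]; exact h48)]
      simp
  | one => intro t; simp
  | mul a b _ _ ha hb =>
    intro t
    have : a * b * eL t * (a * b)⁻¹ = a * (b * eL t * b⁻¹) * a⁻¹ := by group
    rw [this, hb, ha]
  | inv a _ ha =>
    intro t
    have := ha t
    calc a⁻¹ * eL t * a⁻¹⁻¹ = a⁻¹ * (a * eL t * a⁻¹) * a := by rw [this, inv_inv]
      _ = eL t := by group

theorem Uk35_le : Uk (F := F) hD 35 ≤ KK F := by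
  unfold Uk
  rw [Subgroup.closure_le]
  rintro g ⟨r, c, hr, rfl⟩
  by_cases h48 : r < 48
  · apply Subgroup.subset_closure
    refine ⟨r, c, Or.inr ⟨by omega, h48, ?_⟩, rfl⟩
    simp only [List.mem_cons, List.not_mem_nil, or_false, not_or]
    omega
  · rw [xG_eq_one hD (by rw [hn48]; exact h48)]
    exact one_mem _

theorem X_mem_KK {r : ℕ} (h1 : 24 ≤ r) (h2 : r < 48) (h3 : r ∉ [27, 25, 34, 26]) (c : F) :
    X r c ∈ KK F := Subgroup.subset_closure ⟨r, c, Or.inr ⟨h1, h2, h3⟩, rfl⟩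

theorem cjm (a b e : GL chevF4.Idx F) : a * b * e * (a * b)⁻¹ = a * (b * e * b⁻¹) * a⁻¹ := by group

theorem eL_two (χ1 χ2 : F) :
    X 39 χ1 * X 45 χ2 = eL (fun r => if r = 39 then χ1 else if r = 45 then χ2 else 0) := by
  unfold eL
  simp

theorem vcent (u : GL chevF4.Idx F) (hu : u ∈ chevF4.posUnipotent F) (χ1 χ2 : F)
    (h : u * (X 39 χ1 * X 45 χ2) * u⁻¹ = X 39 1 * X 45 1) : χ1 = 1 ∧ χ2 = 1 ∧ u ∈ KK F := by
  have hn := hn48
  have hu24 : u ∈ Uk (F := F) hD 24 := by
    rw [posUnipotent_eq_Uk hD] at hu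
    have h24 : chevF4.nroots / 2 = 24 := by decide
    have hle : Uk (F := F) hD (chevF4.nroots / 2) ≤ Uk (F := F) hD 24 := by
      unfold Uk
      apply Subgroup.closure_mono
      rintro g ⟨r, t, hr, rfl⟩
      exact ⟨r, t, by omega, rfl⟩
    exact hle hu
  obtain ⟨a24, u1, hu1, rfl⟩ := mem_Uk_split hD (k := 24) (by rw [hn]) hu24
  obtain ⟨a25, u2, hu2, rfl⟩ := mem_Uk_split hD (k := 25) (by rw [hn]; norm_num) hu1
  obtain ⟨a26, u3, hu3, rfl⟩ := mem_Uk_split hD (k := 26) (by rw [hn]; norm_num) hu2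
  obtain ⟨a27, u4, hu4, rfl⟩ := mem_Uk_split hD (k := 27) (by rw [hn]; norm_num) hu3
  obtain ⟨a28, u5, hu5, rfl⟩ := mem_Uk_split hD (k := 28) (by rw [hn]; norm_num) hu4
  obtain ⟨a29, u6, hu6, rfl⟩ := mem_Uk_split hD (k := 29) (by rw [hn]; norm_num) hu5
  obtain ⟨a30, u7, hu7, rfl⟩ := mem_Uk_split hD (k := 30) (by rw [hn]; norm_num) hu6
  obtain ⟨a31, u8, hu8, rfl⟩ := mem_Uk_split hD (k := 31) (by rw [hn]; norm_num) hu7
  obtain ⟨a32, u9, hu9, rfl⟩ := mem_Uk_split hD (k := 32) (by rw [hn]; norm_num) hu8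
  obtain ⟨a33, u10, hu10, rfl⟩ := mem_Uk_split hD (k := 33) (by rw [hn]; norm_num) hu9
  obtain ⟨a34, u', hu', rfl⟩ := mem_Uk_split hD (k := 34) (by rw [hn]; norm_num) hu10
  rw [eL_two, eL_two, cjm, cjm, cjm, cjm, cjm, cjm, cjm, cjm, cjm, cjm, cjm, triv35 u' hu',
    H46FCAct.act_six (s := 34) (r := 39) (k := 44) (by simp [Six]),
    H46FCAct.act_six (s := 33) (r := 40) (k := 44) (by simp [Six]),
    H46FCAct.act_triv (s := 32) (by norm_num) (by norm_num) (by simp),
    H46FCAct.act_triv (s := 31) (by norm_num) (by norm_num) (by simp),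
    H46FCAct.act_triv (s := 30) (by norm_num) (by norm_num) (by simp),
    H46FCAct.act_triv (s := 29) (by norm_num) (by norm_num) (by simp),
    H46FCAct.act_triv (s := 28) (by norm_num) (by norm_num) (by simp),
    H46FCAct.act_six (s := 27) (r := 39) (k := 40) (by simp [Six]),
    H46FCAct.act_six (s := 26) (r := 45) (k := 47) (by simp [Six]),
    H46FCAct.act_six (s := 25) (r := 45) (k := 46) (by simp [Six]),
    H46FCAct.act_six (s := 24) (r := 46) (k := 47) (by simp [Six])] at h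
  have hinj := H46FCZeroE.injE h
  have e39 := hinj 39 (by simp [S])
  have e40 := hinj 40 (by simp [S])
  have e44 := hinj 44 (by simp [S])
  have e45 := hinj 45 (by simp [S])
  have e46 := hinj 46 (by simp [S])
  have e47 := hinj 47 (by simp [S])
  simp [Function.update] at e39 e40 e44 e45 e46 e47
  subst e39
  subst e45
  simp at e40 e44 e46 e47
  subst e40
  subst e44
  subst e46
  simp at e47
  subst e47
  refine ⟨rfl, rfl, ?_⟩
  rw [xG_zero, xG_zero, xG_zero, xG_zero, one_mul, one_mul, one_mul, one_mul]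
  refine mul_mem (X_mem_KK (by norm_num) (by norm_num) (by simp) _) ?_
  refine mul_mem (X_mem_KK (by norm_num) (by norm_num) (by simp) _) ?_
  refine mul_mem (X_mem_KK (by norm_num) (by norm_num) (by simp) _) ?_
  refine mul_mem (X_mem_KK (by norm_num) (by norm_num) (by simp) _) ?_
  refine mul_mem (X_mem_KK (by norm_num) (by norm_num) (by simp) _) ?_
  refine mul_mem (X_mem_KK (by norm_num) (by norm_num) (by simp) _) ?_
  refine mul_mem (X_mem_KK (by norm_num) (by norm_num) (by simp) _) ?_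
  exact Uk35_le hu'

end Cfsg.Agent.Lib.H46FCVCent
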