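import Cfsg.Agent.Lib.H46FCRel
import Cfsg.Agent.Lib.H46WCUkN
import Cfsg.Agent.Lib.H46FCWinv
import Cfsg.Agent.Lib.H46FCGL
import Cfsg.Agent.Lib.H46FCZeroE

set_option autoImplicit false
set_option linter.unusedSectionVars false
set_option linter.unusedVariables false

namespace Cfsg.Agent.Lib.H46FCW1

open Subgroup Cfsg.Lie Cfsg.Lie.ChevalleyDatum
open Cfsg.Agent.Lib.Helper23Grp Cfsg.Agent.Lib.Helper23RG Cfsg.Agent.Lib.Helper23RG.RG
  Cfsg.Agent.Lib.Helper23Table Cfsg.Agent.Lib.Helper23Chev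
  Cfsg.Agent.Lib.Helper22ChevBasic Cfsg.Agent.Lib.Helper22ChevU Cfsg.Agent.Lib.Helper22ChevPar
  Cfsg.Agent.Lib.H46FCRel

variable {F : Type*} [Field F] [CharP F 2]

/-- `B` acts on `X_44` and `X_47` by non-zero scalars -/
theorem Bact (b : GL chevF4.Idx F) (hb : b ∈ chevF4.borelSubgroup F) {k : ℕ} (hk : k = 44 ∨ k = 47) :
    ∃ c : F, c ≠ 0 ∧ ∀ t : F, b * X k t * b⁻¹ = X k (c * t) := by
  have hT : TableOK chevF4 := Cfsg.Agent.Lib.Helper23Tab.tableOK_of_mem hD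
  have hR : Rel chevF4 F := Cfsg.Agent.Lib.Helper22ChevRel.rel_of_mem hD
  have ok := rg_ok hT hR
  have hxx : ∀ (r : ℕ) (a : F), xg chevF4 F r a = xG hD r a := xg_eq_xG hR hD
  have hk48 : k < 48 := by rcases hk with rfl | rfl <;> norm_num
  have hkS : k ∈ S := by rcases hk with rfl | rfl <;> simp [S]
  rw [← B_eq hT hR] at hb
  obtain ⟨u, hu, h, hh, rfl⟩ := (mem_sup_of_normalizes (H_le_normalizer_XS ok _)).1 hb
  obtain ⟨_, c, hc0, _, hc⟩ := Mon_H ok h hh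
  have hUc : ∀ t : F, u * X k t = X k t * u := by
    intro t
    have : (rg hT hR).XS (rg hT hR).pos ≤ centralizer {X k t} := by
      unfold RG.XS
      rw [closure_le]
      rintro _ ⟨r, a, hr, rfl⟩
      rw [SetLike.mem_coe, mem_centralizer_singleton_iff]
      have e : (rg hT hR).x r a = X r.val a := hxx r.val a
      rw [e]
      have hr24 : 24 ≤ r.val := hr
      apply CT r.2 hk48
      apply tabU ⟨r.val, r.2⟩ hr24 k hkS
      simp only [List.mem_cons, List.not_mem_nil, or_false, Prod.mk.injEq, not_or, not_and]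
      rcases hk with rfl | rfl
      · refine ⟨?_, ?_, ?_, ?_, ?_, ?_⟩ <;> omega
      · refine ⟨?_, ?_, ?_, ?_, ?_, ?_⟩ <;> omega
    exact mem_centralizer_singleton_iff.1 (this hu)
  refine ⟨c ⟨k, hk48⟩, hc0 _, fun t => ?_⟩
  have e1 : h * X k t * h⁻¹ = X k (c ⟨k, hk48⟩ * t) := by
    have := hc ⟨k, hk48⟩ t
    have a1 : (rg hT hR).x ⟨k, hk48⟩ t = X k t := hxx k t
    have a2 : (rg hT hR).x ⟨k, hk48⟩ (c ⟨k, hk48⟩ * t) = X k (c ⟨k, hk48⟩ * t) := hxx k _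
    rw [a1, Equiv.Perm.one_apply, a2] at this
    exact this
  calc u * h * X k t * (u * h)⁻¹ = u * (h * X k t * h⁻¹) * u⁻¹ := by group
    _ = X k (c ⟨k, hk48⟩ * t) := by rw [e1, hUc, mul_inv_cancel_right]

/-- `w = X 47 1 * X 44 1`.  MODEL: `H46GCInN9`, `LeadChevCent.cent_abstract`.  `U` centralises `X 44 _`, `X 47 _` (`CT`, `tabU`), `H` acts by non-zero scalars, so for `b ∈ B`: `b * w * b⁻¹ = X 47 c * X 44 d = eL t` with support `{44, 47}`.
`g = b1 * n * b2`; `n * eL t * n⁻¹ = b1⁻¹ * w * b1 = X 47 c' * X 44 d' ∈ Uk 44`; `gl` (`K = 44`): `44 ≤ p 44, p 47`; `winv` (`Sh`): `p 44 = 44`, `p 47 ∈ {45, 46, 47}`.  Then `X 44 (_ ) * X (p 47) e = X 47 c' * X 44 d'` gives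
`X (p 47) e ∈ Uk 47` after cancelling the `X 44` parts (`eq_zero_of_mem_Uk` at `44`), so `p 47 = 47` (`eq_zero_of_mem_Uk` at `45`, `46`).  Hence `b1, n, b2` all normalise `X_44` and `X_47`. -/
theorem w1 (g : GL chevF4.Idx F) (hg : g ∈ chevF4.group F) (hc : g * (X 47 1 * X 44 1) = (X 47 1 * X 44 1) * g) :
    (∀ t : F, ∃ c : F, g * X 44 t * g⁻¹ = X 44 c) ∧ (∀ t : F, ∃ c : F, g * X 47 t * g⁻¹ = X 47 c) := by
  have hT : TableOK chevF4 := Cfsg.Agent.Lib.Helper23Tab.tableOK_of_mem hD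
  have hR : Rel chevF4 F := Cfsg.Agent.Lib.Helper22ChevRel.rel_of_mem hD
  have ok := rg_ok hT hR
  have hn48 : chevF4.nroots = 48 := by decide
  have hgG : g ∈ (rg hT hR).G := by rw [G_eq]; exact hg
  obtain ⟨n, hn, b1, hb1, b2, hb2, rfl⟩ :=
    Cfsg.Agent.Lib.Helper23RG.RG.bruhat_ex ok (hBV hT hR) (hUN hT hR) hgG
  rw [B_eq] at hb1 hb2
  obtain ⟨c44, hc44, h44⟩ := Bact b2 hb2 (k := 44) (Or.inl rfl)
  obtain ⟨c47, hc47, h47⟩ := Bact b2 hb2 (k := 47) (Or.inr rfl)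
  obtain ⟨d44, hd44, k44⟩ := Bact b1⁻¹ (inv_mem hb1) (k := 44) (Or.inl rfl)
  obtain ⟨d47, hd47, k47⟩ := Bact b1⁻¹ (inv_mem hb1) (k := 47) (Or.inr rfl)
  obtain ⟨a44, ha44, l44⟩ := Bact b1 hb1 (k := 44) (Or.inl rfl)
  obtain ⟨a47, ha47, l47⟩ := Bact b1 hb1 (k := 47) (Or.inr rfl)
  obtain ⟨p, κ, hκ, hp48, hnX, hsh, -⟩ := H46FCWinv.winv hT hR n hn
  have hz : n * (X 47 c47 * X 44 c44) * n⁻¹ = X 47 d47 * X 44 d44 := by
    have e1 : X 47 c47 * X 44 c44 = b2 * (X 47 1 * X 44 1) * b2⁻¹ := by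
      have : b2 * (X 47 1 * X 44 1) * b2⁻¹ = (b2 * X 47 1 * b2⁻¹) * (b2 * X 44 1 * b2⁻¹) := by group
      rw [this, h47, h44, mul_one, mul_one]
    have e2 : X 47 d47 * X 44 d44 = b1⁻¹ * (X 47 1 * X 44 1) * b1⁻¹⁻¹ := by
      have : b1⁻¹ * (X 47 1 * X 44 1) * b1⁻¹⁻¹ = (b1⁻¹ * X 47 1 * b1⁻¹⁻¹) * (b1⁻¹ * X 44 1 * b1⁻¹⁻¹) := by group
      rw [this, k47, k44, mul_one, mul_one]
    rw [e1, e2]
    calc n * (b2 * (X 47 1 * X 44 1) * b2⁻¹) * n⁻¹
        = b1⁻¹ * (b1 * n * b2 * (X 47 1 * X 44 1)) * b2⁻¹ * n⁻¹ := by group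
      _ = b1⁻¹ * (X 47 1 * X 44 1) * b1⁻¹⁻¹ := by rw [hc]; group
  have heL : eL (fun r => if r = 44 then c44 else if r = 47 then c47 else 0) = X 47 c47 * X 44 c44 := by
    unfold eL
    simp only [show (39 : ℕ) ≠ 44 by norm_num, show (39 : ℕ) ≠ 47 by norm_num, show (40 : ℕ) ≠ 44 by norm_num,
      show (40 : ℕ) ≠ 47 by norm_num, show (45 : ℕ) ≠ 44 by norm_num, show (45 : ℕ) ≠ 47 by norm_num,
      show (46 : ℕ) ≠ 44 by norm_num, show (46 : ℕ) ≠ 47 by norm_num, show (47 : ℕ) ≠ 44 by norm_num,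
      if_true, if_false, X_zero, one_mul, mul_one]
    exact CT (by norm_num) (by norm_num) (tabS 44 (by simp [S]) 47 (by simp [S])) _ _
  have hgl := H46FCGL.gl n p κ hnX (fun r => if r = 44 then c44 else if r = 47 then c47 else 0) 44 (by norm_num)
    (by norm_num) (by
      rw [heL, hz]
      exact mul_mem (xG_mem_Uk hD (by norm_num) _) (xG_mem_Uk hD le_rfl _))
  have g44 : 44 ≤ p 44 := hgl 44 (by simp [S]) (by simpa using hc44)
  have g47 : 44 ≤ p 47 := hgl 47 (by simp [S]) (by simpa using hc47)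
  have l44' := hp48 44 (by norm_num)
  have l47' := hp48 47 (by norm_num)
  have p44 : p 44 = 44 := by
    have h1 : H46FCWinv.Sh (p 44) := (hsh 44 (by norm_num)).1 (by decide)
    have : ∀ a : Fin 48, 44 ≤ a.val → H46FCWinv.Sh a.val → a.val = 44 := by decide
    exact this ⟨p 44, l44'⟩ g44 h1
  have p47' : 45 ≤ p 47 := by
    have h1 : ¬ H46FCWinv.Sh (p 47) := fun h => absurd ((hsh 47 (by norm_num)).2 h) (by decide)
    have : ∀ a : Fin 48, 44 ≤ a.val → ¬ H46FCWinv.Sh a.val → 45 ≤ a.val := by decide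
    exact this ⟨p 47, l47'⟩ g47 h1
  have hz2 : X (p 47) (κ 47 * c47) * X 44 (κ 44 * c44) = X 47 d47 * X 44 d44 := by
    rw [← hz]
    have : n * (X 47 c47 * X 44 c44) * n⁻¹ = (n * X 47 c47 * n⁻¹) * (n * X 44 c44 * n⁻¹) := by group
    rw [this, hnX 47 (by norm_num), hnX 44 (by norm_num), p44]
  have he : κ 47 * c47 ≠ 0 := mul_ne_zero (hκ 47) hc47
  have hz3 : X 44 (d44 + κ 44 * c44) = (X 47 d47)⁻¹ * X (p 47) (κ 47 * c47) := by
    have : X (p 47) (κ 47 * c47) = X 47 d47 * X 44 d44 * (X 44 (κ 44 * c44))⁻¹ := by rw [← hz2]; group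
    rw [this, X_inv 44, ← X_add]; group
  have hz4 : d44 + κ 44 * c44 = 0 := by
    apply eq_zero_of_mem_Uk hD (k := 44) (by rw [hn48]; norm_num) (by rw [hn48]; norm_num)
    show X 44 _ ∈ _
    rw [hz3]
    exact mul_mem (inv_mem (xG_mem_Uk hD (by norm_num) _)) (xG_mem_Uk hD p47' _)
  have hz5 : X (p 47) (κ 47 * c47) = X 47 d47 := by
    rw [hz4, X_zero] at hz3
    exact (inv_mul_eq_one.1 hz3.symm).symm
  have p47 : p 47 = 47 := by
    have : p 47 = 45 ∨ p 47 = 46 ∨ p 47 = 47 := by omega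
    rcases this with e | e | e
    · exfalso
      rw [e] at hz5
      apply he
      apply eq_zero_of_mem_Uk hD (k := 45) (by rw [hn48]; norm_num) (by rw [hn48]; norm_num)
      show X 45 _ ∈ _
      rw [hz5]
      exact xG_mem_Uk hD (by norm_num) _
    · exfalso
      rw [e] at hz5
      apply he
      apply eq_zero_of_mem_Uk hD (k := 46) (by rw [hn48]; norm_num) (by rw [hn48]; norm_num)
      show X 46 _ ∈ _
      rw [hz5]
      exact xG_mem_Uk hD (by norm_num) _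
    · exact e
  constructor
  · intro t
    refine ⟨a44 * (κ 44 * (c44 * t)), ?_⟩
    calc b1 * n * b2 * X 44 t * (b1 * n * b2)⁻¹ = b1 * (n * (b2 * X 44 t * b2⁻¹) * n⁻¹) * b1⁻¹ := by group
      _ = _ := by rw [h44, hnX 44 (by norm_num), p44, l44]
  · intro t
    refine ⟨a47 * (κ 47 * (c47 * t)), ?_⟩
    calc b1 * n * b2 * X 47 t * (b1 * n * b2)⁻¹ = b1 * (n * (b2 * X 47 t * b2⁻¹) * n⁻¹) * b1⁻¹ := by group
      _ = _ := by rw [h47, hnX 47 (by norm_num), p47, l47]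

end Cfsg.Agent.Lib.H46FCW1
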