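import Cfsg.Agent.Lib.H46FCRel
import Cfsg.Agent.Lib.H46WCUkN

set_option autoImplicit false
set_option linter.unusedSectionVars false
set_option linter.unusedVariables false

namespace Cfsg.Agent.Lib.H46FCW2

open Subgroup Cfsg.Lie Cfsg.Lie.ChevalleyDatum
open Cfsg.Agent.Lib.Helper23Grp Cfsg.Agent.Lib.Helper23RG Cfsg.Agent.Lib.Helper23RG.RG
  Cfsg.Agent.Lib.Helper23Table Cfsg.Agent.Lib.Helper23Chev
  Cfsg.Agent.Lib.Helper22ChevBasic Cfsg.Agent.Lib.Helper22ChevU Cfsg.Agent.Lib.Helper22ChevPar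
  Cfsg.Agent.Lib.H46FCRel

variable {F : Type*} [Field F] [CharP F 2]

/-- the normaliser of both `X_44` and `X_47` lies in the parabolic generated by `U`, `X_20`, `X_22`, `H`. -/
theorem w2 (g : GL chevF4.Idx F) (hg : g ∈ chevF4.group F)
    (h1 : (∀ t : F, ∃ c : F, g * X 44 t * g⁻¹ = X 44 c) ∧ (∀ t : F, ∃ c : F, g * X 47 t * g⁻¹ = X 47 c))
    (h2 : (∀ t : F, ∃ c : F, g⁻¹ * X 44 t * g = X 44 c) ∧ (∀ t : F, ∃ c : F, g⁻¹ * X 47 t * g = X 47 c)) :
    ∃ x ∈ closure {g : GL chevF4.Idx F | ∃ (r : ℕ) (t : F), ((24 ≤ r ∧ r < 48) ∨ r = 20 ∨ r = 22) ∧ g = X r t},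
      ∃ h ∈ chevF4.diagonalSubgroup F, g = x * h := by
  have hT : TableOK chevF4 := Cfsg.Agent.Lib.Helper23Tab.tableOK_of_mem hD
  have hR : Rel chevF4 F := Cfsg.Agent.Lib.Helper22ChevRel.rel_of_mem hD
  have ok := rg_ok hT hR
  have hxx : ∀ (r : ℕ) (a : F), xg chevF4 F r a = xG hD r a := xg_eq_xG hR hD
  have hn48 : chevF4.nroots = 48 := by decide
  have hrk : chevF4.rank = 4 := by decide
  have ex : ∀ (s : ℕ) (hs : s < chevF4.nroots) (b : F), (rg hT hR).x ⟨s, hs⟩ b = X s b :=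
    fun s hs b => hxx s b
  have h44 : 44 < chevF4.nroots := by rw [hn48]; norm_num
  have hPF := Cfsg.Agent.Lib.Helper22ChevTabs.posFacts hD
  have h47 : 47 < chevF4.nroots := by rw [hn48]; norm_num
  set P : Subgroup (GL chevF4.Idx F) := closure {g : GL chevF4.Idx F | ∃ (r : ℕ) (t : F),
    ((24 ≤ r ∧ r < 48) ∨ r = 20 ∨ r = 22) ∧ g = X r t} with hP
  have hPXS : (rg hT hR).XS (fun r => (24 ≤ r.val ∧ r.val < 48) ∨ r.val = 20 ∨ r.val = 22) = P := by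
    unfold RG.XS
    rw [hP]
    congr 1
    ext y
    constructor
    · rintro ⟨r, t, hr, rfl⟩
      exact ⟨r.val, t, hr, ex r.val r.2 t⟩
    · rintro ⟨r, t, hr, rfl⟩
      exact ⟨⟨r, by rw [hn48]; omega⟩, t, hr, (ex r _ t).symm⟩
  have hHP : chevF4.diagonalSubgroup F ≤ normalizer (P : Set (GL chevF4.Idx F)) := by
    rw [← hPXS, ← H_eq hT hR]
    exact H_le_normalizer_XS ok _
  have hcomm : ∀ r0, (r0 = 44 ∨ r0 = 47) → ∀ s, 24 ≤ s → s < 48 → ∀ a b : F,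
      X s a * X r0 b = X r0 b * X s a := by
    intro r0 hr0 s hs1 hs2 a b
    rcases hr0 with rfl | rfl
    · exact CT hs2 (by norm_num) (tabU ⟨s, hs2⟩ hs1 44 (by simp [S]) (by simp)) a b
    · exact CT hs2 (by norm_num) (tabU ⟨s, hs2⟩ hs1 47 (by simp [S]) (by simp)) a b
  have hBn : ∀ (r0 : ℕ) (h0 : r0 < chevF4.nroots), (r0 = 44 ∨ r0 = 47) →
      chevF4.borelSubgroup F ≤ normalizer ((rg hT hR).X ⟨r0, h0⟩ : Set (GL chevF4.Idx F)) := by
    intro r0 h0 hr0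
    apply sup_le
    · rw [posUnipotent_eq hD]
      rw [closure_le]
      rintro _ ⟨r, t, hr, rfl⟩
      replace hr := (hPF.pos_iff r).1 hr
      rw [hn48] at hr
      apply Helper23Grp.mem_normalizer_of_conj
      · intro a ha
        obtain ⟨c, rfl⟩ := (mem_X_iff ok).1 ha
        rw [ex]
        have := hcomm r0 hr0 r (by omega) (by omega) t c
        show X r t * X r0 c * (X r t)⁻¹ ∈ _
        rw [this, mul_inv_cancel_right, ← ex r0 h0]
        exact x_mem_X _ c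
      · intro a ha
        obtain ⟨c, rfl⟩ := (mem_X_iff ok).1 ha
        rw [ex]
        have := hcomm r0 hr0 r (by omega) (by omega) t c
        show (X r t)⁻¹ * X r0 c * X r t ∈ _
        rw [mul_assoc, ← this, inv_mul_cancel_left, ← ex r0 h0]
        exact x_mem_X _ c
    · rw [← H_eq hT hR]
      exact H_le_normalizer_XS ok _
  have hBG : chevF4.borelSubgroup F ≤ chevF4.group F := by
    rw [← B_eq hT hR, ← G_eq hT hR]; exact B_le_G ok
  have hgn : ∀ (r0 : ℕ) (h0 : r0 < chevF4.nroots), (∀ t : F, ∃ c : F, g * X r0 t * g⁻¹ = X r0 c) →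
      (∀ t : F, ∃ c : F, g⁻¹ * X r0 t * g = X r0 c) →
      g ∈ normalizer ((rg hT hR).X ⟨r0, h0⟩ : Set (GL chevF4.Idx F)) := by
    intro r0 h0 k1 k2
    apply Helper23Grp.mem_normalizer_of_conj
    · intro a ha
      obtain ⟨c, rfl⟩ := (mem_X_iff ok).1 ha
      obtain ⟨c', hc'⟩ := k1 c
      rw [ex, hc', ← ex r0 h0]
      exact x_mem_X _ c'
    · intro a ha
      obtain ⟨c, rfl⟩ := (mem_X_iff ok).1 ha
      obtain ⟨c', hc'⟩ := k2 c
      rw [ex, hc', ← ex r0 h0]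
      exact x_mem_X _ c'
  have hgM : g ∈ (normalizer ((rg hT hR).X ⟨44, h44⟩ : Set (GL chevF4.Idx F)) ⊓
      normalizer ((rg hT hR).X ⟨47, h47⟩ : Set (GL chevF4.Idx F))) ⊓ chevF4.group F :=
    ⟨⟨hgn 44 h44 h1.1 h2.1, hgn 47 h47 h1.2 h2.2⟩, hg⟩
  have h3 := Cfsg.Agent.Lib.LeadChevCent.hover hD hT hR _
    (le_inf (le_inf (hBn 44 h44 (Or.inl rfl)) (hBn 47 h47 (Or.inr rfl))) hBG) inf_le_right hgM
  have hnot : ∀ (i : Fin chevF4.rank) (r0 r1 : ℕ) (h0 : r0 < chevF4.nroots),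
      chevF4.reflectRoot i.val r0 = r1 → r1 ≠ r0 → 24 ≤ r0 → 24 ≤ r1 → r1 < 48 →
      (rg hT hR).nn i ∉ normalizer ((rg hT hR).X ⟨r0, h0⟩ : Set (GL chevF4.Idx F)) := by
    intro i r0 r1 h0 hr hne k0 k1 k2 hiN
    have e9 : (rg hT hR).nn i * X r0 1 * ((rg hT hR).nn i)⁻¹
        = X (chevF4.reflectRoot i.val r0) ((rg hT hR).η i ⟨r0, h0⟩ * 1) := by
      have := ok.n_conj i ⟨r0, h0⟩ (1 : F)
      show _ * xG hD r0 1 * _ = xG hD _ _
      rw [← hxx, ← hxx]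
      exact this
    rw [hr, mul_one] at e9
    have hm := Helper23Grp.conj_mem_of_mem_normalizer hiN (x_mem_X (S := rg hT hR) ⟨r0, h0⟩ (1 : F))
    obtain ⟨c, hc⟩ := (mem_X_iff ok).1 hm
    rw [ex, ex, e9] at hc
    have hη : (rg hT hR).η i ⟨r0, h0⟩ ≠ 0 := η_ne_zero ok _ _
    by_cases hc0 : c = 0
    · rw [hc0, X_zero] at hc
      exact hη (X_inj k2 hc)
    · exact hne (Cfsg.Agent.Lib.LeadChevCent.root_eq_of_xG_eq hD
        ((hPF.pos_iff r1).2 ⟨by rw [hn48]; omega, by rw [hn48]; omega⟩)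
        ((hPF.pos_iff r0).2 ⟨by rw [hn48]; omega, h0⟩) hη hc0 hc)
  have hXP : ∀ r : ℕ, ((24 ≤ r ∧ r < 48) ∨ r = 20 ∨ r = 22) → ∀ t : F, X r t ∈ P :=
    fun r hr t => subset_closure ⟨r, t, hr, rfl⟩
  have hle : chevF4.borelSubgroup F ⊔ closure {x | ∃ i : Fin chevF4.rank, x = (rg hT hR).nn i ∧
      x ∈ (normalizer ((rg hT hR).X ⟨44, h44⟩ : Set (GL chevF4.Idx F)) ⊓
      normalizer ((rg hT hR).X ⟨47, h47⟩ : Set (GL chevF4.Idx F))) ⊓ chevF4.group F} ≤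
      P ⊔ chevF4.diagonalSubgroup F := by
    apply sup_le
    · apply sup_le
      · rw [posUnipotent_eq hD]
        rw [closure_le]
        rintro _ ⟨r, t, hr, rfl⟩
        replace hr := (hPF.pos_iff r).1 hr
        rw [hn48] at hr
        exact mem_sup_left (hXP r (Or.inl (by omega)) t)
      · exact le_sup_right
    · rw [closure_le]
      rintro _ ⟨⟨i, hi⟩, rfl, ⟨hiN44, hiN47⟩, -⟩
      have hi01 : i = 0 ∨ i = 1 ∨ i = 2 ∨ i = 3 := by omega
      rcases hi01 with rfl | rfl | rfl | rfl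
      · exact absurd hiN44 (hnot ⟨0, hi⟩ 44 40 h44 (by show chevF4.reflectRoot 0 44 = 40; decide +kernel) (by norm_num) (by norm_num)
          (by norm_num) (by norm_num))
      · apply mem_sup_left
        have e6 : ∀ a : F, (rg hT hR).x ((rg hT hR).simple ⟨1, hi⟩) a = X 27 a := fun a => hxx 27 a
        have e5 : ∀ a : F, (rg hT hR).x ((rg hT hR).neg ((rg hT hR).simple ⟨1, hi⟩)) a = X 20 a :=
          fun a => hxx 20 a
        show (rg hT hR).x ((rg hT hR).simple ⟨1, hi⟩) 1 *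
          (rg hT hR).x ((rg hT hR).neg ((rg hT hR).simple ⟨1, hi⟩)) (-1⁻¹) *
          (rg hT hR).x ((rg hT hR).simple ⟨1, hi⟩) 1 ∈ P
        rw [e6, e5]
        exact mul_mem (mul_mem (hXP 27 (by norm_num) _) (hXP 20 (by norm_num) _)) (hXP 27 (by norm_num) _)
      · apply mem_sup_left
        have e6 : ∀ a : F, (rg hT hR).x ((rg hT hR).simple ⟨2, hi⟩) a = X 25 a := fun a => hxx 25 a
        have e5 : ∀ a : F, (rg hT hR).x ((rg hT hR).neg ((rg hT hR).simple ⟨2, hi⟩)) a = X 22 a :=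
          fun a => hxx 22 a
        show (rg hT hR).x ((rg hT hR).simple ⟨2, hi⟩) 1 *
          (rg hT hR).x ((rg hT hR).neg ((rg hT hR).simple ⟨2, hi⟩)) (-1⁻¹) *
          (rg hT hR).x ((rg hT hR).simple ⟨2, hi⟩) 1 ∈ P
        rw [e6, e5]
        exact mul_mem (mul_mem (hXP 25 (by norm_num) _) (hXP 22 (by norm_num) _)) (hXP 25 (by norm_num) _)
      · exact absurd hiN47 (hnot ⟨3, hi⟩ 47 46 h47 (by show chevF4.reflectRoot 3 47 = 46; decide +kernel) (by norm_num) (by norm_num)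
          (by norm_num) (by norm_num))
  obtain ⟨x, hx, h, hh, rfl⟩ := (Helper23Grp.mem_sup_of_normalizes hHP).1 (hle h3)
  exact ⟨x, hx, h, hh, rfl⟩

end Cfsg.Agent.Lib.H46FCW2
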