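import Cfsg.Agent.Lib.H46FCRel
import Cfsg.Agent.Lib.H46FCZeroE
import Cfsg.Agent.Lib.H46FCInNE
import Cfsg.Agent.Lib.H46FCInP
import Cfsg.Agent.Lib.H46FCVCent
import Cfsg.Agent.Lib.H46FCHCent
import Cfsg.Agent.Lib.H46FCW1
import Cfsg.Agent.Lib.H46FCW2

set_option autoImplicit false
set_option linter.unusedSectionVars false
set_option linter.unusedVariables false

namespace Cfsg.Agent.Lib.H46FCMain

open Subgroup Cfsg.Lie Cfsg.Lie.ChevalleyDatum
open Cfsg.Agent.Lib.Helper22ChevBasic Cfsg.Agent.Lib.Helper22ChevU Cfsg.Agent.Lib.Helper22ChevPar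
  Cfsg.Agent.Lib.H46FCRel

variable {F : Type*} [Field F] [CharP F 2]

/-- generators of `KK` commute with `X 39 _` and `X 45 _` -/
theorem KK_comm {r : ℕ} (hr : r ∈ [33, 14, 24, 23] ∨ (24 ≤ r ∧ r < 48 ∧ r ∉ [27, 25, 34, 26])) {k : ℕ}
    (hk : k = 39 ∨ k = 45) (a b : F) : X r a * X k b = X k b * X r a := by
  have hk48 : k < 48 := by rcases hk with rfl | rfl <;> norm_num
  have hkS : k ∈ S := by rcases hk with rfl | rfl <;> simp [S]
  have pos : ∀ r : ℕ, 24 ≤ r → r < 48 → r ∉ [27, 25, 34, 26] → X r a * X k b = X k b * X r a := by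
    intro r h1 h2 h3
    apply CT h2 hk48
    apply tabU ⟨r, h2⟩ h1 k hkS
    simp only [List.mem_cons, List.not_mem_nil, or_false, not_or] at h3
    simp only [List.mem_cons, List.not_mem_nil, or_false, Prod.mk.injEq, not_or, not_and]
    rcases hk with rfl | rfl
    · refine ⟨?_, ?_, ?_, ?_, ?_, ?_⟩ <;> omega
    · refine ⟨?_, ?_, ?_, ?_, ?_, ?_⟩ <;> omega
  rcases hr with hr | ⟨h1, h2, h3⟩
  · simp only [List.mem_cons, List.not_mem_nil, or_false] at hr
    rcases hr with rfl | rfl | rfl | rfl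
    · exact pos 33 (by norm_num) (by norm_num) (by simp)
    · exact CT (by norm_num) hk48 (tabN 14 (by simp) k (by rcases hk with rfl | rfl <;> simp)) a b
    · exact pos 24 (by norm_num) (by norm_num) (by simp)
    · exact CT (by norm_num) hk48 (tabN 23 (by simp) k (by rcases hk with rfl | rfl <;> simp)) a b
  · exact pos r h1 h2 h3

theorem KK_cent (y : GL chevF4.Idx F) (hy : y ∈ KK F) {k : ℕ} (hk : k = 39 ∨ k = 45) (b : F) :
    y * X k b = X k b * y := by
  have : KK F ≤ centralizer {X k b} := by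
    unfold KK
    rw [closure_le]
    rintro _ ⟨r, a, hr, rfl⟩
    rw [SetLike.mem_coe, mem_centralizer_singleton_iff]
    exact KK_comm hr hk a b
  exact mem_centralizer_singleton_iff.1 (this hy)

omit [CharP F 2] in
theorem LJ_le : LJ F ≤ KK F := by
  unfold LJ KK
  apply Subgroup.closure_mono
  rintro _ ⟨r, hr, t, rfl⟩
  exact ⟨r, t, Or.inl hr, rfl⟩

theorem second : chevF4.group F ⊓ centralizer {X 39 (1 : F) * X 45 1} = KK F := by
  apply le_antisymm
  · rintro g ⟨hgG, hgC⟩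
    have hgt : g * (X 39 1 * X 45 1) = (X 39 1 * X 45 1) * g := mem_centralizer_singleton_iff.1 hgC
    have hgt' : g⁻¹ * (X 39 1 * X 45 1) = (X 39 1 * X 45 1) * g⁻¹ := by
      rw [inv_mul_eq_iff_eq_mul, ← mul_assoc, hgt, mul_inv_cancel_right]
    have h1 := H46FCInNE.inNE g hgG hgt
    have h2 := H46FCInNE.inNE g⁻¹ (inv_mem hgG) hgt'
    simp only [inv_inv] at h2
    obtain ⟨u, hu, l, hl, h, hh, rfl⟩ := H46FCInP.inP g hgG h1 h2
    obtain ⟨χ1, χ2, hχ1, hχ2, hχL⟩ := H46FCHCent.hcent h hh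
    have hl39 := KK_cent l (LJ_le hl) (k := 39) (Or.inl rfl) χ1
    have hl45 := KK_cent l (LJ_le hl) (k := 45) (Or.inr rfl) χ2
    have e1 : u * (X 39 χ1 * X 45 χ2) * u⁻¹ = X 39 1 * X 45 1 := by
      have a1 : u * l * h * (X 39 1 * X 45 1) * (u * l * h)⁻¹ = X 39 1 * X 45 1 := by rw [hgt]; group
      have a2 : u * l * h * (X 39 1 * X 45 1) * (u * l * h)⁻¹ =
          u * ((l * (h * X 39 1 * h⁻¹) * l⁻¹) * (l * (h * X 45 1 * h⁻¹) * l⁻¹)) * u⁻¹ := by group
      rw [a2, hχ1, hχ2, mul_one, mul_one, hl39, hl45, mul_inv_cancel_right, mul_inv_cancel_right] at a1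
      exact a1
    obtain ⟨c1, c2, huK⟩ := H46FCVCent.vcent u hu χ1 χ2 e1
    exact mul_mem (mul_mem huK (LJ_le hl)) (LJ_le (hχL c1 c2))
  · intro y hy
    refine ⟨?_, mem_centralizer_singleton_iff.2 ?_⟩
    · have : KK F ≤ chevF4.group F := by
        unfold KK
        rw [closure_le]
        rintro _ ⟨r, a, -, rfl⟩
        exact X_mem r a
      exact this hy
    · rw [← mul_assoc, KK_cent y hy (Or.inl rfl), mul_assoc, KK_cent y hy (Or.inr rfl), mul_assoc]

/-- the candidate centraliser of `w` -/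
def PW (F : Type*) [Field F] : Subgroup (GL chevF4.Idx F) :=
  closure {g : GL chevF4.Idx F | ∃ (r : ℕ) (t : F), ((24 ≤ r ∧ r < 48) ∨ r = 20 ∨ r = 22) ∧ g = X r t}

theorem PW_cent (y : GL chevF4.Idx F) (hy : y ∈ PW F) {k : ℕ} (hk : k = 44 ∨ k = 47) (b : F) :
    y * X k b = X k b * y := by
  have hk48 : k < 48 := by rcases hk with rfl | rfl <;> norm_num
  have hkS : k ∈ S := by rcases hk with rfl | rfl <;> simp [S]
  have : PW F ≤ centralizer {X k b} := by
    unfold PW
    rw [closure_le]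
    rintro _ ⟨r, a, hr, rfl⟩
    rw [SetLike.mem_coe, mem_centralizer_singleton_iff]
    rcases hr with ⟨h1, h2⟩ | rfl | rfl
    · apply CT h2 hk48
      apply tabU ⟨r, h2⟩ h1 k hkS
      simp only [List.mem_cons, List.not_mem_nil, or_false, Prod.mk.injEq, not_or, not_and]
      rcases hk with rfl | rfl
      · refine ⟨?_, ?_, ?_, ?_, ?_, ?_⟩ <;> omega
      · refine ⟨?_, ?_, ?_, ?_, ?_, ?_⟩ <;> omega
    · exact CT (by norm_num) hk48 (tabW 20 (by simp) k (by rcases hk with rfl | rfl <;> simp)) a b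
    · exact CT (by norm_num) hk48 (tabW 22 (by simp) k (by rcases hk with rfl | rfl <;> simp)) a b
  exact mem_centralizer_singleton_iff.1 (this hy)

theorem first : chevF4.group F ⊓ centralizer {X 47 (1 : F) * X 44 1} = PW F := by
  have hn48 : chevF4.nroots = 48 := by decide
  apply le_antisymm
  · rintro g ⟨hgG, hgC⟩
    have hgt : g * (X 47 1 * X 44 1) = (X 47 1 * X 44 1) * g := mem_centralizer_singleton_iff.1 hgC
    have hgt' : g⁻¹ * (X 47 1 * X 44 1) = (X 47 1 * X 44 1) * g⁻¹ := by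
      rw [inv_mul_eq_iff_eq_mul, ← mul_assoc, hgt, mul_inv_cancel_right]
    have h1 := H46FCW1.w1 g hgG hgt
    have h2 := H46FCW1.w1 g⁻¹ (inv_mem hgG) hgt'
    simp only [inv_inv] at h2
    obtain ⟨x, hx, h, hh, rfl⟩ := H46FCW2.w2 g hgG h1 h2
    have hx' : x ∈ PW F := hx
    obtain ⟨χ1, χ2, hχ1, hχ2, hχL⟩ := H46FCHCent.hcentW h hh
    have e1 : X 47 χ2 * X 44 χ1 = X 47 1 * X 44 1 := by
      have a1 : x * h * (X 47 1 * X 44 1) * (x * h)⁻¹ = X 47 1 * X 44 1 := by rw [hgt]; group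
      have a2 : x * h * (X 47 1 * X 44 1) * (x * h)⁻¹ =
          (x * (h * X 47 1 * h⁻¹) * x⁻¹) * (x * (h * X 44 1 * h⁻¹) * x⁻¹) := by group
      rw [a2, hχ1, hχ2, mul_one, mul_one, PW_cent x hx' (Or.inr rfl), PW_cent x hx' (Or.inl rfl),
        mul_inv_cancel_right, mul_inv_cancel_right] at a1
      exact a1
    have e2 : X 44 (χ1 + 1) = X 47 (χ2 + 1) := by
      have : X 44 χ1 * X 44 1 = X 47 χ2 * X 47 1 := by
        have b1 : X 44 χ1 = (X 47 χ2)⁻¹ * (X 47 1 * X 44 1) := by rw [← e1]; group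
        rw [b1, X_inv, mul_assoc, mul_assoc, X_sq, mul_one]
      rwa [X_add, X_add] at this
    have c1 : χ1 + 1 = 0 := by
      apply eq_zero_of_mem_Uk hD (k := 44) (by rw [hn48]; norm_num) (by rw [hn48]; norm_num)
      show X 44 (χ1 + 1) ∈ _
      rw [e2]
      exact xG_mem_Uk hD (by norm_num) _
    have c2 : χ2 + 1 = 0 := by
      rw [c1, X_zero] at e2
      exact X_inj (by norm_num) e2.symm
    have d1 : χ1 = 1 := by
      have : χ1 = -1 := by linear_combination c1
      rw [this, neg_eq']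
    have d2 : χ2 = 1 := by
      have : χ2 = -1 := by linear_combination c2
      rw [this, neg_eq']
    refine mul_mem hx' ?_
    have hle : closure {g : GL chevF4.Idx F | ∃ r ∈ [27, 20, 25, 22], ∃ t : F, g = X r t} ≤ PW F := by
      unfold PW
      apply Subgroup.closure_mono
      rintro _ ⟨r, hr, t, rfl⟩
      refine ⟨r, t, ?_, rfl⟩
      simp only [List.mem_cons, List.not_mem_nil, or_false] at hr
      rcases hr with rfl | rfl | rfl | rfl <;> simp
    exact hle (hχL d1 d2)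
  · intro y hy
    refine ⟨?_, mem_centralizer_singleton_iff.2 ?_⟩
    · have : PW F ≤ chevF4.group F := by
        unfold PW
        rw [closure_le]
        rintro _ ⟨r, a, -, rfl⟩
        exact X_mem r a
      exact this hy
    · rw [← mul_assoc, PW_cent y hy (Or.inr rfl), mul_assoc, PW_cent y hy (Or.inl rfl), mul_assoc]

end Cfsg.Agent.Lib.H46FCMain
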