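import Cfsg.Agent.Lib.Helper22ChevPar2
import Cfsg.Agent.Lib.Helper22ChevInst
import Cfsg.Agent.Lib.Helper46DZ7

set_option autoImplicit false
set_option linter.unusedSectionVars false
set_option linter.unusedVariables false

/-! Vocabulary of project WC (weakly closed subgroups of `U` in the tabulated Chevalley groups, row S2244). -/

namespace Cfsg.Agent.Lib.H46WCDefs

open Cfsg.Lie Cfsg.Lie.ChevalleyDatum Cfsg.Agent.Lib.Helper22ChevBasic

/-- the pairing of the cocharacter `∑ e j • α_j^∨` with the root of index `k` -/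
def pairE (D : ChevalleyDatum) (e : ℕ → ℤ) (k : ℕ) : ℤ := ((List.range D.rank).map fun j => e j * D.cartan j k).sum

/-- some cocharacter kills the root `k` and takes the value `d` on the root `k0` -/
def SepW (D : ChevalleyDatum) (k0 k : ℕ) (d : ℤ) : Prop := ∃ e : ℕ → ℤ, pairE D e k = 0 ∧ pairE D e k0 = d

/-- table fact: a fundamental root is separated from every other positive root by a cocharacter with value `0 < |d| ≤ b` -/
def SepTab (D : ChevalleyDatum) (b : ℕ) : Prop :=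
  ∀ i < D.rank, ∀ k, D.nroots / 2 ≤ k → k < D.nroots → k ≠ D.simple i →
    ∃ d : ℤ, d ≠ 0 ∧ d.natAbs ≤ b ∧ SepW D (D.simple i) k d

/-- table fact: every positive root which is not fundamental occurs with coefficient `± 1` in a commutator formula
with one term, or with two terms belonging to commuting root subgroups -/
def Reach (D : ChevalleyDatum) : Prop :=
  ∀ r, D.nroots / 2 ≤ r → r < D.nroots → (∀ i < D.rank, r ≠ D.simple i) →
    ∃ z y, D.nroots / 2 ≤ z ∧ z < D.nroots ∧ D.nroots / 2 ≤ y ∧ y < D.nroots ∧ z ≠ y ∧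
      ((∃ ε : ℤ, (ε = 1 ∨ ε = -1) ∧ D.commTerms z y = [(r, ε, 1, 1)]) ∨
       (∃ (A B : ℕ) (ε ε' : ℤ) (i j : ℕ), (ε = 1 ∨ ε = -1) ∧ (ε' = 1 ∨ ε' = -1) ∧ ((i = 1 ∧ j = 2) ∨ (i = 2 ∧ j = 1)) ∧
          D.commTerms z y = [(A, ε, 1, 1), (B, ε', i, j)] ∧ (r = A ∨ r = B) ∧ A ≠ B ∧ D.commTerms A B = []))

variable {F : Type*} [Field F] {D : ChevalleyDatum}

/-- some element of `H` centralises `X_k` and acts on `X_{k0}` by a scalar `c ≠ 1` -/
def SepH (hD : Std D) (F : Type*) [Field F] (k0 k : ℕ) : Prop :=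
  ∃ h ∈ D.diagonalSubgroup F, ∃ c : F, c ≠ 1 ∧ (∀ t : F, h * xG hD k t * h⁻¹ = xG hD k t) ∧
    ∀ t : F, h * xG hD k0 t * h⁻¹ = xG hD k0 (c * t)

/-- `X` is normalised by `B = UH` -/
def NB (X : Subgroup (GL D.Idx F)) : Prop := ∀ b ∈ D.borelSubgroup F, ∀ x ∈ X, b * x * b⁻¹ ∈ X

end Cfsg.Agent.Lib.H46WCDefs
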