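import Cfsg.Agent.Lib.LeadChevCent
import Cfsg.Agent.Lib.H46WCDefs
import Cfsg.Agent.Lib.H46BTSyl

set_option autoImplicit false
set_option linter.unusedSectionVars false
set_option linter.unusedVariables false

/-! Vocabulary of project FC (`F₄` in characteristic two, row S2179). `neg r = 47 - r`, positive roots `24 .. 47`, simple roots `33, 27, 25, 24`. -/

namespace Cfsg.Agent.Lib.H46FCRel

open Subgroup Cfsg.Lie Cfsg.Lie.ChevalleyDatum
open Cfsg.Agent.Lib.Helper22ChevBasic Cfsg.Agent.Lib.Helper22ChevU Cfsg.Agent.Lib.Helper22ChevPar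

theorem hD : Std chevF4 := by simp

variable {F : Type*} [Field F]

/-- the root element `x_r(t)` of `F₄(F)` as an element of `GL` -/
noncomputable abbrev X (r : ℕ) (t : F) : GL chevF4.Idx F := xG hD r t

/-- conjugate in `F₄(F)` -/
def Cj (g g' : GL chevF4.Idx F) : Prop := ∃ h ∈ chevF4.group F, h * g * h⁻¹ = g'

theorem Cj.refl (g : GL chevF4.Idx F) : Cj g g := ⟨1, one_mem _, by simp⟩

theorem Cj.trans {a b c : GL chevF4.Idx F} (h1 : Cj a b) (h2 : Cj b c) : Cj a c := by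
  obtain ⟨h, hh, rfl⟩ := h1
  obtain ⟨k, hk, rfl⟩ := h2
  exact ⟨k * h, mul_mem hk hh, by group⟩

theorem X_mem (r : ℕ) (t : F) : X r t ∈ chevF4.group F := xG_mem_group hD r t

theorem Cj.ofX (r : ℕ) (s : F) (g : GL chevF4.Idx F) : Cj g (X r s * g * (X r s)⁻¹) := ⟨_, X_mem r s, rfl⟩

theorem X_add (r : ℕ) (a b : F) : X r a * X r b = X r (a + b) := xG_add hD r a b

theorem X_zero (r : ℕ) : X r (0 : F) = 1 := xG_zero hD r

theorem comm0 {r s : ℕ} (hr : r < 48) (hs : s < 48) (hrs : s ≠ r) (hneg : s ≠ 47 - r)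
    (h : chevF4.commTerms r s = []) (a b : F) : X r a * X s b = X s b * X r a := by
  have hn : chevF4.neg r = 47 - r := by
    have : ∀ r < 48, chevF4.neg r = 47 - r := by decide +kernel
    exact this r hr
  exact Cfsg.Agent.Lib.LeadChevCent.comm_of_terms hD hr hs hrs (by rw [hn]; exact hneg)
    (by rw [h]; simp) a b

variable [CharP F 2]

theorem two0 : (2 : F) = 0 := CharP.cast_eq_zero F 2
theorem neg_eq' (a : F) : -a = a := by
  have : a + a = 0 := by rw [← two_mul, two0, zero_mul]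
  exact neg_eq_of_add_eq_zero_left this
theorem add_self' (a : F) : a + a = 0 := by rw [← two_mul, two0, zero_mul]

theorem X_inv (r : ℕ) (a : F) : (X r a)⁻¹ = X r a := by
  rw [inv_eq_iff_mul_eq_one, X_add, add_self', X_zero]

theorem X_sq (r : ℕ) (a : F) : X r a * X r a = 1 := by rw [X_add, add_self', X_zero]

omit [CharP F 2] in
theorem conjW {r s : ℕ} (hr : r < 48) (hs : s < 48) (hrs : s ≠ r) (hneg : s ≠ 47 - r) (a b : F) :
    X r a * X s b = X s b * wordG hD (chevF4.commWord F r s (-a) b) * X r a := by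
  have hn : chevF4.neg r = 47 - r := by
    have : ∀ r < 48, chevF4.neg r = 47 - r := by decide +kernel
    exact this r hr
  have h1 := conj_eq (F := F) hD hr hs hrs (by rw [hn]; exact hneg) a b
  exact mul_inv_eq_iff_eq_mul.1 h1

/-- all structure constants of the pair `(s, r)` are even (and `r ≠ -s`) -/
def EvenT (s r : ℕ) : Prop := r ≠ 47 - s ∧ ∀ c ∈ chevF4.commTerms s r, (2 : ℤ) ∣ c.2.1

instance (s r : ℕ) : Decidable (EvenT s r) := by unfold EvenT; infer_instance

/-- root subgroups with even structure constants commute in characteristic 2 -/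
theorem CT {s r : ℕ} (hs : s < 48) (hr : r < 48) (h : EvenT s r) (a b : F) : X s a * X r b = X r b * X s a := by
  by_cases e : r = s
  · subst e; rw [X_add, X_add, add_comm]
  · have hn : chevF4.neg s = 47 - s := by
      have : ∀ r < 48, chevF4.neg r = 47 - r := by decide +kernel
      exact this s hs
    exact Cfsg.Agent.Lib.LeadChevCent.comm_of_terms hD hs hr e (by rw [hn]; exact h.1)
      (fun c hc => (CharP.intCast_eq_zero_iff F 2 _).2 (by exact_mod_cast h.2 c hc)) a b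

/-- the roots of `E`: `39 = 1221`, `40 = 1321`, `44 = 2321` (short), `45 = 2421`, `46 = 2431`, `47 = 2432` (long) -/
def S : List ℕ := [39, 40, 44, 45, 46, 47]

/-- the six pairs `(s, r)`, `s` positive, `r ∈ S`, with an odd structure constant -/
def Six : List (ℕ × ℕ × ℕ) := [(24,46,47),(25,45,46),(26,45,47),(27,39,40),(33,40,44),(34,39,44)]

set_option maxRecDepth 100000 in
theorem tabS : ∀ s ∈ S, ∀ r ∈ S, EvenT s r := by decide +kernel

set_option maxRecDepth 100000 in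
theorem tabU : ∀ s : Fin 48, 24 ≤ s.val → ∀ r ∈ S,
    (s.val, r) ∉ [(24,46),(25,45),(26,45),(27,39),(33,40),(34,39)] → EvenT s.val r := by decide +kernel

set_option maxRecDepth 100000 in
theorem tabN : ∀ s ∈ [14, 23], ∀ r ∈ [39, 45], EvenT s r := by decide +kernel

set_option maxRecDepth 100000 in
theorem tabW : ∀ s ∈ [20, 22], ∀ r ∈ [44, 47], EvenT s r := by decide +kernel

set_option maxRecDepth 100000 in
theorem tabSix : ∀ p ∈ Six, chevF4.commTerms p.1 p.2.1 = [(p.2.2, 1, 1, 1)] := by decide +kernel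

/-- the six non-trivial relations -/
theorem R6 {s r k : ℕ} (h : (s, r, k) ∈ Six) (a b : F) : X s a * X r b = X r b * X k (a * b) * X s a := by
  have hct := tabSix _ h
  have hb : ∀ p ∈ Six, p.1 < 48 ∧ p.2.1 < 48 ∧ p.2.1 ≠ p.1 ∧ p.2.1 ≠ 47 - p.1 := by decide
  obtain ⟨h1, h2, h3, h4⟩ := hb _ h
  rw [conjW h1 h2 h3 h4]
  simp only [commWord, hct, List.map, wordG_cons, wordG_nil, mul_one, neg_neg]
  have e3 : ((1 : ℤ) : F) * a ^ 1 * b ^ 1 = a * b := by push_cast; ring
  rw [e3]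

/-- the general element of `E = X_39 X_40 X_44 X_45 X_46 X_47` (elementary abelian in characteristic 2) -/
noncomputable def eL (t : ℕ → F) : GL chevF4.Idx F :=
  X 39 (t 39) * X 40 (t 40) * X 44 (t 44) * X 45 (t 45) * X 46 (t 46) * X 47 (t 47)

/-- the subgroup generated by the `X_r`, `r ∈ S`, `Ψ r` -/
def E' (F : Type*) [Field F] (Ψ : ℕ → Prop) : Subgroup (GL chevF4.Idx F) :=
  closure {g | ∃ r ∈ S, ∃ t : F, Ψ r ∧ g = X r t}

/-- `⟨X_{±p1}, X_{±p4}⟩` -/
def LJ (F : Type*) [Field F] : Subgroup (GL chevF4.Idx F) :=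
  closure {g | ∃ r ∈ [33, 14, 24, 23], ∃ t : F, g = X r t}

/-- the candidate centraliser of `v = x_39(1) x_45(1)` -/
def KK (F : Type*) [Field F] : Subgroup (GL chevF4.Idx F) :=
  closure {g | ∃ (r : ℕ) (t : F), (r ∈ [33, 14, 24, 23] ∨ (24 ≤ r ∧ r < 48 ∧ r ∉ [27, 25, 34, 26])) ∧ g = X r t}

section NH
open Cfsg.Agent.Lib.Helper23Grp Cfsg.Agent.Lib.Helper23RG Cfsg.Agent.Lib.Helper23RG.RG
  Cfsg.Agent.Lib.Helper23Table Cfsg.Agent.Lib.Helper23Chev

omit [CharP F 2] in
/-- the element `n_i` of `N`  -/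
theorem n_conj (i : ℕ) (hi : i < 4) : ∃ n ∈ chevF4.group F, ∃ k : ℕ → F, (∀ r, k r ≠ 0) ∧
    ∀ r < 48, ∀ t : F, n * X r t * n⁻¹ = X (chevF4.reflectRoot i r) (k r * t) := by
  have hT : TableOK chevF4 := Cfsg.Agent.Lib.Helper23Tab.tableOK_of_mem hD
  have hR : Rel chevF4 F := Cfsg.Agent.Lib.Helper22ChevRel.rel_of_mem hD
  have ok := rg_ok hT hR
  have hxx : ∀ (r : ℕ) (a : F), xg chevF4 F r a = xG hD r a := xg_eq_xG hR hD
  refine ⟨(rg hT hR).nn ⟨i, hi⟩, ?_, fun r => if h : r < 48 then (rg hT hR).η ⟨i, hi⟩ ⟨r, h⟩ else 1, ?_, ?_⟩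
  · rw [← G_eq hT hR]
    exact N_le_G ok (nn_mem_N _)
  · intro r
    by_cases h : r < 48
    · simp only [h, dif_pos]; exact η_ne_zero ok _ _
    · simp only [h, dif_neg, not_false_eq_true]; exact one_ne_zero
  · intro r hr t
    have := ok.n_conj ⟨i, hi⟩ ⟨r, hr⟩ t
    simp only [hr, dif_pos]
    show _ * xG hD r t * _ = xG hD _ _
    rw [← hxx, ← hxx]
    exact this

omit [CharP F 2] in
/-- the torus elements `h_i(c)` -/
theorem h_conj (i : ℕ) (hi : i < 4) (c : F) (hc : c ≠ 0) : ∃ h ∈ chevF4.group F,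
    ∀ r < 48, ∀ t : F, h * X r t * h⁻¹ = X r (c ^ (chevF4.cartan i r) * t) := by
  have hR : Rel chevF4 F := Cfsg.Agent.Lib.Helper22ChevRel.rel_of_mem hD
  refine ⟨hG hD (chevF4.simple i) c, ?_, fun r hr t => ?_⟩
  · exact wordG_mem_group hD _
  · rw [Cfsg.Agent.Lib.LeadChevCent.hG_conj hD hR hi hr hc, mul_inv_cancel_right]

omit [CharP F 2] in
theorem X_inj {r : ℕ} (hr : r < 48) {t : F} (h : X r t = 1) : t = 0 := by
  have hT : TableOK chevF4 := Cfsg.Agent.Lib.Helper23Tab.tableOK_of_mem hD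
  have hR : Rel chevF4 F := Cfsg.Agent.Lib.Helper22ChevRel.rel_of_mem hD
  have ok := rg_ok hT hR
  have hxx : ∀ (r : ℕ) (a : F), xg chevF4 F r a = xG hD r a := xg_eq_xG hR hD
  apply ok.x_inj ⟨r, hr⟩ t
  show xg chevF4 F r t = 1
  rw [hxx]; exact h

omit [CharP F 2] in
/-- `U ∩ V = 1` -/
theorem UV_trivial (g : GL chevF4.Idx F) (h1 : g ∈ chevF4.posUnipotent F)
    (h2 : g ∈ closure {g : GL chevF4.Idx F | ∃ (r : ℕ) (t : F), r < 24 ∧ g = X r t}) : g = 1 := by
  have hT : TableOK chevF4 := Cfsg.Agent.Lib.Helper23Tab.tableOK_of_mem hD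
  have hR : Rel chevF4 F := Cfsg.Agent.Lib.Helper22ChevRel.rel_of_mem hD
  have ok := rg_ok hT hR
  have hxx : ∀ (r : ℕ) (a : F), xg chevF4 F r a = xG hD r a := xg_eq_xG hR hD
  apply hBV hT hR g
  · apply U_le_B
    rw [U_eq hT hR]; exact h1
  · have : closure {g : GL chevF4.Idx F | ∃ (r : ℕ) (t : F), r < 24 ∧ g = X r t} ≤ (rg hT hR).V := by
      rw [closure_le]
      rintro _ ⟨r, t, hr, rfl⟩
      have h12 : r < chevF4.nroots := by
        have : chevF4.nroots = 48 := by decide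
        omega
      have := x_mem_V (S := rg hT hR) (r := ⟨r, h12⟩) (by
        show ¬ (chevF4.nroots / 2 ≤ r)
        have : chevF4.nroots = 48 := by decide
        omega) t
      have e : (rg hT hR).x ⟨r, h12⟩ t = X r t := hxx r t
      rw [← e]; exact this
    exact this h2

end NH

end Cfsg.Agent.Lib.H46FCRel
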