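import Cfsg.Agent.Lib.H46GCRel

set_option autoImplicit false
set_option linter.unusedSectionVars false
set_option linter.unusedVariables false

namespace Cfsg.Agent.Lib.H46GCCase7

open Subgroup Cfsg.Lie Cfsg.Lie.ChevalleyDatum
open Cfsg.Agent.Lib.Helper23Grp Cfsg.Agent.Lib.Helper23RG Cfsg.Agent.Lib.Helper23RG.RG
  Cfsg.Agent.Lib.Helper23Table Cfsg.Agent.Lib.Helper23Chev
  Cfsg.Agent.Lib.Helper22ChevBasic Cfsg.Agent.Lib.Helper22ChevU Cfsg.Agent.Lib.Helper22ChevPar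
  Cfsg.Agent.Lib.H46GCRel

variable {F : Type*} [Field F] [CharP F 2]

theorem m67 (a b : F) (w : GL chevG2.Idx F) : X 6 a * (X 7 b * w) =
    X 7 b * (X 8 (a * b) * (X 9 (a * b ^ 2) * (X 10 (a * b ^ 3) * (X 6 a * w)))) := by
  rw [← mul_assoc, R67]; simp only [mul_assoc]

theorem m610 (a b : F) (w : GL chevG2.Idx F) : X 6 a * (X 10 b * w) =
    X 10 b * (X 11 (a * b) * (X 6 a * w)) := by
  rw [← mul_assoc, R610]; simp only [mul_assoc]

omit [CharP F 2] in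
theorem mC {r s : ℕ} (h : (r, s) ∈ [(6,8),(8,6),(6,9),(9,6),(6,11),(11,6),(7,10),(10,7),(7,11),(11,7),(8,10),(10,8),
    (8,11),(11,8),(9,10),(10,9),(9,11),(11,9),(10,11),(11,10),(5,9),(9,5),(5,7),(7,5),(5,10),(10,5),(4,6),(6,4),(4,11),(11,4)]) (a b : F)
    (w : GL chevG2.Idx F) : X r a * (X s b * w) = X s b * (X r a * w) := by
  rw [← mul_assoc, C0 h, mul_assoc]

theorem m98 (a b : F) (w : GL chevG2.Idx F) : X 9 b * (X 8 a * w) =
    X 8 a * (X 9 b * (X 11 (a * b) * w)) := by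
  have h := R89 a b
  have h2 : X 9 b * X 8 a = X 8 a * X 9 b * X 11 (a * b) := by
    rw [h, mul_assoc, mul_assoc, C0 (r := 8) (s := 11) (by simp), ← mul_assoc (X 11 _), X_sq, one_mul]
  rw [← mul_assoc, h2]; simp only [mul_assoc]

omit [CharP F 2] in
theorem mA (r : ℕ) (a b : F) (w : GL chevG2.Idx F) : X r a * (X r b * w) = X r (a + b) * w := by
  rw [← mul_assoc, X_add]

theorem step1 (s c7 c8 c9 c10 c11 : F) (w : GL chevG2.Idx F) :
    X 6 s * (X 7 c7 * (X 8 c8 * (X 9 c9 * (X 10 c10 * (X 11 c11 * (X 6 s * w)))))) =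
    X 7 c7 * (X 8 (s * c7 + c8) * (X 9 (s * c7 ^ 2 + c9) * (X 10 (s * c7 ^ 3 + c10) *
      (X 11 (c8 * (s * c7 ^ 2) + s * c10 + c11) * w)))) := by
  rw [m67, mC (r := 6) (s := 8) (by simp), mC (r := 6) (s := 9) (by simp), m610,
    mC (r := 6) (s := 11) (by simp), mA 6, add_self', X_zero, one_mul]
  rw [mC (r := 10) (s := 8) (by simp), m98, mA 8]
  rw [mC (r := 11) (s := 10) (by simp), mC (r := 11) (s := 9) (by simp), mC (r := 10) (s := 9) (by simp), mA 9]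
  rw [mC (r := 11) (s := 10) (by simp), mA 10, mA 11, mA 11]

/-- `c7 ≠ 0`.  Conjugate by `X 6 s`, `s = c8 / c7`, then by `n_1`. -/
theorem case7 (c7 c8 c9 c10 c11 : F) (h7 : c7 ≠ 0) : ∃ d8 d9 d10 d11 : F,
    Cj (X 7 c7 * X 8 c8 * X 9 c9 * X 10 c10 * X 11 c11) (q 0 d8 d9 d10 d11) := by
  obtain ⟨n, hn, k, hk, hc⟩ := n_conj (F := F) 1 (by norm_num)
  have r7 : chevG2.reflectRoot 1 7 = 8 := by decide
  have r9 : chevG2.reflectRoot 1 9 = 9 := by decide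
  have r10 : chevG2.reflectRoot 1 10 = 11 := by decide
  have r11 : chevG2.reflectRoot 1 11 = 10 := by decide
  set s : F := c8 / c7 with hs
  have hs7 : s * c7 + c8 = 0 := by
    rw [hs, div_mul_cancel₀ _ h7, add_self']
  have h1 := step1 s c7 c8 c9 c10 c11 1
  rw [hs7, X_zero, one_mul, mul_one, mul_one] at h1
  set e9 := s * c7 ^ 2 + c9
  set e10 := s * c7 ^ 3 + c10
  set e11 := c8 * (s * c7 ^ 2) + s * c10 + c11
  refine ⟨k 7 * c7, k 9 * e9, k 11 * e11, k 10 * e10, n * X 6 s, mul_mem hn (X_mem _ _), ?_⟩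
  have h2 : X 6 s * (X 7 c7 * X 8 c8 * X 9 c9 * X 10 c10 * X 11 c11) * (X 6 s)⁻¹ =
      X 7 c7 * X 9 e9 * X 10 e10 * X 11 e11 := by
    rw [X_inv]
    simp only [mul_assoc]
    exact h1
  have h3 : n * X 6 s * (X 7 c7 * X 8 c8 * X 9 c9 * X 10 c10 * X 11 c11) * (n * X 6 s)⁻¹ =
      n * (X 6 s * (X 7 c7 * X 8 c8 * X 9 c9 * X 10 c10 * X 11 c11) * (X 6 s)⁻¹) * n⁻¹ := by
    group
  rw [h3, h2]
  have h4 : n * (X 7 c7 * X 9 e9 * X 10 e10 * X 11 e11) * n⁻¹ =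
      (n * X 7 c7 * n⁻¹) * (n * X 9 e9 * n⁻¹) * (n * X 10 e10 * n⁻¹) * (n * X 11 e11 * n⁻¹) := by
    group
  rw [h4, hc 7 (by norm_num), hc 9 (by norm_num), hc 10 (by norm_num), hc 11 (by norm_num),
    r7, r9, r10, r11]
  unfold q
  rw [X_zero, one_mul, mul_assoc _ (X 11 _) (X 10 _), C0 (r := 11) (s := 10) (by simp), ← mul_assoc]

end Cfsg.Agent.Lib.H46GCCase7
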