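import Cfsg.Agent.Lib.H46GCRel

set_option autoImplicit false
set_option linter.unusedSectionVars false
set_option linter.unusedVariables false
set_option linter.unusedSimpArgs false

namespace Cfsg.Agent.Lib.H46GCMulQ

open Subgroup Cfsg.Lie Cfsg.Lie.ChevalleyDatum
open Cfsg.Agent.Lib.Helper23Grp Cfsg.Agent.Lib.Helper23RG Cfsg.Agent.Lib.Helper23RG.RG
  Cfsg.Agent.Lib.Helper23Table Cfsg.Agent.Lib.Helper23Chev
  Cfsg.Agent.Lib.Helper22ChevBasic Cfsg.Agent.Lib.Helper22ChevU Cfsg.Agent.Lib.Helper22ChevPar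
  Cfsg.Agent.Lib.H46GCRel

variable {F : Type*} [Field F] [CharP F 2]

theorem sw {r s : ℕ} (h : ∀ a b : F, X r a * X s b = X s b * X r a) (a b : F)
    (w : GL chevG2.Idx F) : X r a * (X s b * w) = X s b * (X r a * w) := by
  rw [← mul_assoc, h, mul_assoc]

theorem c86 (a b : F) : X 8 a * X 6 b = X 6 b * X 8 a := C0 (by simp) a b
theorem c96 (a b : F) : X 9 a * X 6 b = X 6 b * X 9 a := C0 (by simp) a b
theorem c116 (a b : F) : X 11 a * X 6 b = X 6 b * X 11 a := C0 (by simp) a b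
theorem c108 (a b : F) : X 10 a * X 8 b = X 8 b * X 10 a := C0 (by simp) a b
theorem c118 (a b : F) : X 11 a * X 8 b = X 8 b * X 11 a := C0 (by simp) a b
theorem c109 (a b : F) : X 10 a * X 9 b = X 9 b * X 10 a := C0 (by simp) a b
theorem c119 (a b : F) : X 11 a * X 9 b = X 9 b * X 11 a := C0 (by simp) a b
theorem c1110 (a b : F) : X 11 a * X 10 b = X 10 b * X 11 a := C0 (by simp) a b

theorem c106 (b a : F) : X 10 b * X 6 a = X 6 a * (X 10 b * X 11 (a * b)) := by
  have h := R610 a b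
  rw [mul_assoc, c116, ← mul_assoc] at h
  rw [← mul_assoc, h, mul_assoc, X_sq, mul_one]

theorem c98 (b a : F) : X 9 b * X 8 a = X 8 a * (X 9 b * X 11 (a * b)) := by
  have h := R89 a b
  rw [mul_assoc, c118, ← mul_assoc] at h
  rw [← mul_assoc, h, mul_assoc, X_sq, mul_one]

theorem c106' (b a : F) (w : GL chevG2.Idx F) :
    X 10 b * (X 6 a * w) = X 6 a * (X 10 b * (X 11 (a * b) * w)) := by
  rw [← mul_assoc, c106]
  simp only [mul_assoc]

theorem c98' (b a : F) (w : GL chevG2.Idx F) :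
    X 9 b * (X 8 a * w) = X 8 a * (X 9 b * (X 11 (a * b) * w)) := by
  rw [← mul_assoc, c98]
  simp only [mul_assoc]

theorem X_add' (r : ℕ) (a b : F) (w : GL chevG2.Idx F) : X r a * (X r b * w) = X r (a + b) * w := by
  rw [← mul_assoc, X_add]

/-- Product formula in `Q_a = X_6 X_8 X_9 X_10 X_11` (class 2, centre `X_11`).  Move `X 6 d6` to the left past `X 11`, `X 10` (`R610`: gives
`X 11 (c10*d6)`, use `X_inv`/`neg_eq'`), `X 9`, `X 8` (`C0`), then `X 8 d8` past `X 11, X 10` (`C0`) and `X 9` (`R89`: gives `X 11 (c9*d8)`), etc.; `X 11` commutes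
with everything (`C0`); merge with `X_add`. -/
theorem mulq (c6 c8 c9 c10 c11 d6 d8 d9 d10 d11 : F) :
    q c6 c8 c9 c10 c11 * q d6 d8 d9 d10 d11 =
      q (c6 + d6) (c8 + d8) (c9 + d9) (c10 + d10) (c11 + d11 + c10 * d6 + c9 * d8) := by
  unfold q
  simp only [mul_assoc, c86, c96, c116, c108, c118, c109, c119, c1110, c106, c98, c106', c98',
    sw c86, sw c96, sw c116, sw c108, sw c118, sw c109, sw c119, sw c1110, X_add, X_add']
  refine congrArg _ (congrArg _ (congrArg _ (congrArg _ (congrArg _ ?_))))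
  ring

/-- from `mulq`, `add_self'`, `X_zero`. -/
theorem sq_q (c6 c8 c9 c10 c11 : F) :
    q c6 c8 c9 c10 c11 * q c6 c8 c9 c10 c11 = X 11 (c6 * c10 + c8 * c9) := by
  rw [mulq]
  unfold q
  simp only [add_self', X_zero, one_mul, zero_add]
  congr 1
  ring

/-- from `sq_q` and `X_inj`. -/
theorem sq_zero {c6 c8 c9 c10 c11 : F} (h : q c6 c8 c9 c10 c11 * q c6 c8 c9 c10 c11 = 1) :
    c6 * c10 + c8 * c9 = 0 := by
  rw [sq_q] at h
  exact X_inj (by norm_num) h

end Cfsg.Agent.Lib.H46GCMulQ
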