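import Cfsg.Agent.Lib.H46GCRel
import Cfsg.Agent.Lib.H46GCMulQ

set_option autoImplicit false
set_option linter.unusedSectionVars false
set_option linter.unusedVariables false

namespace Cfsg.Agent.Lib.H46GCConj7

open Subgroup Cfsg.Lie Cfsg.Lie.ChevalleyDatum
open Cfsg.Agent.Lib.Helper23Grp Cfsg.Agent.Lib.Helper23RG Cfsg.Agent.Lib.Helper23RG.RG
  Cfsg.Agent.Lib.Helper23Table Cfsg.Agent.Lib.Helper23Chev
  Cfsg.Agent.Lib.Helper22ChevBasic Cfsg.Agent.Lib.Helper22ChevU Cfsg.Agent.Lib.Helper22ChevPar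
  Cfsg.Agent.Lib.H46GCRel

variable {F : Type*} [Field F] [CharP F 2]

theorem q_congr {a6 a8 a9 a10 b6 b8 b9 b10 : F} (e : F) (h6 : a6 = b6) (h8 : a8 = b8) (h9 : a9 = b9)
    (h10 : a10 = b10) : q a6 a8 a9 a10 e = q b6 b8 b9 b10 e := by
  rw [h6, h8, h9, h10]

theorem q6 (a : F) : X 6 a = q a 0 0 0 0 := by
  unfold q
  simp only [X_zero, mul_one]
theorem q8 (a : F) : X 8 a = q 0 a 0 0 0 := by
  unfold q
  simp only [X_zero, mul_one, one_mul]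
theorem q9 (a : F) : X 9 a = q 0 0 a 0 0 := by
  unfold q
  simp only [X_zero, mul_one, one_mul]
theorem q10 (a : F) : X 10 a = q 0 0 0 a 0 := by
  unfold q
  simp only [X_zero, mul_one, one_mul]
theorem q11 (a : F) : X 11 a = q 0 0 0 0 a := by
  unfold q
  simp only [X_zero, one_mul]

/-- Conjugation of `Q_a` by `X 7 s`.  `X 7 s * X 6 c * (X 7 s)⁻¹ = q c (s*c) (s^2*c) (s^3*c) (s^3*c^2)` (`R76`), `X 7 s * X 8 c * (X 7 s)⁻¹ = q 0 c 0 (s^2*c) (s*c^2)` (`R78`),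
`X 7 s * X 9 c * (X 7 s)⁻¹ = q 0 0 c (s*c) 0` (`R79`), `X 10`, `X 11` are fixed (`C0`); `q c6 .. c11` is the product of `q c6 0 0 0 0`, `q 0 c8 0 0 0`, ... (unfold `q`, `X_zero`);
multiply the five conjugates with `H46GCMulQ.mulq` (the last coordinate is whatever comes out). -/
theorem conj7 (s c6 c8 c9 c10 c11 : F) : ∃ e : F, X 7 s * q c6 c8 c9 c10 c11 * (X 7 s)⁻¹ =
    q c6 (c8 + s * c6) (c9 + s ^ 2 * c6) (c10 + s ^ 3 * c6 + s ^ 2 * c8 + s * c9) e := by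
  have h6 : X 7 s * X 6 c6 * (X 7 s)⁻¹ = q c6 (s * c6) (s ^ 2 * c6) (s ^ 3 * c6) (s ^ 3 * c6 ^ 2) := by
    rw [R76, mul_assoc, mul_inv_cancel, mul_one]
    rfl
  have h8 : X 7 s * X 8 c8 * (X 7 s)⁻¹ = q 0 c8 0 (s ^ 2 * c8) (s * c8 ^ 2) := by
    rw [R78, mul_assoc, mul_inv_cancel, mul_one]
    unfold q
    simp only [X_zero, mul_one, one_mul]
  have h9 : X 7 s * X 9 c9 * (X 7 s)⁻¹ = q 0 0 c9 (s * c9) 0 := by
    rw [R79, mul_assoc, mul_inv_cancel, mul_one]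
    unfold q
    simp only [X_zero, mul_one, one_mul]
  have h10 : X 7 s * X 10 c10 * (X 7 s)⁻¹ = q 0 0 0 c10 0 := by
    rw [C0 (r := 7) (s := 10) (by simp), mul_assoc, mul_inv_cancel, mul_one, q10]
  have h11 : X 7 s * X 11 c11 * (X 7 s)⁻¹ = q 0 0 0 0 c11 := by
    rw [C0 (r := 7) (s := 11) (by simp), mul_assoc, mul_inv_cancel, mul_one, q11]
  have hsplit : X 7 s * q c6 c8 c9 c10 c11 * (X 7 s)⁻¹
      = (X 7 s * X 6 c6 * (X 7 s)⁻¹) * (X 7 s * X 8 c8 * (X 7 s)⁻¹) * (X 7 s * X 9 c9 * (X 7 s)⁻¹)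
        * (X 7 s * X 10 c10 * (X 7 s)⁻¹) * (X 7 s * X 11 c11 * (X 7 s)⁻¹) := by
    unfold q
    group
  rw [hsplit, h6, h8, h9, h10, h11, H46GCMulQ.mulq, H46GCMulQ.mulq, H46GCMulQ.mulq, H46GCMulQ.mulq]
  exact ⟨_, q_congr _ (by ring) (by ring) (by ring) (by ring)⟩

end Cfsg.Agent.Lib.H46GCConj7
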