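import Cfsg.Agent.Lib.H46GCRel
import Cfsg.Agent.Lib.H46GCMulQ

set_option autoImplicit false
set_option linter.unusedSectionVars false
set_option linter.unusedVariables false

namespace Cfsg.Agent.Lib.H46GCConjNa

open Subgroup Cfsg.Lie Cfsg.Lie.ChevalleyDatum
open Cfsg.Agent.Lib.Helper23Grp Cfsg.Agent.Lib.Helper23RG Cfsg.Agent.Lib.Helper23RG.RG
  Cfsg.Agent.Lib.Helper23Table Cfsg.Agent.Lib.Helper23Chev
  Cfsg.Agent.Lib.Helper22ChevBasic Cfsg.Agent.Lib.Helper22ChevU Cfsg.Agent.Lib.Helper22ChevPar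
  Cfsg.Agent.Lib.H46GCRel

variable {F : Type*} [Field F] [CharP F 2]

theorem q_congr {a6 a8 a9 a10 b6 b8 b9 b10 : F} (e : F) (h6 : a6 = b6) (h8 : a8 = b8) (h9 : a9 = b9)
    (h10 : a10 = b10) : q a6 a8 a9 a10 e = q b6 b8 b9 b10 e := by
  rw [h6, h8, h9, h10]

theorem q6 (a : F) : X 6 a = q a 0 0 0 0 := by
  unfold q
  simp only [X_zero, mul_one]
theorem q8 (a : F) : X 8 a = q 0 a 0 0 0 := by
  unfold q
  simp only [X_zero, mul_one, one_mul]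
theorem q9 (a : F) : X 9 a = q 0 0 a 0 0 := by
  unfold q
  simp only [X_zero, mul_one, one_mul]
theorem q10 (a : F) : X 10 a = q 0 0 0 a 0 := by
  unfold q
  simp only [X_zero, mul_one, one_mul]
theorem q11 (a : F) : X 11 a = q 0 0 0 0 a := by
  unfold q
  simp only [X_zero, one_mul]

/-- Conjugation of `Q_a` by `n_a`: `n_conj 0` with `chevG2.reflectRoot 0 6 = 10, 8 ↦ 9, 9 ↦ 8, 10 ↦ 6, 11 ↦ 11` (`by decide`).  The conjugate of `q c6 .. c11` is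
`X 10 (k 6*c6) * X 9 (k 8*c8) * X 8 (k 9*c9) * X 6 (k 10*c10) * X 11 (k 11*c11)`; write each factor as a `q` with one nonzero entry and multiply with `H46GCMulQ.mulq`. -/
theorem conj_na : ∃ n ∈ chevG2.group F, ∃ k6 k8 k9 k10 : F, k6 ≠ 0 ∧ k8 ≠ 0 ∧ k9 ≠ 0 ∧ k10 ≠ 0 ∧
    ∀ c6 c8 c9 c10 c11 : F, ∃ e : F, n * q c6 c8 c9 c10 c11 * n⁻¹ = q (k10 * c10) (k9 * c9) (k8 * c8) (k6 * c6) e := by
  obtain ⟨n, hn, k, hk, hc⟩ := n_conj (F := F) 0 (by norm_num)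
  have r6 : chevG2.reflectRoot 0 6 = 10 := by decide
  have r8 : chevG2.reflectRoot 0 8 = 9 := by decide
  have r9 : chevG2.reflectRoot 0 9 = 8 := by decide
  have r10 : chevG2.reflectRoot 0 10 = 6 := by decide
  have r11 : chevG2.reflectRoot 0 11 = 11 := by decide
  refine ⟨n, hn, k 6, k 8, k 9, k 10, hk 6, hk 8, hk 9, hk 10, ?_⟩
  intro c6 c8 c9 c10 c11
  have hsplit : n * q c6 c8 c9 c10 c11 * n⁻¹
      = (n * X 6 c6 * n⁻¹) * (n * X 8 c8 * n⁻¹) * (n * X 9 c9 * n⁻¹)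
        * (n * X 10 c10 * n⁻¹) * (n * X 11 c11 * n⁻¹) := by
    unfold q
    group
  rw [hsplit, hc 6 (by norm_num), hc 8 (by norm_num), hc 9 (by norm_num), hc 10 (by norm_num),
    hc 11 (by norm_num), r6, r8, r9, r10, r11, q10, q9, q8, q6, q11,
    H46GCMulQ.mulq, H46GCMulQ.mulq, H46GCMulQ.mulq, H46GCMulQ.mulq]
  exact ⟨_, q_congr _ (by ring) (by ring) (by ring) (by ring)⟩

end Cfsg.Agent.Lib.H46GCConjNa
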