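import Cfsg.Agent.Lib.H46GCRel

set_option autoImplicit false

namespace Cfsg.Agent.Lib.H46GCL

open Subgroup Cfsg.Lie Cfsg.Lie.ChevalleyDatum Cfsg.Agent.Lib.H46GCRel

/-- the subgroup `⟨X_b, X_{-b}⟩` (`b = 6`, `-b = 5`) -/
def L (F : Type*) [Field F] : Subgroup (GL chevG2.Idx F) := closure {g | ∃ t : F, g = X 6 t ∨ g = X 5 t}

theorem X6_mem {F : Type*} [Field F] (t : F) : X 6 t ∈ L F := subset_closure ⟨t, Or.inl rfl⟩
theorem X5_mem {F : Type*} [Field F] (t : F) : X 5 t ∈ L F := subset_closure ⟨t, Or.inr rfl⟩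

end Cfsg.Agent.Lib.H46GCL
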