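import Cfsg.Agent.Lib.H46GCRel
import Cfsg.Agent.Lib.H46GCL
import Cfsg.Agent.Lib.H46WCUkN

set_option autoImplicit false
set_option linter.unusedSectionVars false
set_option linter.unusedVariables false

namespace Cfsg.Agent.Lib.H46GCHCent

open Subgroup Cfsg.Lie Cfsg.Lie.ChevalleyDatum
open Cfsg.Agent.Lib.Helper23Grp Cfsg.Agent.Lib.Helper23RG Cfsg.Agent.Lib.Helper23RG.RG
  Cfsg.Agent.Lib.Helper23Table Cfsg.Agent.Lib.Helper23Chev
  Cfsg.Agent.Lib.Helper22ChevBasic Cfsg.Agent.Lib.Helper22ChevU Cfsg.Agent.Lib.Helper22ChevPar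
  Cfsg.Agent.Lib.H46GCRel Cfsg.Agent.Lib.H46GCL

variable {F : Type*} [Field F] [CharP F 2]

/-- Pattern: the last bullet of `LeadChevCent.cent_concrete` with `word_conj`, `word_mem`, `hG_one`, `hG_conj`.  `Cfsg.Agent.S1034.result chevG2 hD h hh` gives `c` with `c i ≠ 0` and
`h = wordG hD ((List.range 2).flatMap fun i => chevG2.hWord (chevG2.simple i) (c i)) = hG hD 7 (c 0) * hG hD 6 (c 1)`.  `χ := c 0` (`chevG2.cartan 0 9 = 1`, `chevG2.cartan 1 9 = 0`, `hG_conj`).  If `c 0 = 1` then `hG hD 7 1 = 1` (`hG_one`)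
and `hG hD 6 (c 1)` is a word in `X 6 _`, `X 5 _` (`hWord`, `nWord`, `wordG_mem_of`). -/
theorem hcent (h : GL chevG2.Idx F) (hh : h ∈ chevG2.diagonalSubgroup F) :
    ∃ χ : F, (∀ t : F, h * X 9 t * h⁻¹ = X 9 (χ * t)) ∧ (χ = 1 → h ∈ L F) := by
  have hT : TableOK chevG2 := Cfsg.Agent.Lib.Helper23Tab.tableOK_of_mem hD
  have hR : Rel chevG2 F := Cfsg.Agent.Lib.Helper22ChevRel.rel_of_mem hD
  obtain ⟨c, hc, hm⟩ := Cfsg.Agent.S1034.result chevG2 hD h hh
  have hw : h = wordG hD ((List.range chevG2.rank).flatMap fun i => chevG2.hWord (chevG2.simple i) (c i)) :=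
    (eq_wordG_iff hD h _).1 hm
  have hr : List.range chevG2.rank = [0, 1] := by decide
  have e : h = hG hD (chevG2.simple 0) (c 0) * hG hD (chevG2.simple 1) (c 1) := by
    rw [hw, hr]
    simp only [List.flatMap_cons, List.flatMap_nil, List.append_nil, wordG_append]
    rfl
  have h0 := hc 0 (by decide)
  have h1 := hc 1 (by decide)
  have a0 : chevG2.cartan 0 9 = 1 := by decide +kernel
  have a1 : chevG2.cartan 1 9 = 0 := by decide +kernel
  refine ⟨c 0, fun t => ?_, fun hχ => ?_⟩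
  · rw [mul_inv_eq_iff_eq_mul, e, mul_assoc]
    show _ * (_ * xG hD 9 t) = _
    rw [Cfsg.Agent.Lib.LeadChevCent.hG_conj hD hR (i := 1) (by decide) (by decide) h1, a1, zpow_zero, one_mul,
      ← mul_assoc, Cfsg.Agent.Lib.LeadChevCent.hG_conj hD hR (i := 0) (by decide) (by decide) h0, a0, zpow_one,
      mul_assoc]
  · rw [e, hχ, Cfsg.Agent.Lib.LeadChevCent.hG_one hD hT hR (by decide), one_mul]
    have s1 : chevG2.simple 1 = 6 := by decide
    have n1 : chevG2.neg 6 = 5 := by decide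
    show wordG hD (chevG2.hWord (chevG2.simple 1) (c 1)) ∈ L F
    apply Cfsg.Agent.Lib.LeadChevCent.wordG_mem_of
    intro p hp
    rw [s1] at hp
    simp only [hWord, nWord, n1, List.mem_append, List.mem_cons, List.not_mem_nil, or_false] at hp
    rcases hp with (rfl | rfl | rfl) | (rfl | rfl | rfl)
    · exact X6_mem _
    · exact X5_mem _
    · exact X6_mem _
    · exact X6_mem _
    · exact X5_mem _
    · exact X6_mem _

end Cfsg.Agent.Lib.H46GCHCent
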