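import Cfsg.Agent.Lib.H46GCRel

set_option autoImplicit false
set_option linter.unusedSectionVars false
set_option linter.unusedVariables false

namespace Cfsg.Agent.Lib.H46GCSplit

open Subgroup Cfsg.Lie Cfsg.Lie.ChevalleyDatum
open Cfsg.Agent.Lib.Helper23Grp Cfsg.Agent.Lib.Helper23RG Cfsg.Agent.Lib.Helper23RG.RG
  Cfsg.Agent.Lib.Helper23Table Cfsg.Agent.Lib.Helper23Chev
  Cfsg.Agent.Lib.Helper22ChevBasic Cfsg.Agent.Lib.Helper22ChevU Cfsg.Agent.Lib.Helper22ChevPar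
  Cfsg.Agent.Lib.H46GCRel

variable {F : Type*} [Field F] [CharP F 2]

/-- `posUnipotent_eq_Uk`, then `mem_Uk_split` six times and `Uk_eq_bot` (see `H46WCG2A.iso_full` / `H46WCG2B` for the pattern; `chevG2.nroots = 12` by `decide`). -/
theorem split (u : GL chevG2.Idx F) (hu : u ∈ chevG2.posUnipotent F) : ∃ c6 c7 c8 c9 c10 c11 : F,
    u = X 6 c6 * X 7 c7 * X 8 c8 * X 9 c9 * X 10 c10 * X 11 c11 := by
  have hn : chevG2.nroots = 12 := by decide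
  rw [posUnipotent_eq_Uk hD] at hu
  have hu' : u ∈ Uk (F := F) hD 6 := by
    have : chevG2.nroots / 2 = 6 := by rw [hn]
    rwa [this] at hu
  obtain ⟨c6, u6, h6, rfl⟩ := mem_Uk_split hD (k := 6) (by rw [hn]) hu'
  obtain ⟨c7, u7, h7, rfl⟩ := mem_Uk_split hD (k := 7) (by rw [hn]; norm_num) h6
  obtain ⟨c8, u8, h8, rfl⟩ := mem_Uk_split hD (k := 8) (by rw [hn]; norm_num) h7
  obtain ⟨c9, u9, h9, rfl⟩ := mem_Uk_split hD (k := 9) (by rw [hn]; norm_num) h8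
  obtain ⟨c10, u10, h10, rfl⟩ := mem_Uk_split hD (k := 10) (by rw [hn]; norm_num) h9
  obtain ⟨c11, u11, h11, rfl⟩ := mem_Uk_split hD (k := 11) (by rw [hn]; norm_num) h10
  rw [Uk_eq_bot hD (by rw [hn]), Subgroup.mem_bot] at h11
  subst h11
  exact ⟨c6, c7, c8, c9, c10, c11, by simp only [mul_one, mul_assoc]⟩

/-- same for `Uk 9`. -/
theorem split9 (u : GL chevG2.Idx F) (hu : u ∈ Uk (F := F) hD 9) : ∃ c9 c10 c11 : F,
    u = X 9 c9 * X 10 c10 * X 11 c11 := by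
  have hn : chevG2.nroots = 12 := by decide
  obtain ⟨c9, u9, h9, rfl⟩ := mem_Uk_split hD (k := 9) (by rw [hn]; norm_num) hu
  obtain ⟨c10, u10, h10, rfl⟩ := mem_Uk_split hD (k := 10) (by rw [hn]; norm_num) h9
  obtain ⟨c11, u11, h11, rfl⟩ := mem_Uk_split hD (k := 11) (by rw [hn]; norm_num) h10
  rw [Uk_eq_bot hD (by rw [hn]), Subgroup.mem_bot] at h11
  subst h11
  exact ⟨c9, c10, c11, by simp only [mul_one, mul_assoc]⟩

/-- `X 9 c9 * X 10 c10 * X 11 c11 ∈ Uk 10 → c9 = 0` (`eq_zero_of_mem_Uk`, `xG_mem_Uk`). -/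
theorem c9_zero {c9 c10 c11 : F} (h : X 9 c9 * X 10 c10 * X 11 c11 ∈ Uk (F := F) hD 10) : c9 = 0 := by
  have hn : chevG2.nroots = 12 := by decide
  apply eq_zero_of_mem_Uk hD (k := 9) (by rw [hn]; norm_num) (by rw [hn]; norm_num)
  have : X 9 c9 = (X 9 c9 * X 10 c10 * X 11 c11) * (X 10 c10 * X 11 c11)⁻¹ := by group
  show X 9 c9 ∈ _
  rw [this]
  exact mul_mem h (inv_mem (mul_mem (xG_mem_Uk hD (by norm_num) _) (xG_mem_Uk hD (by norm_num) _)))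

end Cfsg.Agent.Lib.H46GCSplit
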