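import Cfsg.Agent.Lib.H46GCRel

set_option autoImplicit false
set_option linter.unusedSectionVars false
set_option linter.unusedVariables false

namespace Cfsg.Agent.Lib.H46GCWinv

open Subgroup Cfsg.Lie Cfsg.Lie.ChevalleyDatum
open Cfsg.Agent.Lib.Helper23Grp Cfsg.Agent.Lib.Helper23RG Cfsg.Agent.Lib.Helper23RG.RG
  Cfsg.Agent.Lib.Helper23Table Cfsg.Agent.Lib.Helper23Chev
  Cfsg.Agent.Lib.Helper22ChevBasic Cfsg.Agent.Lib.Helper22ChevU Cfsg.Agent.Lib.Helper22ChevPar
  Cfsg.Agent.Lib.H46GCRel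

variable {F : Type*} [Field F] [CharP F 2]

/-- the images of the triple `(9, 10, 11) = (2a+b, 3a+b, 3a+2b)` under the Weyl group -/
def T12 : List (ℕ × ℕ × ℕ) := [(9,10,11),(9,11,10),(8,6,11),(8,11,6),(7,10,5),(7,5,10),(2,1,0),(2,0,1),(3,5,0),(3,0,5),(4,1,6),(4,6,1)]

/-- coordinates of a root -/
def V (r : ℕ) : ℤ × ℤ := (chevG2.cartan 0 r, chevG2.cartan 1 r)

/-- the invariant of the Weyl group -/
def Inv (π : Equiv.Perm (Fin chevG2.nroots)) : Prop :=
  (∀ r, r.val ∈ [0,1,5,6,10,11] ↔ (π r).val ∈ [0,1,5,6,10,11]) ∧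
  ∀ r s k, (V r.val + V s.val = 3 • V k.val ↔ V (π r).val + V (π s).val = 3 • V (π k).val)

theorem Inv.one : Inv 1 := ⟨fun _ => Iff.rfl, fun _ _ _ => Iff.rfl⟩

theorem Inv.mul {π ρ : Equiv.Perm (Fin chevG2.nroots)} (h1 : Inv π) (h2 : Inv ρ) : Inv (π * ρ) :=
  ⟨fun r => (h2.1 r).trans (h1.1 (ρ r)), fun r s k => (h2.2 r s k).trans (h1.2 (ρ r) (ρ s) (ρ k))⟩

theorem Inv.inv {π : Equiv.Perm (Fin chevG2.nroots)} (h : Inv π) : Inv π⁻¹ := by
  have e : ∀ x, π (π⁻¹ x) = x := fun x => by simp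
  refine ⟨fun r => ?_, fun r s k => ?_⟩
  · have := h.1 (π⁻¹ r)
    rw [e] at this
    exact this.symm
  · have := h.2 (π⁻¹ r) (π⁻¹ s) (π⁻¹ k)
    rw [e, e, e] at this
    exact this.symm

theorem genL : ∀ i < chevG2.rank, ∀ r < chevG2.nroots,
    (r ∈ [0,1,5,6,10,11] ↔ chevG2.reflectRoot i r ∈ [0,1,5,6,10,11]) := by decide +kernel

def chkV : Bool := (List.range chevG2.rank).all fun i => (List.range chevG2.nroots).all fun r =>
  (List.range chevG2.nroots).all fun s => (List.range chevG2.nroots).all fun k =>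
    decide (V r + V s = 3 • V k ↔ V (chevG2.reflectRoot i r) + V (chevG2.reflectRoot i s)
      = 3 • V (chevG2.reflectRoot i k))

theorem chkV_eq : chkV = true := by decide +kernel

theorem genV : ∀ i < chevG2.rank, ∀ r < chevG2.nroots, ∀ s < chevG2.nroots, ∀ k < chevG2.nroots,
    (V r + V s = 3 • V k ↔ V (chevG2.reflectRoot i r) + V (chevG2.reflectRoot i s)
      = 3 • V (chevG2.reflectRoot i k)) := by
  intro i hi r hr s hs k hk
  have h := chkV_eq
  unfold chkV at h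
  rw [List.all_eq_true] at h
  have h1 := h i (List.mem_range.2 hi)
  rw [List.all_eq_true] at h1
  have h2 := h1 r (List.mem_range.2 hr)
  rw [List.all_eq_true] at h2
  have h3 := h2 s (List.mem_range.2 hs)
  rw [List.all_eq_true] at h3
  exact of_decide_eq_true (h3 k (List.mem_range.2 hk))

theorem fin0 : V 10 + V 11 = 3 • V 9 := by decide +kernel

def chkT : Bool := (List.range chevG2.nroots).all fun r =>
  (List.range chevG2.nroots).all fun s => (List.range chevG2.nroots).all fun k =>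
    decide (V r + V s = 3 • V k → (k, r, s) ∈ T12)

theorem chkT_eq : chkT = true := by decide +kernel

theorem finT : ∀ r < chevG2.nroots, ∀ s < chevG2.nroots, ∀ k < chevG2.nroots,
    V r + V s = 3 • V k → (k, r, s) ∈ T12 := by
  intro r hr s hs k hk
  have h := chkT_eq
  unfold chkT at h
  rw [List.all_eq_true] at h
  have h2 := h r (List.mem_range.2 hr)
  rw [List.all_eq_true] at h2
  have h3 := h2 s (List.mem_range.2 hs)
  rw [List.all_eq_true] at h3
  exact of_decide_eq_true (h3 k (List.mem_range.2 hk))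

omit [CharP F 2] in
theorem Mon_N_inv (hT : TableOK chevG2) (hR : Rel chevG2 F) :
    ∀ n ∈ (rg hT hR).N, ∃ π, (rg hT hR).Mon n π ∧ Inv π := by
  have ok := rg_ok hT hR
  intro n hn
  rw [N_eq ok, sup_eq_closure] at hn
  induction hn using closure_induction with
  | mem x hx =>
    rcases hx with hx | hx
    · exact ⟨1, Mon_H ok x hx, Inv.one⟩
    · induction hx using closure_induction with
      | mem y hy =>
        obtain ⟨i, rfl⟩ := hy
        refine ⟨_, Mon_nn ok i, ?_, ?_⟩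
        · intro r
          exact genL i.val i.2 r.val r.2
        · intro r s k
          exact genV i.val i.2 r.val r.2 s.val s.2 k.val k.2
      | one => exact ⟨1, Mon.one, Inv.one⟩
      | mul a b _ _ ha hb =>
        obtain ⟨π, ha, ha'⟩ := ha
        obtain ⟨ρ, hb, hb'⟩ := hb
        exact ⟨_, ha.mul hb, ha'.mul hb'⟩
      | inv a _ ha =>
        obtain ⟨π, ha, ha'⟩ := ha
        exact ⟨_, ha.inv, ha'.inv⟩
  | one => exact ⟨1, Mon.one, Inv.one⟩
  | mul a b _ _ ha hb =>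
    obtain ⟨π, ha, ha'⟩ := ha
    obtain ⟨ρ, hb, hb'⟩ := hb
    exact ⟨_, ha.mul hb, ha'.mul hb'⟩
  | inv a _ ha =>
    obtain ⟨π, ha, ha'⟩ := ha
    exact ⟨_, ha.inv, ha'.inv⟩

/-- Every element of `N` permutes the root subgroups by a permutation which preserves root lengths and maps the triple `(9,10,11)` into `T12`.
Proof: copy the induction of `Helper23RG.Mon_N` (`N_eq ok`, `sup_eq_closure`, `closure_induction`; `Mon_H`, `Mon_nn`, `Mon.mul`, `Mon.inv`) carrying along the invariant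
`Inv π := (∀ r, L r ↔ L (π r)) ∧ ∀ r s k, (V r + V s = 3 • V k ↔ V (π r) + V (π s) = 3 • V (π k))` with `L r := r.val ∈ [0,1,5,6,10,11]`, `V r := (chevG2.cartan 0 r, chevG2.cartan 1 r) : ℤ × ℤ`;
`Inv` holds for `1`, is stable under products and inverses, and holds for the two `reflPerm ok i` (`(rg hT hR).refl i r = ⟨chevG2.reflectRoot i r, _⟩`; `decide` over `Fin 12`).  Finally `V 10 + V 11 = 3 • V 9`
and `∀ r s k : Fin 12, V r + V s = 3 • V k → (k, r, s) ∈ T12` by `decide`. -/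
theorem winv (hT : TableOK chevG2) (hR : Rel chevG2 F) (n : GL chevG2.Idx F) (hn : n ∈ (rg hT hR).N) :
    ∃ p : ℕ → ℕ, ∃ κ : ℕ → F, (∀ r, κ r ≠ 0) ∧ (∀ r < 12, p r < 12) ∧
      (∀ r < 12, ∀ t : F, n * X r t * n⁻¹ = X (p r) (κ r * t)) ∧
      (∀ r < 12, (r ∈ [0,1,5,6,10,11] ↔ p r ∈ [0,1,5,6,10,11])) ∧ (p 9, p 10, p 11) ∈ T12 := by
  obtain ⟨π, ⟨_, c, hc0, _, hc⟩, hI1, hI2⟩ := Mon_N_inv hT hR n hn
  have hnr : chevG2.nroots = 12 := by decide
  have hxx : ∀ (r : ℕ) (a : F), xg chevG2 F r a = xG hD r a := xg_eq_xG hR hD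
  have hp : ∀ (r : ℕ) (h : r < chevG2.nroots),
      (fun r : ℕ => if h : r < chevG2.nroots then (π ⟨r, h⟩).val else 0) r = (π ⟨r, h⟩).val := by
    intro r h
    simp only [h, dif_pos]
  refine ⟨fun r => if h : r < chevG2.nroots then (π ⟨r, h⟩).val else 0,
    fun r => if h : r < chevG2.nroots then c ⟨r, h⟩ else 1, ?_, ?_, ?_, ?_, ?_⟩
  · intro r
    by_cases h : r < chevG2.nroots
    · simp only [h, dif_pos]; exact hc0 _
    · simp only [h, dif_neg, not_false_eq_true]; exact one_ne_zero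
  · intro r hr
    have h : r < chevG2.nroots := by rw [hnr]; exact hr
    rw [hp r h]
    have := (π ⟨r, h⟩).2
    omega
  · intro r hr t
    have h : r < chevG2.nroots := by rw [hnr]; exact hr
    have := hc ⟨r, h⟩ t
    simp only [h, dif_pos]
    show _ * xG hD r t * _ = xG hD _ _
    rw [← hxx, ← hxx]
    exact this
  · intro r hr
    have h : r < chevG2.nroots := by rw [hnr]; exact hr
    rw [hp r h]
    exact hI1 ⟨r, h⟩
  · have h9 : 9 < chevG2.nroots := by rw [hnr]; norm_num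
    have h10 : 10 < chevG2.nroots := by rw [hnr]; norm_num
    have h11 : 11 < chevG2.nroots := by rw [hnr]; norm_num
    rw [hp 9 h9, hp 10 h10, hp 11 h11]
    exact finT _ (π ⟨10, h10⟩).2 _ (π ⟨11, h11⟩).2 _ (π ⟨9, h9⟩).2
      ((hI2 ⟨10, h10⟩ ⟨11, h11⟩ ⟨9, h9⟩).1 fin0)

end Cfsg.Agent.Lib.H46GCWinv
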