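import Cfsg.Agent.Lib.H46GCRel
import Cfsg.Agent.Lib.H46GCWinv
import Cfsg.Agent.Lib.H46GCSplit

set_option autoImplicit false
set_option linter.unusedSectionVars false
set_option linter.unusedVariables false

namespace Cfsg.Agent.Lib.H46GCPi9

open Subgroup Cfsg.Lie Cfsg.Lie.ChevalleyDatum
open Cfsg.Agent.Lib.Helper23Grp Cfsg.Agent.Lib.Helper23RG Cfsg.Agent.Lib.Helper23RG.RG
  Cfsg.Agent.Lib.Helper23Table Cfsg.Agent.Lib.Helper23Chev
  Cfsg.Agent.Lib.Helper22ChevBasic Cfsg.Agent.Lib.Helper22ChevU Cfsg.Agent.Lib.Helper22ChevPar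
  Cfsg.Agent.Lib.H46GCRel

variable {F : Type*} [Field F] [CharP F 2]

omit [CharP F 2] in
theorem Uk_le {k l : ℕ} (h : k ≤ l) : Uk (F := F) hD l ≤ Uk (F := F) hD k := by
  unfold Uk
  apply Subgroup.closure_mono
  rintro g ⟨r, t, hr, rfl⟩
  exact ⟨r, t, h.trans hr, rfl⟩

omit [CharP F 2] in
theorem Uk_le_pos {k : ℕ} (h : 6 ≤ k) : Uk (F := F) hD k ≤ chevG2.posUnipotent F := by
  rw [posUnipotent_eq_Uk hD]
  have hnr : chevG2.nroots / 2 = 6 := by decide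
  rw [hnr]
  exact Uk_le h

omit [CharP F 2] in
theorem X_mem_V {r : ℕ} (hr : r < 6) (t : F) :
    X r t ∈ closure {g : GL chevG2.Idx F | ∃ (r : ℕ) (t : F), r < 6 ∧ g = X r t} :=
  Subgroup.subset_closure ⟨r, t, hr, rfl⟩

omit [CharP F 2] in
theorem zero_of {k : ℕ} (hk : 6 ≤ k) (hk' : k < 12) {a : F} (h : X k a ∈ Uk (F := F) hD (k + 1)) :
    a = 0 := by
  have hnr : chevG2.nroots / 2 = 6 := by decide
  have hnr' : chevG2.nroots = 12 := by decide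
  exact eq_zero_of_mem_Uk hD (k := k) (by rw [hnr]; exact hk) (by rw [hnr']; exact hk') h

theorem core (n : GL chevG2.Idx F) (s : ℕ) (hs10 : 10 ≤ s) (a b : F) (ha : a ≠ 0)
    (y : GL chevG2.Idx F) (hy1 : y ≠ 1) (P Q R : ℕ) (a' b' c' : F) (ha' : a' ≠ 0)
    (hz : n * y * n⁻¹ = X P a' * X Q b' * X R c') (hzU : n * y * n⁻¹ ∈ Uk (F := F) hD 9)
    (hback : n * (X 9 a * X s b) * n⁻¹ = X P a' * X Q b')
    (hcase : (P, Q, R) ∈ [(8,6,11),(7,10,5),(2,1,0),(2,0,1),(3,5,0),(3,0,5),(4,1,6)]) : False := by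
  have hVtype : P < 6 → Q < 6 → R < 6 → False := by
    intro hP hQ hR
    have h1 : n * y * n⁻¹ = 1 := by
      apply UV_trivial _ (Uk_le_pos (by norm_num) hzU)
      rw [hz]
      exact mul_mem (mul_mem (X_mem_V hP _) (X_mem_V hQ _)) (X_mem_V hR _)
    apply hy1
    have h2 : n * y = n := by
      have := mul_inv_eq_one.1 h1
      exact this
    exact mul_eq_left.1 h2
  simp only [List.mem_cons, Prod.mk.injEq, List.not_mem_nil, or_false] at hcase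
  rcases hcase with ⟨rfl, rfl, rfl⟩ | ⟨rfl, rfl, rfl⟩ | ⟨rfl, rfl, rfl⟩ | ⟨rfl, rfl, rfl⟩ |
    ⟨rfl, rfl, rfl⟩ | ⟨rfl, rfl, rfl⟩ | ⟨rfl, rfl, rfl⟩
  · -- (8,6,11)
    rw [hz] at hzU
    have e1 : X 8 a' * X 6 b' * X 11 c' = X 6 b' * (X 8 a' * X 11 c') := by
      rw [C0 (r := 8) (s := 6) (by simp) a' b', mul_assoc]
    have h1 : X 6 b' ∈ Uk (F := F) hD (6 + 1) := by
      have h2 : X 6 b' * (X 8 a' * X 11 c') ∈ Uk (F := F) hD 7 := by
        rw [← e1]; exact Uk_le (by norm_num) hzU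
      have h3 : X 8 a' * X 11 c' ∈ Uk (F := F) hD 7 :=
        mul_mem (xG_mem_Uk hD (by norm_num) _) (xG_mem_Uk hD (by norm_num) _)
      exact (Subgroup.mul_mem_cancel_right _ h3).1 h2
    have hb0 : b' = 0 := zero_of (by norm_num) (by norm_num) h1
    rw [hb0, X_zero, mul_one] at hzU
    have h4 : X 8 a' ∈ Uk (F := F) hD (8 + 1) :=
      (Subgroup.mul_mem_cancel_right _ (xG_mem_Uk hD (by norm_num) c')).1 hzU
    exact ha' (zero_of (by norm_num) (by norm_num) h4)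
  · -- (7,10,5)
    rw [hz] at hzU
    have h1 : X 5 c' = 1 := by
      apply UV_trivial _ _ (X_mem_V (by norm_num) _)
      have h2 : X 7 a' * X 10 b' ∈ chevG2.posUnipotent F :=
        Uk_le_pos (k := 7) (by norm_num)
          (mul_mem (xG_mem_Uk hD (by norm_num) _) (xG_mem_Uk hD (by norm_num) _))
      exact (Subgroup.mul_mem_cancel_left _ h2).1 (Uk_le_pos (by norm_num) hzU)
    rw [h1, mul_one] at hzU
    have h4 : X 7 a' ∈ Uk (F := F) hD (7 + 1) := by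
      have h5 : X 7 a' * X 10 b' ∈ Uk (F := F) hD 8 := Uk_le (by norm_num) hzU
      exact (Subgroup.mul_mem_cancel_right _ (xG_mem_Uk hD (by norm_num) b')).1 h5
    exact ha' (zero_of (by norm_num) (by norm_num) h4)
  · exact hVtype (by norm_num) (by norm_num) (by norm_num)
  · exact hVtype (by norm_num) (by norm_num) (by norm_num)
  · exact hVtype (by norm_num) (by norm_num) (by norm_num)
  · exact hVtype (by norm_num) (by norm_num) (by norm_num)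
  · -- (4,1,6)
    rw [hz] at hzU
    have h1 : X 4 a' * X 1 b' = 1 := by
      apply UV_trivial _ _ (mul_mem (X_mem_V (by norm_num) _) (X_mem_V (by norm_num) _))
      have h2 : X 6 c' ∈ chevG2.posUnipotent F :=
        Uk_le_pos (k := 6) (by norm_num) (xG_mem_Uk hD (by norm_num) _)
      exact (Subgroup.mul_mem_cancel_right _ h2).1 (Uk_le_pos (by norm_num) hzU)
    rw [h1] at hback
    have h2 : n * (X 9 a * X s b) = n := mul_inv_eq_one.1 hback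
    have h3 : X 9 a * X s b = 1 := mul_eq_left.1 h2
    have h4 : X 9 a ∈ Uk (F := F) hD (9 + 1) := by
      rw [eq_inv_of_mul_eq_one_left h3]
      exact inv_mem (xG_mem_Uk hD hs10 b)
    exact ha (zero_of (by norm_num) (by norm_num) h4)

/-- If `n` maps an element `y` of `Uk 9 ∖ Uk 10` into `Uk 9` then `p 9 = 9`.
`y = X 9 a * X 10 b * X 11 c` (`split9`), `a ≠ 0` (else `y ∈ Uk 10`), so `z = n*y*n⁻¹ = X (p 9) a' * X (p 10) b' * X (p 11) c'` with `a' ≠ 0`; also `y = X 9 a * X 11 c * X 10 b` (`C0`), which halves the cases of `hp`: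
* `(2,1,0)`, `(3,5,0)`: `z ∈ U ∩ V`, so `z = 1` (`UV_trivial`), `y = 1 ∈ Uk 10`, contradiction;
* `(4,1,6)`: `z * (X 6 c')⁻¹ ∈ U ∩ V`, so `X 4 a' * X 1 b' = 1`; conjugating back `X 9 a * X 10 b = 1`, so `a = 0` (`c9_zero`);
* `(7,10,5)`: `X 5 c' ∈ U ∩ V`, so `z = X 7 a' * X 10 b' ∈ Uk 9`, `X 7 a' ∈ Uk 9 ≤ Uk 8`, `a' = 0` (`eq_zero_of_mem_Uk`);
* `(8,6,11)`: `z = X 6 b' * (X 8 a' * X 11 c')` (`C0`), so `X 6 b' ∈ Uk 7`, `b' = 0`, then `X 8 a' ∈ Uk 9`, `a' = 0`.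
(`Uk hD 9 ≤ posUnipotent`: `posUnipotent_eq_Uk`, `Uk_anti`/`Uk_mono`.) -/
theorem pi9 (n : GL chevG2.Idx F) (p : ℕ → ℕ) (κ : ℕ → F) (hκ : ∀ r, κ r ≠ 0)
    (hn : ∀ r < 12, ∀ t : F, n * X r t * n⁻¹ = X (p r) (κ r * t)) (hp : (p 9, p 10, p 11) ∈ H46GCWinv.T12)
    (y : GL chevG2.Idx F) (hy : y ∈ Uk (F := F) hD 9) (hy' : y ∉ Uk (F := F) hD 10)
    (hz : n * y * n⁻¹ ∈ Uk (F := F) hD 9) : p 9 = 9 := by
  obtain ⟨a, b, c, hyabc⟩ := Cfsg.Agent.Lib.H46GCSplit.split9 y hy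
  have ha : a ≠ 0 := by
    rintro rfl
    apply hy'
    rw [hyabc, X_zero, one_mul]
    exact mul_mem (xG_mem_Uk hD (by norm_num) _) (xG_mem_Uk hD (by norm_num) _)
  have hy1 : y ≠ 1 := by
    rintro rfl
    exact hy' (one_mem _)
  have ha' : κ 9 * a ≠ 0 := mul_ne_zero (hκ 9) ha
  have hyacb : y = X 9 a * X 11 c * X 10 b := by
    rw [hyabc, mul_assoc, C0 (r := 10) (s := 11) (by simp) b c, ← mul_assoc]
  have c2 : ∀ g₁ g₂ : GL chevG2.Idx F, n * (g₁ * g₂) * n⁻¹ = (n * g₁ * n⁻¹) * (n * g₂ * n⁻¹) := by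
    intro g₁ g₂; group
  have z1 : n * y * n⁻¹ = X (p 9) (κ 9 * a) * X (p 10) (κ 10 * b) * X (p 11) (κ 11 * c) := by
    rw [hyabc, c2, c2, hn 9 (by norm_num), hn 10 (by norm_num), hn 11 (by norm_num)]
  have z2 : n * y * n⁻¹ = X (p 9) (κ 9 * a) * X (p 11) (κ 11 * c) * X (p 10) (κ 10 * b) := by
    rw [hyacb, c2, c2, hn 9 (by norm_num), hn 10 (by norm_num), hn 11 (by norm_num)]
  have b1 : n * (X 9 a * X 10 b) * n⁻¹ = X (p 9) (κ 9 * a) * X (p 10) (κ 10 * b) := by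
    rw [c2, hn 9 (by norm_num), hn 10 (by norm_num)]
  have b2 : n * (X 9 a * X 11 c) * n⁻¹ = X (p 9) (κ 9 * a) * X (p 11) (κ 11 * c) := by
    rw [c2, hn 9 (by norm_num), hn 11 (by norm_num)]
  have k1 := core n 10 (by norm_num) a b ha y hy1 (p 9) (p 10) (p 11) _ _ _ ha' z1 hz b1
  have k2 := core n 11 (by norm_num) a c ha y hy1 (p 9) (p 11) (p 10) _ _ _ ha' z2 hz b2
  unfold H46GCWinv.T12 at hp
  simp only [List.mem_cons, Prod.mk.injEq, List.not_mem_nil, or_false] at hp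
  rcases hp with ⟨h9, h10, h11⟩ | ⟨h9, h10, h11⟩ | ⟨h9, h10, h11⟩ | ⟨h9, h10, h11⟩ |
    ⟨h9, h10, h11⟩ | ⟨h9, h10, h11⟩ | ⟨h9, h10, h11⟩ | ⟨h9, h10, h11⟩ | ⟨h9, h10, h11⟩ |
    ⟨h9, h10, h11⟩ | ⟨h9, h10, h11⟩ | ⟨h9, h10, h11⟩
  · exact h9
  · exact h9
  · exact (k1 (by rw [h9, h10, h11]; simp)).elim
  · exact (k2 (by rw [h9, h10, h11]; simp)).elim
  · exact (k1 (by rw [h9, h10, h11]; simp)).elim
  · exact (k2 (by rw [h9, h10, h11]; simp)).elim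
  · exact (k1 (by rw [h9, h10, h11]; simp)).elim
  · exact (k1 (by rw [h9, h10, h11]; simp)).elim
  · exact (k1 (by rw [h9, h10, h11]; simp)).elim
  · exact (k1 (by rw [h9, h10, h11]; simp)).elim
  · exact (k1 (by rw [h9, h10, h11]; simp)).elim
  · exact (k2 (by rw [h9, h10, h11]; simp)).elim

end Cfsg.Agent.Lib.H46GCPi9
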