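import Cfsg.Agent.Lib.H46GCRel
import Cfsg.Agent.Lib.H46GCL
import Cfsg.Agent.Lib.H46WCUkN
import Cfsg.Agent.Lib.H46GCWinv
import Cfsg.Agent.Lib.H46GCSplit
import Cfsg.Agent.Lib.H46GCPi9

set_option autoImplicit false
set_option linter.unusedSectionVars false
set_option linter.unusedVariables false

namespace Cfsg.Agent.Lib.H46GCInN9

open Subgroup Cfsg.Lie Cfsg.Lie.ChevalleyDatum
open Cfsg.Agent.Lib.Helper23Grp Cfsg.Agent.Lib.Helper23RG Cfsg.Agent.Lib.Helper23RG.RG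
  Cfsg.Agent.Lib.Helper23Table Cfsg.Agent.Lib.Helper23Chev
  Cfsg.Agent.Lib.Helper22ChevBasic Cfsg.Agent.Lib.Helper22ChevU Cfsg.Agent.Lib.Helper22ChevPar
  Cfsg.Agent.Lib.H46GCRel Cfsg.Agent.Lib.H46GCL

variable {F : Type*} [Field F] [CharP F 2]

/-- The centraliser of `t = X 9 1` maps `Uk 9 = X_9 X_10 X_11` into itself. -/
theorem inN9 (g : GL chevG2.Idx F) (hg : g ∈ chevG2.group F) (hc : g * X 9 1 = X 9 1 * g) :
    ∀ y ∈ Uk (F := F) hD 9, g * y * g⁻¹ ∈ Uk (F := F) hD 9 := by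
  have hT : TableOK chevG2 := Cfsg.Agent.Lib.Helper23Tab.tableOK_of_mem hD
  have hR : Rel chevG2 F := Cfsg.Agent.Lib.Helper22ChevRel.rel_of_mem hD
  have ok := rg_ok hT hR
  have hgG : g ∈ (rg hT hR).G := by rw [G_eq]; exact hg
  obtain ⟨n, hn, b1, hb1, b2, hb2, rfl⟩ :=
    Cfsg.Agent.Lib.Helper23RG.RG.bruhat_ex ok (hBV hT hR) (hUN hT hR) hgG
  rw [B_eq] at hb1 hb2
  have hU : ∀ b ∈ chevG2.borelSubgroup F, ∀ u ∈ Uk (F := F) hD 9, b * u * b⁻¹ ∈ Uk (F := F) hD 9 :=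
    Cfsg.Agent.Lib.H46WCUkN.Uk_conj hD (by decide)
  have hU10 : ∀ b ∈ chevG2.borelSubgroup F, ∀ u ∈ Uk (F := F) hD 10, b * u * b⁻¹ ∈ Uk (F := F) hD 10 :=
    Cfsg.Agent.Lib.H46WCUkN.Uk_conj hD (by decide)
  have hy0 : b2 * X 9 1 * b2⁻¹ ∈ Uk (F := F) hD 9 := hU b2 hb2 _ (xG_mem_Uk hD le_rfl 1)
  have hy0' : b2 * X 9 1 * b2⁻¹ ∉ Uk (F := F) hD 10 := by
    intro h
    have h1 := hU10 b2⁻¹ (inv_mem hb2) _ h
    have e : b2⁻¹ * (b2 * X 9 1 * b2⁻¹) * b2⁻¹⁻¹ = X 9 (1 : F) := by group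
    rw [e] at h1
    exact one_ne_zero (eq_zero_of_mem_Uk hD (k := 9) (by decide) (by decide) h1)
  have hz : n * (b2 * X 9 1 * b2⁻¹) * n⁻¹ ∈ Uk (F := F) hD 9 := by
    have e : n * (b2 * X 9 1 * b2⁻¹) * n⁻¹ = b1⁻¹ * X 9 1 * b1⁻¹⁻¹ := by
      calc n * (b2 * X 9 1 * b2⁻¹) * n⁻¹ = b1⁻¹ * (b1 * n * b2 * X 9 1) * b2⁻¹ * n⁻¹ := by group
        _ = b1⁻¹ * X 9 1 * b1⁻¹⁻¹ := by rw [hc]; group
    rw [e]
    exact hU b1⁻¹ (inv_mem hb1) _ (xG_mem_Uk hD le_rfl 1)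
  obtain ⟨p, κ, hκ, hp12, hnX, hlen, hT12⟩ := Cfsg.Agent.Lib.H46GCWinv.winv hT hR n hn
  have h9 : p 9 = 9 := Cfsg.Agent.Lib.H46GCPi9.pi9 n p κ hκ hnX hT12 _ hy0 hy0' hz
  have h1011 : 9 ≤ p 10 ∧ 9 ≤ p 11 := by
    rw [h9] at hT12
    simp [Cfsg.Agent.Lib.H46GCWinv.T12] at hT12
    rcases hT12 with ⟨h1, h2⟩ | ⟨h1, h2⟩ <;> omega
  have hnU : ∀ u ∈ Uk (F := F) hD 9, n * u * n⁻¹ ∈ Uk (F := F) hD 9 := by
    apply Helper23Grp.conj_closure_mem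
    rintro _ ⟨r, t, hr, rfl⟩
    by_cases hr12 : r < 12
    · have e := hnX r hr12 t
      have e' : n * xG hD r t * n⁻¹ = xG hD (p r) (κ r * t) := e
      rw [e']
      apply xG_mem_Uk hD
      have : r = 9 ∨ r = 10 ∨ r = 11 := by omega
      rcases this with rfl | rfl | rfl
      · omega
      · exact h1011.1
      · exact h1011.2
    · rw [xG_eq_one hD (by
        have : chevG2.nroots = 12 := by decide
        omega)]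
      simp
  intro y hy
  have e : b1 * n * b2 * y * (b1 * n * b2)⁻¹ = b1 * (n * (b2 * y * b2⁻¹) * n⁻¹) * b1⁻¹ := by group
  rw [e]
  exact hU b1 hb1 _ (hnU _ (hU b2 hb2 _ hy))

end Cfsg.Agent.Lib.H46GCInN9
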