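import Cfsg.Agent.Lib.H46GCRel
import Cfsg.Agent.Lib.H46GCL
import Cfsg.Agent.Lib.H46WCUkN

set_option autoImplicit false
set_option linter.unusedSectionVars false
set_option linter.unusedVariables false

namespace Cfsg.Agent.Lib.H46GCLNorm

open Subgroup Cfsg.Lie Cfsg.Lie.ChevalleyDatum
open Cfsg.Agent.Lib.Helper23Grp Cfsg.Agent.Lib.Helper23RG Cfsg.Agent.Lib.Helper23RG.RG
  Cfsg.Agent.Lib.Helper23Table Cfsg.Agent.Lib.Helper23Chev
  Cfsg.Agent.Lib.Helper22ChevBasic Cfsg.Agent.Lib.Helper22ChevU Cfsg.Agent.Lib.Helper22ChevPar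
  Cfsg.Agent.Lib.H46GCRel Cfsg.Agent.Lib.H46GCL

variable {F : Type*} [Field F] [CharP F 2]

theorem terms5 : ∀ r, 7 ≤ r → r < 12 → ∀ c ∈ chevG2.commTerms 5 r, 7 ≤ c.1 := by decide +kernel

theorem conj5 (a : F) : ∀ u ∈ Uk (F := F) hD 7, X 5 a * u * (X 5 a)⁻¹ ∈ Uk (F := F) hD 7 := by
  apply Helper23Grp.conj_closure_mem
  rintro g ⟨s, b, hs, rfl⟩
  have hn : chevG2.nroots = 12 := by decide
  by_cases hsn : s < chevG2.nroots
  · have hneg : s ≠ chevG2.neg 5 := by
      have : chevG2.neg 5 = 6 := by decide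
      rw [this]; omega
    rw [conj_eq hD (by rw [hn]; omega) hsn (by omega) hneg]
    refine mul_mem (xG_mem_Uk hD hs _) (wordG_mem_Uk hD _ ?_)
    intro p hp
    unfold ChevalleyDatum.commWord at hp
    rw [List.mem_map] at hp
    obtain ⟨c, hc, rfl⟩ := hp
    exact terms5 s hs (by omega) c hc
  · rw [xG_eq_one hD hsn]
    simp

theorem lnorm : L F ≤ normalizer (Uk (F := F) hD 7 : Set (GL chevG2.Idx F)) := by
  unfold L
  rw [closure_le]
  rintro g ⟨t, rfl | rfl⟩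
  · have h1 : ∀ u ∈ Uk (F := F) hD 7, X 6 t * u * (X 6 t)⁻¹ ∈ Uk (F := F) hD 7 :=
      Cfsg.Agent.Lib.H46WCUkN.x_conj hD (by decide) (by decide) t
    apply Helper23Grp.mem_normalizer_of_conj h1
    intro a ha
    have := h1 a ha
    rw [X_inv] at this ⊢
    exact this
  · have h1 := conj5 (F := F) t
    apply Helper23Grp.mem_normalizer_of_conj h1
    intro a ha
    have := h1 a ha
    rw [X_inv] at this ⊢
    exact this

end Cfsg.Agent.Lib.H46GCLNorm
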