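import Cfsg.Agent.Lib.H46GCRel
import Cfsg.Agent.Lib.H46GCL
import Cfsg.Agent.Lib.H46WCUkN
import Cfsg.Agent.Lib.H46GCLNorm

set_option autoImplicit false
set_option linter.unusedSectionVars false
set_option linter.unusedVariables false

namespace Cfsg.Agent.Lib.H46GCInP

open Subgroup Cfsg.Lie Cfsg.Lie.ChevalleyDatum
open Cfsg.Agent.Lib.Helper23Grp Cfsg.Agent.Lib.Helper23RG Cfsg.Agent.Lib.Helper23RG.RG
  Cfsg.Agent.Lib.Helper23Table Cfsg.Agent.Lib.Helper23Chev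
  Cfsg.Agent.Lib.Helper22ChevBasic Cfsg.Agent.Lib.Helper22ChevU Cfsg.Agent.Lib.Helper22ChevPar
  Cfsg.Agent.Lib.H46GCRel Cfsg.Agent.Lib.H46GCL

variable {F : Type*} [Field F] [CharP F 2]

/-- The normaliser of `Uk 9` lies in the parabolic `P_b = Uk 7 · ⟨X_6, X_5⟩ · H`.  Pattern: the end of `LeadChevCent.cent_abstract`.  `M := normalizer (Uk 9) ⊓ group` contains `borelSubgroup` (`H46WCUkN.Uk_conj`), so
`LeadChevCent.hover hD hT hR M` gives `g ∈ borelSubgroup ⊔ closure {x | ∃ i, x = (rg hT hR).nn i ∧ x ∈ M}`.  `nn 0 ∉ M`: `ok.n_conj 0 9`: `nn 0 * X 9 1 * (nn 0)⁻¹ = X 8 (η * 1)` (`reflectRoot 0 9 = 8`), not in `Uk 9` (`eq_zero_of_mem_Uk`, `η_ne_zero`).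
`nn 1 = X 6 1 * X 5 (-1⁻¹) * X 6 1 ∈ L F` (by `show`, as in `cent_abstract`; `xg_eq_xG`).  `borelSubgroup = posUnipotent ⊔ diagonalSubgroup`, `posUnipotent = Uk 6 ≤ Uk 7 ⊔ L F` (generators).  So `g ∈ (Uk 7 ⊔ L F) ⊔ H`;
`H` normalises `Uk 7` and `L F` (`H_le_normalizer_XS ok`, or `Mon_H`), `L F` normalises `Uk 7` (`H46GCLNorm.lnorm`); `Helper23Grp.mem_sup_of_normalizes` twice. -/
theorem inP (g : GL chevG2.Idx F) (hg : g ∈ chevG2.group F)
    (h1 : ∀ y ∈ Uk (F := F) hD 9, g * y * g⁻¹ ∈ Uk (F := F) hD 9)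
    (h2 : ∀ y ∈ Uk (F := F) hD 9, g⁻¹ * y * g ∈ Uk (F := F) hD 9) :
    ∃ v ∈ Uk (F := F) hD 7, ∃ l ∈ L F, ∃ h ∈ chevG2.diagonalSubgroup F, g = v * l * h := by
  have hT : TableOK chevG2 := Cfsg.Agent.Lib.Helper23Tab.tableOK_of_mem hD
  have hR : Rel chevG2 F := Cfsg.Agent.Lib.Helper22ChevRel.rel_of_mem hD
  have ok := rg_ok hT hR
  have hxx : ∀ (r : ℕ) (a : F), xg chevG2 F r a = xG hD r a := xg_eq_xG hR hD
  have hn12 : chevG2.nroots = 12 := by decide
  have hrk : chevG2.rank = 2 := by decide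
  have hBn : ∀ k, 6 ≤ k → chevG2.borelSubgroup F ≤ normalizer (Uk (F := F) hD k : Set (GL chevG2.Idx F)) := by
    intro k hk b hb
    have hU := Cfsg.Agent.Lib.H46WCUkN.Uk_conj (F := F) hD (k := k) (by rw [hn12]; omega)
    apply Helper23Grp.mem_normalizer_of_conj (hU b hb)
    intro a ha
    have := hU b⁻¹ (inv_mem hb) a ha
    rwa [inv_inv] at this
  have hBG : chevG2.borelSubgroup F ≤ chevG2.group F := by
    rw [← B_eq hT hR, ← G_eq hT hR]; exact B_le_G ok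
  have hgM : g ∈ normalizer (Uk (F := F) hD 9 : Set (GL chevG2.Idx F)) ⊓ chevG2.group F :=
    ⟨Helper23Grp.mem_normalizer_of_conj h1 h2, hg⟩
  have h3 := Cfsg.Agent.Lib.LeadChevCent.hover hD hT hR _ (le_inf (hBn 9 (by norm_num)) hBG)
    inf_le_right hgM
  have hHB : chevG2.diagonalSubgroup F ≤ chevG2.borelSubgroup F := le_sup_right
  have hHL : chevG2.diagonalSubgroup F ≤ normalizer (L F : Set (GL chevG2.Idx F)) := by
    have key : ∀ h ∈ (rg hT hR).H, ∀ u ∈ L F, h * u * h⁻¹ ∈ L F := by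
      intro h hh
      obtain ⟨_, c, _, _, hc⟩ := Mon_H ok h hh
      have hcc : ∀ (s : ℕ) (hs : s < chevG2.nroots) (b : F),
          h * X s b * h⁻¹ = X s (c ⟨s, hs⟩ * b) := by
        intro s hs b
        have := hc ⟨s, hs⟩ b
        have e1 : (rg hT hR).x ⟨s, hs⟩ b = xG hD s b := hxx s b
        have e2 : (rg hT hR).x ((1 : Equiv.Perm (Fin chevG2.nroots)) ⟨s, hs⟩) (c ⟨s, hs⟩ * b)
            = xG hD s (c ⟨s, hs⟩ * b) := hxx s _
        rw [e1, e2] at this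
        exact this
      apply Helper23Grp.conj_closure_mem
      rintro _ ⟨t, rfl | rfl⟩
      · rw [hcc 6 (by rw [hn12]; norm_num)]; exact X6_mem _
      · rw [hcc 5 (by rw [hn12]; norm_num)]; exact X5_mem _
    intro h hh
    rw [← H_eq hT hR] at hh
    apply Helper23Grp.mem_normalizer_of_conj (key h hh)
    intro a ha
    have := key h⁻¹ (inv_mem hh) a ha
    rwa [inv_inv] at this
  have hle : chevG2.borelSubgroup F ⊔ closure {x | ∃ i : Fin chevG2.rank, x = (rg hT hR).nn i ∧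
      x ∈ normalizer (Uk (F := F) hD 9 : Set (GL chevG2.Idx F)) ⊓ chevG2.group F} ≤
      Uk (F := F) hD 7 ⊔ (L F ⊔ chevG2.diagonalSubgroup F) := by
    apply sup_le
    · apply sup_le
      · rw [posUnipotent_eq_Uk hD]
        unfold Uk
        rw [closure_le]
        rintro _ ⟨r, t, hr, rfl⟩
        rw [hn12] at hr
        by_cases h6 : r = 6
        · subst h6
          exact mem_sup_right (mem_sup_left (X6_mem t))
        · exact mem_sup_left (subset_closure ⟨r, t, by omega, rfl⟩)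
      · exact le_trans le_sup_right le_sup_right
    · rw [closure_le]
      rintro _ ⟨⟨i, hi⟩, rfl, hiN, -⟩
      have hi01 : i = 0 ∨ i = 1 := by omega
      rcases hi01 with rfl | rfl
      · exfalso
        have h9lt : 9 < chevG2.nroots := by rw [hn12]; norm_num
        have e9 : (rg hT hR).nn ⟨0, hi⟩ * X 9 1 * ((rg hT hR).nn ⟨0, hi⟩)⁻¹
            = X (chevG2.reflectRoot 0 9) ((rg hT hR).η ⟨0, hi⟩ ⟨9, h9lt⟩ * 1) := by
          have := ok.n_conj ⟨0, hi⟩ ⟨9, h9lt⟩ (1 : F)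
          show _ * xG hD 9 1 * _ = xG hD _ _
          rw [← hxx, ← hxx]
          exact this
        have hr : chevG2.reflectRoot 0 9 = 8 := by decide
        rw [hr] at e9
        have hm := Helper23Grp.conj_mem_of_mem_normalizer hiN (xG_mem_Uk hD le_rfl (1 : F))
        have hm' : X 8 ((rg hT hR).η ⟨0, hi⟩ ⟨9, h9lt⟩ * 1) ∈ Uk (F := F) hD 9 := by
          rw [← e9]; exact hm
        have h0 := eq_zero_of_mem_Uk hD (k := 8) (by rw [hn12]; norm_num) (by rw [hn12]; norm_num) hm'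
        rw [mul_one] at h0
        exact η_ne_zero ok _ _ h0
      · apply mem_sup_right
        apply mem_sup_left
        have e6 : ∀ a : F, (rg hT hR).x ((rg hT hR).simple ⟨1, hi⟩) a = X 6 a := fun a => hxx 6 a
        have e5 : ∀ a : F, (rg hT hR).x ((rg hT hR).neg ((rg hT hR).simple ⟨1, hi⟩)) a = X 5 a :=
          fun a => hxx 5 a
        show (rg hT hR).x ((rg hT hR).simple ⟨1, hi⟩) 1 *
          (rg hT hR).x ((rg hT hR).neg ((rg hT hR).simple ⟨1, hi⟩)) (-1⁻¹) *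
          (rg hT hR).x ((rg hT hR).simple ⟨1, hi⟩) 1 ∈ L F
        rw [e6, e5]
        exact mul_mem (mul_mem (X6_mem _) (X5_mem _)) (X6_mem _)
  have hK : L F ⊔ chevG2.diagonalSubgroup F ≤ normalizer (Uk (F := F) hD 7 : Set (GL chevG2.Idx F)) :=
    sup_le Cfsg.Agent.Lib.H46GCLNorm.lnorm (hHB.trans (hBn 7 (by norm_num)))
  obtain ⟨v, hv, k, hk, rfl⟩ := (Helper23Grp.mem_sup_of_normalizes hK).1 (hle h3)
  obtain ⟨l, hl, h, hh, rfl⟩ := (Helper23Grp.mem_sup_of_normalizes hHL).1 hk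
  exact ⟨v, hv, l, hl, h, hh, (mul_assoc _ _ _).symm⟩

end Cfsg.Agent.Lib.H46GCInP
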