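import Cfsg.Agent.Lib.H46GCRel

set_option autoImplicit false
set_option linter.unusedSectionVars false
set_option linter.unusedVariables false

namespace Cfsg.Agent.Lib.H46GCKill11

open Subgroup Cfsg.Lie Cfsg.Lie.ChevalleyDatum
open Cfsg.Agent.Lib.Helper23Grp Cfsg.Agent.Lib.Helper23RG Cfsg.Agent.Lib.Helper23RG.RG
  Cfsg.Agent.Lib.Helper23Table Cfsg.Agent.Lib.Helper23Chev
  Cfsg.Agent.Lib.Helper22ChevBasic Cfsg.Agent.Lib.Helper22ChevU Cfsg.Agent.Lib.Helper22ChevPar
  Cfsg.Agent.Lib.H46GCRel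

variable {F : Type*} [Field F] [CharP F 2]

theorem killA {G : Type*} [Group G] (a b z w : G) (h1 : a * b = b * z * a) (hb : b * b = 1)
    (hwb : w * b = b * w) (hza : z * a = a * z) (hzw : z * w = 1) : b * (a * w) * b⁻¹ = a := by
  have hbinv : b⁻¹ = b := inv_eq_of_mul_eq_one_left hb
  calc b * (a * w) * b⁻¹ = b * a * (w * b) := by rw [hbinv]; group
    _ = b * (a * b) * w := by rw [hwb]; group
    _ = (b * b) * (z * a) * w := by rw [h1]; group
    _ = a * (z * w) := by rw [hb, hza]; group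
    _ = a := by rw [hzw, mul_one]

theorem killB {G : Type*} [Group G] (a b z w : G) (h1 : b * a = a * z * b)
    (hwb : w * b = b * w) (hzw : z * w = 1) : b * (a * w) * b⁻¹ = a := by
  calc b * (a * w) * b⁻¹ = (b * a) * w * b⁻¹ := by group
    _ = a * z * (b * w) * b⁻¹ := by rw [h1]; group
    _ = a * (z * w) := by rw [← hwb]; group
    _ = a := by rw [hzw, mul_one]

/-- Kill the `X 11` factor. -/
theorem kill11 {r : ℕ} (hr : r = 8 ∨ r = 9 ∨ r = 10) (t e : F) (ht : t ≠ 0) : Cj (X r t * X 11 e) (X r t) := by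
  rcases hr with rfl | rfl | rfl
  · have h := Cj.ofX 9 (e / t) (X 8 t * X 11 e)
    rwa [killA (X 8 t) (X 9 (e / t)) (X 11 (t * (e / t))) (X 11 e) (R89 _ _) (X_sq _ _)
      (C0 (by decide) _ _) (C0 (by decide) _ _)
      (by rw [X_add, mul_div_cancel₀ _ ht, add_self', X_zero])] at h
  · have h := Cj.ofX 8 (e / t) (X 9 t * X 11 e)
    rwa [killB (X 9 t) (X 8 (e / t)) (X 11 (e / t * t)) (X 11 e) (R89 _ _)
      (C0 (by decide) _ _)
      (by rw [X_add, div_mul_cancel₀ _ ht, add_self', X_zero])] at h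
  · have h := Cj.ofX 6 (e / t) (X 10 t * X 11 e)
    rwa [killB (X 10 t) (X 6 (e / t)) (X 11 (e / t * t)) (X 11 e) (R610 _ _)
      (C0 (by decide) _ _)
      (by rw [X_add, div_mul_cancel₀ _ ht, add_self', X_zero])] at h

end Cfsg.Agent.Lib.H46GCKill11
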