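import Cfsg.Agent.Lib.H46GCRel

set_option autoImplicit false
set_option linter.unusedSectionVars false
set_option linter.unusedVariables false

namespace Cfsg.Agent.Lib.H46GCNorm

open Subgroup Cfsg.Lie Cfsg.Lie.ChevalleyDatum
open Cfsg.Agent.Lib.Helper23Grp Cfsg.Agent.Lib.Helper23RG Cfsg.Agent.Lib.Helper23RG.RG
  Cfsg.Agent.Lib.Helper23Table Cfsg.Agent.Lib.Helper23Chev
  Cfsg.Agent.Lib.Helper22ChevBasic Cfsg.Agent.Lib.Helper22ChevU Cfsg.Agent.Lib.Helper22ChevPar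
  Cfsg.Agent.Lib.H46GCRel

variable {F : Type*} [Field F] [CharP F 2]

/-- `n_conj 0` maps `X 8 t` to `X 9 (k*t)`, `n_conj 1` maps `X 10 t` to `X 11 (k*t)` (`chevG2.reflectRoot 0 8 = 9`, `chevG2.reflectRoot 1 10 = 11` by `decide`);
`h_conj 0 c` acts on `X 9` by `c ^ 1` (`chevG2.cartan 0 9 = 1`), `h_conj 1 c` acts on `X 11` by `c ^ 1` (`chevG2.cartan 1 11 = 1`); take `c = t⁻¹`. -/
theorem norm9 {r : ℕ} (hr : r = 8 ∨ r = 9) (t : F) (ht : t ≠ 0) : Cj (X r t) (X 9 1) := by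
  have h9 : ∀ t : F, t ≠ 0 → Cj (X 9 t) (X 9 1) := by
    intro t ht
    obtain ⟨h, hh, hc⟩ := h_conj (F := F) 0 (by norm_num) t⁻¹ (inv_ne_zero ht)
    refine ⟨h, hh, ?_⟩
    have a0 : chevG2.cartan 0 9 = 1 := by decide +kernel
    rw [hc 9 (by norm_num), a0, zpow_one, inv_mul_cancel₀ ht]
  rcases hr with rfl | rfl
  · obtain ⟨n, hn, k, hk, hc⟩ := n_conj (F := F) 0 (by norm_num)
    have e : chevG2.reflectRoot 0 8 = 9 := by decide +kernel
    have : Cj (X 8 t) (X 9 (k 8 * t)) := ⟨n, hn, by rw [hc 8 (by norm_num), e]⟩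
    exact this.trans (h9 _ (mul_ne_zero (hk 8) ht))
  · exact h9 t ht

theorem norm11 {r : ℕ} (hr : r = 10 ∨ r = 11) (t : F) (ht : t ≠ 0) : Cj (X r t) (X 11 1) := by
  have h9 : ∀ t : F, t ≠ 0 → Cj (X 11 t) (X 11 1) := by
    intro t ht
    obtain ⟨h, hh, hc⟩ := h_conj (F := F) 1 (by norm_num) t⁻¹ (inv_ne_zero ht)
    refine ⟨h, hh, ?_⟩
    have a0 : chevG2.cartan 1 11 = 1 := by decide +kernel
    rw [hc 11 (by norm_num), a0, zpow_one, inv_mul_cancel₀ ht]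
  rcases hr with rfl | rfl
  · obtain ⟨n, hn, k, hk, hc⟩ := n_conj (F := F) 1 (by norm_num)
    have e : chevG2.reflectRoot 1 10 = 11 := by decide +kernel
    have : Cj (X 10 t) (X 11 (k 10 * t)) := ⟨n, hn, by rw [hc 10 (by norm_num), e]⟩
    exact this.trans (h9 _ (mul_ne_zero (hk 10) ht))
  · exact h9 t ht

end Cfsg.Agent.Lib.H46GCNorm
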