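import Cfsg.Agent.Lib.H46GCRel
import Cfsg.Agent.Lib.H46GCMulQ
import Cfsg.Agent.Lib.H46GCConj7
import Cfsg.Agent.Lib.H46GCConjNa

set_option autoImplicit false
set_option linter.unusedSectionVars false
set_option linter.unusedVariables false

namespace Cfsg.Agent.Lib.H46GCRedA

open Subgroup Cfsg.Lie Cfsg.Lie.ChevalleyDatum
open Cfsg.Agent.Lib.Helper23Grp Cfsg.Agent.Lib.Helper23RG Cfsg.Agent.Lib.Helper23RG.RG
  Cfsg.Agent.Lib.Helper23Table Cfsg.Agent.Lib.Helper23Chev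
  Cfsg.Agent.Lib.Helper22ChevBasic Cfsg.Agent.Lib.Helper22ChevU Cfsg.Agent.Lib.Helper22ChevPar
  Cfsg.Agent.Lib.H46GCRel

variable {F : Type*} [Field F] [CharP F 2]

/-- `c6 ≠ 0`.  Square roots exist (`F` finite of characteristic 2: `frobenius F 2` is injective hence surjective).  Take `s` with `s^2 = c9 / c6`; by `conj7`
the conjugate by `X 7 s` is `q c6 c8' 0 c10' e` (`c9 + s^2*c6 = 0` by `add_self'`); it is again an involution-or-1 (conjugate of `h`), so `sq_zero` gives `c6 * c10' = 0`, `c10' = 0`.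
Then `conj_na` gives `q 0 0 (k8*c8') (k6*c6) e'`. -/
theorem redA [Fintype F] (c6 c8 c9 c10 c11 : F) (h6 : c6 ≠ 0) (h : q c6 c8 c9 c10 c11 * q c6 c8 c9 c10 c11 = 1) :
    ∃ d9 d10 d11 : F, Cj (q c6 c8 c9 c10 c11) (q 0 0 d9 d10 d11) := by
  have h1 : Function.Injective (frobenius F 2) := frobenius_inj F 2
  obtain ⟨s, hs'⟩ := (Finite.injective_iff_surjective.1 h1) (c9 / c6)
  have hs : s ^ 2 = c9 / c6 := by rw [← hs', frobenius_def]
  obtain ⟨e, he⟩ := Cfsg.Agent.Lib.H46GCConj7.conj7 s c6 c8 c9 c10 c11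
  have hc := Cj.ofX 7 s (q c6 c8 c9 c10 c11)
  rw [he] at hc
  have e9 : c9 + s ^ 2 * c6 = 0 := by rw [hs, div_mul_cancel₀ _ h6, add_self']
  rw [e9] at hc he
  have hsq : q c6 (c8 + s * c6) 0 (c10 + s ^ 3 * c6 + s ^ 2 * c8 + s * c9) e *
      q c6 (c8 + s * c6) 0 (c10 + s ^ 3 * c6 + s ^ 2 * c8 + s * c9) e = 1 := by
    rw [← he]
    have : X 7 s * q c6 c8 c9 c10 c11 * (X 7 s)⁻¹ * (X 7 s * q c6 c8 c9 c10 c11 * (X 7 s)⁻¹) =
        X 7 s * (q c6 c8 c9 c10 c11 * q c6 c8 c9 c10 c11) * (X 7 s)⁻¹ := by group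
    rw [this, h]; simp
  have h0 := Cfsg.Agent.Lib.H46GCMulQ.sq_zero hsq
  rw [mul_zero, add_zero] at h0
  have h10 : c10 + s ^ 3 * c6 + s ^ 2 * c8 + s * c9 = 0 := (mul_eq_zero.1 h0).resolve_left h6
  rw [h10] at hc
  obtain ⟨n, hn, k6, k8, k9, k10, -, -, -, -, hq⟩ := Cfsg.Agent.Lib.H46GCConjNa.conj_na (F := F)
  obtain ⟨e', he'⟩ := hq c6 (c8 + s * c6) 0 0 e
  rw [mul_zero, mul_zero] at he'
  exact ⟨_, _, _, hc.trans ⟨n, hn, he'⟩⟩

end Cfsg.Agent.Lib.H46GCRedA
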