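import Cfsg.Agent.Lib.H46GCRel
import Cfsg.Agent.Lib.H46GCMulQ
import Cfsg.Agent.Lib.H46GCConj7

set_option autoImplicit false
set_option linter.unusedSectionVars false
set_option linter.unusedVariables false

namespace Cfsg.Agent.Lib.H46GCRedB

open Subgroup Cfsg.Lie Cfsg.Lie.ChevalleyDatum
open Cfsg.Agent.Lib.Helper23Grp Cfsg.Agent.Lib.Helper23RG Cfsg.Agent.Lib.Helper23RG.RG
  Cfsg.Agent.Lib.Helper23Table Cfsg.Agent.Lib.Helper23Chev
  Cfsg.Agent.Lib.Helper22ChevBasic Cfsg.Agent.Lib.Helper22ChevU Cfsg.Agent.Lib.Helper22ChevPar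
  Cfsg.Agent.Lib.H46GCRel

variable {F : Type*} [Field F] [CharP F 2]

theorem exists_sqrt [Fintype F] (x : F) : ∃ s : F, s ^ 2 = x := by
  have h1 : Function.Injective (frobenius F 2) := frobenius_inj F 2
  obtain ⟨s, hs⟩ := (Finite.injective_iff_surjective.1 h1) x
  exact ⟨s, by rw [← hs, frobenius_def]⟩

/-- `c6 = 0`, `c8 ≠ 0`. -/
theorem redB [Fintype F] (c8 c9 c10 c11 : F) (h8 : c8 ≠ 0) (h : q 0 c8 c9 c10 c11 * q 0 c8 c9 c10 c11 = 1) :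
    ∃ e : F, Cj (q 0 c8 c9 c10 c11) (X 8 c8 * X 11 e) := by
  have h0 := Cfsg.Agent.Lib.H46GCMulQ.sq_zero h
  rw [zero_mul, zero_add] at h0
  have h9 : c9 = 0 := (mul_eq_zero.1 h0).resolve_left h8
  subst h9
  obtain ⟨s, hs⟩ := exists_sqrt (c10 / c8)
  obtain ⟨e, he⟩ := Cfsg.Agent.Lib.H46GCConj7.conj7 s 0 c8 0 c10 c11
  refine ⟨e, ?_⟩
  have h1 := Cj.ofX 7 s (q 0 c8 0 c10 c11)
  rw [he] at h1
  have e1 : q (0 : F) (c8 + s * 0) (0 + s ^ 2 * 0) (c10 + s ^ 3 * 0 + s ^ 2 * c8 + s * 0) e =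
      X 8 c8 * X 11 e := by
    rw [hs, div_mul_cancel₀ _ h8]
    simp only [mul_zero, add_zero, add_self']
    unfold q
    simp only [X_zero, one_mul, mul_one]
  rwa [e1] at h1

end Cfsg.Agent.Lib.H46GCRedB
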