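import Cfsg.Agent.Lib.H46GCRel
import Cfsg.Agent.Lib.H46GCMulQ
import Cfsg.Agent.Lib.H46GCConj7

set_option autoImplicit false
set_option linter.unusedSectionVars false
set_option linter.unusedVariables false

namespace Cfsg.Agent.Lib.H46GCRedC

open Subgroup Cfsg.Lie Cfsg.Lie.ChevalleyDatum
open Cfsg.Agent.Lib.Helper23Grp Cfsg.Agent.Lib.Helper23RG Cfsg.Agent.Lib.Helper23RG.RG
  Cfsg.Agent.Lib.Helper23Table Cfsg.Agent.Lib.Helper23Chev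
  Cfsg.Agent.Lib.Helper22ChevBasic Cfsg.Agent.Lib.Helper22ChevU Cfsg.Agent.Lib.Helper22ChevPar
  Cfsg.Agent.Lib.H46GCRel

variable {F : Type*} [Field F] [CharP F 2]

/-- `c6 = c8 = 0`, `c9 ≠ 0`. -/
theorem redC (c9 c10 c11 : F) (h9 : c9 ≠ 0) : ∃ e : F, Cj (q 0 0 c9 c10 c11) (X 9 c9 * X 11 e) := by
  obtain ⟨e, he⟩ := Cfsg.Agent.Lib.H46GCConj7.conj7 (c10 / c9) 0 0 c9 c10 c11
  refine ⟨e, ?_⟩
  have h := Cj.ofX 7 (c10 / c9) (q 0 0 c9 c10 c11)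
  rw [he] at h
  have e1 : q (0 : F) (0 + c10 / c9 * 0) (c9 + (c10 / c9) ^ 2 * 0)
      (c10 + (c10 / c9) ^ 3 * 0 + (c10 / c9) ^ 2 * 0 + c10 / c9 * c9) e = X 9 c9 * X 11 e := by
    rw [div_mul_cancel₀ _ h9]
    simp only [mul_zero, add_zero, add_self']
    unfold q
    simp only [X_zero, one_mul, mul_one]
  rwa [e1] at h

end Cfsg.Agent.Lib.H46GCRedC
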