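import Cfsg.Agent.Lib.H46GCRel
import Cfsg.Agent.Lib.H46WCUkN

set_option autoImplicit false
set_option linter.unusedSectionVars false
set_option linter.unusedVariables false

namespace Cfsg.Agent.Lib.H46GCSq67

open Subgroup Cfsg.Lie Cfsg.Lie.ChevalleyDatum
open Cfsg.Agent.Lib.Helper23Grp Cfsg.Agent.Lib.Helper23RG Cfsg.Agent.Lib.Helper23RG.RG
  Cfsg.Agent.Lib.Helper23Table Cfsg.Agent.Lib.Helper23Chev
  Cfsg.Agent.Lib.Helper22ChevBasic Cfsg.Agent.Lib.Helper22ChevU Cfsg.Agent.Lib.Helper22ChevPar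
  Cfsg.Agent.Lib.H46GCRel

variable {F : Type*} [Field F] [CharP F 2]

/-- abstract group computation behind `sq67`. -/
theorem sq_aux {Γ : Type*} [Group Γ] (A B E w k k' Y : Γ) (hAA : A * A = 1) (hBB : B * B = 1)
    (hEE : E * E = 1) (hEA : E * A = A * E) (hBE : B * E = E * k * B)
    (hBA : B * A = A * Y * k' * B) :
    (A * B * E * w) * (A * B * E * w)
      = Y * (k' * (B * k * B) * ((E * (B * (A * w * A) * B) * E) * w)) := by
  have hAA' : ∀ g : Γ, A * (A * g) = g := fun g => by rw [← mul_assoc, hAA, one_mul]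
  have hBB' : ∀ g : Γ, B * (B * g) = g := fun g => by rw [← mul_assoc, hBB, one_mul]
  have hEE' : ∀ g : Γ, E * (E * g) = g := fun g => by rw [← mul_assoc, hEE, one_mul]
  have s1 : w * (A * B * E) = (A * B * E) * (E * (B * (A * w * A) * B) * E) := by
    simp only [mul_assoc, hAA', hBB', hEE']
  have s2 : (A * B * E) * (A * B * E) = Y * (k' * (B * k * B)) := by
    calc (A * B * E) * (A * B * E) = A * B * (E * A) * B * E := by simp only [mul_assoc]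
      _ = A * B * (A * E) * B * E := by rw [hEA]
      _ = A * (B * A) * (E * (B * E)) := by simp only [mul_assoc]
      _ = A * (A * Y * k' * B) * (E * (E * k * B)) := by rw [hBA, hBE]
      _ = Y * (k' * (B * k * B)) := by simp only [mul_assoc, hAA', hEE']
  calc (A * B * E * w) * (A * B * E * w) = (A * B * E) * (w * (A * B * E)) * w := by
        simp only [mul_assoc]
    _ = ((A * B * E) * (A * B * E)) * ((E * (B * (A * w * A) * B) * E) * w) := by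
        rw [s1]; simp only [mul_assoc]
    _ = Y * (k' * (B * k * B) * ((E * (B * (A * w * A) * B) * E) * w)) := by
        rw [s2]; simp only [mul_assoc]

/-- An involution of `U` has `c6 * c7 = 0`.  Show `∃ y ∈ Uk hD 9, u * u = X 8 (c6*c7) * y`; then `X 8 (c6*c7) = y⁻¹ ∈ Uk 9`, so `c6*c7 = 0` by `eq_zero_of_mem_Uk`.
Computation, with `A = X 6 c6`, `B = X 7 c7`, `w = X 8 c8 * X 9 c9 * X 10 c10 * X 11 c11`: `w * A = A * w₁` with `w₁ = X 8 c8 * (elt of Uk 9)` (`C0`, `R610`), `w₁ * B = B * w₂` with `w₂ = X 8 c8 * (elt of Uk 9)`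
(`R78`, `R79`, `C0`), `B * A = A * X 8 (c7*c6) * (elt of Uk 9) * B` (`R76`), `A*A = 1 = B*B` (`X_sq`); `X 8` commutes with `Uk 9 = X_9 X_10 X_11` modulo `X 11` (`R89`, `C0`), `X 8 c8 * X 8 c8 = 1`.
(`xG_mem_Uk`; normality: `H46WCUkN.Uk_conj` if you import `Cfsg.Agent.Lib.H46WCUkN`.) -/
theorem sq67 (c6 c7 c8 c9 c10 c11 : F)
    (h : (X 6 c6 * X 7 c7 * X 8 c8 * X 9 c9 * X 10 c10 * X 11 c11) * (X 6 c6 * X 7 c7 * X 8 c8 * X 9 c9 * X 10 c10 * X 11 c11) = 1) :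
    c6 * c7 = 0 := by
  have hnr : chevG2.nroots / 2 = 6 := by decide
  have hnr' : chevG2.nroots = 12 := by decide
  have hcj : ∀ (j : ℕ) (_ : 6 ≤ j) (a : F), ∀ y ∈ Uk (F := F) hD 9,
      X j a * y * X j a ∈ Uk (F := F) hD 9 := by
    intro j hj a y hy
    have := Cfsg.Agent.Lib.H46WCUkN.x_conj (F := F) hD (k := 9) (j := j)
      (by rw [hnr]; norm_num) (by rw [hnr]; exact hj) a y hy
    rwa [show (xG hD j a)⁻¹ = X j a from X_inv j a] at this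
  have hmem : ∀ (r : ℕ) (_ : 9 ≤ r) (t : F), X r t ∈ Uk (F := F) hD 9 := fun r hr t =>
    xG_mem_Uk hD hr t
  have hw : X 9 c9 * X 10 c10 * X 11 c11 ∈ Uk (F := F) hD 9 :=
    mul_mem (mul_mem (hmem 9 (by norm_num) _) (hmem 10 (by norm_num) _)) (hmem 11 (by norm_num) _)
  have hk : X 10 (c7 ^ 2 * c8) * X 11 (c7 * c8 ^ 2) ∈ Uk (F := F) hD 9 :=
    mul_mem (hmem 10 (by norm_num) _) (hmem 11 (by norm_num) _)
  have hk' : X 9 (c7 ^ 2 * c6) * X 10 (c7 ^ 3 * c6) * X 11 (c7 ^ 3 * c6 ^ 2) ∈ Uk (F := F) hD 9 :=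
    mul_mem (mul_mem (hmem 9 (by norm_num) _) (hmem 10 (by norm_num) _)) (hmem 11 (by norm_num) _)
  have key := sq_aux (X 6 c6) (X 7 c7) (X 8 c8) (X 9 c9 * X 10 c10 * X 11 c11)
    (X 10 (c7 ^ 2 * c8) * X 11 (c7 * c8 ^ 2))
    (X 9 (c7 ^ 2 * c6) * X 10 (c7 ^ 3 * c6) * X 11 (c7 ^ 3 * c6 ^ 2)) (X 8 (c7 * c6))
    (X_sq 6 c6) (X_sq 7 c7) (X_sq 8 c8) (C0 (by simp) c8 c6)
    (by rw [R78]; simp only [mul_assoc]) (by rw [R76]; simp only [mul_assoc])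
  have h' : (X 6 c6 * X 7 c7 * X 8 c8 * (X 9 c9 * X 10 c10 * X 11 c11))
      * (X 6 c6 * X 7 c7 * X 8 c8 * (X 9 c9 * X 10 c10 * X 11 c11)) = 1 := by
    rw [← h]; simp only [mul_assoc]
  rw [h'] at key
  have hy : X 9 (c7 ^ 2 * c6) * X 10 (c7 ^ 3 * c6) * X 11 (c7 ^ 3 * c6 ^ 2)
      * (X 7 c7 * (X 10 (c7 ^ 2 * c8) * X 11 (c7 * c8 ^ 2)) * X 7 c7)
      * ((X 8 c8 * (X 7 c7 * (X 6 c6 * (X 9 c9 * X 10 c10 * X 11 c11) * X 6 c6) * X 7 c7) * X 8 c8)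
        * (X 9 c9 * X 10 c10 * X 11 c11)) ∈ Uk (F := F) hD 9 := by
    refine mul_mem (mul_mem hk' (hcj 7 (by norm_num) _ _ hk)) (mul_mem ?_ hw)
    exact hcj 8 (by norm_num) _ _ (hcj 7 (by norm_num) _ _ (hcj 6 (by norm_num) _ _ hw))
  have hX8 : X 8 (c7 * c6) ∈ Uk (F := F) hD (8 + 1) := by
    have e := eq_inv_of_mul_eq_one_left key.symm
    rw [e]
    exact inv_mem hy
  have := eq_zero_of_mem_Uk hD (k := 8) (by rw [hnr]; norm_num) (by rw [hnr']; norm_num) hX8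
  rw [mul_comm]
  exact this

end Cfsg.Agent.Lib.H46GCSq67
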