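import Cfsg.Agent.Lib.H46GCRel

set_option autoImplicit false
set_option linter.unusedSectionVars false
set_option linter.unusedVariables false

namespace Cfsg.Agent.Lib.H46GCSyl

open Subgroup Cfsg.Lie Cfsg.Lie.ChevalleyDatum
open Cfsg.Agent.Lib.Helper23Grp Cfsg.Agent.Lib.Helper23RG Cfsg.Agent.Lib.Helper23RG.RG
  Cfsg.Agent.Lib.Helper23Table Cfsg.Agent.Lib.Helper23Chev
  Cfsg.Agent.Lib.Helper22ChevBasic Cfsg.Agent.Lib.Helper22ChevU Cfsg.Agent.Lib.Helper22ChevPar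
  Cfsg.Agent.Lib.H46GCRel

variable {F : Type*} [Field F] [CharP F 2]

/-- `H46BTSyl.conj_into_U 2 hD (Subgroup.zpowers g)`; `zpowers g` is a 2-group (`IsPGroup.of_card`, `Nat.card_zpowers`, `ho`). -/
theorem syl [Fintype F] (g : GL chevG2.Idx F) (hg : g ∈ chevG2.group F) (ho : orderOf g = 2) :
    ∃ u ∈ chevG2.posUnipotent F, Cj g u := by
  haveI : Fact (Nat.Prime 2) := ⟨Nat.prime_two⟩
  have hV : IsPGroup 2 (Subgroup.zpowers g) := by
    apply IsPGroup.of_card (n := 1)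
    rw [Nat.card_zpowers, ho, pow_one]
  obtain ⟨k, hk, h⟩ := Cfsg.Agent.Lib.H46BTSyl.conj_into_U 2 hD (Subgroup.zpowers g)
    (by rw [Subgroup.zpowers_le]; exact hg) hV
  refine ⟨k⁻¹ * g * k, h g (Subgroup.mem_zpowers g), k⁻¹, inv_mem hk, by rw [inv_inv]⟩

/-- `orderOf_eq_prime` with `X_sq` and `X_inj`. -/
theorem ordX {r : ℕ} (hr : r < 12) : orderOf (X r (1 : F)) = 2 := by
  apply orderOf_eq_prime
  · rw [pow_two, X_sq]
  · intro h
    exact one_ne_zero (X_inj hr h)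

end Cfsg.Agent.Lib.H46GCSyl
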