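import Cfsg.Agent.Lib.H46GCRel
import Cfsg.Agent.Lib.H46GCMulQ
import Cfsg.Agent.Lib.H46GCKill11
import Cfsg.Agent.Lib.H46GCNorm
import Cfsg.Agent.Lib.H46GCRedA
import Cfsg.Agent.Lib.H46GCRedB
import Cfsg.Agent.Lib.H46GCRedC
import Cfsg.Agent.Lib.H46GCSplit
import Cfsg.Agent.Lib.H46GCSq67
import Cfsg.Agent.Lib.H46GCCase7
import Cfsg.Agent.Lib.H46GCSyl

set_option autoImplicit false
set_option linter.unusedSectionVars false
set_option linter.unusedVariables false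

namespace Cfsg.Agent.Lib.H46GCMainB

open Subgroup Cfsg.Lie Cfsg.Lie.ChevalleyDatum
open Cfsg.Agent.Lib.Helper22ChevBasic Cfsg.Agent.Lib.Helper22ChevU Cfsg.Agent.Lib.Helper22ChevPar
  Cfsg.Agent.Lib.H46GCRel

variable {F : Type*} [Field F] [CharP F 2]

omit [CharP F 2] in
theorem Cj.sq {g g' : GL chevG2.Idx F} (h : Cj g g') (hg : g * g = 1) : g' * g' = 1 := by
  obtain ⟨k, -, rfl⟩ := h
  have : k * g * k⁻¹ * (k * g * k⁻¹) = k * (g * g) * k⁻¹ := by group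
  rw [this, hg]; simp

omit [CharP F 2] in
theorem Cj.ne {g g' : GL chevG2.Idx F} (h : Cj g g') (hg : g ≠ 1) : g' ≠ 1 := by
  obtain ⟨k, -, rfl⟩ := h
  intro e
  apply hg
  have : g = k⁻¹ * (k * g * k⁻¹) * k := by group
  rw [this, e]; simp

theorem red0 [Fintype F] (c8 c9 c10 c11 : F) (h : q 0 c8 c9 c10 c11 * q 0 c8 c9 c10 c11 = 1)
    (hne : q 0 c8 c9 c10 c11 ≠ 1) : Cj (q 0 c8 c9 c10 c11) (X 11 1) ∨ Cj (q 0 c8 c9 c10 c11) (X 9 1) := by
  by_cases h8 : c8 = 0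
  · subst h8
    by_cases h9 : c9 = 0
    · subst h9
      have e : q 0 0 0 c10 c11 = X 10 c10 * X 11 c11 := by
        unfold q; rw [X_zero, X_zero, X_zero]; simp
      left
      by_cases h10 : c10 = 0
      · subst h10
        have e' : q 0 0 0 0 c11 = X 11 c11 := by rw [e, X_zero, one_mul]
        rw [e'] at hne ⊢
        apply H46GCNorm.norm11 (Or.inr rfl)
        rintro rfl
        exact hne (X_zero 11)
      · rw [e]
        exact (H46GCKill11.kill11 (Or.inr (Or.inr rfl)) c10 c11 h10).trans (H46GCNorm.norm11 (Or.inl rfl) c10 h10)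
    · right
      obtain ⟨e, he⟩ := H46GCRedC.redC c9 c10 c11 h9
      exact he.trans ((H46GCKill11.kill11 (Or.inr (Or.inl rfl)) c9 e h9).trans (H46GCNorm.norm9 (Or.inr rfl) c9 h9))
  · right
    obtain ⟨e, he⟩ := H46GCRedB.redB c8 c9 c10 c11 h8 h
    exact he.trans ((H46GCKill11.kill11 (Or.inl rfl) c8 e h8).trans (H46GCNorm.norm9 (Or.inl rfl) c8 h8))

theorem reduce [Fintype F] (c6 c8 c9 c10 c11 : F) (h : q c6 c8 c9 c10 c11 * q c6 c8 c9 c10 c11 = 1)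
    (hne : q c6 c8 c9 c10 c11 ≠ 1) : Cj (q c6 c8 c9 c10 c11) (X 11 1) ∨ Cj (q c6 c8 c9 c10 c11) (X 9 1) := by
  by_cases h6 : c6 = 0
  · subst h6; exact red0 c8 c9 c10 c11 h hne
  · obtain ⟨d9, d10, d11, hd⟩ := H46GCRedA.redA c6 c8 c9 c10 c11 h6 h
    rcases red0 0 d9 d10 d11 (Cj.sq hd h) (Cj.ne hd hne) with h1 | h1
    · exact Or.inl (hd.trans h1)
    · exact Or.inr (hd.trans h1)

theorem mainB [Fintype F] (g : GL chevG2.Idx F) (hg : g ∈ chevG2.group F) (ho : orderOf g = 2) :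
    Cj g (X 11 1) ∨ Cj g (X 9 1) := by
  obtain ⟨u, hu, hgu⟩ := H46GCSyl.syl g hg ho
  have hg2 : g * g = 1 := by rw [← pow_two, ← ho]; exact pow_orderOf_eq_one g
  have hg1 : g ≠ 1 := by
    rintro rfl
    rw [orderOf_one] at ho; norm_num at ho
  have hu2 := Cj.sq hgu hg2
  have hu1 := Cj.ne hgu hg1
  obtain ⟨c6, c7, c8, c9, c10, c11, rfl⟩ := H46GCSplit.split u hu
  have h67 := H46GCSq67.sq67 c6 c7 c8 c9 c10 c11 hu2
  by_cases h7 : c7 = 0
  · subst h7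
    have e : X 6 c6 * X 7 0 * X 8 c8 * X 9 c9 * X 10 c10 * X 11 c11 = q c6 c8 c9 c10 c11 := by
      unfold q; rw [X_zero, mul_one]
    rw [e] at hgu hu2 hu1
    rcases reduce c6 c8 c9 c10 c11 hu2 hu1 with h1 | h1
    · exact Or.inl (hgu.trans h1)
    · exact Or.inr (hgu.trans h1)
  · have h6 : c6 = 0 := by
      rcases mul_eq_zero.1 h67 with h | h
      · exact h
      · exact absurd h h7
    subst h6
    have e : X 6 0 * X 7 c7 * X 8 c8 * X 9 c9 * X 10 c10 * X 11 c11 = X 7 c7 * X 8 c8 * X 9 c9 * X 10 c10 * X 11 c11 := by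
      rw [X_zero, one_mul]
    rw [e] at hgu hu2 hu1
    obtain ⟨d8, d9, d10, d11, hd⟩ := H46GCCase7.case7 c7 c8 c9 c10 c11 h7
    rcases red0 d8 d9 d10 d11 (Cj.sq hd hu2) (Cj.ne hd hu1) with h1 | h1
    · exact Or.inl ((hgu.trans hd).trans h1)
    · exact Or.inr ((hgu.trans hd).trans h1)

end Cfsg.Agent.Lib.H46GCMainB
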