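import Cfsg.Agent.Lib.H46GCRel
import Cfsg.Agent.Lib.H46GCL
import Cfsg.Agent.Lib.H46WCUkN
import Cfsg.Agent.Lib.H46GCWinv
import Cfsg.Agent.Lib.H46GCSplit

set_option autoImplicit false
set_option linter.unusedSectionVars false
set_option linter.unusedVariables false

namespace Cfsg.Agent.Lib.H46GCNotConj

open Subgroup Cfsg.Lie Cfsg.Lie.ChevalleyDatum
open Cfsg.Agent.Lib.Helper23Grp Cfsg.Agent.Lib.Helper23RG Cfsg.Agent.Lib.Helper23RG.RG
  Cfsg.Agent.Lib.Helper23Table Cfsg.Agent.Lib.Helper23Chev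
  Cfsg.Agent.Lib.Helper22ChevBasic Cfsg.Agent.Lib.Helper22ChevU Cfsg.Agent.Lib.Helper22ChevPar
  Cfsg.Agent.Lib.H46GCRel Cfsg.Agent.Lib.H46GCL

variable {F : Type*} [Field F] [CharP F 2]

/-- A long and a short root involution are not conjugate.  Let `hT := Helper23Tab.tableOK_of_mem hD`, `hR := Helper22ChevRel.rel_of_mem hD`, `ok := rg_ok hT hR` (pattern: `LeadChevCent.cent_abstract` / `cent_concrete`).
If `k * X 11 1 * k⁻¹ = X 9 1`, write `k = b1 * n * b2` (`bruhat_ex ok (hBV hT hR) (hUN hT hR)`, `G_eq hT hR`, `B_eq hT hR`).  `y := b2 * X 11 1 * b2⁻¹ ∈ Uk 11` (`H46WCUkN.Uk_conj`), so `y = X 11 c` (`mem_Uk_split`, `Uk_eq_bot`), `c ≠ 0`.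
By `H46GCWinv.winv`, `n * y * n⁻¹ = X (p 11) (κ 11 * c)` with `p 11 ∈ [0,1,5,6,10,11]`, and it equals `z := b1⁻¹ * X 9 1 * b1 ∈ Uk 9`, `z ∉ Uk 10` (else `X 9 1 ∈ Uk 10`, `eq_zero_of_mem_Uk`).
`p 11 = 10, 11`: `z ∈ Uk 10`; `p 11 = 6`: `X 6 _ ∈ Uk 9 ≤ Uk 7`, `eq_zero_of_mem_Uk`; `p 11 = 0, 1, 5`: `UV_trivial` + `X_inj`. -/
theorem not_conj : ¬ Cj (X 11 (1 : F)) (X 9 1) := by
  have hT : TableOK chevG2 := Cfsg.Agent.Lib.Helper23Tab.tableOK_of_mem hD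
  have hR : Rel chevG2 F := Cfsg.Agent.Lib.Helper22ChevRel.rel_of_mem hD
  have ok := rg_ok hT hR
  have hn12 : chevG2.nroots = 12 := by decide
  rintro ⟨k, hk, hk9⟩
  rw [← G_eq hT hR] at hk
  obtain ⟨n, hn, b1, hb1, b2, hb2, rfl⟩ := bruhat_ex ok (hBV hT hR) (hUN hT hR) hk
  rw [B_eq hT hR] at hb1 hb2
  have hy : b2 * X 11 1 * b2⁻¹ ∈ Uk (F := F) hD 11 :=
    H46WCUkN.Uk_conj hD (by rw [hn12]; norm_num) b2 hb2 _ (xG_mem_Uk hD le_rfl _)
  obtain ⟨c, u, hu, hyc⟩ := mem_Uk_split hD (k := 11) (by rw [hn12]; norm_num) hy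
  rw [Uk_eq_bot hD (by rw [hn12]), Subgroup.mem_bot] at hu
  rw [hu, mul_one] at hyc
  have hc : c ≠ 0 := by
    rintro rfl
    rw [xG_zero] at hyc
    have : X 11 (1 : F) = 1 := by
      have h := congrArg (fun z => b2⁻¹ * z * b2) hyc
      simpa [mul_assoc] using h
    exact one_ne_zero (X_inj (by norm_num) this)
  obtain ⟨p, κ, hκ, hp12, hconj, hlong, -⟩ := H46GCWinv.winv hT hR n hn
  have hz : n * (b2 * X 11 1 * b2⁻¹) * n⁻¹ = b1⁻¹ * X 9 1 * b1 := by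
    rw [← hk9]; group
  rw [hyc] at hz
  have hz' : X (p 11) (κ 11 * c) = b1⁻¹ * X 9 1 * b1 := by
    rw [← hz]; exact (hconj 11 (by norm_num) c).symm
  have hne : κ 11 * c ≠ 0 := mul_ne_zero (hκ 11) hc
  have hz9 : X (p 11) (κ 11 * c) ∈ Uk (F := F) hD 9 := by
    rw [hz']
    have := H46WCUkN.Uk_conj hD (k := 9) (by rw [hn12]; norm_num) b1⁻¹ (inv_mem hb1) (X 9 1) (xG_mem_Uk hD le_rfl _)
    simpa using this
  have hz10 : X (p 11) (κ 11 * c) ∉ Uk (F := F) hD 10 := by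
    intro hmem
    rw [hz'] at hmem
    have := H46WCUkN.Uk_conj hD (k := 10) (by rw [hn12]; norm_num) b1 hb1 _ hmem
    have e : b1 * (b1⁻¹ * X 9 1 * b1) * b1⁻¹ = X 9 (1 : F) := by group
    rw [e] at this
    exact one_ne_zero (eq_zero_of_mem_Uk hD (k := 9) (by rw [hn12]; norm_num) (by rw [hn12]; norm_num) this)
  have hl := (hlong 11 (by norm_num)).1 (by simp)
  have hU : Uk (F := F) hD 9 ≤ chevG2.posUnipotent F := by
    rw [posUnipotent_eq_Uk hD]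
    unfold Uk
    apply Subgroup.closure_mono
    rintro _ ⟨r, t, hr, rfl⟩
    exact ⟨r, t, by rw [hn12]; omega, rfl⟩
  have hneg : ∀ r, r < 6 → p 11 = r → False := by
    intro r hr e
    rw [e] at hz9
    exact hne (X_inj (by omega) (UV_trivial _ (hU hz9) (subset_closure ⟨r, _, hr, rfl⟩)))
  simp only [List.mem_cons, List.not_mem_nil, or_false] at hl
  rcases hl with e | e | e | e | e | e
  · exact hneg 0 (by norm_num) e
  · exact hneg 1 (by norm_num) e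
  · exact hneg 5 (by norm_num) e
  · rw [e] at hz9
    apply hne
    apply eq_zero_of_mem_Uk hD (k := 6) (by rw [hn12]) (by rw [hn12]; norm_num)
    have : Uk (F := F) hD 9 ≤ Uk (F := F) hD (6 + 1) := by
      unfold Uk
      apply Subgroup.closure_mono
      rintro _ ⟨r, t, hr, rfl⟩
      exact ⟨r, t, by omega, rfl⟩
    exact this hz9
  · apply hz10; rw [e]; exact xG_mem_Uk hD le_rfl _
  · apply hz10; rw [e]; exact xG_mem_Uk hD (by norm_num) _

end Cfsg.Agent.Lib.H46GCNotConj
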