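import Cfsg.Agent.Lib.LeadChevCent
import Cfsg.Agent.Lib.H46WCDefs
import Cfsg.Agent.Lib.H46BTSyl

set_option autoImplicit false
set_option linter.unusedSectionVars false
set_option linter.unusedVariables false

/-! Vocabulary and relations of project GC (`G₂` in characteristic two, rows S2177 and S2180).
Indices: `6 = b` (long, `simple 1`), `7 = a` (short, `simple 0`), `8 = a+b`, `9 = 2a+b`, `10 = 3a+b`, `11 = 3a+2b`,
`neg r = 11 - r`. -/

namespace Cfsg.Agent.Lib.H46GCRel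

open Subgroup Cfsg.Lie Cfsg.Lie.ChevalleyDatum
open Cfsg.Agent.Lib.Helper22ChevBasic Cfsg.Agent.Lib.Helper22ChevU Cfsg.Agent.Lib.Helper22ChevPar

theorem hD : Std chevG2 := by simp

variable {F : Type*} [Field F]

/-- the root element `x_r(t)` of `G₂(F)` as an element of `GL` -/
noncomputable abbrev X (r : ℕ) (t : F) : GL chevG2.Idx F := xG hD r t

/-- the general element of `Q_a = X_6 X_8 X_9 X_10 X_11` -/
noncomputable def q (c6 c8 c9 c10 c11 : F) : GL chevG2.Idx F := X 6 c6 * X 8 c8 * X 9 c9 * X 10 c10 * X 11 c11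

/-- conjugate in `G₂(F)` -/
def Cj (g g' : GL chevG2.Idx F) : Prop := ∃ h ∈ chevG2.group F, h * g * h⁻¹ = g'

theorem Cj.refl (g : GL chevG2.Idx F) : Cj g g := ⟨1, one_mem _, by simp⟩

theorem Cj.trans {a b c : GL chevG2.Idx F} (h1 : Cj a b) (h2 : Cj b c) : Cj a c := by
  obtain ⟨h, hh, rfl⟩ := h1
  obtain ⟨k, hk, rfl⟩ := h2
  exact ⟨k * h, mul_mem hk hh, by group⟩

theorem X_mem (r : ℕ) (t : F) : X r t ∈ chevG2.group F := xG_mem_group hD r t

theorem Cj.ofX (r : ℕ) (s : F) (g : GL chevG2.Idx F) : Cj g (X r s * g * (X r s)⁻¹) := ⟨_, X_mem r s, rfl⟩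

theorem X_add (r : ℕ) (a b : F) : X r a * X r b = X r (a + b) := xG_add hD r a b

theorem X_zero (r : ℕ) : X r (0 : F) = 1 := xG_zero hD r

theorem comm0 {r s : ℕ} (hr : r < 12) (hs : s < 12) (hrs : s ≠ r) (hneg : s ≠ 11 - r)
    (h : chevG2.commTerms r s = []) (a b : F) : X r a * X s b = X s b * X r a := by
  have hn : chevG2.neg r = 11 - r := by
    have : ∀ r < 12, chevG2.neg r = 11 - r := by decide
    exact this r hr
  exact Cfsg.Agent.Lib.LeadChevCent.comm_of_terms hD hr hs hrs (by rw [hn]; exact hneg)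
    (by rw [h]; simp) a b

variable [CharP F 2]

theorem two0 : (2 : F) = 0 := CharP.cast_eq_zero F 2
theorem neg_eq' (a : F) : -a = a := by
  have : a + a = 0 := by rw [← two_mul, two0, zero_mul]
  exact neg_eq_of_add_eq_zero_left this
theorem add_self' (a : F) : a + a = 0 := by rw [← two_mul, two0, zero_mul]

theorem X_inv (r : ℕ) (a : F) : (X r a)⁻¹ = X r a := by
  rw [inv_eq_iff_mul_eq_one, X_add, add_self', X_zero]

theorem X_sq (r : ℕ) (a : F) : X r a * X r a = 1 := by rw [X_add, add_self', X_zero]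

omit [CharP F 2] in
theorem conjW {r s : ℕ} (hr : r < 12) (hs : s < 12) (hrs : s ≠ r) (hneg : s ≠ 11 - r) (a b : F) :
    X r a * X s b = X s b * wordG hD (chevG2.commWord F r s (-a) b) * X r a := by
  have hn : chevG2.neg r = 11 - r := by
    have : ∀ r < 12, chevG2.neg r = 11 - r := by decide
    exact this r hr
  have h1 := conj_eq (F := F) hD hr hs hrs (by rw [hn]; exact hneg) a b
  exact mul_inv_eq_iff_eq_mul.1 h1

theorem three1 : (3 : F) = 1 := by
  have : (3 : F) = 2 + 1 := by norm_num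
  rw [this, two0, zero_add]

theorem R76 (a b : F) : X 7 a * X 6 b =
    X 6 b * X 8 (a * b) * X 9 (a ^ 2 * b) * X 10 (a ^ 3 * b) * X 11 (a ^ 3 * b ^ 2) * X 7 a := by
  have hct : chevG2.commTerms 7 6 = [(8,-1,1,1),(9,1,2,1),(10,1,3,1),(11,1,3,2)] := by decide +kernel
  rw [conjW (by norm_num) (by norm_num) (by norm_num) (by norm_num)]
  simp only [commWord, hct, List.map, wordG_cons, wordG_nil, mul_one, neg_neg]
  have e1 : ((-1 : ℤ) : F) * a ^ 1 * b ^ 1 = a * b := by push_cast; rw [neg_eq']; ring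
  have e2 : ((1 : ℤ) : F) * a ^ 2 * b ^ 1 = a ^ 2 * b := by push_cast; ring
  have e3 : ((1 : ℤ) : F) * a ^ 3 * b ^ 1 = a ^ 3 * b := by push_cast; ring
  have e4 : ((1 : ℤ) : F) * a ^ 3 * b ^ 2 = a ^ 3 * b ^ 2 := by push_cast; ring
  rw [e1, e2, e3, e4]
  simp only [mul_assoc]

theorem R67 (a b : F) : X 6 a * X 7 b =
    X 7 b * X 8 (a * b) * X 9 (a * b ^ 2) * X 10 (a * b ^ 3) * X 6 a := by
  have hct : chevG2.commTerms 6 7 = [(8,1,1,1),(9,1,1,2),(10,-1,1,3),(11,-2,2,3)] := by decide +kernel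
  rw [conjW (by norm_num) (by norm_num) (by norm_num) (by norm_num)]
  simp only [commWord, hct, List.map, wordG_cons, wordG_nil, mul_one, neg_neg]
  have e1 : ((1 : ℤ) : F) * a ^ 1 * b ^ 1 = a * b := by push_cast; ring
  have e2 : ((1 : ℤ) : F) * a ^ 1 * b ^ 2 = a * b ^ 2 := by push_cast; ring
  have e3 : ((-1 : ℤ) : F) * a ^ 1 * b ^ 3 = a * b ^ 3 := by push_cast; rw [neg_eq']; ring
  have e4 : ((-2 : ℤ) : F) * a ^ 2 * b ^ 3 = 0 := by push_cast; rw [two0]; ring
  rw [e1, e2, e3, e4, xG_zero, mul_one]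
  simp only [mul_assoc]

theorem R78 (a b : F) : X 7 a * X 8 b = X 8 b * X 10 (a ^ 2 * b) * X 11 (a * b ^ 2) * X 7 a := by
  have hct : chevG2.commTerms 7 8 = [(9,-2,1,1),(10,-3,2,1),(11,3,1,2)] := by decide +kernel
  rw [conjW (by norm_num) (by norm_num) (by norm_num) (by norm_num)]
  simp only [commWord, hct, List.map, wordG_cons, wordG_nil, mul_one, neg_neg]
  have e1 : ((-2 : ℤ) : F) * a ^ 1 * b ^ 1 = 0 := by push_cast; rw [two0]; ring
  have e2 : ((-3 : ℤ) : F) * a ^ 2 * b ^ 1 = a ^ 2 * b := by push_cast; rw [neg_eq', three1]; ring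
  have e3 : ((3 : ℤ) : F) * a ^ 1 * b ^ 2 = a * b ^ 2 := by push_cast; rw [three1]; ring
  rw [e1, e2, e3, xG_zero, one_mul]
  simp only [mul_assoc]

theorem R79 (a b : F) : X 7 a * X 9 b = X 9 b * X 10 (a * b) * X 7 a := by
  have hct : chevG2.commTerms 7 9 = [(10,3,1,1)] := by decide +kernel
  rw [conjW (by norm_num) (by norm_num) (by norm_num) (by norm_num)]
  simp only [commWord, hct, List.map, wordG_cons, wordG_nil, mul_one, neg_neg]
  have e3 : ((3 : ℤ) : F) * a ^ 1 * b ^ 1 = a * b := by push_cast; rw [three1]; ring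
  rw [e3]

theorem R89 (a b : F) : X 8 a * X 9 b = X 9 b * X 11 (a * b) * X 8 a := by
  have hct : chevG2.commTerms 8 9 = [(11,3,1,1)] := by decide +kernel
  rw [conjW (by norm_num) (by norm_num) (by norm_num) (by norm_num)]
  simp only [commWord, hct, List.map, wordG_cons, wordG_nil, mul_one, neg_neg]
  have e3 : ((3 : ℤ) : F) * a ^ 1 * b ^ 1 = a * b := by push_cast; rw [three1]; ring
  rw [e3]

theorem R610 (a b : F) : X 6 a * X 10 b = X 10 b * X 11 (a * b) * X 6 a := by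
  have hct : chevG2.commTerms 6 10 = [(11,1,1,1)] := by decide +kernel
  rw [conjW (by norm_num) (by norm_num) (by norm_num) (by norm_num)]
  simp only [commWord, hct, List.map, wordG_cons, wordG_nil, mul_one, neg_neg]
  have e3 : ((1 : ℤ) : F) * a ^ 1 * b ^ 1 = a * b := by push_cast; ring
  rw [e3]

omit [CharP F 2] in
/-- the commuting pairs of positive root subgroups -/
theorem C0 {r s : ℕ} (h : (r, s) ∈ [(6,8),(8,6),(6,9),(9,6),(6,11),(11,6),(7,10),(10,7),(7,11),(11,7),(8,10),(10,8),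
    (8,11),(11,8),(9,10),(10,9),(9,11),(11,9),(10,11),(11,10),(5,9),(9,5),(5,7),(7,5),(5,10),(10,5),(4,6),(6,4),(4,11),(11,4)]) (a b : F) :
    X r a * X s b = X s b * X r a := by
  have key : ∀ p ∈ [(6,8),(8,6),(6,9),(9,6),(6,11),(11,6),(7,10),(10,7),(7,11),(11,7),(8,10),(10,8),
    (8,11),(11,8),(9,10),(10,9),(9,11),(11,9),(10,11),(11,10),(5,9),(9,5),(5,7),(7,5),(5,10),(10,5),(4,6),(6,4),(4,11),(11,4)],
      p.1 < 12 ∧ p.2 < 12 ∧ p.2 ≠ p.1 ∧ p.2 ≠ 11 - p.1 ∧ chevG2.commTerms p.1 p.2 = [] := by decide +kernel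
  obtain ⟨h1, h2, h3, h4, h5⟩ := key _ h
  exact comm0 h1 h2 h3 h4 h5 a b

section NH
open Cfsg.Agent.Lib.Helper23Grp Cfsg.Agent.Lib.Helper23RG Cfsg.Agent.Lib.Helper23RG.RG
  Cfsg.Agent.Lib.Helper23Table Cfsg.Agent.Lib.Helper23Chev

omit [CharP F 2] in
/-- the element `n_i` of `N` (`i = 0`: reflection in `a = 7`, `i = 1`: reflection in `b = 6`) -/
theorem n_conj (i : ℕ) (hi : i < 2) : ∃ n ∈ chevG2.group F, ∃ k : ℕ → F, (∀ r, k r ≠ 0) ∧
    ∀ r < 12, ∀ t : F, n * X r t * n⁻¹ = X (chevG2.reflectRoot i r) (k r * t) := by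
  have hT : TableOK chevG2 := Cfsg.Agent.Lib.Helper23Tab.tableOK_of_mem hD
  have hR : Rel chevG2 F := Cfsg.Agent.Lib.Helper22ChevRel.rel_of_mem hD
  have ok := rg_ok hT hR
  have hxx : ∀ (r : ℕ) (a : F), xg chevG2 F r a = xG hD r a := xg_eq_xG hR hD
  refine ⟨(rg hT hR).nn ⟨i, hi⟩, ?_, fun r => if h : r < 12 then (rg hT hR).η ⟨i, hi⟩ ⟨r, h⟩ else 1, ?_, ?_⟩
  · rw [← G_eq hT hR]
    exact N_le_G ok (nn_mem_N _)
  · intro r
    by_cases h : r < 12
    · simp only [h, dif_pos]; exact η_ne_zero ok _ _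
    · simp only [h, dif_neg, not_false_eq_true]; exact one_ne_zero
  · intro r hr t
    have := ok.n_conj ⟨i, hi⟩ ⟨r, hr⟩ t
    simp only [hr, dif_pos]
    show _ * xG hD r t * _ = xG hD _ _
    rw [← hxx, ← hxx]
    exact this

omit [CharP F 2] in
/-- the torus elements `h_i(c)` -/
theorem h_conj (i : ℕ) (hi : i < 2) (c : F) (hc : c ≠ 0) : ∃ h ∈ chevG2.group F,
    ∀ r < 12, ∀ t : F, h * X r t * h⁻¹ = X r (c ^ (chevG2.cartan i r) * t) := by
  have hR : Rel chevG2 F := Cfsg.Agent.Lib.Helper22ChevRel.rel_of_mem hD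
  refine ⟨hG hD (chevG2.simple i) c, ?_, fun r hr t => ?_⟩
  · exact wordG_mem_group hD _
  · rw [Cfsg.Agent.Lib.LeadChevCent.hG_conj hD hR hi hr hc, mul_inv_cancel_right]

omit [CharP F 2] in
theorem X_inj {r : ℕ} (hr : r < 12) {t : F} (h : X r t = 1) : t = 0 := by
  have hT : TableOK chevG2 := Cfsg.Agent.Lib.Helper23Tab.tableOK_of_mem hD
  have hR : Rel chevG2 F := Cfsg.Agent.Lib.Helper22ChevRel.rel_of_mem hD
  have ok := rg_ok hT hR
  have hxx : ∀ (r : ℕ) (a : F), xg chevG2 F r a = xG hD r a := xg_eq_xG hR hD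
  apply ok.x_inj ⟨r, hr⟩ t
  show xg chevG2 F r t = 1
  rw [hxx]; exact h

omit [CharP F 2] in
/-- `U ∩ V = 1` -/
theorem UV_trivial (g : GL chevG2.Idx F) (h1 : g ∈ chevG2.posUnipotent F)
    (h2 : g ∈ closure {g : GL chevG2.Idx F | ∃ (r : ℕ) (t : F), r < 6 ∧ g = X r t}) : g = 1 := by
  have hT : TableOK chevG2 := Cfsg.Agent.Lib.Helper23Tab.tableOK_of_mem hD
  have hR : Rel chevG2 F := Cfsg.Agent.Lib.Helper22ChevRel.rel_of_mem hD
  have ok := rg_ok hT hR
  have hxx : ∀ (r : ℕ) (a : F), xg chevG2 F r a = xG hD r a := xg_eq_xG hR hD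
  apply hBV hT hR g
  · apply U_le_B
    rw [U_eq hT hR]; exact h1
  · have : closure {g : GL chevG2.Idx F | ∃ (r : ℕ) (t : F), r < 6 ∧ g = X r t} ≤ (rg hT hR).V := by
      rw [closure_le]
      rintro _ ⟨r, t, hr, rfl⟩
      have h12 : r < chevG2.nroots := by
        have : chevG2.nroots = 12 := by decide
        omega
      have := x_mem_V (S := rg hT hR) (r := ⟨r, h12⟩) (by
        show ¬ (chevG2.nroots / 2 ≤ r)
        have : chevG2.nroots = 12 := by decide
        omega) t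
      have e : (rg hT hR).x ⟨r, h12⟩ t = X r t := hxx r t
      rw [← e]; exact this
    exact this h2

end NH

end Cfsg.Agent.Lib.H46GCRel
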