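import Cfsg.Agent.Lib.H46GCRel
import Cfsg.Agent.Lib.H46GCL
import Cfsg.Agent.Lib.H46WCUkN
import Cfsg.Agent.Lib.H46GCSplit

set_option autoImplicit false
set_option linter.unusedSectionVars false
set_option linter.unusedVariables false

namespace Cfsg.Agent.Lib.H46GCVCent

open Subgroup Cfsg.Lie Cfsg.Lie.ChevalleyDatum
open Cfsg.Agent.Lib.Helper23Grp Cfsg.Agent.Lib.Helper23RG Cfsg.Agent.Lib.Helper23RG.RG
  Cfsg.Agent.Lib.Helper23Table Cfsg.Agent.Lib.Helper23Chev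
  Cfsg.Agent.Lib.Helper22ChevBasic Cfsg.Agent.Lib.Helper22ChevU Cfsg.Agent.Lib.Helper22ChevPar
  Cfsg.Agent.Lib.H46GCRel Cfsg.Agent.Lib.H46GCL

variable {F : Type*} [Field F] [CharP F 2]

/-- `v = X 7 c7 * (X 8 c8 * y)`, `y ∈ Uk 9` (`mem_Uk_split` twice), `y = X 9 _ * X 10 _ * X 11 _` (`split9`) commutes with `X 9 χ` (`C0`, `X_add`).  `X 8 c8 * X 9 χ * (X 8 c8)⁻¹ = X 9 χ * X 11 (c8*χ)` (`R89`),
`X 7 c7 * (X 9 χ * X 11 e) * (X 7 c7)⁻¹ = X 9 χ * X 10 (c7*χ) * X 11 e` (`R79`, `C0`).  So `X 9 (χ + 1) * X 10 (c7*χ) * X 11 (c8*χ) = 1`: `c9_zero` gives `χ = 1`, then `X 10 c7 * X 11 c8 = 1` gives `c7 = 0`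
(`eq_zero_of_mem_Uk`) and `c8 = 0` (`X_inj`). -/
theorem vcent (v : GL chevG2.Idx F) (hv : v ∈ Uk (F := F) hD 7) (χ : F) (h : v * X 9 χ * v⁻¹ = X 9 1) :
    χ = 1 ∧ v ∈ Uk (F := F) hD 9 := by
  have hn : chevG2.nroots = 12 := by decide
  obtain ⟨c7, u1, hu1, rfl⟩ := mem_Uk_split hD (k := 7) (by rw [hn]; norm_num) hv
  obtain ⟨c8, y, hy, rfl⟩ := mem_Uk_split hD (k := 8) (by rw [hn]; norm_num) hu1
  obtain ⟨a, b, c, rfl⟩ := H46GCSplit.split9 y hy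
  have hy9 : (X 9 a * X 10 b * X 11 c) * X 9 χ * (X 9 a * X 10 b * X 11 c)⁻¹ = X 9 χ := by
    rw [mul_inv_eq_iff_eq_mul]
    calc X 9 a * X 10 b * X 11 c * X 9 χ = X 9 a * X 10 b * (X 11 c * X 9 χ) := by group
      _ = X 9 a * X 10 b * (X 9 χ * X 11 c) := by rw [C0 (r := 11) (s := 9) (by simp)]
      _ = X 9 a * (X 10 b * X 9 χ) * X 11 c := by group
      _ = X 9 a * (X 9 χ * X 10 b) * X 11 c := by rw [C0 (r := 10) (s := 9) (by simp)]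
      _ = (X 9 a * X 9 χ) * X 10 b * X 11 c := by group
      _ = (X 9 χ * X 9 a) * X 10 b * X 11 c := by rw [X_add, X_add, add_comm]
      _ = X 9 χ * (X 9 a * X 10 b * X 11 c) := by group
  have h8 : X 8 c8 * X 9 χ * (X 8 c8)⁻¹ = X 9 χ * X 11 (c8 * χ) := by
    rw [mul_inv_eq_iff_eq_mul, R89]
  have h7 : X 7 c7 * (X 9 χ * X 11 (c8 * χ)) * (X 7 c7)⁻¹ = X 9 χ * X 10 (c7 * χ) * X 11 (c8 * χ) := by
    rw [mul_inv_eq_iff_eq_mul]
    calc X 7 c7 * (X 9 χ * X 11 (c8 * χ)) = (X 7 c7 * X 9 χ) * X 11 (c8 * χ) := by group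
      _ = X 9 χ * X 10 (c7 * χ) * (X 7 c7 * X 11 (c8 * χ)) := by rw [R79]; group
      _ = X 9 χ * X 10 (c7 * χ) * (X 11 (c8 * χ) * X 7 c7) := by rw [C0 (r := 7) (s := 11) (by simp)]
      _ = X 9 χ * X 10 (c7 * χ) * X 11 (c8 * χ) * X 7 c7 := by group
  have key : X 9 χ * X 10 (c7 * χ) * X 11 (c8 * χ) = X 9 1 := by
    rw [← h, ← h7, ← h8]
    conv_lhs => rw [← hy9]
    group
  have key2 : X 9 (1 + χ) * X 10 (c7 * χ) * X 11 (c8 * χ) = 1 := by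
    rw [← X_add, mul_assoc, mul_assoc, ← mul_assoc (X 9 χ), key, X_sq]
  have hχ : χ = 1 := by
    have h0 : 1 + χ = 0 := H46GCSplit.c9_zero (c10 := c7 * χ) (c11 := c8 * χ) (by rw [key2]; exact one_mem _)
    have : χ = -1 := by linear_combination h0
    rw [this, neg_eq']
  subst hχ
  rw [add_self', X_zero, one_mul, mul_one, mul_one] at key2
  have hc7 : c7 = 0 := by
    apply eq_zero_of_mem_Uk hD (k := 10) (by rw [hn]; norm_num) (by rw [hn]; norm_num)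
    have : X 10 c7 = (X 11 c8)⁻¹ := eq_inv_of_mul_eq_one_left key2
    show X 10 c7 ∈ _
    rw [this]
    exact inv_mem (xG_mem_Uk hD (by norm_num) _)
  subst hc7
  rw [X_zero, one_mul] at key2
  have hc8 : c8 = 0 := X_inj (by norm_num) key2
  subst hc8
  refine ⟨rfl, ?_⟩
  rw [xG_zero, xG_zero, one_mul, one_mul]
  exact hy

end Cfsg.Agent.Lib.H46GCVCent
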