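import Cfsg.Agent.Lib.H46WCDefs

set_option autoImplicit false
set_option linter.unusedSectionVars false
set_option linter.unusedVariables false

namespace Cfsg.Agent.Lib.H46WCCX

open Subgroup Cfsg.Lie Cfsg.Lie.ChevalleyDatum
open Cfsg.Agent.Lib.Helper23Grp Cfsg.Agent.Lib.Helper23RG Cfsg.Agent.Lib.Helper23RG.RG
  Cfsg.Agent.Lib.Helper23Table Cfsg.Agent.Lib.Helper23Chev Cfsg.Agent.Lib.Helper22ChevRC
  Cfsg.Agent.Lib.Helper22ChevBasic Cfsg.Agent.Lib.Helper22ChevU Cfsg.Agent.Lib.Helper22ChevPar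
  Cfsg.Agent.Lib.H46WCDefs

variable {F : Type*} [Field F] {D : ChevalleyDatum}

/-- The right hand side of the commutator formula lies in `X` as soon as one of the two root subgroups does.
`conj_eq hD` (`Helper22ChevPar`): `xG z c * xG y b * (xG z c)⁻¹ = xG y b * wordG (commWord z y (-c) b)`; take `c = -t`.  So `wordG … = (xG y u)⁻¹ * (xG z (-t) * xG y u * (xG z (-t))⁻¹)`.
If `X_y ≤ X`: both factors are in `X` (`hX` with `xG z (-t) ∈ U ≤ B`).  If `X_z ≤ X`: rewrite as `((xG y u)⁻¹ * xG z (-t) * xG y u) * (xG z (-t))⁻¹`.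
`y ≠ D.neg z` because `D.neg z` is negative (`hT.neg_…` / `(rg_ok hT hR).pos_neg`). -/
theorem comm_mem (hD : Std D) (X : Subgroup (GL D.Idx F)) (hX : NB X) {z y : ℕ} (hz : D.nroots / 2 ≤ z) (hz' : z < D.nroots)
    (hy : D.nroots / 2 ≤ y) (hy' : y < D.nroots) (hzy : z ≠ y)
    (h : (∀ t : F, xG hD z t ∈ X) ∨ (∀ t : F, xG hD y t ∈ X)) (t u : F) :
    wordG hD (D.commWord F z y t u) ∈ X := by
  have hP := Cfsg.Agent.Lib.Helper22ChevTabs.posFacts hD
  have hneg : y ≠ D.neg z := by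
    rw [hP.neg_eq z hz']
    have := hP.even
    omega
  have hzB : ∀ c : F, xG hD z c ∈ D.borelSubgroup F := fun c =>
    Subgroup.mem_sup_left (xG_mem_posUnipotent hD ((hP.pos_iff z).mpr ⟨hz, hz'⟩) c)
  have hyB : ∀ c : F, xG hD y c ∈ D.borelSubgroup F := fun c =>
    Subgroup.mem_sup_left (xG_mem_posUnipotent hD ((hP.pos_iff y).mpr ⟨hy, hy'⟩) c)
  have e := conj_eq hD hz' hy' hzy.symm hneg (-t) u
  rw [neg_neg] at e
  have e2 : wordG hD (D.commWord F z y t u) =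
      (xG hD y u)⁻¹ * (xG hD z (-t) * xG hD y u * (xG hD z (-t))⁻¹) := by
    rw [e]; group
  rw [e2]
  rcases h with h | h
  · have e3 : (xG hD y u)⁻¹ * (xG hD z (-t) * xG hD y u * (xG hD z (-t))⁻¹) =
        ((xG hD y u)⁻¹ * xG hD z (-t) * ((xG hD y u)⁻¹)⁻¹) * (xG hD z (-t))⁻¹ := by group
    rw [e3]
    exact X.mul_mem (hX _ (inv_mem (hyB u)) _ (h _)) (X.inv_mem (h _))
  · exact X.mul_mem (X.inv_mem (h u)) (hX _ (hzB _) _ (h u))

end Cfsg.Agent.Lib.H46WCCX
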