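import Cfsg.Agent.Lib.H46WCUkN
import Cfsg.Agent.Lib.H46WCPow

set_option autoImplicit false
set_option linter.unusedSectionVars false
set_option linter.unusedVariables false

namespace Cfsg.Agent.Lib.H46WCFill

open Subgroup Cfsg.Lie Cfsg.Lie.ChevalleyDatum
open Cfsg.Agent.Lib.Helper23Grp Cfsg.Agent.Lib.Helper23RG Cfsg.Agent.Lib.Helper23RG.RG
  Cfsg.Agent.Lib.Helper23Table Cfsg.Agent.Lib.Helper23Chev Cfsg.Agent.Lib.Helper22ChevRC
  Cfsg.Agent.Lib.Helper22ChevBasic Cfsg.Agent.Lib.Helper22ChevU Cfsg.Agent.Lib.Helper22ChevPar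
  Cfsg.Agent.Lib.H46WCDefs

variable {F : Type*} [Field F] [Fintype F] {D : ChevalleyDatum}

theorem cartan_self (hD : Std D) : ∀ i < D.rank, D.cartan i (D.simple i) = 2 := by
  have hD' := hD
  simp only [List.mem_cons, List.mem_nil_iff, or_false] at hD'
  rcases hD' with rfl | rfl | rfl | rfl | rfl | rfl | rfl <;> decide +kernel

theorem fill (hD : Std D) (X : Subgroup (GL D.Idx F)) (hX : NB X) (i : Fin D.rank) {k1 : ℕ} (hk1 : D.simple i < k1)
    {a0 : F} (ha0 : a0 ≠ 0) (h : ∃ y ∈ Uk (F := F) hD k1, xG hD (D.simple i) a0 * y ∈ X) (a : F) :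
    ∃ y ∈ Uk (F := F) hD k1, xG hD (D.simple i) a * y ∈ X := by
  have hT := Cfsg.Agent.Lib.Helper23Tab.tableOK_of_mem hD
  have hR : Rel D F := Cfsg.Agent.Lib.Helper22ChevRel.rel_of_mem hD
  have ok := rg_ok hT hR
  have hpos : D.nroots / 2 ≤ D.simple i := hT.simple_pos i i.2
  have hk : D.nroots / 2 ≤ k1 := by omega
  have hxB : ∀ b : F, xG hD (D.simple i) b ∈ D.borelSubgroup F := by
    intro b
    refine mem_sup_left ?_
    rw [posUnipotent_eq_Uk hD]
    exact xG_mem_Uk hD hpos _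
  let T : AddSubgroup F :=
    { carrier := {a | ∃ y ∈ Uk (F := F) hD k1, xG hD (D.simple i) a * y ∈ X}
      zero_mem' := ⟨1, one_mem _, by simp⟩
      add_mem' := by
        rintro a b ⟨y, hy, hay⟩ ⟨y', hy', hby⟩
        refine ⟨(xG hD (D.simple i) b)⁻¹ * y * xG hD (D.simple i) b * y', mul_mem ?_ hy', ?_⟩
        · have := H46WCUkN.Uk_conj hD hk _ (inv_mem (hxB b)) y hy
          rwa [inv_inv] at this
        · have e : xG hD (D.simple i) (a + b) * ((xG hD (D.simple i) b)⁻¹ * y * xG hD (D.simple i) b * y') =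
              (xG hD (D.simple i) a * y) * (xG hD (D.simple i) b * y') := by
            rw [← xG_add]; group
          rw [e]
          exact mul_mem hay hby
      neg_mem' := by
        rintro a ⟨y, hy, hay⟩
        refine ⟨xG hD (D.simple i) a * y⁻¹ * (xG hD (D.simple i) a)⁻¹,
          H46WCUkN.Uk_conj hD hk _ (hxB a) _ (inv_mem hy), ?_⟩
        have e : xG hD (D.simple i) (-a) * (xG hD (D.simple i) a * y⁻¹ * (xG hD (D.simple i) a)⁻¹) =
            (xG hD (D.simple i) a * y)⁻¹ := by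
          rw [← xG_inv]; group
        rw [e]
        exact inv_mem hay }
  have hsq : ∀ c t : F, t ∈ T → c ^ 2 * t ∈ T := by
    rintro c t ⟨y, hy, hty⟩
    by_cases hc : c = 0
    · subst hc
      have : (0 : F) ^ 2 * t = 0 := by ring
      rw [this]
      exact T.zero_mem
    · have hh : (rg hT hR).hE ((rg hT hR).simple i) c ∈ D.borelSubgroup F := by
        refine mem_sup_right ?_
        rw [← H_eq hT hR]
        exact hE_mem_H _ hc
      have h1 := ok.h_conj i ((rg hT hR).simple i) c t hc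
      have hA : (rg hT hR).A i ((rg hT hR).simple i) = 2 := cartan_self hD i i.2
      rw [hA] at h1
      have e1 : ∀ s : F, (rg hT hR).x ((rg hT hR).simple i) s = xG hD (D.simple i) s := fun s => xg_eq_xG hR hD _ s
      rw [e1, e1] at h1
      set g := (rg hT hR).hE ((rg hT hR).simple i) c with hg
      refine ⟨g * y * g⁻¹, H46WCUkN.Uk_conj hD hk _ hh y hy, ?_⟩
      have e : xG hD (D.simple i) (c ^ 2 * t) * (g * y * g⁻¹) = g * (xG hD (D.simple i) t * y) * g⁻¹ := by
        have : c ^ (2 : ℤ) = c ^ 2 := by norm_cast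
        rw [this] at h1
        rw [← h1]; group
      rw [e]
      exact hX _ hh _ hty
  exact H46WCPow.fillF T hsq (t0 := a0) h ha0 a

end Cfsg.Agent.Lib.H46WCFill
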