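import Cfsg.Agent.Lib.H46WCIsoT
import Cfsg.Agent.Lib.H46WCCX

set_option autoImplicit false
set_option linter.unusedSectionVars false
set_option linter.unusedVariables false

namespace Cfsg.Agent.Lib.H46WCG2A

open Subgroup Cfsg.Lie Cfsg.Lie.ChevalleyDatum
open Cfsg.Agent.Lib.Helper23Grp Cfsg.Agent.Lib.Helper23RG Cfsg.Agent.Lib.Helper23RG.RG
  Cfsg.Agent.Lib.Helper23Table Cfsg.Agent.Lib.Helper23Chev Cfsg.Agent.Lib.Helper22ChevRC
  Cfsg.Agent.Lib.Helper22ChevBasic Cfsg.Agent.Lib.Helper22ChevU Cfsg.Agent.Lib.Helper22ChevPar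
  Cfsg.Agent.Lib.H46WCDefs

variable {F : Type*} [Field F] [Fintype F]

/-- isolation down to the root element (tail `Uk 12 = ⊥`). -/
theorem iso_full (hD : Std chevG2) (X : Subgroup (GL chevG2.Idx F)) (hX : NB X) {k0 : ℕ}
    (hk0 : 8 ≤ k0) (hk0' : k0 < 12)
    (hsep : ∀ k, k0 < k → k < 12 → SepH hD F k0 k) :
    ∃ κ : F, κ ≠ 0 ∧ ∀ a : F, ∀ y ∈ Uk (F := F) hD (k0 + 1), xG hD k0 a * y ∈ X →
      xG hD k0 (κ * a) ∈ X := by
  have hn : chevG2.nroots = 12 := by decide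
  obtain ⟨κ, hκ, H⟩ := H46WCIsoT.isoT hD X hX (k0 := k0) (by rw [hn]; omega) 12 hk0' (by rw [hn])
    hsep
  refine ⟨κ, hκ, fun a y hy h => ?_⟩
  obtain ⟨y', hy', h'⟩ := H a y hy h
  rw [Uk_eq_bot hD (by rw [hn]), Subgroup.mem_bot] at hy'
  rwa [hy', mul_one] at h'

/-- `G₂`: indices `6 = b` (long), `7 = a` (short), `8 = a+b`, `9 = 2a+b`, `10 = 3a+b`, `11 = 3a+2b`; `chevG2.nroots = 12`. -/
theorem g2A (hD : Std chevG2) (X : Subgroup (GL chevG2.Idx F)) (hX : NB X)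
    (hsep : ∀ k0 k, 8 ≤ k0 → k0 < k → k < 12 → ¬ (k0 = 10 ∧ k = 11) → SepH hD F k0 k)
    (h1011 : (3 : F) = 0 → SepH hD F 10 11)
    (hc : ∀ t u : F, wordG hD (chevG2.commWord F 7 6 t u) ∈ X) :
    ∀ r, 8 ≤ r → r < 12 → ∀ s : F, xG hD r s ∈ X := by
  have hn : chevG2.nroots = 12 := by decide
  have hct : chevG2.commTerms 7 6 = [(8,-1,1,1),(9,1,2,1),(10,1,3,1),(11,1,3,2)] := by
    decide +kernel
  have hc' : ∀ t u : F, xG hD 8 (t*u) * (xG hD 9 (t^2*u) * (xG hD 10 (-(t^3*u)) *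
      xG hD 11 (-(t^3*u^2)))) ∈ X := by
    intro t u
    have h := hc t u
    simp only [commWord, hct, List.map, wordG_cons, wordG_nil, mul_one] at h
    have e1 : ((-1 : ℤ) : F) * (-t) ^ 1 * u ^ 1 = t * u := by push_cast; ring
    have e2 : ((1 : ℤ) : F) * (-t) ^ 2 * u ^ 1 = t ^ 2 * u := by push_cast; ring
    have e3 : ((1 : ℤ) : F) * (-t) ^ 3 * u ^ 1 = -(t ^ 3 * u) := by push_cast; ring
    have e4 : ((1 : ℤ) : F) * (-t) ^ 3 * u ^ 2 = -(t ^ 3 * u ^ 2) := by push_cast; ring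
    rw [e1, e2, e3, e4] at h
    exact h
  -- step 1
  have h8 : ∀ s : F, xG hD 8 s ∈ X := by
    obtain ⟨κ, hκ, H⟩ := iso_full hD X hX (k0 := 8) le_rfl (by norm_num)
      (fun k h1 h2 => hsep 8 k le_rfl h1 h2 (by omega))
    intro s
    have h := H (κ⁻¹ * s * 1) _ ?_ (hc' (κ⁻¹ * s) 1)
    · rwa [mul_one, ← mul_assoc, mul_inv_cancel₀ hκ, one_mul] at h
    · exact mul_mem (xG_mem_Uk hD (by norm_num) _) (mul_mem (xG_mem_Uk hD (by norm_num) _)
        (xG_mem_Uk hD (by norm_num) _))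
  have hc2 : ∀ t u : F, xG hD 9 (t^2*u) * (xG hD 10 (-(t^3*u)) * xG hD 11 (-(t^3*u^2))) ∈ X := by
    intro t u
    have h := X.mul_mem (X.inv_mem (h8 (t*u))) (hc' t u)
    rwa [inv_mul_cancel_left] at h
  have h9 : ∀ s : F, xG hD 9 s ∈ X := by
    obtain ⟨κ, hκ, H⟩ := iso_full hD X hX (k0 := 9) (by norm_num) (by norm_num)
      (fun k h1 h2 => hsep 9 k (by norm_num) h1 h2 (by omega))
    intro s
    have h := H (1 ^ 2 * (κ⁻¹ * s)) _ ?_ (hc2 1 (κ⁻¹ * s))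
    · rwa [one_pow, one_mul, ← mul_assoc, mul_inv_cancel₀ hκ, one_mul] at h
    · exact mul_mem (xG_mem_Uk hD (by norm_num) _) (xG_mem_Uk hD (by norm_num) _)
  have hc3 : ∀ t u : F, xG hD 10 (-(t^3*u)) * xG hD 11 (-(t^3*u^2)) ∈ X := by
    intro t u
    have h := X.mul_mem (X.inv_mem (h9 (t^2*u))) (hc2 t u)
    rwa [inv_mul_cancel_left] at h
  have h1011' : (∀ s : F, xG hD 10 s ∈ X) ∧ (∀ s : F, xG hD 11 s ∈ X) := by
    by_cases h3 : (3 : F) = 0
    · have h10 : ∀ s : F, xG hD 10 s ∈ X := by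
        obtain ⟨κ, hκ, H⟩ := iso_full hD X hX (k0 := 10) (by norm_num) (by norm_num)
          (fun k h1 h2 => by
            have : k = 11 := by omega
            subst this
            exact h1011 h3)
        intro s
        have h := H (-(1 ^ 3 * (-(κ⁻¹ * s)))) _ ?_ (hc3 1 (-(κ⁻¹ * s)))
        · have e : κ * -(1 ^ 3 * -(κ⁻¹ * s)) = s := by field_simp
          rwa [e] at h
        · exact xG_mem_Uk hD (by norm_num) _
      refine ⟨h10, fun w => ?_⟩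
      by_cases hw : w = 0
      · subst hw; rw [xG_zero]; exact one_mem _
      have h := X.mul_mem (X.inv_mem (h10 (-((-w)^3*w⁻¹)))) (hc3 (-w) w⁻¹)
      rw [inv_mul_cancel_left] at h
      have e : -((-w) ^ 3 * w⁻¹ ^ 2) = w := by field_simp
      rwa [e] at h
    · have hct2 : chevG2.commTerms 8 9 = [(11,3,1,1)] := by decide +kernel
      have h11 : ∀ s : F, xG hD 11 s ∈ X := by
        intro s
        have h := H46WCCX.comm_mem hD X hX (z := 8) (y := 9) (by rw [hn]; norm_num) (by rw [hn]; norm_num)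
          (by rw [hn]; norm_num) (by rw [hn]; norm_num) (by norm_num) (Or.inl h8) (-(3⁻¹ * s)) 1
        simp only [commWord, hct2, List.map, wordG_cons, wordG_nil, mul_one] at h
        have e : ((3 : ℤ) : F) * (- -(3⁻¹ * s)) ^ 1 * 1 ^ 1 = s := by
          push_cast; field_simp
        rwa [e] at h
      refine ⟨fun s => ?_, h11⟩
      have h := X.mul_mem (hc3 1 (-s)) (X.inv_mem (h11 (-(1^3*(-s)^2))))
      rw [mul_inv_cancel_right] at h
      have e : -(1 ^ 3 * -s) = s := by ring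
      rwa [e] at h
  intro r hr1 hr2 s
  have : r = 8 ∨ r = 9 ∨ r = 10 ∨ r = 11 := by omega
  rcases this with rfl | rfl | rfl | rfl
  · exact h8 s
  · exact h9 s
  · exact h1011'.1 s
  · exact h1011'.2 s

end Cfsg.Agent.Lib.H46WCG2A
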