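import Cfsg.Agent.Lib.H46WCDefs
import Cfsg.Agent.Lib.H46WCCT

set_option autoImplicit false
set_option linter.unusedSectionVars false
set_option linter.unusedVariables false

namespace Cfsg.Agent.Lib.H46WCG2B

open Subgroup Cfsg.Lie Cfsg.Lie.ChevalleyDatum
open Cfsg.Agent.Lib.Helper23Grp Cfsg.Agent.Lib.Helper23RG Cfsg.Agent.Lib.Helper23RG.RG
  Cfsg.Agent.Lib.Helper23Table Cfsg.Agent.Lib.Helper23Chev Cfsg.Agent.Lib.Helper22ChevRC
  Cfsg.Agent.Lib.Helper22ChevBasic Cfsg.Agent.Lib.Helper22ChevU Cfsg.Agent.Lib.Helper22ChevPar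
  Cfsg.Agent.Lib.H46WCDefs

variable {F : Type*} [Field F]

theorem tabs : ∀ r < 12, ∀ j < 12, 7 ≤ r → 10 ≤ j → chevG2.commTerms r j = [] ∧ j ≠ chevG2.neg r := by decide +kernel

theorem comm_gen (hD : Std chevG2) {r j : ℕ} (hr : 7 ≤ r) (hj : 10 ≤ j) (c b : F) :
    xG hD r c * xG hD j b = xG hD j b * xG hD r c := by
  have hn : chevG2.nroots = 12 := rfl
  by_cases hr12 : r < 12
  · by_cases hj12 : j < 12
    · by_cases hjr : j = r
      · subst hjr
        rw [xG_add, xG_add, add_comm]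
      · obtain ⟨h1, h2⟩ := tabs r hr12 j hj12 hr hj
        have := conj_eq (F := F) hD (r := r) (s := j) (by rw [hn]; exact hr12) (by rw [hn]; exact hj12) hjr h2 c b
        unfold ChevalleyDatum.commWord at this
        rw [h1] at this
        simp only [List.map_nil, wordG_nil, mul_one] at this
        exact mul_inv_eq_iff_eq_mul.1 this
    · rw [xG_eq_one hD (r := j) (by rw [hn]; exact hj12)]
      simp
  · rw [xG_eq_one hD (r := r) (by rw [hn]; exact hr12)]
    simp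

theorem comm_Uk (hD : Std chevG2) : ∀ y ∈ Uk (F := F) hD 10, ∀ v ∈ Uk (F := F) hD 7, v * y = y * v := by
  have h : Uk (F := F) hD 10 ≤ centralizer (Uk (F := F) hD 7 : Set (GL chevG2.Idx F)) := by
    conv_lhs => unfold Uk
    rw [closure_le]
    rintro g ⟨j, b, hj, rfl⟩
    rw [SetLike.mem_coe, mem_centralizer_iff]
    intro v hv
    have h2 : Uk (F := F) hD 7 ≤ centralizer ({xG hD j b} : Set (GL chevG2.Idx F)) := by
      unfold Uk
      rw [closure_le]
      rintro g ⟨r, c, hr, rfl⟩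
      rw [SetLike.mem_coe, mem_centralizer_singleton_iff]
      exact comm_gen hD hr hj c b
    have := h2 hv
    rw [mem_centralizer_singleton_iff] at this
    exact this
  intro y hy v hv
  exact (mem_centralizer_iff.1 (h hy)) v hv

theorem g2B (hD : Std chevG2) (X : Subgroup (GL chevG2.Idx F)) (hX : NB X)
    (h6 : ∀ u : F, ∃ y ∈ Uk (F := F) hD 10, xG hD 6 u * y ∈ X) :
    ∀ t u : F, wordG hD (chevG2.commWord F 7 6 t u) ∈ X := by
  intro t u
  have hn : chevG2.nroots = 12 := rfl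
  obtain ⟨y, hy, hxy⟩ := h6 u
  have hb : xG hD 7 (-t) ∈ chevG2.borelSubgroup F := by
    refine mem_sup_left ?_
    rw [posUnipotent_eq_Uk hD]
    exact xG_mem_Uk hD (by rw [hn]; norm_num) _
  have h1 := hX _ hb _ hxy
  have h2 := conj_eq (F := F) hD (r := 7) (s := 6) (by rw [hn]; norm_num) (by rw [hn]; norm_num) (by norm_num)
    (by decide +kernel) (-t) u
  rw [neg_neg] at h2
  set w := wordG hD (chevG2.commWord F 7 6 t u) with hw
  have hwU : w ∈ Uk (F := F) hD 7 := by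
    refine wordG_mem_Uk hD _ ?_
    intro p hp
    unfold ChevalleyDatum.commWord at hp
    rw [List.mem_map] at hp
    obtain ⟨c, hc, rfl⟩ := hp
    have := (H46WCCT.commTerms_gt2 (ordFacts hD) (r := 7) (s := 6) (by rw [hn]; norm_num) (by rw [hn]) c hc).1
    show 7 ≤ c.1
    omega
  have c1 : xG hD 7 (-t) * y = y * xG hD 7 (-t) := comm_Uk hD y hy _ (xG_mem_Uk hD le_rfl _)
  have c2 : w * y = y * w := comm_Uk hD y hy w hwU
  have e : (xG hD 6 u * y)⁻¹ * (xG hD 7 (-t) * (xG hD 6 u * y) * (xG hD 7 (-t))⁻¹) = w := by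
    have e1 : xG hD 7 (-t) * (xG hD 6 u * y) * (xG hD 7 (-t))⁻¹ =
        (xG hD 7 (-t) * xG hD 6 u * (xG hD 7 (-t))⁻¹) * (xG hD 7 (-t) * y * (xG hD 7 (-t))⁻¹) := by group
    rw [e1, h2, c1, mul_inv_cancel_right, mul_assoc (xG hD 6 u), c2]
    group
  rw [← e]
  exact mul_mem (inv_mem hxy) h1

end Cfsg.Agent.Lib.H46WCG2B
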