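import Cfsg.Agent.Lib.H46WCDefs

set_option autoImplicit false
set_option maxRecDepth 1000000

/-! Table facts `SepTab` of project WC (kernel checks with explicit witnesses). -/

namespace Cfsg.Agent.Lib.H46WCSep

open Cfsg.Lie Cfsg.Lie.ChevalleyDatum Cfsg.Agent.Lib.H46WCDefs

/-- the cocharacter stored at position `(i, k)` of the table -/
def ev (W : List (List (List ℤ))) (i k : ℕ) (j : ℕ) : ℤ := ((W.getD i []).getD k []).getD j 0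

def Chk (D : ChevalleyDatum) (b : ℕ) (W : List (List (List ℤ))) : Prop :=
  ∀ i < D.rank, ∀ k < D.nroots, k < D.nroots / 2 ∨ k = D.simple i ∨
    (pairE D (ev W i (k - D.nroots / 2)) k = 0 ∧ pairE D (ev W i (k - D.nroots / 2)) (D.simple i) ≠ 0 ∧
      (pairE D (ev W i (k - D.nroots / 2)) (D.simple i)).natAbs ≤ b)

instance (D : ChevalleyDatum) (b : ℕ) (W : List (List (List ℤ))) : Decidable (Chk D b W) := by unfold Chk; infer_instance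

theorem sepTab_of {D : ChevalleyDatum} {b : ℕ} {W : List (List (List ℤ))} (h : Chk D b W) : SepTab D b := by
  intro i hi k h1 h2 h3
  rcases h i hi k h2 with h | h | ⟨a1, a2, a3⟩
  · omega
  · exact absurd h h3
  · exact ⟨_, a2, a3, _, a1, rfl⟩

/-- all ordered pairs of positive roots of `G₂` -/
def ChkG (W : List (List (List ℤ))) : Prop :=
  ∀ k0 < 12, ∀ k < 12, k0 < 6 ∨ k < 6 ∨ k0 = k ∨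
    (pairE chevG2 (ev W (k0 - 6) (k - 6)) k = 0 ∧ pairE chevG2 (ev W (k0 - 6) (k - 6)) k0 ≠ 0 ∧
      (pairE chevG2 (ev W (k0 - 6) (k - 6)) k0).natAbs ≤
        (if (k0 = 6 ∨ k0 = 10 ∨ k0 = 11) ∧ (k = 6 ∨ k = 10 ∨ k = 11) then 3 else 2))

instance (W : List (List (List ℤ))) : Decidable (ChkG W) := by unfold ChkG; infer_instance

theorem sepB2 : SepTab chevB2 2 :=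
  sepTab_of (W := [[[1, 1], [], [1], [0, 1]],
    [[], [1, 2], [1], [0, 1]]]) (by decide +kernel)

theorem sepD4 : SepTab chevD4 2 :=
  sepTab_of (W := [[[1], [1], [0, 1, 2], [1, 1], [1, 1], [0, 1], [], [0, 1, 1], [0, 1], [0, 1], [1, 1], [1]],
    [[1], [1], [], [1, 1], [1, 1], [0, 1], [0, 0, 1], [0, 1, 1], [0, 1], [0, 1], [1, 1], [1]],
    [[0, 0, 1], [], [2, 1], [1, 1], [1, 1], [0, 1], [0, 0, 1], [1, -1], [0, 1], [0, 1], [1, 1], [0, 0, 1]],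
    [[], [0, 0, 0, 1], [2, 1], [1, 1], [1, 1], [0, 1], [0, 0, 0, 1], [1, -1], [0, 1], [0, 1], [1, 1], [0, 0, 0, 1]]]) (by decide +kernel)

theorem sepF4 : SepTab chevF4 2 :=
  sepTab_of (W := [[[0, 1], [0, 1, 1], [0, 1, 2], [0, 1, 2], [0, 1], [0, 1], [1, 1], [1, 1], [0, 1], [], [0, 1, 1], [1, 1], [1, 1], [0, 1, 0, 1], [0, 1, 1], [0, 1, 1], [1, 1], [0, 1], [0, 1], [1, 1], [0, 1], [0, 1, 2], [0, 1], [0, 1]],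
    [[1], [1], [1], [], [1, 0, 0, -1], [0, 0, 1], [0, 0, 1], [1, 1], [1, 1, 2], [0, 0, 1], [0, 1, 1], [1, 1], [0, 0, 1], [1], [1], [1], [0, 0, 1], [0, 0, 1], [1, 0, 0, -2], [1, 1], [0, 0, 1], [1], [1], [1]],
    [[0, 1, 2, 1], [], [0, 1, 1, 1], [0, 0, 0, 1], [1, 0, 0, -1], [1, 0, 0, 1], [0, 0, 1], [0, 0, 1, 1], [0, 0, 0, 1], [0, 0, 0, 1], [0, 0, 0, 1], [1, 0, 0, 1], [1, 0, 0, -1], [0, 1, 1, 1], [0, 1, 0, -1], [0, 0, 0, 1], [0, 0, 0, 1], [0, 1], [0, 0, 1, 1], [0, 0, 0, 1], [0, 0, 0, 1], [0, 0, 0, 1], [0, 0, 1, 1], [0, 1]],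
    [[], [0, 1, 1], [0, 1, 1, 1], [1, 0, -1], [1, 0, 1], [0, 0, 1], [0, 0, 1], [0, 0, 1, 1], [0, 0, 0, 1], [0, 0, 1], [1, 0, 1], [1, 0, -1], [0, 0, 1], [0, 0, 1], [0, 1, 1], [0, 1, 1], [0, 0, 1], [0, 0, 1], [0, 0, 1, 1], [0, 0, 0, 1], [0, 0, 1], [0, 0, 0, 1], [0, 0, 1, 1], [0, 0, 1]]]) (by decide +kernel)

theorem sepE6 : SepTab chevE6 1 :=
  sepTab_of (W := [[[0, 0, 1], [0, 0, 1], [0, 0, 1], [0, 1, -1], [0, 1, -1], [0, 1, -1], [0, 0, 1, 2], [1, 0, 1], [1, 0, 1], [1, 0, 1], [0, 0, 1], [0, 1, 1], [0, 1, 1], [0, 1, 1], [1, 0, 1], [1, 0, 1], [1, 0, 1], [0, 0, 1], [0, 0, 1], [0, 0, 1], [], [0, 0, 1, 1], [0, 0, 1], [0, 0, 1], [0, 0, 1], [0, 0, 1], [0, 0, 1], [0, 0, 1], [1, 0, 1], [1, 0, 1], [1, 0, 1], [0, 0, 1, 0, 0,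 1], [0, 0, 1, 0, 1], [0, 0, 1, 1], [0, 0, 1], [0, 0, 1]],
    [[0, 0, 0, 1], [0, 0, 0, 1, 0, -1], [0, 0, 0, 1, 1], [0, 0, 2, 1], [0, 1, 0, 1], [0, 1, 0, 1], [1, 0, 0, -1], [1, 0, 0, 1], [0, 0, 0, 1], [0, 0, 0, 1], [], [0, 0, 1, 1], [0, 0, 0, 1], [0, 0, 0, 1], [0, 0, 0, 1], [1, 0, 0, -1], [1, 0, 0, -1], [1, 0, 0, 1], [1, 0, 0, 1], [0, 0, 0, 1], [0, 0, 0, 1], [1, 0, 0, 1], [1, 0, 0, -1], [0, 0, 0, 1], [0, 0, 0, 1], [0, 0, 0, 1], [1, 0, 0, 1], [1, 0, 0, 1], [1, 0, 0, -1], [1, 0, 0, -1], [0, 0, 0, 1], [0, 0, 0, 1], [0, 0, 0, 1], [0, 0, 1, 1], [0, 1, 0, 1], [0, 0, 0, 1]],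
    [[1], [1], [1], [1], [1], [1], [], [1, -1], [0, 0, 0, 1], [0, 0, 0, 1], [1], [1], [1], [1], [0, 0, 0, 1], [1, 1], [1, 1], [1, 0, 0, 0, 0, -1], [1, 0, 0, 0, -1], [0, 0, 0, 1], [0, 0, 0, 1], [0, 0, 1, 1], [1, 1], [0, 0, 0, 1], [0, 0, 0, 1], [0, 0, 0, 1], [1, -1], [1, -1], [1, 0, 1], [1, 0, 1], [0, 0, 0, 1], [1], [1], [1], [1], [1]],
    [[0, 1], [0, 1], [0, 1], [], [0, 1, 0, 1], [0, 0, 0, 0, 1], [0, 1], [1, -1], [1, -1], [0, 0, 0, 0, 1], [0, 0, 1], [0, 0, 1, 1], [0, 1, 0, 0, 0, 1], [0, 0, 0, 0, 1], [1, 1], [1, 1], [0, 0, 0, 0, 1], [0, 1], [0, 1], [0, 1], [0, 1], [0, 1], [0, 0, 1], [0, 0, 1], [0, 0, 1], [0, 0, 1], [0, 0, 1], [0, 0, 1], [0, 1], [0, 1], [0, 1], [0, 1], [0, 1], [0, 1], [0, 0, 1], [0, 0, 1]],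
    [[0, 0, 0, 1], [], [0, 0, 0, 1, 1], [0, 0, 0, 0, 0, 1], [0, 1, 0, 1], [0, 1, 0, 1], [0, 0, 0, 0, 0, 1], [0, 0, 0, 0, 0, 1], [0, 0, 0, 1], [0, 0, 0, 1], [0, 0, 0, 0, 0, 1], [0, 0, 0, 0, 0, 1], [0, 0, 0, 1], [0, 0, 0, 1], [0, 0, 0, 1], [1, 0, 0, -1], [1, 0, 0, -1], [1, 0, 0, 1], [1, 0, 0, 1], [0, 0, 0, 1], [0, 0, 0, 1], [0, 0, 0, 0, 0, 1], [0, 0, 0, 0, 0, 1], [0, 0, 0, 1], [0, 0, 0, 1], [0, 0, 0, 1], [1, 0, 0, 1], [1, 0, 0, 1], [1, 0, 0, -1], [1, 0, 0, -1], [0, 0, 0, 1], [0, 0, 0, 1], [0, 0, 0, 1], [0, 0, 0, 0, 0, 1], [0, 0, 0, 0, 0, 1], [0, 0, 0, 1]],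
    [[], [0, 0, 0, 2, 1], [0, 0, 0, 1, 1], [0, 1, 0, 0, -1], [0, 1, 0, 0, 1], [0, 0, 0, 0, 1], [0, 0, 0, 0, 1], [1, 0, 0, 0, -1], [1, 0, 0, 0, 1], [0, 0, 0, 0, 1], [0, 0, 0, 0, 1], [0, 1, 0, 0, 1], [0, 1, 0, 0, -1], [0, 0, 0, 0, 1], [1, 0, 0, 0, -1], [1, 0, 0, 0, 1], [0, 0, 0, 0, 1], [0, 0, 0, 0, 1], [1, 0, 0, 0, -1], [1, 0, 0, 0, 1], [0, 0, 0, 0, 1], [0, 0, 0, 0, 1], [1, 0, 0, 0, 1], [1, 0, 0, 0, -1], [0, 0, 0, 0, 1], [1, 0, 0, 0, 1], [1, 0, 0, 0, -1], [0, 0, 0, 0, 1], [0, 0, 0, 0, 1], [1, 0, 0, 0, 1], [1, 0, 0, 0, -1], [0, 0, 0, 0, 1], [0, 0, 1, 0, 1], [0, 0, 1, 0, -1], [0, 0, 0, 0, 1], [0, 0, 0, 0, 1]]]) (by decide +kernel)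

theorem sepE7 : SepTab chevE7 1 :=
  sepTab_of (W := [[[0, 0, 1], [0, 0, 1], [0, 0, 1], [0, 0, 1], [0, 0, 1], [0, 0, 1], [0, 1, -1], [0, 1, -1], [0, 1, -1], [0, 1, -1], [0, 0, 1, 2], [1, 0, 1], [1, 0, 1], [1, 0, 1], [1, 0, 1], [0, 0, 1], [0, 1, 1], [0, 1, 1], [0, 1, 1], [0, 1, 1], [1, 0, 1], [1, 0, 1], [1, 0, 1], [1, 0, 1], [0, 0, 1], [0, 0, 1], [0, 0, 1], [0, 0, 1], [0, 0, 1], [0, 0, 1], [], [0, 0, 1, 1], [0, 0, 1], [0, 0, 1], [0, 0, 1], [0, 0, 1], [0, 0, 1], [0, 0, 1], [0, 0, 1], [0, 0, 1], [1, 0, 1], [1, 0, 1], [1, 0, 1], [1, 0, 1], [1, 0, 1], [1, 0, 1], [0, 0, 1, 0, 0, 1], [0, 0, 1, 0, 1], [0, 0, 1, 0, 1], [0, 0, 1, 1], [0, 0, 1, 1], [0, 0, 1, 1], [0, 0, 1], [0, 0, 1], [0, 0, 1], [0, 0, 1], [0, 0, 1], [0, 0,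 1], [0, 0, 1], [0, 0, 1], [0, 0, 1, 1], [1, 0, 1], [0, 0, 1]],
    [[0, 0, 0, 1], [0, 0, 0, 1], [0, 0, 0, 1], [0, 0, 0, 1, 0, -1], [0, 0, 0, 1, 1], [0, 0, 0, 1, 1], [0, 0, 2, 1], [0, 1, 0, 1], [0, 1, 0, 1], [0, 1, 0, 1], [1, 0, 0, -1], [1, 0, 0, 1], [0, 0, 0, 1], [0, 0, 0, 1], [0, 0, 0, 1], [], [0, 0, 1, 1], [0, 0, 0, 1], [0, 0, 0, 1], [0, 0, 0, 1], [0, 0, 0, 1], [1, 0, 0, -1], [1, 0, 0, -1], [1, 0, 0, -1], [1, 0, 0, 1], [1, 0, 0, 1], [1, 0, 0, 1], [0, 0, 0, 1], [0, 0, 0, 1], [0, 0, 0, 1], [0, 0, 0, 1], [1, 0, 0, 1], [1, 0, 0, -1], [0, 0, 0, 1], [0, 0, 0, 1], [0, 0, 0, 1], [0, 0, 0, 1], [1, 0, 0, 1], [1, 0, 0, 1], [1, 0, 0, 1], [1, 0, 0, -1], [1, 0, 0, -1], [1, 0, 0, -1], [0, 0, 0, 1], [0, 0, 0, 1], [0, 0, 0, 1],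 [0, 0, 0, 1], [0, 0, 0, 1], [0, 0, 0, 1], [0, 0, 1, 1], [0, 0, 1, 1], [0, 0, 1, 1], [0, 1, 0, 1], [0, 1, 0, 1], [0, 1, 0, 1], [0, 0, 0, 1], [0, 0, 0, 1], [0, 0, 0, 1], [0, 0, 0, 1], [0, 1, 0, 1], [0, 0, 1, 1], [0, 0, 0, 1], [0, 0, 0, 1]],
    [[1], [1], [1], [1], [1], [1], [1], [1], [1], [1], [], [1, -1], [0, 0, 0, 1], [0, 0, 0, 1], [0, 0, 0, 1], [1], [1], [1], [1], [1], [0, 0, 0, 1], [1, 1], [1, 1], [1, 1], [1, 0, 0, 0, 0, -1], [1, 0, 0, 0, -1], [1, 0, 0, 0, -1], [0, 0, 0, 1], [0, 0, 0, 1], [0, 0, 0, 1], [0, 0, 0, 1], [0, 0, 1, 1], [1, 1], [0, 0, 0, 1], [0, 0, 0, 1], [0, 0, 0, 1], [0, 0, 0, 1], [1, -1], [1, -1], [1, -1], [1, 0, 1], [1, 0, 1], [1, 0, 1], [0, 0, 0, 1], [0, 0, 0, 1], [0, 0, 0, 1], [1], [1], [1], [1],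 [1], [1], [1], [1], [1], [1], [1], [1], [1], [1], [1], [0, 0, 0, 1], [0, 0, 0, 1]],
    [[0, 1], [0, 1], [0, 1], [0, 1], [0, 1], [0, 1], [], [0, 1, 0, 1], [0, 0, 0, 0, 1], [0, 0, 0, 0, 1], [0, 1], [1, -1], [1, -1], [0, 0, 0, 0, 1], [0, 0, 0, 0, 1], [0, 0, 1], [0, 0, 1, 1], [0, 1, 0, 0, 0, 1], [0, 0, 0, 0, 1], [0, 0, 0, 0, 1], [1, 1], [1, 1], [0, 0, 0, 0, 1], [0, 0, 0, 0, 1], [0, 1], [0, 1], [0, 1], [0, 1], [0, 1], [0, 1], [0, 1], [0, 1], [0, 0, 1], [0, 0, 1], [0, 0, 1], [0, 0, 1], [0, 0, 1], [0, 0, 1], [0, 0, 1], [0, 0, 1], [0, 1], [0, 1], [0, 1], [0, 1], [0, 1], [0, 1], [0, 1], [0, 1], [0, 1], [0, 1], [0, 1], [0, 1], [0, 0, 1], [0, 0, 1], [0, 0, 1], [0, 0, 1], [0, 0, 1], [0, 0, 1], [0, 0, 1], [0, 0, 1], [0, 1],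 [0, 1], [0, 1]],
    [[0, 0, 0, 1], [0, 0, 0, 1], [0, 0, 0, 1], [], [0, 0, 0, 1, 1], [0, 0, 0, 0, 0, 1], [0, 0, 0, 0, 0, 1], [0, 1, 0, 1], [0, 1, 0, 1], [0, 0, 0, 0, 0, 1], [0, 0, 0, 0, 0, 1], [0, 0, 0, 0, 0, 1], [0, 0, 0, 1], [0, 0, 0, 1], [0, 0, 0, 1], [0, 0, 0, 0, 0, 1], [0, 0, 0, 0, 0, 1], [0, 0, 0, 1], [0, 0, 0, 1], [0, 0, 0, 1], [0, 0, 0, 1], [1, 0, 0, -1], [1, 0, 0, -1], [0, 0, 0, 0, 0, 1], [1, 0, 0, 1], [1, 0, 0, 1], [0, 0, 0, 0, 0, 1], [0, 0, 0, 1], [0, 0, 0, 1], [0, 0, 0, 1], [0, 0, 0, 1], [0, 0, 0, 0, 0, 1], [0, 0, 0, 0, 0, 1], [0, 0, 0, 1], [0, 0, 0, 1], [0, 0, 0, 1], [0, 0, 0, 1], [1, 0, 0, 1], [1, 0, 0, 1], [0, 0, 0, 0, 0, 1], [1, 0, 0, -1], [1, 0, 0, -1], [0, 0, 0, 0, 0, 1], [0, 0, 0, 1], [0, 0, 0,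 1], [0, 0, 0, 1], [0, 0, 0, 1], [0, 0, 0, 1], [0, 0, 0, 1], [0, 0, 0, 0, 0, 1], [0, 0, 1, 1], [0, 0, 1, 1], [0, 0, 0, 0, 0, 1], [0, 1, 0, 1], [0, 1, 0, 1], [0, 0, 0, 1], [0, 0, 0, 1], [0, 0, 0, 1], [0, 0, 0, 1], [0, 0, 0, 0, 0, 1], [0, 0, 0, 0, 0, 1], [0, 0, 0, 1], [0, 0, 0, 1]],
    [[0, 0, 0, 0, 1], [], [0, 0, 0, 0, 1, 1], [0, 0, 0, 0, 0, 0, 1], [0, 0, 0, 1, 1], [0, 0, 0, 1, 1], [0, 0, 0, 0, 0, 0, 1], [0, 0, 0, 0, 0, 0, 1], [0, 0, 0, 0, 1], [0, 0, 0, 0, 1], [0, 0, 0, 0, 1], [0, 0, 0, 0, 0, 0, 1], [0, 0, 0, 0, 0, 0, 1], [0, 0, 0, 0, 1], [0, 0, 0, 0, 1], [0, 0, 0, 0, 1], [0, 0, 0, 0, 0, 0, 1], [0, 0, 0, 0, 0, 0, 1], [0, 0, 0, 0, 1], [0, 0, 0, 0, 1], [0, 0, 0, 0, 0, 0, 1], [0, 0, 0, 0, 0, 0, 1], [0, 0, 0, 0, 1],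 [0, 0, 0, 0, 1], [0, 0, 0, 0, 1], [1, 0, 0, 0, -1], [1, 0, 0, 0, -1], [1, 0, 0, 0, 1], [1, 0, 0, 0, 1], [0, 0, 0, 0, 1], [0, 0, 0, 0, 1], [0, 0, 0, 0, 1], [0, 0, 0, 0, 0, 0, 1], [0, 0, 0, 0, 0, 0, 1], [0, 0, 0, 0, 1], [0, 0, 0, 0, 1], [0, 0, 0, 0, 0, 0, 1], [0, 0, 0, 0, 0, 0, 1], [0, 0, 0, 0, 1], [0, 0, 0, 0, 1], [0, 0, 0, 0, 1], [1, 0, 0, 0, 1], [1, 0, 0, 0, 1], [1, 0, 0, 0, -1], [1, 0, 0, 0, -1], [0, 0, 0, 0, 1], [0, 0, 0, 0, 1], [0, 0, 1, 0, 1], [0, 0, 1, 0, 1], [0, 0, 1, 0, -1], [0, 0, 1, 0, -1], [0, 0, 0, 0, 1], [0, 0, 0, 0, 1], [0, 0, 0, 0, 1], [0, 0, 0, 0, 0, 0, 1], [0, 0, 0, 0, 0, 0, 1], [0, 0, 0, 0, 1], [0, 0, 0, 0, 1], [0, 0, 0, 0, 0, 0, 1], [0, 0, 0, 0, 0, 0, 1], [0, 0, 0, 0, 1], [0, 0, 0, 0, 1], [0,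 0, 0, 0, 1]],
    [[], [0, 0, 0, 0, 2, 1], [0, 0, 0, 0, 1, 1], [0, 0, 0, 1, 0, -1], [0, 0, 0, 1, 0, 1], [0, 0, 0, 0, 0, 1], [0, 0, 0, 0, 0, 1], [0, 1, 0, 0, 0, -1], [0, 1, 0, 0, 0, 1], [0, 0, 0, 0, 0, 1], [0, 0, 0, 0, 0, 1], [0, 0, 0, 0, 0, 1], [1, 0, 0, 0, 0, -1], [1, 0, 0, 0, 0, 1], [0, 0, 0, 0, 0, 1], [0, 0, 0, 0, 0, 1], [0, 0, 0, 0, 0, 1], [0, 1, 0, 0, 0, 1], [0, 1, 0, 0, 0, -1], [0, 0, 0, 0, 0, 1], [0, 0, 0, 0, 0, 1], [1, 0, 0, 0, 0, -1], [1, 0, 0, 0, 0, 1], [0, 0, 0, 0, 0, 1], [1, 0, 0, 0, 0, -1], [1, 0, 0, 0, 0, 1], [0, 0, 0, 0, 0, 1], [0, 0, 0, 0, 0, 1], [1, 0, 0, 0, 0, -1], [1, 0, 0, 0, 0, 1], [0, 0, 0, 0, 0, 1], [0, 0, 0, 0, 0, 1], [0, 0, 0, 0, 0, 1], [1, 0, 0, 0, 0, 1], [1, 0, 0, 0, 0, -1], [0, 0, 0,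 0, 0, 1], [0, 0, 0, 0, 0, 1], [1, 0, 0, 0, 0, 1], [1, 0, 0, 0, 0, -1], [0, 0, 0, 0, 0, 1], [1, 0, 0, 0, 0, 1], [1, 0, 0, 0, 0, -1], [0, 0, 0, 0, 0, 1], [0, 0, 0, 0, 0, 1], [1, 0, 0, 0, 0, 1], [1, 0, 0, 0, 0, -1], [0, 0, 1, 0, 0, 1], [0, 0, 1, 0, 0, -1], [0, 0, 0, 0, 0, 1], [0, 0, 0, 0, 0, 1], [0, 0, 1, 0, 0, 1], [0, 0, 1, 0, 0, -1], [0, 0, 0, 0, 0, 1], [0, 1, 0, 0, 0, -1], [0, 1, 0, 0, 0, 1], [0, 0, 0, 0, 0, 1], [0, 0, 0, 0, 0, 1], [0, 1, 0, 0, 0, 1], [0, 1, 0, 0, 0, -1], [0, 0, 0, 0, 0, 1], [0, 0, 0, 0, 0, 1], [0, 0, 0, 0, 0, 1], [0, 0, 0, 0, 0, 1]]]) (by decide +kernel)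

theorem sepE8 : SepTab chevE8 1 :=
  sepTab_of (W := [[[0, 0, 1], [0, 0, 1], [0, 0, 1], [0, 0, 1], [0, 0, 1], [0, 0, 1], [0, 0, 1], [0, 0, 1], [0, 0, 1], [0, 0, 1], [0, 1, -1], [0, 1, -1], [0, 1, -1], [0, 1, -1], [0, 1, -1], [0, 0, 1, 2], [1, 0, 1], [1, 0, 1], [1, 0, 1], [1, 0, 1], [1, 0, 1], [0, 0, 1], [0, 1, 1], [0, 1, 1], [0, 1, 1], [0, 1, 1], [0, 1, 1], [1, 0, 1], [1, 0, 1], [1, 0, 1], [1, 0, 1], [1, 0, 1], [0, 0, 1], [0, 0, 1], [0, 0, 1], [0, 0, 1], [0, 0, 1], [0, 0, 1], [0, 0, 1], [0, 0, 1], [0, 0, 1], [0, 0, 1], [], [0, 0, 1, 1], [0, 0, 1], [0, 0, 1], [0, 0, 1], [0, 0, 1], [0, 0, 1], [0, 0, 1], [0, 0, 1], [0, 0, 1], [0, 0, 1], [0, 0, 1], [1, 0, 1], [1, 0, 1], [1, 0, 1], [1, 0, 1], [1, 0, 1], [1, 0, 1], [1,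 0, 1], [1, 0, 1], [1, 0, 1], [1, 0, 1], [0, 0, 1, 0, 0, 1], [0, 0, 1, 0, 1], [0, 0, 1, 0, 1], [0, 0, 1, 0, 1], [0, 0, 1, 1], [0, 0, 1, 1], [0, 0, 1, 1], [0, 0, 1, 1], [0, 0, 1, 1], [0, 0, 1, 1], [0, 0, 1], [0, 0, 1], [0, 0, 1], [0, 0, 1], [0, 0, 1], [0, 0, 1], [0, 0, 1], [0, 0, 1], [0, 0, 1], [0, 0, 1], [0, 0, 1], [0, 0, 1], [0, 0, 1], [0, 0, 1], [0, 0, 1], [0, 0, 1], [0, 0, 1], [0, 0, 1], [0, 0, 1], [0, 0, 1], [0, 0, 1, 1], [0, 0, 1, 1], [0, 0, 1, 1], [0, 0, 1, 1], [0, 0, 1, 0, 1], [1, 0, 1], [1, 0, 1], [1, 0, 1], [1, 0, 1], [1, 0, 1], [0, 0, 1], [0, 0, 1], [0, 0, 1], [0, 0, 1], [0, 0, 1], [0, 0, 1], [0, 0, 1], [1, 0, 1], [0, 1, 1], [1, 0, 1], [0, 1, -1], [0, 0, 1], [0, 0, 1], [0, 0, 1], [0, 0, 1], [0, 0, 1]],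
    [[0, 0, 0, 1], [0, 0, 0, 1], [0, 0, 0, 1], [0, 0, 0, 1], [0, 0, 0, 1], [0, 0, 0, 1], [0, 0, 0, 1, 0, -1], [0, 0, 0, 1, 1], [0, 0, 0, 1, 1], [0, 0, 0, 1, 1], [0, 0, 2, 1], [0, 1, 0, 1], [0, 1, 0, 1], [0, 1, 0, 1], [0, 1, 0, 1], [1, 0, 0, -1], [1, 0, 0, 1], [0, 0, 0, 1], [0, 0, 0, 1], [0, 0, 0, 1], [0, 0, 0, 1], [], [0, 0, 1, 1], [0, 0, 0, 1], [0, 0, 0, 1], [0, 0, 0, 1], [0, 0, 0, 1], [0, 0, 0, 1], [1, 0, 0, -1], [1, 0, 0, -1], [1, 0, 0, -1], [1, 0, 0, -1], [1, 0, 0, 1], [1, 0, 0, 1], [1, 0, 0, 1], [1, 0, 0, 1], [0, 0, 0, 1], [0, 0, 0, 1], [0, 0, 0, 1], [0, 0, 0, 1], [0, 0, 0, 1], [0, 0, 0, 1], [0, 0, 0, 1], [1, 0, 0, 1], [1, 0, 0, -1], [0, 0, 0, 1], [0, 0, 0, 1], [0, 0, 0, 1], [0, 0, 0, 1], [0, 0, 0, 1], [1,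 0, 0, 1], [1, 0, 0, 1], [1, 0, 0, 1], [1, 0, 0, 1], [1, 0, 0, -1], [1, 0, 0, -1], [1, 0, 0, -1], [1, 0, 0, -1], [0, 0, 0, 1], [0, 0, 0, 1], [0, 0, 0, 1], [0, 0, 0, 1], [0, 0, 0, 1], [0, 0, 0, 1], [0, 0, 0, 1], [0, 0, 0, 1], [0, 0, 0, 1], [0, 0, 0, 1], [0, 0, 1, 1], [0, 0, 1, 1], [0, 0, 1, 1], [0, 0, 1, 1], [0, 0, 1, 1], [0, 0, 1, 1], [0, 1, 0, 1], [0, 1, 0, 1], [0, 1, 0, 1], [0, 1, 0, 1], [0, 1, 0, 1], [0, 1, 0, 1], [0, 0, 0, 1], [0, 0, 0, 1], [0, 0, 0, 1], [0, 0, 0, 1], [0, 0, 0, 1], [0, 0, 0, 1], [0, 0, 0, 1], [0, 0, 0, 1], [0, 0, 0, 1], [0, 0, 0, 1], [0, 1, 0, 1], [0, 1, 0, 1], [0, 1, 0, 1], [0, 1, 0, 1], [0, 0, 1, 1], [0, 0, 1, 1], [0, 0, 1, 1], [0, 0, 1, 1], [0, 0, 0, 1], [0, 0, 0, 1], [0, 0, 0, 1], [0, 0,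 0, 1], [0, 0, 0, 1], [1, 0, 0, -1], [1, 0, 0, 1], [0, 0, 0, 1], [0, 0, 0, 1], [0, 0, 0, 1], [0, 0, 0, 1], [0, 0, 0, 1], [1, 0, 0, 1], [1, 0, 0, -1], [0, 0, 0, 1], [0, 0, 0, 1], [0, 1, 0, 1], [0, 0, 0, 1, 1], [0, 0, 0, 1], [0, 0, 0, 1], [0, 0, 0, 1], [0, 0, 0, 1]],
    [[1], [1], [1], [1], [1], [1], [1], [1], [1], [1], [1], [1], [1], [1], [1], [], [1, -1], [0, 0, 0, 1], [0, 0, 0, 1], [0, 0, 0, 1], [0, 0, 0, 1], [1], [1], [1], [1], [1], [1], [0, 0, 0, 1], [1, 1], [1, 1], [1, 1], [1, 1], [1, 0, 0, 0, 0, -1], [1, 0, 0, 0, -1], [1, 0, 0, 0, -1], [1, 0, 0, 0, -1], [0, 0, 0, 1], [0, 0, 0, 1], [0, 0, 0, 1], [0, 0, 0, 1], [0, 0, 0, 1], [0, 0, 0, 1], [0, 0, 0, 1], [0, 0, 1, 1], [1, 1], [0, 0, 0, 1], [0, 0, 0, 1], [0, 0, 0,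 1], [0, 0, 0, 1], [0, 0, 0, 1], [1, -1], [1, -1], [1, -1], [1, -1], [1, 0, 1], [1, 0, 1], [1, 0, 1], [1, 0, 1], [0, 0, 0, 1], [0, 0, 0, 1], [0, 0, 0, 1], [0, 0, 0, 1], [0, 0, 0, 1], [0, 0, 0, 1], [1], [1], [1], [1], [1], [1], [1], [1], [1], [1], [1], [1], [1], [1], [1], [1], [1], [1], [1], [1], [1], [1], [1], [1], [1], [1], [1], [1], [1], [1], [1], [1], [1], [1], [1], [0, 0, 0, 1], [0, 0, 0, 1], [0, 0, 0, 1], [0, 0, 0, 1], [1, 0, 1], [1, -1], [0, 0, 0, 1], [0, 0, 0, 1], [0, 0, 0, 1], [0, 0, 0, 1], [0, 0, 0, 1], [1, 0, 0, 0, -1], [1, 1], [1], [0, 0, 0, 1], [1], [1], [1], [1], [1], [1]],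
    [[0, 1], [0, 1], [0, 1], [0, 1], [0, 1], [0, 1], [0, 1], [0, 1], [0, 1], [0, 1], [], [0, 1, 0, 1], [0, 0, 0, 0, 1], [0, 0, 0, 0, 1], [0, 0, 0, 0, 1], [0, 1], [1, -1], [1, -1], [0, 0, 0, 0, 1], [0, 0, 0, 0, 1], [0, 0, 0, 0, 1], [0, 0, 1], [0, 0, 1, 1], [0, 1, 0, 0, 0, 1], [0, 0, 0, 0, 1], [0, 0, 0, 0, 1], [0, 0, 0, 0, 1], [1, 1], [1, 1], [0, 0, 0, 0, 1], [0, 0, 0, 0, 1], [0, 0, 0, 0, 1], [0, 1], [0, 1], [0, 1], [0, 1], [0, 1], [0, 1], [0, 1], [0, 1], [0, 1], [0, 1], [0, 1], [0, 1], [0, 0, 1], [0, 0, 1], [0, 0, 1], [0, 0, 1], [0, 0, 1], [0, 0, 1], [0, 0, 1], [0, 0, 1], [0, 0, 1], [0, 0, 1], [0, 1], [0, 1], [0, 1], [0, 1], [0, 1], [0, 1], [0, 1], [0, 1], [0, 1], [0, 1], [0, 1], [0, 1], [0, 1], [0, 1], [0, 1], [0,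 1], [0, 1], [0, 1], [0, 1], [0, 1], [0, 0, 1], [0, 0, 1], [0, 0, 1], [0, 0, 1], [0, 0, 1], [0, 0, 1], [0, 0, 1], [0, 0, 1], [0, 0, 1], [0, 0, 1], [0, 0, 1], [0, 0, 1], [0, 0, 1], [0, 0, 1], [0, 0, 1], [0, 0, 1], [0, 0, 1], [0, 0, 1], [0, 0, 1], [0, 0, 1], [0, 1], [0, 1], [0, 1], [0, 1], [0, 1], [0, 1], [0, 1], [0, 1], [0, 1], [0, 1], [0, 0, 1], [0, 0, 1], [0, 1], [0, 1], [0, 1], [0, 1], [0, 1], [0, 0, 0, 0, 1], [0, 0, 0, 0, 1], [0, 0, 0, 0, 1], [0, 0, 0, 0, 1], [0, 1], [0, 1], [0, 1], [0, 1], [0, 1]],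
    [[0, 0, 0, 1], [0, 0, 0, 1], [0, 0, 0, 1], [0, 0, 0, 1], [0, 0, 0, 1], [0, 0, 0, 1], [], [0, 0, 0, 1, 1], [0, 0, 0, 0, 0, 1], [0, 0, 0, 0, 0, 1], [0, 0, 0, 0, 0, 1], [0, 1, 0, 1], [0, 1, 0, 1], [0, 0, 0, 0, 0, 1], [0, 0, 0, 0, 0, 1], [0, 0, 0, 0, 0, 1], [0, 0, 0, 0, 0, 1], [0, 0, 0, 1], [0, 0, 0, 1], [0, 0, 0, 1], [0, 0, 0, 1], [0, 0, 0, 0, 0, 1], [0, 0, 0, 0, 0, 1], [0, 0, 0, 1], [0, 0, 0, 1], [0, 0, 0, 1], [0, 0, 0, 1], [0, 0, 0, 1], [1, 0, 0, -1], [1, 0, 0, -1], [0, 0, 0, 0, 0, 1], [0, 0, 0, 0, 0, 1], [1, 0, 0, 1], [1, 0, 0, 1], [0, 0, 0, 0, 0, 1], [0, 0, 0, 0, 0, 1], [0, 0, 0, 1], [0, 0, 0, 1], [0, 0, 0, 1], [0, 0, 0, 1], [0, 0, 0, 1], [0, 0, 0, 1], [0, 0, 0, 1], [0, 0, 0, 0, 0, 1], [0, 0, 0, 0, 0, 1], [0,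 0, 0, 1], [0, 0, 0, 1], [0, 0, 0, 1], [0, 0, 0, 1], [0, 0, 0, 1], [1, 0, 0, 1], [1, 0, 0, 1], [0, 0, 0, 0, 0, 1], [0, 0, 0, 0, 0, 1], [1, 0, 0, -1], [1, 0, 0, -1], [0, 0, 0, 0, 0, 1], [0, 0, 0, 0, 0, 1], [0, 0, 0, 1], [0, 0, 0, 1], [0, 0, 0, 1], [0, 0, 0, 1], [0, 0, 0, 1], [0, 0, 0, 1], [0, 0, 0, 1], [0, 0, 0, 1], [0, 0, 0, 1], [0, 0, 0, 1], [0, 0, 0, 0, 0, 1], [0, 0, 1, 1], [0, 0, 1, 1], [0, 0, 1, 1], [0, 0, 1, 1], [0, 0, 0, 0, 0, 1], [0, 0, 0, 0, 0, 1], [0, 1, 0, 1], [0, 1, 0, 1], [0, 1, 0, 1], [0, 1, 0, 1], [0, 0, 0, 0, 0, 1], [0, 0, 0, 1], [0, 0, 0, 1], [0, 0, 0, 1], [0, 0, 0, 1], [0, 0, 0, 1], [0, 0, 0, 1], [0, 0, 0, 1], [0, 0, 0, 1], [0, 0, 0, 1], [0, 0, 0, 1], [0, 0, 0, 0, 0, 1], [0, 0, 0, 0, 0, 1], [0, 1,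 0, 1], [0, 1, 0, 1], [0, 0, 0, 0, 0, 1], [0, 0, 0, 0, 0, 1], [0, 0, 1, 1], [0, 0, 1, 1], [0, 0, 0, 1], [0, 0, 0, 1], [0, 0, 0, 1], [0, 0, 0, 1], [0, 0, 0, 1], [0, 0, 0, 0, 0, 1], [0, 0, 0, 0, 0, 1], [0, 0, 0, 1], [0, 0, 0, 1], [0, 0, 0, 1], [0, 0, 0, 1], [0, 0, 0, 1], [0, 0, 0, 0, 0, 1], [0, 0, 0, 0, 0, 1], [0, 0, 0, 1], [0, 0, 0, 1], [0, 0, 0, 0, 0, 1], [0, 0, 0, 0, 0, 1], [0, 0, 0, 1], [0, 0, 0, 1], [0, 0, 0, 1], [0, 0, 0, 1]],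
    [[0, 0, 0, 0, 1], [0, 0, 0, 0, 1], [0, 0, 0, 0, 1], [], [0, 0, 0, 0, 1, 1], [0, 0, 0, 0, 0, 0, 1], [0, 0, 0, 0, 0, 0, 1], [0, 0, 0, 1, 1], [0, 0, 0, 1, 1], [0, 0, 0, 0, 0, 0, 1], [0, 0, 0, 0, 0, 0, 1], [0, 0, 0, 0, 0, 0, 1], [0, 0, 0, 0, 1], [0, 0, 0, 0, 1], [0, 0, 0, 0, 1], [0, 0, 0, 0, 1], [0, 0, 0, 0, 0, 0, 1], [0, 0, 0, 0, 0, 0, 1], [0, 0, 0, 0, 1], [0, 0, 0, 0, 1], [0, 0, 0, 0, 1], [0, 0, 0, 0, 1], [0, 0, 0, 0, 0, 0, 1], [0, 0, 0, 0, 0, 0, 1], [0, 0, 0, 0, 1], [0, 0, 0, 0, 1], [0, 0, 0, 0, 1], [0, 0, 0, 0, 0, 0, 1], [0, 0, 0, 0, 0, 0, 1], [0, 0, 0, 0, 1], [0, 0, 0, 0, 1], [0, 0, 0, 0, 1], [0, 0, 0, 0, 1], [1, 0, 0, 0, -1], [1, 0, 0, 0, -1], [0, 0, 0, 0, 0, 0, 1], [1, 0, 0, 0, 1], [1, 0, 0, 0, 1], [0, 0,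 0, 0, 0, 0, 1], [0, 0, 0, 0, 1], [0, 0, 0, 0, 1], [0, 0, 0, 0, 1], [0, 0, 0, 0, 1], [0, 0, 0, 0, 1], [0, 0, 0, 0, 0, 0, 1], [0, 0, 0, 0, 0, 0, 1], [0, 0, 0, 0, 1], [0, 0, 0, 0, 1], [0, 0, 0, 0, 1], [0, 0, 0, 0, 0, 0, 1], [0, 0, 0, 0, 0, 0, 1], [0, 0, 0, 0, 1], [0, 0, 0, 0, 1], [0, 0, 0, 0, 1], [0, 0, 0, 0, 1], [1, 0, 0, 0, 1], [1, 0, 0, 0, 1], [0, 0, 0, 0, 0, 0, 1], [1, 0, 0, 0, -1], [1, 0, 0, 0, -1], [0, 0, 0, 0, 0, 0, 1], [0, 0, 0, 0, 1], [0, 0, 0, 0, 1], [0, 0, 0, 0, 1], [0, 0, 0, 0, 1], [0, 0, 1, 0, 1], [0, 0, 1, 0, 1], [0, 0, 0, 0, 0, 0, 1], [0, 0, 1, 0, -1], [0, 0, 1, 0, -1], [0, 0, 0, 0, 0, 0, 1], [0, 0, 0, 0, 1], [0, 0, 0, 0, 1], [0, 0, 0, 0, 1], [0, 0, 0, 0, 1], [0, 0, 0, 0, 1], [0, 0, 0, 0, 1], [0, 0,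 0, 0, 0, 0, 1], [0, 1, 0, 0, -1], [0, 1, 0, 0, -1], [0, 0, 0, 0, 0, 0, 1], [0, 1, 0, 0, 1], [0, 1, 0, 0, 1], [0, 0, 0, 0, 1], [0, 0, 0, 0, 1], [0, 0, 0, 0, 1], [0, 0, 0, 0, 1], [0, 0, 0, 0, 0, 0, 1], [0, 1, 0, 0, 1], [0, 1, 0, 0, 1], [0, 0, 0, 0, 0, 0, 1], [0, 1, 0, 0, -1], [0, 1, 0, 0, -1], [0, 0, 0, 0, 1], [0, 0, 0, 0, 1], [0, 0, 0, 0, 1], [0, 0, 0, 0, 1], [0, 0, 0, 0, 0, 0, 1], [0, 0, 0, 0, 0, 0, 1], [0, 0, 0, 0, 1], [0, 0, 0, 0, 1], [0, 0, 0, 0, 1], [0, 0, 0, 0, 0, 0, 1], [0, 0, 0, 0, 0, 0, 1], [0, 0, 0, 0, 1], [0, 0, 0, 0, 1], [0, 0, 0, 0, 1], [0, 0, 0, 0, 1], [0, 0, 0, 0, 1], [0, 0, 0, 0, 0, 0, 1], [0, 0, 0, 0, 0, 0, 1], [0, 0, 0, 0, 1], [0, 0, 0, 0, 1], [0, 0, 0, 0, 1], [0, 0, 0, 0, 1], [0, 0, 0, 0, 0, 0,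 1], [0, 0, 0, 0, 0, 0, 1], [0, 0, 0, 0, 1], [0, 0, 0, 0, 1], [0, 0, 0, 0, 1]],
    [[0, 0, 0, 0, 0, 1], [], [0, 0, 0, 0, 0, 1, 1], [0, 0, 0, 0, 0, 0, 0, 1], [0, 0, 0, 0, 1, 1], [0, 0, 0, 0, 1, 1], [0, 0, 0, 0, 0, 0, 0, 1], [0, 0, 0, 0, 0, 0, 0, 1], [0, 0, 0, 0, 0, 1], [0, 0, 0, 0, 0, 1], [0, 0, 0, 0, 0, 1], [0, 0, 0, 0, 0, 0, 0, 1], [0, 0, 0, 0, 0, 0, 0, 1], [0, 0, 0, 0, 0, 1], [0, 0, 0, 0, 0, 1], [0, 0, 0, 0, 0, 1], [0, 0, 0, 0, 0, 1], [0, 0, 0, 0, 0, 0, 0, 1], [0, 0, 0, 0, 0, 0, 0, 1], [0, 0, 0, 0, 0, 1], [0, 0, 0, 0, 0, 1], [0, 0, 0, 0, 0, 1], [0, 0, 0, 0, 0, 1], [0, 0, 0, 0, 0, 0, 0, 1], [0, 0, 0, 0, 0, 0, 0, 1], [0, 0, 0, 0, 0, 1], [0, 0, 0, 0, 0, 1], [0, 0, 0, 0, 0, 1], [0, 0, 0, 0, 0, 0, 0, 1], [0, 0, 0,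 0, 0, 0, 0, 1], [0, 0, 0, 0, 0, 1], [0, 0, 0, 0, 0, 1], [0, 0, 0, 0, 0, 0, 0, 1], [0, 0, 0, 0, 0, 0, 0, 1], [0, 0, 0, 0, 0, 1], [0, 0, 0, 0, 0, 1], [0, 0, 0, 0, 0, 1], [1, 0, 0, 0, 0, -1], [1, 0, 0, 0, 0, -1], [1, 0, 0, 0, 0, 1], [1, 0, 0, 0, 0, 1], [0, 0, 0, 0, 0, 1], [0, 0, 0, 0, 0, 1], [0, 0, 0, 0, 0, 1], [0, 0, 0, 0, 0, 1], [0, 0, 0, 0, 0, 0, 0, 1], [0, 0, 0, 0, 0, 0, 0, 1], [0, 0, 0, 0, 0, 1], [0, 0, 0, 0, 0, 1], [0, 0, 0, 0, 0, 1], [0, 0, 0, 0, 0, 0, 0, 1], [0, 0, 0, 0, 0, 0, 0, 1], [0, 0, 0, 0, 0, 1], [0, 0, 0, 0, 0, 1], [0, 0, 0, 0, 0, 0, 0, 1], [0, 0, 0, 0, 0, 0, 0, 1], [0, 0, 0, 0, 0, 1], [0, 0, 0, 0, 0, 1], [0, 0, 0, 0, 0, 1], [1, 0, 0, 0, 0, 1], [1, 0, 0, 0, 0, 1], [1, 0, 0, 0, 0, -1], [1, 0, 0, 0, 0,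 -1], [0, 0, 0, 0, 0, 1], [0, 0, 0, 0, 0, 0, 0, 1], [0, 0, 0, 0, 0, 0, 0, 1], [0, 0, 0, 0, 0, 1], [0, 0, 0, 0, 0, 1], [0, 0, 0, 0, 0, 1], [0, 0, 1, 0, 0, 1], [0, 0, 1, 0, 0, 1], [0, 0, 1, 0, 0, -1], [0, 0, 1, 0, 0, -1], [0, 0, 0, 0, 0, 1], [0, 0, 0, 0, 0, 1], [0, 1, 0, 0, 0, -1], [0, 1, 0, 0, 0, -1], [0, 1, 0, 0, 0, 1], [0, 1, 0, 0, 0, 1], [0, 0, 0, 0, 0, 1], [0, 0, 0, 0, 0, 1], [0, 0, 0, 0, 0, 1], [0, 0, 0, 0, 0, 0, 0, 1], [0, 0, 0, 0, 0, 0, 0, 1], [0, 0, 0, 0, 0, 1], [0, 1, 0, 0, 0, 1], [0, 1, 0, 0, 0, 1], [0, 1, 0, 0, 0, -1], [0, 1, 0, 0, 0, -1], [0, 0, 0, 0, 0, 1], [0, 0, 0, 0, 0, 1], [0, 0, 0, 0, 0, 1], [0, 0, 0, 0, 0, 0, 0, 1], [0, 0, 0, 0, 0, 0, 0, 1], [0, 0, 0, 0, 0, 1], [0, 0, 0, 0, 0, 1], [0, 0, 0, 0, 0,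 0, 0, 1], [0, 0, 0, 0, 0, 0, 0, 1], [0, 0, 0, 0, 0, 1], [0, 0, 0, 0, 0, 1], [0, 0, 0, 0, 0, 1], [0, 0, 0, 0, 0, 0, 0, 1], [0, 0, 0, 0, 0, 0, 0, 1], [0, 0, 0, 0, 0, 1], [0, 0, 0, 0, 0, 1], [0, 0, 0, 0, 0, 1], [0, 0, 0, 0, 0, 1], [0, 0, 0, 0, 0, 1], [0, 0, 0, 0, 0, 0, 0, 1], [0, 0, 0, 0, 0, 0, 0, 1], [0, 0, 0, 0, 0, 1], [0, 0, 0, 0, 0, 1], [0, 0, 0, 0, 0, 1], [0, 0, 0, 0, 0, 1], [0, 0, 0, 0, 0, 1], [0, 0, 0, 0, 0, 1], [0, 0, 0, 0, 0, 0, 0, 1], [0, 0, 0, 0, 0, 0, 0, 1], [0, 0, 0, 0, 0, 1], [0, 0, 0, 0, 0, 1]],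
    [[], [0, 0, 0, 0, 0, 2, 1], [0, 0, 0, 0, 0, 1, 1], [0, 0, 0, 0, 1, 0, -1], [0, 0, 0, 0, 1, 0, 1], [0, 0, 0, 0, 0, 0, 1], [0, 0, 0, 0, 0, 0, 1], [0, 0, 0, 1, 0, 0, -1], [0, 0, 0, 1, 0, 0, 1], [0, 0, 0, 0, 0, 0, 1], [0, 0, 0, 0, 0, 0, 1], [0, 0, 0, 0, 0, 0, 1], [0, 1, 0, 0, 0, 0, -1], [0, 1, 0, 0, 0, 0, 1], [0, 0, 0, 0, 0, 0, 1], [0, 0, 0, 0, 0, 0, 1], [0, 0, 0, 0, 0, 0, 1], [0, 0, 0, 0, 0, 0, 1], [1, 0, 0, 0, 0, 0, -1], [1, 0, 0, 0, 0, 0, 1], [0, 0, 0, 0, 0, 0, 1], [0, 0, 0, 0, 0, 0, 1], [0, 0, 0, 0, 0, 0, 1], [0, 0, 0, 0, 0, 0, 1], [0, 1, 0, 0, 0, 0, 1], [0, 1, 0, 0, 0, 0, -1], [0, 0, 0, 0, 0, 0, 1], [0, 0, 0, 0, 0, 0, 1], [0, 0, 0, 0, 0, 0, 1], [1, 0, 0, 0, 0, 0, -1], [1, 0, 0, 0, 0, 0, 1], [0, 0, 0, 0, 0,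 0, 1], [0, 0, 0, 0, 0, 0, 1], [1, 0, 0, 0, 0, 0, -1], [1, 0, 0, 0, 0, 0, 1], [0, 0, 0, 0, 0, 0, 1], [1, 0, 0, 0, 0, 0, -1], [1, 0, 0, 0, 0, 0, 1], [0, 0, 0, 0, 0, 0, 1], [0, 0, 0, 0, 0, 0, 1], [1, 0, 0, 0, 0, 0, -1], [1, 0, 0, 0, 0, 0, 1], [0, 0, 0, 0, 0, 0, 1], [0, 0, 0, 0, 0, 0, 1], [0, 0, 0, 0, 0, 0, 1], [0, 0, 0, 0, 0, 0, 1], [1, 0, 0, 0, 0, 0, 1], [1, 0, 0, 0, 0, 0, -1], [0, 0, 0, 0, 0, 0, 1], [0, 0, 0, 0, 0, 0, 1], [0, 0, 0, 0, 0, 0, 1], [1, 0, 0, 0, 0, 0, 1], [1, 0, 0, 0, 0, 0, -1], [0, 0, 0, 0, 0, 0, 1], [0, 0, 0, 0, 0, 0, 1], [1, 0, 0, 0, 0, 0, 1], [1, 0, 0, 0, 0, 0, -1], [0, 0, 0, 0, 0, 0, 1], [1, 0, 0, 0, 0, 0, 1], [1, 0, 0, 0, 0, 0, -1], [0, 0, 0, 0, 0, 0, 1], [0, 0, 0, 0, 0, 0, 1], [1, 0, 0, 0, 0, 0,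 1], [1, 0, 0, 0, 0, 0, -1], [0, 0, 0, 0, 0, 0, 1], [0, 0, 1, 0, 0, 0, 1], [0, 0, 1, 0, 0, 0, -1], [0, 0, 0, 0, 0, 0, 1], [0, 0, 1, 0, 0, 0, 1], [0, 0, 1, 0, 0, 0, -1], [0, 0, 0, 0, 0, 0, 1], [0, 0, 0, 0, 0, 0, 1], [0, 0, 1, 0, 0, 0, 1], [0, 0, 1, 0, 0, 0, -1], [0, 1, 0, 0, 0, 0, -1], [0, 1, 0, 0, 0, 0, 1], [0, 0, 0, 0, 0, 0, 1], [0, 0, 0, 0, 0, 0, 1], [0, 1, 0, 0, 0, 0, -1], [0, 1, 0, 0, 0, 0, 1], [0, 0, 0, 0, 0, 0, 1], [0, 1, 0, 0, 0, 0, -1], [0, 1, 0, 0, 0, 0, 1], [0, 0, 0, 0, 0, 0, 1], [0, 1, 0, 0, 0, 0, 1], [0, 1, 0, 0, 0, 0, -1], [0, 0, 0, 0, 0, 0, 1], [0, 0, 0, 0, 0, 0, 1], [0, 1, 0, 0, 0, 0, 1], [0, 1, 0, 0, 0, 0, -1], [0, 0, 0, 0, 0, 0, 1], [0, 1, 0, 0, 0, 0, 1], [0, 1, 0, 0, 0, 0, -1], [0, 0, 0, 0, 0, 0,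 1], [0, 0, 0, 0, 0, 0, 1], [0, 0, 1, 0, 0, 0, -1], [0, 0, 1, 0, 0, 0, 1], [0, 0, 0, 0, 0, 0, 1], [0, 0, 0, 0, 0, 0, 1], [0, 0, 0, 0, 0, 0, 1], [1, 0, 0, 0, 0, 0, -1], [1, 0, 0, 0, 0, 0, 1], [0, 0, 0, 0, 0, 0, 1], [0, 0, 0, 0, 0, 0, 1], [0, 0, 0, 0, 0, 0, 1], [0, 0, 0, 0, 0, 0, 1], [0, 0, 0, 0, 0, 0, 1], [1, 0, 0, 0, 0, 0, 1], [1, 0, 0, 0, 0, 0, -1], [0, 0, 0, 0, 0, 0, 1], [0, 0, 0, 0, 0, 0, 1], [0, 0, 0, 0, 0, 0, 1], [0, 0, 0, 0, 0, 0, 1], [0, 0, 0, 0, 0, 0, 1], [0, 0, 0, 0, 0, 0, 1], [0, 0, 0, 0, 0, 0, 1], [0, 0, 0, 0, 0, 0, 1], [0, 0, 0, 0, 0, 1, 1], [0, 0, 0, 0, 0, 0, 1, 1], [0, 0, 0, 0, 0, 0, 1]]]) (by decide +kernel)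

theorem sepG2 : ∀ k0 k, 6 ≤ k0 → k0 < 12 → 6 ≤ k → k < 12 → k0 ≠ k → ∃ d : ℤ, d ≠ 0 ∧
    d.natAbs ≤ (if (k0 = 6 ∨ k0 = 10 ∨ k0 = 11) ∧ (k = 6 ∨ k = 10 ∨ k = 11) then 3 else 2) ∧ SepW chevG2 k0 k d := by
  have h : ChkG [[[], [-1, -2], [-1, -1], [0, -1], [-1, -3], [-1, 0]],
    [[-2, -3], [], [-1, -1], [0, -1], [-1, -3], [-1, 0]],
    [[-2, -3], [-1, -2], [], [0, -1], [-1, -3], [-1, 0]],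
    [[-2, -3], [-1, -2], [-1, -1], [], [-1, -3], [-1, 0]],
    [[-2, -3], [-1, -2], [-1, -1], [0, -1], [], [-1, 0]],
    [[-2, -3], [-1, -2], [-1, -1], [0, -1], [-1, -3], []]] := by decide +kernel
  intro k0 k h1 h2 h3 h4 h5
  rcases h k0 h2 k h4 with h | h | h | ⟨a1, a2, a3⟩
  · omega
  · omega
  · exact absurd h h5
  · exact ⟨_, a2, a3, _, a1, rfl⟩

end Cfsg.Agent.Lib.H46WCSep
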