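import Cfsg.Agent.Lib.H46WCGen
import Cfsg.Agent.Lib.H46WCG2A
import Cfsg.Agent.Lib.H46WCG2B
import Cfsg.Agent.Lib.H46WCSep

set_option autoImplicit false
set_option linter.unusedSectionVars false
set_option linter.unusedVariables false

namespace Cfsg.Agent.Lib.H46WCG2C

open Subgroup Cfsg.Lie Cfsg.Lie.ChevalleyDatum
open Cfsg.Agent.Lib.Helper23Grp Cfsg.Agent.Lib.Helper23RG Cfsg.Agent.Lib.Helper23RG.RG
  Cfsg.Agent.Lib.Helper23Table Cfsg.Agent.Lib.Helper23Chev Cfsg.Agent.Lib.Helper22ChevRC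
  Cfsg.Agent.Lib.Helper22ChevBasic Cfsg.Agent.Lib.Helper22ChevU Cfsg.Agent.Lib.Helper22ChevPar
  Cfsg.Agent.Lib.H46WCDefs Cfsg.Agent.Lib.H46WCGen

variable {F : Type*} [Field F] [Fintype F] (hT : TableOK chevG2) (hR : Rel chevG2 F)

theorem g2 (hq : 4 ≤ Fintype.card F) (hD : Std chevG2) (X : Subgroup (GL chevG2.Idx F))
    (hXU : X ≤ chevG2.posUnipotent F) (hX : NB X) (J : Set ℕ)
    (hJ : ∀ i : Fin chevG2.rank, i.val ∉ J → ∃ x ∈ X, x ∉ (rg hT hR).Ui i) : chevG2.unipotentRadical F J ≤ X := by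
  have hn : chevG2.nroots = 12 := rfl
  have hrk : chevG2.rank = 2 := rfl
  have hs0 : chevG2.simple 0 = 7 := by decide
  have hs1 : chevG2.simple 1 = 6 := by decide
  -- separation
  have sep2 : ∀ k0 k, 6 ≤ k0 → k0 < 12 → 6 ≤ k → k < 12 → k0 ≠ k →
      ¬ ((k0 = 6 ∨ k0 = 10 ∨ k0 = 11) ∧ (k = 6 ∨ k = 10 ∨ k = 11)) → SepH hD F k0 k := by
    intro k0 k h1 h2 h3 h4 h5 h6
    obtain ⟨d, hd, hb, hW⟩ := H46WCSep.sepG2 k0 k h1 h2 h3 h4 h5
    rw [if_neg h6] at hb
    exact sepH_of_sepW hD (by rw [hn]; exact h2) (by rw [hn]; exact h4) hW hd (by omega)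
  have h1011 : (3 : F) = 0 → SepH hD F 10 11 := by
    intro h3
    have hne : Fintype.card F ≠ 4 := by
      intro e
      have h4 : ((Fintype.card F : ℕ) : F) = 0 := Nat.cast_card_eq_zero F
      rw [e] at h4
      have : (1 : F) = 0 := by
        have h5 : ((4 : ℕ) : F) = 3 + 1 := by norm_num
        rw [h5, h3, zero_add] at h4
        exact h4
      exact one_ne_zero this
    obtain ⟨d, hd, hb, hW⟩ := H46WCSep.sepG2 10 11 (by norm_num) (by norm_num) (by norm_num) (by norm_num) (by norm_num)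
    rw [if_pos (by simp)] at hb
    exact sepH_of_sepW hD (by rw [hn]; norm_num) (by rw [hn]; norm_num) hW hd (by omega)
  have i0 : Fin chevG2.rank := ⟨0, by rw [hrk]; norm_num⟩
  -- the fundamental short root
  have X7 : 0 ∉ J → ∀ t : F, xG hD 7 t ∈ X := by
    intro h0 t
    obtain ⟨x, hx, hxi⟩ := hJ ⟨0, by rw [hrk]; norm_num⟩ h0
    have := simple_mem hT hR hD X hXU hX ⟨0, by rw [hrk]; norm_num⟩ (fun k h1 h2 h3 => by
      rw [hn] at h1 h2
      show SepH hD F (chevG2.simple 0) k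
      have h3' : k ≠ chevG2.simple 0 := h3
      rw [hs0] at h3' ⊢
      exact sep2 7 k (by norm_num) (by norm_num) (by omega) h2 (Ne.symm h3') (by omega)) hx hxi t
    have e : chevG2.simple ((⟨0, by rw [hrk]; norm_num⟩ : Fin chevG2.rank) : ℕ) = 7 := hs0
    rw [e] at this
    exact this
  -- the head of the long fundamental root
  have H6 : 1 ∉ J → ∃ a : F, a ≠ 0 ∧ ∃ y ∈ Uk (F := F) hD 7, xG hD 6 a * y ∈ X := by
    intro h1
    obtain ⟨x, hx, hxi⟩ := hJ ⟨1, by rw [hrk]; norm_num⟩ h1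
    have := H46WCIsoH.isoH hT hR hD X hXU hX ⟨1, by rw [hrk]; norm_num⟩ (fun k h1 h2 => by
      exfalso
      have h2' : k < chevG2.simple 1 := h2
      rw [hs1] at h2'
      rw [hn] at h1
      omega) hx hxi
    have e : chevG2.simple ((⟨1, by rw [hrk]; norm_num⟩ : Fin chevG2.rank) : ℕ) = 6 := hs1
    rw [e] at this
    exact this
  have F6 : ∀ k1, 6 < k1 → ∀ a0 : F, a0 ≠ 0 → (∃ y ∈ Uk (F := F) hD k1, xG hD 6 a0 * y ∈ X) →
      ∀ a : F, ∃ y ∈ Uk (F := F) hD k1, xG hD 6 a * y ∈ X := by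
    intro k1 hk1 a0 ha0 h a
    have e : chevG2.simple ((⟨1, by rw [hrk]; norm_num⟩ : Fin chevG2.rank) : ℕ) = 6 := hs1
    have := H46WCFill.fill hD X hX ⟨1, by rw [hrk]; norm_num⟩ (k1 := k1) (by rw [e]; exact hk1) ha0 (by rw [e]; exact h) a
    rw [e] at this
    exact this
  have H10 : 1 ∉ J → ∀ u : F, ∃ y ∈ Uk (F := F) hD 10, xG hD 6 u * y ∈ X := by
    intro h1
    obtain ⟨a, ha, y, hy, hxy⟩ := H6 h1
    obtain ⟨κ, hκ, hiso⟩ := H46WCIsoT.isoT hD X hX (k0 := 6) (by rw [hn]) 10 (by norm_num) (by rw [hn]; norm_num)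
      (fun k h1 h2 => sep2 6 k (by norm_num) (by norm_num) (by omega) (by omega) (by omega) (by omega))
    exact F6 10 (by norm_num) (κ * a) (mul_ne_zero hκ ha) (hiso a y hy hxy)
  -- the commutator words
  have hc : (0 ∉ J ∨ 1 ∉ J) → ∀ t u : F, wordG hD (chevG2.commWord F 7 6 t u) ∈ X := by
    intro h
    by_cases h0 : 0 ∈ J
    · exact H46WCG2B.g2B hD X hX (H10 (h.resolve_left (not_not.2 h0)))
    · exact H46WCCX.comm_mem hD X hX (by rw [hn]; norm_num) (by rw [hn]; norm_num) (by rw [hn]) (by rw [hn]; norm_num)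
        (by norm_num) (Or.inl (X7 h0))
  have X8 : (0 ∉ J ∨ 1 ∉ J) → ∀ r, 8 ≤ r → r < 12 → ∀ s : F, xG hD r s ∈ X := fun h =>
    H46WCG2A.g2A hD X hX (fun k0 k h1 h2 h3 h4 => sep2 k0 k (by omega) (by omega) (by omega) h3 (by omega) (by omega))
      h1011 (hc h)
  have hUk : ∀ k, 8 ≤ k → (0 ∉ J ∨ 1 ∉ J) → Uk (F := F) hD k ≤ X := by
    intro k hk h
    unfold Uk
    rw [closure_le]
    rintro g ⟨r, t, hr, rfl⟩
    by_cases hr12 : r < 12
    · exact X8 h r (by omega) hr12 t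
    · rw [xG_eq_one hD (by rw [hn]; exact hr12)]
      exact one_mem _
  have X6 : 1 ∉ J → ∀ t : F, xG hD 6 t ∈ X := by
    intro h1 t
    obtain ⟨y, hy, hxy⟩ := H10 h1 t
    have := mul_mem hxy (inv_mem (hUk 10 (by norm_num) (Or.inr h1) hy))
    rwa [mul_inv_cancel_right] at this
  -- conclusion
  unfold unipotentRadical
  rw [closure_le]
  rintro g ⟨r, t, hpos, hnot, hg⟩
  have hg' : g = xG hD r t := Units.ext (by rw [hg, coe_xG])
  rw [hg']
  have hr12 : r < 12 := hpos.1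
  have hr6 : 6 ≤ r := (hT.pos_iff r hpos.1).1 hpos
  have hor : 0 ∉ J ∨ 1 ∉ J := by
    by_contra hcon
    rw [not_or, not_not, not_not] at hcon
    refine hnot ⟨hpos.1, fun i hi hiJ => ?_⟩
    rw [hrk] at hi
    interval_cases i
    · exact absurd hcon.1 hiJ
    · exact absurd hcon.2 hiJ
  by_cases h8 : 8 ≤ r
  · exact X8 hor r h8 hr12 t
  · have : r = 6 ∨ r = 7 := by omega
    rcases this with rfl | rfl
    · refine X6 (fun h1 => hnot ⟨hpos.1, fun i hi hiJ => ?_⟩) t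
      rw [hrk] at hi
      interval_cases i
      · decide
      · exact absurd h1 hiJ
    · refine X7 (fun h0 => hnot ⟨hpos.1, fun i hi hiJ => ?_⟩) t
      rw [hrk] at hi
      interval_cases i
      · exact absurd h0 hiJ
      · decide

end Cfsg.Agent.Lib.H46WCG2C
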