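import Cfsg.Agent.Lib.H46WCDefs

set_option autoImplicit false
set_option linter.unusedSectionVars false
set_option linter.unusedVariables false

namespace Cfsg.Agent.Lib.H46WCP12

open Subgroup Cfsg.Lie Cfsg.Lie.ChevalleyDatum
open Cfsg.Agent.Lib.Helper23Grp Cfsg.Agent.Lib.Helper23RG Cfsg.Agent.Lib.Helper23RG.RG
  Cfsg.Agent.Lib.Helper23Table Cfsg.Agent.Lib.Helper23Chev Cfsg.Agent.Lib.Helper22ChevRC
  Cfsg.Agent.Lib.Helper22ChevBasic Cfsg.Agent.Lib.Helper22ChevU Cfsg.Agent.Lib.Helper22ChevPar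
  Cfsg.Agent.Lib.H46WCDefs

variable {F : Type*} [Field F] {D : ChevalleyDatum}

/-- one term: `commWord z y t u = [(r, ε * (-t)^1 * u^1)]`; take `u = 1`, `t = -ε * s` (`ε * ε = 1`). -/
theorem one_term (hD : Std D) (X : Subgroup (GL D.Idx F)) {z y r : ℕ} {ε : ℤ} (hε : ε = 1 ∨ ε = -1)
    (hc : D.commTerms z y = [(r, ε, 1, 1)]) (h : ∀ t u : F, wordG hD (D.commWord F z y t u) ∈ X) (s : F) :
    xG hD r s ∈ X := by
  have h1 := h (-(ε : F) * s) 1
  unfold ChevalleyDatum.commWord at h1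
  rw [hc] at h1
  simp only [List.map_cons, List.map_nil, wordG_cons, wordG_nil, mul_one] at h1
  have hεε : (ε : F) * (ε : F) = 1 := by rcases hε with rfl | rfl <;> simp
  have h2 : (ε : F) * (-(-(ε : F) * s)) ^ 1 * 1 ^ 1 = s := by
    rw [pow_one, one_pow, mul_one]; linear_combination s * hεε
  rwa [h2] at h1

/-- two terms, `|F| > 2`.  `g(t,u) = xG A (ε * (-t) * u) * xG B (ε' * (-t)^i * u^j) ∈ X`.  `X_A` and `X_B` commute: `Helper22ChevCFAll.cf hD A B …` with `commTerms A B = []`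
(or `conj_eq`; hypotheses `hA hB hAB hneg` are given).  Case `(i,j) = (1,2)`: pick `v ∉ {0,1}` (`Fintype.exists_ne…`/ card argument); `g(t,1) * g(t/v, v)⁻¹ = xG B (ε' * (-t) * (1 - v))`, which is an arbitrary
element of `X_B`; then `xG A _ = g * (xG B _)⁻¹`.  Case `(2,1)`: `g(1,u) * g(v, u/v)⁻¹ = xG B (ε' * u * (1 - v))`. -/
theorem two_terms [Fintype F] (hq : 2 < Fintype.card F) (hD : Std D) (X : Subgroup (GL D.Idx F)) {z y A B : ℕ} {ε ε' : ℤ} {i j : ℕ}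
    (hε : ε = 1 ∨ ε = -1) (hε' : ε' = 1 ∨ ε' = -1) (hij : (i = 1 ∧ j = 2) ∨ (i = 2 ∧ j = 1))
    (hc : D.commTerms z y = [(A, ε, 1, 1), (B, ε', i, j)]) (hA : A < D.nroots) (hB : B < D.nroots) (hAB : B ≠ A) (hneg : B ≠ D.neg A)
    (hcAB : D.commTerms A B = [])
    (h : ∀ t u : F, wordG hD (D.commWord F z y t u) ∈ X) (s : F) :
    xG hD A s ∈ X ∧ xG hD B s ∈ X := by
  have hεε : (ε : F) * (ε : F) = 1 := by rcases hε with rfl | rfl <;> simp
  have hεε' : (ε' : F) * (ε' : F) = 1 := by rcases hε' with rfl | rfl <;> simp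
  have hg : ∀ t u : F, xG hD A ((ε : F) * (-t) ^ 1 * u ^ 1) * xG hD B ((ε' : F) * (-t) ^ i * u ^ j) ∈ X := by
    intro t u
    have h1 := h t u
    unfold ChevalleyDatum.commWord at h1
    rw [hc] at h1
    simpa only [List.map_cons, List.map_nil, wordG_cons, wordG_nil, mul_one] using h1
  have key : ∀ a a' b1 b2 : F, a = a' → xG hD A a * xG hD B b1 ∈ X → xG hD A a' * xG hD B b2 ∈ X →
      xG hD B (b1 - b2) ∈ X := by
    intro a a' b1 b2 haa h1 h2
    subst haa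
    have e : xG hD B (b1 - b2) = (xG hD A a * xG hD B b2)⁻¹ * (xG hD A a * xG hD B b1) := by
      rw [mul_inv_rev, mul_assoc, inv_mul_cancel_left, xG_inv, xG_add]
      congr 1; ring
    rw [e]
    exact X.mul_mem (X.inv_mem h2) h1
  obtain ⟨v, hv0, hv1⟩ : ∃ v : F, v ≠ 0 ∧ v ≠ 1 := by
    classical
    by_contra hcon
    push Not at hcon
    have hsub : (Finset.univ : Finset F) ⊆ {0, 1} := by
      intro x _
      by_cases hx : x = 0
      · simp [hx]
      · simp [hcon x hx]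
    have h2 := Finset.card_le_card hsub
    rw [Finset.card_univ] at h2
    have h3 : ({0, 1} : Finset F).card ≤ 2 := Finset.card_le_two
    omega
  have hv1' : (1 - v) ≠ 0 := sub_ne_zero.mpr (Ne.symm hv1)
  have hvv : v⁻¹ * v = 1 := inv_mul_cancel₀ hv0
  have hBall : ∀ s : F, xG hD B s ∈ X := by
    intro s
    obtain ⟨w, hw⟩ : ∃ w : F, w * (1 - v) = s := ⟨s / (1 - v), div_mul_cancel₀ _ hv1'⟩
    rcases hij with ⟨rfl, rfl⟩ | ⟨rfl, rfl⟩
    · have h1 := key _ _ _ _ (by linear_combination ((ε : F) * (-(ε' : F) * w)) * hvv)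
        (hg (-(ε' : F) * w) 1) (hg (-(ε' : F) * w * v⁻¹) v)
      have e : (ε' : F) * (-(-(ε' : F) * w)) ^ 1 * 1 ^ 2 -
          (ε' : F) * (-(-(ε' : F) * w * v⁻¹)) ^ 1 * v ^ 2 = s := by
        linear_combination (w * (1 - v)) * hεε' + hw - ((ε' : F) ^ 2 * w * v) * hvv
      rwa [e] at h1
    · have h1 := key _ _ _ _ (by linear_combination ((ε : F) * ((ε' : F) * w)) * hvv)
        (hg 1 ((ε' : F) * w)) (hg v ((ε' : F) * w * v⁻¹))
      have e : (ε' : F) * (-1) ^ 2 * ((ε' : F) * w) ^ 1 -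
          (ε' : F) * (-v) ^ 2 * ((ε' : F) * w * v⁻¹) ^ 1 = s := by
        linear_combination (w * (1 - v)) * hεε' + hw - ((ε' : F) ^ 2 * w * v) * hvv
      rwa [e] at h1
  refine ⟨?_, hBall s⟩
  have h1 := hg (-(ε : F) * s) 1
  have e : (ε : F) * (-(-(ε : F) * s)) ^ 1 * 1 ^ 1 = s := by
    rw [pow_one, one_pow, mul_one]; linear_combination s * hεε
  rw [e] at h1
  have e2 : xG hD A s = (xG hD A s * xG hD B ((ε' : F) * (-(-(ε : F) * s)) ^ i * 1 ^ j)) *
      (xG hD B ((ε' : F) * (-(-(ε : F) * s)) ^ i * 1 ^ j))⁻¹ := by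
    rw [mul_inv_cancel_right]
  rw [e2]
  exact X.mul_mem h1 (X.inv_mem (hBall _))

end Cfsg.Agent.Lib.H46WCP12
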