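import Cfsg.Agent.Lib.H46WCCX
import Cfsg.Agent.Lib.H46WCP12
import Cfsg.Agent.Lib.H46WCCT

set_option autoImplicit false
set_option linter.unusedSectionVars false
set_option linter.unusedVariables false

namespace Cfsg.Agent.Lib.H46WCInd

open Subgroup Cfsg.Lie Cfsg.Lie.ChevalleyDatum
open Cfsg.Agent.Lib.Helper23Grp Cfsg.Agent.Lib.Helper23RG Cfsg.Agent.Lib.Helper23RG.RG
  Cfsg.Agent.Lib.Helper23Table Cfsg.Agent.Lib.Helper23Chev Cfsg.Agent.Lib.Helper22ChevRC
  Cfsg.Agent.Lib.Helper22ChevBasic Cfsg.Agent.Lib.Helper22ChevU Cfsg.Agent.Lib.Helper22ChevPar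
  Cfsg.Agent.Lib.H46WCDefs

variable {F : Type*} [Field F] [Fintype F] {D : ChevalleyDatum}

/-- Propagation.  `hT := Helper23Tab.tableOK_of_mem hD`, `hR := Helper22ChevRel.rel_of_mem hD`, `⟨a, ha⟩ := Helper22ChevRC.exists_rc hD`, `hO := ordFacts hD`.
Claim (strong induction on `r`): `D.nroots/2 ≤ r → r < D.nroots → ¬ D.InRootSub J r → ∀ t, xG hD r t ∈ X`.
* `r = D.simple i`: `i ∉ J` by `inRootSub_simple hT hR ha J ⟨i,_⟩`; `hbase`.
* otherwise `hReach r` gives `z y`.  All terms `c` of `D.commTerms z y` satisfy `z < c.1`, `y < c.1` (`H46WCCT.commTerms_gt2 hO`), `c.1 < D.nroots` and `a c.1 j = α * a z j + β * a y j` (`commTerms_coef ha`);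
  so (`inRootSub_iff ha`) `InRootSub J z ∧ InRootSub J y → InRootSub J r`; hence `z` or `y` is outside `Φ_J`, and the induction hypothesis gives `X_z ≤ X` or `X_y ≤ X`; `H46WCCX.comm_mem` puts all `wordG (commWord z y t u)` in `X`;
  conclude by `H46WCP12.one_term` or `H46WCP12.two_terms` (`B ≠ D.neg A`: `A`, `B` are positive (`> z ≥ nroots/2`) and `D.neg A` is negative: `(rg_ok hT hR).pos_neg`).
Finally `D.unipotentRadical F J` is a closure: `closure_le`; a generator `g` with `(g : Matrix) = D.x F r t` equals `xG hD r t` (`Units.ext`, `coe_xG`), `D.IsPosRoot r ↔ nroots/2 ≤ r` is `hT.pos_iff`. -/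
theorem ind (hq : 2 < Fintype.card F) (hD : Std D) (hReach : Reach D) (X : Subgroup (GL D.Idx F)) (hX : NB X) (J : Set ℕ)
    (hbase : ∀ i < D.rank, i ∉ J → ∀ t : F, xG hD (D.simple i) t ∈ X) : D.unipotentRadical F J ≤ X := by
  classical
  have hT := Cfsg.Agent.Lib.Helper23Tab.tableOK_of_mem hD
  have hR : Rel D F := Cfsg.Agent.Lib.Helper22ChevRel.rel_of_mem hD
  obtain ⟨a, ha⟩ := Helper22ChevRC.exists_rc hD
  have hO := ordFacts hD
  have claim : ∀ r, D.nroots / 2 ≤ r → r < D.nroots → ¬ D.InRootSub J r → ∀ t : F, xG hD r t ∈ X := by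
    intro r
    induction r using Nat.strong_induction_on with
    | _ r ih =>
      intro hr hr' hJ
      by_cases hs : ∃ i < D.rank, r = D.simple i
      · obtain ⟨i, hi, rfl⟩ := hs
        apply hbase i hi
        intro hiJ
        exact hJ ((inRootSub_simple hT hR ha J ⟨i, hi⟩).2 hiJ)
      · push Not at hs
        obtain ⟨z, y, hz, hz', hy, hy', hzy, hcase⟩ := hReach r hr hr' hs
        have key : ∀ c ∈ D.commTerms z y, c.1 = r → ∀ t u : F, wordG hD (D.commWord F z y t u) ∈ X := by
          intro c hc hcr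
          have h1 := H46WCCT.commTerms_gt2 hO hz hy c hc
          obtain ⟨h2, α, β, hα, hβ, h3⟩ := commTerms_coef ha c hc
          rw [hcr] at h1 h3
          have h4 : ¬ D.InRootSub J z ∨ ¬ D.InRootSub J y := by
            by_contra hcon
            push Not at hcon
            apply hJ
            apply (inRootSub_iff ha J ⟨r, hr'⟩).2
            intro i hi hiJ
            have e1 := (inRootSub_iff ha J ⟨z, hz'⟩).1 hcon.1 i hi hiJ
            have e2 := (inRootSub_iff ha J ⟨y, hy'⟩).1 hcon.2 i hi hiJ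
            simp only at e1 e2 ⊢
            rw [h3 i hi, e1, e2]; ring
          apply H46WCCX.comm_mem hD X hX hz hz' hy hy' hzy
          rcases h4 with h | h
          · exact Or.inl (ih z h1.1 hz hz' h)
          · exact Or.inr (ih y h1.2 hy hy' h)
        rcases hcase with ⟨ε, hε, hc⟩ | ⟨A, B, ε, ε', i, j, hε, hε', hij, hc, hrAB, hAB, hcAB⟩
        · exact H46WCP12.one_term hD X hε hc (key (r, ε, 1, 1) (by rw [hc]; simp) rfl)
        · have hw : ∀ t u : F, wordG hD (D.commWord F z y t u) ∈ X := by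
            rcases hrAB with rfl | rfl
            · exact key (_, ε, 1, 1) (by rw [hc]; simp) rfl
            · exact key (_, ε', i, j) (by rw [hc]; simp) rfl
          have hA1 := H46WCCT.commTerms_gt2 hO hz hy (A, ε, 1, 1) (by rw [hc]; simp)
          have hB1 := H46WCCT.commTerms_gt2 hO hz hy (B, ε', i, j) (by rw [hc]; simp)
          have hA2 := (commTerms_coef ha (A, ε, 1, 1) (by rw [hc]; simp)).1
          have hB2 := (commTerms_coef ha (B, ε', i, j) (by rw [hc]; simp)).1
          simp only at hA1 hB1 hA2 hB2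
          have hneg : B ≠ D.neg A := by
            intro e
            have := (hT.neg_pos A hA2).1 (by rw [← e]; omega)
            omega
          intro t
          have := H46WCP12.two_terms hq hD X hε hε' hij hc hA2 hB2 hAB.symm hneg hcAB hw t
          rcases hrAB with rfl | rfl
          · exact this.1
          · exact this.2
  unfold ChevalleyDatum.unipotentRadical
  rw [closure_le]
  rintro g ⟨r, t, h1, h2, h3⟩
  have hr' : r < D.nroots := h1.1
  have : g = xG hD r t := Units.ext (by rw [h3, coe_xG])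
  rw [this]
  exact claim r ((hT.pos_iff r hr').1 h1) hr' h2 t

end Cfsg.Agent.Lib.H46WCInd
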