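import Cfsg.Agent.Lib.H46WCUkN

set_option autoImplicit false
set_option linter.unusedSectionVars false
set_option linter.unusedVariables false

namespace Cfsg.Agent.Lib.H46WCIsoH

open Subgroup Cfsg.Lie Cfsg.Lie.ChevalleyDatum
open Cfsg.Agent.Lib.Helper23Grp Cfsg.Agent.Lib.Helper23RG Cfsg.Agent.Lib.Helper23RG.RG
  Cfsg.Agent.Lib.Helper23Table Cfsg.Agent.Lib.Helper23Chev Cfsg.Agent.Lib.Helper22ChevRC
  Cfsg.Agent.Lib.Helper22ChevBasic Cfsg.Agent.Lib.Helper22ChevU Cfsg.Agent.Lib.Helper22ChevPar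
  Cfsg.Agent.Lib.H46WCDefs

variable {F : Type*} [Field F] {D : ChevalleyDatum} (hT : TableOK D) (hR : Rel D F)

/-- Head isolation for a fundamental root `k0 = D.simple i`.
Let `E := Helper46DZ7.extra hD hT hR` and `coef := E.coef i : S.U → F` (`Helper46DZ6`: `coef_mul`, `coef_unique`, `coef_spec`, `coef_x_self`; `H46BTCU.coef_inv'`-style lemmas are easy), `x ∉ Ui i ↔ coef x ≠ 0`.
Prove by induction on `k` (`D.nroots/2 ≤ k ≤ k0`): `∃ x ∈ X, x ∈ Uk k ∧ x ∉ Ui i`.  Start: `X ≤ U = Uk (nroots/2)` (`posUnipotent_eq_Uk`).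
Step `k < k0`: `x = xG k a * u`, `u ∈ Uk (k+1)` (`mem_Uk_split`), `h, c` from `hsep k`; `x' = h x h⁻¹ x⁻¹ = xG k a * (h u h⁻¹ u⁻¹) * (xG k a)⁻¹ ∈ Uk (k+1)` (`Uk_conj`), `x' ∈ X`, and
`coef x' = (c - 1) * coef x ≠ 0`: if `x = x_{k0}(t) * v`, `v ∈ Ui i`, then `h x h⁻¹ = x_{k0}(c t) * (h v h⁻¹)` and `h v h⁻¹ ∈ Ui i` (`RG.H_le_normalizer_XS`).
End `k = k0`: `x = xG k0 a * y` (`mem_Uk_split`), and `a ≠ 0` because `Uk (k0+1) ≤ Ui i` (generators: indices `> k0` are positive and `≠ simple i`; indices `≥ nroots` give `1`). -/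
theorem isoH (hD : Std D) (X : Subgroup (GL D.Idx F)) (hXU : X ≤ D.posUnipotent F) (hX : NB X) (i : Fin D.rank)
    (hsep : ∀ k, D.nroots / 2 ≤ k → k < D.simple i → SepH hD F (D.simple i) k)
    {x : GL D.Idx F} (hx : x ∈ X) (hxi : x ∉ (rg hT hR).Ui i) :
    ∃ a : F, a ≠ 0 ∧ ∃ y ∈ Uk (F := F) hD (D.simple i + 1), xG hD (D.simple i) a * y ∈ X := by
  have E := Helper46DZ7.extra hD hT hR
  have ok := rg_ok hT hR
  have hk0 : D.nroots / 2 ≤ D.simple i := hT.simple_pos i i.2
  have hxs : ∀ t : F, (rg hT hR).x ((rg hT hR).simple i) t = xG hD (D.simple i) t := fun t =>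
    xg_eq_xG hR hD _ t
  have key : ∀ k, D.nroots / 2 ≤ k → k ≤ D.simple i →
      ∃ x ∈ X, x ∈ Uk (F := F) hD k ∧ x ∉ (rg hT hR).Ui i := by
    intro k hk
    induction k, hk using Nat.le_induction with
    | base =>
      intro _
      exact ⟨x, hx, by rw [← posUnipotent_eq_Uk hD]; exact hXU hx, hxi⟩
    | succ k hk ih =>
      intro hk1
      obtain ⟨x, hx, hxk, hxi⟩ := ih (by omega)
      obtain ⟨a, u, hu, rfl⟩ := mem_Uk_split hD hk hxk
      obtain ⟨h, hh, c, hc, h1, h2⟩ := hsep k hk (by omega)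
      have hhB : h ∈ D.borelSubgroup F := by
        rw [← B_eq hT hR]
        apply RG.H_le_B
        rw [H_eq hT hR]
        exact hh
      refine ⟨h * (xG hD k a * u) * h⁻¹ * (xG hD k a * u)⁻¹,
        X.mul_mem (hX h hhB _ hx) (X.inv_mem hx), ?_, ?_⟩
      · have e : h * (xG hD k a * u) * h⁻¹ * (xG hD k a * u)⁻¹
            = xG hD k a * ((h * u * h⁻¹) * u⁻¹) * (xG hD k a)⁻¹ := by
          have : h * (xG hD k a * u) * h⁻¹ = (h * xG hD k a * h⁻¹) * (h * u * h⁻¹) := by group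
          rw [this, h1]
          group
        rw [e]
        apply conj_mem_Uk hD hk a
        exact (Uk hD (k + 1)).mul_mem (H46WCUkN.Uk_conj hD (by omega) h hhB u hu)
          ((Uk hD (k + 1)).inv_mem hu)
      · intro hmem
        have hxU : xG hD k a * u ∈ (rg hT hR).U := by
          rw [U_eq hT hR]; exact hXU hx
        obtain ⟨t, v, hv, e⟩ := (RG.mem_U_iff' ok i).1 hxU
        rw [hxs] at e
        have ht : t ≠ 0 := by
          rintro rfl
          rw [xG_zero, one_mul] at e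
          exact hxi (e ▸ hv)
        have hhv : h * v * h⁻¹ ∈ (rg hT hR).Ui i := by
          apply conj_mem_of_mem_normalizer (RG.H_le_normalizer_XS ok _ _) hv
          rw [H_eq hT hR]
          exact hh
        have e2 : h * (xG hD k a * u) * h⁻¹ * (xG hD k a * u)⁻¹
            = xG hD (D.simple i) (c * t - t) *
              (xG hD (D.simple i) t * ((h * v * h⁻¹) * v⁻¹) * (xG hD (D.simple i) t)⁻¹) := by
          rw [e]
          have : h * (xG hD (D.simple i) t * v) * h⁻¹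
              = (h * xG hD (D.simple i) t * h⁻¹) * (h * v * h⁻¹) := by group
          rw [this, h2, sub_eq_add_neg, ← xG_add, ← xG_inv]
          group
        have h3 : xG hD (D.simple i) t * ((h * v * h⁻¹) * v⁻¹) * (xG hD (D.simple i) t)⁻¹
            ∈ (rg hT hR).Ui i := by
          apply conj_mem_of_mem_normalizer (RG.X_le_normalizer_Ui ok i _)
            (((rg hT hR).Ui i).mul_mem hhv (((rg hT hR).Ui i).inv_mem hv))
          rw [← hxs]
          exact RG.x_mem_X _ _
        rw [e2] at hmem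
        have h4 : xG hD (D.simple i) (c * t - t) ∈ (rg hT hR).Ui i := by
          have := ((rg hT hR).Ui i).mul_mem hmem (((rg hT hR).Ui i).inv_mem h3)
          rwa [mul_inv_cancel_right] at this
        rw [← hxs] at h4
        have h5 := E.X_inf_Ui i (RG.x_mem_X _ _) h4
        have h6 := ok.x_inj _ _ h5
        have h7 : (c - 1) * t = 0 := by rw [← h6]; ring
        rcases mul_eq_zero.1 h7 with h8 | h8
        · exact hc (sub_eq_zero.1 h8)
        · exact ht h8
  obtain ⟨x, hx, hxk, hxi⟩ := key _ hk0 le_rfl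
  obtain ⟨a, y, hy, rfl⟩ := mem_Uk_split hD hk0 hxk
  refine ⟨a, ?_, y, hy, hx⟩
  rintro rfl
  rw [xG_zero, one_mul] at hxi
  apply hxi
  have hle : Uk (F := F) hD (D.simple i + 1) ≤ (rg hT hR).Ui i := by
    unfold Uk
    rw [Subgroup.closure_le]
    rintro g ⟨r, t, hr, rfl⟩
    by_cases hrn : r < D.nroots
    · rw [← xg_eq_xG hR hD]
      refine RG.x_mem_Ui (S := rg hT hR) (i := i) (r := ⟨r, hrn⟩) ?_ ?_ t
      · show D.nroots / 2 ≤ r
        omega
      · intro e
        have := congrArg Fin.val e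
        change r = D.simple i at this
        omega
    · rw [xG_eq_one hD hrn]
      exact one_mem _
  exact hle hy

end Cfsg.Agent.Lib.H46WCIsoH
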