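import Cfsg.Agent.Lib.H46WCUkN

set_option autoImplicit false
set_option linter.unusedSectionVars false
set_option linter.unusedVariables false

namespace Cfsg.Agent.Lib.H46WCIsoT

open Subgroup Cfsg.Lie Cfsg.Lie.ChevalleyDatum
open Cfsg.Agent.Lib.Helper23Grp Cfsg.Agent.Lib.Helper23RG Cfsg.Agent.Lib.Helper23RG.RG
  Cfsg.Agent.Lib.Helper23Table Cfsg.Agent.Lib.Helper23Chev Cfsg.Agent.Lib.Helper22ChevRC
  Cfsg.Agent.Lib.Helper22ChevBasic Cfsg.Agent.Lib.Helper22ChevU Cfsg.Agent.Lib.Helper22ChevPar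
  Cfsg.Agent.Lib.H46WCDefs

variable {F : Type*} [Field F] {D : ChevalleyDatum}

/-- Tail isolation.  Induction on `k1` (from `k0 + 1`, where `κ = 1`, `y' = y`).
Step `k1 → k1 + 1` (`k1 < D.nroots`): let `h, c` be given by `hsep k1`; new `κ' = (c - 1) * κ`.  Given `x = xG k0 b * y' ∈ X`, `y' ∈ Uk k1`, write `y' = xG k1 a' * u`, `u ∈ Uk (k1+1)` (`mem_Uk_split`).
Then `x' = h * x * h⁻¹ * x⁻¹ ∈ X` (`hX`, `h ∈ H ≤ B`) and
`x' = xG k0 (c*b) * xG k1 a' * (h u h⁻¹) * u⁻¹ * (xG k1 a')⁻¹ * (xG k0 b)⁻¹ = xG k0 ((c-1)*b) * (xG k0 b * w * (xG k0 b)⁻¹)` with `w = xG k1 a' * (h u h⁻¹ u⁻¹) * (xG k1 a')⁻¹ ∈ Uk (k1+1)`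
by `H46WCUkN.Uk_conj` (all of `h`, `xG k1 a'`, `xG k0 b` lie in `B`: `xG_mem_Uk`, `posUnipotent_eq_Uk`). `xG_add`, `xG_inv` for the `k0` part. -/
theorem isoT (hD : Std D) (X : Subgroup (GL D.Idx F)) (hX : NB X) {k0 : ℕ} (hk0 : D.nroots / 2 ≤ k0) :
    ∀ k1, k0 < k1 → k1 ≤ D.nroots → (∀ k, k0 < k → k < k1 → SepH hD F k0 k) →
    ∃ κ : F, κ ≠ 0 ∧ ∀ a : F, ∀ y ∈ Uk (F := F) hD (k0 + 1), xG hD k0 a * y ∈ X →
      ∃ y' ∈ Uk (F := F) hD k1, xG hD k0 (κ * a) * y' ∈ X := by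
  have hP := Cfsg.Agent.Lib.Helper22ChevTabs.posFacts hD
  have hxB : ∀ (j : ℕ) (c : F), D.nroots / 2 ≤ j → xG hD j c ∈ D.borelSubgroup F := by
    intro j c hj
    apply Subgroup.mem_sup_left
    rw [posUnipotent_eq_Uk hD]
    exact xG_mem_Uk hD hj c
  intro k1
  induction k1 with
  | zero => intro h; omega
  | succ k1 ih =>
    intro hk hkn hsep
    by_cases hkk : k0 = k1
    · subst hkk
      refine ⟨1, one_ne_zero, ?_⟩
      intro a y hy hxy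
      exact ⟨y, hy, by rwa [one_mul]⟩
    · have hk' : k0 < k1 := by omega
      obtain ⟨κ, hκ, H⟩ := ih hk' (by omega) (fun k h1 h2 => hsep k h1 (by omega))
      obtain ⟨h, hhH, c, hc1, hck, hck0⟩ := hsep k1 hk' (by omega)
      have hhB : h ∈ D.borelSubgroup F := Subgroup.mem_sup_right hhH
      refine ⟨(c - 1) * κ, mul_ne_zero (sub_ne_zero.mpr hc1) hκ, ?_⟩
      intro a y hy hxy
      obtain ⟨y', hy', hx'⟩ := H a y hy hxy
      obtain ⟨a', u, hu, rfl⟩ := mem_Uk_split hD (by omega : D.nroots / 2 ≤ k1) hy'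
      have hk1' : D.nroots / 2 ≤ k1 + 1 := by omega
      have hw0 : h * u * h⁻¹ * u⁻¹ ∈ Uk (F := F) hD (k1 + 1) :=
        mul_mem (Cfsg.Agent.Lib.H46WCUkN.Uk_conj hD hk1' h hhB u hu) (inv_mem hu)
      have hw1 := Cfsg.Agent.Lib.H46WCUkN.Uk_conj hD hk1' _ (hxB k1 a' (by omega)) _ hw0
      have hw2 := Cfsg.Agent.Lib.H46WCUkN.Uk_conj hD hk1' _ (hxB k0 (κ * a) hk0) _ hw1
      refine ⟨_, hw2, ?_⟩
      have hmem : h * (xG hD k0 (κ * a) * (xG hD k1 a' * u)) * h⁻¹ *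
          (xG hD k0 (κ * a) * (xG hD k1 a' * u))⁻¹ ∈ X :=
        X.mul_mem (hX h hhB _ hx') (X.inv_mem hx')
      have e1 : h * (xG hD k0 (κ * a) * (xG hD k1 a' * u)) * h⁻¹ =
          (h * xG hD k0 (κ * a) * h⁻¹) * (h * xG hD k1 a' * h⁻¹) * (h * u * h⁻¹) := by group
      have e2 : xG hD k0 (c * (κ * a)) = xG hD k0 ((c - 1) * κ * a) * xG hD k0 (κ * a) := by
        rw [xG_add]; congr 1; ring
      rw [e1, hck0, hck, e2] at hmem
      have e3 : xG hD k0 ((c - 1) * κ * a) * xG hD k0 (κ * a) * xG hD k1 a' * (h * u * h⁻¹) *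
          (xG hD k0 (κ * a) * (xG hD k1 a' * u))⁻¹ =
          xG hD k0 ((c - 1) * κ * a) * (xG hD k0 (κ * a) *
            (xG hD k1 a' * (h * u * h⁻¹ * u⁻¹) * (xG hD k1 a')⁻¹) * (xG hD k0 (κ * a))⁻¹) := by
        group
      rw [e3] at hmem
      exact hmem

end Cfsg.Agent.Lib.H46WCIsoT
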