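import Cfsg.Agent.Lib.H46WCTor
import Cfsg.Agent.Lib.H46WCPow
import Cfsg.Agent.Lib.H46WCIsoT
import Cfsg.Agent.Lib.H46WCIsoH
import Cfsg.Agent.Lib.H46WCFill
import Cfsg.Agent.Lib.H46WCInd

set_option autoImplicit false
set_option linter.unusedSectionVars false
set_option linter.unusedVariables false

namespace Cfsg.Agent.Lib.H46WCGen

open Subgroup Cfsg.Lie Cfsg.Lie.ChevalleyDatum
open Cfsg.Agent.Lib.Helper23Grp Cfsg.Agent.Lib.Helper23RG Cfsg.Agent.Lib.Helper23RG.RG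
  Cfsg.Agent.Lib.Helper23Table Cfsg.Agent.Lib.Helper23Chev Cfsg.Agent.Lib.Helper22ChevRC
  Cfsg.Agent.Lib.Helper22ChevBasic Cfsg.Agent.Lib.Helper22ChevU Cfsg.Agent.Lib.Helper22ChevPar
  Cfsg.Agent.Lib.H46WCDefs

variable {F : Type*} [Field F] [Fintype F] {D : ChevalleyDatum} (hT : TableOK D) (hR : Rel D F)

theorem sepH_of_sepW (hD : Std D) {k0 k : ℕ} {d : ℤ} (hk0 : k0 < D.nroots) (hk : k < D.nroots) (h : SepW D k0 k d)
    (hd : d ≠ 0) (hq : d.natAbs + 1 < Fintype.card F) : SepH hD F k0 k := by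
  obtain ⟨e, h1, h2⟩ := h
  obtain ⟨c, hc, hcd⟩ := H46WCPow.exists_zpow_ne_one (F := F) hd hq
  obtain ⟨h, hh, hact⟩ := H46WCTor.tor hD e hc
  refine ⟨h, hh, c ^ d, hcd, fun t => ?_, fun t => ?_⟩
  · rw [hact k hk, h1, zpow_zero, one_mul]
  · rw [hact k0 hk0, h2]

/-- isolation of a fundamental root subgroup -/
theorem simple_mem (hD : Std D) (X : Subgroup (GL D.Idx F)) (hXU : X ≤ D.posUnipotent F) (hX : NB X) (i : Fin D.rank)
    (hsep : ∀ k, D.nroots / 2 ≤ k → k < D.nroots → k ≠ D.simple i → SepH hD F (D.simple i) k)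
    {x : GL D.Idx F} (hx : x ∈ X) (hxi : x ∉ (rg hT hR).Ui i) (t : F) : xG hD (D.simple i) t ∈ X := by
  have hlt : D.simple i < D.nroots := hT.simple_lt i i.2
  have hpos : D.nroots / 2 ≤ D.simple i := (rg_ok hT hR).pos_simple i
  obtain ⟨a, ha, y, hy, hxy⟩ := H46WCIsoH.isoH hT hR hD X hXU hX i
    (fun k h1 h2 => hsep k h1 (lt_trans h2 hlt) (ne_of_lt h2)) hx hxi
  obtain ⟨κ, hκ, hiso⟩ := H46WCIsoT.isoT hD X hX hpos D.nroots hlt le_rfl
    (fun k h1 h2 => hsep k (by omega) h2 (ne_of_gt h1))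
  obtain ⟨y', hy', h'⟩ := hiso a y hy hxy
  obtain ⟨y'', hy'', h''⟩ := H46WCFill.fill hD X hX i (k1 := D.nroots) hlt (mul_ne_zero hκ ha) ⟨y', hy', h'⟩ t
  rw [Uk_eq_bot hD le_rfl, mem_bot] at hy''
  rw [hy'', mul_one] at h''
  exact h''

/-- the types other than `G₂` -/
theorem gen (hD : Std D) {b : ℕ} (hS : SepTab D b) (hb : b + 1 < Fintype.card F) (hq : 2 < Fintype.card F)
    (hReach : Reach D) (X : Subgroup (GL D.Idx F)) (hXU : X ≤ D.posUnipotent F) (hX : NB X) (J : Set ℕ)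
    (hJ : ∀ i : Fin D.rank, i.val ∉ J → ∃ x ∈ X, x ∉ (rg hT hR).Ui i) : D.unipotentRadical F J ≤ X := by
  refine H46WCInd.ind hq hD hReach X hX J (fun i hi hiJ t => ?_)
  obtain ⟨x, hx, hxi⟩ := hJ ⟨i, hi⟩ hiJ
  refine simple_mem hT hR hD X hXU hX ⟨i, hi⟩ (fun k h1 h2 h3 => ?_) hx hxi t
  obtain ⟨d, hd, hdb, hW⟩ := hS i hi k h1 h2 h3
  exact sepH_of_sepW hD (hT.simple_lt i hi) h2 hW hd (by omega)

end Cfsg.Agent.Lib.H46WCGen
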