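import Cfsg.Agent.Lib.H46WCDefs

set_option autoImplicit false
set_option maxRecDepth 1000000

/-! Table facts `Reach` of project WC (kernel checks with explicit witnesses). -/

namespace Cfsg.Agent.Lib.H46WCReach

open Cfsg.Lie Cfsg.Lie.ChevalleyDatum Cfsg.Agent.Lib.H46WCDefs

def G1 (D : ChevalleyDatum) (r z y : ℕ) (ε : ℤ) : Prop :=
  D.nroots / 2 ≤ z ∧ z < D.nroots ∧ D.nroots / 2 ≤ y ∧ y < D.nroots ∧ z ≠ y ∧ (ε = 1 ∨ ε = -1) ∧
    D.commTerms z y = [(r, ε, 1, 1)]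

def G2 (D : ChevalleyDatum) (r z y A B : ℕ) (ε ε' : ℤ) (i j : ℕ) : Prop :=
  D.nroots / 2 ≤ z ∧ z < D.nroots ∧ D.nroots / 2 ≤ y ∧ y < D.nroots ∧ z ≠ y ∧ (ε = 1 ∨ ε = -1) ∧ (ε' = 1 ∨ ε' = -1) ∧
    ((i = 1 ∧ j = 2) ∨ (i = 2 ∧ j = 1)) ∧ D.commTerms z y = [(A, ε, 1, 1), (B, ε', i, j)] ∧ (r = A ∨ r = B) ∧ A ≠ B ∧
    D.commTerms A B = []

def Chk (D : ChevalleyDatum) (W1 : List (ℕ × ℕ × ℕ × ℤ)) (W2 : List (ℕ × ℕ × ℕ × ℕ × ℕ × ℤ × ℤ × ℕ × ℕ)) : Prop :=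
  ∀ r < D.nroots, D.nroots / 2 ≤ r → (∃ i < D.rank, r = D.simple i) ∨
    (∃ p ∈ W1, p.1 = r ∧ G1 D r p.2.1 p.2.2.1 p.2.2.2) ∨
    (∃ p ∈ W2, p.1 = r ∧ G2 D r p.2.1 p.2.2.1 p.2.2.2.1 p.2.2.2.2.1 p.2.2.2.2.2.1 p.2.2.2.2.2.2.1 p.2.2.2.2.2.2.2.1 p.2.2.2.2.2.2.2.2)

instance (D : ChevalleyDatum) (r z y : ℕ) (ε : ℤ) : Decidable (G1 D r z y ε) := by unfold G1; infer_instance
instance (D : ChevalleyDatum) (r z y A B : ℕ) (ε ε' : ℤ) (i j : ℕ) : Decidable (G2 D r z y A B ε ε' i j) := by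
  unfold G2; infer_instance
instance (D : ChevalleyDatum) (W1 : List (ℕ × ℕ × ℕ × ℤ)) (W2 : List (ℕ × ℕ × ℕ × ℕ × ℕ × ℤ × ℤ × ℕ × ℕ)) :
    Decidable (Chk D W1 W2) := by unfold Chk; infer_instance

theorem reach_of {D : ChevalleyDatum} {W1 : List (ℕ × ℕ × ℕ × ℤ)} {W2 : List (ℕ × ℕ × ℕ × ℕ × ℕ × ℤ × ℤ × ℕ × ℕ)}
    (h : Chk D W1 W2) : Reach D := by
  intro r h1 h2 h3
  rcases h r h2 h1 with ⟨i, hi, e⟩ | ⟨p, _, _, a1, a2, a3, a4, a5, a6, a7⟩ |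
    ⟨p, _, _, a1, a2, a3, a4, a5, a6, a7, a8, a9, a10, a11, a12⟩
  · exact absurd e (h3 i hi)
  · exact ⟨_, _, a1, a2, a3, a4, a5, Or.inl ⟨_, a6, a7⟩⟩
  · exact ⟨_, _, a1, a2, a3, a4, a5, Or.inr ⟨_, _, _, _, _, _, a6, a7, a8, a9, a10, a11, a12⟩⟩

theorem reachB2 : Reach chevB2 :=
  reach_of (W1 := [])
    (W2 := [(6, 4, 5, 6, 7, 1, -1, 1, 2), (7, 4, 5, 6, 7, 1, -1, 1, 2)]) (by decide +kernel)

theorem reachD4 : Reach chevD4 :=
  reach_of (W1 := [(15, 12, 14, 1), (16, 13, 14, 1), (17, 12, 16, 1), (19, 14, 18, 1), (20, 12, 19, 1), (21, 13, 19, 1), (22, 12, 21, 1), (23, 14, 22, 1)])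
    (W2 := []) (by decide +kernel)

theorem reachF4 : Reach chevF4 :=
  reach_of (W1 := [(26, 24, 25, 1), (31, 24, 30, 1), (32, 25, 31, 1), (34, 27, 33, 1), (35, 28, 33, 1), (36, 29, 33, 1), (37, 27, 35, 1), (38, 27, 36, 1), (39, 28, 36, 1), (40, 27, 39, 1), (42, 24, 41, 1), (43, 25, 42, 1), (44, 33, 40, 1), (45, 30, 42, -1), (46, 25, 45, 1), (47, 24, 46, 1)])
    (W2 := [(28, 25, 27, 28, 30, 1, -1, 1, 2), (29, 24, 28, 29, 32, 1, -1, 1, 2), (30, 25, 27, 28, 30, 1, -1, 1, 2), (41, 25, 34, 35, 41, 1, 1, 1, 2)]) (by decide +kernel)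

theorem reachE6 : Reach chevE6 :=
  reach_of (W1 := [(38, 36, 37, 1), (40, 37, 39, 1), (41, 36, 40, 1), (43, 39, 42, 1), (44, 37, 43, 1), (45, 36, 44, 1), (47, 39, 46, 1), (48, 37, 47, 1), (49, 36, 48, 1), (50, 42, 47, 1), (51, 37, 50, 1), (52, 36, 51, 1), (53, 39, 51, 1), (54, 36, 53, 1), (55, 37, 54, 1), (57, 42, 56, 1), (58, 39, 57, 1), (59, 37, 58, 1), (60, 36, 59, 1), (61, 46, 58, 1), (62, 37, 61, 1), (63, 36, 62, 1), (64, 39, 62, 1), (65, 36, 64, 1), (66, 37, 65, 1), (67, 42, 64, 1), (68, 36, 67, 1), (69, 37, 68, 1), (70, 39, 69, 1), (71, 46, 70, 1)])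
    (W2 := []) (by decide +kernel)

theorem reachE7 : Reach chevE7 :=
  reach_of (W1 := [(65, 63, 64, 1), (67, 64, 66, 1), (68, 63, 67, 1), (70, 66, 69, 1), (71, 64, 70, 1), (72, 63, 71, 1), (74, 69, 73, 1), (75, 66, 74, 1), (76, 64, 75, 1), (77, 63, 76, 1), (79, 69, 78, 1), (80, 66, 79, 1), (81, 64, 80, 1), (82, 63, 81, 1), (83, 73, 79, 1), (84, 66, 83, 1), (85, 64, 84, 1), (86, 63, 85, 1), (87, 69, 84, 1), (88, 64, 87, 1), (89, 63, 88, 1), (90, 66, 88, 1), (91, 63, 90, 1), (92, 64, 91, 1), (94, 73, 93, 1), (95, 69, 94, 1), (96, 66, 95, 1), (97, 64, 96, 1), (98, 63, 97, 1), (99, 78, 95, 1), (100, 66, 99, 1), (101, 64, 100, 1), (102, 63, 101, 1), (103, 69, 100, 1), (104, 64, 103, 1), (105, 63, 104, 1), (106, 66, 104, 1), (107, 63, 106, 1), (108, 64, 107, 1), (109, 73, 103, 1), (110, 64, 109, 1), (111, 63, 110, 1), (112, 66, 110, 1), (113, 63, 112, 1), (114, 64, 113, 1), (115,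 69, 112, 1), (116, 63, 115, 1), (117, 64, 116, 1), (118, 66, 117, 1), (119, 78, 115, 1), (120, 63, 119, 1), (121, 64, 120, 1), (122, 66, 121, 1), (123, 69, 122, 1), (124, 73, 123, 1), (125, 93, 124, 1)])
    (W2 := []) (by decide +kernel)

theorem reachE8 : Reach chevE8 :=
  reach_of (W1 := [(122, 120, 121, 1), (124, 121, 123, 1), (125, 120, 124, 1), (127, 123, 126, 1), (128, 121, 127, 1), (129, 120, 128, 1), (131, 126, 130, 1), (132, 123, 131, 1), (133, 121, 132, 1), (134, 120, 133, 1), (136, 130, 135, 1), (137, 126, 136, 1), (138, 123, 137, 1), (139, 121, 138, 1), (140, 120, 139, 1), (142, 130, 141, 1), (143, 126, 142, 1), (144, 123, 143, 1), (145, 121, 144, 1), (146, 120, 145, 1), (147, 135, 142, 1), (148, 126, 147, 1), (149, 123, 148, 1), (150, 121, 149, 1), (151, 120, 150, 1), (152, 130, 148, 1), (153, 123, 152, 1), (154, 121, 153, 1), (155, 120, 154, 1), (156, 126,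 153, 1), (157, 121, 156, 1), (158, 120, 157, 1), (159, 123, 157, 1), (160, 120, 159, 1), (161, 121, 160, 1), (163, 135, 162, 1), (164, 130, 163, 1), (165, 126, 164, 1), (166, 123, 165, 1), (167, 121, 166, 1), (168, 120, 167, 1), (169, 141, 164, 1), (170, 126, 169, 1), (171, 123, 170, 1), (172, 121, 171, 1), (173, 120, 172, 1), (174, 130, 170, 1), (175, 123, 174, 1), (176, 121, 175, 1), (177, 120, 176, 1), (178, 126, 175, 1), (179, 121, 178, 1), (180, 120, 179, 1), (181, 123, 179, 1), (182, 120, 181, 1), (183, 121, 182, 1), (184, 135, 174, 1), (185, 123, 184, 1), (186, 121, 185, 1), (187, 120, 186, 1), (188, 126, 185, 1), (189, 121, 188, 1), (190, 120, 189, 1), (191, 123, 189, 1), (192, 120, 191, 1), (193, 121, 192, 1), (194, 130, 188, 1), (195, 121, 194, 1), (196, 120, 195, 1), (197, 123, 195, 1), (198, 120, 197, 1), (199, 121, 198, 1), (200, 126, 197, 1), (201, 120, 200,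 1), (202, 121, 201, 1), (203, 123, 202, 1), (204, 141, 194, 1), (205, 121, 204, 1), (206, 120, 205, 1), (207, 123, 205, 1), (208, 120, 207, 1), (209, 121, 208, 1), (210, 126, 207, 1), (211, 120, 210, 1), (212, 121, 211, 1), (213, 123, 212, 1), (214, 130, 210, 1), (215, 120, 214, 1), (216, 121, 215, 1), (217, 123, 216, 1), (218, 126, 217, 1), (219, 135, 214, 1), (220, 120, 219, 1), (221, 121, 220, 1), (222, 123, 221, 1), (223, 126, 222, 1), (224, 130, 223, 1), (225, 141, 224, 1), (226, 162, 219, 1), (227, 120, 226, 1), (228, 121, 227, 1), (229, 123, 228, 1), (230, 126, 229, 1), (231, 130, 230, 1), (232, 135, 231, 1), (233, 141, 231, 1), (234, 135, 233, 1), (235, 130, 234, 1), (236, 126, 235, 1), (237, 123, 236, 1), (238, 121, 237, 1), (239, 120, 238, 1)])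
    (W2 := []) (by decide +kernel)

end Cfsg.Agent.Lib.H46WCReach
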