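import Cfsg.Agent.Lib.H46WCDefs
import Cfsg.Agent.Lib.H46BTMain
import Cfsg.Agent.Lib.H46BTCUD

set_option autoImplicit false
set_option linter.unusedSectionVars false
set_option linter.unusedVariables false

namespace Cfsg.Agent.Lib.H46WCRed

open Subgroup Cfsg.Lie Cfsg.Lie.ChevalleyDatum
open Cfsg.Agent.Lib.Helper23Grp Cfsg.Agent.Lib.Helper23RG Cfsg.Agent.Lib.Helper23RG.RG
  Cfsg.Agent.Lib.Helper23Table Cfsg.Agent.Lib.Helper23Chev Cfsg.Agent.Lib.Helper22ChevRC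
  Cfsg.Agent.Lib.Helper22ChevBasic Cfsg.Agent.Lib.Helper22ChevU Cfsg.Agent.Lib.Helper22ChevPar
  Cfsg.Agent.Lib.H46WCDefs

variable {F : Type*} [Field F] [Fintype F] {D : ChevalleyDatum} (hT : TableOK D) (hR : Rel D F)

/-- Reduction by the Borel–Tits theorem.
(1) `NB X`: `b ∈ B ≤ G` (`B_eq`, `G_eq`, `RG.B_le_G`) normalises `U` (`U ⊴ B`: `RG.H_le_normalizer_XS`, `U ≤ N(U)`), so `X.map (conj b) ≤ U`, hence `= X` by `hwc`.
(2) `p := ringChar F` (prime, `CharP F p`), `X` is a `p`-group (`H46BTCUD.isPGroup_U p hD`, `IsPGroup.to_le`), `X ≤ U ≤ G`.  `H46BTMain.borel_tits p hD X _ _ hne` gives `g ∈ G`, `J₀` with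
`N(X) ⊓ G ≤ (P_{J₀}).map (conj g)` and `X ≤ (U_{J₀}).map (conj g)`.  Then `X.map (conj g⁻¹) ≤ U_{J₀} ≤ U` (`H46BTCUD.radical_le_U`), so `X.map (conj g⁻¹) = X` by `hwc`; so `g⁻¹`, hence `g`, normalises `X`;
`g ∈ (P_{J₀}).map (conj g)` means `g = g * π * g⁻¹`, `π ∈ P_{J₀}`, so `g = π ∈ P_{J₀}`, `(P_{J₀}).map (conj g) = P_{J₀}`; and `X = X.map (conj g⁻¹) ≤ U_{J₀}`.
(3) `J := {j ∈ J₀ | j < D.rank}`: `D.InRootSub J r ↔ D.InRootSub J₀ r` (definition), so `U_J = U_{J₀}`.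
(4) `i ∉ J`: `n := S.nn i ∈ G`.  If `n` normalised `X` then `n ∈ P_{J₀}` (`parabolic_eq`, `PJ`), which normalises `U_{J₀} = S.XS (ΨJ …)` (`PJ_le_normalizer hT hR ha hD J₀`, `radical_eq`), but `S.x (S.simple i) 1 ∈ U_{J₀}` (`inRootSub_simple`)
and `n * S.x (simple i) 1 * n⁻¹ = S.x (neg (simple i)) (η)` (`ok.n_conj`, `ok.refl_simple`) lies in `V`, not in `U` (`hBV hT hR`, `ok.x_inj`, `η_ne_zero`).  So `X.map (conj n) ≠ X`, hence `¬ X.map (conj n) ≤ U` by `hwc`: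
some `x ∈ X` has `n x n⁻¹ ∉ U`; as `n` normalises `S.Ui i ≤ U` (`RG.nn_mem_normalizer_Ui`, `RG.Ui_le_U`), `x ∉ S.Ui i`. -/
theorem red (hD : Std D) (X : Subgroup (GL D.Idx F)) (hXU : X ≤ D.posUnipotent F)
    (hwc : ∀ g ∈ D.group F, X.map (MulAut.conj g).toMonoidHom ≤ D.posUnipotent F → X.map (MulAut.conj g).toMonoidHom = X)
    (hne : X ≠ ⊥) :
    NB X ∧ ∃ J : Set ℕ, (∀ j ∈ J, j < D.rank) ∧ X ≤ D.unipotentRadical F J ∧
      ∀ i : Fin D.rank, i.val ∉ J → ∃ x ∈ X, x ∉ (rg hT hR).Ui i := by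
  classical
  have ok := rg_ok hT hR
  obtain ⟨a, ha⟩ := Helper22ChevRC.exists_rc hD
  have hmem : ∀ g, X.map (MulAut.conj g).toMonoidHom = X → ∀ x ∈ X, g * x * g⁻¹ ∈ X := by
    intro g h x hx
    have : g * x * g⁻¹ ∈ X.map (MulAut.conj g).toMonoidHom := ⟨x, hx, rfl⟩
    rwa [h] at this
  have hnorm : ∀ k, X.map (MulAut.conj k).toMonoidHom = X → k ∈ normalizer (X : Set (GL D.Idx F)) := by
    intro k h
    rw [mem_normalizer_iff]
    intro y
    constructor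
    · intro hy
      exact hmem k h y hy
    · intro hy
      rw [← h] at hy
      obtain ⟨z, hz, e⟩ := hy
      have e' : k * z * k⁻¹ = k * y * k⁻¹ := e
      have : z = y := by simpa using e'
      exact this ▸ hz
  have hBU : ∀ b ∈ D.borelSubgroup F, ∀ u ∈ D.posUnipotent F, b * u * b⁻¹ ∈ D.posUnipotent F := by
    have hle : (rg hT hR).B ≤ normalizer ((rg hT hR).U : Set (GL D.Idx F)) :=
      sup_le le_normalizer (H_le_normalizer_XS ok _)
    intro b hb u hu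
    rw [← B_eq hT hR] at hb
    rw [← Helper23Chev.U_eq hT hR] at hu ⊢
    exact (mem_normalizer_iff.1 (hle hb) u).1 hu
  have hBG : D.borelSubgroup F ≤ D.group F := by
    rw [← B_eq hT hR, ← G_eq hT hR]
    exact RG.B_le_G ok
  have hUG : D.posUnipotent F ≤ D.group F := by
    rw [← Helper23Chev.U_eq hT hR, ← G_eq hT hR]
    exact RG.U_le_B.trans (RG.B_le_G ok)
  refine ⟨?_, ?_⟩
  · intro b hb x hx
    apply hmem b _ x hx
    apply hwc b (hBG hb)
    rintro _ ⟨y, hy, rfl⟩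
    exact hBU b hb y (hXU hy)
  have : Fact (ringChar F).Prime := ⟨CharP.char_is_prime F (ringChar F)⟩
  obtain ⟨g, hg, J₀, -, hN, hXJ⟩ := H46BTMain.borel_tits (ringChar F) hD X (hXU.trans hUG)
    ((H46BTCUD.isPGroup_U (ringChar F) hD).to_le hXU) hne
  have h1 : X.map (MulAut.conj g⁻¹).toMonoidHom = X := by
    apply hwc g⁻¹ (inv_mem hg)
    rintro _ ⟨y, hy, rfl⟩
    obtain ⟨u, hu, e⟩ := hXJ hy
    have e' : g * u * g⁻¹ = y := e
    have : (MulAut.conj g⁻¹).toMonoidHom y = u := by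
      show g⁻¹ * y * g⁻¹⁻¹ = u
      rw [← e']; group
    rw [this]
    exact H46BTCUD.radical_le_U J₀ hu
  have hXJ0 : X ≤ D.unipotentRadical F J₀ := by
    intro x hx
    rw [← h1] at hx
    obtain ⟨y, hy, e⟩ := hx
    obtain ⟨u, hu, e2⟩ := hXJ hy
    have e' : g⁻¹ * y * g⁻¹⁻¹ = x := e
    have e2' : g * u * g⁻¹ = y := e2
    have : x = u := by rw [← e', ← e2']; group
    rw [this]; exact hu
  have hgN : g ∈ normalizer (X : Set (GL D.Idx F)) := by
    have := inv_mem (hnorm _ h1)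
    rwa [inv_inv] at this
  have hgP : g ∈ D.parabolicSubgroup F J₀ := by
    obtain ⟨π, hπ, e⟩ := hN (mem_inf.2 ⟨hgN, hg⟩)
    have e' : g * π * g⁻¹ = g := e
    have : π = g := by
      have h2 : g * π = g * g := by
        calc g * π = (g * π * g⁻¹) * g := by group
          _ = g * g := by rw [e']
      exact mul_left_cancel h2
    rwa [this] at hπ
  have hNP : ∀ k ∈ normalizer (X : Set (GL D.Idx F)), k ∈ D.group F → k ∈ D.parabolicSubgroup F J₀ := by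
    intro k hk hkG
    obtain ⟨π, hπ, e⟩ := hN (mem_inf.2 ⟨hk, hkG⟩)
    have e' : g * π * g⁻¹ = k := e
    rw [← e']
    exact mul_mem (mul_mem hgP hπ) (inv_mem hgP)
  have hiff : ∀ r, D.InRootSub {j | j ∈ J₀ ∧ j < D.rank} r ↔ D.InRootSub J₀ r := by
    intro r
    unfold ChevalleyDatum.InRootSub
    constructor
    · rintro ⟨h, h'⟩
      exact ⟨h, fun i hi hiJ => h' i hi (fun hh => hiJ hh.1)⟩
    · rintro ⟨h, h'⟩
      exact ⟨h, fun i hi hiJ => h' i hi (fun hh => hiJ ⟨hh, hi⟩)⟩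
  refine ⟨{j | j ∈ J₀ ∧ j < D.rank}, fun j hj => hj.2, ?_, ?_⟩
  · have : D.unipotentRadical F {j | j ∈ J₀ ∧ j < D.rank} = D.unipotentRadical F J₀ := by
      unfold ChevalleyDatum.unipotentRadical
      simp only [hiff]
    rw [this]; exact hXJ0
  · intro i hi
    have hi0 : i.val ∉ J₀ := fun h => hi ⟨h, i.2⟩
    have hnG : (rg hT hR).nn i ∈ D.group F := by
      rw [← G_eq hT hR]
      exact RG.N_le_G ok (RG.nn_mem_N i)
    have hnot : ¬ X.map (MulAut.conj ((rg hT hR).nn i)).toMonoidHom ≤ D.posUnipotent F := by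
      intro hle
      have h2 := hwc _ hnG hle
      have h3 : (rg hT hR).nn i ∈ PJ hT hR J₀ := by
        have := hNP _ (hnorm _ h2) hnG
        rw [parabolic_eq hT hR] at this
        exact this
      have h4 := PJ_le_normalizer hT hR ha hD J₀ h3
      have h5 : (rg hT hR).x ((rg hT hR).simple i) 1 ∈ (rg hT hR).XS (ΨJ hT hR J₀) :=
        subset_closure ⟨_, 1, ⟨ok.pos_simple i, fun h => hi0 ((inRootSub_simple hT hR ha J₀ i).1 h)⟩, rfl⟩
      have h6 := (mem_normalizer_iff.1 h4 _).1 h5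
      rw [ok.n_conj, ok.refl_simple] at h6
      have h7 : (rg hT hR).XS (ΨJ hT hR J₀) ≤ (rg hT hR).B :=
        (RG.XS_mono (fun r hr => hr.1)).trans RG.U_le_B
      have h8 : (rg hT hR).x ((rg hT hR).neg ((rg hT hR).simple i)) ((rg hT hR).η i ((rg hT hR).simple i) * 1) ∈ (rg hT hR).V :=
        subset_closure ⟨_, _, (ok.pos_neg _).not.2 (not_not.2 (ok.pos_simple i)), rfl⟩
      have h9 := ok.x_inj _ _ (hBV hT hR _ (h7 h6) h8)
      rcases ok.η_sq i ((rg hT hR).simple i) with h | h <;> rw [h] at h9 <;> simp at h9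
    rw [SetLike.not_le_iff_exists] at hnot
    obtain ⟨_, ⟨x, hx, rfl⟩, hxU⟩ := hnot
    refine ⟨x, hx, fun hxi => hxU ?_⟩
    have := (mem_normalizer_iff.1 (RG.nn_mem_normalizer_Ui ok i) x).1 hxi
    rw [← Helper23Chev.U_eq hT hR]
    exact RG.Ui_le_U ok i this

end Cfsg.Agent.Lib.H46WCRed
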