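import Cfsg.Agent.Lib.H46WCDefs

set_option autoImplicit false
set_option linter.unusedSectionVars false
set_option linter.unusedVariables false

namespace Cfsg.Agent.Lib.H46WCTor

open Subgroup Cfsg.Lie Cfsg.Lie.ChevalleyDatum
open Cfsg.Agent.Lib.Helper23Grp Cfsg.Agent.Lib.Helper23RG Cfsg.Agent.Lib.Helper23RG.RG
  Cfsg.Agent.Lib.Helper23Table Cfsg.Agent.Lib.Helper23Chev Cfsg.Agent.Lib.Helper22ChevRC
  Cfsg.Agent.Lib.Helper22ChevBasic Cfsg.Agent.Lib.Helper22ChevU Cfsg.Agent.Lib.Helper22ChevPar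
  Cfsg.Agent.Lib.H46WCDefs

variable {F : Type*} [Field F] {D : ChevalleyDatum}

/-- The torus element of the cocharacter `e` with parameter `c`. -/
theorem tor (hD : Std D) (e : ℕ → ℤ) {c : F} (hc : c ≠ 0) :
    ∃ h ∈ D.diagonalSubgroup F, ∀ r < D.nroots, ∀ t : F, h * xG hD r t * h⁻¹ = xG hD r (c ^ pairE D e r * t) := by
  have hT := Cfsg.Agent.Lib.Helper23Tab.tableOK_of_mem hD
  have hR : Rel D F := Cfsg.Agent.Lib.Helper22ChevRel.rel_of_mem hD
  have ok := rg_ok hT hR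
  have key : ∀ n, n ≤ D.rank → ∃ h ∈ (rg hT hR).H, ∀ (r : Fin D.nroots) (t : F),
      h * (rg hT hR).x r t * h⁻¹ =
        (rg hT hR).x r (c ^ (((List.range n).map fun j => e j * D.cartan j r.val).sum) * t) := by
    intro n
    induction n with
    | zero =>
      intro _
      exact ⟨1, one_mem _, fun r t => by simp⟩
    | succ n ih =>
      intro hn
      obtain ⟨h, hh, hact⟩ := ih (by omega)
      have hcn : c ^ e n ≠ 0 := zpow_ne_zero _ hc
      refine ⟨h * (rg hT hR).hE ((rg hT hR).simple ⟨n, by omega⟩) (c ^ e n),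
        mul_mem hh (hE_mem_H _ hcn), fun r t => ?_⟩
      have h1 := ok.h_conj ⟨n, by omega⟩ r (c ^ e n) t hcn
      have hA : (rg hT hR).A ⟨n, by omega⟩ r = D.cartan n r.val := rfl
      rw [hA] at h1
      rw [mul_inv_rev]
      have e1 : h * (rg hT hR).hE ((rg hT hR).simple ⟨n, by omega⟩) (c ^ e n) * (rg hT hR).x r t *
          (((rg hT hR).hE ((rg hT hR).simple ⟨n, by omega⟩) (c ^ e n))⁻¹ * h⁻¹) =
          h * ((rg hT hR).hE ((rg hT hR).simple ⟨n, by omega⟩) (c ^ e n) * (rg hT hR).x r t *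
          ((rg hT hR).hE ((rg hT hR).simple ⟨n, by omega⟩) (c ^ e n))⁻¹) * h⁻¹ := by group
      rw [e1, h1, hact]
      congr 1
      rw [List.range_succ, List.map_append, List.sum_append, zpow_add₀ hc, ← zpow_mul]
      simp [mul_assoc]
  obtain ⟨h, hh, hact⟩ := key D.rank le_rfl
  refine ⟨h, by rw [← H_eq hT hR]; exact hh, fun r hr t => ?_⟩
  have := hact ⟨r, hr⟩ t
  have e1 : ∀ s : F, (rg hT hR).x ⟨r, hr⟩ s = xG hD r s := fun s => xg_eq_xG hR hD r s
  rw [e1, e1] at this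
  exact this

end Cfsg.Agent.Lib.H46WCTor
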