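import Mathlib
import Cfsg.Agent.Lib.H49SoDefs
import Cfsg.Agent.Lib.H49SpDefs
import Cfsg.Agent.Lib.H49SpXDefs
import Cfsg.Agent.Lib.H49SpXProj
import Cfsg.Agent.Lib.H49SpXLe

set_option autoImplicit false

/-! Project 2548 (Steinberg character of `POmega+_{2m}(q)`), piece `XInvB` (50m).

Same statement as XInvA (RACE; see the notes of XInvA for three methods; please try method 2 or 3 or your own here). -/

namespace Cfsg.Agent.Lib.H49SpXInvB

open Matrix Cfsg.Agent.Lib.H49SoDefs Cfsg.Agent.Lib.H49SpDefs Cfsg.Agent.Lib.H49SpXDefs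
open Cfsg.Agent.Lib.H49SuDefs (Tri UT Dg Mon Tri_one Tri_mul UT_one UT_mul Dg_one Dg_mul Mon_one Mon_mul Mon_uniq sgm Inv CL)
open Cfsg.Agent.Lib.H49SpXProj Cfsg.Agent.Lib.H49SpXLe

variable {n : ℕ} {F : Type*} [Field F]

theorem exists_mul' {O : Type*} [Group O] (A B : Subgroup O) (hc : ∀ a ∈ A, ∀ b ∈ B, a * b = b * a) {x : O} (hx : x ∈ A ⊔ B) :
    ∃ a ∈ A, ∃ b ∈ B, x = a * b := by
  rw [Subgroup.sup_eq_closure] at hx
  induction hx using Subgroup.closure_induction with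
  | mem x hx =>
    rcases hx with h | h
    · exact ⟨x, h, 1, B.one_mem, by simp⟩
    · exact ⟨1, A.one_mem, x, h, by simp⟩
  | one => exact ⟨1, A.one_mem, 1, B.one_mem, by simp⟩
  | mul x y _ _ hx hy =>
    obtain ⟨a, ha, b, hb, rfl⟩ := hx
    obtain ⟨a', ha', b', hb', rfl⟩ := hy
    refine ⟨a * a', A.mul_mem ha ha', b * b', B.mul_mem hb hb', ?_⟩
    calc a * b * (a' * b') = a * (b * a') * b' := by group
      _ = a * (a' * b) * b' := by rw [hc a' ha' b hb]
      _ = _ := by group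
  | inv x _ hx =>
    obtain ⟨a, ha, b, hb, rfl⟩ := hx
    refine ⟨a⁻¹, A.inv_mem ha, b⁻¹, B.inv_mem hb, ?_⟩
    rw [_root_.mul_inv_rev, hc a⁻¹ (A.inv_mem ha) b⁻¹ (B.inv_mem hb)]

theorem sign_invol {α : Type*} [Fintype α] [DecidableEq α] (σ : Equiv.Perm α) (h : σ ^ 2 = 1)
    (hs : σ.support.card = 6) : Equiv.Perm.sign σ = -1 := by
  have h2 : ∀ n ∈ σ.cycleType, n = 2 := by
    intro n hn
    exact le_antisymm (Nat.le_of_dvd zero_lt_two <| (Equiv.Perm.dvd_of_mem_cycleType hn).trans <|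
      orderOf_dvd_of_pow_eq_one h) (Equiv.Perm.two_le_of_mem_cycleType hn)
  have h3 := Multiset.eq_replicate_card.2 h2
  have h4 := σ.sum_cycleType
  rw [h3, Multiset.sum_replicate, hs] at h4
  have h5 : Multiset.card σ.cycleType = 3 := by
    simp only [smul_eq_mul] at h4
    omega
  rw [Equiv.Perm.sign_of_cycleType, h3, h5]
  decide

theorem not_mem {O : Type*} [Group O] [Finite O] (A B : Subgroup O) (eA : A ≃* Equiv.Perm (Fin 3)) (eB : B ≃* Equiv.Perm (Fin 3))
    (hAB : A ⊓ B = ⊥) (hc : ∀ a ∈ A, ∀ b ∈ B, a * b = b * a) (hi : (A ⊔ B).index = 2) (g : O)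
    (hg : A.map (MulAut.conj g).toMonoidHom = B) (b : O) (hb : b ∈ B) (h2 : orderOf b = 2) : b ∉ commutator O := by
  classical
  have := Fintype.ofFinite (O ⧸ A)
  have := Fintype.ofFinite B
  let s : O →* ℤˣ := Equiv.Perm.sign.comp (MulAction.toPermHom O (O ⧸ A))
  intro hbc
  have h1 : s b = 1 := (Abelianization.commutator_subset_ker s) hbc
  have hb1 : b ≠ 1 := by
    rintro rfl
    rw [orderOf_one] at h2
    norm_num at h2
  have hbb : b ^ 2 = 1 := by rw [← h2]; exact pow_orderOf_eq_one b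
  have htriv : ∀ y, y ∈ A → y ∈ B → y = 1 := by
    intro y h3 h4
    have : y ∈ A ⊓ B := ⟨h3, h4⟩
    rwa [hAB, Subgroup.mem_bot] at this
  have hgD : g ∉ A ⊔ B := by
    intro hgD
    obtain ⟨a0, ha0, b0, hb0, rfl⟩ := exists_mul' A B hc hgD
    rw [← hg] at hb
    obtain ⟨a, ha, rfl⟩ := hb
    apply hb1
    apply htriv
    · show a0 * b0 * a * (a0 * b0)⁻¹ ∈ A
      have e : a0 * b0 * a * (a0 * b0)⁻¹ = a0 * a * a0⁻¹ := by
        have := hc a ha b0 hb0
        calc a0 * b0 * a * (a0 * b0)⁻¹ = a0 * (b0 * a) * b0⁻¹ * a0⁻¹ := by group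
          _ = a0 * (a * b0) * b0⁻¹ * a0⁻¹ := by rw [this]
          _ = a0 * a * a0⁻¹ := by group
      rw [e]
      exact A.mul_mem (A.mul_mem ha0 ha) (A.inv_mem ha0)
    · rw [← hg]; exact ⟨a, ha, rfl⟩
  have F1 : ∀ x, x ∉ A ⊔ B → x⁻¹ * b⁻¹ * x ∈ A := by
    intro x hx
    have hd : g⁻¹ * x ∈ A ⊔ B := by
      rw [Subgroup.mul_mem_iff_of_index_two hi, Subgroup.inv_mem_iff]
      exact iff_of_false hgD hx
    obtain ⟨a1, ha1, b1, hb1', hd'⟩ := exists_mul' A B hc hd
    have hb' := hb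
    rw [← hg] at hb'
    obtain ⟨a2, ha2, rfl⟩ := hb'
    have hx' : x = g * (a1 * b1) := by rw [← hd']; group
    have hw : a1⁻¹ * a2⁻¹ * a1 ∈ A := A.mul_mem (A.mul_mem (A.inv_mem ha1) (A.inv_mem ha2)) ha1
    have hcw := hc _ hw b1 hb1'
    have e : x⁻¹ * ((MulAut.conj g).toMonoidHom a2)⁻¹ * x = a1⁻¹ * a2⁻¹ * a1 := by
      show x⁻¹ * (g * a2 * g⁻¹)⁻¹ * x = _
      rw [hx']
      calc (g * (a1 * b1))⁻¹ * (g * a2 * g⁻¹)⁻¹ * (g * (a1 * b1))
          = b1⁻¹ * ((a1⁻¹ * a2⁻¹ * a1) * b1) := by group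
        _ = b1⁻¹ * (b1 * (a1⁻¹ * a2⁻¹ * a1)) := by rw [hcw]
        _ = _ := by group
    rw [e]
    exact hw
  set σ := MulAction.toPermHom O (O ⧸ A) b with hσ
  have hσ2 : σ ^ 2 = 1 := by rw [hσ, ← map_pow, hbb, map_one]
  have hσa : ∀ x : O, σ (x : O ⧸ A) = ((b * x : O) : O ⧸ A) := fun x => rfl
  have hsupp : σ.support = Finset.univ.image (fun b' : B => ((b' : O) : O ⧸ A)) := by
    ext q
    induction q using QuotientGroup.induction_on with
    | H x =>
      rw [Equiv.Perm.mem_support, hσa, Finset.mem_image]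
      constructor
      · intro hne
        have hxD : x ∈ A ⊔ B := by
          by_contra hx
          apply hne
          rw [QuotientGroup.eq]
          have := F1 x hx
          have e : (b * x)⁻¹ * x = x⁻¹ * b⁻¹ * x := by group
          rw [e]; exact this
        obtain ⟨a1, ha1, b1, hb1', rfl⟩ := exists_mul' A B hc hxD
        refine ⟨⟨b1, hb1'⟩, Finset.mem_univ _, ?_⟩
        rw [QuotientGroup.eq, hc a1 ha1 b1 hb1']
        have e : b1⁻¹ * (b1 * a1) = a1 := by group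
        show b1⁻¹ * (b1 * a1) ∈ A
        rw [e]; exact ha1
      · rintro ⟨b', -, hb'⟩
        have hb'' : ((b' : O) : O ⧸ A) = (x : O ⧸ A) := hb'
        rw [← hσa, ← hb'', hσa]
        intro heq
        rw [QuotientGroup.eq] at heq
        have hB : (b * (b' : O))⁻¹ * (b' : O) ∈ B :=
          B.mul_mem (B.inv_mem (B.mul_mem hb b'.2)) b'.2
        have := htriv _ heq hB
        apply hb1
        have e : b = (b' : O) * ((b * (b' : O))⁻¹ * (b' : O))⁻¹ * (b' : O)⁻¹ := by group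
        rw [e, this]; group
  have hcard : σ.support.card = 6 := by
    rw [hsupp, Finset.card_image_of_injective, Finset.card_univ, ← Nat.card_eq_fintype_card,
      Nat.card_congr eB.toEquiv, Nat.card_eq_fintype_card, Fintype.card_perm, Fintype.card_fin]
    · rfl
    · intro b1 b2 h
      have h' : ((b1 : O) : O ⧸ A) = ((b2 : O) : O ⧸ A) := h
      rw [QuotientGroup.eq] at h'
      have := htriv _ h' (B.mul_mem (B.inv_mem b1.2) b2.2)
      apply Subtype.ext
      exact (inv_mul_eq_one.1 this)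
  have h3 : s b = -1 := sign_invol σ hσ2 hcard
  rw [h1] at h3
  exact absurd h3 (by decide)

end Cfsg.Agent.Lib.H49SpXInvB
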