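import Mathlib
import Cfsg.Prelude.Def_Characters

/-!
# Vocabulary for project 4573 (S4573, Dade: every finite solvable group embeds in an M-group)
`W = H ≀ᵣ Q` is Mathlib's `RegularWreathProduct H Q`: pairs `⟨left : Q → H, right : Q⟩` with
`a * b = ⟨a.left * fun x => b.left (a.right⁻¹ * x), a.right * b.right⟩`.
-/

set_option autoImplicit false

namespace Cfsg.Agent.Lib.H4MgDefs

open RegularWreathProduct

/-- `M` is an M-group. -/
def IsM (M : Type*) [Group M] [Fintype M] : Prop :=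
  ∀ χ : M → ℂ, Cfsg.IsIrrCharacter M χ →
    ∃ (H : Subgroup M) (lam : ↥H →* ℂˣ), χ = Cfsg.indFun H (fun h => ((lam h : ℂˣ) : ℂ))

variable {H Q : Type*} [Group H] [Group Q]

/-- the base group of the wreath product. -/
def base (H Q : Type*) [Group H] [Group Q] : Subgroup (H ≀ᵣ Q) :=
  (rightHom : H ≀ᵣ Q →* Q).ker

instance base_normal : (base H Q).Normal := MonoidHom.normal_ker _

theorem mem_base {w : H ≀ᵣ Q} : w ∈ base H Q ↔ w.right = 1 := Iff.rfl

/-- the subgroup `∏_q U q` of the base group. -/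
def prodSub (U : Q → Subgroup H) : Subgroup (H ≀ᵣ Q) where
  carrier := {w | w.right = 1 ∧ ∀ q, w.left q ∈ U q}
  one_mem' := ⟨rfl, fun q => (U q).one_mem⟩
  mul_mem' := by
    rintro a b ⟨ha1, ha2⟩ ⟨hb1, hb2⟩
    refine ⟨by simp [ha1, hb1], fun q => ?_⟩
    simp only [mul_left, Pi.mul_apply, ha1, inv_one, one_mul]
    exact (U q).mul_mem (ha2 q) (hb2 q)
  inv_mem' := by
    rintro a ⟨ha1, ha2⟩
    refine ⟨by simp [ha1], fun q => ?_⟩
    simp only [inv_left, Pi.inv_apply, ha1, one_mul]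
    exact (U q).inv_mem (ha2 q)

theorem mem_prodSub {U : Q → Subgroup H} {w : H ≀ᵣ Q} :
    w ∈ prodSub U ↔ w.right = 1 ∧ ∀ q, w.left q ∈ U q := Iff.rfl

/-- the subgroup `U ≀ Q`. -/
def wrSub (Q : Type*) [Group Q] (U : Subgroup H) : Subgroup (H ≀ᵣ Q) where
  carrier := {w | ∀ q, w.left q ∈ U}
  one_mem' := fun _ => U.one_mem
  mul_mem' := by
    intro a b ha hb q
    simp only [mul_left, Pi.mul_apply]
    exact U.mul_mem (ha q) (hb _)
  inv_mem' := by
    intro a ha q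
    simp only [inv_left, Pi.inv_apply]
    exact U.inv_mem (ha _)

theorem mem_wrSub {U : Subgroup H} {w : H ≀ᵣ Q} : w ∈ wrSub Q U ↔ ∀ q, w.left q ∈ U := Iff.rfl

/-- the linear character `∏_q l q` of `∏_q U q`. -/
noncomputable def prodHom [Fintype Q] (U : Q → Subgroup H) (l : ∀ q, ↥(U q) →* ℂˣ) :
    ↥(prodSub U) →* ℂˣ where
  toFun w := ∏ q, l q ⟨w.1.left q, w.2.2 q⟩
  map_one' := by
    apply Finset.prod_eq_one
    intro q _
    exact (l q).map_one
  map_mul' := by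
    intro a b
    rw [← Finset.prod_mul_distrib]
    apply Finset.prod_congr rfl
    intro q _
    rw [← map_mul]
    congr 1
    apply Subtype.ext
    simp [a.2.1]

theorem prodHom_apply [Fintype Q] (U : Q → Subgroup H) (l : ∀ q, ↥(U q) →* ℂˣ)
    (w : ↥(prodSub U)) : prodHom U l w = ∏ q, l q ⟨w.1.left q, w.2.2 q⟩ := rfl

/-- the linear character `w ↦ ∏_q l (w.left q)` of `U ≀ Q`. -/
noncomputable def wrHom [Fintype Q] (U : Subgroup H) (l : ↥U →* ℂˣ) : ↥(wrSub Q U) →* ℂˣ where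
  toFun w := ∏ q, l ⟨w.1.left q, w.2 q⟩
  map_one' := by
    apply Finset.prod_eq_one
    intro q _
    exact l.map_one
  map_mul' := by
    intro a b
    have h1 : ∏ q, l ⟨b.1.left q, b.2 q⟩ =
        ∏ q, l ⟨b.1.left (a.1.right⁻¹ * q), b.2 _⟩ :=
      (Equiv.prod_comp (Equiv.mulLeft a.1.right⁻¹) (fun q => l ⟨b.1.left q, b.2 q⟩)).symm
    rw [h1, ← Finset.prod_mul_distrib]
    apply Finset.prod_congr rfl
    intro q _
    rw [← map_mul]
    congr 1

theorem wrHom_apply [Fintype Q] (U : Subgroup H) (l : ↥U →* ℂˣ) (w : ↥(wrSub Q U)) :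
    wrHom U l w = ∏ q, l ⟨w.1.left q, w.2 q⟩ := rfl

end Cfsg.Agent.Lib.H4MgDefs
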