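import Mathlib
import Cfsg.Agent.Lib.H4MgDefs
import Cfsg.Agent.Lib.H4MgPiAll
import Cfsg.Agent.Lib.Helper83Char

/-!
# Project 4573, piece `BaseIrr`
-/

set_option autoImplicit false

namespace Cfsg.Agent.Lib.H4MgBaseIrr

open Cfsg RegularWreathProduct Cfsg.Agent.Lib.H4MgDefs

/-- Irreducible characters of the base group.
The map `e : (Q → H) ≃* base H Q`, `a ↦ ⟨⟨a, 1⟩, rfl⟩` is an isomorphism (`mul_def`, `inv_one`, `one_mul`).
`Helper83Char.irr_comp_mulEquiv e hθ : IsIrrCharacter (Q → H) (θ ∘ e)`; apply `H4MgPiAll.irr_pi`;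
every `b : base H Q` is `e b.1.left` (`RegularWreathProduct.ext`, `b.2 : b.1.right = 1`). -/
theorem base_irr {H Q : Type*} [Group H] [Group Q] [Fintype H] [Fintype Q]
    (θ : base H Q → ℂ) (hθ : Cfsg.IsIrrCharacter (base H Q) θ) :
    ∃ f : Q → H → ℂ, (∀ q, Cfsg.IsIrrCharacter H (f q)) ∧
      ∀ b : base H Q, θ b = ∏ q, f q (b.1.left q) := by
  let e : (Q → H) ≃* base H Q :=
    { toFun := fun a => ⟨⟨a, 1⟩, rfl⟩
      invFun := fun b => b.1.left
      left_inv := fun a => rfl
      right_inv := fun b => by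
        apply Subtype.ext
        apply RegularWreathProduct.ext
        · rfl
        · exact b.2.symm
      map_mul' := fun a b => by
        apply Subtype.ext
        apply RegularWreathProduct.ext
        · funext q
          simp [RegularWreathProduct.mul_def]
        · simp [RegularWreathProduct.mul_def] }
  have h1 := Cfsg.Agent.Lib.Helper83Char.irr_comp_mulEquiv e hθ
  obtain ⟨f, hf, hfe⟩ := Cfsg.Agent.Lib.H4MgPiAll.irr_pi _ h1
  refine ⟨f, hf, fun b => ?_⟩
  have h2 := congrFun hfe b.1.left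
  have h3 : e b.1.left = b := e.right_inv b
  simp only [Function.comp_apply, h3] at h2
  exact h2

end Cfsg.Agent.Lib.H4MgBaseIrr
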