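import Mathlib
import Cfsg.Agent.Lib.H4MgDefs

set_option autoImplicit false

namespace Cfsg.Agent.Lib.H4MgDich

open Cfsg RegularWreathProduct Cfsg.Agent.Lib.H4MgDefs

theorem dichotomy {H Q : Type*} [Group H] [Group Q] [Finite H] [Finite Q]
    (hp : (Nat.card Q).Prime) (θ : base H Q → ℂ) (hθ : Cfsg.IsClassFunction (base H Q) θ) :
    (∀ g : H ≀ᵣ Q, g ∈ base H Q ↔ ∀ n : base H Q,
        θ ⟨g * n * g⁻¹, base_normal.conj_mem (n : H ≀ᵣ Q) n.2 g⟩ = θ n) ∨
    (∀ (g : H ≀ᵣ Q) (n : base H Q),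
        θ ⟨g * n * g⁻¹, base_normal.conj_mem (n : H ≀ᵣ Q) n.2 g⟩ = θ n) := by
  classical
  let cj : (H ≀ᵣ Q) → base H Q → base H Q := fun g n =>
    ⟨g * n * g⁻¹, base_normal.conj_mem (n : H ≀ᵣ Q) n.2 g⟩
  have cj_mul : ∀ g h n, cj (g * h) n = cj g (cj h n) := by
    intro g h n
    apply Subtype.ext
    show g * h * n * (g * h)⁻¹ = g * (h * n * h⁻¹) * g⁻¹
    group
  have cj_one : ∀ n, cj 1 n = n := by
    intro n
    apply Subtype.ext
    show 1 * (n : H ≀ᵣ Q) * 1⁻¹ = n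
    group
  let T : Subgroup (H ≀ᵣ Q) :=
    { carrier := {g | ∀ n, θ (cj g n) = θ n}
      one_mem' := fun n => by rw [cj_one]
      mul_mem' := fun {a b} ha hb n => by rw [cj_mul, ha, hb]
      inv_mem' := fun {a} ha n => by
        have := ha (cj a⁻¹ n)
        rw [← cj_mul, mul_inv_cancel, cj_one] at this
        exact this.symm }
  have hT : ∀ g, g ∈ T ↔ ∀ n, θ (cj g n) = θ n := fun g => Iff.rfl
  have hle : base H Q ≤ T := by
    intro g hg n
    have := hθ n ⟨g, hg⟩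
    exact this
  have hidx : (base H Q).index = Nat.card Q := by
    unfold base
    rw [Subgroup.index_ker, MonoidHom.range_eq_top.2 (fun q => ⟨inl q, rfl⟩), Subgroup.card_top]
  have h1 := Subgroup.relIndex_mul_index hle
  rw [hidx] at h1
  rcases (Nat.dvd_prime hp).1 ⟨_, h1.symm.trans (mul_comm _ _)⟩ with h2 | h2
  · right
    rw [Subgroup.index_eq_one] at h2
    intro g n
    have : g ∈ T := by rw [h2]; trivial
    exact this n
  · left
    rw [h2] at h1
    have h3 : (base H Q).relIndex T = 1 := by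
      have hpos := hp.pos
      exact Nat.eq_of_mul_eq_mul_right hpos (by rw [h1, one_mul])
    rw [Subgroup.relIndex_eq_one] at h3
    intro g
    exact ⟨fun hg => hle hg, fun hg => h3 hg⟩

end Cfsg.Agent.Lib.H4MgDich
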