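import Mathlib
import Cfsg.Agent.Lib.H4MgDefs


/-!
# Project 4573, piece `IndPi1`
-/

set_option autoImplicit false

namespace Cfsg.Agent.Lib.H4MgIndPi1

open Cfsg RegularWreathProduct Cfsg.Agent.Lib.H4MgDefs

theorem ebz_mem {G : Type*} [Group G] (K : Subgroup G) (θ : K → ℂ) {g : G} (hg : g ∈ K) :
    Cfsg.extendByZero K θ g = θ ⟨g, hg⟩ := by
  unfold Cfsg.extendByZero
  exact Subtype.val_injective.extend_apply θ 0 ⟨g, hg⟩

theorem ebz_not_mem {G : Type*} [Group G] (K : Subgroup G) (θ : K → ℂ) {g : G} (hg : g ∉ K) :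
    Cfsg.extendByZero K θ g = 0 := by
  unfold Cfsg.extendByZero
  rw [Function.extend_apply']
  · rfl
  · rintro ⟨h, rfl⟩
    exact hg h.2

/-- the base group as a type of functions -/
def eBase (H Q : Type*) [Group H] [Group Q] : (Q → H) ≃ base H Q where
  toFun a := ⟨⟨a, 1⟩, rfl⟩
  invFun x := x.1.left
  left_inv _ := rfl
  right_inv x := Subtype.ext (RegularWreathProduct.ext rfl (mem_base.1 x.2).symm)

theorem conj_left {H Q : Type*} [Group H] [Group Q] (a : Q → H) (b : base H Q) (q : Q) :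
    ((eBase H Q a)⁻¹ * b * eBase H Q a).1.left q = (a q)⁻¹ * b.1.left q * a q := by
  have hb : b.1.right = 1 := mem_base.1 b.2
  simp [eBase, hb]

theorem card_K {H Q : Type*} [Group H] [Group Q] [Fintype Q] (U : Q → Subgroup H) :
    Nat.card ((prodSub U).subgroupOf (base H Q)) = ∏ q, Nat.card (U q) := by
  rw [← Nat.card_pi]
  apply Nat.card_congr
  exact
    { toFun := fun x q => ⟨x.1.1.left q, (Subgroup.mem_subgroupOf.1 x.2).2 q⟩
      invFun := fun f => ⟨⟨⟨fun q => (f q).1, 1⟩, rfl⟩,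
        Subgroup.mem_subgroupOf.2 ⟨rfl, fun q => (f q).2⟩⟩
      left_inv := fun x => Subtype.ext (Subtype.ext
        (RegularWreathProduct.ext rfl (mem_base.1 x.1.2).symm))
      right_inv := fun _ => rfl }

/-- Induction from `∏ U q` to the base group is the product of the inductions.
`indFun K θ g = (Nat.card K)⁻¹ * ∑ x, extendByZero K θ (x⁻¹ * g * x)`,
`extendByZero K θ = Function.extend Subtype.val θ 0`.
Proof.  Reindex the sum over `x : base H Q` by `a : Q → H` (`x = ⟨⟨a, 1⟩, rfl⟩`, an equivalence).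
`(x⁻¹ * b * x).1.left q = (a q)⁻¹ * b.1.left q * a q`.  This element lies in
`(prodSub U).subgroupOf (base H Q)` iff every `(a q)⁻¹ * b.left q * a q ∈ U q`; so
`extendByZero _ _ (x⁻¹ b x) = ∏ q, extendByZero (U q) (l q) ((a q)⁻¹ * b.left q * a q)` (both sides `0` if
some coordinate is outside: `Finset.prod_eq_zero`; otherwise `prodHom_apply`, `Units.coe_prod`).
Then `Finset.prod_univ_sum` + `Fintype.piFinset_univ`, and
`Nat.card ((prodSub U).subgroupOf (base H Q)) = ∏ q, Nat.card (U q)` (bijection with `∀ q, U q`,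
`Nat.card_pi`). -/
theorem ind_prod_in_base {H Q : Type*} [Group H] [Group Q] [Fintype H] [Fintype Q]
    [Fintype (base H Q)] (U : Q → Subgroup H) (l : ∀ q, ↥(U q) →* ℂˣ) (b : base H Q) :
    Cfsg.indFun ((prodSub U).subgroupOf (base H Q))
      (fun x => (fun y : ↥(prodSub U) => ((prodHom U l y : ℂˣ) : ℂ))
        ⟨(x : ↥(base H Q)), Subgroup.mem_subgroupOf.mp x.2⟩) b =
      ∏ q, Cfsg.indFun (U q) (fun u => ((l q u : ℂˣ) : ℂ)) (b.1.left q) := by
  classical
  have key : ∀ a : Q → H,
      Cfsg.extendByZero ((prodSub U).subgroupOf (base H Q))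
        (fun x => (fun y : ↥(prodSub U) => ((prodHom U l y : ℂˣ) : ℂ))
          ⟨(x : ↥(base H Q)), Subgroup.mem_subgroupOf.mp x.2⟩)
        ((eBase H Q a)⁻¹ * b * eBase H Q a) =
      ∏ q, Cfsg.extendByZero (U q) (fun u => ((l q u : ℂˣ) : ℂ)) ((a q)⁻¹ * b.1.left q * a q) := by
    intro a
    by_cases hall : ∀ q, (a q)⁻¹ * b.1.left q * a q ∈ U q
    · have hmem : (eBase H Q a)⁻¹ * b * eBase H Q a ∈ (prodSub U).subgroupOf (base H Q) := by
        rw [Subgroup.mem_subgroupOf, mem_prodSub]
        refine ⟨mem_base.1 ((eBase H Q a)⁻¹ * b * eBase H Q a).2, fun q => ?_⟩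
        rw [conj_left]
        exact hall q
      rw [ebz_mem _ _ hmem]
      simp only [prodHom_apply, Units.coe_prod]
      apply Finset.prod_congr rfl
      intro q _
      rw [ebz_mem _ _ (hall q)]
      congr 2
      apply Subtype.ext
      exact conj_left a b q
    · have hnmem : (eBase H Q a)⁻¹ * b * eBase H Q a ∉ (prodSub U).subgroupOf (base H Q) := by
        rw [Subgroup.mem_subgroupOf, mem_prodSub]
        rintro ⟨-, h⟩
        apply hall
        intro q
        rw [← conj_left]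
        exact h q
      rw [ebz_not_mem _ _ hnmem]
      push Not at hall
      obtain ⟨q, hq⟩ := hall
      symm
      apply Finset.prod_eq_zero (Finset.mem_univ q)
      exact ebz_not_mem _ _ hq
  unfold Cfsg.indFun
  rw [← Equiv.sum_comp (eBase H Q), Finset.prod_mul_distrib, Finset.prod_univ_sum,
    Fintype.piFinset_univ, card_K, Finset.prod_inv_distrib, Nat.cast_prod]
  congr 1
  apply Finset.sum_congr rfl
  intro a _
  exact key a

end Cfsg.Agent.Lib.H4MgIndPi1
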