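import Mathlib
import Cfsg.Agent.Lib.H4MgDefs
import Cfsg.Agent.Lib.H4MgIndPi1
import Cfsg.Agent.S0147

/-!
# Project 4573, piece `IndPi`
-/

set_option autoImplicit false

namespace Cfsg.Agent.Lib.H4MgIndPi

open Cfsg RegularWreathProduct Cfsg.Agent.Lib.H4MgDefs

/-- Transitivity of induction: `Cfsg.Agent.S0147.result (prodSub U) (base H Q) hle θ` with
`hle : prodSub U ≤ base H Q` (`fun w hw => hw.1`), and `H4MgIndPi1.ind_prod_in_base` (`funext b`). -/
theorem ind_base_prod {H Q : Type*} [Group H] [Group Q] [Fintype H] [Fintype Q]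
    [Fintype (H ≀ᵣ Q)] (U : Q → Subgroup H) (l : ∀ q, ↥(U q) →* ℂˣ) :
    Cfsg.indFun (base H Q)
      (fun b => ∏ q, Cfsg.indFun (U q) (fun u => ((l q u : ℂˣ) : ℂ)) (b.1.left q)) =
      Cfsg.indFun (prodSub U) (fun y => ((prodHom U l y : ℂˣ) : ℂ)) := by
  have : Fintype (base H Q) := Fintype.ofFinite _
  have hle : prodSub U ≤ base H Q := fun w hw => hw.1
  rw [← Cfsg.Agent.S0147.result (prodSub U) (base H Q) hle (fun y => ((prodHom U l y : ℂˣ) : ℂ))]
  congr 1
  funext b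
  exact (Cfsg.Agent.Lib.H4MgIndPi1.ind_prod_in_base U l b).symm

end Cfsg.Agent.Lib.H4MgIndPi
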