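import Mathlib
import Cfsg.Agent.Lib.H4MgDefs

set_option autoImplicit false

namespace Cfsg.Agent.Lib.H4MgKK

open Cfsg RegularWreathProduct Cfsg.Agent.Lib.H4MgDefs

theorem exists_embedding {G : Type*} [Group G] (N : Subgroup G) [N.Normal] :
    ∃ f : G →* (↥N ≀ᵣ (G ⧸ N)), Function.Injective f := by
  classical
  let t : G ⧸ N → G := fun q => Quotient.out q
  have ht : ∀ q : G ⧸ N, ((t q : G) : G ⧸ N) = q := fun q => QuotientGroup.out_eq' q
  have hmem : ∀ (g : G) (x : G ⧸ N), (t x)⁻¹ * g * t ((g : G ⧸ N)⁻¹ * x) ∈ N := by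
    intro g x
    rw [← QuotientGroup.eq_one_iff, QuotientGroup.mk_mul, QuotientGroup.mk_mul, QuotientGroup.mk_inv,
      ht, ht]
    group
  let f : G → (↥N ≀ᵣ (G ⧸ N)) := fun g =>
    ⟨fun x => ⟨(t x)⁻¹ * g * t ((g : G ⧸ N)⁻¹ * x), hmem g x⟩, (g : G ⧸ N)⟩
  have hmul : ∀ g h, f (g * h) = f g * f h := by
    intro g h
    apply RegularWreathProduct.ext
    · funext x
      apply Subtype.ext
      show (t x)⁻¹ * (g * h) * t (((g * h : G) : G ⧸ N)⁻¹ * x) =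
        ((t x)⁻¹ * g * t ((g : G ⧸ N)⁻¹ * x)) *
          ((t ((g : G ⧸ N)⁻¹ * x))⁻¹ * h * t ((h : G ⧸ N)⁻¹ * ((g : G ⧸ N)⁻¹ * x)))
      have e : ((g * h : G) : G ⧸ N)⁻¹ * x = (h : G ⧸ N)⁻¹ * ((g : G ⧸ N)⁻¹ * x) := by
        rw [QuotientGroup.mk_mul]; group
      rw [e]
      group
    · rfl
  refine ⟨MonoidHom.mk' f hmul, ?_⟩
  intro g g' h
  have h' : f g = f g' := h
  have h1 : (g : G ⧸ N) = (g' : G ⧸ N) := congrArg RegularWreathProduct.right h'
  have h2 := congrArg (fun w : ↥N ≀ᵣ (G ⧸ N) => ((w.left 1 : N) : G)) h'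
  have h3 : (t 1)⁻¹ * g * t ((g : G ⧸ N)⁻¹ * 1) = (t 1)⁻¹ * g' * t ((g' : G ⧸ N)⁻¹ * 1) := h2
  rw [h1] at h3
  exact mul_left_cancel (mul_right_cancel h3)

theorem exists_map {N H Q : Type*} [Group N] [Group H] [Group Q] (f : N →* H)
    (hf : Function.Injective f) : ∃ F : (N ≀ᵣ Q) →* (H ≀ᵣ Q), Function.Injective F := by
  let F : (N ≀ᵣ Q) → (H ≀ᵣ Q) := fun w => ⟨fun x => f (w.left x), w.right⟩
  have hmul : ∀ a b, F (a * b) = F a * F b := by
    intro a b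
    apply RegularWreathProduct.ext
    · funext x
      show f (a.left x * b.left (a.right⁻¹ * x)) = f (a.left x) * f (b.left (a.right⁻¹ * x))
      rw [map_mul]
    · rfl
  refine ⟨MonoidHom.mk' F hmul, ?_⟩
  intro a b h
  have h' : F a = F b := h
  apply RegularWreathProduct.ext
  · funext x
    exact hf (congrFun (congrArg RegularWreathProduct.left h') x)
  · exact congrArg (fun w : H ≀ᵣ Q => w.right) h'

end Cfsg.Agent.Lib.H4MgKK
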