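import Mathlib
import Cfsg.Prelude.Def_Characters
import Cfsg.Prelude.Def_Transfer
import Cfsg.Agent.Lib.Helper4Char4
import Cfsg.Agent.Lib.Helper82Quot
import Cfsg.Agent.Lib.Helper83Char

set_option autoImplicit false

/-! Characters of extraspecial groups. -/

namespace Cfsg.Agent.Lib.Helper83Extra

open Cfsg.Agent.Lib.Helper4Char Cfsg.Agent.Lib.Helper4Char2 Cfsg.Agent.Lib.Helper4Char4
open Cfsg.Agent.Lib.Helper83Char
open scoped ComplexConjugate

/-- central elements act by scalars -/
theorem central_scalar {G : Type*} [Group G] {χ : G → ℂ} (hχ : Cfsg.IsIrrCharacter G χ)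
    (z : G) (hz : z ∈ Subgroup.center G) : ∃ c : ℂ, ∀ g : G, χ (z * g) = c * χ g := by
  obtain ⟨n, ρ, hirr, rfl⟩ := hχ
  have := hirr
  obtain ⟨c, hc⟩ := Helper83Char.schur_scalar ρ (ρ z) (fun g => by
    have h1 : ρ z * ρ g = ρ g * ρ z := by
      rw [← map_mul, ← map_mul, Subgroup.mem_center_iff.1 hz g]
    exact h1)
  refine ⟨c, fun g => ?_⟩
  rw [Representation.character, Representation.character, map_mul, hc]
  have : (c • LinearMap.id : (Fin n → ℂ) →ₗ[ℂ] (Fin n → ℂ)) * ρ g = c • ρ g := by
    ext v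
    simp
  rw [this, map_smul, smul_eq_mul]

/-- an irreducible character with the commutator subgroup in its kernel is linear -/
theorem linear_of_commutator {G : Type*} [Group G] [Finite G] {χ : G → ℂ} (hχ : Cfsg.IsIrrCharacter G χ)
    (h : ∀ m ∈ commutator G, χ m = χ 1) : χ 1 = 1 := by
  obtain ⟨ψ, hψ⟩ := Cfsg.Agent.Lib.Helper82Quot.exists_deflate (commutator G) ⟨χ, hχ⟩ h
  have h1 := congrFun (congrArg Subtype.val hψ) 1
  rw [Cfsg.Agent.Lib.Helper82Quot.inflate_apply] at h1
  have : IsMulCommutative (G ⧸ commutator G) :=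
    ⟨⟨fun a b => mul_comm (G := Abelianization G) a b⟩⟩
  exact h1.symm.trans (irr_one_of_comm ψ.2)

section extra

variable {P : Type*} [Group P] [Fintype P] [Fintype (Subgroup.center P)] {p n : ℕ} [Fact p.Prime]
  (hP : Cfsg.IsExtraspecial p P) (hcard : Nat.card P = p ^ (2 * n + 1))

include hP in
theorem comm_eq_center : commutator P = Subgroup.center P := hP.1.2.2

include hP in
theorem card_center : Nat.card (Subgroup.center P) = p := hP.2

include hP in
/-- type A characters are linear -/
theorem typeA_linear {χ : P → ℂ} (hχ : Cfsg.IsIrrCharacter P χ)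
    (h : ∀ m ∈ Subgroup.center P, ∀ g : P, χ (m * g) = χ g) : χ 1 = 1 := by
  apply linear_of_commutator hχ
  intro m hm
  rw [comm_eq_center hP] at hm
  have := h m hm 1
  rwa [mul_one] at this

include hP in
/-- type B characters vanish off the centre -/
theorem typeB_vanish {χ : P → ℂ} (hχ : Cfsg.IsIrrCharacter P χ)
    (h : ∀ g : P, ∑ z : Subgroup.center P, χ (z * g) = 0) (x : P)
    (hx : x ∉ Subgroup.center P) : χ x = 0 := by
  by_contra hne
  rw [Subgroup.mem_center_iff] at hx
  push Not at hx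
  obtain ⟨y, hy⟩ := hx
  set c₀ : P := y * x * y⁻¹ * x⁻¹ with hc₀
  have hc₀Z : c₀ ∈ Subgroup.center P := by
    rw [← comm_eq_center hP, commutator_def]
    exact Subgroup.commutator_mem_commutator (Subgroup.mem_top y) (Subgroup.mem_top x)
  have hc₀1 : c₀ ≠ 1 := by
    intro h1
    apply hy
    have : y * x * y⁻¹ = x := by
      rw [hc₀, mul_inv_eq_one] at h1
      exact h1
    calc y * x = (y * x * y⁻¹) * y := by group
      _ = x * y := by rw [this]
  obtain ⟨c, hc⟩ := central_scalar hχ c₀ hc₀Z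
  have h1 : χ (c₀ * x) = χ x := by
    have : c₀ * x = y * x * y⁻¹ := by rw [hc₀]; group
    rw [this, irr_class hχ]
  have hc1 : c = 1 := by
    rw [hc] at h1
    exact mul_right_cancel₀ hne (h1.trans (one_mul _).symm)
  have h2 : ∀ g : P, χ (c₀ * g) = χ g := fun g => by rw [hc, hc1, one_mul]
  have h3 : ∀ (k : ℕ) (g : P), χ (c₀ ^ k * g) = χ g := by
    intro k
    induction k with
    | zero => intro g; simp
    | succ k ih => intro g; rw [pow_succ, mul_assoc, ih, h2]
  have h4 : ∀ z : Subgroup.center P, χ (z * 1) = χ 1 := by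
    intro z
    have htop := zpowers_eq_top_of_prime_card (card_center hP)
      (g := (⟨c₀, hc₀Z⟩ : Subgroup.center P)) (fun h => hc₀1 (congrArg Subtype.val h))
    have hz : z ∈ Subgroup.zpowers (⟨c₀, hc₀Z⟩ : Subgroup.center P) := by rw [htop]; trivial
    rw [← mem_powers_iff_mem_zpowers] at hz
    obtain ⟨k, hk⟩ := hz
    rw [← hk]
    exact h3 k 1
  have h5 := h 1
  simp_rw [h4] at h5
  rw [Finset.sum_const, Finset.card_univ, nsmul_eq_mul, ← Nat.card_eq_fintype_card,
    card_center hP] at h5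
  rcases mul_eq_zero.1 h5 with h6 | h6
  · exact (Fact.out : p.Prime).ne_zero (by exact_mod_cast h6)
  · exact irr_one_ne_zero hχ h6

include hP hcard in
/-- type B characters have degree `p ^ n` -/
theorem typeB_degree {χ : P → ℂ} (hχ : Cfsg.IsIrrCharacter P χ)
    (h : ∀ g : P, ∑ z : Subgroup.center P, χ (z * g) = 0) : χ 1 = (p : ℂ) ^ n := by
  classical
  have hv := typeB_vanish hP hχ h
  have hp0 : (p : ℂ) ≠ 0 := by exact_mod_cast (Fact.out : p.Prime).ne_zero
  have hG : (Nat.card P : ℂ) ≠ 0 := by exact_mod_cast Nat.card_pos.ne'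
  have h1 := Helper83Char.classInner_irr_self hχ
  rw [Cfsg.classInner] at h1
  have h2 : ∑ g : P, χ g * conj (χ g) = (Nat.card P : ℂ) := by
    field_simp at h1
    exact h1
  have h3 : ∑ g : P, χ g * conj (χ g) = ∑ z : Subgroup.center P, χ z * conj (χ z) := by
    rw [sum_subgroup (Subgroup.center P) (fun g => χ g * conj (χ g))]
    refine Finset.sum_congr rfl fun g _ => ?_
    split_ifs with hg
    · rfl
    · rw [hv g hg, zero_mul]
  have h4 : ∀ z : Subgroup.center P, χ z * conj (χ z) = χ 1 * χ 1 := by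
    intro z
    obtain ⟨c, hc⟩ := central_scalar hχ z z.2
    rw [← irr_inv hχ]
    have e1 := hc 1
    have e2 := hc (z : P)⁻¹
    rw [mul_one] at e1
    rw [mul_inv_cancel] at e2
    rw [e1, mul_right_comm, ← e2]
  simp_rw [h4] at h3
  rw [Finset.sum_const, Finset.card_univ, nsmul_eq_mul, ← Nat.card_eq_fintype_card,
    card_center hP, h2, hcard] at h3
  obtain ⟨d, hd, hd1⟩ := irr_one hχ
  rw [hd1] at h3 ⊢
  have h5 : p ^ (2 * n + 1) = p * (d * d) := by exact_mod_cast h3
  have h6 : (p ^ n) ^ 2 = d ^ 2 := by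
    have hp : 0 < p := (Fact.out : p.Prime).pos
    apply Nat.eq_of_mul_eq_mul_left hp
    rw [sq d, ← h5]
    ring
  have h7 : p ^ n = d := by
    exact (Nat.pow_left_injective (n := 2) (by norm_num)) h6
  rw [← h7]
  push_cast
  rfl

include hP hcard in
theorem n_pos : 0 < n := by
  by_contra hn
  have hn0 : n = 0 := by omega
  subst hn0
  have h1 : Nat.card P = Nat.card (Subgroup.center P) := by rw [hcard, card_center hP]; simp
  have h2 : Subgroup.center P = ⊤ := Subgroup.eq_top_of_card_eq _ h1.symm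
  have h3 : commutator P = ⊥ := by
    rw [commutator_def, Subgroup.commutator_eq_bot_iff_le_centralizer]
    intro x _
    rw [Subgroup.mem_centralizer_iff]
    intro y _
    have : x ∈ Subgroup.center P := by rw [h2]; trivial
    exact Subgroup.mem_center_iff.1 this y
  have h4 := card_center hP
  rw [← comm_eq_center hP, h3, Subgroup.card_bot] at h4
  exact (Fact.out : p.Prime).one_lt.ne h4

include hP hcard in
theorem pow_ne_one : (p : ℂ) ^ n ≠ 1 := by
  have h1 := n_pos hP hcard
  have h2 : 1 < p ^ n := Nat.one_lt_pow h1.ne' (Fact.out : p.Prime).one_lt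
  exact_mod_cast h2.ne'

end extra

end Cfsg.Agent.Lib.Helper83Extra
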