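import Mathlib
import Cfsg.Agent.Lib.H4MgDefs
import Cfsg.Agent.Lib.Helper4Char4
import Cfsg.Agent.S0174
import Cfsg.Agent.Lib.Helper32Ind
import Cfsg.Agent.Lib.Helper82Linear
import Cfsg.Agent.Lib.Helper83Extra

/-!
# Project 4573, piece `Lin`
-/

set_option autoImplicit false

namespace Cfsg.Agent.Lib.H4MgLin

open Cfsg RegularWreathProduct Cfsg.Agent.Lib.H4MgDefs

/-- An irreducible constituent of `(1_N)^W` is linear when `W / N` is abelian.
Proof.  Frobenius reciprocity (`Helper32Ind.frobenius N θ χ hclass : classInner (indFun N θ) χ =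
classInner θ (restriction of χ)`; check the exact form) gives `classInner 1_N β_N ≠ 0`, so also
`classInner β_N 1_N ≠ 0` (`Helper4Char.classInner_conj_symm`).  Clifford `S0174.result N _ β hβ 1_N _ _`
(the trivial character `fun _ => 1` of `N` is irreducible: `Helper83Char.isIrr_one`): all conjugates of
`1_N` are `1_N`, so `β n = e` for all `n ∈ N`, in particular `β n = β 1`: `N ≤ ker β`.
Take `ρ` irreducible affording `β` (`hβ`); `ρ n = 1` for `n ∈ N` (S0139 / `Helper4Eigen.char_eq_finrank_iff`),
so `ρ` kills commutators, all `ρ g` commute, by Schur (`Helper83Char.schur_scalar`) every `ρ g` is a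
scalar, so every subspace is invariant and irreducibility forces dimension one
(or search the library: a lemma "irreducible character with commutator subgroup in the kernel is linear",
e.g. in the proof of S0154 / S0187).  Then `μ g` := that scalar. -/
theorem linear_of_over_one {W : Type*} [Group W] [Fintype W] (N : Subgroup W) [N.Normal]
    (hab : commutator W ≤ N) (β : W → ℂ) (hβ : Cfsg.IsIrrCharacter W β)
    (h : Cfsg.classInner (Cfsg.indFun N (fun _ => (1 : ℂ))) β ≠ 0) :
    ∃ μ : W →* ℂˣ, β = fun w => ((μ w : ℂˣ) : ℂ) := by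
  classical
  have hN : N.Normal := inferInstance
  rw [Cfsg.Agent.Lib.Helper32Ind.frobenius N (fun _ => (1 : ℂ)) β
    (Cfsg.Agent.Lib.Helper4Char.IsIrrCharacter.isClassFunction hβ)] at h
  have h' : Cfsg.classInner (fun n : N => β n) (fun _ : N => (1 : ℂ)) ≠ 0 := by
    intro h0
    apply h
    rw [← Cfsg.Agent.Lib.Helper4Char.classInner_conj_symm, h0, map_zero]
  have hcl := Cfsg.Agent.S0174.result N hN β hβ (fun _ => (1 : ℂ))
    Cfsg.Agent.Lib.Helper82Linear.isIrrCharacter_one h'
  have hset : {ψ : N → ℂ | ∃ g : W, ψ = fun n : N => (fun _ : N => (1 : ℂ))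
      ⟨g * n * g⁻¹, hN.conj_mem n n.2 g⟩} = {fun _ : N => (1 : ℂ)} := by
    ext ψ
    simp
  rw [hset, finsum_mem_singleton] at hcl
  have hconst : ∀ n ∈ N, β n = β 1 := by
    intro n hn
    have h1 := congrFun hcl ⟨n, hn⟩
    have h2 := congrFun hcl ⟨1, N.one_mem⟩
    simp only [Pi.smul_apply] at h1 h2
    rw [h1, h2]
  have hdeg : β 1 = 1 :=
    Cfsg.Agent.Lib.Helper83Extra.linear_of_commutator hβ (fun m hm => hconst m (hab hm))
  exact ⟨Cfsg.Agent.Lib.Helper82Linear.homOfLinear ⟨β, hβ⟩ hdeg, rfl⟩

/-- `Q` of prime order is commutative (`isCyclic_of_prime_card`, `IsCyclic.commGroup`), so `rightHom`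
kills commutators (`commutator_def`, `Subgroup.commutator_le`, `map_commutatorElement`). -/
theorem commutator_le_base {H Q : Type*} [Group H] [Group Q] (hp : (Nat.card Q).Prime) :
    commutator (H ≀ᵣ Q) ≤ base H Q := by
  have : Fact (Nat.card Q).Prime := ⟨hp⟩
  have hcyc : IsCyclic Q := isCyclic_of_prime_card rfl
  rw [commutator_def, Subgroup.commutator_le]
  intro a _ b _
  rw [mem_base, commutatorElement_def]
  simp only [RegularWreathProduct.mul_right, RegularWreathProduct.inv_right]
  have hc : a.right * b.right = b.right * a.right := (IsCyclic.commGroup).mul_comm _ _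
  rw [hc]
  group

end Cfsg.Agent.Lib.H4MgLin
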