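import Mathlib
import Cfsg.Agent.Lib.H4MgDefs

set_option autoImplicit false

namespace Cfsg.Agent.Lib.H4MgMulInd

open Cfsg RegularWreathProduct Cfsg.Agent.Lib.H4MgDefs

theorem indFun_mul {G : Type*} [Group G] [Fintype G] (Y : Subgroup G) (Λ : Y → ℂ) (β : G → ℂ)
    (hβ : Cfsg.IsClassFunction G β) :
    Cfsg.indFun Y (fun y => β y * Λ y) = fun w => β w * Cfsg.indFun Y Λ w := by
  have key : ∀ z : G, Cfsg.extendByZero Y (fun y => β y * Λ y) z = β z * Cfsg.extendByZero Y Λ z := by
    intro z
    unfold Cfsg.extendByZero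
    by_cases hz : z ∈ Y
    · have h1 := Function.Injective.extend_apply (Subtype.val_injective (p := fun x => x ∈ Y))
        (fun y : Y => β y * Λ y) 0 ⟨z, hz⟩
      have h2 := Function.Injective.extend_apply (Subtype.val_injective (p := fun x => x ∈ Y))
        Λ 0 ⟨z, hz⟩
      rw [h1, h2]
    · have hn : ¬ ∃ a : Y, (a : G) = z := by
        rintro ⟨a, rfl⟩; exact hz a.2
      rw [Function.extend_apply' _ _ _ hn, Function.extend_apply' _ _ _ hn]
      simp
  funext w
  unfold Cfsg.indFun
  rw [mul_left_comm (β w), Finset.mul_sum (a := β w)]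
  congr 1
  apply Finset.sum_congr rfl
  intro x _
  rw [key]
  have := hβ w x⁻¹
  rw [inv_inv] at this
  rw [this]

end Cfsg.Agent.Lib.H4MgMulInd
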