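import Mathlib
import Cfsg.Agent.Lib.H4MgDefs
import Cfsg.Agent.Lib.Helper4Char4

/-!
# Project 4573, piece `PiChar`
-/

set_option autoImplicit false

namespace Cfsg.Agent.Lib.H4MgPiChar

open Cfsg RegularWreathProduct Cfsg.Agent.Lib.H4MgDefs

/-- A product of characters of the factors is a character of the power `ι → H`.
`Helper4Char4.IsCharacter.comp (Pi.evalMonoidHom _ i) (hf i)` is the character `x ↦ f i (x i)`;
`Helper4Char4.IsCharacter.mul`, `IsCharacter.one`; induction over `Finset.univ`
(prove it for every finset `s`: `x ↦ ∏ i ∈ s, f i (x i)`). -/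
theorem isCharacter_pi {ι H : Type*} [Fintype ι] [Group H] (f : ι → H → ℂ)
    (hf : ∀ i, Cfsg.IsCharacter H (f i)) :
    Cfsg.IsCharacter (ι → H) (fun x => ∏ i, f i (x i)) := by
  classical
  have key : ∀ s : Finset ι, Cfsg.IsCharacter (ι → H) (fun x => ∏ i ∈ s, f i (x i)) := by
    intro s
    induction s using Finset.induction_on with
    | empty =>
      simp only [Finset.prod_empty]
      exact Cfsg.Agent.Lib.Helper4Char4.IsCharacter.one
    | insert a s ha ih =>
      have h1 := Cfsg.Agent.Lib.Helper4Char4.IsCharacter.comp (Pi.evalMonoidHom (fun _ : ι => H) a) (hf a)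
      have h2 := Cfsg.Agent.Lib.Helper4Char4.IsCharacter.mul h1 ih
      convert h2 using 1
      funext x
      rw [Finset.prod_insert ha]
      rfl
  exact key Finset.univ

end Cfsg.Agent.Lib.H4MgPiChar
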