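import Mathlib
import Cfsg.Agent.Lib.H4MgDefs

set_option autoImplicit false

namespace Cfsg.Agent.Lib.H4MgPiInner

open Cfsg RegularWreathProduct Cfsg.Agent.Lib.H4MgDefs

theorem classInner_pi {ι H : Type*} [Fintype ι] [Group H] [Fintype H] [Fintype (ι → H)]
    (f f' : ι → H → ℂ) :
    Cfsg.classInner (fun x : ι → H => ∏ i, f i (x i)) (fun x : ι → H => ∏ i, f' i (x i)) =
      ∏ i, Cfsg.classInner (f i) (f' i) := by
  classical
  unfold Cfsg.classInner
  rw [Finset.prod_mul_distrib, Finset.prod_univ_sum, Fintype.piFinset_univ, Nat.card_pi]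
  congr 1
  · rw [Nat.cast_prod, Finset.prod_inv_distrib]
  · apply Finset.sum_congr
    · ext x; simp
    · intro x _
      rw [map_prod, Finset.prod_mul_distrib]

end Cfsg.Agent.Lib.H4MgPiInner
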