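import Mathlib
import Cfsg.Agent.Lib.Helper11Frobenius
import Cfsg.Agent.Lib.Helper11Counting
import Cfsg.Agent.Lib.Helper31Nilpotent

set_option autoImplicit false

namespace Cfsg.Agent.Lib.Helper11Schmidt

open Subgroup Cfsg.Agent.Lib.Helper11Frobenius Cfsg.Agent.Lib.Helper11Counting

section
variable {G : Type*} [Group G] [Finite G]

/-- A finite group having a normal `p`-complement for every prime `p` is nilpotent. -/
theorem isNilpotent_of_forall_hasNPC (h : ∀ p : ℕ, p.Prime → HasNPC p G) :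
    Group.IsNilpotent G := by
  apply (Group.isNilpotent_of_finite_tfae.out 0 3 rfl rfl).mpr
  intro p hp P
  have hpp : p.Prime := hp.out
  choose N hN hNc k hk using h
  let M : Subgroup G := ⨅ q : {q : ℕ // q.Prime ∧ q ≠ p}, N q.1 q.2.1
  have hMn : M.Normal := Subgroup.normal_iInf_normal (fun q => hN q.1 q.2.1)
  have hmem : ∀ x : G, x ∈ M ↔ ∀ q : ℕ, q.Prime → q ≠ p → (orderOf x).Coprime q := by
    intro x
    rw [Subgroup.mem_iInf]
    constructor
    · intro hx q hq hqp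
      have := hN q hq
      have : Fact q.Prime := ⟨hq⟩
      exact (mem_iff_coprime (N q hq) (hNc q hq) (k q hq) (hk q hq) x).mp (hx ⟨q, hq, hqp⟩)
    · intro hx q
      have := hN q.1 q.2.1
      have : Fact q.1.Prime := ⟨q.2.1⟩
      exact (mem_iff_coprime (N q.1 q.2.1) (hNc q.1 q.2.1) (k q.1 q.2.1) (hk q.1 q.2.1) x).mpr
        (hx q.1 q.2.1 q.2.2)
  have hMp : IsPGroup p M := by
    intro x
    have hx := (hmem x.1).mp x.2
    have h1 : orderOf x.1 = p ^ (orderOf x.1).primeFactorsList.length := by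
      apply Nat.eq_prime_pow_of_unique_prime_dvd (orderOf_pos x.1).ne'
      intro d hd hdx
      by_contra hne
      have := hx d hd hne
      exact hd.one_lt.ne' (Nat.Coprime.eq_one_of_dvd this.symm hdx)
    refine ⟨(orderOf x.1).primeFactorsList.length, ?_⟩
    apply Subtype.ext
    rw [Subgroup.coe_pow, ← h1, pow_orderOf_eq_one]
    rfl
  have hPM : (P : Subgroup G) ≤ M := by
    intro x hx
    rw [hmem]
    intro q hq hqp
    obtain ⟨j, hj⟩ := P.isPGroup' ⟨x, hx⟩
    have hj' : x ^ p ^ j = 1 := by simpa using congrArg Subtype.val hj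
    exact Nat.Coprime.coprime_dvd_left (orderOf_dvd_of_pow_eq_one hj')
      (Nat.Coprime.pow_left j ((Nat.coprime_primes hpp hq).mpr (Ne.symm hqp)))
  have : M = P := P.is_maximal' hMp hPM
  rw [← this]
  exact hMn

/-- A finite non-nilpotent group contains a `q`-subgroup `H` normalized but not centralized by a
cyclic `p`-subgroup `R`, for distinct primes `p`, `q`. -/
theorem exists_schmidt_pair (h : ¬ Group.IsNilpotent G) :
    ∃ p q : ℕ, p.Prime ∧ q.Prime ∧ p ≠ q ∧ ∃ H R : Subgroup G, IsPGroup q H ∧ IsPGroup p R ∧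
      IsCyclic R ∧ R ≤ normalizer (H : Set G) ∧ ¬ R ≤ centralizer (H : Set G) := by
  have h1 : ∃ q : ℕ, q.Prime ∧ ¬ HasNPC q G := by
    by_contra hcon
    push Not at hcon
    exact h (isNilpotent_of_forall_hasNPC hcon)
  obtain ⟨q, hq, hnpc⟩ := h1
  have : Fact q.Prime := ⟨hq⟩
  rw [hasNPC_iff_frobCond] at hnpc
  unfold FrobCond at hnpc
  push Not at hnpc
  obtain ⟨H, hH, g, hgN, hgo, hgC⟩ := hnpc
  obtain ⟨p, hp, hpd, R, hRz, hRp, hRC⟩ :=
    exists_prime_subgroup_not_centralizing H g (isOfFinOrder_of_finite g) hgC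
  refine ⟨p, q, hp, hq, ?_, H, R, hH, hRp, ?_, hRz.trans (zpowers_le.mpr hgN), hRC⟩
  · rintro rfl
    exact hp.one_lt.ne' (Nat.Coprime.eq_one_of_dvd hgo.symm hpd)
  · have e := Subgroup.subgroupOfEquivOfLe hRz
    exact isCyclic_of_surjective e e.surjective

omit [Finite G] in
theorem orderOf_dvd_of_isPGroup {p : ℕ} (H : Subgroup G) (hH : IsPGroup p H) (x : G) (hx : x ∈ H) :
    ∃ k : ℕ, orderOf x ∣ p ^ k := by
  obtain ⟨j, hj⟩ := hH ⟨x, hx⟩
  have hj' : x ^ p ^ j = 1 := by simpa using congrArg Subtype.val hj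
  exact ⟨j, orderOf_dvd_of_pow_eq_one hj'⟩

omit [Finite G] in
theorem coprime_orderOf {p q : ℕ} (hp : p.Prime) (hq : q.Prime) (hpq : p ≠ q) (H R : Subgroup G)
    (hH : IsPGroup q H) (hR : IsPGroup p R) (h r : G) (hh : h ∈ H) (hr : r ∈ R) :
    (orderOf h).Coprime (orderOf r) := by
  obtain ⟨j, hj⟩ := orderOf_dvd_of_isPGroup H hH h hh
  obtain ⟨k, hk⟩ := orderOf_dvd_of_isPGroup R hR r hr
  exact Nat.Coprime.coprime_dvd_left hj (Nat.Coprime.coprime_dvd_right hk
    (Nat.Coprime.pow j k ((Nat.coprime_primes hq hp).mpr (Ne.symm hpq))))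

omit [Finite G] in
/-- In a nilpotent subgroup a `q`-subgroup and a `p`-subgroup centralize each other. -/
theorem le_centralizer_of_isNilpotent {p q : ℕ} (hp : p.Prime) (hq : q.Prime) (hpq : p ≠ q)
    (H R K : Subgroup G) (hH : IsPGroup q H) (hR : IsPGroup p R) (hHK : H ≤ K) (hRK : R ≤ K)
    (hK : Group.IsNilpotent K) : R ≤ centralizer (H : Set G) := by
  intro r hr h hh
  have h1 := Cfsg.Agent.Lib.Helper31Nilpotent.coprime_commute K ⟨h, hHK hh⟩ ⟨r, hRK hr⟩ (by
    rw [Subgroup.orderOf_mk, Subgroup.orderOf_mk]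
    exact coprime_orderOf hp hq hpq H R hH hR h r hh hr)
  exact congrArg Subtype.val h1

theorem sylow_of_pair (p q : ℕ) [Fact p.Prime] [Fact q.Prime] (hpq : p ≠ q) (H R : Subgroup G)
    (hH : IsPGroup q H) (hR : IsPGroup p R) (hRN : R ≤ normalizer (H : Set G))
    (htop : H ⊔ R = ⊤) :
    H.Normal ∧ (∃ Q : Sylow q G, (Q : Subgroup G) = H) ∧ ∃ P : Sylow p G, (P : Subgroup G) = R := by
  have hn : H.Normal := by
    rw [← Subgroup.normalizer_eq_top_iff, eq_top_iff, ← htop]
    exact sup_le le_normalizer hRN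
  have hdec : ∀ y : G, ∃ h ∈ H, ∃ r ∈ R, h * r = y := by
    intro y
    have hy : y ∈ ((H ⊔ R : Subgroup G) : Set G) := by rw [htop]; trivial
    rw [Subgroup.normal_mul] at hy
    exact Set.mem_mul.mp hy
  refine ⟨hn, ?_, ?_⟩
  · obtain ⟨Q, hQ⟩ := hH.exists_le_sylow
    refine ⟨Q, le_antisymm ?_ hQ⟩
    intro y hy
    obtain ⟨h, hh, r, hr, rfl⟩ := hdec y
    have hrQ : r ∈ (Q : Subgroup G) := by
      have := (Q : Subgroup G).mul_mem ((Q : Subgroup G).inv_mem (hQ hh)) hy
      simpa using this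
    have hdis := IsPGroup.disjoint_of_ne q p (Ne.symm hpq) (Q : Subgroup G) R Q.isPGroup' hR
    have : r = 1 := by
      have : r ∈ (Q : Subgroup G) ⊓ R := ⟨hrQ, hr⟩
      rw [hdis.eq_bot] at this
      exact this
    rw [this, mul_one]; exact hh
  · obtain ⟨P, hP⟩ := hR.exists_le_sylow
    refine ⟨P, le_antisymm ?_ hP⟩
    intro y hy
    obtain ⟨h, hh, r, hr, rfl⟩ := hdec y
    have hhP : h ∈ (P : Subgroup G) := by
      have := (P : Subgroup G).mul_mem hy ((P : Subgroup G).inv_mem (hP hr))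
      simpa using this
    have hdis := IsPGroup.disjoint_of_ne p q hpq (P : Subgroup G) H P.isPGroup' hH
    have : h = 1 := by
      have : h ∈ (P : Subgroup G) ⊓ H := ⟨hhP, hh⟩
      rw [hdis.eq_bot] at this
      exact this
    rw [this, one_mul]; exact hr

end

end Cfsg.Agent.Lib.Helper11Schmidt
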