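import Mathlib
import Cfsg.Agent.Lib.Helper11Schmidt

set_option autoImplicit false

namespace Cfsg.Agent.Lib.Helper11Wielandt

open Subgroup Cfsg.Agent.Lib.Helper11Frobenius Cfsg.Agent.Lib.Helper11Schmidt
open scoped commutatorElement

theorem orderOf_conj' {G : Type*} [Group G] (k g : G) : orderOf (k * g * k⁻¹) = orderOf g := by
  have : k * g * k⁻¹ = MulAut.conj k g := rfl
  rw [this, MulEquiv.orderOf_eq]

/-- A normal maximal subgroup has prime index. -/
theorem index_prime_of_normal_coatom {X : Type*} [Group X] [Finite X] (M : Subgroup X) [M.Normal]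
    (hM : IsCoatom M) : M.index.Prime := by
  have h1 : M.index ≠ 1 := by
    rw [Ne, index_eq_one]; exact hM.1
  set p := M.index.minFac with hp
  have hpp : p.Prime := Nat.minFac_prime h1
  have : Fact p.Prime := ⟨hpp⟩
  have hpd : p ∣ Nat.card (X ⧸ M) := Nat.minFac_dvd _
  obtain ⟨y, hy⟩ := exists_prime_orderOf_dvd_card' p hpd
  obtain ⟨x, rfl⟩ := QuotientGroup.mk_surjective y
  set Z := (zpowers (x : X ⧸ M)).comap (QuotientGroup.mk' M) with hZ
  have hMZ : M ≤ Z := by
    intro m hm
    rw [hZ, mem_comap]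
    have : (QuotientGroup.mk' M) m = 1 := (QuotientGroup.eq_one_iff m).mpr hm
    rw [this]; exact one_mem _
  have hxZ : x ∈ Z := by
    rw [hZ, mem_comap]; exact mem_zpowers _
  have hxM : x ∉ M := by
    intro hx
    have : (x : X ⧸ M) = 1 := (QuotientGroup.eq_one_iff x).mpr hx
    rw [this, orderOf_one] at hy
    exact hpp.one_lt.ne hy
  have hZtop : Z = ⊤ := hM.2 Z (lt_of_le_of_ne hMZ (fun h => hxM (h ▸ hxZ)))
  have hz : zpowers (x : X ⧸ M) = ⊤ := by
    rw [eq_top_iff]
    intro w _
    obtain ⟨v, rfl⟩ := QuotientGroup.mk_surjective w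
    have : v ∈ Z := by rw [hZtop]; trivial
    exact this
  have : M.index = p := by
    rw [index_eq_card, ← Nat.card_congr (Subgroup.topEquiv (G := X ⧸ M)).toEquiv, ← hz,
      Nat.card_zpowers, hy]
  rw [this]; exact hpp

/-- A nontrivial finite solvable group has a normal subgroup of prime index. -/
theorem exists_normal_prime_index (X : Type*) [Group X] [Finite X] [Nontrivial X]
    [Group.IsSolvable X] : ∃ M : Subgroup X, M.Normal ∧ M.index.Prime := by
  have h1 : commutator X < ⊤ := Group.IsSolvable.commutator_lt_top_of_nontrivial X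
  obtain ⟨M, hM, hle⟩ := (eq_top_or_exists_le_coatom (commutator X)).resolve_left h1.ne
  have hn : M.Normal := by
    constructor
    intro m hm g
    have h2 : ⁅g, m⁆ ∈ commutator X :=
      Subgroup.commutator_mem_commutator (mem_top g) (mem_top m)
    have h3 : g * m * g⁻¹ = ⁅g, m⁆ * m := by
      rw [commutatorElement_def]; group
    rw [h3]
    exact M.mul_mem (hle h2) hm
  exact ⟨M, hn, index_prime_of_normal_coatom M hM⟩

section
variable {G : Type*} [Group G] [Finite G]

/-- The `p'`-part of a nilpotent subgroup. -/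
theorem exists_pprime_part (p : ℕ) [Fact p.Prime] (X : Subgroup G) (hX : Group.IsNilpotent X) :
    ∃ Y : Subgroup G, (∀ g, g ∈ Y ↔ g ∈ X ∧ (orderOf g).Coprime p) ∧ (Nat.card Y).Coprime p ∧
      ∃ k, Nat.card X = Nat.card Y * p ^ k := by
  have hF : FrobCond p X := by
    intro Q hQ g _ hg y hy
    obtain ⟨j, hj⟩ := orderOf_dvd_of_isPGroup Q hQ y hy
    exact Cfsg.Agent.Lib.Helper31Nilpotent.coprime_commute X y g
      (Nat.Coprime.coprime_dvd_left hj (Nat.Coprime.pow_left j hg.symm))
  obtain ⟨N, hN, hNc, k, hk⟩ := frobenius hF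
  refine ⟨N.map X.subtype, ?_, ?_, k, ?_⟩
  · intro g
    constructor
    · rintro ⟨y, hy, rfl⟩
      refine ⟨y.2, ?_⟩
      have := (mem_iff_coprime N hNc k hk y).mp hy
      rwa [← Subgroup.orderOf_coe] at this
    · rintro ⟨hg, hgo⟩
      exact ⟨⟨g, hg⟩, (mem_iff_coprime N hNc k hk _).mpr (by rwa [Subgroup.orderOf_mk]), rfl⟩
  · rw [card_map_of_injective X.subtype_injective]; exact hNc
  · rw [card_map_of_injective X.subtype_injective, ← hk, N.card_mul_index]

end

end Cfsg.Agent.Lib.Helper11Wielandt
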