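import Mathlib
import Cfsg.Agent.Lib.H4MgDefs
import Cfsg.Agent.Lib.Helper11Wielandt

set_option autoImplicit false

namespace Cfsg.Agent.Lib.H4MgPrimeIdx

open Cfsg RegularWreathProduct Cfsg.Agent.Lib.H4MgDefs

theorem exists_normal_prime_index {G : Type*} [Group G] [Finite G] [Nontrivial G]
    (hs : IsSolvable G) : ∃ N : Subgroup G, N.Normal ∧ (N.index).Prime :=
  have : Group.IsSolvable G := hs
  Cfsg.Agent.Lib.Helper11Wielandt.exists_normal_prime_index G

end Cfsg.Agent.Lib.H4MgPrimeIdx
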