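import Mathlib
import Cfsg.Agent.Lib.H4MgDefs


/-!
# Project 4573, piece `ResInd`
-/

set_option autoImplicit false

namespace Cfsg.Agent.Lib.H4MgResInd

open Cfsg RegularWreathProduct Cfsg.Agent.Lib.H4MgDefs

theorem ebz_mem {G : Type*} [Group G] (K : Subgroup G) (θ : K → ℂ) {g : G} (hg : g ∈ K) :
    Cfsg.extendByZero K θ g = θ ⟨g, hg⟩ := by
  unfold Cfsg.extendByZero
  exact Subtype.val_injective.extend_apply θ 0 ⟨g, hg⟩

theorem ebz_not_mem {G : Type*} [Group G] (K : Subgroup G) (θ : K → ℂ) {g : G} (hg : g ∉ K) :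
    Cfsg.extendByZero K θ g = 0 := by
  unfold Cfsg.extendByZero
  rw [Function.extend_apply']
  · rfl
  · rintro ⟨h, rfl⟩
    exact hg h.2

theorem conj_left {H Q : Type*} [Group H] [Group Q] (a : Q → H) (c : Q) (b : base H Q) (q : Q) :
    ((⟨a, c⟩ : H ≀ᵣ Q)⁻¹ * (b : H ≀ᵣ Q) * ⟨a, c⟩).left q
      = (a (c * q))⁻¹ * b.1.left (c * q) * a (c * q) := by
  have hb : b.1.right = 1 := mem_base.1 b.2
  simp [hb]

theorem card_wrSub {H Q : Type*} [Group H] [Group Q] [Fintype Q] (U : Subgroup H) :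
    Nat.card (wrSub Q U) = Nat.card U ^ Fintype.card Q * Fintype.card Q := by
  have e : ↥(wrSub Q U) ≃ (Q → U) × Q :=
    { toFun := fun x => (fun q => ⟨x.1.left q, x.2 q⟩, x.1.right)
      invFun := fun f => ⟨⟨fun q => (f.1 q).1, f.2⟩, fun q => (f.1 q).2⟩
      left_inv := fun _ => rfl
      right_inv := fun _ => rfl }
  rw [Nat.card_congr e, Nat.card_prod, Nat.card_fun, Nat.card_eq_fintype_card (α := Q)]

/-- The character induced from `wrHom U l` on `U ≀ Q` restricts to the base group as the product.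
Proof.  `indFun Y Λ b = |Y|⁻¹ ∑_{x : H ≀ᵣ Q} extendByZero Y Λ (x⁻¹ * b * x)`.  For `x = ⟨a, c⟩` and
`b.right = 1`: `(x⁻¹ * b * x).left q = (a (c q))⁻¹ * b.left (c q) * a (c q)` (`simp [mul_def]`/`inv_left`,
`mul_left`).  So `x⁻¹ b x ∈ wrSub Q U` iff `∀ q, (a q)⁻¹ * b.left q * a q ∈ U` (reindex by `c`), and then
`wrHom U l _ = ∏ q, l ((a q)⁻¹ b.left q (a q))` (`Equiv.prod_comp (Equiv.mulLeft c)`).  Hence
`extendByZero Y Λ (x⁻¹ b x) = ∏ q, extendByZero U l ((a q)⁻¹ * b.left q * a q)`, independent of `c`.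
Sum over `x` = sum over `(a, c)` (`equivProd H Q`, `Fintype.sum_prod_type`), `Finset.prod_univ_sum`,
`Nat.card (wrSub Q U) = (Nat.card U) ^ |Q| * |Q|` (bijection with `(Q → U) × Q`). -/
theorem ind_wr_apply_base {H Q : Type*} [Group H] [Group Q] [Fintype H] [Fintype Q]
    [Fintype (H ≀ᵣ Q)] (U : Subgroup H) (l : ↥U →* ℂˣ) (b : base H Q) :
    Cfsg.indFun (wrSub Q U) (fun y => ((wrHom U l y : ℂˣ) : ℂ)) (b : H ≀ᵣ Q) =
      ∏ q, Cfsg.indFun U (fun u => ((l u : ℂˣ) : ℂ)) (b.1.left q) := by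
  classical
  have key : ∀ (a : Q → H) (c : Q),
      Cfsg.extendByZero (wrSub Q U) (fun y => ((wrHom U l y : ℂˣ) : ℂ))
        ((⟨a, c⟩ : H ≀ᵣ Q)⁻¹ * (b : H ≀ᵣ Q) * ⟨a, c⟩) =
      ∏ q, Cfsg.extendByZero U (fun u => ((l u : ℂˣ) : ℂ)) ((a q)⁻¹ * b.1.left q * a q) := by
    intro a c
    rw [← Equiv.prod_comp (Equiv.mulLeft c)
      (fun q => Cfsg.extendByZero U (fun u => ((l u : ℂˣ) : ℂ)) ((a q)⁻¹ * b.1.left q * a q))]
    simp only [Equiv.coe_mulLeft]
    by_cases hall : ∀ q, (a (c * q))⁻¹ * b.1.left (c * q) * a (c * q) ∈ U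
    · have hmem : (⟨a, c⟩ : H ≀ᵣ Q)⁻¹ * (b : H ≀ᵣ Q) * ⟨a, c⟩ ∈ wrSub Q U := by
        rw [mem_wrSub]
        intro q
        rw [conj_left]
        exact hall q
      rw [ebz_mem _ _ hmem]
      simp only [wrHom_apply, Units.coe_prod]
      apply Finset.prod_congr rfl
      intro q _
      rw [ebz_mem _ _ (hall q)]
      congr 2
      apply Subtype.ext
      exact conj_left a c b q
    · have hnmem : (⟨a, c⟩ : H ≀ᵣ Q)⁻¹ * (b : H ≀ᵣ Q) * ⟨a, c⟩ ∉ wrSub Q U := by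
        rw [mem_wrSub]
        intro h
        apply hall
        intro q
        rw [← conj_left]
        exact h q
      rw [ebz_not_mem _ _ hnmem]
      push Not at hall
      obtain ⟨q, hq⟩ := hall
      symm
      apply Finset.prod_eq_zero (Finset.mem_univ q)
      exact ebz_not_mem _ _ hq
  have hQ0 : (Fintype.card Q : ℂ) ≠ 0 := by
    have : 0 < Fintype.card Q := Fintype.card_pos
    exact_mod_cast this.ne'
  unfold Cfsg.indFun
  rw [← Equiv.sum_comp (equivProd H Q).symm, Fintype.sum_prod_type, Finset.prod_mul_distrib,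
    Finset.prod_univ_sum, Fintype.piFinset_univ, card_wrSub, Finset.prod_const, Finset.card_univ]
  have h1 : ∀ a : Q → H, ∑ c : Q, Cfsg.extendByZero (wrSub Q U) (fun y => ((wrHom U l y : ℂˣ) : ℂ))
        (((equivProd H Q).symm (a, c))⁻¹ * (b : H ≀ᵣ Q) * (equivProd H Q).symm (a, c)) =
      (Fintype.card Q : ℂ) *
        ∏ q, Cfsg.extendByZero U (fun u => ((l u : ℂˣ) : ℂ)) ((a q)⁻¹ * b.1.left q * a q) := by
    intro a
    have h0 : ∀ c ∈ (Finset.univ : Finset Q),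
        Cfsg.extendByZero (wrSub Q U) (fun y => ((wrHom U l y : ℂˣ) : ℂ))
          (((equivProd H Q).symm (a, c))⁻¹ * (b : H ≀ᵣ Q) * (equivProd H Q).symm (a, c)) =
        ∏ q, Cfsg.extendByZero U (fun u => ((l u : ℂˣ) : ℂ)) ((a q)⁻¹ * b.1.left q * a q) :=
      fun c _ => key a c
    rw [Finset.sum_congr rfl h0, Finset.sum_const, Finset.card_univ, nsmul_eq_mul]
  rw [Finset.sum_congr rfl (fun a _ => h1 a), ← Finset.mul_sum]
  push_cast
  rw [_root_.mul_inv, inv_pow, mul_assoc, ← mul_assoc ((Fintype.card Q : ℂ)⁻¹), inv_mul_cancel₀ hQ0,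
    one_mul]

end Cfsg.Agent.Lib.H4MgResInd
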