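import Mathlib
import Cfsg.Prelude.Def_Transfer

/-!
# PROJECT 4016 (row S4016): cyclic Sylow `p`-subgroup + all `p'`-subgroups abelian  ⇒  normal `p`-complement or normal Sylow.
Vocabulary.  `NN P = N_G(P)`, `CC P = C_G(P)`, `cj H g = g H g⁻¹`.
-/

set_option autoImplicit false

namespace Cfsg.Agent.Lib.H53PCDefs

open Subgroup

variable {G : Type*} [Group G]

/-- the conjugate `g H g⁻¹`. -/
def cj (H : Subgroup G) (g : G) : Subgroup G := H.map (MulAut.conj g).toMonoidHom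

theorem mem_cj {H : Subgroup G} {g x : G} : x ∈ cj H g ↔ g⁻¹ * x * g ∈ H := by
  unfold cj
  rw [Subgroup.mem_map]
  constructor
  · rintro ⟨a, ha, rfl⟩
    have : g⁻¹ * ((MulAut.conj g).toMonoidHom a) * g = a := by
      show g⁻¹ * (g * a * g⁻¹) * g = a
      group
    rwa [this]
  · intro h
    refine ⟨_, h, ?_⟩
    show g * (g⁻¹ * x * g) * g⁻¹ = x
    group

theorem conj_mem_cj {H : Subgroup G} {a : G} (ha : a ∈ H) (g : G) : g * a * g⁻¹ ∈ cj H g := by
  rw [mem_cj]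
  have : g⁻¹ * (g * a * g⁻¹) * g = a := by group
  rwa [this]

theorem card_cj (H : Subgroup G) (g : G) : Nat.card (cj H g) = Nat.card H :=
  Nat.card_congr (H.equivMapOfInjective _ (MulAut.conj g).injective).toEquiv.symm

/-- every subgroup of order prime to `p` is commutative. -/
def PAb (p : ℕ) (G : Type*) [Group G] : Prop :=
  ∀ H : Subgroup G, ¬ p ∣ Nat.card H → ∀ a ∈ H, ∀ b ∈ H, a * b = b * a

/-- the subgroup `H` of `G` has a normal `p`-complement `T`. -/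
def PNil (p : ℕ) (H : Subgroup G) : Prop :=
  ∃ T : Subgroup G, T ≤ H ∧ H ≤ normalizer (T : Set G) ∧ ¬ p ∣ Nat.card T ∧
    ∃ k : ℕ, Nat.card H = Nat.card T * p ^ k

/-- the subgroup `H` of `G` has a normal Sylow `p`-subgroup `Q`. -/
def PClosed (p : ℕ) (H : Subgroup G) : Prop :=
  ∃ Q : Subgroup G, Q ≤ H ∧ H ≤ normalizer (Q : Set G) ∧ IsPGroup p Q ∧
    ∃ m : ℕ, ¬ p ∣ m ∧ Nat.card H = Nat.card Q * m

/-- the conclusion of S4016. -/
def Concl (p : ℕ) (G : Type*) [Group G] : Prop :=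
  Cfsg.HasNormalPComplement p G ∨ ∀ P : Sylow p G, (P : Subgroup G).Normal

/-- the hypothesis of S4016. -/
def Hyp (p : ℕ) (G : Type*) [Group G] : Prop :=
  (∀ P : Sylow p G, IsCyclic (P : Subgroup G)) ∧ PAb p G

/-- `N_G(P)`. -/
abbrev NN {p : ℕ} (P : Sylow p G) : Subgroup G := normalizer ((P : Subgroup G) : Set G)

/-- `C_G(P)`. -/
abbrev CC {p : ℕ} (P : Sylow p G) : Subgroup G := centralizer ((P : Subgroup G) : Set G)

/-- a minimal counterexample (after the reductions): `G` simple. -/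
structure MC (p : ℕ) (P : Sylow p G) : Prop where
  simple : IsSimpleGroup G
  pab : PAb p G
  sub : ∀ H : Subgroup G, H ≠ ⊤ → PNil p H ∨ PClosed p H
  cyc : IsCyclic (P : Subgroup G)
  ne_bot : (P : Subgroup G) ≠ ⊥
  ne_top : (P : Subgroup G) ≠ ⊤
  nnc : ¬ NN P ≤ CC P

/-- the basic structure of a minimal counterexample: `z ∈ P` of order `p`, `K` a complement of `P` in `N_G(P)`. -/
structure St (p : ℕ) (P : Sylow p G) (z : G) (K : Subgroup G) : Prop extends MC p P where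
  comm : ∀ a ∈ P, ∀ b ∈ P, a * b = b * a
  zP : z ∈ P
  zo : orderOf z = p
  /-- `⟨z⟩` is the unique minimal subgroup of `P` -/
  zmin : ∀ Q : Subgroup G, Q ≤ P → Q ≠ ⊥ → z ∈ Q
  /-- `N_G(P)` is a maximal subgroup -/
  maxN : ∀ H : Subgroup G, H ≠ ⊤ → NN P ≤ H → H = NN P
  nz : normalizer ((zpowers z : Subgroup G) : Set G) = NN P
  /-- `P` is a TI-subgroup -/
  ti : ∀ g : G, (P : Subgroup G) ⊓ cj (P : Subgroup G) g ≠ ⊥ → g ∈ NN P
  /-- `C_G(x) = C_G(P)` for `1 ≠ x ∈ P` -/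
  wsc : ∀ x ∈ P, x ≠ 1 → centralizer ({x} : Set G) = CC P
  KN : K ≤ NN P
  Kp : ¬ p ∣ Nat.card K
  cardN : Nat.card (NN P) = Nat.card P * Nat.card K
  fac : ∀ n ∈ NN P, ∃ u ∈ P, ∃ k ∈ K, n = u * k
  /-- the `p'`-elements of `C_G(P)` lie in `K` -/
  memK : ∀ t ∈ CC P, ¬ p ∣ orderOf t → t ∈ K
  /-- `C_G(t) = N_G(P)` for a `p'`-element `t ≠ 1` of `C_G(P)` -/
  cent : ∀ t ∈ CC P, t ≠ 1 → ¬ p ∣ orderOf t → centralizer ({t} : Set G) = NN P

/-- data of case A: `t ≠ 1` an element of prime order `r ≠ p` of `C_G(P)`, `R ∋ t` an abelian `r`-subgroup of `N_G(P)`,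
`y` normalizes `R` and `y, y², …, y^(p-1) ∉ N_G(P)`. -/
structure AD (p r : ℕ) (P : Sylow p G) (t y : G) (R : Subgroup G) : Prop where
  tC : t ∈ CC P
  tord : orderOf t = r
  tR : t ∈ R
  RN : R ≤ NN P
  Rcomm : ∀ a ∈ R, ∀ b ∈ R, a * b = b * a
  Rr : IsPGroup r R
  yR : y ∈ normalizer (R : Set G)
  yN : ∀ i : ℕ, 0 < i → i < p → y ^ i ∉ NN P

theorem centralizer_conj (a g : G) :
    centralizer ({g * a * g⁻¹} : Set G) = cj (centralizer ({a} : Set G)) g := by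
  ext x
  rw [mem_cj, mem_centralizer_singleton_iff, mem_centralizer_singleton_iff]
  constructor
  · intro h
    calc g⁻¹ * x * g * a = g⁻¹ * (x * (g * a * g⁻¹)) * g := by group
      _ = g⁻¹ * ((g * a * g⁻¹) * x) * g := by rw [h]
      _ = _ := by group
  · intro h
    calc x * (g * a * g⁻¹) = g * ((g⁻¹ * x * g) * a) * g⁻¹ := by group
      _ = g * (a * (g⁻¹ * x * g)) * g⁻¹ := by rw [h]
      _ = _ := by group

end Cfsg.Agent.Lib.H53PCDefs
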