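import Mathlib
import Cfsg.Agent.Lib.H53PCDefs

/-!
# PROJECT 2873 (row S2873): `G / O₂(G)` dihedral of order `2r`, `C_{O₂(G)}(R) = 1`.
Vocabulary.  `Q` = the normal 2-subgroup, `R` a Sylow `r`-subgroup, `NR R = N_G(R)`, `cj H g = g H g⁻¹` (from `H53PCDefs`).
-/

set_option autoImplicit false

namespace Cfsg.Agent.Lib.H53DQDefs

open Subgroup Cfsg.Agent.Lib.H53PCDefs

variable {G : Type*} [Group G]

/-- `N_G(R)`. -/
abbrev NR {r : ℕ} (R : Sylow r G) : Subgroup G := normalizer ((R : Subgroup G) : Set G)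

/-- the working hypotheses (all consequences of the hypotheses of S2873). -/
structure DD (r : ℕ) (Q : Subgroup G) (R : Sylow r G) : Prop where
  Qn : Q.Normal
  Q2 : IsPGroup 2 Q
  hr : r ≠ 2
  cardR : Nat.card (R : Subgroup G) = r
  /-- `Q ∩ N_G(R) = 1` -/
  QN : ∀ q ∈ Q, q ∈ NR R → q = 1
  /-- `G = Q N_G(R)` -/
  fac : ∀ g : G, ∃ q ∈ Q, ∃ n ∈ NR R, g = q * n
  /-- `C_Q(R) = 1` -/
  QC : ∀ q ∈ Q, (∀ x ∈ R, q * x = x * q) → q = 1
  /-- an involution outside `Q` inverts `R` modulo `Q` -/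
  inv : ∀ b : G, orderOf b = 2 → b ∉ Q → ∀ x ∈ R, b * x * b⁻¹ * x ∈ Q
  /-- the product of two involutions outside `Q` has order dividing `r` modulo `Q` -/
  prod : ∀ b b' : G, orderOf b = 2 → orderOf b' = 2 → b ∉ Q → b' ∉ Q → (b * b') ^ r ∈ Q
  /-- the involutions of `N_G(R)` are conjugate in `N_G(R)` -/
  conjN : ∀ a ∈ NR R, ∀ b ∈ NR R, orderOf a = 2 → orderOf b = 2 → ∃ n ∈ NR R, n * a * n⁻¹ = b

end Cfsg.Agent.Lib.H53DQDefs
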