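import Mathlib
import Cfsg.Agent.Lib.H53PCDefs

/-! PROJECT 4016 (row S4016), piece ANN.  See notes/helper53/PC/README.md.  Other pieces are cited as `Cfsg.Agent.Lib.H53PC<Piece>.<thm>`. -/

set_option autoImplicit false

namespace Cfsg.Agent.Lib.H53PCANN

open Subgroup Cfsg.Agent.Lib.H53PCDefs

variable {G : Type*} [Group G] [Finite G] {p : ℕ} [Fact p.Prime]

/-- WLOG `i < j`: `y^(j-i)` normalizes `N(P)`, and `N(N(P)) = N(P)` (`Sylow.normalizer_normalizer`). -/
theorem cj_inj (P : Sylow p G) {y : G} (yN : ∀ i : ℕ, 0 < i → i < p → y ^ i ∉ NN P) :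
    ∀ i j : ℕ, i < p → j < p → cj (NN P) (y ^ i) = cj (NN P) (y ^ j) → i = j := by
  have key : ∀ i j : ℕ, i < j → j < p → cj (NN P) (y ^ i) = cj (NN P) (y ^ j) → False := by
    intro i j hij hj h
    have hmem : y ^ (j - i) ∈ normalizer ((NN P : Subgroup G) : Set G) := by
      rw [Subgroup.mem_normalizer_iff]
      intro x
      have hy : y ^ j = y ^ i * y ^ (j - i) := by
        rw [← pow_add]; congr 1; omega
      constructor
      · intro hx
        -- y^j x y^-j ∈ cj N (y^j) = cj N (y^i)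
        have h1 : y ^ j * x * (y ^ j)⁻¹ ∈ cj (NN P) (y ^ i) := by
          rw [h]; exact conj_mem_cj hx _
        rw [mem_cj] at h1
        have : (y ^ i)⁻¹ * (y ^ j * x * (y ^ j)⁻¹) * y ^ i = y ^ (j - i) * x * (y ^ (j - i))⁻¹ := by
          rw [hy]; group
        rwa [this] at h1
      · intro hx
        have h1 : y ^ i * (y ^ (j - i) * x * (y ^ (j - i))⁻¹) * (y ^ i)⁻¹ ∈ cj (NN P) (y ^ j) := by
          rw [← h]; exact conj_mem_cj hx _
        rw [mem_cj] at h1
        have : (y ^ j)⁻¹ * (y ^ i * (y ^ (j - i) * x * (y ^ (j - i))⁻¹) * (y ^ i)⁻¹) * y ^ j = x := by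
          rw [hy]; group
        rwa [this] at h1
    have hnn : normalizer ((NN P : Subgroup G) : Set G) = NN P := Sylow.normalizer_normalizer P
    rw [hnn] at hmem
    exact yN (j - i) (by omega) (by omega) hmem
  intro i j hi hj h
  rcases lt_trichotomy i j with hij | hij | hij
  · exact (key i j hij hj h).elim
  · exact hij
  · exact (key j i hij hi h.symm).elim

end Cfsg.Agent.Lib.H53PCANN
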