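import Mathlib
import Cfsg.Agent.Lib.H53PCDefs
import Cfsg.Agent.Lib.H53PCANN

/-! PROJECT 4016 (row S4016), piece AT1.  See notes/helper53/PC/README.md.  Other pieces are cited as `Cfsg.Agent.Lib.H53PC<Piece>.<thm>`. -/

set_option autoImplicit false

namespace Cfsg.Agent.Lib.H53PCAT1

open Subgroup Cfsg.Agent.Lib.H53PCDefs

variable {G : Type*} [Group G] [Finite G] {p : ℕ} [Fact p.Prime]

/-- else `C(y^i t y^-i) = N(P)` by `S.cent` (the order is `r`), but it is `cj (NN P) (y^i)` by `centralizer_conj` + `S.cent` for `t`; `ANN.cj_inj` with `0` and `i`. -/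
theorem conj_not_mem {P : Sylow p G} {z : G} {K : Subgroup G} (S : St p P z K) {r : ℕ} [Fact r.Prime]
    (hrp : r ≠ p) {t y : G} {R : Subgroup G} (D : AD p r P t y R) :
    ∀ i : ℕ, 0 < i → i < p → y ^ i * t * (y ^ i)⁻¹ ∉ CC P := by
  intro i hi hip hmem
  have hp : p.Prime := Fact.out
  have hr : r.Prime := Fact.out
  have hrp' : ¬ p ∣ r := fun h => hrp ((Nat.prime_dvd_prime_iff_eq hp hr).mp h).symm
  have t1 : t ≠ 1 := by
    intro h
    have := D.tord
    rw [h, orderOf_one] at this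
    exact hr.one_lt.ne this
  have hCt : centralizer ({t} : Set G) = NN P := S.cent t D.tC t1 (by rw [D.tord]; exact hrp')
  have hao : orderOf (y ^ i * t * (y ^ i)⁻¹) = r := by
    rw [← D.tord]
    exact (MulAut.conj (y ^ i)).orderOf_eq t
  have a1 : y ^ i * t * (y ^ i)⁻¹ ≠ 1 := by
    intro h
    rw [h, orderOf_one] at hao
    exact hr.one_lt.ne hao
  have h1 : centralizer ({y ^ i * t * (y ^ i)⁻¹} : Set G) = NN P :=
    S.cent _ hmem a1 (by rw [hao]; exact hrp')
  have h2 : centralizer ({y ^ i * t * (y ^ i)⁻¹} : Set G) = cj (NN P) (y ^ i) := by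
    rw [centralizer_conj, hCt]
  have h3 : cj (NN P) (y ^ 0) = cj (NN P) (y ^ i) := by
    rw [← h2, h1, pow_zero]
    ext x
    rw [mem_cj]
    simp
  have := Cfsg.Agent.Lib.H53PCANN.cj_inj P D.yN 0 i hp.pos hip h3
  omega

end Cfsg.Agent.Lib.H53PCAT1
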