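import Mathlib
import Cfsg.Agent.Lib.H53PCDefs

/-! PROJECT 4016 (row S4016), piece CentCj.  See notes/helper53/PC/README.md.  Other pieces are cited as `Cfsg.Agent.Lib.H53PC<Piece>.<thm>`. -/

set_option autoImplicit false

namespace Cfsg.Agent.Lib.H53PCCentCj

open Subgroup Cfsg.Agent.Lib.H53PCDefs

variable {G : Type*} [Group G] [Finite G] {p : ℕ} [Fact p.Prime]

/-- conjugate of `S.cent`: `g⁻¹ a g ∈ C(P)` is a `p'`-element `≠ 1`, so `C(g⁻¹ a g) = N(P)`; `a = g (g⁻¹ a g) g⁻¹` and `centralizer_conj`. -/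
theorem centralizer_eq_cj {P : Sylow p G} {z : G} {K : Subgroup G} (S : St p P z K) {a g : G}
    (ha : a ∈ cj (CC P) g) (ha1 : a ≠ 1) (hao : ¬ p ∣ orderOf a) :
    centralizer ({a} : Set G) = cj (NN P) g := by
  rw [mem_cj] at ha
  have hconj : a = g * (g⁻¹ * a * g) * g⁻¹ := by group
  have hne : g⁻¹ * a * g ≠ 1 := by
    intro h
    apply ha1
    rw [hconj, h]; group
  have hord : orderOf (g⁻¹ * a * g) = orderOf a := by
    have h := orderOf_injective (MulAut.conj g⁻¹).toMonoidHom (MulAut.conj g⁻¹).injective a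
    have h2 : (MulAut.conj g⁻¹).toMonoidHom a = g⁻¹ * a * g := by
      show g⁻¹ * a * g⁻¹⁻¹ = g⁻¹ * a * g
      rw [inv_inv]
    rw [h2] at h
    exact h
  have h1 := S.cent (g⁻¹ * a * g) ha hne (by rw [hord]; exact hao)
  calc centralizer ({a} : Set G) = centralizer ({g * (g⁻¹ * a * g) * g⁻¹} : Set G) := by rw [← hconj]
    _ = cj (centralizer ({g⁻¹ * a * g} : Set G)) g := centralizer_conj _ _
    _ = cj (NN P) g := by rw [h1]

end Cfsg.Agent.Lib.H53PCCentCj
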