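import Mathlib
import Cfsg.Agent.Lib.H53PCDefs

/-! PROJECT 4016 (row S4016), piece CycB.  See notes/helper53/PC/README.md.  Other pieces are cited as `Cfsg.Agent.Lib.H53PC<Piece>.<thm>`. -/

set_option autoImplicit false

namespace Cfsg.Agent.Lib.H53PCCycB

open Subgroup Cfsg.Agent.Lib.H53PCDefs

variable {G : Type*} [Group G] [Finite G] {p : ℕ} [Fact p.Prime]

/-- roots of unity of prime order in a domain. -/
theorem exists_pow_eq {R : Type*} [CommRing R] [IsDomain R] {r : ℕ} (hr : r.Prime) {α β : Rˣ}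
    (hα : α ^ r = 1) (hβ : β ^ r = 1) (hα1 : α ≠ 1) : ∃ i : ℕ, α ^ i = β := by
  haveI : Fact r.Prime := ⟨hr⟩
  haveI : NeZero r := ⟨hr.ne_zero⟩
  have ho : orderOf α = r := orderOf_eq_prime hα hα1
  have h1 : IsPrimitiveRoot α r := ho ▸ IsPrimitiveRoot.orderOf α
  have h2 : IsPrimitiveRoot (α : R) r := IsPrimitiveRoot.coe_units_iff.mpr h1
  have h3 : (β : R) ^ r = 1 := by
    rw [← Units.val_pow_eq_pow_val, hβ, Units.val_one]
  obtain ⟨i, -, hi⟩ := h2.eq_pow_of_pow_eq_one h3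
  refine ⟨i, Units.ext ?_⟩
  rw [Units.val_pow_eq_pow_val, hi]

/-- `a, b` commuting of order dividing `r`, `b ∉ ⟨a⟩`, `a ≠ 1`, both normalizing `⟨z⟩ ≅ Z_p`.  Then some `e ≠ 1` of `⟨a, b⟩` centralizes `z`.
Proof A: `a z a⁻¹ = z^α`, `b z b⁻¹ = z^β`, `α^r = β^r = 1` in `(ZMod p)ˣ`; if `α = 1` take `e = a`; otherwise `α` generates the `r`-th roots of unity (at most `r` of them in a field),
so `β = α^k` and `e = (a^k)⁻¹ b ≠ 1`.  Proof B: otherwise `⟨a,b⟩` embeds in the cyclic group `MulAut (zpowers z)`, so it is cyclic, of exponent `r`, so of order `≤ r`, but it contains `⟨a⟩` properly. -/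
theorem exists_centralizing {z : G} (zo : orderOf z = p) {r : ℕ} [Fact r.Prime] {a b : G}
    (ha : a ∈ normalizer ((zpowers z : Subgroup G) : Set G))
    (hb : b ∈ normalizer ((zpowers z : Subgroup G) : Set G))
    (hab : a * b = b * a) (har : a ^ r = 1) (hbr : b ^ r = 1) (ha1 : a ≠ 1) (hba : b ∉ zpowers a) :
    ∃ e ∈ closure ({a, b} : Set G), e ≠ 1 ∧ e * z = z * e := by
  have hr : r.Prime := Fact.out
  haveI : Fact (Nat.card (zpowers z)).Prime := ⟨by rw [Nat.card_zpowers, zo]; exact Fact.out⟩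
  set Z : Subgroup G := zpowers z with hZ
  let χ : normalizer (Z : Set G) →* (ZMod (Nat.card Z))ˣ :=
    (IsCyclic.mulAutMulEquiv Z).toMonoidHom.comp Z.normalizerMonoidHom
  have hker : ∀ e : normalizer (Z : Set G), χ e = 1 → (e : G) * z = z * e := by
    intro e he
    have h1 : Z.normalizerMonoidHom e = 1 := by
      have : (IsCyclic.mulAutMulEquiv Z) (Z.normalizerMonoidHom e) = 1 := he
      exact (MulEquiv.map_eq_one_iff _).mp this
    have h2 : e ∈ Z.normalizerMonoidHom.ker := h1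
    rw [normalizerMonoidHom_ker, mem_subgroupOf, mem_centralizer_iff] at h2
    exact (h2 z (mem_zpowers z)).symm
  have haC : a ∈ closure ({a, b} : Set G) := subset_closure (by simp)
  have hbC : b ∈ closure ({a, b} : Set G) := subset_closure (by simp)
  by_cases hα : χ ⟨a, ha⟩ = 1
  · exact ⟨a, haC, ha1, hker ⟨a, ha⟩ hα⟩
  · have h1 : χ ⟨a, ha⟩ ^ r = 1 := by
      rw [← map_pow]
      have : (⟨a, ha⟩ : normalizer (Z : Set G)) ^ r = 1 := Subtype.ext (by simpa using har)
      rw [this, map_one]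
    have h2 : χ ⟨b, hb⟩ ^ r = 1 := by
      rw [← map_pow]
      have : (⟨b, hb⟩ : normalizer (Z : Set G)) ^ r = 1 := Subtype.ext (by simpa using hbr)
      rw [this, map_one]
    obtain ⟨i, hi⟩ := exists_pow_eq hr h1 h2 hα
    refine ⟨(a ^ i)⁻¹ * b, mul_mem (inv_mem (pow_mem haC i)) hbC, ?_, ?_⟩
    · intro h
      apply hba
      have : b = a ^ i := by
        rw [inv_mul_eq_one] at h
        exact h.symm
      rw [this]
      exact pow_mem (mem_zpowers a) i
    · have := hker ((⟨a, ha⟩ ^ i)⁻¹ * ⟨b, hb⟩) (by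
        rw [map_mul, map_inv, map_pow, hi, inv_mul_cancel])
      simpa using this

end Cfsg.Agent.Lib.H53PCCycB
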