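import Mathlib
import Cfsg.Agent.Lib.H53PCDefs
import Cfsg.Agent.Lib.H53PCAT1
import Cfsg.Agent.Lib.H53PCCycB
import Cfsg.Agent.Lib.H53PCCentCj

/-! PROJECT 4016 (row S4016), piece AE.  See notes/helper53/PC/README.md.  Other pieces are cited as `Cfsg.Agent.Lib.H53PC<Piece>.<thm>`. -/

set_option autoImplicit false

namespace Cfsg.Agent.Lib.H53PCAE

open Subgroup Cfsg.Agent.Lib.H53PCDefs

variable {G : Type*} [Group G] [Finite G] {p : ℕ} [Fact p.Prime]

/-- `t, t' = y t y⁻¹ ∈ R = y^i R y^-i ≤ cj (NN P) (y^i) = N(⟨z_i⟩)`, `z_i = y^i z y^-i` of order `p`.  `t' ∉ ⟨t⟩` (`⟨t⟩ ≤ C(P)`, `AT1`).  `CycB.exists_centralizing` gives `1 ≠ e ∈ ⟨t,t'⟩ ≤ R` centralizing `z_i`,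
so `y^-i e y^i ∈ C(z) = C(P)`, i.e. `e ∈ cj (CC P) (y^i)`; `e` is an `r`-element; `CentCj.centralizer_eq_cj`. -/
theorem exists_e {P : Sylow p G} {z : G} {K : Subgroup G} (S : St p P z K) {r : ℕ} [Fact r.Prime]
    (hrp : r ≠ p) {t y : G} {R : Subgroup G} (D : AD p r P t y R) :
    ∀ i : ℕ, i < p → ∃ e ∈ closure ({t, y * t * y⁻¹} : Set G), e ≠ 1 ∧
      centralizer ({e} : Set G) = cj (NN P) (y ^ i) := by
  intro i hi
  have hp : p.Prime := Fact.out
  have hr : r.Prime := Fact.out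
  have hpr : ¬ p ∣ r := fun h => hrp ((Nat.prime_dvd_prime_iff_eq hp hr).mp h).symm
  have huR : y ^ i ∈ normalizer (R : Set G) := pow_mem D.yR i
  generalize y ^ i = u at huR
  have ht'R : y * t * y⁻¹ ∈ R := (mem_normalizer_iff.mp D.yR t).mp D.tR
  have t1 : t ≠ 1 := by
    intro h
    have := D.tord
    rw [h, orderOf_one] at this
    exact hr.one_lt.ne this
  have z1 : z ≠ 1 := by
    intro h
    have := S.zo
    rw [h, orderOf_one] at this
    exact hp.one_lt.ne this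
  have htr : t ^ r = 1 := by rw [← D.tord]; exact pow_orderOf_eq_one t
  have ht'r : (y * t * y⁻¹) ^ r = 1 := by rw [conj_pow, htr]; simp
  have hzo : orderOf (u * z * u⁻¹) = p := by rw [← S.zo]; exact (MulAut.conj u).orderOf_eq z
  have hz : (zpowers (u * z * u⁻¹) : Subgroup G) = cj (zpowers z) u := by
    unfold cj
    rw [MonoidHom.map_zpowers]
    rfl
  have hnorm : ∀ a ∈ R, a ∈ normalizer ((zpowers (u * z * u⁻¹) : Subgroup G) : Set G) := by
    intro a aR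
    have h1 : u⁻¹ * a * u ∈ R := by
      have := (mem_normalizer_iff.mp (inv_mem huR) a).mp aR
      rwa [inv_inv] at this
    have h2 : u⁻¹ * a * u ∈ normalizer ((zpowers z : Subgroup G) : Set G) := by
      rw [S.nz]; exact D.RN h1
    rw [hz, mem_normalizer_iff]
    intro x
    rw [mem_cj, mem_cj]
    have := mem_normalizer_iff.mp h2 (u⁻¹ * x * u)
    have e : u⁻¹ * a * u * (u⁻¹ * x * u) * (u⁻¹ * a * u)⁻¹ = u⁻¹ * (a * x * a⁻¹) * u := by group
    rw [e] at this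
    exact this
  have hnot : y * t * y⁻¹ ∉ zpowers t := by
    intro h
    have h1 : zpowers t ≤ CC P := zpowers_le.mpr D.tC
    have := Cfsg.Agent.Lib.H53PCAT1.conj_not_mem S hrp D 1 one_pos hp.one_lt
    rw [pow_one] at this
    exact this (h1 h)
  obtain ⟨e, he, e1, hez⟩ := Cfsg.Agent.Lib.H53PCCycB.exists_centralizing hzo (r := r) (hnorm t D.tR)
    (hnorm _ ht'R) (D.Rcomm _ D.tR _ ht'R) htr ht'r t1 hnot
  refine ⟨e, he, e1, ?_⟩
  have heR : e ∈ R := (closure_le R).mpr (by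
    intro x hx
    rcases hx with rfl | rfl
    · exact D.tR
    · exact ht'R) he
  apply Cfsg.Agent.Lib.H53PCCentCj.centralizer_eq_cj S _ e1 _
  · rw [mem_cj, ← S.wsc z S.zP z1, mem_centralizer_singleton_iff]
    calc u⁻¹ * e * u * z = u⁻¹ * (e * (u * z * u⁻¹)) * u := by group
      _ = u⁻¹ * ((u * z * u⁻¹) * e) * u := by rw [hez]
      _ = _ := by group
  · obtain ⟨n, hn⟩ := (IsPGroup.iff_orderOf.mp D.Rr) ⟨e, heR⟩
    rw [Subgroup.orderOf_mk] at hn
    rw [hn]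
    intro h
    exact hpr (hp.dvd_of_dvd_pow h)

end Cfsg.Agent.Lib.H53PCAE
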