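import Mathlib
import Cfsg.Agent.Lib.H53PCDefs

/-! PROJECT 4016 (row S4016), piece CentZ.  See notes/helper53/PC/README.md.  Other pieces are cited as `Cfsg.Agent.Lib.H53PC<Piece>.<thm>`. -/

set_option autoImplicit false

namespace Cfsg.Agent.Lib.H53PCCentZ

open Subgroup Cfsg.Agent.Lib.H53PCDefs

variable {G : Type*} [Group G] [Finite G] {p : ℕ} [Fact p.Prime]

/-- `⟨b⟩ = ⟨a⟩` since `⟨a⟩` has prime order. -/
theorem centralizer_eq_of_mem_zpowers {r : ℕ} [Fact r.Prime] {a b : G} (ha : a ^ r = 1)
    (hb : b ∈ zpowers a) (hb1 : b ≠ 1) : centralizer ({b} : Set G) = centralizer ({a} : Set G) := by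
  have hr : r.Prime := Fact.out
  have key : ∀ {x y : G}, y ∈ zpowers x → centralizer ({x} : Set G) ≤ centralizer ({y} : Set G) := by
    intro x y hy c hc
    rw [mem_centralizer_singleton_iff] at hc ⊢
    obtain ⟨k, rfl⟩ := hy
    exact ((Commute.zpow_right (show Commute c x from hc) k)).eq
  have ha1 : a ≠ 1 := by
    rintro rfl
    rw [zpowers_one_eq_bot, mem_bot] at hb
    exact hb1 hb
  have hoa : orderOf a = r := orderOf_eq_prime ha ha1
  have hab : a ∈ zpowers b := by
    have hcard : Nat.card (zpowers a) = r := by rw [Nat.card_zpowers, hoa]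
    have hle : zpowers b ≤ zpowers a := by rwa [zpowers_le]
    have hd : Nat.card (zpowers b) ∣ r := by rw [← hcard]; exact card_dvd_of_le hle
    rcases (Nat.dvd_prime hr).1 hd with h | h
    · exfalso
      rw [Nat.card_zpowers, orderOf_eq_one_iff] at h
      exact hb1 h
    · have : zpowers b = zpowers a := eq_of_le_of_card_ge hle (by rw [h, hcard])
      rw [this]; exact mem_zpowers a
  exact le_antisymm (key hab) (key hb)

end Cfsg.Agent.Lib.H53PCCentZ
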