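import Mathlib
import Cfsg.Agent.Lib.H53PCDefs

/-! PROJECT 4016 (row S4016), piece CountA.  See notes/helper53/PC/README.md.  Other pieces are cited as `Cfsg.Agent.Lib.H53PC<Piece>.<thm>`. -/

set_option autoImplicit false

namespace Cfsg.Agent.Lib.H53PCCountA

open Subgroup Cfsg.Agent.Lib.H53PCDefs

variable {G : Type*} [Group G] [Finite G] {p : ℕ} [Fact p.Prime]

/-- every element of `⟨a,b⟩` is `a^i b^j` with `i, j < r`. -/
theorem card_closure_pair_le {r : ℕ} (hr : 0 < r) {a b : G} (hab : a * b = b * a) (har : a ^ r = 1)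
    (hbr : b ^ r = 1) :
    Nat.card (closure ({a, b} : Set G)) ≤ r ^ 2 ∧ ∀ x ∈ closure ({a, b} : Set G), x ^ r = 1 := by
  classical
  have hc : Commute a b := hab
  have hainv : a⁻¹ = a ^ (r - 1) := by
    apply inv_eq_of_mul_eq_one_right
    rw [← pow_succ', Nat.sub_add_cancel hr, har]
  have hbinv : b⁻¹ = b ^ (r - 1) := by
    apply inv_eq_of_mul_eq_one_right
    rw [← pow_succ', Nat.sub_add_cancel hr, hbr]
  have key : ∀ x ∈ closure ({a, b} : Set G), ∃ i j : ℕ, x = a ^ i * b ^ j := by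
    intro x hx
    induction hx using Subgroup.closure_induction with
    | mem y hy =>
      rcases hy with rfl | hy
      · exact ⟨1, 0, by simp⟩
      · rw [Set.mem_singleton_iff] at hy
        subst hy
        exact ⟨0, 1, by simp⟩
    | one => exact ⟨0, 0, by simp⟩
    | mul y z _ _ hy hz =>
      obtain ⟨i, j, rfl⟩ := hy
      obtain ⟨i', j', rfl⟩ := hz
      refine ⟨i + i', j + j', ?_⟩
      have h1 : Commute (b ^ j) (a ^ i') := (hc.symm.pow_pow j i')
      calc a ^ i * b ^ j * (a ^ i' * b ^ j') = a ^ i * (b ^ j * a ^ i') * b ^ j' := by group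
        _ = a ^ i * (a ^ i' * b ^ j) * b ^ j' := by rw [h1.eq]
        _ = a ^ (i + i') * b ^ (j + j') := by rw [pow_add, pow_add]; group
    | inv y _ hy =>
      obtain ⟨i, j, rfl⟩ := hy
      refine ⟨(r - 1) * i, (r - 1) * j, ?_⟩
      rw [mul_inv_rev, ← inv_pow, ← inv_pow, hainv, hbinv, ← pow_mul, ← pow_mul]
      exact ((hc.symm.pow_pow _ _)).eq
  have key2 : ∀ x ∈ closure ({a, b} : Set G), ∃ i j : Fin r, x = a ^ (i : ℕ) * b ^ (j : ℕ) := by
    intro x hx
    obtain ⟨i, j, rfl⟩ := key x hx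
    refine ⟨⟨i % r, Nat.mod_lt _ hr⟩, ⟨j % r, Nat.mod_lt _ hr⟩, ?_⟩
    have h1 : a ^ i = a ^ (i % r) := by
      conv_lhs => rw [← Nat.div_add_mod i r, pow_add, pow_mul, har, one_pow, one_mul]
    have h2 : b ^ j = b ^ (j % r) := by
      conv_lhs => rw [← Nat.div_add_mod j r, pow_add, pow_mul, hbr, one_pow, one_mul]
    rw [h1, h2]
  constructor
  · let f : Fin r × Fin r → G := fun x => a ^ (x.1 : ℕ) * b ^ (x.2 : ℕ)
    have hsub : ((closure ({a, b} : Set G) : Subgroup G) : Set G) ⊆ f '' Set.univ := by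
      intro x hx
      obtain ⟨i, j, hij⟩ := key2 x hx
      exact ⟨(i, j), Set.mem_univ _, hij.symm⟩
    calc Nat.card (closure ({a, b} : Set G))
        = ((closure ({a, b} : Set G) : Subgroup G) : Set G).ncard := (Nat.card_coe_set_eq _)
      _ ≤ (f '' Set.univ).ncard := Set.ncard_le_ncard hsub (Set.toFinite _)
      _ ≤ (Set.univ : Set (Fin r × Fin r)).ncard := Set.ncard_image_le (Set.toFinite _)
      _ = r ^ 2 := by rw [Set.ncard_univ, Nat.card_prod, Nat.card_fin, pow_two]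
  · intro x hx
    obtain ⟨i, j, rfl⟩ := key x hx
    rw [(hc.pow_pow i j).mul_pow, ← pow_mul, ← pow_mul, mul_comm i, mul_comm j, pow_mul, pow_mul,
      har, hbr, one_pow, one_pow, one_mul]

end Cfsg.Agent.Lib.H53PCCountA
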