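import Cfsg.Agent.Lib.Helper98SoftDefs


/-! PROJECT 3811 (soft subgroups), PIECE N2b. -/

namespace Cfsg.Agent.Lib.H98SoftN2b

open Cfsg.Agent.Lib.Helper98SoftDefs Subgroup

variable {G : Type*} [Group G] {p : ℕ} {A : Subgroup G}

/-- PURE COMBINATORICS.  A family `F` of subsets of a finite set `N`, each of size `p z`, each containing `Z` (`|Z| = z > 0`), any two different
members meeting exactly in `Z`, `|N| = p² z`.  Then `|F| ≤ p + 1`. -/
theorem card_family_le {α : Type*} [DecidableEq α] (p z : ℕ) (hp : 1 < p) (hz : 0 < z) (N Z : Finset α) (F : Finset (Finset α))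
    (hN : N.card = p ^ 2 * z) (hZ : Z.card = z) (h1 : ∀ X ∈ F, X ⊆ N) (h2 : ∀ X ∈ F, Z ⊆ X) (h3 : ∀ X ∈ F, X.card = p * z)
    (h4 : ∀ X ∈ F, ∀ Y ∈ F, X ≠ Y → X ∩ Y = Z) : F.card ≤ p + 1 := by
  by_cases hF : F = ∅
  · simp [hF]
  obtain ⟨X0, hX0⟩ := Finset.nonempty_iff_ne_empty.2 hF
  have hZN : Z ⊆ N := (h2 X0 hX0).trans (h1 X0 hX0)
  have hdisj : ∀ X ∈ F, ∀ Y ∈ F, X ≠ Y → Disjoint (X \ Z) (Y \ Z) := by
    intro X hX Y hY hXY
    rw [Finset.disjoint_left]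
    intro a ha hb
    rw [Finset.mem_sdiff] at ha hb
    have : a ∈ X ∩ Y := Finset.mem_inter.2 ⟨ha.1, hb.1⟩
    rw [h4 X hX Y hY hXY] at this
    exact ha.2 this
  have hcard : (F.biUnion (fun X => X \ Z)).card = ∑ X ∈ F, (X \ Z).card :=
    Finset.card_biUnion hdisj
  have hsub : F.biUnion (fun X => X \ Z) ⊆ N \ Z := by
    intro a ha
    rw [Finset.mem_biUnion] at ha
    obtain ⟨X, hX, ha⟩ := ha
    rw [Finset.mem_sdiff] at ha ⊢
    exact ⟨h1 X hX ha.1, ha.2⟩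
  have hle := Finset.card_le_card hsub
  have hs : ∑ X ∈ F, (X \ Z).card = F.card * (p * z - z) := by
    rw [Finset.sum_const_nat (m := p * z - z)]
    intro X hX
    rw [Finset.card_sdiff_of_subset (h2 X hX), h3 X hX, hZ]
  rw [hcard, hs, Finset.card_sdiff_of_subset hZN, hN, hZ] at hle
  obtain ⟨q, rfl⟩ : ∃ q, p = q + 2 := ⟨p - 2, by omega⟩
  have e1 : (q + 2) * z - z = (q + 1) * z := by
    have : (q + 2) * z = (q + 1) * z + z := by ring
    omega
  have e2 : (q + 2) ^ 2 * z - z = (q + 2 + 1) * ((q + 1) * z) := by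
    have : (q + 2) ^ 2 * z = (q + 2 + 1) * ((q + 1) * z) + z := by ring
    omega
  rw [e1, e2] at hle
  exact Nat.le_of_mul_le_mul_right hle (by positivity)

end Cfsg.Agent.Lib.H98SoftN2b
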