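import Mathlib
import Cfsg.Agent.Lib.H53PCDefs
import Cfsg.Agent.Lib.H98SoftN2b

/-! PROJECT 4016 (row S4016), piece CountB.  See notes/helper53/PC/README.md.  Other pieces are cited as `Cfsg.Agent.Lib.H53PC<Piece>.<thm>`. -/

set_option autoImplicit false

namespace Cfsg.Agent.Lib.H53PCCountB

open Subgroup Cfsg.Agent.Lib.H53PCDefs

variable {G : Type*} [Group G] [Finite G] {p : ℕ} [Fact p.Prime]

/-- the sets `zpowers (e i) \ {1}` (`i < n`) have `r - 1` elements each and are pairwise disjoint (a common element `x ≠ 1` generates both groups of prime order `r`),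
inside `E \ {1}`: `n (r - 1) ≤ r² - 1`.  (landed pure lemma `H98SoftN2b.card_family_le` may help, needs `|N| = r²` exactly; direct counting is also fine.) -/
theorem le_succ_of_family {r : ℕ} [Fact r.Prime] (E : Subgroup G) (hE : Nat.card E ≤ r ^ 2)
    (hexp : ∀ x ∈ E, x ^ r = 1) (n : ℕ) (e : ℕ → G) (he : ∀ i < n, e i ∈ E) (he1 : ∀ i < n, e i ≠ 1)
    (hdis : ∀ i < n, ∀ j < n, i ≠ j → e j ∉ zpowers (e i)) : n ≤ r + 1 := by
  classical
  haveI : Fintype G := Fintype.ofFinite G
  have hr : r.Prime := Fact.out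
  have hord : ∀ i < n, orderOf (e i) = r := fun i hi =>
    orderOf_eq_prime (hexp _ (he i hi)) (he1 i hi)
  let A : ℕ → Finset G := fun i => ((zpowers (e i) : Subgroup G) : Set G).toFinset.erase 1
  have hcardA : ∀ i < n, (A i).card = r - 1 := by
    intro i hi
    have h1 : (1 : G) ∈ ((zpowers (e i) : Subgroup G) : Set G).toFinset := by
      rw [Set.mem_toFinset]; exact (zpowers (e i)).one_mem
    rw [Finset.card_erase_of_mem h1, Set.toFinset_card, ← Nat.card_eq_fintype_card]
    have h2 : Nat.card ((zpowers (e i) : Subgroup G) : Set G) = r :=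
      (Nat.card_zpowers (e i)).trans (hord i hi)
    rw [h2]
  have hgen : ∀ i < n, ∀ x ∈ zpowers (e i), x ≠ 1 → zpowers x = zpowers (e i) := by
    intro i hi x hx hx1
    apply Subgroup.eq_of_le_of_card_ge (by rw [zpowers_le]; exact hx)
    rw [Nat.card_zpowers, Nat.card_zpowers, hord i hi]
    have hxE : x ∈ E := by
      have : zpowers (e i) ≤ E := by rw [zpowers_le]; exact he i hi
      exact this hx
    rw [orderOf_eq_prime (hexp x hxE) hx1]
  have hdisj : ∀ i ∈ Finset.range n, ∀ j ∈ Finset.range n, i ≠ j → Disjoint (A i) (A j) := by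
    intro i hi j hj hij
    rw [Finset.mem_range] at hi hj
    rw [Finset.disjoint_left]
    intro x hxi hxj
    rw [Finset.mem_erase, Set.mem_toFinset] at hxi hxj
    have h1 := hgen i hi x hxi.2 hxi.1
    have h2 := hgen j hj x hxj.2 hxj.1
    apply hdis i hi j hj hij
    rw [← h1, h2]
    exact mem_zpowers _
  have hunion : ((Finset.range n).biUnion A).card = n * (r - 1) := by
    rw [Finset.card_biUnion hdisj, Finset.sum_congr rfl (fun i hi => hcardA i (Finset.mem_range.1 hi)),
      Finset.sum_const, Finset.card_range, smul_eq_mul]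
  have hsub : (Finset.range n).biUnion A ⊆ ((E : Set G).toFinset).erase 1 := by
    intro x hx
    rw [Finset.mem_biUnion] at hx
    obtain ⟨i, hi, hxi⟩ := hx
    rw [Finset.mem_range] at hi
    rw [Finset.mem_erase, Set.mem_toFinset] at hxi
    rw [Finset.mem_erase, Set.mem_toFinset]
    refine ⟨hxi.1, ?_⟩
    have : zpowers (e i) ≤ E := by rw [zpowers_le]; exact he i hi
    exact this hxi.2
  have hcardE : (((E : Set G).toFinset).erase 1).card = Nat.card E - 1 := by
    have h1 : (1 : G) ∈ (E : Set G).toFinset := by rw [Set.mem_toFinset]; exact E.one_mem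
    rw [Finset.card_erase_of_mem h1, Set.toFinset_card, ← Nat.card_eq_fintype_card]
    rfl
  have h3 := Finset.card_le_card hsub
  rw [hunion, hcardE] at h3
  have h4 : n * (r - 1) ≤ (r + 1) * (r - 1) := by
    have h5 : (r + 1) * (r - 1) = r ^ 2 - 1 := by
      obtain ⟨s, rfl⟩ : ∃ s, r = s + 1 := ⟨r - 1, by have := hr.one_lt; omega⟩
      simp only [Nat.add_sub_cancel]
      have : (s + 1) ^ 2 = (s + 1 + 1) * s + 1 := by ring
      omega
    rw [h5]
    omega
  exact Nat.le_of_mul_le_mul_right h4 (by have := hr.one_lt; omega)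

end Cfsg.Agent.Lib.H53PCCountB
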