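import Mathlib
import Cfsg.Agent.Lib.H53PCDefs
import Cfsg.Agent.Lib.H53PCAE
import Cfsg.Agent.Lib.H53PCANN
import Cfsg.Agent.Lib.H53PCCountA
import Cfsg.Agent.Lib.H53PCCountB
import Cfsg.Agent.Lib.H53PCCentZ

/-! PROJECT 4016 (row S4016), piece A1Fin.  See notes/helper53/PC/README.md.  Other pieces are cited as `Cfsg.Agent.Lib.H53PC<Piece>.<thm>`. -/

set_option autoImplicit false

namespace Cfsg.Agent.Lib.H53PCA1Fin

open Subgroup Cfsg.Agent.Lib.H53PCDefs

variable {G : Type*} [Group G] [Finite G] {p : ℕ} [Fact p.Prime]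

/-- choose `e i` by `AE.exists_e`; `E = closure {t, y t y⁻¹}` (`CountA`); if `e j ∈ zpowers (e i)` then the centralizers agree (`CentZ`), so `i = j` (`ANN`).  `CountB` with `n = p`. -/
theorem p_le {P : Sylow p G} {z : G} {K : Subgroup G} (S : St p P z K) {r : ℕ} [Fact r.Prime]
    (hrp : r ≠ p) {t y : G} {R : Subgroup G} (D : AD p r P t y R) : p ≤ r + 1 := by
  have hp : p.Prime := Fact.out
  have hr : r.Prime := Fact.out
  have hex := Cfsg.Agent.Lib.H53PCAE.exists_e S hrp D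
  choose! e he using hex
  have ht'R : y * t * y⁻¹ ∈ R := (mem_normalizer_iff.mp D.yR t).mp D.tR
  have hcomm : t * (y * t * y⁻¹) = (y * t * y⁻¹) * t := D.Rcomm _ D.tR _ ht'R
  have htr : t ^ r = 1 := by rw [← D.tord]; exact pow_orderOf_eq_one t
  have ht'r : (y * t * y⁻¹) ^ r = 1 := by rw [conj_pow, htr]; simp
  obtain ⟨hE, hexp⟩ := Cfsg.Agent.Lib.H53PCCountA.card_closure_pair_le hr.pos hcomm htr ht'r
  apply Cfsg.Agent.Lib.H53PCCountB.le_succ_of_family (closure {t, y * t * y⁻¹}) hE hexp p e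
    (fun i hi => (he i hi).1) (fun i hi => (he i hi).2.1)
  intro i hi j hj hij hmem
  apply hij
  have h1 := Cfsg.Agent.Lib.H53PCCentZ.centralizer_eq_of_mem_zpowers (r := r) (hexp _ (he i hi).1) hmem
    (he j hj).2.1
  rw [(he i hi).2.2, (he j hj).2.2] at h1
  exact (Cfsg.Agent.Lib.H53PCANN.cj_inj P D.yN j i hj hi h1).symm

end Cfsg.Agent.Lib.H53PCA1Fin
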