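import Mathlib
import Cfsg.Agent.Lib.H53PCDefs

/-! PROJECT 4016 (row S4016), piece PInN.  See notes/helper53/PC/README.md.  Other pieces are cited as `Cfsg.Agent.Lib.H53PC<Piece>.<thm>`. -/

set_option autoImplicit false

namespace Cfsg.Agent.Lib.H53PCPInN

open Subgroup Cfsg.Agent.Lib.H53PCDefs

variable {G : Type*} [Group G] [Finite G] {p : ℕ} [Fact p.Prime]

/-- a `p`-element of `N_G(P)` lies in `P` (`IsPGroup.inf_normalizer_sylow`). -/
theorem mem_of_pelt (P : Sylow p G) {x : G} (hx : x ∈ NN P) {k : ℕ} (hxo : orderOf x = p ^ k) : x ∈ P := by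
  have hz : IsPGroup p (zpowers x) := IsPGroup.of_card (n := k) (by rw [Nat.card_zpowers, hxo])
  have h1 := hz.inf_normalizer_sylow P
  have h2 : x ∈ zpowers x ⊓ normalizer (P : Set G) := ⟨mem_zpowers x, hx⟩
  rw [h1] at h2
  exact h2.2

/-- coprime orders -/
theorem eq_one_of_mem (P : Sylow p G) {K : Subgroup G} (Kp : ¬ p ∣ Nat.card K) {a : G} (ha : a ∈ P)
    (hK : a ∈ K) : a = 1 := by
  have hp : p.Prime := Fact.out
  obtain ⟨j, hj⟩ := P.2 ⟨a, ha⟩
  have hj' : a ^ p ^ j = 1 := by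
    have := congrArg Subtype.val hj
    simpa using this
  obtain ⟨i, -, hi⟩ := (Nat.dvd_prime_pow hp).1 (orderOf_dvd_of_pow_eq_one hj')
  cases i with
  | zero => rw [pow_zero] at hi; exact orderOf_eq_one_iff.1 hi
  | succ i =>
    exfalso
    apply Kp
    have h3 := orderOf_dvd_natCard (⟨a, hK⟩ : K)
    rw [Subgroup.orderOf_mk, hi] at h3
    exact (dvd_pow_self p (Nat.succ_ne_zero i)).trans h3

/-- every `p`-element is conjugate into `P` -/
theorem exists_conj_mem (P : Sylow p G) {x : G} {k : ℕ} (hxo : orderOf x = p ^ k) : ∃ g : G, g⁻¹ * x * g ∈ P := by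
  have hz : IsPGroup p (zpowers x) := IsPGroup.of_card (n := k) (by rw [Nat.card_zpowers, hxo])
  obtain ⟨Q', hQ'⟩ := hz.exists_le_sylow
  obtain ⟨g, hg⟩ := MulAction.exists_smul_eq G P Q'
  refine ⟨g, ?_⟩
  have hx : x ∈ ((g • P : Sylow p G) : Subgroup G) := by rw [hg]; exact hQ' (mem_zpowers x)
  rw [Sylow.coe_subgroup_smul, Subgroup.mem_pointwise_smul_iff_inv_smul_mem] at hx
  have h2 : (MulAut.conj g)⁻¹ • x = g⁻¹ * x * g := by
    rw [← map_inv, MulAut.smul_def, MulAut.conj_apply, inv_inv]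
  rwa [h2] at hx

/-- every `p`-subgroup is conjugate into `P` -/
theorem exists_le_cj (P : Sylow p G) {Q : Subgroup G} (hQ : IsPGroup p Q) : ∃ g : G, Q ≤ cj (P : Subgroup G) g := by
  obtain ⟨Q', hQ'⟩ := hQ.exists_le_sylow
  obtain ⟨g, hg⟩ := MulAction.exists_smul_eq G P Q'
  refine ⟨g, ?_⟩
  intro x hxQ
  have hx : x ∈ ((g • P : Sylow p G) : Subgroup G) := by rw [hg]; exact hQ' hxQ
  rw [Sylow.coe_subgroup_smul, Subgroup.mem_pointwise_smul_iff_inv_smul_mem] at hx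
  have h2 : (MulAut.conj g)⁻¹ • x = g⁻¹ * x * g := by
    rw [← map_inv, MulAut.smul_def, MulAut.conj_apply, inv_inv]
  rw [h2] at hx
  exact mem_cj.2 hx

end Cfsg.Agent.Lib.H53PCPInN
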