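import Mathlib
import Cfsg.Agent.Lib.H53PCDefs
import Cfsg.Agent.Lib.H53PCPInN

/-! PROJECT 4016 (row S4016), piece CardC.  See notes/helper53/PC/README.md.  Other pieces are cited as `Cfsg.Agent.Lib.H53PC<Piece>.<thm>`. -/

set_option autoImplicit false

namespace Cfsg.Agent.Lib.H53PCCardC

open Subgroup Cfsg.Agent.Lib.H53PCDefs

variable {G : Type*} [Group G] [Finite G] {p : ℕ} [Fact p.Prime]

/-- `P` has index 2 in `C(P)`: `c ∈ C(P) ≤ N(P)`, `c = u k` (`S.fac`), `k = u⁻¹ c ∈ K ⊓ C(P) = {1, t}`; so `c ∈ P` or `c t ∈ P`, not both (`t ∉ P`).  E.g. `Subgroup.index_eq_two_iff` for `P.subgroupOf (CC P)`, or an explicit bijection `P × Bool ≃ C(P)`. -/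
theorem cardC {P : Sylow 3 G} {z : G} {K : Subgroup G} (S : St 3 P z K) {t : G} (tC : t ∈ CC P)
    (tord : orderOf t = 2) (hKC : ∀ a ∈ K, a ∈ CC P → a = 1 ∨ a = t) :
    Nat.card (CC P) = 2 * Nat.card P := by
  have hPC : (P : Subgroup G) ≤ CC P := by
    intro a ha
    rw [mem_centralizer_iff]
    intro b hb
    exact S.comm b hb a ha
  have hCN : CC P ≤ NN P := by
    intro c hc
    rw [mem_normalizer_iff]
    intro x
    constructor
    · intro hx
      have e : c * x * c⁻¹ = x := by
        rw [← mem_centralizer_iff.mp hc x hx]; group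
      rw [e]; exact hx
    · intro hx
      have e : x = c * x * c⁻¹ := by
        have h1 := mem_centralizer_iff.mp hc _ hx
        have h2 : c * x * c⁻¹ * c = c * x := by group
        rw [h2] at h1
        exact mul_left_cancel h1
      rw [e]; exact hx
  have t1 : t ≠ 1 := by
    intro h
    rw [h, orderOf_one] at tord
    omega
  have tK : t ∈ K := S.memK t tC (by rw [tord]; norm_num)
  have tP : t ∉ P := fun h => t1 (Cfsg.Agent.Lib.H53PCPInN.eq_one_of_mem P S.Kp h tK)
  have tt : t * t = 1 := by
    rw [← pow_two, ← tord]; exact pow_orderOf_eq_one t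
  have hidx : ((P : Subgroup G).subgroupOf (CC P)).index = 2 := by
    rw [Subgroup.index_eq_two_iff]
    refine ⟨⟨t, tC⟩, ?_⟩
    rintro ⟨c, hc⟩
    simp only [mem_subgroupOf, Subgroup.coe_mul]
    obtain ⟨u, hu, k, hk, rfl⟩ := S.fac c (hCN hc)
    have hkC : k ∈ CC P := by
      have e : k = u⁻¹ * (u * k) := by group
      rw [e]
      exact mul_mem (inv_mem (hPC hu)) hc
    rcases hKC k hk hkC with rfl | rfl
    · right
      refine ⟨by rw [mul_one]; exact hu, ?_⟩
      intro h
      apply tP
      have e : t = u⁻¹ * (u * 1 * t) := by group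
      rw [e]
      exact mul_mem (inv_mem hu) h
    · left
      refine ⟨?_, ?_⟩
      · have e : u * k * k = u := by rw [mul_assoc, tt, mul_one]
        rw [e]
        exact hu
      · intro h
        apply tP
        have e : k = u⁻¹ * (u * k) := by group
        rw [e]
        exact mul_mem (inv_mem hu) h
  have h1 := Subgroup.card_mul_index ((P : Subgroup G).subgroupOf (CC P))
  rw [hidx, Nat.card_congr (Subgroup.subgroupOfEquivOfLe hPC).toEquiv, mul_comm] at h1
  exact h1.symm

end Cfsg.Agent.Lib.H53PCCardC
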