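import Mathlib
import Cfsg.Agent.Lib.H53PCDefs

/-! PROJECT 4016 (row S4016), piece Idx2.  See notes/helper53/PC/README.md.  Other pieces are cited as `Cfsg.Agent.Lib.H53PC<Piece>.<thm>`. -/

set_option autoImplicit false

namespace Cfsg.Agent.Lib.H53PCIdx2

open Subgroup Cfsg.Agent.Lib.H53PCDefs

variable {G : Type*} [Group G] [Finite G] {p : ℕ} [Fact p.Prime]

/-- `p = 3`.  `n ∈ N(P) = N(⟨z⟩)` (`S.nz`): `n z n⁻¹ ∈ ⟨z⟩ = {1, z, z⁻¹}`; if `n ∉ C(P) = C(z)` (`S.wsc`) then `n z n⁻¹ = z⁻¹`.  So `a⁻¹ b` centralizes `z`. -/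
theorem idx2 {P : Sylow 3 G} {z : G} {K : Subgroup G} (S : St 3 P z K) :
    ∀ a ∈ NN P, ∀ b ∈ NN P, a ∉ CC P → b ∉ CC P → a⁻¹ * b ∈ CC P := by
  have z1 : z ≠ 1 := by
    intro h
    have := S.zo
    rw [h, orderOf_one] at this
    omega
  have hz3 : z ^ 3 = 1 := by
    have := pow_orderOf_eq_one z
    rwa [S.zo] at this
  have key : ∀ n ∈ NN P, n ∉ CC P → n * z * n⁻¹ = z⁻¹ := by
    intro n hn hnC
    have h1 : n * z * n⁻¹ ∈ zpowers z := by
      have hn' : n ∈ normalizer ((zpowers z : Subgroup G) : Set G) := by rw [S.nz]; exact hn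
      exact (mem_normalizer_iff.mp hn' z).mp (mem_zpowers z)
    obtain ⟨k, hk⟩ := mem_zpowers_iff.mp h1
    have hk' : z ^ (k % 3) = n * z * n⁻¹ := by
      have := zpow_mod_orderOf z k
      rw [S.zo] at this
      rw [← hk]
      exact_mod_cast this
    have h3 : k % 3 = 0 ∨ k % 3 = 1 ∨ k % 3 = 2 := by omega
    rcases h3 with h | h | h
    · rw [h, zpow_zero] at hk'
      exfalso
      apply z1
      have e : z = n⁻¹ * (n * z * n⁻¹) * n := by group
      rw [e, ← hk']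
      group
    · rw [h, zpow_one] at hk'
      exfalso
      apply hnC
      rw [← S.wsc z S.zP z1, mem_centralizer_singleton_iff]
      have e : n * z = (n * z * n⁻¹) * n := by group
      rw [e, ← hk']
    · rw [h] at hk'
      rw [← hk']
      have e : z ^ (2 : ℤ) * z = 1 := by
        have e2 : z ^ (2 : ℤ) * z = z ^ 3 := by
          rw [show (2 : ℤ) = ((2 : ℕ) : ℤ) from rfl, zpow_natCast, pow_succ z 2]
        rw [e2, hz3]
      exact eq_inv_of_mul_eq_one_left e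
  intro a ha b hb haC hbC
  rw [← S.wsc z S.zP z1, mem_centralizer_singleton_iff]
  have h1 := key a ha haC
  have h2 := key b hb hbC
  have hb' : b * z = z⁻¹ * b := by
    have e : b * z = (b * z * b⁻¹) * b := by group
    rw [e, h2]
  have ha' : a⁻¹ * z⁻¹ = z * a⁻¹ := by
    rw [← h1]
    group
  calc a⁻¹ * b * z = a⁻¹ * (b * z) := by group
    _ = a⁻¹ * (z⁻¹ * b) := by rw [hb']
    _ = (a⁻¹ * z⁻¹) * b := by group
    _ = z * a⁻¹ * b := by rw [ha']
    _ = z * (a⁻¹ * b) := by group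

end Cfsg.Agent.Lib.H53PCIdx2
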