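import Mathlib
import Cfsg.Agent.Lib.H53PCDefs
import Cfsg.Agent.Lib.H53PCANN
import Cfsg.Agent.Lib.H53PCCentCj

/-! PROJECT 4016 (row S4016), piece K01.  See notes/helper53/PC/README.md.  Other pieces are cited as `Cfsg.Agent.Lib.H53PC<Piece>.<thm>`. -/

set_option autoImplicit false

namespace Cfsg.Agent.Lib.H53PCK01

open Subgroup Cfsg.Agent.Lib.H53PCDefs

variable {G : Type*} [Group G] [Finite G] {p : ℕ} [Fact p.Prime]

/-- else `C(a) = N(P)` (`S.cent`; `3 ∤ orderOf a` since `a ∈ K`) and `C(a) = cj (NN P) y` (`CentCj`), against `ANN.cj_inj` (`0 ≠ 1`). -/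
theorem K01 {P : Sylow 3 G} {z : G} {K : Subgroup G} (S : St 3 P z K) {t y : G}
    (D : AD 3 2 P t y K) : ∀ a ∈ K, a ∈ CC P → a ∈ cj (CC P) y → a = 1 := by
  intro a aK aC aCy
  by_contra a1
  have hao : ¬ 3 ∣ orderOf a := fun h => S.Kp (h.trans (Subgroup.orderOf_dvd_natCard K aK))
  have h1 := S.cent a aC a1 hao
  have h2 := Cfsg.Agent.Lib.H53PCCentCj.centralizer_eq_cj S aCy a1 hao
  have h3 : cj (NN P) (y ^ 0) = cj (NN P) (y ^ 1) := by
    rw [pow_one, ← h2, h1, pow_zero]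
    ext x
    rw [mem_cj]
    simp
  have := Cfsg.Agent.Lib.H53PCANN.cj_inj P D.yN 0 1 (by norm_num) (by norm_num) h3
  omega

end Cfsg.Agent.Lib.H53PCK01
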