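import Mathlib
import Cfsg.Agent.Lib.H53PCDefs

/-! PROJECT 4016 (row S4016), piece Le4.  See notes/helper53/PC/README.md.  Other pieces are cited as `Cfsg.Agent.Lib.H53PC<Piece>.<thm>`. -/

set_option autoImplicit false
set_option linter.unusedSectionVars false

namespace Cfsg.Agent.Lib.H53PCLe4

open Subgroup Cfsg.Agent.Lib.H53PCDefs

variable {G : Type*} [Group G] [Finite G] {p : ℕ} [Fact p.Prime]

/-- `k ↦ (k ∈ A, k ∈ B)` is injective on `K`: if `k, k'` have the same image then `k⁻¹ k' ∈ A ⊓ B` . -/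
theorem card_le_four {K A B : Subgroup G}
    (hA : ∀ a ∈ K, ∀ b ∈ K, a ∉ A → b ∉ A → a⁻¹ * b ∈ A)
    (hB : ∀ a ∈ K, ∀ b ∈ K, a ∉ B → b ∉ B → a⁻¹ * b ∈ B)
    (hAB : ∀ a ∈ K, a ∈ A → a ∈ B → a = 1) : Nat.card K ≤ 4 := by
  classical
  have hinj : Function.Injective (fun k : K => (decide ((k : G) ∈ A), decide ((k : G) ∈ B))) := by
    intro a b h
    simp only [Prod.mk.injEq, decide_eq_decide] at h
    obtain ⟨h1, h2⟩ := h
    have hA' : (a : G)⁻¹ * b ∈ A := by
      by_cases ha : (a : G) ∈ A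
      · exact A.mul_mem (A.inv_mem ha) (h1.1 ha)
      · exact hA a a.2 b b.2 ha (fun hb => ha (h1.2 hb))
    have hB' : (a : G)⁻¹ * b ∈ B := by
      by_cases ha : (a : G) ∈ B
      · exact B.mul_mem (B.inv_mem ha) (h2.1 ha)
      · exact hB a a.2 b b.2 ha (fun hb => ha (h2.2 hb))
    have := hAB _ (K.mul_mem (K.inv_mem a.2) b.2) hA' hB'
    apply Subtype.ext
    exact (inv_mul_eq_one.1 this)
  have := Nat.card_le_card_of_injective _ hinj
  simpa using this

end Cfsg.Agent.Lib.H53PCLe4
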