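import Mathlib
import Cfsg.Agent.Lib.H53PCDefs
import Cfsg.Agent.Lib.H53PCIdx2
import Cfsg.Agent.Lib.H53PCK01
import Cfsg.Agent.Lib.H53PCLe4

/-! PROJECT 4016 (row S4016), piece CardK1.  See notes/helper53/PC/README.md.  Other pieces are cited as `Cfsg.Agent.Lib.H53PC<Piece>.<thm>`. -/

set_option autoImplicit false

namespace Cfsg.Agent.Lib.H53PCCardK1

open Subgroup Cfsg.Agent.Lib.H53PCDefs

variable {G : Type*} [Group G] [Finite G] {p : ℕ} [Fact p.Prime]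

/-- `Le4.card_le_four` with `A = CC P` (`Idx2`, `K ≤ N(P)`), `B = cj (CC P) y` (`y⁻¹ a y ∈ K` since `y ∈ N(K)`; `Idx2` for `y⁻¹ a y`, `y⁻¹ b y`), `K01`. -/
theorem cardK_le {P : Sylow 3 G} {z : G} {K : Subgroup G} (S : St 3 P z K) {t y : G}
    (D : AD 3 2 P t y K) : Nat.card K ≤ 4 := by
  apply Cfsg.Agent.Lib.H53PCLe4.card_le_four (A := CC P) (B := cj (CC P) y)
  · intro a aK b bK ha hb
    exact Cfsg.Agent.Lib.H53PCIdx2.idx2 S a (S.KN aK) b (S.KN bK) ha hb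
  · intro a aK b bK ha hb
    have hy : ∀ c ∈ K, y⁻¹ * c * y ∈ K := by
      intro c cK
      have := (mem_normalizer_iff.mp (inv_mem D.yR) c).mp cK
      rw [inv_inv] at this
      exact this
    rw [mem_cj] at ha hb ⊢
    have := Cfsg.Agent.Lib.H53PCIdx2.idx2 S _ (S.KN (hy a aK)) _ (S.KN (hy b bK)) ha hb
    have e : (y⁻¹ * a * y)⁻¹ * (y⁻¹ * b * y) = y⁻¹ * (a⁻¹ * b) * y := by group
    rwa [e] at this
  · exact Cfsg.Agent.Lib.H53PCK01.K01 S D

end Cfsg.Agent.Lib.H53PCCardK1
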