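import Mathlib
import Cfsg.Agent.Lib.H53PCDefs
import Cfsg.Agent.Lib.H53PCANN

/-! PROJECT 4016 (row S4016), piece CardK2.  See notes/helper53/PC/README.md.  Other pieces are cited as `Cfsg.Agent.Lib.H53PC<Piece>.<thm>`. -/

set_option autoImplicit false

namespace Cfsg.Agent.Lib.H53PCCardK2

open Subgroup Cfsg.Agent.Lib.H53PCDefs

variable {G : Type*} [Group G] [Finite G] {p : ℕ} [Fact p.Prime]

/-- `1, t, y t y⁻¹, y² t y⁻²` are four different elements of `K` (the centralizers of the last three are `cj (NN P) (y^i)`, `i = 0,1,2`, by `S.cent` + `centralizer_conj`; different by `ANN.cj_inj`), and `|K| ≤ 4`. -/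
theorem K_elts {P : Sylow 3 G} {z : G} {K : Subgroup G} (S : St 3 P z K) {t y : G}
    (D : AD 3 2 P t y K) (hK : Nat.card K ≤ 4) :
    Nat.card K = 4 ∧ ∀ a ∈ K, a ≠ 1 → ∃ i : ℕ, i < 3 ∧ a = y ^ i * t * (y ^ i)⁻¹ := by
  classical
  have t1 : t ≠ 1 := by
    intro h
    have := D.tord
    rw [h, orderOf_one] at this
    omega
  have hCt := S.cent t D.tC t1 (by rw [D.tord]; norm_num)
  obtain ⟨c, hc⟩ : ∃ c : ℕ → G, ∀ i, c i = y ^ i * t * (y ^ i)⁻¹ := ⟨_, fun _ => rfl⟩
  have hcK : ∀ i, c i ∈ K := fun i => by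
    rw [hc]; exact (mem_normalizer_iff.mp (pow_mem D.yR i) t).mp D.tR
  have hc1 : ∀ i, c i ≠ 1 := by
    intro i h
    apply t1
    have e : t = (y ^ i)⁻¹ * c i * y ^ i := by rw [hc]; group
    rw [e, h]
    group
  have hcC : ∀ i, centralizer ({c i} : Set G) = cj (NN P) (y ^ i) := by
    intro i
    rw [hc, centralizer_conj, hCt]
  have hinj : ∀ i j, i < 3 → j < 3 → c i = c j → i = j := by
    intro i j hi hj h
    apply Cfsg.Agent.Lib.H53PCANN.cj_inj P D.yN i j hi hj
    rw [← hcC, ← hcC, h]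
  have h01 : c 0 ≠ c 1 := fun h => by
    have := hinj 0 1 (by norm_num) (by norm_num) h
    omega
  have h02 : c 0 ≠ c 2 := fun h => by
    have := hinj 0 2 (by norm_num) (by norm_num) h
    omega
  have h12 : c 1 ≠ c 2 := fun h => by
    have := hinj 1 2 (by norm_num) (by norm_num) h
    omega
  have hT4 : ({1, c 0, c 1, c 2} : Finset G).card = 4 := by
    rw [Finset.card_insert_of_notMem, Finset.card_insert_of_notMem,
      Finset.card_insert_of_notMem, Finset.card_singleton]
    · simp [h12]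
    · simp [h01, h02]
    · simp [(hc1 0).symm, (hc1 1).symm, (hc1 2).symm]
  have hTK : ((({1, c 0, c 1, c 2} : Finset G)) : Set G) ⊆ (K : Set G) := by
    intro x hx
    simp only [Finset.coe_insert, Finset.coe_singleton, Set.mem_insert_iff,
      Set.mem_singleton_iff] at hx
    rcases hx with rfl | rfl | rfl | rfl
    · exact one_mem K
    · exact hcK 0
    · exact hcK 1
    · exact hcK 2
  have hKn : (K : Set G).ncard = Nat.card K := (Nat.card_coe_set_eq _).symm
  have heq : ((({1, c 0, c 1, c 2} : Finset G)) : Set G) = K :=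
    Set.eq_of_subset_of_ncard_le hTK (by rw [Set.ncard_coe_finset, hT4, hKn]; exact hK)
      (Set.toFinite _)
  constructor
  · rw [← hKn, ← heq, Set.ncard_coe_finset, hT4]
  · intro a aK a1
    have ha : a ∈ ((({1, c 0, c 1, c 2} : Finset G)) : Set G) := by rw [heq]; exact aK
    simp only [Finset.coe_insert, Finset.coe_singleton, Set.mem_insert_iff,
      Set.mem_singleton_iff] at ha
    rcases ha with rfl | rfl | rfl | rfl
    · exact absurd rfl a1
    · exact ⟨0, by norm_num, hc 0⟩
    · exact ⟨1, by norm_num, hc 1⟩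
    · exact ⟨2, by norm_num, hc 2⟩

end Cfsg.Agent.Lib.H53PCCardK2
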