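import Mathlib
import Cfsg.Agent.Lib.H53PCDefs

/-! PROJECT 4016 (row S4016), piece NormZ.  See notes/helper53/PC/README.md.  Other pieces are cited as `Cfsg.Agent.Lib.H53PC<Piece>.<thm>`. -/

set_option autoImplicit false

namespace Cfsg.Agent.Lib.H53PCNormZ

open Subgroup Cfsg.Agent.Lib.H53PCDefs

variable {G : Type*} [Group G] [Finite G] {p : ℕ} [Fact p.Prime]

/-- if `g⁻¹ z g ∈ P` then `g` normalizes `⟨z⟩`.  Proof: `w = g⁻¹ z g` has order `p`, `⟨w⟩ ≤ P` is nontrivial so `z ∈ ⟨w⟩`, so `⟨z⟩ = ⟨w⟩` (same card `p`),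
i.e. `g⁻¹ ⟨z⟩ g = ⟨z⟩`. -/
theorem mem_normalizer_zpowers (P : Sylow p G) {z : G} (zo : orderOf z = p)
    (zmin : ∀ Q : Subgroup G, Q ≤ P → Q ≠ ⊥ → z ∈ Q) {g : G} (h : g⁻¹ * z * g ∈ P) :
    g ∈ normalizer ((zpowers z : Subgroup G) : Set G) := by
  have hp : p.Prime := Fact.out
  set w := g⁻¹ * z * g with hw
  have hwpow : ∀ k : ℤ, w ^ k = g⁻¹ * z ^ k * g := by
    intro k
    have h1 : w = (MulAut.conj g⁻¹) z := by simp [hw, MulAut.conj_apply]
    rw [h1, ← map_zpow]
    simp [MulAut.conj_apply]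
  have hwo : orderOf w = p := by
    have h1 : w = (MulAut.conj g⁻¹) z := by simp [hw, MulAut.conj_apply]
    rw [h1, MulEquiv.orderOf_eq, zo]
  have hw1 : zpowers w ≠ ⊥ := by
    intro hb
    rw [zpowers_eq_bot] at hb
    rw [hb, orderOf_one] at hwo
    exact hp.one_lt.ne hwo
  have hzw : z ∈ zpowers w := zmin _ (by rw [zpowers_le]; exact h) hw1
  have heq : zpowers z = zpowers w := by
    apply Subgroup.eq_of_le_of_card_ge (by rw [zpowers_le]; exact hzw)
    rw [Nat.card_zpowers, Nat.card_zpowers, zo, hwo]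
  have hinv : g⁻¹ ∈ normalizer ((zpowers z : Subgroup G) : Set G) := by
    rw [mem_normalizer_iff]
    intro x
    rw [inv_inv]
    constructor
    · intro hx
      obtain ⟨k, rfl⟩ := mem_zpowers_iff.1 hx
      rw [← hwpow, heq]
      exact zpow_mem (mem_zpowers w) k
    · intro hx
      rw [heq] at hx
      obtain ⟨k, hk⟩ := mem_zpowers_iff.1 hx
      rw [hwpow] at hk
      have : z ^ k = x := by
        have h2 := mul_right_cancel hk
        exact mul_left_cancel h2
      rw [← this]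
      exact zpow_mem (mem_zpowers z) k
  have := (normalizer ((zpowers z : Subgroup G) : Set G)).inv_mem hinv
  rwa [inv_inv] at this

end Cfsg.Agent.Lib.H53PCNormZ
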