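import Mathlib
import Cfsg.Agent.Lib.H53PCDefs
import Cfsg.Agent.Lib.H53PCNormZ
import Cfsg.Agent.Lib.H53PCPInN

/-! PROJECT 4016 (row S4016), piece NQ.  See notes/helper53/PC/README.md.  Other pieces are cited as `Cfsg.Agent.Lib.H53PC<Piece>.<thm>`. -/

set_option autoImplicit false

namespace Cfsg.Agent.Lib.H53PCNQ

open Subgroup Cfsg.Agent.Lib.H53PCDefs

variable {G : Type*} [Group G] [Finite G] {p : ℕ} [Fact p.Prime]

/-- `Q ≤ cj P g` (`PInN.exists_le_cj`).  For `h ∈ N(Q)` put `h' = g⁻¹ h g`, `Q' = g⁻¹ Q g ≤ P`, `Q' ≠ ⊥`, so `z ∈ Q'` (`S.zmin`), `h'⁻¹ z h' ∈ Q' ≤ P`, so `h' ∈ N(⟨z⟩) = N(P)` (`NormZ`, `S.nz`). -/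
theorem normalizer_le_cj {P : Sylow p G} {z : G} {K : Subgroup G} (S : St p P z K) {Q : Subgroup G}
    (hQ : IsPGroup p Q) (hne : Q ≠ ⊥) : ∃ g : G, normalizer (Q : Set G) ≤ cj (NN P) g := by
  obtain ⟨g, hg⟩ := Cfsg.Agent.Lib.H53PCPInN.exists_le_cj P hQ
  refine ⟨g, ?_⟩
  intro h hh
  rw [mem_cj, ← S.nz]
  have hQ'P : cj Q g⁻¹ ≤ P := by
    intro x hx
    rw [mem_cj, inv_inv] at hx
    have := hg hx
    rw [mem_cj] at this
    have e : g⁻¹ * (g * x * g⁻¹) * g = x := by group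
    rwa [e] at this
  have hQ'ne : cj Q g⁻¹ ≠ ⊥ := by
    intro hb
    apply hne
    have := card_cj Q g⁻¹
    rw [hb] at this
    exact (Subgroup.card_eq_one).mp (by rw [← this]; simp)
  have hz : z ∈ cj Q g⁻¹ := S.zmin _ hQ'P hQ'ne
  rw [mem_cj, inv_inv] at hz
  apply Cfsg.Agent.Lib.H53PCNormZ.mem_normalizer_zpowers P S.zo S.zmin
  have h1 : h⁻¹ * (g * z * g⁻¹) * h ∈ Q := by
    have := (mem_normalizer_iff.mp (inv_mem hh) (g * z * g⁻¹)).mp hz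
    rw [inv_inv] at this
    exact this
  have h2 := hg h1
  rw [mem_cj] at h2
  have e : (g⁻¹ * h * g)⁻¹ * z * (g⁻¹ * h * g) = g⁻¹ * (h⁻¹ * (g * z * g⁻¹) * h) * g := by group
  rw [e]
  exact h2

end Cfsg.Agent.Lib.H53PCNQ
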