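import Mathlib
import Cfsg.Agent.Lib.H53PCDefs
import Cfsg.Agent.Lib.H53PCNQ

/-! PROJECT 4016 (row S4016), piece EvenC.  See notes/helper53/PC/README.md.  Other pieces are cited as `Cfsg.Agent.Lib.H53PC<Piece>.<thm>`. -/

set_option autoImplicit false

namespace Cfsg.Agent.Lib.H53PCEvenC

open Subgroup Cfsg.Agent.Lib.H53PCDefs

variable {G : Type*} [Group G] [Finite G] {p : ℕ} [Fact p.Prime]

/-- `Q = ⊥`: `3 ∤ |H|`, `H` commutative, `H ≤ C(a)` for an involution `a ∈ H`.  `Q ≠ ⊥`: `H ≤ N(Q) ≤ cj (NN P) g` (`NQ.normalizer_le_cj`), `|H| ∣ |N(P)| = |P| |K| = 4 |P|`. -/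
theorem even_pclosed {P : Sylow 3 G} {z : G} {K : Subgroup G} (S : St 3 P z K) (hK4 : Nat.card K = 4)
    (hinv : ∀ a : G, orderOf a = 2 → Nat.card (centralizer ({a} : Set G)) = 4 * Nat.card P)
    {H : Subgroup G} (h : PClosed 3 H) (h2 : 2 ∣ Nat.card H) : Nat.card H ∣ 4 * Nat.card P := by
  obtain ⟨Q, hQH, hHN, hQp, m, hm, hcard⟩ := h
  by_cases hQ : Q = ⊥
  · have h3 : ¬ 3 ∣ Nat.card H := by
      rw [hcard, hQ]
      simpa using hm
    have hcomm := S.pab H h3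
    obtain ⟨a, ha⟩ := exists_prime_orderOf_dvd_card' (G := H) 2 h2
    have hao : orderOf (a : G) = 2 := by rw [Subgroup.orderOf_coe]; exact ha
    rw [← hinv a hao]
    apply Subgroup.card_dvd_of_le
    intro x hx
    rw [mem_centralizer_singleton_iff]
    exact hcomm x hx a a.2
  · obtain ⟨g, hg⟩ := Cfsg.Agent.Lib.H53PCNQ.normalizer_le_cj S hQp hQ
    have : Nat.card H ∣ Nat.card (cj (NN P) g) := Subgroup.card_dvd_of_le (hHN.trans hg)
    rw [card_cj, S.cardN, hK4, mul_comm] at this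
    exact this

end Cfsg.Agent.Lib.H53PCEvenC
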