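import Mathlib
import Cfsg.Agent.Lib.H53PCDefs

/-! PROJECT 4016 (row S4016), piece EvenN.  See notes/helper53/PC/README.md.  Other pieces are cited as `Cfsg.Agent.Lib.H53PC<Piece>.<thm>`. -/

set_option autoImplicit false
set_option linter.style.haveILetI false

namespace Cfsg.Agent.Lib.H53PCEvenN

open Subgroup Cfsg.Agent.Lib.H53PCDefs

variable {G : Type*} [Group G] [Finite G] {p : ℕ} [Fact p.Prime]

/-- `|H| = |T| 3^k`, so `2 ∣ |T|`; `a ∈ T` an involution; `T` commutative (`hab`), `T ≤ C(a)`, `|T| ∣ 4 |P|`, coprime to `|P|`, so `|T| ∣ 4`.  `3^k ∣ |G|` so `3^k ∣ |P|` (`Sylow.card_eq_multiplicity`). -/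
theorem even_pnil (P : Sylow 3 G) (hab : PAb 3 G)
    (hinv : ∀ a : G, orderOf a = 2 → Nat.card (centralizer ({a} : Set G)) = 4 * Nat.card P)
    {H : Subgroup G} (h : PNil 3 H) (h2 : 2 ∣ Nat.card H) : Nat.card H ∣ 4 * Nat.card P := by
  haveI : Fact (Nat.Prime 2) := ⟨Nat.prime_two⟩
  haveI : Fact (Nat.Prime 3) := ⟨Nat.prime_three⟩
  obtain ⟨T, hTH, -, hT3, k, hk⟩ := h
  have h2T : 2 ∣ Nat.card T := by
    rw [hk] at h2
    have hcop : Nat.Coprime 2 (3 ^ k) := Nat.Coprime.pow_right _ (by norm_num)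
    exact hcop.dvd_of_dvd_mul_right h2
  obtain ⟨a, ha⟩ := exists_prime_orderOf_dvd_card' (G := T) 2 h2T
  have hao : orderOf (a : G) = 2 := by rw [Subgroup.orderOf_coe, ha]
  have hTC : T ≤ centralizer ({(a : G)} : Set G) := by
    intro x hx
    rw [mem_centralizer_singleton_iff]
    exact hab T hT3 x hx a a.2
  have hd1 : Nat.card T ∣ 4 * Nat.card P := by
    rw [← hinv a hao]
    exact Subgroup.card_dvd_of_le hTC
  obtain ⟨j, hj⟩ := P.2.exists_card_eq
  have hj' : Nat.card P = 3 ^ j := hj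
  have hcop : Nat.Coprime (Nat.card T) (Nat.card P) := by
    rw [hj']
    apply Nat.Coprime.pow_right
    rw [Nat.coprime_comm]
    exact (Nat.Prime.coprime_iff_not_dvd Nat.prime_three).2 hT3
  have hd2 : Nat.card T ∣ 4 := hcop.dvd_of_dvd_mul_right hd1
  have hd3 : 3 ^ k ∣ Nat.card G := by
    have h1 : 3 ^ k ∣ Nat.card H := by rw [hk]; exact Dvd.intro_left _ rfl
    exact h1.trans (Subgroup.card_subgroup_dvd_card H)
  have hd4 : 3 ^ k ∣ Nat.card P := by
    have h1 : Nat.card P = 3 ^ (Nat.card G).factorization 3 := P.card_eq_multiplicity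
    rw [h1]
    apply pow_dvd_pow
    exact (Nat.Prime.pow_dvd_iff_le_factorization Nat.prime_three Nat.card_pos.ne').1 hd3
  rw [hk]
  exact mul_dvd_mul hd2 hd4

end Cfsg.Agent.Lib.H53PCEvenN
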