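import Mathlib
import Cfsg.Agent.Lib.H53PCDefs

/-! PROJECT 4016 (row S4016), piece Burn.  See notes/helper53/PC/README.md.  Other pieces are cited as `Cfsg.Agent.Lib.H53PC<Piece>.<thm>`. -/

set_option autoImplicit false

namespace Cfsg.Agent.Lib.H53PCBurn

open Subgroup Cfsg.Agent.Lib.H53PCDefs

variable {G : Type*} [Group G] [Finite G] {p : ℕ} [Fact p.Prime]

/-- Burnside's transfer theorem, Mathlib `MonoidHom.ker_transferSylow_isComplement'` (the kernel is normal, so `⊥` or `⊤`). -/
theorem not_normalizer_le_centralizer (hs : IsSimpleGroup G) {r : ℕ} [Fact r.Prime] (R : Sylow r G)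
    (h1 : (R : Subgroup G) ≠ ⊥) (h2 : (R : Subgroup G) ≠ ⊤) :
    ¬ normalizer ((R : Subgroup G) : Set G) ≤ centralizer ((R : Subgroup G) : Set G) := by
  intro h
  have hc := MonoidHom.ker_transferSylow_isComplement' R h
  have hn : (MonoidHom.transferSylow R h).ker.Normal := inferInstance
  rcases hs.eq_bot_or_eq_top_of_normal _ hn with hk | hk
  · rw [hk] at hc
    exact h2 (isComplement'_bot_left.1 hc)
  · rw [hk] at hc
    exact h1 (isComplement'_top_left.1 hc)

theorem hasNormalPComplement_of_le (P : Sylow p G) (h : NN P ≤ CC P) : Cfsg.HasNormalPComplement p G := by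
  exact ⟨P, (MonoidHom.transferSylow P h).ker, inferInstance, MonoidHom.ker_transferSylow_isComplement' P h⟩

end Cfsg.Agent.Lib.H53PCBurn
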