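import Mathlib
import Cfsg.Agent.Lib.H53PCDefs

/-! PROJECT 4016 (row S4016), piece PElt.  See notes/helper53/PC/README.md.  Other pieces are cited as `Cfsg.Agent.Lib.H53PC<Piece>.<thm>`. -/

set_option autoImplicit false

namespace Cfsg.Agent.Lib.H53PCPElt

open Subgroup Cfsg.Agent.Lib.H53PCDefs

variable {G : Type*} [Group G] [Finite G] {p : ℕ} [Fact p.Prime]

/-- `orderOf x = p^a m`, `p ∤ m`.  `x^(p^a) ∈ C`, Bezout gives `x^m ∉ C`; `w = x^m` has order `p^a`; take the least `i` with `w^(p^i) ∈ C` (`i > 0`), `j = m p^(i-1)`. -/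
theorem exists_p_elt {C : Subgroup G} {x : G} (hx : x ∉ C)
    (h : ∀ m : ℕ, ¬ p ∣ orderOf (x ^ m) → x ^ m ∈ C) :
    ∃ j : ℕ, x ^ j ∉ C ∧ (x ^ j) ^ p ∈ C ∧ ∃ k : ℕ, orderOf (x ^ j) = p ^ k := by
  classical
  have hp : p.Prime := Fact.out
  have hn0 : orderOf x ≠ 0 := (orderOf_pos x).ne'
  obtain ⟨a, m, hm, hn⟩ := Nat.exists_eq_pow_mul_and_not_dvd hn0 p hp.ne_one
  have hm0 : 0 < m := Nat.pos_of_ne_zero (by rintro rfl; exact hm (dvd_zero p))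
  -- x^(p^a) has order m
  have ho1 : orderOf (x ^ p ^ a) = m := by
    rw [orderOf_pow_of_dvd (pow_pos hp.pos a).ne' (by rw [hn]; exact Dvd.intro _ rfl), hn,
      Nat.mul_div_cancel_left _ (pow_pos hp.pos a)]
  have ho2 : orderOf (x ^ m) = p ^ a := by
    rw [orderOf_pow_of_dvd hm0.ne' (by rw [hn]; exact Dvd.intro_left _ rfl), hn,
      Nat.mul_div_cancel _ hm0]
  have hC1 : x ^ p ^ a ∈ C := h _ (by rw [ho1]; exact hm)
  have hw : x ^ m ∉ C := by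
    intro hC2
    apply hx
    have hcop : Nat.Coprime (p ^ a) m := Nat.Coprime.pow_left _ ((Nat.Prime.coprime_iff_not_dvd hp).2 hm)
    have hb := Nat.gcd_eq_gcd_ab (p ^ a) m
    rw [hcop.gcd_eq_one] at hb
    have : x = (x ^ p ^ a) ^ (Nat.gcdA (p ^ a) m) * (x ^ m) ^ (Nat.gcdB (p ^ a) m) := by
      rw [← zpow_natCast x (p ^ a), ← zpow_natCast x m, ← zpow_mul, ← zpow_mul, ← zpow_add, ← hb]
      simp
    rw [this]
    exact C.mul_mem (C.zpow_mem hC1 _) (C.zpow_mem hC2 _)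
  have hex : ∃ i : ℕ, (x ^ m) ^ p ^ i ∈ C := ⟨a, by rw [← ho2, pow_orderOf_eq_one]; exact C.one_mem⟩
  set i := Nat.find hex with hi
  have hiC : (x ^ m) ^ p ^ i ∈ C := Nat.find_spec hex
  have hi0 : i ≠ 0 := by
    intro h0
    rw [h0, pow_zero, pow_one] at hiC
    exact hw hiC
  obtain ⟨i', hi'⟩ := Nat.exists_eq_succ_of_ne_zero hi0
  have hmin : (x ^ m) ^ p ^ i' ∉ C := Nat.find_min hex (by rw [← hi, hi']; exact Nat.lt_succ_self i')
  refine ⟨m * p ^ i', ?_, ?_, ?_⟩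
  · rw [pow_mul]; exact hmin
  · rw [pow_mul, ← pow_mul, ← pow_succ, ← Nat.succ_eq_add_one, ← hi']; exact hiC
  · have hd : orderOf (x ^ (m * p ^ i')) ∣ p ^ a := by
      rw [pow_mul, ← ho2]
      exact orderOf_pow_dvd _
    obtain ⟨k, -, hk⟩ := (Nat.dvd_prime_pow hp).1 hd
    exact ⟨k, hk⟩

end Cfsg.Agent.Lib.H53PCPElt
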