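import Mathlib
import Cfsg.Agent.Lib.H53PCDefs

/-! PROJECT 4016 (row S4016), piece PpCent.  See notes/helper53/PC/README.md.  Other pieces are cited as `Cfsg.Agent.Lib.H53PC<Piece>.<thm>`. -/

set_option autoImplicit false

namespace Cfsg.Agent.Lib.H53PCPpCent

open Subgroup Cfsg.Agent.Lib.H53PCDefs

variable {G : Type*} [Group G] [Finite G] {p : ℕ} [Fact p.Prime]

/-- a `p'`-element `x` normalizing a `p'`-subgroup `R` centralizes it: `⟨x⟩ R` is a subgroup whose order divides `orderOf x * |R|`, so it is a `p'`-group, so commutative. -/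
theorem pprime_centralizes (hab : PAb p G) {R : Subgroup G} (hR : ¬ p ∣ Nat.card R) {x : G}
    (hx : x ∈ normalizer (R : Set G)) (hxo : ¬ p ∣ orderOf x) : x ∈ centralizer (R : Set G) := by
  have hp : p.Prime := Fact.out
  set N : Subgroup G := normalizer (R : Set G) with hN
  set K : Subgroup N := R.subgroupOf N with hK
  set H : Subgroup N := (zpowers x).subgroupOf N with hH
  haveI : K.Normal := Subgroup.normal_in_normalizer
  have hRN : R ≤ N := Subgroup.le_normalizer
  have hxN : zpowers x ≤ N := by rw [zpowers_le]; exact hx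
  have hcardK : Nat.card K = Nat.card R := Nat.card_congr (Subgroup.subgroupOfEquivOfLe hRN).toEquiv
  have hcardH : Nat.card H = orderOf x := by
    rw [← Nat.card_zpowers]
    exact Nat.card_congr (Subgroup.subgroupOfEquivOfLe hxN).toEquiv
  have h1 : Nat.card (H ⊔ K : Subgroup N) = Nat.card K * K.relIndex H := by
    have h2 := Subgroup.relIndex_mul_relIndex ⊥ K (H ⊔ K) bot_le le_sup_right
    rw [Subgroup.relIndex_bot_left, Subgroup.relIndex_bot_left, Subgroup.relIndex_sup_right] at h2
    exact h2.symm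
  have h3 : ¬ p ∣ Nat.card (H ⊔ K : Subgroup N) := by
    rw [h1, hp.dvd_mul, hcardK]
    rintro (h4 | h4)
    · exact hR h4
    · exact hxo (hcardH ▸ h4.trans (Subgroup.relIndex_dvd_card K H))
  set S : Subgroup G := (H ⊔ K).map N.subtype with hS
  have hcardS : Nat.card S = Nat.card (H ⊔ K : Subgroup N) :=
    Nat.card_congr ((H ⊔ K).equivMapOfInjective _ (Subgroup.subtype_injective _)).toEquiv.symm
  have hxS : x ∈ S := by
    refine ⟨⟨x, hx⟩, ?_, rfl⟩
    apply (le_sup_left : H ≤ H ⊔ K)
    exact Subgroup.mem_subgroupOf.2 (mem_zpowers x)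
  have hRS : ∀ a ∈ R, a ∈ S := by
    intro a ha
    refine ⟨⟨a, hRN ha⟩, ?_, rfl⟩
    apply (le_sup_right : K ≤ H ⊔ K)
    exact Subgroup.mem_subgroupOf.2 ha
  rw [Subgroup.mem_centralizer_iff]
  intro a ha
  exact hab S (by rw [hcardS]; exact h3) a (hRS a ha) x hxS

end Cfsg.Agent.Lib.H53PCPpCent
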