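import Mathlib
import Cfsg.Agent.Lib.H53PCDefs
import Cfsg.Agent.Lib.H53PCPpCent
import Cfsg.Agent.Lib.H53PCPElt

/-! PROJECT 4016 (row S4016), piece ExistsY.  See notes/helper53/PC/README.md.  Other pieces are cited as `Cfsg.Agent.Lib.H53PC<Piece>.<thm>`. -/

set_option autoImplicit false

namespace Cfsg.Agent.Lib.H53PCExistsY

open Subgroup Cfsg.Agent.Lib.H53PCDefs

variable {G : Type*} [Group G] [Finite G] {p : ℕ} [Fact p.Prime]

/-- glue of `PpCent.pprime_centralizes` and `PElt.exists_p_elt` (`C = centralizer R`, `x ∈ N(R) \ C(R)`). -/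
theorem exists_y (hab : PAb p G) {R : Subgroup G} (hR : ¬ p ∣ Nat.card R)
    (h : ¬ normalizer (R : Set G) ≤ centralizer (R : Set G)) :
    ∃ y : G, y ∈ normalizer (R : Set G) ∧ y ∉ centralizer (R : Set G) ∧ y ^ p ∈ centralizer (R : Set G) ∧
      ∃ k : ℕ, orderOf y = p ^ k := by
  obtain ⟨x, hxN, hxC⟩ := SetLike.not_le_iff_exists.mp h
  obtain ⟨j, h1, h2, h3⟩ := Cfsg.Agent.Lib.H53PCPElt.exists_p_elt (p := p) hxC (fun m hm =>
    Cfsg.Agent.Lib.H53PCPpCent.pprime_centralizes hab hR (pow_mem hxN m) hm)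
  exact ⟨x ^ j, pow_mem hxN j, h1, h2, h3⟩

end Cfsg.Agent.Lib.H53PCExistsY
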