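import Mathlib
import Cfsg.Agent.Lib.H53PCDefs
import Cfsg.Agent.Lib.H53PCPInN

/-! PROJECT 4016 (row S4016), piece PowNotMem.  See notes/helper53/PC/README.md.  Other pieces are cited as `Cfsg.Agent.Lib.H53PC<Piece>.<thm>`. -/

set_option autoImplicit false

namespace Cfsg.Agent.Lib.H53PCPowNotMem

open Subgroup Cfsg.Agent.Lib.H53PCDefs

variable {G : Type*} [Group G] [Finite G] {p : ℕ} [Fact p.Prime]

/-- if `y^i ∈ N(P)` then (`gcd(i,p) = 1`, `y^p ∈ N(P)`) `y ∈ N(P)`, so `y ∈ P` (`PInN.mem_of_pelt`); for `a ∈ R`: `y a y⁻¹ a⁻¹ ∈ R ⊓ P = 1`; so `y ∈ C(R)`. -/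
theorem pow_not_mem (P : Sylow p G) {R : Subgroup G} (RN : R ≤ NN P) (Rp : ¬ p ∣ Nat.card R) {y : G}
    (yR : y ∈ normalizer (R : Set G)) (yC : y ∉ centralizer (R : Set G)) (ypN : y ^ p ∈ NN P) {k : ℕ}
    (yo : orderOf y = p ^ k) : ∀ i : ℕ, 0 < i → i < p → y ^ i ∉ NN P := by
  intro i hi hip hmem
  have hp : p.Prime := Fact.out
  have hcop : Nat.gcd i p = 1 := by
    have h1 : ¬ p ∣ i := fun h => by
      have := Nat.le_of_dvd hi h
      omega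
    exact Nat.Coprime.symm ((Nat.Prime.coprime_iff_not_dvd hp).mpr h1)
  have hy : y ∈ NN P := by
    have h1 : (1 : ℤ) = i * Nat.gcdA i p + p * Nat.gcdB i p := by
      have := Nat.gcd_eq_gcd_ab i p
      rw [hcop] at this
      exact_mod_cast this
    have h2 : y = (y ^ i) ^ (Nat.gcdA i p) * (y ^ p) ^ (Nat.gcdB i p) := by
      rw [← zpow_natCast, ← zpow_natCast, ← zpow_mul, ← zpow_mul, ← zpow_add, ← h1, zpow_one]
    rw [h2]
    exact mul_mem (zpow_mem hmem _) (zpow_mem ypN _)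
  have hyP : y ∈ P := Cfsg.Agent.Lib.H53PCPInN.mem_of_pelt P hy yo
  apply yC
  rw [mem_centralizer_iff]
  intro a aR
  have h1 : y * a * y⁻¹ * a⁻¹ ∈ R := mul_mem ((mem_normalizer_iff.mp yR a).mp aR) (inv_mem aR)
  have h2 : y * a * y⁻¹ * a⁻¹ ∈ P := by
    have h3 : a * y⁻¹ * a⁻¹ ∈ (P : Subgroup G) :=
      (mem_normalizer_iff.mp (RN aR) y⁻¹).mp (inv_mem hyP)
    have e : y * a * y⁻¹ * a⁻¹ = y * (a * y⁻¹ * a⁻¹) := by group
    rw [e]
    exact mul_mem hyP h3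
  have h3 := Cfsg.Agent.Lib.H53PCPInN.eq_one_of_mem P Rp h2 h1
  have h4 : y * a = a * y := by
    have e : y * a = (y * a * y⁻¹ * a⁻¹) * (a * y) := by group
    rw [e, h3, one_mul]
  exact h4.symm

end Cfsg.Agent.Lib.H53PCPowNotMem
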