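import Mathlib
import Cfsg.Agent.Lib.H53PCDefs
import Cfsg.Agent.Lib.H53PCPInN
import Cfsg.Agent.Lib.H53PCBurn
import Cfsg.Agent.Lib.H53PCExistsY
import Cfsg.Agent.Lib.H53PCPowNotMem

/-! PROJECT 4016 (row S4016), piece ExistsAD.  See notes/helper53/PC/README.md.  Other pieces are cited as `Cfsg.Agent.Lib.H53PC<Piece>.<thm>`. -/

set_option autoImplicit false

namespace Cfsg.Agent.Lib.H53PCExistsAD

open Subgroup Cfsg.Agent.Lib.H53PCDefs

variable {G : Type*} [Group G] [Finite G] {p : ℕ} [Fact p.Prime]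

/-- `R` is commutative (`S.pab`, `p ∤ |R|`), so `R ≤ C(t) = N(P)` (`S.cent`).  `R ≠ ⊥` (`t ≠ 1`), `R ≠ ⊤` (else `P = ⊥`).  `Burn` + `ExistsY` give `y`; `y^p ∈ C(R) ≤ C(t) = N(P)`; `PowNotMem`. -/
theorem exists_AD {P : Sylow p G} {z : G} {K : Subgroup G} (S : St p P z K) {r : ℕ} [Fact r.Prime]
    (hrp : r ≠ p) {t : G} (tC : t ∈ CC P) (tord : orderOf t = r) (R : Sylow r G) (tR : t ∈ R) :
    ∃ y : G, AD p r P t y (R : Subgroup G) := by
  have hp : p.Prime := Fact.out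
  have hr : r.Prime := Fact.out
  have hpr : ¬ p ∣ r := fun h => hrp ((Nat.prime_dvd_prime_iff_eq hp hr).mp h).symm
  have t1 : t ≠ 1 := by
    intro h
    rw [h, orderOf_one] at tord
    exact hr.one_lt.ne tord
  have hRp : ¬ p ∣ Nat.card (R : Subgroup G) := by
    obtain ⟨n, hn⟩ := IsPGroup.iff_card.mp R.2
    intro h
    have h' : p ∣ r ^ n := hn ▸ h
    exact hpr (hp.dvd_of_dvd_pow h')
  have hRcomm : ∀ a ∈ (R : Subgroup G), ∀ b ∈ (R : Subgroup G), a * b = b * a := S.pab R hRp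
  have hCt := S.cent t tC t1 (by rw [tord]; exact hpr)
  have hRN : (R : Subgroup G) ≤ NN P := by
    intro a ha
    rw [← hCt, mem_centralizer_singleton_iff]
    exact hRcomm a ha t tR
  have hRbot : (R : Subgroup G) ≠ ⊥ := by
    intro h
    apply t1
    have : t ∈ (R : Subgroup G) := tR
    rw [h] at this
    exact mem_bot.mp this
  have hRtop : (R : Subgroup G) ≠ ⊤ := by
    intro h
    apply S.ne_bot
    rw [eq_bot_iff]
    intro a ha
    have haR : a ∈ (R : Subgroup G) := by rw [h]; exact mem_top a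
    exact mem_bot.mpr (Cfsg.Agent.Lib.H53PCPInN.eq_one_of_mem P hRp ha haR)
  have hnc := Cfsg.Agent.Lib.H53PCBurn.not_normalizer_le_centralizer S.simple R hRbot hRtop
  obtain ⟨y, yN, yC, ypC, k, yo⟩ := Cfsg.Agent.Lib.H53PCExistsY.exists_y S.pab hRp hnc
  have ypN : y ^ p ∈ NN P := by
    rw [← hCt, mem_centralizer_singleton_iff]
    exact (mem_centralizer_iff.mp ypC t tR).symm
  exact ⟨y, ⟨tC, tord, tR, hRN, hRcomm, R.2, yN,
    Cfsg.Agent.Lib.H53PCPowNotMem.pow_not_mem P hRN hRp yN yC ypN yo⟩⟩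

end Cfsg.Agent.Lib.H53PCExistsAD
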