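import Mathlib
import Cfsg.Agent.Lib.H53PCDefs
import Cfsg.Agent.Lib.H53PCPInN

/-! PROJECT 4016 (row S4016), piece Inv.  See notes/helper53/PC/README.md.  Other pieces are cited as `Cfsg.Agent.Lib.H53PC<Piece>.<thm>`. -/

set_option autoImplicit false

namespace Cfsg.Agent.Lib.H53PCInv

open Subgroup Cfsg.Agent.Lib.H53PCDefs

variable {G : Type*} [Group G] [Finite G] {p : ℕ} [Fact p.Prime]

/-- `a` lies in a conjugate of the Sylow 2-subgroup `K` (`PInN.exists_conj_mem` with `p := 2`): `b = g⁻¹ a g ∈ K`, `b = y^i t y^-i`, `C(b) = cj (C(t)) (y^i) = cj (NN P) (y^i)`, `C(a) = cj (C(b)) g`; `card_cj`; `S.cardN`. -/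
theorem card_centralizer_inv {P : Sylow 3 G} {z : G} {K : Subgroup G} (S : St 3 P z K) {t y : G}
    (tC : t ∈ CC P) (tord : orderOf t = 2) (R : Sylow 2 G) (hR : (R : Subgroup G) = K) (hK4 : Nat.card K = 4)
    (hK : ∀ a ∈ K, a ≠ 1 → ∃ i : ℕ, i < 3 ∧ a = y ^ i * t * (y ^ i)⁻¹) :
    ∀ a : G, orderOf a = 2 → Nat.card (centralizer ({a} : Set G)) = 4 * Nat.card P := by
  intro a ha
  obtain ⟨g, hg⟩ := Cfsg.Agent.Lib.H53PCPInN.exists_conj_mem R (x := a) (k := 1) (by rw [ha, pow_one])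
  have hgK : g⁻¹ * a * g ∈ K := by rw [← hR]; exact hg
  have a1 : a ≠ 1 := by
    intro h
    rw [h, orderOf_one] at ha
    omega
  have b1 : g⁻¹ * a * g ≠ 1 := by
    intro h
    apply a1
    have e : a = g * (g⁻¹ * a * g) * g⁻¹ := by group
    rw [e, h]
    group
  obtain ⟨i, hi, hb⟩ := hK _ hgK b1
  have t1 : t ≠ 1 := by
    intro h
    rw [h, orderOf_one] at tord
    omega
  have hCt := S.cent t tC t1 (by rw [tord]; norm_num)
  have e : a = g * (y ^ i * t * (y ^ i)⁻¹) * g⁻¹ := by rw [← hb]; group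
  rw [e, centralizer_conj, card_cj, centralizer_conj, card_cj, hCt, S.cardN, hK4, mul_comm]

end Cfsg.Agent.Lib.H53PCInv
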