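import Mathlib
import Cfsg.Agent.Lib.H53PCDefs
import Cfsg.Agent.Lib.H53PCIdx2

/-! PROJECT 4016 (row S4016), piece K2.  See notes/helper53/PC/README.md.  Other pieces are cited as `Cfsg.Agent.Lib.H53PC<Piece>.<thm>`. -/

set_option autoImplicit false

namespace Cfsg.Agent.Lib.H53PCK2

open Subgroup Cfsg.Agent.Lib.H53PCDefs

variable {G : Type*} [Group G] [Finite G] {p : ℕ} [Fact p.Prime]

/-- if a prime `s ≠ 2` divides `|K|` take `k ∈ K` of order `s` (`s ≠ 3` by `S.Kp`); `k² ∈ C(P)` (if `k ∉ C(P)`, `Idx2` with `a = k⁻¹, b = k`), so `k = (k²)^((s+1)/2) ∈ C(P)`; `hA` gives `s = 2`. -/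
theorem K2 {P : Sylow 3 G} {z : G} {K : Subgroup G} (S : St 3 P z K)
    (hA : ∀ r : ℕ, r.Prime → r ≠ 3 → ∀ t ∈ CC P, orderOf t = r → r = 2) : IsPGroup 2 K := by
  have hK : ∀ s : ℕ, s.Prime → s ∣ Nat.card K → s = 2 := by
    intro s hs hsK
    have : Fact s.Prime := ⟨hs⟩
    obtain ⟨k, hk⟩ := exists_prime_orderOf_dvd_card' (G := K) s hsK
    have hko : orderOf (k : G) = s := by rw [Subgroup.orderOf_coe]; exact hk
    have hs3 : s ≠ 3 := by
      rintro rfl
      exact S.Kp hsK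
    by_contra hs2
    have hkC : (k : G) ∈ CC P := by
      by_contra hkC
      have hkN : (k : G) ∈ NN P := S.KN k.2
      have h1 := Cfsg.Agent.Lib.H53PCIdx2.idx2 S (k : G)⁻¹ (inv_mem hkN) k hkN
        (fun h => hkC (by simpa using inv_mem h)) hkC
      rw [inv_inv] at h1
      have hodd : s % 2 = 1 := (hs.eq_two_or_odd).resolve_left hs2
      have e : (k : G) = ((k : G) * k) ^ ((s + 1) / 2) := by
        rw [← pow_two, ← pow_mul]
        have e2 : 2 * ((s + 1) / 2) = s + 1 := by omega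
        rw [e2, pow_succ, ← hko, pow_orderOf_eq_one, one_mul]
      apply hkC
      rw [e]
      exact pow_mem h1 _
    exact hs2 (hA s hs hs3 k hkC hko)
  exact IsPGroup.of_card
    (Nat.eq_prime_pow_of_unique_prime_dvd (Nat.card_pos.ne') (fun {s} hs hsK => hK s hs hsK))

end Cfsg.Agent.Lib.H53PCK2
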