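import Mathlib
import Cfsg.Agent.Lib.H53PCDefs
import Cfsg.Agent.Lib.H53PCAT1

/-! PROJECT 4016 (row S4016), piece KC.  See notes/helper53/PC/README.md.  Other pieces are cited as `Cfsg.Agent.Lib.H53PC<Piece>.<thm>`. -/

set_option autoImplicit false

namespace Cfsg.Agent.Lib.H53PCKC

open Subgroup Cfsg.Agent.Lib.H53PCDefs

variable {G : Type*} [Group G] [Finite G] {p : ℕ} [Fact p.Prime]

/-- `a = y^i t y^-i` with `i < 3`; `i ≠ 0` is impossible by `AT1.conj_not_mem`. -/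
theorem KC {P : Sylow 3 G} {z : G} {K : Subgroup G} (S : St 3 P z K) {t y : G}
    (D : AD 3 2 P t y K) (hK : ∀ a ∈ K, a ≠ 1 → ∃ i : ℕ, i < 3 ∧ a = y ^ i * t * (y ^ i)⁻¹) :
    ∀ a ∈ K, a ∈ CC P → a = 1 ∨ a = t := by
  intro a aK aC
  by_cases a1 : a = 1
  · left; exact a1
  right
  obtain ⟨i, hi, rfl⟩ := hK a aK a1
  rcases Nat.eq_zero_or_pos i with rfl | hpos
  · simp
  · exact absurd aC (Cfsg.Agent.Lib.H53PCAT1.conj_not_mem S (r := 2) (by norm_num) D i hpos hi)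

end Cfsg.Agent.Lib.H53PCKC
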