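import Mathlib
import Cfsg.Agent.Lib.H53PCDefs

/-! PROJECT 4016 (row S4016), piece KSyl.  See notes/helper53/PC/README.md.  Other pieces are cited as `Cfsg.Agent.Lib.H53PC<Piece>.<thm>`. -/

set_option autoImplicit false
set_option linter.style.haveILetI false

namespace Cfsg.Agent.Lib.H53PCKSyl

open Subgroup Cfsg.Agent.Lib.H53PCDefs

variable {G : Type*} [Group G] [Finite G] {p : ℕ} [Fact p.Prime]

/-- `K ≤ R` for a Sylow 2-subgroup `R` (`IsPGroup.exists_le_sylow`).  `t ∈ K` (`S.memK`).  `R` is commutative (`S.pab`, `3 ∤ |R|`), so `R ≤ C(t) = N(P)` (`S.cent`); `|R| ∣ |P| |K|`, coprime to `|P|`, so `|R| ∣ |K|`, `R = K`. -/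
theorem KSyl {P : Sylow 3 G} {z : G} {K : Subgroup G} (S : St 3 P z K) (hK2 : IsPGroup 2 K) {t : G}
    (tC : t ∈ CC P) (tord : orderOf t = 2) : ∃ R : Sylow 2 G, (R : Subgroup G) = K := by
  haveI : Fact (Nat.Prime 2) := ⟨Nat.prime_two⟩
  haveI : Fact (Nat.Prime 3) := ⟨Nat.prime_three⟩
  obtain ⟨R, hR⟩ := hK2.exists_le_sylow
  refine ⟨R, ?_⟩
  have ht3 : ¬ 3 ∣ orderOf t := by rw [tord]; norm_num
  have ht1 : t ≠ 1 := by
    intro h
    rw [h, orderOf_one] at tord
    omega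
  have htK : t ∈ K := S.memK t tC ht3
  obtain ⟨k, hk⟩ := R.2.exists_card_eq
  obtain ⟨j, hj⟩ := P.2.exists_card_eq
  have hR3 : ¬ 3 ∣ Nat.card (R : Subgroup G) := by
    rw [hk]
    intro h
    have := Nat.Prime.dvd_of_dvd_pow Nat.prime_three h
    omega
  have hRN : (R : Subgroup G) ≤ NN P := by
    intro r hr
    rw [← S.cent t tC ht1 ht3, mem_centralizer_singleton_iff]
    exact S.pab _ hR3 r hr t (hR htK)
  have hdvd : Nat.card (R : Subgroup G) ∣ Nat.card P * Nat.card K := by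
    rw [← S.cardN]
    exact Subgroup.card_dvd_of_le hRN
  have hcop : Nat.Coprime (Nat.card (R : Subgroup G)) (Nat.card P) := by
    rw [hk]
    have : Nat.card P = 3 ^ j := hj
    rw [this]
    exact Nat.Coprime.pow _ _ (by norm_num)
  have hdvd2 : Nat.card (R : Subgroup G) ∣ Nat.card K := hcop.dvd_of_dvd_mul_left hdvd
  exact (Subgroup.eq_of_le_of_card_ge hR (Nat.le_of_dvd Nat.card_pos hdvd2)).symm

end Cfsg.Agent.Lib.H53PCKSyl
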