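import Mathlib
import Cfsg.Agent.Lib.H53PCDefs
import Cfsg.Agent.Lib.H53PCPInN
import Cfsg.Prelude.Def_OddOrderLocal

/-! PROJECT 4016 (row S4016), piece TIC.  See notes/helper53/PC/README.md.  Other pieces are cited as `Cfsg.Agent.Lib.H53PC<Piece>.<thm>`. -/

set_option autoImplicit false

namespace Cfsg.Agent.Lib.H53PCTIC

open Subgroup Cfsg.Agent.Lib.H53PCDefs

variable {G : Type*} [Group G] [Finite G] {p : ℕ} [Fact p.Prime]

omit [Finite G] in
theorem conj_mem_CC {H : Subgroup G} {n c : G} (hn : n ∈ normalizer (H : Set G))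
    (hc : c ∈ centralizer (H : Set G)) : n * c * n⁻¹ ∈ centralizer (H : Set G) := by
  rw [mem_centralizer_iff] at hc ⊢
  intro y hy
  have h1 : n⁻¹ * y * n ∈ H := by
    have := (mem_normalizer_iff.mp (inv_mem hn) y).mp hy
    simpa using this
  have h2 := hc _ h1
  calc y * (n * c * n⁻¹) = n * ((n⁻¹ * y * n) * c) * n⁻¹ := by group
    _ = n * (c * (n⁻¹ * y * n)) * n⁻¹ := by rw [h2]
    _ = n * c * n⁻¹ * y := by group

omit [Finite G] in
theorem normalizer_le_normalizer_centralizer (H : Subgroup G) :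
    normalizer (H : Set G) ≤ normalizer ((centralizer (H : Set G) : Subgroup G) : Set G) := by
  intro n hn
  rw [mem_normalizer_iff]
  intro c
  constructor
  · intro hc
    exact conj_mem_CC hn hc
  · intro hc
    have := conj_mem_CC (inv_mem hn) hc
    have e : n⁻¹ * (n * c * n⁻¹) * n⁻¹⁻¹ = c := by group
    rwa [e] at this

/-- Let `x ≠ 1`, `x, g x g⁻¹ ∈ C(P)`; show `g ∈ N(P)` (and `N(P) ≤ N(C(P))`).  `x = u k`, `u ∈ P`, `k ∈ K ⊓ C(P) = {1,t}`, `x² = u²`.
If `u ≠ 1`: `u² ≠ 1` (odd order), `g u² g⁻¹ = (g x g⁻¹)² ∈ C(P) ≤ N(P)` is a 3-element so lies in `P` (`PInN.mem_of_pelt`); so `P ⊓ cj P g ≠ ⊥`... careful with the direction: `g u² g⁻¹ ∈ P ⊓ cj P g`; `S.ti`.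
If `u = 1`: `x = t`, `g t g⁻¹ ∈ C(P)` has order 2, so it lies in `K` (`S.memK`), so it is `t`; `g ∈ C(t) = N(P)` (`S.cent`). -/
theorem tiC {P : Sylow 3 G} {z : G} {K : Subgroup G} (S : St 3 P z K) {t : G} (tC : t ∈ CC P)
    (tord : orderOf t = 2) (hKC : ∀ a ∈ K, a ∈ CC P → a = 1 ∨ a = t) :
    Cfsg.IsTISubset ((CC P : Subgroup G) : Set G) := by
  haveI : Fact (Nat.Prime 3) := ⟨Nat.prime_three⟩
  intro g hg x hx hgx
  by_contra hx1
  apply hg
  apply normalizer_le_normalizer_centralizer (P : Subgroup G)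
  show g ∈ NN P
  have hx' : x ∈ CC P := hx
  have hgx' : g * x * g⁻¹ ∈ CC P := hgx
  have hCN : CC P ≤ NN P := centralizer_le_normalizer _
  have hPC : (P : Subgroup G) ≤ CC P := by
    intro a ha
    rw [mem_centralizer_iff]
    intro b hb
    exact S.comm b hb a ha
  have ht1 : t ≠ 1 := by
    intro h; rw [h, orderOf_one] at tord; omega
  have ht2 : t ^ 2 = 1 := by rw [← tord]; exact pow_orderOf_eq_one t
  obtain ⟨u, hu, k, hk, hxuk⟩ := S.fac x (hCN hx')
  have hkC : k ∈ CC P := by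
    have : k = u⁻¹ * x := by rw [hxuk]; group
    rw [this]
    exact mul_mem (inv_mem (hPC hu)) hx'
  have hk2 : k ^ 2 = 1 := by
    rcases hKC k hk hkC with h | h
    · rw [h, one_pow]
    · rw [h, ht2]
  have huk : u * k = k * u := (mem_centralizer_iff.mp hkC) u hu
  have hx2 : x ^ 2 = u ^ 2 := by
    rw [hxuk, (show Commute u k from huk).mul_pow, hk2, mul_one]
  by_cases hu1 : u = 1
  · have hxk : x = k := by rw [hxuk, hu1, one_mul]
    have hxt : x = t := by
      rcases hKC k hk hkC with h | h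
      · exact absurd (hxk.trans h) hx1
      · exact hxk.trans h
    rw [hxt] at hgx'
    have ho : orderOf (g * t * g⁻¹) = 2 := by
      rw [← tord]; exact (MulAut.conj g).orderOf_eq t
    have hK := S.memK _ hgx' (by rw [ho]; norm_num)
    have hgt : g * t * g⁻¹ = t := by
      rcases hKC _ hK hgx' with h | h
      · rw [h, orderOf_one] at ho; omega
      · exact h
    have hc := S.cent t tC ht1 (by rw [tord]; norm_num)
    rw [← hc, mem_centralizer_singleton_iff]
    calc g * t = (g * t * g⁻¹) * g := by group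
      _ = t * g := by rw [hgt]
  · obtain ⟨j, hj⟩ := (IsPGroup.iff_orderOf.mp P.isPGroup') ⟨u ^ 2, pow_mem hu 2⟩
    rw [Subgroup.orderOf_mk] at hj
    have hu2 : u ^ 2 ≠ 1 := by
      intro h
      obtain ⟨i, hi⟩ := (IsPGroup.iff_orderOf.mp P.isPGroup') ⟨u, hu⟩
      rw [Subgroup.orderOf_mk] at hi
      have h1 : orderOf u ∣ 2 := orderOf_dvd_of_pow_eq_one h
      have h2 : Nat.Coprime (orderOf u) 2 := by
        rw [hi]; exact Nat.Coprime.pow_left i (by norm_num)
      have h3 : orderOf u = 1 := Nat.Coprime.eq_one_of_dvd h2 h1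
      exact hu1 (orderOf_eq_one_iff.mp h3)
    have hconj : g * u ^ 2 * g⁻¹ = (g * x * g⁻¹) ^ 2 := by
      rw [conj_pow, hx2]
    have hmem : g * u ^ 2 * g⁻¹ ∈ NN P := by
      rw [hconj]; exact hCN (pow_mem hgx' 2)
    have ho : orderOf (g * u ^ 2 * g⁻¹) = 3 ^ j := by
      rw [← hj]; exact (MulAut.conj g).orderOf_eq (u ^ 2)
    have hP := Cfsg.Agent.Lib.H53PCPInN.mem_of_pelt P hmem ho
    apply S.ti g
    intro hbot
    have : g * u ^ 2 * g⁻¹ ∈ (P : Subgroup G) ⊓ cj (P : Subgroup G) g :=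
      ⟨hP, conj_mem_cj (pow_mem hu 2) g⟩
    rw [hbot, mem_bot] at this
    apply hu2
    have e : u ^ 2 = g⁻¹ * (g * u ^ 2 * g⁻¹) * g := by group
    rw [e, this]; group

end Cfsg.Agent.Lib.H53PCTIC
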