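import Mathlib
import Cfsg.Agent.Lib.Helper40Sylow

set_option autoImplicit false

namespace Cfsg.Agent.Lib.Helper70Basic

open Cfsg.Agent.Lib.Helper40Sylow

universe u

variable {G : Type u} [Group G]

theorem mem_normalizer_of_conj_le [Finite G] (g : G) (H : Subgroup G)
    (h : ∀ x ∈ H, g * x * g⁻¹ ∈ H) : g ∈ Subgroup.normalizer (H : Set G) := by
  rw [mem_normalizer_iff_cj]
  apply cj_eq_of_le
  rintro _ ⟨x, hx, rfl⟩
  simpa [MulAut.conj_apply] using h x hx

theorem mem_normalizer_zpowers [Finite G] (g x : G)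
    (h : g * x * g⁻¹ ∈ Subgroup.zpowers x) :
    g ∈ Subgroup.normalizer ((Subgroup.zpowers x : Subgroup G) : Set G) := by
  rw [mem_normalizer_iff_cj]
  apply cj_eq_of_le
  rw [cj, MonoidHom.map_zpowers, Subgroup.zpowers_le]
  simpa [MulAut.conj_apply] using h

theorem isPGroup_zpowers (p : ℕ) (x : G) (k : ℕ) (h : orderOf x = p ^ k) :
    IsPGroup p (Subgroup.zpowers x) := by
  apply IsPGroup.of_card (n := k)
  rw [Nat.card_zpowers, h]

theorem normal_le_sylow [Finite G] {p : ℕ} [Fact p.Prime] (N : Subgroup G)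
    [N.Normal] (hN : IsPGroup p N) (P : Sylow p G) : N ≤ P := by
  obtain ⟨Q, hQ⟩ := hN.exists_le_sylow
  obtain ⟨g, rfl⟩ := MulAction.exists_smul_eq G Q P
  intro n hn
  rw [sylow_smul_eq_cj, mem_cj]
  apply hQ
  have := (inferInstance : N.Normal).conj_mem n hn g⁻¹
  simpa using this

theorem card_mul_relIndex' {H K : Subgroup G} (h : H ≤ K) :
    Nat.card H * H.relIndex K = Nat.card K := by
  have := Subgroup.relIndex_mul_relIndex ⊥ H K bot_le h
  simpa [Subgroup.relIndex_bot_left] using this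

open scoped Pointwise in
theorem smul_eq_cj (g : G) (H : Subgroup G) : MulAut.conj g • H = cj g H := rfl

end Cfsg.Agent.Lib.Helper70Basic
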