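import Mathlib
import Cfsg.Agent.Lib.Helper70Basic

set_option autoImplicit false

namespace Cfsg.Agent.Lib.Helper70Sup

open Cfsg.Agent.Lib.Helper70Basic

theorem card_sup_zpowers_prime {P : Type*} [Group P] [Finite P] {p : ℕ} (hp : p.Prime)
    (N : Subgroup P) (w : P) (hw : orderOf w = p) (hwN : w ∉ N)
    (hnorm : ∀ n ∈ N, w * n * w⁻¹ ∈ N) :
    Nat.card (N ⊔ Subgroup.zpowers w : Subgroup P) = Nat.card N * p := by
  have hLE : Subgroup.zpowers w ≤ Subgroup.normalizer (N : Set P) := by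
    rw [Subgroup.zpowers_le]
    exact mem_normalizer_of_conj_le w N hnorm
  have := Subgroup.normal_subgroupOf_of_le_normalizer hLE
  have := Subgroup.normal_subgroupOf_sup_of_le_normalizer hLE
  have h1 : N.relIndex (Subgroup.zpowers w) = N.relIndex (Subgroup.zpowers w ⊔ N) :=
    Nat.card_congr
      (QuotientGroup.quotientInfEquivProdNormalizerQuotient (Subgroup.zpowers w) N hLE).toEquiv
  have h2 : N.relIndex (Subgroup.zpowers w) = p := by
    have h3 : N.relIndex (Subgroup.zpowers w) ∣ p := by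
      have := Subgroup.relIndex_dvd_card N (Subgroup.zpowers w)
      rwa [Nat.card_zpowers, hw] at this
    rcases (Nat.dvd_prime hp).mp h3 with h4 | h4
    · exfalso
      rw [Subgroup.relIndex_eq_one] at h4
      exact hwN (h4 (Subgroup.mem_zpowers w))
    · exact h4
  rw [sup_comm, ← card_mul_relIndex' (le_sup_right : N ≤ Subgroup.zpowers w ⊔ N), ← h1, h2]

theorem mem_zpowers_two {P : Type*} [Group P] {x y : P} (hx : orderOf x = 2)
    (hy : y ∈ Subgroup.zpowers x) : y = 1 ∨ y = x := by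
  obtain ⟨k, rfl⟩ := hy
  show x ^ k = 1 ∨ x ^ k = x
  rw [← zpow_mod_orderOf, hx]
  have h1 : k % ((2 : ℕ) : ℤ) = 0 ∨ k % ((2 : ℕ) : ℤ) = 1 := by omega
  rcases h1 with h1 | h1 <;> rw [h1] <;> simp

/-- elements of `N ⊔ ⟨x⟩` for an involution `x` normalizing `N` -/
theorem mem_sup_zpowers_two {P : Type*} [Group P] [Finite P] (N : Subgroup P) {x w : P}
    (hx : orderOf x = 2) (hnorm : ∀ n ∈ N, x * n * x⁻¹ ∈ N)
    (hw : w ∈ N ⊔ Subgroup.zpowers x) : w ∈ N ∨ ∃ n ∈ N, w = x * n := by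
  have hLE : Subgroup.zpowers x ≤ Subgroup.normalizer (N : Set P) := by
    rw [Subgroup.zpowers_le]
    exact mem_normalizer_of_conj_le x N hnorm
  rw [sup_comm, ← SetLike.mem_coe, Subgroup.coe_mul_of_left_le_normalizer_right _ N hLE] at hw
  obtain ⟨a, ha, n, hn, rfl⟩ := hw
  rcases mem_zpowers_two hx ha with rfl | rfl
  · left; simpa using hn
  · right; exact ⟨n, hn, rfl⟩

end Cfsg.Agent.Lib.Helper70Sup
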