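import Mathlib
import Cfsg.Agent.Lib.H53PCDefs
import Cfsg.Agent.Lib.H53PCK2
import Cfsg.Agent.Lib.H53PCKSyl
import Cfsg.Agent.Lib.H53PCExistsAD
import Cfsg.Agent.Lib.H53PCCardK1
import Cfsg.Agent.Lib.H53PCCardK2
import Cfsg.Agent.Lib.H53PCKC
import Cfsg.Agent.Lib.H53PCCardC
import Cfsg.Agent.Lib.H53PCTIC
import Cfsg.Agent.Lib.H53PCInv
import Cfsg.Agent.Lib.H53PCEvenN
import Cfsg.Agent.Lib.H53PCEvenC
import Cfsg.Agent.S4018
import Cfsg.Prelude.Def_OddOrderLocal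

/-! PROJECT 4016 (row S4016), piece A2Fin.  See notes/helper53/PC/README.md.  Other pieces are cited as `Cfsg.Agent.Lib.H53PC<Piece>.<thm>`. -/

set_option autoImplicit false

namespace Cfsg.Agent.Lib.H53PCA2Fin

open Subgroup Cfsg.Agent.Lib.H53PCDefs

variable {G : Type*} [Group G] [Finite G] {p : ℕ} [Fact p.Prime]

/-- glue: `K2`, `KSyl` (`R = K`), `ExistsAD` (with `r = 2`, `R`; rewrite `↑R = K`), `CardK1`, `CardK2`, `KC`, `CardC`, `TIC`, `Inv`, `EvenN`/`EvenC` (via `S.sub`), then the landed row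
`Cfsg.Agent.S4018.result P _ hN hC hTI heven S.simple`. -/
theorem caseA2 {P : Sylow 3 G} {z : G} {K : Subgroup G} (S : St 3 P z K)
    (hA : ∀ r : ℕ, r.Prime → r ≠ 3 → ∀ t ∈ CC P, orderOf t = r → r = 2) {t : G} (tC : t ∈ CC P)
    (tord : orderOf t = 2) : False := by
  have hK2 := Cfsg.Agent.Lib.H53PCK2.K2 S hA
  obtain ⟨R, hR⟩ := Cfsg.Agent.Lib.H53PCKSyl.KSyl S hK2 tC tord
  have tK : t ∈ K := S.memK t tC (by rw [tord]; norm_num)
  have tR : t ∈ R := by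
    have : t ∈ (R : Subgroup G) := hR ▸ tK
    exact this
  obtain ⟨y, D⟩ := Cfsg.Agent.Lib.H53PCExistsAD.exists_AD S (r := 2) (by norm_num) tC tord R tR
  rw [hR] at D
  have hle := Cfsg.Agent.Lib.H53PCCardK1.cardK_le S D
  obtain ⟨hK4, hKe⟩ := Cfsg.Agent.Lib.H53PCCardK2.K_elts S D hle
  have hKC := Cfsg.Agent.Lib.H53PCKC.KC S D hKe
  have hC := Cfsg.Agent.Lib.H53PCCardC.cardC S tC tord hKC
  have hTI := Cfsg.Agent.Lib.H53PCTIC.tiC S tC tord hKC
  have hinv := Cfsg.Agent.Lib.H53PCInv.card_centralizer_inv S tC tord R hR hK4 hKe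
  have heven : ∀ H : Subgroup G, H ≠ ⊤ → 2 ∣ Nat.card H → Nat.card H ∣ 4 * Nat.card P := by
    intro H hH h2
    rcases S.sub H hH with h | h
    · exact Cfsg.Agent.Lib.H53PCEvenN.even_pnil P S.pab hinv h h2
    · exact Cfsg.Agent.Lib.H53PCEvenC.even_pclosed S hK4 hinv h h2
  have hN : Nat.card (normalizer ((P : Subgroup G) : Set G)) = 4 * Nat.card P := by
    have := S.cardN
    rw [hK4, mul_comm] at this
    exact this
  have hab : IsMulCommutative P := ⟨⟨fun a b => Subtype.ext (S.comm a a.2 b b.2)⟩⟩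
  exact Cfsg.Agent.S4018.result P hab hN hC hTI heven S.simple

end Cfsg.Agent.Lib.H53PCA2Fin
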