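import Mathlib
import Cfsg.Agent.Lib.H53PCDefs

/-! PROJECT 4016 (row S4016), piece Cyc.  See notes/helper53/PC/README.md.  Other pieces are cited as `Cfsg.Agent.Lib.H53PC<Piece>.<thm>`. -/

set_option autoImplicit false

namespace Cfsg.Agent.Lib.H53PCCyc

open Subgroup Cfsg.Agent.Lib.H53PCDefs

variable {G : Type*} [Group G] [Finite G] {p : ℕ} [Fact p.Prime]

/-- `E` acts faithfully on `⟨z⟩ ≅ Z_p`: injective hom `E → MulAut (zpowers z)`, `IsCyclic.card_mulAut` (= `φ(p) = p - 1`), `Subgroup.card_dvd_of_injective`. -/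
theorem card_dvd_pred {z : G} (zo : orderOf z = p) {E : Subgroup G}
    (hE : E ≤ normalizer ((zpowers z : Subgroup G) : Set G)) (hf : ∀ e ∈ E, e * z = z * e → e = 1) :
    Nat.card E ∣ p - 1 := by
  have hp : p.Prime := Fact.out
  let f : E →* MulAut (zpowers z : Subgroup G) :=
    (zpowers z : Subgroup G).normalizerMonoidHom.comp (Subgroup.inclusion hE)
  have hinj : Function.Injective f := by
    rw [injective_iff_map_eq_one]
    intro e he
    have h1 : f e ⟨z, mem_zpowers z⟩ = ⟨z, mem_zpowers z⟩ := by rw [he]; rfl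
    have h2 : (e : G) * z * (e : G)⁻¹ = z := congrArg Subtype.val h1
    have h3 : (e : G) * z = z * (e : G) := by
      calc (e : G) * z = ((e : G) * z * (e : G)⁻¹) * (e : G) := by group
        _ = z * (e : G) := by rw [h2]
    exact Subtype.ext (hf e.1 e.2 h3)
  have h4 := Subgroup.card_dvd_of_injective f hinj
  rw [IsCyclic.card_mulAut, Nat.card_zpowers, zo, Nat.totient_prime hp] at h4
  exact h4

end Cfsg.Agent.Lib.H53PCCyc
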