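import Mathlib
import Cfsg.Agent.Lib.H53PCDefs
import Cfsg.Agent.Lib.H53PCCentZ
import Cfsg.Agent.Lib.H53PCAT1
import Cfsg.Agent.Lib.H53PCCyc

/-! PROJECT 4016 (row S4016), piece ADvd.  See notes/helper53/PC/README.md.  Other pieces are cited as `Cfsg.Agent.Lib.H53PC<Piece>.<thm>`. -/

set_option autoImplicit false

namespace Cfsg.Agent.Lib.H53PCADvd

open Subgroup Cfsg.Agent.Lib.H53PCDefs

variable {G : Type*} [Group G] [Finite G] {p : ℕ} [Fact p.Prime]

/-- `t' = y t y⁻¹ ∈ R ≤ N(P) = N(⟨z⟩)` has order `r`, `E = zpowers t'`; if `1 ≠ e ∈ E` centralizes `z` then so does `t' ∈ ⟨e⟩`, so `t' ∈ C(z) = C(P)` (`S.wsc`), against `AT1` (`i = 1`).  `Cyc.card_dvd_pred`. -/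
theorem r_dvd {P : Sylow p G} {z : G} {K : Subgroup G} (S : St p P z K) {r : ℕ} [Fact r.Prime]
    (hrp : r ≠ p) {t y : G} {R : Subgroup G} (D : AD p r P t y R) : r ∣ p - 1 := by
  have hp : p.Prime := Fact.out
  have hr : r.Prime := Fact.out
  have ht'o : orderOf (y * t * y⁻¹) = r := by
    rw [← D.tord]; exact (MulAut.conj y).orderOf_eq t
  have ht'R : y * t * y⁻¹ ∈ R := (mem_normalizer_iff.mp D.yR t).mp D.tR
  have hnot : y * t * y⁻¹ ∉ CC P := by
    have := Cfsg.Agent.Lib.H53PCAT1.conj_not_mem S hrp D 1 one_pos hp.one_lt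
    rwa [pow_one] at this
  have z1 : z ≠ 1 := by
    intro h
    have := S.zo
    rw [h, orderOf_one] at this
    exact hp.one_lt.ne this
  have hcard : Nat.card (zpowers (y * t * y⁻¹)) = r := by rw [Nat.card_zpowers, ht'o]
  rw [← hcard]
  apply Cfsg.Agent.Lib.H53PCCyc.card_dvd_pred S.zo
  · rw [S.nz, zpowers_le]; exact D.RN ht'R
  · intro e he hez
    by_contra e1
    apply hnot
    have h1 := Cfsg.Agent.Lib.H53PCCentZ.centralizer_eq_of_mem_zpowers (r := r)
      (by rw [← ht'o]; exact pow_orderOf_eq_one _) he e1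
    have h2 : z ∈ centralizer ({e} : Set G) := by
      rw [mem_centralizer_singleton_iff]; exact hez.symm
    rw [h1, mem_centralizer_singleton_iff] at h2
    have h3 : y * t * y⁻¹ ∈ centralizer ({z} : Set G) := by
      rw [mem_centralizer_singleton_iff]; exact h2.symm
    rwa [S.wsc z S.zP z1] at h3

end Cfsg.Agent.Lib.H53PCADvd
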