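import Mathlib
import Cfsg.Agent.Lib.H53PCDefs

/-! PROJECT 4016 (row S4016), piece AllCyc.  See notes/helper53/PC/README.md.  Other pieces are cited as `Cfsg.Agent.Lib.H53PC<Piece>.<thm>`. -/

set_option autoImplicit false

namespace Cfsg.Agent.Lib.H53PCAllCyc

open Subgroup Cfsg.Agent.Lib.H53PCDefs

variable {G : Type*} [Group G] [Finite G] {p : ℕ} [Fact p.Prime]

/-- Sylow subgroups are conjugate, hence isomorphic. -/
theorem all_cyclic (P : Sylow p G) (hc : IsCyclic (P : Subgroup G)) : ∀ Q : Sylow p G, IsCyclic (Q : Subgroup G) := by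
  intro Q
  obtain ⟨g, rfl⟩ := MulAction.exists_smul_eq G P Q
  have e : (P : Subgroup G) ≃* ((g • P : Sylow p G) : Subgroup G) := Sylow.equivSMul P g
  exact isCyclic_of_surjective e e.surjective

end Cfsg.Agent.Lib.H53PCAllCyc
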