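import Mathlib
import Cfsg.Agent.Lib.H53PCDefs

/-! PROJECT 4016 (row S4016), piece ArithA.  See notes/helper53/PC/README.md.  Other pieces are cited as `Cfsg.Agent.Lib.H53PC<Piece>.<thm>`. -/

set_option autoImplicit false

namespace Cfsg.Agent.Lib.H53PCArithA

open Subgroup Cfsg.Agent.Lib.H53PCDefs

variable {G : Type*} [Group G] [Finite G] {p : ℕ} [Fact p.Prime]

theorem three_two {p r : ℕ} (hp : p.Prime) (hr : r.Prime) (h1 : r ∣ p - 1) (h2 : p ≤ r + 1) :
    p = 3 ∧ r = 2 := by
  have hp2 := hp.two_le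
  have hr2 := hr.two_le
  have hle : r ≤ p - 1 := Nat.le_of_dvd (by omega) h1
  have hpr : p = r + 1 := by omega
  subst hpr
  rcases hr.eq_two_or_odd' with h | h
  · subst h; exact ⟨rfl, rfl⟩
  · exfalso
    rcases hp.eq_two_or_odd' with h' | h'
    · omega
    · rcases h with ⟨a, ha⟩
      rcases h' with ⟨b, hb⟩
      omega

end Cfsg.Agent.Lib.H53PCArithA
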