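import Mathlib
import Cfsg.Agent.Lib.H53PCDefs

/-! PROJECT 4016 (row S4016), piece ArithB.  See notes/helper53/PC/README.md.  Other pieces are cited as `Cfsg.Agent.Lib.H53PC<Piece>.<thm>`. -/

set_option autoImplicit false

namespace Cfsg.Agent.Lib.H53PCArithB

open Subgroup Cfsg.Agent.Lib.H53PCDefs

variable {G : Type*} [Group G] [Finite G] {p : ℕ} [Fact p.Prime]

/-- `n = |G|`, `p^a = |P|`, `k = |K|`, `i = |G : N(P)|`.  `i k` is the `p'`-part of `n`, which is `∏_{r ≠ p} r^(v_r n) ≡ 1`; so `k ≡ 1 [MOD p]`, impossible for `1 < k ≤ p - 1`. -/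
theorem final_arith {p : ℕ} (hp : p.Prime) {n a k i : ℕ} (hn : n = i * (p ^ a * k)) (hk1 : 1 < k)
    (hk : k ∣ p - 1) (hi : i ≡ 1 [MOD p])
    (hr : ∀ r : ℕ, r.Prime → r ≠ p → r ^ n.factorization r ≡ 1 [MOD p]) : False := by
  have hp2 := hp.two_le
  have hkpos : 0 < k := by omega
  have hkle : k ≤ p - 1 := Nat.le_of_dvd (by omega) hk
  have hpi : ¬ p ∣ i := by
    intro h
    have h0 : i ≡ 0 [MOD p] := (Nat.modEq_zero_iff_dvd).2 h
    have h2 : p ∣ 1 := (Nat.modEq_zero_iff_dvd).1 (hi.symm.trans h0)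
    exact hp.one_lt.ne' (Nat.dvd_one.1 h2)
  have hi0 : i ≠ 0 := by
    rintro rfl
    exact hpi (dvd_zero p)
  have hpk : ¬ p ∣ k := fun h => by have := Nat.le_of_dvd hkpos h; omega
  obtain ⟨m, hm⟩ : ∃ m, m = i * k := ⟨_, rfl⟩
  have hm0 : m ≠ 0 := by rw [hm]; exact Nat.mul_ne_zero hi0 hkpos.ne'
  have hpm : ¬ p ∣ m := fun h => (hp.dvd_mul.1 (hm ▸ h)).elim hpi hpk
  have hnm : n = p ^ a * m := by rw [hn, hm]; ring
  have hfac : ∀ r : ℕ, r.Prime → r ≠ p → m.factorization r = n.factorization r := by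
    intro r hr' hrp
    rw [hnm, Nat.factorization_mul (pow_ne_zero _ hp.ne_zero) hm0, hp.factorization_pow]
    simp [Finsupp.single_apply, hrp.symm]
  have hprod : m ≡ 1 [MOD p] := by
    have h1 : m.factorization.prod (fun q e => q ^ e) ≡ 1 [MOD p] := by
      unfold Finsupp.prod
      refine Finset.prod_induction _ (fun x => x ≡ 1 [MOD p]) ?_ rfl ?_
      · intro x y hx hy
        exact hx.mul hy
      · intro q hq
        have hqp : q.Prime := Nat.prime_of_mem_primeFactors (by simpa using hq)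
        have hqd : q ∣ m := Nat.dvd_of_mem_primeFactors (by simpa using hq)
        have hne : q ≠ p := by
          rintro rfl
          exact hpm hqd
        show q ^ m.factorization q ≡ 1 [MOD p]
        rw [hfac q hqp hne]
        exact hr q hqp hne
    rwa [Nat.prod_factorization_pow_eq_self hm0] at h1
  have hk1' : k ≡ 1 [MOD p] := by
    have h2 : i * k ≡ 1 * k [MOD p] := hi.mul_right k
    rw [one_mul] at h2
    exact h2.symm.trans (hm ▸ hprod)
  have h3 : k % p = 1 % p := hk1'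
  rw [Nat.mod_eq_of_lt (by omega), Nat.mod_eq_of_lt (by omega)] at h3
  omega

end Cfsg.Agent.Lib.H53PCArithB
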