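import Mathlib
import Cfsg.Agent.Lib.H53PCDefs

/-! PROJECT 4016 (row S4016), piece BC.  See notes/helper53/PC/README.md.  Other pieces are cited as `Cfsg.Agent.Lib.H53PC<Piece>.<thm>`. -/

set_option autoImplicit false

namespace Cfsg.Agent.Lib.H53PCBC

open Subgroup Cfsg.Agent.Lib.H53PCDefs

variable {G : Type*} [Group G] [Finite G] {p : ℕ} [Fact p.Prime]

/-- by Cauchy `|C(P)|` is a power of `p`, so `C(P)` is a `p`-group containing `P`; `P.is_maximal'`. -/
theorem CC_eq (P : Sylow p G) (hcomm : ∀ a ∈ P, ∀ b ∈ P, a * b = b * a)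
    (hB : ∀ r : ℕ, r.Prime → r ≠ p → ∀ t ∈ CC P, orderOf t ≠ r) : CC P = (P : Subgroup G) := by
  have hle : (P : Subgroup G) ≤ CC P := by
    intro a ha
    rw [mem_centralizer_iff]
    intro b hb
    exact hcomm b hb a ha
  have hpg : IsPGroup p (CC P) := by
    rw [IsPGroup.iff_card]
    have hne : Nat.card (CC P) ≠ 0 := Nat.card_pos.ne'
    refine ⟨(Nat.card (CC P)).primeFactorsList.length, ?_⟩
    refine Nat.eq_prime_pow_of_unique_prime_dvd (p := p) hne ?_
    intro r hr hd
    by_contra hrp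
    haveI : Fact r.Prime := ⟨hr⟩
    obtain ⟨t, ht⟩ := exists_prime_orderOf_dvd_card' (G := CC P) r hd
    exact hB r hr hrp t t.2 (by rw [← ht]; exact (Subgroup.orderOf_coe t))
  exact (P.is_maximal' hpg hle)

end Cfsg.Agent.Lib.H53PCBC
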