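import Mathlib
import Cfsg.Agent.Lib.H53PCDefs
import Cfsg.Agent.Lib.H53PCCyc
import Cfsg.Agent.Lib.H53PCPInN

/-! PROJECT 4016 (row S4016), piece BK.  See notes/helper53/PC/README.md.  Other pieces are cited as `Cfsg.Agent.Lib.H53PC<Piece>.<thm>`. -/

set_option autoImplicit false

namespace Cfsg.Agent.Lib.H53PCBK

open Subgroup Cfsg.Agent.Lib.H53PCDefs

variable {G : Type*} [Group G] [Finite G] {p : ℕ} [Fact p.Prime]

/-- `K ≤ N(P) = N(⟨z⟩)` acts faithfully on `⟨z⟩`: `e ∈ K`, `e z = z e` ⇒ `e ∈ C(z) = C(P) = P` (`S.wsc`), so `e ∈ P ⊓ K = 1`.  `Cyc.card_dvd_pred`.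
`1 < |K|`: else `|N(P)| = |P|`, `N(P) = P ≤ C(P)`, against `S.nnc`. -/
theorem card_K {P : Sylow p G} {z : G} {K : Subgroup G} (S : St p P z K) (hC : CC P = (P : Subgroup G)) :
    1 < Nat.card K ∧ Nat.card K ∣ p - 1 := by
  have hp : p.Prime := Fact.out
  have z1 : z ≠ 1 := by
    intro h
    have := S.zo
    rw [h, orderOf_one] at this
    exact hp.one_lt.ne this
  constructor
  · by_contra hlt
    have hK1 : Nat.card K = 1 := by
      have : 0 < Nat.card K := Nat.card_pos
      omega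
    apply S.nnc
    have hcard : Nat.card (NN P) = Nat.card P := by rw [S.cardN, hK1, mul_one]
    have hPN : (P : Subgroup G) ≤ NN P := le_normalizer
    have heq : (P : Subgroup G) = NN P := Subgroup.eq_of_le_of_card_ge hPN (le_of_eq hcard)
    rw [hC]
    exact heq.symm.le
  · apply Cfsg.Agent.Lib.H53PCCyc.card_dvd_pred S.zo
    · rw [S.nz]; exact S.KN
    · intro e eK hez
      have h1 : e ∈ centralizer ({z} : Set G) := by
        rw [mem_centralizer_singleton_iff]; exact hez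
      rw [S.wsc z S.zP z1, hC] at h1
      exact Cfsg.Agent.Lib.H53PCPInN.eq_one_of_mem P S.Kp h1 eK

end Cfsg.Agent.Lib.H53PCBK
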