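import Mathlib

/-!
# Project NCC (S3921), piece `Autp`  (PURE MATHLIB)
No automorphism of prime order `l > p` on a small `p`-group (`p` odd).
-/

set_option autoImplicit false

namespace Cfsg.Agent.Lib.H71NccAutp

/-- the subgroup of fixed points of an automorphism. -/
def fixSub {Q : Type*} [Group Q] (β : MulAut Q) : Subgroup Q where
  carrier := {x | β x = x}
  mul_mem' := by
    intro a b ha hb
    simp only [Set.mem_setOf_eq] at *
    rw [map_mul, ha, hb]
  one_mem' := map_one β
  inv_mem' := by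
    intro a ha
    simp only [Set.mem_setOf_eq] at *
    rw [map_inv, ha]

theorem mem_fixSub {Q : Type*} [Group Q] {β : MulAut Q} {x : Q} : x ∈ fixSub β ↔ β x = x := Iff.rfl

theorem card_modEq {Q : Type*} [Group Q] [Finite Q] {l : ℕ} (hl : l.Prime) (β : MulAut Q)
    (hβ : β ^ l = 1) : Nat.card Q ≡ Nat.card (fixSub β) [MOD l] := by
  haveI : Fact l.Prime := ⟨hl⟩
  have hK : IsPGroup l (Subgroup.zpowers β) := by
    rintro ⟨g, hg⟩
    obtain ⟨i, rfl⟩ := Subgroup.mem_zpowers_iff.1 hg
    refine ⟨1, ?_⟩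
    apply Subtype.ext
    simp only [pow_one, Subgroup.coe_pow, Subgroup.coe_one]
    rw [← zpow_natCast, ← zpow_mul, mul_comm, zpow_mul, zpow_natCast, hβ, one_zpow]
  have h := hK.card_modEq_card_fixedPoints Q
  have e : Nat.card (MulAction.fixedPoints (Subgroup.zpowers β) Q) = Nat.card (fixSub β) := by
    apply Nat.card_congr
    apply Equiv.subtypeEquivRight
    intro x
    constructor
    · intro hx
      exact hx ⟨β, Subgroup.mem_zpowers β⟩
    · rintro hx ⟨g, hg⟩
      have h1 : β ∈ MulAction.stabilizer (MulAut Q) x := hx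
      have h2 : Subgroup.zpowers β ≤ MulAction.stabilizer (MulAut Q) x := by
        rw [Subgroup.zpowers_le]; exact h1
      exact h2 hg
  rwa [e] at h

theorem arith {p l i : ℕ} (hp : p.Prime) (hp2 : p ≠ 2) (hl : l.Prime) (hlt : p < l) (hi : 1 ≤ i)
    (hi2 : i ≤ 2) : ¬ l ∣ p ^ i - 1 := by
  have h2 := hp.two_le
  have h1 : ¬ l ∣ p - 1 := by
    intro h
    have := Nat.le_of_dvd (by omega) h
    omega
  interval_cases i
  · simpa using h1
  · intro h
    have e : p ^ 2 - 1 = (p - 1) * (p + 1) := by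
      obtain ⟨k, rfl⟩ : ∃ k, p = k + 1 := ⟨p - 1, by omega⟩
      simp only [Nat.add_sub_cancel]
      have : (k + 1) ^ 2 = k * (k + 1 + 1) + 1 := by ring
      rw [this, Nat.add_sub_cancel]
    rw [e] at h
    rcases (hl.dvd_mul).1 h with h | h
    · exact h1 h
    · have h3 := Nat.le_of_dvd (by omega) h
      have h4 : l = p + 1 := by omega
      rcases hp.eq_two_or_odd' with h5 | h5
      · exact hp2 h5
      · have h6 : Even l := by rw [h4]; exact h5.add_one
        have h7 := (hl.even_iff).1 h6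
        omega

theorem fix_top {Q : Type*} [Group Q] [Finite Q] {p l k j : ℕ} (hp : p.Prime) (hp2 : p ≠ 2)
    (hl : l.Prime) (hlt : p < l) (β : MulAut Q) (hβ : β ^ l = 1) (hk : Nat.card Q = p ^ k)
    (hj : Nat.card (fixSub β) = p ^ j) (hkj : k ≤ j + 2) : fixSub β = ⊤ := by
  have hdvd : p ^ j ∣ p ^ k := by
    rw [← hj, ← hk]; exact Subgroup.card_subgroup_dvd_card _
  have hjk : j ≤ k := (Nat.pow_dvd_pow_iff_le_right hp.one_lt).1 hdvd
  rcases hjk.eq_or_lt with rfl | hlt'
  · exact Subgroup.eq_top_of_card_eq _ (by rw [hj, hk])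
  · exfalso
    have h := card_modEq hl β hβ
    rw [hk, hj] at h
    have h1 : l ∣ p ^ k - p ^ j :=
      (Nat.modEq_iff_dvd' (Nat.pow_le_pow_right hp.pos hjk)).1 h.symm
    have h2 : p ^ k - p ^ j = p ^ j * (p ^ (k - j) - 1) := by
      rw [Nat.mul_sub, ← pow_add, mul_one]
      congr 2
      omega
    rw [h2] at h1
    have hcop : Nat.Coprime l (p ^ j) := by
      apply Nat.Coprime.pow_right
      rw [Nat.coprime_primes hl hp]
      omega
    exact arith hp hp2 hl hlt (by omega) (by omega) (hcop.dvd_of_dvd_mul_left h1)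

theorem map_mem_center {Q : Type*} [Group Q] (β : MulAut Q) {z : Q} (hz : z ∈ Subgroup.center Q) :
    β z ∈ Subgroup.center Q := by
  rw [Subgroup.mem_center_iff] at hz ⊢
  intro g
  have h := hz (β.symm g)
  have h2 := congrArg β h
  rw [map_mul, map_mul, MulEquiv.apply_symm_apply] at h2
  exact h2

/-- restriction of an automorphism to the centre. -/
def resC {Q : Type*} [Group Q] (β : MulAut Q) : MulAut (Subgroup.center Q) where
  toFun z := ⟨β z, map_mem_center β z.2⟩
  invFun z := ⟨β.symm z, map_mem_center (β.symm : MulAut Q) z.2⟩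
  left_inv z := by
    apply Subtype.ext
    exact β.symm_apply_apply _
  right_inv z := by
    apply Subtype.ext
    exact β.apply_symm_apply _
  map_mul' a b := by
    apply Subtype.ext
    exact map_mul β _ _

theorem resC_apply {Q : Type*} [Group Q] (β : MulAut Q) (z : Subgroup.center Q) :
    ((resC β z : Subgroup.center Q) : Q) = β z := rfl

theorem resC_pow {Q : Type*} [Group Q] (β : MulAut Q) (n : ℕ) (z : Subgroup.center Q) :
    ((((resC β) ^ n) z : Subgroup.center Q) : Q) = (β ^ n) z := by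
  induction n generalizing z with
  | zero => simp
  | succ n ih =>
    rw [pow_succ, pow_succ, MulAut.mul_apply, MulAut.mul_apply, ih, resC_apply]

theorem no_large_prime_aut {Q : Type*} [Group Q] [Finite Q] {p l : ℕ} (hp : p.Prime) (hp2 : p ≠ 2)
    (hl : l.Prime) (hlt : p < l) (β : MulAut Q) (hβ : orderOf β = l)
    (hQ : (IsCyclic Q ∧ IsPGroup p Q) ∨ Nat.card Q = p ^ 2 ∨
      (Nat.card Q = p ^ 3 ∧ ¬ IsMulCommutative Q)) : False := by
  haveI : Fact p.Prime := ⟨hp⟩
  have hβl : β ^ l = 1 := by rw [← hβ]; exact pow_orderOf_eq_one β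
  have hβ1 : β ≠ 1 := by
    rintro rfl
    rw [orderOf_one] at hβ
    exact hl.one_lt.ne hβ
  have hnt : fixSub β ≠ ⊤ := by
    intro h
    apply hβ1
    ext x
    have : x ∈ fixSub β := by rw [h]; trivial
    exact this
  have h2 := hp.two_le
  have h1 : ¬ l ∣ p - 1 := by
    intro h
    have := Nat.le_of_dvd (by omega) h
    omega
  rcases hQ with ⟨hc, hQp⟩ | hQ | ⟨hQ, hnc⟩
  · obtain ⟨k, hk⟩ := IsPGroup.iff_card.1 hQp
    have hd : l ∣ Nat.card (MulAut Q) := by rw [← hβ]; exact orderOf_dvd_natCard β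
    rw [IsCyclic.card_mulAut, hk] at hd
    rcases Nat.eq_zero_or_pos k with rfl | hk0
    · rw [pow_zero, Nat.totient_one] at hd
      exact hl.one_lt.ne' (Nat.dvd_one.1 hd)
    · rw [Nat.totient_prime_pow hp hk0] at hd
      rcases (hl.dvd_mul).1 hd with h | h
      · have := hl.dvd_of_dvd_pow h
        rw [Nat.prime_dvd_prime_iff_eq hl hp] at this
        omega
      · exact h1 h
  · obtain ⟨j, hj2, hj⟩ := (Nat.dvd_prime_pow hp).1
      (hQ ▸ Subgroup.card_subgroup_dvd_card (fixSub β))
    exact hnt (fix_top hp hp2 hl hlt β hβl hQ hj (by omega))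
  · have hQp : IsPGroup p Q := IsPGroup.of_card hQ
    haveI : Nontrivial Q := by
      rw [← Finite.one_lt_card_iff_nontrivial, hQ]
      exact Nat.one_lt_pow (by norm_num) hp.one_lt
    have hZnt := hQp.center_nontrivial
    obtain ⟨m, hm3, hm⟩ := (Nat.dvd_prime_pow hp).1
      (hQ ▸ Subgroup.card_subgroup_dvd_card (Subgroup.center Q))
    have hm3' : m ≠ 3 := by
      rintro rfl
      apply hnc
      have htop : Subgroup.center Q = ⊤ := Subgroup.eq_top_of_card_eq _ (by rw [hm, hQ])
      refine ⟨⟨fun a b => ?_⟩⟩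
      have hb : b ∈ Subgroup.center Q := by rw [htop]; trivial
      exact Subgroup.mem_center_iff.1 hb a
    have hβ' : (resC β) ^ l = 1 := by
      ext z
      rw [resC_pow, hβl]
      rfl
    obtain ⟨j', hj2', hj'⟩ := (Nat.dvd_prime_pow hp).1
      (hm ▸ Subgroup.card_subgroup_dvd_card (fixSub (resC β)))
    have htop' := fix_top hp hp2 hl hlt (resC β) hβ' hm hj' (by omega)
    have hZC : Subgroup.center Q ≤ fixSub β := by
      intro z hz
      have : (⟨z, hz⟩ : Subgroup.center Q) ∈ fixSub (resC β) := by rw [htop']; trivial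
      exact congrArg Subtype.val this
    obtain ⟨j, hj2, hj⟩ := (Nat.dvd_prime_pow hp).1
      (hQ ▸ Subgroup.card_subgroup_dvd_card (fixSub β))
    have hj0 : j ≠ 0 := by
      rintro rfl
      rw [pow_zero, Subgroup.card_eq_one] at hj
      rw [hj, le_bot_iff] at hZC
      rw [Subgroup.nontrivial_iff_ne_bot] at hZnt
      exact hZnt hZC
    exact hnt (fix_top hp hp2 hl hlt β hβl hQ hj (by omega))

end Cfsg.Agent.Lib.H71NccAutp
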