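import Mathlib
import Cfsg.Agent.Lib.H53PCDefs
import Cfsg.Agent.Lib.H71NccAutp

/-! PROJECT 4016 (row S4016), piece Fpf.  See notes/helper53/PC/README.md.  Other pieces are cited as `Cfsg.Agent.Lib.H53PC<Piece>.<thm>`. -/

set_option autoImplicit false

namespace Cfsg.Agent.Lib.H53PCFpf

open Subgroup Cfsg.Agent.Lib.H53PCDefs

variable {G : Type*} [Group G] [Finite G] {p : ℕ} [Fact p.Prime]

/-- fixed-point-free action of an element of order `p` (landed `H71NccAutp.card_modEq` may help, or `IsPGroup.card_modEq_card_fixedPoints`). -/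
theorem card_modEq_one {R : Subgroup G} {w : G} (hw : w ∈ normalizer (R : Set G)) (hwo : orderOf w = p)
    (hfix : ∀ a ∈ R, w * a = a * w → a = 1) : Nat.card R ≡ 1 [MOD p] := by
  have hp : p.Prime := Fact.out
  set β : MulAut R := R.normalizerMonoidHom ⟨w, hw⟩ with hβ
  have hβp : β ^ p = 1 := by
    rw [hβ, ← map_pow]
    have : (⟨w, hw⟩ : normalizer (R : Set G)) ^ p = 1 := by
      apply Subtype.ext
      simp only [Subgroup.coe_pow, Subgroup.coe_one]
      rw [← hwo, pow_orderOf_eq_one]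
    rw [this, map_one]
  have h1 := Cfsg.Agent.Lib.H71NccAutp.card_modEq hp β hβp
  have h2 : Nat.card (Cfsg.Agent.Lib.H71NccAutp.fixSub β) = 1 := by
    rw [Nat.card_eq_one_iff_unique]
    refine ⟨⟨?_⟩, ⟨1⟩⟩
    have key : ∀ a : Cfsg.Agent.Lib.H71NccAutp.fixSub β, a = 1 := by
      intro a
      have ha : β a.1 = a.1 := Cfsg.Agent.Lib.H71NccAutp.mem_fixSub.1 a.2
      have h3 : w * (a.1 : G) * w⁻¹ = (a.1 : G) := congrArg Subtype.val ha
      have h4 : w * (a.1 : G) = (a.1 : G) * w := by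
        calc w * (a.1 : G) = (w * (a.1 : G) * w⁻¹) * w := by group
          _ = (a.1 : G) * w := by rw [h3]
      have h5 := hfix _ a.1.2 h4
      exact Subtype.ext (Subtype.ext h5)
    intro a b
    rw [key a, key b]
  rw [h2] at h1
  exact h1

end Cfsg.Agent.Lib.H53PCFpf
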