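import Mathlib
import Cfsg.Agent.Lib.H53PCDefs
import Cfsg.Agent.Lib.H53PCBurn
import Cfsg.Agent.Lib.H53PCExistsY
import Cfsg.Agent.Lib.H53PCFpf
import Cfsg.Agent.Lib.H53PCPInN

/-! PROJECT 4016 (row S4016), piece BR.  See notes/helper53/PC/README.md.  Other pieces are cited as `Cfsg.Agent.Lib.H53PC<Piece>.<thm>`. -/

set_option autoImplicit false

namespace Cfsg.Agent.Lib.H53PCBR

open Subgroup Cfsg.Agent.Lib.H53PCDefs

variable {G : Type*} [Group G] [Finite G] {p : ℕ} [Fact p.Prime]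

/-- If `R = ⊥` trivial.  `R ≠ ⊤` (else `P` is both a `p`- and an `r`-group, `P = ⊥`).  `Burn.not_normalizer_le_centralizer` + `ExistsY.exists_y` give a `p`-element `y ≠ 1` of `N(R)`;
a power `w` of `y` has order `p`.  `g⁻¹ w g ∈ P` for some `g` (`PInN.exists_conj_mem`), `C(g⁻¹ w g) = C(P) = P` (`S.wsc`).  If `a ∈ R` commutes with `w` then `g⁻¹ a g ∈ P`, so `a` is a `p`-element and an `r`-element, `a = 1`.
`Fpf.card_modEq_one`. -/
theorem card_sylow_modEq {P : Sylow p G} {z : G} {K : Subgroup G} (S : St p P z K)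
    (hC : CC P = (P : Subgroup G)) {r : ℕ} [Fact r.Prime] (hrp : r ≠ p) (R : Sylow r G) :
    Nat.card R ≡ 1 [MOD p] := by
  have hp : p.Prime := Fact.out
  have hr : r.Prime := Fact.out
  have hpr : ¬ p ∣ r := fun h => hrp ((Nat.prime_dvd_prime_iff_eq hp hr).mp h).symm
  have hRp : ¬ p ∣ Nat.card (R : Subgroup G) := by
    obtain ⟨n, hn⟩ := IsPGroup.iff_card.mp R.2
    intro h
    have h' : p ∣ r ^ n := hn ▸ h
    exact hpr (hp.dvd_of_dvd_pow h')
  by_cases hRbot : (R : Subgroup G) = ⊥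
  · have h1 : Nat.card (R : Subgroup G) = 1 := by rw [hRbot]; simp
    show Nat.card (R : Subgroup G) ≡ 1 [MOD p]
    rw [h1]
  have hRtop : (R : Subgroup G) ≠ ⊤ := by
    intro h
    apply S.ne_bot
    rw [eq_bot_iff]
    intro a ha
    have haR : a ∈ (R : Subgroup G) := by rw [h]; exact mem_top a
    exact mem_bot.mpr (Cfsg.Agent.Lib.H53PCPInN.eq_one_of_mem P hRp ha haR)
  have hnc := Cfsg.Agent.Lib.H53PCBurn.not_normalizer_le_centralizer S.simple R hRbot hRtop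
  obtain ⟨y, yN, yC, ypC, k, yo⟩ := Cfsg.Agent.Lib.H53PCExistsY.exists_y S.pab hRp hnc
  have hk : k ≠ 0 := by
    rintro rfl
    rw [pow_zero, orderOf_eq_one_iff] at yo
    apply yC
    rw [yo]
    exact one_mem _
  obtain ⟨k', rfl⟩ := Nat.exists_eq_succ_of_ne_zero hk
  have hwo : orderOf (y ^ (p ^ k')) = p := by
    rw [orderOf_pow_of_dvd (pow_ne_zero _ hp.ne_zero)
      (by rw [yo]; exact pow_dvd_pow _ (Nat.le_succ _)), yo, pow_succ,
      Nat.mul_div_cancel_left _ (pow_pos hp.pos _)]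
  have hwN : y ^ (p ^ k') ∈ normalizer ((R : Subgroup G) : Set G) := pow_mem yN _
  generalize y ^ (p ^ k') = w at hwo hwN
  obtain ⟨g, hg⟩ := Cfsg.Agent.Lib.H53PCPInN.exists_conj_mem P (x := w) (k := 1) (by rw [hwo, pow_one])
  apply Cfsg.Agent.Lib.H53PCFpf.card_modEq_one hwN hwo
  intro a aR haw
  have w1 : g⁻¹ * w * g ≠ 1 := by
    intro h
    have e : w = g * (g⁻¹ * w * g) * g⁻¹ := by group
    rw [h] at e
    have e' : w = 1 := by rw [e]; group
    rw [e', orderOf_one] at hwo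
    exact hp.one_lt.ne hwo
  have h1 : g⁻¹ * a * g ∈ centralizer ({g⁻¹ * w * g} : Set G) := by
    rw [mem_centralizer_singleton_iff]
    calc g⁻¹ * a * g * (g⁻¹ * w * g) = g⁻¹ * (a * w) * g := by group
      _ = g⁻¹ * (w * a) * g := by rw [haw]
      _ = _ := by group
  rw [S.wsc _ hg w1, hC] at h1
  have h2 : g⁻¹ * a * g ∈ cj (R : Subgroup G) g⁻¹ := by
    have := conj_mem_cj aR g⁻¹
    rwa [inv_inv] at this
  have h3 := Cfsg.Agent.Lib.H53PCPInN.eq_one_of_mem P (K := cj (R : Subgroup G) g⁻¹) (by rw [card_cj]; exact hRp) h1 h2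
  have e : a = g * (g⁻¹ * a * g) * g⁻¹ := by group
  rw [e, h3]
  group

end Cfsg.Agent.Lib.H53PCBR
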