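import Mathlib
import Cfsg.Agent.Lib.H53PCDefs
import Cfsg.Agent.Lib.H53PCBC
import Cfsg.Agent.Lib.H53PCBK
import Cfsg.Agent.Lib.H53PCBR
import Cfsg.Agent.Lib.H53PCArithB

/-! PROJECT 4016 (row S4016), piece BFin.  See notes/helper53/PC/README.md.  Other pieces are cited as `Cfsg.Agent.Lib.H53PC<Piece>.<thm>`. -/

set_option autoImplicit false

namespace Cfsg.Agent.Lib.H53PCBFin

open Subgroup Cfsg.Agent.Lib.H53PCDefs

variable {G : Type*} [Group G] [Finite G] {p : ℕ} [Fact p.Prime]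

/-- `ArithB.final_arith` with `n = |G|`, `p^a = |P|`, `k = |K|`, `i = (NN P).index` (`≡ 1` by `card_sylow_modEq_one` + `Sylow.card_eq_index_normalizer`), `S.cardN`,
`Sylow.card_eq_multiplicity` for `|R| = r^(v_r |G|)`. -/
theorem caseB {P : Sylow p G} {z : G} {K : Subgroup G} (S : St p P z K)
    (hB : ∀ r : ℕ, r.Prime → r ≠ p → ∀ t ∈ CC P, orderOf t ≠ r) : False := by
  have hC := Cfsg.Agent.Lib.H53PCBC.CC_eq P S.comm hB
  obtain ⟨hk1, hk⟩ := Cfsg.Agent.Lib.H53PCBK.card_K S hC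
  obtain ⟨a, ha⟩ := IsPGroup.iff_card.mp P.2
  have hp : p.Prime := Fact.out
  refine Cfsg.Agent.Lib.H53PCArithB.final_arith hp (n := Nat.card G) (a := a) (k := Nat.card K)
    (i := (NN P).index) ?_ hk1 hk ?_ ?_
  · have h1 : Nat.card (NN P) = p ^ a * Nat.card K := by
      rw [S.cardN]
      congr 1
    rw [← h1, mul_comm]
    exact (Subgroup.card_mul_index _).symm
  · have h1 := card_sylow_modEq_one p G
    rw [Sylow.card_eq_index_normalizer P] at h1
    exact h1
  · intro r hr hrp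
    have : Fact r.Prime := ⟨hr⟩
    obtain ⟨R⟩ : Nonempty (Sylow r G) := inferInstance
    rw [← Sylow.card_eq_multiplicity R]
    exact Cfsg.Agent.Lib.H53PCBR.card_sylow_modEq S hC hrp R

end Cfsg.Agent.Lib.H53PCBFin
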