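import Mathlib
import Cfsg.Agent.Lib.H53PCDefs
import Cfsg.Agent.Lib.H53PCExistsAD
import Cfsg.Agent.Lib.H53PCADvd
import Cfsg.Agent.Lib.H53PCA1Fin
import Cfsg.Agent.Lib.H53PCArithA

/-! PROJECT 4016 (row S4016), piece CaseA.  See notes/helper53/PC/README.md.  Other pieces are cited as `Cfsg.Agent.Lib.H53PC<Piece>.<thm>`. -/

set_option autoImplicit false

namespace Cfsg.Agent.Lib.H53PCCaseA

open Subgroup Cfsg.Agent.Lib.H53PCDefs

variable {G : Type*} [Group G] [Finite G] {p : ℕ} [Fact p.Prime]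

/-- take a Sylow `r`-subgroup `R ∋ t` (`IsPGroup.exists_le_sylow` for `zpowers t`), `ExistsAD`, `ADvd`, `A1Fin`, `ArithA`. -/
theorem caseA {P : Sylow p G} {z : G} {K : Subgroup G} (S : St p P z K) {r : ℕ} [Fact r.Prime]
    (hrp : r ≠ p) {t : G} (tC : t ∈ CC P) (tord : orderOf t = r) : p = 3 ∧ r = 2 := by
  have hpg : IsPGroup r (zpowers t) := by
    apply IsPGroup.of_card (n := 1)
    rw [Nat.card_zpowers, tord, pow_one]
  obtain ⟨R, hR⟩ := hpg.exists_le_sylow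
  have tR : t ∈ R := hR (mem_zpowers t)
  obtain ⟨y, D⟩ := Cfsg.Agent.Lib.H53PCExistsAD.exists_AD S hrp tC tord R tR
  exact Cfsg.Agent.Lib.H53PCArithA.three_two (Fact.out) (Fact.out)
    (Cfsg.Agent.Lib.H53PCADvd.r_dvd S hrp D) (Cfsg.Agent.Lib.H53PCA1Fin.p_le S hrp D)

end Cfsg.Agent.Lib.H53PCCaseA
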