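import Mathlib
import Cfsg.Agent.Lib.H53PCDefs

/-! PROJECT 4016 (row S4016), piece Simple.  See notes/helper53/PC/README.md.  Other pieces are cited as `Cfsg.Agent.Lib.H53PC<Piece>.<thm>`. -/

set_option autoImplicit false

namespace Cfsg.Agent.Lib.H53PCSimple

open Subgroup Cfsg.Agent.Lib.H53PCDefs

variable {G : Type*} [Group G] [Finite G] {p : ℕ} [Fact p.Prime]

theorem normalizer_ne_top (hs : IsSimpleGroup G) {H : Subgroup G} (h1 : H ≠ ⊥) (h2 : H ≠ ⊤) :
    normalizer (H : Set G) ≠ ⊤ := by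
  intro h
  have hn : H.Normal := Subgroup.normalizer_eq_top_iff.1 h
  rcases hs.eq_bot_or_eq_top_of_normal H hn with h3 | h3
  · exact h1 h3
  · exact h2 h3

/-- else `t ∈ Z(G)`, `Z(G) = ⊤`, `G` commutative. -/
theorem centralizer_ne_top (hs : IsSimpleGroup G) {a b : G} (hab : a * b ≠ b * a) {t : G} (ht : t ≠ 1) :
    centralizer ({t} : Set G) ≠ ⊤ := by
  intro h
  have htc : t ∈ center G := by
    rw [Subgroup.mem_center_iff]
    intro g
    have hg : g ∈ centralizer ({t} : Set G) := h ▸ Subgroup.mem_top g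
    exact (Subgroup.mem_centralizer_singleton_iff.1 hg)
  rcases hs.eq_bot_or_eq_top_of_normal (center G) inferInstance with h3 | h3
  · rw [h3, Subgroup.mem_bot] at htc
    exact ht htc
  · have ha : a ∈ center G := h3 ▸ Subgroup.mem_top a
    exact hab ((Subgroup.mem_center_iff.1 ha b).symm)

/-- (`nnc` gives two non-commuting elements) -/
theorem centralizer_ne_top' {P : Sylow p G} (M : MC p P) {t : G} (ht : t ≠ 1) :
    centralizer ({t} : Set G) ≠ ⊤ := by
  have hn := M.nnc
  rw [SetLike.not_le_iff_exists] at hn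
  obtain ⟨n, hnN, hnC⟩ := hn
  rw [Subgroup.mem_centralizer_iff] at hnC
  push Not at hnC
  obtain ⟨a, -, ha⟩ := hnC
  exact centralizer_ne_top M.simple ha ht

end Cfsg.Agent.Lib.H53PCSimple
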