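import Mathlib
import Cfsg.Agent.Lib.H53PCDefs
import Cfsg.Agent.Lib.H53PCSimple

/-! PROJECT 4016 (row S4016), piece Cent.  See notes/helper53/PC/README.md.  Other pieces are cited as `Cfsg.Agent.Lib.H53PC<Piece>.<thm>`. -/

set_option autoImplicit false

namespace Cfsg.Agent.Lib.H53PCCent

open Subgroup Cfsg.Agent.Lib.H53PCDefs

variable {G : Type*} [Group G] [Finite G] {p : ℕ} [Fact p.Prime]

/-- `N(P) ≤ C(t)`: `n = u k`, `u ∈ P` commutes with `t ∈ C(P)`; `t ∈ K` (`memK`) and `K` is commutative (`M.pab K Kp`).  `C(t) ≠ ⊤` by `Simple.centralizer_ne_top'`.  Then `maxN`. -/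
theorem cent {P : Sylow p G} (M : MC p P) {K : Subgroup G}
    (maxN : ∀ H : Subgroup G, H ≠ ⊤ → NN P ≤ H → H = NN P) (Kp : ¬ p ∣ Nat.card K)
    (fac : ∀ n ∈ NN P, ∃ u ∈ P, ∃ k ∈ K, n = u * k)
    (memK : ∀ t ∈ CC P, ¬ p ∣ orderOf t → t ∈ K) :
    ∀ t ∈ CC P, t ≠ 1 → ¬ p ∣ orderOf t → centralizer ({t} : Set G) = NN P := by
  intro t tC t1 tp
  apply maxN
  · exact Cfsg.Agent.Lib.H53PCSimple.centralizer_ne_top' M t1
  · intro n hn
    obtain ⟨u, hu, k, hk, rfl⟩ := fac n hn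
    have h1 : u * t = t * u := mem_centralizer_iff.mp tC u hu
    have h2 : k * t = t * k := M.pab K Kp k hk t (memK t tC tp)
    have h3 : u * k * t = t * (u * k) := by
      rw [mul_assoc, h2, ← mul_assoc, h1, mul_assoc]
    rw [mem_centralizer_singleton_iff]
    exact h3

end Cfsg.Agent.Lib.H53PCCent
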