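import Mathlib
import Cfsg.Agent.Lib.H53PCDefs

/-! PROJECT 4016 (row S4016), piece CharP.  See notes/helper53/PC/README.md.  Other pieces are cited as `Cfsg.Agent.Lib.H53PC<Piece>.<thm>`. -/

set_option autoImplicit false

namespace Cfsg.Agent.Lib.H53PCCharP

open Subgroup Cfsg.Agent.Lib.H53PCDefs

variable {G : Type*} [Group G] [Finite G] {p : ℕ} [Fact p.Prime]

/-- `P ⊔ M ≤ N(P)`; for `g : G`, `g P g⁻¹ ≤ P ⊔ M ≤ N(P)` is a `p`-group, so `g P g⁻¹ ≤ P` (`IsPGroup.inf_normalizer_sylow`). -/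
theorem normal_of_centralizes (P : Sylow p G) (M : Subgroup G) (hn : ((P : Subgroup G) ⊔ M).Normal)
    (hc : ∀ a ∈ P, ∀ m ∈ M, a * m = m * a) : (P : Subgroup G).Normal := by
  have hle : (P : Subgroup G) ⊔ M ≤ normalizer ((P : Subgroup G) : Set G) := by
    apply sup_le Subgroup.le_normalizer
    intro m hm
    rw [Subgroup.mem_normalizer_iff]
    intro x
    constructor
    · intro hx
      have : m * x * m⁻¹ = x := by rw [← hc x hx m hm]; group
      rwa [this]
    · intro hx
      have h1 := hc _ hx m hm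
      have h2 : x = m * x * m⁻¹ := by
        have : m * x = m * (m * x * m⁻¹) := by rw [← h1]; group
        exact mul_left_cancel this
      rw [h2]; exact hx
  constructor
  intro a ha g
  have hQ : IsPGroup p ((P : Subgroup G).map (MulAut.conj g).toMonoidHom) := P.2.map _
  have hQN : (P : Subgroup G).map (MulAut.conj g).toMonoidHom ≤ normalizer ((P : Subgroup G) : Set G) := by
    rintro _ ⟨b, hb, rfl⟩
    apply hle
    exact hn.conj_mem b (Subgroup.mem_sup_left hb) g
  have h1 := hQ.inf_normalizer_sylow P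
  have h2 : g * a * g⁻¹ ∈ (P : Subgroup G).map (MulAut.conj g).toMonoidHom ⊓
      normalizer ((P : Subgroup G) : Set G) := ⟨⟨a, ha, rfl⟩, hQN ⟨a, ha, rfl⟩⟩
  have h3 : g * a * g⁻¹ ∈ (P : Subgroup G).map (MulAut.conj g).toMonoidHom ⊓ (P : Subgroup G) := h1 ▸ h2
  exact h3.2

end Cfsg.Agent.Lib.H53PCCharP
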