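import Mathlib
import Cfsg.Agent.Lib.H53PCDefs

/-! PROJECT 4016 (row S4016), piece ConclN.  See notes/helper53/PC/README.md.  Other pieces are cited as `Cfsg.Agent.Lib.H53PC<Piece>.<thm>`. -/

set_option autoImplicit false
set_option linter.unusedSectionVars false

namespace Cfsg.Agent.Lib.H53PCConclN

open Subgroup Cfsg.Agent.Lib.H53PCDefs

variable {G : Type*} [Group G] [Finite G] {p : ℕ} [Fact p.Prime]

/-- a normal Sylow subgroup is the only one. -/
theorem concl_of_normal (P : Sylow p G) (h : (P : Subgroup G).Normal) : Concl p G := by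
  right
  intro Q
  have : Unique (Sylow p G) := Sylow.unique_of_normal P h
  rw [Subsingleton.elim Q P]
  exact h

end Cfsg.Agent.Lib.H53PCConclN
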