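import Mathlib
import Cfsg.Agent.Lib.H53PCDefs

/-! PROJECT 4016 (row S4016), piece ExistsZ.  See notes/helper53/PC/README.md.  Other pieces are cited as `Cfsg.Agent.Lib.H53PC<Piece>.<thm>`. -/

set_option autoImplicit false

namespace Cfsg.Agent.Lib.H53PCExistsZ

open Subgroup Cfsg.Agent.Lib.H53PCDefs

variable {G : Type*} [Group G] [Finite G] {p : ℕ} [Fact p.Prime]

/-- a nontrivial cyclic `p`-group has a unique minimal subgroup. -/
theorem exists_z (P : Sylow p G) (hcyc : IsCyclic (P : Subgroup G)) (hne : (P : Subgroup G) ≠ ⊥) :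
    ∃ z ∈ P, orderOf z = p ∧ ∀ Q : Subgroup G, Q ≤ P → Q ≠ ⊥ → z ∈ Q := by
  classical
  have hp : p.Prime := Fact.out
  have cauchy : ∀ Q : Subgroup G, Q ≤ P → Q ≠ ⊥ → ∃ y ∈ Q, orderOf y = p := by
    intro Q hQP hQ
    have hQp : IsPGroup p Q := P.2.to_le hQP
    have hnt : Nontrivial Q := (Subgroup.nontrivial_iff_ne_bot Q).2 hQ
    obtain ⟨n, hn0, hn⟩ := hQp.nontrivial_iff_card.1 hnt
    have hdvd : p ∣ Nat.card Q := by rw [hn]; exact dvd_pow_self p hn0.ne'
    obtain ⟨y, hy⟩ := exists_prime_orderOf_dvd_card' p hdvd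
    exact ⟨y.1, y.2, by rw [← hy, Subgroup.orderOf_coe]⟩
  obtain ⟨z, hzP, hzo⟩ := cauchy P le_rfl hne
  refine ⟨z, hzP, hzo, ?_⟩
  intro Q hQP hQ
  obtain ⟨y, hyQ, hyo⟩ := cauchy Q hQP hQ
  haveI : Fintype (P : Subgroup G) := Fintype.ofFinite _
  haveI := hcyc
  set z' : (P : Subgroup G) := ⟨z, hzP⟩ with hz'
  set y' : (P : Subgroup G) := ⟨y, hQP hyQ⟩ with hy'
  have hy'o : orderOf y' = p := by rw [hy', Subgroup.orderOf_mk, hyo]
  have hz'o : orderOf z' = p := by rw [hz', Subgroup.orderOf_mk, hzo]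
  have hle := IsCyclic.card_pow_eq_one_le (α := (P : Subgroup G)) hp.pos
  have hsub : ((zpowers y' : Subgroup (P : Subgroup G)) : Set (P : Subgroup G)).toFinset ⊆
      Finset.univ.filter (fun a : (P : Subgroup G) => a ^ p = 1) := by
    intro a ha
    rw [Set.mem_toFinset] at ha
    obtain ⟨k, rfl⟩ := mem_zpowers_iff.1 ha
    rw [Finset.mem_filter]
    refine ⟨Finset.mem_univ _, ?_⟩
    have hyp : y' ^ p = 1 := by
      have := pow_orderOf_eq_one y'
      rwa [hy'o] at this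
    rw [← zpow_natCast, ← zpow_mul, mul_comm, zpow_mul, zpow_natCast, hyp, one_zpow]
  have hcard : (((zpowers y' : Subgroup (P : Subgroup G)) : Set (P : Subgroup G)).toFinset).card = p := by
    rw [Set.toFinset_card, ← Nat.card_eq_fintype_card]
    exact (Nat.card_zpowers y').trans hy'o
  have heq := Finset.eq_of_subset_of_card_le hsub (by rw [hcard]; exact hle)
  have hzmem : z' ∈ Finset.univ.filter (fun a : (P : Subgroup G) => a ^ p = 1) := by
    rw [Finset.mem_filter]
    exact ⟨Finset.mem_univ _, by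
      have := pow_orderOf_eq_one z'
      rwa [hz'o] at this⟩
  rw [← heq, Set.mem_toFinset] at hzmem
  obtain ⟨k, hk⟩ := mem_zpowers_iff.1 hzmem
  have hk' : y ^ k = z := by
    have := congrArg Subtype.val hk
    simpa [hy', hz'] using this
  rw [← hk']
  exact Q.zpow_mem hyQ k

end Cfsg.Agent.Lib.H53PCExistsZ
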