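import Mathlib
import Cfsg.Agent.Lib.H53PCDefs

/-! PROJECT 4016 (row S4016), piece PClosedCase.  See notes/helper53/PC/README.md.  Other pieces are cited as `Cfsg.Agent.Lib.H53PC<Piece>.<thm>`. -/

set_option autoImplicit false

namespace Cfsg.Agent.Lib.H53PCPClosedCase

open Subgroup Cfsg.Agent.Lib.H53PCDefs

variable {G : Type*} [Group G] [Finite G] {p : ℕ} [Fact p.Prime]

/-- `P ≤ H` and `H` has a normal Sylow `p`-subgroup `Q`.  Then `Q = P`, so `H ≤ N_G(P)`.
Proof: `P ⊔ Q` is a `p`-group (`IsPGroup.to_sup_of_normal_right'`), so `Q ≤ P` by maximality (`P.is_maximal'`); `|P| ∣ |H| = |Q| m`, `p ∤ m` gives `|P| ∣ |Q|`; so `Q = P`. -/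
theorem pclosed_case (P : Sylow p G) {H : Subgroup G} (hPH : (P : Subgroup G) ≤ H) (h : PClosed p H) :
    H ≤ NN P := by
  obtain ⟨Q, hQH, hHQ, hQp, m, hm, hcard⟩ := h
  have hp : p.Prime := Fact.out
  have hsup : IsPGroup p (((P : Subgroup G) ⊔ Q : Subgroup G)) :=
    IsPGroup.to_sup_of_normal_right' P.2 hQp (hPH.trans hHQ)
  have h1 : (P : Subgroup G) ⊔ Q = P := P.is_maximal' hsup le_sup_left
  have hQP : Q ≤ P := by rw [← h1]; exact le_sup_right
  obtain ⟨a, ha⟩ := IsPGroup.iff_card.1 P.2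
  have hdvd : Nat.card (P : Subgroup G) ∣ Nat.card Q * m := by
    rw [← hcard]; exact Subgroup.card_dvd_of_le hPH
  have hcop : (Nat.card (P : Subgroup G)).Coprime m := by
    rw [ha]
    exact Nat.Coprime.pow_left _ ((Nat.Prime.coprime_iff_not_dvd hp).2 hm)
  have hdvd2 : Nat.card (P : Subgroup G) ∣ Nat.card Q := hcop.dvd_of_dvd_mul_right hdvd
  have heq : Q = P := Subgroup.eq_of_le_of_card_ge hQP (Nat.le_of_dvd Nat.card_pos hdvd2)
  rw [heq] at hHQ
  exact hHQ

end Cfsg.Agent.Lib.H53PCPClosedCase
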