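import Mathlib
import Cfsg.Agent.Lib.H53PCDefs

/-! PROJECT 4016 (row S4016), piece PNilCase.  See notes/helper53/PC/README.md.  Other pieces are cited as `Cfsg.Agent.Lib.H53PC<Piece>.<thm>`. -/

set_option autoImplicit false

namespace Cfsg.Agent.Lib.H53PCPNilCase

open Subgroup Cfsg.Agent.Lib.H53PCDefs

variable {G : Type*} [Group G] [Finite G] {p : ℕ} [Fact p.Prime]

/-- `P ≤ H`, `H = T ⋊ (p-group)` with `T` a normal `p'`-subgroup of `H`.  Then `N_H(P) ≤ C_G(P)`.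
Proof: `|P| = p^k` (P is Sylow in G, `|P| ∣ |H| = |T| p^k`, `p^k ∣ |G|`), `T ⊓ P = ⊥`, so `H = T P` by counting.  For `n ∈ H ⊓ N(P)` write `n = t u`
(`t ∈ T, u ∈ P`); `t = n u⁻¹ ∈ N(P)`, and for `a ∈ P`: `t a t⁻¹ a⁻¹ ∈ P` (t normalizes P) and `∈ T` (a ∈ H normalizes T), so it is 1. -/
theorem pnil_case (P : Sylow p G) (hcomm : ∀ a ∈ P, ∀ b ∈ P, a * b = b * a) {H : Subgroup G}
    (hPH : (P : Subgroup G) ≤ H) (h : PNil p H) : H ⊓ NN P ≤ CC P := by
  classical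
  obtain ⟨T, hTH, hHT, hTp, k, hcard⟩ := h
  have hp : p.Prime := Fact.out
  obtain ⟨j, hj⟩ := IsPGroup.iff_card.1 P.2
  have hcopT : ∀ i : ℕ, (p ^ i).Coprime (Nat.card T) := fun i =>
    Nat.Coprime.pow_left _ ((Nat.Prime.coprime_iff_not_dvd hp).2 hTp)
  -- |P| = p^k
  have hjk : j ≤ k := by
    have h1 : p ^ j ∣ Nat.card T * p ^ k := by
      rw [← hj, ← hcard]; exact Subgroup.card_dvd_of_le hPH
    have h2 : p ^ j ∣ p ^ k := (hcopT j).dvd_of_dvd_mul_left h1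
    exact (Nat.pow_dvd_pow_iff_le_right hp.one_lt).1 h2
  have hkj : k ≤ j := by
    have h1 : p ^ k ∣ Nat.card G :=
      (Dvd.intro_left _ hcard.symm).trans (Subgroup.card_subgroup_dvd_card H)
    have h2 : Nat.card (P : Subgroup G) = p ^ (Nat.card G).factorization p := P.card_eq_multiplicity
    have h3 : k ≤ (Nat.card G).factorization p :=
      (Nat.Prime.pow_dvd_iff_le_factorization hp Nat.card_pos.ne').1 h1
    rw [hj] at h2
    have := Nat.pow_right_injective hp.two_le h2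
    omega
  have hjk' : j = k := le_antisymm hjk hkj
  have hdisj : ∀ x : G, x ∈ T → x ∈ (P : Subgroup G) → x = 1 := by
    intro x hxT hxP
    have hd : Disjoint T (P : Subgroup G) := by
      apply Subgroup.disjoint_of_coprime_natCard
      rw [hj]; exact (hcopT j).symm
    have : x ∈ T ⊓ (P : Subgroup G) := ⟨hxT, hxP⟩
    rw [disjoint_iff.1 hd] at this
    exact Subgroup.mem_bot.1 this
  let f : T × (P : Subgroup G) → H := fun x => ⟨x.1.1 * x.2.1, H.mul_mem (hTH x.1.2) (hPH x.2.2)⟩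
  have hinj : Function.Injective f := by
    rintro ⟨⟨t1, ht1⟩, ⟨u1, hu1⟩⟩ ⟨⟨t2, ht2⟩, ⟨u2, hu2⟩⟩ h12
    have h1 : t1 * u1 = t2 * u2 := congrArg Subtype.val h12
    have h2 : t2⁻¹ * t1 = u2 * u1⁻¹ := by
      calc t2⁻¹ * t1 = t2⁻¹ * (t1 * u1) * u1⁻¹ := by group
        _ = t2⁻¹ * (t2 * u2) * u1⁻¹ := by rw [h1]
        _ = u2 * u1⁻¹ := by group
    have h3 : t2⁻¹ * t1 = 1 := hdisj _ (T.mul_mem (T.inv_mem ht2) ht1)
      (by rw [h2]; exact (P : Subgroup G).mul_mem hu2 ((P : Subgroup G).inv_mem hu1))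
    have h4 : t1 = t2 := (inv_mul_eq_one.1 h3).symm
    subst h4
    have h5 : u1 = u2 := mul_left_cancel h1
    subst h5
    rfl
  have hbij : Function.Bijective f := by
    rw [Nat.bijective_iff_injective_and_card]
    refine ⟨hinj, ?_⟩
    rw [Nat.card_prod, hcard, hj, hjk']
  intro n hn
  obtain ⟨hnH, hnN⟩ := hn
  obtain ⟨⟨⟨t, ht⟩, ⟨u, hu⟩⟩, htu⟩ := hbij.2 ⟨n, hnH⟩
  have hn_eq : t * u = n := congrArg Subtype.val htu
  have htN : t ∈ NN P := by
    have : t = n * u⁻¹ := by rw [← hn_eq]; group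
    rw [this]
    exact (NN P).mul_mem hnN ((NN P).inv_mem (Subgroup.le_normalizer hu))
  have htc : ∀ a ∈ (P : Subgroup G), t * a = a * t := by
    intro a ha
    have h1 : t * a * t⁻¹ * a⁻¹ ∈ (P : Subgroup G) :=
      (P : Subgroup G).mul_mem ((Subgroup.mem_normalizer_iff.1 htN a).1 ha) ((P : Subgroup G).inv_mem ha)
    have h2 : t * a * t⁻¹ * a⁻¹ ∈ T := by
      have h3 : a * t⁻¹ * a⁻¹ ∈ T :=
        (Subgroup.mem_normalizer_iff.1 (hHT (hPH ha)) t⁻¹).1 (T.inv_mem ht)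
      have h4 : t * a * t⁻¹ * a⁻¹ = t * (a * t⁻¹ * a⁻¹) := by group
      rw [h4]
      exact T.mul_mem ht h3
    have h5 := hdisj _ h2 h1
    calc t * a = (t * a * t⁻¹ * a⁻¹) * (a * t) := by group
      _ = a * t := by rw [h5, one_mul]
  rw [Subgroup.mem_centralizer_iff]
  intro a ha
  rw [← hn_eq]
  calc a * (t * u) = (a * t) * u := by group
    _ = (t * a) * u := by rw [htc a ha]
    _ = t * (a * u) := by group
    _ = t * (u * a) := by rw [hcomm a ha u hu]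
    _ = t * u * a := by group

end Cfsg.Agent.Lib.H53PCPNilCase
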