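import Mathlib
import Cfsg.Agent.Lib.H53PCDefs
import Cfsg.Agent.Lib.H53PCPNilCase
import Cfsg.Agent.Lib.H53PCPClosedCase

/-! PROJECT 4016 (row S4016), piece MaxN.  See notes/helper53/PC/README.md.  Other pieces are cited as `Cfsg.Agent.Lib.H53PC<Piece>.<thm>`. -/

set_option autoImplicit false

namespace Cfsg.Agent.Lib.H53PCMaxN

open Subgroup Cfsg.Agent.Lib.H53PCDefs

variable {G : Type*} [Group G] [Finite G] {p : ℕ} [Fact p.Prime]

/-- `N_G(P)` is a maximal subgroup.  `H` proper, `N(P) ≤ H`: by `M.sub`, `H` is `PNil` (then `N(P) = H ⊓ N(P) ≤ C(P)` by `PNilCase.pnil_case`, against `M.nnc`)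
or `PClosed` (then `H ≤ N(P)` by `PClosedCase.pclosed_case`).  (`P ≤ N(P) ≤ H`.) -/
theorem maxN {P : Sylow p G} (M : MC p P) (hcomm : ∀ a ∈ P, ∀ b ∈ P, a * b = b * a) :
    ∀ H : Subgroup G, H ≠ ⊤ → NN P ≤ H → H = NN P := by
  intro H hH hNH
  have hPH : (P : Subgroup G) ≤ H := le_trans le_normalizer hNH
  rcases M.sub H hH with h | h
  · exfalso
    apply M.nnc
    have := Cfsg.Agent.Lib.H53PCPNilCase.pnil_case P hcomm hPH h
    exact le_trans (le_inf hNH le_rfl) this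
  · exact le_antisymm (Cfsg.Agent.Lib.H53PCPClosedCase.pclosed_case P hPH h) hNH

end Cfsg.Agent.Lib.H53PCMaxN
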