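import Mathlib
import Cfsg.Agent.Lib.H53PCDefs

/-! PROJECT 4016 (row S4016), piece MemK.  See notes/helper53/PC/README.md.  Other pieces are cited as `Cfsg.Agent.Lib.H53PC<Piece>.<thm>`. -/

set_option autoImplicit false

namespace Cfsg.Agent.Lib.H53PCMemK

open Subgroup Cfsg.Agent.Lib.H53PCDefs

variable {G : Type*} [Group G] [Finite G] {p : ℕ} [Fact p.Prime]

/-- `t = u k ∈ C(P)`; `k = u⁻¹ t ∈ C(P)` commutes with `u`; with `m = orderOf t`: `1 = u^m k^m`, so `u^m = (k^m)⁻¹ ∈ P ⊓ K = 1`, so `orderOf u ∣ m` is prime to `p`, so `u = 1`. -/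
theorem memK (P : Sylow p G) (hcomm : ∀ a ∈ P, ∀ b ∈ P, a * b = b * a) {K : Subgroup G}
    (Kp : ¬ p ∣ Nat.card K) (fac : ∀ n ∈ NN P, ∃ u ∈ P, ∃ k ∈ K, n = u * k) :
    ∀ t ∈ CC P, ¬ p ∣ orderOf t → t ∈ K := by
  intro t ht hpt
  have hp : p.Prime := Fact.out
  have htN : t ∈ NN P := Subgroup.centralizer_le_normalizer _ ht
  obtain ⟨u, hu, k, hk, rfl⟩ := fac t htN
  have hcu : u * (u * k) = (u * k) * u := (Subgroup.mem_centralizer_iff.1 ht u hu)
  have hcomm' : Commute u k := by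
    have : u * (u * k) = u * (k * u) := by rw [hcu]; group
    exact mul_left_cancel this
  set m := orderOf (u * k) with hm
  have h1 : u ^ m * k ^ m = 1 := by
    rw [← hcomm'.mul_pow, hm, pow_orderOf_eq_one]
  have h2 : u ^ m = (k ^ m)⁻¹ := eq_inv_of_mul_eq_one_left h1
  have huK : u ^ m ∈ K := by rw [h2]; exact K.inv_mem (K.pow_mem hk m)
  have huP : u ^ m ∈ (P : Subgroup G) := (P : Subgroup G).pow_mem hu m
  have key : ∀ x : G, x ∈ (P : Subgroup G) → (¬ p ∣ orderOf x) → x = 1 := by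
    intro x hxP hx
    obtain ⟨j, hj⟩ := P.2 ⟨x, hxP⟩
    have hj' : x ^ p ^ j = 1 := by
      have := congrArg Subtype.val hj
      simpa using this
    obtain ⟨i, -, hi⟩ := (Nat.dvd_prime_pow hp).1 (orderOf_dvd_of_pow_eq_one hj')
    cases i with
    | zero => rw [pow_zero] at hi; exact orderOf_eq_one_iff.1 hi
    | succ i => exact absurd (hi ▸ dvd_pow_self p (Nat.succ_ne_zero i)) hx
  have hum : u ^ m = 1 := by
    apply key _ huP
    intro hdvd
    apply Kp
    have : orderOf (u ^ m) ∣ Nat.card K := by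
      have h3 := orderOf_dvd_natCard (⟨u ^ m, huK⟩ : K)
      rwa [Subgroup.orderOf_mk] at h3
    exact hdvd.trans this
  have hu1 : u = 1 := by
    apply key u hu
    intro hdvd
    exact hpt (hdvd.trans (orderOf_dvd_of_pow_eq_one hum))
  rw [hu1, one_mul]
  exact hk

end Cfsg.Agent.Lib.H53PCMemK
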