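import Mathlib
import Cfsg.Agent.Lib.H53PCDefs
import Cfsg.Agent.Lib.H53PCNormZ
import Cfsg.Agent.Lib.H53PCSimple

/-! PROJECT 4016 (row S4016), piece NzTi.  See notes/helper53/PC/README.md.  Other pieces are cited as `Cfsg.Agent.Lib.H53PC<Piece>.<thm>`. -/

set_option autoImplicit false

namespace Cfsg.Agent.Lib.H53PCNzTi

open Subgroup Cfsg.Agent.Lib.H53PCDefs

variable {G : Type*} [Group G] [Finite G] {p : ℕ} [Fact p.Prime]

/-- `N(P) ≤ N(⟨z⟩)` by `NormZ` (for `n ∈ N(P)`: `n⁻¹ z n ∈ P`); `N(⟨z⟩) ≠ ⊤` by `Simple.normalizer_ne_top` (`⟨z⟩ ≠ ⊥`; `⟨z⟩ ≠ ⊤` since `⟨z⟩ ≤ P ≠ ⊤`); then `maxN`. -/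
theorem nz {P : Sylow p G} (M : MC p P) {z : G} (zP : z ∈ P) (zo : orderOf z = p)
    (zmin : ∀ Q : Subgroup G, Q ≤ P → Q ≠ ⊥ → z ∈ Q)
    (maxN : ∀ H : Subgroup G, H ≠ ⊤ → NN P ≤ H → H = NN P) :
    normalizer ((zpowers z : Subgroup G) : Set G) = NN P := by
  apply maxN
  · apply Cfsg.Agent.Lib.H53PCSimple.normalizer_ne_top M.simple
    · intro h
      rw [zpowers_eq_bot] at h
      rw [h, orderOf_one] at zo
      exact (Fact.out : p.Prime).one_lt.ne zo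
    · intro h
      apply M.ne_top
      rw [eq_top_iff, ← h]
      exact (zpowers_le).mpr zP
  · intro n hn
    apply Cfsg.Agent.Lib.H53PCNormZ.mem_normalizer_zpowers P zo zmin
    have := (mem_normalizer_iff.mp (inv_mem hn) z).mp zP
    rw [inv_inv] at this
    exact this

/-- `z ∈ P ⊓ cj P g` by `zmin`, so `g⁻¹ z g ∈ P` (`mem_cj`), so `g ∈ N(⟨z⟩) = N(P)` by `NormZ`. -/
theorem ti (P : Sylow p G) {z : G} (zo : orderOf z = p)
    (zmin : ∀ Q : Subgroup G, Q ≤ P → Q ≠ ⊥ → z ∈ Q)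
    (nz : normalizer ((zpowers z : Subgroup G) : Set G) = NN P) :
    ∀ g : G, (P : Subgroup G) ⊓ cj (P : Subgroup G) g ≠ ⊥ → g ∈ NN P := by
  intro g hg
  have hz : z ∈ (P : Subgroup G) ⊓ cj (P : Subgroup G) g := zmin _ inf_le_left hg
  have h2 : g⁻¹ * z * g ∈ (P : Subgroup G) := mem_cj.mp hz.2
  rw [← nz]
  exact Cfsg.Agent.Lib.H53PCNormZ.mem_normalizer_zpowers P zo zmin h2

end Cfsg.Agent.Lib.H53PCNzTi
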