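import Mathlib
import Cfsg.Agent.Lib.H53PCDefs

/-! PROJECT 4016 (row S4016), piece SZ.  See notes/helper53/PC/README.md.  Other pieces are cited as `Cfsg.Agent.Lib.H53PC<Piece>.<thm>`. -/

set_option autoImplicit false

namespace Cfsg.Agent.Lib.H53PCSZ

open Subgroup Cfsg.Agent.Lib.H53PCDefs

variable {G : Type*} [Group G] [Finite G] {p : ℕ} [Fact p.Prime]

/-- Schur–Zassenhaus in `N_G(P)` (Mathlib `Subgroup.exists_right_complement'_of_coprime` / `exists_left_complement'_of_coprime` applied to `P.subgroupOf (NN P)`, then map to `G`). -/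
theorem exists_compl (P : Sylow p G) : ∃ K : Subgroup G, K ≤ NN P ∧ ¬ p ∣ Nat.card K ∧
    Nat.card (NN P) = Nat.card P * Nat.card K ∧ ∀ n ∈ NN P, ∃ u ∈ P, ∃ k ∈ K, n = u * k := by
  classical
  have hp : p.Prime := Fact.out
  set N : Subgroup (NN P) := (P : Subgroup G).subgroupOf (NN P) with hN
  haveI : N.Normal := Subgroup.normal_in_normalizer
  have hPN : (P : Subgroup G) ≤ NN P := Subgroup.le_normalizer
  have hcardN : Nat.card N = Nat.card (P : Subgroup G) :=
    Nat.card_congr (Subgroup.subgroupOfEquivOfLe hPN).toEquiv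
  have hidx : ¬ p ∣ N.index := by
    intro hd
    have h1 : N.index = (P : Subgroup G).relIndex (NN P) := rfl
    rw [h1] at hd
    exact P.not_dvd_index (hd.trans (Subgroup.relIndex_dvd_index_of_le hPN))
  have hcop : Nat.Coprime (Nat.card N) N.index := by
    obtain ⟨a, ha⟩ := IsPGroup.iff_card.1 P.2
    rw [hcardN, ha]
    exact Nat.Coprime.pow_left _ ((Nat.Prime.coprime_iff_not_dvd hp).2 hidx)
  obtain ⟨H, hH⟩ := Subgroup.exists_right_complement'_of_coprime hcop
  have hcardH : Nat.card H = N.index := by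
    have h1 := hH.card_mul
    have h2 := N.card_mul_index
    rw [← h2] at h1
    exact Nat.eq_of_mul_eq_mul_left Nat.card_pos h1
  have hcardK : Nat.card (H.map (NN P).subtype) = Nat.card H :=
    Nat.card_congr (H.equivMapOfInjective _ (Subgroup.subtype_injective _)).toEquiv.symm
  refine ⟨H.map (NN P).subtype, ?_, ?_, ?_, ?_⟩
  · rintro x ⟨y, -, rfl⟩
    exact y.2
  · rw [hcardK, hcardH]; exact hidx
  · rw [hcardK, ← hcardN]; exact hH.card_mul.symm
  · intro n hn
    obtain ⟨x, hx, -⟩ := (Subgroup.isComplement_iff_existsUnique.1 hH) ⟨n, hn⟩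
    refine ⟨((x.1 : NN P) : G), ?_, ((x.2 : NN P) : G), ?_, ?_⟩
    · exact Subgroup.mem_subgroupOf.1 x.1.2
    · exact ⟨x.2.1, x.2.2, rfl⟩
    · have := congrArg Subtype.val hx
      simpa using this.symm

end Cfsg.Agent.Lib.H53PCSZ
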