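import Mathlib.Algebra.Group.Subgroup.Pointwise
import Mathlib.GroupTheory.Index

set_option autoImplicit false
open Pointwise

namespace Cfsg.Agent.Lib.Helper2Conj

open Subgroup

variable {G : Type*} [Group G]

theorem mem_conj_smul {H : Subgroup G} {g x : G} :
    x ∈ MulAut.conj g • H ↔ g⁻¹ * x * g ∈ H := by
  rw [Subgroup.mem_pointwise_smul_iff_inv_smul_mem]
  simp only [MulAut.smul_def, ← map_inv, MulAut.conj_apply, inv_inv]

theorem conj_mem_conj_smul {H : Subgroup G} {g x : G} (hx : x ∈ H) :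
    g * x * g⁻¹ ∈ MulAut.conj g • H := by
  rw [mem_conj_smul]
  simpa [mul_assoc] using hx

theorem card_conj_smul (H : Subgroup G) (g : G) :
    Nat.card (MulAut.conj g • H : Subgroup G) = Nat.card H :=
  (Nat.card_congr (Subgroup.equivSMul (MulAut.conj g) H).toEquiv).symm

theorem conj_smul_smul (H : Subgroup G) (g h : G) :
    MulAut.conj g • MulAut.conj h • H = MulAut.conj (g * h) • H := by
  rw [smul_smul, ← map_mul]

theorem conj_smul_eq_iff_mem_normalizer {H : Subgroup G} {g : G} :
    MulAut.conj g • H = H ↔ g ∈ normalizer (H : Set G) := by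
  rw [mem_normalizer_iff_map_conj_eq]
  rfl

theorem isMulCommutative_conj_smul (H : Subgroup G) [IsMulCommutative H] (g : G) :
    IsMulCommutative (MulAut.conj g • H : Subgroup G) := by
  refine ⟨⟨fun a b => ?_⟩⟩
  have ha := mem_conj_smul.1 a.2
  have hb := mem_conj_smul.1 b.2
  have h := setLike_mul_comm ha hb
  apply Subtype.ext
  have h2 : g⁻¹ * ((a : G) * b) * g = g⁻¹ * ((b : G) * a) * g := by
    calc g⁻¹ * ((a : G) * b) * g = (g⁻¹ * a * g) * (g⁻¹ * b * g) := by simp [mul_assoc]
      _ = (g⁻¹ * b * g) * (g⁻¹ * a * g) := h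
      _ = g⁻¹ * ((b : G) * a) * g := by simp [mul_assoc]
  exact mul_left_cancel (mul_right_cancel h2)

end Cfsg.Agent.Lib.Helper2Conj
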