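import Mathlib
import Cfsg.Agent.Lib.H53PCDefs
import Cfsg.Agent.S3985

/-! PROJECT 4016 (row S4016), piece Wsc.  See notes/helper53/PC/README.md.  Other pieces are cited as `Cfsg.Agent.Lib.H53PC<Piece>.<thm>`. -/

set_option autoImplicit false

namespace Cfsg.Agent.Lib.H53PCWsc

open Subgroup Cfsg.Agent.Lib.H53PCDefs

variable {G : Type*} [Group G] [Finite G] {p : ℕ} [Fact p.Prime]

/-- landed row `Cfsg.Agent.S3985.result` (direction →); `MulAut.conj g • P = cj P g` by `Subgroup.pointwise_smul_def` / `rfl`. -/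
theorem wsc (P : Sylow p G) (hcyc : IsCyclic (P : Subgroup G))
    (ti : ∀ g : G, (P : Subgroup G) ⊓ cj (P : Subgroup G) g ≠ ⊥ → g ∈ NN P) :
    ∀ x ∈ P, x ≠ 1 → centralizer ({x} : Set G) = CC P := by
  have h := (Cfsg.Agent.S3985.result p P hcyc).mp (by
    intro g hg
    by_contra hne
    exact hg (ti g hne))
  intro x hx hx1
  exact h x hx hx1

end Cfsg.Agent.Lib.H53PCWsc
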