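import Mathlib
import Cfsg.Agent.Lib.H53PCDefs
import Cfsg.Agent.Lib.H53PCExistsZ
import Cfsg.Agent.Lib.H53PCSZ
import Cfsg.Agent.Lib.H53PCMemK
import Cfsg.Agent.Lib.H53PCMaxN
import Cfsg.Agent.Lib.H53PCNzTi
import Cfsg.Agent.Lib.H53PCWsc
import Cfsg.Agent.Lib.H53PCCent

/-! PROJECT 4016 (row S4016), piece Struct.  See notes/helper53/PC/README.md.  Other pieces are cited as `Cfsg.Agent.Lib.H53PC<Piece>.<thm>`. -/

set_option autoImplicit false

namespace Cfsg.Agent.Lib.H53PCStruct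

open Subgroup Cfsg.Agent.Lib.H53PCDefs

variable {G : Type*} [Group G] [Finite G] {p : ℕ} [Fact p.Prime]

/-- glue: all the fields of `St` are provided by the pieces ExistsZ, SZ, MemK, MaxN, NzTi, Wsc, Cent (`comm` from `M.cyc`). -/
theorem exists_St {P : Sylow p G} (M : MC p P) : ∃ (z : G) (K : Subgroup G), St p P z K := by
  have hcomm : ∀ a ∈ P, ∀ b ∈ P, a * b = b * a := by
    intro a ha b hb
    have := M.cyc
    have h := (IsCyclic.isMulCommutative (α := (P : Subgroup G))).is_comm.comm (⟨a, ha⟩ : (P : Subgroup G)) ⟨b, hb⟩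
    exact congrArg Subtype.val h
  obtain ⟨z, zP, zo, zmin⟩ := Cfsg.Agent.Lib.H53PCExistsZ.exists_z P M.cyc M.ne_bot
  obtain ⟨K, KN, Kp, cardN, fac⟩ := Cfsg.Agent.Lib.H53PCSZ.exists_compl P
  have maxN := Cfsg.Agent.Lib.H53PCMaxN.maxN M hcomm
  have nz := Cfsg.Agent.Lib.H53PCNzTi.nz M zP zo zmin maxN
  have ti := Cfsg.Agent.Lib.H53PCNzTi.ti P zo zmin nz
  have wsc := Cfsg.Agent.Lib.H53PCWsc.wsc P M.cyc ti
  have memK := Cfsg.Agent.Lib.H53PCMemK.memK P hcomm Kp fac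
  have cent := Cfsg.Agent.Lib.H53PCCent.cent M maxN Kp fac memK
  exact ⟨z, K, { M with
    comm := hcomm, zP := zP, zo := zo, zmin := zmin, maxN := maxN, nz := nz, ti := ti, wsc := wsc,
    KN := KN, Kp := Kp, cardN := cardN, fac := fac, memK := memK, cent := cent }⟩

end Cfsg.Agent.Lib.H53PCStruct
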