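import Mathlib
import Cfsg.Agent.Lib.H53PCDefs
import Cfsg.Agent.Lib.H53PCStruct
import Cfsg.Agent.Lib.H53PCBFin
import Cfsg.Agent.Lib.H53PCCaseA
import Cfsg.Agent.Lib.H53PCA2Fin

/-! PROJECT 4016 (row S4016), piece Core.  See notes/helper53/PC/README.md.  Other pieces are cited as `Cfsg.Agent.Lib.H53PC<Piece>.<thm>`. -/

set_option autoImplicit false

namespace Cfsg.Agent.Lib.H53PCCore

open Subgroup Cfsg.Agent.Lib.H53PCDefs

variable {G : Type*} [Group G] [Finite G] {p : ℕ} [Fact p.Prime]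

/-- `Struct.exists_St`; if no element of prime order `r ≠ p` in `C(P)`: `BFin.caseB`.  Otherwise `CaseA.caseA` gives `p = 3` (subst), `r = 2`, and `hA`; `A2Fin.caseA2`. -/
theorem core {P : Sylow p G} (M : MC p P) : False := by
  obtain ⟨z, K, S⟩ := Cfsg.Agent.Lib.H53PCStruct.exists_St M
  by_cases hB : ∀ r : ℕ, r.Prime → r ≠ p → ∀ t ∈ CC P, orderOf t ≠ r
  · exact Cfsg.Agent.Lib.H53PCBFin.caseB S hB
  · push Not at hB
    obtain ⟨r, hr, hrp, t, tC, tord⟩ := hB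
    haveI : Fact r.Prime := ⟨hr⟩
    obtain ⟨hp3, hr2⟩ := Cfsg.Agent.Lib.H53PCCaseA.caseA S hrp tC tord
    subst hp3
    subst hr2
    refine Cfsg.Agent.Lib.H53PCA2Fin.caseA2 S ?_ tC tord
    intro r' hr' hr'3 t' t'C t'ord
    haveI : Fact r'.Prime := ⟨hr'⟩
    exact (Cfsg.Agent.Lib.H53PCCaseA.caseA S hr'3 t'C t'ord).2

end Cfsg.Agent.Lib.H53PCCore
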