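import Mathlib
import Cfsg.Agent.Lib.H53PCDefs

/-! PROJECT 4016 (row S4016), piece HypQuotA.  See notes/helper53/PC/README.md.  Other pieces are cited as `Cfsg.Agent.Lib.H53PC<Piece>.<thm>`. -/

set_option autoImplicit false

namespace Cfsg.Agent.Lib.H53PCHypQuotA

open Subgroup Cfsg.Agent.Lib.H53PCDefs

variable {G : Type*} [Group G] [Finite G] {p : ℕ} [Fact p.Prime]

/-- `X ≤ G ⧸ M` of order prime to `p`: `|comap X| = |M| |X|` is prime to `p`, so `comap X` is commutative, so `X` is. -/
theorem pab_quot (h : PAb p G) (M : Subgroup G) [M.Normal] (hM : ¬ p ∣ Nat.card M) : PAb p (G ⧸ M) := by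
  intro X hX a ha b hb
  have hp : p.Prime := Fact.out
  have hcard : ¬ p ∣ Nat.card (X.comap (QuotientGroup.mk' M)) := by
    intro hdvd
    obtain ⟨g, hg⟩ := exists_prime_orderOf_dvd_card' (G := X.comap (QuotientGroup.mk' M)) p hdvd
    have hx : orderOf (g : G) = p := by rw [Subgroup.orderOf_coe, hg]
    have hmem : (QuotientGroup.mk' M) (g : G) ∈ X := g.2
    have hpow : ((QuotientGroup.mk' M) (g : G)) ^ p = 1 := by
      rw [← map_pow, ← hx, pow_orderOf_eq_one, map_one]
    rcases (Nat.dvd_prime hp).1 (orderOf_dvd_of_pow_eq_one hpow) with h1 | h1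
    · rw [orderOf_eq_one_iff] at h1
      have hgM : (g : G) ∈ M := (QuotientGroup.eq_one_iff _).1 h1
      apply hM
      have := orderOf_dvd_natCard (⟨(g : G), hgM⟩ : M)
      rwa [Subgroup.orderOf_mk, hx] at this
    · apply hX
      have := orderOf_dvd_natCard (⟨_, hmem⟩ : X)
      rwa [Subgroup.orderOf_mk, h1] at this
  obtain ⟨a', rfl⟩ := QuotientGroup.mk'_surjective M a
  obtain ⟨b', rfl⟩ := QuotientGroup.mk'_surjective M b
  have := h _ hcard a' ha b' hb
  rw [← map_mul, ← map_mul, this]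

end Cfsg.Agent.Lib.H53PCHypQuotA
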