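import Mathlib
import Cfsg.Agent.Lib.H53PCDefs
import Cfsg.Agent.Lib.H53PCAllCyc

/-! PROJECT 4016 (row S4016), piece HypQuotC.  See notes/helper53/PC/README.md.  Other pieces are cited as `Cfsg.Agent.Lib.H53PC<Piece>.<thm>`. -/

set_option autoImplicit false

namespace Cfsg.Agent.Lib.H53PCHypQuotC

open Subgroup Cfsg.Agent.Lib.H53PCDefs

variable {G : Type*} [Group G] [Finite G] {p : ℕ} [Fact p.Prime]

/-- `Sylow.mapSurjective` (image of a Sylow subgroup under `QuotientGroup.mk' M`) is a cyclic Sylow subgroup of `G ⧸ M`; `AllCyc.all_cyclic`. -/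
theorem cyc_quot (h : ∀ P : Sylow p G, IsCyclic (P : Subgroup G)) (M : Subgroup G) [M.Normal] :
    ∀ Q : Sylow p (G ⧸ M), IsCyclic (Q : Subgroup (G ⧸ M)) := by
  obtain ⟨P⟩ : Nonempty (Sylow p G) := inferInstance
  have hcyc := h P
  apply Cfsg.Agent.Lib.H53PCAllCyc.all_cyclic (P.mapSurjective (QuotientGroup.mk'_surjective M))
  show IsCyclic ((P : Subgroup G).map (QuotientGroup.mk' M))
  exact isCyclic_of_surjective ((QuotientGroup.mk' M).subgroupMap (P : Subgroup G))
    ((QuotientGroup.mk' M).subgroupMap_surjective (P : Subgroup G))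

end Cfsg.Agent.Lib.H53PCHypQuotC
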