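import Mathlib
import Cfsg.Agent.Lib.H53PCDefs

/-! PROJECT 4016 (row S4016), piece HypSub.  See notes/helper53/PC/README.md.  Other pieces are cited as `Cfsg.Agent.Lib.H53PC<Piece>.<thm>`. -/

set_option autoImplicit false

namespace Cfsg.Agent.Lib.H53PCHypSub

open Subgroup Cfsg.Agent.Lib.H53PCDefs

variable {G : Type*} [Group G] [Finite G] {p : ℕ} [Fact p.Prime]

/-- a Sylow `p`-subgroup `Q` of `H` maps isomorphically onto a `p`-subgroup of `G`, which lies in a Sylow `p`-subgroup of `G` (`IsPGroup.exists_le_sylow`), cyclic; subgroups of cyclic groups are cyclic.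
`p'`-subgroups of `H` map isomorphically onto `p'`-subgroups of `G`. -/
theorem hyp_sub (h : Hyp p G) (H : Subgroup G) : Hyp p H := by
  constructor
  · intro Q
    have hQ : IsPGroup p ((Q : Subgroup H).map H.subtype) := Q.2.map H.subtype
    obtain ⟨P, hP⟩ := hQ.exists_le_sylow
    have hcyc := h.1 P
    let e : (Q : Subgroup H) ≃* ((Q : Subgroup H).map H.subtype) :=
      (Q : Subgroup H).equivMapOfInjective _ H.subtype_injective
    let f : (Q : Subgroup H) →* (P : Subgroup G) := (Subgroup.inclusion hP).comp e.toMonoidHom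
    have hf : Function.Injective f := (Subgroup.inclusion_injective hP).comp e.injective
    exact isCyclic_of_injective f hf
  · intro X hX a ha b hb
    have hcard : Nat.card (X.map H.subtype) = Nat.card X :=
      Subgroup.card_map_of_injective H.subtype_injective
    have := h.2 (X.map H.subtype) (by rw [hcard]; exact hX) a ⟨a, ha, rfl⟩ b ⟨b, hb, rfl⟩
    exact Subtype.ext this

end Cfsg.Agent.Lib.H53PCHypSub
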