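import Mathlib
import Cfsg.Agent.Lib.H53PCDefs

/-! PROJECT 4016 (row S4016), piece LamArith.  See notes/helper53/PC/README.md.  Other pieces are cited as `Cfsg.Agent.Lib.H53PC<Piece>.<thm>`. -/

set_option autoImplicit false
set_option linter.unusedSectionVars false

namespace Cfsg.Agent.Lib.H53PCLamArith

open Subgroup Cfsg.Agent.Lib.H53PCDefs

variable {G : Type*} [Group G] [Finite G] {p : ℕ} [Fact p.Prime]

/-- `l ≡ 1 [MOD p]` ⇒ `l^(p^n) ≡ 1 [MOD p^(n+1)]` (Mathlib `dvd_sub_pow_of_dvd_sub`); with `l^m ≡ 1`, `gcd(m, p^n) = 1` (Bezout in the exponents / orderOf in `(ZMod (p^n))ˣ`) get `l ≡ 1 [MOD p^n]`. -/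
theorem modEq_one_of_pow {p : ℕ} (hp : p.Prime) {n m l : ℕ} (hm : ¬ p ∣ m) (h1 : l ≡ 1 [MOD p])
    (h2 : l ^ m ≡ 1 [MOD p ^ n]) : l ≡ 1 [MOD p ^ n] := by
  have : Fact p.Prime := ⟨hp⟩
  -- l^(p^n) ≡ 1 mod p^(n+1)
  have h3 : l ^ (p ^ n) ≡ 1 [MOD p ^ n] := by
    have key : ∀ k : ℕ, l ^ (p ^ k) ≡ 1 [MOD p ^ (k + 1)] := by
      intro k
      have hz : (p : ℤ) ∣ (l : ℤ) - 1 := by
        have := (Nat.modEq_iff_dvd.1 h1.symm)
        simpa using this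
      have := dvd_sub_pow_of_dvd_sub hz k
      rw [one_pow] at this
      apply Nat.ModEq.symm
      rw [Nat.modEq_iff_dvd]
      push_cast
      exact this
    exact (key n).of_dvd (pow_dvd_pow p (Nat.le_succ n))
  have hcop : Nat.Coprime m (p ^ n) := by
    apply Nat.Coprime.pow_right
    exact ((Nat.Prime.coprime_iff_not_dvd hp).2 hm).symm
  -- work in ZMod
  rw [← ZMod.natCast_eq_natCast_iff] at h2 h3 ⊢
  push_cast at h2 h3 ⊢
  have h4 : (l : ZMod (p ^ n)) ^ (Nat.gcd m (p ^ n)) = 1 := pow_gcd_eq_one.2 ⟨h2, h3⟩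
  rw [hcop, pow_one] at h4
  exact h4

end Cfsg.Agent.Lib.H53PCLamArith
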