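import Mathlib
import Cfsg.Agent.Lib.H53PCDefs
import Cfsg.Agent.Lib.H53PCLamArith

/-! PROJECT 4016 (row S4016), piece Lam.  See notes/helper53/PC/README.md.  Other pieces are cited as `Cfsg.Agent.Lib.H53PC<Piece>.<thm>`. -/

set_option autoImplicit false

namespace Cfsg.Agent.Lib.H53PCLam

open Subgroup Cfsg.Agent.Lib.H53PCDefs

variable {G : Type*} [Group G] [Finite G] {p : ℕ} [Fact p.Prime]

omit [Finite G] in
theorem conj_pow_iter {x g : G} {l : ℕ} (h : x * g * x⁻¹ = g ^ l) (m : ℕ) :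
    x ^ m * g * (x ^ m)⁻¹ = g ^ (l ^ m) := by
  induction m with
  | zero => simp
  | succ m ih =>
    calc x ^ (m + 1) * g * (x ^ (m + 1))⁻¹ = x * (x ^ m * g * (x ^ m)⁻¹) * x⁻¹ := by
          rw [pow_succ']; group
      _ = x * g ^ (l ^ m) * x⁻¹ := by rw [ih]
      _ = (x * g * x⁻¹) ^ (l ^ m) := by rw [conj_pow]
      _ = g ^ (l ^ (m + 1)) := by rw [h, ← pow_mul, pow_succ']

/-- `P = ⟨g⟩`, `|P| = p^n`, `x g x⁻¹ = g^l`; `x^m g x^-m = g^(l^m)`, `m = orderOf x`: `l^m ≡ 1 [MOD p^n]`.  If `l ≡ 1 [MOD p]` then `l ≡ 1 [MOD p^n]` (`LamArith`), `x` centralizes `g`, so `x ∈ C(P)`.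
So `p ∤ l - 1`, `x g x⁻¹ g⁻¹ = g^(l-1)` generates `P`. -/
theorem exists_gen (P : Sylow p G) (hc : IsCyclic (P : Subgroup G)) {x : G} (hx : x ∈ NN P) (hxC : x ∉ CC P)
    (hxo : ¬ p ∣ orderOf x) : ∃ g ∈ P, (P : Subgroup G) ≤ zpowers (x * g * x⁻¹ * g⁻¹) := by
  have hp : p.Prime := Fact.out
  obtain ⟨g0, hg0⟩ := hc.exists_generator
  set g : G := (g0 : G) with hg
  have hgP : g ∈ P := g0.2
  have hgen : ∀ y ∈ P, y ∈ zpowers g := by
    intro y hy
    obtain ⟨j, hj⟩ := hg0 ⟨y, hy⟩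
    refine ⟨j, ?_⟩
    have := congrArg Subtype.val hj
    simpa using this
  have hord : orderOf g = Nat.card (P : Subgroup G) := by
    rw [hg, Subgroup.orderOf_coe]
    exact orderOf_eq_card_of_forall_mem_zpowers hg0
  obtain ⟨n, hn⟩ := IsPGroup.iff_card.mp P.isPGroup'
  have hconj : x * g * x⁻¹ ∈ P := (mem_normalizer_iff.mp hx g).mp hgP
  obtain ⟨l, hl⟩ : ∃ l : ℕ, g ^ l = x * g * x⁻¹ := by
    have := mem_powers_iff_mem_zpowers.mpr (hgen _ hconj)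
    exact Submonoid.mem_powers_iff _ _ |>.mp this
  have hlm : l ^ orderOf x ≡ 1 [MOD p ^ n] := by
    have h1 := conj_pow_iter hl.symm (orderOf x)
    rw [pow_orderOf_eq_one] at h1
    have h2 : g ^ (l ^ orderOf x) = g ^ 1 := by rw [← h1]; simp
    rw [pow_eq_pow_iff_modEq, hord, hn] at h2
    exact h2
  have hl1 : ¬ l ≡ 1 [MOD p] := by
    intro h1
    have h2 := Cfsg.Agent.Lib.H53PCLamArith.modEq_one_of_pow hp hxo h1 hlm
    have h3 : g ^ l = g ^ 1 := by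
      rw [pow_eq_pow_iff_modEq, hord, hn]; exact h2
    rw [hl, pow_one] at h3
    apply hxC
    rw [mem_centralizer_iff]
    intro y hy
    obtain ⟨j, rfl⟩ := hgen y hy
    have h4 : x * g = g * x := by
      calc x * g = (x * g * x⁻¹) * x := by group
        _ = g * x := by rw [h3]
    exact ((Commute.zpow_right (show Commute x g from h4) j).eq).symm
  have hnd : ¬ (p : ℤ) ∣ (l : ℤ) - 1 := by
    intro hd
    apply hl1
    rw [Nat.modEq_iff_dvd]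
    have : ((1 : ℕ) : ℤ) - (l : ℤ) = -((l : ℤ) - 1) := by push_cast; ring
    rw [this]
    exact (dvd_neg).mpr hd
  have hcop : IsCoprime ((l : ℤ) - 1) ((p : ℤ) ^ n) := by
    apply IsCoprime.pow_right
    exact ((Nat.prime_iff_prime_int.mp hp).coprime_iff_not_dvd.mpr hnd).symm
  obtain ⟨u, v, huv⟩ := hcop
  have hc : x * g * x⁻¹ * g⁻¹ = g ^ ((l : ℤ) - 1) := by
    rw [← hl, zpow_sub, zpow_natCast, zpow_one]
  have hgpn : g ^ ((p : ℤ) ^ n) = 1 := by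
    have : ((p : ℤ) ^ n) = ((p ^ n : ℕ) : ℤ) := by push_cast; rfl
    rw [this, zpow_natCast, ← hn, ← hord, pow_orderOf_eq_one]
  have hgc : g = (x * g * x⁻¹ * g⁻¹) ^ u := by
    rw [hc, ← zpow_mul]
    have : ((l : ℤ) - 1) * u = 1 - v * (p : ℤ) ^ n := by linarith
    rw [this, zpow_sub, zpow_one, mul_comm v, zpow_mul, hgpn, one_zpow, inv_one, mul_one]
  refine ⟨g, hgP, ?_⟩
  intro y hy
  obtain ⟨j, rfl⟩ := hgen y hy
  have hgm : g ∈ zpowers (x * g * x⁻¹ * g⁻¹) := ⟨u, hgc.symm⟩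
  exact zpow_mem hgm j

end Cfsg.Agent.Lib.H53PCLam
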