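import Mathlib
import Cfsg.Agent.Lib.H53PCDefs

/-! PROJECT 4016 (row S4016), piece TransC.  See notes/helper53/PC/README.md.  Other pieces are cited as `Cfsg.Agent.Lib.H53PC<Piece>.<thm>`. -/

set_option autoImplicit false

namespace Cfsg.Agent.Lib.H53PCTransC

open Subgroup Cfsg.Agent.Lib.H53PCDefs

variable {G : Type*} [Group G] [Finite G] {p : ℕ} [Fact p.Prime]

omit [Finite G] [Fact p.Prime] in
theorem le_normalizer_map (H : Subgroup G) (T : Subgroup H) (hT : T.Normal) :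
    H ≤ normalizer ((T.map H.subtype : Subgroup G) : Set G) := by
  intro h hh
  rw [Subgroup.mem_normalizer_iff]
  intro x
  constructor
  · rintro ⟨y, hy, rfl⟩
    exact ⟨⟨h, hh⟩ * y * ⟨h, hh⟩⁻¹, hT.conj_mem y hy ⟨h, hh⟩, rfl⟩
  · rintro ⟨y, hy, hyx⟩
    refine ⟨⟨h, hh⟩⁻¹ * y * ⟨h, hh⟩, ?_, ?_⟩
    · have := hT.conj_mem y hy (⟨h, hh⟩⁻¹)
      simpa using this
    · have h1 : (y : G) = h * x * h⁻¹ := hyx
      show h⁻¹ * (y : G) * h = x
      rw [h1]; group

/-- `Q' = Q.map H.subtype`, `m = Q.index`. -/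
theorem pclosed_of (H : Subgroup G) (Q : Sylow p H) (h : (Q : Subgroup H).Normal) : PClosed p H := by
  have hcardQ : Nat.card ((Q : Subgroup H).map H.subtype) = Nat.card (Q : Subgroup H) :=
    Subgroup.card_map_of_injective H.subtype_injective
  refine ⟨(Q : Subgroup H).map H.subtype, Subgroup.map_subtype_le _, le_normalizer_map H _ h,
    Q.2.map H.subtype, (Q : Subgroup H).index, Q.not_dvd_index, ?_⟩
  rw [hcardQ, (Q : Subgroup H).card_mul_index]

end Cfsg.Agent.Lib.H53PCTransC
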