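import Mathlib
import Cfsg.Agent.Lib.H53PCDefs

/-! PROJECT 4016 (row S4016), piece TransN.  See notes/helper53/PC/README.md.  Other pieces are cited as `Cfsg.Agent.Lib.H53PC<Piece>.<thm>`. -/

set_option autoImplicit false

namespace Cfsg.Agent.Lib.H53PCTransN

open Subgroup Cfsg.Agent.Lib.H53PCDefs

variable {G : Type*} [Group G] [Finite G] {p : ℕ} [Fact p.Prime]

omit [Finite G] [Fact p.Prime] in
theorem le_normalizer_map (H : Subgroup G) (T : Subgroup H) (hT : T.Normal) :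
    H ≤ normalizer ((T.map H.subtype : Subgroup G) : Set G) := by
  intro h hh
  rw [Subgroup.mem_normalizer_iff]
  intro x
  constructor
  · rintro ⟨y, hy, rfl⟩
    exact ⟨⟨h, hh⟩ * y * ⟨h, hh⟩⁻¹, hT.conj_mem y hy ⟨h, hh⟩, rfl⟩
  · rintro ⟨y, hy, hyx⟩
    refine ⟨⟨h, hh⟩⁻¹ * y * ⟨h, hh⟩, ?_, ?_⟩
    · have := hT.conj_mem y hy (⟨h, hh⟩⁻¹)
      simpa using this
    · have h1 : (y : G) = h * x * h⁻¹ := hyx
      show h⁻¹ * (y : G) * h = x
      rw [h1]; group

/-- `T' = T.map H.subtype`; `|H| = |T| |Q|`, `|Q| = p^k`, `p ∤ |T|` (`|T| = Q.index`, `Sylow.not_dvd_index`). -/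
theorem pnil_of (H : Subgroup G) (h : Cfsg.HasNormalPComplement p H) : PNil p H := by
  obtain ⟨Q, T, hTn, hc⟩ := h
  have hcardT : Nat.card (T.map H.subtype) = Nat.card T :=
    Subgroup.card_map_of_injective H.subtype_injective
  have hmul := hc.card_mul
  obtain ⟨k, hk⟩ := Q.2.exists_card_eq
  refine ⟨T.map H.subtype, Subgroup.map_subtype_le T, le_normalizer_map H T hTn, ?_, k, ?_⟩
  · rw [hcardT]
    have h1 := (Q : Subgroup H).card_mul_index
    have h2 : Nat.card T = (Q : Subgroup H).index := by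
      have h3 : Nat.card (Q : Subgroup H) * Nat.card T = Nat.card (Q : Subgroup H) * (Q : Subgroup H).index := by
        rw [h1, ← hmul, mul_comm]
      exact Nat.eq_of_mul_eq_mul_left Nat.card_pos h3
    rw [h2]
    exact Q.not_dvd_index
  · rw [hcardT, ← hk, hmul]

end Cfsg.Agent.Lib.H53PCTransN
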