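import Mathlib
import Cfsg.Agent.Lib.H53PCDefs
import Cfsg.Agent.Lib.H53PCTransN
import Cfsg.Agent.Lib.H53PCTransC
import Cfsg.Agent.Lib.H53PCBurn
import Cfsg.Agent.Lib.H53PCConclN

/-! PROJECT 4016 (row S4016), piece MkMC.  See notes/helper53/PC/README.md.  Other pieces are cited as `Cfsg.Agent.Lib.H53PC<Piece>.<thm>`. -/

set_option autoImplicit false

namespace Cfsg.Agent.Lib.H53PCMkMC

open Subgroup Cfsg.Agent.Lib.H53PCDefs

variable {G : Type*} [Group G] [Finite G] {p : ℕ} [Fact p.Prime]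

/-- `sub`: `ih` + `TransN.pnil_of` / `TransC.pclosed_of` (any Sylow subgroup of `H`, `Sylow` is nonempty).  `ne_bot`, `ne_top`: `⊥`, `⊤` are normal, `ConclN`.  `nnc`: `Burn.hasNormalPComplement_of_le`. -/
theorem mk_MC (h : Hyp p G) (hs : IsSimpleGroup G) (ih : ∀ H : Subgroup G, H ≠ ⊤ → Concl p H)
    (hn : ¬ Concl p G) (P : Sylow p G) : MC p P := by
  refine ⟨hs, h.2, ?_, h.1 P, ?_, ?_, ?_⟩
  · intro H hH
    rcases ih H hH with h1 | h1
    · exact Or.inl (Cfsg.Agent.Lib.H53PCTransN.pnil_of H h1)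
    · obtain ⟨Q⟩ : Nonempty (Sylow p H) := inferInstance
      exact Or.inr (Cfsg.Agent.Lib.H53PCTransC.pclosed_of H Q (h1 Q))
  · intro hb
    apply hn
    apply Cfsg.Agent.Lib.H53PCConclN.concl_of_normal P
    rw [hb]
    infer_instance
  · intro hb
    apply hn
    apply Cfsg.Agent.Lib.H53PCConclN.concl_of_normal P
    rw [hb]
    infer_instance
  · intro hle
    exact hn (Or.inl (Cfsg.Agent.Lib.H53PCBurn.hasNormalPComplement_of_le P hle))

end Cfsg.Agent.Lib.H53PCMkMC
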