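import Mathlib
import Cfsg.Agent.Lib.H53PCDefs

/-! PROJECT 4016 (row S4016), piece QuotC.  See notes/helper53/PC/README.md.  Other pieces are cited as `Cfsg.Agent.Lib.H53PC<Piece>.<thm>`. -/

set_option autoImplicit false

namespace Cfsg.Agent.Lib.H53PCQuotC

open Subgroup Cfsg.Agent.Lib.H53PCDefs

variable {G : Type*} [Group G] [Finite G] {p : ℕ} [Fact p.Prime]

/-- the image of `P` is a Sylow subgroup of `G ⧸ M` (`Sylow.mapSurjective`), normal by `h`; its comap is `P ⊔ M` (`Subgroup.comap_map_eq`, `QuotientGroup.ker_mk'`). -/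
theorem sup_normal (M : Subgroup G) [M.Normal] (h : ∀ Q : Sylow p (G ⧸ M), (Q : Subgroup (G ⧸ M)).Normal)
    (P : Sylow p G) : ((P : Subgroup G) ⊔ M).Normal := by
  have hn : ((P : Subgroup G).map (QuotientGroup.mk' M)).Normal :=
    h (P.mapSurjective (QuotientGroup.mk'_surjective M))
  have h2 := hn.comap (QuotientGroup.mk' M)
  rw [Subgroup.comap_map_eq, QuotientGroup.ker_mk'] at h2
  exact h2

end Cfsg.Agent.Lib.H53PCQuotC
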