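import Mathlib
import Cfsg.Agent.Lib.H53PCDefs

/-! PROJECT 4016 (row S4016), piece QuotN.  See notes/helper53/PC/README.md.  Other pieces are cited as `Cfsg.Agent.Lib.H53PC<Piece>.<thm>`. -/

set_option autoImplicit false

namespace Cfsg.Agent.Lib.H53PCQuotN

open Subgroup Cfsg.Agent.Lib.H53PCDefs

variable {G : Type*} [Group G] [Finite G] {p : ℕ} [Fact p.Prime]

/-- `X̄` a normal complement of a Sylow subgroup `Q̄` in `G ⧸ M`; `X = comap X̄` is normal, `|X| = |M| |X̄|` is prime to `p`, `X.index = X̄.index = |Q̄|` is a power of `p`.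
For any Sylow `P` of `G`: `|X| |P| = |G|` and coprime, so `X.IsComplement' P` (`Subgroup.isComplement'_of_coprime`). -/
theorem hasNormalPComplement_of_quot (M : Subgroup G) [M.Normal] (hM : ¬ p ∣ Nat.card M)
    (h : Cfsg.HasNormalPComplement p (G ⧸ M)) : Cfsg.HasNormalPComplement p G := by
  have hp : p.Prime := Fact.out
  obtain ⟨Q, X, hXn, hXc⟩ := h
  set X' : Subgroup G := X.comap (QuotientGroup.mk' M) with hX'
  have hX'n : X'.Normal := hXn.comap _
  have hidx : X'.index = X.index :=
    Subgroup.index_comap_of_surjective X (QuotientGroup.mk'_surjective M)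
  have hXi : X.index = Nat.card (Q : Subgroup (G ⧸ M)) := hXc.symm.index_eq_card
  obtain ⟨k, hk⟩ := (IsPGroup.iff_card.mp Q.isPGroup')
  have hcardQ : Nat.card X * Nat.card (Q : Subgroup (G ⧸ M)) = Nat.card (G ⧸ M) := hXc.card_mul_card
  have hXp : ¬ p ∣ Nat.card X := by
    intro hd
    have h1 := Q.card_coprime_index
    have h2 : (Q : Subgroup (G ⧸ M)).index = Nat.card X := by
      exact hXc.index_eq_card
    have h3 : ¬ p ∣ (Q : Subgroup (G ⧸ M)).index := Q.not_dvd_index
    exact h3 (h2 ▸ hd)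
  have hG : Nat.card G = Nat.card M * Nat.card (G ⧸ M) := by
    rw [mul_comm]; exact Subgroup.card_eq_card_quotient_mul_card_subgroup M
  have hX'c : Nat.card X' * X'.index = Nat.card G := X'.card_mul_index
  have hpk : 0 < p ^ k := pow_pos hp.pos k
  have hX'card : Nat.card X' = Nat.card M * Nat.card X := by
    have : Nat.card X' * p ^ k = (Nat.card M * Nat.card X) * p ^ k := by
      rw [← hk, ← hXi, ← hidx, hX'c, hG, ← hcardQ, hidx, hXi, mul_assoc]
    exact Nat.eq_of_mul_eq_mul_right hpk this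
  have hX'p : ¬ p ∣ Nat.card X' := by
    rw [hX'card]
    intro hd
    rcases hp.dvd_mul.mp hd with h | h
    · exact hM h
    · exact hXp h
  have hGk : Nat.card G = Nat.card X' * p ^ k := by
    rw [← hX'c, hidx, hXi, hk]
  obtain ⟨P⟩ : Nonempty (Sylow p G) := inferInstance
  have hPc : Nat.card (P : Subgroup G) = p ^ k := by
    rw [P.card_eq_multiplicity, hGk]
    have hne : Nat.card X' ≠ 0 := Nat.card_pos.ne'
    rw [Nat.factorization_mul hne hpk.ne']
    simp [Nat.factorization_eq_zero_of_not_dvd hX'p, hp.factorization_pow]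
  refine ⟨P, X', hX'n, Subgroup.isComplement'_of_coprime ?_ ?_⟩
  · rw [hPc, hGk]
  · rw [hPc]
    exact Nat.Coprime.pow_right k ((Nat.Prime.coprime_iff_not_dvd hp).mpr hX'p).symm

end Cfsg.Agent.Lib.H53PCQuotN
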