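import Mathlib
import Cfsg.Agent.Lib.H53PCDefs
import Cfsg.Agent.Lib.H53PCQuotN
import Cfsg.Agent.Lib.H53PCQuotC
import Cfsg.Agent.Lib.H53PCLam
import Cfsg.Agent.Lib.H53PCCharP
import Cfsg.Agent.Lib.H53PCSZ
import Cfsg.Agent.Lib.H53PCPpCent
import Cfsg.Agent.Lib.H53PCBurn
import Cfsg.Agent.Lib.H53PCConclN

/-! PROJECT 4016 (row S4016), piece RedPp.  See notes/helper53/PC/README.md.  Other pieces are cited as `Cfsg.Agent.Lib.H53PC<Piece>.<thm>`. -/

set_option autoImplicit false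

namespace Cfsg.Agent.Lib.H53PCRedPp

open Subgroup Cfsg.Agent.Lib.H53PCDefs

variable {G : Type*} [Group G] [Finite G] {p : ℕ} [Fact p.Prime]

/-- If `G ⧸ M` has a normal `p`-complement: `QuotN`.  Otherwise `P ⊔ M` is normal (`QuotC`).  If `N(P) ≤ C(P)`: `Burn.hasNormalPComplement_of_le`.  Otherwise there is a `p'`-element `x ∈ N(P) \ C(P)`
(`SZ.exists_compl`: `n = u k`, `u ∈ P ≤ C(P)`, take `x = k`).  `x` and `g x g⁻¹` centralize `M` (`PpCent.pprime_centralizes`, `M` normal), so `x g x⁻¹ g⁻¹ = x (g x g⁻¹)⁻¹ ∈ C(M)`; by `Lam.exists_gen` `P ≤ C(M)`; `CharP`; `ConclN`. -/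
theorem concl_of_quot (h : Hyp p G) (M : Subgroup G) [M.Normal] (hM : ¬ p ∣ Nat.card M)
    (hq : Concl p (G ⧸ M)) : Concl p G := by
  rcases hq with hq | hq
  · exact Or.inl (Cfsg.Agent.Lib.H53PCQuotN.hasNormalPComplement_of_quot M hM hq)
  obtain ⟨P⟩ : Nonempty (Sylow p G) := inferInstance
  have hn := Cfsg.Agent.Lib.H53PCQuotC.sup_normal M hq P
  by_cases hNC : NN P ≤ CC P
  · exact Or.inl (Cfsg.Agent.Lib.H53PCBurn.hasNormalPComplement_of_le P hNC)
  obtain ⟨n, hnN, hnC⟩ := SetLike.not_le_iff_exists.mp hNC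
  obtain ⟨K, hKN, hKp, -, hfac⟩ := Cfsg.Agent.Lib.H53PCSZ.exists_compl P
  obtain ⟨u, hu, k, hk, rfl⟩ := hfac n hnN
  have hcyc : IsCyclic (P : Subgroup G) := h.1 P
  have hPC : (P : Subgroup G) ≤ CC P := by
    intro a ha
    rw [mem_centralizer_iff]
    intro b hb
    have := hcyc.isMulCommutative.is_comm.comm ⟨b, hb⟩ ⟨a, ha⟩
    exact congrArg Subtype.val this
  have hkC : k ∉ CC P := fun hkC => hnC (mul_mem (hPC hu) hkC)
  have hko : ¬ p ∣ orderOf k := fun hd => hKp (hd.trans (by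
    have := orderOf_dvd_natCard (⟨k, hk⟩ : K)
    rwa [Subgroup.orderOf_mk] at this))
  obtain ⟨g, hgP, hgen⟩ := Cfsg.Agent.Lib.H53PCLam.exists_gen P hcyc (hKN hk) hkC hko
  have hnorm : ∀ x : G, x ∈ normalizer (M : Set G) := by
    intro x
    rw [normalizer_eq_top]
    exact mem_top x
  have hkM : k ∈ centralizer (M : Set G) :=
    Cfsg.Agent.Lib.H53PCPpCent.pprime_centralizes h.2 hM (hnorm k) hko
  have hgko : orderOf (g * k * g⁻¹) = orderOf k := (MulAut.conj g).orderOf_eq k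
  have hgkM : g * k * g⁻¹ ∈ centralizer (M : Set G) :=
    Cfsg.Agent.Lib.H53PCPpCent.pprime_centralizes h.2 hM (hnorm _) (by rw [hgko]; exact hko)
  have hcm : k * g * k⁻¹ * g⁻¹ ∈ centralizer (M : Set G) := by
    have : k * g * k⁻¹ * g⁻¹ = k * (g * k * g⁻¹)⁻¹ := by group
    rw [this]
    exact mul_mem hkM (inv_mem hgkM)
  have hPM : (P : Subgroup G) ≤ centralizer (M : Set G) :=
    hgen.trans ((zpowers_le).mpr hcm)
  have hPn : (P : Subgroup G).Normal :=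
    Cfsg.Agent.Lib.H53PCCharP.normal_of_centralizes P M hn (by
      intro a ha m hm
      exact ((mem_centralizer_iff.mp (hPM ha)) m hm).symm)
  exact Cfsg.Agent.Lib.H53PCConclN.concl_of_normal P hPn

end Cfsg.Agent.Lib.H53PCRedPp
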