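import Mathlib
import Cfsg.Agent.Lib.H53PCDefs

/-! PROJECT 4016 (row S4016), piece SimpleConcl.  See notes/helper53/PC/README.md.  Other pieces are cited as `Cfsg.Agent.Lib.H53PC<Piece>.<thm>`. -/

set_option autoImplicit false
set_option linter.style.haveILetI false

namespace Cfsg.Agent.Lib.H53PCSimpleConcl

open Subgroup Cfsg.Agent.Lib.H53PCDefs

variable {G : Type*} [Group G] [Finite G] {p : ℕ} [Fact p.Prime]

/-- a normal `p`-complement `X` is `⊥` or `⊤`: `X = ⊤` ⇒ the Sylow subgroup is `⊥` ⇒ `p ∤ |H|`; `X = ⊥` ⇒ the Sylow subgroup is `⊤`, `H` is cyclic, commutative.  Same if the Sylow subgroup is normal. -/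
theorem not_concl_of_simple {H : Type*} [Group H] [Finite H] (hs : IsSimpleGroup H) (hna : ¬ IsMulCommutative H)
    (hp : p ∣ Nat.card H) (hc : ∀ Q : Sylow p H, IsCyclic (Q : Subgroup H)) : ¬ Concl p H := by
  have hcyc : ∀ Q : Sylow p H, (Q : Subgroup H) ≠ ⊤ := by
    intro Q hQ
    have h1 := hc Q
    rw [hQ] at h1
    haveI : IsCyclic H := isCyclic_of_surjective (Subgroup.topEquiv (G := H)) Subgroup.topEquiv.surjective
    exact hna IsCyclic.isMulCommutative
  rintro (⟨Q, X, hXn, hcm⟩ | hn)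
  · have hmul := hcm.card_mul_card
    rcases hXn.eq_bot_or_eq_top with rfl | rfl
    · apply hcyc Q
      apply Subgroup.eq_top_of_card_eq
      rw [← hmul, Subgroup.card_bot, one_mul]
    · apply Q.ne_bot_of_dvd_card hp
      apply Subgroup.eq_bot_of_card_eq
      rw [Subgroup.card_top] at hmul
      have h0 : 0 < Nat.card H := Nat.card_pos
      have : Nat.card H * Nat.card (Q : Subgroup H) = Nat.card H * 1 := by rw [hmul, mul_one]
      exact Nat.eq_of_mul_eq_mul_left h0 this
  · obtain ⟨Q⟩ : Nonempty (Sylow p H) := inferInstance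
    rcases (hn Q).eq_bot_or_eq_top with h | h
    · exact Q.ne_bot_of_dvd_card hp h
    · exact hcyc Q h

end Cfsg.Agent.Lib.H53PCSimpleConcl
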