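import Mathlib
import Cfsg.Agent.Lib.H53PCDefs

/-! PROJECT 4016 (row S4016), piece Triv.  See notes/helper53/PC/README.md.  Other pieces are cited as `Cfsg.Agent.Lib.H53PC<Piece>.<thm>`. -/

set_option autoImplicit false
set_option linter.unusedSectionVars false

namespace Cfsg.Agent.Lib.H53PCTriv

open Subgroup Cfsg.Agent.Lib.H53PCDefs

variable {G : Type*} [Group G] [Finite G] {p : ℕ} [Fact p.Prime]

/-- `⊤` is a complement of the trivial Sylow subgroup. -/
theorem concl_of_not_dvd (hp : ¬ p ∣ Nat.card G) : Concl p G := by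
  left
  obtain ⟨P⟩ : Nonempty (Sylow p G) := inferInstance
  refine ⟨P, ⊤, inferInstance, ?_⟩
  have hP : (P : Subgroup G) = ⊥ := by
    have h1 : Nat.card (P : Subgroup G) = p ^ (Nat.card G).factorization p := P.card_eq_multiplicity
    rw [Nat.factorization_eq_zero_of_not_dvd hp, pow_zero] at h1
    exact (Subgroup.card_eq_one).1 h1
  rw [hP]
  exact Subgroup.isComplement'_top_bot

end Cfsg.Agent.Lib.H53PCTriv
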