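import Mathlib
import Cfsg.Prelude.Def_Solvable
import Cfsg.Prelude.Def_CaseTheorems

set_option autoImplicit false

namespace Cfsg.Agent.Lib.Helper54Core

open Cfsg

variable {G : Type*} [Group G]

theorem pCore_isPGroup (p : ℕ) : IsPGroup p (pCore p G) :=
  Sylow.sSup_of_normal _ (fun _ h => h.2) (fun _ h => h.1)

theorem le_pCore {p : ℕ} {N : Subgroup G} (hN : N.Normal) (hp : IsPGroup p N) : N ≤ pCore p G :=
  le_sSup ⟨hN, hp⟩

theorem le_pPrimeCore {p : ℕ} {N : Subgroup G} (hN : N.Normal) (hp : (Nat.card N).Coprime p) :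
    N ≤ pPrimeCore p G :=
  le_sSup ⟨hN, hp⟩

theorem card_mul_relIndex {H K : Subgroup G} (h : H ≤ K) :
    Nat.card H * H.relIndex K = Nat.card K := by
  have := Subgroup.relIndex_mul_relIndex ⊥ H K bot_le h
  rwa [Subgroup.relIndex_bot_left, Subgroup.relIndex_bot_left] at this

theorem card_sup_coprime [Finite G] {p : ℕ} {N K : Subgroup G} [N.Normal]
    (hN : (Nat.card N).Coprime p) (hK : (Nat.card K).Coprime p) :
    (Nat.card (N ⊔ K : Subgroup G)).Coprime p := by
  rw [← card_mul_relIndex (le_sup_left : N ≤ N ⊔ K), Subgroup.relIndex_sup_left]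
  exact Nat.Coprime.mul_left hN (Nat.Coprime.coprime_dvd_left (Subgroup.relIndex_dvd_card N K) hK)

theorem card_pPrimeCore_coprime [Finite G] (p : ℕ) : (Nat.card (pPrimeCore p G)).Coprime p := by
  classical
  let 𝒮 : Set (Subgroup G) := {N | N.Normal ∧ (Nat.card N).Coprime p}
  have hne : 𝒮.Nonempty := ⟨⊥, Subgroup.normal_bot, by simp⟩
  obtain ⟨N₀, hN₀, hmax⟩ := Set.exists_max_image 𝒮 (fun N => Nat.card N) (Set.toFinite _) hne
  have hall : ∀ N ∈ 𝒮, N ≤ N₀ := by
    intro N hN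
    have := hN₀.1
    have := hN.1
    have hsup : N₀ ⊔ N ∈ 𝒮 := ⟨inferInstance, card_sup_coprime hN₀.2 hN.2⟩
    have h1 := hmax _ hsup
    have h2 : N₀ = N₀ ⊔ N := Subgroup.eq_of_le_of_card_ge le_sup_left h1
    rw [h2]; exact le_sup_right
  have : pPrimeCore p G = N₀ := le_antisymm (sSup_le hall) (le_sSup hN₀)
  rw [this]; exact hN₀.2

/-- A `p`-subgroup and a subgroup of order prime to `p` meet trivially. -/
theorem inf_eq_bot_of_coprime {p : ℕ} [Fact p.Prime] [Finite G] {Q W : Subgroup G} (hQ : IsPGroup p Q)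
    (hW : (Nat.card W).Coprime p) : W ⊓ Q = ⊥ := by
  obtain ⟨n, hn⟩ := IsPGroup.iff_card.mp hQ
  apply disjoint_iff.mp
  apply Subgroup.disjoint_of_coprime_natCard
  rw [hn]
  exact Nat.Coprime.pow_right n hW

end Cfsg.Agent.Lib.Helper54Core
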