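import Mathlib
import Cfsg.Agent.Lib.H53PCDefs
import Cfsg.Agent.Lib.H53PCCore
import Cfsg.Agent.Lib.H53PCMkMC
import Cfsg.Agent.Lib.H53PCRedPp
import Cfsg.Agent.Lib.H53PCHypSub
import Cfsg.Agent.Lib.H53PCHypQuotA
import Cfsg.Agent.Lib.H53PCHypQuotC
import Cfsg.Agent.Lib.H53PCSimpleConcl
import Cfsg.Agent.Lib.H53PCTriv
import Cfsg.Agent.Lib.H53PCConclN
import Cfsg.Agent.S4403
import Cfsg.Agent.Lib.Helper1Fitting

/-! PROJECT 4016 (row S4016), piece Main.  See notes/helper53/PC/README.md.  Other pieces are cited as `Cfsg.Agent.Lib.H53PC<Piece>.<thm>`. -/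

set_option autoImplicit false

namespace Cfsg.Agent.Lib.H53PCMain

open Subgroup Cfsg.Agent.Lib.H53PCDefs

universe u

variable {p : ℕ} [Fact p.Prime]

theorem card_lt_of_ne_top {G : Type u} [Group G] [Finite G] {H : Subgroup G} (hH : H ≠ ⊤) :
    Nat.card H < Nat.card G :=
  lt_of_le_of_ne (Subgroup.card_le_card_group H) (fun he => hH (Subgroup.eq_top_of_card_eq H he))

/-- strong induction on `n`.  By contradiction.  (1) `M = Cfsg.pPrimeCore p G ≠ ⊥`: normal of order prime to `p` (landed `Helper1Fitting.pPrimeCore_normal`, `card_pPrimeCore_coprime`), `|G ⧸ M| < |G|`, `HypQuotA/C`, IH, `RedPp`.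
(2) `p ∤ |G|`: `Triv`.  (3) landed row `Cfsg.Agent.S4403.result p hp hO P (h.1 P)`: `P` normal (`ConclN`), or `F = generalizedFittingSubgroup G` is simple, non-commutative, `p ∤ F.index`.
If `F ≠ ⊤`: IH for `↥F` (`HypSub`) against `SimpleConcl` (`p ∣ |F|`).  If `F = ⊤`: `G` is simple (`Subgroup.topEquiv`), `MkMC.mk_MC` (IH + `HypSub` for proper subgroups), `Core.core`. -/
theorem main : ∀ (n : ℕ) (G : Type u) [Group G] [Finite G], Nat.card G = n → Hyp p G → Concl p G := by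
  intro n
  induction n using Nat.strong_induction_on with
  | _ n ih =>
  intro G _ _ hcard h
  by_contra hcon
  have hp : p.Prime := Fact.out
  have hO : Cfsg.pPrimeCore p G = ⊥ := by
    by_contra hne
    haveI : (Cfsg.pPrimeCore p G).Normal := Cfsg.Agent.Lib.Helper1Fitting.pPrimeCore_normal p
    have hM : ¬ p ∣ Nat.card (Cfsg.pPrimeCore p G) := by
      have := Cfsg.Agent.Lib.Helper1Fitting.card_pPrimeCore_coprime (G := G) p
      intro hd
      exact (Nat.Prime.coprime_iff_not_dvd hp).mp this.symm hd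
    have hlt : Nat.card (G ⧸ Cfsg.pPrimeCore p G) < n := by
      have h1 := Subgroup.card_eq_card_quotient_mul_card_subgroup (Cfsg.pPrimeCore p G)
      have h2 : 1 < Nat.card (Cfsg.pPrimeCore p G) := by
        rw [Subgroup.one_lt_card_iff_ne_bot]; exact hne
      have h3 : 0 < Nat.card (G ⧸ Cfsg.pPrimeCore p G) := Nat.card_pos
      rw [← hcard, h1]
      nlinarith
    have hq : Concl p (G ⧸ Cfsg.pPrimeCore p G) :=
      ih _ hlt (G ⧸ Cfsg.pPrimeCore p G) rfl
        ⟨Cfsg.Agent.Lib.H53PCHypQuotC.cyc_quot h.1 _, Cfsg.Agent.Lib.H53PCHypQuotA.pab_quot h.2 _ hM⟩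
    exact hcon (Cfsg.Agent.Lib.H53PCRedPp.concl_of_quot h _ hM hq)
  have hpd : p ∣ Nat.card G := by
    by_contra hnd
    exact hcon (Cfsg.Agent.Lib.H53PCTriv.concl_of_not_dvd hnd)
  obtain ⟨P⟩ : Nonempty (Sylow p G) := inferInstance
  rcases Cfsg.Agent.S4403.result p hpd hO P (h.1 P) with ⟨hPn, -⟩ | ⟨hs, hna, hidx⟩
  · exact hcon (Cfsg.Agent.Lib.H53PCConclN.concl_of_normal P hPn)
  by_cases hF : Cfsg.generalizedFittingSubgroup G = ⊤
  · have hsG : IsSimpleGroup G := by
      have e : G ≃* ↥(Cfsg.generalizedFittingSubgroup G) :=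
        ((MulEquiv.subgroupCongr hF).trans Subgroup.topEquiv).symm
      exact e.isSimpleGroup
    have ihs : ∀ H : Subgroup G, H ≠ ⊤ → Concl p H := fun H hH =>
      ih (Nat.card H) (hcard ▸ card_lt_of_ne_top hH) H rfl (Cfsg.Agent.Lib.H53PCHypSub.hyp_sub h H)
    exact Cfsg.Agent.Lib.H53PCCore.core (Cfsg.Agent.Lib.H53PCMkMC.mk_MC h hsG ihs hcon P)
  · have hh := Cfsg.Agent.Lib.H53PCHypSub.hyp_sub h (Cfsg.generalizedFittingSubgroup G)
    have hc : Concl p ↥(Cfsg.generalizedFittingSubgroup G) :=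
      ih _ (hcard ▸ card_lt_of_ne_top hF) _ rfl hh
    have hpF : p ∣ Nat.card ↥(Cfsg.generalizedFittingSubgroup G) := by
      have h1 := (Cfsg.generalizedFittingSubgroup G).card_mul_index
      rw [← h1] at hpd
      rcases hp.dvd_mul.mp hpd with h2 | h2
      · exact h2
      · exact absurd h2 hidx
    exact Cfsg.Agent.Lib.H53PCSimpleConcl.not_concl_of_simple hs hna hpF hh.1 hc

end Cfsg.Agent.Lib.H53PCMain
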