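import Mathlib
import Cfsg.Agent.Lib.H12ZDefs

set_option autoImplicit false

/-! Vocabulary of project 5271 (row S5271: nilpotency criterion via weakly embedded subgroups). -/

namespace Cfsg.Agent.Lib.H55WEDefs

open Cfsg Cfsg.FusionSystem Cfsg.Agent.Lib.Helper87Fusion

variable {Ω : Type*} [Group Ω] {S : Subgroup Ω}

/-- invariance under conjugation by `S`. -/
def SInv (S X : Subgroup Ω) : Prop := ∀ s ∈ S, ∀ x ∈ X, s * x * s⁻¹ ∈ X

/-- standing hypotheses of the direction `⟸` (`p ^ d` = the order of `D`); `N` = every `F`-map whose source contains a strongly closed subgroup of order `p ^ d` is a conjugation. -/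
structure WE (p : ℕ) (F : FusionSystem S) (d : ℕ) : Prop where
  hS : IsPGroup p S
  hF : F.IsSaturated p
  lt : p ^ d < Nat.card S
  W : ∀ Q : Subgroup Ω, Q ≤ S → Nat.card Q = p ^ d →
    ∃ P : Subgroup Ω, F.StronglyClosed P ∧ F.StronglyClosed (Q ⊔ P) ∧ F.StronglyClosed (Q ⊓ P)
  N : ∀ X : Subgroup Ω, F.StronglyClosed X → Nat.card X = p ^ d → ∀ (R : Subgroup Ω) (f : Ω → Ω), X ≤ R →
    IsMap F R f → ∃ s ∈ S, ∀ x ∈ R, f x = s * x * s⁻¹

/-- `F` acts trivially on `T` modulo `V`. -/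
def Stb (F : FusionSystem S) (T V : Subgroup Ω) : Prop :=
  ∀ (R : Subgroup Ω) (f : Ω → Ω), IsMap F R f → ∀ u ∈ R, u ∈ T → u⁻¹ * f u ∈ V

/-- `F` acts on `T` modulo `Y` by conjugations of `S`. -/
def CjM (F : FusionSystem S) (T Y : Subgroup Ω) : Prop :=
  ∀ (R : Subgroup Ω) (f : Ω → Ω), IsMap F R f → ∀ u ∈ R, u ∈ T → ∃ s ∈ S, (s * u * s⁻¹)⁻¹ * f u ∈ Y

/-- the configuration of step (4d): `hyp ≤ P1 P2 Y` with `Pi ∩ hyp ≤ Y`. -/
structure PP (p : ℕ) (F : FusionSystem S) (Y P1 P2 : Subgroup Ω) : Prop where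
  hS : IsPGroup p S
  hF : F.IsSaturated p
  hY : F.StronglyClosed Y
  hYT : Y ≤ F.hyperfocalSubgroup p
  h1 : F.StronglyClosed P1
  h2 : F.StronglyClosed P2
  h1T : P1 ⊓ F.hyperfocalSubgroup p ≤ Y
  h2T : P2 ⊓ F.hyperfocalSubgroup p ≤ Y
  hT : F.hyperfocalSubgroup p ≤ P1 ⊔ P2 ⊔ Y

end Cfsg.Agent.Lib.H55WEDefs
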