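import Mathlib
import Cfsg.Agent.Lib.Helper59BRDefs
import Cfsg.Agent.Lib.Helper59BLDual

set_option autoImplicit false
set_option linter.unusedSectionVars false
set_option linter.unusedVariables false

namespace Cfsg.Agent.Lib.H59BRNu

open Cfsg Subgroup
open Cfsg.Agent.Lib.Helper81Base Cfsg.Agent.Lib.Helper82Linear Cfsg.Agent.Lib.Helper59BRDefs
open scoped ComplexConjugate

/-- `K` is normal, `H/K` is a non-trivial finite abelian group, so it has a non-trivial
homomorphism to `ℂˣ` (`Helper59BLDual.exists_hom_ne_one`). -/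
theorem exists_nu {H : Type*} [Group H] [Finite H] (K : Subgroup H) (hK : commutator H ≤ K)
    (hne : K ≠ ⊤) : ∃ ν : H →* ℂˣ, ν ≠ 1 ∧ ∀ k ∈ K, ν k = 1 := by
  haveI hn : K.Normal := by
    refine ⟨fun k hk g => ?_⟩
    have h1 : g * k * g⁻¹ * k⁻¹ ∈ K := by
      have := hK (commutator_mem_commutator (mem_top g) (mem_top k))
      rwa [commutatorElement_def] at this
    have h2 : g * k * g⁻¹ = (g * k * g⁻¹ * k⁻¹) * k := by
      group
    rw [h2]
    exact K.mul_mem h1 hk
  have hab : IsMulCommutative (H ⧸ K) := by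
    refine ⟨⟨fun a b => ?_⟩⟩
    induction a using QuotientGroup.induction_on with
    | H a =>
      induction b using QuotientGroup.induction_on with
      | H b =>
        rw [← QuotientGroup.mk_mul, ← QuotientGroup.mk_mul, QuotientGroup.eq]
        have h1 : b⁻¹ * a⁻¹ * b⁻¹⁻¹ * a⁻¹⁻¹ ∈ K := by
          have := hK (commutator_mem_commutator (mem_top b⁻¹) (mem_top a⁻¹))
          rwa [commutatorElement_def] at this
        have h2 : (a * b)⁻¹ * (b * a) = b⁻¹ * a⁻¹ * b⁻¹⁻¹ * a⁻¹⁻¹ := by
          group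
        rw [h2]
        exact h1
  obtain ⟨x, hx⟩ : ∃ x : H, x ∉ K := by
    by_contra hcon
    push Not at hcon
    exact hne (eq_top_iff.mpr fun y _ => hcon y)
  have hx1 : (QuotientGroup.mk x : H ⧸ K) ≠ 1 := by
    intro h
    exact hx ((QuotientGroup.eq_one_iff x).mp h)
  obtain ⟨ψ, hψ⟩ := Cfsg.Agent.Lib.Helper59BLDual.exists_hom_ne_one hab hx1
  refine ⟨ψ.comp (QuotientGroup.mk' K), ?_, ?_⟩
  · intro h
    apply hψ
    have := congrArg (fun f : H →* ℂˣ => f x) h
    simpa using this
  · intro k hk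
    have : (QuotientGroup.mk k : H ⧸ K) = 1 := (QuotientGroup.eq_one_iff k).mpr hk
    simp [this]

end Cfsg.Agent.Lib.H59BRNu
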