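import Mathlib
import Cfsg.Agent.Lib.Helper59BRDefs
import Cfsg.Agent.Lib.H59BRNu
import Cfsg.Agent.Lib.H59BRBasicB

set_option autoImplicit false
set_option linter.unusedSectionVars false
set_option linter.unusedVariables false

namespace Cfsg.Agent.Lib.H59BRGeoB

open Cfsg Subgroup
open Cfsg.Agent.Lib.Helper81Base Cfsg.Agent.Lib.Helper82Linear Cfsg.Agent.Lib.Helper59BRDefs
open scoped ComplexConjugate

variable {G : Type*} [Group G] [Finite G] {p : ℕ} [Fact p.Prime]

theorem comm_le (P : Sylow p G) (hP : Nat.card P = p)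
    (hC : centralizer ((P : Subgroup G) : Set G) = (P : Subgroup G)) :
    commutator (normalizer ((P : Subgroup G) : Set G)) ≤
      (P : Subgroup G).subgroupOf (normalizer ((P : Subgroup G) : Set G)) := by
  have hcyc : IsCyclic (P : Subgroup G) := isCyclic_of_prime_card hP
  let _ := (hcyc.mulAutMulEquiv _).toMonoidHom.commGroupOfInjective (hcyc.mulAutMulEquiv _).injective
  have h := Abelianization.commutator_subset_ker (P : Subgroup G).normalizerMonoidHom
  rwa [Subgroup.normalizerMonoidHom_ker, hC] at h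

theorem inf_eq_bot (P Q : Sylow p G) (hP : Nat.card P = p) (hQ : Q ≠ P) :
    (P : Subgroup G) ⊓ (Q : Subgroup G) = ⊥ := by
  have hp : p.Prime := Fact.out
  have hQc : Nat.card Q = p := by
    have h1 := Sylow.card_eq_multiplicity P
    have h2 := Sylow.card_eq_multiplicity Q
    rw [h2, ← h1, hP]
  have h1 : Nat.card ((P : Subgroup G) ⊓ (Q : Subgroup G) : Subgroup G) ∣ p := by
    have := Subgroup.card_dvd_of_le (inf_le_left : (P : Subgroup G) ⊓ (Q : Subgroup G) ≤ P)
    rwa [hP] at this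
  rcases (Nat.dvd_prime hp).1 h1 with h | h
  · exact Subgroup.card_eq_one.1 h
  · exfalso
    have h2 : (P : Subgroup G) ⊓ (Q : Subgroup G) = (P : Subgroup G) :=
      Subgroup.eq_of_le_of_card_ge inf_le_left (by rw [h]; exact hP.le)
    have h3 : (P : Subgroup G) ⊓ (Q : Subgroup G) = (Q : Subgroup G) :=
      Subgroup.eq_of_le_of_card_ge inf_le_right (by rw [h]; exact hQc.le)
    apply hQ
    apply Sylow.ext
    rw [← h3, h2]

/-- Pure group theory.  Let `N = N(P)`, `Q = h • P ≠ P`, `D₀ = N ∩ N(Q) = N ∩ h N h⁻¹`,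
`K = P ⊔ D₀ ≤ N`.  `N / P = N / C(P)` is abelian, so `[N, N] ≤ P ≤ K`.  If `K ≠ N`, `exists_nu`
gives `ν ≠ 1` trivial on `K`, against `hkey`.  So `K = N`, and `P ∩ D₀ = 1` (else `P ≤ N(Q)`,
`P = Q`), whence `|D₀| = |N| / p = e`. -/
theorem card_inter (P : Sylow p G) (hP : Nat.card P = p)
    (hC : centralizer ((P : Subgroup G) : Set G) = (P : Subgroup G)) (e : ℕ)
    (hN : Nat.card (normalizer ((P : Subgroup G) : Set G)) = p * e)
    (hkey : ∀ ν : normalizer ((P : Subgroup G) : Set G) →* ℂˣ, ν ≠ 1 →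
      (∀ a : normalizer ((P : Subgroup G) : Set G), (a : G) ∈ (P : Subgroup G) → ν a = 1) →
      ∀ h : G, ∃ g : normalizer ((P : Subgroup G) : Set G),
        h⁻¹ * (g : G) * h ∈ normalizer ((P : Subgroup G) : Set G) ∧ ν g ≠ 1)
    (Q : Sylow p G) (hQ : Q ≠ P) :
    Nat.card ↥(normalizer ((P : Subgroup G) : Set G) ⊓ normalizer ((Q : Subgroup G) : Set G))
      = e := by
  have hp : p.Prime := Fact.out
  set N : Subgroup G := normalizer ((P : Subgroup G) : Set G) with hNdef
  set D₀ : Subgroup G := N ⊓ normalizer ((Q : Subgroup G) : Set G) with hD₀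
  set P' : Subgroup N := (P : Subgroup G).subgroupOf N with hP'
  set D' : Subgroup N := D₀.subgroupOf N with hD'
  have hPN : (P : Subgroup G) ≤ N := Subgroup.le_normalizer
  have hnorm : P'.Normal := Subgroup.normal_in_normalizer
  obtain ⟨h, hh⟩ := MulAction.exists_smul_eq G P Q
  have htop : D' ⊔ P' = ⊤ := by
    by_contra hne
    obtain ⟨ν, hν1, hν⟩ := Cfsg.Agent.Lib.H59BRNu.exists_nu (D' ⊔ P')
      (le_trans (comm_le P hP hC) le_sup_right) hne
    obtain ⟨g, hg1, hg2⟩ := hkey ν hν1 (fun a ha => hν a ((le_sup_right : P' ≤ D' ⊔ P')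
      (Subgroup.mem_subgroupOf.2 ha))) h
    apply hg2
    apply hν
    apply (le_sup_left : D' ≤ D' ⊔ P')
    rw [hD', Subgroup.mem_subgroupOf, hD₀, Subgroup.mem_inf]
    refine ⟨g.2, ?_⟩
    have hg1' : (h⁻¹ * (g : G) * h) • P = P := Sylow.smul_eq_iff_mem_normalizer.2 hg1
    apply Sylow.smul_eq_iff_mem_normalizer.1
    rw [← hh]
    conv_rhs => rw [← hg1']
    simp only [← mul_smul]
    congr 1
    group
  have hbot : P' ⊓ D' = ⊥ := by
    rw [eq_bot_iff]
    intro x hx
    rw [Subgroup.mem_inf, hP', hD', Subgroup.mem_subgroupOf, Subgroup.mem_subgroupOf, hD₀,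
      Subgroup.mem_inf] at hx
    have h2 : (x : G) ∈ (P : Subgroup G) ⊓ normalizer ((Q : Subgroup G) : Set G) := ⟨hx.1, hx.2.2⟩
    have h6 : (P : Subgroup G) ⊓ normalizer ((Q : Subgroup G) : Set G) = (P : Subgroup G) ⊓ Q :=
      IsPGroup.inf_normalizer_sylow P.2 Q
    rw [h6, inf_eq_bot P Q hP hQ, Subgroup.mem_bot] at h2
    rw [Subgroup.mem_bot]
    exact Subtype.ext h2
  have h1 : P'.relIndex (D' ⊔ P') = P'.relIndex D' := Subgroup.relIndex_sup_right D' P'
  rw [htop, Subgroup.relIndex_top_right, ← Subgroup.inf_relIndex_right, hbot,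
    Subgroup.relIndex_bot_left] at h1
  have h3 : Nat.card D' = Nat.card D₀ :=
    Nat.card_congr (Subgroup.subgroupOfEquivOfLe (inf_le_left : D₀ ≤ N)).toEquiv
  have h4 : Nat.card P' = p := by
    rw [← hP]
    exact Nat.card_congr (Subgroup.subgroupOfEquivOfLe hPN).toEquiv
  have h5 := Subgroup.card_mul_index P'
  rw [h4, h1, h3, hN] at h5
  exact Nat.eq_of_mul_eq_mul_left hp.pos h5

end Cfsg.Agent.Lib.H59BRGeoB
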