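import Mathlib

set_option autoImplicit false

/-! Vocabulary for S4349 (2-elements of `S_n` lying in a unique Sylow 2-subgroup), helper60.

Idea: a Sylow 2-subgroup `P` of `Perm Ω` contains a maximal set of disjoint transpositions, i.e. a
"matching involution" `μ` (`μ² = 1`, at most one fixed point) with `swap a (μ a) ∈ P` for all `a`; `μ` is
determined by `P`, `P ≤ C(μ)`, and `P` is the full preimage of a Sylow 2-subgroup of `Perm (Ω/μ)`.
Model: `Ω = (B × Bool) ⊕ F` with `F` a subsingleton, `μ₀` = flip of the `Bool` coordinate. -/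

namespace Cfsg.Agent.Lib.H60USDefs

open Equiv

/-- Sylow 2-subgroups as plain subgroups -/
def IsSyl {G : Type*} [Group G] (H : Subgroup G) : Prop :=
  IsPGroup 2 H ∧ ∀ K : Subgroup G, IsPGroup 2 K → H ≤ K → K = H

/-- `x` lies in a unique Sylow 2-subgroup -/
def US {G : Type*} [Group G] (x : G) : Prop := ∃! H : Subgroup G, IsSyl H ∧ x ∈ H

/-- `x` is a 2-element -/
def Two {G : Type*} [Group G] (x : G) : Prop := ∃ k : ℕ, x ^ (2 ^ k) = 1

/-- the condition of the statement -/
def Good {α : Type*} [Fintype α] [DecidableEq α] (x : Perm α) : Prop :=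
  Fintype.card α ≤ x.support.card + 2 ∧ x.cycleType.Nodup

/-- the pointwise form of `Good`: at most two fixed points; two points with the same period `≠ 1` lie in the
same cycle -/
def GoodP {α : Type*} (x : Perm α) : Prop :=
  (∀ a b c : α, x a = a → x b = b → x c = c → a = b ∨ a = c ∨ b = c) ∧
  ∀ a b : α, x a ≠ a → Function.minimalPeriod x a = Function.minimalPeriod x b → x.SameCycle a b

/-- matching involution: an involution (or 1) with at most one fixed point -/
def IsMatch {α : Type*} (μ : Perm α) : Prop := μ * μ = 1 ∧ ∀ a b : α, μ a = a → μ b = b → a = b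

/-- the transpositions of the matching `μ` lie in `P` -/
def Rel {α : Type*} [DecidableEq α] (P : Subgroup (Perm α)) (μ : Perm α) : Prop := ∀ a, swap a (μ a) ∈ P

/-- at most one matching involution commutes with `x` -/
def UM {α : Type*} (x : Perm α) : Prop :=
  ∀ μ μ' : Perm α, IsMatch μ → IsMatch μ' → Commute μ x → Commute μ' x → μ = μ'

/-- the statement for the type `α` -/
def T (α : Type*) [Fintype α] [DecidableEq α] : Prop := ∀ x : Perm α, Two x → (US x ↔ Good x)

/-- the model -/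
abbrev Dbl (B F : Type*) := (B × Bool) ⊕ F

/-- the standard matching involution of the model -/
def mu0 (B F : Type*) : Perm (Dbl B F) :=
  Equiv.sumCongr (Equiv.prodCongr (Equiv.refl B) Equiv.boolNot) (Equiv.refl F)

@[simp] theorem mu0_inl (B F : Type*) (b : B) (i : Bool) :
    mu0 B F (Sum.inl (b, i)) = Sum.inl (b, !i) := rfl

@[simp] theorem mu0_inr (B F : Type*) (f : F) : mu0 B F (Sum.inr f) = Sum.inr f := rfl

variable {B F : Type*}

/-- `g` lies over `σ` -/
def Over (g : Perm (Dbl B F)) (σ : Perm B) : Prop :=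
  ∀ b i, ∃ j, g (Sum.inl (b, i)) = Sum.inl (σ b, j)

theorem over_one : Over (1 : Perm (Dbl B F)) (1 : Perm B) := fun _ i => ⟨i, rfl⟩

theorem over_mul {g g' : Perm (Dbl B F)} {σ σ' : Perm B} (h : Over g σ) (h' : Over g' σ') :
    Over (g * g') (σ * σ') := by
  intro b i
  obtain ⟨j, hj⟩ := h' b i
  obtain ⟨k, hk⟩ := h (σ' b) j
  exact ⟨k, by rw [Perm.mul_apply, hj, hk, Perm.mul_apply]⟩

theorem over_inv {g : Perm (Dbl B F)} {σ : Perm B} (h : Over g σ) : Over g⁻¹ σ⁻¹ := by
  intro b i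
  obtain ⟨j0, h0⟩ := h (σ⁻¹ b) false
  obtain ⟨j1, h1⟩ := h (σ⁻¹ b) true
  have hσ : σ (σ⁻¹ b) = b := by simp
  rw [hσ] at h0 h1
  have hne : j0 ≠ j1 := by
    rintro rfl
    have := g.injective (h0.trans h1.symm)
    simp at this
  by_cases hi : i = j0
  · exact ⟨false, by rw [Perm.inv_eq_iff_eq, h0, hi]⟩
  · refine ⟨true, ?_⟩
    rw [Perm.inv_eq_iff_eq, h1]
    have : i = j1 := by
      cases i <;> cases j0 <;> cases j1 <;> simp_all
    rw [this]

theorem over_unique {g : Perm (Dbl B F)} {σ σ' : Perm B} (h : Over g σ) (h' : Over g σ') : σ = σ' := by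
  ext b
  obtain ⟨j, hj⟩ := h b false
  obtain ⟨j', hj'⟩ := h' b false
  have := hj.symm.trans hj'
  simp only [Sum.inl.injEq, Prod.mk.injEq] at this
  exact this.1

theorem over_pow {g : Perm (Dbl B F)} {σ : Perm B} (h : Over g σ) (k : ℕ) : Over (g ^ k) (σ ^ k) := by
  induction k with
  | zero => simpa using over_one
  | succ k ih => rw [pow_succ, pow_succ]; exact over_mul ih h

theorem over_zpow {g : Perm (Dbl B F)} {σ : Perm B} (h : Over g σ) (k : ℤ) : Over (g ^ k) (σ ^ k) := by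
  cases k with
  | ofNat k => simpa using over_pow h k
  | negSucc k =>
    rw [zpow_negSucc, zpow_negSucc]
    exact over_inv (over_pow h (k + 1))

theorem two_of_over {g : Perm (Dbl B F)} {σ : Perm B} (h : Over g σ) (hg : Two g) : Two σ := by
  obtain ⟨k, hk⟩ := hg
  refine ⟨k, ?_⟩
  have h1 := over_pow h (2 ^ k)
  rw [hk] at h1
  exact over_unique h1 over_one

/-- the full preimage of `Q ≤ Perm B` -/
def Lift (Q : Subgroup (Perm B)) : Subgroup (Perm (Dbl B F)) where
  carrier := {g | ∃ σ ∈ Q, Over g σ}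
  mul_mem' := by
    rintro g g' ⟨σ, hσ, h⟩ ⟨σ', hσ', h'⟩
    exact ⟨σ * σ', Q.mul_mem hσ hσ', over_mul h h'⟩
  one_mem' := ⟨1, Q.one_mem, over_one⟩
  inv_mem' := by
    rintro g ⟨σ, hσ, h⟩
    exact ⟨σ⁻¹, Q.inv_mem hσ, over_inv h⟩

theorem mem_Lift {Q : Subgroup (Perm B)} {g : Perm (Dbl B F)} :
    g ∈ (Lift Q : Subgroup (Perm (Dbl B F))) ↔ ∃ σ ∈ Q, Over g σ := Iff.rfl

theorem mem_Lift_iff {Q : Subgroup (Perm B)} {g : Perm (Dbl B F)} {σ : Perm B} (h : Over g σ) :
    g ∈ (Lift Q : Subgroup (Perm (Dbl B F))) ↔ σ ∈ Q := by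
  constructor
  · rintro ⟨σ', hσ', h'⟩
    rwa [over_unique h h']
  · intro hσ
    exact ⟨σ, hσ, h⟩

/-- the standard lift of `σ` -/
def hat (F : Type*) (σ : Perm B) : Perm (Dbl B F) :=
  Equiv.sumCongr (Equiv.prodCongr σ (Equiv.refl Bool)) (Equiv.refl F)

theorem over_hat (σ : Perm B) : Over (hat F σ) σ := fun _ i => ⟨i, rfl⟩

end Cfsg.Agent.Lib.H60USDefs
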