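import Mathlib
import Cfsg.Agent.Lib.H60USDefs

set_option autoImplicit false

namespace Cfsg.Agent.Lib.H60USSyl

open Equiv Cfsg.Agent.Lib.H60USDefs

theorem us_iff {G : Type*} [Group G] (x : G) : (∃! P : Sylow 2 G, x ∈ P) ↔ US x := by
  constructor
  · rintro ⟨P, hxP, huniq⟩
    refine ⟨P.1, ⟨⟨P.isPGroup', fun K hK hle => P.is_maximal' hK hle⟩, hxP⟩, ?_⟩
    rintro H ⟨⟨hH1, hH2⟩, hxH⟩
    have := huniq ⟨H, hH1, fun {Q} hQ hle => hH2 Q hQ hle⟩ hxH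
    rw [← this]
  · rintro ⟨H, ⟨⟨hH1, hH2⟩, hxH⟩, huniq⟩
    refine ⟨⟨H, hH1, fun {Q} hQ hle => hH2 Q hQ hle⟩, hxH, ?_⟩
    intro P hxP
    apply Sylow.ext
    exact huniq P.1 ⟨⟨P.isPGroup', fun K hK hle => P.is_maximal' hK hle⟩, hxP⟩

theorem exists_isSyl {G : Type*} [Group G] (K : Subgroup G) (hK : IsPGroup 2 K) :
    ∃ H : Subgroup G, IsSyl H ∧ K ≤ H := by
  obtain ⟨P, hP⟩ := hK.exists_le_sylow
  exact ⟨P.1, ⟨P.isPGroup', fun K hK hle => P.is_maximal' hK hle⟩, hP⟩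

theorem exists_isSyl_mem {G : Type*} [Group G] (x : G) (hx : Two x) : ∃ H : Subgroup G, IsSyl H ∧ x ∈ H := by
  obtain ⟨k, hk⟩ := hx
  have hp : IsPGroup 2 (Subgroup.zpowers x) := by
    rintro ⟨y, hy⟩
    obtain ⟨n, rfl⟩ := Subgroup.mem_zpowers_iff.mp hy
    refine ⟨k, ?_⟩
    apply Subtype.ext
    show (x ^ n) ^ (2 ^ k) = 1
    rw [← zpow_natCast, ← zpow_mul, mul_comm, zpow_mul, zpow_natCast, hk, one_zpow]
  obtain ⟨H, hH, hle⟩ := exists_isSyl _ hp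
  exact ⟨H, hH, hle (Subgroup.mem_zpowers x)⟩

theorem isSyl_conj {G : Type*} [Group G] [Finite G] (H H' : Subgroup G) (h : IsSyl H) (h' : IsSyl H') :
    ∃ g : G, H' = H.map (MulAut.conj g).toMonoidHom := by
  have : Fact (Nat.Prime 2) := ⟨Nat.prime_two⟩
  let P : Sylow 2 G := ⟨H, h.1, fun {Q} hQ hle => h.2 Q hQ hle⟩
  let P' : Sylow 2 G := ⟨H', h'.1, fun {Q} hQ hle => h'.2 Q hQ hle⟩
  obtain ⟨g, hg⟩ := MulAction.exists_smul_eq G P P'
  refine ⟨g, ?_⟩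
  have h1 : ((g • P : Sylow 2 G) : Subgroup G) = H' := by rw [hg]
  rw [← h1, Sylow.coe_subgroup_smul]
  rfl

/-- images of Sylow subgroups under isomorphisms -/
theorem isSyl_map_equiv {G G' : Type*} [Group G] [Group G'] (e : G ≃* G') (H : Subgroup G) (h : IsSyl H) :
    IsSyl (H.map e.toMonoidHom) := by
  refine ⟨h.1.map _, ?_⟩
  intro K hK hle
  have h1 : K.comap e.toMonoidHom = H := by
    apply h.2
    · exact hK.comap_of_injective _ e.injective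
    · exact Subgroup.map_le_iff_le_comap.mp hle
  rw [← h1, Subgroup.map_comap_eq_self_of_surjective e.surjective]

theorem isSyl_map_conj {G : Type*} [Group G] (H : Subgroup G) (h : IsSyl H) (g : G) :
    IsSyl (H.map (MulAut.conj g).toMonoidHom) :=
  isSyl_map_equiv (MulAut.conj g) H h

end Cfsg.Agent.Lib.H60USSyl
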