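import Mathlib
import Cfsg.Agent.Lib.H60USDefs
import Cfsg.Agent.Lib.H60USSyl

set_option autoImplicit false

namespace Cfsg.Agent.Lib.H60USConj

open Equiv Cfsg.Agent.Lib.H60USDefs

theorem mem_map_conj {G : Type*} [Group G] (K : Subgroup G) (h g : G) :
    g ∈ K.map (MulAut.conj h).toMonoidHom ↔ h⁻¹ * g * h ∈ K := by
  constructor
  · rintro ⟨k, hk, rfl⟩
    have : h⁻¹ * (MulAut.conj h).toMonoidHom k * h = k := by
      show h⁻¹ * (MulAut.conj h k) * h = k
      rw [MulAut.conj_apply]; group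
    rw [this]; exact hk
  · intro hg
    refine ⟨h⁻¹ * g * h, hg, ?_⟩
    show MulAut.conj h (h⁻¹ * g * h) = g
    rw [MulAut.conj_apply]; group

theorem us_conj_aux {G : Type*} [Group G] (h x : G) (hx : US x) : US (h * x * h⁻¹) := by
  obtain ⟨H, ⟨hS, hxH⟩, huniq⟩ := hx
  refine ⟨H.map (MulAut.conj h).toMonoidHom, ⟨H60USSyl.isSyl_map_conj H hS h, ?_⟩, ?_⟩
  · rw [mem_map_conj]
    have : h⁻¹ * (h * x * h⁻¹) * h = x := by group
    rw [this]; exact hxH
  · rintro H' ⟨hS', hxH'⟩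
    have h1 : H'.map (MulAut.conj h⁻¹).toMonoidHom = H := by
      apply huniq
      refine ⟨H60USSyl.isSyl_map_conj H' hS' h⁻¹, ?_⟩
      rw [mem_map_conj, inv_inv]
      exact hxH'
    ext g
    rw [mem_map_conj, ← h1, mem_map_conj, inv_inv]
    have : h * (h⁻¹ * g * h) * h⁻¹ = g := by group
    rw [this]

theorem us_conj {G : Type*} [Group G] (h x : G) : US (h * x * h⁻¹) ↔ US x := by
  constructor
  · intro hx
    have := us_conj_aux h⁻¹ _ hx
    have e : h⁻¹ * (h * x * h⁻¹) * h⁻¹⁻¹ = x := by group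
    rwa [e] at this
  · exact us_conj_aux h x

/-- `conj_pow`. -/
theorem two_conj {G : Type*} [Group G] (h x : G) : Two (h * x * h⁻¹) ↔ Two x := by
  unfold Two
  simp only [conj_pow, conj_eq_one_iff]

/-- `Equiv.Perm.cycleType_conj`, `Equiv.Perm.card_support_conj`. -/
theorem good_conj {α : Type*} [Fintype α] [DecidableEq α] (h x : Perm α) : Good (h * x * h⁻¹) ↔ Good x := by
  unfold Good
  rw [Perm.cycleType_conj, Perm.card_support_conj]

theorem isMatch_conj {α : Type*} (h μ : Perm α) (hμ : IsMatch μ) : IsMatch (h * μ * h⁻¹) := by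
  refine ⟨?_, ?_⟩
  · have : h * μ * h⁻¹ * (h * μ * h⁻¹) = h * (μ * μ) * h⁻¹ := by group
    rw [this, hμ.1]; group
  · intro a b ha hb
    have key : ∀ c, (h * μ * h⁻¹) c = c → μ (h⁻¹ c) = h⁻¹ c := by
      intro c hc
      rw [Perm.mul_apply, Perm.mul_apply] at hc
      rw [Perm.eq_inv_iff_eq]
      exact hc
    exact h⁻¹.injective (hμ.2 _ _ (key a ha) (key b hb))

theorem rel_conj {α : Type*} [DecidableEq α] (P : Subgroup (Perm α)) (μ h : Perm α) (hr : Rel P μ) :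
    Rel (P.map (MulAut.conj h).toMonoidHom) (h * μ * h⁻¹) := by
  intro a
  refine ⟨swap (h⁻¹ a) (μ (h⁻¹ a)), hr _, ?_⟩
  show MulAut.conj h (swap (h⁻¹ a) (μ (h⁻¹ a))) = _
  rw [MulAut.conj_apply, ← Equiv.swap_apply_apply]
  simp

end Cfsg.Agent.Lib.H60USConj
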