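import Mathlib
import Cfsg.Agent.Lib.H60USDefs
import Cfsg.Agent.Lib.H60USConj

set_option autoImplicit false

namespace Cfsg.Agent.Lib.H60USAlt1

open Equiv Cfsg.Agent.Lib.H60USDefs

theorem sameCycle_match {α : Type*} [DecidableEq α] [Fintype α] (x μ : Perm α) (hμ : IsMatch μ) (hc : Commute μ x)
    (hu : UM x) (a : α) (ha : x a ≠ a) : x.SameCycle a (μ a) := by
  by_contra hn
  have hsc : ∀ z, x.SameCycle a (x⁻¹ z) ↔ x.SameCycle a z := fun z => Perm.sameCycle_symm_apply_right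
  set τ := x.cycleOf a with hτ
  have hτx : Commute τ x := by
    show τ * x = x * τ
    ext z
    rw [Perm.mul_apply, Perm.mul_apply, hτ, Perm.cycleOf_apply, Perm.cycleOf_apply]
    by_cases hz : x.SameCycle a z
    · rw [if_pos hz, if_pos (Perm.sameCycle_apply_right.2 hz)]
    · rw [if_neg hz, if_neg (fun h => hz (Perm.sameCycle_apply_right.1 h))]
  have h1 : IsMatch (τ * μ * τ⁻¹) := H60USConj.isMatch_conj τ μ hμ
  have h2 : Commute (τ * μ * τ⁻¹) x := (hτx.mul_left hc).mul_left hτx.inv_left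
  have h3 := hu _ _ h1 hμ h2 hc
  have h4 : τ * μ = μ * τ := by
    calc τ * μ = τ * μ * τ⁻¹ * τ := by group
      _ = μ * τ := by rw [h3]
  have h5 := congrArg (fun σ : Perm α => σ (x⁻¹ a)) h4
  simp only [Perm.mul_apply] at h5
  have hcomm : μ (x⁻¹ a) = x⁻¹ (μ a) := by
    have := congrArg (fun σ : Perm α => σ a) hc.inv_right.eq
    simpa only [Perm.mul_apply] using this
  have h6 : τ (x⁻¹ a) = a := by
    rw [hτ, Perm.cycleOf_apply, if_pos ((hsc a).2 (Perm.SameCycle.refl x a))]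
    simp
  have h7 : τ (x⁻¹ (μ a)) = x⁻¹ (μ a) := by
    rw [hτ, Perm.cycleOf_apply, if_neg (fun h => hn ((hsc _).1 h))]
  rw [h6, hcomm, h7] at h5
  have h8 : x (μ a) = μ a := by
    rw [Perm.inv_eq_iff_eq] at h5
    exact h5.symm
  have h9 : μ (x a) = μ a := by
    have := congrArg (fun σ : Perm α => σ a) hc.eq
    simp only [Perm.mul_apply] at this
    rw [this, h8]
  exact ha (μ.injective h9)

end Cfsg.Agent.Lib.H60USAlt1
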