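import Mathlib
import Cfsg.Agent.Lib.H60USDefs
import Cfsg.Agent.Lib.H60USConj

set_option autoImplicit false

namespace Cfsg.Agent.Lib.H60USAlt2

open Equiv Cfsg.Agent.Lib.H60USDefs

theorem aux {α : Type*} [DecidableEq α] (x μ : Perm α) (hμ : IsMatch μ) (hc : Commute μ x) (hu : UM x)
    (a c : α) (ha : x a = a) (hcx : x c = c) (hμa : μ a ≠ a) (hca : c ≠ a) (hcb : c ≠ μ a) : False := by
  have hb : x (μ a) = μ a := by
    have := congrArg (fun σ : Perm α => σ a) hc.eq
    simp only [Perm.mul_apply, ha] at this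
    exact this.symm
  set τ := swap (μ a) c with hτ
  have hτx : Commute τ x := by
    have h1 : x * τ * x⁻¹ = τ := by
      rw [hτ, ← Equiv.swap_apply_apply, hb, hcx]
    show τ * x = x * τ
    calc τ * x = x * τ * x⁻¹ * x := by rw [h1]
      _ = x * τ := by group
  have h1 : IsMatch (τ * μ * τ⁻¹) := H60USConj.isMatch_conj τ μ hμ
  have h2 : Commute (τ * μ * τ⁻¹) x := (hτx.mul_left hc).mul_left hτx.inv_left
  have h3 := hu _ _ h1 hμ h2 hc
  have h4 := congrArg (fun σ : Perm α => σ a) h3
  have hτi : τ⁻¹ = τ := by rw [hτ, swap_inv]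
  simp only [Perm.mul_apply, hτi] at h4
  have h5 : τ a = a := swap_apply_of_ne_of_ne hμa.symm hca.symm
  rw [h5, hτ, swap_apply_left] at h4
  exact hcb h4

theorem fix_le_two {α : Type*} [DecidableEq α] (x μ : Perm α) (hμ : IsMatch μ) (hc : Commute μ x) (hu : UM x) :
    ∀ a b c : α, x a = a → x b = b → x c = c → a = b ∨ a = c ∨ b = c := by
  intro a b c ha hb hcx
  by_contra hne
  push Not at hne
  obtain ⟨hab, hac, hbc⟩ := hne
  by_cases hμa : μ a = a
  · have hμb : μ b ≠ b := fun h => hab (hμ.2 a b hμa h)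
    apply aux x μ hμ hc hu b a hb ha hμb hab
    intro h
    have : μ a = μ b := by rw [hμa]; exact h
    exact hab (μ.injective this)
  · by_cases hbm : b = μ a
    · apply aux x μ hμ hc hu a c ha hcx hμa hac.symm
      rw [← hbm]; exact hbc.symm
    · exact aux x μ hμ hc hu a b ha hb hμa hab.symm hbm

end Cfsg.Agent.Lib.H60USAlt2
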