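import Mathlib
import Cfsg.Agent.Lib.H60USDefs
import Cfsg.Agent.Lib.H60USConj

set_option autoImplicit false

namespace Cfsg.Agent.Lib.H60USAlt3

open Equiv Cfsg.Agent.Lib.H60USDefs

/-- (iii)  Suppose `b ∉ {a, μ a}`.  `a' := μ a`, `b' := μ b`; `a, a', b, b'` are pairwise distinct; `x` swaps `a ↔ a'` and `b ↔ b'` (`x a' = x (μ a) = μ (x a) = μ (μ a) = a`).
`τ := swap a' b`, `μ' := τ μ τ⁻¹` (a matching involution): `μ'` maps `a ↦ b ↦ a`, `a' ↦ b' ↦ a'` and agrees with `μ` elsewhere.  `μ'` commutes with `x` (check on `a, a', b, b'`;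
elsewhere `x ω ∉ {a,a',b,b'}` and `μ' (x ω) = μ (x ω) = x (μ ω) = x (μ' ω)`).  `μ' a = b ≠ a' = μ a`: contradiction with `hu`. -/
theorem two_cycles {α : Type*} [DecidableEq α] (x μ : Perm α) (hμ : IsMatch μ) (hc : Commute μ x) (hu : UM x) (a b : α)
    (ha : x a = μ a) (hb : x b = μ b) (ha' : x a ≠ a) (hb' : x b ≠ b) : b = a ∨ b = μ a := by
  by_contra hcon
  push_neg at hcon
  obtain ⟨hba, hba'⟩ := hcon
  have hμμ : ∀ w, μ (μ w) = w := by
    intro w
    have := congrArg (fun f : Perm α => f w) hμ.1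
    simpa [Perm.mul_apply] using this
  have hcx : ∀ w, μ (x w) = x (μ w) := by
    intro w
    have := congrArg (fun f : Perm α => f w) hc.eq
    simpa [Perm.mul_apply] using this
  obtain ⟨a', haa⟩ : ∃ a', a' = μ a := ⟨_, rfl⟩
  obtain ⟨b', hbb⟩ : ∃ b', b' = μ b := ⟨_, rfl⟩
  have ma : μ a = a' := haa.symm
  have mb : μ b = b' := hbb.symm
  have ma' : μ a' = a := by rw [haa, hμμ]
  have mb' : μ b' = b := by rw [hbb, hμμ]
  have xa : x a = a' := by rw [ha, ma]
  have xb : x b = b' := by rw [hb, mb]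
  have xa' : x a' = a := by rw [← ma, ← hcx, xa, ma']
  have xb' : x b' = b := by rw [← mb, ← hcx, xb, mb']
  have n1 : a' ≠ a := by rw [← xa]; exact ha'
  have n2 : b' ≠ b := by rw [← xb]; exact hb'
  have n3 : b ≠ a' := by rw [← ma]; exact hba'
  have n4 : b' ≠ a' := by
    intro h
    apply hba
    rw [← mb', ← ma', h]
  have n5 : b' ≠ a := by
    intro h
    apply n3
    rw [← mb', h, ma]
  set τ : Perm α := swap a' b with hτ
  have t1 : τ a' = b := swap_apply_left _ _
  have t2 : τ b = a' := swap_apply_right _ _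
  have t3 : ∀ w, w ≠ a' → w ≠ b → τ w = w := fun w h1 h2 => swap_apply_of_ne_of_ne h1 h2
  have hM : IsMatch (τ * μ * τ⁻¹) := H60USConj.isMatch_conj τ μ hμ
  have hform : ∀ w, (τ * μ * τ⁻¹) w = τ (μ (τ w)) := by
    intro w
    rw [hτ, swap_inv]
    rfl
  have pa : (τ * μ * τ⁻¹) a = b := by rw [hform, t3 a n1.symm hba.symm, ma, t1]
  have pb : (τ * μ * τ⁻¹) b = a := by rw [hform, t2, ma', t3 a n1.symm hba.symm]
  have pa' : (τ * μ * τ⁻¹) a' = b' := by rw [hform, t1, mb, t3 b' n4 n2]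
  have pb' : (τ * μ * τ⁻¹) b' = a' := by rw [hform, t3 b' n4 n2, mb', t2]
  have pother : ∀ w, w ≠ a → w ≠ a' → w ≠ b → w ≠ b' → (τ * μ * τ⁻¹) w = μ w := by
    intro w h1 h2 h3 h4
    rw [hform, t3 w h2 h3]
    apply t3
    · intro h
      apply h1
      rw [← hμμ w, h, ma']
    · intro h
      apply h4
      rw [← hμμ w, h, mb]
  have hcomm : Commute (τ * μ * τ⁻¹) x := by
    apply Equiv.ext
    intro w
    show (τ * μ * τ⁻¹) (x w) = x ((τ * μ * τ⁻¹) w)
    by_cases h1 : w = a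
    · rw [h1, xa, pa', pa, xb]
    by_cases h2 : w = a'
    · rw [h2, xa', pa, pa', xb']
    by_cases h3 : w = b
    · rw [h3, xb, pb', pb, xa]
    by_cases h4 : w = b'
    · rw [h4, xb', pb, pb', xa']
    rw [pother w h1 h2 h3 h4, ← hcx]
    apply pother
    · intro h
      apply h2
      apply x.injective
      rw [h, xa']
    · intro h
      apply h1
      apply x.injective
      rw [h, xa]
    · intro h
      apply h4
      apply x.injective
      rw [h, xb']
    · intro h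
      apply h3
      apply x.injective
      rw [h, xb]
  have heq := hu μ (τ * μ * τ⁻¹) hμ hM hc hcomm
  have : μ a = (τ * μ * τ⁻¹) a := by rw [← heq]
  rw [pa, ma] at this
  exact n3 this.symm

end Cfsg.Agent.Lib.H60USAlt3
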