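import Mathlib
import Cfsg.Agent.Lib.H60USDefs

set_option autoImplicit false

namespace Cfsg.Agent.Lib.H60USUniq

open Equiv Cfsg.Agent.Lib.H60USDefs

theorem no_triangle {α : Type*} [DecidableEq α] (P : Subgroup (Perm α)) (hP : IsPGroup 2 P) (a b c : α)
    (hab : a ≠ b) (hac : a ≠ c) (hbc : b ≠ c) (h1 : swap a b ∈ P) (h2 : swap a c ∈ P) : False := by
  set g := swap a b * swap a c with hg
  have hgP : g ∈ P := P.mul_mem h1 h2
  have ga : g a = c := by
    rw [hg, Perm.mul_apply, swap_apply_left, swap_apply_of_ne_of_ne hac.symm hbc.symm]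
  have gc : g c = b := by
    rw [hg, Perm.mul_apply, swap_apply_right, swap_apply_left]
  have gb : g b = a := by
    rw [hg, Perm.mul_apply, swap_apply_of_ne_of_ne hab.symm hbc, swap_apply_right]
  have h3 : ∀ m : ℕ, (g ^ (3 * m)) a = a := by
    intro m
    induction m with
    | zero => simp
    | succ m ih =>
      have : g ^ (3 * (m + 1)) = g ^ (3 * m) * (g * g * g) := by
        rw [Nat.mul_succ, pow_add]
        congr 1
      rw [this, Perm.mul_apply]
      simp only [Perm.mul_apply, ga, gc, gb, ih]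
  obtain ⟨k, hk⟩ := hP ⟨g, hgP⟩
  have hk' : g ^ (2 ^ k) = 1 := by
    have := congrArg Subtype.val hk
    simpa using this
  have hmod : 2 ^ k % 3 = 1 ∨ 2 ^ k % 3 = 2 := by
    have : ¬ (3 ∣ 2 ^ k) := by
      intro h
      have := (Nat.prime_three).dvd_of_dvd_pow h
      omega
    omega
  have hdm := Nat.div_add_mod (2 ^ k) 3
  have hka : (g ^ (2 ^ k)) a = a := by rw [hk']; rfl
  rcases hmod with h | h
  · rw [← hdm, h, pow_add, pow_one, Perm.mul_apply, ga] at hka
    have h4 := h3 (2 ^ k / 3)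
    have := (g ^ (3 * (2 ^ k / 3))).injective (hka.trans h4.symm)
    exact hac this.symm
  · rw [← hdm, h, pow_add, pow_two, Perm.mul_apply, Perm.mul_apply, ga, gc] at hka
    have h4 := h3 (2 ^ k / 3)
    have := (g ^ (3 * (2 ^ k / 3))).injective (hka.trans h4.symm)
    exact hab this.symm

theorem match_aux {α : Type*} [DecidableEq α] (P : Subgroup (Perm α)) (hP : IsPGroup 2 P) (μ μ' : Perm α)
    (hμ : IsMatch μ) (h : Rel P μ) (h' : Rel P μ') (a : α) (ha : μ a = a) : μ' a = a := by
  by_contra hne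
  set b := μ' a with hb
  have hbfix : μ b ≠ b := by
    intro hfix
    exact hne (hμ.2 b a hfix ha)
  have hca : μ b ≠ a := by
    intro hba
    have : μ b = μ a := by rw [hba, ha]
    exact hne (μ.injective this)
  have h1 : swap b (μ b) ∈ P := h b
  have h2 : swap b a ∈ P := by
    rw [swap_comm]; exact h' a
  exact no_triangle P hP b (μ b) a hbfix.symm hne hca h1 h2

theorem match_unique {α : Type*} [DecidableEq α] (P : Subgroup (Perm α)) (hP : IsPGroup 2 P) (μ μ' : Perm α)
    (hμ : IsMatch μ) (hμ' : IsMatch μ') (h : Rel P μ) (h' : Rel P μ') : μ = μ' := by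
  ext a
  by_cases ha : μ a = a
  · rw [ha, match_aux P hP μ μ' hμ h h' a ha]
  · by_cases ha' : μ' a = a
    · exact absurd (match_aux P hP μ' μ hμ' h' h a ha') ha
    · by_contra hne
      exact no_triangle P hP a (μ a) (μ' a) (Ne.symm ha) (Ne.symm ha') hne (h a) (h' a)

end Cfsg.Agent.Lib.H60USUniq
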