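import Mathlib
import Cfsg.Agent.Lib.H60USDefs
import Cfsg.Agent.Lib.H60USUniq
import Cfsg.Agent.Lib.H60USConj

set_option autoImplicit false

namespace Cfsg.Agent.Lib.H60USComm

open Equiv Cfsg.Agent.Lib.H60USDefs

theorem commute_of_mem {α : Type*} [DecidableEq α] (P : Subgroup (Perm α)) (hP : IsPGroup 2 P) (μ : Perm α)
    (hμ : IsMatch μ) (h : Rel P μ) (x : Perm α) (hx : x ∈ P) : Commute μ x := by
  have h1 : IsMatch (x * μ * x⁻¹) := H60USConj.isMatch_conj x μ hμ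
  have h2 : Rel P (x * μ * x⁻¹) := by
    intro a
    have h3 := h (x⁻¹ a)
    have e : swap a ((x * μ * x⁻¹) a) = x * swap (x⁻¹ a) (μ (x⁻¹ a)) * x⁻¹ := by
      rw [← Equiv.swap_apply_apply]; simp
    rw [e]
    exact P.mul_mem (P.mul_mem hx h3) (P.inv_mem hx)
  have h3 := H60USUniq.match_unique P hP _ μ h1 hμ h2 h
  show μ * x = x * μ
  calc μ * x = x * μ * x⁻¹ * x := by rw [h3]
    _ = x * μ := by group

end Cfsg.Agent.Lib.H60USComm
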