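import Mathlib
import Cfsg.Agent.Lib.H60USDefs

set_option autoImplicit false

namespace Cfsg.Agent.Lib.H60USLiftMono

open Equiv Cfsg.Agent.Lib.H60USDefs

theorem Lift_mono {B F : Type*} {Q Q' : Subgroup (Perm B)} (h : Q ≤ Q') :
    (Lift Q : Subgroup (Perm (Dbl B F))) ≤ Lift Q' := by
  rintro g ⟨σ, hσ, hg⟩
  exact ⟨σ, h hσ, hg⟩

/-- use `hat F σ` (`over_hat`) and `mem_Lift_iff`. -/
theorem le_of_Lift_le {B F : Type*} {Q Q' : Subgroup (Perm B)}
    (h : (Lift Q : Subgroup (Perm (Dbl B F))) ≤ Lift Q') : Q ≤ Q' := by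
  intro σ hσ
  have h1 : hat F σ ∈ (Lift Q : Subgroup (Perm (Dbl B F))) := (mem_Lift_iff (over_hat σ)).2 hσ
  exact (mem_Lift_iff (over_hat σ)).1 (h h1)

theorem Lift_injective {B F : Type*} {Q Q' : Subgroup (Perm B)}
    (h : (Lift Q : Subgroup (Perm (Dbl B F))) = Lift Q') : Q = Q' :=
  le_antisymm (le_of_Lift_le h.le) (le_of_Lift_le h.ge)

/-- (L5) `swap a (μ₀ a)` lies over `1`. -/
theorem rel_Lift {B F : Type*} [DecidableEq B] [DecidableEq F] (Q : Subgroup (Perm B)) :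
    Rel (Lift Q : Subgroup (Perm (Dbl B F))) (mu0 B F) := by
  intro a
  refine ⟨1, Q.one_mem, ?_⟩
  rcases a with ⟨b, i⟩ | f
  · intro c k
    rw [mu0_inl, Perm.one_apply]
    by_cases h1 : (Sum.inl (c, k) : Dbl B F) = Sum.inl (b, i)
    · rw [h1, swap_apply_left]
      simp only [Sum.inl.injEq, Prod.mk.injEq] at h1
      exact ⟨!i, by rw [h1.1]⟩
    · by_cases h2 : (Sum.inl (c, k) : Dbl B F) = Sum.inl (b, !i)
      · rw [h2, swap_apply_right]
        simp only [Sum.inl.injEq, Prod.mk.injEq] at h2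
        exact ⟨i, by rw [h2.1]⟩
      · rw [swap_apply_of_ne_of_ne h1 h2]
        exact ⟨k, rfl⟩
  · rw [mu0_inr, swap_self]
    exact over_one

end Cfsg.Agent.Lib.H60USLiftMono
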