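import Mathlib
import Cfsg.Agent.Lib.H60USDefs

set_option autoImplicit false

namespace Cfsg.Agent.Lib.H60USOverOne

open Equiv Cfsg.Agent.Lib.H60USDefs

/-- `g (inr f) = inr f`: if `g (inr f) = inl (b, i)` then by `over_inv`, `g⁻¹ (inl (b, i)) = inl (_, _) ≠ inr f`. Then `Subsingleton F`. -/
theorem apply_inr {B F : Type*} [Subsingleton F] (g : Perm (Dbl B F)) (σ : Perm B) (hg : Over g σ) (f : F) :
    g (Sum.inr f) = Sum.inr f := by
  rcases h : g (Sum.inr f) with ⟨b, i⟩ | f'
  · exfalso
    obtain ⟨j, hj⟩ := over_inv hg b i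
    rw [← h] at hj
    simp at hj
  · rw [Subsingleton.elim f' f]

/-- an element over `1` permutes each fibre `{inl (b, false), inl (b, true)}` and fixes `inr f`. -/
theorem sq_eq_one {B F : Type*} [Subsingleton F] (g : Perm (Dbl B F)) (hg : Over g 1) : g * g = 1 := by
  ext a
  rcases a with ⟨b, i⟩ | f
  · rw [Perm.mul_apply, Perm.one_apply]
    obtain ⟨j, hj⟩ := hg b i
    obtain ⟨k, hk⟩ := hg b j
    rw [Perm.one_apply] at hj hk
    rw [hj, hk]
    by_cases hji : j = i
    · subst hji
      rw [hj] at hk
      exact hk.symm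
    · have hkj : k ≠ j := by
        rintro rfl
        have := g.injective (hj.trans hk.symm)
        simp only [Sum.inl.injEq, Prod.mk.injEq, true_and] at this
        exact hji this.symm
      have : k = i := by
        cases i <;> cases j <;> cases k <;> simp_all
      rw [this]
  · rw [Perm.mul_apply, apply_inr g 1 hg, apply_inr g 1 hg, Perm.one_apply]

end Cfsg.Agent.Lib.H60USOverOne
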