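import Mathlib
import Cfsg.Agent.Lib.H60USDefs
import Cfsg.Agent.Lib.H60USOverOne

set_option autoImplicit false

namespace Cfsg.Agent.Lib.H60USLiftP

open Equiv Cfsg.Agent.Lib.H60USDefs

/-- `g` over `σ ∈ Q`, `σ ^ 2 ^ k = 1` (as an element of the 2-group `Q`) ⇒ `g ^ 2 ^ k` is over `1` (`over_pow`) ⇒ `g ^ 2 ^ (k+1) = 1`
(`H60USOverOne.sq_eq_one`). -/
theorem isPGroup_Lift {B F : Type*} [Subsingleton F] (Q : Subgroup (Perm B)) (hQ : IsPGroup 2 Q) :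
    IsPGroup 2 (Lift Q : Subgroup (Perm (Dbl B F))) := by
  rintro ⟨g, σ, hσ, hg⟩
  obtain ⟨k, hk⟩ := hQ ⟨σ, hσ⟩
  have hk' : σ ^ 2 ^ k = 1 := by
    have := congrArg Subtype.val hk
    simpa using this
  refine ⟨k + 1, ?_⟩
  apply Subtype.ext
  have h1 := over_pow hg (2 ^ k)
  rw [hk'] at h1
  have h2 := Cfsg.Agent.Lib.H60USOverOne.sq_eq_one _ h1
  change g ^ 2 ^ (k + 1) = 1
  rw [pow_succ, pow_mul, pow_two, h2]

end Cfsg.Agent.Lib.H60USLiftP
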