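import Mathlib
import Cfsg.Agent.Lib.H60USDefs

set_option autoImplicit false

namespace Cfsg.Agent.Lib.H60USMu0

open Equiv Cfsg.Agent.Lib.H60USDefs

theorem isMatch_mu0 (B F : Type*) [Subsingleton F] : IsMatch (mu0 B F) := by
  constructor
  · ext a
    rcases a with ⟨b, i⟩ | f
    · simp [Perm.mul_apply]
    · simp [Perm.mul_apply]
  · intro a b ha hb
    rcases a with ⟨a, i⟩ | f
    · simp at ha
    · rcases b with ⟨b, j⟩ | f'
      · simp at hb
      · rw [Subsingleton.elim f f']

theorem cycleType_of_isMatch {α : Type*} [Fintype α] [DecidableEq α] (μ : Perm α) (hμ : IsMatch μ) :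
    μ.cycleType = Multiset.replicate (Fintype.card α / 2) 2 := by
  have hall : ∀ n ∈ μ.cycleType, n = 2 := by
    intro n hn
    have h1 : n ∣ orderOf μ := Perm.dvd_of_mem_cycleType hn
    have h2 : orderOf μ ∣ 2 := orderOf_dvd_of_pow_eq_one (by rw [pow_two]; exact hμ.1)
    have h3 : 2 ≤ n := Perm.two_le_of_mem_cycleType hn
    have h4 : n ≤ 2 := Nat.le_of_dvd (by norm_num) (h1.trans h2)
    omega
  have hrep : μ.cycleType = Multiset.replicate (Multiset.card μ.cycleType) 2 :=
    Multiset.eq_replicate_card.mpr hall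
  have hsum : μ.cycleType.sum = μ.support.card := Perm.sum_cycleType μ
  have hsum2 : μ.cycleType.sum = Multiset.card μ.cycleType * 2 := by
    conv_lhs => rw [hrep]
    rw [Multiset.sum_replicate, smul_eq_mul]
  have hc : μ.supportᶜ.card = Fintype.card α - μ.support.card := Finset.card_compl _
  have hle : μ.support.card ≤ Fintype.card α := Finset.card_le_univ _
  have h1 : μ.supportᶜ.card ≤ 1 := by
    rw [Finset.card_le_one]
    intro a ha b hb
    apply hμ.2
    · simpa [Perm.mem_support] using ha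
    · simpa [Perm.mem_support] using hb
  rw [hrep]
  congr 1
  omega

theorem exists_conj_mu0 {B F : Type*} [Fintype B] [DecidableEq B] [Fintype F] [DecidableEq F] [Subsingleton F]
    (μ : Perm (Dbl B F)) (hμ : IsMatch μ) : ∃ h : Perm (Dbl B F), μ = h * mu0 B F * h⁻¹ := by
  have h1 : IsConj (mu0 B F) μ := by
    rw [Perm.isConj_iff_cycleType_eq, cycleType_of_isMatch μ hμ,
      cycleType_of_isMatch _ (isMatch_mu0 B F)]
  obtain ⟨c, hc⟩ := isConj_iff.mp h1
  exact ⟨c, hc.symm⟩

end Cfsg.Agent.Lib.H60USMu0
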