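import Mathlib
import Cfsg.Agent.Lib.H60USDefs
import Cfsg.Agent.Lib.H60USSyl
import Cfsg.Agent.Lib.H60USConj
import Cfsg.Agent.Lib.H60USMu0
import Cfsg.Agent.Lib.H60USLiftP
import Cfsg.Agent.Lib.H60USLiftMono

set_option autoImplicit false

namespace Cfsg.Agent.Lib.H60USEx1

open Equiv Cfsg.Agent.Lib.H60USDefs

variable {B F : Type*} [Fintype B] [DecidableEq B] [Fintype F] [DecidableEq F] [Subsingleton F]

/-- Lemma 1. -/
theorem exists_match (P : Subgroup (Perm (Dbl B F))) (hP : IsSyl P) : ∃ μ, IsMatch μ ∧ Rel P μ := by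
  have hbot : IsPGroup 2 (⊥ : Subgroup (Perm B)) := IsPGroup.of_bot
  obtain ⟨P₀, hP₀, hle⟩ := H60USSyl.exists_isSyl (Lift (⊥ : Subgroup (Perm B)) : Subgroup (Perm (Dbl B F)))
    (H60USLiftP.isPGroup_Lift _ hbot)
  have hr : Rel P₀ (mu0 B F) := fun a => hle (H60USLiftMono.rel_Lift _ a)
  obtain ⟨g, rfl⟩ := H60USSyl.isSyl_conj P₀ P hP₀ hP
  exact ⟨g * mu0 B F * g⁻¹, H60USConj.isMatch_conj g _ (H60USMu0.isMatch_mu0 B F),
    H60USConj.rel_conj P₀ _ g hr⟩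

end Cfsg.Agent.Lib.H60USEx1
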