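import Mathlib
import Cfsg.Agent.Lib.H60USDefs

set_option autoImplicit false

namespace Cfsg.Agent.Lib.H60USOverEx

open Equiv Cfsg.Agent.Lib.H60USDefs

/-- a point not fixed by `μ₀` is of the form `inl` -/
theorem exists_inl {B F : Type*} (g : Perm (Dbl B F)) (hg : Commute g (mu0 B F)) (b : B) (i : Bool) :
    ∃ c j, g (Sum.inl (b, i)) = Sum.inl (c, j) := by
  rcases h : g (Sum.inl (b, i)) with ⟨c, j⟩ | f
  · exact ⟨c, j, rfl⟩
  · exfalso
    have h1 : g (mu0 B F (Sum.inl (b, i))) = mu0 B F (g (Sum.inl (b, i))) := by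
      have := congrArg (fun p : Perm (Dbl B F) => p (Sum.inl (b, i))) hg.eq
      simpa [Perm.mul_apply] using this
    rw [h, mu0_inr, ← h] at h1
    have := g.injective h1
    simp at this

theorem flip_apply {B F : Type*} (g : Perm (Dbl B F)) (hg : Commute g (mu0 B F)) (b : B) (i : Bool) (c : B) (j : Bool)
    (h : g (Sum.inl (b, i)) = Sum.inl (c, j)) : g (Sum.inl (b, !i)) = Sum.inl (c, !j) := by
  have h1 : g (mu0 B F (Sum.inl (b, i))) = mu0 B F (g (Sum.inl (b, i))) := by
    have := congrArg (fun p : Perm (Dbl B F) => p (Sum.inl (b, i))) hg.eq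
    simpa [Perm.mul_apply] using this
  rw [h, mu0_inl, mu0_inl] at h1
  exact h1

/-- (L7) -/
theorem exists_over {B F : Type*} [Finite B] (g : Perm (Dbl B F)) (hg : Commute g (mu0 B F)) :
    ∃ σ : Perm B, Over g σ := by
  choose s t hst using fun b => exists_inl g hg b false
  have hinj : Function.Injective s := by
    intro b b' hbb
    have h1 := hst b
    have h2 := hst b'
    rw [← hbb] at h2
    by_cases ht : t b = t b'
    · rw [← ht, ← h1] at h2
      have := g.injective h2
      simp only [Sum.inl.injEq, Prod.mk.injEq, and_true] at this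
      exact this.symm
    · have h3 := flip_apply g hg b false _ _ h1
      have h4 : (!t b) = t b' := by
        cases h5 : t b <;> cases h6 : t b' <;> simp_all
      rw [h4, ← h2] at h3
      have := g.injective h3
      simp at this
  refine ⟨Equiv.ofBijective s (Finite.injective_iff_bijective.1 hinj), ?_⟩
  intro b i
  rw [Equiv.ofBijective_apply]
  cases i
  · exact ⟨t b, hst b⟩
  · exact ⟨!t b, flip_apply g hg b false _ _ (hst b)⟩

end Cfsg.Agent.Lib.H60USOverEx
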