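import Mathlib
import Cfsg.Agent.Lib.H60USDefs
import Cfsg.Agent.Lib.H60USComm
import Cfsg.Agent.Lib.H60USMu0
import Cfsg.Agent.Lib.H60USOverEx
import Cfsg.Agent.Lib.H60USLiftP
import Cfsg.Agent.Lib.H60USLiftMono

set_option autoImplicit false

namespace Cfsg.Agent.Lib.H60USL6

open Equiv Cfsg.Agent.Lib.H60USDefs

variable {B F : Type*} [Fintype B] [DecidableEq B] [Fintype F] [DecidableEq F] [Subsingleton F]

/-- (L6) -/
theorem exists_of_rel (P : Subgroup (Perm (Dbl B F))) (hP : IsSyl P) (hr : Rel P (mu0 B F)) :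
    ∃ Q : Subgroup (Perm B), IsSyl Q ∧ P = Lift Q := by
  let Q : Subgroup (Perm B) :=
    { carrier := {σ | ∃ g ∈ P, Over g σ}
      mul_mem' := by
        rintro σ σ' ⟨g, hg, h⟩ ⟨g', hg', h'⟩
        exact ⟨g * g', P.mul_mem hg hg', over_mul h h'⟩
      one_mem' := ⟨1, P.one_mem, over_one⟩
      inv_mem' := by
        rintro σ ⟨g, hg, h⟩
        exact ⟨g⁻¹, P.inv_mem hg, over_inv h⟩ }
  have hQ2 : IsPGroup 2 Q := by
    rintro ⟨σ, g, hg, h⟩
    obtain ⟨k, hk⟩ := hP.1 ⟨g, hg⟩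
    refine ⟨k, Subtype.ext ?_⟩
    have hk' : g ^ 2 ^ k = 1 := congrArg Subtype.val hk
    have h1 := over_pow h (2 ^ k)
    rw [hk'] at h1
    exact over_unique h1 over_one
  have hle : P ≤ (Lift Q : Subgroup (Perm (Dbl B F))) := by
    intro g hg
    have hc := H60USComm.commute_of_mem P hP.1 (mu0 B F) (H60USMu0.isMatch_mu0 B F) hr g hg
    obtain ⟨σ, hσ⟩ := H60USOverEx.exists_over g hc.symm
    exact ⟨σ, ⟨g, hg, hσ⟩, hσ⟩
  have hPQ : (Lift Q : Subgroup (Perm (Dbl B F))) = P :=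
    hP.2 _ (H60USLiftP.isPGroup_Lift Q hQ2) hle
  refine ⟨Q, ⟨hQ2, ?_⟩, hPQ.symm⟩
  intro Q' hQ' hQQ'
  have h1 : P ≤ (Lift Q' : Subgroup (Perm (Dbl B F))) := by
    rw [← hPQ]; exact H60USLiftMono.Lift_mono hQQ'
  have h2 := hP.2 _ (H60USLiftP.isPGroup_Lift Q' hQ') h1
  exact H60USLiftMono.Lift_injective (F := F) (h2.trans hPQ.symm)

end Cfsg.Agent.Lib.H60USL6
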