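import Mathlib
import Cfsg.Agent.Lib.H60USDefs
import Cfsg.Agent.Lib.H60USL6
import Cfsg.Agent.Lib.H60USSyl
import Cfsg.Agent.Lib.H60USLiftP
import Cfsg.Agent.Lib.H60USLiftMono

set_option autoImplicit false

namespace Cfsg.Agent.Lib.H60USL3

open Equiv Cfsg.Agent.Lib.H60USDefs

variable {B F : Type*} [Fintype B] [DecidableEq B] [Fintype F] [DecidableEq F] [Subsingleton F]

/-- (L3) -/
theorem isSyl_Lift (Q : Subgroup (Perm B)) (hQ : IsSyl Q) : IsSyl (Lift Q : Subgroup (Perm (Dbl B F))) := by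
  obtain ⟨P, hP, hle⟩ := H60USSyl.exists_isSyl (Lift Q : Subgroup (Perm (Dbl B F)))
    (H60USLiftP.isPGroup_Lift Q hQ.1)
  have hr : Rel P (mu0 B F) := fun a => hle (H60USLiftMono.rel_Lift Q a)
  obtain ⟨Q', hQ', rfl⟩ := H60USL6.exists_of_rel P hP hr
  have h1 : Q ≤ Q' := H60USLiftMono.le_of_Lift_le hle
  have h2 := hQ.2 Q' hQ'.1 h1
  rw [← h2]
  exact hP

end Cfsg.Agent.Lib.H60USL3
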