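import Mathlib
import Cfsg.Agent.Lib.H60USDefs
import Cfsg.Agent.Lib.H60USSyl
import Cfsg.Agent.Lib.H60USConj
import Cfsg.Agent.Lib.H60USMu0
import Cfsg.Agent.Lib.H60USOverEx
import Cfsg.Agent.Lib.H60USL3
import Cfsg.Agent.Lib.H60USLiftMono

set_option autoImplicit false

namespace Cfsg.Agent.Lib.H60USLemA

open Equiv Cfsg.Agent.Lib.H60USDefs

variable {B F : Type*} [Fintype B] [DecidableEq B] [Fintype F] [DecidableEq F] [Subsingleton F]

/-- Lemma A. -/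
theorem exists_syl_of_match (x μ : Perm (Dbl B F)) (hx : Two x) (hμ : IsMatch μ) (hc : Commute μ x) :
    ∃ P : Subgroup (Perm (Dbl B F)), IsSyl P ∧ x ∈ P ∧ Rel P μ := by
  obtain ⟨h, rfl⟩ := H60USMu0.exists_conj_mu0 μ hμ
  have hy2 : Two (h⁻¹ * x * h) := by
    have := (H60USConj.two_conj h⁻¹ x).2 hx
    rwa [inv_inv] at this
  have hyc : Commute (h⁻¹ * x * h) (mu0 B F) := by
    have e : h * mu0 B F * h⁻¹ * x = x * (h * mu0 B F * h⁻¹) := hc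
    show h⁻¹ * x * h * mu0 B F = mu0 B F * (h⁻¹ * x * h)
    calc h⁻¹ * x * h * mu0 B F = h⁻¹ * (x * (h * mu0 B F * h⁻¹)) * h := by group
      _ = h⁻¹ * (h * mu0 B F * h⁻¹ * x) * h := by rw [e]
      _ = _ := by group
  obtain ⟨yb, hyb⟩ := H60USOverEx.exists_over _ hyc
  obtain ⟨Q, hQ, hybQ⟩ := H60USSyl.exists_isSyl_mem yb (two_of_over hyb hy2)
  refine ⟨(Lift Q : Subgroup (Perm (Dbl B F))).map (MulAut.conj h).toMonoidHom,
    H60USSyl.isSyl_map_conj _ (H60USL3.isSyl_Lift Q hQ) h, ?_,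
    H60USConj.rel_conj _ _ h (H60USLiftMono.rel_Lift Q)⟩
  refine ⟨h⁻¹ * x * h, (mem_Lift_iff hyb).2 hybQ, ?_⟩
  show h * (h⁻¹ * x * h) * h⁻¹ = x
  group

end Cfsg.Agent.Lib.H60USLemA
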