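import Mathlib
import Cfsg.Agent.Lib.H60USDefs
import Cfsg.Agent.Lib.H60USSyl
import Cfsg.Agent.Lib.H60USUniq
import Cfsg.Agent.Lib.H60USComm
import Cfsg.Agent.Lib.H60USMu0
import Cfsg.Agent.Lib.H60USL6
import Cfsg.Agent.Lib.H60USL3
import Cfsg.Agent.Lib.H60USEx1
import Cfsg.Agent.Lib.H60USLemA
import Cfsg.Agent.Lib.H60USLiftMono

set_option autoImplicit false

namespace Cfsg.Agent.Lib.H60USE

open Equiv Cfsg.Agent.Lib.H60USDefs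

variable {B F : Type*} [Fintype B] [DecidableEq B] [Fintype F] [DecidableEq F] [Subsingleton F]

/-- (E). -/
theorem us_iff_um (x : Perm (Dbl B F)) (xb : Perm B) (hx : Two x) (hc : Commute (mu0 B F) x) (ho : Over x xb) :
    US x ↔ (UM x ∧ US xb) := by
  constructor
  · rintro ⟨P, ⟨hP, hxP⟩, huniq⟩
    refine ⟨?_, ?_⟩
    · intro μ μ' hμ hμ' hcμ hcμ'
      obtain ⟨P1, hP1, hx1, hr1⟩ := H60USLemA.exists_syl_of_match x μ hx hμ hcμ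
      obtain ⟨P2, hP2, hx2, hr2⟩ := H60USLemA.exists_syl_of_match x μ' hx hμ' hcμ'
      have e1 := huniq P1 ⟨hP1, hx1⟩
      have e2 := huniq P2 ⟨hP2, hx2⟩
      rw [e1] at hr1
      rw [e2] at hr2
      exact H60USUniq.match_unique _ hP.1 μ μ' hμ hμ' hr1 hr2
    · obtain ⟨Q, hQ, hxQ⟩ := H60USSyl.exists_isSyl_mem xb (two_of_over ho hx)
      refine ⟨Q, ⟨hQ, hxQ⟩, ?_⟩
      rintro Q' ⟨hQ', hxQ'⟩
      have e1 := huniq (Lift Q) ⟨H60USL3.isSyl_Lift Q hQ, (mem_Lift_iff ho).2 hxQ⟩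
      have e2 := huniq (Lift Q') ⟨H60USL3.isSyl_Lift Q' hQ', (mem_Lift_iff ho).2 hxQ'⟩
      exact H60USLiftMono.Lift_injective (e2.trans e1.symm)
  · rintro ⟨hu, Q, ⟨hQ, hxQ⟩, huniq⟩
    refine ⟨Lift Q, ⟨H60USL3.isSyl_Lift Q hQ, (mem_Lift_iff ho).2 hxQ⟩, ?_⟩
    rintro P ⟨hP, hxP⟩
    obtain ⟨μ, hμ, hr⟩ := H60USEx1.exists_match P hP
    have hcμ := H60USComm.commute_of_mem P hP.1 μ hμ hr x hxP
    have hμ0 : μ = mu0 B F := hu μ _ hμ (H60USMu0.isMatch_mu0 B F) hcμ hc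
    rw [hμ0] at hr
    obtain ⟨Q', hQ', rfl⟩ := H60USL6.exists_of_rel P hP hr
    have := huniq Q' ⟨hQ', (mem_Lift_iff ho).1 hxP⟩
    rw [this]

end Cfsg.Agent.Lib.H60USE
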