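import Mathlib
import Cfsg.Agent.Lib.H60USDefs

set_option autoImplicit false

namespace Cfsg.Agent.Lib.H60USGoodA

open Equiv Cfsg.Agent.Lib.H60USDefs

theorem card_le_iff {α : Type*} [Fintype α] [DecidableEq α] (x : Perm α) :
    Fintype.card α ≤ x.support.card + 2 ↔
      ∀ a b c : α, x a = a → x b = b → x c = c → a = b ∨ a = c ∨ b = c := by
  have hc : x.supportᶜ.card = Fintype.card α - x.support.card := Finset.card_compl _
  have hle : x.support.card ≤ Fintype.card α := Finset.card_le_univ _
  have hmem : ∀ a, a ∈ x.supportᶜ ↔ x a = a := by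
    intro a; simp [Perm.mem_support]
  constructor
  · intro h a b c ha hb hc'
    by_contra hcon
    push Not at hcon
    have : 2 < x.supportᶜ.card :=
      Finset.two_lt_card.mpr ⟨a, (hmem a).mpr ha, b, (hmem b).mpr hb, c, (hmem c).mpr hc',
        hcon.1, hcon.2.1, hcon.2.2⟩
    omega
  · intro h
    by_contra hcon
    have : 2 < x.supportᶜ.card := by omega
    obtain ⟨a, ha, b, hb, c, hc, hab, hac, hbc⟩ := Finset.two_lt_card.mp this
    rcases h a b c ((hmem a).mp ha) ((hmem b).mp hb) ((hmem c).mp hc) with h | h | h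
    · exact hab h
    · exact hac h
    · exact hbc h

end Cfsg.Agent.Lib.H60USGoodA
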