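import Mathlib
import Cfsg.Agent.Lib.H60USDefs

set_option autoImplicit false

namespace Cfsg.Agent.Lib.H60USGoodB

open Equiv Cfsg.Agent.Lib.H60USDefs

theorem card_support_cycleOf {α : Type*} [Fintype α] [DecidableEq α] (x : Perm α) (a : α) (ha : x a ≠ a) :
    (x.cycleOf a).support.card = Function.minimalPeriod x a := by
  have hcyc : (x.cycleOf a).IsCycle := Perm.isCycle_cycleOf x ha
  have hperiod : ∀ n, (x ^ n) a = a ↔ Function.minimalPeriod x a ∣ n := by
    intro n
    rw [← Function.isPeriodicPt_iff_minimalPeriod_dvd]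
    unfold Function.IsPeriodicPt Function.IsFixedPt
    rw [Perm.iterate_eq_pow]
  apply Nat.dvd_antisymm
  · rw [← hcyc.orderOf]
    apply orderOf_dvd_of_pow_eq_one
    rw [hcyc.pow_eq_one_iff]
    refine ⟨a, ?_, ?_⟩
    · rw [Perm.cycleOf_apply_self]; exact ha
    · rw [Perm.cycleOf_pow_apply_self, hperiod]
  · rw [← hperiod]
    have := Perm.pow_mod_card_support_cycleOf_self_apply x (x.cycleOf a).support.card a
    rw [Nat.mod_self] at this
    rw [← this]; rfl

theorem nodup_iff {α : Type*} [Fintype α] [DecidableEq α] (x : Perm α) :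
    x.cycleType.Nodup ↔
      ∀ a b : α, x a ≠ a → Function.minimalPeriod x a = Function.minimalPeriod x b → x.SameCycle a b := by
  rw [Perm.cycleType_def, Multiset.nodup_map_iff_inj_on x.cycleFactorsFinset.nodup]
  constructor
  · intro h a b ha hab
    have hb : x b ≠ b := by
      intro hb
      have h1 : Function.minimalPeriod x b = 1 :=
        Function.minimalPeriod_eq_one_iff_isFixedPt.mpr hb
      rw [h1] at hab
      exact ha (Function.minimalPeriod_eq_one_iff_isFixedPt.mp hab)
    have h1 : x.cycleOf a ∈ x.cycleFactorsFinset.1 :=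
      Perm.cycleOf_mem_cycleFactorsFinset_iff.mpr (Perm.mem_support.mpr ha)
    have h2 : x.cycleOf b ∈ x.cycleFactorsFinset.1 :=
      Perm.cycleOf_mem_cycleFactorsFinset_iff.mpr (Perm.mem_support.mpr hb)
    have h3 := h _ h1 _ h2 (by
      simp only [Function.comp]
      rw [card_support_cycleOf x a ha, card_support_cycleOf x b hb, hab])
    have h4 : b ∈ (x.cycleOf b).support :=
      Perm.mem_support_cycleOf_iff.mpr ⟨Perm.SameCycle.refl _ _, Perm.mem_support.mpr hb⟩
    rw [← h3] at h4
    exact (Perm.mem_support_cycleOf_iff.mp h4).1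
  · intro h c1 hc1 c2 hc2 hcard
    have hc1' : c1 ∈ x.cycleFactorsFinset := hc1
    have hc2' : c2 ∈ x.cycleFactorsFinset := hc2
    obtain ⟨hcy1, hag1⟩ := Perm.mem_cycleFactorsFinset_iff.mp hc1'
    obtain ⟨hcy2, hag2⟩ := Perm.mem_cycleFactorsFinset_iff.mp hc2'
    obtain ⟨a, ha, -⟩ := hcy1
    obtain ⟨b, hb, -⟩ := hcy2
    have ha' : a ∈ c1.support := Perm.mem_support.mpr ha
    have hb' : b ∈ c2.support := Perm.mem_support.mpr hb
    have hxa : x a ≠ a := by rw [← hag1 a ha']; exact ha
    have hxb : x b ≠ b := by rw [← hag2 b hb']; exact hb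
    have e1 : c1 = x.cycleOf a := Perm.cycle_is_cycleOf ha' hc1'
    have e2 : c2 = x.cycleOf b := Perm.cycle_is_cycleOf hb' hc2'
    simp only [Function.comp] at hcard
    rw [e1, e2, card_support_cycleOf x a hxa, card_support_cycleOf x b hxb] at hcard
    rw [e1, e2]
    exact (h a b hxa hcard).cycleOf_eq

end Cfsg.Agent.Lib.H60USGoodB
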