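import Mathlib
import Cfsg.Agent.Lib.H60USDefs

set_option autoImplicit false

namespace Cfsg.Agent.Lib.H60USK1

open Equiv Cfsg.Agent.Lib.H60USDefs

theorem half {α : Type*} [Finite α] (x : Perm α) (hx : Two x) (hg : GoodP x) (μ : Perm α)
    (hμ : IsMatch μ) (hc : Commute μ x) (a : α) (ha : x a ≠ a) :
    μ a = (x ^ (Function.minimalPeriod x a / 2)) a := by
  have hcomm : ∀ b, μ (x b) = x (μ b) := fun b => by
    have := congrArg (fun f : Perm α => f b) hc.eq
    simpa [Perm.mul_apply] using this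
  have hcpow : ∀ (n : ℕ) b, μ ((x ^ n) b) = (x ^ n) (μ b) := by
    intro n b
    have := congrArg (fun f : Perm α => f b) (hc.pow_right n).eq
    simpa [Perm.mul_apply] using this
  have hμμ : ∀ b, μ (μ b) = b := fun b => by
    have := congrArg (fun f : Perm α => f b) hμ.1
    simpa [Perm.mul_apply] using this
  have hμa : μ a ≠ a := by
    intro h
    apply ha
    apply hμ.2 _ _ _ h
    rw [hcomm, h]
  have hper : Function.minimalPeriod x a = Function.minimalPeriod x (μ a) := by
    rw [Function.minimalPeriod_eq_minimalPeriod_iff]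
    intro n
    unfold Function.IsPeriodicPt Function.IsFixedPt
    rw [Perm.iterate_eq_pow, ← hcpow]
    constructor
    · intro h; rw [h]
    · intro h; exact μ.injective h
  obtain ⟨j, hj⟩ := (hg.2 a (μ a) ha hper).exists_nat_pow_eq
  have hperiod : ∀ n, (x ^ n) a = a ↔ Function.minimalPeriod x a ∣ n := by
    intro n
    rw [← Function.isPeriodicPt_iff_minimalPeriod_dvd]
    unfold Function.IsPeriodicPt Function.IsFixedPt
    rw [Perm.iterate_eq_pow]
  generalize Function.minimalPeriod x a = d at hperiod ⊢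
  obtain ⟨k, hk⟩ := hx
  have hd2 : d ∣ 2 ^ k := by rw [← hperiod, hk]; rfl
  obtain ⟨t, ht, hdt⟩ := (Nat.dvd_prime_pow Nat.prime_two).mp hd2
  have ht1 : t ≠ 0 := by
    rintro rfl
    apply ha
    have : (x ^ 1) a = a := by rw [hperiod, hdt]; simp
    simpa using this
  have h2j : d ∣ 2 * j := by
    rw [← hperiod, two_mul, pow_add, Perm.mul_apply, hj, ← hcpow, hj, hμμ]
  have hnj : ¬ d ∣ j := by
    rw [← hperiod, hj]; exact hμa
  obtain ⟨s, rfl⟩ : ∃ s, t = s + 1 := ⟨t - 1, by omega⟩
  subst hdt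
  have h3 : 2 ^ s ∣ j := by
    rw [pow_succ'] at h2j
    exact Nat.dvd_of_mul_dvd_mul_left (by norm_num) h2j
  obtain ⟨m, rfl⟩ := h3
  have hm : m % 2 = 1 := by
    by_contra hm
    have h0 : m % 2 = 0 := by omega
    apply hnj
    obtain ⟨r, rfl⟩ : 2 ∣ m := Nat.dvd_of_mod_eq_zero h0
    exact ⟨r, by rw [pow_succ]; ring⟩
  have h4 : 2 ^ (s + 1) / 2 = 2 ^ s := by rw [pow_succ]; simp
  rw [h4, ← hj]
  have hm2 : m = 2 * (m / 2) + 1 := by omega
  have h5 : 2 ^ s * m = 2 ^ s + 2 ^ (s + 1) * (m / 2) := by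
    conv_lhs => rw [hm2]
    rw [pow_succ]; ring
  rw [h5, pow_add, Perm.mul_apply]
  congr 1
  rw [hperiod]; exact Dvd.intro _ rfl

theorem fixaux {α : Type*} (x : Perm α) (hg : GoodP x) (μ μ' : Perm α) (hμ : IsMatch μ)
    (hc : Commute μ x) (hc' : Commute μ' x) (a : α) (ha : x a = a) (hμa : μ a = a) : μ' a = a := by
  by_contra hne
  have hcomm : ∀ b, μ (x b) = x (μ b) := fun b => by
    have := congrArg (fun f : Perm α => f b) hc.eq
    simpa [Perm.mul_apply] using this
  have hcomm' : ∀ b, μ' (x b) = x (μ' b) := fun b => by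
    have := congrArg (fun f : Perm α => f b) hc'.eq
    simpa [Perm.mul_apply] using this
  have h1 : x (μ' a) = μ' a := by rw [← hcomm', ha]
  have h2 : x (μ (μ' a)) = μ (μ' a) := by rw [← hcomm, h1]
  have h3 : μ (μ' a) ≠ a := by
    intro h; apply hne; apply μ.injective; rw [h, hμa]
  rcases hg.1 a (μ' a) (μ (μ' a)) ha h1 h2 with h | h | h
  · exact hne h.symm
  · exact h3 h.symm
  · exact hne (hμ.2 _ _ h.symm hμa)

theorem um_of_goodP {α : Type*} [Finite α] (x : Perm α) (hx : Two x) (hg : GoodP x) : UM x := by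
  intro μ μ' hμ hμ' hc hc'
  ext a
  by_cases ha : x a = a
  · by_cases h1 : μ a = a
    · rw [h1, fixaux x hg μ μ' hμ hc hc' a ha h1]
    · by_cases h2 : μ' a = a
      · exact absurd (fixaux x hg μ' μ hμ' hc' hc a ha h2) h1
      · have e1 : x (μ a) = μ a := by
          have := congrArg (fun f : Perm α => f a) hc.eq
          simp only [Perm.mul_apply, ha] at this
          exact this.symm
        have e2 : x (μ' a) = μ' a := by
          have := congrArg (fun f : Perm α => f a) hc'.eq
          simp only [Perm.mul_apply, ha] at this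
          exact this.symm
        rcases hg.1 a (μ a) (μ' a) ha e1 e2 with h | h | h
        · exact absurd h.symm h1
        · exact absurd h.symm h2
        · exact h
  · rw [half x hx hg μ hμ hc a ha, half x hx hg μ' hμ' hc' a ha]

end Cfsg.Agent.Lib.H60USK1
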