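import Mathlib
import Cfsg.Agent.Lib.H60USDefs

set_option autoImplicit false

namespace Cfsg.Agent.Lib.H60USPer

open Equiv Cfsg.Agent.Lib.H60USDefs

variable {B F : Type*} [Fintype B] [DecidableEq B] [Fintype F] [DecidableEq F] [Subsingleton F]

theorem pow_apply_eq_iff {α : Type*} (f : Perm α) (k : ℕ) (a : α) :
    (f ^ k) a = a ↔ Function.minimalPeriod f a ∣ k := by
  rw [← Function.isPeriodicPt_iff_minimalPeriod_dvd, Function.IsPeriodicPt, Function.IsFixedPt,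
    Equiv.Perm.iterate_eq_pow]

/-- Let `a = inl (b, i)`, `ℓ = minimalPeriod xb b > 0` (finite: `Function.minimalPeriod_pos_of_mem_periodicPts`, `Equiv.Perm` of finite order /
`isPeriodicPt` from `pow_orderOf_eq_one`).  `x ^ k a = inl (xb ^ k b, _)` (`over_pow`), so `x ^ k a = a ⇒ ℓ ∣ k`.  `x ^ ℓ a ∈ {a, μ₀ a}`.
If `x ^ ℓ a = a`: period `= ℓ`; and if `μ₀ a = x ^ j a` (`j : ℤ`, `over_zpow`) then `xb ^ j b = b`, `ℓ ∣ j`, `x ^ j a = a`, absurd.
If `x ^ ℓ a = μ₀ a`: `x ^ (2ℓ) a = x ^ ℓ (μ₀ a) = μ₀ (x ^ ℓ a) = a`; the period `d` satisfies `ℓ ∣ d ∣ 2ℓ`, `d ≠ ℓ`, so `d = 2ℓ`. -/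
theorem period_cases (x : Perm (Dbl B F)) (xb : Perm B) (hc : Commute (mu0 B F) x) (ho : Over x xb) (b : B) (i : Bool) :
    (Function.minimalPeriod x (Sum.inl (b, i)) = Function.minimalPeriod xb b ∧
        ¬ x.SameCycle (Sum.inl (b, i)) (Sum.inl (b, !i))) ∨
    (Function.minimalPeriod x (Sum.inl (b, i)) = 2 * Function.minimalPeriod xb b ∧
        (x ^ Function.minimalPeriod xb b) (Sum.inl (b, i)) = Sum.inl (b, !i)) := by
  set ℓ := Function.minimalPeriod xb b with hℓ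
  set d := Function.minimalPeriod x (Sum.inl (b, i)) with hd
  have hpos : 0 < ℓ := by
    apply Function.minimalPeriod_pos_of_mem_periodicPts
    refine ⟨orderOf xb, orderOf_pos xb, ?_⟩
    rw [Function.IsPeriodicPt, Function.IsFixedPt, Equiv.Perm.iterate_eq_pow, pow_orderOf_eq_one]
    rfl
  -- `x ^ k a = a ⇒ ℓ ∣ k`
  have hdown : ∀ (k : ℕ) (j : Bool), (x ^ k) (Sum.inl (b, i)) = Sum.inl (b, j) → ℓ ∣ k := by
    intro k j hk
    obtain ⟨j', hj'⟩ := over_pow ho k b i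
    rw [hk] at hj'
    simp only [Sum.inl.injEq, Prod.mk.injEq] at hj'
    exact (pow_apply_eq_iff xb k b).mp hj'.1.symm
  have hℓd : ℓ ∣ d := hdown d i ((pow_apply_eq_iff x d _).mpr dvd_rfl)
  obtain ⟨j, hj⟩ := over_pow ho ℓ b i
  have hbb : (xb ^ ℓ) b = b := (pow_apply_eq_iff xb ℓ b).mpr dvd_rfl
  rw [hbb] at hj
  by_cases hji : j = i
  · left
    rw [hji] at hj
    have hdℓ : d ∣ ℓ := (pow_apply_eq_iff x ℓ _).mp hj
    refine ⟨Nat.dvd_antisymm hdℓ hℓd, ?_⟩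
    intro hs
    obtain ⟨k, hk⟩ := hs.exists_nat_pow_eq
    have h1 : ℓ ∣ k := hdown k _ hk
    have h2 : (x ^ k) (Sum.inl (b, i)) = Sum.inl (b, i) :=
      (pow_apply_eq_iff x k _).mpr (hdℓ.trans h1)
    rw [h2] at hk
    simp at hk
  · right
    have hj' : j = !i := by
      cases i <;> cases j <;> simp_all
    rw [hj'] at hj
    refine ⟨?_, hj⟩
    have hcp : Commute (mu0 B F) (x ^ ℓ) := hc.pow_right ℓ
    have h2 : (x ^ (2 * ℓ)) (Sum.inl (b, i)) = Sum.inl (b, i) := by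
      rw [two_mul, pow_add, Perm.mul_apply, hj]
      have e1 : (Sum.inl (b, !i) : Dbl B F) = mu0 B F (Sum.inl (b, i)) := rfl
      rw [e1, ← Perm.mul_apply, ← hcp.eq, Perm.mul_apply, hj]
      simp
    have hd2 : d ∣ 2 * ℓ := (pow_apply_eq_iff x (2 * ℓ) _).mp h2
    obtain ⟨c, hcd⟩ := hℓd
    have hc2 : c ∣ 2 := by
      rw [hcd, mul_comm 2 ℓ] at hd2
      exact Nat.dvd_of_mul_dvd_mul_left hpos hd2
    have hc12 : c = 1 ∨ c = 2 := by
      have := (Nat.dvd_prime Nat.prime_two).mp hc2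
      exact this
    rcases hc12 with h1 | h1
    · exfalso
      rw [h1, mul_one] at hcd
      have h3 : (x ^ ℓ) (Sum.inl (b, i)) = Sum.inl (b, i) :=
        (pow_apply_eq_iff x ℓ _).mpr (by rw [← hd, hcd])
      rw [h3] at hj
      simp at hj
    · rw [hcd, h1, mul_comm]

end Cfsg.Agent.Lib.H60USPer
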