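import Mathlib
import Cfsg.Agent.Lib.H60USDefs
import Cfsg.Agent.Lib.H60USPer

set_option autoImplicit false

namespace Cfsg.Agent.Lib.H60USK2

open Equiv Cfsg.Agent.Lib.H60USDefs

variable {B F : Type*} [Fintype B] [DecidableEq B] [Fintype F] [DecidableEq F] [Subsingleton F]

omit [Fintype B] [DecidableEq B] [Fintype F] [DecidableEq F] [Subsingleton F] in
theorem comm_apply (x : Perm (Dbl B F)) (hc : Commute (mu0 B F) x) (a : Dbl B F) :
    x (mu0 B F a) = mu0 B F (x a) := by
  have := congrArg (fun f : Perm (Dbl B F) => f a) hc.eq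
  simpa [Perm.mul_apply] using this.symm

omit [Fintype B] [DecidableEq B] [Fintype F] [DecidableEq F] [Subsingleton F] in
theorem per_mu0 (x : Perm (Dbl B F)) (hc : Commute (mu0 B F) x) (a : Dbl B F) :
    Function.minimalPeriod x a = Function.minimalPeriod x (mu0 B F a) := by
  have hcpow : ∀ (n : ℕ) b, mu0 B F ((x ^ n) b) = (x ^ n) (mu0 B F b) := by
    intro n b
    have := congrArg (fun f : Perm (Dbl B F) => f b) (hc.pow_right n).eq
    simpa [Perm.mul_apply] using this
  rw [Function.minimalPeriod_eq_minimalPeriod_iff]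
  intro n
  unfold Function.IsPeriodicPt Function.IsFixedPt
  rw [Perm.iterate_eq_pow, ← hcpow]
  constructor
  · intro h; rw [h]
  · intro h; exact (mu0 B F).injective h

omit [Fintype B] [DecidableEq B] [Fintype F] [DecidableEq F] [Subsingleton F] in
theorem two_fix (x : Perm (Dbl B F)) (hc : Commute (mu0 B F) x) (hg : GoodP x)
    (b b' : B) (hbb : b ≠ b') (h1 : x (Sum.inl (b, false)) = Sum.inl (b, false))
    (h2 : x (Sum.inl (b', false)) = Sum.inl (b', false)) : False := by
  have h3 : x (Sum.inl (b, true)) = Sum.inl (b, true) := by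
    have := comm_apply x hc (Sum.inl (b, false))
    rw [h1] at this
    simpa using this
  rcases hg.1 _ _ _ h1 h3 h2 with h | h | h
  · simp at h
  · simp at h; exact hbb h
  · simp at h

theorem two_swap (x : Perm (Dbl B F)) (xb : Perm B) (hc : Commute (mu0 B F) x) (ho : Over x xb)
    (hg : GoodP x) (b b' : B) (hbb : b ≠ b') (hb : xb b = b) (hb' : xb b' = b')
    (h1 : x (Sum.inl (b, false)) ≠ Sum.inl (b, false))
    (h2 : x (Sum.inl (b', false)) ≠ Sum.inl (b', false)) : False := by
  have key : ∀ c : B, xb c = c → x (Sum.inl (c, false)) ≠ Sum.inl (c, false) →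
      Function.minimalPeriod x (Sum.inl (c, false)) = 2 := by
    intro c hcfix hne
    have hp : Function.minimalPeriod xb c = 1 := Function.minimalPeriod_eq_one_iff_isFixedPt.mpr hcfix
    rcases H60USPer.period_cases x xb hc ho c false with ⟨h, -⟩ | ⟨h, -⟩
    · rw [hp] at h
      exact absurd (Function.minimalPeriod_eq_one_iff_isFixedPt.mp h) hne
    · rw [h, hp]
  obtain ⟨j, hj⟩ := hg.2 _ _ h1 ((key b hb h1).trans (key b' hb' h2).symm)
  obtain ⟨i, hi⟩ := over_zpow ho j b false
  rw [hj, Perm.zpow_apply_eq_self_of_apply_eq_self hb] at hi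
  simp at hi
  exact hbb hi.1.symm

theorem goodP_down (x : Perm (Dbl B F)) (xb : Perm B) (hc : Commute (mu0 B F) x) (ho : Over x xb) (hg : GoodP x) :
    GoodP xb := by
  constructor
  · intro b1 b2 b3 h1 h2 h3
    by_contra hcon
    push Not at hcon
    obtain ⟨h12, h13, h23⟩ := hcon
    by_cases f1 : x (Sum.inl (b1, false)) = Sum.inl (b1, false)
    · by_cases f2 : x (Sum.inl (b2, false)) = Sum.inl (b2, false)
      · exact two_fix x hc hg b1 b2 h12 f1 f2
      · by_cases f3 : x (Sum.inl (b3, false)) = Sum.inl (b3, false)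
        · exact two_fix x hc hg b1 b3 h13 f1 f3
        · exact two_swap x xb hc ho hg b2 b3 h23 h2 h3 f2 f3
    · by_cases f2 : x (Sum.inl (b2, false)) = Sum.inl (b2, false)
      · by_cases f3 : x (Sum.inl (b3, false)) = Sum.inl (b3, false)
        · exact two_fix x hc hg b2 b3 h23 f2 f3
        · exact two_swap x xb hc ho hg b1 b3 h13 h1 h3 f1 f3
      · exact two_swap x xb hc ho hg b1 b2 h12 h1 h2 f1 f2
  · intro b b' hb hper
    have hb' : xb b' ≠ b' := by
      intro h
      have h1 : Function.minimalPeriod xb b' = 1 := Function.minimalPeriod_eq_one_iff_isFixedPt.mpr h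
      rw [h1] at hper
      exact hb (Function.minimalPeriod_eq_one_iff_isFixedPt.mp hper)
    have key : ∀ c : B, xb c ≠ c →
        x (Sum.inl (c, false)) ≠ Sum.inl (c, false) ∧
        Function.minimalPeriod x (Sum.inl (c, false)) = 2 * Function.minimalPeriod xb c := by
      intro c hcne
      have hne : x (Sum.inl (c, false)) ≠ Sum.inl (c, false) := by
        obtain ⟨j, hj⟩ := ho c false
        rw [hj]
        intro h
        simp at h
        exact hcne h.1
      refine ⟨hne, ?_⟩
      rcases H60USPer.period_cases x xb hc ho c false with ⟨-, h⟩ | ⟨h, -⟩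
      · exfalso
        apply h
        have := hg.2 _ _ hne (per_mu0 x hc (Sum.inl (c, false)))
        simpa using this
      · exact h
    obtain ⟨hne, hp⟩ := key b hb
    obtain ⟨-, hp'⟩ := key b' hb'
    obtain ⟨j, hj⟩ := hg.2 (Sum.inl (b, false)) (Sum.inl (b', false)) hne (by rw [hp, hp', hper])
    obtain ⟨i, hi⟩ := over_zpow ho j b false
    rw [hj] at hi
    simp at hi
    exact ⟨j, hi.1.symm⟩

end Cfsg.Agent.Lib.H60USK2
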