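import Mathlib
import Cfsg.Agent.Lib.H60USDefs
import Cfsg.Agent.Lib.H60USPer
import Cfsg.Agent.Lib.H60USAlt1
import Cfsg.Agent.Lib.H60USAlt2
import Cfsg.Agent.Lib.H60USAlt3
import Cfsg.Agent.Lib.H60USMu0
import Cfsg.Agent.Lib.H60USOverOne

set_option autoImplicit false

namespace Cfsg.Agent.Lib.H60USK3

open Equiv Cfsg.Agent.Lib.H60USDefs

variable {B F : Type*} [Fintype B] [DecidableEq B] [Fintype F] [DecidableEq F] [Subsingleton F]

/-- (K3) -/
theorem goodP_up (x : Perm (Dbl B F)) (xb : Perm B) (hc : Commute (mu0 B F) x) (ho : Over x xb) (hu : UM x)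
    (hg : GoodP xb) : GoodP x := by
  have hμ := H60USMu0.isMatch_mu0 B F
  refine ⟨H60USAlt2.fix_le_two x (mu0 B F) hμ hc hu, ?_⟩
  intro a a' ha hper
  have ha' : x a' ≠ a' := by
    intro h
    have h1 : Function.minimalPeriod x a' = 1 :=
      Function.minimalPeriod_eq_one_iff_isFixedPt.2 h
    rw [h1] at hper
    exact ha (Function.minimalPeriod_eq_one_iff_isFixedPt.1 hper)
  rcases a with ⟨b, i⟩ | f
  swap
  · exact absurd (H60USOverOne.apply_inr x xb ho f) ha
  rcases a' with ⟨b', i'⟩ | f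
  swap
  · exact absurd (H60USOverOne.apply_inr x xb ho f) ha'
  have hs : x.SameCycle (Sum.inl (b, i)) (Sum.inl (b, !i)) :=
    H60USAlt1.sameCycle_match x (mu0 B F) hμ hc hu _ ha
  have hs' : x.SameCycle (Sum.inl (b', i')) (Sum.inl (b', !i')) :=
    H60USAlt1.sameCycle_match x (mu0 B F) hμ hc hu _ ha'
  rcases H60USPer.period_cases x xb hc ho b i with ⟨_, h1⟩ | ⟨hp, hpow⟩
  · exact absurd hs h1
  rcases H60USPer.period_cases x xb hc ho b' i' with ⟨_, h1⟩ | ⟨hp', hpow'⟩
  · exact absurd hs' h1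
  have hl : Function.minimalPeriod xb b = Function.minimalPeriod xb b' := by
    rw [hp, hp'] at hper
    omega
  by_cases hb : xb b = b
  · have l1 : Function.minimalPeriod xb b = 1 := Function.minimalPeriod_eq_one_iff_isFixedPt.2 hb
    have l1' : Function.minimalPeriod xb b' = 1 := by rw [← hl, l1]
    rw [l1, pow_one] at hpow
    rw [l1', pow_one] at hpow'
    rcases H60USAlt3.two_cycles x (mu0 B F) hμ hc hu _ _ hpow hpow' ha ha' with h | h
    · rw [h]
    · rw [h]; exact hs
  · obtain ⟨j, hj⟩ := hg.2 b b' hb hl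
    obtain ⟨k, hk⟩ := over_zpow ho j b i
    rw [hj] at hk
    by_cases hki : k = i'
    · exact ⟨j, by rw [hk, hki]⟩
    · have : k = !i' := by
        cases k <;> cases i' <;> simp_all
      have h2 : x.SameCycle (Sum.inl (b, i)) (Sum.inl (b', !i')) := ⟨j, by rw [hk, this]⟩
      exact h2.trans hs'.symm

end Cfsg.Agent.Lib.H60USK3
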