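import Mathlib
import Cfsg.Agent.Lib.H60USDefs
import Cfsg.Agent.Lib.H60USSyl
import Cfsg.Agent.Lib.H60USConj
import Cfsg.Agent.Lib.H60USComm
import Cfsg.Agent.Lib.H60USMu0
import Cfsg.Agent.Lib.H60USOverEx
import Cfsg.Agent.Lib.H60USEx1
import Cfsg.Agent.Lib.H60USE
import Cfsg.Agent.Lib.H60USGoodA
import Cfsg.Agent.Lib.H60USGoodB
import Cfsg.Agent.Lib.H60USK1
import Cfsg.Agent.Lib.H60USK2
import Cfsg.Agent.Lib.H60USK3

set_option autoImplicit false

namespace Cfsg.Agent.Lib.H60USStep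

open Equiv Cfsg.Agent.Lib.H60USDefs

variable {B F : Type*} [Fintype B] [DecidableEq B] [Fintype F] [DecidableEq F] [Subsingleton F]

/-- `Good ↔ GoodP` from `H60USGoodA.card_le_iff` and `H60USGoodB.nodup_iff`. -/
theorem good_iff_goodP {α : Type*} [Fintype α] [DecidableEq α] (x : Perm α) : Good x ↔ GoodP x := by
  unfold Good GoodP
  rw [H60USGoodA.card_le_iff, H60USGoodB.nodup_iff]

/-- Step.  `x` a 2-element: `x ∈ P`, `IsSyl P` (`exists_isSyl_mem`); `μ` with `IsMatch μ`, `Rel P μ` (`H60USEx1.exists_match`); `Commute μ x` (`H60USComm.commute_of_mem`);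
`μ = h μ₀ h⁻¹` (`exists_conj_mu0`).  `y := h⁻¹ x h` (write `x = h y h⁻¹`): commutes with `μ₀`, 2-element, over `yb` (`exists_over`), `Two yb` (`two_of_over`).
`US x ↔ US y` (`us_conj`) `↔ UM y ∧ US yb` (`H60USE.us_iff_um`) `↔ UM y ∧ GoodP yb` (`hB`, `good_iff_goodP`) `↔ GoodP y` (`K1.um_of_goodP`, `K2.goodP_down`, `K3.goodP_up`)
`↔ Good y ↔ Good x` (`good_conj`). -/
theorem step (hB : T B) : T (Dbl B F) := by
  intro x hx
  obtain ⟨P, hP, hxP⟩ := H60USSyl.exists_isSyl_mem x hx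
  obtain ⟨μ, hμ, hrel⟩ := H60USEx1.exists_match P hP
  have hcx : Commute μ x := H60USComm.commute_of_mem P hP.1 μ hμ hrel x hxP
  obtain ⟨h, hh⟩ := H60USMu0.exists_conj_mu0 μ hμ
  obtain ⟨y, hy⟩ : ∃ y, y = h⁻¹ * x * h := ⟨_, rfl⟩
  have hxy : x = h * y * h⁻¹ := by
    rw [hy]
    group
  have hcy : Commute (mu0 B F) y := by
    rw [hh, hxy] at hcx
    exact (Commute.conj_iff h).mp hcx
  have hy2 : Two y := (H60USConj.two_conj h y).mp (hxy ▸ hx)
  obtain ⟨yb, hyb⟩ := H60USOverEx.exists_over y hcy.symm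
  have hyb2 : Two yb := two_of_over hyb hy2
  rw [hxy, H60USConj.us_conj, H60USConj.good_conj, H60USE.us_iff_um y yb hy2 hcy hyb, hB yb hyb2,
    good_iff_goodP, good_iff_goodP]
  constructor
  · rintro ⟨hu, hg⟩
    exact H60USK3.goodP_up y yb hcy hyb hu hg
  · intro hg
    exact ⟨H60USK1.um_of_goodP y hy2 hg, H60USK2.goodP_down y yb hcy hyb hg⟩

end Cfsg.Agent.Lib.H60USStep
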