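import Mathlib
import Cfsg.Agent.Lib.H60USDefs
import Cfsg.Agent.Lib.H60USGoodA
import Cfsg.Agent.Lib.H60USGoodB

set_option autoImplicit false

namespace Cfsg.Agent.Lib.H60USTransport

open Equiv Cfsg.Agent.Lib.H60USDefs

theorem isSyl_map_equiv {G G' : Type*} [Group G] [Group G'] (e : G ≃* G') (H : Subgroup G) (h : IsSyl H) :
    IsSyl (H.map e.toMonoidHom) := by
  refine ⟨h.1.map _, ?_⟩
  intro K hK hle
  have h1 : K.comap e.toMonoidHom = H := by
    apply h.2
    · exact hK.comap_of_injective _ e.injective
    · exact Subgroup.map_le_iff_le_comap.mp hle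
  rw [← h1, Subgroup.map_comap_eq_self_of_surjective e.surjective]

theorem isSyl_comap_equiv {G G' : Type*} [Group G] [Group G'] (e : G ≃* G') (H : Subgroup G')
    (h : IsSyl H) : IsSyl (H.comap e.toMonoidHom) := by
  refine ⟨h.1.comap_of_injective _ e.injective, ?_⟩
  intro K hK hle
  have h1 : K.map e.toMonoidHom = H := by
    apply h.2
    · exact hK.map _
    · have := Subgroup.map_mono (f := e.toMonoidHom) hle
      rwa [Subgroup.map_comap_eq_self_of_surjective e.surjective] at this
  rw [← h1, Subgroup.comap_map_eq_self_of_injective e.injective]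

theorem us_of_equiv {G G' : Type*} [Group G] [Group G'] (e : G ≃* G') (x : G) (h : US (e x)) : US x := by
  obtain ⟨H', ⟨hH', hx⟩, huniq⟩ := h
  refine ⟨H'.comap e.toMonoidHom, ⟨isSyl_comap_equiv e H' hH', hx⟩, ?_⟩
  rintro K ⟨hK, hxK⟩
  have h1 : K.map e.toMonoidHom = H' :=
    huniq _ ⟨isSyl_map_equiv e K hK, Subgroup.mem_map_of_mem _ hxK⟩
  rw [← h1, Subgroup.comap_map_eq_self_of_injective e.injective]

theorem hom_apply {α β : Type*} (e : α ≃ β) (z : Perm α) (a : α) :
    (e.permCongrHom z) (e a) = e (z a) := by
  simp [Equiv.permCongrHom]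

theorem goodP_of {α β : Type*} (e : α ≃ β) (x : Perm α) (h : GoodP (e.permCongrHom x)) : GoodP x := by
  have hper : ∀ a, Function.minimalPeriod (e.permCongrHom x) (e a) = Function.minimalPeriod x a := by
    intro a
    rw [Function.minimalPeriod_eq_minimalPeriod_iff]
    intro n
    unfold Function.IsPeriodicPt Function.IsFixedPt
    rw [Perm.iterate_eq_pow, Perm.iterate_eq_pow, ← map_pow, hom_apply]
    exact e.injective.eq_iff
  constructor
  · intro a b c ha hb hc
    have := h.1 (e a) (e b) (e c) (by rw [hom_apply, ha]) (by rw [hom_apply, hb])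
      (by rw [hom_apply, hc])
    simpa [e.injective.eq_iff] using this
  · intro a b ha hab
    have h1 := h.2 (e a) (e b) (by rw [hom_apply]; exact fun h => ha (e.injective h))
      (by rw [hper, hper, hab])
    obtain ⟨j, hj⟩ := h1
    refine ⟨j, ?_⟩
    rw [← map_zpow, hom_apply] at hj
    exact e.injective hj

theorem good_iff {α : Type*} [Fintype α] [DecidableEq α] (x : Perm α) : Good x ↔ GoodP x :=
  and_congr (H60USGoodA.card_le_iff x) (H60USGoodB.nodup_iff x)

theorem T_of_equiv {α β : Type*} [Fintype α] [DecidableEq α] [Fintype β] [DecidableEq β] (e : α ≃ β)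
    (h : T β) : T α := by
  intro x hx
  have hy : Two (e.permCongrHom x) := by
    obtain ⟨k, hk⟩ := hx
    exact ⟨k, by rw [← map_pow, hk, map_one]⟩
  have h1 := h (e.permCongrHom x) hy
  have hUS : US x ↔ US (e.permCongrHom x) := by
    constructor
    · intro hu
      apply us_of_equiv e.permCongrHom.symm
      rw [MulEquiv.symm_apply_apply]
      exact hu
    · exact us_of_equiv e.permCongrHom x
  have hback : e.symm.permCongrHom (e.permCongrHom x) = x := by
    ext a
    simp [Equiv.permCongrHom]
  have hGood : Good x ↔ Good (e.permCongrHom x) := by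
    rw [good_iff, good_iff]
    constructor
    · intro hg
      apply goodP_of e.symm
      rw [hback]
      exact hg
    · exact goodP_of e x
  rw [hUS, hGood]
  exact h1

end Cfsg.Agent.Lib.H60USTransport
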