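import Mathlib
import Cfsg.Agent.Lib.H60USDefs
import Cfsg.Agent.Lib.H60USStep
import Cfsg.Agent.Lib.H60USTransport

set_option autoImplicit false

namespace Cfsg.Agent.Lib.H60USFinal

open Equiv Cfsg.Agent.Lib.H60USDefs

/-- `Perm (Fin 0)` is trivial. -/
theorem T_zero : T (Fin 0) := by
  intro x _
  have hsub : Subsingleton (Perm (Fin 0)) := inferInstance
  have hS : ∀ H K : Subgroup (Perm (Fin 0)), H = K := by
    intro H K
    ext y
    rw [Subsingleton.elim y 1]
    exact ⟨fun _ => K.one_mem, fun _ => H.one_mem⟩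
  constructor
  · intro _
    refine ⟨by simp, ?_⟩
    rw [Subsingleton.elim x 1]
    simp
  · intro _
    refine ⟨⊥, ⟨⟨IsPGroup.of_bot, fun K _ _ => hS _ _⟩, ?_⟩, fun K _ => hS _ _⟩
    rw [Subsingleton.elim x 1]
    exact Subgroup.one_mem _

/-- an equivalence by cardinality. -/
theorem exists_equiv (n : ℕ) : Nonempty (Fin n ≃ Dbl (Fin (n / 2)) (Fin (n % 2))) := by
  refine ⟨Fintype.equivOfCardEq ?_⟩
  simp only [Fintype.card_sum, Fintype.card_prod, Fintype.card_fin, Fintype.card_bool]
  omega

/-- strong induction. -/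
theorem T_fin (n : ℕ) : T (Fin n) := by
  induction n using Nat.strong_induction_on with
  | _ n ih =>
    rcases Nat.eq_zero_or_pos n with rfl | hn
    · exact T_zero
    · obtain ⟨e⟩ := exists_equiv n
      have hsub : Subsingleton (Fin (n % 2)) := by
        rw [Fin.subsingleton_iff_le_one]
        omega
      exact H60USTransport.T_of_equiv e (H60USStep.step (ih (n / 2) (by omega)))

end Cfsg.Agent.Lib.H60USFinal
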