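import Mathlib
import Cfsg.Agent.Lib.Helper27BG16fhall
import Cfsg.Agent.Lib.Helper37BG14kbasic
import Cfsg.Agent.Lib.Helper21BGExcbasic
import Cfsg.Agent.Lib.Helper37BGPart
import Cfsg.Agent.Lib.Helper27Core
import Cfsg.Agent.Lib.Helper3BGNotuniq

/-!
Peterfalvi, Section 8 (the purely local part): consequences of the Bender-Glauberman theorems in the
language of types.  Everything is relative to the bundle `Rows G` of row statements
(S1351/S1352, S1380-S1383, S1389, S1390, S1391).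

This file: conjugation transport and the case analysis on the types.
-/

set_option autoImplicit false
set_option linter.unusedSectionVars false

namespace Cfsg.Agent.Lib.Helper60PF8a

open Cfsg Subgroup
open Cfsg.Agent.Lib.Helper30Trans Cfsg.Agent.Lib.Helper24BG

variable {G : Type*} [Group G]

/-- the rows of the list used below, as hypotheses -/
structure Rows (G : Type*) [Group G] : Prop where
  dec : ∀ M : Subgroup G, IsCoatom M → ∃ K U : Subgroup G, IsSigmaDecomposition M K U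
  tI : ∀ M K U : Subgroup G, IsCoatom M → IsSigmaDecomposition M K U →
    (IsOfTypeI M ↔ (K = ⊥ ∧ U ≠ ⊥))
  tII : ∀ M K U : Subgroup G, IsCoatom M → IsSigmaDecomposition M K U →
    (IsOfTypeII M ↔ (K ≠ ⊥ ∧ U ≠ ⊥))
  tIII : ∀ M K U : Subgroup G, IsCoatom M → IsSigmaDecomposition M K U →
    ((IsOfTypeIII M ∨ IsOfTypeIV M) ↔ (K ≠ ⊥ ∧ U = ⊥ ∧ fittingHallOf M ≠ sigmaCore M))
  tV : ∀ M K U : Subgroup G, IsCoatom M → IsSigmaDecomposition M K U →
    (IsOfTypeV M ↔ (K ≠ ⊥ ∧ U = ⊥ ∧ fittingHallOf M = sigmaCore M))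
  r1389 : ∀ M : Subgroup G, IsCoatom M →
    (∀ (p : ℕ), p.Prime → ∀ (P : Sylow p ↥(typeCore M)), (P : Subgroup ↥(typeCore M)) ≠ ⊥ →
        normalizer ((((P : Subgroup ↥(typeCore M)).map (typeCore M).subtype : Subgroup G)) : Set G) ≤ M) ∧
      (Nat.card (fittingHallOf M)).Coprime (fittingHallOf M).index ∧
      (Nat.card (typeCore M)).Coprime (typeCore M).index
  r1390 : ∀ M : Subgroup G, IsCoatom M → ∀ U : Subgroup G,
    ((IsOfTypeI M ∧ IsComplIn (fittingHallOf M) U M) ∨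
      (IsOfTypeII M ∧ IsComplIn (fittingHallOf M) U ⁅M, M⁆)) →
    (∀ (p : ℕ), p.Prime → ∀ P : Sylow p U, IsMulCommutative (P : Subgroup U) ∧ PRankLE p 2 (P : Subgroup U)) ∧
      (∀ X : Set G, X ⊆ (U : Set G) \ {1} → X.Nonempty → fittingHallOf M ⊓ centralizer X ≠ ⊥ →
        centralizer X ≤ M ∧ ∀ L : Subgroup G, IsCoatom L → centralizer X ≤ L → L = M) ∧
      IsTISubset (typeA M \ typeA1 M)
  r1391 : ∀ M : Subgroup G, IsCoatom M → ∀ X : Set G, (X = typeA M ∨ X = typeA0 M) →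
    (∀ x ∈ X, ∀ g : G, g * x * g⁻¹ ∈ X → ∃ m ∈ M, m * x * m⁻¹ = g * x * g⁻¹) ∧
      (∀ x ∈ X, ¬ centralizer ({x} : Set G) ≤ M → x ∈ typeA1 M ∧
        ∃! L : Subgroup G, IsCoatom L ∧ centralizer ({x} : Set G) ≤ L) ∧
      ∀ x ∈ X, ¬ centralizer ({x} : Set G) ≤ M → ∀ L : Subgroup G, IsCoatom L →
        centralizer ({x} : Set G) ≤ L →
        IsComplIn (fittingHallOf L) (M ⊓ L) L ∧
        centralizer ({x} : Set G) ≤
          normalizer ((fittingHallOf L ⊓ centralizer ({x} : Set G) : Subgroup G) : Set G) ∧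
        IsComplIn (fittingHallOf L ⊓ centralizer ({x} : Set G)) (M ⊓ centralizer ({x} : Set G))
          (centralizer ({x} : Set G)) ∧
        (∀ y ∈ X, (Nat.card (fittingHallOf L)).Coprime (Nat.card ↥(M ⊓ centralizer ({y} : Set G)))) ∧
        (x ∈ typeA L ∧ x ∉ typeA1 L) ∧
        (IsOfTypeI L ∨ IsOfTypeII L) ∧
        (IsOfTypeII L → ∃ E : Subgroup ↥M, IsFrobeniusComplement E ∧
          frobeniusKernel E = ((fittingHall ↥M : Subgroup ↥M) : Set ↥M))

/-! ### conjugation -/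

theorem relIndex_cj' (g : G) (H K : Subgroup G) : (cj g H).relIndex (cj g K) = H.relIndex K :=
  relIndex_map_map_of_injective H K (MulAut.conj g).injective

theorem isComplIn_cj {A B M : Subgroup G} (h : IsComplIn A B M) (g : G) :
    IsComplIn (cj g A) (cj g B) (cj g M) := by
  refine ⟨cj_mono h.1, cj_mono h.2.1, ?_, ?_⟩
  · rw [← Cfsg.Agent.Lib.Helper27Core.cj_inf, h.2.2.1]
    exact Subgroup.map_bot _
  · intro m hm
    rw [mem_cj] at hm
    obtain ⟨a, ha, b, hb, e⟩ := h.2.2.2 _ hm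
    refine ⟨g * a * g⁻¹, conj_mem_cj ha, g * b * g⁻¹, conj_mem_cj hb, ?_⟩
    have : m = g * (g⁻¹ * m * g) * g⁻¹ := by group
    rw [this, e]
    group

theorem isCyclic_cj {K : Subgroup G} (h : IsCyclic K) (g : G) : IsCyclic (cj g K) :=
  (MulEquiv.isCyclic (K.equivMapOfInjective (MulAut.conj g).toMonoidHom
    (MulAut.conj g).injective)).mp h

theorem cj_eq_bot {g : G} {Q : Subgroup G} : cj g Q = ⊥ ↔ Q = ⊥ :=
  (map_eq_bot_iff_of_injective Q (MulAut.conj g).injective)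

section fin
variable [Finite G]

theorem decomp_cj {M K U : Subgroup G} (h : IsSigmaDecomposition M K U) (g : G) :
    IsSigmaDecomposition (cj g M) (cj g K) (cj g U) where
  cyclic := isCyclic_cj h.cyclic g
  hall := by
    refine ⟨cj_mono h.hall.1, ?_, ?_⟩
    · rw [card_cj, Cfsg.Agent.Lib.Helper37BG14kbasic.kappa_cj]
      exact h.hall.2.1
    · rw [relIndex_cj', Cfsg.Agent.Lib.Helper37BG14kbasic.kappa_cj]
      exact h.hall.2.2
  compl := by
    rw [Cfsg.Agent.Lib.Helper21BGExcbasic.sigmaCore_cj, ← Cfsg.Agent.Lib.Helper27Core.cj_sup]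
    exact isComplIn_cj h.compl g
  normal := by
    rw [← Cfsg.Agent.Lib.Helper27Core.cj_normalizer]
    exact cj_mono h.normal


/-- universal property of `M_F` -/
theorem le_fittingHallOf_of {M N : Subgroup G} (hNM : N ≤ M) (hn : M ≤ normalizer (N : Set G))
    (hnil : Group.IsNilpotent N) (hcop : (Nat.card N).Coprime (N.relIndex M)) :
    N ≤ fittingHallOf M := by
  have h1 : (N.subgroupOf M).map M.subtype = N := by
    rw [subgroupOf_map_subtype, inf_eq_left]
    exact hNM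
  rw [← h1]
  apply map_mono
  apply le_sSup
  refine ⟨normal_subgroupOf_of_le_normalizer hn, ?_, ?_⟩
  · exact (Group.isNilpotent_congr (subgroupOfEquivOfLe hNM)).mpr hnil
  · rw [Nat.card_congr (subgroupOfEquivOfLe hNM).toEquiv]
    exact hcop

theorem cj_fittingHallOf_le (M : Subgroup G) (g : G) :
    cj g (fittingHallOf M) ≤ fittingHallOf (cj g M) := by
  apply le_fittingHallOf_of
  · exact cj_mono (Cfsg.Agent.Lib.Helper29Basic.fittingHallOf_le M)
  · rw [← Cfsg.Agent.Lib.Helper27Core.cj_normalizer]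
    exact cj_mono (Cfsg.Agent.Lib.Helper27BG16fhall.le_normalizer_fittingHallOf M)
  · exact (Group.isNilpotent_congr ((fittingHallOf M).equivMapOfInjective
      (MulAut.conj g).toMonoidHom (MulAut.conj g).injective)).mp
      (Cfsg.Agent.Lib.Helper27BG16fhall.fittingHallOf_nilpotent M)
  · rw [card_cj, relIndex_cj']
    exact Cfsg.Agent.Lib.Helper27BG16fhall.fittingHallOf_hall M

theorem fittingHallOf_cj (M : Subgroup G) (g : G) :
    fittingHallOf (cj g M) = cj g (fittingHallOf M) := by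
  apply le_antisymm _ (cj_fittingHallOf_le M g)
  have h := cj_fittingHallOf_le (cj g M) g⁻¹
  rw [cj_inv_cj, cj_le_iff, inv_inv] at h
  exact h

theorem derived_lt_of_sol {B : Subgroup G} (hsol : Group.IsSolvable B) (hbot : B ≠ ⊥) :
    ⁅B, B⁆ < B := by
  have : Nontrivial B := (Subgroup.nontrivial_iff_ne_bot B).mpr hbot
  have h1 : commutator B < ⊤ := Group.IsSolvable.commutator_lt_top_of_nontrivial B
  have h2 := (Subgroup.map_lt_map_iff_of_injective B.subtype_injective).mpr h1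
  rwa [Subgroup.map_subtype_commutator, ← MonoidHom.range_eq_map, Subgroup.range_subtype] at h2

theorem not_both_bot (hG : IsMinSimpleOddOrder G) {M K U : Subgroup G} (hM : IsCoatom M)
    (h : IsSigmaDecomposition M K U) : ¬ (K = ⊥ ∧ U = ⊥) := by
  rintro ⟨rfl, rfl⟩
  have h1 : M ≤ sigmaCore M := by
    intro m hm
    obtain ⟨a, ha, b, hb, e⟩ := h.compl.2.2.2 m hm
    rw [mem_bot] at ha
    rw [bot_sup_eq] at hb
    rw [e, ha, one_mul]
    exact hb
  have h2 := h1.trans (Cfsg.Agent.Lib.Helper2BGb.sigmaCore_le_derived hG hM)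
  exact (derived_lt_of_sol (sol hG hM.1)
    (Cfsg.Agent.Lib.Helper3BGNotuniq.coatom_ne_bot hG hM)).not_ge h2

/-! ### the types -/

theorem type_cases (hG : IsMinSimpleOddOrder G) (R : Rows G) {M : Subgroup G} (hM : IsCoatom M) :
    IsOfTypeI M ∨ IsOfTypeII M ∨ (IsOfTypeIII M ∨ IsOfTypeIV M) ∨ IsOfTypeV M := by
  obtain ⟨K, U, h⟩ := R.dec M hM
  rw [R.tI M K U hM h, R.tII M K U hM h, R.tIII M K U hM h, R.tV M K U hM h]
  have := not_both_bot hG hM h
  tauto

theorem not_III_of_I (R : Rows G) {M : Subgroup G} (hM : IsCoatom M) (h1 : IsOfTypeI M) :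
    ¬ (IsOfTypeIII M ∨ IsOfTypeIV M) := by
  obtain ⟨K, U, h⟩ := R.dec M hM
  rw [R.tI M K U hM h] at h1
  rw [R.tIII M K U hM h]
  tauto

theorem not_III_of_II (R : Rows G) {M : Subgroup G} (hM : IsCoatom M) (h1 : IsOfTypeII M) :
    ¬ (IsOfTypeIII M ∨ IsOfTypeIV M) := by
  obtain ⟨K, U, h⟩ := R.dec M hM
  rw [R.tII M K U hM h] at h1
  rw [R.tIII M K U hM h]
  tauto

theorem not_III_of_V (R : Rows G) {M : Subgroup G} (hM : IsCoatom M) (h1 : IsOfTypeV M) :
    ¬ (IsOfTypeIII M ∨ IsOfTypeIV M) := by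
  obtain ⟨K, U, h⟩ := R.dec M hM
  rw [R.tV M K U hM h] at h1
  rw [R.tIII M K U hM h]
  tauto

theorem not_I_of_II (R : Rows G) {M : Subgroup G} (hM : IsCoatom M) (h1 : IsOfTypeII M) :
    ¬ IsOfTypeI M := by
  obtain ⟨K, U, h⟩ := R.dec M hM
  rw [R.tII M K U hM h] at h1
  rw [R.tI M K U hM h]
  tauto

theorem not_I_of_III (R : Rows G) {M : Subgroup G} (hM : IsCoatom M)
    (h1 : IsOfTypeIII M ∨ IsOfTypeIV M) : ¬ IsOfTypeI M := by
  obtain ⟨K, U, h⟩ := R.dec M hM
  rw [R.tIII M K U hM h] at h1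
  rw [R.tI M K U hM h]
  tauto

theorem not_I_of_V (R : Rows G) {M : Subgroup G} (hM : IsCoatom M) (h1 : IsOfTypeV M) :
    ¬ IsOfTypeI M := by
  obtain ⟨K, U, h⟩ := R.dec M hM
  rw [R.tV M K U hM h] at h1
  rw [R.tI M K U hM h]
  tauto

theorem typeI_cj (R : Rows G) {M : Subgroup G} (hM : IsCoatom M) (g : G) :
    IsOfTypeI (cj g M) ↔ IsOfTypeI M := by
  obtain ⟨K, U, h⟩ := R.dec M hM
  rw [R.tI M K U hM h, R.tI _ _ _ (isCoatom_cj hM g) (decomp_cj h g), cj_eq_bot, Ne, cj_eq_bot]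

theorem typeIII_cj (R : Rows G) {M : Subgroup G} (hM : IsCoatom M) (g : G) :
    (IsOfTypeIII (cj g M) ∨ IsOfTypeIV (cj g M)) ↔ (IsOfTypeIII M ∨ IsOfTypeIV M) := by
  obtain ⟨K, U, h⟩ := R.dec M hM
  rw [R.tIII M K U hM h, R.tIII _ _ _ (isCoatom_cj hM g) (decomp_cj h g), Ne, cj_eq_bot, cj_eq_bot,
    fittingHallOf_cj, Cfsg.Agent.Lib.Helper21BGExcbasic.sigmaCore_cj, Ne,
    (map_injective (MulAut.conj g).injective).eq_iff]

theorem typeCore_cj (R : Rows G) {M : Subgroup G} (hM : IsCoatom M) (g : G) :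
    typeCore (cj g M) = cj g (typeCore M) := by
  unfold typeCore
  by_cases h : IsOfTypeIII M ∨ IsOfTypeIV M
  · rw [if_pos h, if_pos ((typeIII_cj R hM g).mpr h)]
    exact (map_commutator M M _).symm
  · rw [if_neg h, if_neg (fun h' => h ((typeIII_cj R hM g).mp h')), fittingHallOf_cj]

end fin

end Cfsg.Agent.Lib.Helper60PF8a
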