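import Mathlib
import Cfsg.Agent.Lib.Helper60PF8a
import Cfsg.Agent.Lib.Helper24BGCover
import Cfsg.Agent.Lib.Helper27BG16basic
import Cfsg.Agent.S1432

set_option autoImplicit false
set_option linter.unusedSectionVars false

namespace Cfsg.Agent.Lib.H60WCentII

open Cfsg Subgroup
open Cfsg.Agent.Lib.Helper30Trans Cfsg.Agent.Lib.Helper24BG

variable {G : Type*} [Group G] [Finite G]

/-- some prime `p ∉ σ(M)` divides `orderOf a` (otherwise `Helper24BGCover.mem_sigmaCore_of_piNum`);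
`k = orderOf a / p` (`orderOf_pow_orderOf_div`). -/
theorem exists_prime_pow (hG : IsMinSimpleOddOrder G) {M : Subgroup G} (hM : IsCoatom M) {a : G}
    (haM : a ∈ M) (ha' : a ∉ sigmaCore M) :
    ∃ p k : ℕ, p.Prime ∧ p ∉ sigma M ∧ p ∣ orderOf a ∧ orderOf (a ^ k) = p := by
  have h : ∃ p : ℕ, p.Prime ∧ p ∣ orderOf a ∧ p ∉ sigma M := by
    by_contra hcon
    push Not at hcon
    exact ha' (Cfsg.Agent.Lib.Helper24BGCover.mem_sigmaCore_of_piNum hG hM haM hcon)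
  obtain ⟨p, hp, hd, hs⟩ := h
  exact ⟨p, orderOf a / p, hp, hs, hd,
    orderOf_pow_orderOf_div (orderOf_pos a).ne' hd⟩

/-- `a ∈ M \ M_σ` commuting with `y ∈ M_σ^#`: S1432 with `x := y`, `x' := a ^ k` of prime order `p ∉ σ(M)`. -/
theorem alt (hG : IsMinSimpleOddOrder G) {M : Subgroup G} (hM : IsCoatom M) {a : G}
    (ha : a ∈ sigmaHat M) (ha' : a ∉ sigmaCore M) :
    ∃ p : ℕ, p.Prime ∧ p ∣ orderOf a ∧
      (p ∈ kappa M ∨ (p ∈ tau2 M ∧ centralizer ({a} : Set G) ≤ M)) := by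
  obtain ⟨haM, y, hy, hy1, hay⟩ := ha
  obtain ⟨p, k, hp, hs, hd, hk⟩ := exists_prime_pow hG hM haM ha'
  have hcomm : a ^ k * y = y * a ^ k := (Commute.pow_left (show Commute a y from hay) k)
  have h1 : a ^ k ≠ 1 := by
    intro h
    rw [h, orderOf_one] at hk
    exact hp.one_lt.ne hk
  have hq : ∀ q : ℕ, q.Prime → q ∣ orderOf (a ^ k) → q = p := by
    intro q hq hqd
    rw [hk] at hqd
    exact (Nat.prime_dvd_prime_iff_eq hq hp).1 hqd
  rcases Cfsg.Agent.S1432.result hG M hM y hy hy1 (a ^ k)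
    ⟨M.pow_mem haM k, mem_centralizer_singleton_iff.2 hcomm⟩ h1
    (fun q hq' hqd => by rw [hq q hq' hqd]; exact hs) with ⟨h2, -⟩ | ⟨h2, -, h3, -⟩
  · exact ⟨p, hp, hd, Or.inl (h2 p hp (by rw [hk]))⟩
  · refine ⟨p, hp, hd, Or.inr ⟨h2 p hp (by rw [hk]), le_trans ?_ h3⟩⟩
    intro c hc
    rw [mem_centralizer_singleton_iff] at hc ⊢
    exact (Commute.pow_right (show Commute c a from hc) k)

/-- no prime of `κ(M)` divides `|U ⊔ M_σ|`: `K` is a Hall `κ(M)`-subgroup (`hKU.hall.2.2`),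
`|M : K| = |U||M_σ| = |U ⊔ M_σ|`. -/
theorem not_kappa (hG : IsMinSimpleOddOrder G) {M K U : Subgroup G} (hM : IsCoatom M)
    (hKU : IsSigmaDecomposition M K U) {p : ℕ} (hp : p ∈ kappa M) :
    ¬ p ∣ Nat.card ↥(U ⊔ sigmaCore M) := by
  intro hd
  apply hKU.hall.2.2 p hp.1 hp
  have hc := Cfsg.Agent.Lib.Helper27BG16basic.card_eq hG hM hKU
  have h1 := Cfsg.Agent.Lib.Helper27BG16basic.card_mul_relIndex hKU.hall.1
  have h2 : K.relIndex M = Nat.card U * Nat.card (sigmaCore M) := by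
    apply Nat.eq_of_mul_eq_mul_left (Nat.card_pos (α := K))
    rw [h1, hc]; ring
  rw [h2, ← Cfsg.Agent.Lib.Helper27BG16basic.card_UMs hG hM hKU]
  exact hd

/-- centralizers of the second kind: `alt` + `not_kappa`. -/
theorem cent_ii (hG : IsMinSimpleOddOrder G) {M K U : Subgroup G} (hM : IsCoatom M)
    (hKU : IsSigmaDecomposition M K U) {a : G} (ha : a ∈ sigmaA M U) (ha' : a ∉ sigmaCore M) :
    centralizer ({a} : Set G) ≤ M := by
  obtain ⟨p, hp, hd, h | h⟩ := alt hG hM ha.1 ha'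
  · exact absurd (hd.trans (Subgroup.orderOf_dvd_natCard _ ha.2)) (not_kappa hG hM hKU h)
  · exact h.2

/-- `alt` with `κ(M) = τ₂(M) = ∅`. -/
theorem no_ii (hG : IsMinSimpleOddOrder G) {M : Subgroup G} (hM : IsCoatom M)
    (hk : kappa M = ∅) (ht : tau2 M = ∅) {a : G} (ha : a ∈ sigmaHat M) : a ∈ sigmaCore M := by
  by_contra ha'
  obtain ⟨p, hp, hd, h | h⟩ := alt hG hM ha ha'
  · rw [hk] at h
    exact h
  · rw [ht] at h
    exact h.1

end Cfsg.Agent.Lib.H60WCentII
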