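import Mathlib
import Cfsg.Agent.Lib.Helper60PF8a

set_option autoImplicit false
set_option linter.unusedSectionVars false

namespace Cfsg.Agent.Lib.H60WCentIII

open Cfsg Subgroup

variable {G : Type*} [Group G]

/-- `C(w) ≤ N({w}) = W₁ ⊔ W₂ ≤ M` (`hP.selfNormalizing.2.2.2.2.2 {w}`, `mem_set_normalizer_iff`;
`W₁ ≤ M` by `hP.W₁_compl.2.1`, `W₂ ≤ M_F ≤ M` by `hP.W₂_le`, `Helper29Basic.fittingHallOf_le`), then conjugate by
`m ∈ M`: `c ∈ C(m w m⁻¹)` iff `m⁻¹ c m ∈ C(w)`. -/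
theorem cent_iii {M W₁ U' W₂ : Subgroup G} (hP : IsTypePWith M W₁ U' W₂) {m w : G} (hm : m ∈ M)
    (hw : w ∈ W₁ ⊔ W₂) (h1 : w ∉ W₁) (h2 : w ∉ W₂) :
    centralizer ({m * w * m⁻¹} : Set G) ≤ M := by
  have hN : normalizer ({w} : Set G) = W₁ ⊔ W₂ := by
    apply hP.selfNormalizing.2.2.2.2.2 {w}
    · intro x hx
      rw [Set.mem_singleton_iff] at hx
      subst hx
      exact ⟨hw, fun h => h.elim h1 h2⟩
    · exact Set.singleton_nonempty w
  have hWM : W₁ ⊔ W₂ ≤ M :=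
    sup_le hP.W₁_compl.2.1
      ((hP.W₂_le.trans inf_le_left).trans (Cfsg.Agent.Lib.Helper29Basic.fittingHallOf_le M))
  intro c hc
  rw [mem_centralizer_singleton_iff] at hc
  have hc' : m⁻¹ * c * m ∈ centralizer ({w} : Set G) := by
    rw [mem_centralizer_singleton_iff]
    have e : m⁻¹ * c * m * w = m⁻¹ * (c * (m * w * m⁻¹)) * m := by group
    rw [e, hc]
    group
  have h3 : m⁻¹ * c * m ∈ M := hWM (hN ▸ (centralizer_le_normalizer _ hc'))
  have := M.mul_mem (M.mul_mem hm h3) (M.inv_mem hm)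
  have e : m * (m⁻¹ * c * m) * m⁻¹ = c := by group
  rwa [e] at this

end Cfsg.Agent.Lib.H60WCentIII
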