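import Cfsg.Agent.Lib.Helper51BG16
import Cfsg.Agent.Lib.Helper37BG
import Cfsg.Agent.Lib.Helper31BGS
import Cfsg.Agent.Lib.Helper14Sylow

/-!
PROJECT 16, PART 2, piece `complconj` (helper11).
-/

set_option autoImplicit false
open Cfsg

namespace Cfsg.Agent.Lib.Helper11BG16complconj

open Subgroup
open scoped commutatorElement
open Cfsg.Agent.Lib.Helper30Trans Cfsg.Agent.Lib.Helper24BG Cfsg.Agent.Lib.Helper51BG16

universe u
variable {G : Type u} [Group G]

theorem complIn_cj {A B M : Subgroup G} (h : IsComplIn A B M) {m : G} (hm : m ∈ M) :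
    IsComplIn (cj m A) (cj m B) M := by
  obtain ⟨h1, h2, h3, h4⟩ := h
  have hcM : cj m M = M := Cfsg.Agent.Lib.Helper2BGa.cj_eq_self_of_mem hm
  refine ⟨hcM ▸ cj_mono h1, hcM ▸ cj_mono h2, ?_, ?_⟩
  · rw [eq_bot_iff]
    intro x hx
    obtain ⟨hx1, hx2⟩ := mem_inf.mp hx
    rw [mem_cj] at hx1 hx2
    have h5 : m⁻¹ * x * m ∈ A ⊓ B := mem_inf.mpr ⟨hx1, hx2⟩
    rw [h3, mem_bot] at h5
    rw [mem_bot]
    have e : x = m * (m⁻¹ * x * m) * m⁻¹ := by group
    rw [e, h5]; group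
  · intro y hy
    obtain ⟨e, he, a, ha, hea⟩ := h4 (m⁻¹ * y * m) (M.mul_mem (M.mul_mem (M.inv_mem hm) hy) hm)
    refine ⟨m * e * m⁻¹, conj_mem_cj he, m * a * m⁻¹, conj_mem_cj ha, ?_⟩
    have : y = m * (m⁻¹ * y * m) * m⁻¹ := by group
    rw [this, hea]; group

theorem cj_sup (m : G) (A B : Subgroup G) : cj m (A ⊔ B) = cj m A ⊔ cj m B :=
  Subgroup.map_sup A B _

variable [Finite G]

/-- conjugating a standard factorisation by an element of `M`. -/
theorem decomp_cj {M K U : Subgroup G} (hKU : IsSigmaDecomposition M K U) {m : G} (hm : m ∈ M) :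
    IsSigmaDecomposition M (cj m K) (cj m U) := by
  have hcM : cj m M = M := Cfsg.Agent.Lib.Helper2BGa.cj_eq_self_of_mem hm
  have hcMs : cj m (sigmaCore M) = sigmaCore M :=
    cj_eq_self_of_mem_normalizer (Cfsg.Agent.Lib.Helper2BGb.le_normalizer_sigmaCore M hm)
  have hKM : cj m K ≤ M := hcM ▸ cj_mono hKU.hall.1
  refine ⟨?_, ⟨hKM, ?_, ?_⟩, ?_, ?_⟩
  · have := hKU.cyclic
    exact isCyclic_of_surjective (K.equivMapOfInjective (MulAut.conj m).toMonoidHom
      (MulAut.conj m).injective) (MulEquiv.surjective _)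
  · intro p hp hpd
    rw [card_cj] at hpd
    exact hKU.hall.2.1 p hp hpd
  · have h1 := Cfsg.Agent.Lib.Helper37BG.card_eq_mul_relIndex hKM
    have h2 := Cfsg.Agent.Lib.Helper37BG.card_eq_mul_relIndex hKU.hall.1
    rw [card_cj, h2] at h1
    rw [← Nat.eq_of_mul_eq_mul_left Nat.card_pos h1]
    exact hKU.hall.2.2
  · have := complIn_cj hKU.compl hm
    rwa [cj_sup, hcMs] at this
  · rw [Cfsg.Agent.Lib.Helper14Sylow.normalizer_cj]
    exact cj_mono hKU.normal

/-- [complconj] complements of `M_σ` in `U M_σ` are conjugate to `U`, and carry a standard factorisation. -/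
theorem exists_decomp_of_compl (hG : IsMinSimpleOddOrder G) {M K U U' : Subgroup G} (hM : IsCoatom M)
    (hKU : IsSigmaDecomposition M K U) (hc : IsComplIn (sigmaCore M) U' (U ⊔ sigmaCore M)) :
    ∃ m ∈ U ⊔ sigmaCore M, U' = cj m U ∧ IsSigmaDecomposition M (cj m K) U' := by
  have hMsM : sigmaCore M ≤ M := Cfsg.Agent.Lib.Helper2BGb.sigmaCore_le M
  have hUM : U ≤ M := hKU.compl.1
  have hMn := Cfsg.Agent.Lib.Helper2BGb.le_normalizer_sigmaCore M
  have hcard : Nat.card U' = Nat.card U := by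
    have h1 := Cfsg.Agent.Lib.Helper31BGS.card_compl hc
    rw [card_UMs hG hM hKU, mul_comm] at h1
    exact Nat.eq_of_mul_eq_mul_right Nat.card_pos h1
  have hsU : Group.IsSolvable U := sol hG (fun h => hM.1 (top_le_iff.mp (h ▸ hUM)))
  obtain ⟨n, hn, hx⟩ := Cfsg.Agent.Lib.Helper30SZ.sz_conj (N := sigmaCore M) (A := U) (B := U')
    (hUM.trans hMn) (coprime_U_Ms hG hM hKU) (Or.inl hsU) (by rw [sup_comm]; exact hc.2.1) hcard
  have hU' : U' = cj n U := by
    ext x; rw [mem_cj]; exact hx x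
  refine ⟨n, le_sup_right (a := U) hn, hU', ?_⟩
  rw [hU']
  exact decomp_cj hKU (hMsM hn)

end Cfsg.Agent.Lib.Helper11BG16complconj
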