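import Cfsg.Agent.Lib.Helper56BG15Defs
import Cfsg.Agent.Lib.Helper56BG15nilsec
import Cfsg.Agent.Lib.Helper30Bender
import Cfsg.Agent.Lib.Helper30Coprime
import Cfsg.Agent.Lib.Helper29Basic
import Cfsg.Agent.S0012
import Cfsg.Agent.S0026
import Cfsg.Agent.S0029

/-!
PROJECT 15, piece `invcase` (modulo the conclusion of `frob_section`, taken as a hypothesis).
-/

set_option autoImplicit false
open Cfsg

namespace Cfsg.Agent.Lib.Helper56BG15invcase

open Subgroup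
open scoped commutatorElement
open Cfsg.Agent.Lib.Helper56BG15Defs Cfsg.Agent.Lib.Helper56BG15nilsec

universe u
variable {G : Type u} [Group G] [Finite G]

omit [Finite G] in
theorem inf_eq_bot_of_prime {Ks N : Subgroup G} {q : ℕ} (hq : q.Prime) (hc : Nat.card Ks = q)
    (h : ¬ Ks ≤ N) : N ⊓ Ks = ⊥ := by
  have : Finite Ks := Nat.finite_of_card_ne_zero (by rw [hc]; exact hq.ne_zero)
  have h1 : Nat.card ↥(N ⊓ Ks) ∣ q := hc ▸ card_dvd_of_le inf_le_right
  rcases (Nat.dvd_prime hq).mp h1 with h2 | h2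
  · exact card_eq_one.mp h2
  · exfalso
    apply h
    have h3 : N ⊓ Ks = Ks := by
      apply eq_of_le_of_card_ge inf_le_right
      rw [h2, hc]
    rw [← h3]
    exact inf_le_left

/-- basic facts on the configuration -/
structure Basic (M Ms K Q D : Subgroup G) (q : ℕ) : Prop where
  DMs : D ≤ Ms
  QD : Q ⊓ D = ⊥
  prod : ∀ m ∈ Ms, ∃ a ∈ Q, ∃ b ∈ D, m = a * b
  DQ : D ≤ normalizer (Q : Set G)
  KQ : K ≤ normalizer (Q : Set G)
  copDQ : (Nat.card D).Coprime (Nat.card Q)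
  copKQ : (Nat.card K).Coprime (Nat.card Q)
  copKD : (Nat.card K).Coprime (Nat.card D)
  frob : ∀ k ∈ K, k ≠ 1 → D ⊓ centralizer ({k} : Set G) = ⊥

theorem basic {M Ms K Q D : Subgroup G} {q : ℕ} (h : P1Data M Ms K q)
    (hQ : QData M Ms K q Q) (hD : IsComplIn Q D Ms) : Basic M Ms K Q D q := by
  have hcard : Nat.card Ms = Nat.card Q * Nat.card D := Cfsg.Agent.Lib.Helper29Basic.card_of_complIn hD
  obtain ⟨hQMs, hDMs, hQD, hprod⟩ := hD
  have hrel : Q.relIndex Ms = Nat.card D := by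
    have h1 := relIndex_mul_relIndex ⊥ Q Ms bot_le hQMs
    rw [relIndex_bot_left, relIndex_bot_left, hcard] at h1
    exact Nat.eq_of_mul_eq_mul_left Nat.card_pos h1
  have hqD : ¬ q ∣ Nat.card D := hrel ▸ hQ.syl
  have : Fact q.Prime := ⟨h.qp⟩
  obtain ⟨n, hn⟩ := IsPGroup.iff_card.mp hQ.pg
  refine ⟨hDMs, hQD, hprod, (hDMs.trans h.le).trans hQ.norm, h.Kle.trans hQ.norm, ?_,
    Nat.Coprime.coprime_dvd_right (card_dvd_of_le hQMs) h.cop,
    Nat.Coprime.coprime_dvd_right (card_dvd_of_le hDMs) h.cop, ?_⟩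
  · rw [hn]
    exact Nat.Coprime.pow_right n ((Nat.Prime.coprime_iff_not_dvd h.qp).mpr hqD).symm
  · intro k hk hk1
    rw [eq_bot_iff, ← hQD]
    intro x hx
    have h1 : x ∈ Ms ⊓ centralizer ({k} : Set G) := ⟨hDMs hx.1, hx.2⟩
    rw [h.pr k hk hk1] at h1
    exact ⟨hQ.Ks h1, hx.1⟩

theorem nil_D {M Ms K Q D : Subgroup G} {q : ℕ} (h : P1Data M Ms K q)
    (hB : Basic M Ms K Q D q) (hKD : K ≤ normalizer (D : Set G)) : Group.IsNilpotent D := by
  apply Cfsg.Agent.Lib.Helper66Wf9.nil_of_frob D K h.K1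
  · intro e he u hu
    exact (mem_normalizer_iff.mp (hKD he) u).mp hu
  · intro e he he1 u hu hc
    have : u ∈ D ⊓ centralizer ({e} : Set G) := by
      refine mem_inf.mpr ⟨hu, ?_⟩
      rw [mem_centralizer_iff]
      intro x hx
      rw [Set.mem_singleton_iff] at hx
      subst hx
      exact hc
    rw [hB.frob e he he1] at this
    exact mem_bot.mp this

theorem not_cent {M Ms K Q D : Subgroup G} {q : ℕ} (h : P1Data M Ms K q)
    (hQ : QData M Ms K q Q) (hB : Basic M Ms K Q D q) (hn : Group.IsNilpotent D) :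
    ¬ D ≤ centralizer (Q : Set G) := by
  intro hc
  apply h.nn
  have : Fact q.Prime := ⟨h.qp⟩
  have hQn : Group.IsNilpotent Q := hQ.pg.isNilpotent
  have h1 : Q ≤ fittingOf Ms :=
    Cfsg.Agent.Lib.Helper30Bender.le_fittingOf hQ.le (h.le.trans hQ.norm) hQn
  have h2 : D ≤ fittingOf Ms := by
    apply Cfsg.Agent.Lib.Helper30Bender.le_fittingOf hB.DMs _ hn
    rw [le_normalizer_iff]
    intro m hm d hd
    obtain ⟨a, ha, b, hb, rfl⟩ := hB.prod m hm
    have h3 : b * d * b⁻¹ ∈ D := D.mul_mem (D.mul_mem hb hd) (D.inv_mem hb)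
    have h4 : a * (b * d * b⁻¹) = (b * d * b⁻¹) * a := (mem_centralizer_iff.mp (hc h3)) a ha
    have h5 : a * b * d * (a * b)⁻¹ = a * (b * d * b⁻¹) * a⁻¹ := by group
    rw [h5, h4]
    simpa using h3
  have h3 : Ms = fittingOf Ms := by
    apply le_antisymm _ (Cfsg.Agent.Lib.Helper30Bender.fittingOf_le Ms)
    intro m hm
    obtain ⟨a, ha, b, hb, rfl⟩ := hB.prod m hm
    exact mul_mem (h1 ha) (h2 hb)
  rw [h3]
  exact Cfsg.Agent.Lib.Helper30Bender.fittingOf_isNilpotent Ms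

/-- (ii) -/
theorem cent_of_not_le {M Ms K Q D N : Subgroup G} {q : ℕ} (h : P1Data M Ms K q)
    (hQ : QData M Ms K q Q) (hB : Basic M Ms K Q D q) (hKD : K ≤ normalizer (D : Set G))
    (hNQ : N ≤ Q) (hDN : D ≤ normalizer (N : Set G)) (hKN : K ≤ normalizer (N : Set G))
    (hKs : ¬ Ms ⊓ centralizer (K : Set G) ≤ N) : N ≤ centralizer (D : Set G) := by
  have hbot := inf_eq_bot_of_prime h.qp h.card hKs
  have hnil : Group.IsNilpotent ↥(N ⊔ D) := by
    apply Cfsg.Agent.Lib.Helper66Wf9.nil_of_frob (N ⊔ D) K h.K1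
    · intro e he u hu
      obtain ⟨n, hn, d, hd, rfl⟩ := (Cfsg.Agent.Lib.Helper30SZ.mem_sup_iff hDN).mp hu
      have : e * (n * d) * e⁻¹ = (e * n * e⁻¹) * (e * d * e⁻¹) := by group
      rw [this]
      exact mul_mem (mem_sup_left ((mem_normalizer_iff.mp (hKN he) n).mp hn))
        (mem_sup_right ((mem_normalizer_iff.mp (hKD he) d).mp hd))
    · intro e he he1 u hu hc
      obtain ⟨n, hn, d, hd, rfl⟩ := (Cfsg.Agent.Lib.Helper30SZ.mem_sup_iff hDN).mp hu
      have h1 : n * d ∈ Ms ⊓ centralizer ({e} : Set G) := by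
        refine mem_inf.mpr ⟨mul_mem (hQ.le (hNQ hn)) (hB.DMs hd), ?_⟩
        rw [mem_centralizer_iff]
        intro x hx
        rw [Set.mem_singleton_iff] at hx
        subst hx
        exact hc
      rw [h.pr e he he1] at h1
      have h2 : n * d ∈ Q := hQ.Ks h1
      have h3 : d ∈ Q ⊓ D := by
        refine ⟨?_, hd⟩
        have : d = n⁻¹ * (n * d) := by group
        rw [this]
        exact Q.mul_mem (Q.inv_mem (hNQ hn)) h2
      rw [hB.QD, mem_bot] at h3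
      subst h3
      rw [mul_one] at h1 ⊢
      have h4 : n ∈ N ⊓ (Ms ⊓ centralizer (K : Set G)) := ⟨hn, h1⟩
      rw [hbot] at h4
      exact mem_bot.mp h4
  intro n hn
  rw [mem_centralizer_iff]
  intro d hd
  exact commute_of_nilpotent hnil le_sup_right le_sup_left
    (Nat.Coprime.coprime_dvd_right (card_dvd_of_le hNQ) hB.copDQ) hd hn

/-- (iii) -/
theorem le_sup_of_le {M Ms K Q D N : Subgroup G} {q : ℕ} (h : P1Data M Ms K q)
    (hQ : QData M Ms K q Q) (hB : Basic M Ms K Q D q)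
    (hNQ : N ≤ Q) (hMN : M ≤ normalizer (N : Set G))
    (hKs : Ms ⊓ centralizer (K : Set G) ≤ N) :
    ⁅Q, D⁆ ≤ N ∧ Q ≤ N ⊔ (Q ⊓ centralizer (D : Set G)) := by
  have h1 : ⁅Q, D⁆ ≤ N := by
    apply comm_le_of_fpf_section (Y := Ms) (K := K) (hNQ.trans hQ.le) (h.le.trans hMN)
      (h.Kle.trans h.norm) (h.Kle.trans hMN) h.K1 h.cop
      (Or.inr (Cfsg.Agent.Lib.Helper30SZ.solvable_of_le h.sol h.le)) _ hQ.le hB.DMs hB.copDQ.symm
    intro k hk hk1
    rw [h.pr k hk hk1]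
    exact hKs
  refine ⟨h1, ?_⟩
  have h2 := Cfsg.Agent.S0026.result D Q hB.DQ hB.copDQ
    (Or.inr (Cfsg.Agent.Lib.Helper30SZ.solvable_of_le h.sol (hQ.le.trans h.le)))
  calc Q = ⁅Q, D⁆ ⊔ (Q ⊓ centralizer (D : Set G)) := h2.symm
    _ ≤ N ⊔ (Q ⊓ centralizer (D : Set G)) := sup_le_sup_right h1 _

/-- the Frattini subgroup of `Q`, in `G` -/
abbrev Phi (Q : Subgroup G) : Subgroup G := (frattini Q).map Q.subtype

omit [Finite G] in
theorem Phi_le (Q : Subgroup G) : Phi Q ≤ Q := map_subtype_le _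

/-- (iv) -/
theorem Phi_le_cent {M Ms K Q D : Subgroup G} {q : ℕ} (h : P1Data M Ms K q)
    (hQ : QData M Ms K q Q) (hB : Basic M Ms K Q D q) (hKD : K ≤ normalizer (D : Set G))
    (hnc : ¬ D ≤ centralizer (Q : Set G)) : Phi Q ≤ centralizer (D : Set G) := by
  have hn : normalizer (Q : Set G) ≤ normalizer ((Phi Q : Subgroup G) : Set G) :=
    Cfsg.Agent.Lib.Helper30SZ.normalizer_le_normalizer_map_of_characteristic (frattini Q)
  apply cent_of_not_le h hQ hB hKD (Phi_le Q) (hB.DQ.trans hn) (hB.KQ.trans hn)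
  intro hKs
  apply hnc
  obtain ⟨h1, -⟩ := le_sup_of_le h hQ hB (Phi_le Q) (hQ.norm.trans hn) hKs
  apply Cfsg.Agent.S0029.result D Q hB.DQ
  · exact Nat.Coprime.coprime_dvd_right (card_subgroup_dvd_card _) hB.copDQ
  · intro a ha k hk
    apply h1
    rw [commutator_comm]
    have := commutator_mem_commutator ha hk
    rwa [commutatorElement_def] at this

theorem pow_comm_mem {Q : Subgroup G} {q : ℕ} [Fact q.Prime] (hQ : IsPGroup q Q) {a b : G}
    (ha : a ∈ Q) (hb : b ∈ Q) : a ^ q ∈ Phi Q ∧ a * b * a⁻¹ * b⁻¹ ∈ Phi Q := by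
  obtain ⟨h1, h2⟩ := Cfsg.Agent.S0012.result (G := Q) q hQ
  constructor
  · exact ⟨⟨a, ha⟩ ^ q, h2 _, rfl⟩
  · refine ⟨⁅(⟨a, ha⟩ : Q), ⟨b, hb⟩⁆, h1 ?_, ?_⟩
    · exact commutator_mem_commutator (mem_top _) (mem_top _)
    · rw [commutatorElement_def]
      rfl

theorem norm_Q0 {M Ms K Q D : Subgroup G} {q : ℕ} (h : P1Data M Ms K q)
    (hQ : QData M Ms K q Q) (hB : Basic M Ms K Q D q) (hKD : K ≤ normalizer (D : Set G))
    (hΦ : Phi Q ≤ centralizer (D : Set G)) :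
    Q ≤ normalizer ((Q ⊓ centralizer (D : Set G) : Subgroup G) : Set G) ∧
    D ≤ normalizer ((Q ⊓ centralizer (D : Set G) : Subgroup G) : Set G) ∧
    K ≤ normalizer ((Q ⊓ centralizer (D : Set G) : Subgroup G) : Set G) ∧
    M ≤ normalizer ((Q ⊓ centralizer (D : Set G) : Subgroup G) : Set G) := by
  have : Fact q.Prime := ⟨h.qp⟩
  have h1 : Q ≤ normalizer ((Q ⊓ centralizer (D : Set G) : Subgroup G) : Set G) := by
    rw [le_normalizer_iff]
    intro a ha x hx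
    have h2 := (pow_comm_mem hQ.pg ha hx.1).2
    have h3 : a * x * a⁻¹ = (a * x * a⁻¹ * x⁻¹) * x := by group
    rw [h3]
    exact mul_mem (mem_inf.mpr ⟨Phi_le Q h2, hΦ h2⟩) hx
  have h2 : D ≤ normalizer ((Q ⊓ centralizer (D : Set G) : Subgroup G) : Set G) := by
    rw [le_normalizer_iff]
    intro d hd x hx
    have h3 : d * x = x * d := (mem_centralizer_iff.mp hx.2) d hd
    rw [h3]
    simpa using hx
  have h3 : K ≤ normalizer ((Q ⊓ centralizer (D : Set G) : Subgroup G) : Set G) := by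
    rw [le_normalizer_iff]
    intro k hk x hx
    refine mem_inf.mpr ⟨(mem_normalizer_iff.mp (hB.KQ hk) x).mp hx.1, ?_⟩
    rw [mem_centralizer_iff]
    intro d hd
    have h4 : k⁻¹ * d * k ∈ D := by
      have := (mem_normalizer_iff.mp (hKD (K.inv_mem hk)) d).mp hd
      simpa using this
    have h5 : (k⁻¹ * d * k) * x = x * (k⁻¹ * d * k) := (mem_centralizer_iff.mp hx.2) _ h4
    calc d * (k * x * k⁻¹) = k * ((k⁻¹ * d * k) * x) * k⁻¹ := by group
      _ = k * (x * (k⁻¹ * d * k)) * k⁻¹ := by rw [h5]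
      _ = k * x * k⁻¹ * d := by group
  refine ⟨h1, h2, h3, ?_⟩
  rw [← h.sup]
  apply sup_le _ h3
  intro m hm
  obtain ⟨a, ha, b, hb, rfl⟩ := hB.prod m hm
  exact mul_mem (h1 ha) (h2 hb)

/-- piece `invcase`, with the conclusion of `frob_section` as a hypothesis -/
theorem inv_case_of {M Ms K Q D : Subgroup G} {q : ℕ} (h : P1Data M Ms K q)
    (hQ : QData M Ms K q Q) (hD : IsComplIn Q D Ms) (hKD : K ≤ normalizer (D : Set G))
    (hF : ∀ Q0 : Subgroup G, Q0 < Q → Q ≤ normalizer (Q0 : Set G) → D ≤ normalizer (Q0 : Set G) →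
      K ≤ normalizer (Q0 : Set G) → D ≤ normalizer (Q : Set G) → K ≤ normalizer (Q : Set G) →
      K ≤ normalizer (D : Set G) → D ≠ ⊥ → K ≠ ⊥ → D ⊓ K = ⊥ →
      (∀ k ∈ K, k ≠ 1 → D ⊓ centralizer ({k} : Set G) = ⊥) →
      Group.IsSolvable ↥(D ⊔ K) → Odd (Nat.card ↥(D ⊔ K)) → Group.IsNilpotent Q →
      (Nat.card ↥(D ⊔ K)).Coprime (Nat.card Q) → Q ⊓ centralizer (D : Set G) ≤ Q0 →
      (∀ k ∈ K, k ≠ 1 → Q ⊓ centralizer ({k} : Set G) = Q ⊓ centralizer (K : Set G)) →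
      (Nat.card K).Prime ∧
      Q0.relIndex Q = (Q0.relIndex (Q ⊓ centralizer (K : Set G))) ^ Nat.card K ∧
      (IsCyclic ↥(Q ⊓ centralizer (K : Set G)) → ⁅⁅D, D⁆, Q⁆ ≤ Q0)) :
    (Nat.card K).Prime ∧ Concl M K q Q D := by
  have : Fact q.Prime := ⟨h.qp⟩
  have hB := basic h hQ hD
  have hnil := nil_D h hB hKD
  have hnc := not_cent h hQ hB hnil
  have hΦ := Phi_le_cent h hQ hB hKD hnc
  obtain ⟨n1, n2, n3, n4⟩ := norm_Q0 h hQ hB hKD hΦ
  set Q0 : Subgroup G := Q ⊓ centralizer (D : Set G) with hQ0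
  have hlt : Q0 < Q := by
    refine lt_of_le_of_ne inf_le_left ?_
    intro he
    apply hnc
    have h1 : Q ≤ centralizer (D : Set G) := he ▸ inf_le_right
    exact le_centralizer_iff.mp h1
  have hD1 : D ≠ ⊥ := by
    intro h1
    apply hnc
    rw [h1]
    exact bot_le
  have hDKle : D ⊔ K ≤ M := sup_le (hB.DMs.trans h.le) h.Kle
  have hcs : Nat.card ↥(D ⊔ K) = Nat.card D * Nat.card K :=
    Cfsg.Agent.Lib.Helper30SZ.card_sup hKD hB.copKD
  have hKsQ : Q ⊓ centralizer (K : Set G) = Ms ⊓ centralizer (K : Set G) :=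
    le_antisymm (inf_le_inf_right _ hQ.le) (le_inf hQ.Ks inf_le_right)
  obtain ⟨hp, hidx, hcyc⟩ := hF Q0 hlt n1 n2 n3 hB.DQ hB.KQ hKD hD1 h.K1
    (Cfsg.Agent.Lib.Helper30SZ.inf_eq_bot_of_coprime hB.copKD) hB.frob
    (Cfsg.Agent.Lib.Helper30SZ.solvable_of_le h.sol hDKle)
    (Odd.of_dvd_nat h.odd (card_dvd_of_le hDKle)) hQ.pg.isNilpotent
    (by rw [hcs]; exact Nat.Coprime.mul_left hB.copDQ hB.copKQ) le_rfl
    (by
      intro k hk hk1
      apply le_antisymm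
      · intro x hx
        have h1 : x ∈ Ms ⊓ centralizer ({k} : Set G) := ⟨hQ.le hx.1, hx.2⟩
        rw [h.pr k hk hk1] at h1
        exact ⟨hx.1, h1.2⟩
      · intro x hx
        have h1 : x ∈ Ms ⊓ centralizer (K : Set G) := ⟨hQ.le hx.1, hx.2⟩
        rw [← h.pr k hk hk1] at h1
        exact ⟨hx.1, h1.2⟩)
  rw [hKsQ] at hidx hcyc
  have hKsn : ¬ Ms ⊓ centralizer (K : Set G) ≤ Q0 := by
    intro hle
    rw [relIndex_eq_one.mpr hle, one_pow, relIndex_eq_one] at hidx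
    exact absurd (le_antisymm hlt.le hidx) hlt.ne
  have hri : Q0.relIndex (Ms ⊓ centralizer (K : Set G)) = q := by
    rw [← inf_relIndex_right, inf_eq_bot_of_prime h.qp h.card hKsn, relIndex_bot_left, h.card]
  rw [hri] at hidx
  have hcq : Nat.card Q = Nat.card Q0 * q ^ Nat.card K := by
    rw [← hidx]
    have h1 := relIndex_mul_relIndex ⊥ Q0 Q bot_le hlt.le
    rw [relIndex_bot_left, relIndex_bot_left] at h1
    exact h1.symm
  have hKc : IsCyclic ↥(Ms ⊓ centralizer (K : Set G)) := isCyclic_of_prime_card h.card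
  have hDD : ⁅D, D⁆ ≤ D := commutator_le_self D
  refine ⟨hp, hnil, n4, hlt, hcq, ?_, ?_, ?_⟩
  · intro a ha b hb
    obtain ⟨h1, h2⟩ := pow_comm_mem hQ.pg ha hb
    exact ⟨mem_inf.mpr ⟨Phi_le Q h1, hΦ h1⟩, mem_inf.mpr ⟨Phi_le Q h2, hΦ h2⟩⟩
  · intro N hN1 hN2 hMN
    have hKsN : Ms ⊓ centralizer (K : Set G) ≤ N := by
      by_contra hc
      have h1 := cent_of_not_le h hQ hB hKD hN2.le ((hB.DMs.trans h.le).trans hMN)
        (h.Kle.trans hMN) hc
      exact absurd (le_inf hN2.le h1) (not_le_of_gt hN1)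
    obtain ⟨-, h2⟩ := le_sup_of_le h hQ hB hN2.le hMN hKsN
    have h3 : Q ≤ N := h2.trans (sup_le le_rfl hN1.le)
    exact absurd h3 (not_le_of_gt hN2)
  · have h1 := hcyc hKc
    rw [Cfsg.Agent.Lib.Helper30Coprime.le_centralizer_iff_conj]
    apply Cfsg.Agent.Lib.Helper30Coprime.centralizes_of_chain (N := Q0)
    · exact Nat.Coprime.coprime_dvd_left (card_dvd_of_le hDD)
        (Nat.Coprime.coprime_dvd_right (card_dvd_of_le hlt.le) hB.copDQ)
    · intro a ha n hn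
      have h2 : a * n = n * a := (mem_centralizer_iff.mp hn.2) a (hDD ha)
      rw [h2]
      group
    · intro a ha x hx
      have h2 : ⁅a, x⁆ ∈ Q0 := h1 (commutator_mem_commutator ha hx)
      rw [commutatorElement_def] at h2
      have h3 : x⁻¹ * (a * x * a⁻¹) = x⁻¹ * (a * x * a⁻¹ * x⁻¹) * x⁻¹⁻¹ := by group
      rw [h3]
      exact (mem_normalizer_iff.mp (n1 (Q.inv_mem hx)) _).mp h2

end Cfsg.Agent.Lib.Helper56BG15invcase
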