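import Mathlib
import Cfsg.Agent.S1414
import Cfsg.Agent.Lib.Helper31BGS
import Cfsg.Agent.Lib.Helper30Bender
import Cfsg.Agent.Lib.Helper27BG16fhall
import Cfsg.Agent.Lib.Helper27Core
import Cfsg.Agent.Lib.Helper56BG15Defs

/-! PROJECT 15, piece `qbeta`. -/

set_option autoImplicit false

namespace Cfsg.Agent.Lib.Helper60BG15qbeta

open Cfsg Subgroup
open Cfsg.Agent.Lib.Helper30Trans Cfsg.Agent.Lib.Helper24BG Cfsg.Agent.Lib.Helper56BG15Defs

universe u
variable {G : Type u} [Group G] [Finite G]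

/-- piece `qbeta` -/
theorem q_mem_beta (hG : IsMinSimpleOddOrder G) {M K Q : Subgroup G} {q : ℕ} (hM : IsCoatom M)
    (h : P1Data M (sigmaCore M) K q) (hQ : QData M (sigmaCore M) K q Q)
    (hD : ∀ D : Subgroup G, IsComplIn Q D (sigmaCore M) → Group.IsNilpotent D) :
    q ∈ beta M ∧ Q ≤ fittingHallOf M ∧ q ∣ Nat.card (fittingHallOf M) := by
  have hq : Fact q.Prime := ⟨h.qp⟩
  set Ms := sigmaCore M with hMs
  have hqQ : q ∣ Nat.card Q := by
    rw [← h.card]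
    exact card_dvd_of_le hQ.Ks
  have hqMs : q ∣ Nat.card Ms := hqQ.trans (card_dvd_of_le hQ.le)
  have hqM : q ∣ Nat.card M := hqMs.trans (card_dvd_of_le h.le)
  have hQQ : IsSyl q Q Q := ⟨le_rfl, hQ.pg, fun _ hle _ hge => le_antisymm hle hge⟩
  have hQs : IsSyl q Q Ms := Cfsg.Agent.Lib.Helper31BGS.isSyl_of_not_dvd_relIndex hQQ hQ.le hQ.syl
  have hrel : Ms.relIndex M = Nat.card K := by
    have h1 := Cfsg.Agent.Lib.Helper30SZ.card_sup (N := Ms) (A := K) (h.Kle.trans h.norm) h.cop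
    rw [h.sup] at h1
    have h2 := Cfsg.Agent.Lib.Helper27Core.card_mul_relIndex h.le
    rw [h1] at h2
    exact Nat.eq_of_mul_eq_mul_left Nat.card_pos h2
  have hqK : ¬ q ∣ Nat.card K := by
    intro hd
    have := Nat.dvd_gcd hd hqMs
    rw [h.cop] at this
    exact h.qp.one_lt.ne' (Nat.dvd_one.mp this)
  have hQM : IsSyl q Q M :=
    Cfsg.Agent.Lib.Helper31BGS.isSyl_of_not_dvd_relIndex hQs h.le (by rw [hrel]; exact hqK)
  have hQF : Q ≤ fittingHallOf M := Cfsg.Agent.Lib.Helper27BG16fhall.le_fittingHallOf hQM hQ.norm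
  refine ⟨?_, hQF, hqQ.trans (card_dvd_of_le hQF)⟩
  by_contra hb
  obtain ⟨P, N, hN, hNP⟩ := ((Cfsg.Agent.S1414.result hG M hM).2.2.2.2 q h.qp hqM hb).2.1
  have hcardP : Nat.card (Q.subgroupOf Ms) = Nat.card P := by
    have e1 := hQs.toSylow.card_eq_multiplicity
    have e2 := P.card_eq_multiplicity
    have e3 : Nat.card hQs.toSylow = Nat.card (Q.subgroupOf Ms) := rfl
    rw [← e3, e1, e2]
  have hmul : Nat.card (Q.subgroupOf Ms) * Nat.card N = Nat.card Ms := by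
    rw [hcardP, mul_comm]
    exact hNP.card_mul_card
  have hcop : (Nat.card (Q.subgroupOf Ms)).Coprime (Nat.card N) := by
    rw [hcardP]
    have := P.card_coprime_index
    rwa [hNP.index_eq_card] at this
  have hcompl : IsComplement' (Q.subgroupOf Ms) N := isComplement'_of_coprime hmul hcop
  have hC : IsComplIn Q (N.map Ms.subtype) Ms := by
    refine ⟨hQ.le, map_subtype_le N, ?_, ?_⟩
    · rw [eq_bot_iff]
      rintro x ⟨hxQ, y, hy, rfl⟩
      have : y ∈ Q.subgroupOf Ms ⊓ N := mem_inf.mpr ⟨mem_subgroupOf.mpr hxQ, hy⟩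
      rw [hcompl.disjoint.eq_bot, mem_bot] at this
      rw [this]; exact one_mem _
    · intro m hm
      obtain ⟨⟨a, b⟩, hab⟩ := hcompl.2 ⟨m, hm⟩
      exact ⟨a.1.1, mem_subgroupOf.mp a.2, b.1.1, ⟨b.1, b.2, rfl⟩, (congrArg Subtype.val hab).symm⟩
  have hDn := hD _ hC
  apply h.nn
  have h1 : Q ≤ fittingOf Ms := Cfsg.Agent.Lib.Helper30Bender.le_fittingOf hQ.le (h.le.trans hQ.norm)
    hQ.pg.isNilpotent
  have h2 : N.map Ms.subtype ≤ fittingOf Ms := by
    apply Cfsg.Agent.Lib.Helper30Bender.le_fittingOf (map_subtype_le N) _ hDn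
    rw [le_normalizer_iff]
    rintro x hx _ ⟨y, hy, rfl⟩
    exact ⟨⟨x, hx⟩ * y * ⟨x, hx⟩⁻¹, hN.conj_mem y hy ⟨x, hx⟩, rfl⟩
  have h3 : Ms ≤ fittingOf Ms := by
    intro m hm
    obtain ⟨a, ha, b, hb', rfl⟩ := hC.2.2.2 m hm
    exact (fittingOf Ms).mul_mem (h1 ha) (h2 hb')
  have h4 : fittingOf Ms = Ms := le_antisymm (Cfsg.Agent.Lib.Helper30Bender.fittingOf_le Ms) h3
  rw [← h4]
  exact Cfsg.Agent.Lib.Helper30Bender.fittingOf_isNilpotent Ms

end Cfsg.Agent.Lib.Helper60BG15qbeta
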