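import Cfsg.Agent.Lib.Helper51BG16a
import Cfsg.Agent.Lib.Helper21BG16Ulemma

/-!
PROJECT 16 (architect helper51): hub = part a (pieces `basic`, `fhall` by helper27) + piece `Ulemma` (helper21, uses S1430).
-/

set_option autoImplicit false
open Cfsg

namespace Cfsg.Agent.Lib.Helper51BG16

open Subgroup
open Cfsg.Agent.Lib.Helper30Trans Cfsg.Agent.Lib.Helper24BG

universe u
variable {G : Type u} [Group G] [Finite G]

/-- for `K ≠ 1` EVERY `U` of a standard factorisation is abelian and `K` acts regularly on it. -/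
theorem U_abelian_free (hG : IsMinSimpleOddOrder G) {M K U : Subgroup G} (hM : IsCoatom M)
    (hKU : IsSigmaDecomposition M K U) (hK1 : K ≠ ⊥) :
    IsMulCommutative U ∧ ∀ k ∈ K, k ≠ 1 → U ⊓ centralizer ({k} : Set G) = ⊥ :=
  Cfsg.Agent.Lib.Helper21BG16Ulemma.U_abelian_free hG hM hKU hK1

end Cfsg.Agent.Lib.Helper51BG16
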