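import Cfsg.Agent.Lib.Helper51BG16
import Cfsg.Agent.Lib.Helper56BG15Defs
import Cfsg.Agent.Lib.Helper30Bender
import Cfsg.Agent.S1365
import Cfsg.Agent.S1373
import Cfsg.Agent.S1426
import Cfsg.Agent.S1429
import Cfsg.Agent.S1430
import Cfsg.Agent.S1445

/-!
PROJECT 15, piece `p1data` (helper68): the hypotheses of the pure form of B-G 15.2.
-/

set_option autoImplicit false
open Cfsg

namespace Cfsg.Agent.Lib.Helper68BG15p1data

open Subgroup
open Cfsg.Agent.Lib.Helper30Trans Cfsg.Agent.Lib.Helper24BG Cfsg.Agent.Lib.Helper56BG15Defs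
open Cfsg.Agent.Lib.Helper30Bender

universe u
variable {G : Type u} [Group G] [Finite G]

omit [Finite G] in
theorem mem_centralizer_subgroupOf {M K : Subgroup G} (hK : K ≤ M) (y : M) :
    y ∈ centralizer ((K.subgroupOf M : Subgroup M) : Set M) ↔ (y : G) ∈ centralizer (K : Set G) := by
  rw [Subgroup.mem_centralizer_iff, Subgroup.mem_centralizer_iff]
  constructor
  · intro h k hk
    have := h ⟨k, hK hk⟩ (by exact hk)
    exact congrArg Subtype.val this
  · intro h k hk
    exact Subtype.ext (h k hk)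

omit [Finite G] in
theorem mem_centralizer_singleton_sub {M : Subgroup G} (x y : M) :
    y ∈ centralizer ({x} : Set M) ↔ (y : G) ∈ centralizer ({(x : G)} : Set G) := by
  rw [Subgroup.mem_centralizer_iff, Subgroup.mem_centralizer_iff]
  constructor
  · intro h k hk
    rw [Set.mem_singleton_iff.mp hk]
    exact congrArg Subtype.val (h x rfl)
  · intro h k hk
    rw [Set.mem_singleton_iff.mp hk]
    exact Subtype.ext (h x rfl)

/-- ambient form of S1445 -/
theorem s1445_ambient {M Ms K : Subgroup G} (hsol : Group.IsSolvable M) (hodd : Odd (Nat.card M))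
    (hle : Ms ≤ M) (hnorm : M ≤ normalizer (Ms : Set G)) (hK : K ≤ M) (hsup : Ms ⊔ K = M)
    (hcop : (Nat.card Ms).Coprime (Nat.card K))
    (hpr : ∀ k ∈ K, k ≠ 1 → Ms ⊓ centralizer ({k} : Set G) = Ms ⊓ centralizer (K : Set G))
    (hF : fittingOf Ms ⊓ centralizer (K : Set G) = ⊥) : ⁅Ms, K⁆ ≤ fittingOf Ms := by
  haveI := hsol
  haveI : (Ms.subgroupOf M).Normal := (Subgroup.normal_subgroupOf_iff_le_normalizer hle).mpr hnorm
  have hmapMs : (Ms.subgroupOf M).map M.subtype = Ms := by
    rw [Subgroup.subgroupOf_map_subtype, inf_eq_left.mpr hle]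
  have hmapK : (K.subgroupOf M).map M.subtype = K := by
    rw [Subgroup.subgroupOf_map_subtype, inf_eq_left.mpr hK]
  -- `N`, the image of the Fitting subgroup
  have hN : (fittingOf (Ms.subgroupOf M)).map M.subtype ≤ fittingOf Ms := by
    apply le_fittingOf
    · calc (fittingOf (Ms.subgroupOf M)).map M.subtype ≤ (Ms.subgroupOf M).map M.subtype :=
          Subgroup.map_mono (fittingOf_le _)
        _ = Ms := hmapMs
    · calc Ms = (Ms.subgroupOf M).map M.subtype := hmapMs.symm
        _ ≤ (normalizer ((fittingOf (Ms.subgroupOf M) : Subgroup M) : Set M)).map M.subtype :=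
          Subgroup.map_mono (le_normalizer_fittingOf _)
        _ ≤ _ := Subgroup.le_normalizer_map _
    · haveI := fittingOf_isNilpotent (Ms.subgroupOf M)
      exact Group.nilpotent_of_mulEquiv
        (Subgroup.equivMapOfInjective _ M.subtype M.subtype_injective)
  have key := Cfsg.Agent.S1445.result (G := M) hodd (Ms.subgroupOf M) (K.subgroupOf M) ?_ ?_ ?_ ?_
  · have := Subgroup.map_mono (f := M.subtype) key
    rw [Subgroup.map_commutator, hmapMs, hmapK] at this
    exact this.trans hN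
  · rw [← Subgroup.subgroupOf_sup hle hK, hsup, Subgroup.subgroupOf_self]
  · rw [Nat.card_congr (Subgroup.subgroupOfEquivOfLe hle).toEquiv,
      Nat.card_congr (Subgroup.subgroupOfEquivOfLe hK).toEquiv]
    exact hcop
  · intro x hx hx1
    ext y
    rw [Subgroup.mem_inf, Subgroup.mem_inf, mem_centralizer_subgroupOf hK,
      mem_centralizer_singleton_sub, Subgroup.mem_subgroupOf, ← Subgroup.mem_inf, ← Subgroup.mem_inf,
      hpr (x : G) hx (fun h => hx1 (Subtype.ext h))]
  · rw [eq_bot_iff]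
    intro y hy
    rw [Subgroup.mem_inf, mem_centralizer_subgroupOf hK] at hy
    have h1 : (y : G) ∈ fittingOf Ms ⊓ centralizer (K : Set G) :=
      ⟨hN (Subgroup.mem_map_of_mem M.subtype hy.1), hy.2⟩
    rw [hF, Subgroup.mem_bot] at h1
    exact Subgroup.mem_bot.mpr (Subtype.ext h1)

omit [Finite G] in
theorem derived_lt_of_sol {B : Subgroup G} (hsol : Group.IsSolvable B) (hbot : B ≠ ⊥) :
    ⁅B, B⁆ < B := by
  have : Nontrivial B := (Subgroup.nontrivial_iff_ne_bot B).mpr hbot
  have h1 : commutator B < ⊤ := Group.IsSolvable.commutator_lt_top_of_nontrivial B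
  have h2 := (Subgroup.map_lt_map_iff_of_injective B.subtype_injective).mpr h1
  rwa [Subgroup.map_subtype_commutator, ← MonoidHom.range_eq_map, Subgroup.range_subtype] at h2

/-- piece `p1data` -/
theorem p1data (hG : IsMinSimpleOddOrder G) {M K U : Subgroup G} (hM : IsCoatom M)
    (hKU : IsSigmaDecomposition M K U) (hne : fittingHallOf M ≠ sigmaCore M) :
    U = ⊥ ∧ sigmaCore M = ⁅M, M⁆ ∧
      P1Data M (sigmaCore M) K (Nat.card ↥(sigmaCore M ⊓ centralizer (K : Set G))) := by
  have hnn : ¬ Group.IsNilpotent (sigmaCore M) := fun h =>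
    hne ((Cfsg.Agent.Lib.Helper51BG16.fittingHallOf_eq_sigmaCore_iff hG hM).mpr h)
  have hsol : Group.IsSolvable M := sol hG hM.1
  have hMsM : sigmaCore M ≤ M := Cfsg.Agent.Lib.Helper30BG2.sigmaCore_le M
  have hU : U = ⊥ := by
    by_contra hU
    have hc : Nat.card U ≠ 1 := by rwa [Ne, Subgroup.card_eq_one]
    obtain ⟨p, hp, hpd⟩ := Nat.exists_prime_and_dvd hc
    obtain ⟨h1, h2⟩ := Cfsg.Agent.Lib.Helper51BG16.U_primes hG hM hKU p hp hpd
    haveI := Fact.mk hp
    have hpM : p ∣ Nat.card M := hpd.trans (Subgroup.card_dvd_of_le hKU.compl.1)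
    exact hnn (Cfsg.Agent.S1429.result hG M hM (fun h => h1 (h p hp hpM h2)) p hpM
      (by rintro (h | h); exacts [h2 h, h1 h]) (Classical.arbitrary _)).2.2
  have hsup : sigmaCore M ⊔ K = M := by
    apply le_antisymm (sup_le hMsM hKU.hall.1)
    intro m hm
    obtain ⟨a, ha, b, hb, rfl⟩ := hKU.compl.2.2.2 m hm
    rw [hU, mem_bot] at ha
    rw [ha, one_mul, sup_comm]; exact hb
  have hK1 : K ≠ ⊥ := by
    intro hK
    rw [hK, sup_bot_eq] at hsup
    have h1 : M ≤ ⁅M, M⁆ := by
      conv_lhs => rw [← hsup]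
      exact Cfsg.Agent.Lib.Helper2BGb.sigmaCore_le_derived hG hM
    have hMb : M ≠ ⊥ := by
      intro h
      apply hnn
      rw [hsup, h]
      infer_instance
    exact absurd h1 (not_le_of_gt (derived_lt_of_sol hsol hMb))
  have hder : sigmaCore M = ⁅M, M⁆ := by
    rw [(Cfsg.Agent.S1365.result hG M hM K U hKU hK1).1, hU, bot_sup_eq]
  have hpr := (Cfsg.Agent.S1430.result hG M hM K hKU.hall hK1).1
  have hqp := Cfsg.Agent.S1373.result hG M hM K U hKU hK1 hU
  have hcop := Cfsg.Agent.Lib.Helper51BG16.coprime_K_Ms hG hM hKU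
  have hnorm := Cfsg.Agent.Lib.Helper30BG2.le_normalizer_sigmaCore M
  have hE : IsComplIn K (sigmaCore M) M := by
    have := Cfsg.Agent.Lib.Helper51BG16.compl_KU hG hM hKU
    rwa [hU, sup_bot_eq] at this
  have hcomm := (Cfsg.Agent.S1426.result hG M hM K hE).2.1
  refine ⟨hU, hder, ⟨hsol, odd_sub hG M, hMsM, hnorm, hKU.hall.1, hsup, hcop, hK1, rfl, hqp, hpr,
    ?_, hnn⟩⟩
  -- `K* ≤ F(M_σ)`
  have hFne : fittingOf (sigmaCore M) ⊓ centralizer (K : Set G) ≠ ⊥ := by
    intro hF
    have h1 := s1445_ambient hsol (odd_sub hG M) hMsM hnorm hKU.hall.1 hsup hcop.symm hpr hF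
    rw [hcomm] at h1
    apply hnn
    haveI := fittingOf_isNilpotent (sigmaCore M)
    have h2 : fittingOf (sigmaCore M) = sigmaCore M := le_antisymm (fittingOf_le _) h1
    rw [← h2]
    infer_instance
  have hle : fittingOf (sigmaCore M) ⊓ centralizer (K : Set G) ≤
      sigmaCore M ⊓ centralizer (K : Set G) := inf_le_inf_right _ (fittingOf_le _)
  have hd := Subgroup.card_dvd_of_le hle
  rcases (Nat.dvd_prime hqp).mp hd with h | h
  · exact absurd (Subgroup.card_eq_one.mp h) hFne
  · have := Subgroup.eq_of_le_of_card_ge hle h.ge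
    rw [← this]
    exact inf_le_left

end Cfsg.Agent.Lib.Helper68BG15p1data
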