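import Cfsg.Agent.Lib.Helper56BG15Defs
import Cfsg.Agent.Lib.Helper56BG15nilsec
import Cfsg.Agent.Lib.Helper3DerFit
import Cfsg.Agent.Lib.Helper1Fitting

/-!
PROJECT 15 piece `existsQ`: the normal Sylow `q`-subgroup of `M_σ`.
-/

set_option autoImplicit false
open Cfsg

namespace Cfsg.Agent.Lib.Helper84BG15existsQ

open Subgroup
open Cfsg.Agent.Lib.Helper56BG15Defs

universe u
variable {G : Type u} [Group G] [Finite G]

theorem exists_Q {M Ms K : Subgroup G} {q : ℕ} (h : P1Data M Ms K q) :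
    ∃ Q : Subgroup G, QData M Ms K q Q := by
  classical
  have : Fact q.Prime := ⟨h.qp⟩
  set R : Subgroup G := (pCore q Ms).map Ms.subtype with hR
  have hRn : (pCore q Ms).Normal := Helper1Fitting.pCore_normal q
  have hRp : IsPGroup q (pCore q Ms) := Helper1Fitting.pCore_isPGroup q
  have hRle : R ≤ Ms := Subgroup.map_subtype_le _
  have hRpg : IsPGroup q R := hRp.map _
  have hmemR : ∀ (x : G) (hx : x ∈ Ms), x ∈ R ↔ (⟨x, hx⟩ : Ms) ∈ pCore q Ms := by
    intro x hx
    constructor
    · rintro ⟨y, hy, rfl⟩; exact hy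
    · intro hy; exact ⟨_, hy, rfl⟩
  have hMsR : ∀ g ∈ Ms, ∀ x ∈ R, g * x * g⁻¹ ∈ R := by
    intro g hg x hx
    have hxM := hRle hx
    rw [hmemR _ (Ms.mul_mem (Ms.mul_mem hg hxM) (Ms.inv_mem hg))]
    exact hRn.conj_mem _ ((hmemR x hxM).mp hx) ⟨g, hg⟩
  -- normal `q`-subgroups of `Ms` lie in `R`
  have hleR : ∀ U : Subgroup G, U ≤ Ms → IsPGroup q U → (∀ g ∈ Ms, ∀ x ∈ U, g * x * g⁻¹ ∈ U) → U ≤ R := by
    intro U hU hUp hUn
    have h1 : (U.subgroupOf Ms).Normal := ⟨fun x hx g => by
      rw [Subgroup.mem_subgroupOf] at hx ⊢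
      exact hUn g g.2 x hx⟩
    have h2 : IsPGroup q (U.subgroupOf Ms) := hUp.comap_of_injective Ms.subtype Ms.subtype_injective
    have h3 := Helper1Fitting.le_pCore h1 h2
    intro x hx
    exact (hmemR x (hU hx)).mpr (h3 (Subgroup.mem_subgroupOf.mpr hx))
  have hMconj : ∀ m ∈ M, ∀ x ∈ Ms, m * x * m⁻¹ ∈ Ms := by
    intro m hm x hx
    exact (Subgroup.mem_normalizer_iff.mp (h.norm hm) x).mp hx
  have hconj : ∀ m ∈ M, ∀ x ∈ R, m * x * m⁻¹ ∈ R := by
    intro m hm x hx
    have hU : R.map (MulAut.conj m).toMonoidHom ≤ R := by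
      apply hleR
      · rintro _ ⟨y, hy, rfl⟩
        exact hMconj m hm y (hRle hy)
      · exact hRpg.map _
      · rintro g hg _ ⟨y, hy, rfl⟩
        refine ⟨(m⁻¹ * g * m) * y * (m⁻¹ * g * m)⁻¹, hMsR _ ?_ y hy, ?_⟩
        · have := hMconj m⁻¹ (M.inv_mem hm) g hg
          rwa [inv_inv] at this
        · simp only [MulEquiv.coe_toMonoidHom, MulAut.conj_apply]
          group
    exact hU ⟨x, hx, rfl⟩
  have hMR : M ≤ normalizer (R : Set G) := by
    intro m hm
    rw [Subgroup.mem_normalizer_iff]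
    intro x
    refine ⟨hconj m hm x, fun hx => ?_⟩
    have := hconj m⁻¹ (M.inv_mem hm) _ hx
    have e : m⁻¹ * (m * x * m⁻¹) * m⁻¹⁻¹ = x := by group
    rwa [e] at this
  have hKs : Ms ⊓ centralizer (K : Set G) ≤ R := by
    intro x hx
    obtain ⟨y, hy, rfl⟩ := h.fit hx
    refine ⟨y, ?_, rfl⟩
    apply Helper3DerFit.mem_pCore_of_mem_fitting q hy (k := 1)
    have h1 : (⟨(y : G), hx⟩ : ↥(Ms ⊓ centralizer (K : Set G))) ^ q = 1 := by
      rw [← h.card]; exact pow_card_eq_one'
    have h2 : (y : G) ^ q = 1 := congrArg Subtype.val h1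
    rw [pow_one]
    exact Subtype.ext h2
  -- a Sylow `q`-subgroup
  obtain ⟨P⟩ : Nonempty (Sylow q Ms) := inferInstance
  have hRP : pCore q Ms ≤ P := by
    rw [Helper1Fitting.pCore_eq_iInf_sylow]
    exact iInf_le _ P
  set S : Subgroup G := (P : Subgroup Ms).map Ms.subtype with hS
  have hSle : S ≤ Ms := Subgroup.map_subtype_le _
  have hRS : R ≤ S := Subgroup.map_mono hRP
  have hcardS : Nat.card S = Nat.card P :=
    Nat.card_congr ((P : Subgroup Ms).equivMapOfInjective _ Ms.subtype_injective).symm.toEquiv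
  have hMssol : Group.IsSolvable Ms := by
    have := h.sol
    exact Group.isSolvable_of_isSolvable_injective (Subgroup.inclusion_injective h.le)
  have hPn : (normalizer ((P : Subgroup Ms) : Set Ms)).index = 1 := by
    rw [Nat.eq_one_iff_not_exists_prime_dvd]
    intro r hr hdvd
    have : Fact r.Prime := ⟨hr⟩
    by_cases hrq : r = q
    · subst hrq
      exact P.not_dvd_index (hdvd.trans (Subgroup.index_dvd_of_le Subgroup.le_normalizer))
    · obtain ⟨A'⟩ : Nonempty (Sylow r Ms) := inferInstance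
      set A : Subgroup G := (A' : Subgroup Ms).map Ms.subtype with hA
      have hcardA : Nat.card A = Nat.card A' :=
        Nat.card_congr ((A' : Subgroup Ms).equivMapOfInjective _ Ms.subtype_injective).symm.toEquiv
      have hcopAS : (Nat.card A).Coprime (Nat.card S) := by
        rw [hcardA, hcardS]
        obtain ⟨a, ha⟩ := A'.2.exists_card_eq
        obtain ⟨b, hb⟩ := P.2.exists_card_eq
        rw [ha, hb]
        exact Nat.Coprime.pow _ _ ((Nat.coprime_primes hr h.qp).mpr hrq)
      have hAS : ⁅A, S⁆ ≤ R := by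
        apply Helper56BG15nilsec.comm_le_of_fpf_section (Y := Ms) (N := R) (K := K) hRle
          (h.le.trans hMR) (h.Kle.trans h.norm) (h.Kle.trans hMR) h.K1 h.cop (Or.inr hMssol) ?_
          (Subgroup.map_subtype_le _) hSle hcopAS
        intro k hk hk1
        rw [h.pr k hk hk1]
        exact hKs
      have hA'N : (A' : Subgroup Ms) ≤ normalizer ((P : Subgroup Ms) : Set Ms) := by
        have key : ∀ a ∈ (A' : Subgroup Ms), ∀ s ∈ (P : Subgroup Ms), a * s * a⁻¹ ∈ (P : Subgroup Ms) := by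
          intro a ha s hs
          have haA : (a : G) ∈ A := ⟨a, ha, rfl⟩
          have hsS : (s : G) ∈ S := ⟨s, hs, rfl⟩
          have h1 : (a : G) * (s : G) * (a : G)⁻¹ * (s : G)⁻¹ ∈ R :=
            hAS (Subgroup.commutator_mem_commutator haA hsS)
          have h2 : (a : G) * (s : G) * (a : G)⁻¹ * (s : G)⁻¹ ∈ S := hRS h1
          obtain ⟨t, ht, hte⟩ := h2
          have h3 : a * s * a⁻¹ = t * s := by
            apply Subtype.ext
            have : ((t * s : Ms) : G) = ((a : G) * (s : G) * (a : G)⁻¹ * (s : G)⁻¹) * s := by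
              rw [← hte]; rfl
            rw [this]
            simp
          rw [h3]
          exact (P : Subgroup Ms).mul_mem ht hs
        intro a ha
        rw [Subgroup.mem_normalizer_iff]
        intro s
        refine ⟨key a ha s, fun hs => ?_⟩
        have := key a⁻¹ ((A' : Subgroup Ms).inv_mem ha) _ hs
        have e : a⁻¹ * (a * s * a⁻¹) * a⁻¹⁻¹ = s := by group
        rwa [e] at this
      exact A'.not_dvd_index (hdvd.trans (Subgroup.index_dvd_of_le hA'N))
  have hPnorm : (P : Subgroup Ms).Normal := by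
    rw [← Subgroup.normalizer_eq_top_iff, ← Subgroup.index_eq_one]
    exact hPn
  have hPR : (P : Subgroup Ms) = pCore q Ms :=
    le_antisymm (Helper1Fitting.le_pCore hPnorm P.2) hRP
  refine ⟨R, hRle, hMR, hRpg, ?_, hKs⟩
  have h1 : R.relIndex Ms = (pCore q Ms).index := by
    rw [Subgroup.relIndex, hR]
    congr 1
    ext x
    rw [Subgroup.mem_subgroupOf]
    exact hmemR x x.2
  rw [h1, ← hPR]
  exact P.not_dvd_index

end Cfsg.Agent.Lib.Helper84BG15existsQ
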