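import Cfsg.Agent.S0022
import Cfsg.Agent.S1446

/-!
PROJECT 15 piece `frobsec`: S1446 for a section `Q/Q0`.
-/

set_option autoImplicit false
open Cfsg

namespace Cfsg.Agent.Lib.Helper84BG15frobsec

open Subgroup

universe u
variable {G : Type u} [Group G] [Finite G]

theorem frob_section {Q Q0 D K : Subgroup G} (hQ0 : Q0 < Q)
    (hQQ0 : Q ≤ normalizer (Q0 : Set G)) (hDQ0 : D ≤ normalizer (Q0 : Set G))
    (hKQ0 : K ≤ normalizer (Q0 : Set G)) (hDQ : D ≤ normalizer (Q : Set G))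
    (hKQ : K ≤ normalizer (Q : Set G)) (hKD : K ≤ normalizer (D : Set G))
    (hD1 : D ≠ ⊥) (hK1 : K ≠ ⊥) (hDK : D ⊓ K = ⊥)
    (hfrob : ∀ k ∈ K, k ≠ 1 → D ⊓ centralizer ({k} : Set G) = ⊥)
    (hsolv : Group.IsSolvable ↥(D ⊔ K)) (hodd : Odd (Nat.card ↥(D ⊔ K)))
    (hQn : Group.IsNilpotent Q) (hcop : (Nat.card ↥(D ⊔ K)).Coprime (Nat.card Q))
    (hCD : Q ⊓ centralizer (D : Set G) ≤ Q0)
    (hpr : ∀ k ∈ K, k ≠ 1 → Q ⊓ centralizer ({k} : Set G) = Q ⊓ centralizer (K : Set G)) :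
    (Nat.card K).Prime ∧
      Q0.relIndex Q = (Q0.relIndex (Q ⊓ centralizer (K : Set G))) ^ Nat.card K ∧
      (IsCyclic ↥(Q ⊓ centralizer (K : Set G)) → ⁅⁅D, D⁆, Q⁆ ≤ Q0) := by
  classical
  set L := normalizer (Q0 : Set G) with hL
  have hNn : (Q0.subgroupOf L).Normal := Subgroup.normal_in_normalizer
  let f : L →* L ⧸ (Q0.subgroupOf L) := QuotientGroup.mk' _
  have hf1 : ∀ (a : G) (ha : a ∈ L), f ⟨a, ha⟩ = 1 ↔ a ∈ Q0 := by
    intro a ha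
    rw [QuotientGroup.mk'_apply, QuotientGroup.eq_one_iff]
    exact Subgroup.mem_subgroupOf
  let g : ∀ (A : Subgroup G), A ≤ L → (A →* L ⧸ (Q0.subgroupOf L)) :=
    fun A hA => f.comp (Subgroup.inclusion hA)
  have hg : ∀ (A : Subgroup G) (hA : A ≤ L) (a : A), g A hA a = f ⟨a, hA a.2⟩ := fun _ _ _ => rfl
  have hmem : ∀ (A : Subgroup G) (hA : A ≤ L) (x : L ⧸ (Q0.subgroupOf L)),
      x ∈ (g A hA).range ↔ ∃ (a : G) (ha : a ∈ A), f ⟨a, hA ha⟩ = x := by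
    intro A hA x
    constructor
    · rintro ⟨a, rfl⟩; exact ⟨a, a.2, rfl⟩
    · rintro ⟨a, ha, rfl⟩; exact ⟨⟨a, ha⟩, rfl⟩
  have hmono : ∀ (A B : Subgroup G) (hA : A ≤ L) (hB : B ≤ L), A ≤ B → (g A hA).range ≤ (g B hB).range := by
    intro A B hA hB hAB x hx
    obtain ⟨a, ha, rfl⟩ := (hmem A hA x).mp hx
    exact (hmem B hB _).mpr ⟨a, hAB ha, rfl⟩
  have hcard : ∀ (A : Subgroup G) (hA : A ≤ L), Nat.card (g A hA).range = Q0.relIndex A := by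
    intro A hA
    rw [← Subgroup.index_ker]
    have : (g A hA).ker = Q0.subgroupOf A := by
      ext a
      rw [MonoidHom.mem_ker, hg, hf1, Subgroup.mem_subgroupOf]
    rw [this]; rfl
  have hcdvd : ∀ (A : Subgroup G) (hA : A ≤ L), Nat.card (g A hA).range ∣ Nat.card A := by
    intro A hA
    exact Subgroup.card_dvd_of_surjective (g A hA).rangeRestrict (g A hA).rangeRestrict_surjective
  have hnorm : ∀ (A B : Subgroup G) (hA : A ≤ L) (hB : B ≤ L), A ≤ normalizer (B : Set G) →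
      (g A hA).range ≤ normalizer ((g B hB).range : Set (L ⧸ (Q0.subgroupOf L))) := by
    intro A B hA hB hAB x hx
    obtain ⟨a, ha, rfl⟩ := (hmem A hA x).mp hx
    rw [Subgroup.mem_normalizer_iff]
    intro y
    have haN := Subgroup.mem_normalizer_iff.mp (hAB ha)
    constructor
    · intro hy
      obtain ⟨b, hb, rfl⟩ := (hmem B hB y).mp hy
      refine (hmem B hB _).mpr ⟨a * b * a⁻¹, (haN b).mp hb, ?_⟩
      rw [← map_inv, ← map_mul, ← map_mul]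
      rfl
    · intro hy
      obtain ⟨b, hb, hbe⟩ := (hmem B hB _).mp hy
      have hb' : a⁻¹ * b * a ∈ B := by
        rw [haN]
        have : a * (a⁻¹ * b * a) * a⁻¹ = b := by group
        rw [this]; exact hb
      refine (hmem B hB _).mpr ⟨a⁻¹ * b * a, hb', ?_⟩
      have e1 : (⟨a⁻¹ * b * a, hB hb'⟩ : L) = (⟨a, hA ha⟩ : L)⁻¹ * ⟨b, hB hb⟩ * ⟨a, hA ha⟩ := rfl
      rw [e1, map_mul, map_mul, map_inv, hbe]
      group
  have hDKL : D ⊔ K ≤ L := sup_le hDQ0 hKQ0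
  have hQ0dvd : Nat.card Q0 ∣ Nat.card Q := Subgroup.card_dvd_of_le hQ0.le
  have hDKQ0 : (D ⊔ K) ⊓ Q0 = ⊥ :=
    (Subgroup.disjoint_of_coprime_natCard (Nat.Coprime.coprime_dvd_right hQ0dvd hcop)).eq_bot
  have hinj : ∀ (a b : G) (ha : a ∈ D ⊔ K) (hb : b ∈ D ⊔ K),
      f ⟨a, hDKL ha⟩ = f ⟨b, hDKL hb⟩ → a = b := by
    intro a b ha hb hab
    have h1 : f ⟨a⁻¹ * b, hDKL ((D ⊔ K).mul_mem ((D ⊔ K).inv_mem ha) hb)⟩ = 1 := by
      have e1 : (⟨a⁻¹ * b, hDKL ((D ⊔ K).mul_mem ((D ⊔ K).inv_mem ha) hb)⟩ : L)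
          = (⟨a, hDKL ha⟩ : L)⁻¹ * ⟨b, hDKL hb⟩ := rfl
      rw [e1, map_mul, map_inv, hab, inv_mul_cancel]
    rw [hf1] at h1
    have h2 : a⁻¹ * b ∈ (D ⊔ K) ⊓ Q0 := ⟨(D ⊔ K).mul_mem ((D ⊔ K).inv_mem ha) hb, h1⟩
    rw [hDKQ0, Subgroup.mem_bot, inv_mul_eq_one] at h2
    exact h2
  have hDle : D ≤ D ⊔ K := le_sup_left
  have hKle : K ≤ D ⊔ K := le_sup_right
  set Db := (g D hDQ0).range with hDb
  set Kb := (g K hKQ0).range with hKb
  set Qb := (g Q hQQ0).range with hQb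
  have hcardK : Nat.card Kb = Nat.card K := by
    have hi : Function.Injective (g K hKQ0) := by
      intro a b hab
      exact Subtype.ext (hinj a b (hKle a.2) (hKle b.2) hab)
    exact (Nat.card_congr (MonoidHom.ofInjective hi).toEquiv).symm
  have hne : ∀ (A : Subgroup G) (hA : A ≤ D ⊔ K), A ≠ ⊥ → (g A (hA.trans hDKL)).range ≠ ⊥ := by
    intro A hA hA1 hb
    apply hA1
    rw [eq_bot_iff]
    intro a ha
    have h1 : f ⟨a, hDKL (hA ha)⟩ ∈ (g A (hA.trans hDKL)).range := (hmem A _ _).mpr ⟨a, ha, rfl⟩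
    rw [hb, Subgroup.mem_bot] at h1
    have h2 : f ⟨a, hDKL (hA ha)⟩ = f ⟨1, hDKL (one_mem _)⟩ := by
      rw [h1]; exact (map_one f).symm
    exact hinj a 1 (hA ha) (one_mem _) h2
  have hsup : Db ⊔ Kb ≤ (g (D ⊔ K) hDKL).range :=
    sup_le (hmono D _ hDQ0 hDKL hDle) (hmono K _ hKQ0 hDKL hKle)
  have hsupdvd : Nat.card ↥(Db ⊔ Kb) ∣ Nat.card ↥(D ⊔ K) :=
    (Subgroup.card_dvd_of_le hsup).trans (hcdvd _ hDKL)
  -- commuting in the quotient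
  have hcomm : ∀ (a b : G) (ha : a ∈ L) (hb : b ∈ L),
      f ⟨a, ha⟩ * f ⟨b, hb⟩ = f ⟨b, hb⟩ * f ⟨a, ha⟩ ↔ a * b * a⁻¹ * b⁻¹ ∈ Q0 := by
    intro a b ha hb
    rw [← hf1 _ (L.mul_mem (L.mul_mem (L.mul_mem ha hb) (L.inv_mem ha)) (L.inv_mem hb))]
    have e1 : (⟨a * b * a⁻¹ * b⁻¹, L.mul_mem (L.mul_mem (L.mul_mem ha hb) (L.inv_mem ha)) (L.inv_mem hb)⟩ : L)
        = (⟨a, ha⟩ : L) * ⟨b, hb⟩ * (⟨a, ha⟩ : L)⁻¹ * (⟨b, hb⟩ : L)⁻¹ := rfl
    rw [e1, map_mul, map_mul, map_mul, map_inv, map_inv]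
    constructor
    · intro h; rw [h]; group
    · intro h
      have := mul_inv_eq_one.mp h
      rw [mul_inv_eq_iff_eq_mul] at this
      exact this
  have hQsol : Group.IsSolvable Q := inferInstance
  -- lifting fixed points
  have hlift : ∀ (A : Subgroup G), A ≤ D ⊔ K → A ≤ normalizer (Q : Set G) → ∀ y ∈ Q,
      (∀ a ∈ A, a * y * a⁻¹ * y⁻¹ ∈ Q0) → ∃ c ∈ Q ⊓ centralizer (A : Set G), y⁻¹ * c ∈ Q0 := by
    intro A hA hAQ y hy hfix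
    exact Cfsg.Agent.S0022.result A Q hAQ
      (Nat.Coprime.coprime_dvd_left (Subgroup.card_dvd_of_le hA) hcop) (Or.inr hQsol) Q0 hQ0.le hQQ0
      (hA.trans hDKL) y hy hfix
  have hfeq : ∀ (y c : G) (hy : y ∈ L) (hc : c ∈ L), y⁻¹ * c ∈ Q0 → f ⟨y, hy⟩ = f ⟨c, hc⟩ := by
    intro y c hy hc h
    have h1 := (hf1 _ (L.mul_mem (L.inv_mem hy) hc)).mpr h
    have e1 : (⟨y⁻¹ * c, L.mul_mem (L.inv_mem hy) hc⟩ : L) = (⟨y, hy⟩ : L)⁻¹ * ⟨c, hc⟩ := rfl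
    rw [e1, map_mul, map_inv, inv_mul_eq_one] at h1
    exact h1
  -- the centraliser of `Kb` in `Qb`
  have hCK : Qb ⊓ centralizer (Kb : Set _) = (g (Q ⊓ centralizer (K : Set G)) (inf_le_left.trans hQQ0)).range := by
    apply le_antisymm
    · rintro x ⟨hx1, hx2⟩
      obtain ⟨y, hy, rfl⟩ := (hmem Q hQQ0 x).mp hx1
      have hfix : ∀ a ∈ K, a * y * a⁻¹ * y⁻¹ ∈ Q0 := by
        intro a ha
        rw [← hcomm a y (hKQ0 ha) (hQQ0 hy)]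
        exact (Subgroup.mem_centralizer_iff.mp hx2 _ ((hmem K hKQ0 _).mpr ⟨a, ha, rfl⟩))
      obtain ⟨c, hc, hyc⟩ := hlift K hKle hKQ y hy hfix
      refine (hmem _ _ _).mpr ⟨c, hc, ?_⟩
      exact (hfeq y c (hQQ0 hy) (hQQ0 hc.1) hyc).symm
    · intro x hx
      obtain ⟨c, hc, rfl⟩ := (hmem _ _ x).mp hx
      refine ⟨(hmem Q hQQ0 _).mpr ⟨c, hc.1, rfl⟩, ?_⟩
      refine Subgroup.mem_centralizer_iff.mpr ?_
      intro z hz
      obtain ⟨k, hk, rfl⟩ := (hmem K hKQ0 z).mp hz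
      have h1 : k * c = c * k := Subgroup.mem_centralizer_iff.mp hc.2 k hk
      rw [← map_mul, ← map_mul]
      congr 1
      exact Subtype.ext h1
  have hmain := Cfsg.Agent.S1446.result Db Kb Qb (hne D hDle hD1) (hne K hKle hK1) ?_
    (hnorm K D hKQ0 hDQ0 hKD) ?_ ?_ (Odd.of_dvd_nat hodd hsupdvd) ?_ ?_
    (hnorm D Q hDQ0 hQQ0 hDQ) (hnorm K Q hKQ0 hQQ0 hKQ)
    (Nat.Coprime.coprime_dvd_left hsupdvd (Nat.Coprime.coprime_dvd_right (hcdvd Q hQQ0) hcop)) ?_ ?_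
  · obtain ⟨h1, h2, h3⟩ := hmain
    refine ⟨hcardK ▸ h1, ?_, ?_⟩
    · rw [hCK, hcard, hcard, hcardK] at h2
      exact h2
    · intro hcyc
      have hcyc' : IsCyclic ↥(Qb ⊓ centralizer (Kb : Set _)) := by
        rw [hCK]
        exact isCyclic_of_surjective _ (MonoidHom.rangeRestrict_surjective _)
      have h4 := h3 hcyc'
      have hDD : ∀ x ∈ ⁅D, D⁆, ∀ hx : x ∈ L, f ⟨x, hx⟩ ∈ ⁅Db, Db⁆ := by
        have : ⁅D, D⁆ ≤ (⁅Db, Db⁆.comap f).map L.subtype := by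
          rw [Subgroup.commutator_le]
          intro a ha b hb
          refine ⟨(⟨a, hDQ0 ha⟩ : L) * ⟨b, hDQ0 hb⟩ * (⟨a, hDQ0 ha⟩ : L)⁻¹ * (⟨b, hDQ0 hb⟩ : L)⁻¹, ?_, rfl⟩
          show f _ ∈ ⁅Db, Db⁆
          rw [map_mul, map_mul, map_mul, map_inv, map_inv]
          exact Subgroup.commutator_mem_commutator ((hmem D hDQ0 _).mpr ⟨a, ha, rfl⟩)
            ((hmem D hDQ0 _).mpr ⟨b, hb, rfl⟩)
        intro x hx hxL
        obtain ⟨y, hy, hyx⟩ := this hx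
        have : y = ⟨x, hxL⟩ := Subtype.ext hyx
        rw [← this]; exact hy
      rw [Subgroup.commutator_le]
      intro x hx y hy
      have hxL : x ∈ L := (Subgroup.commutator_le.mpr (fun a ha b hb =>
        L.mul_mem (L.mul_mem (L.mul_mem (hDQ0 ha) (hDQ0 hb)) (L.inv_mem (hDQ0 ha))) (L.inv_mem (hDQ0 hb)))) hx
      have h5 := Subgroup.mem_centralizer_iff.mp (h4 (hDD x hx hxL)) _ ((hmem Q hQQ0 _).mpr ⟨y, hy, rfl⟩)
      exact (hcomm x y hxL (hQQ0 hy)).mp h5.symm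
  · -- `Db ⊓ Kb = ⊥`
    rw [eq_bot_iff]
    rintro x ⟨hx1, hx2⟩
    obtain ⟨d, hd, rfl⟩ := (hmem D hDQ0 x).mp hx1
    obtain ⟨k, hk, hke⟩ := (hmem K hKQ0 _).mp hx2
    have h1 := hinj k d (hKle hk) (hDle hd) hke
    subst h1
    have : k ∈ D ⊓ K := ⟨hd, hk⟩
    rw [hDK, Subgroup.mem_bot] at this
    subst this
    exact map_one f
  · -- Frobenius action
    intro r hr hr1
    obtain ⟨k, hk, rfl⟩ := (hmem K hKQ0 r).mp hr
    have hk1 : k ≠ 1 := by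
      rintro rfl
      exact hr1 (map_one f)
    rw [eq_bot_iff]
    rintro x ⟨hx1, hx2⟩
    obtain ⟨d, hd, rfl⟩ := (hmem D hDQ0 x).mp hx1
    have h1 := Subgroup.mem_centralizer_singleton_iff.mp hx2
    have h2 : k * d * k⁻¹ * d⁻¹ ∈ Q0 := (hcomm k d (hKQ0 hk) (hDQ0 hd)).mp h1.symm
    have h3 : k * d * k⁻¹ ∈ D := (Subgroup.mem_normalizer_iff.mp (hKD hk) d).mp hd
    have h4 : k * d * k⁻¹ * d⁻¹ ∈ (D ⊔ K) ⊓ Q0 := ⟨hDle (D.mul_mem h3 (D.inv_mem hd)), h2⟩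
    rw [hDKQ0, Subgroup.mem_bot, mul_inv_eq_one, mul_inv_eq_iff_eq_mul] at h4
    have h5 : d ∈ D ⊓ centralizer ({k} : Set G) :=
      ⟨hd, Subgroup.mem_centralizer_singleton_iff.mpr h4.symm⟩
    rw [hfrob k hk hk1, Subgroup.mem_bot] at h5
    subst h5
    exact map_one f
  · -- solvable
    have h1 : Group.IsSolvable (g (D ⊔ K) hDKL).range :=
      Group.isSolvable_of_surjective (MonoidHom.rangeRestrict_surjective (g (D ⊔ K) hDKL))
    exact Group.isSolvable_of_isSolvable_injective (Subgroup.inclusion_injective hsup)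
  · -- `Qb ≠ ⊥`
    intro hb
    obtain ⟨y, hy, hy0⟩ := SetLike.exists_of_lt hQ0
    have h1 : f ⟨y, hQQ0 hy⟩ ∈ Qb := (hmem Q hQQ0 _).mpr ⟨y, hy, rfl⟩
    rw [hb, Subgroup.mem_bot, hf1] at h1
    exact hy0 h1
  · -- nilpotent
    exact Group.nilpotent_of_surjective _ (MonoidHom.rangeRestrict_surjective (g Q hQQ0))
  · -- `C_{Qb}(Db) = 1`
    rw [eq_bot_iff]
    rintro x ⟨hx1, hx2⟩
    obtain ⟨y, hy, rfl⟩ := (hmem Q hQQ0 x).mp hx1
    have hfix : ∀ a ∈ D, a * y * a⁻¹ * y⁻¹ ∈ Q0 := by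
      intro a ha
      rw [← hcomm a y (hDQ0 ha) (hQQ0 hy)]
      exact (Subgroup.mem_centralizer_iff.mp hx2 _ ((hmem D hDQ0 _).mpr ⟨a, ha, rfl⟩))
    obtain ⟨c, hc, hyc⟩ := hlift D hDle hDQ y hy hfix
    have hc0 : c ∈ Q0 := hCD hc
    have hy0 : y ∈ Q0 := by
      have : y = c * (y⁻¹ * c)⁻¹ := by group
      rw [this]; exact Q0.mul_mem hc0 (Q0.inv_mem hyc)
    exact (hf1 y (hQQ0 hy)).mpr hy0
  · -- prime action
    intro x hx hx1
    obtain ⟨k, hk, rfl⟩ := (hmem K hKQ0 x).mp hx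
    have hk1 : k ≠ 1 := by
      rintro rfl
      exact hx1 (map_one f)
    apply le_antisymm
    · rintro z ⟨hz1, hz2⟩
      obtain ⟨y, hy, rfl⟩ := (hmem Q hQQ0 z).mp hz1
      have h1 := Subgroup.mem_centralizer_singleton_iff.mp hz2
      have hzk : zpowers k ≤ K := by rw [Subgroup.zpowers_le]; exact hk
      have hfix : ∀ a ∈ zpowers k, a * y * a⁻¹ * y⁻¹ ∈ Q0 := by
        intro a ha
        rw [← hcomm a y (hKQ0 (hzk ha)) (hQQ0 hy)]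
        obtain ⟨i, rfl⟩ := Subgroup.mem_zpowers_iff.mp ha
        have e1 : (⟨k ^ i, hKQ0 (hzk ha)⟩ : L) = (⟨k, hKQ0 hk⟩ : L) ^ i := rfl
        rw [e1, map_zpow]
        have hc : Commute (f ⟨k, hKQ0 hk⟩) (f ⟨y, hQQ0 hy⟩) := h1.symm
        exact (hc.zpow_left i)
      obtain ⟨c, hc, hyc⟩ := hlift (zpowers k) (hzk.trans hKle) (hzk.trans hKQ) y hy hfix
      have hc' : c ∈ Q ⊓ centralizer ({k} : Set G) := by
        refine ⟨hc.1, Subgroup.mem_centralizer_singleton_iff.mpr ?_⟩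
        exact (Subgroup.mem_centralizer_iff.mp hc.2 k (Subgroup.mem_zpowers k)).symm
      rw [hpr k hk hk1] at hc'
      rw [hCK]
      refine (hmem _ _ _).mpr ⟨c, hc', ?_⟩
      exact (hfeq y c (hQQ0 hy) (hQQ0 hc.1) hyc).symm
    · apply inf_le_inf_left
      apply Subgroup.centralizer_le
      rw [Set.singleton_subset_iff]
      exact hx

end Cfsg.Agent.Lib.Helper84BG15frobsec
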