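import Cfsg.Agent.Lib.Helper56BG15Defs
import Cfsg.Agent.Lib.Helper56BG15invcase
import Cfsg.Agent.Lib.Helper84BG15frobsec
import Cfsg.Agent.Lib.Helper84BG15existsQ
import Cfsg.Agent.Lib.Helper66BG15invcompl
import Cfsg.Agent.Lib.Helper76BG15transport
import Cfsg.Agent.Lib.Helper68BG15p1data
import Cfsg.Agent.Lib.Helper60BG15qbeta

/-!
PROJECT 15 (Bender-Glauberman Section 15): hub for Theorem 15.2.
-/

set_option autoImplicit false
open Cfsg

namespace Cfsg.Agent.Lib.Helper56BG15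

open Subgroup
open Cfsg.Agent.Lib.Helper30Trans Cfsg.Agent.Lib.Helper56BG15Defs

universe u
variable {G : Type u} [Group G] [Finite G]

theorem inv_case {M Ms K Q D : Subgroup G} {q : ℕ} (h : P1Data M Ms K q)
    (hQ : QData M Ms K q Q) (hD : IsComplIn Q D Ms) (hKD : K ≤ normalizer (D : Set G)) :
    (Nat.card K).Prime ∧ Concl M K q Q D :=
  Cfsg.Agent.Lib.Helper56BG15invcase.inv_case_of h hQ hD hKD
    (fun _ h1 h2 h3 h4 h5 h6 h7 h8 h9 h10 h11 h12 h13 h14 h15 h16 h17 =>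
      Cfsg.Agent.Lib.Helper84BG15frobsec.frob_section h1 h2 h3 h4 h5 h6 h7 h8 h9 h10 h11 h12 h13
        h14 h15 h16 h17)

/-- **B-G 15.2, pure form** -/
theorem core152 {M Ms K : Subgroup G} {q : ℕ} (h : P1Data M Ms K q) :
    (Nat.card K).Prime ∧ ∃ Q : Subgroup G, QData M Ms K q Q ∧
      ∀ D : Subgroup G, IsComplIn Q D Ms → Concl M K q Q D := by
  obtain ⟨Q, hQ⟩ := Cfsg.Agent.Lib.Helper84BG15existsQ.exists_Q h
  obtain ⟨D₁, hD₁, hKD₁, hall⟩ := Cfsg.Agent.Lib.Helper66BG15invcompl.exists_inv_compl h hQ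
  obtain ⟨hp, hc⟩ := inv_case h hQ hD₁ hKD₁
  refine ⟨hp, Q, hQ, ?_⟩
  intro D hD
  obtain ⟨m, hm, rfl⟩ := hall D hD
  exact Cfsg.Agent.Lib.Helper76BG15transport.concl_cj hc hQ.norm (h.le hm)

/-- **B-G 15.2** with the extra clause `D' ≤ C(Q)` (the row S1437 is this minus the last clause) -/
theorem bg152 (hG : IsMinSimpleOddOrder G) {M K U : Subgroup G} (hM : IsCoatom M)
    (hKU : IsSigmaDecomposition M K U) (hne : fittingHallOf M ≠ sigmaCore M) :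
    U = ⊥ ∧ sigmaCore M = ⁅M, M⁆ ∧ (Nat.card K).Prime ∧
      P1Data M (sigmaCore M) K (Nat.card ↥(sigmaCore M ⊓ centralizer (K : Set G))) ∧
      Nat.card ↥(sigmaCore M ⊓ centralizer (K : Set G)) ∈ beta M ∧
      ∃ Q : Subgroup G, QData M (sigmaCore M) K (Nat.card ↥(sigmaCore M ⊓ centralizer (K : Set G))) Q ∧
        Q ≤ fittingHallOf M ∧
        Nat.card ↥(sigmaCore M ⊓ centralizer (K : Set G)) ∣ Nat.card (fittingHallOf M) ∧
        ∀ D : Subgroup G, IsComplIn Q D (sigmaCore M) →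
          Concl M K (Nat.card ↥(sigmaCore M ⊓ centralizer (K : Set G))) Q D := by
  obtain ⟨hU, hder, hP⟩ := Cfsg.Agent.Lib.Helper68BG15p1data.p1data hG hM hKU hne
  obtain ⟨hp, Q, hQ, hall⟩ := core152 hP
  obtain ⟨hb, hQF, hqF⟩ := Cfsg.Agent.Lib.Helper60BG15qbeta.q_mem_beta hG hM hP hQ
    (fun D hD => (hall D hD).1)
  exact ⟨hU, hder, hp, hP, hb, Q, hQ, hQF, hqF, hall⟩

end Cfsg.Agent.Lib.Helper56BG15
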