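import Cfsg.Agent.Lib.Helper51BG16
import Cfsg.Agent.Lib.Helper37BG
import Cfsg.Agent.Lib.Helper12Hall
import Cfsg.Agent.S1437

/-!
PROJECT 16, PART 2, piece `exU` (helper11).
-/

set_option autoImplicit false
open Cfsg

namespace Cfsg.Agent.Lib.Helper11BG16exU

open Subgroup
open scoped commutatorElement
open Cfsg.Agent.Lib.Helper30Trans Cfsg.Agent.Lib.Helper24BG Cfsg.Agent.Lib.Helper51BG16

universe u
variable {G : Type u} [Group G] [Finite G]

theorem complIn_of_card {A B M : Subgroup G} (hA : A ≤ M) (hB : B ≤ M)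
    (hcard : Nat.card A * Nat.card B = Nat.card M) (hcop : (Nat.card A).Coprime (Nat.card B)) :
    IsComplIn A B M := by
  have hcompl : IsComplement' (A.subgroupOf M) (B.subgroupOf M) := by
    apply isComplement'_of_coprime
    · rw [Cfsg.Agent.Lib.Helper30SZ.card_subgroupOf_of_le hA,
        Cfsg.Agent.Lib.Helper30SZ.card_subgroupOf_of_le hB, hcard]
    · rw [Cfsg.Agent.Lib.Helper30SZ.card_subgroupOf_of_le hA,
        Cfsg.Agent.Lib.Helper30SZ.card_subgroupOf_of_le hB]; exact hcop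
  refine ⟨hA, hB, Cfsg.Agent.Lib.Helper30SZ.inf_eq_bot_of_coprime hcop.symm, ?_⟩
  intro m hm
  obtain ⟨⟨a, b⟩, hab⟩ := hcompl.2 ⟨m, hm⟩
  refine ⟨a.1.1, mem_subgroupOf.mp a.2, b.1.1, mem_subgroupOf.mp b.2, ?_⟩
  exact (congrArg Subtype.val hab).symm

/-- ambient form of Hall's dominance theorem -/
theorem exists_hall_ge {X T : Subgroup G} (hs : Group.IsSolvable X) {m n : ℕ}
    (hX : Nat.card X = m * n) (hmn : m.Coprime n) (hTX : T ≤ X) (hT : (Nat.card T).Coprime n) :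
    ∃ L : Subgroup G, L ≤ X ∧ Nat.card L = m ∧ T ≤ L := by
  obtain ⟨L0, hL0, hTL0⟩ := Cfsg.Agent.Lib.Helper12Hall.hall_dominance (G := X) m n hX hmn
    (T.subgroupOf X) (by rw [Cfsg.Agent.Lib.Helper30SZ.card_subgroupOf_of_le hTX]; exact hT)
  refine ⟨L0.map X.subtype, map_subtype_le L0, ?_, ?_⟩
  · rw [card_map_of_injective X.subtype_injective, hL0]
  · intro x hx
    exact ⟨⟨x, hTX hx⟩, hTL0 (mem_subgroupOf.mpr hx), rfl⟩

/-- [exU] a `K`-invariant nilpotent complement of `M_F` in `M_σ`. -/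
theorem exists_compl_fhall (hG : IsMinSimpleOddOrder G) {M K U : Subgroup G} (hM : IsCoatom M)
    (hKU : IsSigmaDecomposition M K U) (hne : fittingHallOf M ≠ sigmaCore M) :
    ∃ U' : Subgroup G, Group.IsNilpotent U' ∧ K ≤ normalizer (U' : Set G) ∧
      IsComplIn (fittingHallOf M) U' (sigmaCore M) ∧ U' ≠ ⊥ := by
  set Ms := sigmaCore M with hMs
  set H := fittingHallOf M with hH
  have hMsM : Ms ≤ M := Cfsg.Agent.Lib.Helper2BGb.sigmaCore_le M
  have hMn : M ≤ normalizer (Ms : Set G) := Cfsg.Agent.Lib.Helper2BGb.le_normalizer_sigmaCore M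
  have hKM : K ≤ M := hKU.hall.1
  have hHMs : H ≤ Ms := fittingHallOf_le_sigmaCore hG hM
  have hHhall := fittingHallOf_hall M
  set r := H.relIndex Ms with hr
  have hcMs : Nat.card Ms = Nat.card H * r := Cfsg.Agent.Lib.Helper37BG.card_eq_mul_relIndex hHMs
  have hrH : r.Coprime (Nat.card H) := by
    have h1 : r ∣ H.relIndex M := by
      rw [← relIndex_mul_relIndex H Ms M hHMs hMsM]; exact Dvd.intro _ rfl
    exact (Nat.Coprime.coprime_dvd_right h1 hHhall).symm
  have hKMs : (Nat.card K).Coprime (Nat.card Ms) := coprime_K_Ms hG hM hKU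
  have hKH : (Nat.card K).Coprime (Nat.card H) :=
    Nat.Coprime.coprime_dvd_right (card_dvd_of_le hHMs) hKMs
  set X := Ms ⊔ K with hX
  have hXM : X ≤ M := sup_le hMsM hKM
  have hcX : Nat.card X = Nat.card Ms * Nat.card K :=
    Cfsg.Agent.Lib.Helper30SZ.card_sup (hKM.trans hMn) hKMs
  have hsX : Group.IsSolvable X := sol hG (fun h => hM.1 (top_le_iff.mp (h ▸ hXM)))
  obtain ⟨L, hLX, hLc, hKL⟩ := exists_hall_ge hsX (m := r * Nat.card K) (n := Nat.card H)
    (by rw [hcX, hcMs]; ring) (Nat.Coprime.mul_left hrH hKH) (le_sup_right : K ≤ X) hKH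
  have hLn : L ≤ normalizer (Ms : Set G) := (hLX.trans hXM).trans hMn
  have hsup : L ⊔ Ms = X :=
    le_antisymm (sup_le hLX le_sup_left) (sup_le le_sup_right (hKL.trans le_sup_left))
  have hUc : Nat.card ↥(L ⊓ Ms) = r := by
    have h1 := Cfsg.Agent.Lib.Helper65RelHall.card_sup_mul_card_inf L Ms hLn
    rw [hsup, hcX, hLc] at h1
    have h2 : (Nat.card Ms * Nat.card K) * Nat.card ↥(L ⊓ Ms) = (Nat.card Ms * Nat.card K) * r := by
      rw [h1]; ring
    exact Nat.eq_of_mul_eq_mul_left (Nat.mul_pos Nat.card_pos Nat.card_pos) h2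
  have hU'Ms : L ⊓ Ms ≤ Ms := inf_le_right
  refine ⟨L ⊓ Ms, ?_, ?_, ?_, ?_⟩
  · -- nilpotent
    obtain ⟨-, -, -, hq, -, -, Q, hQH, -, hQp, hQi, hD⟩ :=
      Cfsg.Agent.S1437.result hG M hM K U hKU hne
    set q := Nat.card ↥(sigmaCore M ⊓ centralizer (K : Set G)) with hqdef
    have hQMs : Q ≤ Ms := hQH.trans hHMs
    have hcQ : Nat.card Ms = Q.relIndex Ms * Nat.card Q := by
      rw [Cfsg.Agent.Lib.Helper37BG.card_eq_mul_relIndex hQMs, mul_comm]
    have hcopQ : (Q.relIndex Ms).Coprime (Nat.card Q) := by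
      have : Fact q.Prime := ⟨hq⟩
      obtain ⟨k, hk⟩ := IsPGroup.iff_card.mp hQp
      rw [hk]
      exact Nat.Coprime.pow_right k ((Nat.Prime.coprime_iff_not_dvd hq).mpr hQi).symm
    have hsMs : Group.IsSolvable Ms := sol hG (fun h => hM.1 (top_le_iff.mp (h ▸ hMsM)))
    obtain ⟨D, hDMs, hDc, hUD⟩ := exists_hall_ge hsMs hcQ hcopQ hU'Ms
      (by rw [hUc]; exact Nat.Coprime.coprime_dvd_right (card_dvd_of_le hQH) hrH)
    have hcompl : IsComplIn Q D Ms :=
      complIn_of_card hQMs hDMs (by rw [hDc, hcQ, mul_comm]) (by rw [hDc]; exact hcopQ.symm)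
    have hDn : Group.IsNilpotent D := (hD D hcompl).1
    have h1 : Group.IsNilpotent ↥((L ⊓ Ms).subgroupOf D) := inferInstance
    exact (Group.isNilpotent_congr (subgroupOfEquivOfLe hUD)).mp h1
  · intro k hk
    rw [mem_normalizer_iff]
    intro x
    have h1 := mem_normalizer_iff.mp (le_normalizer (hKL hk)) x
    have h2 := mem_normalizer_iff.mp (hMn (hKM hk)) x
    rw [mem_inf, mem_inf, h1, h2]
  · exact complIn_of_card hHMs hU'Ms (by rw [hUc, hcMs]) (by rw [hUc]; exact hrH.symm)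
  · intro h
    apply hne
    have h1 : r = 1 := by rw [← hUc, h]; exact card_bot
    apply eq_of_le_of_card_ge hHMs
    rw [hcMs, h1, mul_one]

end Cfsg.Agent.Lib.Helper11BG16exU
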