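import Cfsg.Agent.Lib.Helper2BGb
import Cfsg.Agent.Lib.Helper37BG
import Cfsg.Agent.Lib.Helper30BG2
import Cfsg.Agent.Lib.Helper31BGS

/-!
PROJECT 16, PART 2, piece `normhall` (helper11).
-/

set_option autoImplicit false
open Cfsg

namespace Cfsg.Agent.Lib.Helper11BG16normhall

open Subgroup
open scoped commutatorElement
open Cfsg.Agent.Lib.Helper30Trans Cfsg.Agent.Lib.Helper24BG

universe u
variable {G : Type u} [Group G] [Finite G]

/-- [normhall] the normalizer of a non-trivial Hall subgroup of `M_σ` lies in `M`. -/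
theorem normalizer_le_of_hall (hG : IsMinSimpleOddOrder G) {M Y : Subgroup G} (hM : IsCoatom M)
    (hY : Y ≤ sigmaCore M) (hY1 : Y ≠ ⊥) (hH : (Nat.card Y).Coprime (Y.relIndex (sigmaCore M))) :
    normalizer (Y : Set G) ≤ M := by
  have hc1 : Nat.card Y ≠ 1 := fun h => hY1 (card_eq_one.mp h)
  obtain ⟨p, hp, hpd⟩ := Nat.exists_prime_and_dvd hc1
  have : Fact p.Prime := ⟨hp⟩
  obtain ⟨P, hP, -⟩ := exists_isSyl_ge (p := p) (bot_le : (⊥ : Subgroup G) ≤ Y) IsPGroup.of_bot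
  have hpi : ¬ p ∣ Y.relIndex (sigmaCore M) := by
    intro h
    exact hp.one_lt.ne' (Nat.Coprime.eq_one_of_dvd (Nat.Coprime.coprime_dvd_left hpd hH) h)
  have hP2 : IsSyl p P (sigmaCore M) :=
    Cfsg.Agent.Lib.Helper31BGS.isSyl_of_not_dvd_relIndex hP hY hpi
  have hpσ : p ∈ sigma M :=
    Cfsg.Agent.Lib.Helper30BG2.card_sigmaCore hG hM p hp (hpd.trans (card_dvd_of_le hY))
  have hP3 : IsSyl p P M := Cfsg.Agent.Lib.Helper30BG2.isSyl_of_sigmaCore hG hM hpσ hP2
  have hN : normalizer (P : Set G) ≤ M := Cfsg.Agent.Lib.Helper2BGb.sigma_norm hpσ hP3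
  have hfr := Cfsg.Agent.Lib.Helper37BG.frattini (X := normalizer (Y : Set G)) (K := Y) le_rfl
    le_normalizer hP
  exact hfr.trans (sup_le (hY.trans (Cfsg.Agent.Lib.Helper30BG2.sigmaCore_le M))
    (inf_le_right.trans hN))

end Cfsg.Agent.Lib.Helper11BG16normhall
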