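import Mathlib
import Cfsg.Agent.S1403
import Cfsg.Agent.S1426
import Cfsg.Agent.Lib.Helper31BGS
import Cfsg.Agent.Lib.Helper30Bender
import Cfsg.Agent.Lib.Helper37BGPart
import Cfsg.Agent.Lib.Helper24BG2
import Cfsg.Agent.Lib.Helper27Core
import Cfsg.Agent.Lib.Helper56BG15Defs
import Cfsg.Agent.Lib.Helper56BG15nilsec

/-!
PROJECT 15, piece `nonTInil` in relative form: the pieces `bg152`, `inter_le_sigmaCore` (and the existence of a
factorisation, S1351 + S1352) enter as hypotheses.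
-/

set_option autoImplicit false

namespace Cfsg.Agent.Lib.Helper60BG15nonTInil

open Cfsg Subgroup
open Cfsg.Agent.Lib.Helper30Trans Cfsg.Agent.Lib.Helper24BG Cfsg.Agent.Lib.Helper56BG15Defs

universe u
variable {G : Type u} [Group G] [Finite G]

/-- `Q` is a Sylow `q`-subgroup of `M` -/
theorem isSyl_of_data {M Ms K Q : Subgroup G} {q : ℕ} (h : P1Data M Ms K q)
    (hQ : QData M Ms K q Q) : IsSyl q Q M := by
  have hq : Fact q.Prime := ⟨h.qp⟩
  have hqQ : q ∣ Nat.card Q := by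
    rw [← h.card]
    exact card_dvd_of_le hQ.Ks
  have hqMs : q ∣ Nat.card Ms := hqQ.trans (card_dvd_of_le hQ.le)
  have hQQ : IsSyl q Q Q := ⟨le_rfl, hQ.pg, fun _ hle _ hge => le_antisymm hle hge⟩
  have hQs : IsSyl q Q Ms := Cfsg.Agent.Lib.Helper31BGS.isSyl_of_not_dvd_relIndex hQQ hQ.le hQ.syl
  have hrel : Ms.relIndex M = Nat.card K := by
    have h1 := Cfsg.Agent.Lib.Helper30SZ.card_sup (N := Ms) (A := K) (h.Kle.trans h.norm) h.cop
    rw [h.sup] at h1
    have h2 := Cfsg.Agent.Lib.Helper27Core.card_mul_relIndex h.le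
    rw [h1] at h2
    exact Nat.eq_of_mul_eq_mul_left Nat.card_pos h2
  have hqK : ¬ q ∣ Nat.card K := by
    intro hd
    have := Nat.dvd_gcd hd hqMs
    rw [h.cop] at this
    exact h.qp.one_lt.ne' (Nat.dvd_one.mp this)
  exact Cfsg.Agent.Lib.Helper31BGS.isSyl_of_not_dvd_relIndex hQs h.le (by rw [hrel]; exact hqK)

/-- piece `nonTInil`, relative form -/
theorem fittingHallOf_eq_of_nonTI_of (hG : IsMinSimpleOddOrder G) {M : Subgroup G} (hM : IsCoatom M)
    {g : G} (hg : g ∉ M) (hX : fittingOf M ⊓ cj g (fittingOf M) ≠ ⊥)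
    (hint : fittingOf M ⊓ cj g (fittingOf M) ≤ sigmaCore M ⊓ cj g M)
    (h152 : fittingHallOf M ≠ sigmaCore M → ∃ (K : Subgroup G) (q : ℕ) (Q : Subgroup G),
      P1Data M (sigmaCore M) K q ∧ q ∈ beta M ∧ QData M (sigmaCore M) K q Q) :
    fittingHallOf M = sigmaCore M := by
  by_contra hne
  obtain ⟨K, q, Q, hP, hqb, hQ⟩ := h152 hne
  have hq : Fact q.Prime := ⟨hP.qp⟩
  have hQM : IsSyl q Q M := isSyl_of_data hP hQ
  -- a subgroup of prime order of the intersection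
  have hc1 : Nat.card ↥(fittingOf M ⊓ cj g (fittingOf M)) ≠ 1 :=
    fun h1 => hX ((Subgroup.card_eq_one).mp h1)
  obtain ⟨r, hr, hrd⟩ := Nat.exists_prime_and_dvd hc1
  have hrF : Fact r.Prime := ⟨hr⟩
  obtain ⟨R, hRX, hRc⟩ : ∃ R : Subgroup G, R ≤ fittingOf M ⊓ cj g (fittingOf M) ∧ Nat.card R = r := by
    obtain ⟨z, hz, -, hzc⟩ := Cfsg.Agent.Lib.Helper37BGPart.exists_card_prime_le hrd
    exact ⟨zpowers z, (zpowers_le).mpr hz, hzc⟩
  obtain ⟨E, hE, -⟩ := Cfsg.Agent.Lib.Helper31BGS.exists_compl_ge hG hM (X := ⊥) bot_le (by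
    intro p hp hd
    rw [Subgroup.card_bot] at hd
    exact absurd (Nat.dvd_one.mp hd) hp.ne_one)
  have h26 := ((Cfsg.Agent.S1426.result hG M hM E hE).2.2 g hg).2.1
  have hrq : r ≠ q := by
    rintro rfl
    exact h26 r hr (hrd.trans (card_dvd_of_le hint)) hqb
  have hcop : ∀ R' : Subgroup G, Nat.card R' = r → (Nat.card R').Coprime (Nat.card Q) := by
    intro R' hR'
    obtain ⟨n, hn⟩ := (IsPGroup.iff_card).mp hQ.pg
    rw [hR', hn]
    exact Nat.Coprime.pow_right n ((Nat.coprime_primes hr hP.qp).mpr hrq)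
  have hQF : Q ≤ fittingOf M :=
    Cfsg.Agent.Lib.Helper30Bender.le_fittingOf hQM.1 hQ.norm hQ.pg.isNilpotent
  have hnil := Cfsg.Agent.Lib.Helper30Bender.fittingOf_isNilpotent M
  have hR1 : R ≤ fittingOf M := hRX.trans inf_le_left
  have hR2 : cj g⁻¹ R ≤ fittingOf M := by
    rw [cj_le_iff, inv_inv]
    exact hRX.trans inf_le_right
  have hR2c : Nat.card (cj g⁻¹ R) = r := by
    rw [← hRc]
    exact card_map_of_injective (MulAut.conj g⁻¹).injective
  -- `Q` and `cj g Q` normalize `R`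
  have hQC : Q ≤ centralizer (R : Set G) := by
    intro b hb
    rw [mem_centralizer_iff]
    intro a ha
    exact Cfsg.Agent.Lib.Helper56BG15nilsec.commute_of_nilpotent hnil hR1 hQF (hcop R hRc) ha hb
  have hQC' : cj g Q ≤ centralizer (R : Set G) := by
    rintro _ ⟨b, hb, rfl⟩
    rw [mem_centralizer_iff]
    intro a ha
    have ha' : g⁻¹ * a * g⁻¹⁻¹ ∈ cj g⁻¹ R := conj_mem_cj ha
    have := Cfsg.Agent.Lib.Helper56BG15nilsec.commute_of_nilpotent hnil hR2 hQF
      (hcop _ hR2c) ha' hb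
    show a * (g * b * g⁻¹) = (g * b * g⁻¹) * a
    have e1 : a * (g * b * g⁻¹) = g * ((g⁻¹ * a * g⁻¹⁻¹) * b) * g⁻¹ := by group
    have e2 : (g * b * g⁻¹) * a = g * (b * (g⁻¹ * a * g⁻¹⁻¹)) * g⁻¹ := by group
    rw [e1, e2, this]
  have hRbot : R ≠ ⊥ := by
    rintro rfl
    rw [Subgroup.card_bot] at hRc
    exact hr.ne_one hRc.symm
  have hRtop : R ≠ ⊤ := by
    rintro rfl
    exact hM.1 (top_le_iff.mp (hR1.trans (Cfsg.Agent.Lib.Helper30Bender.fittingOf_le M)))
  have hY : normalizer (R : Set G) ≠ ⊤ := norm_ne_top hG hRbot hRtop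
  have hCN : centralizer (R : Set G) ≤ normalizer (R : Set G) := centralizer_le_normalizer _
  -- `Q` has rank at least three
  obtain ⟨B, hBM, hBe, hBc⟩ := exists_elemAb hqb.1.2
  have hBQ : B ≤ Q := by
    have hBp : IsPGroup q B := isPGroup_of_elemAb hBe
    have h1 : IsPGroup q (B ⊔ Q : Subgroup G) :=
      hBp.to_sup_of_normal_right' hQ.pg (hBM.trans hQ.norm)
    have h2 := hQM.2.2 (B ⊔ Q) (sup_le hBM hQM.1) h1 le_sup_right
    rw [← h2]
    exact le_sup_left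
  have hQtop : Q ≠ ⊤ := by
    rintro rfl
    exact hM.1 (top_le_iff.mp hQM.1)
  have hU : InUniqueMaximal Q := by
    apply Cfsg.Agent.S1403.result hG Q hQtop
    · apply Cfsg.Agent.Lib.Helper24BG2.not_rankLE_of_elemAb hP.qp hBQ hBe
      calc q ^ 1 ≤ q ^ 2 := Nat.pow_le_pow_right hP.qp.pos (by norm_num)
        _ < Nat.card B := hBc
    · left
      exact Cfsg.Agent.Lib.Helper24BG2.not_rankLE_of_elemAb hP.qp hBQ hBe hBc
  have h3 : normalizer (R : Set G) ≤ cj g M :=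
    le_of_uniq (isCoatom_cj hM g) (cj_mono hQM.1) (uniq_cj hU g) (hQC'.trans hCN) hY
  obtain ⟨M', -, hu⟩ := hU
  have e1 : M = M' := hu M ⟨hM, hQM.1⟩
  have e2 : cj g M = M' := hu (cj g M) ⟨isCoatom_cj hM g, (hQC.trans hCN).trans h3⟩
  have e3 : cj g M = M := e2.trans e1.symm
  have hMbot : M ≠ ⊥ := by
    rintro rfl
    exact hRbot (le_bot_iff.mp (hR1.trans (Cfsg.Agent.Lib.Helper30Bender.fittingOf_le _)))
  have hN : normalizer (M : Set G) = M := norm_eq hG hM hMbot le_rfl le_normalizer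
  apply hg
  rw [← hN]
  exact Cfsg.Agent.Lib.Helper37BGPart.mem_normalizer_of_cj_le e3.le

end Cfsg.Agent.Lib.Helper60BG15nonTInil
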