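import Mathlib
import Cfsg.Agent.Lib.Helper31BGV
import Cfsg.Agent.Lib.Helper38BGNonab
import Cfsg.Agent.Lib.Helper2BGd
import Cfsg.Agent.S1414
import Cfsg.Agent.S1408
import Cfsg.Agent.S1422

/-!
Tools for B-G 12.7 (`τ₂(M)` with nonabelian Sylow subgroups).
-/

set_option autoImplicit false
open Cfsg

namespace Cfsg.Agent.Lib.Helper31BGW

open Subgroup
open Cfsg.Agent.Lib.Helper30Trans
open Cfsg.Agent.Lib.Helper24BG
open Cfsg.Agent.Lib.Helper24BG2
open Cfsg.Agent.Lib.Helper2BGDefs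
open Cfsg.Agent.Lib.Helper38BGTrans
open Cfsg.Agent.Lib.Helper31BGS

/-- rank at least three: `p`-th powers of order `p` in the centralizer of a maximal elementary abelian
subgroup of order `p ^ 2` are central. -/
theorem pow_mem_center_of_rank3 {R : Type*} [Group R] [Finite R] {p : ℕ} [hpf : Fact p.Prime]
    (hp : p ≠ 2) (hR : IsPGroup p R) (hr : ¬ PRankLE p 2 R) (E : Subgroup R) (hE : MaxSq p E) {f : R}
    (hf : f ∈ centralizer (E : Set R)) (hfp : (f ^ p) ^ p = 1) : f ^ p ∈ center R := by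
  obtain ⟨h1, h2, -, h4, h5⟩ := Cfsg.Agent.S1453.result p hp hR hr E hE.elem hE.card hE.max
  set W := Subgroup.closure {x : R | x ∈ Subgroup.upperCentralSeries R 2 ∧ x ^ p = 1} with hW
  set T := centralizer (W : Set R) with hT
  set Z := Subgroup.closure {x : R | x ∈ center R ∧ x ^ p = 1} with hZ
  have hZE : Z ≤ E := by
    rw [hZ, closure_le]
    rintro x ⟨hx1, hx2⟩
    apply MaxSq.mem_of_cent hE _ hx2
    rw [mem_centralizer_iff]
    intro b _
    exact (mem_center_iff.mp hx1 b)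
  have hZT : Z ≤ T := by
    rw [hZ, closure_le]
    rintro x ⟨hx1, -⟩
    show x ∈ centralizer (W : Set R)
    rw [mem_centralizer_iff]
    intro b _
    exact (mem_center_iff.mp hx1 b)
  obtain ⟨a, haE, haT⟩ := SetLike.not_le_iff_exists.mp h1
  have hET : E ⊓ T = Z := by
    by_contra hne
    have hlt : ¬ (E ⊓ T ≤ Z) := fun h => hne (le_antisymm h (le_inf hZE hZT))
    obtain ⟨s, hs, hsZ⟩ := SetLike.not_le_iff_exists.mp hlt
    have := Cfsg.Agent.Lib.Helper3NarrowAut.eq_of_lt_of_card hpf.out h2 hE.card (le_inf hZE hZT)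
      inf_le_left hs hsZ
    have h7 : a ∈ E ⊓ T := by rw [this]; exact haE
    exact haT h7.2
  have hTn : T.Normal := inferInstance
  have h6 : f ^ p ∈ T := by
    have := T.pow_index_mem f
    rwa [h5] at this
  have h7 : f ^ p ∈ E := MaxSq.mem_of_cent hE (pow_mem hf p) hfp
  have h8 : f ^ p ∈ Z := hET ▸ (⟨h7, h6⟩ : f ^ p ∈ E ⊓ T)
  have h9 : Z ≤ center R := by
    rw [hZ, closure_le]
    rintro x ⟨hx1, -⟩
    exact hx1
  exact h9 h8

variable {G : Type*} [Group G] [Finite G]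

theorem maxSq_subgroupOf {p : ℕ} {A S : Subgroup G} (hA : MaxSq p A) (hAS : A ≤ S) :
    MaxSq p (A.subgroupOf S) := by
  have hcomm := hA.elem.1
  refine ⟨⟨?_, ?_⟩, ?_, ?_⟩
  · refine ⟨⟨fun x y => Subtype.ext (Subtype.ext ?_)⟩⟩
    exact setLike_mul_comm (mem_subgroupOf.mp x.2) (mem_subgroupOf.mp y.2)
  · intro a ha
    exact Subtype.ext (hA.elem.2 a (mem_subgroupOf.mp ha))
  · rw [Cfsg.Agent.Lib.Helper30SZ.card_subgroupOf_of_le hAS, hA.card]
  · intro B hB hle
    have hB' : IsElementaryAbelian p (B.map S.subtype) := by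
      have := hB.1
      refine ⟨inferInstance, ?_⟩
      rintro _ ⟨b, hb, rfl⟩
      exact congrArg Subtype.val (hB.2 b hb)
    have hAB : A ≤ B.map S.subtype := by
      intro a ha
      exact ⟨⟨a, hAS ha⟩, hle (mem_subgroupOf.mpr ha), rfl⟩
    have h3 := hA.max _ hB' hAB
    ext x
    rw [mem_subgroupOf, ← h3]
    constructor
    · intro hx
      exact ⟨x, hx, rfl⟩
    · rintro ⟨y, hy, hyx⟩
      have : y = x := Subtype.ext hyx
      exact this ▸ hy

/-- `p`-th powers of order `p` in `C_S(A)` are central in the Sylow subgroup `S`. -/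
theorem pow_mem_centralizer (hG : IsMinSimpleOddOrder G) {p : ℕ} [hpf : Fact p.Prime]
    {A S : Subgroup G} (hA : MaxSq p A) (hS : IsSyl p S ⊤) (hAS : A ≤ S) {f : G} (hfS : f ∈ S)
    (hfA : f ∈ centralizer (A : Set G)) (hfp : (f ^ p) ^ p = 1) :
    f ^ p ∈ centralizer (S : Set G) := by
  have hA1 : A ≠ ⊥ := by
    intro h
    have := hA.card
    rw [h, card_bot] at this
    have h2 := hpf.out.two_le
    nlinarith
  have hp2 : p ≠ 2 := ne_two hG (isPGroup_of_elemAb hA.elem) hA1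
  by_cases hr : PRankLE p 2 ↥S
  · rcases Cfsg.Agent.S1412.result hG p hS.toSylowTop hr with hc | ⟨P₁, P₂, hsup, hc12, -, -, hexp, hcyc, -⟩
    · have hc' : IsMulCommutative S := hc
      rw [mem_centralizer_iff]
      intro s hs
      exact setLike_mul_comm hs (pow_mem hfS p)
    · have hsup' : P₁ ⊔ P₂ = S := hsup
      have hP1p : ∀ a ∈ P₁, a ^ p = 1 := by
        intro a ha
        have := Monoid.pow_exponent_eq_one (⟨a, ha⟩ : P₁)
        rw [hexp] at this
        exact congrArg Subtype.val this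
      have hfS' : f ∈ P₁ ⊔ P₂ := hsup' ▸ hfS
      obtain ⟨a, ha, b, hb, rfl⟩ := Cfsg.Agent.Lib.Helper3NarrowAut.mem_sup_of_commute hc12 hfS'
      rw [(show Commute a b from hc12 a ha b hb).mul_pow, hP1p a ha, one_mul]
      have hbp : b ^ p ∈ P₂ := pow_mem hb p
      have h1 : P₁ ⊔ P₂ ≤ centralizer ({b ^ p} : Set G) := by
        rw [sup_le_iff]
        constructor
        · intro x hx
          rw [mem_centralizer_iff]
          intro y hy
          rw [Set.mem_singleton_iff.mp hy]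
          exact (hc12 x hx _ hbp).symm
        · intro x hx
          rw [mem_centralizer_iff]
          intro y hy
          rw [Set.mem_singleton_iff.mp hy]
          have := hcyc.commGroup.mul_comm ⟨b ^ p, hbp⟩ ⟨x, hx⟩
          exact congrArg Subtype.val this
      rw [mem_centralizer_iff]
      intro s hs
      have hs' : s ∈ P₁ ⊔ P₂ := hsup' ▸ hs
      exact (mem_centralizer_iff.mp (h1 hs') _ rfl).symm
  · have hE := maxSq_subgroupOf hA hAS
    have hf' : (⟨f, hfS⟩ : S) ∈ centralizer ((A.subgroupOf S : Subgroup S) : Set S) := by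
      rw [mem_centralizer_iff]
      intro b hb
      exact Subtype.ext ((mem_centralizer_iff.mp hfA) b (mem_subgroupOf.mp hb))
    have key := pow_mem_center_of_rank3 hp2 hS.2.1 hr _ hE hf' (Subtype.ext hfp)
    rw [mem_centralizer_iff]
    intro s hs
    exact congrArg Subtype.val (mem_center_iff.mp key ⟨s, hs⟩)

/-- commuting Sylow subgroups for two primes of `σ(M) ∖ β(M)` -/
theorem exists_commuting_syl (hG : IsMinSimpleOddOrder G) {M : Subgroup G} (hM : IsCoatom M)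
    {p q : ℕ} [hpf : Fact p.Prime] [hqf : Fact q.Prime] (hpq : p ≠ q) (hp : p ∈ sigma M)
    (hq : q ∈ sigma M) (hpβ : p ∉ beta M) (hqβ : q ∉ beta M) {A : Subgroup G} (hAM : A ≤ M)
    (hA : IsPGroup p A) :
    ∃ S Q : Subgroup G, IsSyl p S M ∧ IsSyl q Q M ∧ Q ≤ centralizer (S : Set G) ∧ A ≤ S := by
  obtain ⟨H, hH, hnil⟩ := (Cfsg.Agent.S1414.result hG M hM).2.2.2.1
  have h50 := (Cfsg.Agent.S1350.result hG M hM).1
  obtain ⟨S, hS, -⟩ := exists_isSyl_ge (p := p) (bot_le : (⊥ : Subgroup G) ≤ H) IsPGroup.of_bot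
  obtain ⟨Q, hQ, -⟩ := exists_isSyl_ge (p := q) (bot_le : (⊥ : Subgroup G) ≤ H) IsPGroup.of_bot
  have hSM : IsSyl p S M :=
    isSyl_of_not_dvd_relIndex (isSyl_of_not_dvd_relIndex hS hH.1 (hH.2.2 p hpf.out ⟨hpf.out, hpβ⟩))
      h50.1 (h50.2.2 p hpf.out hp)
  have hQM : IsSyl q Q M :=
    isSyl_of_not_dvd_relIndex (isSyl_of_not_dvd_relIndex hQ hH.1 (hH.2.2 q hqf.out ⟨hqf.out, hqβ⟩))
      h50.1 (h50.2.2 q hqf.out hq)
  have hprime : ∀ {r : ℕ} [Fact r.Prime] {R : Subgroup G}, IsSyl r R H →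
      ∀ t : ℕ, t.Prime → t ∣ Nat.card R → ¬ t ∣ R.relIndex H := by
    intro r hr R hR t ht hd
    obtain ⟨k, hk⟩ := IsPGroup.iff_card.mp hR.2.1
    rw [hk] at hd
    rw [(Nat.prime_dvd_prime_iff_eq ht hr.out).mp (ht.dvd_of_dvd_pow hd)]
    exact Cfsg.Agent.Lib.Helper2BGa.IsSyl.not_dvd_relIndex hR
  have hNS : H ≤ normalizer (S : Set G) :=
    le_normalizer.trans (Cfsg.Agent.Lib.Helper2BGa.normalizer_le_normalizer_hall hnil hS.1 (hprime hS))
  have hNQ : H ≤ normalizer (Q : Set G) :=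
    le_normalizer.trans (Cfsg.Agent.Lib.Helper2BGa.normalizer_le_normalizer_hall hnil hQ.1 (hprime hQ))
  have hbot : Q ⊓ S = ⊥ := by
    apply Cfsg.Agent.Lib.Helper30SZ.inf_eq_bot_of_coprime
    obtain ⟨k, hk⟩ := IsPGroup.iff_card.mp hS.2.1
    obtain ⟨l, hl⟩ := IsPGroup.iff_card.mp hQ.2.1
    rw [hk, hl]
    exact Nat.Coprime.pow _ _ ((Nat.coprime_primes hpf.out hqf.out).mpr hpq)
  have hc : Q ≤ centralizer (S : Set G) :=
    Cfsg.Agent.Lib.Helper24BG3.le_centralizer_of_inf_bot (hQ.1.trans hNS) le_rfl (hS.1.trans hNQ) hbot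
  obtain ⟨g, hg, hgA⟩ := exists_cj_le hSM hA hAM
  have hgi : g⁻¹ ∈ M := inv_mem hg
  refine ⟨cj g⁻¹ S, cj g⁻¹ Q, ?_, ?_, ?_, cj_le_iff.mp hgA⟩
  · have := Cfsg.Agent.Lib.Helper2BGa.isSyl_cj hSM g⁻¹
    rwa [Cfsg.Agent.Lib.Helper2BGa.cj_eq_self_of_mem hgi] at this
  · have := Cfsg.Agent.Lib.Helper2BGa.isSyl_cj hQM g⁻¹
    rwa [Cfsg.Agent.Lib.Helper2BGa.cj_eq_self_of_mem hgi] at this
  · rw [Cfsg.Agent.Lib.Helper14Sylow.centralizer_cj]
    exact cj_mono hc

/-- `N_S(A)` is nonabelian when `S` is. -/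
theorem normalizer_nonab {p : ℕ} [hpf : Fact p.Prime] {A S : Subgroup G} (hA : MaxSq p A)
    (hS : IsPGroup p S) (hAS : A ≤ S) (hna : ¬ IsMulCommutative S) :
    ¬ IsMulCommutative ↥(S ⊓ normalizer (A : Set G)) := by
  intro hT
  set T := S ⊓ normalizer (A : Set G) with hTdef
  have hAT : A ≤ T := le_inf hAS le_normalizer
  set P := S ⊓ centralizer (A : Set G) with hPdef
  have hTP : T ≤ P := by
    intro t ht
    refine ⟨ht.1, ?_⟩
    show t ∈ centralizer (A : Set G)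
    rw [mem_centralizer_iff]
    intro a ha
    exact setLike_mul_comm (hAT ha) ht
  have hPS : P ≠ S := by
    intro h
    apply hna
    have h1 : S ≤ T := by
      intro s hs
      have : s ∈ P := h ▸ hs
      exact ⟨hs, centralizer_le_normalizer _ this.2⟩
    refine ⟨⟨fun a b => Subtype.ext ?_⟩⟩
    exact setLike_mul_comm (h1 a.2) (h1 b.2)
  have hlt : P < S := lt_of_le_of_ne inf_le_left hPS
  have h1 := exists_lt_normalizer hS hlt
  obtain ⟨x, hx, hxP⟩ := SetLike.exists_of_lt h1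
  apply hxP
  apply hTP
  refine ⟨hx.1, ?_⟩
  show x ∈ normalizer (A : Set G)
  rw [Cfsg.Agent.Lib.Helper14Sylow.mem_normalizer_iff_cj]
  apply Cfsg.Agent.Lib.Helper14Sylow.cj_eq_of_le
  rintro _ ⟨a, ha, rfl⟩
  show x * a * x⁻¹ ∈ A
  have haP : a ∈ P := ⟨hAS ha, by
    show a ∈ centralizer (A : Set G)
    rw [mem_centralizer_iff]
    intro b hb
    have := hA.elem.1
    exact setLike_mul_comm hb ha⟩
  have h2 : x * a * x⁻¹ ∈ P := (mem_normalizer_iff.mp hx.2 a).mp haP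
  apply MaxSq.mem_of_cent hA h2.2
  rw [conj_pow, hA.elem.2 a ha]
  group

end Cfsg.Agent.Lib.Helper31BGW
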