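import Mathlib
import Cfsg.Agent.Lib.Helper31BG21Defs
import Cfsg.Agent.Lib.Helper31BGW
import Cfsg.Agent.Lib.Helper84BGFrobact
import Cfsg.Agent.S1408
import Cfsg.Agent.S1417
import Cfsg.Agent.S1418
import Cfsg.Agent.S1420
import Cfsg.Agent.S1427

/-!
PROJECT 21, piece `irr` (helper11).
-/

set_option autoImplicit false

namespace Cfsg.Agent.Lib.Helper11BG21irr

open Cfsg Subgroup
open Cfsg.Agent.Lib.Helper30Trans Cfsg.Agent.Lib.Helper24BG Cfsg.Agent.Lib.Helper31BG21Defs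
open Cfsg.Agent.Lib.Helper37Cores Cfsg.Agent.Lib.Helper11Frobenius

variable {G : Type*} [Group G] [Finite G]

theorem isPGroup_zpowers {q : ℕ} {k : G} {j : ℕ} (h : orderOf k = q ^ j) :
    IsPGroup q (zpowers k) := by
  apply IsPGroup.of_card (n := j)
  rw [Nat.card_zpowers, h]

/-- case `q ∈ τ₂(L)` -/
theorem irr_tau2 {p q : ℕ} [hp : Fact p.Prime] [hq : Fact q.Prime] (hqp : q ≠ p) {A Q B E : Subgroup G}
    (hA1 : A ≠ ⊥) (hAp : IsPGroup p A)
    (hQ : IsPGroup q Q) (hQc : ∀ a ∈ Q, ∀ b ∈ Q, a * b = b * a) (hQN : Q ≤ normalizer (A : Set G))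
    (hsemi : ∀ u ∈ normalizer (A : Set G), u ∉ centralizer (A : Set G) →
      A ⊓ centralizer ({u} : Set G) = ⊥)
    (hBQ : B ≤ Q) (hBe : ∀ b ∈ B, b ^ q = 1) (hCE : centralizer (A : Set G) ≤ E)
    {k : G} (hkQ : k ∈ Q) (hkE : k ∈ E) (hk : k ∉ centralizer (A : Set G)) : B ≤ E := by
  classical
  set Z := Q ⊓ centralizer (A : Set G) with hZ
  let W : Subgroup G :=
    { carrier := {s | s ∈ Q ∧ s ^ q ∈ Z}
      one_mem' := ⟨Q.one_mem, by rw [one_pow]; exact Z.one_mem⟩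
      mul_mem' := by
        rintro a b ⟨ha, ha'⟩ ⟨hb, hb'⟩
        refine ⟨Q.mul_mem ha hb, ?_⟩
        rw [(show Commute a b from hQc a ha b hb).mul_pow]
        exact Z.mul_mem ha' hb'
      inv_mem' := by
        rintro a ⟨ha, ha'⟩
        refine ⟨Q.inv_mem ha, ?_⟩
        rw [inv_pow]
        exact Z.inv_mem ha' }
  have hWQ : W ≤ Q := fun s hs => hs.1
  have hZW : Z ≤ W := fun s hs => ⟨hs.1, Z.pow_mem hs q⟩
  have hBW : B ≤ W := fun b hb => ⟨hBQ hb, by rw [hBe b hb]; exact Z.one_mem⟩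
  -- the element `y`
  obtain ⟨n, hn⟩ := hQ ⟨k, hkQ⟩
  have hn' : k ^ q ^ n = 1 := congrArg Subtype.val hn
  have hex : ∃ m, k ^ q ^ m ∈ Z := ⟨n, by rw [hn']; exact Z.one_mem⟩
  have hm0 : Nat.find hex ≠ 0 := by
    intro h0
    have := Nat.find_spec hex
    rw [h0, pow_zero, pow_one] at this
    exact hk this.2
  obtain ⟨i, hi⟩ := Nat.exists_eq_succ_of_ne_zero hm0
  set y := k ^ q ^ i with hy
  have hyZ : y ∉ Z := Nat.find_min hex (by omega)
  have hyq : y ^ q ∈ Z := by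
    have := Nat.find_spec hex
    rw [hi, Nat.succ_eq_add_one, pow_succ, pow_mul] at this
    exact this
  have hyQ : y ∈ Q := Q.pow_mem hkQ _
  have hyW : y ∈ W := ⟨hyQ, hyq⟩
  have hcopA : ¬ q ∣ Nat.card A := by
    obtain ⟨m, hm⟩ := IsPGroup.iff_card.mp hAp
    rw [hm]
    intro h
    exact hqp ((Nat.prime_dvd_prime_iff_eq hq.out hp.out).mp (hq.out.dvd_of_dvd_pow h))
  have hZA : Z ⊓ A = ⊥ := by
    apply (disjoint_of_coprime_natCard _).eq_bot
    obtain ⟨m, hm⟩ := IsPGroup.iff_card.mp hAp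
    obtain ⟨m', hm'⟩ := IsPGroup.iff_card.mp (hQ.to_le (inf_le_left : Z ≤ Q))
    rw [hm, hm']
    exact Nat.Coprime.pow _ _ ((Nat.coprime_primes hq.out hp.out).mpr hqp)
  have hWle : ¬ (q * Nat.card Z < Nat.card W) := by
    intro hcard
    have := Cfsg.Agent.Lib.Helper31BGU.le_of_central_quot (p := q) (T := A) (E := W) (Z := Z) (L := ⊥)
      hZW (hWQ.trans hQN) inf_le_right
      (by
        intro z hz
        rw [mem_centralizer_iff]
        intro w hw
        exact hQc w (hWQ hw) z hz.1)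
      (by
        intro a ha b hb
        rw [hQc a (hWQ ha) b (hWQ hb)]
        simp)
      (fun a ha => ha.2) hcard hcopA hZA
      (by
        intro a ha haZ
        rw [hsemi a (hQN (hWQ ha)) (fun h => haZ ⟨hWQ ha, h⟩)])
    exact hA1 (le_bot_iff.mp this)
  set Y' := zpowers y ⊔ Z with hY'
  have hY'W : Y' ≤ W := sup_le (zpowers_le.mpr hyW) hZW
  have hlt : Z < Y' := by
    refine lt_of_le_of_ne le_sup_right ?_
    intro h
    exact hyZ (h ▸ (le_sup_left : zpowers y ≤ Y') (mem_zpowers y))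
  have hcard : q * Nat.card Z ≤ Nat.card Y' := by
    obtain ⟨a, ha⟩ := IsPGroup.iff_card.mp (hQ.to_le (inf_le_left : Z ≤ Q))
    obtain ⟨b, hb⟩ := IsPGroup.iff_card.mp (hQ.to_le (hY'W.trans hWQ))
    have h1 := Cfsg.Agent.Lib.Helper30Coprime.card_lt_of_lt hlt
    rw [ha, hb] at h1 ⊢
    have h2 : a < b := (Nat.pow_lt_pow_iff_right hq.out.one_lt).mp h1
    rw [← pow_succ']
    exact Nat.pow_le_pow_right hq.out.pos h2
  have hYW : Y' = W := eq_of_le_of_card_ge hY'W (by omega)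
  have hY'E : Y' ≤ E := sup_le (zpowers_le.mpr (E.pow_mem hkE _)) (inf_le_right.trans hCE)
  exact (hYW ▸ hBW).trans hY'E

theorem irr (hG : IsMinSimpleOddOrder G) {M E : Subgroup G} (hM : IsCoatom M)
    (hE : IsComplIn E (sigmaCore M) M) {p : ℕ} [Fact p.Prime] (hp : p ∈ tau2 M) {A S : Subgroup G}
    (hAE : A ≤ E) (hAe : IsElementaryAbelian p A) (hA2 : Nat.card A = p ^ 2) (hS : IsSyl p S ⊤)
    (hAS : A ≤ S) (hSab : IsMulCommutative S)
    (hNS : normalizer (A : Set G) = normalizer (S : Set G))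
    (hsemi : ∀ u ∈ normalizer (A : Set G), u ∉ centralizer (A : Set G) →
      A ⊓ centralizer ({u} : Set G) = ⊥)
    {q : ℕ} [Fact q.Prime] (hqσ : q ∉ sigma M) (hq1 : PRankLE q 1 M) {k : G} (hkE : k ∈ E)
    (hkq : ∃ j : ℕ, orderOf k = q ^ j) (hreg : Reg M (zpowers k)) :
    k ∈ centralizer (A : Set G) := by
  by_contra hk
  have hpP : p.Prime := Fact.out
  have hqP : q.Prime := Fact.out
  have hEM : E ≤ M := hE.1
  have h18 := Cfsg.Agent.S1418.result hG M hM E hE p hp A ⟨hAE, hAe, hA2⟩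
  have h17 := Cfsg.Agent.S1417.result hG M hM p hp A ⟨hAE.trans hEM, hAe, hA2⟩
  have hEN : E ≤ normalizer (A : Set G) := h18.1.1
  have hCE : centralizer (A : Set G) ≤ E := by
    rw [← h18.2.1.2.1]; exact h18.2.1.1
  have hqp : q ≠ p := by rintro rfl; exact hp.2.2.2 hq1
  have hA1 : A ≠ ⊥ := by
    intro h
    rw [h, card_bot] at hA2
    have := Nat.one_lt_pow (n := 2) (by norm_num) hpP.one_lt
    omega
  have hAp : IsPGroup p A := isPGroup_of_elemAb hAe
  obtain ⟨j, hj⟩ := hkq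
  have hkpg : IsPGroup q (zpowers k) := isPGroup_zpowers hj
  have hk1 : k ≠ 1 := by rintro rfl; exact hk (one_mem _)
  have hj0 : j ≠ 0 := by
    rintro rfl
    rw [pow_zero, orderOf_eq_one_iff] at hj
    exact hk1 hj
  obtain ⟨i, rfl⟩ := Nat.exists_eq_succ_of_ne_zero hj0
  set x := k ^ q ^ i with hx
  have hx1 : x ≠ 1 := by
    intro h
    have := orderOf_dvd_of_pow_eq_one h
    rw [hj] at this
    exact absurd (Nat.pow_dvd_pow_iff_le_right hqP.one_lt |>.mp this) (by omega)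
  have hxq : x ^ q = 1 := by
    rw [hx, ← pow_mul, ← pow_succ, ← Nat.succ_eq_add_one, ← hj, pow_orderOf_eq_one]
  have hxo : orderOf x = q := orderOf_eq_prime hxq hx1
  have hxk : x ∈ zpowers k := pow_mem (mem_zpowers k) _
  have hxE : x ∈ E := E.pow_mem hkE _
  have hMn := Cfsg.Agent.Lib.Helper2BGb.le_normalizer_sigmaCore M
  have hcz : ∀ u : G, centralizer ((zpowers u : Subgroup G) : Set G) ≤ centralizer ({u} : Set G) := by
    intro u
    exact centralizer_le (by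
      intro z hz
      rw [Set.mem_singleton_iff] at hz
      rw [hz]; exact mem_zpowers u)
  -- (1)
  have hxC : x ∈ centralizer (A : Set G) := by
    by_contra hxn
    have h1 := hsemi x (hEN hxE) hxn
    have hcp : ∀ r : ℕ, r.Prime → r ∉ sigma M → ∀ m : ℕ, (r ^ m).Coprime (Nat.card (sigmaCore M)) := by
      intro r hr hrσ m
      exact Nat.Coprime.pow_left m ((Nat.Prime.coprime_iff_not_dvd hr).mpr
        (Cfsg.Agent.Lib.Helper31BGS.not_dvd_sigmaCore hG hM hr hrσ))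
    have h2 : A ≤ centralizer (sigmaCore M : Set G) :=
      Cfsg.Agent.Lib.Helper84BGFrobact.frob_act (V := sigmaCore M) (K := A) (R := zpowers x)
        (sol hG (fun h => hM.1 (top_le_iff.mp (h ▸ Cfsg.Agent.Lib.Helper2BGb.sigmaCore_le M))))
        ((hAE.trans hEM).trans hMn) ((zpowers_le.mpr (hEM hxE)).trans hMn)
        (zpowers_le.mpr (hEN hxE)) (by rw [Nat.card_zpowers, hxo]; exact hqP)
        (by rw [hA2]; exact hcp p hpP hp.2.1 2)
        (by rw [Nat.card_zpowers, hxo]; simpa using hcp q hqP hqσ 1)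
        (le_bot_iff.mp (h1 ▸ inf_le_inf_left A (hcz x)))
        (le_bot_iff.mp ((hreg x hxk hx1) ▸ inf_le_inf_left _ (hcz x)))
    have h3 : sigmaCore M ≤ centralizer (A : Set G) := le_centralizer_iff.mp h2
    have h4 := h17.2.2.2.1
    rw [inf_eq_left.mpr h3] at h4
    exact Cfsg.Agent.Lib.Helper3BGNotuniq.sigmaCore_ne_bot hG hM h4
  -- (2)
  obtain ⟨L, hL, hNL⟩ := exists_coatom (norm_ne_top hG hA1 (pgroup_ne_top hG hAp))
  have hNSL : normalizer (S : Set G) ≤ L := hNS ▸ hNL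
  have hSL : S ≤ L := le_normalizer.trans hNSL
  have hSylL : IsSyl p S L := hS.mono hSL le_top
  have hS1 : S ≠ ⊥ := fun h => hA1 (le_bot_iff.mp (h ▸ hAS))
  have hpL : p ∈ sigma L := Cfsg.Agent.Lib.Helper2BGb.mem_sigma_of_norm hSylL hS1 hNSL
  have hpβ : p ∉ beta L := fun h =>
    (Cfsg.Agent.S1408.result hG M hM p hp.2.1 hp.2.2.1 hp.2.2.2).1 h.2
  have hkL : k ∈ L := hNL (hEN hkE)
  have hAL : A ≤ L := hAS.trans hSL
  have hALσ : A ≤ sigmaCore L := Cfsg.Agent.Lib.Helper2BGb.pgroup_le_sigmaCore hG hL hpL hAL hAp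
  have hSσ : S ≤ sigmaCore L := Cfsg.Agent.Lib.Helper2BGb.pgroup_le_sigmaCore hG hL hpL hSL hS.2.1
  -- (3)
  have hqL : q ∉ sigma L := by
    intro hq
    have hkσ : zpowers k ≤ sigmaCore L :=
      Cfsg.Agent.Lib.Helper2BGb.pgroup_le_sigmaCore hG hL hq (zpowers_le.mpr hkL) hkpg
    have hnpc : HasNPC p ↥(sigmaCore L) :=
      Cfsg.Agent.Lib.Helper2BGd.npc_of_le (Cfsg.Agent.Lib.Helper2BGd.npc_derived hG hL hpL.2.1 hpβ)
        (Cfsg.Agent.Lib.Helper2BGb.sigmaCore_le_derived hG hL)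
    have hkD : zpowers k ≤ coreOf p (sigmaCore L) :=
      Cfsg.Agent.Lib.Helper2BGc.le_coreOf_of_npc hnpc hkσ (by
        rw [Nat.card_zpowers, hj]
        exact Nat.Coprime.pow_left _ ((Nat.coprime_primes hqP hpP).mpr hqp))
    set D := coreOf p (sigmaCore L) with hD
    have hkD' : k ∈ D := hkD (mem_zpowers k)
    apply hk
    rw [mem_centralizer_iff]
    intro a ha
    have h1 : k * a * k⁻¹ * a⁻¹ ∈ A :=
      A.mul_mem ((mem_normalizer_iff.mp (hEN hkE) a).mp ha) (A.inv_mem ha)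
    have h2 : k * a * k⁻¹ * a⁻¹ ∈ D := by
      have h3 := (mem_normalizer_iff.mp (le_normalizer_coreOf p _ (hALσ ha)) k⁻¹).mp (D.inv_mem hkD')
      have h4 := D.mul_mem hkD' h3
      have e : k * (a * k⁻¹ * a⁻¹) = k * a * k⁻¹ * a⁻¹ := by group
      rwa [e] at h4
    have h5 : A ⊓ D = ⊥ := by
      apply (disjoint_of_coprime_natCard _).eq_bot
      rw [hA2]
      exact Nat.Coprime.pow_left 2 (card_coreOf_coprime p _).symm
    have h6 : k * a * k⁻¹ * a⁻¹ ∈ A ⊓ D := ⟨h1, h2⟩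
    rw [h5, mem_bot] at h6
    have h7 : k * a = a * k := by
      have : k * a = (k * a * k⁻¹ * a⁻¹) * (a * k) := by group
      rw [this, h6, one_mul]
    exact h7.symm
  have hz1 : (zpowers k) ≠ ⊥ := by rwa [Ne, zpowers_eq_bot]
  have hq2 : q ≠ 2 := ne_two hG hkpg hz1
  by_cases hr : PRankLE q 1 L
  · -- (4)
    obtain ⟨F, hF, hkF⟩ := Cfsg.Agent.Lib.Helper31BGS.exists_compl_ge hG hL (X := zpowers k)
      (zpowers_le.mpr hkL) (by
        intro r hr' hrd
        rw [Nat.card_zpowers, hj] at hrd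
        rw [(Nat.prime_dvd_prime_iff_eq hr' hqP).mp (hr'.dvd_of_dvd_pow hrd)]
        exact hqL)
    obtain ⟨Q, hQ, hkQ⟩ := exists_isSyl_ge (p := q) hkF hkpg
    have hQc : IsCyclic Q :=
      Cfsg.Agent.Lib.Helper27BGa.cyclic_of_rank_one hq2 hQ.2.1 (rank_le_of_le (hQ.1.trans hF.1) hr)
    have hQc' : IsCyclic ((hQ.toSylow : Sylow q F) : Subgroup F) :=
      isCyclic_of_surjective (subgroupOfEquivOfLe hQ.1).symm (MulEquiv.surjective _)
    have hQ1 : ((hQ.toSylow : Sylow q F) : Subgroup F) ≠ ⊥ := by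
      intro h
      have h1 : (⟨k, hkF (mem_zpowers k)⟩ : F) ∈ ((hQ.toSylow : Sylow q F) : Subgroup F) :=
        mem_subgroupOf.mpr (hkQ (mem_zpowers k))
      rw [h, mem_bot] at h1
      exact hk1 (congrArg Subtype.val h1)
    have h27 := Cfsg.Agent.S1427.result hG L hL F hF q hQ.toSylow hQ1 hQc' x
      (by rw [hQ.map_toSylow]; exact hkQ hxk) hx1
    rw [hQ.map_toSylow] at h27
    apply hk
    rw [mem_centralizer_iff]
    intro a ha
    have h1 : a ∈ sigmaCore L ⊓ centralizer ({x} : Set G) := by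
      refine mem_inf.mpr ⟨hALσ ha, ?_⟩
      rw [mem_centralizer_iff]
      intro z hz
      rw [Set.mem_singleton_iff] at hz
      rw [hz]
      exact (mem_centralizer_iff.mp hxC a ha).symm
    rw [h27] at h1
    exact (mem_centralizer_iff.mp h1.2 k (hkQ (mem_zpowers k))).symm
  · -- (5)
    have hqτ : q ∈ tau2 L := ⟨hqP, hqL, by
      by_contra h
      exact hqL (Cfsg.Agent.Lib.Helper2BGb.alpha_subset_sigma hG hL ⟨hqP, h⟩), hr⟩
    obtain ⟨B₀, hB₀L, hB₀e, hB₀c⟩ := Cfsg.Agent.Lib.Helper31BGS.exists_sq hr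
    have hnil := (Cfsg.Agent.S1417.result hG L hL q hqτ B₀ ⟨hB₀L, hB₀e, hB₀c⟩).1
    have hSylσ : IsSyl p S (sigmaCore L) := hS.mono hSσ le_top
    have hLS : L ≤ normalizer (S : Set G) :=
      (Cfsg.Agent.Lib.Helper2BGb.le_normalizer_sigmaCore L).trans
        (Cfsg.Agent.Lib.Helper2BGa.normalizer_le_normalizer_hall hnil hSσ (by
          intro r hr' hrd
          obtain ⟨m, hm⟩ := IsPGroup.iff_card.mp hS.2.1
          rw [hm] at hrd
          rw [(Nat.prime_dvd_prime_iff_eq hr' hpP).mp (hr'.dvd_of_dvd_pow hrd)]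
          exact Cfsg.Agent.Lib.Helper2BGa.IsSyl.not_dvd_relIndex hSylσ))
    have hLN : L ≤ normalizer (A : Set G) := hNS ▸ hLS
    obtain ⟨Q, hQ, hkQ⟩ := exists_isSyl_ge (p := q) (zpowers_le.mpr hkL) hkpg
    have hQab : IsMulCommutative Q := Cfsg.Agent.S1420.comm_of_pgroup hG hL hqL hQ.2.1 hQ.1
    have hQr : ¬ PRankLE q 1 Q := fun h => hr (Cfsg.Agent.Lib.Helper27BGa.rank_of_isSyl hQ h)
    obtain ⟨B, hBQ, hBe, hBc⟩ := Cfsg.Agent.Lib.Helper31BGS.exists_sq hQr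
    have hBE : B ≤ E := irr_tau2 hqp hA1 hAp hQ.2.1
      (fun a ha b hb => congrArg Subtype.val (hQab.is_comm.comm ⟨a, ha⟩ ⟨b, hb⟩))
      (hQ.1.trans hLN) hsemi hBQ hBe.2 hCE (hkQ (mem_zpowers k)) hkE hk
    exact not_rank_of_elemAb (hBE.trans hEM) hBe (by
      rw [hBc]; exact Nat.pow_lt_pow_right hqP.one_lt (by norm_num)) hq1

end Cfsg.Agent.Lib.Helper11BG21irr
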