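import Mathlib
import Cfsg.Agent.Lib.Helper31BG21Defs
import Cfsg.Agent.Lib.Helper31BGV
import Cfsg.Agent.Lib.Helper65Bridge2

/-!
PROJECT 21, piece `lift` (helper11).
-/

set_option autoImplicit false

namespace Cfsg.Agent.Lib.Helper11BG21lift

open Cfsg Subgroup
open Cfsg.Agent.Lib.Helper31BG21Defs

variable {G : Type*} [Group G] [Finite G]

open scoped IsMulCommutative in
open Cfsg.Agent.Lib.Helper65Bridge in
/-- ambient form of `socle_irred`: an abelian `p`-group with a coprime operator group `K` whose socle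
is not irreducible is decomposable. -/
theorem exists_decomp {p : ℕ} [Fact p.Prime] {B K L : Subgroup G} [IsMulCommutative B]
    (hB : IsPGroup p B) (hKB : K ≤ normalizer (B : Set G)) (hcop : (Nat.card K).Coprime p)
    (hLB : L ≤ B) (hKL : K ≤ normalizer (L : Set G)) (hLp : ∀ b ∈ L, b ^ p = 1) (hL1 : L ≠ ⊥)
    (ha : ∃ a ∈ B, a ^ p = 1 ∧ a ∉ L) :
    ∃ B₁ B₂ : Subgroup G, B₁ ≤ B ∧ B₂ ≤ B ∧ K ≤ normalizer (B₁ : Set G) ∧
      K ≤ normalizer (B₂ : Set G) ∧ B₁ ⊓ B₂ = ⊥ ∧ B₁ ⊔ B₂ = B ∧ B₁ ≠ ⊥ ∧ B₂ ≠ ⊥ := by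
  by_contra hcon
  push Not at hcon
  let _ : MulDistribMulAction K B :=
    MulDistribMulAction.compHom B (B.normalizerMonoidHom.comp (Subgroup.inclusion hKB))
  have hsmul : ∀ (a : K) (v : B), ((a • v : B) : G) = a * v * (a : G)⁻¹ := fun a v => rfl
  have hnorm : ∀ C : Subgroup B, Inv K C → K ≤ normalizer ((C.map B.subtype : Subgroup G) : Set G) := by
    intro C hC
    apply Cfsg.Agent.Lib.Helper1Basic.le_normalizer_of_forall_conj_mem
    rintro k hk _ ⟨c, hc, rfl⟩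
    exact ⟨(⟨k, hk⟩ : K) • c, hC ⟨k, hk⟩ c hc, hsmul ⟨k, hk⟩ c⟩
  have hind : ∀ C D : Subgroup B, Inv K C → Inv K D → C ⊓ D = ⊥ → C ⊔ D = ⊤ → C = ⊥ ∨ D = ⊥ := by
    intro C D hC hD hinf hsup
    by_contra hne
    push Not at hne
    have h1 := hcon (C.map B.subtype) (D.map B.subtype) (map_subtype_le C) (map_subtype_le D)
      (hnorm C hC) (hnorm D hD)
      (by rw [← map_inf _ _ _ B.subtype_injective, hinf, Subgroup.map_bot])
      (by rw [← Subgroup.map_sup, hsup, ← MonoidHom.range_eq_map, B.range_subtype])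
      (by rw [Ne, Subgroup.map_eq_bot_iff_of_injective _ B.subtype_injective]; exact hne.1)
    exact hne.2 ((Subgroup.map_eq_bot_iff_of_injective _ B.subtype_injective).mp h1)
  obtain ⟨a, haB, hap, haL⟩ := ha
  have := Cfsg.Agent.Lib.Helper65Bridge2.socle_irred (A := B) (Y := K) hB hcop hind (L.subgroupOf B)
    (by
      intro k x hx
      rw [mem_subgroupOf] at hx ⊢
      rw [hsmul]
      exact (mem_normalizer_iff.mp (hKL k.2) x).mp hx)
    (by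
      intro b hb
      exact Subtype.ext (hLp b (mem_subgroupOf.mp hb)))
    (by
      intro h
      apply hL1
      rw [eq_bot_iff]
      intro x hx
      have : (⟨x, hLB hx⟩ : B) ∈ L.subgroupOf B := mem_subgroupOf.mpr hx
      rw [h, mem_bot] at this
      exact congrArg Subtype.val this)
    ⟨a, haB⟩ (Subtype.ext hap)
  exact haL (mem_subgroupOf.mp this)

/-- the final step: a `K`-invariant direct factor `B₁` containing an element of maximal order. -/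
theorem fin {p : ℕ} [hp : Fact p.Prime] {S A L B₁ B₂ : Subgroup G} (hS : IsPGroup p S)
    (hSc : ∀ a ∈ S, ∀ b ∈ S, a * b = b * a) (hA2 : Nat.card A = p ^ 2)
    (hΩ : ∀ x ∈ S, x ^ p = 1 ↔ x ∈ A) (hL : Nat.card L = p) (hLS : L ≤ S)
    (hB₁ : B₁ ≤ S) (hB₂ : B₂ ≤ S) (hinf : B₁ ⊓ B₂ = ⊥) (hB₂1 : B₂ ≠ ⊥)
    {w : G} (hw : w ∈ B₁) (hwL : w ∈ L) (hw1 : w ≠ 1) :
    ∀ x ∈ B₁, x ^ p = 1 → x ∈ L := by
  intro x hx hxp
  by_contra hxL
  have hLw : L = zpowers w := Cfsg.Agent.Lib.Helper31BGV.eq_zpowers_of_card_prime hL hwL hw1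
  have hLB₁ : L ≤ B₁ := hLw ▸ zpowers_le.mpr hw
  have hLA : L ≤ A := by
    intro l hl
    apply (hΩ l (hLS hl)).mp
    have := pow_card_eq_one' (x := (⟨l, hl⟩ : L))
    rw [hL] at this
    exact congrArg Subtype.val this
  have hxA : x ∈ A := (hΩ x (hB₁ hx)).mp hxp
  have hc := Cfsg.Agent.Lib.Helper31BGV.card_zpowers_sup hL hxp hxL
    (fun z hz => hSc z (hLS hz) x (hB₁ hx))
  have hle : zpowers x ⊔ L ≤ A := sup_le (zpowers_le.mpr hxA) hLA
  have heq : zpowers x ⊔ L = A := eq_of_le_of_card_ge hle (by rw [hc, hA2])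
  have hAB₁ : A ≤ B₁ := heq ▸ sup_le (zpowers_le.mpr hx) hLB₁
  have hB₂p : IsPGroup p B₂ := hS.to_le hB₂
  have hpd : p ∣ Nat.card B₂ := by
    obtain ⟨k, hk⟩ := IsPGroup.iff_card.mp hB₂p
    rcases Nat.eq_zero_or_pos k with rfl | hkpos
    · rw [pow_zero] at hk; exact absurd (card_eq_one.mp hk) hB₂1
    · rw [hk]; exact dvd_pow_self p hkpos.ne'
  obtain ⟨c, hc'⟩ := exists_prime_orderOf_dvd_card' p hpd
  have hcp : (c : G) ^ p = 1 := by
    have := pow_orderOf_eq_one c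
    rw [hc'] at this
    exact congrArg Subtype.val this
  have hcA : (c : G) ∈ A := (hΩ c (hB₂ c.2)).mp hcp
  have h1 : (c : G) ∈ B₁ ⊓ B₂ := ⟨hAB₁ hcA, c.2⟩
  rw [hinf, mem_bot] at h1
  have : c = 1 := Subtype.ext h1
  rw [this, orderOf_one] at hc'
  exact hp.out.one_lt.ne hc'

theorem lift {p : ℕ} [Fact p.Prime] (hp2 : p ≠ 2) {S A K L : Subgroup G} (hS : IsPGroup p S)
    (hSab : IsMulCommutative S) (hAS : A ≤ S) (hA2 : Nat.card A = p ^ 2)
    (hΩ : ∀ x ∈ S, x ^ p = 1 ↔ x ∈ A) (hKS : K ≤ normalizer (S : Set G)) (hcop : (Nat.card K).Coprime p) (hL : Nat.card L = p)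
    (hKL : K ≤ normalizer (L : Set G)) (hlift : Liftable S L) :
    ∃ P₀ : Subgroup G, P₀ ≤ S ∧ K ≤ normalizer (P₀ : Set G) ∧ (∀ x ∈ P₀, x ^ p = 1 → x ∈ L) ∧
      ∃ y ∈ P₀, ∀ s ∈ S, s ^ orderOf y = 1 := by
  have hp : p.Prime := Fact.out
  have hSc : ∀ a ∈ S, ∀ b ∈ S, a * b = b * a := fun a ha b hb =>
    congrArg Subtype.val (hSab.is_comm.comm ⟨a, ha⟩ ⟨b, hb⟩)
  obtain ⟨y, hyS, hymax, hLy⟩ := hlift
  have hLS : L ≤ S := hLy.trans (zpowers_le.mpr hyS)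
  have hL1 : L ≠ ⊥ := by
    intro h
    rw [h, card_bot] at hL
    exact hp.one_lt.ne hL
  obtain ⟨l, hl, hl1⟩ : ∃ l ∈ L, l ≠ 1 := by
    obtain ⟨l, hl⟩ := (Subgroup.ne_bot_iff_exists_ne_one).mp hL1
    exact ⟨l.1, l.2, fun h => hl (Subtype.ext h)⟩
  have hlp : ∀ b ∈ L, b ^ p = 1 := by
    intro b hb
    have := pow_card_eq_one' (x := (⟨b, hb⟩ : L))
    rw [hL] at this
    exact congrArg Subtype.val this
  have hy1 : y ≠ 1 := by
    rintro rfl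
    rw [zpowers_one_eq_bot] at hLy
    exact hL1 (le_bot_iff.mp hLy)
  obtain ⟨j, hj⟩ : ∃ j, orderOf y = p ^ j := by
    obtain ⟨k, hk⟩ := hS ⟨y, hyS⟩
    have hk' : y ^ p ^ k = 1 := congrArg Subtype.val hk
    obtain ⟨j, _, hj⟩ := (Nat.dvd_prime_pow hp).mp (orderOf_dvd_of_pow_eq_one hk')
    exact ⟨j, hj⟩
  have hj0 : j ≠ 0 := by
    rintro rfl
    rw [pow_zero, orderOf_eq_one_iff] at hj
    exact hy1 hj
  obtain ⟨e, rfl⟩ := Nat.exists_eq_succ_of_ne_zero hj0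
  set w := y ^ p ^ e with hw
  -- `w ∈ L`
  have hw1 : w ≠ 1 := by
    intro h
    have := orderOf_dvd_of_pow_eq_one h
    rw [hj] at this
    exact absurd (Nat.pow_dvd_pow_iff_le_right hp.one_lt |>.mp this) (by omega)
  have hwp : w ^ p = 1 := by
    rw [hw, ← pow_mul, ← pow_succ, ← hj, pow_orderOf_eq_one]
  have hLw : L = zpowers w := by
    apply eq_of_le_of_card_ge
    · intro b hb
      obtain ⟨i, rfl⟩ := (mem_powers_iff_mem_zpowers).mpr (hLy hb)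
      have hb' : y ^ i ∈ L := hb
      have h1 : (y ^ i) ^ p = 1 := hlp _ hb'
      rw [← pow_mul] at h1
      have h2 := orderOf_dvd_of_pow_eq_one h1
      rw [hj, pow_succ] at h2
      have h3 : p ^ e ∣ i := Nat.dvd_of_mul_dvd_mul_right hp.pos h2
      obtain ⟨c, rfl⟩ := h3
      show y ^ (p ^ e * c) ∈ zpowers w
      rw [pow_mul]
      exact pow_mem (mem_zpowers w) c
    · rw [Nat.card_zpowers, orderOf_eq_prime hwp hw1, hL]
  have hwL : w ∈ L := hLw ▸ mem_zpowers w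
  rcases Nat.eq_zero_or_pos e with rfl | hepos
  · -- `e = 0`
    refine ⟨L, hLS, hKL, fun x hx _ => hx, y, ?_, hymax⟩
    have : w = y := by rw [hw]; simp
    rw [← this]; exact hwL
  -- the subgroup `B`
  let B : Subgroup G :=
    { carrier := {s | s ∈ S ∧ s ^ p ^ e ∈ L}
      one_mem' := ⟨S.one_mem, by rw [one_pow]; exact L.one_mem⟩
      mul_mem' := by
        rintro a b ⟨ha, ha'⟩ ⟨hb, hb'⟩
        refine ⟨S.mul_mem ha hb, ?_⟩
        rw [(show Commute a b from hSc a ha b hb).mul_pow]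
        exact L.mul_mem ha' hb'
      inv_mem' := by
        rintro a ⟨ha, ha'⟩
        refine ⟨S.inv_mem ha, ?_⟩
        rw [inv_pow]
        exact L.inv_mem ha' }
  have hmemB : ∀ s, s ∈ B ↔ s ∈ S ∧ s ^ p ^ e ∈ L := fun s => Iff.rfl
  have hBS : B ≤ S := fun s hs => hs.1
  have hBc : IsMulCommutative B := ⟨⟨fun a b => Subtype.ext (hSc a (hBS a.2) b (hBS b.2))⟩⟩
  have hKB : K ≤ normalizer (B : Set G) := by
    apply Cfsg.Agent.Lib.Helper1Basic.le_normalizer_of_forall_conj_mem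
    rintro k hk s ⟨hs, hs'⟩
    refine ⟨(mem_normalizer_iff.mp (hKS hk) s).mp hs, ?_⟩
    rw [conj_pow]
    exact (mem_normalizer_iff.mp (hKL hk) _).mp hs'
  have hAB : A ≤ B := by
    intro a ha
    refine ⟨hAS ha, ?_⟩
    have h1 : a ^ p = 1 := (hΩ a (hAS ha)).mpr ha
    obtain ⟨e', rfl⟩ := Nat.exists_eq_succ_of_ne_zero hepos.ne'
    rw [pow_succ', pow_mul, h1, one_pow]
    exact L.one_mem
  have hLA : L ≤ A := fun b hb => (hΩ b (hLS hb)).mp (hlp b hb)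
  have hex : ∃ a ∈ B, a ^ p = 1 ∧ a ∉ L := by
    by_contra hcon
    push Not at hcon
    have hAL : A ≤ L := fun a ha => hcon a (hAB ha) ((hΩ a (hAS ha)).mpr ha)
    have := Nat.le_of_dvd (by rw [hL]; exact hp.pos) (card_dvd_of_le hAL)
    rw [hA2, hL] at this
    nlinarith [hp.one_lt]
  obtain ⟨B₁, B₂, hB₁, hB₂, hK₁, hK₂, hinf, hsup, hB₁1, hB₂1⟩ :=
    exists_decomp (hS.to_le hBS) hKB hcop (hLA.trans hAB) hKL hlp hL1 hex
  have hyB : y ∈ B := ⟨hyS, hwL⟩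
  have hyd : ∃ b₁ ∈ B₁, ∃ b₂ ∈ B₂, y = b₁ * b₂ := by
    have h1 : y ∈ B₁ ⊔ B₂ := hsup ▸ hyB
    have hn : B₂ ≤ normalizer (B₁ : Set G) := by
      apply Cfsg.Agent.Lib.Helper1Basic.le_normalizer_of_forall_conj_mem
      intro b hb a ha
      rw [hSc b (hBS (hB₂ hb)) a (hBS (hB₁ ha))]
      simpa using ha
    exact (Cfsg.Agent.Lib.Helper30SZ.mem_sup_iff hn).mp h1
  obtain ⟨b₁, hb₁, b₂, hb₂, hyb⟩ := hyd
  have hwb : w = b₁ ^ p ^ e * b₂ ^ p ^ e := by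
    rw [hw, hyb, (show Commute b₁ b₂ from hSc b₁ (hBS (hB₁ hb₁)) b₂ (hBS (hB₂ hb₂))).mul_pow]
  have hord : ∀ b ∈ S, b ^ p ^ e ≠ 1 → orderOf b = orderOf y := by
    intro b hb hne
    rw [hj]
    apply orderOf_eq_prime_pow hne
    rw [← hj]; exact hymax b hb
  by_cases h1 : b₁ ^ p ^ e = 1
  · have h2 : b₂ ^ p ^ e ≠ 1 := by
      intro h2
      rw [h1, h2, one_mul] at hwb
      exact hw1 hwb
    refine ⟨B₂, hB₂.trans hBS, hK₂, ?_, b₂, hb₂, ?_⟩
    · exact fin hS hSc hA2 hΩ hL hLS (hB₂.trans hBS) (hB₁.trans hBS) (by rw [inf_comm]; exact hinf) hB₁1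
        (pow_mem hb₂ _) (hB₂ hb₂).2 h2
    · rw [hord b₂ (hBS (hB₂ hb₂)) h2]; exact hymax
  · refine ⟨B₁, hB₁.trans hBS, hK₁, ?_, b₁, hb₁, ?_⟩
    · exact fin hS hSc hA2 hΩ hL hLS (hB₁.trans hBS) (hB₂.trans hBS) hinf hB₂1
        (pow_mem hb₁ _) (hB₁ hb₁).2 h1
    · rw [hord b₁ (hBS (hB₁ hb₁)) h1]; exact hymax

end Cfsg.Agent.Lib.Helper11BG21lift
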