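import Cfsg.Prelude.Def_Transfer
import Mathlib.GroupTheory.Transfer

set_option autoImplicit false

namespace Cfsg.Agent.Lib.Helper2PComp

open Subgroup

/-- A normal complement of one Sylow subgroup complements every Sylow subgroup. -/
theorem isComplement'_of_sylow {G : Type*} [Group G] [Finite G] {p : ℕ} [Fact p.Prime]
    (P Q : Sylow p G) (N : Subgroup G) (h : N.IsComplement' (P : Subgroup G)) :
    N.IsComplement' (Q : Subgroup G) := by
  have hc : Nat.card Q = Nat.card P := by
    rw [Sylow.card_eq_multiplicity, Sylow.card_eq_multiplicity]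
  apply isComplement'_of_coprime
  · rw [hc]; exact h.card_mul_card
  · rw [hc, ← h.index_eq_card]
    exact (Sylow.card_coprime_index P).symm

theorem hasNormalPComplement_iff {G : Type*} [Group G] [Finite G] {p : ℕ} [Fact p.Prime]
    (P : Sylow p G) :
    Cfsg.HasNormalPComplement p G ↔ ∃ N : Subgroup G, N.Normal ∧ N.IsComplement' (P : Subgroup G) := by
  constructor
  · rintro ⟨Q, N, hN, hc⟩
    exact ⟨N, hN, isComplement'_of_sylow Q P N hc⟩
  · rintro ⟨N, hN, hc⟩
    exact ⟨P, N, hN, hc⟩

/-- Burnside's transfer theorem in the vocabulary of the statements. -/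
theorem hasNormalPComplement_of_normalizer_le_centralizer {G : Type*} [Group G] [Finite G] {p : ℕ}
    [Fact p.Prime] (P : Sylow p G) (hP : normalizer (P : Set G) ≤ centralizer (P : Set G)) :
    Cfsg.HasNormalPComplement p G :=
  ⟨P, _, inferInstance, MonoidHom.ker_transferSylow_isComplement' P hP⟩

end Cfsg.Agent.Lib.Helper2PComp
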