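import Cfsg.Prelude.Def_Transfer
import Mathlib.GroupTheory.Transfer
import Mathlib.GroupTheory.Focal

set_option autoImplicit false

namespace Cfsg.Agent.Lib.Helper2Residual

open Subgroup

variable {G : Type*} [Group G]

theorem pResidual_normal (p : ℕ) : (Cfsg.pResidual p G).Normal := by
  unfold Cfsg.pResidual
  rw [← normalizer_eq_top_iff, eq_top_iff]
  refine le_trans ?_ (normalizer_le_normalizer_closure _)
  intro g _
  rw [mem_set_normalizer_iff]
  intro h
  simp only [Set.mem_ofPred_eq]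
  have : orderOf (g * h * g⁻¹) = orderOf h := by
    have := orderOf_injective (MulAut.conj g).toMonoidHom (MulAut.conj g).injective h
    simpa using this
  rw [this]

theorem mem_pResidual_of_coprime {p : ℕ} {g : G} (h : Nat.Coprime (orderOf g) p) :
    g ∈ Cfsg.pResidual p G := subset_closure h

/-- A homomorphism to a `p`-group kills `O^p(G)`. -/
theorem pResidual_le_ker {p : ℕ} {H : Type*} [Group H] (f : G →* H) (hH : IsPGroup p H) :
    Cfsg.pResidual p G ≤ f.ker := by
  unfold Cfsg.pResidual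
  rw [closure_le]
  intro g hg
  simp only [Set.mem_ofPred_eq] at hg
  obtain ⟨k, hk⟩ := hH (f g)
  have h1 : orderOf (f g) ∣ p ^ k := orderOf_dvd_of_pow_eq_one hk
  have h2 : orderOf (f g) ∣ orderOf g := orderOf_map_dvd f g
  have h3 : orderOf (f g) = 1 := Nat.eq_one_of_dvd_coprimes (Nat.Coprime.pow_right k hg) h2 h1
  exact orderOf_eq_one_iff.1 h3

theorem pResidual_le_of_isPGroup_quotient {p : ℕ} (N : Subgroup G) [N.Normal]
    (h : IsPGroup p (G ⧸ N)) : Cfsg.pResidual p G ≤ N := by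
  have := pResidual_le_ker (QuotientGroup.mk' N) h
  rwa [QuotientGroup.ker_mk'] at this

theorem exists_pow_mem_pResidual [Finite G] {p : ℕ} (hp : p.Prime) (g : G) :
    ∃ k : ℕ, g ^ p ^ k ∈ Cfsg.pResidual p G := by
  obtain ⟨e, n', hn', hn⟩ := Nat.exists_eq_pow_mul_and_not_dvd (orderOf_pos g).ne' p hp.ne_one
  refine ⟨e, mem_pResidual_of_coprime ?_⟩
  rw [orderOf_pow_of_dvd (pow_ne_zero e hp.ne_zero) (hn ▸ dvd_mul_right _ _), hn,
    Nat.mul_div_cancel_left _ (pow_pos hp.pos e)]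
  exact ((Nat.Prime.coprime_iff_not_dvd hp).2 hn').symm

theorem isPGroup_quotient_pResidual [Finite G] {p : ℕ} (hp : p.Prime)
    (N : Subgroup G) [N.Normal] (hN : Cfsg.pResidual p G ≤ N) : IsPGroup p (G ⧸ N) := by
  intro x
  obtain ⟨g, rfl⟩ := QuotientGroup.mk'_surjective N x
  obtain ⟨k, hk⟩ := exists_pow_mem_pResidual hp g
  refine ⟨k, ?_⟩
  rw [← map_pow]
  exact (QuotientGroup.eq_one_iff _).2 (hN hk)

theorem index_pResidual [Finite G] {p : ℕ} (hp : p.Prime) :
    ∃ k : ℕ, (Cfsg.pResidual p G).index = p ^ k := by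
  have := pResidual_normal (G := G) p
  have := Fact.mk hp
  exact (isPGroup_quotient_pResidual hp _ le_rfl).exists_card_eq

theorem sylow_sup_pResidual_eq_top [Finite G] {p : ℕ} [Fact p.Prime] (P : Sylow p G) :
    (P : Subgroup G) ⊔ Cfsg.pResidual p G = ⊤ := by
  have hp : p.Prime := Fact.out
  obtain ⟨k, hk⟩ := index_pResidual (G := G) hp
  rw [← index_eq_one]
  have h1 : ((P : Subgroup G) ⊔ Cfsg.pResidual p G).index ∣ (P : Subgroup G).index :=
    index_dvd_of_le le_sup_left
  have h2 : ((P : Subgroup G) ⊔ Cfsg.pResidual p G).index ∣ p ^ k :=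
    hk ▸ index_dvd_of_le le_sup_right
  refine Nat.eq_one_of_dvd_coprimes ?_ h1 h2
  exact Nat.Coprime.pow_right k ((Nat.Prime.coprime_iff_not_dvd hp).2 P.not_dvd_index).symm

theorem commutator_le_pResidual_of_abelian_sylow [Finite G] {p : ℕ} [Fact p.Prime] (P : Sylow p G)
    [IsMulCommutative P] : commutator G ≤ Cfsg.pResidual p G := by
  have hn := pResidual_normal (G := G) p
  rw [← Normal.quotient_commutative_iff_commutator_le]
  have hsurj : ∀ x : G ⧸ Cfsg.pResidual p G, ∃ a : P, ((a : G) : G ⧸ Cfsg.pResidual p G) = x := by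
    intro x
    obtain ⟨g, rfl⟩ := QuotientGroup.mk'_surjective _ x
    have hg : g ∈ (P : Subgroup G) ⊔ Cfsg.pResidual p G := by
      rw [sylow_sup_pResidual_eq_top]; exact mem_top g
    rw [← SetLike.mem_coe, mul_normal] at hg
    obtain ⟨a, ha, r, hr, rfl⟩ := hg
    refine ⟨⟨a, ha⟩, ?_⟩
    simp only [QuotientGroup.mk'_apply, QuotientGroup.mk_mul]
    rw [(QuotientGroup.eq_one_iff r).2 hr, mul_one]
  refine ⟨⟨fun x y => ?_⟩⟩
  obtain ⟨a, rfl⟩ := hsurj x
  obtain ⟨b, rfl⟩ := hsurj y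
  rw [← QuotientGroup.mk_mul, ← QuotientGroup.mk_mul]
  congr 1
  exact congrArg Subtype.val (mul_comm' a b)

theorem sylow_inf_pResidual_le_focal [Finite G] {p : ℕ} [Fact p.Prime] (P : Sylow p G) :
    (P : Subgroup G) ⊓ Cfsg.pResidual p G ≤ (P : Subgroup G).focalSubgroup := by
  rw [← ker_transferFocal_inf_eq_focalSubgroup, inf_comm]
  exact inf_le_inf_right _
    (pResidual_le_ker _ (P.2.to_quotient (P : Subgroup G).focalSubgroupOf))

theorem pResidual_eq_top_of_sylow_le [Finite G] {p : ℕ} [Fact p.Prime] (P : Sylow p G)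
    (h : (P : Subgroup G) ≤ Cfsg.pResidual p G) : Cfsg.pResidual p G = ⊤ := by
  rw [← sylow_sup_pResidual_eq_top P, eq_comm, sup_eq_right]
  exact h

end Cfsg.Agent.Lib.Helper2Residual
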