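import Cfsg.Agent.Lib.Helper2Gaschutz
import Mathlib.GroupTheory.Sylow
import Mathlib.GroupTheory.Frattini
import Mathlib.GroupTheory.Solvable
import Mathlib.GroupTheory.Nilpotent
import Cfsg.Agent.Lib.Helper2Conj
import Cfsg.Agent.Lib.Helper2Sylow
import Cfsg.Agent.Lib.Helper2Residual
import Cfsg.Agent.Lib.Helper2PComp
import Mathlib.GroupTheory.Perm.Cycle.Type

set_option autoImplicit false
open Pointwise

namespace Cfsg.Agent.Lib.Helper2Tate

open Subgroup Cfsg.Agent.Lib.Helper2Gaschutz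

/-- Gaschütz's theorem (existence of complements), for subgroups of an ambient group. -/
theorem gaschutz_rel {Γ : Type*} [Group Γ] (E Z U A : Subgroup Γ) [Finite E] (hZU : Z ≤ U)
    (hUE : U ≤ E) (hn : E ≤ normalizer (Z : Set Γ)) (hab : IsMulCommutative Z)
    (hcop : (Nat.card Z).Coprime (U.relIndex E)) (hAZ : A ⊓ Z = ⊥) (hZA : Z ⊔ A = U) :
    ∃ H : Subgroup Γ, H ≤ E ∧ H ⊓ Z = ⊥ ∧ Z ⊔ H = E := by
  have hZE : Z ≤ E := hZU.trans hUE
  have hAE : A ≤ E := (le_sup_right.trans hZA.le).trans hUE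
  have : (Z.subgroupOf E).Normal := (normal_subgroupOf_iff_le_normalizer hZE).2 hn
  have : IsMulCommutative (Z.subgroupOf E) := inferInstance
  have hc : Nat.card (Z.subgroupOf E) = Nat.card Z :=
    Nat.card_congr (subgroupOfEquivOfLe hZE).toEquiv
  obtain ⟨H, hH⟩ := gaschutz_exists (G := E) (K := Z.subgroupOf E) (U := U.subgroupOf E)
    (comap_mono hZU) (by rw [hc]; exact hcop) (A.subgroupOf E)
    (by unfold subgroupOf; rw [← comap_inf, hAZ]; exact bot_subgroupOf E) (by rw [← subgroupOf_sup hZE hAE, hZA])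
  refine ⟨H.map E.subtype, map_subtype_le H, ?_, ?_⟩
  · have h1 := hH.disjoint.eq_bot
    have h2 := congrArg (Subgroup.map E.subtype) h1
    rw [map_inf_eq _ _ _ E.subtype_injective, subgroupOf_map_subtype, Subgroup.map_bot,
      inf_of_le_left hZE] at h2
    rw [inf_comm]; exact h2
  · have h1 := hH.sup_eq_top
    have h2 := congrArg (Subgroup.map E.subtype) h1
    rw [Subgroup.map_sup, subgroupOf_map_subtype, inf_of_le_left hZE, ← MonoidHom.range_eq_map,
      range_subtype] at h2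
    exact h2

/-- The pull-back argument behind Tate's theorem. -/
theorem tate_abstract {G : Type*} [Group G] [Finite G] {p : ℕ} [Fact p.Prime] (P : Sylow p G)
    (K : Subgroup G) [K.Normal]
    (hK : K ≤ closure {g : G | g ∈ K ∧ (orderOf g).Coprime p})
    {X : Type*} [Group X] [Finite X] (hX : IsPGroup p X)
    (θ : P →* X) (hθ : Function.Surjective θ) (ρ : X →* G ⧸ K)
    (hρ : ∀ x : P, ρ (θ x) = ((x : G) : G ⧸ K))
    (hZ : ∀ a ∈ ρ.ker, ∀ b ∈ ρ.ker, a * b = b * a) :
    ∃ T : Subgroup X, T ⊓ ρ.ker = ⊥ ∧ T ⊔ ρ.ker = ⊤ := by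
  have hp : p.Prime := Fact.out
  let E : Subgroup (G × X) :=
    { carrier := {a | (a.1 : G ⧸ K) = ρ a.2}
      one_mem' := by simp
      mul_mem' := by
        intro a b ha hb
        simp only [Set.mem_ofPred_eq] at ha hb ⊢
        rw [Prod.fst_mul, Prod.snd_mul, QuotientGroup.mk_mul, map_mul, ha, hb]
      inv_mem' := by
        intro a ha
        simp only [Set.mem_ofPred_eq] at ha ⊢
        rw [Prod.fst_inv, Prod.snd_inv, QuotientGroup.mk_inv, map_inv, ha] }
  have hE : ∀ a : G × X, a ∈ E ↔ (a.1 : G ⧸ K) = ρ a.2 := fun a => Iff.rfl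
  let Z : Subgroup (G × X) := Subgroup.prod ⊥ ρ.ker
  have hZmem : ∀ a : G × X, a ∈ Z ↔ a.1 = 1 ∧ ρ a.2 = 1 := by
    intro a
    rw [Subgroup.mem_prod, mem_bot, MonoidHom.mem_ker]
  have hZn : Z.Normal := Subgroup.prod_normal _ _
  let U : Subgroup (G × X) := E ⊓ (P : Subgroup G).comap (MonoidHom.fst G X)
  let A : Subgroup (G × X) := (MonoidHom.prod (P : Subgroup G).subtype θ).range
  have hAmem : ∀ a : G × X, a ∈ A ↔ ∃ x : P, ((x : G), θ x) = a := fun a => Iff.rfl
  have hZE : Z ≤ E := by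
    intro a ha
    rw [hZmem] at ha
    rw [hE, ha.1, ha.2]; rfl
  have hZU : Z ≤ U := by
    intro a ha
    refine mem_inf.2 ⟨hZE ha, ?_⟩
    rw [hZmem] at ha
    rw [mem_comap, MonoidHom.coe_fst, ha.1]
    exact one_mem _
  have hAE : A ≤ E := by
    rintro a ⟨x, rfl⟩
    rw [hE]
    exact (hρ x).symm
  have hZp : IsPGroup p Z := by
    apply hX.of_injective ((MonoidHom.snd G X).comp Z.subtype)
    intro a b hab
    have ha := ((hZmem a).1 a.2).1
    have hb := ((hZmem b).1 b.2).1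
    apply Subtype.ext
    apply Prod.ext
    · rw [ha, hb]
    · exact hab
  have hab : IsMulCommutative Z := by
    refine ⟨⟨?_⟩⟩
    intro a b
    have ha := (hZmem a).1 a.2
    have hb := (hZmem b).1 b.2
    apply Subtype.ext
    apply Prod.ext
    · simp [ha.1, hb.1]
    · exact hZ _ ha.2 _ hb.2
  have hcop : (Nat.card Z).Coprime (U.relIndex E) := by
    obtain ⟨k, hk⟩ := hZp.exists_card_eq
    rw [hk]
    apply Nat.Coprime.pow_left
    rw [Nat.Prime.coprime_iff_not_dvd hp]
    intro hdvd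
    apply P.not_dvd_index
    have h1 : U.relIndex E = (P : Subgroup G).relIndex ((MonoidHom.fst G X).comp E.subtype).range := by
      rw [inf_relIndex_left, ← index_comap]
      rfl
    have h2 : (P : Subgroup G) ≤ ((MonoidHom.fst G X).comp E.subtype).range := by
      intro x hx
      exact ⟨⟨((x : G), θ ⟨x, hx⟩), hAE ⟨⟨x, hx⟩, rfl⟩⟩, rfl⟩
    rw [← relIndex_mul_index h2, ← h1]
    exact hdvd.mul_right _
  have hAZ : A ⊓ Z = ⊥ := by
    rw [eq_bot_iff]
    intro a ha0
    obtain ⟨⟨x, rfl⟩, ha⟩ := mem_inf.1 ha0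
    rw [hZmem] at ha
    have hx : x = 1 := Subtype.ext ha.1
    rw [mem_bot, hx]
    simp
  have hZA : Z ⊔ A = U := by
    apply le_antisymm
    · apply sup_le hZU
      rintro a ⟨x, rfl⟩
      exact mem_inf.2 ⟨hAE ⟨x, rfl⟩, x.2⟩
    · intro a ha0
      obtain ⟨ha1, ha2⟩ := mem_inf.1 ha0
      have ha2' : a.1 ∈ (P : Subgroup G) := ha2
      have e : a = ((1 : G), a.2 * (θ ⟨a.1, ha2'⟩)⁻¹) * (a.1, θ ⟨a.1, ha2'⟩) := by
        apply Prod.ext <;> simp
      rw [e]
      apply mul_mem_sup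
      · rw [hZmem]
        refine ⟨rfl, ?_⟩
        have : (a.1 : G ⧸ K) = ρ a.2 := ha1
        simp only
        rw [map_mul, map_inv, hρ, ← this, mul_inv_cancel]
      · exact ⟨⟨a.1, ha2'⟩, rfl⟩
  obtain ⟨H, hHE, hHZ, hZH⟩ := gaschutz_rel E Z U A hZU inf_le_left
    (by rw [normalizer_eq_top_iff.2 hZn]; exact le_top) hab hcop hAZ hZA
  have hdec : ∀ a ∈ E, ∃ z ∈ Z, ∃ h ∈ H, z * h = a := by
    intro a ha
    rw [← hZH] at ha
    exact mem_sup_of_normal_left.1 ha
  have hKH : ∀ k ∈ K, ((k, 1) : G × X) ∈ H := by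
    have : K ≤ H.comap (MonoidHom.inl G X) := by
      refine hK.trans ((closure_le _).2 ?_)
      rintro k ⟨hkK, hk⟩
      have hkE : ((k, 1) : G × X) ∈ E := by
        rw [hE]
        simp only [map_one]
        exact (QuotientGroup.eq_one_iff k).2 hkK
      obtain ⟨z, hz, h, hh, hzh⟩ := hdec _ hkE
      rw [hZmem] at hz
      have h1 : h.1 = k := by
        have := congrArg Prod.fst hzh
        simpa [hz.1] using this
      have h2 : ρ h.2 = 1 := by
        have := congrArg (fun a => ρ a.2) hzh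
        simpa [hz.2] using this
      have h3 : h ^ orderOf k ∈ H ⊓ Z := by
        refine mem_inf.2 ⟨pow_mem hh _, ?_⟩
        rw [hZmem]
        refine ⟨?_, ?_⟩
        · rw [Prod.pow_fst, h1, pow_orderOf_eq_one]
        · rw [Prod.pow_snd, map_pow, h2, one_pow]
      rw [hHZ, mem_bot] at h3
      have h4 : h.2 ^ orderOf k = 1 := by
        have := congrArg Prod.snd h3
        simpa using this
      obtain ⟨j, hj⟩ := hX h.2
      have h5 : orderOf h.2 = 1 :=
        Nat.eq_one_of_dvd_coprimes (hk.pow_right j) (orderOf_dvd_of_pow_eq_one h4)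
          (orderOf_dvd_of_pow_eq_one hj)
      rw [orderOf_eq_one_iff] at h5
      have h6 : h = (k, 1) := Prod.ext h1 h5
      rw [SetLike.mem_coe, mem_comap, MonoidHom.inl_apply, ← h6]
      exact hh
    intro k hk
    exact this hk
  refine ⟨H.map (MonoidHom.snd G X), ?_, ?_⟩
  · rw [eq_bot_iff]
    intro y hy0
    obtain ⟨⟨h, hh, rfl⟩, hy⟩ := mem_inf.1 hy0
    have hy' : ρ h.2 = 1 := hy
    have h1 : (h.1 : G ⧸ K) = ρ h.2 := hHE hh
    rw [hy'] at h1
    have h2 : h.1 ∈ K := (QuotientGroup.eq_one_iff _).1 h1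
    have h3 : ((h.1, 1) : G × X)⁻¹ * h ∈ H ⊓ Z := by
      refine mem_inf.2 ⟨mul_mem (inv_mem (hKH _ h2)) hh, ?_⟩
      rw [hZmem]
      simp [hy']
    rw [hHZ, mem_bot] at h3
    have := congrArg Prod.snd h3
    rw [mem_bot]
    simpa using this
  · rw [eq_top_iff]
    intro y _
    obtain ⟨x, rfl⟩ := hθ y
    obtain ⟨z, hz, h, hh, hzh⟩ := hdec _ (hAE ⟨x, rfl⟩)
    have h1 : θ x = z.2 * h.2 := (congrArg Prod.snd hzh).symm
    rw [h1, sup_comm]
    exact mul_mem_sup ((hZmem z).1 hz).2 ⟨h, hh, rfl⟩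

/-- Tate's splitting: if `K` is a normal subgroup generated by `p'`-elements and `P₁ ⊴ P` lies in
`P ∩ K` with `(P ∩ K)/P₁` abelian, then `(P ∩ K)/P₁` has a complement in `P/P₁`. -/
theorem tate_concrete {G : Type*} [Group G] [Finite G] {p : ℕ} [Fact p.Prime] (P : Sylow p G)
    (K : Subgroup G) [K.Normal]
    (hK : K ≤ closure {g : G | g ∈ K ∧ (orderOf g).Coprime p})
    (P₁ : Subgroup G) (h1 : P₁ ≤ (P : Subgroup G) ⊓ K)
    (hn : (P : Subgroup G) ≤ normalizer (P₁ : Set G))
    (hc : ⁅(P : Subgroup G) ⊓ K, (P : Subgroup G) ⊓ K⁆ ≤ P₁) :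
    ∃ T : Subgroup G, P₁ ≤ T ∧ T ≤ P ∧ T ⊓ K = P₁ ∧ T ⊔ ((P : Subgroup G) ⊓ K) = P := by
  have hP₁P : P₁ ≤ (P : Subgroup G) := h1.trans inf_le_left
  have hP₁K : P₁ ≤ K := h1.trans inf_le_right
  have hnorm : (P₁.subgroupOf (P : Subgroup G)).Normal :=
    (normal_subgroupOf_iff_le_normalizer hP₁P).2 hn
  let θ : (P : Subgroup G) →* (P : Subgroup G) ⧸ P₁.subgroupOf (P : Subgroup G) :=
    QuotientGroup.mk' _
  have hθ : Function.Surjective θ := QuotientGroup.mk'_surjective _
  have hθ1 : ∀ x : (P : Subgroup G), θ x = 1 ↔ (x : G) ∈ P₁ := by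
    intro x
    exact QuotientGroup.eq_one_iff x
  let ρ : (P : Subgroup G) ⧸ P₁.subgroupOf (P : Subgroup G) →* G ⧸ K :=
    QuotientGroup.lift _ ((QuotientGroup.mk' K).comp (P : Subgroup G).subtype) (by
      intro x hx
      exact (QuotientGroup.eq_one_iff (x : G)).2 (hP₁K hx))
  have hρ : ∀ x : P, ρ (θ x) = ((x : G) : G ⧸ K) := fun x => rfl
  have hρ1 : ∀ x : (P : Subgroup G), ρ (θ x) = 1 ↔ (x : G) ∈ K := by
    intro x
    exact QuotientGroup.eq_one_iff (x : G)
  obtain ⟨T, hT1, hT2⟩ := tate_abstract P K hK (P.2.to_quotient _) θ hθ ρ hρ (by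
    intro a ha b hb
    obtain ⟨x, rfl⟩ := hθ a
    obtain ⟨y, rfl⟩ := hθ b
    have hx : (x : G) ∈ K := (hρ1 x).1 ha
    have hy : (y : G) ∈ K := (hρ1 y).1 hb
    rw [← map_mul, ← map_mul]
    apply QuotientGroup.eq.2
    apply hc
    have := commutator_mem_commutator
      (mem_inf.2 ⟨inv_mem y.2, inv_mem hy⟩ : (y : G)⁻¹ ∈ (P : Subgroup G) ⊓ K)
      (mem_inf.2 ⟨inv_mem x.2, inv_mem hx⟩ : (x : G)⁻¹ ∈ (P : Subgroup G) ⊓ K)
    rw [commutatorElement_def] at this
    simpa [mul_assoc] using this)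
  have hle : P₁ ≤ (T.comap θ).map (P : Subgroup G).subtype := by
    intro x hx
    refine ⟨⟨x, hP₁P hx⟩, ?_, rfl⟩
    rw [SetLike.mem_coe, mem_comap, (hθ1 _).2 hx]
    exact one_mem _
  refine ⟨(T.comap θ).map (P : Subgroup G).subtype, hle, map_subtype_le _, ?_, ?_⟩
  · apply le_antisymm
    · intro x hx
      obtain ⟨⟨x', hx', rfl⟩, hxK⟩ := mem_inf.1 hx
      have h2 : θ x' ∈ T ⊓ ρ.ker := mem_inf.2 ⟨hx', (hρ1 x').2 hxK⟩
      rw [hT1, mem_bot] at h2
      exact (hθ1 x').1 h2
    · exact le_inf hle hP₁K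
  · apply le_antisymm
    · exact sup_le (map_subtype_le _) inf_le_left
    · intro x hx
      have h2 : θ ⟨x, hx⟩ ∈ T ⊔ ρ.ker := by rw [hT2]; exact mem_top _
      obtain ⟨t, ht, z, hz, htz⟩ := mem_sup_of_normal_right.1 h2
      obtain ⟨z', rfl⟩ := hθ z
      have hz' : (z' : G) ∈ K := (hρ1 z').1 hz
      have e : x = (x * (z' : G)⁻¹) * z' := by group
      rw [e]
      apply mul_mem_sup
      · refine ⟨⟨x, hx⟩ * z'⁻¹, ?_, rfl⟩
        rw [SetLike.mem_coe, mem_comap, map_mul, map_inv, ← htz, mul_inv_cancel_right]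
        exact ht
      · exact mem_inf.2 ⟨z'.2, hz'⟩

theorem normalizer_inf_le_normalizer_commutator {G : Type*} [Group G] (A B : Subgroup G) :
    normalizer (A : Set G) ⊓ normalizer (B : Set G) ≤ normalizer ((⁅A, B⁆ : Subgroup G) : Set G) := by
  intro g hg
  obtain ⟨hA, hB⟩ := mem_inf.1 hg
  rw [mem_normalizer_iff_map_conj_eq] at hA hB ⊢
  rw [map_commutator, hA, hB]

theorem commutator_self_le {G : Type*} [Group G] (A : Subgroup G) : ⁅A, A⁆ ≤ A :=
  le_normalizer_iff_commutator_le_right.1 le_normalizer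

/-- Tate: a normal subgroup generated by `p'`-elements which meets a Sylow `p`-subgroup `P` inside
`Φ(P)` is a `p'`-group. -/
theorem tate_frattini {G : Type*} [Group G] [Finite G] {p : ℕ} [Fact p.Prime] (P : Sylow p G)
    (K : Subgroup G) [K.Normal]
    (hK : K ≤ closure {g : G | g ∈ K ∧ (orderOf g).Coprime p})
    (h : (P : Subgroup G) ⊓ K ≤ (frattini P).map (P : Subgroup G).subtype) :
    (P : Subgroup G) ⊓ K = ⊥ := by
  set D : Subgroup G := (P : Subgroup G) ⊓ K with hD
  have hPD : (P : Subgroup G) ≤ normalizer (D : Set G) :=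
    (le_inf le_normalizer le_normalizer_of_normal).trans inf_normalizer_le_normalizer_inf
  obtain ⟨T, hT1, hT2, hT3, hT4⟩ := tate_concrete P K hK ⁅D, D⁆ (commutator_self_le D)
    ((le_inf hPD hPD).trans (normalizer_inf_le_normalizer_commutator D D)) le_rfl
  have hTP : T = P := by
    have h1 : T.subgroupOf (P : Subgroup G) ⊔ frattini P = ⊤ := by
      rw [eq_top_iff]
      intro x _
      have hx : (x : G) ∈ T ⊔ D := by rw [hT4]; exact x.2
      have h2 : T ⊔ D ≤ (T.subgroupOf (P : Subgroup G) ⊔ frattini P).map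
          (P : Subgroup G).subtype := by
        rw [Subgroup.map_sup, subgroupOf_map_subtype, inf_of_le_left hT2]
        exact sup_le_sup_left h _
      obtain ⟨y, hy, hyx⟩ := h2 hx
      have : y = x := Subtype.ext hyx
      rw [← this]; exact hy
    have h2 := frattini_nongenerating h1
    rw [subgroupOf_eq_top] at h2
    exact le_antisymm hT2 h2
  rw [hTP] at hT3
  by_contra hne
  have hsol : Group.IsSolvable D := by
    have : Group.IsNilpotent D := (P.2.to_le (inf_le_left : D ≤ P)).isNilpotent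
    infer_instance
  have h3 : commutator D < ⊤ := by
    have : Nontrivial D := (nontrivial_iff_ne_bot D).2 hne
    exact Group.IsSolvable.commutator_lt_top_of_nontrivial D
  apply h3.ne
  have h4 : (commutator D).map D.subtype = D := by
    rw [map_subtype_commutator]
    exact hT3.symm
  apply map_injective D.subtype_injective
  rw [h4, ← MonoidHom.range_eq_map, range_subtype]

open Cfsg.Agent.Lib.Helper2Residual Cfsg.Agent.Lib.Helper2Sylow in
/-- If `O^p(G)` has order prime to `p`, it is a normal `p`-complement. -/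
theorem hasNormalPComplement_of_coprime_pResidual {G : Type*} [Group G] [Finite G] {p : ℕ}
    [Fact p.Prime] (h : (Nat.card (Cfsg.pResidual p G)).Coprime p) :
    Cfsg.HasNormalPComplement p G := by
  have P : Sylow p G := default
  have hn := pResidual_normal (G := G) p
  refine ⟨P, Cfsg.pResidual p G, hn, ?_⟩
  apply isComplement'_of_disjoint_and_mul_eq_univ
  · apply disjoint_of_coprime_natCard
    obtain ⟨k, hk⟩ := P.2.exists_card_eq
    have hk' : Nat.card (P : Subgroup G) = p ^ k := hk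
    rw [hk']
    exact h.pow_right k
  · rw [← normal_mul, sup_comm, sylow_sup_pResidual_eq_top P]
    rfl

/-- A normal subgroup meeting a Sylow `p`-subgroup trivially has order prime to `p`. -/
theorem coprime_card_of_sylow_inf_eq_bot {G : Type*} [Group G] [Finite G] {p : ℕ}
    [Fact p.Prime] (P : Sylow p G) (K : Subgroup G) [hKn : K.Normal]
    (h : (P : Subgroup G) ⊓ K = ⊥) : (Nat.card K).Coprime p := by
  have hp : p.Prime := Fact.out
  rw [Nat.coprime_comm, Nat.Prime.coprime_iff_not_dvd hp]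
  intro hdvd
  obtain ⟨x, hx⟩ := exists_prime_orderOf_dvd_card' p hdvd
  have hx' : orderOf (x : G) = p := by rw [Subgroup.orderOf_coe]; exact hx
  have hpg : IsPGroup p (zpowers (x : G)) := by
    apply IsPGroup.of_card (n := 1)
    rw [Nat.card_zpowers, hx', pow_one]
  obtain ⟨g, -, hg⟩ := Cfsg.Agent.Lib.Helper2Sylow.exists_conj_le_of_le (S := P) (N := ⊤) le_top
    hpg le_top
  have h1 : g * x * g⁻¹ ∈ (P : Subgroup G) ⊓ K :=
    mem_inf.2 ⟨hg _ (mem_zpowers _), hKn.conj_mem _ x.2 g⟩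
  rw [h, mem_bot] at h1
  have h2 : (x : G) = 1 := by
    have := congrArg (fun y => g⁻¹ * y * g) h1
    simpa [mul_assoc] using this
  rw [h2, orderOf_one] at hx'
  exact hp.one_lt.ne hx'

section Residual

variable {G : Type*} [Group G] (p : ℕ)

/-- `O^p(V)` seen in the ambient group. -/
theorem map_pResidual (V : Subgroup G) : (Cfsg.pResidual p V).map V.subtype
    = closure {g : G | g ∈ V ∧ (orderOf g).Coprime p} := by
  unfold Cfsg.pResidual
  rw [MonoidHom.map_closure]
  congr 1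
  ext g
  constructor
  · rintro ⟨x, hx, rfl⟩
    refine ⟨x.2, ?_⟩
    have : (orderOf x).Coprime p := hx
    rwa [← Subgroup.orderOf_coe] at this
  · rintro ⟨hg, hc⟩
    refine ⟨⟨g, hg⟩, ?_, rfl⟩
    have : (orderOf (⟨g, hg⟩ : V)).Coprime p := by
      rw [← Subgroup.orderOf_coe]; exact hc
    exact this

theorem closure_coprime_le (V : Subgroup G) :
    closure {g : G | g ∈ V ∧ (orderOf g).Coprime p} ≤ V :=
  (closure_le _).2 (fun _ hg => hg.1)

theorem closure_coprime_gen (V : Subgroup G) :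
    closure {g : G | g ∈ V ∧ (orderOf g).Coprime p} ≤
      closure {g : G | g ∈ closure {g : G | g ∈ V ∧ (orderOf g).Coprime p} ∧
        (orderOf g).Coprime p} :=
  closure_mono (fun _ hg => ⟨subset_closure hg, hg.2⟩)

theorem normalizer_le_normalizer_closure_coprime (V : Subgroup G) :
    normalizer (V : Set G) ≤
      normalizer ((closure {g : G | g ∈ V ∧ (orderOf g).Coprime p} : Subgroup G) : Set G) := by
  refine le_trans ?_ (normalizer_le_normalizer_closure _)
  intro g hg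
  rw [mem_set_normalizer_iff]
  intro x
  have h1 : orderOf (g * x * g⁻¹) = orderOf x := by
    have := (MulAut.conj g).orderOf_eq x
    simpa using this
  have h2 : x ∈ V ↔ g * x * g⁻¹ ∈ V := (mem_normalizer_iff.1 hg) x
  simp only [Set.mem_ofPred_eq]
  rw [h1, h2]

theorem normal_closure_coprime (N : Subgroup G) [hN : N.Normal] :
    (closure {g : G | g ∈ N ∧ (orderOf g).Coprime p}).Normal := by
  rw [← normalizer_eq_top_iff, eq_top_iff]
  refine le_trans ?_ (normalizer_le_normalizer_closure_coprime p N)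
  rw [normalizer_eq_top_iff.2 hN]

end Residual

end Cfsg.Agent.Lib.Helper2Tate
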