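import Mathlib
import Cfsg.Agent.Lib.Helper31BG21Defs
import Cfsg.Agent.Lib.Helper31BGW
import Cfsg.Agent.Lib.Helper2Tate
import Cfsg.Agent.Lib.Helper3PGroup
import Cfsg.Agent.Lib.Helper72BG21expo
import Cfsg.Agent.S1418
import Cfsg.Agent.S1419
import Cfsg.Agent.S1420

/-!
PROJECT 21, piece `nonabB` (helper11).
-/

set_option autoImplicit false

namespace Cfsg.Agent.Lib.Helper11BG21nonabB

open Cfsg Subgroup
open scoped commutatorElement
open Cfsg.Agent.Lib.Helper30Trans Cfsg.Agent.Lib.Helper24BG Cfsg.Agent.Lib.Helper31BG21Defs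

variable {G : Type*} [Group G] [Finite G]

/-- a subgroup of order `p` of an abelian `p`-group none of whose generators is a `p`-th power has a
complement -/
theorem exists_compl_of_not_pow {p : ℕ} [hp : Fact p.Prime] {P A₀ : Subgroup G} (hP : IsPGroup p P)
    (hPc : ∀ a ∈ P, ∀ b ∈ P, a * b = b * a) (hA₀P : A₀ ≤ P) (hA₀ : Nat.card A₀ = p)
    (hpow : ∀ f ∈ P, f ^ p ∈ A₀ → f ^ p = 1) :
    ∃ H : Subgroup G, H ⊓ A₀ = ⊥ ∧ A₀ ⊔ H = P := by
  have hA₀1 : A₀ ≠ ⊥ := by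
    intro h
    rw [h, card_bot] at hA₀
    exact hp.out.one_lt.ne hA₀
  obtain ⟨a, ha, ha1⟩ := exists_ne_one_of_ne_bot' hA₀1
  have hA₀a : A₀ = zpowers a := Cfsg.Agent.Lib.Helper31BGV.eq_zpowers_of_card_prime hA₀ ha ha1
  -- the subgroup of `p`-th powers
  let N : Subgroup P :=
    { carrier := {s | ∃ f : P, s = f ^ p}
      one_mem' := ⟨1, by simp⟩
      mul_mem' := by
        rintro _ _ ⟨f, rfl⟩ ⟨g, rfl⟩
        refine ⟨f * g, ?_⟩
        rw [(show Commute f g from Subtype.ext (hPc f f.2 g g.2)).mul_pow]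
      inv_mem' := by
        rintro _ ⟨f, rfl⟩
        exact ⟨f⁻¹, by rw [inv_pow]⟩ }
  have hfr : frattini P ≤ N := by
    apply Cfsg.Agent.Lib.Helper3PGroup.frattini_le_of_elementary (p := p) N
    · rw [commutator_def, Subgroup.commutator_le]
      intro x _ y _
      have : ⁅x, y⁆ = 1 := by
        rw [commutatorElement_eq_one_iff_mul_comm]
        exact Subtype.ext (hPc x x.2 y y.2)
      rw [this]; exact N.one_mem
    · intro x; exact ⟨x, rfl⟩
  have haN : (⟨a, hA₀P ha⟩ : P) ∉ N := by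
    rintro ⟨f, hf⟩
    have hf' : a = (f : G) ^ p := congrArg Subtype.val hf
    exact ha1 (hf' ▸ hpow f f.2 (hf' ▸ ha))
  have haF : (⟨a, hA₀P ha⟩ : P) ∉ frattini P := fun h => haN (hfr h)
  obtain ⟨H', hH', haH'⟩ : ∃ H' : Subgroup P, IsCoatom H' ∧ (⟨a, hA₀P ha⟩ : P) ∉ H' := by
    by_contra hcon
    push Not at hcon
    apply haF
    rw [frattini, Order.radical, Subgroup.mem_iInf]
    intro H'
    rw [Subgroup.mem_iInf]
    intro hH'
    exact hcon H' hH'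
  refine ⟨H'.map P.subtype, ?_, ?_⟩
  · rw [eq_bot_iff]
    intro x hx
    rw [mem_bot]
    by_contra hx1
    have h1 : A₀ = zpowers x := Cfsg.Agent.Lib.Helper31BGV.eq_zpowers_of_card_prime hA₀ hx.2 hx1
    have h2 : a ∈ H'.map P.subtype := by
      have : A₀ ≤ H'.map P.subtype := h1 ▸ zpowers_le.mpr hx.1
      exact this ha
    obtain ⟨y, hy, hya⟩ := h2
    have : y = ⟨a, hA₀P ha⟩ := Subtype.ext hya
    exact haH' (this ▸ hy)
  · have h1 : H' ⊔ zpowers (⟨a, hA₀P ha⟩ : P) = ⊤ := by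
      apply hH'.2
      refine lt_of_le_of_ne le_sup_left ?_
      intro h
      exact haH' (h ▸ (le_sup_right : zpowers (⟨a, hA₀P ha⟩ : P) ≤ _) (mem_zpowers _))
    have h2 := congrArg (Subgroup.map P.subtype) h1
    rw [Subgroup.map_sup, ← MonoidHom.range_eq_map, P.range_subtype, MonoidHom.map_zpowers] at h2
    rw [sup_comm, hA₀a]
    exact h2

theorem pow_mul_mem {A₀ : Subgroup G} {a e : G} (ha : a ∈ A₀) (he : e ∈ normalizer (A₀ : Set G)) (n : ℕ) :
    ∃ c ∈ A₀, (a * e) ^ n = c * e ^ n := by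
  induction n with
  | zero => exact ⟨1, A₀.one_mem, by simp⟩
  | succ n ih =>
    obtain ⟨c, hc, hn⟩ := ih
    have hen : e ^ n ∈ normalizer (A₀ : Set G) := pow_mem he n
    refine ⟨c * (e ^ n * a * (e ^ n)⁻¹), A₀.mul_mem hc ((mem_normalizer_iff.mp hen a).mp ha), ?_⟩
    rw [pow_succ, hn, pow_succ]; group

theorem nonab_compl (hG : IsMinSimpleOddOrder G) {M E : Subgroup G} (hM : IsCoatom M)
    (hE : IsComplIn E (sigmaCore M) M) {p : ℕ} [Fact p.Prime] (hp : p ∈ tau2 M)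
    (hS : ∀ S : Sylow p G, ¬ IsMulCommutative (S : Subgroup G)) {A : Subgroup G} (hAE : A ≤ E)
    (hAe : IsElementaryAbelian p A) (hA2 : Nat.card A = p ^ 2) :
    ∃ E₀ : Subgroup G, E₀ ≤ E ∧ E₀ ⊓ (A ⊓ centralizer (sigmaCore M : Set G)) = ⊥ ∧
      Monoid.exponent E₀ = Monoid.exponent E := by
  have hpP : p.Prime := Fact.out
  have hEM : E ≤ M := hE.1
  have h18 := Cfsg.Agent.S1418.result hG M hM E hE p hp A ⟨hAE, hAe, hA2⟩
  have h19 := Cfsg.Agent.S1419.result hG M hM E hE p hp hS A ⟨hAE, hAe, hA2⟩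
  have hEN : E ≤ normalizer (A : Set G) := h18.1.1
  have hMn := Cfsg.Agent.Lib.Helper2BGb.le_normalizer_sigmaCore M
  set A₀ := A ⊓ centralizer (sigmaCore M : Set G) with hA₀
  have hA₀c : Nat.card A₀ = p := h19.2.1.1
  have hA₀A : A₀ ≤ A := inf_le_left
  have hEA₀ : E ≤ normalizer (A₀ : Set G) :=
    Cfsg.Agent.S1419.le_normalizer_inf_centralizer' hEN (hEM.trans hMn)
  have hAp : IsPGroup p A := isPGroup_of_elemAb hAe
  have hab : ∀ R : Subgroup G, IsPGroup p R → R ≤ M → ∀ a ∈ R, ∀ b ∈ R, a * b = b * a := by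
    intro R hR hRM a ha b hb
    have := Cfsg.Agent.S1420.comm_of_pgroup hG hM hp.2.1 hR hRM
    exact congrArg Subtype.val (this.is_comm.comm ⟨a, ha⟩ ⟨b, hb⟩)
  obtain ⟨P, hP, hAP⟩ := exists_isSyl_ge (p := p) hAE hAp
  have hPc := hab P hP.2.1 (hP.1.trans hEM)
  have hMs1 := Cfsg.Agent.Lib.Helper3BGNotuniq.sigmaCore_ne_bot hG hM
  -- `p`-th powers
  have hpow : ∀ f ∈ P, f ^ p ∈ A₀ → f ^ p = 1 := by
    intro f hf hfA
    by_contra hf1
    obtain ⟨S, hSyl, hPS⟩ := exists_isSyl_ge (p := p) (le_top : P ≤ ⊤) hP.2.1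
    have hfC : f ∈ centralizer (A : Set G) := by
      rw [mem_centralizer_iff]
      intro a ha
      exact hPc a (hAP ha) f hf
    have hfpp : (f ^ p) ^ p = 1 := hAe.2 _ (hA₀A hfA)
    have h1 := Cfsg.Agent.Lib.Helper31BGW.pow_mem_centralizer hG
      (Cfsg.Agent.S1419.maxSq_of_tau2 hG hM hp (hAE.trans hEM) hAe hA2) hSyl (hAP.trans hPS) (hPS hf)
      hfC hfpp
    have hA₀f : A₀ = zpowers (f ^ p) :=
      Cfsg.Agent.Lib.Helper31BGV.eq_zpowers_of_card_prime hA₀c hfA hf1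
    have hSC : S ≤ centralizer (A₀ : Set G) := by
      intro s hs
      rw [mem_centralizer_iff]
      intro z hz
      rw [hA₀f] at hz
      obtain ⟨i, rfl⟩ := mem_zpowers_iff.mp hz
      have : Commute (f ^ p) s := (mem_centralizer_iff.mp h1 s hs).symm
      exact this.zpow_left i
    have hne : sigmaCore M ⊓ centralizer (A₀ : Set G) ≠ ⊥ := by
      have : sigmaCore M ≤ centralizer (A₀ : Set G) := le_centralizer_iff.mp inf_le_right
      rw [inf_eq_left.mpr this]; exact hMs1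
    have hCM := (h18.2.2 A₀ hA₀A hA₀c hne).1
    have := Cfsg.Agent.S1420.comm_of_pgroup hG hM hp.2.1 hSyl.2.1 (hSC.trans hCM)
    exact hS hSyl.toSylowTop this
  obtain ⟨H, hH1, hH2⟩ := exists_compl_of_not_pow hP.2.1 hPc (hA₀A.trans hAP) hA₀c hpow
  have hA₀ab : IsMulCommutative A₀ :=
    ⟨⟨fun a b => Subtype.ext (hPc a (hAP (hA₀A a.2)) b (hAP (hA₀A b.2)))⟩⟩
  obtain ⟨E₀, hE₀E, hE₀1, hE₀2⟩ := Cfsg.Agent.Lib.Helper2Tate.gaschutz_rel E A₀ P H (hA₀A.trans hAP) hP.1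
    hEA₀ hA₀ab (by
      rw [hA₀c]
      exact (Nat.Prime.coprime_iff_not_dvd hpP).mpr (Cfsg.Agent.Lib.Helper2BGa.IsSyl.not_dvd_relIndex hP))
    hH1 hH2
  refine ⟨E₀, hE₀E, hE₀1, ?_⟩
  have hA₀p : IsPGroup p A₀ := hAp.to_le hA₀A
  -- `E₀` has an element of order `p`
  have hcard : Nat.card E = p * Nat.card E₀ := by
    have h1 := Cfsg.Agent.Lib.Helper65RelHall.card_sup_mul_card_inf E₀ A₀ (hE₀E.trans hEA₀)
    rw [hE₀1, card_bot, mul_one, sup_comm, hE₀2, hA₀c, mul_comm] at h1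
    exact h1
  have hpE₀ : p ∣ Nat.card E₀ := by
    have h1 : p ^ 2 ∣ Nat.card E := hA2 ▸ card_dvd_of_le hAE
    rw [hcard, pow_two] at h1
    exact Nat.dvd_of_mul_dvd_mul_left hpP.pos h1
  obtain ⟨z₀, hz₀⟩ := exists_prime_orderOf_dvd_card' p hpE₀
  have hz₀' : orderOf (z₀ : G) = p := by rw [Subgroup.orderOf_coe]; exact hz₀
  apply Cfsg.Agent.Lib.Helper72BG21expo.exponent_eq hE₀E
  rintro r hr y hy ⟨k, hk⟩
  have hy' : y ∈ A₀ ⊔ E₀ := hE₀2 ▸ hy
  obtain ⟨a, ha, e, he, rfl⟩ := (Cfsg.Agent.Lib.Helper30SZ.mem_sup_iff (hE₀E.trans hEA₀)).mp hy'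
  by_cases hrp : r = p
  · subst hrp
    -- `A₀ ⊔ zpowers y` is an abelian `p`-group
    have hyp : IsPGroup r (zpowers (a * e)) := by
      apply IsPGroup.of_card (n := k)
      rw [Nat.card_zpowers, hk]
    have hyn : zpowers (a * e) ≤ normalizer (A₀ : Set G) := zpowers_le.mpr (hEA₀ hy)
    have hR : IsPGroup r ↥(A₀ ⊔ zpowers (a * e)) := IsPGroup.to_sup_of_normal_left' hA₀p hyp hyn
    have hRM : A₀ ⊔ zpowers (a * e) ≤ M :=
      sup_le ((hA₀A.trans hAE).trans hEM) (zpowers_le.mpr (hEM hy))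
    have hc := hab _ hR hRM a (le_sup_left (a := A₀) ha) (a * e)
      (le_sup_right (a := A₀) (mem_zpowers _))
    have hae : Commute a e := by
      have : a * (a * e) = a * (e * a) := by rw [hc]; group
      exact mul_left_cancel this
    have heR : e ∈ A₀ ⊔ zpowers (a * e) := by
      have := mul_mem (inv_mem (le_sup_left (a := A₀) (b := zpowers (a * e)) ha))
        (le_sup_right (a := A₀) (mem_zpowers (a * e)))
      simpa using this
    have har : a ^ r = 1 := hAe.2 a (hA₀A ha)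
    by_cases he1 : e = 1
    · refine ⟨z₀, z₀.2, ?_⟩
      rw [hz₀', he1, mul_one]
      exact orderOf_dvd_of_pow_eq_one har
    · refine ⟨e, he, ?_⟩
      apply orderOf_dvd_of_pow_eq_one
      rw [hae.mul_pow, pow_orderOf_eq_one, mul_one]
      obtain ⟨m, hm⟩ := hR ⟨e, heR⟩
      have hm' : e ^ r ^ m = 1 := congrArg Subtype.val hm
      obtain ⟨m', _, hm''⟩ := (Nat.dvd_prime_pow hpP).mp (orderOf_dvd_of_pow_eq_one hm')
      have hm0 : m' ≠ 0 := by
        rintro rfl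
        rw [pow_zero, orderOf_eq_one_iff] at hm''
        exact he1 hm''
      obtain ⟨m₁, rfl⟩ := Nat.exists_eq_succ_of_ne_zero hm0
      rw [hm'', Nat.succ_eq_add_one, pow_succ', pow_mul, har, one_pow]
  · refine ⟨e, he, ?_⟩
    apply orderOf_dvd_of_pow_eq_one
    obtain ⟨c, hc, hce⟩ := pow_mul_mem ha (hEA₀ (hE₀E he)) (orderOf e)
    rw [pow_orderOf_eq_one, mul_one] at hce
    rw [hce]
    -- `c` is both an `r`-element and a `p`-element
    have h1 : c ^ p = 1 := hAe.2 c (hA₀A hc)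
    have h2 : c ^ r ^ k = 1 := by
      rw [← hce, ← pow_mul, mul_comm, pow_mul, ← hk, pow_orderOf_eq_one, one_pow]
    have h3 : orderOf c ∣ Nat.gcd p (r ^ k) :=
      Nat.dvd_gcd (orderOf_dvd_of_pow_eq_one h1) (orderOf_dvd_of_pow_eq_one h2)
    have h4 : Nat.gcd p (r ^ k) = 1 :=
      Nat.Coprime.pow_right k ((Nat.coprime_primes hpP hr).mpr (Ne.symm hrp))
    rw [h4, Nat.dvd_one, orderOf_eq_one_iff] at h3
    exact h3

end Cfsg.Agent.Lib.Helper11BG21nonabB
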