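import Cfsg.Agent.Lib.Helper52BGPsi
import Cfsg.Agent.Lib.Helper27Bender3
import Cfsg.Agent.Lib.Helper3DerFit
import Cfsg.Agent.S1400
import Cfsg.Agent.S1401

/-!
Bender-Glauberman 9.6: assembly.  The three auxiliary pieces (transfer, a normal subgroup in the
centre of a Sylow subgroup, rank three actions) enter as hypotheses `HP1`, `HP2`, `HP3`.
-/

set_option autoImplicit false
set_option linter.unusedSectionVars false
open Cfsg

namespace Cfsg.Agent.Lib.Helper52BGMain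

open Subgroup
open Cfsg.Agent.Lib.Helper30Trans
open Cfsg.Agent.Lib.Helper30Over
open Cfsg.Agent.Lib.Helper24BG
open Cfsg.Agent.Lib.Helper30Bender
open Cfsg.Agent.Lib.Helper52BGDefs
open Cfsg.Agent.Lib.Helper52BGPsi

universe u
variable {G : Type u} [Group G]

/-- piece P1 (transfer) -/
def HP1 (G : Type u) [Group G] : Prop :=
  ∀ (p : ℕ) [Fact p.Prime] (P : Sylow p G) (A X : Subgroup G), IsSCN (P : Subgroup G) A → X ≠ ⊤ →
    (P : Subgroup G) ≤ X →
    (∀ R : Subgroup G, IsPGroup p R → A ≤ R → normalizer (R : Set G) ≤ X) →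
    (P : Subgroup G) ≤ ⁅X, X⁆

/-- piece P2 (a normal subgroup inside the centre of a Sylow subgroup) -/
def HP2 (G : Type u) [Group G] : Prop :=
  ∀ (p : ℕ) [Fact p.Prime], p ≠ 2 → ∀ (X P V : Subgroup G), Group.IsSolvable X →
    Odd (Nat.card X) → IsPGroup p P → P ≤ X → V ≤ P → V ≠ ⊥ → X ≤ normalizer (V : Set G) →
    PRankLE p 2 V →
    ∃ Y : Subgroup G, Y ≠ ⊥ ∧ Y ≤ V ∧ X ≤ normalizer (Y : Set G) ∧ Y ≤ centralizer (P : Set G)

/-- piece P3 (rank three action on a group of rank three) -/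
def HP3 (G : Type u) [Group G] : Prop :=
  ∀ (p : ℕ) [Fact p.Prime] (s : ℕ) [Fact s.Prime], s ≠ 2 → s ≠ p → ∀ (S E : Subgroup G),
    IsPGroup s S → ¬ PRankLE s 2 S → IsElementaryAbelian p E → p ^ 3 ≤ Nat.card E →
    E ≤ normalizer (S : Set G) →
    ∃ e ∈ E, e ≠ 1 ∧ ∃ B : Subgroup G, B ≤ S ⊓ centralizer ({e} : Set G) ∧
      IsElementaryAbelian s B ∧ Nat.card B = s ^ 2 ∧
      ¬ PRankLE s 2 ↥(S ⊓ centralizer (B : Set G) : Subgroup G)

variable [Finite G] {p : ℕ} [Fact p.Prime]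

/-- the standing facts about `A ∈ SCN_3(P)` -/
structure Basic (p : ℕ) [Fact p.Prime] (P : Sylow p G) (A : Subgroup G) : Prop where
  scn : IsSCN (P : Subgroup G) A
  r3 : ¬ PRankLE p 2 A
  pg : IsPGroup p A
  comm : IsMulCommutative A
  ne_bot : A ≠ ⊥
  dvd : p ∣ Nat.card A
  th : TransitivityHypothesis A
  ndvd : ∀ q : ℕ, q.Prime → q ≠ p → ¬ q ∣ Nat.card A
  tr : ∀ q : ℕ, q.Prime → q ≠ p → ∀ Q₁ ∈ maxInvSubgroups ⊤ A {q}, ∀ Q₂ ∈ maxInvSubgroups ⊤ A {q},
    ∃ k ∈ Kc A, Q₂ = cj k Q₁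
  p2 : p ≠ 2

theorem basic (hG : IsMinSimpleOddOrder G) (P : Sylow p G) {A : Subgroup G}
    (hA : IsSCN (P : Subgroup G) A) (hA3 : ¬ PRankLE p 2 A) : Basic p P A := by
  have hpp : p.Prime := Fact.out
  have hAp : IsPGroup p A := P.2.to_le hA.1
  have hAc : IsMulCommutative A := scn_comm hA
  have hA1 : A ≠ ⊥ := by
    rintro rfl
    apply hA3
    intro B _ _
    have : Nat.card B = 1 := Nat.card_eq_one_iff_unique.mpr ⟨inferInstance, ⟨1⟩⟩
    rw [this]
    exact Nat.one_le_pow _ _ hpp.pos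
  obtain ⟨k, hk⟩ := IsPGroup.iff_card.mp hAp
  have hk0 : k ≠ 0 := by
    rintro rfl
    exact hA1 (card_eq_one.mp (by simpa using hk))
  have hpA : p ∣ Nat.card A := hk ▸ dvd_pow_self p hk0
  have hpG : p ∣ Nat.card G := hpA.trans (card_subgroup_dvd_card A)
  have hTH : TransitivityHypothesis A := Cfsg.Agent.S1396.result hG p hpG A hAp hAc
    (Or.inr ⟨P, hA, fun h => hA3 (rank_mono hpp.pos h (by norm_num))⟩)
  have hAA : A ⊓ centralizer (A : Set G) = A := by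
    rw [inf_eq_left]
    intro a ha
    rw [mem_centralizer_iff]
    intro b hb
    exact congrArg Subtype.val (hAc.is_comm.comm ⟨b, hb⟩ ⟨a, ha⟩)
  have hZ : ¬ RankLE 2 ↥(A ⊓ centralizer (A : Set G)) := by
    rw [hAA]
    exact fun h => hA3 (h p hpp)
  have hnd : ∀ q : ℕ, q.Prime → q ≠ p → ¬ q ∣ Nat.card A := by
    intro q hq hqp h
    rw [hk] at h
    exact hqp ((Nat.prime_dvd_prime_iff_eq hq hpp).mp (hq.dvd_of_dvd_pow h))
  exact ⟨hA, hA3, hAp, hAc, hA1, hpA, hTH, hnd,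
    fun q hq hqp => Cfsg.Agent.S1393.result hG A hTH hZ q hq (hnd q hq hqp), ne_two hG hAp hA1⟩

theorem Basic.le_centralizer {P : Sylow p G} {A : Subgroup G} (hB : Basic p P A) :
    A ≤ centralizer (A : Set G) := by
  intro a ha
  rw [mem_centralizer_iff]
  intro b hb
  exact congrArg Subtype.val (hB.comm.is_comm.comm ⟨b, hb⟩ ⟨a, ha⟩)

theorem Basic.Kc_le {P : Sylow p G} {A : Subgroup G} (_hB : Basic p P A) :
    Kc A ≤ centralizer (A : Set G) := piCoreOf_le _ _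

/-- B-G 7.5 (S1395) for a `p`-subgroup containing `A` -/
theorem Basic.s1395 (hG : IsMinSimpleOddOrder G) {P : Sylow p G} {A : Subgroup G}
    (hB : Basic p P A) {q : ℕ} (hq : q.Prime) (hqp : q ≠ p) {R : Subgroup G} (hR : IsPGroup p R)
    (hAR : A ≤ R) :
    piCoreOf (primesNotDvd (Nat.card A)) (centralizer (R : Set G)) ≤ Kc A ∧
    maxInvSubgroups ⊤ R {q} ⊆ maxInvSubgroups ⊤ A {q} ∧
    ∀ Q ∈ maxInvSubgroups ⊤ R {q},
      R ⊓ ⁅normalizer (R : Set G), normalizer (R : Set G)⁆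
        ≤ ⁅normalizer (Q : Set G), normalizer (Q : Set G)⁆ ∧
      normalizer (R : Set G) = piCoreOf (primesNotDvd (Nat.card A)) (centralizer (R : Set G)) ⊔
        (normalizer (R : Set G) ⊓ normalizer (Q : Set G)) := by
  have hpp : p.Prime := Fact.out
  have hRπ : ∀ r : ℕ, r.Prime → r ∣ Nat.card R → r ∣ Nat.card A := by
    intro r hr hd
    obtain ⟨m, hm⟩ := IsPGroup.iff_card.mp hR
    rw [hm] at hd
    rw [(Nat.prime_dvd_prime_iff_eq hr hpp).mp (hr.dvd_of_dvd_pow hd)]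
    exact hB.dvd
  have hsn : (A.subgroupOf R).IsSubnormal := by
    have := hR.isNilpotent
    exact Cfsg.Agent.Lib.Helper27Bender3.isSubnormal_of_isNilpotent _
  have h := Cfsg.Agent.S1395.result hG A hB.th q hq (hB.ndvd q hq hqp) R (pgroup_ne_top hG hR) hRπ hAR
    hsn (hB.tr q hq hqp)
  exact ⟨h.1 ▸ inf_le_left, h.2.2.1, h.2.2.2⟩

/-- if `A ∉ U` then `O_p(M)` has rank at most two for every maximal subgroup `M` -/
theorem Basic.rank_fit (hG : IsMinSimpleOddOrder G) {P : Sylow p G} {A : Subgroup G}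
    (hB : Basic p P A) (hnU : ¬ InUniqueMaximal A) {M : Subgroup G} (hM : IsCoatom M) :
    PRankLE p 2 (fittingOf M) := by
  by_contra h
  exact hnU (Cfsg.Agent.S1401.result hG M hM p h A hB.pg hB.comm hB.r3)

theorem not_cyclic_of_elemAb {s : ℕ} (hs : s.Prime) {B : Subgroup G} (hB : IsElementaryAbelian s B)
    (hc : Nat.card B = s ^ 2) : ¬ IsCyclic B := by
  intro h
  have h1 := card_le_of_cyclic_exp hs.pos (X := B) (fun x => Subtype.ext (hB.2 x x.2))
  rw [hc] at h1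
  nlinarith [hs.two_le]

/-- every `s`-subgroup of rank at least three is a uniqueness subgroup as soon as some `F(M)` has
`s`-rank at least three -/
theorem uniq_of_rank {s : ℕ} [Fact s.Prime] (hG : IsMinSimpleOddOrder G) {M S S₀ : Subgroup G}
    (hM : IsCoatom M) (hSM : S ≤ M) (hSp : IsPGroup s S) (hMS : M ≤ normalizer (S : Set G))
    (hS3 : ¬ PRankLE s 2 S) (hS₀ : IsPGroup s S₀) (h3 : ¬ PRankLE s 2 S₀) : InUniqueMaximal S₀ := by
  have hF : ¬ PRankLE s 2 (fittingOf M) := fun h =>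
    hS3 (rank_le_of_le (le_fittingOf hSM hMS hSp.isNilpotent) h)
  obtain ⟨B, hBS, hB, hc⟩ := exists_elemAb h3
  have hBU := Cfsg.Agent.S1401.result hG M hM s hF B (isPGroup_of_elemAb hB) hB.1
    (not_rank_of_elemAb le_rfl hB hc)
  exact uniq_mono hBU hBS (pgroup_ne_top hG hS₀)

/-- (F5) -/
theorem exists_centralizer_le (hG : IsMinSimpleOddOrder G) (h3 : HP3 G) {s : ℕ} [Fact s.Prime]
    (hsp : s ≠ p) {M S E : Subgroup G} (hM : IsCoatom M) (hEM : E ≤ M)
    (hE : IsElementaryAbelian p E) (hE3 : p ^ 3 ≤ Nat.card E) (hSM : S ≤ M) (hSp : IsPGroup s S)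
    (hMS : M ≤ normalizer (S : Set G)) (hS3 : ¬ PRankLE s 2 S) :
    ∃ e ∈ E, e ≠ 1 ∧ centralizer ({e} : Set G) ≤ M := by
  have hs : s.Prime := Fact.out
  have hS1 : S ≠ ⊥ := by
    rintro rfl
    apply hS3
    intro B _ _
    have : Nat.card B = 1 := Nat.card_eq_one_iff_unique.mpr ⟨inferInstance, ⟨1⟩⟩
    rw [this]
    exact Nat.one_le_pow _ _ hs.pos
  obtain ⟨e, heE, he1, B, hB, hBe, hBc, hBr⟩ := h3 p s (ne_two hG hSp hS1) hsp S E hSp hS3 hE hE3
    (hEM.trans hMS)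
  refine ⟨e, heE, he1, ?_⟩
  obtain ⟨A', hA'S, hA', hc⟩ := exists_elemAb hS3
  have hA'U : InUniqueMaximal A' := uniq_of_rank hG hM hSM hSp hMS hS3 (isPGroup_of_elemAb hA')
    (not_rank_of_elemAb le_rfl hA' hc)
  have hBU : InUniqueMaximal B := Cfsg.Agent.S1400.result hG s A' B (isPGroup_of_elemAb hA') hA'.1
    (not_rank_of_elemAb le_rfl hA' hc) hA'U (isPGroup_of_elemAb hBe) (not_cyclic_of_elemAb hs hBe hBc)
    (fun h => hBr (rank_le_of_le inf_le_right h))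
  exact le_of_uniq hM ((hB.trans inf_le_left).trans hSM) hBU (hB.trans inf_le_right)
    (centralizer_singleton_ne_top hG he1)

theorem ne_bot_of_rank {s : ℕ} (hs : s.Prime) {S : Subgroup G} (hS3 : ¬ PRankLE s 2 S) : S ≠ ⊥ := by
  rintro rfl
  apply hS3
  intro B _ _
  have : Nat.card B = 1 := Nat.card_eq_one_iff_unique.mpr ⟨inferInstance, ⟨1⟩⟩
  rw [this]
  exact Nat.one_le_pow _ _ hs.pos

/-- `O_s(X)` as a subgroup of `G` -/
theorem pCoreMap_prop (s : ℕ) (X : Subgroup G) :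
    (pCore s X).map X.subtype ≤ X ∧ IsPGroup s ((pCore s X).map X.subtype) ∧
      X ≤ normalizer (((pCore s X).map X.subtype : Subgroup G) : Set G) := by
  refine ⟨map_subtype_le _, (Cfsg.Agent.Lib.Helper1Fitting.pCore_isPGroup s).map _, ?_⟩
  rw [le_normalizer_iff]
  rintro x hx _ ⟨y, hy, rfl⟩
  exact ⟨⟨x, hx⟩ * y * ⟨x, hx⟩⁻¹,
    (Cfsg.Agent.Lib.Helper1Fitting.pCore_normal s).conj_mem y hy _, rfl⟩

theorem exists_normal_rank3 {X : Subgroup G} (h : ¬ RankLE 2 (fittingSubgroup X)) :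
    ∃ s : ℕ, s.Prime ∧ ∃ S : Subgroup G, S ≤ X ∧ IsPGroup s S ∧ X ≤ normalizer (S : Set G) ∧
      ¬ PRankLE s 2 S := by
  unfold RankLE at h
  push Not at h
  obtain ⟨s, hs, hr⟩ := h
  have : Fact s.Prime := ⟨hs⟩
  obtain ⟨B, hBF, hB, hc⟩ := exists_elemAb hr
  obtain ⟨h1, h2, h3⟩ := pCoreMap_prop s X
  refine ⟨s, hs, _, h1, h2, h3, ?_⟩
  have hBle : B ≤ pCore s X := by
    intro x hx
    exact Cfsg.Agent.Lib.Helper3DerFit.mem_pCore_of_mem_fitting s (hBF hx) (k := 1)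
      (by rw [pow_one]; exact hB.2 x hx)
  apply not_rank_of_elemAb (B := B.map X.subtype) (map_mono hBle) ?_ ?_
  · refine ⟨⟨⟨?_⟩⟩, ?_⟩
    · rintro ⟨_, x, hx, rfl⟩ ⟨_, y, hy, rfl⟩
      apply Subtype.ext
      exact congrArg (fun z : B => ((z : X) : G)) (hB.1.is_comm.comm ⟨x, hx⟩ ⟨y, hy⟩)
    · rintro _ ⟨x, hx, rfl⟩
      exact congrArg Subtype.val (hB.2 x hx)
  · rw [card_map_of_injective X.subtype_injective]
    exact hc

theorem comm_le_fittingOf {X : Subgroup G} (hXs : Group.IsSolvable X) (hodd : Odd (Nat.card X))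
    (hr : RankLE 2 (fittingSubgroup X)) : ⁅X, X⁆ ≤ fittingOf X := by
  have h := (Cfsg.Agent.S1451.result (G := X) hodd (Or.inr hr)).1
  rw [← map_subtype_commutator]
  exact map_mono (Cfsg.Agent.Lib.Helper1Fitting.le_fitting inferInstance h)

theorem pow3_le {E : Subgroup G} (hE : IsPGroup p E) (hc : p ^ 2 < Nat.card E) :
    p ^ 3 ≤ Nat.card E := by
  have hpp : p.Prime := Fact.out
  obtain ⟨k, hk⟩ := IsPGroup.iff_card.mp hE
  rw [hk] at hc ⊢
  exact Nat.pow_le_pow_right hpp.pos ((Nat.pow_lt_pow_iff_right hpp.one_lt).mp hc)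

theorem cj_eq_of_mem {X : Subgroup G} {k : G} (hk : k ∈ X) : cj k X = X :=
  cj_eq_self_of_mem_normalizer (le_normalizer hk)

/-- Burnside -/
theorem not_normalizer_le_centralizer (hG : IsMinSimpleOddOrder G) (P : Sylow p G)
    (hP1 : (P : Subgroup G) ≠ ⊥) : ¬ normalizer ((P : Subgroup G) : Set G) ≤ centralizer (P : Set G) := by
  intro hP
  have h := MonoidHom.ker_transferSylow_isComplement' P hP
  have hs := hG.2.1
  rcases hs.eq_bot_or_eq_top_of_normal (MonoidHom.transferSylow P hP).ker inferInstance with h0 | h0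
  · rw [h0] at h
    exact pgroup_ne_top hG P.2 (isComplement'_bot_left.mp h)
  · rw [h0] at h
    exact hP1 (isComplement'_top_left.mp h)

/-- step (3) -/
theorem Basic.centralizer_le (hG : IsMinSimpleOddOrder G) (h2 : HP2 G) (h3 : HP3 G) {P : Sylow p G}
    {A : Subgroup G} (hB : Basic p P A) (hnU : ¬ InUniqueMaximal A) {q : ℕ} (hq : q.Prime)
    (hqp : q ≠ p) {Q X : Subgroup G} (hQ : Q ∈ maxInvSubgroups ⊤ (P : Subgroup G) {q})
    (hX : IsCoatom X) (hNQ : normalizer (Q : Set G) ≤ X) : centralizer (A : Set G) ≤ X := by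
  have hpp : p.Prime := Fact.out
  have hPX : (P : Subgroup G) ≤ X := hQ.1.2.2.trans hNQ
  obtain ⟨E, hEA, hE, hEc⟩ := exists_elemAb hB.r3
  have hE3 : p ^ 3 ≤ Nat.card E := pow3_le (isPGroup_of_elemAb hE) hEc
  by_cases hV : ∃ V : Subgroup G, V ≠ ⊥ ∧ IsPGroup p V ∧ V ≤ X ∧ X ≤ normalizer (V : Set G)
  · obtain ⟨V, hV1, hVp, hVX, hXV⟩ := hV
    have hVP : V ≤ (P : Subgroup G) := by
      have h4 : IsPGroup p ((P : Subgroup G) ⊔ V : Subgroup G) :=
        P.2.to_sup_of_normal_right' hVp (hPX.trans hXV)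
      have h5 := P.3 h4 le_sup_left
      rw [← h5]
      exact le_sup_right
    have hr : PRankLE p 2 V :=
      rank_le_of_le (le_fittingOf hVX hXV hVp.isNilpotent) (hB.rank_fit hG hnU hX)
    obtain ⟨Y, hY1, hYV, hXY, hYP⟩ := h2 p hB.p2 X P V (sol hG hX.1) (odd_sub hG X) P.2 hPX hVP hV1
      hXV hr
    have hYA : Y ≤ A := by
      rw [← hB.scn.2.2]
      exact le_inf (hYV.trans hVP) (hYP.trans (Subgroup.centralizer_le hB.scn.1))
    rw [← norm_eq hG hX hY1 (hYV.trans hVX) hXY]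
    exact (Subgroup.centralizer_le hYA).trans (centralizer_le_normalizer _)
  · push Not at hV
    have hsub : ∀ s : ℕ, s.Prime → ∀ S : Subgroup G, S ≤ X → IsPGroup s S →
        X ≤ normalizer (S : Set G) → ¬ PRankLE s 2 S → centralizer (A : Set G) ≤ X := by
      intro s hs S hSX hSp hXS hS3
      have : Fact s.Prime := ⟨hs⟩
      have hsp : s ≠ p := by
        rintro rfl
        exact hV S (ne_bot_of_rank hs hS3) hSp hSX hXS
      obtain ⟨e, heE, -, hle⟩ := exists_centralizer_le hG h3 hsp hX ((hEA.trans hB.scn.1).trans hPX)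
        hE hE3 hSX hSp hXS hS3
      refine (Subgroup.centralizer_le ?_).trans hle
      rintro _ rfl
      exact hEA heE
    by_cases hr : RankLE 2 (fittingSubgroup X)
    · exfalso
      have hc := comm_le_fittingOf (sol hG hX.1) (odd_sub hG X) hr
      have hcore : (pCore p X).map X.subtype = ⊥ := by
        by_contra hne
        obtain ⟨h4, h5, h6⟩ := pCoreMap_prop p X
        exact hV _ hne h5 h4 h6
      have hPF : (P : Subgroup G) ⊓ fittingOf X = ⊥ := by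
        rw [eq_bot_iff]
        rintro x ⟨hxP, y, hy, rfl⟩
        obtain ⟨k, hk⟩ := P.2 ⟨_, hxP⟩
        have hk' : y ^ p ^ k = 1 := by
          apply Subtype.ext
          have := congrArg Subtype.val hk
          simpa using this
        have h4 := Cfsg.Agent.Lib.Helper3DerFit.mem_pCore_of_mem_fitting p hy hk'
        have h5 : X.subtype y ∈ (pCore p X).map X.subtype := mem_map_of_mem _ h4
        rwa [hcore] at h5
      have h4 := ((hB.s1395 hG hq hqp P.2 hB.scn.1).2.2 Q hQ).1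
      have h5 : (P : Subgroup G) ⊓ ⁅normalizer ((P : Subgroup G) : Set G),
          normalizer ((P : Subgroup G) : Set G)⁆ = ⊥ := by
        rw [eq_bot_iff, ← hPF]
        exact le_inf inf_le_left (h4.trans ((commutator_mono hNQ hNQ).trans hc))
      apply not_normalizer_le_centralizer hG P (ne_bot_of_le_ne_bot hB.ne_bot hB.scn.1)
      intro n hn
      rw [mem_centralizer_iff]
      intro x hx
      have h6 : n * x * n⁻¹ * x⁻¹ ∈ (P : Subgroup G) ⊓ ⁅normalizer ((P : Subgroup G) : Set G),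
          normalizer ((P : Subgroup G) : Set G)⁆ := by
        refine ⟨(P : Subgroup G).mul_mem ((mem_normalizer_iff.mp hn x).mp hx)
          ((P : Subgroup G).inv_mem hx), ?_⟩
        exact commutator_mem_commutator hn (le_normalizer hx)
      rw [h5, mem_bot] at h6
      have : n * x = x * n := by
        have h7 : n * x * n⁻¹ * x⁻¹ * (x * n) = n * x := by group
        rw [← h7, h6, one_mul]
      exact this.symm
    · obtain ⟨s, hs, S, hSX, hSp, hXS, hS3⟩ := exists_normal_rank3 hr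
      exact hsub s hs S hSX hSp hXS hS3

theorem bot_mem_inv (R : Subgroup G) (π : Set ℕ) : (⊥ : Subgroup G) ∈ invSubgroups ⊤ R π := by
  refine ⟨bot_le, ?_, le_normalizer_bot R⟩
  intro r hr hd
  rw [card_bot] at hd
  exact absurd (Nat.dvd_one.mp hd) hr.one_lt.ne'

/-- step (5) -/
theorem Basic.normalizer_le (hG : IsMinSimpleOddOrder G) {P : Sylow p G}
    {A : Subgroup G} (hB : Basic p P A) {q : ℕ} (hq : q.Prime)
    (hqp : q ≠ p) {Q X : Subgroup G} (hQ : Q ∈ maxInvSubgroups ⊤ (P : Subgroup G) {q})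
    (hNQ : normalizer (Q : Set G) ≤ X) (hK : Kc A ≤ X) {R : Subgroup G} (hR : IsPGroup p R)
    (hAR : A ≤ R) : normalizer (R : Set G) ≤ X := by
  obtain ⟨Q₂, hQ₂, -⟩ := exists_max_ge (bot_mem_inv R {q})
  have h := hB.s1395 hG hq hqp hR hAR
  have hP := hB.s1395 hG hq hqp P.2 hB.scn.1
  obtain ⟨k, hk, rfl⟩ := hB.tr q hq hqp Q (hP.2.1 hQ) Q₂ (h.2.1 hQ₂)
  rw [(h.2.2 _ hQ₂).2]
  refine sup_le (h.1.trans hK) (inf_le_right.trans ?_)
  have h1 := cj_le_normalizer_cj k⁻¹ (le_refl (normalizer ((cj k Q : Subgroup G) : Set G)))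
  rw [cj_inv_cj] at h1
  have h2 := cj_le_iff.mp (h1.trans hNQ)
  rwa [inv_inv, cj_eq_of_mem (hK hk)] at h2

theorem Basic.large_of (hG : IsMinSimpleOddOrder G) {P : Sylow p G}
    {A : Subgroup G} (hB : Basic p P A) {s : ℕ} [Fact s.Prime] (hsp : s ≠ p) {X S : Subgroup G}
    (hX : IsCoatom X) (hAX : A ≤ X) (hK : Kc A ≤ X) (hSX : S ≤ X) (hSp : IsPGroup s S)
    (hXS : X ≤ normalizer (S : Set G)) (hS3 : ¬ PRankLE s 2 S) : Large A X s := by
  have hs : s.Prime := Fact.out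
  have hSU : InUniqueMaximal S := uniq_of_rank hG hX hSX hSp hXS hS3 hSp hS3
  obtain ⟨S₁, hS₁, hSS₁⟩ := exists_max_ge (mem_inv_of_isPGroup (H := ⊤) le_top hSp (hAX.trans hXS))
  have hS₁p : IsPGroup s S₁ := isPGroup_of_mem_inv hS₁.1
  have hS₁X : S₁ ≤ X := le_of_uniq hX hSX hSU hSS₁ (pgroup_ne_top hG hS₁p)
  have hall : ∀ S₂ ∈ maxInvSubgroups ⊤ A {s}, S ≤ S₂ ∧ S₂ ≤ X := by
    intro S₂ hS₂
    obtain ⟨k, hk, rfl⟩ := hB.tr s hs hsp S₁ hS₁ S₂ hS₂
    have hkX := hK hk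
    constructor
    · have : cj k S = S := cj_eq_self_of_mem_normalizer (hXS hkX)
      rw [← this]
      exact cj_mono hSS₁
    · rw [← cj_eq_of_mem hkX]
      exact cj_mono hS₁X
  refine ⟨hX, hK, ?_, ?_⟩
  · intro S₀ L hS₀ hAS₀ h3 hle hL
    obtain ⟨S₂, hS₂, hle₂⟩ := exists_max_ge (mem_inv_of_isPGroup (H := ⊤) le_top hS₀ hAS₀)
    exact le_of_uniq hX (hle₂.trans (hall S₂ hS₂).2) (uniq_of_rank hG hX hSX hSp hXS hS3 hS₀ h3) hle hL
  · intro S₀ hS₀ h
    exact hS3 (rank_le_of_le (hall S₀ hS₀).1 h)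

/-- steps (6), (7) -/
theorem Basic.exists_large (hG : IsMinSimpleOddOrder G) (h1 : HP1 G) (h2 : HP2 G) (h3 : HP3 G)
    {P : Sylow p G} {A : Subgroup G} (hB : Basic p P A) (hnU : ¬ InUniqueMaximal A) {q : ℕ}
    (hq : q.Prime) (hqp : q ≠ p) {Q X : Subgroup G}
    (hQ : Q ∈ maxInvSubgroups ⊤ (P : Subgroup G) {q})
    (hX : IsCoatom X) (hNQ : normalizer (Q : Set G) ≤ X) :
    ∃ s : ℕ, s.Prime ∧ s ≠ p ∧ Large A X s := by
  have hPX : (P : Subgroup G) ≤ X := hQ.1.2.2.trans hNQ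
  have hC := hB.centralizer_le hG h2 h3 hnU hq hqp hQ hX hNQ
  have hK : Kc A ≤ X := hB.Kc_le.trans hC
  have hPc := h1 p P A X hB.scn hX.1 hPX (fun R hR hAR => hB.normalizer_le hG hq hqp hQ hNQ hK hR hAR)
  have hr : ¬ RankLE 2 (fittingSubgroup X) := by
    intro hr
    have hc := comm_le_fittingOf (sol hG hX.1) (odd_sub hG X) hr
    exact hB.r3 (rank_le_of_le ((hB.scn.1.trans hPc).trans hc) (hB.rank_fit hG hnU hX))
  obtain ⟨s, hs, S, hSX, hSp, hXS, hS3⟩ := exists_normal_rank3 hr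
  have : Fact s.Prime := ⟨hs⟩
  have hsp : s ≠ p := by
    rintro rfl
    exact hS3 (rank_le_of_le (le_fittingOf hSX hXS hSp.isNilpotent) (hB.rank_fit hG hnU hX))
  exact ⟨s, hs, hsp, hB.large_of hG hsp hX (hB.scn.1.trans hPX) hK hSX hSp hXS hS3⟩

theorem Basic.inf_centralizer_le_core (hG : IsMinSimpleOddOrder G) {P : Sylow p G} {A : Subgroup G}
    (hB : Basic p P A) {t : ℕ} [Fact t.Prime] (htp : t ≠ p) {T₁ : Subgroup G} (hT₁ : IsPGroup t T₁)
    (hAT : A ≤ normalizer (T₁ : Set G)) {a : G} (ha : a ∈ A) (ha1 : a ≠ 1) :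
    T₁ ⊓ centralizer ({a} : Set G) ≤
        piCoreOf (primesNotDvd (Nat.card A)) (centralizer ({a} : Set G)) ∧
      A ≤ normalizer ((T₁ ⊓ centralizer ({a} : Set G) : Subgroup G) : Set G) := by
  have hAC : A ≤ centralizer ({a} : Set G) := by
    refine hB.le_centralizer.trans (Subgroup.centralizer_le ?_)
    rintro _ rfl
    exact ha
  have hn : A ≤ normalizer ((T₁ ⊓ centralizer ({a} : Set G) : Subgroup G) : Set G) :=
    (le_inf hAT (hAC.trans le_normalizer)).trans inf_normalizer_le_normalizer_inf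
  refine ⟨?_, hn⟩
  apply le_core_of_mem_inv hB.th (centralizer_singleton_ne_top hG ha1) hAC
  refine ⟨inf_le_right, ?_, hn⟩
  exact primesNotDvd_of_coprime
    (coprime_card_of_isPGroup (Ne.symm htp) hB.pg (hT₁.to_le inf_le_left))

/-- step (8), for `t < s` -/
theorem Basic.large_unique_aux (hG : IsMinSimpleOddOrder G) {P : Sylow p G} {A : Subgroup G}
    (hB : Basic p P A) {s t : ℕ} [Fact s.Prime] [Fact t.Prime] (hsp : s ≠ p) (htp : t ≠ p)
    (hts : t < s) {X Y : Subgroup G} (hX : Large A X s) (hY : Large A Y t) : X = Y := by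
  by_contra hne
  have hpp : p.Prime := Fact.out
  obtain ⟨E, hEA, hE, hEc⟩ := exists_elemAb hB.r3
  have hE3 : p ^ 3 ≤ Nat.card E := pow3_le (isPGroup_of_elemAb hE) hEc
  obtain ⟨S₁, hS₁, -⟩ := exists_max_ge (bot_mem_inv A {s})
  obtain ⟨T₁, hT₁, -⟩ := exists_max_ge (bot_mem_inv A {t})
  have hS₁p : IsPGroup s S₁ := isPGroup_of_mem_inv hS₁.1
  have hT₁p : IsPGroup t T₁ := isPGroup_of_mem_inv hT₁.1
  have hSY : ¬ S₁ ≤ Y := by
    intro h
    have h4 := hX.rank3 S₁ Y hS₁p hS₁.1.2.2 (hX.big S₁ hS₁) h hY.coatom.1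
    exact hne ((hY.coatom.le_iff_eq hX.coatom.1).mp h4)
  have hTX : ¬ T₁ ≤ X := by
    intro h
    have h4 := hY.rank3 T₁ X hT₁p hT₁.1.2.2 (hY.big T₁ hT₁) h hX.coatom.1
    exact hne ((hX.coatom.le_iff_eq hY.coatom.1).mp h4).symm
  obtain ⟨a, haE, ha1, h₁, h₂⟩ := Cfsg.Agent.Lib.Helper30Rank3.exists_common_elt hE.1 hE.2 hE3
    (Cfsg.Agent.Lib.Helper30Rank3.not_dvd_card_of_isPGroup hpp htp hT₁p)
    (Cfsg.Agent.Lib.Helper30Rank3.not_dvd_card_of_isPGroup hpp hsp hS₁p)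
    (hEA.trans hT₁.1.2.2) (hEA.trans hS₁.1.2.2) hTX hSY
  have hAC : A ≤ centralizer ({a} : Set G) := by
    refine hB.le_centralizer.trans (Subgroup.centralizer_le ?_)
    rintro _ rfl
    exact hEA haE
  have hLp : (Nat.card (piCoreOf (primesNotDvd (Nat.card A))
      (centralizer ({a} : Set G)))).Coprime p := by
    rw [Nat.coprime_comm, Nat.Prime.coprime_iff_not_dvd hpp]
    intro h
    exact (card_piCoreOf _ _ p hpp h).2 hB.dvd
  have hT := hB.inf_centralizer_le_core hG htp hT₁p hT₁.1.2.2 (hEA haE) ha1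
  have hS := hB.inf_centralizer_le_core hG hsp hS₁p hS₁.1.2.2 (hEA haE) ha1
  rcases psi hG hB.th hB.pg hts hX hY _ (hAC.trans (le_normalizer_piCoreOf _ _)) hLp with h | h
  · exact h₁ (h _ hT.1 (hT₁p.to_le inf_le_left) hT.2)
  · exact h₂ (h _ hS.1 (hS₁p.to_le inf_le_left) hS.2)

/-- step (8) -/
theorem Basic.large_unique (hG : IsMinSimpleOddOrder G) {P : Sylow p G} {A : Subgroup G}
    (hB : Basic p P A) {s t : ℕ} [Fact s.Prime] [Fact t.Prime] (hsp : s ≠ p) (htp : t ≠ p)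
    {X Y : Subgroup G} (hX : Large A X s) (hY : Large A Y t) : X = Y := by
  rcases lt_trichotomy s t with h | h | h
  · exact (hB.large_unique_aux hG htp hsp h hY hX).symm
  · subst h
    obtain ⟨S₁, hS₁, -⟩ := exists_max_ge (bot_mem_inv A {s})
    have hS₁p : IsPGroup s S₁ := isPGroup_of_mem_inv hS₁.1
    have h4 : S₁ ≤ Y := hY.rank3 S₁ S₁ hS₁p hS₁.1.2.2 (hY.big S₁ hS₁) le_rfl (pgroup_ne_top hG hS₁p)
    have h5 : Y ≤ X := hX.rank3 S₁ Y hS₁p hS₁.1.2.2 (hX.big S₁ hS₁) h4 hY.coatom.1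
    exact (hY.coatom.le_iff_eq hX.coatom.1).mp h5
  · exact hB.large_unique_aux hG hsp htp h hX hY

/-- B-G Theorem 9.6, modulo the three pieces -/
theorem main (hG : IsMinSimpleOddOrder G) (h1 : HP1 G) (h2 : HP2 G) (h3 : HP3 G) (P : Sylow p G)
    {A : Subgroup G} (hA : IsSCN (P : Subgroup G) A) (hA3 : ¬ PRankLE p 2 A) :
    InUniqueMaximal A := by
  by_contra hnU
  have hB := basic hG P hA hA3
  have hpp : p.Prime := Fact.out
  have key : ∃ X₀ : Subgroup G, IsCoatom X₀ ∧ A ≤ X₀ ∧ ∀ q : ℕ, q.Prime → q ≠ p →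
      ∀ Q ∈ maxInvSubgroups ⊤ (P : Subgroup G) {q}, Q ≤ X₀ := by
    by_cases hex : ∃ q : ℕ, q.Prime ∧ q ≠ p ∧ ∃ Q ∈ maxInvSubgroups ⊤ (P : Subgroup G) {q}, Q ≠ ⊥
    · obtain ⟨q, hq, hqp, Q, hQ, hQ1⟩ := hex
      have : Fact q.Prime := ⟨hq⟩
      obtain ⟨X, hX, hNX⟩ := exists_coatom
        (norm_ne_top hG hQ1 (pgroup_ne_top hG (isPGroup_of_mem_inv hQ.1)))
      obtain ⟨s, hs, hsp, hL⟩ := hB.exists_large hG h1 h2 h3 hnU hq hqp hQ hX hNX
      refine ⟨X, hX, hA.1.trans (hQ.1.2.2.trans hNX), ?_⟩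
      intro q' hq' hq'p Q' hQ'
      by_cases hQ'1 : Q' = ⊥
      · rw [hQ'1]; exact bot_le
      have : Fact q'.Prime := ⟨hq'⟩
      obtain ⟨X', hX', hNX'⟩ := exists_coatom
        (norm_ne_top hG hQ'1 (pgroup_ne_top hG (isPGroup_of_mem_inv hQ'.1)))
      obtain ⟨s', hs', hs'p, hL'⟩ := hB.exists_large hG h1 h2 h3 hnU hq' hq'p hQ' hX' hNX'
      have : Fact s.Prime := ⟨hs⟩
      have : Fact s'.Prime := ⟨hs'⟩
      rw [hB.large_unique hG hsp hs'p hL hL']
      exact le_normalizer.trans hNX'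
    · push Not at hex
      obtain ⟨M, hM, hAM⟩ := exists_coatom hB.th.2.1
      exact ⟨M, hM, hAM, fun q hq hqp Q hQ => by rw [hex q hq hqp Q hQ]; exact bot_le⟩
  obtain ⟨X₀, hX₀, hAX₀, hall⟩ := key
  have hPinv : ∀ Y : Subgroup G, (Nat.card Y).Coprime p →
      (P : Subgroup G) ≤ normalizer (Y : Set G) → Y ≤ X₀ := by
    intro Y hY hPY
    apply Cfsg.Agent.Lib.Helper30Gen.le_of_forall_sylow_le
    intro q hq
    obtain ⟨k, hk⟩ := IsPGroup.iff_card.mp P.2
    have hcop : (Nat.card (P : Subgroup G)).Coprime (Nat.card Y) := by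
      rw [hk]
      exact (Nat.Coprime.pow_left k hY.symm)
    have : Group.IsSolvable (P : Subgroup G) := by
      have := P.2.isNilpotent
      infer_instance
    obtain ⟨Yq, hYq⟩ := Cfsg.Agent.Lib.Helper1SylowInv.exists_invariant_sylow (P : Subgroup G) Y hPY
      hcop (Or.inl this) q
    refine ⟨Yq, ?_⟩
    by_cases hqp : q = p
    · subst hqp
      obtain ⟨m, hm⟩ := IsPGroup.iff_card.mp Yq.2
      have h4 : Nat.card (Yq : Subgroup Y) = 1 := by
        apply Nat.Coprime.eq_one_of_dvd _ (card_subgroup_dvd_card (Yq : Subgroup Y))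
        rw [hm]
        exact Nat.Coprime.pow_left m hY.symm
      rw [card_eq_one.mp h4, Subgroup.map_bot]
      exact bot_le
    obtain ⟨Q', hQ', hle⟩ := exists_max_ge (H := ⊤) (A := (P : Subgroup G)) (π := {q})
      (mem_inv_of_isPGroup (q := q) (le_top : (Yq : Subgroup Y).map Y.subtype ≤ ⊤) (Yq.2.map _) hYq)
    exact hle.trans (hall q hq.out hqp Q' hQ')
  have hAinv := inv_le_of_scn3 hG P hA hA3 hPinv
  exact hnU (uniq_of hX₀ hAX₀ (uniq_of_inv hG hX₀ hAX₀ hB.pg hB.ne_bot hAinv))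

end Cfsg.Agent.Lib.Helper52BGMain
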