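import Mathlib
import Cfsg.Agent.Lib.Helper31BG21Defs
import Cfsg.Agent.Lib.Helper31BGW
import Cfsg.Agent.Lib.Helper52BGMain
import Cfsg.Agent.Lib.Helper30Bender
import Cfsg.Agent.Lib.Helper86ModGrp
import Cfsg.Agent.S1411
import Cfsg.Agent.S1417
import Cfsg.Agent.S1418

/-!
PROJECT 21, piece `abnormal` (B-G 12.8(c)) : abelian Sylow subgroups for a prime of `τ₂(M)`.
-/

set_option autoImplicit false

namespace Cfsg.Agent.Lib.Helper31BG21abnormal

open Cfsg Subgroup
open Cfsg.Agent.Lib.Helper30Trans Cfsg.Agent.Lib.Helper24BG Cfsg.Agent.Lib.Helper31BG21Defs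
open Cfsg.Agent.Lib.Helper24BG2
open Cfsg.Agent.Lib.Helper31BGS
open Cfsg.Agent.Lib.Helper31BGV
open Cfsg.Agent.Lib.Helper30Bender

variable {G : Type*} [Group G] [Finite G]

/-- a Sylow subgroup lies in the derived group of its normalizer -/
theorem syl_le_derived (hG : IsMinSimpleOddOrder G) {p : ℕ} [Fact p.Prime] {P : Subgroup G}
    (hP : IsSyl p P ⊤) : P ≤ ⁅normalizer (P : Set G), normalizer (P : Set G)⁆ := by
  obtain ⟨Y, hY1, hY2, hY3⟩ := Cfsg.Agent.Lib.Helper86ModGrp.exists_compl hP.toSylowTop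
  have hc : IsComplIn ((hP.toSylowTop : Sylow p G) : Subgroup G) Y
      (normalizer (((hP.toSylowTop : Sylow p G) : Subgroup G) : Set G)) := by
    refine ⟨le_normalizer, hY1, ?_, ?_⟩
    · rw [eq_bot_iff]
      intro x hx
      exact (mem_bot).mpr (hY3 x hx.2 hx.1)
    · intro m hm
      obtain ⟨y, hy, u, hu, hmyu⟩ := hY2 m hm
      refine ⟨y * u * y⁻¹, ?_, y, hy, ?_⟩
      · exact (mem_normalizer_iff.mp (hY1 hy) u).mp hu
      · rw [hmyu]; group
  exact (Cfsg.Agent.S1411.result hG p hP.toSylowTop Y hc).2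

/-- a normal `p`-subgroup lies in every Sylow `p`-subgroup -/
theorem normal_le_syl {p : ℕ} [Fact p.Prime] {D S N : Subgroup G} (hS : IsSyl p S N) (hDN : D ≤ N)
    (hD : IsPGroup p D) (hn : N ≤ normalizer (D : Set G)) : D ≤ S := by
  obtain ⟨g, hg, hle⟩ := exists_cj_le hS hD hDN
  rwa [cj_eq_self_of_mem_normalizer (hn hg)] at hle

theorem ab_normal (hG : IsMinSimpleOddOrder G) {M E : Subgroup G} (hM : IsCoatom M)
    (hE : IsComplIn E (sigmaCore M) M) {p : ℕ} [Fact p.Prime] (hp : p ∈ tau2 M) {A S : Subgroup G}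
    (hAE : A ≤ E) (hAe : IsElementaryAbelian p A) (hA2 : Nat.card A = p ^ 2) (hS : IsSyl p S ⊤)
    (hAS : A ≤ S) (hSab : IsMulCommutative S) :
    S ≤ E ∧ normalizer (A : Set G) = normalizer (S : Set G) ∧
      ⁅normalizer (A : Set G), normalizer (A : Set G)⁆ ≤ centralizer (A : Set G) ∧
      ∀ x ∈ S, x ^ p = 1 ↔ x ∈ A := by
  have hpp : p.Prime := Fact.out
  have hAM : A ≤ M := hAE.trans hE.1
  have hAp : IsPGroup p A := isPGroup_of_elemAb hAe
  have h17 := Cfsg.Agent.S1417.result hG M hM p hp A ⟨hAM, hAe, hA2⟩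
  have h18 := Cfsg.Agent.S1418.result hG M hM E hE p hp A ⟨hAE, hAe, hA2⟩
  have hSC : S ≤ centralizer (A : Set G) := by
    intro s hs
    rw [mem_centralizer_iff]
    intro a ha
    exact setLike_mul_comm (hAS ha) hs
  have hCE : centralizer (A : Set G) ≤ E := h18.2.1.2.1 ▸ h18.2.1.1
  have hSE : S ≤ E := hSC.trans hCE
  have hSM : S ≤ M := hSE.trans hE.1
  have hSylM : IsSyl p S M := hS.mono hSM le_top
  have hΩ : ∀ x ∈ S, x ^ p = 1 ↔ x ∈ A := by
    have h1 := (h17.2.1 hSylM.toSylow).2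
    rw [hSylM.map_toSylow] at h1
    exact (h1 hAS).1
  have hA1 : A ≠ ⊥ := by
    intro hb
    rw [hb, card_bot] at hA2
    have := hpp.two_le
    nlinarith
  set N := normalizer (A : Set G) with hN
  have hNtop : N ≠ ⊤ := norm_ne_top hG hA1 (pgroup_ne_top hG hAp)
  have hNS : normalizer (S : Set G) ≤ N := by
    intro g hg
    rw [hN, Cfsg.Agent.Lib.Helper14Sylow.mem_normalizer_iff_cj]
    apply Cfsg.Agent.Lib.Helper14Sylow.cj_eq_of_le
    rintro _ ⟨a, ha, rfl⟩
    show g * a * g⁻¹ ∈ A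
    rw [← hΩ _ ((mem_normalizer_iff.mp hg a).mp (hAS ha)), conj_pow, hAe.2 a ha]
    group
  have hSN : S ≤ N := le_normalizer.trans hNS
  have hSylN : IsSyl p S N := hS.mono hSN le_top
  have hAN : A ≤ N := le_normalizer
  -- normal `r`-subgroups of `N` centralize `A`
  have hnorm : ∀ r : ℕ, r.Prime → ∀ D : Subgroup G, D ≤ N → N ≤ normalizer (D : Set G) →
      IsPGroup r D → D ≤ centralizer (A : Set G) := by
    intro r hr D hDN hDn hDr
    have hrf : Fact r.Prime := ⟨hr⟩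
    by_cases hrp : r = p
    · subst hrp
      exact (normal_le_syl hSylN hDN hDr hDn).trans hSC
    · apply Cfsg.Agent.Lib.Helper24BG3.le_centralizer_of_inf_bot hDN le_rfl (hAN.trans hDn)
      exact Cfsg.Agent.Lib.Helper30SZ.inf_eq_bot_of_coprime (coprime_card_of_isPGroup hrp hDr hAp).symm
  have hFC : fittingOf N ≤ centralizer (A : Set G) := fittingOf_le_of_forall hnorm
  have hrank : RankLE 2 (fittingSubgroup N) := by
    by_contra hcon
    obtain ⟨s, hs, D, hDN, hDs, hDn, hDr⟩ := Cfsg.Agent.Lib.Helper52BGMain.exists_normal_rank3 hcon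
    have hsf : Fact s.Prime := ⟨hs⟩
    have hDE : D ≤ E := (hnorm s hs D hDN hDn hDs).trans hCE
    apply hDr
    apply rank_le_of_le (hDE.trans hE.1)
    by_contra hr
    have hσ : s ∈ sigma M := Cfsg.Agent.Lib.Helper2BGb.alpha_subset_sigma hG hM ⟨hs, hr⟩
    have hD1 : D ≠ ⊥ := by
      rintro rfl
      apply hDr
      intro B _ _
      have : Nat.card B = 1 := Nat.card_eq_one_iff_unique.mpr ⟨inferInstance, ⟨1⟩⟩
      rw [this]
      exact Nat.one_le_pow _ _ hs.pos
    exact not_mem_sigma_of_dvd_compl hG hM hE hs (dvd_card_of_isPGroup_ne_bot hDs hD1 hDE) hσ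
  have hder : ⁅N, N⁆ ≤ fittingOf N :=
    Cfsg.Agent.Lib.Helper52BGMain.comm_le_fittingOf (sol hG hNtop) (odd_sub hG N) hrank
  have hSF : S ≤ fittingOf N :=
    ((syl_le_derived hG hS).trans (commutator_mono hNS hNS)).trans hder
  have hNN : N ≤ normalizer (S : Set G) := by
    refine (le_normalizer_fittingOf N).trans
      (Cfsg.Agent.Lib.Helper2BGa.normalizer_le_normalizer_hall (fittingOf_isNilpotent N) hSF ?_)
    intro r hr hrd
    obtain ⟨k, hk⟩ := IsPGroup.iff_card.mp hS.2.1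
    rw [hk] at hrd
    rw [(Nat.prime_dvd_prime_iff_eq hr hpp).mp (hr.dvd_of_dvd_pow hrd)]
    exact Cfsg.Agent.Lib.Helper2BGa.IsSyl.not_dvd_relIndex (hS.mono hSF le_top)
  exact ⟨hSE, le_antisymm hNN hNS, hder.trans hFC, hΩ⟩

end Cfsg.Agent.Lib.Helper31BG21abnormal
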