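import Mathlib
import Cfsg.Agent.Lib.Helper31BG21Defs
import Cfsg.Agent.Lib.Helper31BGW
import Cfsg.Agent.Lib.Helper38BG13classify
import Cfsg.Agent.S1419

/-!
PROJECT 21, piece `nonabA` : nonabelian Sylow subgroups, the centralizers `C_E(x) ≤ A₀`.
-/

set_option autoImplicit false

namespace Cfsg.Agent.Lib.Helper31BG21nonabA

open Cfsg Subgroup
open Cfsg.Agent.Lib.Helper30Trans Cfsg.Agent.Lib.Helper24BG Cfsg.Agent.Lib.Helper31BG21Defs
open Cfsg.Agent.Lib.Helper24BG2
open Cfsg.Agent.Lib.Helper31BGS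
open Cfsg.Agent.Lib.Helper31BGV
open Cfsg.Agent.Lib.Helper31BGW

variable {G : Type*} [Group G] [Finite G]

theorem nonab_cent (hG : IsMinSimpleOddOrder G) {M E : Subgroup G} (hM : IsCoatom M)
    (hE : IsComplIn E (sigmaCore M) M)
    (h : ∀ e ∈ E, e ≠ 1 → (∀ p : ℕ, p.Prime → p ∣ orderOf e → p ∈ tau1 M ∪ tau3 M) →
      sigmaCore M ⊓ centralizer ({e} : Set G) = ⊥)
    {p : ℕ} [Fact p.Prime] (hp : p ∈ tau2 M)
    (hS : ∀ S : Sylow p G, ¬ IsMulCommutative (S : Subgroup G)) {A : Subgroup G} (hAE : A ≤ E)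
    (hAe : IsElementaryAbelian p A) (hA2 : Nat.card A = p ^ 2) :
    ∀ x ∈ sigmaCore M, x ≠ 1 →
      E ⊓ centralizer ({x} : Set G) ≤ A ⊓ centralizer (sigmaCore M : Set G) := by
  rintro x hx hx1 c ⟨hcE, hcx⟩
  have hpp : p.Prime := Fact.out
  have hAM : A ≤ M := hAE.trans hE.1
  have h19 := Cfsg.Agent.S1419.result hG M hM E hE p hp hS A ⟨hAE, hAe, hA2⟩
  have h18 := Cfsg.Agent.S1418.result hG M hM E hE p hp A ⟨hAE, hAe, hA2⟩
  have hMax := Cfsg.Agent.S1419.maxSq_of_tau2 hG hM hp hAM hAe hA2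
  set A₀ := A ⊓ centralizer (sigmaCore M : Set G) with hA₀
  -- an element commuting with `x` does not act regularly
  have hnreg : ∀ z : G, z * x = x * z → sigmaCore M ⊓ centralizer ({z} : Set G) ≠ ⊥ := by
    intro z hz hbot
    have h4 : x ∈ sigmaCore M ⊓ centralizer ({z} : Set G) := by
      refine ⟨hx, ?_⟩
      show x ∈ centralizer ({z} : Set G)
      rw [mem_centralizer_iff]
      intro w hw
      rw [Set.mem_singleton_iff.mp hw]
      exact hz
    rw [hbot, mem_bot] at h4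
    exact hx1 h4
  have hord : ∀ z ∈ E, orderOf z = p → z * x = x * z → z ∈ A₀ := by
    intro z hz hzo hzx
    by_contra hzA
    have hne : zpowers z ≠ A₀ := fun hh => hzA (hh ▸ mem_zpowers z)
    have h1 := (h19.2.2 (zpowers z) (zpowers_le.mpr hz) (by rw [Nat.card_zpowers, hzo]) hne).1
    rw [Cfsg.Agent.Lib.Helper27BGa.centralizer_zpowers_eq] at h1
    exact hnreg z hzx h1
  refine Cfsg.Agent.Lib.Helper2BGa.mem_of_primary _ c rfl ?_
  intro r hr y hy hyr
  by_cases hy1 : y = 1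
  · rw [hy1]; exact one_mem _
  have hyE : y ∈ E := (zpowers_le.mpr hcE) hy
  have hyx : y * x = x * y := by
    have : y ∈ centralizer ({x} : Set G) := (zpowers_le.mpr hcx) hy
    exact (mem_centralizer_iff.mp this x rfl).symm
  obtain ⟨k, hk⟩ := hyr
  have hk0 : k ≠ 0 := by
    rintro rfl
    rw [pow_zero, orderOf_eq_one_iff] at hk
    exact hy1 hk
  have hrp : r = p := by
    have h1 : r ∣ Nat.card E := by
      have h2 : orderOf y ∣ Nat.card E := by
        have := orderOf_dvd_natCard (⟨y, hyE⟩ : E)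
        rwa [Subgroup.orderOf_mk] at this
      exact (hk ▸ dvd_pow_self r hk0 : r ∣ orderOf y).trans h2
    have h3 := not_mem_sigma_of_dvd_compl hG hM hE hr h1
    have h13 : r ∈ tau1 M ∪ tau3 M → False := by
      intro hr13
      apply hnreg y hyx
      apply h y hyE hy1
      intro t ht htd
      rw [hk] at htd
      rw [(Nat.prime_dvd_prime_iff_eq ht hr).mp (ht.dvd_of_dvd_pow htd)]
      exact hr13
    rcases Cfsg.Agent.Lib.Helper38BG13classify.mem_tau_cases hG hM hr
      (h1.trans (card_dvd_of_le hE.1)) with h4 | h4 | h4 | h4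
    · exact absurd h4 h3
    · exact (h13 (Or.inl h4)).elim
    · rw [h19.1] at h4
      exact h4
    · exact (h13 (Or.inr h4)).elim
  subst hrp
  by_cases hk1 : k = 1
  · subst hk1
    rw [pow_one] at hk
    exact hord y hyE hk hyx
  exfalso
  obtain ⟨j, rfl⟩ : ∃ j, k = j + 2 := ⟨k - 2, by omega⟩
  set f := y ^ (r ^ j) with hf
  have hfo : orderOf f = r ^ 2 := by
    rw [hf, orderOf_pow_of_dvd (pow_ne_zero _ hpp.ne_zero) (by rw [hk]; exact pow_dvd_pow r (by omega)),
      hk, Nat.pow_div (by omega) hpp.pos]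
    congr 1
    omega
  have hfE : f ∈ E := pow_mem hyE _
  have hfx : f * x = x * f := by
    have : Commute y x := hyx
    exact this.pow_left _
  have hfpo : orderOf (f ^ r) = r := by
    rw [orderOf_pow_of_dvd hpp.ne_zero (by rw [hfo]; exact dvd_pow_self r (by norm_num)), hfo,
      pow_two, Nat.mul_div_cancel _ hpp.pos]
  have hfpA : f ^ r ∈ A₀ := by
    apply hord _ (pow_mem hfE _) hfpo
    have : Commute f x := hfx
    exact this.pow_left _
  have hfp1 : f ^ r ≠ 1 := by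
    intro hh
    rw [hh, orderOf_one] at hfpo
    exact hpp.one_lt.ne hfpo
  have hfpp : (f ^ r) ^ r = 1 := by
    rw [← pow_mul, ← pow_two, ← hfo]
    exact pow_orderOf_eq_one f
  have hA₀z : A₀ = zpowers (f ^ r) := eq_zpowers_of_card_prime h19.2.1.1 hfpA hfp1
  -- `A⟨f⟩` is an abelian `p`-group
  have hfp : IsPGroup r (zpowers f) := IsPGroup.of_card (n := 2) (by rw [Nat.card_zpowers, hfo])
  have hAp : IsPGroup r A := isPGroup_of_elemAb hAe
  have hB : IsPGroup r (zpowers f ⊔ A : Subgroup G) :=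
    IsPGroup.to_sup_of_normal_right' hfp hAp (zpowers_le.mpr (h18.1.1 hfE))
  have hBM : zpowers f ⊔ A ≤ M := sup_le (zpowers_le.mpr (hE.1 hfE)) hAM
  have hBab := Cfsg.Agent.S1420.comm_of_pgroup hG hM hp.2.1 hB hBM
  have hfA : f ∈ centralizer (A : Set G) := by
    rw [mem_centralizer_iff]
    intro a ha
    have h1 : a ∈ zpowers f ⊔ A := le_sup_right (a := zpowers f) ha
    have h2 : f ∈ zpowers f ⊔ A := le_sup_left (b := A) (mem_zpowers f)
    exact setLike_mul_comm h1 h2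
  obtain ⟨S, hSyl, hBS⟩ := exists_isSyl_ge (le_top : zpowers f ⊔ A ≤ ⊤) hB
  have hAS : A ≤ S := le_sup_right.trans hBS
  have hfS : f ∈ S := hBS (le_sup_left (b := A) (mem_zpowers f))
  have h1 := pow_mem_centralizer hG hMax hSyl hAS hfS hfA hfpp
  have hSC : S ≤ centralizer (A₀ : Set G) := by
    rw [hA₀z, Cfsg.Agent.Lib.Helper27BGa.centralizer_zpowers_eq]
    intro s hs
    rw [mem_centralizer_iff]
    intro w hw
    rw [Set.mem_singleton_iff.mp hw]
    exact (mem_centralizer_iff.mp h1 s hs).symm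
  have hne : sigmaCore M ⊓ centralizer (A₀ : Set G) ≠ ⊥ := by
    rw [hA₀z, Cfsg.Agent.Lib.Helper27BGa.centralizer_zpowers_eq]
    apply hnreg
    have : Commute f x := hfx
    exact this.pow_left _
  have hCM := (h18.2.2 A₀ inf_le_left h19.2.1.1 hne).1
  exact hS hSyl.toSylowTop (Cfsg.Agent.S1420.comm_of_pgroup hG hM hp.2.1 hSyl.2.1 (hSC.trans hCM))

end Cfsg.Agent.Lib.Helper31BG21nonabA
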