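import Cfsg.Agent.Lib.Helper51BG16
import Cfsg.Agent.Lib.Helper37BG
import Cfsg.Agent.Lib.Helper31Nilpotent
import Cfsg.Agent.S1357
import Cfsg.Agent.S1359
import Cfsg.Agent.S1360
import Cfsg.Agent.S1365

/-!
PROJECT 16, PART 2, piece `typeFder` (helper11).
-/

set_option autoImplicit false
open Cfsg

namespace Cfsg.Agent.Lib.Helper11BG16typeFder

open Subgroup
open scoped commutatorElement
open Cfsg.Agent.Lib.Helper30Trans Cfsg.Agent.Lib.Helper24BG Cfsg.Agent.Lib.Helper51BG16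

universe u
variable {G : Type u} [Group G] [Finite G]

/-- `(M')_F = M_σ`. -/
theorem fittingHallOf_eq (hG : IsMinSimpleOddOrder G) {M K U : Subgroup G} (hM : IsCoatom M)
    (hKU : IsSigmaDecomposition M K U) (hnil : Group.IsNilpotent (sigmaCore M))
    {D : Subgroup G} (hD : D = U ⊔ sigmaCore M) : fittingHallOf D = sigmaCore M := by
  set Ms := sigmaCore M with hMs
  have hMsM : Ms ≤ M := Cfsg.Agent.Lib.Helper2BGb.sigmaCore_le M
  have hUM : U ≤ M := hKU.compl.1
  have hDM : D ≤ M := hD ▸ sup_le hUM hMsM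
  have hMsD : Ms ≤ D := hD ▸ le_sup_right
  have hUD : U ≤ D := hD ▸ le_sup_left
  have hMn : M ≤ normalizer (Ms : Set G) := Cfsg.Agent.Lib.Helper2BGb.le_normalizer_sigmaCore M
  have hcD : Nat.card D = Nat.card U * Nat.card Ms := by rw [hD]; exact card_UMs hG hM hKU
  have hcop : (Nat.card U).Coprime (Nat.card Ms) := coprime_U_Ms hG hM hKU
  have hMs1 : Ms ≠ ⊥ := Cfsg.Agent.Lib.Helper3BGNotuniq.sigmaCore_ne_bot hG hM
  -- `≥`
  have hge : Ms ≤ fittingHallOf D := by
    have hn : (Ms.subgroupOf D).Normal := normal_subgroupOf_of_le_normalizer (hDM.trans hMn)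
    have hnl : Group.IsNilpotent ↥(Ms.subgroupOf D) :=
      (Group.isNilpotent_congr (subgroupOfEquivOfLe hMsD)).mpr hnil
    have hidx : (Ms.subgroupOf D).index = Nat.card U := by
      have h1 := (Ms.subgroupOf D).card_mul_index
      rw [Cfsg.Agent.Lib.Helper30SZ.card_subgroupOf_of_le hMsD, hcD, mul_comm] at h1
      exact Nat.eq_of_mul_eq_mul_right Nat.card_pos h1
    have hle : Ms.subgroupOf D ≤ fittingHall D := by
      apply le_sSup
      refine ⟨hn, hnl, ?_⟩
      rw [hidx, Cfsg.Agent.Lib.Helper30SZ.card_subgroupOf_of_le hMsD]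
      exact hcop.symm
    intro x hx
    exact ⟨⟨x, hMsD hx⟩, hle (mem_subgroupOf.mpr hx), rfl⟩
  set F := fittingHallOf D with hF
  have hFD : F ≤ D := map_subtype_le _
  have hFnil : Group.IsNilpotent F := fittingHallOf_nilpotent D
  have hFhall := fittingHallOf_hall D
  have hFn : D ≤ normalizer (F : Set G) := le_normalizer_fittingHallOf D
  obtain ⟨U₀, hU₀U, hexp, hU₀⟩ := Cfsg.Agent.S1360.result hG M hM K U hKU
  -- no prime divisor of `|U|` divides `|F|`
  have key : ∀ p : ℕ, p.Prime → p ∣ Nat.card U → ¬ p ∣ Nat.card F := by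
    intro p hp hpU hpF
    have : Fact p.Prime := ⟨hp⟩
    have hpe : p ∣ Monoid.exponent U := by
      obtain ⟨x, hx⟩ := exists_prime_orderOf_dvd_card' p hpU
      rw [← hx]; exact Monoid.order_dvd_exponent x
    rw [← hexp] at hpe
    have hpU₀ : p ∣ Nat.card U₀ := hpe.trans Group.exponent_dvd_nat_card
    obtain ⟨u, hu⟩ := exists_prime_orderOf_dvd_card' p hpU₀
    have hu' : orderOf (u : G) = p := by rw [Subgroup.orderOf_coe]; exact hu
    have huD : (u : G) ∈ D := hUD (hU₀U u.2)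
    have hpidx : ¬ p ∣ F.relIndex D := by
      intro h
      have := Nat.Coprime.eq_one_of_dvd (Nat.Coprime.coprime_dvd_left hpF hFhall) h
      exact hp.one_lt.ne' this
    have huF : zpowers (u : G) ≤ F := by
      apply Cfsg.Agent.Lib.Helper37BG.le_of_coprime_relIndex hFn (zpowers_le.mpr huD)
      rw [Nat.card_zpowers, hu']
      exact (Nat.Prime.coprime_iff_not_dvd hp).mpr hpidx
    have huF' : (u : G) ∈ F := huF (mem_zpowers _)
    obtain ⟨y, hy, hy1⟩ : ∃ y ∈ Ms, y ≠ 1 := by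
      obtain ⟨y, hy⟩ := (Subgroup.ne_bot_iff_exists_ne_one).mp hMs1
      exact ⟨y.1, y.2, fun h => hy (Subtype.ext h)⟩
    have hpMs : ¬ p ∣ Nat.card Ms := by
      intro h
      have := Nat.Coprime.eq_one_of_dvd (Nat.Coprime.coprime_dvd_left hpU hcop) h
      exact hp.one_lt.ne' this
    have hco : (orderOf (⟨u, huF'⟩ : F)).Coprime (orderOf (⟨y, hge hy⟩ : F)) := by
      rw [← Subgroup.orderOf_coe, ← Subgroup.orderOf_coe]
      show (orderOf (u : G)).Coprime (orderOf y)
      rw [hu']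
      apply (Nat.Prime.coprime_iff_not_dvd hp).mpr
      intro h
      apply hpMs
      have h2 : orderOf y ∣ Nat.card Ms := by
        have := orderOf_dvd_natCard (⟨y, hy⟩ : Ms)
        rwa [← Subgroup.orderOf_coe] at this
      exact h.trans h2
    have hcm := Cfsg.Agent.Lib.Helper31Nilpotent.coprime_commute F _ _ hco
    have hcm' : (u : G) * y = y * u := congrArg Subtype.val hcm
    have h1 : (u : G) = 1 := hU₀ u u.2 ⟨hDM huD, y, hy, hy1, hcm'⟩
    rw [h1, orderOf_one] at hu'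
    exact hp.one_lt.ne hu'
  -- conclusion
  symm
  apply eq_of_le_of_card_ge hge
  have h1 := Cfsg.Agent.Lib.Helper37BG.card_eq_mul_relIndex hge
  have h2 : Nat.card F ∣ Nat.card U * Nat.card Ms := hcD ▸ card_dvd_of_le hFD
  have h3 : Ms.relIndex F ∣ Nat.card U := by
    rw [h1, mul_comm] at h2
    exact Nat.dvd_of_mul_dvd_mul_right Nat.card_pos h2
  have h4 : Ms.relIndex F = 1 := by
    by_contra hne
    obtain ⟨p, hp, hpd⟩ := Nat.exists_prime_and_dvd hne
    exact key p hp (hpd.trans h3) (h1 ▸ (hpd.trans (Dvd.intro_left _ rfl)))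
  rw [h1, h4, mul_one]

/-- [typeFder] for `K ≠ 1 ≠ U` the derived group is of Frobenius type. -/
theorem typeF_derived (hG : IsMinSimpleOddOrder G) {M K U : Subgroup G} (hM : IsCoatom M)
    (hKU : IsSigmaDecomposition M K U) (hK1 : K ≠ ⊥) (hU1 : U ≠ ⊥) :
    IsOfTypeF ↥⁅M, M⁆ ∧ fittingHallOf ⁅M, M⁆ = fittingHallOf M := by
  have hH : fittingHallOf M = sigmaCore M := by
    by_contra hne
    exact hU1 (Cfsg.Agent.S1357.result hG M hM K U hKU hne).1
  have hnil : Group.IsNilpotent (sigmaCore M) := (fittingHallOf_eq_sigmaCore_iff hG hM).mp hH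
  have hD := (Cfsg.Agent.S1365.result hG M hM K U hKU hK1).1
  have hFD := fittingHallOf_eq hG hM hKU hnil hD
  refine ⟨?_, by rw [hFD, hH]⟩
  generalize ⁅M, M⁆ = D at hD hFD
  set Ms := sigmaCore M with hMs
  have hMsM : Ms ≤ M := Cfsg.Agent.Lib.Helper2BGb.sigmaCore_le M
  have hUM : U ≤ M := hKU.compl.1
  have hDM : D ≤ M := hD ▸ sup_le hUM hMsM
  have hMsD : Ms ≤ D := hD ▸ le_sup_right
  have hUD : U ≤ D := hD ▸ le_sup_left
  have hMn : M ≤ normalizer (Ms : Set G) := Cfsg.Agent.Lib.Helper2BGb.le_normalizer_sigmaCore M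
  have hcD : Nat.card D = Nat.card U * Nat.card Ms := by rw [hD]; exact card_UMs hG hM hKU
  have hcop : (Nat.card U).Coprime (Nat.card Ms) := coprime_U_Ms hG hM hKU
  have hMs1 : Ms ≠ ⊥ := Cfsg.Agent.Lib.Helper3BGNotuniq.sigmaCore_ne_bot hG hM
  have hmem : ∀ x : D, x ∈ fittingHall D ↔ (x : G) ∈ Ms := by
    intro x
    rw [← hFD]
    constructor
    · intro hx; exact ⟨x, hx, rfl⟩
    · rintro ⟨y, hy, hyx⟩
      have : y = x := Subtype.ext hyx
      rwa [← this]
  have hFeq : fittingHall D = Ms.subgroupOf D := by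
    ext x; rw [hmem, mem_subgroupOf]
  obtain ⟨U₀, hU₀U, hexp, hU₀⟩ := Cfsg.Agent.S1360.result hG M hM K U hKU
  have h59 := Cfsg.Agent.S1359.result hG M hM K U hKU
  set C := closure ((U : Set G) ∩ sigmaHat M) with hC
  have hCU : C ≤ U := (closure_le U).mpr Set.inter_subset_left
  have hUC : U ≤ normalizer (C : Set G) := by
    rw [hC, le_normalizer_closure_iff]
    rintro u hu a ⟨haU, haM, y, hy, hy1, hay⟩
    apply Subgroup.subset_closure
    refine ⟨U.mul_mem (U.mul_mem hu haU) (U.inv_mem hu),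
      M.mul_mem (M.mul_mem (hUM hu) haM) (M.inv_mem (hUM hu)), u * y * u⁻¹,
      (mem_normalizer_iff.mp (hMn (hUM hu)) y).mp hy, ?_, ?_⟩
    · intro h
      apply hy1
      have : y = u⁻¹ * (u * y * u⁻¹) * u := by group
      rw [this, h]; group
    · calc u * a * u⁻¹ * (u * y * u⁻¹) = u * (a * y) * u⁻¹ := by group
        _ = u * (y * a) * u⁻¹ := by rw [hay]
        _ = u * y * u⁻¹ * (u * a * u⁻¹) := by group
  refine ⟨sol hG (fun h => hM.1 (top_le_iff.mp (h ▸ hDM))), odd_sub hG D, ?_, ?_,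
    U.subgroupOf D, ?_, ?_, ⟨C.subgroupOf D, ?_, ?_, ?_, ?_⟩, ⟨U₀.subgroupOf D, ?_, ?_, ?_⟩⟩
  · intro h
    apply hMs1
    rw [← hFD]
    show (fittingHall D).map D.subtype = ⊥
    rw [h, Subgroup.map_bot]
  · intro h
    apply hU1
    have h1 : U ≤ Ms := by
      intro x hx
      exact (hmem ⟨x, hUD hx⟩).mp (h ▸ mem_top _)
    have h2 := hKU.compl.2.2.1
    exact le_bot_iff.mp (h2 ▸ le_inf le_rfl (h1.trans le_sup_right))
  · intro h
    apply hU1
    rw [eq_bot_iff]
    intro x hx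
    have : (⟨x, hUD hx⟩ : D) ∈ U.subgroupOf D := mem_subgroupOf.mpr hx
    rw [h, mem_bot] at this
    exact congrArg Subtype.val this
  · rw [hFeq]
    apply isComplement'_of_coprime
    · rw [Cfsg.Agent.Lib.Helper30SZ.card_subgroupOf_of_le hMsD,
        Cfsg.Agent.Lib.Helper30SZ.card_subgroupOf_of_le hUD, hcD, mul_comm]
    · rw [Cfsg.Agent.Lib.Helper30SZ.card_subgroupOf_of_le hMsD,
        Cfsg.Agent.Lib.Helper30SZ.card_subgroupOf_of_le hUD]; exact hcop.symm
  · intro x hx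
    exact mem_subgroupOf.mpr (hCU (mem_subgroupOf.mp hx))
  · intro x hx
    rw [mem_normalizer_iff]
    intro h
    rw [mem_subgroupOf, mem_subgroupOf]
    exact mem_normalizer_iff.mp (hUC (mem_subgroupOf.mp hx)) h
  · refine ⟨⟨fun a b => ?_⟩⟩
    apply Subtype.ext
    apply Subtype.ext
    have h := congrArg Subtype.val (h59.is_comm.comm (⟨a.1.1, mem_subgroupOf.mp a.2⟩ : C)
      ⟨b.1.1, mem_subgroupOf.mp b.2⟩)
    exact h
  · intro x hx hx1 g hg
    rw [mem_subgroupOf]
    apply Subgroup.subset_closure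
    have hgx : x * g = g * x := mem_centralizer_iff.mp hg.2 x rfl
    refine ⟨mem_subgroupOf.mp hg.1, hDM g.2, x.1, (hmem x).mp hx,
      fun h => hx1 (Subtype.ext h), (congrArg Subtype.val hgx).symm⟩
  · intro x hx
    exact mem_subgroupOf.mpr (hU₀U (mem_subgroupOf.mp hx))
  · rw [Monoid.exponent_eq_of_mulEquiv (subgroupOfEquivOfLe (hU₀U.trans hUD)),
      Monoid.exponent_eq_of_mulEquiv (subgroupOfEquivOfLe hUD), hexp]
  · intro u hu hu1 x hx hux
    by_contra hx1
    apply hu1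
    apply Subtype.ext
    exact hU₀ u.1 (mem_subgroupOf.mp hu) ⟨hDM u.2, x.1, (hmem x).mp hx,
      fun h => hx1 (Subtype.ext h), congrArg Subtype.val hux⟩

end Cfsg.Agent.Lib.Helper11BG16typeFder
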