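import Cfsg.Agent.Lib.Helper51BG16
import Cfsg.Agent.S1364

/-!
PROJECT 16, PART 2, piece `typeFimp` (helper11).
-/

set_option autoImplicit false
open Cfsg

namespace Cfsg.Agent.Lib.Helper11BG16typeFimp

open Subgroup
open scoped commutatorElement
open Cfsg.Agent.Lib.Helper30Trans Cfsg.Agent.Lib.Helper24BG Cfsg.Agent.Lib.Helper51BG16

universe u
variable {G : Type u} [Group G] [Finite G]

/-- [typeFimp] Frobenius type implies `K = 1`, `U ≠ 1`. -/
theorem of_typeF (hG : IsMinSimpleOddOrder G) {M K U : Subgroup G} (hM : IsCoatom M)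
    (hKU : IsSigmaDecomposition M K U) (h : IsOfTypeF ↥M) : K = ⊥ ∧ U ≠ ⊥ := by
  have hMs1 : sigmaCore M ≠ ⊥ := Cfsg.Agent.Lib.Helper3BGNotuniq.sigmaCore_ne_bot hG hM
  have hMsM : sigmaCore M ≤ M := Cfsg.Agent.Lib.Helper2BGb.sigmaCore_le M
  have hK : K = ⊥ := by
    by_contra hK1
    obtain ⟨-, -, -, -, U', -, hcompl, -, U₀, hU₀U', hexp, hreg⟩ := h
    have hc1 : Nat.card K ≠ 1 := fun h => hK1 (card_eq_one.mp h)
    obtain ⟨p, hp, hpK⟩ := Nat.exists_prime_and_dvd hc1
    have : Fact p.Prime := ⟨hp⟩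
    have hpκ : p ∈ kappa M := K_primes hKU p hp hpK
    have hpMs : ¬ p ∣ Nat.card (sigmaCore M) := by
      intro h
      exact hp.one_lt.ne' (Nat.Coprime.eq_one_of_dvd
        (Nat.Coprime.coprime_dvd_left hpK (coprime_K_Ms hG hM hKU)) h)
    have hcH : Nat.card (fittingHall M) = Nat.card (fittingHallOf M) :=
      (card_map_of_injective M.subtype_injective).symm
    have hpH : ¬ p ∣ Nat.card (fittingHall M) := by
      rw [hcH]
      intro h
      exact hpMs (h.trans (card_dvd_of_le (fittingHallOf_le_sigmaCore hG hM)))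
    have hpM : p ∣ Nat.card M := hpK.trans (card_dvd_of_le hKU.hall.1)
    have hpU' : p ∣ Nat.card U' := by
      rw [← hcompl.card_mul_card] at hpM
      exact (hp.dvd_mul.mp hpM).resolve_left hpH
    have hpe : p ∣ Monoid.exponent U' := by
      obtain ⟨x, hx⟩ := exists_prime_orderOf_dvd_card' p hpU'
      rw [← hx]; exact Monoid.order_dvd_exponent x
    rw [← hexp] at hpe
    have hpU₀ : p ∣ Nat.card U₀ := hpe.trans Group.exponent_dvd_nat_card
    obtain ⟨u, hu⟩ := exists_prime_orderOf_dvd_card' p hpU₀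
    have hu' : orderOf ((u : M) : G) = p := by
      rw [Subgroup.orderOf_coe, Subgroup.orderOf_coe]; exact hu
    have hu1 : (u : M) ≠ 1 := by
      intro h
      rw [h] at hu'
      simp at hu'
      exact hp.one_lt.ne hu'
    obtain ⟨m, hm, hle⟩ := exists_cj_le_K hG hM hKU.hall (Y := zpowers ((u : M) : G))
      (zpowers_le.mpr (u : M).2) (by
        intro q hq hqd
        rw [Nat.card_zpowers, hu'] at hqd
        rw [(Nat.prime_dvd_prime_iff_eq hq hp).mp hqd]; exact hpκ)
    have hk : m * ((u : M) : G) * m⁻¹ ∈ K := hle (conj_mem_cj (mem_zpowers _))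
    have h64 := Cfsg.Agent.S1364.result hG M hM K U hKU hK1
    obtain ⟨y, hy, hy1⟩ := exists_ne_one_of_ne_bot' h64.2.1
    have hcm : m * ((u : M) : G) * m⁻¹ * y = y * (m * ((u : M) : G) * m⁻¹) :=
      mem_centralizer_iff.mp hy.2 _ hk
    have hyH : m⁻¹ * y * m ∈ fittingHallOf M := by
      have := (mem_normalizer_iff.mp (le_normalizer_fittingHallOf M (M.inv_mem hm)) y).mp
        (h64.2.2.1 hy)
      simpa using this
    obtain ⟨x, hx, hxe⟩ := hyH
    have hxe' : (x : G) = m⁻¹ * y * m := hxe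
    have hux : (u : M) * x = x * u := by
      apply Subtype.ext
      show ((u : M) : G) * (x : G) = (x : G) * ((u : M) : G)
      rw [hxe']
      calc ((u : M) : G) * (m⁻¹ * y * m) = m⁻¹ * (m * ((u : M) : G) * m⁻¹ * y) * m := by group
        _ = m⁻¹ * (y * (m * ((u : M) : G) * m⁻¹)) * m := by rw [hcm]
        _ = m⁻¹ * y * m * ((u : M) : G) := by group
    have hx1 := hreg u u.2 hu1 x hx hux
    apply hy1
    rw [hx1] at hxe'
    have : y = m * (m⁻¹ * y * m) * m⁻¹ := by group
    rw [this, ← hxe']; simp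
  refine ⟨hK, ?_⟩
  intro hU
  have hs : Group.IsSolvable M := sol hG hM.1
  have hle : M ≤ sigmaCore M := by
    intro m hm
    obtain ⟨a, ha, b, hb, rfl⟩ := hKU.compl.2.2.2 m hm
    rw [hU, mem_bot] at ha
    rw [hK, bot_sup_eq] at hb
    rw [ha, one_mul]; exact hb
  have hder := Cfsg.Agent.Lib.Helper2BGb.sigmaCore_le_derived hG hM
  have hnt : Nontrivial M := by
    rw [Subgroup.nontrivial_iff_ne_bot]
    intro h
    exact hMs1 (le_bot_iff.mp (h ▸ hMsM))
  have hlt := Group.IsSolvable.commutator_lt_top_of_nontrivial (G := M)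
  apply hlt.ne
  rw [eq_top_iff]
  intro x _
  have hx : (x : G) ∈ ⁅M, M⁆ := hder (hle x.2)
  rw [← map_subtype_commutator] at hx
  obtain ⟨y, hy, hyx⟩ := hx
  have : y = x := Subtype.ext hyx
  rwa [← this]

end Cfsg.Agent.Lib.Helper11BG16typeFimp
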