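import Cfsg.Agent.Lib.Helper27BG16basic
import Cfsg.Agent.Lib.Helper27BG16fhall
import Cfsg.Agent.Lib.Helper56BG15Defs
import Cfsg.Agent.Lib.Helper30Bender
import Cfsg.Agent.Lib.Helper2KWa
import Cfsg.Agent.S1351
import Cfsg.Agent.S1352
import Cfsg.Agent.S1420

/-! PROJECT 15 (architect helper56), piece `der2`: `M'' ≤ F(M)` (relative to `bg152`). -/

set_option autoImplicit false
open Cfsg

namespace Cfsg.Agent.Lib.Helper15BG15der2

open Subgroup
open Cfsg.Agent.Lib.Helper30Trans Cfsg.Agent.Lib.Helper24BG Cfsg.Agent.Lib.Helper56BG15Defs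

universe u
variable {G : Type u} [Group G] [Finite G]

/-- a complement from the orders -/
theorem complIn_of_card {Q D Y : Subgroup G} (hQ : Q ≤ Y) (hD : D ≤ Y) (hi : Q ⊓ D = ⊥)
    (hc : Nat.card Q * Nat.card D = Nat.card Y) : IsComplIn Q D Y := by
  refine ⟨hQ, hD, hi, ?_⟩
  let f : Q × D → Y := fun x => ⟨x.1 * x.2, Y.mul_mem (hQ x.1.2) (hD x.2.2)⟩
  have hf : Function.Injective f := by
    rintro ⟨a, b⟩ ⟨a', b'⟩ h
    have h1 : (a : G) * b = a' * b' := congrArg Subtype.val h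
    have h2 : (a' : G)⁻¹ * a = b' * (b : G)⁻¹ := by
      rw [inv_mul_eq_iff_eq_mul, ← mul_assoc, eq_mul_inv_iff_mul_eq]
      exact h1
    have h3 : (a' : G)⁻¹ * a ∈ Q ⊓ D :=
      ⟨Q.mul_mem (Q.inv_mem a'.2) a.2, h2 ▸ D.mul_mem b'.2 (D.inv_mem b.2)⟩
    rw [hi, mem_bot] at h3
    have h4 : (a : G) = a' := (inv_mul_eq_one.1 h3).symm
    have h5 : (b : G) = b' := by
      rw [h4] at h1
      exact mul_left_cancel h1
    exact Prod.ext (Subtype.ext h4) (Subtype.ext h5)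
  have hb : Function.Bijective f :=
    (Nat.bijective_iff_injective_and_card f).2 ⟨hf, by rw [Nat.card_prod, hc]⟩
  intro m hm
  obtain ⟨⟨a, b⟩, hab⟩ := hb.2 ⟨m, hm⟩
  exact ⟨a, a.2, b, b.2, (congrArg Subtype.val hab).symm⟩

/-- two nilpotent subgroups centralising each other generate a nilpotent subgroup -/
theorem nilpotent_sup_of_centralizer {A B : Subgroup G} (hA : Group.IsNilpotent A)
    (hB : Group.IsNilpotent B) (h : B ≤ centralizer (A : Set G)) : Group.IsNilpotent ↥(A ⊔ B) := by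
  have h' : A ≤ centralizer (B : Set G) := le_centralizer_iff.1 h
  have hAn : A ⊔ B ≤ normalizer (A : Set G) :=
    sup_le le_normalizer (h.trans (centralizer_le_normalizer _))
  have hBn : A ⊔ B ≤ normalizer (B : Set G) :=
    sup_le (h'.trans (centralizer_le_normalizer _)) le_normalizer
  have h1 : A ⊔ B ≤ fittingOf (A ⊔ B) :=
    sup_le (Cfsg.Agent.Lib.Helper30Bender.le_fittingOf le_sup_left hAn hA)
      (Cfsg.Agent.Lib.Helper30Bender.le_fittingOf le_sup_right hBn hB)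
  have h2 : fittingOf (A ⊔ B) = A ⊔ B := le_antisymm (Cfsg.Agent.Lib.Helper30Bender.fittingOf_le _) h1
  have h3 := Cfsg.Agent.Lib.Helper30Bender.fittingOf_isNilpotent (A ⊔ B)
  rwa [h2] at h3

/-- existence of a complement to the normal Sylow subgroup `Q` of `M_σ` -/
theorem exists_compl_Q {M Ms K Q : Subgroup G} {q : ℕ} (hq : q.Prime) (hMs : Ms ≤ M)
    (hQ : QData M Ms K q Q) : ∃ D : Subgroup G, IsComplIn Q D Ms := by
  haveI : Fact q.Prime := ⟨hq⟩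
  have hcop : (Nat.card Q).Coprime (Q.relIndex Ms) := by
    obtain ⟨n, hn⟩ := IsPGroup.iff_card.1 hQ.pg
    rw [hn]
    exact Nat.Coprime.pow_left _ ((Nat.Prime.coprime_iff_not_dvd hq).2 hQ.syl)
  obtain ⟨D, hD, hi, hc⟩ := Cfsg.Agent.Lib.Helper2BGc.exists_compl_of_normal_hall hQ.le
    (hMs.trans hQ.norm) hcop
  exact ⟨D, complIn_of_card hQ.le hD hi hc⟩

/-- piece `der2` = S1356(1), relative to `bg152` -/
theorem der2_le_fitting_of (hG : IsMinSimpleOddOrder G) {M : Subgroup G} (hM : IsCoatom M)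
    (h152 : ∀ {K U : Subgroup G}, IsSigmaDecomposition M K U → fittingHallOf M ≠ sigmaCore M →
      U = ⊥ ∧ sigmaCore M = ⁅M, M⁆ ∧ (Nat.card K).Prime ∧
      P1Data M (sigmaCore M) K (Nat.card ↥(sigmaCore M ⊓ centralizer (K : Set G))) ∧
      Nat.card ↥(sigmaCore M ⊓ centralizer (K : Set G)) ∈ beta M ∧
      ∃ Q : Subgroup G, QData M (sigmaCore M) K (Nat.card ↥(sigmaCore M ⊓ centralizer (K : Set G))) Q ∧
        Q ≤ fittingHallOf M ∧
        Nat.card ↥(sigmaCore M ⊓ centralizer (K : Set G)) ∣ Nat.card (fittingHallOf M) ∧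
        ∀ D : Subgroup G, IsComplIn Q D (sigmaCore M) →
          Concl M K (Nat.card ↥(sigmaCore M ⊓ centralizer (K : Set G))) Q D) :
    ⁅⁅M, M⁆, ⁅M, M⁆⁆ ≤ fittingOf M := by
  obtain ⟨⟨K, hK⟩, hKc⟩ := Cfsg.Agent.S1351.result hG M hM
  obtain ⟨⟨U, hKU⟩, -⟩ := Cfsg.Agent.S1352.result hG M hM K (hKc K hK) hK
  have hMsM : sigmaCore M ≤ M := Cfsg.Agent.Lib.Helper2BGb.sigmaCore_le M
  have hMsn : M ≤ normalizer (sigmaCore M : Set G) := Cfsg.Agent.Lib.Helper2BGb.le_normalizer_sigmaCore M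
  by_cases hnil : Group.IsNilpotent (sigmaCore M)
  · -- `M_σ` nilpotent
    have hE := Cfsg.Agent.Lib.Helper27BG16basic.compl_KU hG hM hKU
    set E := K ⊔ U with hEdef
    have hab : IsMulCommutative ↥⁅E, E⁆ := (Cfsg.Agent.S1420.result hG M hM E hE).2.1
    have h1 : ⁅M, M⁆ ≤ sigmaCore M ⊔ ⁅E, E⁆ :=
      Cfsg.Agent.Lib.Helper2BGa.commutator_le_sup hE.1 hMsn hE.2.2.2
    have hE'M : ⁅E, E⁆ ≤ M := (commutator_le_self E).trans hE.1
    have hXM : sigmaCore M ⊔ ⁅E, E⁆ ≤ M := sup_le hMsM hE'M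
    have h2 : ⁅sigmaCore M ⊔ ⁅E, E⁆, sigmaCore M ⊔ ⁅E, E⁆⁆ ≤ sigmaCore M ⊔ ⁅⁅E, E⁆, ⁅E, E⁆⁆ := by
      refine Cfsg.Agent.Lib.Helper2BGa.commutator_le_sup le_sup_right (hXM.trans hMsn) ?_
      intro m hm
      have hm' : m⁻¹ ∈ sigmaCore M ⊔ ⁅E, E⁆ := inv_mem hm
      obtain ⟨n, hn, a, ha, hna⟩ := (Cfsg.Agent.Lib.Helper30SZ.mem_sup_iff (hE'M.trans hMsn)).1 hm'
      refine ⟨a⁻¹, inv_mem ha, n⁻¹, inv_mem hn, ?_⟩
      rw [← mul_inv_rev, ← hna, inv_inv]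
    have h3 : ⁅⁅E, E⁆, ⁅E, E⁆⁆ = ⊥ := by
      rw [commutator_eq_bot_iff_le_centralizer]
      intro x hx
      rw [mem_centralizer_iff]
      intro y hy
      have := hab.is_comm.comm ⟨y, hy⟩ ⟨x, hx⟩
      exact congrArg Subtype.val this
    rw [h3, sup_bot_eq] at h2
    exact ((commutator_mono h1 h1).trans h2).trans
      (Cfsg.Agent.Lib.Helper30Bender.le_fittingOf hMsM hMsn hnil)
  · -- `M_σ` not nilpotent
    have hne : fittingHallOf M ≠ sigmaCore M := fun h =>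
      hnil ((Cfsg.Agent.Lib.Helper27BG16fhall.fittingHallOf_eq_sigmaCore_iff hG hM).1 h)
    obtain ⟨-, hder, -, hP, -, Q, hQ, -, -, hall⟩ := h152 hKU hne
    obtain ⟨D, hD⟩ := exists_compl_Q hP.qp hMsM hQ
    obtain ⟨hDnil, -, -, -, -, -, hDQ⟩ := hall D hD
    rw [← hder]
    have h1 : ⁅sigmaCore M, sigmaCore M⁆ ≤ Q ⊔ ⁅D, D⁆ := by
      refine Cfsg.Agent.Lib.Helper2BGa.commutator_le_sup hD.2.1 (hMsM.trans hQ.norm) ?_
      intro m hm
      obtain ⟨a, ha, b, hb, hab⟩ := hD.2.2.2 m⁻¹ (inv_mem hm)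
      refine ⟨b⁻¹, inv_mem hb, a⁻¹, inv_mem ha, ?_⟩
      rw [← mul_inv_rev, ← hab, inv_inv]
    haveI : Fact (Nat.card ↥(sigmaCore M ⊓ centralizer (K : Set G))).Prime := ⟨hP.qp⟩
    have hQnil : Group.IsNilpotent Q := hQ.pg.isNilpotent
    have hD'nil : Group.IsNilpotent ↥⁅D, D⁆ :=
      Cfsg.Agent.Lib.Helper2KWa.isNilpotent_of_le hDnil (commutator_le_self D)
    have hX := nilpotent_sup_of_centralizer hQnil hD'nil hDQ
    refine Cfsg.Agent.Lib.Helper30Bender.le_fittingOf ((commutator_le_self _).trans hMsM) ?_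
      (Cfsg.Agent.Lib.Helper2KWa.isNilpotent_of_le hX h1)
    -- `M` normalises `[M_σ, M_σ]`
    rw [le_normalizer_iff]
    intro g hg x hx
    have hmap : (⁅sigmaCore M, sigmaCore M⁆).map (MulAut.conj g).toMonoidHom =
        ⁅sigmaCore M, sigmaCore M⁆ := by
      rw [map_commutator]
      have : (sigmaCore M).map (MulAut.conj g).toMonoidHom = sigmaCore M :=
        cj_eq_self_of_mem_normalizer (hMsn hg)
      rw [this]
    rw [← hmap]
    exact ⟨x, hx, rfl⟩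

end Cfsg.Agent.Lib.Helper15BG15der2
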