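import Cfsg.Agent.Lib.Helper15BG15der2
import Cfsg.Agent.Lib.Helper37BG14kbasic
import Cfsg.Agent.Lib.Helper3BGNotuniq
import Cfsg.Agent.Lib.Helper31Nilpotent

/-! PROJECT 15 (architect helper56), piece `fitprod`: `F(M) = C_M(M_F) M_F` (relative to `bg152`, `cent_hall`). -/

set_option autoImplicit false
open Cfsg

namespace Cfsg.Agent.Lib.Helper15BG15fitprod

open Subgroup
open Cfsg.Agent.Lib.Helper30Trans Cfsg.Agent.Lib.Helper24BG Cfsg.Agent.Lib.Helper56BG15Defs
  Cfsg.Agent.Lib.Helper15BG15der2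

universe u
variable {G : Type u} [Group G] [Finite G]

omit [Finite G] in
theorem norm_inf_centralizer {M N : Subgroup G} (h : M ≤ normalizer (N : Set G)) :
    M ≤ normalizer ((M ⊓ centralizer (N : Set G) : Subgroup G) : Set G) := by
  rw [le_normalizer_iff]
  rintro g hg x ⟨hxM, hxC⟩
  refine ⟨M.mul_mem (M.mul_mem hg hxM) (M.inv_mem hg), ?_⟩
  show g * x * g⁻¹ ∈ centralizer (N : Set G)
  rw [mem_centralizer_iff]
  intro y hy
  have hy' : g⁻¹ * y * g ∈ N := by
    have := (le_normalizer_iff.mp h) g⁻¹ (inv_mem hg) y hy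
    simpa using this
  have hc := mem_centralizer_iff.mp hxC _ hy'
  calc y * (g * x * g⁻¹) = g * ((g⁻¹ * y * g) * x) * g⁻¹ := by group
    _ = g * (x * (g⁻¹ * y * g)) * g⁻¹ := by rw [hc]
    _ = g * x * g⁻¹ * y := by group

omit [Finite G] in
theorem nilpotent_of_cyclic {X : Subgroup G} (h : IsCyclic X) : Group.IsNilpotent X := by
  letI : CommGroup X := IsCyclic.commGroup
  exact CommGroup.isNilpotent

/-- `C_{QD}(Q)` is nilpotent if `D` is -/
theorem nilpotent_cent {Ms Q D : Subgroup G} (hD : IsComplIn Q D Ms) (hn : Ms ≤ normalizer (Q : Set G))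
    (hDnil : Group.IsNilpotent D) : Group.IsNilpotent ↥(Ms ⊓ centralizer (Q : Set G)) := by
  haveI hN : (Q.subgroupOf Ms).Normal := (normal_subgroupOf_iff_le_normalizer hD.1).mpr hn
  have hsurj : Function.Surjective
      ((QuotientGroup.mk' (Q.subgroupOf Ms)).comp (inclusion hD.2.1)) := by
    intro y
    obtain ⟨m, rfl⟩ := QuotientGroup.mk'_surjective _ y
    obtain ⟨a, ha, b, hb, hab⟩ := hD.2.2.2 m m.2
    refine ⟨⟨b, hb⟩, ?_⟩
    simp only [MonoidHom.comp_apply, QuotientGroup.mk'_apply]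
    rw [QuotientGroup.eq]
    rw [mem_subgroupOf]
    have : (((inclusion hD.2.1 ⟨b, hb⟩)⁻¹ * m : Ms) : G) = b⁻¹ * a * b := by
      simp only [Subgroup.coe_mul, InvMemClass.coe_inv, coe_inclusion]
      rw [hab]
      group
    rw [this]
    have := (le_normalizer_iff.mp hn) b⁻¹ (inv_mem (hD.2.1 hb)) a ha
    simpa using this
  haveI : Group.IsNilpotent (↥Ms ⧸ Q.subgroupOf Ms) := Group.nilpotent_of_surjective _ hsurj
  refine Subgroup.isNilpotent_of_ker_le_center
    ((QuotientGroup.mk' (Q.subgroupOf Ms)).comp (inclusion (inf_le_left : Ms ⊓ centralizer (Q : Set G) ≤ Ms))) ?_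
  intro x hx
  rw [MonoidHom.mem_ker, MonoidHom.comp_apply, QuotientGroup.mk'_apply, QuotientGroup.eq_one_iff,
    mem_subgroupOf] at hx
  have hxQ : (x : G) ∈ Q := hx
  rw [mem_center_iff]
  intro y
  apply Subtype.ext
  have := mem_centralizer_iff.mp y.2.2 _ hxQ
  simpa using this.symm

/-- piece `fitprod` = S1356(2), relative to `bg152` and `cent_hall` -/
theorem fitting_eq_of (hG : IsMinSimpleOddOrder G) {M : Subgroup G} (hM : IsCoatom M)
    (h152 : ∀ {K U : Subgroup G}, IsSigmaDecomposition M K U → fittingHallOf M ≠ sigmaCore M →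
      U = ⊥ ∧ sigmaCore M = ⁅M, M⁆ ∧ (Nat.card K).Prime ∧
      P1Data M (sigmaCore M) K (Nat.card ↥(sigmaCore M ⊓ centralizer (K : Set G))) ∧
      Nat.card ↥(sigmaCore M ⊓ centralizer (K : Set G)) ∈ beta M ∧
      ∃ Q : Subgroup G, QData M (sigmaCore M) K (Nat.card ↥(sigmaCore M ⊓ centralizer (K : Set G))) Q ∧
        Q ≤ fittingHallOf M ∧
        Nat.card ↥(sigmaCore M ⊓ centralizer (K : Set G)) ∣ Nat.card (fittingHallOf M) ∧
        ∀ D : Subgroup G, IsComplIn Q D (sigmaCore M) →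
          Concl M K (Nat.card ↥(sigmaCore M ⊓ centralizer (K : Set G))) Q D)
    (hcent : ∀ {H : Subgroup G}, H ≤ sigmaCore M → H ≠ ⊥ →
      (Nat.card H).Coprime (H.relIndex (sigmaCore M)) →
      ∃ X : Subgroup G, IsCyclic X ∧ (∀ p : ℕ, p.Prime → p ∣ Nat.card X → p ∈ tau2 M) ∧
        M ⊓ centralizer (H : Set G) = (sigmaCore M ⊓ centralizer (H : Set G)) ⊔ X) :
    fittingOf M = (M ⊓ centralizer (fittingHallOf M : Set G)) ⊔ fittingHallOf M := by
  obtain ⟨⟨K, hK⟩, hKc⟩ := Cfsg.Agent.S1351.result hG M hM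
  obtain ⟨⟨U, hKU⟩, -⟩ := Cfsg.Agent.S1352.result hG M hM K (hKc K hK) hK
  have hMsM : sigmaCore M ≤ M := Cfsg.Agent.Lib.Helper2BGb.sigmaCore_le M
  have hMsn : M ≤ normalizer (sigmaCore M : Set G) := Cfsg.Agent.Lib.Helper2BGb.le_normalizer_sigmaCore M
  have hMFM : fittingHallOf M ≤ M := map_subtype_le _
  have hMFn := Cfsg.Agent.Lib.Helper27BG16fhall.le_normalizer_fittingHallOf M
  have hMFnil := Cfsg.Agent.Lib.Helper27BG16fhall.fittingHallOf_nilpotent M
  have hMFF : fittingHallOf M ≤ fittingOf M := Cfsg.Agent.Lib.Helper30Bender.le_fittingOf hMFM hMFn hMFnil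
  have hFnil := Cfsg.Agent.Lib.Helper30Bender.fittingOf_isNilpotent M
  have hFM := Cfsg.Agent.Lib.Helper30Bender.fittingOf_le M
  -- nilpotency of the centralizer
  have hCnil : Group.IsNilpotent ↥(M ⊓ centralizer (fittingHallOf M : Set G)) := by
    by_cases hnil : Group.IsNilpotent (sigmaCore M)
    · have hMF : fittingHallOf M = sigmaCore M :=
        (Cfsg.Agent.Lib.Helper27BG16fhall.fittingHallOf_eq_sigmaCore_iff hG hM).2 hnil
      rw [hMF]
      obtain ⟨X, hXc, -, hX⟩ := hcent (H := sigmaCore M) le_rfl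
        (Cfsg.Agent.Lib.Helper3BGNotuniq.sigmaCore_ne_bot hG hM) (by rw [relIndex_self]; exact Nat.coprime_one_right _)
      rw [hX]
      refine nilpotent_sup_of_centralizer
        (Cfsg.Agent.Lib.Helper2KWa.isNilpotent_of_le hnil inf_le_left) (nilpotent_of_cyclic hXc) ?_
      have h1 : X ≤ M ⊓ centralizer (sigmaCore M : Set G) := hX ▸ le_sup_right
      exact (h1.trans inf_le_right).trans (centralizer_le (by
        intro z hz
        exact hz.1))
    · have hne : fittingHallOf M ≠ sigmaCore M := fun h =>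
        hnil ((Cfsg.Agent.Lib.Helper27BG16fhall.fittingHallOf_eq_sigmaCore_iff hG hM).1 h)
      obtain ⟨hU, -, -, hP, -, Q, hQ, hQMF, -, hall⟩ := h152 hKU hne
      obtain ⟨D, hD⟩ := exists_compl_Q hP.qp hMsM hQ
      obtain ⟨hDnil, -⟩ := hall D hD
      have hq := hP.qp
      have hQ1 : Q ≠ ⊥ := by
        intro h
        have h1 : sigmaCore M ⊓ centralizer (K : Set G) = ⊥ := by
          rw [eq_bot_iff, ← h]; exact hQ.Ks
        have h2 := hP.card
        rw [h1] at hq
        simp at hq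
        exact Nat.not_prime_one hq
      have hcop : (Nat.card Q).Coprime (Q.relIndex (sigmaCore M)) := by
        haveI : Fact (Nat.card ↥(sigmaCore M ⊓ centralizer (K : Set G))).Prime := ⟨hq⟩
        obtain ⟨n, hn⟩ := IsPGroup.iff_card.1 hQ.pg
        rw [hn]
        exact Nat.Coprime.pow_left _ ((Nat.Prime.coprime_iff_not_dvd hq).2 hQ.syl)
      obtain ⟨X, -, hXt, hX⟩ := hcent hQ.le hQ1 hcop
      have hXM : X ≤ M := (hX ▸ le_sup_right : X ≤ M ⊓ centralizer (Q : Set G)).trans inf_le_left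
      have hX1 : X = ⊥ := by
        by_contra hne1
        have hc1 : Nat.card X ≠ 1 := fun h => hne1 (card_eq_one.mp h)
        obtain ⟨p, hp, hpd⟩ := Nat.exists_prime_and_dvd hc1
        have ht := hXt p hp hpd
        have hpM : p ∣ Nat.card M := hpd.trans (card_dvd_of_le hXM)
        rw [Cfsg.Agent.Lib.Helper27BG16basic.card_eq hG hM hKU, hU] at hpM
        simp only [card_bot, one_mul] at hpM
        rcases (Nat.Prime.dvd_mul hp).1 hpM with h | h
        · exact Cfsg.Agent.Lib.Helper37BG14kbasic.kappa_not_tau2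
            (Cfsg.Agent.Lib.Helper27BG16basic.K_primes hKU p hp h) ht
        · exact ht.2.1 (Cfsg.Agent.Lib.Helper2BGb.card_sigmaCore M p hp h)
      rw [hX1, sup_bot_eq] at hX
      have h1 : M ⊓ centralizer (fittingHallOf M : Set G) ≤ sigmaCore M ⊓ centralizer (Q : Set G) := by
        rw [← hX]
        exact inf_le_inf_left _ (centralizer_le hQMF)
      exact Cfsg.Agent.Lib.Helper2KWa.isNilpotent_of_le
        (nilpotent_cent hD (hMsM.trans hQ.norm) hDnil) h1
  apply le_antisymm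
  · -- `F(M) ≤ C_M(M_F) M_F`
    have hHall : ∀ p : ℕ, p.Prime → p ∣ Nat.card (fittingHallOf M) →
        ¬ p ∣ (fittingHallOf M).relIndex (fittingOf M) := by
      intro p hp hpd hpi
      have h1 := Cfsg.Agent.Lib.Helper27BG16fhall.fittingHallOf_hall M
      have h2 : (fittingHallOf M).relIndex (fittingOf M) ∣ (fittingHallOf M).relIndex M :=
        Dvd.intro _ (relIndex_mul_relIndex _ _ _ hMFF hFM)
      exact hp.one_lt.ne' (Nat.eq_one_of_dvd_coprimes h1 hpd (hpi.trans h2))
    intro x hx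
    refine Cfsg.Agent.Lib.Helper2BGa.mem_of_primary _ x rfl ?_
    rintro p hp y hy ⟨k, hk⟩
    have hyF : y ∈ fittingOf M := (zpowers_le.mpr hx) hy
    by_cases hpd : p ∣ Nat.card (fittingHallOf M)
    · refine mem_sup_right (Cfsg.Agent.Lib.Helper2BGa.mem_hall_of_nilpotent hFnil hMFF hHall _ y rfl hyF ?_)
      intro r hr hrd
      rw [hk] at hrd
      rw [(Nat.prime_dvd_prime_iff_eq hr hp).1 (hr.dvd_of_dvd_pow hrd)]
      exact hpd
    · refine mem_sup_left ⟨hFM hyF, ?_⟩
      show y ∈ centralizer (fittingHallOf M : Set G)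
      rw [mem_centralizer_iff]
      intro z hz
      have hzo : orderOf z ∣ Nat.card (fittingHallOf M) := by
        have := orderOf_dvd_natCard (⟨z, hz⟩ : fittingHallOf M)
        rwa [Subgroup.orderOf_mk] at this
      have hco : (orderOf z).Coprime (orderOf y) := by
        rw [hk]
        refine Nat.Coprime.pow_right _ ?_
        exact Nat.Coprime.coprime_dvd_left hzo ((Nat.Prime.coprime_iff_not_dvd hp).2 hpd).symm
      have := Cfsg.Agent.Lib.Helper31Nilpotent.coprime_commute (fittingOf M) ⟨z, hMFF hz⟩ ⟨y, hyF⟩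
        (by rw [Subgroup.orderOf_mk, Subgroup.orderOf_mk]; exact hco)
      exact congrArg Subtype.val this
  · exact sup_le (Cfsg.Agent.Lib.Helper30Bender.le_fittingOf inf_le_left (norm_inf_centralizer hMFn) hCnil) hMFF

end Cfsg.Agent.Lib.Helper15BG15fitprod
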