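import Cfsg.Agent.Lib.Helper51BG16
import Cfsg.Agent.Lib.Helper30Bender
import Cfsg.Agent.Lib.Helper37BG14kbasic
import Cfsg.Agent.S1439
import Cfsg.Agent.S1351
import Cfsg.Agent.S1352
import Cfsg.Agent.S1365

/-!
PROJECT 15, piece `fitder` (helper68): `F(M) ≤ M'` when `κ(M) ≠ ∅` (= S1356(3)).
-/

set_option autoImplicit false
open Cfsg

namespace Cfsg.Agent.Lib.Helper68BG15fitder

open Subgroup
open Cfsg.Agent.Lib.Helper30Trans Cfsg.Agent.Lib.Helper24BG

universe u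
variable {G : Type u} [Group G] [Finite G]

/-- piece `fitder` = S1356(3) -/
theorem fitting_le_der (hG : IsMinSimpleOddOrder G) {M : Subgroup G} (hM : IsCoatom M)
    (hk : (kappa M).Nonempty) : fittingOf M ≤ ⁅M, M⁆ := by
  obtain ⟨⟨K, hK⟩, hcyc⟩ := Cfsg.Agent.S1351.result hG M hM
  obtain ⟨⟨U, hKU⟩, -⟩ := Cfsg.Agent.S1352.result hG M hM K (hcyc K hK) hK
  have hK1 : K ≠ ⊥ := by
    intro h
    have := (Cfsg.Agent.Lib.Helper51BG16.kappa_eq_empty_iff hK).mpr h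
    rw [this] at hk
    exact Set.not_nonempty_empty hk
  obtain ⟨hder, -⟩ := Cfsg.Agent.S1365.result hG M hM K U hKU hK1
  obtain ⟨-, hτ, hF⟩ := Cfsg.Agent.S1439.result hG M hM
  rw [hF, hder]
  refine sup_le ?_ ?_
  · exact (Cfsg.Agent.Lib.Helper30Bender.fittingOf_le _).trans le_sup_right
  · refine Cfsg.Agent.Lib.Helper51BG16.le_UMs hG hM hKU
      ((piCoreOf_le _ _).trans (Cfsg.Agent.Lib.Helper30Bender.fittingOf_le _)) ?_
    intro p hp hpd hκ
    exact Cfsg.Agent.Lib.Helper37BG14kbasic.kappa_not_tau2 hκ (hτ p hp hpd)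

end Cfsg.Agent.Lib.Helper68BG15fitder
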