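import Cfsg.Agent.Lib.Helper27BG16basic
import Cfsg.Agent.Lib.Helper56BG15Defs
import Cfsg.Agent.Lib.Helper37BG14kbasic
import Cfsg.Agent.Lib.Helper30SZ
import Cfsg.Agent.S1351
import Cfsg.Agent.S1352
import Cfsg.Agent.S1359
import Cfsg.Agent.S1417
import Cfsg.Agent.S1430
import Cfsg.Agent.S1431
import Cfsg.Agent.S1432

/-!
PROJECT 15, piece `centhall` (B-G 15.4(a)).
-/

set_option autoImplicit false
set_option linter.style.haveILetI false
open Cfsg

namespace Cfsg.Agent.Lib.Helper86BG15centhall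

open Subgroup
open Cfsg.Agent.Lib.Helper30Trans Cfsg.Agent.Lib.Helper24BG Cfsg.Agent.Lib.Helper56BG15Defs
  Cfsg.Agent.Lib.Helper27BG16basic Cfsg.Agent.Lib.Helper2BGa Cfsg.Agent.Lib.Helper2BGb
  Cfsg.Agent.Lib.Helper2BGc

universe u
variable {G : Type u} [Group G] [Finite G]

/-- Schur-Zassenhaus, in a convenient form -/
theorem exists_compl {K Y : Subgroup G} (hKY : K ≤ Y)
    (hn : Y ≤ normalizer (K : Set G)) (hcop : (Nat.card K).Coprime (K.relIndex Y)) :
    ∃ H : Subgroup G, H ≤ Y ∧ K ⊓ H = ⊥ ∧ Nat.card K * Nat.card H = Nat.card Y ∧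
      (Nat.card H).Coprime (Nat.card K) ∧ K ⊔ H = Y := by
  obtain ⟨H, hHY, hKH, hc⟩ := exists_compl_of_normal_hall hKY hn hcop
  have h1 : Nat.card K * K.relIndex Y = Nat.card Y := by
    have := relIndex_mul_relIndex ⊥ K Y bot_le hKY
    rwa [relIndex_bot_left, relIndex_bot_left] at this
  have h2 : Nat.card H = K.relIndex Y := by
    have : Nat.card K * Nat.card H = Nat.card K * K.relIndex Y := by rw [hc, h1]
    exact Nat.eq_of_mul_eq_mul_left Nat.card_pos this
  have h3 : (Nat.card H).Coprime (Nat.card K) := by rw [h2]; exact hcop.symm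
  refine ⟨H, hHY, hKH, hc, h3, ?_⟩
  have h4 := Cfsg.Agent.Lib.Helper30SZ.card_sup (hHY.trans hn) h3
  apply eq_of_le_of_card_ge (sup_le hKY hHY)
  rw [h4, hc]

theorem exists_prime_order_of_dvd {X : Subgroup G} {s : ℕ} (hs : s.Prime) (hd : s ∣ Nat.card X) :
    ∃ x ∈ X, orderOf x = s := by
  haveI : Fact s.Prime := ⟨hs⟩
  obtain ⟨a, ha⟩ := exists_prime_orderOf_dvd_card' s hd
  exact ⟨a, a.2, by rw [Subgroup.orderOf_coe, ha]⟩

/-- piece `centhall` = first half of S1438 (B-G 15.4(a)) -/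
theorem cent_hall (hG : IsMinSimpleOddOrder G) {M H : Subgroup G} (hM : IsCoatom M)
    (hH : H ≤ sigmaCore M) (hH1 : H ≠ ⊥)
    (hHall : (Nat.card H).Coprime (H.relIndex (sigmaCore M))) :
    ∃ X : Subgroup G, IsCyclic X ∧ (∀ p : ℕ, p.Prime → p ∣ Nat.card X → p ∈ tau2 M) ∧
      M ⊓ centralizer (H : Set G) = (sigmaCore M ⊓ centralizer (H : Set G)) ⊔ X := by
  set Ms := sigmaCore M with hMs
  set C := M ⊓ centralizer (H : Set G) with hC
  set N := Ms ⊓ centralizer (H : Set G) with hN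
  have hMsM : Ms ≤ M := sigmaCore_le M
  have hNC : N ≤ C := inf_le_inf_right _ hMsM
  have hCM : C ≤ M := inf_le_left
  have hNeq : N = Ms ⊓ C := by
    rw [hN, hC, ← inf_assoc, inf_eq_left.2 hMsM]
  have hCN : C ≤ normalizer (N : Set G) := by
    intro c hc
    rw [mem_normalizer_iff]
    have hcn := le_normalizer_sigmaCore M (hCM hc)
    rw [mem_normalizer_iff] at hcn
    intro a
    rw [hNeq]
    constructor
    · intro h0
      obtain ⟨h1, h2⟩ := mem_inf.1 h0
      exact mem_inf.2 ⟨(hcn a).1 h1, C.mul_mem (C.mul_mem hc h2) (C.inv_mem hc)⟩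
    · intro h0
      obtain ⟨h1, h2⟩ := mem_inf.1 h0
      refine mem_inf.2 ⟨(hcn a).2 h1, ?_⟩
      have := C.mul_mem (C.mul_mem (C.inv_mem hc) h2) hc
      have h3 : c⁻¹ * (c * a * c⁻¹) * c = a := by group
      rwa [h3] at this
  -- `σ(M)`-subgroups of `C` lie in `N`
  have hpN : ∀ (p : ℕ) [Fact p.Prime], p ∈ sigma M → ∀ P : Subgroup G, P ≤ C → IsPGroup p P →
      P ≤ N := by
    intro p _ hp P hPC hP
    rw [hNeq]
    exact le_inf (pgroup_le_sigmaCore hG hM hp (hPC.trans hCM) hP) hPC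
  have hcop : (Nat.card N).Coprime (N.relIndex C) := by
    apply Nat.coprime_of_dvd
    intro p hp hpN' hpi
    haveI : Fact p.Prime := ⟨hp⟩
    have hpσ : p ∈ sigma M :=
      card_sigmaCore M p hp (hpN'.trans (card_dvd_of_le (inf_le_left : N ≤ Ms)))
    obtain ⟨P, hP, -⟩ := exists_isSyl_ge (p := p) (bot_le : (⊥ : Subgroup G) ≤ C) IsPGroup.of_bot
    have h1 := hpN p hpσ P hP.1 hP.2.1
    exact IsSyl.not_dvd_relIndex hP (hpi.trans (relIndex_dvd_of_le_left C h1))
  obtain ⟨X, hXC, hNX, hcard, hXcop, hsup⟩ := exists_compl hNC hCN hcop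
  have hXM : X ≤ M := hXC.trans hCM
  obtain ⟨x, hxH, hx1⟩ := exists_ne_one_of_ne_bot' hH1
  -- elements of `X` commute with elements of `H`
  have hXH : ∀ a ∈ X, ∀ b ∈ H, b * a = a * b := by
    intro a ha b hb
    have := (mem_inf.1 (hXC ha)).2
    rw [mem_centralizer_iff] at this
    exact this b hb
  have hXσ : ∀ s : ℕ, s.Prime → s ∣ Nat.card X → s ∉ sigma M := by
    intro s hs hd hσ
    haveI : Fact s.Prime := ⟨hs⟩
    obtain ⟨a, haX, hao⟩ := exists_prime_order_of_dvd hs hd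
    have h1 : zpowers a ≤ N := by
      apply hpN s hσ _ ((zpowers_le).2 (hXC haX))
      exact IsPGroup.of_card (n := 1) (by rw [Nat.card_zpowers, hao, pow_one])
    have h2 : a ∈ N ⊓ X := ⟨h1 (mem_zpowers a), haX⟩
    rw [hNX, mem_bot] at h2
    rw [h2, orderOf_one] at hao
    exact hs.one_lt.ne hao
  have hXτ : ∀ s : ℕ, s.Prime → s ∣ Nat.card X → s ∈ tau2 M := by
    intro s hs hd
    obtain ⟨a, haX, hao⟩ := exists_prime_order_of_dvd hs hd
    have ha1 : a ≠ 1 := by
      rintro rfl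
      rw [orderOf_one] at hao
      exact hs.one_lt.ne hao
    have hprime : ∀ p : ℕ, p.Prime → p ∣ orderOf a → p = s := by
      intro p hp hpd
      rw [hao] at hpd
      exact (Nat.prime_dvd_prime_iff_eq hp hs).1 hpd
    have hax : a ∈ M ⊓ centralizer ({x} : Set G) := by
      refine mem_inf.2 ⟨hXM haX, ?_⟩
      rw [mem_centralizer_singleton_iff]
      exact (hXH a haX x hxH).symm
    rcases Cfsg.Agent.S1432.result hG M hM x (hH hxH) hx1 a hax ha1
      (fun p hp hpd => by rw [hprime p hp hpd]; exact hXσ s hs hd) with ⟨h1, -⟩ | ⟨h1, -⟩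
    · exfalso
      have hsκ : s ∈ kappa M := h1 s hs (by rw [hao])
      obtain ⟨K, hK, haK⟩ := exists_kappa_hall_ge hG hM (Y := zpowers a)
        ((zpowers_le).2 (hXM haX))
        (fun p hp hpd => by
          rw [Nat.card_zpowers] at hpd
          rw [hprime p hp hpd]; exact hsκ)
      have haK' : a ∈ K := haK (mem_zpowers a)
      have hK1 : K ≠ ⊥ := by
        intro hb
        rw [hb, mem_bot] at haK'
        exact ha1 haK'
      have h30 := (Cfsg.Agent.S1430.result hG M hM K hK hK1).1 a haK' ha1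
      have hHK : H ≤ sigmaCore M ⊓ centralizer (K : Set G) := by
        rw [← h30]
        intro b hb
        refine mem_inf.2 ⟨hH hb, ?_⟩
        rw [mem_centralizer_singleton_iff]
        exact hXH a haX b hb
      obtain ⟨p, hp, hpH⟩ := Nat.exists_prime_and_dvd
        (show Nat.card H ≠ 1 from fun hc => hH1 ((card_eq_one).1 hc))
      haveI : Fact p.Prime := ⟨hp⟩
      obtain ⟨S, hS, -⟩ := exists_isSyl_ge (p := p) (bot_le : (⊥ : Subgroup G) ≤ H) IsPGroup.of_bot
      have hS' : IsSyl p S (sigmaCore M) := by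
        apply isSyl_of_not_dvd (hS.1.trans hH) hS.2.1
        rw [← relIndex_mul_relIndex S H (sigmaCore M) hS.1 hH]
        intro hd'
        rcases (Nat.Prime.dvd_mul hp).1 hd' with h | h
        · exact IsSyl.not_dvd_relIndex hS h
        · exact Nat.Prime.not_coprime_iff_dvd.2 ⟨p, hp, hpH, h⟩ hHall
      have h31 := ((Cfsg.Agent.S1431.result hG M hM K hK hK1).2.2.1 p hp
        (hpH.trans (card_dvd_of_le hHK)) hS'.toSylow).2.2
      rw [hS'.map_toSylow] at h31
      exact h31 (hS.1.trans hHK)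
    · exact h1 s hs (by rw [hao])
  refine ⟨X, ?_, hXτ, hsup.symm⟩
  -- `X` is abelian
  obtain ⟨⟨K, hK⟩, hKc⟩ := Cfsg.Agent.S1351.result hG M hM
  obtain ⟨⟨U, hKU⟩, -⟩ := Cfsg.Agent.S1352.result hG M hM K (hKc K hK) hK
  have hXU : X ≤ U ⊔ sigmaCore M := le_UMs hG hM hKU hXM
    (fun p hp hpd hκ => Cfsg.Agent.Lib.Helper37BG14kbasic.kappa_not_tau2 hκ (hXτ p hp hpd))
  obtain ⟨m, hm, hmU⟩ := exists_cj_le_U hG hM hKU hXU hXσ
  have hUM : U ≤ M := hKU.compl.1
  have hmM : m ∈ M := (sup_le hUM hMsM) hm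
  have h59 := Cfsg.Agent.S1359.result hG M hM K U hKU
  have hle : cj m X ≤ closure ((U : Set G) ∩ sigmaHat M) := by
    intro y hy
    apply Subgroup.subset_closure
    refine ⟨hmU hy, hUM (hmU hy), m * x * m⁻¹, ?_, ?_, ?_⟩
    · have := le_normalizer_sigmaCore M hmM
      rw [mem_normalizer_iff] at this
      exact (this x).1 (hH hxH)
    · intro hc
      apply hx1
      have : x = m⁻¹ * (m * x * m⁻¹) * m := by group
      rw [this, hc]; group
    · rw [mem_cj] at hy
      have h1 := hXH _ hy x hxH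
      have h2 : y = m * (m⁻¹ * y * m) * m⁻¹ := by group
      rw [h2]
      calc m * (m⁻¹ * y * m) * m⁻¹ * (m * x * m⁻¹) = m * ((m⁻¹ * y * m) * x) * m⁻¹ := by group
        _ = m * (x * (m⁻¹ * y * m)) * m⁻¹ := by rw [h1]
        _ = m * x * m⁻¹ * (m * (m⁻¹ * y * m) * m⁻¹) := by group
  have hXab : ∀ a ∈ X, ∀ b ∈ X, a * b = b * a := by
    intro a ha b hb
    have h1 := congrArg Subtype.val (h59.is_comm.comm ⟨_, hle (conj_mem_cj (k := m) ha)⟩
      ⟨_, hle (conj_mem_cj (k := m) hb)⟩)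
    have h2 : m * a * m⁻¹ * (m * b * m⁻¹) = m * b * m⁻¹ * (m * a * m⁻¹) := h1
    have h3 : m * (a * b) * m⁻¹ = m * (b * a) * m⁻¹ := by
      calc m * (a * b) * m⁻¹ = m * a * m⁻¹ * (m * b * m⁻¹) := by group
        _ = m * b * m⁻¹ * (m * a * m⁻¹) := h2
        _ = m * (b * a) * m⁻¹ := by group
    exact mul_left_cancel (mul_right_cancel h3)
  haveI : IsZGroup X := by
    apply isZGroup_of_rank (odd_sub hG X)
    intro s hs hd
    by_contra hr
    haveI : Fact s.Prime := ⟨hs⟩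
    obtain ⟨A, hAX, hA, hAc⟩ := exists_elemAb hr
    have hτ := hXτ s hs hd
    have hle2 : Nat.card A ≤ s ^ 2 := by
      by_contra hcon
      exact not_rank_of_elemAb (hAX.trans hXM) hA (not_le.1 hcon) hτ.2.2.1
    obtain ⟨k, hk⟩ := (IsPGroup.iff_card).1 (isPGroup_of_elemAb hA)
    have hk2 : k = 2 := by
      rw [hk] at hAc hle2
      have h1 := (Nat.pow_lt_pow_iff_right hs.one_lt).1 hAc
      have h2 := (Nat.pow_le_pow_iff_right hs.one_lt).1 hle2
      omega
    rw [hk2] at hk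
    have h17 := (Cfsg.Agent.S1417.result hG M hM s hτ A ⟨hAX.trans hXM, hA, hk⟩).2.2.2.1
    apply hH1
    rw [eq_bot_iff, ← h17]
    intro b hb
    refine mem_inf.2 ⟨hH hb, ?_⟩
    rw [mem_centralizer_iff]
    intro a ha
    exact (hXH a (hAX ha) b hb).symm
  haveI : Group.IsNilpotent X := by
    haveI : IsMulCommutative X := ⟨⟨fun a b => Subtype.ext (hXab a a.2 b b.2)⟩⟩
    letI : CommGroup X := { (inferInstance : Group X) with mul_comm := fun a b => Subtype.ext (hXab a a.2 b b.2) }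
    exact CommGroup.isNilpotent
  infer_instance

end Cfsg.Agent.Lib.Helper86BG15centhall
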