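import Cfsg.Agent.Lib.Helper56BG15
import Cfsg.Agent.Lib.Helper76BG15intersigma
import Cfsg.Agent.Lib.Helper60BG15nonTInil
import Cfsg.Agent.Lib.Helper86BG15centhall
import Cfsg.Agent.Lib.Helper15BG15der2
import Cfsg.Agent.Lib.Helper15BG15fitprod
import Cfsg.Agent.Lib.Helper68BG15fitder

/-!
PROJECT 15 (Bender-Glauberman Section 15): second hub (15.3, 15.4(a), first half of 15.7(a)).
-/

set_option autoImplicit false
open Cfsg

namespace Cfsg.Agent.Lib.Helper56BG15b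

open Subgroup
open Cfsg.Agent.Lib.Helper30Trans Cfsg.Agent.Lib.Helper56BG15Defs Cfsg.Agent.Lib.Helper56BG15

universe u
variable {G : Type u} [Group G] [Finite G]

theorem inter_le_sigmaCore (hG : IsMinSimpleOddOrder G) {M : Subgroup G} (hM : IsCoatom M) {g : G}
    (hg : g ∉ M) : fittingOf M ⊓ cj g (fittingOf M) ≤ sigmaCore M ⊓ cj g M :=
  Cfsg.Agent.Lib.Helper76BG15intersigma.inter_le_sigmaCore hG hM hg

/-- B-G 15.7(a), first half: if `F(M)` is not TI then `M_F = M_σ`. -/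
theorem fittingHallOf_eq_of_nonTI (hG : IsMinSimpleOddOrder G) {M : Subgroup G} (hM : IsCoatom M)
    {g : G} (hg : g ∉ M) (hX : fittingOf M ⊓ cj g (fittingOf M) ≠ ⊥) :
    fittingHallOf M = sigmaCore M := by
  apply Cfsg.Agent.Lib.Helper60BG15nonTInil.fittingHallOf_eq_of_nonTI_of hG hM hg hX
    (inter_le_sigmaCore hG hM hg)
  intro hne
  obtain ⟨⟨K, hK⟩, hKc⟩ := Cfsg.Agent.S1351.result hG M hM
  obtain ⟨⟨U, hKU⟩, -⟩ := Cfsg.Agent.S1352.result hG M hM K (hKc K hK) hK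
  obtain ⟨-, -, -, hP, hb, Q, hQ, -⟩ := bg152 hG hM hKU hne
  exact ⟨K, _, Q, hP, hb, hQ⟩

theorem cent_hall (hG : IsMinSimpleOddOrder G) {M H : Subgroup G} (hM : IsCoatom M)
    (hH : H ≤ sigmaCore M) (hH1 : H ≠ ⊥)
    (hHall : (Nat.card H).Coprime (H.relIndex (sigmaCore M))) :
    ∃ X : Subgroup G, IsCyclic X ∧ (∀ p : ℕ, p.Prime → p ∣ Nat.card X → p ∈ tau2 M) ∧
      M ⊓ centralizer (H : Set G) = (sigmaCore M ⊓ centralizer (H : Set G)) ⊔ X :=
  Cfsg.Agent.Lib.Helper86BG15centhall.cent_hall hG hM hH hH1 hHall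

theorem der2_le_fitting (hG : IsMinSimpleOddOrder G) {M : Subgroup G} (hM : IsCoatom M) :
    ⁅⁅M, M⁆, ⁅M, M⁆⁆ ≤ fittingOf M :=
  Cfsg.Agent.Lib.Helper15BG15der2.der2_le_fitting_of hG hM (fun hKU hne => bg152 hG hM hKU hne)

theorem fitting_eq (hG : IsMinSimpleOddOrder G) {M : Subgroup G} (hM : IsCoatom M) :
    fittingOf M = (M ⊓ centralizer (fittingHallOf M : Set G)) ⊔ fittingHallOf M :=
  Cfsg.Agent.Lib.Helper15BG15fitprod.fitting_eq_of hG hM (fun hKU hne => bg152 hG hM hKU hne)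
    (fun h1 h2 h3 => cent_hall hG hM h1 h2 h3)

theorem fitting_le_der (hG : IsMinSimpleOddOrder G) {M : Subgroup G} (hM : IsCoatom M)
    (hk : (kappa M).Nonempty) : fittingOf M ≤ ⁅M, M⁆ :=
  Cfsg.Agent.Lib.Helper68BG15fitder.fitting_le_der hG hM hk

end Cfsg.Agent.Lib.Helper56BG15b
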