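import Cfsg.Agent.Lib.Helper27BG16basic

/-! PROJECT 16 (architect helper51): general lemmas for rows S1368, S1370, S1371. -/

set_option autoImplicit false
open Cfsg

namespace Cfsg.Agent.Lib.Helper67BG16

open Subgroup
open Cfsg.Agent.Lib.Helper30Trans Cfsg.Agent.Lib.Helper24BG Cfsg.Agent.Lib.Helper2BGa
  Cfsg.Agent.Lib.Helper2BGb

universe u
variable {G : Type u} [Group G]

/-- the join of two commuting cyclic subgroups of coprime orders is cyclic. -/
theorem isCyclic_sup [Finite G] {A B : Subgroup G} (hA : IsCyclic A) (hB : IsCyclic B)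
    (hc : B ≤ centralizer (A : Set G)) (hco : (Nat.card A).Coprime (Nat.card B)) :
    IsCyclic ↥(A ⊔ B) := by
  obtain ⟨⟨a, haA⟩, ha⟩ := hA
  obtain ⟨⟨b, hbB⟩, hb⟩ := hB
  have hAz : A = zpowers a := by
    apply le_antisymm
    · intro x hx
      obtain ⟨k, hk⟩ := ha ⟨x, hx⟩
      refine ⟨k, ?_⟩
      have := congrArg Subtype.val hk
      simpa using this
    · exact zpowers_le.mpr haA
  have hBz : B = zpowers b := by
    apply le_antisymm
    · intro x hx
      obtain ⟨k, hk⟩ := hb ⟨x, hx⟩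
      refine ⟨k, ?_⟩
      have := congrArg Subtype.val hk
      simpa using this
    · exact zpowers_le.mpr hbB
  have hcomm : Commute a b := by
    have := hc hbB
    rw [mem_centralizer_iff] at this
    exact this a haA
  have hoa : orderOf a = Nat.card A := by rw [hAz, Nat.card_zpowers]
  have hob : orderOf b = Nat.card B := by rw [hBz, Nat.card_zpowers]
  have h1 : a ∈ zpowers (a * b) := by
    obtain ⟨m, hm⟩ := exists_pow_eq_self_of_coprime (x := a) (n := orderOf b)
      (by rw [hoa, hob]; exact hco.symm)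
    have e : (a * b) ^ orderOf b = a ^ orderOf b := by
      rw [hcomm.mul_pow, pow_orderOf_eq_one, mul_one]
    have h : ((a * b) ^ orderOf b) ^ m ∈ zpowers (a * b) :=
      pow_mem (pow_mem (mem_zpowers (a * b)) _) _
    rwa [e, hm] at h
  have h2 : b ∈ zpowers (a * b) := by
    obtain ⟨m, hm⟩ := exists_pow_eq_self_of_coprime (x := b) (n := orderOf a)
      (by rw [hoa, hob]; exact hco)
    have e : (a * b) ^ orderOf a = b ^ orderOf a := by
      rw [hcomm.mul_pow, pow_orderOf_eq_one, one_mul]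
    have h : ((a * b) ^ orderOf a) ^ m ∈ zpowers (a * b) :=
      pow_mem (pow_mem (mem_zpowers (a * b)) _) _
    rwa [e, hm] at h
  have h3 : A ⊔ B = zpowers (a * b) := by
    apply le_antisymm
    · rw [hAz, hBz]
      exact sup_le (zpowers_le.mpr h1) (zpowers_le.mpr h2)
    · exact zpowers_le.mpr (mul_mem (le_sup_left (a := A) haA) (le_sup_right (b := B) hbB))
  rw [h3]
  exact isCyclic_zpowers _

/-- a `π`-subgroup of `X` containing a Hall `π`-subgroup of `X` equals it. -/
theorem le_of_hall [Finite G] {π : Set ℕ} {H X Y : Subgroup G} (hH : IsPiHallOf π H X) (hHY : H ≤ Y)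
    (hYX : Y ≤ X) (hY : ∀ p : ℕ, p.Prime → p ∣ Nat.card Y → p ∈ π) : Y ≤ H := by
  rw [← relIndex_eq_one]
  by_contra hne
  obtain ⟨p, hp, hpd⟩ := Nat.exists_prime_and_dvd hne
  refine hH.2.2 p hp (hY p hp (hpd.trans (relIndex_dvd_card H Y))) ?_
  rw [← relIndex_mul_relIndex H Y X hHY hYX]
  exact hpd.trans (dvd_mul_right _ _)

/-- a nontrivial subgroup contains a subgroup of prime order. -/
theorem exists_prime_sub [Finite G] {K : Subgroup G} (hK : K ≠ ⊥) :
    ∃ X : Subgroup G, X ≤ K ∧ (Nat.card X).Prime := by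
  have h1 : Nat.card K ≠ 1 := by
    intro h
    exact hK (card_eq_one.mp h)
  obtain ⟨p, hp, hpd⟩ := Nat.exists_prime_and_dvd h1
  have := Fact.mk hp
  obtain ⟨x, hx⟩ := exists_prime_orderOf_dvd_card' p hpd
  refine ⟨zpowers (x : G), zpowers_le.mpr x.2, ?_⟩
  rw [Nat.card_zpowers, Subgroup.orderOf_coe, hx]
  exact hp

end Cfsg.Agent.Lib.Helper67BG16
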