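import Cfsg.Agent.Lib.Helper51BG16
import Cfsg.Agent.Lib.Helper37BG
import Cfsg.Agent.S1354
import Cfsg.Agent.S1356
import Cfsg.Agent.S1364
import Cfsg.Agent.S1365
import Cfsg.Agent.S1366
import Cfsg.Agent.S1368
import Cfsg.Agent.S1370

/-!
PROJECT 16, PART 2, piece `typeP` (helper11).
-/

set_option autoImplicit false
open Cfsg

namespace Cfsg.Agent.Lib.Helper11BG16typeP

open Subgroup
open scoped commutatorElement
open Cfsg.Agent.Lib.Helper30Trans Cfsg.Agent.Lib.Helper24BG Cfsg.Agent.Lib.Helper51BG16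

universe u
variable {G : Type u} [Group G] [Finite G]

/-- [typeP] the type-P data of a maximal subgroup with `K ≠ 1`. -/
theorem isTypePWith_of (hG : IsMinSimpleOddOrder G) {M K U : Subgroup G} (hM : IsCoatom M)
    (hKU : IsSigmaDecomposition M K U) (hK1 : K ≠ ⊥) {U' : Subgroup G} (hn : Group.IsNilpotent U')
    (hKU' : K ≤ normalizer (U' : Set G)) (hc : IsComplIn (fittingHallOf M) U' ⁅M, M⁆) :
    IsTypePWith M K U' (sigmaCore M ⊓ centralizer (K : Set G)) := by
  have h65 := Cfsg.Agent.S1365.result hG M hM K U hKU hK1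
  have h64 := Cfsg.Agent.S1364.result hG M hM K U hKU hK1
  have h56 := Cfsg.Agent.S1356.result hG M hM
  have h54 := Cfsg.Agent.S1354.result hG M hM K hKU.cyclic hKU.hall
  obtain ⟨Mstar, ⟨hMs1, hMs2, hMs3⟩, -⟩ := Cfsg.Agent.S1366.result hG M hM K U hKU hK1
  have h68 := Cfsg.Agent.S1368.result hG M hM K U hKU hK1 Mstar hMs1 hMs2 hMs3
  have h70 := Cfsg.Agent.S1370.result hG M hM K U hKU hK1
  set Ms := sigmaCore M with hMs
  set Ks := Ms ⊓ centralizer (K : Set G) with hKs
  set Z := K ⊔ Ks with hZ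
  have hKM : K ≤ M := hKU.hall.1
  have hMsM : Ms ≤ M := Cfsg.Agent.Lib.Helper2BGb.sigmaCore_le M
  have hUM : U ≤ M := hKU.compl.1
  have hinf : K ⊓ (U ⊔ Ms) = ⊥ := K_inf_UMs hG hM hKU
  have hKsD : Ks ≤ U ⊔ Ms := inf_le_left.trans le_sup_right
  have hKKs : K ⊓ Ks = ⊥ := le_bot_iff.mp (hinf ▸ inf_le_inf_left K hKsD)
  have hcomm : ∀ a ∈ K, ∀ b ∈ Ks, a * b = b * a := fun a ha b hb =>
    mem_centralizer_iff.mp hb.2 a ha
  have hKnKs : K ≤ normalizer (Ks : Set G) := by
    intro a ha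
    rw [mem_normalizer_iff]
    intro b
    constructor
    · intro hb; rw [hcomm a ha b hb]; simpa using hb
    · intro hb
      have h1 := hcomm a⁻¹ (K.inv_mem ha) _ hb
      have h2 : b = a⁻¹ * (a * b * a⁻¹) * a := by group
      rw [h2, h1]; simpa using hb
  have hZc : ∀ a ∈ Z, ∀ b ∈ Z, a * b = b * a := by
    intro a ha b hb
    have := h68.2
    let _ := IsCyclic.commGroup (α := ↥Z)
    exact congrArg Subtype.val (mul_comm (⟨a, ha⟩ : Z) ⟨b, hb⟩)
  have hcard := card_eq hG hM hKU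
  have hcUMs := card_UMs hG hM hKU
  have hcopK : (Nat.card K).Coprime (Nat.card ↥(U ⊔ Ms)) := by
    rw [hcUMs]
    exact Nat.Coprime.mul_right (coprime_K_U hG hM hKU) (coprime_K_Ms hG hM hKU)
  have hDM : U ⊔ Ms ≤ M := sup_le hUM hMsM
  refine
    { W₁_ne := hK1
      W₁_cyclic := hKU.cyclic
      W₁_hall := ?_
      W₁_compl := ?_
      U_nilpotent := hn
      U_normal := hKU'
      U_compl := hc
      H_not_cyclic := h64.2.2.2
      derived_two_le := ?_
      fitting_eq := ?_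
      fitting_le := ?_
      W₂_le := le_inf h64.2.2.1 h65.2
      W₂_centralizer := ?_
      selfNormalizing := ?_ }
  · have h1 := Cfsg.Agent.Lib.Helper37BG.card_eq_mul_relIndex hKM
    have h2 : K.relIndex M = Nat.card ↥(U ⊔ Ms) := by
      have hK0 : 0 < Nat.card K := Nat.card_pos
      rw [hcUMs]
      rw [hcard] at h1
      have : Nat.card K * (Nat.card U * Nat.card Ms) = Nat.card K * K.relIndex M := by
        rw [← h1]; ring
      exact (Nat.eq_of_mul_eq_mul_left hK0 this).symm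
    rw [h2]; exact hcopK
  · rw [h65.1]
    have hcompl : IsComplement' ((U ⊔ Ms).subgroupOf M) (K.subgroupOf M) := by
      apply isComplement'_of_coprime
      · rw [Cfsg.Agent.Lib.Helper30SZ.card_subgroupOf_of_le hDM,
          Cfsg.Agent.Lib.Helper30SZ.card_subgroupOf_of_le hKM, hcUMs, hcard]; ring
      · rw [Cfsg.Agent.Lib.Helper30SZ.card_subgroupOf_of_le hDM,
          Cfsg.Agent.Lib.Helper30SZ.card_subgroupOf_of_le hKM]; exact hcopK.symm
    refine ⟨hDM, hKM, by rw [inf_comm]; exact hinf, ?_⟩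
    intro m hm
    obtain ⟨⟨a, b⟩, hab⟩ := hcompl.2 ⟨m, hm⟩
    refine ⟨a.1.1, mem_subgroupOf.mp a.2, b.1.1, mem_subgroupOf.mp b.2, ?_⟩
    exact (congrArg Subtype.val hab).symm
  · rw [sup_comm, ← h56.2.1]; exact h56.1
  · rw [sup_comm, ← h56.2.1]
  · apply h56.2.2
    rw [Set.nonempty_iff_ne_empty]
    intro h
    exact hK1 ((kappa_eq_empty_iff hKU.hall).mp h)
  · intro x hx hx1
    rw [h65.1]
    apply le_antisymm
    · intro g hg
      have h1 : g ∈ M ⊓ centralizer ({x} : Set G) := ⟨hDM hg.1, hg.2⟩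
      rw [h54.2 hK1 x hx hx1, hZ, sup_comm] at h1
      obtain ⟨c, hc', k, hk, rfl⟩ := (Cfsg.Agent.Lib.Helper30SZ.mem_sup_iff hKnKs).mp h1
      have h2 : k ∈ U ⊔ Ms := by
        have := (U ⊔ Ms).mul_mem ((U ⊔ Ms).inv_mem (hKsD hc')) hg.1
        simpa using this
      have h3 : k ∈ K ⊓ (U ⊔ Ms) := ⟨hk, h2⟩
      rw [hinf, mem_bot] at h3
      rw [h3, mul_one]; exact hc'
    · intro g hg
      refine mem_inf.mpr ⟨hKsD hg, ?_⟩
      rw [mem_centralizer_iff]
      intro y hy
      rw [Set.mem_singleton_iff] at hy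
      rw [hy]; exact hcomm x hx g hg
  · refine ⟨hK1, h64.2.1, hKKs, hcomm, h68.2, ?_⟩
    intro X hX hXne
    apply le_antisymm
    · intro g hg
      obtain ⟨z, hz⟩ := hXne
      have hz' := hX hz
      have hgz : g * z * g⁻¹ ∈ X := (mem_set_normalizer_iff.mp hg z).mp hz
      have hz1 : z ≠ 1 := by
        rintro rfl
        exact hz'.2 (Or.inl K.one_mem)
      rw [← hZ, ← h70.2]
      by_contra hgn
      exact hz1 (h70.1 g hgn z hz' (hX hgz))
    · intro w hw
      rw [mem_set_normalizer_iff]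
      intro h
      constructor
      · intro hh
        have : w * h * w⁻¹ = h := by rw [hZc w hw h (hX hh).1]; group
        rw [this]; exact hh
      · intro hh
        have h1 : w⁻¹ * (w * h * w⁻¹) = (w * h * w⁻¹) * w⁻¹ := hZc _ (Z.inv_mem hw) _ (hX hh).1
        have h2 : h = w * h * w⁻¹ := by
          have : h = w⁻¹ * (w * h * w⁻¹) * w := by group
          rw [h1] at this
          simpa using this
        rw [h2]; exact hh

end Cfsg.Agent.Lib.Helper11BG16typeP
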