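import Cfsg.Agent.Lib.Helper51BG16
import Cfsg.Agent.Lib.Helper30BG2
import Cfsg.Agent.Lib.Helper31BGS

/-!
PROJECT 16, PART 2, piece `typePimp` (helper11).
-/

set_option autoImplicit false
open Cfsg

namespace Cfsg.Agent.Lib.Helper11BG16typePimp

open Subgroup
open scoped commutatorElement
open Cfsg.Agent.Lib.Helper30Trans Cfsg.Agent.Lib.Helper24BG Cfsg.Agent.Lib.Helper51BG16

universe u
variable {G : Type u} [Group G] [Finite G]

/-- [typePimp] type P implies `κ(M) ≠ ∅`. -/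
theorem K_ne_bot_of_typeP (hG : IsMinSimpleOddOrder G) {M K : Subgroup G} (hM : IsCoatom M)
    (hK : IsPiHallOf (kappa M) K M) {W₁ U' W₂ : Subgroup G} (h : IsTypePWith M W₁ U' W₂) : K ≠ ⊥ := by
  have hc1 : Nat.card W₁ ≠ 1 := fun h' => h.W₁_ne (card_eq_one.mp h')
  obtain ⟨p, hp, hpW⟩ := Nat.exists_prime_and_dvd hc1
  have : Fact p.Prime := ⟨hp⟩
  have hW₁M : W₁ ≤ M := h.W₁_compl.2.1
  have hidx : W₁.relIndex M = Nat.card ↥⁅M, M⁆ :=
    Cfsg.Agent.Lib.Helper31BGS.relIndex_compl' h.W₁_compl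
  have hpi : ¬ p ∣ W₁.relIndex M := by
    intro h'
    exact hp.one_lt.ne' (Nat.Coprime.eq_one_of_dvd (Nat.Coprime.coprime_dvd_left hpW h.W₁_hall) h')
  have hder := Cfsg.Agent.Lib.Helper2BGb.sigmaCore_le_derived hG hM
  have hpMs : ¬ p ∣ Nat.card (sigmaCore M) := by
    intro h'
    exact hpi (hidx ▸ h'.trans (card_dvd_of_le hder))
  obtain ⟨x, hx⟩ := exists_prime_orderOf_dvd_card' p hpW
  have hx' : orderOf (x : G) = p := by rw [Subgroup.orderOf_coe]; exact hx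
  have hx1 : (x : G) ≠ 1 := by
    intro h'
    rw [h', orderOf_one] at hx'
    exact hp.one_lt.ne hx'
  have hpσ : p ∉ sigma M := by
    intro hσ
    have hle : zpowers (x : G) ≤ sigmaCore M := by
      apply Cfsg.Agent.Lib.Helper30BG2.pgroup_le_sigmaCore hG hM hσ _ (zpowers_le.mpr (hW₁M x.2))
      apply IsPGroup.of_card (n := 1)
      rw [Nat.card_zpowers, hx', pow_one]
    apply hpMs
    have := card_dvd_of_le hle
    rwa [Nat.card_zpowers, hx'] at this
  have hW₂ := h.W₂_centralizer x x.2 hx1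
  obtain ⟨y, hy, hy1⟩ := exists_ne_one_of_ne_bot' h.selfNormalizing.2.1
  have hyMs : y ∈ sigmaCore M := fittingHallOf_le_sigmaCore hG hM (h.W₂_le hy).1
  have hxy : (x : G) * y = y * x := by
    rw [← hW₂] at hy
    exact mem_centralizer_iff.mp hy.2 x rfl
  obtain ⟨P, hP, -⟩ := exists_isSyl_ge (p := p) (bot_le : (⊥ : Subgroup G) ≤ W₁) IsPGroup.of_bot
  have hPM : IsSyl p P M := Cfsg.Agent.Lib.Helper31BGS.isSyl_of_not_dvd_relIndex hP hW₁M hpi
  have hr : PRankLE p 1 M := by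
    by_contra hr
    obtain ⟨B, hBM, hB, hBc⟩ := exists_elemAb hr
    obtain ⟨g, -, hg⟩ := Cfsg.Agent.Lib.Helper24BG2.exists_cj_le hPM (isPGroup_of_elemAb hB) hBM
    have := h.W₁_cyclic
    exact not_rank_of_elemAb (X := W₁) (hg.trans hP.1) (elemAb_cj hB g) (by rw [card_cj]; exact hBc)
      (rank_one_of_cyclic hp.pos)
  have hκ : p ∈ kappa M := mem_kappa hG hM hp hpσ hr (hW₁M x.2) hx' hyMs hy1 hxy
  intro hKb
  have := (kappa_eq_empty_iff hK).mpr hKb
  rw [this] at hκ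
  exact hκ

end Cfsg.Agent.Lib.Helper11BG16typePimp
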