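import Cfsg.Agent.Lib.Helper51BG16
import Cfsg.Agent.Lib.Helper11BG16typeP
import Cfsg.Agent.Lib.Helper11BG16typePimp
import Cfsg.Agent.Lib.Helper11BG16normhall
import Cfsg.Agent.Lib.Helper11BG16typeFimp
import Cfsg.Agent.Lib.Helper11BG16typeFder
import Cfsg.Agent.Lib.Helper11BG16exU
import Cfsg.Agent.Lib.Helper11BG16complconj

/-!
PROJECT 16, PART 2 (architect helper51): the TYPES II-V (rows S1381, S1382, S1383, S1389, S1390).
(hub b: the pieces are by helper11)
-/

set_option autoImplicit false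
open Cfsg

namespace Cfsg.Agent.Lib.Helper51BG16

open Subgroup
open scoped commutatorElement
open Cfsg.Agent.Lib.Helper30Trans Cfsg.Agent.Lib.Helper24BG

universe u
variable {G : Type u} [Group G] [Finite G]

/-- [typeP] the type-P data of a maximal subgroup with `K ≠ 1`. -/
theorem isTypePWith_of (hG : IsMinSimpleOddOrder G) {M K U : Subgroup G} (hM : IsCoatom M)
    (hKU : IsSigmaDecomposition M K U) (hK1 : K ≠ ⊥) {U' : Subgroup G} (hn : Group.IsNilpotent U')
    (hKU' : K ≤ normalizer (U' : Set G)) (hc : IsComplIn (fittingHallOf M) U' ⁅M, M⁆) :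
    IsTypePWith M K U' (sigmaCore M ⊓ centralizer (K : Set G)) :=
  Cfsg.Agent.Lib.Helper11BG16typeP.isTypePWith_of hG hM hKU hK1 hn hKU' hc

/-- [typePimp] type P implies `κ(M) ≠ ∅`. -/
theorem K_ne_bot_of_typeP (hG : IsMinSimpleOddOrder G) {M K : Subgroup G} (hM : IsCoatom M)
    (hK : IsPiHallOf (kappa M) K M) {W₁ U' W₂ : Subgroup G} (h : IsTypePWith M W₁ U' W₂) : K ≠ ⊥ :=
  Cfsg.Agent.Lib.Helper11BG16typePimp.K_ne_bot_of_typeP hG hM hK h

/-- [normhall] the normalizer of a non-trivial Hall subgroup of `M_σ` lies in `M`. -/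
theorem normalizer_le_of_hall (hG : IsMinSimpleOddOrder G) {M Y : Subgroup G} (hM : IsCoatom M)
    (hY : Y ≤ sigmaCore M) (hY1 : Y ≠ ⊥) (hH : (Nat.card Y).Coprime (Y.relIndex (sigmaCore M))) :
    normalizer (Y : Set G) ≤ M :=
  Cfsg.Agent.Lib.Helper11BG16normhall.normalizer_le_of_hall hG hM hY hY1 hH

/-- [typeFimp] Frobenius type implies `K = 1`, `U ≠ 1`. -/
theorem of_typeF (hG : IsMinSimpleOddOrder G) {M K U : Subgroup G} (hM : IsCoatom M)
    (hKU : IsSigmaDecomposition M K U) (h : IsOfTypeF ↥M) : K = ⊥ ∧ U ≠ ⊥ :=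
  Cfsg.Agent.Lib.Helper11BG16typeFimp.of_typeF hG hM hKU h

/-- [typeFder] for `K ≠ 1 ≠ U` the derived group is of Frobenius type. -/
theorem typeF_derived (hG : IsMinSimpleOddOrder G) {M K U : Subgroup G} (hM : IsCoatom M)
    (hKU : IsSigmaDecomposition M K U) (hK1 : K ≠ ⊥) (hU1 : U ≠ ⊥) :
    IsOfTypeF ↥⁅M, M⁆ ∧ fittingHallOf ⁅M, M⁆ = fittingHallOf M :=
  Cfsg.Agent.Lib.Helper11BG16typeFder.typeF_derived hG hM hKU hK1 hU1

/-- [exU] a `K`-invariant nilpotent complement of `M_F` in `M_σ`. -/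
theorem exists_compl_fhall (hG : IsMinSimpleOddOrder G) {M K U : Subgroup G} (hM : IsCoatom M)
    (hKU : IsSigmaDecomposition M K U) (hne : fittingHallOf M ≠ sigmaCore M) :
    ∃ U' : Subgroup G, Group.IsNilpotent U' ∧ K ≤ normalizer (U' : Set G) ∧
      IsComplIn (fittingHallOf M) U' (sigmaCore M) ∧ U' ≠ ⊥ :=
  Cfsg.Agent.Lib.Helper11BG16exU.exists_compl_fhall hG hM hKU hne

/-- [complconj] complements of `M_σ` in `U M_σ` are conjugate to `U`, and carry a standard factorisation. -/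
theorem exists_decomp_of_compl (hG : IsMinSimpleOddOrder G) {M K U U' : Subgroup G} (hM : IsCoatom M)
    (hKU : IsSigmaDecomposition M K U) (hc : IsComplIn (sigmaCore M) U' (U ⊔ sigmaCore M)) :
    ∃ m ∈ U ⊔ sigmaCore M, U' = cj m U ∧ IsSigmaDecomposition M (cj m K) U' :=
  Cfsg.Agent.Lib.Helper11BG16complconj.exists_decomp_of_compl hG hM hKU hc

end Cfsg.Agent.Lib.Helper51BG16
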