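import Cfsg.Agent.Lib.Helper2BGb
import Cfsg.Agent.Lib.Helper2BGc
import Cfsg.Agent.Lib.Helper3BGNotuniq
import Cfsg.Agent.Lib.Helper27BG16basic
import Cfsg.Agent.Lib.Helper27BG16fhall

/-!
PROJECT 16 (architect helper51): rows of Bender-Glauberman Section 16 that are corollaries of STATED rows.
Shared API on the standard factorisation `M = K U M_σ`.  (hub, part a: pieces `basic` and `fhall` by helper27; no dependence on S1430)
-/

set_option autoImplicit false
open Cfsg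

namespace Cfsg.Agent.Lib.Helper51BG16

open Subgroup
open Cfsg.Agent.Lib.Helper30Trans Cfsg.Agent.Lib.Helper24BG

universe u
variable {G : Type u} [Group G] [Finite G]

/-! ## piece `basic` -/

theorem kappa_not_sigma {M : Subgroup G} {p : ℕ} (hp : p ∈ kappa M) : p ∉ sigma M := hp.2.2.1

/-- `K`, `U`, `M_σ` have pairwise coprime orders with product `|M|`. -/
theorem card_eq (hG : IsMinSimpleOddOrder G) {M K U : Subgroup G} (hM : IsCoatom M)
    (hKU : IsSigmaDecomposition M K U) :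
    Nat.card M = Nat.card U * Nat.card K * Nat.card (sigmaCore M) :=
  Cfsg.Agent.Lib.Helper27BG16basic.card_eq hG hM hKU

theorem K_primes {M K U : Subgroup G} (hKU : IsSigmaDecomposition M K U) :
    ∀ p : ℕ, p.Prime → p ∣ Nat.card K → p ∈ kappa M := hKU.hall.2.1

theorem U_primes (hG : IsMinSimpleOddOrder G) {M K U : Subgroup G} (hM : IsCoatom M)
    (hKU : IsSigmaDecomposition M K U) :
    ∀ p : ℕ, p.Prime → p ∣ Nat.card U → p ∉ kappa M ∧ p ∉ sigma M :=
  Cfsg.Agent.Lib.Helper27BG16basic.U_primes hG hM hKU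

theorem coprime_K_Ms (hG : IsMinSimpleOddOrder G) {M K U : Subgroup G} (hM : IsCoatom M)
    (hKU : IsSigmaDecomposition M K U) : (Nat.card K).Coprime (Nat.card (sigmaCore M)) :=
  Cfsg.Agent.Lib.Helper27BG16basic.coprime_K_Ms hG hM hKU

theorem coprime_K_U (hG : IsMinSimpleOddOrder G) {M K U : Subgroup G} (hM : IsCoatom M)
    (hKU : IsSigmaDecomposition M K U) : (Nat.card K).Coprime (Nat.card U) :=
  Cfsg.Agent.Lib.Helper27BG16basic.coprime_K_U hG hM hKU

theorem coprime_U_Ms (hG : IsMinSimpleOddOrder G) {M K U : Subgroup G} (hM : IsCoatom M)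
    (hKU : IsSigmaDecomposition M K U) : (Nat.card U).Coprime (Nat.card (sigmaCore M)) :=
  Cfsg.Agent.Lib.Helper27BG16basic.coprime_U_Ms hG hM hKU

/-- `E = K U` is a complement of `M_σ` in `M` (the orientation used by S1415, S1418, S1420, S1421, S1426). -/
theorem compl_KU (hG : IsMinSimpleOddOrder G) {M K U : Subgroup G} (hM : IsCoatom M)
    (hKU : IsSigmaDecomposition M K U) : IsComplIn (K ⊔ U) (sigmaCore M) M :=
  Cfsg.Agent.Lib.Helper27BG16basic.compl_KU hG hM hKU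

theorem card_KU (hG : IsMinSimpleOddOrder G) {M K U : Subgroup G} (hM : IsCoatom M)
    (hKU : IsSigmaDecomposition M K U) : Nat.card ↥(K ⊔ U) = Nat.card K * Nat.card U :=
  Cfsg.Agent.Lib.Helper27BG16basic.card_KU hG hM hKU

/-- `U M_σ` is normal in `M` (second half of S1352). -/
theorem normal_UMs {M K U : Subgroup G} (hKU : IsSigmaDecomposition M K U) :
    M ≤ normalizer ((U ⊔ sigmaCore M : Subgroup G) : Set G) :=
  Cfsg.Agent.Lib.Helper27BG16basic.normal_UMs hKU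

theorem card_UMs (hG : IsMinSimpleOddOrder G) {M K U : Subgroup G} (hM : IsCoatom M)
    (hKU : IsSigmaDecomposition M K U) :
    Nat.card ↥(U ⊔ sigmaCore M) = Nat.card U * Nat.card (sigmaCore M) :=
  Cfsg.Agent.Lib.Helper27BG16basic.card_UMs hG hM hKU

theorem K_inf_UMs (hG : IsMinSimpleOddOrder G) {M K U : Subgroup G} (hM : IsCoatom M)
    (hKU : IsSigmaDecomposition M K U) : K ⊓ (U ⊔ sigmaCore M) = ⊥ :=
  Cfsg.Agent.Lib.Helper27BG16basic.K_inf_UMs hG hM hKU

/-- every `κ(M)'`-subgroup of `M` lies in the normal Hall subgroup `U M_σ`. -/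
theorem le_UMs (hG : IsMinSimpleOddOrder G) {M K U : Subgroup G} (hM : IsCoatom M)
    (hKU : IsSigmaDecomposition M K U) {Y : Subgroup G} (hYM : Y ≤ M)
    (hY : ∀ p : ℕ, p.Prime → p ∣ Nat.card Y → p ∉ kappa M) : Y ≤ U ⊔ sigmaCore M :=
  Cfsg.Agent.Lib.Helper27BG16basic.le_UMs hG hM hKU hYM hY

/-- Hall: every `κ(M)`-subgroup of `M` is `M`-conjugate into `K`. -/
theorem exists_cj_le_K (hG : IsMinSimpleOddOrder G) {M K : Subgroup G} (hM : IsCoatom M)
    (hK : IsPiHallOf (kappa M) K M) {Y : Subgroup G} (hYM : Y ≤ M)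
    (hY : ∀ p : ℕ, p.Prime → p ∣ Nat.card Y → p ∈ kappa M) : ∃ m ∈ M, cj m Y ≤ K :=
  Cfsg.Agent.Lib.Helper27BG16basic.exists_cj_le_K hG hM hK hYM hY

/-- Hall: every `σ(M)'`-subgroup of `U M_σ` is conjugate into `U` by an element of `U M_σ`. -/
theorem exists_cj_le_U (hG : IsMinSimpleOddOrder G) {M K U : Subgroup G} (hM : IsCoatom M)
    (hKU : IsSigmaDecomposition M K U) {Y : Subgroup G} (hYM : Y ≤ U ⊔ sigmaCore M)
    (hY : ∀ p : ℕ, p.Prime → p ∣ Nat.card Y → p ∉ sigma M) : ∃ m ∈ U ⊔ sigmaCore M, cj m Y ≤ U :=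
  Cfsg.Agent.Lib.Helper27BG16basic.exists_cj_le_U hG hM hKU hYM hY

/-- Hall: a Hall `κ(M)`-subgroup of `M` exists, above any given `κ(M)`-subgroup. -/
theorem exists_kappa_hall_ge (hG : IsMinSimpleOddOrder G) {M : Subgroup G} (hM : IsCoatom M)
    {Y : Subgroup G} (hYM : Y ≤ M) (hY : ∀ p : ℕ, p.Prime → p ∣ Nat.card Y → p ∈ kappa M) :
    ∃ K : Subgroup G, IsPiHallOf (kappa M) K M ∧ Y ≤ K :=
  Cfsg.Agent.Lib.Helper27BG16basic.exists_kappa_hall_ge hG hM hYM hY

/-- criterion for `p ∈ κ(M)`. -/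
theorem mem_kappa (hG : IsMinSimpleOddOrder G) {M : Subgroup G} (hM : IsCoatom M) {p : ℕ}
    (hp : p.Prime) (hσ : p ∉ sigma M) (hr : PRankLE p 1 M) {x y : G} (hx : x ∈ M) (hxp : orderOf x = p)
    (hy : y ∈ sigmaCore M) (hy1 : y ≠ 1) (hxy : x * y = y * x) : p ∈ kappa M :=
  Cfsg.Agent.Lib.Helper27BG16basic.mem_kappa hG hM hp hσ hr hx hxp hy hy1 hxy

/-- `K = 1` iff `κ(M) = ∅`. -/
theorem kappa_eq_empty_iff {M K : Subgroup G} (hK : IsPiHallOf (kappa M) K M) :
    kappa M = ∅ ↔ K = ⊥ :=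
  Cfsg.Agent.Lib.Helper27BG16basic.kappa_eq_empty_iff hK

/-- every prime divisor of `|M|` outside `σ(M)` has `p`-rank at most 2 in `M`. -/
theorem rank_le_two (hG : IsMinSimpleOddOrder G) {M : Subgroup G} (hM : IsCoatom M) {p : ℕ}
    (hp : p.Prime) (hσ : p ∉ sigma M) : PRankLE p 2 M :=
  Cfsg.Agent.Lib.Helper27BG16basic.rank_le_two hG hM hp hσ

/-- an element of `K K*` outside `K ∪ K*` is `x y` with `1 ≠ x ∈ K`, `1 ≠ y ∈ K*`. -/
theorem exists_mul_of_mem_Zhat {M K : Subgroup G} {z : G}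
    (hz : z ∈ ((↑(K ⊔ (sigmaCore M ⊓ centralizer (K : Set G))) : Set G) \
      ((K : Set G) ∪ ↑(sigmaCore M ⊓ centralizer (K : Set G))))) :
    ∃ x ∈ K, ∃ y ∈ sigmaCore M ⊓ centralizer (K : Set G), x ≠ 1 ∧ y ≠ 1 ∧ z = x * y :=
  Cfsg.Agent.Lib.Helper27BG16basic.exists_mul_of_mem_Zhat hz

/-! ## piece `fhall` : `M_F` -/

theorem fittingHallOf_le_sigmaCore (hG : IsMinSimpleOddOrder G) {M : Subgroup G} (hM : IsCoatom M) :
    fittingHallOf M ≤ sigmaCore M :=
  Cfsg.Agent.Lib.Helper27BG16fhall.fittingHallOf_le_sigmaCore hG hM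

theorem fittingHallOf_nilpotent (M : Subgroup G) : Group.IsNilpotent (fittingHallOf M) :=
  Cfsg.Agent.Lib.Helper27BG16fhall.fittingHallOf_nilpotent M

theorem fittingHallOf_hall (M : Subgroup G) :
    (Nat.card (fittingHallOf M)).Coprime ((fittingHallOf M).relIndex M) :=
  Cfsg.Agent.Lib.Helper27BG16fhall.fittingHallOf_hall M

theorem le_normalizer_fittingHallOf (M : Subgroup G) : M ≤ normalizer (fittingHallOf M : Set G) :=
  Cfsg.Agent.Lib.Helper27BG16fhall.le_normalizer_fittingHallOf M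

theorem fittingHallOf_eq_sigmaCore_iff (hG : IsMinSimpleOddOrder G) {M : Subgroup G} (hM : IsCoatom M) :
    fittingHallOf M = sigmaCore M ↔ Group.IsNilpotent (sigmaCore M) :=
  Cfsg.Agent.Lib.Helper27BG16fhall.fittingHallOf_eq_sigmaCore_iff hG hM

/-- a normal Sylow subgroup of `M` lies in `M_F`. -/
theorem le_fittingHallOf {M Q : Subgroup G} {q : ℕ} [Fact q.Prime] (hQ : IsSyl q Q M)
    (hn : M ≤ normalizer (Q : Set G)) : Q ≤ fittingHallOf M :=
  Cfsg.Agent.Lib.Helper27BG16fhall.le_fittingHallOf hQ hn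

end Cfsg.Agent.Lib.Helper51BG16
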