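import Cfsg.Agent.Lib.Helper66BG15ab
import Cfsg.Agent.Lib.Helper51BG16a
import Cfsg.Agent.Lib.Helper21BG16Ulemma
import Cfsg.Agent.S1429
import Cfsg.Agent.S1430
import Cfsg.Agent.S1350

set_option autoImplicit false
open Cfsg

namespace Cfsg.Agent.Lib.Helper66BG15allbeta

open Subgroup
open Cfsg.Agent.Lib.Helper30Trans Cfsg.Agent.Lib.Helper24BG

universe u
variable {G : Type u} [Group G] [Finite G]

theorem card_mul_relIndex' {A B : Subgroup G} (h : A ≤ B) :
    Nat.card A * A.relIndex B = Nat.card B := by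
  have := relIndex_mul_relIndex ⊥ A B bot_le h
  rwa [relIndex_bot_left, relIndex_bot_left] at this

theorem exists_sylow_le {M U : Subgroup G} {p : ℕ} [Fact p.Prime] (hUM : U ≤ M)
    (hp : ¬ p ∣ U.relIndex M) : ∃ S : Sylow p M, (S : Subgroup M).map M.subtype ≤ U := by
  have hpp : p.Prime := Fact.out
  obtain ⟨S₀⟩ : Nonempty (Sylow p U) := inferInstance
  obtain ⟨S', hS'⟩ : ∃ S' : Subgroup G, S' = (S₀ : Subgroup U).map U.subtype := ⟨_, rfl⟩
  have hS'U : S' ≤ U := by rw [hS']; exact map_subtype_le _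
  have hS'p : IsPGroup p S' := by rw [hS']; exact S₀.2.map _
  have hcard : Nat.card S' = Nat.card S₀ := by
    rw [hS']; exact card_map_of_injective U.subtype_injective
  have hrel : S'.relIndex U = (S₀ : Subgroup U).index := by
    have h1 := card_mul_relIndex' hS'U
    have h2 := (S₀ : Subgroup U).card_mul_index
    rw [← h2, hcard] at h1
    exact Nat.eq_of_mul_eq_mul_left Nat.card_pos h1
  have hT : IsPGroup p (S'.subgroupOf M) := hS'p.comap_of_injective _ M.subtype_injective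
  have hidx : ¬ p ∣ (S'.subgroupOf M).index := by
    have h1 : (S'.subgroupOf M).index = S'.relIndex U * U.relIndex M :=
      (relIndex_mul_relIndex S' U M hS'U hUM).symm
    rw [h1, hrel]
    intro h
    rcases (Nat.Prime.dvd_mul hpp).mp h with h | h
    · exact S₀.not_dvd_index h
    · exact hp h
  refine ⟨hT.toSylow hidx, ?_⟩
  rintro _ ⟨y, hy, rfl⟩
  exact hS'U (mem_subgroupOf.mp hy)

/-- piece `allbeta` (S1429, S1430, Ulemma, S1446) -/
theorem all_beta (hG : IsMinSimpleOddOrder G) {M K U : Subgroup G} (hM : IsCoatom M)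
    (hKU : IsSigmaDecomposition M K U) (hK1 : K ≠ ⊥) (hU1 : U ≠ ⊥) :
    (Nat.card K).Prime ∧ Group.IsNilpotent (sigmaCore M) ∧
      ∀ r : ℕ, r.Prime → r ∣ Nat.card (sigmaCore M) → r ∈ beta M := by
  have hUM : U ≤ M := hKU.compl.1
  have hKM : K ≤ M := hKU.hall.1
  have hMsM : sigmaCore M ≤ M := Cfsg.Agent.Lib.Helper2BGb.sigmaCore_le M
  have hMN : M ≤ normalizer (sigmaCore M : Set G) :=
    Cfsg.Agent.Lib.Helper2BGb.le_normalizer_sigmaCore M
  -- a prime divisor of `|U|`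
  have hUc : Nat.card U ≠ 1 := fun h => hU1 (card_eq_one.mp h)
  obtain ⟨p, hp, hpU⟩ := Nat.exists_prime_and_dvd hUc
  have : Fact p.Prime := ⟨hp⟩
  obtain ⟨hpκ, hpσ⟩ := Cfsg.Agent.Lib.Helper51BG16.U_primes hG hM hKU p hp hpU
  have hpM : p ∣ Nat.card M := hpU.trans (card_dvd_of_le hUM)
  have hcKMs := Cfsg.Agent.Lib.Helper51BG16.coprime_K_Ms hG hM hKU
  have hcKU := Cfsg.Agent.Lib.Helper51BG16.coprime_K_U hG hM hKU
  have hcUMs := Cfsg.Agent.Lib.Helper51BG16.coprime_U_Ms hG hM hKU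
  have hcardM := Cfsg.Agent.Lib.Helper51BG16.card_eq hG hM hKU
  have hrelU : U.relIndex M = Nat.card K * Nat.card (sigmaCore M) := by
    have h1 := card_mul_relIndex' hUM
    rw [hcardM, mul_assoc] at h1
    exact Nat.eq_of_mul_eq_mul_left Nat.card_pos h1
  have hpK : ¬ p ∣ Nat.card K := fun h => hpκ (hKU.hall.2.1 p hp h)
  have hpMs : ¬ p ∣ Nat.card (sigmaCore M) :=
    fun h => hpσ (Cfsg.Agent.Lib.Helper2BGb.card_sigmaCore M p hp h)
  have hprel : ¬ p ∣ U.relIndex M := by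
    rw [hrelU]
    intro h
    rcases (Nat.Prime.dvd_mul hp).mp h with h | h
    · exact hpK h
    · exact hpMs h
  obtain ⟨S, hSU⟩ := exists_sylow_le hUM hprel
  obtain ⟨-, hCA, hnil⟩ := Cfsg.Agent.S1429.result hG M hM
    (fun h => hpκ (h p hp hpM hpσ)) p hpM
    (by
      rintro (h | h)
      · exact hpσ h
      · exact hpκ h) S
  have hCU : sigmaCore M ⊓ centralizer (U : Set G) = ⊥ := by
    rw [eq_bot_iff, ← hCA]
    refine inf_le_inf_left _ (centralizer_le ?_)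
    have : closure {x : G | x ∈ (S : Subgroup M).map M.subtype ∧ x ^ p = 1} ≤ U := by
      rw [closure_le]
      intro x hx
      exact hSU hx.1
    exact this
  -- `M_σ ≠ 1`
  have hKc : Nat.card K ≠ 1 := fun h => hK1 (card_eq_one.mp h)
  obtain ⟨p', hp', hp'K⟩ := Nat.exists_prime_and_dvd hKc
  have hMs1 : sigmaCore M ≠ ⊥ := by
    have : Fact p'.Prime := ⟨hp'⟩
    have hκ := hKU.hall.2.1 p' hp' hp'K
    obtain ⟨P⟩ : Nonempty (Sylow p' M) := inferInstance
    obtain ⟨-, x, -, -, y, hy, hy1, -⟩ := hκ.2.2.2 P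
    intro h
    rw [h, mem_bot] at hy
    exact hy1 hy
  have hUKM : U ⊔ K ≤ M := sup_le hUM hKM
  have hMtop : M ≠ ⊤ := hM.1
  have hsolM : Group.IsSolvable M := sol hG hMtop
  have hsolv : Group.IsSolvable ↥(U ⊔ K) := Cfsg.Agent.Lib.Helper30SZ.solvable_of_le hsolM hUKM
  have hodd : Odd (Nat.card ↥(U ⊔ K)) := Odd.of_dvd_nat hG.1 (card_subgroup_dvd_card _)
  have hcardUK : Nat.card ↥(U ⊔ K) = Nat.card K * Nat.card U := by
    rw [sup_comm]; exact Cfsg.Agent.Lib.Helper51BG16.card_KU hG hM hKU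
  have hcop : (Nat.card ↥(U ⊔ K)).Coprime (Nat.card (sigmaCore M)) := by
    rw [hcardUK]; exact Nat.Coprime.mul_left hcKMs hcUMs
  have hfree := (Cfsg.Agent.Lib.Helper21BG16Ulemma.U_abelian_free hG hM hKU hK1).2
  have hpr := (Cfsg.Agent.S1430.result hG M hM K hKU.hall hK1).1
  have hHall := (Cfsg.Agent.S1350.result hG M hM).2.1
  obtain ⟨h1, h2⟩ := Cfsg.Agent.Lib.Helper66BG15ab.pure_all_beta hMsM hnil hMs1 hK1 hU1
    (Cfsg.Agent.Lib.Helper30SZ.inf_eq_bot_of_coprime hcKU) hKU.normal hfree hsolv hodd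
    (hUM.trans hMN) (hKM.trans hMN) hcop hCU hpr
    (fun r hr hrd => hHall.2 r hr (hHall.1 r hr hrd))
  exact ⟨h1, hnil, h2⟩

end Cfsg.Agent.Lib.Helper66BG15allbeta
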