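import Cfsg.Agent.Lib.Helper51BG16b
import Cfsg.Agent.S1357
import Cfsg.Agent.S1363
import Cfsg.Agent.S1365
import Cfsg.Agent.S1437
import Cfsg.Agent.Lib.Helper31BGS
import Cfsg.Agent.Lib.Helper30SZ
import Cfsg.Agent.Lib.Helper37Cores

/-!
PROJECT 16, part 2: small lemmas shared by the rows S1381, S1382, S1383.
-/

set_option autoImplicit false
set_option linter.unusedSectionVars false
open Cfsg

namespace Cfsg.Agent.Lib.Helper14BG16

open Subgroup
open Cfsg.Agent.Lib.Helper30Trans Cfsg.Agent.Lib.Helper24BG Cfsg.Agent.Lib.Helper51BG16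

universe u
variable {G : Type u} [Group G] [Finite G]

theorem nilpotent_of_comm {U : Subgroup G} (h : IsMulCommutative U) : Group.IsNilpotent U := by
  let _ : CommGroup U := { (inferInstance : Group U) with mul_comm := h.is_comm.comm }
  exact CommGroup.isNilpotent

theorem compl_Ms_U (hG : IsMinSimpleOddOrder G) {M K U : Subgroup G} (hM : IsCoatom M)
    (hKU : IsSigmaDecomposition M K U) : IsComplIn (sigmaCore M) U (U ⊔ sigmaCore M) := by
  have hUM : U ≤ M := hKU.compl.1
  have hUN : U ≤ normalizer (sigmaCore M : Set G) := hUM.trans (Helper2BGb.le_normalizer_sigmaCore M)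
  refine ⟨le_sup_right, le_sup_left, ?_, ?_⟩
  · exact Helper30SZ.inf_eq_bot_of_coprime (coprime_U_Ms hG hM hKU)
  · intro m hm
    rw [sup_comm] at hm
    exact (Helper30SZ.mem_sup_iff hUN).mp hm

/-- a complement of `M_F` in `M_σ` is a Hall subgroup of `M_σ` -/
theorem hall_of_compl {M U' : Subgroup G}
    (hc : IsComplIn (fittingHallOf M) U' (sigmaCore M)) :
    (Nat.card U').Coprime (U'.relIndex (sigmaCore M)) := by
  rw [Helper31BGS.relIndex_compl' hc, ← Helper31BGS.relIndex_compl hc]
  have h1 := fittingHallOf_hall M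
  have h2 : (fittingHallOf M).relIndex (sigmaCore M) ∣ (fittingHallOf M).relIndex M :=
    Dvd.intro _ (relIndex_mul_relIndex _ _ _ hc.1 (Helper2BGb.sigmaCore_le M))
  exact (Nat.Coprime.coprime_dvd_right h2 h1).symm

theorem fittingHallOf_le_fittingOf (M : Subgroup G) : fittingHallOf M ≤ fittingOf M := by
  apply map_mono
  apply sSup_le_sSup
  rintro N ⟨h1, h2, -⟩
  exact ⟨h1, h2⟩

theorem fhall_eq_of_U_ne_bot (hG : IsMinSimpleOddOrder G) {M K U : Subgroup G} (hM : IsCoatom M)
    (hKU : IsSigmaDecomposition M K U) (hU1 : U ≠ ⊥) : fittingHallOf M = sigmaCore M := by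
  by_contra hne
  exact hU1 (Cfsg.Agent.S1357.result hG M hM K U hKU hne).1

end Cfsg.Agent.Lib.Helper14BG16
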