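import Mathlib
import Cfsg.Agent.Lib.Helper60PF8a
import Cfsg.Agent.Lib.Helper51BG16b
import Cfsg.Agent.S1351
import Cfsg.Agent.S1352
import Cfsg.Agent.S1357
import Cfsg.Agent.S1365
import Cfsg.Agent.S1381
import Cfsg.Agent.S1382

set_option autoImplicit false
set_option linter.unusedSectionVars false

namespace Cfsg.Agent.Lib.H60WCore

open Cfsg Subgroup

variable {G : Type*} [Group G] [Finite G]

/-- existence of a sigma-decomposition: S1351 + S1352 (copy the 3 lines of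
`Helper60PF8rows.rows.dec`). -/
theorem exists_dec (hG : IsMinSimpleOddOrder G) {M : Subgroup G} (hM : IsCoatom M) :
    ∃ K U : Subgroup G, IsSigmaDecomposition M K U := by
  obtain ⟨⟨K, hK⟩, hcyc⟩ := Cfsg.Agent.S1351.result hG M hM
  obtain ⟨⟨U, hU⟩, -⟩ := Cfsg.Agent.S1352.result hG M hM K (hcyc K hK) hK
  exact ⟨K, U, hU⟩

/-- not III/IV => `M_F = M_σ` (second half of the previous proof). -/
theorem fhall_eq_of_not_III (hG : IsMinSimpleOddOrder G) {M : Subgroup G} (hM : IsCoatom M)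
    (h : ¬ (IsOfTypeIII M ∨ IsOfTypeIV M)) : fittingHallOf M = sigmaCore M := by
  by_contra hne
  obtain ⟨K, U, hKU⟩ := exists_dec hG hM
  obtain ⟨hU, -, hK⟩ := Cfsg.Agent.S1357.result hG M hM K U hKU hne
  apply h
  refine (Cfsg.Agent.S1382.result hG M hM K U hKU).2 ⟨?_, hU, hne⟩
  rintro rfl
  rw [Subgroup.card_bot] at hK
  exact Nat.not_prime_one hK

/-- III/IV: `M' = M_σ`. -/
theorem derived_eq_of_III (hG : IsMinSimpleOddOrder G) {M : Subgroup G} (hM : IsCoatom M)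
    (h : IsOfTypeIII M ∨ IsOfTypeIV M) : ⁅M, M⁆ = sigmaCore M := by
  obtain ⟨K, U, hKU⟩ := exists_dec hG hM
  obtain ⟨hK, hU, -⟩ := (Cfsg.Agent.S1382.result hG M hM K U hKU).1 h
  rw [(Cfsg.Agent.S1365.result hG M hM K U hKU hK).1, hU, bot_sup_eq]

/-- (G1) `M_s = M_σ` for EVERY maximal `M`.  `unfold typeCore; split_ifs`.
III/IV: S1382 (->) gives `K ≠ ⊥`, `U = ⊥`; S1365 gives `M' = U ⊔ M_σ = M_σ`.
Otherwise `M_F = M_σ`: if not, S1357 gives `U = ⊥`, `|K|` prime (so `K ≠ ⊥`), and S1382 (<-) gives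
III ∨ IV. -/
theorem typeCore_eq (hG : IsMinSimpleOddOrder G) {M : Subgroup G} (hM : IsCoatom M) :
    typeCore M = sigmaCore M := by
  unfold typeCore
  split_ifs with h
  · exact derived_eq_of_III hG hM h
  · exact fhall_eq_of_not_III hG hM h

/-- III/IV: type P data, `U_compl.1 : M_F ≤ M'` and `M' = M_σ`; otherwise equality. -/
theorem fhall_le (hG : IsMinSimpleOddOrder G) {M : Subgroup G} (hM : IsCoatom M) :
    fittingHallOf M ≤ sigmaCore M := by
  by_cases h : IsOfTypeIII M ∨ IsOfTypeIV M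
  · rw [← derived_eq_of_III hG hM h]
    rcases h with ⟨W₁, U', W₂, hP, -⟩ | ⟨W₁, U', W₂, hP, -⟩
    · exact hP.U_compl.1
    · exact hP.U_compl.1
  · exact (fhall_eq_of_not_III hG hM h).le

/-- III/IV: `H_not_cyclic`; otherwise `Helper3BGNotuniq.sigmaCore_ne_bot`. -/
theorem fhall_ne_bot (hG : IsMinSimpleOddOrder G) {M : Subgroup G} (hM : IsCoatom M) :
    fittingHallOf M ≠ ⊥ := by
  by_cases h : IsOfTypeIII M ∨ IsOfTypeIV M
  · intro h0
    have hc : IsCyclic ↥(fittingHallOf M) := by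
      rw [h0]
      infer_instance
    rcases h with ⟨W₁, U', W₂, hP, -⟩ | ⟨W₁, U', W₂, hP, -⟩
    · exact hP.H_not_cyclic hc
    · exact hP.H_not_cyclic hc
  · rw [fhall_eq_of_not_III hG hM h]
    exact Cfsg.Agent.Lib.Helper3BGNotuniq.sigmaCore_ne_bot hG hM

/-- `Helper51BG16.of_typeF` (`h.1 : IsOfTypeF M`). -/
theorem K_eq_bot_of_I (hG : IsMinSimpleOddOrder G) {M K U : Subgroup G} (hM : IsCoatom M)
    (hKU : IsSigmaDecomposition M K U) (h : IsOfTypeI M) : K = ⊥ :=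
  (Cfsg.Agent.Lib.Helper51BG16.of_typeF hG hM hKU h.1).1

/-- `K = ⊥` against S1382 (->). -/
theorem not_III_of_I (hG : IsMinSimpleOddOrder G) {M : Subgroup G} (hM : IsCoatom M)
    (h : IsOfTypeI M) : ¬ (IsOfTypeIII M ∨ IsOfTypeIV M) := by
  intro h3
  obtain ⟨K, U, hKU⟩ := exists_dec hG hM
  exact ((Cfsg.Agent.S1382.result hG M hM K U hKU).1 h3).1 (K_eq_bot_of_I hG hM hKU h)

/-- S1381 (->) gives `U ≠ ⊥`, S1382 (->) gives `U = ⊥`. -/
theorem not_III_of_II (hG : IsMinSimpleOddOrder G) {M : Subgroup G} (hM : IsCoatom M)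
    (h : IsOfTypeII M) : ¬ (IsOfTypeIII M ∨ IsOfTypeIV M) := by
  intro h3
  obtain ⟨K, U, hKU⟩ := exists_dec hG hM
  exact ((Cfsg.Agent.S1381.result hG M hM K U hKU).1 h).2
    ((Cfsg.Agent.S1382.result hG M hM K U hKU).1 h3).2.1


end Cfsg.Agent.Lib.H60WCore
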