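import Mathlib
import Cfsg.Agent.Lib.H60WCore

set_option autoImplicit false
set_option linter.unusedSectionVars false

namespace Cfsg.Agent.Lib.H60WKinds

open Cfsg Subgroup

variable {G : Type*} [Group G] [Finite G]

/-- `K = ⊥` => `M = U ⊔ M_σ` (from `hKU.compl : IsComplIn U (K ⊔ M_σ) M`). -/
theorem le_sup_of_K_bot {M K U : Subgroup G} (hKU : IsSigmaDecomposition M K U) (hK : K = ⊥) :
    M ≤ U ⊔ sigmaCore M := by
  intro m hm
  obtain ⟨a, ha, b, hb, rfl⟩ := hKU.compl.2.2.2 m hm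
  rw [hK, bot_sup_eq] at hb
  exact mul_mem (mem_sup_left ha) (mem_sup_right hb)

/-- (G2) the three kinds of elements of `A₀(M)`.
`x ∈ typeA M`, Type I: `x ∈ M`, `x ≠ 1`, commutes with `y ∈ M_F^# = M_σ^#`
(`H60WCore.fhall_eq_of_not_III`, `not_III_of_I`), `K = ⊥` so `x ∈ U ⊔ M_σ`.
`x ∈ typeA M`, not Type I: `x ∈ M'`, commutes with `y ∈ typeCore M = M_σ`; `M' ≤ U ⊔ M_σ`: if `K = ⊥` by
`le_sup_of_K_bot`, otherwise S1365.
Second part of the union: third kind by definition.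
(`sigmaA M U = sigmaHat M ∩ (U ⊔ M_σ)`, `sigmaHat M = {a ∈ M | ∃ y ∈ M_σ, y ≠ 1 ∧ a * y = y * a}`.) -/
theorem kinds (hG : IsMinSimpleOddOrder G) {M K U : Subgroup G} (hM : IsCoatom M)
    (hKU : IsSigmaDecomposition M K U) {x : G} (hx : x ∈ typeA0 M) :
    (x ∈ sigmaCore M ∧ x ≠ 1) ∨ (x ∈ sigmaA M U ∧ x ∉ sigmaCore M) ∨
    (∃ W₁ U' W₂ : Subgroup G, IsTypePWith M W₁ U' W₂ ∧
      ∃ m ∈ M, ∃ w ∈ W₁ ⊔ W₂, w ∉ W₁ ∧ w ∉ W₂ ∧ x = m * w * m⁻¹) := by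
  have key : ∀ y ∈ sigmaCore M, y ≠ 1 → x * y = y * x → x ∈ M → x ≠ 1 → x ∈ U ⊔ sigmaCore M →
      (x ∈ sigmaCore M ∧ x ≠ 1) ∨ (x ∈ sigmaA M U ∧ x ∉ sigmaCore M) := by
    intro y hy hy1 hxy hxM hx1 hxU
    by_cases hxs : x ∈ sigmaCore M
    · exact Or.inl ⟨hxs, hx1⟩
    · exact Or.inr ⟨⟨⟨hxM, y, hy, hy1, hxy⟩, hxU⟩, hxs⟩
  rcases hx with hx | ⟨-, hx⟩
  · unfold typeA at hx
    split_ifs at hx with hI
    · obtain ⟨hxM, hx1, y, hy, hy1, hxy⟩ := hx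
      rw [Cfsg.Agent.Lib.H60WCore.fhall_eq_of_not_III hG hM
        (Cfsg.Agent.Lib.H60WCore.not_III_of_I hG hM hI)] at hy
      rcases key y hy hy1 hxy hxM hx1
        (le_sup_of_K_bot hKU (Cfsg.Agent.Lib.H60WCore.K_eq_bot_of_I hG hM hKU hI) hxM) with h | h
      · exact Or.inl h
      · exact Or.inr (Or.inl h)
    · obtain ⟨hxM', hx1, y, hy, hy1, hxy⟩ := hx
      rw [Cfsg.Agent.Lib.H60WCore.typeCore_eq hG hM] at hy
      have hxM : x ∈ M := Subgroup.commutator_le_self M hxM'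
      have hxU : x ∈ U ⊔ sigmaCore M := by
        by_cases hK : K = ⊥
        · exact le_sup_of_K_bot hKU hK hxM
        · rw [← (Cfsg.Agent.S1365.result hG M hM K U hKU hK).1]
          exact hxM'
      rcases key y hy hy1 hxy hxM hx1 hxU with h | h
      · exact Or.inl h
      · exact Or.inr (Or.inl h)
  · exact Or.inr (Or.inr hx)


end Cfsg.Agent.Lib.H60WKinds
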