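import Mathlib
import Cfsg.Agent.Lib.Helper24BG1436Defs
import Cfsg.Agent.Lib.Helper31BGS
import Cfsg.Agent.Lib.Helper31UniqD
import Cfsg.Agent.Lib.Helper2BGa
import Cfsg.Agent.Lib.Helper1Fitting
import Cfsg.Agent.Lib.Helper27Core
import Cfsg.Agent.S1350
import Cfsg.Agent.S1414
import Cfsg.Agent.S1417

/-! PROJECT 1436, piece `order` (Lemma O): `t ∈ τ₂(M)`, `s ∈ σ(M) ∖ β(M)` implies `t ≤ s`. -/

set_option autoImplicit false

namespace Cfsg.Agent.Lib.Helper17BG1436order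

open Cfsg Subgroup

variable {G : Type*} [Group G] [Finite G]

/-- the image in `G` of `O_{s'}(M)` -/
theorem core_facts (M : Subgroup G) (s : ℕ) :
    ((pPrimeCore s ↥M).map M.subtype ≤ M) ∧
    (M ≤ normalizer (((pPrimeCore s ↥M).map M.subtype : Subgroup G) : Set G)) ∧
    (Nat.card ((pPrimeCore s ↥M).map M.subtype : Subgroup G)).Coprime s ∧
    ((pPrimeCore s ↥M).map M.subtype).relIndex M = (pPrimeCore s ↥M).index ∧
    Nat.card ((pPrimeCore s ↥M).map M.subtype : Subgroup G) = Nat.card (pPrimeCore s ↥M) := by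
  have hn : (pPrimeCore s ↥M).Normal := Cfsg.Agent.Lib.Helper1Fitting.pPrimeCore_normal s
  have hc : Nat.card ((pPrimeCore s ↥M).map M.subtype : Subgroup G) = Nat.card (pPrimeCore s ↥M) :=
    Subgroup.card_map_of_injective M.subtype_injective
  refine ⟨map_subtype_le _, ?_, ?_, ?_, hc⟩
  · rw [le_normalizer_iff]
    rintro m hm _ ⟨w, hw, rfl⟩
    exact ⟨⟨m, hm⟩ * w * ⟨m, hm⟩⁻¹, hn.conj_mem w hw ⟨m, hm⟩, rfl⟩
  · rw [hc]
    exact Cfsg.Agent.Lib.Helper1Fitting.card_pPrimeCore_coprime s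
  · rw [relIndex, subgroupOf, comap_map_eq_self_of_injective M.subtype_injective]

theorem le_of_tau2 (hG : IsMinSimpleOddOrder G) {M : Subgroup G} (hM : IsCoatom M) {t s : ℕ}
    (ht : t ∈ tau2 M) (hs : s ∈ sigma M) (hsβ : s ∉ beta M) : t ≤ s := by
  have hsp : s.Prime := hs.1
  have htp : t.Prime := ht.1
  have : Fact s.Prime := ⟨hsp⟩
  have : Fact t.Prime := ⟨htp⟩
  have h14 := (Cfsg.Agent.S1414.result hG M hM).2.2.2.2 s hsp hs.2.1 hsβ
  apply h14.2.2 t htp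
  by_contra hnd
  obtain ⟨hWM, hMW, hWc, hWi, -⟩ := core_facts M s
  set W : Subgroup G := (pPrimeCore s ↥M).map M.subtype with hW
  obtain ⟨B, hBM, hBe, hBc⟩ := Cfsg.Agent.Lib.Helper31BGS.exists_sq (p := t) (X := M) ht.2.2.2
  have h17 := Cfsg.Agent.S1417.result hG M hM t ht B ⟨hBM, hBe, hBc⟩
  have hBW : B ≤ W := by
    refine Cfsg.Agent.Lib.Helper2BGa.le_of_relIndex_coprime hBM hMW ?_
    intro r hr hd
    rw [hBc] at hd
    have : r = t := (Nat.prime_dvd_prime_iff_eq hr htp).1 (hr.dvd_of_dvd_pow hd)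
    rw [this, hWi]
    exact hnd
  obtain ⟨Y, hYle, hYp, hYn, hYmax⟩ :=
    Cfsg.Agent.Lib.Helper31UniqD.exists_char_sylow (s := s) (F := sigmaCore M) h17.1
  have hMY : M ≤ normalizer (Y : Set G) :=
    (Cfsg.Agent.Lib.Helper31BGS.le_normalizer_sigmaCore M).trans hYn
  have hsσ : s ∣ Nat.card (sigmaCore M) := by
    have h50 := (Cfsg.Agent.S1350.result hG M hM).1
    have h1 := Cfsg.Agent.Lib.Helper27Core.card_mul_relIndex h50.1
    have h2 := hs.2.1
    rw [← h1] at h2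
    exact (hsp.dvd_mul.1 h2).resolve_right (h50.2.2 s hsp hs)
  obtain ⟨y, hy⟩ := exists_prime_orderOf_dvd_card' (G := sigmaCore M) s hsσ
  have hyY : (y : G) ∈ Y := by
    have h1 : zpowers (y : G) ≤ Y := by
      apply hYmax _ (zpowers_le.2 y.2)
      apply IsPGroup.of_card (n := 1)
      rw [Nat.card_zpowers, Subgroup.orderOf_coe, hy, pow_one]
    exact h1 (mem_zpowers _)
  have hyM : (y : G) ∈ M := Cfsg.Agent.Lib.Helper31BGS.sigmaCore_le M y.2
  have hdisj : Y ⊓ W = ⊥ := by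
    apply Disjoint.eq_bot
    apply disjoint_of_coprime_natCard
    obtain ⟨k, hk⟩ := IsPGroup.iff_card.1 hYp
    rw [hk]
    exact (Nat.Coprime.pow_left k hWc.symm)
  have hcent : (y : G) ∈ centralizer (B : Set G) := by
    rw [mem_centralizer_iff]
    intro b hb
    have h1 : b * (y : G) * b⁻¹ * (y : G)⁻¹ ∈ Y :=
      Y.mul_mem ((le_normalizer_iff.1 hMY) b (hBM hb) _ hyY) (Y.inv_mem hyY)
    have h2 : b * (y : G) * b⁻¹ * (y : G)⁻¹ ∈ W := by
      have := W.mul_mem (hBW hb) ((le_normalizer_iff.1 hMW) _ hyM _ (W.inv_mem (hBW hb)))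
      simpa [mul_assoc] using this
    have h3 : b * (y : G) * b⁻¹ * (y : G)⁻¹ ∈ Y ⊓ W := ⟨h1, h2⟩
    rw [hdisj, mem_bot] at h3
    have h4 : b * (y : G) = (b * (y : G) * b⁻¹ * (y : G)⁻¹) * ((y : G) * b) := by group
    rw [h4, h3, one_mul]
  have h5 : (y : G) ∈ sigmaCore M ⊓ centralizer (B : Set G) := ⟨y.2, hcent⟩
  rw [h17.2.2.2.1, mem_bot] at h5
  have h6 : y = 1 := Subtype.ext h5
  rw [h6, orderOf_one] at hy
  exact hsp.one_lt.ne hy

end Cfsg.Agent.Lib.Helper17BG1436order
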