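import Mathlib
import Cfsg.Agent.Lib.Helper24BG1436Defs
import Cfsg.Agent.Lib.Helper17BG1436order
import Cfsg.Agent.Lib.Helper30Gen
import Cfsg.Agent.S0023
import Cfsg.Agent.S1414

/-! PROJECT 1436, piece `commuting` (D2).  `sup_not_beta` (piece `setup`) enters as the last
hypothesis `hpβ`. -/

set_option autoImplicit false

namespace Cfsg.Agent.Lib.Helper17BG1436commuting

open Cfsg Subgroup
open Cfsg.Agent.Lib.Helper24BG1436Defs Cfsg.Agent.Lib.Helper17BG1436order

variable {G : Type*} [Group G] [Finite G]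

theorem not_cyclic_of_sq {p : ℕ} (hp : p.Prime) {A : Subgroup G} (hAe : IsElementaryAbelian p A)
    (hA2 : Nat.card A = p ^ 2) : ¬ IsCyclic A := by
  intro hc
  obtain ⟨g, hg⟩ := hc.exists_generator
  have h1 : orderOf g = Nat.card A := orderOf_eq_card_of_forall_mem_zpowers hg
  have h2 : g ^ p = 1 := Subtype.ext (hAe.2 _ g.2)
  have h3 := orderOf_le_of_pow_eq_one hp.pos h2
  rw [h1, hA2] at h3
  have := hp.one_lt
  nlinarith

theorem exists_commuting (hG : IsMinSimpleOddOrder G) {M N A : Subgroup G} {x : G} {p : ℕ}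
    (S : Sup M x N p A) {q : ℕ} (hq : q.Prime) (hqM : q ∣ Nat.card M) (hpq : p < q)
    (hpβ : p ∉ beta M) :
    ∃ a ∈ A, a ≠ 1 ∧ ∃ u ∈ M, orderOf u = q ∧ a * u = u * a := by
  have hpp : p.Prime := S.pσ.1
  have : Fact p.Prime := ⟨hpp⟩
  have : Fact q.Prime := ⟨hq⟩
  have h14 := (Cfsg.Agent.S1414.result hG M S.hM).2.2.2.2 p hpp S.pσ.2.1 hpβ
  have hnd : ¬ q ∣ (pPrimeCore p ↥M).index := fun h => absurd (h14.2.2 q hq h) (by omega)
  obtain ⟨hWM, hMW, hWc, -, hWcard⟩ := core_facts M p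
  set W : Subgroup G := (pPrimeCore p ↥M).map M.subtype with hW
  have hqW : q ∣ Nat.card W := by
    rw [hWcard]
    have h1 := (pPrimeCore p ↥M).card_mul_index
    rw [← h1] at hqM
    exact (hq.dvd_mul.1 hqM).resolve_right hnd
  have hAM : A ≤ M := S.hA.trans inf_le_left
  have hcop : (Nat.card A).Coprime (Nat.card W) := by
    rw [S.hA2]
    exact Nat.Coprime.pow_left 2 hWc.symm
  have hMs : Group.IsSolvable M := hG.2.2.2 M S.hM.1
  have hWs : Group.IsSolvable W := by
    have : Group.IsSolvable (pPrimeCore p ↥M) := inferInstance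
    exact Group.isSolvable_of_surjective (f := (M.subtype.subgroupMap (pPrimeCore p ↥M)))
      (MonoidHom.subgroupMap_surjective _ _)
  obtain ⟨Q₀, hQ₀⟩ := Cfsg.Agent.S0023.result A W (hAM.trans hMW) hcop (Or.inr hWs) q
  set Q : Subgroup G := (Q₀ : Subgroup W).map W.subtype with hQ
  have hQp : IsPGroup q Q := Q₀.2.map _
  have hQW : Q ≤ W := map_subtype_le _
  have hQne : Q ≠ ⊥ := by
    intro h
    have h1 : (Q₀ : Subgroup W) = ⊥ := by
      rw [hQ, (map_eq_bot_iff_of_injective _ W.subtype_injective)] at h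
      exact h
    have h2 := Q₀.not_dvd_index
    rw [h1, index_bot] at h2
    exact h2 hqW
  have hAc := S.hAe.1
  let _ : CommGroup A :=
    { (inferInstance : Group A) with mul_comm := fun a b => mul_comm' a b }
  obtain ⟨r, w, z, hr, hw, hz, hw1, hzw⟩ :=
    Cfsg.Agent.Lib.Helper30Gen.exists_rank_two (not_cyclic_of_sq hpp S.hAe S.hA2)
  have hwp : (w : G) ^ p = 1 := S.hAe.2 _ w.2
  have hzp : (z : G) ^ p = 1 := S.hAe.2 _ z.2
  have hc : Commute (w : G) (z : G) := by
    have : w * z = z * w := mul_comm w z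
    exact congrArg Subtype.val this
  have hQcop : (Nat.card Q).Coprime p :=
    Nat.Coprime.coprime_dvd_left (card_dvd_of_le hQW) hWc
  have hgen := Cfsg.Agent.Lib.Helper30Gen.pgroup_le_gen hQp (r := p) hc hwp hzp hQcop
    (hQ₀ w.2) (hQ₀ z.2)
  -- some centralizer is non-trivial
  have key : ∃ a ∈ A, a ≠ 1 ∧ Q ⊓ centralizer {a} ≠ ⊥ := by
    by_contra hcon
    push Not at hcon
    apply hQne
    rw [eq_bot_iff]
    refine hgen.trans (sup_le ?_ (iSup_le fun j => ?_))
    · rw [hcon _ w.2 (fun h0 => hw1 (Subtype.ext h0))]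
    · rw [hcon _ (A.mul_mem z.2 (A.pow_mem w.2 j))
        (fun h0 => hzw j (Subtype.ext (by simpa using h0)))]
  obtain ⟨a, haA, ha1, hne⟩ := key
  refine ⟨a, haA, ha1, ?_⟩
  have hDp : IsPGroup q (Q ⊓ centralizer {a} : Subgroup G) := hQp.to_le inf_le_left
  have hqD : q ∣ Nat.card (Q ⊓ centralizer {a} : Subgroup G) := by
    obtain ⟨k, hk⟩ := IsPGroup.iff_card.1 hDp
    rw [hk]
    rcases Nat.eq_zero_or_pos k with h0 | h0
    · exfalso
      rw [h0, pow_zero] at hk
      exact hne ((Subgroup.card_eq_one).1 hk)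
    · exact dvd_pow_self q h0.ne'
  obtain ⟨u, hu⟩ := exists_prime_orderOf_dvd_card' (G := (Q ⊓ centralizer {a} : Subgroup G)) q hqD
  refine ⟨u, hWM (hQW u.2.1), by rw [Subgroup.orderOf_coe, hu], ?_⟩
  exact (mem_centralizer_singleton_iff.1 u.2.2).symm

end Cfsg.Agent.Lib.Helper17BG1436commuting
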