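import Mathlib
import Cfsg.Agent.Lib.Helper24BG1436Defs
import Cfsg.Agent.Lib.Helper31BGS
import Cfsg.Agent.Lib.Helper31UniqD
import Cfsg.Agent.Lib.Helper31Nilpotent
import Cfsg.Agent.Lib.Helper2BGb
import Cfsg.Agent.Lib.Helper37BG
import Cfsg.Agent.Lib.Helper37BGPartA
import Cfsg.Agent.Lib.Helper37BG14kbasic
import Cfsg.Agent.Lib.Helper27Core
import Cfsg.Agent.S1414

/-! PROJECT 1436, piece `dercent` (T1). -/

set_option autoImplicit false

namespace Cfsg.Agent.Lib.Helper17BG1436dercent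

open Cfsg Subgroup
open Cfsg.Agent.Lib.Helper30Trans

variable {G : Type*} [Group G] [Finite G]

theorem derived_cent (hG : IsMinSimpleOddOrder G) {M : Subgroup G} (hM : IsCoatom M)
    (hnil : Group.IsNilpotent (sigmaCore M)) {p : ℕ} [Fact p.Prime] (hp : p ∈ sigma M)
    (hpβ : p ∉ beta M) {Y A : Subgroup G} (hY : Y ≤ ⁅M, M⁆)
    (hYσ : ∀ r : ℕ, r.Prime → r ∣ Nat.card Y → r ∉ sigma M) (hA : A ≤ M) (hAp : IsPGroup p A) :
    Y ≤ centralizer (A : Set G) := by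
  have hpp : p.Prime := Fact.out
  obtain ⟨H₁, hH₁, hH₁n⟩ := (Cfsg.Agent.S1414.result hG M hM).2.2.1
  obtain ⟨P, hPle, hPp, hPn, hPmax⟩ :=
    Cfsg.Agent.Lib.Helper31UniqD.exists_char_sylow (s := p) (F := sigmaCore M) hnil
  have hMP : M ≤ normalizer (P : Set G) :=
    (Cfsg.Agent.Lib.Helper31BGS.le_normalizer_sigmaCore M).trans hPn
  have hAP : A ≤ P := hPmax A (Cfsg.Agent.Lib.Helper2BGb.pgroup_le_sigmaCore hG hM hp hA hAp) hAp
  have hder : ⁅M, M⁆ ≤ M := commutator_le.2 fun a ha b hb =>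
    M.mul_mem (M.mul_mem (M.mul_mem ha hb) (M.inv_mem ha)) (M.inv_mem hb)
  have hPd : P ≤ ⁅M, M⁆ := hPle.trans (Cfsg.Agent.Lib.Helper2BGb.sigmaCore_le_derived hG hM)
  have hZd : P ⊔ Y ≤ ⁅M, M⁆ := sup_le hPd hY
  have hds : Group.IsSolvable ↥⁅M, M⁆ := by
    apply hG.2.2.2
    intro h
    exact hM.1 (top_le_iff.1 (h ▸ hder))
  have hZπ : ∀ r : ℕ, r.Prime → r ∣ Nat.card (P ⊔ Y : Subgroup G) →
      r ∈ {q : ℕ | q.Prime ∧ q ∉ beta M} := by
    intro r hr hd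
    refine ⟨hr, ?_⟩
    have h1 := hd.trans (Cfsg.Agent.Lib.Helper27Core.card_sup_dvd ((hY.trans hder).trans hMP))
    rcases hr.dvd_mul.1 h1 with h2 | h2
    · obtain ⟨k, hk⟩ := IsPGroup.iff_card.1 hPp
      rw [hk] at h2
      rw [(Nat.prime_dvd_prime_iff_eq hr hpp).1 (hr.dvd_of_dvd_pow h2)]
      exact hpβ
    · exact fun hb => hYσ r hr h2 (Cfsg.Agent.Lib.Helper37BG.beta_subset_sigma hG hM hb)
  obtain ⟨H₂, hH₂, hZH⟩ := Cfsg.Agent.Lib.Helper37BGPartA.exists_hallOf_ge hds _ hZd hZπ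
  obtain ⟨m, -, hm⟩ := Cfsg.Agent.Lib.Helper37BG14kbasic.hallOf_conj hds hH₁ hH₂
  have hH₂n : Group.IsNilpotent H₂ := by
    rw [hm]
    exact Group.nilpotent_of_mulEquiv ((MulAut.conj m).subgroupMap H₁)
  intro y hy
  rw [mem_centralizer_iff]
  intro a ha
  have hyH : y ∈ H₂ := hZH (mem_sup_right hy)
  have haH : a ∈ H₂ := hZH (mem_sup_left (hAP ha))
  have hco : (orderOf (⟨a, haH⟩ : H₂)).Coprime (orderOf (⟨y, hyH⟩ : H₂)) := by
    rw [Subgroup.orderOf_mk, Subgroup.orderOf_mk]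
    obtain ⟨k, hk⟩ := (IsPGroup.iff_orderOf.1 hAp) ⟨a, ha⟩
    rw [Subgroup.orderOf_mk] at hk
    rw [hk]
    apply Nat.Coprime.pow_left
    rw [Nat.Prime.coprime_iff_not_dvd hpp]
    intro hd
    have h1 : orderOf y ∣ Nat.card Y := by
      have := orderOf_dvd_natCard (⟨y, hy⟩ : Y)
      rwa [Subgroup.orderOf_mk] at this
    exact hYσ p hpp (hd.trans h1) hp
  have := Cfsg.Agent.Lib.Helper31Nilpotent.coprime_commute H₂ ⟨a, haH⟩ ⟨y, hyH⟩ hco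
  exact congrArg Subtype.val this

end Cfsg.Agent.Lib.Helper17BG1436dercent
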