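import Mathlib
import Cfsg.Agent.Lib.Helper24BGCover2
import Cfsg.Agent.Lib.Helper12Hall
import Cfsg.Agent.Lib.Helper65RelHall
import Cfsg.Agent.Lib.Helper14Sylow

/-!
B-G Section 14: the partition of `G#` into the covers `tilde(M_σ#)` and the conjugates of
`Ẑ = K K* \ (K ∪ K*)` (row S1379), from the statements of rows S1374, S1375, S1378, S1425, S1432,
S1430, S1366, S1367, S1369 and three routine facts on `κ(M)`, all taken as hypotheses (`Hyp2 G`).
-/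

set_option autoImplicit false
set_option linter.unusedSectionVars false
set_option linter.unusedVariables false

namespace Cfsg.Agent.Lib.Helper24BGCover3

open Cfsg Subgroup
open Cfsg.Agent.Lib.Helper30Trans Cfsg.Agent.Lib.Helper24BG Cfsg.Agent.Lib.Helper21BGExcbasic
open Cfsg.Agent.Lib.Helper24BGCover Cfsg.Agent.Lib.Helper24BGCover2

variable {G : Type*} [Group G] [Finite G]

/-! ### `π`-parts of elements -/

theorem exists_pi_factor (π : Set ℕ) (n : ℕ) :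
    n ≠ 0 → ∃ a b, n = a * b ∧ PiNum π a ∧ PiNum πᶜ b := by
  induction n using Nat.recOnPrimeCoprime with
  | zero => intro h; exact absurd rfl h
  | prime_pow p k hp =>
    intro _
    by_cases h : p ∈ π
    · refine ⟨p ^ k, 1, (mul_one _).symm, ?_, piNum_one _⟩
      intro q hq hd
      rw [(Nat.prime_dvd_prime_iff_eq hq hp).mp (hq.dvd_of_dvd_pow hd)]; exact h
    · refine ⟨1, p ^ k, (one_mul _).symm, piNum_one _, ?_⟩
      intro q hq hd
      rw [(Nat.prime_dvd_prime_iff_eq hq hp).mp (hq.dvd_of_dvd_pow hd)]; exact h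
  | coprime a b ha hb hab iha ihb =>
    intro _
    obtain ⟨a₁, b₁, e₁, h₁, h₁'⟩ := iha (by omega)
    obtain ⟨a₂, b₂, e₂, h₂, h₂'⟩ := ihb (by omega)
    exact ⟨a₁ * a₂, b₁ * b₂, by rw [e₁, e₂]; ring, h₁.mul h₂, h₁'.mul h₂'⟩

theorem exists_pi_decomp (π : Set ℕ) (g : G) :
    ∃ x y, x ∈ zpowers g ∧ y ∈ zpowers g ∧ g = x * y ∧ PiNum π (orderOf x) ∧
      PiNum πᶜ (orderOf y) := by
  obtain ⟨a, b, e, ha, hb⟩ := exists_pi_factor π (orderOf g) (orderOf_pos g).ne'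
  have hcop : a.Coprime b := ha.coprime hb (fun p h1 h2 => h2 h1)
  have hbez := Nat.gcd_eq_gcd_ab a b
  rw [Nat.Coprime.gcd_eq_one hcop] at hbez
  refine ⟨g ^ ((b : ℤ) * Nat.gcdB a b), g ^ ((a : ℤ) * Nat.gcdA a b), zpow_mem_zpowers _ _,
    zpow_mem_zpowers _ _, ?_, ?_, ?_⟩
  · rw [← zpow_add, add_comm, ← hbez]; simp
  · refine ha.of_dvd (orderOf_dvd_of_pow_eq_one ?_)
    rw [← zpow_natCast, ← zpow_mul, mul_right_comm, mul_comm (b : ℤ), ← Nat.cast_mul, ← e, zpow_mul,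
      zpow_natCast, pow_orderOf_eq_one, one_zpow]
  · refine hb.of_dvd (orderOf_dvd_of_pow_eq_one ?_)
    rw [← zpow_natCast, ← zpow_mul, mul_right_comm, ← Nat.cast_mul, ← e, zpow_mul,
      zpow_natCast, pow_orderOf_eq_one, one_zpow]

theorem commute_of_mem_zpowers {g x y : G} (hx : x ∈ zpowers g) (hy : y ∈ zpowers g) :
    Commute x y := by
  obtain ⟨i, rfl⟩ := hx
  obtain ⟨j, rfl⟩ := hy
  exact (Commute.refl g).zpow_zpow i j

theorem eq_one_of_piNum {π : Set ℕ} {x : G} (h1 : PiNum π (orderOf x)) (h2 : PiNum πᶜ (orderOf x)) :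
    x = 1 := by
  by_contra h
  obtain ⟨p, hp, hd⟩ := exists_prime_dvd_orderOf h
  exact h2 p hp hd (h1 p hp hd)

/-- In a solvable group `X = B D` with `B` a normal Hall subgroup, every subgroup of order prime to
`|B|` is conjugate into `D` (copy of `Helper37BG.conj_into`, by helper37). -/
theorem conj_into {X B D Y : Subgroup G} (hs : Group.IsSolvable X) (hBX : B ≤ X)
    (hXB : X ≤ normalizer (B : Set G)) (hDX : D ≤ X) (hBD : X ≤ B ⊔ D)
    (hcop : (B.relIndex X).Coprime (Nat.card B)) (hYX : Y ≤ X)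
    (hY : (Nat.card Y).Coprime (Nat.card B)) : ∃ m ∈ X, cj m Y ≤ D := by
  set m := B.relIndex X with hm
  set n := Nat.card B with hn
  have hX : Nat.card X = m * n := by
    have := (B.subgroupOf X).card_mul_index
    rw [Cfsg.Agent.Lib.Helper30SZ.card_subgroupOf_of_le hBX] at this
    rw [← this, mul_comm]
    rfl
  have hXeq : D ⊔ B = X := le_antisymm (sup_le hDX hBX) (by rw [sup_comm]; exact hBD)
  have hD : Nat.card D = m * Nat.card (D ⊓ B : Subgroup G) := by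
    have h1 := Cfsg.Agent.Lib.Helper65RelHall.card_sup_mul_card_inf D B (hDX.trans hXB)
    rw [hXeq, hX] at h1
    have hn0 : 0 < n := Nat.card_pos
    have : n * (m * Nat.card (D ⊓ B : Subgroup G)) = n * Nat.card D := by
      rw [← hn] at h1
      nlinarith
    exact (Nat.eq_of_mul_eq_mul_left hn0 this).symm
  have hsD : Group.IsSolvable D := Cfsg.Agent.Lib.Helper30SZ.solvable_of_le hs hDX
  have hcopD : m.Coprime (Nat.card (D ⊓ B : Subgroup G)) :=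
    Nat.Coprime.coprime_dvd_right (card_dvd_of_le inf_le_right) hcop
  obtain ⟨D₀, hD₀⟩ := Cfsg.Agent.Lib.Helper12Hall.hall_exists (G := D) m _ hD hcopD
  obtain ⟨H, hH, hYH⟩ := Cfsg.Agent.Lib.Helper12Hall.hall_dominance (G := X) m n hX hcop
    (Y.subgroupOf X) (by rw [Cfsg.Agent.Lib.Helper30SZ.card_subgroupOf_of_le hYX]; exact hY)
  set D₁ : Subgroup X := (D₀.map D.subtype).subgroupOf X with hD₁
  have hD₀X : D₀.map D.subtype ≤ X := (map_subtype_le _).trans hDX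
  have hD₁c : Nat.card D₁ = m := by
    rw [hD₁, Cfsg.Agent.Lib.Helper30SZ.card_subgroupOf_of_le hD₀X,
      card_map_of_injective D.subtype_injective, hD₀]
  obtain ⟨g, hg⟩ := Cfsg.Agent.Lib.Helper12Hall.hall_conj (G := X) m n hX hcop H D₁ hH hD₁c
  refine ⟨g, g.2, ?_⟩
  rintro _ ⟨y, hy, rfl⟩
  have h1 : (⟨y, hYX hy⟩ : X) ∈ H := hYH (mem_subgroupOf.mpr hy)
  have h2 : g * ⟨y, hYX hy⟩ * g⁻¹ ∈ D₁ := by
    rw [← hg]
    exact ⟨_, h1, rfl⟩
  have h3 : ((g * ⟨y, hYX hy⟩ * g⁻¹ : X) : G) ∈ D₀.map D.subtype := mem_subgroupOf.mp h2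
  exact map_subtype_le _ h3


/-! ### the hypotheses -/

/-- The statements of rows S1425, S1432, S1430 (first clause) and Hall's theorem for `κ(M)`. -/
structure Hyp2 (G : Type*) [Group G] : Prop extends Hyp G where
  h25 : ∀ (M : Subgroup G) (_ : IsCoatom M) (Y : Subgroup G) (_ : Y ≠ ⊥)
    (_ : ∀ p : ℕ, p.Prime → p ∣ Nat.card Y → p ∈ Cfsg.sigma M),
    ∃ g : G, Y.map (MulAut.conj g).toMonoidHom ≤ Cfsg.sigmaCore M
  h32 : ∀ (M : Subgroup G) (_ : IsCoatom M) (x : G) (_ : x ∈ Cfsg.sigmaCore M) (_ : x ≠ 1) (x' : G)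
    (_ : x' ∈ M ⊓ Subgroup.centralizer ({x} : Set G)) (_ : x' ≠ 1)
    (_ : ∀ p : ℕ, p.Prime → p ∣ orderOf x' → p ∉ Cfsg.sigma M),
    ((∀ p : ℕ, p.Prime → p ∣ orderOf x' → p ∈ Cfsg.kappa M) ∧ Subgroup.centralizer ({x} : Set G) ≤ M) ∨
      ((∀ p : ℕ, p.Prime → p ∣ orderOf x' → p ∈ Cfsg.tau2 M) ∧
        (∃ L : Subgroup G, IsCoatom L ∧ ∀ p : ℕ, p.Prime → p ∣ orderOf x' → p ∈ Cfsg.sigma L) ∧
        (Subgroup.centralizer ({x'} : Set G) ≤ M ∧ ∀ L : Subgroup G, IsCoatom L → Subgroup.centralizer ({x'} : Set G) ≤ L → L = M))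
  h30 : ∀ (M : Subgroup G) (_ : IsCoatom M) (K : Subgroup G)
    (_ : Cfsg.IsPiHallOf (Cfsg.kappa M) K M) (_ : K ≠ ⊥),
    (∀ k ∈ K, k ≠ 1 → Cfsg.sigmaCore M ⊓ Subgroup.centralizer ({k} : Set G) = (Cfsg.sigmaCore M ⊓ Subgroup.centralizer (K : Set G)))
  khall_ge : ∀ (M : Subgroup G) (_ : IsCoatom M) (Y : Subgroup G) (_ : Y ≤ M)
    (_ : ∀ p : ℕ, p.Prime → p ∣ Nat.card Y → p ∈ kappa M),
    ∃ K : Subgroup G, IsPiHallOf (kappa M) K M ∧ Y ≤ K

theorem mem_sigmaCore_cj_inv {L : Subgroup G} {w t : G} (ht : cj t (zpowers w) ≤ sigmaCore L) :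
    w ∈ sigmaCore (cj t⁻¹ L) := by
  rw [sigmaCore_cj, mem_cj, inv_inv]
  exact ht (conj_mem_cj (mem_zpowers w))

/-- the second alternative of B-G 14.3 puts `w x` in a cover -/
theorem mem_tilde_of_tau2 (hG : IsMinSimpleOddOrder G) (H : Hyp2 G) {M L : Subgroup G}
    (hM : IsCoatom M) (hL : IsCoatom L) {x w : G} (hx : x ∈ sigmaCore M) (hw1 : w ≠ 1)
    (hxw : Commute x w) (hwσ : PiNum (sigma M)ᶜ (orderOf w)) (hwL : PiNum (sigma L) (orderOf w))
    (hC : centralizer ({w} : Set G) ≤ M)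
    (hu : ∀ L' : Subgroup G, IsCoatom L' → centralizer ({w} : Set G) ≤ L' → L' = M) :
    w * x ∈ tildeOf L ((sigmaCore L : Set G) \ {1}) := by
  obtain ⟨t, ht⟩ := H.h25 L hL (zpowers w) (zpowers_ne_bot.mpr hw1)
    (by rw [Nat.card_zpowers]; exact hwL)
  have hw' := mem_sigmaCore_cj_inv ht
  have hL' := isCoatom_cj hL t⁻¹
  have hnot : ¬ centralizer ({w} : Set G) ≤ cj t⁻¹ L := by
    intro h
    have e := hu _ hL' h
    rw [e] at hw'
    exact hw1 (eq_one_of_piNum (piNum_orderOf hG hM hw') hwσ)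
  obtain ⟨N, D⟩ := exists_dat H.toHyp hL' hw' hw1 hnot
  have e : M = N := D.uniq M hM hC
  rw [mem_tilde_iff H.toHyp hL]
  refine ⟨t⁻¹, w, x, hw', hw1, ?_, rfl⟩
  rw [D.supp, ← e]
  exact ⟨hx, mem_centralizer_singleton_iff.mpr hxw.eq⟩

/-- B-G 14.8/14.9: every non-identity element lies in a cover or is of the form `k x` with
`k ∈ K#`, `x ∈ K*#`. -/
theorem dichotomy (hG : IsMinSimpleOddOrder G) (H : Hyp2 G) {g : G} (hg : g ≠ 1) :
    (∃ N : Subgroup G, IsCoatom N ∧ g ∈ tildeOf N ((sigmaCore N : Set G) \ {1})) ∨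
    ∃ M K : Subgroup G, IsCoatom M ∧ IsPiHallOf (kappa M) K M ∧ ∃ k ∈ K, k ≠ 1 ∧
      ∃ x ∈ sigmaCore M ⊓ centralizer (K : Set G), x ≠ 1 ∧ g = k * x := by
  obtain ⟨p, hp, hpg⟩ := exists_prime_dvd_orderOf hg
  obtain ⟨M₀, hM₀, hpM₀⟩ := H.h78.1 p hp (hpg.trans (orderOf_dvd_natCard g))
  obtain ⟨x, y, hxz, hyz, e, hxπ, hyπ⟩ := exists_pi_decomp (sigma M₀) g
  have cxy : Commute x y := commute_of_mem_zpowers hxz hyz
  have hx1 : x ≠ 1 := by
    rintro rfl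
    rw [one_mul] at e
    subst e
    exact hyπ p hp hpg hpM₀
  obtain ⟨t, ht⟩ := H.h25 M₀ hM₀ (zpowers x) (zpowers_ne_bot.mpr hx1)
    (by rw [Nat.card_zpowers]; exact hxπ)
  have hx := mem_sigmaCore_cj_inv ht
  have hM := isCoatom_cj hM₀ t⁻¹
  have hσ : sigma (cj t⁻¹ M₀) = sigma M₀ := sigma_cj _ _
  rw [← hσ] at hxπ hyπ
  generalize cj t⁻¹ M₀ = M at hx hM hxπ hyπ
  have hyC : y ∈ centralizer ({x} : Set G) := mem_centralizer_singleton_iff.mpr cxy.symm.eq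
  by_cases hy1 : y = 1
  · left
    refine ⟨M, hM, ?_⟩
    rw [mem_tilde_iff H.toHyp hM]
    exact ⟨1, x, 1, by rwa [cj_one], hx1, one_mem _, by rw [e, hy1]⟩
  by_cases hex : ∃ c, x ∈ sigmaCore (cj c M) ∧ y ∈ cj c M
  · obtain ⟨c, hxc, hyc⟩ := hex
    have hMc := isCoatom_cj hM c
    have hσc : sigma (cj c M) = sigma M := sigma_cj _ _
    rcases H.h32 (cj c M) hMc x hxc hx1 y ⟨hyc, hyC⟩ hy1
      (fun q hq hd => by rw [hσc]; exact hyπ q hq hd) with ⟨hκ, -⟩ | ⟨-, ⟨L, hL, hLσ⟩, hC, hu⟩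
    · right
      obtain ⟨K, hK, hyK⟩ := H.khall_ge (cj c M) hMc (zpowers y) (by rwa [zpowers_le])
        (by rw [Nat.card_zpowers]; exact hκ)
      have hyK' : y ∈ K := hyK (mem_zpowers y)
      have hK1 : K ≠ ⊥ := fun h => hy1 (by rw [h] at hyK'; exact mem_bot.mp hyK')
      refine ⟨cj c M, K, hMc, hK, y, hyK', hy1, x, ?_, hx1, by rw [e, cxy.eq]⟩
      rw [← H.h30 (cj c M) hMc K hK hK1 y hyK' hy1]
      exact ⟨hxc, mem_centralizer_singleton_iff.mpr cxy.eq⟩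
    · left
      refine ⟨L, hL, ?_⟩
      rw [e, cxy.eq]
      exact mem_tilde_of_tau2 hG H hMc hL hxc hy1 cxy (by rw [hσc]; exact hyπ) hLσ hC hu
  · left
    refine ⟨M, hM, ?_⟩
    have hxM : ¬ centralizer ({x} : Set G) ≤ M := fun h =>
      hex ⟨1, by rwa [cj_one], by rw [cj_one]; exact h hyC⟩
    obtain ⟨N, D⟩ := exists_dat H.toHyp hM hx hx1 hxM
    obtain ⟨r, w, hrz, hwz, e', hrπ, hwπ⟩ := exists_pi_decomp (sigma N) y
    have hrC : r ∈ centralizer ({x} : Set G) := (zpowers_le.mpr hyC) hrz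
    have hwC : w ∈ centralizer ({x} : Set G) := (zpowers_le.mpr hyC) hwz
    have hrN : r ∈ sigmaCore N := mem_sigmaCore_of_piNum hG D.coatom (D.le hrC) hrπ
    have hw1 : w = 1 := by
      by_contra hw1
      have hsol : Group.IsSolvable (centralizer ({x} : Set G)) :=
        sol hG (ne_top_of_le_ne_top D.coatom.1 D.le)
      obtain ⟨hcop, -⟩ := H.h74 M hM x hx hx1
      have e1 := Cfsg.Agent.Lib.Helper31BGS.relIndex_compl D.compl
      have e2 := Cfsg.Agent.Lib.Helper31BGS.relIndex_compl' D.compl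
      obtain ⟨m, hm, hle⟩ := conj_into (X := centralizer ({x} : Set G))
        (B := sigmaCore N ⊓ centralizer ({x} : Set G)) (D := M ⊓ centralizer ({x} : Set G))
        (Y := zpowers w) hsol inf_le_right D.norm inf_le_right
        (by
          intro c hc
          obtain ⟨a, ha, b, hb, rfl⟩ := D.compl.2.2.2 c hc
          exact mul_mem (mem_sup_right ha) (mem_sup_left hb))
        (by rw [e2, ← e1]; exact hcop) (zpowers_le.mpr hwC)
        (by
          rw [Nat.card_zpowers]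
          exact hwπ.coprime ((piNum_card_sigmaCore hG D.coatom).of_dvd (card_dvd_of_le inf_le_left))
            (fun p h1 h2 => h1 h2))
      have hwM : w ∈ cj m⁻¹ M := by
        rw [mem_cj, inv_inv]; exact (hle (conj_mem_cj (mem_zpowers w))).1
      have hxm : x ∈ sigmaCore (cj m⁻¹ M) := by
        rw [sigmaCore_cj, mem_cj, inv_inv]
        have : m * x * m⁻¹ = x := by
          rw [mem_centralizer_singleton_iff.mp hm, mul_inv_cancel_right]
        rwa [this]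
      have hMm := isCoatom_cj hM m⁻¹
      have hyw : y ∈ centralizer ({w} : Set G) :=
        mem_centralizer_singleton_iff.mpr (commute_of_mem_zpowers (mem_zpowers y) hwz).eq
      rcases H.h32 (cj m⁻¹ M) hMm x hxm hx1 w ⟨hwM, hwC⟩ hw1
        (fun q hq hd => by
          rw [sigma_cj]; exact hyπ q hq (hd.trans (orderOf_dvd_of_mem_zpowers hwz)))
        with ⟨-, hC⟩ | ⟨-, -, hC, -⟩
      · exact hex ⟨m⁻¹, hxm, hC hyC⟩
      · exact hex ⟨m⁻¹, hxm, hC hyw⟩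
    rw [mem_tilde_iff H.toHyp hM]
    refine ⟨1, x, r, by rwa [cj_one], hx1, ?_, ?_⟩
    · rw [cj_one, D.supp]; exact ⟨hrN, hrC⟩
    · rw [e, e', hw1, mul_one]


/-- The statements of rows S1366 (existence), S1367, S1369 (second clause) and two more routine
facts on `κ(M)`. -/
structure Hyp3 (G : Type*) [Group G] : Prop extends Hyp2 G where
  h66 : ∀ (M : Subgroup G) (_ : IsCoatom M) (K U : Subgroup G) (_ : Cfsg.IsSigmaDecomposition M K U)
    (_ : K ≠ ⊥),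
    ∃ Mstar : Subgroup G, IsCoatom Mstar ∧ K = Cfsg.sigmaCore Mstar ⊓ Subgroup.centralizer ((Cfsg.sigmaCore M ⊓ Subgroup.centralizer (K : Set G)) : Set G) ∧
        Cfsg.IsPiHallOf (Cfsg.kappa Mstar) (Cfsg.sigmaCore M ⊓ Subgroup.centralizer (K : Set G)) Mstar
  h67 : ∀ (M : Subgroup G) (_ : IsCoatom M) (K U : Subgroup G) (_ : Cfsg.IsSigmaDecomposition M K U)
    (_ : K ≠ ⊥) (Mstar : Subgroup G) (_ : IsCoatom Mstar)
    (_ : K = Cfsg.sigmaCore Mstar ⊓ Subgroup.centralizer ((Cfsg.sigmaCore M ⊓ Subgroup.centralizer (K : Set G)) : Set G))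
    (_ : Cfsg.IsPiHallOf (Cfsg.kappa Mstar) (Cfsg.sigmaCore M ⊓ Subgroup.centralizer (K : Set G)) Mstar),
    (∀ X : Subgroup G, X ≤ (Cfsg.sigmaCore M ⊓ Subgroup.centralizer (K : Set G)) → (Nat.card X).Prime →
        Subgroup.centralizer (X : Set G) ≤ M ∧ ∀ L : Subgroup G, IsCoatom L → Subgroup.centralizer (X : Set G) ≤ L → L = M) ∧
      (∀ Y : Subgroup G, Y ≤ K → (Nat.card Y).Prime →
        Subgroup.centralizer (Y : Set G) ≤ Mstar ∧ ∀ L : Subgroup G, IsCoatom L → Subgroup.centralizer (Y : Set G) ≤ L → L = Mstar)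
  h69 : ∀ (M : Subgroup G) (_ : IsCoatom M) (K U : Subgroup G) (_ : Cfsg.IsSigmaDecomposition M K U)
    (_ : K ≠ ⊥) (Mstar : Subgroup G) (_ : IsCoatom Mstar)
    (_ : K = Cfsg.sigmaCore Mstar ⊓ Subgroup.centralizer ((Cfsg.sigmaCore M ⊓ Subgroup.centralizer (K : Set G)) : Set G))
    (_ : Cfsg.IsPiHallOf (Cfsg.kappa Mstar) (Cfsg.sigmaCore M ⊓ Subgroup.centralizer (K : Set G)) Mstar),
      ∀ H : Subgroup G, IsCoatom H → (Cfsg.kappa H).Nonempty →
        ∃ g : G, H = M.map (MulAut.conj g).toMonoidHom ∨ H = Mstar.map (MulAut.conj g).toMonoidHom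
  kcj : ∀ (M : Subgroup G) (g : G), kappa (cj g M) = kappa M
  khall_conj : ∀ (M : Subgroup G) (_ : IsCoatom M) (K K' : Subgroup G)
    (_ : IsPiHallOf (kappa M) K M) (_ : IsPiHallOf (kappa M) K' M), ∃ m ∈ M, K' = cj m K

theorem isPiHallOf_cj {π : Set ℕ} {K M : Subgroup G} (h : IsPiHallOf π K M) (t : G) :
    IsPiHallOf π (cj t K) (cj t M) := by
  refine ⟨cj_mono h.1, ?_, ?_⟩
  · intro p hp hd
    rw [card_cj] at hd
    exact h.2.1 p hp hd
  · intro p hp hpπ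
    rw [Cfsg.Agent.Lib.Helper14Sylow.relIndex_cj]
    exact h.2.2 p hp hpπ

theorem mem_Zhat {A B : Subgroup G} (hAB : A ⊓ B = ⊥) {a b : G} (ha : a ∈ A) (ha1 : a ≠ 1)
    (hb : b ∈ B) (hb1 : b ≠ 1) : a * b ∈ ((↑(A ⊔ B) : Set G) \ ((A : Set G) ∪ ↑B)) := by
  refine ⟨mul_mem (mem_sup_left ha) (mem_sup_right hb), ?_⟩
  rintro (h | h)
  · have h1 : b ∈ A := by
      have := A.mul_mem (A.inv_mem ha) h
      rwa [inv_mul_cancel_left] at this
    exact hb1 (mem_bot.mp (hAB ▸ (⟨h1, hb⟩ : b ∈ A ⊓ B)))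
  · have h1 : a ∈ B := by
      have := B.mul_mem h (B.inv_mem hb)
      rwa [mul_inv_cancel_right] at this
    exact ha1 (mem_bot.mp (hAB ▸ (⟨ha, h1⟩ : a ∈ A ⊓ B)))

/-- a Hall `κ(M)`-subgroup meets `M_σ` trivially -/
theorem kappa_hall_inf (hG : IsMinSimpleOddOrder G) {M K : Subgroup G} (hM : IsCoatom M)
    (hK : IsPiHallOf (kappa M) K M) : K ⊓ sigmaCore M = ⊥ := by
  rw [eq_bot_iff]
  rintro z ⟨h1, h2⟩
  refine mem_bot.mpr (eq_one_of_piNum (piNum_orderOf hG hM h2) ?_)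
  intro p hp hd
  exact (hK.2.1 p hp (hd.trans (Subgroup.orderOf_dvd_natCard _ h1))).2.2.1

/-- transport of a pair `(k, x)`, `k ∈ K'#`, `x ∈ C_{M'_σ}(K')#` to a conjugate pair -/
theorem transport (hG : IsMinSimpleOddOrder G) (H : Hyp3 G) {M₁ K₁ M K : Subgroup G}
    (hM₁ : IsCoatom M₁) (hK₁ : IsPiHallOf (kappa M₁) K₁ M₁) {h : G} (hMh : M = cj h M₁)
    (hK : IsPiHallOf (kappa M) K M) {k x : G} (hk : k ∈ K)
    (hx : x ∈ sigmaCore M ⊓ centralizer (K : Set G)) :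
    ∃ t : G, t⁻¹ * k * t ∈ K₁ ∧ t⁻¹ * x * t ∈ sigmaCore M₁ ⊓ centralizer (K₁ : Set G) := by
  subst hMh
  have h1 : IsPiHallOf (kappa M₁) (cj h⁻¹ K) M₁ := by
    have := isPiHallOf_cj hK h⁻¹
    rwa [cj_inv_cj, H.kcj] at this
  obtain ⟨m, hm, e⟩ := H.khall_conj M₁ hM₁ K₁ _ hK₁ h1
  have e2 : K = cj (h * m) K₁ := by rw [cj_mul, ← e, cj_cj_inv]
  have e3 : cj h M₁ = cj (h * m) M₁ := by
    rw [cj_mul, cj_eq_self_of_mem_normalizer (le_normalizer hm)]
  refine ⟨h * m, ?_, ?_⟩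
  · rw [e2, mem_cj] at hk; exact hk
  · rw [e3, e2, sigmaCore_cj, Cfsg.Agent.Lib.Helper14Sylow.centralizer_cj, ← cj_inf, mem_cj] at hx
    exact hx


theorem part3a (hG : IsMinSimpleOddOrder G) (H : Hyp3 G) {M K U : Subgroup G} (hM : IsCoatom M)
    (hKU : IsSigmaDecomposition M K U) (hK1 : K ≠ ⊥) {g : G} (hg : g ≠ 1) :
    (∃ N : Subgroup G, IsCoatom N ∧ g ∈ tildeOf N ((sigmaCore N : Set G) \ {1})) ∨
      ∃ y : G, ∃ z ∈ ((↑(K ⊔ (sigmaCore M ⊓ centralizer (K : Set G))) : Set G) \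
        ((K : Set G) ∪ ↑(sigmaCore M ⊓ centralizer (K : Set G)))), g = y * z * y⁻¹ := by
  rcases dichotomy hG H.toHyp2 hg with h | ⟨M', K', hM', hK', k, hk, hk1, x, hx, hx1, e⟩
  · exact Or.inl h
  right
  obtain ⟨Ms, hMs, hKst, hKstH⟩ := H.h66 M hM K U hKU hK1
  have hne : (kappa M').Nonempty := by
    obtain ⟨q, hq, hd⟩ := exists_prime_dvd_orderOf hk1
    exact ⟨q, hK'.2.1 q hq (hd.trans (Subgroup.orderOf_dvd_natCard _ hk))⟩
  have hAB : K ⊓ (sigmaCore M ⊓ centralizer (K : Set G)) = ⊥ := by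
    rw [eq_bot_iff, ← kappa_hall_inf hG hM hKU.hall]
    exact inf_le_inf_left _ inf_le_left
  have c1 : ∀ t : G, t⁻¹ * k * t ≠ 1 := fun t => by
    have := conj_ne_one hk1 t⁻¹
    rwa [inv_inv] at this
  have c2 : ∀ t : G, t⁻¹ * x * t ≠ 1 := fun t => by
    have := conj_ne_one hx1 t⁻¹
    rwa [inv_inv] at this
  obtain ⟨h, hh | hh⟩ := H.h69 M hM K U hKU hK1 Ms hMs hKst hKstH M' hM' hne
  · obtain ⟨t, h1, h2⟩ := transport hG H hM hKU.hall hh hK' hk hx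
    exact ⟨t, (t⁻¹ * k * t) * (t⁻¹ * x * t), mem_Zhat hAB h1 (c1 t) h2 (c2 t), by rw [e]; group⟩
  · obtain ⟨t, h1, h2⟩ := transport hG H hMs hKstH hh hK' hk hx
    have hKst' : K = sigmaCore Ms ⊓
        centralizer ((sigmaCore M ⊓ centralizer (K : Set G) : Subgroup G) : Set G) := hKst
    rw [← hKst'] at h2
    have h3 := mem_Zhat (by rw [inf_comm]; exact hAB) h1 (c1 t) h2 (c2 t)
    rw [sup_comm, Set.union_comm] at h3
    exact ⟨t, (t⁻¹ * k * t) * (t⁻¹ * x * t), h3, by rw [e]; group⟩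

theorem no_cover (hG : IsMinSimpleOddOrder G) (H : Hyp G) {N' P : Subgroup G} (hN' : IsCoatom N')
    (hP : IsCoatom P) {a r u v : G} (ha : a ∈ sigmaCore N') (ha1 : a ≠ 1) (hr : r ∈ supportR N' a)
    (hu : u ∈ sigmaCore P) (hv1 : v ≠ 1) (huv : Commute u v)
    (hvP : PiNum (sigma P)ᶜ (orderOf v)) (hC : centralizer ({u} : Set G) ≤ P) (e : a * r = u * v)
    {q : ℕ} (hq : q.Prime) (hqa : q ∣ orderOf a) (hqP : q ∈ sigma P) : False := by
  have hσ : sigma N' = sigma P :=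
    sigma_eq_of_inter H hP hN' hqP (piNum_orderOf hG hN' ha q hq hqa)
  have hn : PiNum (sigma P) (orderOf a * orderOf u) :=
    (hσ ▸ piNum_orderOf hG hN' ha).mul (piNum_orderOf hG hP hu)
  have eau : a = u := by
    refine eq_of_mul_eq_mul (commute_of_mem_supportR hr) huv ?_ e
    exact Nat.Coprime.mul_left (coprime_supp hG H hN' ha ha1 hr (hσ.symm ▸ hn))
      (hvP.coprime hn (fun p h1 h2 => h1 h2))
  subst eau
  have erv : r = v := mul_left_cancel e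
  subst erv
  rcases supp_alt H hN' ha ha1 hr with h | ⟨N₃, D, hrN⟩
  · exact hv1 h
  · have : P = N₃ := D.uniq P hP hC
    subst this
    exact hv1 (eq_one_of_piNum (piNum_orderOf hG hP hrN) hvP)

theorem exists_prime_sub {A : Subgroup G} {u : G} (hu : u ∈ A) (hu1 : u ≠ 1) :
    ∃ X : Subgroup G, X ≤ A ∧ (Nat.card X).Prime ∧
      centralizer ({u} : Set G) ≤ centralizer (X : Set G) := by
  obtain ⟨p, hp, hd⟩ := exists_prime_dvd_orderOf hu1
  refine ⟨zpowers (u ^ (orderOf u / p)), ?_, ?_, ?_⟩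
  · rw [zpowers_le]; exact A.pow_mem hu _
  · rw [Nat.card_zpowers, orderOf_pow_orderOf_div (orderOf_pos u).ne' hd]; exact hp
  · intro c hc
    rw [mem_centralizer_singleton_iff] at hc
    rw [mem_centralizer_iff]
    intro w hw
    obtain ⟨i, rfl⟩ := mem_zpowers_iff.mp hw
    have : Commute c u := hc
    exact ((this.pow_right _).zpow_right i).eq.symm

theorem part3b (hG : IsMinSimpleOddOrder G) (H : Hyp3 G) {M K U : Subgroup G} (hM : IsCoatom M)
    (hKU : IsSigmaDecomposition M K U) (hK1 : K ≠ ⊥) {N : Subgroup G} (hN : IsCoatom N) (y z : G)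
    (hz : z ∈ ((↑(K ⊔ (sigmaCore M ⊓ centralizer (K : Set G))) : Set G) \
        ((K : Set G) ∪ ↑(sigmaCore M ⊓ centralizer (K : Set G))))) :
    y * z * y⁻¹ ∉ tildeOf N ((sigmaCore N : Set G) \ {1}) := by
  intro hmem
  have hz' : z ∈ tildeOf N ((sigmaCore N : Set G) \ {1}) := by
    have := conj_mem_tilde hmem y⁻¹
    have e : y⁻¹ * (y * z * y⁻¹) * y⁻¹⁻¹ = z := by group
    rwa [e] at this
  rw [mem_tilde_iff H.toHyp hN] at hz'
  obtain ⟨g, a, r, ha, ha1, hr, e⟩ := hz'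
  have hN' := isCoatom_cj hN g
  obtain ⟨Ms, hMs, hKst, hKstH⟩ := H.h66 M hM K U hKU hK1
  obtain ⟨h67a, h67b⟩ := H.h67 M hM K U hKU hK1 Ms hMs hKst hKstH
  have hnorm : sigmaCore M ⊓ centralizer (K : Set G) ≤ normalizer (K : Set G) :=
    inf_le_right.trans (centralizer_le_normalizer _)
  obtain ⟨k, hk, ks, hks, ez⟩ := (Cfsg.Agent.Lib.Helper30SZ.mem_sup_iff hnorm).mp hz.1
  have hk1 : k ≠ 1 := by
    rintro rfl
    rw [one_mul] at ez
    exact hz.2 (Or.inr (ez ▸ hks))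
  have hks1 : ks ≠ 1 := by
    rintro rfl
    rw [mul_one] at ez
    exact hz.2 (Or.inl (ez ▸ hk))
  have hcomm : Commute k ks := (mem_centralizer_iff.mp hks.2) k hk
  have hkMs : k ∈ sigmaCore Ms := by
    have : k ∈ sigmaCore Ms ⊓ centralizer ((sigmaCore M ⊓ centralizer (K : Set G) : Subgroup G) : Set G) :=
      hKst ▸ hk
    exact this.1
  have hks' : PiNum (sigma Ms)ᶜ (orderOf ks) := fun p hp hd =>
    (hKstH.2.1 p hp (hd.trans (Subgroup.orderOf_dvd_natCard _ hks))).2.2.1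
  have hk' : PiNum (sigma M)ᶜ (orderOf k) := fun p hp hd =>
    (hKU.hall.2.1 p hp (hd.trans (Subgroup.orderOf_dvd_natCard _ hk))).2.2.1
  have hCks : centralizer ({ks} : Set G) ≤ M := by
    obtain ⟨X, hX, hXp, hle⟩ := exists_prime_sub hks hks1
    exact hle.trans (h67a X hX hXp).1
  have hCk : centralizer ({k} : Set G) ≤ Ms := by
    obtain ⟨X, hX, hXp, hle⟩ := exists_prime_sub hk hk1
    exact hle.trans (h67b X hX hXp).1
  obtain ⟨q, hq, hqa⟩ := exists_prime_dvd_orderOf ha1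
  have e1 : orderOf (a * r) = orderOf a * orderOf r :=
    (commute_of_mem_supportR hr).orderOf_mul_eq_mul_orderOf_of_coprime
      (coprime_supp hG H.toHyp hN' ha ha1 hr (piNum_orderOf hG hN' ha)).symm
  have e2 : a * r = k * ks := by rw [← e, ez]
  have h1 : q ∣ orderOf k * orderOf ks := by
    have h2 : orderOf (k * ks) ∣ orderOf k * orderOf ks := by
      apply orderOf_dvd_of_pow_eq_one
      rw [hcomm.mul_pow, pow_mul, pow_orderOf_eq_one, one_pow, one_mul, mul_comm, pow_mul,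
        pow_orderOf_eq_one, one_pow]
    refine Dvd.dvd.trans ?_ h2
    rw [← e2, e1]
    exact hqa.mul_right _
  rcases hq.dvd_mul.mp h1 with h2 | h2
  · exact no_cover hG H.toHyp hN' hMs ha ha1 hr hkMs hks1 hcomm hks' hCk e2 hq hqa
      (piNum_orderOf hG hMs hkMs q hq h2)
  · exact no_cover hG H.toHyp hN' hM ha ha1 hr hks.1 hk1 hcomm.symm hk' hCks (e2.trans hcomm.eq) hq hqa
      (piNum_orderOf hG hM hks.1 q hq h2)

/-- Row S1379. -/
theorem partition (hG : IsMinSimpleOddOrder G) (H : Hyp3 G) :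
    (∀ M N : Subgroup G, IsCoatom M → IsCoatom N → (∀ g : G, N ≠ M.map (MulAut.conj g).toMonoidHom) → Cfsg.tildeOf M ((Cfsg.sigmaCore M : Set G) \ {1}) ∩ Cfsg.tildeOf N ((Cfsg.sigmaCore N : Set G) \ {1}) = ∅) ∧
      ((∀ M : Subgroup G, IsCoatom M → Cfsg.kappa M = ∅) →
        ∀ g : G, g ≠ 1 → ∃ M : Subgroup G, IsCoatom M ∧ g ∈ Cfsg.tildeOf M ((Cfsg.sigmaCore M : Set G) \ {1})) ∧
      ∀ (M K U : Subgroup G), IsCoatom M → Cfsg.IsSigmaDecomposition M K U → K ≠ ⊥ →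
        (∀ g : G, g ≠ 1 → (∃ N : Subgroup G, IsCoatom N ∧ g ∈ Cfsg.tildeOf N ((Cfsg.sigmaCore N : Set G) \ {1})) ∨
            ∃ y : G, ∃ z ∈ ((↑(K ⊔ (Cfsg.sigmaCore M ⊓ Subgroup.centralizer (K : Set G))) : Set G) \ ((K : Set G) ∪ ↑(Cfsg.sigmaCore M ⊓ Subgroup.centralizer (K : Set G)))), g = y * z * y⁻¹) ∧
        ∀ N : Subgroup G, IsCoatom N → ∀ y : G, ∀ z ∈ ((↑(K ⊔ (Cfsg.sigmaCore M ⊓ Subgroup.centralizer (K : Set G))) : Set G) \ ((K : Set G) ∪ ↑(Cfsg.sigmaCore M ⊓ Subgroup.centralizer (K : Set G)))), y * z * y⁻¹ ∉ Cfsg.tildeOf N ((Cfsg.sigmaCore N : Set G) \ {1}) := by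
  refine ⟨fun M N hM hN hne => tilde_disjoint hG H.toHyp hM hN hne, ?_, ?_⟩
  · intro hκ g hg
    rcases dichotomy hG H.toHyp2 hg with h | ⟨M', K', hM', hK', k, hk, hk1, -⟩
    · exact h
    · exfalso
      obtain ⟨q, hq, hd⟩ := exists_prime_dvd_orderOf hk1
      have := hK'.2.1 q hq (hd.trans (Subgroup.orderOf_dvd_natCard _ hk))
      rw [hκ M' hM'] at this
      exact this
  · intro M K U hM hKU hK1
    exact ⟨fun g hg => part3a hG H hM hKU hK1 hg, fun N hN y z hz => part3b hG H hM hKU hK1 hN y z hz⟩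

end Cfsg.Agent.Lib.Helper24BGCover3
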