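import Mathlib
import Cfsg.Agent.Lib.Helper24BG1436Defs
import Cfsg.Agent.Lib.Helper38BG13classify
import Cfsg.Agent.Lib.Helper31BGS
import Cfsg.Agent.Lib.Helper24BG2
import Cfsg.Agent.Lib.Helper21BGExcbasic
import Cfsg.Agent.S1417
import Cfsg.Agent.S1420

/-!
PROJECT 1436, piece `noconj` (helper38).
-/

set_option autoImplicit false

namespace Cfsg.Agent.Lib.Helper38BG1436noconj

open Cfsg Subgroup
open Cfsg.Agent.Lib.Helper30Trans Cfsg.Agent.Lib.Helper24BG Cfsg.Agent.Lib.Helper24BG1436Defs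

variable {G : Type*} [Group G] [Finite G]

theorem no_conj (hG : IsMinSimpleOddOrder G) {M N A : Subgroup G} {x : G} {p : ℕ}
    (S : Sup M x N p A) {a u d : G} (ha : a ∈ A) (ha1 : a ≠ 1) (hu : u ∈ M) (hu1 : u ≠ 1)
    (hau : a * u = u * a) (huN : u ∈ sigmaCore (cj d N)) (haN : a ∈ cj d N) : False := by
  have hpp : p.Prime := S.pσ.1
  have : Fact p.Prime := ⟨hpp⟩
  have hN₂ : IsCoatom (cj d N) := isCoatom_cj S.hN d
  have hpτ : p ∈ tau2 (cj d N) := by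
    rw [Cfsg.Agent.Lib.Helper38BG13classify.tau2_cj]
    exact S.pτ
  have hbot : ∀ (L : Subgroup G) (r : ℕ), r.Prime → r ∣ Nat.card (⊥ : Subgroup G) → r ∉ sigma L := by
    intro L r hr hd
    rw [card_bot] at hd
    exact absurd (Nat.dvd_one.mp hd) hr.one_lt.ne'
  obtain ⟨E₂, hE₂, -⟩ := Cfsg.Agent.Lib.Helper31BGS.exists_compl_ge hG hN₂ (X := ⊥) bot_le (hbot _)
  obtain ⟨E, hE, -⟩ := Cfsg.Agent.Lib.Helper31BGS.exists_compl_ge hG S.hM (X := ⊥) bot_le (hbot _)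
  have hoa : orderOf a = p := orderOf_eq_prime (S.hAe.2 a ha) ha1
  have hCa : centralizer ({a} : Set G) ≤ cj d N := by
    refine ((Cfsg.Agent.S1420.result hG (cj d N) hN₂ E₂ hE₂).2.2.2 a haN ha1 ?_
      ⟨haN, u, huN, hu1, hau⟩).1
    intro r hr hd
    rw [hoa] at hd
    rw [(Nat.prime_dvd_prime_iff_eq hr hpp).mp hd]
    exact hpτ
  have hAc : IsMulCommutative A := S.hAe.1
  have hAN₂ : A ≤ cj d N := by
    intro b hb
    apply hCa
    rw [mem_centralizer_singleton_iff]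
    exact congrArg Subtype.val (hAc.is_comm.comm (⟨b, hb⟩ : A) ⟨a, ha⟩)
  have hAp : IsPGroup p A := isPGroup_of_elemAb S.hAe
  have hdA : cj d A ≤ cj d N := cj_mono (S.hA.trans inf_le_right)
  obtain ⟨S₂, hS₂, hdAS⟩ := exists_isSyl_ge hdA (hAp.map _)
  obtain ⟨n, hn, hnA⟩ := Cfsg.Agent.Lib.Helper24BG2.exists_cj_le hS₂ hAp hAN₂
  have h17 := (Cfsg.Agent.S1417.result hG (cj d N) hN₂ p hpτ (cj d A)
    ⟨hdA, elemAb_cj S.hAe d, by rw [card_cj, S.hA2]⟩).2.1 hS₂.toSylow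
  rw [hS₂.map_toSylow] at h17
  have h17' := (h17.2 hdAS).1
  have hle : cj n A ≤ cj d A := by
    intro y hy
    exact (h17' y (hnA hy)).mp ((elemAb_cj S.hAe n).2 y hy)
  have heq : cj n A = cj d A := eq_of_le_of_card_ge hle (by rw [card_cj, card_cj])
  have hnorm : d⁻¹ * n ∈ normalizer (A : Set G) := by
    apply mem_normalizer_iff_map_conj_eq.mpr
    show cj (d⁻¹ * n) A = A
    rw [cj_mul, heq, cj_inv_cj]
  have hAnc : ¬ IsCyclic A := by
    intro hc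
    have h1 : Nat.card A ≤ p := card_le_of_cyclic_exp hpp.pos (fun b => Subtype.ext (S.hAe.2 b b.2))
    rw [S.hA2] at h1
    have h2 : p ^ 1 < p ^ 2 := Nat.pow_lt_pow_right hpp.one_lt (by norm_num)
    rw [pow_one] at h2
    omega
  have hNA : normalizer (A : Set G) ≤ M :=
    (Cfsg.Agent.S1420.result hG M S.hM E hE).2.2.1 p A S.pσ hAp (S.hA.trans inf_le_left) hAnc
  have hm : d⁻¹ * n ∈ M := hNA hnorm
  have hnσ : n * u * n⁻¹ ∈ sigmaCore (cj d N) :=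
    (mem_normalizer_iff.mp (Cfsg.Agent.Lib.Helper30BG2.le_normalizer_sigmaCore (cj d N) hn) u).mp huN
  rw [Cfsg.Agent.Lib.Helper21BGExcbasic.sigmaCore_cj, mem_cj] at hnσ
  have h4 : d⁻¹ * (n * u * n⁻¹) * d = (d⁻¹ * n) * u * (d⁻¹ * n)⁻¹ := by group
  have h5 : (d⁻¹ * n) * u * (d⁻¹ * n)⁻¹ ∈ sigmaCore N ⊓ M :=
    ⟨h4 ▸ hnσ, M.mul_mem (M.mul_mem hm hu) (M.inv_mem hm)⟩
  rw [S.inf, mem_bot, conj_eq_one_iff] at h5
  exact hu1 h5

end Cfsg.Agent.Lib.Helper38BG1436noconj
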