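import Mathlib
import Cfsg.Agent.Lib.Helper24BG1436Defs
import Cfsg.Agent.Lib.Helper24BGCover
import Cfsg.Agent.Lib.Helper24BGCoverHyp
import Cfsg.Agent.Lib.Helper37BG14emb
import Cfsg.Agent.Lib.Helper21BGExcbasic
import Cfsg.Agent.S1408

/-!
PROJECT 1436, piece `setup` (helper38).
-/

set_option autoImplicit false

namespace Cfsg.Agent.Lib.Helper38BG1436setup

open Cfsg Subgroup
open Cfsg.Agent.Lib.Helper30Trans Cfsg.Agent.Lib.Helper24BG Cfsg.Agent.Lib.Helper24BG1436Defs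

variable {G : Type*} [Group G] [Finite G]

theorem exists_sup (hG : IsMinSimpleOddOrder G) {M : Subgroup G} (hM : IsCoatom M) {x : G}
    (hx : x ∈ sigmaCore M) (hx1 : x ≠ 1) (hxM : ¬ centralizer ({x} : Set G) ≤ M) {N : Subgroup G}
    (hN : IsCoatom N) (hxN : centralizer ({x} : Set G) ≤ N) {p : ℕ} (hp : p.Prime)
    (hpx : p ∣ orderOf x) : ∃ A : Subgroup G, Sup M x N p A := by
  have : Fact p.Prime := ⟨hp⟩
  have hXc : Nat.card (zpowers (x ^ (orderOf x / p))) = p := by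
    rw [Nat.card_zpowers, orderOf_pow_orderOf_div (orderOf_pos x).ne' hpx]
  have hXσ : zpowers (x ^ (orderOf x / p)) ≤ sigmaCore M := by
    rw [zpowers_le]
    exact (sigmaCore M).pow_mem hx _
  have hCX : centralizer ({x} : Set G) ≤ centralizer (zpowers (x ^ (orderOf x / p)) : Set G) := by
    intro c hc
    rw [mem_centralizer_singleton_iff] at hc
    rw [mem_centralizer_iff]
    intro w hw
    obtain ⟨i, rfl⟩ := mem_zpowers_iff.mp hw
    have : Commute c x := hc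
    exact ((this.pow_right _).zpow_right i).eq.symm
  generalize zpowers (x ^ (orderOf x / p)) = X at hXc hXσ hCX
  have hXp : IsPGroup p X := Cfsg.Agent.Lib.Helper30BG2.isPGroup_of_card_prime hXc
  have hX1 : X ≠ ⊥ := Cfsg.Agent.Lib.Helper30BG2.ne_bot_of_card_prime hXc
  have hpσ : p ∈ sigma M :=
    Cfsg.Agent.Lib.Helper30BG2.card_sigmaCore hG hM p hp (hXc ▸ card_dvd_of_le hXσ)
  have hXM : X ≤ M := hXσ.trans (Cfsg.Agent.Lib.Helper30BG2.sigmaCore_le M)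
  have hCN : centralizer ({x} : Set G) ≤ normalizer (X : Set G) :=
    hCX.trans (centralizer_le_normalizer (X : Set G))
  have hnot : ¬ normalizer (X : Set G) ≤ M := fun h => hxM (hCN.trans h)
  obtain ⟨N₂, hN₂, hNX⟩ := exists_coatom (norm_ne_top hG hX1 (pgroup_ne_top hG hXp))
  obtain ⟨N₀, hD⟩ := Cfsg.Agent.Lib.Helper24BGCover.exists_dat
    (Cfsg.Agent.Lib.Helper24BGCoverHyp.hyp hG) hM hx hx1 hxM
  have e1 : N = N₀ := hD.uniq N hN hxN
  have e2 : N₂ = N₀ := hD.uniq N₂ hN₂ (hCN.trans hNX)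
  have e3 : N₂ = N := e2.trans e1.symm
  subst e3
  obtain ⟨h1, h2, h3, h4, h5, B, hB1, hB2, hB3⟩ :=
    Cfsg.Agent.Lib.Helper37BG14emb.emb hG hM hpσ hXp hX1 hXM hnot hN hNX
  exact ⟨B, ⟨hM, hN, hx, hx1, hxN, hxM, hpσ, h1, h2, h3, h4, h5, hB1, hB2, hB3⟩⟩

/-- conjugating a configuration by an element of `M` -/
theorem sup_inf_cj {M N A : Subgroup G} {x : G} {p : ℕ} (S : Sup M x N p A) {m : G} (hm : m ∈ M) :
    sigmaCore (cj m N) ⊓ M = ⊥ := by
  rw [eq_bot_iff]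
  rintro y ⟨hy1, hy2⟩
  have hy1' : y ∈ sigmaCore (cj m N) := hy1
  rw [Cfsg.Agent.Lib.Helper21BGExcbasic.sigmaCore_cj, mem_cj] at hy1'
  have h1 : m⁻¹ * y * m ∈ sigmaCore N ⊓ M :=
    ⟨hy1', M.mul_mem (M.mul_mem (M.inv_mem hm) hy2) hm⟩
  rw [S.inf, mem_bot] at h1
  rw [mem_bot]
  have h2 : y = m * (m⁻¹ * y * m) * m⁻¹ := by group
  rw [h2, h1]
  group

theorem sup_not_beta (hG : IsMinSimpleOddOrder G) {M N A : Subgroup G} {x : G} {p : ℕ}
    (S : Sup M x N p A) : p ∉ beta M := by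
  intro h
  have : Fact p.Prime := ⟨S.pσ.1⟩
  exact (Cfsg.Agent.S1408.result hG N S.hN p S.pτ.2.1 S.pτ.2.2.1 S.pτ.2.2.2).1 h.2

end Cfsg.Agent.Lib.Helper38BG1436setup
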