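import Mathlib
import Cfsg.Agent.Lib.Helper24BG1436Defs
import Cfsg.Agent.Lib.Helper24BGCover3
import Cfsg.Agent.Lib.Helper24BGCoverHyp
import Cfsg.Agent.Lib.Helper38BG1436noconj
import Cfsg.Agent.Lib.Helper38BG1436setup
import Cfsg.Agent.S1425

/-!
PROJECT 1436, piece `memtau2` (helper38).
-/

set_option autoImplicit false

namespace Cfsg.Agent.Lib.Helper38BG1436memtau2

open Cfsg Subgroup
open Cfsg.Agent.Lib.Helper30Trans Cfsg.Agent.Lib.Helper24BG Cfsg.Agent.Lib.Helper24BG1436Defs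
open Cfsg.Agent.Lib.Helper38BG1436noconj Cfsg.Agent.Lib.Helper38BG1436setup

variable {G : Type*} [Group G] [Finite G]

theorem mem_tau2_of_commute (hG : IsMinSimpleOddOrder G) {M N A : Subgroup G} {x : G} {p : ℕ}
    (S : Sup M x N p A) {q : ℕ} (hq : q ∈ sigma N) {a u : G} (ha : a ∈ A) (ha1 : a ≠ 1)
    (hu : u ∈ M) (huq : orderOf u = q) (hau : a * u = u * a) : q ∈ tau2 M := by
  have H := Cfsg.Agent.Lib.Helper24BGCoverHyp.hyp hG
  have hpp : p.Prime := S.pσ.1
  have : Fact p.Prime := ⟨hpp⟩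
  have hu1 : u ≠ 1 := by
    rintro rfl
    rw [orderOf_one] at huq
    exact hq.1.one_lt.ne huq
  obtain ⟨c, hc⟩ := Cfsg.Agent.S1425.result hG N S.hN (zpowers u) (zpowers_ne_bot.mpr hu1) (by
    intro r hr hd
    rw [Nat.card_zpowers, huq] at hd
    rw [(Nat.prime_dvd_prime_iff_eq hr hq.1).mp hd]
    exact hq)
  have huN₁ : u ∈ sigmaCore (cj c⁻¹ N) := Cfsg.Agent.Lib.Helper24BGCover3.mem_sigmaCore_cj_inv hc
  have hN₁ : IsCoatom (cj c⁻¹ N) := isCoatom_cj S.hN c⁻¹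
  have haC : a ∈ centralizer ({u} : Set G) := mem_centralizer_singleton_iff.mpr hau
  by_cases hCN : centralizer ({u} : Set G) ≤ cj c⁻¹ N
  · exact (no_conj hG S ha ha1 hu hu1 hau huN₁ (hCN haC)).elim
  obtain ⟨L, D⟩ := Cfsg.Agent.Lib.Helper24BGCover.exists_dat H hN₁ huN₁ hu1 hCN
  obtain ⟨A', S'⟩ := exists_sup hG hN₁ huN₁ hu1 hCN D.coatom D.le hq.1 (huq ▸ dvd_rfl)
  by_cases hpL : p ∈ sigma L
  · obtain ⟨e, he⟩ := H.h78.2 M L S.hM D.coatom ⟨p, S.pσ, hpL⟩
    have he' : L = cj e M := he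
    have := S'.pτ
    rwa [he', Cfsg.Agent.Lib.Helper38BG13classify.tau2_cj] at this
  · exfalso
    have hsol : Group.IsSolvable (centralizer ({u} : Set G)) :=
      sol hG (ne_top_of_le_ne_top D.coatom.1 D.le)
    obtain ⟨hcop, -⟩ := H.h74 (cj c⁻¹ N) hN₁ u huN₁ hu1
    have e1 := Cfsg.Agent.Lib.Helper31BGS.relIndex_compl D.compl
    have e2 := Cfsg.Agent.Lib.Helper31BGS.relIndex_compl' D.compl
    have hoa : orderOf a = p := orderOf_eq_prime (S.hAe.2 a ha) ha1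
    obtain ⟨d, hd, hle⟩ := Cfsg.Agent.Lib.Helper24BGCover3.conj_into (X := centralizer ({u} : Set G))
      (B := sigmaCore L ⊓ centralizer ({u} : Set G)) (D := cj c⁻¹ N ⊓ centralizer ({u} : Set G))
      (Y := zpowers a) hsol inf_le_right D.norm inf_le_right
      (by
        intro z hz
        obtain ⟨a', ha', b, hb, rfl⟩ := D.compl.2.2.2 z hz
        exact mul_mem (mem_sup_right ha') (mem_sup_left hb))
      (by rw [e2, ← e1]; exact hcop) (zpowers_le.mpr haC)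
      (by
        rw [Nat.card_zpowers, hoa, Nat.Prime.coprime_iff_not_dvd hpp]
        intro hdv
        exact hpL (Cfsg.Agent.Lib.Helper30BG2.card_sigmaCore hG D.coatom p hpp
          (hdv.trans (card_dvd_of_le inf_le_left))))
    have haN : a ∈ cj (d⁻¹ * c⁻¹) N := by
      rw [cj_mul, mem_cj, inv_inv]
      exact (hle (conj_mem_cj (mem_zpowers a))).1
    have huN : u ∈ sigmaCore (cj (d⁻¹ * c⁻¹) N) := by
      rw [cj_mul, Cfsg.Agent.Lib.Helper21BGExcbasic.sigmaCore_cj, mem_cj, inv_inv]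
      have : d * u * d⁻¹ = u := by
        rw [mem_centralizer_singleton_iff.mp hd, mul_inv_cancel_right]
      rwa [this]
    exact no_conj hG S ha ha1 hu hu1 hau huN haN

end Cfsg.Agent.Lib.Helper38BG1436memtau2
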