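import Mathlib
import Cfsg.Agent.Lib.Helper38BG13classify
import Cfsg.Agent.Lib.Helper27BGa
import Cfsg.Agent.Lib.Helper24BG2
import Cfsg.Agent.Lib.Helper29Basic

/-!
PROJECT 1436, piece `rankone` (helper38).
-/

set_option autoImplicit false

namespace Cfsg.Agent.Lib.Helper38BG1436rankone

open Cfsg Subgroup
open Cfsg.Agent.Lib.Helper30Trans Cfsg.Agent.Lib.Helper24BG

variable {G : Type*} [Group G] [Finite G]

theorem conj_of_card_prime (hG : IsMinSimpleOddOrder G) {N : Subgroup G} (hN : IsCoatom N) {t : ℕ}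
    (ht : t.Prime) (hσ : t ∉ sigma N) (hτ : t ∉ tau2 N) {X Y : Subgroup G} (hX : X ≤ N) (hY : Y ≤ N)
    (hXc : Nat.card X = t) (hYc : Nat.card Y = t) : ∃ n ∈ N, Y = cj n X := by
  have : Fact t.Prime := ⟨ht⟩
  have hd : t ∣ Nat.card N := hXc ▸ card_dvd_of_le hX
  have hr : PRankLE t 1 N := by
    rcases Cfsg.Agent.Lib.Helper38BG13classify.mem_tau_cases hG hN ht hd with h | h | h | h
    · exact absurd h hσ
    · exact h.2.2.2.2
    · exact absurd h hτ
    · exact h.2.2.2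
  have hXp : IsPGroup t X := Cfsg.Agent.Lib.Helper30BG2.isPGroup_of_card_prime hXc
  have hYp : IsPGroup t Y := Cfsg.Agent.Lib.Helper30BG2.isPGroup_of_card_prime hYc
  have ht2 : t ≠ 2 := ne_two hG hXp (Cfsg.Agent.Lib.Helper30BG2.ne_bot_of_card_prime hXc)
  obtain ⟨T, hT, hYT⟩ := exists_isSyl_ge hY hYp
  obtain ⟨n, hn, hnX⟩ := Cfsg.Agent.Lib.Helper24BG2.exists_cj_le hT hXp hX
  have hc : IsCyclic T :=
    Cfsg.Agent.Lib.Helper27BGa.cyclic_of_rank_one ht2 hT.2.1 (rank_le_of_le hT.1 hr)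
  refine ⟨n, hn, ?_⟩
  apply Cfsg.Agent.Lib.Helper29Basic.eq_of_card_eq_of_le_cyclic hc hYT hnX
  rw [card_cj, hXc, hYc]

end Cfsg.Agent.Lib.Helper38BG1436rankone
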