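import Mathlib
import Cfsg.Agent.Lib.Helper24BGCover3

/-!
B-G 14.13(b): if `N[x]` and `N[y]` (`x, y ∈ M_σ#`) are conjugate in `G` they are conjugate in `M`.
From the hypotheses `Hyp G` (rows S1374, S1375, S1378).
-/

set_option autoImplicit false
set_option linter.unusedSectionVars false
set_option linter.unusedVariables false

namespace Cfsg.Agent.Lib.Helper24BGCover4

open Cfsg Subgroup
open Cfsg.Agent.Lib.Helper30Trans Cfsg.Agent.Lib.Helper24BG Cfsg.Agent.Lib.Helper21BGExcbasic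
open Cfsg.Agent.Lib.Helper24BGCover Cfsg.Agent.Lib.Helper24BGCover2 Cfsg.Agent.Lib.Helper24BGCover3

variable {G : Type*} [Group G] [Finite G]

theorem coprime_relIndex_sigmaCore (hG : IsMinSimpleOddOrder G) {N : Subgroup G} (hN : IsCoatom N) :
    ((sigmaCore N).relIndex N).Coprime (Nat.card (sigmaCore N)) := by
  have h50 := (Cfsg.Agent.S1350.result hG N hN).1
  exact Nat.coprime_of_dvd fun p hp h1 h2 => h50.2.2 p hp (h50.2.1 p hp h2) h1

theorem cj_eq_self_of_mem {N : Subgroup G} {n : G} (hn : n ∈ N) : cj n N = N :=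
  cj_eq_self_of_mem_normalizer (le_normalizer hn)

theorem conj_in_M (hG : IsMinSimpleOddOrder G) (H : Hyp G) {M : Subgroup G} (hM : IsCoatom M)
    {x : G} (hx : x ∈ sigmaCore M) (hx1 : x ≠ 1) (hxM : ¬ centralizer ({x} : Set G) ≤ M)
    {N : Subgroup G} (hN : IsCoatom N) (hxN : centralizer ({x} : Set G) ≤ N)
    {y : G} {N' : Subgroup G} {g : G} (hy : y ∈ sigmaCore M) (hy1 : y ≠ 1)
    (hyM : ¬ centralizer ({y} : Set G) ≤ M) (hN' : IsCoatom N')
    (hyN' : centralizer ({y} : Set G) ≤ N') (hg : cj g N' = N) : ∃ m ∈ M, cj m N' = N := by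
  obtain ⟨N₀, D⟩ := exists_dat H hM hx hx1 hxM
  obtain rfl : N = N₀ := D.uniq N hN hxN
  obtain ⟨N₀', D'⟩ := exists_dat H hM hy hy1 hyM
  obtain rfl : N' = N₀' := D'.uniq N' hN' hyN'
  have hcop := coprime_relIndex_sigmaCore hG hN
  have hDX : cj g (M ⊓ N') ≤ N := by
    rw [← hg]; exact cj_mono inf_le_right
  have hBD : N ≤ sigmaCore N ⊔ cj g (M ⊓ N') := by
    intro n hn
    have hn' : g⁻¹ * n * g ∈ N' := by rw [← hg, mem_cj] at hn; exact hn
    obtain ⟨a, ha, b, hb, e⟩ := D'.complN.2.2.2 _ hn'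
    have e' : n = (g * a * g⁻¹) * (g * b * g⁻¹) := by
      have : n = g * (g⁻¹ * n * g) * g⁻¹ := by group
      rw [this, e]; group
    rw [e']
    refine mul_mem (mem_sup_right (conj_mem_cj ha)) (mem_sup_left ?_)
    rw [← hg, sigmaCore_cj]
    exact conj_mem_cj hb
  obtain ⟨n, hn, hle⟩ := conj_into (X := N) (B := sigmaCore N) (D := cj g (M ⊓ N')) (Y := M ⊓ N)
    (sol hG hN.1) (sigmaCore_le' N) (Cfsg.Agent.Lib.Helper2BGb.le_normalizer_sigmaCore N) hDX hBD hcop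
    inf_le_right (by rw [← Cfsg.Agent.Lib.Helper31BGS.relIndex_compl' D.complN]; exact hcop)
  have hxMN : x ∈ M ⊓ N := ⟨sigmaCore_le' M hx, hxN (mem_centralizer_self x)⟩
  have h1 : n * x * n⁻¹ ∈ cj g M := cj_mono inf_le_left (hle (conj_mem_cj hxMN))
  have h2 : x ∈ cj (n⁻¹ * g) M := by
    rw [mem_cj] at h1 ⊢
    have : (n⁻¹ * g)⁻¹ * x * (n⁻¹ * g) = g⁻¹ * (n * x * n⁻¹) * g := by group
    rwa [this]
  obtain ⟨r, ⟨hr, hr'⟩, -⟩ := sharp H hM hx hx1 (n⁻¹ * g) h2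
  have hrN : r ∈ N := by
    rw [D.supp] at hr
    exact sigmaCore_le' N hr.1
  refine ⟨r⁻¹ * (n⁻¹ * g), mem_of_cj_eq hG hM hr', ?_⟩
  rw [cj_mul, cj_mul, hg, cj_eq_self_of_mem (N.inv_mem hn), cj_eq_self_of_mem (N.inv_mem hrN)]

end Cfsg.Agent.Lib.Helper24BGCover4
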