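import Mathlib
import Cfsg.Agent.Lib.Helper24BG1436Defs
import Cfsg.Agent.Lib.Helper24BGCover4
import Cfsg.Agent.Lib.Helper90BG14normtau2
import Cfsg.Agent.Lib.Helper30BG4
import Cfsg.Agent.S0026
import Cfsg.Agent.S1408
import Cfsg.Agent.S1416
import Cfsg.Agent.S1417
import Cfsg.Agent.S1418
import Cfsg.Agent.S1423
import Cfsg.Agent.S1425

/-! PROJECT 1436, piece `tau2` (relative form: the other pieces enter as hypotheses). -/

set_option autoImplicit false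

namespace Cfsg.Agent.Lib.Helper40BG1436tau2

open Cfsg Subgroup
open Cfsg.Agent.Lib.Helper30Trans Cfsg.Agent.Lib.Helper24BG Cfsg.Agent.Lib.Helper24BG1436Defs

variable {G : Type*} [Group G] [Finite G]

omit [Finite G] in
theorem conj_mem_centralizer_cj {g b : G} {Q : Subgroup G} (hb : b ∈ centralizer (Q : Set G)) :
    g * b * g⁻¹ ∈ centralizer ((cj g Q : Subgroup G) : Set G) := by
  rw [mem_centralizer_iff]
  rintro _ ⟨a, ha, rfl⟩
  have h1 := (mem_centralizer_iff.mp hb) a ha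
  show g * a * g⁻¹ * (g * b * g⁻¹) = g * b * g⁻¹ * (g * a * g⁻¹)
  calc g * a * g⁻¹ * (g * b * g⁻¹) = g * (a * b) * g⁻¹ := by group
    _ = g * (b * a) * g⁻¹ := by rw [h1]
    _ = g * b * g⁻¹ * (g * a * g⁻¹) := by group

omit [Finite G] in
theorem mem_centralizer_zpowers {a b : G} (h : b * a = a * b) :
    a ∈ centralizer ((zpowers b : Subgroup G) : Set G) := by
  rw [mem_centralizer_iff]
  rintro _ ⟨k, rfl⟩
  exact ((show Commute b a from h).zpow_left k).eq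

omit [Finite G] in
theorem card_zpowers_of_pow {t : ℕ} (ht : t.Prime) {b : G} (hb : b ^ t = 1) (hb1 : b ≠ 1) :
    Nat.card (zpowers b) = t := by
  have : Fact t.Prime := ⟨ht⟩
  rw [Nat.card_zpowers]
  exact orderOf_eq_prime hb hb1

omit [Finite G] in
theorem prime_eq_of_dvd_card_sq {t r : ℕ} (ht : t.Prime) (hr : r.Prime) {B Y : Subgroup G}
    (hB : Nat.card B = t ^ 2) (hY : Y ≤ B) (hd : r ∣ Nat.card Y) : r = t := by
  have h1 : r ∣ t ^ 2 := hB ▸ hd.trans (card_dvd_of_le hY)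
  exact (Nat.prime_dvd_prime_iff_eq hr ht).mp (hr.dvd_of_dvd_pow h1)

theorem tau2_empty_of (hG : IsMinSimpleOddOrder G) {M N A : Subgroup G} {x : G} {p : ℕ}
    (S : Sup M x N p A) {q : ℕ} (hq : q ∈ sigma N) (hqM : q ∣ Nat.card M)
    (hmb : ∀ q' : ℕ, q' ∈ sigma N → q' ∣ Nat.card M → q' ∈ beta N)
    (hdc : Group.IsNilpotent (sigmaCore M) → ∀ Y : Subgroup G, Y ≤ ⁅M, M⁆ →
      (∀ r : ℕ, r.Prime → r ∣ Nat.card Y → r ∉ sigma M) → Y ≤ centralizer (A : Set G))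
    (hcp : ∀ t : ℕ, t.Prime → t ∉ sigma N → t ∉ tau2 N → ∀ X Y : Subgroup G, X ≤ N → Y ≤ N →
      Nat.card X = t → Nat.card Y = t → ∃ n ∈ N, Y = cj n X) : tau2 M = ∅ := by
  by_contra hne
  obtain ⟨t, ht⟩ := Set.nonempty_iff_ne_empty.2 hne
  have htp : t.Prime := ht.1
  have : Fact t.Prime := ⟨htp⟩
  have hpp : p.Prime := S.pσ.1
  have : Fact p.Prime := ⟨hpp⟩
  have hqp : q.Prime := hq.1
  have : Fact q.Prime := ⟨hqp⟩
  have hM := S.hM
  have hN := S.hN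
  -- `B` of type `(t,t)` and a complement `E ≥ B`
  obtain ⟨B, hBM, hBe, hBc⟩ := Cfsg.Agent.Lib.Helper31BGS.exists_sq ht.2.2.2
  obtain ⟨E, hE, hBE⟩ := Cfsg.Agent.Lib.Helper31BGS.exists_compl_ge hG hM hBM (by
    intro r hr hrd
    rw [prime_eq_of_dvd_card_sq htp hr hBc le_rfl hrd]
    exact ht.2.1)
  have htM : t ∣ Nat.card M := by
    have h1 : t ∣ Nat.card B := by rw [hBc]; exact dvd_pow_self t (by norm_num)
    exact h1.trans (card_dvd_of_le hBM)
  -- an element `u` of order `q` of `E`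
  have hqσ : q ∉ sigma M := fun h => S.disj q h hq
  have hqE : q ∣ Nat.card E := by
    have h1 := Cfsg.Agent.Lib.Helper31BGS.card_compl hE
    rw [← h1] at hqM
    rcases (Nat.Prime.dvd_mul hqp).1 hqM with h | h
    · exact h
    · exact absurd (Cfsg.Agent.Lib.Helper31BGS.mem_sigma_of_dvd_sigmaCore hG hM hqp h) hqσ
  obtain ⟨u', hu'⟩ := exists_prime_orderOf_dvd_card' q hqE
  obtain ⟨u, huE, huq⟩ : ∃ u : G, u ∈ E ∧ orderOf u = q :=
    ⟨u', u'.2, by rw [Subgroup.orderOf_coe]; exact hu'⟩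
  have hu1 : u ≠ 1 := by
    rintro rfl
    rw [orderOf_one] at huq
    exact hqp.one_lt.ne huq
  obtain ⟨Q, hQ⟩ : ∃ Q : Subgroup G, Q = zpowers u := ⟨_, rfl⟩
  have huQ : u ∈ Q := hQ ▸ mem_zpowers u
  have hQc : Nat.card Q = q := by rw [hQ, Nat.card_zpowers, huq]
  have hQE : Q ≤ E := by rw [hQ, zpowers_le]; exact huE
  have hQ1 : Q ≠ ⊥ := by
    intro h
    rw [h, card_bot] at hQc
    exact hqp.one_lt.ne hQc
  have h18 := Cfsg.Agent.S1418.result hG M hM E hE t ht B ⟨hBE, hBe, hBc⟩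
  have h17 := Cfsg.Agent.S1417.result hG M hM t ht B ⟨hBM, hBe, hBc⟩
  -- (3)
  obtain ⟨g, hg⟩ := Cfsg.Agent.S1425.result hG N hN Q hQ1 (by
    intro r hr hrd
    rw [hQc] at hrd
    rw [(Nat.prime_dvd_prime_iff_eq hr hqp).mp hrd]
    exact hq)
  have hgQ : cj g Q ≤ sigmaCore N := hg
  have hσN : sigmaCore N ≤ N := Cfsg.Agent.Lib.Helper24BGCover.sigmaCore_le' N
  have hCQ : centralizer ((cj g Q : Subgroup G) : Set G) ≤ N :=
    (Cfsg.Agent.S1423.result hG N hN q hq (cj g Q) (hgQ.trans hσN) (by rw [card_cj, hQc])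
      (Classical.arbitrary _) (Or.inl (hmb q hq hqM))).1.1
  -- (4)
  have h4 : t ∉ sigma N := by
    intro h
    exact (Cfsg.Agent.S1408.result hG M hM t ht.2.1 ht.2.2.1 ht.2.2.2).1 (hmb t h htM).2
  -- (5)
  have hNM : N ≠ M := by
    have := S.nconj 1
    rwa [cj_one] at this
  have hxN : x ∈ N := S.hC (by rw [mem_centralizer_iff]; intro y hy; rw [Set.mem_singleton_iff.1 hy])
  have h5 : t ∉ tau2 N := by
    intro h
    obtain ⟨B', hB'E, hB'e, hB'c⟩ :=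
      Cfsg.Agent.Lib.Helper90BG14normtau2.exists_sq_compl hG hN S.compl h
    have h1 := (Cfsg.Agent.S1417.result hG M hM t ht B'
      ⟨hB'E.trans inf_le_left, hB'e, hB'c⟩).2.2.2.2.1 N hN hNM (hB'E.trans inf_le_right)
    have h2 : x ∈ sigmaCore M ⊓ N := ⟨S.hx, hxN⟩
    rw [h1, mem_bot] at h2
    exact S.hx1 h2
  -- (6)
  have h6 : ¬ B ≤ centralizer (Q : Set G) := by
    intro h
    have h1 : cj g B ≤ N := by
      rintro _ ⟨b, hb, rfl⟩
      exact hCQ (conj_mem_centralizer_cj (h hb))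
    exact h5 (Cfsg.Agent.Lib.Helper30BG4.mem_tau2 hG hN h4 h1 (elemAb_cj hBe g)
      (by rw [card_cj, hBc]))
  -- (7)
  have hQN : Q ≤ normalizer (B : Set G) := hQE.trans h18.1.1
  have hqt : q ≠ t := fun h => h4 (h ▸ hq)
  have hB₀B : ⁅B, Q⁆ ≤ B := by
    rw [commutator_le]
    intro b hb c hc
    have h1 : c * b⁻¹ * c⁻¹ ∈ B := ((mem_normalizer_iff.1 (hQN hc)) b⁻¹).1 (B.inv_mem hb)
    rw [commutatorElement_def]
    have h2 : b * c * b⁻¹ * c⁻¹ = b * (c * b⁻¹ * c⁻¹) := by group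
    rw [h2]
    exact B.mul_mem hb h1
  have hB₀A : ⁅B, Q⁆ ≤ centralizer (A : Set G) := by
    apply hdc h17.1 _ (commutator_mono hBM (hQE.trans hE.1))
    intro r hr hrd
    rw [prime_eq_of_dvd_card_sq htp hr hBc hB₀B hrd]
    exact ht.2.1
  have h26 := Cfsg.Agent.S0026.result Q B hQN (by
    rw [hQc, hBc]
    exact Nat.Coprime.pow_right 2 ((Nat.coprime_primes hqp htp).2 hqt))
    (Or.inr (by
      have := hBe.1
      exact Group.isSolvable_of_comm (fun a b => this.is_comm.comm a b)))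
  have hAM : A ≤ M := S.hA.trans inf_le_left
  have hAN : A ≤ N := S.hA.trans inf_le_right
  have hAp : IsPGroup p A := IsPGroup.of_card S.hA2
  have hAσ : A ≤ sigmaCore M := Cfsg.Agent.Lib.Helper30BG2.pgroup_le_sigmaCore hG hM S.pσ hAp hAM
  have hA1 : A ≠ ⊥ := by
    intro h
    have h1 := S.hA2
    rw [h, card_bot] at h1
    have := Nat.one_lt_pow (n := 2) (by norm_num) hpp.one_lt
    omega
  obtain ⟨a, haA, ha1⟩ := A.bot_or_exists_ne_one.resolve_left hA1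
  have h7 : B ⊓ centralizer (Q : Set G) ≠ ⊥ := by
    intro h
    rw [h, sup_bot_eq] at h26
    have h1 : B ≤ centralizer (A : Set G) := h26 ▸ hB₀A
    have h2 : a ∈ sigmaCore M ⊓ centralizer (B : Set G) := by
      refine mem_inf.2 ⟨hAσ haA, ?_⟩
      rw [mem_centralizer_iff]
      intro b hb
      exact ((mem_centralizer_iff.1 (h1 hb)) a haA).symm
    rw [h17.2.2.2.1, mem_bot] at h2
    exact ha1 h2
  obtain ⟨b', hb', hb'1⟩ := (B ⊓ centralizer (Q : Set G)).bot_or_exists_ne_one.resolve_left h7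
  have hB₀1 : ⁅B, Q⁆ ≠ ⊥ := by
    intro h
    rw [commutator_eq_bot_iff_le_centralizer] at h
    exact h6 h
  obtain ⟨b₀, hb₀, hb₀1⟩ := (⁅B, Q⁆).bot_or_exists_ne_one.resolve_left hB₀1
  -- (8)
  have hX₀c : Nat.card (zpowers b₀) = t := card_zpowers_of_pow htp (hBe.2 b₀ (hB₀B hb₀)) hb₀1
  have hX₀B : zpowers b₀ ≤ B := by rw [zpowers_le]; exact hB₀B hb₀
  have h16 := (Cfsg.Agent.S1416.result hG N hN p A ⟨hAN, S.hAe, S.hA2⟩).1
  have hX₀N : zpowers b₀ ≤ N := by rw [zpowers_le]; exact h16 (hB₀A hb₀)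
  have h8a : sigmaCore M ⊓ centralizer ((zpowers b₀ : Subgroup G) : Set G) ≠ ⊥ := by
    intro h
    have h2 : a ∈ sigmaCore M ⊓ centralizer ((zpowers b₀ : Subgroup G) : Set G) := by
      refine mem_inf.2 ⟨hAσ haA, ?_⟩
      exact mem_centralizer_zpowers ((mem_centralizer_iff.1 (hB₀A hb₀)) a haA).symm
    rw [h, mem_bot] at h2
    exact ha1 h2
  have h8 : centralizer ((zpowers b₀ : Subgroup G) : Set G) ≤ M := (h18.2.2 _ hX₀B hX₀c h8a).1
  -- (9)
  have hXc : Nat.card (cj g (zpowers b')) = t := by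
    rw [card_cj]
    exact card_zpowers_of_pow htp (hBe.2 b' hb'.1) hb'1
  have hXN : cj g (zpowers b') ≤ N := by
    rintro _ ⟨c, hc, rfl⟩
    apply hCQ
    apply conj_mem_centralizer_cj
    exact (zpowers_le.2 hb'.2) hc
  -- (10)
  obtain ⟨n, hn, hXn⟩ := hcp t htp h4 h5 _ _ hX₀N hXN hX₀c hXc
  have hy1 : g * u * g⁻¹ ∈ sigmaCore N := hgQ (conj_mem_cj huQ)
  have hy2 : g * u * g⁻¹ ∈ centralizer ((cj g (zpowers b') : Subgroup G) : Set G) := by
    apply conj_mem_centralizer_cj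
    exact mem_centralizer_zpowers ((mem_centralizer_iff.1 hb'.2) u huQ).symm
  rw [hXn] at hy2
  have hy3 : n⁻¹ * (g * u * g⁻¹) * n ∈ centralizer ((zpowers b₀ : Subgroup G) : Set G) := by
    have := conj_mem_centralizer_cj (g := n⁻¹) hy2
    rwa [cj_inv_cj, inv_inv] at this
  have hy4 : n⁻¹ * (g * u * g⁻¹) * n ∈ sigmaCore N := by
    have h1 := (mem_normalizer_iff.1
      (Cfsg.Agent.Lib.Helper31BGS.le_normalizer_sigmaCore N (N.inv_mem hn)) (g * u * g⁻¹)).1 hy1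
    simpa using h1
  have hy5 : n⁻¹ * (g * u * g⁻¹) * n ∈ sigmaCore N ⊓ M := ⟨hy4, h8 hy3⟩
  rw [S.inf, mem_bot] at hy5
  apply hu1
  have : u = g⁻¹ * (n * (n⁻¹ * (g * u * g⁻¹) * n) * n⁻¹) * g := by group
  rw [this, hy5]
  group

end Cfsg.Agent.Lib.Helper40BG1436tau2
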