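import Mathlib
import Cfsg.Agent.Lib.Helper24BG1436Defs
import Cfsg.Agent.Lib.Helper17BG1436order
import Cfsg.Agent.Lib.Helper17BG1436commuting
import Cfsg.Agent.Lib.Helper17BG1436dercent
import Cfsg.Agent.Lib.Helper38BG1436setup
import Cfsg.Agent.Lib.Helper38BG1436noconj
import Cfsg.Agent.Lib.Helper38BG1436memtau2
import Cfsg.Agent.Lib.Helper38BG1436rankone
import Cfsg.Agent.Lib.Helper40BG1436tau2

/-!
PROJECT 1436 (architect helper24): assembly of B-G 14.4(d) (`mem_beta`) and of the `τ₂(M) = ∅` half of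
B-G 14.13(a) (`tau2_empty`) from the landed pieces of helpers 17, 38, 40.
-/

set_option autoImplicit false

namespace Cfsg.Agent.Lib.Helper24BG1436Main

open Cfsg Subgroup
open Cfsg.Agent.Lib.Helper30Trans Cfsg.Agent.Lib.Helper24BG Cfsg.Agent.Lib.Helper24BG1436Defs

variable {G : Type*} [Group G] [Finite G]

/-- B-G 14.4(d): `π(M) ∩ σ(N) ⊆ β(N)`. -/
theorem mem_beta (hG : IsMinSimpleOddOrder G) {M N A : Subgroup G} {x : G} {p : ℕ}
    (S : Sup M x N p A) {q : ℕ} (hq : q ∈ sigma N) (hqM : q ∣ Nat.card M) : q ∈ beta N := by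
  by_contra hβ
  have h1 : p ≤ q := Helper17BG1436order.le_of_tau2 hG S.hN S.pτ hq hβ
  have hne : p ≠ q := fun h => S.disj p S.pσ (h ▸ hq)
  obtain ⟨a, ha, ha1, u, hu, huq, hau⟩ :=
    Helper17BG1436commuting.exists_commuting hG S hq.1 hqM (lt_of_le_of_ne h1 hne)
      (Helper38BG1436setup.sup_not_beta hG S)
  have h2 := Helper38BG1436memtau2.mem_tau2_of_commute hG S hq ha ha1 hu huq hau
  exact hne (le_antisymm h1 (Helper17BG1436order.le_of_tau2 hG S.hM h2 S.pσ
    (Helper38BG1436setup.sup_not_beta hG S)))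

/-- the `τ₂(M) = ∅` half of B-G 14.13(a). -/
theorem tau2_empty (hG : IsMinSimpleOddOrder G) {M N A : Subgroup G} {x : G} {p : ℕ}
    (S : Sup M x N p A) {q : ℕ} (hq : q ∈ sigma N) (hqM : q ∣ Nat.card M) : tau2 M = ∅ := by
  have : Fact p.Prime := ⟨S.pσ.1⟩
  exact Helper40BG1436tau2.tau2_empty_of hG S hq hqM (fun _ h h' => mem_beta hG S h h')
    (fun hnil _ hY hYσ => Helper17BG1436dercent.derived_cent hG S.hM hnil S.pσ
      (Helper38BG1436setup.sup_not_beta hG S) hY hYσ (S.hA.trans inf_le_left)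
      (IsPGroup.of_card S.hA2))
    (fun _ ht hσ hτ _ _ hX hY hXc hYc =>
      Helper38BG1436rankone.conj_of_card_prime hG S.hN ht hσ hτ hX hY hXc hYc)

end Cfsg.Agent.Lib.Helper24BG1436Main
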