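import Mathlib
import Cfsg.Agent.Lib.Helper24BG1436Defs
import Cfsg.Agent.Lib.Helper24BG
import Cfsg.Agent.Lib.Helper27BG16basic
import Cfsg.Agent.Lib.Helper30BG2
import Cfsg.Agent.Lib.Helper31BGS
import Cfsg.Agent.Lib.Helper37BG
import Cfsg.Agent.Lib.Helper37BGPart
import Cfsg.Agent.Lib.Helper37BG14kbasic
import Cfsg.Agent.Lib.Helper38BG13classify
import Cfsg.Agent.S1351
import Cfsg.Agent.S1352
import Cfsg.Agent.S1366
import Cfsg.Agent.S1434
import Cfsg.Agent.S1435

/-!
PROJECT 1436, piece `kappa`: in the configuration `Sup M x N p A`, a prime of `σ(N)` dividing `|M|`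
forces `κ(M) = ∅`.
-/

set_option autoImplicit false

namespace Cfsg.Agent.Lib.Helper27BG1436kappa

open Cfsg Subgroup
open Cfsg.Agent.Lib.Helper30Trans Cfsg.Agent.Lib.Helper24BG Cfsg.Agent.Lib.Helper24BG1436Defs

variable {G : Type*} [Group G] [Finite G]

/-- a solvable group with a cyclic Hall `π`-subgroup has no subgroup of type `(p,p)`, `p ∈ π`. -/
theorem no_sq {X Ks B : Subgroup G} (hs : Group.IsSolvable X) {π : Set ℕ}
    (hKs : IsPiHallOf π Ks X) (hc : IsCyclic Ks) {p : ℕ} (hp : p.Prime) (hpπ : p ∈ π)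
    (hBX : B ≤ X) (hBe : IsElementaryAbelian p B) (hB2 : Nat.card B = p ^ 2) : False := by
  haveI := Fact.mk hp
  have hprimes : ∀ r : ℕ, r.Prime → r ∣ Nat.card B → r ∈ π := by
    intro r hr hd
    rw [hB2] at hd
    have : r = p := (Nat.prime_dvd_prime_iff_eq hr hp).mp (hr.dvd_of_dvd_pow hd)
    rw [this]
    exact hpπ
  obtain ⟨m, -, hm⟩ := Cfsg.Agent.Lib.Helper27BG16basic.exists_cj_le_hall hs hKs hBX hprimes
  have h1 : IsCyclic (cj m B) := by
    have : IsCyclic ((cj m B).subgroupOf Ks) := inferInstance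
    exact isCyclic_of_surjective _ (subgroupOfEquivOfLe hm).surjective
  exact Cfsg.Agent.Lib.Helper37BG.not_cyclic_of_sq (elemAb_cj hBe m) (by rw [card_cj, hB2]) h1

theorem kappa_empty (hG : IsMinSimpleOddOrder G) {M N A : Subgroup G} {x : G} {p : ℕ}
    (S : Sup M x N p A) {q : ℕ} (hq : q ∈ sigma N) (hqM : q ∣ Nat.card M) : kappa M = ∅ := by
  by_contra hne
  have hM := S.hM
  have hN := S.hN
  have hpp : p.Prime := S.pσ.1
  have hqp : q.Prime := hq.1
  obtain ⟨⟨K, hK⟩, hcyc⟩ := Cfsg.Agent.S1351.result hG M hM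
  have hKc := hcyc K hK
  have hK1 : K ≠ ⊥ := fun h =>
    hne ((Cfsg.Agent.Lib.Helper27BG16basic.kappa_eq_empty_iff hK).mpr h)
  obtain ⟨⟨U, hKU⟩, -⟩ := Cfsg.Agent.S1352.result hG M hM K hKc hK
  obtain ⟨Ms, ⟨hMs, hKst, hKstH⟩, -⟩ := Cfsg.Agent.S1366.result hG M hM K U hKU hK1
  have h34 := Cfsg.Agent.S1434.result hG M hM K U hKU hK1 Ms hMs hKst hKstH
  have hHall := h34.2.1
  have hKsc : IsCyclic ↥(sigmaCore M ⊓ centralizer (K : Set G)) :=
    (Cfsg.Agent.S1351.result hG Ms hMs).2 _ hKstH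
  have hsMs : Group.IsSolvable Ms := sol hG hMs.1
  -- it suffices to find a subgroup of type `(p,p)` in `M*`
  have key : ∀ B : Subgroup G, B ≤ Ms → IsElementaryAbelian p B → Nat.card B = p ^ 2 → False :=
    fun B hB hBe hB2 => no_sq hsMs hHall hKsc hpp S.pσ hB hBe hB2
  have hqσM : q ∉ sigma M := fun h => S.disj q h hq
  by_cases hqκ : q ∈ kappa M
  · -- `q ∣ |K|`, `K ≤ M*_σ`
    have hqK : q ∣ Nat.card K := by
      have h1 := Cfsg.Agent.Lib.Helper27BG16basic.card_mul_relIndex hK.1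
      rw [← h1] at hqM
      rcases (Nat.Prime.dvd_mul hqp).mp hqM with h | h
      · exact h
      · exact absurd h (hK.2.2 q hqp hqκ)
    have hKle : K ≤ sigmaCore Ms := by
      rw [hKst]
      exact inf_le_left
    have hqMs : q ∈ sigma Ms :=
      Cfsg.Agent.Lib.Helper30BG2.card_sigmaCore hG hMs q hqp
        (hqK.trans (card_dvd_of_le hKle))
    obtain ⟨g, hg⟩ := Cfsg.Agent.Lib.Helper37BGPart.sigma_conj hG hN hMs hq hqMs
    apply key (cj g A)
    · rw [hg]
      exact cj_mono (S.hA.trans inf_le_right)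
    · exact elemAb_cj S.hAe g
    · rw [card_cj, S.hA2]
  · -- `q ∣ |U|`
    have hqU : q ∣ Nat.card U := by
      have h1 := Cfsg.Agent.Lib.Helper27BG16basic.card_eq hG hM hKU
      rw [h1] at hqM
      rcases (Nat.Prime.dvd_mul hqp).mp hqM with h | h
      · rcases (Nat.Prime.dvd_mul hqp).mp h with h | h
        · exact h
        · exact absurd (hK.2.1 q hqp h) hqκ
      · exact absurd (Cfsg.Agent.Lib.Helper30BG2.card_sigmaCore hG hM q hqp h) hqσM
    have hU1 : U ≠ ⊥ := by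
      rintro rfl
      rw [card_bot] at hqU
      exact hqp.one_lt.ne' (Nat.dvd_one.mp hqU)
    haveI := Fact.mk hqp
    obtain ⟨R⟩ : Nonempty (Sylow q U) := inferInstance
    have hR1 : ((R : Subgroup U).map U.subtype : Subgroup G) ≠ ⊥ := by
      intro h
      have h2 : Nat.card ((R : Subgroup U).map U.subtype) = Nat.card (R : Subgroup U) :=
        card_map_of_injective U.subtype_injective
      rw [h, card_bot] at h2
      have h3 := R.dvd_card_of_dvd_card hqU
      rw [← h2] at h3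
      exact hqp.one_lt.ne' (Nat.dvd_one.mp h3)
    have hNtop : normalizer (((R : Subgroup U).map U.subtype : Subgroup G) : Set G) ≠ ⊤ :=
      norm_ne_top hG hR1 (fun h => by
        have h4 : ((R : Subgroup U).map U.subtype : Subgroup G) ≤ M :=
          (map_subtype_le _).trans hKU.compl.1
        rw [h] at h4
        exact hM.1 (top_le_iff.mp h4))
    obtain ⟨H, hH, hNH⟩ := exists_coatom hNtop
    obtain ⟨-, hUH, -, -, -, hcompl⟩ :=
      Cfsg.Agent.S1435.result hG M hM K U hKU hK1 hU1 Ms hMs hKst hKstH q hqU R H hH hNH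
    have hqH : q ∈ sigma H :=
      Cfsg.Agent.Lib.Helper30BG2.card_sigmaCore hG hH q hqp (hqU.trans (card_dvd_of_le hUH))
    obtain ⟨g, hg⟩ := Cfsg.Agent.Lib.Helper37BGPart.sigma_conj hG hN hH hq hqH
    have hpH : p ∉ sigma H := by
      rw [hg, Cfsg.Agent.Lib.Helper21BGExcbasic.sigma_cj]
      exact S.pτ.2.1
    have hE : IsPiHallOf {r | r ∉ sigma H} (H ⊓ Ms) H := by
      refine ⟨hcompl.1, ?_, ?_⟩
      · intro r hr hd
        exact Cfsg.Agent.Lib.Helper31BGS.not_mem_sigma_of_dvd_compl hG hH hcompl hr hd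
      · intro r hr hrσ hd
        rw [Cfsg.Agent.Lib.Helper31BGS.relIndex_compl hcompl] at hd
        exact hrσ (Cfsg.Agent.Lib.Helper30BG2.card_sigmaCore hG hH r hr hd)
    have hAH : cj g A ≤ H := by
      rw [hg]
      exact cj_mono (S.hA.trans inf_le_right)
    have hprimes : ∀ r : ℕ, r.Prime → r ∣ Nat.card (cj g A) → r ∈ {r | r ∉ sigma H} := by
      intro r hr hd
      rw [card_cj, S.hA2] at hd
      have : r = p := (Nat.prime_dvd_prime_iff_eq hr hpp).mp (hr.dvd_of_dvd_pow hd)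
      rw [this]
      exact hpH
    obtain ⟨m, -, hm⟩ :=
      Cfsg.Agent.Lib.Helper27BG16basic.exists_cj_le_hall (sol hG hH.1) hE hAH hprimes
    apply key (cj m (cj g A)) (hm.trans inf_le_right)
    · exact elemAb_cj (elemAb_cj S.hAe g) m
    · rw [card_cj, card_cj, S.hA2]

end Cfsg.Agent.Lib.Helper27BG1436kappa
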