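import Mathlib
import Cfsg.Agent.Lib.H60WKinds
import Cfsg.Agent.Lib.H60WCentII
import Cfsg.Agent.Lib.Helper31BGS
import Cfsg.Agent.S1375
import Cfsg.Agent.S1378
import Cfsg.Agent.S1436

set_option autoImplicit false
set_option linter.unusedSectionVars false

namespace Cfsg.Agent.Lib.H60WCop

open Cfsg Subgroup
open Cfsg.Agent.Lib.Helper30Trans Cfsg.Agent.Lib.Helper24BG

variable {G : Type*} [Group G] [Finite G]

/-- the coprimality clause.  S1375 (x := a) gives `N`; `L = N`, `L_σ = L_F`, and (with a decomposition of `L`,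
`H60WCore.exists_dec`) `a ∉ L_σ`.
Suppose a prime `r` divides `|L_F| = |L_σ|` and `|C_M(b)|` (`Nat.Coprime` via `Nat.coprime_of_dvd`).
`r ∈ σ(L)` (`Helper31BGS.mem_sigma_of_dvd_sigmaCore`), `r ∣ |M|`: S1436 clause 1 gives `κ(M) = τ₂(M) = ∅`.
Kinds of `b` (`H60WKinds.kinds`): third kind impossible (`Helper51BG16.K_ne_bot_of_typeP`, but `K` is a `κ(M)`-group:
`hKU.hall.2.1`, so `K = ⊥` when `κ(M) = ∅`); second kind impossible (`H60WCentII.no_ii`); so `b ∈ M_σ^#`.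
Cauchy: `c ∈ M ⊓ C(b)` of order `r`; `c ∈ sigmaHat M`, so `c ∈ M_σ` (`no_ii`) and `r ∈ σ(M)`
(`mem_sigma_of_dvd_sigmaCore`).  S1378 clause 2: `L = cj g M`.  `σ(L) = σ(M)`
(`Helper37BG14kbasic`/`Helper21BGExcbasic`: sigma_cj), `a ∈ C(a) ≤ L` is a `σ(L)`-element
(`Helper24BGCover.piNum_orderOf`), so `a ∈ L_σ` (`Helper24BGCover.mem_sigmaCore_of_piNum`): contradiction. -/
theorem coprime (hG : IsMinSimpleOddOrder G) {M : Subgroup G} (hM : IsCoatom M) {a : G}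
    (ha : a ∈ sigmaCore M) (ha1 : a ≠ 1) (hc : ¬ centralizer ({a} : Set G) ≤ M) {L : Subgroup G}
    (hL : IsCoatom L) (haL : centralizer ({a} : Set G) ≤ L) {b : G} (hb : b ∈ typeA0 M) :
    (Nat.card (fittingHallOf L)).Coprime (Nat.card ↥(M ⊓ centralizer ({b} : Set G))) := by
  classical
  obtain ⟨N, ⟨hN, haN⟩, huniq, hF, -, -, -, hlast⟩ := Cfsg.Agent.S1375.result hG M hM a ha ha1 hc
  have hLN : L = N := huniq L hL haL
  subst hLN
  obtain ⟨K', U', hKU'⟩ := Cfsg.Agent.Lib.H60WCore.exists_dec hG hL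
  have haL' : a ∉ sigmaCore L := (hlast K' U' hKU').2.2
  obtain ⟨K, U, hKU⟩ := Cfsg.Agent.Lib.H60WCore.exists_dec hG hM
  rw [← hF]
  apply Nat.coprime_of_dvd
  intro r hr h1 h2
  have hrL : r ∈ sigma L := Cfsg.Agent.Lib.Helper31BGS.mem_sigma_of_dvd_sigmaCore hG hL hr h1
  have hrM : r ∣ Nat.card M := h2.trans (card_dvd_of_le inf_le_left)
  obtain ⟨hk, ht⟩ := (Cfsg.Agent.S1436.result hG M hM a ha ha1 hc L hL haL).1 ⟨r, hrL, hrM⟩
  -- `K = ⊥`
  have hK : K = ⊥ := by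
    by_contra hK
    have hc1 : Nat.card K ≠ 1 := fun h => hK (card_eq_one.mp h)
    obtain ⟨s, hs, hsd⟩ := Nat.exists_prime_and_dvd hc1
    have := hKU.hall.2.1 s hs hsd
    rw [hk] at this
    exact this
  -- `b ∈ M_σ`
  have hb' : b ∈ sigmaCore M ∧ b ≠ 1 := by
    rcases Cfsg.Agent.Lib.H60WKinds.kinds hG hM hKU hb with h | ⟨h3, h4⟩ | ⟨W₁, U'', W₂, hP, -⟩
    · exact h
    · exact absurd (Cfsg.Agent.Lib.H60WCentII.no_ii hG hM hk ht h3.1) h4
    · exact absurd hK (Cfsg.Agent.Lib.Helper51BG16.K_ne_bot_of_typeP hG hM hKU.hall hP)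
  -- an element of order `r` in `C_M(b)`
  have : Fact r.Prime := ⟨hr⟩
  obtain ⟨c, hc'⟩ := exists_prime_orderOf_dvd_card' (G := ↥(M ⊓ centralizer ({b} : Set G))) r h2
  have hcM : (c : G) ∈ M := (mem_inf.mp c.2).1
  have hcb : (c : G) ∈ centralizer ({b} : Set G) := (mem_inf.mp c.2).2
  have hco : orderOf (c : G) = r := by rw [Subgroup.orderOf_coe]; exact hc'
  have hcH : (c : G) ∈ sigmaHat M := by
    refine ⟨hcM, b, hb'.1, hb'.2, ?_⟩
    rw [mem_centralizer_iff] at hcb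
    exact (hcb b rfl).symm
  have hcS : (c : G) ∈ sigmaCore M := Cfsg.Agent.Lib.H60WCentII.no_ii hG hM hk ht hcH
  have hrS : r ∈ sigma M := by
    apply Cfsg.Agent.Lib.Helper31BGS.mem_sigma_of_dvd_sigmaCore hG hM hr
    rw [← hco]
    exact Subgroup.orderOf_dvd_natCard _ hcS
  obtain ⟨g, hg⟩ := (Cfsg.Agent.S1378.result hG).2 M L hM hL ⟨r, hrS, hrL⟩
  have hσ : sigma L = sigma M := by
    rw [hg]
    exact Cfsg.Agent.Lib.Helper21BGExcbasic.sigma_cj M g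
  apply haL'
  apply Cfsg.Agent.Lib.Helper24BGCover.mem_sigmaCore_of_piNum hG hL
  · apply haL
    rw [mem_centralizer_iff]
    intro y hy
    rw [Set.mem_singleton_iff] at hy
    rw [hy]
  · rw [hσ]
    exact Cfsg.Agent.Lib.Helper24BGCover.piNum_orderOf hG hM ha

end Cfsg.Agent.Lib.H60WCop
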