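import Mathlib
import Cfsg.Agent.Lib.Helper60PF8a
import Cfsg.Agent.S1374

set_option autoImplicit false
set_option linter.unusedSectionVars false

namespace Cfsg.Agent.Lib.H60WFusI

open Cfsg Subgroup
open Cfsg.Agent.Lib.Helper30Trans Cfsg.Agent.Lib.Helper24BG

variable {G : Type*} [Group G] [Finite G]

/-- fusion of the first kind.  `a ∈ cj g⁻¹ M` (`cj g M = M.map (MulAut.conj g).toMonoidHom`, `mem_cj`).
S1374 (x := a) gives `R` with `IsComplIn (M ⊓ C(a)) R C(a)` (so `R ≤ C(a)`) and `r ∈ R` with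
`cj r M = cj g⁻¹ M`; hence `cj (g * r) M = M`, `g * r ∈ N(M) = M`
(`Helper24BG.norm_eq`/`IsCoatom` + `norm_ne_top`), and `(g r) a (g r)⁻¹ = g a g⁻¹`. -/
theorem fusion_i (hG : IsMinSimpleOddOrder G) {M : Subgroup G} (hM : IsCoatom M) {a g : G}
    (ha : a ∈ sigmaCore M) (ha1 : a ≠ 1) (hg : g * a * g⁻¹ ∈ M) :
    ∃ m ∈ M, m * a * m⁻¹ = g * a * g⁻¹ := by
  obtain ⟨-, R, -, hR, hex⟩ := Cfsg.Agent.S1374.result hG M hM a ha ha1
  have hmem : a ∈ M.map (MulAut.conj g⁻¹).toMonoidHom := by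
    have : a ∈ cj g⁻¹ M := by
      rw [mem_cj, inv_inv]; exact hg
    exact this
  obtain ⟨r, ⟨hrR, hr⟩, -⟩ := hex g⁻¹ hmem
  have hr' : cj r M = cj g⁻¹ M := hr
  have h1 : cj (g * r) M = M := by rw [cj_mul, hr', cj_cj_inv]
  have h2 : g * r ∈ normalizer (M : Set G) := mem_normalizer_iff_map_conj_eq.mpr h1
  rw [Cfsg.Agent.Lib.Helper27BGa.normalizer_coatom hG hM] at h2
  refine ⟨g * r, h2, ?_⟩
  have hrc : r ∈ centralizer ({a} : Set G) := hR.2.1 hrR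
  rw [mem_centralizer_singleton_iff] at hrc
  have : g * r * a * (g * r)⁻¹ = g * (r * a * r⁻¹) * g⁻¹ := by group
  rw [this, hrc]
  group

end Cfsg.Agent.Lib.H60WFusI
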