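import Mathlib
import Cfsg.Agent.Lib.Helper60PF8a

/-!
Peterfalvi, Section 8 (local part), continued: the sets `A₁(M) ⊆ A(M) ⊆ A₀(M)`, their normalizer, the
Dade hypothesis (row S1537) and the TI property for Type II (row S1538), relative to `Rows G`.
-/

set_option autoImplicit false
set_option linter.unusedSectionVars false

namespace Cfsg.Agent.Lib.Helper60PF8b

open Cfsg Subgroup
open Cfsg.Agent.Lib.Helper30Trans Cfsg.Agent.Lib.Helper24BG Cfsg.Agent.Lib.Helper60PF8a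

variable {G : Type*} [Group G] [Finite G]

theorem typeCore_le (M : Subgroup G) : typeCore M ≤ M := by
  unfold typeCore
  split_ifs
  · exact commutator_le_self M
  · exact Cfsg.Agent.Lib.Helper29Basic.fittingHallOf_le M

theorem le_normalizer_derived (M : Subgroup G) : M ≤ normalizer ((⁅M, M⁆ : Subgroup G) : Set G) := by
  rw [← map_subtype_commutator]
  exact Cfsg.Agent.Lib.Helper37Cores.le_normalizer_map_subtype _

theorem le_normalizer_typeCore (M : Subgroup G) : M ≤ normalizer (typeCore M : Set G) := by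
  unfold typeCore
  split_ifs
  · exact le_normalizer_derived M
  · exact Cfsg.Agent.Lib.Helper27BG16fhall.le_normalizer_fittingHallOf M

theorem fhall_ne_bot_of_P {M W₁ U W₂ : Subgroup G} (h : IsTypePWith M W₁ U W₂) :
    fittingHallOf M ≠ ⊥ := by
  intro h0
  apply h.H_not_cyclic
  rw [h0]
  infer_instance

theorem fhall_ne_bot_of_I {M : Subgroup G} (h : IsOfTypeI M) : fittingHallOf M ≠ ⊥ := by
  intro h0
  apply h.1.2.2.1
  exact (map_eq_bot_iff_of_injective _ M.subtype_injective).mp h0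

/-- every maximal subgroup not of Type I is of type P -/
theorem typeP_of_not_I (hG : IsMinSimpleOddOrder G) (R : Rows G) {M : Subgroup G} (hM : IsCoatom M)
    (h : ¬ IsOfTypeI M) : ∃ W₁ U W₂ : Subgroup G, IsTypePWith M W₁ U W₂ := by
  rcases type_cases hG R hM with h1 | ⟨W₁, U, W₂, h1, -⟩ | (⟨W₁, U, W₂, h1, -⟩ | ⟨W₁, U, W₂, h1, -⟩) |
    ⟨W₁, U, W₂, h1, -⟩
  · exact absurd h1 h
  all_goals exact ⟨W₁, U, W₂, h1⟩

theorem fhall_ne_bot (hG : IsMinSimpleOddOrder G) (R : Rows G) {M : Subgroup G} (hM : IsCoatom M) :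
    fittingHallOf M ≠ ⊥ := by
  by_cases h : IsOfTypeI M
  · exact fhall_ne_bot_of_I h
  · obtain ⟨W₁, U, W₂, h1⟩ := typeP_of_not_I hG R hM h
    exact fhall_ne_bot_of_P h1

theorem fhall_le_typeCore (hG : IsMinSimpleOddOrder G) (R : Rows G) {M : Subgroup G}
    (hM : IsCoatom M) : fittingHallOf M ≤ typeCore M := by
  unfold typeCore
  split_ifs with h
  · obtain ⟨W₁, U, W₂, h1⟩ := typeP_of_not_I hG R hM (not_I_of_III R hM h)
    exact h1.U_compl.1
  · exact le_rfl

theorem typeCore_ne_bot (hG : IsMinSimpleOddOrder G) (R : Rows G) {M : Subgroup G}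
    (hM : IsCoatom M) : typeCore M ≠ ⊥ := by
  intro h
  apply fhall_ne_bot hG R hM
  rw [← le_bot_iff, ← h]
  exact fhall_le_typeCore hG R hM

theorem typeCore_le_derived (hG : IsMinSimpleOddOrder G) (R : Rows G) {M : Subgroup G}
    (hM : IsCoatom M) (h : ¬ IsOfTypeI M) : typeCore M ≤ ⁅M, M⁆ := by
  unfold typeCore
  split_ifs with h'
  · exact le_rfl
  · obtain ⟨W₁, U, W₂, h1⟩ := typeP_of_not_I hG R hM h
    exact h1.U_compl.1

theorem typeCore_of_I (R : Rows G) {M : Subgroup G} (hM : IsCoatom M) (h : IsOfTypeI M) :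
    typeCore M = fittingHallOf M := if_neg (not_III_of_I R hM h)

theorem typeCore_of_II (R : Rows G) {M : Subgroup G} (hM : IsCoatom M) (h : IsOfTypeII M) :
    typeCore M = fittingHallOf M := if_neg (not_III_of_II R hM h)

theorem typeCore_of_V (R : Rows G) {M : Subgroup G} (hM : IsCoatom M) (h : IsOfTypeV M) :
    typeCore M = fittingHallOf M := if_neg (not_III_of_V R hM h)

theorem typeCore_of_III {M : Subgroup G} (h : IsOfTypeIII M ∨ IsOfTypeIV M) :
    typeCore M = ⁅M, M⁆ := if_pos h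

theorem mem_typeA1 {M : Subgroup G} {x : G} : x ∈ typeA1 M ↔ x ∈ typeCore M ∧ x ≠ 1 := Iff.rfl

theorem mem_typeA_of_I {M : Subgroup G} (h : IsOfTypeI M) {a : G} :
    a ∈ typeA M ↔ a ∈ M ∧ a ≠ 1 ∧ ∃ x ∈ fittingHallOf M, x ≠ 1 ∧ a * x = x * a := by
  unfold typeA
  rw [if_pos h]
  rfl

theorem mem_typeA_of_not_I {M : Subgroup G} (h : ¬ IsOfTypeI M) {a : G} :
    a ∈ typeA M ↔ a ∈ ⁅M, M⁆ ∧ a ≠ 1 ∧ ∃ x ∈ typeCore M, x ≠ 1 ∧ a * x = x * a := by
  unfold typeA
  rw [if_neg h]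
  rfl

/-- uniform description of `A(M)` -/
theorem mem_typeA_imp (R : Rows G) {M : Subgroup G} (hM : IsCoatom M) {a : G} (ha : a ∈ typeA M) :
    a ∈ M ∧ a ≠ 1 ∧ ∃ x ∈ typeCore M, x ≠ 1 ∧ a * x = x * a := by
  by_cases h : IsOfTypeI M
  · rw [mem_typeA_of_I h] at ha
    rw [typeCore_of_I R hM h]
    exact ha
  · rw [mem_typeA_of_not_I h] at ha
    exact ⟨commutator_le_self M ha.1, ha.2⟩

theorem typeA1_subset_typeA (hG : IsMinSimpleOddOrder G) (R : Rows G) {M : Subgroup G}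
    (hM : IsCoatom M) : typeA1 M ⊆ typeA M := by
  intro x hx
  rw [mem_typeA1] at hx
  by_cases h : IsOfTypeI M
  · rw [mem_typeA_of_I h]
    rw [typeCore_of_I R hM h] at hx
    exact ⟨Cfsg.Agent.Lib.Helper29Basic.fittingHallOf_le M hx.1, hx.2, x, hx.1, hx.2, rfl⟩
  · rw [mem_typeA_of_not_I h]
    exact ⟨typeCore_le_derived hG R hM h hx.1, hx.2, x, hx.1, hx.2, rfl⟩

theorem typeA_subset_typeA0 (M : Subgroup G) : typeA M ⊆ typeA0 M := Set.subset_union_left

theorem typeA1_subset_typeA0 (hG : IsMinSimpleOddOrder G) (R : Rows G) {M : Subgroup G}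
    (hM : IsCoatom M) : typeA1 M ⊆ typeA0 M :=
  (typeA1_subset_typeA hG R hM).trans (typeA_subset_typeA0 M)

theorem mem_of_mem_typeA0 (R : Rows G) {M : Subgroup G} (hM : IsCoatom M) {a : G}
    (ha : a ∈ typeA0 M) : a ∈ M ∧ a ≠ 1 := by
  rcases ha with ha | ⟨-, W₁, U, W₂, hP, m, hm, w, hw, hw1, -, rfl⟩
  · exact ⟨(mem_typeA_imp R hM ha).1, (mem_typeA_imp R hM ha).2.1⟩
  · have hW : W₁ ⊔ W₂ ≤ M :=
      sup_le hP.W₁_compl.2.1 (hP.W₂_le.trans (inf_le_left.trans
        (Cfsg.Agent.Lib.Helper29Basic.fittingHallOf_le M)))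
    refine ⟨M.mul_mem (M.mul_mem hm (hW hw)) (M.inv_mem hm), ?_⟩
    intro h
    apply hw1
    have : w = 1 := by
      have h2 : w = m⁻¹ * (m * w * m⁻¹) * m := by group
      rw [h2, h]
      group
    rw [this]
    exact W₁.one_mem

theorem conj_ne_one {m a : G} (h : a ≠ 1) : m * a * m⁻¹ ≠ 1 := by
  intro h1
  apply h
  have h2 : a = m⁻¹ * (m * a * m⁻¹) * m := by group
  rw [h2, h1]
  group

theorem conj_mem_of_le_normalizer {M N : Subgroup G} (h : M ≤ normalizer (N : Set G)) {m x : G}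
    (hm : m ∈ M) (hx : x ∈ N) : m * x * m⁻¹ ∈ N := (mem_normalizer_iff.mp (h hm) x).mp hx

theorem typeA1_conj {M : Subgroup G} {m a : G} (hm : m ∈ M) (ha : a ∈ typeA1 M) :
    m * a * m⁻¹ ∈ typeA1 M :=
  ⟨conj_mem_of_le_normalizer (le_normalizer_typeCore M) hm ha.1, conj_ne_one ha.2⟩

theorem conj_comm {m a x : G} (h : a * x = x * a) :
    m * a * m⁻¹ * (m * x * m⁻¹) = m * x * m⁻¹ * (m * a * m⁻¹) := by
  have h1 : m * a * m⁻¹ * (m * x * m⁻¹) = m * (a * x) * m⁻¹ := by group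
  have h2 : m * x * m⁻¹ * (m * a * m⁻¹) = m * (x * a) * m⁻¹ := by group
  rw [h1, h2, h]

theorem typeA_conj {M : Subgroup G} {m a : G} (hm : m ∈ M) (ha : a ∈ typeA M) :
    m * a * m⁻¹ ∈ typeA M := by
  by_cases h : IsOfTypeI M
  · rw [mem_typeA_of_I h] at ha ⊢
    obtain ⟨h1, h2, x, hx, hx1, hc⟩ := ha
    exact ⟨M.mul_mem (M.mul_mem hm h1) (M.inv_mem hm), conj_ne_one h2, m * x * m⁻¹,
      conj_mem_of_le_normalizer (Cfsg.Agent.Lib.Helper27BG16fhall.le_normalizer_fittingHallOf M) hm hx,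
      conj_ne_one hx1, conj_comm hc⟩
  · rw [mem_typeA_of_not_I h] at ha ⊢
    obtain ⟨h1, h2, x, hx, hx1, hc⟩ := ha
    exact ⟨conj_mem_of_le_normalizer (le_normalizer_derived M) hm h1, conj_ne_one h2, m * x * m⁻¹,
      conj_mem_of_le_normalizer (le_normalizer_typeCore M) hm hx, conj_ne_one hx1, conj_comm hc⟩

theorem typeA0_conj {M : Subgroup G} {m a : G} (hm : m ∈ M) (ha : a ∈ typeA0 M) :
    m * a * m⁻¹ ∈ typeA0 M := by
  rcases ha with ha | ⟨h0, W₁, U, W₂, hP, n, hn, w, hw, hw1, hw2, rfl⟩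
  · exact Or.inl (typeA_conj hm ha)
  · refine Or.inr ⟨h0, W₁, U, W₂, hP, m * n, M.mul_mem hm hn, w, hw, hw1, hw2, ?_⟩
    group

theorem conj_mem_closure {A : Set G} {g : G} (h : ∀ a ∈ A, g * a * g⁻¹ ∈ A) {d : G}
    (hd : d ∈ closure A) : g * d * g⁻¹ ∈ closure A := by
  induction hd using closure_induction with
  | mem x hx => exact subset_closure (h x hx)
  | one => simp
  | mul x y _ _ hx hy =>
    have : g * (x * y) * g⁻¹ = g * x * g⁻¹ * (g * y * g⁻¹) := by group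
    rw [this]
    exact mul_mem hx hy
  | inv x _ hx =>
    have : g * x⁻¹ * g⁻¹ = (g * x * g⁻¹)⁻¹ := by group
    rw [this]
    exact inv_mem hx

/-- the set normalizer of a nonempty `M`-invariant subset of `M \ 1` is `M` -/
theorem set_normalizer_eq (hG : IsMinSimpleOddOrder G) {M : Subgroup G} (hM : IsCoatom M) {A : Set G}
    (hsub : ∀ a ∈ A, a ∈ M) (hconj : ∀ m ∈ M, ∀ a ∈ A, m * a * m⁻¹ ∈ A) (hne : ∃ a ∈ A, a ≠ 1) :
    normalizer A = M := by
  have h1 : M ≤ normalizer A := by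
    intro m hm
    rw [mem_set_normalizer_iff]
    intro h
    refine ⟨hconj m hm h, fun hh => ?_⟩
    have := hconj m⁻¹ (M.inv_mem hm) _ hh
    have e : m⁻¹ * (m * h * m⁻¹) * m⁻¹⁻¹ = h := by group
    rwa [e] at this
  by_contra hcon
  have h2 : normalizer A = ⊤ := hM.2 _ (lt_of_le_of_ne h1 (Ne.symm hcon))
  set D := closure A with hD
  have hDM : D ≤ M := (closure_le M).mpr hsub
  have hD0 : D ≠ ⊥ := by
    obtain ⟨a, ha, ha1⟩ := hne
    intro h
    apply ha1
    have : a ∈ D := subset_closure ha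
    rw [h, mem_bot] at this
    exact this
  have hD1 : D ≠ ⊤ := fun h => hM.1 (eq_top_iff.mpr (h ▸ hDM))
  apply norm_ne_top hG hD0 hD1
  rw [eq_top_iff]
  intro g _
  have hg : ∀ g : G, ∀ a ∈ A, g * a * g⁻¹ ∈ A := by
    intro g a ha
    have : g ∈ normalizer A := by rw [h2]; exact mem_top g
    rw [mem_set_normalizer_iff] at this
    exact (this a).mp ha
  rw [mem_normalizer_iff]
  intro d
  refine ⟨fun hd => conj_mem_closure (hg g) hd, fun hd => ?_⟩
  have := conj_mem_closure (hg g⁻¹) hd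
  have e : g⁻¹ * (g * d * g⁻¹) * g⁻¹⁻¹ = d := by group
  rwa [e] at this

theorem exists_mem_typeA1 (hG : IsMinSimpleOddOrder G) (R : Rows G) {M : Subgroup G}
    (hM : IsCoatom M) : ∃ a ∈ typeA1 M, a ≠ 1 := by
  obtain ⟨x, hx, hx1⟩ := exists_ne_one_of_ne_bot' (typeCore_ne_bot hG R hM)
  exact ⟨x, ⟨hx, hx1⟩, hx1⟩

theorem normalizer_typeA1 (hG : IsMinSimpleOddOrder G) (R : Rows G) {M : Subgroup G}
    (hM : IsCoatom M) : normalizer (typeA1 M) = M :=
  set_normalizer_eq hG hM (fun _ ha => typeCore_le M ha.1) (fun _ hm _ ha => typeA1_conj hm ha)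
    (exists_mem_typeA1 hG R hM)

theorem normalizer_typeA (hG : IsMinSimpleOddOrder G) (R : Rows G) {M : Subgroup G}
    (hM : IsCoatom M) : normalizer (typeA M) = M := by
  obtain ⟨a, ha, ha1⟩ := exists_mem_typeA1 hG R hM
  exact set_normalizer_eq hG hM (fun _ ha => (mem_typeA_imp R hM ha).1)
    (fun _ hm _ ha => typeA_conj hm ha) ⟨a, typeA1_subset_typeA hG R hM ha, ha1⟩

theorem normalizer_typeA0 (hG : IsMinSimpleOddOrder G) (R : Rows G) {M : Subgroup G}
    (hM : IsCoatom M) : normalizer (typeA0 M) = M := by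
  obtain ⟨a, ha, ha1⟩ := exists_mem_typeA1 hG R hM
  exact set_normalizer_eq hG hM (fun _ ha => (mem_of_mem_typeA0 R hM ha).1)
    (fun _ hm _ ha => typeA0_conj hm ha) ⟨a, typeA1_subset_typeA0 hG R hM ha, ha1⟩

/-! ### `R(x)` -/

theorem supportR_of_le {M : Subgroup G} {x : G} (h : centralizer ({x} : Set G) ≤ M) :
    supportR M x = ⊥ := dif_neg (fun h' => h'.1 h)

theorem supportR_eq {M L : Subgroup G} {x : G} (h1 : ¬ centralizer ({x} : Set G) ≤ M)
    (h2 : ∃! L : Subgroup G, IsCoatom L ∧ centralizer ({x} : Set G) ≤ L) (hL : IsCoatom L)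
    (hxL : centralizer ({x} : Set G) ≤ L) :
    supportR M x = fittingHallOf L ⊓ centralizer ({x} : Set G) := by
  unfold supportR
  rw [dif_pos ⟨h1, h2⟩]
  have : Classical.choose h2.exists = L := h2.unique (Classical.choose_spec h2.exists) ⟨hL, hxL⟩
  rw [this]

theorem sup_eq_of_complIn {A B M : Subgroup G} (h : IsComplIn A B M) : A ⊔ B = M := by
  apply le_antisymm (sup_le h.1 h.2.1)
  intro m hm
  obtain ⟨a, ha, b, hb, rfl⟩ := h.2.2.2 m hm
  exact mul_mem_sup ha hb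

theorem supportR_props (R : Rows G) {M : Subgroup G} (hM : IsCoatom M) {a : G}
    (ha : a ∈ typeA0 M) :
    supportR M a ≤ centralizer ({a} : Set G) ∧
    (∀ c ∈ centralizer ({a} : Set G), ∀ u ∈ supportR M a, c * u * c⁻¹ ∈ supportR M a) ∧
    supportR M a ⊓ (M ⊓ centralizer ({a} : Set G)) = ⊥ ∧
    supportR M a ⊔ (M ⊓ centralizer ({a} : Set G)) = centralizer ({a} : Set G) ∧
    ∀ b ∈ typeA0 M, Nat.Coprime (Nat.card (supportR M a))
      (Nat.card ↥(M ⊓ centralizer ({b} : Set G))) := by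
  by_cases hc : centralizer ({a} : Set G) ≤ M
  · rw [supportR_of_le hc]
    refine ⟨bot_le, ?_, bot_inf_eq _, ?_, ?_⟩
    · intro c _ u hu
      rw [mem_bot] at hu ⊢
      rw [hu]
      group
    · rw [bot_sup_eq, inf_eq_right]
      exact hc
    · intro b _
      rw [card_bot]
      exact Nat.coprime_one_left _
  · have h91 := R.r1391 M hM (typeA0 M) (Or.inr rfl)
    obtain ⟨-, hex⟩ := h91.2.1 a ha hc
    obtain ⟨L, ⟨hL, haL⟩, -⟩ := id hex
    obtain ⟨-, h2, h3, h4, -⟩ := h91.2.2 a ha hc L hL haL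
    rw [supportR_eq hc hex hL haL]
    refine ⟨inf_le_right, ?_, h3.2.2.1, sup_eq_of_complIn h3, ?_⟩
    · intro c hc' u hu
      exact (mem_normalizer_iff.mp (h2 hc') u).mp hu
    · intro b hb
      exact Nat.Coprime.coprime_dvd_left (card_dvd_of_le inf_le_left) (h4 b hb)

/-- the Dade hypothesis for any `M`-invariant subset of `A₀(M)` -/
theorem dade_of_subset (R : Rows G) {M : Subgroup G} (hM : IsCoatom M) {A : Set G}
    (hA : A ⊆ typeA0 M) (hconj : ∀ m ∈ M, ∀ a ∈ A, m * a * m⁻¹ ∈ A) :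
    DadeHypothesis A M (supportR M) where
  one_not_mem := fun h => (mem_of_mem_typeA0 R hM (hA h)).2 rfl
  subset := fun a ha => (mem_of_mem_typeA0 R hM (hA ha)).1
  conj_mem := hconj
  fusion := fun a ha g hg => (R.r1391 M hM (typeA0 M) (Or.inr rfl)).1 a (hA ha) g (hA hg)
  le_centralizer := fun a ha => (supportR_props R hM (hA ha)).1
  conj_mem_H := fun a ha => (supportR_props R hM (hA ha)).2.1
  inf_eq_bot := fun a ha => (supportR_props R hM (hA ha)).2.2.1
  sup_eq := fun a ha => (supportR_props R hM (hA ha)).2.2.2.1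
  coprime := fun a ha b hb => (supportR_props R hM (hA ha)).2.2.2.2 b (hA hb)

/-- row S1537, relative to `Rows G` -/
theorem s1537_of (hG : IsMinSimpleOddOrder G) (R : Rows G) (M : Subgroup G) (hM : IsCoatom M)
    (A : Set G) (hA : A = typeA1 M ∨ A = typeA M ∨ A = typeA0 M) :
    normalizer A = M ∧ DadeHypothesis A M (supportR M) := by
  rcases hA with rfl | rfl | rfl
  · exact ⟨normalizer_typeA1 hG R hM, dade_of_subset R hM (typeA1_subset_typeA0 hG R hM)
      (fun _ hm _ ha => typeA1_conj hm ha)⟩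
  · exact ⟨normalizer_typeA hG R hM, dade_of_subset R hM (typeA_subset_typeA0 M)
      (fun _ hm _ ha => typeA_conj hm ha)⟩
  · exact ⟨normalizer_typeA0 hG R hM, dade_of_subset R hM subset_rfl
      (fun _ hm _ ha => typeA0_conj hm ha)⟩

/-! ### Type II -/

theorem fittingHallOf_le_fittingOf' (M : Subgroup G) : fittingHallOf M ≤ fittingOf M := by
  apply map_mono
  apply sSup_le_sSup
  rintro N ⟨h1, h2, -⟩
  exact ⟨h1, h2⟩

theorem centralizer_le_of_II (hG : IsMinSimpleOddOrder G) (R : Rows G) {M : Subgroup G}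
    (hM : IsCoatom M) (hII : IsOfTypeII M) {x : G} (hx : x ∈ typeA0 M) :
    centralizer ({x} : Set G) ≤ M := by
  by_contra hc
  obtain ⟨h1, -⟩ := (R.r1391 M hM (typeA0 M) (Or.inr rfl)).2.1 x hx hc
  rw [mem_typeA1, typeCore_of_II R hM hII] at h1
  obtain ⟨W₁, U, W₂, hP, -, -, hTI, -⟩ := id hII
  apply hc
  intro g hg
  have hF0 : fittingOf M ≠ ⊥ := by
    intro h
    apply fhall_ne_bot_of_P hP
    rw [← le_bot_iff, ← h]
    exact fittingHallOf_le_fittingOf' M
  have hN : normalizer (fittingOf M : Set G) = M :=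
    norm_eq hG hM hF0 (Cfsg.Agent.Lib.Helper30Bender.fittingOf_le M)
      (Cfsg.Agent.Lib.Helper30Bender.le_normalizer_fittingOf M)
  rw [← hN]
  by_contra hgN
  apply h1.2
  have hxF : x ∈ fittingOf M := fittingHallOf_le_fittingOf' M h1.1
  apply hTI g hgN x hxF
  have : g * x * g⁻¹ = x := by
    rw [mem_centralizer_iff] at hg
    rw [← hg x rfl]
    group
  rw [this]
  exact hxF

theorem ti_of_II (hG : IsMinSimpleOddOrder G) (R : Rows G) {M : Subgroup G}
    (hM : IsCoatom M) (hII : IsOfTypeII M) {A : Set G} (hA : A ⊆ typeA0 M)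
    (hN : normalizer A = M) : IsTISubset A := by
  intro g hg x hx hgx
  exfalso
  apply hg
  rw [hN]
  obtain ⟨m, hm, e⟩ := (R.r1391 M hM (typeA0 M) (Or.inr rfl)).1 x (hA hx) g (hA hgx)
  have h1 : m⁻¹ * g ∈ centralizer ({x} : Set G) := by
    rw [mem_centralizer_iff]
    intro y hy
    rw [Set.mem_singleton_iff] at hy
    rw [hy]
    have e2 : g * x = m * x * m⁻¹ * g := by rw [e]; group
    calc x * (m⁻¹ * g) = m⁻¹ * (m * x * m⁻¹ * g) := by group
      _ = m⁻¹ * (g * x) := by rw [e2]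
      _ = m⁻¹ * g * x := by group
  have h2 := centralizer_le_of_II hG R hM hII (hA hx) h1
  have : g = m * (m⁻¹ * g) := by group
  rw [this]
  exact M.mul_mem hm h2

/-- row S1538, relative to `Rows G` -/
theorem s1538_of (hG : IsMinSimpleOddOrder G) (R : Rows G) (M : Subgroup G) (hM : IsCoatom M)
    (hII : IsOfTypeII M) :
    (IsTISubset (typeA0 M) ∧ normalizer (typeA0 M) = M) ∧
    (IsTISubset (typeA M) ∧ normalizer (typeA M) = M) ∧
    (IsTISubset (typeA1 M) ∧ normalizer (typeA1 M) = M) :=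
  ⟨⟨ti_of_II hG R hM hII subset_rfl (normalizer_typeA0 hG R hM), normalizer_typeA0 hG R hM⟩,
   ⟨ti_of_II hG R hM hII (typeA_subset_typeA0 M) (normalizer_typeA hG R hM), normalizer_typeA hG R hM⟩,
   ⟨ti_of_II hG R hM hII (typeA1_subset_typeA0 hG R hM) (normalizer_typeA1 hG R hM),
    normalizer_typeA1 hG R hM⟩⟩

end Cfsg.Agent.Lib.Helper60PF8b
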