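import Mathlib
import Cfsg.Agent.Lib.Helper60PF8a
import Cfsg.Agent.Lib.Helper60PF8b
import Cfsg.Agent.S1352
import Cfsg.Agent.S1362

set_option autoImplicit false
set_option linter.unusedSectionVars false

namespace Cfsg.Agent.Lib.H60WFusII

open Cfsg Subgroup
open Cfsg.Agent.Lib.Helper30Trans Cfsg.Agent.Lib.Helper24BG

variable {G : Type*} [Group G] [Finite G]

/-- fusion of the second kind.  `T = sigmaA M U \ M_σ` is a TI-subset (S1362), `a ≠ 1` (as `a ∉ M_σ`), so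
`g ∈ N(T)`.  `N(T) = M`: `T ⊆ M`, `T` is `M`-invariant (`M_σ` and `U ⊔ M_σ` are normal in `M`), nonempty;
the general lemma is `Helper60PF8b.set_normalizer_eq`. -/
theorem fusion_ii (hG : IsMinSimpleOddOrder G) {M K U : Subgroup G} (hM : IsCoatom M)
    (hKU : IsSigmaDecomposition M K U) {a g : G} (ha : a ∈ sigmaA M U) (ha' : a ∉ sigmaCore M)
    (hb : g * a * g⁻¹ ∈ sigmaA M U) (hb' : g * a * g⁻¹ ∉ sigmaCore M) : g ∈ M := by
  have hTI := Cfsg.Agent.S1362.result hG M hM K U hKU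
  have hnσ := Cfsg.Agent.Lib.Helper2BGb.le_normalizer_sigmaCore M
  have hnU := (Cfsg.Agent.S1352.result hG M hM K hKU.cyclic hKU.hall).2 U hKU
  have ha1 : a ≠ 1 := by
    rintro rfl
    exact ha' (one_mem _)
  have hN : normalizer (sigmaA M U \ (sigmaCore M : Set G)) = M := by
    refine Cfsg.Agent.Lib.Helper60PF8b.set_normalizer_eq hG hM ?_ ?_ ⟨a, ⟨ha, ha'⟩, ha1⟩
    · rintro x ⟨⟨⟨hxM, -⟩, -⟩, -⟩
      exact hxM
    · rintro m hm x ⟨⟨⟨hxM, y, hy, hy1, hxy⟩, hxU⟩, hxσ⟩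
      have h1 := mem_set_normalizer_iff.1 (hnσ hm)
      have h2 := mem_set_normalizer_iff.1 (hnU hm)
      refine ⟨⟨⟨M.mul_mem (M.mul_mem hm hxM) (M.inv_mem hm), m * y * m⁻¹, (h1 y).1 hy, ?_, ?_⟩,
        (h2 x).1 hxU⟩, fun h => hxσ ((h1 x).2 h)⟩
      · intro h
        apply hy1
        have : y = m⁻¹ * (m * y * m⁻¹) * m := by group
        rw [this, h]
        group
      · calc m * x * m⁻¹ * (m * y * m⁻¹) = m * (x * y) * m⁻¹ := by group
          _ = m * (y * x) * m⁻¹ := by rw [hxy]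
          _ = m * y * m⁻¹ * (m * x * m⁻¹) := by group
  by_contra hg
  rw [← hN] at hg
  exact ha1 (hTI g hg a ⟨ha, ha'⟩ ⟨hb, hb'⟩)

end Cfsg.Agent.Lib.H60WFusII
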