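import Mathlib
import Cfsg.Agent.Lib.H60WCore
import Cfsg.Agent.Lib.Helper60PF8b
import Cfsg.Agent.Lib.Helper30SZ
import Cfsg.Agent.Lib.Helper31BGS
import Cfsg.Agent.S1354
import Cfsg.Agent.S1366
import Cfsg.Agent.S1434

set_option autoImplicit false
set_option linter.unusedSectionVars false

namespace Cfsg.Agent.Lib.H60WKeyIII

open Cfsg Subgroup
open Cfsg.Agent.Lib.Helper30Trans Cfsg.Agent.Lib.Helper24BG

variable {G : Type*} [Group G] [Finite G]

/-- the type P data are `M`-conjugate to `(K, K* = M_σ ∩ C(K))`. -/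
theorem conj_data (hG : IsMinSimpleOddOrder G) {M K U : Subgroup G} (hM : IsCoatom M)
    (hKU : IsSigmaDecomposition M K U) {W₁ U' W₂ : Subgroup G} (hP : IsTypePWith M W₁ U' W₂) :
    ∃ m ∈ M, W₁ = cj m K ∧ W₂ = cj m (sigmaCore M ⊓ centralizer (K : Set G)) := by
  have hK1 : K ≠ ⊥ := Cfsg.Agent.Lib.Helper51BG16.K_ne_bot_of_typeP hG hM hKU.hall hP
  have hD : ⁅M, M⁆ = U ⊔ sigmaCore M := (Cfsg.Agent.S1365.result hG M hM K U hKU hK1).1
  have c1 := Cfsg.Agent.Lib.Helper31BGS.card_compl hP.W₁_compl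
  have c2 := Cfsg.Agent.Lib.Helper51BG16.card_eq hG hM hKU
  have c3 := Cfsg.Agent.Lib.Helper51BG16.card_UMs hG hM hKU
  have hcard : Nat.card W₁ = Nat.card K := by
    rw [hD, c3] at c1
    rw [c2] at c1
    have hpos : 0 < Nat.card U * Nat.card (sigmaCore M) := Nat.mul_pos Nat.card_pos Nat.card_pos
    apply Nat.eq_of_mul_eq_mul_left hpos
    rw [c1]
    ring
  obtain ⟨m, hm, hle⟩ := Cfsg.Agent.Lib.Helper51BG16.exists_cj_le_K hG hM hKU.hall hP.W₁_compl.2.1
    (by rw [hcard]; exact hKU.hall.2.1)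
  have heq : cj m W₁ = K := eq_of_le_of_card_ge hle (by rw [card_cj, hcard])
  refine ⟨m⁻¹, M.inv_mem hm, ?_, ?_⟩
  · rw [← heq, cj_inv_cj]
  · obtain ⟨k, hk, hk1⟩ := exists_ne_one_of_ne_bot' hK1
    have h54 := (Cfsg.Agent.S1354.result hG M hM K hKU.cyclic hKU.hall).2 hK1 k hk hk1
    have hKD := Cfsg.Agent.Lib.Helper51BG16.K_inf_UMs hG hM hKU
    rw [← hD] at hKD
    have hMsD : sigmaCore M ≤ ⁅M, M⁆ := by rw [hD]; exact le_sup_right
    have hDk : ⁅M, M⁆ ⊓ centralizer ({k} : Set G) = sigmaCore M ⊓ centralizer (K : Set G) := by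
      apply le_antisymm
      · intro y hy
        have hyM : y ∈ M ⊓ centralizer ({k} : Set G) :=
          mem_inf.mpr ⟨commutator_le_self M (mem_inf.mp hy).1, (mem_inf.mp hy).2⟩
        rw [h54] at hyM
        by_cases h1 : y ∈ K
        · have : y ∈ K ⊓ ⁅M, M⁆ := mem_inf.mpr ⟨h1, (mem_inf.mp hy).1⟩
          rw [hKD, mem_bot] at this
          rw [this]
          exact one_mem _
        by_cases h2 : y ∈ sigmaCore M ⊓ centralizer (K : Set G)
        · exact h2
        exfalso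
        obtain ⟨x, hx, y', hy', hx1, -, e⟩ := Cfsg.Agent.Lib.Helper51BG16.exists_mul_of_mem_Zhat
          (M := M) (K := K) (z := y) ⟨hyM, fun h => h.elim h1 h2⟩
        apply hx1
        have : x ∈ K ⊓ ⁅M, M⁆ := by
          refine mem_inf.mpr ⟨hx, ?_⟩
          have e' : x = y * y'⁻¹ := by rw [e]; group
          rw [e']
          exact mul_mem (mem_inf.mp hy).1 (inv_mem (hMsD (mem_inf.mp hy').1))
        rwa [hKD, mem_bot] at this
      · intro y hy
        refine mem_inf.mpr ⟨hMsD (mem_inf.mp hy).1, ?_⟩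
        have := (mem_inf.mp hy).2
        rw [mem_centralizer_iff] at this ⊢
        intro z hz
        rw [Set.mem_singleton_iff] at hz
        rw [hz]
        exact this k hk
    have hx : m⁻¹ * k * m ∈ W₁ := by
      rw [← heq, mem_cj] at hk
      exact hk
    have hx1 : m⁻¹ * k * m ≠ 1 := by
      intro h
      apply hk1
      have : k = m * (m⁻¹ * k * m) * m⁻¹ := by group
      rw [this, h]
      group
    rw [← hP.W₂_centralizer _ hx hx1, ← hDk]
    ext z
    rw [mem_cj, mem_inf, mem_inf, inv_inv]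
    have hn := Cfsg.Agent.Lib.Helper60PF8b.le_normalizer_derived M hm
    rw [mem_normalizer_iff] at hn
    rw [← hn z, mem_centralizer_iff, mem_centralizer_iff]
    apply and_congr Iff.rfl
    constructor
    · intro h y hy
      rw [Set.mem_singleton_iff] at hy
      rw [hy]
      have := h _ rfl
      calc k * (m * z * m⁻¹) = m * ((m⁻¹ * k * m) * z) * m⁻¹ := by group
        _ = m * (z * (m⁻¹ * k * m)) * m⁻¹ := by rw [this]
        _ = m * z * m⁻¹ * k := by group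
    · intro h y hy
      rw [Set.mem_singleton_iff] at hy
      rw [hy]
      have := h _ rfl
      calc m⁻¹ * k * m * z = m⁻¹ * (k * (m * z * m⁻¹)) * m := by group
        _ = m⁻¹ * (m * z * m⁻¹ * k) * m := by rw [this]
        _ = z * (m⁻¹ * k * m) := by group

/-- S1434 clause 4, transported by `conj_data`. -/
theorem key_iii (hG : IsMinSimpleOddOrder G) {M : Subgroup G} (hM : IsCoatom M)
    {W₁ U' W₂ : Subgroup G} (hP : IsTypePWith M W₁ U' W₂) {w h : G} (hw : w ∈ W₁ ⊔ W₂)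
    (h1 : w ∉ W₁) (h2 : w ∉ W₂) (hh : h * w * h⁻¹ ∈ M) : h ∈ M := by
  obtain ⟨K, U, hKU⟩ := Cfsg.Agent.Lib.H60WCore.exists_dec hG hM
  have hK1 : K ≠ ⊥ := Cfsg.Agent.Lib.Helper51BG16.K_ne_bot_of_typeP hG hM hKU.hall hP
  obtain ⟨m, hm, e1, e2⟩ := conj_data hG hM hKU hP
  obtain ⟨Mstar, ⟨hMs, hKst, hKstH⟩, -⟩ := Cfsg.Agent.S1366.result hG M hM K U hKU hK1
  have h34 := (Cfsg.Agent.S1434.result hG M hM K U hKU hK1 Mstar hMs hKst hKstH).2.2.2.1
  by_contra hcon
  have hg : (h * m)⁻¹ ∉ M := by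
    intro h3
    apply hcon
    have : h = ((h * m)⁻¹)⁻¹ * m⁻¹ := by group
    rw [this]
    exact M.mul_mem (M.inv_mem h3) (M.inv_mem hm)
  rw [e1, e2, ← Cfsg.Agent.Lib.Helper27Core.cj_sup, mem_cj] at hw
  rw [e1, mem_cj] at h1
  rw [e2, mem_cj] at h2
  apply h34 _ hg (m⁻¹ * w * m) ⟨hw, fun h' => h'.elim h1 h2⟩
  change m⁻¹ * w * m ∈ cj (h * m)⁻¹ M
  rw [mem_cj, inv_inv]
  have : h * m * (m⁻¹ * w * m) * (h * m)⁻¹ = h * w * h⁻¹ := by group
  rw [this]
  exact hh

end Cfsg.Agent.Lib.H60WKeyIII
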