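import Mathlib

set_option autoImplicit false

namespace Cfsg.Agent.Lib.Helper21Simple

open Subgroup

/-- Burnside's transfer theorem for simple groups: in a non-abelian simple group a nontrivial
Sylow subgroup is never central in its normalizer. -/
theorem not_normalizer_le_centralizer {G : Type*} [Group G] [Finite G] [IsSimpleGroup G]
    (hG : ¬ IsMulCommutative G) {p : ℕ} [Fact p.Prime] (P : Sylow p G) (hp : p ∣ Nat.card G) :
    ¬ (normalizer ((P : Subgroup G) : Set G) ≤ centralizer ((P : Subgroup G) : Set G)) := by
  intro h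
  have hc := MonoidHom.ker_transferSylow_isComplement' P h
  rcases (MonoidHom.normal_ker (MonoidHom.transferSylow P h)).eq_bot_or_eq_top with hK | hK
  · rw [hK, isComplement'_bot_left] at hc
    apply hG
    refine ⟨⟨fun a b => ?_⟩⟩
    have ha : a ∈ (P : Subgroup G) := by rw [hc]; trivial
    have hb : b ∈ (P : Subgroup G) := by rw [hc]; trivial
    exact (h (le_normalizer hb) a ha)
  · rw [hK, isComplement'_top_left] at hc
    exact P.ne_bot_of_dvd_card hp hc

/-- In a non-abelian simple group the Sylow subgroups for the smallest prime are not cyclic. -/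
theorem not_isCyclic_sylow_minFac {G : Type*} [Group G] [Finite G] [IsSimpleGroup G]
    (hG : ¬ IsMulCommutative G) {p : ℕ} [Fact p.Prime] (hp : (Nat.card G).minFac = p)
    (P : Sylow p G) : ¬ IsCyclic (P : Subgroup G) := by
  intro hP
  exact not_normalizer_le_centralizer hG P (hp ▸ Nat.minFac_dvd _)
    (IsCyclic.normalizer_le_centralizer hp hP)


theorem sylow_card_index {G : Type*} [Group G] [Finite G] {p a m : ℕ} [Fact p.Prime]
    (h : Nat.card G = p ^ a * m) (hm : ¬ p ∣ m) (P : Sylow p G) :
    Nat.card (P : Subgroup G) = p ^ a ∧ (P : Subgroup G).index = m := by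
  have hp : p.Prime := Fact.out
  have hm0 : m ≠ 0 := by
    rintro rfl
    exact hm (dvd_zero p)
  have h1 : Nat.card (P : Subgroup G) = p ^ a := by
    rw [P.card_eq_multiplicity, h, Nat.factorization_mul (pow_ne_zero _ hp.ne_zero) hm0,
      hp.factorization_pow]
    simp [Nat.factorization_eq_zero_of_not_dvd hm]
  refine ⟨h1, ?_⟩
  have h2 := (P : Subgroup G).card_mul_index
  rw [h1, h] at h2
  exact Nat.eq_of_mul_eq_mul_left (pow_pos hp.pos a) h2

theorem card_normalizer_mul_card_sylow {G : Type*} [Group G] [Finite G] {p : ℕ} [Fact p.Prime]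
    (P : Sylow p G) :
    Nat.card (normalizer ((P : Subgroup G) : Set G)) * Nat.card (Sylow p G) = Nat.card G := by
  rw [P.card_eq_index_normalizer]
  exact Subgroup.card_mul_index _

theorem card_sylow_ne_one {G : Type*} [Group G] [Finite G] [IsSimpleGroup G]
    (hG : ¬ IsMulCommutative G) {p : ℕ} [Fact p.Prime] (hp : p ∣ Nat.card G) :
    Nat.card (Sylow p G) ≠ 1 := by
  intro h
  have hs : Subsingleton (Sylow p G) := (Nat.card_eq_one_iff_unique.mp h).1
  obtain ⟨P⟩ : Nonempty (Sylow p G) := inferInstance
  have hn : (P : Subgroup G).Normal := P.normal_of_subsingleton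
  rcases hn.eq_bot_or_eq_top with hb | ht
  · exact P.ne_bot_of_dvd_card hp hb
  · -- G is a p-group, so has nontrivial centre
    have hpG : IsPGroup p G := by
      have := P.2
      rw [ht] at this
      exact (IsPGroup.of_equiv this Subgroup.topEquiv)
    have : Nontrivial G := IsSimpleGroup.toNontrivial
    have hc : Nontrivial (center G) := hpG.center_nontrivial
    rcases (inferInstance : (center G).Normal).eq_bot_or_eq_top with hb | ht
    · rw [hb] at hc
      exact not_subsingleton _ (inferInstance : Subsingleton (⊥ : Subgroup G))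
    · apply hG
      refine ⟨⟨fun a b => ?_⟩⟩
      have hb : b ∈ center G := by rw [ht]; trivial
      exact mem_center_iff.mp hb a

theorem relIndex_dvd_card_mulAut {G : Type*} [Group G] [Finite G] (H : Subgroup G) :
    (centralizer (H : Set G)).relIndex (normalizer (H : Set G)) ∣ Nat.card (MulAut H) := by
  have key := card_dvd_of_injective _ (QuotientGroup.kerLift_injective H.normalizerMonoidHom)
  rwa [normalizerMonoidHom_ker, ← index, ← relIndex] at key

/-- A non-abelian simple group with a proper subgroup of index `n` has order dividing `n!/2`. -/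
theorem two_mul_card_dvd_factorial {G : Type*} [Group G] [Finite G] [IsSimpleGroup G]
    (hG : ¬ IsMulCommutative G) (H : Subgroup G) (hH : H ≠ ⊤) :
    2 * Nat.card G ∣ (H.index).factorial := by
  classical
  have : Fintype (G ⧸ H) := Fintype.ofFinite _
  have hcard : Fintype.card (G ⧸ H) = H.index := by
    rw [Subgroup.index, Nat.card_eq_fintype_card]
  let φ : G →* Equiv.Perm (G ⧸ H) := MulAction.toPermHom G (G ⧸ H)
  have hφker : φ.ker = ⊥ := by
    rcases (φ.normal_ker).eq_bot_or_eq_top with h | h
    · exact h
    · exfalso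
      apply hH
      have h1 : φ.ker = H.normalCore := (Subgroup.normalCore_eq_ker H).symm
      have h2 : H.normalCore ≤ H := Subgroup.normalCore_le H
      rw [← h1, h] at h2
      exact top_le_iff.mp h2
  have hφinj : Function.Injective φ := (MonoidHom.ker_eq_bot_iff φ).mp hφker
  let s : G →* ℤˣ := Equiv.Perm.sign.comp φ
  have hsker : s.ker = ⊤ := by
    rcases (s.normal_ker).eq_bot_or_eq_top with h | h
    · exfalso
      apply hG
      have hsinj : Function.Injective s := (MonoidHom.ker_eq_bot_iff s).mp h
      refine ⟨⟨fun a b => ?_⟩⟩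
      apply hsinj
      rw [map_mul, map_mul, mul_comm]
    · exact h
  have hmem : ∀ g : G, φ g ∈ alternatingGroup (G ⧸ H) := by
    intro g
    rw [Equiv.Perm.mem_alternatingGroup]
    have : g ∈ s.ker := by rw [hsker]; trivial
    exact this
  have hinj : Function.Injective (φ.codRestrict _ hmem) := by
    intro a b hab
    apply hφinj
    have := congrArg Subtype.val hab
    simpa using this
  have hdvd := Subgroup.card_dvd_of_injective _ hinj
  have hnt : Nontrivial (G ⧸ H) := by
    rw [← Fintype.one_lt_card_iff_nontrivial, hcard]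
    have h0 : H.index ≠ 0 := Subgroup.index_ne_zero_of_finite
    have h1 : H.index ≠ 1 := fun h => hH (Subgroup.index_eq_one.mp h)
    omega
  have h2 := two_mul_card_alternatingGroup (α := G ⧸ H)
  rw [Fintype.card_perm, hcard] at h2
  rw [← h2, ← Nat.card_eq_fintype_card]
  exact Nat.mul_dvd_mul_left 2 hdvd


theorem prime_card_of_comm {G : Type*} [inst : Group G] [Finite G] [IsSimpleGroup G]
    (hc : IsMulCommutative G) : (Nat.card G).Prime := by
  let _ : CommGroup G := { inst with mul_comm := hc.is_comm.comm }
  exact IsSimpleGroup.prime_card (α := G)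

theorem not_comm_of_not_prime {G : Type*} [Group G] [Finite G] [IsSimpleGroup G]
    (h : ¬ (Nat.card G).Prime) : ¬ IsMulCommutative G := fun hc => h (prime_card_of_comm hc)


/-- An automorphism of prime order `s` has a proper fixed subgroup `F` with `|H| ≡ |F| mod s`. -/
theorem exists_fixed_subgroup {H : Type*} [Group H] [Finite H] (α : MulAut H) {s : ℕ}
    [Fact s.Prime] (hα : orderOf α = s) :
    ∃ F : Subgroup H, F ≠ ⊤ ∧ Nat.card H ≡ Nat.card F [MOD s] := by
  let F : Subgroup H := MonoidHom.eqLocus α.toMonoidHom (MonoidHom.id H)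
  have hmemF : ∀ x : H, x ∈ F ↔ α x = x := fun x => Iff.rfl
  refine ⟨F, ?_, ?_⟩
  · intro h
    have h1 : α = 1 := by
      ext x
      have : x ∈ F := by rw [h]; trivial
      exact this
    rw [h1, orderOf_one] at hα
    exact (Fact.out : s.Prime).one_lt.ne hα
  · have hp : IsPGroup s (zpowers α) := by
      apply IsPGroup.of_card (n := 1)
      rw [Nat.card_zpowers, hα, pow_one]
    have h1 := hp.card_modEq_card_fixedPoints H
    have h2 : (MulAction.fixedPoints (zpowers α) H) = (F : Set H) := by
      ext x
      rw [MulAction.mem_fixedPoints, SetLike.mem_coe, hmemF]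
      constructor
      · intro h
        exact h ⟨α, mem_zpowers α⟩
      · intro h g
        have hle : zpowers α ≤ MulAction.stabilizer (MulAut H) x := by
          rw [zpowers_le]
          exact h
        exact hle g.2
    rw [h2] at h1
    exact h1

theorem normalizer_le_centralizer_of_card_eq {G : Type*} [Group G] [Finite G] (H : Subgroup G)
    (hc : IsMulCommutative H) (h : Nat.card (normalizer (H : Set G)) = Nat.card H) :
    normalizer (H : Set G) ≤ centralizer (H : Set G) := by
  have h1 : H = normalizer (H : Set G) := eq_of_le_of_card_ge le_normalizer h.le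
  rw [← h1]
  exact H.le_centralizer

/-- If `P` is a Sylow `ℓ`-subgroup of order `ℓ ^ 2` of a nonabelian simple group then some prime
`s ≠ ℓ` dividing the index of `P` divides `ℓ ^ 2 - 1` or `ℓ - 1`. -/
theorem exists_prime_of_sylow_sq {G : Type*} [Group G] [Finite G] [IsSimpleGroup G]
    (hG : ¬ IsMulCommutative G) {l : ℕ} [Fact l.Prime] (P : Sylow l G)
    (hP : Nat.card (P : Subgroup G) = l ^ 2) :
    ∃ s : ℕ, s.Prime ∧ s ∣ (P : Subgroup G).index ∧ (l ^ 2 ≡ 1 [MOD s] ∨ l ^ 2 ≡ l [MOD s]) := by
  have hl : l.Prime := Fact.out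
  have hcomm : IsMulCommutative (P : Subgroup G) := IsPGroup.isMulCommutative_of_card_eq_prime_sq hP
  have hdvd : l ∣ Nat.card G :=
    (Dvd.intro_left (l ^ 1) (by rw [hP]; ring)).trans (card_subgroup_dvd_card (P : Subgroup G))
  have hne : (centralizer ((P : Subgroup G) : Set G)).relIndex
      (normalizer ((P : Subgroup G) : Set G)) ≠ 1 := by
    intro h
    rw [relIndex_eq_one] at h
    exact not_normalizer_le_centralizer hG P hdvd h
  obtain ⟨s, hs, hsd⟩ := Nat.exists_prime_and_dvd hne
  have : Fact s.Prime := ⟨hs⟩
  have h1 := relIndex_dvd_of_le_left (normalizer ((P : Subgroup G) : Set G))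
    (P : Subgroup G).le_centralizer
  have h2 : (P : Subgroup G).relIndex (normalizer ((P : Subgroup G) : Set G)) ∣
      (P : Subgroup G).index := relIndex_dvd_index_of_le le_normalizer
  refine ⟨s, hs, hsd.trans (h1.trans h2), ?_⟩
  have h3 : (centralizer ((P : Subgroup G) : Set G)).relIndex
      (normalizer ((P : Subgroup G) : Set G))
      = Nat.card (P : Subgroup G).normalizerMonoidHom.range := by
    rw [← Subgroup.index_ker, normalizerMonoidHom_ker, relIndex]
  rw [h3] at hsd
  obtain ⟨a, ha⟩ := exists_prime_orderOf_dvd_card' s hsd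
  have ha' : orderOf (a : MulAut (P : Subgroup G)) = s := by
    rw [← ha]; exact Subgroup.orderOf_coe a
  obtain ⟨F, hF, hmod⟩ := exists_fixed_subgroup (a : MulAut (P : Subgroup G)) ha'
  rw [hP] at hmod
  have hFd : Nat.card F ∣ l ^ 2 := hP ▸ card_subgroup_dvd_card F
  obtain ⟨j, hj, hFj⟩ := (Nat.dvd_prime_pow hl).mp hFd
  have hj2 : j ≠ 2 := by
    rintro rfl
    apply hF
    exact eq_top_of_card_eq F (hFj.trans hP.symm)
  interval_cases j
  · left; simpa [hFj] using hmod
  · right; simpa [hFj] using hmod
  · exact absurd rfl hj2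

end Cfsg.Agent.Lib.Helper21Simple
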