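import Mathlib
import Cfsg.Agent.Lib.Helper21Simple

set_option autoImplicit false

/-! Project 496, order 720, piece `A` (basic facts; helper66). -/

namespace Cfsg.Agent.Lib.H66Sv720A

open Subgroup

variable {G : Type*} [Group G] [Finite G] [IsSimpleGroup G]

theorem not_comm (h : Nat.card G = 720) : ¬ IsMulCommutative G :=
  Cfsg.Agent.Lib.Helper21Simple.not_comm_of_not_prime (by rw [h]; norm_num)

/-- `2 * 720 ∣ (index)!` forces index `≥ 8`. -/
theorem card_le (h : Nat.card G = 720) (H : Subgroup G) (hH : H ≠ ⊤) : Nat.card H ≤ 90 := by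
  have h1 := Cfsg.Agent.Lib.Helper21Simple.two_mul_card_dvd_factorial (not_comm h) H hH
  rw [h] at h1
  have h8 : 8 ≤ H.index := by
    by_contra hlt
    have h2 : (H.index).factorial ∣ (7 : ℕ).factorial := Nat.factorial_dvd_factorial (by omega)
    have h3 : 2 * 720 ∣ (7 : ℕ).factorial := h1.trans h2
    revert h3
    decide
  have h3 := H.card_mul_index
  rw [h] at h3
  nlinarith

theorem normalizer_ne_top (D : Subgroup G) (h1 : D ≠ ⊥) (h2 : D ≠ ⊤) :
    normalizer (D : Set G) ≠ ⊤ := by
  intro h3
  have hn : D.Normal := Subgroup.normalizer_eq_top_iff.mp h3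
  rcases hn.eq_bot_or_eq_top with h4 | h4
  · exact h1 h4
  · exact h2 h4

theorem center_eq_bot (h : Nat.card G = 720) : center G = ⊥ := by
  rcases (inferInstance : (center G).Normal).eq_bot_or_eq_top with h4 | h4
  · exact h4
  · exfalso
    apply not_comm h
    refine ⟨⟨fun a b => ?_⟩⟩
    have : a ∈ center G := by rw [h4]; exact mem_top a
    exact ((mem_center_iff.mp this) b).symm

theorem centralizer_singleton_ne_top (h : Nat.card G = 720) (z : G) (h1 : z ≠ 1) :
    centralizer ({z} : Set G) ≠ ⊤ := by
  intro h3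
  apply h1
  have : z ∈ center G := by
    rw [mem_center_iff]
    intro g
    have hg : g ∈ centralizer ({z} : Set G) := by rw [h3]; exact mem_top g
    exact (mem_centralizer_singleton_iff.mp hg)
  rw [center_eq_bot h] at this
  exact mem_bot.mp this

theorem centralizer_ne_top (h : Nat.card G = 720) (D : Subgroup G) (h1 : D ≠ ⊥) :
    centralizer (D : Set G) ≠ ⊤ := by
  intro h3
  apply h1
  rw [eq_bot_iff]
  intro z hz
  have : z ∈ center G := by
    rw [mem_center_iff]
    intro g
    have hg : g ∈ centralizer (D : Set G) := by rw [h3]; exact mem_top g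
    exact ((mem_centralizer_iff.mp hg) z hz).symm
  rwa [center_eq_bot h] at this

theorem card_sylow_three (h : Nat.card G = 720) (P : Sylow 3 G) :
    Nat.card (P : Subgroup G) = 9 := by
  have : Fact (Nat.Prime 3) := ⟨by norm_num⟩
  have := (Cfsg.Agent.Lib.Helper21Simple.sylow_card_index (p := 3) (a := 2) (m := 80)
    (by rw [h]; norm_num) (by norm_num) P).1
  simpa using this

end Cfsg.Agent.Lib.H66Sv720A
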