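import Mathlib

set_option autoImplicit false

/-! Project 496, order 720, piece `F1` (90m, 2-groups). -/

namespace Cfsg.Agent.Lib.H66Sv720F1

open Subgroup

/-- NO SIMPLICITY NEEDED.  `S₁ ≥ T` of order 8, `S₂ ≥ S₁` of order 16.  Index 2 gives `S₁ ≤ N(T)` and `S₂ ≤ N(S₁)`.
Pick `s ∈ S₂ \ S₁`; `T' = s T s⁻¹`; `A = T ⊓ T'` has order 2 and is normalised by `S₂`. -/
theorem exists_z {G : Type*} [Group G] [Finite G] (h : Nat.card G = 720) (T : Subgroup G)
    (hT : Nat.card T = 4) (hN : Nat.card (normalizer (T : Set G)) = 72) :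
    ∃ (S₁ S₂ : Subgroup G) (z : G), Nat.card S₁ = 8 ∧ Nat.card S₂ = 16 ∧ T ≤ S₁ ∧
      S₁ ≤ normalizer (T : Set G) ∧ S₁ ≤ S₂ ∧ z ∈ T ∧ z ≠ 1 ∧
      S₂ ≤ centralizer ({z} : Set G) := by
  classical
  have : Fact (Nat.Prime 2) := ⟨by norm_num⟩
  obtain ⟨S₁, hS₁, hTS₁⟩ := Sylow.exists_subgroup_card_pow_succ (p := 2) (n := 2)
    (by rw [h]; norm_num) (H := T) (by rw [hT]; norm_num)
  obtain ⟨S₂, hS₂, hS₁₂⟩ := Sylow.exists_subgroup_card_pow_succ (p := 2) (n := 3)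
    (by rw [h]; norm_num) (H := S₁) hS₁
  have hS₁' : Nat.card S₁ = 8 := by rw [hS₁]; norm_num
  have hS₂' : Nat.card S₂ = 16 := by rw [hS₂]; norm_num
  have hcr : ∀ H K : Subgroup G, H ≤ K → Nat.card H * H.relIndex K = Nat.card K := by
    intro H K hHK
    have := Subgroup.relIndex_mul_relIndex ⊥ H K bot_le hHK
    rwa [Subgroup.relIndex_bot_left, Subgroup.relIndex_bot_left] at this
  have hr1 : T.relIndex S₁ = 2 := by
    have := hcr T S₁ hTS₁
    rw [hT, hS₁'] at this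
    omega
  have hr2 : S₁.relIndex S₂ = 2 := by
    have := hcr S₁ S₂ hS₁₂
    rw [hS₂', hS₁'] at this
    omega
  have hn1 : S₁ ≤ normalizer (T : Set G) := by
    rw [← Subgroup.normal_subgroupOf_iff_le_normalizer hTS₁]
    exact Subgroup.normal_of_index_eq_two hr1
  have hn2 : S₂ ≤ normalizer (S₁ : Set G) := by
    rw [← Subgroup.normal_subgroupOf_iff_le_normalizer hS₁₂]
    exact Subgroup.normal_of_index_eq_two hr2
  have hmul : ∀ a ∈ S₂, ∀ b ∈ S₂, (a * b ∈ S₁ ↔ (a ∈ S₁ ↔ b ∈ S₁)) := by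
    intro a ha b hb
    exact Subgroup.mul_mem_iff_of_index_two (H := S₁.subgroupOf S₂) hr2 (a := ⟨a, ha⟩)
      (b := ⟨b, hb⟩)
  obtain ⟨s, hs2, hs1⟩ : ∃ s ∈ S₂, s ∉ S₁ := by
    by_contra hcon
    push Not at hcon
    have := Subgroup.card_le_of_le (show S₂ ≤ S₁ from hcon)
    omega
  have hsi2 : s⁻¹ ∈ S₂ := S₂.inv_mem hs2
  have hsi1 : s⁻¹ ∉ S₁ := fun h0 => hs1 (by simpa using S₁.inv_mem h0)
  set T' : Subgroup G := T.map (MulAut.conj s).toMonoidHom with hT'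
  have hmem : ∀ x, x ∈ T' ↔ s⁻¹ * x * s ∈ T := by
    intro x
    rw [hT', Subgroup.mem_map_equiv]
    simp [MulAut.conj_symm_apply]
  have hcT' : Nat.card T' = 4 := by
    rw [hT', Subgroup.card_map_of_injective (MulAut.conj s).injective, hT]
  have hTc : ∀ g ∈ S₁, ∀ x ∈ T, g * x * g⁻¹ ∈ T := fun g hg x hx =>
    (Subgroup.mem_normalizer_iff.1 (hn1 hg) x).1 hx
  have hT'S₁ : T' ≤ S₁ := by
    intro x hx
    have h1 := hTS₁ ((hmem x).1 hx)
    have h2 := (Subgroup.mem_normalizer_iff.1 (hn2 hs2) _).1 h1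
    simpa [mul_assoc] using h2
  have hr1' : T'.relIndex S₁ = 2 := by
    have := hcr T' S₁ hT'S₁
    rw [hcT', hS₁'] at this
    omega
  set A : Subgroup G := T ⊓ T' with hA
  have hA1 : 2 ≤ Nat.card A := by
    have h1 : A.relIndex S₁ ≤ T.relIndex S₁ * T'.relIndex S₁ := Subgroup.relIndex_inf_le
    rw [hr1, hr1'] at h1
    have h2 := hcr A S₁ (inf_le_left.trans hTS₁)
    rw [hS₁'] at h2
    nlinarith
  have hA2 : Nat.card A ∣ 4 := by
    rw [← hT]
    exact Subgroup.card_dvd_of_le inf_le_left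
  have hA3 : Nat.card A ≠ 4 := by
    intro h4
    have h5 : A = T := Subgroup.eq_of_le_of_card_ge inf_le_left (by rw [h4, hT])
    have h6 : T ≤ T' := by rw [← h5]; exact inf_le_right
    have h7 : T = T' := Subgroup.eq_of_le_of_card_ge h6 (by rw [hcT', hT])
    have h8 : s⁻¹ ∈ normalizer (T : Set G) := by
      rw [Subgroup.mem_normalizer_iff]
      intro x
      rw [inv_inv, ← hmem, ← h7]
    have h9 : s ∈ normalizer (T : Set G) := by simpa using (normalizer (T : Set G)).inv_mem h8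
    have h10 : S₂ ≤ normalizer (T : Set G) := by
      intro g hg
      by_cases hg1 : g ∈ S₁
      · exact hn1 hg1
      · have h11 : s⁻¹ * g ∈ S₁ := (hmul _ hsi2 _ hg).2 ⟨fun h0 => absurd h0 hsi1, fun h0 => absurd h0 hg1⟩
        have h12 := (normalizer (T : Set G)).mul_mem h9 (hn1 h11)
        simpa using h12
    have h11 := Subgroup.card_dvd_of_le h10
    rw [hS₂', hN] at h11
    revert h11
    decide
  have hA4 : Nat.card A = 2 := by
    have h1 : Nat.card A ≤ 4 := Nat.le_of_dvd (by norm_num) hA2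
    interval_cases hh : Nat.card A
    · rfl
    · revert hA2; decide
    · exact absurd rfl hA3
  obtain ⟨z, hz1, hz2⟩ := (Nat.card_eq_two_iff' (1 : A)).1 hA4
  have hAc : ∀ g ∈ S₂, ∀ x ∈ A, g * x * g⁻¹ ∈ A := by
    intro g hg x hx
    rw [hA, Subgroup.mem_inf] at hx
    obtain ⟨hx1, hx2⟩ := hx
    rw [hmem] at hx2
    rw [hA, Subgroup.mem_inf, hmem]
    by_cases hg1 : g ∈ S₁
    · refine ⟨hTc g hg1 x hx1, ?_⟩
      have h1 : s⁻¹ * g * s ∈ S₁ := by
        have := (Subgroup.mem_normalizer_iff.1 (hn2 hsi2) _).1 hg1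
        simpa using this
      have h2 := hTc _ h1 _ hx2
      have h3 : s⁻¹ * g * s * (s⁻¹ * x * s) * (s⁻¹ * g * s)⁻¹ = s⁻¹ * (g * x * g⁻¹) * s := by
        group
      rwa [h3] at h2
    · constructor
      · have h1 : g * s ∈ S₁ := (hmul _ hg _ hs2).2 ⟨fun h0 => absurd h0 hg1, fun h0 => absurd h0 hs1⟩
        have h2 := hTc _ h1 _ hx2
        have h3 : g * s * (s⁻¹ * x * s) * (g * s)⁻¹ = g * x * g⁻¹ := by group
        rwa [h3] at h2
      · have h1 : s⁻¹ * g ∈ S₁ := (hmul _ hsi2 _ hg).2 ⟨fun h0 => absurd h0 hsi1, fun h0 => absurd h0 hg1⟩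
        have h2 := hTc _ h1 _ hx1
        have h3 : s⁻¹ * g * x * (s⁻¹ * g)⁻¹ = s⁻¹ * (g * x * g⁻¹) * s := by group
        rwa [h3] at h2
  have hz0 : (z : G) ≠ 1 := fun h0 => hz1 (Subtype.ext h0)
  refine ⟨S₁, S₂, z, hS₁', hS₂', hTS₁, hn1, hS₁₂, (Subgroup.mem_inf.1 z.2).1, hz0, ?_⟩
  intro g hg
  rw [Subgroup.mem_centralizer_singleton_iff]
  have h1 := hAc g hg z z.2
  have h2 := hz2 ⟨_, h1⟩ (by
    intro h0
    have h3 : g * (z : G) * g⁻¹ = 1 := congrArg Subtype.val h0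
    apply hz0
    have h4 : (z : G) = g⁻¹ * (g * (z : G) * g⁻¹) * g := by group
    rw [h4, h3]; group)
  have h3 : g * (z : G) * g⁻¹ = z := congrArg Subtype.val h2
  calc g * (z : G) = g * z * g⁻¹ * g := by group
    _ = z * g := by rw [h3]

end Cfsg.Agent.Lib.H66Sv720F1
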