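import Mathlib
import Cfsg.Agent.Lib.H26SvBig
set_option autoImplicit false
namespace Cfsg.Agent.Lib.H66SvN264
theorem not_simple {G : Type*} [Group G] [Finite G] [IsSimpleGroup G] : Nat.card G ≠ 264 := by
  intro h
  exact Cfsg.Agent.Lib.H26SvBig.false_of_big_prime 264 11 h (by norm_num) (by norm_num) (by norm_num)
    (by norm_num) (by norm_num) (by norm_num) (by norm_num) (by norm_num)
end Cfsg.Agent.Lib.H66SvN264
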