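import Mathlib
import Cfsg.Agent.Lib.Helper43StDefs
import Cfsg.Agent.Lib.Helper43GlDefs

/-!
# Project 3351 (CA): Curtis-Tits for `SL_N(F)` (type `A`), by induction on `N`.  Vocabulary.

`x : ℕ → ℕ → F → P` is a family of "root elements" `x i j t` of a group `P`.
`Rz x m ι` : the root elements with indices `ι 0, …, ι (m-1)` are the images of the transvections of `SL_m(F)`
under ONE homomorphism `SL_m(F) → P`  (`tv a b t = 1 + t E_ab`, `Helper43St.tv`).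
-/

set_option autoImplicit false

namespace Cfsg.Agent.Lib.H67CADefs

open Matrix Cfsg.Agent.Lib.Helper43St Cfsg.Agent.Lib.Helper43Gl

variable {F : Type*} [Field F] {P : Type*} [Group P]

/-- the root elements with indices in `ι` are realized by a homomorphism from `SL_m(F)` -/
def Rz (x : ℕ → ℕ → F → P) (m : ℕ) (ι : Fin m → ℕ) : Prop :=
  ∃ Ψ : SpecialLinearGroup (Fin m) F →* P, ∀ a b t, a ≠ b → Ψ (tv a b t) = x (ι a) (ι b) t

/-- `w_{ij}(a)` -/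
def Wx (x : ℕ → ℕ → F → P) (i j : ℕ) (a : F) : P := x i j a * x j i (-a⁻¹) * x i j a

/-- `h_{ij}(a)` -/
def Hx (x : ℕ → ℕ → F → P) (i j : ℕ) (a : F) : P := Wx x i j a * (Wx x i j 1)⁻¹

/-- the "permutation matrix" of the 3-cycle `i → j → k → i` -/
def Gx (x : ℕ → ℕ → F → P) (i j k : ℕ) : P := Wx x i j 1 * Wx x j k 1 * Hx x i j (-1)

/-- the 3-cycle `M+1 → M+2 → M+3 → M+1` of `ℕ` -/
def sig (M : ℕ) (i : ℕ) : ℕ :=
  if i = M + 1 then M + 2 else if i = M + 2 then M + 3 else if i = M + 3 then M + 1 else i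

/-- the 3-cycle `a → b → c → a` of `Fin n` -/
def cyc {n : ℕ} (a b c i : Fin n) : Fin n :=
  if i = a then b else if i = b then c else if i = c then a else i

/-- fundamental root elements of non-adjacent nodes `i`, `j` (`i + 1 < j`, indices `< N`) commute -/
def Far (x : ℕ → ℕ → F → P) (N : ℕ) : Prop :=
  ∀ i j, i + 1 < j → j + 1 < N → ∀ s t,
    Commute (x i (i + 1) s) (x j (j + 1) t) ∧ Commute (x i (i + 1) s) (x (j + 1) j t) ∧
    Commute (x (i + 1) i s) (x j (j + 1) t) ∧ Commute (x (i + 1) i s) (x (j + 1) j t)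

/-- adjacent nodes `i`, `i+1` span an image of `SL_3(F)` -/
def Adj3 (x : ℕ → ℕ → F → P) (N : ℕ) : Prop :=
  ∀ i, i + 2 < N → ∃ Φ : SpecialLinearGroup (Fin 3) F →* P,
    (∀ t, Φ (tv 0 1 t) = x i (i + 1) t) ∧ (∀ t, Φ (tv 1 0 t) = x (i + 1) i t) ∧
    (∀ t, Φ (tv 1 2 t) = x (i + 1) (i + 2) t) ∧ (∀ t, Φ (tv 2 1 t) = x (i + 2) (i + 1) t)

/-- the commutator `a b a⁻¹ b⁻¹` -/
def cm (a b : P) : P := a * b * a⁻¹ * b⁻¹

/-- hypotheses of the induction step `SL_{M+3} → SL_{M+4}`; indices `0, …, M+3` -/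
structure StepHyp (x : ℕ → ℕ → F → P) (M : ℕ) : Prop where
  hA : Rz x (M + 3) (fun a => a.val)
  hB : Rz x (M + 3) (fun a => a.val + 1)
  hu : ∀ t, x 0 (M + 3) t = cm (x 0 (M + 2) t) (x (M + 2) (M + 3) 1)
  hl : ∀ t, x (M + 3) 0 t = cm (x (M + 3) (M + 2) 1) (x (M + 2) 0 t)
  far : Far x (M + 4)

/-- hypotheses of the Curtis-Tits theorem; indices `0, …, N-1` -/
structure CTHyp (x : ℕ → ℕ → F → P) (N : ℕ) : Prop where
  recu : ∀ i j, i < j → j + 1 < N → ∀ t, x i (j + 1) t = cm (x i j t) (x j (j + 1) 1)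
  recl : ∀ i j, i < j → j + 1 < N → ∀ t, x (j + 1) i t = cm (x (j + 1) j 1) (x j i t)
  adj : Adj3 x N
  far : Far x N

/-- the element of the step -/
def gg (x : ℕ → ℕ → F → P) (M : ℕ) : P := Gx x (M + 1) (M + 2) (M + 3)

section transport

variable {x : ℕ → ℕ → F → P} {m : ℕ} {ι : Fin m → ℕ}
  (Ψ : SpecialLinearGroup (Fin m) F →* P) (hΨ : ∀ a b t, a ≠ b → Ψ (tv a b t) = x (ι a) (ι b) t)

include hΨ

theorem map_wv (a b : Fin m) (hab : a ≠ b) (c : F) : Ψ (wv a b c) = Wx x (ι a) (ι b) c := by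
  unfold wv Wx
  rw [map_mul, map_mul, hΨ a b _ hab, hΨ b a _ hab.symm]

theorem map_hv (a b : Fin m) (hab : a ≠ b) (c : F) : Ψ (hv a b c) = Hx x (ι a) (ι b) c := by
  unfold hv Hx
  rw [map_mul, map_inv, map_wv Ψ hΨ a b hab, map_wv Ψ hΨ a b hab]

theorem map_p3 (a b c : Fin m) (hab : a ≠ b) (hbc : b ≠ c) :
    Ψ (p3 F a b c) = Gx x (ι a) (ι b) (ι c) := by
  unfold p3 Gx
  rw [map_mul, map_mul, map_wv Ψ hΨ a b hab, map_wv Ψ hΨ b c hbc, map_hv Ψ hΨ a b hab]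

end transport

theorem rz_conj {x : ℕ → ℕ → F → P} {m : ℕ} {ι ι' : Fin m → ℕ} (h : Rz x m ι) (g : P)
    (hg : ∀ a b t, a ≠ b → g * x (ι a) (ι b) t * g⁻¹ = x (ι' a) (ι' b) t) : Rz x m ι' := by
  obtain ⟨Ψ, hΨ⟩ := h
  refine ⟨(MulAut.conj g).toMonoidHom.comp Ψ, fun a b t hab => ?_⟩
  rw [MonoidHom.comp_apply, hΨ a b t hab]
  exact hg a b t hab

theorem sig_le (M i : ℕ) (hi : i ≤ M + 3) : sig M i ≤ M + 3 := by
  unfold sig
  split_ifs <;> omega

theorem sig_inj (M : ℕ) : Function.Injective (sig M) := by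
  intro i j h
  unfold sig at h
  split_ifs at h <;> omega

end Cfsg.Agent.Lib.H67CADefs
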