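import Mathlib
import Cfsg.Agent.Lib.H67CADefs
import Cfsg.Agent.Lib.Helper15BPPm

/-! Project 3351 (CA), piece `TvRel`.
PURE MATRICES: the Steinberg relations of the transvections `tv i j t = 1 + t E_ij` of `SL_n(F)` (any `n`).
`Subtype.ext`, `tv_val`, `Matrix.single_mul_single_of_ne`, `Matrix.single_mul_single_same`, `tv_inv : (tv i j t)⁻¹ = tv i j (-t)`; or columnwise with `Helper15BPPm.ext_e, mul_e, tv_e`
(`A = B` iff `A e_k = B e_k` for all `k`).   `cm a b = a * b * a⁻¹ * b⁻¹`.
`tv_cm`: `(1+sE_ij)(1+tE_jk)(1-sE_ij)(1-tE_jk) = 1 + st E_ik`.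
-/

set_option autoImplicit false

namespace Cfsg.Agent.Lib.H67CATvRel

open Matrix Cfsg.Agent.Lib.Helper43St Cfsg.Agent.Lib.Helper43Gl Cfsg.Agent.Lib.H67CADefs

variable {n : ℕ} {F : Type*} [Field F]

theorem tv_comm (i j k l : Fin n) (hij : i ≠ j) (hkl : k ≠ l) (hjk : j ≠ k) (hil : i ≠ l) (s t : F) :
    Commute (tv i j s : SpecialLinearGroup (Fin n) F) (tv k l t) := by
  apply Subtype.ext
  show (tv i j s : SpecialLinearGroup (Fin n) F).1 * (tv k l t : SpecialLinearGroup (Fin n) F).1
    = (tv k l t : SpecialLinearGroup (Fin n) F).1 * (tv i j s : SpecialLinearGroup (Fin n) F).1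
  have e1 : (tv i j s : SpecialLinearGroup (Fin n) F).1 = 1 + Matrix.single i j s := tv_val i j hij s
  have e2 : (tv k l t : SpecialLinearGroup (Fin n) F).1 = 1 + Matrix.single k l t := tv_val k l hkl t
  have h1 : Matrix.single i j s * Matrix.single k l t = (0 : Matrix (Fin n) (Fin n) F) :=
    Matrix.single_mul_single_of_ne _ _ _ _ hjk _
  have h2 : Matrix.single k l t * Matrix.single i j s = (0 : Matrix (Fin n) (Fin n) F) :=
    Matrix.single_mul_single_of_ne _ _ _ _ hil.symm _
  rw [e1, e2]
  calc (1 + Matrix.single i j s) * (1 + Matrix.single k l t)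
      = 1 + Matrix.single i j s + Matrix.single k l t + Matrix.single i j s * Matrix.single k l t := by
        noncomm_ring
    _ = 1 + Matrix.single k l t + Matrix.single i j s + Matrix.single k l t * Matrix.single i j s := by
        rw [h1, h2]; abel
    _ = _ := by noncomm_ring

theorem tv_cm (i j k : Fin n) (hij : i ≠ j) (hjk : j ≠ k) (hik : i ≠ k) (s t : F) :
    cm (tv i j s : SpecialLinearGroup (Fin n) F) (tv j k t) = tv i k (s * t) := by
  unfold cm
  rw [mul_inv_eq_iff_eq_mul, mul_inv_eq_iff_eq_mul]
  apply Subtype.ext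
  show (tv i j s : SpecialLinearGroup (Fin n) F).1 * (tv j k t : SpecialLinearGroup (Fin n) F).1
    = (tv i k (s * t) : SpecialLinearGroup (Fin n) F).1 * (tv j k t : SpecialLinearGroup (Fin n) F).1
      * (tv i j s : SpecialLinearGroup (Fin n) F).1
  have e1 : (tv i j s : SpecialLinearGroup (Fin n) F).1 = 1 + Matrix.single i j s := tv_val i j hij s
  have e2 : (tv j k t : SpecialLinearGroup (Fin n) F).1 = 1 + Matrix.single j k t := tv_val j k hjk t
  have e3 : (tv i k (s * t) : SpecialLinearGroup (Fin n) F).1 = 1 + Matrix.single i k (s * t) :=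
    tv_val i k hik (s * t)
  have h1 : Matrix.single i j s * Matrix.single j k t = (Matrix.single i k (s * t) : Matrix (Fin n) (Fin n) F) :=
    Matrix.single_mul_single_same _ _ _ _ _
  have h2 : Matrix.single j k t * Matrix.single i j s = (0 : Matrix (Fin n) (Fin n) F) :=
    Matrix.single_mul_single_of_ne _ _ _ _ hik.symm _
  have h3 : Matrix.single i k (s * t) * Matrix.single j k t = (0 : Matrix (Fin n) (Fin n) F) :=
    Matrix.single_mul_single_of_ne _ _ _ _ hjk.symm _
  have h4 : Matrix.single i k (s * t) * Matrix.single i j s = (0 : Matrix (Fin n) (Fin n) F) :=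
    Matrix.single_mul_single_of_ne _ _ _ _ hik.symm _
  rw [e1, e2, e3]
  calc (1 + Matrix.single i j s) * (1 + Matrix.single j k t)
      = 1 + Matrix.single i j s + Matrix.single j k t + Matrix.single i j s * Matrix.single j k t := by
        noncomm_ring
    _ = 1 + Matrix.single j k t + Matrix.single i j s + Matrix.single j k t * Matrix.single i j s
        + Matrix.single i k (s * t) + Matrix.single i k (s * t) * Matrix.single j k t
        + Matrix.single i k (s * t) * Matrix.single i j s
        + Matrix.single i k (s * t) * Matrix.single j k t * Matrix.single i j s := by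
        rw [h1, h2, h3, h4]; simp; abel
    _ = _ := by noncomm_ring

end Cfsg.Agent.Lib.H67CATvRel
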