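import Mathlib
import Cfsg.Agent.Lib.H67CADefs
import Cfsg.Agent.Lib.H67CATvRel

/-! Project 3351 (CA), piece `Base`: three consecutive indices. -/

set_option autoImplicit false

namespace Cfsg.Agent.Lib.H67CABase

open Matrix Cfsg.Agent.Lib.Helper43St Cfsg.Agent.Lib.Helper43Gl Cfsg.Agent.Lib.H67CADefs

variable {F : Type*} [Field F] {P : Type*} [Group P]

theorem base3 {x : ℕ → ℕ → F → P} {N : ℕ} (h : CTHyp x N) (s : ℕ) (hs : s + 3 ≤ N) :
    Rz x 3 (fun a => s + a.val) := by
  obtain ⟨Φ, h1, h2, h3, h4⟩ := h.adj s (by omega)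
  have hcm : ∀ u v : SpecialLinearGroup (Fin 3) F, Φ (cm u v) = cm (Φ u) (Φ v) := by
    intro u v
    unfold cm
    simp [map_mul, map_inv]
  refine ⟨Φ, fun a b t hab => ?_⟩
  fin_cases a <;> fin_cases b
  · exact absurd rfl hab
  · exact h1 t
  · show Φ (tv 0 2 t) = x (s + 0) (s + 2) t
    have e := Cfsg.Agent.Lib.H67CATvRel.tv_cm (F := F) (0 : Fin 3) 1 2 (by decide) (by decide)
      (by decide) t 1
    rw [mul_one] at e
    rw [← e, hcm, h1, h3]
    exact (h.recu s (s + 1) (by omega) (by omega) t).symm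
  · exact h2 t
  · exact absurd rfl hab
  · exact h3 t
  · show Φ (tv 2 0 t) = x (s + 2) (s + 0) t
    have e := Cfsg.Agent.Lib.H67CATvRel.tv_cm (F := F) (2 : Fin 3) 1 0 (by decide) (by decide)
      (by decide) 1 t
    rw [one_mul] at e
    rw [← e, hcm, h4, h2]
    exact (h.recl s (s + 1) (by omega) (by omega) t).symm
  · exact h4 t
  · exact absurd rfl hab

end Cfsg.Agent.Lib.H67CABase
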