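import Mathlib
import Cfsg.Agent.Lib.H67CADefs
import Cfsg.Agent.Lib.H67CATvRel

/-! Project 3351 (CA), piece `DisA`.
Four distinct indices which are realized: the root elements commute.  `obtain ⟨Ψ, hΨ⟩ := h`; `x (T 0) (T 1) s = Ψ (tv 0 1 s)`, `x (T 2) (T 3) t = Ψ (tv 2 3 t)`; `(H67CATvRel.tv_comm 0 1 2 3 … s t).map Ψ`.
-/

set_option autoImplicit false

namespace Cfsg.Agent.Lib.H67CADisA

open Matrix Cfsg.Agent.Lib.Helper43St Cfsg.Agent.Lib.Helper43Gl Cfsg.Agent.Lib.H67CADefs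

variable {F : Type*} [Field F] {P : Type*} [Group P]

theorem disA {x : ℕ → ℕ → F → P} (T : Fin 4 → ℕ) (h : Rz x 4 T) (s t : F) :
    Commute (x (T 0) (T 1) s) (x (T 2) (T 3) t) := by
  obtain ⟨Ψ, hΨ⟩ := h
  rw [← hΨ 0 1 s (by decide), ← hΨ 2 3 t (by decide)]
  exact (Cfsg.Agent.Lib.H67CATvRel.tv_comm 0 1 2 3 (by decide) (by decide) (by decide) (by decide)
    s t).map Ψ

end Cfsg.Agent.Lib.H67CADisA
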