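import Mathlib
import Cfsg.Agent.Lib.H67CADefs
import Cfsg.Agent.Lib.H67CADisA

/-! Project 3351 (CA), piece `Dis`.
Four pairwise distinct indices `i j k l ≤ M+3`.   `T = ![i, j, k, l]` is injective.  If `T` misses one of `0, M+1, M+2, M+3`: `hmiss` and `H67CADisA.disA T _ s t` (`T 0 = i` … by `rfl`/`simp`).
Otherwise `{i,j,k,l} = {0, M+1, M+2, M+3}` (each of the four values is one of `i j k l`; `omega` can do the bookkeeping after `rcases`): one of `i, j, k, l` is `0`.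
 `i = 0`: `(j,k,l)` is a permutation of `(M+1,M+2,M+3)`: `hB j k l` or `hB j l k` (first or second component);  `j = 0`: third/fourth component;  `k = 0` or `l = 0`: the same with `.symm`.
-/

set_option autoImplicit false

namespace Cfsg.Agent.Lib.H67CADis

open Matrix Cfsg.Agent.Lib.Helper43St Cfsg.Agent.Lib.Helper43Gl Cfsg.Agent.Lib.H67CADefs

variable {F : Type*} [Field F] {P : Type*} [Group P]

theorem dis {x : ℕ → ℕ → F → P} {M : ℕ}
    (hmiss : ∀ (T : Fin 4 → ℕ), Function.Injective T → (∀ a, T a ≤ M + 3) → ∀ v : ℕ,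
      (v = 0 ∨ v = M + 1 ∨ v = M + 2 ∨ v = M + 3) → (∀ a, T a ≠ v) → Rz x 4 T)
    (hB : ∀ p q r : ℕ, ((p = M + 1 ∧ q = M + 2 ∧ r = M + 3) ∨ (p = M + 2 ∧ q = M + 3 ∧ r = M + 1) ∨
      (p = M + 3 ∧ q = M + 1 ∧ r = M + 2)) → ∀ s t : F,
      Commute (x 0 p s) (x q r t) ∧ Commute (x 0 p s) (x r q t) ∧
      Commute (x p 0 s) (x q r t) ∧ Commute (x p 0 s) (x r q t))
    (i j k l : ℕ) (hi : i ≤ M + 3) (hj : j ≤ M + 3) (hk : k ≤ M + 3) (hl : l ≤ M + 3)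
    (hij : i ≠ j) (hkl : k ≠ l) (hik : i ≠ k) (hil : i ≠ l) (hjk : j ≠ k) (hjl : j ≠ l) (s t : F) :
    Commute (x i j s) (x k l t) := by
  have hB' : ∀ p q r : ℕ, M + 1 ≤ p → p ≤ M + 3 → M + 1 ≤ q → q ≤ M + 3 → M + 1 ≤ r → r ≤ M + 3 →
      p ≠ q → p ≠ r → q ≠ r → ∀ s t : F,
      Commute (x 0 p s) (x q r t) ∧ Commute (x p 0 s) (x q r t) := by
    intro p q r h1 h2 h3 h4 h5 h6 h7 h8 h9 s t
    have hp : p = M + 1 ∨ p = M + 2 ∨ p = M + 3 := by omega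
    have hq : q = M + 1 ∨ q = M + 2 ∨ q = M + 3 := by omega
    have hr : r = M + 1 ∨ r = M + 2 ∨ r = M + 3 := by omega
    rcases hp with rfl | rfl | rfl <;> rcases hq with rfl | rfl | rfl <;>
      rcases hr with rfl | rfl | rfl <;>
    first
      | exact absurd rfl h7
      | exact absurd rfl h8
      | exact absurd rfl h9
      | exact ⟨(hB _ _ _ (Or.inl ⟨rfl, rfl, rfl⟩) s t).1, (hB _ _ _ (Or.inl ⟨rfl, rfl, rfl⟩) s t).2.2.1⟩
      | exact ⟨(hB _ _ _ (Or.inr (Or.inl ⟨rfl, rfl, rfl⟩)) s t).1,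
          (hB _ _ _ (Or.inr (Or.inl ⟨rfl, rfl, rfl⟩)) s t).2.2.1⟩
      | exact ⟨(hB _ _ _ (Or.inr (Or.inr ⟨rfl, rfl, rfl⟩)) s t).1,
          (hB _ _ _ (Or.inr (Or.inr ⟨rfl, rfl, rfl⟩)) s t).2.2.1⟩
      | exact ⟨(hB _ _ _ (Or.inl ⟨rfl, rfl, rfl⟩) s t).2.1, (hB _ _ _ (Or.inl ⟨rfl, rfl, rfl⟩) s t).2.2.2⟩
      | exact ⟨(hB _ _ _ (Or.inr (Or.inl ⟨rfl, rfl, rfl⟩)) s t).2.1,
          (hB _ _ _ (Or.inr (Or.inl ⟨rfl, rfl, rfl⟩)) s t).2.2.2⟩
      | exact ⟨(hB _ _ _ (Or.inr (Or.inr ⟨rfl, rfl, rfl⟩)) s t).2.1,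
          (hB _ _ _ (Or.inr (Or.inr ⟨rfl, rfl, rfl⟩)) s t).2.2.2⟩
  have hT : ∀ v : ℕ, (v = 0 ∨ v = M + 1 ∨ v = M + 2 ∨ v = M + 3) →
      (i ≠ v ∧ j ≠ v ∧ k ≠ v ∧ l ≠ v) → Commute (x i j s) (x k l t) := by
    intro v hv hne
    obtain ⟨n1, n2, n3, n4⟩ := hne
    have hinj : Function.Injective ![i, j, k, l] := by
      intro a b hab
      fin_cases a <;> fin_cases b <;> simp at hab ⊢ <;> omega
    have hle : ∀ a, ![i, j, k, l] a ≤ M + 3 := by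
      intro a
      fin_cases a <;> simp <;> assumption
    have hnv : ∀ a, ![i, j, k, l] a ≠ v := by
      intro a
      fin_cases a <;> simp <;> assumption
    exact Cfsg.Agent.Lib.H67CADisA.disA ![i, j, k, l] (hmiss _ hinj hle v hv hnv) s t
  have three : ∀ a b c : ℕ, (a = M + 1 ∨ b = M + 1 ∨ c = M + 1) → (a = M + 2 ∨ b = M + 2 ∨ c = M + 2) →
      (a = M + 3 ∨ b = M + 3 ∨ c = M + 3) → M + 1 ≤ a ∧ M + 1 ≤ b ∧ M + 1 ≤ c := by
    intro a b c h1 h2 h3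
    rcases h1 with h1 | h1 | h1 <;> rcases h2 with h2 | h2 | h2 <;> rcases h3 with h3 | h3 | h3 <;>
      omega
  have d2 : ∀ {A B C D : Prop}, (A ∨ B ∨ C ∨ D) → ¬ B → A ∨ C ∨ D := by
    intro A B C D h hb
    rcases h with h | h | h | h
    · exact Or.inl h
    · exact absurd h hb
    · exact Or.inr (Or.inl h)
    · exact Or.inr (Or.inr h)
  have d3 : ∀ {A B C D : Prop}, (A ∨ B ∨ C ∨ D) → ¬ C → A ∨ B ∨ D := by
    intro A B C D h hb
    rcases h with h | h | h | h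
    · exact Or.inl h
    · exact Or.inr (Or.inl h)
    · exact absurd h hb
    · exact Or.inr (Or.inr h)
  have d4 : ∀ {A B C D : Prop}, (A ∨ B ∨ C ∨ D) → ¬ D → A ∨ B ∨ C := by
    intro A B C D h hb
    rcases h with h | h | h | h
    · exact Or.inl h
    · exact Or.inr (Or.inl h)
    · exact Or.inr (Or.inr h)
    · exact absurd h hb
  by_cases h0 : i = 0 ∨ j = 0 ∨ k = 0 ∨ l = 0
  swap
  · push Not at h0
    exact hT 0 (Or.inl rfl) h0
  by_cases h1 : i = M + 1 ∨ j = M + 1 ∨ k = M + 1 ∨ l = M + 1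
  swap
  · push Not at h1
    exact hT (M + 1) (Or.inr (Or.inl rfl)) h1
  by_cases h2 : i = M + 2 ∨ j = M + 2 ∨ k = M + 2 ∨ l = M + 2
  swap
  · push Not at h2
    exact hT (M + 2) (Or.inr (Or.inr (Or.inl rfl))) h2
  by_cases h3 : i = M + 3 ∨ j = M + 3 ∨ k = M + 3 ∨ l = M + 3
  swap
  · push Not at h3
    exact hT (M + 3) (Or.inr (Or.inr (Or.inr rfl))) h3
  rcases h0 with rfl | rfl | rfl | rfl
  · obtain ⟨a1, a2, a3⟩ := three j k l (h1.resolve_left (by omega)) (h2.resolve_left (by omega))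
      (h3.resolve_left (by omega))
    exact (hB' j k l a1 hj a2 hk a3 hl hjk hjl hkl s t).1
  · obtain ⟨a1, a2, a3⟩ := three i k l (d2 h1 (by omega)) (d2 h2 (by omega)) (d2 h3 (by omega))
    exact (hB' i k l a1 hi a2 hk a3 hl hik hil hkl s t).2
  · obtain ⟨a1, a2, a3⟩ := three i j l (d3 h1 (by omega)) (d3 h2 (by omega)) (d3 h3 (by omega))
    exact (hB' l i j a3 hl a1 hi a2 hj hil.symm hjl.symm hij t s).1.symm
  · obtain ⟨a1, a2, a3⟩ := three i j k (d4 h1 (by omega)) (d4 h2 (by omega)) (d4 h3 (by omega))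
    exact (hB' k i j a3 hk a1 hi a2 hj hik.symm hjk.symm hij t s).2.symm

end Cfsg.Agent.Lib.H67CADis
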