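import Mathlib
import Cfsg.Agent.Lib.H67CADefs
import Cfsg.Agent.Lib.H67CATvRel

/-! Project 3351 (CA), piece `Gen`.
PURE MATRICES: `tv i j t` (`i < j`) lies in the subgroup generated by the fundamental `tv k (k+1) s`, `i ≤ k < j`; same for the lower ones.
Induction on `j.val - i.val` (generalize: `∀ d, ∀ i j, j.val = i.val + d + 1 → …`).  `d = 0`: `Subgroup.subset_closure`.
Step: `j' = ⟨j.val - 1, _⟩`, `tv i j t = cm (tv i j' t) (tv j' j 1)` (`H67CATvRel.tv_cm`, `mul_one`), `cm a b = a*b*a⁻¹*b⁻¹` is in the subgroup (`mul_mem`, `inv_mem`);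
the closure for `(i, j')` is contained in the closure for `(i, j)` (`Subgroup.closure_mono`).   Lower: `tv j i t = cm (tv j j' 1) (tv j' i t)`.
-/

set_option autoImplicit false

namespace Cfsg.Agent.Lib.H67CAGen

open Matrix Cfsg.Agent.Lib.Helper43St Cfsg.Agent.Lib.Helper43Gl Cfsg.Agent.Lib.H67CADefs

variable {n : ℕ} {F : Type*} [Field F]

theorem gen_up (i j : Fin n) (hij : i < j) (t : F) :
    (tv i j t : SpecialLinearGroup (Fin n) F) ∈ Subgroup.closure
      {g | ∃ (k l : Fin n) (s : F), l.val = k.val + 1 ∧ i ≤ k ∧ l ≤ j ∧ g = tv k l s} := by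
  have key : ∀ d : ℕ, ∀ (i j : Fin n), j.val = i.val + d + 1 → ∀ t : F,
      (tv i j t : SpecialLinearGroup (Fin n) F) ∈ Subgroup.closure
        {g | ∃ (k l : Fin n) (s : F), l.val = k.val + 1 ∧ i ≤ k ∧ l ≤ j ∧ g = tv k l s} := by
    intro d
    induction d with
    | zero =>
      intro i j h t
      exact Subgroup.subset_closure ⟨i, j, t, by omega, le_rfl, le_rfl, rfl⟩
    | succ d ih =>
      intro i j h t
      obtain ⟨j', hj'⟩ : ∃ j' : Fin n, j'.val = j.val - 1 := ⟨⟨j.val - 1, by have := j.isLt; omega⟩, rfl⟩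
      have h1 := ih i j' (by omega) t
      have hmono : Subgroup.closure
          {g | ∃ (k l : Fin n) (s : F), l.val = k.val + 1 ∧ i ≤ k ∧ l ≤ j' ∧ g = tv k l s} ≤
          Subgroup.closure
          {g : SpecialLinearGroup (Fin n) F | ∃ (k l : Fin n) (s : F), l.val = k.val + 1 ∧ i ≤ k ∧ l ≤ j ∧ g = tv k l s} := by
        apply Subgroup.closure_mono
        rintro g ⟨k, l, s, a1, a2, a3, rfl⟩
        exact ⟨k, l, s, a1, a2, a3.trans (by rw [Fin.le_def]; omega), rfl⟩
      have h2 : (tv j' j 1 : SpecialLinearGroup (Fin n) F) ∈ Subgroup.closure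
          {g | ∃ (k l : Fin n) (s : F), l.val = k.val + 1 ∧ i ≤ k ∧ l ≤ j ∧ g = tv k l s} :=
        Subgroup.subset_closure ⟨j', j, 1, by omega, by rw [Fin.le_def]; omega, le_rfl, rfl⟩
      have e : (tv i j t : SpecialLinearGroup (Fin n) F) = cm (tv i j' t) (tv j' j 1) := by
        rw [Cfsg.Agent.Lib.H67CATvRel.tv_cm i j' j (by intro h0; have := congrArg Fin.val h0; omega)
          (by intro h0; have := congrArg Fin.val h0; omega) (by intro h0; have := congrArg Fin.val h0; omega) t 1, mul_one]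
      rw [e]
      unfold cm
      exact mul_mem (mul_mem (mul_mem (hmono h1) h2) (inv_mem (hmono h1))) (inv_mem h2)
  exact key (j.val - i.val - 1) i j (by have : i.val < j.val := hij; omega) t

theorem gen_down (i j : Fin n) (hij : i < j) (t : F) :
    (tv j i t : SpecialLinearGroup (Fin n) F) ∈ Subgroup.closure
      {g | ∃ (k l : Fin n) (s : F), l.val = k.val + 1 ∧ i ≤ k ∧ l ≤ j ∧ g = tv l k s} := by
  have key : ∀ d : ℕ, ∀ (i j : Fin n), j.val = i.val + d + 1 → ∀ t : F,
      (tv j i t : SpecialLinearGroup (Fin n) F) ∈ Subgroup.closure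
        {g | ∃ (k l : Fin n) (s : F), l.val = k.val + 1 ∧ i ≤ k ∧ l ≤ j ∧ g = tv l k s} := by
    intro d
    induction d with
    | zero =>
      intro i j h t
      exact Subgroup.subset_closure ⟨i, j, t, by omega, le_rfl, le_rfl, rfl⟩
    | succ d ih =>
      intro i j h t
      obtain ⟨j', hj'⟩ : ∃ j' : Fin n, j'.val = j.val - 1 := ⟨⟨j.val - 1, by have := j.isLt; omega⟩, rfl⟩
      have h1 := ih i j' (by omega) t
      have hmono : Subgroup.closure
          {g | ∃ (k l : Fin n) (s : F), l.val = k.val + 1 ∧ i ≤ k ∧ l ≤ j' ∧ g = tv l k s} ≤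
          Subgroup.closure
          {g : SpecialLinearGroup (Fin n) F | ∃ (k l : Fin n) (s : F), l.val = k.val + 1 ∧ i ≤ k ∧ l ≤ j ∧ g = tv l k s} := by
        apply Subgroup.closure_mono
        rintro g ⟨k, l, s, a1, a2, a3, rfl⟩
        exact ⟨k, l, s, a1, a2, a3.trans (by rw [Fin.le_def]; omega), rfl⟩
      have h2 : (tv j j' 1 : SpecialLinearGroup (Fin n) F) ∈ Subgroup.closure
          {g | ∃ (k l : Fin n) (s : F), l.val = k.val + 1 ∧ i ≤ k ∧ l ≤ j ∧ g = tv l k s} :=
        Subgroup.subset_closure ⟨j', j, 1, by omega, by rw [Fin.le_def]; omega, le_rfl, rfl⟩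
      have e : (tv j i t : SpecialLinearGroup (Fin n) F) = cm (tv j j' 1) (tv j' i t) := by
        rw [Cfsg.Agent.Lib.H67CATvRel.tv_cm j j' i (by intro h0; have := congrArg Fin.val h0; omega)
          (by intro h0; have := congrArg Fin.val h0; omega) (by intro h0; have := congrArg Fin.val h0; omega) 1 t, one_mul]
      rw [e]
      unfold cm
      exact mul_mem (mul_mem (mul_mem h2 (hmono h1)) (inv_mem h2)) (inv_mem (hmono h1))
  exact key (j.val - i.val - 1) i j (by have : i.val < j.val := hij; omega) t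

end Cfsg.Agent.Lib.H67CAGen
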