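import Mathlib
import Cfsg.Agent.Lib.H67CADefs
import Cfsg.Agent.Lib.H67CAGen

/-! Project 3351 (CA), piece `FarA`.
`x 0 j s` and `x j 0 s` commute with the fundamental root elements of every node `k > j`.
-/

set_option autoImplicit false

namespace Cfsg.Agent.Lib.H67CAFarA

open Matrix Cfsg.Agent.Lib.Helper43St Cfsg.Agent.Lib.Helper43Gl Cfsg.Agent.Lib.H67CADefs

variable {F : Type*} [Field F] {P : Type*} [Group P]

theorem farA {x : ℕ → ℕ → F → P} {M : ℕ} (h : StepHyp x M) (j k : ℕ) (hj : 1 ≤ j) (hjk : j < k)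
    (hk : k + 1 ≤ M + 3) (s t : F) :
    Commute (x 0 j s) (x k (k + 1) t) ∧ Commute (x 0 j s) (x (k + 1) k t) ∧
    Commute (x j 0 s) (x k (k + 1) t) ∧ Commute (x j 0 s) (x (k + 1) k t) := by
  obtain ⟨Ψ, hΨ⟩ := h.hA
  simp only at hΨ
  let i0 : Fin (M + 3) := ⟨0, by omega⟩
  let j0 : Fin (M + 3) := ⟨j, by omega⟩
  have hij : i0 < j0 := by
    change (0 : ℕ) < j
    omega
  have hne : i0 ≠ j0 := ne_of_lt hij
  have e1 : x 0 j s = Ψ (tv i0 j0 s) := (hΨ i0 j0 s hne).symm
  have e2 : x j 0 s = Ψ (tv j0 i0 s) := (hΨ j0 i0 s hne.symm).symm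
  have up : ∀ z : P, (∀ k' : ℕ, k' + 1 ≤ j → ∀ u : F, Commute (x k' (k' + 1) u) z) →
      Commute (x 0 j s) z := by
    intro z hz
    have hle : Subgroup.closure
        {g | ∃ (k l : Fin (M + 3)) (s : F), l.val = k.val + 1 ∧ i0 ≤ k ∧ l ≤ j0 ∧ g = tv k l s} ≤
        (Subgroup.centralizer {z}).comap Ψ := by
      rw [Subgroup.closure_le]
      rintro _ ⟨k', l', u, hl, -, hlj, rfl⟩
      change Ψ (tv k' l' u) ∈ Subgroup.centralizer {z}
      rw [Subgroup.mem_centralizer_singleton_iff]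
      have hkl : k' ≠ l' := by
        intro hh
        rw [hh] at hl
        omega
      rw [hΨ k' l' u hkl, hl]
      have hlj' : l'.val ≤ j := hlj
      exact (hz k'.val (by omega) u)
    have h1 := hle (H67CAGen.gen_up i0 j0 hij s)
    change Ψ (tv i0 j0 s) ∈ Subgroup.centralizer {z} at h1
    rw [Subgroup.mem_centralizer_singleton_iff] at h1
    rw [e1]
    exact h1
  have down : ∀ z : P, (∀ k' : ℕ, k' + 1 ≤ j → ∀ u : F, Commute (x (k' + 1) k' u) z) →
      Commute (x j 0 s) z := by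
    intro z hz
    have hle : Subgroup.closure
        {g | ∃ (k l : Fin (M + 3)) (s : F), l.val = k.val + 1 ∧ i0 ≤ k ∧ l ≤ j0 ∧ g = tv l k s} ≤
        (Subgroup.centralizer {z}).comap Ψ := by
      rw [Subgroup.closure_le]
      rintro _ ⟨k', l', u, hl, -, hlj, rfl⟩
      change Ψ (tv l' k' u) ∈ Subgroup.centralizer {z}
      rw [Subgroup.mem_centralizer_singleton_iff]
      have hkl : l' ≠ k' := by
        intro hh
        rw [hh] at hl
        omega
      rw [hΨ l' k' u hkl, hl]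
      have hlj' : l'.val ≤ j := hlj
      exact (hz k'.val (by omega) u)
    have h1 := hle (H67CAGen.gen_down i0 j0 hij s)
    change Ψ (tv j0 i0 s) ∈ Subgroup.centralizer {z} at h1
    rw [Subgroup.mem_centralizer_singleton_iff] at h1
    rw [e2]
    exact h1
  refine ⟨up _ ?_, up _ ?_, down _ ?_, down _ ?_⟩
  · intro k' hk' u
    exact (h.far k' k (by omega) (by omega) u t).1
  · intro k' hk' u
    exact (h.far k' k (by omega) (by omega) u t).2.1
  · intro k' hk' u
    exact (h.far k' k (by omega) (by omega) u t).2.2.1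
  · intro k' hk' u
    exact (h.far k' k (by omega) (by omega) u t).2.2.2

end Cfsg.Agent.Lib.H67CAFarA
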