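import Mathlib
import Cfsg.Agent.Lib.H67CADefs
import Cfsg.Agent.Lib.H67CAFarA

/-! Project 3351 (CA), piece `DisB`.
The exceptional four indices `0, a = M+1, b = M+2, c = M+3`.   `CC p q r` := the four commutations below.   `CC a b c` is `H67CAFarA.farA h (M+1) (M+2) …`.
If `CC p q r` then `CC (sig p) (sig q) (sig r)`: conjugate by `g = gg x M`.
-/

set_option autoImplicit false

namespace Cfsg.Agent.Lib.H67CADisB

open Matrix Cfsg.Agent.Lib.Helper43St Cfsg.Agent.Lib.Helper43Gl Cfsg.Agent.Lib.H67CADefs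

variable {F : Type*} [Field F] {P : Type*} [Group P]

theorem disB {x : ℕ → ℕ → F → P} {M : ℕ} (h : StepHyp x M)
    (heq : ∀ i j : ℕ, i ≤ M + 3 → j ≤ M + 3 → i ≠ j → ∀ t : F,
      gg x M * x i j t * (gg x M)⁻¹ = x (sig M i) (sig M j) t)
    (p q r : ℕ) (hpqr : (p = M + 1 ∧ q = M + 2 ∧ r = M + 3) ∨ (p = M + 2 ∧ q = M + 3 ∧ r = M + 1) ∨
      (p = M + 3 ∧ q = M + 1 ∧ r = M + 2)) (s t : F) :
    Commute (x 0 p s) (x q r t) ∧ Commute (x 0 p s) (x r q t) ∧
    Commute (x p 0 s) (x q r t) ∧ Commute (x p 0 s) (x r q t) := by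
  have hconj : ∀ (g u v : P), Commute u v → Commute (g * u * g⁻¹) (g * v * g⁻¹) := by
    intro g u v huv
    exact huv.map (MulAut.conj g).toMonoidHom
  have s0 : sig M 0 = 0 := by unfold sig; split_ifs <;> omega
  have s1 : sig M (M + 1) = M + 2 := by unfold sig; split_ifs <;> omega
  have s2 : sig M (M + 2) = M + 3 := by unfold sig; split_ifs <;> omega
  have s3 : sig M (M + 3) = M + 1 := by unfold sig; split_ifs <;> omega
  have step : ∀ p q r : ℕ, 1 ≤ p → 1 ≤ q → 1 ≤ r → p ≤ M + 3 → q ≤ M + 3 → r ≤ M + 3 → q ≠ r →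
      (∀ s t : F, Commute (x 0 p s) (x q r t) ∧ Commute (x 0 p s) (x r q t) ∧
        Commute (x p 0 s) (x q r t) ∧ Commute (x p 0 s) (x r q t)) →
      (∀ s t : F, Commute (x 0 (sig M p) s) (x (sig M q) (sig M r) t) ∧
        Commute (x 0 (sig M p) s) (x (sig M r) (sig M q) t) ∧
        Commute (x (sig M p) 0 s) (x (sig M q) (sig M r) t) ∧
        Commute (x (sig M p) 0 s) (x (sig M r) (sig M q) t)) := by
    intro p q r hp hq hr hp' hq' hr' hqr hc s t
    obtain ⟨c1, c2, c3, c4⟩ := hc s t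
    have e1 := heq 0 p (by omega) hp' (by omega) s
    have e2 := heq p 0 hp' (by omega) (by omega) s
    have e3 := heq q r hq' hr' hqr t
    have e4 := heq r q hr' hq' hqr.symm t
    rw [s0] at e1 e2
    refine ⟨?_, ?_, ?_, ?_⟩
    · rw [← e1, ← e3]; exact hconj _ _ _ c1
    · rw [← e1, ← e4]; exact hconj _ _ _ c2
    · rw [← e2, ← e3]; exact hconj _ _ _ c3
    · rw [← e2, ← e4]; exact hconj _ _ _ c4
  have c0 : ∀ s t : F, Commute (x 0 (M + 1) s) (x (M + 2) (M + 3) t) ∧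
      Commute (x 0 (M + 1) s) (x (M + 3) (M + 2) t) ∧
      Commute (x (M + 1) 0 s) (x (M + 2) (M + 3) t) ∧ Commute (x (M + 1) 0 s) (x (M + 3) (M + 2) t) :=
    fun s t => H67CAFarA.farA h (M + 1) (M + 2) (by omega) (by omega) (by omega) s t
  have c1 := step (M + 1) (M + 2) (M + 3) (by omega) (by omega) (by omega) (by omega) (by omega)
    (by omega) (by omega) c0
  rw [s1, s2, s3] at c1
  have c2 := step (M + 2) (M + 3) (M + 1) (by omega) (by omega) (by omega) (by omega) (by omega)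
    (by omega) (by omega) c1
  rw [s1, s2, s3] at c2
  rcases hpqr with ⟨rfl, rfl, rfl⟩ | ⟨rfl, rfl, rfl⟩ | ⟨rfl, rfl, rfl⟩
  · exact c0 s t
  · exact c1 s t
  · exact c2 s t

end Cfsg.Agent.Lib.H67CADisB
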