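import Mathlib
import Cfsg.Agent.Lib.H67CADefs
import Cfsg.Agent.Lib.Helper15BPPm

/-! Project 3351 (CA), piece `P3`.
PURE MATRICES: `p3 F a b c = wv a b 1 * wv b c 1 * hv a b (-1)` is the permutation matrix of the 3-cycle `a → b → c → a`.
ALL TOOLS ARE LANDED in `Helper15BPPm` (section `gen`, any `n`): `ext_e` (`A = B` iff `A e_k = B e_k`), `mul_e`, `inv_e`, `tv_e`, `p3_e0 : p3 e_a = e_b`, `p3_e1 : p3 e_b = e_c`, `p3_e2 : p3 e_c = e_a`, `p3_e_other`.
First `p3_e : (p3 F a b c).1 *ᵥ Pi.single k 1 = Pi.single (cyc a b c k) 1` (unfold `cyc`, `split_ifs`/`by_cases`).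
`p3_conj`: copy the proof of `Helper15BPPm.pmHom_conj` (`mul_inv_eq_iff_eq_mul`, `ext_e`, `mul_e`, `tv_e`); needs `cyc` injective (`cyc_inj`: unfold, split_ifs, use the three `≠`).
`p3_cube`: `ext_e`, three times `p3_e`, `cyc (cyc (cyc k)) = k`.
-/

set_option autoImplicit false

namespace Cfsg.Agent.Lib.H67CAP3

open Matrix Cfsg.Agent.Lib.Helper43St Cfsg.Agent.Lib.Helper43Gl Cfsg.Agent.Lib.H67CADefs

variable {n : ℕ} {F : Type*} [Field F]

open Cfsg.Agent.Lib.Helper15BPPm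

theorem p3_e (a b c : Fin n) (hab : a ≠ b) (hac : a ≠ c) (hbc : b ≠ c) (k : Fin n) :
    (p3 F a b c).1 *ᵥ Pi.single k 1 = Pi.single (cyc a b c k) 1 := by
  unfold cyc
  by_cases h1 : k = a
  · subst h1
    rw [if_pos rfl, p3_e0 _ _ _ hab hac hbc]
  · by_cases h2 : k = b
    · subst h2
      rw [if_neg h1, if_pos rfl, p3_e1 _ _ _ hab hac hbc]
    · by_cases h3 : k = c
      · subst h3
        rw [if_neg h1, if_neg h2, if_pos rfl, p3_e2 _ _ _ hab hac hbc]
      · rw [if_neg h1, if_neg h2, if_neg h3,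
          p3_e_other _ _ _ _ hab hac hbc (Ne.symm h1) (Ne.symm h2) (Ne.symm h3)]

theorem cyc_inj (a b c : Fin n) (hab : a ≠ b) (hac : a ≠ c) (hbc : b ≠ c) :
    Function.Injective (cyc a b c) := by
  intro x y h
  unfold cyc at h
  split_ifs at h <;> simp_all

theorem cyc_cube (a b c : Fin n) (hab : a ≠ b) (hac : a ≠ c) (hbc : b ≠ c) (k : Fin n) :
    cyc a b c (cyc a b c (cyc a b c k)) = k := by
  unfold cyc
  split_ifs <;> simp_all

theorem p3_conj (a b c : Fin n) (hab : a ≠ b) (hac : a ≠ c) (hbc : b ≠ c) (i j : Fin n) (hij : i ≠ j) (t : F) :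
    p3 F a b c * tv i j t * (p3 F a b c)⁻¹ = tv (cyc a b c i) (cyc a b c j) t := by
  rw [mul_inv_eq_iff_eq_mul]
  apply ext_e
  intro k
  rw [mul_e, mul_e, tv_e i j hij, p3_e a b c hab hac hbc k,
    tv_e _ _ ((cyc_inj a b c hab hac hbc).ne hij), Matrix.mulVec_add,
    Matrix.mulVec_smul, p3_e a b c hab hac hbc, p3_e a b c hab hac hbc]
  by_cases h : j = k
  · rw [if_pos h, if_pos (by rw [h])]
  · rw [if_neg h, if_neg (fun h' => h (cyc_inj a b c hab hac hbc h'))]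

theorem p3_cube (a b c : Fin n) (hab : a ≠ b) (hac : a ≠ c) (hbc : b ≠ c) :
    p3 F a b c * p3 F a b c * p3 F a b c = 1 := by
  apply ext_e
  intro k
  rw [mul_e, mul_e, p3_e a b c hab hac hbc, p3_e a b c hab hac hbc, p3_e a b c hab hac hbc,
    cyc_cube a b c hab hac hbc]
  exact (Matrix.one_mulVec _).symm

end Cfsg.Agent.Lib.H67CAP3
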