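import Mathlib
import Cfsg.Agent.Lib.H67CADefs
import Cfsg.Agent.Lib.H67CAP3

/-! Project 3351 (CA), piece `G1`.
Conjugation by `g = gg x M = Gx x (M+1) (M+2) (M+3)` on the root elements with indices in `1..M+3`: computed in `SL_{M+3}` through `h.hB`.
-/

set_option autoImplicit false

namespace Cfsg.Agent.Lib.H67CAG1

open Matrix Cfsg.Agent.Lib.Helper43St Cfsg.Agent.Lib.Helper43Gl Cfsg.Agent.Lib.H67CADefs

variable {F : Type*} [Field F] {P : Type*} [Group P]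

theorem cyc_val (M : ℕ) (p : Fin (M + 3)) :
    (cyc (⟨M, by omega⟩ : Fin (M + 3)) ⟨M + 1, by omega⟩ ⟨M + 2, by omega⟩ p).val + 1 =
      sig M (p.val + 1) := by
  unfold cyc sig
  simp only [Fin.ext_iff]
  split_ifs <;> first | omega | rfl

theorem gg_eq {x : ℕ → ℕ → F → P} {M : ℕ} (Ψ : SpecialLinearGroup (Fin (M + 3)) F →* P)
    (hΨ : ∀ a b t, a ≠ b → Ψ (tv a b t) = x (a.val + 1) (b.val + 1) t) :
    gg x M = Ψ (p3 F (⟨M, by omega⟩ : Fin (M + 3)) ⟨M + 1, by omega⟩ ⟨M + 2, by omega⟩) := by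
  rw [map_p3 (ι := fun a : Fin (M + 3) => a.val + 1) Ψ hΨ _ _ _
    (by simp [Fin.ext_iff]) (by simp [Fin.ext_iff])]
  rfl

theorem g1 {x : ℕ → ℕ → F → P} {M : ℕ} (h : StepHyp x M) (i j : ℕ) (hi : 1 ≤ i) (hj : 1 ≤ j)
    (hi' : i ≤ M + 3) (hj' : j ≤ M + 3) (hij : i ≠ j) (t : F) :
    gg x M * x i j t * (gg x M)⁻¹ = x (sig M i) (sig M j) t := by
  obtain ⟨Ψ, hΨ⟩ := h.hB
  simp only [] at hΨ
  obtain ⟨p, rfl⟩ : ∃ p, i = p + 1 := ⟨i - 1, by omega⟩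
  obtain ⟨q, rfl⟩ : ∃ q, j = q + 1 := ⟨j - 1, by omega⟩
  have hp : p < M + 3 := by omega
  have hq : q < M + 3 := by omega
  have hpq : (⟨p, hp⟩ : Fin (M + 3)) ≠ ⟨q, hq⟩ := by
    intro h0
    rw [Fin.ext_iff] at h0
    simp only [] at h0
    omega
  have e1 : x (p + 1) (q + 1) t = Ψ (tv ⟨p, hp⟩ ⟨q, hq⟩ t) := (hΨ _ _ t hpq).symm
  rw [gg_eq Ψ hΨ, e1, ← map_inv, ← map_mul, ← map_mul,
    H67CAP3.p3_conj _ _ _ (by simp [Fin.ext_iff]) (by simp [Fin.ext_iff]) (by simp [Fin.ext_iff]) _ _ hpq]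
  have c1 := cyc_val M ⟨p, hp⟩
  have c2 := cyc_val M ⟨q, hq⟩
  simp only [] at c1 c2
  rw [hΨ, c1, c2]
  intro h0
  have h1 : sig M (p + 1) = sig M (q + 1) := by rw [← c1, ← c2, h0]
  exact hij (sig_inj M h1)

theorem g_cube {x : ℕ → ℕ → F → P} {M : ℕ} (h : StepHyp x M) : gg x M * gg x M * gg x M = 1 := by
  obtain ⟨Ψ, hΨ⟩ := h.hB
  rw [gg_eq Ψ hΨ, ← map_mul, ← map_mul,
    H67CAP3.p3_cube _ _ _ (by simp [Fin.ext_iff]) (by simp [Fin.ext_iff]) (by simp [Fin.ext_iff]), map_one]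

end Cfsg.Agent.Lib.H67CAG1
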