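import Mathlib
import Cfsg.Agent.Lib.H67CADefs
import Cfsg.Agent.Lib.H67CAFarA

/-! Project 3351 (CA), piece `G2`.
`g = gg x M = Wx x (M+1) (M+2) 1 * Wx x (M+2) (M+3) 1 * Hx x (M+1) (M+2) (-1)` is a product of elements `x k (k+1) _`, `x (k+1) k _` (`k = M+1, M+2`) and inverses, and all of them commute with `x 0 j t`, `x j 0 t` for `1 ≤ j ≤ M`
(`H67CAFarA.farA h j (M+1) …` and `farA h j (M+2) …`).  So `Commute g (x 0 j t)`:  `unfold gg Gx Hx Wx`, `Commute.mul_left`, `Commute.inv_left`, `.symm`;  then `g * y * g⁻¹ = y` (`Commute.eq`, `mul_inv_cancel_right`).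
-/

set_option autoImplicit false

namespace Cfsg.Agent.Lib.H67CAG2

open Matrix Cfsg.Agent.Lib.Helper43St Cfsg.Agent.Lib.Helper43Gl Cfsg.Agent.Lib.H67CADefs

variable {F : Type*} [Field F] {P : Type*} [Group P]

theorem comm_W {x : ℕ → ℕ → F → P} {y : P} {a b : ℕ} (h1 : ∀ u, Commute y (x a b u))
    (h2 : ∀ u, Commute y (x b a u)) (c : F) : Commute y (Wx x a b c) := by
  unfold Wx
  exact ((h1 _).mul_right (h2 _)).mul_right (h1 _)

theorem comm_H {x : ℕ → ℕ → F → P} {y : P} {a b : ℕ} (h1 : ∀ u, Commute y (x a b u))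
    (h2 : ∀ u, Commute y (x b a u)) (c : F) : Commute y (Hx x a b c) := by
  unfold Hx
  exact (comm_W h1 h2 c).mul_right (comm_W h1 h2 1).inv_right

theorem conj_gg {x : ℕ → ℕ → F → P} {M : ℕ} {y : P}
    (h1 : ∀ u, Commute y (x (M + 1) (M + 2) u)) (h2 : ∀ u, Commute y (x (M + 2) (M + 1) u))
    (h3 : ∀ u, Commute y (x (M + 2) (M + 3) u)) (h4 : ∀ u, Commute y (x (M + 3) (M + 2) u)) :
    gg x M * y * (gg x M)⁻¹ = y := by
  have hc : Commute y (gg x M) := by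
    unfold gg Gx
    exact ((comm_W h1 h2 1).mul_right (comm_W h3 h4 1)).mul_right (comm_H h1 h2 (-1))
  rw [← hc.eq, mul_inv_cancel_right]

theorem g2 {x : ℕ → ℕ → F → P} {M : ℕ} (h : StepHyp x M) (j : ℕ) (hj : 1 ≤ j) (hj' : j ≤ M) (t : F) :
    gg x M * x 0 j t * (gg x M)⁻¹ = x 0 j t ∧ gg x M * x j 0 t * (gg x M)⁻¹ = x j 0 t := by
  have hA := fun u => Cfsg.Agent.Lib.H67CAFarA.farA h j (M + 1) hj (by omega) (by omega) t u
  have hB := fun u => Cfsg.Agent.Lib.H67CAFarA.farA h j (M + 2) hj (by omega) (by omega) t u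
  exact ⟨conj_gg (fun u => (hA u).1) (fun u => (hA u).2.1) (fun u => (hB u).1)
      (fun u => (hB u).2.1),
    conj_gg (fun u => (hA u).2.2.1) (fun u => (hA u).2.2.2) (fun u => (hB u).2.2.1)
      (fun u => (hB u).2.2.2)⟩

end Cfsg.Agent.Lib.H67CAG2
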