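import Mathlib
import Cfsg.Agent.Lib.H67CADefs
import Cfsg.Agent.Lib.Helper10BPEmb

/-! Project 3351 (CA), piece `Emb`.
PURE MATRICES.  The embedding `SL_k(F) → SL_m(F)` along an injective map of indices `κ`.
MODEL: `Helper10BPEmb.embHom`, `embHom_tv`, `exists_emb` (the same for `κ = ![0,1,2] : Fin 3 → Fin (m+4)`): copy that file and generalize.
`e : Fin k ⊕ {j : Fin m // j ∉ Set.range κ} ≃ Fin m` (`Equiv.ofInjective κ hκ`, `Equiv.Set.sumCompl (Set.range κ)`), `A ↦ Matrix.reindex e e (Matrix.fromBlocks A 0 0 1)`,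
`Matrix.det_reindex_self`, `Matrix.det_fromBlocks_zero₂₁`, `Matrix.fromBlocks_multiply`;  `tv_val : (tv i j t).1 = 1 + Matrix.single i j t`.
(Alternative without blocks: `(E A) i j = if both i = κ a, j = κ b then A a b else if i = j then 1 else 0`.)
-/

set_option autoImplicit false

namespace Cfsg.Agent.Lib.H67CAEmb

open Matrix Cfsg.Agent.Lib.Helper43St Cfsg.Agent.Lib.Helper43Gl Cfsg.Agent.Lib.H67CADefs

/-- the block embedding -/
def embHom {k m : ℕ} {C : Type} [Fintype C] [DecidableEq C] (F : Type*) [Field F] (e : Fin k ⊕ C ≃ Fin m) :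
    SpecialLinearGroup (Fin k) F →* SpecialLinearGroup (Fin m) F where
  toFun g := ⟨(Matrix.fromBlocks g.1 0 0 (1 : Matrix C C F)).submatrix e.symm e.symm, by
    rw [Matrix.det_submatrix_equiv_self, Matrix.det_fromBlocks_zero₂₁, Matrix.det_one, mul_one]
    exact g.2⟩
  map_one' := by
    apply Subtype.ext
    show (Matrix.fromBlocks (1 : Matrix (Fin k) (Fin k) F) 0 0
      (1 : Matrix C C F)).submatrix e.symm e.symm = 1
    rw [Matrix.fromBlocks_one]
    exact Matrix.submatrix_one_equiv _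
  map_mul' g h := by
    apply Subtype.ext
    show (Matrix.fromBlocks (g.1 * h.1) 0 0 (1 : Matrix C C F)).submatrix e.symm e.symm =
      (Matrix.fromBlocks g.1 0 0 (1 : Matrix C C F)).submatrix e.symm e.symm *
      (Matrix.fromBlocks h.1 0 0 (1 : Matrix C C F)).submatrix e.symm e.symm
    rw [Matrix.submatrix_mul_equiv, Matrix.fromBlocks_multiply]
    simp

theorem embHom_tv {k m : ℕ} {C : Type} [Fintype C] [DecidableEq C] (F : Type*) [Field F]
    (e : Fin k ⊕ C ≃ Fin m) (a b : Fin k) (hab : a ≠ b) (t : F) :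
    embHom F e (tv a b t) = tv (e (Sum.inl a)) (e (Sum.inl b)) t := by
  apply Subtype.ext
  ext x y
  obtain ⟨x', rfl⟩ := e.surjective x
  obtain ⟨y', rfl⟩ := e.surjective y
  show (Matrix.fromBlocks (tv a b t : SpecialLinearGroup (Fin k) F).1 0 0
      (1 : Matrix C C F)) (e.symm (e x')) (e.symm (e y')) =
    (tv (e (Sum.inl a)) (e (Sum.inl b)) t : SpecialLinearGroup (Fin m) F) (e x') (e y')
  rw [Equiv.symm_apply_apply, Equiv.symm_apply_apply,
    tv_apply _ _ (fun h => hab (Sum.inl_injective (e.injective h)))]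
  simp only [e.injective.eq_iff]
  rcases x' with x' | x' <;> rcases y' with y' | y'
  · show (tv a b t : SpecialLinearGroup (Fin k) F) x' y' = _
    rw [tv_apply a b hab]
    simp only [Sum.inl.injEq]
  · simp
  · simp
  · simp [Matrix.one_apply]

theorem exists_emb {k m : ℕ} (F : Type*) [Field F] (κ : Fin k → Fin m) (hκ : Function.Injective κ) :
    ∃ E : SpecialLinearGroup (Fin k) F →* SpecialLinearGroup (Fin m) F,
      ∀ a b t, a ≠ b → E (tv a b t) = tv (κ a) (κ b) t := by
  classical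
  let e : Fin k ⊕ ↥(Set.range κ)ᶜ ≃ Fin m :=
    (Equiv.sumCongr (Equiv.ofInjective κ hκ) (Equiv.refl _)).trans (Equiv.Set.sumCompl (Set.range κ))
  have he : ∀ a, e (Sum.inl a) = κ a := fun a => rfl
  refine ⟨embHom F e, ?_⟩
  intro a b t hab
  rw [embHom_tv F e a b hab, he, he]

end Cfsg.Agent.Lib.H67CAEmb
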