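import Mathlib
import Cfsg.Agent.Lib.H67CADefs
import Cfsg.Agent.Lib.H67CAEmb

/-! Project 3351 (CA), piece `Res`.
Restriction of a realization to a subfamily of indices.  `rz_res`: compose `Ψ` with `H67CAEmb.exists_emb F κ hκ`.
`rz_sub`: `κ a := (hsub a).choose`; injective because `T` is (`ι (κ a) = T a`); then `rz_res` and `funext`.
-/

set_option autoImplicit false

namespace Cfsg.Agent.Lib.H67CARes

open Matrix Cfsg.Agent.Lib.Helper43St Cfsg.Agent.Lib.Helper43Gl Cfsg.Agent.Lib.H67CADefs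

variable {F : Type*} [Field F] {P : Type*} [Group P]

theorem rz_res {x : ℕ → ℕ → F → P} {m k : ℕ} {ι : Fin m → ℕ} (h : Rz x m ι) (κ : Fin k → Fin m)
    (hκ : Function.Injective κ) : Rz x k (fun a => ι (κ a)) := by
  obtain ⟨Ψ, hΨ⟩ := h
  obtain ⟨E, hE⟩ := Cfsg.Agent.Lib.H67CAEmb.exists_emb F κ hκ
  refine ⟨Ψ.comp E, fun a b t hab => ?_⟩
  rw [MonoidHom.comp_apply, hE a b t hab, hΨ _ _ t (fun hh => hab (hκ hh))]

theorem rz_sub {x : ℕ → ℕ → F → P} {m k : ℕ} {ι : Fin m → ℕ} (h : Rz x m ι) (T : Fin k → ℕ)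
    (hT : Function.Injective T) (hsub : ∀ a, ∃ b, ι b = T a) : Rz x k T := by
  have hκ : ∀ a, ι ((hsub a).choose) = T a := fun a => (hsub a).choose_spec
  have hinj : Function.Injective (fun a => (hsub a).choose) := by
    intro a b hab
    apply hT
    rw [← hκ a, ← hκ b]
    exact congrArg ι hab
  have h1 := rz_res h (fun a => (hsub a).choose) hinj
  have h2 : (fun a => ι ((hsub a).choose)) = T := funext hκ
  rw [h2] at h1
  exact h1

end Cfsg.Agent.Lib.H67CARes
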