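import Mathlib
import Cfsg.Agent.Lib.H67CADefs
import Cfsg.Agent.Lib.H67CAFarA
import Cfsg.Agent.Lib.H67CARes

/-! Project 3351 (CA), piece `G3`.
THE KEY COMPUTATION.  `a = M+1, b = M+2, c = M+3`, `g = Wx x a b 1 * Wx x b c 1 * Hx x a b (-1)`.
`Rz x 3 ![0, a, b]` from `h.hA` by `H67CARes.rz_sub` (or `rz_res` with `κ = ![⟨0,_⟩,⟨M+1,_⟩,⟨M+2,_⟩]`): `Φ : SL_3 →* P`, `Φ (tv p q t) = x (![0,a,b] p) (![0,a,b] q) t`;  `Φ (wv 1 2 1) = Wx x a b 1`, `Φ (hv 1 2 (-1)) = Hx x a b (-1)` (`H67CADefs.map_wv`, `map_hv`).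
Identities in `SL_3(F)` (brute force as in the `example` of `Helper43StDefs`: `simp only [wv, hv, _root_.mul_inv_rev, tv_inv]; ext i j; fin_cases i <;> fin_cases j <;> simp [Matrix.mul_apply, Fin.sum_univ_three, tv_apply]`):
   `hv 1 2 (-1) * tv 0 1 t * (hv 1 2 (-1))⁻¹ = tv 0 1 (-t)`,      `wv 1 2 1 * tv 0 1 s * (wv 1 2 1)⁻¹ = tv 0 2 (-s)`,
   `hv 1 2 (-1) * tv 1 0 t * (hv 1 2 (-1))⁻¹ = tv 1 0 (-t)`,      `wv 1 2 1 * tv 1 0 s * (wv 1 2 1)⁻¹ = tv 2 0 (-s)`.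
`Wx x b c 1 = x b c 1 * x c b (-1⁻¹) * x b c 1` commutes with `x 0 a _`, `x a 0 _` by `H67CAFarA.farA h (M+1) (M+2) …`.
So `g x_{0a}(t) g⁻¹ = W_ab W_bc (H x_{0a}(t) H⁻¹) W_bc⁻¹ W_ab⁻¹ = W_ab W_bc x_{0a}(-t) W_bc⁻¹ W_ab⁻¹ = W_ab x_{0a}(-t) W_ab⁻¹ = x_{0b}(t)`.
-/

set_option autoImplicit false

namespace Cfsg.Agent.Lib.H67CAG3

open Matrix Cfsg.Agent.Lib.Helper43St Cfsg.Agent.Lib.Helper43Gl Cfsg.Agent.Lib.H67CADefs

variable {F : Type*} [Field F] {P : Type*} [Group P]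

theorem I1 (t : F) : (hv 1 2 (-1) : SpecialLinearGroup (Fin 3) F) * tv 0 1 t * (hv 1 2 (-1))⁻¹
    = tv 0 1 (-t) := by
  simp only [wv, hv, _root_.mul_inv_rev, tv_inv]
  ext i j
  fin_cases i <;> fin_cases j <;> simp [Matrix.mul_apply, Fin.sum_univ_three, tv_apply]

theorem I2 (t : F) : (wv 1 2 1 : SpecialLinearGroup (Fin 3) F) * tv 0 1 t * (wv 1 2 1)⁻¹
    = tv 0 2 (-t) := by
  simp only [wv, _root_.mul_inv_rev, tv_inv]
  ext i j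
  fin_cases i <;> fin_cases j <;> simp [Matrix.mul_apply, Fin.sum_univ_three, tv_apply]

theorem I3 (t : F) : (hv 1 2 (-1) : SpecialLinearGroup (Fin 3) F) * tv 1 0 t * (hv 1 2 (-1))⁻¹
    = tv 1 0 (-t) := by
  simp only [wv, hv, _root_.mul_inv_rev, tv_inv]
  ext i j
  fin_cases i <;> fin_cases j <;> simp [Matrix.mul_apply, Fin.sum_univ_three, tv_apply]

theorem I4 (t : F) : (wv 1 2 1 : SpecialLinearGroup (Fin 3) F) * tv 1 0 t * (wv 1 2 1)⁻¹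
    = tv 2 0 (-t) := by
  simp only [wv, _root_.mul_inv_rev, tv_inv]
  ext i j
  fin_cases i <;> fin_cases j <;> simp [Matrix.mul_apply, Fin.sum_univ_three, tv_apply]

theorem g3 {x : ℕ → ℕ → F → P} {M : ℕ} (h : StepHyp x M) (t : F) :
    gg x M * x 0 (M + 1) t * (gg x M)⁻¹ = x 0 (M + 2) t ∧
    gg x M * x (M + 1) 0 t * (gg x M)⁻¹ = x (M + 2) 0 t := by
  have hT : Function.Injective (![0, M + 1, M + 2] : Fin 3 → ℕ) := by
    intro a b hab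
    fin_cases a <;> fin_cases b <;> simp at hab ⊢
  obtain ⟨Φ, hΦ⟩ := H67CARes.rz_sub h.hA (![0, M + 1, M + 2] : Fin 3 → ℕ) hT (by
    intro a
    fin_cases a
    · exact ⟨⟨0, by omega⟩, rfl⟩
    · exact ⟨⟨M + 1, by omega⟩, rfl⟩
    · exact ⟨⟨M + 2, by omega⟩, rfl⟩)
  have hW : Φ (wv 1 2 1) = Wx x (M + 1) (M + 2) 1 := map_wv Φ hΦ 1 2 (by decide) 1
  have hH : Φ (hv 1 2 (-1)) = Hx x (M + 1) (M + 2) (-1) := map_hv Φ hΦ 1 2 (by decide) (-1)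
  have e01 : ∀ s, Φ (tv 0 1 s) = x 0 (M + 1) s := fun s => hΦ 0 1 s (by decide)
  have e02 : ∀ s, Φ (tv 0 2 s) = x 0 (M + 2) s := fun s => hΦ 0 2 s (by decide)
  have e10 : ∀ s, Φ (tv 1 0 s) = x (M + 1) 0 s := fun s => hΦ 1 0 s (by decide)
  have e20 : ∀ s, Φ (tv 2 0 s) = x (M + 2) 0 s := fun s => hΦ 2 0 s (by decide)
  have J1 : ∀ s, Hx x (M + 1) (M + 2) (-1) * x 0 (M + 1) s * (Hx x (M + 1) (M + 2) (-1))⁻¹
      = x 0 (M + 1) (-s) := by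
    intro s
    rw [← hH, ← e01, ← e01, ← map_mul, ← map_inv, ← map_mul, I1]
  have J2 : ∀ s, Wx x (M + 1) (M + 2) 1 * x 0 (M + 1) s * (Wx x (M + 1) (M + 2) 1)⁻¹
      = x 0 (M + 2) (-s) := by
    intro s
    rw [← hW, ← e01, ← e02, ← map_mul, ← map_inv, ← map_mul, I2]
  have J3 : ∀ s, Hx x (M + 1) (M + 2) (-1) * x (M + 1) 0 s * (Hx x (M + 1) (M + 2) (-1))⁻¹
      = x (M + 1) 0 (-s) := by
    intro s
    rw [← hH, ← e10, ← e10, ← map_mul, ← map_inv, ← map_mul, I3]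
  have J4 : ∀ s, Wx x (M + 1) (M + 2) 1 * x (M + 1) 0 s * (Wx x (M + 1) (M + 2) 1)⁻¹
      = x (M + 2) 0 (-s) := by
    intro s
    rw [← hW, ← e10, ← e20, ← map_mul, ← map_inv, ← map_mul, I4]
  have hc : ∀ s u, Commute (x 0 (M + 1) s) (x (M + 2) (M + 3) u) ∧
      Commute (x 0 (M + 1) s) (x (M + 3) (M + 2) u) ∧
      Commute (x (M + 1) 0 s) (x (M + 2) (M + 3) u) ∧
      Commute (x (M + 1) 0 s) (x (M + 3) (M + 2) u) := fun s u =>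
    H67CAFarA.farA h (M + 1) (M + 2) (by omega) (by omega) (by omega) s u
  have hcW1 : ∀ s, Wx x (M + 2) (M + 3) 1 * x 0 (M + 1) s * (Wx x (M + 2) (M + 3) 1)⁻¹
      = x 0 (M + 1) s := by
    intro s
    have : Commute (Wx x (M + 2) (M + 3) 1) (x 0 (M + 1) s) := by
      unfold Wx
      exact (((hc s _).1.symm.mul_left (hc s _).2.1.symm).mul_left (hc s _).1.symm)
    rw [this.eq, mul_inv_cancel_right]
  have hcW2 : ∀ s, Wx x (M + 2) (M + 3) 1 * x (M + 1) 0 s * (Wx x (M + 2) (M + 3) 1)⁻¹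
      = x (M + 1) 0 s := by
    intro s
    have : Commute (Wx x (M + 2) (M + 3) 1) (x (M + 1) 0 s) := by
      unfold Wx
      exact (((hc s _).2.2.1.symm.mul_left (hc s _).2.2.2.symm).mul_left (hc s _).2.2.1.symm)
    rw [this.eq, mul_inv_cancel_right]
  have key : ∀ y : P, gg x M * y * (gg x M)⁻¹ = Wx x (M + 1) (M + 2) 1 *
      (Wx x (M + 2) (M + 3) 1 * (Hx x (M + 1) (M + 2) (-1) * y * (Hx x (M + 1) (M + 2) (-1))⁻¹)
        * (Wx x (M + 2) (M + 3) 1)⁻¹) * (Wx x (M + 1) (M + 2) 1)⁻¹ := by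
    intro y
    unfold gg Gx
    group
  constructor
  · rw [key, J1, hcW1, J2, neg_neg]
  · rw [key, J3, hcW2, J4, neg_neg]

end Cfsg.Agent.Lib.H67CAG3
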