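import Mathlib
import Cfsg.Agent.Lib.H67CADefs
import Cfsg.Agent.Lib.H67CAG1
import Cfsg.Agent.Lib.H67CAG3
import Cfsg.Agent.Lib.H67CATvRel

/-! Project 3351 (CA), piece `G4`. -/

set_option autoImplicit false

namespace Cfsg.Agent.Lib.H67CAG4

open Matrix Cfsg.Agent.Lib.Helper43St Cfsg.Agent.Lib.Helper43Gl Cfsg.Agent.Lib.H67CADefs

variable {F : Type*} [Field F] {P : Type*} [Group P]

theorem g4 {x : ℕ → ℕ → F → P} {M : ℕ} (h : StepHyp x M) (t : F) :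
    gg x M * x 0 (M + 2) t * (gg x M)⁻¹ = x 0 (M + 3) t ∧
    gg x M * x (M + 2) 0 t * (gg x M)⁻¹ = x (M + 3) 0 t := by
  obtain ⟨Ψ, hΨ⟩ := h.hA
  have hcm : ∀ u v : SpecialLinearGroup (Fin (M + 3)) F, Ψ (cm u v) = cm (Ψ u) (Ψ v) := by
    intro u v
    unfold cm
    simp [map_mul, map_inv]
  have hconj : ∀ g u v : P, g * cm u v * g⁻¹ = cm (g * u * g⁻¹) (g * v * g⁻¹) := by
    intro g u v
    unfold cm
    group
  have n01 : (⟨0, by omega⟩ : Fin (M + 3)) ≠ ⟨M + 1, by omega⟩ := by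
    intro e
    have := congrArg Fin.val e
    simp at this
  have n12 : (⟨M + 1, by omega⟩ : Fin (M + 3)) ≠ ⟨M + 2, by omega⟩ := by
    intro e
    have := congrArg Fin.val e
    simp at this
  have n02 : (⟨0, by omega⟩ : Fin (M + 3)) ≠ ⟨M + 2, by omega⟩ := by
    intro e
    have := congrArg Fin.val e
    simp at this
  have s1 : sig M (M + 1) = M + 2 := by simp [sig]
  have s2 : sig M (M + 2) = M + 3 := by simp [sig]
  have e1 : x 0 (M + 2) t = cm (x 0 (M + 1) t) (x (M + 1) (M + 2) 1) := by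
    have h2 := congrArg Ψ (Cfsg.Agent.Lib.H67CATvRel.tv_cm (F := F) _ _ _ n01 n12 n02 t 1)
    rw [hcm, hΨ _ _ t n01, hΨ _ _ 1 n12, mul_one, hΨ _ _ t n02] at h2
    exact h2.symm
  have e2 : x (M + 2) 0 t = cm (x (M + 2) (M + 1) 1) (x (M + 1) 0 t) := by
    have h2 := congrArg Ψ (Cfsg.Agent.Lib.H67CATvRel.tv_cm (F := F) _ _ _ n12.symm n01.symm
      n02.symm 1 t)
    rw [hcm, hΨ _ _ 1 n12.symm, hΨ _ _ t n01.symm, one_mul, hΨ _ _ t n02.symm] at h2
    exact h2.symm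
  constructor
  · rw [e1, hconj, (Cfsg.Agent.Lib.H67CAG3.g3 h t).1,
      Cfsg.Agent.Lib.H67CAG1.g1 h (M + 1) (M + 2) (by omega) (by omega) (by omega) (by omega)
        (by omega) 1, s1, s2, ← h.hu]
  · rw [e2, hconj, (Cfsg.Agent.Lib.H67CAG3.g3 h t).2,
      Cfsg.Agent.Lib.H67CAG1.g1 h (M + 2) (M + 1) (by omega) (by omega) (by omega) (by omega)
        (by omega) 1, s1, s2, ← h.hl]

end Cfsg.Agent.Lib.H67CAG4
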