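import Mathlib
import Cfsg.Agent.Lib.H67CADefs
import Cfsg.Agent.Lib.H67CAG1
import Cfsg.Agent.Lib.H67CAG2
import Cfsg.Agent.Lib.H67CAG3
import Cfsg.Agent.Lib.H67CAG4

/-! Project 3351 (CA), piece `EQ`.
`g5`: `x_{0,M+3}(t) = g x_{0,M+2}(t) g⁻¹ = g g x_{0,M+1}(t) g⁻¹ g⁻¹` (`g4`, `g3`), so `g x_{0,M+3}(t) g⁻¹ = g³ x_{0,M+1}(t) g⁻³ = x_{0,M+1}(t)` (`H67CAG1.g_cube`: `g*g*g = 1`, so `g⁻¹*g⁻¹*g⁻¹ = 1`; `group`-style rearrangement).
`eq_all`: case distinction.  `i, j ≥ 1`: `g1`.  `i = 0` (then `j ≥ 1`): `j ≤ M`: `g2` (`sig M j = j`, `sig M 0 = 0`: `simp [sig]; omega`-style, `unfold sig; split_ifs; omega`), `j = M+1`: `g3`, `j = M+2`: `g4`, `j = M+3`: `g5`.   `j = 0`: the second components.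
-/

set_option autoImplicit false

namespace Cfsg.Agent.Lib.H67CAEQ

open Matrix Cfsg.Agent.Lib.Helper43St Cfsg.Agent.Lib.Helper43Gl Cfsg.Agent.Lib.H67CADefs

variable {F : Type*} [Field F] {P : Type*} [Group P]

theorem cube_aux {g a b c : P} (h3 : g * g * g = 1) (h1 : g * a * g⁻¹ = b)
    (h2 : g * b * g⁻¹ = c) : g * c * g⁻¹ = a := by
  subst h1
  subst h2
  have e : g * (g * (g * a * g⁻¹) * g⁻¹) * g⁻¹ = (g * g * g) * a * (g * g * g)⁻¹ := by group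
  rw [e, h3]
  simp

theorem g5 {x : ℕ → ℕ → F → P} {M : ℕ} (h : StepHyp x M) (t : F) :
    gg x M * x 0 (M + 3) t * (gg x M)⁻¹ = x 0 (M + 1) t ∧
    gg x M * x (M + 3) 0 t * (gg x M)⁻¹ = x (M + 1) 0 t :=
  ⟨cube_aux (Cfsg.Agent.Lib.H67CAG1.g_cube h) (Cfsg.Agent.Lib.H67CAG3.g3 h t).1
      (Cfsg.Agent.Lib.H67CAG4.g4 h t).1,
    cube_aux (Cfsg.Agent.Lib.H67CAG1.g_cube h) (Cfsg.Agent.Lib.H67CAG3.g3 h t).2
      (Cfsg.Agent.Lib.H67CAG4.g4 h t).2⟩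

theorem sig_small (M j : ℕ) (hj : j ≤ M) : sig M j = j := by
  unfold sig
  split_ifs <;> omega

theorem sig_1 (M : ℕ) : sig M (M + 1) = M + 2 := by
  unfold sig
  split_ifs <;> omega

theorem sig_2 (M : ℕ) : sig M (M + 2) = M + 3 := by
  unfold sig
  split_ifs <;> omega

theorem sig_3 (M : ℕ) : sig M (M + 3) = M + 1 := by
  unfold sig
  split_ifs <;> omega

theorem eq_all {x : ℕ → ℕ → F → P} {M : ℕ} (h : StepHyp x M) (i j : ℕ) (hi : i ≤ M + 3) (hj : j ≤ M + 3)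
    (hij : i ≠ j) (t : F) : gg x M * x i j t * (gg x M)⁻¹ = x (sig M i) (sig M j) t := by
  rcases Nat.eq_zero_or_pos i with rfl | hi0
  · have hj0 : 1 ≤ j := by omega
    rw [sig_small M 0 (Nat.zero_le _)]
    by_cases h1 : j ≤ M
    · rw [sig_small M j h1]
      exact (Cfsg.Agent.Lib.H67CAG2.g2 h j hj0 h1 t).1
    · have h2 : j = M + 1 ∨ j = M + 2 ∨ j = M + 3 := by omega
      rcases h2 with rfl | rfl | rfl
      · rw [sig_1]; exact (Cfsg.Agent.Lib.H67CAG3.g3 h t).1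
      · rw [sig_2]; exact (Cfsg.Agent.Lib.H67CAG4.g4 h t).1
      · rw [sig_3]; exact (g5 h t).1
  · rcases Nat.eq_zero_or_pos j with rfl | hj0
    · rw [sig_small M 0 (Nat.zero_le _)]
      by_cases h1 : i ≤ M
      · rw [sig_small M i h1]
        exact (Cfsg.Agent.Lib.H67CAG2.g2 h i hi0 h1 t).2
      · have h2 : i = M + 1 ∨ i = M + 2 ∨ i = M + 3 := by omega
        rcases h2 with rfl | rfl | rfl
        · rw [sig_1]; exact (Cfsg.Agent.Lib.H67CAG3.g3 h t).2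
        · rw [sig_2]; exact (Cfsg.Agent.Lib.H67CAG4.g4 h t).2
        · rw [sig_3]; exact (g5 h t).2
    · exact Cfsg.Agent.Lib.H67CAG1.g1 h i j hi0 hj0 hi hj hij t

end Cfsg.Agent.Lib.H67CAEQ
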