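import Mathlib
import Cfsg.Agent.Lib.Helper43StDefs
import Cfsg.Agent.Lib.Helper47AltHom

set_option autoImplicit false

/-! PROJECT 43 wave 2, piece `ncoxq`.  `w_sq`, `w_braid`, `w_comm` (piece `wh`) are extra hypotheses at the end. -/

namespace Cfsg.Agent.Lib.Helper15BPNcoxq

open Matrix Cfsg.Agent.Lib.Helper43St

variable {n : ℕ} {F : Type*} [Field F] {P : Type*} [Group P] (S : StSys n F P)

theorem coxA' (n : ℕ) (i j : Fin n) : CoxeterMatrix.A n i j =
    if i = j then 1 else (if (j : ℕ) + 1 = i ∨ (i : ℕ) + 1 = j then 3 else 2) := rfl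

theorem cube_comm {G : Type*} [Group G] {a b : G} (h : (a * b) ^ 3 = 1) : (b * a) ^ 3 = 1 := by
  have : (b * a) ^ 3 = a⁻¹ * (a * b) ^ 3 * a := by
    simp only [pow_succ, pow_zero, one_mul]; group
  rw [this, h, mul_one, inv_mul_cancel]

-- piece `ncoxq`
theorem n_coxq (hn : 3 ≤ n) [hN : (S.H.subgroupOf S.NH).Normal]
    (w_sq : ∀ (i j : Fin n) (_ : i ≠ j), S.w i j 1 * S.w i j 1 = S.hh i j (-1))
    (w_braid : ∀ (i j k : Fin n) (_ : i ≠ j) (_ : i ≠ k) (_ : j ≠ k),
      (S.w i j 1 * S.w j k 1) ^ 3 = 1)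
    (w_comm : ∀ (i j k l : Fin n) (_ : i ≠ j) (_ : k ≠ l) (_ : i ≠ k) (_ : i ≠ l)
      (_ : j ≠ k) (_ : j ≠ l), Commute (S.w i j 1) (S.w k l 1)) :
    ∃ φ : Equiv.Perm (Fin n) →* (↥S.NH ⧸ S.H.subgroupOf S.NH),
      ∀ (i j : Fin n) (_ : j.val = i.val + 1) (hw : S.w i j 1 ∈ S.NH),
        φ (Equiv.swap i j) = QuotientGroup.mk ⟨S.w i j 1, hw⟩ := by
  obtain ⟨m, rfl⟩ : ∃ m, n = m + 1 := ⟨n - 1, by omega⟩
  have hmem : ∀ k : Fin m, S.w k.castSucc k.succ 1 ∈ S.NH := fun k =>
    (le_sup_right : S.N ≤ S.H ⊔ S.N) (Subgroup.subset_closure ⟨k.castSucc, k.succ, by simp, rfl⟩)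
  obtain ⟨W, hW⟩ : ∃ W : Fin m → ↥S.NH, ∀ k, (W k : P) = S.w k.castSucc k.succ 1 :=
    ⟨fun k => ⟨_, hmem k⟩, fun k => rfl⟩
  have hne : ∀ k : Fin m, k.castSucc ≠ k.succ := fun k h => by
    have := congrArg Fin.val h
    simp at this
  have hsq : ∀ k : Fin m, (QuotientGroup.mk (W k) : ↥S.NH ⧸ S.H.subgroupOf S.NH) *
      QuotientGroup.mk (W k) = 1 := by
    intro k
    rw [← QuotientGroup.mk_mul, QuotientGroup.eq_one_iff, Subgroup.mem_subgroupOf]
    show (W k : P) * (W k : P) ∈ S.H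
    rw [hW, w_sq _ _ (hne k)]
    exact Subgroup.subset_closure ⟨_, _, -1, hne k, by simp, rfl⟩
  have hadj : ∀ i j : Fin m, i.val + 1 = j.val →
      ((QuotientGroup.mk (W i) : ↥S.NH ⧸ S.H.subgroupOf S.NH) * QuotientGroup.mk (W j)) ^ 3 = 1 := by
    intro i j hij
    rw [← QuotientGroup.mk_mul, ← QuotientGroup.mk_pow]
    have : (W i * W j) ^ 3 = 1 := by
      apply Subtype.ext
      show ((W i : P) * (W j : P)) ^ 3 = 1
      rw [hW, hW]
      have e : j.castSucc = i.succ := Fin.ext (by simp [hij])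
      rw [e]
      apply w_braid _ _ _ (hne i)
      · intro h
        have := congrArg Fin.val h
        simp at this
        omega
      · intro h
        have := congrArg Fin.val h
        simp at this
        omega
    rw [this]
    rfl
  have hfar : ∀ i j : Fin m, i.val + 1 < j.val →
      ((QuotientGroup.mk (W i) : ↥S.NH ⧸ S.H.subgroupOf S.NH) * QuotientGroup.mk (W j)) ^ 2 = 1 := by
    intro i j hij
    have hc : W i * W j = W j * W i := by
      apply Subtype.ext
      show (W i : P) * (W j : P) = (W j : P) * (W i : P)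
      rw [hW, hW]
      apply w_comm _ _ _ _ (hne i) (hne j) <;>
      · intro h
        have := congrArg Fin.val h
        simp at this
        omega
    have hc' : (QuotientGroup.mk (W i) : ↥S.NH ⧸ S.H.subgroupOf S.NH) * QuotientGroup.mk (W j) =
        QuotientGroup.mk (W j) * QuotientGroup.mk (W i) := by
      rw [← QuotientGroup.mk_mul, hc, QuotientGroup.mk_mul]
    rw [pow_two]
    calc (QuotientGroup.mk (W i) : ↥S.NH ⧸ S.H.subgroupOf S.NH) * QuotientGroup.mk (W j) *
          (QuotientGroup.mk (W i) * QuotientGroup.mk (W j))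
        = QuotientGroup.mk (W i) * QuotientGroup.mk (W j) *
          (QuotientGroup.mk (W j) * QuotientGroup.mk (W i)) := by rw [hc']
      _ = QuotientGroup.mk (W i) * (QuotientGroup.mk (W j) * QuotientGroup.mk (W j)) *
          QuotientGroup.mk (W i) := by group
      _ = 1 := by rw [hsq j, mul_one, hsq i]
  have sq_comm' : ∀ a b : ↥S.NH ⧸ S.H.subgroupOf S.NH, (a * b) ^ 2 = 1 → (b * a) ^ 2 = 1 := by
    intro a b h
    have : (b * a) ^ 2 = a⁻¹ * (a * b) ^ 2 * a := by
      simp only [pow_two]; group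
    rw [this, h, mul_one, inv_mul_cancel]
  obtain ⟨φ, hφ⟩ := Cfsg.Agent.Lib.Helper47AltHom.exists_permHom m
    (fun k => (QuotientGroup.mk (W k) : ↥S.NH ⧸ S.H.subgroupOf S.NH)) (by
      intro i j
      rw [coxA']
      by_cases hij : i = j
      · rw [if_pos hij, pow_one, hij]
        exact hsq j
      · rw [if_neg hij]
        have hv : i.val ≠ j.val := fun h => hij (Fin.ext h)
        by_cases h1 : (j : ℕ) + 1 = i ∨ (i : ℕ) + 1 = j
        · rw [if_pos h1]
          rcases h1 with h1 | h1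
          · exact cube_comm (hadj j i h1)
          · exact hadj i j h1
        · rw [if_neg h1]
          push Not at h1
          rcases lt_or_gt_of_ne hv with h2 | h2
          · exact hfar i j (by omega)
          · exact sq_comm' _ _ (hfar j i (by omega)))
  refine ⟨φ, ?_⟩
  intro i j hij hw
  have hi : i.val < m := by have := j.2; omega
  have e1 : i = (⟨i.val, hi⟩ : Fin m).castSucc := Fin.ext rfl
  have e2 : j = (⟨i.val, hi⟩ : Fin m).succ := Fin.ext (by simp [hij])
  have h1 := hφ ⟨i.val, hi⟩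
  rw [← e1, ← e2] at h1
  rw [h1]
  congr 1
  apply Subtype.ext
  rw [hW, ← e1, ← e2]

end Cfsg.Agent.Lib.Helper15BPNcoxq
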