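import Cfsg.Agent.Lib.Helper43StDefs
import Cfsg.Agent.Lib.Helper30BPRelbasic
import Cfsg.Agent.Lib.Helper36BPWh
import Cfsg.Agent.Lib.Helper67BPUdec
import Cfsg.Agent.Lib.Helper15BPVinj
import Cfsg.Agent.Lib.Helper67BPD1
import Cfsg.Agent.Lib.Helper67BPUt
import Cfsg.Agent.Lib.Helper36BPHinj
import Cfsg.Agent.Lib.Helper30BPNact
import Cfsg.Agent.Lib.Helper30BPNh
import Cfsg.Agent.Lib.Helper30BPNcox
import Cfsg.Agent.Lib.Helper15BPNcoxq
import Cfsg.Agent.Lib.Helper15BPNcoxrel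
import Cfsg.Agent.Lib.Helper30BPHu

set_option autoImplicit false

/-! Hub of project 43, wave 2: a Steinberg system maps injectively to `SL_n(F)`. -/

namespace Cfsg.Agent.Lib.Helper43StHubF

open Matrix Cfsg.Agent.Lib.Helper43St Cfsg.Agent.Lib.Helper43P3

variable {n : ℕ} {F : Type*} [Field F] {P : Type*} [Group P] (S : StSys n F P)

theorem x_zero (hn : 3 ≤ n) (i j : Fin n) (hij : i ≠ j) : S.x i j 0 = 1 :=
  Cfsg.Agent.Lib.Helper30BPRelbasic.x_zero S hn i j hij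

theorem w_sq (hn : 3 ≤ n) (i j : Fin n) (hij : i ≠ j) : S.w i j 1 * S.w i j 1 = S.hh i j (-1) :=
  Cfsg.Agent.Lib.Helper36BPWh.w_sq S hn i j hij

theorem x_mul_w (hn : 3 ≤ n) (i j : Fin n) (hij : i ≠ j) (a : F) (ha : a ≠ 0) :
    S.x i j a * S.w i j 1 = S.x j i a⁻¹ * S.hh i j (-a) * S.x i j (-a⁻¹) :=
  Cfsg.Agent.Lib.Helper36BPWh.x_mul_w S hn i j hij a ha

theorem u_inj (hn : 3 ≤ n) (y : P) (hy : y ∈ S.U) (h : S.π y = 1) : y = 1 :=
  Cfsg.Agent.Lib.Helper67BPUdec.u_inj S hn y hy h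
    (fun k v hv hh => Cfsg.Agent.Lib.Helper15BPVinj.v_inj S hn k v hv hh)

theorem d1a (hn : 3 ≤ n) (i j : Fin n) (hij : j.val = i.val + 1) (y : P) (hy : y ∈ S.U) :
    ∃ a, ∃ y' ∈ S.U' i j, y = S.x i j a * y' :=
  Cfsg.Agent.Lib.Helper67BPD1.d1a S hn i j hij y hy

theorem d1b (hn : 3 ≤ n) (i j : Fin n) (hij : j.val = i.val + 1) (y : P) (hy : y ∈ S.U' i j) :
    (S.w i j 1)⁻¹ * y * S.w i j 1 ∈ S.U :=
  Cfsg.Agent.Lib.Helper67BPD1.d1b S hn i j hij y hy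

theorem ut_U (y : P) (hy : y ∈ S.U) :
    (∀ i j, j < i → (S.π y).1 i j = 0) ∧ (∀ i, (S.π y).1 i i = 1) :=
  Cfsg.Agent.Lib.Helper67BPUt.ut_U S y hy

theorem ut_H (η : P) (hη : η ∈ S.H) : ∀ i j, i ≠ j → (S.π η).1 i j = 0 :=
  Cfsg.Agent.Lib.Helper67BPUt.ut_H S η hη

theorem h_inj (hn : 3 ≤ n) (η : P) (hη : η ∈ S.H) (h : S.π η = 1) : η = 1 :=
  Cfsg.Agent.Lib.Helper36BPHinj.h_inj S hn η hη h

theorem n_act (hn : 3 ≤ n) (ν : P) (hν : ν ∈ S.N) :
    ∃ σ : Equiv.Perm (Fin n), ∀ k l t, k ≠ l → ∃ t', ν * S.x k l t * ν⁻¹ = S.x (σ k) (σ l) t' :=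
  Cfsg.Agent.Lib.Helper30BPNact.n_act S hn ν hν

theorem n_H (hn : 3 ≤ n) (ν : P) (hν : ν ∈ S.N) (η : P) (hη : η ∈ S.H) : ν * η * ν⁻¹ ∈ S.H :=
  Cfsg.Agent.Lib.Helper30BPNh.n_H S hn ν hν η hη

theorem n_cox (hn : 3 ≤ n) (ν : P) (hν : ν ∈ S.N) (h : ∀ i j, j < i → (S.π ν).1 i j = 0) :
    ν ∈ S.H := by
  haveI := Cfsg.Agent.Lib.Helper30BPNh.nh_normal S hn
  exact Cfsg.Agent.Lib.Helper30BPNcox.n_cox S hn ν hν h
    (Cfsg.Agent.Lib.Helper15BPNcoxrel.n_coxrel S hn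
      (Cfsg.Agent.Lib.Helper15BPNcoxq.n_coxq S hn (fun i j h => w_sq S hn i j h)
        (Cfsg.Agent.Lib.Helper36BPWh.w_braid S) (Cfsg.Agent.Lib.Helper36BPWh.w_comm S))
      (ut_H S))

theorem h_U (hn : 3 ≤ n) (η : P) (hη : η ∈ S.H) (y : P) (hy : y ∈ S.U) : η * y * η⁻¹ ∈ S.U :=
  Cfsg.Agent.Lib.Helper30BPHu.h_U S hn η hη y hy

theorem gen_UN (hn : 3 ≤ n) : S.U ⊔ S.N = ⊤ :=
  Cfsg.Agent.Lib.Helper67BPD1.gen_UN S hn

/-! ## assemblies (helper43) -/

theorem bn (hn : 3 ≤ n) : BN S.U S.H (S.N : Set P) where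
  HU := h_U S hn
  WH := fun w hw η hη => n_H S hn w hw η hη
  one_mem := S.N.one_mem

theorem inC_mul_w (hn : 3 ≤ n) (i j : Fin n) (hij : j.val = i.val + 1) {g : P}
    (hg : InC S.U S.H (S.N : Set P) g) : InC S.U S.H (S.N : Set P) (g * S.w i j 1) := by
  have hne : i ≠ j := by
    intro h; rw [h] at hij; omega
  have hlt : i < j := by
    rw [Fin.lt_def]; omega
  refine (bn S hn).inC_mul_ts (S.x i j) (S.x j i) (S.w i j 1) ?_ ?_ ?_ ?_ ?_ ?_ hg
  · intro y hy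
    obtain ⟨a, y', hy', rfl⟩ := d1a S hn i j hij y hy
    exact ⟨a, y', rfl, d1b S hn i j hij y' hy'⟩
  · intro a ha
    exact ⟨a⁻¹, S.hh i j (-a), Subgroup.subset_closure ⟨i, j, -a, hne, neg_ne_zero.2 ha, rfl⟩,
      -a⁻¹, x_mul_w S hn i j hne a ha⟩
  · intro w hw
    obtain ⟨σ, hσ⟩ := n_act S hn w hw
    rcases lt_or_gt_of_ne (σ.injective.ne hne) with h | h
    · left
      intro a
      obtain ⟨t', ht'⟩ := hσ i j a hne
      rw [ht']
      exact Subgroup.subset_closure ⟨_, _, t', h, rfl⟩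
    · right
      intro a
      obtain ⟨t', ht'⟩ := hσ j i a hne.symm
      rw [ht']
      exact Subgroup.subset_closure ⟨_, _, t', h, rfl⟩
  · intro w hw
    exact ⟨1, S.H.one_mem, w * S.w i j 1,
      S.N.mul_mem hw (Subgroup.subset_closure ⟨i, j, hij, rfl⟩), by simp⟩
  · intro a
    exact Subgroup.subset_closure ⟨i, j, a, hlt, rfl⟩
  · exact x_zero S hn i j hne

/-- the subgroup of elements which stabilise `U H N U` under right multiplication -/
def stab : Subgroup P where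
  carrier := {ν | (∀ g, InC S.U S.H (S.N : Set P) g → InC S.U S.H (S.N : Set P) (g * ν)) ∧
    (∀ g, InC S.U S.H (S.N : Set P) g → InC S.U S.H (S.N : Set P) (g * ν⁻¹))}
  one_mem' := by constructor <;> intro g hg <;> simpa using hg
  mul_mem' := by
    rintro a b ⟨ha1, ha2⟩ ⟨hb1, hb2⟩
    constructor
    · intro g hg
      rw [← mul_assoc]
      exact hb1 _ (ha1 _ hg)
    · intro g hg
      rw [_root_.mul_inv_rev, ← mul_assoc]
      exact ha2 _ (hb2 _ hg)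
  inv_mem' := by
    rintro a ⟨ha1, ha2⟩
    refine ⟨ha2, ?_⟩
    intro g hg
    rw [inv_inv]
    exact ha1 g hg

theorem inC_all (hn : 3 ≤ n) (g : P) : InC S.U S.H (S.N : Set P) g := by
  have hD := bn S hn
  have hU : S.U ≤ stab S := fun y hy =>
    ⟨fun g hg => hD.inC_mul_U hg hy, fun g hg => hD.inC_mul_U hg (S.U.inv_mem hy)⟩
  have hN : S.N ≤ stab S := by
    unfold StSys.N
    rw [Subgroup.closure_le]
    rintro _ ⟨i, j, hij, rfl⟩
    have hne : i ≠ j := by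
      intro h; rw [h] at hij; omega
    refine ⟨fun g hg => inC_mul_w S hn i j hij hg, fun g hg => ?_⟩
    have e : g * (S.w i j 1)⁻¹ = g * S.w i j 1 * (S.hh i j (-1))⁻¹ := by
      rw [← w_sq S hn i j hne]; group
    rw [e]
    exact hD.inC_mul_H (inC_mul_w S hn i j hij hg)
      (S.H.inv_mem (Subgroup.subset_closure ⟨i, j, -1, hne, by simp, rfl⟩))
  have hmem : g ∈ stab S := by
    have : S.U ⊔ S.N ≤ stab S := sup_le hU hN
    rw [gen_UN S hn] at this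
    exact this trivial
  simpa using hmem.1 1 hD.inC_one

theorem injective (hn : 3 ≤ n) : Function.Injective S.π := by
  rw [injective_iff_map_eq_one]
  intro g hg
  obtain ⟨y1, h1, η, hη, w, hw, y2, h2, rfl⟩ := inC_all S hn g
  -- `π w` is upper triangular
  have hw' : S.π w = S.π η⁻¹ * S.π y1⁻¹ * S.π y2⁻¹ := by
    have : S.π y1 * S.π η * S.π w * S.π y2 = 1 := by simpa using hg
    have e : S.π w = (S.π η)⁻¹ * (S.π y1)⁻¹ * (S.π y1 * S.π η * S.π w * S.π y2) * (S.π y2)⁻¹ := by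
      group
    rw [e, this]
    simp
  have bt : ∀ z : P, (∀ i j, j < i → (S.π z).1 i j = 0) → (S.π z).1.BlockTriangular id :=
    fun z hz i j hij => hz i j hij
  have hwH : w ∈ S.H := by
    refine n_cox S hn w hw ?_
    have b1 : (S.π η⁻¹).1.BlockTriangular id :=
      bt _ (fun i j hij => ut_H S _ (S.H.inv_mem hη) i j hij.ne')
    have b2 := bt _ (ut_U S _ (S.U.inv_mem h1)).1
    have b3 := bt _ (ut_U S _ (S.U.inv_mem h2)).1
    have b4 := (b1.mul b2).mul b3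
    intro i j hij
    rw [hw']
    exact b4 hij
  -- now `g = y * η'`
  set η' := η * w with hη'
  have hη'H : η' ∈ S.H := S.H.mul_mem hη hwH
  set y := y1 * (η' * y2 * η'⁻¹) with hy
  have hyU : y ∈ S.U := S.U.mul_mem h1 (h_U S hn η' hη'H y2 h2)
  have hgy : y1 * η * w * y2 = y * η' := by rw [hy, hη']; group
  rw [hgy] at hg ⊢
  have hm : (S.π y).1 * (S.π η').1 = 1 := by
    have := congrArg Subtype.val hg
    simpa using this
  have hdiag : ∀ i, (S.π η').1 i i = 1 := by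
    intro i
    have := congrFun (congrFun hm i) i
    rw [Matrix.mul_apply, Finset.sum_eq_single i] at this
    · rw [(ut_U S y hyU).2 i] at this
      simpa using this
    · intro b _ hb
      rw [ut_H S η' hη'H b i hb, mul_zero]
    · simp
  have hη1 : S.π η' = 1 := by
    apply Subtype.ext
    ext i j
    by_cases hij : i = j
    · subst hij; simp [hdiag i]
    · rw [ut_H S η' hη'H i j hij]; simp [hij]
  have hy1 : S.π y = 1 := by
    rw [map_mul, hη1, mul_one] at hg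
    exact hg
  rw [u_inj S hn y hyU hy1, h_inj S hn η' hη'H hη1, one_mul]

end Cfsg.Agent.Lib.Helper43StHubF
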