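import Mathlib
import Cfsg.Agent.Lib.H67CADefs
import Cfsg.Agent.Lib.H67CAEmb
import Cfsg.Agent.Lib.Helper43StHubF
import Cfsg.Agent.Lib.Helper10BPSlgen

/-! Project 3351 (CA), piece `Hom`: the bridge to the landed Steinberg presentation
`Helper43StHubF.injective`. -/

set_option autoImplicit false

namespace Cfsg.Agent.Lib.H67CAHom

open Matrix Cfsg.Agent.Lib.Helper43St Cfsg.Agent.Lib.Helper43Gl Cfsg.Agent.Lib.H67CADefs

variable {F : Type*} [Field F] {P : Type*} [Group P]

theorem tv_commute {n : ℕ} (i j k l : Fin n) (hij : i ≠ j) (hkl : k ≠ l) (hjk : j ≠ k) (hil : i ≠ l)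
    (s t : F) : Commute (tv i j s : SpecialLinearGroup (Fin n) F) (tv k l t) := by
  apply Subtype.ext
  show ((tv i j s : SpecialLinearGroup (Fin n) F) : Matrix (Fin n) (Fin n) F) *
      ((tv k l t : SpecialLinearGroup (Fin n) F) : Matrix (Fin n) (Fin n) F) =
    ((tv k l t : SpecialLinearGroup (Fin n) F) : Matrix (Fin n) (Fin n) F) *
      ((tv i j s : SpecialLinearGroup (Fin n) F) : Matrix (Fin n) (Fin n) F)
  rw [tv_val i j hij, tv_val k l hkl]
  simp only [add_mul, mul_add, one_mul, mul_one, Matrix.single_mul_single_of_ne _ _ _ _ hjk,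
    Matrix.single_mul_single_of_ne _ _ _ _ hil.symm]
  abel

theorem hom_of_tri_dis {n : ℕ} (hn : 3 ≤ n) (x : ℕ → ℕ → F → P)
    (tri : ∀ τ : Fin 3 → Fin n, Function.Injective τ → Rz x 3 (fun a => (τ a).val))
    (dis : ∀ i j k l : Fin n, i ≠ j → k ≠ l → i ≠ k → i ≠ l → j ≠ k → j ≠ l →
      ∀ s t, Commute (x i.val j.val s) (x k.val l.val t)) :
    Rz x n (fun a => a.val) := by
  classical
  let X : Fin n → Fin n → F → P × SpecialLinearGroup (Fin n) F :=
    fun i j t => (x i.val j.val t, tv i j t)
  let P' : Subgroup (P × SpecialLinearGroup (Fin n) F) :=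
    Subgroup.closure {q | ∃ i j t, i ≠ j ∧ q = X i j t}
  have hXmem : ∀ i j t, i ≠ j → X i j t ∈ P' :=
    fun i j t h => Subgroup.subset_closure ⟨i, j, t, h, rfl⟩
  let xs : Fin n → Fin n → F → P' :=
    fun i j t => if h : i ≠ j then ⟨X i j t, hXmem i j t h⟩ else 1
  have hxs : ∀ i j t, i ≠ j → ((xs i j t : P') : P × SpecialLinearGroup (Fin n) F) = X i j t := by
    intro i j t h
    show (((if h : i ≠ j then ⟨X i j t, hXmem i j t h⟩ else 1 : P')) :
      P × SpecialLinearGroup (Fin n) F) = X i j t
    rw [dif_pos h]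
  let S : StSys n F P' :=
    { x := xs
      tri := by
        intro τ hτ
        obtain ⟨f, hf⟩ := tri τ hτ
        obtain ⟨E, hE⟩ := H67CAEmb.exists_emb F τ hτ
        have hr : ∀ A, (f.prod E) A ∈ P' := by
          intro A
          have hA : A ∈ Subgroup.closure
              {g : SpecialLinearGroup (Fin 3) F | ∃ i j t, i ≠ j ∧ g = tv i j t} := by
            rw [Helper10BPSlgen.sl_gen (by norm_num) F]
            trivial
          induction hA using Subgroup.closure_induction with
          | mem g hg =>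
            obtain ⟨a, b, t, hab, rfl⟩ := hg
            have : (f.prod E) (tv a b t) = X (τ a) (τ b) t := Prod.ext (hf a b t hab) (hE a b t hab)
            rw [this]
            exact hXmem _ _ _ (hτ.ne hab)
          | one => rw [map_one]; exact one_mem _
          | mul a b _ _ ha hb => rw [map_mul]; exact mul_mem ha hb
          | inv a _ ha => rw [map_inv]; exact inv_mem ha
        refine ⟨(f.prod E).codRestrict P' hr, fun a b t hab => Subtype.ext ?_⟩
        rw [hxs _ _ _ (hτ.ne hab)]
        exact Prod.ext (hf a b t hab) (hE a b t hab)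
      dis := by
        intro i j k l hij hkl hik hil hjk hjl s t
        apply Subtype.ext
        show ((xs i j s : P') : P × SpecialLinearGroup (Fin n) F) * ((xs k l t : P') : P × _) =
          ((xs k l t : P') : P × SpecialLinearGroup (Fin n) F) * ((xs i j s : P') : P × _)
        rw [hxs _ _ _ hij, hxs _ _ _ hkl]
        exact Prod.ext (dis i j k l hij hkl hik hil hjk hjl s t) (tv_commute i j k l hij hkl hjk hil s t)
      π := (MonoidHom.snd P _).comp P'.subtype
      hπ := by
        intro i j t hij
        show ((xs i j t : P') : P × SpecialLinearGroup (Fin n) F).2 = tv i j t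
        rw [hxs _ _ _ hij]
      gen := by
        have hset : {g : P' | ∃ i j t, i ≠ j ∧ g = xs i j t} =
            (Subtype.val ⁻¹' {q | ∃ i j t, i ≠ j ∧ q = X i j t} : Set P') := by
          ext g
          constructor
          · rintro ⟨i, j, t, h, rfl⟩
            exact ⟨i, j, t, h, hxs _ _ _ h⟩
          · rintro ⟨i, j, t, h, hg⟩
            exact ⟨i, j, t, h, Subtype.ext (hg.trans (hxs _ _ _ h).symm)⟩
        rw [hset]
        exact Subgroup.closure_closure_coe_preimage }
  have hinj : Function.Injective S.π := Helper43StHubF.injective S hn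
  have hsurj : Function.Surjective S.π := by
    rw [← MonoidHom.range_eq_top, eq_top_iff, ← Helper10BPSlgen.sl_gen (by omega) F,
      Subgroup.closure_le]
    rintro _ ⟨i, j, t, hij, rfl⟩
    exact ⟨S.x i j t, S.hπ i j t hij⟩
  let e : P' ≃* SpecialLinearGroup (Fin n) F := MulEquiv.ofBijective S.π ⟨hinj, hsurj⟩
  refine ⟨(MonoidHom.fst P _).comp (P'.subtype.comp e.symm.toMonoidHom), fun a b t hab => ?_⟩
  have h1 : e.symm (tv a b t) = xs a b t := by
    rw [MulEquiv.symm_apply_eq]
    exact (S.hπ a b t hab).symm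
  show ((e.symm (tv a b t) : P') : P × SpecialLinearGroup (Fin n) F).1 = x a.val b.val t
  rw [h1, hxs _ _ _ hab]

end Cfsg.Agent.Lib.H67CAHom
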