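import Mathlib
import Cfsg.Agent.Lib.H67CADefs
import Cfsg.Agent.Lib.H67CARes

/-! Project 3351 (CA), piece `Miss`.
A family of indices `T` in `0..M+3` which misses one of `0, M+1, M+2, M+3` is realized.
-/

set_option autoImplicit false

namespace Cfsg.Agent.Lib.H67CAMiss

open Matrix Cfsg.Agent.Lib.Helper43St Cfsg.Agent.Lib.Helper43Gl Cfsg.Agent.Lib.H67CADefs

variable {F : Type*} [Field F] {P : Type*} [Group P]

theorem rz_miss {x : ℕ → ℕ → F → P} {M : ℕ} (h : StepHyp x M)
    (hD : Rz x (M + 3) (fun a => sig M a.val)) (hC : Rz x (M + 3) (fun a => sig M (sig M a.val)))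
    {k : ℕ} (T : Fin k → ℕ) (hT : Function.Injective T) (hle : ∀ a, T a ≤ M + 3) (v : ℕ)
    (hv : v = 0 ∨ v = M + 1 ∨ v = M + 2 ∨ v = M + 3) (hmiss : ∀ a, T a ≠ v) : Rz x k T := by
  have s1 : sig M (M + 1) = M + 2 := by unfold sig; split_ifs <;> omega
  have s2 : sig M (M + 2) = M + 3 := by unfold sig; split_ifs <;> omega
  have s3 : sig M (M + 3) = M + 1 := by unfold sig; split_ifs <;> omega
  have sl : ∀ i, i ≤ M → sig M i = i := by
    intro i hi; unfold sig; split_ifs <;> omega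
  rcases hv with rfl | rfl | rfl | rfl
  · refine H67CARes.rz_sub h.hB T hT (fun a => ?_)
    have h1 := hmiss a
    have h2 := hle a
    exact ⟨⟨T a - 1, by omega⟩, by simp only; omega⟩
  · refine H67CARes.rz_sub hD T hT (fun a => ?_)
    have h1 := hmiss a
    have h2 := hle a
    by_cases c1 : T a ≤ M
    · exact ⟨⟨T a, by omega⟩, by simp only; exact sl _ c1⟩
    · by_cases c2 : T a = M + 2
      · exact ⟨⟨M + 1, by omega⟩, by simp only; rw [s1, c2]⟩
      · have c3 : T a = M + 3 := by omega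
        exact ⟨⟨M + 2, by omega⟩, by simp only; rw [s2, c3]⟩
  · refine H67CARes.rz_sub hC T hT (fun a => ?_)
    have h1 := hmiss a
    have h2 := hle a
    by_cases c1 : T a ≤ M
    · exact ⟨⟨T a, by omega⟩, by simp only; rw [sl _ c1, sl _ c1]⟩
    · by_cases c2 : T a = M + 3
      · exact ⟨⟨M + 1, by omega⟩, by simp only; rw [s1, s2, c2]⟩
      · have c3 : T a = M + 1 := by omega
        exact ⟨⟨M + 2, by omega⟩, by simp only; rw [s2, s3, c3]⟩
  · refine H67CARes.rz_sub h.hA T hT (fun a => ?_)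
    have h1 := hmiss a
    have h2 := hle a
    exact ⟨⟨T a, by omega⟩, rfl⟩

end Cfsg.Agent.Lib.H67CAMiss
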