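import Mathlib
import Cfsg.Agent.Lib.H67CADefs

/-! Project 3351 (CA), piece `MkX`.
PURE LOGIC: extend a family given on adjacent indices by iterated commutators.
`xu i : ℕ → F → P` by recursion: `xu i 0 t = y i (i+1) t`, `xu i (d+1) t = cm (xu i d t) (y (i+d+1) (i+d+2) 1)`   (`xu i d t` is `x i (i+d+1) t`);
`xl i 0 t = y (i+1) i t`, `xl i (d+1) t = cm (y (i+d+2) (i+d+1) 1) (xl i d t)`   (`xl i d t` is `x (i+d+1) i t`);
`x i j t = if i < j then xu i (j-i-1) t else if j < i then xl j (i-j-1) t else 1`.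
For the recursion: `i < j`, write `j = i + d + 1` (`obtain ⟨d, rfl⟩ := Nat.exists_eq_add_of_lt hij`), simplify the `if`s and the subtractions (`show`, `Nat.add_sub_cancel_left`, `omega`-proved rewrites).
-/

set_option autoImplicit false

namespace Cfsg.Agent.Lib.H67CAMkX

open Matrix Cfsg.Agent.Lib.Helper43St Cfsg.Agent.Lib.Helper43Gl Cfsg.Agent.Lib.H67CADefs

variable {F : Type*} [Field F] {P : Type*} [Group P]

/-- upper elements -/
def xu (y : ℕ → ℕ → F → P) (i : ℕ) : ℕ → F → P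
  | 0, t => y i (i + 1) t
  | (d + 1), t => cm (xu y i d t) (y (i + d + 1) (i + d + 2) 1)

/-- lower elements -/
def xl (y : ℕ → ℕ → F → P) (i : ℕ) : ℕ → F → P
  | 0, t => y (i + 1) i t
  | (d + 1), t => cm (y (i + d + 2) (i + d + 1) 1) (xl y i d t)

/-- the family -/
def xx (y : ℕ → ℕ → F → P) (i j : ℕ) (t : F) : P :=
  if i < j then xu y i (j - i - 1) t else if j < i then xl y j (i - j - 1) t else 1

theorem xx_up (y : ℕ → ℕ → F → P) (i d : ℕ) (t : F) : xx y i (i + d + 1) t = xu y i d t := by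
  unfold xx
  rw [if_pos (by omega)]
  have : i + d + 1 - i - 1 = d := by omega
  rw [this]

theorem xx_down (y : ℕ → ℕ → F → P) (i d : ℕ) (t : F) : xx y (i + d + 1) i t = xl y i d t := by
  unfold xx
  rw [if_neg (by omega), if_pos (by omega)]
  have : i + d + 1 - i - 1 = d := by omega
  rw [this]

theorem exists_x (y : ℕ → ℕ → F → P) :
    ∃ x : ℕ → ℕ → F → P, (∀ i t, x i (i + 1) t = y i (i + 1) t) ∧ (∀ i t, x (i + 1) i t = y (i + 1) i t) ∧
      (∀ i j, i < j → ∀ t, x i (j + 1) t = cm (x i j t) (x j (j + 1) 1)) ∧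
      (∀ i j, i < j → ∀ t, x (j + 1) i t = cm (x (j + 1) j 1) (x j i t)) := by
  refine ⟨xx y, ?_, ?_, ?_, ?_⟩
  · intro i t
    exact xx_up y i 0 t
  · intro i t
    exact xx_down y i 0 t
  · intro i j hij t
    obtain ⟨d, rfl⟩ := Nat.exists_eq_add_of_lt hij
    have e1 : xx y i (i + d + 1 + 1) t = xu y i (d + 1) t := xx_up y i (d + 1) t
    have e2 : xx y (i + d + 1) (i + d + 1 + 1) 1 = y (i + d + 1) (i + d + 1 + 1) 1 := xx_up y (i + d + 1) 0 1
    rw [e1, e2, xx_up]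
    rfl
  · intro i j hij t
    obtain ⟨d, rfl⟩ := Nat.exists_eq_add_of_lt hij
    have e1 : xx y (i + d + 1 + 1) i t = xl y i (d + 1) t := xx_down y i (d + 1) t
    have e2 : xx y (i + d + 1 + 1) (i + d + 1) 1 = y (i + d + 1 + 1) (i + d + 1) 1 := xx_down y (i + d + 1) 0 1
    rw [e1, e2, xx_down]
    rfl

end Cfsg.Agent.Lib.H67CAMkX
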