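import Mathlib
import Cfsg.Agent.Lib.H67CADefs
import Cfsg.Agent.Lib.H67CAMiss

/-! Project 3351 (CA), piece `Tri`: three indices cannot hit the four values `0, M+1, M+2, M+3`. -/

set_option autoImplicit false

namespace Cfsg.Agent.Lib.H67CATri

open Matrix Cfsg.Agent.Lib.Helper43St Cfsg.Agent.Lib.Helper43Gl Cfsg.Agent.Lib.H67CADefs

variable {F : Type*} [Field F] {P : Type*} [Group P]

theorem tri {x : ℕ → ℕ → F → P} {M : ℕ}
    (hmiss : ∀ (T : Fin 3 → ℕ), Function.Injective T → (∀ a, T a ≤ M + 3) → ∀ v : ℕ,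
      (v = 0 ∨ v = M + 1 ∨ v = M + 2 ∨ v = M + 3) → (∀ a, T a ≠ v) → Rz x 3 T)
    (τ : Fin 3 → Fin (M + 4)) (hτ : Function.Injective τ) : Rz x 3 (fun a => (τ a).val) := by
  have hT : Function.Injective (fun a => (τ a).val) := Fin.val_injective.comp hτ
  have hle : ∀ a, (τ a).val ≤ M + 3 := fun a => by have := (τ a).2; omega
  by_cases h0 : ∃ a, (τ a).val = 0
  · by_cases h1 : ∃ a, (τ a).val = M + 1
    · by_cases h2 : ∃ a, (τ a).val = M + 2
      · by_cases h3 : ∃ a, (τ a).val = M + 3
        · exfalso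
          obtain ⟨a0, e0⟩ := h0
          obtain ⟨a1, e1⟩ := h1
          obtain ⟨a2, e2⟩ := h2
          obtain ⟨a3, e3⟩ := h3
          have n01 : a0 ≠ a1 := fun e => by rw [e] at e0; omega
          have n02 : a0 ≠ a2 := fun e => by rw [e] at e0; omega
          have n03 : a0 ≠ a3 := fun e => by rw [e] at e0; omega
          have n12 : a1 ≠ a2 := fun e => by rw [e] at e1; omega
          have n13 : a1 ≠ a3 := fun e => by rw [e] at e1; omega
          have n23 : a2 ≠ a3 := fun e => by rw [e] at e2; omega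
          have b0 := a0.2
          have b1 := a1.2
          have b2 := a2.2
          have b3 := a3.2
          have m01 : a0.val ≠ a1.val := fun e => n01 (Fin.ext e)
          have m02 : a0.val ≠ a2.val := fun e => n02 (Fin.ext e)
          have m03 : a0.val ≠ a3.val := fun e => n03 (Fin.ext e)
          have m12 : a1.val ≠ a2.val := fun e => n12 (Fin.ext e)
          have m13 : a1.val ≠ a3.val := fun e => n13 (Fin.ext e)
          have m23 : a2.val ≠ a3.val := fun e => n23 (Fin.ext e)
          omega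
        · exact hmiss _ hT hle (M + 3) (by omega) (fun a e => h3 ⟨a, e⟩)
      · exact hmiss _ hT hle (M + 2) (by omega) (fun a e => h2 ⟨a, e⟩)
    · exact hmiss _ hT hle (M + 1) (by omega) (fun a e => h1 ⟨a, e⟩)
  · exact hmiss _ hT hle 0 (by omega) (fun a e => h0 ⟨a, e⟩)

end Cfsg.Agent.Lib.H67CATri
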