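import Mathlib
import Cfsg.Agent.Lib.H67CADefs
import Cfsg.Agent.Lib.H67CAEQ
import Cfsg.Agent.Lib.H67CAMiss
import Cfsg.Agent.Lib.H67CATri
import Cfsg.Agent.Lib.H67CADisB
import Cfsg.Agent.Lib.H67CADis
import Cfsg.Agent.Lib.H67CAHom
import Cfsg.Agent.Lib.H67CABase
import Cfsg.Agent.Lib.H67CAMkX

/-! Project 3351 (CA): assembly of the induction step and of the Curtis-Tits theorem for `SL_N(F)`. -/

set_option autoImplicit false

namespace Cfsg.Agent.Lib.H67CAStep

open Matrix Cfsg.Agent.Lib.Helper43St Cfsg.Agent.Lib.Helper43Gl Cfsg.Agent.Lib.H67CADefs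

variable {F : Type*} [Field F] {P : Type*} [Group P]

theorem step {x : ℕ → ℕ → F → P} {M : ℕ} (h : StepHyp x M) : Rz x (M + 4) (fun a => a.val) := by
  have heq := H67CAEQ.eq_all h
  have hD : Rz x (M + 3) (fun a => sig M a.val) :=
    rz_conj h.hA (gg x M) (fun a b t hab =>
      heq a.val b.val (by omega) (by omega) (fun e => hab (Fin.ext e)) t)
  have hC : Rz x (M + 3) (fun a => sig M (sig M a.val)) :=
    rz_conj hD (gg x M) (fun a b t hab =>
      heq (sig M a.val) (sig M b.val) (sig_le M _ (by omega)) (sig_le M _ (by omega))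
        (fun e => hab (Fin.ext (sig_inj M e))) t)
  refine H67CAHom.hom_of_tri_dis (by omega) x ?_ ?_
  · intro τ hτ
    exact H67CATri.tri (fun T hT hle v hv hm => H67CAMiss.rz_miss h hD hC T hT hle v hv hm) τ hτ
  · intro i j k l hij hkl hik hil hjk hjl s t
    exact H67CADis.dis (fun T hT hle v hv hm => H67CAMiss.rz_miss h hD hC T hT hle v hv hm)
      (fun p q r hpqr s t => H67CADisB.disB h heq p q r hpqr s t)
      i.val j.val k.val l.val (by omega) (by omega) (by omega) (by omega)
      (fun e => hij (Fin.ext e)) (fun e => hkl (Fin.ext e)) (fun e => hik (Fin.ext e))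
      (fun e => hil (Fin.ext e)) (fun e => hjk (Fin.ext e)) (fun e => hjl (Fin.ext e)) s t

theorem ct_interval {x : ℕ → ℕ → F → P} {N : ℕ} (h : CTHyp x N) :
    ∀ len s, s + (len + 3) ≤ N → Rz x (len + 3) (fun a => s + a.val) := by
  intro len
  induction len with
  | zero =>
    intro s hs
    exact H67CABase.base3 h s hs
  | succ len ih =>
    intro s hs
    have hA := ih s (by omega)
    have hB := ih (s + 1) (by omega)
    have key : StepHyp (fun i j => x (s + i) (s + j)) len := by
      refine ⟨hA, ?_, ?_, ?_, ?_⟩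
      · obtain ⟨Ψ, hΨ⟩ := hB
        refine ⟨Ψ, fun a b t hab => ?_⟩
        rw [hΨ a b t hab]
        have e1 : s + 1 + a.val = s + (a.val + 1) := by omega
        have e2 : s + 1 + b.val = s + (b.val + 1) := by omega
        show x (s + 1 + a.val) (s + 1 + b.val) t = x (s + (a.val + 1)) (s + (b.val + 1)) t
        rw [e1, e2]
      · intro t
        exact h.recu s (s + (len + 2)) (by omega) (by omega) t
      · intro t
        exact h.recl s (s + (len + 2)) (by omega) (by omega) t
      · intro i j hij hj u t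
        exact h.far (s + i) (s + j) (by omega) (by omega) u t
    exact step key

theorem ct_main (N : ℕ) (hN : 3 ≤ N) (y : ℕ → ℕ → F → P) (adj : Adj3 y N) (far : Far y N) :
    ∃ Ψ : SpecialLinearGroup (Fin N) F →* P, ∀ (i : ℕ) (hi : i + 1 < N) (t : F),
      Ψ (tv ⟨i, by omega⟩ ⟨i + 1, hi⟩ t) = y i (i + 1) t ∧
      Ψ (tv ⟨i + 1, hi⟩ ⟨i, by omega⟩ t) = y (i + 1) i t := by
  obtain ⟨x, hx1, hx2, hx3, hx4⟩ := H67CAMkX.exists_x y
  have h : CTHyp x N := by
    refine ⟨fun i j hij _ t => hx3 i j hij t, fun i j hij _ t => hx4 i j hij t, ?_, ?_⟩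
    · intro i hi
      obtain ⟨Φ, h1, h2, h3, h4⟩ := adj i hi
      refine ⟨Φ, fun t => ?_, fun t => ?_, fun t => ?_, fun t => ?_⟩
      · rw [h1, hx1]
      · rw [h2, hx2]
      · rw [h3]; exact (hx1 (i + 1) t).symm
      · rw [h4]; exact (hx2 (i + 1) t).symm
    · intro i j hij hj s t
      rw [hx1, hx1, hx2, hx2]
      exact far i j hij hj s t
  obtain ⟨len, rfl⟩ : ∃ len, N = len + 3 := ⟨N - 3, by omega⟩
  obtain ⟨Ψ, hΨ⟩ := ct_interval h len 0 (by omega)
  refine ⟨Ψ, fun i hi t => ⟨?_, ?_⟩⟩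
  · rw [hΨ _ _ t (by intro e; have := congrArg Fin.val e; simp at this)]
    simp only [Nat.zero_add]
    exact hx1 i t
  · rw [hΨ _ _ t (by intro e; have := congrArg Fin.val e; simp at this)]
    simp only [Nat.zero_add]
    exact hx2 i t

end Cfsg.Agent.Lib.H67CAStep
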