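import Mathlib
import Cfsg.Agent.Lib.H67CADefs

/-! Project 3351 (CA), piece `Tree`: the path `0 - 1 - … - (n-1)` is a tree. -/

set_option autoImplicit false

namespace Cfsg.Agent.Lib.H67CATree

theorem An_tree (n : ℕ) (hn : 3 ≤ n) (Adj : Fin n → Fin n → Prop)
    (hAdj : ∀ i j, Adj i j ↔ (j.val = i.val + 1 ∨ i.val = j.val + 1)) :
    ∃ (par : Fin n → Fin n) (dep : Fin n → ℕ) (root : Fin n),
      (∀ i, i ≠ root → Adj (par i) i ∧ dep (par i) < dep i) ∧
      (∀ i j, Adj i j → (j ≠ root ∧ par j = i) ∨ (i ≠ root ∧ par i = j)) ∧ (∃ k, Adj root k) ∧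
      (∀ i j, Adj i j → i ≠ j ∧ Adj j i) := by
  refine ⟨fun i => ⟨i.val - 1, by have := i.2; omega⟩, fun i => i.val, ⟨0, by omega⟩, ?_, ?_, ?_, ?_⟩
  · intro i hi
    have hi0 : i.val ≠ 0 := fun h => hi (Fin.ext h)
    refine ⟨(hAdj _ _).2 (Or.inl ?_), ?_⟩
    · show i.val = i.val - 1 + 1
      omega
    · show i.val - 1 < i.val
      omega
  · intro i j hij
    rcases (hAdj i j).1 hij with h | h
    · left
      refine ⟨fun e => ?_, Fin.ext ?_⟩
      · have := congrArg Fin.val e
        simp at this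
        omega
      · show j.val - 1 = i.val
        omega
    · right
      refine ⟨fun e => ?_, Fin.ext ?_⟩
      · have := congrArg Fin.val e
        simp at this
        omega
      · show i.val - 1 = j.val
        omega
  · exact ⟨⟨1, by omega⟩, (hAdj _ _).2 (Or.inl rfl)⟩
  · intro i j hij
    rcases (hAdj i j).1 hij with h | h
    · exact ⟨fun e => by rw [e] at h; omega, (hAdj j i).2 (Or.inr h)⟩
    · exact ⟨fun e => by rw [e] at h; omega, (hAdj j i).2 (Or.inl h)⟩

end Cfsg.Agent.Lib.H67CATree
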