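import Mathlib
import Cfsg.Agent.Lib.H67RCDefs
import Cfsg.Agent.Lib.H67RCNoSq
import Cfsg.Agent.S2475

/-! Project 3626, piece `SpecK`: the element orders of `K = {±1} × PSL₂(q)`, `q = 3^α`, `α` odd.
`Cfsg.Agent.S2475.result 3 (h4) : Set.range orderOf = {m | m ∣ 3 ∨ m ∣ (q-1)/gcd 2 (q-1) ∨ m ∣ (q+1)/gcd 2 (q-1)}` for `PSL₂(F)`; `q - 1` is even so the gcd is 2.
`Prod.orderOf : orderOf x = (orderOf x.1).lcm (orderOf x.2)`.  `orderOf (c : ℤˣ) ∣ 2` (`Int.units_sq`/`Int.units_eq_one_or`), `orderOf (-1 : ℤˣ) = 2` (`orderOf_neg_one`/`orderOf_eq_prime`).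
Arithmetic (`q % 8 = 3` by `pow_mod_eight`): `(q-1)/2` is odd, `2*((q-1)/2) = q-1`, `2 ∣ (q+1)/2`.
(→) `n = lcm a b`, `a ∣ 2`: `b ∣ 3` => `n ∣ 6`; `b ∣ (q-1)/2` => `n ∣ lcm 2 ((q-1)/2) ∣ q-1`; `b ∣ (q+1)/2` => `n ∣ (q+1)/2` (`Nat.lcm_dvd`).
(←) it is enough to find elements of orders `6`, `q-1`, `(q+1)/2` (if `n ∣ orderOf x` then `orderOf (x^(orderOf x / n)) = n`: `orderOf_pow_of_dvd`/`orderOf_pow_orderOf_div`):
   `(-1, b)` with `orderOf b = 3`, resp. `(q-1)/2` (`Nat.Coprime.lcm_eq_mul`), and `(1, b)` with `orderOf b = (q+1)/2`. -/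

set_option autoImplicit false

namespace Cfsg.Agent.Lib.H67RCSpecK

open Cfsg.Agent.Lib.H67RCDefs

theorem specK {F : Type*} [Field F] [CharP F 3] [Fintype F] (α : ℕ) (hα : 3 ≤ α) (hodd : Odd α)
    (hF : Fintype.card F = 3 ^ α) (n : ℕ) :
    (∃ k : KK F, orderOf k = n) ↔ (n ∣ 6 ∨ n ∣ 3 ^ α - 1 ∨ n ∣ (3 ^ α + 1) / 2) := by
  have h8 := Cfsg.Agent.Lib.H67RCNoSq.pow_mod_eight α hodd
  obtain ⟨m, hm⟩ : ∃ m, 3 ^ α = 8 * m + 3 := ⟨3 ^ α / 8, by omega⟩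
  have h27 : 3 ^ 3 ≤ 3 ^ α := Nat.pow_le_pow_right (by norm_num) hα
  have hS := Cfsg.Agent.S2475.result (F := F) 3 (by rw [hF]; omega)
  rw [hF, hm] at hS
  have e1 : 8 * m + 3 - 1 = 2 * (4 * m + 1) := by omega
  have e2 : 8 * m + 3 + 1 = 2 * (4 * m + 2) := by omega
  have e3 : Nat.gcd 2 (2 * (4 * m + 1)) = 2 := Nat.gcd_eq_left (Dvd.intro _ rfl)
  rw [e1, e2, e3, Nat.mul_div_cancel_left _ (by norm_num), Nat.mul_div_cancel_left _ (by norm_num)] at hS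
  rw [hm, e1, e2, Nat.mul_div_cancel_left _ (by norm_num)]
  have hex : ∀ b, (b ∣ 3 ∨ b ∣ 4 * m + 1 ∨ b ∣ 4 * m + 2) →
      ∃ x : Matrix.ProjectiveSpecialLinearGroup (Fin 2) F, orderOf x = b := by
    intro b hb
    have : b ∈ Set.range (orderOf : Matrix.ProjectiveSpecialLinearGroup (Fin 2) F → ℕ) := by
      rw [hS]; exact hb
    exact this
  have hneg : orderOf (-1 : ℤˣ) = 2 := by
    rw [orderOf_eq_iff (by norm_num)]
    refine ⟨by simp, ?_⟩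
    intro j hj hj0
    have : j = 1 := by omega
    subst this
    decide
  have hdown : ∀ (k : KK F) (n : ℕ), n ∣ orderOf k → ∃ k' : KK F, orderOf k' = n := by
    intro k n hn
    have hpos : 0 < orderOf k := orderOf_pos k
    obtain ⟨d, hd⟩ := hn
    have hd0 : d ≠ 0 := by
      rintro rfl
      rw [mul_zero] at hd
      omega
    refine ⟨k ^ d, ?_⟩
    rw [orderOf_pow_of_dvd hd0 ⟨n, by rw [hd, mul_comm]⟩, hd, Nat.mul_div_cancel _ (Nat.pos_of_ne_zero hd0)]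
  constructor
  · rintro ⟨⟨c, x⟩, rfl⟩
    rw [Prod.orderOf]
    have hc : orderOf c ∣ 2 := by
      apply orderOf_dvd_of_pow_eq_one
      rcases Int.units_eq_one_or c with rfl | rfl <;> simp
    have hx : orderOf x ∈ Set.range (orderOf : Matrix.ProjectiveSpecialLinearGroup (Fin 2) F → ℕ) := ⟨x, rfl⟩
    rw [hS] at hx
    rcases hx with hx | hx | hx
    · left
      exact Nat.lcm_dvd (hc.trans (by norm_num)) (hx.trans (by norm_num))
    · right; left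
      exact Nat.lcm_dvd (hc.trans (Dvd.intro _ rfl)) (hx.trans (Dvd.intro_left _ rfl))
    · right; right
      exact Nat.lcm_dvd (hc.trans ⟨2 * m + 1, by ring⟩) hx
  · rintro (h | h | h)
    · obtain ⟨x, hx⟩ := hex 3 (Or.inl dvd_rfl)
      refine hdown ((-1, x) : KK F) n ?_
      rw [Prod.orderOf]
      show n ∣ Nat.lcm (orderOf (-1 : ℤˣ)) (orderOf x)
      rw [hneg, hx]
      exact h
    · obtain ⟨x, hx⟩ := hex (4 * m + 1) (Or.inr (Or.inl dvd_rfl))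
      refine hdown ((-1, x) : KK F) n ?_
      rw [Prod.orderOf]
      show n ∣ Nat.lcm (orderOf (-1 : ℤˣ)) (orderOf x)
      rw [hneg, hx, Nat.Coprime.lcm_eq_mul (by
        rw [Nat.coprime_two_left]
        exact ⟨2 * m, by ring⟩)]
      exact h
    · obtain ⟨x, hx⟩ := hex (4 * m + 2) (Or.inr (Or.inr dvd_rfl))
      refine hdown ((1, x) : KK F) n ?_
      rw [Prod.orderOf]
      show n ∣ Nat.lcm (orderOf (1 : ℤˣ)) (orderOf x)
      rw [orderOf_one, hx, Nat.lcm_one_left]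
      exact h

end Cfsg.Agent.Lib.H67RCSpecK
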