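import Mathlib
import Cfsg.Agent.Lib.H67RCDefs
import Cfsg.Agent.Lib.H67RCSDp
import Cfsg.Agent.Lib.H67RCA
import Cfsg.Agent.Lib.H67RCB
import Cfsg.Agent.Lib.H67RCSpecK

/-! Project 3626: the group `H = M₂(F) ⋊ ({±1} × PSL₂(F))`, `F = GF(3^α)`, and its spectrum. -/

set_option autoImplicit false

namespace Cfsg.Agent.Lib.H67RCMain

open Cfsg.Agent.Lib.H67RCDefs

theorem exists_H (α : ℕ) (hα : 3 ≤ α) (hodd : Odd α) :
    ∃ (H : Type) (_ : Group H) (_ : Fintype H),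
      (∃ P : Subgroup H, P.Normal ∧ P ≠ ⊥ ∧ IsPGroup 3 ↥P) ∧
      ∀ n : ℕ, n ∈ Set.range (orderOf : H → ℕ) ↔
        (n ∣ 6 ∨ n ∣ 9 ∨ n ∣ 3 ^ α - 1 ∨ n ∣ (3 ^ α + 1) / 2) := by
  classical
  haveI : Fintype (GaloisField 3 α) := Fintype.ofFinite _
  have hF : Fintype.card (GaloisField 3 α) = 3 ^ α := by
    rw [← Nat.card_eq_fintype_card]
    exact GaloisField.card 3 α (by omega)
  have h3 : ∀ x : VV (GaloisField 3 α), 3 • x = 0 := by
    intro x
    ext i j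
    rw [Matrix.smul_apply, Matrix.zero_apply, nsmul_eq_mul]
    have : ((3 : ℕ) : GaloisField 3 α) = 0 := CharP.cast_eq_zero _ 3
    rw [this, zero_mul]
  obtain ⟨H, iG, iF, hP, hspec⟩ :=
    H67RCSDp.sdp (K := KK (GaloisField 3 α)) (U := VV (GaloisField 3 α)) 3 Nat.prime_three h3
  refine ⟨H, iG, Fintype.ofFinite H, hP, fun n => ?_⟩
  rw [hspec]
  constructor
  · rintro ⟨g, rfl | ⟨rfl, x, hx⟩⟩
    · rcases (H67RCSpecK.specK α hα hodd hF (orderOf g)).1 ⟨g, rfl⟩ with h | h | h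
      · exact Or.inl h
      · exact Or.inr (Or.inr (Or.inl h))
      · exact Or.inr (Or.inr (Or.inr h))
    · rcases H67RCA.claimA α hodd hF g x hx with h | h
      · exact Or.inl (Nat.mul_dvd_mul_left 3 h)
      · exact Or.inr (Or.inl (Nat.mul_dvd_mul_left 3 h))
  · have key : ∀ n : ℕ, (n ∣ 6 ∨ n ∣ 3 ^ α - 1 ∨ n ∣ (3 ^ α + 1) / 2) →
        ∃ g : KK (GaloisField 3 α), n = orderOf g ∨
          (n = 3 * orderOf g ∧ ∃ x : VV (GaloisField 3 α),
            ∑ i ∈ Finset.range (orderOf g), g ^ i • x ≠ 0) := by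
      intro n hn
      obtain ⟨k, hk⟩ := (H67RCSpecK.specK α hα hodd hF n).2 hn
      exact ⟨k, Or.inl hk.symm⟩
    rintro (h | h | h | h)
    · exact key n (Or.inl h)
    · have hn : n ∈ Nat.divisors 9 := Nat.mem_divisors.2 ⟨h, by norm_num⟩
      have hd : Nat.divisors 9 = {1, 3, 9} := by decide
      rw [hd] at hn
      simp only [Finset.mem_insert, Finset.mem_singleton] at hn
      rcases hn with rfl | rfl | rfl
      · exact key 1 (Or.inl (by norm_num))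
      · exact key 3 (Or.inl (by norm_num))
      · obtain ⟨k, hk, v, hv⟩ := H67RCB.claimB (F := GaloisField 3 α)
        exact ⟨k, Or.inr ⟨by rw [hk], v, by rw [hk]; exact hv⟩⟩
    · exact key n (Or.inr (Or.inl h))
    · exact key n (Or.inr (Or.inr h))

end Cfsg.Agent.Lib.H67RCMain
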