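import Mathlib

set_option autoImplicit false

/-! Vocabulary of project 2934 (row S2934: a non-cyclic abelian `p`-group `E` of automorphisms of a
`2`-group `W`, every `1 ≠ e ∈ E` fixing at most one involution). -/

namespace Cfsg.Agent.Lib.Helper68QEDefs

variable {W : Type*} [Group W]

/-- the fixed points of one automorphism. -/
def Fx1 (e : MulAut W) : Subgroup W where
  carrier := {w | e w = w}
  one_mem' := map_one e
  mul_mem' := by
    intro a b ha hb
    simp only [Set.mem_setOf_eq] at *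
    rw [map_mul, ha, hb]
  inv_mem' := by
    intro a ha
    simp only [Set.mem_setOf_eq] at *
    rw [map_inv, ha]

theorem mem_Fx1 {e : MulAut W} {w : W} : w ∈ Fx1 e ↔ e w = w := Iff.rfl

/-- the common fixed points of a group of automorphisms. -/
def Fx (E : Subgroup (MulAut W)) : Subgroup W where
  carrier := {w | ∀ e ∈ E, e w = w}
  one_mem' := fun e _ => map_one e
  mul_mem' := by
    intro a b ha hb e he
    rw [map_mul, ha e he, hb e he]
  inv_mem' := by
    intro a ha e he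
    rw [map_inv, ha e he]

theorem mem_Fx {E : Subgroup (MulAut W)} {w : W} : w ∈ Fx E ↔ ∀ e ∈ E, e w = w := Iff.rfl

/-- the automorphisms fixing `D` pointwise. -/
def Cz (D : Subgroup W) : Subgroup (MulAut W) where
  carrier := {f | ∀ x ∈ D, f x = x}
  one_mem' := fun _ _ => rfl
  mul_mem' := by
    intro a b ha hb x hx
    rw [MulAut.mul_apply, hb x hx, ha x hx]
  inv_mem' := by
    intro a ha x hx
    rw [MulAut.inv_apply, MulEquiv.symm_apply_eq, ha x hx]

theorem mem_Cz {D : Subgroup W} {f : MulAut W} : f ∈ Cz D ↔ ∀ x ∈ D, f x = x := Iff.rfl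

/-- `S` is `E`-invariant. -/
def InvE (E : Subgroup (MulAut W)) (S : Subgroup W) : Prop := ∀ e ∈ E, ∀ s ∈ S, e s ∈ S

/-- `S` contains at most one involution. -/
def OneInv (S : Subgroup W) : Prop :=
  ∀ x ∈ S, ∀ y ∈ S, orderOf x = 2 → orderOf y = 2 → x = y

/-- `D` is a quaternion group of order 8 with involution `z` (elementwise). -/
structure IsQ8 (D : Subgroup W) (z : W) : Prop where
  card : Nat.card D = 8
  z_mem : z ∈ D
  z_ord : orderOf z = 2
  sq : ∀ x ∈ D, x ≠ 1 → x ≠ z → x * x = z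
  nab : ∃ a ∈ D, ∃ b ∈ D, a * b ≠ b * a

/-- the standing hypotheses of S2934. -/
structure Hyp (p : ℕ) (E : Subgroup (MulAut W)) : Prop where
  pW : IsPGroup 2 W
  podd : p ≠ 2
  pE : IsPGroup p E
  comm : ∀ e ∈ E, ∀ f ∈ E, e * f = f * e
  nc : ¬ IsCyclic E
  fix : ∀ e ∈ E, e ≠ 1 → OneInv (Fx1 e)

/-- what the local analysis gives: `C_W(E) = {1, z}`; every `C_W(e)` (`1 ≠ e ∈ E`) is `≤ C_W(E)` or a
quaternion group with involution `z`; an `f ∈ E` fixing an element of `C_W(e)` outside `{1, z}` fixes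
all of `C_W(e)`; some `C_W(e)` is a quaternion group. -/
structure Cfg (E : Subgroup (MulAut W)) (z : W) : Prop where
  z_ord : orderOf z = 2
  fxE : ∀ w, w ∈ Fx E ↔ w = 1 ∨ w = z
  dich : ∀ e ∈ E, e ≠ 1 → Fx1 e ≤ Fx E ∨ IsQ8 (Fx1 e) z
  free : ∀ e ∈ E, e ≠ 1 → ∀ f ∈ E, ∀ x ∈ Fx1 e, f x = x → x ≠ 1 → x ≠ z → Fx1 e ≤ Fx1 f
  big : ∃ e ∈ E, e ≠ 1 ∧ IsQ8 (Fx1 e) z

theorem Fx_le_Fx1 {E : Subgroup (MulAut W)} {e : MulAut W} (he : e ∈ E) : Fx E ≤ Fx1 e :=
  fun _ hw => hw e he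

theorem Hyp.inv_Fx1 {p : ℕ} {E : Subgroup (MulAut W)} (h : Hyp p E) {e : MulAut W} (he : e ∈ E) :
    InvE E (Fx1 e) := by
  intro f hf x hx
  rw [mem_Fx1] at hx ⊢
  have h1 : (e * f) x = (f * e) x := by rw [h.comm e he f hf]
  rw [MulAut.mul_apply, MulAut.mul_apply, hx] at h1
  exact h1

theorem InvE.inf {E : Subgroup (MulAut W)} {S T : Subgroup W} (hS : InvE E S) (hT : InvE E T) :
    InvE E (S ⊓ T) :=
  fun e he x hx => ⟨hS e he x hx.1, hT e he x hx.2⟩

theorem invE_top (E : Subgroup (MulAut W)) : InvE E ⊤ := fun _ _ _ _ => Subgroup.mem_top _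

theorem OneInv.mono {S T : Subgroup W} (hT : OneInv T) (h : S ≤ T) : OneInv S :=
  fun x hx y hy => hT x (h hx) y (h hy)

end Cfsg.Agent.Lib.Helper68QEDefs
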