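import Mathlib
import Cfsg.Agent.Lib.Helper68QEDefs
import Cfsg.Agent.S0058

set_option autoImplicit false

namespace Cfsg.Agent.Lib.H68QEGen

open Cfsg.Agent.Lib.Helper68QEDefs

variable {W : Type*} [Group W]


/-- PIECE Gen (60m).  Generation by centralisers, transferred from the landed row `Cfsg.Agent.S0058.result` (noncyclic abelian `A` normalising `K`, coprime orders:
`⨆ a ∈ {a | a ∈ A ∧ a ≠ 1}, K ⊓ centralizer {a} = K`) to automorphisms.
Let `G := W ⋊[E.subtype] E` (`SemidirectProduct W ↥E E.subtype`; finite: `SemidirectProduct.equivProd`, `MulAut W` is finite since `W` is), `A := SemidirectProduct.inr.range`,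
`K := X.map SemidirectProduct.inl`.  `A ≃* E` (`inr` injective: `MonoidHom.ofInjective`), so `A` is commutative (`h.comm`), not cyclic (`h.nc`; transport with `isCyclic_of_surjective`/`MulEquiv.isCyclic`),
`Nat.card A = Nat.card E = p ^ k` (`h.pE`, `IsPGroup.iff_card`), `Nat.card K = Nat.card X` divides `Nat.card W = 2 ^ m`: coprime as `p ≠ 2` (`Nat.Coprime.pow`, `Nat.coprime_primes`).
`A` normalises `K`: `inr e * inl x * (inr e)⁻¹ = inl (e x)` (`SemidirectProduct.inl_aut`), both for `e` and `e⁻¹` (`Subgroup.mem_normalizer_iff`).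
Every `K ⊓ centralizer {inr e}` (`e ≠ 1`) is `≤ Y.map inl`: an element `inl x` (`x ∈ X`) commuting with `inr e` has `inl (e x) = inl x`, so `x ∈ X ⊓ Fx1 e ≤ Y`.
Hence `K ≤ Y.map inl` (`iSup₂_le`) and `X ≤ Y` (`inl` injective, `Subgroup.map_le_map_iff_of_injective`). -/
theorem gen [Finite W] {p : ℕ} [Fact p.Prime] {E : Subgroup (MulAut W)} (h : Hyp p E)
    (X : Subgroup W) (hX : InvE E X) (Y : Subgroup W)
    (hY : ∀ e ∈ E, e ≠ 1 → X ⊓ Fx1 e ≤ Y) : X ≤ Y := by
  classical
  let φ : ↥E →* MulAut W := E.subtype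
  let G := W ⋊[φ] ↥E
  haveI : Finite (MulAut W) := Finite.of_injective (fun f : MulAut W => (f : W → W))
    (fun f g hfg => MulEquiv.ext (fun x => congrFun hfg x))
  haveI : Finite G := Finite.of_equiv _ (SemidirectProduct.equivProd (φ := φ)).symm
  let inl : W →* G := SemidirectProduct.inl
  let inr : ↥E →* G := SemidirectProduct.inr
  have hinl : Function.Injective inl := SemidirectProduct.inl_injective
  have hinr : Function.Injective inr := SemidirectProduct.inr_injective
  let A : Subgroup G := inr.range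
  let K : Subgroup G := X.map inl
  let eA : ↥E ≃* ↥A := MonoidHom.ofInjective hinr
  haveI hAc : IsMulCommutative A := by
    refine ⟨⟨?_⟩⟩
    rintro ⟨_, a, rfl⟩ ⟨_, b, rfl⟩
    apply Subtype.ext
    show inr a * inr b = inr b * inr a
    rw [← map_mul, ← map_mul]
    congr 1
    exact Subtype.ext (h.comm a a.2 b b.2)
  have hAnc : ¬ IsCyclic A := by
    intro hc
    exact h.nc (isCyclic_of_surjective eA.symm eA.symm.surjective)
  have hconj : ∀ (e : ↥E) (x : W), inr e * inl x * (inr e)⁻¹ = inl ((e : MulAut W) x) := by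
    intro e x
    have := SemidirectProduct.inl_aut (φ := φ) e x
    rw [map_inv] at this
    exact this.symm
  have hAK : A ≤ Subgroup.normalizer (K : Set G) := by
    rintro _ ⟨e, rfl⟩
    rw [Subgroup.mem_normalizer_iff]
    intro g
    constructor
    · rintro ⟨x, hx, rfl⟩
      exact ⟨(e : MulAut W) x, hX e e.2 x hx, (hconj e x).symm⟩
    · rintro ⟨y, hy, hyg⟩
      refine ⟨((e⁻¹ : ↥E) : MulAut W) y, hX _ (e⁻¹).2 y hy, ?_⟩
      rw [← hconj, hyg, map_inv, inv_inv]
      simp only [mul_assoc, inv_mul_cancel, mul_one, inv_mul_cancel_left]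
  have hcop : (Nat.card A).Coprime (Nat.card K) := by
    obtain ⟨k, hk⟩ := IsPGroup.iff_card.mp h.pE
    haveI : Fact (Nat.Prime 2) := ⟨Nat.prime_two⟩
    obtain ⟨m, hm⟩ := IsPGroup.iff_card.mp (h.pW.to_subgroup X)
    have h1 : Nat.card A = p ^ k := by rw [← hk]; exact (Nat.card_congr eA.toEquiv).symm
    have h2 : Nat.card K = 2 ^ m := by
      rw [← hm]
      exact Subgroup.card_map_of_injective hinl
    rw [h1, h2]
    apply Nat.Coprime.pow
    exact (Nat.coprime_primes Fact.out Nat.prime_two).mpr h.podd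
  have key := Cfsg.Agent.S0058.result A K hAnc hAK hcop
  have hle : K ≤ Y.map inl := by
    rw [← key]
    apply iSup₂_le
    rintro a ⟨⟨e, rfl⟩, hne⟩
    rintro g ⟨⟨x, hx, rfl⟩, hg⟩
    have hg' : inl x ∈ Subgroup.centralizer {inr e} := hg
    rw [Subgroup.mem_centralizer_iff] at hg'
    have h1 := hg' (inr e) (Set.mem_singleton _)
    have h2 : inl ((e : MulAut W) x) = inl x := by
      rw [← hconj, h1, mul_assoc, mul_inv_cancel, mul_one]
    have h3 : (e : MulAut W) x = x := hinl h2
    have he1 : (e : MulAut W) ≠ 1 := by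
      intro h0
      apply hne
      have : e = 1 := Subtype.ext h0
      rw [this, map_one]
    exact ⟨x, hY e e.2 he1 ⟨hx, h3⟩, rfl⟩
  exact (Subgroup.map_le_map_iff_of_injective hinl).mp hle

end Cfsg.Agent.Lib.H68QEGen
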