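import Mathlib

set_option autoImplicit false

namespace Cfsg.Agent.Lib.H68QEFixQ8

/-- the subgroup of fixed points -/
def fixS {X : Type*} [Group X] (σ : MulAut X) : Subgroup X where
  carrier := {x | σ x = x}
  one_mem' := map_one σ
  mul_mem' := by
    intro a b ha hb
    simp only [Set.mem_ofPred_eq] at *
    rw [map_mul, ha, hb]
  inv_mem' := by
    intro a ha
    simp only [Set.mem_ofPred_eq] at *
    rw [map_inv, ha]

theorem mem_fixS {X : Type*} [Group X] (σ : MulAut X) (x : X) : x ∈ fixS σ ↔ σ x = x := Iff.rfl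

theorem card_modEq_fix {X : Type*} [Group X] [Finite X] {p : ℕ} [Fact p.Prime] (σ : MulAut X)
    (k : ℕ) (hk : σ ^ p ^ k = 1) : Nat.card X ≡ Nat.card (fixS σ) [MOD p] := by
  have hP : IsPGroup p (Subgroup.zpowers σ) := by
    rintro ⟨g, hg⟩
    obtain ⟨n, rfl⟩ := Subgroup.mem_zpowers_iff.1 hg
    refine ⟨k, Subtype.ext ?_⟩
    simp only [SubgroupClass.coe_pow, Subgroup.coe_one]
    rw [← zpow_natCast, ← zpow_mul, mul_comm, zpow_mul, zpow_natCast, hk, one_zpow]
  have h1 := hP.card_modEq_card_fixedPoints X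
  have h2 : (MulAction.fixedPoints (Subgroup.zpowers σ) X) = (fixS σ : Set X) := by
    ext x
    rw [MulAction.mem_fixedPoints, SetLike.mem_coe, mem_fixS]
    constructor
    · intro h
      exact h ⟨σ, Subgroup.mem_zpowers σ⟩
    · rintro h ⟨g, hg⟩
      have hle : Subgroup.zpowers σ ≤ MulAction.stabilizer (MulAut X) x := by
        rw [Subgroup.zpowers_le, MulAction.mem_stabilizer_iff]
        exact h
      exact MulAction.mem_stabilizer_iff.1 (hle hg)
  rw [h2] at h1
  exact h1

/-- PIECE FixQ8 (45m). -/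
theorem fix_q8 {X : Type*} [Group X] [Finite X] (hc : Nat.card X = 8) (z : X) (hz : orderOf z = 2)
    (huniq : ∀ y : X, orderOf y = 2 → y = z) {p : ℕ} [Fact p.Prime] (hp : p ≠ 2)
    (σ : MulAut X) (hσ : σ ≠ 1) (k : ℕ) (hk : σ ^ p ^ k = 1) :
    p = 3 ∧ ∀ x : X, σ x = x → x = 1 ∨ x = z := by
  have hpp : p.Prime := Fact.out
  have hmod := card_modEq_fix σ k hk
  rw [hc] at hmod
  have hzF : z ∈ fixS σ := by
    rw [mem_fixS]
    apply huniq
    rw [MulEquiv.orderOf_eq, hz]
  have hz1 : z ≠ 1 := by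
    intro h
    rw [h, orderOf_one] at hz
    omega
  have hd : Nat.card (fixS σ) ∣ 8 := hc ▸ Subgroup.card_subgroup_dvd_card _
  have h2d : 2 ∣ Nat.card (fixS σ) := by
    have := orderOf_dvd_natCard (⟨z, hzF⟩ : fixS σ)
    rwa [Subgroup.orderOf_mk, hz] at this
  have hne8 : Nat.card (fixS σ) ≠ 8 := by
    intro h
    have : fixS σ = ⊤ := Subgroup.eq_top_of_card_eq _ (by rw [h, hc])
    apply hσ
    ext x
    have hx : x ∈ fixS σ := this ▸ Subgroup.mem_top x
    exact hx
  have hle : Nat.card (fixS σ) ≤ 8 := Nat.le_of_dvd (by norm_num) hd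
  have hcases : Nat.card (fixS σ) = 2 ∨ Nat.card (fixS σ) = 4 := by
    generalize Nat.card (fixS σ) = n at *
    interval_cases n <;> omega
  rcases hcases with h2 | h4
  · rw [h2] at hmod
    have h6 : p ∣ 6 := by
      have := (Nat.modEq_iff_dvd' (by norm_num : 2 ≤ 8)).1 hmod.symm
      simpa using this
    have hp3 : p = 3 := by
      have h23 : (6 : ℕ) = 2 * 3 := by norm_num
      rw [h23] at h6
      rcases hpp.dvd_mul.1 h6 with h | h
      · exact absurd ((Nat.prime_dvd_prime_iff_eq hpp Nat.prime_two).1 h) hp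
      · exact (Nat.prime_dvd_prime_iff_eq hpp Nat.prime_three).1 h
    refine ⟨hp3, ?_⟩
    intro x hx
    -- `F = {1, z}`
    have hzp : Nat.card (Subgroup.zpowers z) = 2 := by rw [Nat.card_zpowers, hz]
    have hle2 : Subgroup.zpowers z ≤ fixS σ := by rw [Subgroup.zpowers_le]; exact hzF
    have heq := Subgroup.eq_of_le_of_card_ge hle2 (by rw [h2, hzp])
    have hxz : x ∈ Subgroup.zpowers z := by rw [heq]; exact hx
    obtain ⟨n, hn⟩ := (mem_powers_iff_mem_zpowers).2 hxz
    have hzz : z ^ 2 = 1 := by rw [← hz]; exact pow_orderOf_eq_one z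
    rcases Nat.even_or_odd' n with ⟨m, rfl | rfl⟩
    · left
      rw [← hn]
      change z ^ (2 * m) = 1
      rw [pow_mul, hzz, one_pow]
    · right
      rw [← hn]
      change z ^ (2 * m + 1) = z
      rw [pow_succ, pow_mul, hzz, one_pow, one_mul]
  · exfalso
    rw [h4] at hmod
    have h4' : p ∣ 4 := by
      have := (Nat.modEq_iff_dvd' (by norm_num : 4 ≤ 8)).1 hmod.symm
      simpa using this
    have h22 : (4 : ℕ) = 2 ^ 2 := by norm_num
    rw [h22] at h4'
    exact hp ((Nat.prime_dvd_prime_iff_eq hpp Nat.prime_two).1 (hpp.dvd_of_dvd_pow h4'))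

end Cfsg.Agent.Lib.H68QEFixQ8
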