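import Mathlib

set_option autoImplicit false

namespace Cfsg.Agent.Lib.H68QEQ8

theorem q8_sq : ∀ x : QuaternionGroup 2, x ≠ 1 → x ≠ QuaternionGroup.a 2 →
    x * x = QuaternionGroup.a 2 := by
  decide

theorem q8_nc : (QuaternionGroup.a 1 : QuaternionGroup 2) * QuaternionGroup.xa 0
    ≠ QuaternionGroup.xa 0 * QuaternionGroup.a 1 := by
  decide

theorem q8_ord : orderOf (QuaternionGroup.a 2 : QuaternionGroup 2) = 2 := by
  apply orderOf_eq_prime
  · decide
  · decide

/-- PIECE Q8 (30m). -/
theorem q8_props {X : Type*} [Group X] (e : X ≃* QuaternionGroup 2) :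
    Nat.card X = 8 ∧ ∃ z : X, orderOf z = 2 ∧ (∀ x : X, x ≠ 1 → x ≠ z → x * x = z) ∧
      ∃ a b : X, a * b ≠ b * a := by
  refine ⟨?_, e.symm (QuaternionGroup.a 2), ?_, ?_, e.symm (QuaternionGroup.a 1),
    e.symm (QuaternionGroup.xa 0), ?_⟩
  · rw [Nat.card_congr e.toEquiv, Nat.card_eq_fintype_card, QuaternionGroup.card]
  · rw [MulEquiv.orderOf_eq, q8_ord]
  · intro x hx1 hxz
    apply e.injective
    rw [map_mul, MulEquiv.apply_symm_apply]
    apply q8_sq
    · intro h
      apply hx1
      apply e.injective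
      rw [h, map_one]
    · intro h
      apply hxz
      apply e.injective
      rw [h, MulEquiv.apply_symm_apply]
  · intro h
    rw [← map_mul, ← map_mul] at h
    exact q8_nc (e.symm.injective h)

end Cfsg.Agent.Lib.H68QEQ8
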