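import Mathlib
import Cfsg.Agent.S0016
import Cfsg.Agent.Lib.Helper3MetaAut

set_option autoImplicit false

namespace Cfsg.Agent.Lib.H68QEMeta

/-- a group with a cyclic subgroup of index 2 is metacyclic. -/
theorem metacyclic_of_index_two {X : Type*} [Group X] (N : Subgroup X) (hN : IsCyclic N)
    (hi : N.index = 2) : Cfsg.IsMetacyclic X := by
  have hn : N.Normal := Subgroup.normal_of_index_eq_two hi
  refine ⟨N, hn, hN, ?_⟩
  have : Fact (Nat.Prime 2) := ⟨Nat.prime_two⟩
  exact isCyclic_of_prime_card (p := 2) hi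

/-- PIECE Meta.  A finite `2`-group with at most one involution is metacyclic. -/
theorem metacyclic {X : Type*} [Group X] [Finite X] (hX : IsPGroup 2 X)
    (h1 : ∀ x y : X, orderOf x = 2 → orderOf y = 2 → x = y) : Cfsg.IsMetacyclic X := by
  have : Fact (Nat.Prime 2) := ⟨Nat.prime_two⟩
  have huniq : ∀ H K : Subgroup X, Nat.card H = 2 → Nat.card K = 2 → H = K := by
    have key : ∀ H : Subgroup X, Nat.card H = 2 → ∃ x, orderOf x = 2 ∧ H = Subgroup.zpowers x := by
      intro H hH
      have : Nontrivial H := Finite.one_lt_card_iff_nontrivial.mp (by omega)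
      obtain ⟨⟨x, hx⟩, hx1⟩ := exists_ne (1 : H)
      have ho : orderOf x = 2 := by
        have h1 : orderOf (⟨x, hx⟩ : H) ∣ 2 := hH ▸ orderOf_dvd_natCard _
        rcases (Nat.dvd_prime Nat.prime_two).mp h1 with h | h
        · exact absurd (orderOf_eq_one_iff.mp h) hx1
        · rw [← Subgroup.orderOf_mk x hx]; exact h
      refine ⟨x, ho, ?_⟩
      symm
      apply Subgroup.eq_of_le_of_card_ge (by rwa [Subgroup.zpowers_le])
      rw [Nat.card_zpowers, ho, hH]
    intro H K hH hK
    obtain ⟨x, hx, rfl⟩ := key H hH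
    obtain ⟨y, hy, rfl⟩ := key K hK
    rw [h1 x y hx hy]
  rcases Cfsg.Agent.S0016.result 2 hX huniq with hc | ⟨-, n, ⟨e⟩⟩
  · refine ⟨⊤, inferInstance, ?_, ?_⟩
    · exact isCyclic_of_surjective (Subgroup.topEquiv (G := X)).symm (Subgroup.topEquiv (G := X)).symm.surjective
    · exact isCyclic_of_surjective (QuotientGroup.mk' (⊤ : Subgroup X)) (QuotientGroup.mk'_surjective _)
  · apply metacyclic_of_index_two (Subgroup.zpowers (e.symm (QuaternionGroup.a 1))) inferInstance
    have hc1 : Nat.card (Subgroup.zpowers (e.symm (QuaternionGroup.a 1))) = 2 * 2 ^ n := by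
      rw [Nat.card_zpowers, MulEquiv.orderOf_eq, QuaternionGroup.orderOf_a_one]
    have hc2 : Nat.card X = 4 * 2 ^ n := by
      rw [Nat.card_congr e.toEquiv, Nat.card_eq_fintype_card, QuaternionGroup.card]
    have h3 := Subgroup.card_mul_index (Subgroup.zpowers (e.symm (QuaternionGroup.a 1)))
    rw [hc1, hc2] at h3
    have hpos : 0 < 2 ^ n := by positivity
    nlinarith

end Cfsg.Agent.Lib.H68QEMeta
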