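import Mathlib
import Cfsg.Agent.Lib.H68QEMeta
import Cfsg.Agent.Lib.Helper3MetaAut

set_option autoImplicit false

namespace Cfsg.Agent.Lib.H68QEQuat

/-- PIECE Quat. -/
theorem quat {X : Type*} [Group X] [Finite X] (hX : IsPGroup 2 X)
    (h1 : ∀ x y : X, orderOf x = 2 → orderOf y = 2 → x = y) {p : ℕ} [Fact p.Prime] (hp : p ≠ 2)
    (σ : MulAut X) (hσ : σ ≠ 1) (k : ℕ) (hk : σ ^ p ^ k = 1) :
    Nonempty (X ≃* QuaternionGroup 2) := by
  have : Fact (Nat.Prime 2) := ⟨Nat.prime_two⟩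
  have hA : ¬ IsPGroup 2 (MulAut X) := by
    intro hA
    obtain ⟨j, hj⟩ := hA σ
    apply hσ
    have h1 : orderOf σ ∣ 2 ^ j := orderOf_dvd_of_pow_eq_one hj
    have h2 : orderOf σ ∣ p ^ k := orderOf_dvd_of_pow_eq_one hk
    have hcop : Nat.Coprime (2 ^ j) (p ^ k) :=
      Nat.Coprime.pow _ _ ((Nat.coprime_primes Nat.prime_two Fact.out).mpr (Ne.symm hp))
    exact orderOf_eq_one_iff.mp (Nat.eq_one_of_dvd_coprimes hcop h1 h2)
  rcases Cfsg.Agent.Lib.Helper3MetaAut.main hX (Cfsg.Agent.Lib.H68QEMeta.metacyclic hX h1) hA with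
    h | ⟨n, ⟨e⟩⟩
  · exact h
  · exfalso
    rcases Nat.eq_zero_or_pos n with rfl | hn
    · have h0 : Subsingleton (ZMod (2 ^ 0)) := by
        rw [pow_zero]; infer_instance
      have h00 : Subsingleton (Multiplicative (ZMod (2 ^ 0))) := h0
      have hs : Subsingleton X := e.toEquiv.subsingleton
      apply hσ
      ext x
      exact Subsingleton.elim _ _
    · let c : Multiplicative (ZMod (2 ^ n)) := Multiplicative.ofAdd ((2 ^ (n - 1) : ℕ) : ZMod (2 ^ n))
      have hc1 : c ≠ 1 := by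
        intro h
        have h' : ((2 ^ (n - 1) : ℕ) : ZMod (2 ^ n)) = 0 := h
        rw [ZMod.natCast_eq_zero_iff] at h'
        have h2 : 2 ^ n ≤ 2 ^ (n - 1) := Nat.le_of_dvd (by positivity) h'
        have h3 : 2 ^ (n - 1) < 2 ^ n := Nat.pow_lt_pow_right (by norm_num) (by omega)
        omega
      have hc2 : c ^ 2 = 1 := by
        have h' : ((2 ^ (n - 1) : ℕ) : ZMod (2 ^ n)) + ((2 ^ (n - 1) : ℕ) : ZMod (2 ^ n)) = 0 := by
          rw [← Nat.cast_add, ZMod.natCast_eq_zero_iff]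
          have : 2 ^ (n - 1) + 2 ^ (n - 1) = 2 ^ n := by
            obtain ⟨m, rfl⟩ : ∃ m, n = m + 1 := ⟨n - 1, by omega⟩
            simp [pow_succ]; ring
          rw [this]
        rw [pow_two]
        exact h'
      have o1 : orderOf (e.symm (c, 1)) = 2 := by
        rw [MulEquiv.orderOf_eq]
        apply orderOf_eq_prime
        · ext <;> simp [hc2]
        · intro h; exact hc1 (congrArg Prod.fst h)
      have o2 : orderOf (e.symm (1, c)) = 2 := by
        rw [MulEquiv.orderOf_eq]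
        apply orderOf_eq_prime
        · ext <;> simp [hc2]
        · intro h; exact hc1 (congrArg Prod.snd h)
      have h5 := e.symm.injective (h1 _ _ o1 o2)
      exact hc1 (congrArg Prod.fst h5)

end Cfsg.Agent.Lib.H68QEQuat
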