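import Mathlib
import Cfsg.Agent.Lib.H68QEQuat
import Cfsg.Agent.Lib.H68QEQ8
import Cfsg.Agent.Lib.H68QEFixQ8

set_option autoImplicit false

namespace Cfsg.Agent.Lib.H68QELocalT

/-- PIECE LocalT (20m, assembly).  `Quat.quat` gives `e : X ≃* QuaternionGroup 2`, `Q8.q8_props e` gives `z`; `huniq` for `FixQ8.fix_q8` is `h1 y z`. -/
theorem localT {X : Type*} [Group X] [Finite X] (hX : IsPGroup 2 X)
    (h1 : ∀ x y : X, orderOf x = 2 → orderOf y = 2 → x = y) {p : ℕ} [Fact p.Prime] (hp : p ≠ 2)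
    (σ : MulAut X) (hσ : σ ≠ 1) (k : ℕ) (hk : σ ^ p ^ k = 1) :
    p = 3 ∧ Nat.card X = 8 ∧ ∃ z : X, orderOf z = 2 ∧ (∀ x : X, x ≠ 1 → x ≠ z → x * x = z) ∧
      (∃ a b : X, a * b ≠ b * a) ∧ ∀ x : X, σ x = x → x = 1 ∨ x = z := by
  obtain ⟨e⟩ := H68QEQuat.quat hX h1 hp σ hσ k hk
  obtain ⟨hc, z, hz, hsq, hnab⟩ := H68QEQ8.q8_props e
  obtain ⟨hp3, hfix⟩ := H68QEFixQ8.fix_q8 hc z hz (fun y hy => h1 y z hy hz) hp σ hσ k hk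
  exact ⟨hp3, hc, z, hz, hsq, hnab, hfix⟩

end Cfsg.Agent.Lib.H68QELocalT
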