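import Mathlib

set_option autoImplicit false

namespace Cfsg.Agent.Lib.H68QERes

/-- PIECE Res.  Restriction of an automorphism to an invariant subgroup of a finite group. -/
theorem exists_res {W : Type*} [Group W] [Finite W] (D : Subgroup W) (f : MulAut W)
    (hf : ∀ s ∈ D, f s ∈ D) :
    ∃ σ : MulAut ↥D, (∀ x : ↥D, ((σ x : ↥D) : W) = f x) ∧ ∀ n : ℕ, f ^ n = 1 → σ ^ n = 1 := by
  let φ : ↥D →* ↥D :=
    { toFun := fun x => ⟨f x, hf x x.2⟩
      map_one' := Subtype.ext (map_one f)
      map_mul' := fun x y => Subtype.ext (map_mul f (x : W) (y : W)) }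
  have hinj : Function.Injective φ := by
    intro x y h
    exact Subtype.ext (f.injective (congrArg Subtype.val h))
  have hbij : Function.Bijective φ := Finite.injective_iff_bijective.mp hinj
  let σ : MulAut ↥D := MulEquiv.ofBijective φ hbij
  have hσ : ∀ x : ↥D, ((σ x : ↥D) : W) = f x := fun x => rfl
  refine ⟨σ, hσ, ?_⟩
  have hpow : ∀ (n : ℕ) (x : ↥D), (((σ ^ n) x : ↥D) : W) = (f ^ n) x := by
    intro n
    induction n with
    | zero => intro x; rfl
    | succ n ih =>
      intro x
      rw [pow_succ', pow_succ', MulAut.mul_apply, MulAut.mul_apply, hσ, ih]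
  intro n hn
  apply MulEquiv.ext
  intro x
  apply Subtype.ext
  rw [hpow, hn]
  rfl

end Cfsg.Agent.Lib.H68QERes
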