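import Mathlib
import Cfsg.Agent.Lib.Helper68QEDefs
import Cfsg.Agent.Lib.H68QELocalT
import Cfsg.Agent.Lib.H68QERes

set_option autoImplicit false

namespace Cfsg.Agent.Lib.H68QELocal

open Cfsg.Agent.Lib.Helper68QEDefs

variable {W : Type*} [Group W]


/-- PIECE Local (60m, translation `D ↔ ↥D`).  Suppose `¬ D ≤ Fx E`: there are `f₀ ∈ E`, `x₀ ∈ D` with `f₀ x₀ ≠ x₀`.  For `f ∈ E` let `σ_f` be its restriction to `↥D` (`Res.exists_res D f (hD f hf)`);
`f ^ p ^ k = 1` for some `k` (`h.pE ⟨f, hf⟩`, `Subtype.ext_iff`), so `σ_f ^ p ^ k = 1`; `σ_f ≠ 1` iff `f` moves an element of `D`.  `↥D` is a `2`-group (`h.pW.to_subgroup D`) with at most one involution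
(`h1`, `Subgroup.orderOf_coe`/`Subgroup.orderOf_mk`).  `LocalT.localT` for `σ_{f₀}` gives `p = 3`, `Nat.card D = 8`, `z` etc.: `IsQ8 D z`.
Last clause: if `f ∈ E` fixes `x ∈ D`, `x ≠ 1`, `x ≠ z` and moves some element of `D`, then `LocalT.localT` for `σ_f` gives `z'` of order 2 (so `z' = z` by `h1`) with `x = 1 ∨ x = z'`: contradiction. -/
theorem local_dich [Finite W] {p : ℕ} [Fact p.Prime] {E : Subgroup (MulAut W)} (h : Hyp p E)
    (D : Subgroup W) (hD : InvE E D) (h1 : OneInv D) :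
    D ≤ Fx E ∨ (p = 3 ∧ ∃ z, IsQ8 D z ∧
      ∀ f ∈ E, ∀ x ∈ D, f x = x → x ≠ 1 → x ≠ z → D ≤ Fx1 f) := by
  by_cases hle : D ≤ Fx E
  · left
    exact hle
  right
  have hex : ∃ f₀ ∈ E, ∃ x₀ ∈ D, f₀ x₀ ≠ x₀ := by
    by_contra hcon
    push Not at hcon
    exact hle (fun x hx f hf => hcon f hf x hx)
  obtain ⟨f₀, hf₀, x₀, hx₀, hmove⟩ := hex
  have hDp : IsPGroup 2 ↥D := h.pW.to_subgroup D
  have h1' : ∀ x y : ↥D, orderOf x = 2 → orderOf y = 2 → x = y := by
    intro x y hx hy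
    apply Subtype.ext
    apply h1 x x.2 y y.2
    · rw [Subgroup.orderOf_coe]
      exact hx
    · rw [Subgroup.orderOf_coe]
      exact hy
  have key : ∀ f ∈ E, (∃ x ∈ D, f x ≠ x) → p = 3 ∧ Nat.card D = 8 ∧ ∃ z : ↥D, orderOf z = 2 ∧
      (∀ x : ↥D, x ≠ 1 → x ≠ z → x * x = z) ∧ (∃ a b : ↥D, a * b ≠ b * a) ∧
      ∀ x : ↥D, f x = x → x = 1 ∨ x = z := by
    rintro f hf ⟨x, hx, hfx⟩
    obtain ⟨σ, hσ, hpow⟩ := H68QERes.exists_res D f (hD f hf)
    obtain ⟨k, hk⟩ := h.pE ⟨f, hf⟩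
    have hk' : f ^ p ^ k = 1 := by
      have := congrArg Subtype.val hk
      simpa using this
    have hσ1 : σ ≠ 1 := by
      intro h0
      apply hfx
      have := hσ ⟨x, hx⟩
      rw [h0] at this
      exact this.symm
    obtain ⟨hp3, hc, z, hz, hsq, hnab, hfix⟩ :=
      H68QELocalT.localT hDp h1' h.podd σ hσ1 k (hpow _ hk')
    refine ⟨hp3, hc, z, hz, hsq, hnab, ?_⟩
    intro y hy
    apply hfix
    apply Subtype.ext
    rw [hσ]
    exact hy
  obtain ⟨hp3, hc, z, hz, hsq, ⟨a, b, hab⟩, hfix⟩ := key f₀ hf₀ ⟨x₀, hx₀, hmove⟩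
  refine ⟨hp3, (z : W), ?_, ?_⟩
  · exact
    { card := hc
      z_mem := z.2
      z_ord := by
        rw [Subgroup.orderOf_coe]
        exact hz
      sq := by
        intro x hx hx1 hxz
        have := hsq ⟨x, hx⟩ (by intro h0; exact hx1 (congrArg Subtype.val h0))
          (by intro h0; exact hxz (congrArg Subtype.val h0))
        exact congrArg Subtype.val this
      nab := ⟨a, a.2, b, b.2, fun h0 => hab (Subtype.ext h0)⟩ }
  · intro f hf x hx hfx hx1 hxz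
    by_contra hcon
    have hex2 : ∃ y ∈ D, f y ≠ y := by
      by_contra hc2
      push Not at hc2
      exact hcon (fun y hy => hc2 y hy)
    obtain ⟨-, -, z', hz', -, -, hfix'⟩ := key f hf hex2
    have hzz : z' = z := h1' z' z hz' hz
    rcases hfix' ⟨x, hx⟩ hfx with h0 | h0
    · exact hx1 (congrArg Subtype.val h0)
    · rw [hzz] at h0
      exact hxz (congrArg Subtype.val h0)

end Cfsg.Agent.Lib.H68QELocal
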