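import Mathlib
import Cfsg.Agent.Lib.Helper68QEDefs
import Cfsg.Agent.Lib.H68QEGen
import Cfsg.Agent.Lib.H68QELocal

set_option autoImplicit false

namespace Cfsg.Agent.Lib.H68QEAbel

open Cfsg.Agent.Lib.Helper68QEDefs

variable {W : Type*} [Group W]


/-- PIECE Abel (30m).  Every `E`-invariant abelian subgroup lies in `C_W(E)`.  `Gen.gen h B hB (Fx E)`: for `1 ≠ e ∈ E` the subgroup `B ⊓ Fx1 e` is `E`-invariant (`InvE.inf hB (h.inv_Fx1 he)`) with at most one involution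
(`(h.fix e he hne).mono inf_le_right`); `Local.local_dich` gives `B ⊓ Fx1 e ≤ Fx E` or `IsQ8 (B ⊓ Fx1 e) z`, whose field `nab` contradicts `hab`. -/
theorem abel [Finite W] {p : ℕ} [Fact p.Prime] {E : Subgroup (MulAut W)} (h : Hyp p E)
    (B : Subgroup W) (hB : InvE E B) (hab : ∀ a ∈ B, ∀ b ∈ B, a * b = b * a) : B ≤ Fx E := by
  apply H68QEGen.gen h B hB (Fx E)
  intro e he hne
  rcases H68QELocal.local_dich h (B ⊓ Fx1 e) (InvE.inf hB (h.inv_Fx1 he))
    ((h.fix e he hne).mono inf_le_right) with h1 | ⟨-, z, hq, -⟩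
  · exact h1
  · obtain ⟨a, ha, b, hb, hne2⟩ := hq.nab
    exact absurd (hab a ha.1 b hb.1) hne2

end Cfsg.Agent.Lib.H68QEAbel
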