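import Mathlib

set_option autoImplicit false

namespace Cfsg.Agent.Lib.H68QEAr

/-- PIECE Ar (15m, arithmetic).  `2 ^ a % 3 = 2` iff `a` is odd (induction / `Nat.pow_mod`, `a = 2 * t` or `2 * t + 1`, `4 ^ t % 3 = 1`); `8 < 2 ^ a ≤ 2 ^ 9` gives `3 < a ≤ 9` (`Nat.pow_lt_pow_iff_right`, `Nat.pow_le_pow_iff_right`). `interval_cases a`. -/
theorem ar (a : ℕ) (h3 : 2 ^ a % 3 = 2) (hlo : 8 < 2 ^ a) (hhi : 2 ^ a ≤ 2 ^ 9) :
    a = 5 ∨ a = 7 ∨ a = 9 := by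
  have h1 : a ≤ 9 := (Nat.pow_le_pow_iff_right (by norm_num)).mp hhi
  interval_cases a <;> simp_all

end Cfsg.Agent.Lib.H68QEAr
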