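import Mathlib

set_option autoImplicit false

namespace Cfsg.Agent.Lib.H68QEBAb

/-- PIECE BAb (30m, pure).  `b w b⁻¹ = t w` with `t ∈ {1, z}` central of square 1, so `b (w w) b⁻¹ = t w t w = w w`: `b` commutes with all squares, hence with the subgroup they generate
(`Subgroup.closure_induction`, or `Subgroup.closure_le` into `Subgroup.centralizer {b}`). -/
theorem comm_closure_sq {W : Type*} [Group W] (z : W) (hzc : ∀ r : W, z * r = r * z)
    (hzz : z * z = 1) (b : W) (hb : ∀ w : W, b * w * b⁻¹ * w⁻¹ = 1 ∨ b * w * b⁻¹ * w⁻¹ = z) :
    ∀ x ∈ Subgroup.closure {y : W | ∃ w : W, y = w * w}, b * x = x * b := by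
  have hle : Subgroup.closure {y : W | ∃ w : W, y = w * w} ≤ Subgroup.centralizer {b} := by
    rw [Subgroup.closure_le]
    rintro _ ⟨w, rfl⟩
    rw [SetLike.mem_coe, Subgroup.mem_centralizer_iff]
    intro c hc
    rw [Set.mem_singleton_iff] at hc
    subst hc
    rcases hb w with h | h
    · have h1 : c * w = w * c := by
        have := congrArg (fun t => t * w * c) h
        simpa [mul_assoc] using this
      rw [← mul_assoc, h1, mul_assoc, h1, mul_assoc]
    · have h1 : c * w = z * w * c := by
        have := congrArg (fun t => t * w * c) h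
        simpa [mul_assoc] using this
      calc c * (w * w) = (c * w) * w := by group
        _ = (z * w * c) * w := by rw [h1]
        _ = z * w * (c * w) := by simp only [mul_assoc]
        _ = z * w * (z * w * c) := by rw [h1]
        _ = (z * (w * z)) * w * c := by group
        _ = (z * (z * w)) * w * c := by rw [hzc w]
        _ = (z * z) * w * w * c := by group
        _ = w * w * c := by rw [hzz]; group
  intro x hx
  have := hle hx
  rw [Subgroup.mem_centralizer_iff] at this
  exact this b (Set.mem_singleton _)

end Cfsg.Agent.Lib.H68QEBAb
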