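import Mathlib
import Cfsg.Agent.Lib.Helper68QEDefs

set_option autoImplicit false

namespace Cfsg.Agent.Lib.H68QEIdx

open Cfsg.Agent.Lib.Helper68QEDefs

variable {W : Type*} [Group W]

/-- PIECE Idx.  `|E : C_E(D)| ≤ 3` for a quaternion `D = Fx1 e`. -/
theorem relIndex_le [Finite W] {E : Subgroup (MulAut W)} {z : W} (h : Hyp 3 E) (c : Cfg E z)
    (e : MulAut W) (he : e ∈ E) (he1 : e ≠ 1) (hq : IsQ8 (Fx1 e) z) :
    (Cz (Fx1 e)).relIndex E ≤ 3 := by
  classical
  obtain ⟨x, hx, b, hb, hxb⟩ := hq.nab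
  have hx1 : x ≠ 1 := by rintro rfl; simp at hxb
  have hxz : x ≠ z := by
    rintro rfl
    by_cases hb1 : b = 1
    · subst hb1; simp at hxb
    by_cases hbz : b = x
    · subst hbz; exact hxb rfl
    have h2 := hq.sq b hb hb1 hbz
    apply hxb
    rw [← h2, mul_assoc]
  have hstab : MulAction.stabilizer ↥E x = (Cz (Fx1 e)).subgroupOf E := by
    ext f
    rw [MulAction.mem_stabilizer_iff, Subgroup.mem_subgroupOf, mem_Cz]
    constructor
    · intro hf y hy
      exact c.free e he he1 f.1 f.2 x hx hf hx1 hxz hy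
    · intro hf
      exact hf x hx
  have hidx : (Cz (Fx1 e)).relIndex E = (MulAction.orbit ↥E x).ncard := by
    rw [Subgroup.relIndex, ← hstab, MulAction.index_stabilizer]
  have hsub : MulAction.orbit ↥E x ⊆ ((Fx1 e : Subgroup W) : Set W) \ {1} := by
    rintro _ ⟨f, rfl⟩
    refine ⟨h.inv_Fx1 he f.1 f.2 x hx, ?_⟩
    intro h1
    apply hx1
    have h2 : f.1 x = 1 := h1
    exact (map_eq_one_iff f.1 f.1.injective).mp h2
  have hcard : (((Fx1 e : Subgroup W) : Set W) \ {1}).ncard = 7 := by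
    rw [Set.ncard_sdiff_singleton_of_mem (Subgroup.one_mem _)]
    have : ((Fx1 e : Subgroup W) : Set W).ncard = 8 := hq.card
    rw [this]
  have hle : (Cz (Fx1 e)).relIndex E ≤ 7 := by
    rw [hidx, ← hcard]
    exact Set.ncard_le_ncard hsub (Set.toFinite _)
  have : Fact (Nat.Prime 3) := ⟨Nat.prime_three⟩
  obtain ⟨j, hj⟩ := h.pE.index ((Cz (Fx1 e)).subgroupOf E)
  have hj' : (Cz (Fx1 e)).relIndex E = 3 ^ j := hj
  rw [hj'] at hle ⊢
  rcases Nat.lt_or_ge j 2 with h2 | h2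
  · interval_cases j <;> norm_num
  · have : 3 ^ 2 ≤ 3 ^ j := Nat.pow_le_pow_right (by norm_num) h2
    omega

end Cfsg.Agent.Lib.H68QEIdx
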