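import Mathlib
import Cfsg.Agent.Lib.Helper68QEDefs
import Cfsg.Agent.Lib.H68QEGen

set_option autoImplicit false

namespace Cfsg.Agent.Lib.H68QESecond

open Cfsg.Agent.Lib.Helper68QEDefs

variable {W : Type*} [Group W]


/-- PIECE Second (45m).  `c.big` gives `e₁`.  If `Fx1 e ≤ Fx1 e₁` for all `1 ≠ e ∈ E`, then `⊤ ≤ Fx1 e₁` by `Gen.gen h ⊤ (invE_top E) (Fx1 e₁)`, so `e₁ = 1`.  So there is `1 ≠ e₂ ∈ E` with `¬ Fx1 e₂ ≤ Fx1 e₁`;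
by `c.dich` it is a quaternion group (`Fx1 e₂ ≤ Fx E ≤ Fx1 e₁` is excluded, `Fx_le_Fx1`).  Let `f ∈ E` fix `Fx1 e₁` and `Fx1 e₂` pointwise, `f ≠ 1`: `Fx1 e₁ ≤ Fx1 f`, `Fx1 e₂ ≤ Fx1 f`.  `c.dich f`:
if `Fx1 f ≤ Fx E` then `Fx1 e₂ ≤ Fx E ≤ Fx1 e₁`; if `IsQ8 (Fx1 f) z` then `Fx1 e₁ = Fx1 f` (both have 8 elements, `Subgroup.eq_of_le_of_card_ge`), so `Fx1 e₂ ≤ Fx1 e₁`.  Contradiction. -/
theorem second [Finite W] {E : Subgroup (MulAut W)} {z : W} (h : Hyp 3 E) (c : Cfg E z) :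
    ∃ e₁ ∈ E, ∃ e₂ ∈ E, e₁ ≠ 1 ∧ e₂ ≠ 1 ∧ IsQ8 (Fx1 e₁) z ∧ IsQ8 (Fx1 e₂) z ∧
      ∀ f ∈ E, f ∈ Cz (Fx1 e₁) → f ∈ Cz (Fx1 e₂) → f = 1 := by
  haveI : Fact (Nat.Prime 3) := ⟨by norm_num⟩
  obtain ⟨e₁, he₁, hne₁, hq₁⟩ := c.big
  have hex : ∃ e₂ ∈ E, e₂ ≠ 1 ∧ ¬ Fx1 e₂ ≤ Fx1 e₁ := by
    by_contra hcon
    push Not at hcon
    have htop : (⊤ : Subgroup W) ≤ Fx1 e₁ :=
      H68QEGen.gen h ⊤ (invE_top E) (Fx1 e₁) (fun e he hne => inf_le_right.trans (hcon e he hne))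
    apply hne₁
    ext w
    exact htop (Subgroup.mem_top w)
  obtain ⟨e₂, he₂, hne₂, hnle⟩ := hex
  have hq₂ : IsQ8 (Fx1 e₂) z := by
    rcases c.dich e₂ he₂ hne₂ with h1 | h1
    · exact absurd (h1.trans (Fx_le_Fx1 he₁)) hnle
    · exact h1
  refine ⟨e₁, he₁, e₂, he₂, hne₁, hne₂, hq₁, hq₂, ?_⟩
  intro f hf h1 h2
  by_contra hf1
  have l1 : Fx1 e₁ ≤ Fx1 f := fun x hx => h1 x hx
  have l2 : Fx1 e₂ ≤ Fx1 f := fun x hx => h2 x hx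
  rcases c.dich f hf hf1 with h3 | h3
  · exact hnle ((l2.trans h3).trans (Fx_le_Fx1 he₁))
  · have heq : Fx1 e₁ = Fx1 f :=
      Subgroup.eq_of_le_of_card_ge l1 (by rw [h3.card, hq₁.card])
    exact hnle (heq ▸ l2)

end Cfsg.Agent.Lib.H68QESecond
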