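import Mathlib
import Cfsg.Agent.Lib.Helper68QEDefs
import Cfsg.Agent.Lib.H68QEIdx
import Cfsg.Agent.Lib.H68QESecond

set_option autoImplicit false

namespace Cfsg.Agent.Lib.H68QECardE

open Cfsg.Agent.Lib.Helper68QEDefs

variable {W : Type*} [Group W]


/-- PIECE CardE (45m). -/
theorem cardE [Finite W] {E : Subgroup (MulAut W)} {z : W} (h : Hyp 3 E) (c : Cfg E z) :
    Nat.card E = 9 := by
  obtain ⟨e₁, he₁, e₂, he₂, h1, h2, hq1, hq2, hf⟩ := Cfsg.Agent.Lib.H68QESecond.second h c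
  have hi1 := Cfsg.Agent.Lib.H68QEIdx.relIndex_le h c e₁ he₁ h1 hq1
  have hi2 := Cfsg.Agent.Lib.H68QEIdx.relIndex_le h c e₂ he₂ h2 hq2
  have hbot : (Cz (Fx1 e₁) ⊓ Cz (Fx1 e₂)) ⊓ E = ⊥ := by
    rw [eq_bot_iff]
    rintro f ⟨⟨hf1, hf2⟩, hfE⟩
    exact Subgroup.mem_bot.2 (hf f hfE hf1 hf2)
  have hle : Nat.card E ≤ 3 * 3 := by
    calc Nat.card E = (⊥ : Subgroup (MulAut W)).relIndex E := (Subgroup.relIndex_bot_left E).symm
      _ = ((Cz (Fx1 e₁) ⊓ Cz (Fx1 e₂)) ⊓ E).relIndex E := by rw [hbot]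
      _ = (Cz (Fx1 e₁) ⊓ Cz (Fx1 e₂)).relIndex E := Subgroup.inf_relIndex_right _ _
      _ ≤ (Cz (Fx1 e₁)).relIndex E * (Cz (Fx1 e₂)).relIndex E := Subgroup.relIndex_inf_le
      _ ≤ 3 * 3 := Nat.mul_le_mul hi1 hi2
  have : Fact (Nat.Prime 3) := ⟨Nat.prime_three⟩
  have : Finite (MulAut W) := by
    exact Finite.of_injective (fun f : MulAut W => (f : W → W)) DFunLike.coe_injective
  obtain ⟨k, hk⟩ := IsPGroup.iff_card.mp h.pE
  rw [hk] at hle ⊢
  have hk3 : k < 3 := by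
    by_contra hge
    push Not at hge
    have : 3 ^ 3 ≤ 3 ^ k := Nat.pow_le_pow_right (by norm_num) hge
    omega
  interval_cases k
  · exfalso
    apply h.nc
    rw [pow_zero] at hk
    have := (Nat.card_eq_one_iff_unique.1 hk).1
    infer_instance
  · exfalso
    apply h.nc
    rw [pow_one] at hk
    exact isCyclic_of_prime_card hk
  · norm_num

end Cfsg.Agent.Lib.H68QECardE
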