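import Mathlib

set_option autoImplicit false

namespace Cfsg.Agent.Lib.H68QECardSup

/-- PIECE CardSup. -/
theorem card_sup_le {W : Type*} [Group W] [Finite W] (A B : Subgroup W) (hB : B.Normal) (z : W)
    (hz : z ≠ 1) (hzA : z ∈ A) (hzB : z ∈ B) :
    2 * Nat.card (A ⊔ B : Subgroup W) ≤ Nat.card A * Nat.card B := by
  have h1 : Nat.card (A ⊔ B : Subgroup W) * Nat.card (A ⊓ B : Subgroup W) = Nat.card A * Nat.card B := by
    have hcm : ∀ {H K : Subgroup W}, H ≤ K → Nat.card H * H.relIndex K = Nat.card K := by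
      intro H K hHK
      rw [← Subgroup.relIndex_bot_left, ← Subgroup.relIndex_bot_left]
      exact Subgroup.relIndex_mul_relIndex ⊥ H K bot_le hHK
    have e1 : B.relIndex (A ⊔ B) = B.relIndex A := Subgroup.relIndex_sup_right A B
    have e2 : (A ⊓ B).relIndex A = B.relIndex A := Subgroup.inf_relIndex_left A B
    have e3 : Nat.card B * B.relIndex (A ⊔ B) = Nat.card (A ⊔ B : Subgroup W) :=
      hcm le_sup_right
    have e4 : Nat.card (A ⊓ B : Subgroup W) * (A ⊓ B).relIndex A = Nat.card A :=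
      hcm inf_le_left
    rw [← e3, ← e4, e1, e2]; ring
  have h2 : 2 ≤ Nat.card (A ⊓ B : Subgroup W) := by
    have : Nontrivial (A ⊓ B : Subgroup W) :=
      ⟨⟨⟨z, hzA, hzB⟩, 1, fun h => hz (congrArg Subtype.val h)⟩⟩
    exact Finite.one_lt_card
  calc 2 * Nat.card (A ⊔ B : Subgroup W) ≤ Nat.card (A ⊓ B : Subgroup W) * Nat.card (A ⊔ B : Subgroup W) :=
        Nat.mul_le_mul_right _ h2
    _ = Nat.card A * Nat.card B := by rw [mul_comm, h1]

end Cfsg.Agent.Lib.H68QECardSup
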