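import Mathlib
import Cfsg.Agent.Lib.Helper68QEDefs
import Cfsg.Agent.Lib.H68QEAbel

set_option autoImplicit false

namespace Cfsg.Agent.Lib.H68QECenter

open Cfsg.Agent.Lib.Helper68QEDefs

variable {W : Type*} [Group W]


/-- PIECE Center (30m).  `Z(W) = {1, z}`. -/
theorem center [Finite W] {p : ℕ} [Fact p.Prime] {E : Subgroup (MulAut W)} {z : W} (h : Hyp p E)
    (c : Cfg E z) :
    (∀ r : W, z * r = r * z) ∧ ∀ r : W, (∀ s, s * r = r * s) → r = 1 ∨ r = z := by
  have hinv : InvE E (Subgroup.center W) := by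
    intro e _ x hx
    rw [Subgroup.mem_center_iff] at hx ⊢
    intro g
    have := congrArg e (hx (e.symm g))
    simpa using this
  have hab : ∀ a ∈ Subgroup.center W, ∀ b ∈ Subgroup.center W, a * b = b * a := by
    intro a _ b hb
    exact Subgroup.mem_center_iff.1 hb a
  have hle := Cfsg.Agent.Lib.H68QEAbel.abel h (Subgroup.center W) hinv hab
  have hz1 : z ≠ 1 := by
    intro hz
    have := c.z_ord
    rw [hz, orderOf_one] at this
    omega
  have hnt : Nontrivial W := ⟨z, 1, hz1⟩
  have : Fact (Nat.Prime 2) := ⟨Nat.prime_two⟩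
  have hcn := h.pW.center_nontrivial
  obtain ⟨⟨x, hx⟩, hx1⟩ := exists_ne (1 : Subgroup.center W)
  have hxz : x = z := by
    rcases (c.fxE x).1 (hle hx) with h1 | h1
    · exact absurd (Subtype.ext h1) hx1
    · exact h1
  constructor
  · intro r
    rw [← hxz]
    exact (Subgroup.mem_center_iff.1 hx r).symm
  · intro r hr
    exact (c.fxE r).1 (hle (Subgroup.mem_center_iff.2 hr))

end Cfsg.Agent.Lib.H68QECenter
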