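import Mathlib

set_option autoImplicit false

namespace Cfsg.Agent.Lib.H68QEComm

/-- PIECE Comm (20m, pure).  `w x w⁻¹ x⁻¹ = (w x)² · (w⁻¹)² · (x⁻¹)²` when squares are central: `(w x)(w x) = w x w x`, so `w x w⁻¹ x⁻¹ = (w x w x) x⁻¹ (w⁻¹ w⁻¹) x⁻¹ = (w x)² (w⁻¹)² (x⁻¹)²` (move the central `(w⁻¹)²`).
A product of three elements of `{1, z}` is in `{1, z}` (`z * z = 1`). -/
theorem comm_mem {W : Type*} [Group W] (z : W) (hzc : ∀ r : W, z * r = r * z) (hzz : z * z = 1)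
    (hsq : ∀ r : W, r * r = 1 ∨ r * r = z) (w x : W) :
    w * x * w⁻¹ * x⁻¹ = 1 ∨ w * x * w⁻¹ * x⁻¹ = z := by
  have hc : ∀ r s : W, (r * r) * s = s * (r * r) := by
    intro r s
    rcases hsq r with h | h
    · rw [h]; simp
    · rw [h]; exact hzc s
  have key : w * x * w⁻¹ * x⁻¹ = ((w * x) * (w * x)) * (w⁻¹ * w⁻¹) * (x⁻¹ * x⁻¹) := by
    have h1 : x * (w⁻¹ * w⁻¹) = (w⁻¹ * w⁻¹) * x := (hc w⁻¹ x).symm
    calc w * x * w⁻¹ * x⁻¹ = w * x * w * ((w⁻¹ * w⁻¹) * x) * (x⁻¹ * x⁻¹) := by group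
      _ = w * x * w * (x * (w⁻¹ * w⁻¹)) * (x⁻¹ * x⁻¹) := by rw [h1]
      _ = _ := by group
  rw [key]
  rcases hsq (w * x) with h1 | h1 <;> rcases hsq w⁻¹ with h2 | h2 <;> rcases hsq x⁻¹ with h3 | h3 <;>
    rw [h1, h2, h3] <;> simp [hzz]

end Cfsg.Agent.Lib.H68QEComm
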