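import Mathlib

set_option autoImplicit false

namespace Cfsg.Agent.Lib.H68QEFour

theorem mem_zpowers_three {G : Type*} [Group G] {a x : G} (ha : a * a * a = 1)
    (hx : x ∈ Subgroup.zpowers a) : x = 1 ∨ x = a ∨ x = a * a := by
  have ha3 : a ^ 3 = 1 := by rw [pow_succ, pow_two]; exact ha
  obtain ⟨n, rfl⟩ := Subgroup.mem_zpowers_iff.1 hx
  have h1 : a ^ n = a ^ (n % 3) := by
    conv_lhs => rw [← Int.mul_ediv_add_emod n 3]
    rw [zpow_add, zpow_mul]
    have : a ^ (3 : ℤ) = 1 := by exact_mod_cast ha3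
    rw [this, one_zpow, one_mul]
  have h2 : n % 3 = 0 ∨ n % 3 = 1 ∨ n % 3 = 2 := by omega
  rcases h2 with h | h | h
  · left; rw [h1, h, zpow_zero]
  · right; left; rw [h1, h, zpow_one]
  · right; right
    rw [h1, h]
    have : a ^ (2 : ℤ) = a ^ (2 : ℕ) := by exact_mod_cast rfl
    rw [this, pow_two]

/-- PIECE Four (60m, pure).  A non-cyclic group of order 9. -/
theorem four {G : Type*} [Group G] (hc : Nat.card G = 9) (hnc : ¬ IsCyclic G) :
    (∀ g : G, g * g * g = 1) ∧ ∃ a b : G, a ≠ 1 ∧ b ≠ 1 ∧ a * b ≠ 1 ∧ a * b * b ≠ 1 ∧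
      ∀ e : G, e ≠ 1 → ∃ c : G, (c = a ∨ c = b ∨ c = a * b ∨ c = a * b * b) ∧
        (e = c ∨ e = c * c) := by
  have hfin : Finite G := Nat.finite_of_card_ne_zero (by rw [hc]; norm_num)
  have : Fact (Nat.Prime 3) := ⟨Nat.prime_three⟩
  have hcube : ∀ g : G, g * g * g = 1 := by
    intro g
    have hd : orderOf g ∣ 3 ^ 2 := by
      have := orderOf_dvd_natCard g
      rwa [hc] at this
    obtain ⟨k, hk, hk'⟩ := (Nat.dvd_prime_pow Nat.prime_three).1 hd
    have h3 : g ^ 3 = 1 := by
      interval_cases k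
      · rw [pow_zero, orderOf_eq_one_iff] at hk'
        rw [hk', one_pow]
      · rw [pow_one] at hk'
        rw [← hk']; exact pow_orderOf_eq_one g
      · exfalso
        apply hnc
        apply isCyclic_of_orderOf_eq_card g
        rw [hk', hc]; norm_num
    rw [pow_succ, pow_two] at h3
    exact h3
  have hcomm : ∀ x y : G, x * y = y * x := by
    have := IsPGroup.isMulCommutative_of_card_eq_prime_sq (p := 3) (G := G) (by rw [hc]; norm_num)
    exact fun x y => mul_comm' x y
  have hord : ∀ g : G, g ≠ 1 → Nat.card (Subgroup.zpowers g) = 3 := by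
    intro g hg
    rw [Nat.card_zpowers]
    apply orderOf_eq_prime
    · rw [pow_succ, pow_two]; exact hcube g
    · exact hg
  have hnt : Nontrivial G := by
    rw [← Finite.one_lt_card_iff_nontrivial, hc]; norm_num
  obtain ⟨a, ha⟩ := exists_ne (1 : G)
  obtain ⟨b, hb⟩ : ∃ b : G, b ∉ Subgroup.zpowers a := by
    by_contra hall
    push Not at hall
    have : Subgroup.zpowers a = ⊤ := (Subgroup.eq_top_iff' _).2 hall
    have h3 := hord a ha
    rw [this, Subgroup.card_top, hc] at h3
    omega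
  have hb1 : b ≠ 1 := by
    intro h
    apply hb
    rw [h]; exact one_mem _
  have htop : Subgroup.zpowers a ⊔ Subgroup.zpowers b = ⊤ := by
    have hlt : Subgroup.zpowers a < Subgroup.zpowers a ⊔ Subgroup.zpowers b := by
      refine lt_of_le_of_ne le_sup_left ?_
      intro h
      apply hb
      rw [h]
      exact (le_sup_right : Subgroup.zpowers b ≤ _) (Subgroup.mem_zpowers b)
    have hd : Nat.card (Subgroup.zpowers a ⊔ Subgroup.zpowers b : Subgroup G) ∣ 3 ^ 2 := by
      have := Subgroup.card_subgroup_dvd_card (Subgroup.zpowers a ⊔ Subgroup.zpowers b)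
      rwa [hc] at this
    obtain ⟨k, hk, hk'⟩ := (Nat.dvd_prime_pow Nat.prime_three).1 hd
    have hcl : Nat.card (Subgroup.zpowers a) <
        Nat.card (Subgroup.zpowers a ⊔ Subgroup.zpowers b : Subgroup G) := by
      by_contra hge
      push Not at hge
      exact hlt.ne (Subgroup.eq_of_le_of_card_ge hlt.le hge)
    rw [hord a ha, hk'] at hcl
    apply Subgroup.eq_top_of_card_eq
    rw [hk', hc]
    interval_cases k
    · norm_num at hcl
    · norm_num at hcl
    · norm_num
  have hnorm : (Subgroup.zpowers b).Normal := by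
    refine ⟨fun n hn g => ?_⟩
    rw [hcomm g n, mul_assoc, mul_inv_cancel, mul_one]
    exact hn
  refine ⟨hcube, a, b, ha, hb1, ?_, ?_, ?_⟩
  · intro h
    apply hb
    have : b = a⁻¹ := (eq_inv_of_mul_eq_one_right h)
    rw [this]
    exact inv_mem (Subgroup.mem_zpowers a)
  · intro h
    apply hb
    have h1 : b * b = a⁻¹ := by
      rw [mul_assoc] at h
      exact eq_inv_of_mul_eq_one_right h
    have h2 : b = (b * b) * (b * b) := by
      have := hcube b
      calc b = (b * b * b) * b := by rw [this, one_mul]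
        _ = _ := by group
    rw [h2, h1]
    exact mul_mem (inv_mem (Subgroup.mem_zpowers a)) (inv_mem (Subgroup.mem_zpowers a))
  · intro e he
    have hmem : e ∈ (↑(Subgroup.zpowers a ⊔ Subgroup.zpowers b) : Set G) := by
      rw [htop]; exact Set.mem_univ e
    rw [Subgroup.mul_normal] at hmem
    obtain ⟨x, hx, y, hy, rfl⟩ := Set.mem_mul.1 hmem
    have hbb := hcube b
    rcases mem_zpowers_three (hcube a) hx with rfl | rfl | rfl <;>
      rcases mem_zpowers_three (hcube b) hy with rfl | rfl | rfl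
    · exact absurd (one_mul 1) he
    · exact ⟨y, Or.inr (Or.inl rfl), Or.inl (one_mul _)⟩
    · exact ⟨b, Or.inr (Or.inl rfl), Or.inr (one_mul _)⟩
    · exact ⟨x, Or.inl rfl, Or.inl (mul_one _)⟩
    · exact ⟨x * y, Or.inr (Or.inr (Or.inl rfl)), Or.inl rfl⟩
    · exact ⟨x * b * b, Or.inr (Or.inr (Or.inr rfl)), Or.inl (mul_assoc _ _ _).symm⟩
    · exact ⟨a, Or.inl rfl, Or.inr (mul_one _)⟩
    · refine ⟨a * y * y, Or.inr (Or.inr (Or.inr rfl)), Or.inr ?_⟩
      calc a * a * y = a * a * ((y * y * y) * y) := by rw [hbb, one_mul]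
        _ = a * (a * (y * y)) * (y * y) := by group
        _ = a * ((y * y) * a) * (y * y) := by rw [hcomm a (y * y)]
        _ = _ := by group
    · refine ⟨a * b, Or.inr (Or.inr (Or.inl rfl)), Or.inr ?_⟩
      calc a * a * (b * b) = a * (a * b) * b := by group
        _ = a * (b * a) * b := by rw [hcomm a b]
        _ = _ := by group

end Cfsg.Agent.Lib.H68QEFour
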