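import Mathlib
import Cfsg.Agent.Lib.Helper68QEDefs
import Cfsg.Agent.Lib.H68QEFixQ8

set_option autoImplicit false

namespace Cfsg.Agent.Lib.H68QEMod3

open Cfsg.Agent.Lib.Helper68QEDefs

variable {W : Type*} [Group W]


/-- PIECE Mod3 (40m). -/
theorem card_mod3 [Finite W] {E : Subgroup (MulAut W)} {z : W} (h : Hyp 3 E) (c : Cfg E z) :
    Nat.card W % 3 = 2 := by
  obtain ⟨e, he, he1, hq⟩ := c.big
  obtain ⟨k, hk⟩ := h.pE ⟨e, he⟩
  have hk' : e ^ 3 ^ k = 1 := by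
    have := congrArg Subtype.val hk
    simpa using this
  have : Fact (Nat.Prime 3) := ⟨Nat.prime_three⟩
  have h1 := Cfsg.Agent.Lib.H68QEFixQ8.card_modEq_fix e k hk'
  have h2 : Nat.card (Cfsg.Agent.Lib.H68QEFixQ8.fixS e) = 8 := hq.card
  rw [h2] at h1
  exact h1

end Cfsg.Agent.Lib.H68QEMod3
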