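import Mathlib
import Cfsg.Agent.Lib.Helper31PGroup

set_option autoImplicit false

namespace Cfsg.Agent.Lib.H68QEPLem

/-- PIECE PLem.  `F / Z` is a nontrivial normal subgroup of the `p`-group `W / Z`, so it meets the centre of `W / Z` nontrivially. -/
theorem exists_central_mod {W : Type*} [Group W] [Finite W] {p : ℕ} [Fact p.Prime]
    (hW : IsPGroup p W) (Z F : Subgroup W) (hZ : Z.Normal) (hF : F.Normal) (hZF : Z ≤ F)
    (hne : Z ≠ F) : ∃ b ∈ F, b ∉ Z ∧ ∀ w : W, b * w * b⁻¹ * w⁻¹ ∈ Z := by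
  have hQ : IsPGroup p (W ⧸ Z) := hW.to_quotient Z
  have hN : (F.map (QuotientGroup.mk' Z)).Normal := hF.map _ (QuotientGroup.mk'_surjective Z)
  have hN1 : F.map (QuotientGroup.mk' Z) ≠ ⊥ := by
    intro h
    apply hne
    apply le_antisymm hZF
    intro x hx
    have h1 : QuotientGroup.mk' Z x ∈ F.map (QuotientGroup.mk' Z) := ⟨x, hx, rfl⟩
    rw [h, Subgroup.mem_bot] at h1
    exact (QuotientGroup.eq_one_iff x).mp h1
  obtain ⟨c, ⟨b, hb, rfl⟩, hc, hc1⟩ :=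
    Cfsg.Agent.Lib.Helper31PGroup.exists_center_mem_of_normal hQ _ hN1
  refine ⟨b, hb, ?_, ?_⟩
  · intro hbZ
    exact hc1 ((QuotientGroup.eq_one_iff b).mpr hbZ)
  · intro w
    rw [← QuotientGroup.eq_one_iff]
    have h2 := (Subgroup.mem_center_iff.mp hc) (QuotientGroup.mk' Z w)
    have h3 : ((b * w * b⁻¹ * w⁻¹ : W) : W ⧸ Z) =
        QuotientGroup.mk' Z b * QuotientGroup.mk' Z w * (QuotientGroup.mk' Z b)⁻¹ * (QuotientGroup.mk' Z w)⁻¹ := rfl
    rw [h3, ← h2]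
    group

end Cfsg.Agent.Lib.H68QEPLem
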