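import Mathlib
import Cfsg.Agent.Lib.Helper68QEDefs
import Cfsg.Agent.Lib.H68QEGen
import Cfsg.Agent.Lib.H68QELocal

set_option autoImplicit false

namespace Cfsg.Agent.Lib.H68QESetup

open Cfsg.Agent.Lib.Helper68QEDefs

variable {W : Type*} [Group W]


/-- PIECE Setup (60m).  If `Fx1 e ≤ Fx E` for all `1 ≠ e ∈ E`, then `⊤ ≤ Fx E` (`Gen.gen h ⊤ (invE_top E) (Fx E)`), so every `e ∈ E` is `1` (`MulEquiv.ext`), `↥E` is a subsingleton, hence cyclic: contradiction with `h.nc`.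
So there is `1 ≠ e₁ ∈ E` with `¬ Fx1 e₁ ≤ Fx E`; `Local.local_dich h (Fx1 e₁) (h.inv_Fx1 he₁) (h.fix e₁ he₁ hne)` gives `p = 3`, `z`, `IsQ8 (Fx1 e₁) z` and the freeness clause.
* `fxE`: `z ∈ Fx E`, as `f z ∈ Fx1 e₁` has order 2 (`MulEquiv.orderOf_eq`), so `f z = z` by `h.fix`.  Conversely let `w ∈ Fx E ≤ Fx1 e₁`, `w ≠ 1`, `w ≠ z`; pick `f ∈ E`, `x₀ ∈ Fx1 e₁` with `f x₀ ≠ x₀`; freeness (`f w = w`) gives `Fx1 e₁ ≤ Fx1 f`: contradiction.
* `dich`, `free` for `1 ≠ e ∈ E`: `Local.local_dich` for `Fx1 e`; in the second case its involution `z'` equals `z` (`z ∈ Fx E ≤ Fx1 e`, `h.fix`).  In the first case `free` is vacuous (`x ∈ Fx E` means `x = 1 ∨ x = z`). -/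
theorem setup [Finite W] {p : ℕ} [Fact p.Prime] {E : Subgroup (MulAut W)} (h : Hyp p E) :
    p = 3 ∧ ∃ z : W, Cfg E z := by
  have hex : ∃ e₁ ∈ E, e₁ ≠ 1 ∧ ¬ Fx1 e₁ ≤ Fx E := by
    by_contra hcon
    push Not at hcon
    have htop : (⊤ : Subgroup W) ≤ Fx E :=
      H68QEGen.gen h ⊤ (invE_top E) (Fx E) (fun e he hne => inf_le_right.trans (hcon e he hne))
    apply h.nc
    haveI : Subsingleton ↥E := by
      refine ⟨fun a b => ?_⟩
      apply Subtype.ext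
      ext w
      rw [htop (Subgroup.mem_top w) a a.2, htop (Subgroup.mem_top w) b b.2]
    infer_instance
  obtain ⟨e₁, he₁, hne₁, hnle⟩ := hex
  rcases H68QELocal.local_dich h (Fx1 e₁) (h.inv_Fx1 he₁) (h.fix e₁ he₁ hne₁) with h1 | h1
  · exact absurd h1 hnle
  obtain ⟨hp3, z, hq, hfree⟩ := h1
  refine ⟨hp3, z, ?_⟩
  have hzE : z ∈ Fx E := by
    intro f hf
    apply h.fix e₁ he₁ hne₁ _ (h.inv_Fx1 he₁ f hf z hq.z_mem) _ hq.z_mem _ hq.z_ord
    rw [MulEquiv.orderOf_eq]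
    exact hq.z_ord
  have hfxE : ∀ w, w ∈ Fx E ↔ w = 1 ∨ w = z := by
    intro w
    constructor
    · intro hw
      by_contra hcon
      push Not at hcon
      apply hnle
      intro x hx f hf
      exact hfree f hf w (Fx_le_Fx1 he₁ hw) (hw f hf) hcon.1 hcon.2 hx
    · rintro (rfl | rfl)
      · exact (Fx E).one_mem
      · exact hzE
  have hloc : ∀ e ∈ E, e ≠ 1 → Fx1 e ≤ Fx E ∨ (IsQ8 (Fx1 e) z ∧
      ∀ f ∈ E, ∀ x ∈ Fx1 e, f x = x → x ≠ 1 → x ≠ z → Fx1 e ≤ Fx1 f) := by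
    intro e he hne
    rcases H68QELocal.local_dich h (Fx1 e) (h.inv_Fx1 he) (h.fix e he hne) with h1 | h1
    · left
      exact h1
    · right
      obtain ⟨-, z', hq', hfree'⟩ := h1
      have hzz : z' = z :=
        h.fix e he hne z' hq'.z_mem z (Fx_le_Fx1 he hzE) hq'.z_ord hq.z_ord
      subst hzz
      exact ⟨hq', hfree'⟩
  exact
  { z_ord := hq.z_ord
    fxE := hfxE
    dich := fun e he hne => (hloc e he hne).imp id (fun h => h.1)
    free := by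
      intro e he hne f hf x hx hfx hx1 hxz
      rcases hloc e he hne with h1 | h1
      · rcases (hfxE x).mp (h1 hx) with h2 | h2
        · exact absurd h2 hx1
        · exact absurd h2 hxz
      · exact h1.2 f hf x hx hfx hx1 hxz
    big := ⟨e₁, he₁, hne₁, hq⟩ }

end Cfsg.Agent.Lib.H68QESetup
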