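import Mathlib
import Cfsg.Agent.Lib.Helper68QEDefs
import Cfsg.Agent.Lib.H68QECenter
import Cfsg.Agent.Lib.H68QEAbel
import Cfsg.Agent.Lib.H68QEPLem
import Cfsg.Agent.Lib.H68QEBAb

set_option autoImplicit false

namespace Cfsg.Agent.Lib.H68QESq

open Cfsg.Agent.Lib.Helper68QEDefs

variable {W : Type*} [Group W]

/-- PIECE Sq.  All squares lie in `{1, z}`. -/
theorem sq [Finite W] {p : ℕ} [Fact p.Prime] {E : Subgroup (MulAut W)} {z : W} (h : Hyp p E)
    (c : Cfg E z) : ∀ r : W, r * r = 1 ∨ r * r = z := by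
  have hzc : ∀ r : W, z * r = r * z := (H68QECenter.center h c).1
  have hzz : z * z = 1 := by
    rw [← pow_two, ← c.z_ord]; exact pow_orderOf_eq_one z
  obtain ⟨Z, hZdef⟩ : ∃ Z : Subgroup W, Z = Fx E := ⟨_, rfl⟩
  have hZmem : ∀ w, w ∈ Z ↔ w = 1 ∨ w = z := by
    intro w; rw [hZdef]; exact c.fxE w
  have hZn : Z.Normal := by
    refine ⟨fun n hn g => ?_⟩
    rcases (hZmem n).1 hn with rfl | rfl
    · simp [Z.one_mem]
    · rw [← hzc g, mul_inv_cancel_right]; exact hn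
  obtain ⟨F, hFdef⟩ : ∃ F : Subgroup W, F = Subgroup.closure {y : W | ∃ w : W, y = w * w} :=
    ⟨_, rfl⟩
  have hsqF : ∀ w : W, w * w ∈ F := by
    intro w; rw [hFdef]; exact Subgroup.subset_closure ⟨w, rfl⟩
  have hFhom : ∀ φ : W →* W, ∀ x ∈ F, φ x ∈ F := by
    intro φ x hx
    rw [hFdef] at hx
    induction hx using Subgroup.closure_induction with
    | mem y hy =>
      obtain ⟨w, rfl⟩ := hy
      rw [map_mul]; exact hsqF _
    | one => rw [map_one]; exact F.one_mem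
    | mul a b _ _ iha ihb => rw [map_mul]; exact F.mul_mem iha ihb
    | inv a _ iha => rw [map_inv]; exact F.inv_mem iha
  have hFn : F.Normal := by
    refine ⟨fun n hn g => ?_⟩
    have := hFhom (MulAut.conj g).toMonoidHom n hn
    simpa using this
  have hZF : Z ≤ F := by
    obtain ⟨e, _, _, hQ⟩ := c.big
    obtain ⟨a, ha, b, hb, hab⟩ := hQ.nab
    have ha1 : a ≠ 1 := by
      rintro rfl; exact hab (by simp)
    have haz : a ≠ z := by
      rintro rfl; exact hab (hzc b)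
    have hz : z ∈ F := by
      rw [← hQ.sq a ha ha1 haz]; exact hsqF a
    intro w hw
    rcases (hZmem w).1 hw with rfl | rfl
    · exact F.one_mem
    · exact hz
  have hFZ : Z = F := by
    by_contra hne
    obtain ⟨b₀, hb₀F, hb₀Z, hb₀⟩ := H68QEPLem.exists_central_mod h.pW Z F hZn hFn hZF hne
    let B : Subgroup W :=
      { carrier := {b | b ∈ F ∧ ∀ w : W, b * w * b⁻¹ * w⁻¹ ∈ Z}
        one_mem' := ⟨F.one_mem, fun w => by simp [Z.one_mem]⟩
        mul_mem' := by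
          rintro a b ⟨haF, ha⟩ ⟨hbF, hb⟩
          refine ⟨F.mul_mem haF hbF, fun w => ?_⟩
          have h1 : a * b * w * (a * b)⁻¹ * w⁻¹ =
              (a * (b * w * b⁻¹ * w⁻¹) * a⁻¹) * (a * w * a⁻¹ * w⁻¹) := by group
          rw [h1]
          exact Z.mul_mem (hZn.conj_mem _ (hb w) a) (ha w)
        inv_mem' := by
          rintro b ⟨hbF, hb⟩
          refine ⟨F.inv_mem hbF, fun w => ?_⟩
          have h1 : b⁻¹ * w * b⁻¹⁻¹ * w⁻¹ =
              (b * (b⁻¹ * w * b) * b⁻¹ * (b⁻¹ * w * b)⁻¹)⁻¹ := by group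
          rw [h1]
          exact Z.inv_mem (hb _) }
    have hBmem : ∀ b, b ∈ B ↔ b ∈ F ∧ ∀ w : W, b * w * b⁻¹ * w⁻¹ ∈ Z := fun _ => Iff.rfl
    have hBinv : InvE E B := by
      intro e he b hb
      obtain ⟨hbF, hb⟩ := (hBmem b).1 hb
      refine (hBmem _).2 ⟨hFhom e.toMonoidHom b hbF, fun w => ?_⟩
      have h1 : e b * w * (e b)⁻¹ * w⁻¹ = e (b * e.symm w * b⁻¹ * (e.symm w)⁻¹) := by
        simp only [map_mul, map_inv, MulEquiv.apply_symm_apply]
      rw [h1]
      have h2 := hb (e.symm w)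
      have h3 : e (b * e.symm w * b⁻¹ * (e.symm w)⁻¹) = b * e.symm w * b⁻¹ * (e.symm w)⁻¹ := by
        rw [hZdef] at h2
        exact h2 e he
      rw [h3]; exact h2
    have hBab : ∀ a ∈ B, ∀ b ∈ B, a * b = b * a := by
      intro a ha b hb
      obtain ⟨_, ha⟩ := (hBmem a).1 ha
      obtain ⟨hbF, _⟩ := (hBmem b).1 hb
      rw [hFdef] at hbF
      exact H68QEBAb.comm_closure_sq z hzc hzz a (fun w => (hZmem _).1 (ha w)) b hbF
    have hle := H68QEAbel.abel h B hBinv hBab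
    apply hb₀Z
    rw [hZdef]
    exact hle ((hBmem b₀).2 ⟨hb₀F, hb₀⟩)
  intro r
  apply (hZmem _).1
  rw [hFZ]
  exact hsqF r

end Cfsg.Agent.Lib.H68QESq
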