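import Mathlib
import Cfsg.Agent.Lib.Helper68QEDefs
import Cfsg.Agent.Lib.H68QEGen
import Cfsg.Agent.Lib.H68QEFour
import Cfsg.Agent.Lib.H68QECardSup
import Cfsg.Agent.Lib.H68QEComm

set_option autoImplicit false

namespace Cfsg.Agent.Lib.H68QEUpper

open Cfsg.Agent.Lib.Helper68QEDefs

variable {W : Type*} [Group W]

theorem card_four_sup [Finite W] (z : W) (hz : z ≠ 1) (D₁ D₂ D₃ D₄ : Subgroup W)
    (h1 : z ∈ D₁) (h2 : z ∈ D₂) (h3 : z ∈ D₃) (h4 : z ∈ D₄)
    (n2 : D₂.Normal) (n3 : D₃.Normal) (n4 : D₄.Normal)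
    (c1 : Nat.card D₁ ≤ 8) (c2 : Nat.card D₂ ≤ 8) (c3 : Nat.card D₃ ≤ 8) (c4 : Nat.card D₄ ≤ 8) :
    Nat.card (D₁ ⊔ D₂ ⊔ D₃ ⊔ D₄ : Subgroup W) ≤ 512 := by
  have e1 := H68QECardSup.card_sup_le D₁ D₂ n2 z hz h1 h2
  have e2 := H68QECardSup.card_sup_le (D₁ ⊔ D₂) D₃ n3 z hz (Subgroup.mem_sup_left h1) h3
  have e3 := H68QECardSup.card_sup_le (D₁ ⊔ D₂ ⊔ D₃) D₄ n4 z hz
    (Subgroup.mem_sup_left (Subgroup.mem_sup_left h1)) h4
  have f1 : Nat.card D₁ * Nat.card D₂ ≤ 8 * 8 := Nat.mul_le_mul c1 c2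
  have g1 : Nat.card (D₁ ⊔ D₂ : Subgroup W) ≤ 32 := by omega
  have f2 : Nat.card (D₁ ⊔ D₂ : Subgroup W) * Nat.card D₃ ≤ 32 * 8 := Nat.mul_le_mul g1 c3
  have g2 : Nat.card (D₁ ⊔ D₂ ⊔ D₃ : Subgroup W) ≤ 128 := by omega
  have f3 : Nat.card (D₁ ⊔ D₂ ⊔ D₃ : Subgroup W) * Nat.card D₄ ≤ 128 * 8 := Nat.mul_le_mul g2 c4
  omega

/-- PIECE Upper.  `|W| ≤ 2 ^ 9`. -/
theorem card_le [Finite W] {E : Subgroup (MulAut W)} {z : W} (h : Hyp 3 E) (c : Cfg E z)
    (hE : Nat.card E = 9) (hzc : ∀ r : W, z * r = r * z)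
    (hsq : ∀ r : W, r * r = 1 ∨ r * r = z) : Nat.card W ≤ 2 ^ 9 := by
  have hzz : z * z = 1 := by
    rw [← pow_two, ← c.z_ord]; exact pow_orderOf_eq_one z
  have hz1 : z ≠ 1 := by
    intro h1
    have := c.z_ord
    rw [h1, orderOf_one] at this
    omega
  have hzFx : z ∈ Fx E := (c.fxE z).2 (Or.inr rfl)
  have hzD : ∀ e ∈ E, z ∈ Fx1 e := fun e he => Fx_le_Fx1 he hzFx
  have hcardFx : Nat.card (Fx E) ≤ 2 := by
    have hsub : ((Fx E : Subgroup W) : Set W) ⊆ {1, z} := by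
      intro w hw
      rcases (c.fxE w).1 hw with h | h
      · exact Or.inl h
      · exact Or.inr h
    have h3 : Nat.card (Fx E) = ((Fx E : Subgroup W) : Set W).ncard := rfl
    rw [h3]
    calc ((Fx E : Subgroup W) : Set W).ncard ≤ ({1, z} : Set W).ncard :=
          Set.ncard_le_ncard hsub (Set.toFinite _)
      _ ≤ ({z} : Set W).ncard + 1 := Set.ncard_insert_le _ _
      _ = 2 := by rw [Set.ncard_singleton]
  have hcardD : ∀ e ∈ E, e ≠ 1 → Nat.card (Fx1 e) ≤ 8 := by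
    intro e he he1
    rcases c.dich e he he1 with hle | hQ
    · have := Subgroup.card_le_of_le hle
      omega
    · exact hQ.card.le
  have hnD : ∀ e ∈ E, (Fx1 e).Normal := by
    intro e he
    refine ⟨fun x hx w => ?_⟩
    have h1 : w * x * w⁻¹ = (w * x * w⁻¹ * x⁻¹) * x := by group
    rw [h1]
    apply (Fx1 e).mul_mem _ hx
    rcases H68QEComm.comm_mem z hzc hzz hsq w x with h2 | h2
    · rw [h2]; exact (Fx1 e).one_mem
    · rw [h2]; exact hzD e he
  obtain ⟨hcube, a, b, ha, hb, hab, habb, hall⟩ := H68QEFour.four hE h.nc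
  have hne : ∀ g : E, g ≠ 1 → (g : MulAut W) ≠ 1 := by
    intro g hg h1
    exact hg (Subtype.ext h1)
  have htop : (⊤ : Subgroup W) ≤ Fx1 (a : MulAut W) ⊔ Fx1 (b : MulAut W) ⊔
      Fx1 ((a * b : E) : MulAut W) ⊔ Fx1 ((a * b * b : E) : MulAut W) := by
    apply H68QEGen.gen h ⊤ (invE_top E)
    intro e he he1
    obtain ⟨g, hg, heg⟩ := hall ⟨e, he⟩ (fun h1 => he1 (congrArg Subtype.val h1))
    have hle : Fx1 e ≤ Fx1 (g : MulAut W) := by
      rcases heg with h1 | h1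
      · have : e = (g : MulAut W) := congrArg Subtype.val h1
        rw [this]
      · have h2 : e = (g : MulAut W) * (g : MulAut W) := congrArg Subtype.val h1
        have h3 : (g : MulAut W) = e * e := by
          have h4 : g = (g * g) * (g * g) := by
            calc g = g * 1 := (mul_one g).symm
              _ = g * (g * g * g) := by rw [hcube]
              _ = (g * g) * (g * g) := by group
          rw [h2]
          exact congrArg Subtype.val h4
        intro x hx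
        rw [mem_Fx1] at hx ⊢
        rw [h3, MulAut.mul_apply, hx, hx]
    refine le_trans inf_le_right (le_trans hle ?_)
    rcases hg with rfl | rfl | rfl | rfl
    · exact le_sup_of_le_left (le_sup_of_le_left le_sup_left)
    · exact le_sup_of_le_left (le_sup_of_le_left le_sup_right)
    · exact le_sup_of_le_left le_sup_right
    · exact le_sup_right
  have hcard := card_four_sup z hz1 (Fx1 (a : MulAut W)) (Fx1 (b : MulAut W))
    (Fx1 ((a * b : E) : MulAut W)) (Fx1 ((a * b * b : E) : MulAut W))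
    (hzD _ a.2) (hzD _ b.2) (hzD _ (a * b).2) (hzD _ (a * b * b).2)
    (hnD _ b.2) (hnD _ (a * b).2) (hnD _ (a * b * b).2)
    (hcardD _ a.2 (hne a ha)) (hcardD _ b.2 (hne b hb)) (hcardD _ (a * b).2 (hne _ hab))
    (hcardD _ (a * b * b).2 (hne _ habb))
  have h5 := Subgroup.card_le_of_le htop
  rw [Subgroup.card_top] at h5
  calc Nat.card W ≤ _ := h5
    _ ≤ 512 := hcard
    _ = 2 ^ 9 := by norm_num

end Cfsg.Agent.Lib.H68QEUpper
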