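import Mathlib
import Cfsg.Prelude.Def_Solvable

set_option autoImplicit false

/-! Vocabulary of project 69: subgroups of `GL(4,2)` with trivial cores (row S2553). -/

namespace Cfsg.Agent.Lib.Helper69G4Defs

open Cfsg

/-- no nontrivial normal `2`-subgroup and no nontrivial normal subgroup of odd order -/
def CF (H : Type*) [Group H] : Prop :=
  (∀ N : Subgroup H, N.Normal → IsPGroup 2 N → N = ⊥) ∧
  (∀ N : Subgroup H, N.Normal → (Nat.card N).Coprime 2 → N = ⊥)

theorem CF.of_cores {H : Type*} [Group H] (h1 : Cfsg.pPrimeCore 2 H = ⊥) (h2 : Cfsg.pCore 2 H = ⊥) :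
    CF H := by
  constructor
  · intro N hN hp
    rw [eq_bot_iff, ← h2]
    exact le_sSup ⟨hN, hp⟩
  · intro N hN hp
    rw [eq_bot_iff, ← h1]
    exact le_sSup ⟨hN, hp⟩

/-- the natural module -/
abbrev V4 : Type := Fin 4 → ZMod 2

/-- the natural action of `GL(4,2)` on the natural module -/
instance natAction : MulAction (GL (Fin 4) (ZMod 2)) V4 where
  smul g v := Matrix.mulVec (g : Matrix (Fin 4) (Fin 4) (ZMod 2)) v
  one_smul v := by
    change Matrix.mulVec ((1 : GL (Fin 4) (ZMod 2)) : Matrix (Fin 4) (Fin 4) (ZMod 2)) v = v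
    simp
  mul_smul g h v := by
    change Matrix.mulVec ((g * h : GL (Fin 4) (ZMod 2)) : Matrix (Fin 4) (Fin 4) (ZMod 2)) v =
      Matrix.mulVec (g : Matrix (Fin 4) (Fin 4) (ZMod 2))
        (Matrix.mulVec (h : Matrix (Fin 4) (Fin 4) (ZMod 2)) v)
    simp [Matrix.mulVec_mulVec]

theorem smul_def (g : GL (Fin 4) (ZMod 2)) (v : V4) :
    g • v = Matrix.mulVec (g : Matrix (Fin 4) (Fin 4) (ZMod 2)) v := rfl

/-- numbering of an orbit -/
noncomputable def orbEquiv (K : Subgroup (Equiv.Perm (Fin 8))) (x0 : Fin 8) :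
    MulAction.orbit K x0 ≃ Fin (Nat.card (MulAction.orbit K x0)) := Finite.equivFin _

/-- the action of `K` on the orbit of `x0`, as a permutation representation on `Fin k` -/
noncomputable def rho (K : Subgroup (Equiv.Perm (Fin 8))) (x0 : Fin 8) :
    K →* Equiv.Perm (Fin (Nat.card (MulAction.orbit K x0))) :=
  (orbEquiv K x0).permCongrHom.toMonoidHom.comp (MulAction.toPermHom K (MulAction.orbit K x0))

theorem rho_apply (K : Subgroup (Equiv.Perm (Fin 8))) (x0 : Fin 8) (h : K)
    (y : MulAction.orbit K x0) : rho K x0 h (orbEquiv K x0 y) = orbEquiv K x0 (h • y) := by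
  change (orbEquiv K x0).permCongr (MulAction.toPermHom K (MulAction.orbit K x0) h)
    (orbEquiv K x0 y) = _
  rw [Equiv.permCongr_apply, Equiv.symm_apply_apply]
  rfl

theorem coe_smul_orbit (K : Subgroup (Equiv.Perm (Fin 8))) (x0 : Fin 8) (h : K)
    (y : MulAction.orbit K x0) : ((h • y : MulAction.orbit K x0) : Fin 8) =
      (h : Equiv.Perm (Fin 8)) (y : Fin 8) := rfl

end Cfsg.Agent.Lib.Helper69G4Defs
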