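import Mathlib
import Cfsg.Agent.Lib.Helper69G4Defs

set_option autoImplicit false
set_option linter.unusedVariables false
set_option linter.unusedSectionVars false

namespace Cfsg.Agent.Lib.H69G4Invol

open Cfsg Cfsg.Agent.Lib.Helper69G4Defs Equiv Equiv.Perm MulAction

/-- `cycleType_prime_order`: `cycleType = replicate (n+1) 2`, `support.card = 2 (n+1)`, `sign = (-1)^(n+1)` (`sign_of_cycleType`), so `n+1` is even;
`support.card ≤ 7` (given) so `n + 1 = 2`. -/
theorem even_invol {k : ℕ} (t : Perm (Fin k)) (ht : orderOf t = 2) (hs : sign t = 1)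
    (hle : t.support.card ≤ 7) : t.support.card = 4 := by
  have hp : (orderOf t).Prime := by rw [ht]; norm_num
  obtain ⟨n, hn⟩ := Equiv.Perm.cycleType_prime_order hp
  rw [ht] at hn
  have h1 : t.support.card = (n + 1) * 2 := by
    rw [← Equiv.Perm.sum_cycleType, hn, Multiset.sum_replicate, smul_eq_mul]
  have h2 : sign t = (-1) ^ ((n + 1) * 2 + (n + 1)) := by
    rw [Equiv.Perm.sign_of_cycleType, hn, Multiset.sum_replicate, smul_eq_mul,
      Multiset.card_replicate]
  have h3 : n ≤ 2 := by omega
  interval_cases n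
  · rw [hs] at h2
    exact absurd h2 (by decide)
  · rw [h1]
  · rw [hs] at h2
    exact absurd h2 (by decide)

end Cfsg.Agent.Lib.H69G4Invol
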