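import Mathlib
import Cfsg.Agent.Lib.Helper69G4Defs
import Cfsg.Agent.S0144
import Cfsg.Agent.S0493

set_option autoImplicit false
set_option linter.unusedVariables false
set_option linter.unusedSectionVars false

namespace Cfsg.Agent.Lib.H69G4Ord

open Cfsg Cfsg.Agent.Lib.Helper69G4Defs Equiv Equiv.Perm MulAction

/-- Burnside (`Cfsg.Agent.S0144.result`): a divisor of `p^a q^b` is `p^i q^j`
(`Nat.dvd_mul`, `(Nat.dvd_prime_pow hp).1`). -/
theorem solvable_of_dvd {G : Type*} [Group G] [Finite G] (p q a b : ℕ) (hp : p.Prime) (hq : q.Prime)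
    (h : Nat.card G ∣ p ^ a * q ^ b) : Group.IsSolvable G := by
  obtain ⟨k1, k2, h1, h2, h3⟩ := Nat.dvd_mul.1 h
  obtain ⟨i, _, rfl⟩ := (Nat.dvd_prime_pow hp).1 h1
  obtain ⟨j, _, rfl⟩ := (Nat.dvd_prime_pow hq).1 h2
  exact Cfsg.Agent.S0144.result p q i j hp hq h3.symm

theorem solvable_30_aux (d : ℕ) (h : d ∣ 30) (hne : d ≠ 30) :
    d ∣ 2 ^ 1 * 3 ^ 1 ∨ d ∣ 2 ^ 1 * 5 ^ 1 ∨ d ∣ 3 ^ 1 * 5 ^ 1 := by
  have h1 : d ≤ 30 := Nat.le_of_dvd (by norm_num) h
  interval_cases d <;> omega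

theorem solvable_30_aux2 {G : Type*} [Group G] [Finite G] (h : Nat.card G ∣ 30)
    (hne : Nat.card G ≠ 30) : Group.IsSolvable G := by
  rcases solvable_30_aux _ h hne with h1 | h1 | h1
  · exact solvable_of_dvd 2 3 1 1 Nat.prime_two Nat.prime_three h1
  · exact solvable_of_dvd 2 5 1 1 Nat.prime_two Nat.prime_five h1
  · exact solvable_of_dvd 3 5 1 1 Nat.prime_three Nat.prime_five h1

/-- A group of order 30 is solvable. -/
theorem solvable_30 {G : Type*} [Group G] (h : Nat.card G = 30) : Group.IsSolvable G := by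
  have hfin : Finite G := Nat.finite_of_card_ne_zero (by rw [h]; norm_num)
  have hnt : Nontrivial G := by
    rw [← Finite.one_lt_card_iff_nontrivial, h]
    norm_num
  by_cases hcyc : IsCyclic G
  · exact Group.isSolvable_of_comm (fun a b => (IsCyclic.isMulCommutative (α := G)).is_comm.comm a b)
  have hns : ¬ IsSimpleGroup G := by
    intro hs
    have := Cfsg.Agent.S0493.result hcyc (by rw [h]; norm_num)
    omega
  obtain ⟨M, hM, hb, ht⟩ : ∃ M : Subgroup G, M.Normal ∧ M ≠ ⊥ ∧ M ≠ ⊤ := by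
    by_contra hcon
    push Not at hcon
    apply hns
    exact ⟨fun M hM => by
      by_cases hb : M = ⊥
      · exact Or.inl hb
      · exact Or.inr (hcon M hM hb)⟩
  have hmul := Subgroup.card_mul_index M
  rw [h] at hmul
  have hM30 : Nat.card M ≠ 30 := by
    intro h1
    apply ht
    exact Subgroup.eq_top_of_card_eq M (by rw [h1, h])
  have hM1 : Nat.card M ≠ 1 := by
    intro h1
    exact hb (Subgroup.card_eq_one.1 h1)
  have hQ30 : Nat.card (G ⧸ M) ≠ 30 := by
    intro h1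
    have h2 : M.index = 30 := h1
    rw [h2] at hmul
    omega
  have s1 : Group.IsSolvable M := solvable_30_aux2 (Dvd.intro _ hmul) hM30
  have s2 : Group.IsSolvable (G ⧸ M) := solvable_30_aux2 (Dvd.intro_left _ hmul) hQ30
  exact (Group.isSolvable_iff_subgroup_quotient M).2 ⟨s1, s2⟩

end Cfsg.Agent.Lib.H69G4Ord
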