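import Mathlib
import Cfsg.Agent.Lib.Helper71FODefs
import Cfsg.Agent.S2475

/-!
# Project FO (S4068), piece `Four`  (est. 45 min)
If `PSL₂(2^a)`, `2^a ≥ 4`, has all non-identity elements of prime order then `2^a = 4`.

SKETCH.  `CharP F 2` (from `card F = 2^a`, `a ≠ 0`: `FiniteField.card`/`CharP.exists`, the characteristic `p` satisfies `p^n = 2^a` so `p = 2`; or `(2 : F) = 0` via `FiniteField.cast_card_eq_zero`).
`q - 1` is odd so `Nat.gcd 2 (q - 1) = 1`.  `Cfsg.Agent.S2475.result 2 h4`: `q - 1` and `q + 1` are element orders (`m ∣ m`), both `≠ 1`, so both are prime by `PO`.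
`3 ∣ q - 1` or `3 ∣ q + 1` (`q = 2^a` is `1` or `2` mod 3: `Nat.pow_mod`, induction, or `omega` after `q % 3 ≠ 0` from `Nat.Prime.dvd_of_dvd_pow`).  So `q - 1 = 3` (then `q = 4`) or `q + 1 = 3` (`q = 2 < 4`).
-/

set_option autoImplicit false

namespace Cfsg.Agent.Lib.H71FoFour

open Cfsg.Agent.Lib.Helper71FO

local notation "PSL2" => Matrix.ProjectiveSpecialLinearGroup (Fin 2)

theorem card_eq_four {F : Type*} [Field F] [Fintype F] (a : ℕ) (hF : Fintype.card F = 2 ^ a)
    (h4 : 4 ≤ Fintype.card F) (h : PO (PSL2 F)) : Fintype.card F = 4 := by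
  have h20 : (2 : F) = 0 := by
    have h1 := FiniteField.cast_card_eq_zero F
    rw [hF] at h1
    push_cast at h1
    exact pow_eq_zero_iff (M₀ := F) (n := a) (by
      rintro rfl
      rw [pow_zero] at hF
      omega) |>.1 h1
  have : CharP F 2 := CharTwo.of_one_ne_zero_of_two_eq_zero one_ne_zero h20
  have : Fact (Nat.Prime 2) := ⟨Nat.prime_two⟩
  have ha : a ≠ 0 := by
    rintro rfl
    rw [pow_zero] at hF
    omega
  have heven : 2 ∣ Fintype.card F := by
    rw [hF]; exact dvd_pow_self 2 ha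
  have hg : Nat.gcd 2 (Fintype.card F - 1) = 1 := by
    rw [Nat.Prime.coprime_iff_not_dvd Nat.prime_two |>.2]
    omega
  have hS := Cfsg.Agent.S2475.result (F := F) 2 h4
  rw [hg, Nat.div_one, Nat.div_one] at hS
  have hp1 : (Fintype.card F - 1).Prime := by
    have hm : Fintype.card F - 1 ∈ Set.range (orderOf : PSL2 F → ℕ) := by
      rw [hS]; exact Or.inr (Or.inl dvd_rfl)
    obtain ⟨x, hx⟩ := hm
    rcases h x with h1 | h1
    · rw [h1, orderOf_one] at hx; omega
    · rwa [hx] at h1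
  have hp2 : (Fintype.card F + 1).Prime := by
    have hm : Fintype.card F + 1 ∈ Set.range (orderOf : PSL2 F → ℕ) := by
      rw [hS]; exact Or.inr (Or.inr dvd_rfl)
    obtain ⟨x, hx⟩ := hm
    rcases h x with h1 | h1
    · rw [h1, orderOf_one] at hx; omega
    · rwa [hx] at h1
  have h3 : ¬ 3 ∣ Fintype.card F := by
    rw [hF]
    intro hd
    have := Nat.Prime.dvd_of_dvd_pow Nat.prime_three hd
    omega
  generalize Fintype.card F = q at *
  have hcase : 3 ∣ q - 1 ∨ 3 ∣ q + 1 := by
    have h5 : q % 3 = 1 ∨ q % 3 = 2 := by omega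
    rcases h5 with h5 | h5
    · left; omega
    · right; omega
  rcases hcase with hc | hc
  · have := (Nat.prime_dvd_prime_iff_eq Nat.prime_three hp1).1 hc
    omega
  · have := (Nat.prime_dvd_prime_iff_eq Nat.prime_three hp2).1 hc
    omega

end Cfsg.Agent.Lib.H71FoFour
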