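import Cfsg.Agent.Lib.Helper32PartC
import Cfsg.Agent.S1527

set_option autoImplicit false
set_option linter.unusedSectionVars false
open Cfsg

namespace Cfsg.Agent.Lib.Helper32PartD

open Cfsg.Agent.Lib.Helper4Char Cfsg.Agent.Lib.Helper4Char2 Cfsg.Agent.Lib.Helper4Char4
open Cfsg.Agent.Lib.Helper32Virt Cfsg.Agent.Lib.Helper32Coh Cfsg.Agent.Lib.Helper32Sub
open Cfsg.Agent.Lib.Helper32Link Cfsg.Agent.Lib.Helper32PartA Cfsg.Agent.Lib.Helper32PartB
open Cfsg.Agent.Lib.Helper32PartC Cfsg.Agent.S1527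

variable {G : Type*} [Group G] [Fintype G]

/-- in a group of odd order two real virtual characters, one of them orthogonal to the principal
character, have an even inner product. -/
theorem parity (hodd : Odd (Nat.card G)) {Γ Γ' : G → ℂ} (h1 : IsGeneralizedCharacter G Γ)
    (h2 : IsGeneralizedCharacter G Γ') (hc1 : conjFun Γ = Γ) (hc2 : conjFun Γ' = Γ')
    (h0 : classInner Γ (fun _ => 1) = 0) : ∃ n : ℤ, classInner Γ Γ' = ((2 * n : ℤ) : ℂ) := by
  classical
  obtain ⟨m, -, hm⟩ := gen_coord h1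
  obtain ⟨m', -, hm'⟩ := gen_coord h2
  have e1 : classInner Γ Γ' = ((∑ χ : IrrCharacter G, m χ * m' χ : ℤ) : ℂ) := by
    rw [classInner_eq_sum Γ Γ' (gen_isClassFunction h1)]
    push_cast
    apply Finset.sum_congr rfl
    intro χ _
    rw [hm χ, ← classInner_conj_symm, hm' χ]
    simp
  let cj : IrrCharacter G → IrrCharacter G := fun χ => ⟨conjFun χ, IsIrrCharacter.conj χ.2⟩
  have hcj : ∀ (Δ : G → ℂ) (μ : IrrCharacter G → ℤ), conjFun Δ = Δ →
      (∀ χ : IrrCharacter G, classInner Δ χ = μ χ) → ∀ χ, μ (cj χ) = μ χ := by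
    intro Δ μ hΔ hμ χ
    have h3 := hμ (cj χ)
    change classInner Δ (conjFun χ) = _ at h3
    rw [← hΔ, inner_conj_conj, hμ χ] at h3
    have : ((μ χ : ℤ) : ℂ) = μ (cj χ) := by simpa using h3
    exact_mod_cast this.symm
  have e2 : ((∑ χ : IrrCharacter G, m χ * m' χ : ℤ) : ZMod 2) = 0 := by
    push_cast
    apply Finset.sum_ninvolution cj
    · intro χ
      rw [hcj Γ m hc1 hm χ, hcj Γ' m' hc2 hm' χ]
      exact CharTwo.add_self_eq_zero _
    · intro χ hχ hfix
      apply hχ
      have h3 : (χ : G → ℂ) = fun _ => 1 := by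
        apply Cfsg.Agent.Lib.Helper4Odd.real_irr_eq_one_of_odd hodd χ
        intro g
        have := congrFun (congrArg Subtype.val hfix) g
        exact Complex.conj_eq_iff_im.1 this
      have h4 := hm χ
      rw [h3, h0] at h4
      have : m χ = 0 := by exact_mod_cast h4.symm
      rw [this]; simp
    · intro χ; exact Finset.mem_univ _
    · intro χ
      apply Subtype.ext
      exact conjFun_conjFun _
  obtain ⟨n, hn⟩ := (ZMod.intCast_zmod_eq_zero_iff_dvd _ 2).1 e2
  exact ⟨n, by rw [e1, hn]; push_cast; ring⟩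

/-- functions supported on the conjugates of subgroups of coprime orders are orthogonal. -/
theorem supp_orth (H H' : Subgroup G) (hcop : Nat.Coprime (Nat.card H) (Nat.card H'))
    {f f' : G → ℂ} (hf : Supp H f) (hf' : Supp H' f') : classInner f f' = 0 := by
  unfold classInner
  rw [Finset.sum_eq_zero, mul_zero]
  intro g _
  by_cases h1 : g = 1 ∨ ∀ x : G, x * g * x⁻¹ ∉ H
  · rw [hf g h1, zero_mul]
  by_cases h2 : g = 1 ∨ ∀ x : G, x * g * x⁻¹ ∉ H'
  · rw [hf' g h2, map_zero, mul_zero]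
  exfalso
  push Not at h1 h2
  obtain ⟨hg1, x, hx⟩ := h1
  obtain ⟨-, y, hy⟩ := h2
  apply hg1
  have h1 : orderOf g ∣ Nat.card H := by
    have := Subgroup.orderOf_dvd_natCard H hx
    have e : orderOf (x * g * x⁻¹) = orderOf g := by
      have := (MulAut.conj x).orderOf_eq g
      simpa using this
    rwa [e] at this
  have h2 : orderOf g ∣ Nat.card H' := by
    have := Subgroup.orderOf_dvd_natCard H' hy
    have e : orderOf (y * g * y⁻¹) = orderOf g := by
      have := (MulAut.conj y).orderOf_eq g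
      simpa using this
    rwa [e] at this
  have h3 := Nat.dvd_gcd h1 h2
  rw [Nat.coprime_iff_gcd_eq_one.1 hcop, Nat.dvd_one] at h3
  exact orderOf_eq_one_iff.1 h3

theorem supp_both_zero (H H' : Subgroup G) (hcop : Nat.Coprime (Nat.card H) (Nat.card H'))
    {f : G → ℂ} (hf : Supp H f) (hf' : Supp H' f) : f = 0 :=
  inner_self_eq_zero (supp_orth H H' hcop hf hf')

/-- Bessel's inequality. -/
theorem bessel {R : Finset (G → ℂ)} (hR : ON R) (v : G → ℂ) :
    ∑ α ∈ R, ‖classInner v α‖ ^ 2 ≤ ip v v := by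
  rw [hR.pythag v, hR.ip_proj_self v]
  have := ip_self_nonneg (v - proj R v)
  linarith

open scoped Classical in
/-- weighted count of the elements conjugate into a TI-subgroup. -/
theorem sum_cset (H : Subgroup G) (hTI : IsTISubset (H : Set G)) (F : G → ℝ)
    (hF : ∀ g x : G, F (x * g * x⁻¹) = F g) :
    (Nat.card (Subgroup.normalizer (H : Set G)) : ℝ) * ∑ g ∈ cset H, F g =
      (Nat.card G : ℝ) * ∑ z : G, (if z ∈ H ∧ z ≠ 1 then F z else 0) := by
  set N := Subgroup.normalizer (H : Set G) with hN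
  have hA : ∀ g : G, (∑ x : G, if g ≠ 1 ∧ x * g * x⁻¹ ∈ H then F g else 0) =
      if g ∈ cset H then (Nat.card N : ℝ) * F g else 0 := by
    intro g
    split_ifs with hg
    · obtain ⟨-, hg1, x₀, hx₀⟩ := Finset.mem_filter.1 hg
      rw [← Finset.sum_filter, Finset.sum_const, nsmul_eq_mul]
      congr 2
      rw [Nat.card_eq_fintype_card, Fintype.card_subtype]
      apply Finset.card_bij (fun x _ => x * x₀⁻¹)
      · intro x hx
        obtain ⟨-, -, hx⟩ := Finset.mem_filter.1 hx
        rw [Finset.mem_filter]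
        refine ⟨Finset.mem_univ _, ?_⟩
        by_contra hcon
        have h1 := hTI (x * x₀⁻¹) hcon (x₀ * g * x₀⁻¹) hx₀ (by
          have e : x * x₀⁻¹ * (x₀ * g * x₀⁻¹) * (x * x₀⁻¹)⁻¹ = x * g * x⁻¹ := by group
          rw [e]; exact hx)
        apply hg1
        have : g = x₀⁻¹ * (x₀ * g * x₀⁻¹) * x₀ := by group
        rw [this, h1]; group
      · intro x _ y _ h
        exact mul_right_cancel h
      · intro y hy
        obtain ⟨-, hy⟩ := Finset.mem_filter.1 hy
        refine ⟨y * x₀, ?_, by group⟩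
        rw [Finset.mem_filter]
        refine ⟨Finset.mem_univ _, hg1, ?_⟩
        have := (Subgroup.mem_normalizer_iff.1 hy (x₀ * g * x₀⁻¹)).1 hx₀
        have e : y * x₀ * g * (y * x₀)⁻¹ = y * (x₀ * g * x₀⁻¹) * y⁻¹ := by group
        rw [e]; exact this
    · apply Finset.sum_eq_zero
      intro x _
      rw [if_neg]
      rintro ⟨h1, h2⟩
      exact hg (Finset.mem_filter.2 ⟨Finset.mem_univ _, h1, x, h2⟩)
  have hB : ∀ x : G, (∑ g : G, if g ≠ 1 ∧ x * g * x⁻¹ ∈ H then F g else 0) =
      ∑ z : G, (if z ∈ H ∧ z ≠ 1 then F z else 0) := by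
    intro x
    rw [← Equiv.sum_comp (MulAut.conj x).toEquiv (fun z => if z ∈ H ∧ z ≠ 1 then F z else 0)]
    apply Finset.sum_congr rfl
    intro g _
    have e : (MulAut.conj x).toEquiv g = x * g * x⁻¹ := by simp
    rw [e, hF]
    have e2 : x * g * x⁻¹ ≠ 1 ↔ g ≠ 1 := by
      rw [Ne, Ne, not_iff_not]
      constructor
      · intro h
        have : g = x⁻¹ * (x * g * x⁻¹) * x := by group
        rw [this, h]; group
      · rintro rfl; group
    by_cases h : g ≠ 1 ∧ x * g * x⁻¹ ∈ H
    · rw [if_pos h, if_pos ⟨h.2, e2.2 h.1⟩]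
    · rw [if_neg h, if_neg (fun h' => h ⟨e2.1 h'.2, h'.1⟩)]
  have h1 : ∑ g : G, (∑ x : G, if g ≠ 1 ∧ x * g * x⁻¹ ∈ H then F g else 0) =
      (Nat.card N : ℝ) * ∑ g ∈ cset H, F g := by
    rw [Finset.sum_congr rfl (fun g _ => hA g), ← Finset.sum_filter, Finset.mul_sum]
    apply Finset.sum_congr _ (fun _ _ => rfl)
    ext g; simp
  rw [← h1, Finset.sum_comm, Finset.sum_congr rfl (fun x _ => hB x), Finset.sum_const,
    Finset.card_univ, nsmul_eq_mul, ← Nat.card_eq_fintype_card]

/-- splitting a sum over `G` along the partition by the conjugates of the `H i`. -/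
theorem split {ι : Type*} [Fintype ι] (H : ι → Subgroup G)
    (hcop : ∀ i j, i ≠ j → Nat.Coprime (Nat.card (H i)) (Nat.card (H j)))
    (hcover : ∀ g : G, g ≠ 1 → ∃ i, ∃ x : G, x * g * x⁻¹ ∈ H i) (F : G → ℝ) :
    ∑ g : G, F g = F 1 + ∑ i, ∑ g ∈ cset (H i), F g := by
  classical
  rw [← Finset.sum_biUnion]
  · have : (Finset.univ.biUnion fun i => cset (H i)) = (Finset.univ : Finset G).erase 1 := by
      ext g
      simp only [Finset.mem_biUnion, Finset.mem_univ, true_and, Finset.mem_erase, and_true]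
      constructor
      · rintro ⟨i, hi⟩
        exact (Finset.mem_filter.1 hi).2.1
      · intro hg
        obtain ⟨i, x, hx⟩ := hcover g hg
        exact ⟨i, Finset.mem_filter.2 ⟨Finset.mem_univ _, hg, x, hx⟩⟩
    rw [this, Finset.add_sum_erase _ _ (Finset.mem_univ _)]
  · intro i _ j _ hij
    rw [Function.onFun, Finset.disjoint_left]
    intro g hgi hgj
    obtain ⟨-, hg1, x, hx⟩ := Finset.mem_filter.1 hgi
    obtain ⟨-, -, y, hy⟩ := Finset.mem_filter.1 hgj
    apply hg1
    have h1 : orderOf g ∣ Nat.card (H i) := by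
      have := Subgroup.orderOf_dvd_natCard (H i) hx
      have e : orderOf (x * g * x⁻¹) = orderOf g := by
        have := (MulAut.conj x).orderOf_eq g
        simpa using this
      rwa [e] at this
    have h2 : orderOf g ∣ Nat.card (H j) := by
      have := Subgroup.orderOf_dvd_natCard (H j) hy
      have e : orderOf (y * g * y⁻¹) = orderOf g := by
        have := (MulAut.conj y).orderOf_eq g
        simpa using this
      rwa [e] at this
    have h3 := Nat.dvd_gcd h1 h2
    rw [Nat.coprime_iff_gcd_eq_one.1 (hcop i j hij), Nat.dvd_one] at h3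
    exact orderOf_eq_one_iff.1 h3

/-- the final numerical contradiction. -/
theorem final_arith (g e h m A N : ℝ) (hg : 0 < g) (he : 2 ≤ e) (hm : 2 ≤ m) (hh : h = e * m + 1)
    (hA : g * (e * h - e ^ 2) ≤ e * h * A) (hN : e * h * N = g * (h - 1))
    (hmain : (h + 2) * (A - N) ≤ g * (e - 1)) : False := by
  have hh1 : 2 * e + 1 ≤ h := by rw [hh]; nlinarith
  have hh0 : 0 < h := by linarith
  have heh : 0 < e * h := by positivity
  have s1 : e * h * ((h + 2) * (A - N)) ≤ e * h * (g * (e - 1)) :=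
    mul_le_mul_of_nonneg_left hmain heh.le
  have s2 : (h + 2) * (g * (e * h - e ^ 2) - g * (h - 1)) ≤ (h + 2) * (e * h * A - e * h * N) := by
    apply mul_le_mul_of_nonneg_left _ (by linarith)
    rw [hN]; linarith
  have s3 : g * ((h + 2) * (e * h - e ^ 2 - h + 1)) ≤ g * (e * h * (e - 1)) := by
    calc g * ((h + 2) * (e * h - e ^ 2 - h + 1))
        = (h + 2) * (g * (e * h - e ^ 2) - g * (h - 1)) := by ring
      _ ≤ (h + 2) * (e * h * A - e * h * N) := s2
      _ = e * h * ((h + 2) * (A - N)) := by ring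
      _ ≤ e * h * (g * (e - 1)) := s1
      _ = g * (e * h * (e - 1)) := by ring
  have s4 : (h + 2) * (e * h - e ^ 2 - h + 1) ≤ e * h * (e - 1) := le_of_mul_le_mul_left s3 hg
  have s5 : (e - 1) * ((h + 2) * (h - e - 1)) ≤ (e - 1) * (e * h) := by
    calc (e - 1) * ((h + 2) * (h - e - 1)) = (h + 2) * (e * h - e ^ 2 - h + 1) := by ring
      _ ≤ e * h * (e - 1) := s4
      _ = (e - 1) * (e * h) := by ring
  have s6 : (h + 2) * (h - e - 1) ≤ e * h := le_of_mul_le_mul_left s5 (by linarith)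
  have s7 : h * (h - 2 * e) ≥ h * 1 := mul_le_mul_of_nonneg_left (by linarith) hh0.le
  nlinarith

end Cfsg.Agent.Lib.Helper32PartD
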