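import Cfsg.Agent.Lib.Helper32CN2
import Cfsg.Agent.S1477
import Cfsg.Agent.S0035
import Cfsg.Agent.S1526

/-!
A minimal simple group of odd order is not a CN-group (Feit-Hall-Thompson).
-/

set_option autoImplicit false
open Cfsg
open Cfsg.Agent.Lib.Helper32CN1 Cfsg.Agent.Lib.Helper32CN2

namespace Cfsg.Agent.Lib.Helper32CN3

variable {G : Type*} [Group G] [Finite G]

/-- maximal nilpotent subgroups. -/
def MaxNil (H : Subgroup G) : Prop :=
  Group.IsNilpotent H ∧ ∀ L : Subgroup G, Group.IsNilpotent L → H ≤ L → L = H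

theorem exists_maxNil (K : Subgroup G) (hK : Group.IsNilpotent K) : ∃ H, MaxNil H ∧ K ≤ H := by
  obtain ⟨H, hKH, hH⟩ := Finite.exists_le_maximal (p := fun L : Subgroup G => Group.IsNilpotent L) hK
  exact ⟨H, ⟨hH.1, fun L hL hHL => le_antisymm (hH.2 hL hHL) hHL⟩, hKH⟩

omit [Finite G] in
theorem zpowers_nil (x : G) : Group.IsNilpotent (Subgroup.zpowers x) := by
  open scoped IsMulCommutative in exact inferInstance

theorem exists_maxNil_mem (x : G) : ∃ H, MaxNil H ∧ x ∈ H := by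
  obtain ⟨H, hH, hle⟩ := exists_maxNil (Subgroup.zpowers x) (zpowers_nil x)
  exact ⟨H, hH, hle (Subgroup.mem_zpowers x)⟩

theorem MaxNil.ne_top (h : MinS G) {H : Subgroup G} (hH : MaxNil H) : H ≠ ⊤ := by
  rintro rfl
  apply h.nsol
  haveI := hH.1
  haveI : Group.IsNilpotent G := Group.nilpotent_of_mulEquiv (Subgroup.topEquiv (G := G))
  infer_instance

theorem exists_ne_one (h : MinS G) : ∃ x : G, x ≠ 1 := by
  by_contra hcon
  push Not at hcon
  apply h.nsol
  haveI : Subsingleton G := ⟨fun a b => by rw [hcon a, hcon b]⟩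
  infer_instance

theorem MaxNil.ne_bot (h : MinS G) {H : Subgroup G} (hH : MaxNil H) : H ≠ ⊥ := by
  rintro rfl
  obtain ⟨x, hx⟩ := exists_ne_one h
  have := hH.2 (Subgroup.zpowers x) (zpowers_nil x) bot_le
  rw [Subgroup.zpowers_eq_bot] at this
  exact hx this

/-- a `p`-element is conjugate into any subgroup of index prime to `p`. -/
theorem conj_mem_of_not_dvd_index {p : ℕ} [Fact p.Prime] (H : Subgroup G) (hp : ¬ p ∣ H.index)
    {z : G} (hz : PEl p z) : ∃ g : G, g * z * g⁻¹ ∈ H := by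
  have h1 := (zpowers_isPGroup hz).nonempty_fixed_point_of_prime_not_dvd_card (G ⧸ H)
    (by rwa [← Subgroup.index_eq_card])
  obtain ⟨c, hc⟩ := h1
  obtain ⟨g, rfl⟩ := QuotientGroup.mk_surjective c
  have h2 := hc ⟨z, Subgroup.mem_zpowers z⟩
  have h3 : (QuotientGroup.mk (z * g) : G ⧸ H) = QuotientGroup.mk g := h2
  rw [QuotientGroup.eq] at h3
  refine ⟨g⁻¹, ?_⟩
  have h4 := H.inv_mem h3
  simpa [mul_assoc] using h4

theorem dvd_card_of_pgroup {p : ℕ} [hp : Fact p.Prime] {H : Subgroup G} (hHp : IsPGroup p H)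
    (hH1 : H ≠ ⊥) : p ∣ Nat.card H := by
  obtain ⟨k, hk⟩ := hHp.exists_card_eq
  rw [hk]
  apply dvd_pow_self
  rintro rfl
  rw [pow_zero, Subgroup.card_eq_one] at hk
  exact hH1 hk

/-- if a maximal nilpotent subgroup is a `p`-group then it is a Sylow subgroup. -/
theorem sylow_of_maxNil {p : ℕ} [hp : Fact p.Prime] {H : Subgroup G} (hH : MaxNil H)
    (hHp : IsPGroup p H) : ∃ P : Sylow p G, (P : Subgroup G) = H := by
  obtain ⟨P, hP⟩ := hHp.exists_le_sylow
  exact ⟨P, hH.2 P P.2.isNilpotent hP⟩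

/-- if a maximal nilpotent subgroup is a `p`-group then `p` is isolated. -/
theorem iso_of_maxNil (hCN : IsCNGroup G) {p : ℕ} [hp : Fact p.Prime] {H : Subgroup G}
    (hH : MaxNil H) (hHp : IsPGroup p H) (hH1 : H ≠ ⊥) : Iso p G := by
  obtain ⟨P, hPH⟩ := sylow_of_maxNil hH hHp
  obtain ⟨u, huH, hu1, ⟨k, huk⟩, huc⟩ :=
    Cfsg.Agent.S1477.exists_central H hH.1 p (dvd_card_of_pgroup hHp hH1)
  have hCu := Cfsg.Agent.S1477.cent_eq hCN H hH.2 u hu1 huc
  intro x y hx1 hxp hxy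
  have hidx : ¬ p ∣ H.index := hPH ▸ P.not_dvd_index
  obtain ⟨g, hg⟩ := conj_mem_of_not_dvd_index H hidx hxp
  obtain ⟨a, m, hm, hn⟩ := Nat.exists_eq_pow_mul_and_not_dvd (orderOf_pos (g * y * g⁻¹)).ne' p
    hp.out.ne_one
  have hwm : ((g * y * g⁻¹) ^ p ^ a) ^ m = 1 := by
    rw [← pow_mul, ← hn, pow_orderOf_eq_one]
  have hwo : orderOf ((g * y * g⁻¹) ^ p ^ a) ∣ m := orderOf_dvd_of_pow_eq_one hwm
  have hcpm : Nat.Coprime p m := (Nat.Prime.coprime_iff_not_dvd hp.out).2 hm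
  have hx'1 : g * x * g⁻¹ ≠ 1 := conj_ne_one hx1
  have hcomm : (g * y * g⁻¹) * (g * x * g⁻¹) = (g * x * g⁻¹) * (g * y * g⁻¹) := by
    calc (g * y * g⁻¹) * (g * x * g⁻¹) = g * (y * x) * g⁻¹ := by group
      _ = g * (x * y) * g⁻¹ := by rw [hxy]
      _ = _ := by group
  have hw : (g * y * g⁻¹) ^ p ^ a ∈ Subgroup.centralizer ({g * x * g⁻¹} : Set G) := by
    apply Subgroup.pow_mem
    exact Subgroup.mem_centralizer_singleton_iff.2 hcomm
  have hu : u ∈ Subgroup.centralizer ({g * x * g⁻¹} : Set G) :=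
    Subgroup.mem_centralizer_singleton_iff.2 (huc _ hg).symm
  have h1 := Cfsg.Agent.S1477.commute_in _ (hCN _ hx'1) hw hu (by
    rw [huk]
    exact (Nat.Coprime.coprime_dvd_right hwo (Nat.Coprime.pow_left k hcpm)).symm)
  have h2 : (g * y * g⁻¹) ^ p ^ a ∈ H := by
    rw [← hCu]
    exact Subgroup.mem_centralizer_singleton_iff.2 h1
  obtain ⟨j, hj⟩ := PEl_of_mem hHp h2
  have h3 : orderOf ((g * y * g⁻¹) ^ p ^ a) = 1 :=
    Nat.eq_one_of_dvd_coprimes (Nat.Coprime.pow_left j hcpm) (orderOf_dvd_of_pow_eq_one hj) hwo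
  rw [orderOf_eq_one_iff, conj_pow] at h3
  refine ⟨a, ?_⟩
  by_contra hne
  exact conj_ne_one hne h3

/-- all maximal nilpotent subgroups are TI. -/
theorem maxNil_TI (h : MinS G) (hCN : IsCNGroup G) {H : Subgroup G} (hH : MaxNil H) :
    ∀ g : G, H.map (MulAut.conj g).toMonoidHom ≠ H →
      H ⊓ H.map (MulAut.conj g).toMonoidHom = ⊥ := by
  have hH1 := hH.ne_bot h
  by_cases hpp : IsPrimePow (Nat.card H)
  · obtain ⟨p, k, hp, hk, hcard⟩ := (isPrimePow_nat_iff _).1 hpp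
    haveI : Fact p.Prime := ⟨hp⟩
    have hHp : IsPGroup p H := IsPGroup.of_card hcard.symm
    obtain ⟨P, hPH⟩ := sylow_of_maxNil hH hHp
    have hiso := iso_of_maxNil hCN hH hHp hH1
    intro g hg
    rw [eq_bot_iff]
    rintro y ⟨hy, x, hx, rfl⟩
    rw [Subgroup.mem_bot]
    by_contra hne
    apply hg
    have hx1 : x ≠ 1 := by
      rintro rfl
      exact hne (map_one _)
    have hy' : g * x * g⁻¹ ∈ (P : Subgroup G) := by rw [hPH]; exact hy
    have h1 := sylow_TI h hiso P (hPH ▸ hx) hx1 hy'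
    rw [hPH] at h1
    exact Subgroup.mem_normalizer_iff_map_conj_eq.1 h1
  · exact (Cfsg.Agent.S1477.result hCN H hH.1 hH.2).2.1 hpp
      (by rw [Ne, Subgroup.card_eq_one]; exact hH1)

theorem maxNil_cent (h : MinS G) (hCN : IsCNGroup G) {H : Subgroup G} (hH : MaxNil H) :
    ∀ x ∈ H, x ≠ 1 → Subgroup.centralizer ({x} : Set G) ≤ H :=
  (Cfsg.Agent.S1477.result hCN H hH.1 hH.2).2.2 (maxNil_TI h hCN hH)

theorem maxNil_hall (hCN : IsCNGroup G) {H : Subgroup G} (hH : MaxNil H) :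
    (Nat.card H).Coprime H.index :=
  (Cfsg.Agent.S1477.result hCN H hH.1 hH.2).1

theorem maxNil_TI' (h : MinS G) (hCN : IsCNGroup G) {H : Subgroup G} (hH : MaxNil H) {g x : G}
    (hx : x ∈ H) (hx1 : x ≠ 1) (hgx : g * x * g⁻¹ ∈ H) :
    g ∈ Subgroup.normalizer (H : Set G) := by
  by_contra hg
  have h1 := maxNil_TI h hCN hH g (fun he => hg (Subgroup.mem_normalizer_iff_map_conj_eq.2 he))
  have h2 : g * x * g⁻¹ ∈ H ⊓ H.map (MulAut.conj g).toMonoidHom := ⟨hgx, x, hx, rfl⟩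
  rw [h1, Subgroup.mem_bot] at h2
  exact conj_ne_one hx1 h2

/-- `H` is properly contained in its normaliser (Frobenius' theorem). -/
theorem maxNil_lt_normalizer (h : MinS G) (hCN : IsCNGroup G) {H : Subgroup G} (hH : MaxNil H) :
    H < Subgroup.normalizer (H : Set G) := by
  refine lt_of_le_of_ne Subgroup.le_normalizer ?_
  intro he
  have hfc : Cfsg.IsFrobeniusComplement H := by
    refine ⟨hH.ne_bot h, hH.ne_top h, ?_⟩
    intro g hg
    rw [Subgroup.pointwise_smul_def]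
    apply maxNil_TI h hCN hH g
    intro hmap
    apply hg
    rw [he]
    exact Subgroup.mem_normalizer_iff_map_conj_eq.2 hmap
  obtain ⟨N, -, hN, hcomp⟩ := Cfsg.Agent.S0035.result H hfc
  haveI := h.simple
  rcases hN.eq_bot_or_eq_top with h1 | h1
  · subst h1
    exact hH.ne_top h (Subgroup.isComplement'_bot_left.1 hcomp)
  · subst h1
    exact hH.ne_bot h (Subgroup.isComplement'_top_left.1 hcomp)

/-- maximal nilpotent subgroups whose orders share a prime are conjugate. -/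
theorem conj_le (h : MinS G) (hCN : IsCNGroup G) {H₁ H₂ : Subgroup G} (hH₁ : MaxNil H₁)
    (hH₂ : MaxNil H₂) {p : ℕ} (hp : p.Prime) (h1 : p ∣ Nat.card H₁) (h2 : p ∣ Nat.card H₂) :
    ∃ g : G, ∀ x ∈ H₁, g * x * g⁻¹ ∈ H₂ := by
  haveI : Fact p.Prime := ⟨hp⟩
  obtain ⟨z, hzH, hz1, ⟨k, hzk⟩, hzc⟩ := Cfsg.Agent.S1477.exists_central H₁ hH₁.1 p h1
  have hidx : ¬ p ∣ H₂.index := by
    intro hd
    have := Nat.eq_one_of_dvd_coprimes (maxNil_hall hCN hH₂) h2 hd
    exact hp.one_lt.ne' this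
  obtain ⟨g, hg⟩ := conj_mem_of_not_dvd_index H₂ hidx
    (⟨k, by rw [← hzk, pow_orderOf_eq_one]⟩ : PEl p z)
  refine ⟨g, fun x hx => ?_⟩
  apply maxNil_cent h hCN hH₂ _ hg (conj_ne_one hz1)
  rw [Subgroup.mem_centralizer_singleton_iff]
  calc (g * x * g⁻¹) * (g * z * g⁻¹) = g * (x * z) * g⁻¹ := by group
    _ = g * (z * x) * g⁻¹ := by rw [hzc x hx]
    _ = _ := by group

theorem card_le_of_conj {H₁ H₂ : Subgroup G} {g : G} (hg : ∀ x ∈ H₁, g * x * g⁻¹ ∈ H₂) :
    Nat.card H₁ ≤ Nat.card H₂ := by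
  apply Nat.card_le_card_of_injective (fun x : H₁ => (⟨g * x * g⁻¹, hg x x.2⟩ : H₂))
  intro a b hab
  have h1 : g * (a : G) * g⁻¹ = g * b * g⁻¹ := congrArg Subtype.val hab
  apply Subtype.ext
  simpa using h1

theorem card_eq_of_dvd (h : MinS G) (hCN : IsCNGroup G) {H₁ H₂ : Subgroup G} (hH₁ : MaxNil H₁)
    (hH₂ : MaxNil H₂) {p : ℕ} (hp : p.Prime) (h1 : p ∣ Nat.card H₁) (h2 : p ∣ Nat.card H₂) :
    Nat.card H₁ = Nat.card H₂ := by
  obtain ⟨g, hg⟩ := conj_le h hCN hH₁ hH₂ hp h1 h2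
  obtain ⟨g', hg'⟩ := conj_le h hCN hH₂ hH₁ hp h2 h1
  exact le_antisymm (card_le_of_conj hg) (card_le_of_conj hg')

/-- **Feit-Hall-Thompson**: no minimal simple group of odd order is a CN-group. -/
theorem not_cn (h : MinS G) (hCN : IsCNGroup G) : False := by
  classical
  letI := Fintype.ofFinite (Subgroup G)
  let S : Finset ℕ := (Finset.univ.filter (fun H : Subgroup G => MaxNil H)).image
    (fun H : Subgroup G => Nat.card H)
  have key : ∀ i : S, ∃ H : Subgroup G, MaxNil H ∧ Nat.card H = i := by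
    intro i
    obtain ⟨H, hH, hHi⟩ := Finset.mem_image.1 i.2
    exact ⟨H, (Finset.mem_filter.1 hH).2, hHi⟩
  have memS : ∀ H : Subgroup G, MaxNil H → Nat.card H ∈ S := by
    intro H hH
    exact Finset.mem_image.2 ⟨H, Finset.mem_filter.2 ⟨Finset.mem_univ _, hH⟩, rfl⟩
  choose X hX hXc using key
  have hne1 : ∀ H : Subgroup G, MaxNil H → Nat.card H ≠ 1 := by
    intro H hH
    rw [Ne, Subgroup.card_eq_one]
    exact hH.ne_bot h
  by_cases hcard : 2 ≤ Fintype.card S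
  · refine Cfsg.Agent.S1526.result h.odd hcard
      (fun i => Subgroup.normalizer ((X i : Subgroup G) : Set G)) X ?_ ?_ ?_ ?_ ?_ ?_ ?_
    · intro i
      exact maxNil_lt_normalizer h hCN (hX i)
    · intro i
      exact (hX i).ne_bot h
    · intro i x hx a ha
      exact (Subgroup.mem_normalizer_iff.1 hx a).1 ha
    · intro i a ha ha1
      exact inf_le_right.trans (maxNil_cent h hCN (hX i) a ha ha1)
    · intro i j hij
      by_contra hnc
      obtain ⟨p, hp, hpi, hpj⟩ := Nat.Prime.not_coprime_iff_dvd.1 hnc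
      apply hij
      apply Subtype.ext
      rw [← hXc i, ← hXc j]
      exact card_eq_of_dvd h hCN (hX i) (hX j) hp hpi hpj
    · intro i
      refine ⟨?_, rfl⟩
      intro g hg a ha hga
      by_contra ha1
      exact hg (maxNil_TI' h hCN (hX i) ha ha1 hga)
    · intro g hg
      obtain ⟨H, hH, hgH⟩ := exists_maxNil_mem g
      let i : S := ⟨_, memS H hH⟩
      have hi : Nat.card (X i) = Nat.card H := hXc i
      obtain ⟨p, hp, hpd⟩ := Nat.exists_prime_and_dvd (hne1 H hH)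
      obtain ⟨y, hy⟩ := conj_le h hCN hH (hX i) hp hpd (hi ▸ hpd)
      exact ⟨i, y, hy g hgH⟩
  · push Not at hcard
    have hle : Fintype.card S ≤ 1 := by omega
    rw [Fintype.card_le_one_iff] at hle
    obtain ⟨H, hH, -⟩ := exists_maxNil_mem (1 : G)
    apply hH.ne_top h
    rw [← Subgroup.index_eq_one]
    by_contra hidx
    obtain ⟨p, hp, hpd⟩ := Nat.exists_prime_and_dvd hidx
    haveI : Fact p.Prime := ⟨hp⟩
    have hpG : p ∣ Nat.card G := hpd.trans (Subgroup.index_dvd_card H)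
    obtain ⟨y, hy⟩ := exists_prime_orderOf_dvd_card' p hpG
    obtain ⟨H', hH', hyH'⟩ := exists_maxNil_mem y
    have hpH' : p ∣ Nat.card H' := by
      have := orderOf_dvd_natCard (⟨y, hyH'⟩ : H')
      rwa [Subgroup.orderOf_mk, hy] at this
    have hc : Nat.card H' = Nat.card H :=
      congrArg Subtype.val (hle ⟨_, memS H' hH'⟩ ⟨_, memS H hH⟩)
    rw [hc] at hpH'
    have := Nat.eq_one_of_dvd_coprimes (maxNil_hall hCN hH) hpH' hpd
    exact hp.one_lt.ne' this

end Cfsg.Agent.Lib.Helper32CN3
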