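import Mathlib

set_option autoImplicit false

namespace Cfsg.Agent.Lib.Helper31Coset

theorem nilpotent_of_injective {K L : Type*} [Group K] [Group L] [Group.IsNilpotent L] (f : K →* L)
    (hf : Function.Injective f) : Group.IsNilpotent K :=
  Group.nilpotent_of_mulEquiv (MonoidHom.ofInjective hf).symm

theorem nilpotent_of_le {G : Type*} [Group G] {K L : Subgroup G} (hL : Group.IsNilpotent L)
    (h : K ≤ L) : Group.IsNilpotent K :=
  nilpotent_of_injective (Subgroup.inclusion h) (Subgroup.inclusion_injective h)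

theorem nilpotent_map {G G' : Type*} [Group G] [Group G'] (f : G →* G') {L : Subgroup G}
    (hL : Group.IsNilpotent L) : Group.IsNilpotent (L.map f) :=
  Group.nilpotent_of_surjective (f.subgroupMap L) (f.subgroupMap_surjective L)

/-- conjugation action of a subgroup `R` on a coset `x H` which it stabilises -/
@[reducible] def cosetAction {G : Type*} [Group G] (H : Subgroup G) [hH : H.Normal] (R : Subgroup G) (x : G)
    (hx : ∀ t ∈ R, t * x * t⁻¹ * x⁻¹ ∈ H) : MulAction R {g : G // x⁻¹ * g ∈ H} where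
  smul t g := ⟨t * g * (t : G)⁻¹, by
    have h1 : x⁻¹ * ((t : G) * g * (t : G)⁻¹) =
        (x⁻¹ * ((t : G) * x * (t : G)⁻¹ * x⁻¹) * x⁻¹⁻¹) * ((t : G) * (x⁻¹ * g) * (t : G)⁻¹) := by group
    rw [h1]
    exact H.mul_mem (hH.conj_mem _ (hx t t.2) _) (hH.conj_mem _ g.2 _)⟩
  one_smul g := by
    apply Subtype.ext
    show ((1 : R) : G) * g * ((1 : R) : G)⁻¹ = g
    simp
  mul_smul s t g := by
    apply Subtype.ext
    show ((s * t : R) : G) * g * ((s * t : R) : G)⁻¹ = (s : G) * ((t : G) * g * (t : G)⁻¹) * (s : G)⁻¹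
    simp only [Subgroup.coe_mul]
    group

/-- An `r`-group stabilising a coset of a normal subgroup of order prime to `r` centralises some
element of that coset. -/
theorem exists_fixed_in_coset {G : Type*} [Group G] [Finite G] (H : Subgroup G) [hH : H.Normal]
    (r : ℕ) [Fact r.Prime] (hr : ¬ r ∣ Nat.card H) (R : Subgroup G) (hR : IsPGroup r R) (x : G)
    (hx : ∀ t ∈ R, t * x * t⁻¹ * x⁻¹ ∈ H) :
    ∃ h ∈ H, ∀ t ∈ R, t * (x * h) = (x * h) * t := by
  letI := cosetAction H R x hx
  have hcard : Nat.card {g : G // x⁻¹ * g ∈ H} = Nat.card H := by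
    apply Nat.card_congr
    refine ⟨fun g => ⟨x⁻¹ * g, g.2⟩, fun h => ⟨x * h, by simp⟩, ?_, ?_⟩
    · intro g; apply Subtype.ext; simp
    · intro h; apply Subtype.ext; simp
  obtain ⟨g, hg⟩ := hR.nonempty_fixed_point_of_prime_not_dvd_card {g : G // x⁻¹ * g ∈ H}
    (by rw [hcard]; exact hr)
  refine ⟨x⁻¹ * g, g.2, ?_⟩
  intro t ht
  have h1 : t * (g : G) * t⁻¹ = g := congrArg Subtype.val (hg ⟨t, ht⟩)
  rw [mul_inv_cancel_left]
  calc t * (g : G) = t * g * t⁻¹ * t := by group
    _ = g * t := by rw [h1]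

end Cfsg.Agent.Lib.Helper31Coset
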