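import Mathlib
import Cfsg.Agent.Lib.Helper71FODefs
import Cfsg.Agent.S0183

/-!
# Project FO (S4068), piece `Odd`  (est. 40 min)
`centralizer_isPGroup`: in a `PO` group the centralizer of `g ≠ 1` is a `p`-group, `p = orderOf g`.
For `y ∈ C(g)`, `y ≠ 1`, `l = orderOf y` prime.  If `l ≠ p`: `orderOf (g*y) = p*l` (`Commute.orderOf_mul_eq_mul_orderOf_of_coprime`), not prime (`Nat.not_prime_mul`) and `g*y ≠ 1` (else order 1 = p*l). Contradiction with `PO`.
So `y^p = 1` for all `y ∈ C(g)`: `IsPGroup p` (exponent `p^1`).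
`isSolvable_of_odd`: `C(g)` is nilpotent (`IsPGroup.isNilpotent`), so `Cfsg.IsCNGroup X`; `Cfsg.Agent.S0183.result`.
-/

set_option autoImplicit false

namespace Cfsg.Agent.Lib.H71FoOdd

open Cfsg.Agent.Lib.Helper71FO

theorem centralizer_isPGroup {X : Type*} [Group X] [Finite X] (h : PO X) (g : X) (hg : g ≠ 1) :
    IsPGroup (orderOf g) ↥(Subgroup.centralizer ({g} : Set X)) ∧
      ∀ y ∈ Subgroup.centralizer ({g} : Set X), y ^ orderOf g = 1 := by
  have hp : (orderOf g).Prime := (h g).resolve_left hg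
  have key : ∀ y ∈ Subgroup.centralizer ({g} : Set X), y ^ orderOf g = 1 := by
    intro y hy
    by_cases hy1 : y = 1
    · simp [hy1]
    have hl := (h y).resolve_left hy1
    by_cases hlp : orderOf y = orderOf g
    · rw [← hlp]; exact pow_orderOf_eq_one y
    exfalso
    have hcomm : Commute g y := (Subgroup.mem_centralizer_singleton_iff.1 hy).symm
    have hcop : (orderOf g).Coprime (orderOf y) := (Nat.coprime_primes hp hl).2 (Ne.symm hlp)
    have ho := hcomm.orderOf_mul_eq_mul_orderOf_of_coprime hcop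
    rcases h (g * y) with h1 | h1
    · rw [h1, orderOf_one] at ho
      have h2 := hp.two_le
      have h3 := hl.two_le
      nlinarith
    · rw [ho] at h1
      exact Nat.not_prime_mul hp.one_lt.ne' hl.one_lt.ne' h1
  refine ⟨?_, key⟩
  rintro ⟨y, hy⟩
  exact ⟨1, Subtype.ext (by simpa using key y hy)⟩

theorem isSolvable_of_odd {X : Type*} [Group X] [Finite X] (hodd : Odd (Nat.card X)) (h : PO X) :
    Group.IsSolvable X := by
  refine Cfsg.Agent.S0183.result hodd ?_
  intro g hg
  haveI : Fact (orderOf g).Prime := ⟨(h g).resolve_left hg⟩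
  exact (centralizer_isPGroup h g hg).1.isNilpotent

end Cfsg.Agent.Lib.H71FoOdd
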