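import Mathlib
import Cfsg.Agent.Lib.Helper71FODefs
import Cfsg.Agent.Lib.H71FoOdd

/-!
# Project FO (S4068), piece `Syl`  (est. 60 min)
In a non-solvable `PO` group a Sylow 2-subgroup is neither cyclic nor normal.

SKETCH.  `card G` is even, else `H71FoOdd.isSolvable_of_odd`.  So `(Nat.card G).minFac = 2` (`Nat.minFac_eq_two_iff`).
* `T` cyclic: Mathlib `IsCyclic.isComplement'` (file `Mathlib/GroupTheory/Transfer.lean`): `K = (MonoidHom.transferSylow T _).ker` is a normal complement of `T`.
  `card K = T.index` is odd (`IsComplement'.index_eq_card`/`card_mul_card`, `Sylow.not_dvd_index`), `K` is `PO` (`PO.subgroup`) so solvable; `G ⧸ K` embeds in `T` (range of the transfer hom; or `card (G ⧸ K) = card T` is a power of 2 => `IsPGroup` => nilpotent => solvable).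
  `G` solvable: `Group.isSolvable_of_ker_le_range (K.subtype) (QuotientGroup.mk' K) (by simp)` (give the two solvability instances with `haveI`).
* `T` normal: `G ⧸ T` has odd order (`T.index`), is `PO` (`PO.of_surjective _ (QuotientGroup.mk' _) (QuotientGroup.mk'_surjective _)`), so solvable; `T` is a 2-group, so solvable (`IsPGroup.isNilpotent`, `IsNilpotent.to_isSolvable`).  Same extension lemma.
-/

set_option autoImplicit false

namespace Cfsg.Agent.Lib.H71FoSyl

open Cfsg.Agent.Lib.Helper71FO

variable {G : Type*} [Group G] [Finite G]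

theorem even_card (hns : ¬ Group.IsSolvable G) (h : PO G) : 2 ∣ Nat.card G := by
  by_contra hcon
  exact hns (Cfsg.Agent.Lib.H71FoOdd.isSolvable_of_odd (Nat.odd_iff.2 (by omega)) h)

theorem solvable_sylow (T : Sylow 2 G) : Group.IsSolvable ↥(T : Subgroup G) := by
  have : Fact (Nat.Prime 2) := ⟨Nat.prime_two⟩
  have := T.2.isNilpotent
  infer_instance

theorem sylow_not_cyclic (hns : ¬ Group.IsSolvable G) (h : PO G) (T : Sylow 2 G) :
    ¬ IsCyclic ↥(T : Subgroup G) := by
  intro hcyc
  have : Fact (Nat.Prime 2) := ⟨Nat.prime_two⟩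
  have hmin : (Nat.card G).minFac = 2 := (Nat.minFac_eq_two_iff _).2 (even_card hns h)
  have hNC := hcyc.normalizer_le_centralizer hmin
  have hodd : ¬ 2 ∣ Nat.card (MonoidHom.transferSylow T hNC).ker :=
    MonoidHom.not_dvd_card_ker_transferSylow T hNC
  have hK : Group.IsSolvable (MonoidHom.transferSylow T hNC).ker :=
    Cfsg.Agent.Lib.H71FoOdd.isSolvable_of_odd (Nat.odd_iff.2 (by omega)) (h.subgroup _)
  have hT := solvable_sylow T
  exact hns (Group.isSolvable_of_ker_le_range (MonoidHom.transferSylow T hNC).ker.subtype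
    (MonoidHom.transferSylow T hNC) (by simp))

theorem sylow_not_normal (hns : ¬ Group.IsSolvable G) (h : PO G) (T : Sylow 2 G) :
    ¬ (T : Subgroup G).Normal := by
  intro hn
  have : Fact (Nat.Prime 2) := ⟨Nat.prime_two⟩
  have hodd : ¬ 2 ∣ Nat.card (G ⧸ (T : Subgroup G)) := by
    rw [← Subgroup.index_eq_card]
    exact T.not_dvd_index
  have hQ : Group.IsSolvable (G ⧸ (T : Subgroup G)) :=
    Cfsg.Agent.Lib.H71FoOdd.isSolvable_of_odd (Nat.odd_iff.2 (by omega))
      (h.of_surjective (QuotientGroup.mk' _) (QuotientGroup.mk'_surjective _))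
  have hT := solvable_sylow T
  exact hns (Group.isSolvable_of_ker_le_range (T : Subgroup G).subtype
    (QuotientGroup.mk' (T : Subgroup G)) (by simp))

end Cfsg.Agent.Lib.H71FoSyl
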