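import Mathlib
import Cfsg.Agent.S2475

/-!
# Project NCC (S3921), piece `B1`
For `q = 9` or `q ≥ 5` a prime of the form `2^k ± 1`, involution centralizers of `PSL₂(q)` are 2-groups.
-/

set_option autoImplicit false

namespace Cfsg.Agent.Lib.H71NccB1

local notation "PSL2" => Matrix.ProjectiveSpecialLinearGroup (Fin 2)

theorem odd_dvd_two_pow {m j : ℕ} (hm : Odd m) (h : m ∣ 2 ^ j) : m = 1 :=
  Nat.Coprime.eq_one_of_dvd (Nat.Coprime.pow_right _ (Nat.coprime_two_right.2 hm)) h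

theorem arith (q m : ℕ) (h5 : 5 ≤ q) (hq : q = 9 ∨ ∃ k : ℕ, q = 2 ^ k + 1 ∨ q = 2 ^ k - 1)
    (hm : Odd m)
    (h : 2 * m ∣ (q - 1) / Nat.gcd 2 (q - 1) ∨ 2 * m ∣ (q + 1) / Nat.gcd 2 (q - 1)) : m = 1 := by
  rcases hq with rfl | ⟨k, rfl | rfl⟩
  · norm_num at h
    rcases h with h | h
    · have h2 : m ∣ 2 ^ 2 := (Dvd.intro_left 2 rfl).trans (by simpa using h)
      exact odd_dvd_two_pow hm h2
    · have : 2 ∣ 5 := (Dvd.intro m rfl).trans h
      omega
  · have hk : 2 ≤ k := by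
      by_contra hk
      have : k = 0 ∨ k = 1 := by omega
      rcases this with rfl | rfl <;> norm_num at h5
    obtain ⟨j, rfl⟩ : ∃ j, k = j + 2 := ⟨k - 2, by omega⟩
    have e1 : 2 ^ (j + 2) + 1 - 1 = 2 * 2 ^ (j + 1) := by
      rw [Nat.add_sub_cancel]; ring
    have e2 : Nat.gcd 2 (2 * 2 ^ (j + 1)) = 2 := Nat.gcd_eq_left (Dvd.intro _ rfl)
    have e3 : 2 ^ (j + 2) + 1 + 1 = 2 * (2 ^ (j + 1) + 1) := by ring
    rw [e1, e2, e3, Nat.mul_div_cancel_left _ (by norm_num), Nat.mul_div_cancel_left _ (by norm_num)] at h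
    rcases h with h | h
    · exact odd_dvd_two_pow hm ((Dvd.intro_left 2 rfl).trans h)
    · have h2 : 2 ∣ 2 ^ (j + 1) + 1 := (Dvd.intro m rfl).trans h
      have h3 : 2 ∣ 2 ^ (j + 1) := Dvd.intro_left (2 ^ j) (by ring)
      omega
  · have hk : 3 ≤ k := by
      by_contra hk
      have : k = 0 ∨ k = 1 ∨ k = 2 := by omega
      rcases this with rfl | rfl | rfl <;> norm_num at h5
    obtain ⟨j, rfl⟩ : ∃ j, k = j + 3 := ⟨k - 3, by omega⟩
    have hpos : 1 ≤ 2 ^ (j + 1) := Nat.one_le_two_pow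
    have e0 : 2 ^ (j + 3) = 4 * 2 ^ (j + 1) := by ring
    have e1 : 2 ^ (j + 3) - 1 - 1 = 2 * (2 * 2 ^ (j + 1) - 1) := by omega
    have e2 : Nat.gcd 2 (2 * (2 * 2 ^ (j + 1) - 1)) = 2 := Nat.gcd_eq_left (Dvd.intro _ rfl)
    have e3 : 2 ^ (j + 3) - 1 + 1 = 2 * 2 ^ (j + 2) := by
      have : 2 ^ (j + 2) = 2 * 2 ^ (j + 1) := by ring
      omega
    rw [e1, e2, e3, Nat.mul_div_cancel_left _ (by norm_num), Nat.mul_div_cancel_left _ (by norm_num)] at h
    rcases h with h | h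
    · have h2 : 2 ∣ 2 * 2 ^ (j + 1) - 1 := (Dvd.intro m rfl).trans h
      omega
    · exact odd_dvd_two_pow hm ((Dvd.intro_left 2 rfl).trans h)

theorem cit_psl2 {F : Type*} [Field F] [Fintype F] (h5 : 5 ≤ Fintype.card F)
    (hq : Fintype.card F = 9 ∨ ((Fintype.card F).Prime ∧
      ∃ k : ℕ, Fintype.card F = 2 ^ k + 1 ∨ Fintype.card F = 2 ^ k - 1))
    (u : PSL2 F) (hu : orderOf u = 2) :
    IsPGroup 2 ↥(Subgroup.centralizer ({u} : Set (PSL2 F))) := by
  classical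
  have hq' : Fintype.card F = 9 ∨ ∃ k : ℕ, Fintype.card F = 2 ^ k + 1 ∨ Fintype.card F = 2 ^ k - 1 := by
    rcases hq with h | ⟨_, h⟩
    · exact Or.inl h
    · exact Or.inr h
  have hqodd : Odd (Fintype.card F) := by
    rcases hq with h | ⟨h, _⟩
    · rw [h]; decide
    · exact h.odd_of_ne_two (by omega)
  haveI : Fact (ringChar F).Prime := ⟨CharP.char_is_prime F (ringChar F)⟩
  have hpodd : Odd (ringChar F) := by
    obtain ⟨n, hp, hn⟩ := FiniteField.card F (ringChar F)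
    rw [hn] at hqodd
    exact Nat.Odd.of_mul_right (by
      have : (ringChar F) ^ (n : ℕ) = (ringChar F) ^ ((n : ℕ) - 1) * ringChar F := by
        rw [← pow_succ]; congr 1; have := n.pos; omega
      rw [this] at hqodd; exact hqodd)
  have hS := Cfsg.Agent.S2475.result (F := F) (ringChar F) (by omega)
  intro g
  have hg : (g : PSL2 F) * u = u * (g : PSL2 F) := by
    have := Subgroup.mem_centralizer_iff.1 g.2 u (Set.mem_singleton u)
    exact this.symm
  have hm0 : orderOf (g : PSL2 F) ≠ 0 := (orderOf_pos _).ne'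
  obtain ⟨a, m, hm, hgm⟩ := Nat.exists_eq_two_pow_mul_odd hm0
  refine ⟨a, ?_⟩
  have hy : orderOf ((g : PSL2 F) ^ (2 ^ a)) = m := by
    rw [orderOf_pow_of_dvd (by positivity) (by rw [hgm]; exact Dvd.intro _ rfl), hgm,
      Nat.mul_div_cancel_left _ (by positivity)]
  have hcomm : Commute u ((g : PSL2 F) ^ (2 ^ a)) := (Commute.pow_right (show Commute u (g : PSL2 F) from hg.symm) _)
  have hord : orderOf (u * (g : PSL2 F) ^ (2 ^ a)) = 2 * m := by
    rw [hcomm.orderOf_mul_eq_mul_orderOf_of_coprime (by rw [hu, hy]; exact Nat.coprime_two_left.2 hm), hu, hy]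
  have hmem : 2 * m ∈ Set.range (orderOf : PSL2 F → ℕ) := ⟨_, hord⟩
  rw [hS] at hmem
  have hm1 : m = 1 := by
    rcases hmem with h | h
    · exfalso
      have h2 : 2 ∣ ringChar F := (Dvd.intro m rfl).trans h
      rcases hpodd with ⟨c, hc⟩
      omega
    · exact arith _ m h5 hq' hm h
  rw [hm1] at hy
  have := orderOf_eq_one_iff.1 hy
  exact Subtype.ext (by simpa using this)

end Cfsg.Agent.Lib.H71NccB1
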