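import Mathlib
import Cfsg.Agent.Lib.H71NccB3
import Cfsg.Agent.Lib.Helper7SL
import Cfsg.Agent.S2508

/-!
# Project NCC (S3921), piece `B5`
The characteristic-`p` part of `NCC` for `PSL₂(q)`, `q = p` or `q = 9`.
-/

set_option autoImplicit false

namespace Cfsg.Agent.Lib.H71NccB5

local notation "PSL2" => Matrix.ProjectiveSpecialLinearGroup (Fin 2)

theorem finPSL {F : Type*} [Field F] [Fintype F] : Finite (PSL2 F) := by
  classical
  exact Finite.of_surjective (QuotientGroup.mk' (Subgroup.center (Matrix.SpecialLinearGroup (Fin 2) F)))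
    (QuotientGroup.mk'_surjective _)

theorem cyclic_of_card_le {G : Type*} [Group G] {p j : ℕ} [Fact p.Prime] (h : Nat.card G = p ^ j)
    (hj : j ≤ 1) : IsCyclic G := by
  interval_cases j
  · rw [pow_zero, Nat.card_eq_one_iff_unique] at h
    haveI := h.1
    infer_instance
  · rw [pow_one] at h
    exact isCyclic_of_prime_card h

theorem p_case {F : Type*} [Field F] [Fintype F] (p : ℕ) [hp : Fact p.Prime] [CharP F p] (hp2 : p ≠ 2)
    (hq : Fintype.card F = 9 ∨ Fintype.card F = p) (R : Subgroup (PSL2 F)) (hR : IsPGroup p ↥R)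
    (hRc : ¬ IsCyclic ↥R) (c : PSL2 F) (hc : ∀ y ∈ R, y * c = c * y) : c ∈ R := by
  haveI : Finite (PSL2 F) := finPSL
  obtain ⟨j, hj⟩ := IsPGroup.iff_card.1 hR
  have hdvd : p ^ j ∣ Nat.card (PSL2 F) := hj ▸ Subgroup.card_subgroup_dvd_card R
  have hj2 : 2 ≤ j := by
    by_contra h
    exact hRc (cyclic_of_card_le hj (by omega))
  rcases hq with hq | hq
  · -- q = 9
    have hp3 : p = 3 := by
      obtain ⟨n, -, hn⟩ := FiniteField.card F p
      rw [hq] at hn
      have h1 : p ∣ 3 ^ 2 := by
        have : (3 : ℕ) ^ 2 = p ^ (n : ℕ) := by rw [← hn]; norm_num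
        rw [this]
        exact dvd_pow_self p n.pos.ne'
      have h2 := hp.out.dvd_of_dvd_pow h1
      exact (Nat.prime_dvd_prime_iff_eq hp.out Nat.prime_three).1 h2
    subst hp3
    have h2F : (2 : F) ≠ 0 := by
      intro h
      have h1 : ((2 : ℕ) : F) = 0 := by exact_mod_cast h
      rw [CharP.cast_eq_zero_iff F 3] at h1
      norm_num at h1
    have hcard : Nat.card (PSL2 F) = 360 := by
      have := Cfsg.Agent.Lib.Helper7SL.card_PSL_two_mul_two (F := F) (by rw [hq]; decide)
      rw [hq] at this
      omega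
    rw [hcard] at hdvd
    have hj2' : j = 2 := by
      by_contra h
      have h3 : 3 ≤ j := by omega
      have : 3 ^ 3 ∣ 360 := (pow_dvd_pow 3 h3).trans hdvd
      norm_num at this
    subst hj2'
    have hcomm := IsPGroup.commutative_of_card_eq_prime_sq hj
    haveI : Nontrivial R := Finite.one_lt_card_iff_nontrivial.1 (by rw [hj]; norm_num)
    obtain ⟨e, he⟩ := exists_ne (1 : R)
    have he1 : (e : PSL2 F) ≠ 1 := fun h => he (Subtype.ext h)
    have he9 : (e : PSL2 F) ^ 9 = 1 := by
      have h1 : e ^ Nat.card R = 1 := pow_card_eq_one'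
      rw [hj] at h1
      have := congrArg Subtype.val h1
      simpa using this
    have he2 : (e : PSL2 F) ^ 2 ≠ 1 := by
      intro h
      apply he1
      calc (e : PSL2 F) = (e : PSL2 F) ^ 9 * (((e : PSL2 F) ^ 2) ^ 4)⁻¹ := by group
        _ = 1 := by rw [he9, h]; simp
    have hRle : R ≤ Subgroup.centralizer ({(e : PSL2 F)} : Set (PSL2 F)) := by
      intro y hy
      rw [Subgroup.mem_centralizer_singleton_iff]
      exact congrArg Subtype.val (hcomm ⟨y, hy⟩ e)
    have h9 : 9 ∣ Nat.card (Subgroup.centralizer ({(e : PSL2 F)} : Set (PSL2 F))) := by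
      have := Subgroup.card_dvd_of_le hRle
      rw [hj] at this
      simpa using this
    have hmul := Subgroup.card_mul_index (Subgroup.centralizer ({(e : PSL2 F)} : Set (PSL2 F)))
    rw [hcard] at hmul
    have hrange := (Cfsg.Agent.S2508.result (F := F) (by rw [hq]; norm_num) (by rw [hq]; norm_num)).1
      (by rw [hq])
    rw [hq] at hrange
    have hmem : (Subgroup.centralizer ({(e : PSL2 F)} : Set (PSL2 F))).index ∈
        Set.range (fun g : PSL2 F => (Subgroup.centralizer ({g} : Set (PSL2 F))).index) := ⟨_, rfl⟩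
    rw [hrange] at hmem
    norm_num at hmem
    obtain ⟨t, ht⟩ := h9
    rcases hmem with h | h | h | h | h
    · -- central
      exfalso
      have hall : ∀ a : PSL2 F, a * e = e * a := fun a => Subgroup.mem_center_iff.1 h a
      have hab : ∀ a b : PSL2 F, a * b = b * a := fun a b =>
        Cfsg.Agent.Lib.H71NccB3.comm_of_commute h2F e a b he2 (hall a) (hall b)
      have h40 : (40 : ℕ) ∈
          Set.range (fun g : PSL2 F => (Subgroup.centralizer ({g} : Set (PSL2 F))).index) := by
        rw [hrange]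
        norm_num
      obtain ⟨g, hg⟩ := h40
      have hgt : Subgroup.centralizer ({g} : Set (PSL2 F)) = ⊤ := by
        rw [eq_top_iff]
        intro a _
        rw [Subgroup.mem_centralizer_singleton_iff]
        exact hab a g
      simp only [hgt, Subgroup.index_top] at hg
      norm_num at hg
    · rw [h] at hmul
      have h9' : Nat.card (Subgroup.centralizer ({(e : PSL2 F)} : Set (PSL2 F))) = 9 := by omega
      have hEq : R = Subgroup.centralizer ({(e : PSL2 F)} : Set (PSL2 F)) :=
        Subgroup.eq_of_le_of_card_ge hRle (by rw [h9', hj]; norm_num)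
      rw [hEq, Subgroup.mem_centralizer_singleton_iff]
      exact (hc e e.2).symm
    · rw [h, ht] at hmul; omega
    · rw [h, ht] at hmul; omega
    · rw [h, ht] at hmul; omega
  · -- q = p
    exfalso
    have hodd : Odd (Fintype.card F) := by
      rw [hq]
      exact hp.out.odd_of_ne_two hp2
    have h1 := Cfsg.Agent.Lib.Helper7SL.card_PSL_two_mul_two (F := F) hodd
    rw [hq] at h1
    have h2 : p ^ 2 ∣ p * (p ^ 2 - 1) := by
      rw [← h1]
      exact ((pow_dvd_pow p hj2).trans hdvd).mul_right 2
    rw [sq, ] at h2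
    have h3 : p ∣ p * p - 1 := Nat.dvd_of_mul_dvd_mul_left hp.out.pos h2
    have h4 : p ∣ p * p := Dvd.intro _ rfl
    have h5 : 1 ≤ p * p := Nat.mul_pos hp.out.pos hp.out.pos
    have h6 : p ∣ 1 := by
      have := (Nat.dvd_sub_iff_right h5 h4).1 h3
      exact this
    exact hp.out.one_lt.ne' (Nat.dvd_one.1 h6)

end Cfsg.Agent.Lib.H71NccB5
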