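import Mathlib
import Cfsg.Agent.Lib.Helper71NCCDefs
import Cfsg.Agent.S0199
import Cfsg.Agent.S3224
import Cfsg.Agent.S3116
import Cfsg.Agent.S0206

/-!
# Project NCC (S3921), piece `Cit`  (est. 1.5-2 h; may be split: `prod2`, `core`)
In an `NCC` group the centralizer of an involution `u` commuting with another involution is a 2-group.

SKETCH.  `X = C(u)`.  For an involution `c' ∈ X`, `c' ≠ u`: `V' = closure {u, c'}` is a four-group, not cyclic, so `C(V') ≤ V'`;
hence `(1)` `C_X(c') = {1, u, c', u c'}` has order 4.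
`(2)` for involutions `c₁ c₂ ∈ X`, both `≠ u`: `c₁ * c₂` is a 2-element.  Else an odd prime `r ∣ orderOf (c₁c₂)`,
`y = (c₁c₂)^(m/r)` has order `r` and `c₁ y c₁⁻¹ = y⁻¹`.  `H = closure {y, c₁} ≤ X` is not commutative, so not cyclic, so `u ∈ C(H) ≤ H`.
Every element of `H` is `y^i` or `y^i c₁`; `u = y^i` is impossible (orders), `u = y^i c₁` commutes with `y` => `c₁` commutes with `y` => `y² = 1`. Contradiction.
`(3)` Baer-Suzuki `Cfsg.Agent.S0199.result` in the group `↥X`, for `zpowers c`:  `zpowers c ⊔ conj` = closure of two involutions `c, c^x` (both `≠ u`),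
a group of order `2 * orderOf (c c^x)` (`Cfsg.Agent.S0206.result`: `≃* DihedralGroup (orderOf ..)`, or equal involutions), a 2-group by (2).
So `c ∈ W` for a normal 2-subgroup `W` of `X`; replace `W` by `W ⊔ zpowers u` (still a normal 2-subgroup) so that `u, c ∈ W`.
`(4)` `C_X(W) ≤ C_X(c) ≤ W`.  In the 2-group `W` the involution `c` has centralizer of order 4: `Cfsg.Agent.S3224.result`:
`W` dihedral `DihedralGroup n`, quasi-dihedral, or of order 4.
`(5)` let `y ∈ X` have odd order (enough: every element of prime order `r ≠ 2` leads to a contradiction, Cauchy).  Conjugation by `y` is an automorphism of `W` of odd order.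
If `card W = 4`: `y` permutes `{c, uc}` (the elements of `W` other than `1, u`), odd order => fixes `c`, so `y ∈ C_X(c)`, a group of order 4, `y = 1`.
Otherwise (`n ≥ 4` as `card W = 2n ≥ 8`) `MulAut W` is a 2-group by `Cfsg.Agent.S3116.result`, so `y` centralizes `W ∋ c`: `y = 1` again.
-/

set_option autoImplicit false
set_option linter.style.haveILetI false

namespace Cfsg.Agent.Lib.H71NccCit

open Cfsg.Agent.Lib.Helper71NCC

section aux

variable {T : Type*} [Group T] [Finite T]

omit [Finite T] in
theorem sq_of_order {a : T} (ha : orderOf a = 2) : a * a = 1 := by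
  rw [← sq, ← ha]; exact pow_orderOf_eq_one a

omit [Finite T] in
theorem inv_of_order {a : T} (ha : orderOf a = 2) : a⁻¹ = a :=
  inv_eq_of_mul_eq_one_left (sq_of_order ha)

omit [Finite T] in
theorem ne_one_of_order {a : T} (ha : orderOf a = 2) : a ≠ 1 := by
  rintro rfl
  rw [orderOf_one] at ha
  omega

/-- closure of two distinct commuting involutions: four elements, not cyclic -/
theorem four (a b : T) (ha : orderOf a = 2) (hb : orderOf b = 2) (hab : a ≠ b)
    (hc : a * b = b * a) :
    Nat.card (Subgroup.closure ({a, b} : Set T)) = 4 ∧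
      ¬ IsCyclic (Subgroup.closure ({a, b} : Set T)) := by
  obtain ⟨e⟩ := Cfsg.Agent.S0206.result a b ha hb hab
  have hord : orderOf (a * b) = 2 := by
    apply orderOf_eq_prime
    · rw [sq]
      calc a * b * (a * b) = a * (b * a) * b := by group
        _ = a * (a * b) * b := by rw [hc]
        _ = (a * a) * (b * b) := by group
        _ = 1 := by rw [sq_of_order ha, sq_of_order hb, one_mul]
    · intro h
      apply hab
      rw [eq_inv_of_mul_eq_one_left h, inv_of_order hb]
  rw [hord] at e
  constructor
  · rw [Nat.card_congr e.toEquiv, DihedralGroup.nat_card]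
  · intro hcyc
    have : IsCyclic (DihedralGroup 2) := isCyclic_of_surjective e e.surjective
    exact IsKleinFour.not_isCyclic this

theorem centralizer_eq (h : NCC T) {u c : T} (hu : orderOf u = 2) (hcen : ∀ x, x * u = u * x)
    (hc : orderOf c = 2) (hcu : c ≠ u) :
    Subgroup.centralizer ({c} : Set T) = Subgroup.closure ({u, c} : Set T) := by
  obtain ⟨-, hncyc⟩ := four u c hu hc hcu.symm (hcen c).symm
  apply le_antisymm
  · intro x hx
    apply h _ hncyc
    have hle : Subgroup.closure ({u, c} : Set T) ≤ Subgroup.centralizer ({x} : Set T) := by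
      rw [Subgroup.closure_le]
      rintro s (rfl | rfl)
      · exact Subgroup.mem_centralizer_singleton_iff.2 (hcen x).symm
      · exact Subgroup.mem_centralizer_singleton_iff.2
          (Subgroup.mem_centralizer_singleton_iff.1 hx).symm
    rw [Subgroup.mem_centralizer_iff]
    intro y hy
    exact Subgroup.mem_centralizer_singleton_iff.1 (hle hy)
  · rw [Subgroup.closure_le]
    rintro s (rfl | rfl)
    · exact Subgroup.mem_centralizer_singleton_iff.2 (hcen c).symm
    · exact Subgroup.mem_centralizer_singleton_iff.2 rfl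

theorem card_centralizer (h : NCC T) {u c : T} (hu : orderOf u = 2) (hcen : ∀ x, x * u = u * x)
    (hc : orderOf c = 2) (hcu : c ≠ u) :
    Nat.card (Subgroup.centralizer ({c} : Set T)) = 4 := by
  rw [centralizer_eq h hu hcen hc hcu]
  exact (four u c hu hc hcu.symm (hcen c).symm).1

/-- the product of two involutions is a `2`-element -/
theorem prod_two (h : NCC T) {u : T} (hu : orderOf u = 2) (hcen : ∀ x, x * u = u * x)
    {c₁ c₂ : T} (h1 : orderOf c₁ = 2) (h2 : orderOf c₂ = 2) :
    ∃ k : ℕ, orderOf (c₁ * c₂) = 2 ^ k := by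
  refine ⟨_, Nat.eq_prime_pow_of_unique_prime_dvd (orderOf_pos _).ne' ?_⟩
  intro r hr hrd
  by_contra hr2
  set w := c₁ * c₂ with hw
  set y := w ^ (orderOf w / r) with hy
  have hyord : orderOf y = r := orderOf_pow_orderOf_div (orderOf_pos _).ne' hrd
  have hwinv : c₁ * w * c₁⁻¹ = w⁻¹ := by
    rw [hw, mul_inv_rev, inv_of_order h1, inv_of_order h2]
    calc c₁ * (c₁ * c₂) * c₁ = (c₁ * c₁) * c₂ * c₁ := by group
      _ = c₂ * c₁ := by rw [sq_of_order h1, one_mul]
  have hyinv : c₁ * y * c₁⁻¹ = y⁻¹ := by
    rw [hy, ← conj_pow, hwinv, inv_pow]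
  have hy1 : y ≠ 1 := by
    intro h0
    rw [h0, orderOf_one] at hyord
    exact hr.one_lt.ne hyord
  have hncomm : c₁ * y ≠ y * c₁ := by
    intro hc
    have h3 : y = y⁻¹ := by
      rw [← hyinv, hc, mul_inv_cancel_right]
    have h4 : y ^ 2 = 1 := by
      rw [sq]
      nth_rewrite 1 [h3]
      exact inv_mul_cancel y
    have h5 := orderOf_dvd_of_pow_eq_one h4
    rw [hyord] at h5
    exact hr2 ((Nat.prime_dvd_prime_iff_eq hr Nat.prime_two).1 h5)
  have hb2 : (c₁ * y) ^ 2 = 1 := by
    rw [sq]
    calc c₁ * y * (c₁ * y) = (c₁ * y * c₁⁻¹) * (c₁ * c₁) * y := by group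
      _ = 1 := by rw [hyinv, sq_of_order h1, mul_one, inv_mul_cancel]
  have hb1 : c₁ * y ≠ 1 := by
    intro h0
    apply hncomm
    have : y = c₁⁻¹ := eq_inv_of_mul_eq_one_right h0
    rw [this, mul_inv_cancel, inv_mul_cancel]
  have hbord : orderOf (c₁ * y) = 2 := orderOf_eq_prime hb2 hb1
  have hne : c₁ ≠ c₁ * y := by
    intro h0
    exact hy1 (by simpa using h0.symm)
  obtain ⟨e⟩ := Cfsg.Agent.S0206.result c₁ (c₁ * y) h1 hbord hne
  have hprod : c₁ * (c₁ * y) = y := by
    rw [← mul_assoc, sq_of_order h1, one_mul]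
  rw [hprod, hyord] at e
  have hcard : Nat.card (Subgroup.closure ({c₁, c₁ * y} : Set T)) = 2 * r := by
    rw [Nat.card_congr e.toEquiv, DihedralGroup.nat_card]
  have hc₁H : c₁ ∈ Subgroup.closure ({c₁, c₁ * y} : Set T) :=
    Subgroup.subset_closure (by simp)
  have hbH : c₁ * y ∈ Subgroup.closure ({c₁, c₁ * y} : Set T) :=
    Subgroup.subset_closure (by simp)
  have hyH : y ∈ Subgroup.closure ({c₁, c₁ * y} : Set T) := by
    have := mul_mem hc₁H hbH
    rwa [hprod] at this
  have hncyc : ¬ IsCyclic (Subgroup.closure ({c₁, c₁ * y} : Set T)) := by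
    intro hcyc
    apply hncomm
    have := (IsCyclic.isMulCommutative
      (α := Subgroup.closure ({c₁, c₁ * y} : Set T))).is_comm.comm ⟨c₁, hc₁H⟩ ⟨y, hyH⟩
    exact congrArg Subtype.val this
  have huH : u ∈ Subgroup.closure ({c₁, c₁ * y} : Set T) :=
    h _ hncyc (Subgroup.mem_centralizer_iff.2 fun x _ => hcen x)
  have hord : orderOf (y * u) = r * 2 := by
    rw [(show Commute y u from hcen y).orderOf_mul_eq_mul_orderOf_of_coprime, hyord, hu]
    rw [hyord, hu]
    exact (Nat.coprime_primes hr Nat.prime_two).2 hr2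
  have hle : Subgroup.zpowers (y * u) ≤ Subgroup.closure ({c₁, c₁ * y} : Set T) := by
    rw [Subgroup.zpowers_le]; exact mul_mem hyH huH
  have heq := Subgroup.eq_of_le_of_card_ge hle (by rw [hcard, Nat.card_zpowers, hord, mul_comm])
  apply hncyc
  rw [← heq]
  infer_instance

/-- the type-level statement -/
theorem isPGroup_of_central (h : NCC T) {u c : T} (hu : orderOf u = 2)
    (hcen : ∀ x, x * u = u * x) (hc : orderOf c = 2) (hcu : c ≠ u) : IsPGroup 2 T := by
  haveI : Fact (Nat.Prime 2) := ⟨Nat.prime_two⟩
  have hC4 := card_centralizer h hu hcen hc hcu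
  -- Baer-Suzuki
  obtain ⟨N, hNn, hN2, hcN⟩ := Cfsg.Agent.S0199.result (p := 2) (Subgroup.zpowers c)
    (IsPGroup.of_card (n := 1) (by rw [Nat.card_zpowers, hc, pow_one]))
    (by
      intro g
      have hmap : (Subgroup.zpowers c).map (MulAut.conj g).toMonoidHom
          = Subgroup.zpowers (g * c * g⁻¹) := by
        rw [MonoidHom.map_zpowers]
        rfl
      rw [hmap]
      by_cases hg : c = g * c * g⁻¹
      · rw [← hg, sup_idem]
        exact IsPGroup.of_card (n := 1) (by rw [Nat.card_zpowers, hc, pow_one])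
      · have hcg : orderOf (g * c * g⁻¹) = 2 := by
          have := (MulAut.conj g).orderOf_eq c
          rw [MulAut.conj_apply] at this
          rw [this, hc]
        obtain ⟨k, hk⟩ := prod_two h hu hcen hc hcg
        obtain ⟨e⟩ := Cfsg.Agent.S0206.result c (g * c * g⁻¹) hc hcg hg
        have hsup : Subgroup.zpowers c ⊔ Subgroup.zpowers (g * c * g⁻¹)
            = Subgroup.closure ({c, g * c * g⁻¹} : Set T) := by
          rw [Subgroup.zpowers_eq_closure, Subgroup.zpowers_eq_closure, ← Subgroup.closure_union]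
          rfl
        rw [hsup]
        exact IsPGroup.of_card (n := k + 1)
          (by rw [Nat.card_congr e.toEquiv, DihedralGroup.nat_card, hk, pow_succ, mul_comm]))
  haveI hun : (Subgroup.zpowers u).Normal := by
    constructor
    intro n hn g
    obtain ⟨i, rfl⟩ := Subgroup.mem_zpowers_iff.1 hn
    have : g * u ^ i * g⁻¹ = u ^ i := by
      rw [← conj_zpow, hcen g, mul_inv_cancel_right]
    rw [this]
    exact Subgroup.zpow_mem_zpowers u i
  have hu2 : IsPGroup 2 (Subgroup.zpowers u) :=
    IsPGroup.of_card (n := 1) (by rw [Nat.card_zpowers, hu, pow_one])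
  set W := N ⊔ Subgroup.zpowers u with hW
  have hW2 : IsPGroup 2 W := hN2.to_sup_of_normal_right hu2
  haveI hWn : W.Normal := Subgroup.sup_normal N (Subgroup.zpowers u)
  have hcW : c ∈ W := Subgroup.mem_sup_left (hcN (Subgroup.mem_zpowers c))
  have huW : u ∈ W := Subgroup.mem_sup_right (Subgroup.mem_zpowers u)
  have hCW : Subgroup.centralizer ({c} : Set T) ≤ W := by
    rw [centralizer_eq h hu hcen hc hcu, Subgroup.closure_le]
    rintro s (rfl | rfl)
    · exact huW
    · exact hcW
  -- elements of `C(c)` of odd prime order do not exist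
  have hnoC : ∀ y : T, ∀ r : ℕ, r.Prime → r ≠ 2 → orderOf y = r →
      y ∉ Subgroup.centralizer ({c} : Set T) := by
    intro y r hr hr2 hy hyC
    have := orderOf_dvd_natCard (⟨y, hyC⟩ : Subgroup.centralizer ({c} : Set T))
    rw [Subgroup.orderOf_mk, hy, hC4] at this
    have h22 : r ∣ 2 ^ 2 := by norm_num; exact this
    exact hr2 ((Nat.prime_dvd_prime_iff_eq hr Nat.prime_two).1 (hr.dvd_of_dvd_pow h22))
  have hcardW : Nat.card (Subgroup.centralizer ({(⟨c, hcW⟩ : W)} : Set W)) = 4 := by
    have heq : Subgroup.centralizer ({(⟨c, hcW⟩ : W)} : Set W)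
        = (Subgroup.centralizer ({c} : Set T)).subgroupOf W := by
      ext x
      rw [Subgroup.mem_subgroupOf, Subgroup.mem_centralizer_singleton_iff,
        Subgroup.mem_centralizer_singleton_iff]
      constructor
      · intro hx; exact congrArg Subtype.val hx
      · intro hx; exact Subtype.ext hx
    rw [heq, Nat.card_congr (Subgroup.subgroupOfEquivOfLe hCW).toEquiv, hC4]
  have hstruct := Cfsg.Agent.S3224.result hW2 (⟨c, hcW⟩ : W)
    (by rw [Subgroup.orderOf_mk, hc]) hcardW
  -- reduce to two cases
  have hcases : IsPGroup 2 (MulAut W) ∨ Nat.card W = 4 := by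
    rcases hstruct with ⟨n, ⟨e⟩⟩ | hq | h4
    · by_cases hn : 4 ≤ n
      · exact Or.inl (Cfsg.Agent.S3116.result hW2 (Or.inl ⟨n, hn, ⟨e⟩⟩))
      · right
        have hc1 : Nat.card W = 2 * n := by
          rw [Nat.card_congr e.toEquiv, DihedralGroup.nat_card]
        have hge : 4 ≤ Nat.card W := hC4 ▸ Subgroup.card_le_of_le hCW
        obtain ⟨k, hk⟩ := hW2.exists_card_eq
        have hn23 : n = 2 ∨ n = 3 := by omega
        rcases hn23 with rfl | rfl
        · rw [hc1]
        · exfalso
          rw [hc1] at hk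
          have h3 : 3 ∣ 2 ^ k := by rw [← hk]; norm_num
          have := Nat.Prime.dvd_of_dvd_pow Nat.prime_three h3
          omega
    · exact Or.inl (Cfsg.Agent.S3116.result hW2 (Or.inr hq))
    · exact Or.inr h4
  -- conclusion
  obtain ⟨k, hk⟩ : ∃ k, Nat.card T = 2 ^ k := by
    refine ⟨_, Nat.eq_prime_pow_of_unique_prime_dvd Nat.card_pos.ne' ?_⟩
    intro r hr hrd
    by_contra hr2
    haveI : Fact r.Prime := ⟨hr⟩
    obtain ⟨y, hy⟩ := exists_prime_orderOf_dvd_card' r hrd
    apply hnoC y r hr hr2 hy
    rcases hcases with hA | h4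
    · have hα : (MulAut.conjNormal y : MulAut W) = 1 := by
        obtain ⟨j, hj⟩ := hA (MulAut.conjNormal y : MulAut W)
        have h1 : (MulAut.conjNormal y : MulAut W) ^ r = 1 := by
          rw [← map_pow, ← hy, pow_orderOf_eq_one, map_one]
        have d1 := orderOf_dvd_of_pow_eq_one hj
        have d2 := orderOf_dvd_of_pow_eq_one h1
        have hcop : Nat.Coprime (2 ^ j) r :=
          Nat.Coprime.pow_left j ((Nat.coprime_primes Nat.prime_two hr).2 (Ne.symm hr2))
        have := Nat.dvd_gcd d1 d2
        rw [hcop.gcd_eq_one, Nat.dvd_one, orderOf_eq_one_iff] at this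
        exact this
      have h2 : ((MulAut.conjNormal y : MulAut W) ⟨c, hcW⟩ : T) = c := by rw [hα]; rfl
      rw [MulAut.conjNormal_apply] at h2
      rw [Subgroup.mem_centralizer_singleton_iff]
      calc y * c = (y * c * y⁻¹) * y := by group
        _ = c * y := by rw [h2]
    · -- `W = C(c)`
      have hWC : Subgroup.centralizer ({c} : Set T) = W :=
        Subgroup.eq_of_le_of_card_ge hCW (by rw [h4, hC4])
      have hu1 := ne_one_of_order hu
      have hc1 := ne_one_of_order hc
      have hmem : ∀ x ∈ W, x = 1 ∨ x = u ∨ x = c ∨ x = u * c := by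
        classical
        have hF : ({1, u, c, u * c} : Finset T).card = 4 := by
          rw [Finset.card_insert_of_notMem, Finset.card_insert_of_notMem,
            Finset.card_insert_of_notMem, Finset.card_singleton]
          · simp [hu1]
          · simp only [Finset.mem_insert, Finset.mem_singleton, not_or]
            exact ⟨hcu.symm, by simp [hc1]⟩
          · simp only [Finset.mem_insert, Finset.mem_singleton, not_or]
            refine ⟨hu1.symm, hc1.symm, fun h0 => hcu ?_⟩
            rw [← inv_of_order hu]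
            exact eq_inv_of_mul_eq_one_right h0.symm
        have hsub : (({1, u, c, u * c} : Finset T) : Set T) ⊆ (W : Set T) := by
          intro x hx
          simp only [Finset.coe_insert, Finset.coe_singleton, Set.mem_insert_iff,
            Set.mem_singleton_iff] at hx
          rcases hx with rfl | rfl | rfl | rfl
          · exact W.one_mem
          · exact huW
          · exact hcW
          · exact W.mul_mem huW hcW
        have heq := Set.eq_of_subset_of_ncard_le hsub
          (by
            rw [Set.ncard_coe_finset, hF, ← h4]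
            exact (Nat.card_coe_set_eq (W : Set T)).symm.le) (Set.toFinite _)
        intro x hx
        have hx' : x ∈ (({1, u, c, u * c} : Finset T) : Set T) := by rw [heq]; exact hx
        simpa using hx'
      have hy2 : y ^ 2 ∈ Subgroup.centralizer ({c} : Set T) →
          y ∈ Subgroup.centralizer ({c} : Set T) := by
        intro h0
        obtain ⟨s, hs⟩ : ∃ s, r + 1 = 2 * s := by
          rcases hr.eq_two_or_odd' with h2 | ⟨t, ht⟩
          · exact absurd h2 hr2
          · exact ⟨t + 1, by omega⟩
        have : (y ^ 2) ^ s = y := by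
          rw [← pow_mul, ← hs, pow_succ, ← hy, pow_orderOf_eq_one, one_mul]
        rw [← this]
        exact Subgroup.pow_mem _ h0 s
      rcases hmem _ (hWn.conj_mem c hcW y) with h0 | h0 | h0 | h0
      · exfalso
        apply hc1
        have : c = y⁻¹ * (y * c * y⁻¹) * y := by group
        rw [this, h0]; group
      · exfalso
        apply hcu
        have : c = y⁻¹ * (y * c * y⁻¹) * y := by group
        rw [this, h0, mul_assoc, ← hcen y, inv_mul_cancel_left]
      · rw [Subgroup.mem_centralizer_singleton_iff]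
        calc y * c = (y * c * y⁻¹) * y := by group
          _ = c * y := by rw [h0]
      · apply hy2
        rw [Subgroup.mem_centralizer_singleton_iff]
        have h5 : y ^ 2 * c * (y ^ 2)⁻¹ = c := by
          calc y ^ 2 * c * (y ^ 2)⁻¹ = y * (y * c * y⁻¹) * y⁻¹ := by rw [sq]; group
            _ = y * (u * c) * y⁻¹ := by rw [h0]
            _ = (y * u) * c * y⁻¹ := by group
            _ = (u * y) * c * y⁻¹ := by rw [hcen y]
            _ = u * (y * c * y⁻¹) := by group
            _ = u * (u * c) := by rw [h0]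
            _ = c := by rw [← mul_assoc, sq_of_order hu, one_mul]
        calc y ^ 2 * c = (y ^ 2 * c * (y ^ 2)⁻¹) * y ^ 2 := by group
          _ = c * y ^ 2 := by rw [h5]
  exact IsPGroup.of_card hk

end aux

theorem isPGroup_centralizer_involution {G : Type*} [Group G] [Finite G] (h : NCC G) {u c : G}
    (hu : orderOf u = 2) (hc : orderOf c = 2) (hcu : c ≠ u) (hcomm : c * u = u * c) :
    IsPGroup 2 ↥(Subgroup.centralizer ({u} : Set G)) := by
  have hT := h.subgroup (Subgroup.centralizer ({u} : Set G))
  have huX : u ∈ Subgroup.centralizer ({u} : Set G) := Subgroup.mem_centralizer_singleton_iff.2 rfl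
  have hcX : c ∈ Subgroup.centralizer ({u} : Set G) := Subgroup.mem_centralizer_singleton_iff.2 hcomm
  exact isPGroup_of_central hT (u := ⟨u, huX⟩) (c := ⟨c, hcX⟩)
    (by rw [Subgroup.orderOf_mk, hu])
    (fun x => Subtype.ext (Subgroup.mem_centralizer_singleton_iff.1 x.2))
    (by rw [Subgroup.orderOf_mk, hc])
    (fun h0 => hcu (congrArg Subtype.val h0))

end Cfsg.Agent.Lib.H71NccCit
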