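import Mathlib
import Cfsg.Agent.Lib.H71NccArith
import Cfsg.Agent.S2475

/-!
# Project NCC (S3921), piece `Fwd`
If all involution centralizers of `PSL₂(q)`, `q` odd, are 2-groups then `q = 9` or `q` is a prime `2^k ± 1`.
-/

set_option autoImplicit false

namespace Cfsg.Agent.Lib.H71NccFwd

local notation "PSL2" => Matrix.ProjectiveSpecialLinearGroup (Fin 2)

/-- An element of even order in a group whose involution centralizers are 2-groups has
2-power order. -/
private theorem orderOf_two_pow {G : Type*} [Group G]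
    (hcit : ∀ u : G, orderOf u = 2 → IsPGroup 2 ↥(Subgroup.centralizer ({u} : Set G)))
    (g : G) (m : ℕ) (hm0 : m ≠ 0) (hg : orderOf g = 2 * m) : ∃ j : ℕ, 2 * m = 2 ^ j := by
  have hu : orderOf (g ^ m) = 2 := by
    have h1 : orderOf (g ^ m) = orderOf g / m :=
      orderOf_pow_of_dvd hm0 (by rw [hg]; exact Dvd.intro_left 2 rfl)
    rw [h1, hg, Nat.mul_div_cancel _ (Nat.pos_of_ne_zero hm0)]
  have hmem : g ∈ Subgroup.centralizer ({g ^ m} : Set G) := by
    rw [Subgroup.mem_centralizer_singleton_iff]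
    rw [← pow_succ', ← pow_succ]
  obtain ⟨j, hj⟩ := (hcit _ hu) ⟨g, hmem⟩
  have hj' : g ^ (2 ^ j) = 1 := by
    have := congrArg Subtype.val hj
    simpa using this
  have hd : orderOf g ∣ 2 ^ j := orderOf_dvd_of_pow_eq_one hj'
  obtain ⟨i, _, hi⟩ := (Nat.dvd_prime_pow Nat.prime_two).1 hd
  exact ⟨i, by rw [← hg, hi]⟩

theorem card_field_of_cit {F : Type*} [Field F] [Fintype F] (hodd : Odd (Fintype.card F))
    (hcit : ∀ u : PSL2 F, orderOf u = 2 → IsPGroup 2 ↥(Subgroup.centralizer ({u} : Set (PSL2 F)))) :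
    Fintype.card F = 9 ∨ ((Fintype.card F).Prime ∧
      ∃ k : ℕ, Fintype.card F = 2 ^ k + 1 ∨ Fintype.card F = 2 ^ k - 1) := by
  classical
  obtain ⟨p, hchar⟩ := CharP.exists F
  haveI : CharP F p := hchar
  obtain ⟨⟨f, hf0⟩, hp, hq⟩ := FiniteField.card F p
  haveI : Fact p.Prime := ⟨hp⟩
  simp only [PNat.mk_coe] at hq
  have hq1 : 1 < Fintype.card F := Fintype.one_lt_card
  have hp2 : p ≠ 2 := by
    rintro rfl
    rw [hq] at hodd
    have : Even (2 ^ f) := (Nat.even_pow.2 ⟨even_two, hf0.ne'⟩)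
    exact (Nat.not_even_iff_odd.2 hodd) this
  -- key: `q = 2 ^ k + 1` or `q + 1 = 2 ^ k`
  have key : ∃ k : ℕ, Fintype.card F = 2 ^ k + 1 ∨ Fintype.card F + 1 = 2 ^ k := by
    obtain ⟨n, hn⟩ := hodd
    by_cases h3 : Fintype.card F = 3
    · exact ⟨1, Or.inl (by rw [h3]; norm_num)⟩
    have h4 : 4 ≤ Fintype.card F := by omega
    have hset := Cfsg.Agent.S2475.result (F := F) p h4
    have hgcd : Nat.gcd 2 (Fintype.card F - 1) = 2 := by
      have : Fintype.card F - 1 = 2 * n := by omega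
      rw [this]
      exact Nat.gcd_eq_left (Dvd.intro n rfl)
    rw [hgcd] at hset
    rcases Nat.even_or_odd' n with ⟨m, hm | hm⟩
    · -- `q = 4 m + 1`, `(q - 1) / 2 = 2 m`
      have hmem : (2 * m) ∈ Set.range (orderOf : PSL2 F → ℕ) := by
        rw [hset]
        right; left
        have : (Fintype.card F - 1) / 2 = 2 * m := by omega
        rw [this]
      obtain ⟨g, hg⟩ := hmem
      obtain ⟨j, hj⟩ := orderOf_two_pow hcit g m (by omega) hg
      exact ⟨j + 1, Or.inl (by rw [pow_succ]; omega)⟩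
    · -- `q = 4 m + 3`, `(q + 1) / 2 = 2 (m + 1)`
      have hmem : (2 * (m + 1)) ∈ Set.range (orderOf : PSL2 F → ℕ) := by
        rw [hset]
        right; right
        have : (Fintype.card F + 1) / 2 = 2 * (m + 1) := by omega
        rw [this]
      obtain ⟨g, hg⟩ := hmem
      obtain ⟨j, hj⟩ := orderOf_two_pow hcit g (m + 1) (by omega) hg
      exact ⟨j + 1, Or.inr (by rw [pow_succ]; omega)⟩
  obtain ⟨k, hk⟩ := key
  have har := Cfsg.Agent.Lib.H71NccArith.prime_or_nine (p := p) (f := f) (k := k) hp hp2 hf0.ne'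
    (by rw [← hq]; exact hk)
  rcases har with h1 | h9
  · right
    refine ⟨by rw [hq, h1, pow_one]; exact hp, k, ?_⟩
    rcases hk with hk | hk
    · exact Or.inl hk
    · exact Or.inr (by omega)
  · left
    rw [hq, h9]

end Cfsg.Agent.Lib.H71NccFwd
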