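import Mathlib
import Cfsg.Agent.S0225

/-!
# Project NCC (S3921), piece `Klein`
A non-abelian simple group of even order has Klein four-subgroups in every Sylow 2-subgroup; every involution commutes with another one.
-/

set_option autoImplicit false

namespace Cfsg.Agent.Lib.H71NccKlein

variable {G : Type*} [Group G] [Finite G] [IsSimpleGroup G]

theorem isKleinFour_of_mulEquiv {A B : Type*} [Group A] [Group B] (e : A ≃* B) (h : IsKleinFour A) :
    IsKleinFour B where
  card_four := by rw [← Nat.card_congr e.toEquiv, h.card_four]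
  exponent_two := by rw [← Monoid.exponent_eq_of_mulEquiv e, h.exponent_two]

theorem exists_klein (hna : ¬ IsMulCommutative G) (heven : Even (Nat.card G)) :
    ∃ E : Subgroup G, IsKleinFour ↥E := by
  by_contra hcon
  push Not at hcon
  obtain ⟨z, hz, N, hN, hodd, hc⟩ := Cfsg.Agent.S0225.result heven hcon
  rcases hN.eq_bot_or_eq_top with h | h
  · have hzc : z ∈ Subgroup.center G := by
      rw [Subgroup.mem_center_iff]
      intro g
      have h1 := hc g
      rw [h, Subgroup.mem_bot] at h1
      have h2 : z * g = g * z := by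
        have := congrArg (fun x => x * g * z) h1
        simpa [mul_assoc] using this
      exact h2.symm
    have hz1 : z ≠ 1 := by
      rintro rfl
      simp at hz
    have htop : Subgroup.center G = ⊤ := by
      rcases (inferInstance : (Subgroup.center G).Normal).eq_bot_or_eq_top with h' | h'
      · rw [h', Subgroup.mem_bot] at hzc
        exact absurd hzc hz1
      · exact h'
    apply hna
    refine ⟨⟨fun a b => ?_⟩⟩
    have : a ∈ Subgroup.center G := htop ▸ Subgroup.mem_top a
    exact ((Subgroup.mem_center_iff.1 this) b).symm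
  · rw [h, Subgroup.card_top] at hodd
    exact (Nat.not_even_iff_odd.2 hodd) heven

theorem exists_klein_le_sylow (hna : ¬ IsMulCommutative G) (heven : Even (Nat.card G))
    (S : Sylow 2 G) : ∃ E : Subgroup G, IsKleinFour ↥E ∧ E ≤ (S : Subgroup G) := by
  haveI : Fact (Nat.Prime 2) := ⟨Nat.prime_two⟩
  obtain ⟨E₀, hE₀⟩ := exists_klein hna heven
  have hp : IsPGroup 2 ↥E₀ := IsPGroup.of_card (n := 2) (by rw [hE₀.card_four]; norm_num)
  obtain ⟨Q, hQ⟩ := hp.exists_le_sylow
  obtain ⟨g, hg⟩ := MulAction.exists_smul_eq G Q S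
  refine ⟨E₀.map (MulAut.conj g).toMonoidHom,
    isKleinFour_of_mulEquiv (E₀.equivMapOfInjective _ (MulAut.conj g).injective) hE₀, ?_⟩
  rintro _ ⟨a, ha, rfl⟩
  rw [← hg, Sylow.coe_subgroup_smul]
  exact Subgroup.smul_mem_pointwise_smul a (MulAut.conj g) Q.1 (hQ ha)

theorem exists_commuting_involution (hna : ¬ IsMulCommutative G)
    (heven : Even (Nat.card G)) {u : G} (hu : orderOf u = 2) :
    ∃ c : G, orderOf c = 2 ∧ c ≠ u ∧ c * u = u * c := by
  classical
  haveI : Fact (Nat.Prime 2) := ⟨Nat.prime_two⟩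
  have hpu : IsPGroup 2 ↥(Subgroup.zpowers u) :=
    IsPGroup.of_card (n := 1) (by rw [Nat.card_zpowers, hu]; norm_num)
  obtain ⟨S, hS⟩ := hpu.exists_le_sylow
  have huS : u ∈ (S : Subgroup G) := hS (Subgroup.mem_zpowers u)
  have hu1 : u ≠ 1 := by
    rintro rfl
    simp at hu
  haveI : Nontrivial ↥(S : Subgroup G) :=
    ⟨⟨⟨u, huS⟩, 1, fun h => hu1 (congrArg Subtype.val h)⟩⟩
  have hSp : IsPGroup 2 ↥(S : Subgroup G) := S.isPGroup'
  haveI := hSp.center_nontrivial
  obtain ⟨n, hn, hcard⟩ :=
    (hSp.to_subgroup (Subgroup.center ↥(S : Subgroup G))).nontrivial_iff_card.1 inferInstance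
  have hdvd : 2 ∣ Nat.card (Subgroup.center ↥(S : Subgroup G)) := by
    rw [hcard]
    exact dvd_pow_self 2 hn.ne'
  obtain ⟨z', hz'⟩ := exists_prime_orderOf_dvd_card' 2 hdvd
  set z : G := ((z' : ↥(S : Subgroup G)) : G) with hz
  have hz2 : orderOf z = 2 := by
    rw [hz, Subgroup.orderOf_coe, Subgroup.orderOf_coe, hz']
  have hzc : ∀ s ∈ (S : Subgroup G), s * z = z * s := by
    intro s hs
    have := (Subgroup.mem_center_iff.1 z'.2) ⟨s, hs⟩
    exact congrArg Subtype.val this
  by_cases hzu : z = u
  · obtain ⟨E, hE, hES⟩ := exists_klein_le_sylow hna heven S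
    obtain ⟨c, hcE, hc1, hcu⟩ : ∃ c ∈ E, c ≠ 1 ∧ c ≠ u := by
      by_contra hcon
      push Not at hcon
      have hinj : Function.Injective (fun c : ↥E => decide ((c : G) = 1)) := by
        intro a b hab
        simp only [decide_eq_decide] at hab
        apply Subtype.ext
        by_cases ha : (a : G) = 1
        · rw [ha, hab.1 ha]
        · have hb : (b : G) ≠ 1 := fun h => ha (hab.2 h)
          rw [hcon a a.2 ha, hcon b b.2 hb]
      have := Nat.card_le_card_of_injective _ hinj
      rw [hE.card_four] at this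
      simp at this
    refine ⟨c, ?_, hcu, ?_⟩
    · apply orderOf_eq_prime _ hc1
      have h1 : (⟨c, hcE⟩ : ↥E) ^ 2 = 1 := by
        rw [← hE.exponent_two]
        exact Monoid.pow_exponent_eq_one _
      exact congrArg Subtype.val h1
    · rw [← hzu]
      exact hzc c (hES hcE)
  · exact ⟨z, hz2, hzu, (hzc u huS).symm⟩

end Cfsg.Agent.Lib.H71NccKlein
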