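import Mathlib
import Cfsg.Agent.Lib.Helper26Transfer

set_option autoImplicit false

namespace Cfsg.Agent.Lib.Helper26Transfer

open MulAction Subgroup

/-- The kernel of the transfer into `H / K`, packaged. -/
theorem exists_transfer_kernel_index {G : Type*} [Group G] [Finite G] (H K : Subgroup G)
    (hKn : (K.subgroupOf H).Normal) (hab : ∀ x ∈ H, ∀ y ∈ H, x * y * x⁻¹ * y⁻¹ ∈ K) :
    ∃ N : Subgroup G, N.Normal ∧ N.index ∣ K.relIndex H ∧ commutator G ≤ N ∧ (∀ x : G, x ^ (K.relIndex H) ∈ N) ∧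
      ∀ g ∈ H,
        (∀ (m : ℕ) (a : G), a * g ^ m * a⁻¹ ∈ H → (a * g ^ m * a⁻¹) * (g ^ m)⁻¹ ∈ K) →
          (g ∈ N ↔ g ^ H.index ∈ K) := by
  let _ := quotCommGroup H K hKn hab
  let ϕ : H →* (H ⧸ K.subgroupOf H) := QuotientGroup.mk' (K.subgroupOf H)
  let V : G →* (H ⧸ K.subgroupOf H) := MonoidHom.transfer ϕ
  refine ⟨V.ker, inferInstance, ?_, Abelianization.commutator_subset_ker V, ?_, ?_⟩
  · rw [Subgroup.index_ker]
    exact Subgroup.card_subgroup_dvd_card _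
  · intro x
    rw [MonoidHom.mem_ker, map_pow]
    have : K.relIndex H = Nat.card (H ⧸ K.subgroupOf H) := rfl
    rw [this]
    exact pow_card_eq_one'
  · intro g hg hctrl
    have h1 : V g = ϕ ⟨g, hg⟩ ^ H.index := by
      apply transfer_eq_pow_mod
      intro k g₀ hk
      rw [← map_pow]
      show (QuotientGroup.mk _ : H ⧸ K.subgroupOf H) = QuotientGroup.mk _
      rw [QuotientGroup.eq, Subgroup.mem_subgroupOf]
      have h2 := hctrl k g₀⁻¹ (by simpa using hk)
      have h3 := K.inv_mem h2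
      have h4 : (g₀⁻¹ * g ^ k * g₀)⁻¹ * g ^ k ∈ K := by
        have hn := hKn.conj_mem ⟨_, (by simpa using hk : g₀⁻¹ * g ^ k * g₀⁻¹⁻¹ ∈ H) |> fun h => H.mul_mem h (H.inv_mem (H.pow_mem hg k))⟩
          (by simpa [Subgroup.mem_subgroupOf] using h2) (⟨g ^ k, H.pow_mem hg k⟩⁻¹)
        rw [Subgroup.mem_subgroupOf] at hn
        have h5 := K.inv_mem hn
        simpa [mul_assoc] using h5
      simpa using h4
    rw [MonoidHom.mem_ker, h1, ← map_pow]
    show (QuotientGroup.mk _ : H ⧸ K.subgroupOf H) = 1 ↔ _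
    rw [QuotientGroup.eq_one_iff, Subgroup.mem_subgroupOf]
    simp

end Cfsg.Agent.Lib.Helper26Transfer
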