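import Mathlib

set_option autoImplicit false

namespace Cfsg.Agent.Lib.Helper15TwoTrans

open MulAction
open scoped Pointwise

/-- number of derangements in a transitive group in which non-identity elements fix at most one point -/
theorem derangement_bound {N Ω : Type*} [Group N] [MulAction N Ω] [Fintype Ω] [DecidableEq Ω] [Fintype N]
    [DecidableEq N]
    (htr : IsPretransitive N Ω) (m : ℕ) (hm : Fintype.card Ω = m + 1)
    (sharp : ∀ (g : N) (a b : Ω), a ≠ b → g • a = a → g • b = b → g = 1) :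
    (Finset.univ.filter (fun g : N => ∀ a : Ω, g • a ≠ a)).card ≤ m := by
  classical
  obtain ⟨a₀⟩ : Nonempty Ω := Fintype.card_pos_iff.mp (by omega)
  set D : Finset N := Finset.univ.filter (fun g => ∀ a : Ω, g • a ≠ a) with hDdef
  have hB := sum_card_fixedBy_eq_card_orbits_mul_card_group N Ω
  have hΩ : Fintype.card (Quotient (orbitRel N Ω)) = 1 := by
    apply le_antisymm
    · rw [Fintype.card_le_one_iff_subsingleton]
      exact (pretransitive_iff_subsingleton_quotient N Ω).mp htr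
    · exact Fintype.card_pos_iff.mpr ⟨Quotient.mk'' a₀⟩
  rw [hΩ, one_mul] at hB
  have hpt : ∀ g : N, Fintype.card (fixedBy Ω g) + (if g ∈ D then 1 else 0) ≤
      1 + (if g = 1 then m else 0) := by
    intro g
    by_cases hg1 : g = 1
    · have h1 : g ∉ D := by
        simp only [D, Finset.mem_filter, Finset.mem_univ, true_and, not_forall, not_not]
        exact ⟨a₀, by rw [hg1, one_smul]⟩
      have h2 : Fintype.card (fixedBy Ω g) ≤ m + 1 := hm ▸ Fintype.card_subtype_le _
      rw [if_neg h1, if_pos hg1]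
      omega
    · by_cases hgD : g ∈ D
      · have h1 : Fintype.card (fixedBy Ω g) = 0 := by
          rw [Fintype.card_eq_zero_iff]
          constructor
          rintro ⟨a, ha⟩
          simp only [D, Finset.mem_filter, Finset.mem_univ, true_and] at hgD
          exact hgD a ha
        simp only [hgD, hg1, if_true, if_false, h1]
        omega
      · have h1 : Fintype.card (fixedBy Ω g) ≤ 1 := by
          rw [Fintype.card_le_one_iff_subsingleton]
          constructor
          rintro ⟨a, ha⟩ ⟨b, hb⟩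
          by_contra hne
          exact hg1 (sharp g a b (fun h => hne (Subtype.ext h)) ha hb)
        simp only [hgD, hg1, if_false]
        omega
  have hsum := Finset.sum_le_sum (fun g (_ : g ∈ (Finset.univ : Finset N)) => hpt g)
  rw [Finset.sum_add_distrib, Finset.sum_add_distrib, hB] at hsum
  simp only [Finset.sum_ite_mem, Finset.univ_inter, Finset.sum_const, smul_eq_mul, mul_one,
    Finset.sum_ite_eq', Finset.mem_univ, if_true, Finset.card_univ] at hsum
  omega

/-- a non-identity `q`-element is a derangement when `q` divides the degree -/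
theorem pelt_derangement {N Ω : Type*} [Group N] [MulAction N Ω] [Finite Ω]
    (sharp : ∀ (g : N) (a b : Ω), a ≠ b → g • a = a → g • b = b → g = 1)
    (q : ℕ) [Fact q.Prime] (hq : q ∣ Nat.card Ω) (y : N) (k : ℕ) (hy : y ^ (q ^ k) = 1) (hy1 : y ≠ 1)
    (a : Ω) : y • a ≠ a := by
  intro ha
  have hpg : IsPGroup q (Subgroup.zpowers y) := by
    rintro ⟨z, hz⟩
    obtain ⟨i, rfl⟩ := Subgroup.mem_zpowers_iff.mp hz
    refine ⟨k, Subtype.ext ?_⟩
    change (y ^ i) ^ (q ^ k) = 1
    rw [← zpow_natCast, ← zpow_mul, mul_comm, zpow_mul, zpow_natCast, hy, one_zpow]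
  have h1 := hpg.card_modEq_card_fixedPoints Ω
  have h2 : fixedPoints (Subgroup.zpowers y) Ω = {a} := by
    ext b
    rw [mem_fixedPoints, Set.mem_singleton_iff]
    constructor
    · intro hb
      by_contra hne
      exact hy1 (sharp y a b (Ne.symm hne) ha (hb ⟨y, Subgroup.mem_zpowers y⟩))
    · rintro rfl ⟨z, hz⟩
      obtain ⟨i, rfl⟩ := Subgroup.mem_zpowers_iff.mp hz
      change (y ^ i) • b = b
      exact zpow_smul_eq_iff_minimalPeriod_dvd.mpr (by
        have : Function.minimalPeriod (y • ·) b = 1 := by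
          rw [Function.minimalPeriod_eq_one_iff_isFixedPt]; exact ha
        rw [this]; simp)
  rw [h2] at h1
  have h3 : Nat.card (({a} : Set Ω)) = 1 := by simp
  rw [h3] at h1
  have h4 : (0 : ℕ) ≡ 1 [MOD q] := ((Nat.modEq_zero_iff_dvd.mpr hq).symm).trans h1
  have h5 : q ∣ 1 := (Nat.modEq_iff_dvd' (by norm_num)).mp h4
  exact (Fact.out : q.Prime).one_lt.ne' (Nat.dvd_one.mp h5)


/-- A transitive normal subgroup of a doubly transitive group in which non-identity elements fix at most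
one point has a regular subgroup, normal in the whole group, of prime exponent. -/
theorem thmA {G Ω : Type*} [Group G] [Finite G] [MulAction G Ω] [Fintype Ω] [DecidableEq Ω]
    (h2t : IsMultiplyPretransitive G Ω 2) (h2 : 2 ≤ Fintype.card Ω)
    (N : Subgroup G) [N.Normal] (hNtr : IsPretransitive N Ω)
    (hF : ∀ ν ∈ N, ∀ a b : Ω, a ≠ b → ν • a = a → ν • b = b → ν = 1) :
    ∃ (p : ℕ) (K : Subgroup G), p.Prime ∧ K.Normal ∧ K ≤ N ∧
      (∀ g, g ∈ K ↔ g ∈ N ∧ (g = 1 ∨ ∀ a : Ω, g • a ≠ a)) ∧ (∀ x ∈ K, x ^ p = 1) ∧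
      Nat.card K = Fintype.card Ω := by
  classical
  have : Fintype N := Fintype.ofFinite N
  obtain ⟨m, hm⟩ : ∃ m, Fintype.card Ω = m + 1 := ⟨Fintype.card Ω - 1, by omega⟩
  have hm1 : 1 ≤ m := by omega
  have sharp : ∀ (g : N) (a b : Ω), a ≠ b → g • a = a → g • b = b → g = 1 := by
    intro g a b hab ha hb
    exact Subtype.ext (hF g g.2 a b hab ha hb)
  have hD := derangement_bound hNtr m hm sharp
  set D : Finset N := Finset.univ.filter (fun g => ∀ a : Ω, g • a ≠ a) with hDdef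
  have memD : ∀ g : N, g ∈ D ↔ ∀ a : Ω, g • a ≠ a := by
    intro g
    simp [D]
  obtain ⟨a₀⟩ : Nonempty Ω := Fintype.card_pos_iff.mp (by omega)
  have hcΩ : Nat.card Ω = m + 1 := by rw [Nat.card_eq_fintype_card, hm]
  have hdvd : (m + 1) ∣ Nat.card N := by
    have h1 := (stabilizer N a₀).card_mul_index
    rw [index_stabilizer_of_transitive, hcΩ] at h1
    exact Dvd.intro_left _ h1
  have exq : ∀ q : ℕ, q.Prime → q ∣ m + 1 → ∃ y : N, orderOf y = q ∧ y ∈ D := by
    intro q hq hqd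
    have : Fact q.Prime := ⟨hq⟩
    obtain ⟨y, hy⟩ := exists_prime_orderOf_dvd_card' (G := N) q (hqd.trans hdvd)
    refine ⟨y, hy, ?_⟩
    rw [memD]
    apply pelt_derangement sharp q (by rw [hcΩ]; exact hqd) y 1
    · rw [pow_one, ← hy]; exact pow_orderOf_eq_one y
    · intro h
      rw [h, orderOf_one] at hy
      exact hq.one_lt.ne hy
  obtain ⟨p, hp, hpd⟩ := Nat.exists_prime_and_dvd (n := m + 1) (by omega)
  have hpF : Fact p.Prime := ⟨hp⟩
  obtain ⟨x, hx, hxD⟩ := exq p hp hpd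
  have hxp : x ^ p = 1 := by rw [← hx]; exact pow_orderOf_eq_one x
  have conj_smul : ∀ (g : G) (ν : N) (a : Ω), (MulAut.conjNormal g ν) • a = g • ν • g⁻¹ • a := by
    intro g ν a
    change ((MulAut.conjNormal g ν : N) : G) • a = g • (ν : G) • g⁻¹ • a
    rw [MulAut.conjNormal_apply, mul_smul, mul_smul]
  have conjD : ∀ (g : G) (ν : N), ν ∈ D → MulAut.conjNormal g ν ∈ D := by
    intro g ν hν
    rw [memD] at hν ⊢
    intro a ha
    apply hν (g⁻¹ • a)
    rw [conj_smul, ← eq_inv_smul_iff] at ha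
    exact ha
  have h2t' : ∀ {a b c d : Ω}, a ≠ b → c ≠ d → ∃ g : G, g • a = c ∧ g • b = d :=
    fun h h' => is_two_pretransitive_iff.mp h2t h h'
  have hxa : x • a₀ ≠ a₀ := (memD x).mp hxD a₀
  have surj : ∀ b : Ω, b ≠ a₀ → ∃ g : G, g • a₀ = a₀ ∧ (MulAut.conjNormal g x) • a₀ = b := by
    intro b hb
    obtain ⟨g, hg1, hg2⟩ := h2t' hxa.symm hb.symm
    refine ⟨g, hg1, ?_⟩
    rw [conj_smul, inv_smul_eq_iff.mpr hg1.symm, hg2]
  let f : D → {b : Ω // b ≠ a₀} := fun τ => ⟨(τ : N) • a₀, (memD τ).mp τ.2 a₀⟩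
  have fsurj : Function.Surjective f := by
    rintro ⟨b, hb⟩
    obtain ⟨g, -, hg⟩ := surj b hb
    exact ⟨⟨MulAut.conjNormal g x, conjD g x hxD⟩, Subtype.ext hg⟩
  have hcb : Fintype.card {b : Ω // b ≠ a₀} = m := by
    rw [Fintype.card_subtype_compl, Fintype.card_subtype_eq, hm]
    simp
  have hDm : D.card = m := by
    apply le_antisymm hD
    have := Fintype.card_le_of_surjective f fsurj
    rw [hcb, Fintype.card_coe] at this
    exact this
  have finj : Function.Injective f :=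
    ((Fintype.bijective_iff_surjective_and_card f).mpr ⟨fsurj, by rw [hcb, Fintype.card_coe, hDm]⟩).1
  have allconj : ∀ τ ∈ D, ∃ g : G, τ = MulAut.conjNormal g x := by
    intro τ hτ
    obtain ⟨g, -, hg⟩ := surj (τ • a₀) ((memD τ).mp hτ a₀)
    refine ⟨g, ?_⟩
    have : f ⟨τ, hτ⟩ = f ⟨MulAut.conjNormal g x, conjD g x hxD⟩ := Subtype.ext hg.symm
    exact congrArg Subtype.val (finj this)
  have hexp : ∀ τ ∈ D, τ ^ p = 1 := by
    intro τ hτ
    obtain ⟨g, rfl⟩ := allconj τ hτ
    rw [← map_pow, hxp, map_one]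
  have huniq : ∀ {q : ℕ}, q.Prime → q ∣ m + 1 → q = p := by
    intro q hq hqd
    obtain ⟨y, hy, hyD⟩ := exq q hq hqd
    have h1 : orderOf y ∣ p := orderOf_dvd_of_pow_eq_one (hexp y hyD)
    rw [hy] at h1
    exact (Nat.prime_dvd_prime_iff_eq hq hp).mp h1
  have hpow := Nat.eq_prime_pow_of_unique_prime_dvd (n := m + 1) (p := p) (by omega) huniq
  set j := (m + 1).primeFactorsList.length with hj
  obtain ⟨K₀, hK₀⟩ := Sylow.exists_subgroup_card_pow_prime (G := N) p (n := j) (by rw [← hpow]; exact hdvd)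
  have hK₀D : (K₀ : Set N) ⊆ insert 1 (D : Set N) := by
    intro y hy
    by_cases hy1 : y = 1
    · exact Or.inl hy1
    · right
      rw [Finset.mem_coe, memD]
      apply pelt_derangement sharp p (by rw [hcΩ]; exact hpd) y j _ hy1
      have h1 : (⟨y, hy⟩ : K₀) ^ Nat.card K₀ = 1 := pow_card_eq_one'
      rw [hK₀] at h1
      exact congrArg Subtype.val h1
  have hK₀nc : Nat.card K₀ = (K₀ : Set N).ncard := by
    rw [← SetLike.coe_sort_coe, Nat.card_coe_set_eq]
  have hK₀eq : (K₀ : Set N) = insert 1 (D : Set N) := by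
    apply Set.eq_of_subset_of_ncard_le hK₀D _ (Set.toFinite _)
    rw [← hK₀nc, hK₀, ← hpow]
    calc (insert 1 (D : Set N)).ncard ≤ (D : Set N).ncard + 1 := Set.ncard_insert_le _ _
      _ ≤ m + 1 := by rw [Set.ncard_coe_finset]; omega
  have memK₀ : ∀ g : N, g ∈ K₀ ↔ g = 1 ∨ ∀ a : Ω, g • a ≠ a := by
    intro g
    rw [← SetLike.mem_coe, hK₀eq, Set.mem_insert_iff, Finset.mem_coe, memD]
  have memK : ∀ g : G, g ∈ K₀.map N.subtype ↔ g ∈ N ∧ (g = 1 ∨ ∀ a : Ω, g • a ≠ a) := by
    intro g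
    constructor
    · rintro ⟨y, hy, rfl⟩
      refine ⟨y.2, ?_⟩
      rcases (memK₀ y).mp hy with h | h
      · left; rw [h]; rfl
      · right; exact h
    · rintro ⟨hg, h⟩
      refine ⟨⟨g, hg⟩, ?_, rfl⟩
      rw [SetLike.mem_coe, memK₀]
      rcases h with h | h
      · left; exact Subtype.ext h
      · right; exact h
  refine ⟨p, K₀.map N.subtype, hp, ?_, ?_, memK, ?_, ?_⟩
  · constructor
    intro y hy g
    rw [memK] at hy ⊢
    refine ⟨‹N.Normal›.conj_mem y hy.1 g, ?_⟩
    rcases hy.2 with rfl | h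
    · left; simp
    · right
      intro a ha
      apply h (g⁻¹ • a)
      rw [mul_smul, mul_smul, ← eq_inv_smul_iff] at ha
      exact ha
  · intro g hg
    exact ((memK g).mp hg).1
  · rintro _ ⟨y, hy, rfl⟩
    rcases (memK₀ y).mp hy with h | h
    · rw [h]; simp
    · have := hexp y ((memD y).mpr h)
      exact congrArg Subtype.val this
  · rw [Subgroup.card_map_of_injective N.subtype_injective, hK₀, ← hpow, hm]


theorem block_translate {G Ω : Type*} [Group G] [MulAction G Ω] (N : Subgroup G) [N.Normal]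
    (B : Set Ω) (hB : IsBlock N B) (g : G) : IsBlock N (g • B) := by
  rw [isBlock_iff_smul_eq_of_mem] at hB ⊢
  rintro ⟨ν, hν⟩ x hx hνx
  obtain ⟨y, hy, rfl⟩ := hx
  have hν' : g⁻¹ * ν * g ∈ N := by
    have := ‹N.Normal›.conj_mem ν hν g⁻¹
    rwa [inv_inv] at this
  have e : ∀ z : Ω, ν • g • z = g • (g⁻¹ * ν * g) • z := by
    intro z
    rw [mul_smul, mul_smul, smul_inv_smul]
  have h1 : (⟨g⁻¹ * ν * g, hν'⟩ : N) • y ∈ B := by
    change ν • g • y ∈ g • B at hνx
    rw [e] at hνx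
    exact (Set.smul_mem_smul_set_iff).mp hνx
  have h2 := hB hy h1
  ext z
  constructor
  · rintro ⟨_, ⟨w, hw, rfl⟩, rfl⟩
    change ν • g • w ∈ g • B
    rw [e]
    apply Set.smul_mem_smul_set
    rw [← h2]
    exact Set.smul_mem_smul_set (a := (⟨g⁻¹ * ν * g, hν'⟩ : N)) hw
  · rintro ⟨w, hw, rfl⟩
    rw [← h2] at hw
    obtain ⟨u, hu, rfl⟩ := hw
    refine ⟨g • u, Set.smul_mem_smul_set hu, ?_⟩
    change ν • g • u = g • (g⁻¹ * ν * g) • u
    exact e u

/-- An imprimitive transitive normal subgroup of a doubly transitive group: non-identity elements fix at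
most one point. -/
theorem thmB {G Ω : Type*} [Group G] [MulAction G Ω] [Finite Ω] [FaithfulSMul G Ω]
    (h2t : IsMultiplyPretransitive G Ω 2)
    (N : Subgroup G) [N.Normal] (hNtr : IsPretransitive N Ω) (hnp : ¬ IsPreprimitive N Ω) :
    ∀ ν ∈ N, ∀ a b : Ω, a ≠ b → ν • a = a → ν • b = b → ν = 1 := by
  classical
  obtain ⟨B₀, hB₀, hB₀t⟩ : ∃ B₀ : Set Ω, IsBlock N B₀ ∧ ¬ IsTrivialBlock B₀ := by
    by_contra h
    push Not at h
    exact hnp ⟨fun hB => h _ hB⟩
  have hB₀2 : 2 ≤ B₀.ncard := by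
    by_contra h
    apply hB₀t
    left
    have : B₀.ncard ≤ 1 := by omega
    exact Set.ncard_le_one_iff_subsingleton.mp this
  have hB₀u : B₀.ncard < Nat.card Ω := by
    rw [← Set.ncard_univ]
    apply Set.ncard_lt_ncard _ (Set.toFinite _)
    rw [Set.ssubset_univ_iff]
    exact fun h => hB₀t (Or.inr h)
  obtain ⟨B, ⟨hB, hB2⟩, hBmin⟩ := Set.exists_min_image {B : Set Ω | IsBlock N B ∧ 2 ≤ B.ncard} Set.ncard
    (Set.toFinite _) ⟨B₀, hB₀, hB₀2⟩
  have hBu : B.ncard < Nat.card Ω := lt_of_le_of_lt (hBmin B₀ ⟨hB₀, hB₀2⟩) hB₀u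
  have h2t' : ∀ {a b c d : Ω}, a ≠ b → c ≠ d → ∃ g : G, g • a = c ∧ g • b = d :=
    fun h h' => is_two_pretransitive_iff.mp h2t h h'
  -- lines
  have U : ∀ (g g' : G) (x y : Ω), x ≠ y → x ∈ g • B → x ∈ g' • B → y ∈ g • B → y ∈ g' • B →
      g • B = g' • B := by
    intro g g' x y hxy hx hx' hy hy'
    have hb : IsBlock N (g • B ∩ g' • B) := (block_translate N B hB g).inter (block_translate N B hB g')
    have h2 : 2 ≤ (g • B ∩ g' • B).ncard := by
      have : ({x, y} : Set Ω) ⊆ g • B ∩ g' • B := by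
        rintro z (rfl | rfl)
        · exact ⟨hx, hx'⟩
        · exact ⟨hy, hy'⟩
      have h3 := Set.ncard_le_ncard this (Set.toFinite _)
      rwa [Set.ncard_pair hxy] at h3
    have h3 := hBmin _ ⟨hb, h2⟩
    have e1 : g • B ∩ g' • B = g • B := by
      apply Set.eq_of_subset_of_ncard_le Set.inter_subset_left _ (Set.toFinite _)
      rw [Set.ncard_smul_set]; exact h3
    have e2 : g • B ∩ g' • B = g' • B := by
      apply Set.eq_of_subset_of_ncard_le Set.inter_subset_right _ (Set.toFinite _)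
      rw [Set.ncard_smul_set]; exact h3
    rw [← e1, e2]
  have E : ∀ x y : Ω, x ≠ y → ∃ g : G, x ∈ g • B ∧ y ∈ g • B := by
    intro x y hxy
    obtain ⟨u, hu, v, hv, huv⟩ := (Set.one_lt_ncard (Set.toFinite _)).mp (by omega : 1 < B.ncard)
    obtain ⟨g, hg1, hg2⟩ := h2t' huv hxy
    exact ⟨g, hg1 ▸ Set.smul_mem_smul_set hu, hg2 ▸ Set.smul_mem_smul_set hv⟩
  have S : ∀ ν ∈ N, ∀ (x : Ω) (g : G), ν • x = x → x ∈ g • B → ∀ z ∈ g • B, ν • z ∈ g • B := by
    intro ν hν x g hx hxg z hz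
    have h0 := isBlock_iff_smul_eq_of_mem.mp (block_translate N B hB g)
    have h1 := @h0 ⟨ν, hν⟩ x hxg (by change ν • x ∈ g • B; rw [hx]; exact hxg)
    rw [← h1]
    exact Set.smul_mem_smul_set (a := (⟨ν, hν⟩ : N)) hz
  have step1 : ∀ ν ∈ N, ∀ a b z : Ω, a ≠ b → ν • a = a → ν • b = b →
      (∀ g : G, a ∈ g • B → b ∈ g • B → z ∉ g • B) → ν • z = z := by
    intro ν hν a b z hab ha hb hz
    obtain ⟨g₀, h0a, h0b⟩ := E a b hab
    have hza : z ≠ a := fun h => hz g₀ h0a h0b (h ▸ h0a)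
    have hzb : z ≠ b := fun h => hz g₀ h0a h0b (h ▸ h0b)
    obtain ⟨g₁, h1a, h1z⟩ := E a z hza.symm
    obtain ⟨g₂, h2b, h2z⟩ := E b z hzb.symm
    by_contra hne
    have k1 := S ν hν a g₁ ha h1a z h1z
    have k2 := S ν hν b g₂ hb h2b z h2z
    have e := U g₁ g₂ (ν • z) z hne k1 k2 h1z h2z
    exact hz g₁ h1a (e ▸ h2b) h1z
  intro ν hν a b hab ha hb
  apply FaithfulSMul.eq_of_smul_eq_smul (α := Ω)
  intro z
  rw [one_smul]
  by_cases hz : ∀ g : G, a ∈ g • B → b ∈ g • B → z ∉ g • B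
  · exact step1 ν hν a b z hab ha hb hz
  · push Not at hz
    obtain ⟨g, hga, hgb, hgz⟩ := hz
    by_cases hza : z = a
    · rw [hza]; exact ha
    obtain ⟨w, hw⟩ : ∃ w, w ∉ g • B := by
      by_contra h
      push Not at h
      have : g • B = Set.univ := Set.eq_univ_of_forall h
      have h2 := Set.ncard_smul_set g B
      rw [this, Set.ncard_univ] at h2
      omega
    have hνw : ν • w = w := by
      apply step1 ν hν a b w hab ha hb
      intro g' h1 h2 h3
      exact hw ((U g g' a b hab hga h1 hgb h2) ▸ h3)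
    have haw : a ≠ w := fun h => hw (h ▸ hga)
    apply step1 ν hν a w z haw ha hνw
    intro g' h1 h2 h3
    exact hw ((U g g' a z (Ne.symm hza) hga h1 hgz h3) ▸ h2)


/-- orbits of a normal subgroup of a transitive group have a size dividing the degree -/
theorem orbit_ncard_dvd {G X : Type*} [Group G] [MulAction G X] [Finite X] [IsPretransitive G X]
    (N : Subgroup G) [N.Normal] (x : X) : (orbit N x).ncard ∣ Nat.card X := by
  classical
  have heq : ∀ y : X, Nat.card (orbit N y) = (orbit N x).ncard := by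
    intro y
    obtain ⟨g, rfl⟩ := exists_smul_eq G x y
    rw [Nat.card_coe_set_eq, ← smul_orbit_eq_orbit_smul, Set.ncard_smul_set]
  have : Fintype (orbitRel.Quotient N X) := Fintype.ofFinite _
  rw [Nat.card_congr (selfEquivSigmaOrbits N X), Nat.card_sigma]
  simp only [heq, Finset.sum_const, smul_eq_mul]
  exact Dvd.intro_left _ rfl

theorem orbit_ncard_dvd_card {N X : Type*} [Group N] [MulAction N X] [Finite N] (x : X) :
    (orbit N x).ncard ∣ Nat.card N := by
  rw [← Nat.card_coe_set_eq, ← Nat.card_congr (orbitProdStabilizerEquivGroup N x), Nat.card_prod]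
  exact Dvd.intro _ rfl

theorem normal_trans {G : Type*} {X : Type*} [Group G] [MulAction G X] [FaithfulSMul G X]
    [IsPreprimitive G X] (H : Subgroup G) [H.Normal] (h : G) (hh : h ∈ H) (h1 : h ≠ 1) :
    IsPretransitive H X := by
  apply IsQuasiPreprimitive.isPretransitive_of_normal
  intro hfix
  apply h1
  apply FaithfulSMul.eq_of_smul_eq_smul (α := X)
  intro x
  have : x ∈ fixedPoints H X := by rw [hfix]; trivial
  rw [one_smul]
  exact this ⟨h, hh⟩

/-- if the order of a transitive normal subgroup of a doubly transitive group divides the square of the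
degree, the subgroup is regular -/
theorem regular_of_card_dvd_sq {G Ω : Type*} [Group G] [Finite G] [MulAction G Ω] [Fintype Ω]
    [DecidableEq Ω] [FaithfulSMul G Ω]
    (h2t : IsMultiplyPretransitive G Ω 2)
    (N : Subgroup G) [N.Normal] (hNtr : IsPretransitive N Ω)
    (hcard : Nat.card N ∣ Fintype.card Ω * Fintype.card Ω) :
    ∀ ν ∈ N, ∀ a : Ω, ν • a = a → ν = 1 := by
  intro ν hν a ha
  apply FaithfulSMul.eq_of_smul_eq_smul (α := Ω)
  intro b
  rw [one_smul]
  by_cases hab : b = a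
  · rw [hab]; exact ha
  obtain ⟨n, hn⟩ : ∃ n, Fintype.card Ω = n := ⟨_, rfl⟩
  rw [hn] at hcard
  have hnpos : 0 < n := hn ▸ Fintype.card_pos_iff.mpr ⟨a⟩
  let x : Fin 2 ↪ Ω := Function.Embedding.embFinTwo (Ne.symm hab)
  have h1 : (orbit N x).ncard ∣ n * (n - 1) := by
    have := orbit_ncard_dvd (G := G) N x
    rw [Nat.card_eq_fintype_card, Fintype.card_embedding_eq, Fintype.card_fin, hn] at this
    simp only [Nat.descFactorial, Nat.sub_zero, mul_one] at this
    rw [mul_comm] at this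
    exact this
  have h2 : (orbit N x).ncard ∣ n * n := (orbit_ncard_dvd_card (N := N) x).trans hcard
  have h3 : (orbit N x).ncard ∣ n := by
    have := Nat.dvd_sub h2 h1
    have e : n * n - n * (n - 1) = n := by
      rw [← Nat.mul_sub]
      have : n - (n - 1) = 1 := by omega
      rw [this, mul_one]
    rwa [e] at this
  have h4 : Nat.card (orbit N x) ≤ n := by
    rw [Nat.card_coe_set_eq]; exact Nat.le_of_dvd hnpos h3
  let f : orbit N x → Ω := fun y => (y : Fin 2 ↪ Ω) 0
  have fsurj : Function.Surjective f := by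
    intro c
    obtain ⟨μ, hμ⟩ := hNtr.exists_smul_eq a c
    exact ⟨⟨μ • x, mem_orbit x μ⟩, hμ⟩
  have hc : Nat.card (orbit N x) = Nat.card Ω := by
    apply le_antisymm
    · rw [Nat.card_eq_fintype_card (α := Ω), hn]; exact h4
    · exact Nat.card_le_card_of_surjective f fsurj
  have finj : Function.Injective f := ((Nat.bijective_iff_surjective_and_card f).mpr ⟨fsurj, hc⟩).1
  have h5 : (⟨(⟨ν, hν⟩ : N) • x, mem_orbit x _⟩ : orbit N x) = ⟨x, mem_orbit_self x⟩ := by
    apply finj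
    exact ha
  have h6 : (⟨ν, hν⟩ : N) • x = x := congrArg Subtype.val h5
  exact congrArg (fun y : Fin 2 ↪ Ω => y 1) h6

end Cfsg.Agent.Lib.Helper15TwoTrans
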