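import Mathlib
import Cfsg.Prelude.Def_LieExceptional
import Cfsg.Agent.Lib.Helper15TwoTrans

set_option autoImplicit false

namespace Cfsg.Agent.Lib.Helper15Zass

open MulAction
open scoped Pointwise
open Cfsg.Agent.Lib.Helper15TwoTrans

theorem finite_of_faithful (G Ω : Type*) [Group G] [MulAction G Ω] [Finite Ω] [FaithfulSMul G Ω] :
    Finite G :=
  Finite.of_injective (MulAction.toPermHom G Ω) MulAction.toPerm_injective

/-- a non-identity element has a power of prime order -/
theorem exists_prime_order_pow {G : Type*} [Group G] [Finite G] (ν : G) (hν : ν ≠ 1) :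
    ∃ (p : ℕ) (k : ℕ), p.Prime ∧ orderOf (ν ^ k) = p := by
  have h1 : orderOf ν ≠ 1 := fun h => hν (orderOf_eq_one_iff.1 h)
  refine ⟨(orderOf ν).minFac, orderOf ν / (orderOf ν).minFac, Nat.minFac_prime h1, ?_⟩
  exact orderOf_pow_orderOf_div (orderOf_pos ν).ne' (Nat.minFac_dvd _)

/-- In a doubly transitive group where only the identity fixes three points, a normal subgroup with
non-trivial two-point stabilisers has point stabilisers transitive on the remaining points. -/
theorem stab_trans {G Ω : Type*} [Group G] [MulAction G Ω] [Finite Ω] [Finite G]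
    (h2t : IsMultiplyPretransitive G Ω 2)
    (h3 : ∀ g : G, ∀ a b c : Ω, a ≠ b → b ≠ c → a ≠ c → g • a = a → g • b = b → g • c = c → g = 1)
    (N : Subgroup G) [N.Normal]
    (hfix : ∀ a b : Ω, a ≠ b → ∃ ν ∈ N, ν ≠ 1 ∧ ν • a = a ∧ ν • b = b)
    (a b c : Ω) (hb : b ≠ a) (hc : c ≠ a) : ∃ ν ∈ N, ν • a = a ∧ ν • b = c := by
  classical
  let N' : Subgroup (stabilizer G a) := N.subgroupOf (stabilizer G a)
  have hN' : N'.Normal := inferInstance
  by_contra hcon
  have hc' : c ∉ orbit N' b := by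
    rintro ⟨⟨⟨ν, hνa⟩, hνN⟩, hνb⟩
    exact hcon ⟨ν, hνN, hνa, hνb⟩
  obtain ⟨ν, hν, hν1, hνa, hνb⟩ := hfix a b hb.symm
  obtain ⟨p, k, hp, hord⟩ := exists_prime_order_pow ν hν1
  have : Fact p.Prime := ⟨hp⟩
  set x := ν ^ k with hx
  have hx1 : x ≠ 1 := by
    intro h
    rw [h, orderOf_one] at hord
    exact hp.one_lt.ne hord
  have hxN : x ∈ N := N.pow_mem hν k
  have hxa : x • a = a := by
    have : ν ∈ stabilizer G a := hνa
    exact (stabilizer G a).pow_mem this k
  have hxb : x • b = b := by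
    have : ν ∈ stabilizer G b := hνb
    exact (stabilizer G b).pow_mem this k
  let x' : N' := ⟨⟨x, hxa⟩, hxN⟩
  have hZ : IsPGroup p (Subgroup.zpowers x') := by
    apply IsPGroup.of_card (n := 1)
    rw [Nat.card_zpowers, pow_one, ← hord]
    have e1 : orderOf x' = orderOf (x' : stabilizer G a) := (Subgroup.orderOf_coe x').symm
    have e2 : orderOf (x' : stabilizer G a) = orderOf x := (Subgroup.orderOf_coe (⟨x, hxa⟩ : stabilizer G a)).symm
    rw [e1, e2]
  have hne_a : ∀ y z : Ω, z ≠ a → y ∈ orbit N' z → y ≠ a := by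
    rintro y z hz ⟨⟨⟨n, hna⟩, hnN⟩, rfl⟩ h
    apply hz
    have h' : n • z = n • a := by
      rw [show n • a = a from hna]; exact h
    exact smul_left_cancel n h'
  have h1 := hZ.card_modEq_card_fixedPoints (orbit N' b)
  have h2 := hZ.card_modEq_card_fixedPoints (orbit N' c)
  have hfb : Nat.card (fixedPoints (Subgroup.zpowers x') (orbit N' b)) = 1 := by
    have : fixedPoints (Subgroup.zpowers x') (orbit N' b) = {⟨b, mem_orbit_self b⟩} := by
      ext ⟨y, hy⟩
      simp only [mem_fixedPoints, Set.mem_singleton_iff, Subtype.mk.injEq]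
      constructor
      · intro h
        by_contra hyb
        have hxy : x • y = y := by
          have := h ⟨x', Subgroup.mem_zpowers x'⟩
          exact congrArg Subtype.val this
        exact hx1 (h3 x a b y hb.symm (Ne.symm hyb) (hne_a y b hb hy).symm hxa hxb hxy)
      · rintro rfl ⟨z, hz⟩
        obtain ⟨i, rfl⟩ := Subgroup.mem_zpowers_iff.1 hz
        apply Subtype.ext
        change ((x' ^ i : N') : G) • y = y
        have : x ∈ stabilizer G y := hxb
        have := (stabilizer G y).zpow_mem this i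
        simpa using this
    rw [this]
    simp
  have hfc : Nat.card (fixedPoints (Subgroup.zpowers x') (orbit N' c)) = 0 := by
    have : fixedPoints (Subgroup.zpowers x') (orbit N' c) = ∅ := by
      ext ⟨y, hy⟩
      simp only [mem_fixedPoints, Set.mem_empty_iff_false, iff_false]
      intro h
      have hxy : x • y = y := by
        have := h ⟨x', Subgroup.mem_zpowers x'⟩
        exact congrArg Subtype.val this
      have hyb : y ≠ b := by
        rintro rfl
        exact hc' ((orbitRel N' Ω).symm hy)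
      exact hx1 (h3 x a b y hb.symm (Ne.symm hyb) (hne_a y c hc hy).symm hxa hxb hxy)
    rw [this]
    simp
  have heq : Nat.card (orbit N' b) = Nat.card (orbit N' c) := by
    obtain ⟨g, hga, hgb⟩ := (is_two_pretransitive_iff.1 h2t) hb.symm hc.symm
    have := smul_orbit_eq_orbit_smul N' b (⟨g, hga⟩ : stabilizer G a)
    rw [show (⟨g, hga⟩ : stabilizer G a) • b = c from hgb] at this
    rw [Nat.card_coe_set_eq, Nat.card_coe_set_eq, ← this, Set.ncard_smul_set]
  rw [hfb] at h1
  rw [hfc, ← heq] at h2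
  have h4 := h1.symm.trans h2
  have h5 : p ∣ 1 := (Nat.modEq_zero_iff_dvd.1 h4)
  exact hp.one_lt.ne' (Nat.dvd_one.1 h5)

/-- a semiregular action of a group whose order is the degree is transitive -/
theorem pretransitive_of_semiregular {K Ω : Type*} [Group K] [MulAction K Ω] [Finite Ω]
    (hs : ∀ (k : K) (a : Ω), k • a = a → k = 1) (hc : Nat.card Ω ≤ Nat.card K) :
    IsPretransitive K Ω := by
  refine ⟨fun x y => ?_⟩
  have hinj : Function.Injective (fun k : K => k • x) := by
    intro k k' h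
    have h' : (k'⁻¹ * k) • x = x := by
      rw [mul_smul]
      change k • x = k' • x at h
      rw [h, inv_smul_smul]
    have := hs _ _ h'
    rw [inv_mul_eq_one] at this
    exact this.symm
  exact (hinj.bijective_of_nat_card_le hc).2 y

theorem card_le_of_semiregular {K Ω : Type*} [Group K] [MulAction K Ω] [Finite Ω] [Nonempty Ω]
    (hs : ∀ (k : K) (a : Ω), k • a = a → k = 1) : Nat.card K ≤ Nat.card Ω := by
  obtain ⟨x⟩ := ‹Nonempty Ω›
  have hinj : Function.Injective (fun k : K => k • x) := by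
    intro k k' h
    have h' : (k'⁻¹ * k) • x = x := by
      rw [mul_smul]
      change k • x = k' • x at h
      rw [h, inv_smul_smul]
    have := hs _ _ h'
    rw [inv_mul_eq_one] at this
    exact this.symm
  exact Nat.card_le_card_of_injective _ hinj

theorem card_ge_of_pretransitive {K Ω : Type*} [Group K] [MulAction K Ω] [Finite K] [Nonempty Ω]
    [IsPretransitive K Ω] : Nat.card Ω ≤ Nat.card K := by
  obtain ⟨x⟩ := ‹Nonempty Ω›
  exact Nat.card_le_card_of_surjective (fun k : K => k • x) (fun y => exists_smul_eq K x y)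

/-- two-point stabilisers in a non-trivial normal subgroup of a Zassenhaus group are non-trivial -/
theorem normal_fix {G Ω : Type*} [Group G] [MulAction G Ω] [Finite Ω]
    (hZ : Cfsg.IsZassenhausGroup G Ω) (N : Subgroup G) [N.Normal] (hN : N ≠ ⊥) :
    IsPretransitive N Ω ∧ ∀ a b : Ω, a ≠ b → ∃ ν ∈ N, ν ≠ 1 ∧ ν • a = a ∧ ν • b = b := by
  classical
  obtain ⟨hf, h2t, h3, ⟨g0, hg0, a0, b0, hab0, -, -⟩, h5⟩ := hZ
  have hfin : Finite G := finite_of_faithful G Ω
  have : Fintype Ω := Fintype.ofFinite Ω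
  have hprim : IsPreprimitive G Ω := isPreprimitive_of_is_two_pretransitive h2t
  obtain ⟨⟨h, hh⟩, h1⟩ := Subgroup.ne_bot_iff_exists_ne_one.1 hN
  have h1' : h ≠ 1 := fun e => h1 (Subtype.ext e)
  have hNtr : IsPretransitive N Ω := normal_trans N h hh h1'
  refine ⟨hNtr, ?_⟩
  have h2 : 2 ≤ Fintype.card Ω := by
    rw [← Nat.card_eq_fintype_card]
    have : Nontrivial Ω := ⟨a0, b0, hab0⟩
    exact Finite.one_lt_card
  by_cases hF : ∀ ν ∈ N, ∀ a b : Ω, a ≠ b → ν • a = a → ν • b = b → ν = 1
  · exfalso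
    obtain ⟨p, K, hp, hKn, hKN, hKmem, -, hKcard⟩ := thmA h2t h2 N hNtr hF
    have hs : ∀ (k : K) (a : Ω), k • a = a → k = 1 := by
      rintro ⟨k, hk⟩ a ha
      rcases ((hKmem k).1 hk).2 with h | h
      · exact Subtype.ext h
      · exact absurd ha (h a)
    have hKtr : IsPretransitive K Ω :=
      pretransitive_of_semiregular hs (by rw [hKcard, Nat.card_eq_fintype_card])
    obtain ⟨a, ha⟩ := h5 K hKn hKtr
    apply ha
    rw [eq_bot_iff]
    intro k hk
    exact hs k a hk
  · push Not at hF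
    obtain ⟨ν, hν, a, b, hab, hνa, hνb, hν1⟩ := hF
    intro c d hcd
    obtain ⟨g, hga, hgb⟩ := (is_two_pretransitive_iff.1 h2t) hab hcd
    refine ⟨g * ν * g⁻¹, ‹N.Normal›.conj_mem ν hν g, ?_, ?_, ?_⟩
    · intro e
      apply hν1
      have : ν = g⁻¹ * (g * ν * g⁻¹) * g := by group
      rw [this, e]; group
    · rw [← hga, mul_smul, mul_smul, inv_smul_smul, hνa]
    · rw [← hgb, mul_smul, mul_smul, inv_smul_smul, hνb]

/-- a non-trivial normal subgroup of a Zassenhaus group is doubly transitive -/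
theorem normal_two_trans {G Ω : Type*} [Group G] [MulAction G Ω] [Finite Ω]
    (hZ : Cfsg.IsZassenhausGroup G Ω) (N : Subgroup G) [N.Normal] (hN : N ≠ ⊥)
    (a b c d : Ω) (hab : a ≠ b) (hcd : c ≠ d) : ∃ ν ∈ N, ν • a = c ∧ ν • b = d := by
  obtain ⟨hNtr, hfix⟩ := normal_fix hZ N hN
  obtain ⟨hf, h2t, h3, -, -⟩ := hZ
  have hfin : Finite G := finite_of_faithful G Ω
  obtain ⟨⟨ν1, hν1⟩, h1⟩ := exists_smul_eq N a c
  change ν1 • a = c at h1
  have hne : ν1 • b ≠ c := by
    rw [← h1]
    intro e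
    exact hab (smul_left_cancel ν1 e).symm
  obtain ⟨ν2, hν2, h2c, h2d⟩ := stab_trans h2t h3 N hfix c (ν1 • b) d hne hcd.symm
  refine ⟨ν2 * ν1, N.mul_mem hν2 hν1, ?_, ?_⟩
  · rw [mul_smul, h1, h2c]
  · rw [mul_smul, h2d]

theorem normal_two_pretrans {G Ω : Type*} [Group G] [MulAction G Ω] [Finite Ω]
    (hZ : Cfsg.IsZassenhausGroup G Ω) (N : Subgroup G) [N.Normal] (hN : N ≠ ⊥) :
    IsMultiplyPretransitive N Ω 2 := by
  rw [is_two_pretransitive_iff]
  intro a b c d hab hcd
  obtain ⟨ν, hν, h1, h2⟩ := normal_two_trans hZ N hN a b c d hab hcd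
  exact ⟨⟨ν, hν⟩, h1, h2⟩

theorem card_sup_dvd {G : Type*} [Group G] (R S : Subgroup G) [R.Normal] :
    Nat.card (R ⊔ S : Subgroup G) ∣ Nat.card R * Nat.card S := by
  have h1 := Subgroup.relIndex_mul_relIndex (⊥ : Subgroup G) R (R ⊔ S) bot_le le_sup_left
  rw [Subgroup.relIndex_bot_left, Subgroup.relIndex_bot_left, Subgroup.relIndex_sup_left] at h1
  rw [← h1]
  exact Nat.mul_dvd_mul_left _ (Subgroup.relIndex_dvd_card R S)

end Cfsg.Agent.Lib.Helper15Zass
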