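import Cfsg.Agent.Lib.Helper16FeitB
import Cfsg.Agent.Lib.Helper15Zass
import Cfsg.Agent.S0339
import Mathlib

set_option autoImplicit false
set_option linter.unusedSectionVars false
set_option linter.unusedVariables false
set_option linter.style.haveILetI false

/-! Feit's inequality for Zassenhaus groups with abelian kernel: reduction to simple groups. -/

namespace Cfsg.Agent.Helper16Feit

open Cfsg Cfsg.Agent.Lib.Helper61Feit Cfsg.Agent.Lib.Helper61Feit2 Cfsg.Agent.Lib.Helper61Feit3

universe u v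

section red

variable {G : Type u} [Group G] [Finite G] {O : Type v} [Finite O] [MulAction G O] {h : ℕ}

theorem two_le_h (hZ : Cfsg.IsZassenhausGroup G O) (hh : Nat.card O = h + 1) : 2 ≤ h := by
  by_contra hcon
  obtain ⟨g, hg, c, d, hcd, h2, h3⟩ := hZ.2.2.2.1
  have := hZ.1
  apply hg
  apply FaithfulSMul.eq_of_smul_eq_smul (α := O)
  intro z
  rw [one_smul]
  by_cases hz : z = c
  · rw [hz, h2]
  by_cases hz' : z = d
  · rw [hz', h3]
  exfalso
  classical
  have : Fintype O := Fintype.ofFinite O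
  have h5 : 2 < Fintype.card O := Fintype.two_lt_card_iff.2 ⟨c, d, z, hcd, Ne.symm hz, Ne.symm hz'⟩
  rw [← Nat.card_eq_fintype_card, hh] at h5
  omega

variable (hZ : Cfsg.IsZassenhausGroup G O) (hh : Nat.card O = h + 1)
  {a b : O} (hab : a ≠ b) {H : Subgroup G} (K : KData G O a h H)

include hZ hh hab K

/-- every non-trivial normal subgroup contains the kernel -/
theorem H_le_normal (M : Subgroup G) [M.Normal] (hM : M ≠ ⊥) : H ≤ M := by
  have D := tdata_of_zass hZ hh
  have he := two_le_card_stab2 hZ hh hab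
  have hh2 := two_le_h hZ hh
  obtain ⟨-, hfix⟩ := Cfsg.Agent.Lib.Helper15Zass.normal_fix hZ M hM
  obtain ⟨y, hyM, hy1, hya, hyb⟩ := hfix a b hab
  let φ : H → H := fun u => ⟨(u : G) * (y * (u : G)⁻¹ * y⁻¹),
    H.mul_mem u.2 (K.conj_mem D hab he hh2 hya (H.inv_mem u.2))⟩
  have hinj : Function.Injective φ := by
    intro u v huv
    have h1 : (u : G) * (y * (u : G)⁻¹ * y⁻¹) = (v : G) * (y * (v : G)⁻¹ * y⁻¹) :=
      congrArg Subtype.val huv
    by_contra hne
    have hw1 : (v : G)⁻¹ * (u : G) ≠ 1 := by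
      intro h4
      apply hne
      apply Subtype.ext
      exact (inv_mul_eq_one.1 h4).symm
    have hyH : y ∈ H := by
      apply H_cent D K hab he hh2 _ (H.mul_mem (H.inv_mem v.2) u.2) hw1
      rw [Subgroup.mem_centralizer_singleton_iff]
      have h2 : (u : G) * y * (u : G)⁻¹ = (v : G) * y * (v : G)⁻¹ := by
        have := congrArg (· * y) h1
        simpa [mul_assoc] using this
      calc y * ((v : G)⁻¹ * (u : G)) = (v : G)⁻¹ * ((v : G) * y * (v : G)⁻¹) * (u : G) := by group
        _ = (v : G)⁻¹ * ((u : G) * y * (u : G)⁻¹) * (u : G) := by rw [h2]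
        _ = (v : G)⁻¹ * (u : G) * y := by group
    exact hab (K.fix y hyH hy1 b hyb).symm
  have hsurj := Finite.surjective_of_injective hinj
  intro u hu
  obtain ⟨w, hw⟩ := hsurj ⟨u, hu⟩
  have h1 : (w : G) * (y * (w : G)⁻¹ * y⁻¹) = u := congrArg Subtype.val hw
  rw [← h1]
  have h2 : (w : G) * (y * (w : G)⁻¹ * y⁻¹) = ((w : G) * y * (w : G)⁻¹) * y⁻¹ := by group
  rw [h2]
  exact M.mul_mem (‹M.Normal›.conj_mem y hyM w) (M.inv_mem hyM)

theorem KData_sub (M : Subgroup G) [M.Normal] (hM : M ≠ ⊥) : KData M O a h (H.subgroupOf M) := by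
  have hle := H_le_normal hZ hh hab K M hM
  refine ⟨?_, ?_, ?_⟩
  · intro u hu
    exact K.le (Subgroup.mem_subgroupOf.1 hu)
  · rw [Nat.card_congr (Subgroup.subgroupOfEquivOfLe hle).toEquiv, K.card]
  · intro u hu hu1 c hc
    exact K.fix u (Subgroup.mem_subgroupOf.1 hu) (fun h => hu1 (Subtype.ext h)) c hc

omit hZ hh hab K in
theorem card_stab2_dvd (M : Subgroup G) (a b : O) :
    Nat.card (stab2 M a b) ∣ Nat.card (stab2 G a b) := by
  let φ : stab2 M a b →* stab2 G a b :=
    { toFun := fun m => ⟨((m : M) : G), by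
        have := mem_stab2.1 m.2
        exact mem_stab2.2 this⟩
      map_one' := rfl
      map_mul' := fun _ _ => rfl }
  apply Subgroup.card_dvd_of_injective φ
  intro m m' hmm
  apply Subtype.ext
  apply Subtype.ext
  exact congrArg (fun z : stab2 G a b => (z : G)) hmm

end red

/-- **Feit's inequality** for Zassenhaus groups with abelian kernel and two point stabilisers of odd
order. -/
theorem feit_ab {O : Type v} [Finite O] {h : ℕ} (hh : Nat.card O = h + 1) {a b : O} (hab : a ≠ b) :
    ∀ (n : ℕ) (G : Type u) [Group G] [Finite G] [MulAction G O]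
      (hZ : Cfsg.IsZassenhausGroup G O) (hodd : Odd (Nat.card (stab2 G a b)))
      (H : Subgroup G) (K : KData G O a h H) (hHab : ∀ x ∈ H, ∀ y ∈ H, x * y = y * x),
      Nat.card G = n → h - 1 ≤ 2 * Nat.card (stab2 G a b) := by
  intro n
  induction n using Nat.strong_induction_on with
  | _ n ih =>
    intro G _ _ _ hZ hodd H K hHab hn
    by_cases hs : IsSimpleGroup G
    · letI : Fintype G := Fintype.ofFinite G
      letI : Fintype O := Fintype.ofFinite O
      exact feit_simple hZ hh hab hodd K hHab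
    · obtain ⟨M, hMn, hM1, hM2⟩ : ∃ M : Subgroup G, M.Normal ∧ M ≠ ⊥ ∧ M ≠ ⊤ := by
        by_contra hcon
        push Not at hcon
        apply hs
        obtain ⟨g, hg, -⟩ := hZ.2.2.2.1
        haveI : Nontrivial G := ⟨⟨g, 1, hg⟩⟩
        refine ⟨fun M hM => ?_⟩
        by_cases h1 : M = ⊥
        · exact Or.inl h1
        · exact Or.inr (hcon M hM h1)
      haveI := hMn
      have hZM := Cfsg.Agent.S0339.result hZ M hM1
      have hdvd := card_stab2_dvd M a b
      have hlt : Nat.card M < n := by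
        rw [← hn]
        refine lt_of_le_of_ne (Subgroup.card_le_card_group M) ?_
        intro heq
        exact hM2 (Subgroup.eq_top_of_card_eq M heq)
      have h1 := ih (Nat.card M) hlt M hZM (Odd.of_dvd_nat hodd hdvd) (H.subgroupOf M)
        (KData_sub hZ hh hab K M hM1)
        (fun x hx y hy => Subtype.ext (hHab x (Subgroup.mem_subgroupOf.1 hx) y
          (Subgroup.mem_subgroupOf.1 hy))) rfl
      have h2 := Nat.le_of_dvd Nat.card_pos hdvd
      omega

/-- in the extremal case the group is simple -/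
theorem simple_of_eq {G : Type u} [Group G] [Finite G] {O : Type v} [Finite O] [MulAction G O]
    {h : ℕ} (hZ : Cfsg.IsZassenhausGroup G O) (hh : Nat.card O = h + 1) {a b : O} (hab : a ≠ b)
    (hodd : Odd (Nat.card (stab2 G a b))) {H : Subgroup G} (K : KData G O a h H)
    (hHab : ∀ x ∈ H, ∀ y ∈ H, x * y = y * x) (heq : 2 * Nat.card (stab2 G a b) = h - 1) :
    IsSimpleGroup G := by
  obtain ⟨g, hg, -⟩ := hZ.2.2.2.1
  haveI : Nontrivial G := ⟨⟨g, 1, hg⟩⟩
  refine ⟨fun M hMn => ?_⟩
  by_cases hM1 : M = ⊥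
  · exact Or.inl hM1
  right
  haveI := hMn
  have hZM := Cfsg.Agent.S0339.result hZ M hM1
  have hdvd := card_stab2_dvd M a b
  have h1 := feit_ab hh hab (Nat.card M) M hZM (Odd.of_dvd_nat hodd hdvd) (H.subgroupOf M)
    (KData_sub hZ hh hab K M hM1)
    (fun x hx y hy => Subtype.ext (hHab x (Subgroup.mem_subgroupOf.1 hx) y
      (Subgroup.mem_subgroupOf.1 hy))) rfl
  have h2 := Nat.le_of_dvd Nat.card_pos hdvd
  have h3 : Nat.card (stab2 M a b) = Nat.card (stab2 G a b) := by omega
  apply Subgroup.eq_top_of_card_eq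
  rw [card_G (tdata_of_zass hZM hh) hab, card_G (tdata_of_zass hZ hh) hab, h3]

end Cfsg.Agent.Helper16Feit
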