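import Cfsg.Agent.Lib.H74BSWZassB
import Cfsg.Agent.S0731

/-! PROJECT 74 (BSW), part 2, piece `ZassC`: identification with `PSL₂`. -/

set_option autoImplicit false

namespace Cfsg.Agent.Lib.H74BSWZassC

open Cfsg.Agent.Lib.Helper74BSWDefs

/-- the order of a sharply 3-transitive group -/
theorem card_sharp3 {G Ω : Type*} [Group G] [Finite G] [MulAction G Ω] [Finite Ω]
    (h3 : 3 ≤ Nat.card Ω)
    (h : MulAction.IsMultiplyPretransitive G Ω 3) (hs : ∀ t : Fin 3 ↪ Ω, MulAction.stabilizer G t = ⊥) :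
    Nat.card G = (Nat.card Ω).descFactorial 3 := by
  classical
  let _ : Fintype Ω := Fintype.ofFinite Ω
  have hne : Nonempty (Fin 3 ↪ Ω) := by
    apply Function.Embedding.nonempty_of_card_le
    rw [Fintype.card_fin, ← Nat.card_eq_fintype_card]
    exact h3
  obtain ⟨t⟩ := hne
  have hbij : Function.Bijective (fun g : G => g • t) := by
    constructor
    · intro a b hab
      have h1 : (b⁻¹ * a) • t = t := by
        rw [mul_smul]
        show b⁻¹ • (a • t) = t
        rw [show a • t = b • t from hab, inv_smul_smul]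
      have h2 : b⁻¹ * a ∈ MulAction.stabilizer G t := h1
      rw [hs t, Subgroup.mem_bot, inv_mul_eq_one] at h2
      exact h2.symm
    · intro s
      exact h.exists_smul_eq t s
  rw [Nat.card_congr (Equiv.ofBijective _ hbij), Nat.card_eq_fintype_card,
    Fintype.card_embedding_eq, Fintype.card_fin, Nat.card_eq_fintype_card]

theorem psl_of_concl {G : Type*} [Group G] [Finite G] [IsSimpleGroup G] (hna : ∃ a b : G, a * b ≠ b * a)
    (h : Concl G) :
    ∃ (F : Type) (_ : Field F) (_ : Fintype F), Odd (Fintype.card F) ∧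
      Nonempty (G ≃* Matrix.ProjectiveSpecialLinearGroup (Fin 2) F) := by
  obtain ⟨Q, D, hG, hC, -, hD, hQD, hN, -⟩ := h
  have hZ := H74BSWZassB.zass Q D hna hG hC hD hQD hN
  have hstab : MulAction.stabilizer G (((1 : G) : G ⧸ Nm Q)) = Nm Q := MulAction.stabilizer_quotient _
  have hFle : Q ≤ MulAction.stabilizer G (((1 : G) : G ⧸ Nm Q)) := by
    rw [hstab]
    exact Subgroup.le_normalizer
  have hFn : (Q.subgroupOf (MulAction.stabilizer G (((1 : G) : G ⧸ Nm Q)))).Normal := by
    rw [hstab]
    exact Subgroup.normal_in_normalizer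
  have hFab : IsMulCommutative Q := by
    refine ⟨⟨fun a b => ?_⟩⟩
    by_cases ha : (a : G) = 1
    · have : a = 1 := Subtype.ext ha
      rw [this, one_mul, mul_one]
    · have h1 : (b : G) ∈ Subgroup.centralizer ({(a : G)} : Set G) := by
        rw [hC _ a.2 ha]
        exact b.2
      rw [Subgroup.mem_centralizer_iff] at h1
      exact Subtype.ext (h1 _ rfl)
  have hreg := H74BSWZassA.reg Q D hG hC hD hQD hN
  rcases Cfsg.Agent.S0731.result hZ _ Q hFle hFn hFab hreg with ⟨h3, hs⟩ | ⟨K, i1, i2, hK, hiso⟩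
  · exfalso
    have hO := H74BSWZassA.card_Omega Q D hG hD hQD hN
    have hd : 0 < Nat.card D := Nat.card_pos
    have h1 := card_sharp3 (by omega) h3 hs
    rw [hO] at h1
    have h2 : (Nat.card Q + 1).descFactorial 3 = Nat.card Q * (Nat.card Q + 1) * (Nat.card Q - 1) := by
      obtain ⟨m, hm⟩ : ∃ m, Nat.card Q = m + 1 := ⟨2 * Nat.card D, hD.symm⟩
      rw [hm]
      simp only [Nat.descFactorial, Nat.add_sub_cancel]
      have e1 : m + 1 + 1 - 2 = m := by omega
      have e3 : m + 1 + 1 - 0 = m + 1 + 1 := by omega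
      rw [e1, e3]
      ring
    have hg : 0 < Nat.card G := Nat.card_pos
    omega
  · refine ⟨K, i1, i2, ?_, hiso⟩
    rw [Nat.odd_iff]
    exact FiniteField.odd_card_of_char_ne_two hK

end Cfsg.Agent.Lib.H74BSWZassC
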