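import Mathlib

/-! PROJECT 74 (BSW), piece `Ar2` (1.5 h, PURE arithmetic): the case `k = 2`.
For an odd integer `A ≠ -1`: `2 |A| ≤ 3 |1 + A|`.  So `N |(1+A)(1+B)(1+C)| = 32 |A B C| ≤ 108 |(1+A)(1+B)(1+C)|` and `(1+A)(1+B)(1+C) ≠ 0` (else `A B C = 0`, but they are odd): `N ≤ 108`, `A² + B² + C² ≤ 107`, `|A|, |B|, |C| ≤ 10`.  Finite check
(`interval_cases` / `decide`): the only solutions are the permutations of `(-3,1,1)` with `N = 12` and of `(5,-3,-3)` with `N = 60`. -/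

set_option autoImplicit false

namespace Cfsg.Agent.Lib.H74BSWAr2

private theorem key (A : ℤ) (hA : Odd A) (h1 : 1 + A ≠ 0) : 2 * |A| ≤ 3 * |1 + A| := by
  obtain ⟨a, rfl⟩ := hA
  rcases abs_cases (2 * a + 1) with h | h <;> rcases abs_cases (1 + (2 * a + 1)) with h' | h' <;>
    omega

private theorem bound (A B C N : ℤ) (hA : Odd A) (hB : Odd B) (hC : Odd C) (hN : 0 < N)
    (h2 : N * ((1 + A) * (1 + B) * (1 + C)) = 32 * (A * B * C)) : N ≤ 108 := by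
  have hA0 : A ≠ 0 := by rintro rfl; simp at hA
  have hB0 : B ≠ 0 := by rintro rfl; simp at hB
  have hC0 : C ≠ 0 := by rintro rfl; simp at hC
  have hABC : A * B * C ≠ 0 := mul_ne_zero (mul_ne_zero hA0 hB0) hC0
  have hP : (1 + A) * (1 + B) * (1 + C) ≠ 0 := by
    intro h
    rw [h, mul_zero] at h2
    have : A * B * C = 0 := by linarith
    exact hABC this
  have hx : 1 + A ≠ 0 := fun h => hP (by rw [h]; ring)
  have hy : 1 + B ≠ 0 := fun h => hP (by rw [h]; ring)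
  have hw : 1 + C ≠ 0 := fun h => hP (by rw [h]; ring)
  have k1 := key A hA hx
  have k2 := key B hB hy
  have k3 := key C hC hw
  have e1 : (2 * |A|) * (2 * |B|) ≤ (3 * |1 + A|) * (3 * |1 + B|) :=
    mul_le_mul k1 k2 (by positivity) (by positivity)
  have e2 : (2 * |A|) * (2 * |B|) * (2 * |C|) ≤ (3 * |1 + A|) * (3 * |1 + B|) * (3 * |1 + C|) :=
    mul_le_mul e1 k3 (by positivity) (by positivity)
  have e3 : N * (|1 + A| * |1 + B| * |1 + C|) = 32 * (|A| * |B| * |C|) := by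
    have := congrArg abs h2
    rw [abs_mul, abs_mul, abs_mul, abs_mul, abs_mul, abs_mul, abs_of_pos hN] at this
    simpa using this
  have hPpos : 0 < |1 + A| * |1 + B| * |1 + C| := by positivity
  by_contra hcon
  push Not at hcon
  have : 109 * (|1 + A| * |1 + B| * |1 + C|) ≤ N * (|1 + A| * |1 + B| * |1 + C|) :=
    mul_le_mul_of_nonneg_right (by omega) hPpos.le
  nlinarith

theorem ar2 (A B C N : ℤ) (hA : Odd A) (hB : Odd B) (hC : Odd C) (hN : 0 < N) (h1 : 1 + A + B + C = 0)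
    (h2 : N * ((1 + A) * (1 + B) * (1 + C)) = 32 * (A * B * C)) (h3 : 1 + A ^ 2 + B ^ 2 + C ^ 2 ≤ N) :
    (N = 12 ∧ ((A = -3 ∧ B = 1 ∧ C = 1) ∨ (A = 1 ∧ B = -3 ∧ C = 1) ∨ (A = 1 ∧ B = 1 ∧ C = -3))) ∨
    (N = 60 ∧ ((A = 5 ∧ B = -3 ∧ C = -3) ∨ (A = -3 ∧ B = 5 ∧ C = -3) ∨ (A = -3 ∧ B = -3 ∧ C = 5))) := by
  have hN108 := bound A B C N hA hB hC hN h2
  have hC' : C = -1 - A - B := by linarith
  subst hC'
  obtain ⟨a, rfl⟩ := hA
  obtain ⟨b, rfl⟩ := hB
  have ha1 : -6 < a := by nlinarith [sq_nonneg (2 * b + 1), sq_nonneg (-1 - (2 * a + 1) - (2 * b + 1))]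
  have ha2 : a < 5 := by nlinarith [sq_nonneg (2 * b + 1), sq_nonneg (-1 - (2 * a + 1) - (2 * b + 1))]
  have hb1 : -6 < b := by nlinarith [sq_nonneg (2 * a + 1), sq_nonneg (-1 - (2 * a + 1) - (2 * b + 1))]
  have hb2 : b < 5 := by nlinarith [sq_nonneg (2 * a + 1), sq_nonneg (-1 - (2 * a + 1) - (2 * b + 1))]
  clear hC h1
  interval_cases a <;> interval_cases b <;> (try norm_num at h2) <;> (try norm_num at h3) <;>
    (try norm_num) <;> omega

end Cfsg.Agent.Lib.H74BSWAr2
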