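import Cfsg.Agent.Lib.H74BSWCombB2
import Cfsg.Agent.Lib.H74BSWAr2

/-! PROJECT 74 (BSW), piece `Comb2`: the degrees for `k = 2`. -/

set_option autoImplicit false

namespace Cfsg.Agent.Lib.H74BSWComb2

open Cfsg.Agent.Lib.Helper74BSWDefs

variable {X P : Type*} [Fintype X] [Fintype P] [DecidableEq X] [DecidableEq P]
  {x0 : X} {inv : P → P} {τ : P → ℤ} {c : X → P → ℤ} {d : X → ℤ} {N : ℕ}
  {ε : P} {x1 x2 x3 : X} {e1 e2 e3 : ℤ} {z : P → X} {b : P → ℤ}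

private theorem swap12 (hP : ∀ φ : P, φ = ε) (hS : ShapeA x0 inv c ε x1 x2 x3 e1 e2 e3 z b) :
    ShapeA x0 inv c ε x2 x1 x3 e2 e1 e3 z b where
  he1 := hS.he2
  he2 := hS.he1
  he3 := hS.he3
  hb := hS.hb
  n01 := hS.n02
  n02 := hS.n01
  n03 := hS.n03
  n12 := hS.n12.symm
  n13 := hS.n23
  n23 := hS.n13
  z_ne := fun φ hφ => absurd (hP φ) hφ
  z_eq := hS.z_eq
  c_eps := fun x => by rw [hS.c_eps x]; ring
  c_ne := fun φ hφ => absurd (hP φ) hφ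

private theorem swap13 (hP : ∀ φ : P, φ = ε) (hS : ShapeA x0 inv c ε x1 x2 x3 e1 e2 e3 z b) :
    ShapeA x0 inv c ε x3 x2 x1 e3 e2 e1 z b where
  he1 := hS.he3
  he2 := hS.he2
  he3 := hS.he1
  hb := hS.hb
  n01 := hS.n03
  n02 := hS.n02
  n03 := hS.n01
  n12 := hS.n23.symm
  n13 := hS.n13.symm
  n23 := hS.n12.symm
  z_ne := fun φ hφ => absurd (hP φ) hφ
  z_eq := hS.z_eq
  c_eps := fun x => by rw [hS.c_eps x]; ring
  c_ne := fun φ hφ => absurd (hP φ) hφ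

private theorem sgn {e d A : ℤ} (he : e = 1 ∨ e = -1) (hd : 0 < d) (h : e * d = A) :
    (0 < A → e = 1 ∧ d = A) ∧ (A < 0 → e = -1 ∧ d = -A) := by
  rcases he with rfl | rfl
  · constructor
    · intro _; exact ⟨rfl, by linarith⟩
    · intro hA; exfalso; linarith
  · constructor
    · intro hA; exfalso; linarith
    · intro _; exact ⟨rfl, by linarith⟩

/-- the statement for a shape already in good position -/
private theorem fin (hP : ∀ φ : P, φ = ε) (hS : ShapeA x0 inv c ε x1 x2 x3 e1 e2 e3 z b)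
    (hd1 : 0 < d x1) (hd2 : 0 < d x2) (hd3 : 0 < d x3)
    (hc : ((N : ℤ) = 12 ∧ e1 * d x1 = -3 ∧ e2 * d x2 = 1 ∧ e3 * d x3 = 1) ∨
      ((N : ℤ) = 60 ∧ e1 * d x1 = 5 ∧ e2 * d x2 = -3 ∧ e3 * d x3 = -3)) :
    ∃ (y1 y2 y3 : X) (a1 a2 a3 : ℤ), ShapeA x0 inv c ε y1 y2 y3 a1 a2 a3 z b ∧
    ∃ σ : ℤ, (σ = 1 ∨ σ = -1) ∧ (N : ℤ) = 2 * (2 : ℕ) * (2 * (2 : ℕ) + σ) * ((2 : ℕ) + σ) ∧ a1 = σ ∧
      d y1 = 2 * (2 : ℕ) + σ ∧ a2 = - σ ∧ d y2 = (2 : ℕ) + σ ∧ a3 = - σ ∧ d y3 = (2 : ℕ) + σ ∧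
      ∀ φ, φ ≠ ε → b φ = - σ ∧ d (z φ) = 2 * ((2 : ℕ) + σ) := by
  refine ⟨x1, x2, x3, e1, e2, e3, hS, ?_⟩
  rcases hc with ⟨hN, h1, h2, h3⟩ | ⟨hN, h1, h2, h3⟩
  · obtain ⟨a1, b1⟩ := (sgn hS.he1 hd1 h1).2 (by norm_num)
    obtain ⟨a2, b2⟩ := (sgn hS.he2 hd2 h2).1 (by norm_num)
    obtain ⟨a3, b3⟩ := (sgn hS.he3 hd3 h3).1 (by norm_num)
    refine ⟨-1, Or.inr rfl, ?_, a1, ?_, ?_, ?_, ?_, ?_, fun φ hφ => absurd (hP φ) hφ⟩
    · rw [hN]; norm_num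
    · rw [b1]; norm_num
    · rw [a2]; norm_num
    · rw [b2]; norm_num
    · rw [a3]; norm_num
    · rw [b3]; norm_num
  · obtain ⟨a1, b1⟩ := (sgn hS.he1 hd1 h1).1 (by norm_num)
    obtain ⟨a2, b2⟩ := (sgn hS.he2 hd2 h2).2 (by norm_num)
    obtain ⟨a3, b3⟩ := (sgn hS.he3 hd3 h3).2 (by norm_num)
    refine ⟨1, Or.inl rfl, ?_, a1, ?_, ?_, ?_, ?_, ?_, fun φ hφ => absurd (hP φ) hφ⟩
    · rw [hN]; norm_num
    · rw [b1]; norm_num
    · rw [a2]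
    · rw [b2]; norm_num
    · rw [a3]
    · rw [b3]; norm_num

theorem degrees2 (h : CD x0 inv τ c d 2 N) (hε : inv ε = ε)
    (hS : ShapeA x0 inv c ε x1 x2 x3 e1 e2 e3 z b) :
    ∃ (y1 y2 y3 : X) (a1 a2 a3 : ℤ), ShapeA x0 inv c ε y1 y2 y3 a1 a2 a3 z b ∧
    ∃ σ : ℤ, (σ = 1 ∨ σ = -1) ∧ (N : ℤ) = 2 * (2 : ℕ) * (2 * (2 : ℕ) + σ) * ((2 : ℕ) + σ) ∧ a1 = σ ∧
      d y1 = 2 * (2 : ℕ) + σ ∧ a2 = - σ ∧ d y2 = (2 : ℕ) + σ ∧ a3 = - σ ∧ d y3 = (2 : ℕ) + σ ∧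
      ∀ φ, φ ≠ ε → b φ = - σ ∧ d (z φ) = 2 * ((2 : ℕ) + σ) := by
  have hP : ∀ φ : P, φ = ε := by
    have h1 : Fintype.card P = 1 := h.cardP
    obtain ⟨a, ha⟩ := Fintype.card_eq_one_iff.1 h1
    intro φ
    rw [ha φ, ha ε]
  have hsumP : ∀ g : P → ℤ, ∑ φ, g φ = g ε := by
    intro g
    have : (Finset.univ : Finset P) = {ε} := by
      ext φ
      simp [hP φ]
    rw [this, Finset.sum_singleton]
  have hτ : τ ε = -1 := by rw [← hsumP τ]; exact h.τ_sum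
  have hvv : ∀ x, vv τ c x = c x ε := by
    intro x
    unfold vv
    rw [hsumP, hτ]
    ring
  -- linear sums
  have hlinZ : ∀ g : X → ℤ, ∑ x, c x ε * g x = g x0 + e1 * g x1 + e2 * g x2 + e3 * g x3 := by
    intro g
    simp only [hS.c_eps, add_mul, Finset.sum_add_distrib, ite_mul, one_mul, zero_mul,
      Finset.sum_ite_eq', Finset.mem_univ, if_true]
  have hlinQ : ∀ g : X → ℚ, ∑ x, (c x ε : ℚ) * g x
      = g x0 + e1 * g x1 + e2 * g x2 + e3 * g x3 := by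
    intro g
    simp only [hS.c_eps, Int.cast_add, Int.cast_ite, Int.cast_one, Int.cast_zero, add_mul,
      Finset.sum_add_distrib, ite_mul, one_mul, zero_mul,
      Finset.sum_ite_eq', Finset.mem_univ, if_true]
  have hc0 : c x0 ε = 1 := h.c0 ε
  have hc1 : c x1 ε = e1 := by
    rw [hS.c_eps]
    simp [hS.n01.symm, hS.n12, hS.n13]
  have hc2 : c x2 ε = e2 := by
    rw [hS.c_eps]
    simp [hS.n02.symm, hS.n12.symm, hS.n23]
  have hc3 : c x3 ε = e3 := by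
    rw [hS.c_eps]
    simp [hS.n03.symm, hS.n13.symm, hS.n23.symm]
  have hd1 := h.dpos x1
  have hd2 := h.dpos x2
  have hd3 := h.dpos x3
  set A := e1 * d x1 with hA
  set B := e2 * d x2 with hB
  set C := e3 * d x3 with hC
  have hsum : 1 + A + B + C = 0 := by
    have := h.dsum ε
    rw [hlinZ, h.d0] at this
    exact this
  have hodd : ∀ x e, c x ε = e → (e = 1 ∨ e = -1) → Odd (e * d x) := by
    intro x e hce he
    obtain ⟨m, hm⟩ := h.dmod x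
    rw [hsumP, hce] at hm
    rw [hm]
    rcases he with rfl | rfl
    · exact ⟨m - 1, by push_cast; ring⟩
    · exact ⟨-m - 1, by push_cast; ring⟩
  have hNpos : (0 : ℤ) < N := by
    obtain ⟨I, hI, hN⟩ := h.hN
    have : 0 < I := hI.pos
    rw [hN]
    positivity
  have hsq : 1 + A ^ 2 + B ^ 2 + C ^ 2 ≤ (N : ℤ) := by
    rw [← h.sq]
    have hsub : ({x0, x1, x2, x3} : Finset X) ⊆ Finset.univ := Finset.subset_univ _
    have h1 := Finset.sum_le_sum_of_subset_of_nonneg (f := fun x => d x ^ 2) hsub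
      (fun x _ _ => sq_nonneg _)
    have h2 : ∑ x ∈ ({x0, x1, x2, x3} : Finset X), d x ^ 2
        = d x0 ^ 2 + (d x1 ^ 2 + (d x2 ^ 2 + d x3 ^ 2)) := by
      rw [Finset.sum_insert, Finset.sum_insert, Finset.sum_insert, Finset.sum_singleton]
      · simp [hS.n23]
      · simp [hS.n12, hS.n13]
      · simp [hS.n01, hS.n02, hS.n03]
    rw [h2, h.d0] at h1
    have s1 : A ^ 2 = d x1 ^ 2 := by
      rw [hA, mul_pow]
      rcases hS.he1 with e | e <;> rw [e] <;> ring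
    have s2 : B ^ 2 = d x2 ^ 2 := by
      rw [hB, mul_pow]
      rcases hS.he2 with e | e <;> rw [e] <;> ring
    have s3 : C ^ 2 = d x3 ^ 2 := by
      rw [hC, mul_pow]
      rcases hS.he3 with e | e <;> rw [e] <;> ring
    rw [s1, s2, s3]
    linarith
  have hord : (N : ℤ) * ((1 + A) * (1 + B) * (1 + C)) = 32 * (A * B * C) := by
    have h0 := h.ord ε
    have h1 : ∑ x, (c x ε : ℚ) * (vv τ c x : ℚ) ^ 2 / (d x : ℚ)
        = ∑ x, (c x ε : ℚ) * ((vv τ c x : ℚ) ^ 2 / (d x : ℚ)) :=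
      Finset.sum_congr rfl fun x _ => by rw [mul_div_assoc]
    rw [h1, hlinQ] at h0
    simp only [hvv, hc0, hc1, hc2, hc3, h.d0] at h0
    have q1 : (d x1 : ℚ) ≠ 0 := by exact_mod_cast hd1.ne'
    have q2 : (d x2 : ℚ) ≠ 0 := by exact_mod_cast hd2.ne'
    have q3 : (d x3 : ℚ) ≠ 0 := by exact_mod_cast hd3.ne'
    have t1 : (e1 : ℚ) ^ 2 = 1 := by
      rcases hS.he1 with e | e <;> rw [e] <;> norm_num
    have t2 : (e2 : ℚ) ^ 2 = 1 := by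
      rcases hS.he2 with e | e <;> rw [e] <;> norm_num
    have t3 : (e3 : ℚ) ^ 2 = 1 := by
      rcases hS.he3 with e | e <;> rw [e] <;> norm_num
    rw [t1, t2, t3] at h0
    have hsumQ : (1 : ℚ) + e1 * d x1 + e2 * d x2 + e3 * d x3 = 0 := by exact_mod_cast hsum
    have goalQ : (N : ℚ) * ((1 + e1 * d x1) * (1 + e2 * d x2) * (1 + e3 * d x3))
        = 32 * ((e1 * d x1) * (e2 * d x2) * (e3 * d x3)) := by
      have h2 : ((1 : ℚ) + e1 * (1 / d x1) + e2 * (1 / d x2) + e3 * (1 / d x3)) * N = 32 := by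
        have : (4 : ℚ) * ((2 : ℕ) : ℚ) ^ 3 = 32 := by norm_num
        rw [← this, ← h0]
        norm_num
      have h3 : ((d x1 : ℚ) * d x2 * d x3 + e1 * (d x2 * d x3) + e2 * (d x1 * d x3)
          + e3 * (d x1 * d x2)) * N = 32 * (d x1 * d x2 * d x3) := by
        have := congrArg (fun r : ℚ => r * (d x1 * d x2 * d x3)) h2
        beta_reduce at this
        rw [← this]
        field_simp
      -- multiply by e1 e2 e3
      have h4 := congrArg (fun r : ℚ => r * (e1 * e2 * e3)) h3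
      beta_reduce at h4
      have e1' : (e1 : ℚ) * e1 = 1 := by rw [← sq]; exact t1
      have e2' : (e2 : ℚ) * e2 = 1 := by rw [← sq]; exact t2
      have e3' : (e3 : ℚ) * e3 = 1 := by rw [← sq]; exact t3
      have l1 : (1 + (e1 : ℚ) * d x1) * (1 + e2 * d x2) * (1 + e3 * d x3)
          = ((d x1 : ℚ) * d x2 * d x3 + e1 * (d x2 * d x3) + e2 * (d x1 * d x3)
          + e3 * (d x1 * d x2)) * (e1 * e2 * e3) := by
        have : ((d x1 : ℚ) * d x2 * d x3 + e1 * (d x2 * d x3) + e2 * (d x1 * d x3)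
          + e3 * (d x1 * d x2)) * (e1 * e2 * e3)
          = (e1 * d x1) * (e2 * d x2) * (e3 * d x3) + (e1 * e1) * ((e2 * d x2) * (e3 * d x3))
            + (e2 * e2) * ((e1 * d x1) * (e3 * d x3)) + (e3 * e3) * ((e1 * d x1) * (e2 * d x2)) := by
          ring
        rw [this, e1', e2', e3']
        linear_combination (1 : ℚ) * hsumQ
      rw [l1]
      linear_combination h4
    exact_mod_cast goalQ
  have key := Cfsg.Agent.Lib.H74BSWAr2.ar2 A B C N (hodd x1 e1 hc1 hS.he1) (hodd x2 e2 hc2 hS.he2)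
    (hodd x3 e3 hc3 hS.he3) hNpos hsum hord hsq
  rcases key with ⟨hN, (⟨a, b', c'⟩ | ⟨a, b', c'⟩ | ⟨a, b', c'⟩)⟩ | ⟨hN, (⟨a, b', c'⟩ | ⟨a, b', c'⟩ | ⟨a, b', c'⟩)⟩
  · exact fin hP hS hd1 hd2 hd3 (Or.inl ⟨hN, a, b', c'⟩)
  · exact fin hP (swap12 hP hS) hd2 hd1 hd3 (Or.inl ⟨hN, b', a, c'⟩)
  · exact fin hP (swap13 hP hS) hd3 hd2 hd1 (Or.inl ⟨hN, c', b', a⟩)
  · exact fin hP hS hd1 hd2 hd3 (Or.inr ⟨hN, a, b', c'⟩)
  · exact fin hP (swap12 hP hS) hd2 hd1 hd3 (Or.inr ⟨hN, b', a, c'⟩)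
  · exact fin hP (swap13 hP hS) hd3 hd2 hd1 (Or.inr ⟨hN, c', b', a⟩)

end Cfsg.Agent.Lib.H74BSWComb2
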