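import Cfsg.Agent.Lib.H74BSWCombA
import Cfsg.Agent.Lib.H74BSWComb2

/-! PROJECT 74 (BSW), assembly `Comb`: `CD → CombOut`. -/

set_option autoImplicit false

namespace Cfsg.Agent.Lib.H74BSWComb

open Cfsg.Agent.Lib.Helper74BSWDefs

variable {X P : Type*} [Fintype X] [Fintype P] [DecidableEq X] [DecidableEq P]
  {x0 : X} {inv : P → P} {τ : P → ℤ} {c : X → P → ℤ} {d : X → ℤ} {k N : ℕ}

theorem comb (h : CD x0 inv τ c d k N) : CombOut x0 τ c d k N := by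
  obtain ⟨ε, x1, x2, x3, e1, e2, e3, z, b, hε, hS⟩ := H74BSWCombA.shapeA h
  by_cases hk : 4 ≤ k
  · obtain ⟨σ, hσ, hN, h1, hd1, h2, hd2, h3, hd3, hz⟩ := H74BSWCombB1.degrees h hk hε hS
    exact ⟨σ, hσ, hN, x1, fun f hf0 hf =>
      H74BSWCombB2.final_sum h hε hS σ hσ h1 hd1 h2 hd2 h3 hd3 hz f hf0 hf⟩
  · have hk2 : k = 2 := by
      have h2 := h.hk2
      obtain ⟨m, hm⟩ := h.hke
      omega
    subst hk2
    obtain ⟨y1, y2, y3, a1, a2, a3, hS', σ, hσ, hN, h1, hd1, h2, hd2, h3, hd3, hz⟩ :=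
      H74BSWComb2.degrees2 h hε hS
    exact ⟨σ, hσ, hN, y1, fun f hf0 hf =>
      H74BSWCombB2.final_sum h hε hS' σ hσ h1 hd1 h2 hd2 h3 hd3 hz f hf0 hf⟩

end Cfsg.Agent.Lib.H74BSWComb
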