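import Cfsg.Agent.Lib.H74BSWInst
import Cfsg.Agent.Lib.H74BSWComb
import Cfsg.Agent.Lib.Helper4Char3

/-! PROJECT 74 (BSW), piece `Char` (2 h): the outcome of the character theory.
`Inst.exists_CD`, `Comb.comb`: `σ`, `|G| = 2k(2k+σ)(k+σ)`, `x1`.  For `g` outside the conjugates of `K` take `f χ = conj (χ g)`: `f x0 = 1`, `∑_χ c χ φ f χ = 0` (`Gram.vanish`).  `PsiF.psi_formula` and `CombOut`:
`psi g * 4k² = 2k(2k+σ)(k+σ) [1 + f1/(2k+σ) + (k-1) σ (1 + σ f1)/(k+σ)]`, `f1 = conj (x1 g)`; this simplifies to `2 psi g = (2k+σ)(1+σ) + (2k-1+σ) f1`.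
`σ = 1`: `psi g = 2k + 1 + k f1`, so `f1` is rational; it is an algebraic integer (`Helper4Char2.IsCharacter.isIntegral`, conj), hence an integer (`Helper4Char3.exists_int_of_isIntegral_rat`): `k ∣ psi g - 1`.
`σ = -1`: `psi g = (k-1) f1`; if `k = 2` nothing to prove; otherwise `f1` is rational, hence an integer, `k - 1 ∣ psi g`. -/

set_option autoImplicit false

namespace Cfsg.Agent.Lib.H74BSWChar

open Cfsg Cfsg.Agent.Lib.Helper74BSWDefs Cfsg.Agent.Lib.Helper4Char Cfsg.Agent.Lib.Helper4Char2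
open scoped ComplexConjugate

variable {G : Type*} [Group G] [Finite G] {t s : G} {K : Subgroup G}

/-- the algebra behind `char_main` -/
theorem alg_key (k σ f1 p S N : ℂ) (hk : k ≠ 0) (h1 : 2 * k + σ ≠ 0) (h2 : k + σ ≠ 0)
    (hσ : σ * σ = 1) (hN : N = 2 * k * (2 * k + σ) * (k + σ))
    (hS : S = 1 + f1 / (2 * k + σ) + (k - 1) * σ * (1 + σ * f1) / (k + σ))
    (hp : p * (2 * k) ^ 2 = N * S) :
    2 * p = (2 * k + σ) * (1 + σ) + (2 * k - 1 + σ) * f1 := by
  have h3 : N * S = 2 * k * ((2 * k + σ) * (k + σ) + f1 * (k + σ)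
      + (k - 1) * σ * (1 + σ * f1) * (2 * k + σ)) := by
    rw [hN, hS]
    field_simp
  rw [h3] at hp
  have h4 : (2 * k * k) * (2 * p) = (2 * k * k) * ((2 * k + σ) * (1 + σ) + (2 * k - 1 + σ) * f1) := by
    have h5 : (k - 1) * σ * (1 + σ * f1) * (2 * k + σ)
        = (k - 1) * σ * (2 * k + σ) + (k - 1) * (σ * σ) * f1 * (2 * k + σ) := by ring
    rw [h5, hσ] at hp
    linear_combination hp
  exact mul_left_cancel₀ (by simp [hk]) h4

theorem char_main (h : BSW t s K) : PlusCase K ∨ MinusCase K := by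
  classical
  letI : Fintype G := Fintype.ofFinite G
  letI : Fintype K := Fintype.ofFinite K
  obtain ⟨x0, inv, τ, c, d, hx0, hc, hd, hv, hCD⟩ := H74BSWInst.exists_CD h
  obtain ⟨σ, hσ, hN, x1, hf⟩ := H74BSWComb.comb hCD
  have hk2 : 2 ≤ Nat.card K := H74BSWBasic.two_le_K h
  have hk2' : (2 : ℤ) ≤ (Nat.card K : ℤ) := by exact_mod_cast hk2
  have hkC : (Nat.card K : ℂ) ≠ 0 := by
    have : Nat.card K ≠ 0 := by omega
    exact_mod_cast this
  have h1C : 2 * (Nat.card K : ℂ) + (σ : ℂ) ≠ 0 := by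
    have : 2 * (Nat.card K : ℤ) + σ ≠ 0 := by rcases hσ with rfl | rfl <;> omega
    exact_mod_cast this
  have h2C : (Nat.card K : ℂ) + (σ : ℂ) ≠ 0 := by
    have : (Nat.card K : ℤ) + σ ≠ 0 := by rcases hσ with rfl | rfl <;> omega
    exact_mod_cast this
  have hσC : (σ : ℂ) * (σ : ℂ) = 1 := by
    rcases hσ with rfl | rfl <;> simp
  have hNC : (Nat.card G : ℂ) = 2 * (Nat.card K : ℂ) * (2 * (Nat.card K : ℂ) + (σ : ℂ))
      * ((Nat.card K : ℂ) + (σ : ℂ)) := by exact_mod_cast hN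
  have key : ∀ g : G, ¬ inKK K g → 2 * (psi g : ℂ)
      = (2 * (Nat.card K : ℂ) + σ) * (1 + σ) + (2 * (Nat.card K : ℂ) - 1 + σ) * conj ((x1 : G → ℂ) g) := by
    intro g hg
    have h3 := hf (fun χ => conj ((χ : G → ℂ) g)) (by simp [hx0]) (by
      intro φ
      rw [← H74BSWGram.vanish h (φ : K →* ℂˣ) (Or.inr hg)]
      exact Finset.sum_congr rfl (fun χ _ => by rw [hc]))
    have h4 := H74BSWPsiF.psi_formula h g
    refine alg_key _ _ _ _ _ _ hkC h1C h2C hσC hNC h3 ?_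
    rw [h4]
    congr 1
    exact Finset.sum_congr rfl (fun χ _ => by rw [hv, hd])
  have hint : ∀ g : G, IsIntegral ℤ (conj ((x1 : G → ℂ) g)) := by
    intro g
    rw [← IsCharacter.apply_inv (IsIrrCharacter.isCharacter x1.2)]
    exact IsCharacter.isIntegral (IsIrrCharacter.isCharacter x1.2) _
  rcases hσ with rfl | rfl
  · left
    refine ⟨by
      have : (Nat.card G : ℤ) = ((2 * Nat.card K * (2 * Nat.card K + 1) * (Nat.card K + 1) : ℕ) : ℤ) := by
        rw [hN]; push_cast; ring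
      exact_mod_cast this, ?_⟩
    intro g hg
    have h3 := key g hg
    have h4 : conj ((x1 : G → ℂ) g)
        = ((((psi g : ℚ) - 2 * (Nat.card K : ℚ) - 1) / (Nat.card K : ℚ) : ℚ) : ℂ) := by
      push_cast
      rw [eq_div_iff hkC]
      push_cast at h3
      linear_combination (-1 / 2 : ℂ) * h3
    have h5 := hint g
    rw [h4] at h5
    obtain ⟨y, hy⟩ := Cfsg.Agent.Lib.Helper4Char3.exists_int_of_isIntegral_rat _ h5
    have hkQ : (Nat.card K : ℚ) ≠ 0 := by
      have : Nat.card K ≠ 0 := by omega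
      exact_mod_cast this
    rw [eq_div_iff hkQ] at hy
    refine ⟨y + 2, ?_⟩
    have h6 : ((psi g : ℤ) - 1 : ℚ) = (Nat.card K : ℚ) * (y + 2) := by
      push_cast
      linear_combination -hy
    exact_mod_cast h6
  · right
    refine ⟨by
      have : (Nat.card G : ℤ) = ((2 * Nat.card K * (2 * Nat.card K - 1) * (Nat.card K - 1) : ℕ) : ℤ) := by
        rw [hN]
        have e1 : ((2 * Nat.card K - 1 : ℕ) : ℤ) = 2 * (Nat.card K : ℤ) - 1 := by omega
        have e2 : ((Nat.card K - 1 : ℕ) : ℤ) = (Nat.card K : ℤ) - 1 := by omega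
        rw [Nat.cast_mul, Nat.cast_mul, e1, e2]
        push_cast; ring
      exact_mod_cast this, ?_⟩
    intro g hg
    have h3 := key g hg
    have hk1C : (Nat.card K : ℂ) - 1 ≠ 0 := by
      have : (Nat.card K : ℤ) - 1 ≠ 0 := by omega
      exact_mod_cast this
    have h4 : conj ((x1 : G → ℂ) g)
        = (((psi g : ℚ) / ((Nat.card K : ℚ) - 1) : ℚ) : ℂ) := by
      push_cast
      rw [eq_div_iff hk1C]
      push_cast at h3
      linear_combination (-1 / 2 : ℂ) * h3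
    have h5 := hint g
    rw [h4] at h5
    obtain ⟨y, hy⟩ := Cfsg.Agent.Lib.Helper4Char3.exists_int_of_isIntegral_rat _ h5
    have hkQ : (Nat.card K : ℚ) - 1 ≠ 0 := by
      have : (Nat.card K : ℤ) - 1 ≠ 0 := by omega
      exact_mod_cast this
    rw [eq_div_iff hkQ] at hy
    have h6 : (psi g : ℤ) = ((Nat.card K - 1 : ℕ) : ℤ) * y := by
      have e2 : ((Nat.card K - 1 : ℕ) : ℤ) = (Nat.card K : ℤ) - 1 := by omega
      rw [e2]
      have h7 : ((psi g : ℤ) : ℚ) = ((Nat.card K : ℤ) - 1 : ℚ) * y := by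
        push_cast
        linear_combination -hy
      exact_mod_cast h7
    have h8 : ((Nat.card K - 1 : ℕ) : ℤ) ∣ (psi g : ℤ) := ⟨y, h6⟩
    exact_mod_cast h8

end Cfsg.Agent.Lib.H74BSWChar
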