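import Cfsg.Agent.Lib.H74BSWMinusT

/-! PROJECT 74 (BSW), piece `MinusQ` (3 h, LONG): the minus case, conclusion (`q = 2k - 1`).
`y` of type `NN` (`nn_exists`), `Q = C y`, `|Q| = q`, `C x = Q` for `1 ≠ x ∈ Q` (`nn_cent_eq`); so `Q` is T.I.  The elements `≠ 1` conjugate into `Q` are exactly the elements of type `NN` (`nn_cent`, `NN_conj`; `nn_two`, `y⁻¹ ∈ Q`).  `UC.union_count` + `card_NN`: `(q² - 1) |N(Q)| = |G| (q - 1)`, `|N(Q)| = q (k-1)`  (`normQ_card`).
Schur-Zassenhaus (`Subgroup.exists_right_complement'_of_coprime` in the group `N(Q)`): `E ≤ N(Q)`, `Q ⊓ E = 1`, `Q ⊔ E = N(Q)`, `|E| = k - 1`.  If `k = 2`: `E = ⊥`, `D = ⊥`, the last clause is vacuous.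
Let `k ≥ 4`.  The elements of `E \ 1` have odd order dividing `k - 1`, prime to `k` and `q`: they are not conjugate into `K`, not of type `NN` (order `p ∣ q`): they are of type `RT`.  Let `r` be a prime divisor of `k - 1`.  `MinusO.bi_hyp` (with `p`) shows the hypothesis of `BI.BI` for `L = E` and ALL primes `r' ≠ p`, in particular for `r' ≠ r` (`p ∤ |E|`: the `p`-subgroups of `E` are trivial):
`BI.BI r E` gives `S ≤ E`, an `r`-group normalised by `E`, containing an element of order `r` (Cauchy).  Take `1 ≠ z ∈ Z(S)`, `A = C z` (`odd_norm`, `RT K z`): `S ≤ A`, and for `n ∈ E`: `n z n⁻¹ ∈ S ≤ A`, so `n ∈ A`.  So `E ≤ C z`, `|C z| = k - 1 = |E|` (`minus_card`): `E = C z =: D`.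
Properties of `D = C z`: abelian (`rt_comm`); `RT2.rt_norm` + `minus_card`: `N(D) = D ⊔ E'`, `|E'| = 2`, `u ∈ E'` an involution inverting `D`, so `E' = ⟨u⟩`, `u ∉ D` (odd order).  For `1 ≠ X ≤ D`: `N(X) ≤ N(D)` by `rt_ti`, and `N(D) = D ⟨u⟩` normalises `X`. -/

set_option autoImplicit false

namespace Cfsg.Agent.Lib.H74BSWMinusQ

open Cfsg.Agent.Lib.Helper74BSWDefs

variable {G : Type*} [Group G] [Finite G] {t s : G} {K : Subgroup G}

omit [Finite G] in
theorem mem_Nm_of {X : Subgroup G} {g : G} (h1 : ∀ a ∈ X, g * a * g⁻¹ ∈ X)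
    (h2 : ∀ a ∈ X, g⁻¹ * a * g ∈ X) : g ∈ Nm X := by
  rw [Subgroup.mem_normalizer_iff]
  intro a
  refine ⟨h1 a, fun ha => ?_⟩
  have := h2 _ ha
  have e : g⁻¹ * (g * a * g⁻¹) * g = a := by group
  rwa [e] at this

omit [Finite G] in
theorem mem_Nm_of_cj {X : Subgroup G} {g : G} (h1 : cj g X = X) : g ∈ Nm X := by
  rw [Subgroup.mem_normalizer_iff]
  intro a
  constructor
  · intro ha
    rw [← h1]
    exact ⟨a, ha, rfl⟩
  · intro ha
    rw [← h1] at ha
    obtain ⟨b, hb, hba⟩ := ha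
    have : b = a := by
      have h3 : g * b * g⁻¹ = g * a * g⁻¹ := hba
      exact mul_left_cancel (mul_right_cancel h3)
    rwa [← this]

theorem ti_Q (h : BSW t s K) (hM : MinusCase K) {y : G} (hy : NN K y) :
    ∀ g a : G, a ∈ C y → a ≠ 1 → g * a * g⁻¹ ∈ C y → g ∈ Subgroup.normalizer ((C y : Subgroup G) : Set G) := by
  intro g a ha ha1 hga
  have c1 := H74BSWMinusT.nn_cent_eq h hM hy ha ha1
  have c2 := H74BSWMinusT.nn_cent_eq h hM hy hga (H74BSWMinusN.conj_ne_one ha1)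
  rw [H74BSWConj.C_conj, c1] at c2
  exact mem_Nm_of_cj c2

theorem normQ_card (h : BSW t s K) (hM : MinusCase K) {y : G} (hy : NN K y) :
    Nat.card (Nm (C y)) = (2 * Nat.card K - 1) * (Nat.card K - 1) := by
  have h1 := H74BSWUC.union_count (C y) (ti_Q h hM hy)
  have hset : Nat.card {g : G // g ≠ 1 ∧ ∃ x : G, x * g * x⁻¹ ∈ C y} = Nat.card {g : G // NN K g} := by
    apply Nat.card_congr
    apply Equiv.subtypeEquivRight
    intro g
    constructor
    · rintro ⟨hg1, x, hx⟩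
      exact (H74BSWConj.NN_conj K x g).1 (H74BSWMinusN.nn_cent h hy hx (H74BSWMinusN.conj_ne_one hg1))
    · intro hg
      refine ⟨H74BSWRT1.rt_ne_one hg.1, ?_⟩
      rcases H74BSWMinusN.nn_two h hM hy hg with hc | hc
      · obtain ⟨c, hc⟩ := isConj_iff.1 hc
        exact ⟨c, by rw [hc]; exact H74BSWMinusD.self_mem_C y⟩
      · obtain ⟨c, hc⟩ := isConj_iff.1 hc
        exact ⟨c, by rw [hc]; exact inv_mem (H74BSWMinusD.self_mem_C y)⟩
  rw [hset, H74BSWMinusD.card_NN h hM, H74BSWMinusN.nn_card h hM hy, hM.1] at h1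
  have hk := H74BSWBasic.two_le_K h
  obtain ⟨m, hm⟩ : ∃ m, Nat.card K = m + 2 := ⟨Nat.card K - 2, by omega⟩
  rw [hm] at h1 ⊢
  have e1 : 2 * (m + 2) - 1 = 2 * m + 3 := by omega
  have e2 : m + 2 - 1 = m + 1 := by omega
  have e3 : (2 * m + 3) ^ 2 - 1 = 2 * (m + 2) * (m + 1) * 2 := by
    have : (2 * m + 3) ^ 2 = 2 * (m + 2) * (m + 1) * 2 + 1 := by ring
    omega
  have e4 : 2 * m + 3 - 1 = 2 * (m + 1) := by omega
  rw [e1, e2, e3, e4] at h1
  rw [e1, e2]
  have h2 : (2 * (m + 2) * (m + 1) * 2) * Nat.card (Nm (C y))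
      = (2 * (m + 2) * (m + 1) * 2) * ((2 * m + 3) * (m + 1)) := by
    rw [h1]; ring
  exact Nat.eq_of_mul_eq_mul_left (by positivity) h2

/-- a subgroup of order `k - 1` all of whose non-identity elements are of type `RT` is a centraliser -/
theorem compl_eq (h : BSW t s K) (hM : MinusCase K) (E : Subgroup G) (hE : Nat.card E = Nat.card K - 1)
    (hE1 : E ≠ ⊥) : ∃ z : G, RT K z ∧ E = C z := by
  obtain ⟨p, n, hp, hq, hp1, hp2⟩ := H74BSWMinusN.nn_prime h hM
  have hk := H74BSWBasic.two_le_K h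
  have hev := H74BSWBasic.even_K h
  have hE2 : Nat.card E ≠ 1 := fun h1 => hE1 (Subgroup.card_eq_one.1 h1)
  have hpq : p ∣ 2 * Nat.card K - 1 := by
    rw [hq]
    apply dvd_pow_self
    rintro rfl
    rw [pow_zero] at hq
    omega
  have hpk : ¬ p ∣ Nat.card K - 1 := by
    intro hpk
    have h2 : p ∣ 2 * (Nat.card K - 1) := Dvd.dvd.mul_left hpk 2
    have h3 : p ∣ 1 := by
      have : 2 * Nat.card K - 1 = 2 * (Nat.card K - 1) + 1 := by omega
      rw [this] at hpq
      exact (Nat.dvd_add_right h2).1 hpq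
    exact hp.one_lt.ne' (Nat.dvd_one.1 h3)
  have hord : ∀ n ∈ E, orderOf n ∣ Nat.card K - 1 := by
    intro n hn
    have := orderOf_dvd_natCard (⟨n, hn⟩ : E)
    rwa [← Subgroup.orderOf_coe, hE] at this
  have hoddk : Odd (Nat.card K - 1) := by
    obtain ⟨a, ha⟩ := hev
    exact ⟨a - 1, by omega⟩
  have hL : ∀ n ∈ E, Odd (orderOf n) := fun n hn => Odd.of_dvd_nat hoddk (hord n hn)
  have hRT : ∀ g ∈ E, g ≠ 1 → RT K g := by
    intro g hg hg1
    have ho1 : orderOf g ≠ 1 := fun h1 => hg1 (orderOf_eq_one_iff.1 h1)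
    have hin : ¬ inKK K g := by
      rintro ⟨x, hx⟩
      have hd : orderOf (x * g * x⁻¹) ∣ Nat.card K := by
        have := orderOf_dvd_natCard (⟨_, hx⟩ : K)
        rwa [← Subgroup.orderOf_coe] at this
      rw [H74BSWMinusN.orderOf_conj'] at hd
      have hd2 := hord g hg
      have h3 : orderOf g ∣ 1 := by
        have : Nat.card K = (Nat.card K - 1) + 1 := by omega
        rw [this] at hd
        exact (Nat.dvd_add_right hd2).1 hd
      exact ho1 (Nat.dvd_one.1 h3)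
    refine ⟨hin, fun hps => ?_⟩
    have := hp1 g ⟨hin, hps⟩
    exact hpk (this ▸ hord g hg)
  obtain ⟨r, hr, hrk⟩ := Nat.exists_prime_and_dvd (hE ▸ hE2 : Nat.card K - 1 ≠ 1)
  have hrp : r ≠ p := fun hrp => hpk (hrp ▸ hrk)
  have hyp := H74BSWMinusO.bi_hyp h hM p hp1 E hL
  have hyp' : ∀ r' : ℕ, r'.Prime → r' ≠ r → ∀ R : Subgroup G, R ≤ E → IsPGroup r' R →
      ∀ n ∈ E, (∀ y ∈ R, n * y * n⁻¹ ∈ R) → ∀ y ∈ R, n * y = y * n := by
    intro r' hr' _ R hRE hR n hn hnR y hy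
    by_cases hr'p : r' = p
    · subst hr'p
      have : Fact r'.Prime := ⟨hr'⟩
      obtain ⟨j, hj⟩ := (IsPGroup.iff_orderOf.1 hR) ⟨y, hy⟩
      rw [Subgroup.orderOf_mk] at hj
      have hy1 : y = 1 := by
        by_contra hy1
        have hj0 : j ≠ 0 := by
          rintro rfl
          rw [pow_zero] at hj
          exact hy1 (orderOf_eq_one_iff.1 hj)
        apply hpk
        exact (dvd_pow_self r' hj0).trans (hj ▸ hord y (hRE hy))
      rw [hy1, mul_one, one_mul]
    · exact hyp r' hr' hr'p R hRE hR n hn hnR y hy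
  obtain ⟨S, hSE, hS, hSn, hSmax⟩ := H74BSWBI.BI r hr E hyp'
  have : Fact r.Prime := ⟨hr⟩
  -- `S` is non trivial
  obtain ⟨w, hw⟩ := exists_prime_orderOf_dvd_card' (G := E) r (hE ▸ hrk)
  have hw' : orderOf (w : G) = r := by rw [Subgroup.orderOf_coe]; exact hw
  have hwS : (w : G) ∈ S := by
    have hz : IsPGroup r (Subgroup.zpowers (w : G)) := by
      apply IsPGroup.of_card (n := 1)
      rw [Nat.card_zpowers, hw', pow_one]
    exact hSmax _ hz (by rw [Subgroup.zpowers_le]; exact w.2) (Subgroup.mem_zpowers _)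
  have hw1 : (w : G) ≠ 1 := by
    intro h1
    rw [h1, orderOf_one] at hw'
    exact hr.one_lt.ne hw'
  have : Nontrivial S := ⟨⟨⟨w, hwS⟩, 1, fun h1 => hw1 (congrArg Subtype.val h1)⟩⟩
  have hcen := hS.center_nontrivial
  obtain ⟨z, hz1⟩ := exists_ne (1 : Subgroup.center S)
  have hzS : ((z : S) : G) ∈ S := (z : S).2
  have hz1' : ((z : S) : G) ≠ 1 := by
    intro h1
    apply hz1
    ext
    simpa using h1
  have hzR : RT K ((z : S) : G) := hRT _ (hSE hzS) hz1'
  have hSC : S ≤ C ((z : S) : G) := by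
    intro a ha
    rw [Subgroup.mem_centralizer_singleton_iff]
    have := Subgroup.mem_center_iff.1 z.2 ⟨a, ha⟩
    exact congrArg Subtype.val this
  obtain ⟨A, _, _, _, hA4, hA5⟩ := H74BSWMinusO.odd_norm h hM hz1' (fun hN => hzR.2 hN.2)
  have hAC := hA5 hzR
  subst hAC
  refine ⟨((z : S) : G), hzR, ?_⟩
  apply Subgroup.eq_of_le_of_card_ge
  · intro n hn
    exact hA4 n _ (H74BSWMinusD.self_mem_C _) hz1' (hSC (hSn n hn _ hzS)) (hL n hn)
  · rw [hE, (H74BSWMinusD.minus_card h hM hzR).1]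

/-- the properties of `D = C z` -/
theorem D_props (h : BSW t s K) (hM : MinusCase K) {z : G} (hz : RT K z) :
    ∀ X : Subgroup G, X ≤ C z → X ≠ ⊥ → Nm X = Nm (C z) ∧
      ∃ u : G, orderOf u = 2 ∧ u ∉ C z ∧ (∀ d ∈ C z, u * d * u⁻¹ = d⁻¹) ∧
        Nm (C z) = C z ⊔ Subgroup.zpowers u := by
  intro X hX hX1
  obtain ⟨x, E', hinv, huE, _, hdisj, hNm, hcard⟩ := H74BSWRT2.rt_norm h hz
  set u := x * t * x⁻¹ with hu
  have huo : orderOf u = 2 := by rw [hu, H74BSWMinusN.orderOf_conj', h.ht]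
  have hu1 : u ≠ 1 := by
    intro h1
    rw [h1, orderOf_one] at huo
    omega
  obtain ⟨c1, c2⟩ := H74BSWMinusD.minus_card h hM hz
  have hk4 := H74BSWMinusD.four_le_of_RT h hM hz
  have hE2 : Nat.card E' = 2 := by
    rw [c1, c2] at hcard
    have : (Nat.card K - 1) * 2 = (Nat.card K - 1) * Nat.card E' := by rw [← hcard]; ring
    exact (Nat.eq_of_mul_eq_mul_left (by omega) this).symm
  have hEz : Subgroup.zpowers u = E' := by
    apply Subgroup.eq_of_le_of_card_ge
    · rw [Subgroup.zpowers_le]; exact huE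
    · rw [Nat.card_zpowers, huo, hE2]
  have huC : u ∉ C z := by
    intro huC
    have : u ∈ C z ⊓ E' := ⟨huC, huE⟩
    rw [hdisj, Subgroup.mem_bot] at this
    exact hu1 this
  have hNm' : Nm (C z) = C z ⊔ Subgroup.zpowers u := by rw [hEz]; exact hNm
  refine ⟨?_, u, huo, huC, hinv, hNm'⟩
  apply le_antisymm
  · intro n hn
    obtain ⟨a, ha⟩ := Subgroup.ne_bot_iff_exists_ne_one.1 hX1
    have ha1 : (a : G) ≠ 1 := fun h1 => ha (Subtype.ext h1)
    exact H74BSWRT1.rt_ti h hz (hX a.2) ha1 (hX ((Subgroup.mem_normalizer_iff.1 hn a).1 a.2))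
  · rw [hNm', sup_le_iff]
    constructor
    · intro c hc
      have hcomm := H74BSWRT1.rt_comm h hz
      apply mem_Nm_of
      · intro a ha
        rw [hcomm c hc a (hX ha), mul_inv_cancel_right]
        exact ha
      · intro a ha
        rw [hcomm c⁻¹ (inv_mem hc) a (hX ha), inv_mul_cancel_right]
        exact ha
    · rw [Subgroup.zpowers_le]
      have huinv : u⁻¹ = u := by
        have : u * u = 1 := by rw [← pow_two, ← huo, pow_orderOf_eq_one]
        exact inv_eq_of_mul_eq_one_left this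
      apply mem_Nm_of
      · intro a ha
        rw [hinv a (hX ha)]
        exact inv_mem ha
      · intro a ha
        have : u⁻¹ * a * u = u * a * u⁻¹ := by rw [huinv]
        rw [this, hinv a (hX ha)]
        exact inv_mem ha

theorem minus_concl (h : BSW t s K) (hM : MinusCase K) : Concl G := by
  obtain ⟨y, hy⟩ := H74BSWMinusN.nn_exists h hM
  have hk := H74BSWBasic.two_le_K h
  have hQ := H74BSWMinusN.nn_card h hM hy
  have hN := normQ_card h hM hy
  -- Schur-Zassenhaus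
  have hle : C y ≤ Nm (C y) := Subgroup.le_normalizer
  have hnorm : ((C y).subgroupOf (Nm (C y))).Normal := Subgroup.normal_in_normalizer
  have hcardN : Nat.card ((C y).subgroupOf (Nm (C y))) = 2 * Nat.card K - 1 := by
    rw [← hQ]
    exact Nat.card_congr (Subgroup.subgroupOfEquivOfLe hle).toEquiv
  have hidx : ((C y).subgroupOf (Nm (C y))).index = Nat.card K - 1 := by
    have h1 := Subgroup.card_mul_index ((C y).subgroupOf (Nm (C y)))
    rw [hcardN, hN] at h1
    exact Nat.eq_of_mul_eq_mul_left (by omega) h1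
  have hcop : Nat.Coprime (Nat.card ((C y).subgroupOf (Nm (C y)))) ((C y).subgroupOf (Nm (C y))).index := by
    rw [hcardN, hidx]
    have : 2 * Nat.card K - 1 = 2 * (Nat.card K - 1) + 1 := by omega
    rw [this]
    simp
  obtain ⟨E0, hE0⟩ := Subgroup.exists_right_complement'_of_coprime hcop
  set E : Subgroup G := E0.map (Nm (C y)).subtype with hEdef
  have hEcard : Nat.card E = Nat.card K - 1 := by
    have h1 := hE0.card_mul_card
    rw [hcardN, hN] at h1
    have h2 : Nat.card E0 = Nat.card K - 1 := Nat.eq_of_mul_eq_mul_left (by omega) h1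
    rw [← h2]
    exact Subgroup.card_map_of_injective (Subgroup.subtype_injective _)
  have hdisj : C y ⊓ E = ⊥ := by
    rw [eq_bot_iff]
    rintro a ⟨ha1, e, he, rfl⟩
    have : e ∈ (C y).subgroupOf (Nm (C y)) ⊓ E0 := ⟨Subgroup.mem_subgroupOf.2 ha1, he⟩
    rw [hE0.disjoint.eq_bot, Subgroup.mem_bot] at this
    rw [this]
    simp
  have hsup : Nm (C y) = C y ⊔ E := by
    have h1 := congrArg (Subgroup.map (Nm (C y)).subtype) hE0.sup_eq_top
    rw [Subgroup.map_sup, Subgroup.subgroupOf_map_subtype, inf_eq_left.2 hle,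
      ← MonoidHom.range_eq_map, Subgroup.range_subtype] at h1
    exact h1.symm
  refine ⟨C y, E, ?_, fun x hx hx1 => H74BSWMinusT.nn_cent_eq h hM hy hx hx1, ?_, ?_, hdisj, hsup, ?_⟩
  · rw [hQ, hM.1]
    obtain ⟨m, hm⟩ : ∃ m, Nat.card K = m + 2 := ⟨Nat.card K - 2, by omega⟩
    rw [hm]
    have e1 : 2 * (m + 2) - 1 = 2 * m + 3 := by omega
    have e2 : m + 2 - 1 = m + 1 := by omega
    have e4 : 2 * m + 3 - 1 = 2 * (m + 1) := by omega
    rw [e1, e2, e4]
    ring
  · by_cases hE1 : E = ⊥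
    · refine ⟨⟨fun a b => ?_⟩⟩
      have ha : a = 1 := Subtype.ext (Subgroup.mem_bot.1 (hE1.le a.2))
      rw [ha, one_mul, mul_one]
    · obtain ⟨z, hz, hEz⟩ := compl_eq h hM E hEcard hE1
      refine ⟨⟨fun a b => Subtype.ext ?_⟩⟩
      exact H74BSWRT1.rt_comm h hz a (hEz ▸ a.2) b (hEz ▸ b.2)
  · rw [hEcard, hQ]; omega
  · intro X hX hX1
    have hE1 : E ≠ ⊥ := by
      intro hE1
      rw [hE1, le_bot_iff] at hX
      exact hX1 hX
    obtain ⟨z, hz, hEz⟩ := compl_eq h hM E hEcard hE1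
    rw [hEz] at hX ⊢
    exact D_props h hM hz X hX hX1

end Cfsg.Agent.Lib.H74BSWMinusQ
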