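import Cfsg.Agent.Lib.H74BSWPlusC

/-! PROJECT 74 (BSW), piece `PlusF`: the plus case, conclusion. -/

set_option autoImplicit false

namespace Cfsg.Agent.Lib.H74BSWPlusF

open Cfsg.Agent.Lib.Helper74BSWDefs

variable {G : Type*} [Group G] {t s : G} {K : Subgroup G}

theorem norm_sub (h : BSW t s K) {X : Subgroup G} (hX : X ≤ K) (hX1 : X ≠ ⊥) : Nm X = C t := by
  have key : ∀ g ∈ C t, ∀ y ∈ X, g * y * g⁻¹ ∈ X := by
    intro g hg y hy
    by_cases hgK : g ∈ K
    · have : g * y * g⁻¹ = y := by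
        rw [h.hab g hgK y (hX hy), mul_assoc, mul_inv_cancel, mul_one]
      rw [this]; exact hy
    · have := (H74BSWBasic.out_invol h hg hgK).2 y (hX hy)
      rw [this]; exact X.inv_mem hy
  apply le_antisymm
  · intro n hn
    obtain ⟨x, hx, hx1⟩ : ∃ x ∈ X, x ≠ 1 := by
      by_contra hc
      push Not at hc
      exact hX1 ((Subgroup.eq_bot_iff_forall X).2 hc)
    have h1 : n * x * n⁻¹ ∈ X := (Subgroup.mem_normalizer_iff.1 hn x).1 hx
    exact H74BSWBasic.ti h (hX hx) hx1 (hX h1)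
  · intro g hg
    rw [Subgroup.mem_normalizer_iff]
    intro y
    constructor
    · exact key g hg y
    · intro hy
      have := key g⁻¹ ((C t).inv_mem hg) _ hy
      have e : g⁻¹ * (g * y * g⁻¹) * g⁻¹⁻¹ = y := by group
      rwa [e] at this

theorem plus_concl [Finite G] (h : BSW t s K) (hP : PlusCase K) : Concl G := by
  obtain ⟨g, hg, hcQ, hcN⟩ := H74BSWPlusC.plus_count h hP
  obtain ⟨x, E, -, -, hEK, hQE, hN, hcN'⟩ := H74BSWRT2.rt_norm h hg
  have hcE : Nat.card E = Nat.card K := by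
    rw [hcN, hcQ] at hcN'
    exact (Nat.eq_of_mul_eq_mul_left (by omega) hcN').symm
  have hED : E = cj x K := by
    apply Subgroup.eq_of_le_of_card_ge hEK
    rw [H74BSWConj.card_cj, hcE]
  subst hED
  have h' := H74BSWConj.bsw_conj h x
  have hcD : Nat.card (cj x K) = Nat.card K := H74BSWConj.card_cj x K
  refine ⟨C g, cj x K, ?_, ?_, ?_, ?_, hQE, hN, ?_⟩
  · rw [hcQ, hP.1]
    have : 2 * Nat.card K + 1 - 1 = 2 * Nat.card K := by omega
    rw [this]
    ring
  · intro y hy hy1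
    exact (H74BSWRT1.rt_cent h hg hy hy1).1
  · exact ⟨⟨fun a b => Subtype.ext (h'.hab a a.2 b b.2)⟩⟩
  · rw [hcD, hcQ]
  · intro X hX hX1
    refine ⟨?_, x * s * x⁻¹, h'.hs, h'.hsK, h'.hinv, ?_⟩
    · exact (norm_sub h' hX hX1).trans (H74BSWBasic.normalizer_K h').symm
    · exact (H74BSWBasic.normalizer_K h').trans h'.hH.symm

end Cfsg.Agent.Lib.H74BSWPlusF
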