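import Mathlib
import Cfsg.Agent.Lib.Helper6DkTorus
import Cfsg.Agent.Lib.Helper1Basic
import Cfsg.Agent.S0144

/-!
# Dickson corollaries: which subgroups of `PSL₂(F)` are solvable
-/

set_option autoImplicit false

namespace Cfsg.Agent.Lib.Helper6DkCor

open Matrix Cfsg.Agent.Lib.Helper46SL2 Cfsg.Agent.Lib.Helper41SL2 Cfsg.Agent.Lib.Helper41Dk

variable {F : Type*} [Field F]

local notation "SL2" => Matrix.SpecialLinearGroup (Fin 2)
local notation "PSL2" => Matrix.ProjectiveSpecialLinearGroup (Fin 2)

theorem solvable_of_index_two {G : Type*} [Group G] (H : Subgroup G) (h : H.index = 2)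
    (hs : Group.IsSolvable H) : Group.IsSolvable G := by
  have hn : H.Normal := Subgroup.normal_of_index_eq_two h
  have hc : Nat.card (G ⧸ H) = 2 := h
  have : Fact (Nat.Prime 2) := ⟨Nat.prime_two⟩
  have hcyc : IsCyclic (G ⧸ H) := isCyclic_of_prime_card hc
  have hs2 : Group.IsSolvable (G ⧸ H) := by
    letI := IsCyclic.commGroup (α := G ⧸ H)
    exact Group.isSolvable_of_comm (fun a b => mul_comm a b)
  exact Group.isSolvable_of_ker_le_range H.subtype (QuotientGroup.mk' H) (by simp)

theorem solvable_of_comm_subgroup {G : Type*} [Group G] (A : Subgroup G)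
    (h : ∀ a ∈ A, ∀ b ∈ A, a * b = b * a) : Group.IsSolvable A :=
  Group.isSolvable_of_comm (fun a b => Subtype.ext (h a a.2 b b.2))

theorem solvable_of_le' {G : Type*} [Group G] {H K : Subgroup G} (hK : Group.IsSolvable K)
    (h : H ≤ K) : Group.IsSolvable H :=
  Cfsg.Agent.Lib.Helper1Basic.isSolvable_of_le h

theorem solvable_centralizer {x : SL2 F} (hx : x ∉ Subgroup.center (SL2 F)) :
    Group.IsSolvable (Subgroup.centralizer {x} : Subgroup (SL2 F)) := by
  apply solvable_of_comm_subgroup
  intro a ha b hb
  exact ct_SL2 x a b hx (mem_cent_iff.1 ha) (mem_cent_iff.1 hb)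

theorem solvable_normalizer [Finite F] {x : SL2 F} (ht : tr x ^ 2 ≠ 4) :
    Group.IsSolvable (Subgroup.normalizer
      ((Subgroup.centralizer {x} : Subgroup (SL2 F)) : Set (SL2 F))) := by
  apply solvable_of_index_two _ (relIndex_centralizer_normalizer ht)
  have := solvable_centralizer (not_mem_center_of_tr ht)
  exact Cfsg.Agent.Lib.Helper1Basic.isSolvable_subgroupOf _ _

theorem solvable_of_commutator_le {G : Type*} [Group G] {H A : Subgroup G}
    (hA : ∀ a ∈ A, ∀ b ∈ A, a * b = b * a)
    (h : ∀ a ∈ H, ∀ b ∈ H, a * b * a⁻¹ * b⁻¹ ∈ A) : Group.IsSolvable H := by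
  refine ⟨2, ?_⟩
  rw [derivedSeries_succ, derivedSeries_one, eq_bot_iff, Subgroup.commutator_le]
  have h1 : commutator H ≤ A.subgroupOf H := by
    rw [commutator_def, Subgroup.commutator_le]
    intro a _ b _
    exact h a a.2 b b.2
  intro a ha b hb
  rw [Subgroup.mem_bot, commutatorElement_eq_one_iff_mul_comm]
  exact Subtype.ext (hA a (h1 ha) b (h1 hb))

theorem solvable_Bor : Group.IsSolvable (Bor F) := by
  apply solvable_of_commutator_le (A := UU F)
  · intro a ha b hb
    rw [eq_uu_of_mem ha, eq_uu_of_mem hb, uu_mul, uu_mul, add_comm]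
  · intro a ha b hb
    exact comm_mem_UU ha hb

theorem solvable_of_pre {H : Subgroup (PSL2 F)} (h : Group.IsSolvable (pre H)) :
    Group.IsSolvable H := by
  rw [← map_pre H]
  exact Cfsg.Agent.Lib.Helper1Basic.isSolvable_map _ _

theorem solvable_12 {G : Type*} [Group G] [Finite G] (h : Nat.card G = 12) : Group.IsSolvable G :=
  Cfsg.Agent.S0144.result 2 3 2 1 Nat.prime_two Nat.prime_three (by rw [h]; norm_num)

theorem solvable_24 {G : Type*} [Group G] [Finite G] (h : Nat.card G = 24) : Group.IsSolvable G :=
  Cfsg.Agent.S0144.result 2 3 3 1 Nat.prime_two Nat.prime_three (by rw [h]; norm_num)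

theorem solvable_6 {G : Type*} [Group G] [Finite G] (h : Nat.card G = 6) : Group.IsSolvable G :=
  Cfsg.Agent.S0144.result 2 3 1 1 Nat.prime_two Nat.prime_three (by rw [h]; norm_num)

/-- A subgroup of `PSL₂(F)` is solvable, of order 60, everything, or contains a conjugate of
`SL₂(K)` for a proper subfield with at least four elements. -/
theorem solvable_cases [Fintype F] (H : Subgroup (PSL2 F)) :
    Group.IsSolvable H ∨ Nat.card H = 60 ∨ H = ⊤ ∨
      ∃ K : Subfield F, 4 ≤ Nat.card K ∧ K ≠ ⊤ := by
  have : Finite (PSL2 F) := finite_PSL2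
  obtain ⟨ψ, hOut⟩ := dickson_PSL2 H
  have e0 : H ≃* H.map ψ.toMonoidHom := H.equivMapOfInjective _ ψ.injective
  set H' := H.map ψ.toMonoidHom with hH'
  have hcard : Nat.card H = Nat.card H' := Nat.card_congr e0.toEquiv
  have hsol : Group.IsSolvable H' → Group.IsSolvable H := by
    intro h
    exact Group.isSolvable_of_isSolvable_injective (f := e0.toMonoidHom) e0.injective
  rcases hOut with (h | ⟨x, -, ht, h⟩ | ⟨x, -, ht, h, -⟩ | ⟨h, -⟩ | ⟨h, -⟩ | h) | h | h
  · left
    apply hsol
    apply solvable_of_pre
    rw [h]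
    exact solvable_of_comm_subgroup _ (fun a ha b _ => ((Subgroup.mem_center_iff.1 ha) b).symm)
  · left
    apply hsol
    apply solvable_of_pre
    refine solvable_of_le' (solvable_centralizer (not_mem_center_of_tr ht)) ?_
    rw [h]; exact inf_le_left
  · left
    apply hsol
    apply solvable_of_pre
    refine solvable_of_le' (solvable_normalizer ht) ?_
    rw [h]; exact inf_le_left
  · left
    exact solvable_12 (by rw [hcard]; exact card_of_card_pre h)
  · left
    exact solvable_24 (by rw [hcard]; exact card_of_card_pre h)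
  · right; left
    rw [hcard]; exact card_of_card_pre h.1
  · left
    apply hsol
    apply solvable_of_pre
    exact solvable_of_le' solvable_Bor h
  · obtain ⟨K, h1, -, hK3, hK⟩ := h
    by_cases hKt : K = ⊤
    · right; right; left
      rw [hKt, SLK_top, top_le_iff] at h1
      have h2 : H' = ⊤ := by
        rw [← map_pre H', h1]
        exact Subgroup.map_top_of_surjective _ (QuotientGroup.mk'_surjective _)
      apply Subgroup.eq_top_of_card_eq
      rw [hcard, h2, Subgroup.card_top]
    · rcases Nat.lt_or_ge (Nat.card K) 4 with h4 | h4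
      · left
        have h3 : Nat.card K = 3 := by omega
        rw [h3] at hK
        rcases hK with hK | hK
        · exact solvable_24 (by rw [hcard]; exact card_of_card_pre hK)
        · apply solvable_12
          rw [hcard]
          apply card_of_card_pre (F := F)
          have : 2 * Nat.card (pre H') = 2 * (ee F * 12) := by rw [hK]; ring
          omega
      · exact Or.inr (Or.inr (Or.inr ⟨K, h4, hKt⟩))

end Cfsg.Agent.Lib.Helper6DkCor
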