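import Mathlib
import Cfsg.Agent.Lib.Helper6DkMin
import Cfsg.Agent.Lib.Helper18Field
import Cfsg.Agent.S0804

/-!
# Dickson corollaries: non-solvable proper subgroups of `PSL₂(F)`, and arithmetic
-/

set_option autoImplicit false

namespace Cfsg.Agent.Lib.Helper6DkCor

open Matrix Cfsg.Agent.Lib.Helper46SL2 Cfsg.Agent.Lib.Helper41SL2 Cfsg.Agent.Lib.Helper41Dk

variable {F : Type*} [Field F]

local notation "SL2" => Matrix.SpecialLinearGroup (Fin 2)
local notation "PSL2" => Matrix.ProjectiveSpecialLinearGroup (Fin 2)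

theorem exists_sq_ne_one {K : Type*} [Field K] [Fintype K] (h4 : 4 ≤ Fintype.card K) :
    ∃ a : K, a ≠ 0 ∧ a ^ 2 ≠ 1 := by
  obtain ⟨u, hu⟩ := IsCyclic.exists_generator (α := Kˣ)
  have hou : orderOf u = Fintype.card K - 1 := by
    rw [orderOf_eq_card_of_forall_mem_zpowers hu, Nat.card_units, Nat.card_eq_fintype_card]
  refine ⟨u, u.ne_zero, ?_⟩
  intro h
  have h1 : u ^ 2 = 1 := Units.ext (by simpa using h)
  have h2 := Nat.le_of_dvd (by norm_num) (orderOf_dvd_of_pow_eq_one h1)
  omega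

theorem perfect_SL2 {K : Type*} [Field K] [Fintype K] (h4 : 4 ≤ Fintype.card K) :
    Group.IsPerfect (SL2 K) := by
  obtain ⟨a, ha, ha2⟩ := exists_sq_ne_one h4
  exact ⟨Matrix.SL2.commutator_eq_top ha ha2⟩

theorem card_PSL2_mul [Fintype F] :
    ee F * Nat.card (PSL2 F) = Fintype.card F * (Fintype.card F ^ 2 - 1) := by
  rw [← card_SL2_eq, Cfsg.Agent.Lib.Helper7SL.card_SL_two]

theorem ee_le_two [Fintype F] : ee F ≤ 2 := by
  rw [ee_eq_gcd]; exact Nat.gcd_le_left _ (by norm_num)

theorem exists_nonsolvable_subfield [Fintype F] {K : Type*} [Field K] [Fintype K] (ι : K →+* F)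
    (h4 : 4 ≤ Fintype.card K) (hlt : Fintype.card K ^ 2 ≤ Fintype.card F) :
    ∃ H : Subgroup (PSL2 F), H ≠ ⊤ ∧ ¬ Group.IsSolvable H := by
  have := perfect_SL2 h4
  have : Finite (PSL2 F) := finite_PSL2
  set f : SL2 K →* PSL2 F := (proj F).comp (Matrix.SpecialLinearGroup.map ι) with hf
  refine ⟨f.range, ?_, ?_⟩
  · intro h
    have h1 : Nat.card f.range ≤ Nat.card (SL2 K) :=
      Nat.le_of_dvd Nat.card_pos (Subgroup.card_range_dvd f)
    rw [h, Subgroup.card_top, Cfsg.Agent.Lib.Helper7SL.card_SL_two] at h1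
    have h2 := card_PSL2_mul (F := F)
    have h3 := ee_le_two (F := F)
    generalize Fintype.card K = k at *
    generalize Fintype.card F = q at *
    generalize Nat.card (PSL2 F) = N at *
    generalize ee F = e at *
    have h5 : k ^ 2 - 1 ≤ q ^ 2 - 1 := by
      have : k ^ 2 ≤ q ^ 2 := by nlinarith
      omega
    have h6 : 4 * k ≤ q := by nlinarith
    have h7 : 4 * k * (k ^ 2 - 1) ≤ q * (q ^ 2 - 1) := Nat.mul_le_mul h6 h5
    have h8 : e * N ≤ 2 * (k * (k ^ 2 - 1)) := Nat.mul_le_mul h3 h1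
    have h9 : 0 < k * (k ^ 2 - 1) := by
      apply Nat.mul_pos (by omega)
      have : 16 ≤ k ^ 2 := by nlinarith
      omega
    nlinarith
  · have hp : Group.IsPerfect f.range := Group.IsPerfect.range f
    have hnt : Nontrivial f.range := by
      refine ⟨⟨⟨f (uu 1), ⟨_, rfl⟩⟩, 1, ?_⟩⟩
      intro h
      have h1 : f (uu 1) = 1 := congrArg Subtype.val h
      have h2 : Matrix.SpecialLinearGroup.map ι (uu (1 : K)) ∈ Subgroup.center (SL2 F) :=
        (QuotientGroup.eq_one_iff _).1 h1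
      have h3 := (mem_center_iff.1 h2).1
      have h4 : ι 1 = 0 := h3
      rw [map_one] at h4
      exact one_ne_zero h4
    exact Group.IsPerfect.not_isSolvable _

theorem not_solvable_alt5 : ¬ Group.IsSolvable (alternatingGroup (Fin 5)) := by
  intro h
  exact Equiv.Perm.not_isSolvable_fin_5
    (solvable_of_index_two (alternatingGroup (Fin 5)) alternatingGroup.index_eq_two h)

theorem card_alt5 : Nat.card (alternatingGroup (Fin 5)) = 60 := by
  have h := two_mul_card_alternatingGroup (α := Fin 5)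
  rw [Fintype.card_perm, Fintype.card_fin] at h
  rw [Nat.card_eq_fintype_card]
  have : Nat.factorial 5 = 120 := rfl
  omega

theorem exists_nonsolvable_A5 [Fintype F]
    (h5 : 5 ∣ Fintype.card F * (Fintype.card F ^ 2 - 1)) (h7 : 7 ≤ Fintype.card F) :
    ∃ H : Subgroup (PSL2 F), H ≠ ⊤ ∧ ¬ Group.IsSolvable H := by
  obtain ⟨H, ⟨e⟩⟩ := (Cfsg.Agent.S0804.result (F := F) rfl).2 h5
  refine ⟨H, ?_, ?_⟩
  · intro h
    have h1 : Nat.card H = 60 := by rw [Nat.card_congr e.toEquiv, card_alt5]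
    rw [h, Subgroup.card_top] at h1
    have h2 := card_PSL2_mul (F := F)
    have h3 := ee_le_two (F := F)
    rw [h1] at h2
    generalize Fintype.card F = q at *
    have h4 : 48 ≤ q ^ 2 - 1 := by
      have : 49 ≤ q ^ 2 := by nlinarith
      omega
    have h5 : 7 * 48 ≤ q * (q ^ 2 - 1) := Nat.mul_le_mul h7 h4
    omega
  · intro h
    apply not_solvable_alt5
    exact Group.isSolvable_of_isSolvable_injective (f := e.symm.toMonoidHom) e.symm.injective

end Cfsg.Agent.Lib.Helper6DkCor
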