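import Mathlib
import Cfsg.Agent.Lib.Helper71OSDefs
import Cfsg.Agent.S2475
import Cfsg.Agent.S1230
import Cfsg.Agent.Lib.Helper6Transport
import Cfsg.Agent.Lib.Helper6DkMin2
import Cfsg.Agent.Lib.H71OsSemi

/-!
# Project OS (S3421), piece `Even`  (est. 2 h)
`q` even: S3421 from `Cfsg.Agent.S1230.result` (landed).
SKETCH. `q = card F = 2^n`, `n ≥ 2`, `CharP F 2`.  `S2475` with `p = 2`, `gcd(2, q-1) = 1`: element orders of `G` are the divisors of `2`, `q-1`, `q+1` (the last two odd).  `card G = card (PSL2 F) = q (q^2-1)` (`Helper6DkMin2.card_PSL2_mul`, `ee F = gcd(2, q-1) = 1`; or `Helper7SL.card_SL_two` + trivial centre).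
* `hC`: `t` an involution, `c ∈ C(t)`: if `orderOf c` is even it divides 2.  If it is odd, `orderOf (t c) = 2 * orderOf c` is even so divides 2, `orderOf c = 1`.  So `c^2 = 1`; a group of exponent 2 is commutative.
* a Sylow 2-subgroup `T` has order `q ≥ 4` (2-part of `q (q^2-1)`) and exponent 2, so it is not cyclic.
* `T` is not normal: otherwise take... every element `x` of odd order acts without fixed points on `T`; by Schur–Zassenhaus-free argument: for each odd prime `r` a Sylow `r`-subgroup `R` has `card R ∣ q - 1` (`H71OsSemi.card_dvd_card_sub_one T R`), so `q^2 - 1 = ∏ r-parts` divides... (the `r`-parts are pairwise coprime and each divides `q - 1`, so `q^2 - 1 ∣ q - 1`). Contradiction.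
`S1230` gives `F'` with `card F' = card T = q` and `G ≃* PSL2 F'`; `Cfsg.Agent.Lib.Helper6Transport.nonempty_pslEquiv` gives `PSL2 F' ≃* PSL2 F`.
-/

set_option autoImplicit false
set_option linter.style.haveILetI false

namespace Cfsg.Agent.Lib.H71OsEven

open Cfsg.Agent.Lib.Helper71OS

theorem even_case {F : Type*} [Field F] [Fintype F] (hF : 3 < Fintype.card F) (heven : Even (Fintype.card F))
    {G : Type*} [Group G] [Finite G]
    (hs : Set.range (orderOf : G → ℕ) = Set.range (orderOf : PSL2 F → ℕ))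
    (hc : Nat.card G = Nat.card (PSL2 F)) : Nonempty (G ≃* PSL2 F) := by
  classical
  -- characteristic 2
  obtain ⟨p, hpc⟩ := CharP.exists F
  obtain ⟨n, hpp, hn⟩ := FiniteField.card F p
  have hp2 : p = 2 := by
    have : 2 ∣ p ^ (n : ℕ) := by rw [← hn]; exact heven.two_dvd
    exact ((Nat.prime_dvd_prime_iff_eq Nat.prime_two hpp).mp
      (Nat.prime_two.dvd_of_dvd_pow this)).symm
  subst hp2
  haveI : Fact (Nat.Prime 2) := ⟨Nat.prime_two⟩
  obtain ⟨q, hq⟩ : ∃ q, q = Fintype.card F := ⟨_, rfl⟩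
  rw [← hq] at hF heven hn
  have hodd1 : Odd (q - 1) := Nat.Even.sub_odd (by omega) heven odd_one
  have hodd2 : Odd (q + 1) := heven.add_one
  have hgcd : Nat.gcd 2 (q - 1) = 1 := Nat.coprime_two_left.mpr hodd1
  have hS := Cfsg.Agent.S2475.result (F := F) 2 (by omega)
  rw [← hq, hgcd, Nat.div_one, Nat.div_one] at hS
  have hrange : Set.range (orderOf : G → ℕ) = {m : ℕ | m ∣ 2 ∨ m ∣ q - 1 ∨ m ∣ q + 1} := by
    rw [hs]
    exact hS
  have hord : ∀ g : G, orderOf g ∣ 2 ∨ orderOf g ∣ q - 1 ∨ orderOf g ∣ q + 1 := by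
    intro g
    have : orderOf g ∈ Set.range (orderOf : G → ℕ) := ⟨g, rfl⟩
    rw [hrange] at this
    exact this
  have hord' : ∀ g : G, orderOf g ∣ 2 ∨ Odd (orderOf g) := by
    intro g
    rcases hord g with h | h | h
    · exact Or.inl h
    · exact Or.inr (Odd.of_dvd_nat hodd1 h)
    · exact Or.inr (Odd.of_dvd_nat hodd2 h)
  have hcard : Nat.card G = q * (q ^ 2 - 1) := by
    have h1 := Cfsg.Agent.Lib.Helper6DkCor.card_PSL2_mul (F := F)
    rw [Cfsg.Agent.Lib.Helper41Dk.ee_eq_gcd, ← hq, hgcd, one_mul] at h1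
    rw [hc]
    exact h1
  -- centralizers of involutions
  have hC2 : ∀ t : G, orderOf t = 2 → ∀ c ∈ Subgroup.centralizer ({t} : Set G), c ^ 2 = 1 := by
    intro t ht c hcc
    rcases hord' c with h | h
    · exact orderOf_dvd_iff_pow_eq_one.mp h
    · have hcomm : Commute t c := by
        rw [Subgroup.mem_centralizer_singleton_iff] at hcc
        exact hcc.symm
      have hcop : Nat.Coprime (orderOf t) (orderOf c) := by
        rw [ht]
        exact Nat.coprime_two_left.mpr h
      have ho := hcomm.orderOf_mul_eq_mul_orderOf_of_coprime hcop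
      rw [ht] at ho
      rcases hord' (t * c) with h' | h'
      · rw [ho] at h'
        have h3 : 2 * orderOf c ≤ 2 := Nat.le_of_dvd (by norm_num) h'
        have h4 : 0 < orderOf c := orderOf_pos c
        have h5 : orderOf c = 1 := by omega
        rw [orderOf_eq_one_iff] at h5
        rw [h5, one_pow]
      · exfalso
        rw [ho] at h'
        exact (Nat.not_even_iff_odd.mpr h') (even_two_mul _)
  have hC : ∀ t : G, orderOf t = 2 → IsMulCommutative (Subgroup.centralizer ({t} : Set G)) ∧
      ∀ c ∈ Subgroup.centralizer ({t} : Set G), c ^ 2 = 1 := by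
    intro t ht
    refine ⟨⟨⟨fun a b => ?_⟩⟩, hC2 t ht⟩
    apply Subtype.ext
    have ha := hC2 t ht a a.2
    have hb := hC2 t ht b b.2
    have hab := hC2 t ht (a * b : ↥(Subgroup.centralizer ({t} : Set G))) (a * b).2
    show (a : G) * b = b * a
    have hab' : ((a : G) * b) ^ 2 = 1 := hab
    have e1 : (a : G)⁻¹ = a := by
      rw [inv_eq_iff_mul_eq_one, ← pow_two]; exact ha
    have e2 : (b : G)⁻¹ = b := by
      rw [inv_eq_iff_mul_eq_one, ← pow_two]; exact hb
    have e3 : ((a : G) * b)⁻¹ = a * b := by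
      rw [inv_eq_iff_mul_eq_one, ← pow_two]; exact hab'
    rw [← e3, mul_inv_rev, e1, e2]
  -- a Sylow 2-subgroup
  obtain ⟨T⟩ : Nonempty (Sylow 2 G) := inferInstance
  have hq2odd : Odd (q ^ 2 - 1) := Nat.Even.sub_odd (Nat.one_le_pow _ _ (by omega))
    (heven.pow_of_ne_zero (by norm_num)) odd_one
  have hT : Nat.card T = q := by
    apply Nat.dvd_antisymm
    · obtain ⟨k, hk⟩ := IsPGroup.iff_card.mp T.isPGroup'
      have h1 : Nat.card T ∣ q * (q ^ 2 - 1) := by
        rw [← hcard]
        exact Subgroup.card_subgroup_dvd_card _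
      have h2 : Nat.Coprime (Nat.card T) (q ^ 2 - 1) := by
        rw [hk]
        exact Nat.Coprime.pow_left _ (Nat.coprime_two_left.mpr hq2odd)
      exact h2.dvd_of_dvd_mul_right h1
    · rw [hn]
      apply T.pow_dvd_card_of_pow_dvd_card
      rw [← hn, hcard]
      exact dvd_mul_right _ _
  have hTord : ∀ x ∈ (T : Subgroup G), x ≠ 1 → orderOf x = 2 := by
    intro x hx hx1
    obtain ⟨k, hk⟩ := (IsPGroup.iff_orderOf.mp T.isPGroup') ⟨x, hx⟩
    rw [Subgroup.orderOf_mk] at hk
    rcases hord' x with h | h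
    · rcases (Nat.dvd_prime Nat.prime_two).mp h with h' | h'
      · exact absurd (orderOf_eq_one_iff.mp h') hx1
      · exact h'
    · exfalso
      rcases k with _ | k
      · rw [pow_zero, orderOf_eq_one_iff] at hk
        exact hx1 hk
      · rw [hk] at h
        exact (Nat.not_even_iff_odd.mpr h) (Nat.even_pow.mpr ⟨even_two, Nat.succ_ne_zero k⟩)
  have hnc : ¬ IsCyclic (T : Subgroup G) := by
    intro hcy
    obtain ⟨g, hg⟩ := hcy.exists_generator
    have h1 : orderOf g = Nat.card (T : Subgroup G) := orderOf_eq_card_of_forall_mem_zpowers hg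
    rw [hT, ← Subgroup.orderOf_coe] at h1
    by_cases hg1 : (g : G) = 1
    · rw [hg1, orderOf_one] at h1
      omega
    · rw [hTord g g.2 hg1] at h1
      omega
  have hnn : ¬ (T : Subgroup G).Normal := by
    intro hnorm
    haveI := hnorm
    obtain ⟨x, hx⟩ : ∃ x : G, orderOf x = q + 1 := by
      have : q + 1 ∈ Set.range (orderOf : G → ℕ) := by
        rw [hrange]
        exact Or.inr (Or.inr dvd_rfl)
      exact this
    have h1 : Nat.card (Subgroup.zpowers x) ∣ Nat.card (T : Subgroup G) - 1 := by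
      apply H71OsSemi.card_dvd_card_sub_one (T : Subgroup G) (Subgroup.zpowers x)
      intro y hy n hnT hy1 hn1 hcomm
      have h2 : y ^ 2 = 1 := by
        apply hC2 n (hTord n hnT hn1) y
        rw [Subgroup.mem_centralizer_singleton_iff]
        exact hcomm
      have h3 : orderOf y ∣ 2 := orderOf_dvd_of_pow_eq_one h2
      have h4 : orderOf y ∣ q + 1 := by
        rw [← hx]
        exact orderOf_dvd_of_mem_zpowers hy
      have h5 := Nat.eq_one_of_dvd_coprimes (Nat.coprime_two_left.mpr hodd2) h3 h4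
      exact hy1 (orderOf_eq_one_iff.mp h5)
    rw [Nat.card_zpowers, hx, hT] at h1
    have := Nat.le_of_dvd (by omega) h1
    omega
  obtain ⟨F', _, _, hF', ⟨e⟩⟩ := Cfsg.Agent.S1230.result T hnc hnn hC
  have hcardF : Fintype.card F' = Fintype.card F := by rw [hF', ← hq]; exact hT
  obtain ⟨e'⟩ := Cfsg.Agent.Lib.Helper6Transport.nonempty_pslEquiv (n := Fin 2) hcardF
  exact ⟨e.trans e'⟩

end Cfsg.Agent.Lib.H71OsEven
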