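import Mathlib
import Cfsg.Agent.Lib.Helper71OSDefs
import Cfsg.Agent.Lib.H71OsNum
import Cfsg.Agent.Lib.H71OsMix
import Cfsg.Agent.Lib.H71OsCent
import Cfsg.Agent.S0183

/-!
# Project OS (S3421), piece `OddSolv`  (est. 1.5 h)
Subgroups of odd order are solvable (CN-theorem `Cfsg.Agent.S0183.result`, landed).
SKETCH. Show `Cfsg.IsCNGroup ↥X`.  Let `1 ≠ g ∈ X`; `C_X(g)` embeds (`Subgroup.subtype`, injective) in `C_G(g) ∩ X`; nilpotency passes to subgroups / along injective homs (`Group.nilpotent_of_injective`? `Subgroup.isNilpotent`).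
Let `x₀` be a power of `g` of prime order `r`; `C_G(g) ≤ C_G(x₀)`.
* `r = p`: `C_G(x₀)` is a `p`-group (`H71OsCent.isPGroup_p`), nilpotent (`IsPGroup.isNilpotent`).
* `r ∣ m₂`: `zpowers y` has order `m₂`; its Sylow `r`-subgroup `R` has order the `r`-part of `m₂` = the `r`-part of `card G`, so is a Sylow `r`-subgroup of `G`; `x₀` is conjugate into it (`IsPGroup.exists_le_sylow`, `MulAction.exists_smul_eq`): `x₀ ∈ Y' := g₁ (zpowers y) g₁⁻¹`;
  `Y' ≤ C(x₀)` (abelian) and `card C(x₀) ∣ m₂ = card Y'`: `C(x₀) = Y'` is cyclic, so nilpotent.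
* `r ∣ m₁` (`r` odd since `card X` is odd): same with `w`: `W' ≤ C(x₀)`, `card C(x₀) ∣ 2 m₁`; `W'` has index `≤ 2` in `C(x₀)`, so it is normal there and contains every element of odd order of `C(x₀)` (`c = (c^k)^2`, squares lie in a subgroup of index 2); so `C_X(g) ≤ W'` is commutative, so nilpotent.
-/

set_option autoImplicit false
set_option linter.style.haveILetI false

namespace Cfsg.Agent.Lib.H71OsOddSolv

open Cfsg.Agent.Lib.Helper71OS

variable {G : Type*} [Group G] [Finite G] {p q m₁ m₂ : ℕ}

omit [Finite G] in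
theorem nil_of_le (X : Subgroup G) (g : X) (Y : Subgroup G) (hY : Group.IsNilpotent Y)
    (hle : ∀ d ∈ X, d * (g : G) = g * d → d ∈ Y) :
    Group.IsNilpotent (Subgroup.centralizer ({g} : Set X)) := by
  let ψ : ↥(Subgroup.centralizer ({g} : Set X)) →* ↥Y :=
    (X.subtype.comp (Subgroup.centralizer ({g} : Set X)).subtype).codRestrict Y (fun d => by
      apply hle _ d.1.2
      have := Subgroup.mem_centralizer_singleton_iff.mp d.2
      exact congrArg Subtype.val this)
  have hψ : Function.Injective ψ := by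
    intro a b hab
    have := congrArg Subtype.val hab
    exact Subtype.ext (Subtype.ext this)
  exact Group.nilpotent_of_mulEquiv (MonoidHom.ofInjective hψ).symm

omit [Finite G] in
theorem nil_zpowers (c : G) : Group.IsNilpotent (Subgroup.zpowers c) := by
  letI : CommGroup (Subgroup.zpowers c) := IsCyclic.commGroup
  exact CommGroup.isNilpotent

theorem conj_into_cyclic (r : ℕ) [Fact r.Prime] (c : G)
    (hpart : (Nat.card G).factorization r = (orderOf c).factorization r) (x : G) (hx : orderOf x = r) :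
    ∃ c' : G, orderOf c' = orderOf c ∧ x ∈ Subgroup.zpowers c' := by
  have hm0 : orderOf c ≠ 0 := (orderOf_pos c).ne'
  have hdvd : r ^ (orderOf c).factorization r ∣ orderOf c := Nat.ordProj_dvd _ _
  have ho := orderOf_pow_orderOf_div hm0 hdvd
  have hcard : Nat.card (Subgroup.zpowers (c ^ (orderOf c / r ^ (orderOf c).factorization r))) =
      r ^ (Nat.card G).factorization r := by
    rw [Nat.card_zpowers, ho, hpart]
  let P : Sylow r G := Sylow.ofCard _ hcard
  have hxP : IsPGroup r (Subgroup.zpowers x) := by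
    apply IsPGroup.of_card (n := 1)
    rw [Nat.card_zpowers, hx, pow_one]
  obtain ⟨Q, hQ⟩ := hxP.exists_le_sylow
  obtain ⟨k, hk⟩ := MulAction.exists_smul_eq G Q P
  have h1 : k * x * k⁻¹ ∈ (P : Subgroup G) := by
    rw [← hk, Sylow.smul_def, Sylow.pointwise_smul_def]
    have := Subgroup.smul_mem_pointwise_smul x (MulAut.conj k) (Q : Subgroup G)
      (hQ (Subgroup.mem_zpowers x))
    simpa [MulAut.smul_def] using this
  have h2 : k * x * k⁻¹ ∈ Subgroup.zpowers c := by
    have h3 : (P : Subgroup G) ≤ Subgroup.zpowers c := by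
      show Subgroup.zpowers (c ^ (orderOf c / r ^ (orderOf c).factorization r)) ≤ Subgroup.zpowers c
      rw [Subgroup.zpowers_le]
      exact Subgroup.pow_mem _ (Subgroup.mem_zpowers c) _
    exact h3 h1
  refine ⟨k⁻¹ * c * k, ?_, ?_⟩
  · have := orderOf_injective (MulAut.conj k⁻¹).toMonoidHom (MulAut.conj k⁻¹).injective c
    simpa using this
  · obtain ⟨n, hn⟩ := Subgroup.mem_zpowers_iff.mp h2
    rw [Subgroup.mem_zpowers_iff]
    refine ⟨n, ?_⟩
    have e : k⁻¹ * c * k = k⁻¹ * c * k⁻¹⁻¹ := by rw [inv_inv]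
    rw [e, conj_zpow, hn]
    group

theorem isSolvable_of_odd (h : PS G p q m₁ m₂) (X : Subgroup G) (hX : Odd (Nat.card X)) : Group.IsSolvable ↥X := by
  apply Cfsg.Agent.S0183.result hX
  intro g hg
  have hg1 : (g : G) ≠ 1 := fun h0 => hg (Subtype.ext h0)
  have hm1pos : 0 < m₁ := by have := Cfsg.Agent.Lib.H71OsNum.two_le_m1 h; omega
  have hm2pos : 0 < m₂ := by have := Cfsg.Agent.Lib.H71OsNum.three_le_m2 h; omega
  have hqpos : 0 < q := by have := h.hq3; omega
  -- odd order of the elements of X
  have hoddX : ∀ d ∈ X, Odd (orderOf d) := by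
    intro d hd
    have h1 : orderOf (⟨d, hd⟩ : X) ∣ Nat.card X := orderOf_dvd_natCard _
    rw [Subgroup.orderOf_mk] at h1
    exact Odd.of_dvd_nat hX h1
  -- an element of prime order
  have hog : orderOf (g : G) ≠ 1 := by
    intro h0; exact hg1 (orderOf_eq_one_iff.mp h0)
  set r := (orderOf (g : G)).minFac with hr
  have hrp : r.Prime := Nat.minFac_prime hog
  haveI : Fact r.Prime := ⟨hrp⟩
  have hrd : r ∣ orderOf (g : G) := Nat.minFac_dvd _
  have hx0 := orderOf_pow_orderOf_div (orderOf_pos (g : G)).ne' hrd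
  set x₀ := (g : G) ^ (orderOf (g : G) / r) with hx₀
  have hx01 : x₀ ≠ 1 := by
    intro h0
    rw [h0, orderOf_one] at hx0
    exact hrp.one_lt.ne hx0
  have hcx : ∀ d : G, d * (g : G) = g * d → d * x₀ = x₀ * d := by
    intro d hd
    exact ((show Commute d (g : G) from hd).pow_right _)
  have hrodd : r ≠ 2 := by
    intro h0
    have := hoddX g g.2
    rw [h0] at hrd
    exact (Nat.not_even_iff_odd.mpr this) (even_iff_two_dvd.mpr hrd)
  rcases h.hord (g : G) with h1 | h1 | h1
  · -- p-group
    haveI : Fact p.Prime := ⟨h.hp⟩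
    apply nil_of_le X g (Subgroup.centralizer ({(g : G)} : Set G))
      (Cfsg.Agent.Lib.H71OsCent.isPGroup_p h hg1 h1).isNilpotent
    intro d _ hd
    exact Subgroup.mem_centralizer_singleton_iff.mpr hd
  · -- m₁
    obtain ⟨w, hw⟩ := h.hw
    have hrm : r ∣ m₁ := hrd.trans h1
    have hpart : (Nat.card G).factorization r = (orderOf w).factorization r := by
      rw [hw, h.hcard, Nat.factorization_mul (by positivity) hm2pos.ne',
        Nat.factorization_mul (by positivity) hm1pos.ne',
        Nat.factorization_mul (by norm_num) hqpos.ne']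
      have e1 : (2 : ℕ).factorization r = 0 := by
        apply Nat.factorization_eq_zero_of_not_dvd
        intro h0
        exact hrodd ((Nat.prime_dvd_prime_iff_eq hrp Nat.prime_two).mp h0)
      have e2 : q.factorization r = 0 := by
        apply Nat.factorization_eq_zero_of_not_dvd
        intro h0
        have := Nat.eq_one_of_dvd_coprimes (Cfsg.Agent.Lib.H71OsNum.coprime_q_m1 h) h0 hrm
        exact hrp.one_lt.ne' this
      have e3 : m₂.factorization r = 0 := by
        apply Nat.factorization_eq_zero_of_not_dvd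
        intro h0
        have := Nat.eq_one_of_dvd_coprimes (Cfsg.Agent.Lib.H71OsNum.coprime_m h) hrm h0
        exact hrp.one_lt.ne' this
      simp [e1, e2, e3]
    obtain ⟨c, hc, hxc⟩ := conj_into_cyclic r w hpart x₀ hx0
    rw [hw] at hc
    apply nil_of_le X g (Subgroup.zpowers c) (nil_zpowers c)
    intro d hdX hd
    have hdC : d ∈ Subgroup.centralizer ({x₀} : Set G) :=
      Subgroup.mem_centralizer_singleton_iff.mpr (hcx d hd)
    have hle : Subgroup.zpowers c ≤ Subgroup.centralizer ({x₀} : Set G) := by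
      rw [Subgroup.zpowers_le, Subgroup.mem_centralizer_singleton_iff]
      obtain ⟨n, hn⟩ := Subgroup.mem_zpowers_iff.mp hxc
      rw [← hn]
      exact ((Commute.refl c).zpow_right n)
    have hcd := Cfsg.Agent.Lib.H71OsCent.card_dvd_m1 h hx01 (by rw [hx0]; exact hrm)
    have hrel := ((Subgroup.zpowers c).subgroupOf (Subgroup.centralizer ({x₀} : Set G))).card_mul_index
    rw [Nat.card_congr (Subgroup.subgroupOfEquivOfLe hle).toEquiv, Nat.card_zpowers, hc] at hrel
    have hidx : ((Subgroup.zpowers c).subgroupOf (Subgroup.centralizer ({x₀} : Set G))).index ∣ 2 := by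
      rw [← hrel, mul_comm 2 m₁] at hcd
      exact Nat.dvd_of_mul_dvd_mul_left hm1pos hcd
    rcases (Nat.dvd_prime Nat.prime_two).mp hidx with h0 | h0
    · rw [Subgroup.index_eq_one] at h0
      have : (⟨d, hdC⟩ : Subgroup.centralizer ({x₀} : Set G)) ∈
          (Subgroup.zpowers c).subgroupOf (Subgroup.centralizer ({x₀} : Set G)) := by
        rw [h0]; trivial
      exact Subgroup.mem_subgroupOf.mp this
    · obtain ⟨j, hj⟩ := hoddX d hdX
      have h3 := Subgroup.sq_mem_of_index_two h0
        ((⟨d, hdC⟩ : Subgroup.centralizer ({x₀} : Set G)) ^ (j + 1))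
      rw [Subgroup.mem_subgroupOf] at h3
      have h4 : (d ^ (j + 1)) ^ 2 ∈ Subgroup.zpowers c := by simpa using h3
      have h5 : (d ^ (j + 1)) ^ 2 = d := by
        rw [← pow_mul, show (j + 1) * 2 = orderOf d + 1 by omega, pow_succ, pow_orderOf_eq_one,
          one_mul]
      rwa [h5] at h4
  · -- m₂
    obtain ⟨y, hy⟩ := h.hy
    have hrm : r ∣ m₂ := hrd.trans h1
    have hpart : (Nat.card G).factorization r = (orderOf y).factorization r := by
      rw [hy, h.hcard, Nat.factorization_mul (by positivity) hm2pos.ne',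
        Nat.factorization_mul (by positivity) hm1pos.ne',
        Nat.factorization_mul (by norm_num) hqpos.ne']
      have e1 : (2 : ℕ).factorization r = 0 := by
        apply Nat.factorization_eq_zero_of_not_dvd
        intro h0
        exact hrodd ((Nat.prime_dvd_prime_iff_eq hrp Nat.prime_two).mp h0)
      have e2 : q.factorization r = 0 := by
        apply Nat.factorization_eq_zero_of_not_dvd
        intro h0
        have := Nat.eq_one_of_dvd_coprimes (Cfsg.Agent.Lib.H71OsNum.coprime_q_m2 h) h0 hrm
        exact hrp.one_lt.ne' this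
      have e3 : m₁.factorization r = 0 := by
        apply Nat.factorization_eq_zero_of_not_dvd
        intro h0
        have := Nat.eq_one_of_dvd_coprimes (Cfsg.Agent.Lib.H71OsNum.coprime_m h) h0 hrm
        exact hrp.one_lt.ne' this
      simp [e1, e2, e3]
    obtain ⟨c, hc, hxc⟩ := conj_into_cyclic r y hpart x₀ hx0
    rw [hy] at hc
    apply nil_of_le X g (Subgroup.zpowers c) (nil_zpowers c)
    intro d hdX hd
    have hdC : d ∈ Subgroup.centralizer ({x₀} : Set G) :=
      Subgroup.mem_centralizer_singleton_iff.mpr (hcx d hd)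
    have hle : Subgroup.zpowers c ≤ Subgroup.centralizer ({x₀} : Set G) := by
      rw [Subgroup.zpowers_le, Subgroup.mem_centralizer_singleton_iff]
      obtain ⟨n, hn⟩ := Subgroup.mem_zpowers_iff.mp hxc
      rw [← hn]
      exact ((Commute.refl c).zpow_right n)
    have hcd := Cfsg.Agent.Lib.H71OsCent.card_dvd_m2 h hx01 (by rw [hx0]; exact hrm)
    have heq : Subgroup.zpowers c = Subgroup.centralizer ({x₀} : Set G) := by
      apply Subgroup.eq_of_le_of_card_ge hle
      rw [Nat.card_zpowers, hc]
      exact Nat.le_of_dvd hm2pos hcd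
    rw [heq]
    exact hdC

end Cfsg.Agent.Lib.H71OsOddSolv
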