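import Mathlib
import Cfsg.Agent.Lib.Helper71OSDefs
import Cfsg.Agent.Lib.H71OsNoSolv
import Cfsg.Agent.Lib.H71OsOddSolv
import Cfsg.Agent.Lib.Helper14PConstr
import Cfsg.Agent.Lib.Helper14CoreB

/-!
# Project OS (S3421), piece `MinN`  (est. 1.5 h)
A minimal normal subgroup `N` of `G`, and its properties.
SKETCH. `G` is nontrivial; choose a normal `N ≠ ⊥` of minimal cardinality (`WellFounded.min`/`Nat.find`).  `N` is not solvable (`H71OsNoSolv`), so not commutative and of even order (`H71OsOddSolv`).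
`Red ↥N`:
* `h1`: `H` of index 2 in `↥N` is normal with commutative quotient, so `commutator ↥N ≤ H ≠ ⊤`; `⁅N,N⁆` is normal in `G`, `≤ N`, `≠ N`, so `= ⊥` by minimality: `N` commutative. Contradiction.
* `h2`: `K ⊴ ↥N` of odd order: `K ≤ Cfsg.pPrimeCore 2 ↥N` (`Helper14CoreB.le_pPrimeCore`), `(pPrimeCore 2 ↥N).map N.subtype ≤ pPrimeCore 2 G` (`Helper14PConstr.pPrimeCore_subgroup_le`), `pPrimeCore 2 G` is normal of odd order (`Helper14CoreB.card_pPrimeCore_coprime`), so solvable, so `⊥`.
* `h3`: `(center ↥N).map N.subtype` is normal in `G` (for `g : G`, `z` central in `N`: `g z g⁻¹ ∈ N` commutes with every `n = g (g⁻¹ n g) g⁻¹`), commutative so solvable, so `⊥`.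
-/

set_option autoImplicit false
set_option linter.style.haveILetI false

namespace Cfsg.Agent.Lib.H71OsMinN

open Cfsg.Agent.Lib.Helper71OS

variable {G : Type*} [Group G] [Finite G] {p q m₁ m₂ : ℕ}

theorem exists_min_normal (h : PS G p q m₁ m₂) : ∃ N : Subgroup G, N.Normal ∧ N ≠ ⊥ ∧
    (∀ M : Subgroup G, M.Normal → M ≤ N → M = ⊥ ∨ M = N) ∧ Even (Nat.card N) ∧ ¬ IsMulCommutative ↥N ∧ Red ↥N := by
  classical
  have hex : ∃ n : ℕ, ∃ N : Subgroup G, N.Normal ∧ N ≠ ⊥ ∧ Nat.card N = n := by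
    refine ⟨_, ⊤, inferInstance, ?_, rfl⟩
    intro htop
    obtain ⟨w, hw⟩ := h.hw
    have h1 : w ∈ (⊤ : Subgroup G) := Subgroup.mem_top w
    rw [htop, Subgroup.mem_bot] at h1
    rw [h1, orderOf_one] at hw
    have := Cfsg.Agent.Lib.H71OsNum.two_le_m1 h
    omega
  obtain ⟨N, hN, hN1, hNc⟩ := Nat.find_spec hex
  have hmin : ∀ M : Subgroup G, M.Normal → M ≤ N → M = ⊥ ∨ M = N := by
    intro M hM hMN
    by_cases hM1 : M = ⊥
    · exact Or.inl hM1
    · right
      have := Nat.find_min' hex ⟨M, hM, hM1, rfl⟩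
      exact Subgroup.eq_of_le_of_card_ge hMN (by rw [hNc]; exact this)
  have hns : ¬ Group.IsSolvable ↥N := by
    intro hs
    haveI := hN
    exact hN1 (Cfsg.Agent.Lib.H71OsNoSolv.no_normal_solvable h N hs)
  have hnc : ¬ IsMulCommutative ↥N := by
    intro hc
    apply hns
    exact Group.isSolvable_of_comm (fun a b => hc.is_comm.comm a b)
  have heven : Even (Nat.card N) := by
    by_contra hodd
    rw [Nat.not_even_iff_odd] at hodd
    exact hns (Cfsg.Agent.Lib.H71OsOddSolv.isSolvable_of_odd h N hodd)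
  refine ⟨N, hN, hN1, hmin, heven, hnc, ?_, ?_, ?_⟩
  · -- no subgroup of index 2
    intro H hH
    have hcomm : commutator ↥N ≤ H := by
      rw [commutator_def, Subgroup.commutator_le]
      intro a _ b _
      rw [commutatorElement_def, mul_assoc, Subgroup.mul_mem_iff_of_index_two hH,
        Subgroup.mul_mem_iff_of_index_two hH, Subgroup.mul_mem_iff_of_index_two hH,
        H.inv_mem_iff, H.inv_mem_iff]
    have hmap : (commutator ↥N).map N.subtype = ⁅N, N⁆ := by
      rw [commutator_def, Subgroup.map_commutator, ← MonoidHom.range_eq_map, Subgroup.range_subtype]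
    have hle : ⁅N, N⁆ ≤ N := Subgroup.commutator_le_left N N
    have hnorm : (⁅N, N⁆ : Subgroup G).Normal := by
      haveI := hN
      infer_instance
    rcases hmin _ hnorm hle with h0 | h0
    · apply hnc
      refine ⟨⟨fun a b => ?_⟩⟩
      have h1 := Subgroup.commutator_mem_commutator a.2 b.2
      rw [h0, Subgroup.mem_bot, commutatorElement_eq_one_iff_mul_comm] at h1
      exact Subtype.ext h1
    · have h1 : commutator ↥N = ⊤ := by
        apply Subgroup.map_injective N.subtype_injective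
        rw [hmap, h0, ← MonoidHom.range_eq_map, Subgroup.range_subtype]
      have h2 : H = ⊤ := top_le_iff.mp (h1 ▸ hcomm)
      rw [h2, Subgroup.index_top] at hH
      omega
  · -- no normal subgroup of odd order
    intro K hK hKodd
    haveI := hN
    have h1 : K ≤ Cfsg.pPrimeCore 2 ↥N :=
      Cfsg.Agent.Lib.Helper14CoreB.le_pPrimeCore hK (Nat.coprime_two_right.mpr hKodd)
    have h2 := Cfsg.Agent.Lib.Helper14PConstr.pPrimeCore_subgroup_le 2 N
    have h3 : (Nat.card (Cfsg.pPrimeCore 2 G)).Coprime 2 :=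
      Cfsg.Agent.Lib.Helper14CoreB.card_pPrimeCore_coprime 2
    have h4 : Cfsg.pPrimeCore 2 G = ⊥ := by
      haveI : (Cfsg.pPrimeCore 2 G).Normal := inferInstance
      apply Cfsg.Agent.Lib.H71OsNoSolv.no_normal_solvable h
      exact Cfsg.Agent.Lib.H71OsOddSolv.isSolvable_of_odd h _ (Nat.coprime_two_right.mp h3)
    rw [h4, le_bot_iff, Subgroup.map_eq_bot_iff_of_injective _ N.subtype_injective] at h2
    rw [h2] at h1
    exact le_bot_iff.mp h1
  · -- trivial centre
    have hZn : ((Subgroup.center ↥N).map N.subtype).Normal := by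
      refine ⟨?_⟩
      rintro _ ⟨z, hz, rfl⟩ g
      have hzg : g * (z : G) * g⁻¹ ∈ N := hN.conj_mem _ z.2 g
      refine ⟨⟨g * (z : G) * g⁻¹, hzg⟩, ?_, rfl⟩
      rw [SetLike.mem_coe, Subgroup.mem_center_iff] at hz ⊢
      intro n
      apply Subtype.ext
      have hn : g⁻¹ * (n : G) * g ∈ N := by
        have := hN.conj_mem _ n.2 g⁻¹
        simpa using this
      have h1 := congrArg Subtype.val (hz ⟨g⁻¹ * (n : G) * g, hn⟩)
      simp only [Subgroup.coe_mul] at h1 ⊢
      calc (n : G) * (g * (z : G) * g⁻¹) = g * ((g⁻¹ * (n : G) * g) * (z : G)) * g⁻¹ := by group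
        _ = g * ((z : G) * (g⁻¹ * (n : G) * g)) * g⁻¹ := by rw [h1]
        _ = g * (z : G) * g⁻¹ * (n : G) := by group
    have hZs : Group.IsSolvable ↥((Subgroup.center ↥N).map N.subtype) := by
      apply Group.isSolvable_of_comm
      rintro ⟨_, a, ha, rfl⟩ ⟨_, b, hb, rfl⟩
      apply Subtype.ext
      rw [SetLike.mem_coe, Subgroup.mem_center_iff] at ha
      have := congrArg Subtype.val (ha b)
      simpa using this.symm
    haveI := hZn
    have h0 := Cfsg.Agent.Lib.H71OsNoSolv.no_normal_solvable h _ hZs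
    exact (Subgroup.map_eq_bot_iff_of_injective _ N.subtype_injective).mp h0

end Cfsg.Agent.Lib.H71OsMinN
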