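import Cfsg.Agent.Lib.H73TgDefs

set_option autoImplicit false

namespace Cfsg.Agent.Lib.H73TgGen

/-- PURE MATHLIB.  `B := A ⊔ frattini P` is normal, `B.index ∣ p^2` (`Subgroup.index_dvd_of_le le_sup_right`, `hgen`) and `B.index ≠ p^2`
(otherwise `B = frattini P` [`Subgroup.eq_of_le_of_card_ge`-style: same index, `frattini P ≤ B`, finite; e.g. `Subgroup.relIndex_mul_index`] and `A ≤ frattini P`).
So `B.index = 1` or `p` (`(Nat.dvd_prime_pow Fact.out).1`).
Index `1`: `B = ⊤`, so `A = ⊤` by `frattini_nongenerating`; take `g = 1`.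
Index `p`: `P ⧸ B` has prime order (`Subgroup.index_eq_card`), so it is cyclic (`isCyclic_of_prime_card`), generated by some `QuotientGroup.mk g`
(`QuotientGroup.mk_surjective`); hence `B ⊔ zpowers g = ⊤` (for `x`, `mk x = mk g ^ k`, so `x * (g^k)⁻¹ ∈ B` ...), i.e. `(A ⊔ zpowers g) ⊔ frattini P = ⊤`
(`sup_assoc`, `sup_comm`), and `frattini_nongenerating` gives `A ⊔ zpowers g = ⊤`. -/
theorem exists_gen {P : Type*} [Group P] [Finite P] {p : ℕ} [Fact p.Prime] (hP : IsPGroup p P)
    (hgen : (frattini P).index = p ^ 2) (A : Subgroup P) [A.Normal] (hA : ¬ A ≤ frattini P) :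
    ∃ g : P, A ⊔ Subgroup.zpowers g = ⊤ := by
  have hp : p.Prime := Fact.out
  have hfn : (frattini P).Normal := inferInstance
  obtain ⟨B, hB⟩ : ∃ B : Subgroup P, B = A ⊔ frattini P := ⟨_, rfl⟩
  have hBn : B.Normal := by rw [hB]; infer_instance
  have hle : frattini P ≤ B := by rw [hB]; exact le_sup_right
  have hdvd : B.index ∣ p ^ 2 := by rw [← hgen]; exact Subgroup.index_dvd_of_le hle
  have hne : B.index ≠ p ^ 2 := by
    intro h
    have h1 : (frattini P).relIndex B * B.index = (frattini P).index := Subgroup.relIndex_mul_index hle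
    rw [h, hgen] at h1
    have h2 : (frattini P).relIndex B = 1 := by
      have hpos : 0 < p ^ 2 := pow_pos hp.pos 2
      exact Nat.eq_of_mul_eq_mul_right hpos (by rw [h1, one_mul])
    have h3 : B ≤ frattini P := Subgroup.relIndex_eq_one.1 h2
    exact hA ((by rw [hB]; exact le_sup_left : A ≤ B).trans h3)
  obtain ⟨k, hk, hk2⟩ := (Nat.dvd_prime_pow hp).1 hdvd
  have hk' : k = 0 ∨ k = 1 := by
    rcases Nat.lt_or_ge k 2 with h | h
    · omega
    · exfalso
      have : k = 2 := by omega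
      rw [this] at hk2
      exact hne hk2
  rcases hk' with rfl | rfl
  · rw [pow_zero, Subgroup.index_eq_one] at hk2
    refine ⟨1, ?_⟩
    have : A = ⊤ := frattini_nongenerating (by rw [← hB]; exact hk2)
    rw [this]; simp
  · rw [pow_one] at hk2
    have hcard : Nat.card (P ⧸ B) = p := hk2
    have hcyc : IsCyclic (P ⧸ B) := isCyclic_of_prime_card hcard
    obtain ⟨γ, hγ⟩ := hcyc.exists_generator
    obtain ⟨g, rfl⟩ := QuotientGroup.mk_surjective γ
    refine ⟨g, ?_⟩
    apply frattini_nongenerating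
    have h1 : B ⊔ Subgroup.zpowers g = ⊤ := by
      rw [eq_top_iff]
      intro x _
      obtain ⟨k, hk⟩ := Subgroup.mem_zpowers_iff.1 (hγ (QuotientGroup.mk x))
      have h2 : x * (g ^ k)⁻¹ ∈ B := by
        rw [← QuotientGroup.eq_one_iff, QuotientGroup.mk_mul, QuotientGroup.mk_inv,
          QuotientGroup.mk_zpow, hk, mul_inv_cancel]
      have h3 : x = (x * (g ^ k)⁻¹) * g ^ k := by group
      rw [h3]
      exact mul_mem (Subgroup.mem_sup_left h2) (Subgroup.mem_sup_right (Subgroup.zpow_mem_zpowers g k))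
    rw [← h1, hB, sup_assoc, sup_assoc, sup_comm (Subgroup.zpowers g)]

end Cfsg.Agent.Lib.H73TgGen
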