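import Cfsg.Agent.Lib.H73TgDefs
import Cfsg.Agent.Lib.H73TgGen

set_option autoImplicit false

namespace Cfsg.Agent.Lib.H73TgAb

/-- PURE MATHLIB.  If `A` is normal and `A ⊔ zpowers g = ⊤` then `P ⧸ A` is generated by `mk g`, hence commutative, so every commutator lies in `A`.
(E.g. the set `{x | ∃ k : ℤ, x * (g^k)⁻¹ ∈ A}` is everything: `Subgroup.mem_sup` / `Subgroup.mul_normal`; then compute in `P ⧸ A` with `QuotientGroup.eq_one_iff`.) -/
theorem comm_mem {P : Type*} [Group P] (A : Subgroup P) [A.Normal] (g : P) (hg : A ⊔ Subgroup.zpowers g = ⊤) (x y : P) :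
    x * y * x⁻¹ * y⁻¹ ∈ A := by
  have hrep : ∀ w : P, ∃ k : ℤ, (QuotientGroup.mk w : P ⧸ A) = (QuotientGroup.mk g : P ⧸ A) ^ k := by
    intro w
    have hw : w ∈ A ⊔ Subgroup.zpowers g := by rw [hg]; trivial
    rw [Subgroup.mem_sup_of_normal_left] at hw
    obtain ⟨a, ha, b, hb, rfl⟩ := hw
    obtain ⟨k, rfl⟩ := hb
    refine ⟨k, ?_⟩
    rw [QuotientGroup.mk_mul, (QuotientGroup.eq_one_iff a).2 ha, one_mul, QuotientGroup.mk_zpow]
  obtain ⟨k, hk⟩ := hrep x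
  obtain ⟨l, hl⟩ := hrep y
  rw [← QuotientGroup.eq_one_iff]
  rw [QuotientGroup.mk_mul, QuotientGroup.mk_mul, QuotientGroup.mk_mul, QuotientGroup.mk_inv,
    QuotientGroup.mk_inv, hk, hl]
  rw [← zpow_add, ← zpow_neg, ← zpow_neg, ← zpow_add, ← zpow_add]
  have : k + l + -k + -l = 0 := by ring
  rw [this, zpow_zero]

/-- `H73TgGen.exists_gen` for `A` and for `B`, `comm_mem` twice: `x y x⁻¹ y⁻¹ ∈ A ⊓ B = ⊥`. -/
theorem comm_of_two {P : Type*} [Group P] [Finite P] {p : ℕ} [Fact p.Prime] (hP : IsPGroup p P)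
    (hgen : (frattini P).index = p ^ 2) (A B : Subgroup P) [A.Normal] [B.Normal] (hAB : A ⊓ B = ⊥)
    (hA : ¬ A ≤ frattini P) (hB : ¬ B ≤ frattini P) : ∀ x y : P, x * y = y * x := by
  obtain ⟨g, hg⟩ := Cfsg.Agent.Lib.H73TgGen.exists_gen hP hgen A hA
  obtain ⟨g', hg'⟩ := Cfsg.Agent.Lib.H73TgGen.exists_gen hP hgen B hB
  intro x y
  have h1 := comm_mem A g hg x y
  have h2 := comm_mem B g' hg' x y
  have h3 : x * y * x⁻¹ * y⁻¹ ∈ A ⊓ B := ⟨h1, h2⟩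
  rw [hAB, Subgroup.mem_bot] at h3
  calc x * y = (x * y * x⁻¹ * y⁻¹) * (y * x) := by group
    _ = y * x := by rw [h3, one_mul]

end Cfsg.Agent.Lib.H73TgAb
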