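import Cfsg.Agent.Lib.H73TgDefs

set_option autoImplicit false

namespace Cfsg.Agent.Lib.H73TgAv

/-- PURE MATHLIB (product over an orbit).  `classical`; `O : Finset V := (MulAction.orbit Y c).toFinset` (`Fintype.ofFinite`), `v := ∏ x ∈ O, x`.
* `y • v = ∏ x ∈ O, y • x` (`Finset.smul_prod'`, or `map_prod (MulDistribMulAction.toMonoidHom V y)`), and `x ↦ y • x` is a bijection of `O` (`Finset.prod_bij'` with inverse `y⁻¹ • ·`; `MulAction.mem_orbit_iff`,
  `MulAction.smul_mem_orbit`-style lemmas), so `y • v = v`.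
* In `V ⧸ W`: every `x ∈ O` is `y • c`, so `mk x = mk c` (`QuotientGroup.eq`/`QuotientGroup.eq_iff_div_mem`, `hc`); `mk v = ∏ x ∈ O, mk c = mk c ^ O.card` (`map_prod`, `Finset.prod_congr`, `Finset.prod_const`),
  `O.card = Nat.card (orbit Y c)` (`Set.toFinset_card`, `Nat.card_eq_fintype_card`).  Conclude with `QuotientGroup.eq_one_iff`. -/
theorem exists_fixed {V : Type*} [CommGroup V] [Finite V] {Y : Type*} [Group Y] [MulDistribMulAction Y V] (W : Subgroup V) (c : V)
    (hc : ∀ y : Y, (y • c) * c⁻¹ ∈ W) :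
    ∃ v : V, (∀ y : Y, y • v = v) ∧ v * (c ^ Nat.card (MulAction.orbit Y c))⁻¹ ∈ W := by
  classical
  have : Fintype V := Fintype.ofFinite V
  let O : Finset V := (MulAction.orbit Y c).toFinset
  have hO : ∀ x, x ∈ O ↔ x ∈ MulAction.orbit Y c := fun x => Set.mem_toFinset
  refine ⟨∏ x ∈ O, x, ?_, ?_⟩
  · intro y
    have h1 : y • (∏ x ∈ O, x) = ∏ x ∈ O, y • x :=
      map_prod (MulDistribMulAction.toMonoidHom V y) _ _
    rw [h1]
    refine Finset.prod_bij' (fun x _ => y • x) (fun x _ => y⁻¹ • x) ?_ ?_ ?_ ?_ ?_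
    · intro x hx
      rw [hO] at hx ⊢
      obtain ⟨a, rfl⟩ := hx
      exact ⟨y * a, mul_smul y a c⟩
    · intro x hx
      rw [hO] at hx ⊢
      obtain ⟨a, rfl⟩ := hx
      exact ⟨y⁻¹ * a, mul_smul y⁻¹ a c⟩
    · intro x _
      exact inv_smul_smul y x
    · intro x _
      exact smul_inv_smul y x
    · intro x _
      rfl
  · rw [← QuotientGroup.eq_one_iff]
    have h2 : ∀ x ∈ O, (QuotientGroup.mk x : V ⧸ W) = QuotientGroup.mk c := by
      intro x hx
      rw [hO] at hx
      obtain ⟨y, rfl⟩ := hx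
      have := hc y
      rw [← QuotientGroup.eq_one_iff, QuotientGroup.mk_mul, QuotientGroup.mk_inv, mul_inv_eq_one] at this
      exact this
    have h3 : (QuotientGroup.mk (∏ x ∈ O, x) : V ⧸ W) = (QuotientGroup.mk c : V ⧸ W) ^ O.card := by
      have : (QuotientGroup.mk (∏ x ∈ O, x) : V ⧸ W) = ∏ x ∈ O, (QuotientGroup.mk x : V ⧸ W) :=
        map_prod (QuotientGroup.mk' W) _ _
      rw [this, Finset.prod_congr rfl h2, Finset.prod_const]
    have h4 : O.card = Nat.card (MulAction.orbit Y c) := by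
      rw [Set.toFinset_card, Nat.card_eq_fintype_card]
    rw [QuotientGroup.mk_mul, QuotientGroup.mk_inv, QuotientGroup.mk_pow, h3, h4, mul_inv_cancel]

/-- PURE MATHLIB.  `Nat.card (orbit Y c) = (stabilizer Y c).index` (`MulAction.index_stabilizer`), `Q ≤ stabilizer Y c`, `Subgroup.index_dvd_of_le`. -/
theorem card_orbit_dvd {V : Type*} {Y : Type*} [Group Y] [MulAction Y V] (Q : Subgroup Y) (c : V) (hQ : ∀ q ∈ Q, q • c = c) :
    Nat.card (MulAction.orbit Y c) ∣ Q.index := by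
  rw [Nat.card_coe_set_eq, ← MulAction.index_stabilizer]
  apply Subgroup.index_dvd_of_le
  intro q hq
  exact MulAction.mem_stabilizer_iff.2 (hQ q hq)

end Cfsg.Agent.Lib.H73TgAv
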