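import Cfsg.Agent.Lib.H73TgDefs

set_option autoImplicit false

namespace Cfsg.Agent.Lib.H73TgCM

/-- PURE MATHLIB: the centraliser of `F/N` in `G` exists as a normal subgroup.  Take
`Y := (Subgroup.centralizer ((F.map (QuotientGroup.mk' N) : Subgroup (G ⧸ N)) : Set (G ⧸ N))).comap (QuotientGroup.mk' N)` (with `haveI := hN`): the image of `F` is normal
(`Subgroup.Normal.map hF _ (QuotientGroup.mk'_surjective N)`), its centraliser is normal (instance `Subgroup.normal_centralizer`-style / `Subgroup.Normal.centralizer`), `Subgroup.Normal.comap`.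
Membership: `Subgroup.mem_comap`, `Subgroup.mem_centralizer_iff`, `Subgroup.mem_map`; `mk f * mk y = mk y * mk f ↔ y * f * y⁻¹ * f⁻¹ ∈ N` (`QuotientGroup.eq_one_iff`, `map_mul`, `mul_inv_eq_one`…).
(Or define the subgroup by hand with carrier `{y | ∀ f ∈ F, y * f * y⁻¹ * f⁻¹ ∈ N}`.) -/
theorem exists_cenMod {G : Type*} [Group G] (F N : Subgroup G) (hF : F.Normal) (hN : N.Normal) :
    ∃ Y : Subgroup G, Y.Normal ∧ ∀ y : G, y ∈ Y ↔ ∀ f ∈ F, y * f * y⁻¹ * f⁻¹ ∈ N := by
  have := hN
  have hFm : (F.map (QuotientGroup.mk' N)).Normal := hF.map _ (QuotientGroup.mk'_surjective N)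
  refine ⟨(Subgroup.centralizer ((F.map (QuotientGroup.mk' N) : Subgroup (G ⧸ N)) : Set (G ⧸ N))).comap
    (QuotientGroup.mk' N), ?_, ?_⟩
  · exact Subgroup.Normal.comap inferInstance _
  · intro y
    rw [Subgroup.mem_comap, Subgroup.mem_centralizer_iff]
    constructor
    · intro h f hf
      have h1 := h (QuotientGroup.mk' N f) (Subgroup.mem_map_of_mem _ hf)
      rw [← QuotientGroup.eq_one_iff]
      have h2 : (QuotientGroup.mk (y * f * y⁻¹ * f⁻¹) : G ⧸ N)
          = (QuotientGroup.mk' N y) * (QuotientGroup.mk' N f) * (QuotientGroup.mk' N y)⁻¹ * (QuotientGroup.mk' N f)⁻¹ := rfl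
      rw [h2, ← h1]
      group
    · rintro h _ ⟨f, hf, rfl⟩
      have h1 := h f hf
      rw [← QuotientGroup.eq_one_iff] at h1
      have h2 : (QuotientGroup.mk (y * f * y⁻¹ * f⁻¹) : G ⧸ N)
          = (QuotientGroup.mk' N y) * (QuotientGroup.mk' N f) * (QuotientGroup.mk' N y)⁻¹ * (QuotientGroup.mk' N f)⁻¹ := rfl
      rw [h2] at h1
      have h3 : (QuotientGroup.mk' N y) * (QuotientGroup.mk' N f) = (QuotientGroup.mk' N f) * (QuotientGroup.mk' N y) := by
        calc (QuotientGroup.mk' N y) * (QuotientGroup.mk' N f)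
            = ((QuotientGroup.mk' N y) * (QuotientGroup.mk' N f) * (QuotientGroup.mk' N y)⁻¹ * (QuotientGroup.mk' N f)⁻¹)
              * ((QuotientGroup.mk' N f) * (QuotientGroup.mk' N y)) := by group
          _ = _ := by rw [h1, one_mul]
      exact h3.symm

end Cfsg.Agent.Lib.H73TgCM
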