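import Cfsg.Agent.Lib.H73TgDefs

set_option autoImplicit false

namespace Cfsg.Agent.Lib.H73TgDec

theorem decomp {G : Type*} [Group G] (P F N : Subgroup G) (hNF : N ≤ F) (hFP : F ≤ P) (hab : ∀ x ∈ F, ∀ y ∈ F, x * y = y * x)
    (g : G) (hg : ∀ x ∈ P, ∃ k : ℤ, ∃ a ∈ N, x = a * g ^ k) (f : G) (hf : f ∈ F) :
    ∃ a ∈ N, ∃ c ∈ F, f = a * c ∧ ∀ x ∈ P, x * c = c * x := by
  obtain ⟨k, a, ha, hfa⟩ := hg f (hFP hf)
  have hc : g ^ k ∈ F := by
    have : g ^ k = a⁻¹ * f := by rw [hfa]; group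
    rw [this]
    exact F.mul_mem (F.inv_mem (hNF ha)) hf
  refine ⟨a, ha, g ^ k, hc, hfa, ?_⟩
  intro x hx
  obtain ⟨j, b, hb, rfl⟩ := hg x hx
  have h1 : g ^ j * g ^ k = g ^ k * g ^ j := by rw [← zpow_add, ← zpow_add, add_comm]
  have h2 : b * g ^ k = g ^ k * b := hab b (hNF hb) _ hc
  calc b * g ^ j * g ^ k = b * (g ^ j * g ^ k) := by rw [mul_assoc]
    _ = b * (g ^ k * g ^ j) := by rw [h1]
    _ = (b * g ^ k) * g ^ j := by rw [mul_assoc]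
    _ = g ^ k * b * g ^ j := by rw [h2]
    _ = g ^ k * (b * g ^ j) := by rw [mul_assoc]

theorem comm_of_central {G : Type*} [Group G] (P N : Subgroup G) (hNP : N ≤ P)
    (g : G) (hg : ∀ x ∈ P, ∃ k : ℤ, ∃ a ∈ N, x = a * g ^ k) (hc : ∀ a ∈ N, ∀ x ∈ P, x * a = a * x) :
    ∀ x ∈ P, ∀ y ∈ P, x * y = y * x := by
  intro x hx y hy
  obtain ⟨k, a, ha, hxa⟩ := hg x hx
  obtain ⟨j, b, hb, hyb⟩ := hg y hy
  have hgk : g ^ k ∈ P := by
    have : g ^ k = a⁻¹ * x := by rw [hxa]; group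
    rw [this]
    exact P.mul_mem (P.inv_mem (hNP ha)) hx
  have hgj : g ^ j ∈ P := by
    have : g ^ j = b⁻¹ * y := by rw [hyb]; group
    rw [this]
    exact P.mul_mem (P.inv_mem (hNP hb)) hy
  have h1 : g ^ j * g ^ k = g ^ k * g ^ j := by rw [← zpow_add, ← zpow_add, add_comm]
  have h2 : g ^ k * b = b * g ^ k := hc b hb _ hgk
  have h3 : g ^ j * a = a * g ^ j := hc a ha _ hgj
  have h4 : b * a = a * b := hc a ha b (hNP hb)
  rw [hxa, hyb]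
  calc a * g ^ k * (b * g ^ j) = a * (g ^ k * b) * g ^ j := by simp only [mul_assoc]
    _ = a * (b * g ^ k) * g ^ j := by rw [h2]
    _ = (a * b) * (g ^ k * g ^ j) := by simp only [mul_assoc]
    _ = (b * a) * (g ^ j * g ^ k) := by rw [h4, h1]
    _ = b * (a * g ^ j) * g ^ k := by simp only [mul_assoc]
    _ = b * (g ^ j * a) * g ^ k := by rw [h3]
    _ = b * g ^ j * (a * g ^ k) := by simp only [mul_assoc]

end Cfsg.Agent.Lib.H73TgDec
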