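import Cfsg.Agent.Lib.H73TgDefs
import Cfsg.Agent.Lib.Helper3PGroup

set_option autoImplicit false

namespace Cfsg.Agent.Lib.H73TgEA

open Cfsg.Agent.Lib.H73TgDefs
open scoped commutatorElement

/-- A normal `p`-subgroup `R` of `G` is elementary abelian. -/
theorem normal_pgroup_elem {G : Type*} [Group G] [Finite G] {p : ℕ} [Fact p.Prime] (P : Sylow p G) (h : Hyp p P)
    (R : Subgroup G) (hR : R.Normal) (hRp : IsPGroup p R) :
    (∀ x ∈ R, ∀ y ∈ R, x * y = y * x) ∧ ∀ x ∈ R, x ^ p = 1 := by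
  have hRP : R ≤ (P : Subgroup G) := hRp.le_sylow_of_normal P
  have hbot : ∀ z : G, (∀ b : G, b * z * b⁻¹ ∈ Phi P) → z = 1 := by
    intro z hz
    have : z ∈ (Phi P).normalCore := hz
    rw [h.frat] at this
    exact Subgroup.mem_bot.1 this
  have hcomm : ∀ x ∈ (P : Subgroup G), ∀ y ∈ (P : Subgroup G), x * y * x⁻¹ * y⁻¹ ∈ Phi P := by
    intro x hx y hy
    refine ⟨⁅(⟨x, hx⟩ : ↥(P : Subgroup G)), ⟨y, hy⟩⁆, ?_, ?_⟩
    · apply Helper3PGroup.commutator_le_frattini P.2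
      rw [commutator_def]
      exact Subgroup.commutator_mem_commutator (Subgroup.mem_top _) (Subgroup.mem_top _)
    · simp [commutatorElement_def]
  have hpow : ∀ x ∈ (P : Subgroup G), x ^ p ∈ Phi P := by
    intro x hx
    exact ⟨(⟨x, hx⟩ : ↥(P : Subgroup G)) ^ p, Helper3PGroup.pow_mem_frattini P.2 _, by simp⟩
  constructor
  · intro x hx y hy
    have h1 : x * y * x⁻¹ * y⁻¹ = 1 := by
      apply hbot
      intro b
      have h2 := hcomm (b * x * b⁻¹) (hRP (hR.conj_mem x hx b)) (b * y * b⁻¹) (hRP (hR.conj_mem y hy b))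
      have h3 : b * x * b⁻¹ * (b * y * b⁻¹) * (b * x * b⁻¹)⁻¹ * (b * y * b⁻¹)⁻¹ = b * (x * y * x⁻¹ * y⁻¹) * b⁻¹ := by
        group
      rwa [h3] at h2
    have h4 : x * y * x⁻¹ = y := by
      rwa [mul_inv_eq_one] at h1
    rwa [mul_inv_eq_iff_eq_mul] at h4
  · intro x hx
    apply hbot
    intro b
    have h2 := hpow (b * x * b⁻¹) (hRP (hR.conj_mem x hx b))
    rwa [conj_pow] at h2

end Cfsg.Agent.Lib.H73TgEA
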