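import Cfsg.Agent.Lib.H73TgDefs
import Cfsg.Agent.Lib.H73TgAv

set_option autoImplicit false

namespace Cfsg.Agent.Lib.H73TgFix

theorem mem_of_pow_mem {G : Type*} [Group G] (N : Subgroup G) (c : G) (m p : ℕ) (hmp : m.Coprime p) (h1 : c ^ m ∈ N)
    (h2 : c ^ p = 1) : c ∈ N := by
  have h := Nat.gcd_eq_gcd_ab m p
  rw [hmp] at h
  have h3 : c = (c ^ m) ^ (Nat.gcdA m p) * (c ^ p) ^ (Nat.gcdB m p) := by
    rw [← zpow_natCast c m, ← zpow_natCast c p, ← zpow_mul, ← zpow_mul, ← zpow_add, ← h]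
    simp
  rw [h3, h2, one_zpow, mul_one]
  exact N.zpow_mem h1 _

open scoped IsMulCommutative in
theorem exists_fixed_conj {G : Type*} [Group G] [Finite G] {p : ℕ} [Fact p.Prime] (P : Sylow p G) (F N Y : Subgroup G)
    (hF : F.Normal) (hNF : N ≤ F) (hab : ∀ x ∈ F, ∀ y ∈ F, x * y = y * x) (hPY : (P : Subgroup G) ≤ Y)
    (hY : ∀ y ∈ Y, ∀ f ∈ F, y * f * y⁻¹ * f⁻¹ ∈ N) (c : G) (hc : c ∈ F) (hcP : ∀ x ∈ (P : Subgroup G), x * c = c * x)
    (hcp : c ^ p = 1) (hcN : c ∉ N) : ∃ v ∈ F, v ∉ N ∧ ∀ y ∈ Y, y * v = v * y := by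
  haveI : IsMulCommutative ↥F := ⟨⟨fun a b => Subtype.ext (hab _ a.2 _ b.2)⟩⟩
  letI : MulDistribMulAction ↥Y ↥F :=
    MulDistribMulAction.compHom ↥F ((MulAut.conjNormal (H := F)).comp Y.subtype)
  have hsm : ∀ (y : ↥Y) (f : ↥F), ((y • f : ↥F) : G) = (y : G) * f * (y : G)⁻¹ := by
    intro y f
    rfl
  obtain ⟨v, hv1, hv2⟩ := H73TgAv.exists_fixed (Y := ↥Y) (N.subgroupOf F) (⟨c, hc⟩ : ↥F) (by
    intro y
    rw [Subgroup.mem_subgroupOf]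
    exact hY y y.2 c hc)
  have hdvd := H73TgAv.card_orbit_dvd (Y := ↥Y) ((P : Subgroup G).subgroupOf Y) (⟨c, hc⟩ : ↥F) (by
    intro q hq
    apply Subtype.ext
    rw [hsm]
    have := hcP q (Subgroup.mem_subgroupOf.1 hq)
    show (q : G) * c * (q : G)⁻¹ = c
    rw [this, mul_inv_cancel_right])
  have hcop : (Nat.card (MulAction.orbit ↥Y (⟨c, hc⟩ : ↥F))).Coprime p := by
    have h1 : ((P : Subgroup G).subgroupOf Y).index ∣ (P : Subgroup G).index :=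
      Subgroup.relIndex_dvd_index_of_le hPY
    have h2 : ¬ p ∣ Nat.card (MulAction.orbit ↥Y (⟨c, hc⟩ : ↥F)) :=
      fun h => P.not_dvd_index (h.trans (hdvd.trans h1))
    exact ((Nat.Prime.coprime_iff_not_dvd Fact.out).2 h2).symm
  refine ⟨v, v.2, ?_, ?_⟩
  · intro hvN
    apply hcN
    apply mem_of_pow_mem N c _ p hcop _ hcp
    have h3 : (v : G) * (c ^ Nat.card (MulAction.orbit ↥Y (⟨c, hc⟩ : ↥F)))⁻¹ ∈ N := Subgroup.mem_subgroupOf.1 hv2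
    have h4 := N.mul_mem (N.inv_mem h3) hvN
    simpa using h4
  · intro y hy
    have h5 := congrArg (Subtype.val) (hv1 ⟨y, hy⟩)
    rw [hsm] at h5
    exact mul_inv_eq_iff_eq_mul.1 h5

end Cfsg.Agent.Lib.H73TgFix
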