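import Cfsg.Agent.Lib.H73TgDefs
import Cfsg.Agent.Lib.H73TgGen

set_option autoImplicit false

namespace Cfsg.Agent.Lib.H73TgGenG

open Cfsg.Agent.Lib.H73TgDefs

/-- the abstract form, for an arbitrary subgroup `Q` in place of the Sylow subgroup -/
theorem exists_gen_aux {G : Type*} [Group G] [Finite G] {p : ℕ} [Fact p.Prime] (Q : Subgroup G) (hQ : IsPGroup p ↥Q)
    (hgen : (frattini ↥Q).index = p ^ 2) (K : Subgroup G) (hK : K.Normal)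
    (hK' : ¬ K ⊓ Q ≤ (frattini ↥Q).map Q.subtype) :
    ∃ g ∈ Q, ∀ x ∈ Q, ∃ k : ℤ, ∃ a ∈ K, x = a * g ^ k := by
  have hAn : (K.subgroupOf Q).Normal := hK.subgroupOf _
  have hA : ¬ K.subgroupOf Q ≤ frattini ↥Q := by
    intro hle
    apply hK'
    intro x hx
    have hxP : x ∈ Q := hx.2
    have h1 : (⟨x, hxP⟩ : ↥Q) ∈ K.subgroupOf Q := Subgroup.mem_subgroupOf.2 hx.1
    exact Subgroup.mem_map.2 ⟨⟨x, hxP⟩, hle h1, rfl⟩
  obtain ⟨g, hg⟩ := H73TgGen.exists_gen hQ hgen (K.subgroupOf Q) hA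
  refine ⟨g.1, g.2, fun x hx => ?_⟩
  have hx' : (⟨x, hx⟩ : ↥Q) ∈ K.subgroupOf Q ⊔ Subgroup.zpowers g := by
    rw [hg]; exact Subgroup.mem_top _
  have hx'' : (⟨x, hx⟩ : ↥Q) ∈ ((K.subgroupOf Q ⊔ Subgroup.zpowers g : Subgroup ↥Q) : Set ↥Q) := hx'
  rw [Subgroup.normal_mul] at hx''
  obtain ⟨a, ha, b, hb, hab⟩ := Set.mem_mul.1 hx''
  obtain ⟨k, rfl⟩ := Subgroup.mem_zpowers_iff.1 hb
  refine ⟨k, a.1, Subgroup.mem_subgroupOf.1 ha, ?_⟩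
  have h2 := congrArg Subtype.val hab
  rw [Subgroup.coe_mul, Subgroup.coe_zpow] at h2
  exact h2.symm

/-- Transport of `H73TgGen.exists_gen` to `G`: `A := K.subgroupOf P` is normal in `↥P`, `¬ A ≤ frattini ↥P` (as in piece Two), `P.2 : IsPGroup p ↥P`.
From `A ⊔ zpowers g = ⊤`: every `x : ↥P` is `a * g ^ k` (`Subgroup.mem_sup`, `Subgroup.mem_zpowers_iff`); take coercions. -/
theorem exists_gen {G : Type*} [Group G] [Finite G] {p : ℕ} [Fact p.Prime] (P : Sylow p G)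
    (hgen : (frattini ↥(P : Subgroup G)).index = p ^ 2) (K : Subgroup G) (hK : K.Normal)
    (hK' : ¬ K ⊓ (P : Subgroup G) ≤ Phi P) :
    ∃ g ∈ (P : Subgroup G), ∀ x ∈ (P : Subgroup G), ∃ k : ℤ, ∃ a ∈ K, x = a * g ^ k :=
  exists_gen_aux (P : Subgroup G) P.2 hgen K hK hK'

end Cfsg.Agent.Lib.H73TgGenG
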