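import Cfsg.Agent.Lib.H73TgDefs
import Cfsg.Agent.Lib.Helper27Core

set_option autoImplicit false

namespace Cfsg.Agent.Lib.H73TgPC

/-- PURE MATHLIB.  A complement `M` of a Sylow `p`-subgroup `Q` has order prime to `p`:
`hc.index_eq_card`-style (`Subgroup.IsComplement'.index_eq_card`, `.symm`) + `Sylow.card_coprime_index` / `Q.not_dvd_index`. -/
theorem card_compl_coprime {K : Type*} [Group K] [Finite K] {p : ℕ} [Fact p.Prime] (Q : Sylow p K) (M : Subgroup K)
    (hc : M.IsComplement' (Q : Subgroup K)) : (Nat.card M).Coprime p := by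
  have h1 : (Q : Subgroup K).index = Nat.card M := hc.index_eq_card
  rw [← h1, Nat.coprime_comm]
  exact (Nat.Prime.coprime_iff_not_dvd Fact.out).2 Q.not_dvd_index

/-- `obtain ⟨Q, M, hMn, hc⟩ := h`.  `M.map K.subtype` is subnormal in `G` (`(Helper27Basic.isSubnormal_map_subtype_iff hK M).2 hMn.isSubnormal`-style), of order
prime to `p` (`card_compl_coprime`, `Subgroup.card_map_of_injective`), so it is `≤ pPrimeCore p G = ⊥` (`Helper27Core.subnormal_le_pPrimeCore`); hence `M = ⊥`,
`Q = ⊤` (`hc.card_mul` or `Subgroup.isComplement'_bot_left`), and `↥K` is a `p`-group (`Q.2`, `IsPGroup.of_equiv`/`Subgroup.topEquiv`, or `IsPGroup.of_card`). -/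
theorem isPGroup_of_compl {G : Type*} [Group G] [Finite G] {p : ℕ} [Fact p.Prime] (hcore : Cfsg.pPrimeCore p G = ⊥)
    (K : Subgroup G) (hK : K.IsSubnormal) (h : Cfsg.HasNormalPComplement p K) : IsPGroup p K := by
  obtain ⟨Q, M, hMn, hc⟩ := h
  have hsub : (M.map K.subtype).IsSubnormal :=
    (Helper27Basic.isSubnormal_map_subtype_iff hK M).2 hMn.isSubnormal
  have hcop : (Nat.card (M.map K.subtype)).Coprime p := by
    rw [Subgroup.card_map_of_injective K.subtype_injective]
    exact card_compl_coprime Q M hc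
  have hle := Helper27Core.subnormal_le_pPrimeCore hsub hcop
  rw [hcore, le_bot_iff] at hle
  have hM : M = ⊥ := by
    rw [← Subgroup.map_bot K.subtype] at hle
    exact Subgroup.map_injective K.subtype_injective hle
  subst hM
  have hQ : (Q : Subgroup ↥K) = ⊤ := Subgroup.isComplement'_bot_left.1 hc
  have := Q.2
  rw [hQ] at this
  exact this.of_equiv Subgroup.topEquiv

end Cfsg.Agent.Lib.H73TgPC
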