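import Cfsg.Agent.Lib.H73TgDefs
import Cfsg.Agent.Lib.H73TgPC
import Cfsg.Agent.S0081

set_option autoImplicit false

namespace Cfsg.Agent.Lib.H73TgNF

open Cfsg.Agent.Lib.H73TgDefs

theorem not_le_Phi {G : Type*} [Group G] [Finite G] {p : ℕ} [Fact p.Prime] (P : Sylow p G) (h : Hyp p P)
    (K : Subgroup G) (hK : K.Normal) (hK1 : K ≠ ⊥) : ¬ K ⊓ (P : Subgroup G) ≤ Phi P := by
  intro hle
  haveI := hK
  have h1 := Cfsg.Agent.S0081.result P K hle
  have h2 := H73TgPC.isPGroup_of_compl h.core K hK.isSubnormal h1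
  have h3 : K ≤ (P : Subgroup G) := h2.le_sylow_of_normal P
  have h4 : K ≤ Phi P := (le_inf le_rfl h3).trans hle
  have h5 : K ≤ (Phi P).normalCore := Subgroup.normal_le_normalCore.2 h4
  rw [h.frat, le_bot_iff] at h5
  exact hK1 h5

end Cfsg.Agent.Lib.H73TgNF
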