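import Cfsg.Agent.Lib.H73TgDefs
import Cfsg.Agent.Lib.H73TgNF
import Cfsg.Agent.Lib.H73TgGenG
import Cfsg.Agent.Lib.H73TgEA
import Cfsg.Agent.Lib.H73TgFix
import Cfsg.Agent.Lib.H73TgCM
import Cfsg.Agent.Lib.H73TgDec
import Cfsg.Agent.Lib.Helper28Fitting

set_option autoImplicit false

namespace Cfsg.Agent.Lib.H73TgC1

open Cfsg.Agent.Lib.H73TgDefs

/-- ASSEMBLY of case 1. -/
theorem fitting_le {G : Type*} [Group G] [Finite G] {p : ℕ} [Fact p.Prime] (P : Sylow p G) (h : Hyp p P)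
    (N : Subgroup G) (hN : Mono N) (hF : Cfsg.fittingSubgroup G ≠ ⊥) (hFp : IsPGroup p (Cfsg.fittingSubgroup G)) :
    Cfsg.fittingSubgroup G ≤ N := by
  have hFn : (Cfsg.fittingSubgroup G).Normal := Cfsg.Agent.Lib.Helper28Fitting.fitting_normal
  set F := Cfsg.fittingSubgroup G with hFdef
  have hNn : N.Normal := hN.1
  have hNF : N ≤ F := hN.2.2 F hFn hF
  have hFP : F ≤ (P : Subgroup G) := hFp.le_sylow_of_normal P
  obtain ⟨hab, hexp⟩ := H73TgEA.normal_pgroup_elem P h F hFn hFp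
  obtain ⟨g, hgP, hg⟩ := H73TgGenG.exists_gen P h.gen N hN.1 (H73TgNF.not_le_Phi P h N hN.1 hN.2.1)
  obtain ⟨Y, hYn, hY⟩ := H73TgCM.exists_cenMod F N hFn hNn
  intro f₀ hf₀
  by_contra hf₀N
  obtain ⟨a, haN, c, hcF, hfac, hcP⟩ := H73TgDec.decomp (P : Subgroup G) F N hNF hFP hab g hg f₀ hf₀
  have hcN : c ∉ N := by
    intro hc
    exact hf₀N (hfac ▸ mul_mem haN hc)
  have hPY : (P : Subgroup G) ≤ Y := by
    intro x hx
    rw [hY]
    intro f hf
    obtain ⟨a', ha'N, c', hc'F, hfac', hc'P⟩ := H73TgDec.decomp (P : Subgroup G) F N hNF hFP hab g hg f hf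
    have hxc : x * c' = c' * x := hc'P x hx
    have : x * f * x⁻¹ * f⁻¹ = (x * a' * x⁻¹) * a'⁻¹ := by
      rw [hfac']
      have h1 : x * (a' * c') * x⁻¹ = (x * a' * x⁻¹) * c' := by
        have : c' * x⁻¹ = x⁻¹ * c' := by
          have := congrArg (fun t => x⁻¹ * t * x⁻¹) hxc
          simp only [mul_assoc, inv_mul_cancel_left, mul_inv_cancel, mul_one] at this
          exact this
        calc x * (a' * c') * x⁻¹ = x * a' * (c' * x⁻¹) := by group
          _ = x * a' * (x⁻¹ * c') := by rw [this]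
          _ = (x * a' * x⁻¹) * c' := by group
      rw [h1]
      group
    rw [this]
    exact mul_mem (hNn.conj_mem a' ha'N x) (inv_mem ha'N)
  obtain ⟨v, hvF, hvN, hvY⟩ := H73TgFix.exists_fixed_conj P F N Y hFn hNF hab hPY
    (fun y hy => (hY y).1 hy) c hcF hcP (hexp c hcF) hcN
  have hCn : (Subgroup.centralizer (Y : Set G)).Normal := inferInstance
  have hDn : (F ⊓ Subgroup.centralizer (Y : Set G)).Normal := Subgroup.normal_inf_normal _ _
  have hvD : v ∈ F ⊓ Subgroup.centralizer (Y : Set G) := by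
    refine Subgroup.mem_inf.2 ⟨hvF, ?_⟩
    rw [Subgroup.mem_centralizer_iff]
    intro y hy
    exact hvY y hy
  have hD1 : F ⊓ Subgroup.centralizer (Y : Set G) ≠ ⊥ := by
    intro hbot
    rw [hbot, Subgroup.mem_bot] at hvD
    exact hvN (hvD ▸ one_mem N)
  have hND := hN.2.2 _ hDn hD1
  have hcomm := H73TgDec.comm_of_central (P : Subgroup G) N (hNF.trans hFP) g hg (by
    intro a ha x hx
    have := (Subgroup.mem_inf.1 (hND ha)).2
    rw [Subgroup.mem_centralizer_iff] at this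
    exact this x (hPY hx))
  exact h.na ⟨⟨fun x y => Subtype.ext (hcomm x x.2 y y.2)⟩⟩

end Cfsg.Agent.Lib.H73TgC1
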