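import Cfsg.Agent.Lib.H73TgDefs
import Cfsg.Agent.Lib.Helper27Basic
import Cfsg.Agent.Lib.Helper28Fitting

set_option autoImplicit false

namespace Cfsg.Agent.Lib.H73TgC2

open Cfsg.Agent.Lib.H73TgDefs

theorem fstar_le {G : Type*} [Group G] [Finite G] (N : Subgroup G) (hN : Mono N) (hF : Cfsg.fittingSubgroup G = ⊥) :
    Cfsg.generalizedFittingSubgroup G ≤ N := by
  unfold Cfsg.generalizedFittingSubgroup Cfsg.layer
  rw [hF, sup_bot_eq]
  apply sSup_le
  intro L hL
  haveI := hN.1
  rcases Helper27Basic.comp_le_or_comm hL hN.1.isSubnormal with h | h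
  · exact h
  · exfalso
    rw [Helper27Basic.comm_eq_bot_iff] at h
    have h1 : L ≤ Subgroup.centralizer (N : Set G) := by
      intro a ha
      rw [Subgroup.mem_centralizer_iff]
      intro b hb
      exact (h a ha b hb).symm
    have h2 : Subgroup.centralizer (N : Set G) ≠ ⊥ := by
      intro h0
      rw [h0, le_bot_iff] at h1
      exact (Helper27Basic.isComponent_iff.1 hL).2.ne_bot h1
    have h3 := hN.2.2 _ inferInstance h2
    have h4 : IsMulCommutative ↥N := ⟨⟨fun a b => Subtype.ext
      ((Subgroup.mem_centralizer_iff.1 (h3 b.2)) a a.2)⟩⟩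
    have h5 : Group.IsNilpotent ↥N := by
      letI : CommGroup ↥N := { (inferInstance : Group ↥N) with mul_comm := h4.is_comm.comm }
      infer_instance
    have h6 := Helper28Fitting.le_fitting hN.1 h5
    rw [hF, le_bot_iff] at h6
    exact hN.2.1 h6

end Cfsg.Agent.Lib.H73TgC2
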