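import Cfsg.Agent.Lib.H73TgDefs

set_option autoImplicit false

namespace Cfsg.Agent.Lib.H73TgCyc

theorem isCyclic_map {G : Type*} [Group G] (P N : Subgroup G) [N.Normal] (g : G) (hg : g ∈ P)
    (h : ∀ x ∈ P, ∃ k : ℤ, ∃ a ∈ N, x = a * g ^ k) : IsCyclic ↥(P.map (QuotientGroup.mk' N)) := by
  refine ⟨⟨⟨QuotientGroup.mk' N g, Subgroup.mem_map_of_mem _ hg⟩, ?_⟩⟩
  rintro ⟨y, x, hx, rfl⟩
  obtain ⟨k, a, ha, rfl⟩ := h x hx
  refine ⟨k, ?_⟩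
  apply Subtype.ext
  have h1 : QuotientGroup.mk' N a = 1 := (QuotientGroup.eq_one_iff a).2 ha
  simp only [Subgroup.coe_zpow, map_mul, map_zpow, h1, one_mul]

end Cfsg.Agent.Lib.H73TgCyc
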