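import Mathlib
import Cfsg.Prelude.Def_Local
import Cfsg.Prelude.Def_Solvable
import Cfsg.Prelude.Def_Transfer

/-! Vocabulary for row S4172 (project 4172 = TG): two-generated non-abelian Sylow `p`-subgroup, `O_{p'}(G) = 1`,
no normal subgroup of `G` inside `Φ(P)`  ⟹  `F*(G)` is the unique minimal normal subgroup, ... -/

set_option autoImplicit false

namespace Cfsg.Agent.Lib.H73TgDefs

variable {G : Type*} [Group G]

/-- `Φ(P)` as a subgroup of `G` -/
abbrev Phi {p : ℕ} (P : Sylow p G) : Subgroup G :=
  (frattini ↥(P : Subgroup G)).map (P : Subgroup G).subtype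

/-- the standing hypotheses of the row -/
structure Hyp (p : ℕ) (P : Sylow p G) : Prop where
  na : ¬ IsMulCommutative (P : Subgroup G)
  gen : (frattini ↥(P : Subgroup G)).index = p ^ 2
  core : Cfsg.pPrimeCore p G = ⊥
  frat : (Phi P).normalCore = ⊥

/-- `N` is the monolith: a nontrivial normal subgroup contained in every nontrivial normal subgroup -/
def Mono (N : Subgroup G) : Prop :=
  N.Normal ∧ N ≠ ⊥ ∧ ∀ K : Subgroup G, K.Normal → K ≠ ⊥ → N ≤ K

end Cfsg.Agent.Lib.H73TgDefs
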