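import Cfsg.Agent.Lib.H73TgDefs
import Cfsg.Agent.Lib.Helper27Basic
import Cfsg.Agent.S1317

set_option autoImplicit false

namespace Cfsg.Agent.Lib.H73TgDisj

open Cfsg.Agent.Lib.Helper27Basic in
/-- Two complementary families of components generate subgroups meeting trivially when `F(G) = 1`. -/
theorem inf_eq_bot {G : Type*} [Group G] [Finite G] (hF : Cfsg.fittingSubgroup G = ⊥) (𝒜 ℬ : Set (Subgroup G))
    (hA : ∀ M ∈ 𝒜, Cfsg.IsComponent M) (hB : ∀ M ∈ ℬ, Cfsg.IsComponent M)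
    (hAB : ∀ M : Subgroup G, Cfsg.IsComponent M → M ∈ 𝒜 ∨ M ∈ ℬ) (hd : ∀ M ∈ 𝒜, M ∉ ℬ) :
    sSup 𝒜 ⊓ sSup ℬ = ⊥ := by
  have h1 : ∀ A ∈ 𝒜, ∀ B ∈ ℬ, ⁅A, B⁆ = ⊥ := by
    intro A hAm B hBm
    refine comp_comm (hA A hAm) (hB B hBm) ?_
    rintro rfl
    exact hd A hAm hBm
  have h2 : ⁅sSup 𝒜, sSup ℬ⁆ = ⊥ := by
    refine comm_sSup_eq_bot fun A hAm => ?_
    refine comm_eq_bot_symm (comm_sSup_eq_bot fun B hBm => ?_)
    exact comm_eq_bot_symm (h1 A hAm B hBm)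
  have h3 := comm_eq_bot_iff.1 h2
  rw [eq_bot_iff]
  intro z hz
  obtain ⟨hzA, hzB⟩ := hz
  have hcen : sSup 𝒜 ⊔ sSup ℬ ≤ Subgroup.centralizer {z} := by
    refine sup_le ?_ ?_
    · intro a ha
      rw [Subgroup.mem_centralizer_singleton_iff]
      exact h3 a ha z hzB
    · intro b hb
      rw [Subgroup.mem_centralizer_singleton_iff]
      exact (h3 z hzA b hb).symm
  have hlay : Cfsg.layer G ≤ sSup 𝒜 ⊔ sSup ℬ := by
    unfold Cfsg.layer
    refine sSup_le fun M hM => ?_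
    rcases hAB M hM with h | h
    · exact (le_sSup h).trans le_sup_left
    · exact (le_sSup h).trans le_sup_right
  have hzl : z ∈ Cfsg.layer G := by
    have : sSup 𝒜 ≤ Cfsg.layer G := by
      unfold Cfsg.layer
      exact sSup_le_sSup fun M hM => hA M hM
    exact this hzA
  have hzc : z ∈ (Subgroup.center ↥(Cfsg.layer G)).map (Cfsg.layer G).subtype := by
    refine ⟨⟨z, hzl⟩, ?_, rfl⟩
    rw [SetLike.mem_coe, Subgroup.mem_center_iff]
    intro y
    apply Subtype.ext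
    have := hcen (hlay y.2)
    rw [Subgroup.mem_centralizer_singleton_iff] at this
    exact this
  rw [Cfsg.Agent.S1317.result, hF] at hzc
  exact hzc.1

end Cfsg.Agent.Lib.H73TgDisj
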