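import Cfsg.Agent.Lib.H73TgDefs

set_option autoImplicit false

namespace Cfsg.Agent.Lib.H73TgTr

/-- PURE MATHLIB (transfer): `Z(X) ∩ X' ∩ Q ≤ Q'`.  Let `ϕ : ↥Q →* Abelianization ↥Q := Abelianization.of`, `V := MonoidHom.transfer ϕ : X →* Abelianization ↥Q`.
`MonoidHom.transfer_eq_pow z key : V z = ϕ ⟨z ^ Q.index, _⟩` where `key` holds because `z` (and `z^k`) is central (`Subgroup.mem_center_iff`).
`V z = 1` because `z ∈ commutator X` and the target is commutative (`Abelianization.commutator_subset_ker V hz'`).  So `w := (⟨z, hzQ⟩ : ↥Q)` satisfies `ϕ w ^ Q.index = 1`;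
also `ϕ w ^ (p ^ k) = 1` (`Q.2 w`); `Q.index` is prime to `p` (`Q.not_dvd_index`), so `ϕ w = 1` (`orderOf_dvd_of_pow_eq_one` twice, `Nat.Coprime`, or `pow_gcd_eq_one`/`Nat.Coprime.pow_right`),
i.e. `w ∈ commutator ↥Q` (`Abelianization.ker_of`), and `Subgroup.map_subtype_commutator : (commutator ↥Q).map Q.subtype = ⁅Q, Q⁆`. -/
theorem center_comm_sylow {X : Type*} [Group X] [Finite X] {p : ℕ} [Fact p.Prime] (Q : Sylow p X) (z : X)
    (hz : z ∈ Subgroup.center X) (hz' : z ∈ commutator X) (hzQ : z ∈ (Q : Subgroup X)) :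
    z ∈ ⁅(Q : Subgroup X), (Q : Subgroup X)⁆ := by
  have hp : p.Prime := Fact.out
  let ϕ : ↥(Q : Subgroup X) →* Abelianization ↥(Q : Subgroup X) := Abelianization.of
  have key : ∀ (k : ℕ) (g₀ : X), g₀⁻¹ * z ^ k * g₀ ∈ (Q : Subgroup X) → g₀⁻¹ * z ^ k * g₀ = z ^ k := by
    intro k g₀ _
    have hzk : z ^ k ∈ Subgroup.center X := pow_mem hz k
    have := Subgroup.mem_center_iff.1 hzk g₀
    rw [mul_assoc, ← this, ← mul_assoc, inv_mul_cancel, one_mul]
  have h1 := MonoidHom.transfer_eq_pow (H := (Q : Subgroup X)) ϕ z key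
  have h2 : MonoidHom.transfer ϕ z = 1 := Abelianization.commutator_subset_ker (MonoidHom.transfer ϕ) hz'
  let w : ↥(Q : Subgroup X) := ⟨z, hzQ⟩
  have h3 : ϕ w ^ (Q : Subgroup X).index = 1 := by
    rw [← map_pow, ← h2, h1]
    rfl
  obtain ⟨k, hk⟩ := Q.2 w
  have h4 : ϕ w ^ (p ^ k) = 1 := by rw [← map_pow, hk, map_one]
  have hcop : Nat.Coprime (Q : Subgroup X).index (p ^ k) :=
    Nat.Coprime.pow_right k ((Nat.Coprime.symm ((Nat.Prime.coprime_iff_not_dvd hp).2 Q.not_dvd_index)))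
  have h5 : ϕ w = 1 := by
    have := pow_gcd_eq_one.2 ⟨h3, h4⟩
    rw [Nat.Coprime.gcd_eq_one hcop, pow_one] at this
    exact this
  have h6 : w ∈ commutator ↥(Q : Subgroup X) := by
    rw [← Abelianization.ker_of]
    exact h5
  rw [← Subgroup.map_subtype_commutator]
  exact ⟨w, h6, rfl⟩

end Cfsg.Agent.Lib.H73TgTr
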