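import Cfsg.Agent.Lib.H73TgDefs
import Cfsg.Agent.Lib.H73TgTr

set_option autoImplicit false

namespace Cfsg.Agent.Lib.H73TgE0a

/-- central `p`-elements of a perfect subgroup `E` are conjugated into `P'` by a single `g`. -/
theorem exists_conj {G : Type*} [Group G] [Finite G] {p : ℕ} [Fact p.Prime] (P : Sylow p G) (E : Subgroup G) (hE : ⁅E, E⁆ = E) :
    ∃ g : G, ∀ z ∈ E, (∀ x ∈ E, x * z = z * x) → (∃ k : ℕ, z ^ p ^ k = 1) →
      g * z * g⁻¹ ∈ ⁅(P : Subgroup G), (P : Subgroup G)⁆ := by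
  let Q : Sylow p ↥E := default
  have hQp : IsPGroup p ((Q : Subgroup ↥E).map E.subtype) := Q.2.map _
  obtain ⟨P', hP'⟩ := hQp.exists_le_sylow
  obtain ⟨g, hg⟩ := MulAction.exists_smul_eq G P' P
  refine ⟨g, ?_⟩
  intro z hz hzc hzp
  let z' : ↥E := ⟨z, hz⟩
  have hz'c : z' ∈ Subgroup.center ↥E := by
    rw [Subgroup.mem_center_iff]
    intro y
    exact Subtype.ext (hzc y y.2)
  have hcomm : commutator ↥E = ⊤ := by
    apply Subgroup.map_injective E.subtype_injective
    rw [Subgroup.map_subtype_commutator, hE, ← MonoidHom.range_eq_map, Subgroup.range_subtype]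
  have hz'comm : z' ∈ commutator ↥E := by rw [hcomm]; trivial
  have hz'Q : z' ∈ (Q : Subgroup ↥E) := by
    have hn : (Subgroup.zpowers z').Normal := by
      refine ⟨fun n hn y => ?_⟩
      have hnc : n ∈ Subgroup.center ↥E := by
        have : Subgroup.zpowers z' ≤ Subgroup.center ↥E := by
          rw [Subgroup.zpowers_le]; exact hz'c
        exact this hn
      rw [Subgroup.mem_center_iff] at hnc
      rw [hnc y, mul_inv_cancel_right]
      exact hn
    have hpz : IsPGroup p (Subgroup.zpowers z') := by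
      obtain ⟨k, hk⟩ := hzp
      have hk' : z' ^ p ^ k = 1 := Subtype.ext hk
      obtain ⟨j, -, hj⟩ := (Nat.dvd_prime_pow (Fact.out : p.Prime)).1 (orderOf_dvd_of_pow_eq_one hk')
      refine IsPGroup.of_card (n := j) ?_
      rw [Nat.card_zpowers, hj]
    exact hpz.le_sylow_of_normal Q (Subgroup.mem_zpowers z')
  have h1 := H73TgTr.center_comm_sylow Q z' hz'c hz'comm hz'Q
  have h2 : z ∈ ⁅(P' : Subgroup G), (P' : Subgroup G)⁆ := by
    have : z ∈ (⁅(Q : Subgroup ↥E), (Q : Subgroup ↥E)⁆).map E.subtype := ⟨z', h1, rfl⟩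
    rw [Subgroup.map_commutator] at this
    exact Subgroup.commutator_mono hP' hP' this
  have h3 : g * z * g⁻¹ ∈ (⁅(P' : Subgroup G), (P' : Subgroup G)⁆).map (MulAut.conj g).toMonoidHom :=
    ⟨z, h2, by simp [MulAut.conj_apply]⟩
  rw [Subgroup.map_commutator] at h3
  have h4 : (P' : Subgroup G).map (MulAut.conj g).toMonoidHom = (P : Subgroup G) := by
    rw [← hg, Sylow.coe_subgroup_smul]
    rfl
  rwa [h4] at h3

end Cfsg.Agent.Lib.H73TgE0a
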