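import Cfsg.Agent.Lib.H73TgDefs
import Cfsg.Agent.Lib.H73TgE0a
import Cfsg.Agent.Lib.Helper27Balance
import Cfsg.Agent.Lib.Helper28Fitting
import Cfsg.Agent.Lib.Helper3PGroup
import Cfsg.Agent.S1317

set_option autoImplicit false

namespace Cfsg.Agent.Lib.H73TgE0

open Cfsg.Agent.Lib.H73TgDefs

/-- Suppose `E := layer G ≠ ⊥`.  `E` is normal (`Helper27Balance.layer_normal G`) and `F := fittingSubgroup G` is normal (see `Helper28Fitting`), both nontrivial, so `N ≤ F ⊓ E`,
and `F ⊓ E = (center ↥E).map E.subtype` (`Cfsg.Agent.S1317.result`).  So every `z ∈ N` lies in `E`, commutes with `E`, and is a `p`-element (`hFp ⟨z, _⟩`).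
`H73TgE0a.exists_conj P E (Helper27Balance.layer_perfect G)` gives `g`.  For `z ∈ N`, `w := g⁻¹ * z * g ∈ N` (normality), so `z = g * w * g⁻¹ ∈ ⁅P, P⁆ ≤ Phi P`
(`Subgroup.map_subtype_commutator`, `Helper3PGroup.commutator_le_frattini P.2`, `Subgroup.map_mono`).  Hence `N ≤ Phi P`, `N ≤ (Phi P).normalCore = ⊥` (`Subgroup.normal_le_normalCore`, `h.frat`): contradiction with `hN.2.1`. -/
theorem layer_eq_bot {G : Type*} [Group G] [Finite G] {p : ℕ} [Fact p.Prime] (P : Sylow p G) (h : Hyp p P)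
    (N : Subgroup G) (hN : Mono N) (hF : Cfsg.fittingSubgroup G ≠ ⊥) (hFp : IsPGroup p (Cfsg.fittingSubgroup G)) :
    Cfsg.layer G = ⊥ := by
  by_contra hE
  have hEn : (Cfsg.layer G).Normal := Helper27Balance.layer_normal G
  have hFn : (Cfsg.fittingSubgroup G).Normal := Helper28Fitting.fitting_normal
  have hNF : N ≤ Cfsg.fittingSubgroup G := hN.2.2 _ hFn hF
  have hNE : N ≤ Cfsg.layer G := hN.2.2 _ hEn hE
  have hNn : N.Normal := hN.1
  obtain ⟨g, hg⟩ := H73TgE0a.exists_conj P (Cfsg.layer G) (Helper27Balance.layer_perfect G)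
  have hcomm : ⁅(P : Subgroup G), (P : Subgroup G)⁆ ≤ Phi P := by
    rw [← Subgroup.map_subtype_commutator]
    exact Subgroup.map_mono (Helper3PGroup.commutator_le_frattini P.2)
  have hprop : ∀ w ∈ N, g * w * g⁻¹ ∈ ⁅(P : Subgroup G), (P : Subgroup G)⁆ := by
    intro w hw
    have hwZ : w ∈ (Subgroup.center ↥(Cfsg.layer G)).map (Cfsg.layer G).subtype := by
      rw [Cfsg.Agent.S1317.result]
      exact ⟨hNF hw, hNE hw⟩
    obtain ⟨w', hw', rfl⟩ := Subgroup.mem_map.1 hwZ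
    refine hg _ w'.2 ?_ ?_
    · intro x hx
      have := Subgroup.mem_center_iff.1 hw' ⟨x, hx⟩
      exact congrArg Subtype.val this
    · obtain ⟨k, hk⟩ := hFp ⟨_, hNF hw⟩
      exact ⟨k, congrArg Subtype.val hk⟩
  have hle : N ≤ Phi P := by
    intro z hz
    have hw : g⁻¹ * z * g ∈ N := by
      have := hNn.conj_mem z hz g⁻¹
      simpa using this
    have := hprop _ hw
    have h2 : g * (g⁻¹ * z * g) * g⁻¹ = z := by group
    rw [h2] at this
    exact hcomm this
  have hle2 : N ≤ (Phi P).normalCore := Subgroup.normal_le_normalCore.2 hle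
  rw [h.frat, le_bot_iff] at hle2
  exact hN.2.1 hle2

end Cfsg.Agent.Lib.H73TgE0
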