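import Cfsg.Agent.Lib.H73TgDefs
import Cfsg.Agent.Lib.Helper27Core
import Cfsg.Agent.Lib.Helper28Fitting

set_option autoImplicit false

namespace Cfsg.Agent.Lib.H73TgFP

/-- `F := fittingSubgroup G` is nilpotent (`Helper28Fitting.fitting_isNilpotent`) and normal.  Let `q ≠ p` be a prime and `Q : Sylow q ↥F`.  `Q` is normal in `↥F`
(`isNilpotent_of_finite_tfae`, item "all Sylow subgroups are normal"; or `Sylow.normal_of_all_max_subgroups_normal`..), so `Q.map F.subtype` is subnormal in `G`
(`Helper27Basic.isSubnormal_map_subtype_iff`), of order a power of `q`, prime to `p`; by `Helper27Core.subnormal_le_pPrimeCore` it is `≤ pPrimeCore p G = ⊥`; so `Q = ⊥` and `q ∤ Nat.card F`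
(`Sylow.card_eq_multiplicity` / `Sylow.ne_bot_of_dvd_card`).  Hence `Nat.card F` is a power of `p` (`Nat.eq_prime_pow_of_unique_prime_dvd`) and `IsPGroup.of_card`. -/
theorem fitting_isPGroup {G : Type*} [Group G] [Finite G] {p : ℕ} [Fact p.Prime] (hcore : Cfsg.pPrimeCore p G = ⊥) :
    IsPGroup p (Cfsg.fittingSubgroup G) := by
  have hp : p.Prime := Fact.out
  have hFn : (Cfsg.fittingSubgroup G).Normal := Helper28Fitting.fitting_normal
  have hnil : Group.IsNilpotent (Cfsg.fittingSubgroup G) := Helper28Fitting.fitting_isNilpotent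
  have hall : ∀ (q : ℕ) (_ : Fact q.Prime) (Q : Sylow q ↥(Cfsg.fittingSubgroup G)),
      (Q : Subgroup ↥(Cfsg.fittingSubgroup G)).Normal :=
    ((Group.isNilpotent_of_finite_tfae (G := ↥(Cfsg.fittingSubgroup G))).out 0 3).1 hnil
  have key : ∀ q : ℕ, q.Prime → q ∣ Nat.card (Cfsg.fittingSubgroup G) → q = p := by
    intro q hq hdvd
    by_contra hne
    have : Fact q.Prime := ⟨hq⟩
    let Q : Sylow q ↥(Cfsg.fittingSubgroup G) := default
    have hQn := hall q ⟨hq⟩ Q
    have hsub : ((Q : Subgroup ↥(Cfsg.fittingSubgroup G)).map (Cfsg.fittingSubgroup G).subtype).IsSubnormal :=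
      (Helper27Basic.isSubnormal_map_subtype_iff hFn.isSubnormal _).2 hQn.isSubnormal
    have hcop : (Nat.card ((Q : Subgroup ↥(Cfsg.fittingSubgroup G)).map
        (Cfsg.fittingSubgroup G).subtype)).Coprime p := by
      rw [Subgroup.card_map_of_injective (Subgroup.subtype_injective _)]
      obtain ⟨n, hn⟩ := IsPGroup.iff_card.1 Q.2
      rw [hn]
      exact Nat.Coprime.pow_left n ((Nat.coprime_primes hq hp).2 hne)
    have hle := Helper27Core.subnormal_le_pPrimeCore hsub hcop
    rw [hcore, le_bot_iff, ← Subgroup.map_bot (Cfsg.fittingSubgroup G).subtype] at hle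
    have hQ : (Q : Subgroup ↥(Cfsg.fittingSubgroup G)) = ⊥ :=
      Subgroup.map_injective (Subgroup.subtype_injective _) hle
    exact Q.ne_bot_of_dvd_card hdvd hQ
  have hpos : Nat.card (Cfsg.fittingSubgroup G) ≠ 0 := Nat.card_pos.ne'
  exact IsPGroup.of_card (Nat.eq_prime_pow_of_unique_prime_dvd hpos (fun {d} hd hdd => key d hd hdd))

end Cfsg.Agent.Lib.H73TgFP
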