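import Cfsg.Agent.Lib.H73TgDefs
import Cfsg.Agent.S1265

set_option autoImplicit false

namespace Cfsg.Agent.Lib.H73TgFSne

theorem fstar_ne_bot {G : Type*} [Group G] [Finite G] [Nontrivial G] : Cfsg.generalizedFittingSubgroup G ≠ ⊥ := by
  intro h
  have h1 := Cfsg.Agent.S1265.result (G := G)
  rw [h] at h1
  obtain ⟨x, hx⟩ := exists_ne (1 : G)
  apply hx
  have h2 : x ∈ Subgroup.centralizer (((⊥ : Subgroup G) : Subgroup G) : Set G) := by
    rw [Subgroup.mem_centralizer_iff]
    intro y hy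
    have : y = 1 := Subgroup.mem_bot.1 hy
    rw [this, one_mul, mul_one]
  exact Subgroup.mem_bot.1 (h1 h2)

end Cfsg.Agent.Lib.H73TgFSne
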