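import Cfsg.Agent.Lib.H73TgDefs

set_option autoImplicit false

namespace Cfsg.Agent.Lib.H73TgMono

open Cfsg.Agent.Lib.H73TgDefs

/-- PURE MATHLIB (lattice).  Take `N` minimal in the finite nonempty set `{K | K.Normal ∧ K ≠ ⊥}` (contains `⊤`; `Set.Finite.exists_minimal` / `(Set.toFinite _).exists_minimal`).
For `K` normal nontrivial, `N ⊓ K` is normal (`Subgroup.normal_inf_normal`), nontrivial by `h`, and `≤ N`; by minimality `N ≤ N ⊓ K ≤ K`. -/
theorem exists_mono {G : Type*} [Group G] [Finite G] [Nontrivial G]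
    (h : ∀ K1 K2 : Subgroup G, K1.Normal → K2.Normal → K1 ≠ ⊥ → K2 ≠ ⊥ → K1 ⊓ K2 ≠ ⊥) : ∃ N : Subgroup G, Mono N := by
  obtain ⟨N, hN, hmin⟩ := (Set.toFinite {K : Subgroup G | K.Normal ∧ K ≠ ⊥}).exists_minimal
    ⟨⊤, inferInstance, top_ne_bot⟩
  refine ⟨N, hN.1, hN.2, ?_⟩
  intro K hK hK1
  have h1 : (N ⊓ K).Normal := by
    have := hN.1
    have := hK
    infer_instance
  have h2 : N ⊓ K ≠ ⊥ := h N K hN.1 hK hN.2 hK1
  have h3 : N ≤ N ⊓ K := hmin ⟨h1, h2⟩ inf_le_left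
  exact h3.trans inf_le_right

end Cfsg.Agent.Lib.H73TgMono
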