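import Cfsg.Agent.Lib.H73TgDefs
import Cfsg.Agent.Lib.H73TgPC

set_option autoImplicit false

namespace Cfsg.Agent.Lib.H73TgPerfC

/-- `obtain ⟨Q, C, hCn, hc⟩ := h` (in the group `↥M`).  `↥M ⧸ C` has order `C.index = Nat.card Q` (`hc.index_eq_card`), a power of `p`, so it is a `p`-group (`IsPGroup.of_card`), nilpotent (`IsPGroup.isNilpotent`), solvable.
`commutator ↥M = ⊤` (from `hM` and `Subgroup.map_subtype_commutator M`, injectivity of `Subgroup.map M.subtype`), so `commutator (↥M ⧸ C) = ⊤` (`Subgroup.map_commutator`/`commutator_def`, `Subgroup.map_top_of_surjective`, `QuotientGroup.mk'_surjective`);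
a nontrivial solvable group has `commutator < ⊤` (`IsSolvable.commutator_lt_top_of_nontrivial`).  So `↥M ⧸ C` is trivial, `C = ⊤` (`QuotientGroup.subsingleton_quotient_top`-converse / `Subgroup.index_eq_one`, `Subgroup.index_eq_card`),
and `Nat.card ↥M = Nat.card C` (`Subgroup.card_top`) is prime to `p` by `H73TgPC.card_compl_coprime Q C hc`. -/
theorem coprime_of_perfect {G : Type*} [Group G] [Finite G] {p : ℕ} [Fact p.Prime] (M : Subgroup G) (hM : ⁅M, M⁆ = M)
    (h : Cfsg.HasNormalPComplement p M) : (Nat.card M).Coprime p := by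
  obtain ⟨Q, C, hCn, hc⟩ := h
  have hcop := H73TgPC.card_compl_coprime Q C hc
  have hperf : commutator ↥M = ⊤ := by
    apply Subgroup.map_injective M.subtype_injective
    rw [Subgroup.map_subtype_commutator, hM, ← MonoidHom.range_eq_map, Subgroup.range_subtype]
  have hidx : C.index = Nat.card (Q : Subgroup ↥M) := hc.symm.index_eq_card
  have hPG : IsPGroup p (↥M ⧸ C) := by
    obtain ⟨n, hn⟩ := IsPGroup.iff_card.1 Q.2
    apply IsPGroup.of_card (n := n)
    rw [← Subgroup.index_eq_card, hidx, hn]
  have : Group.IsNilpotent (↥M ⧸ C) := hPG.isNilpotent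
  have hq : commutator (↥M ⧸ C) = ⊤ := by
    have h1 : (commutator ↥M).map (QuotientGroup.mk' C) = commutator (↥M ⧸ C) := by
      rw [commutator_def, commutator_def, Subgroup.map_commutator,
        Subgroup.map_top_of_surjective _ (QuotientGroup.mk'_surjective C)]
    rw [← h1, hperf, Subgroup.map_top_of_surjective _ (QuotientGroup.mk'_surjective C)]
  have hsub : Subsingleton (↥M ⧸ C) := by
    by_contra hns
    rw [not_subsingleton_iff_nontrivial] at hns
    have := Group.IsSolvable.commutator_lt_top_of_nontrivial (↥M ⧸ C)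
    rw [hq] at this
    exact lt_irrefl _ this
  have hCtop : C = ⊤ := by
    rw [← Subgroup.index_eq_one, Subgroup.index_eq_card]
    exact Nat.card_eq_one_iff_unique.2 ⟨hsub, ⟨1⟩⟩
  rw [hCtop, Subgroup.card_top] at hcop
  exact hcop

end Cfsg.Agent.Lib.H73TgPerfC
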