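import Cfsg.Agent.Lib.H73TgDefs

set_option autoImplicit false

namespace Cfsg.Agent.Lib.H73TgTSb

/-- PURE MATHLIB transport.  `obtain ⟨Q, M, hMn, hc⟩ := h`.  `Q' : Sylow p B := Q.comapOfInjective e.symm.toMonoidHom e.symm.injective (by range = ⊤)` (coe: `Sylow.coe_comapOfInjective`, `= Q.comap e.symm`),
or build it from `Q.map e` with `Sylow.ofCard` (`Subgroup.card_map_of_injective`, `Nat.card_congr e.toEquiv`, `Sylow.card_eq_multiplicity`).  `M' := M.comap e.symm.toMonoidHom` (`hMn.comap _`) [or `M.map e.toMonoidHom`].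
`IsComplement'`: `Subgroup.isComplement'_of_disjoint_and_mul_eq_univ` or `Subgroup.isComplement'_of_card_mul_and_disjoint` (cards are preserved; `hc.card_mul`, `hc.disjoint`). -/
theorem hasNormalPComplement_of_equiv {A B : Type*} [Group A] [Group B] [Finite A] [Finite B] (e : A ≃* B) {p : ℕ} [Fact p.Prime]
    (h : Cfsg.HasNormalPComplement p A) : Cfsg.HasNormalPComplement p B := by
  obtain ⟨Q, M, hMn, hc⟩ := h
  have hcardQ : Nat.card ((Q : Subgroup A).map e.toMonoidHom) = p ^ (Nat.card B).factorization p := by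
    rw [Subgroup.card_map_of_injective e.injective, ← Nat.card_congr e.toEquiv, Sylow.card_eq_multiplicity]
  refine ⟨Sylow.ofCard ((Q : Subgroup A).map e.toMonoidHom) hcardQ, M.map e.toMonoidHom,
    hMn.map _ e.surjective, ?_⟩
  show (M.map e.toMonoidHom).IsComplement' ((Q : Subgroup A).map e.toMonoidHom)
  apply Subgroup.isComplement'_of_card_mul_and_disjoint
  · rw [Subgroup.card_map_of_injective e.injective, Subgroup.card_map_of_injective e.injective,
      ← Nat.card_congr e.toEquiv]
    exact hc.card_mul_card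
  · rw [disjoint_iff, ← Subgroup.map_inf_eq _ _ e.toMonoidHom e.injective, hc.disjoint.eq_bot,
      Subgroup.map_bot]

end Cfsg.Agent.Lib.H73TgTSb
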