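import Cfsg.Agent.Lib.H73TgDefs
import Cfsg.Agent.Lib.H73TgTSb
import Cfsg.Agent.Lib.H33I2Transport
import Cfsg.Agent.S0081

set_option autoImplicit false

namespace Cfsg.Agent.Lib.H73TgTS

open Cfsg.Agent.Lib.H73TgDefs

/-- Tate's theorem inside the subgroup `X := M ⊔ P`. -/
theorem tate_sub {G : Type*} [Group G] [Finite G] {p : ℕ} [Fact p.Prime] (P : Sylow p G) (M : Subgroup G)
    (hM : (P : Subgroup G) ≤ Subgroup.normalizer (M : Set G)) (h : M ⊓ (P : Subgroup G) ≤ Phi P) :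
    Cfsg.HasNormalPComplement p M := by
  obtain ⟨X, hPX, hMX, hn⟩ : ∃ X : Subgroup G, (P : Subgroup G) ≤ X ∧ M ≤ X ∧ (M.subgroupOf X).Normal :=
    ⟨(P : Subgroup G) ⊔ M, le_sup_left, le_sup_right, Subgroup.normal_subgroupOf_sup_of_le_normalizer hM⟩
  let e : ↥(P : Subgroup G) ≃* ↥((P.subtype hPX : Sylow p ↥X) : Subgroup ↥X) :=
    (Subgroup.subgroupOfEquivOfLe hPX).symm
  have he : ∀ w : ↥(P : Subgroup G), (((e w : ↥X)) : G) = (w : G) := by
    intro w
    rfl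
  have key : M.subgroupOf X ⊓ ((P.subtype hPX : Sylow p ↥X) : Subgroup ↥X) ≤
      (frattini ↥((P.subtype hPX : Sylow p ↥X) : Subgroup ↥X)).map
        ((P.subtype hPX : Sylow p ↥X) : Subgroup ↥X).subtype := by
    intro y hy
    have hy1 : (y : G) ∈ M := Subgroup.mem_subgroupOf.1 hy.1
    have hy2 : (y : G) ∈ (P : Subgroup G) := Subgroup.mem_subgroupOf.1 hy.2
    obtain ⟨w, hw, hwy⟩ := h ⟨hy1, hy2⟩
    have h1 : e w ∈ frattini ↥((P.subtype hPX : Sylow p ↥X) : Subgroup ↥X) := by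
      rw [← H33I2Transport.frattini_map_equiv e]
      exact ⟨w, hw, rfl⟩
    refine ⟨e w, h1, ?_⟩
    apply Subtype.ext
    rw [← hwy]
    exact he w
  have h2 := Cfsg.Agent.S0081.result (P.subtype hPX) (M.subgroupOf X) key
  exact H73TgTSb.hasNormalPComplement_of_equiv (Subgroup.subgroupOfEquivOfLe hMX) h2

end Cfsg.Agent.Lib.H73TgTS
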