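import Cfsg.Agent.Lib.H73TgDefs
import Cfsg.Agent.Lib.H73TgTS
import Cfsg.Agent.Lib.H73TgPerfC
import Cfsg.Agent.Lib.Helper27Core

set_option autoImplicit false

namespace Cfsg.Agent.Lib.H73TgNotPhi

open Cfsg.Agent.Lib.H73TgDefs

theorem not_le_Phi {G : Type*} [Group G] [Finite G] {p : ℕ} [Fact p.Prime] (P : Sylow p G) (h : Hyp p P) (M : Subgroup G)
    (hM : (P : Subgroup G) ≤ Subgroup.normalizer (M : Set G)) (hperf : ⁅M, M⁆ = M) (K : Subgroup G) (hK : Cfsg.IsComponent K)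
    (hKM : K ≤ M) : ¬ M ⊓ (P : Subgroup G) ≤ Phi P := by
  intro hle
  have h1 := H73TgTS.tate_sub P M hM hle
  have h2 := H73TgPerfC.coprime_of_perfect M hperf h1
  have h3 : (Nat.card K).Coprime p := Nat.Coprime.coprime_dvd_left (Subgroup.card_dvd_of_le hKM) h2
  have h4 := Helper27Core.subnormal_le_pPrimeCore hK.1 h3
  rw [h.core, le_bot_iff] at h4
  exact (Helper27Basic.isComponent_iff.1 hK).2.ne_bot h4

end Cfsg.Agent.Lib.H73TgNotPhi
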