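import Cfsg.Agent.Lib.H73TgDefs
import Cfsg.Agent.Lib.Helper27Core

set_option autoImplicit false

namespace Cfsg.Agent.Lib.H73TgSup

/-- PURE MATHLIB.  `≤`: `Subgroup.commutator_le_left`-style (`⁅H, H⁆ ≤ H`: `Subgroup.commutator_le.2`, or `Helper2Tate.commutator_self_le`).  `≥`: `sSup_le`; for `M ∈ 𝒮`, `M = ⁅M, M⁆ ≤ ⁅sSup 𝒮, sSup 𝒮⁆` (`Subgroup.commutator_mono`, `le_sSup`).
(Model: `Helper27Balance.layer_perfect`.) -/
theorem sSup_perfect {G : Type*} [Group G] (𝒮 : Set (Subgroup G)) (h : ∀ M ∈ 𝒮, ⁅M, M⁆ = M) :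
    ⁅sSup 𝒮, sSup 𝒮⁆ = sSup 𝒮 := by
  apply le_antisymm
  · rw [Subgroup.commutator_le]
    intro a ha b hb
    exact mul_mem (mul_mem (mul_mem ha hb) (inv_mem ha)) (inv_mem hb)
  · apply sSup_le
    intro M hM
    calc M = ⁅M, M⁆ := (h M hM).symm
      _ ≤ ⁅sSup 𝒮, sSup 𝒮⁆ := Subgroup.commutator_mono (le_sSup hM) (le_sSup hM)

/-- `Helper27Core.le_normalizer_of_cj_le` (where `Helper27Core.cj g H = H.map (MulAut.conj g).toMonoidHom`, check): for `x ∈ S`, `(sSup 𝒮).map f = ⨆ M ∈ 𝒮, M.map f` (`Subgroup.map_sSup`/`Subgroup.map_iSup`, `sSup_eq_iSup`) `≤ sSup 𝒮` by `h` and `le_sSup`. -/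
theorem le_normalizer_sSup {G : Type*} [Group G] (S : Subgroup G) (𝒮 : Set (Subgroup G))
    (h : ∀ x ∈ S, ∀ M ∈ 𝒮, M.map (MulAut.conj x).toMonoidHom ∈ 𝒮) :
    S ≤ Subgroup.normalizer ((sSup 𝒮 : Subgroup G) : Set G) := by
  apply Cfsg.Agent.Lib.Helper27Core.le_normalizer_of_cj_le
  intro x hx
  show (sSup 𝒮).map (MulAut.conj x).toMonoidHom ≤ sSup 𝒮
  rw [Subgroup.map_le_iff_le_comap]
  apply sSup_le
  intro M hM
  rw [← Subgroup.map_le_iff_le_comap]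
  exact le_sSup (h x hx M hM)

end Cfsg.Agent.Lib.H73TgSup
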