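import Cfsg.Agent.Lib.H73TgDefs
import Cfsg.Agent.Lib.H73TgAb

set_option autoImplicit false

namespace Cfsg.Agent.Lib.H73TgTwo

open Cfsg.Agent.Lib.H73TgDefs

theorem not_le_frattini {G : Type*} [Group G] {p : ℕ} (P : Sylow p G) (A : Subgroup G)
    (hA' : ¬ A ⊓ (P : Subgroup G) ≤ Phi P) : ¬ A.subgroupOf (P : Subgroup G) ≤ frattini ↥(P : Subgroup G) := by
  intro h
  apply hA'
  intro x hx
  exact ⟨⟨x, hx.2⟩, h (Subgroup.mem_subgroupOf.2 hx.1), rfl⟩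

theorem false_of_two {G : Type*} [Group G] [Finite G] {p : ℕ} [Fact p.Prime] (P : Sylow p G) (h : Hyp p P) (A B : Subgroup G)
    (hA : (P : Subgroup G) ≤ Subgroup.normalizer (A : Set G)) (hB : (P : Subgroup G) ≤ Subgroup.normalizer (B : Set G))
    (hAB : A ⊓ B = ⊥) (hA' : ¬ A ⊓ (P : Subgroup G) ≤ Phi P) (hB' : ¬ B ⊓ (P : Subgroup G) ≤ Phi P) : False := by
  haveI := Subgroup.normal_subgroupOf_of_le_normalizer hA
  haveI := Subgroup.normal_subgroupOf_of_le_normalizer hB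
  have hd : A.subgroupOf (P : Subgroup G) ⊓ B.subgroupOf (P : Subgroup G) = ⊥ := by
    rw [eq_bot_iff]
    intro x hx
    have h1 : (x : G) ∈ A ⊓ B := ⟨Subgroup.mem_subgroupOf.1 hx.1, Subgroup.mem_subgroupOf.1 hx.2⟩
    rw [hAB, Subgroup.mem_bot] at h1
    rw [Subgroup.mem_bot]
    exact Subtype.ext h1
  have hc := H73TgAb.comm_of_two P.2 h.gen (A.subgroupOf (P : Subgroup G)) (B.subgroupOf (P : Subgroup G)) hd
    (not_le_frattini P A hA') (not_le_frattini P B hB')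
  exact h.na ⟨⟨hc⟩⟩

end Cfsg.Agent.Lib.H73TgTwo
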