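import Cfsg.Prelude.Def_Balance
import Cfsg.Agent.Lib.Helper29Basic
import Cfsg.Agent.Lib.Helper40Sylow

set_option autoImplicit false
open Cfsg

namespace Cfsg.Agent.Lib.Helper29Layer

open Cfsg.Agent.Lib.Helper40Sylow Cfsg.Agent.Lib.Helper29Basic

variable {X : Type*} [Group X]

/-! ### transport of quasisimplicity, components, p-components -/

theorem isQuasisimple_of_mulEquiv {H H' : Type*} [Group H] [Group H'] (e : H ≃* H')
    (h : IsQuasisimple H) : IsQuasisimple H' := by
  obtain ⟨h1, h2⟩ := h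
  refine ⟨Group.IsPerfect.ofSurjective (f := e.toMonoidHom) e.surjective, ?_⟩
  have hc : (Subgroup.center H).map e.toMonoidHom = Subgroup.center H' := by
    ext x
    constructor
    · rintro ⟨y, hy, rfl⟩
      rw [Subgroup.mem_center_iff]
      intro z
      obtain ⟨w, rfl⟩ := e.surjective z
      have := (Subgroup.mem_center_iff.mp hy) w
      change e w * e y = e y * e w
      rw [← map_mul, ← map_mul, this]
    · intro hx
      refine ⟨e.symm x, ?_, by simp⟩
      rw [SetLike.mem_coe, Subgroup.mem_center_iff]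
      intro z
      apply e.injective
      rw [map_mul, map_mul, e.apply_symm_apply]
      exact (Subgroup.mem_center_iff.mp hx) (e z)
  exact (QuotientGroup.congr _ _ e hc).symm.isSimpleGroup

theorem isComponent_map_equiv {G G' : Type*} [Group G] [Group G'] (e : G ≃* G') {K : Subgroup G}
    (h : IsComponent K) : IsComponent (K.map e.toMonoidHom) :=
  ⟨h.1.map e.surjective, isQuasisimple_of_mulEquiv (e.subgroupMap K) h.2⟩

theorem map_cj {Y : Type*} [Group Y] (f : X →* Y) (g : X) (K : Subgroup X) :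
    (cj g K).map f = cj (f g) (K.map f) := by
  unfold cj
  rw [Subgroup.map_map, Subgroup.map_map]
  congr 1
  ext x
  simp [MulAut.conj_apply]

theorem isSubnormal_cj {K : Subgroup X} (h : K.IsSubnormal) (g : X) : (cj g K).IsSubnormal :=
  h.map (MulAut.conj g).surjective

theorem isPComponent_cj {p : ℕ} {K : Subgroup X} (h : IsPComponent p K) (g : X) :
    IsPComponent p (cj g K) := by
  obtain ⟨hs, hc, hmin⟩ := h
  refine ⟨isSubnormal_cj hs g, ?_, ?_⟩
  · rw [map_cj]
    exact isComponent_map_equiv (MulAut.conj _) hc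
  · intro H hH hle heq
    have h1 : cj g⁻¹ H ≤ K := by rw [cj_le_iff, inv_inv]; exact hle
    have h2 : (cj g⁻¹ H).map (QuotientGroup.mk' (pPrimeCore p X)) =
        K.map (QuotientGroup.mk' (pPrimeCore p X)) := by
      rw [map_cj, heq, map_cj, map_inv, cj_inv_cj]
    have h3 := hmin _ (isSubnormal_cj hH g⁻¹) h1 h2
    rw [← h3, cj_cj_inv]

theorem normal_of_cj_le {L : Subgroup X} (h : ∀ g, cj g L ≤ L) : L.Normal :=
  ⟨fun _ hn g => h g (conj_mem_cj hn)⟩

theorem cj_eq_of_normal {L : Subgroup X} (h : L.Normal) (g : X) : cj g L = L := by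
  apply le_antisymm
  · rintro _ ⟨y, hy, rfl⟩
    exact h.conj_mem y hy g
  · rw [← inv_inv g, ← cj_le_iff]
    rintro _ ⟨y, hy, rfl⟩
    exact h.conj_mem y hy g⁻¹

theorem normal_sSup_of_cj_closed (S : Set (Subgroup X)) (h : ∀ K ∈ S, ∀ g, cj g K ∈ S) :
    (sSup S).Normal := by
  apply normal_of_cj_le
  intro g
  rw [Subgroup.map_le_iff_le_comap]
  apply sSup_le
  intro K hK
  rw [← Subgroup.map_le_iff_le_comap]
  exact le_sSup (h K hK g)

theorem pLayer_normal (p : ℕ) : (pLayer p X).Normal :=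
  normal_sSup_of_cj_closed _ (fun _ hK g => isPComponent_cj hK g)

/-! ### the p'-core of a subgroup, as a subgroup of the ambient group -/

/-- `O_{p'}(C)` as a subgroup of the ambient group. -/
def coreIn (p : ℕ) (C : Subgroup X) : Subgroup X :=
  sSup {M : Subgroup X | M ≤ C ∧ C ≤ Subgroup.normalizer (M : Set X) ∧ (Nat.card M).Coprime p}

theorem map_pPrimeCore (p : ℕ) (C : Subgroup X) :
    (pPrimeCore p C).map C.subtype = coreIn p C := by
  apply le_antisymm
  · rw [Subgroup.map_le_iff_le_comap]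
    apply sSup_le
    rintro N ⟨hN, hc⟩
    rw [← Subgroup.map_le_iff_le_comap]
    apply le_sSup
    refine ⟨Subgroup.map_subtype_le _, ?_, ?_⟩
    · rw [← Subgroup.normal_subgroupOf_iff_le_normalizer (Subgroup.map_subtype_le _)]
      rw [Subgroup.subgroupOf, Subgroup.comap_map_eq_self_of_injective C.subtype_injective]
      exact hN
    · rw [Subgroup.card_map_of_injective C.subtype_injective]
      exact hc
  · apply sSup_le
    rintro M ⟨hM, hn, hc⟩
    rw [← Subgroup.map_subgroupOf_eq_of_le hM]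
    apply Subgroup.map_mono
    apply le_sSup
    refine ⟨(Subgroup.normal_subgroupOf_iff_le_normalizer hM).mpr hn, ?_⟩
    rw [Nat.card_congr (Subgroup.subgroupOfEquivOfLe hM).toEquiv]
    exact hc

theorem cj_coreIn_le (p : ℕ) (g : X) (C : Subgroup X) : cj g (coreIn p C) ≤ coreIn p (cj g C) := by
  rw [Subgroup.map_le_iff_le_comap]
  apply sSup_le
  rintro M ⟨hM, hn, hc⟩
  rw [← Subgroup.map_le_iff_le_comap]
  apply le_sSup
  refine ⟨cj_mono hM, ?_, ?_⟩
  · rw [normalizer_cj]; exact cj_mono hn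
  · rw [card_cj]; exact hc

theorem cj_coreIn (p : ℕ) (g : X) (C : Subgroup X) : cj g (coreIn p C) = coreIn p (cj g C) := by
  apply le_antisymm (cj_coreIn_le p g C)
  have := cj_coreIn_le p g⁻¹ (cj g C)
  rw [cj_inv_cj, cj_le_iff, inv_inv] at this
  exact this

theorem card_coreIn_coprime [Finite X] (p : ℕ) (C : Subgroup X) :
    (Nat.card (coreIn p C)).Coprime p := by
  rw [← map_pPrimeCore, Subgroup.card_map_of_injective C.subtype_injective]
  exact card_pPrimeCore_coprime p

/-! ### the extended 2-layer -/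

/-- `O(C_X(T))` as a subgroup of `X`. -/
abbrev Dof (T : Subgroup X) : Subgroup X :=
  (oddCore (Subgroup.centralizer (T : Set X))).map (Subgroup.centralizer (T : Set X)).subtype

theorem Dof_eq (T : Subgroup X) : Dof T = coreIn 2 (Subgroup.centralizer (T : Set X)) :=
  map_pPrimeCore 2 _

theorem cj_Dof (g : X) (T : Subgroup X) : cj g (Dof T) = Dof (cj g T) := by
  rw [Dof_eq, Dof_eq, cj_coreIn, centralizer_cj]

variable (X) in
/-- `L_{2'}(X) O_{2',2}(X)`. -/
abbrev NN : Subgroup X := pLayer 2 X ⊔ pPrimePCore 2 X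

variable (X) in
/-- `L_{2'}(X) O(X)`. -/
abbrev RR : Subgroup X := pLayer 2 X ⊔ oddCore X

theorem extendedTwoLayer_eq : extendedTwoLayer X =
    RR X ⊔ ⨆ T : Sylow 2 (NN X), Dof ((T : Subgroup (NN X)).map (NN X).subtype) := rfl

theorem pPrimePCore_normal (p : ℕ) : (pPrimePCore p X).Normal := by
  unfold pPrimePCore
  infer_instance

theorem RR_normal : (RR X).Normal :=
  haveI := pLayer_normal (X := X) 2
  Subgroup.sup_normal _ _

theorem NN_normal : (NN X).Normal :=
  haveI := pLayer_normal (X := X) 2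
  haveI := pPrimePCore_normal (X := X) 2
  Subgroup.sup_normal _ _

theorem pPrimeCore_le_pPrimePCore (p : ℕ) : pPrimeCore p X ≤ pPrimePCore p X := by
  intro x hx
  unfold pPrimePCore
  rw [Subgroup.mem_comap]
  have : QuotientGroup.mk' (pPrimeCore p X) x = 1 := (QuotientGroup.eq_one_iff x).mpr hx
  rw [this]
  exact one_mem _

theorem RR_le_NN : RR X ≤ NN X := sup_le_sup_left (pPrimeCore_le_pPrimePCore 2) _

theorem isPGroup_pCore [Finite X] (p : ℕ) : IsPGroup p (pCore p X) := by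
  refine sSup_normal_induction (fun N => IsPGroup p N) IsPGroup.of_bot ?_ _ (fun N hN => hN)
  intro A B hA hB h1 h2
  exact IsPGroup.to_sup_of_normal_right h1 h2

theorem relIndex_pPrimeCore_pPrimePCore (p : ℕ) :
    (pPrimeCore p X).relIndex (pPrimePCore p X) = Nat.card (pCore p (X ⧸ pPrimeCore p X)) := by
  have h1 : pPrimeCore p X =
      (⊥ : Subgroup (X ⧸ pPrimeCore p X)).comap (QuotientGroup.mk' (pPrimeCore p X)) := by
    rw [MonoidHom.comap_bot, QuotientGroup.ker_mk']
  conv_lhs => rw [h1]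
  rw [Subgroup.relIndex_comap]
  unfold pPrimePCore
  rw [Subgroup.map_comap_eq_self_of_surjective (QuotientGroup.mk'_surjective _),
    Subgroup.relIndex_bot_left]

theorem relIndex_RR_NN [Finite X] : ∃ k : ℕ, (RR X).relIndex (NN X) = 2 ^ k := by
  have := RR_normal (X := X)
  have h1 : NN X = RR X ⊔ pPrimePCore 2 X := by
    change pLayer 2 X ⊔ pPrimePCore 2 X = pLayer 2 X ⊔ pPrimeCore 2 X ⊔ pPrimePCore 2 X
    rw [sup_assoc, sup_eq_right.mpr (pPrimeCore_le_pPrimePCore 2)]
  have h2 : (RR X).relIndex (NN X) ∣ (pPrimeCore 2 X).relIndex (pPrimePCore 2 X) := by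
    rw [h1, Subgroup.relIndex_sup_left, ← Subgroup.inf_relIndex_right]
    exact Subgroup.relIndex_dvd_of_le_left _ (le_inf le_sup_right (pPrimeCore_le_pPrimePCore 2))
  obtain ⟨n, hn⟩ := (IsPGroup.iff_card (p := 2)).mp (isPGroup_pCore (X := X ⧸ pPrimeCore 2 X) 2)
  rw [relIndex_pPrimeCore_pPrimePCore, hn] at h2
  obtain ⟨k, -, hk⟩ := (Nat.dvd_prime_pow Nat.prime_two).mp h2
  exact ⟨k, hk⟩

theorem NN_le_of_isSylowIn [Finite X] {T : Subgroup X} (h : IsSylowIn 2 T (NN X)) :
    NN X ≤ RR X ⊔ T := by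
  rw [← Subgroup.relIndex_eq_one]
  obtain ⟨k, hk⟩ := relIndex_RR_NN (X := X)
  have h1 : (RR X ⊔ T).relIndex (NN X) ∣ 2 ^ k :=
    hk ▸ Subgroup.relIndex_dvd_of_le_left _ le_sup_left
  have h2 : (RR X ⊔ T).relIndex (NN X) ∣ T.relIndex (NN X) :=
    Subgroup.relIndex_dvd_of_le_left _ le_sup_right
  obtain ⟨j, -, hj⟩ := (Nat.dvd_prime_pow Nat.prime_two).mp h1
  rcases Nat.eq_zero_or_pos j with rfl | hpos
  · simpa using hj
  · exfalso
    apply h.2.2
    refine dvd_trans ?_ h2
    rw [hj]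
    exact dvd_pow_self 2 hpos.ne'

theorem Dof_le_of_isSylowIn [Finite X] {T₁ T₂ : Subgroup X} (h₁ : IsSylowIn 2 T₁ (NN X))
    (h₂ : IsSylowIn 2 T₂ (NN X)) : Dof T₂ ≤ RR X ⊔ Dof T₁ := by
  have : Fact (Nat.Prime 2) := ⟨Nat.prime_two⟩
  have := RR_normal (X := X)
  obtain ⟨x, hx, hxT⟩ := h₂.exists_conj_eq h₁
  have hx' : x ∈ ((RR X ⊔ T₁ : Subgroup X) : Set X) := NN_le_of_isSylowIn h₁ hx
  rw [Subgroup.normal_mul] at hx'
  obtain ⟨r, hr, t, ht, rfl⟩ := Set.mem_mul.mp hx'
  rw [cj_mul, cj_eq_self_of_mem ht] at hxT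
  rw [← hxT, ← cj_Dof]
  rintro _ ⟨d, hd, rfl⟩
  change r * d * r⁻¹ ∈ _
  exact mul_mem (mul_mem (Subgroup.mem_sup_left hr) (Subgroup.mem_sup_right hd))
    (inv_mem (Subgroup.mem_sup_left hr))

theorem extendedTwoLayer_eq_of_isSylowIn [Finite X] {T : Subgroup X} (h : IsSylowIn 2 T (NN X)) :
    extendedTwoLayer X = RR X ⊔ Dof T := by
  have : Fact (Nat.Prime 2) := ⟨Nat.prime_two⟩
  rw [extendedTwoLayer_eq]
  apply le_antisymm
  · refine sup_le le_sup_left (iSup_le fun T' => ?_)
    exact Dof_le_of_isSylowIn h (isSylowIn_of_sylow T')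
  · refine sup_le_sup_left ?_ _
    have h1 : ((h.toSylow : Subgroup (NN X))).map (NN X).subtype = T := by
      rw [h.coe_toSylow, Subgroup.map_subgroupOf_eq_of_le h.1]
    calc Dof T = Dof (((h.toSylow : Subgroup (NN X))).map (NN X).subtype) := by rw [h1]
      _ ≤ _ := le_iSup (fun T' : Sylow 2 (NN X) => Dof ((T' : Subgroup (NN X)).map (NN X).subtype))
                h.toSylow

theorem extendedTwoLayer_normal [Finite X] : (extendedTwoLayer X).Normal := by
  have : Fact (Nat.Prime 2) := ⟨Nat.prime_two⟩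
  obtain ⟨T₀⟩ : Nonempty (Sylow 2 (NN X)) := inferInstance
  have h := isSylowIn_of_sylow T₀
  rw [extendedTwoLayer_eq_of_isSylowIn h]
  apply normal_of_cj_le
  intro g
  unfold cj
  rw [Subgroup.map_sup]
  refine sup_le ?_ ?_
  · exact (cj_eq_of_normal RR_normal g).le.trans le_sup_left
  · have h2 := h.cj g
    rw [cj_eq_of_normal NN_normal g] at h2
    have := Dof_le_of_isSylowIn h h2
    rwa [← cj_Dof] at this

end Cfsg.Agent.Lib.Helper29Layer
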