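import Cfsg.Agent.Lib.H73TgDefs
import Cfsg.Agent.Lib.H73TgTwo
import Cfsg.Agent.Lib.H73TgSup
import Cfsg.Agent.Lib.H73TgDisj
import Cfsg.Agent.Lib.H73TgNotPhi
import Cfsg.Agent.Lib.Helper29Layer

set_option autoImplicit false

namespace Cfsg.Agent.Lib.H73TgTrans

open Cfsg.Agent.Lib.H73TgDefs

theorem map_conj_map_conj {G : Type*} [Group G] (K : Subgroup G) (x y : G) :
    (K.map (MulAut.conj x).toMonoidHom).map (MulAut.conj y).toMonoidHom
      = K.map (MulAut.conj (y * x)).toMonoidHom := by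
  rw [Subgroup.map_map]
  congr 1
  ext z
  simp [MulAut.conj_apply, mul_assoc]

/-- ASSEMBLY of the third conclusion. -/
theorem trans {G : Type*} [Group G] [Finite G] {p : ℕ} [Fact p.Prime] (P : Sylow p G) (h : Hyp p P)
    (hF : Cfsg.fittingSubgroup G = ⊥) (K L : Subgroup G) (hK : Cfsg.IsComponent K) (hL : Cfsg.IsComponent L) :
    ∃ x ∈ (P : Subgroup G), L = K.map (MulAut.conj x).toMonoidHom := by
  by_contra hcon
  set 𝒜 : Set (Subgroup G) := {M | ∃ x ∈ (P : Subgroup G), M = K.map (MulAut.conj x).toMonoidHom} with h𝒜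
  set ℬ : Set (Subgroup G) := {M | Cfsg.IsComponent M ∧ M ∉ 𝒜} with hℬ
  have hKA : K ∈ 𝒜 := by
    refine ⟨1, one_mem _, ?_⟩
    ext z
    simp
  have hLB : L ∈ ℬ := ⟨hL, hcon⟩
  have hAc : ∀ M ∈ 𝒜, Cfsg.IsComponent M := by
    rintro M ⟨x, -, rfl⟩
    exact Cfsg.Agent.Lib.Helper29Layer.isComponent_map_equiv (MulAut.conj x) hK
  have hBc : ∀ M ∈ ℬ, Cfsg.IsComponent M := fun M hM => hM.1
  have hperf : ∀ M : Subgroup G, Cfsg.IsComponent M → ⁅M, M⁆ = M := fun M hM =>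
    (Cfsg.Agent.Lib.Helper27Basic.isComponent_iff.1 hM).2.perfect
  have hAst : ∀ y ∈ (P : Subgroup G), ∀ M ∈ 𝒜, M.map (MulAut.conj y).toMonoidHom ∈ 𝒜 := by
    rintro y hy M ⟨x, hx, rfl⟩
    exact ⟨y * x, mul_mem hy hx, map_conj_map_conj K x y⟩
  have hBst : ∀ y ∈ (P : Subgroup G), ∀ M ∈ ℬ, M.map (MulAut.conj y).toMonoidHom ∈ ℬ := by
    rintro y hy M ⟨hMc, hMA⟩
    refine ⟨Cfsg.Agent.Lib.Helper29Layer.isComponent_map_equiv (MulAut.conj y) hMc, ?_⟩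
    intro hmem
    apply hMA
    have := hAst y⁻¹ (inv_mem hy) _ hmem
    rw [map_conj_map_conj] at this
    have h1 : M.map (MulAut.conj (y⁻¹ * y)).toMonoidHom = M := by
      ext z
      simp
    rwa [h1] at this
  have hN1p := H73TgSup.sSup_perfect 𝒜 (fun M hM => hperf M (hAc M hM))
  have hN2p := H73TgSup.sSup_perfect ℬ (fun M hM => hperf M (hBc M hM))
  have hN1n := H73TgSup.le_normalizer_sSup (P : Subgroup G) 𝒜 hAst
  have hN2n := H73TgSup.le_normalizer_sSup (P : Subgroup G) ℬ hBst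
  have hdis := H73TgDisj.inf_eq_bot hF 𝒜 ℬ hAc hBc
    (fun M hM => by
      by_cases hMA : M ∈ 𝒜
      · exact Or.inl hMA
      · exact Or.inr ⟨hM, hMA⟩)
    (fun M hM hMB => hMB.2 hM)
  have hn1 := H73TgNotPhi.not_le_Phi P h (sSup 𝒜) hN1n hN1p K hK (le_sSup hKA)
  have hn2 := H73TgNotPhi.not_le_Phi P h (sSup ℬ) hN2n hN2p L hL (le_sSup hLB)
  exact H73TgTwo.false_of_two P h (sSup 𝒜) (sSup ℬ) hN1n hN2n hdis hn1 hn2

end Cfsg.Agent.Lib.H73TgTrans
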