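import Mathlib

/-! PROJECT 74 (BSW), piece `ArK` (1 h, PURE arithmetic).
`arK`: `α ≠ 0` (else `A = 1`, `0 = 4`).  `gcd(α, A) = 1`.  If `α` is odd then `gcd(α, A + 1) = gcd(α, 2) = 1`, so `α² ∣ 2`, `α² = 1`, `I = 2 A (A+1)` is even: contradiction.  If `α = 2a`: `A + 1 = 2 (1 + a k)`, `a² I = A (1 + a k)`, `a` is prime to `A = 1 + 2 a k` and to `1 + a k`, so `a² = 1`.
`arBC`: `B + C = -(1+A)` and `1/B + 1/C = -4/(1+A)` give `B C = (1+A)²/4`, `(B - C)² = 0`. -/

set_option autoImplicit false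

namespace Cfsg.Agent.Lib.H74BSWArK

theorem arK (A α k I : ℤ) (hA : A = 1 + α * k) (hI : Odd I) (h : I * α ^ 2 = 2 * A * (A + 1)) :
    ∃ σ : ℤ, (σ = 1 ∨ σ = -1) ∧ α = 2 * σ ∧ I = (1 + 2 * σ * k) * (1 + σ * k) := by
  rcases Int.even_or_odd α with hev | hodd
  · obtain ⟨a, ha⟩ := hev
    have hα : α = 2 * a := by rw [ha]; ring
    have ha0 : a ≠ 0 := by
      rintro rfl
      rw [hα] at hA h
      rw [hA] at h
      norm_num at h
    have h1 : I * a ^ 2 = A * (1 + a * k) := by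
      have : 4 * (I * a ^ 2) = 4 * (A * (1 + a * k)) := by
        have e1 : A + 1 = 2 * (1 + a * k) := by rw [hA, hα]; ring
        calc 4 * (I * a ^ 2) = I * α ^ 2 := by rw [hα]; ring
          _ = 2 * A * (A + 1) := h
          _ = 4 * (A * (1 + a * k)) := by rw [e1]; ring
      linarith
    have c1 : IsCoprime a A := ⟨-(2 * k), 1, by rw [hA, hα]; ring⟩
    have c2 : IsCoprime a (1 + a * k) := ⟨-k, 1, by ring⟩
    have d1 : a ^ 2 ∣ A * (1 + a * k) := Dvd.intro_left _ h1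
    have d2 : a ^ 2 ∣ (1 + a * k) := (c1.pow_left).dvd_of_dvd_mul_left d1
    have u1 : IsUnit (a ^ 2) := (c2.pow_left).isUnit_of_dvd d2
    have u2 : IsUnit a := (isUnit_pow_iff (by norm_num)).1 u1
    have ha1 : a = 1 ∨ a = -1 := Int.isUnit_iff.1 u2
    refine ⟨a, ha1, hα, ?_⟩
    have ha2 : a ^ 2 = 1 := by rcases ha1 with r | r <;> rw [r] <;> norm_num
    rw [ha2, mul_one] at h1
    rw [h1, hA, hα]
  · exfalso
    have c1 : IsCoprime α A := ⟨-k, 1, by rw [hA]; ring⟩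
    obtain ⟨b, hb⟩ := hodd
    have c2 : IsCoprime α 2 := ⟨1, -b, by rw [hb]; ring⟩
    have c3 : IsCoprime α (A + 1) := by
      have : A + 1 = 2 + k * α := by rw [hA]; ring
      rw [this]
      exact c2.add_mul_right_right k
    have d1 : α ^ 2 ∣ 2 * A * (A + 1) := Dvd.intro_left _ h
    have d2 : α ^ 2 ∣ 2 * A := (c3.pow_left).dvd_of_dvd_mul_right d1
    have d3 : α ^ 2 ∣ 2 := (c1.pow_left).dvd_of_dvd_mul_right d2
    have u1 : IsUnit (α ^ 2) := (c2.pow_left).isUnit_of_dvd d3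
    have u2 : IsUnit α := (isUnit_pow_iff (by norm_num)).1 u1
    have ha1 : α = 1 ∨ α = -1 := Int.isUnit_iff.1 u2
    have ha2 : α ^ 2 = 1 := by rcases ha1 with r | r <;> rw [r] <;> norm_num
    rw [ha2, mul_one] at h
    have : Even I := ⟨A * (A + 1), by rw [h]; ring⟩
    exact (Int.not_even_iff_odd.2 hI) this

theorem arBC (A B C : ℚ) (hB : B ≠ 0) (hC : C ≠ 0) (hA : 1 + A ≠ 0) (h1 : 1 + A + B + C = 0)
    (h2 : 1 / B + 1 / C = - 4 / (1 + A)) : B = - (1 + A) / 2 ∧ C = - (1 + A) / 2 := by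
  have h3 : (B + C) * (1 + A) = -4 * (B * C) := by
    field_simp at h2
    linarith
  have h4 : B + C = -(1 + A) := by linarith
  have h5 : (B - C) ^ 2 = 0 := by
    have : (B - C) ^ 2 = (B + C) ^ 2 - 4 * (B * C) := by ring
    rw [this]
    have e : (1 + A) = -(B + C) := by linarith
    rw [e] at h3
    nlinarith
  have h6 : B = C := by
    have := pow_eq_zero_iff (two_ne_zero) |>.1 h5
    linarith
  constructor
  · linarith
  · linarith

end Cfsg.Agent.Lib.H74BSWArK
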