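import Mathlib

set_option autoImplicit false
set_option linter.style.haveILetI false

namespace Cfsg.Agent.Lib.H74BSWBI

private theorem BI_aux {G : Type*} [Group G] [Finite G] (p : ℕ) (hp : p.Prime) (k : ℕ) :
    ∀ L : Subgroup G, Nat.card L = k →
    (∀ r : ℕ, r.Prime → r ≠ p → ∀ R : Subgroup G, R ≤ L → IsPGroup r R →
      ∀ n ∈ L, (∀ y ∈ R, n * y * n⁻¹ ∈ R) → ∀ y ∈ R, n * y = y * n) →
    ∃ S : Subgroup G, S ≤ L ∧ IsPGroup p S ∧ (∀ n ∈ L, ∀ y ∈ S, n * y * n⁻¹ ∈ S) ∧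
      ∀ R : Subgroup G, IsPGroup p R → R ≤ L → R ≤ S := by
  induction k using Nat.strong_induction_on with
  | _ k ih =>
  intro L hk h
  haveI : Fact p.Prime := ⟨hp⟩
  by_cases hL : IsPGroup p L
  · exact ⟨L, le_rfl, hL, fun n hn y hy => L.mul_mem (L.mul_mem hn hy) (L.inv_mem hn),
      fun R _ hR => hR⟩
  -- a prime `r ≠ p` dividing `|L|`
  obtain ⟨r, hr, hrp, hrL⟩ : ∃ r : ℕ, r.Prime ∧ r ≠ p ∧ r ∣ Nat.card L := by
    by_contra hcon
    push Not at hcon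
    apply hL
    rw [IsPGroup.iff_card]
    have hpos : Nat.card L ≠ 0 := Nat.card_pos.ne'
    refine ⟨(Nat.card L).primeFactorsList.length, ?_⟩
    apply Nat.eq_prime_pow_of_unique_prime_dvd hpos
    intro d hd hdL
    by_contra hdp
    exact hcon d hd hdp hdL
  haveI : Fact r.Prime := ⟨hr⟩
  obtain ⟨R⟩ : Nonempty (Sylow r L) := inferInstance
  have hRN : Subgroup.normalizer ((R : Subgroup L) : Set L) ≤ Subgroup.centralizer (R : Set L) := by
    intro n hn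
    rw [Subgroup.mem_centralizer_iff]
    intro y hy
    have h1 := h r hr hrp ((R : Subgroup L).map L.subtype) (Subgroup.map_subtype_le _)
      (R.2.map L.subtype) n n.2 (by
        rintro _ ⟨z, hz, rfl⟩
        exact ⟨n * z * n⁻¹, (Subgroup.mem_normalizer_iff.1 hn z).1 hz, rfl⟩) y ⟨y, hy, rfl⟩
    exact Subtype.ext h1.symm
  have hcompl := MonoidHom.ker_transferSylow_isComplement' R hRN
  obtain ⟨M', hM'n, hcompl⟩ : ∃ M' : Subgroup L, M'.Normal ∧ Subgroup.IsComplement' M' R :=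
    ⟨_, MonoidHom.normal_ker _, hcompl⟩
  let M : Subgroup G := M'.map L.subtype
  have hML : M ≤ L := Subgroup.map_subtype_le _
  have hcardM : Nat.card M = Nat.card M' :=
    Nat.card_congr (M'.equivMapOfInjective L.subtype L.subtype_injective).symm.toEquiv
  have hmul : Nat.card M' * Nat.card (R : Subgroup L) = Nat.card L := hcompl.card_mul_card
  have hR1 : 1 < Nat.card (R : Subgroup L) := by
    have h1 : r ∣ Nat.card (R : Subgroup L) := by
      rw [Sylow.card_eq_multiplicity]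
      exact dvd_pow_self r ((Nat.Prime.factorization_pos_of_dvd hr Nat.card_pos.ne' hrL).ne')
    exact lt_of_lt_of_le hr.one_lt (Nat.le_of_dvd Nat.card_pos h1)
  have hlt : Nat.card M < k := by
    rw [hcardM, ← hk, ← hmul]
    exact lt_mul_of_one_lt_right Nat.card_pos hR1
  obtain ⟨S, hSM, hSp, _, hSmax⟩ := ih _ hlt M rfl (by
    intro r' hr' hr'p R' hR'M hR' n hn
    exact h r' hr' hr'p R' (hR'M.trans hML) hR' n (hML hn))
  have hMnorm : ∀ n ∈ L, ∀ y ∈ M, n * y * n⁻¹ ∈ M := by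
    rintro n hn _ ⟨z, hz, rfl⟩
    exact ⟨⟨n, hn⟩ * z * ⟨n, hn⟩⁻¹, hM'n.conj_mem z hz _, rfl⟩
  refine ⟨S, hSM.trans hML, hSp, ?_, ?_⟩
  · intro n hn y hy
    have h1 : S.map (MulAut.conj n).toMonoidHom ≤ S := by
      apply hSmax _ (hSp.map _)
      rintro _ ⟨z, hz, rfl⟩
      exact hMnorm n hn z (hSM hz)
    exact h1 ⟨y, hy, rfl⟩
  · intro R' hR' hR'L
    apply hSmax R' hR'
    intro x hx
    obtain ⟨j, hj⟩ := hR' ⟨x, hx⟩
    have hxj : x ^ p ^ j = 1 := congrArg Subtype.val hj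
    let x' : L := ⟨x, hR'L hx⟩
    have hx'j : x' ^ p ^ j = 1 := Subtype.ext hxj
    have hidx : M'.index = Nat.card (R : Subgroup L) := hcompl.symm.index_eq_card
    obtain ⟨i, hi⟩ := IsPGroup.iff_card.1 R.2
    have h2 : x' ^ (r ^ i) ∈ M' := by
      rw [← hi, ← hidx]
      exact Subgroup.pow_index_mem M' x'
    have hcop : (r ^ i).Coprime (orderOf x') := by
      have h3 : orderOf x' ∣ p ^ j := orderOf_dvd_of_pow_eq_one hx'j
      apply Nat.Coprime.coprime_dvd_right h3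
      exact Nat.Coprime.pow _ _ ((Nat.coprime_primes hr hp).2 hrp)
    obtain ⟨m, hm⟩ := exists_pow_eq_self_of_coprime hcop
    have h4 : x' ∈ M' := by
      rw [← hm]
      exact M'.pow_mem h2 m
    exact ⟨x', h4, rfl⟩

theorem BI {G : Type*} [Group G] [Finite G] (p : ℕ) (hp : p.Prime) (L : Subgroup G)
    (h : ∀ r : ℕ, r.Prime → r ≠ p → ∀ R : Subgroup G, R ≤ L → IsPGroup r R →
      ∀ n ∈ L, (∀ y ∈ R, n * y * n⁻¹ ∈ R) → ∀ y ∈ R, n * y = y * n) :
    ∃ S : Subgroup G, S ≤ L ∧ IsPGroup p S ∧ (∀ n ∈ L, ∀ y ∈ S, n * y * n⁻¹ ∈ S) ∧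
      ∀ R : Subgroup G, IsPGroup p R → R ≤ L → R ≤ S :=
  BI_aux p hp _ L rfl h

end Cfsg.Agent.Lib.H74BSWBI
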