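import Cfsg.Agent.Lib.Helper74BSWDefs

/-! PROJECT 74 (BSW), piece `Basic` (45 min): elementwise facts on `H = C t = K ∪ K s`. All are direct from the fields of `BSW`.
`H = K ⊔ ⟨s⟩`, `s` normalises `K` (it inverts it), `s * s = 1`, so every element of `H` is `x` or `x * s` with `x ∈ K`.
`(x s)^2 = x (s x s⁻¹) = 1`.  `sq_one`: `x * x = 1` gives `s x s⁻¹ = x⁻¹ = x`, so `x ∈ K ⊓ C s = ⟨t⟩ = {1, t}`.
`ti`: contrapositive of `hTI` applied to `g⁻¹` or `g`.  `cent_eq`: `C x ≤ H` and the elements of `H \ K` invert `x ≠ x⁻¹`. -/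

set_option autoImplicit false

namespace Cfsg.Agent.Lib.H74BSWBasic

open Cfsg.Agent.Lib.Helper74BSWDefs

variable {G : Type*} [Group G] {t s : G} {K : Subgroup G}

theorem s_sq (h : BSW t s K) : s * s = 1 := by
  have := pow_orderOf_eq_one s
  rw [h.hs, pow_two] at this
  exact this

theorem t_sq (h : BSW t s K) : t * t = 1 := by
  have := pow_orderOf_eq_one t
  rw [h.ht, pow_two] at this
  exact this

theorem s_inv (h : BSW t s K) : s⁻¹ = s := inv_eq_of_mul_eq_one_left (s_sq h)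

theorem s_mul (h : BSW t s K) {x : G} (hx : x ∈ K) : s * x = x⁻¹ * s := by
  have := h.hinv x hx
  rwa [mul_inv_eq_iff_eq_mul] at this

theorem t_ne_one (h : BSW t s K) : t ≠ 1 := by
  intro h1
  have := h.ht
  rw [h1, orderOf_one] at this
  omega

/-- the subgroup `K ∪ K s` -/
def KS (h : BSW t s K) : Subgroup G where
  carrier := {g | g ∈ K ∨ ∃ x ∈ K, g = x * s}
  one_mem' := Or.inl K.one_mem
  mul_mem' := by
    rintro a b (ha | ⟨x, hx, rfl⟩) (hb | ⟨y, hy, rfl⟩)
    · exact Or.inl (K.mul_mem ha hb)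
    · exact Or.inr ⟨a * y, K.mul_mem ha hy, by group⟩
    · refine Or.inr ⟨x * b⁻¹, K.mul_mem hx (K.inv_mem hb), ?_⟩
      rw [mul_assoc, s_mul h hb, mul_assoc]
    · refine Or.inl ?_
      have : x * s * (y * s) = x * y⁻¹ := by
        rw [mul_assoc, ← mul_assoc s y s, s_mul h hy, mul_assoc y⁻¹, s_sq h, mul_one]
      rw [this]
      exact K.mul_mem hx (K.inv_mem hy)
  inv_mem' := by
    rintro a (ha | ⟨x, hx, rfl⟩)
    · exact Or.inl (K.inv_mem ha)
    · refine Or.inr ⟨x, hx, ?_⟩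
      rw [mul_inv_rev, s_inv h, s_mul h (K.inv_mem hx), inv_inv]

theorem mem_H_iff (h : BSW t s K) (g : G) : g ∈ C t ↔ g ∈ K ∨ ∃ x ∈ K, g = x * s := by
  constructor
  · intro hg
    rw [← h.hH] at hg
    have hle : K ⊔ Subgroup.zpowers s ≤ KS h := by
      refine sup_le (fun x hx => Or.inl hx) ?_
      rw [Subgroup.zpowers_le]
      exact Or.inr ⟨1, K.one_mem, by simp⟩
    exact hle hg
  · rintro (hg | ⟨x, hx, rfl⟩)
    · exact h.hKH hg
    · exact (C t).mul_mem (h.hKH hx) h.hsH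

theorem out_invol (h : BSW t s K) {g : G} (hg : g ∈ C t) (hgK : g ∉ K) :
    orderOf g = 2 ∧ ∀ y ∈ K, g * y * g⁻¹ = y⁻¹ := by
  rcases (mem_H_iff h g).1 hg with hg' | ⟨x, hx, rfl⟩
  · exact absurd hg' hgK
  · constructor
    · refine orderOf_eq_prime ?_ ?_
      · rw [pow_two, mul_assoc, ← mul_assoc s x s, s_mul h hx, mul_assoc x⁻¹, s_sq h, mul_one,
          mul_inv_cancel]
      · intro h1
        exact hgK (h1 ▸ K.one_mem)
    · intro y hy
      have : x * s * y * (x * s)⁻¹ = x * (s * y * s⁻¹) * x⁻¹ := by group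
      rw [this, h.hinv y hy, h.hab x hx y⁻¹ (K.inv_mem hy), mul_assoc, mul_inv_cancel, mul_one]

theorem sq_one (h : BSW t s K) {x : G} (hx : x ∈ K) (h2 : x * x = 1) : x = 1 ∨ x = t := by
  have hxi : x⁻¹ = x := inv_eq_of_mul_eq_one_left h2
  have hxs : x ∈ C s := by
    rw [Subgroup.mem_centralizer_singleton_iff]
    have := s_mul h hx
    rw [hxi] at this
    first | exact this | exact this.symm
  have hz : x ∈ Subgroup.zpowers t := by
    rw [← h.hCK]; exact ⟨hx, hxs⟩
  obtain ⟨k, rfl⟩ := Subgroup.mem_zpowers_iff.1 hz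
  have ht2 : t ^ (2 : ℤ) = 1 := by
    rw [zpow_two]; exact t_sq h
  rcases Int.even_or_odd' k with ⟨m, rfl | rfl⟩
  · left; rw [zpow_mul, ht2, one_zpow]
  · right; rw [zpow_add, zpow_mul, ht2, one_zpow, one_mul, zpow_one]

theorem ti (h : BSW t s K) {g x : G} (hx : x ∈ K) (hx1 : x ≠ 1) (hg : g * x * g⁻¹ ∈ K) : g ∈ C t := by
  by_contra hgn
  have hb := h.hTI g hgn
  have hm : g * x * g⁻¹ ∈ K ⊓ cj g K := by
    refine ⟨hg, ?_⟩
    exact ⟨x, hx, by simp [MulAut.conj_apply]⟩
  rw [hb, Subgroup.mem_bot] at hm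
  apply hx1
  have : x = g⁻¹ * (g * x * g⁻¹) * g := by group
  rw [this, hm]; group

theorem cent_le (h : BSW t s K) {x : G} (hx : x ∈ K) (hx1 : x ≠ 1) : C x ≤ C t := by
  intro y hy
  rw [Subgroup.mem_centralizer_singleton_iff] at hy
  refine ti h hx hx1 (g := y) ?_
  have : y * x * y⁻¹ = x := by
    rw [mul_inv_eq_iff_eq_mul]
    exact hy
  rw [this]; exact hx

theorem cent_eq (h : BSW t s K) {x : G} (hx : x ∈ K) (hx2 : x * x ≠ 1) : C x = K := by
  have hx1 : x ≠ 1 := by
    rintro rfl; simp at hx2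
  apply le_antisymm
  · intro y hy
    have hyt := cent_le h hx hx1 hy
    by_contra hyK
    have := (out_invol h hyt hyK).2 x hx
    rw [Subgroup.mem_centralizer_singleton_iff] at hy
    have h3 : y * x * y⁻¹ = x := by
      rw [mul_inv_eq_iff_eq_mul]
      exact hy
    rw [h3] at this
    apply hx2
    nth_rewrite 1 [this]
    simp
  · intro y hy
    rw [Subgroup.mem_centralizer_singleton_iff]
    exact h.hab y hy x hx

theorem normalizer_K (h : BSW t s K) : Nm K = C t := by
  apply le_antisymm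
  · intro g hg
    rw [Subgroup.mem_normalizer_iff] at hg
    exact ti h h.htK (t_ne_one h) ((hg t).1 h.htK)
  · intro g hg
    by_cases hgK : g ∈ K
    · exact Subgroup.le_normalizer hgK
    · rw [Subgroup.mem_normalizer_iff]
      intro y
      constructor
      · intro hy
        rw [(out_invol h hg hgK).2 y hy]
        exact K.inv_mem hy
      · intro hy
        have hg' : g⁻¹ ∈ C t := (C t).inv_mem hg
        have hgK' : g⁻¹ ∉ K := fun hh => hgK (by simpa using K.inv_mem hh)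
        have := (out_invol h hg' hgK').2 _ hy
        have h4 : g⁻¹ * (g * y * g⁻¹) * g⁻¹⁻¹ = y := by group
        rw [h4] at this
        rw [this]
        exact K.inv_mem hy

theorem card_H [Finite G] (h : BSW t s K) : Nat.card (C t) = 2 * Nat.card K := by
  have hidx : (K.subgroupOf (C t)).index = 2 := by
    rw [Subgroup.index_eq_two_iff]
    refine ⟨⟨s, h.hsH⟩, ?_⟩
    rintro ⟨b, hb⟩
    simp only [Subgroup.mem_subgroupOf, Subgroup.coe_mul]
    by_cases hbK : b ∈ K
    · right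
      refine ⟨hbK, ?_⟩
      intro hbs
      apply h.hsK
      have : s = b⁻¹ * (b * s) := by group
      rw [this]
      exact K.mul_mem (K.inv_mem hbK) hbs
    · left
      refine ⟨?_, hbK⟩
      rcases (mem_H_iff h b).1 hb with hb' | ⟨x, hx, rfl⟩
      · exact absurd hb' hbK
      · rw [mul_assoc, s_sq h, mul_one]; exact hx
  have := Subgroup.card_mul_index (K.subgroupOf (C t))
  rw [hidx, Nat.card_congr (Subgroup.subgroupOfEquivOfLe h.hKH).toEquiv] at this
  omega

theorem even_K [Finite G] (h : BSW t s K) : Even (Nat.card K) := by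
  rw [even_iff_two_dvd]
  have := orderOf_dvd_natCard (⟨t, h.htK⟩ : K)
  rwa [Subgroup.orderOf_mk, h.ht] at this

theorem two_le_K [Finite G] (h : BSW t s K) : 2 ≤ Nat.card K := by
  have h1 := even_K h
  have h2 : 0 < Nat.card K := Nat.card_pos
  rw [even_iff_two_dvd] at h1
  exact Nat.le_of_dvd h2 h1

end Cfsg.Agent.Lib.H74BSWBasic
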