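import Mathlib

/-! PROJECT 74 (BSW), piece `N34` (1.5 h, PURE): integer vectors of norm 3 and 4 with one coordinate equal to 1.
`∑_{x ≠ x0} c x ^ 2 = 3` (resp. `2`); every non-zero term is `≥ 1`, and a term `≥ 4` is impossible (`4 > 3`); so exactly three (two) coordinates are `±1`. -/

set_option autoImplicit false

namespace Cfsg.Agent.Lib.H74BSWN34

variable {X : Type*} [Fintype X] [DecidableEq X]

private theorem aux (c : X → ℤ) (x0 : X) (h0 : c x0 = 1) (N : ℕ) (hN : N ≤ 3)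
    (h4 : ∑ x, c x * c x = (N : ℤ) + 1) :
    (∀ x ∈ Finset.univ.filter (fun x => x ≠ x0 ∧ c x ≠ 0), c x = 1 ∨ c x = -1) ∧
      (Finset.univ.filter (fun x => x ≠ x0 ∧ c x ≠ 0)).card = N := by
  set T := Finset.univ.filter (fun x => x ≠ x0 ∧ c x ≠ 0) with hT
  have hsum : ∑ x ∈ T, c x * c x = (N : ℤ) := by
    have h1 : ∑ x, c x * c x = c x0 * c x0 + ∑ x ∈ Finset.univ.erase x0, c x * c x :=
      (Finset.add_sum_erase _ _ (Finset.mem_univ x0)).symm
    have h2 : ∑ x ∈ Finset.univ.erase x0, c x * c x = ∑ x ∈ T, c x * c x := by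
      symm
      apply Finset.sum_subset
      · intro x hx
        rw [hT, Finset.mem_filter] at hx
        exact Finset.mem_erase.2 ⟨hx.2.1, Finset.mem_univ _⟩
      · intro x hx hxT
        have hx0 : x ≠ x0 := Finset.ne_of_mem_erase hx
        have : c x = 0 := by
          by_contra hne
          exact hxT (by rw [hT, Finset.mem_filter]; exact ⟨Finset.mem_univ _, hx0, hne⟩)
        rw [this, mul_zero]
    rw [h1, h2, h0] at h4
    linarith
  have hpm : ∀ x ∈ T, c x = 1 ∨ c x = -1 := by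
    intro x hx
    have hle : c x * c x ≤ ∑ y ∈ T, c y * c y :=
      Finset.single_le_sum (f := fun y => c y * c y) (fun y _ => mul_self_nonneg _) hx
    rw [hsum] at hle
    have hN' : (N : ℤ) ≤ 3 := by exact_mod_cast hN
    have hne : c x ≠ 0 := by
      rw [hT, Finset.mem_filter] at hx
      exact hx.2.2
    have h1 : c x ≤ 1 := by nlinarith
    have h2 : -1 ≤ c x := by nlinarith
    omega
  refine ⟨hpm, ?_⟩
  have : ∑ x ∈ T, c x * c x = (T.card : ℤ) := by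
    rw [Finset.sum_congr rfl (g := fun _ => (1 : ℤ))]
    · simp
    · intro x hx
      rcases hpm x hx with h | h <;> rw [h] <;> norm_num
  rw [this] at hsum
  exact_mod_cast hsum

theorem norm4 (c : X → ℤ) (x0 : X) (h0 : c x0 = 1) (h4 : ∑ x, c x * c x = 4) :
    ∃ (x1 x2 x3 : X) (e1 e2 e3 : ℤ), (e1 = 1 ∨ e1 = -1) ∧ (e2 = 1 ∨ e2 = -1) ∧ (e3 = 1 ∨ e3 = -1) ∧
      x0 ≠ x1 ∧ x0 ≠ x2 ∧ x0 ≠ x3 ∧ x1 ≠ x2 ∧ x1 ≠ x3 ∧ x2 ≠ x3 ∧
      ∀ x, c x = (if x = x0 then 1 else 0) + (if x = x1 then e1 else 0) + (if x = x2 then e2 else 0)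
        + (if x = x3 then e3 else 0) := by
  obtain ⟨hpm, hcard⟩ := aux c x0 h0 3 le_rfl (by rw [h4]; norm_num)
  obtain ⟨x1, x2, x3, h12, h13, h23, hT⟩ := Finset.card_eq_three.1 hcard
  have hmem : ∀ x, x ∈ ({x1, x2, x3} : Finset X) ↔ (x ≠ x0 ∧ c x ≠ 0) := by
    intro x
    rw [← hT, Finset.mem_filter]
    simp
  have m1 := (hmem x1).1 (by simp)
  have m2 := (hmem x2).1 (by simp)
  have m3 := (hmem x3).1 (by simp)
  refine ⟨x1, x2, x3, c x1, c x2, c x3, hpm x1 (by rw [hT]; simp), hpm x2 (by rw [hT]; simp),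
    hpm x3 (by rw [hT]; simp), m1.1.symm, m2.1.symm, m3.1.symm, h12, h13, h23, ?_⟩
  intro x
  by_cases hx0 : x = x0
  · subst hx0
    rw [if_pos rfl, if_neg m1.1.symm, if_neg m2.1.symm, if_neg m3.1.symm, h0]; ring
  by_cases hx1 : x = x1
  · subst hx1
    rw [if_neg hx0, if_pos rfl, if_neg h12, if_neg h13]; ring
  by_cases hx2 : x = x2
  · subst hx2
    rw [if_neg hx0, if_neg hx1, if_pos rfl, if_neg h23]; ring
  by_cases hx3 : x = x3
  · subst hx3
    rw [if_neg hx0, if_neg hx1, if_neg hx2, if_pos rfl]; ring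
  · rw [if_neg hx0, if_neg hx1, if_neg hx2, if_neg hx3]
    have : ¬ (x ≠ x0 ∧ c x ≠ 0) := by
      rw [← hmem x]; simp [hx1, hx2, hx3]
    push Not at this
    rw [this hx0]; ring

theorem norm3 (c : X → ℤ) (x0 : X) (h0 : c x0 = 1) (h3 : ∑ x, c x * c x = 3) :
    ∃ (y z : X) (a b : ℤ), (a = 1 ∨ a = -1) ∧ (b = 1 ∨ b = -1) ∧ x0 ≠ y ∧ x0 ≠ z ∧ y ≠ z ∧
      ∀ x, c x = (if x = x0 then 1 else 0) + (if x = y then a else 0) + (if x = z then b else 0) := by
  obtain ⟨hpm, hcard⟩ := aux c x0 h0 2 (by norm_num) (by rw [h3]; norm_num)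
  obtain ⟨x1, x2, h12, hT⟩ := Finset.card_eq_two.1 hcard
  have hmem : ∀ x, x ∈ ({x1, x2} : Finset X) ↔ (x ≠ x0 ∧ c x ≠ 0) := by
    intro x
    rw [← hT, Finset.mem_filter]
    simp
  have m1 := (hmem x1).1 (by simp)
  have m2 := (hmem x2).1 (by simp)
  refine ⟨x1, x2, c x1, c x2, hpm x1 (by rw [hT]; simp), hpm x2 (by rw [hT]; simp),
    m1.1.symm, m2.1.symm, h12, ?_⟩
  intro x
  by_cases hx0 : x = x0
  · subst hx0
    rw [if_pos rfl, if_neg m1.1.symm, if_neg m2.1.symm, h0]; ring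
  by_cases hx1 : x = x1
  · subst hx1
    rw [if_neg hx0, if_pos rfl, if_neg h12]; ring
  by_cases hx2 : x = x2
  · subst hx2
    rw [if_neg hx0, if_neg hx1, if_pos rfl]; ring
  · rw [if_neg hx0, if_neg hx1, if_neg hx2]
    have : ¬ (x ≠ x0 ∧ c x ≠ 0) := by
      rw [← hmem x]; simp [hx1, hx2]
    push Not at this
    rw [this hx0]; ring

end Cfsg.Agent.Lib.H74BSWN34
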