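import Cfsg.Agent.Lib.Helper74BSWDefs
import Cfsg.Agent.Lib.H74BSWN34

/-! PROJECT 74 (BSW), piece `CombA`: the shape of the matrix `c`.

Every non-real column `c_φ` meets the column `c_ε` in exactly one point `p φ` (with equal signs) and has one
more point `q φ` outside the support of `c_ε`.  Two non-real columns agree in `p` or in `q`; so all `p φ` are
equal (this is `ShapeA`) or all `q φ` are equal, which is excluded by `dsum`, `ord` and `τ_mix`. -/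

set_option autoImplicit false

namespace Cfsg.Agent.Lib.H74BSWCombA

open Cfsg.Agent.Lib.Helper74BSWDefs

variable {X P : Type*} [Fintype X] [Fintype P] [DecidableEq X] [DecidableEq P]
  {x0 : X} {inv : P → P} {τ : P → ℤ} {c : X → P → ℤ} {d : X → ℤ} {k N : ℕ}

theorem sum3 {R : Type*} [CommRing R] {u : X → ℤ} {x0 y z : X} {a b : ℤ}
    (hu : ∀ x, u x = (if x = x0 then 1 else 0) + (if x = y then a else 0)
      + (if x = z then b else 0))
    (f : X → R) : ∑ x, (u x : R) * f x = f x0 + a * f y + b * f z := by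
  simp only [hu]
  push_cast
  simp [add_mul, Finset.sum_add_distrib]

theorem sum3' {u : X → ℤ} {x0 y z : X} {a b : ℤ}
    (hu : ∀ x, u x = (if x = x0 then 1 else 0) + (if x = y then a else 0)
      + (if x = z then b else 0))
    (f : X → ℤ) : ∑ x, u x * f x = f x0 + a * f y + b * f z := by
  have := sum3 hu f
  simpa using this

theorem entry_le (h : CD x0 inv τ c d k N) (φ : P) {x : X} (hx : x ≠ x0) :
    c x φ * c x φ ≤ 3 := by
  have h1 : ∑ y, c y φ * c y φ ≤ 4 := by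
    rw [h.gram]
    split_ifs <;> norm_num
  have h2 : ∑ y ∈ ({x, x0} : Finset X), c y φ * c y φ ≤ ∑ y, c y φ * c y φ :=
    Finset.sum_le_sum_of_subset_of_nonneg (Finset.subset_univ _)
      (fun y _ _ => mul_self_nonneg _)
  rw [Finset.sum_pair hx, h.c0] at h2
  linarith

theorem arith1 {a b u v : ℤ} (ha : a = 1 ∨ a = -1) (hb : b = 1 ∨ b = -1) (hu : u * u ≤ 3)
    (hv : v * v ≤ 3) (e : 1 + a * u + b * v = 2) : (u = a ∧ v = 0) ∨ (u = 0 ∧ v = b) := by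
  have hu1 : -1 ≤ u ∧ u ≤ 1 := by constructor <;> nlinarith
  have hv1 : -1 ≤ v ∧ v ≤ 1 := by constructor <;> nlinarith
  rcases ha with rfl | rfl <;> rcases hb with rfl | rfl <;> omega

/-- the normal form of a non-real column relative to the real column. -/
structure PQ (x0 : X) (c : X → P → ℤ) (ε φ : P) (p q : X) (b : ℤ) : Prop where
  hp0 : p ≠ x0
  hq0 : q ≠ x0
  hpq : p ≠ q
  hs : c p ε = 1 ∨ c p ε = -1
  hq : c q ε = 0
  hb : b = 1 ∨ b = -1
  form : ∀ x, c x φ = (if x = x0 then 1 else 0) + (if x = p then c p ε else 0)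
    + (if x = q then b else 0)

theorem ne_inv (h : CD x0 inv τ c d k N) {ε φ : P} (hε : inv ε = ε) (hφ : φ ≠ ε) :
    inv φ ≠ φ := by
  intro e
  obtain ⟨ε', _, hu⟩ := h.eps
  exact hφ ((hu φ e).trans (hu ε hε).symm)

theorem exists_pq (h : CD x0 inv τ c d k N) {ε : P} (hε : inv ε = ε) (φ : P) :
    ∃ (p q : X) (b : ℤ), (b = 1 ∨ b = -1) ∧ (φ ≠ ε → PQ x0 c ε φ p q b) := by
  by_cases hφ : φ = ε
  · exact ⟨x0, x0, 1, Or.inl rfl, fun h' => absurd hφ h'⟩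
  have hi := ne_inv h hε hφ
  have g3 : ∑ x, c x φ * c x φ = 3 := by
    rw [h.gram, if_pos rfl, if_neg (Ne.symm hi)]
    norm_num
  obtain ⟨y, z, a, b, ha, hb, h0y, h0z, hyz, hform⟩ :=
    H74BSWN34.norm3 (fun x => c x φ) x0 (h.c0 φ) g3
  have g2 : ∑ x, c x φ * c x ε = 2 := by
    rw [h.gram, if_neg hφ, hε, if_neg hφ]
    norm_num
  have e : ∑ x, c x φ * c x ε = c x0 ε + a * c y ε + b * c z ε :=
    sum3' (u := fun x => c x φ) hform (fun x => c x ε)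
  rw [e, h.c0] at g2
  rcases arith1 ha hb (entry_le h ε h0y.symm) (entry_le h ε h0z.symm) g2 with ⟨h1, h2⟩ | ⟨h1, h2⟩
  · refine ⟨y, z, b, hb, fun _ => ⟨h0y.symm, h0z.symm, hyz, by rw [h1]; exact ha, h2, hb, ?_⟩⟩
    intro x
    rw [h1]
    exact hform x
  · refine ⟨z, y, a, ha, fun _ => ⟨h0z.symm, h0y.symm, hyz.symm, by rw [h2]; exact hb, h1, ha, ?_⟩⟩
    intro x
    rw [h2]
    have : c x φ = _ := hform x
    rw [this]
    ring

theorem gram_pq (h : CD x0 inv τ c d k N) {ε φ φ' : P} {p q p' q' : X} {b b' : ℤ}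
    (H : PQ x0 c ε φ p q b) (H' : PQ x0 c ε φ' p' q' b') :
    1 + (if p = p' then 1 else 0) + (if q = q' then b * b' else 0)
      = (2 : ℤ) + (if φ = φ' then 1 else 0) + (if φ = inv φ' then 1 else 0) := by
  rw [← h.gram φ φ']
  have e : ∑ x, c x φ * c x φ' = c x0 φ' + c p ε * c p φ' + b * c q φ' :=
    sum3' (u := fun x => c x φ) H.form (fun x => c x φ')
  rw [e, h.c0]
  have hpq' : p ≠ q' := by
    intro e
    have := H.hs
    rw [e, H'.hq] at this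
    omega
  have hqp' : q ≠ p' := by
    intro e
    have := H'.hs
    rw [← e, H.hq] at this
    omega
  rw [H'.form p, H'.form q, if_neg H.hp0, if_neg hpq', if_neg H.hq0, if_neg hqp']
  have hss : p = p' → c p ε * c p' ε = 1 := by
    rintro rfl
    rcases H.hs with e | e <;> rw [e] <;> norm_num
  split_ifs with e1 e2 e2
  · have := hss e1
    simp only [zero_add, add_zero]
    rw [this]
  · have := hss e1
    simp only [zero_add, add_zero, mul_zero]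
    rw [this]
  · simp
  · simp

theorem p_or_q (h : CD x0 inv τ c d k N) {ε φ φ' : P} {p q p' q' : X} {b b' : ℤ}
    (H : PQ x0 c ε φ p q b) (H' : PQ x0 c ε φ' p' q' b') : p = p' ∨ q = q' := by
  by_contra hcon
  push Not at hcon
  have := gram_pq h H H'
  rw [if_neg hcon.1, if_neg hcon.2] at this
  split_ifs at this <;> omega

theorem rel_p (h : CD x0 inv τ c d k N) {ε φ φ' : P} {p q p' q' : X} {b b' : ℤ}
    (H : PQ x0 c ε φ p q b) (H' : PQ x0 c ε φ' p' q' b') (hr : φ = φ' ∨ φ = inv φ') :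
    p = p' := by
  by_contra hcon
  have := gram_pq h H H'
  rw [if_neg hcon] at this
  rcases H.hb with rfl | rfl <;> rcases H'.hb with rfl | rfl <;> split_ifs at this <;>
    first | omega | tauto

theorem meetq (h : CD x0 inv τ c d k N) {ε φ φ' : P} {p q p' q' : X} {b b' : ℤ}
    (H : PQ x0 c ε φ p q b) (H' : PQ x0 c ε φ' p' q' b') (hq : q = q') (h1 : φ ≠ φ')
    (h2 : φ ≠ inv φ') : p ≠ p' ∧ b = b' := by
  have := gram_pq h H H'
  rw [if_pos hq, if_neg h1, if_neg h2] at this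
  rcases H.hb with rfl | rfl <;> rcases H'.hb with rfl | rfl <;> split_ifs at this <;>
    first | omega | exact ⟨by assumption, rfl⟩

theorem q_iff (h : CD x0 inv τ c d k N) {ε φ φ' : P} {p q p' q' : X} {b b' : ℤ}
    (H : PQ x0 c ε φ p q b) (H' : PQ x0 c ε φ' p' q' b') (hp : p = p') :
    q = q' ↔ φ = φ' ∨ φ = inv φ' := by
  have := gram_pq h H H'
  rw [if_pos hp] at this
  rcases H.hb with rfl | rfl <;> rcases H'.hb with rfl | rfl <;> split_ifs at this <;>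
    first | omega | tauto

theorem inv_ne_eps (h : CD x0 inv τ c d k N) {ε φ : P} (hε : inv ε = ε) (hφ : φ ≠ ε) :
    inv φ ≠ ε := by
  intro e
  apply hφ
  rw [← h.inv_inv φ, e, hε]

theorem row_p (h : CD x0 inv τ c d k N) {ε : P} (hε : inv ε = ε) {p q : P → X} {b : P → ℤ}
    (H : ∀ φ, φ ≠ ε → PQ x0 c ε φ (p φ) (q φ) (b φ)) {Z : X} (hZ : ∀ φ, φ ≠ ε → q φ = Z)
    {φ : P} (hφ : φ ≠ ε) (ψ : P) :
    c (p φ) ψ = (if ψ = ε then c (p φ) ε else 0) + (if ψ = φ then c (p φ) ε else 0)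
      + (if ψ = inv φ then c (p φ) ε else 0) := by
  have hi := ne_inv h hε hφ
  have hiε := inv_ne_eps h hε hφ
  have hself : c (p φ) φ = c (p φ) ε := by
    rw [(H φ hφ).form (p φ), if_neg (H φ hφ).hp0, if_pos rfl, if_neg (H φ hφ).hpq]
    ring
  by_cases h1 : ψ = ε
  · subst h1
    rw [if_pos rfl, if_neg (Ne.symm hφ), if_neg (Ne.symm hiε)]
    ring
  by_cases h2 : ψ = φ
  · subst h2
    rw [if_neg h1, if_pos rfl, if_neg (Ne.symm hi), hself]
    ring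
  by_cases h3 : ψ = inv φ
  · subst h3
    rw [if_neg h1, if_neg h2, if_pos rfl, h.c_inv, hself]
    ring
  rw [if_neg h1, if_neg h2, if_neg h3]
  have hne' : φ ≠ inv ψ := by
    intro e
    apply h3
    rw [e, h.inv_inv]
  obtain ⟨hpp, -⟩ := meetq h (H φ hφ) (H ψ h1) ((hZ φ hφ).trans (hZ ψ h1).symm) (Ne.symm h2) hne'
  have hpq' : p φ ≠ q ψ := by
    intro e
    have := (H φ hφ).hs
    rw [e, (H ψ h1).hq] at this
    omega
  rw [(H ψ h1).form (p φ), if_neg (H φ hφ).hp0, if_neg hpp, if_neg hpq']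

theorem vv_p (h : CD x0 inv τ c d k N) {ε : P} (hε : inv ε = ε) {p q : P → X} {b : P → ℤ}
    (H : ∀ φ, φ ≠ ε → PQ x0 c ε φ (p φ) (q φ) (b φ)) {Z : X} (hZ : ∀ φ, φ ≠ ε → q φ = Z)
    {φ : P} (hφ : φ ≠ ε) : vv τ c (p φ) = -(c (p φ) ε * (τ ε + 2 * τ φ)) := by
  unfold vv
  have e : ∑ ψ, c (p φ) ψ * τ ψ = ∑ ψ, ((if ψ = ε then c (p φ) ε else 0)
      + (if ψ = φ then c (p φ) ε else 0) + (if ψ = inv φ then c (p φ) ε else 0)) * τ ψ :=
    Finset.sum_congr rfl (fun ψ _ => congrArg (· * τ ψ) (row_p h hε H hZ hφ ψ))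
  rw [e]
  simp only [add_mul, Finset.sum_add_distrib, ite_mul, zero_mul, Finset.sum_ite_eq',
    Finset.mem_univ, if_true, h.τ_inv]
  ring

theorem arith2 {s s' D D' t0 t1 t2 : ℤ} (hs : s = 1 ∨ s = -1) (hs' : s' = 1 ∨ s' = -1)
    (hD : 0 < D) (hD' : 0 < D') (hsd : s * D = s' * D') (h0 : t0 = 1 ∨ t0 = -1)
    (h1 : t1 = 1 ∨ t1 = -1) (h2 : t2 = 1 ∨ t2 = -1) (hne : t1 ≠ t2)
    (e : (s : ℚ) * (((-(s * (t0 + 2 * t1)) : ℤ) : ℚ) ^ 2 / (D : ℚ))
      = (s' : ℚ) * (((-(s' * (t0 + 2 * t2)) : ℤ) : ℚ) ^ 2 / (D' : ℚ))) : False := by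
  have hDD : D = D' ∧ s = s' := by
    rcases hs with rfl | rfl <;> rcases hs' with rfl | rfl <;> constructor <;> omega
  obtain ⟨rfl, rfl⟩ := hDD
  have hDq : (D : ℚ) ≠ 0 := by exact_mod_cast hD.ne'
  rcases hs with rfl | rfl <;> rcases h0 with rfl | rfl <;> rcases h1 with rfl | rfl <;>
    rcases h2 with rfl | rfl <;>
    first
    | exact hne rfl
    | (field_simp at e; norm_num at e)

theorem caseB (h : CD x0 inv τ c d k N) {ε : P} (hε : inv ε = ε) {p q : P → X} {b : P → ℤ}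
    (H : ∀ φ, φ ≠ ε → PQ x0 c ε φ (p φ) (q φ) (b φ)) {Z : X} (hZ : ∀ φ, φ ≠ ε → q φ = Z)
    (hk : 6 ≤ k) : False := by
  obtain ⟨φ, φ', hφi, hφi', hτ⟩ := h.τ_mix hk
  have hφ : φ ≠ ε := by
    rintro rfl
    exact hφi hε
  have hφ' : φ' ≠ ε := by
    rintro rfl
    exact hφi' hε
  have hne : φ ≠ φ' := by
    rintro rfl
    exact hτ rfl
  have hne' : φ ≠ inv φ' := by
    rintro rfl
    exact hτ (h.τ_inv φ')
  obtain ⟨hpp, hbb⟩ := meetq h (H φ hφ) (H φ' hφ') ((hZ φ hφ).trans (hZ φ' hφ').symm) hne hne'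
  have d1 : d x0 + c (p φ) ε * d (p φ) + b φ * d (q φ) = 0 := by
    rw [← sum3' (u := fun x => c x φ) (H φ hφ).form d]
    exact h.dsum φ
  have d2 : d x0 + c (p φ') ε * d (p φ') + b φ' * d (q φ') = 0 := by
    rw [← sum3' (u := fun x => c x φ') (H φ' hφ').form d]
    exact h.dsum φ'
  rw [hZ φ hφ] at d1
  rw [hZ φ' hφ', ← hbb] at d2
  have hsd : c (p φ) ε * d (p φ) = c (p φ') ε * d (p φ') := by linarith
  have hN : (N : ℚ) ≠ 0 := by
    intro e
    have := h.ord φ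
    rw [e, mul_zero] at this
    have hk' : (k : ℚ) ≠ 0 := by
      have := h.hk2
      have : k ≠ 0 := by omega
      exact_mod_cast this
    have : (4 : ℚ) * (k : ℚ) ^ 3 ≠ 0 := by positivity
    exact this (by assumption : (0 : ℚ) = 4 * (k : ℚ) ^ 3).symm
  have o12 : ∑ x, (c x φ : ℚ) * (vv τ c x : ℚ) ^ 2 / (d x : ℚ)
      = ∑ x, (c x φ' : ℚ) * (vv τ c x : ℚ) ^ 2 / (d x : ℚ) :=
    mul_right_cancel₀ hN ((h.ord φ).trans (h.ord φ').symm)
  have s1 : ∀ ψ, ψ ≠ ε → ∑ x, (c x ψ : ℚ) * (vv τ c x : ℚ) ^ 2 / (d x : ℚ)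
      = (vv τ c x0 : ℚ) ^ 2 / (d x0 : ℚ)
        + (c (p ψ) ε : ℚ) * ((vv τ c (p ψ) : ℚ) ^ 2 / (d (p ψ) : ℚ))
        + (b ψ : ℚ) * ((vv τ c (q ψ) : ℚ) ^ 2 / (d (q ψ) : ℚ)) := by
    intro ψ hψ
    rw [← sum3 (u := fun x => c x ψ) (H ψ hψ).form
      (fun x => (vv τ c x : ℚ) ^ 2 / (d x : ℚ))]
    exact Finset.sum_congr rfl (fun x _ => mul_div_assoc _ _ _)
  rw [s1 φ hφ, s1 φ' hφ', hZ φ hφ, hZ φ' hφ', ← hbb, vv_p h hε H hZ hφ, vv_p h hε H hZ hφ'] at o12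
  have o3 := add_right_cancel o12
  have o4 := add_left_cancel o3
  exact arith2 (H φ hφ).hs (H φ' hφ').hs (h.dpos _) (h.dpos _) hsd (h.τ_sq ε) (h.τ_sq φ)
    (h.τ_sq φ') hτ o4

theorem six_le (h : CD x0 inv τ c d k N) {ε φ₁ φ₂ : P} (hε : inv ε = ε) (h1 : φ₁ ≠ ε)
    (h2 : φ₂ ≠ ε) (h12 : φ₁ ≠ φ₂) (h12' : φ₁ ≠ inv φ₂) : 6 ≤ k := by
  have hi := ne_inv h hε h1
  have hiε := inv_ne_eps h hε h1
  have h3 : inv φ₁ ≠ φ₂ := by
    intro e
    apply h12'
    rw [← e, h.inv_inv]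
  have hcard : 4 ≤ Fintype.card P := by
    have : ({ε, φ₁, inv φ₁, φ₂} : Finset P).card = 4 := by
      rw [Finset.card_insert_of_notMem, Finset.card_insert_of_notMem,
        Finset.card_insert_of_notMem, Finset.card_singleton]
      · simpa using h3
      · simp only [Finset.mem_insert, Finset.mem_singleton, not_or]
        exact ⟨Ne.symm hi, h12⟩
      · simp only [Finset.mem_insert, Finset.mem_singleton, not_or]
        exact ⟨Ne.symm h1, Ne.symm hiε, Ne.symm h2⟩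
    calc 4 = _ := this.symm
      _ ≤ _ := Finset.card_le_univ _
  rw [h.cardP] at hcard
  obtain ⟨m, hm⟩ := h.hke
  omega

theorem perm4 (u : X → ℤ) (x0 x1 : X) (h0 : u x0 = 1) (h4 : ∑ x, u x * u x = 4) (h1 : x1 ≠ x0)
    (hne : u x1 ≠ 0) :
    ∃ (x2 x3 : X) (e2 e3 : ℤ), (u x1 = 1 ∨ u x1 = -1) ∧ (e2 = 1 ∨ e2 = -1) ∧ (e3 = 1 ∨ e3 = -1) ∧
      x0 ≠ x1 ∧ x0 ≠ x2 ∧ x0 ≠ x3 ∧ x1 ≠ x2 ∧ x1 ≠ x3 ∧ x2 ≠ x3 ∧ u x2 ≠ 0 ∧ u x3 ≠ 0 ∧
      ∀ x, u x = (if x = x0 then 1 else 0) + (if x = x1 then u x1 else 0)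
        + (if x = x2 then e2 else 0) + (if x = x3 then e3 else 0) := by
  obtain ⟨u1, u2, u3, s1, s2, s3, hs1, hs2, hs3, h01, h02, h03, h12, h13, h23, hf⟩ :=
    H74BSWN34.norm4 u x0 h0 h4
  have v1 : u u1 = s1 := by
    rw [hf u1, if_neg h01.symm, if_pos rfl, if_neg h12, if_neg h13]
    ring
  have v2 : u u2 = s2 := by
    rw [hf u2, if_neg h02.symm, if_neg h12.symm, if_pos rfl, if_neg h23]
    ring
  have v3 : u u3 = s3 := by
    rw [hf u3, if_neg h03.symm, if_neg h13.symm, if_neg h23.symm, if_pos rfl]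
    ring
  have n1 : s1 ≠ 0 := by rcases hs1 with rfl | rfl <;> norm_num
  have n2 : s2 ≠ 0 := by rcases hs2 with rfl | rfl <;> norm_num
  have n3 : s3 ≠ 0 := by rcases hs3 with rfl | rfl <;> norm_num
  have hmem : x1 = u1 ∨ x1 = u2 ∨ x1 = u3 := by
    by_contra hcon
    push Not at hcon
    apply hne
    rw [hf x1, if_neg h1, if_neg hcon.1, if_neg hcon.2.1, if_neg hcon.2.2]
    ring
  rcases hmem with rfl | rfl | rfl
  · refine ⟨u2, u3, s2, s3, by rw [v1]; exact hs1, hs2, hs3, h01, h02, h03, h12, h13, h23,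
      by rw [v2]; exact n2, by rw [v3]; exact n3, fun x => ?_⟩
    rw [v1]
    exact hf x
  · refine ⟨u1, u3, s1, s3, by rw [v2]; exact hs2, hs1, hs3, h02, h01, h03, h12.symm, h23, h13,
      by rw [v1]; exact n1, by rw [v3]; exact n3, fun x => ?_⟩
    rw [v2, hf x]
    ring
  · refine ⟨u1, u2, s1, s2, by rw [v3]; exact hs3, hs1, hs2, h03, h01, h02, h13.symm, h23.symm,
      h12, by rw [v1]; exact n1, by rw [v2]; exact n2, fun x => ?_⟩
    rw [v3, hf x]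
    ring

theorem shapeA (h : CD x0 inv τ c d k N) :
    ∃ (ε : P) (x1 x2 x3 : X) (e1 e2 e3 : ℤ) (z : P → X) (b : P → ℤ), inv ε = ε ∧
      ShapeA x0 inv c ε x1 x2 x3 e1 e2 e3 z b := by
  obtain ⟨ε, hε, -⟩ := h.eps
  choose p q b hb H using exists_pq h hε
  have g4 : ∑ x, c x ε * c x ε = 4 := by
    rw [h.gram, if_pos rfl, hε, if_pos rfl]
    norm_num
  have hcommon : ∃ x1, x1 ≠ x0 ∧ c x1 ε ≠ 0 ∧ ∀ φ, φ ≠ ε → p φ = x1 := by
    by_cases hall : ∀ φ φ', φ ≠ ε → φ' ≠ ε → p φ = p φ'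
    · by_cases hex : ∃ φ₁, φ₁ ≠ ε
      · obtain ⟨φ₁, h1⟩ := hex
        refine ⟨p φ₁, (H φ₁ h1).hp0, ?_, fun φ hφ => hall φ φ₁ hφ h1⟩
        rcases (H φ₁ h1).hs with e | e <;> rw [e] <;> norm_num
      · push Not at hex
        obtain ⟨u1, u2, u3, s1, s2, s3, hs1, -, -, h01, h02, h03, h12, h13, h23, hf⟩ :=
          H74BSWN34.norm4 (fun x => c x ε) x0 (h.c0 ε) g4
        refine ⟨u1, h01.symm, ?_, fun φ hφ => absurd (hex φ) hφ⟩
        have e : c u1 ε = _ := hf u1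
        rw [e, if_neg h01.symm, if_pos rfl, if_neg h12, if_neg h13]
        rcases hs1 with rfl | rfl <;> norm_num
    · exfalso
      push Not at hall
      obtain ⟨φ₁, φ₂, h1, h2, hp⟩ := hall
      have hq12 : q φ₁ = q φ₂ := (p_or_q h (H φ₁ h1) (H φ₂ h2)).resolve_left hp
      have hZ : ∀ φ, φ ≠ ε → q φ = q φ₁ := by
        intro φ hφ
        by_contra hne
        have e1 : p φ = p φ₁ := (p_or_q h (H φ hφ) (H φ₁ h1)).resolve_right hne
        have e2 : p φ = p φ₂ := (p_or_q h (H φ hφ) (H φ₂ h2)).resolve_right (by rwa [← hq12])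
        exact hp (e1.symm.trans e2)
      have hne : φ₁ ≠ φ₂ := by
        rintro rfl
        exact hp rfl
      have hne' : φ₁ ≠ inv φ₂ := fun e => hp (rel_p h (H φ₁ h1) (H φ₂ h2) (Or.inr e))
      exact caseB h hε H hZ (six_le h hε h1 h2 hne hne')
  obtain ⟨x1, h10, hc1, hp⟩ := hcommon
  obtain ⟨x2, x3, e2, e3, he1, he2, he3, n01, n02, n03, n12, n13, n23, hu2, hu3, hf⟩ :=
    perm4 (fun x => c x ε) x0 x1 (h.c0 ε) g4 h10 hc1
  refine ⟨ε, x1, x2, x3, c x1 ε, e2, e3, q, b, hε, ?_⟩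
  refine ⟨he1, he2, he3, hb, n01, n02, n03, n12, n13, n23, ?_, ?_, hf, ?_⟩
  · intro φ hφ
    refine ⟨(H φ hφ).hq0, ?_, ?_, ?_⟩
    · rw [← hp φ hφ]
      exact (H φ hφ).hpq.symm
    · intro e
      apply hu2
      rw [← e]
      exact (H φ hφ).hq
    · intro e
      apply hu3
      rw [← e]
      exact (H φ hφ).hq
  · intro φ φ' hφ hφ'
    rw [q_iff h (H φ hφ) (H φ' hφ') ((hp φ hφ).trans (hp φ' hφ').symm)]
    constructor
    · rintro (e | e)
      · exact Or.inl e.symm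
      · right
        rw [e, h.inv_inv]
    · rintro (e | e)
      · exact Or.inl e.symm
      · right
        rw [e, h.inv_inv]
  · intro φ hφ x
    have := (H φ hφ).form x
    rw [hp φ hφ] at this
    exact this

end Cfsg.Agent.Lib.H74BSWCombA
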