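import Cfsg.Agent.Lib.Helper74BSWDefs
import Cfsg.Agent.Lib.H74BSWArK

/-! PROJECT 74 (BSW), piece `CombB1` (2.5 h, PURE): the degrees, for `k ≥ 4`.
`k ≥ 4`, `cardP = k - 1 ≥ 3`: there is a non-real `φ ≠ ε`.  From `ShapeA`: `vv x0 = - ∑ τ = 1`, `vv x1 = e1`, `vv x2 = - e2 τ ε`, `vv x3 = - e3 τ ε`, `vv (z φ) = - 2 b φ τ φ` (the column of `z φ` is supported on `{φ, inv φ}`, `c_inv`, `τ_inv`, `z_eq`).
Put `A = e1 d x1`, `B = e2 d x2`, `C = e3 d x3`.  `dsum φ`: `1 + A + b φ d(z φ) = 0`; `dsum ε`: `1 + A + B + C = 0`.  `ord φ`: `(1 + 1/A - 4/(1+A)) N = 4k³`, i.e. `N (A-1)² = 4 k³ A (A+1)`.  `dmod x1`: `d x1 = k m - e1 (k-1)`, so `A = 1 + α k`.  With `N = 2 k I`: `I α² = 2 A (A+1)`.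
`ArK.arK`: `α = 2σ`, `A = 1 + 2σk = σ (2k + σ)`; as `d x1 > 0` and `2k + σ > 0`: `e1 = σ`, `d x1 = 2k + σ`; `N = 2k I`.  `ord ε` minus `ord φ`: `1/B + 1/C = -4/(1+A)`; `ArK.arBC`: `B = C = -(1 + σ k) = -σ (k + σ)`. -/

set_option autoImplicit false

namespace Cfsg.Agent.Lib.H74BSWCombB1

open Cfsg.Agent.Lib.Helper74BSWDefs

variable {X P : Type*} [Fintype X] [Fintype P] [DecidableEq X] [DecidableEq P]
  {x0 : X} {inv : P → P} {τ : P → ℤ} {c : X → P → ℤ} {d : X → ℤ} {k N : ℕ}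
  {ε : P} {x1 x2 x3 : X} {e1 e2 e3 : ℤ} {z : P → X} {b : P → ℤ}

omit [Fintype P] in
theorem sum_ne {R : Type*} [CommRing R] (hS : ShapeA x0 inv c ε x1 x2 x3 e1 e2 e3 z b) {φ : P}
    (hφ : φ ≠ ε) (F : X → R) :
    ∑ x, ((c x φ : ℤ) : R) * F x = F x0 + (e1 : R) * F x1 + (b φ : R) * F (z φ) := by
  simp only [hS.c_ne φ hφ]
  push_cast
  simp only [add_mul, Finset.sum_add_distrib, ite_mul, zero_mul, one_mul, Finset.sum_ite_eq',
    Finset.mem_univ, if_true]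

omit [Fintype P] in
theorem sum_eps {R : Type*} [CommRing R] (hS : ShapeA x0 inv c ε x1 x2 x3 e1 e2 e3 z b)
    (F : X → R) :
    ∑ x, ((c x ε : ℤ) : R) * F x
      = F x0 + (e1 : R) * F x1 + (e2 : R) * F x2 + (e3 : R) * F x3 := by
  simp only [hS.c_eps]
  push_cast
  simp only [add_mul, Finset.sum_add_distrib, ite_mul, zero_mul, one_mul, Finset.sum_ite_eq',
    Finset.mem_univ, if_true]

theorem inv_ne (h : CD x0 inv τ c d k N) (hε : inv ε = ε) {φ : P} (hφ : φ ≠ ε) :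
    inv φ ≠ ε ∧ inv φ ≠ φ := by
  constructor
  · intro h1
    apply hφ
    rw [← h.inv_inv φ, h1, hε]
  · intro h1
    obtain ⟨ε', _, hu⟩ := h.eps
    exact hφ ((hu φ h1).trans (hu ε hε).symm)

omit [Fintype X] [Fintype P] in
theorem c_x1 (hS : ShapeA x0 inv c ε x1 x2 x3 e1 e2 e3 z b) (φ : P) : c x1 φ = e1 := by
  by_cases hφ : φ = ε
  · subst hφ
    rw [hS.c_eps]
    simp [hS.n01.symm, hS.n12, hS.n13]
  · rw [hS.c_ne φ hφ]
    simp [hS.n01.symm, (hS.z_ne φ hφ).2.1.symm]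

/-- the values at `t` (any `k`) -/
theorem vv_vals (h : CD x0 inv τ c d k N) (hε : inv ε = ε) (hS : ShapeA x0 inv c ε x1 x2 x3 e1 e2 e3 z b) :
    vv τ c x0 = 1 ∧ vv τ c x1 = e1 ∧ vv τ c x2 = - e2 * τ ε ∧ vv τ c x3 = - e3 * τ ε ∧
      (∀ φ, φ ≠ ε → vv τ c (z φ) = - 2 * b φ * τ φ) ∧
      ∀ x, x ≠ x0 → x ≠ x1 → x ≠ x2 → x ≠ x3 → (∀ φ, φ ≠ ε → x ≠ z φ) → vv τ c x = 0 := by
  refine ⟨?_, ?_, ?_, ?_, ?_, ?_⟩
  · simp only [vv, h.c0, one_mul, h.τ_sum]; norm_num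
  · simp only [vv, c_x1 hS, ← Finset.mul_sum, h.τ_sum]; ring
  · unfold vv
    rw [Fintype.sum_eq_single ε]
    · rw [hS.c_eps]
      simp [hS.n02.symm, hS.n12.symm, hS.n23]
    · intro φ hφ
      rw [hS.c_ne φ hφ]
      simp [hS.n02.symm, hS.n12.symm, (hS.z_ne φ hφ).2.2.1.symm]
  · unfold vv
    rw [Fintype.sum_eq_single ε]
    · rw [hS.c_eps]
      simp [hS.n03.symm, hS.n13.symm, hS.n23.symm]
    · intro φ hφ
      rw [hS.c_ne φ hφ]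
      simp [hS.n03.symm, hS.n13.symm, (hS.z_ne φ hφ).2.2.2.symm]
  · intro φ hφ
    obtain ⟨hi1, hi2⟩ := inv_ne h hε hφ
    obtain ⟨z0, z1, z2, z3⟩ := hS.z_ne φ hφ
    unfold vv
    rw [Fintype.sum_eq_add φ (inv φ) hi2.symm]
    · have hc : c (z φ) φ = b φ := by
        rw [hS.c_ne φ hφ]
        simp [z0, z1]
      rw [h.c_inv, h.τ_inv, hc]
      ring
    · rintro φ' ⟨h1, h2⟩
      by_cases hφ' : φ' = ε
      · subst hφ'
        rw [hS.c_eps]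
        simp [z0, z1, z2, z3]
      · rw [hS.c_ne φ' hφ']
        have : z φ ≠ z φ' := by
          intro he
          rcases (hS.z_eq φ φ' hφ hφ').1 he with h3 | h3
          · exact h1 h3
          · exact h2 h3
        simp [z0, z1, this]
  · intro x h0 h1 h2 h3 hz
    unfold vv
    rw [Finset.sum_eq_zero, neg_zero]
    intro φ _
    by_cases hφ : φ = ε
    · subst hφ
      rw [hS.c_eps]
      simp [h0, h1, h2, h3]
    · rw [hS.c_ne φ hφ]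
      simp [h0, h1, hz φ hφ]

theorem sign_lemma (e σ d M : ℤ) (he : e = 1 ∨ e = -1) (hσ : σ = 1 ∨ σ = -1) (hd : 0 < d)
    (hM : 0 < M) (h : e * d = σ * M) : e = σ ∧ d = M := by
  rcases he with rfl | rfl <;> rcases hσ with rfl | rfl <;> constructor <;> omega

theorem frac (e D : ℚ) (he : e = 1 ∨ e = -1) : e / D = 1 / (e * D) := by
  rcases he with rfl | rfl
  · simp
  · rw [neg_one_mul, div_neg, neg_div]

theorem sq_pm (e : ℤ) (he : e = 1 ∨ e = -1) : e ^ 2 = 1 := by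
  rcases he with rfl | rfl <;> norm_num

theorem cast_pm (e : ℤ) (he : e = 1 ∨ e = -1) : (e : ℚ) = 1 ∨ (e : ℚ) = -1 := by
  rcases he with rfl | rfl <;> simp

theorem degrees (h : CD x0 inv τ c d k N) (hk : 4 ≤ k) (hε : inv ε = ε)
    (hS : ShapeA x0 inv c ε x1 x2 x3 e1 e2 e3 z b) :
    ∃ σ : ℤ, (σ = 1 ∨ σ = -1) ∧ (N : ℤ) = 2 * k * (2 * k + σ) * (k + σ) ∧ e1 = σ ∧ d x1 = 2 * k + σ ∧
      e2 = - σ ∧ d x2 = k + σ ∧ e3 = - σ ∧ d x3 = k + σ ∧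
      ∀ φ, φ ≠ ε → b φ = - σ ∧ d (z φ) = 2 * (k + σ) := by
  obtain ⟨v0, v1, v2, v3, vz, _⟩ := vv_vals h hε hS
  have hcard : 1 < Fintype.card P := by rw [h.cardP]; omega
  obtain ⟨φ0, hφ0⟩ := Fintype.exists_ne_of_one_lt_card hcard ε
  obtain ⟨A, hA⟩ : ∃ A : ℤ, A = e1 * d x1 := ⟨_, rfl⟩
  obtain ⟨B, hB⟩ : ∃ B : ℤ, B = e2 * d x2 := ⟨_, rfl⟩
  obtain ⟨Cc, hC⟩ : ∃ Cc : ℤ, Cc = e3 * d x3 := ⟨_, rfl⟩
  have hds : ∀ φ, φ ≠ ε → b φ * d (z φ) = - (1 + A) := by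
    intro φ hφ
    have h1 := h.dsum φ
    have h2 := sum_ne (R := ℤ) hS hφ d
    simp only [Int.cast_id] at h2
    rw [h2, h.d0] at h1
    rw [hA]; linarith
  have hdse : 1 + A + B + Cc = 0 := by
    have h1 := h.dsum ε
    have h2 := sum_eps (R := ℤ) hS d
    simp only [Int.cast_id] at h2
    rw [h2, h.d0] at h1
    rw [hA, hB, hC]; linarith
  have hne : ∀ (e D : ℤ), (e = 1 ∨ e = -1) → 0 < D → e * D ≠ 0 := by
    intro e D he hD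
    rcases he with rfl | rfl <;> omega
  have hA0 : A ≠ 0 := hA ▸ hne _ _ hS.he1 (h.dpos x1)
  have hB0 : B ≠ 0 := hB ▸ hne _ _ hS.he2 (h.dpos x2)
  have hC0 : Cc ≠ 0 := hC ▸ hne _ _ hS.he3 (h.dpos x3)
  have hA1 : 1 + A ≠ 0 := by
    have h1 := hne _ _ (hS.hb φ0) (h.dpos (z φ0))
    rw [hds φ0 hφ0] at h1
    intro h2
    rw [h2] at h1
    exact h1 rfl
  have hτ : ∀ φ, τ φ ^ 2 = 1 := fun φ => sq_pm _ (h.τ_sq φ)
  -- the order formula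
  have ho : ((1 : ℚ) + 1 / A + 4 * (1 / (-(1 + A)))) * N = 4 * (k : ℚ) ^ 3 := by
    have h1 := h.ord φ0
    have h2 := sum_ne (R := ℚ) hS hφ0 (fun x => (vv τ c x : ℚ) ^ 2 / (d x : ℚ))
    simp only [← mul_div_assoc] at h2
    rw [h2, v0, v1, vz φ0 hφ0, h.d0] at h1
    have t1 : (e1 : ℚ) * (e1 : ℚ) ^ 2 / (d x1 : ℚ) = 1 / A := by
      have : (e1 : ℚ) ^ 2 = 1 := by exact_mod_cast sq_pm _ hS.he1
      rw [this, mul_one, frac _ _ (cast_pm _ hS.he1), hA]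
      push_cast; rfl
    have t2 : (b φ0 : ℚ) * ((-2 * b φ0 * τ φ0 : ℤ) : ℚ) ^ 2 / (d (z φ0) : ℚ) = 4 * (1 / (-(1 + A))) := by
      have q1 : (b φ0 : ℚ) ^ 2 = 1 := by exact_mod_cast sq_pm _ (hS.hb φ0)
      have q2 : (τ φ0 : ℚ) ^ 2 = 1 := by exact_mod_cast hτ φ0
      have q3 : ((-2 * b φ0 * τ φ0 : ℤ) : ℚ) ^ 2 = 4 := by
        push_cast
        calc (-2 * (b φ0 : ℚ) * (τ φ0 : ℚ)) ^ 2 = 4 * (b φ0 : ℚ) ^ 2 * (τ φ0 : ℚ) ^ 2 := by ring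
          _ = 4 := by rw [q1, q2]; norm_num
      have q4 : ((b φ0 : ℚ) * (d (z φ0) : ℚ)) = -(1 + A) := by exact_mod_cast hds φ0 hφ0
      rw [q3, mul_comm (b φ0 : ℚ) 4, mul_div_assoc, frac _ _ (cast_pm _ (hS.hb φ0)), q4]
    rw [t1, t2] at h1
    simpa using h1
  have hoe : ((1 : ℚ) + 1 / A + 1 / B + 1 / Cc) * N = 4 * (k : ℚ) ^ 3 := by
    have h1 := h.ord ε
    have h2 := sum_eps (R := ℚ) hS (fun x => (vv τ c x : ℚ) ^ 2 / (d x : ℚ))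
    simp only [← mul_div_assoc] at h2
    rw [h2, v0, v1, v2, v3, h.d0] at h1
    have q2 : (τ ε : ℚ) ^ 2 = 1 := by exact_mod_cast hτ ε
    have t1 : (e1 : ℚ) * (e1 : ℚ) ^ 2 / (d x1 : ℚ) = 1 / A := by
      have : (e1 : ℚ) ^ 2 = 1 := by exact_mod_cast sq_pm _ hS.he1
      rw [this, mul_one, frac _ _ (cast_pm _ hS.he1), hA]
      push_cast; rfl
    have t2 : (e2 : ℚ) * ((-e2 * τ ε : ℤ) : ℚ) ^ 2 / (d x2 : ℚ) = 1 / B := by
      have q1 : (e2 : ℚ) ^ 2 = 1 := by exact_mod_cast sq_pm _ hS.he2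
      have q3 : ((-e2 * τ ε : ℤ) : ℚ) ^ 2 = 1 := by
        push_cast
        calc (-(e2 : ℚ) * (τ ε : ℚ)) ^ 2 = (e2 : ℚ) ^ 2 * (τ ε : ℚ) ^ 2 := by ring
          _ = 1 := by rw [q1, q2]; norm_num
      rw [q3, mul_one, frac _ _ (cast_pm _ hS.he2), hB]
      push_cast; rfl
    have t3 : (e3 : ℚ) * ((-e3 * τ ε : ℤ) : ℚ) ^ 2 / (d x3 : ℚ) = 1 / Cc := by
      have q1 : (e3 : ℚ) ^ 2 = 1 := by exact_mod_cast sq_pm _ hS.he3
      have q3 : ((-e3 * τ ε : ℤ) : ℚ) ^ 2 = 1 := by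
        push_cast
        calc (-(e3 : ℚ) * (τ ε : ℚ)) ^ 2 = (e3 : ℚ) ^ 2 * (τ ε : ℚ) ^ 2 := by ring
          _ = 1 := by rw [q1, q2]; norm_num
      rw [q3, mul_one, frac _ _ (cast_pm _ hS.he3), hC]
      push_cast; rfl
    rw [t1, t2, t3] at h1
    simpa using h1
  obtain ⟨I, hI, hNI⟩ := h.hN
  have hA0q : (A : ℚ) ≠ 0 := by exact_mod_cast hA0
  have hA1q : (1 + A : ℚ) ≠ 0 := by exact_mod_cast hA1
  have hkq : (k : ℚ) ≠ 0 := by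
    have : k ≠ 0 := by omega
    exact_mod_cast this
  have hkey : ((A : ℚ) - 1) ^ 2 * N = 4 * (k : ℚ) ^ 3 * A * (A + 1) := by
    have h1 : ((1 : ℚ) + 1 / A + 4 * (1 / (-(1 + A)))) = ((A : ℚ) - 1) ^ 2 / (A * (A + 1)) := by
      have : (A + 1 : ℚ) ≠ 0 := by rwa [add_comm]
      field_simp
      ring
    rw [h1] at ho
    have h2 : (A : ℚ) * (A + 1) ≠ 0 := mul_ne_zero hA0q (by rwa [add_comm])
    rw [div_mul_eq_mul_div, div_eq_iff h2] at ho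
    linarith
  -- `A = 1 + α k`
  obtain ⟨m, hm⟩ := h.dmod x1
  have hsumc : ∑ φ, c x1 φ = ((k : ℤ) - 1) * e1 := by
    simp only [c_x1 hS, Finset.sum_const, Finset.card_univ, h.cardP, nsmul_eq_mul]
    have : ((k - 1 : ℕ) : ℤ) = (k : ℤ) - 1 := by
      have : 1 ≤ k := by omega
      push_cast [this]; ring
    rw [this]
  have he1sq := sq_pm _ hS.he1
  have hAα : A = 1 + (e1 * m - 1) * k := by
    rw [hA, hm, hsumc]
    linear_combination (1 - (k : ℤ)) * he1sq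
  have hIα : (I : ℤ) * (e1 * m - 1) ^ 2 = 2 * A * (A + 1) := by
    have h1 : ((A : ℚ) - 1) = ((e1 * m - 1 : ℤ) : ℚ) * k := by
      have : A - 1 = (e1 * m - 1) * k := by linarith
      exact_mod_cast this
    rw [h1, hNI] at hkey
    have h2 : (2 * (k : ℚ) ^ 3) * ((I : ℚ) * ((e1 * m - 1 : ℤ) : ℚ) ^ 2)
        = (2 * (k : ℚ) ^ 3) * (2 * A * (A + 1)) := by
      push_cast at hkey ⊢
      linarith
    have h3 := mul_left_cancel₀ (mul_ne_zero two_ne_zero (pow_ne_zero 3 hkq)) h2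
    exact_mod_cast h3
  obtain ⟨σ, hσ, hα, hIσ⟩ := H74BSWArK.arK A (e1 * m - 1) k I hAα (by exact_mod_cast hI) hIα
  have hσsq := sq_pm _ hσ
  have hkσ : 0 < (k : ℤ) + σ := by
    have : (4 : ℤ) ≤ k := by exact_mod_cast hk
    rcases hσ with rfl | rfl <;> omega
  have h2kσ : 0 < 2 * (k : ℤ) + σ := by
    have : (4 : ℤ) ≤ k := by exact_mod_cast hk
    rcases hσ with rfl | rfl <;> omega
  have hAσ : A = 1 + 2 * σ * k := by rw [hAα, hα]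
  obtain ⟨r1, r2⟩ := sign_lemma e1 σ (d x1) (2 * k + σ) hS.he1 hσ (h.dpos x1) h2kσ (by
    rw [← hA, hAσ]; linear_combination (-1 : ℤ) * hσsq)
  have hNpos : (N : ℚ) ≠ 0 := by
    intro h0
    rw [h0, mul_zero] at ho
    exact (mul_ne_zero four_ne_zero (pow_ne_zero 3 hkq)) ho.symm
  have hBC : (1 : ℚ) / B + 1 / Cc = - 4 / (1 + A) := by
    have h1 : ((1 : ℚ) + 1 / A + 1 / B + 1 / Cc) * N = ((1 : ℚ) + 1 / A + 4 * (1 / (-(1 + A)))) * N := by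
      rw [ho, hoe]
    have h2 := mul_right_cancel₀ hNpos h1
    have h3 : (4 : ℚ) * (1 / (-(1 + A))) = - 4 / (1 + A) := by
      rw [div_neg, mul_neg, mul_one_div, neg_div]
    rw [h3] at h2
    linarith
  obtain ⟨hBv, hCv⟩ := H74BSWArK.arBC (A : ℚ) B Cc (by exact_mod_cast hB0) (by exact_mod_cast hC0) hA1q
    (by exact_mod_cast hdse) hBC
  have hBz : B = -(1 + σ * k) := by
    have : (B : ℚ) = ((-(1 + σ * k) : ℤ) : ℚ) := by
      rw [hBv, hAσ]; push_cast; ring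
    exact_mod_cast this
  have hCz : Cc = -(1 + σ * k) := by
    have : (Cc : ℚ) = ((-(1 + σ * k) : ℤ) : ℚ) := by
      rw [hCv, hAσ]; push_cast; ring
    exact_mod_cast this
  have hnσ : -σ = 1 ∨ -σ = -1 := by rcases hσ with rfl | rfl <;> simp
  obtain ⟨r3, r4⟩ := sign_lemma e2 (-σ) (d x2) (k + σ) hS.he2 hnσ (h.dpos x2) hkσ (by
    rw [← hB, hBz]; linear_combination hσsq)
  obtain ⟨r5, r6⟩ := sign_lemma e3 (-σ) (d x3) (k + σ) hS.he3 hnσ (h.dpos x3) hkσ (by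
    rw [← hC, hCz]; linear_combination hσsq)
  refine ⟨σ, hσ, ?_, r1, r2, r3, r4, r5, r6, ?_⟩
  · rw [hNI]
    push_cast
    rw [hIσ]
    linear_combination (4 * (k : ℤ) ^ 3 - 2 * k) * hσsq
  · intro φ hφ
    have h2pos : 0 < 2 * ((k : ℤ) + σ) := by linarith
    exact sign_lemma (b φ) (-σ) (d (z φ)) (2 * (k + σ)) (hS.hb φ) hnσ (h.dpos _) h2pos (by
      rw [hds φ hφ, hAσ]; linear_combination 2 * hσsq)

end Cfsg.Agent.Lib.H74BSWCombB1
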