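import Cfsg.Agent.Lib.H74BSWCombB1

/-! PROJECT 74 (BSW), piece `CombB2` (2.5 h, PURE): the final sum, from the shape and the degrees (any even `k ≥ 2`).
By `CombB1.vv_vals` only `x0, x1, x2, x3` and the `z φ` contribute.  `x0`: `1`.  `x1`: `f x1 / (2k+σ)`.  `x2, x3`: `(f x2 + f x3)/(k+σ)`, and `hf ε` reads `1 + σ f x1 - σ f x2 - σ f x3 = 0`, so `f x2 + f x3 = σ (1 + σ f x1)`.
`z φ`: `4 f(z φ) / (2 (k+σ))`, and `hf φ` reads `1 + σ f x1 - σ f (z φ) = 0`, so `f (z φ) = σ (1 + σ f x1)`.  The number of distinct `z φ` is `(k-2)/2` (`cardP = k - 1`, `ε` removed, `z φ = z φ'` iff `φ' ∈ {φ, inv φ}`, `inv φ ≠ φ`): e.g. `∑_{x ∈ image z} F x = (1/2) ∑_{φ ≠ ε} F (z φ)`.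
Total: `1 + f x1/(2k+σ) + (1 + (k-2)) σ (1 + σ f x1)/(k+σ)`. -/

set_option autoImplicit false

namespace Cfsg.Agent.Lib.H74BSWCombB2

open Cfsg.Agent.Lib.Helper74BSWDefs

variable {X P : Type*} [Fintype X] [Fintype P] [DecidableEq X] [DecidableEq P]
  {x0 : X} {inv : P → P} {τ : P → ℤ} {c : X → P → ℤ} {d : X → ℤ} {k N : ℕ}
  {ε : P} {x1 x2 x3 : X} {e1 e2 e3 : ℤ} {z : P → X} {b : P → ℤ}

theorem final_sum (h : CD x0 inv τ c d k N) (hε : inv ε = ε)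
    (hS : ShapeA x0 inv c ε x1 x2 x3 e1 e2 e3 z b) (σ : ℤ) (hσ : σ = 1 ∨ σ = -1)
    (h1 : e1 = σ) (hd1 : d x1 = 2 * k + σ) (h2 : e2 = - σ) (hd2 : d x2 = k + σ) (h3 : e3 = - σ)
    (hd3 : d x3 = k + σ) (hz : ∀ φ, φ ≠ ε → b φ = - σ ∧ d (z φ) = 2 * (k + σ))
    (f : X → ℂ) (hf0 : f x0 = 1) (hf : ∀ φ, ∑ x, (c x φ : ℂ) * f x = 0) :
    ∑ x, (vv τ c x : ℂ) ^ 2 * f x / (d x : ℂ)
      = 1 + f x1 / (2 * k + σ) + (k - 1) * σ * (1 + σ * f x1) / (k + σ) := by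
  obtain ⟨v0, v1, v2, v3, vz, _⟩ := H74BSWCombB1.vv_vals h hε hS
  have hσsq : (σ : ℂ) ^ 2 = 1 := by exact_mod_cast H74BSWCombB1.sq_pm _ hσ
  have hτsq : ∀ φ, (τ φ : ℂ) ^ 2 = 1 := fun φ => by
    exact_mod_cast H74BSWCombB1.sq_pm _ (h.τ_sq φ)
  obtain ⟨F, hF⟩ : ∃ F : X → ℂ, ∀ x, F x = (vv τ c x : ℂ) * (f x / (d x : ℂ)) :=
    ⟨_, fun _ => rfl⟩
  have step1 : ∑ x, (vv τ c x : ℂ) ^ 2 * f x / (d x : ℂ)
      = - ∑ φ, (τ φ : ℂ) * ∑ x, ((c x φ : ℤ) : ℂ) * F x := by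
    have e : ∀ x, (vv τ c x : ℂ) ^ 2 * f x / (d x : ℂ)
        = - ∑ φ, (τ φ : ℂ) * (((c x φ : ℤ) : ℂ) * F x) := by
      intro x
      have hv : (vv τ c x : ℂ) = - ∑ φ, ((c x φ : ℤ) : ℂ) * (τ φ : ℂ) := by
        simp [vv]
      calc (vv τ c x : ℂ) ^ 2 * f x / (d x : ℂ) = (vv τ c x : ℂ) * F x := by rw [hF]; ring
        _ = (- ∑ φ, ((c x φ : ℤ) : ℂ) * (τ φ : ℂ)) * F x := congrArg (· * F x) hv
        _ = _ := by
          rw [neg_mul, Finset.sum_mul]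
          congr 1
          apply Finset.sum_congr rfl
          intro φ _
          ring
    rw [Finset.sum_congr rfl (fun x _ => e x), Finset.sum_neg_distrib, Finset.sum_comm]
    congr 1
    apply Finset.sum_congr rfl
    intro φ _
    rw [Finset.mul_sum]
  have step2 : ∀ φ, (τ φ : ℂ) * ∑ x, ((c x φ : ℤ) : ℂ) * F x
      = τ φ * (1 + f x1 / (2 * k + σ)) - σ * (1 + σ * f x1) / (k + σ) := by
    intro φ
    by_cases hφ : φ = ε
    · subst hφ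
      have E := hf φ
      rw [H74BSWCombB1.sum_eps (R := ℂ) hS f, hf0, h1, h2, h3] at E
      push_cast at E
      have hfs : f x2 + f x3 = σ * (1 + σ * f x1) := by
        linear_combination (-(σ : ℂ)) * E - (f x2 + f x3) * hσsq
      rw [H74BSWCombB1.sum_eps (R := ℂ) hS F, hF, hF, hF, hF, v0, v1, v2, v3, h.d0, hd1, hd2, hd3,
        h1, h2, h3, hf0, ← hfs]
      push_cast
      linear_combination ((τ φ : ℂ) * (f x1 / (2 * k + σ)) - (f x2 + f x3) / (k + σ)) * hσsq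
        - ((f x2 + f x3) / (k + σ)) * (σ : ℂ) ^ 2 * hτsq φ
    · have E := hf φ
      rw [H74BSWCombB1.sum_ne (R := ℂ) hS hφ f, hf0, h1, (hz φ hφ).1] at E
      push_cast at E
      have hfz : f (z φ) = σ * (1 + σ * f x1) := by
        linear_combination (-(σ : ℂ)) * E - f (z φ) * hσsq
      rw [H74BSWCombB1.sum_ne (R := ℂ) hS hφ F, hF, hF, hF, v0, v1, vz φ hφ, h.d0, hd1,
        (hz φ hφ).2, (hz φ hφ).1, h1, hf0, ← hfz]
      push_cast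
      have hdiv : f (z φ) / (2 * ((k : ℂ) + σ)) = f (z φ) / (k + σ) / 2 := by
        rw [mul_comm, div_mul_eq_div_div]
      rw [hdiv]
      linear_combination ((τ φ : ℂ) * (f x1 / (2 * k + σ)) - f (z φ) / (k + σ)) * hσsq
        - (f (z φ) / (k + σ)) * (σ : ℂ) ^ 2 * hτsq φ
  have hτs : ∑ φ, (τ φ : ℂ) = -1 := by exact_mod_cast h.τ_sum
  have hk1 : ((k - 1 : ℕ) : ℂ) = (k : ℂ) - 1 := by
    have : 1 ≤ k := le_trans (by norm_num) h.hk2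
    push_cast [this]; ring
  rw [step1, Finset.sum_congr rfl (fun φ _ => step2 φ), Finset.sum_sub_distrib, ← Finset.sum_mul,
    Finset.sum_const, Finset.card_univ, h.cardP, nsmul_eq_mul, hτs, hk1]
  ring

end Cfsg.Agent.Lib.H74BSWCombB2
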