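import Cfsg.Agent.Lib.H74BSWBasic

/-! PROJECT 74 (BSW), piece `Conj` (45 min): transport by conjugation, so that later pieces can argue "WLOG the involution is `t`".
`bsw_conj`: all fields are invariant under the inner automorphism `MulAut.conj x`.
`inKK_invol_cent`: `w = x t x⁻¹` (`hconj`), so `x⁻¹ g x ∈ C t = K ∪ K s`; the elements of `K s` are involutions, hence conjugate to `t ∈ K`. -/

set_option autoImplicit false

namespace Cfsg.Agent.Lib.H74BSWConj

open Cfsg.Agent.Lib.Helper74BSWDefs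

variable {G : Type*} [Group G] {t s : G} {K : Subgroup G}

theorem mem_cj {x y : G} {A : Subgroup G} : y ∈ cj x A ↔ x⁻¹ * y * x ∈ A := by
  constructor
  · rintro ⟨a, ha, rfl⟩
    have : x⁻¹ * ((MulAut.conj x).toMonoidHom a) * x = a := by
      simp [MulAut.conj_apply, mul_assoc]
    rw [this]; exact ha
  · intro h
    exact ⟨_, h, by simp [MulAut.conj_apply, mul_assoc]⟩

theorem mem_C {g y : G} : y ∈ C g ↔ y * g = g * y := Subgroup.mem_centralizer_singleton_iff

theorem orderOf_conj' (x g : G) : orderOf (x * g * x⁻¹) = orderOf g := by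
  have := (MulAut.conj x).orderOf_eq g
  rwa [MulAut.conj_apply] at this

theorem C_conj (x g : G) : C (x * g * x⁻¹) = cj x (C g) := by
  ext y
  rw [mem_cj, mem_C, mem_C]
  constructor
  · intro h
    have : x⁻¹ * (y * (x * g * x⁻¹)) * x = x⁻¹ * ((x * g * x⁻¹) * y) * x := by rw [h]
    simpa [mul_assoc] using this
  · intro h
    have : x * (x⁻¹ * y * x * g) * x⁻¹ = x * (g * (x⁻¹ * y * x)) * x⁻¹ := by rw [h]
    simpa [mul_assoc] using this

theorem cj_cj (a b : G) (A : Subgroup G) : cj a (cj b A) = cj (a * b) A := by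
  ext y
  simp only [mem_cj]
  simp [mul_assoc]

theorem cj_inf (x : G) (A B : Subgroup G) : cj x (A ⊓ B) = cj x A ⊓ cj x B := by
  ext y
  simp only [mem_cj, Subgroup.mem_inf]

theorem cj_bot (x : G) : cj x (⊥ : Subgroup G) = ⊥ := Subgroup.map_bot _

theorem cj_zpowers (x g : G) : cj x (Subgroup.zpowers g) = Subgroup.zpowers (x * g * x⁻¹) := by
  unfold cj
  rw [MonoidHom.map_zpowers]
  rfl

theorem bsw_conj (h : BSW t s K) (x : G) : BSW (x * t * x⁻¹) (x * s * x⁻¹) (cj x K) where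
  ht := by rw [orderOf_conj', h.ht]
  hab := by
    intro a ha b hb
    rw [mem_cj] at ha hb
    have := h.hab _ ha _ hb
    have h2 : x * (x⁻¹ * a * x * (x⁻¹ * b * x)) * x⁻¹ = x * (x⁻¹ * b * x * (x⁻¹ * a * x)) * x⁻¹ := by
      rw [this]
    simpa [mul_assoc] using h2
  hKH := by
    rw [C_conj]
    exact Subgroup.map_mono h.hKH
  htK := by
    rw [mem_cj]
    have : x⁻¹ * (x * t * x⁻¹) * x = t := by simp [mul_assoc]
    rw [this]; exact h.htK
  hs := by rw [orderOf_conj', h.hs]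
  hsH := by
    rw [C_conj, mem_cj]
    have : x⁻¹ * (x * s * x⁻¹) * x = s := by simp [mul_assoc]
    rw [this]; exact h.hsH
  hsK := by
    rw [mem_cj]
    have : x⁻¹ * (x * s * x⁻¹) * x = s := by simp [mul_assoc]
    rw [this]; exact h.hsK
  hH := by
    rw [C_conj, ← h.hH, ← cj_zpowers]
    exact (Subgroup.map_sup _ _ _).symm
  hCK := by
    rw [C_conj, ← cj_inf, h.hCK, cj_zpowers]
  hinv := by
    intro y hy
    rw [mem_cj] at hy
    have := h.hinv _ hy
    have h2 : x * (s * (x⁻¹ * y * x) * s⁻¹) * x⁻¹ = x * (x⁻¹ * y * x)⁻¹ * x⁻¹ := by rw [this]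
    simpa [mul_assoc] using h2
  hTI := by
    intro g hg
    have hg' : x⁻¹ * g * x ∉ C t := by
      intro hh
      apply hg
      rw [C_conj, mem_cj]
      exact hh
    have h1 : cj g (cj x K) = cj x (cj (x⁻¹ * g * x) K) := by
      rw [cj_cj, cj_cj]
      congr 1
      simp [mul_assoc]
    rw [h1, ← cj_inf, h.hTI _ hg', cj_bot]
  hconj := h.hconj

theorem inKK_cj (K : Subgroup G) (x g : G) : inKK (cj x K) g ↔ inKK K g := by
  constructor
  · rintro ⟨y, hy⟩
    rw [mem_cj] at hy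
    exact ⟨x⁻¹ * y, by simpa [mul_assoc] using hy⟩
  · rintro ⟨y, hy⟩
    refine ⟨x * y, ?_⟩
    rw [mem_cj]
    simpa [mul_assoc] using hy

theorem inKK_conj (K : Subgroup G) (x g : G) : inKK K (x * g * x⁻¹) ↔ inKK K g := by
  constructor
  · rintro ⟨y, hy⟩
    exact ⟨y * x, by simpa [mul_assoc] using hy⟩
  · rintro ⟨y, hy⟩
    exact ⟨y * x⁻¹, by simpa [mul_assoc] using hy⟩

theorem psi_conj (x g : G) : psi (x * g * x⁻¹) = psi g := by
  unfold psi
  refine Nat.card_congr ⟨fun u => ⟨x⁻¹ * u.1 * x, ?_, ?_⟩, fun u => ⟨x * u.1 * x⁻¹, ?_, ?_⟩, ?_, ?_⟩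
  · have := orderOf_conj' x⁻¹ u.1
    rw [inv_inv] at this
    rw [this]; exact u.2.1
  · have := orderOf_conj' x⁻¹ (u.1 * (x * g * x⁻¹))
    rw [inv_inv] at this
    have h2 : x⁻¹ * (u.1 * (x * g * x⁻¹)) * x = x⁻¹ * u.1 * x * g := by simp [mul_assoc]
    rw [← h2, this]; exact u.2.2
  · rw [orderOf_conj']; exact u.2.1
  · have h2 : x * u.1 * x⁻¹ * (x * g * x⁻¹) = x * (u.1 * g) * x⁻¹ := by simp [mul_assoc]
    rw [h2, orderOf_conj']; exact u.2.2
  · intro u; ext; simp [mul_assoc]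
  · intro u; ext; simp [mul_assoc]

theorem RT_conj (K : Subgroup G) (x g : G) : RT K (x * g * x⁻¹) ↔ RT K g := by
  unfold RT
  rw [inKK_conj, psi_conj]

theorem NN_conj (K : Subgroup G) (x g : G) : NN K (x * g * x⁻¹) ↔ NN K g := by
  unfold NN
  rw [inKK_conj, psi_conj]

theorem card_cj (x : G) (A : Subgroup G) : Nat.card (cj x A) = Nat.card A :=
  Subgroup.card_map_of_injective (MulAut.conj x).injective

theorem Nm_cj (x : G) (A : Subgroup G) : Nm (cj x A) = cj x (Nm A) := by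
  ext y
  rw [mem_cj, Subgroup.mem_set_normalizer_iff, Subgroup.mem_set_normalizer_iff]
  constructor
  · intro h z
    have := h (x * z * x⁻¹)
    simp only [SetLike.mem_coe, mem_cj] at this
    have e1 : x⁻¹ * (x * z * x⁻¹) * x = z := by simp [mul_assoc]
    have e2 : x⁻¹ * (y * (x * z * x⁻¹) * y⁻¹) * x = x⁻¹ * y * x * z * (x⁻¹ * y * x)⁻¹ := by
      simp [mul_assoc]
    rw [e1, e2] at this
    exact this
  · intro h z
    have := h (x⁻¹ * z * x)
    simp only [SetLike.mem_coe, mem_cj]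
    have e2 : x⁻¹ * (y * z * y⁻¹) * x = x⁻¹ * y * x * (x⁻¹ * z * x) * (x⁻¹ * y * x)⁻¹ := by
      simp [mul_assoc]
    rw [e2]
    exact this

theorem exists_conj (h : BSW t s K) {w : G} (hw : orderOf w = 2) : ∃ x : G, w = x * t * x⁻¹ := by
  obtain ⟨x, hx⟩ := isConj_iff.mp (h.hconj t w h.ht hw)
  exact ⟨x, hx.symm⟩

theorem inKK_one (K : Subgroup G) : inKK K 1 := ⟨1, by simp⟩

theorem inKK_invol (h : BSW t s K) {w : G} (hw : orderOf w = 2) : inKK K w := by
  obtain ⟨x, rfl⟩ := exists_conj h hw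
  rw [inKK_conj]
  exact ⟨1, by simpa using h.htK⟩

/-- an element commuting with an involution lies in a conjugate of `K` -/
theorem inKK_invol_cent (h : BSW t s K) {w g : G} (hw : orderOf w = 2) (hg : g * w = w * g) : inKK K g := by
  obtain ⟨x, rfl⟩ := exists_conj h hw
  have h1 : x⁻¹ * g * x ∈ C t := by
    rw [mem_C]
    have : x⁻¹ * (g * (x * t * x⁻¹)) * x = x⁻¹ * ((x * t * x⁻¹) * g) * x := by rw [hg]
    simpa [mul_assoc] using this
  have h2 : inKK K (x⁻¹ * g * x) := by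
    by_cases hK : x⁻¹ * g * x ∈ K
    · exact ⟨1, by simpa using hK⟩
    · exact inKK_invol h (Cfsg.Agent.Lib.H74BSWBasic.out_invol h h1 hK).1
  have := (inKK_conj K x⁻¹ g)
  rw [inv_inv] at this
  exact this.mp h2

end Cfsg.Agent.Lib.H74BSWConj
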