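import Mathlib

/-! PROJECT 74 (BSW), piece `Hall` (1 h, PURE Sylow theory).
Cauchy: `a ∈ A` of order `r`.  Let `R` be a Sylow `r`-subgroup of `G` containing `a`, `1 ≠ z ∈ Z(R)`.  `z` commutes with `a`, so `z ∈ A`; every `y ∈ R` commutes with `z`, so `R ≤ A`.
An element of order `r` is conjugate into `R`. -/

set_option autoImplicit false

namespace Cfsg.Agent.Lib.H74BSWHall

theorem hall {G : Type*} [Group G] [Finite G] (A : Subgroup G) (r : ℕ) (hr : r.Prime) (hrA : r ∣ Nat.card A)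
    (hA : ∀ a ∈ A, a ≠ 1 → ∀ y : G, y * a = a * y → (∃ j : ℕ, orderOf y = r ^ j) → y ∈ A) :
    ∀ y : G, orderOf y = r → ∃ x : G, x * y * x⁻¹ ∈ A := by
  haveI : Fact r.Prime := ⟨hr⟩
  obtain ⟨⟨a, haA⟩, ha⟩ := exists_prime_orderOf_dvd_card' (G := A) r hrA
  rw [Subgroup.orderOf_mk] at ha
  have ha1 : a ≠ 1 := by
    rintro rfl
    rw [orderOf_one] at ha
    exact hr.one_lt.ne ha
  -- Sylow subgroup containing `a`
  have hpa : IsPGroup r (Subgroup.zpowers a) := by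
    rw [IsPGroup.iff_card]
    exact ⟨1, by rw [Nat.card_zpowers, ha, pow_one]⟩
  obtain ⟨R, hR⟩ := hpa.exists_le_sylow
  have haR : a ∈ (R : Subgroup G) := hR (Subgroup.mem_zpowers a)
  have hord : ∀ y ∈ (R : Subgroup G), ∃ j : ℕ, orderOf y = r ^ j := by
    intro y hy
    obtain ⟨j, hj⟩ := (IsPGroup.iff_orderOf.1 R.2) ⟨y, hy⟩
    exact ⟨j, by rwa [Subgroup.orderOf_mk] at hj⟩
  haveI : Nontrivial (R : Subgroup G) := ⟨⟨⟨a, haR⟩, 1, fun h => ha1 (congrArg Subtype.val h)⟩⟩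
  haveI := R.2.center_nontrivial
  obtain ⟨⟨⟨z, hzR⟩, hzc⟩, hz1⟩ := exists_ne (1 : Subgroup.center (R : Subgroup G))
  have hz1' : z ≠ 1 := by
    intro h
    apply hz1
    ext
    exact h
  have hzcomm : ∀ y ∈ (R : Subgroup G), y * z = z * y := by
    intro y hy
    have := (Subgroup.mem_center_iff.1 hzc) ⟨y, hy⟩
    exact congrArg Subtype.val this
  have hzA : z ∈ A := hA a haA ha1 z (hzcomm a haR).symm (hord z hzR)
  have hRA : (R : Subgroup G) ≤ A := fun y hy => hA z hzA hz1' y (hzcomm y hy) (hord y hy)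
  intro y hy
  have hpy : IsPGroup r (Subgroup.zpowers y) := by
    rw [IsPGroup.iff_card]
    exact ⟨1, by rw [Nat.card_zpowers, hy, pow_one]⟩
  obtain ⟨S, hS⟩ := hpy.exists_le_sylow
  obtain ⟨x, hx⟩ := MulAction.exists_smul_eq G S R
  refine ⟨x, hRA ?_⟩
  rw [← hx, Sylow.coe_subgroup_smul]
  exact ⟨y, hS (Subgroup.mem_zpowers y), by simp [MulAut.conj_apply]⟩

end Cfsg.Agent.Lib.H74BSWHall
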