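import Cfsg.Agent.Lib.H74BSWRT1
import Cfsg.Agent.Lib.H74BSWHall

/-! PROJECT 74 (BSW), piece `Cop` (1 h).
`hallK`: `r = 2`: involutions (`Conj.inKK_invol`).  `r` odd: `Hall.hall` with `A = K`: an element `y` of odd order commuting with `1 ≠ a ∈ K` lies in `C t` (`Basic.cent_le`) and is not an involution, so `y ∈ K` (`Basic.out_invol`).
`cop`: a common prime divisor `r` gives (Cauchy) `y ∈ C g` of order `r`, in a conjugate of `K` by `hallK`; contradiction with `El.el1`.
`hallRT`: `Hall.hall` with `A = C g` (`RT1.rt_cent`). -/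

set_option autoImplicit false

namespace Cfsg.Agent.Lib.H74BSWCop

open Cfsg.Agent.Lib.Helper74BSWDefs

variable {G : Type*} [Group G] [Finite G] {t s : G} {K : Subgroup G}

theorem hallK (h : BSW t s K) {r : ℕ} (hr : r.Prime) (hrK : r ∣ Nat.card K) {y : G} (hy : orderOf y = r) :
    inKK K y := by
  by_cases h2 : r = 2
  · subst h2
    exact H74BSWConj.inKK_invol h hy
  · refine H74BSWHall.hall K r hr hrK ?_ y hy
    intro a ha ha1 z hz hzo
    obtain ⟨j, hj⟩ := hzo
    have hzt : z ∈ C t := H74BSWBasic.cent_le h ha ha1 (H74BSWConj.mem_C.2 hz)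
    by_contra hzK
    have h3 := (H74BSWBasic.out_invol h hzt hzK).1
    rw [hj] at h3
    have h4 : r ∣ 2 := by
      rw [← h3]
      refine dvd_pow_self r ?_
      rintro rfl
      simp at h3
    exact h2 ((Nat.prime_dvd_prime_iff_eq hr Nat.prime_two).1 h4)

theorem cop (h : BSW t s K) {g : G} (hg : ¬ inKK K g) : Nat.Coprime (Nat.card (C g)) (2 * Nat.card K) := by
  rw [Nat.coprime_iff_gcd_eq_one]
  by_contra hne
  obtain ⟨r, hr, hrd⟩ := Nat.exists_prime_and_dvd hne
  have h1 : r ∣ Nat.card (C g) := hrd.trans (Nat.gcd_dvd_left _ _)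
  have h2 : r ∣ 2 * Nat.card K := hrd.trans (Nat.gcd_dvd_right _ _)
  have h3 : r ∣ Nat.card K := by
    rcases (Nat.Prime.dvd_mul hr).1 h2 with h4 | h4
    · exact h4.trans (H74BSWBasic.even_K h).two_dvd
    · exact h4
  have : Fact r.Prime := ⟨hr⟩
  obtain ⟨w, hw⟩ := exists_prime_orderOf_dvd_card' (G := C g) r h1
  have hw2 : orderOf (w : G) = r := by rw [Subgroup.orderOf_coe]; exact hw
  have hw1 : (w : G) ≠ 1 := by
    intro h5
    rw [h5, orderOf_one] at hw2
    exact hr.one_lt.ne hw2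
  exact H74BSWEl.el1 h hg w.2 hw1 (hallK h hr h3 hw2)

theorem hallRT (h : BSW t s K) {g : G} (hg : RT K g) {r : ℕ} (hr : r.Prime) (hrQ : r ∣ Nat.card (C g)) {y : G}
    (hy : orderOf y = r) : ∃ x : G, x * y * x⁻¹ ∈ C g := by
  refine H74BSWHall.hall (C g) r hr hrQ ?_ y hy
  intro a ha ha1 z hz _
  have h1 := (H74BSWRT1.rt_cent h hg ha ha1).1
  rw [← h1]
  exact H74BSWConj.mem_C.2 hz

end Cfsg.Agent.Lib.H74BSWCop
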