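import Mathlib

set_option autoImplicit false

namespace Cfsg.Agent.Lib.Helper32Dual

variable {W : Type*} [CommGroup W] [Finite W]

instance enough : HasEnoughRootsOfUnity ℂ (Monoid.exponent W) := by
  have : NeZero (Monoid.exponent W) := ⟨(Monoid.exponent_ne_zero_of_finite)⟩
  have : NeZero ((Monoid.exponent W : ℕ) : ℂ) := ⟨by exact_mod_cast Monoid.exponent_ne_zero_of_finite⟩
  infer_instance

/-- characters trivial on `B`. -/
def Triv (B : Subgroup W) (φ : W →* ℂˣ) : Prop := ∀ y ∈ B, φ y = 1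

theorem exists_triv_ne_one (B : Subgroup W) {x : W} (hx : x ∉ B) :
    ∃ φ : W →* ℂˣ, Triv B φ ∧ φ x ≠ 1 := by
  by_contra hcon
  push Not at hcon
  exact hx ((CommGroup.forall_monoidHom_apply_eq_one_iff (M := ℂ) B x).1 hcon)

theorem card_triv (B : Subgroup W) : Nat.card {φ : W →* ℂˣ // Triv B φ} = B.index := by
  have h := CommGroup.card_domRestrictHom_ker (M := ℂ) B
  rw [Subgroup.index, ← h]
  apply Nat.card_congr
  refine Equiv.subtypeEquivRight ?_
  intro φ
  rw [MonoidHom.mem_ker]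
  constructor
  · intro h
    ext y
    have := h y y.2
    simp [this]
  · intro h y hy
    have := congrArg (fun f : B →* ℂˣ => f ⟨y, hy⟩) h
    simpa using this

open scoped Classical in
theorem sum_triv [Fintype (W →* ℂˣ)] (B : Subgroup W) (x : W) :
    ∑ φ ∈ Finset.univ.filter (Triv B), ((φ x : ℂˣ) : ℂ) = if x ∈ B then (B.index : ℂ) else 0 := by
  split_ifs with hx
  · rw [Finset.sum_congr rfl (g := fun _ => (1 : ℂ))]
    · rw [Finset.sum_const, nsmul_eq_mul, mul_one, ← card_triv B, Nat.card_eq_fintype_card,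
        Fintype.card_subtype]
    · intro φ hφ
      rw [(Finset.mem_filter.1 hφ).2 x hx]; rfl
  · obtain ⟨φ₀, h0, h1⟩ := exists_triv_ne_one B hx
    set S := ∑ φ ∈ Finset.univ.filter (Triv B), ((φ x : ℂˣ) : ℂ) with hS
    have h2 : ((φ₀ x : ℂˣ) : ℂ) * S = S := by
      rw [hS, Finset.mul_sum]
      apply Finset.sum_equiv (Equiv.mulLeft φ₀)
      · intro φ
        simp only [Finset.mem_filter, Finset.mem_univ, true_and, Equiv.coe_mulLeft]
        constructor
        · intro h y hy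
          rw [MonoidHom.mul_apply, h0 y hy, h y hy, one_mul]
        · intro h y hy
          have := h y hy
          rwa [MonoidHom.mul_apply, h0 y hy, one_mul] at this
      · intro φ _
        simp
    have h3 : (((φ₀ x : ℂˣ) : ℂ) - 1) * S = 0 := by rw [sub_mul, h2, one_mul, sub_self]
    rcases mul_eq_zero.1 h3 with h | h
    · exfalso
      apply h1
      ext
      rw [sub_eq_zero] at h
      simpa using h
    · exact h

/-- the key extraction lemma -/
theorem eq_zero_of_sum_aFun (A B : Subgroup W) (hAB : A ⊓ B = ⊥) [Fintype W] (f : W → ℂ)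
    (h : ∀ φ ψ : W →* ℂˣ, Triv B φ → Triv A ψ →
      ∑ w : W, (1 - (φ w : ℂ) - (ψ w : ℂ) + (φ w : ℂ) * (ψ w : ℂ)) * f w = 0)
    (v : W) (hvA : v ∉ A) (hvB : v ∉ B) : f v = 0 := by
  classical
  have : Fintype (W →* ℂˣ) := Fintype.ofFinite _
  have hvA' : v⁻¹ ∉ A := fun h => hvA (by simpa using A.inv_mem h)
  have hvB' : v⁻¹ ∉ B := fun h => hvB (by simpa using B.inv_mem h)
  have h1 : ∑ φ ∈ Finset.univ.filter (Triv B), ∑ ψ ∈ Finset.univ.filter (Triv A),
      ((φ v⁻¹ : ℂˣ) : ℂ) * ((ψ v⁻¹ : ℂˣ) : ℂ) *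
        ∑ w : W, (1 - (φ w : ℂ) - (ψ w : ℂ) + (φ w : ℂ) * (ψ w : ℂ)) * f w = 0 := by
    apply Finset.sum_eq_zero
    intro φ hφ
    apply Finset.sum_eq_zero
    intro ψ hψ
    rw [h φ ψ (Finset.mem_filter.1 hφ).2 (Finset.mem_filter.1 hψ).2, mul_zero]
  have h2 : ∑ φ ∈ Finset.univ.filter (Triv B), ∑ ψ ∈ Finset.univ.filter (Triv A),
      ((φ v⁻¹ : ℂˣ) : ℂ) * ((ψ v⁻¹ : ℂˣ) : ℂ) *
        ∑ w : W, (1 - (φ w : ℂ) - (ψ w : ℂ) + (φ w : ℂ) * (ψ w : ℂ)) * f w =
      ∑ w : W, f w * ((∑ φ ∈ Finset.univ.filter (Triv B),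
          (((φ v⁻¹ : ℂˣ) : ℂ) - ((φ (v⁻¹ * w) : ℂˣ) : ℂ))) *
        (∑ ψ ∈ Finset.univ.filter (Triv A),
          (((ψ v⁻¹ : ℂˣ) : ℂ) - ((ψ (v⁻¹ * w) : ℂˣ) : ℂ)))) := by
    simp_rw [Finset.mul_sum]
    rw [Finset.sum_congr rfl (fun φ _ => Finset.sum_comm)]
    rw [Finset.sum_comm]
    apply Finset.sum_congr rfl
    intro w _
    simp_rw [Finset.sum_mul, Finset.mul_sum]
    rw [Finset.sum_comm]
    apply Finset.sum_congr rfl
    intro ψ _
    apply Finset.sum_congr rfl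
    intro φ _
    rw [map_mul, map_mul]
    push_cast
    ring
  rw [h2] at h1
  rw [Finset.sum_eq_single v] at h1
  · rw [Finset.sum_sub_distrib, Finset.sum_sub_distrib, sum_triv, sum_triv, sum_triv, sum_triv,
      if_neg hvA', if_neg hvB', inv_mul_cancel, if_pos A.one_mem, if_pos B.one_mem] at h1
    have hA : (A.index : ℂ) ≠ 0 := by exact_mod_cast A.index_ne_zero_of_finite
    have hB : (B.index : ℂ) ≠ 0 := by exact_mod_cast B.index_ne_zero_of_finite
    rcases mul_eq_zero.1 h1 with h | h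
    · exact h
    · exfalso
      rcases mul_eq_zero.1 h with h | h
      · apply hB; simpa using h
      · apply hA; simpa using h
  · intro w _ hw
    rw [Finset.sum_sub_distrib, Finset.sum_sub_distrib, sum_triv, sum_triv, sum_triv, sum_triv,
      if_neg hvA', if_neg hvB']
    by_cases h3 : v⁻¹ * w ∈ B
    · have h4 : v⁻¹ * w ∉ A := by
        intro h4
        have : v⁻¹ * w ∈ A ⊓ B := ⟨h4, h3⟩
        rw [hAB, Subgroup.mem_bot, inv_mul_eq_one] at this
        exact hw this.symm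
      rw [if_neg h4]; simp
    · rw [if_neg h3]; simp
  · intro h; exact absurd (Finset.mem_univ v) h

theorem isComplement' (A B : Subgroup W) (hinf : A ⊓ B = ⊥) (hsup : A ⊔ B = ⊤) :
    Subgroup.IsComplement' A B := by
  apply Subgroup.isComplement'_of_disjoint_and_mul_eq_univ (disjoint_iff.2 hinf)
  rw [← Subgroup.mul_normal, hsup, Subgroup.coe_top]

theorem eq_one_of_triv (A B : Subgroup W) (hsup : A ⊔ B = ⊤) (ω : W →* ℂˣ)
    (h1 : Triv A ω) (h2 : Triv B ω) : ω = 1 := by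
  have hle : A ⊔ B ≤ ω.ker := sup_le (fun a ha => h1 a ha) (fun b hb => h2 b hb)
  rw [hsup] at hle
  ext w
  have : ω w = 1 := hle (Subgroup.mem_top w)
  rw [this]; rfl

theorem triv_mul_eq_iff (A B : Subgroup W) (hsup : A ⊔ B = ⊤) {φ φ' ψ ψ' : W →* ℂˣ}
    (hφ : Triv B φ) (hφ' : Triv B φ') (hψ : Triv A ψ) (hψ' : Triv A ψ') :
    φ * ψ = φ' * ψ' ↔ φ = φ' ∧ ψ = ψ' := by
  constructor
  · intro h
    have h1 : φ * φ'⁻¹ = 1 := by
      apply eq_one_of_triv A B hsup
      · intro a ha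
        have := congrArg (fun f : W →* ℂˣ => f a) h
        simp only [MonoidHom.mul_apply, hψ a ha, hψ' a ha, mul_one] at this
        simp [this]
      · intro b hb
        simp [hφ b hb, hφ' b hb]
    have h2 : φ = φ' := mul_inv_eq_one.1 h1
    refine ⟨h2, ?_⟩
    rw [h2] at h
    exact mul_left_cancel h
  · rintro ⟨rfl, rfl⟩; rfl

theorem mulMap_bijective (A B : Subgroup W) (hinf : A ⊓ B = ⊥) (hsup : A ⊔ B = ⊤) :
    Function.Bijective (fun p : {φ : W →* ℂˣ // Triv B φ} × {ψ : W →* ℂˣ // Triv A ψ} =>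
      (p.1 : W →* ℂˣ) * (p.2 : W →* ℂˣ)) := by
  have hc := isComplement' A B hinf hsup
  rw [Nat.bijective_iff_injective_and_card]
  constructor
  · rintro ⟨φ, ψ⟩ ⟨φ', ψ'⟩ h
    obtain ⟨h1, h2⟩ := (triv_mul_eq_iff A B hsup φ.2 φ'.2 ψ.2 ψ'.2).1 h
    exact Prod.ext (Subtype.ext h1) (Subtype.ext h2)
  · rw [Nat.card_prod, card_triv, card_triv, hc.index_eq_card, hc.symm.index_eq_card,
      CommGroup.card_monoidHom_of_hasEnoughRootsOfUnity, hc.card_mul_card]

end Cfsg.Agent.Lib.Helper32Dual
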