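import Cfsg.Agent.Lib.H74BSWBasic
import Cfsg.Agent.Lib.Helper32Dual

/-! PROJECT 74 (BSW), piece `Dual` (2 h): the dual group of the abelian group `K` (make `K` a `CommGroup` locally from `h.hab`; tools: `Helper32Dual.card_triv`, `sum_triv`, `exists_triv_ne_one`).
`card_dual`: `card_triv ⊥`.  `orth`: `sum_triv ⊥`.  `orth'`: the usual trick (multiply by `φ y ≠ 1`).
`eps`: `φ⁻¹ = φ` iff `φ` is trivial on the subgroup `K²` of squares; `x ↦ x * x` is an endomorphism of `K` with kernel `{1, t}` (`Basic.sq_one`), so `K²` has index 2 and `card_triv` gives exactly two such `φ` (one of them is `1`).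
`tau`: `(φ t)^2 = 1`.  `tau_sum`: `orth` at `t ≠ 1`.  `tau_mix`: exactly `k/2` characters have `φ t = 1` (`card_triv ⟨t⟩`), `k/2` have `φ t = -1`; at most two characters are real (`1`, with `φ t = 1`, and `ε`); `k/2 - 2 ≥ 1`. -/

set_option autoImplicit false

namespace Cfsg.Agent.Lib.H74BSWDual

open Cfsg.Agent.Lib.Helper74BSWDefs
open scoped Classical

section generic

variable {W : Type*} [Group W] [Finite W]

theorem g_card_triv (hc : ∀ a b : W, a * b = b * a) (B : Subgroup W) :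
    Nat.card {φ : W →* ℂˣ // ∀ y ∈ B, φ y = 1} = B.index := by
  let _ : CommGroup W := { ‹Group W› with mul_comm := hc }
  exact Cfsg.Agent.Lib.Helper32Dual.card_triv B

theorem g_card_dual (hc : ∀ a b : W, a * b = b * a) : Nat.card (W →* ℂˣ) = Nat.card W := by
  have h := g_card_triv hc (⊥ : Subgroup W)
  rw [Subgroup.index_bot] at h
  rw [← h]
  refine Nat.card_congr (Equiv.subtypeUnivEquiv ?_).symm
  intro φ y hy
  rw [Subgroup.mem_bot.1 hy, map_one]

theorem g_orth (hc : ∀ a b : W, a * b = b * a) [Fintype (W →* ℂˣ)] (x : W) :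
    ∑ φ : W →* ℂˣ, ((φ x : ℂˣ) : ℂ) = if x = 1 then (Nat.card W : ℂ) else 0 := by
  let _ : CommGroup W := { ‹Group W› with mul_comm := hc }
  have h := Cfsg.Agent.Lib.Helper32Dual.sum_triv (⊥ : Subgroup W) x
  have e : Finset.univ.filter (Cfsg.Agent.Lib.Helper32Dual.Triv (⊥ : Subgroup W)) = Finset.univ := by
    apply Finset.filter_true_of_mem
    intro φ _ y hy
    rw [Subgroup.mem_bot.1 hy, map_one]
  rw [e] at h
  rw [h]
  simp [Subgroup.mem_bot, Subgroup.index_bot]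

omit [Finite W] in
theorem g_orth' [Fintype W] (φ : W →* ℂˣ) :
    ∑ x : W, ((φ x : ℂˣ) : ℂ) = if φ = 1 then (Nat.card W : ℂ) else 0 := by
  split_ifs with h
  · subst h
    simp
  · have : ∃ y, φ y ≠ 1 := by
      by_contra hcon
      push Not at hcon
      exact h (MonoidHom.ext hcon)
    obtain ⟨y, hy⟩ := this
    set S := ∑ x : W, ((φ x : ℂˣ) : ℂ) with hS
    have h2 : ((φ y : ℂˣ) : ℂ) * S = S := by
      rw [hS, Finset.mul_sum]
      apply Fintype.sum_equiv (Equiv.mulLeft y)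
      intro x
      simp
    have h3 : (((φ y : ℂˣ) : ℂ) - 1) * S = 0 := by rw [sub_mul, h2, one_mul, sub_self]
    rcases mul_eq_zero.1 h3 with h4 | h4
    · exfalso
      apply hy
      ext
      rw [sub_eq_zero] at h4
      simpa using h4
    · exact h4

theorem unit_sq {u : ℂˣ} (h : u * u = 1) : u = 1 ∨ u = -1 := by
  have h1 : (u : ℂ) * (u : ℂ) = 1 := by
    rw [← Units.val_mul, h]; rfl
  rcases mul_self_eq_one_iff.1 h1 with h2 | h2
  · left; ext; simpa using h2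
  · right; ext; simpa using h2

omit [Finite W] in
/-- real characters are those trivial on the squares -/
theorem inv_eq_iff (hc : ∀ a b : W, a * b = b * a) (φ : W →* ℂˣ) :
    φ⁻¹ = φ ↔ ∀ y ∈ (⟨⟨fun x : W => x * x, by simp⟩, by
      intro a b
      show a * b * (a * b) = a * a * (b * b)
      rw [mul_assoc, ← mul_assoc b a b, hc b a]; simp [mul_assoc]⟩ : W →* W).range, φ y = 1 := by
  constructor
  · rintro h _ ⟨x, rfl⟩
    show φ (x * x) = 1
    have h1 : (φ x)⁻¹ = φ x := by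
      have := congrArg (fun f : W →* ℂˣ => f x) h
      simpa using this
    rw [map_mul]
    nth_rewrite 1 [← h1]
    simp
  · intro h
    ext x
    have h1 : φ (x * x) = 1 := h _ ⟨x, rfl⟩
    rw [map_mul] at h1
    have : (φ x)⁻¹ = φ x := inv_eq_of_mul_eq_one_left h1
    simp [this]

end generic

variable {G : Type*} [Group G] [Finite G] {t s : G} {K : Subgroup G}

omit [Finite G] in
theorem hcK (h : BSW t s K) : ∀ a b : K, a * b = b * a :=
  fun a b => Subtype.ext (h.hab a a.2 b b.2)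

omit [Finite G] in
theorem t_ne_one (h : BSW t s K) : (⟨t, h.htK⟩ : K) ≠ 1 := by
  intro e
  have : t = 1 := congrArg Subtype.val e
  have h2 := h.ht
  rw [this, orderOf_one] at h2
  omega

omit [Finite G] in
theorem t_sq (h : BSW t s K) : (⟨t, h.htK⟩ : K) * ⟨t, h.htK⟩ = 1 := by
  apply Subtype.ext
  show t * t = 1
  rw [← sq, ← h.ht, pow_orderOf_eq_one]

theorem card_P (h : BSW t s K) : Fintype.card {φ : K →* ℂˣ // φ ≠ 1} = Nat.card K - 1 := by
  rw [Fintype.card_subtype_compl, Fintype.card_subtype_eq, ← Nat.card_eq_fintype_card,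
    g_card_dual (hcK h)]

/-- the number of real characters is two -/
theorem card_real (h : BSW t s K) : Nat.card {φ : K →* ℂˣ // φ⁻¹ = φ} = 2 := by
  set sq : K →* K := ⟨⟨fun x : K => x * x, by simp⟩, by
      intro a b
      show a * b * (a * b) = a * a * (b * b)
      rw [mul_assoc, ← mul_assoc b a b, hcK h b a]; simp [mul_assoc]⟩ with hsq
  have e : Nat.card {φ : K →* ℂˣ // φ⁻¹ = φ} = Nat.card {φ : K →* ℂˣ // ∀ y ∈ sq.range, φ y = 1} :=
    Nat.card_congr (Equiv.subtypeEquivRight fun φ => inv_eq_iff (hcK h) φ)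
  rw [e, g_card_triv (hcK h)]
  -- index of the range = card of the kernel
  have h1 : Nat.card sq.ker = 2 := by
    have : sq.ker = Subgroup.zpowers (⟨t, h.htK⟩ : K) := by
      ext x
      rw [MonoidHom.mem_ker]
      constructor
      · intro hx
        have hx' : (x : G) * x = 1 := congrArg Subtype.val hx
        rcases Cfsg.Agent.Lib.H74BSWBasic.sq_one h x.2 hx' with h1 | h1
        · have : x = 1 := Subtype.ext h1
          rw [this]; exact Subgroup.one_mem _
        · have : x = ⟨t, h.htK⟩ := Subtype.ext h1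
          rw [this]; exact Subgroup.mem_zpowers _
      · intro hx
        obtain ⟨n, rfl⟩ := Subgroup.mem_zpowers_iff.1 hx
        show (⟨t, h.htK⟩ : K) ^ n * (⟨t, h.htK⟩ : K) ^ n = 1
        rw [← (Commute.refl _).mul_zpow, t_sq h, one_zpow]
    rw [this, Nat.card_zpowers, Subgroup.orderOf_mk, h.ht]
  have h2 := Subgroup.index_ker sq
  have h3 := Subgroup.card_mul_index sq.ker
  have h4 := Subgroup.card_mul_index sq.range
  rw [h1, h2] at h3
  have hpos : 0 < Nat.card sq.range := Nat.card_pos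
  have : Nat.card sq.range * sq.range.index = Nat.card sq.range * 2 := by rw [h4, ← h3]; ring
  exact Nat.eq_of_mul_eq_mul_left hpos this

theorem eps (h : BSW t s K) : ∃! φ : {φ : K →* ℂˣ // φ ≠ 1}, (φ : K →* ℂˣ)⁻¹ = φ := by
  have h2 := card_real h
  obtain ⟨⟨ε, hε⟩, hε1, huniq⟩ := (Nat.card_eq_two_iff' (⟨1, by ext x; simp⟩ : {φ : K →* ℂˣ // φ⁻¹ = φ})).1 h2
  refine ⟨⟨ε, fun e => hε1 (Subtype.ext e)⟩, hε, ?_⟩
  rintro ⟨φ, hφ1⟩ hφ
  apply Subtype.ext
  have := huniq ⟨φ, hφ⟩ (fun e => hφ1 (congrArg Subtype.val e))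
  exact (congrArg Subtype.val this : φ = ε)

theorem tau (h : BSW t s K) (φ : K →* ℂˣ) : φ ⟨t, h.htK⟩ = 1 ∨ φ ⟨t, h.htK⟩ = -1 := by
  apply unit_sq
  rw [← map_mul, t_sq h, map_one]

theorem orth (h : BSW t s K) (x : K) :
    ∑ φ : K →* ℂˣ, ((φ x : ℂˣ) : ℂ) = if x = 1 then (Nat.card K : ℂ) else 0 := by
  have := g_orth (hcK h) x
  convert this

theorem orth' [Fintype K] (φ : K →* ℂˣ) :
    ∑ x : K, ((φ x : ℂˣ) : ℂ) = if φ = 1 then (Nat.card K : ℂ) else 0 :=
  g_orth' φ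

theorem tau_sum (h : BSW t s K) : ∑ φ : {φ : K →* ℂˣ // φ ≠ 1}, (((φ : K →* ℂˣ) ⟨t, h.htK⟩ : ℂˣ) : ℂ) = -1 := by
  have h1 := orth h ⟨t, h.htK⟩
  rw [if_neg (t_ne_one h)] at h1
  have h2 := Fintype.sum_subtype_add_sum_subtype (fun φ : K →* ℂˣ => φ ≠ 1)
    (fun φ : K →* ℂˣ => ((φ ⟨t, h.htK⟩ : ℂˣ) : ℂ))
  rw [h1] at h2
  have h3 : ∑ φ : {φ : K →* ℂˣ // ¬ φ ≠ 1}, (((φ : K →* ℂˣ) ⟨t, h.htK⟩ : ℂˣ) : ℂ) = 1 := by
    rw [Fintype.sum_eq_single (⟨1, by simp⟩ : {φ : K →* ℂˣ // ¬ φ ≠ 1})]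
    · simp
    · intro φ hφ
      exact absurd (Subtype.ext (not_not.1 φ.2)) hφ
  rw [h3] at h2
  linear_combination h2

theorem tau_mix (h : BSW t s K) (hk : 6 ≤ Nat.card K) :
    ∃ φ φ' : K →* ℂˣ, φ⁻¹ ≠ φ ∧ φ'⁻¹ ≠ φ' ∧ φ ⟨t, h.htK⟩ ≠ φ' ⟨t, h.htK⟩ := by
  set R : Finset (K →* ℂˣ) := Finset.univ.filter fun φ => φ⁻¹ = φ with hR
  set T : Finset (K →* ℂˣ) := Finset.univ.filter fun φ => φ ⟨t, h.htK⟩ = 1 with hT
  have hRc : R.card = 2 := by
    rw [hR, ← Fintype.card_subtype, ← Nat.card_eq_fintype_card, card_real h]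
  have hidx : 2 * (Subgroup.zpowers (⟨t, h.htK⟩ : K)).index = Nat.card K := by
    have := Subgroup.card_mul_index (Subgroup.zpowers (⟨t, h.htK⟩ : K))
    rwa [Nat.card_zpowers, Subgroup.orderOf_mk, h.ht] at this
  have hTc : 2 * T.card = Nat.card K := by
    rw [← hidx, ← g_card_triv (hcK h), hT, ← Fintype.card_subtype, ← Nat.card_eq_fintype_card]
    congr 1
    refine Nat.card_congr (Equiv.subtypeEquivRight fun φ => ?_)
    constructor
    · intro h1 y hy
      obtain ⟨n, rfl⟩ := Subgroup.mem_zpowers_iff.1 hy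
      rw [map_zpow, h1, one_zpow]
    · intro h1
      exact h1 _ (Subgroup.mem_zpowers _)
  have hU : (Finset.univ : Finset (K →* ℂˣ)).card = Nat.card K := by
    rw [Finset.card_univ, ← Nat.card_eq_fintype_card, g_card_dual (hcK h)]
  have h1 : (T \ R).Nonempty := by
    rw [← Finset.card_pos]
    have := Finset.le_card_sdiff R T
    omega
  have h2 : (Tᶜ \ R).Nonempty := by
    rw [← Finset.card_pos]
    have := Finset.le_card_sdiff R Tᶜ
    have h3 := Finset.card_compl T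
    rw [← Finset.card_univ, hU] at h3
    omega
  obtain ⟨φ, hφ⟩ := h1
  obtain ⟨φ', hφ'⟩ := h2
  rw [Finset.mem_sdiff] at hφ hφ'
  refine ⟨φ, φ', ?_, ?_, ?_⟩
  · intro e
    exact hφ.2 (Finset.mem_filter.2 ⟨Finset.mem_univ _, e⟩)
  · intro e
    exact hφ'.2 (Finset.mem_filter.2 ⟨Finset.mem_univ _, e⟩)
  · intro e
    have h3 : φ ⟨t, h.htK⟩ = 1 := (Finset.mem_filter.1 hφ.1).2
    have h4 := Finset.mem_compl.1 hφ'.1
    exact h4 (Finset.mem_filter.2 ⟨Finset.mem_univ _, by rw [← e, h3]⟩)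

end Cfsg.Agent.Lib.H74BSWDual
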