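import Cfsg.Agent.Lib.H74BSWConj

/-! PROJECT 74 (BSW), piece `El` (1 h).
`el1`: if `1 ≠ y ∈ C g` and `x y x⁻¹ ∈ K`, then `x g x⁻¹ ∈ C (x y x⁻¹) ≤ C t` (`Basic.cent_le`), so `g` lies in a conjugate of `K`
(`Conj.inKK_invol_cent` with the involution `x⁻¹ t x`, or `mem_H_iff`).
`odd_cent`: otherwise Cauchy gives an involution in `C g`, which is in a conjugate of `K` (`inKK_invol`): contradiction with `el1`.
`psi_K`: `psi x = #{u | u involution, u * x involution}`.  For `x = t`: `u ∈ C t`, `u ≠ t`: these are the `k` elements of `K s`.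
For `x * x ≠ 1`: `(u x)^2 = 1` means `u x u⁻¹ = x⁻¹ ∈ K`, so `u ∈ C t` (`ti`), `u ∉ K` (else `x = x⁻¹`); conversely all `k` elements of `K s` work. -/

set_option autoImplicit false

namespace Cfsg.Agent.Lib.H74BSWEl

open Cfsg.Agent.Lib.Helper74BSWDefs Cfsg.Agent.Lib.H74BSWConj Cfsg.Agent.Lib.H74BSWBasic

variable {G : Type*} [Group G] {t s : G} {K : Subgroup G}

theorem invol_mul_self {u : G} (hu : orderOf u = 2) : u * u = 1 := by
  have := pow_orderOf_eq_one u
  rwa [hu, pow_two] at this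

theorem invol_inv {u : G} (hu : orderOf u = 2) : u⁻¹ = u :=
  inv_eq_of_mul_eq_one_left (invol_mul_self hu)

theorem invol_ne_one {u : G} (hu : orderOf u = 2) : u ≠ 1 := by
  rintro rfl
  simp at hu

theorem orderOf_two_of {u : G} (h1 : u * u = 1) (h2 : u ≠ 1) : orderOf u = 2 :=
  orderOf_eq_prime (by rw [pow_two, h1]) h2

theorem el1 (h : BSW t s K) {g y : G} (hg : ¬ inKK K g) (hy : y ∈ C g) (hy1 : y ≠ 1) : ¬ inKK K y := by
  rintro ⟨x, hx⟩
  apply hg
  have hne : x * y * x⁻¹ ≠ 1 := by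
    intro h1
    apply hy1
    have : y = x⁻¹ * (x * y * x⁻¹) * x := by simp [mul_assoc]
    rw [this, h1]; simp
  have h1 : x * g * x⁻¹ ∈ C (x * y * x⁻¹) := by
    rw [mem_C]
    rw [mem_C] at hy
    have : x * (g * y) * x⁻¹ = x * (y * g) * x⁻¹ := by rw [hy]
    simpa [mul_assoc] using this
  have h2 := cent_le h hx hne h1
  rw [mem_C] at h2
  exact (inKK_conj K x g).mp (inKK_invol_cent h h.ht h2)

theorem odd_cent [Finite G] (h : BSW t s K) {g : G} (hg : ¬ inKK K g) : Odd (Nat.card (C g)) := by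
  by_contra hodd
  rw [Nat.not_odd_iff_even] at hodd
  obtain ⟨w, hw⟩ := exists_prime_orderOf_dvd_card' (G := C g) 2 hodd.two_dvd
  have hw2 : orderOf (w : G) = 2 := by rw [Subgroup.orderOf_coe]; exact hw
  exact el1 h hg w.2 (invol_ne_one hw2) (inKK_invol h hw2)

theorem odd_order [Finite G] (h : BSW t s K) {g : G} (hg : ¬ inKK K g) : Odd (orderOf g) := by
  have hgC : g ∈ C g := by rw [mem_C]
  exact (odd_cent h hg).of_dvd_nat (Subgroup.orderOf_dvd_natCard _ hgC)

theorem psi_set_iff (h : BSW t s K) {x : G} (hx : x ∈ K) (hx1 : x ≠ 1) (u : G) :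
    (orderOf u = 2 ∧ orderOf (u * x) = 2) ↔ (u ∈ C t ∧ u ∉ K) := by
  constructor
  · rintro ⟨hu, hux⟩
    have h1 : u * x * u⁻¹ = x⁻¹ := by
      have := invol_mul_self hux
      rw [invol_inv hu]
      have h2 : u * x * u * x = 1 := by simpa [mul_assoc] using this
      exact eq_inv_of_mul_eq_one_left h2
    have huC : u ∈ C t := ti h hx hx1 (by rw [h1]; exact K.inv_mem hx)
    refine ⟨huC, fun huK => ?_⟩
    rcases sq_one h huK (invol_mul_self hu) with h2 | h2
    · exact invol_ne_one hu h2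
    · rcases sq_one h (K.mul_mem huK hx) (invol_mul_self hux) with h3 | h3
      · exact invol_ne_one hux h3
      · apply hx1
        rw [h2] at h3
        exact mul_eq_left.mp h3
  · rintro ⟨huC, huK⟩
    refine ⟨(out_invol h huC huK).1, ?_⟩
    have h1 : u * x ∈ C t := (C t).mul_mem huC (h.hKH hx)
    have h2 : u * x ∉ K := fun hh => huK (by
      have := K.mul_mem hh (K.inv_mem hx)
      simpa using this)
    exact (out_invol h h1 h2).1

theorem psi_K [Finite G] (h : BSW t s K) {x : G} (hx : x ∈ K) (hx1 : x ≠ 1) : psi x = Nat.card K := by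
  unfold psi
  symm
  refine Nat.card_congr (Equiv.ofBijective (fun a : K => ⟨(a : G) * s, ?_⟩) ⟨?_, ?_⟩)
  · rw [psi_set_iff h hx hx1]
    refine ⟨(C t).mul_mem (h.hKH a.2) h.hsH, fun hh => h.hsK ?_⟩
    have := K.mul_mem (K.inv_mem a.2) hh
    simpa using this
  · intro a b hab
    have : (a : G) * s = (b : G) * s := congrArg Subtype.val hab
    exact Subtype.ext (mul_right_cancel this)
  · rintro ⟨u, hu⟩
    rw [psi_set_iff h hx hx1] at hu
    rcases (mem_H_iff h u).mp hu.1 with h1 | ⟨a, ha, rfl⟩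
    · exact absurd h1 hu.2
    · exact ⟨⟨a, ha⟩, rfl⟩

theorem psi_inKK [Finite G] (h : BSW t s K) {g : G} (hg : inKK K g) (hg1 : g ≠ 1) : psi g = Nat.card K := by
  obtain ⟨x, hx⟩ := hg
  rw [← psi_conj x g]
  apply psi_K h hx
  intro h1
  apply hg1
  have : g = x⁻¹ * (x * g * x⁻¹) * x := by simp [mul_assoc]
  rw [this, h1]; simp

theorem psi_one : psi (1 : G) = nI G := by
  unfold psi nI
  simp

/-- `psi g ≠ 0` iff some involution inverts `g` (for `g` not an involution and `≠ 1`; here: `g` of odd order). -/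
theorem psi_ne_zero_iff [Finite G] {g : G} (hg : Odd (orderOf g)) (hg1 : g ≠ 1) :
    psi g ≠ 0 ↔ ∃ u : G, orderOf u = 2 ∧ u * g * u⁻¹ = g⁻¹ := by
  unfold psi
  rw [Nat.card_ne_zero]
  constructor
  · rintro ⟨⟨u, hu, hug⟩, -⟩
    refine ⟨u, hu, ?_⟩
    have := invol_mul_self hug
    rw [invol_inv hu]
    have h2 : u * g * u * g = 1 := by simpa [mul_assoc] using this
    exact eq_inv_of_mul_eq_one_left h2
  · rintro ⟨u, hu, hug⟩
    refine ⟨⟨u, hu, ?_⟩, inferInstance⟩
    apply orderOf_two_of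
    · rw [invol_inv hu] at hug
      have : u * g * u * g = 1 := by rw [hug]; simp
      simpa [mul_assoc] using this
    · intro h1
      have h2 : g = u := by
        have := eq_inv_of_mul_eq_one_right h1
        rw [this, invol_inv hu]
      rw [h2, hu] at hg
      exact absurd hg (by decide)

end Cfsg.Agent.Lib.H74BSWEl
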