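import Cfsg.Agent.Lib.H74BSWMult

/-! PROJECT 74 (BSW), piece `Gram` (2 h): consequences of column orthogonality (`Helper4Char2.col_orth`).
`∑_χ cc χ φ * conj (cc χ φ') = (1/k²) ∑_{x,x' ∈ K} (1 - conj φ x)(1 - φ' x') ∑_χ χ x conj χ x'`.  The terms with `x = 1` or `x' = 1` vanish.  For `1 ≠ x, x' ∈ K`: `x ~ x'` in `G` iff `x' = x` or `x' = x⁻¹` (`Basic.ti`, `mem_H_iff`, `out_invol`);
`|C x| = k` if `x * x ≠ 1` (`cent_eq`), `|C t| = 2k`.  In both cases `∑_{x'} (1 - φ' x') [x ~ x'] |C x| = k (2 - φ' x - φ' x⁻¹)`.  So the sum is `(1/k) ∑_{x ∈ K} (1 - conj φ x)(2 - φ' x - conj φ' x) = 2 + [φ = φ'] + [φ = φ'⁻¹]` (`Dual.orth'`, `φ, φ' ≠ 1`).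
`vanish`: `∑_χ cc χ φ conj χ g = (1/k) ∑_x (1 - conj φ x) [x ~ g] |C x|`; for `g = 1` only `x = 1` survives, with factor `0`; for `g` outside the conjugates of `K` nothing survives. -/

set_option autoImplicit false

namespace Cfsg.Agent.Lib.H74BSWGram

open Cfsg Cfsg.Agent.Lib.Helper74BSWDefs Cfsg.Agent.Lib.Helper4Char
open scoped ComplexConjugate Classical

variable {G : Type*} [Group G] [Fintype G] {t s : G} {K : Subgroup G} [Fintype K]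

omit [Fintype G] in
theorem conj_phi (φ : K →* ℂˣ) (x : K) : conj ((φ x : ℂˣ) : ℂ) = ((φ⁻¹ x : ℂˣ) : ℂ) := by
  have h1 : ((φ x : ℂˣ) : ℂ) ^ Fintype.card K = 1 := by
    rw [← Units.val_pow_eq_pow_val, ← map_pow, pow_card_eq_one, map_one, Units.val_one]
  have h2 : ‖((φ x : ℂˣ) : ℂ)‖ = 1 :=
    Complex.norm_eq_one_of_pow_eq_one h1 Fintype.card_ne_zero
  rw [MonoidHom.inv_apply, Units.val_inv_eq_inv_val, Complex.inv_eq_conj h2]

omit [Fintype G] [Fintype K] in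
/-- fusion in `K` -/
theorem conj_iff (h : BSW t s K) {x x' : G} (hx : x ∈ K) (hx' : x' ∈ K) (hx1 : x ≠ 1) :
    IsConj x x' ↔ x' = x ∨ x' = x⁻¹ := by
  constructor
  · intro hc
    obtain ⟨g, hg⟩ := isConj_iff.1 hc
    have hgH : g ∈ C t := Cfsg.Agent.Lib.H74BSWBasic.ti h hx hx1 (hg ▸ hx')
    by_cases hgK : g ∈ K
    · left
      rw [← hg, h.hab g hgK x hx]
      group
    · right
      rw [← hg]
      exact (Cfsg.Agent.Lib.H74BSWBasic.out_invol h hgH hgK).2 x hx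
  · rintro (rfl | rfl)
    · exact IsConj.refl _
    · exact isConj_iff.2 ⟨s, h.hinv x hx⟩

/-- the inner sum -/
theorem inner_sum (h : BSW t s K) (φ' : K →* ℂˣ) (x : K) (hx1 : x ≠ 1) :
    ∑ x' : K, (1 - ((φ' x' : ℂˣ) : ℂ)) *
      (if IsConj (x : G) (x' : G) then (Nat.card (Subgroup.centralizer ({(x : G)} : Set G)) : ℂ) else 0)
      = (Nat.card K : ℂ) * (2 - ((φ' x : ℂˣ) : ℂ) - ((φ'⁻¹ x : ℂˣ) : ℂ)) := by
  have hx1' : (x : G) ≠ 1 := fun h0 => hx1 (Subtype.ext h0)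
  have hiff : ∀ x' : K, IsConj (x : G) (x' : G) ↔ x' = x ∨ x' = x⁻¹ := by
    intro x'
    rw [conj_iff h x.2 x'.2 hx1']
    constructor
    · rintro (h0 | h0)
      · exact Or.inl (Subtype.ext h0)
      · exact Or.inr (Subtype.ext h0)
    · rintro (rfl | rfl)
      · exact Or.inl rfl
      · exact Or.inr rfl
  simp only [hiff]
  have hinv : ((φ'⁻¹ x : ℂˣ) : ℂ) = ((φ' x⁻¹ : ℂˣ) : ℂ) := by
    rw [MonoidHom.inv_apply, map_inv]
  by_cases hsq : (x : G) * x = 1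
  · have hxt : (x : G) = t := (Cfsg.Agent.Lib.H74BSWBasic.sq_one h x.2 hsq).resolve_left hx1'
    have hxx : x⁻¹ = x := by
      apply Subtype.ext
      show (x : G)⁻¹ = x
      exact inv_eq_of_mul_eq_one_left hsq
    rw [hinv, hxx]
    simp only [or_self]
    rw [Finset.sum_eq_single x (fun w _ hw => by rw [if_neg hw, mul_zero])
      (fun hw => absurd (Finset.mem_univ _) hw), if_pos rfl, hxt]
    have := Cfsg.Agent.Lib.H74BSWBasic.card_H h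
    rw [show Nat.card (Subgroup.centralizer ({t} : Set G)) = 2 * Nat.card K from this]
    push_cast
    ring
  · have hne : x⁻¹ ≠ x := by
      intro h0
      apply hsq
      have : (x : G)⁻¹ = x := congrArg Subtype.val h0
      calc (x : G) * x = (x : G)⁻¹ * x := by rw [this]
        _ = 1 := inv_mul_cancel _
    have hC : Subgroup.centralizer ({(x : G)} : Set G) = K :=
      Cfsg.Agent.Lib.H74BSWBasic.cent_eq h x.2 hsq
    rw [hC, hinv]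
    have hsplit : ∀ x' : K, (1 - ((φ' x' : ℂˣ) : ℂ)) *
        (if x' = x ∨ x' = x⁻¹ then (Nat.card K : ℂ) else 0) =
        (if x' = x then (1 - ((φ' x' : ℂˣ) : ℂ)) * (Nat.card K : ℂ) else 0) +
        (if x' = x⁻¹ then (1 - ((φ' x' : ℂˣ) : ℂ)) * (Nat.card K : ℂ) else 0) := by
      intro x'
      by_cases h1 : x' = x
      · have h2 : x' ≠ x⁻¹ := fun h2 => hne (h2.symm.trans h1)
        simp [h1, hne.symm]
      · by_cases h2 : x' = x⁻¹
        · simp [h2, hne]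
        · simp [h1, h2]
    rw [Finset.sum_congr rfl fun x' _ => hsplit x', Finset.sum_add_distrib,
      Finset.sum_ite_eq' , Finset.sum_ite_eq', if_pos (Finset.mem_univ _), if_pos (Finset.mem_univ _)]
    ring

theorem gram (h : BSW t s K) (φ φ' : K →* ℂˣ) (hφ : φ ≠ 1) (hφ' : φ' ≠ 1) :
    ∑ χ : Cfsg.IrrCharacter G, cc K (χ : G → ℂ) φ * conj (cc K (χ : G → ℂ) φ')
      = 2 + (if φ = φ' then 1 else 0) + (if φ = φ'⁻¹ then 1 else 0) := by
  have hk0 : (Nat.card K : ℂ) ≠ 0 := Nat.cast_ne_zero.2 Nat.card_pos.ne'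
  have h1 : ∀ χ : Cfsg.IrrCharacter G, cc K (χ : G → ℂ) φ * conj (cc K (χ : G → ℂ) φ') =
      (Nat.card K : ℂ)⁻¹ ^ 2 * ∑ x : K, ∑ x' : K, (1 - conj ((φ x : ℂˣ) : ℂ)) *
        ((1 - ((φ' x' : ℂˣ) : ℂ)) * ((χ : G → ℂ) x * conj ((χ : G → ℂ) x'))) := by
    intro χ
    simp only [cc, map_mul, map_sum, map_inv₀, Complex.conj_natCast, map_sub, map_one,
      Complex.conj_conj]
    rw [mul_mul_mul_comm, ← sq, Finset.sum_mul_sum]
    congr 1
    apply Finset.sum_congr rfl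
    intro x _
    apply Finset.sum_congr rfl
    intro x' _
    ring
  rw [Finset.sum_congr rfl fun χ _ => h1 χ, ← Finset.mul_sum, Finset.sum_comm]
  have h2 : ∀ x : K, ∑ χ : Cfsg.IrrCharacter G, ∑ x' : K, (1 - conj ((φ x : ℂˣ) : ℂ)) *
        ((1 - ((φ' x' : ℂˣ) : ℂ)) * ((χ : G → ℂ) x * conj ((χ : G → ℂ) x'))) =
      (1 - ((φ⁻¹ x : ℂˣ) : ℂ)) *
        ((Nat.card K : ℂ) * (2 - ((φ' x : ℂˣ) : ℂ) - ((φ'⁻¹ x : ℂˣ) : ℂ))) := by
    intro x
    rw [Finset.sum_comm]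
    simp only [← Finset.mul_sum, Cfsg.Agent.Lib.Helper4Char2.col_orth, conj_phi]
    by_cases hx1 : x = 1
    · subst hx1
      simp
    · rw [inner_sum h φ' x hx1]
  rw [Finset.sum_congr rfl fun x _ => h2 x]
  have h3 : ∀ x : K, (1 - ((φ⁻¹ x : ℂˣ) : ℂ)) *
        ((Nat.card K : ℂ) * (2 - ((φ' x : ℂˣ) : ℂ) - ((φ'⁻¹ x : ℂˣ) : ℂ))) =
      (Nat.card K : ℂ) * (2 - ((φ' x : ℂˣ) : ℂ) - ((φ'⁻¹ x : ℂˣ) : ℂ) - 2 * ((φ⁻¹ x : ℂˣ) : ℂ)
        + (((φ⁻¹ * φ') x : ℂˣ) : ℂ) + (((φ⁻¹ * φ'⁻¹) x : ℂˣ) : ℂ)) := by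
    intro x
    rw [MonoidHom.mul_apply, MonoidHom.mul_apply, Units.val_mul, Units.val_mul]
    ring
  rw [Finset.sum_congr rfl fun x _ => h3 x, ← Finset.mul_sum]
  simp only [Finset.sum_add_distrib, Finset.sum_sub_distrib, ← Finset.mul_sum,
    Cfsg.Agent.Lib.H74BSWDual.orth']
  have e1 : φ'⁻¹ ≠ 1 := fun h0 => hφ' ((inv_eq_one (α := K →* ℂˣ) (a := φ')).1 h0)
  have e2 : φ⁻¹ ≠ 1 := fun h0 => hφ ((inv_eq_one (α := K →* ℂˣ) (a := φ)).1 h0)
  have e3 : (φ⁻¹ * φ' = 1) ↔ φ = φ' := inv_mul_eq_one (G := K →* ℂˣ) (a := φ) (b := φ')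
  have e4 : (φ⁻¹ * φ'⁻¹ = 1) ↔ φ = φ'⁻¹ := inv_mul_eq_one (G := K →* ℂˣ) (a := φ) (b := φ'⁻¹)
  rw [if_neg hφ', if_neg e1, if_neg e2]
  simp only [e3, e4, Finset.sum_const, Finset.card_univ, ← Nat.card_eq_fintype_card]
  have i1 : (if φ = φ' then (Nat.card K : ℂ) else 0) =
      (Nat.card K : ℂ) * (if φ = φ' then 1 else 0) := by split_ifs <;> simp
  have i2 : (if φ = φ'⁻¹ then (Nat.card K : ℂ) else 0) =
      (Nat.card K : ℂ) * (if φ = φ'⁻¹ then 1 else 0) := by split_ifs <;> simp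
  rw [i1, i2]
  generalize (if φ = φ' then (1 : ℂ) else 0) = A
  generalize (if φ = φ'⁻¹ then (1 : ℂ) else 0) = B
  rw [nsmul_eq_mul]
  field_simp
  ring

theorem vanish (h : BSW t s K) (φ : K →* ℂˣ) {g : G} (hg : g = 1 ∨ ¬ inKK K g) :
    ∑ χ : Cfsg.IrrCharacter G, cc K (χ : G → ℂ) φ * conj ((χ : G → ℂ) g) = 0 := by
  have h1 : ∀ χ : Cfsg.IrrCharacter G, cc K (χ : G → ℂ) φ * conj ((χ : G → ℂ) g) =
      (Nat.card K : ℂ)⁻¹ * ∑ x : K, (1 - conj ((φ x : ℂˣ) : ℂ)) *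
        ((χ : G → ℂ) x * conj ((χ : G → ℂ) g)) := by
    intro χ
    rw [cc, mul_assoc, Finset.sum_mul]
    congr 1
    apply Finset.sum_congr rfl
    intro x _
    ring
  rw [Finset.sum_congr rfl fun χ _ => h1 χ, ← Finset.mul_sum, Finset.sum_comm]
  simp only [← Finset.mul_sum, Cfsg.Agent.Lib.Helper4Char2.col_orth]
  rw [Finset.sum_eq_zero, mul_zero]
  intro x _
  rcases hg with rfl | hg
  · by_cases hx1 : x = 1
    · subst hx1
      simp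
    · rw [if_neg, mul_zero]
      intro hc
      apply hx1
      apply Subtype.ext
      exact (isConj_one_right.1 hc.symm)
  · rw [if_neg, mul_zero]
    intro hc
    obtain ⟨c, hc⟩ := isConj_iff.1 hc.symm
    exact hg ⟨c, hc ▸ x.2⟩

end Cfsg.Agent.Lib.H74BSWGram
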