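import Cfsg.Agent.Lib.H74BSWBasic
import Cfsg.Agent.Lib.Helper4Char2
import Cfsg.Agent.Lib.Helper67SLsm

/-! PROJECT 74 (BSW), piece `PsiF` (2 h): the class multiplication formula for `psi`.
`Helper67SLsm.cc_conj`: `∑_g χ(g t g⁻¹ t) = |G| χ(t)² / χ(1)`.  `Helper4Char2.col_orth`: `∑_χ χ(w) conj χ(z) = |C z| [w ~ z]`.  So
`#{g | g t g⁻¹ t ~ z} = (1/|C z|) ∑_χ conj χ(z) |G| χ(t)²/χ(1)`.  The map `g ↦ g t g⁻¹` is `|C t|`-to-one onto the involutions (`hconj`), so the left side is `|C t| #{u | u t ~ z}`.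
By conjugation `#{(u,v) | u v ~ z} = nI * #{u | u t ~ z}`, and it is also `|class of z| * psi z` (`psi` is a class function).  `nI = |G| / |C t|`, `|class z| |C z| = |G|`, `|C t| = 2k`.

Proof actually used: both sides count `#{(a,b) | a t a⁻¹ * (b t b⁻¹) = z}`. -/

set_option autoImplicit false

namespace Cfsg.Agent.Lib.H74BSWPsiF

open Cfsg Cfsg.Agent.Lib.Helper74BSWDefs Cfsg.Agent.Lib.Helper4Char
open scoped ComplexConjugate

variable {G : Type*} [Group G] [Fintype G] {t s : G} {K : Subgroup G}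

open scoped Classical in
/-- the fibres of `g ↦ g x g⁻¹` -/
theorem fib (x w : G) :
    ∑ g : G, (if g * x * g⁻¹ = w then 1 else 0 : ℕ) = if IsConj x w then Nat.card (C x) else 0 := by
  rw [← Finset.card_filter]
  split_ifs with hc
  · obtain ⟨g0, hg0⟩ := isConj_iff.1 hc
    rw [← Fintype.card_subtype, ← Nat.card_eq_fintype_card]
    apply Nat.card_congr
    refine ⟨fun g => ⟨g0⁻¹ * g.1, ?_⟩, fun c => ⟨g0 * c.1, ?_⟩, ?_, ?_⟩
    · rw [Subgroup.mem_centralizer_singleton_iff]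
      have h1 : g.1 * x * g.1⁻¹ = g0 * x * g0⁻¹ := g.2.trans hg0.symm
      have h2 : g.1 * x = g0 * x * g0⁻¹ * g.1 := by rw [← h1]; group
      calc g0⁻¹ * g.1 * x = g0⁻¹ * (g.1 * x) := by group
        _ = g0⁻¹ * (g0 * x * g0⁻¹ * g.1) := by rw [h2]
        _ = x * (g0⁻¹ * g.1) := by group
    · have h1 := Subgroup.mem_centralizer_singleton_iff.1 c.2
      rw [← hg0]
      calc g0 * c.1 * x * (g0 * c.1)⁻¹ = g0 * (c.1 * x) * c.1⁻¹ * g0⁻¹ := by group
        _ = g0 * (x * c.1) * c.1⁻¹ * g0⁻¹ := by rw [h1]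
        _ = g0 * x * g0⁻¹ := by group
    · intro g
      ext
      simp
    · intro c
      ext
      simp
  · rw [Finset.card_eq_zero, Finset.filter_eq_empty_iff]
    intro g _ hg
    exact hc (isConj_iff.2 ⟨g, hg⟩)

omit [Fintype G] in
theorem isConj_t_iff (h : BSW t s K) (y : G) : IsConj t y ↔ orderOf y = 2 := by
  constructor
  · intro hc
    obtain ⟨g, hg⟩ := isConj_iff.1 hc
    have : SemiconjBy g t y := by
      rw [SemiconjBy, ← hg]
      group
    rw [← this.orderOf_eq, h.ht]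
  · intro hy
    exact h.hconj t y h.ht hy

omit [Fintype G] in
theorem t_sq (h : BSW t s K) : t * t = 1 := by
  have := pow_orderOf_eq_one t
  rwa [h.ht, sq] at this

open scoped Classical in
/-- first count -/
theorem count1 (h : BSW t s K) (z : G) :
    ∑ a : G, ∑ b : G, (if a * t * a⁻¹ * (b * t * b⁻¹) = z then 1 else 0 : ℕ)
      = Nat.card (C t) ^ 2 * psi z := by
  have ht2 := t_sq h
  have h1 : ∀ a : G, ∑ b : G, (if a * t * a⁻¹ * (b * t * b⁻¹) = z then 1 else 0 : ℕ)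
      = Nat.card (C t) * ∑ w : G, (if a * t * a⁻¹ = w then 1 else 0) *
          (if orderOf (w * z) = 2 then 1 else 0) := by
    intro a
    have h2 : ∀ b : G, (a * t * a⁻¹ * (b * t * b⁻¹) = z) ↔ (b * t * b⁻¹ = a * t * a⁻¹ * z) := by
      intro b
      have h3 : a * t * a⁻¹ * (a * t * a⁻¹) = 1 := by
        calc a * t * a⁻¹ * (a * t * a⁻¹) = a * (t * t) * a⁻¹ := by group
          _ = 1 := by rw [ht2]; group
      constructor
      · intro h4
        rw [← h4, ← mul_assoc, h3, one_mul]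
      · intro h4
        rw [h4, ← mul_assoc, h3, one_mul]
    simp only [h2]
    rw [fib t (a * t * a⁻¹ * z)]
    rw [Finset.sum_eq_single (a * t * a⁻¹) (fun w _ hw => by rw [if_neg (Ne.symm hw), zero_mul])
      (fun hw => absurd (Finset.mem_univ _) hw), if_pos rfl, one_mul]
    simp only [isConj_t_iff h, mul_ite, mul_one, mul_zero]
  rw [Finset.sum_congr rfl fun a _ => h1 a, ← Finset.mul_sum, Finset.sum_comm]
  have h5 : ∀ w : G, ∑ a : G, (if a * t * a⁻¹ = w then 1 else 0 : ℕ) *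
      (if orderOf (w * z) = 2 then 1 else 0) =
      Nat.card (C t) * (if orderOf w = 2 ∧ orderOf (w * z) = 2 then 1 else 0) := by
    intro w
    rw [← Finset.sum_mul, fib t w]
    simp only [isConj_t_iff h]
    by_cases h6 : orderOf w = 2 <;> by_cases h7 : orderOf (w * z) = 2 <;> simp [h6, h7]
  rw [Finset.sum_congr rfl fun w _ => h5 w, ← Finset.mul_sum, ← Finset.card_filter,
    ← Fintype.card_subtype, ← Nat.card_eq_fintype_card, ← mul_assoc, sq]
  rfl

open scoped Classical in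
/-- second count -/
theorem count2 (t z : G) :
    ∑ a : G, ∑ b : G, (if a * t * a⁻¹ * (b * t * b⁻¹) = z then 1 else 0 : ℕ)
      = ∑ g : G, if IsConj z (g * t * g⁻¹ * t) then Nat.card (C z) else 0 := by
  simp only [← fib]
  rw [Finset.sum_comm, ← Equiv.sum_comp (Equiv.inv G)]
  rw [Finset.sum_comm (f := fun g c => if c * z * c⁻¹ = g * t * g⁻¹ * t then 1 else 0)]
  apply Finset.sum_congr rfl
  intro c _
  rw [← Equiv.sum_comp (Equiv.mulLeft c⁻¹)]
  apply Finset.sum_congr rfl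
  intro g _
  apply if_congr _ rfl rfl
  simp only [Equiv.coe_mulLeft, Equiv.inv_apply]
  constructor
  · intro h1
    rw [← h1]
    group
  · intro h1
    have : z = c⁻¹ * (c * z * c⁻¹) * c := by group
    rw [this, h1]
    group

theorem psi_formula (h : BSW t s K) (z : G) :
    (psi z : ℂ) * (2 * (Nat.card K : ℂ)) ^ 2 = (Nat.card G : ℂ) *
      ∑ χ : Cfsg.IrrCharacter G, (χ : G → ℂ) t ^ 2 * conj ((χ : G → ℂ) z) / (χ : G → ℂ) 1 := by
  classical
  have h1 : (Nat.card G : ℂ) *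
      ∑ χ : Cfsg.IrrCharacter G, (χ : G → ℂ) t ^ 2 * conj ((χ : G → ℂ) z) / (χ : G → ℂ) 1
      = ∑ χ : Cfsg.IrrCharacter G, (∑ g : G, (χ : G → ℂ) (g * t * g⁻¹ * t)) *
          conj ((χ : G → ℂ) z) := by
    rw [Finset.mul_sum]
    apply Finset.sum_congr rfl
    intro χ _
    rw [Cfsg.Agent.Lib.Helper67SLsm.cc_conj χ.1 χ.2 t t, Nat.card_eq_fintype_card]
    ring
  rw [h1]
  simp only [Finset.sum_mul]
  rw [Finset.sum_comm]
  have h2 : ∀ g : G, ∑ χ : Cfsg.IrrCharacter G, (χ : G → ℂ) (g * t * g⁻¹ * t) *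
      conj ((χ : G → ℂ) z) = ((if IsConj z (g * t * g⁻¹ * t) then Nat.card (C z) else 0 : ℕ) : ℂ) := by
    intro g
    have h3 := congrArg conj (Cfsg.Agent.Lib.Helper4Char2.col_orth z (g * t * g⁻¹ * t))
    simp only [map_sum, map_mul, Complex.conj_conj] at h3
    rw [Finset.sum_congr rfl fun χ _ => mul_comm _ _, h3]
    split_ifs <;> simp
  rw [Finset.sum_congr rfl fun g _ => h2 g, ← Nat.cast_sum, ← count2, count1 h z,
    Cfsg.Agent.Lib.H74BSWBasic.card_H h]
  push_cast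
  ring

end Cfsg.Agent.Lib.H74BSWPsiF
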