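import Cfsg.Agent.Lib.H74BSWMult
import Cfsg.Agent.Lib.H74BSWPsiF
import Cfsg.Agent.Lib.H74BSWEl

/-! PROJECT 74 (BSW), piece `Ord` (1 h).
`PsiF.psi_formula` at `1 ≠ x ∈ K` with `El.psi_K`: `k (2k)² = |G| ∑_χ χ(t)² conj χ(x) / χ(1)`.  Multiply by `(1 - φ x)/k` and sum over `x ∈ K` (the term `x = 1` has factor `0` on both sides):
left `4k² ∑_x (1 - φ x) = 4k³` (`Dual.orth'`), right `|G| ∑_χ χ(t)²/χ(1) conj (cc χ φ)`, and `cc χ φ` is an integer (`Mult.cc_int`), so it is real. -/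

set_option autoImplicit false

namespace Cfsg.Agent.Lib.H74BSWOrd

open Cfsg Cfsg.Agent.Lib.Helper74BSWDefs Cfsg.Agent.Lib.Helper4Char
open scoped ComplexConjugate Classical

variable {G : Type*} [Group G] [Fintype G] {t s : G} {K : Subgroup G} [Fintype K]

/-- `cc` is real, so it may be computed with the conjugate summands -/
theorem cc_conj {χ : G → ℂ} (hχ : IsCharacter G χ) (φ : K →* ℂˣ) :
    cc K χ φ = (Nat.card K : ℂ)⁻¹ * ∑ x : K, conj (χ x) * (1 - ((φ x : ℂˣ) : ℂ)) := by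
  obtain ⟨n, hn⟩ := H74BSWMult.cc_int (K := K) hχ φ
  have h1 : conj (cc K χ φ) = cc K χ φ := by
    rw [hn]; simp
  rw [← h1]
  unfold cc
  simp [map_sum]

theorem ord (h : BSW t s K) (φ : K →* ℂˣ) (hφ : φ ≠ 1) :
    (∑ χ : Cfsg.IrrCharacter G, cc K (χ : G → ℂ) φ * (χ : G → ℂ) t ^ 2 / (χ : G → ℂ) 1) * (Nat.card G : ℂ)
      = 4 * (Nat.card K : ℂ) ^ 3 := by
  have hk0 : (Nat.card K : ℂ) ≠ 0 := by
    have : 0 < Nat.card K := Nat.card_pos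
    exact_mod_cast this.ne'
  have h1 : ∀ x : K, (1 - ((φ x : ℂˣ) : ℂ)) * ((Nat.card G : ℂ) *
      ∑ χ : Cfsg.IrrCharacter G, (χ : G → ℂ) t ^ 2 * conj ((χ : G → ℂ) x) / (χ : G → ℂ) 1)
      = (1 - ((φ x : ℂˣ) : ℂ)) * (4 * (Nat.card K : ℂ) ^ 3) := by
    intro x
    by_cases hx : x = 1
    · subst hx; simp
    · have hx1 : (x : G) ≠ 1 := fun hh => hx (Subtype.ext hh)
      rw [← H74BSWPsiF.psi_formula h (x : G), H74BSWEl.psi_K h x.2 hx1]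
      ring
  have h2 : (∑ χ : Cfsg.IrrCharacter G, cc K (χ : G → ℂ) φ * (χ : G → ℂ) t ^ 2 / (χ : G → ℂ) 1) * (Nat.card G : ℂ)
      = (Nat.card K : ℂ)⁻¹ * ∑ x : K, (1 - ((φ x : ℂˣ) : ℂ)) * ((Nat.card G : ℂ) *
      ∑ χ : Cfsg.IrrCharacter G, (χ : G → ℂ) t ^ 2 * conj ((χ : G → ℂ) x) / (χ : G → ℂ) 1) := by
    have h3 : ∀ χ : Cfsg.IrrCharacter G, cc K (χ : G → ℂ) φ * (χ : G → ℂ) t ^ 2 / (χ : G → ℂ) 1
        = ∑ x : K, (Nat.card K : ℂ)⁻¹ * ((1 - ((φ x : ℂˣ) : ℂ)) *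
          ((χ : G → ℂ) t ^ 2 * conj ((χ : G → ℂ) x) / (χ : G → ℂ) 1)) := by
      intro χ
      rw [cc_conj (IsIrrCharacter.isCharacter χ.2) φ, mul_assoc, mul_div_assoc, Finset.sum_mul,
        Finset.sum_div, Finset.mul_sum]
      refine Finset.sum_congr rfl fun x _ => ?_
      ring
    rw [Finset.sum_congr rfl fun χ _ => h3 χ, Finset.sum_comm, Finset.sum_mul, Finset.mul_sum]
    refine Finset.sum_congr rfl fun x _ => ?_
    rw [← Finset.mul_sum, ← Finset.mul_sum]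
    ring
  rw [h2, Finset.sum_congr rfl fun x _ => h1 x, ← Finset.sum_mul, Finset.sum_sub_distrib,
    H74BSWDual.orth' φ, if_neg hφ]
  simp only [Finset.sum_const, Finset.card_univ, nsmul_eq_mul, mul_one, sub_zero]
  rw [← Nat.card_eq_fintype_card]
  field_simp

end Cfsg.Agent.Lib.H74BSWOrd
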