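import Mathlib

/-! PROJECT 74 (BSW), piece `UC` (1.5 h, PURE group theory): number of non-identity elements in the conjugates of a T.I. subgroup.
The conjugates of `A` are indexed by `G ⧸ N(A)`; two different conjugates meet trivially; each has `|A| - 1` non-identity elements.
(E.g. count the pairs `(x, a)`, `x : G`, `1 ≠ a ∈ A`, mapped to `x a x⁻¹`: each fibre has exactly `|N(A)|` elements.)  Look for an existing version in `Cfsg/Agent/Lib` first. -/

set_option autoImplicit false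

namespace Cfsg.Agent.Lib.H74BSWUC

theorem card_ne_one {A : Type*} [Group A] [Finite A] : Nat.card {a : A // a ≠ 1} = Nat.card A - 1 := by
  classical
  have := Nat.card_congr (Equiv.optionSubtypeNe (1 : A))
  rw [Finite.card_option] at this
  omega

theorem union_count {G : Type*} [Group G] [Finite G] (A : Subgroup G)
    (hTI : ∀ g a : G, a ∈ A → a ≠ 1 → g * a * g⁻¹ ∈ A → g ∈ Subgroup.normalizer (A : Set G)) :
    Nat.card {g : G // g ≠ 1 ∧ ∃ x : G, x * g * x⁻¹ ∈ A} * Nat.card (Subgroup.normalizer (A : Set G))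
      = Nat.card G * (Nat.card A - 1) := by
  classical
  let S := {p : G × G // p.1 ≠ 1 ∧ p.2 * p.1 * p.2⁻¹ ∈ A}
  let E1 : S ≃ G × {a : A // a ≠ 1} :=
    { toFun := fun p => (p.1.2, ⟨⟨p.1.2 * p.1.1 * p.1.2⁻¹, p.2.2⟩, by
        intro h
        have h1 : p.1.2 * p.1.1 * p.1.2⁻¹ = 1 := congrArg Subtype.val h
        apply p.2.1
        have : p.1.1 = p.1.2⁻¹ * (p.1.2 * p.1.1 * p.1.2⁻¹) * p.1.2 := by group
        rw [this, h1]; group⟩)
      invFun := fun q => ⟨(q.1⁻¹ * (q.2.1 : G) * q.1, q.1), by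
        constructor
        · intro h
          replace h : q.1⁻¹ * (q.2.1 : G) * q.1 = 1 := h
          apply q.2.2
          ext
          have : ((q.2.1 : A) : G) = q.1 * (q.1⁻¹ * (q.2.1 : G) * q.1) * q.1⁻¹ := by group
          rw [this, h]; simp
        · have : q.1 * (q.1⁻¹ * (q.2.1 : G) * q.1) * q.1⁻¹ = (q.2.1 : G) := by group
          show q.1 * (q.1⁻¹ * (q.2.1 : G) * q.1) * q.1⁻¹ ∈ A
          rw [this]; exact q.2.1.2⟩
      left_inv := by
        rintro ⟨⟨g, x⟩, h1, h2⟩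
        apply Subtype.ext
        apply Prod.ext
        · show x⁻¹ * (x * g * x⁻¹) * x = g
          group
        · rfl
      right_inv := by
        rintro ⟨x, ⟨⟨a, ha⟩, ha1⟩⟩
        apply Prod.ext
        · rfl
        · apply Subtype.ext
          apply Subtype.ext
          show x * (x⁻¹ * a * x) * x⁻¹ = a
          group }
  let T := {g : G // g ≠ 1 ∧ ∃ x : G, x * g * x⁻¹ ∈ A}
  let x0 : T → G := fun g => g.2.2.choose
  have hx0 : ∀ g : T, x0 g * g.1 * (x0 g)⁻¹ ∈ A := fun g => g.2.2.choose_spec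
  have hx1 : ∀ g : T, x0 g * g.1 * (x0 g)⁻¹ ≠ 1 := by
    intro g h
    apply g.2.1
    have : g.1 = (x0 g)⁻¹ * (x0 g * g.1 * (x0 g)⁻¹) * x0 g := by group
    rw [this, h]; group
  let E2 : S ≃ T × (Subgroup.normalizer (A : Set G)) :=
    { toFun := fun p => (⟨p.1.1, p.2.1, p.1.2, p.2.2⟩,
        ⟨p.1.2 * (x0 ⟨p.1.1, p.2.1, p.1.2, p.2.2⟩)⁻¹, by
          refine hTI _ _ (hx0 ⟨p.1.1, p.2.1, p.1.2, p.2.2⟩) (hx1 ⟨p.1.1, p.2.1, p.1.2, p.2.2⟩) ?_
          have := p.2.2
          convert this using 1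
          group⟩)
      invFun := fun q => ⟨(q.1.1, q.2.1 * x0 q.1), q.1.2.1, by
        have h1 := (Subgroup.mem_normalizer_iff.1 q.2.2 _).1 (hx0 q.1)
        convert h1 using 1
        group⟩
      left_inv := by
        rintro ⟨⟨g, x⟩, h1, h2⟩
        apply Subtype.ext
        apply Prod.ext
        · rfl
        · show x * (x0 ⟨g, h1, x, h2⟩)⁻¹ * x0 ⟨g, h1, x, h2⟩ = x
          group
      right_inv := by
        rintro ⟨⟨g, hg⟩, ⟨n, hn⟩⟩
        apply Prod.ext
        · rfl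
        · apply Subtype.ext
          show n * x0 ⟨g, hg⟩ * (x0 ⟨g, hg⟩)⁻¹ = n
          group }
  have c1 := Nat.card_congr E1
  have c2 := Nat.card_congr E2
  rw [Nat.card_prod] at c1 c2
  rw [card_ne_one] at c1
  rw [← c1, ← c2]

end Cfsg.Agent.Lib.H74BSWUC
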