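import Mathlib

set_option autoImplicit false

namespace Cfsg.Agent.Lib.Helper21Action

open Subgroup

/-- If `k` divides the length of every orbit then `k` divides the size of the set. -/
theorem dvd_card_of_forall_dvd_index {A X : Type*} [Group A] [MulAction A X] [Finite X]
    [Finite A] (k : ℕ) (h : ∀ x : X, k ∣ (MulAction.stabilizer A x).index) : k ∣ Nat.card X := by
  classical
  have : Fintype (MulAction.orbitRel.Quotient A X) := Fintype.ofFinite _
  rw [Nat.card_congr (MulAction.selfEquivSigmaOrbitsQuotientStabilizer A X), Nat.card_sigma]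
  apply Finset.dvd_sum
  intro ω _
  exact h _

theorem card_centralizer_conj {G : Type*} [Group G] (c g : G) :
    Nat.card (centralizer ({c * g * c⁻¹} : Set G)) = Nat.card (centralizer ({g} : Set G)) := by
  have : centralizer ({c * g * c⁻¹} : Set G) =
      (centralizer ({g} : Set G)).map (MulAut.conj c).toMonoidHom := by
    ext x
    simp only [mem_centralizer_singleton_iff, mem_map, MulEquiv.coe_toMonoidHom,
      MulAut.conj_apply]
    constructor
    · intro h
      refine ⟨c⁻¹ * x * c, ?_, by group⟩
      have h2 : c⁻¹ * (x * (c * g * c⁻¹)) * c = c⁻¹ * (c * g * c⁻¹ * x) * c := by rw [h]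
      calc c⁻¹ * x * c * g = c⁻¹ * (x * (c * g * c⁻¹)) * c := by group
        _ = c⁻¹ * (c * g * c⁻¹ * x) * c := h2
        _ = g * (c⁻¹ * x * c) := by group
    · rintro ⟨y, hy, rfl⟩
      calc c * y * c⁻¹ * (c * g * c⁻¹) = c * (y * g) * c⁻¹ := by group
        _ = c * (g * y) * c⁻¹ := by rw [hy]
        _ = c * g * c⁻¹ * (c * y * c⁻¹) := by group
  rw [this, card_map_of_injective (MulAut.conj c).injective]

theorem card_centralizer_of_isConj {G : Type*} [Group G] {g y : G} (h : IsConj g y) :
    Nat.card (centralizer ({y} : Set G)) = Nat.card (centralizer ({g} : Set G)) := by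
  obtain ⟨c, rfl⟩ := isConj_iff.mp h
  exact card_centralizer_conj c g


theorem card_conj_mul_card_centralizer {G : Type*} [Group G] [Finite G] (g : G) :
    Nat.card {x : G // IsConj g x} * Nat.card (centralizer ({g} : Set G)) = Nat.card G := by
  have h1 := MulAction.index_stabilizer (ConjAct G) g
  have h2 := (MulAction.stabilizer (ConjAct G) g).card_mul_index
  rw [← nat_card_centralizer_nat_card_stabilizer, h1] at h2
  have h3 : (MulAction.orbit (ConjAct G) g).ncard = Nat.card {x : G // IsConj g x} := by
    rw [← Nat.card_coe_set_eq]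
    apply Nat.card_congr
    apply Equiv.subtypeEquivRight
    intro x
    rw [ConjAct.mem_orbit_conjAct, isConj_comm]
  rw [h3] at h2
  have h4 : Nat.card (ConjAct G) = Nat.card G := rfl
  rw [h4] at h2
  rw [mul_comm]
  exact h2

/-- Counting by fibres of constant size. -/
theorem card_eq_mul_of_fibers {X Y : Type*} [Finite X] [Finite Y] (f : X → Y) (k : ℕ)
    (h : ∀ y, Nat.card {x // f x = y} = k) : Nat.card X = Nat.card Y * k := by
  classical
  have : Fintype Y := Fintype.ofFinite Y
  rw [← Nat.card_congr (Equiv.sigmaFiberEquiv f), Nat.card_sigma]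
  simp [h]

theorem card_ne_one {H : Type*} [Group H] [Finite H] :
    Nat.card {g : H // g ≠ 1} = Nat.card H - 1 := by
  classical
  have : Fintype H := Fintype.ofFinite H
  rw [Nat.card_eq_fintype_card, Nat.card_eq_fintype_card, Fintype.card_subtype_compl,
    Fintype.card_subtype_eq]

end Cfsg.Agent.Lib.Helper21Action
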