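import Cfsg.Agent.Lib.H74BSWEl
import Cfsg.Agent.Lib.H74BSWUC
import Cfsg.Agent.Lib.Helper21Action

/-! PROJECT 74 (BSW), piece `Sum` (1.5 h): global counting.
`nI_mul`: the involutions form one class, `|class| * |C t| = |G|`, `|C t| = 2k` (`Basic.card_H`).
`odd_nI`: let `S` be a Sylow 2-subgroup of `G`, `z ∈ Z(S)` an involution; `z` is conjugate to `t`, so `|S|` divides `|C z| = |C t|`, hence `|G : C t|` is odd.
`card_KK`: `UC.union_count` for `A = K` (`Basic.ti`, `Basic.normalizer_K`, `card_H`, `nI_mul`).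
`sum_psi`: `(u, g) ↦ (u, u * g)` is a bijection from `{(u, g) | u, u g involutions}` to pairs of involutions.
`sum_out`: split the sum: `g = 1` (`psi_one`), `1 ≠ g` in a conjugate of `K` (`psi_inKK`, `card_KK`), the rest. -/

set_option autoImplicit false

namespace Cfsg.Agent.Lib.H74BSWSum

open Cfsg.Agent.Lib.Helper74BSWDefs
open scoped Classical

variable {G : Type*} [Group G] [Fintype G] {t s : G} {K : Subgroup G}

theorem nI_mul_cent (h : BSW t s K) {z : G} (hz : orderOf z = 2) :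
    nI G * Nat.card (C z) = Nat.card G := by
  rw [← Cfsg.Agent.Lib.Helper21Action.card_conj_mul_card_centralizer z]
  congr 1
  apply Nat.card_congr
  apply Equiv.subtypeEquivRight
  intro x
  constructor
  · intro hx
    exact h.hconj z x hz hx
  · intro hx
    obtain ⟨c, rfl⟩ := isConj_iff.mp hx
    have : c * z * c⁻¹ = MulAut.conj c z := rfl
    rw [this, MulEquiv.orderOf_eq, hz]

theorem nI_mul (h : BSW t s K) : nI G * (2 * Nat.card K) = Nat.card G := by
  rw [← Cfsg.Agent.Lib.H74BSWBasic.card_H h]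
  exact nI_mul_cent h h.ht

theorem odd_nI (h : BSW t s K) : Odd (nI G) := by
  have : Fact (Nat.Prime 2) := ⟨Nat.prime_two⟩
  have h2G : 2 ∣ Nat.card G := h.ht ▸ orderOf_dvd_natCard t
  obtain ⟨P⟩ : Nonempty (Sylow 2 G) := inferInstance
  have hPne : (P : Subgroup G) ≠ ⊥ := P.ne_bot_of_dvd_card h2G
  have : Nontrivial (P : Subgroup G) := (Subgroup.nontrivial_iff_ne_bot _).2 hPne
  have hcn : Nontrivial (Subgroup.center (P : Subgroup G)) := P.2.center_nontrivial
  have hcp : IsPGroup 2 (Subgroup.center (P : Subgroup G)) := P.2.to_subgroup _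
  have h2c : 2 ∣ Nat.card (Subgroup.center (P : Subgroup G)) := by
    rcases hcp.card_eq_or_dvd with h1 | h1
    · exfalso
      have := (Nat.card_eq_one_iff_unique.1 h1).1
      exact not_subsingleton _ this
    · exact h1
  obtain ⟨z, hz⟩ := exists_prime_orderOf_dvd_card' 2 h2c
  have hz' : orderOf ((z : (P : Subgroup G)) : G) = 2 := by
    rw [Subgroup.orderOf_coe, Subgroup.orderOf_coe, hz]
  have hPC : (P : Subgroup G) ≤ C ((z : (P : Subgroup G)) : G) := by
    intro x hx
    rw [Subgroup.mem_centralizer_singleton_iff]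
    have := (Subgroup.mem_center_iff.1 z.2) ⟨x, hx⟩
    exact congrArg Subtype.val this
  have h1 := nI_mul_cent h hz'
  have h3 : nI G = (C ((z : (P : Subgroup G)) : G)).index := by
    have h4 := (C ((z : (P : Subgroup G)) : G)).card_mul_index
    rw [← h1, mul_comm] at h4
    exact (Nat.eq_of_mul_eq_mul_right Nat.card_pos h4).symm
  rw [← Nat.not_even_iff_odd, even_iff_two_dvd, h3]
  intro h5
  exact P.not_dvd_index (h5.trans (Subgroup.index_dvd_of_le hPC))

theorem card_KK (h : BSW t s K) : Nat.card {g : G // g ≠ 1 ∧ inKK K g} = nI G * (Nat.card K - 1) := by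
  have h1 := Cfsg.Agent.Lib.H74BSWUC.union_count K (fun g a ha ha1 hg => by
    have := Cfsg.Agent.Lib.H74BSWBasic.normalizer_K h
    unfold Nm at this
    rw [this]
    exact Cfsg.Agent.Lib.H74BSWBasic.ti h ha ha1 hg)
  have h2 : Nat.card (Subgroup.normalizer (K : Set G)) = 2 * Nat.card K := by
    have := Cfsg.Agent.Lib.H74BSWBasic.normalizer_K h
    unfold Nm at this
    rw [this]
    exact Cfsg.Agent.Lib.H74BSWBasic.card_H h
  rw [h2, ← nI_mul h] at h1
  have h3 : 0 < 2 * Nat.card K := Nat.mul_pos two_pos Nat.card_pos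
  apply Nat.eq_of_mul_eq_mul_right h3
  show Nat.card {g : G // g ≠ 1 ∧ ∃ x : G, x * g * x⁻¹ ∈ K} * _ = _
  rw [h1]
  ring

theorem sum_psi : ∑ g : G, psi g = nI G ^ 2 := by
  unfold psi nI
  rw [← Nat.card_sigma, sq, ← Nat.card_prod]
  apply Nat.card_congr
  refine ⟨fun x => (⟨x.2.1, x.2.2.1⟩, ⟨x.2.1 * x.1, x.2.2.2⟩),
    fun y => ⟨y.1.1⁻¹ * y.2.1, ⟨y.1.1, y.1.2, by rw [mul_inv_cancel_left]; exact y.2.2⟩⟩, ?_, ?_⟩
  · rintro ⟨g, u, h1, h2⟩
    exact Sigma.subtype_ext (inv_mul_cancel_left u g) rfl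
  · rintro ⟨⟨u, hu⟩, ⟨v, hv⟩⟩
    simp

omit [Group G] in
theorem card_filter_eq (p : G → Prop) : Nat.card {g : G // p g} = ∑ g : G, if p g then 1 else 0 := by
  rw [Nat.card_eq_fintype_card, Fintype.card_subtype, Finset.card_filter]

theorem sum_out (h : BSW t s K) :
    (∑ g : G, if inKK K g then 0 else psi g) + nI G + nI G * (Nat.card K - 1) * Nat.card K = nI G ^ 2 := by
  rw [← sum_psi, ← card_KK h, card_filter_eq, Finset.sum_mul]
  have h1 : nI G = ∑ g : G, if g = 1 then nI G else 0 := by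
    rw [Finset.sum_ite_eq' Finset.univ (1 : G) (fun _ => nI G)]
    simp
  nth_rewrite 1 [h1]
  rw [← Finset.sum_add_distrib, ← Finset.sum_add_distrib]
  apply Finset.sum_congr rfl
  intro g _
  by_cases hg1 : g = 1
  · subst hg1
    have := Cfsg.Agent.Lib.H74BSWConj.inKK_one K
    simp [this, Cfsg.Agent.Lib.H74BSWEl.psi_one]
  · by_cases hg : inKK K g
    · simp [hg, hg1, Cfsg.Agent.Lib.H74BSWEl.psi_inKK h hg hg1]
    · simp [hg, hg1]

/-- number of elements outside the conjugates of `K` -/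
theorem card_out (h : BSW t s K) :
    Nat.card {g : G // ¬ inKK K g} + 1 + nI G * (Nat.card K - 1) = Nat.card G := by
  rw [← card_KK h, card_filter_eq, card_filter_eq]
  have h1 : 1 = ∑ g : G, if g = 1 then 1 else 0 := by
    rw [Finset.sum_ite_eq' Finset.univ (1 : G) (fun _ => 1)]
    simp
  nth_rewrite 2 [h1]
  rw [← Finset.sum_add_distrib, ← Finset.sum_add_distrib]
  have h2 : Nat.card G = ∑ g : G, 1 := by simp
  rw [h2]
  apply Finset.sum_congr rfl
  intro g _
  by_cases hg1 : g = 1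
  · subst hg1
    have := Cfsg.Agent.Lib.H74BSWConj.inKK_one K
    simp [this]
  · by_cases hg : inKK K g
    · simp [hg, hg1]
    · simp [hg, hg1]

end Cfsg.Agent.Lib.H74BSWSum
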