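import Cfsg.Agent.Lib.H74BSWGram
import Cfsg.Agent.Lib.H74BSWOrd
import Cfsg.Agent.Lib.H74BSWSum

/-! PROJECT 74 (BSW), piece `Inst` (2 h, assembly): the combinatorial data `CD` of the character table.
`X = IrrCharacter G`, `P = {φ // φ ≠ 1}`.  Choose `τ`, `c`, `d` by `Dual.tau`, `Mult.cc_int`, `Helper4Char2.IsIrrCharacter.exists_degree`.  Every field of `CD` is one of the lemmas of `Dual`, `Mult`, `Gram`, `Ord`, `Sum`, `Basic`, cast from `ℂ` to `ℤ`/`ℚ`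
(sums over `{φ // φ ≠ 1}` versus sums over all `φ`: the term `φ = 1` vanishes by `Mult.cc_one`).  `dsum`: `Gram.vanish` with `g = 1`.  `sq`: `Helper4Char2.sum_degree_sq`.  `hN`: `Sum.nI_mul`, `Sum.odd_nI`.  `hv`: `Mult.val` at `x = t`. -/

set_option autoImplicit false

namespace Cfsg.Agent.Lib.H74BSWInst

open Cfsg Cfsg.Agent.Lib.Helper74BSWDefs Cfsg.Agent.Lib.Helper4Char Cfsg.Agent.Lib.Helper4Char2
open scoped ComplexConjugate Classical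

variable {G : Type*} [Group G] [Fintype G] {t s : G} {K : Subgroup G} [Fintype K]

theorem sum_P (F : (K →* ℂˣ) → ℂ) (h1 : F 1 = 0) :
    ∑ φ : {φ : K →* ℂˣ // φ ≠ 1}, F φ = ∑ φ, F φ := by
  rw [← Finset.sum_subtype (Finset.univ.filter (fun φ : K →* ℂˣ => φ ≠ 1)) (by simp) F]
  rw [Finset.sum_filter]
  apply Finset.sum_congr rfl
  intro φ _
  by_cases hφ : φ = 1 <;> simp [hφ, h1]

theorem inv_ne {φ : K →* ℂˣ} (h : φ ≠ 1) : φ⁻¹ ≠ 1 := fun h1 =>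
  h (MonoidHom.ext fun x => by have := DFunLike.congr_fun h1 x; simpa using this)

theorem exists_CD (h : BSW t s K) :
    ∃ (x0 : Cfsg.IrrCharacter G) (inv : {φ : K →* ℂˣ // φ ≠ 1} → {φ : K →* ℂˣ // φ ≠ 1})
      (τ : {φ : K →* ℂˣ // φ ≠ 1} → ℤ) (c : Cfsg.IrrCharacter G → {φ : K →* ℂˣ // φ ≠ 1} → ℤ)
      (d : Cfsg.IrrCharacter G → ℤ),
      (x0 : G → ℂ) = (fun _ => 1) ∧
      (∀ χ φ, (c χ φ : ℂ) = cc K (χ : G → ℂ) (φ : K →* ℂˣ)) ∧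
      (∀ χ, (d χ : ℂ) = (χ : G → ℂ) 1) ∧
      (∀ χ, (vv τ c χ : ℂ) = (χ : G → ℂ) t) ∧
      CD x0 inv τ c d (Nat.card K) (Nat.card G) := by
  have hτ : ∀ φ : {φ : K →* ℂˣ // φ ≠ 1}, ∃ n : ℤ, (n = 1 ∨ n = -1) ∧
      (n : ℂ) = (((φ : K →* ℂˣ) ⟨t, h.htK⟩ : ℂˣ) : ℂ) := by
    intro φ
    rcases H74BSWDual.tau h (φ : K →* ℂˣ) with h1 | h1
    · exact ⟨1, Or.inl rfl, by rw [h1]; simp⟩
    · exact ⟨-1, Or.inr rfl, by rw [h1]; simp⟩
  choose τ hτ1 hτ2 using hτ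
  have hc : ∀ (χ : Cfsg.IrrCharacter G) (φ : {φ : K →* ℂˣ // φ ≠ 1}),
      ∃ n : ℤ, cc K (χ : G → ℂ) (φ : K →* ℂˣ) = n :=
    fun χ φ => H74BSWMult.cc_int (K := K) (IsIrrCharacter.isCharacter χ.2) φ.1
  choose c hc using hc
  have hd : ∀ χ : Cfsg.IrrCharacter G, ∃ n : ℕ, 0 < n ∧ (χ : G → ℂ) 1 = n :=
    fun χ => IsIrrCharacter.exists_degree χ.2
  choose d hd0 hd1 using hd
  have h1irr : IsIrrCharacter G (fun _ => (1 : ℂ)) := by
    have := Cfsg.Agent.Lib.Helper19Lin.isIrrCharacter_homFun (1 : G →* ℂˣ)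
    convert this using 1
    funext g
    simp [Cfsg.Agent.Lib.Helper19Lin.homFun_apply]
  have ht1 : t ≠ 1 := by
    intro h1
    have := h.ht
    rw [h1, orderOf_one] at this
    omega
  have hv : ∀ χ : Cfsg.IrrCharacter G, (vv τ c χ : ℂ) = (χ : G → ℂ) t := by
    intro χ
    rw [H74BSWMult.val h (χ : G → ℂ) h.htK ht1, vv]
    push_cast
    congr 1
    rw [← sum_P (fun φ => cc K (χ : G → ℂ) φ * ((φ ⟨t, h.htK⟩ : ℂˣ) : ℂ))
      (by rw [H74BSWMult.cc_one, zero_mul])]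
    apply Finset.sum_congr rfl
    intro φ _
    rw [hc χ φ, hτ2 φ]
  refine ⟨⟨fun _ => 1, h1irr⟩, fun φ => ⟨(φ : K →* ℂˣ)⁻¹, inv_ne φ.2⟩, τ, c,
    fun χ => (d χ : ℤ), rfl, fun χ φ => (hc χ φ).symm, fun χ => by rw [hd1 χ]; simp, hv, ?_⟩
  refine
    { hk2 := H74BSWBasic.two_le_K h
      hke := H74BSWBasic.even_K h
      cardP := ?_
      inv_inv := fun φ => Subtype.ext (MonoidHom.ext fun x => by simp)
      eps := ?_
      τ_sq := hτ1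
      τ_inv := ?_
      τ_sum := ?_
      τ_mix := ?_
      c_inv := ?_
      gram := ?_
      c0 := ?_
      dpos := fun χ => by exact_mod_cast hd0 χ
      d0 := ?_
      dsum := ?_
      dmod := ?_
      ord := ?_
      hN := ?_
      sq := ?_ }
  · have h1 := H74BSWDual.card_P h
    rw [Fintype.card_eq_nat_card] at h1 ⊢
    exact h1
  · obtain ⟨ε, hε, hu⟩ := H74BSWDual.eps h
    exact ⟨ε, Subtype.ext hε, fun y hy => hu y (congrArg Subtype.val hy)⟩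
  · intro φ
    have h1 : ((τ ⟨(φ : K →* ℂˣ)⁻¹, inv_ne φ.2⟩ : ℤ) : ℂ) = (τ φ : ℂ) := by
      rw [hτ2, hτ2]
      simp only [MonoidHom.inv_apply]
      rcases H74BSWDual.tau h (φ : K →* ℂˣ) with h1 | h1 <;> rw [h1] <;> simp
    exact_mod_cast h1
  · have h1 : ((∑ φ, τ φ : ℤ) : ℂ) = ((-1 : ℤ) : ℂ) := by
      push_cast
      rw [← H74BSWDual.tau_sum h]
      refine Finset.sum_congr ?_ (fun φ _ => hτ2 φ)
      ext x; simp
    exact_mod_cast h1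
  · intro hk
    obtain ⟨φ, φ', h1, h2, h3⟩ := H74BSWDual.tau_mix h hk
    have hφ : φ ≠ 1 := by rintro rfl; exact h1 (MonoidHom.ext fun x => by simp)
    have hφ' : φ' ≠ 1 := by rintro rfl; exact h2 (MonoidHom.ext fun x => by simp)
    refine ⟨⟨φ, hφ⟩, ⟨φ', hφ'⟩, fun h4 => h1 (congrArg Subtype.val h4),
      fun h4 => h2 (congrArg Subtype.val h4), fun h4 => h3 ?_⟩
    have h5 : ((τ ⟨φ, hφ⟩ : ℤ) : ℂ) = (τ ⟨φ', hφ'⟩ : ℂ) := by rw [h4]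
    rw [hτ2, hτ2] at h5
    exact Units.ext h5
  · intro χ φ
    have h1 : ((c χ ⟨(φ : K →* ℂˣ)⁻¹, inv_ne φ.2⟩ : ℤ) : ℂ) = (c χ φ : ℂ) := by
      rw [← hc, ← hc]
      exact H74BSWMult.cc_inv h (IsIrrCharacter.isClassFunction χ.2) φ
    exact_mod_cast h1
  · intro φ φ'
    have h1 := H74BSWGram.gram h (φ : K →* ℂˣ) (φ' : K →* ℂˣ) φ.2 φ'.2
    have h2 : ((∑ x, c x φ * c x φ' : ℤ) : ℂ) =
        ((2 + (if φ = φ' then 1 else 0) + (if φ = (⟨(φ' : K →* ℂˣ)⁻¹, inv_ne φ'.2⟩ :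
          {φ : K →* ℂˣ // φ ≠ 1}) then 1 else 0) : ℤ) : ℂ) := by
      push_cast
      simp only [Subtype.ext_iff]
      rw [← h1]
      apply Finset.sum_congr rfl
      intro χ _
      rw [hc χ φ, hc χ φ', map_intCast]
    exact_mod_cast h2
  · intro φ
    have h1 : ((c ⟨fun _ => 1, h1irr⟩ φ : ℤ) : ℂ) = ((1 : ℤ) : ℂ) := by
      rw [← hc]
      simpa using H74BSWMult.cc_triv (G := G) (φ : K →* ℂˣ) φ.2
    exact_mod_cast h1
  · have h1 : ((d ⟨fun _ => 1, h1irr⟩ : ℕ) : ℂ) = ((1 : ℕ) : ℂ) := by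
      rw [← hd1]; simp
    have h2 : d ⟨fun _ => 1, h1irr⟩ = 1 := by exact_mod_cast h1
    simp [h2]
  · intro φ
    have h1 := H74BSWGram.vanish h (φ : K →* ℂˣ) (g := 1) (Or.inl rfl)
    have h2 : ((∑ x, c x φ * (d x : ℤ) : ℤ) : ℂ) = ((0 : ℤ) : ℂ) := by
      push_cast
      rw [← h1]
      apply Finset.sum_congr rfl
      intro χ _
      rw [hc χ φ, hd1 χ, Complex.conj_natCast]
    exact_mod_cast h2
  · intro χ
    obtain ⟨m, hm⟩ := H74BSWMult.deg h (K := K) (IsIrrCharacter.isCharacter χ.2)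
    refine ⟨m, ?_⟩
    have h2 : (((d χ : ℕ) : ℤ) : ℂ) = (((Nat.card K : ℕ) * m - ∑ φ, c χ φ : ℤ) : ℂ) := by
      push_cast
      rw [← hd1, hm, ← sum_P (fun φ => cc K (χ : G → ℂ) φ) (H74BSWMult.cc_one _)]
      congr 1
      exact Finset.sum_congr rfl (fun φ _ => hc χ φ)
    exact_mod_cast h2
  · intro φ
    have h1 := H74BSWOrd.ord h (φ : K →* ℂˣ) φ.2
    apply Rat.cast_injective (α := ℂ)
    push_cast
    rw [← h1]
    congr 1
    apply Finset.sum_congr rfl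
    intro χ _
    rw [hc χ φ, ← hv χ, hd1 χ]
  · exact ⟨nI G, H74BSWSum.odd_nI h, by rw [← H74BSWSum.nI_mul h]; ring⟩
  · have h1 := sum_degree_sq (G := G)
    have h2 : ((∑ x, ((d x : ℕ) : ℤ) ^ 2 : ℤ) : ℂ) = (((Nat.card G : ℕ) : ℤ) : ℂ) := by
      push_cast
      rw [← h1]
      exact Finset.sum_congr rfl (fun χ _ => by rw [hd1 χ])
    exact_mod_cast h2

end Cfsg.Agent.Lib.H74BSWInst
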