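import Mathlib

/-! PROJECT 74 (BSW), piece `Inv` (30 min, PURE group theory): a fixed point free involutory automorphism inverts.
The map `y ↦ y⁻¹ * (u y u⁻¹)` of the finite set `Q` is injective (`y⁻¹ y^u = z⁻¹ z^u` gives `(z y⁻¹)^u = z y⁻¹`), hence surjective, and
`w = y⁻¹ y^u` satisfies `w^u = w⁻¹`.  Then `Q` is abelian because inversion is a homomorphism. -/

set_option autoImplicit false

namespace Cfsg.Agent.Lib.H74BSWInv

theorem inverts {G : Type*} [Group G] (Q : Subgroup G) [Finite Q] (u : G) (hu : u * u = 1)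
    (hN : ∀ y ∈ Q, u * y * u⁻¹ ∈ Q) (hfix : ∀ y ∈ Q, u * y * u⁻¹ = y → y = 1) :
    ∀ y ∈ Q, u * y * u⁻¹ = y⁻¹ := by
  have hui : u⁻¹ = u := inv_eq_of_mul_eq_one_left hu
  let f : Q → Q := fun y => ⟨(y : G)⁻¹ * (u * y * u⁻¹), Q.mul_mem (Q.inv_mem y.2) (hN y y.2)⟩
  have hinj : Function.Injective f := by
    rintro ⟨y, hy⟩ ⟨z, hz⟩ hyz
    have h1 : y⁻¹ * (u * y * u⁻¹) = z⁻¹ * (u * z * u⁻¹) := congrArg Subtype.val hyz
    have h2 : u * (z * y⁻¹) * u⁻¹ = z * y⁻¹ := by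
      have e : u * (z * y⁻¹) * u⁻¹ = (u * z * u⁻¹) * (u * y * u⁻¹)⁻¹ := by group
      have e2 : u * z * u⁻¹ = z * (y⁻¹ * (u * y * u⁻¹)) := by rw [h1]; group
      rw [e, e2]; group
    have h3 := hfix _ (Q.mul_mem hz (Q.inv_mem hy)) h2
    have : z = y := by rwa [mul_inv_eq_one] at h3
    exact Subtype.ext this.symm
  have hsurj : Function.Surjective f := Finite.surjective_of_injective hinj
  intro w hw
  obtain ⟨⟨y, hy⟩, hyw⟩ := hsurj ⟨w, hw⟩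
  have h1 : y⁻¹ * (u * y * u⁻¹) = w := congrArg Subtype.val hyw
  rw [← h1, hui]
  have : u * (y⁻¹ * (u * y * u)) * u = u * y⁻¹ * (u * y * (u * u)) := by group
  rw [this, hu]
  have h5 : (y⁻¹ * (u * y * u))⁻¹ = u⁻¹ * y⁻¹ * u⁻¹ * y := by group
  rw [h5, hui]
  group

theorem comm_of_inverts {G : Type*} [Group G] (Q : Subgroup G) (u : G)
    (h : ∀ y ∈ Q, u * y * u⁻¹ = y⁻¹) : ∀ a ∈ Q, ∀ b ∈ Q, a * b = b * a := by
  intro a ha b hb
  have h1 := h (a * b) (Q.mul_mem ha hb)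
  have h2 : u * (a * b) * u⁻¹ = (u * a * u⁻¹) * (u * b * u⁻¹) := by group
  rw [h2, h a ha, h b hb, ← mul_inv_rev] at h1
  exact (inv_injective h1).symm

end Cfsg.Agent.Lib.H74BSWInv
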