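import Cfsg.Agent.Lib.H74BSWRT2
import Cfsg.Agent.Lib.H74BSWUC
import Cfsg.Agent.Lib.H74BSWCop

/-! PROJECT 74 (BSW), piece `Many` (1.5 h): the conjugates of `Q = C g`, `g` of type `RT`.
`UC.union_count` for `A = C g` (T.I. by `RT1.rt_ti`).  Every `1 ≠ g'` conjugate into `C g` is of type `RT` with `|C g'| = |C g|` (`RT1.rt_cent`, `Conj.RT_conj`, `Conj.C_conj`, `Conj.card_cj`): this gives `many`.
`dvd`: `|C g|` divides `|G|` and is prime to `2k` (`Cop.cop`).  `e_dvd`: from `RT2.rt_norm`: `|N(Q)| = |Q| e`, `e = |E|` divides `k = |x K x⁻¹|` (Lagrange) and is even (`E` contains an involution). -/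

set_option autoImplicit false

namespace Cfsg.Agent.Lib.H74BSWMany

open Cfsg.Agent.Lib.Helper74BSWDefs

variable {G : Type*} [Group G] [Finite G] {t s : G} {K : Subgroup G}

theorem conj_count (h : BSW t s K) {g : G} (hg : RT K g) :
    Nat.card {g' : G // g' ≠ 1 ∧ ∃ x : G, x * g' * x⁻¹ ∈ C g} * Nat.card (Nm (C g))
      = Nat.card G * (Nat.card (C g) - 1) :=
  Cfsg.Agent.Lib.H74BSWUC.union_count (C g)
    (fun _ _ hy hy1 hn => Cfsg.Agent.Lib.H74BSWRT1.rt_ti h hg hy hy1 hn)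

theorem many (h : BSW t s K) {g : G} (hg : RT K g) :
    Nat.card G * (Nat.card (C g) - 1)
      ≤ Nat.card {g' : G // RT K g' ∧ Nat.card (C g') = Nat.card (C g)} * Nat.card (Nm (C g)) := by
  rw [← conj_count h hg]
  apply Nat.mul_le_mul_right
  have key : ∀ g' : G, (g' ≠ 1 ∧ ∃ x : G, x * g' * x⁻¹ ∈ C g) →
      RT K g' ∧ Nat.card (C g') = Nat.card (C g) := by
    rintro g' ⟨h1, x, hx⟩
    have hy1 : x * g' * x⁻¹ ≠ 1 := by
      intro h2
      apply h1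
      have h3 : x * g' = x := by
        have := mul_inv_eq_one.1 h2
        exact this
      exact mul_eq_left.1 h3
    obtain ⟨h2, h3⟩ := Cfsg.Agent.Lib.H74BSWRT1.rt_cent h hg hx hy1
    refine ⟨(Cfsg.Agent.Lib.H74BSWConj.RT_conj K x g').1 h3, ?_⟩
    rw [← h2, Cfsg.Agent.Lib.H74BSWConj.C_conj, Cfsg.Agent.Lib.H74BSWConj.card_cj]
  exact Nat.card_le_card_of_injective
    (fun y : {g' : G // g' ≠ 1 ∧ ∃ x : G, x * g' * x⁻¹ ∈ C g} =>
      (⟨y.1, key y.1 y.2⟩ : {g' : G // RT K g' ∧ Nat.card (C g') = Nat.card (C g)}))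
    (fun a b hab => Subtype.ext (congrArg (fun z => z.1) hab))

theorem e_dvd (h : BSW t s K) {g : G} (hg : RT K g) :
    ∃ e : ℕ, Nat.card (Nm (C g)) = Nat.card (C g) * e ∧ e ∣ Nat.card K ∧ Even e := by
  obtain ⟨x, E, -, h2, h3, -, -, h6⟩ := Cfsg.Agent.Lib.H74BSWRT2.rt_norm h hg
  refine ⟨Nat.card E, h6, ?_, ?_⟩
  · rw [← Cfsg.Agent.Lib.H74BSWConj.card_cj x K]
    exact Subgroup.card_dvd_of_le h3
  · rw [even_iff_two_dvd]
    have h7 : orderOf (x * t * x⁻¹) = 2 := by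
      have : x * t * x⁻¹ = MulAut.conj x t := rfl
      rw [this, MulEquiv.orderOf_eq, h.ht]
    have h8 : orderOf (⟨x * t * x⁻¹, h2⟩ : E) = 2 := by
      rw [← Subgroup.orderOf_coe]
      exact h7
    rw [← h8]
    exact orderOf_dvd_natCard _

end Cfsg.Agent.Lib.H74BSWMany
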