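import Cfsg.Agent.Lib.H74BSWMany
import Cfsg.Agent.Lib.H74BSWSum

/-! PROJECT 74 (BSW), piece `MinusD` (3 h, LONG): the minus case, the elements of type `RT`.
`nI = (2k-1)(k-1)`; `Sum.sum_out`: `∑_{g outside} psi g = nI (nI - 1 - k(k-1)) = nI k (k-2)`, and `2 * this = |G| (k-2)`.  If `k = 2` the sum is `0`: no element of type `RT`.  Let `k ≥ 4`.
`minus_conj`: `k - 1 > 1` divides `psi g = |C g|` and `|C g'|` (`RT1.rt_psi`); take a prime `r ∣ k - 1`; Cauchy: `y ∈ C g'` of order `r`; `Cop.hallRT`: `x y x⁻¹ ∈ C g`; `RT1.rt_cent`: `C (x y x⁻¹) = C g` and `C y = C g'`, so `x (C g') x⁻¹ = C g`, `x g' x⁻¹ ∈ C g`.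
Hence the elements of type `RT` are exactly the `g' ≠ 1` conjugate into `Q = C g`, all with `psi = |Q|`: `∑ psi = |Q| #RT`, `#RT |N(Q)| = |G| (|Q| - 1)` (`Many.conj_count`), `|N(Q)| = |Q| e`: `2 (|Q| - 1) = e (k - 2)`.
With `|Q| = (k-1) c`: `2 (k-2) c + 2 (c-1) = e (k-2)`.  If `c > 1`: `k - 2 ∣ 2(c-1)`, so `2c ≥ k`, and `e > 2c ≥ k`, contradicting `e ∣ k` (`Many.e_dvd`).  So `c = 1`, `e = 2` (`minus_arith`).
`card_NN`: `Sum.card_out` minus `card_RT`: `2k(2k-1)(k-1) - 1 - (2k-1)(k-1)² - k(2k-1)(k-2) = (2k-1)² - 1`. -/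

set_option autoImplicit false

namespace Cfsg.Agent.Lib.H74BSWMinusD

open Cfsg.Agent.Lib.Helper74BSWDefs

/-- pure arithmetic -/
theorem minus_arith (k c e : ℕ) (hk : 4 ≤ k) (hc : 1 ≤ c) (he : e ∣ k)
    (h : 2 * ((k - 1) * c - 1) = e * (k - 2)) : c = 1 ∧ e = 2 := by
  obtain ⟨m, rfl⟩ : ∃ m, k = m + 2 := ⟨k - 2, by omega⟩
  obtain ⟨c', rfl⟩ : ∃ c', c = c' + 1 := ⟨c - 1, by omega⟩
  have h1 : (m + 2 - 1) * (c' + 1) - 1 = m * c' + m + c' := by
    have h0 : (m + 2 - 1) = m + 1 := by omega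
    rw [h0]
    have h3 : (m + 1) * (c' + 1) = m * c' + m + c' + 1 := by ring
    omega
  have h2 : m + 2 - 2 = m := by omega
  rw [h1, h2] at h
  have hm : 2 ≤ m := by omega
  have hle : e ≤ m + 2 := Nat.le_of_dvd (by omega) he
  rcases Nat.eq_zero_or_pos c' with rfl | hc'
  · refine ⟨rfl, ?_⟩
    have h3 : e * m = 2 * m := by linarith
    exact Nat.eq_of_mul_eq_mul_right (by omega) h3
  · exfalso
    have hd : m ∣ 2 * c' := by
      have h3 : m ∣ 2 * c' + m * (2 * c' + 2) := ⟨e, by nlinarith⟩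
      exact (Nat.dvd_add_left (Dvd.intro _ rfl)).mp h3
    have hmle : m ≤ 2 * c' := Nat.le_of_dvd (by omega) hd
    nlinarith

variable {G : Type*} [Group G] [Finite G] {t s : G} {K : Subgroup G}

theorem nI_eq (h : BSW t s K) (hM : MinusCase K) :
    nI G = (2 * Nat.card K - 1) * (Nat.card K - 1) := by
  cases nonempty_fintype G
  have h1 := H74BSWSum.nI_mul h
  rw [hM.1] at h1
  have hk := H74BSWBasic.two_le_K h
  have h2 : nI G * (2 * Nat.card K)
      = ((2 * Nat.card K - 1) * (Nat.card K - 1)) * (2 * Nat.card K) := by rw [h1]; ring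
  exact Nat.eq_of_mul_eq_mul_right (by omega) h2

open scoped Classical in
theorem sum_eq [Fintype G] (h : BSW t s K) (hM : MinusCase K) :
    (∑ g : G, if inKK K g then 0 else psi g) = nI G * (Nat.card K - 2) * Nat.card K := by
  have h1 := H74BSWSum.sum_out h
  have h2 := nI_eq h hM
  have hk := H74BSWBasic.two_le_K h
  obtain ⟨m, hm⟩ : ∃ m, Nat.card K = m + 2 := ⟨Nat.card K - 2, by omega⟩
  rw [hm] at h1 h2 ⊢
  have e1 : 2 * (m + 2) - 1 = 2 * m + 3 := by omega
  have e2 : m + 2 - 1 = m + 1 := by omega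
  have e3 : m + 2 - 2 = m := by omega
  rw [e1, e2] at h2
  rw [e2] at h1
  rw [e3]
  rw [h2] at h1 ⊢
  nlinarith

theorem four_le_of_RT (h : BSW t s K) (hM : MinusCase K) {g : G} (hg : RT K g) :
    4 ≤ Nat.card K := by
  classical
  cases nonempty_fintype G
  by_contra hlt
  have hk := H74BSWBasic.two_le_K h
  have hev := H74BSWBasic.even_K h
  have hk2 : Nat.card K = 2 := by
    obtain ⟨a, ha⟩ := hev
    omega
  have h1 := sum_eq h hM
  rw [hk2] at h1
  simp only [Nat.sub_self, mul_zero, zero_mul] at h1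
  rw [Finset.sum_eq_zero_iff] at h1
  have h2 := h1 g (Finset.mem_univ _)
  rw [if_neg hg.1] at h2
  exact hg.2 h2

omit [Finite G] in
theorem self_mem_C (g : G) : g ∈ C g := by
  simp [Subgroup.mem_centralizer_singleton_iff]

theorem minus_conj (h : BSW t s K) (hM : MinusCase K) {g g' : G} (hg : RT K g) (hg' : RT K g') :
    ∃ x : G, x * g' * x⁻¹ ∈ C g := by
  have hk4 := four_le_of_RT h hM hg
  have hd : (Nat.card K - 1) ∣ Nat.card (C g) := by
    rw [← H74BSWRT1.rt_psi h hg]; exact hM.2 g hg.1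
  have hd' : (Nat.card K - 1) ∣ Nat.card (C g') := by
    rw [← H74BSWRT1.rt_psi h hg']; exact hM.2 g' hg'.1
  obtain ⟨r, hr, hrk⟩ := Nat.exists_prime_and_dvd (show Nat.card K - 1 ≠ 1 by omega)
  have : Fact r.Prime := ⟨hr⟩
  obtain ⟨y, hy⟩ := exists_prime_orderOf_dvd_card' (G := C g') r (hrk.trans hd')
  have hy' : orderOf (y : G) = r := by rw [Subgroup.orderOf_coe]; exact hy
  have hy1 : (y : G) ≠ 1 := by
    intro h1
    rw [h1, orderOf_one] at hy'
    exact hr.one_lt.ne hy'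
  obtain ⟨x, hx⟩ := H74BSWCop.hallRT h hg hr (hrk.trans hd) hy'
  have hx1 : x * (y : G) * x⁻¹ ≠ 1 := by
    intro h1
    apply hy1
    have : (y : G) = x⁻¹ * (x * (y : G) * x⁻¹) * x := by group
    rw [this, h1]; group
  have c1 := (H74BSWRT1.rt_cent h hg hx hx1).1
  have c2 := (H74BSWRT1.rt_cent h hg' y.2 hy1).1
  rw [H74BSWConj.C_conj, c2] at c1
  refine ⟨x, ?_⟩
  rw [← c1]
  exact ⟨g', self_mem_C g', rfl⟩

theorem rt_iff (h : BSW t s K) (hM : MinusCase K) {g : G} (hg : RT K g) (g' : G) :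
    RT K g' ↔ (g' ≠ 1 ∧ ∃ x : G, x * g' * x⁻¹ ∈ C g) := by
  constructor
  · intro hg'
    exact ⟨H74BSWRT1.rt_ne_one hg'.1, minus_conj h hM hg hg'⟩
  · rintro ⟨h1, x, hx⟩
    have hx1 : x * g' * x⁻¹ ≠ 1 := by
      intro h2
      apply h1
      have : g' = x⁻¹ * (x * g' * x⁻¹) * x := by group
      rw [this, h2]; group
    exact (H74BSWConj.RT_conj K x g').1 (H74BSWRT1.rt_cent h hg hx hx1).2

theorem card_C_eq (h : BSW t s K) (hM : MinusCase K) {g g' : G} (hg : RT K g) (hg' : RT K g') :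
    Nat.card (C g') = Nat.card (C g) := by
  obtain ⟨x, hx⟩ := minus_conj h hM hg hg'
  have hx1 : x * g' * x⁻¹ ≠ 1 := by
    intro h2
    apply H74BSWRT1.rt_ne_one hg'.1
    have : g' = x⁻¹ * (x * g' * x⁻¹) * x := by group
    rw [this, h2]; group
  have c1 := (H74BSWRT1.rt_cent h hg hx hx1).1
  rw [H74BSWConj.C_conj] at c1
  rw [← c1, H74BSWConj.card_cj]

open scoped Classical in
theorem sum_RT [Fintype G] (h : BSW t s K) (hM : MinusCase K) {g : G} (hg : RT K g) :
    (∑ g' : G, if inKK K g' then 0 else psi g') = Nat.card {g' : G // RT K g'} * Nat.card (C g) := by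
  have h1 : ∀ g' : G, (if inKK K g' then 0 else psi g') = if RT K g' then Nat.card (C g) else 0 := by
    intro g'
    by_cases hin : inKK K g'
    · rw [if_pos hin, if_neg (fun hh : RT K g' => hh.1 hin)]
    · rw [if_neg hin]
      by_cases hp : psi g' = 0
      · rw [if_neg (fun hh : RT K g' => hh.2 hp), hp]
      · have hR : RT K g' := ⟨hin, hp⟩
        rw [if_pos hR, H74BSWRT1.rt_psi h hR, card_C_eq h hM hg hR]
  rw [Finset.sum_congr rfl (fun g' _ => h1 g')]
  rw [Finset.sum_ite, Finset.sum_const, Finset.sum_const_zero, smul_eq_mul, add_zero,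
    Nat.card_eq_fintype_card (α := {g' : G // RT K g'}), Fintype.card_subtype]

theorem nI_pos (h : BSW t s K) : 0 < nI G := by
  cases nonempty_fintype G
  have h1 := H74BSWSum.nI_mul h
  have h2 : 0 < Nat.card G := Nat.card_pos
  rcases Nat.eq_zero_or_pos (nI G) with h0 | h0
  · rw [h0] at h1; omega
  · exact h0

theorem minus_card (h : BSW t s K) (hM : MinusCase K) {g : G} (hg : RT K g) :
    Nat.card (C g) = Nat.card K - 1 ∧ Nat.card (Nm (C g)) = 2 * (Nat.card K - 1) := by
  classical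
  cases nonempty_fintype G
  have hk4 := four_le_of_RT h hM hg
  obtain ⟨e, he1, he2, he3⟩ := H74BSWMany.e_dvd h hg
  obtain ⟨c, hc⟩ : (Nat.card K - 1) ∣ Nat.card (C g) := by
    rw [← H74BSWRT1.rt_psi h hg]; exact hM.2 g hg.1
  have hcount := H74BSWMany.conj_count h hg
  have hsum := sum_RT h hM hg
  rw [sum_eq h hM] at hsum
  have hRT : Nat.card {g' : G // RT K g'}
      = Nat.card {g' : G // g' ≠ 1 ∧ ∃ x : G, x * g' * x⁻¹ ∈ C g} :=
    Nat.card_congr (Equiv.subtypeEquivRight (rt_iff h hM hg))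
  rw [← hRT, he1, ← H74BSWSum.nI_mul h] at hcount
  have hpos := nI_pos h
  have hQpos : 0 < Nat.card (C g) := Nat.card_pos
  have hc1 : 1 ≤ c := by
    rcases Nat.eq_zero_or_pos c with h0 | h0
    · rw [h0, mul_zero] at hc; omega
    · exact h0
  have key : 2 * ((Nat.card K - 1) * c - 1) = e * (Nat.card K - 2) := by
    rw [← hc]
    have h3 : (nI G * Nat.card K) * (2 * (Nat.card (C g) - 1))
        = (nI G * Nat.card K) * (e * (Nat.card K - 2)) := by
      calc (nI G * Nat.card K) * (2 * (Nat.card (C g) - 1))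
          = nI G * (2 * Nat.card K) * (Nat.card (C g) - 1) := by ring
        _ = Nat.card {g' : G // RT K g'} * (Nat.card (C g) * e) := hcount.symm
        _ = (Nat.card {g' : G // RT K g'} * Nat.card (C g)) * e := by ring
        _ = (nI G * (Nat.card K - 2) * Nat.card K) * e := by rw [hsum]
        _ = _ := by ring
    exact Nat.eq_of_mul_eq_mul_left (Nat.mul_pos hpos (by omega)) h3
  obtain ⟨rfl, rfl⟩ := minus_arith _ c e hk4 hc1 he2 key
  rw [mul_one] at hc
  refine ⟨hc, ?_⟩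
  rw [he1, hc]; ring

theorem card_RT (h : BSW t s K) (hM : MinusCase K) :
    Nat.card {g : G // RT K g} = Nat.card K * (2 * Nat.card K - 1) * (Nat.card K - 2) := by
  classical
  cases nonempty_fintype G
  by_cases hex : ∃ g : G, RT K g
  · obtain ⟨g, hg⟩ := hex
    have hk4 := four_le_of_RT h hM hg
    have hsum := sum_RT h hM hg
    rw [sum_eq h hM, (minus_card h hM hg).1, nI_eq h hM] at hsum
    have h3 : (Nat.card K * (2 * Nat.card K - 1) * (Nat.card K - 2)) * (Nat.card K - 1)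
        = Nat.card {g : G // RT K g} * (Nat.card K - 1) := by
      rw [← hsum]; ring
    exact (Nat.eq_of_mul_eq_mul_right (by omega) h3).symm
  · have hsum := sum_eq h hM
    have h0 : (∑ g : G, if inKK K g then 0 else psi g) = 0 := by
      apply Finset.sum_eq_zero
      intro g _
      by_cases hin : inKK K g
      · rw [if_pos hin]
      · rw [if_neg hin]
        by_contra hp
        exact hex ⟨g, hin, hp⟩
    rw [h0] at hsum
    have hpos := nI_pos h
    have hk := H74BSWBasic.two_le_K h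
    have hk2 : Nat.card K - 2 = 0 := by
      rcases Nat.eq_zero_or_pos (Nat.card K - 2) with h1 | h1
      · exact h1
      · exfalso
        have : 0 < nI G * (Nat.card K - 2) * Nat.card K :=
          Nat.mul_pos (Nat.mul_pos hpos h1) (by omega)
        omega
    rw [hk2, mul_zero]
    have : IsEmpty {g : G // RT K g} := ⟨fun g => hex ⟨g.1, g.2⟩⟩
    exact Nat.card_of_isEmpty

theorem card_NN (h : BSW t s K) (hM : MinusCase K) :
    Nat.card {g : G // NN K g} = (2 * Nat.card K - 1) ^ 2 - 1 := by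
  classical
  cases nonempty_fintype G
  have h1 := H74BSWSum.card_out h
  have h2 := card_RT h hM
  have h3 : Nat.card {g : G // ¬ inKK K g} = Nat.card {g : G // RT K g} + Nat.card {g : G // NN K g} := by
    simp only [Nat.card_eq_fintype_card, Fintype.card_subtype]
    rw [← Finset.card_union_of_disjoint]
    · congr 1
      ext g
      simp only [Finset.mem_filter, Finset.mem_univ, true_and, Finset.mem_union]
      unfold RT NN
      by_cases hp : psi g = 0 <;> simp [hp]
    · rw [Finset.disjoint_filter]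
      intro g _ ha hb
      exact ha.2 hb.2
  rw [h3, h2, nI_eq h hM, hM.1] at h1
  have hk := H74BSWBasic.two_le_K h
  obtain ⟨m, hm⟩ : ∃ m, Nat.card K = m + 2 := ⟨Nat.card K - 2, by omega⟩
  rw [hm] at h1 ⊢
  have e1 : 2 * (m + 2) - 1 = 2 * m + 3 := by omega
  have e2 : m + 2 - 1 = m + 1 := by omega
  have e3 : m + 2 - 2 = m := by omega
  rw [e1, e2, e3] at h1
  rw [e1]
  have : Nat.card {g : G // NN K g} + 1 = (2 * m + 3) ^ 2 := by nlinarith
  omega

end Cfsg.Agent.Lib.H74BSWMinusD
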