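import Cfsg.Agent.Lib.H74BSWMinusD

/-! PROJECT 74 (BSW), piece `MinusN` (3 h, LONG): the minus case, the elements of type `NN` (`q = 2k - 1`).
`nn_cent`: `z` is outside the conjugates of `K` (`El.el1`); if `RT K z` then `y ∈ C z`, `y ≠ 1`, so `RT K y` by `RT1.rt_cent`: no.
`nn_not_real`: if `x y x⁻¹ = y⁻¹`, then the 2-part `x₂` of `x` (an odd power of `x`) still inverts `y` (`y ≠ y⁻¹`, odd order); `x₂² ∈ C y` is a 2-element in a group of odd order (`El.odd_cent`), so `x₂² = 1`, `x₂ ≠ 1`: an involution inverting `y`, `psi y ≠ 0` (`El.psi_ne_zero_iff`).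
`nn_dvd`: `|C y|` divides `|G| = 2k (k-1) q` and is prime to `2k` (`Cop.cop`) and to `k - 1`: a prime `r ∣ k - 1`, `r ∣ |C y|` gives `z ∈ C y` of order `r`; as `k - 1 > 1` there is `g` of type `RT` (`card_RT > 0`) with `|C g| = k - 1` (`minus_card`), so `z` is conjugate into `C g` (`Cop.hallRT`), `RT K z`: contradiction with `nn_cent`.
`nn_card`, `nn_two`: the classes of `y` and `y⁻¹` are disjoint (`nn_not_real`), contained in `NN`, each of size `|G|/|C y| ≥ |G|/q = (q²-1)/2`; `#NN = q² - 1` (`card_NN`).  So equality holds everywhere.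
`nn_prime`: by `nn_two` all elements of `NN` have the same order `m`; for a prime `p ∣ m`, `y^(m/p) ∈ C y \ 1` is of type `NN` (`nn_cent`) and has order `p`: `m = p`.  All non-identity elements of `C y` have order `p`, so `q = |C y|` is a power of `p`.
`nn_of_p`: `g ≠ 1` of order `p^j`: `p ∣ q` is prime to `k` and `k - 1`; if `g` were conjugate into `K` its order would divide `k`; if `RT K g`, its order divides `|C g| = k - 1`. -/

set_option autoImplicit false

namespace Cfsg.Agent.Lib.H74BSWMinusN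

open Cfsg.Agent.Lib.Helper74BSWDefs

variable {G : Type*} [Group G] [Finite G] {t s : G} {K : Subgroup G}

theorem card_class (y : G) :
    Nat.card {x // IsConj y x} * Nat.card (C y) = Nat.card G := by
  classical
  cases nonempty_fintype G
  rw [Subgroup.nat_card_centralizer_nat_card_stabilizer]
  have h1 := MulAction.card_orbit_mul_card_stabilizer_eq_card_group (ConjAct G) y
  rw [← Nat.card_eq_fintype_card, ← Nat.card_eq_fintype_card, ← Nat.card_eq_fintype_card] at h1
  have h2 : Nat.card (ConjAct G) = Nat.card G := rfl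
  rw [← h2, ← h1]
  congr 1
  apply Nat.card_congr
  apply Equiv.subtypeEquivRight
  intro x
  rw [ConjAct.mem_orbit_conjAct]
  exact isConj_comm

omit [Finite G] in
theorem conj_ne_one {x g : G} (hg : g ≠ 1) : x * g * x⁻¹ ≠ 1 := by
  intro h2
  apply hg
  have : g = x⁻¹ * (x * g * x⁻¹) * x := by group
  rw [this, h2]; group

omit [Finite G] in
theorem orderOf_conj' (x g : G) : orderOf (x * g * x⁻¹) = orderOf g :=
  (MulAut.conj x).orderOf_eq g

theorem nn_cent (h : BSW t s K) {y z : G} (hy : NN K y) (hz : z ∈ C y) (hz1 : z ≠ 1) : NN K z := by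
  have h1 := H74BSWEl.el1 h hy.1 hz hz1
  refine ⟨h1, ?_⟩
  by_contra hp
  have hR : RT K z := ⟨h1, hp⟩
  have hyz : y ∈ C z := by
    rw [Subgroup.mem_centralizer_singleton_iff] at hz ⊢
    exact hz.symm
  exact (H74BSWRT1.rt_cent h hR hyz (H74BSWRT1.rt_ne_one hy.1)).2.2 hy.2

theorem nn_not_real (h : BSW t s K) {y : G} (hy : NN K y) : ¬ IsConj y y⁻¹ := by
  intro hc
  obtain ⟨x, hx⟩ := isConj_iff.1 hc
  have hy1 : y ≠ 1 := H74BSWRT1.rt_ne_one hy.1
  have hodd := H74BSWEl.odd_order h hy.1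
  -- `x ^ 2` commutes with `y`
  have hx2 : Commute (x ^ 2) y := by
    have h1 : x * y⁻¹ * x⁻¹ = y := by
      have : x * y⁻¹ * x⁻¹ = (x * y * x⁻¹)⁻¹ := by group
      rw [this, hx, inv_inv]
    have h2 : x ^ 2 * y * (x ^ 2)⁻¹ = y := by
      have : x ^ 2 * y * (x ^ 2)⁻¹ = x * (x * y * x⁻¹) * x⁻¹ := by
        rw [pow_two, mul_inv_rev]; simp only [mul_assoc]
      rw [this, hx, h1]
    exact mul_inv_eq_iff_eq_mul.1 h2
  have hoddpow : ∀ j : ℕ, x ^ (2 * j + 1) * y * (x ^ (2 * j + 1))⁻¹ = y⁻¹ := by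
    intro j
    have hc : Commute ((x ^ 2) ^ j) y⁻¹ := (hx2.pow_left j).inv_right
    have e : x ^ (2 * j + 1) = (x ^ 2) ^ j * x := by rw [pow_succ, pow_mul]
    rw [e]
    have : (x ^ 2) ^ j * x * y * ((x ^ 2) ^ j * x)⁻¹
        = (x ^ 2) ^ j * (x * y * x⁻¹) * ((x ^ 2) ^ j)⁻¹ := by group
    rw [this, hx, hc.eq, mul_inv_cancel_right]
  obtain ⟨a, m, hm, hn⟩ := Nat.exists_eq_two_pow_mul_odd (orderOf_pos x).ne'
  obtain ⟨j, rfl⟩ := hm
  set w := x ^ (2 * j + 1) with hw
  have hwinv : w * y * w⁻¹ = y⁻¹ := hoddpow j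
  have hw2a : w ^ (2 ^ a) = 1 := by
    rw [hw, ← pow_mul, mul_comm, ← hn, pow_orderOf_eq_one]
  have hw2C : w ^ 2 ∈ C y := by
    rw [Subgroup.mem_centralizer_singleton_iff]
    have e : w ^ 2 = (x ^ 2) ^ (2 * j + 1) := by rw [hw, ← pow_mul, ← pow_mul, mul_comm]
    rw [e]
    exact (hx2.pow_left _).eq
  have hd1 : orderOf (w ^ 2) ∣ 2 ^ a := by
    apply orderOf_dvd_of_pow_eq_one
    rw [← pow_mul, mul_comm, pow_mul, hw2a, one_pow]
  have hd2 : orderOf (w ^ 2) ∣ Nat.card (C y) := by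
    have := orderOf_dvd_natCard (⟨w ^ 2, hw2C⟩ : C y)
    rwa [← Subgroup.orderOf_coe] at this
  have hcop : Nat.Coprime (2 ^ a) (Nat.card (C y)) :=
    Nat.Coprime.pow_left _ (Nat.coprime_two_left.2 (H74BSWEl.odd_cent h hy.1))
  have h1 : orderOf (w ^ 2) = 1 := Nat.eq_one_of_dvd_coprimes hcop hd1 hd2
  have hw21 : w ^ 2 = 1 := orderOf_eq_one_iff.1 h1
  have hw1 : w ≠ 1 := by
    intro hw1
    rw [hw1] at hwinv
    simp only [one_mul, inv_one, mul_one] at hwinv
    have hy2 : y ^ 2 = 1 := by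
      rw [pow_two]
      nth_rewrite 1 [hwinv]
      exact inv_mul_cancel y
    have hd := orderOf_dvd_of_pow_eq_one hy2
    have : orderOf y = 1 := by
      rcases (Nat.dvd_prime Nat.prime_two).1 hd with h3 | h3
      · exact h3
      · rw [h3] at hodd; exact absurd hodd (by decide)
    exact hy1 (orderOf_eq_one_iff.1 this)
  have hword : orderOf w = 2 := orderOf_eq_prime hw21 hw1
  exact ((H74BSWEl.psi_ne_zero_iff hodd hy1).2 ⟨w, hword, hwinv⟩) hy.2

theorem exists_RT (h : BSW t s K) (hM : MinusCase K) (hk : 3 ≤ Nat.card K) : ∃ g : G, RT K g := by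
  by_contra hex
  have h1 := H74BSWMinusD.card_RT h hM
  have : IsEmpty {g : G // RT K g} := ⟨fun g => hex ⟨g.1, g.2⟩⟩
  rw [Nat.card_of_isEmpty] at h1
  have : 0 < Nat.card K * (2 * Nat.card K - 1) * (Nat.card K - 2) :=
    Nat.mul_pos (Nat.mul_pos (by omega) (by omega)) (by omega)
  omega

theorem nn_dvd (h : BSW t s K) (hM : MinusCase K) {y : G} (hy : NN K y) :
    Nat.card (C y) ∣ 2 * Nat.card K - 1 := by
  have hd : Nat.card (C y) ∣ Nat.card G := Subgroup.card_subgroup_dvd_card _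
  rw [hM.1] at hd
  have c1 := H74BSWCop.cop h hy.1
  have c2 : Nat.Coprime (Nat.card (C y)) (Nat.card K - 1) := by
    by_contra hnc
    obtain ⟨r, hr, hr1, hr2⟩ := Nat.Prime.not_coprime_iff_dvd.1 hnc
    have hk3 : 3 ≤ Nat.card K := by
      have := Nat.le_of_dvd (by
        rcases Nat.eq_zero_or_pos (Nat.card K - 1) with h0 | h0
        · exfalso
          rw [h0] at hnc
          have hk := H74BSWBasic.two_le_K h
          omega
        · exact h0) hr2
      have := hr.two_le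
      omega
    obtain ⟨g, hg⟩ := exists_RT h hM hk3
    have : Fact r.Prime := ⟨hr⟩
    obtain ⟨z, hz⟩ := exists_prime_orderOf_dvd_card' (G := C y) r hr1
    have hz' : orderOf (z : G) = r := by rw [Subgroup.orderOf_coe]; exact hz
    have hz1 : (z : G) ≠ 1 := by
      intro h1
      rw [h1, orderOf_one] at hz'
      exact hr.one_lt.ne hz'
    obtain ⟨x, hx⟩ := H74BSWCop.hallRT h hg hr
      (by rw [(H74BSWMinusD.minus_card h hM hg).1]; exact hr2) hz'
    have hR := (H74BSWRT1.rt_cent h hg hx (conj_ne_one hz1)).2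
    rw [H74BSWConj.RT_conj] at hR
    exact hR.2 (nn_cent h hy z.2 hz1).2
  have hd2 : Nat.card (C y) ∣ 2 * Nat.card K * (2 * Nat.card K - 1) := c2.dvd_of_dvd_mul_right hd
  exact c1.dvd_of_dvd_mul_left hd2

theorem two_classes (h : BSW t s K) (hM : MinusCase K) {y : G} (hy : NN K y) :
    Nat.card (C y) = 2 * Nat.card K - 1 ∧ ∀ z : G, NN K z → IsConj z y ∨ IsConj z y⁻¹ := by
  classical
  cases nonempty_fintype G
  have hy1 : y ≠ 1 := H74BSWRT1.rt_ne_one hy.1
  have hyi : NN K y⁻¹ := nn_cent h hy (inv_mem (H74BSWMinusD.self_mem_C y)) (inv_ne_one.2 hy1)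
  obtain ⟨d, hd⟩ := nn_dvd h hM hy
  obtain ⟨d', hd'⟩ := nn_dvd h hM hyi
  have hA := card_class y
  have hB := card_class y⁻¹
  have hN := H74BSWMinusD.card_NN h hM
  have hk := H74BSWBasic.two_le_K h
  set A : Finset G := Finset.univ.filter (fun x => IsConj y x) with hAdef
  set B : Finset G := Finset.univ.filter (fun x => IsConj y⁻¹ x) with hBdef
  set N : Finset G := Finset.univ.filter (fun x => NN K x) with hNdef
  have cA : Nat.card {x // IsConj y x} = A.card := by
    rw [Nat.card_eq_fintype_card, Fintype.card_subtype]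
  have cB : Nat.card {x // IsConj y⁻¹ x} = B.card := by
    rw [Nat.card_eq_fintype_card, Fintype.card_subtype]
  have cN : Nat.card {x // NN K x} = N.card := by
    rw [Nat.card_eq_fintype_card, Fintype.card_subtype]
  have hdisj : Disjoint A B := by
    rw [Finset.disjoint_filter]
    intro x _ ha hb
    exact nn_not_real h hy (ha.trans hb.symm)
  have hsub : A ∪ B ⊆ N := by
    intro x hx
    rw [Finset.mem_union] at hx
    rw [hNdef, Finset.mem_filter]
    refine ⟨Finset.mem_univ _, ?_⟩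
    rcases hx with hx | hx
    · obtain ⟨c, rfl⟩ := isConj_iff.1 (Finset.mem_filter.1 hx).2
      exact (H74BSWConj.NN_conj K c y).2 hy
    · obtain ⟨c, rfl⟩ := isConj_iff.1 (Finset.mem_filter.1 hx).2
      exact (H74BSWConj.NN_conj K c y⁻¹).2 hyi
  have hle := Finset.card_le_card hsub
  rw [Finset.card_union_of_disjoint hdisj, ← cN, hN] at hle
  rw [cA, hM.1] at hA
  rw [cB, hM.1] at hB
  obtain ⟨m, hm⟩ : ∃ m, Nat.card K = m + 2 := ⟨Nat.card K - 2, by omega⟩
  rw [hm] at hA hB hle hd hd' ⊢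
  have e1 : 2 * (m + 2) - 1 = 2 * m + 3 := by omega
  have e2 : m + 2 - 1 = m + 1 := by omega
  rw [e1] at hA hB hle hd hd' ⊢
  rw [e2] at hA hB
  have hcpos : 0 < Nat.card (C y) := Nat.card_pos
  have hcpos' : 0 < Nat.card (C y⁻¹) := Nat.card_pos
  have hA' : A.card = 2 * (m + 2) * (m + 1) * d := by
    have : A.card * Nat.card (C y) = (2 * (m + 2) * (m + 1) * d) * Nat.card (C y) := by
      rw [hA, hd]; ring
    exact Nat.eq_of_mul_eq_mul_right hcpos this
  have hB' : B.card = 2 * (m + 2) * (m + 1) * d' := by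
    have : B.card * Nat.card (C y⁻¹) = (2 * (m + 2) * (m + 1) * d') * Nat.card (C y⁻¹) := by
      rw [hB, hd']; ring
    exact Nat.eq_of_mul_eq_mul_right hcpos' this
  have hdpos : 0 < d := by
    rcases Nat.eq_zero_or_pos d with h0 | h0
    · rw [h0] at hd; omega
    · exact h0
  have hdpos' : 0 < d' := by
    rcases Nat.eq_zero_or_pos d' with h0 | h0
    · rw [h0] at hd'; omega
    · exact h0
  have e3 : (2 * m + 3) ^ 2 - 1 = 2 * (m + 2) * (m + 1) * 2 := by
    have : (2 * m + 3) ^ 2 = 2 * (m + 2) * (m + 1) * 2 + 1 := by ring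
    omega
  rw [e3, hA', hB', ← mul_add] at hle
  have hdd : d + d' ≤ 2 := Nat.le_of_mul_le_mul_left hle (by positivity)
  have hd1 : d = 1 := by omega
  have hd1' : d' = 1 := by omega
  subst hd1
  subst hd1'
  refine ⟨by omega, ?_⟩
  have heq : A ∪ B = N := by
    apply Finset.eq_of_subset_of_card_le hsub
    rw [Finset.card_union_of_disjoint hdisj, ← cN, hN, hm, e1, e3, hA', hB']
    omega
  intro z hz
  have hzN : z ∈ N := by
    rw [hNdef, Finset.mem_filter]; exact ⟨Finset.mem_univ _, hz⟩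
  rw [← heq, Finset.mem_union] at hzN
  rcases hzN with hz | hz
  · exact Or.inl (Finset.mem_filter.1 hz).2.symm
  · exact Or.inr (Finset.mem_filter.1 hz).2.symm

theorem nn_card (h : BSW t s K) (hM : MinusCase K) {y : G} (hy : NN K y) :
    Nat.card (C y) = 2 * Nat.card K - 1 := (two_classes h hM hy).1

theorem nn_two (h : BSW t s K) (hM : MinusCase K) {y z : G} (hy : NN K y) (hz : NN K z) :
    IsConj z y ∨ IsConj z y⁻¹ := (two_classes h hM hy).2 z hz

theorem nn_exists (h : BSW t s K) (hM : MinusCase K) : ∃ y : G, NN K y := by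
  by_contra hex
  have h1 := H74BSWMinusD.card_NN h hM
  have : IsEmpty {g : G // NN K g} := ⟨fun g => hex ⟨g.1, g.2⟩⟩
  rw [Nat.card_of_isEmpty] at h1
  have hk := H74BSWBasic.two_le_K h
  have h3 : 3 ≤ 2 * Nat.card K - 1 := by omega
  have : 3 ^ 2 ≤ (2 * Nat.card K - 1) ^ 2 := Nat.pow_le_pow_left h3 2
  omega

theorem nn_prime (h : BSW t s K) (hM : MinusCase K) :
    ∃ p n : ℕ, p.Prime ∧ 2 * Nat.card K - 1 = p ^ n ∧ (∀ y : G, NN K y → orderOf y = p) ∧
      ∀ g : G, g ≠ 1 → (∃ j : ℕ, orderOf g = p ^ j) → NN K g := by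
  obtain ⟨y0, hy0⟩ := nn_exists h hM
  have hy01 : y0 ≠ 1 := H74BSWRT1.rt_ne_one hy0.1
  have hm1 : orderOf y0 ≠ 1 := fun h1 => hy01 (orderOf_eq_one_iff.1 h1)
  obtain ⟨p, hp, hpm⟩ := Nat.exists_prime_and_dvd hm1
  set w := y0 ^ (orderOf y0 / p) with hw
  have hwo : orderOf w = p := orderOf_pow_orderOf_div (orderOf_pos y0).ne' hpm
  have hw1 : w ≠ 1 := by
    intro h1
    rw [h1, orderOf_one] at hwo
    exact hp.one_lt.ne hwo
  have hwC : w ∈ C y0 := pow_mem (H74BSWMinusD.self_mem_C y0) _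
  have hwN : NN K w := nn_cent h hy0 hwC hw1
  have hall : ∀ y : G, NN K y → orderOf y = p := by
    intro y hy
    rcases nn_two h hM hwN hy with hc | hc
    · obtain ⟨c, hc⟩ := isConj_iff.1 hc
      rw [← hwo, ← hc, orderOf_conj']
    · obtain ⟨c, hc⟩ := isConj_iff.1 hc
      rw [← hwo, ← orderOf_inv w, ← hc, orderOf_conj']
  have hpg : IsPGroup p (C y0) := by
    intro g
    by_cases hg : (g : G) = 1
    · exact ⟨0, by ext; simpa using hg⟩
    · refine ⟨1, ?_⟩
      have h1 := hall g (nn_cent h hy0 g.2 hg)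
      ext
      rw [pow_one, Subgroup.coe_pow, Subgroup.coe_one, ← h1, pow_orderOf_eq_one]
  have : Fact p.Prime := ⟨hp⟩
  obtain ⟨n, hn⟩ := IsPGroup.iff_card.1 hpg
  rw [nn_card h hM hy0] at hn
  have hk := H74BSWBasic.two_le_K h
  have hpq : p ∣ 2 * Nat.card K - 1 := by
    rw [hn]
    apply dvd_pow_self
    rintro rfl
    rw [pow_zero] at hn
    omega
  refine ⟨p, n, hp, hn, hall, ?_⟩
  rintro g hg1 ⟨j, hj⟩
  have hj0 : j ≠ 0 := by
    rintro rfl
    rw [pow_zero] at hj
    exact hg1 (orderOf_eq_one_iff.1 hj)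
  have hpg' : p ∣ orderOf g := by rw [hj]; exact dvd_pow_self _ hj0
  have hin : ¬ inKK K g := by
    rintro ⟨x, hx⟩
    have hd : orderOf (x * g * x⁻¹) ∣ Nat.card K := by
      have := orderOf_dvd_natCard (⟨_, hx⟩ : K)
      rwa [← Subgroup.orderOf_coe] at this
    rw [orderOf_conj'] at hd
    have hpk : p ∣ Nat.card K := hpg'.trans hd
    have h2 : p ∣ 2 * Nat.card K := Dvd.dvd.mul_left hpk 2
    have h3 : p ∣ 1 := by
      have : 2 * Nat.card K = (2 * Nat.card K - 1) + 1 := by omega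
      rw [this] at h2
      exact (Nat.dvd_add_right hpq).1 h2
    exact hp.one_lt.ne' (Nat.dvd_one.1 h3)
  refine ⟨hin, ?_⟩
  by_contra hps
  have hR : RT K g := ⟨hin, hps⟩
  have hd : orderOf g ∣ Nat.card (C g) := by
    have := orderOf_dvd_natCard (⟨g, H74BSWMinusD.self_mem_C g⟩ : C g)
    rwa [← Subgroup.orderOf_coe] at this
  rw [(H74BSWMinusD.minus_card h hM hR).1] at hd
  have hpk : p ∣ Nat.card K - 1 := hpg'.trans hd
  have h2 : p ∣ 2 * (Nat.card K - 1) := Dvd.dvd.mul_left hpk 2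
  have h3 : p ∣ 1 := by
    have : 2 * Nat.card K - 1 = 2 * (Nat.card K - 1) + 1 := by omega
    rw [this] at hpq
    exact (Nat.dvd_add_right h2).1 hpq
  exact hp.one_lt.ne' (Nat.dvd_one.1 h3)

end Cfsg.Agent.Lib.H74BSWMinusN
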