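import Cfsg.Agent.Lib.H74BSWMinusD

/-! PROJECT 74 (BSW), piece `MinusO` (1.5 h): the minus case, elements of odd order normalising.
`z ≠ 1` is not of type `NN`: either `x z x⁻¹ ∈ K` or `RT K z`.
First case: `A = x⁻¹ K x` (`cj x⁻¹ K`; use `Conj.bsw_conj h x⁻¹`): abelian; `y` commuting with `z` lies in `C (x⁻¹ t x)` (`Basic.cent_le`), and is not an involution, so `y ∈ A` (`Basic.out_invol`); `n a n⁻¹ ∈ A` gives `n ∈ C (x⁻¹ t x)` (`Basic.ti`), odd order, so `n ∈ A`.
Second case: `A = C z`: abelian (`RT1.rt_comm`); `n a n⁻¹ ∈ A` gives `n ∈ N(A)` (`RT1.rt_ti`), `|N(A) : A| = 2` (`MinusD.minus_card`), `A` normal in `N(A)`, so `n * n ∈ A`, and `n` is a power of `n * n` as its order is odd. -/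

set_option autoImplicit false

namespace Cfsg.Agent.Lib.H74BSWMinusO

open Cfsg.Agent.Lib.Helper74BSWDefs

variable {G : Type*} [Group G] [Finite G] {t s : G} {K : Subgroup G}

omit [Finite G] in
/-- an element of odd order is a power of its square -/
theorem mem_of_sq_mem (A : Subgroup G) {n : G} (hn : Odd (orderOf n)) (h2 : n * n ∈ A) : n ∈ A := by
  obtain ⟨m, hm⟩ := hn
  have h1 : n = (n * n) ^ (m + 1) := by
    rw [← pow_two, ← pow_mul]
    have : 2 * (m + 1) = orderOf n + 1 := by omega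
    rw [this, pow_succ, pow_orderOf_eq_one, one_mul]
  rw [h1]
  exact A.pow_mem h2 _

omit [Finite G] in
/-- the first case, for `K` itself -/
theorem odd_norm_K (h : BSW t s K) {z : G} (hz1 : z ≠ 1) (hz : z ∈ K) :
      (∀ y : G, y * z = z * y → Odd (orderOf y) → y ∈ K) ∧
      (∀ n a : G, a ∈ K → a ≠ 1 → n * a * n⁻¹ ∈ K → Odd (orderOf n) → n ∈ K) := by
  have key : ∀ y : G, y ∈ C t → Odd (orderOf y) → y ∈ K := by
    intro y hy ho
    by_contra hyK
    have h3 := (H74BSWBasic.out_invol h hy hyK).1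
    rw [h3] at ho
    exact absurd ho (by decide)
  constructor
  · intro y hy ho
    exact key y (H74BSWBasic.cent_le h hz hz1 (H74BSWConj.mem_C.2 hy)) ho
  · intro n a ha ha1 hn ho
    exact key n (H74BSWBasic.ti h ha ha1 hn) ho

theorem odd_norm (h : BSW t s K) (hM : MinusCase K) {z : G} (hz1 : z ≠ 1) (hz : ¬ NN K z) :
    ∃ A : Subgroup G, z ∈ A ∧ (∀ a ∈ A, ∀ b ∈ A, a * b = b * a) ∧
      (∀ y : G, y * z = z * y → Odd (orderOf y) → y ∈ A) ∧
      (∀ n a : G, a ∈ A → a ≠ 1 → n * a * n⁻¹ ∈ A → Odd (orderOf n) → n ∈ A) ∧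
      (RT K z → A = C z) := by
  by_cases hin : inKK K z
  · obtain ⟨x, hx⟩ := hin
    have h' := H74BSWConj.bsw_conj h x⁻¹
    have hzA : z ∈ cj x⁻¹ K := by
      rw [H74BSWConj.mem_cj, inv_inv]; exact hx
    obtain ⟨h1, h2⟩ := odd_norm_K h' hz1 hzA
    exact ⟨cj x⁻¹ K, hzA, h'.hab, h1, h2, fun hRT => absurd ⟨x, hx⟩ hRT.1⟩
  · have hRT : RT K z := by
      refine ⟨hin, fun h0 => hz ⟨hin, h0⟩⟩
    refine ⟨C z, H74BSWMinusD.self_mem_C z, H74BSWRT1.rt_comm h hRT, ?_, ?_, fun _ => rfl⟩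
    · intro y hy _
      exact H74BSWConj.mem_C.2 hy
    · intro n a ha ha1 hn ho
      have hnN : n ∈ Nm (C z) := H74BSWRT1.rt_ti h hRT ha ha1 hn
      obtain ⟨hc1, hc2⟩ := H74BSWMinusD.minus_card h hM hRT
      apply mem_of_sq_mem _ ho
      have hidx : ((C z).subgroupOf (Nm (C z))).index = 2 := by
        have h3 := Subgroup.card_mul_index ((C z).subgroupOf (Nm (C z)))
        have h4 : Nat.card ((C z).subgroupOf (Nm (C z))) = Nat.card (C z) := by
          exact Nat.card_congr (Subgroup.subgroupOfEquivOfLe Subgroup.le_normalizer).toEquiv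
        rw [h4, hc1, hc2] at h3
        have hpos : 0 < Nat.card K - 1 := by
          rw [← hc1]; exact Nat.card_pos
        have h5 : (Nat.card K - 1) * ((C z).subgroupOf (Nm (C z))).index = (Nat.card K - 1) * 2 := by
          rw [h3]; ring
        exact Nat.eq_of_mul_eq_mul_left hpos h5
      have h6 := Subgroup.mul_self_mem_of_index_two hidx (⟨n, hnN⟩ : Nm (C z))
      simpa [Subgroup.mem_subgroupOf] using h6

/-- consequence: the hypothesis of `BI.BI` for subgroups without involutions.  `R ≠ 1`: take `1 ≠ z ∈ Z(R)`; it has order a power of `r`, so it is not of type `NN` by `hp`; `A` from `odd_norm`; `R ≤ A` (elements commute with `z`, odd order); `n z n⁻¹ ∈ R ≤ A`, so `n ∈ A`, which is abelian. -/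
theorem bi_hyp (h : BSW t s K) (hM : MinusCase K) (p : ℕ) (hp : ∀ y : G, NN K y → orderOf y = p)
    (L : Subgroup G) (hL : ∀ n ∈ L, Odd (orderOf n)) :
    ∀ r : ℕ, r.Prime → r ≠ p → ∀ R : Subgroup G, R ≤ L → IsPGroup r R →
      ∀ n ∈ L, (∀ y ∈ R, n * y * n⁻¹ ∈ R) → ∀ y ∈ R, n * y = y * n := by
  intro r hr hrp R hRL hR n hn hnR y hy
  by_cases hy1 : y = 1
  · subst hy1; simp
  have : Fact r.Prime := ⟨hr⟩
  have hnt : Nontrivial R := ⟨⟨⟨y, hy⟩, 1, fun hh => hy1 (by simpa using congrArg Subtype.val hh)⟩⟩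
  have hcn : Nontrivial (Subgroup.center R) := hR.center_nontrivial
  obtain ⟨⟨⟨z, hzR⟩, hzc⟩, hz1⟩ := exists_ne (1 : Subgroup.center R)
  have hz1' : z ≠ 1 := by
    intro hh
    apply hz1
    ext
    exact hh
  have hzNN : ¬ NN K z := by
    intro hNN
    have h1 := hp z hNN
    obtain ⟨j, hj⟩ := hR ⟨z, hzR⟩
    have h2 : z ^ r ^ j = 1 := by simpa using congrArg Subtype.val hj
    have h3 : p ∣ r ^ j := by
      rw [← h1]; exact orderOf_dvd_of_pow_eq_one h2
    obtain ⟨i, _, hi⟩ := (Nat.dvd_prime_pow hr).1 h3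
    have hp1 : p ≠ 1 := by
      intro hh
      rw [hh, orderOf_eq_one_iff] at h1
      exact hz1' h1
    have hi0 : i ≠ 0 := by
      rintro rfl
      exact hp1 (by simpa using hi)
    have hrd : r ∣ orderOf z := by
      rw [h1, hi]; exact dvd_pow_self r hi0
    have hzr1 : z ^ r ≠ 1 := by
      intro hh
      have h4 : p ∣ r := by
        rw [← h1]; exact orderOf_dvd_of_pow_eq_one hh
      rcases (Nat.dvd_prime hr).1 h4 with h5 | h5
      · exact hp1 h5
      · exact hrp h5.symm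
    have hzrC : z ^ r ∈ C z := (C z).pow_mem (H74BSWMinusD.self_mem_C z) r
    have hzr : NN K (z ^ r) := by
      have h6 : ¬ inKK K (z ^ r) := H74BSWEl.el1 h hNN.1 hzrC hzr1
      refine ⟨h6, ?_⟩
      by_contra h7
      have hRT : RT K (z ^ r) := ⟨h6, h7⟩
      have hzC : z ∈ C (z ^ r) := by
        rw [H74BSWConj.mem_C]
        rw [← pow_succ', ← pow_succ]
      exact (H74BSWRT1.rt_cent h hRT hzC hz1').2.2 hNN.2
    have h8 := hp _ hzr
    rw [orderOf_pow_of_dvd hr.ne_zero hrd, h1] at h8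
    have hp0 : 0 < p := by
      rw [← h1]; exact orderOf_pos z
    exact absurd h8 (Nat.div_lt_self hp0 hr.one_lt).ne
  obtain ⟨A, hzA, hab, hA1, hA2, -⟩ := odd_norm h hM hz1' hzNN
  have hRA : R ≤ A := by
    intro w hw
    refine hA1 w ?_ (hL w (hRL hw))
    have := Subgroup.mem_center_iff.1 hzc ⟨w, hw⟩
    simpa using congrArg Subtype.val this
  have hnA : n ∈ A := hA2 n z hzA hz1' (hRA (hnR z hzR)) (hL n hn)
  exact hab n hnA y (hRA hy)

end Cfsg.Agent.Lib.H74BSWMinusO
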