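import Mathlib

/-! PROJECT 74 (BSW), piece `TIp` (2 h, PURE Sylow theory).
Suppose not; choose Sylow `p`-subgroups `P1 ≠ P2` with `T = P1 ⊓ P2 ≠ 1` of maximal order.  `T < P1`, `T < P2`, so `T < N_{P1}(T)`, `T < N_{P2}(T)` (normalisers grow in `p`-groups).  Both are `p`-subgroups of `N(T)`, so they lie in `S`, and `S ≤ P3` for a Sylow `p`-subgroup `P3`.
`T < N_{P1}(T) ≤ P1 ⊓ P3` forces `P3 = P1` by maximality; in the same way `P3 = P2`. -/

set_option autoImplicit false

namespace Cfsg.Agent.Lib.H74BSWTIp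

/-- normalisers grow in `p`-groups -/
theorem lt_inf_normalizer {G : Type*} [Group G] [Finite G] (p : ℕ) [Fact p.Prime]
    (P : Subgroup G) (hP : IsPGroup p P) (T : Subgroup G) (hT : T < P) :
    T < P ⊓ Subgroup.normalizer (T : Set G) := by
  have hnil : Group.IsNilpotent P := hP.isNilpotent
  have hlt : T.subgroupOf P < ⊤ := by
    rw [lt_top_iff_ne_top, Ne, Subgroup.subgroupOf_eq_top]
    exact hT.not_ge
  have h1 := Group.normalizerCondition_of_isNilpotent (G := P) (T.subgroupOf P) hlt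
  rw [← Subgroup.subgroupOf_normalizer_eq hT.le] at h1
  obtain ⟨x, hxN, hxT⟩ := SetLike.exists_of_lt h1
  refine lt_of_le_of_ne (le_inf hT.le Subgroup.le_normalizer) ?_
  intro h
  apply hxT
  rw [Subgroup.mem_subgroupOf] at hxN ⊢
  rw [h]
  exact ⟨x.2, hxN⟩

theorem ti_aux {G : Type*} [Group G] [Finite G] (p : ℕ) [Fact p.Prime]
    (h : ∀ T : Subgroup G, IsPGroup p T → T ≠ ⊥ → ∃ S : Subgroup G, IsPGroup p S ∧
      ∀ R : Subgroup G, IsPGroup p R → R ≤ Subgroup.normalizer (T : Set G) → R ≤ S) (m : ℕ) :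
    ∀ P1 P2 : Sylow p G, P1 ≠ P2 →
      Nat.card G - Nat.card ↥((P1 : Subgroup G) ⊓ (P2 : Subgroup G)) = m →
      (P1 : Subgroup G) ⊓ (P2 : Subgroup G) = ⊥ := by
  induction m using Nat.strong_induction_on with
  | _ m ih =>
    intro P1 P2 hne hm
    by_contra hT0
    set T : Subgroup G := (P1 : Subgroup G) ⊓ (P2 : Subgroup G) with hTdef
    have hTp : IsPGroup p T := P1.isPGroup'.to_le inf_le_left
    obtain ⟨S, hSp, hS⟩ := h T hTp hT0
    obtain ⟨P3, hSP3⟩ := hSp.exists_le_sylow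
    have hcardle : ∀ A : Subgroup G, Nat.card A ≤ Nat.card G := fun A => Subgroup.card_le_card_group A
    -- general step
    have step : ∀ P : Sylow p G, T < (P : Subgroup G) → P3 = P := by
      intro P hTP
      by_contra hP3
      have h1 := lt_inf_normalizer p P P.isPGroup' T hTP
      have h2 : (P : Subgroup G) ⊓ Subgroup.normalizer (T : Set G) ≤ S :=
        hS _ (P.isPGroup'.to_le inf_le_left) inf_le_right
      have h3 : (P : Subgroup G) ⊓ Subgroup.normalizer (T : Set G) ≤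
          (P3 : Subgroup G) ⊓ (P : Subgroup G) := le_inf (h2.trans hSP3) inf_le_left
      have h4 : T < (P3 : Subgroup G) ⊓ (P : Subgroup G) := lt_of_lt_of_le h1 h3
      have h5 : Nat.card T < Nat.card ↥((P3 : Subgroup G) ⊓ (P : Subgroup G)) :=
        Set.ncard_lt_ncard (s := (T : Set G))
          (t := (((P3 : Subgroup G) ⊓ (P : Subgroup G) : Subgroup G) : Set G))
          (SetLike.coe_ssubset_coe.2 h4) (Set.toFinite _)
      have h6 := ih (Nat.card G - Nat.card ↥((P3 : Subgroup G) ⊓ (P : Subgroup G)))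
        (by have := hcardle ((P3 : Subgroup G) ⊓ (P : Subgroup G)); omega) P3 P hP3 rfl
      rw [h6] at h4
      exact not_lt_bot h4
    have hlt1 : T < (P1 : Subgroup G) := by
      refine lt_of_le_of_ne inf_le_left fun h0 => hne ?_
      have hle : (P1 : Subgroup G) ≤ P2 := h0 ▸ inf_le_right
      exact Sylow.ext (P1.is_maximal' P2.isPGroup' hle).symm
    have hlt2 : T < (P2 : Subgroup G) := by
      refine lt_of_le_of_ne inf_le_right fun h0 => hne ?_
      have hle : (P2 : Subgroup G) ≤ P1 := h0 ▸ inf_le_left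
      exact Sylow.ext (P2.is_maximal' P1.isPGroup' hle)
    exact hne ((step P1 hlt1).symm.trans (step P2 hlt2))

theorem ti_of_closed {G : Type*} [Group G] [Finite G] (p : ℕ) [Fact p.Prime]
    (h : ∀ T : Subgroup G, IsPGroup p T → T ≠ ⊥ → ∃ S : Subgroup G, IsPGroup p S ∧
      ∀ R : Subgroup G, IsPGroup p R → R ≤ Subgroup.normalizer (T : Set G) → R ≤ S) :
    ∀ P1 P2 : Sylow p G, P1 ≠ P2 → (P1 : Subgroup G) ⊓ (P2 : Subgroup G) = ⊥ :=
  fun P1 P2 hne => ti_aux p h _ P1 P2 hne rfl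

end Cfsg.Agent.Lib.H74BSWTIp
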