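import Cfsg.Agent.Lib.H74BSWMinusN
import Cfsg.Agent.Lib.H74BSWMinusO
import Cfsg.Agent.Lib.H74BSWBI
import Cfsg.Agent.Lib.H74BSWTIp

/-! PROJECT 74 (BSW), piece `MinusT` (2.5 h): the minus case, the centralisers of the elements of type `NN` are T.I.
`p, n` from `MinusN.nn_prime`.  `closed`: let `T ≠ 1` be a `p`-subgroup, `L = N(T)`.  `L` has no involution `u`: the elements of `T \ 1` are of type `NN`, so they do not commute with `u` (`Conj.inKK_invol_cent`); by `Inv.inverts` `u` inverts `T`, so `psi y ≠ 0` for `1 ≠ y ∈ T` (`El.psi_ne_zero_iff`): contradiction.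
Hence all elements of `L` have odd order; `MinusO.bi_hyp` and `BI.BI` give `S`.
`TIp.ti_of_closed`: the Sylow `p`-subgroups of `G` are T.I.  `C y` has order `q = p^n` (`nn_card`), and `|G| = 2k(k-1) q` with `p ∤ 2k(k-1)`: `C y` is (the carrier of) a Sylow `p`-subgroup, and so is `C z` (`nn_cent`); both contain `z ≠ 1`, so they are equal. -/

set_option autoImplicit false

namespace Cfsg.Agent.Lib.H74BSWMinusT

open Cfsg.Agent.Lib.Helper74BSWDefs

variable {G : Type*} [Group G] [Finite G] {t s : G} {K : Subgroup G}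

theorem odd_normT (h : BSW t s K) (p : ℕ) (hp : p.Prime)
    (hp2 : ∀ g : G, g ≠ 1 → (∃ j : ℕ, orderOf g = p ^ j) → NN K g)
    (T : Subgroup G) (hT : IsPGroup p T) (hT1 : T ≠ ⊥) : ∀ n ∈ Nm T, Odd (orderOf n) := by
  intro n hn
  have : Fact p.Prime := ⟨hp⟩
  by_contra hodd
  rw [Nat.not_odd_iff_even] at hodd
  have h2 : 2 ∣ orderOf n := hodd.two_dvd
  set u := n ^ (orderOf n / 2) with hu
  have huo : orderOf u = 2 := orderOf_pow_orderOf_div (orderOf_pos n).ne' h2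
  have huN : u ∈ Nm T := pow_mem hn _
  have huu : u * u = 1 := by rw [← pow_two, ← huo, pow_orderOf_eq_one]
  have hTN : ∀ y ∈ T, y ≠ 1 → NN K y := by
    intro y hy hy1
    apply hp2 y hy1
    obtain ⟨j, hj⟩ := (IsPGroup.iff_orderOf.1 hT) ⟨y, hy⟩
    exact ⟨j, by rw [← hj, Subgroup.orderOf_mk]⟩
  have hN : ∀ y ∈ T, u * y * u⁻¹ ∈ T := fun y hy => (Subgroup.mem_normalizer_iff.1 huN y).1 hy
  have hfix : ∀ y ∈ T, u * y * u⁻¹ = y → y = 1 := by
    intro y hy hyu
    by_contra hy1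
    have hc : y * u = u * y := (mul_inv_eq_iff_eq_mul.1 hyu).symm
    exact (hTN y hy hy1).1 (H74BSWConj.inKK_invol_cent h huo hc)
  have hinv := H74BSWInv.inverts T u huu hN hfix
  obtain ⟨y, hy, hy1⟩ := (Subgroup.ne_bot_iff_exists_ne_one.1 hT1 : ∃ a : T, a ≠ 1) |>.elim
    (fun a ha => (⟨a.1, a.2, fun h1 => ha (Subtype.ext h1)⟩ : ∃ y : G, y ∈ T ∧ y ≠ 1))
  have hyN := hTN y hy hy1
  exact ((H74BSWEl.psi_ne_zero_iff (H74BSWEl.odd_order h hyN.1) hy1).2 ⟨u, huo, hinv y hy⟩) hyN.2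

theorem closed (h : BSW t s K) (hM : MinusCase K) (p : ℕ) (hp : p.Prime)
    (hp1 : ∀ y : G, NN K y → orderOf y = p) (hp2 : ∀ g : G, g ≠ 1 → (∃ j : ℕ, orderOf g = p ^ j) → NN K g)
    (T : Subgroup G) (hT : IsPGroup p T) (hT1 : T ≠ ⊥) :
    ∃ S : Subgroup G, IsPGroup p S ∧ ∀ R : Subgroup G, IsPGroup p R → R ≤ Nm T → R ≤ S := by
  have hL := odd_normT h p hp hp2 T hT hT1
  obtain ⟨S, _, hS2, _, hS4⟩ := H74BSWBI.BI p hp (Nm T) (H74BSWMinusO.bi_hyp h hM p hp1 (Nm T) hL)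
  exact ⟨S, hS2, hS4⟩

theorem sylow_of_NN (h : BSW t s K) (hM : MinusCase K) (p n : ℕ) [Fact p.Prime]
    (hq : 2 * Nat.card K - 1 = p ^ n) {y : G} (hy : NN K y) :
    ∃ P : Sylow p G, (P : Subgroup G) = C y := by
  have hp : p.Prime := Fact.out
  have hcard := H74BSWMinusN.nn_card h hM hy
  have hk := H74BSWBasic.two_le_K h
  have hpg : IsPGroup p (C y) := IsPGroup.of_card (hcard.trans hq)
  have hpq : p ∣ 2 * Nat.card K - 1 := by
    rw [hq]
    apply dvd_pow_self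
    rintro rfl
    rw [pow_zero] at hq
    omega
  have hidx : (C y).index = 2 * Nat.card K * (Nat.card K - 1) := by
    have h1 := Subgroup.card_mul_index (C y)
    rw [hcard, hM.1] at h1
    have h2 : (2 * Nat.card K - 1) * (C y).index
        = (2 * Nat.card K - 1) * (2 * Nat.card K * (Nat.card K - 1)) := by rw [h1]; ring
    exact Nat.eq_of_mul_eq_mul_left (by omega) h2
  have hnd : ¬ p ∣ (C y).index := by
    rw [hidx]
    intro hd
    rcases (Nat.Prime.dvd_mul hp).1 hd with h2 | hpk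
    · have h3 : p ∣ 1 := by
        have : 2 * Nat.card K = (2 * Nat.card K - 1) + 1 := by omega
        rw [this] at h2
        exact (Nat.dvd_add_right hpq).1 h2
      exact hp.one_lt.ne' (Nat.dvd_one.1 h3)
    · have h2 : p ∣ 2 * (Nat.card K - 1) := Dvd.dvd.mul_left hpk 2
      have h3 : p ∣ 1 := by
        have : 2 * Nat.card K - 1 = 2 * (Nat.card K - 1) + 1 := by omega
        rw [this] at hpq
        exact (Nat.dvd_add_right h2).1 hpq
      exact hp.one_lt.ne' (Nat.dvd_one.1 h3)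
  exact ⟨hpg.toSylow hnd, IsPGroup.toSylow_coe hpg hnd⟩

theorem nn_cent_eq (h : BSW t s K) (hM : MinusCase K) {y z : G} (hy : NN K y) (hz : z ∈ C y) (hz1 : z ≠ 1) :
    C z = C y := by
  obtain ⟨p, n, hp, hq, hp1, hp2⟩ := H74BSWMinusN.nn_prime h hM
  have : Fact p.Prime := ⟨hp⟩
  have hti := H74BSWTIp.ti_of_closed (G := G) p (fun T hT hT1 => closed h hM p hp hp1 hp2 T hT hT1)
  have hzN := H74BSWMinusN.nn_cent h hy hz hz1
  obtain ⟨P1, hP1⟩ := sylow_of_NN h hM p n hq hy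
  obtain ⟨P2, hP2⟩ := sylow_of_NN h hM p n hq hzN
  by_cases hne : P1 = P2
  · rw [← hP1, ← hP2, hne]
  · exfalso
    have h1 := hti P1 P2 hne
    have h2 : z ∈ (P1 : Subgroup G) ⊓ (P2 : Subgroup G) := by
      rw [hP1, hP2]
      exact ⟨hz, H74BSWMinusD.self_mem_C z⟩
    rw [h1, Subgroup.mem_bot] at h2
    exact hz1 h2

end Cfsg.Agent.Lib.H74BSWMinusT
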