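import Cfsg.Agent.Lib.H74BSWDual
import Cfsg.Agent.Lib.Helper4Char2
import Cfsg.Agent.Lib.Helper4Char4
import Cfsg.Agent.Lib.Helper19Lin

/-! PROJECT 74 (BSW), piece `Mult` (1.5 h): `cc K χ φ = ⟨χ|_K, 1⟩ - ⟨χ|_K, φ⟩` (`classInner` on the group `K`).
`cc_int`: `χ|_K` is a character (`Helper4Char4.IsCharacter.restrict` or `IsCharacter.comp`), `Helper19Lin.homFun φ` is an irreducible character of `K` (`isIrrCharacter_homFun`), and the inner product of a character with an irreducible character is a natural number (search the libs: e.g. `Helper82*`, `Helper19*`, `exists_mult`).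
`cc_triv`: `Dual.orth'`.  `cc_inv`: reindex the sum by `x ↦ x⁻¹`; `χ x⁻¹ = χ (s x s⁻¹) = χ x`; `φ⁻¹ x⁻¹ = φ x`.
`val`, `deg`: Fourier inversion.  `∑_φ cc f φ * φ x = m₁ ∑_φ φ x - (1/k) ∑_y f y ∑_φ φ (y⁻¹ x)`, with `conj (φ y) = φ y⁻¹` (roots of unity) and `Dual.orth`; `m₁ = ⟨χ|_K, 1⟩` is a natural number. -/

set_option autoImplicit false

namespace Cfsg.Agent.Lib.H74BSWMult

open Cfsg Cfsg.Agent.Lib.Helper74BSWDefs
open scoped ComplexConjugate Classical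

variable {G : Type*} [Group G] [Fintype G] {t s : G} {K : Subgroup G} [Fintype K]

omit [Fintype G] in
theorem cc_eq (χ : G → ℂ) (φ : K →* ℂˣ) :
    cc K χ φ = classInner (fun x : K => χ x) (Cfsg.Agent.Lib.Helper19Lin.homFun (1 : K →* ℂˣ)) -
      classInner (fun x : K => χ x) (Cfsg.Agent.Lib.Helper19Lin.homFun φ) := by
  unfold cc classInner
  rw [← mul_sub, ← Finset.sum_sub_distrib]
  congr 1
  apply Finset.sum_congr rfl
  intro x _
  simp [Cfsg.Agent.Lib.Helper19Lin.homFun_apply, mul_sub]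

omit [Fintype G] in
theorem inner_one_nat {χ : G → ℂ} (hχ : IsCharacter G χ) (φ : K →* ℂˣ) :
    ∃ n : ℕ, classInner (fun x : K => χ x) (Cfsg.Agent.Lib.Helper19Lin.homFun φ) = n :=
  Cfsg.Agent.Lib.Helper4Char4.IsCharacter.classInner_nat
    (Cfsg.Agent.Lib.Helper4Char4.IsCharacter.restrict K hχ)
    (Cfsg.Agent.Lib.Helper19Lin.isCharacter_homFun φ)

theorem cc_int {χ : G → ℂ} (hχ : IsCharacter G χ) (φ : K →* ℂˣ) : ∃ n : ℤ, cc K χ φ = n := by
  obtain ⟨a, ha⟩ := inner_one_nat (K := K) hχ 1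
  obtain ⟨b, hb⟩ := inner_one_nat (K := K) hχ φ
  refine ⟨(a : ℤ) - b, ?_⟩
  rw [cc_eq, ha, hb]
  push_cast
  ring

theorem cc_one (χ : G → ℂ) : cc K χ 1 = 0 := by
  unfold cc
  simp

omit [Fintype G] in
theorem card_ne_zero : (Nat.card K : ℂ) ≠ 0 := by
  exact_mod_cast (Nat.card_pos (α := K)).ne'

theorem cc_triv (φ : K →* ℂˣ) (hφ : φ ≠ 1) : cc K (fun _ => 1) φ = 1 := by
  unfold cc
  have h1 := Cfsg.Agent.Lib.H74BSWDual.orth' (G := G) φ
  rw [if_neg hφ] at h1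
  have h2 : ∑ x : K, conj ((φ x : ℂˣ) : ℂ) = 0 := by
    rw [← map_sum, h1, map_zero]
  simp only [one_mul]
  rw [Finset.sum_sub_distrib, h2, sub_zero, Finset.sum_const, Finset.card_univ, nsmul_eq_mul,
    mul_one, ← Nat.card_eq_fintype_card]
  exact inv_mul_cancel₀ card_ne_zero

omit [Fintype G] in
theorem conj_hom (φ : K →* ℂˣ) (y : K) : conj ((φ y : ℂˣ) : ℂ) = ((φ y⁻¹ : ℂˣ) : ℂ) := by
  have h1 : ((φ y : ℂˣ) : ℂ) ^ Fintype.card K = 1 := by
    rw [← Units.val_pow_eq_pow_val, ← map_pow, pow_card_eq_one, map_one]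
    rfl
  have h2 : ‖((φ y : ℂˣ) : ℂ)‖ = 1 :=
    Complex.norm_eq_one_of_pow_eq_one h1 Fintype.card_ne_zero
  rw [map_inv, Units.val_inv_eq_inv_val, Complex.inv_eq_conj h2]

theorem cc_inv (h : BSW t s K) {χ : G → ℂ} (hχ : IsClassFunction G χ) (φ : K →* ℂˣ) :
    cc K χ φ⁻¹ = cc K χ φ := by
  unfold cc
  congr 1
  apply Fintype.sum_equiv (Equiv.inv K)
  intro x
  have h1 : χ ((x⁻¹ : K) : G) = χ x := by
    have := h.hinv x x.2
    rw [Subgroup.coe_inv, ← this]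
    exact hχ _ _
  simp only [Equiv.inv_apply]
  rw [h1]
  simp

/-- Fourier inversion -/
theorem fourier (h : BSW t s K) (f : G → ℂ) (x : K) :
    ∑ φ : K →* ℂˣ, cc K f φ * ((φ x : ℂˣ) : ℂ) =
      (if x = 1 then ∑ y : K, f y else 0) - f x := by
  unfold cc
  have hk := card_ne_zero (K := K)
  have e1 : ∀ φ : K →* ℂˣ, (Nat.card K : ℂ)⁻¹ * (∑ y : K, f y * (1 - conj ((φ y : ℂˣ) : ℂ))) *
      ((φ x : ℂˣ) : ℂ) = (Nat.card K : ℂ)⁻¹ * ∑ y : K, f y *
        (((φ x : ℂˣ) : ℂ) - ((φ (y⁻¹ * x) : ℂˣ) : ℂ)) := by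
    intro φ
    rw [mul_assoc, Finset.sum_mul]
    congr 1
    apply Finset.sum_congr rfl
    intro y _
    rw [conj_hom, map_mul, Units.val_mul]
    ring
  rw [Finset.sum_congr rfl (fun φ _ => e1 φ), ← Finset.mul_sum, Finset.sum_comm]
  have e2 : ∀ y : K, ∑ φ : K →* ℂˣ, f y * (((φ x : ℂˣ) : ℂ) - ((φ (y⁻¹ * x) : ℂˣ) : ℂ)) =
      f y * ((if x = 1 then (Nat.card K : ℂ) else 0) - (if y = x then (Nat.card K : ℂ) else 0)) := by
    intro y
    rw [← Finset.mul_sum, Finset.sum_sub_distrib, Cfsg.Agent.Lib.H74BSWDual.orth h,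
      Cfsg.Agent.Lib.H74BSWDual.orth h]
    congr 2
    have : (y⁻¹ * x = 1) ↔ (y = x) := by
      rw [inv_mul_eq_one]
    simp only [this]
  rw [Finset.sum_congr rfl (fun y _ => e2 y)]
  simp only [mul_sub, Finset.sum_sub_distrib]
  congr 1
  · split_ifs with hx
    · rw [← Finset.sum_mul, mul_comm, mul_assoc, mul_inv_cancel₀ hk, mul_one]
    · simp
  · rw [Finset.sum_eq_single x]
    · rw [if_pos rfl, mul_comm, mul_assoc, mul_inv_cancel₀ hk, mul_one]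
    · intro y _ hy
      rw [if_neg hy, mul_zero]
    · intro hx
      exact absurd (Finset.mem_univ x) hx

theorem val (h : BSW t s K) (f : G → ℂ) {x : G} (hx : x ∈ K) (hx1 : x ≠ 1) :
    f x = - ∑ φ : K →* ℂˣ, cc K f φ * ((φ ⟨x, hx⟩ : ℂˣ) : ℂ) := by
  rw [fourier h f ⟨x, hx⟩, if_neg (fun e => hx1 (congrArg Subtype.val e))]
  simp

theorem deg (h : BSW t s K) {χ : G → ℂ} (hχ : IsCharacter G χ) :
    ∃ m : ℤ, χ 1 = (Nat.card K : ℂ) * m - ∑ φ : K →* ℂˣ, cc K χ φ := by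
  obtain ⟨a, ha⟩ := inner_one_nat (K := K) hχ 1
  refine ⟨a, ?_⟩
  have h1 := fourier h χ (1 : K)
  rw [if_pos rfl] at h1
  simp only [map_one, Units.val_one, mul_one, Subgroup.coe_one] at h1
  rw [h1]
  unfold classInner at ha
  have hk := card_ne_zero (K := K)
  have h2 : ∑ y : K, χ y = (Nat.card K : ℂ) * a := by
    rw [← ha, ← mul_assoc, mul_inv_cancel₀ hk, one_mul]
    apply Finset.sum_congr rfl
    intro y _
    simp [Cfsg.Agent.Lib.Helper19Lin.homFun_apply]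
  rw [h2]
  push_cast
  ring

end Cfsg.Agent.Lib.H74BSWMult
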