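import Cfsg.Agent.Lib.H74BSWPlusV
import Cfsg.Agent.Lib.H74BSWSum

/-! PROJECT 74 (BSW), piece `PlusC` (2.5 h): the plus case, counting.
`nI = (2k+1)(k+1)` (`Sum.nI_mul`).  Let `R` = the elements outside the conjugates of `K`; on `R`, `psi g = |C g| ∈ {k+1, 2k+1, (k+1)(2k+1)}` (`PlusV.plus_vals`, `RT1.rt_psi`); let `ρ1, ρ2, ρ3` be the numbers of `g ∈ R` with these values.
`Sum.card_out`: `ρ1 + ρ2 + ρ3 = |G| - 1 - nI (k-1) = k (2k² + 5k + 4)`.  `Sum.sum_out`: `(k+1) ρ1 + (2k+1) ρ2 + (k+1)(2k+1) ρ3 = nI (nI - 1 - k(k-1)) = k (k+4)(2k+1)(k+1)`.  Eliminating `ρ1`: `ρ2 + 2(k+1) ρ3 = 4k(k+1)`  (`count_arith`).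
If `ρ3 > 0`: for such a `g`, `M = (k+1)(2k+1)`, `Many.many` + `Many.e_dvd` (`e ≤ k`): `ρ3 M k ≥ ρ3 |N(C g)| ≥ |G| (M - 1)`, so `ρ3 ≥ 2 (M - 1) = 2k(2k+3)`, `2(k+1)ρ3 > 4k(k+1)`: contradiction.  So `ρ3 = 0`, `ρ2 = 4k(k+1) > 0`; take `g` with `|C g| = 2k+1`:
`ρ2 (2k+1) e ≥ |G| 2k`, i.e. `4k(k+1)(2k+1) e ≥ 4k²(2k+1)(k+1)`: `e ≥ k`; with `e ∣ k`: `e = k`. -/

set_option autoImplicit false

namespace Cfsg.Agent.Lib.H74BSWPlusC

open Cfsg.Agent.Lib.Helper74BSWDefs

/-- pure arithmetic -/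
theorem count_arith (k r1 r2 r3 : ℕ) (h1 : r1 + r2 + r3 = k * (2 * k ^ 2 + 5 * k + 4))
    (h2 : (k + 1) * r1 + (2 * k + 1) * r2 + (k + 1) * (2 * k + 1) * r3 = k * (k + 4) * (2 * k + 1) * (k + 1))
    (hk : 0 < k) : r2 + 2 * (k + 1) * r3 = 4 * k * (k + 1) := by
  have h3 : k * (r2 + 2 * (k + 1) * r3) = k * (4 * k * (k + 1)) := by
    zify at h1 h2 ⊢
    linear_combination h2 - (k + 1) * h1
  exact Nat.eq_of_mul_eq_mul_left hk h3

theorem ar1 (k m r : ℕ) (hm : k = m + 1)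
    (hout : r + 1 + (2 * k + 1) * (k + 1) * m = 2 * k * (2 * k + 1) * (k + 1)) :
    r = k * (2 * k ^ 2 + 5 * k + 4) := by
  subst hm
  zify at hout ⊢
  linear_combination hout

theorem ar2 (k m r : ℕ) (hm : k = m + 1)
    (hsum : r + (2 * k + 1) * (k + 1) + (2 * k + 1) * (k + 1) * m * k = ((2 * k + 1) * (k + 1)) ^ 2) :
    r = k * (k + 4) * (2 * k + 1) * (k + 1) := by
  subst hm
  zify at hsum ⊢
  linear_combination hsum

variable {G : Type*} [Group G] [Finite G] {t s : G} {K : Subgroup G}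

theorem nI_eq (h : BSW t s K) (hP : PlusCase K) :
    nI G = (2 * Nat.card K + 1) * (Nat.card K + 1) := by
  cases nonempty_fintype G
  have h1 := H74BSWSum.nI_mul h
  rw [hP.1] at h1
  have hk := H74BSWBasic.two_le_K h
  have h2 : nI G * (2 * Nat.card K)
      = ((2 * Nat.card K + 1) * (Nat.card K + 1)) * (2 * Nat.card K) := by rw [h1]; ring
  exact Nat.eq_of_mul_eq_mul_right (by omega) h2

theorem plus_count (h : BSW t s K) (hP : PlusCase K) :
    ∃ g : G, RT K g ∧ Nat.card (C g) = 2 * Nat.card K + 1 ∧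
      Nat.card (Nm (C g)) = (2 * Nat.card K + 1) * Nat.card K := by
  classical
  cases nonempty_fintype G
  have hk := H74BSWBasic.two_le_K h
  have hnI := nI_eq h hP
  have hout := H74BSWSum.card_out h
  have hsum := H74BSWSum.sum_out h
  have hG := hP.1
  have hvals : ∀ g : G, ¬ inKK K g → RT K g ∧ (Nat.card (C g) = Nat.card K + 1 ∨
      Nat.card (C g) = 2 * Nat.card K + 1 ∨
      Nat.card (C g) = (Nat.card K + 1) * (2 * Nat.card K + 1)) :=
    fun g hg => H74BSWPlusV.plus_vals h hP hg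
  have hedvd : ∀ g : G, RT K g → ∃ e : ℕ, Nat.card (Nm (C g)) = Nat.card (C g) * e ∧
      e ∣ Nat.card K ∧ Even e := fun g hg => H74BSWMany.e_dvd h hg
  generalize Nat.card K = k at *
  set R1 : Finset G := Finset.univ.filter (fun g => ¬ inKK K g ∧ Nat.card (C g) = k + 1) with hR1
  set R2 : Finset G := Finset.univ.filter (fun g => ¬ inKK K g ∧ Nat.card (C g) = 2 * k + 1) with hR2
  set R3 : Finset G := Finset.univ.filter (fun g => ¬ inKK K g ∧ Nat.card (C g) = (k + 1) * (2 * k + 1))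
    with hR3
  have n12 : k + 1 ≠ 2 * k + 1 := by omega
  have n13 : k + 1 ≠ (k + 1) * (2 * k + 1) := by nlinarith
  have n23 : 2 * k + 1 ≠ (k + 1) * (2 * k + 1) := by nlinarith
  have key : ∀ g : G, (if inKK K g then 0 else 1)
        = (if ¬ inKK K g ∧ Nat.card (C g) = k + 1 then 1 else 0)
          + (if ¬ inKK K g ∧ Nat.card (C g) = 2 * k + 1 then 1 else 0)
          + (if ¬ inKK K g ∧ Nat.card (C g) = (k + 1) * (2 * k + 1) then 1 else 0) ∧
      (if inKK K g then 0 else psi g)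
        = (k + 1) * (if ¬ inKK K g ∧ Nat.card (C g) = k + 1 then 1 else 0)
          + (2 * k + 1) * (if ¬ inKK K g ∧ Nat.card (C g) = 2 * k + 1 then 1 else 0)
          + ((k + 1) * (2 * k + 1)) *
            (if ¬ inKK K g ∧ Nat.card (C g) = (k + 1) * (2 * k + 1) then 1 else 0) := by
    intro g
    by_cases hin : inKK K g
    · simp [hin]
    · obtain ⟨hRT, hv⟩ := hvals g hin
      have hps := H74BSWRT1.rt_psi h hRT
      rw [if_neg hin, if_neg hin, hps]
      generalize Nat.card (C g) = c at hv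
      rcases hv with rfl | rfl | rfl
      · rw [if_pos ⟨hin, rfl⟩, if_neg (fun hh => n12 hh.2), if_neg (fun hh => n13 hh.2)]
        simp
      · have f1 : ¬ (¬ inKK K g ∧ 2 * k + 1 = k + 1) := fun hh => n12 hh.2.symm
        have f2 : (¬ inKK K g ∧ 2 * k + 1 = 2 * k + 1) := ⟨hin, rfl⟩
        have f3 : ¬ (¬ inKK K g ∧ 2 * k + 1 = (k + 1) * (2 * k + 1)) := fun hh => n23 hh.2
        rw [if_neg f1, if_pos f2, if_neg f3]
        simp
      · have f1 : ¬ (¬ inKK K g ∧ (k + 1) * (2 * k + 1) = k + 1) := fun hh => n13 hh.2.symm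
        have f2 : ¬ (¬ inKK K g ∧ (k + 1) * (2 * k + 1) = 2 * k + 1) := fun hh => n23 hh.2.symm
        have f3 : (¬ inKK K g ∧ (k + 1) * (2 * k + 1) = (k + 1) * (2 * k + 1)) := ⟨hin, rfl⟩
        rw [if_neg f1, if_neg f2, if_pos f3]
        simp
  have hcard : Nat.card {g : G // ¬ inKK K g} = R1.card + R2.card + R3.card := by
    rw [Nat.card_eq_fintype_card, Fintype.card_subtype, Finset.card_filter]
    have : ∀ g : G, (if ¬ inKK K g then 1 else 0) = (if inKK K g then 0 else 1) := by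
      intro g; by_cases hin : inKK K g <;> simp [hin]
    rw [Finset.sum_congr rfl (fun g _ => (this g).trans (key g).1), Finset.sum_add_distrib,
      Finset.sum_add_distrib, ← Finset.card_filter, ← Finset.card_filter, ← Finset.card_filter]
  have hsum' : (∑ g : G, if inKK K g then 0 else psi g)
      = (k + 1) * R1.card + (2 * k + 1) * R2.card + (k + 1) * (2 * k + 1) * R3.card := by
    rw [Finset.sum_congr rfl (fun g _ => (key g).2), Finset.sum_add_distrib,
      Finset.sum_add_distrib, ← Finset.mul_sum, ← Finset.mul_sum, ← Finset.mul_sum,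
      ← Finset.card_filter, ← Finset.card_filter, ← Finset.card_filter]
  rw [hcard, hnI, hG] at hout
  rw [hsum', hnI] at hsum
  obtain ⟨m, hm⟩ : ∃ m, k = m + 1 := ⟨k - 1, by omega⟩
  have e1 : k - 1 = m := by omega
  rw [e1] at hout hsum
  have a1 : R1.card + R2.card + R3.card = k * (2 * k ^ 2 + 5 * k + 4) := ar1 k m _ hm hout
  have a2 : (k + 1) * R1.card + (2 * k + 1) * R2.card + (k + 1) * (2 * k + 1) * R3.card
      = k * (k + 4) * (2 * k + 1) * (k + 1) := ar2 k m _ hm hsum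
  have a3 := count_arith k _ _ _ a1 a2 (by omega)
  -- the number of elements with a given centraliser order
  have hmany : ∀ g : G, ¬ inKK K g → ∀ R : Finset G,
      R = Finset.univ.filter (fun g' => ¬ inKK K g' ∧ Nat.card (C g') = Nat.card (C g)) →
      ∃ e : ℕ, Nat.card (Nm (C g)) = Nat.card (C g) * e ∧ e ∣ k ∧
        Nat.card G * (Nat.card (C g) - 1) ≤ R.card * (Nat.card (C g) * e) := by
    intro g hin R hR
    have hRT := (hvals g hin).1
    obtain ⟨e, he1, he2, _⟩ := hedvd g hRT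
    refine ⟨e, he1, he2, ?_⟩
    have h1 := H74BSWMany.many h hRT
    rw [he1] at h1
    have h2 : Nat.card {g' : G // RT K g' ∧ Nat.card (C g') = Nat.card (C g)} = R.card := by
      rw [hR, Nat.card_eq_fintype_card, Fintype.card_subtype]
      congr 1
      ext g'
      simp only [Finset.mem_filter, Finset.mem_univ, true_and]
      constructor
      · rintro ⟨b1, b2⟩; exact ⟨b1.1, b2⟩
      · rintro ⟨b1, b2⟩; exact ⟨(hvals g' b1).1, b2⟩
    rwa [h2] at h1
  have hR30 : R3.card = 0 := by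
    by_contra hne
    obtain ⟨g, hg⟩ := Finset.card_pos.1 (Nat.pos_of_ne_zero hne)
    obtain ⟨hin, hc⟩ := (Finset.mem_filter.1 hg).2
    obtain ⟨e, _, he2, he3⟩ := hmany g hin R3 (by rw [hR3, hc])
    have hek : e ≤ k := Nat.le_of_dvd (by omega) he2
    rw [hc, hG] at he3
    have e2 : (k + 1) * (2 * k + 1) - 1 = 2 * k ^ 2 + 3 * k := by
      have : (k + 1) * (2 * k + 1) = 2 * k ^ 2 + 3 * k + 1 := by ring
      omega
    rw [e2] at he3
    have h4 : ((k + 1) * (2 * k + 1) * k) * (2 * (2 * k ^ 2 + 3 * k))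
        ≤ ((k + 1) * (2 * k + 1) * k) * R3.card := by
      calc ((k + 1) * (2 * k + 1) * k) * (2 * (2 * k ^ 2 + 3 * k))
          = 2 * k * (2 * k + 1) * (k + 1) * (2 * k ^ 2 + 3 * k) := by ring
        _ ≤ R3.card * ((k + 1) * (2 * k + 1) * e) := he3
        _ ≤ R3.card * ((k + 1) * (2 * k + 1) * k) := by gcongr
        _ = _ := by ring
    have h5 : 2 * (2 * k ^ 2 + 3 * k) ≤ R3.card := Nat.le_of_mul_le_mul_left h4 (by positivity)
    have h6 : 2 * (k + 1) * (2 * (2 * k ^ 2 + 3 * k)) ≤ 2 * (k + 1) * R3.card :=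
      Nat.mul_le_mul_left _ h5
    have h7 : 4 * k * (k + 1) < 2 * (k + 1) * (2 * (2 * k ^ 2 + 3 * k)) := by
      have h8 : 0 < 4 * k * (k + 1) := by positivity
      have h9 : 2 * (k + 1) * (2 * (2 * k ^ 2 + 3 * k)) = 4 * k * (k + 1) * (2 * k + 3) := by ring
      rw [h9]
      nlinarith
    omega
  rw [hR30, mul_zero, add_zero] at a3
  have hR2pos : 0 < R2.card := by rw [a3]; positivity
  obtain ⟨g, hg⟩ := Finset.card_pos.1 hR2pos
  obtain ⟨hin, hc⟩ := (Finset.mem_filter.1 hg).2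
  obtain ⟨e, he1, he2, he3⟩ := hmany g hin R2 (by rw [hR2, hc])
  have hek : e ≤ k := Nat.le_of_dvd (by omega) he2
  rw [hc, hG, a3] at he3
  have e2 : 2 * k + 1 - 1 = 2 * k := by omega
  rw [e2] at he3
  have h4 : (4 * k * (k + 1) * (2 * k + 1)) * k ≤ (4 * k * (k + 1) * (2 * k + 1)) * e := by
    calc (4 * k * (k + 1) * (2 * k + 1)) * k = 2 * k * (2 * k + 1) * (k + 1) * (2 * k) := by ring
      _ ≤ 4 * k * (k + 1) * ((2 * k + 1) * e) := he3
      _ = _ := by ring
  have h5 : k ≤ e := Nat.le_of_mul_le_mul_left h4 (by positivity)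
  have hee : e = k := le_antisymm hek h5
  refine ⟨g, (hvals g hin).1, hc, ?_⟩
  rw [he1, hc, hee]

end Cfsg.Agent.Lib.H74BSWPlusC
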