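import Cfsg.Agent.Lib.H74BSWMany

/-! PROJECT 74 (BSW), piece `PlusV` (1.5 h): the plus case, possible centraliser orders.
`g` outside the conjugates of `K`: `k ∣ psi g - 1` and `k ≥ 2` give `psi g ≠ 0`, so `RT K g` and `psi g = |C g| =: c` (`RT1.rt_psi`).  `c ∣ |G| = 2k(2k+1)(k+1)`, `c` prime to `2k` (`Cop.cop`), so `c c' = (2k+1)(k+1)`.  `c ≡ 1 (mod k)`, hence also `c' ≡ 1`: `c = 1 + a k`, `c' = 1 + b k`,
`a + b + a b k = 3 + 2k`.  `a b = 0`: `c = 1` (impossible, `1 ≠ g ∈ C g`) or `c' = 1`.  `a b = 1`: `2 + k = 3 + 2k` no.  `a b = 2`: `{a, b} = {1, 2}`.  `a b ≥ 3`: `a + b ≥ 4`, `(a b - 2) k = 3 - a - b < 0` no. -/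

set_option autoImplicit false

namespace Cfsg.Agent.Lib.H74BSWPlusV

open Cfsg.Agent.Lib.Helper74BSWDefs

variable {G : Type*} [Group G] [Finite G] {t s : G} {K : Subgroup G}

private theorem exists_mul_add_one (k c : ℕ) (hc0 : 1 ≤ c) (hc1 : (k : ℤ) ∣ (c : ℤ) - 1) :
    ∃ a : ℕ, c = k * a + 1 := by
  have h1 : (k : ℤ) ∣ ((c - 1 : ℕ) : ℤ) := by
    rw [Nat.cast_sub hc0]; simpa using hc1
  obtain ⟨a, ha⟩ := Int.natCast_dvd_natCast.1 h1
  exact ⟨a, by omega⟩

/-- pure arithmetic -/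
theorem divisors (k c c' : ℕ) (hk : 2 ≤ k) (hc : c * c' = (2 * k + 1) * (k + 1)) (hc1 : (k : ℤ) ∣ (c : ℤ) - 1)
    (hne : c ≠ 1) : c = k + 1 ∨ c = 2 * k + 1 ∨ c = (k + 1) * (2 * k + 1) := by
  have hpos : 0 < c * c' := by rw [hc]; positivity
  have hc0 : 1 ≤ c := Nat.pos_of_mul_pos_right hpos
  have hc0' : 1 ≤ c' := Nat.pos_of_mul_pos_left hpos
  obtain ⟨a, ha⟩ := exists_mul_add_one k c hc0 hc1
  have hc1' : (k : ℤ) ∣ (c' : ℤ) - 1 := by
    refine ⟨2 * k + 3 - a * c', ?_⟩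
    have : ((c * c' : ℕ) : ℤ) = (((2 * k + 1) * (k + 1) : ℕ) : ℤ) := by rw [hc]
    rw [ha] at this
    push_cast at this
    linarith
  obtain ⟨b, hb⟩ := exists_mul_add_one k c' hc0' hc1'
  have ha1 : 1 ≤ a := by
    rcases Nat.eq_zero_or_pos a with h | h
    · subst h; omega
    · exact h
  have hmain : a + b + a * b * k = 2 * k + 3 := by
    have h1 : k * (a + b + a * b * k) = k * (2 * k + 3) := by
      rw [ha, hb] at hc
      nlinarith
    exact Nat.eq_of_mul_eq_mul_left (by omega) h1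
  rcases Nat.eq_zero_or_pos b with hb0 | hb0
  · subst hb0
    right; right
    have : a = 2 * k + 3 := by simpa using hmain
    rw [ha, this]; ring
  · have hab : a * b ≤ 3 := by
      by_contra hcon
      push Not at hcon
      have : 4 * k ≤ a * b * k := Nat.mul_le_mul_right k hcon
      omega
    have ha3 : a ≤ 3 := by nlinarith
    have hb3 : b ≤ 3 := by nlinarith
    interval_cases a <;> interval_cases b <;> simp at hmain hab ⊢ <;> omega

theorem plus_vals (h : BSW t s K) (hP : PlusCase K) {g : G} (hg : ¬ inKK K g) :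
    RT K g ∧ (Nat.card (C g) = Nat.card K + 1 ∨ Nat.card (C g) = 2 * Nat.card K + 1 ∨
      Nat.card (C g) = (Nat.card K + 1) * (2 * Nat.card K + 1)) := by
  have hk2 : 2 ≤ Nat.card K := by
    have h1 : orderOf t ∣ Nat.card K := Subgroup.orderOf_dvd_natCard K h.htK
    rw [h.ht] at h1
    exact Nat.le_of_dvd Nat.card_pos h1
  have hd := hP.2 g hg
  have hpsi : psi g ≠ 0 := by
    intro h0
    rw [h0] at hd
    have h1 : (Nat.card K : ℤ) ∣ 1 := by
      have := (dvd_neg).2 hd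
      simpa using this
    have h2 : Nat.card K ∣ 1 := by exact_mod_cast h1
    have := Nat.le_of_dvd one_pos h2
    omega
  have hRT : RT K g := ⟨hg, hpsi⟩
  refine ⟨hRT, ?_⟩
  have hpc := H74BSWRT1.rt_psi h hRT
  rw [hpc] at hd
  have hdvd : Nat.card (C g) ∣ Nat.card G := Subgroup.card_subgroup_dvd_card _
  rw [hP.1] at hdvd
  have hcop := H74BSWCop.cop h hg
  have hdvd2 : Nat.card (C g) ∣ (2 * Nat.card K + 1) * (Nat.card K + 1) := by
    rw [mul_assoc] at hdvd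
    exact hcop.dvd_of_dvd_mul_left hdvd
  obtain ⟨c', hc'⟩ := hdvd2
  have hne : Nat.card (C g) ≠ 1 := by
    intro h1
    have hsub : Subsingleton (C g) := (Nat.card_eq_one_iff_unique.1 h1).1
    have hgC : g ∈ C g := Subgroup.mem_centralizer_singleton_iff.2 rfl
    have : (⟨g, hgC⟩ : C g) = 1 := Subsingleton.elim _ _
    exact H74BSWRT1.rt_ne_one hg (congrArg Subtype.val this)
  exact divisors _ _ c' hk2 hc'.symm hd hne

end Cfsg.Agent.Lib.H74BSWPlusV
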