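import Cfsg.Agent.Lib.H74BSWEl
import Cfsg.Agent.Lib.H74BSWInv

/-! PROJECT 74 (BSW), piece `RT1` (1.5 h): the centraliser `Q = C g` of an element `g` outside the conjugates of `K` which is inverted by an involution `u`.
`u` normalises `Q = C g = C g⁻¹`.  `C_Q(u) = 1`: a `y ∈ Q` commuting with `u` lies in a conjugate of `K` (`Conj.inKK_invol_cent`), so `y = 1` by `El.el1`.
`Inv.inverts`: `u` inverts `Q`, `Q` abelian.  For `1 ≠ y ∈ Q`: `y` is outside the conjugates of `K` (`el1`), inverted by `u`, so `C y` is abelian too; it contains `g`, so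
`C y ≤ C g`; and `C g ≤ C y` as `Q` is abelian.  `rt_psi`: the involutions inverting `g` are the elements of the coset `Q u` (`u' u ∈ C g`; each `y u` is an involution inverting `g`). -/

set_option autoImplicit false

namespace Cfsg.Agent.Lib.H74BSWRT1

open Cfsg.Agent.Lib.Helper74BSWDefs Cfsg.Agent.Lib.H74BSWConj Cfsg.Agent.Lib.H74BSWEl

variable {G : Type*} [Group G] [Finite G] {t s : G} {K : Subgroup G}

omit [Finite G] in
theorem rt_ne_one {g : G} (hg : ¬ inKK K g) : g ≠ 1 := by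
  rintro rfl
  exact hg (inKK_one K)

theorem rt_invol (h : BSW t s K) {g : G} (hg : RT K g) : ∃ u : G, orderOf u = 2 ∧ u * g * u⁻¹ = g⁻¹ :=
  (psi_ne_zero_iff (odd_order h hg.1) (rt_ne_one hg.1)).mp hg.2

omit [Finite G] in
theorem C_inv (g : G) : C g⁻¹ = C g := by
  ext y
  rw [mem_C, mem_C]
  exact (Commute.inv_right_iff (a := y) (b := g))

theorem rt_inv (h : BSW t s K) {g u : G} (hg : ¬ inKK K g) (hu : orderOf u = 2) (hug : u * g * u⁻¹ = g⁻¹) :
    ∀ y ∈ C g, u * y * u⁻¹ = y⁻¹ := by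
  apply Cfsg.Agent.Lib.H74BSWInv.inverts (C g) u (invol_mul_self hu)
  · intro y hy
    rw [← C_inv g, ← hug, C_conj, mem_cj]
    have : u⁻¹ * (u * y * u⁻¹) * u = y := by simp [mul_assoc]
    rw [this]; exact hy
  · intro y hy hfix
    by_contra hy1
    refine el1 h hg hy hy1 (inKK_invol_cent h hu ?_)
    have : u * y * u⁻¹ * u = y * u := by rw [hfix]
    simpa using this.symm

theorem rt_comm (h : BSW t s K) {g : G} (hg : RT K g) : ∀ a ∈ C g, ∀ b ∈ C g, a * b = b * a := by
  obtain ⟨u, hu, hug⟩ := rt_invol h hg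
  exact Cfsg.Agent.Lib.H74BSWInv.comm_of_inverts (C g) u (rt_inv h hg.1 hu hug)

theorem rt_cent (h : BSW t s K) {g y : G} (hg : RT K g) (hy : y ∈ C g) (hy1 : y ≠ 1) : C y = C g ∧ RT K y := by
  obtain ⟨u, hu, hug⟩ := rt_invol h hg
  have hyK : ¬ inKK K y := el1 h hg.1 hy hy1
  have hRT : RT K y :=
    ⟨hyK, (psi_ne_zero_iff (odd_order h hyK) hy1).mpr ⟨u, hu, rt_inv h hg.1 hu hug y hy⟩⟩
  refine ⟨?_, hRT⟩
  have hgy : g ∈ C y := by
    rw [mem_C] at hy ⊢
    exact hy.symm
  ext z
  constructor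
  · intro hz
    rw [mem_C]
    exact rt_comm h hRT z hz g hgy
  · intro hz
    rw [mem_C]
    exact rt_comm h hg z hz y hy

theorem coset_invol (h : BSW t s K) {g u y : G} (hg : ¬ inKK K g) (hu : orderOf u = 2)
    (hug : u * g * u⁻¹ = g⁻¹) (hy : y ∈ C g) : orderOf (y * u) = 2 := by
  apply orderOf_two_of
  · have h1 := rt_inv h hg hu hug y hy
    rw [invol_inv hu] at h1
    have : y * (u * y * u) = 1 := by rw [h1]; simp
    simpa [mul_assoc] using this
  · intro h1
    have h2 : u ∈ C g := by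
      have : u = y⁻¹ := eq_inv_of_mul_eq_one_right h1
      rw [this]; exact (C g).inv_mem hy
    exact el1 h hg h2 (invol_ne_one hu) (inKK_invol h hu)

theorem rt_psi (h : BSW t s K) {g : G} (hg : RT K g) : psi g = Nat.card (C g) := by
  obtain ⟨u, hu, hug⟩ := rt_invol h hg
  have hgC : g ∈ C g := by rw [mem_C]
  unfold psi
  symm
  refine Nat.card_congr (Equiv.ofBijective (fun y : C g => ⟨(y : G) * u, ?_, ?_⟩) ⟨?_, ?_⟩)
  · exact coset_invol h hg.1 hu hug y.2
  · have h1 : (y : G) * u * g = ((y : G) * g⁻¹) * u := by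
      have : u * g = g⁻¹ * u := by
        rw [← hug]; simp
      rw [mul_assoc, this, mul_assoc]
    rw [h1]
    exact coset_invol h hg.1 hu hug ((C g).mul_mem y.2 ((C g).inv_mem hgC))
  · intro a b hab
    have : (a : G) * u = (b : G) * u := congrArg Subtype.val hab
    exact Subtype.ext (mul_right_cancel this)
  · rintro ⟨u', hu', hug'⟩
    have h1 : u' * g * u'⁻¹ = g⁻¹ := by
      have := invol_mul_self hug'
      rw [invol_inv hu']
      have h2 : u' * g * u' * g = 1 := by simpa [mul_assoc] using this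
      exact eq_inv_of_mul_eq_one_left h2
    have h2 : u' * u ∈ C g := by
      rw [mem_C]
      have e1 : u * g = g⁻¹ * u := by rw [← hug]; simp
      have e2 : u' * g⁻¹ = g * u' := by
        have : u' * g⁻¹ * u'⁻¹ = g := by
          have := congrArg (·⁻¹) h1
          simpa [mul_assoc] using this
        exact mul_inv_eq_iff_eq_mul.mp this
      rw [mul_assoc, e1, ← mul_assoc, e2, mul_assoc]
    refine ⟨⟨u' * u, h2⟩, ?_⟩
    apply Subtype.ext
    show u' * u * u = u'
    rw [mul_assoc, invol_mul_self hu, mul_one]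

/-- T.I. property -/
theorem rt_ti (h : BSW t s K) {g n y : G} (hg : RT K g) (hy : y ∈ C g) (hy1 : y ≠ 1) (hn : n * y * n⁻¹ ∈ C g) :
    n ∈ Nm (C g) := by
  have hne : n * y * n⁻¹ ≠ 1 := by
    intro h1
    apply hy1
    have : y = n⁻¹ * (n * y * n⁻¹) * n := by simp [mul_assoc]
    rw [this, h1]; simp
  have h1 := (rt_cent h hg hy hy1).1
  have h2 := (rt_cent h hg hn hne).1
  rw [C_conj, h1] at h2
  rw [Subgroup.mem_set_normalizer_iff]
  intro z
  have h3 : n * z * n⁻¹ ∈ cj n (C g) ↔ z ∈ C g := by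
    rw [mem_cj]
    have : n⁻¹ * (n * z * n⁻¹) * n = z := by simp [mul_assoc]
    rw [this]
  rw [h2] at h3
  exact h3.symm

end Cfsg.Agent.Lib.H74BSWRT1
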