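import Cfsg.Agent.Lib.H74BSWRT1

/-! PROJECT 74 (BSW), piece `RT2` (2 h): the normaliser of `Q = C g`, `g` of type `RT`.
Let `u` be an involution inverting `g`, hence `Q` (`RT1.rt_inv`); `u = x t x⁻¹`.  For `n ∈ N(Q)`: `n u n⁻¹` is an involution normalising `Q` without fixed points on `Q \ 1`
(elements commuting with an involution are in a conjugate of `K`), so it inverts `Q` (`Inv.inverts`), `(n u n⁻¹) u ∈ C(Q) ≤ C g = Q`: `n u n⁻¹ = y u`, `y ∈ Q`.  `|Q|` is odd, `y = w * w` with `w ∈ Q`,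
`w u w⁻¹ = w w u = y u`.  So `w⁻¹ n ∈ C u`: `N(Q) = Q E` with `E = N(Q) ⊓ C u`, `Q ⊓ E = 1`.  `E ≤ x K x⁻¹`: an element `v ∈ E` outside is an involution `≠ u` commuting with `u` (`Basic.out_invol` for the conjugated data `Conj.bsw_conj`),
it inverts `Q` as before, so `u v ∈ C(Q) = Q` has order `≤ 2` in a group of odd order: `v = u`, contradiction. -/

set_option autoImplicit false

namespace Cfsg.Agent.Lib.H74BSWRT2

open Cfsg.Agent.Lib.Helper74BSWDefs

variable {G : Type*} [Group G] [Finite G] {t s : G} {K : Subgroup G}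

theorem mem_C_iff (g z : G) : z ∈ C g ↔ g * z = z * g := by
  simp [C, Subgroup.mem_centralizer_iff]

/-- an involution normalising `C g` inverts it -/
theorem invol_inverts (h : BSW t s K) {g v : G} (hg : ¬ inKK K g) (hv : orderOf v = 2)
    (hvN : v ∈ Nm (C g)) : ∀ y ∈ C g, v * y * v⁻¹ = y⁻¹ := by
  have hvv : v * v = 1 := by
    have := pow_orderOf_eq_one v
    rw [hv, pow_two] at this
    exact this
  refine H74BSWInv.inverts (C g) v hvv ?_ ?_
  · intro y hy
    exact (Subgroup.mem_normalizer_iff.mp hvN y).mp hy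
  · intro y hy hfix
    by_contra hy1
    have h1 : ¬ inKK K y := H74BSWEl.el1 h hg hy hy1
    apply h1
    refine H74BSWConj.inKK_invol_cent h hv ?_
    have : v * y = y * v := by
      have := congrArg (· * v) hfix
      simpa [mul_assoc] using this
    exact this.symm

/-- in a group of odd order an element with trivial square is trivial -/
theorem eq_one_of_sq (Q : Subgroup G) (hodd : Odd (Nat.card Q)) {y : G} (hy : y ∈ Q) (h2 : y * y = 1) :
    y = 1 := by
  have h1 : orderOf y ∣ 2 := by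
    apply orderOf_dvd_of_pow_eq_one
    rw [pow_two]; exact h2
  have h3 : orderOf y ∣ Nat.card Q := by
    have := Subgroup.orderOf_dvd_natCard Q hy
    exact this
  have h4 : orderOf y ∣ 1 := by
    have hc : Nat.Coprime 2 (Nat.card Q) := (Nat.coprime_two_left).mpr hodd
    have := Nat.dvd_gcd h1 h3
    rwa [hc] at this
  exact orderOf_eq_one_iff.mp (Nat.dvd_one.mp h4)

/-- in a group of odd order every element is a square -/
theorem exists_sqrt (Q : Subgroup G) (hodd : Odd (Nat.card Q)) {y : G} (hy : y ∈ Q) :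
    ∃ w ∈ Q, w * w = y := by
  obtain ⟨m, hm⟩ := hodd
  refine ⟨y ^ (m + 1), Q.pow_mem hy _, ?_⟩
  have h1 : y ^ Nat.card Q = 1 :=
    orderOf_dvd_iff_pow_eq_one.mp (Subgroup.orderOf_dvd_natCard Q hy)
  rw [← pow_add]
  have : m + 1 + (m + 1) = Nat.card Q + 1 := by omega
  rw [this, pow_succ, h1, one_mul]

theorem rt_norm (h : BSW t s K) {g : G} (hg : RT K g) :
    ∃ (x : G) (E : Subgroup G), (∀ y ∈ C g, (x * t * x⁻¹) * y * (x * t * x⁻¹)⁻¹ = y⁻¹) ∧ x * t * x⁻¹ ∈ E ∧ E ≤ cj x K ∧
      C g ⊓ E = ⊥ ∧ Nm (C g) = C g ⊔ E ∧ Nat.card (Nm (C g)) = Nat.card (C g) * Nat.card E := by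
  obtain ⟨u, hu2, hug⟩ := H74BSWRT1.rt_invol h hg
  obtain ⟨x, hux⟩ := H74BSWConj.exists_conj h hu2
  have hinvQ : ∀ y ∈ C g, u * y * u⁻¹ = y⁻¹ := H74BSWRT1.rt_inv h hg.1 hu2 hug
  have hodd : Odd (Nat.card (C g)) := H74BSWEl.odd_cent h hg.1
  have huu : u * u = 1 := by
    have := pow_orderOf_eq_one u
    rw [hu2, pow_two] at this
    exact this
  have huinv : u⁻¹ = u := inv_eq_of_mul_eq_one_left huu
  have huN : u ∈ Nm (C g) := by
    rw [Subgroup.mem_normalizer_iff]
    intro y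
    constructor
    · intro hy
      rw [hinvQ y hy]; exact (C g).inv_mem hy
    · intro hy
      have h1 := hinvQ _ hy
      have h2 : u * (u * y * u⁻¹) * u⁻¹ = y := by
        rw [huinv]
        calc u * (u * y * u) * u = (u * u) * y * (u * u) := by group
          _ = y := by rw [huu]; simp
      rw [h2] at h1
      rw [h1]; exact (C g).inv_mem hy
  -- two inverting elements differ by an element of `C g`
  have hprod : ∀ v : G, (∀ y ∈ C g, v * y * v⁻¹ = y⁻¹) → v * u ∈ C g := by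
    intro v hv
    have hgg : g ∈ C g := by rw [mem_C_iff]
    have h1 : u * g * u⁻¹ = g⁻¹ := hinvQ g hgg
    have h2 : v * g⁻¹ * v⁻¹ = g := by
      have := hv g⁻¹ ((C g).inv_mem hgg)
      simpa using this
    rw [mem_C_iff]
    have h3 : (v * u) * g * (v * u)⁻¹ = g := by
      calc (v * u) * g * (v * u)⁻¹ = v * (u * g * u⁻¹) * v⁻¹ := by group
        _ = g := by rw [h1, h2]
    have := congrArg (· * (v * u)) h3
    simp only [inv_mul_cancel_right] at this
    exact this.symm
  set E : Subgroup G := Nm (C g) ⊓ C u with hE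
  have hEmem : ∀ v : G, v ∈ E ↔ v ∈ Nm (C g) ∧ u * v = v * u := by
    intro v; rw [hE, Subgroup.mem_inf, mem_C_iff]
  have huE : u ∈ E := (hEmem u).mpr ⟨huN, rfl⟩
  have hdisj : C g ⊓ E = ⊥ := by
    rw [eq_bot_iff]
    intro y hy
    obtain ⟨hy1, hy2⟩ := Subgroup.mem_inf.mp hy
    have hy3 : u * y = y * u := ((hEmem y).mp hy2).2
    have h1 := hinvQ y hy1
    rw [hy3, mul_inv_cancel_right] at h1
    have h2 : y * y = 1 := by
      nth_rewrite 1 [h1]; simp
    rw [Subgroup.mem_bot]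
    exact eq_one_of_sq (C g) hodd hy1 h2
  -- decomposition
  have hdec : ∀ n ∈ Nm (C g), ∃ w ∈ C g, w⁻¹ * n ∈ E := by
    intro n hn
    have hv2 : orderOf (n * u * n⁻¹) = 2 := by
      have : n * u * n⁻¹ = MulAut.conj n u := by simp
      rw [this, MulEquiv.orderOf_eq]; exact hu2
    have hvN : n * u * n⁻¹ ∈ Nm (C g) :=
      (Nm (C g)).mul_mem ((Nm (C g)).mul_mem hn huN) ((Nm (C g)).inv_mem hn)
    have hvinv := invol_inverts h hg.1 hv2 hvN
    have hy := hprod _ hvinv
    obtain ⟨w, hw, hww⟩ := exists_sqrt (C g) hodd hy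
    refine ⟨w, hw, (hEmem _).mpr ⟨?_, ?_⟩⟩
    · exact (Nm (C g)).mul_mem ((Nm (C g)).inv_mem (Subgroup.le_normalizer hw)) hn
    · -- w u w⁻¹ = w w u
      have h1 : u * w⁻¹ * u⁻¹ = w := by
        have := hinvQ w⁻¹ ((C g).inv_mem hw)
        simpa using this
      have h2 : w * u * w⁻¹ = n * u * n⁻¹ := by
        calc w * u * w⁻¹ = w * (u * w⁻¹ * u⁻¹) * u := by group
          _ = (w * w) * u := by rw [h1]
          _ = n * u * n⁻¹ * u * u := by rw [hww]
          _ = n * u * n⁻¹ := by rw [mul_assoc _ u u, huu, mul_one]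
      have h3 : u = w⁻¹ * (n * u * n⁻¹) * w := by rw [← h2]; group
      calc u * (w⁻¹ * n) = (w⁻¹ * (n * u * n⁻¹) * w) * (w⁻¹ * n) := by rw [← h3]
        _ = w⁻¹ * n * u := by group
  refine ⟨x, E, ?_, ?_, ?_, hdisj, ?_, ?_⟩
  · rw [← hux]; exact hinvQ
  · rw [← hux]; exact huE
  · intro v hv
    by_contra hvK
    have h' := H74BSWConj.bsw_conj h x
    have hv' := (hEmem v).mp hv
    have hvC : v ∈ C (x * t * x⁻¹) := by rw [← hux, mem_C_iff]; exact hv'.2
    obtain ⟨hv2, -⟩ := H74BSWBasic.out_invol h' hvC hvK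
    have hvinv := invol_inverts h hg.1 hv2 hv'.1
    have hy := hprod _ hvinv
    have hcomm : u * v = v * u := hv'.2
    have hvv : v * v = 1 := by
      have := pow_orderOf_eq_one v
      rw [hv2, pow_two] at this
      exact this
    have hsq : (v * u) * (v * u) = 1 := by
      calc (v * u) * (v * u) = v * (u * v) * u := by group
        _ = v * (v * u) * u := by rw [hcomm]
        _ = (v * v) * (u * u) := by group
        _ = 1 := by rw [hvv, huu, one_mul]
    have h1 := eq_one_of_sq (C g) hodd hy hsq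
    have hvu : v = u := by
      have : v = u⁻¹ := eq_inv_of_mul_eq_one_left h1
      rw [this, huinv]
    apply hvK
    rw [hvu, hux]
    exact ⟨t, h.htK, by simp⟩
  · apply le_antisymm
    · intro n hn
      obtain ⟨w, hw, hwn⟩ := hdec n hn
      have : n = w * (w⁻¹ * n) := by group
      rw [this]
      exact Subgroup.mul_mem_sup hw hwn
    · exact sup_le Subgroup.le_normalizer inf_le_left
  · rw [← Nat.card_prod]
    symm
    let f : (C g) × E → Nm (C g) := fun p =>
      ⟨p.1.1 * p.2.1, (Nm (C g)).mul_mem (Subgroup.le_normalizer p.1.2) ((hEmem _).mp p.2.2).1⟩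
    refine Nat.card_congr (Equiv.ofBijective f ⟨?_, ?_⟩)
    · rintro ⟨⟨a, ha⟩, ⟨b, hb⟩⟩ ⟨⟨a', ha'⟩, ⟨b', hb'⟩⟩ hab
      have hab' : a * b = a' * b' := congrArg Subtype.val hab
      have h1 : a'⁻¹ * a = b' * b⁻¹ := by
        calc a'⁻¹ * a = a'⁻¹ * (a * b) * b⁻¹ := by group
          _ = a'⁻¹ * (a' * b') * b⁻¹ := by rw [hab']
          _ = b' * b⁻¹ := by group
      have h2 : a'⁻¹ * a ∈ C g ⊓ E :=
        Subgroup.mem_inf.mpr
          ⟨(C g).mul_mem ((C g).inv_mem ha') ha, by rw [h1]; exact E.mul_mem hb' (E.inv_mem hb)⟩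
      rw [hdisj, Subgroup.mem_bot] at h2
      have h3 : a = a' := by
        have := congrArg (a' * ·) h2
        simpa using this
      have h4 : b = b' := by
        rw [h2] at h1
        have := congrArg (· * b) h1
        simpa using this
      subst h3; subst h4; rfl
    · rintro ⟨n, hn⟩
      obtain ⟨w, hw, hwn⟩ := hdec n hn
      refine ⟨(⟨w, hw⟩, ⟨w⁻¹ * n, hwn⟩), ?_⟩
      apply Subtype.ext
      show w * (w⁻¹ * n) = n
      group

end Cfsg.Agent.Lib.H74BSWRT2
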