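import Mathlib

set_option autoImplicit false

namespace Cfsg.Agent.Lib.H74DqCardCent

open DihedralGroup

variable {G : Type*} [Group G] [Finite G] {r : ℕ} [Fact r.Prime]

theorem card_cent_conj (Q : Subgroup G) [Q.Normal] (a x : G) :
    Nat.card ↥(Q ⊓ Subgroup.centralizer ({x * a * x⁻¹} : Set G)) = Nat.card ↥(Q ⊓ Subgroup.centralizer ({a} : Set G)) := by
  have hQ : Q.Normal := inferInstance
  symm
  apply Nat.card_congr
  apply Equiv.subtypeEquiv (MulAut.conj x).toEquiv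
  intro u
  show u ∈ Q ⊓ Subgroup.centralizer ({a} : Set G) ↔
    x * u * x⁻¹ ∈ Q ⊓ Subgroup.centralizer ({x * a * x⁻¹} : Set G)
  rw [Subgroup.mem_inf, Subgroup.mem_inf, Subgroup.mem_centralizer_singleton_iff,
    Subgroup.mem_centralizer_singleton_iff]
  constructor
  · rintro ⟨h1, h2⟩
    refine ⟨hQ.conj_mem u h1 x, ?_⟩
    calc x * u * x⁻¹ * (x * a * x⁻¹) = x * (u * a) * x⁻¹ := by group
      _ = x * (a * u) * x⁻¹ := by rw [h2]
      _ = x * a * x⁻¹ * (x * u * x⁻¹) := by group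
  · rintro ⟨h1, h2⟩
    constructor
    · have := hQ.conj_mem _ h1 x⁻¹
      simpa [mul_assoc] using this
    · calc u * a = x⁻¹ * (x * u * x⁻¹ * (x * a * x⁻¹)) * x := by group
        _ = x⁻¹ * (x * a * x⁻¹ * (x * u * x⁻¹)) * x := by rw [h2]
        _ = a * u := by group

end Cfsg.Agent.Lib.H74DqCardCent
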