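import Mathlib

set_option autoImplicit false

namespace Cfsg.Agent.Lib.H74DqCardG

open DihedralGroup

variable {G : Type*} [Group G] [Finite G] {r : ℕ} [Fact r.Prime]

theorem card_G (Q : Subgroup G) (φ : G →* DihedralGroup r) (hs : Function.Surjective φ) (hk : φ.ker = Q) :
    Nat.card G = Nat.card Q * (2 * r) := by
  rw [← hk, ← Subgroup.card_mul_index φ.ker, Subgroup.index_ker, MonoidHom.range_eq_top.mpr hs,
    Subgroup.card_top, DihedralGroup.nat_card]

end Cfsg.Agent.Lib.H74DqCardG
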