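import Mathlib

set_option autoImplicit false

namespace Cfsg.Agent.Lib.H74DqCardR

open DihedralGroup

variable {G : Type*} [Group G] [Finite G] {r : ℕ} [Fact r.Prime]

theorem card_R (hr : r ≠ 2) (Q : Subgroup G) (hQ : IsPGroup 2 Q) (hG : Nat.card G = Nat.card Q * (2 * r))
    (R : Sylow r G) : Nat.card (R : Subgroup G) = r := by
  have hrp : r.Prime := Fact.out
  have h2 : Fact (Nat.Prime 2) := ⟨Nat.prime_two⟩
  obtain ⟨k, hk⟩ := hQ.exists_card_eq
  rw [Sylow.card_eq_multiplicity, hG, hk]
  have : (2 ^ k * (2 * r)).factorization r = 1 := by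
    rw [Nat.factorization_mul (by positivity) (by have := hrp.pos; positivity),
      Nat.factorization_mul (by norm_num) hrp.ne_zero, Nat.factorization_pow]
    simp [Nat.Prime.factorization Nat.prime_two, hrp.factorization, Finsupp.single_apply, hr.symm]
  rw [this, pow_one]

end Cfsg.Agent.Lib.H74DqCardR
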