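import Mathlib

set_option autoImplicit false

namespace Cfsg.Agent.Lib.H74DqCentR

open DihedralGroup

variable {G : Type*} [Group G] [Finite G] {r : ℕ} [Fact r.Prime]

theorem cent_R (R : Subgroup G) (hR : Nat.card R = r) (a x : G) (ha : a ∈ Subgroup.normalizer (R : Set G))
    (h2 : orderOf a = 2) (hx : x ∈ R) (hne : x * a * x⁻¹ ≠ a) (u : G) (hu : u * a = a * u)
    (hu₂ : u * (x * a * x⁻¹) = (x * a * x⁻¹) * u) : u ∈ Subgroup.centralizer (R : Set G) := by
  have hrp : r.Prime := Fact.out
  have haa : a * a = 1 := by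
    have := pow_orderOf_eq_one a
    rwa [h2, pow_two] at this
  have hainv : a⁻¹ = a := inv_eq_of_mul_eq_one_left haa
  set y := a * (x * a * x⁻¹) with hy
  have hyR : y ∈ R := by
    have h1 : a * x * a⁻¹ ∈ R := (Subgroup.mem_normalizer_iff.mp ha x).mp hx
    have : y = (a * x * a⁻¹) * x⁻¹ := by rw [hy, hainv]; group
    rw [this]
    exact R.mul_mem h1 (R.inv_mem hx)
  have hy1 : y ≠ 1 := by
    intro h
    apply hne
    have : x * a * x⁻¹ = a⁻¹ := by
      rw [eq_inv_iff_mul_eq_one]
      have h3 : a * (x * a * x⁻¹) = 1 := h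
      calc x * a * x⁻¹ * a = a⁻¹ * (a * (x * a * x⁻¹)) * a := by group
        _ = 1 := by rw [h3]; group
    rw [this, hainv]
  have hpow : y ^ r = 1 := by
    have h5 := pow_card_eq_one' (x := (⟨y, hyR⟩ : R))
    rw [hR] at h5
    exact congrArg Subtype.val h5
  have hord : orderOf y = r := by
    rcases (Nat.dvd_prime hrp).mp (orderOf_dvd_of_pow_eq_one hpow) with h | h
    · exact absurd (orderOf_eq_one_iff.mp h) hy1
    · exact h
  have hRz : Subgroup.zpowers y = R := by
    apply Subgroup.eq_of_le_of_card_ge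
    · rw [Subgroup.zpowers_le]; exact hyR
    · rw [hR, Nat.card_zpowers, hord]
  have huy : Commute u y := by
    show u * y = y * u
    rw [hy]
    calc u * (a * (x * a * x⁻¹)) = (u * a) * (x * a * x⁻¹) := by group
      _ = (a * u) * (x * a * x⁻¹) := by rw [hu]
      _ = a * (u * (x * a * x⁻¹)) := by group
      _ = a * ((x * a * x⁻¹) * u) := by rw [hu₂]
      _ = a * (x * a * x⁻¹) * u := by group
  rw [Subgroup.mem_centralizer_iff]
  intro z hz
  rw [SetLike.mem_coe, ← hRz, Subgroup.mem_zpowers_iff] at hz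
  obtain ⟨k, rfl⟩ := hz
  exact (huy.zpow_right k).eq.symm

end Cfsg.Agent.Lib.H74DqCentR
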