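import Mathlib

set_option autoImplicit false

namespace Cfsg.Agent.Lib.H74DqConjN

open DihedralGroup

variable {G : Type*} [Group G] [Finite G] {r : ℕ} [Fact r.Prime]

/-- PIECE ConjN of project 2873 (row S2873).  (35 min) Work in the group `↥N` of order `2 r`, `r` odd.  `zpowers a`, `zpowers a'` have order `2 = 2 ^ 1 =` the full power of `2` dividing `2 r`: they are Sylow 2-subgroups (`Sylow.ofCard` or `IsPGroup.exists_le_sylow` + cardinalities), so they are conjugate (`MulAction.exists_smul_eq`); a conjugate `n a n⁻¹` lies in `zpowers a' = {1, a'}` and is `≠ 1`, so it equals `a'`. -/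
theorem conjN (hr : r ≠ 2) (N : Subgroup G) (hN : Nat.card N = 2 * r) (a a' : G) (ha : a ∈ N) (ha' : a' ∈ N)
    (h2 : orderOf a = 2) (h2' : orderOf a' = 2) : ∃ n ∈ N, n * a * n⁻¹ = a' := by
  have hrp : r.Prime := Fact.out
  have hfac : (Nat.card N).factorization 2 = 1 := by
    rw [hN, Nat.factorization_mul two_ne_zero hrp.ne_zero, Finsupp.add_apply,
      Nat.Prime.factorization_self Nat.prime_two, Nat.factorization_eq_zero_of_not_dvd, add_zero]
    intro h
    exact hr ((Nat.prime_dvd_prime_iff_eq Nat.prime_two hrp).1 h).symm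
  have ho : orderOf (⟨a, ha⟩ : N) = 2 := by rw [← h2, ← Subgroup.orderOf_coe]
  have ho' : orderOf (⟨a', ha'⟩ : N) = 2 := by rw [← h2', ← Subgroup.orderOf_coe]
  have hc : Nat.card (Subgroup.zpowers (⟨a, ha⟩ : N)) = 2 ^ (Nat.card N).factorization 2 := by
    rw [Nat.card_zpowers, ho, hfac, pow_one]
  have hc' : Nat.card (Subgroup.zpowers (⟨a', ha'⟩ : N)) = 2 ^ (Nat.card N).factorization 2 := by
    rw [Nat.card_zpowers, ho', hfac, pow_one]
  have : Fact (Nat.Prime 2) := ⟨Nat.prime_two⟩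
  let A : Sylow 2 N := Sylow.ofCard _ hc
  let A' : Sylow 2 N := Sylow.ofCard _ hc'
  obtain ⟨n, hn⟩ := MulAction.exists_smul_eq N A A'
  have hmem : n * ⟨a, ha⟩ * n⁻¹ ∈ (A' : Subgroup N) := by
    rw [← hn, Sylow.coe_subgroup_smul, Subgroup.mem_pointwise_smul_iff_inv_smul_mem]
    have : (MulAut.conj n)⁻¹ • (n * ⟨a, ha⟩ * n⁻¹) = (⟨a, ha⟩ : N) := by
      rw [MulAut.smul_def, ← map_inv, MulAut.conj_apply]
      group
    rw [this]
    exact Subgroup.mem_zpowers _
  have hmem' : n * ⟨a, ha⟩ * n⁻¹ ∈ Subgroup.zpowers (⟨a', ha'⟩ : N) := hmem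
  rw [← mem_powers_iff_mem_zpowers] at hmem'
  obtain ⟨m, hm⟩ := hmem'
  have hm' : (⟨a', ha'⟩ : N) ^ m = n * ⟨a, ha⟩ * n⁻¹ := hm
  rw [← pow_mod_orderOf, ho'] at hm'
  refine ⟨n, n.2, ?_⟩
  rcases Nat.mod_two_eq_zero_or_one m with h | h
  · exfalso
    rw [h, pow_zero] at hm'
    have h1 : (⟨a, ha⟩ : N) = 1 := by
      have : (⟨a, ha⟩ : N) = n⁻¹ * (n * ⟨a, ha⟩ * n⁻¹) * n := by group
      rw [this, ← hm']
      group
    rw [h1, orderOf_one] at ho
    exact absurd ho (by norm_num)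
  · rw [h, pow_one] at hm'
    exact (congrArg Subtype.val hm').symm

end Cfsg.Agent.Lib.H74DqConjN
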