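import Mathlib

set_option autoImplicit false

namespace Cfsg.Agent.Lib.H74DqExistsX

open DihedralGroup

variable {G : Type*} [Group G] [Finite G] {r : ℕ} [Fact r.Prime]

theorem exists_x (hr : r ≠ 2) (Q : Subgroup G) (hQ : IsPGroup 2 Q) (φ : G →* DihedralGroup r) (hk : φ.ker = Q)
    (R : Subgroup G) (hR : Nat.card R = r) (i : ZMod r) (a : G) (ha : φ a = sr i) :
    ∃ x ∈ R, ∃ j : ZMod r, j ≠ i ∧ φ (x * a * x⁻¹) = sr j := by
  have hrp : r.Prime := Fact.out
  have h2 : Fact (Nat.Prime 2) := ⟨Nat.prime_two⟩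
  obtain ⟨k, hk2⟩ := hQ.exists_card_eq
  have hRQ : R ⊓ Q = ⊥ := by
    apply disjoint_iff.mp
    apply Subgroup.disjoint_of_coprime_natCard
    rw [hR, hk2]
    apply Nat.Coprime.pow_right
    exact (Nat.coprime_primes hrp Nat.prime_two).mpr hr
  have hnt : Nontrivial R := by
    rw [← Finite.one_lt_card_iff_nontrivial, hR]; exact hrp.one_lt
  obtain ⟨⟨x, hx⟩, hx1⟩ := exists_ne (1 : R)
  have hx1' : x ≠ 1 := fun h => hx1 (Subtype.ext h)
  have hpow : x ^ r = 1 := by
    have h5 := pow_card_eq_one' (x := (⟨x, hx⟩ : R))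
    rw [hR] at h5
    exact congrArg Subtype.val h5
  have hφx : φ x ≠ 1 := by
    intro h
    apply hx1'
    have : x ∈ R ⊓ Q := by
      rw [Subgroup.mem_inf]
      exact ⟨hx, by rw [← hk]; exact MonoidHom.mem_ker.mpr h⟩
    rwa [hRQ, Subgroup.mem_bot] at this
  have hφpow : (φ x) ^ r = 1 := by rw [← map_pow, hpow, map_one]
  have hodd : Odd r := hrp.odd_of_ne_two hr
  refine ⟨x, hx, ?_⟩
  rcases hφ : φ x with m | m
  · -- rotation
    have hm : m ≠ 0 := by
      rintro rfl
      apply hφx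
      rw [hφ]; rfl
    refine ⟨i - 2 * m, ?_, ?_⟩
    · intro h
      have h3 : (2 : ZMod r) * m = 0 := by linear_combination -h
      rcases mul_eq_zero.mp h3 with h4 | h4
      · have h5 : ((2 : ℕ) : ZMod r) = 0 := by exact_mod_cast h4
        rw [ZMod.natCast_eq_zero_iff] at h5
        have := Nat.le_of_dvd (by norm_num) h5
        have := hrp.two_le
        omega
      · exact hm h4
    · rw [map_mul, map_mul, map_inv, hφ, ha, DihedralGroup.inv_r, DihedralGroup.r_mul_sr,
        DihedralGroup.sr_mul_r]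
      congr 1
      ring
  · -- reflection: impossible
    exfalso
    apply hφx
    have hsq : (φ x) ^ 2 = 1 := by
      rw [hφ, pow_two, DihedralGroup.sr_mul_self]
    have hcop : Nat.Coprime 2 r := (Nat.coprime_primes Nat.prime_two hrp).mpr hr.symm
    have h3 : (φ x) ^ (Nat.gcd 2 r) = 1 := pow_gcd_eq_one.mpr ⟨hsq, hφpow⟩
    rwa [hcop, pow_one] at h3

end Cfsg.Agent.Lib.H74DqExistsX
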