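import Mathlib

set_option autoImplicit false

namespace Cfsg.Agent.Lib.H74DqImgSr

open DihedralGroup

variable {G : Type*} [Group G] [Finite G] {r : ℕ} [Fact r.Prime]

/-- PIECE ImgSr of project 2873 (row S2873).  (15 min) `φ b ≠ 1` (`b ∉ φ.ker`), `(φ b) ^ 2 = 1`.  Cases on `φ b`: if `φ b = r k` then `r (2 k) = 1` (`DihedralGroup.r_mul_r`, `sq`), so `2 k = 0` in `ZMod r`, `r` odd prime (`ZMod r` is a field, `(2 : ZMod r) ≠ 0`), `k = 0`, `φ b = r 0 = 1`: contradiction. -/
theorem img_sr (hr : r ≠ 2) (Q : Subgroup G) (φ : G →* DihedralGroup r) (hk : φ.ker = Q) (b : G) (hb : orderOf b = 2)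
    (hbQ : b ∉ Q) : ∃ i : ZMod r, φ b = sr i := by
  have hrp : r.Prime := Fact.out
  have h1 : φ b ≠ 1 := fun h => hbQ (hk ▸ (MonoidHom.mem_ker.2 h))
  have h2 : (φ b) ^ 2 = 1 := by rw [← map_pow, ← hb, pow_orderOf_eq_one, map_one]
  cases hφ : φ b with
  | r k =>
    exfalso
    rw [hφ, sq, r_mul_r, one_def] at h2
    have h3 : k + k = 0 := DihedralGroup.r.inj h2
    have h4 : (2 : ZMod r) ≠ 0 := by
      intro h
      have : ((2 : ℕ) : ZMod r) = 0 := by exact_mod_cast h
      rw [ZMod.natCast_eq_zero_iff] at this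
      exact hr ((Nat.prime_dvd_prime_iff_eq hrp Nat.prime_two).1 this)
    have h5 : k = 0 := by
      have : (2 : ZMod r) * k = 0 := by rw [two_mul]; exact h3
      rcases mul_eq_zero.1 this with h | h
      · exact absurd h h4
      · exact h
    apply h1
    rw [hφ, h5, one_def]
  | sr i => exact ⟨i, rfl⟩

end Cfsg.Agent.Lib.H74DqImgSr
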