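import Mathlib

set_option autoImplicit false

namespace Cfsg.Agent.Lib.H74DqInj

open DihedralGroup

variable {G : Type*} [Group G] [Finite G] {r : ℕ} [Fact r.Prime]

theorem inj (Q N : Subgroup G) (φ : G →* DihedralGroup r) (hk : φ.ker = Q) (hNQ : N ⊓ Q = ⊥)
    (a a' : G) (ha : a ∈ N) (ha' : a' ∈ N) (h : φ a = φ a') : a = a' := by
  have h1 : a⁻¹ * a' ∈ N ⊓ Q :=
    ⟨N.mul_mem (N.inv_mem ha) ha', by
      rw [← hk]
      show a⁻¹ * a' ∈ φ.ker
      rw [MonoidHom.mem_ker, map_mul, map_inv, h, inv_mul_cancel]⟩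
  rw [hNQ, Subgroup.mem_bot] at h1
  exact inv_mul_eq_one.mp h1

end Cfsg.Agent.Lib.H74DqInj
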