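import Mathlib

set_option autoImplicit false

namespace Cfsg.Agent.Lib.H74DqIso

open DihedralGroup

variable {G : Type*} [Group G] [Finite G] {r : ℕ} [Fact r.Prime]

theorem iso (Q N : Subgroup G) [Q.Normal] (φ : G →* DihedralGroup r) (hs : Function.Surjective φ) (hk : φ.ker = Q)
    (hNQ : N ⊓ Q = ⊥) (hsup : N ⊔ Q = ⊤) : Nonempty (N ≃* DihedralGroup r) := by
  refine ⟨MulEquiv.ofBijective (φ.comp N.subtype) ⟨?_, ?_⟩⟩
  · rw [injective_iff_map_eq_one]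
    rintro ⟨a, ha⟩ h
    have h1 : φ a = 1 := h
    have h2 : a ∈ N ⊓ Q := ⟨ha, by rw [← hk]; exact MonoidHom.mem_ker.mpr h1⟩
    rw [hNQ, Subgroup.mem_bot] at h2
    exact Subtype.ext h2
  · intro d
    obtain ⟨g, rfl⟩ := hs d
    have hg : g ∈ N ⊔ Q := by rw [hsup]; trivial
    rw [Subgroup.mem_sup_of_normal_right] at hg
    obtain ⟨n, hn, q, hq, rfl⟩ := hg
    refine ⟨⟨n, hn⟩, ?_⟩
    have hq1 : φ q = 1 := by
      rw [← hk] at hq; exact MonoidHom.mem_ker.mp hq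
    show φ n = φ (n * q)
    rw [map_mul, hq1, mul_one]

end Cfsg.Agent.Lib.H74DqIso
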