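import Mathlib

set_option autoImplicit false

namespace Cfsg.Agent.Lib.H74DqMove

open DihedralGroup

variable {G : Type*} [Group G] [Finite G] {r : ℕ} [Fact r.Prime]

/-- PIECE Move of project 2873 (row S2873).  (40 min) `zpowers w` has order `r = |R|`, so it is a Sylow `r`-subgroup (`Sylow.ofCard` with `Sylow.card_eq_multiplicity R`), conjugate to `R`: `zpowers w = g R g⁻¹` (`MulAction.exists_smul_eq`, `Sylow.smul_def`/`Subgroup.mem_pointwise_smul_iff_inv_smul_mem`).  Write `g = q * n` with `q ∈ Q`, `n ∈ N(R)` (`N(R) ⊔ Q = ⊤`, `Q` normal: `Subgroup.normal_mul`/`mem_sup`); then `zpowers w = q R q⁻¹`.  If `b w b⁻¹ = w⁻¹` then `b` normalises `zpowers w` (finite: enough `b (zpowers w) b⁻¹ ≤ zpowers w`), so `q⁻¹ b q` normalises `R`. -/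
theorem move (Q : Subgroup G) [Q.Normal] (R : Sylow r G) (hR : Nat.card (R : Subgroup G) = r)
    (hsup : Subgroup.normalizer ((R : Subgroup G) : Set G) ⊔ Q = ⊤) (w : G) (hw : orderOf w = r) :
    ∃ q ∈ Q, ∀ b : G, b * w * b⁻¹ = w⁻¹ → q⁻¹ * b * q ∈ Subgroup.normalizer ((R : Subgroup G) : Set G) := by
  have hcard : Nat.card (Subgroup.zpowers w) = r ^ (Nat.card G).factorization r := by
    rw [Nat.card_zpowers, hw, ← R.card_eq_multiplicity, hR]
  let W : Sylow r G := Sylow.ofCard (Subgroup.zpowers w) hcard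
  have hW : (W : Subgroup G) = Subgroup.zpowers w := rfl
  obtain ⟨g, hg⟩ := MulAction.exists_smul_eq G R W
  have hgt : g ∈ (Q ⊔ Subgroup.normalizer ((R : Subgroup G) : Set G) : Subgroup G) := by
    rw [sup_comm, hsup]; trivial
  rw [← SetLike.mem_coe, Subgroup.normal_mul] at hgt
  obtain ⟨q, hq, n, hn, rfl⟩ := hgt
  have hnR : n • R = R := Sylow.smul_eq_iff_mem_normalizer.2 hn
  rw [mul_smul, hnR] at hg
  refine ⟨q, hq, ?_⟩
  intro b hb
  have hbW : b • W = W := by
    rw [Sylow.smul_eq_iff_mem_normalizer]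
    change b ∈ Subgroup.normalizer ((Subgroup.zpowers w : Subgroup G) : Set G)
    rw [Subgroup.mem_normalizer_iff]
    have hb' : b⁻¹ * w * b = w⁻¹ := by
      have : w = b⁻¹ * (b * w * b⁻¹) * b := by group
      rw [hb] at this
      have h2 : w⁻¹ = (b⁻¹ * w⁻¹ * b)⁻¹ := by rw [← this]
      rw [h2]
      group
    intro h
    constructor
    · intro hh
      obtain ⟨i, rfl⟩ := Subgroup.mem_zpowers_iff.1 hh
      rw [← conj_zpow, hb]
      exact Subgroup.zpow_mem _ (inv_mem (Subgroup.mem_zpowers w)) i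
    · intro hh
      obtain ⟨i, hi⟩ := Subgroup.mem_zpowers_iff.1 hh
      have : h = b⁻¹ * (b * h * b⁻¹) * b := by group
      rw [this, ← hi]
      have e : b⁻¹ * w ^ i * b = (b⁻¹ * w * b) ^ i := by
        have := conj_zpow (a := b⁻¹) (b := w) (i := i)
        rw [inv_inv] at this
        exact this.symm
      rw [e, hb']
      exact Subgroup.zpow_mem _ (inv_mem (Subgroup.mem_zpowers w)) i
  have hfin : (q⁻¹ * b * q) • R = R := by
    rw [mul_smul, mul_smul, hg, hbW, ← hg, inv_smul_smul]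
  exact Sylow.smul_eq_iff_mem_normalizer.1 hfin

end Cfsg.Agent.Lib.H74DqMove
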