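import Mathlib

set_option autoImplicit false

namespace Cfsg.Agent.Lib.H74DqNQ

open DihedralGroup

variable {G : Type*} [Group G] [Finite G] {r : ℕ} [Fact r.Prime]

theorem nq (hr : r ≠ 2) (Q : Subgroup G) [Q.Normal] (hQ : IsPGroup 2 Q) (R : Subgroup G) (hR : Nat.card R = r)
    (hC : Q ⊓ Subgroup.centralizer (R : Set G) = ⊥) : Subgroup.normalizer (R : Set G) ⊓ Q = ⊥ := by
  have hrp : r.Prime := Fact.out
  have h2 : Fact (Nat.Prime 2) := ⟨Nat.prime_two⟩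
  have hQn : Q.Normal := inferInstance
  obtain ⟨k, hk⟩ := hQ.exists_card_eq
  have hRQ : R ⊓ Q = ⊥ := by
    apply disjoint_iff.mp
    apply Subgroup.disjoint_of_coprime_natCard
    rw [hR, hk]
    apply Nat.Coprime.pow_right
    exact (Nat.coprime_primes hrp Nat.prime_two).mpr hr
  rw [eq_bot_iff]
  intro u hu
  obtain ⟨hu1, hu2⟩ := Subgroup.mem_inf.mp hu
  rw [← hC, Subgroup.mem_inf]
  refine ⟨hu2, ?_⟩
  rw [Subgroup.mem_centralizer_iff]
  intro x hx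
  have h1 : u * x * u⁻¹ * x⁻¹ ∈ R ⊓ Q := by
    rw [Subgroup.mem_inf]
    constructor
    · exact R.mul_mem ((Subgroup.mem_normalizer_iff.mp hu1 x).mp hx) (R.inv_mem hx)
    · have h3 : x * u⁻¹ * x⁻¹ ∈ Q := hQn.conj_mem _ (Q.inv_mem hu2) x
      have : u * x * u⁻¹ * x⁻¹ = u * (x * u⁻¹ * x⁻¹) := by group
      rw [this]
      exact Q.mul_mem hu2 h3
  rw [hRQ, Subgroup.mem_bot] at h1
  calc x * u = (u * x * u⁻¹ * x⁻¹)⁻¹ * (u * x) := by group
    _ = u * x := by rw [h1, inv_one, one_mul]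

end Cfsg.Agent.Lib.H74DqNQ
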