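import Mathlib

set_option autoImplicit false

namespace Cfsg.Agent.Lib.H74DqProd

open DihedralGroup

variable {G : Type*} [Group G] [Finite G] {r : ℕ} [Fact r.Prime]

theorem prod (Q C C₂ : Subgroup G) (hC : C ≤ Q) (hC₂ : C₂ ≤ Q) (hd : C ⊓ C₂ = ⊥)
    (hp : ∀ q ∈ Q, ∃ c ∈ C, ∃ c₂ ∈ C₂, q = c * c₂) : Nat.card Q = Nat.card C * Nat.card C₂ := by
  let f : C × C₂ → Q := fun p => ⟨p.1.1 * p.2.1, Q.mul_mem (hC p.1.2) (hC₂ p.2.2)⟩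
  have hf : Function.Bijective f := by
    constructor
    · rintro ⟨⟨c, hc⟩, ⟨c₂, hc₂⟩⟩ ⟨⟨d, hd'⟩, ⟨d₂, hd₂⟩⟩ h
      have h1 : c * c₂ = d * d₂ := congrArg Subtype.val h
      have h2 : d⁻¹ * c = d₂ * c₂⁻¹ := by
        calc d⁻¹ * c = d⁻¹ * (c * c₂) * c₂⁻¹ := by group
          _ = d⁻¹ * (d * d₂) * c₂⁻¹ := by rw [h1]
          _ = d₂ * c₂⁻¹ := by group
      have h3 : d⁻¹ * c ∈ C ⊓ C₂ :=
        ⟨C.mul_mem (C.inv_mem hd') hc, by rw [h2]; exact C₂.mul_mem hd₂ (C₂.inv_mem hc₂)⟩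
      rw [hd, Subgroup.mem_bot] at h3
      have h4 : d = c := inv_mul_eq_one.mp h3
      subst h4
      have h5 : c₂ = d₂ := mul_left_cancel h1
      subst h5
      rfl
    · rintro ⟨q, hq⟩
      obtain ⟨c, hc, c₂, hc₂, rfl⟩ := hp q hq
      exact ⟨(⟨c, hc⟩, ⟨c₂, hc₂⟩), rfl⟩
  rw [← Nat.card_prod, Nat.card_eq_of_bijective f hf]

end Cfsg.Agent.Lib.H74DqProd
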