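import Mathlib
import Cfsg.Agent.Lib.H74DqCardR

set_option autoImplicit false

namespace Cfsg.Agent.Lib.H74DqSup

open DihedralGroup

variable {G : Type*} [Group G] [Finite G] {r : ℕ} [Fact r.Prime]

theorem sup (hr : r ≠ 2) (Q : Subgroup G) [Q.Normal] (hQ : IsPGroup 2 Q)
    (hG : Nat.card G = Nat.card Q * (2 * r)) (R : Sylow r G) :
    Subgroup.normalizer ((R : Subgroup G) : Set G) ⊔ Q = ⊤ := by
  have hrp : r.Prime := Fact.out
  have h2 : Fact (Nat.Prime 2) := ⟨Nat.prime_two⟩
  have hR : Nat.card (R : Subgroup G) = r := H74DqCardR.card_R hr Q hQ hG R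
  obtain ⟨k, hk⟩ := hQ.exists_card_eq
  set M := Q ⊔ (R : Subgroup G) with hM
  have hd1 : Nat.card Q ∣ Nat.card M := Subgroup.card_dvd_of_le le_sup_left
  have hd2 : r ∣ Nat.card M := by
    rw [← hR]; exact Subgroup.card_dvd_of_le le_sup_right
  have hcop : Nat.Coprime (Nat.card Q) r := by
    rw [hk]
    apply Nat.Coprime.pow_left
    exact (Nat.coprime_primes Nat.prime_two hrp).mpr hr.symm
  have hd3 : Nat.card Q * r ∣ Nat.card M := hcop.mul_dvd_of_dvd_of_dvd hd1 hd2
  obtain ⟨t, ht⟩ := hd3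
  have hidx := Subgroup.card_mul_index M
  rw [hG, ht] at hidx
  have hQpos : 0 < Nat.card Q := Nat.card_pos
  have hti : t * M.index = 2 := by
    have h3 : Nat.card Q * r * (t * M.index) = Nat.card Q * r * 2 := by
      rw [← mul_assoc, hidx]; ring
    exact Nat.eq_of_mul_eq_mul_left (Nat.mul_pos hQpos hrp.pos) h3
  have hMn : M.Normal := by
    have hdvd : M.index ∣ 2 := ⟨t, by rw [mul_comm]; exact hti.symm⟩
    rcases (Nat.dvd_prime Nat.prime_two).mp hdvd with h | h
    · rw [Subgroup.index_eq_one] at h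
      rw [h]; infer_instance
    · exact Subgroup.normal_of_index_eq_two h
  have hfr := Sylow.normalizer_sup_eq_top' R (N := M) le_sup_right
  have hle : (R : Subgroup G) ≤ Subgroup.normalizer ((R : Subgroup G) : Set G) := Subgroup.le_normalizer
  rw [eq_top_iff, ← hfr]
  apply sup_le le_sup_left
  rw [hM]
  exact sup_le le_sup_right (hle.trans le_sup_left)

end Cfsg.Agent.Lib.H74DqSup
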