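import Mathlib

set_option autoImplicit false

namespace Cfsg.Agent.Lib.H74DqW0

open DihedralGroup

variable {G : Type*} [Group G] [Finite G] {r : ℕ} [Fact r.Prime]

theorem r_pow' (a : ZMod r) (n : ℕ) : (DihedralGroup.r a) ^ n = DihedralGroup.r ((n : ZMod r) * a) := by
  induction n with
  | zero => rw [pow_zero, Nat.cast_zero, zero_mul, one_def]
  | succ n ih =>
    rw [pow_succ, ih, r_mul_r]
    congr 1
    push_cast
    ring

theorem pow_eq_zero_iff_of_ne_zero' {k : ℕ} (h : (2 : ZMod r) ^ k = 0) : (2 : ZMod r) = 0 :=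
  eq_zero_of_pow_eq_zero h

/-- PIECE W0 of project 2873 (row S2873).  (40 min) `v := b * b₂`, `|Q| = 2 ^ k`, `w := v ^ (2 ^ k)`.  `b v b⁻¹ = b₂ b = v⁻¹` and `b₂ v b₂⁻¹ = v⁻¹` (`b⁻¹ = b`, `b₂⁻¹ = b₂`), hence the same for the power `w` (`conj_pow`, `inv_pow`).  `φ v = sr i * sr j = r (j - i)` (`DihedralGroup.sr_mul_sr`), so `φ (v ^ r) = r (r • (j - i)) = 1` (`DihedralGroup.r_one_pow`-style or `r_pow`/induction; `(r : ZMod r) = 0`), `v ^ r ∈ Q`, `(v ^ r) ^ (2 ^ k) = 1` (`pow_card_eq_one'`), so `w ^ r = 1`.  `w ≠ 1`: `φ w = r (2 ^ k • (j - i)) ≠ 1` since `2 ^ k ≠ 0` and `j - i ≠ 0` in the field `ZMod r`.  `orderOf_eq_prime`. -/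
theorem w0 (hr : r ≠ 2) (Q : Subgroup G) (hQ : IsPGroup 2 Q) (φ : G →* DihedralGroup r) (hk : φ.ker = Q) (b b₂ : G)
    (hb : orderOf b = 2) (hb₂ : orderOf b₂ = 2) (i j : ZMod r) (hi : φ b = sr i) (hj : φ b₂ = sr j) (hij : i ≠ j) :
    ∃ w : G, orderOf w = r ∧ b * w * b⁻¹ = w⁻¹ ∧ b₂ * w * b₂⁻¹ = w⁻¹ := by
  have hrp : r.Prime := Fact.out
  obtain ⟨k, hkQ⟩ := (IsPGroup.iff_card).1 hQ
  have hbb : b * b = 1 := by rw [← sq, ← hb, pow_orderOf_eq_one]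
  have hbb₂ : b₂ * b₂ = 1 := by rw [← sq, ← hb₂, pow_orderOf_eq_one]
  have hbi : b⁻¹ = b := inv_eq_of_mul_eq_one_left hbb
  have hbi₂ : b₂⁻¹ = b₂ := inv_eq_of_mul_eq_one_left hbb₂
  have hv1 : b * (b * b₂) * b⁻¹ = (b * b₂)⁻¹ := by
    rw [mul_inv_rev, hbi, hbi₂, ← mul_assoc, hbb, one_mul]
  have hv2 : b₂ * (b * b₂) * b₂⁻¹ = (b * b₂)⁻¹ := by
    rw [mul_inv_rev, hbi, hbi₂, mul_assoc, mul_assoc, hbb₂, mul_one]
  have hφv : φ (b * b₂) = DihedralGroup.r (j - i) := by rw [map_mul, hi, hj, sr_mul_sr]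
  have h2 : (2 : ZMod r) ≠ 0 := by
    intro h
    have : ((2 : ℕ) : ZMod r) = 0 := by exact_mod_cast h
    rw [ZMod.natCast_eq_zero_iff] at this
    exact hr ((Nat.prime_dvd_prime_iff_eq hrp Nat.prime_two).1 this)
  refine ⟨(b * b₂) ^ (2 ^ k), ?_, ?_, ?_⟩
  · apply orderOf_eq_prime
    · have hmem : (b * b₂) ^ r ∈ Q := by
        rw [← hk, MonoidHom.mem_ker, map_pow, hφv, r_pow', CharP.cast_eq_zero, zero_mul, one_def]
      have h3 : ((⟨(b * b₂) ^ r, hmem⟩ : Q)) ^ (Nat.card Q) = 1 := pow_card_eq_one'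
      have h4 : ((b * b₂) ^ r) ^ (2 ^ k) = 1 := by
        rw [hkQ] at h3
        exact congrArg Subtype.val h3
      rw [← pow_mul, mul_comm, pow_mul]
      exact h4
    · intro h
      have h5 : φ ((b * b₂) ^ (2 ^ k)) = 1 := by rw [h, map_one]
      rw [map_pow, hφv, r_pow', one_def] at h5
      have h6 : ((2 ^ k : ℕ) : ZMod r) * (j - i) = 0 := DihedralGroup.r.inj h5
      rcases mul_eq_zero.1 h6 with h7 | h7
      · push_cast at h7
        exact h2 (pow_eq_zero_iff_of_ne_zero' h7)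
      · exact hij (sub_eq_zero.1 h7).symm
  · rw [← conj_pow, hv1, inv_pow]
  · rw [← conj_pow, hv2, inv_pow]

end Cfsg.Agent.Lib.H74DqW0
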