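import Mathlib
import Cfsg.Agent.Lib.H74DqCardG
import Cfsg.Agent.Lib.H74DqCardR
import Cfsg.Agent.Lib.H74DqNQ
import Cfsg.Agent.Lib.H74DqSup
import Cfsg.Agent.Lib.H74DqInj
import Cfsg.Agent.Lib.H74DqIso
import Cfsg.Agent.Lib.H74DqConjN
import Cfsg.Agent.Lib.H74DqImgSr
import Cfsg.Agent.Lib.H74DqW0
import Cfsg.Agent.Lib.H74DqMove
import Cfsg.Agent.Lib.H74DqCardCent
import Cfsg.Agent.Lib.H74DqCentR
import Cfsg.Agent.Lib.H74DqProd
import Cfsg.Agent.Lib.H74DqExistsX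

set_option autoImplicit false

namespace Cfsg.Agent.Lib.H74DqMain

open DihedralGroup

variable {G : Type*} [Group G] [Finite G] {r : ℕ} [Fact r.Prime]

/-- assembly -/
theorem main (hr : r ≠ 2) (Q : Subgroup G) [Q.Normal] (hQ : IsPGroup 2 Q) (φ : G →* DihedralGroup r)
    (hs : Function.Surjective φ) (hk : φ.ker = Q) (R : Sylow r G)
    (hC : Q ⊓ Subgroup.centralizer ((R : Subgroup G) : Set G) = ⊥) :
    Nonempty (↥(Subgroup.normalizer ((R : Subgroup G) : Set G)) ≃* DihedralGroup r) ∧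
    ∀ a : G, a ∈ Subgroup.normalizer ((R : Subgroup G) : Set G) → orderOf a = 2 →
      (∀ b : G, orderOf b = 2 → b ∉ Q → ∃ g : G, g * a * g⁻¹ = b) ∧
      Nat.card ↥(Q ⊓ Subgroup.centralizer ({a} : Set G)) ^ 2 = Nat.card ↥Q := by
  have hG := H74DqCardG.card_G Q φ hs hk
  have hR := H74DqCardR.card_R hr Q hQ hG R
  have hNQ := H74DqNQ.nq hr Q hQ (R : Subgroup G) hR hC
  have hsup := H74DqSup.sup hr Q hQ hG R
  obtain ⟨e⟩ := H74DqIso.iso Q _ φ hs hk hNQ hsup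
  have hNcard : Nat.card ↥(Subgroup.normalizer ((R : Subgroup G) : Set G)) = 2 * r := by
    rw [Nat.card_congr e.toEquiv, DihedralGroup.nat_card]
  -- two involutions with different images are moved into `N` by one element of `Q`
  have two : ∀ b b₂ : G, orderOf b = 2 → orderOf b₂ = 2 → ∀ i j : ZMod r, φ b = sr i → φ b₂ = sr j → i ≠ j →
      ∃ q ∈ Q, q⁻¹ * b * q ∈ Subgroup.normalizer ((R : Subgroup G) : Set G) ∧
        q⁻¹ * b₂ * q ∈ Subgroup.normalizer ((R : Subgroup G) : Set G) := by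
    intro b b₂ hb hb₂ i j hi hj hij
    obtain ⟨w, hw, h1, h2⟩ := H74DqW0.w0 hr Q hQ φ hk b b₂ hb hb₂ i j hi hj hij
    obtain ⟨q, hq, hq'⟩ := H74DqMove.move Q R hR hsup w hw
    exact ⟨q, hq, hq' b h1, hq' b₂ h2⟩
  have hφq : ∀ q ∈ Q, φ q = 1 := fun q hq => by
    rw [← hk] at hq
    exact hq
  have ord_conj : ∀ g b : G, orderOf (g * b * g⁻¹) = orderOf b := fun g b => by
    have := (MulAut.conj g).orderOf_eq b
    simpa using this
  refine ⟨⟨e⟩, fun a ha ha2 => ?_⟩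
  have haQ : a ∉ Q := by
    intro h
    have h1 : a ∈ Subgroup.normalizer ((R : Subgroup G) : Set G) ⊓ Q := ⟨ha, h⟩
    rw [hNQ, Subgroup.mem_bot] at h1
    rw [h1, orderOf_one] at ha2
    omega
  obtain ⟨i, hi⟩ := H74DqImgSr.img_sr hr Q φ hk a ha2 haQ
  refine ⟨fun b hb hbQ => ?_, ?_⟩
  · obtain ⟨j, hj⟩ := H74DqImgSr.img_sr hr Q φ hk b hb hbQ
    obtain ⟨x, hx, j', hj', hx'⟩ := H74DqExistsX.exists_x hr Q hQ φ hk (R : Subgroup G) hR j b hj
    obtain ⟨q, hq, h1, -⟩ := two b (x * b * x⁻¹) hb (by rw [ord_conj, hb]) j j' hj hx' hj'.symm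
    have h2 : orderOf (q⁻¹ * b * q) = 2 := by
      have := ord_conj q⁻¹ b
      rw [inv_inv] at this
      rw [this, hb]
    obtain ⟨n, -, hn⟩ := H74DqConjN.conjN hr _ hNcard a (q⁻¹ * b * q) ha h1 ha2 h2
    refine ⟨q * n, ?_⟩
    have : q * n * a * (q * n)⁻¹ = q * (n * a * n⁻¹) * q⁻¹ := by group
    rw [this, hn]
    group
  · obtain ⟨x, hx, j, hj, hx'⟩ := H74DqExistsX.exists_x hr Q hQ φ hk (R : Subgroup G) hR i a hi
    set a₂ := x * a * x⁻¹ with ha₂
    have hxN : x ∈ Subgroup.normalizer ((R : Subgroup G) : Set G) := Subgroup.le_normalizer hx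
    have ha₂N : a₂ ∈ Subgroup.normalizer ((R : Subgroup G) : Set G) :=
      Subgroup.mul_mem _ (Subgroup.mul_mem _ hxN ha) (Subgroup.inv_mem _ hxN)
    have hne : a₂ ≠ a := by
      intro h
      rw [h, hi] at hx'
      exact hj (DihedralGroup.sr.inj hx').symm
    have hcard := H74DqCardCent.card_cent_conj Q a x
    have hprod := H74DqProd.prod Q (Q ⊓ Subgroup.centralizer ({a} : Set G)) (Q ⊓ Subgroup.centralizer ({a₂} : Set G))
      inf_le_left inf_le_left ?_ ?_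
    · rw [hprod, hcard, sq]
    · rw [eq_bot_iff]
      intro u hu
      rw [Subgroup.mem_inf, Subgroup.mem_inf, Subgroup.mem_inf] at hu
      obtain ⟨⟨huQ, hu1⟩, -, hu2⟩ := hu
      rw [Subgroup.mem_centralizer_singleton_iff] at hu1 hu2
      have := H74DqCentR.cent_R (R : Subgroup G) hR a x ha ha2 hx hne u hu1 hu2
      have h3 : u ∈ Q ⊓ Subgroup.centralizer ((R : Subgroup G) : Set G) := ⟨huQ, this⟩
      rw [hC] at h3
      exact h3
    · intro q' hq'
      -- b = a, b₂ = q' a₂ q'⁻¹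
      have hb₂ : orderOf (q' * a₂ * q'⁻¹) = 2 := by rw [ord_conj, ha₂, ord_conj, ha2]
      have hφb₂ : φ (q' * a₂ * q'⁻¹) = sr j := by
        rw [map_mul, map_mul, map_inv, hφq q' hq', hx']
        simp
      obtain ⟨q, hq, h1, h2⟩ := two a (q' * a₂ * q'⁻¹) ha2 hb₂ i j hi hφb₂ hj.symm
      have e1 : q⁻¹ * a * q = a := by
        apply H74DqInj.inj Q _ φ hk hNQ _ _ h1 ha
        rw [map_mul, map_mul, map_inv, hφq q hq]
        simp
      have e2 : q⁻¹ * (q' * a₂ * q'⁻¹) * q = a₂ := by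
        apply H74DqInj.inj Q _ φ hk hNQ _ _ h2 ha₂N
        rw [map_mul, map_mul, map_inv, hφq q hq, hφb₂, hx']
        simp
      refine ⟨q, Subgroup.mem_inf.2 ⟨hq, ?_⟩, q⁻¹ * q',
        Subgroup.mem_inf.2 ⟨Subgroup.mul_mem _ (Subgroup.inv_mem _ hq) hq', ?_⟩, by group⟩
      · rw [Subgroup.mem_centralizer_singleton_iff]
        calc q * a = q * (q⁻¹ * a * q) := by rw [e1]
          _ = a * q := by group
      · rw [Subgroup.mem_centralizer_singleton_iff]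
        calc q⁻¹ * q' * a₂ = (q⁻¹ * (q' * a₂ * q'⁻¹) * q) * (q⁻¹ * q') := by group
          _ = a₂ * (q⁻¹ * q') := by rw [e2]

end Cfsg.Agent.Lib.H74DqMain
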