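import Mathlib
import Cfsg.Agent.Lib.Helper71ZaDefs

set_option autoImplicit false
set_option linter.unusedSectionVars false

namespace Cfsg.Agent.Lib.Helper76ZaOPS

open Cfsg.Agent.Lib.Helper71ZaDefs Subgroup

/-! ## OPS : operator identities -/
section ops
variable {E : Type*} [Field E] {H : Type*} [Group H] [Finite H] {V : Type*} [AddCommGroup V]
  [Module E V] {ρ : Representation E H V}

theorem ops_inj [Nontrivial V] (hρ : Fpf ρ) : Function.Injective ρ := by
  rw [injective_iff_map_eq_one]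
  intro h hh
  by_contra hne
  obtain ⟨v, hv⟩ := exists_ne (0 : V)
  exact hv (hρ h hne v (by rw [hh]; rfl))

theorem ops_inv (h : H) : ρ h * ρ h⁻¹ = 1 ∧ ρ h⁻¹ * ρ h = 1 := by
  constructor
  · rw [← map_mul, mul_inv_cancel, map_one]
  · rw [← map_mul, inv_mul_cancel, map_one]

theorem ops_sum (hρ : Fpf ρ) {h : H} (hh : h ≠ 1) :
    ∑ k ∈ Finset.range (orderOf h), ρ h ^ k = 0 := by
  have key : (ρ h - 1) * ∑ k ∈ Finset.range (orderOf h), ρ h ^ k = 0 := by
    rw [mul_geom_sum, ← map_pow, pow_orderOf_eq_one, map_one, sub_self]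
  ext v
  have h1 := LinearMap.congr_fun key v
  simp only [Module.End.mul_apply, LinearMap.sub_apply, Module.End.one_apply,
    LinearMap.zero_apply] at h1
  exact hρ h hh _ (sub_eq_zero.mp h1)

theorem ops_two (hρ : Fpf ρ) {z : H} (hz : orderOf z = 2) : ρ z = -1 := by
  have hne : z ≠ 1 := by
    rintro rfl
    simp at hz
  have := ops_sum hρ hne
  rw [hz] at this
  simp only [Finset.sum_range_succ, Finset.sum_range_zero, pow_zero, pow_one, zero_add] at this
  exact eq_neg_of_add_eq_zero_right this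

theorem inv_eq_pow {h : H} {n : ℕ} (hn : orderOf h = n + 1) : ρ h⁻¹ = ρ h ^ n := by
  have : h⁻¹ = h ^ n := by
    rw [inv_eq_iff_mul_eq_one, ← pow_succ', ← hn, pow_orderOf_eq_one]
  rw [this, map_pow]

theorem ops_three (hρ : Fpf ρ) {x : H} (hx : orderOf x = 3) : ρ x + ρ x⁻¹ = -1 := by
  have hne : x ≠ 1 := by
    rintro rfl
    simp at hx
  have := ops_sum hρ hne
  rw [hx] at this
  simp only [Finset.sum_range_succ, Finset.sum_range_zero, pow_zero, pow_one, zero_add] at this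
  rw [inv_eq_pow (n := 2) hx]
  have h2 : (1 : Module.End E V) + (ρ x + ρ x ^ 2) = 0 := by rw [← this]; abel
  exact eq_neg_of_add_eq_zero_right h2

theorem ops_four (hρ : Fpf ρ) {i : H} (hi : orderOf i = 4) :
    ρ i * ρ i = -1 ∧ ρ i⁻¹ = - ρ i := by
  have h2 : orderOf (i ^ 2) = 2 := by
    rw [orderOf_pow' _ (by norm_num), hi]
    norm_num
  have h3 := ops_two hρ h2
  rw [map_pow, pow_two] at h3
  refine ⟨h3, ?_⟩
  rw [inv_eq_pow (n := 3) hi, pow_succ, pow_two, h3]
  simp

theorem ops_six (hρ : Fpf ρ) {g : H} (hg : orderOf g = 6) : ρ g + ρ g⁻¹ = 1 := by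
  have h2 : orderOf (g ^ 3) = 2 := by
    rw [orderOf_pow' _ (by norm_num), hg]
    norm_num
  have h3 : orderOf (g ^ 2) = 3 := by
    rw [orderOf_pow' _ (by norm_num), hg]
    norm_num
  have e2 := ops_two hρ h2
  have e3 := ops_three hρ h3
  rw [inv_eq_pow (n := 2) h3] at e3
  rw [map_pow] at e2 e3
  rw [inv_eq_pow (n := 5) hg]
  set G := ρ g with hG
  have e5 : G ^ 5 = - G ^ 2 := by
    have : G ^ 5 = G ^ 3 * G ^ 2 := by rw [← pow_add]
    rw [this, e2]; simp
  have e4 : (G ^ 2) ^ 2 = - G := by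
    have : (G ^ 2) ^ 2 = G ^ 3 * G := by rw [← pow_mul, ← pow_succ]
    rw [this, e2]; simp
  rw [e4] at e3
  rw [e5]
  have : G + - G ^ 2 = - (G ^ 2 + - G) := by abel
  rw [this, e3, neg_neg]

theorem ops_five (hρ : Fpf ρ) {g : H} (hg : orderOf g = 5) :
    (ρ g + ρ g⁻¹) * (ρ g + ρ g⁻¹) + (ρ g + ρ g⁻¹) - 1 = 0 := by
  have hne : g ≠ 1 := by
    rintro rfl
    simp at hg
  have := ops_sum hρ hne
  rw [hg] at this
  simp only [Finset.sum_range_succ, Finset.sum_range_zero, pow_zero, pow_one, zero_add] at this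
  have h5 : ρ g ^ 5 = 1 := by rw [← map_pow, ← hg, pow_orderOf_eq_one, map_one]
  rw [inv_eq_pow (n := 4) hg]
  set G := ρ g with hG
  have e8 : G ^ 8 = G ^ 3 := by
    have : G ^ 8 = G ^ 5 * G ^ 3 := by rw [← pow_add]
    rw [this, h5, one_mul]
  have : (G + G ^ 4) * (G + G ^ 4) + (G + G ^ 4) - 1
      = G ^ 2 + 2 * G ^ 5 + G ^ 8 + G + G ^ 4 - 1 := by
    noncomm_ring
  rw [this, h5, e8]
  have h0 : G ^ 2 + 2 * 1 + G ^ 3 + G + G ^ 4 - 1 = 1 + G + G ^ 2 + G ^ 3 + G ^ 4 := by
    noncomm_ring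
  rw [h0]; assumption

theorem ops_ten (hρ : Fpf ρ) {g : H} (hg : orderOf g = 10) :
    (ρ g + ρ g⁻¹) * (ρ g + ρ g⁻¹) - (ρ g + ρ g⁻¹) - 1 = 0 := by
  have h2 : orderOf (g ^ 5) = 2 := by
    rw [orderOf_pow' _ (by norm_num), hg]
    norm_num
  have h5 : orderOf (g ^ 6) = 5 := by
    rw [orderOf_pow' _ (by norm_num), hg]
    norm_num
  have e2 := ops_two hρ h2
  have e5 := ops_five hρ h5
  have e6 : ρ (g ^ 6) = - ρ g := by
    rw [pow_succ, map_mul, e2]; simp
  have e6' : ρ (g ^ 6)⁻¹ = - ρ g⁻¹ := by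
    have : (g ^ 6)⁻¹ = g ^ 5 * g⁻¹ := by
      rw [inv_eq_iff_mul_eq_one]
      have : g ^ 6 * (g ^ 5 * g⁻¹) = g ^ 10 := by group
      rw [this, ← hg, pow_orderOf_eq_one]
    rw [this, map_mul, e2]; simp
  rw [e6, e6'] at e5
  rw [← e5]
  noncomm_ring

/-- the characteristic does not divide the order of an element -/
theorem ops_char [Nontrivial V] (hρ : Fpf ρ) {g : H} {q : ℕ} (hq : q.Prime) (hg : q ∣ orderOf g) :
    (q : E) ≠ 0 := by
  intro h0
  obtain ⟨m, hm⟩ := hg
  have hpos : 0 < orderOf g := orderOf_pos g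
  have hmpos : 0 < m := by
    rcases Nat.eq_zero_or_pos m with h | h
    · rw [h] at hm; omega
    · exact h
  have ho : orderOf (g ^ m) = q := by
    rw [orderOf_pow' _ hmpos.ne', hm, Nat.gcd_eq_right (Dvd.intro_left q rfl),
      Nat.mul_div_cancel _ hmpos]
  set h := g ^ m with hh
  have hne : h ≠ 1 := by
    intro h1
    rw [h1, orderOf_one] at ho
    exact hq.one_lt.ne ho
  have : Fact q.Prime := ⟨hq⟩
  have : CharP E q := by
    have := CharP.exists E
    obtain ⟨c, hc⟩ := this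
    have hdvd : c ∣ q := (CharP.cast_eq_zero_iff E c q).mp h0
    rcases (Nat.dvd_prime hq).mp hdvd with h1 | h1
    · subst h1
      exact absurd rfl (CharP.char_ne_one E 1)
    · subst h1; exact hc
  have : CharP (Module.End E V) q := by
    exact charP_of_injective_algebraMap (FaithfulSMul.algebraMap_injective E (Module.End E V)) q
  have hpow : (ρ h - 1) ^ q = 0 := by
    rw [sub_pow_char_of_commute q (Commute.one_right _), one_pow,
      ← map_pow, ← ho, pow_orderOf_eq_one, map_one, sub_self]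
  -- ρ h - 1 is injective
  have hinj : Function.Injective (ρ h - 1 : Module.End E V) := by
    rw [injective_iff_map_eq_zero]
    intro v hv
    simp only [LinearMap.sub_apply, Module.End.one_apply] at hv
    exact hρ h hne v (sub_eq_zero.mp hv)
  have hinj' : Function.Injective ((ρ h - 1 : Module.End E V) ^ q) := by
    rw [Module.End.coe_pow]
    exact hinj.iterate q
  obtain ⟨v, hv⟩ := exists_ne (0 : V)
  apply hv
  apply hinj'
  rw [hpow]; simp

theorem ops_order_three [Nontrivial V] (hρ : Fpf ρ) (h3 : (3 : E) ≠ 0) {u : H}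
    (hu : ρ u + ρ u⁻¹ = -1) : orderOf u = 3 := by
  have hinv := ops_inv (ρ := ρ) u
  have e1 : ρ u * ρ u + ρ u + 1 = 0 := by
    have : ρ u * (ρ u + ρ u⁻¹) = ρ u * (-1) := by rw [hu]
    rw [mul_add, hinv.1] at this
    have h2 : ρ u * ρ u + ρ u + 1 = (ρ u * ρ u + 1) + ρ u := by abel
    rw [h2, this]; simp
  have e3 : ρ (u ^ 3) = 1 := by
    rw [map_pow]
    have : ρ u ^ 3 - 1 = (ρ u - 1) * (ρ u * ρ u + ρ u + 1) := by noncomm_ring
    rw [e1, mul_zero] at this
    exact sub_eq_zero.mp this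
  have h1 : u ^ 3 = 1 := ops_inj hρ (by rw [e3, map_one])
  have hne : u ≠ 1 := by
    rintro rfl
    rw [map_one] at e1
    obtain ⟨v, hv⟩ := exists_ne (0 : V)
    have := LinearMap.congr_fun e1 v
    simp only [mul_one, LinearMap.add_apply, Module.End.one_apply, LinearMap.zero_apply] at this
    have h3v : (3 : E) • v = 0 := by
      rw [← this]
      have : (3 : E) = 1 + 1 + 1 := by norm_num
      rw [this, add_smul, add_smul, one_smul]
    rcases smul_eq_zero.mp h3v with h | h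
    · exact h3 h
    · exact hv h
  exact orderOf_eq_prime h1 hne

end ops

end Cfsg.Agent.Lib.Helper76ZaOPS
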