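import Mathlib
import Cfsg.Agent.Lib.Helper71ZaDefs
import Cfsg.Agent.Lib.Helper76ZaOPS

set_option autoImplicit false
set_option linter.unusedSectionVars false

namespace Cfsg.Agent.Lib.Helper76ZaZ12

open Cfsg.Agent.Lib.Helper71ZaDefs Subgroup Cfsg.Agent.Lib.Helper76ZaOPS

/-! ## Z12 : unique involution, abelian subgroups are cyclic -/
section z12
variable {E : Type*} [Field E] [IsAlgClosed E] {H : Type*} [Group H] [Finite H] {V : Type*}
  [AddCommGroup V] [Module E V] [FiniteDimensional E V] [Nontrivial V] {ρ : Representation E H V}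

theorem zg_invol (hρ : Fpf ρ) (a b : H) (ha : orderOf a = 2) (hb : orderOf b = 2) : a = b :=
  ops_inj hρ (by rw [ops_two hρ ha, ops_two hρ hb])

/-- a finite commuting family of operators has a common eigenvector in every nonzero invariant
subspace -/
theorem exists_common_aux (s : Finset (Module.End E V)) :
    (∀ f ∈ s, ∀ g ∈ s, f * g = g * f) → ∀ W : Submodule E V, W ≠ ⊥ →
    (∀ f ∈ s, ∀ w ∈ W, f w ∈ W) →
    ∃ w ∈ W, w ≠ 0 ∧ ∀ f ∈ s, ∃ a : E, f w = a • w := by
  classical
  induction s using Finset.induction_on with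
  | empty =>
    intro _ W hW _
    obtain ⟨w, hw, hw0⟩ := Submodule.exists_mem_ne_zero_of_ne_bot hW
    exact ⟨w, hw, hw0, by simp⟩
  | insert f s hfs ih =>
    intro hcomm W hW hinv
    have hfW : ∀ w ∈ W, f w ∈ W := hinv f (Finset.mem_insert_self _ _)
    have : Nontrivial W := (Submodule.nontrivial_iff_ne_bot).mpr hW
    obtain ⟨μ, hμ⟩ := Module.End.exists_eigenvalue (f.restrict hfW)
    obtain ⟨w, hw⟩ := hμ.exists_hasEigenvector
    have hw1 : f w.1 = μ • w.1 := by
      have := hw.apply_eq_smul
      exact congrArg Subtype.val this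
    have hw0 : w.1 ≠ 0 := fun h => hw.2 (Subtype.ext h)
    obtain ⟨u, hu, hu0, hus⟩ := ih (fun g hg k hk => hcomm g (Finset.mem_insert_of_mem hg) k
      (Finset.mem_insert_of_mem hk)) (W ⊓ Module.End.eigenspace f μ)
      (by
        intro hbot
        apply hw0
        have : w.1 ∈ W ⊓ Module.End.eigenspace f μ :=
          ⟨w.2, Module.End.mem_eigenspace_iff.mpr hw1⟩
        rw [hbot] at this
        exact (Submodule.mem_bot E).mp this)
      (by
        intro g hg v hv
        refine ⟨hinv g (Finset.mem_insert_of_mem hg) v hv.1, ?_⟩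
        apply Module.End.mem_eigenspace_iff.mpr
        have h1 : f v = μ • v := Module.End.mem_eigenspace_iff.mp hv.2
        have h2 := LinearMap.congr_fun (hcomm f (Finset.mem_insert_self _ _) g
          (Finset.mem_insert_of_mem hg)) v
        simp only [Module.End.mul_apply] at h2
        rw [h2, h1, map_smul])
    refine ⟨u, hu.1, hu0, ?_⟩
    intro g hg
    rcases Finset.mem_insert.mp hg with rfl | hg
    · exact ⟨μ, Module.End.mem_eigenspace_iff.mp hu.2⟩
    · exact hus g hg

theorem exists_common (s : Finset (Module.End E V)) (hs : ∀ f ∈ s, ∀ g ∈ s, f * g = g * f) :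
    ∃ w : V, w ≠ 0 ∧ ∀ f ∈ s, ∃ a : E, f w = a • w := by
  obtain ⟨w, -, hw⟩ := exists_common_aux s hs ⊤ top_ne_bot (fun _ _ _ _ => Submodule.mem_top)
  exact ⟨w, hw⟩

theorem zg_cyc (hρ : Fpf ρ) (A : Subgroup H) (hA : ∀ a ∈ A, ∀ b ∈ A, a * b = b * a) :
    IsCyclic A := by
  classical
  have := Fintype.ofFinite A
  obtain ⟨w, hw0, hw⟩ := exists_common ((Finset.univ : Finset A).image (fun a => ρ a.1)) (by
    intro f hf g hg
    obtain ⟨a, -, rfl⟩ := Finset.mem_image.mp hf
    obtain ⟨b, -, rfl⟩ := Finset.mem_image.mp hg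
    rw [← map_mul, ← map_mul, hA a.1 a.2 b.1 b.2])
  have hw' : ∀ a : A, ∃ c : E, ρ a.1 w = c • w := fun a =>
    hw _ (Finset.mem_image.mpr ⟨a, Finset.mem_univ _, rfl⟩)
  choose χ hχ using hw'
  have hinjw : ∀ c d : E, c • w = d • w → c = d := fun c d h => smul_left_injective E hw0 h
  let φ : A →* E :=
    { toFun := χ
      map_one' := by
        apply hinjw
        rw [← hχ, one_smul]
        simp
      map_mul' := by
        intro a b
        apply hinjw
        rw [← hχ]
        simp only [Subgroup.coe_mul, map_mul, Module.End.mul_apply]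
        rw [hχ b, map_smul, hχ a, smul_smul, mul_comm] }
  apply isCyclic_of_injective_ringHom φ
  rw [injective_iff_map_eq_one]
  intro a ha
  by_contra hne
  apply hw0
  apply hρ a.1 (fun h => hne (Subtype.ext h)) w
  rw [hχ a]
  have : χ a = 1 := ha
  rw [this, one_smul]

/-- two commuting operators have a common eigenvector -/
theorem exists_common_eigenvector (f g : Module.End E V) (hfg : f * g = g * f) :
    ∃ (w : V) (a b : E), w ≠ 0 ∧ f w = a • w ∧ g w = b • w := by
  classical
  obtain ⟨w, hw0, hw⟩ := exists_common ({f, g} : Finset (Module.End E V)) (by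
    intro a ha b hb
    simp only [Finset.mem_insert, Finset.mem_singleton] at ha hb
    rcases ha with rfl | rfl <;> rcases hb with rfl | rfl <;> simp [hfg])
  obtain ⟨a, ha⟩ := hw f (by simp)
  obtain ⟨b, hb⟩ := hw g (by simp)
  exact ⟨w, a, b, hw0, ha, hb⟩

/-- three pairwise commuting operators have a common eigenvector -/
theorem exists_common_eigenvector₃ (f g h : Module.End E V) (hfg : f * g = g * f)
    (hfh : f * h = h * f) (hgh : g * h = h * g) :
    ∃ (w : V) (a b c : E), w ≠ 0 ∧ f w = a • w ∧ g w = b • w ∧ h w = c • w := by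
  classical
  obtain ⟨w, hw0, hw⟩ := exists_common ({f, g, h} : Finset (Module.End E V)) (by
    intro a ha b hb
    simp only [Finset.mem_insert, Finset.mem_singleton] at ha hb
    rcases ha with rfl | rfl | rfl <;> rcases hb with rfl | rfl | rfl <;> simp [hfg, hfh, hgh])
  obtain ⟨a, ha⟩ := hw f (by simp)
  obtain ⟨b, hb⟩ := hw g (by simp)
  obtain ⟨c, hc⟩ := hw h (by simp)
  exact ⟨w, a, b, c, hw0, ha, hb, hc⟩

end z12

end Cfsg.Agent.Lib.Helper76ZaZ12
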