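import Mathlib
import Cfsg.Agent.S0041
import Cfsg.Agent.Lib.Helper36ZaLIN2
import Cfsg.Agent.Lib.Helper76ZaZ12

set_option autoImplicit false

/-! PROJECT 175 (S3358, solvable Frobenius complements).  Piece `Props`.
`hinv`, `hcyc`: `Helper36ZaLIN2.fc_of_frobenius_complement`, `Helper36ZaLIN1.fc_of_injective`, `Helper76ZaZ12.zg_invol / zg_cyc`.
`hpq`: inside `L` copy the beginning of the proof of `fc_of_frobenius_complement` (kernel `N`, an `H`-invariant abelian `V ≤ N`, `V ≠ ⊥`,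
on which `H` acts fixed point freely) and apply `Cfsg.Agent.S0041.result A V` to the image `A ≤ H ≤ L` of the subgroup of order `pq`. -/

namespace Cfsg.Agent.Lib.H75ZProps

open Subgroup Cfsg.Agent.Lib.Helper71ZaDefs

theorem props {G : Type*} [Group G] [Finite G]
    (hFC : ∃ (L : Type) (_ : Group L) (_ : Finite L) (H : Subgroup L), Cfsg.IsFrobeniusComplement H ∧ Nonempty (G ≃* H)) :
    (∀ a b : G, orderOf a = 2 → orderOf b = 2 → a = b) ∧
    (∀ A : Subgroup G, (∀ a ∈ A, ∀ b ∈ A, a * b = b * a) → IsCyclic A) ∧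
    (∀ (A : Subgroup G) (p q : ℕ), p.Prime → q.Prime → Nat.card A = p * q → IsCyclic A) := by
  obtain ⟨L, _, _, H, hH, ⟨e⟩⟩ := hFC
  have hfcH := Cfsg.Agent.Lib.Helper36ZaLIN2.fc_of_frobenius_complement H hH
  have hfcG : FC G := Cfsg.Agent.Lib.Helper36ZaLIN1.fc_of_injective hfcH e.toMonoidHom e.injective
  obtain ⟨p, _, d, ρ, hd, hρ⟩ := hfcG
  have : Nonempty (Fin d) := ⟨⟨0, hd⟩⟩
  refine ⟨Cfsg.Agent.Lib.Helper76ZaZ12.zg_invol hρ, Cfsg.Agent.Lib.Helper76ZaZ12.zg_cyc hρ, ?_⟩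
  intro A p q hp hq hA
  obtain ⟨N, h1, -, -⟩ := Cfsg.Agent.S0035.result H hH
  have hFD : Cfsg.Agent.Lib.Helper71TwoFrob.FD N H := ⟨hH, h1.symm⟩
  have hnil := hFD.nilpotent
  have hnor := hFD.normal
  have hHN : H ≤ normalizer (N : Set L) := by
    rw [normalizer_eq_top]; exact le_top
  obtain ⟨V, hVN, hV, hVc, hHV⟩ :=
    Cfsg.Agent.Lib.Helper1FpfSylow.exists_invariant_abelian H N hHN hFD.ne_bot
      hFD.coprime.symm (Or.inr inferInstance)
  let φ : G →* L := H.subtype.comp e.toMonoidHom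
  have hφ : Function.Injective φ := H.subtype_injective.comp e.injective
  have hle : A.map φ ≤ H := by
    rintro _ ⟨a, -, rfl⟩
    exact (e a).2
  have hcyc : IsCyclic (A.map φ) := by
    refine Cfsg.Agent.S0041.result (A.map φ) V hV (hle.trans hHV) ?_
      (Or.inr ⟨p, q, hp, hq, by rw [card_map_of_injective hφ, hA]⟩)
    intro h hh hh1
    rw [eq_bot_iff, ← hFD.fpf h (hle hh) hh1]
    exact inf_le_inf_right _ hVN
  exact isCyclic_of_surjective (A.equivMapOfInjective φ hφ).symm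
    (A.equivMapOfInjective φ hφ).symm.surjective

end Cfsg.Agent.Lib.H75ZProps
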