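import Mathlib
import Cfsg.Prelude.Def_CaseTheorems
import Cfsg.Agent.S1307

set_option autoImplicit false

/-! PROJECT 3304 = RI (row S3304, 3u), piece `Hom` (est. 30m).
SKETCH.  If `n = 0` then `ZMod 1` is a subsingleton and `Nat.card Q = 1` (`Nat.card_congr e.toEquiv`).  If `n ≥ 1` put `h := Multiplicative.ofAdd ((2 ^ (n - 1) : ℕ) : ZMod (2 ^ n))`; `h ^ 2 = 1`, `h ≠ 1`
(`ZMod.natCast_eq_zero_iff`: `2 ^ n ∤ 2 ^ (n - 1)`).  `a := e.symm (h, 1)`, `b := e.symm (1, h)` are commuting distinct involutions of `Q`: `Cfsg.Agent.S1307.inv_eq hr` gives `a = b`, contradiction. -/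

namespace Cfsg.Agent.Lib.H78RiHom

theorem card_eq_one {Q : Type*} [Group Q] [Finite Q] (n : ℕ)
    (e : Q ≃* Multiplicative (ZMod (2 ^ n)) × Multiplicative (ZMod (2 ^ n)))
    (hr : Cfsg.PRankLE 2 1 Q) : Nat.card Q = 1 := by
  rcases Nat.eq_zero_or_pos n with rfl | hn
  · have h1 : Subsingleton (ZMod (2 ^ 0)) := by rw [pow_zero]; infer_instance
    have h2 : Subsingleton (Multiplicative (ZMod (2 ^ 0))) := h1
    have h3 : Subsingleton Q := e.toEquiv.subsingleton
    exact Nat.card_of_subsingleton 1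
  · exfalso
    obtain ⟨h, hdef⟩ : ∃ h : Multiplicative (ZMod (2 ^ n)),
      h = Multiplicative.ofAdd ((2 ^ (n - 1) : ℕ) : ZMod (2 ^ n)) := ⟨_, rfl⟩
    have hh2 : h ^ 2 = 1 := by
      rw [hdef, ← ofAdd_nsmul, ← ofAdd_zero]
      congr 1
      rw [nsmul_eq_mul, ← Nat.cast_mul, ZMod.natCast_eq_zero_iff, ← pow_succ']
      have : n - 1 + 1 = n := by omega
      rw [this]
    have hh1 : h ≠ 1 := by
      intro hc
      rw [hdef] at hc
      have h0 : ((2 ^ (n - 1) : ℕ) : ZMod (2 ^ n)) = 0 := Multiplicative.ofAdd.injective hc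
      rw [ZMod.natCast_eq_zero_iff] at h0
      have h1 := Nat.le_of_dvd (by positivity) h0
      have h2 : 2 ^ (n - 1) < 2 ^ n := Nat.pow_lt_pow_right (by norm_num) (by omega)
      omega
    have hab := Cfsg.Agent.S1307.inv_eq hr (a := e.symm (h, 1)) (b := e.symm (1, h))
      (by rw [← map_mul, ← map_mul]; congr 1; simp)
      (by rw [← map_pow]; simp [hh2])
      (by rw [← map_pow]; simp [hh2])
      (by
        intro hc
        have := congrArg e hc
        simp at this
        exact hh1 this)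
      (by
        intro hc
        have := congrArg e hc
        simp at this
        exact hh1 this)
    have h3 := e.symm.injective hab
    exact hh1 (congrArg Prod.fst h3)

end Cfsg.Agent.Lib.H78RiHom
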