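import Mathlib
import Cfsg.Prelude.Def_CaseTheorems
import Cfsg.Agent.S1307

set_option autoImplicit false

/-! PROJECT 3304 = RI (row S3304, 3u), piece `Uniq`. -/

namespace Cfsg.Agent.Lib.H78RiUniq

theorem eq_zpowers {X : Type*} [Group X] [Finite X] (hr : Cfsg.PRankLE 2 1 X) (z : X)
    (hzc : ∀ x : X, x * z = z * x) (hz2 : z ^ 2 = 1) (hz1 : z ≠ 1)
    (H : Subgroup X) (hH : Nat.card H = 2) : H = Subgroup.zpowers z := by
  haveI : Fact (Nat.Prime 2) := ⟨Nat.prime_two⟩
  haveI : Nontrivial H := by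
    rw [← Finite.one_lt_card_iff_nontrivial, hH]; norm_num
  obtain ⟨a, ha⟩ := exists_ne (1 : H)
  have ha2 : (a : X) ^ 2 = 1 := by
    have : a ^ 2 = 1 := by rw [← hH]; exact pow_card_eq_one'
    exact congrArg Subtype.val this
  have ha1 : (a : X) ≠ 1 := fun h => ha (Subtype.ext h)
  have haz : (a : X) = z := Cfsg.Agent.S1307.inv_eq hr (hzc a) ha2 hz2 ha1 hz1
  symm
  apply Subgroup.eq_of_le_of_card_ge
  · rw [Subgroup.zpowers_le, ← haz]; exact a.2
  · rw [hH, Nat.card_zpowers, orderOf_eq_prime hz2 hz1]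

theorem uniq_of_rank {X : Type*} [Group X] [Finite X] (hX : IsPGroup 2 X)
    (hr : Cfsg.PRankLE 2 1 X) (H K : Subgroup X) (hH : Nat.card H = 2) (hK : Nat.card K = 2) :
    H = K := by
  haveI : Fact (Nat.Prime 2) := ⟨Nat.prime_two⟩
  haveI : Nontrivial H := by
    rw [← Finite.one_lt_card_iff_nontrivial, hH]; norm_num
  haveI : Nontrivial X := by
    obtain ⟨a, ha⟩ := exists_ne (1 : H)
    exact ⟨⟨(a : X), 1, fun h => ha (Subtype.ext h)⟩⟩
  haveI := hX.center_nontrivial
  have h2 : 2 ∣ Nat.card (Subgroup.center X) := by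
    obtain ⟨k, hk⟩ := IsPGroup.iff_card.1 (hX.to_subgroup (Subgroup.center X))
    rw [hk]
    have : k ≠ 0 := by
      rintro rfl
      have h1 : 1 < Nat.card (Subgroup.center X) := Finite.one_lt_card
      rw [hk] at h1
      norm_num at h1
    exact dvd_pow_self 2 this
  obtain ⟨z, hz⟩ := exists_prime_orderOf_dvd_card' 2 h2
  have hz2 : (z : X) ^ 2 = 1 := by
    have : z ^ 2 = 1 := by rw [← hz]; exact pow_orderOf_eq_one z
    exact congrArg Subtype.val this
  have hz1 : (z : X) ≠ 1 := by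
    intro h
    have : z = 1 := Subtype.ext h
    rw [this, orderOf_one] at hz
    norm_num at hz
  have hzc : ∀ x : X, x * (z : X) = (z : X) * x := fun x => Subgroup.mem_center_iff.1 z.2 x
  rw [eq_zpowers hr z hzc hz2 hz1 H hH, eq_zpowers hr z hzc hz2 hz1 K hK]

end Cfsg.Agent.Lib.H78RiUniq
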