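import Mathlib

set_option autoImplicit false

/-! PROJECT 2879 = SD (row S2879, 3u), piece `Aut` (est. 20m, PURE MATHLIB).
SKETCH.  `α = MulAut.conjNormal y : MulAut ↥Q` (`MulAut.conjNormal_apply : ((conjNormal g h : H) : G) = g * h * g⁻¹`).
`α ^ orderOf y = 1` (`← map_pow`, `pow_orderOf_eq_one`).  If `MulAut ↥Q` is a 2-group then `α ^ 2 ^ k = 1` for some `k`;
`orderOf α` divides the coprime numbers `orderOf y` (odd) and `2 ^ k`, so `α = 1`, i.e. `y * q * y⁻¹ = q` for `q ∈ Q`, so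
`y ∈ centralizer Q` (`Subgroup.mem_centralizer_iff`). -/

namespace Cfsg.Agent.Lib.H78SdAut

theorem not_isPGroup_mulAut {G : Type*} [Group G] (Q : Subgroup G) [Q.Normal] (y : G)
    (hy : Odd (orderOf y)) (hyC : y ∉ Subgroup.centralizer (Q : Set G)) :
    ¬ IsPGroup 2 (MulAut ↥Q) := by
  intro hP
  apply hyC
  obtain ⟨k, hk⟩ := hP (MulAut.conjNormal y : MulAut ↥Q)
  have h1 : (MulAut.conjNormal y : MulAut ↥Q) ^ orderOf y = 1 := by
    rw [← map_pow, pow_orderOf_eq_one, map_one]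
  have h2 : orderOf (MulAut.conjNormal y : MulAut ↥Q) ∣ orderOf y := orderOf_dvd_of_pow_eq_one h1
  have h3 : orderOf (MulAut.conjNormal y : MulAut ↥Q) ∣ 2 ^ k := orderOf_dvd_of_pow_eq_one hk
  have hcop : Nat.Coprime (orderOf y) (2 ^ k) :=
    Nat.Coprime.pow_right k (Nat.Coprime.symm (Nat.coprime_two_left.2 hy))
  have h4 : orderOf (MulAut.conjNormal y : MulAut ↥Q) = 1 :=
    Nat.eq_one_of_dvd_coprimes hcop h2 h3
  have h5 : (MulAut.conjNormal y : MulAut ↥Q) = 1 := orderOf_eq_one_iff.1 h4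
  rw [Subgroup.mem_centralizer_iff]
  intro q hq
  have h6 := congrArg (fun f : MulAut ↥Q => ((f ⟨q, hq⟩ : ↥Q) : G)) h5
  simp only [MulAut.conjNormal_apply, MulAut.one_apply] at h6
  rw [mul_inv_eq_iff_eq_mul] at h6
  exact h6.symm

end Cfsg.Agent.Lib.H78SdAut
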