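import Mathlib
import Cfsg.Agent.Lib.Helper46SL2
import Cfsg.Agent.Lib.Helper6Transport

/-!
Normal forms for pairs of unipotent elements of `SL₂(F)`; copies of `SL₂(p)`.
-/

set_option autoImplicit false

namespace Cfsg.Agent.Lib.Helper13SL2c

open Cfsg.Agent.Lib.Helper46SL2

local notation "SL2" => Matrix.SpecialLinearGroup (Fin 2)

variable {F : Type*} [Field F]

/-- upper unitriangular -/
def U (t : F) : SL2 F := mk2 1 t 0 1 (by ring)
/-- lower unitriangular -/
def L (t : F) : SL2 F := mk2 1 0 t 1 (by ring)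

@[simp] theorem U_00 (t : F) : U t 0 0 = 1 := rfl
@[simp] theorem U_01 (t : F) : U t 0 1 = t := rfl
@[simp] theorem U_10 (t : F) : U t 1 0 = 0 := rfl
@[simp] theorem U_11 (t : F) : U t 1 1 = 1 := rfl
@[simp] theorem L_00 (t : F) : L t 0 0 = 1 := rfl
@[simp] theorem L_01 (t : F) : L t 0 1 = 0 := rfl
@[simp] theorem L_10 (t : F) : L t 1 0 = t := rfl
@[simp] theorem L_11 (t : F) : L t 1 1 = 1 := rfl

theorem U_mul (s t : F) : U s * U t = U (s + t) := by
  apply ext2 <;> simp [mul_00, mul_01, mul_10, mul_11]; ring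

theorem L_mul (s t : F) : L s * L t = L (s + t) := by
  apply ext2 <;> simp [mul_00, mul_01, mul_10, mul_11]

theorem U_zero : U (0 : F) = 1 := by
  apply ext2 <;> simp

theorem L_zero : L (0 : F) = 1 := by
  apply ext2 <;> simp

theorem U_pow (t : F) (n : ℕ) : U t ^ n = U (n * t) := by
  induction n with
  | zero => simp [U_zero]
  | succ n ih => rw [pow_succ, ih, U_mul]; congr 1; push_cast; ring

theorem L_pow (t : F) (n : ℕ) : L t ^ n = L (n * t) := by
  induction n with
  | zero => simp [L_zero]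
  | succ n ih => rw [pow_succ, ih, L_mul]; congr 1; push_cast; ring

theorem U_inv (t : F) : (U t)⁻¹ = U (-t) := by
  rw [inv_eq_iff_mul_eq_one, U_mul, add_neg_cancel, U_zero]

theorem NF1 (u : SL2 F) (h : tr u = 2) : ∃ (c : SL2 F) (α : F), u = c * U α * c⁻¹ := by
  have hd := det2 u
  unfold tr at h
  by_cases hz : u 1 0 = 0
  · have h1 : (u 0 0 - 1) * (u 0 0 - 1) = 0 := by
      rw [hz] at hd
      linear_combination -hd + u 0 0 * h
    have h00 : u 0 0 = 1 := by linear_combination mul_self_eq_zero.mp h1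
    have h11 : u 1 1 = 1 := by linear_combination h - h00
    refine ⟨1, u 0 1, ?_⟩
    rw [one_mul, inv_one, mul_one]
    apply ext2 <;> simp [h00, h11, hz]
  · refine ⟨mk2 (u 0 0 - 1) (-1 / u 1 0) (u 1 0) 0 (by field_simp; ring), -1 / u 1 0, ?_⟩
    rw [eq_mul_inv_iff_mul_eq]
    apply ext2
    · simp only [mul_00, mk2_00, mk2_10, mk2_01, U_00, U_10]
      linear_combination -hd + u 0 0 * h
    · simp only [mul_01, mk2_00, mk2_01, mk2_11, U_01, U_11]
      field_simp
      ring
    · simp only [mul_10, mk2_00, mk2_10, mk2_11, U_00, U_10]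
      linear_combination u 1 0 * h
    · simp only [mul_11, mk2_01, mk2_10, mk2_11, U_01, U_11]
      field_simp
      ring

theorem NF2 (u v : SL2 F) (hu : tr u = 2) (hv : tr v = 2) (huv : tr (u * v) ≠ 2) :
    ∃ (c : SL2 F) (α β : F), u = c * U α * c⁻¹ ∧ v = c * L β * c⁻¹ ∧ α * β = tr (u * v) - 2 := by
  obtain ⟨c, α, hc⟩ := NF1 u hu
  set v₁ := c⁻¹ * v * c with hv₁
  have htv₁ : tr v₁ = 2 := by
    have := tr_conj v c⁻¹
    rw [inv_inv] at this
    rw [hv₁, this, hv]
  have hprod : tr (U α * v₁) = tr (u * v) := by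
    have e : U α * v₁ = c⁻¹ * (u * v) * c⁻¹⁻¹ := by rw [hc, hv₁]; group
    rw [e, tr_conj]
  have hs : α * v₁ 1 0 = tr (u * v) - 2 := by
    rw [← hprod]
    unfold tr at htv₁ ⊢
    simp only [mul_00, mul_11, U_00, U_01, U_10, U_11]
    linear_combination -htv₁
  have hz : v₁ 1 0 ≠ 0 := by
    intro h
    rw [h, mul_zero] at hs
    exact huv (by linear_combination -hs)
  have hd := det2 v₁
  unfold tr at htv₁
  have hv₂ : v₁ * U ((v₁ 0 0 - 1) / v₁ 1 0) = U ((v₁ 0 0 - 1) / v₁ 1 0) * L (v₁ 1 0) := by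
    apply ext2
    · simp only [mul_00, U_00, U_10, U_01, L_00, L_10]
      field_simp
      ring
    · simp only [mul_01, U_00, U_01, U_11, L_01, L_11]
      field_simp
      linear_combination -hd + v₁ 0 0 * htv₁
    · simp only [mul_10, U_00, U_10, U_11, L_00, L_10]
      ring
    · simp only [mul_11, U_01, U_11, U_10, L_01, L_11]
      field_simp
      linear_combination htv₁
  refine ⟨c * U ((v₁ 0 0 - 1) / v₁ 1 0), α, v₁ 1 0, ?_, ?_, hs⟩
  · have e : U ((v₁ 0 0 - 1) / v₁ 1 0) * U α = U α * U ((v₁ 0 0 - 1) / v₁ 1 0) := by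
      rw [U_mul, U_mul, add_comm]
    calc u = c * U α * c⁻¹ := hc
      _ = c * (U α * U ((v₁ 0 0 - 1) / v₁ 1 0)) * (U ((v₁ 0 0 - 1) / v₁ 1 0))⁻¹ * c⁻¹ := by group
      _ = c * U ((v₁ 0 0 - 1) / v₁ 1 0) * U α * (c * U ((v₁ 0 0 - 1) / v₁ 1 0))⁻¹ := by
        rw [← e]; group
  · calc v = c * v₁ * c⁻¹ := by rw [hv₁]; group
      _ = c * (v₁ * U ((v₁ 0 0 - 1) / v₁ 1 0)) * (U ((v₁ 0 0 - 1) / v₁ 1 0))⁻¹ * c⁻¹ := by group
      _ = c * U ((v₁ 0 0 - 1) / v₁ 1 0) * L (v₁ 1 0) * (c * U ((v₁ 0 0 - 1) / v₁ 1 0))⁻¹ := by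
        rw [hv₂]; group

/-- conjugation by `diag(α, 1)` -/
def dconj (α : F) (hα : α ≠ 0) : SL2 F →* SL2 F where
  toFun g := mk2 (g 0 0) (α * g 0 1) (g 1 0 / α) (g 1 1) (by
    have := det2 g
    field_simp
    linear_combination this)
  map_one' := by apply ext2 <;> simp
  map_mul' g h := by
    apply ext2
    · simp only [mul_00, mk2_00, mk2_01, mk2_10]; field_simp
    · simp only [mul_01, mk2_00, mk2_01, mk2_11]; ring
    · simp only [mul_10, mk2_00, mk2_10, mk2_11]; field_simp
    · simp only [mul_11, mk2_01, mk2_10, mk2_11]; field_simp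

theorem dconj_injective (α : F) (hα : α ≠ 0) : Function.Injective (dconj α hα) := by
  intro g h hgh
  have e00 := congrArg (fun B : SL2 F => B 0 0) hgh
  have e01 := congrArg (fun B : SL2 F => B 0 1) hgh
  have e10 := congrArg (fun B : SL2 F => B 1 0) hgh
  have e11 := congrArg (fun B : SL2 F => B 1 1) hgh
  simp only [dconj, MonoidHom.coe_mk, OneHom.coe_mk, mk2_00, mk2_01, mk2_10, mk2_11] at e00 e01 e10 e11
  apply ext2 e00 (mul_left_cancel₀ hα e01) _ e11
  field_simp at e10
  exact e10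

theorem dconj_U (α : F) (hα : α ≠ 0) (t : F) : dconj α hα (U t) = U (α * t) := by
  apply ext2 <;> simp [dconj]

theorem dconj_L (α : F) (hα : α ≠ 0) (t : F) : dconj α hα (L t) = L (t / α) := by
  apply ext2 <;> simp [dconj]

theorem map_U {K : Type*} [Field K] (f : F →+* K) (t : F) :
    Matrix.SpecialLinearGroup.map f (U t) = U (f t) := by
  apply ext2 <;> simp [Matrix.SpecialLinearGroup.map_apply_coe]

theorem map_L {K : Type*} [Field K] (f : F →+* K) (t : F) :
    Matrix.SpecialLinearGroup.map f (L t) = L (f t) := by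
  apply ext2 <;> simp [Matrix.SpecialLinearGroup.map_apply_coe]

theorem map_injective {K : Type*} [Field K] (f : F →+* K) :
    Function.Injective (Matrix.SpecialLinearGroup.map (n := Fin 2) f) := by
  intro g h hgh
  apply ext2
  all_goals
    apply f.injective
  · simpa [Matrix.SpecialLinearGroup.map_apply_coe] using congrArg (fun B : SL2 K => B 0 0) hgh
  · simpa [Matrix.SpecialLinearGroup.map_apply_coe] using congrArg (fun B : SL2 K => B 0 1) hgh
  · simpa [Matrix.SpecialLinearGroup.map_apply_coe] using congrArg (fun B : SL2 K => B 1 0) hgh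
  · simpa [Matrix.SpecialLinearGroup.map_apply_coe] using congrArg (fun B : SL2 K => B 1 1) hgh

theorem closure_UL (p : ℕ) [Fact p.Prime] :
    Subgroup.closure ({U (1 : ZMod p), L (1 : ZMod p)} : Set (SL2 (ZMod p))) = ⊤ := by
  have h := Cfsg.Agent.Lib.Helper6Transport.closure_SL2_zmod p
  have e1 : Matrix.SpecialLinearGroup.transvection (zero_ne_one : (0 : Fin 2) ≠ 1) (1 : ZMod p) = U 1 := by
    apply ext2 <;> simp [Matrix.SpecialLinearGroup.transvection, Matrix.transvection]
  have e2 : Matrix.SpecialLinearGroup.transvection (one_ne_zero : (1 : Fin 2) ≠ 0) (1 : ZMod p) = L 1 := by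
    apply ext2 <;> simp [Matrix.SpecialLinearGroup.transvection, Matrix.transvection]
  rw [e1, e2] at h
  exact h

/-- Two unipotent elements `u, v` with `tr (u v) - 2` a nonzero element of the prime field generate
a copy of `SL₂(p)`. -/
theorem exists_SL2p (p : ℕ) [Fact p.Prime] [CharP F p] (u v : SL2 F) (hu : tr u = 2) (hv : tr v = 2)
    (n : ZMod p) (hn : n ≠ 0) (huv : tr (u * v) - 2 = ZMod.castHom (dvd_refl p) F n) :
    ∃ φ : SL2 (ZMod p) →* SL2 F, Function.Injective φ ∧ φ.range = Subgroup.closure {u, v} := by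
  set f := ZMod.castHom (dvd_refl p) F with hf
  have hfn : f n ≠ 0 := by
    intro h
    exact hn (f.injective (by rw [h, map_zero]))
  obtain ⟨c, α, β, hcu, hcv, hαβ⟩ := NF2 u v hu hv (by
    intro h
    rw [h, sub_self] at huv
    exact hfn huv.symm)
  rw [huv] at hαβ
  have hα : α ≠ 0 := by
    rintro rfl
    rw [zero_mul] at hαβ
    exact hfn hαβ.symm
  have hβ : β = f n / α := by field_simp; linear_combination hαβ
  let φ : SL2 (ZMod p) →* SL2 F :=
    (MulAut.conj c).toMonoidHom.comp ((dconj α hα).comp (Matrix.SpecialLinearGroup.map f))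
  have hφU : ∀ t, φ (U t) = c * U (α * f t) * c⁻¹ := by
    intro t
    simp only [φ, MonoidHom.comp_apply, map_U, dconj_U]
    rfl
  have hφL : ∀ t, φ (L t) = c * L (f t / α) * c⁻¹ := by
    intro t
    simp only [φ, MonoidHom.comp_apply, map_L, dconj_L]
    rfl
  have hu' : φ (U 1) = u := by rw [hφU, map_one, mul_one, hcu]
  have hv' : φ (L n) = v := by rw [hφL, ← hβ, hcv]
  refine ⟨φ, ?_, ?_⟩
  · exact (MulAut.conj c).injective.comp ((dconj_injective α hα).comp (map_injective f))
  · rw [MonoidHom.range_eq_map, ← closure_UL p, MonoidHom.map_closure, Set.image_pair, hu']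
    have h1 : v = φ (L 1) ^ n.val := by
      rw [← map_pow, L_pow, mul_one, ZMod.natCast_zmod_val, hv']
    have h2 : φ (L 1) = v ^ (n⁻¹).val := by
      rw [← hv', ← map_pow, L_pow, ZMod.natCast_zmod_val, inv_mul_cancel₀ hn]
    apply le_antisymm
    · rw [Subgroup.closure_le]
      rintro y (rfl | rfl)
      · exact Subgroup.subset_closure (by simp)
      · rw [h2]
        exact Subgroup.pow_mem _ (Subgroup.subset_closure (by simp)) _
    · rw [Subgroup.closure_le]
      rintro y (rfl | rfl)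
      · exact Subgroup.subset_closure (by simp)
      · rw [SetLike.mem_coe, h1]
        exact Subgroup.pow_mem _ (Subgroup.subset_closure (by simp)) _

end Cfsg.Agent.Lib.Helper13SL2c
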