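import Mathlib
import Cfsg.Agent.S0106
import Cfsg.Agent.Lib.Helper7SL

/-!
# Project 71 part 3, piece T5a: recognition of `SL(2,3)`
-/

set_option autoImplicit false

namespace Cfsg.Agent.Lib.Helper75SlT5a

open Subgroup

theorem q8_aux : ∀ u v w : QuaternionGroup 2, u ^ 2 ≠ 1 →
    (v ≠ 1 ∧ v ≠ u ∧ v ≠ u ^ 2 ∧ v ≠ u ^ 3) → (w ≠ 1 ∧ w ≠ u ∧ w ≠ u ^ 2 ∧ w ≠ u ^ 3) →
    (w ≠ 1 ∧ w ≠ v ∧ w ≠ v ^ 2 ∧ w ≠ v ^ 3) →
    u ^ 4 = 1 ∧ v ^ 2 = u ^ 2 ∧ v * u * v⁻¹ = u⁻¹ ∧ (w = v * u ^ 3 ∨ w = v * u) := by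
  decide

theorem q8_gen : ∀ u : QuaternionGroup 2, u ^ 2 = 1 → ∃ v : QuaternionGroup 2, v ^ 2 ≠ 1 ∧
    (u = v ^ 2 ∨ u = v ^ 4) := by
  decide

theorem q8_exists : ∃ u : QuaternionGroup 2, u ^ 2 ≠ 1 := by decide

theorem not_mem_zpowers {G : Type*} [Group G] {u v : G} (h : v ∉ zpowers u) :
    v ≠ 1 ∧ v ≠ u ∧ v ≠ u ^ 2 ∧ v ≠ u ^ 3 := by
  refine ⟨?_, ?_, ?_, ?_⟩
  · rintro rfl; exact h (one_mem _)
  · rintro rfl; exact h (mem_zpowers _)
  · rintro rfl; exact h (pow_mem (mem_zpowers _) 2)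
  · rintro rfl; exact h (pow_mem (mem_zpowers _) 3)

theorem sl23_of_card {H : Type*} [Group H] [Finite H] (hc : Nat.card H = 24) (N : Subgroup H)
    (hN : N.Normal) (e : N ≃* QuaternionGroup 2)
    (hC : Nat.card (centralizer (N : Set H)) = 2) :
    Nonempty (H ≃* Matrix.SpecialLinearGroup (Fin 2) (ZMod 3)) := by
  have : Fact (Nat.Prime 3) := ⟨Nat.prime_three⟩
  obtain ⟨g, hg⟩ := exists_prime_orderOf_dvd_card' (G := H) 3 (by rw [hc]; norm_num)
  have hg3 : g ^ 3 = 1 := by rw [← hg, pow_orderOf_eq_one]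
  have hg1 : g ≠ 1 := by
    rintro rfl
    simp at hg
  have hgC : g ∉ centralizer (N : Set H) := by
    intro h
    have h1 := pow_card_eq_one' (G := centralizer (N : Set H)) (x := ⟨g, h⟩)
    rw [hC] at h1
    have h2 : g ^ 2 = 1 := by
      have := congrArg Subtype.val h1
      rwa [Subgroup.coe_pow, Subgroup.coe_one] at this
    apply hg1
    calc g = g ^ 3 * (g ^ 2)⁻¹ := by group
      _ = 1 := by rw [hg3, h2]; simp
  -- transport of the decidable facts
  have hpow : ∀ (x : N) (k : ℕ), e (x ^ k) = (e x) ^ k := fun x k => map_pow e x k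
  have hne : ∀ (x y : N), x ≠ y → e x ≠ e y := fun x y h h' => h (e.injective h')
  have hfacts : ∀ u v w : H, u ∈ N → v ∈ N → w ∈ N → u ^ 2 ≠ 1 → v ∉ zpowers u → w ∉ zpowers u →
      w ∉ zpowers v →
      u ^ 4 = 1 ∧ v ^ 2 = u ^ 2 ∧ v * u * v⁻¹ = u⁻¹ ∧ (w = v * u ^ 3 ∨ w = v * u) := by
    intro u v w hu hv hw hu2 hvu hwu hwv
    have tr : ∀ {a b : H} (ha : a ∈ N) (hb : b ∈ N), b ∉ zpowers a →
        (e ⟨b, hb⟩ ≠ 1 ∧ e ⟨b, hb⟩ ≠ e ⟨a, ha⟩ ∧ e ⟨b, hb⟩ ≠ (e ⟨a, ha⟩) ^ 2 ∧
          e ⟨b, hb⟩ ≠ (e ⟨a, ha⟩) ^ 3) := by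
      intro a b ha hb hab
      obtain ⟨h1, h2, h3, h4⟩ := not_mem_zpowers hab
      refine ⟨?_, ?_, ?_, ?_⟩
      · rw [← map_one e]
        exact hne _ _ (fun h => h1 (congrArg Subtype.val h))
      · exact hne _ _ (fun h => h2 (congrArg Subtype.val h))
      · rw [← hpow]
        exact hne _ _ (fun h => h3 (congrArg Subtype.val h))
      · rw [← hpow]
        exact hne _ _ (fun h => h4 (congrArg Subtype.val h))
    obtain ⟨f1, f2, f3, f4⟩ := q8_aux (e ⟨u, hu⟩) (e ⟨v, hv⟩) (e ⟨w, hw⟩)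
      (by
        rw [← hpow, ← map_one e]
        exact hne _ _ (fun h => hu2 (congrArg Subtype.val h)))
      (tr hu hv hvu) (tr hu hw hwu) (tr hv hw hwv)
    refine ⟨?_, ?_, ?_, ?_⟩
    · rw [← hpow, ← map_one e] at f1
      exact congrArg Subtype.val (e.injective f1)
    · rw [← hpow, ← hpow] at f2
      exact congrArg Subtype.val (e.injective f2)
    · rw [← map_inv, ← map_inv, ← map_mul, ← map_mul] at f3
      exact congrArg Subtype.val (e.injective f3)
    · rcases f4 with f4 | f4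
      · left
        rw [← hpow, ← map_mul] at f4
        exact congrArg Subtype.val (e.injective f4)
      · right
        rw [← map_mul] at f4
        exact congrArg Subtype.val (e.injective f4)
  -- an element of order four moved by `g`
  obtain ⟨i, hiN, hi2, hgi⟩ : ∃ i ∈ N, i ^ 2 ≠ 1 ∧ g * i * g⁻¹ ∉ zpowers i := by
    by_contra hcon
    push Not at hcon
    -- `g` centralizes every element of order four
    have h4 : ∀ u ∈ N, u ^ 2 ≠ 1 → g * u * g⁻¹ = u := by
      intro u hu hu2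
      have hu4 : u ^ 4 = 1 := by
        have h1 : (e ⟨u, hu⟩) ^ 4 = 1 := by
          have : ∀ q : QuaternionGroup 2, q ^ 4 = 1 := by decide
          exact this _
        rw [← hpow, ← map_one e] at h1
        exact congrArg Subtype.val (e.injective h1)
      obtain ⟨k, hk⟩ := hcon u hu hu2
      simp only at hk
      have hiter : g ^ 3 * u * (g ^ 3)⁻¹ = u ^ (k * k * k) := by
        have h1 : ∀ m : ℤ, g * u ^ m * g⁻¹ = (u ^ k) ^ m := by
          intro m
          rw [hk, conj_zpow]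
        calc g ^ 3 * u * (g ^ 3)⁻¹ = g * (g * (g * u ^ (1 : ℤ) * g⁻¹) * g⁻¹) * g⁻¹ := by
              rw [zpow_one]
              simp only [pow_succ, pow_zero, one_mul, mul_inv_rev, mul_assoc]
          _ = u ^ (k * k * k) := by
              rw [h1, zpow_one, h1, ← zpow_mul, h1, ← zpow_mul, ← mul_assoc]
      rw [hg3] at hiter
      simp only [one_mul, inv_one, mul_one] at hiter
      -- `k` is odd, and `k ^ 3 ≡ 1 (mod 4)` forces `k ≡ 1 (mod 4)`
      have hord : orderOf u = 4 := by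
        have := orderOf_eq_prime_pow (p := 2) (n := 1) (x := u) (by simpa using hu2)
          (by simpa using hu4)
        simpa using this
      have h5 : u ^ (k * k * k - 1) = 1 := by
        rw [zpow_sub, zpow_one, ← hiter]; group
      have h6 : (4 : ℤ) ∣ k * k * k - 1 := by
        have := orderOf_dvd_iff_zpow_eq_one.2 h5
        rwa [hord] at this
      have h7 : (4 : ℤ) ∣ k - 1 := by
        have h8 : k % 4 = 0 ∨ k % 4 = 1 ∨ k % 4 = 2 ∨ k % 4 = 3 := by omega
        obtain ⟨c, hc'⟩ : ∃ c, k = 4 * c + k % 4 := ⟨k / 4, by omega⟩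
        rcases h8 with h8 | h8 | h8 | h8
        · exfalso
          rw [h8] at hc'
          subst hc'
          obtain ⟨d, hd⟩ := h6
          ring_nf at hd
          omega
        · rw [h8] at hc'
          exact ⟨c, by omega⟩
        · exfalso
          rw [h8] at hc'
          subst hc'
          obtain ⟨d, hd⟩ := h6
          ring_nf at hd
          omega
        · exfalso
          rw [h8] at hc'
          subst hc'
          obtain ⟨d, hd⟩ := h6
          ring_nf at hd
          omega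
      obtain ⟨c, hc'⟩ := h7
      have h9 : k = 1 + 4 * c := by omega
      rw [← hk, h9, zpow_add, zpow_one, zpow_mul]
      have : u ^ (4 : ℤ) = 1 := by exact_mod_cast hu4
      rw [this, one_zpow, mul_one]
    apply hgC
    rw [mem_centralizer_iff]
    intro u hu
    have key : g * u * g⁻¹ = u := by
      by_cases hu2 : u ^ 2 = 1
      · obtain ⟨v', hv'2, hv'⟩ := q8_gen (e ⟨u, hu⟩) (by
          rw [← hpow, ← map_one e]
          exact congrArg e (Subtype.ext hu2))
        obtain ⟨v, rfl⟩ := e.surjective v'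
        have hv2 : (v : H) ^ 2 ≠ 1 := by
          intro h
          apply hv'2
          rw [← hpow, ← map_one e]
          exact congrArg e (Subtype.ext h)
        have hgv := h4 v v.2 hv2
        rcases hv' with h | h
        · rw [← hpow] at h
          have h' : u = (v : H) ^ 2 := congrArg Subtype.val (e.injective h)
          rw [h', ← conj_pow, hgv]
        · rw [← hpow] at h
          have h' : u = (v : H) ^ 4 := congrArg Subtype.val (e.injective h)
          rw [h', ← conj_pow, hgv]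
      · exact h4 u hu hu2
    calc u * g = (g * u * g⁻¹) * g := by rw [key]
      _ = g * u := by group
  set j := g * i * g⁻¹ with hj
  set w := g * j * g⁻¹ with hw
  have hjN : j ∈ N := hN.conj_mem i hiN g
  have hwN : w ∈ N := hN.conj_mem j hjN g
  have hconj : ∀ a b : H, g * a * g⁻¹ ∈ zpowers (g * b * g⁻¹) → a ∈ zpowers b := by
    rintro a b ⟨k, hk⟩
    simp only at hk
    refine ⟨k, ?_⟩
    simp only
    rw [conj_zpow] at hk
    calc b ^ k = g⁻¹ * (g * b ^ k * g⁻¹) * g := by group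
      _ = g⁻¹ * (g * a * g⁻¹) * g := by rw [hk]
      _ = a := by group
  have hwj : w ∉ zpowers j := fun h => hgi (hconj j i h)
  have hgw : g * w * g⁻¹ = i := by
    calc g * w * g⁻¹ = g ^ 3 * i * (g ^ 3)⁻¹ := by
          rw [hw, hj]
          simp only [pow_succ, pow_zero, one_mul, mul_inv_rev, mul_assoc]
      _ = i := by rw [hg3]; simp
  have hij : i ∉ zpowers j := by
    intro h
    -- then `zpowers i = zpowers j`
    have h1 : zpowers i ≤ zpowers j := by rwa [zpowers_le]
    have h2 : Nat.card (zpowers j) ≤ Nat.card (zpowers i) := by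
      rw [Nat.card_zpowers, Nat.card_zpowers, hj]
      exact ((MulAut.conj g).orderOf_eq i).le
    have h3 := Subgroup.eq_of_le_of_card_ge h1 h2
    exact hgi (h3 ▸ mem_zpowers j)
  have hwi : w ∉ zpowers i := by
    intro h
    apply hij
    have h1 : g * w * g⁻¹ ∈ zpowers (g * i * g⁻¹) := by
      obtain ⟨k, hk⟩ := h
      simp only at hk
      exact ⟨k, by simp only; rw [conj_zpow, hk]⟩
    rwa [hgw] at h1
  obtain ⟨f1, f2, f3, f4⟩ := hfacts i j w hiN hjN hwN hi2 hgi hwi hwj
  have hodd : Odd (orderOf g) := by rw [hg]; decide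
  have hsec : ∃ (H' K' : Subgroup H) (_ : (K'.subgroupOf H').Normal),
      Nonempty ((H' ⧸ K'.subgroupOf H') ≃* Matrix.SpecialLinearGroup (Fin 2) (ZMod 3)) := by
    rcases f4 with f4 | f4
    · exact Cfsg.Agent.S0106.section_of_rel i g f1 hi2 f2 f3 hgi f4 hodd
    · have e1 : g * i⁻¹ * g⁻¹ = j⁻¹ := by rw [hj]; group
      apply Cfsg.Agent.S0106.section_of_rel i⁻¹ g
      · rw [inv_pow, f1, inv_one]
      · rw [inv_pow]
        exact fun h => hi2 (inv_eq_one.1 h)
      · rw [e1, inv_pow, inv_pow, f2]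
      · rw [e1, inv_inv, inv_inv]
        calc j⁻¹ * i⁻¹ * j = j⁻¹ * (j * i * j⁻¹) * j := by rw [f3]
          _ = i := by group
      · rw [e1, zpowers_inv]
        exact fun h => hgi (by simpa using inv_mem h)
      · rw [e1]
        have e2 : g * j⁻¹ * g⁻¹ = w⁻¹ := by rw [hw]; group
        have e3 : (i⁻¹) ^ 3 = i := by
          calc (i⁻¹) ^ 3 = (i ^ 4) * (i⁻¹) ^ 3 := by rw [f1, one_mul]
            _ = i := by group
        rw [e2, f4, e3, mul_inv_rev]
        calc i⁻¹ * j⁻¹ = j⁻¹ * (j * i * j⁻¹)⁻¹ := by group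
          _ = j⁻¹ * i := by rw [f3, inv_inv]
      · exact hodd
  obtain ⟨H', K', hn, ⟨φ⟩⟩ := hsec
  have hcSL : Nat.card (Matrix.SpecialLinearGroup (Fin 2) (ZMod 3)) = 24 := by
    rw [Cfsg.Agent.Lib.Helper7SL.card_SL_two, ZMod.card]
    norm_num
  let f : H' →* Matrix.SpecialLinearGroup (Fin 2) (ZMod 3) :=
    φ.toMonoidHom.comp (QuotientGroup.mk' (K'.subgroupOf H'))
  have hf : Function.Surjective f := φ.surjective.comp (QuotientGroup.mk'_surjective _)
  have h1 : 24 ≤ Nat.card H' := by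
    rw [← hcSL]
    exact Nat.card_le_card_of_surjective f hf
  have h2 : Nat.card H' ≤ 24 := hc ▸ Subgroup.card_le_card_group H'
  have htop : H' = ⊤ := Subgroup.eq_top_of_card_eq H' (by rw [hc]; omega)
  have hbij : Function.Bijective f := by
    refine ⟨?_, hf⟩
    have : Finite (Matrix.SpecialLinearGroup (Fin 2) (ZMod 3)) := inferInstance
    exact (Function.Surjective.bijective_of_nat_card_le hf (by rw [hcSL]; exact h2)).1
  exact ⟨(Subgroup.topEquiv.symm.trans (MulEquiv.subgroupCongr htop.symm)).trans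
    (MulEquiv.ofBijective f hbij)⟩

end Cfsg.Agent.Lib.Helper75SlT5a
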