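import Mathlib
import Cfsg.Agent.Lib.Helper75SlT5a

set_option autoImplicit false

/-! PROJECT 2879 = SD (row S2879, 3u), piece `Fin` (est. 45m).
SKETCH.  Apply `Cfsg.Agent.Lib.Helper75SlT5a.sl23_of_card (H := ↥K) h24 (Q.subgroupOf K) _ e' hC`:
* `(Q.subgroupOf K).Normal` : `Subgroup.Normal.subgroupOf` (instance `Subgroup.normal_subgroupOf`);
* `e' := (Subgroup.subgroupOfEquivOfLe hQK).trans e`;
* `hC : Nat.card (centralizer ((Q.subgroupOf K : Subgroup ↥K) : Set ↥K)) = 2`.  The map `x ↦ (x : G)` is a bijection from this centralizer onto `centralizer Q` (as `centralizer Q ≤ Q ≤ K`),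
  and `e` maps `centralizer Q` (inside `Q`) bijectively onto the centre of `QuaternionGroup 2`, which is `{1, a 2}`:
  `∀ q : QuaternionGroup 2, (∀ x, q * x = x * q) ↔ q = 1 ∨ q = QuaternionGroup.a 2 := by decide`.
  Easiest: show the centralizer (in `↥K`) is `zpowers z` with `z = ⟨(e.symm (a 2) : G), _⟩`, `orderOf z = 2` (`orderOf_injective`, `by decide`-facts `(a 2)^2 = 1`, `a 2 ≠ 1`, `orderOf_eq_prime`), `Nat.card_zpowers`. -/

namespace Cfsg.Agent.Lib.H78SdFin

private theorem q8_central : ∀ q : QuaternionGroup 2, (∀ x : QuaternionGroup 2, x * q = q * x) →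
    q = 1 ∨ q = QuaternionGroup.a 2 := by decide

private theorem q8_a2 : ∀ x : QuaternionGroup 2, x * QuaternionGroup.a 2 = QuaternionGroup.a 2 * x := by
  decide

private theorem q8_a2_sq : (QuaternionGroup.a 2 : QuaternionGroup 2) ^ 2 = 1 := by decide

private theorem q8_a2_ne : (QuaternionGroup.a 2 : QuaternionGroup 2) ≠ 1 := by decide

theorem sl23_of_K {G : Type*} [Group G] [Finite G] (Q K : Subgroup G) (hQn : Q.Normal)
    (e : Q ≃* QuaternionGroup 2) (hCQ : Subgroup.centralizer (Q : Set G) ≤ Q) (hQK : Q ≤ K)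
    (h24 : Nat.card K = 24) : Nonempty (↥K ≃* Matrix.SpecialLinearGroup (Fin 2) (ZMod 3)) := by
  haveI : Fact (Nat.Prime 2) := ⟨Nat.prime_two⟩
  have hN : (Q.subgroupOf K).Normal := inferInstance
  let z : ↥K := ⟨((e.symm (QuaternionGroup.a 2) : ↥Q) : G), hQK (e.symm (QuaternionGroup.a 2)).2⟩
  have hz2 : z ^ 2 = 1 := by
    apply Subtype.ext
    have h1 : (e.symm (QuaternionGroup.a 2)) ^ 2 = 1 := by
      rw [← map_pow, q8_a2_sq, map_one]
    have h2 := congrArg (fun q : ↥Q => (q : G)) h1
    simpa [z] using h2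
  have hz1 : z ≠ 1 := by
    intro h
    have h1 : ((e.symm (QuaternionGroup.a 2) : ↥Q) : G) = 1 := congrArg (fun k : ↥K => (k : G)) h
    have h2 : e.symm (QuaternionGroup.a 2) = 1 := Subtype.ext h1
    have h3 : (QuaternionGroup.a 2 : QuaternionGroup 2) = 1 := by
      have := congrArg e h2
      simpa using this
    exact q8_a2_ne h3
  have hzo : orderOf z = 2 := orderOf_eq_prime hz2 hz1
  have hcen : Subgroup.centralizer ((Q.subgroupOf K : Subgroup ↥K) : Set ↥K) = Subgroup.zpowers z := by
    apply le_antisymm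
    · intro x hx
      rw [Subgroup.mem_centralizer_iff] at hx
      have hxC : (x : G) ∈ Subgroup.centralizer (Q : Set G) := by
        rw [Subgroup.mem_centralizer_iff]
        intro q hq
        have := hx ⟨q, hQK hq⟩ (by
          show (⟨q, hQK hq⟩ : ↥K) ∈ Q.subgroupOf K
          rw [Subgroup.mem_subgroupOf]; exact hq)
        exact congrArg (fun k : ↥K => (k : G)) this
      have hxQ : (x : G) ∈ Q := hCQ hxC
      have hcomm : ∀ w : QuaternionGroup 2, w * e ⟨x, hxQ⟩ = e ⟨x, hxQ⟩ * w := by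
        intro w
        rw [Subgroup.mem_centralizer_iff] at hxC
        have h1 := hxC (e.symm w : ↥Q) (e.symm w).2
        have h2 : e.symm w * ⟨x, hxQ⟩ = ⟨x, hxQ⟩ * e.symm w := Subtype.ext h1
        have h3 := congrArg e h2
        simpa using h3
      rcases q8_central _ hcomm with h | h
      · have h1 : (⟨x, hxQ⟩ : ↥Q) = 1 := by
          apply e.injective
          rw [h, map_one]
        have h2 : x = 1 := Subtype.ext (congrArg (fun q : ↥Q => (q : G)) h1)
        rw [h2]
        exact Subgroup.one_mem _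
      · have h1 : (⟨x, hxQ⟩ : ↥Q) = e.symm (QuaternionGroup.a 2) := by
          apply e.injective
          rw [h, MulEquiv.apply_symm_apply]
        have h2 : x = z := Subtype.ext (congrArg (fun q : ↥Q => (q : G)) h1)
        rw [h2]
        exact Subgroup.mem_zpowers z
    · rw [Subgroup.zpowers_le, Subgroup.mem_centralizer_iff]
      intro n hn
      have hnQ : (n : G) ∈ Q := Subgroup.mem_subgroupOf.1 hn
      have h1 := q8_a2 (e ⟨n, hnQ⟩)
      have h2 : (⟨n, hnQ⟩ : ↥Q) * e.symm (QuaternionGroup.a 2)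
          = e.symm (QuaternionGroup.a 2) * ⟨n, hnQ⟩ := by
        apply e.injective
        rw [map_mul, map_mul, MulEquiv.apply_symm_apply]
        exact h1
      exact Subtype.ext (congrArg (fun q : ↥Q => (q : G)) h2)
  have hC : Nat.card (Subgroup.centralizer ((Q.subgroupOf K : Subgroup ↥K) : Set ↥K)) = 2 := by
    rw [hcen, Nat.card_zpowers, hzo]
  exact Cfsg.Agent.Lib.Helper75SlT5a.sl23_of_card h24 (Q.subgroupOf K) hN
    ((Subgroup.subgroupOfEquivOfLe hQK).trans e) hC

end Cfsg.Agent.Lib.H78SdFin
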