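import Mathlib
import Cfsg.Prelude.Def_CaseTheorems

set_option autoImplicit false

/-! PROJECT 2879 = SD (row S2879, 3u), piece `Gen` (est. 15m, PURE MATHLIB).
A dihedral group of order `2n ≥ 8` or a quasidihedral group has an element `c` with `|T| = 2 o(c)`.

SKETCH.  Dihedral: `c = e.symm (DihedralGroup.r 1)`; `orderOf c = orderOf (r 1) = n` (`MulEquiv.orderOf_eq` / `orderOf_injective`,
`DihedralGroup.orderOf_r_one`), `Nat.card T = Nat.card (DihedralGroup n) = 2 * n` (`Nat.card_congr e.toEquiv`, `DihedralGroup.nat_card`).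
Quasidihedral: unfold `Cfsg.IsQuasiDihedral`: `c = x`, `Nat.card T = 2 ^ (n + 1) = 2 * 2 ^ n`, `2 ^ (n+1) ≥ 2 ^ 4`. -/

namespace Cfsg.Agent.Lib.H78SdGen

theorem exists_gen {T : Type*} [Group T] [Finite T]
    (hT : (∃ n : ℕ, 4 ≤ n ∧ Nonempty (T ≃* DihedralGroup n)) ∨ Cfsg.IsQuasiDihedral T) :
    ∃ c : T, 2 * orderOf c = Nat.card T ∧ 8 ≤ Nat.card T := by
  rcases hT with ⟨n, hn, ⟨e⟩⟩ | ⟨n, hn, hcard, x, y, hx, -, -⟩
  · have hcard : Nat.card T = 2 * n := by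
      rw [Nat.card_congr e.toEquiv, DihedralGroup.nat_card]
    refine ⟨e.symm (DihedralGroup.r 1), ?_, by omega⟩
    rw [MulEquiv.orderOf_eq, DihedralGroup.orderOf_r_one, hcard]
  · refine ⟨x, by rw [hx, hcard, pow_succ, mul_comm], ?_⟩
    rw [hcard]
    calc 8 = 2 ^ 3 := by norm_num
      _ ≤ 2 ^ (n + 1) := Nat.pow_le_pow_right (by norm_num) (by omega)

end Cfsg.Agent.Lib.H78SdGen
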