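import Mathlib

set_option autoImplicit false

/-! PROJECT 2879 = SD (row S2879, 3u), piece `Hom` (est. 25m, PURE MATHLIB).
A homocyclic group `C_{2^n} × C_{2^n}` with a cyclic subgroup of index `≤ 2` has order dividing 4.

SKETCH.  `Nat.card Q = 2 ^ n * 2 ^ n` (`Nat.card_congr e.toEquiv`, `Nat.card_prod`, `Nat.card_zmod`; `Multiplicative` is a type synonym).
`d ^ 2 ^ n = 1`: apply `e` (injective): both components `x : Multiplicative (ZMod (2^n))` satisfy `x ^ 2 ^ n = 1`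
(`pow_card_eq_one'` with `Nat.card = 2 ^ n`).  So `orderOf d ∣ 2 ^ n`, `2 ^ n * 2 ^ n ∣ 2 * 2 ^ n`, `2 ^ n ∣ 2`, `2 ^ n * 2 ^ n ∣ 2 * 2 = 4`. -/

namespace Cfsg.Agent.Lib.H78SdHom

theorem card_dvd_four {Q : Type*} [Group Q] [Finite Q] (n : ℕ)
    (e : Q ≃* Multiplicative (ZMod (2 ^ n)) × Multiplicative (ZMod (2 ^ n))) (d : Q)
    (hd : Nat.card Q ∣ 2 * orderOf d) : Nat.card Q ∣ 4 := by
  have hz : Nat.card (Multiplicative (ZMod (2 ^ n))) = 2 ^ n := by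
    show Nat.card (ZMod (2 ^ n)) = 2 ^ n
    rw [Nat.card_zmod]
  have hcard : Nat.card Q = 2 ^ n * 2 ^ n := by
    rw [Nat.card_congr e.toEquiv, Nat.card_prod, hz]
  haveI : NeZero (2 ^ n) := ⟨by positivity⟩
  have hpow : ∀ x : Multiplicative (ZMod (2 ^ n)), x ^ 2 ^ n = 1 := by
    intro x
    have := pow_card_eq_one' (x := x)
    rwa [hz] at this
  have hd1 : d ^ 2 ^ n = 1 := by
    apply e.injective
    rw [map_pow, map_one]
    ext
    · simp [hpow]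
    · simp [hpow]
  have hord : orderOf d ∣ 2 ^ n := orderOf_dvd_of_pow_eq_one hd1
  rw [hcard] at hd ⊢
  have h1 : 2 ^ n * 2 ^ n ∣ 2 * 2 ^ n := hd.trans (Nat.mul_dvd_mul_left 2 hord)
  have h2 : 2 ^ n ∣ 2 := Nat.dvd_of_mul_dvd_mul_right (by positivity) h1
  calc 2 ^ n * 2 ^ n ∣ 2 * 2 := Nat.mul_dvd_mul h2 h2
    _ = 4 := by norm_num

end Cfsg.Agent.Lib.H78SdHom
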