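import Mathlib
import Cfsg.Agent.Lib.Helper26Quat

set_option autoImplicit false

/-! PROJECT 2879 = SD (row S2879, 3u), piece `Idx` (est. 30m).
SKETCH.  `Cfsg.Agent.Lib.Helper26Quat.relIndex_dvd e : (Q ⊔ centralizer Q).relIndex (normalizer Q) ∣ 6`.  `Q ⊔ centralizer Q = Q` (`sup_eq_left.2 hCQ`),
`normalizer Q = ⊤` (`Subgroup.normalizer_eq_top`), `Subgroup.relIndex_top_right`.  So `Q.index ∣ 6`, `Q.index ∈ {1,2,3,6}`.
`Nat.card Q = 8` (`Nat.card_congr e.toEquiv`, `QuaternionGroup.card`/`Nat.card_eq_fintype_card`).  If `Q.index ∈ {1, 2}` then `Nat.card G = 8 * index = 2 ^ 3` or `2 ^ 4`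
(`Subgroup.card_mul_index`), so `G` is a 2-group (`IsPGroup.of_card`): contradiction. -/

namespace Cfsg.Agent.Lib.H78SdIdx

theorem index_eq {G : Type*} [Group G] [Finite G] (Q : Subgroup G) (hQn : Q.Normal)
    (e : Q ≃* QuaternionGroup 2) (hCQ : Subgroup.centralizer (Q : Set G) ≤ Q)
    (hG : ¬ IsPGroup 2 G) : Nat.card Q = 8 ∧ (Q.index = 3 ∨ Q.index = 6) := by
  have h8 : Nat.card Q = 8 := by
    rw [Nat.card_congr e.toEquiv, Nat.card_eq_fintype_card, QuaternionGroup.card]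
  refine ⟨h8, ?_⟩
  have h6 := Cfsg.Agent.Lib.Helper26Quat.relIndex_dvd e
  rw [sup_eq_left.2 hCQ, Subgroup.normalizer_eq_top, Subgroup.relIndex_top_right] at h6
  have hmul := Q.card_mul_index
  rw [h8] at hmul
  have hle : Q.index ≤ 6 := Nat.le_of_dvd (by norm_num) h6
  have hcases : Q.index = 1 ∨ Q.index = 2 ∨ Q.index = 3 ∨ Q.index = 6 := by
    generalize Q.index = i at h6 hle
    interval_cases i
    · norm_num at h6
    · exact Or.inl rfl
    · exact Or.inr (Or.inl rfl)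
    · exact Or.inr (Or.inr (Or.inl rfl))
    · norm_num at h6
    · norm_num at h6
    · exact Or.inr (Or.inr (Or.inr rfl))
  rcases hcases with h | h | h | h
  · exfalso
    apply hG
    rw [h] at hmul
    exact IsPGroup.of_card (n := 3) (by rw [← hmul]; norm_num)
  · exfalso
    apply hG
    rw [h] at hmul
    exact IsPGroup.of_card (n := 4) (by rw [← hmul]; norm_num)
  · exact Or.inl h
  · exact Or.inr h

end Cfsg.Agent.Lib.H78SdIdx
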