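import Mathlib

set_option autoImplicit false

/-! PROJECT 2879 = SD (row S2879, 3u), piece `K` (est. 40m, PURE MATHLIB).
SKETCH.  `Nat.card (G ⧸ Q) = Q.index ∈ {3, 6}`.  Let `P : Sylow 3 (G ⧸ Q)`; `Nat.card P = 3` (`Sylow.card_eq_multiplicity`, or: `exists_prime_orderOf_dvd_card'` gives `x` of
order 3, take `P = zpowers x`, `Nat.card_zpowers`).  `P.index = Q.index / 3 ∈ {1, 2}` (`Subgroup.card_mul_index`), so `P` is normal (`Subgroup.normal_of_index_eq_two`; index 1: `P = ⊤`, `Subgroup.index_eq_one`).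
`K := P.comap (QuotientGroup.mk' Q)`: normal (`Subgroup.Normal.comap`), `Q ≤ K` (`QuotientGroup.ker_mk'`, `MonoidHom.ker_le_comap`), `K.index = P.index` (`Subgroup.index_comap_of_surjective`),
`Nat.card G = 8 * Q.index`, `Nat.card K * K.index = Nat.card G`: `Nat.card K = 24` in both cases. -/

namespace Cfsg.Agent.Lib.H78SdK

theorem exists_K {G : Type*} [Group G] [Finite G] (Q : Subgroup G) (hQn : Q.Normal)
    (h8 : Nat.card Q = 8) (hidx : Q.index = 3 ∨ Q.index = 6) :
    ∃ K : Subgroup G, K.Normal ∧ Q ≤ K ∧ Nat.card K = 24 := by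
  haveI : Fact (Nat.Prime 3) := ⟨Nat.prime_three⟩
  have hq : Nat.card (G ⧸ Q) = Q.index := rfl
  have h3 : 3 ∣ Nat.card (G ⧸ Q) := by
    rw [hq]
    rcases hidx with h | h <;> rw [h] <;> norm_num
  obtain ⟨x, hx⟩ := exists_prime_orderOf_dvd_card' (G := G ⧸ Q) 3 h3
  have hP3 : Nat.card (Subgroup.zpowers x) = 3 := by rw [Nat.card_zpowers, hx]
  have hPmul := (Subgroup.zpowers x).card_mul_index
  rw [hP3, hq] at hPmul
  have hPn : (Subgroup.zpowers x).Normal := by
    rcases hidx with h | h
    · have h1 : (Subgroup.zpowers x).index = 1 := by omega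
      rw [Subgroup.index_eq_one] at h1
      rw [h1]
      infer_instance
    · have h2 : (Subgroup.zpowers x).index = 2 := by omega
      exact Subgroup.normal_of_index_eq_two h2
  refine ⟨(Subgroup.zpowers x).comap (QuotientGroup.mk' Q), hPn.comap _, ?_, ?_⟩
  · have := MonoidHom.ker_le_comap (QuotientGroup.mk' Q) (Subgroup.zpowers x)
    rwa [QuotientGroup.ker_mk'] at this
  · have hi : ((Subgroup.zpowers x).comap (QuotientGroup.mk' Q)).index
        = (Subgroup.zpowers x).index :=
      Subgroup.index_comap_of_surjective _ (QuotientGroup.mk'_surjective Q)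
    have hK := ((Subgroup.zpowers x).comap (QuotientGroup.mk' Q)).card_mul_index
    have hG := Q.card_mul_index
    rw [hi] at hK
    rw [h8] at hG
    rcases hidx with h | h
    · have h1 : (Subgroup.zpowers x).index = 1 := by omega
      rw [h1] at hK
      omega
    · have h2 : (Subgroup.zpowers x).index = 2 := by omega
      rw [h2] at hK
      omega

end Cfsg.Agent.Lib.H78SdK
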