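import Mathlib
import Cfsg.Prelude.Def_OddOrderLocal

set_option autoImplicit false

/-! PROJECT 2879 = SD (row S2879, 3u), piece `Meta` (est. 40m, PURE MATHLIB).
A subgroup `Q` of a group `T` with a cyclic subgroup `⟨c⟩` of index 2 is metacyclic and has a cyclic subgroup of index `≤ 2`.

SKETCH.  `C = zpowers c ≤ T`, `|T| = 2 |C|` so `C.relIndex T = 2`, `C.subgroupOf T` is normal (`Subgroup.normal_of_index_eq_two`), i.e.
`t x t⁻¹ ∈ C` for `t ∈ T`, `x ∈ C`.  `N := C.subgroupOf Q : Subgroup ↥Q` is normal (as `Q ≤ T`), cyclic (it embeds in the cyclic group `↥C`: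
`isCyclic_of_injective` with `Subgroup.inclusion`-like map `n ↦ ⟨n, _⟩`, or `Subgroup.isCyclic`), and `N.index = C.relIndex Q` divides `2`:
two elements `a, b ∈ Q \ C` have `a⁻¹ b ∈ C` (`Subgroup.mul_mem_iff_of_index_two` in `↥T`), so `N.index ≤ 2`
(or `Subgroup.relIndex_dvd_index_of_normal` applied in `↥T` to `C.subgroupOf T` and `Q.subgroupOf T`, + `Subgroup.relIndex_subgroupOf`).
So `Nat.card (↥Q ⧸ N) ∈ {1, 2}`: cyclic (`isCyclic_of_subsingleton`, `isCyclic_of_prime_card`).
`d` := a generator of `N`: `orderOf d = Nat.card N` (`orderOf_eq_card_of_forall_mem_zpowers`), `Nat.card Q = Nat.card N * N.index ∣ 2 * orderOf d`. -/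

namespace Cfsg.Agent.Lib.H78SdMeta

theorem metacyclic_of_le {G : Type*} [Group G] [Finite G] (T Q : Subgroup G) (hQT : Q ≤ T) (c : G)
    (hcT : c ∈ T) (hc : 2 * orderOf c = Nat.card T) :
    Cfsg.IsMetacyclic ↥Q ∧ ∃ d ∈ Q, Nat.card Q ∣ 2 * orderOf d := by
  classical
  set C := Subgroup.zpowers c with hC
  have hCT : C ≤ T := by rw [hC, Subgroup.zpowers_le]; exact hcT
  -- `C` has index 2 in `T`
  have hidx : (C.subgroupOf T).index = 2 := by
    have h1 := (C.subgroupOf T).card_mul_index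
    rw [Nat.card_congr (Subgroup.subgroupOfEquivOfLe hCT).toEquiv, hC, Nat.card_zpowers, ← hc,
      mul_comm 2] at h1
    exact Nat.eq_of_mul_eq_mul_left (orderOf_pos c) h1
  have hnT : (C.subgroupOf T).Normal := Subgroup.normal_of_index_eq_two hidx
  have hconj : ∀ t ∈ T, ∀ x ∈ C, t * x * t⁻¹ ∈ C := by
    intro t ht x hx
    have := hnT.conj_mem ⟨x, hCT hx⟩ (by rw [Subgroup.mem_subgroupOf]; exact hx) ⟨t, ht⟩
    rw [Subgroup.mem_subgroupOf] at this
    simpa using this
  have hN : (C.subgroupOf Q).Normal := by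
    constructor
    intro n hn g
    rw [Subgroup.mem_subgroupOf] at hn ⊢
    simpa using hconj g (hQT g.2) n hn
  have hNc : IsCyclic (C.subgroupOf Q) := by
    let f : ↥(C.subgroupOf Q) →* ↥C :=
      { toFun := fun n => ⟨((n : ↥Q) : G), Subgroup.mem_subgroupOf.1 n.2⟩
        map_one' := rfl
        map_mul' := fun _ _ => rfl }
    have hf : Function.Injective f := by
      intro a b hab
      have := congrArg (fun z : ↥C => (z : G)) hab
      exact Subtype.ext (Subtype.ext this)
    exact isCyclic_of_injective f hf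
  -- the index of `N` divides 2
  have hdvd : (C.subgroupOf Q).index ∣ 2 := by
    have h1 : (C.subgroupOf T).relIndex (Q.subgroupOf T) ∣ (C.subgroupOf T).index :=
      Subgroup.relIndex_dvd_index_of_normal _ _
    rw [hidx, Subgroup.relIndex_subgroupOf hQT] at h1
    exact h1
  refine ⟨⟨C.subgroupOf Q, hN, hNc, ?_⟩, ?_⟩
  · have hcard : Nat.card (↥Q ⧸ C.subgroupOf Q) = (C.subgroupOf Q).index := rfl
    rcases (Nat.dvd_prime Nat.prime_two).1 hdvd with h | h
    · have : Subsingleton (↥Q ⧸ C.subgroupOf Q) :=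
        (Nat.card_eq_one_iff_unique.1 (hcard.trans h)).1
      exact isCyclic_of_subsingleton
    · haveI : Fact (Nat.Prime 2) := ⟨Nat.prime_two⟩
      exact isCyclic_of_prime_card (hcard.trans h)
  · obtain ⟨g, hg⟩ := hNc.exists_generator
    refine ⟨((g : ↥Q) : G), (g : ↥Q).2, ?_⟩
    have h1 : orderOf g = Nat.card (C.subgroupOf Q) := orderOf_eq_card_of_forall_mem_zpowers hg
    have h2 : orderOf (((g : ↥Q) : G)) = orderOf g := by
      rw [Subgroup.orderOf_coe, Subgroup.orderOf_coe]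
    rw [h2, h1, ← (C.subgroupOf Q).card_mul_index, mul_comm 2]
    exact Nat.mul_dvd_mul_left _ hdvd

end Cfsg.Agent.Lib.H78SdMeta
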