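import Mathlib

set_option autoImplicit false

/-! PROJECT 2879 = SD (row S2879, 3u), piece `Odd` (est. 25m, PURE MATHLIB).
SKETCH.  `¬ IsPGroup 2 G`: otherwise `(⊤ : Subgroup G)` is a 2-subgroup containing `T`, so `T = ⊤` by maximality (`T.is_maximal'` / `Sylow.is_maximal'`; `IsPGroup` of `↥⊤` via `IsPGroup.to_subgroup`).
Then some `g : G` has `orderOf g` not a power of 2 (`IsPGroup.iff_orderOf`); write `orderOf g = 2 ^ k * m`, `m` odd (`Nat.exists_eq_two_pow_mul_odd`, `orderOf_pos`), `m ≠ 1`;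
`y = g ^ 2 ^ k` has order `m` (`orderOf_pow_of_dvd`).  `y ≠ 1` as `m ≠ 1`. -/

namespace Cfsg.Agent.Lib.H78SdOdd

theorem exists_odd {G : Type*} [Group G] [Finite G] (T : Sylow 2 G) (hne : (T : Subgroup G) ≠ ⊤) :
    ¬ IsPGroup 2 G ∧ ∃ y : G, Odd (orderOf y) ∧ y ≠ 1 := by
  have hG : ¬ IsPGroup 2 G := by
    intro h
    apply hne
    exact (T.is_maximal' (Q := ⊤) (h.to_subgroup ⊤) le_top).symm
  refine ⟨hG, ?_⟩
  by_contra hcon
  push Not at hcon
  apply hG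
  rw [IsPGroup.iff_orderOf]
  intro g
  obtain ⟨k, m, hm, hkm⟩ := Nat.exists_eq_two_pow_mul_odd (orderOf_pos g).ne'
  have h1 : orderOf (g ^ 2 ^ k) = m := by
    rw [orderOf_pow_of_dvd (by positivity) (by rw [hkm]; exact Dvd.intro _ rfl), hkm,
      Nat.mul_div_cancel_left _ (by positivity)]
  have h2 := hcon (g ^ 2 ^ k) (by rw [h1]; exact hm)
  rw [h2, orderOf_one] at h1
  exact ⟨k, by rw [hkm, ← h1, mul_one]⟩

end Cfsg.Agent.Lib.H78SdOdd
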