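import Mathlib

set_option autoImplicit false

/-! PROJECT 2879 = SD (row S2879, 3u), piece `Small` (est. 60m, PURE MATHLIB).
If `Q ⊴ G` has order dividing 4 and `C_G(Q) ≤ Q ≤ T`, `|T| ≥ 8`, `Z(T) ⊴ G`, then every element of odd order centralizes `Q`.

SKETCH.  `Z := T ⊓ centralizer T`.
(1) `Z ≠ ⊥`: `↥T` is a nontrivial 2-group (`T.isPGroup'`, `8 ≤ card`), `IsPGroup.center_nontrivial` gives `1 ≠ z ∈ center ↥T`; its image in `G` is in `Z`.
(2) `Z ≤ centralizer Q ≤ Q` (`Subgroup.centralizer_le` with `Q ≤ T`).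
(3) `Z ≠ Q`: otherwise `T ≤ centralizer Z = centralizer Q ≤ Q`, `8 ≤ |T| ≤ |Q| ≤ 4`.
(4) `|Z| ∣ |Q| ∣ 4` (`Subgroup.card_dvd_of_le`), `|Z| ≠ 1`, `|Z| < |Q|`: so `|Z| = 2`, `|Q| = 4`, and `Z` has index 2 in `Q`.
(5) `y` centralizes `Z`: `Z = {1, z}`, `y z y⁻¹ ∈ Z` (normal), `≠ 1`, so `= z`.
(6) for `a ∈ Q`: `c := y a y⁻¹ a⁻¹ ∈ Z`: if `a ∈ Z` by (5) `c = 1`; if `a ∉ Z` then `y a y⁻¹ ∈ Q \ Z` (`Q`, `Z` normal) and two elements of `Q` outside the
    index 2 subgroup `Z` differ by an element of `Z` (`Subgroup.mul_mem_iff_of_index_two` for `Z.subgroupOf Q`; or count: `Q \ Z` has 2 elements).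
(7) `y^k a y^-k = c^k a` by induction (`y` commutes with `c ∈ Z`).  `k = orderOf y` odd: `c ^ k = 1`; also `c ^ 2 = 1` (`|Z| = 2`); so `c = 1`.
Conclude with `Subgroup.mem_centralizer_iff`. -/

namespace Cfsg.Agent.Lib.H78SdSmall

theorem mem_centralizer_of_small {G : Type*} [Group G] [Finite G] (T : Sylow 2 G) (Q : Subgroup G)
    (hQn : Q.Normal) (hQT : Q ≤ (T : Subgroup G))
    (hCQ : Subgroup.centralizer (Q : Set G) ≤ Q) (hQ4 : Nat.card Q ∣ 4)
    (hT8 : 8 ≤ Nat.card (T : Subgroup G))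
    (hZ : ((T : Subgroup G) ⊓ Subgroup.centralizer ((T : Subgroup G) : Set G)).Normal)
    (y : G) (hy : Odd (orderOf y)) : y ∈ Subgroup.centralizer (Q : Set G) := by
  haveI : Fact (Nat.Prime 2) := ⟨Nat.prime_two⟩
  set Z := (T : Subgroup G) ⊓ Subgroup.centralizer ((T : Subgroup G) : Set G) with hZdef
  -- (1) a non-identity element of `Z`
  obtain ⟨z, hzZ, hz1⟩ : ∃ z ∈ Z, z ≠ 1 := by
    haveI : Nontrivial ↥(T : Subgroup G) := by
      apply Finite.one_lt_card_iff_nontrivial.1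
      omega
    have hnt := T.isPGroup'.center_nontrivial
    obtain ⟨⟨z, hz⟩, hz1⟩ := exists_ne (1 : Subgroup.center ↥(T : Subgroup G))
    refine ⟨(z : G), ⟨z.2, ?_⟩, ?_⟩
    · show (z : G) ∈ Subgroup.centralizer ((T : Subgroup G) : Set G)
      rw [Subgroup.mem_centralizer_iff]
      intro t ht
      have := Subgroup.mem_center_iff.1 hz ⟨t, ht⟩
      exact congrArg (fun w : ↥(T : Subgroup G) => (w : G)) this
    · intro h
      exact hz1 (Subtype.ext (Subtype.ext h))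
  -- (2)
  have hZQ : Z ≤ Q := (inf_le_right.trans (Subgroup.centralizer_le hQT)).trans hCQ
  -- (3)
  have hQle : Nat.card Q ≤ 4 := Nat.le_of_dvd (by norm_num) hQ4
  have hZneQ : Z ≠ Q := by
    intro h
    have hTQ : (T : Subgroup G) ≤ Q := by
      refine le_trans ?_ hCQ
      intro t ht
      rw [Subgroup.mem_centralizer_iff]
      intro q hq
      have hq' : q ∈ Z := by rw [h]; exact hq
      have := Subgroup.mem_centralizer_iff.1 hq'.2 t ht
      exact this.symm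
    have := Subgroup.card_le_of_le hTQ
    omega
  -- (4)
  have hZdvd : Nat.card Z ∣ Nat.card Q := Subgroup.card_dvd_of_le hZQ
  have hZ1 : Nat.card Z ≠ 1 := by
    intro h
    have := (Subgroup.card_eq_one.1 h)
    rw [this, Subgroup.mem_bot] at hzZ
    exact hz1 hzZ
  have hZlt : Nat.card Z ≠ Nat.card Q := by
    intro h
    exact hZneQ (Subgroup.eq_of_le_of_card_ge hZQ h.ge)
  have hcards : Nat.card Z = 2 ∧ Nat.card Q = 4 := by
    have hZpos : 0 < Nat.card Z := Nat.card_pos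
    generalize Nat.card Z = a at *
    generalize Nat.card Q = b at *
    have hab : a ≤ b := Nat.le_of_dvd (by
      rcases Nat.eq_zero_or_pos b with h | h
      · rw [h] at hQ4; norm_num at hQ4
      · exact h) hZdvd
    interval_cases b <;> interval_cases a <;> simp_all
  obtain ⟨hZ2, hQ4'⟩ := hcards
  -- (5)
  have hZelts : ∀ w ∈ Z, w = 1 ∨ w = z := by
    intro w hw
    by_contra hcon
    push Not at hcon
    obtain ⟨b, _, hb⟩ := (Nat.card_eq_two_iff' (1 : ↥Z)).1 hZ2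
    have h1 := hb ⟨w, hw⟩ (fun h => hcon.1 (congrArg Subtype.val h))
    have h2 := hb ⟨z, hzZ⟩ (fun h => hz1 (congrArg Subtype.val h))
    exact hcon.2 (congrArg Subtype.val (h1.trans h2.symm))
  have hyz : y * z * y⁻¹ = z := by
    rcases hZelts _ (hZ.conj_mem z hzZ y) with h | h
    · exfalso
      apply hz1
      have : z = y⁻¹ * (y * z * y⁻¹) * y := by group
      rw [this, h]
      group
    · exact h
  have hycomm : ∀ w ∈ Z, y * w * y⁻¹ = w := by
    intro w hw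
    rcases hZelts w hw with rfl | rfl
    · group
    · exact hyz
  have hsq : ∀ w ∈ Z, w ^ 2 = 1 := by
    intro w hw
    have := pow_card_eq_one' (x := (⟨w, hw⟩ : ↥Z))
    rw [hZ2] at this
    exact congrArg Subtype.val this
  -- (6)
  have hidx : (Z.subgroupOf Q).index = 2 := by
    have h1 := (Z.subgroupOf Q).card_mul_index
    rw [Nat.card_congr (Subgroup.subgroupOfEquivOfLe hZQ).toEquiv, hZ2, hQ4'] at h1
    omega
  have hc : ∀ a ∈ Q, y * a * y⁻¹ * a⁻¹ ∈ Z := by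
    intro a ha
    have hya : y * a * y⁻¹ ∈ Q := hQn.conj_mem a ha y
    have h1 := Subgroup.mul_mem_iff_of_index_two hidx (a := (⟨y * a * y⁻¹, hya⟩ : ↥Q))
      (b := (⟨a, ha⟩ : ↥Q)⁻¹)
    have h2 : ((⟨y * a * y⁻¹, hya⟩ : ↥Q) ∈ Z.subgroupOf Q ↔ (⟨a, ha⟩ : ↥Q)⁻¹ ∈ Z.subgroupOf Q) := by
      rw [Subgroup.inv_mem_iff, Subgroup.mem_subgroupOf, Subgroup.mem_subgroupOf]
      constructor
      · intro h
        have := hZ.conj_mem _ h y⁻¹
        have e : y⁻¹ * (y * a * y⁻¹) * y⁻¹⁻¹ = a := by group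
        rwa [e] at this
      · intro h
        exact hZ.conj_mem a h y
    have h3 := h1.2 h2
    rw [Subgroup.mem_subgroupOf] at h3
    simpa using h3
  -- (7)
  rw [Subgroup.mem_centralizer_iff]
  intro a ha
  have hcZ := hc a ha
  set c := y * a * y⁻¹ * a⁻¹ with hcdef
  have hya : y * a * y⁻¹ = c * a := by rw [hcdef]; group
  have hpow : ∀ k : ℕ, y ^ k * a * (y ^ k)⁻¹ = c ^ k * a := by
    intro k
    induction k with
    | zero => simp
    | succ k ih =>
      have h1 : y ^ (k + 1) * a * (y ^ (k + 1))⁻¹ = y * (y ^ k * a * (y ^ k)⁻¹) * y⁻¹ := by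
        rw [pow_succ']; group
      have h2 : y * (c ^ k * a) * y⁻¹ = (y * c ^ k * y⁻¹) * (y * a * y⁻¹) := by group
      rw [h1, ih, h2, hycomm _ (Subgroup.pow_mem _ hcZ k), hya, ← mul_assoc, ← pow_succ]
  have h1 := hpow (orderOf y)
  rw [pow_orderOf_eq_one] at h1
  have h2 : c ^ orderOf y = 1 := by
    have : a = c ^ orderOf y * a := by simpa using h1
    exact (mul_eq_right.1 this.symm)
  obtain ⟨m, hm⟩ := hy
  rw [hm, pow_succ, pow_mul, hsq c hcZ, one_pow, one_mul] at h2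
  rw [h2, one_mul] at hya
  rw [mul_inv_eq_iff_eq_mul] at hya
  exact hya.symm

end Cfsg.Agent.Lib.H78SdSmall
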