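import Mathlib
import Cfsg.Agent.Lib.H79RODefs
import Cfsg.Agent.Lib.H79ROBasic

set_option autoImplicit false

/-! PROJECT 79 = RO (row S4581), piece `Sub` (layer 2, est. 20m).  Overview: notes/helper79/RO/README.md.
You may import any landed library and any RO piece of a LOWER layer (already imported below).
Keep file name, namespace, theorem names and statements; extra private-style helper lemmas are fine.

SKETCH.  sub_card: the two subtypes have the same underlying predicate (im = 0 ↔ conj z = 1*z; KerGe N ⊥ automatic): `Nat.card_congr (Equiv.subtypeEquivRight ...)`.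
cfg_top: ↥⊤ solvable via topEquiv; IsSyl2: P.2 (IsPGroup), relIndex ⊤ = index, odd by `Sylow.not_dvd_index`. -/

namespace Cfsg.Agent.Lib.H79ROSub

open Cfsg Cfsg.Agent.Lib.H79RODefs Cfsg.Agent.Lib.H79ROBasic
open scoped Classical ComplexConjugate

variable {Γ : Type*} [Group Γ] [Fintype Γ]

theorem sub_card {G : Type*} [Group G] [Fintype G] (N : Subgroup G) :
    Nat.card {ψ : IrrCharacter ↥N // (∀ g, ((ψ : ↥N → ℂ) g).im = 0) ∧
        Odd (charDegree (ψ : ↥N → ℂ))} =
      Nat.card (SS N ⊥ (fun _ => 1)) := by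
  apply Nat.card_congr
  apply Equiv.subtypeEquivRight
  intro ψ
  show _ ↔ (Odd _ ∧ Tw N (fun _ => 1) (ψ : ↥N → ℂ) ∧ KerGe N ⊥ (ψ : ↥N → ℂ))
  constructor
  · rintro ⟨h1, h2⟩
    refine ⟨h2, fun g => ?_, fun g hg => ?_⟩
    · rw [one_mul]; exact Complex.conj_eq_iff_im.mpr (h1 g)
    · have : g = 1 := Subtype.ext (Subgroup.mem_bot.mp hg)
      rw [this]
  · rintro ⟨h1, h2, -⟩
    refine ⟨fun g => ?_, h1⟩
    have := h2 g
    rw [one_mul] at this
    exact Complex.conj_eq_iff_im.mp this

theorem cfg_top {G : Type*} [Group G] [Fintype G] [Group.IsSolvable G] (P : Sylow 2 G) :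
    Cfg (⊤ : Subgroup G) ⊥ (P : Subgroup G) := by
  refine ⟨inferInstance, bot_le, ?_, le_top, P.2, ?_⟩
  · intro x _
    rw [Subgroup.mem_normalizer_iff]
    intro h
    simp only [Subgroup.mem_bot]
    constructor
    · intro hh; rw [hh]; group
    · intro hh
      have : h = x⁻¹ * (x * h * x⁻¹) * x := by group
      rw [this, hh]; group
  · rw [Subgroup.relIndex_top_right]
    haveI : Fact (Nat.Prime 2) := ⟨Nat.prime_two⟩
    have := P.not_dvd_index
    exact Nat.not_even_iff_odd.mp (fun h => this (even_iff_two_dvd.mp h))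

end Cfsg.Agent.Lib.H79ROSub
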