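import Mathlib
import Cfsg.Agent.Lib.Helper59BLCoh

set_option autoImplicit false

namespace Cfsg.Agent.Lib.Helper54DefOneComb

open Cfsg.Agent.Lib.Helper59BLCoh

/-- nonzero integers whose squares sum to at most their number are all `±1`. -/
theorem pm_of_sum_sq_le {ι : Type*} (S : Finset ι) (f : ι → ℤ) (hf : ∀ i ∈ S, f i ≠ 0)
    (h : ∑ i ∈ S, f i ^ 2 ≤ S.card) :
    (∀ i ∈ S, f i = 1 ∨ f i = -1) ∧ ∑ i ∈ S, f i ^ 2 = S.card := by
  have h1 : ∀ i ∈ S, 0 ≤ f i ^ 2 - 1 := by
    intro i hi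
    have := hf i hi
    have : 0 < f i ^ 2 := by positivity
    omega
  have h2 : ∑ i ∈ S, (f i ^ 2 - 1) ≤ 0 := by
    rw [Finset.sum_sub_distrib]; simp; linarith
  have h3 : ∑ i ∈ S, (f i ^ 2 - 1) = 0 := le_antisymm h2 (Finset.sum_nonneg h1)
  have h4 := (Finset.sum_eq_zero_iff_of_nonneg h1).mp h3
  constructor
  · intro i hi
    have := h4 i hi
    have h5 : (f i - 1) * (f i + 1) = 0 := by linarith
    rcases mul_eq_zero.mp h5 with h | h
    · left; omega
    · right; omega
  · rw [Finset.sum_sub_distrib] at h3; simp at h3; linarith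

theorem card_le_sum_sq {ι : Type*} (S : Finset ι) (f : ι → ℤ) (hf : ∀ i ∈ S, f i ≠ 0) :
    (S.card : ℤ) ≤ ∑ i ∈ S, f i ^ 2 := by
  have h1 : ∀ i ∈ S, (1 : ℤ) ≤ f i ^ 2 := by
    intro i hi
    have := hf i hi
    have : 0 < f i ^ 2 := by positivity
    omega
  calc (S.card : ℤ) = ∑ i ∈ S, (1 : ℤ) := by simp
    _ ≤ _ := Finset.sum_le_sum h1

/-- the range of a complete invariant, as a finset. -/
theorem exists_range {ι Λ : Type*} [DecidableEq ι] [Finite Λ] (R : Λ → Λ → Prop)
    (hR : Equivalence R) (ζ : Λ → ι) (h1 : ∀ l l', ζ l = ζ l' ↔ R l l') :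
    ∃ Rg : Finset ι, (∀ i, i ∈ Rg ↔ ∃ l, i = ζ l) ∧
      Rg.card = Nat.card (Quotient (⟨R, hR⟩ : Setoid Λ)) := by
  classical
  have : Fintype (Quotient (⟨R, hR⟩ : Setoid Λ)) := Fintype.ofFinite _
  let z : Quotient (⟨R, hR⟩ : Setoid Λ) → ι := Quotient.lift ζ (fun a b h => (h1 a b).2 h)
  have hz : Function.Injective z := by
    intro x y
    induction x using Quotient.inductionOn with
    | h a =>
      induction y using Quotient.inductionOn with
      | h b =>
        intro h
        exact Quotient.sound ((h1 a b).1 h)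
  refine ⟨Finset.univ.image z, ?_, ?_⟩
  · intro i
    simp only [Finset.mem_image, Finset.mem_univ, true_and]
    constructor
    · rintro ⟨x, rfl⟩
      induction x using Quotient.inductionOn with
      | h a => exact ⟨a, rfl⟩
    · rintro ⟨l, rfl⟩
      exact ⟨Quotient.mk _ l, rfl⟩
  · rw [Finset.card_image_of_injective _ hz, Finset.card_univ, Nat.card_eq_fintype_card]

open Classical in
theorem finish {ι Λ : Type*} [Fintype ι] [Finite Λ] [Nonempty Λ] (R : Λ → Λ → Prop)
    (hR : Equivalence R) (e t : ℕ)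
    (ht : Nat.card (Quotient (⟨R, hR⟩ : Setoid Λ)) = t)
    (D : Λ → ι → ℤ)
    (hgram : ∀ l l', ∑ i, D l i * D l' i = (e : ℤ) + if R l l' then 1 else 0)
    (hcard : e + t ≤ Nat.card {i : ι // ∃ l, D l i ≠ 0})
    (ε : ℤ) (ζ : Λ → ι) (a : ι → ℤ) (hε : ε = 1 ∨ ε = -1) (h1 : ∀ l l', ζ l = ζ l' ↔ R l l')
    (h2 : ∀ l l', D l' (ζ l) = ε * if R l l' then 1 else 0)
    (h3 : ∀ i, (∀ l, i ≠ ζ l) → ∀ l, D l i = a i) :
    (∀ i, (∀ l, i ≠ ζ l) → (∃ l, D l i ≠ 0) → (a i = 1 ∨ a i = -1)) ∧
      Nat.card {i : ι // (∃ l, D l i ≠ 0) ∧ ∀ l, i ≠ ζ l} = e := by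
  obtain ⟨l₀⟩ := (inferInstance : Nonempty Λ)
  obtain ⟨Rg, hRg, hRgc⟩ := exists_range R hR ζ h1
  rw [ht] at hRgc
  set S : Finset ι := Finset.univ.filter (fun i => (∃ l, D l i ≠ 0) ∧ ∀ l, i ≠ ζ l) with hS
  set F : Finset ι := Finset.univ.filter (fun i => ∃ l, D l i ≠ 0) with hF
  have hFc : Nat.card {i : ι // ∃ l, D l i ≠ 0} = F.card := by
    rw [Nat.card_eq_fintype_card, Fintype.card_subtype]
  have hSc : Nat.card {i : ι // (∃ l, D l i ≠ 0) ∧ ∀ l, i ≠ ζ l} = S.card := by
    rw [Nat.card_eq_fintype_card, Fintype.card_subtype]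
  have hsub : F ⊆ Rg ∪ S := by
    intro i hi
    rw [hF, Finset.mem_filter] at hi
    rw [Finset.mem_union]
    by_cases h : ∃ l, i = ζ l
    · left; exact (hRg i).2 h
    · right
      rw [hS, Finset.mem_filter]
      push Not at h
      exact ⟨Finset.mem_univ _, hi.2, h⟩
  have hle : e ≤ S.card := by
    have := Finset.card_le_card hsub
    have h5 := Finset.card_union_le Rg S
    omega
  have hSa : ∀ i ∈ S, a i ≠ 0 := by
    intro i hi
    rw [hS, Finset.mem_filter] at hi
    obtain ⟨l, hl⟩ := hi.2.1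
    rw [h3 i hi.2.2 l] at hl
    exact hl
  have hnot : ζ l₀ ∉ S := by
    intro hi
    rw [hS, Finset.mem_filter] at hi
    exact hi.2.2 l₀ rfl
  have hsum : ∑ i ∈ S, a i ^ 2 ≤ e := by
    have h5 := hgram l₀ l₀
    rw [if_pos (hR.refl l₀)] at h5
    have h6 : ∑ i ∈ insert (ζ l₀) S, D l₀ i * D l₀ i ≤ ∑ i, D l₀ i * D l₀ i :=
      Finset.sum_le_sum_of_subset_of_nonneg (Finset.subset_univ _)
        (fun i _ _ => mul_self_nonneg _)
    rw [Finset.sum_insert hnot, h2 l₀ l₀, if_pos (hR.refl l₀)] at h6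
    have h7 : ∑ i ∈ S, D l₀ i * D l₀ i = ∑ i ∈ S, a i ^ 2 := by
      apply Finset.sum_congr rfl
      intro i hi
      rw [hS, Finset.mem_filter] at hi
      rw [h3 i hi.2.2 l₀]; ring
    have h8 : ε * 1 * (ε * 1) = 1 := by rcases hε with h | h <;> rw [h] <;> norm_num
    rw [h7, h8] at h6
    linarith
  obtain ⟨h9, h10⟩ := pm_of_sum_sq_le S a hSa (by
    have : (e : ℤ) ≤ S.card := by exact_mod_cast hle
    linarith)
  constructor
  · intro i hi hl
    exact h9 i (by rw [hS, Finset.mem_filter]; exact ⟨Finset.mem_univ _, hl, hi⟩)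
  · rw [hSc]
    have : (S.card : ℤ) ≤ e := by linarith
    have : S.card ≤ e := by exact_mod_cast this
    omega


/-- only two classes. -/
theorem two_class {Λ : Type*} [Finite Λ] (R : Λ → Λ → Prop) (hR : Equivalence R)
    (ht : Nat.card (Quotient (⟨R, hR⟩ : Setoid Λ)) = 2) (x y z : Λ) (hxy : ¬ R x y)
    (hxz : ¬ R x z) : R y z := by
  classical
  by_contra hyz
  have : Fintype (Quotient (⟨R, hR⟩ : Setoid Λ)) := Fintype.ofFinite _
  rw [Nat.card_eq_fintype_card] at ht
  let q : Λ → Quotient (⟨R, hR⟩ : Setoid Λ) := Quotient.mk _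
  have hq : ∀ a b, q a = q b → R a b := fun a b h => Quotient.exact h
  have h3 : ({q x, q y, q z} : Finset _).card = 3 := by
    rw [Finset.card_eq_three]
    exact ⟨q x, q y, q z, fun h => hxy (hq _ _ h), fun h => hxz (hq _ _ h),
      fun h => hyz (hq _ _ h), rfl⟩
  have := Finset.card_le_univ ({q x, q y, q z} : Finset _)
  omega

theorem two_le_card {Λ : Type*} [Finite Λ] (R : Λ → Λ → Prop) (hR : Equivalence R)
    (x y : Λ) (hxy : ¬ R x y) : 2 ≤ Nat.card (Quotient (⟨R, hR⟩ : Setoid Λ)) := by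
  classical
  have : Fintype (Quotient (⟨R, hR⟩ : Setoid Λ)) := Fintype.ofFinite _
  rw [Nat.card_eq_fintype_card]
  let q : Λ → Quotient (⟨R, hR⟩ : Setoid Λ) := Quotient.mk _
  have hq : ∀ a b, q a = q b → R a b := fun a b h => Quotient.exact h
  have h3 : ({q x, q y} : Finset _).card = 2 := by
    rw [Finset.card_eq_two]
    exact ⟨q x, q y, fun h => hxy (hq _ _ h), rfl⟩
  have := Finset.card_le_univ ({q x, q y} : Finset _)
  omega

open Classical in
theorem comb {ι Λ : Type*} [Fintype ι] [Finite Λ] [Nonempty Λ] (R : Λ → Λ → Prop)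
    (hR : Equivalence R) (e t : ℕ) (he : 0 < e)
    (ht : Nat.card (Quotient (⟨R, hR⟩ : Setoid Λ)) = t)
    (D : Λ → ι → ℤ) (deg : ι → ℤ) (hdeg : ∀ i, 0 < deg i)
    (hrel : ∀ l l', R l l' → D l = D l')
    (hgram : ∀ l l', ∑ i, D l i * D l' i = (e : ℤ) + if R l l' then 1 else 0)
    (h0 : ∀ l l', ∑ i, (D l i - D l' i) * deg i = 0)
    (hcard : e + t ≤ Nat.card {i : ι // ∃ l, D l i ≠ 0}) :
    ∃ (ε : ℤ) (ζ : Λ → ι) (a : ι → ℤ), (ε = 1 ∨ ε = -1) ∧ (∀ l l', ζ l = ζ l' ↔ R l l') ∧
      (∀ l l', D l' (ζ l) = ε * if R l l' then 1 else 0) ∧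
      (∀ i, (∀ l, i ≠ ζ l) → ∀ l, D l i = a i) ∧
      (∀ i, (∀ l, i ≠ ζ l) → (∃ l, D l i ≠ 0) → (a i = 1 ∨ a i = -1)) ∧
      Nat.card {i : ι // (∃ l, D l i ≠ 0) ∧ ∀ l, i ≠ ζ l} = e := by
  suffices H : ∃ (ε : ℤ) (ζ : Λ → ι) (a : ι → ℤ), (ε = 1 ∨ ε = -1) ∧
      (∀ l l', ζ l = ζ l' ↔ R l l') ∧
      (∀ l l', D l' (ζ l) = ε * if R l l' then 1 else 0) ∧
      (∀ i, (∀ l, i ≠ ζ l) → ∀ l, D l i = a i) by
    obtain ⟨ε, ζ, a, hε, h1, h2, h3⟩ := H
    obtain ⟨h4, h5⟩ := finish R hR e t ht D hgram hcard ε ζ a hε h1 h2 h3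
    exact ⟨ε, ζ, a, hε, h1, h2, h3, h4, h5⟩
  obtain ⟨l₀⟩ := (inferInstance : Nonempty Λ)
  by_cases hall : ∀ l l', R l l'
  · -- one class
    have ht1 : t = 1 := by
      rw [← ht]
      have : Subsingleton (Quotient (⟨R, hR⟩ : Setoid Λ)) := by
        constructor
        intro x y
        induction x using Quotient.inductionOn with
        | h a =>
          induction y using Quotient.inductionOn with
          | h b => exact Quotient.sound (hall a b)
      have : Nonempty (Quotient (⟨R, hR⟩ : Setoid Λ)) := ⟨Quotient.mk _ l₀⟩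
      exact Nat.card_eq_one_iff_unique.2 ⟨inferInstance, inferInstance⟩
    have hD : ∀ l, D l = D l₀ := fun l => hrel l l₀ (hall l l₀)
    set F : Finset ι := Finset.univ.filter (fun i => D l₀ i ≠ 0) with hF
    have hFc : Nat.card {i : ι // ∃ l, D l i ≠ 0} = F.card := by
      rw [Nat.card_eq_fintype_card, Fintype.card_subtype]
      congr 1
      ext i
      simp only [hF, Finset.mem_filter, Finset.mem_univ, true_and]
      constructor
      · rintro ⟨l, hl⟩
        rwa [hD l] at hl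
      · intro h
        exact ⟨l₀, h⟩
    have hsum : ∑ i ∈ F, D l₀ i ^ 2 = e + 1 := by
      have h5 := hgram l₀ l₀
      rw [if_pos (hR.refl l₀)] at h5
      rw [← h5]
      have : ∑ i ∈ F, D l₀ i ^ 2 = ∑ i, D l₀ i ^ 2 := by
        apply Finset.sum_subset (Finset.subset_univ _)
        intro i _ hi
        rw [hF, Finset.mem_filter] at hi
        push Not at hi
        rw [hi (Finset.mem_univ _)]; norm_num
      rw [this]
      exact Finset.sum_congr rfl (fun i _ => by ring)
    have hFa : ∀ i ∈ F, D l₀ i ≠ 0 := by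
      intro i hi
      rw [hF, Finset.mem_filter] at hi
      exact hi.2
    have hge : e + 1 ≤ F.card := by omega
    obtain ⟨h9, -⟩ := pm_of_sum_sq_le F (D l₀) hFa (by
      rw [hsum]; exact_mod_cast hge)
    have hne : F.Nonempty := by
      rw [← Finset.card_pos]; omega
    obtain ⟨i₀, hi₀⟩ := hne
    refine ⟨D l₀ i₀, fun _ => i₀, D l₀, h9 i₀ hi₀, ?_, ?_, ?_⟩
    · intro l l'
      simp [hall l l']
    · intro l l'
      rw [if_pos (hall l l'), hD l']; ring
    · intro i _ l
      rw [hD l]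
  · -- at least two classes
    push Not at hall
    obtain ⟨l₁, l₂, h12⟩ := hall
    have ht2 : 2 ≤ t := by rw [← ht]; exact two_le_card R hR l₁ l₂ h12
    have hsym : ∀ {l l'}, ¬ R l l' → ¬ R l' l := fun h h' => h (hR.symm h')
    have h2' : ∀ l l', ¬ R l l' → ∑ i, (D l i - D l' i) ^ 2 = 2 := by
      intro l l' hl
      have e1 := hgram l l
      have e2 := hgram l l'
      have e3 := hgram l' l'
      rw [if_pos (hR.refl _)] at e1 e3
      rw [if_neg hl] at e2
      have : ∀ i, (D l i - D l' i) ^ 2 = D l i * D l i - 2 * (D l i * D l' i) + D l' i * D l' i :=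
        fun i => by ring
      simp_rw [this]
      rw [Finset.sum_add_distrib, Finset.sum_sub_distrib, ← Finset.mul_sum, e1, e2, e3]
      ring
    have h1' : ∀ l l' l'', ¬ R l l' → ¬ R l l'' → ¬ R l' l'' →
        ∑ i, (D l i - D l' i) * (D l i - D l'' i) = 1 := by
      intro l l' l'' hl hl' hl''
      have e1 := hgram l l
      have e2 := hgram l l''
      have e3 := hgram l' l
      have e4 := hgram l' l''
      rw [if_pos (hR.refl _)] at e1
      rw [if_neg hl'] at e2
      rw [if_neg (hsym hl)] at e3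
      rw [if_neg hl''] at e4
      have : ∀ i, (D l i - D l' i) * (D l i - D l'' i)
          = D l i * D l i - D l i * D l'' i - D l' i * D l i + D l' i * D l'' i :=
        fun i => by ring
      simp_rw [this]
      rw [Finset.sum_add_distrib, Finset.sum_sub_distrib, Finset.sum_sub_distrib, e1, e2, e3, e4]
      ring
    obtain ⟨δ, ζ, A, hδ, hD, hζ⟩ := coherence R hR D deg hdeg hrel h2' h1' h0 l₁ l₂ h12
    have hδ2 : δ * δ = 1 := by rcases hδ with h | h <;> rw [h] <;> norm_num
    have hdiag : ∀ l, ∑ i, A i ^ 2 = e + 2 * δ * A (ζ l) := by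
      intro l
      have h5 := hgram l l
      rw [if_pos (hR.refl l)] at h5
      have h6 : ∑ i, D l i * D l i = ∑ i, A i ^ 2 - 2 * δ * A (ζ l) + 1 := by
        have : ∀ i, D l i * D l i = A i ^ 2 - 2 * δ * (if i = ζ l then A i else 0)
            + (if i = ζ l then 1 else 0) := by
          intro i
          rw [hD]
          split_ifs
          · linear_combination hδ2
          · ring
        simp_rw [this]
        rw [Finset.sum_add_distrib, Finset.sum_sub_distrib, ← Finset.mul_sum]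
        simp
      linarith
    set d : ℤ := A (ζ l₁) with hd
    have hAd : ∀ l, A (ζ l) = d := by
      intro l
      have e1 := hdiag l
      have e2 := hdiag l₁
      have e3 : δ * A (ζ l) = δ * d := by rw [hd]; linarith
      have e4 : δ * (δ * A (ζ l)) = δ * (δ * d) := by rw [e3]
      rwa [← mul_assoc, ← mul_assoc, hδ2, one_mul, one_mul] at e4
    obtain ⟨Rg, hRg, hRgc⟩ := exists_range R hR ζ hζ
    rw [ht] at hRgc
    set S : Finset ι := Finset.univ.filter (fun i => A i ≠ 0 ∧ ∀ l, i ≠ ζ l) with hS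
    set F : Finset ι := Finset.univ.filter (fun i => ∃ l, D l i ≠ 0) with hF
    have hFc : Nat.card {i : ι // ∃ l, D l i ≠ 0} = F.card := by
      rw [Nat.card_eq_fintype_card, Fintype.card_subtype]
    have hsub : F ⊆ Rg ∪ S := by
      intro i hi
      rw [hF, Finset.mem_filter] at hi
      rw [Finset.mem_union]
      by_cases h : ∃ l, i = ζ l
      · left; exact (hRg i).2 h
      · right
        rw [hS, Finset.mem_filter]
        push Not at h
        obtain ⟨l, hl⟩ := hi.2
        rw [hD, if_neg (h l)] at hl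
        exact ⟨Finset.mem_univ _, by simpa using hl, h⟩
    have hle : e ≤ S.card := by
      have := Finset.card_le_card hsub
      have h5 := Finset.card_union_le Rg S
      omega
    have hdisj : Disjoint Rg S := by
      rw [Finset.disjoint_left]
      intro i hi hi'
      obtain ⟨l, hl⟩ := (hRg i).1 hi
      rw [hS, Finset.mem_filter] at hi'
      exact hi'.2.2 l hl
    have hineq : (t : ℤ) * d ^ 2 + e ≤ e + 2 * δ * d := by
      have e1 : ∑ i ∈ Rg ∪ S, A i ^ 2 ≤ ∑ i, A i ^ 2 :=
        Finset.sum_le_sum_of_subset_of_nonneg (Finset.subset_univ _)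
          (fun i _ _ => by positivity)
      rw [Finset.sum_union hdisj, hdiag l₁] at e1
      have e2 : ∑ i ∈ Rg, A i ^ 2 = (t : ℤ) * d ^ 2 := by
        rw [← hRgc, ← nsmul_eq_mul]
        apply Finset.sum_eq_card_nsmul
        intro i hi
        obtain ⟨l, rfl⟩ := (hRg i).1 hi
        rw [hAd]
      have e3 := card_le_sum_sq S A (by
        intro i hi
        rw [hS, Finset.mem_filter] at hi
        exact hi.2.1)
      have e4 : (e : ℤ) ≤ S.card := by exact_mod_cast hle
      rw [e2] at e1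
      linarith
    have hcases : d = 0 ∨ (t = 2 ∧ d = δ) := by
      have ht2' : (2 : ℤ) ≤ t := by exact_mod_cast ht2
      set d' : ℤ := δ * d with hd'
      have e1 : d' ^ 2 = d ^ 2 := by rw [hd']; linear_combination d ^ 2 * hδ2
      have e2 : (t : ℤ) * d' ^ 2 ≤ 2 * d' := by rw [e1, hd']; linarith
      have e3 : d = δ * d' := by rw [hd']; linear_combination (-d) * hδ2
      have e4 : 0 ≤ d' := by nlinarith [sq_nonneg d']
      rcases eq_or_lt_of_le e4 with h | h
      · left; rw [e3, ← h]; ring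
      · right
        have e5 : (t : ℤ) * d' ≤ 2 := by nlinarith
        have e6 : d' ≤ 1 := by nlinarith
        have e7 : d' = 1 := by omega
        rw [e7] at e5
        refine ⟨by omega, by rw [e3, e7]; ring⟩
    rcases hcases with hd0 | ⟨ht2, hdδ⟩
    · refine ⟨-δ, ζ, A, ?_, hζ, ?_, ?_⟩
      · rcases hδ with h | h <;> rw [h] <;> simp
      · intro l l'
        rw [hD, hAd, hd0]
        by_cases h : R l l'
        · rw [if_pos h, if_pos ((hζ l l').2 h)]; ring
        · rw [if_neg h, if_neg (fun h' => h ((hζ l l').1 h'))]; ring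
      · intro i hi l
        rw [hD, if_neg (hi l)]; ring
    · rw [ht2] at ht
      have tc := two_class R hR ht
      have hex : ∀ l, ∃ l', ¬ R l l' := by
        intro l
        by_cases h : R l l₁
        · exact ⟨l₂, fun h' => h12 (hR.trans (hR.symm h) h')⟩
        · exact ⟨l₁, h⟩
      choose sw hsw using hex
      refine ⟨δ, fun l => ζ (sw l), A, hδ, ?_, ?_, ?_⟩
      · intro l l'
        rw [hζ]
        constructor
        · intro h
          exact tc (sw l) l l' (hsym (hsw l)) (fun h' => hsw l' (hR.symm (hR.trans (hR.symm h) h')))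
        · intro h
          exact tc l (sw l) (sw l') (hsw l) (fun h' => hsw l' (hR.trans (hR.symm h) h'))
      · intro l l'
        rw [hD, hAd, hdδ]
        by_cases h : R l l'
        · rw [if_pos h, if_neg (fun h' => hsw l (hR.trans h (hR.symm ((hζ _ _).1 h'))))]; ring
        · rw [if_neg h, if_pos ((hζ _ _).2 (tc l (sw l) l' (hsw l) h))]; ring
      · intro i hi l
        have : i ≠ ζ l := by
          have h5 := hi (sw l)
          intro h6
          apply h5
          rw [h6, hζ]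
          exact tc (sw l) l (sw (sw l)) (hsym (hsw l)) (hsw (sw l))
        rw [hD, if_neg this]; ring

end Cfsg.Agent.Lib.Helper54DefOneComb
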