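import Cfsg.Agent.Lib.Helper81CycGDefs
import Cfsg.Agent.Lib.Helper81Orth2
import Cfsg.Agent.Lib.Helper81Second3
import Cfsg.Agent.Lib.Helper81Part
import Cfsg.Agent.Lib.Helper54DefOneComb
import Cfsg.Agent.Lib.Helper4DefOneK
import Cfsg.Agent.Lib.Helper78IndPair
import Cfsg.Agent.Lib.Helper80Conj
import Cfsg.Agent.Lib.Helper80Full2
import Cfsg.Agent.Lib.Helper78MajP
import Cfsg.Agent.Lib.Helper80Abel
import Cfsg.Agent.Lib.H81CycGD
import Cfsg.Agent.Lib.H81CycGD2
import Cfsg.Agent.Lib.H81CycCARD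
import Cfsg.Agent.Lib.H81CycGNREG
import Cfsg.Agent.Lib.H81CycGBCJ
import Cfsg.Agent.Lib.H81CycGBCY
import Cfsg.Agent.Lib.Helper80PIDefs

set_option autoImplicit false

namespace Cfsg.Agent.Lib.H80PICyx
open Cfsg
open Cfsg.Agent.Lib.Helper81CycDefs Cfsg.Agent.Lib.Helper81CycGDefs Cfsg.Agent.Lib.Helper4DefOneDefs
open Cfsg.Agent.Lib.Helper80Transport Cfsg.Agent.Lib.Helper82Quot Cfsg.Agent.Lib.Helper81Base
open Cfsg.Agent.Lib.Helper80Trace Cfsg.Agent.Lib.Helper80Incl Cfsg.Agent.Lib.H81CycGBCY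
open scoped ComplexConjugate

universe u

variable {G : Type u} [Group G] [Fintype G] {p : ℕ} [Fact p.Prime] {M : Ideal AlgInt}

/-- piece `Cyx`: `H81CycGBCY.cy_of_max` for a prescribed element `x₀` of order `p` (same proof). -/
theorem cy_of_max_x (hM : IsPModular p M) {B : Set (IrrCharacter G)} {P : Subgroup G}
    {c : Set (IrrCharacter (Subgroup.centralizer (P : Set G)))}
    (hmax : IsMaximalBrauerPair p M B P c) (hcyc : IsCyclic P) (hP1 : P ≠ ⊥) {x₀ : G}
    (hx₀P : x₀ ∈ P) (ho : orderOf x₀ = p) :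
    (Subgroup.centralizer (P : Set G)).relIndex (pstab P c) ∣ p - 1 ∧
    ∃ (t₀ : G) (T : Subgroup G)
      (f : Set (IrrCharacter (Subgroup.centralizer ((Subgroup.zpowers x₀ : Subgroup G) : Set G)))),
      CY p M P (Subgroup.centralizer ((Subgroup.zpowers x₀ : Subgroup G) : Set G)) T
        (Subgroup.normalizer ((Subgroup.zpowers x₀ : Subgroup G) : Set G)) t₀ x₀
        ((Subgroup.centralizer (P : Set G)).relIndex (pstab P c)) f B := by
  classical
  have hp : p.Prime := Fact.out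
  have hPr : M.IsPrime := hM.2.1.isPrime
  have hPp : IsPGroup p P := hmax.1.1.1
  have hab := Cfsg.Agent.Lib.Helper78IndPair.comm_of_cyclic hcyc
  have hZ : Cfsg.Agent.Lib.Helper78MajP.IsZ P x₀ := ⟨hx₀P, fun y hy => hab y hy x₀ hx₀P⟩
  have hle := Cfsg.Agent.Lib.Helper78MajP.fz_spec hM hmax.1.1 hZ.zpowers_le
  have hQ1 : Subgroup.zpowers x₀ ≠ ⊥ := by
    intro h
    rw [Subgroup.zpowers_eq_bot] at h
    rw [h, orderOf_one] at ho
    exact hp.one_lt.ne ho
  obtain ⟨hps, hidx, hnilf⟩ := Cfsg.Agent.Lib.Helper78IndPair.cyclic_local hM hmax hcyc hle hQ1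
  obtain ⟨hdvd, t₀, hgd⟩ := Cfsg.Agent.Lib.H81CycGD.gd_of p hPp hcyc hx₀P ho
    (centralizer_le_pstab (Subgroup.zpowers x₀) _) (pstab_le (Subgroup.zpowers x₀) _) _ hidx
  have hf : IsPBlock M (Cfsg.Agent.Lib.Helper78MajP.fz p M P c (Subgroup.zpowers x₀)) :=
    (hle.isBrauerPair hmax.1.1).2
  have hdf := Cfsg.Agent.Lib.Helper80Abel.isDefectGroup_of_abelian hM hmax hle hZ.le_centralizer
  have hab' : ∀ x ∈ P.subgroupOf
      (Subgroup.centralizer ((Subgroup.zpowers x₀ : Subgroup G) : Set G)),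
      ∀ y ∈ P.subgroupOf (Subgroup.centralizer ((Subgroup.zpowers x₀ : Subgroup G) : Set G)),
      x * y = y * x := by
    intro x hx y hy
    exact Subtype.ext (hab x (Subgroup.mem_subgroupOf.1 hx) y (Subgroup.mem_subgroupOf.1 hy))
  refine ⟨hdvd, t₀, pstab (Subgroup.zpowers x₀)
    (Cfsg.Agent.Lib.Helper78MajP.fz p M P c (Subgroup.zpowers x₀)),
    Cfsg.Agent.Lib.Helper78MajP.fz p M P c (Subgroup.zpowers x₀), ?_⟩
  exact
  { hM := hM
    gd := hgd
    idx := hidx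
    D1 := hP1
    cen := by
      intro d hd hd1
      have h1 := mem_zpowers_of_ne_one hPp hcyc hx₀P ho d hd hd1
      rw [← Cfsg.Agent.Lib.Helper78MajP.centralizer_zpowers d]
      apply Subgroup.centralizer_le
      exact Subgroup.zpowers_le.mpr h1
    ind := Cfsg.Agent.Lib.Helper78MajP.fz_induced hM hmax hZ
    dB := isDefectGroup_of_maximal hM hmax
    df := hdf
    stab := by
      intro n hn
      rw [stabilizesBlock_iff hPr hf n, Cfsg.Agent.Lib.Helper80Stab.mem_stabFun]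
      constructor
      · rintro ⟨-, h2⟩
        exact ⟨Subgroup.mem_normalizer_iff.mpr (mem_normalizer_centralizer hn), h2⟩
      · rintro ⟨-, h2⟩
        exact ⟨hn, h2⟩
    reg := Cfsg.Agent.Lib.H81CycGNREG.nil_reg hM hnilf hdf hab'
    cjB := fun f' hf' => Cfsg.Agent.Lib.H81CycGBCJ.cj_blocks hM hmax hcyc hle f' hf'
    indD := fun f' hf' => induced_defined_of_eq hM x₀ ⟨1, by rw [ho, pow_one]⟩ _
      (Cfsg.Agent.Lib.Helper78MajP.centralizer_zpowers x₀) f' hf'
    card := by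
      rw [Cfsg.Agent.Lib.H81CycCARD.card_nil hM hnilf hdf hab']
      exact Nat.card_congr (Subgroup.subgroupOfEquivOfLe hZ.le_centralizer).toEquiv }

end Cfsg.Agent.Lib.H80PICyx
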