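import Cfsg.Agent.Lib.Helper81CycGDefs
import Cfsg.Agent.Lib.Helper81Orth2
import Cfsg.Agent.Lib.Helper81Second3
import Cfsg.Agent.Lib.Helper81Part
import Cfsg.Agent.Lib.Helper54DefOneComb
import Cfsg.Agent.Lib.Helper4DefOneK
import Cfsg.Agent.Lib.Helper78IndPair
import Cfsg.Agent.Lib.Helper80Conj
import Cfsg.Agent.Lib.Helper80Full2
import Cfsg.Agent.Lib.H81CycGTHETA
import Cfsg.Agent.Lib.H81CycGCJB
import Cfsg.Agent.Lib.H81CycGGRAM
import Cfsg.Agent.Lib.H81CycGOUT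
import Cfsg.Agent.Lib.H81CycGDZ
import Cfsg.Agent.Lib.H81CycGREG
import Cfsg.Agent.Lib.H81CycGCNT
import Cfsg.Agent.Lib.H81CycGCARD
import Cfsg.Agent.Lib.H81CycGINN3
import Cfsg.Agent.Lib.H81CycGMAIN
import Cfsg.Agent.Lib.Helper80PIDefs

set_option autoImplicit false

namespace Cfsg.Agent.Lib.H80PIStr
open Cfsg
open Cfsg.Agent.Lib.Helper81CycDefs Cfsg.Agent.Lib.Helper81CycGDefs Cfsg.Agent.Lib.Helper4DefOneDefs
open Cfsg.Agent.Lib.Helper80Transport Cfsg.Agent.Lib.Helper82Quot Cfsg.Agent.Lib.Helper81Base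
open Cfsg.Agent.Lib.Helper80Trace Cfsg.Agent.Lib.Helper80Incl Cfsg.Agent.Lib.Helper80PIDefs
open scoped ComplexConjugate

universe u

variable {G : Type u} [Group G] [Fintype G] {p : ℕ} [Fact p.Prime] {M : Ideal AlgInt}
  {D C T N : Subgroup G} [Fintype C] {t₀ x₀ : G} {e : ℕ} {f : Set (IrrCharacter C)}
  {B : Set (IrrCharacter G)} {θ : IrrCharacter C}

open Classical in
/-- piece `Str`: the proof of `H81CycGMAIN.main_G` (helper19), exporting `ζ` and the values of `dd`. -/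
theorem struct_G (h : CY p M D C T N t₀ x₀ e f B) (hrk : e ≤ blockRank p B)
    (hθ : IsFix C T f θ) :
    ∃ (X : Set (IrrCharacter G)) (ζ : IrrCharacter C → IrrCharacter G) (δ : IrrCharacter G → ℤ)
      (δ₀ : ℤ), Str e T f θ B X ζ δ δ₀ := by
  have hp : p.Prime := Fact.out
  have hnat : ∀ (χ : IrrCharacter G) (ψ : IrrCharacter C), ∃ k : ℕ, mH χ ψ = k := fun χ ψ =>
    Cfsg.Agent.Lib.Helper82Mult.exists_nat_classInner
      (Cfsg.Agent.Lib.Helper82Mult.isCharacter_restrict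
        (Cfsg.Agent.Lib.Helper82Irr.irr_isCharacter χ) C)
      (Cfsg.Agent.Lib.Helper82Irr.irr_isCharacter ψ)
  choose nH hnH using hnat
  set Λ' := {ψ : IrrCharacter C // ψ ∈ f ∧ ψ ≠ θ} with hΛ'
  set R : Λ' → Λ' → Prop := fun l l' => RelC C T l.1 l'.1 with hR
  have hE := H81CycGCJB.relC_equiv h
  have hRe : Equivalence R :=
    ⟨fun l => hE.refl _, fun h' => hE.symm h', fun h' h'' => hE.trans h' h''⟩
  set DD : Λ' → IrrCharacter G → ℤ := fun l χ => (nH χ l.1 : ℤ) - nH χ θ with hDD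
  have hDc : ∀ l χ, (DD l χ : ℂ) = dd θ l.1 χ := by
    intro l χ
    simp only [hDD, dd, hnH]
    push_cast
    ring
  have he0 : 0 < e := by
    rw [← h.idx]
    apply Nat.pos_of_ne_zero
    unfold Subgroup.relIndex
    exact Subgroup.index_ne_zero_of_finite
  have hgram : ∀ l l', ∑ χ, DD l χ * DD l' χ = (e : ℤ) + if R l l' then 1 else 0 := by
    intro l l'
    have h1 := H81CycGGRAM.gram h hθ l.2.1 l'.2.1 l.2.2 l'.2.2
    have h2 : ((∑ χ, DD l χ * DD l' χ : ℤ) : ℂ) = (((e : ℤ) + if R l l' then 1 else 0 : ℤ) : ℂ) := by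
      push_cast
      have e1 : ∑ χ : IrrCharacter G, (DD l χ : ℂ) * (DD l' χ : ℂ)
          = ∑ χ : IrrCharacter G, dd θ l.1 χ * conj (dd θ l'.1 χ) := by
        apply Finset.sum_congr rfl
        intro χ _
        rw [← hDc, ← hDc, map_intCast]
      rw [e1, h1]
    exact_mod_cast h2
  have hrel : ∀ l l', R l l' → DD l = DD l' := by
    intro l l' hl
    funext χ
    have h1 : ∑ χ, (DD l χ - DD l' χ) ^ 2 = 0 := by
      have e1 : ∀ χ, (DD l χ - DD l' χ) ^ 2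
          = DD l χ * DD l χ - DD l χ * DD l' χ - DD l' χ * DD l χ + DD l' χ * DD l' χ :=
        fun χ => by ring
      simp only [e1, Finset.sum_add_distrib, Finset.sum_sub_distrib, hgram]
      rw [if_pos (hRe.refl l), if_pos hl, if_pos (hRe.symm hl), if_pos (hRe.refl l')]
      ring
    have h2 := (Finset.sum_eq_zero_iff_of_nonneg (fun χ _ => sq_nonneg (DD l χ - DD l' χ))).mp h1 χ
      (Finset.mem_univ _)
    have h3 := pow_eq_zero_iff (two_ne_zero) |>.mp h2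
    linarith
  have hp1 : ¬ p ∣ orderOf (1 : G) := by
    rw [orderOf_one]; exact hp.one_lt.ne' ∘ Nat.dvd_one.mp
  have h0 : ∀ l l', ∑ χ, (DD l χ - DD l' χ) * (charDegree (χ : G → ℂ) : ℤ) = 0 := by
    intro l l'
    have a1 := H81CycGREG.dd_reg h hθ.1 l.2.1 1 hp1
    have a2 := H81CycGREG.dd_reg h hθ.1 l'.2.1 1 hp1
    have h3 : ((∑ χ, (DD l χ - DD l' χ) * (charDegree (χ : G → ℂ) : ℤ) : ℤ) : ℂ) = ((0 : ℤ) : ℂ) := by
      push_cast
      have : (0 : ℂ) = ∑ χ : IrrCharacter G, dd θ l.1 χ * (χ : G → ℂ) 1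
          - ∑ χ : IrrCharacter G, dd θ l'.1 χ * (χ : G → ℂ) 1 := by rw [a1, a2]; ring
      rw [this, ← Finset.sum_sub_distrib]
      apply Finset.sum_congr rfl
      intro χ _
      rw [hDc, hDc, charDegree_eq]
      ring
    exact_mod_cast h3
  have hsupp : ∀ χ : IrrCharacter G, (∃ l, DD l χ ≠ 0) ↔ χ ∈ B := by
    intro χ
    constructor
    · rintro ⟨l, hl⟩
      by_contra hχ
      apply hl
      have := hDc l χ
      rw [H81CycGOUT.dd_out h hθ.1 l.2.1 hχ] at this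
      exact_mod_cast this
    · intro hχ
      obtain ⟨ψ, hψ, hne, hd⟩ := H81CycGDZ.exists_dd_ne h hθ.1 hχ
      refine ⟨⟨ψ, hψ, hne⟩, fun h' => hd ?_⟩
      have := hDc ⟨ψ, hψ, hne⟩ χ
      rw [h'] at this
      simp only [Int.cast_zero] at this
      exact this.symm
  set t := Nat.card (Quotient (⟨R, hRe⟩ : Setoid Λ')) with ht
  have hcq : e * t + 1 = Nat.card D := H81CycGCNT.card_quot h hθ hRe
  have hD2 : 2 ≤ Nat.card D := by
    have : Nontrivial D := (Subgroup.nontrivial_iff_ne_bot D).2 h.D1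
    exact Finite.one_lt_card
  have ht0 : 0 < t := by
    rcases Nat.eq_zero_or_pos t with h' | h'
    · rw [h'] at hcq; omega
    · exact h'
  have hne : Nonempty Λ' := by
    have : Nonempty (Quotient (⟨R, hRe⟩ : Setoid Λ')) := (Nat.card_pos_iff.1 ht0).1
    obtain ⟨q⟩ := this
    exact ⟨q.out⟩
  have hcg : blockRank p B + t ≤ Nat.card B := H81CycGCARD.card_ge_cy h hθ hRe
  have hcard : e + t ≤ Nat.card {χ : IrrCharacter G // ∃ l, DD l χ ≠ 0} := by
    have : Nat.card {χ : IrrCharacter G // ∃ l, DD l χ ≠ 0} = Nat.card B :=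
      Nat.card_congr (Equiv.subtypeEquivRight hsupp)
    rw [this]; omega
  obtain ⟨ε, ζ, a, hε, hζ, hDζ, hDa, ha, hcardX⟩ :=
    Cfsg.Agent.Lib.Helper54DefOneComb.comb R hRe e t he0 ht.symm DD
    (fun χ => (charDegree (χ : G → ℂ) : ℤ)) (fun χ => by exact_mod_cast charDegree_pos χ)
    hrel hgram h0 hcard
  have hε0 : ε ≠ 0 := by rcases hε with h' | h' <;> rw [h'] <;> norm_num
  have hζB : ∀ l, ζ l ∈ B := by
    intro l
    rw [← hsupp]
    refine ⟨l, ?_⟩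
    rw [hDζ l l, if_pos (hRe.refl l), mul_one]
    exact hε0
  set X : Set (IrrCharacter G) := {χ | χ ∈ B ∧ ∀ l, χ ≠ ζ l} with hX
  set Y : Set (IrrCharacter G) := Set.range ζ with hY
  have hBXY : B = X ∪ Y := by
    ext χ
    constructor
    · intro hχ
      by_cases hc : ∃ l, ζ l = χ
      · exact Or.inr hc
      · push Not at hc
        exact Or.inl ⟨hχ, fun l h' => hc l h'.symm⟩
    · rintro (h' | ⟨l, rfl⟩)
      · exact h'.1
      · exact hζB l
  have hdisj : Disjoint X Y := by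
    rw [Set.disjoint_left]
    rintro χ ⟨_, h1⟩ ⟨l, rfl⟩
    exact h1 l rfl
  have hcX : Nat.card X = e := by
    rw [← hcardX]
    apply Nat.card_congr
    exact Equiv.subtypeEquivRight (fun χ => by rw [hsupp]; rfl)
  have hpt : ∀ (l : Λ') (χ : IrrCharacter G), dd θ l.1 χ
      = (if χ = ζ l then (ε : ℂ) else 0) + (if χ ∈ X then (a χ : ℂ) else 0) := by
    intro l χ
    rw [← hDc]
    by_cases h1 : χ = ζ l
    · subst h1
      have hnX : ζ l ∉ X := fun h' => h'.2 l rfl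
      rw [if_pos rfl, if_neg hnX, hDζ l l, if_pos (hRe.refl l)]
      simp
    · rw [if_neg h1]
      by_cases h2 : ∃ l', χ = ζ l'
      · obtain ⟨l', rfl⟩ := h2
        have hnX : ζ l' ∉ X := fun h' => h'.2 l' rfl
        have hnR : ¬ R l' l := fun h' => h1 ((hζ l' l).2 h')
        rw [if_neg hnX, hDζ l' l, if_neg hnR]
        simp
      · push Not at h2
        by_cases h3 : χ ∈ B
        · have hXm : χ ∈ X := ⟨h3, h2⟩
          rw [if_pos hXm, hDa χ h2 l]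
          simp
        · have hnX : χ ∉ X := fun h' => h3 h'.1
          rw [if_neg hnX]
          have : DD l χ = 0 := by
            by_contra h4
            exact h3 ((hsupp χ).1 ⟨l, h4⟩)
          rw [this]
          simp
  obtain ⟨Z, hz⟩ : ∃ Z : IrrCharacter C → IrrCharacter G,
      ∀ (ψ : IrrCharacter C) (hψ : ψ ∈ f ∧ ψ ≠ θ), Z ψ = ζ ⟨ψ, hψ⟩ :=
    ⟨fun ψ => if hψ : ψ ∈ f ∧ ψ ≠ θ then ζ ⟨ψ, hψ⟩ else ζ (Classical.choice hne),
      fun ψ hψ => dif_pos hψ⟩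
  refine ⟨X, Z, a, ε, ?_, ?_, hcX, ?_, hε, ?_, ?_⟩
  · intro χ
    rw [hBXY]
    constructor
    · rintro (h' | ⟨l, rfl⟩)
      · exact Or.inl h'
      · exact Or.inr ⟨l.1, l.2.1, l.2.2, hz l.1 l.2⟩
    · rintro (h' | ⟨ψ, h1, h2, rfl⟩)
      · exact Or.inl h'
      · exact Or.inr ⟨⟨ψ, h1, h2⟩, (hz ψ ⟨h1, h2⟩).symm⟩
  · intro ψ h1 h2
    rw [hz ψ ⟨h1, h2⟩]
    exact fun h' => h'.2 _ rfl
  · intro χ hχ
    exact ha χ hχ.2 ((hsupp χ).2 hχ.1)
  · intro ψ h1 h2 ψ' h1' h2'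
    rw [hz ψ ⟨h1, h2⟩, hz ψ' ⟨h1', h2'⟩]
    exact hζ _ _
  · intro ψ h1 h2 χ
    rw [hz ψ ⟨h1, h2⟩]
    convert hpt ⟨ψ, h1, h2⟩ χ

end Cfsg.Agent.Lib.H80PIStr
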