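import Cfsg.Agent.Lib.H82AltDefs
import Cfsg.Agent.S3335

set_option autoImplicit false

namespace Cfsg.Agent.Lib.H82AltCrit

open Cfsg.Agent.Lib.H82AltDefs

/-- PIECE Crit (45 min).  `Z0 ≤ Z` is central, hence normal.  By `PresentedGroup.toGroup` (all four kinds of relators die in
`Γ ⧸ Z0` by `hrel`) there is a homomorphism `PresentedGroup _ →* Γ ⧸ Z0`, `of i ↦ mk (t' i)`; it is onto by `hgen`.
Hence `|Γ ⧸ Z0| ≤ |PresentedGroup _| = |A_n| = |Γ ⧸ Z|` (`Cfsg.Agent.S3335.result n hn`, `e`), and with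
`|Γ| = |Γ ⧸ Z0| |Z0| = |Γ ⧸ Z| |Z|` (`Subgroup.card_eq_card_quotient_mul_card_subgroup`) we get `|Z| ≤ |Z0|`, so `Z0 = Z`. -/
theorem crit (n : ℕ) (hn : 3 ≤ n) {Γ : Type*} [Group Γ] [Finite Γ] (Z : Subgroup Γ) [Z.Normal]
    (hZc : Z ≤ Subgroup.center Γ) (e : Γ ⧸ Z ≃* alternatingGroup (Fin n))
    (t' : ℕ → Γ) (hgen : Subgroup.closure (t' '' Set.Iio (n - 2)) = ⊤)
    (Z0 : Subgroup Γ) (hZ0 : Z0 ≤ Z) (hrel : Rel Z0 (n - 2) t') : Z0 = Z := by
  classical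
  obtain ⟨φ⟩ := Cfsg.Agent.S3335.result n hn
  have hN0 : Z0.Normal := ⟨fun z hz g => by
    have := Subgroup.mem_center_iff.mp (hZc (hZ0 hz)) g
    rw [this, mul_inv_cancel_right]
    exact hz⟩
  let f : Fin (n - 2) → Γ ⧸ Z0 := fun i => QuotientGroup.mk' Z0 (t' i.val)
  have hone : ∀ g : Γ, g ∈ Z0 → QuotientGroup.mk' Z0 g = 1 := fun g hg =>
    (QuotientGroup.eq_one_iff g).mpr hg
  let ψ := PresentedGroup.toGroup (f := f) (rels :=
      ({g : FreeGroup (Fin (n - 2)) | ∃ i : Fin (n - 2), i.val = 0 ∧ g = FreeGroup.of i ^ 3} ∪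
       {g | ∃ i : Fin (n - 2), 1 ≤ i.val ∧ g = FreeGroup.of i ^ 2} ∪
       {g | ∃ i j : Fin (n - 2), j.val = i.val + 1 ∧ g = (FreeGroup.of i * FreeGroup.of j) ^ 3} ∪
       {g | ∃ i j : Fin (n - 2), i.val + 1 < j.val ∧ g = (FreeGroup.of i * FreeGroup.of j) ^ 2}))
      (by
    rintro r (((⟨i, hi, rfl⟩ | ⟨i, hi, rfl⟩) | ⟨i, j, hij, rfl⟩) | ⟨i, j, hij, rfl⟩)
    · rw [map_pow, FreeGroup.lift_apply_of]
      show (QuotientGroup.mk' Z0 (t' i.val)) ^ 3 = 1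
      rw [← map_pow, hi]
      exact hone _ (hrel.a0 (by have := i.2; omega))
    · rw [map_pow, FreeGroup.lift_apply_of]
      show (QuotientGroup.mk' Z0 (t' i.val)) ^ 2 = 1
      rw [← map_pow]
      exact hone _ (hrel.a i.val hi i.2)
    · rw [map_pow, map_mul, FreeGroup.lift_apply_of, FreeGroup.lift_apply_of]
      show (QuotientGroup.mk' Z0 (t' i.val) * QuotientGroup.mk' Z0 (t' j.val)) ^ 3 = 1
      rw [← map_mul, ← map_pow, hij]
      exact hone _ (hrel.b i.val (by have := j.2; omega))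
    · rw [map_pow, map_mul, FreeGroup.lift_apply_of, FreeGroup.lift_apply_of]
      show (QuotientGroup.mk' Z0 (t' i.val) * QuotientGroup.mk' Z0 (t' j.val)) ^ 2 = 1
      rw [← map_mul, ← map_pow]
      exact hone _ (hrel.c i.val j.val hij j.2))
  have hψ : ∀ i : Fin (n - 2), ψ (PresentedGroup.of i) = QuotientGroup.mk' Z0 (t' i.val) :=
    fun i => PresentedGroup.toGroup.of _
  have hsurj : Function.Surjective ψ := by
    have h1 : (ψ.range).comap (QuotientGroup.mk' Z0) = ⊤ := by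
      rw [eq_top_iff, ← hgen, Subgroup.closure_le]
      rintro _ ⟨i, hi, rfl⟩
      exact ⟨PresentedGroup.of ⟨i, hi⟩, hψ ⟨i, hi⟩⟩
    intro g'
    obtain ⟨g, rfl⟩ := QuotientGroup.mk'_surjective Z0 g'
    have : g ∈ (ψ.range).comap (QuotientGroup.mk' Z0) := by rw [h1]; trivial
    exact this
  have hfin : Finite (PresentedGroup
      ({g : FreeGroup (Fin (n - 2)) | ∃ i : Fin (n - 2), i.val = 0 ∧ g = FreeGroup.of i ^ 3} ∪
       {g | ∃ i : Fin (n - 2), 1 ≤ i.val ∧ g = FreeGroup.of i ^ 2} ∪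
       {g | ∃ i j : Fin (n - 2), j.val = i.val + 1 ∧ g = (FreeGroup.of i * FreeGroup.of j) ^ 3} ∪
       {g | ∃ i j : Fin (n - 2), i.val + 1 < j.val ∧ g = (FreeGroup.of i * FreeGroup.of j) ^ 2})) :=
    Finite.of_equiv _ φ.symm.toEquiv
  have hle : Nat.card (Γ ⧸ Z0) ≤ Nat.card (Γ ⧸ Z) := by
    rw [Nat.card_congr e.toEquiv, ← Nat.card_congr φ.toEquiv]
    exact Nat.card_le_card_of_surjective ψ hsurj
  have h1 := Subgroup.card_eq_card_quotient_mul_card_subgroup Z0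
  have h2 := Subgroup.card_eq_card_quotient_mul_card_subgroup Z
  apply Subgroup.eq_of_le_of_card_ge hZ0
  by_contra hlt
  rw [not_le] at hlt
  have hpos : 0 < Nat.card (Γ ⧸ Z) := Nat.card_pos
  have : Nat.card (Γ ⧸ Z0) * Nat.card Z0 < Nat.card (Γ ⧸ Z) * Nat.card Z :=
    calc Nat.card (Γ ⧸ Z0) * Nat.card Z0 ≤ Nat.card (Γ ⧸ Z) * Nat.card Z0 :=
          Nat.mul_le_mul_right _ hle
      _ < Nat.card (Γ ⧸ Z) * Nat.card Z := Nat.mul_lt_mul_of_pos_left hlt hpos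
  omega

end Cfsg.Agent.Lib.H82AltCrit
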