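import Cfsg.Agent.Lib.H82AltDefs
import Cfsg.Agent.S3335

set_option autoImplicit false

namespace Cfsg.Agent.Lib.H82AltLifts

open Cfsg.Agent.Lib.H82AltDefs
open scoped commutatorElement

theorem comm_central {G : Type*} [Group G] (a b z w : G) (hz : ∀ g, g * z = z * g)
    (hw : ∀ g, g * w = w * g) : ⁅a * z, b * w⁆ = ⁅a, b⁆ := by
  rw [commutatorElement_def, commutatorElement_def]
  have e1 : (a * z)⁻¹ = a⁻¹ * z⁻¹ := by rw [hz a, mul_inv_rev]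
  have e2 : (b * w)⁻¹ = b⁻¹ * w⁻¹ := by rw [hw b, mul_inv_rev]
  rw [e1, e2]
  calc a * z * (b * w) * (a⁻¹ * z⁻¹) * (b⁻¹ * w⁻¹)
      = a * (z * (b * w * a⁻¹)) * z⁻¹ * (b⁻¹ * w⁻¹) := by group
    _ = a * ((b * w * a⁻¹) * z) * z⁻¹ * (b⁻¹ * w⁻¹) := by rw [← hz (b * w * a⁻¹)]
    _ = a * b * (w * (a⁻¹ * b⁻¹)) * w⁻¹ := by group
    _ = a * b * ((a⁻¹ * b⁻¹) * w) * w⁻¹ := by rw [← hw (a⁻¹ * b⁻¹)]
    _ = a * b * a⁻¹ * b⁻¹ := by group

/-- PIECE Lifts (45 min).  Let `φ : PresentedGroup _ ≃* A_n` be the isomorphism of `Cfsg.Agent.S3335.result n hn`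
and choose `t i ∈ Γ` with `e (mk (t i)) = φ (of i)` for `i < n - 2` (anything, e.g. `1`, for `i ≥ n - 2`).
* `Rel Z (n-2) t`: each relator maps to `1` in `A_n` (it is `φ` of a relator, `PresentedGroup.one_of_mem`), so it lies in
  `Z = ker (e ∘ mk)`.
* generation, for any `t'` with `Same Z t t'`: `Γ₀ := closure (t' '' Iio (n-2))` maps ONTO `Γ ⧸ Z` (the `of i` generate the
  presented group: `PresentedGroup.closure_range_of`), hence `Γ = Γ₀ Z`; as `Z` is central,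
  `commutator Γ = ⁅Γ₀ Z, Γ₀ Z⁆ ≤ Γ₀`  (every commutator `⁅g z, g' z'⁆ = ⁅g, g'⁆`), so `Z ≤ commutator Γ ≤ Γ₀` and `Γ₀ = ⊤`. -/
theorem lifts (n : ℕ) (hn : 3 ≤ n) {Γ : Type*} [Group Γ] [Finite Γ] (Z : Subgroup Γ) [Z.Normal]
    (hZc : Z ≤ Subgroup.center Γ) (hZd : Z ≤ commutator Γ)
    (e : Γ ⧸ Z ≃* alternatingGroup (Fin n)) :
    ∃ t : ℕ → Γ, Rel Z (n - 2) t ∧
      ∀ t' : ℕ → Γ, Same Z t t' → Subgroup.closure (t' '' Set.Iio (n - 2)) = ⊤ := by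
  classical
  obtain ⟨φ⟩ := Cfsg.Agent.S3335.result n hn
  let π : Γ →* alternatingGroup (Fin n) := e.toMonoidHom.comp (QuotientGroup.mk' Z)
  have hπs : Function.Surjective π := e.surjective.comp (QuotientGroup.mk'_surjective Z)
  have hker : ∀ g : Γ, π g = 1 ↔ g ∈ Z := by
    intro g
    show e (QuotientGroup.mk' Z g) = 1 ↔ g ∈ Z
    rw [map_eq_one_iff e e.injective]
    exact QuotientGroup.eq_one_iff g
  choose s hs using fun i : Fin (n - 2) => hπs (φ (PresentedGroup.of i))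
  let t : ℕ → Γ := fun i => if h : i < n - 2 then s ⟨i, h⟩ else 1
  have ht : ∀ i : Fin (n - 2), π (t i.val) = φ (PresentedGroup.of i) := by
    intro i
    show π (if h : i.val < n - 2 then s ⟨i.val, h⟩ else 1) = _
    rw [dif_pos i.2]
    exact hs i
  have hrel : ∀ r, r ∈ ({g : FreeGroup (Fin (n - 2)) | ∃ i : Fin (n - 2), i.val = 0 ∧ g = FreeGroup.of i ^ 3} ∪
       {g | ∃ i : Fin (n - 2), 1 ≤ i.val ∧ g = FreeGroup.of i ^ 2} ∪
       {g | ∃ i j : Fin (n - 2), j.val = i.val + 1 ∧ g = (FreeGroup.of i * FreeGroup.of j) ^ 3} ∪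
       {g | ∃ i j : Fin (n - 2), i.val + 1 < j.val ∧ g = (FreeGroup.of i * FreeGroup.of j) ^ 2}) →
      φ (PresentedGroup.mk _ r) = 1 := by
    intro r hr
    rw [PresentedGroup.one_of_mem hr, map_one]
  refine ⟨t, ⟨?_, ?_, ?_, ?_⟩, ?_⟩
  · intro h0
    rw [← hker, map_pow, ht ⟨0, h0⟩, ← map_pow]
    exact hrel (FreeGroup.of ⟨0, h0⟩ ^ 3) (Or.inl (Or.inl (Or.inl ⟨⟨0, h0⟩, rfl, rfl⟩)))
  · intro i h1 h2
    rw [← hker, map_pow, ht ⟨i, h2⟩, ← map_pow]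
    exact hrel (FreeGroup.of ⟨i, h2⟩ ^ 2) (Or.inl (Or.inl (Or.inr ⟨⟨i, h2⟩, h1, rfl⟩)))
  · intro i h1
    rw [← hker, map_pow, map_mul, ht ⟨i, by omega⟩, ht ⟨i + 1, h1⟩, ← map_mul, ← map_pow]
    exact hrel ((FreeGroup.of ⟨i, by omega⟩ * FreeGroup.of ⟨i + 1, h1⟩) ^ 3)
      (Or.inl (Or.inr ⟨⟨i, by omega⟩, ⟨i + 1, h1⟩, rfl, rfl⟩))
  · intro i j h1 h2
    rw [← hker, map_pow, map_mul, ht ⟨i, by omega⟩, ht ⟨j, h2⟩, ← map_mul, ← map_pow]
    exact hrel ((FreeGroup.of ⟨i, by omega⟩ * FreeGroup.of ⟨j, h2⟩) ^ 2)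
      (Or.inr ⟨⟨i, by omega⟩, ⟨j, h2⟩, h1, rfl⟩)
  · intro t' hsame
    set Γ₀ := Subgroup.closure (t' '' Set.Iio (n - 2)) with hΓ₀
    have ht' : ∀ i : Fin (n - 2), π (t' i.val) = φ (PresentedGroup.of i) := by
      intro i
      rw [← ht i]
      have h1 := (hker _).mpr (hsame i.val)
      rw [map_mul, map_inv, inv_mul_eq_one] at h1
      exact h1.symm
    have hmap : Γ₀.map π = ⊤ := by
      have h1 : (Γ₀.map π).comap φ.toMonoidHom = ⊤ := by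
        rw [eq_top_iff, ← PresentedGroup.closure_range_of, Subgroup.closure_le]
        rintro _ ⟨i, rfl⟩
        exact ⟨t' i.val, Subgroup.subset_closure ⟨i.val, i.2, rfl⟩, ht' i⟩
      rw [eq_top_iff]
      intro a _
      have : φ.symm a ∈ (Γ₀.map π).comap φ.toMonoidHom := by rw [h1]; trivial
      have h2 : φ (φ.symm a) ∈ Γ₀.map π := this
      rwa [MulEquiv.apply_symm_apply] at h2
    have hdec : ∀ g : Γ, ∃ g0 ∈ Γ₀, ∃ z ∈ Z, g = g0 * z := by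
      intro g
      have : π g ∈ Γ₀.map π := by rw [hmap]; trivial
      obtain ⟨g0, hg0, h⟩ := this
      refine ⟨g0, hg0, g0⁻¹ * g, ?_, by group⟩
      rw [← hker, map_mul, map_inv, h, inv_mul_cancel]
    have hcomm : commutator Γ ≤ Γ₀ := by
      rw [commutator_def, Subgroup.commutator_le]
      intro a _ b _
      obtain ⟨a0, ha0, z, hz, rfl⟩ := hdec a
      obtain ⟨b0, hb0, w, hw, rfl⟩ := hdec b
      rw [comm_central a0 b0 z w (Subgroup.mem_center_iff.mp (hZc hz))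
        (Subgroup.mem_center_iff.mp (hZc hw))]
      exact Subgroup.commutator_mem_commutator ha0 hb0 |> fun h =>
        (Subgroup.commutator_le_self Γ₀) h
    rw [eq_top_iff]
    intro g _
    obtain ⟨g0, hg0, z, hz, rfl⟩ := hdec g
    exact Γ₀.mul_mem hg0 (hcomm (hZd hz))

end Cfsg.Agent.Lib.H82AltLifts
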