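import Mathlib
import Cfsg.Prelude.Def_Transfer

set_option autoImplicit false

/-! S3905, step F2 (helper82): if all the maximal centralizers are normal then `N/Z(N)` is elementary abelian. -/

namespace Cfsg.Agent.Lib.H82MaxF2

theorem index_prime {G : Type*} [Group G] [Finite G] (M : Subgroup G) [M.Normal] (hM : IsCoatom M) :
    M.index.Prime := by
  have h1 : M.index ≠ 1 := fun h => hM.1 (Subgroup.index_eq_one.mp h)
  obtain ⟨p, hp, hpd⟩ := Nat.exists_prime_and_dvd h1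
  have := Fact.mk hp
  have hpd' : p ∣ Nat.card (G ⧸ M) := by rwa [Subgroup.index] at hpd
  obtain ⟨g, hg⟩ := exists_prime_orderOf_dvd_card' p hpd'
  have hK : M ≤ (Subgroup.zpowers g).comap (QuotientGroup.mk' M) := by
    intro m hm
    rw [Subgroup.mem_comap]
    have : (QuotientGroup.mk' M) m = 1 := (QuotientGroup.eq_one_iff m).mpr hm
    rw [this]; exact one_mem _
  have hne : M ≠ (Subgroup.zpowers g).comap (QuotientGroup.mk' M) := by
    intro he
    obtain ⟨g0, rfl⟩ := QuotientGroup.mk'_surjective M g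
    have : g0 ∈ M := by
      rw [he, Subgroup.mem_comap]; exact Subgroup.mem_zpowers _
    have h1' : (QuotientGroup.mk' M) g0 = 1 := (QuotientGroup.eq_one_iff g0).mpr this
    rw [h1', orderOf_one] at hg
    exact hp.one_lt.ne hg
  have htop := hM.2 _ (lt_of_le_of_ne hK hne)
  have hz : Subgroup.zpowers g = ⊤ := by
    rw [eq_top_iff]
    intro a _
    obtain ⟨a0, rfl⟩ := QuotientGroup.mk'_surjective M a
    have : a0 ∈ (Subgroup.zpowers g).comap (QuotientGroup.mk' M) := by rw [htop]; trivial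
    exact this
  have hc : Nat.card (G ⧸ M) = p := by
    rw [← hg, ← Nat.card_zpowers, hz, Subgroup.card_top]
  rw [Subgroup.index, hc]; exact hp

theorem comm_mem {G : Type*} [Group G] [Finite G] (M : Subgroup G) [M.Normal] (hM : IsCoatom M) (a b : G) :
    a * b * a⁻¹ * b⁻¹ ∈ M := by
  have hp := index_prime M hM
  have := Fact.mk hp
  have : IsCyclic (G ⧸ M) := isCyclic_of_prime_card (p := M.index) rfl
  obtain ⟨g, hg⟩ := IsCyclic.exists_generator (α := G ⧸ M)
  obtain ⟨i, hi⟩ := Subgroup.mem_zpowers_iff.mp (hg (a : G ⧸ M))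
  obtain ⟨j, hj⟩ := Subgroup.mem_zpowers_iff.mp (hg (b : G ⧸ M))
  rw [← QuotientGroup.eq_one_iff]
  rw [QuotientGroup.mk_mul, QuotientGroup.mk_mul, QuotientGroup.mk_mul, QuotientGroup.mk_inv, QuotientGroup.mk_inv,
    ← hi, ← hj]
  have : Commute (g ^ i) (g ^ j) := (Commute.refl g).zpow_zpow i j
  rw [this.eq]; group

theorem pow_comm_eq_one {G : Type*} [Group G] (x n : G) (k : ℕ) (hc : Commute (x * n * x⁻¹ * n⁻¹) n)
    (hk : Commute x (n ^ k)) : (x * n * x⁻¹ * n⁻¹) ^ k = 1 := by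
  have h1 : (x * n * x⁻¹) ^ k = x * n ^ k * x⁻¹ := conj_pow
  have h2 : x * n * x⁻¹ = (x * n * x⁻¹ * n⁻¹) * n := by group
  rw [h2, hc.mul_pow, hk.eq, mul_inv_cancel_right] at h1
  exact mul_eq_right.mp h1

theorem eq_one_of_pow {G : Type*} [Group G] (c : G) {p q : ℕ} (hpq : Nat.Coprime p q) (h1 : c ^ p = 1) (h2 : c ^ q = 1) :
    c = 1 := by
  have := pow_gcd_eq_one.mpr ⟨h1, h2⟩
  rwa [hpq.gcd_eq_one, pow_one] at this

theorem allNormal {G : Type*} [Group G] [Finite G] (N : Subgroup G) [N.Normal]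
    (h : ∀ x : G, x ∈ N → x ∉ Subgroup.centralizer (N : Set G) → IsCoatom (Subgroup.centralizer ({x} : Set G)))
    (hn : ∀ x : G, x ∈ N → x ∉ Subgroup.centralizer (N : Set G) → (Subgroup.centralizer ({x} : Set G)).Normal) :
    ∃ p : ℕ, p.Prime ∧ Cfsg.IsElementaryAbelian p (⊤ : Subgroup (↥N ⧸ Subgroup.center ↥N)) := by
  have hcN : ∀ a ∈ N, ∀ b ∈ N, a * b * a⁻¹ * b⁻¹ ∈ N := fun a ha b hb =>
    N.mul_mem (N.mul_mem (N.mul_mem ha hb) (N.inv_mem ha)) (N.inv_mem hb)
  have hcen : ∀ a ∈ N, ∀ b ∈ N, ∀ z ∈ N, Commute (a * b * a⁻¹ * b⁻¹) z := by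
    intro a ha b hb z hz
    by_cases hzc : z ∈ Subgroup.centralizer (N : Set G)
    · exact Subgroup.mem_centralizer_iff.mp hzc _ (hcN a ha b hb)
    · have := hn z hz hzc
      have h1 := comm_mem _ (h z hz hzc) a b
      exact Subgroup.mem_centralizer_singleton_iff.mp h1
  have hPp : ∀ x ∈ N, x ∉ Subgroup.centralizer (N : Set G) → (Subgroup.centralizer ({x} : Set G)).index.Prime := by
    intro x hx hxc
    have := hn x hx hxc
    exact index_prime _ (h x hx hxc)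
  have hpc : ∀ x ∈ N, x ∉ Subgroup.centralizer (N : Set G) → ∀ n : G,
      Commute x (n ^ (Subgroup.centralizer ({x} : Set G)).index) := by
    intro x hx hxc n
    have := hn x hx hxc
    exact (Subgroup.mem_centralizer_singleton_iff.mp (Subgroup.pow_index_mem _ n)).symm
  have hpow : ∀ x ∈ N, x ∉ Subgroup.centralizer (N : Set G) → ∀ n ∈ N,
      (x * n * x⁻¹ * n⁻¹) ^ (Subgroup.centralizer ({x} : Set G)).index = 1 := by
    intro x hx hxc n hnN
    exact pow_comm_eq_one x n _ (hcen x hx n hnN n hnN) (hpc x hx hxc n)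
  have hpow' : ∀ x ∈ N, x ∉ Subgroup.centralizer (N : Set G) → ∀ n ∈ N,
      (n * x * n⁻¹ * x⁻¹) ^ (Subgroup.centralizer ({x} : Set G)).index = 1 := by
    intro x hx hxc n hnN
    have h1 := hpow x hx hxc n hnN
    have h2 : n * x * n⁻¹ * x⁻¹ = (x * n * x⁻¹ * n⁻¹)⁻¹ := by group
    rw [h2, inv_pow, h1, inv_one]
  have hcomm_of : ∀ a b : G, a * b * a⁻¹ * b⁻¹ = 1 → Commute a b := by
    intro a b hab
    have : a * b = (a * b * a⁻¹ * b⁻¹) * (b * a) := by group
    rw [hab, one_mul] at this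
    exact this
  have hex : ∀ x ∈ N, x ∉ Subgroup.centralizer (N : Set G) → ∃ n ∈ N, ¬ Commute x n := by
    intro x hx hxc
    by_contra hcon
    push Not at hcon
    exact hxc (Subgroup.mem_centralizer_iff.mpr fun k hk => (hcon k hk).symm)
  have hsame : ∀ x ∈ N, x ∉ Subgroup.centralizer (N : Set G) → ∀ y ∈ N, y ∉ Subgroup.centralizer (N : Set G) →
      (Subgroup.centralizer ({x} : Set G)).index = (Subgroup.centralizer ({y} : Set G)).index := by
    intro x hx hxc y hy hyc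
    by_contra hne
    have hco : Nat.Coprime (Subgroup.centralizer ({x} : Set G)).index (Subgroup.centralizer ({y} : Set G)).index :=
      (Nat.coprime_primes (hPp x hx hxc) (hPp y hy hyc)).mpr hne
    have hw : x * y ∈ N := N.mul_mem hx hy
    have hsplit : ∀ n ∈ N, Commute (x * y) n → Commute x n ∧ Commute y n := by
      intro n hnN hc
      have e1 : (y * n * y⁻¹ * n⁻¹) * (x * n * x⁻¹ * n⁻¹) = 1 := by
        have hc2 : Commute (y * n * y⁻¹ * n⁻¹) x := hcen y hy n hnN x hx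
        have e2 : (y * n * y⁻¹ * n⁻¹) * (x * n * x⁻¹ * n⁻¹) = ((y * n * y⁻¹ * n⁻¹) * x) * (n * x⁻¹ * n⁻¹) := by group
        rw [e2, hc2.eq]
        have e3 : x * (y * n * y⁻¹ * n⁻¹) * (n * x⁻¹ * n⁻¹) = ((x * y) * n) * y⁻¹ * x⁻¹ * n⁻¹ := by group
        rw [e3, hc.eq]; group
      have e4 : x * n * x⁻¹ * n⁻¹ = (y * n * y⁻¹ * n⁻¹)⁻¹ := (eq_inv_of_mul_eq_one_right e1)
      have e5 : (x * n * x⁻¹ * n⁻¹) ^ (Subgroup.centralizer ({y} : Set G)).index = 1 := by
        rw [e4, inv_pow, hpow y hy hyc n hnN, inv_one]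
      have e6 : x * n * x⁻¹ * n⁻¹ = 1 := eq_one_of_pow _ hco (hpow x hx hxc n hnN) e5
      have e7 : y * n * y⁻¹ * n⁻¹ = 1 := by
        rw [e6, mul_one] at e1; exact e1
      exact ⟨hcomm_of _ _ e6, hcomm_of _ _ e7⟩
    obtain ⟨n1, hn1, hn1c⟩ := hex x hx hxc
    obtain ⟨n2, hn2, hn2c⟩ := hex y hy hyc
    have hwc : x * y ∉ Subgroup.centralizer (N : Set G) := by
      intro hwc
      exact hn1c (hsplit n1 hn1 (Subgroup.mem_centralizer_iff.mp hwc n1 hn1).symm).1
    have hr := hPp _ hw hwc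
    have hrx : (Subgroup.centralizer ({x * y} : Set G)).index = (Subgroup.centralizer ({x} : Set G)).index := by
      by_contra hne2
      have hco2 := (Nat.coprime_primes hr (hPp x hx hxc)).mpr hne2
      have k1 := (hsplit _ (N.pow_mem hn1 _) (hpc _ hw hwc n1)).1
      exact hn1c (hcomm_of _ _ (eq_one_of_pow _ hco2 (pow_comm_eq_one x n1 _ (hcen x hx n1 hn1 n1 hn1) k1)
        (hpow x hx hxc n1 hn1)))
    have hry : (Subgroup.centralizer ({x * y} : Set G)).index = (Subgroup.centralizer ({y} : Set G)).index := by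
      by_contra hne2
      have hco2 := (Nat.coprime_primes hr (hPp y hy hyc)).mpr hne2
      have k1 := (hsplit _ (N.pow_mem hn2 _) (hpc _ hw hwc n2)).2
      exact hn2c (hcomm_of _ _ (eq_one_of_pow _ hco2 (pow_comm_eq_one y n2 _ (hcen y hy n2 hn2 n2 hn2) k1)
        (hpow y hy hyc n2 hn2)))
    exact hne (hrx.symm.trans hry)
  obtain ⟨p, hp, hpz⟩ : ∃ p : ℕ, p.Prime ∧ ∀ a ∈ N, ∀ z ∈ N, Commute z (a ^ p) := by
    by_cases hE : ∃ x0 ∈ N, x0 ∉ Subgroup.centralizer (N : Set G)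
    · obtain ⟨x0, hx0, hx0c⟩ := hE
      refine ⟨_, hPp x0 hx0 hx0c, ?_⟩
      intro a ha z hz
      by_cases hzc : z ∈ Subgroup.centralizer (N : Set G)
      · exact (Subgroup.mem_centralizer_iff.mp hzc _ (N.pow_mem ha _)).symm
      · rw [hsame x0 hx0 hx0c z hz hzc]
        exact hpc z hz hzc a
    · push Not at hE
      refine ⟨2, Nat.prime_two, ?_⟩
      intro a ha z hz
      exact (Subgroup.mem_centralizer_iff.mp (hE z hz) _ (N.pow_mem ha _)).symm
  refine ⟨p, hp, ⟨⟨fun a b => ?_⟩⟩, ?_⟩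
  · apply Subtype.ext
    obtain ⟨a0, ha0⟩ := QuotientGroup.mk_surjective a.1
    obtain ⟨b0, hb0⟩ := QuotientGroup.mk_surjective b.1
    show a.1 * b.1 = b.1 * a.1
    rw [← ha0, ← hb0, ← QuotientGroup.mk_mul, ← QuotientGroup.mk_mul, QuotientGroup.eq, Subgroup.mem_center_iff]
    intro g
    apply Subtype.ext
    have := hcen _ (N.inv_mem b0.2) _ (N.inv_mem a0.2) g.1 g.2
    have e : (((a0 * b0)⁻¹ * (b0 * a0) : ↥N) : G) = (b0 : G)⁻¹ * (a0 : G)⁻¹ * ((b0 : G)⁻¹)⁻¹ * ((a0 : G)⁻¹)⁻¹ := by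
      push_cast; group
    show g.1 * (((a0 * b0)⁻¹ * (b0 * a0) : ↥N) : G) = (((a0 * b0)⁻¹ * (b0 * a0) : ↥N) : G) * g.1
    rw [e]; exact this.symm.eq
  · intro a _
    obtain ⟨a0, rfl⟩ := QuotientGroup.mk_surjective a
    rw [← QuotientGroup.mk_pow, QuotientGroup.eq_one_iff, Subgroup.mem_center_iff]
    intro g
    apply Subtype.ext
    exact (hpz a0.1 a0.2 g.1 g.2).eq

end Cfsg.Agent.Lib.H82MaxF2
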