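import Mathlib
import Cfsg.Agent.Lib.Helper66Ward2
import Cfsg.Agent.S0027
import Cfsg.Agent.S0055

set_option autoImplicit false
set_option linter.unusedSectionVars false

namespace Cfsg.Agent.Lib.Helper66S3a

open Cfsg.Agent.Lib.Helper66Fpf Cfsg.Agent.Lib.Helper66Fpf2 Cfsg.Agent.Lib.Helper66Ward2

variable {V : Type*} [CommGroup V] [Finite V] {X : Type*} [Group X] [Finite X]
  [MulDistribMulAction X V]

/-- an element of order dividing three without fixed points satisfies `1 + b + b² = 0` -/
theorem norm3 {b : X} (hb : b ^ 3 = 1) (hf : ∀ v : V, b • v = v → v = 1) (w : V) :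
    w * b • w * b • b • w = 1 := by
  apply hf
  have h3 : b • b • b • w = w := by
    rw [← mul_smul, ← mul_smul]
    have : b * b * b = b ^ 3 := by simp only [pow_succ, pow_zero, one_mul]
    rw [this, hb, one_smul]
  rw [smul_mul', smul_mul', h3]
  rw [mul_comm (b • w * b • b • w) w, mul_assoc]

theorem inv_smul3 {b : X} (h : ∀ w : V, w * b • w * b • b • w = 1) (w : V) :
    b⁻¹ • w = (w * b • w)⁻¹ := by
  have := h (b⁻¹ • w)
  rw [smul_inv_smul] at this
  rw [eq_inv_iff_mul_eq_one, ← mul_assoc]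
  exact this

/-- the key identity -/
theorem key3 {a b : X} (ha : ∀ w : V, w * a • w * a • a • w = 1)
    (hb : ∀ w : V, w * b • w * b • b • w = 1) (w : V) :
    (a * b⁻¹) • w * (b * a⁻¹) • w = (b⁻¹ * a) • w * (a⁻¹ * b) • w := by
  rw [mul_smul, mul_smul, mul_smul, mul_smul, inv_smul3 hb w, inv_smul3 ha w, inv_smul3 hb (a • w),
    inv_smul3 ha (b • w), smul_inv', smul_inv', smul_mul', smul_mul']
  rw [← mul_inv, ← mul_inv]
  congr 1
  ac_rfl

theorem fpf_conj {c : X} (hf : ∀ v : V, c • v = v → v = 1) (x : X) :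
    ∀ v : V, (x * c * x⁻¹) • v = v → v = 1 := by
  intro v hv
  have h1 : c • (x⁻¹ • v) = x⁻¹ • v := by
    have : x⁻¹ • ((x * c * x⁻¹) • v) = x⁻¹ • v := by rw [hv]
    rw [← mul_smul] at this
    rw [← mul_smul]
    rw [← this]; congr 1; group
  have h2 := hf _ h1
  have h3 : x • (x⁻¹ • v) = x • (1 : V) := by rw [h2]
  rwa [smul_inv_smul, smul_one] at h3

theorem fixed_zpowers {z : X} {v : V} (h : z • v = v) : ∀ x ∈ Subgroup.zpowers z, x • v = v := by
  have : Subgroup.zpowers z ≤ MulAction.stabilizer X v := by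
    rw [Subgroup.zpowers_le]; exact h
  exact fun x hx => this hx

theorem conj_zpowers {z g : X} (h : z * g = g * z) :
    ∀ x ∈ Subgroup.zpowers z, g * x * g⁻¹ ∈ Subgroup.zpowers z := by
  intro x hx
  have h1 : Subgroup.zpowers z ≤ Subgroup.centralizer {g} := by
    rw [Subgroup.zpowers_le, Subgroup.mem_centralizer_singleton_iff]; exact h
  have h2 := Subgroup.mem_centralizer_singleton_iff.mp (h1 hx)
  rw [← h2]
  simpa using hx

theorem z_eq_one [FaithfulSMul X V] {u u' z : X} (hzu : z * u = u * z) (hzu' : z * u' = u' * z)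
    (hz : u * u' * u⁻¹ = z * u')
    (hstar : ∀ w : V, u⁻¹ • w * u • w = u'⁻¹ • w * u' • w)
    (hcop : (Nat.card V).Coprime (Nat.card (Subgroup.zpowers z))) (hodd : Odd (orderOf z)) :
    z = 1 := by
  have h2 : ∀ w : V, u'⁻¹ • w * u' • w = (z * u')⁻¹ • w * (z * u') • w := by
    intro w
    have h := congrArg (fun x => u • x) (hstar (u⁻¹ • w))
    simp only [smul_mul', smul_inv_smul] at h
    rw [← hstar w]
    rw [← mul_smul u u'⁻¹, ← mul_smul, ← mul_smul u u', ← mul_smul (u * u'), hz] at h
    have e : u * u'⁻¹ * u⁻¹ = (z * u')⁻¹ := by rw [← hz]; group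
    rw [e] at h
    exact h
  have h3 : ∀ w : V, w * (u' * u') • w = z⁻¹ • w * (z * (u' * u')) • w := by
    intro w
    have h := h2 (u' • w)
    rw [inv_smul_smul, ← mul_smul, ← mul_smul, ← mul_smul] at h
    have e : (z * u')⁻¹ * u' = z⁻¹ := by rw [hzu']; group
    rw [e, mul_assoc] at h
    exact h
  have hzz : z * (u' * u') = (u' * u') * z := by
    rw [← mul_assoc, hzu', mul_assoc, hzu', mul_assoc]
  have hzi : z * z⁻¹ = z⁻¹ * z := by group
  have hzui : z * u⁻¹ = u⁻¹ * z := by
    have : u⁻¹ * (z * u) * u⁻¹ = u⁻¹ * (u * z) * u⁻¹ := by rw [hzu]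
    calc z * u⁻¹ = u⁻¹ * (u * z) * u⁻¹ := by group
      _ = u⁻¹ * (z * u) * u⁻¹ := by rw [hzu]
      _ = u⁻¹ * z := by group
  set W' := commV V (Subgroup.zpowers z) with hW'
  have h4 : ∀ w ∈ W', (u' * u') • w = z⁻¹ • w := by
    intro w hw
    have hq : (u' * u') • w * (z⁻¹ • w)⁻¹ ∈ W' :=
      W'.mul_mem (smul_mem_commV (conj_zpowers hzz) w hw)
        (W'.inv_mem (smul_mem_commV (conj_zpowers hzi) w hw))
    have hfix : z • ((u' * u') • w * (z⁻¹ • w)⁻¹) = (u' * u') • w * (z⁻¹ • w)⁻¹ := by
      rw [smul_mul', smul_inv', smul_inv_smul, ← mul_smul]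
      have := h3 w
      generalize (u' * u') • w = Y at this ⊢
      generalize (z * (u' * u')) • w = ZY at this ⊢
      generalize z⁻¹ • w = ZI at this ⊢
      rw [mul_inv_eq_iff_eq_mul]
      calc ZY = ZI⁻¹ * (ZI * ZY) := (inv_mul_cancel_left _ _).symm
        _ = ZI⁻¹ * (w * Y) := by rw [this]
        _ = Y * ZI⁻¹ * w := by ac_rfl
    have := eq_one_of_mem_commV_of_fixed hcop hq (fixed_zpowers hfix)
    exact mul_inv_eq_one.mp this
  have h5 : ∀ w ∈ W', w = 1 := by
    intro w hw
    have hw' : u⁻¹ • w ∈ W' := smul_mem_commV (conj_zpowers hzui) w hw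
    have h := congrArg (fun x => u • x) (h4 _ hw')
    simp only [← mul_smul] at h
    have e1 : u * (u' * u' * u⁻¹) = z * (z * (u' * u')) := by
      calc u * (u' * u' * u⁻¹) = (u * u' * u⁻¹) * (u * u' * u⁻¹) := by group
        _ = z * u' * (z * u') := by rw [hz]
        _ = z * (u' * z) * u' := by group
        _ = z * (z * u') * u' := by rw [hzu']
        _ = z * (z * (u' * u')) := by group
    have e2 : u * (z⁻¹ * u⁻¹) = z⁻¹ := by
      calc u * (z⁻¹ * u⁻¹) = (u * z * u⁻¹)⁻¹ := by group
        _ = (z * u * u⁻¹)⁻¹ := by rw [hzu]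
        _ = z⁻¹ := by group
    rw [e1, e2, mul_smul, mul_smul, h4 w hw, smul_inv_smul] at h
    have h6 : (z * z) • w = w := by
      rw [mul_smul, h, smul_inv_smul]
    have h7 : z • w = w :=
      mem_of_sq_mem hodd (MulAction.stabilizer X w) h6
    exact eq_one_of_mem_commV_of_fixed hcop hw (fixed_zpowers h7)
  apply FaithfulSMul.eq_of_smul_eq_smul (α := V)
  intro v
  rw [one_smul]
  exact mul_inv_eq_one.mp (h5 _ (mem_commV (Subgroup.mem_zpowers z) v))

theorem comm_bot_of {R : Subgroup X} {c : X} (h : ∀ g ∈ R, c * g = g * c) :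
    ⁅R, Subgroup.zpowers c⁆ = ⊥ := by
  rw [Subgroup.commutator_eq_bot_iff_le_centralizer]
  intro g hg
  rw [Subgroup.mem_centralizer_iff]
  intro x hx
  have : Subgroup.zpowers c ≤ Subgroup.centralizer {g} := by
    rw [Subgroup.zpowers_le, Subgroup.mem_centralizer_singleton_iff]; exact (h g hg)
  exact (Subgroup.mem_centralizer_singleton_iff.mp (this hx))

theorem comm_of_bot {R : Subgroup X} {c : X} (h : ⁅R, Subgroup.zpowers c⁆ = ⊥) :
    ∀ g ∈ R, c * g = g * c := by
  intro g hg
  rw [Subgroup.commutator_eq_bot_iff_le_centralizer] at h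
  exact Subgroup.mem_centralizer_iff.mp (h hg) c (Subgroup.mem_zpowers c)

theorem card_zpowers_coprime {c : X} {p : ℕ} (hc : c ^ p = 1) {n : ℕ} (hn : n.Coprime p) :
    (Nat.card (Subgroup.zpowers c)).Coprime n := by
  rw [Nat.card_zpowers]
  exact (Nat.Coprime.coprime_dvd_right (orderOf_dvd_of_pow_eq_one hc) hn).symm

theorem shult3 [FaithfulSMul X V] {c : X} (hc : c ^ 3 = 1) (hcV : ∀ v : V, c • v = v → v = 1)
    (n : ℕ) : ∀ R : Subgroup X, Nat.card R ≤ n → Group.IsSolvable R → (Nat.card R).Coprime 6 →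
      (Nat.card V).Coprime (Nat.card R) → (∀ x ∈ R, c * x * c⁻¹ ∈ R) →
      ∀ g ∈ R, c * g = g * c := by
  induction n with
  | zero =>
    intro R hn
    have := Nat.card_pos (α := R)
    omega
  | succ n ih =>
    intro R hn hsol hc6 hcop hcR
    set P := Subgroup.zpowers c with hP
    have hc3 : (Nat.card R).Coprime 3 := Nat.Coprime.coprime_dvd_right (by norm_num) hc6
    have hc2 : (Nat.card R).Coprime 2 := Nat.Coprime.coprime_dvd_right (by norm_num) hc6
    have hPR : P ≤ Subgroup.normalizer (R : Set X) :=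
      Subgroup.zpowers_le.mpr (Cfsg.Agent.Lib.Helper66Basic.mem_normalizer_of_conj_mem R c hcR)
    have hcardP : (Nat.card P).Coprime (Nat.card R) := card_zpowers_coprime hc hc3
    have hR1le : ⁅R, P⁆ ≤ R := Cfsg.Agent.Lib.Helper30SZ.commutator_le_of_le_normalizer hPR
    have h27 := Cfsg.Agent.S0027.result P R hPR hcardP (Or.inr hsol)
    have hIH : ∀ R' : Subgroup X, R' < R → P ≤ Subgroup.normalizer (R' : Set X) →
        ∀ g ∈ R', c * g = g * c := by
      intro R' hlt hPR'
      apply ih R'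
      · have := card_lt_of_lt hlt
        omega
      · exact Cfsg.Agent.Lib.Helper30SZ.solvable_of_le hsol hlt.le
      · exact Nat.Coprime.coprime_dvd_left (Subgroup.card_dvd_of_le hlt.le) hc6
      · exact Nat.Coprime.coprime_dvd_right (Subgroup.card_dvd_of_le hlt.le) hcop
      · intro x hx
        exact conj_mem hPR' (Subgroup.mem_zpowers c) hx
    by_cases hR1 : ⁅R, P⁆ = R
    · by_cases hRbot : R = ⊥
      · intro g hg
        rw [hRbot, Subgroup.mem_bot] at hg
        rw [hg, mul_one, one_mul]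
      have hDlt : ⁅R, R⁆ < R := comm_lt hsol hRbot
      have hDc := hIH _ hDlt (Cfsg.Agent.Lib.Helper30SZ.le_normalizer_commutator hPR hPR)
      have hDP : ⁅⁅R, R⁆, P⁆ = ⊥ := comm_bot_of hDc
      have hDR : ⁅⁅R, R⁆, R⁆ ≤ ⁅R, R⁆ :=
        Cfsg.Agent.Lib.Helper30SZ.commutator_le_of_le_normalizer
          (Cfsg.Agent.Lib.Helper30SZ.le_normalizer_commutator Subgroup.le_normalizer
            Subgroup.le_normalizer)
      have h3 : ⁅⁅R, P⁆, ⁅R, R⁆⁆ = ⊥ := by
        apply Subgroup.commutator_commutator_eq_bot_of_rotate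
        · rw [Subgroup.commutator_comm P ⁅R, R⁆, hDP]; simp
        · rw [eq_bot_iff, ← hDP]
          exact Subgroup.commutator_mono hDR le_rfl
      rw [hR1, Subgroup.commutator_eq_bot_iff_le_centralizer] at h3
      intro g hg
      set u := g * c * g⁻¹ * c⁻¹ with hu
      have huR : u ∈ R := by
        have e : u = g * (c * g⁻¹ * c⁻¹) := by rw [hu]; group
        rw [e]; exact R.mul_mem hg (hcR _ (R.inv_mem hg))
      set u' := c⁻¹ * u * c with hu'
      have hu'R : u' ∈ R := by
        have := conj_mem hPR (P.inv_mem (Subgroup.mem_zpowers c)) huR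
        rwa [inv_inv] at this
      set z := u * u' * u⁻¹ * u'⁻¹ with hz
      have hzD : z ∈ ⁅R, R⁆ := by
        have := Subgroup.commutator_mem_commutator huR hu'R
        rwa [commutatorElement_def] at this
      have hzc : ∀ x ∈ R, z * x = x * z := fun x hx =>
        Subgroup.mem_centralizer_iff.mp (h3 hx) z hzD
      have hzR : z ∈ R := hDlt.le hzD
      have hna := norm3 hc hcV
      have hnb : ∀ w : V, w * (g * c * g⁻¹) • w * (g * c * g⁻¹) • (g * c * g⁻¹) • w = 1 := by
        apply norm3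
        · rw [conj_pow, hc]; group
        · exact fpf_conj hcV g
      have hstar : ∀ w : V, u⁻¹ • w * u • w = u'⁻¹ • w * u' • w := by
        intro w
        have h := key3 hna hnb w
        have e1 : c * (g * c * g⁻¹)⁻¹ = u⁻¹ := by rw [hu]; group
        have e2 : g * c * g⁻¹ * c⁻¹ = u := rfl
        have e3 : (g * c * g⁻¹)⁻¹ * c = u'⁻¹ := by rw [hu', hu]; group
        have e4 : c⁻¹ * (g * c * g⁻¹) = u' := by rw [hu', hu]; group
        rwa [e1, e2, e3, e4] at h
      have hz1 : z = 1 := by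
        apply z_eq_one (V := V) (hzc u huR) (hzc u' hu'R) (by rw [hz]; group) hstar
        · exact Nat.Coprime.coprime_dvd_right
            (Subgroup.card_dvd_of_le (Subgroup.zpowers_le.mpr hzR)) hcop
        · have h1 : orderOf z ∣ Nat.card R := by
            rw [← Nat.card_zpowers]
            exact Subgroup.card_dvd_of_le (Subgroup.zpowers_le.mpr hzR)
          exact (Nat.Coprime.coprime_dvd_left h1 hc2).odd_of_right
      have huu' : u * u' = u' * u := by
        have : u * u' * u⁻¹ * u'⁻¹ = 1 := hz1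
        rw [mul_inv_eq_one, mul_inv_eq_iff_eq_mul] at this
        exact this
      set u₁ := c * u * c⁻¹ with hu₁
      have hu₁R : u₁ ∈ R := hcR u huR
      have huu₁ : u * u₁ = u₁ * u := by
        have e1 : u₁ * u = c * (u * u') * c⁻¹ := by rw [hu₁, hu']; group
        have e2 : u * u₁ = c * (u' * u) * c⁻¹ := by rw [hu₁, hu']; group
        rw [e1, e2, huu']
      have hrel : u * u₁ * (c * u₁ * c⁻¹) = 1 := by
        have : u * u₁ * (c * u₁ * c⁻¹) = g * c ^ 3 * g⁻¹ * (c ^ 3)⁻¹ := by
          rw [hu₁, hu]; simp only [pow_succ, pow_zero, one_mul]; group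
        rw [this, hc]; group
      set M := Subgroup.closure ({u, u₁} : Set X) with hM
      have huM : u ∈ M := Subgroup.subset_closure (by simp)
      have hu₁M : u₁ ∈ M := Subgroup.subset_closure (by simp)
      have hMR : M ≤ R := by
        rw [hM, Subgroup.closure_le]
        rintro x (rfl | rfl)
        · exact huR
        · exact hu₁R
      have hMcomm : IsMulCommutative M := by
        apply Subgroup.isMulCommutative_closure
        rintro x (rfl | rfl) y (rfl | rfl)
        · rfl
        · exact huu₁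
        · exact huu₁.symm
        · rfl
      have hcM : ∀ x ∈ M, c * x * c⁻¹ ∈ M := by
        have : M ≤ M.comap (MulAut.conj c).toMonoidHom := by
          rw [hM, Subgroup.closure_le]
          rintro x (rfl | rfl)
          · rw [SetLike.mem_coe, Subgroup.mem_comap, MulEquiv.coe_toMonoidHom, MulAut.conj_apply]
            exact hu₁M
          · rw [SetLike.mem_coe, Subgroup.mem_comap, MulEquiv.coe_toMonoidHom, MulAut.conj_apply]
            have e : c * u₁ * c⁻¹ = (u * u₁)⁻¹ := eq_inv_of_mul_eq_one_right hrel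
            rw [e]; exact M.inv_mem (M.mul_mem huM hu₁M)
        intro x hx
        have := this hx
        rwa [Subgroup.mem_comap, MulEquiv.coe_toMonoidHom, MulAut.conj_apply] at this
      have hPM : P ≤ Subgroup.normalizer (M : Set X) :=
        Subgroup.zpowers_le.mpr (Cfsg.Agent.Lib.Helper66Basic.mem_normalizer_of_conj_mem M c hcM)
      have hcardPM : (Nat.card P).Coprime (Nat.card M) :=
        Nat.Coprime.coprime_dvd_right (Subgroup.card_dvd_of_le hMR) hcardP
      obtain ⟨h55a, h55b⟩ := Cfsg.Agent.S0055.result P M hPM hcardPM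
      have hM1le : ⁅M, P⁆ ≤ M := Cfsg.Agent.Lib.Helper30SZ.commutator_le_of_le_normalizer hPM
      have hPM1 : P ≤ Subgroup.normalizer ((⁅M, P⁆ : Subgroup X) : Set X) :=
        Cfsg.Agent.Lib.Helper30SZ.le_normalizer_commutator hPM Subgroup.le_normalizer
      have htriv := frobP (V := V) Nat.prime_three c hc ⁅M, P⁆
        (Nat.Coprime.coprime_dvd_right (Subgroup.card_dvd_of_le (hM1le.trans hMR)) hcop)
        (fun x hx => conj_mem hPM1 (Subgroup.mem_zpowers c) hx)
        (by
          intro x hx hfix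
          have h1 : x ∈ (M ⊓ Subgroup.centralizer (P : Set X)) ⊓ ⁅M, P⁆ := by
            rw [Subgroup.mem_inf, Subgroup.mem_inf]
            refine ⟨⟨hM1le hx, ?_⟩, hx⟩
            rw [Subgroup.mem_centralizer_iff]
            intro y hy
            have h2 : P ≤ Subgroup.centralizer {x} := by
              rw [hP, Subgroup.zpowers_le, Subgroup.mem_centralizer_singleton_iff]
              exact mul_inv_eq_iff_eq_mul.mp hfix
            exact Subgroup.mem_centralizer_singleton_iff.mp (h2 hy)
          rwa [h55a, Subgroup.mem_bot] at h1)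
        ⊤ (fun _ _ _ _ => Subgroup.mem_top _) (fun _ _ => Subgroup.mem_top _)
        (fun v _ hv => hcV v hv)
      have hM1bot : ⁅M, P⁆ = ⊥ := by
        rw [eq_bot_iff]
        intro x hx
        rw [Subgroup.mem_bot]
        apply FaithfulSMul.eq_of_smul_eq_smul (α := V)
        intro v
        rw [one_smul]
        exact htriv x hx v (Subgroup.mem_top v)
      have hcu : c * u = u * c := comm_of_bot hM1bot u huM
      have hu₁u : u₁ = u := by rw [hu₁, hcu]; group
      rw [hu₁u, hcu] at hrel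
      have hu3 : u ^ 3 = 1 := by
        have : u ^ 3 = u * u * (u * c * c⁻¹) := by
          simp only [pow_succ, pow_zero, one_mul]; group
        rw [this, hrel]
      have hu1 : u = 1 := by
        have h1 : orderOf u ∣ 3 := orderOf_dvd_of_pow_eq_one hu3
        have h2 : orderOf u ∣ Nat.card R := by
          rw [← Nat.card_zpowers]
          exact Subgroup.card_dvd_of_le (Subgroup.zpowers_le.mpr huR)
        have h3 := Nat.eq_one_of_dvd_coprimes hc3 h2 h1
        exact orderOf_eq_one_iff.mp h3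
      have : g * c * g⁻¹ * c⁻¹ = 1 := hu1
      rw [mul_inv_eq_one, mul_inv_eq_iff_eq_mul] at this
      exact this.symm
    · have hlt : ⁅R, P⁆ < R := lt_of_le_of_ne hR1le hR1
      have h1 := hIH _ hlt (Cfsg.Agent.Lib.Helper30SZ.le_normalizer_commutator hPR
        Subgroup.le_normalizer)
      have h2 := comm_bot_of h1
      rw [h27] at h2
      exact comm_of_bot h2

/-- the setwise stabiliser of a subgroup of `V` -/
def stabW (X : Type*) [Group X] {V : Type*} [CommGroup V] [MulDistribMulAction X V]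
    (W : Subgroup V) : Subgroup X where
  carrier := {x | (∀ w ∈ W, x • w ∈ W) ∧ ∀ w ∈ W, x⁻¹ • w ∈ W}
  mul_mem' := by
    rintro a b ⟨ha, ha'⟩ ⟨hb, hb'⟩
    refine ⟨fun w hw => ?_, fun w hw => ?_⟩
    · rw [mul_smul]; exact ha _ (hb w hw)
    · rw [mul_inv_rev, mul_smul]; exact hb' _ (ha' w hw)
  one_mem' := ⟨fun w hw => by rwa [one_smul], fun w hw => by rwa [inv_one, one_smul]⟩
  inv_mem' := by
    rintro a ⟨ha, ha'⟩
    exact ⟨ha', by rwa [inv_inv]⟩

theorem mem_stabW {W : Subgroup V} {x : X} (h : ∀ w ∈ W, x • w ∈ W) : x ∈ stabW X W := by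
  refine ⟨h, ?_⟩
  have hpow : ∀ k : ℕ, ∀ w ∈ W, x ^ k • w ∈ W := by
    intro k
    induction k with
    | zero => intro w hw; rwa [pow_zero, one_smul]
    | succ k ih => intro w hw; rw [pow_succ, mul_smul]; exact ih _ (h w hw)
  have e : x⁻¹ = x ^ (orderOf x - 1) := by
    symm
    apply eq_inv_of_mul_eq_one_left
    rw [← pow_succ, Nat.sub_add_cancel (orderOf_pos x), pow_orderOf_eq_one]
  rw [e]
  exact hpow _

/-- restriction to an invariant subgroup -/
def resW (X : Type*) [Group X] {V : Type*} [CommGroup V] [MulDistribMulAction X V]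
    (W : Subgroup V) : stabW X W →* MulAut W where
  toFun x :=
    { toFun := fun w => ⟨(x : X) • (w : V), x.2.1 w w.2⟩
      invFun := fun w => ⟨(x : X)⁻¹ • (w : V), x.2.2 w w.2⟩
      left_inv := fun w => Subtype.ext (inv_smul_smul _ _)
      right_inv := fun w => Subtype.ext (smul_inv_smul _ _)
      map_mul' := fun a b => Subtype.ext (smul_mul' _ _ _) }
  map_one' := by
    ext w
    exact one_smul _ _
  map_mul' := by
    intro a b
    ext w
    exact mul_smul _ _ _

theorem resW_apply (W : Subgroup V) (x : stabW X W) (w : W) :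
    ((resW X W x w : W) : V) = (x : X) • (w : V) := rfl

theorem shult3_rel {c : X} (hc : c ^ 3 = 1) (W : Subgroup V) (hcW : ∀ w ∈ W, c • w ∈ W)
    (hf : ∀ w ∈ W, c • w = w → w = 1) (R : Subgroup X) (hsol : Group.IsSolvable R)
    (hc6 : (Nat.card R).Coprime 6) (hcop : (Nat.card V).Coprime (Nat.card R))
    (hcR : ∀ x ∈ R, c * x * c⁻¹ ∈ R) (hRW : ∀ x ∈ R, ∀ w ∈ W, x • w ∈ W) :
    ∀ g ∈ R, ∀ w ∈ W, c • g • w = g • c • w := by
  have hRY : R ≤ stabW X W := fun x hx => mem_stabW (hRW x hx)
  have hcY : c ∈ stabW X W := mem_stabW hcW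
  let f : R →* MulAut W := (resW X W).comp (Subgroup.inclusion hRY)
  have hfa : ∀ (r : R) (w : W), ((f r w : W) : V) = (r : X) • (w : V) := fun r w => rfl
  let c' : MulAut W := resW X W ⟨c, hcY⟩
  have hc'a : ∀ w : W, ((c' w : W) : V) = c • (w : V) := fun w => rfl
  have key := shult3 (V := W) (X := MulAut W) (c := c')
    (by
      show (resW X W ⟨c, hcY⟩) ^ 3 = 1
      rw [← map_pow]
      have : (⟨c, hcY⟩ : stabW X W) ^ 3 = 1 := Subtype.ext (by simpa using hc)
      rw [this, map_one])
    (by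
      intro w hw
      apply Subtype.ext
      exact hf w w.2 (congrArg Subtype.val hw))
    _ f.range le_rfl (Group.isSolvable_of_surjective f.rangeRestrict_surjective)
    (Nat.Coprime.coprime_dvd_left (Subgroup.card_range_dvd f) hc6)
    (Nat.Coprime.coprime_dvd_left (Subgroup.card_subgroup_dvd_card W)
      (Nat.Coprime.coprime_dvd_right (Subgroup.card_range_dvd f) hcop))
    (by
      rintro _ ⟨r, rfl⟩
      refine ⟨⟨c * r * c⁻¹, hcR r r.2⟩, ?_⟩
      rw [eq_mul_inv_iff_mul_eq]
      ext w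
      rw [MulAut.mul_apply, MulAut.mul_apply, hfa, hc'a, hc'a, hfa, ← mul_smul, ← mul_smul]
      congr 1
      group)
  intro g hg w hw
  have h := key (f ⟨g, hg⟩) ⟨⟨g, hg⟩, rfl⟩
  have h2 := congrArg (fun e : MulAut W => ((e ⟨w, hw⟩ : W) : V)) h
  exact h2

end Cfsg.Agent.Lib.Helper66S3a
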