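import Mathlib
import Cfsg.Agent.Lib.Helper66S3a
import Cfsg.Agent.Lib.Helper40Sylow

set_option autoImplicit false
set_option linter.unusedSectionVars false

namespace Cfsg.Agent.Lib.Helper66S3b

open Cfsg.Agent.Lib.Helper66Fpf Cfsg.Agent.Lib.Helper66Fpf2 Cfsg.Agent.Lib.Helper66Ward2
  Cfsg.Agent.Lib.Helper66S3a Cfsg.Agent.Lib.Helper40Sylow

variable {V : Type*} [CommGroup V] [Finite V] {X : Type*} [Group X] [Finite X]
  [MulDistribMulAction X V]

/-- `C_{[V,Z]}(K)` -/
def WK (V : Type*) [CommGroup V] {X : Type*} [Group X] [MulDistribMulAction X V]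
    (Z K : Subgroup X) : Subgroup V := commV V Z ⊓ fixVS V K

/-- `K` is maximal in `Z` with `C_{[V,Z]}(K) ≠ 1` -/
structure MaxK (V : Type*) [CommGroup V] {X : Type*} [Group X] [MulDistribMulAction X V]
    (Z K : Subgroup X) : Prop where
  le : K ≤ Z
  ne : WK V Z K ≠ ⊥
  max : ∀ K' : Subgroup X, K < K' → K' ≤ Z → WK V Z K' = ⊥

variable {Z K : Subgroup X}

theorem WK_self (hcop : (Nat.card V).Coprime (Nat.card Z)) : WK V Z Z = ⊥ := by
  rw [eq_bot_iff]
  rintro v ⟨h1, h2⟩
  rw [Subgroup.mem_bot]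
  exact eq_one_of_mem_commV_of_fixed hcop h1 h2

theorem exists_maxK [FaithfulSMul X V] (hZne : Z ≠ ⊥) : ∃ K, MaxK V Z K := by
  let S : Set (Subgroup X) := {K | K ≤ Z ∧ WK V Z K ≠ ⊥}
  have hSne : S.Nonempty := by
    refine ⟨⊥, bot_le, ?_⟩
    intro hbot
    apply hZne
    rw [eq_bot_iff]
    intro x hx
    rw [Subgroup.mem_bot]
    apply FaithfulSMul.eq_of_smul_eq_smul (α := V)
    intro v
    rw [one_smul]
    have h1 : x • v * v⁻¹ ∈ WK V Z ⊥ := by
      refine ⟨mem_commV hx v, ?_⟩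
      intro h hh
      rw [Subgroup.mem_bot] at hh
      rw [hh, one_smul]
    rw [hbot, Subgroup.mem_bot] at h1
    exact mul_inv_eq_one.mp h1
  obtain ⟨K, hK⟩ := (Set.toFinite S).exists_maximal hSne
  refine ⟨K, hK.prop.1, hK.prop.2, ?_⟩
  intro K' hlt hle
  by_contra hne
  exact hlt.not_ge (hK.le_of_ge ⟨hle, hne⟩ hlt.le)

theorem MaxK.lt (h : MaxK V Z K) (hcop : (Nat.card V).Coprime (Nat.card Z)) : K < Z := by
  refine lt_of_le_of_ne h.le ?_
  rintro rfl
  exact h.ne (WK_self hcop)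

theorem MaxK.semireg (h : MaxK V Z K) {g : X} (hg : g ∈ Z) (hgK : g ∉ K) {w : V}
    (hw : w ∈ WK V Z K) (hfix : g • w = w) : w = 1 := by
  have hlt : K < K ⊔ Subgroup.zpowers g := by
    refine lt_of_le_of_ne le_sup_left ?_
    intro heq
    apply hgK
    rw [heq]
    exact (le_sup_right : Subgroup.zpowers g ≤ _) (Subgroup.mem_zpowers g)
  have h1 := h.max _ hlt (sup_le h.le (Subgroup.zpowers_le.mpr hg))
  have h2 : w ∈ WK V Z (K ⊔ Subgroup.zpowers g) := by
    refine ⟨hw.1, ?_⟩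
    have : K ⊔ Subgroup.zpowers g ≤ MulAction.stabilizer X w := by
      apply sup_le
      · intro k hk; exact hw.2 k hk
      · rw [Subgroup.zpowers_le]; exact hfix
    intro x hx
    exact this hx
  rwa [h1, Subgroup.mem_bot] at h2

theorem MaxK.exists_ne (h : MaxK V Z K) : ∃ w ∈ WK V Z K, w ≠ 1 := by
  by_contra hcon
  push Not at hcon
  apply h.ne
  rw [eq_bot_iff]
  intro w hw
  rw [Subgroup.mem_bot]
  exact hcon w hw

theorem MaxK.mem_of_fix (h : MaxK V Z K) {g : X} (hg : g ∈ Z)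
    (hfix : ∀ w ∈ WK V Z K, g • w = w) : g ∈ K := by
  by_contra hgK
  obtain ⟨w, hw, hw1⟩ := h.exists_ne
  exact hw1 (h.semireg hg hgK hw (hfix w hw))

theorem smul_mem_WK {x : X} (hx : x ∈ Subgroup.normalizer (Z : Set X)) {w : V}
    (hw : w ∈ WK V Z K) : x • w ∈ WK V Z (cj x K) := by
  refine ⟨smul_mem_commV (fun z hz => (Subgroup.mem_normalizer_iff.mp hx z).mp hz) w hw.1, ?_⟩
  intro y hy
  rw [mem_cj] at hy
  have := hw.2 _ hy
  have e : y • x • w = x • ((x⁻¹ * y * x) • w) := by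
    rw [← mul_smul, ← mul_smul]; congr 1; group
  rw [e, this]

theorem WK_cj_eq_bot {x : X} (hx : x ∈ Subgroup.normalizer (Z : Set X))
    (h : WK V Z (cj x K) = ⊥) : WK V Z K = ⊥ := by
  rw [eq_bot_iff]
  intro w hw
  have h1 := smul_mem_WK hx hw
  rw [h, Subgroup.mem_bot] at h1
  rw [Subgroup.mem_bot]
  have h2 : x⁻¹ • (x • w) = x⁻¹ • (1 : V) := by rw [h1]
  rwa [inv_smul_smul, smul_one] at h2

theorem MaxK.cj (h : MaxK V Z K) {x : X} (hx : x ∈ Subgroup.normalizer (Z : Set X)) :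
    MaxK V Z (cj x K) := by
  have hZ : Cfsg.Agent.Lib.Helper40Sylow.cj x Z = Z := mem_normalizer_iff_cj.mp hx
  have hxi : x⁻¹ ∈ Subgroup.normalizer (Z : Set X) := Subgroup.inv_mem _ hx
  have hZi : Cfsg.Agent.Lib.Helper40Sylow.cj x⁻¹ Z = Z := mem_normalizer_iff_cj.mp hxi
  refine ⟨?_, ?_, ?_⟩
  · rw [← hZ]; exact cj_mono h.le
  · intro hbot
    exact h.ne (WK_cj_eq_bot hx hbot)
  · intro K' hlt hle
    have h1 : K < Cfsg.Agent.Lib.Helper40Sylow.cj x⁻¹ K' := by
      constructor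
      · rw [← cj_le_iff]; exact hlt.le
      · intro hcon
        apply hlt.not_ge
        have := cj_mono (g := x) hcon
        rwa [cj_cj_inv] at this
    have h2 : Cfsg.Agent.Lib.Helper40Sylow.cj x⁻¹ K' ≤ Z := by
      rw [← hZi]; exact cj_mono hle
    have h3 := h.max _ h1 h2
    apply WK_cj_eq_bot hxi h3

theorem MaxK.not_le {K' : Subgroup X} (h : MaxK V Z K) (h' : MaxK V Z K') (hne : K ≠ K') :
    ¬ K ≤ K' := by
  intro hle
  exact h'.ne (h.max K' (lt_of_le_of_ne hle hne) h'.le)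

theorem smul_mem_WK_of_mem (hZ : ∀ x ∈ Z, ∀ y ∈ Z, x * y = y * x) (hK : K ≤ Z) {g : X} (hg : g ∈ Z)
    {w : V} (hw : w ∈ WK V Z K) : g • w ∈ WK V Z K := by
  refine ⟨smul_mem_commV (fun z hz => by rw [hZ g hg z hz]; simpa using hz) w hw.1, ?_⟩
  intro y hy
  rw [← mul_smul, hZ y (hK hy) g hg, mul_smul, hw.2 y hy]

theorem direct (hZ : ∀ x ∈ Z, ∀ y ∈ Z, x * y = y * x) {ι : Type*} [DecidableEq ι] (s : Finset ι)
    (K : ι → Subgroup X) (hK : ∀ i ∈ s, MaxK V Z (K i))
    (hne : ∀ i ∈ s, ∀ j ∈ s, i ≠ j → K i ≠ K j) : ∀ (w : ι → V), (∀ i ∈ s, w i ∈ WK V Z (K i)) →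
    ∏ i ∈ s, w i = 1 → ∀ i ∈ s, w i = 1 := by
  induction s using Finset.induction_on with
  | empty => intro w _ _ i hi; simp at hi
  | insert a s' ha ih =>
    intro w hw hprod
    rw [Finset.prod_insert ha] at hprod
    have hs' : ∀ j ∈ s', w j = 1 := by
      intro j hj
      have haj : a ≠ j := by rintro rfl; exact ha hj
      have hnle := (hK a (Finset.mem_insert_self a s')).not_le (hK j (Finset.mem_insert_of_mem hj))
        (hne a (Finset.mem_insert_self a s') j (Finset.mem_insert_of_mem hj) haj)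
      obtain ⟨g, hga, hgj⟩ := SetLike.not_le_iff_exists.mp hnle
      have hgZ : g ∈ Z := (hK a (Finset.mem_insert_self a s')).le hga
      have h1 := ih (fun i hi => hK i (Finset.mem_insert_of_mem hi))
        (fun i hi j hj => hne i (Finset.mem_insert_of_mem hi) j (Finset.mem_insert_of_mem hj))
        (fun i => g • w i * (w i)⁻¹)
        (fun i hi => Subgroup.mul_mem _
          (smul_mem_WK_of_mem hZ (hK i (Finset.mem_insert_of_mem hi)).le hgZ
            (hw i (Finset.mem_insert_of_mem hi)))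
          (Subgroup.inv_mem _ (hw i (Finset.mem_insert_of_mem hi))))
        (by
          rw [Finset.prod_mul_distrib, Finset.prod_inv_distrib, ← Finset.smul_prod']
          have e : ∏ i ∈ s', w i = (w a)⁻¹ := eq_inv_of_mul_eq_one_right hprod
          rw [e, smul_inv', (hw a (Finset.mem_insert_self a s')).2 g hga]
          group)
        j hj
      exact (hK j (Finset.mem_insert_of_mem hj)).semireg hgZ hgj
        (hw j (Finset.mem_insert_of_mem hj)) (mul_inv_eq_one.mp h1)
    intro i hi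
    rcases Finset.mem_insert.mp hi with rfl | hi
    · rw [Finset.prod_eq_one hs', mul_one] at hprod
      exact hprod
    · exact hs' i hi

theorem orbit_fpf (hZ : ∀ x ∈ Z, ∀ y ∈ Z, x * y = y * x) {A : Subgroup X}
    (hAZ : A ≤ Subgroup.normalizer (Z : Set X)) (hfpf : ∀ v : V, (∀ a ∈ A, a • v = v) → v = 1)
    (hcopA : (Nat.card V).Coprime (Nat.card A)) (hK : MaxK V Z K) :
    ∀ w ∈ WK V Z K, (∀ b ∈ A, b ∈ Subgroup.normalizer (K : Set X) → b • w = w) → w = 1 := by
  classical
  intro w hw hfix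
  have : Fintype A := Fintype.ofFinite A
  have hN : ∏ a : A, (a : X) • w = 1 := by
    apply hfpf
    intro b hb
    rw [Finset.smul_prod']
    simp only [← mul_smul]
    exact Fintype.prod_equiv (Equiv.mulLeft (⟨b, hb⟩ : A)) _ _ (fun a => rfl)
  let g : A → Subgroup X := fun a => Cfsg.Agent.Lib.Helper40Sylow.cj (a : X) K
  let t : Finset (Subgroup X) := Finset.univ.image g
  have hfib := Finset.prod_fiberwise_of_maps_to (s := Finset.univ) (t := t) (g := g)
    (fun a _ => Finset.mem_image_of_mem g (Finset.mem_univ a)) (fun a : A => (a : X) • w)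
  have h1 := direct hZ t id
    (by
      intro K' hK'
      obtain ⟨a, _, rfl⟩ := Finset.mem_image.mp hK'
      exact hK.cj (hAZ a.2))
    (fun i _ j _ hij => hij)
    (fun K' => ∏ a ∈ Finset.univ.filter (fun a : A => g a = K'), (a : X) • w)
    (by
      intro K' _
      apply Subgroup.prod_mem
      intro a ha
      have := (Finset.mem_filter.mp ha).2
      rw [id, ← this]
      exact smul_mem_WK (hAZ a.2) hw)
    (hfib.trans hN) K
    (Finset.mem_image.mpr ⟨1, Finset.mem_univ _, by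
      show Cfsg.Agent.Lib.Helper40Sylow.cj ((1 : A) : X) K = K
      rw [Subgroup.coe_one, cj_one]⟩)
  have h2 : ∏ a ∈ Finset.univ.filter (fun a : A => g a = K), (a : X) • w
      = w ^ (Finset.univ.filter (fun a : A => g a = K)).card := by
    rw [Finset.prod_congr rfl (fun (a : A) ha => hfix (a : X) a.2
      (mem_normalizer_iff_cj.mpr (Finset.mem_filter.mp ha).2)), Finset.prod_const]
  rw [h2] at h1
  let B : Subgroup A := (Subgroup.normalizer (K : Set X)).subgroupOf A
  have h3 : (Finset.univ.filter (fun a : A => g a = K)).card = Nat.card B := by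
    rw [Nat.card_eq_fintype_card, Fintype.card_subtype]
    congr 1
    ext a
    simp only [Finset.mem_filter, Finset.mem_univ, true_and]
    rw [Subgroup.mem_subgroupOf, mem_normalizer_iff_cj]
  rw [h3] at h1
  have hcop : (Nat.card V).Coprime (Nat.card B) :=
    Nat.Coprime.coprime_dvd_right (Subgroup.card_subgroup_dvd_card B) hcopA
  have h4 : w ^ Nat.card B = 1 ^ Nat.card B := by rw [h1, one_pow]
  exact (powCoprime hcop).injective h4

end Cfsg.Agent.Lib.Helper66S3b
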