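import Mathlib
import Cfsg.Agent.Lib.Helper66S3b

set_option autoImplicit false
set_option linter.unusedSectionVars false

namespace Cfsg.Agent.Lib.Helper66S3c

open Cfsg.Agent.Lib.Helper66Fpf Cfsg.Agent.Lib.Helper66Fpf2 Cfsg.Agent.Lib.Helper66Ward2
  Cfsg.Agent.Lib.Helper66S3a Cfsg.Agent.Lib.Helper66S3b Cfsg.Agent.Lib.Helper40Sylow

variable {V : Type*} [CommGroup V] [Finite V] {X : Type*} [Group X] [Finite X]
  [MulDistribMulAction X V]

/-- a pair of elements generating an image of `S₃` acting without common fixed points -/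
structure S3P (V : Type*) [CommGroup V] {X : Type*} [Group X] [MulDistribMulAction X V]
    (c τ : X) : Prop where
  c3 : c ^ 3 = 1
  t2 : τ * τ = 1
  rel : τ * c * τ⁻¹ = c⁻¹
  fpfV : ∀ v : V, c • v = v → τ • v = v → v = 1
  cop : (Nat.card V).Coprime 6

variable {c τ : X}

theorem S3P.tinv (h : S3P V c τ) : τ⁻¹ = τ := (eq_inv_of_mul_eq_one_left h.t2).symm

theorem S3P.cc (h : S3P V c τ) : c * c = c⁻¹ := by
  apply eq_inv_of_mul_eq_one_left
  have := h.c3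
  simpa only [pow_succ, pow_zero, one_mul] using this

theorem S3P.tc (h : S3P V c τ) : τ * c = c⁻¹ * τ := mul_inv_eq_iff_eq_mul.mp h.rel

theorem S3P.tci (h : S3P V c τ) : τ * c⁻¹ = c * τ := by
  have := h.tc
  calc τ * c⁻¹ = c * (c⁻¹ * τ) * c⁻¹ := by group
    _ = c * (τ * c) * c⁻¹ := by rw [this]
    _ = c * τ := by group

theorem zp3 (hc : c ^ 3 = 1) {k : X} (hk : k ∈ Subgroup.zpowers c) : k = 1 ∨ k = c ∨ k = c⁻¹ := by
  obtain ⟨m, rfl⟩ := Subgroup.mem_zpowers_iff.mp hk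
  have h3 : c ^ (3 : ℤ) = 1 := by exact_mod_cast hc
  rw [zpow_eq_zpow_emod m h3]
  have h1 : 0 ≤ m % 3 := Int.emod_nonneg _ (by norm_num)
  have h2 : m % 3 < 3 := Int.emod_lt_of_pos _ (by norm_num)
  generalize m % 3 = j at h1 h2
  interval_cases j
  · left; simp
  · right; left; simp
  · right; right
    apply eq_inv_of_mul_eq_one_left
    have : c ^ (2 : ℤ) * c = c ^ (3 : ℤ) := by
      rw [show (3 : ℤ) = 2 + 1 by norm_num, zpow_add, zpow_one]
    rw [this, h3]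

theorem zp2 (ht : τ * τ = 1) {k : X} (hk : k ∈ Subgroup.zpowers τ) : k = 1 ∨ k = τ := by
  obtain ⟨m, rfl⟩ := Subgroup.mem_zpowers_iff.mp hk
  have h3 : τ ^ (2 : ℤ) = 1 := by
    rw [show (2 : ℤ) = 1 + 1 by norm_num, zpow_add, zpow_one]; exact ht
  rw [zpow_eq_zpow_emod m h3]
  have h1 : 0 ≤ m % 2 := Int.emod_nonneg _ (by norm_num)
  have h2 : m % 2 < 2 := Int.emod_lt_of_pos _ (by norm_num)
  generalize m % 2 = j at h1 h2
  interval_cases j
  · left; simp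
  · right; simp

/-- the group generated by the pair -/
def AA (c τ : X) : Subgroup X := Subgroup.zpowers c ⊔ Subgroup.zpowers τ

theorem S3P.norm (h : S3P V c τ) :
    Subgroup.zpowers τ ≤ Subgroup.normalizer (Subgroup.zpowers c : Set X) := by
  rw [Subgroup.zpowers_le]
  apply Cfsg.Agent.Lib.Helper66Basic.mem_normalizer_of_conj_mem
  intro x hx
  rcases zp3 h.c3 hx with h1 | h1 | h1
  · rw [h1]; simp
  · rw [h1, h.rel]; exact Subgroup.inv_mem _ (Subgroup.mem_zpowers c)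
  · have : τ * c⁻¹ * τ⁻¹ = (τ * c * τ⁻¹)⁻¹ := by group
    rw [h1, this, h.rel, inv_inv]; exact Subgroup.mem_zpowers c

theorem S3P.mem_AA (h : S3P V c τ) {a : X} (ha : a ∈ AA c τ) :
    ∃ k ∈ Subgroup.zpowers c, a = k ∨ a = k * τ := by
  obtain ⟨k, hk, y, hy, rfl⟩ := (Cfsg.Agent.Lib.Helper30SZ.mem_sup_iff h.norm).mp ha
  refine ⟨k, hk, ?_⟩
  rcases zp2 h.t2 hy with rfl | rfl
  · left; rw [mul_one]
  · right; rfl

theorem S3P.AA_coprime (h : S3P V c τ) {n : ℕ} (hn : n.Coprime 6) :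
    (Nat.card (AA c τ)).Coprime n := by
  have h3 : n.Coprime 3 := Nat.Coprime.coprime_dvd_right (by norm_num) hn
  have h2 : n.Coprime 2 := Nat.Coprime.coprime_dvd_right (by norm_num) hn
  have ht : τ ^ 2 = 1 := by rw [pow_two]; exact h.t2
  have h1 : (Nat.card (Subgroup.zpowers τ)).Coprime (Nat.card (Subgroup.zpowers c)) := by
    rw [Nat.card_zpowers, Nat.card_zpowers]
    exact Nat.Coprime.coprime_dvd_left (orderOf_dvd_of_pow_eq_one ht)
      (Nat.Coprime.coprime_dvd_right (orderOf_dvd_of_pow_eq_one h.c3) (by norm_num))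
  rw [AA, Cfsg.Agent.Lib.Helper30SZ.card_sup h.norm h1]
  exact Nat.Coprime.mul_left (card_zpowers_coprime h.c3 h3) (card_zpowers_coprime ht h2)

theorem AA_le_normalizer {R : Subgroup X} (hc : c ∈ Subgroup.normalizer (R : Set X))
    (hτ : τ ∈ Subgroup.normalizer (R : Set X)) : AA c τ ≤ Subgroup.normalizer (R : Set X) :=
  sup_le (Subgroup.zpowers_le.mpr hc) (Subgroup.zpowers_le.mpr hτ)

theorem c_mem_AA : c ∈ AA c τ := (le_sup_left : Subgroup.zpowers c ≤ _) (Subgroup.mem_zpowers c)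

theorem t_mem_AA : τ ∈ AA c τ := (le_sup_right : Subgroup.zpowers τ ≤ _) (Subgroup.mem_zpowers τ)

theorem fix_AA {v : V} (hc : c • v = v) (hτ : τ • v = v) : ∀ a ∈ AA c τ, a • v = v := by
  have : AA c τ ≤ MulAction.stabilizer X v :=
    sup_le (Subgroup.zpowers_le.mpr hc) (Subgroup.zpowers_le.mpr hτ)
  exact fun a ha => this ha

theorem mem_centralizer_AA {x : X} (hc : c * x = x * c) (hτ : τ * x = x * τ) :
    x ∈ Subgroup.centralizer (AA c τ : Set X) := by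
  have : AA c τ ≤ Subgroup.centralizer {x} := by
    apply sup_le
    · rw [Subgroup.zpowers_le, Subgroup.mem_centralizer_singleton_iff]; exact hc
    · rw [Subgroup.zpowers_le, Subgroup.mem_centralizer_singleton_iff]; exact hτ
  rw [Subgroup.mem_centralizer_iff]
  intro a ha
  exact Subgroup.mem_centralizer_singleton_iff.mp (this ha)

theorem S3P.fpfA (h : S3P V c τ) : ∀ v : V, (∀ a ∈ AA c τ, a • v = v) → v = 1 :=
  fun v hv => h.fpfV v (hv c c_mem_AA) (hv τ t_mem_AA)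

/-- admissible subgroups -/
structure Adm (c τ : X) (R : Subgroup X) : Prop where
  hc : c ∈ Subgroup.normalizer (R : Set X)
  hτ : τ ∈ Subgroup.normalizer (R : Set X)
  fpf : ∀ x ∈ R, c * x = x * c → τ * x = x * τ → x = 1
  cop6 : (Nat.card R).Coprime 6

theorem Adm.le {R : Subgroup X} (h : Adm c τ R) : AA c τ ≤ Subgroup.normalizer (R : Set X) :=
  AA_le_normalizer h.hc h.hτ

theorem Adm.inf_eq_bot {R : Subgroup X} (h : Adm c τ R) :
    R ⊓ Subgroup.centralizer (AA c τ : Set X) = ⊥ := by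
  rw [eq_bot_iff]
  rintro x ⟨hx, hx2⟩
  rw [Subgroup.mem_bot]
  exact h.fpf x hx (Subgroup.mem_centralizer_iff.mp hx2 c c_mem_AA)
    (Subgroup.mem_centralizer_iff.mp hx2 τ t_mem_AA)

theorem Adm.of_le {R R' : Subgroup X} (h : Adm c τ R) (hle : R' ≤ R)
    (hc : c ∈ Subgroup.normalizer (R' : Set X)) (hτ : τ ∈ Subgroup.normalizer (R' : Set X)) :
    Adm c τ R' :=
  ⟨hc, hτ, fun x hx => h.fpf x (hle hx),
    Nat.Coprime.coprime_dvd_left (Subgroup.card_dvd_of_le hle) h.cop6⟩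

theorem S3P.mulτ (h : S3P V c τ) {k : X} (hk : k ∈ Subgroup.zpowers c) : S3P V c (k * τ) := by
  have hkc : k * c = c * k := by
    rcases zp3 h.c3 hk with rfl | rfl | rfl <;> group
  have hkt : τ * k * τ⁻¹ = k⁻¹ := by
    rcases zp3 h.c3 hk with rfl | rfl | rfl
    · group
    · exact h.rel
    · have : τ * c⁻¹ * τ⁻¹ = (τ * c * τ⁻¹)⁻¹ := by group
      rw [this, h.rel]
  refine ⟨h.c3, ?_, ?_, ?_, h.cop⟩
  · calc k * τ * (k * τ) = k * (τ * k * τ⁻¹) * (τ * τ) := by group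
      _ = 1 := by rw [hkt, h.t2]; group
  · calc k * τ * c * (k * τ)⁻¹ = k * (τ * c * τ⁻¹) * k⁻¹ := by group
      _ = (k * c * k⁻¹)⁻¹ := by rw [h.rel]; group
      _ = c⁻¹ := by rw [hkc]; group
  · intro v hc hv
    apply h.fpfV v hc
    have h1 : k⁻¹ • v = v := fixed_zpowers hc _ (Subgroup.inv_mem _ hk)
    rw [mul_smul] at hv
    have h2 : k⁻¹ • (k • τ • v) = k⁻¹ • v := by rw [hv]
    rwa [inv_smul_smul, h1] at h2

theorem Adm.mulτ {R : Subgroup X} (h : Adm c τ R) {k : X} (hk : k ∈ Subgroup.zpowers c) :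
    Adm c (k * τ) R := by
  have hkN : k ∈ Subgroup.normalizer (R : Set X) := (Subgroup.zpowers_le.mpr h.hc) hk
  refine ⟨h.hc, Subgroup.mul_mem _ hkN h.hτ, ?_, h.cop6⟩
  intro x hx hc hkt
  apply h.fpf x hx hc
  have h1 : Subgroup.zpowers c ≤ Subgroup.centralizer {x} := by
    rw [Subgroup.zpowers_le, Subgroup.mem_centralizer_singleton_iff]; exact hc
  have h2 : k * x = x * k := Subgroup.mem_centralizer_singleton_iff.mp (h1 hk)
  have h3 : k * (τ * x) = k * (x * τ) := by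
    rw [← mul_assoc, hkt, ← mul_assoc, ← h2, mul_assoc]
  exact mul_left_cancel h3

theorem S3P.conj (h : S3P V c τ) (z : X) : S3P V (z * c * z⁻¹) (z * τ * z⁻¹) := by
  refine ⟨?_, ?_, ?_, ?_, h.cop⟩
  · rw [conj_pow, h.c3]; group
  · calc z * τ * z⁻¹ * (z * τ * z⁻¹) = z * (τ * τ) * z⁻¹ := by group
      _ = 1 := by rw [h.t2]; group
  · calc z * τ * z⁻¹ * (z * c * z⁻¹) * (z * τ * z⁻¹)⁻¹ = z * (τ * c * τ⁻¹) * z⁻¹ := by group
      _ = (z * c * z⁻¹)⁻¹ := by rw [h.rel]; group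
  · intro v hc hτ
    have e : ∀ a : X, (z * a * z⁻¹) • v = v → a • (z⁻¹ • v) = z⁻¹ • v := by
      intro a ha
      have : z⁻¹ • ((z * a * z⁻¹) • v) = z⁻¹ • v := by rw [ha]
      rw [← mul_smul] at this
      rw [← mul_smul, ← this]; congr 1; group
    have h2 := h.fpfV _ (e c hc) (e τ hτ)
    have h3 : z • (z⁻¹ • v) = z • (1 : V) := by rw [h2]
    rwa [smul_inv_smul, smul_one] at h3

theorem Adm.conj {R : Subgroup X} (h : Adm c τ R) {z : X}
    (hz : z ∈ Subgroup.normalizer (R : Set X)) : Adm (z * c * z⁻¹) (z * τ * z⁻¹) R := by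
  have hzi := Subgroup.inv_mem _ hz
  refine ⟨Subgroup.mul_mem _ (Subgroup.mul_mem _ hz h.hc) hzi,
    Subgroup.mul_mem _ (Subgroup.mul_mem _ hz h.hτ) hzi, ?_, h.cop6⟩
  intro x hx hc hτ
  have hx' : z⁻¹ * x * z⁻¹⁻¹ ∈ R := (Subgroup.mem_normalizer_iff.mp hzi x).mp hx
  have e : ∀ a : X, z * a * z⁻¹ * x = x * (z * a * z⁻¹) →
      a * (z⁻¹ * x * z⁻¹⁻¹) = (z⁻¹ * x * z⁻¹⁻¹) * a := by
    intro a ha
    calc a * (z⁻¹ * x * z⁻¹⁻¹) = z⁻¹ * (z * a * z⁻¹ * x) * z := by group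
      _ = z⁻¹ * (x * (z * a * z⁻¹)) * z := by rw [ha]
      _ = (z⁻¹ * x * z⁻¹⁻¹) * a := by group
  have h1 := h.fpf _ hx' (e c hc) (e τ hτ)
  have h2 : x = z * (z⁻¹ * x * z⁻¹⁻¹) * z⁻¹ := by group
  rw [h2, h1]; group

end Cfsg.Agent.Lib.Helper66S3c
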