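import Mathlib
import Cfsg.Agent.Lib.Helper66S3c
import Cfsg.Agent.Lib.H92GREStep1

set_option autoImplicit false
set_option linter.unusedSectionVars false

/-! Project 4306 (S4306: a non-abelian group of order `pq` acting coprimely and without fixed points on a solvable
group forces Fitting height at most 2): vocabulary.  Framework of helper66's S4305: a finite group `X` acting on a finite
abelian group `V` (`MulDistribMulAction`), `c d : X` generate the image `AA c d` of the group of order `pq`. -/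

namespace Cfsg.Agent.Lib.H82PQDefs

open Cfsg.Agent.Lib.Helper66Fpf Cfsg.Agent.Lib.Helper66Fpf2 Cfsg.Agent.Lib.Helper66Ward2
  Cfsg.Agent.Lib.Helper66S3a Cfsg.Agent.Lib.Helper66S3b Cfsg.Agent.Lib.Helper66S3c
  Cfsg.Agent.Lib.Helper40Sylow Cfsg.Agent.Lib.H92GREStep1

/-- `c` of order `p`, `d` of order `q`, `d` normalises but does not centralise `⟨c⟩` -/
structure FG {X : Type*} [Group X] (p q : ℕ) (c d : X) : Prop where
  pp : p.Prime
  qp : q.Prime
  hpq : p ≠ q
  cp : c ^ p = 1
  dq : d ^ q = 1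
  nrm : d * c * d⁻¹ ∈ Subgroup.zpowers c
  ncm : d * c * d⁻¹ ≠ c

/-- the pair acts on `V` coprimely without common fixed points -/
structure PQ (V : Type*) [CommGroup V] {X : Type*} [Group X] [MulDistribMulAction X V]
    (p q : ℕ) (c d : X) : Prop where
  fg : FG p q c d
  fpfV : ∀ v : V, c • v = v → d • v = v → v = 1
  cop : (Nat.card V).Coprime (p * q)

/-- `Q` is normalised by the pair, of coprime order, without common fixed points -/
structure Ad {X : Type*} [Group X] (p q : ℕ) (c d : X) (Q : Subgroup X) : Prop where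
  hc : c ∈ Subgroup.normalizer (Q : Set X)
  hd : d ∈ Subgroup.normalizer (Q : Set X)
  fpf : ∀ x ∈ Q, c * x = x * c → d * x = x * d → x = 1
  cop : (Nat.card Q).Coprime (p * q)

/-- `g` centralises `Q` -/
def C1 {X : Type*} [Group X] (g : X) (Q : Subgroup X) : Prop := ∀ u ∈ Q, g * u = u * g

/-- `D` centralises `Q` -/
def C2 {X : Type*} [Group X] (D Q : Subgroup X) : Prop := ∀ x ∈ D, ∀ u ∈ Q, x * u = u * x

/-- `g` has no non trivial fixed point in `W` -/
def Fpf {V : Type*} [CommGroup V] {X : Type*} [Group X] [MulDistribMulAction X V] (g : X) (W : Subgroup V) : Prop :=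
  ∀ w ∈ W, g • w = w → w = 1

/-- `[Q, g]` -/
def cm {X : Type*} [Group X] (Q : Subgroup X) (g : X) : Subgroup X := ⁅Q, Subgroup.zpowers g⁆

/-- a minimal counterexample to `[S, R] = 1` -/
structure Cfg (V : Type*) [CommGroup V] {X : Type*} [Group X] [MulDistribMulAction X V]
    (p q t s r : ℕ) (c d : X) (S R : Subgroup X) : Prop where
  pq : PQ V p q c d
  tp : t.Prime
  sp : s.Prime
  rp : r.Prime
  expV : ∀ v : V, v ^ t = 1
  admS : Ad p q c d S
  admR : Ad p q c d R
  pS : IsPGroup s S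
  pR : IsPGroup r R
  sr : s ≠ r
  st : s ≠ t
  RS : R ≤ Subgroup.normalizer (S : Set X)
  ne : ⁅S, R⁆ ≠ ⊥
  minR : ∀ R' : Subgroup X, R' < R → c ∈ Subgroup.normalizer (R' : Set X) →
    d ∈ Subgroup.normalizer (R' : Set X) → ⁅S, R'⁆ = ⊥
  minS : ∀ S' : Subgroup X, S' < S → c ∈ Subgroup.normalizer (S' : Set X) →
    d ∈ Subgroup.normalizer (S' : Set X) → R ≤ Subgroup.normalizer (S' : Set X) → ⁅S', R⁆ = ⊥

/-- local data: an `s`-group `E` of class at most 2 with `E' , E^s ≤ Zt ≤ Z(E)`, `|Zt| = s`, `Zt` semiregular on the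
elementary abelian `t`-group `V`; `g` of prime order `l` normalises `E`, centralises `Zt`, and is fixed point free on `V`. -/
structure LD (V : Type*) [CommGroup V] {X : Type*} [Group X] [MulDistribMulAction X V]
    (t s l : ℕ) (E Zt : Subgroup X) (g : X) : Prop where
  tp : t.Prime
  sp : s.Prime
  lp : l.Prime
  ts : t ≠ s
  tl : t ≠ l
  sl : s ≠ l
  expV : ∀ v : V, v ^ t = 1
  pE : IsPGroup s E
  le : Zt ≤ E
  cen : C2 Zt E
  comm : ⁅E, E⁆ ≤ Zt
  pow : ∀ u ∈ E, u ^ s ∈ Zt
  card : Nat.card Zt = s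
  semi : ∀ z ∈ Zt, z ≠ 1 → ∀ v : V, z • v = v → v = 1
  gE : g ∈ Subgroup.normalizer (E : Set X)
  gl : g ^ l = 1
  gZ : C1 g Zt
  gf : ∀ v : V, g • v = v → v = 1

end Cfsg.Agent.Lib.H82PQDefs
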