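import Mathlib
import Cfsg.Agent.Lib.H82PQDefs

set_option autoImplicit false
set_option linter.unusedSectionVars false

/-! Project 4306 (S4306), piece `AGa` (25m).
 Pure group theory of `FG p q c d` (no action). -/
namespace Cfsg.Agent.Lib.H82PQAGa
open Cfsg.Agent.Lib.Helper66Fpf Cfsg.Agent.Lib.Helper66Fpf2 Cfsg.Agent.Lib.Helper66Ward2
  Cfsg.Agent.Lib.Helper66S3a Cfsg.Agent.Lib.Helper66S3b Cfsg.Agent.Lib.Helper66S3c
  Cfsg.Agent.Lib.Helper40Sylow Cfsg.Agent.Lib.H92GREStep1 Cfsg.Agent.Lib.H82PQDefs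
open scoped commutatorElement
variable {V : Type*} [CommGroup V] [Finite V] {X : Type*} [Group X] [Finite X] [MulDistribMulAction X V]
variable {p q t s r l : ℕ} {c d g : X} {S R Z K Q E Zt D : Subgroup X}
theorem c_ne (h : FG p q c d) : c ≠ 1 := by
  intro hc
  apply h.ncm
  rw [hc]; simp

theorem d_ne (h : FG p q c d) : d ≠ 1 := by
  intro hd
  apply h.ncm
  rw [hd]; simp

/-- a non trivial element of a cyclic group of prime order generates it -/
theorem gen_prime {n : ℕ} (hn : n.Prime) {x k : X} (hx : x ^ n = 1)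
    (hk : k ∈ Subgroup.zpowers x) (hk1 : k ≠ 1) : x ∈ Subgroup.zpowers k := by
  have : Fact n.Prime := ⟨hn⟩
  have hx1 : x ≠ 1 := by
    rintro rfl
    rw [Subgroup.zpowers_one_eq_bot, Subgroup.mem_bot] at hk
    exact hk1 hk
  have hox : orderOf x = n := orderOf_eq_prime hx hx1
  have hkn : k ^ n = 1 := by
    obtain ⟨m, rfl⟩ := Subgroup.mem_zpowers_iff.mp hk
    rw [← zpow_natCast, ← zpow_mul, mul_comm, zpow_mul, zpow_natCast, hx, one_zpow]
  have hok : orderOf k = n := orderOf_eq_prime hkn hk1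
  have hle : Subgroup.zpowers k ≤ Subgroup.zpowers x := Subgroup.zpowers_le.mpr hk
  have heq : Subgroup.zpowers k = Subgroup.zpowers x := by
    apply Subgroup.eq_of_le_of_card_ge hle
    rw [Nat.card_zpowers, Nat.card_zpowers, hox, hok]
  rw [heq]
  exact Subgroup.mem_zpowers x

theorem gen_of_ne (h : FG p q c d) {k : X} (hk : k ∈ Subgroup.zpowers c) (hk1 : k ≠ 1) :
    c ∈ Subgroup.zpowers k := gen_prime h.pp h.cp hk hk1

theorem gen_of_ne' (h : FG p q c d) {j : X} (hj : j ∈ Subgroup.zpowers d) (hj1 : j ≠ 1) :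
    d ∈ Subgroup.zpowers j := gen_prime h.qp h.dq hj hj1

theorem d_fpf (h : FG p q c d) {k : X} (hk : k ∈ Subgroup.zpowers c) (hc : d * k = k * d) : k = 1 := by
  by_contra hk1
  obtain ⟨m, hm⟩ := Subgroup.mem_zpowers_iff.mp (gen_of_ne h hk hk1)
  apply h.ncm
  have hcomm : Commute d k := hc
  have h2 : Commute d c := by rw [← hm]; exact hcomm.zpow_right m
  rw [h2.eq, mul_inv_cancel_right]

theorem norm (h : FG p q c d) : Subgroup.zpowers d ≤ Subgroup.normalizer (Subgroup.zpowers c : Set X) := by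
  rw [Subgroup.zpowers_le]
  apply Cfsg.Agent.Lib.Helper66Basic.mem_normalizer_of_conj_mem
  intro x hx
  obtain ⟨m, rfl⟩ := Subgroup.mem_zpowers_iff.mp hx
  have : d * c ^ m * d⁻¹ = (d * c * d⁻¹) ^ m := by rw [conj_zpow]
  rw [this]
  exact Subgroup.zpow_mem _ h.nrm m

theorem AA_norm (h : FG p q c d) : AA c d ≤ Subgroup.normalizer (Subgroup.zpowers c : Set X) :=
  sup_le Subgroup.le_normalizer (norm h)

theorem c_mem_comm (h : FG p q c d) : c ∈ Subgroup.zpowers (d * c * d⁻¹ * c⁻¹) := by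
  apply gen_of_ne h
  · exact Subgroup.mul_mem _ h.nrm (Subgroup.inv_mem _ (Subgroup.mem_zpowers c))
  · intro h1
    exact h.ncm (mul_inv_eq_one.mp h1)

theorem q_dvd (h : FG p q c d) : q ∣ p - 1 := by
  classical
  have : Fact q.Prime := ⟨h.qp⟩
  have : Fact p.Prime := ⟨h.pp⟩
  have hoc : orderOf c = p := orderOf_eq_prime h.cp (c_ne h)
  -- the action of `zpowers d` on `zpowers c` by conjugation
  let act : MulAction (Subgroup.zpowers d) (Subgroup.zpowers c) :=
    { smul := fun a x => ⟨a.1 * x.1 * a.1⁻¹,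
        (Subgroup.mem_normalizer_iff.mp (norm h a.2) x.1).mp x.2⟩
      one_smul := fun x => Subtype.ext (by
        change (1 : X) * x.1 * (1 : X)⁻¹ = x.1
        simp)
      mul_smul := fun a b x => Subtype.ext (by
        change (a.1 * b.1) * x.1 * (a.1 * b.1)⁻¹ = a.1 * (b.1 * x.1 * b.1⁻¹) * a.1⁻¹
        group) }
  have hPG : IsPGroup q (Subgroup.zpowers d) := by
    apply IsPGroup.of_card (n := 1)
    rw [Nat.card_zpowers, pow_one]
    exact orderOf_eq_prime h.dq (d_ne h)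
  have key := hPG.card_modEq_card_fixedPoints (Subgroup.zpowers c)
  have hfix : Nat.card (MulAction.fixedPoints (Subgroup.zpowers d) (Subgroup.zpowers c)) = 1 := by
    rw [Nat.card_eq_one_iff_unique]
    refine ⟨⟨?_⟩, ⟨⟨1, ?_⟩⟩⟩
    · rintro ⟨x, hx⟩ ⟨y, hy⟩
      have hx1 : x = 1 := by
        have h1 := hx ⟨d, Subgroup.mem_zpowers d⟩
        have h2 : d * x.1 * d⁻¹ = x.1 := congrArg Subtype.val h1
        exact Subtype.ext (d_fpf h x.2 (mul_inv_eq_iff_eq_mul.mp h2))
      have hy1 : y = 1 := by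
        have h1 := hy ⟨d, Subgroup.mem_zpowers d⟩
        have h2 : d * y.1 * d⁻¹ = y.1 := congrArg Subtype.val h1
        exact Subtype.ext (d_fpf h y.2 (mul_inv_eq_iff_eq_mul.mp h2))
      exact Subtype.ext (hx1.trans hy1.symm)
    · intro a
      apply Subtype.ext
      change a.1 * (1 : X) * a.1⁻¹ = 1
      simp
  rw [hfix, Nat.card_zpowers, hoc] at key
  exact (Nat.modEq_iff_dvd' h.pp.one_lt.le).mp key.symm

end Cfsg.Agent.Lib.H82PQAGa
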