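import Mathlib
import Cfsg.Agent.Lib.H82PQDefs
import Cfsg.Agent.Lib.H82PQAGa

set_option autoImplicit false
set_option linter.unusedSectionVars false

/-! Project 4306 (S4306), piece `AGb` (30m). -/
namespace Cfsg.Agent.Lib.H82PQAGb
open Cfsg.Agent.Lib.Helper66Fpf Cfsg.Agent.Lib.Helper66Fpf2 Cfsg.Agent.Lib.Helper66Ward2
  Cfsg.Agent.Lib.Helper66S3a Cfsg.Agent.Lib.Helper66S3b Cfsg.Agent.Lib.Helper66S3c
  Cfsg.Agent.Lib.Helper40Sylow Cfsg.Agent.Lib.H92GREStep1 Cfsg.Agent.Lib.H82PQDefs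
open Cfsg.Agent.Lib.H82PQAGa
open scoped commutatorElement
variable {V : Type*} [CommGroup V] [Finite V] {X : Type*} [Group X] [Finite X] [MulDistribMulAction X V]
variable {p q t s r l : ℕ} {c d g : X} {S R Z K Q E Zt D : Subgroup X}
theorem mem_AA (h : FG p q c d) {a : X} :
    a ∈ AA c d ↔ ∃ k ∈ Subgroup.zpowers c, ∃ j ∈ Subgroup.zpowers d, a = k * j :=
  Cfsg.Agent.Lib.Helper30SZ.mem_sup_iff (norm h)

theorem card_AA (h : FG p q c d) : Nat.card (AA c d) = p * q := by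
  have : Fact q.Prime := ⟨h.qp⟩
  have : Fact p.Prime := ⟨h.pp⟩
  have hoc : orderOf c = p := orderOf_eq_prime h.cp (c_ne h)
  have hod : orderOf d = q := orderOf_eq_prime h.dq (d_ne h)
  have h1 : (Nat.card (Subgroup.zpowers d)).Coprime (Nat.card (Subgroup.zpowers c)) := by
    rw [Nat.card_zpowers, Nat.card_zpowers, hoc, hod]
    exact (Nat.coprime_primes h.qp h.pp).mpr h.hpq.symm
  rw [AA, Cfsg.Agent.Lib.Helper30SZ.card_sup (norm h) h1, Nat.card_zpowers, Nat.card_zpowers, hoc, hod]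

theorem solvable_AA (h : FG p q c d) : Group.IsSolvable (AA c d) := by
  -- the commutator subgroup of `AA` lies in `zpowers c`
  have hcomm : ∀ a ∈ AA c d, ∀ b ∈ AA c d, a * b * a⁻¹ * b⁻¹ ∈ Subgroup.zpowers c := by
    intro a ha b hb
    obtain ⟨k, hk, j, hj, rfl⟩ := (mem_AA h).mp ha
    obtain ⟨k', hk', j', hj', rfl⟩ := (mem_AA h).mp hb
    have hjj : j * j' = j' * j := by
      obtain ⟨m, rfl⟩ := Subgroup.mem_zpowers_iff.mp hj
      obtain ⟨m', rfl⟩ := Subgroup.mem_zpowers_iff.mp hj'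
      rw [← zpow_add, ← zpow_add, add_comm]
    have hn : ∀ y ∈ Subgroup.zpowers d, ∀ x ∈ Subgroup.zpowers c, y * x * y⁻¹ ∈ Subgroup.zpowers c :=
      fun y hy x hx => (Subgroup.mem_normalizer_iff.mp (norm h hy) x).mp hx
    have e : k * j * (k' * j') * (k * j)⁻¹ * (k' * j')⁻¹
        = k * (j * k' * j⁻¹) * ((j * j' * j⁻¹) * k⁻¹ * (j * j' * j⁻¹)⁻¹) * ((j * j' * j⁻¹ * j'⁻¹) * k'⁻¹) := by
      group
    have e2 : j * j' * j⁻¹ * j'⁻¹ = 1 := by rw [hjj]; group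
    rw [e, e2, one_mul]
    exact Subgroup.mul_mem _ (Subgroup.mul_mem _ (Subgroup.mul_mem _ hk (hn j hj k' hk'))
      (hn _ (Subgroup.mul_mem _ (Subgroup.mul_mem _ hj hj') (Subgroup.inv_mem _ hj)) _ (Subgroup.inv_mem _ hk))) (Subgroup.inv_mem _ hk')
  have h1 : derivedSeries (AA c d) 1 ≤ (Subgroup.zpowers c).subgroupOf (AA c d) := by
    rw [derivedSeries_succ, derivedSeries_zero, Subgroup.commutator_le]
    intro a _ b _
    rw [Subgroup.mem_subgroupOf, commutatorElement_def]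
    exact hcomm a.1 a.2 b.1 b.2
  refine ⟨⟨2, ?_⟩⟩
  rw [derivedSeries_succ, eq_bot_iff, Subgroup.commutator_le]
  intro a ha b hb
  have ha' := Subgroup.mem_subgroupOf.mp (h1 ha)
  have hb' := Subgroup.mem_subgroupOf.mp (h1 hb)
  rw [Subgroup.mem_bot, commutatorElement_eq_one_iff_mul_comm]
  apply Subtype.ext
  obtain ⟨m, hm⟩ := Subgroup.mem_zpowers_iff.mp ha'
  obtain ⟨m', hm'⟩ := Subgroup.mem_zpowers_iff.mp hb'
  change a.1 * b.1 = b.1 * a.1
  rw [← hm, ← hm', ← zpow_add, ← zpow_add, add_comm]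

end Cfsg.Agent.Lib.H82PQAGb
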