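import Mathlib
import Cfsg.Agent.Lib.H82PQDefs
import Cfsg.Agent.Lib.H82PQAGa
import Cfsg.Agent.Lib.H82PQAGb

set_option autoImplicit false
set_option linter.unusedSectionVars false

/-! Project 4306 (S4306), piece `AGc` (40m).
 `conj`: `FG` for `d' = k*d*k⁻¹`, `k ∈ zpowers c` (`k` commutes with `c`): `d'*c*d'⁻¹ = k*(d*c*d⁻¹)*k⁻¹ = d*c*d⁻¹`.  `AA_conj`: both inclusions.
`c_mem_closure`: `d⁻¹ * (k*d*k⁻¹) = (d⁻¹*k*d)*k⁻¹ ∈ zpowers c` is `≠ 1` by `AGa.d_fpf`, so it generates `zpowers c` (`gen_of_ne`).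
`sub_cases`: take `1 ≠ a ∈ B`, `a = k₀ * j` (`mem_AA`).  If `j = 1`: `c ∈ zpowers a`.  Otherwise the map `k ↦ k * (j * k⁻¹ * j⁻¹)` of the finite set `zpowers c` to itself is injective
(`j` has no fixed point on `zpowers c` because `d ∈ zpowers j`), so surjective: `a = k * j * k⁻¹`; `d ∈ zpowers j` gives `k*d*k⁻¹ ∈ zpowers a ≤ B`. -/
namespace Cfsg.Agent.Lib.H82PQAGc
open Cfsg.Agent.Lib.Helper66Fpf Cfsg.Agent.Lib.Helper66Fpf2 Cfsg.Agent.Lib.Helper66Ward2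
  Cfsg.Agent.Lib.Helper66S3a Cfsg.Agent.Lib.Helper66S3b Cfsg.Agent.Lib.Helper66S3c
  Cfsg.Agent.Lib.Helper40Sylow Cfsg.Agent.Lib.H92GREStep1 Cfsg.Agent.Lib.H82PQDefs
open Cfsg.Agent.Lib.H82PQAGa Cfsg.Agent.Lib.H82PQAGb
open scoped commutatorElement
variable {V : Type*} [CommGroup V] [Finite V] {X : Type*} [Group X] [Finite X] [MulDistribMulAction X V]
variable {p q t s r l : ℕ} {c d g : X} {S R Z K Q E Zt D : Subgroup X}

theorem comm_zp {x y : X} (hx : x ∈ Subgroup.zpowers c) (hy : y ∈ Subgroup.zpowers c) : x * y = y * x := by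
  obtain ⟨n, rfl⟩ := hx
  obtain ⟨m, rfl⟩ := hy
  exact ((Commute.refl c).zpow_zpow n m).eq

theorem conj_elt (h : FG p q c d) {k : X} (hk : k ∈ Subgroup.zpowers c) :
    (k * d * k⁻¹) * c * (k * d * k⁻¹)⁻¹ = d * c * d⁻¹ := by
  have h1 : k * c = c * k := comm_zp hk (Subgroup.mem_zpowers c)
  have h2 : k * (d * c * d⁻¹) = (d * c * d⁻¹) * k := comm_zp hk h.nrm
  have h3 : k⁻¹ * c * k = c := by rw [mul_assoc, ← h1, inv_mul_cancel_left]
  calc (k * d * k⁻¹) * c * (k * d * k⁻¹)⁻¹ = k * d * (k⁻¹ * c * k) * d⁻¹ * k⁻¹ := by group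
    _ = k * (d * c * d⁻¹) * k⁻¹ := by rw [h3]; group
    _ = d * c * d⁻¹ := by rw [h2, mul_inv_cancel_right]

theorem conj (h : FG p q c d) {k : X} (hk : k ∈ Subgroup.zpowers c) : FG p q c (k * d * k⁻¹) := by
  refine ⟨h.pp, h.qp, h.hpq, h.cp, ?_, ?_, ?_⟩
  · rw [conj_pow, h.dq, mul_one, mul_inv_cancel]
  · rw [conj_elt h hk]; exact h.nrm
  · rw [conj_elt h hk]; exact h.ncm

theorem AA_conj (h : FG p q c d) {k : X} (hk : k ∈ Subgroup.zpowers c) : AA c (k * d * k⁻¹) = AA c d := by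
  unfold AA
  apply le_antisymm
  · refine sup_le le_sup_left ?_
    rw [Subgroup.zpowers_le]
    have hk' : k ∈ Subgroup.zpowers c ⊔ Subgroup.zpowers d := (le_sup_left : _ ≤ Subgroup.zpowers c ⊔ Subgroup.zpowers d) hk
    have hd' : d ∈ Subgroup.zpowers c ⊔ Subgroup.zpowers d :=
      (le_sup_right : _ ≤ Subgroup.zpowers c ⊔ Subgroup.zpowers d) (Subgroup.mem_zpowers d)
    exact mul_mem (mul_mem hk' hd') (inv_mem hk')
  · refine sup_le le_sup_left ?_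
    rw [Subgroup.zpowers_le]
    have hk' : k ∈ Subgroup.zpowers c ⊔ Subgroup.zpowers (k * d * k⁻¹) :=
      (le_sup_left : _ ≤ Subgroup.zpowers c ⊔ Subgroup.zpowers (k * d * k⁻¹)) hk
    have hd' : k * d * k⁻¹ ∈ Subgroup.zpowers c ⊔ Subgroup.zpowers (k * d * k⁻¹) :=
      (le_sup_right : _ ≤ Subgroup.zpowers c ⊔ Subgroup.zpowers (k * d * k⁻¹)) (Subgroup.mem_zpowers _)
    have h0 : k⁻¹ * (k * d * k⁻¹) * k = d := by group
    have h1 := mul_mem (mul_mem (inv_mem hk') hd') hk'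
    rwa [h0] at h1

theorem conj_mem_zp (h : FG p q c d) {j k : X} (hj : j ∈ Subgroup.zpowers d) (hk : k ∈ Subgroup.zpowers c) :
    j * k * j⁻¹ ∈ Subgroup.zpowers c := by
  have := H82PQAGa.norm h hj
  rw [Subgroup.mem_normalizer_iff] at this
  exact (this k).1 hk

theorem c_mem_closure (h : FG p q c d) {k : X} (hk : k ∈ Subgroup.zpowers c) (hk1 : k ≠ 1) :
    c ∈ Subgroup.zpowers d ⊔ Subgroup.zpowers (k * d * k⁻¹) := by
  have h1 : d⁻¹ * k * d ∈ Subgroup.zpowers c := by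
    have := conj_mem_zp h (inv_mem (Subgroup.mem_zpowers d)) hk
    rwa [inv_inv] at this
  have h2 : d⁻¹ * (k * d * k⁻¹) ∈ Subgroup.zpowers c := by
    have : d⁻¹ * (k * d * k⁻¹) = (d⁻¹ * k * d) * k⁻¹ := by group
    rw [this]
    exact mul_mem h1 (inv_mem hk)
  have h3 : d⁻¹ * (k * d * k⁻¹) ≠ 1 := by
    intro h0
    apply hk1
    apply d_fpf h hk
    have : k * d * k⁻¹ = d := by
      have := congrArg (fun x => d * x) h0
      simpa using this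
    calc d * k = (k * d * k⁻¹) * k := by rw [this]
      _ = k * d := by group
  have h4 := gen_of_ne h h2 h3
  have h5 : Subgroup.zpowers (d⁻¹ * (k * d * k⁻¹)) ≤ Subgroup.zpowers d ⊔ Subgroup.zpowers (k * d * k⁻¹) := by
    rw [Subgroup.zpowers_le]
    exact mul_mem (inv_mem ((le_sup_left : _ ≤ Subgroup.zpowers d ⊔ Subgroup.zpowers (k * d * k⁻¹)) (Subgroup.mem_zpowers d)))
      ((le_sup_right : _ ≤ Subgroup.zpowers d ⊔ Subgroup.zpowers (k * d * k⁻¹)) (Subgroup.mem_zpowers _))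
  exact h5 h4

theorem sub_cases (h : FG p q c d) (B : Subgroup X) (hB : B ≤ AA c d) (hB1 : B ≠ ⊥) :
    c ∈ B ∨ ∃ k ∈ Subgroup.zpowers c, k * d * k⁻¹ ∈ B := by
  obtain ⟨a, haB, ha1⟩ := (Subgroup.ne_bot_iff_exists_ne_one.1 hB1 : ∃ a : B, a ≠ 1) |>.elim
    (fun a ha => (⟨a.1, a.2, fun h0 => ha (Subtype.ext h0)⟩ : ∃ a : X, a ∈ B ∧ a ≠ 1))
  obtain ⟨k₀, hk₀, j, hj, rfl⟩ := (mem_AA h).1 (hB haB)
  by_cases hj1 : j = 1
  · left
    subst hj1
    rw [mul_one] at haB ha1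
    have := gen_of_ne h hk₀ ha1
    exact (Subgroup.zpowers_le.2 haB) this
  · right
    have hdj : d ∈ Subgroup.zpowers j := gen_of_ne' h hj hj1
    -- the map
    let f : Subgroup.zpowers c → Subgroup.zpowers c := fun k =>
      ⟨k.1 * (j * k.1⁻¹ * j⁻¹), mul_mem k.2 (conj_mem_zp h hj (inv_mem k.2))⟩
    have hjfix : ∀ x ∈ Subgroup.zpowers c, j * x = x * j → x = 1 := by
      intro x hx hjx
      apply d_fpf h hx
      obtain ⟨n, hn⟩ := hdj
      rw [← hn]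
      exact ((show Commute j x from hjx).zpow_left n).eq
    have finj : Function.Injective f := by
      intro k1 k2 h12
      have h12' : k1.1 * (j * k1.1⁻¹ * j⁻¹) = k2.1 * (j * k2.1⁻¹ * j⁻¹) := congrArg Subtype.val h12
      have hx : k2.1⁻¹ * k1.1 ∈ Subgroup.zpowers c := mul_mem (inv_mem k2.2) k1.2
      have : k2.1⁻¹ * k1.1 = 1 := by
        apply hjfix _ hx
        -- j * (k2⁻¹ k1) = (k2⁻¹ k1) * j
        have e1 : k2.1⁻¹ * k1.1 = (j * k2.1⁻¹ * j⁻¹) * (j * k1.1⁻¹ * j⁻¹)⁻¹ := by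
          have h0 : k2.1⁻¹ * (k1.1 * (j * k1.1⁻¹ * j⁻¹)) * (j * k1.1⁻¹ * j⁻¹)⁻¹
              = k2.1⁻¹ * (k2.1 * (j * k2.1⁻¹ * j⁻¹)) * (j * k1.1⁻¹ * j⁻¹)⁻¹ := by rw [h12']
          rw [← mul_assoc, mul_inv_cancel_right, inv_mul_cancel_left] at h0
          exact h0
        have e2 : (j * k2.1⁻¹ * j⁻¹) * (j * k1.1⁻¹ * j⁻¹)⁻¹ = j * (k2.1⁻¹ * k1.1) * j⁻¹ := by group
        rw [e2] at e1
        calc j * (k2.1⁻¹ * k1.1) = (j * (k2.1⁻¹ * k1.1) * j⁻¹) * j := by group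
          _ = (k2.1⁻¹ * k1.1) * j := by rw [← e1]
      apply Subtype.ext
      have := congrArg (fun x => k2.1 * x) this
      simpa using this
    have fsurj : Function.Surjective f := Finite.surjective_of_injective finj
    obtain ⟨k, hk⟩ := fsurj ⟨k₀, hk₀⟩
    have hk' : k.1 * (j * k.1⁻¹ * j⁻¹) = k₀ := congrArg Subtype.val hk
    refine ⟨k.1, k.2, ?_⟩
    have ha : k₀ * j = k.1 * j * k.1⁻¹ := by rw [← hk']; group
    rw [ha] at haB
    obtain ⟨n, hn⟩ := hdj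
    have hn' : j ^ n = d := hn
    rw [← hn', ← conj_zpow]
    exact zpow_mem haB n

end Cfsg.Agent.Lib.H82PQAGc
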