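import Mathlib
import Cfsg.Agent.Lib.H82PQDefs
import Cfsg.Agent.Lib.H82PQAGa
import Cfsg.Agent.Lib.H82PQAGb
import Cfsg.Agent.Lib.H82PQAGc

set_option autoImplicit false
set_option linter.unusedSectionVars false

/-! Project 4306 (S4306), piece `AGd` (35m).
 API of `Ad`, `PQ` (models: `Helper66S3c.Adm.le/of_le/conj/inf_eq_bot`, `S3P.AA_coprime`, `S3P.fpfA`).  For the `conj` lemmas: an element/vector fixed by `c` and by `k*d*k⁻¹` (`k` a power of `c`) is fixed by `d`. -/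
namespace Cfsg.Agent.Lib.H82PQAGd
open Cfsg.Agent.Lib.Helper66Fpf Cfsg.Agent.Lib.Helper66Fpf2 Cfsg.Agent.Lib.Helper66Ward2
  Cfsg.Agent.Lib.Helper66S3a Cfsg.Agent.Lib.Helper66S3b Cfsg.Agent.Lib.Helper66S3c
  Cfsg.Agent.Lib.Helper40Sylow Cfsg.Agent.Lib.H92GREStep1 Cfsg.Agent.Lib.H82PQDefs
open Cfsg.Agent.Lib.H82PQAGa Cfsg.Agent.Lib.H82PQAGb Cfsg.Agent.Lib.H82PQAGc
open scoped commutatorElement
variable {V : Type*} [CommGroup V] [Finite V] {X : Type*} [Group X] [Finite X] [MulDistribMulAction X V]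
variable {p q t s r l : ℕ} {c d g : X} {S R Z K Q E Zt D : Subgroup X}
theorem Ad.le (h : Ad p q c d Q) : AA c d ≤ Subgroup.normalizer (Q : Set X) :=
  AA_le_normalizer h.hc h.hd

theorem Ad.of_le (h : Ad p q c d Q) {Q' : Subgroup X} (hle : Q' ≤ Q) (hc : c ∈ Subgroup.normalizer (Q' : Set X))
    (hd : d ∈ Subgroup.normalizer (Q' : Set X)) : Ad p q c d Q' :=
  ⟨hc, hd, fun x hx => h.fpf x (hle hx),
    Nat.Coprime.coprime_dvd_left (Subgroup.card_dvd_of_le hle) h.cop⟩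

theorem conj_mem_nrm {N : Subgroup X} (hc : c ∈ N) (hd : d ∈ N) {k : X} (hk : k ∈ Subgroup.zpowers c) :
    k * d * k⁻¹ ∈ N := by
  have hkN : k ∈ N := (Subgroup.zpowers_le.mpr hc) hk
  exact mul_mem (mul_mem hkN hd) (inv_mem hkN)

theorem mem_nrm_of_conj {N : Subgroup X} (hc : c ∈ N) {k : X} (hk : k ∈ Subgroup.zpowers c)
    (hd : k * d * k⁻¹ ∈ N) : d ∈ N := by
  have hkN : k ∈ N := (Subgroup.zpowers_le.mpr hc) hk
  have h0 : k⁻¹ * (k * d * k⁻¹) * k = d := by group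
  have h1 := mul_mem (mul_mem (inv_mem hkN) hd) hkN
  rwa [h0] at h1

theorem Ad.conj (fg : FG p q c d) (h : Ad p q c d Q) {k : X} (hk : k ∈ Subgroup.zpowers c) :
    Ad p q c (k * d * k⁻¹) Q := by
  refine ⟨h.hc, conj_mem_nrm h.hc h.hd hk, ?_, h.cop⟩
  intro x hx hc hkd
  apply h.fpf x hx hc
  have h1 : c ∈ Subgroup.centralizer {x} := by
    rw [Subgroup.mem_centralizer_singleton_iff]; exact hc
  have h2 : k * d * k⁻¹ ∈ Subgroup.centralizer {x} := by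
    rw [Subgroup.mem_centralizer_singleton_iff]; exact hkd
  exact Subgroup.mem_centralizer_singleton_iff.mp (mem_nrm_of_conj h1 hk h2)

theorem Ad.inf_eq_bot (h : Ad p q c d Q) : Q ⊓ Subgroup.centralizer (AA c d : Set X) = ⊥ := by
  rw [eq_bot_iff]
  rintro x ⟨hx, hx2⟩
  rw [Subgroup.mem_bot]
  exact h.fpf x hx (Subgroup.mem_centralizer_iff.mp hx2 c c_mem_AA)
    (Subgroup.mem_centralizer_iff.mp hx2 d t_mem_AA)

theorem Ad.coprime_AA (fg : FG p q c d) (h : Ad p q c d Q) : (Nat.card (AA c d)).Coprime (Nat.card Q) := by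
  rw [card_AA fg]
  exact h.cop.symm

theorem Ad.cop_c (fg : FG p q c d) (h : Ad p q c d Q) : (Nat.card (Subgroup.zpowers c)).Coprime (Nat.card Q) :=
  Nat.Coprime.coprime_dvd_left (Subgroup.card_dvd_of_le (le_sup_left : _ ≤ Subgroup.zpowers c ⊔ Subgroup.zpowers d))
    (Ad.coprime_AA fg h)

theorem Ad.cop_d (fg : FG p q c d) (h : Ad p q c d Q) : (Nat.card (Subgroup.zpowers d)).Coprime (Nat.card Q) :=
  Nat.Coprime.coprime_dvd_left (Subgroup.card_dvd_of_le (le_sup_right : _ ≤ Subgroup.zpowers c ⊔ Subgroup.zpowers d))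
    (Ad.coprime_AA fg h)

theorem PQ.conj (h : PQ V p q c d) {k : X} (hk : k ∈ Subgroup.zpowers c) : PQ V p q c (k * d * k⁻¹) := by
  refine ⟨H82PQAGc.conj h.fg hk, ?_, h.cop⟩
  intro v hc hkd
  apply h.fpfV v hc
  have h1 : c ∈ MulAction.stabilizer X v := hc
  have h2 : k * d * k⁻¹ ∈ MulAction.stabilizer X v := hkd
  exact mem_nrm_of_conj h1 hk h2

theorem PQ.fpfA (h : PQ V p q c d) : ∀ v : V, (∀ a ∈ AA c d, a • v = v) → v = 1 :=
  fun v hv => h.fpfV v (hv c c_mem_AA) (hv d t_mem_AA)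

theorem PQ.coprime_AA (h : PQ V p q c d) : (Nat.card V).Coprime (Nat.card (AA c d)) := by
  rw [card_AA h.fg]
  exact h.cop

theorem Cfg.conj (h : Cfg V p q t s r c d S R) {k : X} (hk : k ∈ Subgroup.zpowers c) :
    Cfg V p q t s r c (k * d * k⁻¹) S R := by
  refine ⟨PQ.conj h.pq hk, h.tp, h.sp, h.rp, h.expV, Ad.conj h.pq.fg h.admS hk, Ad.conj h.pq.fg h.admR hk,
    h.pS, h.pR, h.sr, h.st, h.RS, h.ne, ?_, ?_⟩
  · intro R' hR' hc hd
    exact h.minR R' hR' hc (mem_nrm_of_conj hc hk hd)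
  · intro S' hS' hc hd hR
    exact h.minS S' hS' hc (mem_nrm_of_conj hc hk hd) hR

end Cfsg.Agent.Lib.H82PQAGd
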