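import Mathlib
import Cfsg.Agent.Lib.H82PQDefs

set_option autoImplicit false
set_option linter.unusedSectionVars false

/-! Project 4306 (S4306), piece `KQ` (35m).
 Small facts on `kerQR` (`H92GREStep1`) and `cj` (`Helper40Sylow`: `mem_cj : y ∈ cj x K ↔ x⁻¹ * y * x ∈ K`, `normalizer_cj`, `mem_normalizer_iff_cj`).  `comm_le`: `⁅u, b⁆ = u*b*u⁻¹*b⁻¹ = (b*u*b⁻¹*u⁻¹)⁻¹`, `Subgroup.commutator_le`.
`cm_le`: `⁅x, j⁆ = (x*j*x⁻¹) * j⁻¹`, and `x*j*x⁻¹ ∈ T` for all `j ∈ zpowers g` (it is a power of `x*g*x⁻¹`).  `c2_of_comm`/`comm_of_c2`: `Subgroup.commutator_eq_bot_iff_le_centralizer`. -/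
namespace Cfsg.Agent.Lib.H82PQKQ
open Cfsg.Agent.Lib.Helper66Fpf Cfsg.Agent.Lib.Helper66Fpf2 Cfsg.Agent.Lib.Helper66Ward2
  Cfsg.Agent.Lib.Helper66S3a Cfsg.Agent.Lib.Helper66S3b Cfsg.Agent.Lib.Helper66S3c
  Cfsg.Agent.Lib.Helper40Sylow Cfsg.Agent.Lib.H92GREStep1 Cfsg.Agent.Lib.H82PQDefs
open scoped commutatorElement
variable {V : Type*} [CommGroup V] [Finite V] {X : Type*} [Group X] [Finite X] [MulDistribMulAction X V]
variable {p q t s r l : ℕ} {c d g : X} {S R Z K Q E Zt D : Subgroup X}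
theorem kerQR_cj {x a : X} (hx : x ∈ Subgroup.normalizer (Q : Set X)) :
    a ∈ kerQR Q (cj x K) ↔ x⁻¹ * a * x ∈ kerQR Q K := by
  have hxi : x⁻¹ ∈ Subgroup.normalizer (Q : Set X) := inv_mem hx
  constructor
  · rintro ⟨h1, h2, h3⟩
    refine ⟨mul_mem (mul_mem hxi h1) hx, ?_, ?_⟩
    · rw [normalizer_cj, mem_cj] at h2
      exact h2
    · intro u hu
      have hu' : x * u * x⁻¹ ∈ Q := (Subgroup.mem_normalizer_iff.1 hx u).1 hu
      have h4 := h3 _ hu'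
      rw [mem_cj] at h4
      have e : x⁻¹ * (a * (x * u * x⁻¹) * a⁻¹ * (x * u * x⁻¹)⁻¹) * x
          = x⁻¹ * a * x * u * (x⁻¹ * a * x)⁻¹ * u⁻¹ := by group
      rw [e] at h4
      exact h4
  · rintro ⟨h1, h2, h3⟩
    refine ⟨?_, ?_, ?_⟩
    · have := mul_mem (mul_mem hx h1) hxi
      have e : x * (x⁻¹ * a * x) * x⁻¹ = a := by group
      rwa [e] at this
    · rw [normalizer_cj, mem_cj]
      exact h2
    · intro u hu
      have hu' : x⁻¹ * u * x⁻¹⁻¹ ∈ Q := (Subgroup.mem_normalizer_iff.1 hxi u).1 hu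
      have h4 := h3 _ hu'
      rw [mem_cj]
      have e : x⁻¹ * a * x * (x⁻¹ * u * x⁻¹⁻¹) * (x⁻¹ * a * x)⁻¹ * (x⁻¹ * u * x⁻¹⁻¹)⁻¹
          = x⁻¹ * (a * u * a⁻¹ * u⁻¹) * x := by group
      rw [e] at h4
      exact h4

theorem comm_le {B : Subgroup X} (hB : B ≤ kerQR Q K) : ⁅Q, B⁆ ≤ K := by
  rw [Subgroup.commutator_le]
  intro u hu b hb
  have h := (hB hb).2.2 u hu
  have e : ⁅u, b⁆ = (b * u * b⁻¹ * u⁻¹)⁻¹ := by
    rw [commutatorElement_def]; group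
  rw [e]
  exact inv_mem h

theorem cm_le_of_mem (hg : g ∈ kerQR Q K) : cm Q g ≤ K :=
  comm_le (Subgroup.zpowers_le.mpr hg)

theorem cm_le {T : Subgroup X} (hg : g ∈ T) (h : ∀ x ∈ R, x * g * x⁻¹ ∈ T) : cm R g ≤ T := by
  unfold cm
  rw [Subgroup.commutator_le]
  rintro x hx _ ⟨n, rfl⟩
  have e : ⁅x, g ^ n⁆ = (x * g * x⁻¹) ^ n * (g ^ n)⁻¹ := by
    rw [commutatorElement_def, conj_zpow]
  show ⁅x, g ^ n⁆ ∈ T
  rw [e]
  exact mul_mem (zpow_mem (h x hx) n) (inv_mem (zpow_mem hg n))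

theorem c2_of_comm (h : ⁅Q, D⁆ = ⊥) : C2 D Q := by
  rw [Subgroup.commutator_eq_bot_iff_le_centralizer] at h
  intro x hx u hu
  exact Subgroup.mem_centralizer_iff.1 (h hu) x hx

theorem comm_of_c2 (h : C2 D Q) : ⁅Q, D⁆ = ⊥ := by
  rw [Subgroup.commutator_eq_bot_iff_le_centralizer]
  intro u hu
  rw [Subgroup.mem_centralizer_iff]
  intro x hx
  exact h x hx u hu

theorem cm_eq_bot (h : C1 g Q) : cm Q g = ⊥ := by
  apply comm_of_c2
  rintro _ ⟨n, rfl⟩ u hu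
  have : Commute g u := h u hu
  exact (this.zpow_left n)

theorem c1_of_cm (h : cm Q g = ⊥) : C1 g Q := by
  intro u hu
  exact c2_of_comm h g (Subgroup.mem_zpowers g) u hu

/-- `[Q,g] ≤ Q`, normalised by `Q` and by every `a` normalising `Q` and `zpowers g` -/
theorem cm_le_self (hg : g ∈ Subgroup.normalizer (Q : Set X)) : cm Q g ≤ Q := by
  unfold cm
  rw [Subgroup.commutator_le]
  intro u hu j hj
  have hj' : j ∈ Subgroup.normalizer (Q : Set X) := (Subgroup.zpowers_le.mpr hg) hj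
  have h1 : j * u⁻¹ * j⁻¹ ∈ Q := (Subgroup.mem_normalizer_iff.1 hj' _).1 (inv_mem hu)
  have e : ⁅u, j⁆ = u * (j * u⁻¹ * j⁻¹) := by
    rw [commutatorElement_def]; group
  rw [e]
  exact mul_mem hu h1

theorem le_normalizer_cm (hg : g ∈ Subgroup.normalizer (Q : Set X)) : Q ≤ Subgroup.normalizer (cm Q g : Set X) := by
  intro u hu
  rw [mem_normalizer_iff_cj]
  apply cj_eq_of_le
  intro y hy
  rw [mem_cj] at hy
  have key : cm Q g ≤ (cm Q g).comap (MulAut.conj u).toMonoidHom := by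
    unfold cm
    rw [Subgroup.commutator_le]
    intro v hv b hb
    rw [Subgroup.mem_comap]
    have e : (MulAut.conj u).toMonoidHom ⁅v, b⁆ = ⁅u * v, b⁆ * ⁅u, b⁆⁻¹ := by
      show u * ⁅v, b⁆ * u⁻¹ = _
      simp only [commutatorElement_def]; group
    rw [e]
    exact mul_mem (Subgroup.commutator_mem_commutator (mul_mem hu hv) hb)
      (inv_mem (Subgroup.commutator_mem_commutator hu hb))
  have h2 := key hy
  rw [Subgroup.mem_comap] at h2
  have e : (MulAut.conj u).toMonoidHom (u⁻¹ * y * u) = y := by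
    show u * (u⁻¹ * y * u) * u⁻¹ = y
    group
  rwa [e] at h2

theorem cj_comm (a : X) (A B : Subgroup X) : cj a ⁅A, B⁆ = ⁅cj a A, cj a B⁆ :=
  Subgroup.map_commutator A B _

theorem mem_normalizer_cm {a : X} (ha : a ∈ Subgroup.normalizer (Q : Set X))
    (ha' : a ∈ Subgroup.normalizer (Subgroup.zpowers g : Set X)) : a ∈ Subgroup.normalizer (cm Q g : Set X) := by
  rw [mem_normalizer_iff_cj] at ha ha' ⊢
  unfold cm
  rw [cj_comm, ha, ha']

theorem cj_cm {a : X} (ha : a ∈ Subgroup.normalizer (Q : Set X)) : cj a (cm Q g) = cm Q (a * g * a⁻¹) := by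
  rw [mem_normalizer_iff_cj] at ha
  unfold cm
  rw [cj_comm, ha]
  congr 1
  exact MonoidHom.map_zpowers _ g

end Cfsg.Agent.Lib.H82PQKQ
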