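import Mathlib
import Cfsg.Agent.Lib.H82PQDefs
import Cfsg.Agent.Lib.H82PQAGa
import Cfsg.Agent.Lib.H82PQAGb
import Cfsg.Agent.Lib.H82PQAGd
import Cfsg.Agent.Lib.H82PQKQ
import Cfsg.Agent.S0027
import Cfsg.Agent.Lib.Helper30SZ

set_option autoImplicit false
set_option linter.unusedSectionVars false

/-! Project 4306 (S4306), piece `Bas1` (45m).
 `comm_eq`: `S₁ = ⁅S,R⁆ ≤ S`, normalised by `c`, `d`, `R` (`Helper30SZ.commutator_le_of_le_normalizer`, `le_normalizer_commutator`).  If `S₁ < S`, `h.minS` gives `⁅S₁,R⁆ = ⊥`, but `⁅⁅S,R⁆,R⁆ = ⁅S,R⁆` (`Cfsg.Agent.S0027.result R S h.RS copRS (Or.inl solvable R)`), against `h.ne`.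
`RR`: `R ≠ ⊥`, `R` nilpotent (`IsPGroup.isNilpotent`), so `⁅R,R⁆ < R` (`Helper66..comm_lt` or derived series / `IsSolvable.commutator_lt_of_ne_bot`); it is normalised by `c`, `d`; `h.minR`.  Coprimality: `IsPGroup.iff_card`, `V` is a `t`-group by `expV` (`IsPGroup.of_..`; model `Helper66S3j.coprime_pgroups`). -/
namespace Cfsg.Agent.Lib.H82PQBas1
open Cfsg.Agent.Lib.Helper66Fpf Cfsg.Agent.Lib.Helper66Fpf2 Cfsg.Agent.Lib.Helper66Ward2
  Cfsg.Agent.Lib.Helper66S3a Cfsg.Agent.Lib.Helper66S3b Cfsg.Agent.Lib.Helper66S3c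
  Cfsg.Agent.Lib.Helper40Sylow Cfsg.Agent.Lib.H92GREStep1 Cfsg.Agent.Lib.H82PQDefs
open Cfsg.Agent.Lib.H82PQAGa Cfsg.Agent.Lib.H82PQAGb Cfsg.Agent.Lib.H82PQAGd Cfsg.Agent.Lib.H82PQKQ
open scoped commutatorElement
variable {V : Type*} [CommGroup V] [Finite V] {X : Type*} [Group X] [Finite X] [MulDistribMulAction X V]
variable {p q t s r l : ℕ} {c d g : X} {S R Z K Q E Zt D : Subgroup X}
theorem cop_pg {a b : ℕ} (ha : a.Prime) (hb : b.Prime) (hab : a ≠ b) {α β : Type*}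
    [Group α] [Group β] [Finite α] [Finite β] (h1 : IsPGroup a α) (h2 : IsPGroup b β) :
    (Nat.card α).Coprime (Nat.card β) := by
  haveI : Fact a.Prime := ⟨ha⟩
  haveI : Fact b.Prime := ⟨hb⟩
  obtain ⟨k, hk⟩ := IsPGroup.iff_card.mp h1
  obtain ⟨j, hj⟩ := IsPGroup.iff_card.mp h2
  rw [hk, hj]
  exact Nat.Coprime.pow _ _ ((Nat.coprime_primes ha hb).mpr hab)

theorem mem_norm_comm {a : X} {H K : Subgroup X} (hH : a ∈ Subgroup.normalizer (H : Set X))
    (hK : a ∈ Subgroup.normalizer (K : Set X)) : a ∈ Subgroup.normalizer ((⁅H, K⁆ : Subgroup X) : Set X) :=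
  Cfsg.Agent.Lib.Helper30SZ.le_normalizer_commutator (A := Subgroup.zpowers a)
    (Subgroup.zpowers_le.mpr hH) (Subgroup.zpowers_le.mpr hK) (Subgroup.mem_zpowers a)

theorem copRS (h : Cfg V p q t s r c d S R) : (Nat.card R).Coprime (Nat.card S) :=
  cop_pg h.rp h.sp h.sr.symm h.pR h.pS

theorem copVS (h : Cfg V p q t s r c d S R) : (Nat.card V).Coprime (Nat.card S) := by
  have hV : IsPGroup t V := fun v => ⟨1, by rw [pow_one]; exact h.expV v⟩
  exact cop_pg h.tp h.sp h.st.symm hV h.pS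

theorem solR (h : Cfg V p q t s r c d S R) : Group.IsSolvable R := by
  haveI : Fact r.Prime := ⟨h.rp⟩
  haveI := h.pR.isNilpotent
  infer_instance

theorem comm_eq (h : Cfg V p q t s r c d S R) : ⁅S, R⁆ = S := by
  have hle : ⁅S, R⁆ ≤ S := Cfsg.Agent.Lib.Helper30SZ.commutator_le_of_le_normalizer h.RS
  by_contra hne
  have hlt : ⁅S, R⁆ < S := lt_of_le_of_ne hle hne
  have h1 := h.minS ⁅S, R⁆ hlt (mem_norm_comm h.admS.hc h.admR.hc) (mem_norm_comm h.admS.hd h.admR.hd)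
    (Cfsg.Agent.Lib.Helper30SZ.le_normalizer_commutator h.RS Subgroup.le_normalizer)
  have h2 := Cfsg.Agent.S0027.result R S h.RS (copRS h) (Or.inl (solR h))
  rw [h1] at h2
  exact h.ne h2.symm

theorem S_ne (h : Cfg V p q t s r c d S R) : S ≠ ⊥ := by
  intro hS
  apply h.ne
  rw [hS]
  exact Subgroup.commutator_bot_left R

theorem RR (h : Cfg V p q t s r c d S R) : C2 ⁅R, R⁆ S := by
  have hR : R ≠ ⊥ := by
    intro hR
    apply h.ne
    rw [hR]
    exact Subgroup.commutator_bot_right S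
  have hlt : ⁅R, R⁆ < R := Cfsg.Agent.Lib.Helper66Fpf.comm_lt (solR h) hR
  exact c2_of_comm (h.minR ⁅R, R⁆ hlt (mem_norm_comm h.admR.hc h.admR.hc) (mem_norm_comm h.admR.hd h.admR.hd))

end Cfsg.Agent.Lib.H82PQBas1
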