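import Mathlib
import Cfsg.Agent.Lib.H82PQDefs
import Cfsg.Agent.Lib.H82PQAGa
import Cfsg.Agent.Lib.H82PQAGb
import Cfsg.Agent.Lib.H82PQAGd
import Cfsg.Agent.Lib.H82PQKQ
import Cfsg.Agent.Lib.H82PQBas1

set_option autoImplicit false
set_option linter.unusedSectionVars false

/-! Project 4306 (S4306), piece `A1` (35m).
 `Helper66Ward2.comm_of_fpf h.pq.fg.qp (s ≠ r) h.pS h.pR d h.pq.fg.dq ..` : an element `x = u*y` (`u ∈ S`, `y ∈ R`, `Helper30SZ.mem_sup_iff`) with `d*x*d⁻¹ = x` has `u⁻¹*(d*u*d⁻¹) = y*(d*y*d⁻¹)⁻¹ ∈ S ⊓ R = ⊥` (coprime orders), so `u`, `y` commute with `d` and with `c`: `u = y = 1` (`Ad.fpf`).  (See also `Helper66Ward2.sup_inf_centralizer_eq_bot`.)  This contradicts `h.ne`. -/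
namespace Cfsg.Agent.Lib.H82PQA1
open Cfsg.Agent.Lib.Helper66Fpf Cfsg.Agent.Lib.Helper66Fpf2 Cfsg.Agent.Lib.Helper66Ward2
  Cfsg.Agent.Lib.Helper66S3a Cfsg.Agent.Lib.Helper66S3b Cfsg.Agent.Lib.Helper66S3c
  Cfsg.Agent.Lib.Helper40Sylow Cfsg.Agent.Lib.H92GREStep1 Cfsg.Agent.Lib.H82PQDefs
open Cfsg.Agent.Lib.H82PQAGa Cfsg.Agent.Lib.H82PQAGb Cfsg.Agent.Lib.H82PQAGd Cfsg.Agent.Lib.H82PQKQ Cfsg.Agent.Lib.H82PQBas1
open scoped commutatorElement
variable {V : Type*} [CommGroup V] [Finite V] {X : Type*} [Group X] [Finite X] [MulDistribMulAction X V]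
variable {p q t s r l : ℕ} {c d g : X} {S R Z K Q E Zt D : Subgroup X}
theorem a1 (h : Cfg V p q t s r c d S R) (hcR : C1 c R) (hcS : C1 c S) : False := by
  have : Fact s.Prime := ⟨h.sp⟩
  have : Fact r.Prime := ⟨h.rp⟩
  apply h.ne
  apply comm_of_fpf h.pq.fg.qp h.sr h.pS h.pR d h.pq.fg.dq
  · intro x hx; exact (Subgroup.mem_normalizer_iff.1 h.admS.hd x).1 hx
  · intro x hx; exact (Subgroup.mem_normalizer_iff.1 h.admR.hd x).1 hx
  · intro x hx hfix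
    obtain ⟨u, hu, y, hy, rfl⟩ := (Cfsg.Agent.Lib.Helper30SZ.mem_sup_iff h.RS).1 hx
    have hu' : d * u * d⁻¹ ∈ S := (Subgroup.mem_normalizer_iff.1 h.admS.hd u).1 hu
    have hy' : d * y * d⁻¹ ∈ R := (Subgroup.mem_normalizer_iff.1 h.admR.hd y).1 hy
    have e0 : (d * u * d⁻¹) * (d * y * d⁻¹) = u * y := by
      rw [← hfix]; group
    have e : u⁻¹ * (d * u * d⁻¹) = y * (d * y * d⁻¹)⁻¹ := by
      rw [inv_mul_eq_iff_eq_mul, ← mul_assoc, eq_mul_inv_iff_mul_eq]; exact e0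
    have hbot : ∀ z, z ∈ S → z ∈ R → z = 1 := by
      intro z hzS hzR
      have h1 : orderOf z ∣ Nat.card S := by
        have := orderOf_dvd_natCard (⟨z, hzS⟩ : S)
        rwa [Subgroup.orderOf_mk] at this
      have h2 : orderOf z ∣ Nat.card R := by
        have := orderOf_dvd_natCard (⟨z, hzR⟩ : R)
        rwa [Subgroup.orderOf_mk] at this
      have h3 : orderOf z = 1 := Nat.eq_one_of_dvd_coprimes (copRS h) h2 h1
      exact orderOf_eq_one_iff.1 h3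
    have h1 : u⁻¹ * (d * u * d⁻¹) = 1 :=
      hbot _ (mul_mem (inv_mem hu) hu') (e ▸ mul_mem hy (inv_mem hy'))
    have h2 : y * (d * y * d⁻¹)⁻¹ = 1 := e ▸ h1
    have hdu : d * u = u * d := by
      have : d * u * d⁻¹ = u := (inv_mul_eq_one.1 h1).symm
      exact mul_inv_eq_iff_eq_mul.1 this
    have hdy : d * y = y * d := by
      have : d * y * d⁻¹ = y := (mul_inv_eq_one.1 h2).symm
      exact mul_inv_eq_iff_eq_mul.1 this
    have u1 : u = 1 := h.admS.fpf u hu (hcS u hu) hdu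
    have y1 : y = 1 := h.admR.fpf y hy (hcR y hy) hdy
    rw [u1, y1, one_mul]

end Cfsg.Agent.Lib.H82PQA1
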