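import Mathlib
import Cfsg.Agent.Lib.H82PQDefs
import Cfsg.Agent.Lib.H83MUCyc

set_option autoImplicit false
set_option linter.unusedSectionVars false

/-! Project 4306 (S4306), piece `Cyc` (60m).
 `Z / K` is cyclic because it acts semiregularly on `W = WK V Z K ≠ 1`.  Use `Cfsg.Agent.Lib.H83MUCyc.cyclic_of_fpf` (abelian `A`, normal `D ≠ ⊥` in a finite group, no `1 ≠ a ∈ A` commutes with a `1 ≠ d ∈ D` ⟹ `IsCyclic A`)
in the semidirect product `W ⋊[φ] B`, where `B` is the image of `Z` in `MulAut W` (`Z ≤ stabW X W` by `smul_mem_WK_of_mem`, `resW X W`), `D = range inl`, `A = range inr`.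
`res z = 1 ↔ z ∈ K` (`MaxK.mem_of_fix`, and `K` fixes `WK`); semiregularity of `B` is `MaxK.semireg`.  A generator of `B` is `res z₀`. -/
namespace Cfsg.Agent.Lib.H82PQCyc
open Cfsg.Agent.Lib.Helper66Fpf Cfsg.Agent.Lib.Helper66Fpf2 Cfsg.Agent.Lib.Helper66Ward2
  Cfsg.Agent.Lib.Helper66S3a Cfsg.Agent.Lib.Helper66S3b Cfsg.Agent.Lib.Helper66S3c
  Cfsg.Agent.Lib.Helper40Sylow Cfsg.Agent.Lib.H92GREStep1 Cfsg.Agent.Lib.H82PQDefs
open scoped commutatorElement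
variable {V : Type*} [CommGroup V] [Finite V] {X : Type*} [Group X] [Finite X] [MulDistribMulAction X V]
variable {p q t s r l : ℕ} {c d g : X} {S R Z K Q E Zt D : Subgroup X}
theorem cyc (abZ : ∀ x ∈ Z, ∀ y ∈ Z, x * y = y * x) (mx : MaxK V Z K) :
    ∃ z₀ ∈ Z, ∀ z ∈ Z, ∃ n : ℤ, z * (z₀ ^ n)⁻¹ ∈ K := by
  classical
  have hZW : Z ≤ stabW X (WK V Z K) :=
    fun z hz => mem_stabW (fun w hw => smul_mem_WK_of_mem abZ mx.le hz hw)
  let ρ : Z →* MulAut (WK V Z K) := (resW X (WK V Z K)).comp (Subgroup.inclusion hZW)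
  have hρ : ∀ (z : Z) (w : WK V Z K), ((ρ z w : WK V Z K) : V) = (z : X) • (w : V) :=
    fun z w => rfl
  have hker : ∀ z : Z, ρ z = 1 → (z : X) ∈ K := by
    intro z hz
    apply mx.mem_of_fix z.2
    intro w hw
    have := hρ z ⟨w, hw⟩
    rw [hz] at this
    exact this.symm
  let φ : MulAut (WK V Z K) →* MulAut (WK V Z K) := MonoidHom.id _
  haveI : Finite ((WK V Z K) ⋊[φ] MulAut (WK V Z K)) :=
    Finite.of_equiv _ SemidirectProduct.equivProd.symm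
  let D0 : Subgroup ((WK V Z K) ⋊[φ] MulAut (WK V Z K)) :=
    (SemidirectProduct.inl : (WK V Z K) →* (WK V Z K) ⋊[φ] MulAut (WK V Z K)).range
  haveI : D0.Normal := by
    show ((SemidirectProduct.inl : (WK V Z K) →* (WK V Z K) ⋊[φ] MulAut (WK V Z K)).range).Normal
    rw [SemidirectProduct.range_inl_eq_ker_rightHom]
    infer_instance
  let A0 : Subgroup ((WK V Z K) ⋊[φ] MulAut (WK V Z K)) :=
    ρ.range.map (SemidirectProduct.inr : MulAut (WK V Z K) →* (WK V Z K) ⋊[φ] MulAut (WK V Z K))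
  have hD : D0 ≠ ⊥ := by
    intro h
    obtain ⟨w, hw, hw1⟩ := mx.exists_ne
    have h1 : (SemidirectProduct.inl (⟨w, hw⟩ : WK V Z K) : (WK V Z K) ⋊[φ] MulAut (WK V Z K)) ∈ D0 :=
      ⟨_, rfl⟩
    rw [h, Subgroup.mem_bot] at h1
    have h2 : (⟨w, hw⟩ : WK V Z K) = 1 := SemidirectProduct.inl_injective (h1.trans (map_one _).symm)
    exact hw1 (congrArg Subtype.val h2)
  have hab : ∀ a ∈ A0, ∀ b ∈ A0, a * b = b * a := by
    rintro _ ⟨_, ⟨x, rfl⟩, rfl⟩ _ ⟨_, ⟨y, rfl⟩, rfl⟩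
    rw [← map_mul, ← map_mul, ← map_mul, ← map_mul]
    have : x * y = y * x := Subtype.ext (abZ x x.2 y y.2)
    rw [this]
  have hfpf : ∀ a ∈ A0, a ≠ 1 → ∀ d ∈ D0, a * d = d * a → d = 1 := by
    rintro _ ⟨_, ⟨x, rfl⟩, rfl⟩ hx1 _ ⟨w, rfl⟩ hcomm
    have hxK : (x : X) ∉ K := by
      intro hxK
      apply hx1
      have : ρ x = 1 := by
        ext w
        rw [hρ]
        exact w.2.2 _ hxK
      rw [this, map_one]
    have h1 : (SemidirectProduct.inl (φ (ρ x) w) : (WK V Z K) ⋊[φ] MulAut (WK V Z K))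
        = SemidirectProduct.inl w := by
      rw [SemidirectProduct.inl_aut, hcomm, mul_assoc, ← map_mul, mul_inv_cancel, map_one, mul_one]
    have h2 : ρ x w = w := SemidirectProduct.inl_injective h1
    have h3 : (x : X) • (w : V) = w := by rw [← hρ, h2]
    have h4 : (w : V) = 1 := mx.semireg x.2 hxK w.2 h3
    have h5 : w = 1 := Subtype.ext h4
    rw [h5, map_one]
  have hcyc : IsCyclic A0 := Cfsg.Agent.Lib.H83MUCyc.cyclic_of_fpf A0 D0 hD hab hfpf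
  obtain ⟨⟨a0, ha0⟩, hgen⟩ := hcyc.exists_generator
  obtain ⟨_, ⟨z0, rfl⟩, rfl⟩ := ha0
  refine ⟨z0, z0.2, fun z hz => ?_⟩
  have hzA : (SemidirectProduct.inr (ρ ⟨z, hz⟩) : (WK V Z K) ⋊[φ] MulAut (WK V Z K)) ∈ A0 :=
    ⟨_, ⟨_, rfl⟩, rfl⟩
  obtain ⟨n, hn⟩ := hgen ⟨_, hzA⟩
  refine ⟨n, ?_⟩
  have h1 := congrArg Subtype.val hn
  simp only [Subgroup.coe_zpow] at h1
  rw [← map_zpow, ← map_zpow] at h1
  have h2 : ρ (z0 ^ n) = ρ ⟨z, hz⟩ := SemidirectProduct.inr_injective h1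
  have h3 : ρ (⟨z, hz⟩ * (z0 ^ n)⁻¹) = 1 := by
    rw [map_mul, map_inv, h2, mul_inv_cancel]
  exact hker _ h3

end Cfsg.Agent.Lib.H82PQCyc
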