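import Mathlib
import Cfsg.Agent.Lib.H82PQDefs
import Cfsg.Agent.Lib.H82PQCyc

set_option autoImplicit false
set_option linter.unusedSectionVars false

/-! Project 4306 (S4306), piece `AutAb` (35m).
 Abstract: `Z` abelian, `K ≤ Z`, `Z = ⟨z₀⟩ K`.  If `a, b` normalise `Z` and `K` then `a*b*a⁻¹*b⁻¹ ∈ kerQR Z K`.  [`a z₀ a⁻¹ ≡ z₀^i`, `b z₀ b⁻¹ ≡ z₀^j` mod `K`, so `ab` and `ba` act in the same way on `z₀` mod `K`: `(ab) z₀ (ab)⁻¹ ≡ z₀^{ij} ≡ (ba) z₀ (ba)⁻¹`;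
the set `{u ∈ Z | (ab) u (ab)⁻¹ ≡ (ba) u (ba)⁻¹ mod K}` is a subgroup containing `z₀` and `K`.  Apply it to `(ba)⁻¹`-conjugates to get the commutator form.] -/
namespace Cfsg.Agent.Lib.H82PQAutAb
open Cfsg.Agent.Lib.Helper66Fpf Cfsg.Agent.Lib.Helper66Fpf2 Cfsg.Agent.Lib.Helper66Ward2
  Cfsg.Agent.Lib.Helper66S3a Cfsg.Agent.Lib.Helper66S3b Cfsg.Agent.Lib.Helper66S3c
  Cfsg.Agent.Lib.Helper40Sylow Cfsg.Agent.Lib.H92GREStep1 Cfsg.Agent.Lib.H82PQDefs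
open Cfsg.Agent.Lib.H82PQCyc
open scoped commutatorElement
variable {V : Type*} [CommGroup V] [Finite V] {X : Type*} [Group X] [Finite X] [MulDistribMulAction X V]
variable {p q t s r l : ℕ} {c d g : X} {S R Z K Q E Zt D : Subgroup X}
theorem autab (abZ : ∀ x ∈ Z, ∀ y ∈ Z, x * y = y * x) (hK : K ≤ Z) {z₀ : X} (hz₀ : z₀ ∈ Z)
    (hgen : ∀ z ∈ Z, ∃ n : ℤ, z * (z₀ ^ n)⁻¹ ∈ K) {a b : X}
    (haZ : a ∈ Subgroup.normalizer (Z : Set X)) (haK : a ∈ Subgroup.normalizer (K : Set X))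
    (hbZ : b ∈ Subgroup.normalizer (Z : Set X)) (hbK : b ∈ Subgroup.normalizer (K : Set X)) :
    a * b * a⁻¹ * b⁻¹ ∈ kerQR Z K := by
  have hA : ∀ x : X, x ∈ Subgroup.normalizer (Z : Set X) → x ∈ Subgroup.normalizer (K : Set X) →
      ∃ i : ℤ, ∀ u ∈ Z, ∀ n : ℤ, u * (z₀ ^ n)⁻¹ ∈ K → (x * u * x⁻¹) * (z₀ ^ (i * n))⁻¹ ∈ K := by
    intro x hxZ hxK
    have h1 : x * z₀ * x⁻¹ ∈ Z := (Subgroup.mem_normalizer_iff.1 hxZ _).1 hz₀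
    obtain ⟨i, hi⟩ := hgen _ h1
    refine ⟨i, fun u _ n hn => ?_⟩
    set kx := x * z₀ * x⁻¹ * (z₀ ^ i)⁻¹ with hkx
    set k := u * (z₀ ^ n)⁻¹ with hk
    have e1 : u = k * z₀ ^ n := by rw [hk]; group
    have e2 : x * z₀ * x⁻¹ = kx * z₀ ^ i := by rw [hkx]; group
    have hcm : Commute kx (z₀ ^ i) := abZ _ (hK hi) _ (Z.zpow_mem hz₀ i)
    have e3 : x * u * x⁻¹ = (x * k * x⁻¹) * (kx ^ n * z₀ ^ (i * n)) := by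
      calc x * u * x⁻¹ = (x * k * x⁻¹) * (x * z₀ ^ n * x⁻¹) := by rw [e1]; group
        _ = (x * k * x⁻¹) * (x * z₀ * x⁻¹) ^ n := by rw [conj_zpow]
        _ = (x * k * x⁻¹) * (kx ^ n * z₀ ^ (i * n)) := by rw [e2, hcm.mul_zpow, ← zpow_mul]
    have e4 : (x * u * x⁻¹) * (z₀ ^ (i * n))⁻¹ = (x * k * x⁻¹) * kx ^ n := by
      rw [e3]; group
    rw [e4]
    exact K.mul_mem ((Subgroup.mem_normalizer_iff.1 hxK _).1 hn) (K.zpow_mem hi n)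
  obtain ⟨i, hi⟩ := hA a haZ haK
  obtain ⟨j, hj⟩ := hA b hbZ hbK
  refine ⟨mul_mem (mul_mem (mul_mem haZ hbZ) (inv_mem haZ)) (inv_mem hbZ),
    mul_mem (mul_mem (mul_mem haK hbK) (inv_mem haK)) (inv_mem hbK), fun u hu => ?_⟩
  have hbaZ : (b * a)⁻¹ ∈ Subgroup.normalizer (Z : Set X) := inv_mem (mul_mem hbZ haZ)
  set w := (b * a)⁻¹ * u * (b * a)⁻¹⁻¹ with hw
  have hwZ : w ∈ Z := (Subgroup.mem_normalizer_iff.1 hbaZ _).1 hu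
  obtain ⟨n, hn⟩ := hgen w hwZ
  have hbw : b * w * b⁻¹ ∈ Z := (Subgroup.mem_normalizer_iff.1 hbZ _).1 hwZ
  have haw : a * w * a⁻¹ ∈ Z := (Subgroup.mem_normalizer_iff.1 haZ _).1 hwZ
  have h1 := hi _ hbw _ (hj w hwZ n hn)
  have h2 := hj _ haw _ (hi w hwZ n hn)
  have e5 : j * (i * n) = i * (j * n) := by ring
  rw [e5] at h2
  have e6 : b * (a * w * a⁻¹) * b⁻¹ = u := by rw [hw]; group
  have e7 : a * (b * w * b⁻¹) * a⁻¹ = a * b * a⁻¹ * b⁻¹ * u * (a * b * a⁻¹ * b⁻¹)⁻¹ := by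
    rw [hw]; group
  rw [e6] at h2
  rw [e7] at h1
  have h3 := K.mul_mem h1 (K.inv_mem h2)
  have e8 : a * b * a⁻¹ * b⁻¹ * u * (a * b * a⁻¹ * b⁻¹)⁻¹ * (z₀ ^ (i * (j * n)))⁻¹
      * (u * (z₀ ^ (i * (j * n)))⁻¹)⁻¹ = a * b * a⁻¹ * b⁻¹ * u * (a * b * a⁻¹ * b⁻¹)⁻¹ * u⁻¹ := by
    group
  rw [e8] at h3
  exact h3

end Cfsg.Agent.Lib.H82PQAutAb
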