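import Mathlib
import Cfsg.Agent.Lib.H82PQDefs
import Cfsg.Agent.S0022

set_option autoImplicit false
set_option linter.unusedSectionVars false

/-! Project 4306 (S4306), piece `KT` (25m).
 Direct from `Cfsg.Agent.S0022.result`: every `u ∈ Q` is congruent mod `K` to an element of `C_Q(B) ≤ K`. -/
namespace Cfsg.Agent.Lib.H82PQKT
open Cfsg.Agent.Lib.Helper66Fpf Cfsg.Agent.Lib.Helper66Fpf2 Cfsg.Agent.Lib.Helper66Ward2
  Cfsg.Agent.Lib.Helper66S3a Cfsg.Agent.Lib.Helper66S3b Cfsg.Agent.Lib.Helper66S3c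
  Cfsg.Agent.Lib.Helper40Sylow Cfsg.Agent.Lib.H92GREStep1 Cfsg.Agent.Lib.H82PQDefs
open scoped commutatorElement
variable {V : Type*} [CommGroup V] [Finite V] {X : Type*} [Group X] [Finite X] [MulDistribMulAction X V]
variable {p q t s r l : ℕ} {c d g : X} {S R Z K Q E Zt D : Subgroup X}
theorem le_of_ker (B Q K : Subgroup X) (hBQ : B ≤ Subgroup.normalizer (Q : Set X))
    (hcop : (Nat.card B).Coprime (Nat.card Q)) (hsol : Group.IsSolvable B) (hK : K ≤ Q)
    (hQK : Q ≤ Subgroup.normalizer (K : Set X)) (hB : B ≤ kerQR Q K)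
    (hfix : Q ⊓ Subgroup.centralizer (B : Set X) ≤ K) : Q ≤ K := by
  intro u hu
  obtain ⟨c, hc, hcu⟩ := Cfsg.Agent.S0022.result B Q hBQ hcop (Or.inl hsol) K hK hQK
    (fun b hb => (hB hb).2.1) u hu (fun a ha => (hB ha).2.2 u hu)
  have h1 : c ∈ K := hfix hc
  have h2 : u = c * (u⁻¹ * c)⁻¹ := by group
  rw [h2]
  exact K.mul_mem h1 (K.inv_mem hcu)

end Cfsg.Agent.Lib.H82PQKT
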