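import Mathlib
import Cfsg.Agent.Lib.H82PQDefs
import Cfsg.Agent.S0055

set_option autoImplicit false
set_option linter.unusedSectionVars false

/-! Project 4306 (S4306), piece `KerFix` (40m).
 Put `B = ⁅Z, zpowers g⁆ ≤ Z` (normalised by `g`).  By `Cfsg.Agent.S0055.result (zpowers g) Z` (coprime: `card (zpowers g) ∣ l`), `C_Z(g) ⊓ B = ⊥`: `g` has no fixed point on `B`.
`Helper66Fpf2.frobP hl g hg B (coprime) .. W₀ ..` gives: `B` acts trivially on `W₀`.  As `W₀ ≠ ⊥` and `W₀ ≤ WK V Z K`, `MaxK.semireg` gives `B ≤ K`.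
Finally `g*u*g⁻¹*u⁻¹ ∈ B` for `u ∈ Z` (`Subgroup.commutator_mem_commutator`, up to inverse). -/
namespace Cfsg.Agent.Lib.H82PQKerFix
open Cfsg.Agent.Lib.Helper66Fpf Cfsg.Agent.Lib.Helper66Fpf2 Cfsg.Agent.Lib.Helper66Ward2
  Cfsg.Agent.Lib.Helper66S3a Cfsg.Agent.Lib.Helper66S3b Cfsg.Agent.Lib.Helper66S3c
  Cfsg.Agent.Lib.Helper40Sylow Cfsg.Agent.Lib.H92GREStep1 Cfsg.Agent.Lib.H82PQDefs
open scoped commutatorElement
variable {V : Type*} [CommGroup V] [Finite V] {X : Type*} [Group X] [Finite X] [MulDistribMulAction X V]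
variable {p q t s r l : ℕ} {c d g : X} {S R Z K Q E Zt D : Subgroup X}
theorem kerfix (abZ : ∀ x ∈ Z, ∀ y ∈ Z, x * y = y * x) (copV : (Nat.card V).Coprime (Nat.card Z))
    (mx : MaxK V Z K) (hl : l.Prime) (hg : g ^ l = 1) (hcop : (Nat.card Z).Coprime l)
    (hgZ : g ∈ Subgroup.normalizer (Z : Set X)) (hgK : g ∈ Subgroup.normalizer (K : Set X))
    (W₀ : Subgroup V) (hW₀ : W₀ ≤ WK V Z K) (hne : W₀ ≠ ⊥) (hZW : ∀ z ∈ Z, ∀ w ∈ W₀, z • w ∈ W₀)
    (hgW : ∀ w ∈ W₀, g • w ∈ W₀) (hf : Fpf g W₀) : g ∈ kerQR Z K := by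
  refine ⟨hgZ, hgK, ?_⟩
  haveI : IsMulCommutative Z := ⟨⟨fun x y => Subtype.ext (abZ x x.2 y y.2)⟩⟩
  have hA : Subgroup.zpowers g ≤ Subgroup.normalizer (Z : Set X) := Subgroup.zpowers_le.mpr hgZ
  have hcardg : Nat.card (Subgroup.zpowers g) ∣ l := by
    rw [Nat.card_zpowers]; exact orderOf_dvd_of_pow_eq_one hg
  have hcop' : (Nat.card (Subgroup.zpowers g)).Coprime (Nat.card Z) :=
    Nat.Coprime.coprime_dvd_left hcardg hcop.symm
  obtain ⟨h1, h2⟩ := Cfsg.Agent.S0055.result (Subgroup.zpowers g) Z hA hcop'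
  obtain ⟨B, hB⟩ : ∃ B : Subgroup X, B = ⁅Z, Subgroup.zpowers g⁆ := ⟨_, rfl⟩
  rw [← hB] at h1 h2
  have hBZ : B ≤ Z := by
    conv_rhs => rw [← h2]
    exact le_sup_right
  have hmapZ : Z.map (MulAut.conj g).toMonoidHom = Z := by
    ext y
    constructor
    · rintro ⟨x, hx, rfl⟩
      exact (Subgroup.mem_normalizer_iff.mp hgZ x).mp hx
    · intro hy
      refine ⟨g⁻¹ * y * g, ?_, ?_⟩
      · apply (Subgroup.mem_normalizer_iff.mp hgZ _).mpr
        have : g * (g⁻¹ * y * g) * g⁻¹ = y := by group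
        rw [this]; exact hy
      · show g * (g⁻¹ * y * g) * g⁻¹ = y
        group
  have hmapA : (Subgroup.zpowers g).map (MulAut.conj g).toMonoidHom = Subgroup.zpowers g := by
    rw [MonoidHom.map_zpowers]
    congr 1
    show g * g * g⁻¹ = g
    group
  have hgB : ∀ x ∈ B, g * x * g⁻¹ ∈ B := by
    intro x hx
    have h3 : g * x * g⁻¹ ∈ B.map (MulAut.conj g).toMonoidHom := ⟨x, hx, rfl⟩
    rw [hB, Subgroup.map_commutator, hmapZ, hmapA, ← hB] at h3
    exact h3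
  have hf1 : ∀ x ∈ B, g * x * g⁻¹ = x → x = 1 := by
    intro x hx hgx
    have hcomm : Commute g x := by
      show g * x = x * g
      calc g * x = g * x * g⁻¹ * g := by group
        _ = x * g := by rw [hgx]
    have h3 : x ∈ (Z ⊓ Subgroup.centralizer (Subgroup.zpowers g : Set X)) ⊓ B := by
      have h4 : x ∈ Subgroup.centralizer (Subgroup.zpowers g : Set X) := by
        rw [Subgroup.mem_centralizer_iff]
        rintro y ⟨n, rfl⟩
        exact (hcomm.zpow_left n)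
      exact ⟨⟨hBZ hx, h4⟩, hx⟩
    rw [h1] at h3
    exact Subgroup.mem_bot.mp h3
  have hcopB : (Nat.card V).Coprime (Nat.card B) :=
    Nat.Coprime.coprime_dvd_right (Subgroup.card_dvd_of_le hBZ) copV
  have hfix := frobP hl g hg B hcopB hgB hf1 W₀ (fun x hx => hZW x (hBZ hx)) hgW hf
  obtain ⟨⟨w, hw⟩, hw1⟩ := (Subgroup.ne_bot_iff_exists_ne_one).mp hne
  have hBK : B ≤ K := by
    intro x hx
    by_contra hxK
    have := mx.semireg (hBZ hx) hxK (hW₀ hw) (hfix x hx w hw)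
    exact hw1 (Subtype.ext this)
  intro u hu
  apply hBK
  rw [hB, Subgroup.commutator_comm]
  have := Subgroup.commutator_mem_commutator (Subgroup.mem_zpowers g) hu
  rwa [commutatorElement_def] at this

end Cfsg.Agent.Lib.H82PQKerFix
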