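import Mathlib
import Cfsg.Agent.Lib.H82PQDefs
import Cfsg.Agent.Lib.H82PQAGa
import Cfsg.Agent.Lib.H82PQAGb
import Cfsg.Agent.Lib.H82PQAGc
import Cfsg.Agent.Lib.H82PQAGd
import Cfsg.Agent.Lib.H82PQKT

set_option autoImplicit false
set_option linter.unusedSectionVars false

/-! Project 4306 (S4306), piece `NormK` (20m).
 `KT.le_of_ker (AA c d) Q K` : `AA c d ≤ kerQR Q K` (join of two cyclic groups, `Subgroup.zpowers_le`), `Ad.inf_eq_bot`, `Ad.coprime_AA`, `AGb.solvable_AA`. -/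
namespace Cfsg.Agent.Lib.H82PQNormK
open Cfsg.Agent.Lib.Helper66Fpf Cfsg.Agent.Lib.Helper66Fpf2 Cfsg.Agent.Lib.Helper66Ward2
  Cfsg.Agent.Lib.Helper66S3a Cfsg.Agent.Lib.Helper66S3b Cfsg.Agent.Lib.Helper66S3c
  Cfsg.Agent.Lib.Helper40Sylow Cfsg.Agent.Lib.H92GREStep1 Cfsg.Agent.Lib.H82PQDefs
open Cfsg.Agent.Lib.H82PQAGa Cfsg.Agent.Lib.H82PQAGb Cfsg.Agent.Lib.H82PQAGc Cfsg.Agent.Lib.H82PQAGd Cfsg.Agent.Lib.H82PQKT
open scoped commutatorElement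
variable {V : Type*} [CommGroup V] [Finite V] {X : Type*} [Group X] [Finite X] [MulDistribMulAction X V]
variable {p q t s r l : ℕ} {c d g : X} {S R Z K Q E Zt D : Subgroup X}
theorem normK (fg : FG p q c d) (h : Ad p q c d Q) (hK : K ≤ Q) (hQK : Q ≤ Subgroup.normalizer (K : Set X))
    (hc : c ∈ kerQR Q K) (hd : d ∈ kerQR Q K) : Q ≤ K := by
  apply H82PQKT.le_of_ker (AA c d) Q K (H82PQAGd.Ad.le h) (H82PQAGd.Ad.coprime_AA fg h)
    (H82PQAGb.solvable_AA fg) hK hQK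
  · unfold AA
    exact sup_le ((Subgroup.zpowers_le).mpr hc) ((Subgroup.zpowers_le).mpr hd)
  · rw [H82PQAGd.Ad.inf_eq_bot h]; exact bot_le

end Cfsg.Agent.Lib.H82PQNormK
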