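import Mathlib
import Cfsg.Agent.Lib.H82PQDefs
import Cfsg.Agent.Lib.H82PQAGa
import Cfsg.Agent.Lib.H82PQAGb
import Cfsg.Agent.Lib.H82PQAGc
import Cfsg.Agent.Lib.H82PQAGd
import Cfsg.Agent.Lib.H82PQKT
import Cfsg.Agent.Lib.H82PQNormK
import Cfsg.Agent.Lib.H82PQKerFix
import Cfsg.Agent.Lib.H82PQCyc
import Cfsg.Agent.Lib.H82PQAutAb

set_option autoImplicit false
set_option linter.unusedSectionVars false

/-! Project 4306 (S4306), piece `DichAll` (50m).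
 `c ∈ kerQR Z K`: `d*c*d⁻¹*c⁻¹ ∈ kerQR Z K` (`Cyc.cyc`, `AutAb.autab`), and `c ∈ zpowers (d*c*d⁻¹*c⁻¹)` (`AGa.c_mem_comm`).
`c` is fixed point free on `WK`: let `W₀ = WK V Z K ⊓ fixV V c`.  It is `Z`-invariant (`c • z • w = (c*z*c⁻¹*z⁻¹) • z • c • w` up to order in the abelian `Z`, and `c*z*c⁻¹*z⁻¹ ∈ K` fixes `WK`; `smul_mem_WK_of_mem`), `d`-invariant (`d` normalises `zpowers c`, `Z`, `K`: `smul_mem_WK`, `cj d K = K`),
and `d` is fixed point free on it (`h.fpfV`).  If `W₀ ≠ ⊥`, `KerFix.kerfix` with `g = d`, `l = q` gives `d ∈ kerQR Z K`, then `NormK.normK` gives `Z ≤ K`, against `mx.lt copV`. -/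
namespace Cfsg.Agent.Lib.H82PQDichAll
open Cfsg.Agent.Lib.Helper66Fpf Cfsg.Agent.Lib.Helper66Fpf2 Cfsg.Agent.Lib.Helper66Ward2
  Cfsg.Agent.Lib.Helper66S3a Cfsg.Agent.Lib.Helper66S3b Cfsg.Agent.Lib.Helper66S3c
  Cfsg.Agent.Lib.Helper40Sylow Cfsg.Agent.Lib.H92GREStep1 Cfsg.Agent.Lib.H82PQDefs
open Cfsg.Agent.Lib.H82PQAGa Cfsg.Agent.Lib.H82PQAGb Cfsg.Agent.Lib.H82PQAGc Cfsg.Agent.Lib.H82PQAGd Cfsg.Agent.Lib.H82PQKT Cfsg.Agent.Lib.H82PQNormK Cfsg.Agent.Lib.H82PQKerFix Cfsg.Agent.Lib.H82PQCyc Cfsg.Agent.Lib.H82PQAutAb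
open scoped commutatorElement
variable {V : Type*} [CommGroup V] [Finite V] {X : Type*} [Group X] [Finite X] [MulDistribMulAction X V]
variable {p q t s r l : ℕ} {c d g : X} {S R Z K Q E Zt D : Subgroup X}
theorem dichAll (h : PQ V p q c d) (abZ : ∀ x ∈ Z, ∀ y ∈ Z, x * y = y * x) (admZ : Ad p q c d Z)
    (copV : (Nat.card V).Coprime (Nat.card Z)) (mx : MaxK V Z K)
    (hc : c ∈ Subgroup.normalizer (K : Set X)) (hd : d ∈ Subgroup.normalizer (K : Set X)) :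
    c ∈ kerQR Z K ∧ Fpf c (WK V Z K) := by
  have smulN : ∀ {x : X}, x ∈ Subgroup.normalizer (Z : Set X) →
      x ∈ Subgroup.normalizer (K : Set X) → ∀ w ∈ WK V Z K, x • w ∈ WK V Z K := by
    intro x hZ hK w hw
    have := smul_mem_WK hZ hw
    rwa [mem_normalizer_iff_cj.mp hK] at this
  have hcop := Nat.coprime_mul_iff_right.1 admZ.cop
  obtain ⟨z₀, hz₀, hgen⟩ := cyc abZ mx
  have h1 : d * c * d⁻¹ * c⁻¹ ∈ kerQR Z K := autab abZ mx.le hz₀ hgen admZ.hd hd admZ.hc hc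
  have h2 : c ∈ Subgroup.zpowers (d * c * d⁻¹ * c⁻¹) := c_mem_comm h.fg
  have hcK : c ∈ kerQR Z K := (Subgroup.zpowers_le.2 h1) h2
  refine ⟨hcK, ?_⟩
  obtain ⟨W₀, hW₀⟩ : ∃ W₀ : Subgroup V, W₀ = WK V Z K ⊓ fixV V c := ⟨_, rfl⟩
  have hmem : ∀ w, w ∈ W₀ ↔ w ∈ WK V Z K ∧ c • w = w := by
    intro w
    rw [hW₀, Subgroup.mem_inf, mem_fixV]
  have hbot : W₀ = ⊥ := by
    by_contra hne
    have hZW : ∀ z ∈ Z, ∀ w ∈ W₀, z • w ∈ W₀ := by
      intro z hz w hw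
      rw [hmem] at hw ⊢
      have hzw : z • w ∈ WK V Z K := smul_mem_WK_of_mem abZ mx.le hz hw.1
      refine ⟨hzw, ?_⟩
      have hk : c * z * c⁻¹ * z⁻¹ ∈ K := hcK.2.2 z hz
      have e1 : c • z • w = (c * z * c⁻¹ * z⁻¹) • z • c • w := by
        simp only [← mul_smul]
        congr 1
        group
      rw [e1, hw.2]
      exact hzw.2 _ hk
    have hdW : ∀ w ∈ W₀, d • w ∈ W₀ := by
      intro w hw
      rw [hmem] at hw ⊢
      refine ⟨smulN admZ.hd hd w hw.1, ?_⟩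
      have hdn : d⁻¹ ∈ Subgroup.normalizer (Subgroup.zpowers c : Set X) :=
        Subgroup.inv_mem _ (Cfsg.Agent.Lib.H82PQAGa.norm h.fg (Subgroup.mem_zpowers d))
      have h3 : d⁻¹ * c * d⁻¹⁻¹ ∈ Subgroup.zpowers c :=
        (Subgroup.mem_normalizer_iff.1 hdn c).1 (Subgroup.mem_zpowers c)
      have h4 : Subgroup.zpowers c ≤ MulAction.stabilizer X w :=
        Subgroup.zpowers_le.2 (MulAction.mem_stabilizer_iff.2 hw.2)
      have h5 : (d⁻¹ * c * d⁻¹⁻¹) • w = w := MulAction.mem_stabilizer_iff.1 (h4 h3)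
      have e1 : c • d • w = d • (d⁻¹ * c * d⁻¹⁻¹) • w := by
        simp only [← mul_smul]
        congr 1
        group
      rw [e1, h5]
    have hf : Fpf d W₀ := by
      intro w hw hdw
      exact h.fpfV w ((hmem w).1 hw).2 hdw
    have hdK : d ∈ kerQR Z K :=
      kerfix abZ copV mx h.fg.qp h.fg.dq hcop.2 admZ.hd hd W₀ (by rw [hW₀]; exact inf_le_left) hne
        hZW hdW hf
    have hZK : Z ≤ Subgroup.normalizer (K : Set X) := by
      intro z hz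
      rw [Subgroup.mem_normalizer_iff]
      intro x
      constructor
      · intro hx
        have : z * x * z⁻¹ = x := by rw [abZ z hz x (mx.le hx)]; group
        rw [this]; exact hx
      · intro hx
        have e2 : z⁻¹ * (z * x * z⁻¹) = (z * x * z⁻¹) * z⁻¹ :=
          abZ _ (Z.inv_mem hz) _ (mx.le hx)
        have : x = z * x * z⁻¹ := by
          calc x = z⁻¹ * (z * x * z⁻¹) * z := by group
            _ = (z * x * z⁻¹) * z⁻¹ * z := by rw [e2]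
            _ = z * x * z⁻¹ := by group
        rw [this]; exact hx
    exact absurd (normK h.fg admZ mx.le hZK hcK hdK) (not_le_of_gt (mx.lt copV))
  intro w hw hcw
  have : w ∈ W₀ := (hmem w).2 ⟨hw, hcw⟩
  rw [hbot, Subgroup.mem_bot] at this
  exact this

end Cfsg.Agent.Lib.H82PQDichAll
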