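import Mathlib
import Cfsg.Agent.Lib.H82PQDefs
import Cfsg.Agent.Lib.H82PQAGa
import Cfsg.Agent.Lib.H82PQAGb
import Cfsg.Agent.Lib.H82PQAGc
import Cfsg.Agent.Lib.H82PQAGd

set_option autoImplicit false
set_option linter.unusedSectionVars false

/-! Project 4306 (S4306), piece `DichN` (50m).
 `B = AA c d ⊓ normalizer K`.  `Helper66S3b.orbit_fpf abZ (Ad.le admZ) (PQ.fpfA h) (PQ.coprime_AA h) mx`: a `w ∈ WK V Z K` fixed by all of `B` is `1`; as `WK ≠ ⊥`, `B ≠ ⊥`; `AGc.sub_cases`.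
(i) `c ∈ N(K)` and `d ∈ N(K)`: first alternative.  (ii) `c ∈ N(K)`, `d ∉ N(K)`: every `b = k*j ∈ B` (`AGb.mem_AA`) has `j ∈ N(K)`, so `j = 1` (else `d ∈ zpowers j`): `B ≤ zpowers c`, a vector fixed by `c` is fixed by `B`.
(note that if `c ∈ N(K)` and `k*d*k⁻¹ ∈ N(K)` then `d ∈ N(K)`.)  (iii) `c ∉ N(K)`, `d' = k*d*k⁻¹ ∈ N(K)`: write `b ∈ B` as `k'*j'` with `j' ∈ zpowers d'` (`mem_AA` for `AGc.conj`, `AGc.AA_conj`): `k' ∈ N(K)`, so `k' = 1` (else `c ∈ zpowers k'`). -/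
namespace Cfsg.Agent.Lib.H82PQDichN
open Cfsg.Agent.Lib.Helper66Fpf Cfsg.Agent.Lib.Helper66Fpf2 Cfsg.Agent.Lib.Helper66Ward2
  Cfsg.Agent.Lib.Helper66S3a Cfsg.Agent.Lib.Helper66S3b Cfsg.Agent.Lib.Helper66S3c
  Cfsg.Agent.Lib.Helper40Sylow Cfsg.Agent.Lib.H92GREStep1 Cfsg.Agent.Lib.H82PQDefs
open Cfsg.Agent.Lib.H82PQAGa Cfsg.Agent.Lib.H82PQAGb Cfsg.Agent.Lib.H82PQAGc Cfsg.Agent.Lib.H82PQAGd
open scoped commutatorElement
variable {V : Type*} [CommGroup V] [Finite V] {X : Type*} [Group X] [Finite X] [MulDistribMulAction X V]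
variable {p q t s r l : ℕ} {c d g : X} {S R Z K Q E Zt D : Subgroup X}
theorem dichN (h : PQ V p q c d) (abZ : ∀ x ∈ Z, ∀ y ∈ Z, x * y = y * x) (admZ : Ad p q c d Z)
    (copV : (Nat.card V).Coprime (Nat.card Z)) (mx : MaxK V Z K) :
    (c ∈ Subgroup.normalizer (K : Set X) ∧ d ∈ Subgroup.normalizer (K : Set X)) ∨
    (c ∈ Subgroup.normalizer (K : Set X) ∧ Fpf c (WK V Z K)) ∨
    (c ∉ Subgroup.normalizer (K : Set X) ∧ ∃ k ∈ Subgroup.zpowers c,
      k * d * k⁻¹ ∈ Subgroup.normalizer (K : Set X) ∧ Fpf (k * d * k⁻¹) (WK V Z K)) := by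
  have hof := orbit_fpf abZ (Ad.le admZ) (PQ.fpfA h) (PQ.coprime_AA h) mx
  have hB1 : AA c d ⊓ Subgroup.normalizer (K : Set X) ≠ ⊥ := by
    intro hbot
    obtain ⟨⟨w, hw⟩, hw1⟩ := (Subgroup.ne_bot_iff_exists_ne_one).mp mx.ne
    apply hw1
    apply Subtype.ext
    apply hof w hw
    intro b hbA hbN
    have h1 : b ∈ AA c d ⊓ Subgroup.normalizer (K : Set X) := ⟨hbA, hbN⟩
    rw [hbot] at h1
    rw [Subgroup.mem_bot.mp h1, one_smul]
  by_cases hc : c ∈ Subgroup.normalizer (K : Set X)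
  · by_cases hd : d ∈ Subgroup.normalizer (K : Set X)
    · exact Or.inl ⟨hc, hd⟩
    · refine Or.inr (Or.inl ⟨hc, ?_⟩)
      intro w hw hcw
      apply hof w hw
      intro b hbA hbN
      obtain ⟨k, hk, j, hj, rfl⟩ := (mem_AA h.fg).mp hbA
      have hkN : k ∈ Subgroup.normalizer (K : Set X) := (Subgroup.zpowers_le.mpr hc) hk
      have hjN : j ∈ Subgroup.normalizer (K : Set X) := by
        have h1 := mul_mem (inv_mem hkN) hbN
        rwa [inv_mul_cancel_left] at h1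
      have hj1 : j = 1 := by
        by_contra hj1
        exact hd ((Subgroup.zpowers_le.mpr hjN) (gen_of_ne' h.fg hj hj1))
      rw [hj1, mul_one]
      have h2 : Subgroup.zpowers c ≤ MulAction.stabilizer X w :=
        Subgroup.zpowers_le.mpr (MulAction.mem_stabilizer_iff.mpr hcw)
      exact MulAction.mem_stabilizer_iff.mp (h2 hk)
  · refine Or.inr (Or.inr ⟨hc, ?_⟩)
    rcases sub_cases h.fg _ inf_le_left hB1 with h1 | ⟨k, hk, hkd⟩
    · exact absurd h1.2 hc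
    · refine ⟨k, hk, hkd.2, ?_⟩
      intro w hw hdw
      apply hof w hw
      intro b hbA hbN
      rw [← AA_conj h.fg hk] at hbA
      obtain ⟨k', hk', j', hj', rfl⟩ := (mem_AA (conj h.fg hk)).mp hbA
      have hjN : j' ∈ Subgroup.normalizer (K : Set X) := (Subgroup.zpowers_le.mpr hkd.2) hj'
      have hkN : k' ∈ Subgroup.normalizer (K : Set X) := by
        have h1 := mul_mem hbN (inv_mem hjN)
        rwa [mul_inv_cancel_right] at h1
      have hk1 : k' = 1 := by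
        by_contra hk1
        exact hc ((Subgroup.zpowers_le.mpr hkN) (gen_of_ne h.fg hk' hk1))
      rw [hk1, one_mul]
      have h2 : Subgroup.zpowers (k * d * k⁻¹) ≤ MulAction.stabilizer X w :=
        Subgroup.zpowers_le.mpr (MulAction.mem_stabilizer_iff.mpr hdw)
      exact MulAction.mem_stabilizer_iff.mp (h2 hj')

end Cfsg.Agent.Lib.H82PQDichN
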