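import Mathlib
import Cfsg.Agent.Lib.H82PQDefs
import Cfsg.Agent.Lib.H82PQAGa
import Cfsg.Agent.Lib.H82PQAGb
import Cfsg.Agent.Lib.H82PQAGc
import Cfsg.Agent.Lib.H82PQAGd
import Cfsg.Agent.Lib.H82PQKerFix
import Cfsg.Agent.Lib.H82PQDichN
import Cfsg.Agent.Lib.H82PQDichAll

set_option autoImplicit false
set_option linter.unusedSectionVars false

/-! Project 4306 (S4306), piece `Dich` (25m).
 Glue: `DichN.dichN`; case 1 `DichAll.dichAll`; case 2 `KerFix.kerfix` with `g = c`, `l = p`, `W₀ = WK V Z K` (`mx.ne`, `smul_mem_WK_of_mem`, `smul_mem_WK` + `mem_normalizer_iff_cj`);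
case 3 the same with `g = k*d*k⁻¹`, `l = q` (`AGc.conj`, `Ad.conj`). -/
namespace Cfsg.Agent.Lib.H82PQDich
open Cfsg.Agent.Lib.Helper66Fpf Cfsg.Agent.Lib.Helper66Fpf2 Cfsg.Agent.Lib.Helper66Ward2
  Cfsg.Agent.Lib.Helper66S3a Cfsg.Agent.Lib.Helper66S3b Cfsg.Agent.Lib.Helper66S3c
  Cfsg.Agent.Lib.Helper40Sylow Cfsg.Agent.Lib.H92GREStep1 Cfsg.Agent.Lib.H82PQDefs
open Cfsg.Agent.Lib.H82PQAGa Cfsg.Agent.Lib.H82PQAGb Cfsg.Agent.Lib.H82PQAGc Cfsg.Agent.Lib.H82PQAGd Cfsg.Agent.Lib.H82PQKerFix Cfsg.Agent.Lib.H82PQDichN Cfsg.Agent.Lib.H82PQDichAll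
open scoped commutatorElement
variable {V : Type*} [CommGroup V] [Finite V] {X : Type*} [Group X] [Finite X] [MulDistribMulAction X V]
variable {p q t s r l : ℕ} {c d g : X} {S R Z K Q E Zt D : Subgroup X}
theorem dich (h : PQ V p q c d) (abZ : ∀ x ∈ Z, ∀ y ∈ Z, x * y = y * x) (admZ : Ad p q c d Z)
    (copV : (Nat.card V).Coprime (Nat.card Z)) (mx : MaxK V Z K) :
    (c ∈ kerQR Z K ∧ Fpf c (WK V Z K)) ∨
    (c ∉ Subgroup.normalizer (K : Set X) ∧ ∃ k ∈ Subgroup.zpowers c,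
      k * d * k⁻¹ ∈ kerQR Z K ∧ Fpf (k * d * k⁻¹) (WK V Z K)) := by
  have smulN : ∀ {x : X}, x ∈ Subgroup.normalizer (Z : Set X) →
      x ∈ Subgroup.normalizer (K : Set X) → ∀ w ∈ WK V Z K, x • w ∈ WK V Z K := by
    intro x hZ hK w hw
    have := smul_mem_WK hZ hw
    rwa [mem_normalizer_iff_cj.mp hK] at this
  have hcop := Nat.coprime_mul_iff_right.1 admZ.cop
  rcases dichN h abZ admZ copV mx with ⟨hc, hd⟩ | ⟨hc, hf⟩ | ⟨hc, k, hk, hkd, hf⟩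
  · exact Or.inl (dichAll h abZ admZ copV mx hc hd)
  · refine Or.inl ⟨?_, hf⟩
    exact kerfix abZ copV mx h.fg.pp h.fg.cp hcop.1 admZ.hc hc (WK V Z K) le_rfl mx.ne
      (fun z hz w hw => smul_mem_WK_of_mem abZ mx.le hz hw)
      (fun w hw => smulN admZ.hc hc w hw) hf
  · refine Or.inr ⟨hc, k, hk, ?_, hf⟩
    have fg' := Cfsg.Agent.Lib.H82PQAGc.conj h.fg hk
    have ad' := Cfsg.Agent.Lib.H82PQAGd.Ad.conj h.fg admZ hk
    exact kerfix abZ copV mx h.fg.qp fg'.dq hcop.2 ad'.hd hkd (WK V Z K) le_rfl mx.ne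
      (fun z hz w hw => smul_mem_WK_of_mem abZ mx.le hz hw)
      (fun w hw => smulN ad'.hd hkd w hw) hf

end Cfsg.Agent.Lib.H82PQDich
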