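import Mathlib
import Cfsg.Agent.Lib.H82PQDefs
import Cfsg.Agent.Lib.H82PQAGa
import Cfsg.Agent.Lib.H82PQAGb
import Cfsg.Agent.Lib.H82PQAGd
import Cfsg.Agent.Lib.H82PQKQ
import Cfsg.Agent.Lib.H82PQBas1
import Cfsg.Agent.S0026

set_option autoImplicit false
set_option linter.unusedSectionVars false

/-! Project 4306 (S4306), piece `RDich` (45m).
 `rdich`: `R₁ = cm R c`, `C = R ⊓ centralizer (zpowers c)`, both normalised by `c` and `d` (`AGa.norm`: `d` normalises `zpowers c`; `KQ.mem_normalizer_cm`).  `Cfsg.Agent.S0026.result (zpowers c) R`: `R₁ ⊔ C = R`.  If `R₁ ≠ R` and `C ≠ R`, `h.minR` twice: `S` centralises `R₁` and `C`, so `R`: against `h.ne`.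
If `C = R`: `C1 c R`; then `S0026` for `zpowers d`: `cm R d ⊔ (R ⊓ centralizer (zpowers d)) = R` and the second factor is `⊥` by `h.admR.fpf`.
`sdich`: the same with `S₁ = cm S c`, `C = S ⊓ centralizer (zpowers c)`, which are also normalised by `R` because `R` centralises `c` and normalises `S`; `h.minS`. -/
namespace Cfsg.Agent.Lib.H82PQRDich
open Cfsg.Agent.Lib.Helper66Fpf Cfsg.Agent.Lib.Helper66Fpf2 Cfsg.Agent.Lib.Helper66Ward2
  Cfsg.Agent.Lib.Helper66S3a Cfsg.Agent.Lib.Helper66S3b Cfsg.Agent.Lib.Helper66S3c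
  Cfsg.Agent.Lib.Helper40Sylow Cfsg.Agent.Lib.H92GREStep1 Cfsg.Agent.Lib.H82PQDefs
open Cfsg.Agent.Lib.H82PQAGa Cfsg.Agent.Lib.H82PQAGb Cfsg.Agent.Lib.H82PQAGd Cfsg.Agent.Lib.H82PQKQ Cfsg.Agent.Lib.H82PQBas1
open scoped commutatorElement
variable {V : Type*} [CommGroup V] [Finite V] {X : Type*} [Group X] [Finite X] [MulDistribMulAction X V]
variable {p q t s r l : ℕ} {c d g : X} {S R Z K Q E Zt D : Subgroup X}
theorem mem_norm_cent {a : X} (ha : a ∈ Subgroup.normalizer (Q : Set X))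
    (ha' : a ∈ Subgroup.normalizer (Subgroup.zpowers g : Set X)) :
    a ∈ Subgroup.normalizer ((Q ⊓ Subgroup.centralizer (Subgroup.zpowers g : Set X) : Subgroup X) : Set X) := by
  apply Cfsg.Agent.Lib.Helper66Basic.mem_normalizer_of_conj_mem
  intro x hx
  refine Subgroup.mem_inf.mpr ⟨(Subgroup.mem_normalizer_iff.mp ha x).mp hx.1, ?_⟩
  rw [Subgroup.mem_centralizer_iff]
  intro y hy
  have hy' : a⁻¹ * y * a⁻¹⁻¹ ∈ Subgroup.zpowers g :=
    (Subgroup.mem_normalizer_iff.mp (Subgroup.inv_mem _ ha') y).mp hy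
  have h1 := (Subgroup.mem_centralizer_iff.mp hx.2) _ hy'
  have e1 : y * (a * x * a⁻¹) = a * ((a⁻¹ * y * a⁻¹⁻¹) * x) * a⁻¹ := by group
  have e2 : a * x * a⁻¹ * y = a * (x * (a⁻¹ * y * a⁻¹⁻¹)) * a⁻¹ := by group
  rw [e1, e2, h1]

theorem split (hg : g ∈ Subgroup.normalizer (Q : Set X))
    (hcop : (Nat.card (Subgroup.zpowers g)).Coprime (Nat.card Q)) :
    cm Q g ⊔ (Q ⊓ Subgroup.centralizer (Subgroup.zpowers g : Set X)) = Q :=
  Cfsg.Agent.S0026.result (Subgroup.zpowers g) Q (Subgroup.zpowers_le.mpr hg) hcop (Or.inl inferInstance)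

theorem c1_of_inf (h : Q ⊓ Subgroup.centralizer (Subgroup.zpowers g : Set X) = Q) : C1 g Q := by
  intro u hu
  rw [← h] at hu
  exact (Subgroup.mem_centralizer_iff.mp hu.2) g (Subgroup.mem_zpowers g)

theorem mem_norm_of_c1 (h : C1 g Q) {x : X} (hx : x ∈ Q) :
    x ∈ Subgroup.normalizer (Subgroup.zpowers g : Set X) := by
  apply Cfsg.Agent.Lib.Helper66Basic.mem_normalizer_of_conj_mem
  intro y hy
  obtain ⟨m, rfl⟩ := Subgroup.mem_zpowers_iff.mp hy
  have h1 : Commute x g := (h x hx).symm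
  have h2 : Commute x (g ^ m) := h1.zpow_right m
  rw [h2.eq, mul_inv_cancel_right]
  exact Subgroup.zpow_mem _ (Subgroup.mem_zpowers g) m

theorem rdich (h : Cfg V p q t s r c d S R) : (C1 c R ∧ cm R d = R) ∨ cm R c = R := by
  have fg := h.pq.fg
  have hsp := split h.admR.hc (Ad.cop_c fg h.admR)
  have hcc : c ∈ Subgroup.normalizer (Subgroup.zpowers c : Set X) :=
    Subgroup.le_normalizer (Subgroup.mem_zpowers c)
  have hdc : d ∈ Subgroup.normalizer (Subgroup.zpowers c : Set X) :=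
    Cfsg.Agent.Lib.H82PQAGa.norm fg (Subgroup.mem_zpowers d)
  by_cases h1 : cm R c = R
  · exact Or.inr h1
  by_cases h2 : R ⊓ Subgroup.centralizer (Subgroup.zpowers c : Set X) = R
  · left
    have hc1 : C1 c R := c1_of_inf h2
    refine ⟨hc1, ?_⟩
    have hsp2 := split h.admR.hd (Ad.cop_d fg h.admR)
    have hbot : R ⊓ Subgroup.centralizer (Subgroup.zpowers d : Set X) = ⊥ := by
      rw [eq_bot_iff]
      intro x hx
      rw [Subgroup.mem_bot]
      exact h.admR.fpf x hx.1 (hc1 x hx.1)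
        ((Subgroup.mem_centralizer_iff.mp hx.2) d (Subgroup.mem_zpowers d))
    rw [hbot, sup_bot_eq] at hsp2
    exact hsp2
  · exfalso
    have l1 : cm R c < R := lt_of_le_of_ne (cm_le_self h.admR.hc) h1
    have l2 : R ⊓ Subgroup.centralizer (Subgroup.zpowers c : Set X) < R := lt_of_le_of_ne inf_le_left h2
    have m1 := h.minR _ l1 (mem_normalizer_cm h.admR.hc hcc) (mem_normalizer_cm h.admR.hd hdc)
    have m2 := h.minR _ l2 (mem_norm_cent h.admR.hc hcc) (mem_norm_cent h.admR.hd hdc)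
    rw [Subgroup.commutator_comm, Subgroup.commutator_eq_bot_iff_le_centralizer] at m1 m2
    apply h.ne
    rw [Subgroup.commutator_comm, Subgroup.commutator_eq_bot_iff_le_centralizer]
    calc R = _ := hsp.symm
      _ ≤ _ := sup_le m1 m2

theorem sdich (h : Cfg V p q t s r c d S R) (hcR : C1 c R) : C1 c S ∨ cm S c = S := by
  have fg := h.pq.fg
  have hsp := split h.admS.hc (Ad.cop_c fg h.admS)
  have hcc : c ∈ Subgroup.normalizer (Subgroup.zpowers c : Set X) :=
    Subgroup.le_normalizer (Subgroup.mem_zpowers c)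
  have hdc : d ∈ Subgroup.normalizer (Subgroup.zpowers c : Set X) :=
    Cfsg.Agent.Lib.H82PQAGa.norm fg (Subgroup.mem_zpowers d)
  by_cases h1 : cm S c = S
  · exact Or.inr h1
  by_cases h2 : S ⊓ Subgroup.centralizer (Subgroup.zpowers c : Set X) = S
  · exact Or.inl (c1_of_inf h2)
  · exfalso
    have l1 : cm S c < S := lt_of_le_of_ne (cm_le_self h.admS.hc) h1
    have l2 : S ⊓ Subgroup.centralizer (Subgroup.zpowers c : Set X) < S := lt_of_le_of_ne inf_le_left h2
    have m1 := h.minS _ l1 (mem_normalizer_cm h.admS.hc hcc) (mem_normalizer_cm h.admS.hd hdc)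
      (fun x hx => mem_normalizer_cm (h.RS hx) (mem_norm_of_c1 hcR hx))
    have m2 := h.minS _ l2 (mem_norm_cent h.admS.hc hcc) (mem_norm_cent h.admS.hd hdc)
      (fun x hx => mem_norm_cent (h.RS hx) (mem_norm_of_c1 hcR hx))
    rw [Subgroup.commutator_eq_bot_iff_le_centralizer] at m1 m2
    apply h.ne
    rw [Subgroup.commutator_eq_bot_iff_le_centralizer]
    calc S = _ := hsp.symm
      _ ≤ _ := sup_le m1 m2

end Cfsg.Agent.Lib.H82PQRDich
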