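import Mathlib
import Cfsg.Agent.Lib.H82PQDefs
import Cfsg.Agent.Lib.H82PQAGa
import Cfsg.Agent.Lib.H82PQAGb
import Cfsg.Agent.Lib.H82PQAGc
import Cfsg.Agent.Lib.H82PQAGd
import Cfsg.Agent.Lib.H82PQKQ
import Cfsg.Agent.Lib.H82PQBas1
import Cfsg.Agent.Lib.H82PQRDich
import Cfsg.Agent.Lib.H82PQDich

set_option autoImplicit false
set_option linter.unusedSectionVars false

/-! Project 4306 (S4306), piece `BA`.
 `S` abelian, `c` centralises `R`, `R = [R,d]`, `S = [S,c]`. -/
namespace Cfsg.Agent.Lib.H82PQBA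
open Cfsg.Agent.Lib.Helper66Fpf Cfsg.Agent.Lib.Helper66Fpf2 Cfsg.Agent.Lib.Helper66Ward2
  Cfsg.Agent.Lib.Helper66S3a Cfsg.Agent.Lib.Helper66S3b Cfsg.Agent.Lib.Helper66S3c
  Cfsg.Agent.Lib.Helper40Sylow Cfsg.Agent.Lib.H92GREStep1 Cfsg.Agent.Lib.H82PQDefs
open Cfsg.Agent.Lib.H82PQAGa Cfsg.Agent.Lib.H82PQAGb Cfsg.Agent.Lib.H82PQAGc Cfsg.Agent.Lib.H82PQAGd Cfsg.Agent.Lib.H82PQKQ Cfsg.Agent.Lib.H82PQBas1 Cfsg.Agent.Lib.H82PQRDich Cfsg.Agent.Lib.H82PQDich
open scoped commutatorElement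
variable {V : Type*} [CommGroup V] [Finite V] {X : Type*} [Group X] [Finite X] [MulDistribMulAction X V]
variable {p q t s r l : ℕ} {c d g : X} {S R Z K Q E Zt D : Subgroup X}

/-- elements of `⟨c⟩` commute with what `c` commutes with -/
theorem zp_comm {k x : X} (hk : k ∈ Subgroup.zpowers c) (hx : c * x = x * c) : k * x = x * k := by
  have h1 : x ∈ Subgroup.centralizer ({c} : Set X) := by
    rw [Subgroup.mem_centralizer_singleton_iff]
    exact hx.symm
  have h2 : Subgroup.zpowers c ≤ Subgroup.centralizer ({x} : Set X) := by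
    rw [Subgroup.zpowers_le, Subgroup.mem_centralizer_singleton_iff]
    exact hx
  exact (Subgroup.mem_centralizer_singleton_iff.1 (h2 hk))

/-- the `p`-part of a commuting product lies in the cyclic group generated by the product -/
theorem mem_zp_mul {n N : ℕ} (hcop : n.Coprime N) {a y : X} (ha : a ^ n = 1) (hy : y ^ N = 1)
    (hc : a * y = y * a) : a ∈ Subgroup.zpowers (a * y) := by
  have h1 : (a * y) ^ N = a ^ N := by
    rw [(show Commute a y from hc).mul_pow, hy, mul_one]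
  have h2 : (orderOf a).Coprime N := Nat.Coprime.coprime_dvd_left (orderOf_dvd_of_pow_eq_one ha) hcop
  obtain ⟨u, hu⟩ := exists_pow_eq_self_of_coprime (x := a) (n := N) h2.symm
  have h3 : ((a * y) ^ N) ^ u ∈ Subgroup.zpowers (a * y) :=
    Subgroup.pow_mem _ (Subgroup.pow_mem _ (Subgroup.mem_zpowers (a * y)) _) _
  rwa [h1, hu] at h3

theorem abel_a [FaithfulSMul X V] (h : Cfg V p q t s r c d S R) (ab : ∀ x ∈ S, ∀ y ∈ S, x * y = y * x)
    (hcR : C1 c R) (hSc : cm S c = S) : False := by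
  obtain ⟨K, mx⟩ := exists_maxK (V := V) (S_ne h)
  have hlt : K < S := mx.lt (copVS h)
  rcases dich h.pq ab h.admS (copVS h) mx with ⟨hα, -⟩ | ⟨hcN, k₀, hk₀, hd₀, -⟩
  · have := cm_le_of_mem hα
    rw [hSc] at this
    exact absurd hlt (not_lt_of_ge this)
  set d₀ := k₀ * d * k₀⁻¹ with hd₀def
  have h' : Cfg V p q t s r c d₀ S R := Cfg.conj h hk₀
  have hRd : cm R d₀ = R := by
    rcases rdich h' with h1 | h1
    · exact h1.2
    · exfalso
      rw [cm_eq_bot hcR] at h1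
      apply h.ne
      rw [← h1]
      exact Subgroup.commutator_bot_right S
  have hcK : c ∉ kerQR S K := fun hc => hcN hc.2.1
  have key : ∀ x ∈ R, x⁻¹ * d₀ * x ∈ kerQR S K := by
    intro x hx
    have hxS : x ∈ Subgroup.normalizer (S : Set X) := h.RS hx
    have mx' := mx.cj hxS
    rcases dich h'.pq ab h'.admS (copVS h) mx' with ⟨hα, -⟩ | ⟨-, k, hk, hkd, -⟩
    · exfalso
      rw [kerQR_cj hxS] at hα
      have : x⁻¹ * c * x = c := by
        rw [mul_assoc, hcR x hx, ← mul_assoc, inv_mul_cancel, one_mul]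
      rw [this] at hα
      exact hcK hα
    · rw [kerQR_cj hxS] at hkd
      have hkx : k * x = x * k := zp_comm hk (hcR x hx)
      set k' := (d₀⁻¹ * k * d₀) * k⁻¹ with hk'
      set y := d₀⁻¹ * x⁻¹ * d₀ * x with hy
      have hd₀R : d₀ ∈ Subgroup.normalizer (R : Set X) := h'.admR.hd
      have hyR : y ∈ R := by
        have h1 : d₀⁻¹ * x⁻¹ * d₀⁻¹⁻¹ ∈ R :=
          (Subgroup.mem_normalizer_iff.1 (Subgroup.inv_mem _ hd₀R) _).1 (Subgroup.inv_mem _ hx)
        rw [inv_inv] at h1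
        exact Subgroup.mul_mem _ h1 hx
      have hk'c : k' ∈ Subgroup.zpowers c := by
        have h1 : d₀⁻¹ * k * d₀⁻¹⁻¹ ∈ Subgroup.zpowers c :=
          conj_mem_zp h'.pq.fg (Subgroup.inv_mem _ (Subgroup.mem_zpowers d₀)) hk
        rw [inv_inv] at h1
        exact Subgroup.mul_mem _ h1 (Subgroup.inv_mem _ hk)
      have hky : k * y = y * k := zp_comm hk (hcR y hyR)
      have hk'y : k' * y = y * k' := zp_comm hk'c (hcR y hyR)
      have he : d₀⁻¹ * (x⁻¹ * (k * d₀ * k⁻¹) * x) = k' * y := by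
        have hkx' : x⁻¹ * k = k * x⁻¹ := by
          rw [eq_mul_inv_iff_mul_eq, mul_assoc, hkx, ← mul_assoc, inv_mul_cancel, one_mul]
        have hkx'' : k⁻¹ * x = x * k⁻¹ := by
          rw [eq_mul_inv_iff_mul_eq, mul_assoc, ← hkx, ← mul_assoc, inv_mul_cancel, one_mul]
        have hky' : k⁻¹ * y = y * k⁻¹ := by
          rw [eq_mul_inv_iff_mul_eq, mul_assoc, ← hky, ← mul_assoc, inv_mul_cancel, one_mul]
        calc d₀⁻¹ * (x⁻¹ * (k * d₀ * k⁻¹) * x)
            = d₀⁻¹ * ((x⁻¹ * k) * d₀ * (k⁻¹ * x)) := by group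
          _ = d₀⁻¹ * ((k * x⁻¹) * d₀ * (x * k⁻¹)) := by rw [hkx', hkx'']
          _ = (d₀⁻¹ * k * d₀) * (y * k⁻¹) := by rw [hy]; group
          _ = (d₀⁻¹ * k * d₀) * (k⁻¹ * y) := by rw [hky']
          _ = k' * y := by rw [hk']; group
      have heK : k' * y ∈ kerQR S K := by
        rw [← he]
        exact Subgroup.mul_mem _ (Subgroup.inv_mem _ hd₀) hkd
      have hk'p : k' ^ p = 1 := by
        obtain ⟨m, hm⟩ := Subgroup.mem_zpowers_iff.1 hk'c
        rw [← hm, ← zpow_natCast, ← zpow_mul, mul_comm, zpow_mul, zpow_natCast, h.pq.fg.cp, one_zpow]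
      have hyN : y ^ Nat.card R = 1 := by
        have := pow_card_eq_one' (x := (⟨y, hyR⟩ : R))
        exact congrArg Subtype.val this
      have hcop : p.Coprime (Nat.card R) :=
        (Nat.Coprime.coprime_mul_right_right h.admR.cop).symm
      have hk'K : k' ∈ kerQR S K :=
        (Subgroup.zpowers_le.2 heK) (mem_zp_mul hcop hk'p hyN hk'y)
      have hk'1 : k' = 1 := by
        by_contra hne
        exact hcK ((Subgroup.zpowers_le.2 hk'K) (gen_of_ne h.pq.fg hk'c hne))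
      have hk1 : k = 1 := by
        apply d_fpf h'.pq.fg hk
        have : d₀⁻¹ * k * d₀ = k := by
          rw [hk', mul_inv_eq_one] at hk'1
          exact hk'1
        calc d₀ * k = d₀ * (d₀⁻¹ * k * d₀) := by rw [this]
          _ = k * d₀ := by group
      rw [hk1] at hkd
      simpa using hkd
  have hR : R ≤ kerQR S K := by
    rw [← hRd]
    apply H82PQKQ.cm_le hd₀
    intro x hx
    have := key x⁻¹ (Subgroup.inv_mem _ hx)
    rwa [inv_inv] at this
  have := H82PQKQ.comm_le hR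
  rw [comm_eq h] at this
  exact absurd hlt (not_lt_of_ge this)

end Cfsg.Agent.Lib.H82PQBA
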