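import Mathlib
import Cfsg.Agent.Lib.H82PQDefs
import Cfsg.Agent.Lib.Helper12Hall
import Cfsg.Agent.Lib.Helper30SZ
import Cfsg.Agent.Lib.H82PQAGa
import Cfsg.Agent.Lib.H82PQAGb
import Cfsg.Agent.Lib.H82PQAGc
import Cfsg.Agent.Lib.H82PQAGd
import Cfsg.Agent.Lib.H82PQKT
import Cfsg.Agent.Lib.H82PQNormK
import Cfsg.Agent.Lib.H82PQKQ

set_option autoImplicit false
set_option linter.unusedSectionVars false

/-! Project 4306 (S4306), piece `Gam` (75m).
 `Γ = R ⊔ AA c d` (`R` normal in `Γ`, `R ⊓ AA = ⊥` by coprimality, `|Γ| = |R| p q`, `Γ` solvable, `Γ ≤ N(S)`).  `T ≤ Γ` and `T ⊔ R = Γ`, so `|T| = p q |T ⊓ R|`.  `T` is solvable: Hall (`Helper12Hall.hall_exists (p*q) |T ⊓ R|` in the type `↥T`) gives `A₁ ≤ T` of order `p q`.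
In `↥Γ` (`Helper12Hall.hall_conj (p*q) |R|`) `A₁` and `AA c d` are conjugate: `A₁ = γ (AA c d) γ⁻¹`, `γ ∈ Γ`.  So `γ c γ⁻¹, γ d γ⁻¹ ∈ kerQR S K`, i.e. (`KQ.kerQR_cj` with `x = γ⁻¹`) `c, d ∈ kerQR S (cj γ⁻¹ K)`.  `NormK.normK` gives `S ≤ cj γ⁻¹ K`; conjugate back (`cj γ S = S`): `S ≤ K`. -/
namespace Cfsg.Agent.Lib.H82PQGam
open Cfsg.Agent.Lib.Helper66Fpf Cfsg.Agent.Lib.Helper66Fpf2 Cfsg.Agent.Lib.Helper66Ward2
  Cfsg.Agent.Lib.Helper66S3a Cfsg.Agent.Lib.Helper66S3b Cfsg.Agent.Lib.Helper66S3c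
  Cfsg.Agent.Lib.Helper40Sylow Cfsg.Agent.Lib.H92GREStep1 Cfsg.Agent.Lib.H82PQDefs
open Cfsg.Agent.Lib.H82PQAGa Cfsg.Agent.Lib.H82PQAGb Cfsg.Agent.Lib.H82PQAGc Cfsg.Agent.Lib.H82PQAGd Cfsg.Agent.Lib.H82PQKT Cfsg.Agent.Lib.H82PQNormK Cfsg.Agent.Lib.H82PQKQ
open scoped commutatorElement
variable {V : Type*} [CommGroup V] [Finite V] {X : Type*} [Group X] [Finite X] [MulDistribMulAction X V]
variable {p q t s r l : ℕ} {c d g : X} {S R Z K Q E Zt D : Subgroup X}
theorem gam (fg : FG p q c d) (admS : Ad p q c d S) (admR : Ad p q c d R) (rp : r.Prime) (pR : IsPGroup r R)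
    (RS : R ≤ Subgroup.normalizer (S : Set X)) (hK : K ≤ S) (hSK : S ≤ Subgroup.normalizer (K : Set X))
    (T : Subgroup X) (hT : T ≤ kerQR S K) (hTR : T ≤ R ⊔ AA c d) (hA : AA c d ≤ T ⊔ R) : S ≤ K := by
  have hAR : AA c d ≤ Subgroup.normalizer (R : Set X) := Ad.le admR
  have hcop : (Nat.card (AA c d)).Coprime (Nat.card R) := Ad.coprime_AA fg admR
  have hcardA : Nat.card (AA c d) = p * q := card_AA fg
  have hΓ : Nat.card ↥(R ⊔ AA c d) = Nat.card R * (p * q) := by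
    rw [Cfsg.Agent.Lib.Helper30SZ.card_sup hAR hcop, hcardA]
  have hΓN : R ⊔ AA c d ≤ Subgroup.normalizer (R : Set X) := sup_le Subgroup.le_normalizer hAR
  have hTN : T ≤ Subgroup.normalizer (R : Set X) := hTR.trans hΓN
  have hTRΓ : T ⊔ R = R ⊔ AA c d :=
    le_antisymm (sup_le hTR le_sup_left) (sup_le le_sup_right hA)
  have hrel : R.relIndex T = p * q := by
    have h1 : R.relIndex T = R.relIndex (T ⊔ R) := by
      rw [← Subgroup.relIndex_subgroupOf hTN,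
        ← Subgroup.relIndex_subgroupOf (sup_le hTN Subgroup.le_normalizer),
        Subgroup.subgroupOf_sup hTN Subgroup.le_normalizer, Subgroup.relIndex_sup_right]
    rw [h1, hTRΓ]
    have h2 := (R.subgroupOf (R ⊔ AA c d)).card_mul_index
    rw [Cfsg.Agent.Lib.Helper30SZ.card_subgroupOf_of_le le_sup_left, hΓ] at h2
    exact Nat.eq_of_mul_eq_mul_left Nat.card_pos h2
  haveI hnorm : (R.subgroupOf T).Normal := Subgroup.normal_subgroupOf_of_le_normalizer hTN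
  have hidx : (R.subgroupOf T).index = p * q := hrel
  have hcopT : (Nat.card (R.subgroupOf T)).Coprime (R.subgroupOf T).index := by
    rw [hidx]
    have hdvd : Nat.card (R.subgroupOf T) ∣ Nat.card R := by
      rw [← Subgroup.inf_subgroupOf_right,
        Cfsg.Agent.Lib.Helper30SZ.card_subgroupOf_of_le inf_le_right]
      exact Subgroup.card_dvd_of_le inf_le_left
    exact Nat.Coprime.coprime_dvd_left hdvd admR.cop
  obtain ⟨H, hH⟩ := Subgroup.exists_right_complement'_of_coprime hcopT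
  have hHcard : Nat.card H = p * q := by
    rw [← hidx]; exact hH.symm.index_eq_card.symm
  have hA1card : Nat.card (H.map T.subtype) = Nat.card (AA c d) := by
    rw [Subgroup.card_map_of_injective T.subtype_injective, hHcard, hcardA]
  have hA1T : H.map T.subtype ≤ T := Subgroup.map_subtype_le H
  obtain ⟨n, hnR, hn⟩ := Cfsg.Agent.Lib.Helper30SZ.sz_conj hAR hcop (Or.inl (solvable_AA fg))
    (hA1T.trans hTR) hA1card
  have hcA : c ∈ AA c d := (le_sup_left : Subgroup.zpowers c ≤ _) (Subgroup.mem_zpowers c)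
  have hdA : d ∈ AA c d := (le_sup_right : Subgroup.zpowers d ≤ _) (Subgroup.mem_zpowers d)
  have hmem : ∀ a ∈ AA c d, n * a * n⁻¹ ∈ kerQR S K := by
    intro a ha
    apply hT
    apply hA1T
    rw [hn]
    have : n⁻¹ * (n * a * n⁻¹) * n = a := by group
    rw [this]; exact ha
  have hnS : n ∈ Subgroup.normalizer (S : Set X) := RS hnR
  have hnS' : n⁻¹ ∈ Subgroup.normalizer (S : Set X) := inv_mem hnS
  have hker : ∀ a ∈ AA c d, a ∈ kerQR S (cj n⁻¹ K) := by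
    intro a ha
    rw [kerQR_cj hnS', inv_inv]
    exact hmem a ha
  have hK' : cj n⁻¹ K ≤ S := by
    intro y hy
    rw [mem_cj, inv_inv] at hy
    exact (Subgroup.mem_normalizer_iff.mp hnS y).mpr (hK hy)
  have hSK' : S ≤ Subgroup.normalizer ((cj n⁻¹ K : Subgroup X) : Set X) := by
    intro u hu
    rw [normalizer_cj, mem_cj, inv_inv]
    exact hSK ((Subgroup.mem_normalizer_iff.mp hnS u).mp hu)
  have hfin := normK fg admS hK' hSK' (hker c hcA) (hker d hdA)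
  intro u hu
  have h1 : n⁻¹ * u * n ∈ S := by
    have := (Subgroup.mem_normalizer_iff.mp hnS' u).mp hu
    rwa [inv_inv] at this
  have h2 := hfin h1
  rw [mem_cj, inv_inv] at h2
  have h3 : n * (n⁻¹ * u * n) * n⁻¹ = u := by group
  rwa [h3] at h2

end Cfsg.Agent.Lib.H82PQGam
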