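import Mathlib
import Cfsg.Agent.Lib.H82PQDefs
import Cfsg.Agent.Lib.H82PQAGa
import Cfsg.Agent.Lib.H82PQAGb
import Cfsg.Agent.Lib.H82PQAGc
import Cfsg.Agent.Lib.H82PQAGd
import Cfsg.Agent.Lib.H82PQKQ

set_option autoImplicit false
set_option linter.unusedSectionVars false

/-! Project 4306 (S4306), piece `L4` (40m).
 `M = cm R d ⊔ cm R d'` (`d' = k*d*k⁻¹`), `M ≤ R`.  Every `a ∈ N(R)` with `a*x*a⁻¹*x⁻¹ ∈ M` for all `x ∈ R` normalises `M` (`a*m*a⁻¹ = (a*m*a⁻¹*m⁻¹)*m`, finite group: `Helper66Basic.mem_normalizer_of_conj_mem`), so `d, d' ∈ kerQR R M`.  `AGc.c_mem_closure`: `c ∈ zpowers d ⊔ zpowers d' ≤ kerQR R M`.  `KQ.cm_le_of_mem`: `R = cm R c ≤ M`. -/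
namespace Cfsg.Agent.Lib.H82PQL4
open Cfsg.Agent.Lib.Helper66Fpf Cfsg.Agent.Lib.Helper66Fpf2 Cfsg.Agent.Lib.Helper66Ward2
  Cfsg.Agent.Lib.Helper66S3a Cfsg.Agent.Lib.Helper66S3b Cfsg.Agent.Lib.Helper66S3c
  Cfsg.Agent.Lib.Helper40Sylow Cfsg.Agent.Lib.H92GREStep1 Cfsg.Agent.Lib.H82PQDefs
open Cfsg.Agent.Lib.H82PQAGa Cfsg.Agent.Lib.H82PQAGb Cfsg.Agent.Lib.H82PQAGc Cfsg.Agent.Lib.H82PQAGd Cfsg.Agent.Lib.H82PQKQ
open scoped commutatorElement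
variable {V : Type*} [CommGroup V] [Finite V] {X : Type*} [Group X] [Finite X] [MulDistribMulAction X V]
variable {p q t s r l : ℕ} {c d g : X} {S R Z K Q E Zt D : Subgroup X}
theorem l4 (fg : FG p q c d) (admR : Ad p q c d R) (hRc : cm R c = R) {k : X} (hk : k ∈ Subgroup.zpowers c)
    (hk1 : k ≠ 1) : cm R d ⊔ cm R (k * d * k⁻¹) = R := by
  have hkN : k ∈ Subgroup.normalizer (R : Set X) := (Subgroup.zpowers_le.2 admR.hc) hk
  have hd'N : k * d * k⁻¹ ∈ Subgroup.normalizer (R : Set X) :=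
    mul_mem (mul_mem hkN admR.hd) (inv_mem hkN)
  have hMR : cm R d ⊔ cm R (k * d * k⁻¹) ≤ R :=
    sup_le (cm_le_self admR.hd) (cm_le_self hd'N)
  have key : ∀ a : X, a ∈ Subgroup.normalizer (R : Set X) →
      cm R a ≤ cm R d ⊔ cm R (k * d * k⁻¹) → a ∈ kerQR R (cm R d ⊔ cm R (k * d * k⁻¹)) := by
    intro a haN hle
    have h1 : ∀ x ∈ R, a * x * a⁻¹ * x⁻¹ ∈ cm R d ⊔ cm R (k * d * k⁻¹) := by
      intro x hx
      apply hle
      unfold cm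
      rw [Subgroup.commutator_comm]
      exact Subgroup.commutator_mem_commutator (Subgroup.mem_zpowers a) hx
    refine ⟨haN, ?_, h1⟩
    apply Cfsg.Agent.Lib.Helper66Basic.mem_normalizer_of_conj_mem
    intro m hm
    have e : a * m * a⁻¹ = (a * m * a⁻¹ * m⁻¹) * m := by group
    rw [e]
    exact mul_mem (h1 m (hMR hm)) hm
  have hc : c ∈ kerQR R (cm R d ⊔ cm R (k * d * k⁻¹)) := by
    have h2 : Subgroup.zpowers d ⊔ Subgroup.zpowers (k * d * k⁻¹)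
        ≤ kerQR R (cm R d ⊔ cm R (k * d * k⁻¹)) :=
      sup_le (Subgroup.zpowers_le.2 (key d admR.hd le_sup_left))
        (Subgroup.zpowers_le.2 (key _ hd'N le_sup_right))
    exact h2 (c_mem_closure fg hk hk1)
  apply le_antisymm hMR
  have := cm_le_of_mem hc
  rwa [hRc] at this

end Cfsg.Agent.Lib.H82PQL4
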