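import Mathlib
import Cfsg.Agent.Lib.H82PQDefs
import Cfsg.Agent.Lib.H82PQAGa
import Cfsg.Agent.Lib.H82PQAGb
import Cfsg.Agent.Lib.H82PQAGc
import Cfsg.Agent.Lib.H82PQAGd
import Cfsg.Agent.Lib.H82PQKQ
import Cfsg.Agent.Lib.H82PQBas1
import Cfsg.Agent.Lib.H82PQL4
import Cfsg.Agent.S0055

set_option autoImplicit false
set_option linter.unusedSectionVars false

/-! Project 4306 (S4306), piece `L5` (75m).
 `S` abelian, `R₂ = cm R d`, `u ∈ S` centralised by `R₂` and `d`.  (1) `N = ∏ k : zpowers c, k*u*k⁻¹` (product in the abelian `S`; work in the `CommGroup ↥S` or use `Finset.noncommProd`) is fixed by `c` (reindex) and by `d` (`d*(k*u*k⁻¹)*d⁻¹ = (d k d⁻¹) u (d k d⁻¹)⁻¹`, reindex by conjugation), so `N = 1` (`h.admS.fpf`).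
(2) `P v = ∏ y : R₂, y*v*y⁻¹` is an endomorphism of `S`; `P v` is centralised by `R₂`; `P u = u ^ |R₂|`.  (3) For `k ≠ 1`: `k*u*k⁻¹` is centralised by `cj k R₂ = cm R (k*d*k⁻¹)` (`KQ.cj_cm`); the conjugation actions of two elements of `R` on `S` commute (`Bas1.RR`); so `P (k*u*k⁻¹)` is centralised by `R₂ ⊔ cm R (k*d*k⁻¹) = R` (`L4.l4`),
and `S ⊓ centralizer R = ⊥` (`Cfsg.Agent.S0055.result R S` + `Bas1.comm_eq`): `P (k*u*k⁻¹) = 1`.  (4) `1 = P N = ∏ k, P (k*u*k⁻¹) = P u = u ^ |R₂|`, and `|R₂|` is prime to `|S|`: `u = 1`. -/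
namespace Cfsg.Agent.Lib.H82PQL5
open Cfsg.Agent.Lib.Helper66Fpf Cfsg.Agent.Lib.Helper66Fpf2 Cfsg.Agent.Lib.Helper66Ward2
  Cfsg.Agent.Lib.Helper66S3a Cfsg.Agent.Lib.Helper66S3b Cfsg.Agent.Lib.Helper66S3c
  Cfsg.Agent.Lib.Helper40Sylow Cfsg.Agent.Lib.H92GREStep1 Cfsg.Agent.Lib.H82PQDefs
open Cfsg.Agent.Lib.H82PQAGa Cfsg.Agent.Lib.H82PQAGb Cfsg.Agent.Lib.H82PQAGc Cfsg.Agent.Lib.H82PQAGd Cfsg.Agent.Lib.H82PQKQ Cfsg.Agent.Lib.H82PQBas1 Cfsg.Agent.Lib.H82PQL4
open scoped commutatorElement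
variable {V : Type*} [CommGroup V] [Finite V] {X : Type*} [Group X] [Finite X] [MulDistribMulAction X V]
variable {p q t s r l : ℕ} {c d g : X} {S R Z K Q E Zt D : Subgroup X}
theorem abs_norm {A Γ : Type*} [CommGroup A] [Group Γ] [MulDistribMulAction Γ A]
    (C B : Subgroup Γ) [Finite C] [Finite B] (d : Γ) (u : A)
    (hfix : ∀ v : A, (∀ k ∈ C, k • v = v) → d • v = v → v = 1)
    (hdC : ∀ k ∈ C, d * k * d⁻¹ ∈ C)
    (hdu : d • u = u)
    (hBu : ∀ y ∈ B, y • u = u)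
    (hkill : ∀ k ∈ C, k ≠ 1 → ∀ v : A, (∀ y ∈ B, y • v = v) →
      (∀ y ∈ B, (k * y * k⁻¹) • v = v) → v = 1)
    (hcomm : ∀ k ∈ C, ∀ y ∈ B, ∀ z ∈ B, ∀ v : A, (k * z * k⁻¹) • y • v = y • (k * z * k⁻¹) • v) :
    u ^ Nat.card B = 1 := by
  classical
  have := Fintype.ofFinite C
  have := Fintype.ofFinite B
  -- the norm
  have hN : (∏ k : C, (k : Γ) • u) = 1 := by
    apply hfix
    · intro k0 hk0
      rw [Finset.smul_prod']
      have := Equiv.prod_comp (Equiv.mulLeft (⟨k0, hk0⟩ : C)) (fun k : C => (k : Γ) • u)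
      rw [← this]
      apply Finset.prod_congr rfl
      intro k _
      rw [smul_smul]
      rfl
    · rw [Finset.smul_prod']
      let e : C → C := fun k => ⟨d * k * d⁻¹, hdC k k.2⟩
      have he : Function.Bijective e := by
        rw [← Finite.injective_iff_bijective]
        intro a b hab
        have : d * (a : Γ) * d⁻¹ = d * b * d⁻¹ := congrArg Subtype.val hab
        apply Subtype.ext
        simpa using this
      rw [← he.prod_comp (fun k : C => (k : Γ) • u)]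
      apply Finset.prod_congr rfl
      intro k _
      show d • (k : Γ) • u = (d * k * d⁻¹) • u
      conv_rhs => rw [← hdu]
      rw [smul_smul, smul_smul]
      congr 1
      group
  -- the averaging endomorphism
  let P : A →* A := ∏ y : B, MulDistribMulAction.toMonoidHom A (y : Γ)
  have hP : ∀ v : A, P v = ∏ y : B, (y : Γ) • v := by
    intro v
    simp only [P, MonoidHom.finsetProd_apply]
    rfl
  have hPB : ∀ v : A, ∀ y0 ∈ B, y0 • P v = P v := by
    intro v y0 hy0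
    rw [hP, Finset.smul_prod']
    have := Equiv.prod_comp (Equiv.mulLeft (⟨y0, hy0⟩ : B)) (fun k : B => (k : Γ) • v)
    rw [← this]
    apply Finset.prod_congr rfl
    intro k _
    rw [smul_smul]
    rfl
  have hPk : ∀ k : C, k ≠ 1 → P ((k : Γ) • u) = 1 := by
    intro k hk
    apply hkill k k.2 (fun h => hk (Subtype.ext h)) _ (hPB _)
    intro z hz
    rw [hP, Finset.smul_prod']
    apply Finset.prod_congr rfl
    intro y _
    rw [hcomm k k.2 y y.2 z hz]
    congr 1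
    rw [smul_smul]
    have : (k : Γ) * z * (k : Γ)⁻¹ * k = k * z := by group
    rw [this, ← smul_smul, hBu z hz]
  have h1 : P (∏ k : C, (k : Γ) • u) = P u := by
    rw [map_prod]
    rw [Finset.prod_eq_single (1 : C)]
    · simp
    · intro k _ hk
      exact hPk k hk
    · intro h; exact absurd (Finset.mem_univ _) h
  rw [hN, map_one, hP] at h1
  rw [h1]
  rw [Finset.prod_congr rfl (fun y _ => hBu y.1 y.2), Finset.prod_const, Finset.card_univ,
    Nat.card_eq_fintype_card]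


/-- the normaliser of `S` acts on `S` by conjugation -/
@[instance_reducible] def actS {Y : Type*} [Group Y] (S : Subgroup Y) :
    MulDistribMulAction (Subgroup.normalizer (S : Set Y)) S where
  smul a v := ⟨a * v * (a : Y)⁻¹, (Subgroup.mem_normalizer_iff.1 a.2 v).1 v.2⟩
  one_smul v := Subtype.ext (by show (1 : Y) * v * (1 : Y)⁻¹ = v; simp)
  mul_smul a b v := Subtype.ext (by
    show ((a : Y) * b) * v * ((a : Y) * b)⁻¹ = a * (b * v * (b : Y)⁻¹) * (a : Y)⁻¹
    group)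
  smul_mul a v w := Subtype.ext (by
    show (a : Y) * (v * w) * (a : Y)⁻¹ = (a * v * (a : Y)⁻¹) * (a * w * (a : Y)⁻¹)
    group)
  smul_one a := Subtype.ext (by show (a : Y) * 1 * (a : Y)⁻¹ = 1; simp)

theorem l5 (h : Cfg V p q t s r c d S R) (ab : ∀ x ∈ S, ∀ y ∈ S, x * y = y * x) (hRc : cm R c = R) :
    ∀ u ∈ S, (∀ y ∈ cm R d, y * u = u * y) → d * u = u * d → u = 1 := by
  intro u hu hR2 hdu
  have hcS : IsMulCommutative S := ⟨⟨fun a b => Subtype.ext (ab a a.2 b b.2)⟩⟩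
  let cg : CommGroup S :=
    { (inferInstance : Group S) with mul_comm := fun a b => Subtype.ext (ab a a.2 b b.2) }
  let _ := actS S
  have hsm : ∀ (a : Subgroup.normalizer (S : Set X)) (v : S), ((a • v : S) : X) = a * v * (a : X)⁻¹ :=
    fun _ _ => rfl
  have hR2R : cm R d ≤ R := cm_le_self h.admR.hd
  have hR2N : cm R d ≤ Subgroup.normalizer (S : Set X) := hR2R.trans h.RS
  have hbot : S ⊓ Subgroup.centralizer (R : Set X) = ⊥ := by
    have h1 := (Cfsg.Agent.S0055.result R S h.RS (copRS h)).1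
    rw [comm_eq h] at h1
    rwa [inf_eq_left.2 inf_le_left] at h1
  have key := @abs_norm S (Subgroup.normalizer (S : Set X)) cg _ (actS S)
    ((Subgroup.zpowers c).subgroupOf (Subgroup.normalizer (S : Set X)))
    ((cm R d).subgroupOf (Subgroup.normalizer (S : Set X))) _ _ ⟨d, h.admS.hd⟩ ⟨u, hu⟩
    ?_ ?_ ?_ ?_ ?_ ?_
  · have h1 : orderOf (⟨u, hu⟩ : S) ∣ Nat.card ((cm R d).subgroupOf (Subgroup.normalizer (S : Set X))) :=
      orderOf_dvd_of_pow_eq_one (show (⟨u, hu⟩ : S) ^ _ = 1 from key)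
    have h2 : orderOf (⟨u, hu⟩ : S) ∣ Nat.card S := orderOf_dvd_natCard _
    have h3 : Nat.card ((cm R d).subgroupOf (Subgroup.normalizer (S : Set X))) ∣ Nat.card R := by
      rw [Nat.card_congr (Subgroup.subgroupOfEquivOfLe hR2N).toEquiv]
      exact Subgroup.card_dvd_of_le hR2R
    have h4 : orderOf (⟨u, hu⟩ : S) = 1 :=
      Nat.dvd_one.1 ((copRS h) ▸ Nat.dvd_gcd (h1.trans h3) h2)
    have h5 := orderOf_eq_one_iff.1 h4
    exact congrArg Subtype.val h5
  · intro v hv1 hv2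
    apply Subtype.ext
    apply h.admS.fpf v v.2
    · have := congrArg Subtype.val (hv1 ⟨c, h.admS.hc⟩ (Subgroup.mem_subgroupOf.2 (Subgroup.mem_zpowers c)))
      rw [hsm] at this
      exact mul_inv_eq_iff_eq_mul.1 this
    · have := congrArg Subtype.val hv2
      rw [hsm] at this
      exact mul_inv_eq_iff_eq_mul.1 this
  · intro k hk
    rw [Subgroup.mem_subgroupOf] at hk ⊢
    exact conj_mem_zp h.pq.fg (Subgroup.mem_zpowers d) hk
  · apply Subtype.ext
    rw [hsm]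
    exact mul_inv_eq_iff_eq_mul.2 hdu
  · intro y hy
    apply Subtype.ext
    rw [hsm]
    exact mul_inv_eq_iff_eq_mul.2 (hR2 y (Subgroup.mem_subgroupOf.1 hy))
  · intro k hk hk1 v hv1 hv2
    rw [Subgroup.mem_subgroupOf] at hk
    have hk1' : (k : X) ≠ 1 := fun h0 => hk1 (Subtype.ext h0)
    have hkR : (k : X) ∈ Subgroup.normalizer (R : Set X) := (Subgroup.zpowers_le.2 h.admR.hc) hk
    have hl4 := l4 h.pq.fg h.admR hRc hk hk1'
    have ha : cm R d ≤ Subgroup.centralizer ({(v : X)} : Set X) := by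
      intro y hy
      rw [Subgroup.mem_centralizer_singleton_iff]
      have := congrArg Subtype.val (hv1 ⟨y, hR2N hy⟩ (Subgroup.mem_subgroupOf.2 hy))
      rw [hsm] at this
      exact mul_inv_eq_iff_eq_mul.1 this
    have hb : cm R ((k : X) * d * (k : X)⁻¹) ≤ Subgroup.centralizer ({(v : X)} : Set X) := by
      rw [← cj_cm hkR]
      rintro _ ⟨y, hy, rfl⟩
      rw [Subgroup.mem_centralizer_singleton_iff]
      have := congrArg Subtype.val (hv2 ⟨y, hR2N hy⟩ (Subgroup.mem_subgroupOf.2 hy))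
      rw [hsm] at this
      exact mul_inv_eq_iff_eq_mul.1 this
    have hR : R ≤ Subgroup.centralizer ({(v : X)} : Set X) := by
      rw [← hl4]; exact sup_le ha hb
    have hv : (v : X) ∈ S ⊓ Subgroup.centralizer (R : Set X) := by
      refine Subgroup.mem_inf.2 ⟨v.2, ?_⟩
      rw [Subgroup.mem_centralizer_iff]
      intro x hx
      exact Subgroup.mem_centralizer_singleton_iff.1 (hR hx)
    rw [hbot, Subgroup.mem_bot] at hv
    exact Subtype.ext hv
  · intro k hk y hy z hz v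
    rw [Subgroup.mem_subgroupOf] at hk hy hz
    have hkR : (k : X) ∈ Subgroup.normalizer (R : Set X) := (Subgroup.zpowers_le.2 h.admR.hc) hk
    have haR : (k : X) * z * (k : X)⁻¹ ∈ R := (Subgroup.mem_normalizer_iff.1 hkR _).1 (hR2R hz)
    have hbR : (y : X) ∈ R := hR2R hy
    apply Subtype.ext
    rw [hsm, hsm, hsm, hsm]
    show ((k : X) * z * (k : X)⁻¹) * (y * v * (y : X)⁻¹) * ((k : X) * z * (k : X)⁻¹)⁻¹
      = y * (((k : X) * z * (k : X)⁻¹) * v * ((k : X) * z * (k : X)⁻¹)⁻¹) * (y : X)⁻¹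
    generalize (k : X) * z * (k : X)⁻¹ = a at haR
    have hx : ⁅a⁻¹, (y : X)⁻¹⁆ ∈ ⁅R, R⁆ :=
      Subgroup.commutator_mem_commutator (inv_mem haR) (inv_mem hbR)
    have hxv := RR h _ hx v v.2
    have e1 : a * (y * v * (y : X)⁻¹) * a⁻¹
        = y * (a * (⁅a⁻¹, (y : X)⁻¹⁆ * v * ⁅a⁻¹, (y : X)⁻¹⁆⁻¹) * a⁻¹) * (y : X)⁻¹ := by
      rw [commutatorElement_def]; group
    rw [e1, hxv, mul_inv_cancel_right]

end Cfsg.Agent.Lib.H82PQL5
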