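import Mathlib
import Cfsg.Agent.Lib.H82PQDefs

set_option autoImplicit false
set_option linter.unusedSectionVars false

/-! Project 4306 (S4306), piece `SolB` (30m).
 `D ⊔ zpowers g`, `g ∈ N(D)`: every element is `x * j` (`Helper30SZ.mem_sup_iff`), so the cardinality divides.. (`Subgroup.card_dvd..`: `|D ⊔ B| * |D ⊓ B| = |D| |B|`; or `D` is normal in the join with cyclic quotient).  Solvable: `D` nilpotent normal, quotient cyclic (`solvable_of_ker_le_range`, or `Helper30SZ` lemmas on extensions). -/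
namespace Cfsg.Agent.Lib.H82PQSolB
open Cfsg.Agent.Lib.Helper66Fpf Cfsg.Agent.Lib.Helper66Fpf2 Cfsg.Agent.Lib.Helper66Ward2
  Cfsg.Agent.Lib.Helper66S3a Cfsg.Agent.Lib.Helper66S3b Cfsg.Agent.Lib.Helper66S3c
  Cfsg.Agent.Lib.Helper40Sylow Cfsg.Agent.Lib.H92GREStep1 Cfsg.Agent.Lib.H82PQDefs
open scoped commutatorElement
variable {V : Type*} [CommGroup V] [Finite V] {X : Type*} [Group X] [Finite X] [MulDistribMulAction X V]
variable {p q t s r l : ℕ} {c d g : X} {S R Z K Q E Zt D : Subgroup X}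

theorem normal_sub (hg : g ∈ Subgroup.normalizer (D : Set X)) :
    (D.subgroupOf (D ⊔ Subgroup.zpowers g)).Normal := by
  have hle : D ⊔ Subgroup.zpowers g ≤ Subgroup.normalizer (D : Set X) :=
    sup_le Subgroup.le_normalizer (Subgroup.zpowers_le.mpr hg)
  exact Subgroup.normal_subgroupOf_of_le_normalizer hle

/-- the map from `zpowers g` onto the quotient of the join by `D` -/
theorem exists_surj (hg : g ∈ Subgroup.normalizer (D : Set X))
    [hn : (D.subgroupOf (D ⊔ Subgroup.zpowers g)).Normal] :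
    ∃ f : Subgroup.zpowers g →* ((D ⊔ Subgroup.zpowers g : Subgroup X) ⧸
      D.subgroupOf (D ⊔ Subgroup.zpowers g)), Function.Surjective f := by
  have hB : Subgroup.zpowers g ≤ Subgroup.normalizer (D : Set X) := Subgroup.zpowers_le.mpr hg
  refine ⟨(QuotientGroup.mk' _).comp (Subgroup.inclusion le_sup_right), ?_⟩
  intro y
  obtain ⟨⟨y, hy⟩, rfl⟩ := QuotientGroup.mk_surjective y
  obtain ⟨x, hx, j, hj, rfl⟩ := (Cfsg.Agent.Lib.Helper30SZ.mem_sup_iff hB).1 hy
  refine ⟨⟨j, hj⟩, ?_⟩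
  show (QuotientGroup.mk _ : _ ⧸ D.subgroupOf (D ⊔ Subgroup.zpowers g)) = QuotientGroup.mk _
  rw [QuotientGroup.eq, Subgroup.mem_subgroupOf]
  show j⁻¹ * (x * j) ∈ D
  have h1 := (Subgroup.mem_normalizer_iff.1 (inv_mem (hB hj)) x).1 hx
  have e : j⁻¹ * x * j⁻¹⁻¹ = j⁻¹ * (x * j) := by group
  rwa [e] at h1

theorem sol_sup (rp : r.Prime) (pD : IsPGroup r D) (hg : g ∈ Subgroup.normalizer (D : Set X)) :
    Group.IsSolvable (D ⊔ Subgroup.zpowers g : Subgroup X) := by
  have := normal_sub hg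
  have : Fact r.Prime := ⟨rp⟩
  obtain ⟨f, hf⟩ := exists_surj hg
  have : Group.IsSolvable (Subgroup.zpowers g) := by
    apply Group.isSolvable_of_comm
    rintro ⟨_, ⟨m, rfl⟩⟩ ⟨_, ⟨n, rfl⟩⟩
    apply Subtype.ext
    show g ^ m * g ^ n = g ^ n * g ^ m
    rw [← zpow_add, ← zpow_add, add_comm]
  have h2 : Group.IsSolvable ((D ⊔ Subgroup.zpowers g : Subgroup X) ⧸
      D.subgroupOf (D ⊔ Subgroup.zpowers g)) := Group.isSolvable_of_surjective hf
  have pD' : IsPGroup r (D.subgroupOf (D ⊔ Subgroup.zpowers g)) :=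
    pD.comap_of_injective _ (Subgroup.subtype_injective _)
  have : Group.IsNilpotent (D.subgroupOf (D ⊔ Subgroup.zpowers g)) := pD'.isNilpotent
  apply Group.isSolvable_of_ker_le_range (D.subgroupOf (D ⊔ Subgroup.zpowers g)).subtype
    (QuotientGroup.mk' (D.subgroupOf (D ⊔ Subgroup.zpowers g)))
  rw [QuotientGroup.ker_mk', Subgroup.range_subtype]

theorem card_sup_dvd (hg : g ∈ Subgroup.normalizer (D : Set X)) :
    Nat.card (D ⊔ Subgroup.zpowers g : Subgroup X) ∣ Nat.card D * Nat.card (Subgroup.zpowers g) := by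
  have := normal_sub hg
  obtain ⟨f, hf⟩ := exists_surj hg
  have h1 := Subgroup.card_dvd_of_surjective f hf
  have h2 := Subgroup.card_eq_card_quotient_mul_card_subgroup (D.subgroupOf (D ⊔ Subgroup.zpowers g))
  have h3 : Nat.card (D.subgroupOf (D ⊔ Subgroup.zpowers g)) = Nat.card D :=
    Cfsg.Agent.Lib.Helper30SZ.card_subgroupOf_of_le le_sup_left
  rw [h2, h3, mul_comm]
  exact Nat.mul_dvd_mul_left _ h1

end Cfsg.Agent.Lib.H82PQSolB
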