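import Mathlib
import Cfsg.Agent.Lib.H82PQDefs
import Cfsg.Agent.Lib.H82PQAGa
import Cfsg.Agent.Lib.H82PQAGb
import Cfsg.Agent.Lib.H82PQAGc
import Cfsg.Agent.Lib.H82PQAGd
import Cfsg.Agent.Lib.H82PQKT
import Cfsg.Agent.Lib.H82PQKQ
import Cfsg.Agent.Lib.H82PQBas1
import Cfsg.Agent.Lib.H82PQDich
import Cfsg.Agent.Lib.H82PQSolB
import Cfsg.Agent.Lib.H82PQGam
import Cfsg.Agent.Lib.H82PQL5

set_option autoImplicit false
set_option linter.unusedSectionVars false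

/-! Project 4306 (S4306), piece `BB`.
 `S` abelian, `R = [R,c]`. -/
namespace Cfsg.Agent.Lib.H82PQBB
open Cfsg.Agent.Lib.Helper66Fpf Cfsg.Agent.Lib.Helper66Fpf2 Cfsg.Agent.Lib.Helper66Ward2
  Cfsg.Agent.Lib.Helper66S3a Cfsg.Agent.Lib.Helper66S3b Cfsg.Agent.Lib.Helper66S3c
  Cfsg.Agent.Lib.Helper40Sylow Cfsg.Agent.Lib.H92GREStep1 Cfsg.Agent.Lib.H82PQDefs
open Cfsg.Agent.Lib.H82PQAGa Cfsg.Agent.Lib.H82PQAGb Cfsg.Agent.Lib.H82PQAGc Cfsg.Agent.Lib.H82PQAGd Cfsg.Agent.Lib.H82PQKT Cfsg.Agent.Lib.H82PQKQ Cfsg.Agent.Lib.H82PQBas1 Cfsg.Agent.Lib.H82PQDich Cfsg.Agent.Lib.H82PQSolB Cfsg.Agent.Lib.H82PQGam Cfsg.Agent.Lib.H82PQL5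
open scoped commutatorElement
variable {V : Type*} [CommGroup V] [Finite V] {X : Type*} [Group X] [Finite X] [MulDistribMulAction X V]
variable {p q t s r l : ℕ} {c d g : X} {S R Z K Q E Zt D : Subgroup X}

/-- an abelian group normalises its subgroups -/
theorem le_normalizer_of_ab (ab : ∀ x ∈ S, ∀ y ∈ S, x * y = y * x) (hK : K ≤ S) :
    S ≤ Subgroup.normalizer (K : Set X) := by
  intro u hu
  rw [Subgroup.mem_normalizer_iff]
  intro k
  constructor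
  · intro hk
    rw [ab u hu k (hK hk), mul_assoc, mul_inv_cancel, mul_one]
    exact hk
  · intro hk
    have h1 : u * k * u⁻¹ ∈ S := hK hk
    have h2 : k ∈ S := by
      have := S.mul_mem (S.mul_mem (S.inv_mem hu) h1) hu
      simpa [mul_assoc] using this
    rw [ab u hu k h2, mul_assoc, mul_inv_cancel, mul_one] at hk
    exact hk

theorem abel_b [FaithfulSMul X V] (h : Cfg V p q t s r c d S R) (ab : ∀ x ∈ S, ∀ y ∈ S, x * y = y * x)
    (hRc : cm R c = R) : False := by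
  obtain ⟨K, mx⟩ := exists_maxK (V := V) (S_ne h)
  have hlt : K < S := mx.lt (copVS h)
  -- Step 1
  have step1 : ∃ x ∈ R, c ∉ Subgroup.normalizer ((cj x K : Subgroup X) : Set X) ∧
      ∃ k ∈ Subgroup.zpowers c, k * d * k⁻¹ ∈ kerQR S (cj x K) := by
    by_contra hcon
    have hall : ∀ x ∈ R, x⁻¹ * c * x ∈ kerQR S K := by
      intro x hx
      have hxS : x ∈ Subgroup.normalizer (S : Set X) := h.RS hx
      rcases dich h.pq ab h.admS (copVS h) (mx.cj hxS) with ⟨hα, -⟩ | ⟨hcN, k, hk, hkd, -⟩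
      · rwa [kerQR_cj hxS] at hα
      · exact absurd ⟨x, hx, hcN, k, hk, hkd⟩ hcon
    have hc : c ∈ kerQR S K := by
      have := hall 1 (Subgroup.one_mem _)
      simpa using this
    have hR : R ≤ kerQR S K := by
      rw [← hRc]
      apply H82PQKQ.cm_le hc
      intro x hx
      have := hall x⁻¹ (Subgroup.inv_mem _ hx)
      rwa [inv_inv] at this
    have := H82PQKQ.comm_le hR
    rw [comm_eq h] at this
    exact absurd hlt (not_lt_of_ge this)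
  obtain ⟨x₁, hx₁, -, k₀, hk₀, hd₀⟩ := step1
  have mx₁ := mx.cj (h.RS hx₁)
  set K₁ := cj x₁ K with hK₁
  set d₀ := k₀ * d * k₀⁻¹ with hd₀def
  have h' : Cfg V p q t s r c d₀ S R := Cfg.conj h hk₀
  have hlt₁ : K₁ < S := mx₁.lt (copVS h)
  have hK₁S : K₁ ≤ S := mx₁.le
  have hSK₁ : S ≤ Subgroup.normalizer (K₁ : Set X) := le_normalizer_of_ab ab hK₁S
  have hnot : ¬ S ≤ K₁ := fun hle => absurd hlt₁ (not_lt_of_ge hle)
  have fg' := h'.pq.fg
  have hcA : c ∈ AA c d₀ := (le_sup_left : Subgroup.zpowers c ≤ AA c d₀) (Subgroup.mem_zpowers c)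
  have hdA : d₀ ∈ AA c d₀ := (le_sup_right : Subgroup.zpowers d₀ ≤ AA c d₀) (Subgroup.mem_zpowers d₀)
  -- Step 2
  have key : ∀ x ∈ R, x⁻¹ * d₀ * x ∈ kerQR S K₁ := by
    intro x hx
    have hxS : x ∈ Subgroup.normalizer (S : Set X) := h.RS hx
    have hxRA : x ∈ R ⊔ AA c d₀ := (le_sup_left : R ≤ R ⊔ AA c d₀) hx
    rcases dich h'.pq ab h'.admS (copVS h) (mx₁.cj hxS) with ⟨hα, -⟩ | ⟨-, k, hk, hkd, -⟩
    · exfalso
      rw [kerQR_cj hxS] at hα
      apply hnot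
      refine gam fg' h'.admS h'.admR h.rp h.pR h.RS hK₁S hSK₁
        (Subgroup.zpowers d₀ ⊔ Subgroup.zpowers (x⁻¹ * c * x)) ?_ ?_ ?_
      · exact sup_le (Subgroup.zpowers_le.2 hd₀) (Subgroup.zpowers_le.2 hα)
      · refine sup_le (Subgroup.zpowers_le.2 ((le_sup_right : AA c d₀ ≤ R ⊔ AA c d₀) hdA))
          (Subgroup.zpowers_le.2 ?_)
        exact Subgroup.mul_mem _ (Subgroup.mul_mem _ (Subgroup.inv_mem _ hxRA)
          ((le_sup_right : AA c d₀ ≤ R ⊔ AA c d₀) hcA)) hxRA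
      · set T := Subgroup.zpowers d₀ ⊔ Subgroup.zpowers (x⁻¹ * c * x) with hT
        have hxT : x ∈ T ⊔ R := (le_sup_right : R ≤ T ⊔ R) hx
        have h1 : x⁻¹ * c * x ∈ T ⊔ R := (le_sup_left : T ≤ T ⊔ R)
          ((le_sup_right : Subgroup.zpowers (x⁻¹ * c * x) ≤ T) (Subgroup.mem_zpowers _))
        have h2 : d₀ ∈ T ⊔ R := (le_sup_left : T ≤ T ⊔ R)
          ((le_sup_left : Subgroup.zpowers d₀ ≤ T) (Subgroup.mem_zpowers _))
        have h3 : c ∈ T ⊔ R := by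
          have := Subgroup.mul_mem _ (Subgroup.mul_mem _ hxT h1) (Subgroup.inv_mem _ hxT)
          simpa [mul_assoc] using this
        exact sup_le (Subgroup.zpowers_le.2 h3) (Subgroup.zpowers_le.2 h2)
    · rw [kerQR_cj hxS] at hkd
      by_cases hk1 : k = 1
      · rw [hk1] at hkd
        simpa using hkd
      · exfalso
        apply hnot
        have hkA : k ∈ AA c d₀ := (le_sup_left : Subgroup.zpowers c ≤ AA c d₀) hk
        have hkdA : k * d₀ * k⁻¹ ∈ AA c d₀ :=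
          Subgroup.mul_mem _ (Subgroup.mul_mem _ hkA hdA) (Subgroup.inv_mem _ hkA)
        refine gam fg' h'.admS h'.admR h.rp h.pR h.RS hK₁S hSK₁
          (Subgroup.zpowers d₀ ⊔ Subgroup.zpowers (x⁻¹ * (k * d₀ * k⁻¹) * x)) ?_ ?_ ?_
        · exact sup_le (Subgroup.zpowers_le.2 hd₀) (Subgroup.zpowers_le.2 hkd)
        · refine sup_le (Subgroup.zpowers_le.2 ((le_sup_right : AA c d₀ ≤ R ⊔ AA c d₀) hdA))
            (Subgroup.zpowers_le.2 ?_)
          exact Subgroup.mul_mem _ (Subgroup.mul_mem _ (Subgroup.inv_mem _ hxRA)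
            ((le_sup_right : AA c d₀ ≤ R ⊔ AA c d₀) hkdA)) hxRA
        · set T := Subgroup.zpowers d₀ ⊔ Subgroup.zpowers (x⁻¹ * (k * d₀ * k⁻¹) * x) with hT
          have hxT : x ∈ T ⊔ R := (le_sup_right : R ≤ T ⊔ R) hx
          have h1 : x⁻¹ * (k * d₀ * k⁻¹) * x ∈ T ⊔ R := (le_sup_left : T ≤ T ⊔ R)
            ((le_sup_right : Subgroup.zpowers (x⁻¹ * (k * d₀ * k⁻¹) * x) ≤ T)
              (Subgroup.mem_zpowers _))
          have h2 : d₀ ∈ T ⊔ R := (le_sup_left : T ≤ T ⊔ R)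
            ((le_sup_left : Subgroup.zpowers d₀ ≤ T) (Subgroup.mem_zpowers _))
          have h3 : k * d₀ * k⁻¹ ∈ T ⊔ R := by
            have := Subgroup.mul_mem _ (Subgroup.mul_mem _ hxT h1) (Subgroup.inv_mem _ hxT)
            simpa [mul_assoc] using this
          have h4 : c ∈ T ⊔ R :=
            (sup_le (Subgroup.zpowers_le.2 h2) (Subgroup.zpowers_le.2 h3) :
              Subgroup.zpowers d₀ ⊔ Subgroup.zpowers (k * d₀ * k⁻¹) ≤ T ⊔ R)
              (c_mem_closure fg' hk hk1)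
          exact sup_le (Subgroup.zpowers_le.2 h4) (Subgroup.zpowers_le.2 h2)
  -- Step 3
  have hcmK : cm R d₀ ≤ kerQR S K₁ := by
    apply H82PQKQ.cm_le hd₀
    intro x hx
    have := key x⁻¹ (Subgroup.inv_mem _ hx)
    rwa [inv_inv] at this
  have hB : cm R d₀ ⊔ Subgroup.zpowers d₀ ≤ kerQR S K₁ := sup_le hcmK (Subgroup.zpowers_le.2 hd₀)
  have hd₀R : d₀ ∈ Subgroup.normalizer (R : Set X) := h'.admR.hd
  have hd₀cm : d₀ ∈ Subgroup.normalizer (cm R d₀ : Set X) :=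
    mem_normalizer_cm hd₀R (Subgroup.le_normalizer (Subgroup.mem_zpowers d₀))
  have hcmR : cm R d₀ ≤ R := cm_le_self hd₀R
  apply hnot
  refine le_of_ker (cm R d₀ ⊔ Subgroup.zpowers d₀) S K₁ (fun b hb => (hB hb).1) ?_
    (sol_sup h.rp (h.pR.to_le hcmR) hd₀cm) hK₁S hSK₁ hB ?_
  · refine Nat.Coprime.coprime_dvd_left (card_sup_dvd hd₀cm) ?_
    refine Nat.Coprime.mul_left ?_ (Ad.cop_d fg' h'.admS)
    exact Nat.Coprime.coprime_dvd_left (Subgroup.card_dvd_of_le hcmR) (copRS h)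
  · rintro u ⟨huS, huB⟩
    have hu : ∀ b ∈ cm R d₀ ⊔ Subgroup.zpowers d₀, b * u = u * b := fun b hb =>
      Subgroup.mem_centralizer_iff.1 huB b hb
    have : u = 1 := l5 h' ab hRc u huS
      (fun y hy => hu y ((le_sup_left : cm R d₀ ≤ cm R d₀ ⊔ Subgroup.zpowers d₀) hy))
      (hu d₀ ((le_sup_right : Subgroup.zpowers d₀ ≤ cm R d₀ ⊔ Subgroup.zpowers d₀)
        (Subgroup.mem_zpowers d₀)))
    rw [this]
    exact Subgroup.one_mem _

end Cfsg.Agent.Lib.H82PQBB
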