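import Mathlib
import Cfsg.Agent.Lib.H82PQDefs

set_option autoImplicit false
set_option linter.unusedSectionVars false

/-! Project 4306: restriction of subgroups of `X` to an invariant subgroup `W` of `V`. -/

namespace Cfsg.Agent.Lib.H82PQDefs2

open Cfsg.Agent.Lib.Helper66S3a

/-- the image in `MulAut W` of (the part stabilising `W` of) `Q` -/
def img {V : Type*} [CommGroup V] {X : Type*} [Group X] [MulDistribMulAction X V] (W : Subgroup V)
    (Q : Subgroup X) : Subgroup (MulAut W) := (Q.subgroupOf (stabW X W)).map (resW X W)

end Cfsg.Agent.Lib.H82PQDefs2
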