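import Mathlib
import Cfsg.Agent.Lib.H82PQDefs
import Cfsg.Agent.Lib.H82PQV3764

set_option autoImplicit false
set_option linter.unusedSectionVars false

/-! Project 4306 (S4306), piece `Br` (60m).
 Action form of `V3764.v3764`.  Work in `G = V ⋊[MulDistribMulAction.toMulAut X V] X` (finite), `X₀ = (zpowers g).map inr`, `Q₀ = Q.map inr`, `V₀ = range inl`.
`g ≠ 1` (else `gf` makes `V` trivial, faithfulness makes `X` trivial, against `card Zt = s`), so `card X₀ = l`.  `inr x * inl v * (inr x)⁻¹ = inl (x • v)`.  Faithfulness gives `hfaith` (an element of `range inr` centralising `range inl` is `1`; `X₀ ⊔ Q₀ ≤ range inr`).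
`commutator Q₀ = center Q₀` and `card (center Q₀) = s`: transport `⁅Q,Q⁆ = Zt`, `Z(Q) = Zt` along the isomorphism `Q ≃* Q₀`. -/
namespace Cfsg.Agent.Lib.H82PQBr
open Cfsg.Agent.Lib.Helper66Fpf Cfsg.Agent.Lib.Helper66Fpf2 Cfsg.Agent.Lib.Helper66Ward2
  Cfsg.Agent.Lib.Helper66S3a Cfsg.Agent.Lib.Helper66S3b Cfsg.Agent.Lib.Helper66S3c
  Cfsg.Agent.Lib.Helper40Sylow Cfsg.Agent.Lib.H92GREStep1 Cfsg.Agent.Lib.H82PQDefs
open Cfsg.Agent.Lib.H82PQV3764
open scoped commutatorElement
variable {V : Type*} [CommGroup V] [Finite V] {X : Type*} [Group X] [Finite X] [MulDistribMulAction X V]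
variable {p q t s r l : ℕ} {c d g : X} {S R Z K Q E Zt D : Subgroup X}
theorem br_aux {Y : Type*} [Group Y] (Q Zt : Subgroup Y) (hle : Zt ≤ Q) (hcomm : ⁅Q, Q⁆ = Zt)
    (hcen : ∀ u ∈ Q, (∀ v ∈ Q, u * v = v * u) → u ∈ Zt) (hcen' : ∀ x ∈ Zt, ∀ u ∈ Q, x * u = u * x) :
    (Subgroup.center ↥Q).map Q.subtype = Zt ∧ commutator ↥Q = Subgroup.center ↥Q := by
  have h1 : (Subgroup.center ↥Q).map Q.subtype = Zt := by
    ext x
    constructor
    · rintro ⟨y, hy, rfl⟩
      refine hcen y y.2 (fun v hv => ?_)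
      have h2 := (Subgroup.mem_center_iff.1 hy) ⟨v, hv⟩
      exact (congrArg Subtype.val h2).symm
    · intro hx
      refine ⟨⟨x, hle hx⟩, Subgroup.mem_center_iff.2 (fun v => Subtype.ext ?_), rfl⟩
      exact (hcen' x hx v v.2).symm
  refine ⟨h1, ?_⟩
  apply Subgroup.map_injective Q.subtype_injective
  rw [h1, Subgroup.map_subtype_commutator, hcomm]

theorem br [FaithfulSMul X V] (tp : t.Prime) (sp : s.Prime) (lp : l.Prime) (ts : t ≠ s) (tl : t ≠ l) (sl : s ≠ l)
    (expV : ∀ v : V, v ^ t = 1) (gl : g ^ l = 1) (gQ : g ∈ Subgroup.normalizer (Q : Set X)) (pQ : IsPGroup s Q)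
    (hle : Zt ≤ Q) (hcomm : ⁅Q, Q⁆ = Zt) (hcen : ∀ u ∈ Q, (∀ v ∈ Q, u * v = v * u) → u ∈ Zt) (hcen' : C2 Zt Q)
    (hcard : Nat.card Zt = s) (hfix : ∀ u ∈ Q, g * u = u * g → u ∈ Zt) (gZ : C1 g Zt)
    (gf : ∀ v : V, g • v = v → v = 1) : s = 2 ∧ ∃ n : ℕ, l = 2 ^ n + 1 ∧ Nat.card Q = 2 ^ (2 * n + 1) := by
  classical
  have hg1 : g ≠ 1 := by
    rintro rfl
    have hV1 : ∀ v : V, v = 1 := fun v => gf v (one_smul X v)
    have hX1 : ∀ x : X, x = 1 := fun x =>
      FaithfulSMul.eq_of_smul_eq_smul (α := V) (fun v => by rw [hV1 (x • v), hV1 ((1 : X) • v)])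
    have h1 : Zt = ⊥ := by
      rw [eq_bot_iff]
      intro x _
      exact Subgroup.mem_bot.2 (hX1 x)
    rw [h1, Subgroup.card_bot] at hcard
    exact sp.one_lt.ne hcard
  have : Fact l.Prime := ⟨lp⟩
  have hog : orderOf g = l := orderOf_eq_prime gl hg1
  let φ : X →* MulAut V := MulDistribMulAction.toMulAut X V
  have hfin : Finite (V ⋊[φ] X) := Finite.of_equiv _ SemidirectProduct.equivProd.symm
  let il : V →* V ⋊[φ] X := SemidirectProduct.inl
  let ir : X →* V ⋊[φ] X := SemidirectProduct.inr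
  have hil : Function.Injective il := SemidirectProduct.inl_injective
  have hir : Function.Injective ir := SemidirectProduct.inr_injective
  have hact : ∀ (x : X) (v : V), ir x * il v = il (x • v) * ir x := by
    intro x v
    have h1 : il (x • v) = ir x * il v * ir x⁻¹ := SemidirectProduct.inl_aut (φ := φ) x v
    rw [h1, map_inv, inv_mul_cancel_right]
  have hVn : (il.range).Normal := by
    have h1 : il.range = (SemidirectProduct.rightHom (φ := φ)).ker :=
      SemidirectProduct.range_inl_eq_ker_rightHom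
    rw [h1]
    infer_instance
  have hVtop : Subgroup.normalizer ((il.range : Subgroup (V ⋊[φ] X)) : Set (V ⋊[φ] X)) = ⊤ :=
    Subgroup.normalizer_eq_top_iff.2 hVn
  obtain ⟨hc1, hc2⟩ := br_aux (Q.map ir) (Zt.map ir) (Subgroup.map_mono hle)
    (by rw [← Subgroup.map_commutator, hcomm])
    (by
      rintro _ ⟨u, hu, rfl⟩ h1
      refine ⟨u, hcen u hu (fun v hv => ?_), rfl⟩
      apply hir
      rw [map_mul, map_mul]
      exact h1 _ ⟨v, hv, rfl⟩)
    (by
      rintro _ ⟨x, hx, rfl⟩ _ ⟨u, hu, rfl⟩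
      rw [← map_mul, ← map_mul, hcen' x hx u hu])
  have hres := v3764 (G := V ⋊[φ] X) tp sp lp ts tl sl ((Subgroup.zpowers g).map ir) (Q.map ir)
    il.range
    (by rw [Subgroup.card_map_of_injective hir, Nat.card_zpowers, hog])
    (pQ.map ir) hc2
    (by rw [← Subgroup.card_map_of_injective (Q.map ir).subtype_injective, hc1,
      Subgroup.card_map_of_injective hir, hcard])
    ((Subgroup.map_mono (Subgroup.zpowers_le.2 gQ)).trans (Subgroup.le_normalizer_map ir))
    (by
      rw [hc1]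
      ext y
      rw [Subgroup.mem_inf]
      constructor
      · rintro ⟨⟨u, hu, rfl⟩, h2⟩
        refine ⟨u, hfix u hu ?_, rfl⟩
        apply hir
        rw [map_mul, map_mul]
        exact Subgroup.mem_centralizer_iff.1 h2 _ ⟨g, Subgroup.mem_zpowers g, rfl⟩
      · rintro ⟨u, hu, rfl⟩
        refine ⟨⟨u, hle hu, rfl⟩, ?_⟩
        rw [Subgroup.mem_centralizer_iff]
        rintro _ ⟨x, ⟨k, rfl⟩, rfl⟩
        have h3 : Commute g u := gZ u hu
        have h4 : g ^ k * u = u * g ^ k := (h3.zpow_left k).eq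
        show ir (g ^ k) * ir u = ir u * ir (g ^ k)
        rw [← map_mul, ← map_mul, h4])
    ⟨⟨⟨by
        rintro ⟨_, ⟨v, rfl⟩⟩ ⟨_, ⟨w, rfl⟩⟩
        apply Subtype.ext
        show il v * il w = il w * il v
        rw [← map_mul, ← map_mul, mul_comm]⟩⟩, by
      rintro _ ⟨v, rfl⟩
      rw [← map_pow, expV, map_one]⟩
    (by rw [hVtop]; exact le_top) (by rw [hVtop]; exact le_top)
    (by
      rw [eq_bot_iff]
      intro y hy
      rw [Subgroup.mem_inf] at hy
      have h1 : (Subgroup.zpowers g).map ir ⊔ Q.map ir ≤ ir.range :=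
        sup_le (Subgroup.map_le_range _ _) (Subgroup.map_le_range _ _)
      obtain ⟨x, rfl⟩ := h1 hy.1
      have h2 : x = 1 := by
        apply FaithfulSMul.eq_of_smul_eq_smul (α := V)
        intro v
        rw [one_smul]
        have h3 := Subgroup.mem_centralizer_iff.1 hy.2 (il v) ⟨v, rfl⟩
        rw [hact] at h3
        exact (hil (mul_right_cancel h3)).symm
      rw [h2, map_one]
      exact Subgroup.mem_bot.2 rfl)
    (by
      rw [eq_bot_iff]
      intro y hy
      rw [Subgroup.mem_inf] at hy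
      obtain ⟨v, rfl⟩ := hy.1
      have h3 := Subgroup.mem_centralizer_iff.1 hy.2 (ir g) ⟨g, Subgroup.mem_zpowers g, rfl⟩
      rw [hact] at h3
      have h4 : g • v = v := hil (mul_right_cancel h3)
      rw [gf v h4, map_one]
      exact Subgroup.mem_bot.2 rfl)
  rw [Subgroup.card_map_of_injective hir] at hres
  exact hres

end Cfsg.Agent.Lib.H82PQBr
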