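import Mathlib
import Cfsg.Agent.Lib.H82PQDefs
import Cfsg.Agent.Lib.H11GhDefs

set_option autoImplicit false
set_option linter.unusedSectionVars false

/-! Project 4306 (S4306), piece `QAct` (60m).
 Construction of `M = E / Zt` with the conjugation action of `N(E) ∩ N(Zt)`.  `Zt.subgroupOf E` is normal in `E` (it contains the commutators), `M := E ⧸ Zt.subgroupOf E`, commutative because `⁅E,E⁆ ≤ Zt`
(build the `CommGroup` instance by hand: `{ (inferInstance : Group _) with mul_comm := .. }`), `π = QuotientGroup.mk'`, `σ y = QuotientGroup.congr _ _ (conjugation by y restricted to E) _` (model: `ρ'` in `Helper66S3k.main3`; `MulAut.conjNormal`-like restriction: `E` is normal in its normaliser). -/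
namespace Cfsg.Agent.Lib.H82PQQAct
open scoped commutatorElement
universe u
/-- `M = E / Zt` with the action of `N(E) ∩ N(Zt)` -/
structure QD {X : Type u} [Group X] (E Zt : Subgroup X) (M : Type u) [CommGroup M] (π : E →* M)
    (σ : ↥(Subgroup.normalizer (E : Set X) ⊓ Subgroup.normalizer (Zt : Set X)) →* MulAut M) : Prop where
  surj : Function.Surjective π
  ker : ∀ u : E, π u = 1 ↔ (u : X) ∈ Zt
  eqv : ∀ (y : ↥(Subgroup.normalizer (E : Set X) ⊓ Subgroup.normalizer (Zt : Set X))) (u u' : E),
    (u' : X) = y * u * (y : X)⁻¹ → σ y (π u) = π u'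

/-- conjugation on `E` -/
def cjE {X : Type u} [Group X] (E Zt : Subgroup X) :
    ↥(Subgroup.normalizer (E : Set X) ⊓ Subgroup.normalizer (Zt : Set X)) →* MulAut E where
  toFun y :=
    { toFun := fun u => ⟨y * u * (y : X)⁻¹, (Subgroup.mem_normalizer_iff.1 y.2.1 u).1 u.2⟩
      invFun := fun u => ⟨(y : X)⁻¹ * u * y, by
        have := (Subgroup.mem_normalizer_iff.1
          ((Subgroup.normalizer (E : Set X)).inv_mem y.2.1) u).1 u.2
        simpa using this⟩
      left_inv := fun u => Subtype.ext (by simp [mul_assoc])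
      right_inv := fun u => Subtype.ext (by simp [mul_assoc])
      map_mul' := fun a b => Subtype.ext (by simp [mul_assoc]) }
  map_one' := by ext u; simp
  map_mul' := fun a b => by ext u; simp [mul_assoc]

theorem cjE_apply {X : Type u} [Group X] (E Zt : Subgroup X)
    (y : ↥(Subgroup.normalizer (E : Set X) ⊓ Subgroup.normalizer (Zt : Set X))) (u : E) :
    ((cjE E Zt y u : E) : X) = y * u * (y : X)⁻¹ := rfl

theorem cjE_inv {X : Type u} [Group X] (E Zt : Subgroup X) :
    Cfsg.Agent.Lib.H11GhDefs.Inv (cjE E Zt) (Zt.subgroupOf E) := by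
  intro y w hw
  rw [Subgroup.mem_subgroupOf] at hw ⊢
  rw [cjE_apply]
  exact (Subgroup.mem_normalizer_iff.1 y.2.2 w).1 hw

theorem qact {X : Type u} [Group X] [Finite X] (E Zt : Subgroup X) (hle : Zt ≤ E) (hcomm : ⁅E, E⁆ ≤ Zt) :
    ∃ (M : Type u) (_ : CommGroup M) (_ : Finite M) (π : E →* M)
      (σ : ↥(Subgroup.normalizer (E : Set X) ⊓ Subgroup.normalizer (Zt : Set X)) →* MulAut M), QD E Zt M π σ := by
  haveI hnorm : (Zt.subgroupOf E).Normal := by
    constructor
    intro z hz u
    rw [Subgroup.mem_subgroupOf] at hz ⊢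
    have h1 : ⁅(u : X), (z : X)⁆ ∈ Zt := hcomm (Subgroup.commutator_mem_commutator u.2 z.2)
    have h2 : ((u * z * u⁻¹ : E) : X) = ⁅(u : X), (z : X)⁆ * z := by
      simp [commutatorElement_def]
    rw [h2]
    exact Zt.mul_mem h1 hz
  letI inst : CommGroup (E ⧸ Zt.subgroupOf E) :=
    { (inferInstance : Group (E ⧸ Zt.subgroupOf E)) with
      mul_comm := by
        intro a b
        induction a using QuotientGroup.induction_on with
        | H a =>
          induction b using QuotientGroup.induction_on with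
          | H b =>
            rw [← QuotientGroup.mk_mul, ← QuotientGroup.mk_mul, QuotientGroup.eq,
              Subgroup.mem_subgroupOf]
            have h1 : ⁅((b : X))⁻¹, ((a : X))⁻¹⁆ ∈ Zt :=
              hcomm (Subgroup.commutator_mem_commutator (E.inv_mem b.2) (E.inv_mem a.2))
            have h2 : (((a * b)⁻¹ * (b * a) : E) : X) = ⁅((b : X))⁻¹, ((a : X))⁻¹⁆ := by
              simp [commutatorElement_def, mul_assoc]
            rw [h2]
            exact h1 }
  refine ⟨E ⧸ Zt.subgroupOf E, inst, inferInstance, QuotientGroup.mk' (Zt.subgroupOf E),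
    Cfsg.Agent.Lib.H11GhDefs.quo (cjE E Zt) (Zt.subgroupOf E) (cjE_inv E Zt), ?_, ?_, ?_⟩
  · exact QuotientGroup.mk'_surjective _
  · intro u
    rw [QuotientGroup.mk'_apply, QuotientGroup.eq_one_iff, Subgroup.mem_subgroupOf]
  · intro y u u' hu
    have : cjE E Zt y u = u' := Subtype.ext (by rw [cjE_apply, hu])
    rw [QuotientGroup.mk'_apply, QuotientGroup.mk'_apply, ← this]
    exact Cfsg.Agent.Lib.H11GhDefs.quo_mk (cjE E Zt) (Zt.subgroupOf E) (cjE_inv E Zt) y u

theorem QD.card {X : Type u} [Group X] [Finite X] {E Zt : Subgroup X} {M : Type u} [CommGroup M] {π : E →* M}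
    {σ : ↥(Subgroup.normalizer (E : Set X) ⊓ Subgroup.normalizer (Zt : Set X)) →* MulAut M} (h : QD E Zt M π σ)
    (hle : Zt ≤ E) : Nat.card E = Nat.card M * Nat.card Zt := by
  have hker : π.ker = Zt.subgroupOf E := by
    ext u
    rw [MonoidHom.mem_ker, h.ker, Subgroup.mem_subgroupOf]
  rw [Subgroup.card_eq_card_quotient_mul_card_subgroup π.ker,
    Nat.card_congr (QuotientGroup.quotientKerEquivOfSurjective π h.surj).toEquiv, hker,
    Nat.card_congr (Subgroup.subgroupOfEquivOfLe hle).toEquiv]

end Cfsg.Agent.Lib.H82PQQAct
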