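import Mathlib
import Cfsg.Agent.Lib.H82PQDefs
import Cfsg.Agent.Lib.H82PQQAct

set_option autoImplicit false
set_option linter.unusedSectionVars false

/-! Project 4306 (S4306), piece `CL` (50m).
 `C_E(B) ≤ Zt` when `E = [E,B] Zt`, `E/Zt` abelian, `(|B|,|E|) = 1`.  Take `(M, π, σ)` from `QAct.qact`.  `Nm : M →* M`, `Nm m = ∏ b : B, σ b m` (`M` commutative).  `Nm (σ b m) = Nm m` (reindex), so `Nm ∘ π` kills every `b*u*b⁻¹*u⁻¹` and `Zt`,
hence all of `⁅E,B⁆ ⊔ Zt = E` (the kernel of `Nm ∘ π` is a subgroup of `E`; `Subgroup.commutator_le`/`closure_induction`).  If `u` commutes with `B` then `Nm (π u) = (π u)^|B|`, so `(π u)^|B| = 1`, and `|B|` is prime to `|M| ∣ |E|`: `π u = 1`, `u ∈ Zt`. -/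
namespace Cfsg.Agent.Lib.H82PQCL
open Cfsg.Agent.Lib.Helper66Fpf Cfsg.Agent.Lib.Helper66Fpf2 Cfsg.Agent.Lib.Helper66Ward2
  Cfsg.Agent.Lib.Helper66S3a Cfsg.Agent.Lib.Helper66S3b Cfsg.Agent.Lib.Helper66S3c
  Cfsg.Agent.Lib.Helper40Sylow Cfsg.Agent.Lib.H92GREStep1 Cfsg.Agent.Lib.H82PQDefs
open Cfsg.Agent.Lib.H82PQQAct
open scoped commutatorElement
variable {V : Type*} [CommGroup V] [Finite V] {X : Type*} [Group X] [Finite X] [MulDistribMulAction X V]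
variable {p q t s r l : ℕ} {c d g : X} {S R Z K Q E Zt D : Subgroup X}
theorem cl (B : Subgroup X) (hle : Zt ≤ E) (hcomm : ⁅E, E⁆ ≤ Zt) (hBE : B ≤ Subgroup.normalizer (E : Set X))
    (hBZ : B ≤ Subgroup.normalizer (Zt : Set X)) (hcop : (Nat.card B).Coprime (Nat.card E))
    (hE : ⁅E, B⁆ ⊔ Zt = E) : ∀ u ∈ E, (∀ b ∈ B, b * u = u * b) → u ∈ Zt := by
  classical
  obtain ⟨M, iM, fM, π, σ, hQ⟩ := qact E Zt hle hcomm
  have : Fintype B := Fintype.ofFinite B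
  let ι : B → ↥(Subgroup.normalizer (E : Set X) ⊓ Subgroup.normalizer (Zt : Set X)) :=
    fun b => ⟨b, hBE b.2, hBZ b.2⟩
  have hι : ∀ b b' : B, ι (b * b') = ι b * ι b' := fun b b' => rfl
  let Nm : M →* M :=
    { toFun := fun m => ∏ b : B, σ (ι b) m
      map_one' := by simp
      map_mul' := by
        intro a b
        simp [Finset.prod_mul_distrib] }
  have hNmdef : ∀ m : M, Nm m = ∏ b : B, σ (ι b) m := fun m => rfl
  have hNm : ∀ (b : B) (m : M), Nm (σ (ι b) m) = Nm m := by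
    intro b m
    rw [hNmdef, hNmdef]
    have h1 : ∀ b' : B, σ (ι b') (σ (ι b) m) = σ (ι (b' * b)) m := by
      intro b'
      rw [hι, map_mul, MulAut.mul_apply]
    simp_rw [h1]
    exact Equiv.prod_comp (Equiv.mulRight b) (fun b' => σ (ι b') m)
  have hK : ⁅E, B⁆ ⊔ Zt ≤ ((Nm.comp π).ker).map E.subtype := by
    apply sup_le
    · rw [Subgroup.commutator_le]
      intro e he b hb
      have hmem : b * e⁻¹ * b⁻¹ ∈ E :=
        (Subgroup.mem_normalizer_iff.1 (hBE hb) e⁻¹).1 (E.inv_mem he)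
      refine ⟨(⟨e, he⟩ : E) * ⟨b * e⁻¹ * b⁻¹, hmem⟩, ?_, ?_⟩
      · have h2 : σ (ι ⟨b, hb⟩) (π (⟨e, he⟩ : E)⁻¹) = π ⟨b * e⁻¹ * b⁻¹, hmem⟩ :=
          hQ.eqv (ι ⟨b, hb⟩) _ _ rfl
        show (Nm.comp π) _ = 1
        rw [MonoidHom.comp_apply, map_mul, map_mul, ← h2, hNm, ← map_mul, ← map_mul,
          mul_inv_cancel, map_one, map_one]
      · simp [commutatorElement_def, mul_assoc]
    · intro z hz
      refine ⟨⟨z, hle hz⟩, ?_, rfl⟩
      show (Nm.comp π) _ = 1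
      rw [MonoidHom.comp_apply, (hQ.ker ⟨z, hle hz⟩).2 hz, map_one]
  intro u hu hub
  have hu' : u ∈ ⁅E, B⁆ ⊔ Zt := by rw [hE]; exact hu
  obtain ⟨u', hu'k, hu'e⟩ := hK hu'
  have hu'eq : u' = ⟨u, hu⟩ := Subtype.ext hu'e
  subst hu'eq
  have h1 : Nm (π ⟨u, hu⟩) = 1 := hu'k
  have h2 : ∀ b : B, σ (ι b) (π ⟨u, hu⟩) = π ⟨u, hu⟩ := by
    intro b
    apply hQ.eqv
    show u = (b : X) * u * (b : X)⁻¹
    rw [hub b b.2, mul_inv_cancel_right]
  rw [hNmdef] at h1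
  simp_rw [h2] at h1
  rw [Finset.prod_const, Finset.card_univ, ← Nat.card_eq_fintype_card] at h1
  have h3 : (π ⟨u, hu⟩) ^ Nat.card M = 1 := pow_card_eq_one'
  have hdvd : Nat.card M ∣ Nat.card E := ⟨_, hQ.card hle⟩
  have hcop' : (Nat.card B).Coprime (Nat.card M) := Nat.Coprime.coprime_dvd_right hdvd hcop
  have h4 := pow_gcd_eq_one.2 ⟨h1, h3⟩
  rw [Nat.Coprime.gcd_eq_one hcop', pow_one] at h4
  exact (hQ.ker ⟨u, hu⟩).1 h4

end Cfsg.Agent.Lib.H82PQCL
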