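import Mathlib
import Cfsg.Agent.Lib.H82PQDefs
import Cfsg.Agent.S0055

set_option autoImplicit false
set_option linter.unusedSectionVars false

/-! Project 4306 (S4306), piece `Star` (35m).
 `B` abelian, `g`-invariant.  `B₁ = ⁅B, zpowers g⁆ ≤ B`; by `Cfsg.Agent.S0055.result (zpowers g) B` (coprime: `card (zpowers g) ∣ l`, `B` an `s`-group, `s ≠ l`) `g` has no fixed point on `B₁` and `B = C_B(g) ⊔ B₁`.
`Helper66Fpf2.frobP h.lp g h.gl B₁ (coprime: V is a t-group, B₁ an s-group) .. ⊤ ..` : `B₁` acts trivially on `V`, so `B₁ = ⊥` by faithfulness, so `g` centralises `B`. -/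
namespace Cfsg.Agent.Lib.H82PQStar
open Cfsg.Agent.Lib.Helper66Fpf Cfsg.Agent.Lib.Helper66Fpf2 Cfsg.Agent.Lib.Helper66Ward2
  Cfsg.Agent.Lib.Helper66S3a Cfsg.Agent.Lib.Helper66S3b Cfsg.Agent.Lib.Helper66S3c
  Cfsg.Agent.Lib.Helper40Sylow Cfsg.Agent.Lib.H92GREStep1 Cfsg.Agent.Lib.H82PQDefs
open scoped commutatorElement
variable {V : Type*} [CommGroup V] [Finite V] {X : Type*} [Group X] [Finite X] [MulDistribMulAction X V]
variable {p q t s r l : ℕ} {c d g : X} {S R Z K Q E Zt D : Subgroup X}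
theorem LD.copV (h : LD V t s l E Zt g) : (Nat.card V).Coprime (Nat.card E) := by
  haveI := Fact.mk h.tp
  haveI := Fact.mk h.sp
  have hV : IsPGroup t V := fun v => ⟨1, by simpa using h.expV v⟩
  obtain ⟨n, hn⟩ := IsPGroup.iff_card.1 hV
  obtain ⟨m, hm⟩ := IsPGroup.iff_card.1 h.pE
  rw [hn, hm]
  exact Nat.Coprime.pow _ _ ((Nat.coprime_primes h.tp h.sp).2 h.ts)

theorem LD.cop_g (h : LD V t s l E Zt g) : (Nat.card (Subgroup.zpowers g)).Coprime (Nat.card E) := by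
  haveI := Fact.mk h.sp
  obtain ⟨m, hm⟩ := IsPGroup.iff_card.1 h.pE
  have hd : Nat.card (Subgroup.zpowers g) ∣ l := by
    rw [Nat.card_zpowers]
    exact orderOf_dvd_of_pow_eq_one h.gl
  rw [hm]
  exact Nat.Coprime.coprime_dvd_left hd
    (Nat.Coprime.pow_right _ ((Nat.coprime_primes h.lp h.sp).2 h.sl.symm))

theorem star [FaithfulSMul X V] (h : LD V t s l E Zt g) (B : Subgroup X) (hB : B ≤ E)
    (abB : ∀ x ∈ B, ∀ y ∈ B, x * y = y * x) (gB : g ∈ Subgroup.normalizer (B : Set X)) : C1 g B := by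
  haveI : IsMulCommutative B := ⟨⟨fun x y => Subtype.ext (abB x x.2 y y.2)⟩⟩
  have hAB : Subgroup.zpowers g ≤ Subgroup.normalizer (B : Set X) := Subgroup.zpowers_le.2 gB
  have hcop : (Nat.card (Subgroup.zpowers g)).Coprime (Nat.card B) :=
    Nat.Coprime.coprime_dvd_right (Subgroup.card_dvd_of_le hB) (LD.cop_g h)
  obtain ⟨h1, h2⟩ := Cfsg.Agent.S0055.result (Subgroup.zpowers g) B hAB hcop
  have hB1 : ⁅B, Subgroup.zpowers g⁆ ≤ B := le_sup_right.trans_eq h2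
  have hcopV : (Nat.card V).Coprime (Nat.card ↥⁅B, Subgroup.zpowers g⁆) :=
    Nat.Coprime.coprime_dvd_right (Subgroup.card_dvd_of_le (hB1.trans hB)) (LD.copV h)
  have hsR : ∀ x ∈ ⁅B, Subgroup.zpowers g⁆, g * x * g⁻¹ ∈ ⁅B, Subgroup.zpowers g⁆ := by
    intro x hx
    have e1 : ⁅x, g⁆ ∈ ⁅B, Subgroup.zpowers g⁆ :=
      Subgroup.commutator_mem_commutator (hB1 hx) (Subgroup.mem_zpowers g)
    have e2 : g * x * g⁻¹ = (⁅x, g⁆)⁻¹ * x := by
      simp [commutatorElement_def, mul_assoc]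
    rw [e2]
    exact Subgroup.mul_mem _ (Subgroup.inv_mem _ e1) hx
  have hf1 : ∀ x ∈ ⁅B, Subgroup.zpowers g⁆, g * x * g⁻¹ = x → x = 1 := by
    intro x hx hgx
    have hc : Commute g x := mul_inv_eq_iff_eq_mul.mp hgx
    have hxC : x ∈ Subgroup.centralizer ((Subgroup.zpowers g : Subgroup X) : Set X) := by
      rw [Subgroup.mem_centralizer_iff]
      intro y hy
      obtain ⟨k, rfl⟩ := Subgroup.mem_zpowers_iff.mp hy
      exact (hc.zpow_left k).eq
    have : x ∈ (B ⊓ Subgroup.centralizer ((Subgroup.zpowers g : Subgroup X) : Set X)) ⊓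
        ⁅B, Subgroup.zpowers g⁆ := ⟨⟨hB1 hx, hxC⟩, hx⟩
    rwa [h1, Subgroup.mem_bot] at this
  have htriv := frobP (V := V) h.lp g h.gl ⁅B, Subgroup.zpowers g⁆ hcopV hsR hf1 ⊤
    (fun _ _ _ _ => Subgroup.mem_top _) (fun _ _ => Subgroup.mem_top _) (fun v _ => h.gf v)
  have hbot : ⁅B, Subgroup.zpowers g⁆ = ⊥ := by
    rw [eq_bot_iff]
    intro x hx
    rw [Subgroup.mem_bot]
    apply FaithfulSMul.eq_of_smul_eq_smul (α := V)
    intro v
    rw [htriv x hx v (Subgroup.mem_top _), one_smul]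
  rw [hbot, sup_bot_eq] at h2
  intro u hu
  have hu' : u ∈ B ⊓ Subgroup.centralizer ((Subgroup.zpowers g : Subgroup X) : Set X) := by
    rw [h2]; exact hu
  exact Subgroup.mem_centralizer_iff.1 hu'.2 g (Subgroup.mem_zpowers g)

/-- local data pass to `g`-invariant subgroups containing `Zt` -/
theorem LD.sub (h : LD V t s l E Zt g) {E₀ : Subgroup X} (h1 : E₀ ≤ E) (h2 : Zt ≤ E₀)
    (h3 : g ∈ Subgroup.normalizer (E₀ : Set X)) : LD V t s l E₀ Zt g where
  tp := h.tp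
  sp := h.sp
  lp := h.lp
  ts := h.ts
  tl := h.tl
  sl := h.sl
  expV := h.expV
  pE := h.pE.to_le h1
  le := h2
  cen := fun x hx u hu => h.cen x hx u (h1 hu)
  comm := (Subgroup.commutator_mono h1 h1).trans h.comm
  pow := fun u hu => h.pow u (h1 hu)
  card := h.card
  semi := h.semi
  gE := h3
  gl := h.gl
  gZ := h.gZ
  gf := h.gf

end Cfsg.Agent.Lib.H82PQStar
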