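import Mathlib
import Cfsg.Agent.Lib.H82PQDefs
import Cfsg.Agent.Lib.H82PQStar
import Cfsg.Agent.Lib.H82PQCL
import Cfsg.Agent.Lib.Helper30SZ
import Cfsg.Agent.S0027

set_option autoImplicit false
set_option linter.unusedSectionVars false

/-! Project 4306 (S4306), piece `Ext` (60m).
 `E₁ = cm E g = ⁅E, zpowers g⁆`.  `E₁ ≤ E`, `g ∈ N(E₁)` (`Cfsg.Agent.Lib.Helper30SZ.commutator_le_of_le_normalizer`, `le_normalizer_commutator`), `⁅E₁, zpowers g⁆ = E₁` (`Cfsg.Agent.S0027.result`, coprime by `LD.cop_g`).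
`E₁` is not abelian: else `Star.star` gives `C1 g E₁`, so `⁅E₁, zpowers g⁆ = ⊥ = E₁` and `g` centralises `E`.  So `⊥ ≠ ⁅E₁,E₁⁆ ≤ ⁅E,E⁆ ≤ Zt`, and `|Zt| = s` is prime: `⁅E₁,E₁⁆ = Zt` (a subgroup of a group of prime order is `⊥` or everything).
`C_{E₁}(g) ≤ Zt`: `CL.cl (zpowers g)` applied to `E₁` (`⁅E₁, zpowers g⁆ ⊔ Zt = E₁`).  `Z(E₁)` is abelian and `g`-invariant: `Star.star` gives `Z(E₁) ≤ C_{E₁}(g) ≤ Zt`. -/
namespace Cfsg.Agent.Lib.H82PQExt
open Cfsg.Agent.Lib.Helper66Fpf Cfsg.Agent.Lib.Helper66Fpf2 Cfsg.Agent.Lib.Helper66Ward2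
  Cfsg.Agent.Lib.Helper66S3a Cfsg.Agent.Lib.Helper66S3b Cfsg.Agent.Lib.Helper66S3c
  Cfsg.Agent.Lib.Helper40Sylow Cfsg.Agent.Lib.H92GREStep1 Cfsg.Agent.Lib.H82PQDefs
open Cfsg.Agent.Lib.H82PQStar Cfsg.Agent.Lib.H82PQCL
open scoped commutatorElement
variable {V : Type*} [CommGroup V] [Finite V] {X : Type*} [Group X] [Finite X] [MulDistribMulAction X V]
variable {p q t s r l : ℕ} {c d g : X} {S R Z K Q E Zt D : Subgroup X}
theorem zpow_comm {g u : X} (h : g * u = u * g) : ∀ a ∈ Subgroup.zpowers g, a * u = u * a := by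
  rintro _ ⟨k, rfl⟩
  exact ((show Commute g u from h).zpow_left k).eq

theorem conj_mem_center {E₁ : Subgroup X} {y : X} (hy : y ∈ Subgroup.normalizer (E₁ : Set X)) {n : X}
    (hn : n ∈ E₁ ⊓ Subgroup.centralizer (E₁ : Set X)) :
    y * n * y⁻¹ ∈ E₁ ⊓ Subgroup.centralizer (E₁ : Set X) := by
  refine Subgroup.mem_inf.2 ⟨(Subgroup.mem_normalizer_iff.1 hy n).1 hn.1, ?_⟩
  rw [Subgroup.mem_centralizer_iff]
  intro v hv
  have hv' : y⁻¹ * v * y⁻¹⁻¹ ∈ E₁ :=
    (Subgroup.mem_normalizer_iff.1 (Subgroup.inv_mem _ hy) v).1 hv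
  rw [inv_inv] at hv'
  have h1 := Subgroup.mem_centralizer_iff.1 hn.2 _ hv'
  calc v * (y * n * y⁻¹) = y * ((y⁻¹ * v * y) * n) * y⁻¹ := by group
    _ = y * (n * (y⁻¹ * v * y)) * y⁻¹ := by rw [h1]
    _ = y * n * y⁻¹ * v := by group

theorem mem_normalizer_center {E₁ : Subgroup X} {y : X} (hy : y ∈ Subgroup.normalizer (E₁ : Set X)) :
    y ∈ Subgroup.normalizer ((E₁ ⊓ Subgroup.centralizer (E₁ : Set X) : Subgroup X) : Set X) := by
  rw [Subgroup.mem_normalizer_iff]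
  intro n
  refine ⟨fun hn => conj_mem_center hy hn, fun hn => ?_⟩
  have := conj_mem_center (Subgroup.inv_mem _ hy) hn
  have e : y⁻¹ * (y * n * y⁻¹) * y⁻¹⁻¹ = n := by group
  rwa [e] at this

theorem mem_normalizer_of_C1 {g : X} {Z₀ : Subgroup X} (h : C1 g Z₀) :
    g ∈ Subgroup.normalizer (Z₀ : Set X) := by
  rw [Subgroup.mem_normalizer_iff]
  intro n
  constructor
  · intro hn
    rw [h n hn, mul_inv_cancel_right]
    exact hn
  · intro hn
    have h1 := h _ hn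
    have h2 : g * n * g⁻¹ = n := by
      rw [inv_mul_cancel_right] at h1
      exact mul_left_cancel h1
    rwa [h2] at hn

theorem ext [FaithfulSMul X V] (h : LD V t s l E Zt g) (hn : ¬ C1 g E) :
    cm E g ≤ E ∧ g ∈ Subgroup.normalizer (cm E g : Set X) ∧ Zt ≤ cm E g ∧ ⁅cm E g, cm E g⁆ = Zt ∧
    (∀ u ∈ cm E g, g * u = u * g → u ∈ Zt) ∧ (∀ u ∈ cm E g, (∀ v ∈ cm E g, u * v = v * u) → u ∈ Zt) := by
  have hsp : s.Prime := h.sp
  have hA : Subgroup.zpowers g ≤ Subgroup.normalizer (E : Set X) := Subgroup.zpowers_le.2 h.gE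
  have hcop := LD.cop_g h
  have h1 : cm E g ≤ E := Cfsg.Agent.Lib.Helper30SZ.commutator_le_of_le_normalizer hA
  have hAE₁ : Subgroup.zpowers g ≤ Subgroup.normalizer (cm E g : Set X) :=
    Cfsg.Agent.Lib.Helper30SZ.le_normalizer_commutator hA Subgroup.le_normalizer
  have h2 : g ∈ Subgroup.normalizer (cm E g : Set X) := hAE₁ (Subgroup.mem_zpowers g)
  have hsolv : Group.IsSolvable (Subgroup.zpowers g) :=
    Group.isSolvable_of_comm (by
      rintro ⟨_, i, rfl⟩ ⟨_, j, rfl⟩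
      exact Subtype.ext (zpow_mul_comm g i j))
  have h3 : ⁅cm E g, Subgroup.zpowers g⁆ = cm E g :=
    Cfsg.Agent.S0027.result (Subgroup.zpowers g) E hA hcop (Or.inl hsolv)
  have hnab : ¬ ∀ x ∈ cm E g, ∀ y ∈ cm E g, x * y = y * x := by
    intro hab
    have hc := star h (cm E g) h1 hab h2
    have h4 : ⁅cm E g, Subgroup.zpowers g⁆ = ⊥ := by
      rw [Subgroup.commutator_eq_bot_iff_le_centralizer]
      intro u hu
      rw [Subgroup.mem_centralizer_iff]
      intro a ha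
      exact zpow_comm (hc u hu) a ha
    rw [h3] at h4
    apply hn
    have h5 : ⁅E, Subgroup.zpowers g⁆ = ⊥ := h4
    rw [Subgroup.commutator_eq_bot_iff_le_centralizer] at h5
    intro u hu
    exact Subgroup.mem_centralizer_iff.1 (h5 hu) g (Subgroup.mem_zpowers g)
  have hle : ⁅cm E g, cm E g⁆ ≤ Zt := (Subgroup.commutator_mono h1 h1).trans h.comm
  have hne : ⁅cm E g, cm E g⁆ ≠ ⊥ := by
    intro e
    rw [Subgroup.commutator_eq_bot_iff_le_centralizer] at e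
    apply hnab
    intro x hx y hy
    exact (Subgroup.mem_centralizer_iff.1 (e hx) y hy).symm
  have h4 : ⁅cm E g, cm E g⁆ = Zt := by
    have hd : Nat.card (⁅cm E g, cm E g⁆ : Subgroup X) ∣ s := by
      rw [← h.card]
      exact Subgroup.card_dvd_of_le hle
    rcases (Nat.dvd_prime hsp).1 hd with hc | hc
    · exact absurd (Subgroup.card_eq_one.1 hc) hne
    · exact Subgroup.eq_of_le_of_card_ge hle (by rw [hc, h.card])
  have h5 : Zt ≤ cm E g := by
    rw [← h4, Subgroup.commutator_le]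
    intro a ha b hb
    exact Subgroup.mul_mem _ (Subgroup.mul_mem _ (Subgroup.mul_mem _ ha hb) (Subgroup.inv_mem _ ha))
      (Subgroup.inv_mem _ hb)
  have h6 : ∀ u ∈ cm E g, g * u = u * g → u ∈ Zt := by
    intro u hu hgu
    refine cl (Subgroup.zpowers g) h5 hle hAE₁
      (Subgroup.zpowers_le.2 (mem_normalizer_of_C1 h.gZ))
      (Nat.Coprime.coprime_dvd_right (Subgroup.card_dvd_of_le h1) hcop)
      (by rw [h3]; exact sup_eq_left.2 h5) u hu (zpow_comm hgu)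
  refine ⟨h1, h2, h5, h4, h6, ?_⟩
  intro u hu hcen
  have huB : u ∈ cm E g ⊓ Subgroup.centralizer (cm E g : Set X) := by
    refine Subgroup.mem_inf.2 ⟨hu, ?_⟩
    rw [Subgroup.mem_centralizer_iff]
    intro v hv
    exact (hcen v hv).symm
  have hc := star h (cm E g ⊓ Subgroup.centralizer (cm E g : Set X)) (inf_le_left.trans h1)
    (fun x hx y hy => (Subgroup.mem_centralizer_iff.1 hx.2 y hy.1).symm) (mem_normalizer_center h2)
  exact h6 u hu (hc u huB)

end Cfsg.Agent.Lib.H82PQExt
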