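import Mathlib
import Cfsg.Agent.Lib.H82PQDefs
import Cfsg.Agent.Lib.H82PQStar
import Cfsg.Agent.Lib.H82PQExt
import Cfsg.Agent.Lib.H82PQBr

set_option autoImplicit false
set_option linter.unusedSectionVars false

/-! Project 4306 (S4306), piece `Exc` (25m).
 Glue: `Ext.ext` + `Br.br` with `Q = cm E g`.  `exc_c`: if moreover a prime `q ≠ s` divides `l - 1 = 2 ^ n` then `q = 2 = s`, contradiction; so `g` centralises `E`. -/
namespace Cfsg.Agent.Lib.H82PQExc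
open Cfsg.Agent.Lib.Helper66Fpf Cfsg.Agent.Lib.Helper66Fpf2 Cfsg.Agent.Lib.Helper66Ward2
  Cfsg.Agent.Lib.Helper66S3a Cfsg.Agent.Lib.Helper66S3b Cfsg.Agent.Lib.Helper66S3c
  Cfsg.Agent.Lib.Helper40Sylow Cfsg.Agent.Lib.H92GREStep1 Cfsg.Agent.Lib.H82PQDefs
open Cfsg.Agent.Lib.H82PQStar Cfsg.Agent.Lib.H82PQExt Cfsg.Agent.Lib.H82PQBr
open scoped commutatorElement
variable {V : Type*} [CommGroup V] [Finite V] {X : Type*} [Group X] [Finite X] [MulDistribMulAction X V]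
variable {p q t s r l : ℕ} {c d g : X} {S R Z K Q E Zt D : Subgroup X}
theorem exc [FaithfulSMul X V] (h : LD V t s l E Zt g) (hn : ¬ C1 g E) :
    s = 2 ∧ ∃ n : ℕ, l = 2 ^ n + 1 ∧ Nat.card (cm E g) = 2 ^ (2 * n + 1) := by
  obtain ⟨h1, h2, h3, h4, h5, h6⟩ := ext h hn
  exact br h.tp h.sp h.lp h.ts h.tl h.sl h.expV h.gl h2 (h.pE.to_le h1) h3 h4 h6
    (fun z hz u hu => h.cen z hz u (h1 hu)) h.card h5 h.gZ h.gf

theorem exc_c [FaithfulSMul X V] (h : LD V t s l E Zt g) (hq : q.Prime) (hqs : q ≠ s) (hdvd : q ∣ l - 1) :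
    C1 g E := by
  by_contra hn
  obtain ⟨hs, n, hl, _⟩ := exc h hn
  rw [hl, Nat.add_sub_cancel] at hdvd
  have h2 : q ∣ 2 := hq.dvd_of_dvd_pow hdvd
  have h3 : q = 2 := (Nat.prime_dvd_prime_iff_eq hq Nat.prime_two).mp h2
  exact hqs (h3.trans hs.symm)

end Cfsg.Agent.Lib.H82PQExc
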