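import Mathlib
import Cfsg.Agent.Lib.H82PQDefs
import Cfsg.Agent.Lib.H82PQDefs2

set_option autoImplicit false
set_option linter.unusedSectionVars false

/-! Project 4306 (S4306), piece `Img` (50m).
 API of `img W Q = (Q.subgroupOf (stabW X W)).map (resW X W)` (`Helper66S3a.stabW`, `resW`, `resW_apply`).  All by unfolding: `Subgroup.mem_map`, `Subgroup.mem_subgroupOf`, `Subgroup.map_commutator`, `MonoidHom.map_zpowers`, `Subgroup.subgroupOf` of a commutator of subgroups contained in `stabW` (use `Subgroup.map_subtype`/`comap` injectivity: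
`(⁅Q,D⁆).subgroupOf Y = ⁅Q.subgroupOf Y, D.subgroupOf Y⁆` for `Q, D ≤ Y`, proved by applying `Subgroup.map Y.subtype` (injective) and `Subgroup.map_commutator`, `Subgroup.map_subgroupOf_eq_of_le`). -/
namespace Cfsg.Agent.Lib.H82PQImg
open Cfsg.Agent.Lib.Helper66Fpf Cfsg.Agent.Lib.Helper66Fpf2 Cfsg.Agent.Lib.Helper66Ward2
  Cfsg.Agent.Lib.Helper66S3a Cfsg.Agent.Lib.Helper66S3b Cfsg.Agent.Lib.Helper66S3c
  Cfsg.Agent.Lib.Helper40Sylow Cfsg.Agent.Lib.H92GREStep1 Cfsg.Agent.Lib.H82PQDefs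
open scoped commutatorElement
variable {V : Type*} [CommGroup V] [Finite V] {X : Type*} [Group X] [Finite X] [MulDistribMulAction X V]
variable {p q t s r l : ℕ} {c d g : X} {S R Z K Q E Zt D : Subgroup X}
open Cfsg.Agent.Lib.H82PQDefs2
variable {W : Subgroup V}

theorem mem_img (hQ : Q ≤ stabW X W) {f : MulAut W} :
    f ∈ img W Q ↔ ∃ (x : X) (hx : x ∈ Q), f = resW X W ⟨x, hQ hx⟩ := by
  unfold img
  rw [Subgroup.mem_map]
  constructor
  · rintro ⟨⟨x, hxs⟩, hx, rfl⟩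
    exact ⟨x, Subgroup.mem_subgroupOf.1 hx, rfl⟩
  · rintro ⟨x, hx, rfl⟩
    exact ⟨⟨x, hQ hx⟩, Subgroup.mem_subgroupOf.2 hx, rfl⟩

theorem res_eq_one_iff (y : stabW X W) : resW X W y = 1 ↔ ∀ w ∈ W, (y : X) • w = w := by
  constructor
  · intro h w hw
    have := resW_apply W y ⟨w, hw⟩
    rw [h] at this
    exact this.symm
  · intro h
    ext w
    rw [resW_apply]
    exact h w w.2

theorem img_mono {Q' : Subgroup X} (h : Q ≤ Q') : img W Q ≤ img W Q' :=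
  Subgroup.map_mono (Subgroup.comap_mono h)

theorem subgroupOf_comm {Y : Subgroup X} (hQ : Q ≤ Y) (hD : D ≤ Y) :
    (⁅Q, D⁆).subgroupOf Y = ⁅Q.subgroupOf Y, D.subgroupOf Y⁆ := by
  have hle : ⁅Q, D⁆ ≤ Y := by
    rw [Subgroup.commutator_le]
    intro a ha b hb
    rw [commutatorElement_def]
    exact mul_mem (mul_mem (mul_mem (hQ ha) (hD hb)) (inv_mem (hQ ha))) (inv_mem (hD hb))
  apply Subgroup.map_injective Y.subtype_injective
  rw [Subgroup.map_commutator, Subgroup.map_subgroupOf_eq_of_le hQ,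
    Subgroup.map_subgroupOf_eq_of_le hD, Subgroup.map_subgroupOf_eq_of_le hle]

theorem img_commutator (hQ : Q ≤ stabW X W) (hD : D ≤ stabW X W) : ⁅img W Q, img W D⁆ = img W ⁅Q, D⁆ := by
  unfold img
  rw [← Subgroup.map_commutator, subgroupOf_comm hQ hD]

theorem img_zpowers (hg : g ∈ stabW X W) : img W (Subgroup.zpowers g) = Subgroup.zpowers (resW X W ⟨g, hg⟩) := by
  unfold img
  have h1 : (Subgroup.zpowers g).subgroupOf (stabW X W) = Subgroup.zpowers (⟨g, hg⟩ : stabW X W) := by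
    apply Subgroup.map_injective (stabW X W).subtype_injective
    rw [Subgroup.map_subgroupOf_eq_of_le (Subgroup.zpowers_le.mpr hg), MonoidHom.map_zpowers]
    rfl
  rw [h1, MonoidHom.map_zpowers]

theorem img_cm (hQ : Q ≤ stabW X W) (hg : g ∈ stabW X W) : cm (img W Q) (resW X W ⟨g, hg⟩) = img W (cm Q g) := by
  unfold cm
  rw [← img_zpowers hg, img_commutator hQ (Subgroup.zpowers_le.mpr hg)]

theorem isPGroup_img (h : IsPGroup s Q) : IsPGroup s (img W Q) :=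
  (h.comap_of_injective _ (Subgroup.subtype_injective _)).map _

theorem res_mem_normalizer (hQ : Q ≤ stabW X W) (hg : g ∈ stabW X W) (h : g ∈ Subgroup.normalizer (Q : Set X)) :
    resW X W ⟨g, hg⟩ ∈ Subgroup.normalizer (img W Q : Set (MulAut W)) := by
  rw [mem_normalizer_iff_cj]
  apply cj_eq_of_le
  rintro _ ⟨f, hf, rfl⟩
  obtain ⟨x, hx, rfl⟩ := (mem_img hQ).1 hf
  rw [mem_img hQ]
  refine ⟨g * x * g⁻¹, (Subgroup.mem_normalizer_iff.1 h x).1 hx, ?_⟩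
  show resW X W ⟨g, hg⟩ * resW X W ⟨x, hQ hx⟩ * (resW X W ⟨g, hg⟩)⁻¹ = _
  rw [← map_inv, ← map_mul, ← map_mul]
  rfl

theorem img_le_normalizer (hQ : Q ≤ stabW X W) (hD : D ≤ stabW X W) (h : D ≤ Subgroup.normalizer (Q : Set X)) :
    img W D ≤ Subgroup.normalizer (img W Q : Set (MulAut W)) := by
  intro f hf
  obtain ⟨x, hx, rfl⟩ := (mem_img hD).1 hf
  exact res_mem_normalizer hQ (hD hx) (h hx)

theorem c2_img (hQ : Q ≤ stabW X W) (hD : D ≤ stabW X W) (h : C2 D Q) : C2 (img W D) (img W Q) := by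
  intro f hf f' hf'
  obtain ⟨x, hx, rfl⟩ := (mem_img hD).1 hf
  obtain ⟨u, hu, rfl⟩ := (mem_img hQ).1 hf'
  rw [← map_mul, ← map_mul]
  congr 1
  exact Subtype.ext (h x hx u hu)

theorem of_comm {x u : X} (hx : x ∈ stabW X W) (hu : u ∈ stabW X W)
    (h : resW X W ⟨x, hx⟩ * resW X W ⟨u, hu⟩ = resW X W ⟨u, hu⟩ * resW X W ⟨x, hx⟩) :
    ∀ w ∈ W, (x * u * x⁻¹ * u⁻¹) • w = w := by
  have h1 : resW X W (⟨x, hx⟩ * ⟨u, hu⟩ * ⟨x, hx⟩⁻¹ * ⟨u, hu⟩⁻¹) = 1 := by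
    rw [map_mul, map_mul, map_mul, map_inv, map_inv, h]
    group
  exact (res_eq_one_iff _).1 h1

/-- back from `MulAut W` -/
theorem of_c2_img (hQ : Q ≤ stabW X W) (hD : D ≤ stabW X W) (h : C2 (img W D) (img W Q)) :
    ∀ x ∈ D, ∀ u ∈ Q, ∀ w ∈ W, (x * u * x⁻¹ * u⁻¹) • w = w := by
  intro x hx u hu
  exact of_comm (hD hx) (hQ hu)
    (h _ ((mem_img hD).2 ⟨x, hx, rfl⟩) _ ((mem_img hQ).2 ⟨u, hu, rfl⟩))

theorem of_c1_img (hQ : Q ≤ stabW X W) (hg : g ∈ stabW X W) (h : C1 (resW X W ⟨g, hg⟩) (img W Q)) :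
    ∀ u ∈ Q, ∀ w ∈ W, (g * u * g⁻¹ * u⁻¹) • w = w := by
  intro u hu
  exact of_comm hg (hQ hu) (h _ ((mem_img hQ).2 ⟨u, hu, rfl⟩))

end Cfsg.Agent.Lib.H82PQImg
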