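import Mathlib
import Cfsg.Agent.Lib.H82PQDefs
import Cfsg.Agent.Lib.H82PQAGd
import Cfsg.Agent.Lib.H82PQKQ
import Cfsg.Agent.Lib.H82PQBas1

set_option autoImplicit false
set_option linter.unusedSectionVars false

/-! Project 4306 (S4306), piece `SStrA` (35m).
 `h.minS` gives `⁅T,R⁆ = ⊥`.  Three subgroups lemma (`Subgroup.commutator_commutator_eq_bot_of_rotate`): `⁅⁅T,R⁆,S⁆ = ⊥` and `⁅⁅S,T⁆,R⁆ ≤ ⁅T,R⁆ = ⊥` (`⁅S,T⁆ ≤ T`), so `⁅⁅R,S⁆,T⁆ = ⊥`; `⁅R,S⁆ = ⁅S,R⁆ = S` (`Subgroup.commutator_comm`, `Bas1.comm_eq`). -/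
namespace Cfsg.Agent.Lib.H82PQSStrA
open Cfsg.Agent.Lib.Helper66Fpf Cfsg.Agent.Lib.Helper66Fpf2 Cfsg.Agent.Lib.Helper66Ward2
  Cfsg.Agent.Lib.Helper66S3a Cfsg.Agent.Lib.Helper66S3b Cfsg.Agent.Lib.Helper66S3c
  Cfsg.Agent.Lib.Helper40Sylow Cfsg.Agent.Lib.H92GREStep1 Cfsg.Agent.Lib.H82PQDefs
open Cfsg.Agent.Lib.H82PQAGd Cfsg.Agent.Lib.H82PQKQ Cfsg.Agent.Lib.H82PQBas1
open scoped commutatorElement
variable {V : Type*} [CommGroup V] [Finite V] {X : Type*} [Group X] [Finite X] [MulDistribMulAction X V]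
variable {p q t s r l : ℕ} {c d g : X} {S R Z K Q E Zt D : Subgroup X}
theorem c2_of_comm {D Q : Subgroup X} (h : ⁅D, Q⁆ = ⊥) : C2 D Q := by
  intro x hx u hu
  have h1 : ⁅x, u⁆ ∈ ⁅D, Q⁆ := Subgroup.commutator_mem_commutator hx hu
  rw [h, Subgroup.mem_bot, commutatorElement_eq_one_iff_mul_comm] at h1
  exact h1

theorem key (S R T : Subgroup X) (hTS : T ≤ S) (hTR : ⁅T, R⁆ = ⊥) (hSR : ⁅S, R⁆ = S)
    (hS : S ≤ Subgroup.normalizer (T : Set X)) : ⁅T, S⁆ = ⊥ ∧ ⁅R, T⁆ = ⊥ := by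
  have h1 : ⁅⁅T, R⁆, S⁆ = ⊥ := by rw [hTR]; exact Subgroup.commutator_bot_left _
  have hST : ⁅S, T⁆ ≤ T := by
    rw [Subgroup.commutator_le]
    intro a ha b hb
    have h2 : a * b * a⁻¹ ∈ T := ((hS ha) b).1 hb
    have : ⁅a, b⁆ = (a * b * a⁻¹) * b⁻¹ := rfl
    rw [this]
    exact T.mul_mem h2 (T.inv_mem hb)
  have h2 : ⁅⁅S, T⁆, R⁆ = ⊥ := by
    rw [eq_bot_iff, ← hTR]
    exact Subgroup.commutator_mono hST le_rfl
  have h3 : ⁅⁅R, S⁆, T⁆ = ⊥ := Subgroup.commutator_commutator_eq_bot_of_rotate h2 h1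
  rw [Subgroup.commutator_comm R S, hSR, Subgroup.commutator_comm] at h3
  exact ⟨h3, by rw [Subgroup.commutator_comm]; exact hTR⟩

theorem central_of_proper (h : Cfg V p q t s r c d S R) (T : Subgroup X) (hT : T < S)
    (hc : c ∈ Subgroup.normalizer (T : Set X)) (hd : d ∈ Subgroup.normalizer (T : Set X))
    (hR : R ≤ Subgroup.normalizer (T : Set X)) (hS : S ≤ Subgroup.normalizer (T : Set X)) :
    C2 T S ∧ C2 R T := by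
  have hTR : ⁅T, R⁆ = ⊥ := h.minS T hT hc hd hR
  obtain ⟨h1, h2⟩ := key S R T hT.le hTR (comm_eq h) hS
  exact ⟨c2_of_comm h1, c2_of_comm h2⟩

end Cfsg.Agent.Lib.H82PQSStrA
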