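import Mathlib
import Cfsg.Agent.Lib.H82PQDefs
import Cfsg.Agent.Lib.H82PQAGd
import Cfsg.Agent.Lib.H82PQKQ
import Cfsg.Agent.Lib.H82PQBas1
import Cfsg.Agent.Lib.H82PQSStrA
import Cfsg.Agent.Lib.H82PQCL

set_option autoImplicit false
set_option linter.unusedSectionVars false

/-! Project 4306 (S4306), piece `SStrB` (40m).
 `⁅S,S⁆ < S` (`S ≠ ⊥` nilpotent), normalised by everything normalising `S`.  `SStrA.central_of_proper`.  `Ad.of_le`.  `csr`: `CL.cl R` with `E = S`, `Zt = ⁅S,S⁆` (`⁅S,R⁆ ⊔ ⁅S,S⁆ = S` by `Bas1.comm_eq`). -/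
namespace Cfsg.Agent.Lib.H82PQSStrB
open Cfsg.Agent.Lib.Helper66Fpf Cfsg.Agent.Lib.Helper66Fpf2 Cfsg.Agent.Lib.Helper66Ward2
  Cfsg.Agent.Lib.Helper66S3a Cfsg.Agent.Lib.Helper66S3b Cfsg.Agent.Lib.Helper66S3c
  Cfsg.Agent.Lib.Helper40Sylow Cfsg.Agent.Lib.H92GREStep1 Cfsg.Agent.Lib.H82PQDefs
open Cfsg.Agent.Lib.H82PQAGd Cfsg.Agent.Lib.H82PQKQ Cfsg.Agent.Lib.H82PQBas1 Cfsg.Agent.Lib.H82PQSStrA Cfsg.Agent.Lib.H82PQCL
open scoped commutatorElement
variable {V : Type*} [CommGroup V] [Finite V] {X : Type*} [Group X] [Finite X] [MulDistribMulAction X V]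
variable {p q t s r l : ℕ} {c d g : X} {S R Z K Q E Zt D : Subgroup X}
theorem norm_comm {x : X} (hx : x ∈ Subgroup.normalizer (S : Set X)) :
    x ∈ Subgroup.normalizer ((⁅S, S⁆ : Subgroup X) : Set X) := by
  apply Cfsg.Agent.Lib.Helper66Basic.mem_normalizer_of_conj_mem
  intro u hu
  have hmap : S.map (MulAut.conj x).toMonoidHom ≤ S := by
    rintro _ ⟨v, hv, rfl⟩
    exact (Subgroup.mem_normalizer_iff.1 hx v).1 hv
  have h1 : (MulAut.conj x).toMonoidHom u ∈ (⁅S, S⁆).map (MulAut.conj x).toMonoidHom :=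
    Subgroup.mem_map_of_mem _ hu
  rw [Subgroup.map_commutator] at h1
  exact Subgroup.commutator_mono hmap hmap h1

theorem comm_lt (h : Cfg V p q t s r c d S R) : ⁅S, S⁆ < S := by
  haveI : Fact s.Prime := ⟨h.sp⟩
  have hle : ⁅S, S⁆ ≤ S := by
    rw [Subgroup.commutator_le]
    intro a ha b hb
    exact S.mul_mem (S.mul_mem (S.mul_mem ha hb) (S.inv_mem ha)) (S.inv_mem hb)
  refine lt_of_le_of_ne hle ?_
  intro he
  haveI : Group.IsNilpotent S := h.pS.isNilpotent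
  haveI : Nontrivial S := (Subgroup.nontrivial_iff_ne_bot S).2 (S_ne h)
  have h1 : _root_.commutator S < ⊤ := Group.IsSolvable.commutator_lt_top_of_nontrivial S
  have h2 : (_root_.commutator S).map S.subtype = ⁅S, S⁆ := Subgroup.map_subtype_commutator S
  apply h1.ne
  apply Subgroup.map_injective S.subtype_injective
  rw [h2, he, ← MonoidHom.range_eq_map, Subgroup.range_subtype]

theorem both (h : Cfg V p q t s r c d S R) : C2 ⁅S, S⁆ S ∧ C2 R ⁅S, S⁆ :=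
  central_of_proper h _ (comm_lt h) (norm_comm h.admS.hc) (norm_comm h.admS.hd)
    (fun _ hx => norm_comm (h.RS hx)) (fun _ hx => norm_comm (Subgroup.le_normalizer hx))

theorem zc (h : Cfg V p q t s r c d S R) : C2 ⁅S, S⁆ S := (both h).1

theorem zr (h : Cfg V p q t s r c d S R) : C2 R ⁅S, S⁆ := (both h).2

theorem admZ (h : Cfg V p q t s r c d S R) : Ad p q c d ⁅S, S⁆ :=
  Ad.of_le h.admS (comm_lt h).le (norm_comm h.admS.hc) (norm_comm h.admS.hd)

theorem csr (h : Cfg V p q t s r c d S R) : ∀ u ∈ S, (∀ x ∈ R, x * u = u * x) → u ∈ ⁅S, S⁆ := by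
  refine cl R (comm_lt h).le le_rfl h.RS (fun _ hx => norm_comm (h.RS hx)) (copRS h) ?_
  rw [comm_eq h]
  exact sup_eq_left.2 (comm_lt h).le

end Cfsg.Agent.Lib.H82PQSStrB
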