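import Mathlib
import Cfsg.Agent.Lib.H82PQDefs
import Cfsg.Agent.Lib.H82PQAGd
import Cfsg.Agent.Lib.H82PQKQ
import Cfsg.Agent.Lib.H82PQBas1
import Cfsg.Agent.Lib.H82PQSStrB

set_option autoImplicit false
set_option linter.unusedSectionVars false

/-! Project 4306 (S4306), piece `NB` (50m).
 Non abelian case, `Z = ⁅S,S⁆`, `W = WK V Z K`, `N = fixer S W`.  `abZ` from `SStrB.zc`.  `copVZ` from `Bas1.copVS` (`Subgroup.card_dvd_of_le`).  `S_stab`, `R_stab`: `x` centralises `Z ≥ K`, so `x ∈ N(Z)`, `cj x K = K`, `smul_mem_WK`; then `mem_stabW`.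
`mem_N_iff`: `MaxK.mem_of_fix` and `K` fixes `WK` pointwise.  `S_norm`, `R_norm`: `Helper66Ward2.le_normalizer_fixer`.  `not_le`: else `Z ≤ N`, `Z ≤ K`, against `mx.lt`.  `stab_of_ker`: `g ∈ N(Z) ∩ N(K)`: `smul_mem_WK`, `mem_normalizer_iff_cj`.
`mem_ker`: `g ∈ N(S)`, `g` stabilises `W` so `g ∈ N(N)` (`le_normalizer_fixer` for `zpowers g`), and `g*u*g⁻¹*u⁻¹ ∈ S` fixes `W`. -/
namespace Cfsg.Agent.Lib.H82PQNB
open Cfsg.Agent.Lib.Helper66Fpf Cfsg.Agent.Lib.Helper66Fpf2 Cfsg.Agent.Lib.Helper66Ward2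
  Cfsg.Agent.Lib.Helper66S3a Cfsg.Agent.Lib.Helper66S3b Cfsg.Agent.Lib.Helper66S3c
  Cfsg.Agent.Lib.Helper40Sylow Cfsg.Agent.Lib.H92GREStep1 Cfsg.Agent.Lib.H82PQDefs
open Cfsg.Agent.Lib.H82PQAGd Cfsg.Agent.Lib.H82PQKQ Cfsg.Agent.Lib.H82PQBas1 Cfsg.Agent.Lib.H82PQSStrB
open scoped commutatorElement
variable {V : Type*} [CommGroup V] [Finite V] {X : Type*} [Group X] [Finite X] [MulDistribMulAction X V]
variable {p q t s r l : ℕ} {c d g : X} {S R Z K Q E Zt D : Subgroup X}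
theorem comm_le_self' (S : Subgroup X) : ⁅S, S⁆ ≤ S := by
  rw [Subgroup.commutator_le]
  intro a ha b hb
  rw [commutatorElement_def]
  exact mul_mem (mul_mem (mul_mem ha hb) (inv_mem ha)) (inv_mem hb)

theorem norm_of_cent {x : X} {A : Subgroup X} (h : ∀ z ∈ A, z * x = x * z) :
    x ∈ Subgroup.normalizer (A : Set X) := by
  rw [Subgroup.mem_normalizer_iff]
  intro z
  constructor
  · intro hz
    have e : x * z * x⁻¹ = z := by rw [← h z hz]; group
    rw [e]; exact hz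
  · intro hz
    have e : x * z * x⁻¹ = z := by
      have h1 := h _ hz
      have h2 : x * z = x * (x * z * x⁻¹) := by
        rw [← h1]; group
      exact (mul_left_cancel h2).symm
    rw [e] at hz; exact hz

theorem stab_of_norm {x : X} (hZ : x ∈ Subgroup.normalizer (Z : Set X))
    (hK : x ∈ Subgroup.normalizer (K : Set X)) : x ∈ stabW X (WK V Z K) := by
  apply mem_stabW
  intro w hw
  have := smul_mem_WK hZ hw
  rwa [mem_normalizer_iff_cj.mp hK] at this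

theorem abZ (h : Cfg V p q t s r c d S R) : ∀ x ∈ ⁅S, S⁆, ∀ y ∈ ⁅S, S⁆, x * y = y * x := by
  intro x hx y hy
  exact zc h x hx y (comm_le_self' S hy)

theorem copVZ (h : Cfg V p q t s r c d S R) : (Nat.card V).Coprime (Nat.card (⁅S, S⁆ : Subgroup X)) := by
  exact Nat.Coprime.coprime_dvd_right (Subgroup.card_dvd_of_le (comm_le_self' S)) (copVS h)

theorem S_stab (h : Cfg V p q t s r c d S R) (mx : MaxK V ⁅S, S⁆ K) : S ≤ stabW X (WK V ⁅S, S⁆ K) := by
  intro x hx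
  apply stab_of_norm
  · exact norm_of_cent (fun z hz => zc h z hz x hx)
  · exact norm_of_cent (fun z hz => zc h z (mx.le hz) x hx)

theorem R_stab (h : Cfg V p q t s r c d S R) (mx : MaxK V ⁅S, S⁆ K) : R ≤ stabW X (WK V ⁅S, S⁆ K) := by
  intro x hx
  apply stab_of_norm
  · exact norm_of_cent (fun z hz => (zr h x hx z hz).symm)
  · exact norm_of_cent (fun z hz => (zr h x hx z (mx.le hz)).symm)

theorem stab_of_ker (hg : g ∈ kerQR Z K) : g ∈ stabW X (WK V Z K) := by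
  exact stab_of_norm hg.1 hg.2.1

theorem mem_N_iff (h : Cfg V p q t s r c d S R) (mx : MaxK V ⁅S, S⁆ K) :
    ∀ z ∈ ⁅S, S⁆, z ∈ fixer S (WK V ⁅S, S⁆ K) ↔ z ∈ K := by
  intro z hz
  constructor
  · intro hzN
    exact mx.mem_of_fix hz hzN.2
  · intro hzK
    exact ⟨comm_le_self' S hz, fun w hw => hw.2 z hzK⟩

theorem S_norm (h : Cfg V p q t s r c d S R) (mx : MaxK V ⁅S, S⁆ K) :
    S ≤ Subgroup.normalizer (fixer S (WK V ⁅S, S⁆ K) : Set X) := by
  exact le_normalizer_fixer Subgroup.le_normalizer (fun x hx => (S_stab h mx hx).1)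

theorem R_norm (h : Cfg V p q t s r c d S R) (mx : MaxK V ⁅S, S⁆ K) :
    R ≤ Subgroup.normalizer (fixer S (WK V ⁅S, S⁆ K) : Set X) := by
  exact le_normalizer_fixer h.RS (fun x hx => (R_stab h mx hx).1)

theorem not_le (h : Cfg V p q t s r c d S R) (mx : MaxK V ⁅S, S⁆ K) : ¬ S ≤ fixer S (WK V ⁅S, S⁆ K) := by
  intro hle
  have hlt := mx.lt (copVZ h)
  apply not_le_of_gt hlt
  intro z hz
  exact (mem_N_iff h mx z hz).1 (hle (comm_le_self' S hz))

theorem mem_ker {W : Subgroup V} (hS : g ∈ Subgroup.normalizer (S : Set X)) (hW : g ∈ stabW X W)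
    (hf : ∀ u ∈ S, ∀ w ∈ W, (g * u * g⁻¹ * u⁻¹) • w = w) : g ∈ kerQR S (fixer S W) := by
  refine ⟨hS, ?_, ?_⟩
  · exact le_normalizer_fixer (H := Subgroup.zpowers g) (Subgroup.zpowers_le.mpr hS)
      (fun x hx => ((Subgroup.zpowers_le.mpr hW) hx).1) (Subgroup.mem_zpowers g)
  · intro u hu
    refine ⟨?_, hf u hu⟩
    exact mul_mem ((Subgroup.mem_normalizer_iff.1 hS u).1 hu) (inv_mem hu)

end Cfsg.Agent.Lib.H82PQNB
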