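import Mathlib
import Cfsg.Agent.Lib.H82PQDefs
import Cfsg.Agent.Lib.H82PQAGd
import Cfsg.Agent.Lib.H82PQKQ
import Cfsg.Agent.Lib.H82PQBas1
import Cfsg.Agent.Lib.H82PQSStrA
import Cfsg.Agent.Lib.H82PQSStrB
import Cfsg.Agent.Lib.H82PQQAct
import Cfsg.Agent.Lib.Helper30SZ
import Cfsg.Agent.Lib.Helper66Basic

set_option autoImplicit false
set_option linter.unusedSectionVars false

/-! Project 4306 (S4306), piece `SStrC` (60m).
 `u ^ s ∈ ⁅S,S⁆`.  Let `(M, π, σ)` be `QAct.qact S ⁅S,S⁆`.  `M` is a non trivial (`⁅S,S⁆ < S`) abelian `s`-group, so `m ↦ m ^ s` is not injective (Cauchy: `exists_prime_orderOf_dvd_card`), so not surjective.  `T = {u ∈ S | π u ∈ range (powMonoidHom s)}` is a proper subgroup of `S` containing `⁅S,S⁆` (so normal in `S`),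
normalised by every `y ∈ N(S)` (`N(S) ≤ N(⁅S,S⁆)`, `σ y` commutes with powers, `QD.eqv`).  `SStrA.central_of_proper` gives `C2 R T`, `SStrB.csr` gives `T ≤ ⁅S,S⁆`; and `u ^ s ∈ T`.
`zexp`: `⁅S,S⁆` is central (`SStrB.zc`), so `⁅u,v⁆ ^ s = ⁅u ^ s, v⁆` (class 2: `u ↦ ⁅u,v⁆` is multiplicative) `= 1` since `u ^ s ∈ ⁅S,S⁆` is central; `⁅S,S⁆` is abelian and generated by such commutators (`Subgroup.closure_induction`). -/
namespace Cfsg.Agent.Lib.H82PQSStrC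
open Cfsg.Agent.Lib.Helper66Fpf Cfsg.Agent.Lib.Helper66Fpf2 Cfsg.Agent.Lib.Helper66Ward2
  Cfsg.Agent.Lib.Helper66S3a Cfsg.Agent.Lib.Helper66S3b Cfsg.Agent.Lib.Helper66S3c
  Cfsg.Agent.Lib.Helper40Sylow Cfsg.Agent.Lib.H92GREStep1 Cfsg.Agent.Lib.H82PQDefs
open Cfsg.Agent.Lib.H82PQAGd Cfsg.Agent.Lib.H82PQKQ Cfsg.Agent.Lib.H82PQBas1 Cfsg.Agent.Lib.H82PQSStrA Cfsg.Agent.Lib.H82PQSStrB Cfsg.Agent.Lib.H82PQQAct
open scoped commutatorElement
variable {V : Type*} [CommGroup V] [Finite V] {X : Type*} [Group X] [Finite X] [MulDistribMulAction X V]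
variable {p q t s r l : ℕ} {c d g : X} {S R Z K Q E Zt D : Subgroup X}
theorem comm_le_S (S : Subgroup X) : ⁅S, S⁆ ≤ S := by
  rw [Subgroup.commutator_le]
  intro a ha b hb
  rw [commutatorElement_def]
  exact S.mul_mem (S.mul_mem (S.mul_mem ha hb) (S.inv_mem ha)) (S.inv_mem hb)

theorem comm_lt_S (h : Cfg V p q t s r c d S R) : ⁅S, S⁆ < S := by
  refine lt_of_le_of_ne (comm_le_S S) ?_
  intro heq
  have h1 : C2 ⁅S, S⁆ S := zc h
  rw [heq] at h1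
  have h2 := comm_of_c2 h1
  rw [heq] at h2
  exact S_ne h h2

theorem spow (h : Cfg V p q t s r c d S R) : ∀ u ∈ S, u ^ s ∈ ⁅S, S⁆ := by
  classical
  haveI : Fact s.Prime := ⟨h.sp⟩
  obtain ⟨M, iM, fM, π, σ, hQD⟩ := qact S ⁅S, S⁆ (comm_le_S S) le_rfl
  have hlt := comm_lt_S h
  -- `M` is a non trivial `s`-group
  obtain ⟨u₁, hu₁S, hu₁⟩ := SetLike.exists_of_lt hlt
  have hM1 : π ⟨u₁, hu₁S⟩ ≠ 1 := fun h0 => hu₁ ((hQD.ker ⟨u₁, hu₁S⟩).mp h0)
  have hcardM : Nat.card M ∣ Nat.card S := ⟨_, hQD.card (comm_le_S S)⟩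
  obtain ⟨k, hk⟩ := (IsPGroup.iff_card).mp h.pS
  have hsM : s ∣ Nat.card M := by
    rw [hk] at hcardM
    obtain ⟨j, -, hj⟩ := (Nat.dvd_prime_pow h.sp).mp hcardM
    rcases Nat.eq_zero_or_pos j with h0 | h0
    · exfalso
      rw [h0, pow_zero] at hj
      have hsub : Subsingleton M := (Nat.card_eq_one_iff_unique.mp hj).1
      exact hM1 (Subsingleton.elim _ _)
    · rw [hj]; exact dvd_pow_self s h0.ne'
  obtain ⟨m₁, hm₁⟩ := exists_prime_orderOf_dvd_card' s hsM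
  have hninj : ¬ Function.Injective (powMonoidHom s : M →* M) := by
    intro hinj
    have h1 : (powMonoidHom s : M →* M) m₁ = (powMonoidHom s : M →* M) 1 := by
      simp only [powMonoidHom_apply, one_pow]
      rw [← hm₁]; exact pow_orderOf_eq_one m₁
    have h2 := hinj h1
    rw [h2, orderOf_one] at hm₁
    exact h.sp.one_lt.ne hm₁
  have hnsurj : ¬ Function.Surjective (powMonoidHom s : M →* M) :=
    fun hs => hninj (Finite.injective_iff_surjective.mpr hs)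
  obtain ⟨T, hTdef⟩ : ∃ T : Subgroup X,
      T = ((powMonoidHom s : M →* M).range.comap π).map S.subtype := ⟨_, rfl⟩
  have hmemT : ∀ x : X, x ∈ T ↔ ∃ hx : x ∈ S, ∃ m : M, m ^ s = π ⟨x, hx⟩ := by
    intro x
    rw [hTdef]
    constructor
    · rintro ⟨y, ⟨m, hm⟩, rfl⟩
      exact ⟨y.2, m, hm⟩
    · rintro ⟨hx, m, hm⟩
      exact ⟨⟨x, hx⟩, ⟨m, hm⟩, rfl⟩
  have hTS : T ≤ S := fun x hx => ((hmemT x).mp hx).1
  have hTlt : T < S := by
    refine lt_of_le_of_ne hTS ?_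
    intro heq
    apply hnsurj
    intro m
    obtain ⟨u, rfl⟩ := hQD.surj m
    have h1 : (u : X) ∈ T := by rw [heq]; exact u.2
    obtain ⟨_, m', hm'⟩ := (hmemT _).mp h1
    exact ⟨m', hm'⟩
  have hNN : Subgroup.normalizer (S : Set X) ≤ Subgroup.normalizer ((⁅S, S⁆ : Subgroup X) : Set X) :=
    Cfsg.Agent.Lib.Helper30SZ.le_normalizer_commutator le_rfl le_rfl
  have hnorm : ∀ y ∈ Subgroup.normalizer (S : Set X), y ∈ Subgroup.normalizer (T : Set X) := by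
    intro y hy
    apply Cfsg.Agent.Lib.Helper66Basic.mem_normalizer_of_conj_mem
    intro x hx
    obtain ⟨hxS, m, hm⟩ := (hmemT x).mp hx
    have hx' : y * x * y⁻¹ ∈ S := (Subgroup.mem_normalizer_iff.mp hy x).mp hxS
    rw [hmemT]
    refine ⟨hx', σ ⟨y, hy, hNN hy⟩ m, ?_⟩
    rw [← map_pow, hm]
    exact hQD.eqv ⟨y, hy, hNN hy⟩ ⟨x, hxS⟩ ⟨y * x * y⁻¹, hx'⟩ rfl
  have hcen := central_of_proper h T hTlt (hnorm c h.admS.hc) (hnorm d h.admS.hd)
    (fun x hx => hnorm x (h.RS hx)) (fun x hx => hnorm x (Subgroup.le_normalizer hx))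
  intro u hu
  have huT : u ^ s ∈ T := by
    rw [hmemT]
    refine ⟨S.pow_mem hu s, π ⟨u, hu⟩, ?_⟩
    rw [← map_pow]
    rfl
  exact csr h (u ^ s) (hTS huT) (fun x hx => hcen.2 x hx (u ^ s) huT)

theorem zexp (h : Cfg V p q t s r c d S R) : ∀ z ∈ ⁅S, S⁆, z ^ s = 1 := by
  have hz := zc h
  have hle := comm_le_S S
  have hpow : ∀ u ∈ S, ∀ v ∈ S, ∀ n : ℕ, ⁅u ^ n, v⁆ = ⁅u, v⁆ ^ n := by
    intro u hu v hv n
    induction n with
    | zero => simp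
    | succ n ih =>
      have h1 : ⁅u ^ n, v⁆ ∈ ⁅S, S⁆ := Subgroup.commutator_mem_commutator (S.pow_mem hu n) hv
      have h2 : ⁅u ^ (n + 1), v⁆ = u * ⁅u ^ n, v⁆ * u⁻¹ * ⁅u, v⁆ := by
        rw [pow_succ']
        simp only [commutatorElement_def]
        group
      have h3 : u * ⁅u ^ n, v⁆ * u⁻¹ = ⁅u ^ n, v⁆ := by
        rw [← hz _ h1 u hu]; group
      rw [h2, h3, ih, pow_succ]
  have hcomm : ∀ u ∈ S, ∀ v ∈ S, ⁅u, v⁆ ^ s = 1 := by
    intro u hu v hv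
    rw [← hpow u hu v hv s, commutatorElement_eq_one_iff_mul_comm]
    exact hz _ (spow h u hu) v hv
  let W : Subgroup X :=
    { carrier := {z | z ∈ ⁅S, S⁆ ∧ z ^ s = 1}
      mul_mem' := by
        rintro a b ⟨ha, ha'⟩ ⟨hb, hb'⟩
        refine ⟨mul_mem ha hb, ?_⟩
        have hc : Commute a b := hz a ha b (hle hb)
        rw [hc.mul_pow, ha', hb', one_mul]
      one_mem' := ⟨one_mem _, one_pow _⟩
      inv_mem' := by
        rintro a ⟨ha, ha'⟩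
        exact ⟨inv_mem ha, by rw [inv_pow, ha', inv_one]⟩ }
  have hW : ⁅S, S⁆ ≤ W := by
    rw [Subgroup.commutator_le]
    intro a ha b hb
    exact ⟨Subgroup.commutator_mem_commutator ha hb, hcomm a ha b hb⟩
  intro z hzz
  exact (hW hzz).2

end Cfsg.Agent.Lib.H82PQSStrC
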