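import Mathlib
import Cfsg.Agent.Lib.H82PQDefs
import Cfsg.Agent.Lib.H82PQDefs2
import Cfsg.Agent.Lib.H82PQAGd
import Cfsg.Agent.Lib.H82PQKQ
import Cfsg.Agent.Lib.H82PQBas1
import Cfsg.Agent.Lib.H82PQSStrB
import Cfsg.Agent.Lib.H82PQSStrC
import Cfsg.Agent.Lib.H82PQNB
import Cfsg.Agent.Lib.H82PQImg
import Cfsg.Agent.Lib.H82PQCyc

set_option autoImplicit false
set_option linter.unusedSectionVars false

/-! Project 4306 (S4306), piece `TrLD` (75m).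
 The local data on `W = WK V Z K`, `Z = ⁅S,S⁆`, in the group `MulAut W` (acting faithfully on `W`): `E = img W S`, `Zt = img W Z`, `g' = resW X W ⟨g,_⟩`.
`expV`: restriction.  `pE`: `Img.isPGroup_img`.  `le`: `Img.img_mono`.  `cen`: `Img.c2_img` + `SStrB.zc`.  `comm`: `Img.img_commutator` (equality).  `pow`: `SStrC.spow`.
`card`: `Cyc.cyc (NB.abZ h) mx` gives `z₀` with `Z = ⟨z₀⟩ K`; `res` kills `K`, so `Zt = zpowers (res z₀)`; `z₀ ^ s = 1` (`SStrC.zexp`), and `res z₀ ≠ 1` because `K < Z` (`mx.lt`, `MaxK.mem_of_fix`): `orderOf (res z₀) = s`.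
`semi`: `res z ≠ 1` implies `z ∉ K`; `MaxK.semireg`.  `gE`: `Img.res_mem_normalizer`.  `gl`: `map_pow`.  `gZ`: `g*z*g⁻¹*z⁻¹ ∈ K` acts trivially on `W`.  `gf`: `hf`. -/
namespace Cfsg.Agent.Lib.H82PQTrLD
open Cfsg.Agent.Lib.Helper66Fpf Cfsg.Agent.Lib.Helper66Fpf2 Cfsg.Agent.Lib.Helper66Ward2
  Cfsg.Agent.Lib.Helper66S3a Cfsg.Agent.Lib.Helper66S3b Cfsg.Agent.Lib.Helper66S3c
  Cfsg.Agent.Lib.Helper40Sylow Cfsg.Agent.Lib.H92GREStep1 Cfsg.Agent.Lib.H82PQDefs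
open Cfsg.Agent.Lib.H82PQAGd Cfsg.Agent.Lib.H82PQKQ Cfsg.Agent.Lib.H82PQBas1 Cfsg.Agent.Lib.H82PQSStrB Cfsg.Agent.Lib.H82PQSStrC Cfsg.Agent.Lib.H82PQNB Cfsg.Agent.Lib.H82PQImg Cfsg.Agent.Lib.H82PQCyc
open scoped commutatorElement
variable {V : Type*} [CommGroup V] [Finite V] {X : Type*} [Group X] [Finite X] [MulDistribMulAction X V]
variable {p q t s r l : ℕ} {c d g : X} {S R Z K Q E Zt D : Subgroup X}
open Cfsg.Agent.Lib.H82PQDefs2
theorem comm_le_self' (S : Subgroup X) : ⁅S, S⁆ ≤ S :=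
  Subgroup.commutator_le.2 fun a ha b hb =>
    S.mul_mem (S.mul_mem (S.mul_mem ha hb) (S.inv_mem ha)) (S.inv_mem hb)

theorem trLD (h : Cfg V p q t s r c d S R) (mx : MaxK V ⁅S, S⁆ K) (lp : l.Prime) (tl : t ≠ l) (sl : s ≠ l)
    (gl : g ^ l = 1) (gS : g ∈ Subgroup.normalizer (S : Set X)) (gK : g ∈ kerQR ⁅S, S⁆ K)
    (hf : Fpf g (WK V ⁅S, S⁆ K)) (hgW : g ∈ stabW X (WK V ⁅S, S⁆ K)) :
    LD (WK V ⁅S, S⁆ K) t s l (img (WK V ⁅S, S⁆ K) S) (img (WK V ⁅S, S⁆ K) ⁅S, S⁆)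
      (resW X (WK V ⁅S, S⁆ K) ⟨g, hgW⟩) := by
  have hS : S ≤ stabW X (WK V ⁅S, S⁆ K) := S_stab h mx
  have hZS : ⁅S, S⁆ ≤ S := comm_le_self' S
  have hZ : ⁅S, S⁆ ≤ stabW X (WK V ⁅S, S⁆ K) := hZS.trans hS
  have hKfix : ∀ k ∈ K, ∀ w ∈ WK V ⁅S, S⁆ K, k • w = w := fun k hk w hw => hw.2 k hk
  have hsm : ∀ (f : MulAut (WK V ⁅S, S⁆ K)) (w : WK V ⁅S, S⁆ K), f • w = f w := fun _ _ => rfl
  have hresK : ∀ (k : X) (hk : k ∈ K) (hk' : k ∈ stabW X (WK V ⁅S, S⁆ K)),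
      resW X (WK V ⁅S, S⁆ K) ⟨k, hk'⟩ = 1 := by
    intro k hk hk'
    rw [res_eq_one_iff]
    exact hKfix k hk
  have hnotK : ∀ (z : X) (hz : z ∈ ⁅S, S⁆), resW X (WK V ⁅S, S⁆ K) ⟨z, hZ hz⟩ ≠ 1 → z ∉ K :=
    fun z hz hne hzK => hne (hresK z hzK _)
  have : Fact s.Prime := ⟨h.sp⟩
  refine
    { tp := h.tp, sp := h.sp, lp := lp, ts := h.st.symm, tl := tl, sl := sl
      expV := fun v => Subtype.ext (by simpa using h.expV (v : V))
      pE := isPGroup_img h.pS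
      le := img_mono hZS
      cen := c2_img hS hZ (zc h)
      comm := (img_commutator hS hS).le
      pow := ?_
      card := ?_
      semi := ?_
      gE := res_mem_normalizer hS hgW gS
      gl := ?_
      gZ := ?_
      gf := ?_ }
  · intro u hu
    obtain ⟨x, hx, rfl⟩ := (mem_img hS).1 hu
    refine (mem_img hZ).2 ⟨x ^ s, spow h x hx, ?_⟩
    rw [← map_pow]
    rfl
  · obtain ⟨z₀, hz₀, hcyc⟩ := cyc (abZ h) mx
    have hEq : img (WK V ⁅S, S⁆ K) ⁅S, S⁆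
        = Subgroup.zpowers (resW X (WK V ⁅S, S⁆ K) ⟨z₀, hZ hz₀⟩) := by
      apply le_antisymm
      · intro f hf'
        obtain ⟨z, hz, rfl⟩ := (mem_img hZ).1 hf'
        obtain ⟨n, hn⟩ := hcyc z hz
        refine ⟨n, ?_⟩
        show (resW X (WK V ⁅S, S⁆ K) ⟨z₀, hZ hz₀⟩) ^ n = _
        have hk' : z * (z₀ ^ n)⁻¹ ∈ stabW X (WK V ⁅S, S⁆ K) := hZ (mx.le hn)
        have h1 := hresK _ hn hk'
        have h2 : (⟨z, hZ hz⟩ : stabW X (WK V ⁅S, S⁆ K))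
            = ⟨z * (z₀ ^ n)⁻¹, hk'⟩ * (⟨z₀, hZ hz₀⟩ : stabW X (WK V ⁅S, S⁆ K)) ^ n := by
          apply Subtype.ext
          simp
        rw [h2, map_mul, h1, one_mul, map_zpow]
      · rw [Subgroup.zpowers_le]
        exact (mem_img hZ).2 ⟨z₀, hz₀, rfl⟩
    rw [hEq, Nat.card_zpowers]
    apply orderOf_eq_prime
    · rw [← map_pow]
      have h2 : (⟨z₀, hZ hz₀⟩ : stabW X (WK V ⁅S, S⁆ K)) ^ s = 1 := Subtype.ext (zexp h z₀ hz₀)
      rw [h2, map_one]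
    · intro h1
      have hz₀K : z₀ ∈ K := mx.mem_of_fix hz₀ ((res_eq_one_iff _).1 h1)
      have hlt := mx.lt (copVZ h)
      apply not_le_of_gt hlt
      intro z hz
      obtain ⟨n, hn⟩ := hcyc z hz
      have h3 : z = z * (z₀ ^ n)⁻¹ * z₀ ^ n := by group
      rw [h3]
      exact K.mul_mem hn (K.zpow_mem hz₀K n)
  · intro z' hz' hne v hv
    obtain ⟨z, hz, rfl⟩ := (mem_img hZ).1 hz'
    apply Subtype.ext
    exact mx.semireg hz (hnotK z hz hne) v.2 (congrArg Subtype.val hv)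
  · rw [← map_pow]
    have h2 : (⟨g, hgW⟩ : stabW X (WK V ⁅S, S⁆ K)) ^ l = 1 := Subtype.ext gl
    rw [h2, map_one]
  · intro u hu
    obtain ⟨z, hz, rfl⟩ := (mem_img hZ).1 hu
    ext w
    show g • z • (w : V) = z • g • (w : V)
    have hk := gK.2.2 z hz
    have hw' : z • g • (w : V) ∈ WK V ⁅S, S⁆ K := (hZ hz).1 _ (hgW.1 _ w.2)
    have h1 := hKfix _ hk _ hw'
    rw [← mul_smul, ← mul_smul] at h1
    have h2 : g * z * g⁻¹ * z⁻¹ * z * g = g * z := by group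
    rw [h2, mul_smul] at h1
    exact h1
  · intro v hv
    apply Subtype.ext
    exact hf v.1 v.2 (congrArg Subtype.val hv)

theorem ne_of_cop {a p q : ℕ} (ha : a.Prime) {H : Type*} [Group H] [Finite H] [Nontrivial H]
    (hH : IsPGroup a H) (hc : (Nat.card H).Coprime (p * q)) : a ≠ p ∧ a ≠ q := by
  have : Fact a.Prime := ⟨ha⟩
  obtain ⟨n, hn⟩ := IsPGroup.iff_card.mp hH
  have hn0 : n ≠ 0 := by
    rintro rfl
    have := Finite.one_lt_card (α := H)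
    rw [hn] at this
    simp at this
  have hdvd : a ∣ Nat.card H := by
    rw [hn]
    exact dvd_pow_self a hn0
  have hc' : a.Coprime (p * q) := Nat.Coprime.coprime_dvd_left hdvd hc
  constructor
  · rintro rfl
    have h1 : a.Coprime a := Nat.Coprime.coprime_mul_right_right hc'
    rw [Nat.coprime_self] at h1
    exact ha.one_lt.ne' h1
  · rintro rfl
    have h1 : a.Coprime a := Nat.Coprime.coprime_mul_left_right hc'
    rw [Nat.coprime_self] at h1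
    exact ha.one_lt.ne' h1

/-- the primes: `t, s, r ∉ {p, q}` -/
theorem primes (h : Cfg V p q t s r c d S R) [FaithfulSMul X V] :
    t ≠ p ∧ t ≠ q ∧ s ≠ p ∧ s ≠ q ∧ r ≠ p ∧ r ≠ q := by
  have hSne : S ≠ ⊥ := S_ne h
  have hRne : R ≠ ⊥ := by
    intro hR
    apply h.ne
    rw [hR]
    exact Subgroup.commutator_bot_right S
  have hS : Nontrivial S := (Subgroup.nontrivial_iff_ne_bot S).2 hSne
  have hR : Nontrivial R := (Subgroup.nontrivial_iff_ne_bot R).2 hRne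
  have hV : Nontrivial V := by
    by_contra hcon
    rw [not_nontrivial_iff_subsingleton] at hcon
    apply hSne
    rw [eq_bot_iff]
    intro x _
    rw [Subgroup.mem_bot]
    exact FaithfulSMul.eq_of_smul_eq_smul (α := V) (fun v => Subsingleton.elim _ _)
  have hVp : IsPGroup t V := fun v => ⟨1, by rw [pow_one]; exact h.expV v⟩
  have h1 := ne_of_cop h.tp hVp h.pq.cop
  have h2 := ne_of_cop h.sp h.pS h.admS.cop
  have h3 := ne_of_cop h.rp h.pR h.admR.cop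
  exact ⟨h1.1, h1.2, h2.1, h2.2, h3.1, h3.2⟩

end Cfsg.Agent.Lib.H82PQTrLD
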