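import Mathlib
import Cfsg.Agent.Lib.H82PQDefs
import Cfsg.Agent.Lib.H82PQDefs2
import Cfsg.Agent.Lib.H82PQAGa
import Cfsg.Agent.Lib.H82PQAGd
import Cfsg.Agent.Lib.H82PQKQ
import Cfsg.Agent.Lib.H82PQBas1
import Cfsg.Agent.Lib.H82PQSStrB
import Cfsg.Agent.Lib.H82PQNB
import Cfsg.Agent.Lib.H82PQImg
import Cfsg.Agent.Lib.H82PQTrLD
import Cfsg.Agent.Lib.H82PQExc

set_option autoImplicit false
set_option linter.unusedSectionVars false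

/-! Project 4306 (S4306), piece `CA` (40m).
 `TrLD.trLD` with `g = c`, `l = p` (`TrLD.primes`, `NB.stab_of_ker`).  `Exc.exc_c` in `MulAut W` (faithful on `W`: instance `MulAut.apply_faithfulSMul`) with the prime `q ≠ s`, `q ∣ p - 1` (`AGa.q_dvd`): `C1 (res c) (img W S)`.  `Img.of_c1_img` + `NB.mem_ker`. -/
namespace Cfsg.Agent.Lib.H82PQCA
open Cfsg.Agent.Lib.Helper66Fpf Cfsg.Agent.Lib.Helper66Fpf2 Cfsg.Agent.Lib.Helper66Ward2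
  Cfsg.Agent.Lib.Helper66S3a Cfsg.Agent.Lib.Helper66S3b Cfsg.Agent.Lib.Helper66S3c
  Cfsg.Agent.Lib.Helper40Sylow Cfsg.Agent.Lib.H92GREStep1 Cfsg.Agent.Lib.H82PQDefs
open Cfsg.Agent.Lib.H82PQAGa Cfsg.Agent.Lib.H82PQAGd Cfsg.Agent.Lib.H82PQKQ Cfsg.Agent.Lib.H82PQBas1 Cfsg.Agent.Lib.H82PQSStrB Cfsg.Agent.Lib.H82PQNB Cfsg.Agent.Lib.H82PQImg Cfsg.Agent.Lib.H82PQTrLD Cfsg.Agent.Lib.H82PQExc
open scoped commutatorElement
open Cfsg.Agent.Lib.H82PQDefs2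
variable {V : Type*} [CommGroup V] [Finite V] {X : Type*} [Group X] [Finite X] [MulDistribMulAction X V]
variable {p q t s r l : ℕ} {c d g : X} {S R Z K Q E Zt D : Subgroup X}
theorem ca [FaithfulSMul X V] (h : Cfg V p q t s r c d S R) (mx : MaxK V ⁅S, S⁆ K) (hc : c ∈ kerQR ⁅S, S⁆ K)
    (hf : Fpf c (WK V ⁅S, S⁆ K)) : c ∈ kerQR S (fixer S (WK V ⁅S, S⁆ K)) := by
  have hgW : c ∈ stabW X (WK V ⁅S, S⁆ K) := stab_of_ker hc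
  obtain ⟨tp', -, sp', sq', -, -⟩ := primes h
  have ld := trLD h mx h.pq.fg.pp tp' sp' h.pq.fg.cp h.admS.hc hc hf hgW
  have c1 : C1 (resW X (WK V ⁅S, S⁆ K) ⟨c, hgW⟩) (img (WK V ⁅S, S⁆ K) S) :=
    exc_c ld h.pq.fg.qp (Ne.symm sq') (q_dvd h.pq.fg)
  exact mem_ker h.admS.hc hgW (of_c1_img (S_stab h mx) hgW c1)

end Cfsg.Agent.Lib.H82PQCA
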