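import Mathlib
import Cfsg.Agent.Lib.H82PQDefs
import Cfsg.Agent.Lib.H82PQStar
import Cfsg.Agent.Lib.H82PQExt
import Cfsg.Agent.Lib.H82PQCL
import Cfsg.Agent.S0026

set_option autoImplicit false
set_option linter.unusedSectionVars false

/-! Project 4306 (S4306), piece `ExcFin` (60m).
 `C₀ = E ⊓ centralizer {g}` has order `4`, so it is abelian (`IsPGroup.commutative_of_card_eq_prime_sq`).  (i) `C₀` centralises `E₁ = cm E g`: for `u ∈ C₀` the set `{e ∈ E | e*u = u*e}`.. better: for `e ∈ E` put `κ e = e*u*e⁻¹*u⁻¹ ∈ Zt` (central), `κ (e e') = κ e * κ e'`, `κ (g e g⁻¹) = g (κ e) g⁻¹ = κ e`; so `κ (g e g⁻¹ e⁻¹) = 1`, and the centraliser of `u` contains the generators of `⁅E, zpowers g⁆` (for the powers of `g` too).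
(ii) `E = E₁ ⊔ C₀` (`Cfsg.Agent.S0026.result`), so `C₀ ≤ Z(E)`.  (iii) `ZE = E ⊓ centralizer E` is abelian, `g`-invariant: `Star.star` gives `ZE ≤ C₀`.  So `C₀ = ZE` is normalised by `D`.
(iv) `Zt < C₀` (`2 < 4`): take `u ∈ C₀ \ Zt`.  `D` acts by conjugation on the 2-element set `C₀ \ Zt` and `D` is an `r`-group, `r ≠ 2`: the orbit of `u` has `r`-power size `≤ 2`, so `D` fixes `u` (or: `x u x⁻¹ ∈ {u, u z}`, `Zt = {1,z}`; the elements of `D` fixing `u` form a subgroup of index `≤ 2`).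
(v) `CL.cl D` gives `u ∈ Zt`: contradiction. -/
namespace Cfsg.Agent.Lib.H82PQExcFin
open Cfsg.Agent.Lib.Helper66Fpf Cfsg.Agent.Lib.Helper66Fpf2 Cfsg.Agent.Lib.Helper66Ward2
  Cfsg.Agent.Lib.Helper66S3a Cfsg.Agent.Lib.Helper66S3b Cfsg.Agent.Lib.Helper66S3c
  Cfsg.Agent.Lib.Helper40Sylow Cfsg.Agent.Lib.H92GREStep1 Cfsg.Agent.Lib.H82PQDefs
open Cfsg.Agent.Lib.H82PQStar Cfsg.Agent.Lib.H82PQExt Cfsg.Agent.Lib.H82PQCL
open scoped commutatorElement
variable {V : Type*} [CommGroup V] [Finite V] {X : Type*} [Group X] [Finite X] [MulDistribMulAction X V]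
variable {p q t s r l : ℕ} {c d g : X} {S R Z K Q E Zt D : Subgroup X}
theorem excfin [FaithfulSMul X V] (h : LD V t s l E Zt g) (s2 : s = 2) (rp : r.Prime) (pD : IsPGroup r D) (rs : r ≠ s)
    (DE : D ≤ Subgroup.normalizer (E : Set X)) (DZ : C2 D Zt) (hE : ⁅E, D⁆ ⊔ Zt = E)
    (h4 : Nat.card (E ⊓ Subgroup.centralizer {g} : Subgroup X) = 4) : False := by
  have hsp : s.Prime := h.sp
  have hA : Subgroup.zpowers g ≤ Subgroup.normalizer (E : Set X) := Subgroup.zpowers_le.2 h.gE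
  have hcop := LD.cop_g h
  have hsolv : Group.IsSolvable (Subgroup.zpowers g) :=
    Group.isSolvable_of_comm (by
      rintro ⟨_, i, rfl⟩ ⟨_, j, rfl⟩
      exact Subtype.ext (zpow_mul_comm g i j))
  obtain ⟨C₀, hC₀⟩ : ∃ C₀ : Subgroup X, C₀ = E ⊓ Subgroup.centralizer {g} := ⟨_, rfl⟩
  rw [← hC₀] at h4
  have hmemC : ∀ u, u ∈ C₀ ↔ u ∈ E ∧ g * u = u * g := by
    intro u
    rw [hC₀, Subgroup.mem_inf, Subgroup.mem_centralizer_singleton_iff]
    constructor
    · rintro ⟨a, b⟩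
      exact ⟨a, b.symm⟩
    · rintro ⟨a, b⟩
      exact ⟨a, b.symm⟩
  -- `C₀` is abelian
  have habC : ∀ x ∈ C₀, ∀ y ∈ C₀, x * y = y * x := by
    haveI : Fact (Nat.Prime 2) := ⟨Nat.prime_two⟩
    have hc : Nat.card C₀ = 2 ^ 2 := by rw [h4]; norm_num
    intro x hx y hy
    have := IsPGroup.commutative_of_card_eq_prime_sq hc ⟨x, hx⟩ ⟨y, hy⟩
    exact congrArg Subtype.val this
  -- (i)
  have hi : ∀ u ∈ C₀, ∀ w ∈ cm E g, w * u = u * w := by
    intro u hu
    obtain ⟨huE, hgu⟩ := (hmemC u).1 hu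
    have hle : cm E g ≤ Subgroup.centralizer {u} := by
      unfold cm
      rw [Subgroup.commutator_le]
      intro e he a ha
      rw [Subgroup.mem_centralizer_singleton_iff, commutatorElement_def]
      have hau : a * u = u * a := zpow_comm hgu a ha
      have hau' : a⁻¹ * u = u * a⁻¹ := by
        calc a⁻¹ * u = a⁻¹ * (u * a) * a⁻¹ := by group
          _ = a⁻¹ * (a * u) * a⁻¹ := by rw [hau]
          _ = u * a⁻¹ := by group
      have hz : e⁻¹ * u * e * u⁻¹ ∈ Zt := by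
        apply h.comm
        have := Subgroup.commutator_mem_commutator (E.inv_mem he) huE
        rwa [commutatorElement_def, inv_inv] at this
      have hze : (e⁻¹ * u * e * u⁻¹) * e = e * (e⁻¹ * u * e * u⁻¹) := h.cen _ hz e he
      have hza : a * (e⁻¹ * u * e * u⁻¹) = (e⁻¹ * u * e * u⁻¹) * a := zpow_comm (h.gZ _ hz) a ha
      calc e * a * e⁻¹ * a⁻¹ * u = e * a * e⁻¹ * (a⁻¹ * u) := by group
        _ = e * a * e⁻¹ * (u * a⁻¹) := by rw [hau']
        _ = e * (a * (e⁻¹ * u * e * u⁻¹)) * u * e⁻¹ * a⁻¹ := by group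
        _ = e * ((e⁻¹ * u * e * u⁻¹) * a) * u * e⁻¹ * a⁻¹ := by rw [hza]
        _ = u * e * u⁻¹ * (a * u) * e⁻¹ * a⁻¹ := by group
        _ = u * e * u⁻¹ * (u * a) * e⁻¹ * a⁻¹ := by rw [hau]
        _ = u * (e * a * e⁻¹ * a⁻¹) := by group
    intro w hw
    exact Subgroup.mem_centralizer_singleton_iff.1 (hle hw)
  -- (ii)
  have hii : cm E g ⊔ C₀ = E := by
    have h1 := Cfsg.Agent.S0026.result (Subgroup.zpowers g) E hA hcop (Or.inl hsolv)
    have h2 : E ⊓ Subgroup.centralizer (Subgroup.zpowers g : Set X) = C₀ := by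
      ext u
      rw [hmemC, Subgroup.mem_inf, Subgroup.mem_centralizer_iff]
      constructor
      · rintro ⟨a, b⟩
        exact ⟨a, b g (Subgroup.mem_zpowers g)⟩
      · rintro ⟨a, b⟩
        exact ⟨a, fun x hx => zpow_comm b x hx⟩
    rw [h2] at h1
    exact h1
  have hcenE : ∀ u ∈ C₀, ∀ w ∈ E, w * u = u * w := by
    intro u hu
    have hle : cm E g ⊔ C₀ ≤ Subgroup.centralizer {u} := by
      refine sup_le (fun w hw => ?_) (fun w hw => ?_)
      · exact Subgroup.mem_centralizer_singleton_iff.2 (hi u hu w hw)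
      · exact Subgroup.mem_centralizer_singleton_iff.2 (habC w hw u hu)
    rw [hii] at hle
    intro w hw
    exact Subgroup.mem_centralizer_singleton_iff.1 (hle hw)
  -- (iii)
  have hZE : ∀ u, u ∈ E ⊓ Subgroup.centralizer (E : Set X) → u ∈ C₀ := by
    intro u hu
    have hc := star h (E ⊓ Subgroup.centralizer (E : Set X)) inf_le_left
      (fun x hx y hy => (Subgroup.mem_centralizer_iff.1 hx.2 y hy.1).symm)
      (mem_normalizer_center h.gE)
    exact (hmemC u).2 ⟨hu.1, hc u hu⟩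
  have hDC : ∀ x ∈ D, ∀ u ∈ C₀, x * u * x⁻¹ ∈ C₀ := by
    intro x hx u hu
    apply hZE
    apply conj_mem_center (DE hx)
    refine Subgroup.mem_inf.2 ⟨((hmemC u).1 hu).1, ?_⟩
    rw [Subgroup.mem_centralizer_iff]
    intro w hw
    exact hcenE u hu w hw
  -- (iv)
  have hZC : Zt ≤ C₀ := fun z hz => (hmemC z).2 ⟨h.le hz, h.gZ z hz⟩
  have hidx : (Zt.subgroupOf C₀).index = 2 := by
    have h1 := Subgroup.card_mul_index (Zt.subgroupOf C₀)
    rw [Nat.card_congr (Subgroup.subgroupOfEquivOfLe hZC).toEquiv, h.card, s2, h4] at h1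
    omega
  obtain ⟨u, huC, huZ⟩ : ∃ u ∈ C₀, u ∉ Zt := by
    by_contra hno
    push_neg at hno
    have : C₀ = Zt := le_antisymm hno hZC
    rw [this, h.card, s2] at h4
    omega
  have hDu : ∀ x ∈ D, x * u = u * x := by
    intro x hx
    have hxu : x * u * x⁻¹ ∈ C₀ := hDC x hx u huC
    have hxuZ : x * u * x⁻¹ ∉ Zt := by
      intro hz
      apply huZ
      have h1 := DZ x⁻¹ (D.inv_mem hx) _ hz
      have h2 : u = x⁻¹ * (x * u * x⁻¹) * x := by group
      rw [h2, h1, inv_mul_cancel_right]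
      exact hz
    have hz : x * u * x⁻¹ * u⁻¹ ∈ Zt := by
      have := (Subgroup.mul_mem_iff_of_index_two hidx (a := ⟨x * u * x⁻¹, hxu⟩)
        (b := ⟨u⁻¹, C₀.inv_mem huC⟩)).2
        ⟨fun hh => absurd (Subgroup.mem_subgroupOf.1 hh) hxuZ,
         fun hh => absurd (by simpa using Zt.inv_mem (Subgroup.mem_subgroupOf.1 hh)) huZ⟩
      exact Subgroup.mem_subgroupOf.1 this
    obtain ⟨z, hzd⟩ : ∃ z, z = x * u * x⁻¹ * u⁻¹ := ⟨_, rfl⟩
    rw [← hzd] at hz
    have hxz : x * z = z * x := DZ x hx z hz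
    have hxu' : x * u = z * u * x := by rw [hzd]; group
    have hpow : ∀ n : ℕ, x ^ n * u = z ^ n * u * x ^ n := by
      intro n
      induction n with
      | zero => simp
      | succ n ih =>
        have hxzn : x * z ^ n = z ^ n * x := ((show Commute x z from hxz).pow_right n).eq
        calc x ^ (n + 1) * u = x * (x ^ n * u) := by rw [pow_succ']; group
          _ = x * (z ^ n * u * x ^ n) := by rw [ih]
          _ = (x * z ^ n) * u * x ^ n := by group
          _ = z ^ n * (x * u) * x ^ n := by rw [hxzn]; group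
          _ = z ^ n * (z * u * x) * x ^ n := by rw [hxu']
          _ = z ^ (n + 1) * u * x ^ (n + 1) := by rw [pow_succ, pow_succ']; group
    obtain ⟨k, hk⟩ := pD ⟨x, hx⟩
    have hk' : x ^ r ^ k = 1 := by
      have := congrArg Subtype.val hk
      simpa using this
    have e1 : z ^ r ^ k = 1 := by
      have := hpow (r ^ k)
      rw [hk', one_mul, mul_one] at this
      exact (mul_eq_right.1 this.symm)
    have e2 : z ^ 2 = 1 := by
      have := pow_card_eq_one' (G := Zt) (x := ⟨z, hz⟩)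
      rw [h.card, s2] at this
      have := congrArg Subtype.val this
      simpa using this
    have e3 : orderOf z ∣ Nat.gcd (r ^ k) 2 :=
      Nat.dvd_gcd (orderOf_dvd_of_pow_eq_one e1) (orderOf_dvd_of_pow_eq_one e2)
    have e4 : Nat.gcd (r ^ k) 2 = 1 :=
      Nat.Coprime.pow_left k ((Nat.coprime_primes rp Nat.prime_two).2 (s2 ▸ rs))
    rw [e4, Nat.dvd_one, orderOf_eq_one_iff] at e3
    rw [hxu', e3, one_mul]
  -- (v)
  have hcopD : (Nat.card D).Coprime (Nat.card E) := by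
    haveI : Fact r.Prime := ⟨rp⟩
    haveI : Fact s.Prime := ⟨hsp⟩
    obtain ⟨a, ha⟩ := IsPGroup.iff_card.1 pD
    obtain ⟨b, hb⟩ := IsPGroup.iff_card.1 h.pE
    rw [ha, hb]
    exact Nat.Coprime.pow a b ((Nat.coprime_primes rp hsp).2 rs)
  have hDZn : D ≤ Subgroup.normalizer (Zt : Set X) := fun x hx =>
    mem_normalizer_of_C1 (fun z hz => DZ x hx z hz)
  exact huZ (cl D h.le h.comm DE hDZn hcopD hE u ((hmemC u).1 huC).1 hDu)

end Cfsg.Agent.Lib.H82PQExcFin
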