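import Mathlib
import Cfsg.Agent.Lib.H82PQDefs
import Cfsg.Agent.Lib.H82PQStar
import Cfsg.Agent.Lib.H82PQExt
import Cfsg.Agent.Lib.Helper65RelHall
import Cfsg.Agent.Lib.Helper30SZ
import Cfsg.Agent.S0026

set_option autoImplicit false
set_option linter.unusedSectionVars false

/-! Project 4306 (S4306), piece `ExcProd` (40m).
 `E = E₁ C₀`, `E₁ = cm E g` normal in `E`, `C₀ = E ⊓ centralizer {g}` (`Cfsg.Agent.S0026.result (zpowers g) E`; `centralizer (zpowers g) = centralizer {g}`), `E₁ ⊓ C₀ = Zt` (`Ext.ext`; `Zt ≤ E₁`, `h.gZ`).  Product formula `|E₁ ⊔ C₀| |E₁ ⊓ C₀| = |E₁| |C₀|` (`Subgroup.card_mul_eq..`/`Subgroup.relIndex_sup..`, second isomorphism theorem `QuotientGroup.quotientInfEquivProdNormalQuotient`).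
`arith`: `e = 2^(2n+a)`, so `2n+a+l = 1+a*l` (`Nat.pow_right_injective`), i.e. `2n + 2^n = a 2^n`; `n = 1, 2` give `a = 2`; for `n ≥ 3`, `2n < 2^n` is impossible. -/
namespace Cfsg.Agent.Lib.H82PQExcProd
open Cfsg.Agent.Lib.Helper66Fpf Cfsg.Agent.Lib.Helper66Fpf2 Cfsg.Agent.Lib.Helper66Ward2
  Cfsg.Agent.Lib.Helper66S3a Cfsg.Agent.Lib.Helper66S3b Cfsg.Agent.Lib.Helper66S3c
  Cfsg.Agent.Lib.Helper40Sylow Cfsg.Agent.Lib.H92GREStep1 Cfsg.Agent.Lib.H82PQDefs
open Cfsg.Agent.Lib.H82PQStar Cfsg.Agent.Lib.H82PQExt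
open scoped commutatorElement
variable {V : Type*} [CommGroup V] [Finite V] {X : Type*} [Group X] [Finite X] [MulDistribMulAction X V]
variable {p q t s r l : ℕ} {c d g : X} {S R Z K Q E Zt D : Subgroup X}
theorem excprod [FaithfulSMul X V] (h : LD V t s l E Zt g) (hn : ¬ C1 g E) :
    Nat.card E * s = Nat.card (cm E g) * Nat.card (E ⊓ Subgroup.centralizer {g} : Subgroup X) := by
  obtain ⟨h1, h2, h3, h4, h5, h6⟩ := ext h hn
  have hcz : Subgroup.centralizer ((Subgroup.zpowers g : Subgroup X) : Set X)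
      = Subgroup.centralizer {g} := by
    ext x
    rw [Subgroup.mem_centralizer_iff, Subgroup.mem_centralizer_iff]
    constructor
    · intro hx y hy
      rw [Set.mem_singleton_iff] at hy
      rw [hy]
      exact hx g (Subgroup.mem_zpowers g)
    · intro hx y hy
      obtain ⟨k, rfl⟩ := Subgroup.mem_zpowers_iff.mp hy
      have hc : Commute g x := hx g (Set.mem_singleton g)
      exact (hc.zpow_left k)
  have hgE : Subgroup.zpowers g ≤ Subgroup.normalizer (E : Set X) := Subgroup.zpowers_le.mpr h.gE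
  have hsup : cm E g ⊔ (E ⊓ Subgroup.centralizer {g}) = E := by
    have h0 := Cfsg.Agent.S0026.result (Subgroup.zpowers g) E hgE (LD.cop_g h) (Or.inl inferInstance)
    rwa [hcz] at h0
  have hinf : (E ⊓ Subgroup.centralizer {g}) ⊓ cm E g = Zt := by
    apply le_antisymm
    · rintro u ⟨⟨_, hu2⟩, hu3⟩
      exact h5 u hu3 (Subgroup.mem_centralizer_iff.mp hu2 g (Set.mem_singleton g))
    · intro u hu
      refine ⟨⟨h.le hu, ?_⟩, h3 hu⟩
      change u ∈ Subgroup.centralizer {g}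
      rw [Subgroup.mem_centralizer_iff]
      intro y hy
      rw [Set.mem_singleton_iff] at hy
      rw [hy]
      exact h.gZ u hu
  have hN : (E ⊓ Subgroup.centralizer {g}) ≤ Subgroup.normalizer ((cm E g : Subgroup X) : Set X) := by
    apply Cfsg.Agent.Lib.Helper30SZ.le_normalizer_commutator
    · exact inf_le_left.trans Subgroup.le_normalizer
    · rw [← hcz]
      exact inf_le_right.trans (Subgroup.centralizer_le_normalizer _)
  have h7 := Cfsg.Agent.Lib.Helper65RelHall.card_sup_mul_card_inf (E ⊓ Subgroup.centralizer {g})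
    (cm E g) hN
  rw [sup_comm, hsup, hinf, h.card] at h7
  rw [h7, mul_comm]

theorem two_mul_lt_two_pow (n : ℕ) (hn : 3 ≤ n) : 2 * n < 2 ^ n := by
  induction n, hn using Nat.le_induction with
  | base => norm_num
  | succ k hk ih => rw [pow_succ]; omega

theorem arith {n a e : ℕ} (hl : l = 2 ^ n + 1) (hn : n ≠ 0) (h1 : e * 2 = 2 ^ (2 * n + 1) * 2 ^ a)
    (h2 : e * 2 ^ l = 2 * (2 ^ a) ^ l) : a = 2 := by
  have he : e = 2 ^ (2 * n + a) := by
    have h3 : e * 2 = 2 ^ (2 * n + a) * 2 := by rw [h1]; ring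
    exact Nat.eq_of_mul_eq_mul_right (by norm_num) h3
  rw [he] at h2
  have h4 : 2 ^ (2 * n + a + l) = 2 ^ (1 + a * l) := by
    calc 2 ^ (2 * n + a + l) = 2 ^ (2 * n + a) * 2 ^ l := by rw [pow_add]
      _ = 2 * (2 ^ a) ^ l := h2
      _ = 2 ^ (1 + a * l) := by rw [pow_add, pow_one, pow_mul]
  have h5 : 2 * n + a + l = 1 + a * l := Nat.pow_right_injective (le_refl 2) h4
  rw [hl] at h5
  have h6 : 2 * n + 2 ^ n = a * 2 ^ n := by
    have : a * (2 ^ n + 1) = a * 2 ^ n + a := by ring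
    omega
  rcases Nat.lt_or_ge n 3 with h | h
  · interval_cases n
    · exact absurd rfl hn
    · norm_num at h6; omega
    · norm_num at h6; omega
  · exfalso
    have h7 := two_mul_lt_two_pow n h
    rcases Nat.lt_or_ge a 2 with ha | ha
    · have : a * 2 ^ n ≤ 1 * 2 ^ n := Nat.mul_le_mul_right _ (by omega)
      omega
    · have : 2 * 2 ^ n ≤ a * 2 ^ n := Nat.mul_le_mul_right _ ha
      omega

end Cfsg.Agent.Lib.H82PQExcProd
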