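import Mathlib
import Cfsg.Agent.Lib.H82PQDefs
import Cfsg.Agent.Lib.H24FMMain

set_option autoImplicit false
set_option linter.unusedSectionVars false

/-! Project 4306 (S4306), piece `FCa` (60m).
 Pure linear algebra.  `HFree σ ⊤` gives `W` with `iSupIndep (fun h => W.map (σ h))` and `⨆ h, W.map (σ h) = ⊤`.  The map `Φ : (H → W) → V`, `f ↦ ∑ h, σ h (f h)` is bijective (injective by independence and injectivity of each `σ h`; surjective by the supremum: `Submodule.mem_iSup_iff_exists_finsupp`/`iSupIndep` + `DirectSum.IsInternal`, or compare cardinalities/finrank).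
So `|V| = |W|^|H|`.  `σ x (Φ f) = Φ (fun h => f (x⁻¹ * h))`, so `Φ f` is fixed by all `x` iff `f` is constant: the fixed vectors are in bijection with `W`. -/
namespace Cfsg.Agent.Lib.H82PQFCa
open Cfsg.Agent.Lib.H24FMDefs
theorem card_of_hfree {k V H : Type*} [Field k] [AddCommGroup V] [Module k V] [Finite V] [Group H] [Finite H]
    (σ : Representation k H V) (h : HFree σ ⊤) :
    Nat.card V = (Nat.card {v : V // ∀ x : H, σ x v = v}) ^ Nat.card H := by
  classical
  haveI := Fintype.ofFinite H
  obtain ⟨W, hind, hsup⟩ := h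
  have hmul : ∀ (x y : H) (v : V), σ x (σ y v) = σ (x * y) v := fun x y v => by
    rw [map_mul]; rfl
  have hinj : ∀ x : H, Function.Injective (σ x) := fun x a b hab => by
    have := congrArg (σ x⁻¹) hab
    rw [hmul, hmul, inv_mul_cancel, map_one] at this
    exact this
  let Φ : (H → W) → V := fun f => ∑ x, σ x (f x : V)
  have hΦinj : Function.Injective Φ := by
    intro f f' hff
    have h0 : ∑ x, σ x ((f x : V) - (f' x : V)) = 0 := by
      simp only [map_sub, Finset.sum_sub_distrib]
      exact sub_eq_zero.2 hff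
    have key := (iSupIndep_iff_finsetSum_eq_zero_imp_eq_zero _).1 hind Finset.univ
      (fun x => σ x ((f x : V) - (f' x : V)))
      (fun x _ => Submodule.mem_map_of_mem (W.sub_mem (f x).2 (f' x).2)) h0
    funext x
    have hx := key x (Finset.mem_univ x)
    have h1 : (f x : V) - (f' x : V) = 0 := hinj x (by rw [hx, map_zero])
    exact Subtype.ext (sub_eq_zero.1 h1)
  have hΦsurj : Function.Surjective Φ := by
    intro v
    have hv : v ∈ ⨆ x ∈ (Finset.univ : Finset H), W.map (σ x) := by simp [hsup]
    obtain ⟨μ, hμ⟩ := (Submodule.mem_iSup_finset_iff_exists_sum _ v).1 hv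
    choose w hw hwμ using fun x => Submodule.mem_map.1 (μ x).2
    refine ⟨fun x => ⟨w x, hw x⟩, ?_⟩
    show ∑ x, σ x (w x) = v
    rw [← hμ]
    exact Finset.sum_congr rfl (fun x _ => hwμ x)
  have hcardV : Nat.card V = Nat.card W ^ Nat.card H := by
    rw [← Nat.card_congr (Equiv.ofBijective Φ ⟨hΦinj, hΦsurj⟩), Nat.card_fun]
  have hshift : ∀ (x : H) (f : H → W), σ x⁻¹ (Φ f) = Φ (fun y => f (x * y)) := by
    intro x f
    show σ x⁻¹ (∑ y, σ y (f y : V)) = ∑ y, σ y (f (x * y) : V)
    rw [map_sum]
    simp_rw [hmul]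
    exact (Fintype.sum_equiv (Equiv.mulLeft x) _ _ (fun y => by simp)).symm
  have hfix : Nat.card {v : V // ∀ x : H, σ x v = v} = Nat.card W := by
    symm
    refine Nat.card_congr (Equiv.ofBijective
      (fun w : W => (⟨Φ (fun _ => w), ?_⟩ : {v : V // ∀ x : H, σ x v = v})) ⟨?_, ?_⟩)
    · intro x
      have := hshift x⁻¹ (fun _ => w)
      rwa [inv_inv] at this
    · intro w w' hww
      have := hΦinj (congrArg Subtype.val hww)
      exact congrFun this 1
    · rintro ⟨v, hv⟩
      obtain ⟨f, rfl⟩ := hΦsurj v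
      have hconst : ∀ x, f x = f 1 := by
        intro x
        have h1 := hshift x f
        rw [hv] at h1
        have h2 := congrFun (hΦinj h1) 1
        simpa using h2.symm
      refine ⟨f 1, Subtype.ext ?_⟩
      show Φ (fun _ => f 1) = Φ f
      congr 1
      funext x
      exact (hconst x).symm
  rw [hcardV, hfix]

end Cfsg.Agent.Lib.H82PQFCa
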