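import Mathlib
import Cfsg.Agent.Lib.H82PQDefs
import Cfsg.Agent.Lib.H24FMMain
import Cfsg.Agent.Lib.H82PQFCa

set_option autoImplicit false
set_option linter.unusedSectionVars false

/-! Project 4306 (S4306), piece `FCb` (60m).
 If `gb = 1` then `fpfD` gives `Db = ⊥`, `CM` gives `M` trivial: both sides are `1`.  Otherwise `zpowers gb` has `l` elements.  `Additive M` is a `ZMod s`-vector space (`AddCommGroup.zmodModule`, `Fact s.Prime`), `ρ : Representation (ZMod s) (MulAut M) (Additive M)`
(`MulEquiv.toAdditive`, additive maps between `ZMod s`-modules are linear: `AddMonoidHom.toZModLinearMap`).  `Cfsg.Agent.Lib.H24FMMain.main ρ Db (zpowers gb)` : `Db` abelian so nilpotent, `(card Db : ZMod s) ≠ 0` by coprimality, every `1 ≠ h ∈ zpowers gb` generates it, so it is fixed point free on `Db`.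
Then `FCa.card_of_hfree`; a vector is fixed by `zpowers gb` iff it is fixed by `gb`. -/
namespace Cfsg.Agent.Lib.H82PQFCb

/-- the natural representation of `MulAut M` on `Additive M` -/
def rho {M : Type*} [CommGroup M] (s : ℕ) [Module (ZMod s) (Additive M)] :
    Representation (ZMod s) (MulAut M) (Additive M) where
  toFun f := AddMonoidHom.toZModLinearMap s (MonoidHom.toAdditive f.toMonoidHom)
  map_one' := by ext v; rfl
  map_mul' := by intro f g; ext v; rfl

theorem rho_apply {M : Type*} [CommGroup M] (s : ℕ) [Module (ZMod s) (Additive M)]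
    (f : MulAut M) (v : Additive M) : rho s f v = Additive.ofMul (f (Additive.toMul v)) := rfl

theorem fcmod_aux {M : Type*} [CommGroup M] [Finite M] {s l : ℕ} [Module (ZMod s) (Additive M)]
    (sp : s.Prime) (lp : l.Prime)
    (Db : Subgroup (MulAut M)) (gb : MulAut M) (gl : gb ^ l = 1)
    (gD : gb ∈ Subgroup.normalizer (Db : Set (MulAut M))) (copD : (Nat.card Db).Coprime s)
    (abD : ∀ x ∈ Db, ∀ y ∈ Db, x * y = y * x) (fpfD : ∀ x ∈ Db, gb * x = x * gb → x = 1)
    (CM : ∀ m : M, (∀ x ∈ Db, x m = m) → m = 1) (hg1 : ¬ gb = 1) :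
    Nat.card M = (Nat.card {m : M // gb m = m}) ^ l := by
  classical
  have : Fact s.Prime := ⟨sp⟩
  have : Fact l.Prime := ⟨lp⟩
  have hord : orderOf gb = l := orderOf_eq_prime gl hg1
  have hcz : Nat.card (Subgroup.zpowers gb) = l := by rw [Nat.card_zpowers, hord]
  let ρ : Representation (ZMod s) (MulAut M) (Additive M) := rho s
  have hρ : ∀ (f : MulAut M) (v : Additive M), ρ f v = Additive.ofMul (f (Additive.toMul v)) :=
    fun f v => rfl
  have : Finite (MulAut M) :=
    Finite.of_injective (fun f : MulAut M => (f : M → M)) DFunLike.coe_injective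
  have : Finite (Additive M) := inferInstanceAs (Finite M)
  have : FiniteDimensional (ZMod s) (Additive M) := Module.Finite.of_finite
  have hnil : Group.IsNilpotent ↥Db := by
    let inst : CommGroup Db :=
      { (inferInstance : Group Db) with
        mul_comm := fun a b => Subtype.ext (abD a a.2 b b.2) }
    exact @CommGroup.isNilpotent Db inst
  have hcard : (Nat.card Db : ZMod s) ≠ 0 := by
    rw [Ne, ZMod.natCast_eq_zero_iff]
    exact (Nat.Prime.coprime_iff_not_dvd sp).1 copD.symm
  have hzn : Subgroup.zpowers gb ≤ Subgroup.normalizer (Db : Set (MulAut M)) :=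
    Subgroup.zpowers_le.2 gD
  have hHF : ∀ h ∈ Subgroup.zpowers gb, ∀ f ∈ Db, h * f * h⁻¹ ∈ Db := by
    intro h hh f hf
    exact (Subgroup.mem_normalizer_iff.1 (hzn hh) f).1 hf
  have hfpf : ∀ h ∈ Subgroup.zpowers gb, h ≠ 1 → ∀ f ∈ Db, h * f = f * h → f = 1 := by
    intro h hh h1 f hf hc
    apply fpfD f hf
    have hmem : (⟨gb, Subgroup.mem_zpowers gb⟩ : Subgroup.zpowers gb) ∈
        Subgroup.zpowers (⟨h, hh⟩ : Subgroup.zpowers gb) :=
      mem_zpowers_of_prime_card hcz (fun h0 => h1 (congrArg Subtype.val h0))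
    obtain ⟨k, hk⟩ := hmem
    have hk' : h ^ k = gb := by
      have := congrArg Subtype.val hk
      simpa using this
    have hcm : Commute h f := hc
    rw [← hk']
    exact (hcm.zpow_left k)
  have hCF : ∀ v : Additive M, (∀ f ∈ Db, ρ f v = v) → v = 0 := by
    intro v hv
    have : Additive.toMul v = 1 := by
      apply CM
      intro x hx
      exact congrArg Additive.toMul (hv x hx)
    exact congrArg Additive.ofMul this
  have hfree := Cfsg.Agent.Lib.H24FMMain.main ρ Db (Subgroup.zpowers gb) hnil hcard hHF hfpf hCF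
  have hc := Cfsg.Agent.Lib.H82PQFCa.card_of_hfree _ hfree
  rw [hcz] at hc
  have h1 : Nat.card (Additive M) = Nat.card M := rfl
  have h2 : Nat.card {v : Additive M // ∀ x : Subgroup.zpowers gb,
      (ρ.comp (Subgroup.zpowers gb).subtype) x v = v} = Nat.card {m : M // gb m = m} := by
    apply Nat.card_congr
    apply Equiv.subtypeEquiv Additive.toMul
    intro v
    constructor
    · intro hv
      exact congrArg Additive.toMul (hv ⟨gb, Subgroup.mem_zpowers gb⟩)
    · intro hv x
      have hle : Subgroup.zpowers gb ≤ MulAction.stabilizer (MulAut M) (Additive.toMul v) := by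
        rw [Subgroup.zpowers_le, MulAction.mem_stabilizer_iff]
        exact hv
      have := hle x.2
      rw [MulAction.mem_stabilizer_iff] at this
      exact congrArg Additive.ofMul this
  rw [← h1, hc, h2]


theorem fcmod {M : Type*} [CommGroup M] [Finite M] {s l : ℕ} (sp : s.Prime) (lp : l.Prime) (expM : ∀ m : M, m ^ s = 1)
    (Db : Subgroup (MulAut M)) (gb : MulAut M) (gl : gb ^ l = 1)
    (gD : gb ∈ Subgroup.normalizer (Db : Set (MulAut M))) (copD : (Nat.card Db).Coprime s)
    (abD : ∀ x ∈ Db, ∀ y ∈ Db, x * y = y * x) (fpfD : ∀ x ∈ Db, gb * x = x * gb → x = 1)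
    (CM : ∀ m : M, (∀ x ∈ Db, x m = m) → m = 1) : Nat.card M = (Nat.card {m : M // gb m = m}) ^ l := by
  classical
  by_cases hg1 : gb = 1
  · have hD : ∀ x ∈ Db, x = 1 := by
      intro x hx
      apply fpfD x hx
      rw [hg1, one_mul, mul_one]
    have hM : ∀ m : M, m = 1 := by
      intro m
      apply CM
      intro x hx
      rw [hD x hx, MulAut.one_apply]
    have : Subsingleton M := ⟨fun a b => by rw [hM a, hM b]⟩
    have h1 : Nat.card M = 1 := Nat.card_unique
    have : Nonempty {m : M // gb m = m} := ⟨⟨1, map_one _⟩⟩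
    have h2 : Nat.card {m : M // gb m = m} = 1 := Nat.card_unique
    rw [h1, h2, one_pow]
  · exact @fcmod_aux M _ _ s l (AddCommGroup.zmodModule (by
      intro x
      exact congrArg Additive.ofMul (expM (Additive.toMul x)))) sp lp Db gb gl gD copD abD fpfD CM hg1

end Cfsg.Agent.Lib.H82PQFCb
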