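import Mathlib
import Cfsg.Agent.Lib.H82PQDefs
import Cfsg.Agent.Lib.H82PQQAct
import Cfsg.Agent.S0022

set_option autoImplicit false
set_option linter.unusedSectionVars false

/-! Project 4306 (S4306), piece `QFix` (40m).
 Direct from `Cfsg.Agent.S0022.result B E hBE hcop (Or.inl hsol) Zt hle (E ≤ N(Zt) since ⁅E,E⁆ ≤ Zt ≤ E ..) hBZ u u.2 _` : `σ y (π u) = π u` means `y*u*y⁻¹*u⁻¹ ∈ Zt` (`QD.eqv`, `QD.ker`). -/
namespace Cfsg.Agent.Lib.H82PQQFix
open Cfsg.Agent.Lib.H82PQQAct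
open scoped commutatorElement
universe u
theorem qfix {X : Type u} [Group X] [Finite X] {E Zt : Subgroup X} {M : Type u} [CommGroup M] {π : E →* M}
    {σ : ↥(Subgroup.normalizer (E : Set X) ⊓ Subgroup.normalizer (Zt : Set X)) →* MulAut M} (h : QD E Zt M π σ)
    (hle : Zt ≤ E) (hcomm : ⁅E, E⁆ ≤ Zt) (B : Subgroup X)
    (hB : B ≤ Subgroup.normalizer (E : Set X) ⊓ Subgroup.normalizer (Zt : Set X))
    (hcop : (Nat.card B).Coprime (Nat.card E)) (hsol : Group.IsSolvable B) (u : E)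
    (hu : ∀ (y : X) (hy : y ∈ B), σ ⟨y, hB hy⟩ (π u) = π u) :
    ∃ u' : E, (∀ y ∈ B, y * (u' : X) = u' * y) ∧ π u' = π u := by
  have hBE : B ≤ Subgroup.normalizer (E : Set X) := hB.trans inf_le_left
  have hBZ : B ≤ Subgroup.normalizer (Zt : Set X) := hB.trans inf_le_right
  have hEZ : E ≤ Subgroup.normalizer (Zt : Set X) := by
    intro e he
    rw [Subgroup.mem_normalizer_iff]
    intro z
    constructor
    · intro hz
      have h1 : ⁅e, z⁆ ∈ Zt := hcomm (Subgroup.commutator_mem_commutator he (hle hz))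
      have h2 : e * z * e⁻¹ = ⁅e, z⁆ * z := by rw [commutatorElement_def]; group
      rw [h2]; exact Zt.mul_mem h1 hz
    · intro hz
      have h1 : ⁅e⁻¹, e * z * e⁻¹⁆ ∈ Zt :=
        hcomm (Subgroup.commutator_mem_commutator (E.inv_mem he) (hle hz))
      have h2 : z = ⁅e⁻¹, e * z * e⁻¹⁆ * (e * z * e⁻¹) := by rw [commutatorElement_def]; group
      rw [h2]; exact Zt.mul_mem h1 hz
  have hfix : ∀ a ∈ B, a * (u : X) * a⁻¹ * (u : X)⁻¹ ∈ Zt := by
    intro a ha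
    have haE : a * (u : X) * a⁻¹ ∈ E := (Subgroup.mem_normalizer_iff.1 (hBE ha) _).1 u.2
    have h1 := h.eqv ⟨a, hB ha⟩ u ⟨a * u * a⁻¹, haE⟩ rfl
    rw [hu a ha] at h1
    have h2 : π (⟨a * u * a⁻¹, haE⟩ * u⁻¹) = 1 := by rw [map_mul, map_inv, ← h1, mul_inv_cancel]
    exact (h.ker _).1 h2
  obtain ⟨c, hc, hcu⟩ :=
    Cfsg.Agent.S0022.result B E hBE hcop (Or.inl hsol) Zt hle hEZ hBZ u u.2 hfix
  refine ⟨⟨c, hc.1⟩, ?_, ?_⟩
  · intro y hy
    exact Subgroup.mem_centralizer_iff.1 hc.2 y hy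
  · have h3 : π (u⁻¹ * ⟨c, hc.1⟩) = 1 := (h.ker _).2 hcu
    rw [map_mul, map_inv, inv_mul_eq_one] at h3
    exact h3.symm

end Cfsg.Agent.Lib.H82PQQFix
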