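import Mathlib
import Cfsg.Agent.Lib.H82PQDefs
import Cfsg.Agent.Lib.H82PQStar
import Cfsg.Agent.Lib.H82PQQAct
import Cfsg.Agent.Lib.H82PQQFix
import Cfsg.Agent.Lib.H82PQCL
import Cfsg.Agent.Lib.H82PQFCb
import Cfsg.Agent.S0055

set_option autoImplicit false
set_option linter.unusedSectionVars false

/-! Project 4306 (S4306), piece `FC` (75m).
 `(M, π, σ)` from `QAct.qact E Zt`.  `Y = N(E) ⊓ N(Zt)` contains `D` and `g`.  `Db = (D.subgroupOf Y).map σ`, `gb = σ ⟨g,_⟩`.  `expM` from `h.pow`.  `Db` is abelian (`DD`: `⁅D,D⁆` centralises `E`, so `σ` kills it), an `r`-group, `⁅Db, zpowers gb⁆ = Db` (image of `cm D g = D`, `Subgroup.map_commutator`),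
so by `Cfsg.Agent.S0055.result (zpowers gb) Db` (coprime, `r ≠ l`) `gb` has no fixed point on `Db`.  `CM`: if `π u` is fixed by `Db`, `QFix.qfix` (with `B = D`, nilpotent so solvable) gives `u'` centralised by `D` with `π u' = π u`, `CL.cl D` gives `u' ∈ Zt`: `π u = 1`.
`FCb.fcmod`: `|M| = |Fix gb|^l`.  `|E| = |M| s` (`QD.card`).  `Fix gb = π (C_E(g))` (`QFix.qfix` with `B = zpowers g`) and `Zt ≤ C_E(g)`: `|C_E(g)| = |Fix gb| s` (restrict `π` to `C_E(g)`: kernel `Zt`, image `Fix gb`).  Hence `|E| s^l = |M| s s^l = s (|Fix| s)^l`. -/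
namespace Cfsg.Agent.Lib.H82PQFC
open Cfsg.Agent.Lib.Helper66Fpf Cfsg.Agent.Lib.Helper66Fpf2 Cfsg.Agent.Lib.Helper66Ward2
  Cfsg.Agent.Lib.Helper66S3a Cfsg.Agent.Lib.Helper66S3b Cfsg.Agent.Lib.Helper66S3c
  Cfsg.Agent.Lib.Helper40Sylow Cfsg.Agent.Lib.H92GREStep1 Cfsg.Agent.Lib.H82PQDefs
open Cfsg.Agent.Lib.H82PQStar Cfsg.Agent.Lib.H82PQQAct Cfsg.Agent.Lib.H82PQQFix Cfsg.Agent.Lib.H82PQCL Cfsg.Agent.Lib.H82PQFCb
open scoped commutatorElement
variable {V : Type*} [CommGroup V] [Finite V] {X : Type*} [Group X] [Finite X] [MulDistribMulAction X V]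
variable {p q t s r l : ℕ} {c d g : X} {S R Z K Q E Zt D : Subgroup X}
theorem mem_nrm_of_C1 {x : X} {Q : Subgroup X} (hx : C1 x Q) : x ∈ Subgroup.normalizer (Q : Set X) := by
  rw [Subgroup.mem_normalizer_iff]
  intro u
  constructor
  · intro hu
    rw [hx u hu, mul_assoc, mul_inv_cancel, mul_one]; exact hu
  · intro hu
    have h1 := hx _ hu
    have h2 : x * u * x⁻¹ = u := by
      have : x * (x * u * x⁻¹) = x * u := by rw [h1]; group
      exact mul_left_cancel this
    rw [← h2]; exact hu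

theorem cop_of_pgroups {a b : ℕ} (ha : a.Prime) (hb : b.Prime) (hab : a ≠ b) {A B : Subgroup X}
    (hA : IsPGroup a A) (hB : IsPGroup b B) : (Nat.card A).Coprime (Nat.card B) := by
  haveI : Fact a.Prime := ⟨ha⟩
  haveI : Fact b.Prime := ⟨hb⟩
  obtain ⟨i, hi⟩ := hA.exists_card_eq
  obtain ⟨j, hj⟩ := hB.exists_card_eq
  rw [hi, hj]
  exact Nat.Coprime.pow _ _ ((Nat.coprime_primes ha hb).2 hab)

local notation "Y" => (Subgroup.normalizer (E : Set X) ⊓ Subgroup.normalizer (Zt : Set X) : Subgroup X)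

theorem fc (h : LD V t s l E Zt g) (rp : r.Prime) (pD : IsPGroup r D) (rs : r ≠ s) (rl : r ≠ l)
    (DE : D ≤ Subgroup.normalizer (E : Set X)) (DZ : C2 D Zt) (gD : g ∈ Subgroup.normalizer (D : Set X))
    (DD : C2 ⁅D, D⁆ E) (Dg : cm D g = D) (hE : ⁅E, D⁆ ⊔ Zt = E) :
    Nat.card E * s ^ l = s * (Nat.card (E ⊓ Subgroup.centralizer {g} : Subgroup X)) ^ l := by
  haveI : Fact r.Prime := ⟨rp⟩
  haveI : Fact s.Prime := ⟨h.sp⟩
  obtain ⟨M, _, _, π, σ, hQ⟩ := qact E Zt h.le h.comm
  have DZn : D ≤ Subgroup.normalizer (Zt : Set X) := fun x hx => mem_nrm_of_C1 (DZ x hx)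
  have hDY : D ≤ Subgroup.normalizer (E : Set X) ⊓ Subgroup.normalizer (Zt : Set X) := le_inf DE DZn
  have hgY : g ∈ Subgroup.normalizer (E : Set X) ⊓ Subgroup.normalizer (Zt : Set X) :=
    ⟨h.gE, mem_nrm_of_C1 h.gZ⟩
  set g' : Y := ⟨g, hgY⟩ with hg'
  set D' : Subgroup Y := D.subgroupOf Y with hD'
  set Db : Subgroup (MulAut M) := D'.map σ with hDb
  set gb : MulAut M := σ g' with hgb
  have copDE : (Nat.card D).Coprime (Nat.card E) := cop_of_pgroups rp h.sp rs pD h.pE
  -- elements centralising E act trivially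
  have triv : ∀ y : Y, (∀ u ∈ E, (y : X) * u = u * y) → σ y = 1 := by
    intro y hy
    ext m
    obtain ⟨u, rfl⟩ := hQ.surj m
    rw [hQ.eqv y u u (by rw [hy u u.2, mul_assoc, mul_inv_cancel, mul_one])]
    rfl
  have expM : ∀ m : M, m ^ s = 1 := by
    intro m
    obtain ⟨u, rfl⟩ := hQ.surj m
    rw [← map_pow, hQ.ker]
    simpa using h.pow u u.2
  have gl : gb ^ l = 1 := by
    rw [hgb, ← map_pow]
    have : g' ^ l = 1 := Subtype.ext (by simpa using h.gl)
    rw [this, map_one]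
  have g'D : g' ∈ Subgroup.normalizer (D' : Set Y) := by
    rw [Subgroup.mem_normalizer_iff]
    intro y
    have := (Subgroup.mem_normalizer_iff.1 gD) (y : X)
    simpa [hD', Subgroup.mem_subgroupOf] using this
  have gbD : gb ∈ Subgroup.normalizer (Db : Set (MulAut M)) :=
    Subgroup.le_normalizer_map σ (Subgroup.mem_map_of_mem σ g'D)
  have pD' : IsPGroup r D' := pD.comap_subtype
  have pDb : IsPGroup r Db := pD'.map σ
  have copD : (Nat.card Db).Coprime s := by
    obtain ⟨i, hi⟩ := pDb.exists_card_eq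
    rw [hi]
    exact Nat.Coprime.pow_left _ ((Nat.coprime_primes rp h.sp).2 rs)
  have abD : ∀ x ∈ Db, ∀ y ∈ Db, x * y = y * x := by
    rintro _ ⟨a, ha, rfl⟩ _ ⟨b, hb, rfl⟩
    have h1 : σ ⁅a, b⁆ = 1 := by
      apply triv
      intro u hu
      apply DD _ _ u hu
      have : ((⁅a, b⁆ : Y) : X) = ⁅(a : X), (b : X)⁆ := by simp [commutatorElement_def]
      rw [this]
      exact Subgroup.commutator_mem_commutator ha hb
    rw [map_commutatorElement, commutatorElement_eq_one_iff_mul_comm] at h1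
    exact h1
  have commD' : ⁅D', Subgroup.zpowers g'⁆ = D' := by
    apply Subgroup.map_injective (Subgroup.subtype_injective Y)
    rw [Subgroup.map_commutator, MonoidHom.map_zpowers, hD', Subgroup.map_subgroupOf_eq_of_le hDY]
    exact Dg
  have commDb : ⁅Db, Subgroup.zpowers gb⁆ = Db := by
    rw [hDb, hgb, ← MonoidHom.map_zpowers, ← Subgroup.map_commutator, commD']
  have fpfD : ∀ x ∈ Db, gb * x = x * gb → x = 1 := by
    intro x hx hxg
    haveI : IsMulCommutative Db := ⟨⟨fun a b => Subtype.ext (abD a a.2 b b.2)⟩⟩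
    have hAV : Subgroup.zpowers gb ≤ Subgroup.normalizer (Db : Set (MulAut M)) := by
      rw [Subgroup.zpowers_le]; exact gbD
    have hcop : (Nat.card (Subgroup.zpowers gb)).Coprime (Nat.card Db) := by
      obtain ⟨i, hi⟩ := pDb.exists_card_eq
      rw [hi, Nat.card_zpowers]
      apply Nat.Coprime.pow_right
      apply Nat.Coprime.coprime_dvd_left (orderOf_dvd_of_pow_eq_one gl)
      exact (Nat.coprime_primes h.lp rp).2 rl.symm
    have h55 := (Cfsg.Agent.S0055.result (Subgroup.zpowers gb) Db hAV hcop).1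
    rw [commDb] at h55
    have : x ∈ (Db ⊓ Subgroup.centralizer (Subgroup.zpowers gb : Set (MulAut M))) ⊓ Db := by
      refine Subgroup.mem_inf.2 ⟨Subgroup.mem_inf.2 ⟨hx, ?_⟩, hx⟩
      rw [Subgroup.mem_centralizer_iff]
      intro y hy
      obtain ⟨k, rfl⟩ := Subgroup.mem_zpowers_iff.1 hy
      exact (Commute.zpow_left (show Commute gb x from hxg) k)
    rw [h55] at this
    exact Subgroup.mem_bot.1 this
  have CM : ∀ m : M, (∀ x ∈ Db, x m = m) → m = 1 := by
    intro m hm
    obtain ⟨u, rfl⟩ := hQ.surj m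
    haveI : Group.IsNilpotent D := pD.isNilpotent
    obtain ⟨u', hu', hπ⟩ := qfix hQ h.le h.comm D hDY copDE inferInstance u
      (fun y hy => hm _ (Subgroup.mem_map_of_mem σ (show (⟨y, hDY hy⟩ : Y) ∈ D' from hy)))
    rw [← hπ, hQ.ker]
    exact cl D h.le h.comm DE DZn copDE hE u' u'.2 hu'
  have hfc := fcmod h.sp h.lp expM Db gb gl gbD copD abD fpfD CM
  have hcardE : Nat.card E = Nat.card M * s := by rw [hQ.card h.le, h.card]
  -- the centraliser
  set C : Subgroup X := E ⊓ Subgroup.centralizer {g} with hC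
  let f : C →* M := π.comp (Subgroup.inclusion inf_le_left)
  have hker : Nat.card f.ker = s := by
    rw [← h.card, ← Subgroup.card_map_of_injective C.subtype_injective]
    congr 1
    apply congrArg
    ext z
    constructor
    · rintro ⟨w, hw, rfl⟩
      exact (hQ.ker _).1 hw
    · intro hz
      have hzC : z ∈ C := Subgroup.mem_inf.2 ⟨h.le hz, by
        rw [Subgroup.mem_centralizer_iff]
        intro y hy
        rw [Set.mem_singleton_iff.1 hy]
        exact h.gZ z hz⟩
      exact ⟨⟨z, hzC⟩, (hQ.ker _).2 hz, rfl⟩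
  have hrange : Nat.card f.range = Nat.card {m : M // gb m = m} := by
    apply Nat.card_congr
    apply Equiv.subtypeEquivRight
    intro m
    constructor
    · rintro ⟨w, rfl⟩
      have hw : g * (w : X) = w * g := by
        have := Subgroup.mem_centralizer_iff.1 w.2.2 g (Set.mem_singleton g)
        exact this
      exact hQ.eqv g' _ _ (by
        show (w : X) = g * w * g⁻¹
        rw [hw, mul_assoc, mul_inv_cancel, mul_one])
    · intro hm
      obtain ⟨u, rfl⟩ := hQ.surj m
      have hzY : Subgroup.zpowers g ≤ Y := by rw [Subgroup.zpowers_le]; exact hgY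
      haveI : Group.IsSolvable (Subgroup.zpowers g) :=
        Group.isSolvable_of_comm (fun a b => by
          obtain ⟨i, hi⟩ := Subgroup.mem_zpowers_iff.1 a.2
          obtain ⟨j, hj⟩ := Subgroup.mem_zpowers_iff.1 b.2
          apply Subtype.ext
          show (a : X) * b = b * a
          rw [← hi, ← hj, ← zpow_add, ← zpow_add, add_comm])
      obtain ⟨u', hu', hπ⟩ := qfix hQ h.le h.comm (Subgroup.zpowers g) hzY (LD.cop_g h) inferInstance u
        (by
          intro y hy
          obtain ⟨k, rfl⟩ := Subgroup.mem_zpowers_iff.1 hy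
          have e1 : (⟨g ^ k, hzY hy⟩ : Y) = g' ^ k := Subtype.ext (by simp [hg'])
          rw [e1, map_zpow]
          have hst : gb ∈ MulAction.stabilizer (MulAut M) (π u) := hm
          exact (Subgroup.zpow_mem _ hst k))
      have hu'C : (u' : X) ∈ C := Subgroup.mem_inf.2 ⟨u'.2, by
        rw [Subgroup.mem_centralizer_iff]
        intro y hy
        rw [Set.mem_singleton_iff.1 hy]
        exact hu' g (Subgroup.mem_zpowers g)⟩
      exact ⟨⟨u', hu'C⟩, hπ⟩
  have hcardC : Nat.card C = Nat.card {m : M // gb m = m} * s := by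
    rw [← Subgroup.card_mul_index f.ker, Subgroup.index_ker, hker, hrange, mul_comm]
  rw [hcardE, hcardC, hfc, mul_pow]
  ring

end Cfsg.Agent.Lib.H82PQFC
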