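import Mathlib
import Cfsg.Agent.Lib.H82PQDefs
import Cfsg.Agent.Lib.H82PQStar
import Cfsg.Agent.Lib.H82PQExt
import Cfsg.Agent.Lib.H82PQExc
import Cfsg.Agent.Lib.H82PQFC
import Cfsg.Agent.Lib.H82PQExcProd
import Cfsg.Agent.Lib.H82PQExcFin

set_option autoImplicit false
set_option linter.unusedSectionVars false

/-! Project 4306 (S4306), piece `LTcore` (40m).
 If `C1 g E`: `centralizer E ⊓ N(E)`.. for `x ∈ D`, `j ∈ zpowers g`: `x*j*x⁻¹*j⁻¹` centralises `E` (`j` does, and `x` normalises `E`), so `D = ⁅D, zpowers g⁆` centralises `E` (`Subgroup.commutator_le`, `centralizer E` is a subgroup).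
Otherwise `Exc.exc`: `s = 2`, `l = 2^n+1`, `|cm E g| = 2^(2n+1)`, `n ≠ 0` as `l ≠ s`; `|C₀| = 2^a` (`C₀ ≤ E` is a 2-group, `IsPGroup.iff_card`); `ExcProd.excprod`, `FC.fc`, `ExcProd.arith` give `a = 2`, `|C₀| = 4`; `ExcFin.excfin`. -/
namespace Cfsg.Agent.Lib.H82PQLTcore
open Cfsg.Agent.Lib.Helper66Fpf Cfsg.Agent.Lib.Helper66Fpf2 Cfsg.Agent.Lib.Helper66Ward2
  Cfsg.Agent.Lib.Helper66S3a Cfsg.Agent.Lib.Helper66S3b Cfsg.Agent.Lib.Helper66S3c
  Cfsg.Agent.Lib.Helper40Sylow Cfsg.Agent.Lib.H92GREStep1 Cfsg.Agent.Lib.H82PQDefs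
open Cfsg.Agent.Lib.H82PQStar Cfsg.Agent.Lib.H82PQExt Cfsg.Agent.Lib.H82PQExc Cfsg.Agent.Lib.H82PQFC Cfsg.Agent.Lib.H82PQExcProd Cfsg.Agent.Lib.H82PQExcFin
open scoped commutatorElement
variable {V : Type*} [CommGroup V] [Finite V] {X : Type*} [Group X] [Finite X] [MulDistribMulAction X V]
variable {p q t s r l : ℕ} {c d g : X} {S R Z K Q E Zt D : Subgroup X}
theorem ltcore [FaithfulSMul X V] (h : LD V t s l E Zt g) (rp : r.Prime) (pD : IsPGroup r D) (rs : r ≠ s) (rl : r ≠ l)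
    (DE : D ≤ Subgroup.normalizer (E : Set X)) (DZ : C2 D Zt) (gD : g ∈ Subgroup.normalizer (D : Set X))
    (DD : C2 ⁅D, D⁆ E) (Dg : cm D g = D) (hE : ⁅E, D⁆ ⊔ Zt = E) : C2 D E := by
  by_cases hn : C1 g E
  · have hg : Subgroup.zpowers g ≤ Subgroup.centralizer (E : Set X) := by
      rw [Subgroup.zpowers_le, Subgroup.mem_centralizer_iff]
      intro u hu
      exact (hn u hu).symm
    have hle : ⁅D, Subgroup.zpowers g⁆ ≤ Subgroup.centralizer (E : Set X) := by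
      rw [Subgroup.commutator_le]
      intro x hx j hj
      have hj' := hg hj
      rw [commutatorElement_def]
      refine Subgroup.mul_mem _ ?_ (Subgroup.inv_mem _ hj')
      rw [Subgroup.mem_centralizer_iff]
      intro u hu
      have hu' : x⁻¹ * u * x⁻¹⁻¹ ∈ E :=
        (Subgroup.mem_normalizer_iff.mp (Subgroup.inv_mem _ (DE hx)) u).mp hu
      have h1 := Subgroup.mem_centralizer_iff.mp hj' _ hu'
      calc u * (x * j * x⁻¹) = x * ((x⁻¹ * u * x⁻¹⁻¹) * j) * x⁻¹ := by group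
        _ = x * (j * (x⁻¹ * u * x⁻¹⁻¹)) * x⁻¹ := by rw [h1]
        _ = x * j * x⁻¹ * u := by group
    intro x hx u hu
    have hx' : x ∈ ⁅D, Subgroup.zpowers g⁆ := by
      have : cm D g = ⁅D, Subgroup.zpowers g⁆ := rfl
      rw [← this, Dg]; exact hx
    exact (Subgroup.mem_centralizer_iff.mp (hle hx') u hu).symm
  · exfalso
    obtain ⟨s2, n, hl, hc⟩ := exc h hn
    have hn0 : n ≠ 0 := by
      rintro rfl
      apply h.sl
      rw [s2, hl]; norm_num
    have hp2 : IsPGroup s (E ⊓ Subgroup.centralizer {g} : Subgroup X) := h.pE.to_le inf_le_left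
    have : Fact s.Prime := ⟨h.sp⟩
    obtain ⟨a, ha⟩ := IsPGroup.iff_card.mp hp2
    have h1 := excprod h hn
    have h2 := fc h rp pD rs rl DE DZ gD DD Dg hE
    rw [hc, ha, s2] at h1
    rw [ha, s2] at h2
    have ha2 : a = 2 := arith hl hn0 h1 h2
    apply excfin h s2 rp pD rs DE DZ hE
    rw [ha, s2, ha2]; norm_num

end Cfsg.Agent.Lib.H82PQLTcore
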