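import Mathlib
import Cfsg.Agent.Lib.H82PQDefs
import Cfsg.Agent.Lib.H82PQStar
import Cfsg.Agent.Lib.H82PQLTcore
import Cfsg.Agent.Lib.Helper30SZ
import Cfsg.Agent.S0027

set_option autoImplicit false
set_option linter.unusedSectionVars false

/-! Project 4306 (S4306), piece `LT2` (40m).
 Reduction: `E₀ = ⁅E, D⁆ ⊔ Zt ≤ E`, normalised by `g` and `D` (both normalise `E`, `D`, `Zt`).  `LD.sub`.  `⁅E₀, D⁆ ⊔ Zt = E₀` because `⁅⁅E,D⁆,D⁆ = ⁅E,D⁆` (`Cfsg.Agent.S0027.result D E`, coprime `r ≠ s`, `D` nilpotent so solvable).  `LTcore.ltcore` for `E₀`: `D` centralises `⁅E,D⁆`, so `⁅⁅E,D⁆,D⁆ = ⊥ = ⁅E,D⁆`, i.e. `C2 D E`. -/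
namespace Cfsg.Agent.Lib.H82PQLT2
open Cfsg.Agent.Lib.Helper66Fpf Cfsg.Agent.Lib.Helper66Fpf2 Cfsg.Agent.Lib.Helper66Ward2
  Cfsg.Agent.Lib.Helper66S3a Cfsg.Agent.Lib.Helper66S3b Cfsg.Agent.Lib.Helper66S3c
  Cfsg.Agent.Lib.Helper40Sylow Cfsg.Agent.Lib.H92GREStep1 Cfsg.Agent.Lib.H82PQDefs
open Cfsg.Agent.Lib.H82PQStar Cfsg.Agent.Lib.H82PQLTcore
open scoped commutatorElement
variable {V : Type*} [CommGroup V] [Finite V] {X : Type*} [Group X] [Finite X] [MulDistribMulAction X V]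
variable {p q t s r l : ℕ} {c d g : X} {S R Z K Q E Zt D : Subgroup X}
theorem conj_mem_sup {H K : Subgroup X} {b : X} (hH : b ∈ Subgroup.normalizer (H : Set X))
    (hK : b ∈ Subgroup.normalizer (K : Set X)) {x : X} (hx : x ∈ H ⊔ K) : b * x * b⁻¹ ∈ H ⊔ K := by
  have h1 : (MulAut.conj b).toMonoidHom x ∈ (H ⊔ K).map (MulAut.conj b).toMonoidHom :=
    Subgroup.mem_map_of_mem _ hx
  rw [Subgroup.map_sup] at h1
  have hH' : H.map (MulAut.conj b).toMonoidHom ≤ H := by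
    rintro _ ⟨y, hy, rfl⟩
    exact (Subgroup.mem_normalizer_iff.mp hH y).mp hy
  have hK' : K.map (MulAut.conj b).toMonoidHom ≤ K := by
    rintro _ ⟨y, hy, rfl⟩
    exact (Subgroup.mem_normalizer_iff.mp hK y).mp hy
  exact (sup_le_sup hH' hK') h1

theorem mem_normalizer_sup' {H K : Subgroup X} {b : X} (hH : b ∈ Subgroup.normalizer (H : Set X))
    (hK : b ∈ Subgroup.normalizer (K : Set X)) :
    b ∈ Subgroup.normalizer ((H ⊔ K : Subgroup X) : Set X) := by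
  rw [Subgroup.mem_normalizer_iff]
  intro x
  constructor
  · exact fun hx => conj_mem_sup hH hK hx
  · intro hx
    have h1 := conj_mem_sup (Subgroup.inv_mem _ hH) (Subgroup.inv_mem _ hK) hx
    have h2 : b⁻¹ * (b * x * b⁻¹) * b⁻¹⁻¹ = x := by group
    rwa [h2] at h1

theorem mem_normalizer_of_C1 {Z : Subgroup X} {b : X} (hb : ∀ u ∈ Z, b * u = u * b) :
    b ∈ Subgroup.normalizer (Z : Set X) := by
  rw [Subgroup.mem_normalizer_iff]
  intro x
  constructor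
  · intro hx
    rw [hb x hx, mul_assoc, mul_inv_cancel, mul_one]; exact hx
  · intro hx
    have h1 := hb _ hx
    have h2 : b * x * b⁻¹ = x := by
      have h3 : b * (b * x * b⁻¹) = b * x := by
        rw [h1]; group
      exact mul_left_cancel h3
    rwa [h2] at hx

theorem lt2 [FaithfulSMul X V] (h : LD V t s l E Zt g) (rp : r.Prime) (pD : IsPGroup r D) (rs : r ≠ s) (rl : r ≠ l)
    (DE : D ≤ Subgroup.normalizer (E : Set X)) (DZ : C2 D Zt) (gD : g ∈ Subgroup.normalizer (D : Set X))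
    (DD : C2 ⁅D, D⁆ E) (Dg : cm D g = D) : C2 D E := by
  haveI := Fact.mk rp
  haveI := Fact.mk h.sp
  have hED : ⁅E, D⁆ ≤ E := Cfsg.Agent.Lib.Helper30SZ.commutator_le_of_le_normalizer DE
  have hE₀ : ⁅E, D⁆ ⊔ Zt ≤ E := sup_le hED h.le
  have hgED : g ∈ Subgroup.normalizer ((⁅E, D⁆ : Subgroup X) : Set X) := by
    have h1 : Subgroup.zpowers g ≤ Subgroup.normalizer ((⁅E, D⁆ : Subgroup X) : Set X) :=
      Cfsg.Agent.Lib.Helper30SZ.le_normalizer_commutator (Subgroup.zpowers_le.mpr h.gE)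
        (Subgroup.zpowers_le.mpr gD)
    exact h1 (Subgroup.mem_zpowers g)
  have hg₀ : g ∈ Subgroup.normalizer ((⁅E, D⁆ ⊔ Zt : Subgroup X) : Set X) :=
    mem_normalizer_sup' hgED (mem_normalizer_of_C1 h.gZ)
  have h₀ : LD V t s l (⁅E, D⁆ ⊔ Zt) Zt g := LD.sub h hE₀ le_sup_right hg₀
  have hDED : D ≤ Subgroup.normalizer ((⁅E, D⁆ : Subgroup X) : Set X) :=
    Cfsg.Agent.Lib.Helper30SZ.le_normalizer_commutator DE Subgroup.le_normalizer
  have hD₀ : D ≤ Subgroup.normalizer ((⁅E, D⁆ ⊔ Zt : Subgroup X) : Set X) := by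
    intro x hx
    exact mem_normalizer_sup' (hDED hx) (mem_normalizer_of_C1 (DZ x hx))
  have hcop : (Nat.card D).Coprime (Nat.card E) := by
    obtain ⟨a, ha⟩ := IsPGroup.iff_card.mp pD
    obtain ⟨b, hb⟩ := IsPGroup.iff_card.mp h.pE
    rw [ha, hb]
    exact Nat.Coprime.pow _ _ ((Nat.coprime_primes rp h.sp).mpr rs)
  have hnil : Group.IsNilpotent ↥D := pD.isNilpotent
  have h27 : ⁅⁅E, D⁆, D⁆ = ⁅E, D⁆ := Cfsg.Agent.S0027.result D E DE hcop (Or.inl inferInstance)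
  have hcomm₀ : ⁅⁅E, D⁆ ⊔ Zt, D⁆ = ⁅E, D⁆ := by
    apply le_antisymm
    · exact Subgroup.commutator_mono hE₀ le_rfl
    · calc ⁅E, D⁆ = ⁅⁅E, D⁆, D⁆ := h27.symm
        _ ≤ ⁅⁅E, D⁆ ⊔ Zt, D⁆ := Subgroup.commutator_mono le_sup_left le_rfl
  have hc := ltcore h₀ rp pD rs rl hD₀ DZ gD (fun x hx u hu => DD x hx u (hE₀ hu)) Dg
    (by rw [hcomm₀])
  have hbot : ⁅⁅E, D⁆, D⁆ = ⊥ := by
    rw [Subgroup.commutator_eq_bot_iff_le_centralizer]
    intro u hu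
    rw [Subgroup.mem_centralizer_iff]
    intro x hx
    exact hc x hx u (le_sup_left (a := ⁅E, D⁆) (b := Zt) hu)
  rw [h27] at hbot
  rw [Subgroup.commutator_eq_bot_iff_le_centralizer] at hbot
  intro x hx u hu
  exact Subgroup.mem_centralizer_iff.mp (hbot hu) x hx

end Cfsg.Agent.Lib.H82PQLT2
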