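import Mathlib
import Cfsg.Agent.Lib.H82PQDefs
import Cfsg.Agent.Lib.H82PQDefs2
import Cfsg.Agent.Lib.H82PQAGa
import Cfsg.Agent.Lib.H82PQAGd
import Cfsg.Agent.Lib.H82PQKQ
import Cfsg.Agent.Lib.H82PQBas1
import Cfsg.Agent.Lib.H82PQSStrB
import Cfsg.Agent.Lib.H82PQNB
import Cfsg.Agent.Lib.H82PQImg
import Cfsg.Agent.Lib.H82PQTrLD
import Cfsg.Agent.Lib.H82PQLT2

set_option autoImplicit false
set_option linter.unusedSectionVars false

/-! Project 4306 (S4306), piece `CB` (50m).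
 `TrLD.trLD` with `g = d`, `l = q`.  `LT2.lt2` in `MulAut W` with `D' = img W D`: `r`-group (`Img.isPGroup_img`, `h.pR.to_le`), `r ≠ s`, `r ≠ q` (`TrLD.primes`), `D' ≤ N(E)` (`Img.img_le_normalizer`), `C2 D' Zt` (`Img.c2_img`, `SStrB.zr`), `res d ∈ N(D')`, `C2 ⁅D',D'⁆ E` (`Img.img_commutator`, `⁅D,D⁆ ≤ ⁅R,R⁆`, `Bas1.RR`, `Img.c2_img`), `cm D' (res d) = D'` (`Img.img_cm`).
Then `Img.of_c2_img` and `NB.mem_ker` for each `x ∈ D`. -/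
namespace Cfsg.Agent.Lib.H82PQCB
open Cfsg.Agent.Lib.Helper66Fpf Cfsg.Agent.Lib.Helper66Fpf2 Cfsg.Agent.Lib.Helper66Ward2
  Cfsg.Agent.Lib.Helper66S3a Cfsg.Agent.Lib.Helper66S3b Cfsg.Agent.Lib.Helper66S3c
  Cfsg.Agent.Lib.Helper40Sylow Cfsg.Agent.Lib.H92GREStep1 Cfsg.Agent.Lib.H82PQDefs
open Cfsg.Agent.Lib.H82PQAGa Cfsg.Agent.Lib.H82PQAGd Cfsg.Agent.Lib.H82PQKQ Cfsg.Agent.Lib.H82PQBas1 Cfsg.Agent.Lib.H82PQSStrB Cfsg.Agent.Lib.H82PQNB Cfsg.Agent.Lib.H82PQImg Cfsg.Agent.Lib.H82PQTrLD Cfsg.Agent.Lib.H82PQLT2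
open Cfsg.Agent.Lib.H82PQDefs2
open scoped commutatorElement
variable {V : Type*} [CommGroup V] [Finite V] {X : Type*} [Group X] [Finite X] [MulDistribMulAction X V]
variable {p q t s r l : ℕ} {c d g : X} {S R Z K Q E Zt D : Subgroup X}
theorem cb [FaithfulSMul X V] (h : Cfg V p q t s r c d S R) (mx : MaxK V ⁅S, S⁆ K) (hd : d ∈ kerQR ⁅S, S⁆ K)
    (hf : Fpf d (WK V ⁅S, S⁆ K)) (hD : D ≤ R) (hdD : d ∈ Subgroup.normalizer (D : Set X)) (hDd : cm D d = D) :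
    D ≤ kerQR S (fixer S (WK V ⁅S, S⁆ K)) := by
  obtain ⟨_, tq, _, sq, _, rq⟩ := primes h
  have hdW : d ∈ stabW X (WK V ⁅S, S⁆ K) := stab_of_ker hd
  have hSW : S ≤ stabW X (WK V ⁅S, S⁆ K) := S_stab h mx
  have hRW : R ≤ stabW X (WK V ⁅S, S⁆ K) := R_stab h mx
  have hDW : D ≤ stabW X (WK V ⁅S, S⁆ K) := hD.trans hRW
  have hSS : ⁅S, S⁆ ≤ S := by
    rw [Subgroup.commutator_le]
    intro a ha b hb
    rw [commutatorElement_def]
    exact S.mul_mem (S.mul_mem (S.mul_mem ha hb) (S.inv_mem ha)) (S.inv_mem hb)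
  have hDDle : ⁅D, D⁆ ≤ D := by
    rw [Subgroup.commutator_le]
    intro a ha b hb
    rw [commutatorElement_def]
    exact D.mul_mem (D.mul_mem (D.mul_mem ha hb) (D.inv_mem ha)) (D.inv_mem hb)
  have hZW : ⁅S, S⁆ ≤ stabW X (WK V ⁅S, S⁆ K) := hSS.trans hSW
  have ld := trLD h mx h.pq.fg.qp tq sq h.pq.fg.dq h.admS.hd hd hf hdW
  have key : C2 (img (WK V ⁅S, S⁆ K) D) (img (WK V ⁅S, S⁆ K) S) :=
    lt2 ld h.rp (isPGroup_img (h.pR.to_le hD)) h.sr.symm rq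
      (img_le_normalizer hSW hDW (hD.trans h.RS))
      (c2_img hZW hDW (fun x hx => zr h x (hD hx)))
      (res_mem_normalizer hDW hdW hdD)
      (by
        rw [img_commutator hDW hDW]
        exact c2_img hSW (hDDle.trans hDW)
          (fun x hx => RR h x (Subgroup.commutator_mono hD hD hx)))
      (by rw [img_cm hDW hdW, hDd])
  intro x hx
  exact mem_ker (h.RS (hD hx)) (hDW hx) (fun u hu w hw => of_c2_img hSW hDW key x hx u hu w hw)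

end Cfsg.Agent.Lib.H82PQCB
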