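import Mathlib
import Cfsg.Agent.Lib.H82PQDefs
import Cfsg.Agent.Lib.H82PQAGd

set_option autoImplicit false
set_option linter.unusedSectionVars false

/-! Project 4306 (S4306), piece `Min` (40m).
 Strong induction on `Nat.card S + Nat.card R` (for all `S R`).  If `⁅S,R⁆ ≠ ⊥` build a `Cfg`: `minR` for `R' < R`: `Ad.of_le`, `IsPGroup.to_le`, `R' ≤ R ≤ N(S)`, `card R' < card R` (`Subgroup.card_lt_of_lt`/`Helper40Sylow.card_lt_of_lt`), induction; `minS` the same. -/
namespace Cfsg.Agent.Lib.H82PQMin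
open Cfsg.Agent.Lib.Helper66Fpf Cfsg.Agent.Lib.Helper66Fpf2 Cfsg.Agent.Lib.Helper66Ward2
  Cfsg.Agent.Lib.Helper66S3a Cfsg.Agent.Lib.Helper66S3b Cfsg.Agent.Lib.Helper66S3c
  Cfsg.Agent.Lib.Helper40Sylow Cfsg.Agent.Lib.H92GREStep1 Cfsg.Agent.Lib.H82PQDefs
open Cfsg.Agent.Lib.H82PQAGd
open scoped commutatorElement
variable {V : Type*} [CommGroup V] [Finite V] {X : Type*} [Group X] [Finite X] [MulDistribMulAction X V]
variable {p q t s r l : ℕ} {c d g : X} {S R Z K Q E Zt D : Subgroup X}
theorem alpha_of_noCfg (H : ∀ S R : Subgroup X, ¬ Cfg V p q t s r c d S R) (h : PQ V p q c d) (tp : t.Prime)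
    (sp : s.Prime) (rp : r.Prime) (expV : ∀ v : V, v ^ t = 1) (sr : s ≠ r) (st : s ≠ t) :
    ∀ S R : Subgroup X, Ad p q c d S → Ad p q c d R → IsPGroup s S → IsPGroup r R →
      R ≤ Subgroup.normalizer (S : Set X) → ⁅S, R⁆ = ⊥ := by
  have hcl : ∀ A B : Subgroup X, A < B → Nat.card A < Nat.card B := by
    intro A B hlt
    have := Set.ncard_lt_ncard (s := (A : Set X)) (t := (B : Set X))
      (SetLike.coe_ssubset_coe.2 hlt) (Set.toFinite _)
    rw [← Nat.card_coe_set_eq, ← Nat.card_coe_set_eq] at this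
    exact this
  have key : ∀ N : ℕ, ∀ S R : Subgroup X, Nat.card S + Nat.card R = N → Ad p q c d S → Ad p q c d R →
      IsPGroup s S → IsPGroup r R → R ≤ Subgroup.normalizer (S : Set X) → ⁅S, R⁆ = ⊥ := by
    intro N
    induction N using Nat.strong_induction_on with
    | _ N ih =>
      intro S R hN aS aR pS pR hRS
      by_contra hne
      apply H S R
      refine { pq := h, tp := tp, sp := sp, rp := rp, expV := expV, admS := aS, admR := aR, pS := pS,
               pR := pR, sr := sr, st := st, RS := hRS, ne := hne, minR := ?_, minS := ?_ }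
      · intro R' hR' hc hd
        have hlt := hcl _ _ hR'
        exact ih (Nat.card S + Nat.card R') (by omega) S R' rfl aS (Ad.of_le aR hR'.le hc hd) pS
          (pR.to_le hR'.le) (hR'.le.trans hRS)
      · intro S' hS' hc hd hRS'
        have hlt := hcl _ _ hS'
        exact ih (Nat.card S' + Nat.card R) (by omega) S' R rfl (Ad.of_le aS hS'.le hc hd) aR
          (pS.to_le hS'.le) pR hRS'
  intro S R
  exact key _ S R rfl

end Cfsg.Agent.Lib.H82PQMin
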