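import Mathlib
import Cfsg.Agent.Lib.H82PQDefs
import Cfsg.Agent.Lib.H82PQAGa
import Cfsg.Agent.Lib.H82PQAGb
import Cfsg.Agent.Lib.H82PQAGc
import Cfsg.Agent.Lib.H82PQAGd
import Cfsg.Agent.Lib.H82PQKQ
import Cfsg.Agent.Lib.H82PQBas1
import Cfsg.Agent.Lib.H82PQSStrB
import Cfsg.Agent.Lib.H82PQL4
import Cfsg.Agent.S0022

set_option autoImplicit false
set_option linter.unusedSectionVars false

/-! Project 4306 (S4306), piece `Sig1` (60m).
 `N_k = cj k N` (`≤ S`, normalised by `S` and `R`, because `k` normalises `S` and `R`), `P = N_k ⊔ ⁅S,S⁆` is normalised by `S` and `R`.  `cm R (k*d*k⁻¹) = cj k (cm R d) ≤ kerQR S N_k` (`KQ.cj_cm`, `KQ.kerQR_cj`).  Let `u ∈ S` commute with `cm R d`.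
`St = {x ∈ N(S) ⊓ N(P) | x*u*x⁻¹*u⁻¹ ∈ P}` is a subgroup; it contains `cm R d` and `cm R (k*d*k⁻¹)`, so it contains `R` (`L4.l4`).  `Cfsg.Agent.S0022.result R S h.RS (copRS h) (Or.inl (solR h)) P ..` gives `u' ∈ S ⊓ centralizer R` with `u⁻¹*u' ∈ P`; `SStrB.csr`: `u' ∈ ⁅S,S⁆ ≤ P`.  So `u ∈ P`. -/
namespace Cfsg.Agent.Lib.H82PQSig1
open Cfsg.Agent.Lib.Helper66Fpf Cfsg.Agent.Lib.Helper66Fpf2 Cfsg.Agent.Lib.Helper66Ward2
  Cfsg.Agent.Lib.Helper66S3a Cfsg.Agent.Lib.Helper66S3b Cfsg.Agent.Lib.Helper66S3c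
  Cfsg.Agent.Lib.Helper40Sylow Cfsg.Agent.Lib.H92GREStep1 Cfsg.Agent.Lib.H82PQDefs
open Cfsg.Agent.Lib.H82PQAGa Cfsg.Agent.Lib.H82PQAGb Cfsg.Agent.Lib.H82PQAGc Cfsg.Agent.Lib.H82PQAGd Cfsg.Agent.Lib.H82PQKQ Cfsg.Agent.Lib.H82PQBas1 Cfsg.Agent.Lib.H82PQSStrB Cfsg.Agent.Lib.H82PQL4
open scoped commutatorElement
variable {V : Type*} [CommGroup V] [Finite V] {X : Type*} [Group X] [Finite X] [MulDistribMulAction X V]
variable {p q t s r l : ℕ} {c d g : X} {S R Z K Q E Zt D : Subgroup X}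
theorem nrm_sup {x : X} {A B : Subgroup X} (hA : x ∈ Subgroup.normalizer (A : Set X))
    (hB : x ∈ Subgroup.normalizer (B : Set X)) : x ∈ Subgroup.normalizer ((A ⊔ B : Subgroup X) : Set X) := by
  rw [mem_normalizer_iff_cj] at hA hB ⊢
  show (A ⊔ B).map _ = _
  rw [Subgroup.map_sup]
  exact congrArg₂ _ hA hB

theorem nrm_comm {x : X} {A : Subgroup X} (hA : x ∈ Subgroup.normalizer (A : Set X)) :
    x ∈ Subgroup.normalizer ((⁅A, A⁆ : Subgroup X) : Set X) := by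
  rw [mem_normalizer_iff_cj] at hA ⊢
  rw [cj_comm, hA]

theorem comm_le_self' (A : Subgroup X) : ⁅A, A⁆ ≤ A := by
  rw [Subgroup.commutator_le]
  intro a ha b hb
  rw [commutatorElement_def]
  exact mul_mem (mul_mem (mul_mem ha hb) (inv_mem ha)) (inv_mem hb)

theorem sig1 (h : Cfg V p q t s r c d S R) {N : Subgroup X} (hNS : N ≤ S)
    (hSN : S ≤ Subgroup.normalizer (N : Set X)) (hRN : R ≤ Subgroup.normalizer (N : Set X))
    (hRc : cm R c = R) (hR₂ : cm R d ≤ kerQR S N) {k : X} (hk : k ∈ Subgroup.zpowers c) (hk1 : k ≠ 1) :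
    S ⊓ Subgroup.centralizer (cm R d : Set X) ≤ cj k N ⊔ ⁅S, S⁆ := by
  have hkS : k ∈ Subgroup.normalizer (S : Set X) := (Subgroup.zpowers_le.2 h.admS.hc) hk
  have hkR : k ∈ Subgroup.normalizer (R : Set X) := (Subgroup.zpowers_le.2 h.admR.hc) hk
  have hkS' := mem_normalizer_iff_cj.1 hkS
  have hkR' := mem_normalizer_iff_cj.1 hkR
  have hNkS : cj k N ≤ S := by
    calc cj k N ≤ cj k S := cj_mono hNS
      _ = S := hkS'
  have hSNk : S ≤ Subgroup.normalizer ((cj k N : Subgroup X) : Set X) := by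
    rw [normalizer_cj]
    calc S = cj k S := hkS'.symm
      _ ≤ _ := cj_mono hSN
  have hRNk : R ≤ Subgroup.normalizer ((cj k N : Subgroup X) : Set X) := by
    rw [normalizer_cj]
    calc R = cj k R := hkR'.symm
      _ ≤ _ := cj_mono hRN
  have hPS : cj k N ⊔ ⁅S, S⁆ ≤ S := sup_le hNkS (comm_le_self' S)
  have hSP : S ≤ Subgroup.normalizer ((cj k N ⊔ ⁅S, S⁆ : Subgroup X) : Set X) := fun x hx =>
    nrm_sup (hSNk hx) (nrm_comm (Subgroup.le_normalizer hx))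
  have hRP : R ≤ Subgroup.normalizer ((cj k N ⊔ ⁅S, S⁆ : Subgroup X) : Set X) := fun x hx =>
    nrm_sup (hRNk hx) (nrm_comm (h.RS hx))
  intro u hu
  obtain ⟨huS, huC⟩ := hu
  let St : Subgroup X :=
    { carrier := {x | x ∈ Subgroup.normalizer ((cj k N ⊔ ⁅S, S⁆ : Subgroup X) : Set X) ∧
        x * u * x⁻¹ * u⁻¹ ∈ cj k N ⊔ ⁅S, S⁆}
      one_mem' := ⟨one_mem _, by simp⟩
      mul_mem' := by
        rintro x y ⟨x1, x2⟩ ⟨y1, y2⟩
        refine ⟨mul_mem x1 y1, ?_⟩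
        have a1 := (Subgroup.mem_normalizer_iff.1 x1 _).1 y2
        have e : x * y * u * (x * y)⁻¹ * u⁻¹
            = x * (y * u * y⁻¹ * u⁻¹) * x⁻¹ * (x * u * x⁻¹ * u⁻¹) := by group
        rw [e]
        exact mul_mem a1 x2
      inv_mem' := by
        rintro x ⟨x1, x2⟩
        refine ⟨inv_mem x1, ?_⟩
        have a1 := (Subgroup.mem_normalizer_iff.1 (inv_mem x1) _).1 (inv_mem x2)
        have e : x⁻¹ * (x * u * x⁻¹ * u⁻¹)⁻¹ * x⁻¹⁻¹ = x⁻¹ * u * x⁻¹⁻¹ * u⁻¹ := by group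
        rw [e] at a1
        exact a1 }
  have hd'N : k * d * k⁻¹ ∈ Subgroup.normalizer (R : Set X) :=
    mul_mem (mul_mem hkR h.admR.hd) (inv_mem hkR)
  have h1 : cm R d ≤ St := by
    intro x hx
    refine ⟨hRP (cm_le_self h.admR.hd hx), ?_⟩
    have hc := Subgroup.mem_centralizer_iff.1 huC x hx
    have e : x * u * x⁻¹ * u⁻¹ = 1 := by
      rw [hc]; group
    rw [e]
    exact one_mem _
  have h2 : cm R (k * d * k⁻¹) ≤ St := by
    intro x hx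
    refine ⟨hRP (cm_le_self hd'N hx), ?_⟩
    have hx' := hx
    rw [← cj_cm hkR, mem_cj] at hx'
    have h3 : x ∈ kerQR S (cj k N) := (kerQR_cj hkS).2 (hR₂ hx')
    exact (le_sup_left : cj k N ≤ cj k N ⊔ ⁅S, S⁆) (h3.2.2 u huS)
  have hRSt : R ≤ St := by
    rw [← l4 h.pq.fg h.admR hRc hk hk1]
    exact sup_le h1 h2
  obtain ⟨u', hu', hu''⟩ := Cfsg.Agent.S0022.result R S h.RS (copRS h) (Or.inl (solR h))
    (cj k N ⊔ ⁅S, S⁆) hPS hSP hRP u huS (fun a ha => (hRSt ha).2)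
  have hu'Z : u' ∈ ⁅S, S⁆ := csr h u' hu'.1 (fun x hx =>
    Subgroup.mem_centralizer_iff.1 hu'.2 x hx)
  have e : u = u' * (u⁻¹ * u')⁻¹ := by group
  rw [e]
  exact mul_mem ((le_sup_right : ⁅S, S⁆ ≤ cj k N ⊔ ⁅S, S⁆) hu'Z) (inv_mem hu'')

end Cfsg.Agent.Lib.H82PQSig1
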