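import Mathlib
import Cfsg.Agent.Lib.H82PQDefs
import Cfsg.Agent.S0022

set_option autoImplicit false
set_option linter.unusedSectionVars false

/-! Project 4306 (S4306), piece `Sig2`.
 `T = S ⊓ centralizer (cm R d)`.  `S ≤ T N` by coprime action (`S0022`); if `⁅T,T⁆ ≤ K` then `⁅T,T⁆ ≤ N`, so
 `⁅S,S⁆ ≤ N`, so `⁅S,S⁆ ≤ K`, against `K < ⁅S,S⁆`. -/
namespace Cfsg.Agent.Lib.H82PQSig2
open Cfsg.Agent.Lib.Helper66Fpf Cfsg.Agent.Lib.Helper66Fpf2 Cfsg.Agent.Lib.Helper66Ward2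
  Cfsg.Agent.Lib.Helper66S3a Cfsg.Agent.Lib.Helper66S3b Cfsg.Agent.Lib.Helper66S3c
  Cfsg.Agent.Lib.Helper40Sylow Cfsg.Agent.Lib.H92GREStep1 Cfsg.Agent.Lib.H82PQDefs
open scoped commutatorElement
variable {V : Type*} [CommGroup V] [Finite V] {X : Type*} [Group X] [Finite X] [MulDistribMulAction X V]
variable {p q t s r l : ℕ} {c d g : X} {S R Z K Q E Zt D : Subgroup X}
theorem sig2 (h : Cfg V p q t s r c d S R) {N : Subgroup X} (hNS : N ≤ S)
    (hSN : S ≤ Subgroup.normalizer (N : Set X)) (hNK : ∀ z ∈ ⁅S, S⁆, z ∈ N ↔ z ∈ K) (hKZ : K < ⁅S, S⁆)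
    (hR₂ : cm R d ≤ kerQR S N) :
    ¬ ⁅S ⊓ Subgroup.centralizer (cm R d : Set X), S ⊓ Subgroup.centralizer (cm R d : Set X)⁆ ≤ K := by
  intro hTK
  haveI : Fact s.Prime := ⟨h.sp⟩
  haveI : Fact r.Prime := ⟨h.rp⟩
  -- `cm R d ≤ R`
  have hAR : cm R d ≤ R := by
    unfold cm
    rw [Subgroup.commutator_le]
    intro x hx z hz
    have hzN : z ∈ Subgroup.normalizer (R : Set X) := by
      have : Subgroup.zpowers d ≤ Subgroup.normalizer (R : Set X) := by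
        rw [Subgroup.zpowers_le]; exact h.admR.hd
      exact this hz
    have h1 : z * x⁻¹ * z⁻¹ ∈ R := (Subgroup.mem_normalizer_iff.1 hzN _).1 (R.inv_mem hx)
    have e : ⁅x, z⁆ = x * (z * x⁻¹ * z⁻¹) := by
      rw [commutatorElement_def]; group
    rw [e]; exact R.mul_mem hx h1
  have hpA : IsPGroup r (cm R d) := h.pR.to_le hAR
  have hcop : (Nat.card (cm R d)).Coprime (Nat.card S) := by
    obtain ⟨a, ha⟩ := IsPGroup.iff_card.1 hpA
    obtain ⟨b, hb⟩ := IsPGroup.iff_card.1 h.pS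
    rw [ha, hb]
    exact Nat.Coprime.pow _ _ ((Nat.coprime_primes h.rp h.sp).2 (Ne.symm h.sr))
  have hsol : Group.IsSolvable S := by
    haveI := h.pS.isNilpotent
    infer_instance
  have hcov : ∀ u ∈ S, ∃ u' ∈ S ⊓ Subgroup.centralizer (cm R d : Set X), u⁻¹ * u' ∈ N := by
    intro u hu
    exact Cfsg.Agent.S0022.result (cm R d) S (fun a ha => (hR₂ ha).1) hcop (Or.inr hsol) N hNS hSN
      (fun a ha => (hR₂ ha).2.1) u hu (fun a ha => (hR₂ ha).2.2 u hu)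
  have hTS : ⁅S ⊓ Subgroup.centralizer (cm R d : Set X), S ⊓ Subgroup.centralizer (cm R d : Set X)⁆
      ≤ ⁅S, S⁆ := Subgroup.commutator_mono inf_le_left inf_le_left
  have hTN : ⁅S ⊓ Subgroup.centralizer (cm R d : Set X), S ⊓ Subgroup.centralizer (cm R d : Set X)⁆
      ≤ N := fun z hz => (hNK z (hTS hz)).2 (hTK hz)
  have hconj : ∀ x ∈ S, ∀ n ∈ N, x * n * x⁻¹ ∈ N := fun x hx n hn =>
    (Subgroup.mem_normalizer_iff.1 (hSN hx) n).1 hn
  have hSSN : ⁅S, S⁆ ≤ N := by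
    rw [Subgroup.commutator_le]
    intro u hu v hv
    obtain ⟨a, ha, han⟩ := hcov u hu
    obtain ⟨b, hb, hbn⟩ := hcov v hv
    have haS : a ∈ S := ha.1
    have hbS : b ∈ S := hb.1
    have hab : ⁅a, b⁆ ∈ N := hTN (Subgroup.commutator_mem_commutator ha hb)
    -- `u = a * m`, `v = b * n`
    set m := a⁻¹ * u with hm
    set n := b⁻¹ * v with hn
    have hmN : m ∈ N := by
      have := N.inv_mem han
      have e : (u⁻¹ * a)⁻¹ = m := by rw [hm]; group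
      rwa [e] at this
    have hnN : n ∈ N := by
      have := N.inv_mem hbn
      have e : (v⁻¹ * b)⁻¹ = n := by rw [hn]; group
      rwa [e] at this
    have hu' : u = a * m := by rw [hm]; group
    have hv' : v = b * n := by rw [hn]; group
    have e : ⁅u, v⁆ = (a * m * a⁻¹) * ((a * b) * (n * m⁻¹) * (a * b)⁻¹)
        * ((a * b * a⁻¹) * n⁻¹ * (a * b * a⁻¹)⁻¹) * ⁅a, b⁆ := by
      rw [hu', hv', commutatorElement_def, commutatorElement_def]; group
    rw [e]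
    refine N.mul_mem (N.mul_mem (N.mul_mem (hconj a haS m hmN) ?_) ?_) hab
    · exact hconj _ (S.mul_mem haS hbS) _ (N.mul_mem hnN (N.inv_mem hmN))
    · exact hconj _ (S.mul_mem (S.mul_mem haS hbS) (S.inv_mem haS)) _ (N.inv_mem hnN)
  have hSSK : ⁅S, S⁆ ≤ K := fun z hz => (hNK z hz).1 (hSSN hz)
  exact absurd hSSK (not_le_of_gt hKZ)

end Cfsg.Agent.Lib.H82PQSig2
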