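import Mathlib
import Cfsg.Agent.Lib.Helper30SZ
import Cfsg.Agent.Lib.Helper66Basic
import Cfsg.Agent.Lib.H82PQDefs
import Cfsg.Agent.Lib.H82PQAGa
import Cfsg.Agent.Lib.H82PQAGd
import Cfsg.Agent.Lib.H82PQKQ
import Cfsg.Agent.Lib.H82PQBas1
import Cfsg.Agent.Lib.H82PQSStrB

set_option autoImplicit false
set_option linter.unusedSectionVars false

/-! Project 4306 (S4306), piece `Sig3` (45m).
 `N_k = cj k N` is normal in `S`, `Z = ⁅S,S⁆` is central in `S` (`SStrB.zc`): for `a = n z`, `b = n' z'` (`Helper30SZ.mem_sup_iff`), `⁅a,b⁆ = ⁅n,n'⁆ ∈ N_k`.  So `⁅T,T⁆ ≤ N_k ⊓ Z`.  And `y ∈ cj k N`, `y ∈ Z` give `k⁻¹*y*k ∈ N ⊓ Z` (`k ∈ N(Z)`), so `∈ K` by `hNK`: `y ∈ cj k K` (`mem_cj`). -/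
namespace Cfsg.Agent.Lib.H82PQSig3
open Cfsg.Agent.Lib.Helper66Fpf Cfsg.Agent.Lib.Helper66Fpf2 Cfsg.Agent.Lib.Helper66Ward2
  Cfsg.Agent.Lib.Helper66S3a Cfsg.Agent.Lib.Helper66S3b Cfsg.Agent.Lib.Helper66S3c
  Cfsg.Agent.Lib.Helper40Sylow Cfsg.Agent.Lib.H92GREStep1 Cfsg.Agent.Lib.H82PQDefs
open Cfsg.Agent.Lib.H82PQAGa Cfsg.Agent.Lib.H82PQAGd Cfsg.Agent.Lib.H82PQKQ Cfsg.Agent.Lib.H82PQBas1 Cfsg.Agent.Lib.H82PQSStrB
open scoped commutatorElement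
variable {V : Type*} [CommGroup V] [Finite V] {X : Type*} [Group X] [Finite X] [MulDistribMulAction X V]
variable {p q t s r l : ℕ} {c d g : X} {S R Z K Q E Zt D : Subgroup X}
theorem sig3 (h : Cfg V p q t s r c d S R) {N T : Subgroup X} (hNS : N ≤ S)
    (hSN : S ≤ Subgroup.normalizer (N : Set X)) (hNK : ∀ z ∈ ⁅S, S⁆, z ∈ N ↔ z ∈ K) (hTS : T ≤ S) {k : X}
    (hk : k ∈ Subgroup.zpowers c) (hT : T ≤ cj k N ⊔ ⁅S, S⁆) : ⁅T, T⁆ ≤ cj k K := by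
  have hkS : k ∈ Subgroup.normalizer (S : Set X) := (Subgroup.zpowers_le.2 h.admS.hc) hk
  have hkZ : k ∈ Subgroup.normalizer ((⁅S, S⁆ : Subgroup X) : Set X) := norm_comm hkS
  have hZS : (⁅S, S⁆ : Subgroup X) ≤ S := Subgroup.commutator_le_self S
  have hzc := zc h
  have hkinv : ∀ u ∈ S, k⁻¹ * u * k ∈ S := by
    intro u hu
    have := (Subgroup.mem_normalizer_iff.1 (Subgroup.inv_mem _ hkS) u).1 hu
    rwa [inv_inv] at this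
  have hMS : cj k N ≤ S := by
    intro y hy
    have h1 : k⁻¹ * y * k ∈ S := hNS (mem_cj.1 hy)
    have h2 := (Subgroup.mem_normalizer_iff.1 hkS _).1 h1
    have e : k * (k⁻¹ * y * k) * k⁻¹ = y := by group
    rwa [e] at h2
  have hSM : S ≤ Subgroup.normalizer (cj k N : Set X) := by
    intro u hu
    apply Cfsg.Agent.Lib.Helper66Basic.mem_normalizer_of_conj_mem
    intro y hy
    rw [mem_cj] at hy ⊢
    have h1 := (Subgroup.mem_normalizer_iff.1 (hSN (hkinv u hu)) _).1 hy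
    have e : k⁻¹ * u * k * (k⁻¹ * y * k) * (k⁻¹ * u * k)⁻¹ = k⁻¹ * (u * y * u⁻¹) * k := by group
    rwa [e] at h1
  rw [Subgroup.commutator_le]
  intro a ha b hb
  obtain ⟨n, hn, z, hz, rfl⟩ := (Cfsg.Agent.Lib.Helper30SZ.mem_sup_iff (hZS.trans hSM)).1 (hT ha)
  obtain ⟨n', hn', z', hz', rfl⟩ := (Cfsg.Agent.Lib.Helper30SZ.mem_sup_iff (hZS.trans hSM)).1 (hT hb)
  have h1 : z * n' = n' * z := hzc z hz n' (hMS hn')
  have h2 : z * z' = z' * z := hzc z hz z' (hZS hz')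
  have h3 : z' * n⁻¹ = n⁻¹ * z' := hzc z' hz' n⁻¹ (S.inv_mem (hMS hn))
  have e : ⁅n * z, n' * z'⁆ = ⁅n, n'⁆ := by
    rw [commutatorElement_def, commutatorElement_def]
    calc n * z * (n' * z') * (n * z)⁻¹ * (n' * z')⁻¹
        = n * (z * n') * z' * z⁻¹ * n⁻¹ * z'⁻¹ * n'⁻¹ := by group
      _ = n * (n' * z) * z' * z⁻¹ * n⁻¹ * z'⁻¹ * n'⁻¹ := by rw [h1]
      _ = n * n' * (z * z') * z⁻¹ * n⁻¹ * z'⁻¹ * n'⁻¹ := by group
      _ = n * n' * (z' * z) * z⁻¹ * n⁻¹ * z'⁻¹ * n'⁻¹ := by rw [h2]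
      _ = n * n' * (z' * n⁻¹) * z'⁻¹ * n'⁻¹ := by group
      _ = n * n' * (n⁻¹ * z') * z'⁻¹ * n'⁻¹ := by rw [h3]
      _ = n * n' * n⁻¹ * n'⁻¹ := by group
  have hyZ : ⁅n * z, n' * z'⁆ ∈ (⁅S, S⁆ : Subgroup X) :=
    Subgroup.commutator_mem_commutator (hTS ha) (hTS hb)
  have hyM : ⁅n * z, n' * z'⁆ ∈ cj k N := by
    rw [e, commutatorElement_def]
    exact Subgroup.mul_mem _ (Subgroup.mul_mem _ (Subgroup.mul_mem _ hn hn') (Subgroup.inv_mem _ hn))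
      (Subgroup.inv_mem _ hn')
  rw [mem_cj] at hyM ⊢
  have hyZ' : k⁻¹ * ⁅n * z, n' * z'⁆ * k ∈ (⁅S, S⁆ : Subgroup X) := by
    have := (Subgroup.mem_normalizer_iff.1 (Subgroup.inv_mem _ hkZ) _).1 hyZ
    rwa [inv_inv] at this
  exact (hNK _ hyZ').1 hyM

end Cfsg.Agent.Lib.H82PQSig3
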