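import Mathlib
import Cfsg.Agent.Lib.H82PQDefs
import Cfsg.Agent.Lib.H82PQAGa
import Cfsg.Agent.Lib.H82PQAGb
import Cfsg.Agent.Lib.H82PQAGd

set_option autoImplicit false
set_option linter.unusedSectionVars false

/-! Project 4306 (S4306), piece `NormF` (50m).
 `Q` abelian.  `Nm = ∏ k : zpowers c, k*u*k⁻¹` computed in the commutative group `↥Q` (elements `⟨k*u*k⁻¹, _⟩`).  It is fixed by conjugation with `c` (reindex `k ↦ c*k`) and with `d` (`d*(k*u*k⁻¹)*d⁻¹ = (d*k*d⁻¹)*u*(d*k*d⁻¹)⁻¹` as `d` commutes with `u`; reindex by the bijection `k ↦ d*k*d⁻¹` of `zpowers c`, `AGa.norm`), so `Nm = 1` (`adm.fpf`).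
Split off the factor `k = 1` (`Finset.mul_prod_erase`/`Fintype.prod_eq_mul_prod_compl`): `u = (∏ k ≠ 1, k*u*k⁻¹)⁻¹ ∈ K` (`Subgroup.prod_mem`). -/
namespace Cfsg.Agent.Lib.H82PQNormF
open Cfsg.Agent.Lib.Helper66Fpf Cfsg.Agent.Lib.Helper66Fpf2 Cfsg.Agent.Lib.Helper66Ward2
  Cfsg.Agent.Lib.Helper66S3a Cfsg.Agent.Lib.Helper66S3b Cfsg.Agent.Lib.Helper66S3c
  Cfsg.Agent.Lib.Helper40Sylow Cfsg.Agent.Lib.H92GREStep1 Cfsg.Agent.Lib.H82PQDefs
open Cfsg.Agent.Lib.H82PQAGa Cfsg.Agent.Lib.H82PQAGb Cfsg.Agent.Lib.H82PQAGd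
open scoped commutatorElement
variable {V : Type*} [CommGroup V] [Finite V] {X : Type*} [Group X] [Finite X] [MulDistribMulAction X V]
variable {p q t s r l : ℕ} {c d g : X} {S R Z K Q E Zt D : Subgroup X}

theorem core {A : Type*} [CommGroup A] {ι : Type*} [Fintype ι] [DecidableEq ι] (e : ι → A) (i0 : ι)
    (φ ψ : A →* A) (σ τ : ι ≃ ι) (hφ : ∀ k, φ (e k) = e (σ k)) (hψ : ∀ k, ψ (e k) = e (τ k))
    (hfix : ∀ a, φ a = a → ψ a = a → a = 1) (P : Subgroup A) (hP : ∀ k, k ≠ i0 → e k ∈ P) :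
    e i0 ∈ P := by
  have h1 : φ (∏ k, e k) = ∏ k, e k := by
    rw [map_prod]
    simp only [hφ]
    exact Equiv.prod_comp σ e
  have h2 : ψ (∏ k, e k) = ∏ k, e k := by
    rw [map_prod]
    simp only [hψ]
    exact Equiv.prod_comp τ e
  have h3 := hfix _ h1 h2
  rw [← Finset.mul_prod_erase Finset.univ e (Finset.mem_univ i0)] at h3
  have h4 : e i0 = (∏ k ∈ Finset.univ.erase i0, e k)⁻¹ := eq_inv_of_mul_eq_one_left h3
  rw [h4]
  apply inv_mem
  apply Subgroup.prod_mem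
  intro k hk
  exact hP k (Finset.ne_of_mem_erase hk)

/-- the commutative group structure on an abelian subgroup -/
@[reducible] def commQ (Q : Subgroup X) (ab : ∀ x ∈ Q, ∀ y ∈ Q, x * y = y * x) : CommGroup Q :=
  { (inferInstance : Group Q) with mul_comm := fun a b => Subtype.ext (ab a a.2 b b.2) }

/-- conjugation by a normalising element -/
def cjHom (Q : Subgroup X) (a : X) (ha : a ∈ Subgroup.normalizer (Q : Set X)) : Q →* Q where
  toFun x := ⟨a * x * a⁻¹, (Subgroup.mem_normalizer_iff.1 ha x).1 x.2⟩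
  map_one' := Subtype.ext (by simp)
  map_mul' x y := Subtype.ext (by simp)

theorem normF_mem (fg : FG p q c d) (adm : Ad p q c d Q) (ab : ∀ x ∈ Q, ∀ y ∈ Q, x * y = y * x) {u : X}
    (hu : u ∈ Q) (hd : d * u = u * d) (K : Subgroup X)
    (hK : ∀ k ∈ Subgroup.zpowers c, k ≠ 1 → k * u * k⁻¹ ∈ K) : u ∈ K := by
  classical
  let _ : Fintype (Subgroup.zpowers c) := Fintype.ofFinite _
  have hCN : Subgroup.zpowers c ≤ Subgroup.normalizer (Q : Set X) := Subgroup.zpowers_le.mpr adm.hc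
  have hdC : d ∈ Subgroup.normalizer (Subgroup.zpowers c : Set X) :=
    norm fg (Subgroup.mem_zpowers d)
  let e : Subgroup.zpowers c → Q := fun k =>
    ⟨(k : X) * u * (k : X)⁻¹, (Subgroup.mem_normalizer_iff.1 (hCN k.2) u).1 hu⟩
  let σ : Subgroup.zpowers c ≃ Subgroup.zpowers c := Equiv.mulLeft ⟨c, Subgroup.mem_zpowers c⟩
  let τ : Subgroup.zpowers c ≃ Subgroup.zpowers c :=
    { toFun := fun k => ⟨d * k * d⁻¹, (Subgroup.mem_normalizer_iff.1 hdC k).1 k.2⟩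
      invFun := fun k => ⟨d⁻¹ * k * d⁻¹⁻¹, (Subgroup.mem_normalizer_iff.1 (inv_mem hdC) k).1 k.2⟩
      left_inv := fun k => Subtype.ext (by simp [mul_assoc])
      right_inv := fun k => Subtype.ext (by simp [mul_assoc]) }
  have hmain := @core Q (commQ Q ab) (Subgroup.zpowers c) _ _ e 1 (cjHom Q c adm.hc)
    (cjHom Q d adm.hd) σ τ ?_ ?_ ?_ (K.subgroupOf Q) ?_
  · have h5 : ((e 1 : Q) : X) ∈ K := Subgroup.mem_subgroupOf.1 hmain
    simpa [e] using h5
  · intro k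
    apply Subtype.ext
    show c * ((k : X) * u * (k : X)⁻¹) * c⁻¹ = (c * (k : X)) * u * (c * (k : X))⁻¹
    group
  · intro k
    apply Subtype.ext
    show d * ((k : X) * u * (k : X)⁻¹) * d⁻¹ = (d * (k : X) * d⁻¹) * u * (d * (k : X) * d⁻¹)⁻¹
    have h6 : d⁻¹ * u * d = u := by
      rw [mul_assoc, ← hd, inv_mul_cancel_left]
    have h7 : (d * (k : X) * d⁻¹) * u * (d * (k : X) * d⁻¹)⁻¹
        = d * ((k : X) * (d⁻¹ * u * d) * (k : X)⁻¹) * d⁻¹ := by group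
    rw [h7, h6]
  · intro a h1 h2
    apply Subtype.ext
    apply adm.fpf a a.2
    · have h7 : c * (a : X) * c⁻¹ = a := congrArg Subtype.val h1
      exact mul_inv_eq_iff_eq_mul.1 h7
    · have h7 : d * (a : X) * d⁻¹ = a := congrArg Subtype.val h2
      exact mul_inv_eq_iff_eq_mul.1 h7
  · intro k hk
    rw [Subgroup.mem_subgroupOf]
    apply hK k k.2
    intro h
    exact hk (Subtype.ext h)

end Cfsg.Agent.Lib.H82PQNormF
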