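import Mathlib
import Cfsg.Agent.Lib.H82PQDefs
import Cfsg.Agent.Lib.H82PQAGa
import Cfsg.Agent.Lib.H82PQAGb
import Cfsg.Agent.Lib.H82PQAGd
import Cfsg.Agent.Lib.H82PQKQ
import Cfsg.Agent.Lib.H82PQBas1
import Cfsg.Agent.Lib.H82PQSStrB
import Cfsg.Agent.Lib.H82PQNB
import Cfsg.Agent.Lib.H82PQNormF
import Cfsg.Agent.S0022

set_option autoImplicit false
set_option linter.unusedSectionVars false

/-! Project 4306 (S4306), piece `Sig4` (60m).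
 `Z = ⁅S,S⁆` abelian (`NB.abZ`), `Ad` (`SStrB.admZ`).  `Y₁ = {y ∈ Z | ∀ k ∈ zpowers c, k ≠ 1 → y ∈ cj k K}` is a subgroup, normalised by `d` (`d ∈ N(K)`, `d ∈ N(Z)`, `d` permutes `zpowers c \ {1}` by conjugation: `d*y*d⁻¹ ∈ cj k K ⟸ y ∈ cj (d⁻¹*k*d) K`).  Suppose `y₀ ∈ Y₀ ≤ Y₁`, `y₀ ∉ K`.
`Cfsg.Agent.S0022.result (zpowers d) Y₁ .. (Y₁ ⊓ K) ..` (abelian, coprime; `a*y₀*a⁻¹*y₀⁻¹ ∈ Y₁ ⊓ K` for `a ∈ zpowers d ≤ kerQR Z K`) gives `y ∈ Y₁` commuting with `d`, `y₀⁻¹*y ∈ K`; so `y ∉ K`.  For `k ≠ 1`: `y ∈ cj k⁻¹ K` means `k*y*k⁻¹ ∈ K` (`mem_cj`).  `NormF.normF_mem` gives `y ∈ K`: contradiction. -/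
namespace Cfsg.Agent.Lib.H82PQSig4
open Cfsg.Agent.Lib.Helper66Fpf Cfsg.Agent.Lib.Helper66Fpf2 Cfsg.Agent.Lib.Helper66Ward2
  Cfsg.Agent.Lib.Helper66S3a Cfsg.Agent.Lib.Helper66S3b Cfsg.Agent.Lib.Helper66S3c
  Cfsg.Agent.Lib.Helper40Sylow Cfsg.Agent.Lib.H92GREStep1 Cfsg.Agent.Lib.H82PQDefs
open Cfsg.Agent.Lib.H82PQAGa Cfsg.Agent.Lib.H82PQAGb Cfsg.Agent.Lib.H82PQAGd Cfsg.Agent.Lib.H82PQKQ Cfsg.Agent.Lib.H82PQBas1 Cfsg.Agent.Lib.H82PQSStrB Cfsg.Agent.Lib.H82PQNB Cfsg.Agent.Lib.H82PQNormF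
open scoped commutatorElement
variable {V : Type*} [CommGroup V] [Finite V] {X : Type*} [Group X] [Finite X] [MulDistribMulAction X V]
variable {p q t s r l : ℕ} {c d g : X} {S R Z K Q E Zt D : Subgroup X}
theorem sig4 (h : Cfg V p q t s r c d S R) (hKZ : K ≤ ⁅S, S⁆) (hd : d ∈ kerQR ⁅S, S⁆ K) (Y₀ : Subgroup X)
    (hY₀ : Y₀ ≤ ⁅S, S⁆) (hY : ∀ k ∈ Subgroup.zpowers c, k ≠ 1 → Y₀ ≤ cj k K) : Y₀ ≤ K := by
  have fg := h.pq.fg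
  have admZ' := admZ h
  have ab := abZ h
  let Y₁ : Subgroup X :=
    { carrier := {y | y ∈ ⁅S, S⁆ ∧ ∀ k ∈ Subgroup.zpowers c, k ≠ 1 → y ∈ cj k K}
      one_mem' := ⟨one_mem _, fun _ _ _ => one_mem _⟩
      mul_mem' := by
        rintro x y ⟨x1, x2⟩ ⟨y1, y2⟩
        exact ⟨mul_mem x1 y1, fun k hk hk1 => mul_mem (x2 k hk hk1) (y2 k hk hk1)⟩
      inv_mem' := by
        rintro x ⟨x1, x2⟩
        exact ⟨inv_mem x1, fun k hk hk1 => inv_mem (x2 k hk hk1)⟩ }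
  have hY₁Z : Y₁ ≤ ⁅S, S⁆ := fun y hy => hy.1
  have hdY : d ∈ Subgroup.normalizer (Y₁ : Set X) := by
    apply Cfsg.Agent.Lib.Helper66Basic.mem_normalizer_of_conj_mem
    rintro y ⟨y1, y2⟩
    refine ⟨(Subgroup.mem_normalizer_iff.1 hd.1 y).1 y1, fun k hk hk1 => ?_⟩
    have hdi : d⁻¹ ∈ Subgroup.normalizer (Subgroup.zpowers c : Set X) :=
      inv_mem (norm fg (Subgroup.mem_zpowers d))
    have hk' : d⁻¹ * k * d⁻¹⁻¹ ∈ Subgroup.zpowers c := (Subgroup.mem_normalizer_iff.1 hdi k).1 hk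
    have hk1' : d⁻¹ * k * d⁻¹⁻¹ ≠ 1 := by
      intro h0
      apply hk1
      have e : k = d * (d⁻¹ * k * d⁻¹⁻¹) * d⁻¹ := by group
      rw [e, h0]; group
    have h3 := y2 _ hk' hk1'
    rw [mem_cj] at h3 ⊢
    have h4 := (Subgroup.mem_normalizer_iff.1 hd.2.1 _).1 h3
    have e : d * ((d⁻¹ * k * d⁻¹⁻¹)⁻¹ * y * (d⁻¹ * k * d⁻¹⁻¹)) * d⁻¹ = k⁻¹ * (d * y * d⁻¹) * k := by
      group
    rwa [e] at h4
  have hAY : Subgroup.zpowers d ≤ Subgroup.normalizer (Y₁ : Set X) := Subgroup.zpowers_le.2 hdY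
  have hAK : Subgroup.zpowers d ≤ Subgroup.normalizer (K : Set X) := Subgroup.zpowers_le.2 hd.2.1
  have hAN : Subgroup.zpowers d ≤ Subgroup.normalizer ((Y₁ ⊓ K : Subgroup X) : Set X) := by
    intro a ha
    have a1 := mem_normalizer_iff_cj.1 (hAY ha)
    have a2 := mem_normalizer_iff_cj.1 (hAK ha)
    rw [mem_normalizer_iff_cj, cj_inf, a1, a2]
  have hYN : Y₁ ≤ Subgroup.normalizer ((Y₁ ⊓ K : Subgroup X) : Set X) := by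
    intro x hx
    apply Cfsg.Agent.Lib.Helper66Basic.mem_normalizer_of_conj_mem
    intro n hn
    have e : x * n * x⁻¹ = n := by
      rw [ab x (hY₁Z hx) n (hY₁Z hn.1)]; group
    rw [e]; exact hn
  have hcop : (Nat.card (Subgroup.zpowers d)).Coprime (Nat.card Y₁) :=
    Nat.Coprime.of_dvd_right (Subgroup.card_dvd_of_le hY₁Z) (Ad.cop_d fg admZ')
  have hsol : Group.IsSolvable (Subgroup.zpowers d) := inferInstance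
  intro y₀ hy₀
  have hy₀1 : y₀ ∈ Y₁ := ⟨hY₀ hy₀, fun k hk hk1 => hY k hk hk1 hy₀⟩
  obtain ⟨y, hy, hy'⟩ := Cfsg.Agent.S0022.result (Subgroup.zpowers d) Y₁ hAY hcop (Or.inl hsol)
    (Y₁ ⊓ K) inf_le_left hYN hAN y₀ hy₀1 (fun a ha => by
      refine Subgroup.mem_inf.2 ⟨?_, ((Subgroup.zpowers_le.2 hd) ha).2.2 y₀ (hY₀ hy₀)⟩
      exact Y₁.mul_mem ((Subgroup.mem_normalizer_iff.1 (hAY ha) y₀).1 hy₀1) (Y₁.inv_mem hy₀1))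
  have hdy : d * y = y * d := Subgroup.mem_centralizer_iff.1 hy.2 d (Subgroup.mem_zpowers d)
  have hyK : y ∈ K := by
    apply normF_mem fg admZ' ab (hY₁Z hy.1) hdy K
    intro k hk hk1
    have h3 := hy.1.2 k⁻¹ (inv_mem hk) (fun h0 => hk1 (inv_eq_one.1 h0))
    rw [mem_cj, inv_inv] at h3
    exact h3
  have e : y₀ = y * (y₀⁻¹ * y)⁻¹ := by group
  rw [e]
  exact mul_mem hyK (inv_mem hy'.2)

end Cfsg.Agent.Lib.H82PQSig4
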