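import Mathlib
import Cfsg.Agent.Lib.H82PQDefs
import Cfsg.Agent.Lib.H82PQAGa
import Cfsg.Agent.Lib.H82PQAGd
import Cfsg.Agent.Lib.H82PQKQ
import Cfsg.Agent.Lib.H82PQMin
import Cfsg.Agent.Lib.H82PQBas1
import Cfsg.Agent.Lib.H82PQRDich
import Cfsg.Agent.Lib.H82PQA1
import Cfsg.Agent.Lib.H82PQSStrB
import Cfsg.Agent.Lib.H82PQDich
import Cfsg.Agent.Lib.H82PQBA
import Cfsg.Agent.Lib.H82PQBB
import Cfsg.Agent.Lib.H82PQNB
import Cfsg.Agent.Lib.H82PQNA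
import Cfsg.Agent.Lib.H82PQCA
import Cfsg.Agent.Lib.H82PQCB
import Cfsg.Agent.Lib.H82PQSig1
import Cfsg.Agent.Lib.H82PQSig2
import Cfsg.Agent.Lib.H82PQSig3
import Cfsg.Agent.Lib.H82PQSig4
import Cfsg.Agent.S0027

set_option autoImplicit false
set_option linter.unusedSectionVars false

/-! Project 4306 (S4306), assembly `Alpha`: there is no minimal configuration, so `[S, R] = 1`. -/
namespace Cfsg.Agent.Lib.H82PQAlpha
open Cfsg.Agent.Lib.Helper66Fpf Cfsg.Agent.Lib.Helper66Fpf2 Cfsg.Agent.Lib.Helper66Ward2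
  Cfsg.Agent.Lib.Helper66S3a Cfsg.Agent.Lib.Helper66S3b Cfsg.Agent.Lib.Helper66S3c
  Cfsg.Agent.Lib.Helper40Sylow Cfsg.Agent.Lib.H92GREStep1 Cfsg.Agent.Lib.H82PQDefs
open scoped commutatorElement
variable {V : Type*} [CommGroup V] [Finite V] {X : Type*} [Group X] [Finite X] [MulDistribMulAction X V]
variable {p q t s r l : ℕ} {c d g : X} {S R Z K Q E Zt D : Subgroup X}

theorem sig (h : Cfg V p q t s r c d S R) (mx : MaxK V ⁅S, S⁆ K) (hRc : cm R c = R)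
    (hd : d ∈ kerQR ⁅S, S⁆ K) (hR₂ : cm R d ≤ kerQR S (fixer S (WK V ⁅S, S⁆ K))) : False := by
  have hNS := fixer_le S (WK V ⁅S, S⁆ K)
  have hSN := H82PQNB.S_norm h mx
  have hRN := H82PQNB.R_norm h mx
  have hNK := H82PQNB.mem_N_iff h mx
  have hKZ := mx.lt (H82PQNB.copVZ h)
  apply H82PQSig2.sig2 h hNS hSN hNK hKZ hR₂
  apply H82PQSig4.sig4 h mx.le hd _ (Subgroup.commutator_mono inf_le_left inf_le_left)
  intro k hk hk1
  exact H82PQSig3.sig3 h hNS hSN hNK inf_le_left hk (H82PQSig1.sig1 h hNS hSN hRN hRc hR₂ hk hk1)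

theorem nonab [FaithfulSMul X V] (h : Cfg V p q t s r c d S R) (nab : ⁅S, S⁆ ≠ ⊥) : False := by
  obtain ⟨K, mx⟩ := exists_maxK (V := V) nab
  rcases H82PQDich.dich h.pq (H82PQNB.abZ h) (H82PQSStrB.admZ h) (H82PQNB.copVZ h) mx with
    ⟨hc, hf⟩ | ⟨-, k₀, hk₀, hd₀, hf⟩
  · have hcN := H82PQCA.ca h mx hc hf
    rcases H82PQRDich.rdich h with ⟨hcR, -⟩ | hRc
    · rcases H82PQRDich.sdich h hcR with hcS | hSc
      · exact H82PQA1.a1 h hcR hcS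
      · exact H82PQNA.na_c h mx hSc hcN
    · exact H82PQNA.na_cb h mx hRc hcN
  · have h' := H82PQAGd.Cfg.conj h hk₀
    rcases H82PQRDich.rdich h' with ⟨-, hRd⟩ | hRc
    · exact H82PQNA.na_R h' mx (H82PQCB.cb h' mx hd₀ hf le_rfl h'.admR.hd hRd)
    · have hdn : k₀ * d * k₀⁻¹ ∈ Subgroup.normalizer (cm R (k₀ * d * k₀⁻¹) : Set X) :=
        H82PQKQ.mem_normalizer_cm h'.admR.hd (Subgroup.le_normalizer (Subgroup.mem_zpowers _))
      have hDd : cm (cm R (k₀ * d * k₀⁻¹)) (k₀ * d * k₀⁻¹) = cm R (k₀ * d * k₀⁻¹) :=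
        Cfsg.Agent.S0027.result (Subgroup.zpowers (k₀ * d * k₀⁻¹)) R
          (Subgroup.zpowers_le.mpr h'.admR.hd) (H82PQAGd.Ad.cop_d h'.pq.fg h'.admR)
          (Or.inr (H82PQBas1.solR h'))
      exact sig h' mx hRc hd₀
        (H82PQCB.cb h' mx hd₀ hf (H82PQKQ.cm_le_self h'.admR.hd) hdn hDd)

theorem noCfg [FaithfulSMul X V] (S R : Subgroup X) : ¬ Cfg V p q t s r c d S R := by
  intro h
  by_cases nab : ⁅S, S⁆ = ⊥
  · have ab : ∀ x ∈ S, ∀ y ∈ S, x * y = y * x := fun x hx y hy => H82PQKQ.c2_of_comm nab x hx y hy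
    rcases H82PQRDich.rdich h with ⟨hcR, -⟩ | hRc
    · rcases H82PQRDich.sdich h hcR with hcS | hSc
      · exact H82PQA1.a1 h hcR hcS
      · exact H82PQBA.abel_a h ab hcR hSc
    · exact H82PQBB.abel_b h ab hRc
  · exact nonab h nab

theorem alpha [FaithfulSMul X V] (h : PQ V p q c d) (tp : t.Prime) (sp : s.Prime) (rp : r.Prime)
    (expV : ∀ v : V, v ^ t = 1) (sr : s ≠ r) (st : s ≠ t) (S R : Subgroup X) (admS : Ad p q c d S)
    (admR : Ad p q c d R) (pS : IsPGroup s S) (pR : IsPGroup r R) (RS : R ≤ Subgroup.normalizer (S : Set X)) :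
    ⁅S, R⁆ = ⊥ :=
  H82PQMin.alpha_of_noCfg noCfg h tp sp rp expV sr st S R admS admR pS pR RS

end Cfsg.Agent.Lib.H82PQAlpha
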