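import Mathlib
import Cfsg.Agent.Lib.Helper66S3c

set_option autoImplicit false
set_option linter.unusedSectionVars false

namespace Cfsg.Agent.Lib.Helper66S3d

open Cfsg.Agent.Lib.Helper66Fpf Cfsg.Agent.Lib.Helper66Fpf2 Cfsg.Agent.Lib.Helper66Ward2
  Cfsg.Agent.Lib.Helper66S3a Cfsg.Agent.Lib.Helper66S3b Cfsg.Agent.Lib.Helper66S3c
  Cfsg.Agent.Lib.Helper40Sylow

variable {V : Type*} [CommGroup V] [Finite V] {X : Type*} [Group X] [Finite X]
  [MulDistribMulAction X V]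

variable {c τ : X}

theorem S3P.normA (h : S3P V c τ) (x : V) :
    x * c • x * c⁻¹ • x * τ • x * (c * τ) • x * (c⁻¹ * τ) • x = 1 := by
  have e1 : c * (c * τ) = c⁻¹ * τ := by rw [← mul_assoc, h.cc]
  have e2 : c * (c⁻¹ * τ) = τ := by group
  have e3 : τ * (c * τ) = c⁻¹ := by rw [← mul_assoc, h.tc, mul_assoc, h.t2, mul_one]
  have e4 : τ * (c⁻¹ * τ) = c := by rw [← mul_assoc, h.tci, mul_assoc, h.t2, mul_one]
  apply h.fpfV
  · simp only [smul_mul', ← mul_smul]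
    rw [h.cc, mul_inv_cancel, one_smul, e1, e2]
    generalize (c * τ) • x = p1
    generalize (c⁻¹ * τ) • x = p2
    generalize c • x = p3
    generalize c⁻¹ • x = p4
    generalize τ • x = p5
    ac_rfl
  · simp only [smul_mul', ← mul_smul]
    rw [h.tc, h.tci, h.t2, one_smul, e3, e4]
    generalize (c * τ) • x = p1
    generalize (c⁻¹ * τ) • x = p2
    generalize c • x = p3
    generalize c⁻¹ • x = p4
    generalize τ • x = p5
    ac_rfl

theorem addlem {G : Type*} [AddCommGroup G] (P Q S T U Y w : G) (h : S + U + w + -Y + -T + -P = 0) :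
    P + -Q + -(S + -T) + -(U + -Y + -(Q + -w)) = 0 := by
  have : P = S + U + w + -Y + -T := by
    have h2 : S + U + w + -Y + -T + -P + P = 0 + P := by rw [h]
    rw [zero_add, neg_add_cancel_right] at h2
    exact h2.symm
  subst this
  abel

theorem mullem {G : Type*} [CommGroup G] (P Q S T U Y w : G)
    (h : S * U * w * Y⁻¹ * T⁻¹ * P⁻¹ = 1) :
    P * Q⁻¹ * (S * T⁻¹)⁻¹ * (U * Y⁻¹ * (Q * w⁻¹)⁻¹)⁻¹ = 1 :=
  addlem (G := Additive G) P Q S T U Y w h

theorem cubic {a b : X} (hab : a * b = b * a) {w : V}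
    (hR : a • w * b • w * (a * b)⁻¹ • w * (a⁻¹ • w)⁻¹ * (b⁻¹ • w)⁻¹ * ((a * b) • w)⁻¹ = 1) :
    a • (b • ((a * b) • w * w⁻¹) * ((a * b) • w * w⁻¹)⁻¹)
      = b • ((a * b) • w * w⁻¹) * ((a * b) • w * w⁻¹)⁻¹ := by
  have h1 := congrArg (fun x => (a * b) • x) hR
  simp only [smul_mul', smul_inv', ← mul_smul, smul_one] at h1
  have e1 : a * b * a = a * (a * b) := by rw [mul_assoc, ← hab]
  have e2 : a * b * b = b * (a * b) := by
    calc a * b * b = (b * a) * b := by rw [hab]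
      _ = b * (a * b) := by group
  have e3 : a * b * (a * b)⁻¹ = 1 := by group
  have e4 : a * b * a⁻¹ = b := by rw [hab]; group
  have e5 : a * b * b⁻¹ = a := by group
  have e6 : a * b * (a * b) = a * (b * (a * b)) := by group
  rw [e1, e2, e3, e4, e5, e6, one_smul] at h1
  rw [← mul_inv_eq_one]
  simp only [smul_mul', smul_inv', ← mul_smul]
  exact mullem _ _ _ _ _ _ _ h1

theorem inv_smul_of_fix {a : X} {v : V} (h : a • v = v) : a⁻¹ • v = v := by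
  rw [inv_smul_eq_iff, h]

theorem S3P.inv_of_fix (h : S3P V c τ) {v : V} (hc : c • v = v) : τ • v = v⁻¹ := by
  have h1 : v * τ • v = 1 := by
    apply h.fpfV
    · rw [smul_mul', hc, ← mul_smul, ← h.tci, mul_smul, inv_smul_of_fix hc]
    · rw [smul_mul', ← mul_smul, h.t2, one_smul, mul_comm]
  exact eq_inv_of_mul_eq_one_right h1

theorem mem_of_pow_mem {e : X} {k : ℕ} (h : (orderOf e).Coprime k) (H : Subgroup X)
    (hk : e ^ k ∈ H) : e ∈ H := by
  by_cases h1 : orderOf e = 1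
  · rw [orderOf_eq_one_iff.mp h1]; exact H.one_mem
  have h2 : 1 < orderOf e := by
    have := orderOf_pos e
    omega
  obtain ⟨m, -, hm⟩ := Nat.exists_mul_mod_eq_one_of_coprime h.symm h2
  have e1 : (e ^ k) ^ m = e := by
    rw [← pow_mul, ← pow_mod_orderOf, hm, pow_one]
  rw [← e1]
  exact H.pow_mem hk m

theorem orderOf_coprime {R : Subgroup X} {n : ℕ} (h : (Nat.card R).Coprime n) {e : X}
    (he : e ∈ R) : (orderOf e).Coprime n := by
  apply Nat.Coprime.coprime_dvd_left _ h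
  rw [← Nat.card_zpowers]
  exact Subgroup.card_dvd_of_le (Subgroup.zpowers_le.mpr he)

/-- the context of the case where `K` is invariant -/
structure E1 (V : Type*) [CommGroup V] {X : Type*} [Group X] [MulDistribMulAction X V]
    (c τ : X) (Z K : Subgroup X) (w : V) : Prop where
  p : S3P V c τ
  ab : ∀ x ∈ Z, ∀ y ∈ Z, x * y = y * x
  adm : Adm c τ Z
  cop : (Nat.card V).Coprime (Nat.card Z)
  mx : MaxK V Z K
  cK : c ∈ Subgroup.normalizer (K : Set X)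
  hw : w ∈ WK V Z K
  cw : c • w = w

variable {Z K : Subgroup X} {w : V}

theorem E1.tw (h : E1 V c τ Z K w) : τ • w = w⁻¹ := S3P.inv_of_fix h.p h.cw

theorem E1.ca (h : E1 V c τ Z K w) (e : X) : (c * e * c⁻¹) • w = c • e • w := by
  rw [mul_smul, mul_smul, inv_smul_of_fix h.cw]

theorem E1.cia (h : E1 V c τ Z K w) (e : X) : (c⁻¹ * e * c) • w = c⁻¹ • e • w := by
  rw [mul_smul, mul_smul, h.cw]

theorem E1.ta (h : E1 V c τ Z K w) (e : X) : τ • e • w = ((τ * e * τ⁻¹) • w)⁻¹ := by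
  rw [mul_smul, mul_smul, h.p.tinv, h.tw, smul_inv', smul_inv', inv_inv]

theorem E1.cZ (h : E1 V c τ Z K w) {e : X} (he : e ∈ Z) : c * e * c⁻¹ ∈ Z :=
  (Subgroup.mem_normalizer_iff.mp h.adm.hc e).mp he

theorem E1.ciZ (h : E1 V c τ Z K w) {e : X} (he : e ∈ Z) : c⁻¹ * e * c ∈ Z := by
  have := (Subgroup.mem_normalizer_iff.mp (Subgroup.inv_mem _ h.adm.hc) e).mp he
  rwa [inv_inv] at this

theorem E1.tZ (h : E1 V c τ Z K w) {e : X} (he : e ∈ Z) : τ * e * τ⁻¹ ∈ Z :=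
  (Subgroup.mem_normalizer_iff.mp h.adm.hτ e).mp he

theorem E1.La (h : E1 V c τ Z K w) {g : X} (hg : g ∈ Z) (hτ : τ * g * τ⁻¹ = g⁻¹)
    (hN : g * (c * g * c⁻¹) * (c⁻¹ * g * c) = 1) : g • w = w := by
  by_cases hgK : g ∈ K
  · exact h.hw.2 g hgK
  set b := c * g * c⁻¹ with hb
  have hbZ : b ∈ Z := h.cZ hg
  have hab : g * b = b * g := h.ab g hg b hbZ
  have hg2 : c⁻¹ * g * c = (g * b)⁻¹ := eq_inv_of_mul_eq_one_right hN
  have hbK : b ∉ K := fun hbK => hgK ((Subgroup.mem_normalizer_iff.mp h.cK g).mpr hbK)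
  have habK : g * b ∉ K := by
    intro hK
    have h1 : c⁻¹ * g * c ∈ K := by rw [hg2]; exact K.inv_mem hK
    have h2 := (Subgroup.mem_normalizer_iff.mp h.cK _).mp h1
    apply hgK
    have e : c * (c⁻¹ * g * c) * c⁻¹ = g := by group
    rwa [e] at h2
  have hR : g • w * b • w * (g * b)⁻¹ • w * (g⁻¹ • w)⁻¹ * (b⁻¹ • w)⁻¹ * ((g * b) • w)⁻¹ = 1 := by
    have h1 := S3P.normA h.p (g • w)
    have t2 : c • g • w = b • w := (h.ca g).symm
    have t3 : c⁻¹ • g • w = (g * b)⁻¹ • w := by rw [← h.cia, hg2]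
    have t4 : τ • g • w = (g⁻¹ • w)⁻¹ := by rw [h.ta, hτ]
    have t5 : (c * τ) • g • w = (b⁻¹ • w)⁻¹ := by
      rw [mul_smul, t4, smul_inv', ← h.ca]
      have : c * g⁻¹ * c⁻¹ = b⁻¹ := by rw [hb]; group
      rw [this]
    have t6 : (c⁻¹ * τ) • g • w = ((g * b) • w)⁻¹ := by
      rw [mul_smul, t4, smul_inv', ← h.cia]
      have : c⁻¹ * g⁻¹ * c = (c⁻¹ * g * c)⁻¹ := by group
      rw [this, hg2, inv_inv]
    rwa [t2, t3, t4, t5, t6] at h1
  have h3 := cubic hab hR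
  have hW : ∀ e ∈ Z, ∀ v ∈ WK V Z K, e • v * v⁻¹ ∈ WK V Z K := fun e he v hv =>
    Subgroup.mul_mem _ (smul_mem_WK_of_mem h.ab h.mx.le he hv) (Subgroup.inv_mem _ hv)
  have hx1 := hW _ (Z.mul_mem hg hbZ) w h.hw
  have hx2 := hW b hbZ _ hx1
  have h4 := h.mx.semireg hg hgK hx2 h3
  have h5 := h.mx.semireg hbZ hbK hx1 (mul_inv_eq_one.mp h4)
  have h6 := h.mx.semireg (Z.mul_mem hg hbZ) habK h.hw (mul_inv_eq_one.mp h5)
  rw [h6, smul_one]

theorem E1.Lb (h : E1 V c τ Z K w) {y : X} (hy : y ∈ Z) (hτ : τ * y * τ⁻¹ = y)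
    (hN : y * (c * y * c⁻¹) * (c⁻¹ * y * c) = 1) : y • w = w := by
  set y₁ := c * y * c⁻¹ with hy₁
  set y₂ := c⁻¹ * y * c with hy₂
  have hy₁Z : y₁ ∈ Z := h.cZ hy
  have hy₂Z : y₂ ∈ Z := h.ciZ hy
  have hcc := h.p.cc
  have hcci : c⁻¹ * c⁻¹ = c := by
    calc c⁻¹ * c⁻¹ = (c * c)⁻¹ := by group
      _ = c := by rw [hcc, inv_inv]
  have e1 : τ * y₁ * τ⁻¹ = y₂ := by
    calc τ * y₁ * τ⁻¹ = (τ * c) * y * (τ * c)⁻¹ := by rw [hy₁]; group
      _ = c⁻¹ * (τ * y * τ⁻¹) * c := by rw [h.p.tc]; group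
      _ = y₂ := by rw [hτ]
  have e2 : τ * y₂ * τ⁻¹ = y₁ := by
    calc τ * y₂ * τ⁻¹ = (τ * c⁻¹) * y * (τ * c⁻¹)⁻¹ := by rw [hy₂]; group
      _ = c * (τ * y * τ⁻¹) * c⁻¹ := by rw [h.p.tci]; group
      _ = y₁ := by rw [hτ]
  have e3 : c * y₁ * c⁻¹ = y₂ := by
    calc c * y₁ * c⁻¹ = (c * c) * y * (c * c)⁻¹ := by rw [hy₁]; group
      _ = y₂ := by rw [hcc, inv_inv]
  have e4 : c⁻¹ * y₂ * c = y₁ := by
    calc c⁻¹ * y₂ * c = (c⁻¹ * c⁻¹) * y * (c⁻¹ * c⁻¹)⁻¹ := by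
          rw [hy₂]; simp only [mul_inv_rev, inv_inv, mul_assoc]
      _ = y₁ := by rw [hcci]
  have e5 : c * y₂ * c⁻¹ = y := by rw [hy₂]; group
  have e6 : c⁻¹ * y₁ * c = y := by rw [hy₁]; group
  have h1 : (y₁ * y₂⁻¹) • w = w := by
    apply h.La (Z.mul_mem hy₁Z (Z.inv_mem hy₂Z))
    · calc τ * (y₁ * y₂⁻¹) * τ⁻¹ = (τ * y₁ * τ⁻¹) * (τ * y₂ * τ⁻¹)⁻¹ := by group
        _ = (y₁ * y₂⁻¹)⁻¹ := by rw [e1, e2]; group
    · calc y₁ * y₂⁻¹ * (c * (y₁ * y₂⁻¹) * c⁻¹) * (c⁻¹ * (y₁ * y₂⁻¹) * c)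
          = y₁ * y₂⁻¹ * ((c * y₁ * c⁻¹) * (c * y₂ * c⁻¹)⁻¹) * ((c⁻¹ * y₁ * c) * (c⁻¹ * y₂ * c)⁻¹) := by
            group
        _ = 1 := by rw [e3, e5, e6, e4]; group
  have h2 : y₁ • w = y₂ • w := by
    have : y₂ • (y₁ * y₂⁻¹) • w = y₂ • w := by rw [h1]
    rw [← mul_smul, ← mul_assoc, h.ab y₂ hy₂Z y₁ hy₁Z, mul_assoc, mul_inv_cancel, mul_one] at this
    exact this
  have h3 : c • (y • w) = y • w := by
    have h4 : c • y • w = c⁻¹ • y • w := by rw [← h.ca, ← h.cia]; exact h2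
    have h5 : c • c • y • w = y • w := by rw [h4, smul_inv_smul]
    rw [← mul_smul, hcc] at h5
    have := inv_smul_of_fix h5
    rwa [inv_inv] at this
  have h6 : y₁ • w = y • w := by rw [hy₁, h.ca, h3]
  have h7 : y₂ • w = y • w := by rw [← h2, h6]
  have h8 : (y ^ 3) • w = w := by
    have : (y * y₁ * y₂) • w = w := by rw [hN, one_smul]
    rw [mul_smul, mul_smul, h7, ← mul_smul y₁, h.ab y₁ hy₁Z y hy, mul_smul, h6] at this
    simp only [pow_succ, pow_zero, one_mul, mul_smul]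
    exact this
  have hc3 : (orderOf y).Coprime 3 :=
    orderOf_coprime (Nat.Coprime.coprime_dvd_right (by norm_num) h.adm.cop6) hy
  exact mem_of_pow_mem hc3 (MulAction.stabilizer X w) h8

theorem E1.Ld (h : E1 V c τ Z K w) {y : X} (hy : y ∈ Z) (hc : c * y = y * c) : y • w = w := by
  have h1 : c • (y • w) = y • w := by rw [← mul_smul, hc, mul_smul, h.cw]
  have h2 := S3P.inv_of_fix h.p h1
  rw [h.ta, inv_inj] at h2
  have h3 : τ * y * τ⁻¹ = y⁻¹ := by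
    have hyt := h.tZ hy
    have : y * (τ * y * τ⁻¹) = 1 := by
      apply h.adm.fpf _ (Z.mul_mem hy hyt)
      · have e : c * (τ * y * τ⁻¹) = (τ * y * τ⁻¹) * c := by
          have hci : c⁻¹ * y = y * c⁻¹ := by
            calc c⁻¹ * y = c⁻¹ * (y * c) * c⁻¹ := by group
              _ = c⁻¹ * (c * y) * c⁻¹ := by rw [hc]
              _ = y * c⁻¹ := by group
          calc c * (τ * y * τ⁻¹) = (c * τ) * y * τ⁻¹ := by group
            _ = τ * (c⁻¹ * y) * τ⁻¹ := by rw [← h.p.tci]; group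
            _ = τ * y * (τ * c)⁻¹ := by rw [hci]; group
            _ = (τ * y * τ⁻¹) * c := by rw [h.p.tc]; group
        calc c * (y * (τ * y * τ⁻¹)) = (c * y) * (τ * y * τ⁻¹) := by group
          _ = y * (c * (τ * y * τ⁻¹)) := by rw [hc]; group
          _ = y * (τ * y * τ⁻¹) * c := by rw [e]; group
      · have e : τ * (τ * y * τ⁻¹) * τ⁻¹ = y := by
          calc τ * (τ * y * τ⁻¹) * τ⁻¹ = (τ * τ) * y * (τ * τ)⁻¹ := by group
            _ = y := by rw [h.p.t2]; group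
        have e2 : τ * (y * (τ * y * τ⁻¹)) * τ⁻¹ = y * (τ * y * τ⁻¹) := by
          calc τ * (y * (τ * y * τ⁻¹)) * τ⁻¹ = (τ * y * τ⁻¹) * (τ * (τ * y * τ⁻¹) * τ⁻¹) := by group
            _ = y * (τ * y * τ⁻¹) := by rw [e, h.ab _ hyt y hy]
        exact mul_inv_eq_iff_eq_mul.mp e2
    exact eq_inv_of_mul_eq_one_right this
  rw [h3] at h2
  have h4 : (y ^ 2) • w = w := by
    rw [pow_two, mul_smul, ← h2, smul_inv_smul]
  have hc2 : (orderOf y).Coprime 2 :=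
    orderOf_coprime (Nat.Coprime.coprime_dvd_right (by norm_num) h.adm.cop6) hy
  exact mem_of_pow_mem hc2 (MulAction.stabilizer X w) h4

theorem mem_centralizer_zpowers {x a : X} (h : a * x = x * a) :
    x ∈ Subgroup.centralizer (Subgroup.zpowers a : Set X) := by
  have : Subgroup.zpowers a ≤ Subgroup.centralizer {x} := by
    rw [Subgroup.zpowers_le, Subgroup.mem_centralizer_singleton_iff]; exact h
  rw [Subgroup.mem_centralizer_iff]
  intro y hy
  exact Subgroup.mem_centralizer_singleton_iff.mp (this hy)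

theorem comm_of_mem_centralizer_zpowers {x a : X}
    (h : x ∈ Subgroup.centralizer (Subgroup.zpowers a : Set X)) : a * x = x * a :=
  Subgroup.mem_centralizer_iff.mp h a (Subgroup.mem_zpowers a)

theorem E1.final (h : E1 V c τ Z K w) : w = 1 := by
  set P := Subgroup.zpowers c with hP
  set Q := Subgroup.zpowers τ with hQ
  have hc3 : (Nat.card Z).Coprime 3 := Nat.Coprime.coprime_dvd_right (by norm_num) h.adm.cop6
  have hc2 : (Nat.card Z).Coprime 2 := Nat.Coprime.coprime_dvd_right (by norm_num) h.adm.cop6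
  have hPZ : P ≤ Subgroup.normalizer (Z : Set X) := Subgroup.zpowers_le.mpr h.adm.hc
  have hQZ : Q ≤ Subgroup.normalizer (Z : Set X) := Subgroup.zpowers_le.mpr h.adm.hτ
  have hZc : IsMulCommutative Z := ⟨⟨fun a b => Subtype.ext (h.ab a a.2 b b.2)⟩⟩
  obtain ⟨ha, hb⟩ := Cfsg.Agent.S0055.result P Z hPZ (card_zpowers_coprime h.p.c3 hc3)
  set Z₁ := ⁅Z, P⁆ with hZ₁
  have hZ₁le : Z₁ ≤ Z := Cfsg.Agent.Lib.Helper30SZ.commutator_le_of_le_normalizer hPZ
  have hPZ₁ : P ≤ Subgroup.normalizer (Z₁ : Set X) :=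
    Cfsg.Agent.Lib.Helper30SZ.le_normalizer_commutator hPZ Subgroup.le_normalizer
  have hQZ₁ : Q ≤ Subgroup.normalizer (Z₁ : Set X) :=
    Cfsg.Agent.Lib.Helper30SZ.le_normalizer_commutator hQZ h.p.norm
  have hZ₁c : IsMulCommutative Z₁ :=
    ⟨⟨fun a b => Subtype.ext (h.ab a (hZ₁le a.2) b (hZ₁le b.2))⟩⟩
  have ht2 : τ ^ 2 = 1 := by rw [pow_two]; exact h.p.t2
  obtain ⟨ha', hb'⟩ := Cfsg.Agent.S0055.result Q Z₁ hQZ₁ (card_zpowers_coprime ht2
    (Nat.Coprime.coprime_dvd_left (Subgroup.card_dvd_of_le hZ₁le) hc2))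
  have hQZ₂ : Q ≤ Subgroup.normalizer ((⁅Z₁, Q⁆ : Subgroup X) : Set X) :=
    Cfsg.Agent.Lib.Helper30SZ.le_normalizer_commutator hQZ₁ Subgroup.le_normalizer
  have hZ₂le : ⁅Z₁, Q⁆ ≤ Z₁ := Cfsg.Agent.Lib.Helper30SZ.commutator_le_of_le_normalizer hQZ₁
  have hN : ∀ e ∈ Z₁, e * (c * e * c⁻¹) * (c⁻¹ * e * c) = 1 := by
    intro e he
    have he1 : c * e * c⁻¹ ∈ Z₁ := conj_mem hPZ₁ (Subgroup.mem_zpowers c) he
    have he2 : c⁻¹ * e * c ∈ Z₁ := by
      have := conj_mem hPZ₁ (P.inv_mem (Subgroup.mem_zpowers c)) he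
      rwa [inv_inv] at this
    have hn : e * (c * e * c⁻¹) * (c⁻¹ * e * c) ∈ (Z ⊓ Subgroup.centralizer (P : Set X)) ⊓ Z₁ := by
      rw [Subgroup.mem_inf, Subgroup.mem_inf]
      have hmem := Z₁.mul_mem (Z₁.mul_mem he he1) he2
      refine ⟨⟨hZ₁le hmem, ?_⟩, hmem⟩
      apply mem_centralizer_zpowers
      rw [← mul_inv_eq_iff_eq_mul]
      have e1 : c * (c * e * c⁻¹) * c⁻¹ = c⁻¹ * e * c := by
        calc c * (c * e * c⁻¹) * c⁻¹ = (c * c) * e * (c * c)⁻¹ := by group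
          _ = c⁻¹ * e * c := by rw [h.p.cc, inv_inv]
      calc c * (e * (c * e * c⁻¹) * (c⁻¹ * e * c)) * c⁻¹
          = (c * e * c⁻¹) * (c * (c * e * c⁻¹) * c⁻¹) * e := by group
        _ = (c * e * c⁻¹) * (c⁻¹ * e * c) * e := by rw [e1]
        _ = e * ((c * e * c⁻¹) * (c⁻¹ * e * c)) :=
          h.ab _ (hZ₁le (Z₁.mul_mem he1 he2)) _ (hZ₁le he)
        _ = e * (c * e * c⁻¹) * (c⁻¹ * e * c) := by group
    rwa [ha, Subgroup.mem_bot] at hn
  have hle : Z ≤ MulAction.stabilizer X w := by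
    rw [← hb]
    apply sup_le
    · rintro y ⟨hy, hy2⟩
      exact h.Ld hy (comm_of_mem_centralizer_zpowers hy2)
    · rw [← hb']
      apply sup_le
      · rintro y ⟨hy, hy2⟩
        apply h.Lb (hZ₁le hy) _ (hN y hy)
        rw [comm_of_mem_centralizer_zpowers hy2]; group
      · intro e he
        apply h.La (hZ₁le (hZ₂le he)) _ (hN e (hZ₂le he))
        have he1 : τ * e * τ⁻¹ ∈ ⁅Z₁, Q⁆ := conj_mem hQZ₂ (Subgroup.mem_zpowers τ) he
        have hm : e * (τ * e * τ⁻¹) ∈ (Z₁ ⊓ Subgroup.centralizer (Q : Set X)) ⊓ ⁅Z₁, Q⁆ := by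
          rw [Subgroup.mem_inf, Subgroup.mem_inf]
          have hmem := Subgroup.mul_mem _ he he1
          refine ⟨⟨hZ₂le hmem, ?_⟩, hmem⟩
          apply mem_centralizer_zpowers
          rw [← mul_inv_eq_iff_eq_mul]
          calc τ * (e * (τ * e * τ⁻¹)) * τ⁻¹ = (τ * e * τ⁻¹) * ((τ * τ) * e * (τ * τ)⁻¹) := by group
            _ = (τ * e * τ⁻¹) * e := by rw [h.p.t2]; group
            _ = e * (τ * e * τ⁻¹) := h.ab _ (hZ₁le (hZ₂le he1)) _ (hZ₁le (hZ₂le he))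
        rw [ha', Subgroup.mem_bot] at hm
        exact eq_inv_of_mul_eq_one_right hm
  have hw2 : w ∈ WK V Z Z := ⟨h.hw.1, fun x hx => hle hx⟩
  rwa [WK_self h.cop, Subgroup.mem_bot] at hw2

theorem eq_one_of_zp (hc3 : c ^ 3 = 1) {N : Subgroup X} (hcN : c ∉ N) {k : X}
    (hk : k ∈ Subgroup.zpowers c) (hkN : k ∈ N) : k = 1 := by
  rcases zp3 hc3 hk with h1 | h1 | h1
  · exact h1
  · exact absurd (h1 ▸ hkN) hcN
  · exfalso
    apply hcN
    have := N.inv_mem hkN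
    rwa [h1, inv_inv] at this

/-- the dichotomy for a maximal `K` -/
theorem dich (p : S3P V c τ) (ab : ∀ x ∈ Z, ∀ y ∈ Z, x * y = y * x) (adm : Adm c τ Z)
    (cop : (Nat.card V).Coprime (Nat.card Z)) (mx : MaxK V Z K) :
    (c ∈ Subgroup.normalizer (K : Set X) ∧ ∀ w ∈ WK V Z K, c • w = w → w = 1) ∨
    (c ∉ Subgroup.normalizer (K : Set X) ∧ ∃ k ∈ Subgroup.zpowers c,
      k * τ ∈ Subgroup.normalizer (K : Set X) ∧ ∀ w ∈ WK V Z K, (k * τ) • w = w⁻¹) := by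
  by_cases hcK : c ∈ Subgroup.normalizer (K : Set X)
  · left
    exact ⟨hcK, fun w hw hcw => E1.final ⟨p, ab, adm, cop, mx, hcK, hw, hcw⟩⟩
  · right
    refine ⟨hcK, ?_⟩
    have horb := orbit_fpf ab adm.le p.fpfA (p.AA_coprime p.cop).symm mx
    obtain ⟨b, hbA, hbK, hb1⟩ : ∃ b ∈ AA c τ, b ∈ Subgroup.normalizer (K : Set X) ∧ b ≠ 1 := by
      by_contra hcon
      push Not at hcon
      obtain ⟨w, hw, hw1⟩ := mx.exists_ne
      apply hw1
      apply horb w hw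
      intro b hb hbK
      rw [hcon b hb hbK, one_smul]
    obtain ⟨k, hk, hbk | hbk⟩ := p.mem_AA hbA
    · exfalso
      apply hb1
      rw [hbk]
      exact eq_one_of_zp p.c3 hcK hk (hbk ▸ hbK)
    · subst hbk
      refine ⟨k, hk, hbK, ?_⟩
      intro w hw
      have hbw : (k * τ) • w ∈ WK V Z K := by
        have := smul_mem_WK (adm.le hbA) hw
        rwa [mem_normalizer_iff_cj.mp hbK] at this
      have hu : w * (k * τ) • w = 1 := by
        apply horb _ (Subgroup.mul_mem _ hw hbw)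
        intro b' hb'A hb'K
        obtain ⟨k', hk', hb' | hb'⟩ := p.mem_AA hb'A
        · rw [hb', eq_one_of_zp p.c3 hcK hk' (hb' ▸ hb'K), one_smul]
        · have h1 : k' * k⁻¹ ∈ Subgroup.normalizer (K : Set X) := by
            have := Subgroup.mul_mem _ hb'K (Subgroup.inv_mem _ hbK)
            rw [hb'] at this
            have e : k' * τ * (k * τ)⁻¹ = k' * k⁻¹ := by group
            rwa [e] at this
          have h2 := eq_one_of_zp p.c3 hcK (Subgroup.mul_mem _ hk' (Subgroup.inv_mem _ hk)) h1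
          have h3 : k' = k := mul_inv_eq_one.mp h2
          rw [hb', h3, smul_mul', ← mul_smul, (p.mulτ hk).t2, one_smul, mul_comm]
      exact eq_inv_of_mul_eq_one_right hu

end Cfsg.Agent.Lib.Helper66S3d
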