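import Mathlib
import Cfsg.Agent.Lib.Helper66S3d
import Cfsg.Agent.Lib.Helper66Ward6
import Cfsg.Agent.S0026

set_option autoImplicit false
set_option linter.unusedSectionVars false

namespace Cfsg.Agent.Lib.Helper66S3e

open Cfsg.Agent.Lib.Helper66Fpf Cfsg.Agent.Lib.Helper66Fpf2 Cfsg.Agent.Lib.Helper66Ward2
  Cfsg.Agent.Lib.Helper66S3a Cfsg.Agent.Lib.Helper66S3b Cfsg.Agent.Lib.Helper66S3c
  Cfsg.Agent.Lib.Helper66S3d Cfsg.Agent.Lib.Helper40Sylow Cfsg.Agent.Lib.Helper66Ward6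

variable {V : Type*} [CommGroup V] [Finite V] {X : Type*} [Group X] [Finite X]
  [MulDistribMulAction X V]

variable {c τ : X}

theorem exists_last {S : Subgroup X} (hnil : Group.IsNilpotent S) (hS : S ≠ ⊥) :
    ∃ m, S.lowerCentralSeries m ≠ ⊥ ∧ S.lowerCentralSeries (m + 1) = ⊥ := by
  classical
  have hex := (Subgroup.isNilpotent_iff_lowerCentralSeries S).mp hnil
  have hspec := Nat.find_spec hex
  have hmin := fun m => Nat.find_min hex (m := m)
  rcases Nat.eq_zero_or_pos (Nat.find hex) with h0 | h0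
  · rw [h0, Subgroup.lowerCentralSeries_zero] at hspec
    exact absurd hspec hS
  · refine ⟨Nat.find hex - 1, hmin _ (by omega), ?_⟩
    rwa [Nat.sub_add_cancel h0]

theorem normalizer_le_lcs (S : Subgroup X) (m : ℕ) :
    Subgroup.normalizer (S : Set X) ≤ Subgroup.normalizer (S.lowerCentralSeries m : Set X) := by
  induction m with
  | zero => rw [Subgroup.lowerCentralSeries_zero]
  | succ m ih =>
    rw [Subgroup.lowerCentralSeries_succ]
    exact Cfsg.Agent.Lib.Helper30SZ.le_normalizer_commutator ih le_rfl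

theorem exists_central {S : Subgroup X} (hnil : Group.IsNilpotent S) (hS : S ≠ ⊥) :
    ∃ Z : Subgroup X, Z ≤ S ∧ Z ≠ ⊥ ∧ ⁅Z, S⁆ = ⊥ ∧
      Subgroup.normalizer (S : Set X) ≤ Subgroup.normalizer (Z : Set X) ∧
      (⁅S, S⁆ ≠ ⊥ → Z ≤ ⁅S, S⁆) := by
  obtain ⟨m, h1, h2⟩ := exists_last hnil hS
  refine ⟨S.lowerCentralSeries m, Subgroup.lowerCentralSeries_le_self S m, h1, ?_,
    normalizer_le_lcs S m, ?_⟩
  · rw [← Subgroup.lowerCentralSeries_succ]; exact h2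
  · intro hne
    have hm : m ≠ 0 := by
      rintro rfl
      apply hne
      rw [Subgroup.lowerCentralSeries_succ, Subgroup.lowerCentralSeries_zero] at h2
      exact h2
    have : S.lowerCentralSeries m ≤ S.lowerCentralSeries 1 :=
      Subgroup.lowerCentralSeries_antitone S (by omega)
    rwa [Subgroup.lowerCentralSeries_succ, Subgroup.lowerCentralSeries_zero] at this

/-- a fixed point free involution inverts -/
theorem inv_of_fpf_invol {R : Subgroup X} (ht : τ * τ = 1) (hR : ∀ x ∈ R, τ * x * τ⁻¹ ∈ R)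
    (hf : ∀ x ∈ R, τ * x = x * τ → x = 1) : ∀ x ∈ R, τ * x * τ⁻¹ = x⁻¹ := by
  intro x hx
  obtain ⟨y, hy, rfl⟩ := lang (MulAut.conj τ) R
    (fun x hx => by rw [MulAut.conj_apply]; exact hR x hx)
    (fun x hx hfix => by
      rw [MulAut.conj_apply] at hfix
      exact hf x hx (mul_inv_eq_iff_eq_mul.mp hfix)) x hx
  rw [MulAut.conj_apply]
  calc τ * (y⁻¹ * (τ * y * τ⁻¹)) * τ⁻¹ = (τ * y * τ⁻¹)⁻¹ * ((τ * τ) * y * (τ * τ)⁻¹) := by group
    _ = (y⁻¹ * (τ * y * τ⁻¹))⁻¹ := by rw [ht]; group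

theorem abelian_of_fpf_invol {R : Subgroup X} (ht : τ * τ = 1) (hR : ∀ x ∈ R, τ * x * τ⁻¹ ∈ R)
    (hf : ∀ x ∈ R, τ * x = x * τ → x = 1) : ∀ x ∈ R, ∀ y ∈ R, x * y = y * x := by
  intro x hx y hy
  have h1 := inv_of_fpf_invol ht hR hf
  have h2 := h1 (x * y) (R.mul_mem hx hy)
  have h3 : τ * (x * y) * τ⁻¹ = (τ * x * τ⁻¹) * (τ * y * τ⁻¹) := by group
  rw [h3, h1 x hx, h1 y hy] at h2
  have h4 : (x⁻¹ * y⁻¹)⁻¹ = ((x * y)⁻¹)⁻¹ := by rw [h2]
  rw [inv_inv, mul_inv_rev, inv_inv, inv_inv] at h4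
  exact h4.symm

/-- context for the proof that invariant nilpotent subgroups are abelian -/
structure BCtx (V : Type*) [CommGroup V] {X : Type*} [Group X] [MulDistribMulAction X V]
    (c τ : X) (S Z K : Subgroup X) : Prop where
  p : S3P V c τ
  adm : Adm c τ S
  sol : Group.IsSolvable S
  cop : (Nat.card V).Coprime (Nat.card S)
  ZS : Z ≤ S
  Zc : ⁅Z, S⁆ = ⊥
  ZD : Z ≤ ⁅S, S⁆
  NZ : Subgroup.normalizer (S : Set X) ≤ Subgroup.normalizer (Z : Set X)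
  mx : MaxK V Z K

variable {S Z K : Subgroup X}

theorem BCtx.zc (h : BCtx V c τ S Z K) : ∀ z ∈ Z, ∀ x ∈ S, x * z = z * x := by
  intro z hz x hx
  exact Subgroup.mem_centralizer_iff.mp
    (Subgroup.commutator_eq_bot_iff_le_centralizer.mp h.Zc hz) x hx

theorem BCtx.ab (h : BCtx V c τ S Z K) : ∀ x ∈ Z, ∀ y ∈ Z, x * y = y * x :=
  fun x hx y hy => h.zc y hy x (h.ZS hx)

theorem BCtx.admZ (h : BCtx V c τ S Z K) : Adm c τ Z :=
  h.adm.of_le h.ZS (h.NZ h.adm.hc) (h.NZ h.adm.hτ)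

theorem BCtx.copZ (h : BCtx V c τ S Z K) : (Nat.card V).Coprime (Nat.card Z) :=
  Nat.Coprime.coprime_dvd_right (Subgroup.card_dvd_of_le h.ZS) h.cop

theorem BCtx.cj_eq (h : BCtx V c τ S Z K) {K' : Subgroup X} (hK' : K' ≤ Z) {x : X} (hx : x ∈ S) :
    cj x K' = K' := by
  apply cj_eq_of_le
  rintro _ ⟨k, hk, rfl⟩
  rw [MulEquiv.coe_toMonoidHom, MulAut.conj_apply, h.zc k (hK' hk) x hx]
  simpa using hk

theorem BCtx.SW (h : BCtx V c τ S Z K) {K' : Subgroup X} (hK' : K' ≤ Z) :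
    ∀ x ∈ S, ∀ w ∈ WK V Z K', x • w ∈ WK V Z K' := by
  intro x hx w hw
  have := smul_mem_WK (h.NZ (Subgroup.le_normalizer hx)) hw
  rwa [h.cj_eq hK' hx] at this

theorem BCtx.false_of_comm (h : BCtx V c τ S Z K)
    (hc : ∀ x ∈ S, ∀ y ∈ S, ∀ w ∈ WK V Z K, x • y • w = y • x • w) : False := by
  have h1 : ⁅S, S⁆ ≤ fixer S (WK V Z K) := by
    rw [Subgroup.commutator_le]
    intro x hx y hy
    refine ⟨?_, ?_⟩
    · rw [commutatorElement_def]
      exact S.mul_mem (S.mul_mem (S.mul_mem hx hy) (S.inv_mem hx)) (S.inv_mem hy)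
    · intro u hu
      rw [commutatorElement_def, mul_smul, mul_smul, mul_smul,
        hc x⁻¹ (S.inv_mem hx) y⁻¹ (S.inv_mem hy) u hu, smul_inv_smul, smul_inv_smul]
  apply h.mx.ne
  rw [eq_bot_iff, ← WK_self h.copZ]
  intro w hw
  exact ⟨hw.1, fun z hz => (h1 (h.ZD hz)).2 w hw⟩

theorem smul_mem_WK_of_normalizer {x : X} (hZ : x ∈ Subgroup.normalizer (Z : Set X))
    (hK : x ∈ Subgroup.normalizer (K : Set X)) {w : V} (hw : w ∈ WK V Z K) : x • w ∈ WK V Z K := by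
  have := smul_mem_WK hZ hw
  rwa [mem_normalizer_iff_cj.mp hK] at this

theorem BCtx.caseii (h : BCtx V c τ S Z K) (hcK : c ∈ Subgroup.normalizer (K : Set X))
    (hf : ∀ w ∈ WK V Z K, c • w = w → w = 1) : False := by
  set W := WK V Z K with hW
  have hcW : ∀ w ∈ W, c • w ∈ W := fun w hw => smul_mem_WK_of_normalizer h.admZ.hc hcK hw
  have hciW : ∀ w ∈ W, c⁻¹ • w ∈ W := fun w hw =>
    smul_mem_WK_of_normalizer (Subgroup.inv_mem _ h.admZ.hc) (Subgroup.inv_mem _ hcK) hw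
  have hSW := h.SW h.mx.le
  have hcomm := shult3_rel h.p.c3 W hcW hf S h.sol h.adm.cop6 h.cop
    (fun x hx => (Subgroup.mem_normalizer_iff.mp h.adm.hc x).mp hx) hSW
  have hcommi : ∀ g ∈ S, ∀ w ∈ W, c⁻¹ • g • w = g • c⁻¹ • w := by
    intro g hg w hw
    have := hcomm g hg _ (hciW w hw)
    rw [smul_inv_smul] at this
    rw [← this, inv_smul_smul]
  set P := Subgroup.zpowers c with hP
  have hPS : P ≤ Subgroup.normalizer (S : Set X) := Subgroup.zpowers_le.mpr h.adm.hc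
  have hc3 : (Nat.card S).Coprime 3 := Nat.Coprime.coprime_dvd_right (by norm_num) h.adm.cop6
  have hPx : ∀ x ∈ P, (∀ w ∈ W, x • w ∈ W) ∧ ∀ g ∈ S, ∀ w ∈ W, x • g • w = g • x • w := by
    intro x hx
    rcases zp3 h.p.c3 hx with h1 | h1 | h1
    · rw [h1]; exact ⟨fun w hw => by rwa [one_smul], fun g _ w _ => by rw [one_smul, one_smul]⟩
    · rw [h1]; exact ⟨hcW, hcomm⟩
    · rw [h1]; exact ⟨hciW, hcommi⟩
  have hN : ∀ n ∈ ⁅S, P⁆, ∀ w ∈ W, n • w = w := by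
    have : ⁅S, P⁆ ≤ fixer S W := by
      rw [Subgroup.commutator_le]
      intro g hg x hx
      refine ⟨?_, ?_⟩
      · rw [commutatorElement_def]
        have e : g * x * g⁻¹ * x⁻¹ = g * (x * g⁻¹ * x⁻¹) := by group
        rw [e]
        exact S.mul_mem hg (conj_mem hPS hx (S.inv_mem hg))
      · intro u hu
        rw [commutatorElement_def, mul_smul, mul_smul, mul_smul,
          (hPx x hx).2 g⁻¹ (S.inv_mem hg) _ ((hPx x⁻¹ (P.inv_mem hx)).1 u hu), smul_inv_smul,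
          smul_inv_smul]
    exact fun n hn => (this hn).2
  have hCab : ∀ x ∈ S ⊓ Subgroup.centralizer (P : Set X),
      ∀ y ∈ S ⊓ Subgroup.centralizer (P : Set X), x * y = y * x := by
    apply abelian_of_fpf_invol h.p.t2
    · intro x hx
      rw [Subgroup.mem_inf] at hx ⊢
      refine ⟨(Subgroup.mem_normalizer_iff.mp h.adm.hτ x).mp hx.1, ?_⟩
      apply mem_centralizer_zpowers
      have hc := comm_of_mem_centralizer_zpowers hx.2
      have hci : c⁻¹ * x = x * c⁻¹ := by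
        calc c⁻¹ * x = c⁻¹ * (x * c) * c⁻¹ := by group
          _ = c⁻¹ * (c * x) * c⁻¹ := by rw [hc]
          _ = x * c⁻¹ := by group
      calc c * (τ * x * τ⁻¹) = (c * τ) * x * τ⁻¹ := by group
        _ = τ * (c⁻¹ * x) * τ⁻¹ := by rw [← h.p.tci]; group
        _ = τ * x * (τ * c)⁻¹ := by rw [hci]; group
        _ = (τ * x * τ⁻¹) * c := by rw [h.p.tc]; group
    · intro x hx hτ
      exact h.adm.fpf x hx.1 (comm_of_mem_centralizer_zpowers hx.2) hτ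
  apply h.false_of_comm
  intro x hx y hy w hw
  obtain ⟨n₁, hn₁, h₁, hh₁, rfl⟩ := Cfsg.Agent.Lib.Helper30SZ.exists_commutator_mul_centralizer hPS
    (card_zpowers_coprime h.p.c3 hc3) (Or.inr h.sol) hx
  obtain ⟨n₂, hn₂, h₂, hh₂, rfl⟩ := Cfsg.Agent.Lib.Helper30SZ.exists_commutator_mul_centralizer hPS
    (card_zpowers_coprime h.p.c3 hc3) (Or.inr h.sol) hy
  have e : ∀ n ∈ ⁅S, P⁆, ∀ k ∈ S ⊓ Subgroup.centralizer (P : Set X), ∀ u ∈ W,
      (n * k) • u = k • u := by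
    intro n hn k hk u hu
    rw [mul_smul, hN n hn _ (hSW k hk.1 u hu)]
  rw [e n₂ hn₂ h₂ hh₂ w hw, e n₁ hn₁ h₁ hh₁ w hw, e n₁ hn₁ h₁ hh₁ _ (hSW h₂ hh₂.1 w hw),
    e n₂ hn₂ h₂ hh₂ _ (hSW h₁ hh₁.1 w hw), ← mul_smul, ← mul_smul, hCab h₁ hh₁ h₂ hh₂]

end Cfsg.Agent.Lib.Helper66S3e
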