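import Mathlib
import Cfsg.Agent.Lib.Helper66S3e
import Cfsg.Agent.S0022

set_option autoImplicit false
set_option linter.unusedSectionVars false

namespace Cfsg.Agent.Lib.Helper66S3f

open Cfsg.Agent.Lib.Helper66Fpf Cfsg.Agent.Lib.Helper66Fpf2 Cfsg.Agent.Lib.Helper66Ward2
  Cfsg.Agent.Lib.Helper66S3a Cfsg.Agent.Lib.Helper66S3b Cfsg.Agent.Lib.Helper66S3c
  Cfsg.Agent.Lib.Helper66S3d Cfsg.Agent.Lib.Helper40Sylow Cfsg.Agent.Lib.Helper66Ward6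
  Cfsg.Agent.Lib.Helper66S3e

variable {V : Type*} [CommGroup V] [Finite V] {X : Type*} [Group X] [Finite X]
  [MulDistribMulAction X V]

variable {c τ : X}

open scoped commutatorElement

theorem cici (p : S3P V c τ) : c⁻¹ * c⁻¹ = c := by
  have := p.cc
  calc c⁻¹ * c⁻¹ = (c * c)⁻¹ := by group
    _ = c := by rw [this, inv_inv]

theorem PP_AA (p : S3P V c τ) {R M : Subgroup X} (h1 : PP R M c) (h2 : PP R M τ) :
    ∀ a ∈ AA c τ, PP R M a := by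
  intro a ha
  have hk : ∀ k ∈ Subgroup.zpowers c, PP R M k := by
    intro k hk
    rcases zp3 p.c3 hk with e | e | e
    · rw [e]; exact PP.one R M
    · rw [e]; exact h1
    · rw [e, ← p.cc]; exact h1.mul h1
  obtain ⟨k, hk', e | e⟩ := p.mem_AA ha
  · rw [e]; exact hk k hk'
  · rw [e]; exact (hk k hk').mul h2

theorem gen2 (p : S3P V c τ) {R M : Subgroup X} (adm : Adm c τ R) (sol : Group.IsSolvable R)
    (h1 : PP R M c) (h2 : PP R M τ) : R ≤ M := by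
  have h3 := Cfsg.Agent.S0026.result (AA c τ) R adm.le (p.AA_coprime adm.cop6) (Or.inr sol)
  rw [adm.inf_eq_bot, sup_bot_eq] at h3
  rw [← h3, Subgroup.commutator_le]
  intro g hg a ha
  have h4 := (PP_AA p h1 h2 a ha).2 g hg
  have e : ⁅g, a⁆ = (a * g * a⁻¹ * g⁻¹)⁻¹ := by rw [commutatorElement_def]; group
  rw [e]
  exact M.inv_mem h4

theorem gen2' (p : S3P V c τ) {R M : Subgroup X} (adm : Adm c τ R) (sol : Group.IsSolvable R)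
    (h1 : PP R M (c * τ * c⁻¹)) (h2 : PP R M τ) : R ≤ M := by
  have e : c * τ * c⁻¹ * τ = c⁻¹ := by
    calc c * τ * c⁻¹ * τ = c * (τ * c⁻¹) * τ := by group
      _ = c * c * (τ * τ) := by rw [p.tci]; group
      _ = c⁻¹ := by rw [p.cc, p.t2, mul_one]
  have h3 : PP R M c⁻¹ := by rw [← e]; exact h1.mul h2
  have h4 : PP R M c := by rw [← cici p]; exact h3.mul h3
  exact gen2 p adm sol h4 h2

theorem gen2'' (p : S3P V c τ) {R M : Subgroup X} (adm : Adm c τ R) (sol : Group.IsSolvable R)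
    (h1 : PP R M (c⁻¹ * τ * c⁻¹⁻¹)) (h2 : PP R M τ) : R ≤ M := by
  have e : c⁻¹ * τ * c⁻¹⁻¹ * τ = c := by
    calc c⁻¹ * τ * c⁻¹⁻¹ * τ = c⁻¹ * (τ * c) * τ := by group
      _ = c⁻¹ * c⁻¹ * (τ * τ) := by rw [p.tc]; group
      _ = c := by rw [cici p, p.t2, mul_one]
  have h4 : PP R M c := by rw [← e]; exact h1.mul h2
  exact gen2 p adm sol h4 h2

theorem lift_fix (p : S3P V c τ) {R N : Subgroup X} (adm : Adm c τ R) (sol : Group.IsSolvable R)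
    (hNR : N ≤ R) (hRN : R ≤ Subgroup.normalizer (N : Set X))
    (hc : c ∈ Subgroup.normalizer (N : Set X)) (hτ : τ ∈ Subgroup.normalizer (N : Set X))
    {n : X} (hn : n ∈ R) (h1 : c * n * c⁻¹ * n⁻¹ ∈ N) (h2 : τ * n * τ⁻¹ * n⁻¹ ∈ N) : n ∈ N := by
  have hmul : ∀ a b : X, a ∈ Subgroup.normalizer (N : Set X) → a * n * a⁻¹ * n⁻¹ ∈ N →
      b * n * b⁻¹ * n⁻¹ ∈ N → (a * b) * n * (a * b)⁻¹ * n⁻¹ ∈ N := by
    intro a b ha h1 h2
    have e : (a * b) * n * (a * b)⁻¹ * n⁻¹ = (a * (b * n * b⁻¹ * n⁻¹) * a⁻¹) * (a * n * a⁻¹ * n⁻¹) := by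
      group
    rw [e]
    exact N.mul_mem ((Subgroup.mem_normalizer_iff.mp ha _).mp h2) h1
  have hk : ∀ k ∈ Subgroup.zpowers c, k * n * k⁻¹ * n⁻¹ ∈ N := by
    intro k hk
    rcases zp3 p.c3 hk with e | e | e
    · rw [e]; simp
    · rw [e]; exact h1
    · rw [e, ← p.cc]; exact hmul c c hc h1 h1
  have hfix : ∀ a ∈ AA c τ, a * n * a⁻¹ * n⁻¹ ∈ N := by
    intro a ha
    obtain ⟨k, hk', e | e⟩ := p.mem_AA ha
    · rw [e]; exact hk k hk'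
    · rw [e]; exact hmul k τ ((Subgroup.zpowers_le.mpr hc) hk') (hk k hk') h2
  obtain ⟨d, hd, hd2⟩ := Cfsg.Agent.S0022.result (AA c τ) R adm.le (p.AA_coprime adm.cop6)
    (Or.inr sol) N hNR hRN (AA_le_normalizer hc hτ) n hn hfix
  rw [adm.inf_eq_bot, Subgroup.mem_bot] at hd
  rw [hd, mul_one] at hd2
  simpa using N.inv_mem hd2

/-- congruence modulo a normal subgroup of `S` -/
def Rl (S N : Subgroup X) (x y : X) : Prop := x ∈ S ∧ y ∈ S ∧ x * y⁻¹ ∈ N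

theorem Rl.refl {S N : Subgroup X} {x : X} (hx : x ∈ S) : Rl S N x x := ⟨hx, hx, by simp⟩

theorem Rl.trans {S N : Subgroup X} {x y z : X} (h1 : Rl S N x y) (h2 : Rl S N y z) :
    Rl S N x z := by
  refine ⟨h1.1, h2.2.1, ?_⟩
  have e : x * z⁻¹ = (x * y⁻¹) * (y * z⁻¹) := by group
  rw [e]; exact N.mul_mem h1.2.2 h2.2.2

theorem Rl.mul {S N : Subgroup X} (hN : S ≤ Subgroup.normalizer (N : Set X)) {x y x' y' : X}
    (h1 : Rl S N x y) (h2 : Rl S N x' y') : Rl S N (x * x') (y * y') := by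
  refine ⟨S.mul_mem h1.1 h2.1, S.mul_mem h1.2.1 h2.2.1, ?_⟩
  have e : x * x' * (y * y')⁻¹ = (x * (x' * y'⁻¹) * x⁻¹) * (x * y⁻¹) := by group
  rw [e]; exact N.mul_mem (conj_mem hN h1.1 h2.2.2) h1.2.2

theorem Rl.conj {S N : Subgroup X} {g : X} (hS : g ∈ Subgroup.normalizer (S : Set X))
    (hN : g ∈ Subgroup.normalizer (N : Set X)) {x y : X}
    (h1 : Rl S N x y) : Rl S N (g * x * g⁻¹) (g * y * g⁻¹) := by
  refine ⟨(Subgroup.mem_normalizer_iff.mp hS _).mp h1.1, (Subgroup.mem_normalizer_iff.mp hS _).mp h1.2.1, ?_⟩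
  have e : g * x * g⁻¹ * (g * y * g⁻¹)⁻¹ = g * (x * y⁻¹) * g⁻¹ := by group
  rw [e]; exact (Subgroup.mem_normalizer_iff.mp hN _).mp h1.2.2

theorem comm_mem_left {S N : Subgroup X} (hN : S ≤ Subgroup.normalizer (N : Set X)) {x y : X}
    (hx : x ∈ N) (hy : y ∈ S) : x * y * x⁻¹ * y⁻¹ ∈ N := by
  have e : x * y * x⁻¹ * y⁻¹ = x * (y * x⁻¹ * y⁻¹) := by group
  rw [e]; exact N.mul_mem hx (conj_mem hN hy (N.inv_mem hx))

theorem comm_mem_right {S N : Subgroup X} (hN : S ≤ Subgroup.normalizer (N : Set X)) {x y : X}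
    (hx : x ∈ S) (hy : y ∈ N) : x * y * x⁻¹ * y⁻¹ ∈ N :=
  N.mul_mem (conj_mem hN hx hy) (N.inv_mem hy)


theorem PP.mono {S L L' : Subgroup X} {γ : X} (h : PP S L γ) (hle : L ≤ L') : PP S L' γ :=
  ⟨h.1, fun g hg => hle (h.2 g hg)⟩

variable {S Z K : Subgroup X}

/-- the translates of `W` -/
def Wf (V : Type*) [CommGroup V] {X : Type*} [Group X] [MulDistribMulAction X V]
    (Z K : Subgroup X) (g : X) : Subgroup V := WK V Z (cj g K)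

/-- their pointwise stabilisers in `S` -/
def Cf (V : Type*) [CommGroup V] {X : Type*} [Group X] [MulDistribMulAction X V]
    (S Z K : Subgroup X) (g : X) : Subgroup X := fixer S (Wf V Z K g)

theorem smul_Wf {a g : X} (ha : a ∈ Subgroup.normalizer (Z : Set X)) {w : V}
    (hw : w ∈ Wf V Z K g) : a • w ∈ Wf V Z K (a * g) := by
  have := smul_mem_WK ha hw
  rwa [← cj_mul] at this

theorem Wf_mul_right {n : X} (hn : n ∈ Subgroup.normalizer (K : Set X)) (g : X) :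
    Wf V Z K (g * n) = Wf V Z K g := by
  rw [Wf, Wf, cj_mul, mem_normalizer_iff_cj.mp hn]

theorem Cf_mul_right {n : X} (hn : n ∈ Subgroup.normalizer (K : Set X)) (g : X) :
    Cf V S Z K (g * n) = Cf V S Z K g := by
  rw [Cf, Cf, Wf_mul_right hn]

theorem Wf_one : Wf V Z K 1 = WK V Z K := by rw [Wf, cj_one]

theorem BCtx.S_Wf (h : BCtx V c τ S Z K) {g : X} (hg : g ∈ Subgroup.normalizer (Z : Set X)) :
    ∀ x ∈ S, ∀ w ∈ Wf V Z K g, x • w ∈ Wf V Z K g := h.SW (h.mx.cj hg).le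

theorem BCtx.Cf_conj (h : BCtx V c τ S Z K) {a g x : X}
    (ha : a ∈ Subgroup.normalizer (S : Set X)) (hx : x ∈ Cf V S Z K g) :
    a * x * a⁻¹ ∈ Cf V S Z K (a * g) := by
  refine ⟨(Subgroup.mem_normalizer_iff.mp ha x).mp hx.1, ?_⟩
  intro w hw
  have h1 := smul_Wf (Subgroup.inv_mem _ (h.NZ ha)) hw
  rw [inv_mul_cancel_left] at h1
  rw [mul_smul, mul_smul, hx.2 _ h1, smul_inv_smul]

theorem BCtx.Cf_normal (h : BCtx V c τ S Z K) {g : X}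
    (hg : g ∈ Subgroup.normalizer (Z : Set X)) :
    S ≤ Subgroup.normalizer (Cf V S Z K g : Set X) :=
  le_normalizer_fixer Subgroup.le_normalizer (BCtx.S_Wf h hg)

theorem inv_Wf (hinv : ∀ w ∈ WK V Z K, τ • w = w⁻¹) {g : X}
    (hg : g ∈ Subgroup.normalizer (Z : Set X)) :
    ∀ w ∈ Wf V Z K g, (g * τ * g⁻¹) • w = w⁻¹ := by
  intro w hw
  have h1 := smul_Wf (Subgroup.inv_mem _ hg) hw
  rw [inv_mul_cancel, Wf_one] at h1
  rw [mul_smul, mul_smul, hinv _ h1, smul_inv', smul_inv_smul]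

theorem BCtx.PP_Cf (h : BCtx V c τ S Z K) (hinv : ∀ w ∈ WK V Z K, τ • w = w⁻¹) {g : X}
    (hg : g ∈ Subgroup.normalizer (S : Set X)) : PP S (Cf V S Z K g) (g * τ * g⁻¹) := by
  have ht : g * τ * g⁻¹ ∈ Subgroup.normalizer (S : Set X) :=
    Subgroup.mul_mem _ (Subgroup.mul_mem _ hg h.adm.hτ) (Subgroup.inv_mem _ hg)
  have h1 : ∀ x ∈ S, g * τ * g⁻¹ * x * (g * τ * g⁻¹)⁻¹ ∈ S :=
    fun x hx => (Subgroup.mem_normalizer_iff.mp ht x).mp hx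
  refine ⟨h1, ?_⟩
  intro x hx
  refine ⟨S.mul_mem (h1 x hx) (S.inv_mem hx), ?_⟩
  intro w hw
  have hi := inv_Wf hinv (h.NZ hg)
  have hi' : ∀ u ∈ Wf V Z K g, (g * τ * g⁻¹)⁻¹ • u = u⁻¹ := by
    intro u hu
    rw [inv_smul_eq_iff, smul_inv', hi u hu, inv_inv]
  rw [mul_smul, mul_smul, mul_smul, hi' _ (BCtx.S_Wf h (h.NZ hg) _ (S.inv_mem hx) w hw), smul_inv',
    smul_inv_smul, smul_inv', hi w hw, inv_inv]

theorem BCtx.casei (h : BCtx V c τ S Z K) (hτK : τ ∈ Subgroup.normalizer (K : Set X))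
    (hinv : ∀ w ∈ WK V Z K, τ • w = w⁻¹) : False := by
  have hcS := h.adm.hc
  have hciS : c⁻¹ ∈ Subgroup.normalizer (S : Set X) := Subgroup.inv_mem _ hcS
  have h1S : (1 : X) ∈ Subgroup.normalizer (S : Set X) := Subgroup.one_mem _
  have hτS := h.adm.hτ
  have n0 := BCtx.Cf_normal h (h.NZ h1S)
  have n1 := BCtx.Cf_normal h (h.NZ hcS)
  have n2 := BCtx.Cf_normal h (h.NZ hciS)
  have P0 : PP S (Cf V S Z K 1) τ := by
    have := BCtx.PP_Cf h hinv h1S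
    simpa using this
  have P1 := BCtx.PP_Cf h hinv hcS
  have P2 := BCtx.PP_Cf h hinv hciS
  have hA1 : S ≤ Cf V S Z K 1 ⊔ Cf V S Z K c :=
    gen2' h.p h.adm h.sol (PP.mono P1 le_sup_right) (PP.mono P0 le_sup_left)
  have hA2 : S ≤ Cf V S Z K 1 ⊔ Cf V S Z K c⁻¹ :=
    gen2'' h.p h.adm h.sol (PP.mono P2 le_sup_right) (PP.mono P0 le_sup_left)
  -- conjugation rules
  have c0 : ∀ x ∈ Cf V S Z K 1, c * x * c⁻¹ ∈ Cf V S Z K c := by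
    intro x hx; have := BCtx.Cf_conj h hcS hx; rwa [mul_one] at this
  have c1 : ∀ x ∈ Cf V S Z K c, c * x * c⁻¹ ∈ Cf V S Z K c⁻¹ := by
    intro x hx; have := BCtx.Cf_conj h hcS hx; rwa [h.p.cc] at this
  have c2 : ∀ x ∈ Cf V S Z K c⁻¹, c * x * c⁻¹ ∈ Cf V S Z K 1 := by
    intro x hx; have := BCtx.Cf_conj h hcS hx; rwa [mul_inv_cancel] at this
  have d0 : ∀ x ∈ Cf V S Z K 1, c⁻¹ * x * c⁻¹⁻¹ ∈ Cf V S Z K c⁻¹ := by
    intro x hx; have := BCtx.Cf_conj h hciS hx; rwa [mul_one] at this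
  have d1 : ∀ x ∈ Cf V S Z K c, c⁻¹ * x * c⁻¹⁻¹ ∈ Cf V S Z K 1 := by
    intro x hx; have := BCtx.Cf_conj h hciS hx; rwa [inv_mul_cancel] at this
  have d2 : ∀ x ∈ Cf V S Z K c⁻¹, c⁻¹ * x * c⁻¹⁻¹ ∈ Cf V S Z K c := by
    intro x hx; have := BCtx.Cf_conj h hciS hx; rwa [cici h.p] at this
  have t0 : ∀ x ∈ Cf V S Z K 1, τ * x * τ⁻¹ ∈ Cf V S Z K 1 := by
    intro x hx; have := BCtx.Cf_conj h hτS hx
    rw [mul_one] at this
    have e : Cf V S Z K τ = Cf V S Z K 1 := by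
      have := Cf_mul_right (V := V) (S := S) (Z := Z) hτK 1
      rwa [one_mul] at this
    rwa [e] at this
  have t1 : ∀ x ∈ Cf V S Z K c, τ * x * τ⁻¹ ∈ Cf V S Z K c⁻¹ := by
    intro x hx; have := BCtx.Cf_conj h hτS hx
    rwa [h.p.tc, Cf_mul_right hτK] at this
  have t2 : ∀ x ∈ Cf V S Z K c⁻¹, τ * x * τ⁻¹ ∈ Cf V S Z K c := by
    intro x hx; have := BCtx.Cf_conj h hτS hx
    rwa [h.p.tci, Cf_mul_right hτK] at this
  set N : Subgroup X := Cf V S Z K 1 ⊓ Cf V S Z K c ⊓ Cf V S Z K c⁻¹ with hN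
  have memN : ∀ x, x ∈ N ↔ x ∈ Cf V S Z K 1 ∧ x ∈ Cf V S Z K c ∧ x ∈ Cf V S Z K c⁻¹ := by
    intro x; rw [hN, Subgroup.mem_inf, Subgroup.mem_inf, and_assoc]
  have hNS : N ≤ S := fun x hx => ((memN x).mp hx).1.1
  have hSN : S ≤ Subgroup.normalizer (N : Set X) := by
    apply le_normalizer_of
    intro a ha x hx
    rw [memN] at hx ⊢
    exact ⟨conj_mem n0 ha hx.1, conj_mem n1 ha hx.2.1, conj_mem n2 ha hx.2.2⟩
  have hcN : c ∈ Subgroup.normalizer (N : Set X) := by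
    apply Cfsg.Agent.Lib.Helper66Basic.mem_normalizer_of_conj_mem
    intro x hx
    rw [memN] at hx ⊢
    exact ⟨c2 x hx.2.2, c0 x hx.1, c1 x hx.2.1⟩
  have hτN : τ ∈ Subgroup.normalizer (N : Set X) := by
    apply Cfsg.Agent.Lib.Helper66Basic.mem_normalizer_of_conj_mem
    intro x hx
    rw [memN] at hx ⊢
    exact ⟨t0 x hx.1, t2 x hx.2.2, t1 x hx.2.1⟩
  have hB : ∀ a, a ∈ Cf V S Z K c → a ∈ Cf V S Z K c⁻¹ → a ∈ Cf V S Z K 1 := by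
    intro a ha1 ha2
    have haS : a ∈ S := ha1.1
    set a₁ := c * a * c⁻¹ with ha₁
    set a₂ := c⁻¹ * a * c⁻¹⁻¹ with ha₂
    have a₁0 : a₁ ∈ Cf V S Z K 1 := c2 a ha2
    have a₁2 : a₁ ∈ Cf V S Z K c⁻¹ := c1 a ha1
    have a₂0 : a₂ ∈ Cf V S Z K 1 := d1 a ha1
    have a₂1 : a₂ ∈ Cf V S Z K c := d2 a ha2
    have hn : a * a₁ * a₂ ∈ S := S.mul_mem (S.mul_mem haS a₁0.1) a₂0.1
    have e1 : c * (a * a₁ * a₂) * c⁻¹ * (a * a₁ * a₂)⁻¹ = (a₁ * a₂) * a * (a₁ * a₂)⁻¹ * a⁻¹ := by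
      have e2 : c * a₁ * c⁻¹ = a₂ := by
        calc c * a₁ * c⁻¹ = (c * c) * a * (c * c)⁻¹ := by rw [ha₁]; group
          _ = a₂ := by rw [h.p.cc]
      have e3 : c * a₂ * c⁻¹ = a := by rw [ha₂]; group
      calc c * (a * a₁ * a₂) * c⁻¹ * (a * a₁ * a₂)⁻¹
          = a₁ * (c * a₁ * c⁻¹) * (c * a₂ * c⁻¹) * (a * a₁ * a₂)⁻¹ := by rw [ha₁]; group
        _ = (a₁ * a₂) * a * (a₁ * a₂)⁻¹ * a⁻¹ := by rw [e2, e3]; group
    have h12 : a₁ * a₂ ∈ Cf V S Z K 1 := Subgroup.mul_mem _ a₁0 a₂0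
    have hfc : c * (a * a₁ * a₂) * c⁻¹ * (a * a₁ * a₂)⁻¹ ∈ N := by
      rw [e1, memN]
      exact ⟨comm_mem_left n0 h12 haS, comm_mem_right n1 h12.1 ha1, comm_mem_right n2 h12.1 ha2⟩
    set b := τ * a * τ⁻¹ with hb
    have hba : Rl S N b a := by
      refine ⟨(t1 a ha1).1, haS, ?_⟩
      rw [memN]
      exact ⟨P0.2 a haS, Subgroup.mul_mem _ (t2 a ha2) (Subgroup.inv_mem _ ha1),
        Subgroup.mul_mem _ (t1 a ha1) (Subgroup.inv_mem _ ha2)⟩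
    have r1 : Rl S N (c * b * c⁻¹) a₁ := hba.conj hcS hcN
    have r2 : Rl S N (c⁻¹ * b * c⁻¹⁻¹) a₂ := hba.conj hciS (Subgroup.inv_mem _ hcN)
    have r3 : Rl S N (a₂ * a₁) (a₁ * a₂) := by
      refine ⟨S.mul_mem a₂0.1 a₁0.1, S.mul_mem a₁0.1 a₂0.1, ?_⟩
      have e : a₂ * a₁ * (a₁ * a₂)⁻¹ = a₂ * a₁ * a₂⁻¹ * a₁⁻¹ := by group
      rw [e, memN]
      exact ⟨comm_mem_left n0 a₂0 a₁0.1, comm_mem_left n1 a₂1 a₁0.1, comm_mem_right n2 a₂0.1 a₁2⟩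
    have e4 : τ * (a * a₁ * a₂) * τ⁻¹ = b * ((c⁻¹ * b * c⁻¹⁻¹) * (c * b * c⁻¹)) := by
      have e5 : τ * a₁ * τ⁻¹ = c⁻¹ * b * c⁻¹⁻¹ := by
        calc τ * a₁ * τ⁻¹ = (τ * c) * a * (τ * c)⁻¹ := by rw [ha₁]; group
          _ = c⁻¹ * b * c⁻¹⁻¹ := by rw [h.p.tc, hb]; group
      have e6 : τ * a₂ * τ⁻¹ = c * b * c⁻¹ := by
        calc τ * a₂ * τ⁻¹ = (τ * c⁻¹) * a * (τ * c⁻¹)⁻¹ := by rw [ha₂]; group
          _ = c * b * c⁻¹ := by rw [h.p.tci, hb]; group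
      calc τ * (a * a₁ * a₂) * τ⁻¹ = b * ((τ * a₁ * τ⁻¹) * (τ * a₂ * τ⁻¹)) := by rw [hb]; group
        _ = _ := by rw [e5, e6]
    have r4 : Rl S N (τ * (a * a₁ * a₂) * τ⁻¹) (a * (a₁ * a₂)) := by
      rw [e4]
      exact hba.mul hSN ((r2.mul hSN r1).trans r3)
    have hft : τ * (a * a₁ * a₂) * τ⁻¹ * (a * a₁ * a₂)⁻¹ ∈ N := by
      have := r4.2.2
      rwa [← mul_assoc a a₁ a₂] at this
    have hnN := lift_fix h.p h.adm h.sol hNS hSN hcN hτN hn hfc hft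
    have e7 : a = (a * a₁ * a₂) * (a₁ * a₂)⁻¹ := by group
    rw [e7]
    exact Subgroup.mul_mem _ ((memN _).mp hnN).1 (Subgroup.inv_mem _ h12)
  apply h.false_of_comm
  have hSW := h.SW h.mx.le
  have tr : ∀ x ∈ Cf V S Z K 1, ∀ w ∈ WK V Z K, x • w = w := by
    intro x hx w hw
    apply hx.2
    rw [Wf_one]; exact hw
  intro x hx y hy w hw
  obtain ⟨x₀, hx₀, x₁, hx₁, rfl⟩ := (Cfsg.Agent.Lib.Helper30SZ.mem_sup_iff
    (le_trans (fun z (hz : z ∈ Cf V S Z K c) => hz.1) n0)).mp (hA1 hx)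
  obtain ⟨y₀, hy₀, y₂, hy₂, rfl⟩ := (Cfsg.Agent.Lib.Helper30SZ.mem_sup_iff
    (le_trans (fun z (hz : z ∈ Cf V S Z K c⁻¹) => hz.1) n0)).mp (hA2 hy)
  have hcm : x₁ * y₂ * x₁⁻¹ * y₂⁻¹ ∈ Cf V S Z K 1 :=
    hB _ (comm_mem_left n1 hx₁ hy₂.1) (comm_mem_right n2 hx₁.1 hy₂)
  have e8 : x₁ • y₂ • w = y₂ • x₁ • w := by
    have := tr _ hcm _ (hSW y₂ hy₂.1 _ (hSW x₁ hx₁.1 w hw))
    rw [← this, ← mul_smul, ← mul_smul, ← mul_smul]
    congr 1; group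
  rw [mul_smul, mul_smul, mul_smul, mul_smul, tr y₀ hy₀ _ (hSW y₂ hy₂.1 w hw),
    tr x₀ hx₀ _ (hSW x₁ hx₁.1 _ (hSW y₂ hy₂.1 w hw)), tr x₀ hx₀ _ (hSW x₁ hx₁.1 w hw),
    tr y₀ hy₀ _ (hSW y₂ hy₂.1 _ (hSW x₁ hx₁.1 w hw)), e8]

/-- invariant nilpotent subgroups of order prime to `|V|` are abelian -/
theorem beta [FaithfulSMul X V] (p : S3P V c τ) (adm : Adm c τ S) (nil : Group.IsNilpotent S)
    (cop : (Nat.card V).Coprime (Nat.card S)) : ⁅S, S⁆ = ⊥ := by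
  by_contra hne
  have hS : S ≠ ⊥ := by
    rintro rfl
    apply hne
    rw [eq_bot_iff]
    exact Subgroup.commutator_le_left _ _ |>.trans le_rfl
  obtain ⟨Z, hZS, hZne, hZc, hNZ, hZD⟩ := exists_central nil hS
  obtain ⟨K, mx⟩ := exists_maxK (V := V) hZne
  have sol : Group.IsSolvable S := inferInstance
  have ctx : BCtx V c τ S Z K := ⟨p, adm, sol, cop, hZS, hZc, hZD hne, hNZ, mx⟩
  rcases dich p ctx.ab ctx.admZ ctx.copZ mx with ⟨h1, h2⟩ | ⟨_, k, hk, h1, h2⟩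
  · exact ctx.caseii h1 h2
  · have ctx' : BCtx V c (k * τ) S Z K :=
      ⟨p.mulτ hk, adm.mulτ hk, sol, cop, hZS, hZc, hZD hne, hNZ, mx⟩
    exact BCtx.casei ctx' h1 h2

end Cfsg.Agent.Lib.Helper66S3f
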