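import Mathlib
import Cfsg.Agent.Lib.Helper66S3f

set_option autoImplicit false
set_option linter.unusedSectionVars false

namespace Cfsg.Agent.Lib.Helper66S3g

open Cfsg.Agent.Lib.Helper66Fpf Cfsg.Agent.Lib.Helper66Fpf2 Cfsg.Agent.Lib.Helper66Ward2
  Cfsg.Agent.Lib.Helper66S3a Cfsg.Agent.Lib.Helper66S3b Cfsg.Agent.Lib.Helper66S3c
  Cfsg.Agent.Lib.Helper66S3d Cfsg.Agent.Lib.Helper40Sylow Cfsg.Agent.Lib.Helper66Ward6
  Cfsg.Agent.Lib.Helper66S3e Cfsg.Agent.Lib.Helper66S3f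

variable {V : Type*} [CommGroup V] [Finite V] {X : Type*} [Group X] [Finite X]
  [MulDistribMulAction X V]

variable {c τ : X}

open scoped commutatorElement

variable {S : Subgroup X} {U : Subgroup V}

/-- the translate `g U` -/
def Uf (U : Subgroup V) (g : X) : Subgroup V := U.comap (MulDistribMulAction.toMonoidHom V g⁻¹)

theorem mem_Uf {g : X} {v : V} : v ∈ Uf U g ↔ g⁻¹ • v ∈ U := Iff.rfl

/-- pointwise stabilisers in `S` of the translates -/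
def Df (S : Subgroup X) (U : Subgroup V) (g : X) : Subgroup X := fixer S (Uf U g)

theorem smul_Uf {a g : X} {w : V} (hw : w ∈ Uf U g) : a • w ∈ Uf U (a * g) := by
  rw [mem_Uf] at hw ⊢
  rw [mul_inv_rev, mul_smul, inv_smul_smul]
  exact hw

theorem Uf_mul_right {n : X} (hn : ∀ u ∈ U, n • u ∈ U) (hn' : ∀ u ∈ U, n⁻¹ • u ∈ U) (g : X) :
    Uf U (g * n) = Uf U g := by
  ext v
  rw [mem_Uf, mem_Uf, mul_inv_rev, mul_smul]
  constructor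
  · intro h
    have := hn _ h
    rwa [smul_inv_smul] at this
  · intro h
    exact hn' _ h

theorem Uf_one : Uf U (1 : X) = U := by
  ext v
  rw [mem_Uf, inv_one, one_smul]

theorem S_Uf (hSU : ∀ x ∈ S, ∀ u ∈ U, x • u ∈ U) {g : X}
    (hg : g ∈ Subgroup.normalizer (S : Set X)) :
    ∀ x ∈ S, ∀ w ∈ Uf U g, x • w ∈ Uf U g := by
  intro x hx w hw
  rw [mem_Uf] at hw ⊢
  have h1 : g⁻¹ * x * g⁻¹⁻¹ ∈ S := (Subgroup.mem_normalizer_iff.mp (Subgroup.inv_mem _ hg) x).mp hx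
  have h2 := hSU _ h1 _ hw
  rw [← mul_smul] at h2 ⊢
  have e : g⁻¹ * x * g⁻¹⁻¹ * g⁻¹ = g⁻¹ * x := by group
  rwa [e] at h2

theorem Df_conj {a g x : X} (ha : a ∈ Subgroup.normalizer (S : Set X)) (hx : x ∈ Df S U g) :
    a * x * a⁻¹ ∈ Df S U (a * g) := by
  refine ⟨(Subgroup.mem_normalizer_iff.mp ha x).mp hx.1, ?_⟩
  intro w hw
  have h1 := smul_Uf (a := a⁻¹) hw
  rw [inv_mul_cancel_left] at h1
  rw [mul_smul, mul_smul, hx.2 _ h1, smul_inv_smul]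

theorem Df_normal (hSU : ∀ x ∈ S, ∀ u ∈ U, x • u ∈ U) {g : X}
    (hg : g ∈ Subgroup.normalizer (S : Set X)) :
    S ≤ Subgroup.normalizer (Df S U g : Set X) :=
  le_normalizer_fixer Subgroup.le_normalizer (S_Uf hSU hg)

theorem inv_Uf (hinv : ∀ w ∈ U, τ • w = w⁻¹) (g : X) :
    ∀ w ∈ Uf U g, (g * τ * g⁻¹) • w = w⁻¹ := by
  intro w hw
  rw [mem_Uf] at hw
  rw [mul_smul, mul_smul, hinv _ hw, smul_inv', smul_inv_smul]

theorem PP_Df (hτS : τ ∈ Subgroup.normalizer (S : Set X)) (hSU : ∀ x ∈ S, ∀ u ∈ U, x • u ∈ U)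
    (hinv : ∀ w ∈ U, τ • w = w⁻¹) {g : X}
    (hg : g ∈ Subgroup.normalizer (S : Set X)) : PP S (Df S U g) (g * τ * g⁻¹) := by
  have ht : g * τ * g⁻¹ ∈ Subgroup.normalizer (S : Set X) :=
    Subgroup.mul_mem _ (Subgroup.mul_mem _ hg hτS) (Subgroup.inv_mem _ hg)
  have h1 : ∀ x ∈ S, g * τ * g⁻¹ * x * (g * τ * g⁻¹)⁻¹ ∈ S :=
    fun x hx => (Subgroup.mem_normalizer_iff.mp ht x).mp hx
  refine ⟨h1, ?_⟩
  intro x hx
  refine ⟨S.mul_mem (h1 x hx) (S.inv_mem hx), ?_⟩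
  intro w hw
  have hi := inv_Uf hinv g
  have hi' : ∀ u ∈ Uf U g, (g * τ * g⁻¹)⁻¹ • u = u⁻¹ := by
    intro u hu
    rw [inv_smul_eq_iff, smul_inv', hi u hu, inv_inv]
  rw [mul_smul, mul_smul, mul_smul, hi' _ (S_Uf hSU hg _ (S.inv_mem hx) w hw), smul_inv',
    smul_inv_smul, smul_inv', hi w hw, inv_inv]

/-- if an involution of the pair inverts an `S`-invariant subgroup `U`, then `S` acts on `U` as an
abelian group -/
theorem tri (p : S3P V c τ) (adm : Adm c τ S) (sol : Group.IsSolvable S)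
    (hSU : ∀ x ∈ S, ∀ u ∈ U, x • u ∈ U) (hinv : ∀ w ∈ U, τ • w = w⁻¹) :
    ∀ x ∈ S, ∀ y ∈ S, ∀ w ∈ U, x • y • w = y • x • w := by
  have hcS := adm.hc
  have hciS : c⁻¹ ∈ Subgroup.normalizer (S : Set X) := Subgroup.inv_mem _ hcS
  have h1S : (1 : X) ∈ Subgroup.normalizer (S : Set X) := Subgroup.one_mem _
  have hτS := adm.hτ
  have hτU : ∀ u ∈ U, τ • u ∈ U := fun u hu => by rw [hinv u hu]; exact U.inv_mem hu
  have hτU' : ∀ u ∈ U, τ⁻¹ • u ∈ U := fun u hu => by rw [p.tinv]; exact hτU u hu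
  have Df_mul_right : ∀ g, Df S U (g * τ) = Df S U g := by
    intro g; rw [Df, Df, Uf_mul_right hτU hτU']
  have n0 := Df_normal hSU h1S
  have n1 := Df_normal hSU hcS
  have n2 := Df_normal hSU hciS
  have P0 : PP S (Df S U 1) τ := by
    have := PP_Df hτS hSU hinv h1S
    simpa using this
  have P1 := PP_Df hτS hSU hinv hcS
  have P2 := PP_Df hτS hSU hinv hciS
  have hA1 : S ≤ Df S U 1 ⊔ Df S U c :=
    gen2' p adm sol (PP.mono P1 le_sup_right) (PP.mono P0 le_sup_left)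
  have hA2 : S ≤ Df S U 1 ⊔ Df S U c⁻¹ :=
    gen2'' p adm sol (PP.mono P2 le_sup_right) (PP.mono P0 le_sup_left)
  -- conjugation rules
  have c0 : ∀ x ∈ Df S U 1, c * x * c⁻¹ ∈ Df S U c := by
    intro x hx; have := Df_conj hcS hx; rwa [mul_one] at this
  have c1 : ∀ x ∈ Df S U c, c * x * c⁻¹ ∈ Df S U c⁻¹ := by
    intro x hx; have := Df_conj hcS hx; rwa [p.cc] at this
  have c2 : ∀ x ∈ Df S U c⁻¹, c * x * c⁻¹ ∈ Df S U 1 := by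
    intro x hx; have := Df_conj hcS hx; rwa [mul_inv_cancel] at this
  have d0 : ∀ x ∈ Df S U 1, c⁻¹ * x * c⁻¹⁻¹ ∈ Df S U c⁻¹ := by
    intro x hx; have := Df_conj hciS hx; rwa [mul_one] at this
  have d1 : ∀ x ∈ Df S U c, c⁻¹ * x * c⁻¹⁻¹ ∈ Df S U 1 := by
    intro x hx; have := Df_conj hciS hx; rwa [inv_mul_cancel] at this
  have d2 : ∀ x ∈ Df S U c⁻¹, c⁻¹ * x * c⁻¹⁻¹ ∈ Df S U c := by
    intro x hx; have := Df_conj hciS hx; rwa [cici p] at this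
  have t0 : ∀ x ∈ Df S U 1, τ * x * τ⁻¹ ∈ Df S U 1 := by
    intro x hx; have := Df_conj hτS hx
    rw [mul_one] at this
    have e : Df S U τ = Df S U 1 := by
      have := Df_mul_right 1
      rwa [one_mul] at this
    rwa [e] at this
  have t1 : ∀ x ∈ Df S U c, τ * x * τ⁻¹ ∈ Df S U c⁻¹ := by
    intro x hx; have := Df_conj hτS hx
    rwa [p.tc, Df_mul_right] at this
  have t2 : ∀ x ∈ Df S U c⁻¹, τ * x * τ⁻¹ ∈ Df S U c := by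
    intro x hx; have := Df_conj hτS hx
    rwa [p.tci, Df_mul_right] at this
  set N : Subgroup X := Df S U 1 ⊓ Df S U c ⊓ Df S U c⁻¹ with hN
  have memN : ∀ x, x ∈ N ↔ x ∈ Df S U 1 ∧ x ∈ Df S U c ∧ x ∈ Df S U c⁻¹ := by
    intro x; rw [hN, Subgroup.mem_inf, Subgroup.mem_inf, and_assoc]
  have hNS : N ≤ S := fun x hx => ((memN x).mp hx).1.1
  have hSN : S ≤ Subgroup.normalizer (N : Set X) := by
    apply le_normalizer_of
    intro a ha x hx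
    rw [memN] at hx ⊢
    exact ⟨conj_mem n0 ha hx.1, conj_mem n1 ha hx.2.1, conj_mem n2 ha hx.2.2⟩
  have hcN : c ∈ Subgroup.normalizer (N : Set X) := by
    apply Cfsg.Agent.Lib.Helper66Basic.mem_normalizer_of_conj_mem
    intro x hx
    rw [memN] at hx ⊢
    exact ⟨c2 x hx.2.2, c0 x hx.1, c1 x hx.2.1⟩
  have hτN : τ ∈ Subgroup.normalizer (N : Set X) := by
    apply Cfsg.Agent.Lib.Helper66Basic.mem_normalizer_of_conj_mem
    intro x hx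
    rw [memN] at hx ⊢
    exact ⟨t0 x hx.1, t2 x hx.2.2, t1 x hx.2.1⟩
  have hB : ∀ a, a ∈ Df S U c → a ∈ Df S U c⁻¹ → a ∈ Df S U 1 := by
    intro a ha1 ha2
    have haS : a ∈ S := ha1.1
    set a₁ := c * a * c⁻¹ with ha₁
    set a₂ := c⁻¹ * a * c⁻¹⁻¹ with ha₂
    have a₁0 : a₁ ∈ Df S U 1 := c2 a ha2
    have a₁2 : a₁ ∈ Df S U c⁻¹ := c1 a ha1
    have a₂0 : a₂ ∈ Df S U 1 := d1 a ha1
    have a₂1 : a₂ ∈ Df S U c := d2 a ha2
    have hn : a * a₁ * a₂ ∈ S := S.mul_mem (S.mul_mem haS a₁0.1) a₂0.1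
    have e1 : c * (a * a₁ * a₂) * c⁻¹ * (a * a₁ * a₂)⁻¹ = (a₁ * a₂) * a * (a₁ * a₂)⁻¹ * a⁻¹ := by
      have e2 : c * a₁ * c⁻¹ = a₂ := by
        calc c * a₁ * c⁻¹ = (c * c) * a * (c * c)⁻¹ := by rw [ha₁]; group
          _ = a₂ := by rw [p.cc]
      have e3 : c * a₂ * c⁻¹ = a := by rw [ha₂]; group
      calc c * (a * a₁ * a₂) * c⁻¹ * (a * a₁ * a₂)⁻¹
          = a₁ * (c * a₁ * c⁻¹) * (c * a₂ * c⁻¹) * (a * a₁ * a₂)⁻¹ := by rw [ha₁]; group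
        _ = (a₁ * a₂) * a * (a₁ * a₂)⁻¹ * a⁻¹ := by rw [e2, e3]; group
    have h12 : a₁ * a₂ ∈ Df S U 1 := Subgroup.mul_mem _ a₁0 a₂0
    have hfc : c * (a * a₁ * a₂) * c⁻¹ * (a * a₁ * a₂)⁻¹ ∈ N := by
      rw [e1, memN]
      exact ⟨comm_mem_left n0 h12 haS, comm_mem_right n1 h12.1 ha1, comm_mem_right n2 h12.1 ha2⟩
    set b := τ * a * τ⁻¹ with hb
    have hba : Rl S N b a := by
      refine ⟨(t1 a ha1).1, haS, ?_⟩
      rw [memN]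
      exact ⟨P0.2 a haS, Subgroup.mul_mem _ (t2 a ha2) (Subgroup.inv_mem _ ha1),
        Subgroup.mul_mem _ (t1 a ha1) (Subgroup.inv_mem _ ha2)⟩
    have r1 : Rl S N (c * b * c⁻¹) a₁ := hba.conj hcS hcN
    have r2 : Rl S N (c⁻¹ * b * c⁻¹⁻¹) a₂ := hba.conj hciS (Subgroup.inv_mem _ hcN)
    have r3 : Rl S N (a₂ * a₁) (a₁ * a₂) := by
      refine ⟨S.mul_mem a₂0.1 a₁0.1, S.mul_mem a₁0.1 a₂0.1, ?_⟩
      have e : a₂ * a₁ * (a₁ * a₂)⁻¹ = a₂ * a₁ * a₂⁻¹ * a₁⁻¹ := by group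
      rw [e, memN]
      exact ⟨comm_mem_left n0 a₂0 a₁0.1, comm_mem_left n1 a₂1 a₁0.1, comm_mem_right n2 a₂0.1 a₁2⟩
    have e4 : τ * (a * a₁ * a₂) * τ⁻¹ = b * ((c⁻¹ * b * c⁻¹⁻¹) * (c * b * c⁻¹)) := by
      have e5 : τ * a₁ * τ⁻¹ = c⁻¹ * b * c⁻¹⁻¹ := by
        calc τ * a₁ * τ⁻¹ = (τ * c) * a * (τ * c)⁻¹ := by rw [ha₁]; group
          _ = c⁻¹ * b * c⁻¹⁻¹ := by rw [p.tc, hb]; group
      have e6 : τ * a₂ * τ⁻¹ = c * b * c⁻¹ := by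
        calc τ * a₂ * τ⁻¹ = (τ * c⁻¹) * a * (τ * c⁻¹)⁻¹ := by rw [ha₂]; group
          _ = c * b * c⁻¹ := by rw [p.tci, hb]; group
      calc τ * (a * a₁ * a₂) * τ⁻¹ = b * ((τ * a₁ * τ⁻¹) * (τ * a₂ * τ⁻¹)) := by rw [hb]; group
        _ = _ := by rw [e5, e6]
    have r4 : Rl S N (τ * (a * a₁ * a₂) * τ⁻¹) (a * (a₁ * a₂)) := by
      rw [e4]
      exact hba.mul hSN ((r2.mul hSN r1).trans r3)
    have hft : τ * (a * a₁ * a₂) * τ⁻¹ * (a * a₁ * a₂)⁻¹ ∈ N := by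
      have := r4.2.2
      rwa [← mul_assoc a a₁ a₂] at this
    have hnN := lift_fix p adm sol hNS hSN hcN hτN hn hfc hft
    have e7 : a = (a * a₁ * a₂) * (a₁ * a₂)⁻¹ := by group
    rw [e7]
    exact Subgroup.mul_mem _ ((memN _).mp hnN).1 (Subgroup.inv_mem _ h12)
  have tr : ∀ x ∈ Df S U 1, ∀ w ∈ U, x • w = w := by
    intro x hx w hw
    apply hx.2
    rw [Uf_one]; exact hw
  intro x hx y hy w hw
  obtain ⟨x₀, hx₀, x₁, hx₁, rfl⟩ := (Cfsg.Agent.Lib.Helper30SZ.mem_sup_iff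
    (le_trans (fun z (hz : z ∈ Df S U c) => hz.1) n0)).mp (hA1 hx)
  obtain ⟨y₀, hy₀, y₂, hy₂, rfl⟩ := (Cfsg.Agent.Lib.Helper30SZ.mem_sup_iff
    (le_trans (fun z (hz : z ∈ Df S U c⁻¹) => hz.1) n0)).mp (hA2 hy)
  have hcm : x₁ * y₂ * x₁⁻¹ * y₂⁻¹ ∈ Df S U 1 :=
    hB _ (comm_mem_left n1 hx₁ hy₂.1) (comm_mem_right n2 hx₁.1 hy₂)
  have e8 : x₁ • y₂ • w = y₂ • x₁ • w := by
    have := tr _ hcm _ (hSU y₂ hy₂.1 _ (hSU x₁ hx₁.1 w hw))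
    rw [← this, ← mul_smul, ← mul_smul, ← mul_smul]
    congr 1; group
  rw [mul_smul, mul_smul, mul_smul, mul_smul, tr y₀ hy₀ _ (hSU y₂ hy₂.1 w hw),
    tr x₀ hx₀ _ (hSU x₁ hx₁.1 _ (hSU y₂ hy₂.1 w hw)), tr x₀ hx₀ _ (hSU x₁ hx₁.1 w hw),
    tr y₀ hy₀ _ (hSU y₂ hy₂.1 _ (hSU x₁ hx₁.1 w hw)), e8]

end Cfsg.Agent.Lib.Helper66S3g
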