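import Mathlib
import Cfsg.Agent.Lib.Helper66S3g
import Cfsg.Agent.S0055
import Cfsg.Agent.S0027

set_option autoImplicit false
set_option linter.unusedSectionVars false

namespace Cfsg.Agent.Lib.Helper66S3h

open Cfsg.Agent.Lib.Helper66Fpf Cfsg.Agent.Lib.Helper66Fpf2 Cfsg.Agent.Lib.Helper66Ward2
  Cfsg.Agent.Lib.Helper66S3a Cfsg.Agent.Lib.Helper66S3b Cfsg.Agent.Lib.Helper66S3c
  Cfsg.Agent.Lib.Helper66S3d Cfsg.Agent.Lib.Helper40Sylow Cfsg.Agent.Lib.Helper66Ward6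
  Cfsg.Agent.Lib.Helper66S3e Cfsg.Agent.Lib.Helper66S3f Cfsg.Agent.Lib.Helper66S3g

variable {V : Type*} [CommGroup V] [Finite V] {X : Type*} [Group X] [Finite X]
  [MulDistribMulAction X V]

variable {c τ : X}

open scoped commutatorElement

variable {Z T K : Subgroup X}

theorem solvable_of_ab (h : ∀ x ∈ Z, ∀ y ∈ Z, x * y = y * x) : Group.IsSolvable Z :=
  Group.isSolvable_of_comm (fun a b => Subtype.ext (h a a.2 b b.2))

/-- elements of an admissible subgroup centralised by `c` are inverted by `τ` -/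
theorem inv_of_comm (p : S3P V c τ) {R : Subgroup X} (adm : Adm c τ R) :
    ∀ x ∈ R, c * x = x * c → τ * x * τ⁻¹ = x⁻¹ := by
  have key := inv_of_fpf_invol (τ := τ) (R := R ⊓ Subgroup.centralizer (Subgroup.zpowers c : Set X))
    p.t2
    (by
      intro x hx
      rw [Subgroup.mem_inf] at hx ⊢
      refine ⟨(Subgroup.mem_normalizer_iff.mp adm.hτ x).mp hx.1, ?_⟩
      apply mem_centralizer_zpowers
      have hc := comm_of_mem_centralizer_zpowers hx.2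
      have hci : c⁻¹ * x = x * c⁻¹ := by
        calc c⁻¹ * x = c⁻¹ * (x * c) * c⁻¹ := by group
          _ = c⁻¹ * (c * x) * c⁻¹ := by rw [hc]
          _ = x * c⁻¹ := by group
      calc c * (τ * x * τ⁻¹) = (c * τ) * x * τ⁻¹ := by group
        _ = τ * (c⁻¹ * x) * τ⁻¹ := by rw [← p.tci]; group
        _ = τ * x * (τ * c)⁻¹ := by rw [hci]; group
        _ = (τ * x * τ⁻¹) * c := by rw [p.tc]; group)
    (by
      intro x hx hτ
      exact adm.fpf x hx.1 (comm_of_mem_centralizer_zpowers hx.2) hτ)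
  intro x hx hc
  exact key x ⟨hx, mem_centralizer_zpowers hc⟩

theorem typeii_comm (p : S3P V c τ) (ab : ∀ x ∈ Z, ∀ y ∈ Z, x * y = y * x) (adm : Adm c τ Z)
    (cop : (Nat.card V).Coprime (Nat.card Z)) (mx : MaxK V Z K)
    (hcK : c ∈ Subgroup.normalizer (K : Set X)) (hf : ∀ w ∈ WK V Z K, c • w = w → w = 1) :
    PP Z K c := by
  have hcZ : ∀ x ∈ Z, c * x * c⁻¹ ∈ Z := fun x hx => (Subgroup.mem_normalizer_iff.mp adm.hc x).mp hx
  refine ⟨hcZ, ?_⟩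
  have hcW : ∀ w ∈ WK V Z K, c • w ∈ WK V Z K :=
    fun w hw => smul_mem_WK_of_normalizer adm.hc hcK hw
  have hciW : ∀ w ∈ WK V Z K, c⁻¹ • w ∈ WK V Z K := fun w hw =>
    smul_mem_WK_of_normalizer (Subgroup.inv_mem _ adm.hc) (Subgroup.inv_mem _ hcK) hw
  have hZW : ∀ x ∈ Z, ∀ w ∈ WK V Z K, x • w ∈ WK V Z K :=
    fun x hx w hw => smul_mem_WK_of_mem ab mx.le hx hw
  have hcomm := shult3_rel p.c3 (WK V Z K) hcW hf Z (solvable_of_ab ab) adm.cop6 cop hcZ hZW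
  intro g hg
  apply mx.mem_of_fix (Z.mul_mem (hcZ g hg) (Z.inv_mem hg))
  intro w hw
  rw [mul_smul, mul_smul, mul_smul, hcomm g hg _ (hciW _ (hZW _ (Z.inv_mem hg) w hw)),
    smul_inv_smul, smul_inv_smul]

/-- context for the proof that `T` centralises `Z` -/
structure ACtx (V : Type*) [CommGroup V] {X : Type*} [Group X] [MulDistribMulAction X V]
    (c τ : X) (Z T : Subgroup X) : Prop where
  p : S3P V c τ
  admZ : Adm c τ Z
  admT : Adm c τ T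
  abZ : ∀ x ∈ Z, ∀ y ∈ Z, x * y = y * x
  abT : ∀ x ∈ T, ∀ y ∈ T, x * y = y * x
  TZ : T ≤ Subgroup.normalizer (Z : Set X)
  copZT : (Nat.card T).Coprime (Nat.card Z)
  copV : (Nat.card V).Coprime (Nat.card Z)
  solY : Group.IsSolvable (Z ⊔ T : Subgroup X)
  gen : Z ≤ ⁅Z, T⁆

theorem ACtx.mulτ (h : ACtx V c τ Z T) {k : X} (hk : k ∈ Subgroup.zpowers c) :
    ACtx V c (k * τ) Z T :=
  ⟨h.p.mulτ hk, h.admZ.mulτ hk, h.admT.mulτ hk, h.abZ, h.abT, h.TZ, h.copZT, h.copV, h.solY, h.gen⟩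

theorem ACtx.conj (h : ACtx V c τ Z T) {y : X} (hy : y ∈ T) :
    ACtx V (y * c * y⁻¹) (y * τ * y⁻¹) Z T :=
  ⟨h.p.conj y, h.admZ.conj (h.TZ hy), h.admT.conj (Subgroup.le_normalizer hy), h.abZ, h.abT, h.TZ,
    h.copZT, h.copV, h.solY, h.gen⟩

theorem ACtx.false_of_PP (h : ACtx V c τ Z T) (mx : MaxK V Z K)
    (hP : ∀ y ∈ T, ∀ z ∈ Z, y * z * y⁻¹ * z⁻¹ ∈ K) : False := by
  have h1 : ⁅Z, T⁆ ≤ K := by
    rw [Subgroup.commutator_le]
    intro z hz y hy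
    have e : ⁅z, y⁆ = (y * z * y⁻¹ * z⁻¹)⁻¹ := by rw [commutatorElement_def]; group
    rw [e]
    exact K.inv_mem (hP y hy z hz)
  exact (mx.lt h.copV).not_ge (h.gen.trans h1)

theorem ACtx.false_of_comm (h : ACtx V c τ Z T) (mx : MaxK V Z K)
    (hc : ∀ y ∈ T, ∀ z ∈ Z, ∀ w ∈ WK V Z K, y • z • w = z • y • w) : False := by
  apply h.false_of_PP mx
  intro y hy z hz
  apply mx.mem_of_fix (Z.mul_mem (conj_mem h.TZ hy hz) (Z.inv_mem hz))
  intro w hw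
  rw [mul_smul, mul_smul, mul_smul, hc y⁻¹ (T.inv_mem hy) z⁻¹ (Z.inv_mem hz) w hw, smul_inv_smul,
    smul_inv_smul]

theorem ACtx.false_of_triv (h : ACtx V c τ Z T) (mx : MaxK V Z K)
    (ht : ∀ y ∈ T, ∀ w ∈ WK V Z K, y • w = w) : False := by
  apply h.false_of_comm mx
  intro y hy z hz w hw
  rw [ht y hy w hw, ht y hy _ (smul_mem_WK_of_mem h.abZ mx.le hz hw)]

theorem ACtx.o6 (h : ACtx V c τ Z T) {y : X} (hy : y ∈ T) : (orderOf y).Coprime 6 :=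
  orderOf_coprime h.admT.cop6 hy


theorem zp_comm {k y : X} (hk : k ∈ Subgroup.zpowers c) (hy : c * y = y * c) : k * y = y * k := by
  have h1 : Subgroup.zpowers c ≤ Subgroup.centralizer {y} := by
    rw [Subgroup.zpowers_le, Subgroup.mem_centralizer_singleton_iff]; exact hy
  exact Subgroup.mem_centralizer_singleton_iff.mp (h1 hk)

theorem zp_pow3 (hc : c ^ 3 = 1) {k : X} (hk : k ∈ Subgroup.zpowers c) : k ^ 3 = 1 := by
  rcases zp3 hc hk with e | e | e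
  · rw [e, one_pow]
  · rw [e, hc]
  · rw [e, inv_pow, hc, inv_one]

section type0

theorem ACtx.t0_inv (h : ACtx V c τ Z T) (h0 : ∀ y ∈ T, c * y = y * c) :
    ∀ y ∈ T, τ * y * τ⁻¹ = y⁻¹ := fun y hy => inv_of_comm h.p h.admT y hy (h0 y hy)

theorem ACtx.t0_comm (h : ACtx V c τ Z T) (h0 : ∀ y ∈ T, c * y = y * c) :
    ∀ z ∈ Z, c * z = z * c → ∀ y ∈ T, y * z = z * y := by
  intro z hz hcz y hy
  have hτy := h.t0_inv h0 y hy
  have hτz := inv_of_comm h.p h.admZ z hz hcz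
  have hz' : y * z * y⁻¹ ∈ Z := conj_mem h.TZ hy hz
  have hcz' : c * (y * z * y⁻¹) = (y * z * y⁻¹) * c := by
    have h1 := h0 y hy
    have h2 : c * y⁻¹ = y⁻¹ * c := by
      calc c * y⁻¹ = y⁻¹ * (y * c) * y⁻¹ := by group
        _ = y⁻¹ * (c * y) * y⁻¹ := by rw [h1]
        _ = y⁻¹ * c := by group
    calc c * (y * z * y⁻¹) = (c * y) * z * y⁻¹ := by group
      _ = y * (c * z) * y⁻¹ := by rw [h1]; group
      _ = y * z * (c * y⁻¹) := by rw [hcz]; group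
      _ = (y * z * y⁻¹) * c := by rw [h2]; group
  have hτz' := inv_of_comm h.p h.admZ _ hz' hcz'
  have e1 : τ * (y * z * y⁻¹) * τ⁻¹ = (τ * y * τ⁻¹) * (τ * z * τ⁻¹) * (τ * y * τ⁻¹)⁻¹ := by group
  rw [e1, hτy, hτz] at hτz'
  have e2 : y ^ 2 * z = z * y ^ 2 := by
    have e3 : (y⁻¹ * z⁻¹ * y⁻¹⁻¹)⁻¹ = ((y * z * y⁻¹)⁻¹)⁻¹ := by rw [hτz']
    have e4 : y⁻¹ * z * y = y * z * y⁻¹ := by
      calc y⁻¹ * z * y = (y⁻¹ * z⁻¹ * y⁻¹⁻¹)⁻¹ := by group
        _ = ((y * z * y⁻¹)⁻¹)⁻¹ := e3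
        _ = y * z * y⁻¹ := by group
    calc y ^ 2 * z = y * (y * z * y⁻¹) * y := by rw [pow_two]; group
      _ = y * (y⁻¹ * z * y) * y := by rw [e4]
      _ = z * y ^ 2 := by rw [pow_two]; group
  have h3 : y ∈ Subgroup.centralizer {z} := by
    apply mem_of_pow_mem (k := 2) (Nat.Coprime.coprime_dvd_right (by norm_num) (h.o6 hy))
    rw [Subgroup.mem_centralizer_singleton_iff]
    exact e2
  exact Subgroup.mem_centralizer_singleton_iff.mp h3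

theorem ACtx.t0_fpf (h : ACtx V c τ Z T) (h0 : ∀ y ∈ T, c * y = y * c) :
    ∀ z ∈ Z, c * z = z * c → z = 1 := by
  set P := Subgroup.zpowers c with hP
  have hPZ : P ≤ Subgroup.normalizer (Z : Set X) := Subgroup.zpowers_le.mpr h.admZ.hc
  have hc3 : (Nat.card Z).Coprime 3 := Nat.Coprime.coprime_dvd_right (by norm_num) h.admZ.cop6
  have hcop : (Nat.card P).Coprime (Nat.card Z) := card_zpowers_coprime h.p.c3 hc3
  have hTP : T ≤ Subgroup.normalizer (P : Set X) := by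
    refine le_trans ?_ (Subgroup.centralizer_le_normalizer _)
    intro y hy
    exact mem_centralizer_zpowers (h0 y hy)
  have hTD : T ≤ Subgroup.normalizer ((⁅Z, P⁆ : Subgroup X) : Set X) :=
    Cfsg.Agent.Lib.Helper30SZ.le_normalizer_commutator h.TZ hTP
  have hZD : Z ≤ ⁅Z, P⁆ := by
    refine h.gen.trans ?_
    rw [Subgroup.commutator_le]
    intro z hz y hy
    obtain ⟨x, hx, z₀, hz₀, rfl⟩ := Cfsg.Agent.Lib.Helper30SZ.exists_commutator_mul_centralizer hPZ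
      hcop (Or.inr (solvable_of_ab h.abZ)) hz
    have h1 := h.t0_comm h0 z₀ hz₀.1 (comm_of_mem_centralizer_zpowers hz₀.2) y hy
    have e : ⁅x * z₀, y⁆ = x * (y * x⁻¹ * y⁻¹) := by
      rw [commutatorElement_def]
      calc x * z₀ * y * (x * z₀)⁻¹ * y⁻¹ = x * (z₀ * y) * z₀⁻¹ * x⁻¹ * y⁻¹ := by group
        _ = x * (y * x⁻¹ * y⁻¹) := by rw [← h1]; group
    rw [e]
    exact Subgroup.mul_mem _ hx (conj_mem hTD hy (Subgroup.inv_mem _ hx))
  have : IsMulCommutative Z := ⟨⟨fun a b => Subtype.ext (h.abZ a a.2 b b.2)⟩⟩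
  have h55 := (Cfsg.Agent.S0055.result P Z hPZ hcop).1
  intro z hz hcz
  have : z ∈ (Z ⊓ Subgroup.centralizer (P : Set X)) ⊓ ⁅Z, P⁆ :=
    ⟨⟨hz, mem_centralizer_zpowers hcz⟩, hZD hz⟩
  rwa [h55, Subgroup.mem_bot] at this

theorem ACtx.t0_noii (h : ACtx V c τ Z T) (h0 : ∀ y ∈ T, c * y = y * c) {K' : Subgroup X}
    (mx : MaxK V Z K') (hcK : c ∈ Subgroup.normalizer (K' : Set X))
    (hf : ∀ w ∈ WK V Z K', c • w = w → w = 1) : False := by
  have hP := typeii_comm h.p h.abZ h.admZ h.copV mx hcK hf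
  apply (mx.lt h.copV).not_ge
  intro z hz
  obtain ⟨g, hg, rfl⟩ := lang (MulAut.conj c) Z
    (fun x hx => by rw [MulAut.conj_apply]; exact hP.1 x hx)
    (fun x hx hfix => by
      rw [MulAut.conj_apply] at hfix
      exact h.t0_fpf h0 x hx (mul_inv_eq_iff_eq_mul.mp hfix)) z hz
  rw [MulAut.conj_apply, h.abZ _ (Z.inv_mem hg) _ (hP.1 g hg)]
  exact hP.2 g hg

theorem ACtx.t0_core (h : ACtx V c τ Z T) (h0 : ∀ y ∈ T, c * y = y * c) (mx : MaxK V Z K)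
    (hinv : ∀ w ∈ WK V Z K, τ • w = w⁻¹) : False := by
  apply h.false_of_triv mx
  intro y hy w hw
  have mx' := mx.cj (h.TZ hy)
  rcases dich h.p h.abZ h.admZ h.copV mx' with ⟨h1, h2⟩ | ⟨_, k, hk, _, h2⟩
  · exact (h.t0_noii h0 mx' h1 h2).elim
  · have hi := inv_Wf hinv (h.TZ hy)
    have hτy := h.t0_inv h0 y hy
    set W' := WK V Z (cj y K) with hW'
    have hu : ∀ w' ∈ W', (k * (y⁻¹ * y⁻¹)) • w' = w' := by
      intro w' hw'
      have e : k * (y⁻¹ * y⁻¹) = (k * τ) * (y * τ * y⁻¹)⁻¹ := by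
        calc k * (y⁻¹ * y⁻¹) = k * (τ * y * τ⁻¹) * y⁻¹ := by rw [hτy]; group
          _ = (k * τ) * (y * τ * y⁻¹)⁻¹ := by group
      have e2 : (y * τ * y⁻¹)⁻¹ • w' = w'⁻¹ := by
        rw [inv_smul_eq_iff, smul_inv', hi w' hw', inv_inv]
      rw [e, mul_smul, e2, h2 _ (W'.inv_mem hw'), inv_inv]
    have hyi : c * y⁻¹ = y⁻¹ * c := h0 _ (T.inv_mem hy)
    have hkc : Commute k (y⁻¹ * y⁻¹) := by
      have := zp_comm hk hyi
      show k * (y⁻¹ * y⁻¹) = y⁻¹ * y⁻¹ * k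
      rw [← mul_assoc, this, mul_assoc, this, mul_assoc]
    have h3 : (k * (y⁻¹ * y⁻¹)) ^ 3 = y⁻¹ ^ 6 := by
      rw [hkc.mul_pow, zp_pow3 h.p.c3 hk, one_mul]; group
    have h4 : k * (y⁻¹ * y⁻¹) ∈ fixer ⊤ W' := ⟨Subgroup.mem_top _, hu⟩
    have h5 : y⁻¹ ∈ fixer ⊤ W' := by
      apply mem_of_pow_mem (k := 6) (h.o6 (T.inv_mem hy))
      rw [← h3]
      exact Subgroup.pow_mem _ h4 3
    have h6 := h5.2 _ (smul_mem_WK (h.TZ hy) hw)
    rw [inv_smul_smul] at h6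
    exact h6.symm

theorem ACtx.alpha0 [FaithfulSMul X V] (h : ACtx V c τ Z T) (h0 : ∀ y ∈ T, c * y = y * c) :
    Z = ⊥ := by
  by_contra hZ
  obtain ⟨K, mx⟩ := exists_maxK (V := V) hZ
  rcases dich h.p h.abZ h.admZ h.copV mx with ⟨h1, h2⟩ | ⟨_, k, hk, _, h2⟩
  · exact h.t0_noii h0 mx h1 h2
  · exact (h.mulτ hk).t0_core h0 mx h2

end type0

end Cfsg.Agent.Lib.Helper66S3h
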