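import Mathlib
import Cfsg.Agent.Lib.Helper66S3h

set_option autoImplicit false
set_option linter.unusedSectionVars false

namespace Cfsg.Agent.Lib.Helper66S3i

open Cfsg.Agent.Lib.Helper66Fpf Cfsg.Agent.Lib.Helper66Fpf2 Cfsg.Agent.Lib.Helper66Ward2
  Cfsg.Agent.Lib.Helper66S3a Cfsg.Agent.Lib.Helper66S3b Cfsg.Agent.Lib.Helper66S3c
  Cfsg.Agent.Lib.Helper66S3d Cfsg.Agent.Lib.Helper40Sylow Cfsg.Agent.Lib.Helper66Ward6
  Cfsg.Agent.Lib.Helper66S3e Cfsg.Agent.Lib.Helper66S3f Cfsg.Agent.Lib.Helper66S3g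
  Cfsg.Agent.Lib.Helper66S3h

variable {V : Type*} [CommGroup V] [Finite V] {X : Type*} [Group X] [Finite X]
  [MulDistribMulAction X V]

variable {c τ : X}

open scoped commutatorElement

variable {Z T K : Subgroup X}

/-- `c` acts without fixed points on `T` -/
def T1 (c : X) (T : Subgroup X) : Prop := ∀ y ∈ T, c * y = y * c → y = 1

theorem T1.conj (h1 : T1 c T) (ab : ∀ x ∈ T, ∀ y ∈ T, x * y = y * x) {y : X} (hy : y ∈ T) :
    T1 (y * c * y⁻¹) T := by
  intro x hx hc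
  apply h1 x hx
  have e : y⁻¹ * x * y = x := by
    rw [mul_assoc, ab x hx y hy]; group
  calc c * x = c * (y⁻¹ * x * y) := by rw [e]
    _ = y⁻¹ * (y * c * y⁻¹ * x) * y := by group
    _ = y⁻¹ * (x * (y * c * y⁻¹)) * y := by rw [hc]
    _ = (y⁻¹ * x * y) * c := by group
    _ = x * c := by rw [e]

theorem t1_no3 (h : ACtx V c τ Z T) (h1 : T1 c T) (mx : MaxK V Z K) :
    c ∉ Subgroup.normalizer (K : Set X) := by
  intro hcK
  rcases dich h.p h.abZ h.admZ h.copV mx with ⟨_, hf⟩ | ⟨hn, _⟩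
  swap
  · exact hn hcK
  have Pc := typeii_comm h.p h.abZ h.admZ h.copV mx hcK hf
  have hcW : ∀ w ∈ WK V Z K, c • w ∈ WK V Z K :=
    fun w hw => smul_mem_WK_of_normalizer h.admZ.hc hcK hw
  have Pcy : ∀ y ∈ T, PP Z K (y * c * y⁻¹) := by
    intro y hy
    have h' := h.conj hy
    rcases dich h'.p h'.abZ h'.admZ h'.copV mx with ⟨a1, a2⟩ | ⟨_, k, hk, htK, hinv⟩
    · exact typeii_comm h'.p h'.abZ h'.admZ h'.copV mx a1 a2
    · exfalso
      set c' := y * c * y⁻¹ with hc'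
      set t := k * (y * τ * y⁻¹) with ht
      have p'' : S3P V c' t := h'.p.mulτ hk
      have admT'' : Adm c' t T := h'.admT.mulτ hk
      set e := c'⁻¹ * c with he
      have heT : e ∈ T := by
        have e1 : e = y * (c⁻¹ * y⁻¹ * c⁻¹⁻¹) := by rw [he, hc']; group
        rw [e1]
        exact T.mul_mem hy ((Subgroup.mem_normalizer_iff.mp (Subgroup.inv_mem _ h.admT.hc) _).mp
          (T.inv_mem hy))
      set u := t * c * t⁻¹ * c with hu
      have huT : u ∈ T := by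
        have e2 : u = (c'⁻¹ * (t * e * t⁻¹) * c'⁻¹⁻¹) * e := by
          calc u = (t * c' * t⁻¹) * (t * e * t⁻¹) * c := by rw [hu, he]; group
            _ = c'⁻¹ * (t * e * t⁻¹) * c := by rw [p''.rel]
            _ = (c'⁻¹ * (t * e * t⁻¹) * c'⁻¹⁻¹) * e := by rw [he]; group
        rw [e2]
        exact T.mul_mem ((Subgroup.mem_normalizer_iff.mp (Subgroup.inv_mem _ admT''.hc) _).mp
          ((Subgroup.mem_normalizer_iff.mp admT''.hτ _).mp heT)) heT
      have huw : ∀ w ∈ WK V Z K, u • w = c⁻¹ • w := by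
        intro w hw
        rw [hu, mul_smul, mul_smul, mul_smul, p''.tinv, hinv _ (hcW w hw), smul_inv', smul_inv',
          hinv _ (hcW _ (hcW w hw)), inv_inv, ← mul_smul, h.p.cc]
      have hciW : ∀ w ∈ WK V Z K, c⁻¹ • w ∈ WK V Z K := fun w hw =>
        smul_mem_WK_of_normalizer (Subgroup.inv_mem _ h.admZ.hc) (Subgroup.inv_mem _ hcK) hw
      obtain ⟨w, hw, hw1⟩ := mx.exists_ne
      apply hw1
      apply hf w hw
      have h3 : u ^ 3 ∈ MulAction.stabilizer X w := by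
        rw [MulAction.mem_stabilizer_iff]
        have e3 : u ^ 3 = u * u * u := by simp only [pow_succ, pow_zero, one_mul]
        rw [e3, mul_smul, mul_smul, huw w hw, huw _ (hciW w hw), huw _ (hciW _ (hciW w hw)),
          ← mul_smul, ← mul_smul, cici h.p, mul_inv_cancel, one_smul]
      have h4 : u ∈ MulAction.stabilizer X w :=
        mem_of_pow_mem (k := 3) (Nat.Coprime.coprime_dvd_right (by norm_num) (h.o6 huT)) _ h3
      rw [MulAction.mem_stabilizer_iff, huw w hw, inv_smul_eq_iff] at h4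
      exact h4.symm
  apply h.false_of_PP mx
  intro t ht
  have hcT : ∀ x ∈ T, c * x * c⁻¹ ∈ T :=
    fun x hx => (Subgroup.mem_normalizer_iff.mp h.admT.hc x).mp hx
  obtain ⟨y, hy, rfl⟩ := lang (MulAut.conj c) T
    (fun x hx => by rw [MulAut.conj_apply]; exact hcT x hx)
    (fun x hx hfix => by
      rw [MulAut.conj_apply] at hfix
      exact h1 x hx (mul_inv_eq_iff_eq_mul.mp hfix)) t ht
  have e : y⁻¹ * (MulAut.conj c) y = (y⁻¹ * c * y⁻¹⁻¹) * (c * c) := by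
    rw [MulAut.conj_apply, h.p.cc]; group
  rw [e]
  exact ((Pcy _ (T.inv_mem hy)).mul (Pc.mul Pc)).2

theorem t1_coset (h : ACtx V c τ Z T) (h1 : T1 c T) : ∀ e ∈ T, ∃ x ∈ T, c * e = x * c * x⁻¹ := by
  intro e he
  have hciT : ∀ x ∈ T, c⁻¹ * x * c⁻¹⁻¹ ∈ T :=
    fun x hx => (Subgroup.mem_normalizer_iff.mp (Subgroup.inv_mem _ h.admT.hc) x).mp hx
  have hcT : ∀ x ∈ T, c * x * c⁻¹ ∈ T :=
    fun x hx => (Subgroup.mem_normalizer_iff.mp h.admT.hc x).mp hx
  obtain ⟨x, hx, rfl⟩ := lang (MulAut.conj c⁻¹) T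
    (fun x hx => by rw [MulAut.conj_apply]; exact hciT x hx)
    (fun x hx hfix => by
      rw [MulAut.conj_apply] at hfix
      apply h1 x hx
      have h2 := mul_inv_eq_iff_eq_mul.mp hfix
      calc c * x = c * (x * c⁻¹) * c := by group
        _ = c * (c⁻¹ * x) * c := by rw [h2]
        _ = x * c := by group) e he
  refine ⟨x, hx, ?_⟩
  rw [MulAut.conj_apply]
  calc c * (x⁻¹ * (c⁻¹ * x * c⁻¹⁻¹)) = ((c * x⁻¹ * c⁻¹) * x) * c := by group
    _ = (x * (c * x⁻¹ * c⁻¹)) * c := by rw [h.abT _ (hcT _ (T.inv_mem hx)) x hx]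
    _ = x * c * x⁻¹ := by group

theorem t1_no3' (h : ACtx V c τ Z T) (h1 : T1 c T) (mx : MaxK V Z K) :
    ∀ e ∈ T, c * e ∉ Subgroup.normalizer (K : Set X) := by
  intro e he
  obtain ⟨x, hx, hxe⟩ := t1_coset h h1 e he
  rw [hxe]
  exact t1_no3 (h.conj hx) (h1.conj h.abT hx) mx

theorem t1_inv (h : ACtx V c τ Z T) (h1 : T1 c T) (mx : MaxK V Z K)
    (hτK : τ ∈ Subgroup.normalizer (K : Set X)) :
    ∀ y ∈ T, ∀ w ∈ WK V Z K, (y * τ * y⁻¹) • w = w⁻¹ := by
  intro y hy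
  have h' := h.conj hy
  have h1' := h1.conj h.abT hy
  rcases dich h'.p h'.abZ h'.admZ h'.copV mx with ⟨a1, _⟩ | ⟨_, k, hk, htK, hinv⟩
  · exact (t1_no3 h' h1' mx a1).elim
  set c' := y * c * y⁻¹ with hc'
  set e := y * (τ * y⁻¹ * τ⁻¹) with he
  have heT : e ∈ T := T.mul_mem hy ((Subgroup.mem_normalizer_iff.mp h.admT.hτ _).mp (T.inv_mem hy))
  have e1 : y * τ * y⁻¹ * τ = e := by
    calc y * τ * y⁻¹ * τ = y * (τ * y⁻¹ * τ⁻¹) * (τ * τ) := by group
      _ = e := by rw [h.p.t2, mul_one]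
  have h2 : k * e ∈ Subgroup.normalizer (K : Set X) := by
    have := Subgroup.mul_mem _ htK hτK
    rwa [mul_assoc, e1] at this
  rcases zp3 h'.p.c3 hk with hk1 | hk1 | hk1
  · rw [hk1, one_mul] at hinv
    exact hinv
  · rw [hk1] at h2
    exact (t1_no3' h' h1' mx e heT h2).elim
  · rw [hk1] at h2
    exfalso
    have h3 := Subgroup.inv_mem _ h2
    have e2 : (c'⁻¹ * e)⁻¹ = c' * (c'⁻¹ * e⁻¹ * c'⁻¹⁻¹) := by group
    rw [e2] at h3
    exact t1_no3' h' h1' mx _ ((Subgroup.mem_normalizer_iff.mp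
      (Subgroup.inv_mem _ h'.admT.hc) _).mp (T.inv_mem heT)) h3

theorem Adm.sup (hZ : Adm c τ Z) (hT : Adm c τ T) (hTZ : T ≤ Subgroup.normalizer (Z : Set X))
    (hcop : (Nat.card T).Coprime (Nat.card Z)) : Adm c τ (Z ⊔ T) := by
  have hn : ∀ a : X, a ∈ Subgroup.normalizer (Z : Set X) → a ∈ Subgroup.normalizer (T : Set X) →
      a ∈ Subgroup.normalizer ((Z ⊔ T : Subgroup X) : Set X) := by
    intro a h1 h2
    apply Cfsg.Agent.Lib.Helper66Basic.mem_normalizer_of_conj_mem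
    intro x hx
    obtain ⟨z, hz, y, hy, rfl⟩ := (Cfsg.Agent.Lib.Helper30SZ.mem_sup_iff hTZ).mp hx
    have e : a * (z * y) * a⁻¹ = (a * z * a⁻¹) * (a * y * a⁻¹) := by group
    rw [e]
    exact Subgroup.mul_mem _ (Subgroup.mem_sup_left ((Subgroup.mem_normalizer_iff.mp h1 z).mp hz))
      (Subgroup.mem_sup_right ((Subgroup.mem_normalizer_iff.mp h2 y).mp hy))
  have hsplit : ∀ a : X, a ∈ Subgroup.normalizer (Z : Set X) → a ∈ Subgroup.normalizer (T : Set X) →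
      ∀ z ∈ Z, ∀ y ∈ T, a * (z * y) = (z * y) * a → a * z = z * a ∧ a * y = y * a := by
    intro a h1 h2 z hz y hy h3
    have hz' := (Subgroup.mem_normalizer_iff.mp h1 z).mp hz
    have hy' := (Subgroup.mem_normalizer_iff.mp h2 y).mp hy
    have e : z⁻¹ * (a * z * a⁻¹) = y * (a * y * a⁻¹)⁻¹ := by
      have e1 : (a * z * a⁻¹) * (a * y * a⁻¹) = z * y := by
        calc (a * z * a⁻¹) * (a * y * a⁻¹) = (a * (z * y)) * a⁻¹ := by group
          _ = z * y := by rw [h3]; group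
      calc z⁻¹ * (a * z * a⁻¹) = z⁻¹ * ((a * z * a⁻¹) * (a * y * a⁻¹)) * (a * y * a⁻¹)⁻¹ := by group
        _ = y * (a * y * a⁻¹)⁻¹ := by rw [e1]; group
    have h4 : z⁻¹ * (a * z * a⁻¹) = 1 :=
      Cfsg.Agent.Lib.Helper30SZ.eq_one_of_mem_of_mem hcop (Z.mul_mem (Z.inv_mem hz) hz')
        (by rw [e]; exact T.mul_mem hy (T.inv_mem hy'))
    have h5 : y * (a * y * a⁻¹)⁻¹ = 1 := by rw [← e, h4]
    constructor
    · have : a * z * a⁻¹ = z := by
        have := inv_mul_eq_one.mp h4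
        exact this.symm
      exact mul_inv_eq_iff_eq_mul.mp this
    · have : a * y * a⁻¹ = y := (mul_inv_eq_one.mp h5).symm
      exact mul_inv_eq_iff_eq_mul.mp this
  refine ⟨hn c hZ.hc hT.hc, hn τ hZ.hτ hT.hτ, ?_, ?_⟩
  · intro x hx hc hτ
    obtain ⟨z, hz, y, hy, rfl⟩ := (Cfsg.Agent.Lib.Helper30SZ.mem_sup_iff hTZ).mp hx
    obtain ⟨c1, c2⟩ := hsplit c hZ.hc hT.hc z hz y hy hc
    obtain ⟨t1, t2⟩ := hsplit τ hZ.hτ hT.hτ z hz y hy hτ
    rw [hZ.fpf z hz c1 t1, hT.fpf y hy c2 t2, one_mul]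
  · rw [Cfsg.Agent.Lib.Helper30SZ.card_sup hTZ hcop]
    exact Nat.Coprime.mul_left hZ.cop6 hT.cop6

theorem t1_core (h : ACtx V c τ Z T) (h1 : T1 c T) (mx : MaxK V Z K)
    (hτK : τ ∈ Subgroup.normalizer (K : Set X)) : False := by
  have hinv := t1_inv h h1 mx hτK
  set Y := Z ⊔ T with hY
  let U : Subgroup V :=
    { carrier := {v | ∀ x ∈ Y, τ • x • v = (x • v)⁻¹}
      mul_mem' := by
        intro a b ha hb x hx
        rw [smul_mul', smul_mul', ha x hx, hb x hx, mul_inv]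
      one_mem' := by
        intro x _
        rw [smul_one, smul_one, inv_one]
      inv_mem' := by
        intro a ha x hx
        rw [smul_inv', smul_inv', ha x hx] }
  have hYU : ∀ x ∈ Y, ∀ u ∈ U, x • u ∈ U := by
    intro x hx u hu x' hx'
    have := hu _ (Y.mul_mem hx' hx)
    rwa [mul_smul] at this
  have hinvU : ∀ u ∈ U, τ • u = u⁻¹ := by
    intro u hu
    have := hu 1 Y.one_mem
    rwa [one_smul] at this
  have hWU : ∀ w ∈ WK V Z K, w ∈ U := by
    intro w hw x hx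
    obtain ⟨z, hz, y, hy, rfl⟩ := (Cfsg.Agent.Lib.Helper30SZ.mem_sup_iff h.TZ).mp hx
    have h2 : (z * y) • w ∈ WK V Z (cj y K) := by
      rw [mul_smul]
      exact smul_mem_WK_of_mem h.abZ (mx.cj (h.TZ hy)).le hz (smul_mem_WK (h.TZ hy) hw)
    generalize (z * y) • w = w'' at h2
    have h3 : y⁻¹ • w'' ∈ WK V Z K := by
      have := smul_mem_WK (Subgroup.inv_mem _ (h.TZ hy)) h2
      rwa [cj_inv_cj] at this
    have h4 := hinv y⁻¹ (T.inv_mem hy) _ h3
    rw [mul_smul, mul_smul, inv_inv, smul_inv_smul, ← smul_inv'] at h4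
    exact smul_left_cancel _ h4
  have key := tri h.p (Adm.sup h.admZ h.admT h.TZ h.copZT) h.solY hYU hinvU
  apply h.false_of_comm mx
  intro y hy z hz w hw
  exact key y (Subgroup.mem_sup_right hy) z (Subgroup.mem_sup_left hz) w (hWU w hw)

theorem alpha1 [FaithfulSMul X V] (h : ACtx V c τ Z T) (h1 : T1 c T) : Z = ⊥ := by
  by_contra hZ
  obtain ⟨K, mx⟩ := exists_maxK (V := V) hZ
  rcases dich h.p h.abZ h.admZ h.copV mx with ⟨a1, _⟩ | ⟨_, k, hk, a1, _⟩
  · exact t1_no3 h h1 mx a1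
  · exact t1_core (h.mulτ hk) h1 mx a1


theorem alpha_gen [FaithfulSMul X V] (p : S3P V c τ) (admZ : Adm c τ Z) (admT : Adm c τ T)
    (abZ : ∀ x ∈ Z, ∀ y ∈ Z, x * y = y * x) (abT : ∀ x ∈ T, ∀ y ∈ T, x * y = y * x)
    (TZ : T ≤ Subgroup.normalizer (Z : Set X)) (copZT : (Nat.card T).Coprime (Nat.card Z))
    (copV : (Nat.card V).Coprime (Nat.card Z)) (solY : Group.IsSolvable (Z ⊔ T : Subgroup X))
    (hQ : (∀ y ∈ T, c * y = y * c) ∨ T1 c T) : ⁅Z, T⁆ = ⊥ := by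
  have hle : ⁅Z, T⁆ ≤ Z := Cfsg.Agent.Lib.Helper30SZ.commutator_le_of_le_normalizer TZ
  have hA : AA c τ ≤ Subgroup.normalizer ((⁅Z, T⁆ : Subgroup X) : Set X) :=
    Cfsg.Agent.Lib.Helper30SZ.le_normalizer_commutator admZ.le admT.le
  have ctx : ACtx V c τ ⁅Z, T⁆ T :=
    { p := p
      admZ := admZ.of_le hle (hA c_mem_AA) (hA t_mem_AA)
      admT := admT
      abZ := fun x hx y hy => abZ x (hle hx) y (hle hy)
      abT := abT
      TZ := Cfsg.Agent.Lib.Helper30SZ.le_normalizer_commutator TZ Subgroup.le_normalizer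
      copZT := Nat.Coprime.coprime_dvd_right (Subgroup.card_dvd_of_le hle) copZT
      copV := Nat.Coprime.coprime_dvd_right (Subgroup.card_dvd_of_le hle) copV
      solY := Cfsg.Agent.Lib.Helper30SZ.solvable_of_le solY (sup_le_sup_right hle T)
      gen := (Cfsg.Agent.S0027.result T Z TZ copZT (Or.inr (solvable_of_ab abZ))).ge }
  rcases hQ with h0 | h1
  · exact ctx.alpha0 h0
  · exact alpha1 ctx h1

/-- an invariant abelian subgroup `T` normalising an invariant abelian subgroup `Z` of coprime order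
(also prime to `|V|`) centralises it -/
theorem alpha [FaithfulSMul X V] (p : S3P V c τ) (admZ : Adm c τ Z) (admT : Adm c τ T)
    (abZ : ∀ x ∈ Z, ∀ y ∈ Z, x * y = y * x) (abT : ∀ x ∈ T, ∀ y ∈ T, x * y = y * x)
    (TZ : T ≤ Subgroup.normalizer (Z : Set X)) (copZT : (Nat.card T).Coprime (Nat.card Z))
    (copV : (Nat.card V).Coprime (Nat.card Z)) (solY : Group.IsSolvable (Z ⊔ T : Subgroup X)) :
    ⁅Z, T⁆ = ⊥ := by
  set P := Subgroup.zpowers c with hP
  have hPT : P ≤ Subgroup.normalizer (T : Set X) := Subgroup.zpowers_le.mpr admT.hc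
  have hc3 : (Nat.card T).Coprime 3 := Nat.Coprime.coprime_dvd_right (by norm_num) admT.cop6
  have hcop : (Nat.card P).Coprime (Nat.card T) := card_zpowers_coprime p.c3 hc3
  have : IsMulCommutative T := ⟨⟨fun a b => Subtype.ext (abT a a.2 b b.2)⟩⟩
  obtain ⟨h55a, h55b⟩ := Cfsg.Agent.S0055.result P T hPT hcop
  set T₀ := T ⊓ Subgroup.centralizer (P : Set X) with hT₀
  set T₁ := ⁅T, P⁆ with hT₁
  have hT₀T : T₀ ≤ T := inf_le_left
  have hT₁T : T₁ ≤ T := Cfsg.Agent.Lib.Helper30SZ.commutator_le_of_le_normalizer hPT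
  have hAP : AA c τ ≤ Subgroup.normalizer (P : Set X) := sup_le Subgroup.le_normalizer p.norm
  have hA1 : AA c τ ≤ Subgroup.normalizer (T₁ : Set X) :=
    Cfsg.Agent.Lib.Helper30SZ.le_normalizer_commutator admT.le hAP
  have adm₁ : Adm c τ T₁ := admT.of_le hT₁T (hA1 c_mem_AA) (hA1 t_mem_AA)
  have adm₀ : Adm c τ T₀ := by
    apply admT.of_le hT₀T
    · apply Cfsg.Agent.Lib.Helper66Basic.mem_normalizer_of_conj_mem
      intro x hx
      have := comm_of_mem_centralizer_zpowers hx.2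
      rw [this]
      simpa using hx
    · apply Cfsg.Agent.Lib.Helper66Basic.mem_normalizer_of_conj_mem
      intro x hx
      rw [inv_of_comm p admT x hx.1 (comm_of_mem_centralizer_zpowers hx.2)]
      exact T₀.inv_mem hx
  have r0 : ⁅Z, T₀⁆ = ⊥ := alpha_gen p admZ adm₀ abZ
    (fun x hx y hy => abT x (hT₀T hx) y (hT₀T hy)) (hT₀T.trans TZ)
    (Nat.Coprime.coprime_dvd_left (Subgroup.card_dvd_of_le hT₀T) copZT) copV
    (Cfsg.Agent.Lib.Helper30SZ.solvable_of_le solY (sup_le_sup_left hT₀T Z))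
    (Or.inl (fun y hy => comm_of_mem_centralizer_zpowers hy.2))
  have r1 : ⁅Z, T₁⁆ = ⊥ := alpha_gen p admZ adm₁ abZ
    (fun x hx y hy => abT x (hT₁T hx) y (hT₁T hy)) (hT₁T.trans TZ)
    (Nat.Coprime.coprime_dvd_left (Subgroup.card_dvd_of_le hT₁T) copZT) copV
    (Cfsg.Agent.Lib.Helper30SZ.solvable_of_le solY (sup_le_sup_left hT₁T Z))
    (Or.inr (by
      intro y hy hc
      have : y ∈ T₀ ⊓ T₁ := ⟨⟨hT₁T hy, mem_centralizer_zpowers hc⟩, hy⟩
      rwa [h55a, Subgroup.mem_bot] at this))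
  rw [Subgroup.commutator_comm, Subgroup.commutator_eq_bot_iff_le_centralizer] at r0 r1 ⊢
  rw [← h55b]
  exact sup_le r0 r1

end Cfsg.Agent.Lib.Helper66S3i
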