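import Mathlib
import Cfsg.Agent.Lib.Helper66S3i
import Cfsg.Agent.Lib.Helper66Ward8

set_option autoImplicit false
set_option linter.unusedSectionVars false

namespace Cfsg.Agent.Lib.Helper66S3j

open Cfsg.Agent.Lib.Helper66Fpf Cfsg.Agent.Lib.Helper66Fpf2 Cfsg.Agent.Lib.Helper66Ward2
  Cfsg.Agent.Lib.Helper66S3a Cfsg.Agent.Lib.Helper66S3b Cfsg.Agent.Lib.Helper66S3c
  Cfsg.Agent.Lib.Helper66S3d Cfsg.Agent.Lib.Helper40Sylow
  Cfsg.Agent.Lib.Helper66S3e Cfsg.Agent.Lib.Helper66S3f Cfsg.Agent.Lib.Helper66S3g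
  Cfsg.Agent.Lib.Helper66S3h Cfsg.Agent.Lib.Helper66S3i Cfsg.Agent.Lib.Helper66Ward7
  Cfsg.Agent.Lib.Helper66Ward8 Cfsg.Agent.S3751

open scoped commutatorElement

theorem rpart_trivial {H : Type*} [Group H] [Finite H] (hsol : Group.IsSolvable H) {r : ℕ}
    [Fact r.Prime] (hOr : Cfsg.pCore r H = ⊥) (Q : Subgroup H) (hQ : IsPGroup r Q)
    (hc : ∀ s : Nat.Primes, (s : ℕ) ≠ r → ⁅Cfsg.pCore (s : ℕ) H, Q⁆ = ⊥) : Q = ⊥ := by
  have h1 : Q ≤ Subgroup.centralizer (Cfsg.fittingSubgroup H : Set H) := by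
    rw [Subgroup.le_centralizer_iff, Cfsg.Agent.Lib.Helper1Fitting.fitting_eq_iSup_pCore]
    apply iSup_le
    intro s
    by_cases hs : (s : ℕ) = r
    · rw [hs, hOr]; exact bot_le
    · exact Subgroup.commutator_eq_bot_iff_le_centralizer.mp (hc s hs)
  have h2 : Q ≤ Cfsg.fittingSubgroup H := h1.trans Cfsg.Agent.S0552.centralizer_fitting_le
  have h3 : (Nat.card (Cfsg.fittingSubgroup H)).Coprime r := by
    rw [Cfsg.Agent.Lib.Helper1Fitting.fitting_eq_iSup_pCore]
    apply (Cfsg.Agent.Lib.Helper1Fitting.coprime_card_iSup r _ _).2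
    intro s
    refine ⟨Cfsg.Agent.Lib.Helper1Fitting.pCore_normal _, ?_⟩
    by_cases hs : (s : ℕ) = r
    · rw [hs, hOr]; simp
    · have := Fact.mk s.2
      obtain ⟨k, hk⟩ := IsPGroup.iff_card.mp (Cfsg.Agent.Lib.Helper1Fitting.pCore_isPGroup (G := H) (s : ℕ))
      rw [hk]
      exact Nat.Coprime.pow_left _ ((Nat.coprime_primes s.2 Fact.out).mpr hs)
  have h4 : (Nat.card Q).Coprime r := Nat.Coprime.coprime_dvd_left (Subgroup.card_dvd_of_le h2) h3
  rcases hQ.card_eq_or_dvd with h | h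
  · exact Subgroup.card_eq_one.mp h
  · exact absurd (Nat.eq_one_of_dvd_coprimes h4 h dvd_rfl) (Fact.out : r.Prime).one_lt.ne'

variable {V : Type*} [CommGroup V] [Finite V] {X : Type*} [Group X] [Finite X]
  [MulDistribMulAction X V]

variable {c τ : X}

theorem ab_of_bot {S : Subgroup X} (h : ⁅S, S⁆ = ⊥) : ∀ x ∈ S, ∀ y ∈ S, x * y = y * x := by
  intro x hx y hy
  rw [Subgroup.commutator_eq_bot_iff_le_centralizer] at h
  exact Subgroup.mem_centralizer_iff.mp (h hy) x hx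

theorem coprime_pgroups {s t : ℕ} [Fact s.Prime] [Fact t.Prime] (hst : s ≠ t) {α β : Type*}
    [Group α] [Group β] [Finite α] [Finite β] (h1 : IsPGroup s α) (h2 : IsPGroup t β) :
    (Nat.card α).Coprime (Nat.card β) := by
  obtain ⟨k, hk⟩ := IsPGroup.iff_card.mp h1
  obtain ⟨j, hj⟩ := IsPGroup.iff_card.mp h2
  rw [hk, hj]
  exact Nat.Coprime.pow _ _ ((Nat.coprime_primes Fact.out Fact.out).mpr hst)

theorem habel {r : ℕ} [Fact r.Prime] (hV : IsPGroup r V) [Nontrivial V] [FaithfulSMul X V]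
    (p : S3P V c τ) {H : Subgroup X} (adm : Adm c τ H) (sol : Group.IsSolvable H)
    (hirr : ∀ U : Subgroup V, (∀ x ∈ H, ∀ u ∈ U, x • u ∈ U) →
      (∀ a ∈ AA c τ, ∀ u ∈ U, a • u ∈ U) → U = ⊥ ∨ U = ⊤) : ⁅H, H⁆ = ⊥ := by
  have hOr := Op_eq_bot hV adm.le hirr
  have hcopA : (Nat.card (AA c τ)).Coprime (Nat.card H) := p.AA_coprime adm.cop6
  have hex : ∀ t : Nat.Primes, ∃ P : Sylow (t : ℕ) H,
      AA c τ ≤ Subgroup.normalizer ((P : Subgroup H).map H.subtype : Set X) := by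
    intro t
    have := Fact.mk t.2
    exact Cfsg.Agent.S0023.result (AA c τ) H adm.le hcopA (Or.inr sol) t
  choose P hP using hex
  have admOf : ∀ Q : Subgroup X, Q ≤ H → AA c τ ≤ Subgroup.normalizer (Q : Set X) → Adm c τ Q :=
    fun Q h1 h2 => adm.of_le h1 (h2 c_mem_AA) (h2 t_mem_AA)
  have abOf : ∀ (s : Nat.Primes) (Q : Subgroup X), (s : ℕ) ≠ r → IsPGroup (s : ℕ) Q → Q ≤ H →
      AA c τ ≤ Subgroup.normalizer (Q : Set X) → ∀ x ∈ Q, ∀ y ∈ Q, x * y = y * x := by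
    intro s Q hs hQ h1 h2
    have := Fact.mk s.2
    exact ab_of_bot (Cfsg.Agent.Lib.Helper66S3f.beta p (admOf Q h1 h2) hQ.isNilpotent (coprime_pgroups (Ne.symm hs) hV hQ))
  have hAO : ∀ s : ℕ, AA c τ ≤ Subgroup.normalizer (Op s H : Set X) :=
    fun s => adm.le.trans (normalizer_le_normalizer_Op s H)
  have key : ∀ (s t : Nat.Primes) (T' : Subgroup X), s ≠ t → (s : ℕ) ≠ r → IsPGroup (t : ℕ) T' →
      T' ≤ H → AA c τ ≤ Subgroup.normalizer (T' : Set X) →
      (∀ x ∈ T', ∀ y ∈ T', x * y = y * x) → ⁅Op (s : ℕ) H, T'⁆ = ⊥ := by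
    intro s t T' hst hs hT' h1 h2 h3
    have := Fact.mk s.2
    have := Fact.mk t.2
    exact Cfsg.Agent.Lib.Helper66S3i.alpha p (admOf _ (Op_le _ H) (hAO s)) (admOf T' h1 h2)
      (abOf s _ hs (Op_isPGroup _ _) (Op_le _ H) (hAO s)) h3 (h1.trans (le_normalizer_Op _ H))
      (coprime_pgroups (fun h => hst (Subtype.ext h.symm)) hT' (Op_isPGroup _ _))
      (coprime_pgroups (Ne.symm hs) hV (Op_isPGroup _ _))
      (Cfsg.Agent.Lib.Helper30SZ.solvable_of_le sol (sup_le (Op_le _ H) h1))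
  let rr : Nat.Primes := ⟨r, Fact.out⟩
  have hTr : (P rr : Subgroup H) = ⊥ := by
    by_contra hne
    set Tr := (P rr : Subgroup H).map H.subtype with hTrdef
    have hTrne : Tr ≠ ⊥ := by
      intro hb
      exact hne ((Subgroup.map_eq_bot_iff_of_injective _ H.subtype_injective).mp hb)
    have hTrp : IsPGroup r Tr := (P rr).2.map _
    obtain ⟨Zr, hZT, hZne, hZc, hNZ, _⟩ := exists_central hTrp.isNilpotent hTrne
    have hZH : Zr ≤ H := hZT.trans (Subgroup.map_subtype_le _)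
    have hZab : ∀ x ∈ Zr, ∀ y ∈ Zr, x * y = y * x := by
      intro x hx y hy
      rw [Subgroup.commutator_eq_bot_iff_le_centralizer] at hZc
      exact Subgroup.mem_centralizer_iff.mp (hZc hy) x (hZT hx)
    have hZp : IsPGroup r Zr := hTrp.to_le hZT
    have h1 := rpart_trivial sol (r := r)
      ((Subgroup.map_eq_bot_iff_of_injective _ H.subtype_injective).mp hOr) (Zr.subgroupOf H)
      hZp.comap_subtype
      (by
        intro s hs
        apply (Subgroup.map_eq_bot_iff_of_injective _ H.subtype_injective).mp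
        rw [Subgroup.map_commutator, Subgroup.map_subgroupOf_eq_of_le hZH]
        exact key s rr Zr (fun h => hs (congrArg Subtype.val h)) hs hZp hZH ((hP rr).trans hNZ) hZab)
    apply hZne
    rw [← Subgroup.map_subgroupOf_eq_of_le hZH, h1, Subgroup.map_bot]
  have hnil : Group.IsNilpotent H := by
    apply nil_of_sylow_centralize sol P
    intro s t hst
    have := Fact.mk t.2
    have := Fact.mk s.2
    apply (Subgroup.map_eq_bot_iff_of_injective _ H.subtype_injective).mp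
    rw [Subgroup.map_commutator]
    change ⁅Op (s : ℕ) H, (P t : Subgroup H).map H.subtype⁆ = ⊥
    by_cases hsr : (s : ℕ) = r
    · rw [hsr, hOr]; simp
    by_cases htr : (t : ℕ) = r
    · have : t = rr := Subtype.ext htr
      rw [this, hTr]; simp
    exact key s t _ hst hsr ((P t).2.map _) (Subgroup.map_subtype_le _) (hP t)
      (abOf t _ htr ((P t).2.map _) (Subgroup.map_subtype_le _) (hP t))
  have hcop : (Nat.card V).Coprime (Nat.card H) := by
    obtain ⟨k, hk⟩ := IsPGroup.iff_card.mp hV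
    rw [hk]
    apply Nat.Coprime.pow_left
    rw [Nat.Prime.coprime_iff_not_dvd Fact.out]
    intro hd
    exact (P rr).ne_bot_of_dvd_card hd hTr
  exact Cfsg.Agent.Lib.Helper66S3f.beta p adm hnil hcop

end Cfsg.Agent.Lib.Helper66S3j
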