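import Mathlib
import Cfsg.Agent.Lib.Helper66Ward8

set_option autoImplicit false
set_option linter.unusedSectionVars false

namespace Cfsg.Agent.Lib.Helper66Ward9

open Cfsg.Agent.Lib.Helper66Fpf Cfsg.Agent.Lib.Helper66Ward2 Cfsg.Agent.Lib.Helper66Ward8

section main

variable {G : Type*} [Group G] [Finite G] {A₀ : Type*} [Group A₀] [Finite A₀]

theorem not_dvd_card {p : ℕ} [Fact p.Prime] (hA : IsPGroup p A₀) (ρ : A₀ →* MulAut G)
    (hf : ∀ g, (∀ a, ρ a g = g) → g = 1) : ¬ p ∣ Nat.card G := by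
  intro hd
  let _ : MulAction A₀ G := MulAction.compHom G ρ
  obtain ⟨b, hb, hb1⟩ := hA.exists_fixed_point_of_prime_dvd_card_of_fixed_point G hd (a := 1)
    (by intro a; exact map_one (ρ a))
  exact hb1 (hf b (fun a => hb a)).symm

theorem mem_of_coset_fixed {p : ℕ} [Fact p.Prime] (hA : IsPGroup p A₀) (ρ : A₀ →* MulAut G)
    (hf : ∀ g, (∀ a, ρ a g = g) → g = 1) (K : Subgroup G) (hK : ∀ a, ∀ x ∈ K, ρ a x ∈ K) {g : G}
    (hg : ∀ a, g⁻¹ * ρ a g ∈ K) : g ∈ K := by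
  let _ : MulAction A₀ G := MulAction.compHom G ρ
  let Ω : SubMulAction A₀ G :=
    { carrier := {x | g⁻¹ * x ∈ K}
      smul_mem' := by
        intro a x hx
        show g⁻¹ * ρ a x ∈ K
        have e : g⁻¹ * ρ a x = (g⁻¹ * ρ a g) * ρ a (g⁻¹ * x) := by rw [map_mul, map_inv]; group
        rw [e]; exact K.mul_mem (hg a) (hK a _ hx) }
  have hcard : Nat.card Ω = Nat.card K := Nat.card_congr
    { toFun := fun x => ⟨g⁻¹ * x, x.2⟩
      invFun := fun k => ⟨g * k, by show g⁻¹ * (g * k) ∈ K; simp⟩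
      left_inv := fun x => Subtype.ext (by simp)
      right_inv := fun k => Subtype.ext (by simp) }
  have hnd : ¬ p ∣ Nat.card Ω := by
    rw [hcard]
    intro hd
    exact not_dvd_card hA ρ hf (hd.trans (Subgroup.card_subgroup_dvd_card K))
  obtain ⟨x, hx⟩ := hA.nonempty_fixed_point_of_prime_not_dvd_card Ω hnd
  have hx1 : (x : G) = 1 := hf x (fun a => congrArg Subtype.val (hx a))
  have h2 : g⁻¹ * (x : G) ∈ K := x.2
  rw [hx1, mul_one] at h2
  simpa using K.inv_mem h2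

theorem abelian_of_min (hsol : Group.IsSolvable G) (ρ : A₀ →* MulAut G) (V : Subgroup G) [V.Normal]
    (hVne : V ≠ ⊥) (hσV : ∀ a, ∀ v ∈ V, ρ a v ∈ V)
    (hmin : ∀ W : Subgroup G, W.Normal → (∀ a, ∀ w ∈ W, ρ a w ∈ W) → W ≤ V → W = ⊥ ∨ W = V) :
    ∀ a ∈ V, ∀ b ∈ V, a * b = b * a := by
  have hlt : ⁅V, V⁆ < V := Group.IsSolvable.commutator_lt_of_ne_bot hVne
  have hinv : ∀ c, ∀ w ∈ ⁅V, V⁆, ρ c w ∈ ⁅V, V⁆ := by
    intro c
    have : ⁅V, V⁆ ≤ (⁅V, V⁆).comap (ρ c).toMonoidHom := by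
      rw [Subgroup.commutator_le]
      intro a ha b hb
      show ρ c _ ∈ ⁅V, V⁆
      rw [map_commutatorElement]
      exact Subgroup.commutator_mem_commutator (hσV c a ha) (hσV c b hb)
    intro w hw
    exact this hw
  have h0 : ⁅V, V⁆ = ⊥ := (hmin _ inferInstance hinv hlt.le).resolve_right hlt.ne
  rw [Subgroup.commutator_eq_bot_iff_le_centralizer] at h0
  intro a ha b hb
  exact (Subgroup.mem_centralizer_iff.mp (h0 hb) a ha)

theorem exponent_of_min (ρ : A₀ →* MulAut G) (V : Subgroup G) [V.Normal]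
    (hVne : V ≠ ⊥)
    (hmin : ∀ W : Subgroup G, W.Normal → (∀ a, ∀ w ∈ W, ρ a w ∈ W) → W ≤ V → W = ⊥ ∨ W = V)
    (hσV : ∀ a, ∀ v ∈ V, ρ a v ∈ V)
    (hab : ∀ a ∈ V, ∀ b ∈ V, a * b = b * a) :
    ∃ p : ℕ, p.Prime ∧ ∀ v ∈ V, v ^ p = 1 := by
  have hc : Nat.card V ≠ 1 := ((Subgroup.one_lt_card_iff_ne_bot V).mpr hVne).ne'
  obtain ⟨p, hp, hdvd⟩ := Nat.exists_prime_and_dvd hc
  refine ⟨p, hp, ?_⟩
  have := Fact.mk hp
  obtain ⟨x, hx⟩ := exists_prime_orderOf_dvd_card' p hdvd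
  let W : Subgroup G :=
    { carrier := {v | v ∈ V ∧ v ^ p = 1}
      mul_mem' := by
        rintro a b ⟨ha, ha'⟩ ⟨hb, hb'⟩
        refine ⟨V.mul_mem ha hb, ?_⟩
        rw [(show Commute a b from hab a ha b hb).mul_pow, ha', hb', one_mul]
      one_mem' := ⟨V.one_mem, one_pow _⟩
      inv_mem' := by
        rintro a ⟨ha, ha'⟩
        exact ⟨V.inv_mem ha, by rw [inv_pow, ha', inv_one]⟩ }
  have hWn : W.Normal := by
    constructor
    rintro a ⟨ha, ha'⟩ g
    exact ⟨‹V.Normal›.conj_mem a ha g, by rw [conj_pow, ha']; group⟩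
  have hWσ : ∀ c, ∀ w ∈ W, ρ c w ∈ W := by
    rintro c a ⟨ha, ha'⟩
    exact ⟨hσV c a ha, by rw [← map_pow, ha', map_one]⟩
  have hWV : W ≤ V := fun a ha => ha.1
  have hWne : W ≠ ⊥ := by
    intro hbot
    have h1 : (x : G) ∈ W := by
      refine ⟨x.2, ?_⟩
      have := pow_orderOf_eq_one x
      rw [hx] at this
      exact congrArg Subtype.val this
    rw [hbot, Subgroup.mem_bot] at h1
    have h2 : x = 1 := Subtype.ext h1
    rw [h2, orderOf_one] at hx
    exact hp.one_lt.ne hx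
  have hWV' : W = V := (hmin W hWn hWσ hWV).resolve_left hWne
  intro v hv
  rw [← hWV'] at hv
  exact hv.2

/-- restriction of an action by automorphisms to an invariant subgroup -/
def resHom (ρ : A₀ →* MulAut G) (V : Subgroup G) (hρV : ∀ a, ∀ v ∈ V, ρ a v ∈ V) :
    A₀ →* MulAut V where
  toFun a :=
    { toFun := fun v => ⟨ρ a v, hρV a v v.2⟩
      invFun := fun v => ⟨ρ a⁻¹ v, hρV a⁻¹ v v.2⟩
      left_inv := fun v => Subtype.ext (by
        show ρ a⁻¹ (ρ a v) = v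
        rw [map_inv]; simp)
      right_inv := fun v => Subtype.ext (by
        show ρ a (ρ a⁻¹ v) = v
        rw [map_inv]; simp)
      map_mul' := fun x y => Subtype.ext (map_mul (ρ a) (x : G) (y : G)) }
  map_one' := by
    ext v
    show ρ 1 (v : G) = v
    rw [map_one]; rfl
  map_mul' := by
    intro a b
    ext v
    show ρ (a * b) (v : G) = ρ a (ρ b v)
    rw [map_mul]; rfl

theorem resHom_apply (ρ : A₀ →* MulAut G) (V : Subgroup G) (hρV : ∀ a, ∀ v ∈ V, ρ a v ∈ V)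
    (a : A₀) (v : V) : ((resHom ρ V hρV a v : V) : G) = ρ a v := rfl

theorem step {p : ℕ} (hp : p.Prime) (hcomm : ∀ a b : A₀, a * b = b * a) (hexp : ∀ a : A₀, a ^ p = 1)
    (hcard : Nat.card A₀ = p ^ 2) (hsol : Group.IsSolvable G) (ρ : A₀ →* MulAut G)
    (hf : ∀ g, (∀ a, ρ a g = g) → g = 1) (V : Subgroup G) [V.Normal]
    (hVne : V ≠ ⊥) (hρV : ∀ a, ∀ v ∈ V, ρ a v ∈ V)
    (hmin : ∀ W : Subgroup G, W.Normal → (∀ a, ∀ w ∈ W, ρ a w ∈ W) → W ≤ V → W = ⊥ ∨ W = V) :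
    ∃ m, (⊤ : Subgroup G).lowerCentralSeries m ≤ Subgroup.centralizer (V : Set G) := by
  have hab := abelian_of_min hsol ρ V hVne hρV hmin
  obtain ⟨r, hr, hexpV⟩ := exponent_of_min ρ V hVne hmin hρV hab
  have := Fact.mk hr
  have := Fact.mk hp
  have hA₀ : IsPGroup p A₀ := IsPGroup.of_card hcard
  let _ : CommGroup V := { (inferInstance : Group V) with
    mul_comm := fun a b => Subtype.ext (hab a a.2 b b.2) }
  have hVp : IsPGroup r V := by
    intro v
    refine ⟨1, ?_⟩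
    rw [pow_one]
    exact Subtype.ext (hexpV v v.2)
  have hVnt : Nontrivial V := (Subgroup.nontrivial_iff_ne_bot V).mpr hVne
  let φ : G →* MulAut V := MulAut.conjNormal
  let ψ : A₀ →* MulAut V := resHom ρ V hρV
  have hψ : ∀ (a : A₀) (v : V), ((ψ a v : V) : G) = ρ a v := fun a v => rfl
  have hφ : ∀ (g : G) (v : V), ((φ g v : V) : G) = g * v * g⁻¹ := fun g v =>
    MulAut.conjNormal_apply g v
  have hφσ : ∀ a g, ψ a * φ g * (ψ a)⁻¹ = φ (ρ a g) := by
    intro a g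
    rw [mul_inv_eq_iff_eq_mul]
    ext v
    rw [MulAut.mul_apply, MulAut.mul_apply, hψ, hφ, hφ, hψ, map_mul, map_mul, map_inv]
  set C := φ.ker with hC
  have hσC : ∀ a, ∀ c ∈ C, ρ a c ∈ C := by
    intro a c hc
    rw [hC, MonoidHom.mem_ker] at hc ⊢
    rw [← hφσ, hc]
    group
  have hnd := not_dvd_card hA₀ ρ hf
  have key := nilH' (V := V) (X := MulAut V) (p := p) (r := r) hVp (A := ψ.range) (H := φ.range) hp
    (by
      rintro _ ⟨a, rfl⟩ _ ⟨b, rfl⟩
      rw [← map_mul, hcomm, map_mul])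
    (by
      rintro _ ⟨a, rfl⟩
      rw [← map_pow, hexp, map_one])
    (hcard ▸ Subgroup.card_range_dvd ψ)
    (by
      intro v hv
      apply Subtype.ext
      apply hf
      intro a
      exact congrArg Subtype.val (hv (ψ a) ⟨a, rfl⟩))
    (Group.isSolvable_of_surjective φ.rangeRestrict_surjective)
    (by
      apply le_normalizer_of
      rintro _ ⟨a, rfl⟩ _ ⟨g, rfl⟩
      exact ⟨ρ a g, (hφσ a g).symm⟩)
    (by
      rw [eq_bot_iff]
      rintro _ ⟨⟨g, rfl⟩, hg⟩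
      rw [Subgroup.mem_bot]
      have h1 : ∀ a, g⁻¹ * ρ a g ∈ C := by
        intro a
        have h2 := Subgroup.mem_centralizer_iff.mp hg (ψ a) ⟨a, rfl⟩
        rw [hC, MonoidHom.mem_ker, map_mul, map_inv, ← hφσ, h2]
        group
      exact mem_of_coset_fixed hA₀ ρ hf C hσC h1)
    (by
      apply Nat.Coprime.symm
      rw [Nat.Prime.coprime_iff_not_dvd hp]
      intro hd
      exact hnd (hd.trans (Subgroup.card_range_dvd φ)))
    (by
      intro U hU1 hU2
      have hn : (U.map V.subtype).Normal := by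
        constructor
        rintro _ ⟨u, hu, rfl⟩ g
        exact ⟨φ g u, hU1 _ ⟨g, rfl⟩ u hu, hφ g u⟩
      have hσU : ∀ a, ∀ w ∈ U.map V.subtype, ρ a w ∈ U.map V.subtype := by
        rintro a _ ⟨u, hu, rfl⟩
        exact ⟨ψ a u, hU2 _ ⟨a, rfl⟩ u hu, hψ a u⟩
      rcases hmin _ hn hσU (Subgroup.map_subtype_le U) with h | h
      · left
        exact (Subgroup.map_eq_bot_iff_of_injective U V.subtype_injective).mp h
      · right
        rw [eq_top_iff]
        intro v _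
        have : (v : G) ∈ U.map V.subtype := by rw [h]; exact v.2
        obtain ⟨u, hu, huv⟩ := this
        have : u = v := Subtype.ext huv
        rwa [← this])
  obtain ⟨m, hm⟩ := (Subgroup.isNilpotent_iff_lowerCentralSeries φ.range).mp key
  refine ⟨m, ?_⟩
  have h1 : ((⊤ : Subgroup G).lowerCentralSeries m).map φ = ⊥ := by
    rw [Subgroup.map_lowerCentralSeries, ← MonoidHom.range_eq_map, hm]
  intro g hg
  have h2 : φ g = 1 := by
    have : φ g ∈ ((⊤ : Subgroup G).lowerCentralSeries m).map φ := ⟨g, hg, rfl⟩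
    rwa [h1, Subgroup.mem_bot] at this
  rw [Subgroup.mem_centralizer_iff]
  intro v hv
  have h3 := hφ g ⟨v, hv⟩
  rw [h2] at h3
  have h4 : v = g * v * g⁻¹ := h3
  exact (eq_mul_inv_iff_mul_eq.mp h4)

end main

end Cfsg.Agent.Lib.Helper66Ward9
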