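import Mathlib
import Cfsg.Agent.Lib.Helper66S3j
import Cfsg.Agent.Lib.Helper66Ward9

set_option autoImplicit false
set_option linter.unusedSectionVars false

namespace Cfsg.Agent.Lib.Helper66S3k

open Cfsg.Agent.Lib.Helper66Fpf Cfsg.Agent.Lib.Helper66Ward2 Cfsg.Agent.Lib.Helper66Ward9
  Cfsg.Agent.Lib.Helper66S3c Cfsg.Agent.Lib.Helper66S3j

open scoped commutatorElement

variable {G : Type*} [Group G] [Finite G] {A₀ : Type*} [Group A₀] [Finite A₀]

/-- generators and relations of an image of `S₃` -/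
structure S3G (c₀ τ₀ : A₀) : Prop where
  c3 : c₀ ^ 3 = 1
  t2 : τ₀ * τ₀ = 1
  rel : τ₀ * c₀ * τ₀⁻¹ = c₀⁻¹
  gen : ∀ a : A₀, ∃ k ∈ Subgroup.zpowers c₀, a = k ∨ a = k * τ₀

variable {c₀ τ₀ : A₀}

theorem fix_all (g3 : S3G c₀ τ₀) (ρ : A₀ →* MulAut G) {x : G} (h1 : ρ c₀ x = x) (h2 : ρ τ₀ x = x) :
    ∀ a, ρ a x = x := by
  let St : Subgroup A₀ :=
    { carrier := {a | ρ a x = x}
      mul_mem' := by
        intro a b ha hb
        show ρ (a * b) x = x
        rw [map_mul, MulAut.mul_apply, hb, ha]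
      one_mem' := by
        show ρ 1 x = x
        rw [map_one]; rfl
      inv_mem' := by
        intro a ha
        show ρ a⁻¹ x = x
        rw [map_inv, MulAut.inv_apply, MulEquiv.symm_apply_eq]
        exact ha.symm }
  have hc : Subgroup.zpowers c₀ ≤ St := Subgroup.zpowers_le.mpr h1
  intro a
  obtain ⟨k, hk, e | e⟩ := g3.gen a
  · rw [e]; exact hc hk
  · rw [e]; exact St.mul_mem (hc hk) h2

theorem exists_fixed_in_coset {p : ℕ} [Fact p.Prime] {B : Type*} [Group B] [Finite B]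
    (hB : IsPGroup p B) (σ : B →* MulAut G) (K : Subgroup G) (hK : ∀ b, ∀ x ∈ K, σ b x ∈ K)
    (hnd : ¬ p ∣ Nat.card K) {g : G} (hg : ∀ b, g⁻¹ * σ b g ∈ K) :
    ∃ x, g⁻¹ * x ∈ K ∧ ∀ b, σ b x = x := by
  let _ : MulAction B G := MulAction.compHom G σ
  let Ω : SubMulAction B G :=
    { carrier := {x | g⁻¹ * x ∈ K}
      smul_mem' := by
        intro a x hx
        show g⁻¹ * σ a x ∈ K
        have e : g⁻¹ * σ a x = (g⁻¹ * σ a g) * σ a (g⁻¹ * x) := by rw [map_mul, map_inv]; group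
        rw [e]; exact K.mul_mem (hg a) (hK a _ hx) }
  have hcard : Nat.card Ω = Nat.card K := Nat.card_congr
    { toFun := fun x => ⟨g⁻¹ * x, x.2⟩
      invFun := fun k => ⟨g * k, by show g⁻¹ * (g * k) ∈ K; simp⟩
      left_inv := fun x => Subtype.ext (by simp)
      right_inv := fun k => Subtype.ext (by simp) }
  have hnd' : ¬ p ∣ Nat.card Ω := by rw [hcard]; exact hnd
  obtain ⟨x, hx⟩ := hB.nonempty_fixed_point_of_prime_not_dvd_card Ω hnd'
  exact ⟨x, x.2, fun a => congrArg Subtype.val (hx a)⟩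

theorem isPGroup_zpowers {p : ℕ} {a : A₀} (h : a ^ p = 1) : IsPGroup p (Subgroup.zpowers a) := by
  rintro ⟨x, hx⟩
  refine ⟨1, ?_⟩
  obtain ⟨m, rfl⟩ := Subgroup.mem_zpowers_iff.mp hx
  apply Subtype.ext
  show (a ^ m) ^ (p ^ 1) = 1
  rw [pow_one, ← zpow_natCast, ← zpow_mul, mul_comm, zpow_mul, zpow_natCast, h, one_zpow]

theorem mem_of_coset_fixed3 (g3 : S3G c₀ τ₀) (ρ : A₀ →* MulAut G) (hcop : (Nat.card G).Coprime 6)
    (hf : ∀ g, (∀ a, ρ a g = g) → g = 1) (K : Subgroup G) (hK : ∀ a, ∀ x ∈ K, ρ a x ∈ K) {g : G}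
    (hg : ∀ a, g⁻¹ * ρ a g ∈ K) : g ∈ K := by
  have hnd : ∀ (q : ℕ) (L : Subgroup G), q.Prime → q ∣ 6 → ¬ q ∣ Nat.card L := by
    intro q L hq h6 hd
    have := Nat.eq_one_of_dvd_coprimes hcop (hd.trans (Subgroup.card_subgroup_dvd_card L)) h6
    exact hq.one_lt.ne' this
  have := Fact.mk Nat.prime_three
  have := Fact.mk Nat.prime_two
  obtain ⟨x₁, hx₁, hfix₁⟩ := exists_fixed_in_coset (p := 3) (isPGroup_zpowers g3.c3)
    (ρ.comp (Subgroup.zpowers c₀).subtype) K (fun b => hK b) (hnd 3 K Nat.prime_three (by norm_num))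
    (g := g) (fun b => hg b)
  have hc₁ : ρ c₀ x₁ = x₁ := hfix₁ ⟨c₀, Subgroup.mem_zpowers c₀⟩
  let Fx : Subgroup G :=
    { carrier := {x | ρ c₀ x = x}
      mul_mem' := by
        intro a b ha hb
        show ρ c₀ (a * b) = a * b
        rw [map_mul, ha, hb]
      one_mem' := map_one _
      inv_mem' := by
        intro a ha
        show ρ c₀ a⁻¹ = a⁻¹
        rw [map_inv, ha] }
  have hτFx : ∀ x ∈ Fx, ρ τ₀ x ∈ Fx := by
    intro x hx
    show ρ c₀ (ρ τ₀ x) = ρ τ₀ x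
    have hx' : ρ c₀⁻¹ x = x := by
      rw [map_inv, MulAut.inv_apply, MulEquiv.symm_apply_eq]
      exact (show ρ c₀ x = x from hx).symm
    have e : c₀ * τ₀ = τ₀ * c₀⁻¹ := by
      have h' : τ₀ * c₀⁻¹ * τ₀⁻¹ = c₀ := by
        calc τ₀ * c₀⁻¹ * τ₀⁻¹ = (τ₀ * c₀ * τ₀⁻¹)⁻¹ := by group
          _ = c₀ := by rw [g3.rel, inv_inv]
      exact (mul_inv_eq_iff_eq_mul.mp h').symm
    rw [← MulAut.mul_apply, ← map_mul, e, map_mul, MulAut.mul_apply, hx']
  have hbFx : ∀ b ∈ Subgroup.zpowers τ₀, ∀ x ∈ Fx, ρ b x ∈ Fx := by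
    intro b hb x hx
    rcases zp2 g3.t2 hb with e | e
    · rw [e, map_one]; exact hx
    · rw [e]; exact hτFx x hx
  have ht2 : τ₀ ^ 2 = 1 := by rw [pow_two]; exact g3.t2
  obtain ⟨x₂, hx₂, hfix₂⟩ := exists_fixed_in_coset (p := 2) (isPGroup_zpowers ht2)
    (ρ.comp (Subgroup.zpowers τ₀).subtype) (K ⊓ Fx)
    (fun b x hx => ⟨hK b x hx.1, hbFx b b.2 x hx.2⟩) (hnd 2 _ Nat.prime_two (by norm_num))
    (g := x₁) (fun b => by
      refine ⟨?_, ?_⟩
      · show x₁⁻¹ * ρ b x₁ ∈ K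
        have e : x₁⁻¹ * ρ b x₁ = (g⁻¹ * x₁)⁻¹ * (g⁻¹ * ρ b g) * ρ b (g⁻¹ * x₁) := by
          rw [map_mul, map_inv]; group
        rw [e]
        exact K.mul_mem (K.mul_mem (K.inv_mem hx₁) (hg b)) (hK b _ hx₁)
      · exact Fx.mul_mem (Fx.inv_mem hc₁) (hbFx b b.2 x₁ hc₁))
  have hτ₂ : ρ τ₀ x₂ = x₂ := hfix₂ ⟨τ₀, Subgroup.mem_zpowers τ₀⟩
  have hc₂ : ρ c₀ x₂ = x₂ := by
    have : x₂ ∈ Fx := by
      have e : x₂ = x₁ * (x₁⁻¹ * x₂) := by group
      rw [e]
      exact Fx.mul_mem hc₁ hx₂.2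
    exact this
  have h1 : x₂ = 1 := hf x₂ (fix_all g3 ρ hc₂ hτ₂)
  have h2 : g⁻¹ ∈ K := by
    have e : g⁻¹ = (g⁻¹ * x₁) * (x₁⁻¹ * x₂) := by rw [h1]; group
    rw [e]
    exact K.mul_mem hx₁ hx₂.1
  simpa using K.inv_mem h2

theorem step3 (g3 : S3G c₀ τ₀) (hsol : Group.IsSolvable G) (hcop : (Nat.card G).Coprime 6)
    (ρ : A₀ →* MulAut G)
    (hf : ∀ g, (∀ a, ρ a g = g) → g = 1) (V : Subgroup G) [V.Normal]
    (hVne : V ≠ ⊥) (hρV : ∀ a, ∀ v ∈ V, ρ a v ∈ V)
    (hmin : ∀ W : Subgroup G, W.Normal → (∀ a, ∀ w ∈ W, ρ a w ∈ W) → W ≤ V → W = ⊥ ∨ W = V) :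
    commutator G ≤ Subgroup.centralizer (V : Set G) := by
  have hab := abelian_of_min hsol ρ V hVne hρV hmin
  obtain ⟨r, hr, hexpV⟩ := exponent_of_min ρ V hVne hmin hρV hab
  have := Fact.mk hr
  let _ : CommGroup V := { (inferInstance : Group V) with
    mul_comm := fun a b => Subtype.ext (hab a a.2 b b.2) }
  have hVp : IsPGroup r V := by
    intro v
    refine ⟨1, ?_⟩
    rw [pow_one]
    exact Subtype.ext (hexpV v v.2)
  have hVnt : Nontrivial V := (Subgroup.nontrivial_iff_ne_bot V).mpr hVne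
  let φ : G →* MulAut V := MulAut.conjNormal
  let ψ : A₀ →* MulAut V := resHom ρ V hρV
  have hψ : ∀ (a : A₀) (v : V), ((ψ a v : V) : G) = ρ a v := fun a v => rfl
  have hφ : ∀ (g : G) (v : V), ((φ g v : V) : G) = g * v * g⁻¹ := fun g v =>
    MulAut.conjNormal_apply g v
  have hφσ : ∀ a g, ψ a * φ g * (ψ a)⁻¹ = φ (ρ a g) := by
    intro a g
    rw [mul_inv_eq_iff_eq_mul]
    ext v
    rw [MulAut.mul_apply, MulAut.mul_apply, hψ, hφ, hφ, hψ, map_mul, map_mul, map_inv]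
  set C := φ.ker with hC
  have hσC : ∀ a, ∀ c ∈ C, ρ a c ∈ C := by
    intro a c hc
    rw [hC, MonoidHom.mem_ker] at hc ⊢
    rw [← hφσ, hc]
    group
  have hψAA : ∀ a, ψ a ∈ AA (ψ c₀) (ψ τ₀) := by
    have hk : ∀ k ∈ Subgroup.zpowers c₀, ψ k ∈ AA (ψ c₀) (ψ τ₀) := by
      intro k hk
      apply (le_sup_left : Subgroup.zpowers (ψ c₀) ≤ _)
      rw [← MonoidHom.map_zpowers]
      exact ⟨k, hk, rfl⟩
    intro a
    obtain ⟨k, hk', e | e⟩ := g3.gen a
    · rw [e]; exact hk k hk'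
    · rw [e, map_mul]; exact Subgroup.mul_mem _ (hk k hk') t_mem_AA
  have p : S3P V (ψ c₀) (ψ τ₀) :=
    { c3 := by rw [← map_pow, g3.c3, map_one]
      t2 := by rw [← map_mul, g3.t2, map_one]
      rel := by rw [← map_inv, ← map_mul, ← map_mul, g3.rel, map_inv]
      fpfV := by
        intro v h1 h2
        apply Subtype.ext
        apply hf
        exact fix_all g3 ρ (congrArg Subtype.val h1) (congrArg Subtype.val h2)
      cop := Nat.Coprime.coprime_dvd_left (Subgroup.card_subgroup_dvd_card V) hcop }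
  have hnorm : ∀ a, ψ a ∈ Subgroup.normalizer (φ.range : Set (MulAut V)) := by
    intro a
    apply Cfsg.Agent.Lib.Helper66Basic.mem_normalizer_of_conj_mem
    rintro _ ⟨g, rfl⟩
    exact ⟨ρ a g, (hφσ a g).symm⟩
  have adm : Adm (ψ c₀) (ψ τ₀) φ.range :=
    { hc := hnorm c₀
      hτ := hnorm τ₀
      fpf := by
        rintro _ ⟨g, rfl⟩ h1 h2
        have hcen := mem_centralizer_AA h1 h2
        have h3 : ∀ a, g⁻¹ * ρ a g ∈ C := by
          intro a
          have h4 := Subgroup.mem_centralizer_iff.mp hcen (ψ a) (hψAA a)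
          rw [hC, MonoidHom.mem_ker, map_mul, map_inv, ← hφσ, h4]
          group
        exact mem_of_coset_fixed3 g3 ρ hcop hf C hσC h3
      cop6 := Nat.Coprime.coprime_dvd_left (Subgroup.card_range_dvd φ) hcop }
  have key := habel (V := V) (X := MulAut V) hVp p adm
    (Group.isSolvable_of_surjective φ.rangeRestrict_surjective)
    (by
      intro U hU1 hU2
      have hn : (U.map V.subtype).Normal := by
        constructor
        rintro _ ⟨u, hu, rfl⟩ g
        exact ⟨φ g u, hU1 _ ⟨g, rfl⟩ u hu, hφ g u⟩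
      have hσU : ∀ a, ∀ w ∈ U.map V.subtype, ρ a w ∈ U.map V.subtype := by
        rintro a _ ⟨u, hu, rfl⟩
        exact ⟨ψ a u, hU2 _ (hψAA a) u hu, hψ a u⟩
      rcases hmin _ hn hσU (Subgroup.map_subtype_le U) with h | h
      · left
        exact (Subgroup.map_eq_bot_iff_of_injective U V.subtype_injective).mp h
      · right
        rw [eq_top_iff]
        intro v _
        have : (v : G) ∈ U.map V.subtype := by rw [h]; exact v.2
        obtain ⟨u, hu, huv⟩ := this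
        have : u = v := Subtype.ext huv
        rwa [← this])
  have hker : commutator G ≤ C := by
    rw [commutator_def, Subgroup.commutator_le]
    intro a _ b _
    rw [hC, MonoidHom.mem_ker, map_commutatorElement]
    have : ⁅φ a, φ b⁆ ∈ ⁅φ.range, φ.range⁆ :=
      Subgroup.commutator_mem_commutator ⟨a, rfl⟩ ⟨b, rfl⟩
    rwa [key, Subgroup.mem_bot] at this
  intro g hg
  have h2 : φ g = 1 := hker hg
  rw [Subgroup.mem_centralizer_iff]
  intro v hv
  have h3 := hφ g ⟨v, hv⟩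
  rw [h2] at h3
  have h4 : v = g * v * g⁻¹ := h3
  exact (eq_mul_inv_iff_mul_eq.mp h4)

theorem main3.{u, v} {A₀ : Type v} [Group A₀] [Finite A₀] {c₀ τ₀ : A₀} (g3 : S3G c₀ τ₀) :
    ∀ n : ℕ, ∀ (G : Type u) [Group G] [Finite G], Nat.card G = n →
    Group.IsSolvable G → (Nat.card G).Coprime 6 → ∀ ρ : A₀ →* MulAut G,
    (∀ g, (∀ a, ρ a g = g) → g = 1) →
    ∃ N : Subgroup G, N.Normal ∧ Group.IsNilpotent N ∧ commutator G ≤ N := by
  intro n
  induction n using Nat.strong_induction_on with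
  | _ n ih =>
  intro G _ _ hn hsol hcop ρ hf
  by_cases hG : Subsingleton G
  · refine ⟨⊥, inferInstance, inferInstance, ?_⟩
    intro g _
    rw [Subgroup.mem_bot]
    exact Subsingleton.elim _ _
  rw [not_subsingleton_iff_nontrivial] at hG
  let S : Set (Subgroup G) := {V | V ≠ ⊥ ∧ V.Normal ∧ ∀ a, ∀ v ∈ V, ρ a v ∈ V}
  have hSne : S.Nonempty := ⟨⊤, top_ne_bot, inferInstance, fun _ _ _ => Subgroup.mem_top _⟩
  obtain ⟨V, hV⟩ := (Set.toFinite S).exists_minimal hSne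
  obtain ⟨hVne, hVn, hσV⟩ := hV.prop
  have hmin : ∀ W : Subgroup G, W.Normal → (∀ a, ∀ w ∈ W, ρ a w ∈ W) → W ≤ V → W = ⊥ ∨ W = V := by
    intro W hWn hWσ hWV
    by_cases hW : W = ⊥
    · exact Or.inl hW
    · exact Or.inr (hV.eq_of_le ⟨hW, hWn, hWσ⟩ hWV)
  have hm := step3 g3 hsol hcop ρ hf V hVne hσV hmin
  have hmap : ∀ a, V.map (ρ a : G →* G) = V := by
    intro a
    apply Subgroup.eq_of_le_of_card_ge
    · rintro _ ⟨v, hv, rfl⟩
      exact hσV a v hv
    · rw [Subgroup.card_map_of_injective (ρ a).injective]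
  let ρ' : A₀ →* MulAut (G ⧸ V) :=
    { toFun := fun a => QuotientGroup.congr V V (ρ a) (hmap a)
      map_one' := by
        ext x
        induction x using QuotientGroup.induction_on with
        | H g =>
          rw [QuotientGroup.congr_mk, map_one]; rfl
      map_mul' := by
        intro a b
        ext x
        induction x using QuotientGroup.induction_on with
        | H g =>
          rw [QuotientGroup.congr_mk, MulAut.mul_apply, QuotientGroup.congr_mk,
            QuotientGroup.congr_mk, map_mul]; rfl }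
  have hρ' : ∀ (a : A₀) (g : G), ρ' a (g : G ⧸ V) = ((ρ a g : G) : G ⧸ V) := fun a g =>
    QuotientGroup.congr_mk V V (ρ a) (hmap a) g
  have hcard' := Subgroup.card_eq_card_quotient_mul_card_subgroup V
  have hV1 : 1 < Nat.card V := (Subgroup.one_lt_card_iff_ne_bot V).mpr hVne
  have hlt : Nat.card (G ⧸ V) < n := by
    rw [← hn, hcard']
    have : 0 < Nat.card (G ⧸ V) := Nat.card_pos
    nlinarith
  obtain ⟨N', hN'n, hN'nil, hk⟩ := ih _ hlt (G ⧸ V) rfl inferInstance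
    (Nat.Coprime.coprime_dvd_left (Dvd.intro _ hcard'.symm) hcop) ρ'
    (by
      intro x
      induction x using QuotientGroup.induction_on with
      | H g =>
        intro h
        rw [QuotientGroup.eq_one_iff]
        apply mem_of_coset_fixed3 g3 ρ hcop hf V hσV
        intro a
        have h1 := h a
        rw [hρ', eq_comm, QuotientGroup.eq] at h1
        exact h1)
  refine ⟨N'.comap (QuotientGroup.mk' V) ⊓ Subgroup.centralizer (V : Set G), inferInstance, ?_, ?_⟩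
  · set N := N'.comap (QuotientGroup.mk' V) ⊓ Subgroup.centralizer (V : Set G) with hN
    let f : N →* N' := ((QuotientGroup.mk' V).comp N.subtype).codRestrict N' (fun x => x.2.1)
    apply Subgroup.isNilpotent_of_ker_le_center f
    intro x hx
    rw [MonoidHom.mem_ker] at hx
    have h1 : ((x : G) : G ⧸ V) = 1 := congrArg Subtype.val hx
    rw [QuotientGroup.eq_one_iff] at h1
    rw [Subgroup.mem_center_iff]
    intro y
    apply Subtype.ext
    exact (Subgroup.mem_centralizer_iff.mp y.2.2 x h1).symm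
  · apply le_inf
    · rw [← Subgroup.map_le_iff_le_comap, commutator_def, Subgroup.map_commutator]
      refine le_trans ?_ hk
      rw [commutator_def]
      exact Subgroup.commutator_mono le_top le_top
    · exact hm

end Cfsg.Agent.Lib.Helper66S3k
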