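import Mathlib
import Cfsg.Agent.Lib.H82PQDefs
import Cfsg.Agent.Lib.Helper66S3k
import Cfsg.Agent.Lib.H82PQAGa
import Cfsg.Agent.Lib.H82PQAGb

set_option autoImplicit false
set_option linter.unusedSectionVars false

/-! Project 4306 (S4306), piece `Coset` (50m).
 ADAPTATION of `Helper66S3k.fix_all` and `Helper66S3k.mem_of_coset_fixed3`. -/
namespace Cfsg.Agent.Lib.H82PQCoset
open Cfsg.Agent.Lib.Helper66Fpf Cfsg.Agent.Lib.Helper66Fpf2 Cfsg.Agent.Lib.Helper66Ward2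
  Cfsg.Agent.Lib.Helper66S3a Cfsg.Agent.Lib.Helper66S3b Cfsg.Agent.Lib.Helper66S3c
  Cfsg.Agent.Lib.Helper40Sylow Cfsg.Agent.Lib.H92GREStep1 Cfsg.Agent.Lib.H82PQDefs
open Cfsg.Agent.Lib.H82PQAGa Cfsg.Agent.Lib.H82PQAGb
open scoped commutatorElement
variable {V : Type*} [CommGroup V] [Finite V] {X : Type*} [Group X] [Finite X] [MulDistribMulAction X V]
variable {p q t s r l : ℕ} {c d g : X} {S R Z K Q E Zt D : Subgroup X}
variable {G : Type*} [Group G] [Finite G] {A₀ : Type*} [Group A₀] [Finite A₀] {c₀ d₀ : A₀}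

theorem fix_all (top : AA c₀ d₀ = ⊤) (ρ : A₀ →* MulAut G) {x : G} (h1 : ρ c₀ x = x) (h2 : ρ d₀ x = x) :
    ∀ a, ρ a x = x := by
  let St : Subgroup A₀ :=
    { carrier := {a | ρ a x = x}
      mul_mem' := by
        intro a b ha hb
        show ρ (a * b) x = x
        rw [map_mul, MulAut.mul_apply, hb, ha]
      one_mem' := by
        show ρ 1 x = x
        rw [map_one]; rfl
      inv_mem' := by
        intro a ha
        show ρ a⁻¹ x = x
        rw [map_inv, MulAut.inv_apply, MulEquiv.symm_apply_eq]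
        exact ha.symm }
  have hc : Subgroup.zpowers c₀ ≤ St := Subgroup.zpowers_le.mpr h1
  have hd : Subgroup.zpowers d₀ ≤ St := Subgroup.zpowers_le.mpr h2
  have hle : AA c₀ d₀ ≤ St := sup_le hc hd
  intro a
  exact hle (by rw [top]; exact Subgroup.mem_top a)

theorem mem_of_coset_fixed (fg : FG p q c₀ d₀) (top : AA c₀ d₀ = ⊤) (ρ : A₀ →* MulAut G)
    (hcop : (Nat.card G).Coprime (p * q)) (hf : ∀ g, (∀ a, ρ a g = g) → g = 1) (K : Subgroup G)
    (hK : ∀ a, ∀ x ∈ K, ρ a x ∈ K) {g : G} (hg : ∀ a, g⁻¹ * ρ a g ∈ K) : g ∈ K := by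
  have hnd : ∀ (q' : ℕ) (L : Subgroup G), q'.Prime → q' ∣ p * q → ¬ q' ∣ Nat.card L := by
    intro q' L hq h6 hd
    have := Nat.eq_one_of_dvd_coprimes hcop (hd.trans (Subgroup.card_subgroup_dvd_card L)) h6
    exact hq.one_lt.ne' this
  have := Fact.mk fg.pp
  have := Fact.mk fg.qp
  obtain ⟨x₁, hx₁, hfix₁⟩ := Cfsg.Agent.Lib.Helper66S3k.exists_fixed_in_coset (p := p)
    (Cfsg.Agent.Lib.Helper66S3k.isPGroup_zpowers fg.cp)
    (ρ.comp (Subgroup.zpowers c₀).subtype) K (fun b => hK b) (hnd p K fg.pp (Dvd.intro _ rfl))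
    (g := g) (fun b => hg b)
  have hc₁ : ρ c₀ x₁ = x₁ := hfix₁ ⟨c₀, Subgroup.mem_zpowers c₀⟩
  let Fx : Subgroup G :=
    { carrier := {x | ρ c₀ x = x}
      mul_mem' := by
        intro a b ha hb
        show ρ c₀ (a * b) = a * b
        rw [map_mul, ha, hb]
      one_mem' := map_one _
      inv_mem' := by
        intro a ha
        show ρ c₀ a⁻¹ = a⁻¹
        rw [map_inv, ha] }
  have hzFx : ∀ k ∈ Subgroup.zpowers c₀, ∀ x ∈ Fx, ρ k x = x := by
    intro k hk x hx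
    let St : Subgroup A₀ :=
      { carrier := {a | ρ a x = x}
        mul_mem' := by
          intro a b ha hb
          show ρ (a * b) x = x
          rw [map_mul, MulAut.mul_apply, hb, ha]
        one_mem' := by
          show ρ 1 x = x
          rw [map_one]; rfl
        inv_mem' := by
          intro a ha
          show ρ a⁻¹ x = x
          rw [map_inv, MulAut.inv_apply, MulEquiv.symm_apply_eq]
          exact ha.symm }
    have hc : Subgroup.zpowers c₀ ≤ St := Subgroup.zpowers_le.mpr hx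
    exact hc hk
  have hbFx : ∀ b ∈ Subgroup.zpowers d₀, ∀ x ∈ Fx, ρ b x ∈ Fx := by
    intro b hb x hx
    show ρ c₀ (ρ b x) = ρ b x
    have hbn : b⁻¹ ∈ Subgroup.normalizer (Subgroup.zpowers c₀ : Set A₀) :=
      Subgroup.inv_mem _ (norm fg hb)
    have hk : b⁻¹ * c₀ * b⁻¹⁻¹ ∈ Subgroup.zpowers c₀ :=
      (Subgroup.mem_normalizer_iff.mp hbn c₀).mp (Subgroup.mem_zpowers c₀)
    have e : c₀ * b = b * (b⁻¹ * c₀ * b⁻¹⁻¹) := by group
    rw [← MulAut.mul_apply, ← map_mul, e, map_mul, MulAut.mul_apply, hzFx _ hk x hx]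
  obtain ⟨x₂, hx₂, hfix₂⟩ := Cfsg.Agent.Lib.Helper66S3k.exists_fixed_in_coset (p := q)
    (Cfsg.Agent.Lib.Helper66S3k.isPGroup_zpowers fg.dq)
    (ρ.comp (Subgroup.zpowers d₀).subtype) (K ⊓ Fx)
    (fun b x hx => ⟨hK b x hx.1, hbFx b b.2 x hx.2⟩) (hnd q _ fg.qp (Dvd.intro_left _ rfl))
    (g := x₁) (fun b => by
      refine ⟨?_, ?_⟩
      · show x₁⁻¹ * ρ b x₁ ∈ K
        have e : x₁⁻¹ * ρ b x₁ = (g⁻¹ * x₁)⁻¹ * (g⁻¹ * ρ b g) * ρ b (g⁻¹ * x₁) := by
          rw [map_mul, map_inv]; group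
        rw [e]
        exact K.mul_mem (K.mul_mem (K.inv_mem hx₁) (hg b)) (hK b _ hx₁)
      · exact Fx.mul_mem (Fx.inv_mem hc₁) (hbFx b b.2 x₁ hc₁))
  have hτ₂ : ρ d₀ x₂ = x₂ := hfix₂ ⟨d₀, Subgroup.mem_zpowers d₀⟩
  have hc₂ : ρ c₀ x₂ = x₂ := by
    have : x₂ ∈ Fx := by
      have e : x₂ = x₁ * (x₁⁻¹ * x₂) := by group
      rw [e]
      exact Fx.mul_mem hc₁ hx₂.2
    exact this
  have h1 : x₂ = 1 := hf x₂ (fix_all top ρ hc₂ hτ₂)
  have h2 : g⁻¹ ∈ K := by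
    have e : g⁻¹ = (g⁻¹ * x₁) * (x₁⁻¹ * x₂) := by rw [h1]; group
    rw [e]
    exact K.mul_mem hx₁ hx₂.1
  simpa using K.inv_mem h2

end Cfsg.Agent.Lib.H82PQCoset
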