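import Mathlib
import Cfsg.Agent.Lib.H82PQDefs

set_option autoImplicit false
set_option linter.unusedSectionVars false

/-! Project 4306 (S4306), piece `Gen` (60m).
 Structure of a non abelian group of order `pq`.  WLOG `q < p` (otherwise exchange; this is why `p' q'` are existential).  The Sylow `p`-subgroup `P` is normal (its index `q` is the smallest prime divisor: `Subgroup.normal_of_index_eq_minFac_card`; or Sylow counting `card_sylow_modEq_one`, `card (Sylow p A) ∣ q`).
`c` a generator of `P` (order `p`, `exists_prime_orderOf_dvd_card`), `d` of order `q` (Cauchy).  `d*c*d⁻¹ ∈ P = zpowers c`.  `AA c d = ⊤` because its order is divisible by `p` and `q`.  If `d*c*d⁻¹ = c`, the generators commute, so `A = AA c d` is commutative (`Subgroup.closure`-commutativity, e.g. `zpowers c ⊔ zpowers d ≤ centralizer ..` twice): contradiction. -/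
namespace Cfsg.Agent.Lib.H82PQGen
open Cfsg.Agent.Lib.Helper66Fpf Cfsg.Agent.Lib.Helper66Fpf2 Cfsg.Agent.Lib.Helper66Ward2
  Cfsg.Agent.Lib.Helper66S3a Cfsg.Agent.Lib.Helper66S3b Cfsg.Agent.Lib.Helper66S3c
  Cfsg.Agent.Lib.Helper40Sylow Cfsg.Agent.Lib.H92GREStep1 Cfsg.Agent.Lib.H82PQDefs
open scoped commutatorElement
variable {V : Type*} [CommGroup V] [Finite V] {X : Type*} [Group X] [Finite X] [MulDistribMulAction X V]
variable {p q t s r l : ℕ} {c d g : X} {S R Z K Q E Zt D : Subgroup X}
theorem gen_aux {A : Type*} [Group A] [Finite A] (p q : ℕ) (hp : p.Prime) (hq : q.Prime) (hlt : q < p)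
    (hA : Nat.card A = p * q) (hna : ¬ IsMulCommutative A) :
    ∃ (c d : A), FG p q c d ∧ AA c d = ⊤ := by
  haveI : Fact p.Prime := ⟨hp⟩
  haveI : Fact q.Prime := ⟨hq⟩
  obtain ⟨c, hc⟩ := exists_prime_orderOf_dvd_card' p (by rw [hA]; exact dvd_mul_right p q)
  obtain ⟨d, hd⟩ := exists_prime_orderOf_dvd_card' q (by rw [hA]; exact dvd_mul_left q p)
  have hcardP : Nat.card (Subgroup.zpowers c) = p := by rw [Nat.card_zpowers, hc]
  have hcardQ : Nat.card (Subgroup.zpowers d) = q := by rw [Nat.card_zpowers, hd]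
  have hidx : (Subgroup.zpowers c).index = q := by
    have := (Subgroup.zpowers c).card_mul_index
    rw [hcardP, hA] at this
    exact Nat.eq_of_mul_eq_mul_left hp.pos this
  have hmin : (Nat.card A).minFac = q := by
    rw [hA]
    have hne : p * q ≠ 1 := by
      have := hp.two_le; have := hq.two_le; nlinarith
    have hm := Nat.minFac_prime hne
    have hle : (p * q).minFac ≤ q := Nat.minFac_le_of_dvd hq.two_le (dvd_mul_left q p)
    rcases (Nat.Prime.dvd_mul hm).mp (Nat.minFac_dvd (p * q)) with h1 | h1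
    · have := (Nat.prime_dvd_prime_iff_eq hm hp).mp h1
      omega
    · exact (Nat.prime_dvd_prime_iff_eq hm hq).mp h1
  haveI hnorm : (Subgroup.zpowers c).Normal :=
    Subgroup.normal_of_index_eq_minFac_card (by rw [hidx, hmin])
  have htop : AA c d = ⊤ := by
    apply Subgroup.eq_top_of_card_eq
    apply Nat.dvd_antisymm (Subgroup.card_subgroup_dvd_card _)
    rw [hA]
    apply Nat.Coprime.mul_dvd_of_dvd_of_dvd ((Nat.coprime_primes hp hq).mpr hlt.ne')
    · rw [← hcardP]; exact Subgroup.card_dvd_of_le le_sup_left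
    · rw [← hcardQ]; exact Subgroup.card_dvd_of_le le_sup_right
  refine ⟨c, d, ⟨hp, hq, hlt.ne', by rw [← hc]; exact pow_orderOf_eq_one c,
    by rw [← hd]; exact pow_orderOf_eq_one d, hnorm.conj_mem c (Subgroup.mem_zpowers c) d, ?_⟩, htop⟩
  intro hcomm
  apply hna
  have hcd : d * c = c * d := by
    calc d * c = d * c * d⁻¹ * d := by group
      _ = c * d := by rw [hcomm]
  have h1 : AA c d ≤ Subgroup.centralizer ({c} : Set A) := by
    apply sup_le
    · rw [Subgroup.zpowers_le, Subgroup.mem_centralizer_iff]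
      rintro h rfl; rfl
    · rw [Subgroup.zpowers_le, Subgroup.mem_centralizer_iff]
      rintro h rfl; exact hcd.symm
  have h2 : AA c d ≤ Subgroup.centralizer ({d} : Set A) := by
    apply sup_le
    · rw [Subgroup.zpowers_le, Subgroup.mem_centralizer_iff]
      rintro h rfl; exact hcd
    · rw [Subgroup.zpowers_le, Subgroup.mem_centralizer_iff]
      rintro h rfl; rfl
  rw [htop] at h1 h2
  have hcc : c ∈ Subgroup.center A := by
    rw [Subgroup.mem_center_iff]
    intro g
    exact ((Subgroup.mem_centralizer_iff.mp (h1 (Subgroup.mem_top g))) c rfl).symm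
  have hdc : d ∈ Subgroup.center A := by
    rw [Subgroup.mem_center_iff]
    intro g
    exact ((Subgroup.mem_centralizer_iff.mp (h2 (Subgroup.mem_top g))) d rfl).symm
  have h3 : AA c d ≤ Subgroup.center A :=
    sup_le (Subgroup.zpowers_le.mpr hcc) (Subgroup.zpowers_le.mpr hdc)
  rw [htop] at h3
  exact ⟨⟨fun x y => (Subgroup.mem_center_iff.mp (h3 (Subgroup.mem_top y)) x)⟩⟩

theorem gen {A : Type*} [Group A] [Finite A] (p q : ℕ) (hp : p.Prime) (hq : q.Prime) (hpq : p ≠ q)
    (hA : Nat.card A = p * q) (hna : ¬ IsMulCommutative A) :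
    ∃ (p' q' : ℕ) (c d : A), FG p' q' c d ∧ p' * q' = p * q ∧ AA c d = ⊤ := by
  rcases lt_or_gt_of_ne hpq with h | h
  · obtain ⟨c, d, h1, h2⟩ := gen_aux q p hq hp h (by rw [hA, mul_comm]) hna
    exact ⟨q, p, c, d, h1, mul_comm q p, h2⟩
  · obtain ⟨c, d, h1, h2⟩ := gen_aux p q hp hq h hA hna
    exact ⟨p, q, c, d, h1, rfl, h2⟩

end Cfsg.Agent.Lib.H82PQGen
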