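import Mathlib
import Cfsg.Agent.Lib.H82PQDefs
import Cfsg.Agent.Lib.Helper66S3k
import Cfsg.Agent.Lib.Helper66S3j
import Cfsg.Agent.Lib.H82PQAGa
import Cfsg.Agent.Lib.H82PQAGb
import Cfsg.Agent.Lib.H82PQAGc
import Cfsg.Agent.Lib.H82PQAGd
import Cfsg.Agent.Lib.H82PQAlpha

set_option autoImplicit false
set_option linter.unusedSectionVars false

/-! Project 4306 (S4306), piece `Hnil`: an admissible solvable group acting irreducibly (together with the pair)
is nilpotent.  Adaptation of the `hnil` part of `Helper66S3j.habel`. -/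
namespace Cfsg.Agent.Lib.H82PQHnil
open Cfsg.Agent.Lib.Helper66Fpf Cfsg.Agent.Lib.Helper66Fpf2 Cfsg.Agent.Lib.Helper66Ward2
  Cfsg.Agent.Lib.Helper66S3a Cfsg.Agent.Lib.Helper66S3b Cfsg.Agent.Lib.Helper66S3c
  Cfsg.Agent.Lib.Helper40Sylow Cfsg.Agent.Lib.H92GREStep1 Cfsg.Agent.Lib.H82PQDefs
open Cfsg.Agent.Lib.H82PQAGa Cfsg.Agent.Lib.H82PQAGb Cfsg.Agent.Lib.H82PQAGc Cfsg.Agent.Lib.H82PQAGd Cfsg.Agent.Lib.H82PQAlpha
open Cfsg.Agent.Lib.Helper66Ward7 Cfsg.Agent.Lib.Helper66Ward8 Cfsg.Agent.S3751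
open scoped commutatorElement
variable {V : Type*} [CommGroup V] [Finite V] {X : Type*} [Group X] [Finite X] [MulDistribMulAction X V]
variable {p q t s r l : ℕ} {c d g : X} {S R Z K Q E Zt D : Subgroup X}
theorem hnil [Nontrivial V] [FaithfulSMul X V] (tp : t.Prime) (expV : ∀ v : V, v ^ t = 1) (h : PQ V p q c d)
    {H : Subgroup X} (adm : Ad p q c d H) (sol : Group.IsSolvable H)
    (hirr : ∀ U : Subgroup V, (∀ x ∈ H, ∀ u ∈ U, x • u ∈ U) → (∀ a ∈ AA c d, ∀ u ∈ U, a • u ∈ U) →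
      U = ⊥ ∨ U = ⊤) : Group.IsNilpotent H := by
  have : Fact t.Prime := ⟨tp⟩
  have hV : IsPGroup t V := fun v => ⟨1, by rw [pow_one]; exact expV v⟩
  have hOr := Op_eq_bot hV (Ad.le adm) hirr
  have hcopA : (Nat.card (AA c d)).Coprime (Nat.card H) := Ad.coprime_AA h.fg adm
  have hex : ∀ t' : Nat.Primes, ∃ P : Sylow (t' : ℕ) H,
      AA c d ≤ Subgroup.normalizer ((P : Subgroup H).map H.subtype : Set X) := by
    intro t'
    have := Fact.mk t'.2
    exact Cfsg.Agent.S0023.result (AA c d) H (Ad.le adm) hcopA (Or.inr sol) t'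
  choose P hP using hex
  have admOf : ∀ Q : Subgroup X, Q ≤ H → AA c d ≤ Subgroup.normalizer (Q : Set X) → Ad p q c d Q :=
    fun Q h1 h2 => Ad.of_le adm h1 (h2 c_mem_AA) (h2 t_mem_AA)
  have hAO : ∀ s : ℕ, AA c d ≤ Subgroup.normalizer (Op s H : Set X) :=
    fun s => (Ad.le adm).trans (normalizer_le_normalizer_Op s H)
  apply nil_of_sylow_centralize sol P
  intro s' t' hst
  have := Fact.mk t'.2
  have := Fact.mk s'.2
  apply (Subgroup.map_eq_bot_iff_of_injective _ H.subtype_injective).mp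
  rw [Subgroup.map_commutator]
  change ⁅Op (s' : ℕ) H, (P t' : Subgroup H).map H.subtype⁆ = ⊥
  by_cases hsr : (s' : ℕ) = t
  · rw [hsr, hOr]; simp
  exact Cfsg.Agent.Lib.H82PQAlpha.alpha h tp s'.2 t'.2 expV (fun hh => hst (Subtype.ext hh)) hsr _ _
    (admOf _ (Op_le _ H) (hAO s')) (admOf _ (Subgroup.map_subtype_le _) (hP t'))
    (Op_isPGroup _ _) ((P t').2.map _) ((Subgroup.map_subtype_le _).trans (le_normalizer_Op _ H))

end Cfsg.Agent.Lib.H82PQHnil
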