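import Mathlib
import Cfsg.Agent.Lib.H82PQDefs
import Cfsg.Agent.S0033

set_option autoImplicit false
set_option linter.unusedSectionVars false

/-! Project 4306 (S4306), piece `NilFpf` (40m).
 Thompson: `Cfsg.Agent.S0033.result φ hφ l lp hord` for `φ : H ≃* H` the conjugation by `g` restricted to `H` (`MulAut.conjNormal`-like; `g ∈ N(H)`).  `φ ^ l = 1`, so `orderOf φ ∣ l`: it is `l`, or `1`; if `φ = 1` every `x ∈ H` commutes with `g`, so `H = ⊥` is nilpotent.  (`MonoidHom.FixedPointFree φ` unfolds to `∀ x, φ x = x → x = 1`.) -/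
namespace Cfsg.Agent.Lib.H82PQNilFpf
open Cfsg.Agent.Lib.Helper66Fpf Cfsg.Agent.Lib.Helper66Fpf2 Cfsg.Agent.Lib.Helper66Ward2
  Cfsg.Agent.Lib.Helper66S3a Cfsg.Agent.Lib.Helper66S3b Cfsg.Agent.Lib.Helper66S3c
  Cfsg.Agent.Lib.Helper40Sylow Cfsg.Agent.Lib.H92GREStep1 Cfsg.Agent.Lib.H82PQDefs
open scoped commutatorElement
variable {V : Type*} [CommGroup V] [Finite V] {X : Type*} [Group X] [Finite X] [MulDistribMulAction X V]
variable {p q t s r l : ℕ} {c d g : X} {S R Z K Q E Zt D : Subgroup X}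
theorem nil_of_fpf_elt (H : Subgroup X) (lp : l.Prime) (gl : g ^ l = 1) (gH : g ∈ Subgroup.normalizer (H : Set X))
    (hf : ∀ x ∈ H, g * x = x * g → x = 1) : Group.IsNilpotent H := by
  classical
  have hmem : ∀ x : X, x ∈ H ↔ g * x * g⁻¹ ∈ H := fun x => (Subgroup.mem_normalizer_iff.mp gH x)
  -- the automorphism
  let φ : H ≃* H :=
    { toFun := fun x => ⟨g * x * g⁻¹, (hmem x).mp x.2⟩
      invFun := fun x => ⟨g⁻¹ * x * g, by
        rw [hmem]; simp [mul_assoc]⟩
      left_inv := fun x => by ext; simp [mul_assoc]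
      right_inv := fun x => by ext; simp [mul_assoc]
      map_mul' := fun x y => by ext; simp [mul_assoc] }
  have hφ : ∀ x : H, ((φ x : H) : X) = g * x * g⁻¹ := fun x => rfl
  have hpow : ∀ (n : ℕ) (x : H), (((φ ^ n) x : H) : X) = g ^ n * x * (g ^ n)⁻¹ := by
    intro n
    induction n with
    | zero => intro x; simp
    | succ n ih =>
      intro x
      rw [pow_succ', MulAut.mul_apply, hφ, ih, pow_succ']
      simp [mul_assoc]
  have hl : φ ^ l = 1 := by
    ext x
    rw [hpow, gl]; simp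
  have hfp : MonoidHom.FixedPointFree (φ : H →* H) := by
    intro x hx
    have h1 : ((φ x : H) : X) = x := congrArg Subtype.val hx
    rw [hφ] at h1
    have h2 : g * x = x * g := by
      calc g * (x : X) = g * x * g⁻¹ * g := by simp
        _ = x * g := by rw [h1]
    exact Subtype.ext (hf x x.2 h2)
  rcases (Nat.dvd_prime lp).mp (orderOf_dvd_of_pow_eq_one hl) with h | h
  · -- φ = 1
    have h1 : φ = 1 := orderOf_eq_one_iff.mp h
    have hsub : Subsingleton H := by
      refine ⟨fun a b => ?_⟩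
      have ha : a = 1 := hfp a (by
        show φ a = a
        rw [h1]; rfl)
      have hb : b = 1 := hfp b (by
        show φ b = b
        rw [h1]; rfl)
      rw [ha, hb]
    infer_instance
  · exact Cfsg.Agent.S0033.result φ hfp l lp h

end Cfsg.Agent.Lib.H82PQNilFpf
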