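import Mathlib
import Cfsg.Agent.Lib.H82PQDefs
import Cfsg.Agent.Lib.Helper66S3k
import Cfsg.Agent.Lib.H82PQAGa
import Cfsg.Agent.Lib.H82PQAGb
import Cfsg.Agent.Lib.H82PQAGc
import Cfsg.Agent.Lib.H82PQAGd
import Cfsg.Agent.Lib.H82PQCoset
import Cfsg.Agent.Lib.H82PQNilFpf
import Cfsg.Agent.Lib.H82PQHnil

set_option autoImplicit false
set_option linter.unusedSectionVars false

/-! Project 4306 (S4306), piece `Step` (75m).
 ADAPTATION of `Helper66S3k.step3` (read it; same `φ = MulAut.conjNormal`, `ψ = resHom ρ V hρV`, `hφσ`, `hσC`, `hnorm`, irreducibility argument).  `H = φ.range`, solvable.  Fixed points: if `φ g` commutes with `ψ c₀` and `ψ d₀` then `g⁻¹ * ρ a g ∈ ker φ` for all `a` (the set of such `a` is a subgroup containing `c₀`, `d₀`; `top`), so `g ∈ ker φ` by `Coset.mem_of_coset_fixed`.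
Case `ψ c₀ = 1`: then `ψ d₀` normalises `H` and has no fixed point on it (commuting with `ψ c₀ = 1` is automatic): `NilFpf.nil_of_fpf_elt H fg.qp`.
Case `ψ c₀ ≠ 1`: `FG p q (ψ c₀) (ψ d₀)`: `nrm` by `MonoidHom.map_zpowers`; `ncm`: `d₀*c₀*d₀⁻¹*c₀⁻¹` generates `zpowers c₀` (`AGa.c_mem_comm`), so if its image is `1` then `ψ c₀ = 1`.  `PQ V p q (ψ c₀) (ψ d₀)` (`Coset.fix_all`), `Ad p q (ψ c₀) (ψ d₀) H`; `Hnil.hnil` (exponent `t` from `exponent_of_min`). -/
namespace Cfsg.Agent.Lib.H82PQStep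
open Cfsg.Agent.Lib.Helper66Fpf Cfsg.Agent.Lib.Helper66Fpf2 Cfsg.Agent.Lib.Helper66Ward2
  Cfsg.Agent.Lib.Helper66S3a Cfsg.Agent.Lib.Helper66S3b Cfsg.Agent.Lib.Helper66S3c
  Cfsg.Agent.Lib.Helper40Sylow Cfsg.Agent.Lib.H92GREStep1 Cfsg.Agent.Lib.H82PQDefs
open Cfsg.Agent.Lib.H82PQAGa Cfsg.Agent.Lib.H82PQAGb Cfsg.Agent.Lib.H82PQAGc Cfsg.Agent.Lib.H82PQAGd Cfsg.Agent.Lib.H82PQCoset Cfsg.Agent.Lib.H82PQNilFpf Cfsg.Agent.Lib.H82PQHnil
open Cfsg.Agent.Lib.Helper66Ward9
open scoped commutatorElement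
variable {V : Type*} [CommGroup V] [Finite V] {X : Type*} [Group X] [Finite X] [MulDistribMulAction X V]
variable {p q t s r l : ℕ} {c d g : X} {S R Z K Q E Zt D : Subgroup X}
variable {G : Type*} [Group G] [Finite G] {A₀ : Type*} [Group A₀] [Finite A₀] {c₀ d₀ : A₀}

theorem step (fg : FG p q c₀ d₀) (top : AA c₀ d₀ = ⊤) (hsol : Group.IsSolvable G)
    (hcop : (Nat.card G).Coprime (p * q)) (ρ : A₀ →* MulAut G) (hf : ∀ g, (∀ a, ρ a g = g) → g = 1)
    (V : Subgroup G) [V.Normal] (hVne : V ≠ ⊥) (hρV : ∀ a, ∀ v ∈ V, ρ a v ∈ V)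
    (hmin : ∀ W : Subgroup G, W.Normal → (∀ a, ∀ w ∈ W, ρ a w ∈ W) → W ≤ V → W = ⊥ ∨ W = V) :
    Group.IsNilpotent (MulAut.conjNormal : G →* MulAut V).range := by
  have hab := abelian_of_min hsol ρ V hVne hρV hmin
  obtain ⟨t', ht', hexpV⟩ := exponent_of_min ρ V hVne hmin hρV hab
  let _ : CommGroup V := { (inferInstance : Group V) with
    mul_comm := fun a b => Subtype.ext (hab a a.2 b b.2) }
  have hVnt : Nontrivial V := (Subgroup.nontrivial_iff_ne_bot V).mpr hVne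
  let φ : G →* MulAut V := MulAut.conjNormal
  let ψ : A₀ →* MulAut V := resHom ρ V hρV
  have hψ : ∀ (a : A₀) (v : V), ((ψ a v : V) : G) = ρ a v := fun a v => rfl
  have hφ : ∀ (g : G) (v : V), ((φ g v : V) : G) = g * v * g⁻¹ := fun g v =>
    MulAut.conjNormal_apply g v
  have hφσ : ∀ a g, ψ a * φ g * (ψ a)⁻¹ = φ (ρ a g) := by
    intro a g
    rw [mul_inv_eq_iff_eq_mul]
    ext v
    rw [MulAut.mul_apply, MulAut.mul_apply, hψ, hφ, hφ, hψ, map_mul, map_mul, map_inv]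
  set C := φ.ker with hC
  have hσC : ∀ a, ∀ c ∈ C, ρ a c ∈ C := by
    intro a c hc
    rw [hC, MonoidHom.mem_ker] at hc ⊢
    rw [← hφσ, hc]
    group
  have hψAA : ∀ a, ψ a ∈ AA (ψ c₀) (ψ d₀) := by
    intro a
    have h0 : a ∈ AA c₀ d₀ := by rw [top]; exact Subgroup.mem_top a
    have h1 : (AA c₀ d₀).map ψ = AA (ψ c₀) (ψ d₀) := by
      unfold AA
      rw [Subgroup.map_sup, MonoidHom.map_zpowers, MonoidHom.map_zpowers]
    rw [← h1]
    exact ⟨a, h0, rfl⟩
  have hnorm : ∀ a, ψ a ∈ Subgroup.normalizer (φ.range : Set (MulAut V)) := by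
    intro a
    apply Cfsg.Agent.Lib.Helper66Basic.mem_normalizer_of_conj_mem
    rintro _ ⟨g, rfl⟩
    exact ⟨ρ a g, (hφσ a g).symm⟩
  have hfix : ∀ x ∈ φ.range, ψ c₀ * x = x * ψ c₀ → ψ d₀ * x = x * ψ d₀ → x = 1 := by
    rintro _ ⟨g, rfl⟩ h1 h2
    have hcen := mem_centralizer_AA h1 h2
    have h3 : ∀ a, g⁻¹ * ρ a g ∈ C := by
      intro a
      have h4 := Subgroup.mem_centralizer_iff.mp hcen (ψ a) (hψAA a)
      rw [hC, MonoidHom.mem_ker, map_mul, map_inv, ← hφσ, h4]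
      group
    exact mem_of_coset_fixed fg top ρ hcop hf C hσC h3
  show Group.IsNilpotent φ.range
  by_cases hc1 : ψ c₀ = 1
  · refine nil_of_fpf_elt (g := ψ d₀) φ.range fg.qp (by rw [← map_pow, fg.dq, map_one]) (hnorm d₀) ?_
    intro x hx hxd
    exact hfix x hx (by rw [hc1, one_mul, mul_one]) hxd
  · have fg' : FG p q (ψ c₀) (ψ d₀) :=
      { pp := fg.pp
        qp := fg.qp
        hpq := fg.hpq
        cp := by rw [← map_pow, fg.cp, map_one]
        dq := by rw [← map_pow, fg.dq, map_one]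
        nrm := by
          rw [← map_inv, ← map_mul, ← map_mul, ← MonoidHom.map_zpowers]
          exact ⟨_, fg.nrm, rfl⟩
        ncm := by
          intro h0
          apply hc1
          obtain ⟨m, hm⟩ := Subgroup.mem_zpowers_iff.mp (c_mem_comm fg)
          have h1 : ψ (d₀ * c₀ * d₀⁻¹ * c₀⁻¹) = 1 := by
            rw [map_mul, map_mul, map_mul, map_inv, map_inv, h0, mul_inv_cancel]
          rw [← hm, map_zpow, h1, one_zpow] }
    have pq : PQ V p q (ψ c₀) (ψ d₀) :=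
      { fg := fg'
        fpfV := by
          intro v h1 h2
          apply Subtype.ext
          apply hf
          exact fix_all top ρ (congrArg Subtype.val h1) (congrArg Subtype.val h2)
        cop := Nat.Coprime.coprime_dvd_left (Subgroup.card_subgroup_dvd_card V) hcop }
    have adm : Ad p q (ψ c₀) (ψ d₀) φ.range :=
      { hc := hnorm c₀
        hd := hnorm d₀
        fpf := hfix
        cop := Nat.Coprime.coprime_dvd_left (Subgroup.card_range_dvd φ) hcop }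
    refine hnil (V := V) (X := MulAut V) ht' (fun v => Subtype.ext (hexpV v v.2)) pq adm
      (Group.isSolvable_of_surjective φ.rangeRestrict_surjective) ?_
    intro U hU1 hU2
    have hn : (U.map V.subtype).Normal := by
      constructor
      rintro _ ⟨u, hu, rfl⟩ g
      exact ⟨φ g u, hU1 _ ⟨g, rfl⟩ u hu, hφ g u⟩
    have hσU : ∀ a, ∀ w ∈ U.map V.subtype, ρ a w ∈ U.map V.subtype := by
      rintro a _ ⟨u, hu, rfl⟩
      exact ⟨ψ a u, hU2 _ (hψAA a) u hu, hψ a u⟩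
    rcases hmin _ hn hσU (Subgroup.map_subtype_le U) with h | h
    · left
      exact (Subgroup.map_eq_bot_iff_of_injective U V.subtype_injective).mp h
    · right
      rw [eq_top_iff]
      intro v _
      have : (v : G) ∈ U.map V.subtype := by rw [h]; exact v.2
      obtain ⟨u, hu, huv⟩ := this
      have : u = v := Subtype.ext huv
      rwa [← this]

end Cfsg.Agent.Lib.H82PQStep
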