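import Mathlib
import Cfsg.Agent.Lib.H82PQDefs
import Cfsg.Agent.Lib.Helper66S3k
import Cfsg.Agent.Lib.H82PQAGa
import Cfsg.Agent.Lib.H82PQAGb
import Cfsg.Agent.Lib.H82PQCoset
import Cfsg.Agent.Lib.H82PQStep

set_option autoImplicit false
set_option linter.unusedSectionVars false

/-! Project 4306 (S4306), piece `Main` (75m).
 ADAPTATION of `Helper66S3k.main3` (read it; same induction, same `V`, `ρ'`, `N = N'.comap (mk' V) ⊓ centralizer V`, same proof that `N` is nilpotent).  New: `G ⧸ N` is nilpotent.  The map `G → (G ⧸ V) ⧸ N' × (conjNormal).range`, `g ↦ (mk (mk g), conjNormal g)` has kernel `N` (`conjNormal g = 1 ↔ g ∈ centralizer V`),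
so `G ⧸ N` embeds (`QuotientGroup.kerLift_injective`, `QuotientGroup.quotientMulEquivOfEq`) in a product of two nilpotent groups (`Group.isNilpotent_prod`, `Group.isNilpotent_of_injective`/`Group.IsNilpotent.of_injective`..). -/
namespace Cfsg.Agent.Lib.H82PQMain
open Cfsg.Agent.Lib.Helper66Fpf Cfsg.Agent.Lib.Helper66Fpf2 Cfsg.Agent.Lib.Helper66Ward2
  Cfsg.Agent.Lib.Helper66S3a Cfsg.Agent.Lib.Helper66S3b Cfsg.Agent.Lib.Helper66S3c
  Cfsg.Agent.Lib.Helper40Sylow Cfsg.Agent.Lib.H92GREStep1 Cfsg.Agent.Lib.H82PQDefs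
open Cfsg.Agent.Lib.H82PQAGa Cfsg.Agent.Lib.H82PQAGb Cfsg.Agent.Lib.H82PQCoset Cfsg.Agent.Lib.H82PQStep
open scoped commutatorElement
variable {V : Type*} [CommGroup V] [Finite V] {X : Type*} [Group X] [Finite X] [MulDistribMulAction X V]
variable {p q t s r l : ℕ} {c d g : X} {S R Z K Q E Zt D : Subgroup X}
theorem nil_of_inj {K H : Type*} [Group K] [Group H] (f : K →* H) (hf : Function.Injective f)
    (hH : Group.IsNilpotent H) : Group.IsNilpotent K := by
  have h1 : Group.IsNilpotent f.range := inferInstance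
  exact (Group.isNilpotent_congr (MonoidHom.ofInjective hf)).mpr h1

theorem main.{u, v} {A₀ : Type v} [Group A₀] [Finite A₀] {c₀ d₀ : A₀} (fg : FG p q c₀ d₀) (top : AA c₀ d₀ = ⊤) :
    ∀ n : ℕ, ∀ (G : Type u) [Group G] [Finite G], Nat.card G = n →
    Group.IsSolvable G → (Nat.card G).Coprime (p * q) → ∀ ρ : A₀ →* MulAut G,
    (∀ g, (∀ a, ρ a g = g) → g = 1) →
    ∃ N : Subgroup G, ∃ _ : N.Normal, Group.IsNilpotent N ∧ Group.IsNilpotent (G ⧸ N) := by
  intro n
  induction n using Nat.strong_induction_on with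
  | _ n ih =>
  intro G _ _ hn hsol hcop ρ hf
  by_cases hG : Subsingleton G
  · exact ⟨⊥, inferInstance, inferInstance, inferInstance⟩
  rw [not_subsingleton_iff_nontrivial] at hG
  let S : Set (Subgroup G) := {V | V ≠ ⊥ ∧ V.Normal ∧ ∀ a, ∀ v ∈ V, ρ a v ∈ V}
  have hSne : S.Nonempty := ⟨⊤, top_ne_bot, inferInstance, fun _ _ _ => Subgroup.mem_top _⟩
  obtain ⟨V, hV⟩ := (Set.toFinite S).exists_minimal hSne
  obtain ⟨hVne, hVn, hσV⟩ := hV.prop
  have hmin : ∀ W : Subgroup G, W.Normal → (∀ a, ∀ w ∈ W, ρ a w ∈ W) → W ≤ V → W = ⊥ ∨ W = V := by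
    intro W hWn hWσ hWV
    by_cases hW : W = ⊥
    · exact Or.inl hW
    · exact Or.inr (hV.eq_of_le ⟨hW, hWn, hWσ⟩ hWV)
  have hm := step fg top hsol hcop ρ hf V hVne hσV hmin
  have hmap : ∀ a, V.map (ρ a : G →* G) = V := by
    intro a
    apply Subgroup.eq_of_le_of_card_ge
    · rintro _ ⟨v, hv, rfl⟩
      exact hσV a v hv
    · rw [Subgroup.card_map_of_injective (ρ a).injective]
  let ρ' : A₀ →* MulAut (G ⧸ V) :=
    { toFun := fun a => QuotientGroup.congr V V (ρ a) (hmap a)
      map_one' := by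
        ext x
        induction x using QuotientGroup.induction_on with
        | H g =>
          rw [QuotientGroup.congr_mk, map_one]; rfl
      map_mul' := by
        intro a b
        ext x
        induction x using QuotientGroup.induction_on with
        | H g =>
          rw [QuotientGroup.congr_mk, MulAut.mul_apply, QuotientGroup.congr_mk,
            QuotientGroup.congr_mk, map_mul]; rfl }
  have hρ' : ∀ (a : A₀) (g : G), ρ' a (g : G ⧸ V) = ((ρ a g : G) : G ⧸ V) := fun a g =>
    QuotientGroup.congr_mk V V (ρ a) (hmap a) g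
  have hcard' := Subgroup.card_eq_card_quotient_mul_card_subgroup V
  have hV1 : 1 < Nat.card V := (Subgroup.one_lt_card_iff_ne_bot V).mpr hVne
  have hlt : Nat.card (G ⧸ V) < n := by
    rw [← hn, hcard']
    have : 0 < Nat.card (G ⧸ V) := Nat.card_pos
    nlinarith
  obtain ⟨N', hN'n, hN'nil, hk⟩ := ih _ hlt (G ⧸ V) rfl inferInstance
    (Nat.Coprime.coprime_dvd_left (Dvd.intro _ hcard'.symm) hcop) ρ'
    (by
      intro x
      induction x using QuotientGroup.induction_on with
      | H g =>
        intro h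
        rw [QuotientGroup.eq_one_iff]
        apply mem_of_coset_fixed fg top ρ hcop hf V hσV
        intro a
        have h1 := h a
        rw [hρ', eq_comm, QuotientGroup.eq] at h1
        exact h1)
  refine ⟨N'.comap (QuotientGroup.mk' V) ⊓ Subgroup.centralizer (V : Set G), inferInstance, ?_, ?_⟩
  · set N := N'.comap (QuotientGroup.mk' V) ⊓ Subgroup.centralizer (V : Set G) with hN
    let f : N →* N' := ((QuotientGroup.mk' V).comp N.subtype).codRestrict N' (fun x => x.2.1)
    apply Subgroup.isNilpotent_of_ker_le_center f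
    intro x hx
    rw [MonoidHom.mem_ker] at hx
    have h1 : ((x : G) : G ⧸ V) = 1 := congrArg Subtype.val hx
    rw [QuotientGroup.eq_one_iff] at h1
    rw [Subgroup.mem_center_iff]
    intro y
    apply Subtype.ext
    exact (Subgroup.mem_centralizer_iff.mp y.2.2 x h1).symm
  · let φ : G →* MulAut V := MulAut.conjNormal
    let F : G →* ((G ⧸ V) ⧸ N') × φ.range :=
      MonoidHom.prod ((QuotientGroup.mk' N').comp (QuotientGroup.mk' V)) φ.rangeRestrict
    have hker : N'.comap (QuotientGroup.mk' V) ⊓ Subgroup.centralizer (V : Set G) = F.ker := by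
      ext g
      rw [MonoidHom.mem_ker, Subgroup.mem_inf, Subgroup.mem_comap, Prod.ext_iff]
      have e1 : (F g).1 = 1 ↔ (QuotientGroup.mk' V) g ∈ N' := by
        show (QuotientGroup.mk' N') ((QuotientGroup.mk' V) g) = 1 ↔ _
        exact QuotientGroup.eq_one_iff _
      have e2 : (F g).2 = 1 ↔ g ∈ Subgroup.centralizer (V : Set G) := by
        have e3 : (F g).2 = 1 ↔ φ g = 1 := by
          constructor
          · intro h
            exact congrArg Subtype.val h
          · intro h
            exact Subtype.ext h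
        rw [e3, Subgroup.mem_centralizer_iff]
        constructor
        · intro h v hv
          have h3 : ((φ g ⟨v, hv⟩ : V) : G) = g * v * g⁻¹ := MulAut.conjNormal_apply g ⟨v, hv⟩
          rw [h] at h3
          have h4 : v = g * v * g⁻¹ := h3
          exact (eq_mul_inv_iff_mul_eq.mp h4)
        · intro h
          ext v
          have h3 : ((φ g v : V) : G) = g * v * g⁻¹ := MulAut.conjNormal_apply g v
          rw [h3]
          have h4 := h v v.2
          show g * (v : G) * g⁻¹ = v
          rw [← h4, mul_inv_cancel_right]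
      exact ⟨fun h => ⟨e1.mpr h.1, e2.mpr h.2⟩, fun h => ⟨e1.mp h.1, e2.mp h.2⟩⟩
    have hP : Group.IsNilpotent (((G ⧸ V) ⧸ N') × φ.range) := by
      haveI : Group.IsNilpotent φ.range := hm
      haveI := hk
      infer_instance
    have h1 : Group.IsNilpotent (G ⧸ F.ker) :=
      nil_of_inj (QuotientGroup.kerLift F) (QuotientGroup.kerLift_injective F) hP
    exact (Group.isNilpotent_congr (QuotientGroup.quotientMulEquivOfEq hker)).mpr h1

end Cfsg.Agent.Lib.H82PQMain
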