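import Mathlib
import Cfsg.Agent.Lib.H82PQDefs
import Cfsg.Agent.Lib.H82PQAGd
import Cfsg.Agent.Lib.H82PQKQ
import Cfsg.Agent.Lib.H82PQBas1
import Cfsg.Agent.Lib.H82PQSStrB
import Cfsg.Agent.Lib.H82PQNB

set_option autoImplicit false
set_option linter.unusedSectionVars false

/-! Project 4306 (S4306), piece `NA` (35m).
 `na_R`: `KQ.comm_le` + `Bas1.comm_eq`: `S ≤ N`, against `NB.not_le`.  `na_c`: `KQ.cm_le_of_mem`.  `na_cb`: for `x ∈ R`, `x*c*x⁻¹ ∈ kerQR S N` (`kerQR_conj`, `h.RS`, `NB.R_norm`), `KQ.cm_le` gives `R = cm R c ≤ kerQR S N`, then `na_R`. -/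
namespace Cfsg.Agent.Lib.H82PQNA
open Cfsg.Agent.Lib.Helper66Fpf Cfsg.Agent.Lib.Helper66Fpf2 Cfsg.Agent.Lib.Helper66Ward2
  Cfsg.Agent.Lib.Helper66S3a Cfsg.Agent.Lib.Helper66S3b Cfsg.Agent.Lib.Helper66S3c
  Cfsg.Agent.Lib.Helper40Sylow Cfsg.Agent.Lib.H92GREStep1 Cfsg.Agent.Lib.H82PQDefs
open Cfsg.Agent.Lib.H82PQAGd Cfsg.Agent.Lib.H82PQKQ Cfsg.Agent.Lib.H82PQBas1 Cfsg.Agent.Lib.H82PQSStrB Cfsg.Agent.Lib.H82PQNB
open scoped commutatorElement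
variable {V : Type*} [CommGroup V] [Finite V] {X : Type*} [Group X] [Finite X] [MulDistribMulAction X V]
variable {p q t s r l : ℕ} {c d g : X} {S R Z K Q E Zt D : Subgroup X}
theorem na_R (h : Cfg V p q t s r c d S R) (mx : MaxK V ⁅S, S⁆ K)
    (hR : R ≤ kerQR S (fixer S (WK V ⁅S, S⁆ K))) : False := by
  have h1 : ⁅S, R⁆ ≤ fixer S (WK V ⁅S, S⁆ K) := comm_le hR
  rw [comm_eq h] at h1
  exact not_le h mx h1

theorem na_c (h : Cfg V p q t s r c d S R) (mx : MaxK V ⁅S, S⁆ K) (hSc : cm S c = S)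
    (hc : c ∈ kerQR S (fixer S (WK V ⁅S, S⁆ K))) : False := by
  have h1 : cm S c ≤ fixer S (WK V ⁅S, S⁆ K) := cm_le_of_mem hc
  rw [hSc] at h1
  exact not_le h mx h1

theorem na_cb (h : Cfg V p q t s r c d S R) (mx : MaxK V ⁅S, S⁆ K) (hRc : cm R c = R)
    (hc : c ∈ kerQR S (fixer S (WK V ⁅S, S⁆ K))) : False := by
  have h1 : cm R c ≤ kerQR S (fixer S (WK V ⁅S, S⁆ K)) :=
    cm_le hc (fun x hx => kerQR_conj _ _ x c (h.RS hx) (R_norm h mx hx) hc)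
  rw [hRc] at h1
  exact na_R h mx h1

end Cfsg.Agent.Lib.H82PQNA
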