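import Mathlib

set_option autoImplicit false

/-!
# Project 1256 (DK): definitions
-/

namespace Cfsg.Agent.Lib.H83DKDefs

/-- conjugate subgroup, in the form used in S1256 -/
abbrev cj {X : Type*} [Group X] (x : X) (U : Subgroup X) : Subgroup X :=
  U.map (MulAut.conj x).toMonoidHom

/-- the half turn exponent -/
def hh (m : ℕ) : ZMod m := ((m / 2 : ℕ) : ZMod m)

/-- the four-subgroups `{1, r h, sr i, sr (i + h)}` of the dihedral group -/
def Kf (m : ℕ) (i : ZMod m) : Subgroup (DihedralGroup m) :=
  Subgroup.closure {DihedralGroup.r (hh m), DihedralGroup.sr i}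

end Cfsg.Agent.Lib.H83DKDefs
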