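import Mathlib
import Cfsg.Agent.Lib.H83DKDefs
import Cfsg.Agent.Lib.H83DKMemKf

set_option autoImplicit false

/-!
# Project 1256 (DK), piece Classify (PURE MATHLIB + black box MemKf)
-/

namespace Cfsg.Agent.Lib.H83DKClassify

open Cfsg.Agent.Lib.H83DKDefs DihedralGroup

/-- Every Klein four subgroup of the dihedral group is some `Kf m i`.
PROOF.  Every `x ∈ W` satisfies `x * x = 1` (`Monoid.pow_exponent_eq_one`, `IsKleinFour.exponent_two`).  A rotation `r j ∈ W` has `j + j = 0`, so `j = 0` or `j = hh m` (`H83DKMemKf.two_tors`): at most 2 rotations in `W`.  As `Nat.card W = 4`, `W` contains two different reflections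
`sr i ≠ sr i'` (otherwise `W ⊆ {r 0, r h, sr i}` has at most 3 elements).  `sr i * sr i' = r (i' - i) ∈ W`, `i' - i ≠ 0`, so `i' - i = hh m`, `i' = i + hh m`, and `r (hh m) ∈ W`.  So `Kf m i ≤ W` (`Subgroup.closure_le`).
Conversely any `x ∈ W`: if `x = r j` then `j ∈ {0, h}`; if `x = sr l` then `sr i * sr l = r (l - i) ∈ W`, so `l - i ∈ {0, h}`: `x ∈ Kf m i` by `mem_Kf`. -/
theorem classify (m : ℕ) (hm : 2 ∣ m) (h0 : 0 < m) (W : Subgroup (DihedralGroup m))
    (hW : IsKleinFour W) : ∃ i : ZMod m, W = Kf m i := by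
  classical
  have hsq : ∀ x ∈ W, x * x = 1 := by
    intro x hx
    have h1 := Monoid.pow_exponent_eq_one (⟨x, hx⟩ : W)
    rw [hW.exponent_two] at h1
    have h2 := congrArg Subtype.val h1
    simpa [pow_two] using h2
  have hrot : ∀ j : ZMod m, r j ∈ W → j = 0 ∨ j = hh m := by
    intro j hj
    have h1 := hsq _ hj
    rw [r_mul_r, one_def] at h1
    exact H83DKMemKf.two_tors m hm h0 j (r.inj h1)
  have hex : ∀ F : Finset (DihedralGroup m), F.card < 4 → ∃ x ∈ W, x ∉ F := by
    intro F hF
    by_contra hcon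
    push Not at hcon
    have h1 : (W : Set (DihedralGroup m)) ⊆ ↑F := fun x hx => hcon x hx
    have h2 := Set.ncard_le_ncard h1 F.finite_toSet
    rw [Set.ncard_coe_finset] at h2
    have h3 : (W : Set (DihedralGroup m)).ncard = 4 := by
      rw [← Nat.card_coe_set_eq]; exact hW.card_four
    omega
  obtain ⟨i, hi⟩ : ∃ i : ZMod m, sr i ∈ W := by
    obtain ⟨x, hx, hxF⟩ := hex {r 0, r (hh m)} (lt_of_le_of_lt Finset.card_le_two (by norm_num))
    cases x with
    | r j =>
      exfalso
      apply hxF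
      rcases hrot j hx with h1 | h1 <;> simp [h1]
    | sr i => exact ⟨i, hx⟩
  obtain ⟨i', hi', hne⟩ : ∃ i' : ZMod m, sr i' ∈ W ∧ i' ≠ i := by
    obtain ⟨x, hx, hxF⟩ := hex {r 0, r (hh m), sr i}
      (lt_of_le_of_lt Finset.card_le_three (by norm_num))
    cases x with
    | r j =>
      exfalso
      apply hxF
      rcases hrot j hx with h1 | h1 <;> simp [h1]
    | sr l =>
      refine ⟨l, hx, ?_⟩
      intro h1
      apply hxF
      simp [h1]
  have hdiff : ∀ l : ZMod m, sr l ∈ W → l = i ∨ l = i + hh m := by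
    intro l hl
    have h1 : r (l - i) ∈ W := by
      have := W.mul_mem hi hl
      rwa [sr_mul_sr] at this
    rcases hrot _ h1 with h2 | h2
    · left; exact sub_eq_zero.mp h2
    · right; rw [← h2]; ring
  have hrh : r (hh m) ∈ W := by
    have h1 : r (i' - i) ∈ W := by
      have := W.mul_mem hi hi'
      rwa [sr_mul_sr] at this
    rcases hrot _ h1 with h2 | h2
    · exact absurd (sub_eq_zero.mp h2) hne
    · rwa [h2] at h1
  refine ⟨i, ?_⟩
  ext x
  rw [H83DKMemKf.mem_Kf m hm]
  constructor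
  · intro hx
    cases x with
    | r j =>
      rcases hrot j hx with h1 | h1
      · left; rw [h1, one_def]
      · right; left; rw [h1]
    | sr l =>
      rcases hdiff l hx with h1 | h1
      · right; right; left; rw [h1]
      · right; right; right; rw [h1]
  · rintro (h1 | h1 | h1 | h1)
    · rw [h1]; exact W.one_mem
    · rw [h1]; exact hrh
    · rw [h1]; exact hi
    · rw [h1, ← sr_mul_r]; exact W.mul_mem hi hrh

end Cfsg.Agent.Lib.H83DKClassify
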