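import Mathlib
import Cfsg.Agent.Lib.H83DKDefs
import Cfsg.Agent.Lib.H83DKCj
import Cfsg.Agent.Lib.H83DKOrbDvd

set_option autoImplicit false

/-!
# Project 1256 (DK), piece OutDvd (PURE MATHLIB + black boxes Cj, OrbDvd)
-/

namespace Cfsg.Agent.Lib.H83DKOutDvd

open Cfsg.Agent.Lib.H83DKDefs

/-- `S` acts by conjugation on the set of subgroups `V` with `P V`.
PROOF.  Build `MulAction ↥S {V : Subgroup X // P V}` by hand: `s • ⟨V, h⟩ := ⟨cj (s : X) V, hP s s.2 V h⟩`, `one_smul` by `H83DKCj.cj_one`, `mul_smul` by `H83DKCj.cj_mul` (`Subtype.ext`).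
Apply `H83DKOrbDvd.orbDvd d`.  The stabilizer of `⟨V, h⟩` is `{s : S | cj s V = V} = (S ⊓ normalizer V).subgroupOf S` (`cj s V = V ↔ s ∈ normalizer V`: `Subgroup.mem_normalizer_iff`, for finite groups/one inclusion + cardinality, or
`Subgroup.mem_normalizer_iff''`; `ext`), and `(K.subgroupOf S).index = K.relIndex S` is the DEFINITION of `relIndex` (`rfl`). -/
theorem outDvd {X : Type*} [Group X] [Finite X] (S : Subgroup X) (d : ℕ) (P : Subgroup X → Prop)
    (hP : ∀ s ∈ S, ∀ V, P V → P (cj s V))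
    (h : ∀ V, P V → d ∣ (S ⊓ Subgroup.normalizer (V : Set X)).relIndex S) :
    d ∣ Nat.card {V : Subgroup X // P V} := by
  classical
  letI act : MulAction ↥S {V : Subgroup X // P V} :=
    { smul := fun s V => ⟨cj (s : X) V.1, hP s s.2 V.1 V.2⟩
      one_smul := fun V => Subtype.ext (H83DKCj.cj_one V.1)
      mul_smul := fun a b V => Subtype.ext (H83DKCj.cj_mul (a : X) (b : X) V.1).symm }
  have hsmul : ∀ (s : S) (V : {V : Subgroup X // P V}), ((s • V : {V : Subgroup X // P V}) : Subgroup X)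
      = cj (s : X) V.1 := fun s V => rfl
  apply H83DKOrbDvd.orbDvd (S := ↥S) d
  rintro ⟨V, hV⟩
  have hstab : MulAction.stabilizer ↥S (⟨V, hV⟩ : {V : Subgroup X // P V})
      = (S ⊓ Subgroup.normalizer (V : Set X)).subgroupOf S := by
    ext s
    rw [MulAction.mem_stabilizer_iff, Subgroup.mem_subgroupOf, Subgroup.mem_inf,
      Subgroup.mem_normalizer_iff_map_conj_eq]
    constructor
    · intro hs
      have h1 : cj (s : X) V = V := by
        have := congrArg Subtype.val hs
        rwa [hsmul] at this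
      exact ⟨s.2, h1⟩
    · rintro ⟨-, h1⟩
      apply Subtype.ext
      rw [hsmul]
      exact h1
  rw [hstab]
  exact h V hV

end Cfsg.Agent.Lib.H83DKOutDvd
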