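import Mathlib
import Cfsg.Agent.S4399
import Cfsg.Agent.S0646

set_option autoImplicit false

/-! PROJECT 4923, piece Tau. -/

namespace Cfsg.Agent.Lib.H83FVTau

theorem taussky_data {P : Type*} [Group P] [Finite P] (n : ℕ) (hn : 3 ≤ n)
    (hP : Nat.card P = 2 ^ n) (h : (commutator P).index = 4) :
    ∃ a b : P, orderOf a = 2 ^ (n - 1) ∧
      (b * a * b⁻¹ = a⁻¹ ∨ (4 ≤ n ∧ b * a * b⁻¹ = a ^ (2 ^ (n - 2) - 1))) := by
  obtain ⟨n, rfl⟩ : ∃ m, n = m + 3 := ⟨n - 3, by omega⟩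
  have hm := hP
  have hidx := h
  obtain ⟨C, hC, hCi⟩ := Cfsg.Agent.S4399.exists_cyclic_index_two n P hm hidx
  have h8 : 2 ^ 3 ≤ 2 ^ (n + 3) := Nat.pow_le_pow_right (by norm_num) (by omega)
  have hna : ∃ x y : P, x * y ≠ y * x := by
    by_contra h
    push Not at h
    have : commutator P = ⊥ := by
      rw [commutator_eq_bot_iff_center_eq_top, Subgroup.eq_top_iff']
      intro x
      rw [Subgroup.mem_center_iff]
      intro g
      exact h g x
    rw [this, Subgroup.index_bot, hm] at hidx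
    omega
  obtain ⟨a, b, ha, hb, hcases⟩ := Cfsg.Agent.S0646.result (n + 3) (by omega) hm C hC hCi hna
  refine ⟨a, b, ha, ?_⟩
  have e1 : n + 3 - 1 = n + 2 := by omega
  have e2 : n + 3 - 2 = n + 1 := by omega
  rw [e1] at ha
  rw [e2] at hcases ⊢
  have hAi : (Subgroup.zpowers a).index = 2 := by
    have h1 := (Subgroup.zpowers a).card_mul_index
    rw [Nat.card_zpowers, ha, hm, pow_succ 2 (n + 2)] at h1
    exact Nat.eq_of_mul_eq_mul_left (by positivity) h1
  have htop : ∀ K : Subgroup P, a ∈ K → b ∈ K → K = ⊤ := by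
    intro K haK hbK
    rw [Subgroup.eq_top_iff']
    intro x
    by_cases hx : x ∈ Subgroup.zpowers a
    · exact (Subgroup.zpowers_le.mpr haK) hx
    · have h1 : x * b ∈ Subgroup.zpowers a := by
        rw [Subgroup.mul_mem_iff_of_index_two hAi]
        exact iff_of_false hx hb
      have := K.mul_mem ((Subgroup.zpowers_le.mpr haK) h1) (K.inv_mem hbK)
      simpa using this
  rcases hcases with ⟨hb2, hc⟩ | ⟨hb2, hc⟩ | ⟨hn4, hb2, hc⟩ | ⟨hn4, hb2, hc⟩
  · exact Or.inl hc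
  · exact Or.inl hc
  · exfalso
    have hAc : IsMulCommutative ↥(Subgroup.zpowers a) := inferInstance
    have hcen := Cfsg.Agent.S4399.card_inf_center _ hAi hAc hidx
    have ha2 : a ^ 2 ∈ Subgroup.center P := by
      have t1 : Subgroup.centralizer {a ^ 2} = ⊤ := by
        apply htop
        · rw [Subgroup.mem_centralizer_singleton_iff, ← pow_succ, ← pow_succ']
        · rw [Subgroup.mem_centralizer_singleton_iff, ← mul_inv_eq_iff_eq_mul, ← conj_pow, hc,
            ← pow_mul]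
          have : (1 + 2 ^ (n + 1)) * 2 = 2 + 2 ^ (n + 2) := by ring
          rw [this, pow_add, ← ha, pow_orderOf_eq_one, mul_one]
      rw [Subgroup.mem_center_iff]
      intro g
      have : g ∈ Subgroup.centralizer {a ^ 2} := t1 ▸ Subgroup.mem_top g
      exact Subgroup.mem_centralizer_singleton_iff.mp this
    have hle : Subgroup.zpowers (a ^ 2) ≤ Subgroup.zpowers a ⊓ Subgroup.center P := by
      rw [Subgroup.zpowers_le]
      exact ⟨Subgroup.pow_mem _ (Subgroup.mem_zpowers a) 2, ha2⟩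
    have h5 := Subgroup.card_le_of_le hle
    rw [hcen, Nat.card_zpowers, orderOf_pow_of_dvd (by norm_num)
      (by rw [ha]; exact dvd_pow_self 2 (by omega)), ha, pow_succ,
      Nat.mul_div_cancel _ (by norm_num)] at h5
    have : 2 ^ 2 ≤ 2 ^ (n + 1) := Nat.pow_le_pow_right (by norm_num) (by omega)
    omega
  · exact Or.inr ⟨hn4, hc⟩

theorem conj_cases {P : Type*} [Group P] [Finite P] (n : ℕ) (hn : 3 ≤ n)
    (hP : Nat.card P = 2 ^ n) (a : P) (ha : orderOf a = 2 ^ (n - 1))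
    (hnc : ∃ x : P, x * a ≠ a * x) :
    ∃ b : P, b * a * b⁻¹ = a⁻¹ ∨ (4 ≤ n ∧ b * a * b⁻¹ = a ^ (1 + 2 ^ (n - 2))) ∨
      (4 ≤ n ∧ b * a * b⁻¹ = a ^ (2 ^ (n - 2) - 1)) := by
  obtain ⟨k, rfl⟩ : ∃ m, n = m + 3 := ⟨n - 3, by omega⟩
  have e1 : k + 3 - 1 = k + 2 := by omega
  have e2 : k + 3 - 2 = k + 1 := by omega
  rw [e1] at ha
  rw [e2]
  obtain ⟨x, hx⟩ := hnc
  have hAi : (Subgroup.zpowers a).index = 2 := by
    have h1 := (Subgroup.zpowers a).card_mul_index
    rw [Nat.card_zpowers, ha, hP, pow_succ 2 (k + 2)] at h1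
    exact Nat.eq_of_mul_eq_mul_left (by positivity) h1
  have hnorm : (Subgroup.zpowers a).Normal := Subgroup.normal_of_index_eq_two hAi
  have hxA : x ∉ Subgroup.zpowers a := by
    intro hmem
    obtain ⟨j, rfl⟩ := Subgroup.mem_zpowers_iff.1 hmem
    apply hx
    rw [← zpow_add_one, ← zpow_one_add, add_comm]
  obtain ⟨r, hr⟩ := Subgroup.mem_zpowers_iff.1
    (hnorm.conj_mem a (Subgroup.mem_zpowers a) x)
  obtain ⟨s, hs⟩ := Subgroup.mem_zpowers_iff.1
    (show x ^ 2 ∈ Subgroup.zpowers a by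
      rw [pow_two, Subgroup.mul_mem_iff_of_index_two hAi])
  have hne : x * a * x⁻¹ ≠ a := by
    intro h
    apply hx
    rw [mul_inv_eq_iff_eq_mul] at h
    exact h
  obtain ⟨b, _, hb⟩ := Cfsg.Agent.S0646.core k a x ha hxA r s hr.symm hs.symm hne
  refine ⟨b, ?_⟩
  rcases hb with ⟨_, hc⟩ | ⟨_, hc⟩ | ⟨hk, _, hc⟩ | ⟨hk, _, hc⟩
  · exact Or.inl hc
  · exact Or.inl hc
  · exact Or.inr (Or.inl ⟨by omega, hc⟩)
  · exact Or.inr (Or.inr ⟨by omega, hc⟩)

end Cfsg.Agent.Lib.H83FVTau
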