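import Mathlib
import Cfsg.Prelude.Def_Characters
import Cfsg.Agent.Lib.H83FVConj
import Cfsg.Agent.Lib.H83FVInd
import Cfsg.Agent.Lib.H83FVEig
import Cfsg.Agent.Lib.H83FVCyc
import Cfsg.Agent.Lib.H83FVComm
import Cfsg.Agent.Lib.H83FVTau

set_option autoImplicit false

/-! Assembly of project 4923: `|P : P'| = 4` iff the field of values criterion. -/

namespace Cfsg.Agent.Lib.H83FVMain

open Cfsg IntermediateField
open Cfsg.Agent.Lib.H83FVConj Cfsg.Agent.Lib.H83FVInd Cfsg.Agent.Lib.H83FVEig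
  Cfsg.Agent.Lib.H83FVCyc Cfsg.Agent.Lib.H83FVComm Cfsg.Agent.Lib.H83FVTau
open scoped commutatorElement

/-- the set of values at `g`. -/
def vals {G : Type*} [Group G] (g : G) : Set ℂ :=
  {z : ℂ | ∃ χ : Cfsg.IrrCharacter G, (χ : G → ℂ) g = z}

theorem adjoin_eq {G : Type*} [Group G] [Finite G] (n : ℕ) (g x₀ : G) (r : ℕ)
    (hg : orderOf g = 2 ^ (n - 1)) (hG : ¬ 2 ^ (n + 1) ∣ Nat.card G)
    (hx : x₀ * g * x₀⁻¹ = g ^ r) (hne : g ^ r ≠ g) (ζ : ℂ)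
    (hζ : IsPrimitiveRoot ζ (2 ^ (n - 1))) (hp : ζ * ζ ^ r = 1 ∨ ζ * ζ ^ r = -1) :
    adjoin ℚ (vals g) = adjoin ℚ ({ζ + ζ ^ r} : Set ℂ) ∧
      2 ∣ (Subgroup.centralizer ({g} : Set G)).index := by
  obtain ⟨h1, h2⟩ := conj_dichotomy n g x₀ r hg hG hx hne
  refine ⟨le_antisymm ?_ ?_, h2⟩
  · rw [adjoin_le_iff]
    rintro z ⟨χ, rfl⟩
    refine values_mem g x₀ r hx _ ?_ χ
    intro μ hμ
    rw [hg] at hμ
    obtain ⟨j, -, rfl⟩ := hζ.eq_pow_of_pow_eq_one hμ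
    rw [← pow_mul, mul_comm j r, pow_mul]
    refine pow_add_pow_mem _ ζ (ζ ^ r) (mem_adjoin_simple_self ℚ _) ?_ j
    rcases hp with hp | hp <;> rw [hp]
    · exact one_mem _
    · exact neg_mem (one_mem _)
  · rw [adjoin_le_iff]
    rintro z rfl
    exact sum_mem_adjoin g x₀ r ζ (by rw [hg]; exact hζ.pow_eq_one) hx hne h1

theorem zeta_half (n : ℕ) (hn : 2 ≤ n) (ζ : ℂ) (hζ : IsPrimitiveRoot ζ (2 ^ (n - 1))) :
    ζ ^ (2 ^ (n - 2)) = -1 := by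
  have e : 2 ^ (n - 1) = 2 ^ (n - 2) * 2 := by rw [← pow_succ]; congr 1; omega
  have h1 : (ζ ^ (2 ^ (n - 2))) ^ 2 = 1 := by rw [← pow_mul, ← e]; exact hζ.pow_eq_one
  have h2 : ζ ^ (2 ^ (n - 2)) ≠ 1 := by
    intro h
    have := hζ.dvd_of_pow_eq_one _ h
    have h3 := Nat.le_of_dvd (by positivity) this
    rw [e] at h3
    have : 0 < 2 ^ (n - 2) := by positivity
    omega
  rw [sq] at h1
  rcases mul_self_eq_one_iff.mp h1 with h | h
  · exact absurd h h2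
  · exact h

theorem forward {G : Type*} [Group G] [Finite G] (Q : Subgroup G) (n : ℕ) (hn : 3 ≤ n)
    (hQ : Nat.card Q = 2 ^ n) (hG : ¬ 2 ^ (n + 1) ∣ Nat.card G) (ζ : ℂ)
    (hζ : IsPrimitiveRoot ζ (2 ^ (n - 1))) (h : (commutator ↥Q).index = 4) :
    ∃ g : G, g ∈ Q ∧ 2 ∣ (Subgroup.centralizer ({g} : Set G)).index ∧
      (adjoin ℚ (vals g) = adjoin ℚ ({ζ + ζ⁻¹} : Set ℂ) ∨
        adjoin ℚ (vals g) = adjoin ℚ ({ζ - ζ⁻¹} : Set ℂ)) := by
  obtain ⟨a, b, ha, hcase⟩ := taussky_data n hn hQ h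
  have hg : orderOf (a : G) = 2 ^ (n - 1) := by rw [Subgroup.orderOf_coe, ha]
  have hζ0 : ζ ≠ 0 := hζ.ne_zero (by positivity)
  have hN4 : 2 ^ 2 ≤ 2 ^ (n - 1) := Nat.pow_le_pow_right (by norm_num) (by omega)
  rcases hcase with hc | ⟨hn4, hc⟩
  · -- inversion
    have hgr : (a : G) ^ (2 ^ (n - 1) - 1) = (a : G)⁻¹ := by
      apply eq_inv_of_mul_eq_one_left
      rw [← pow_succ, Nat.sub_add_cancel (by omega), ← hg, pow_orderOf_eq_one]
    have hζr : ζ ^ (2 ^ (n - 1) - 1) = ζ⁻¹ := by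
      apply eq_inv_of_mul_eq_one_left
      rw [← pow_succ, Nat.sub_add_cancel (by omega), hζ.pow_eq_one]
    have hx : (b : G) * a * (b : G)⁻¹ = (a : G) ^ (2 ^ (n - 1) - 1) := by
      rw [hgr]
      exact congrArg Subtype.val hc
    have hne : (a : G) ^ (2 ^ (n - 1) - 1) ≠ a := by
      rw [hgr]
      intro h1
      have h2 : (a : G) ^ 2 = 1 := by
        rw [sq]
        nth_rewrite 1 [← h1]
        exact inv_mul_cancel _
      have h3 := Nat.le_of_dvd (by norm_num) (orderOf_dvd_of_pow_eq_one h2)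
      omega
    obtain ⟨h1, h2⟩ := adjoin_eq n (a : G) b _ hg hG hx hne ζ hζ
      (Or.inl (by rw [hζr, mul_inv_cancel₀ hζ0]))
    rw [hζr] at h1
    exact ⟨a, a.2, h2, Or.inl h1⟩
  · have hN2 : 2 ^ 2 ≤ 2 ^ (n - 2) := Nat.pow_le_pow_right (by norm_num) (by omega)
    have hζr : ζ ^ (2 ^ (n - 2) - 1) = -ζ⁻¹ := by
      have h1 : ζ ^ (2 ^ (n - 2) - 1) * ζ = -1 := by
        rw [← pow_succ, Nat.sub_add_cancel (by omega), zeta_half n (by omega) ζ hζ]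
      field_simp
      exact h1
    have hx : (b : G) * a * (b : G)⁻¹ = (a : G) ^ (2 ^ (n - 2) - 1) :=
      congrArg Subtype.val hc
    have hlt : 2 ^ (n - 2) < 2 ^ (n - 1) := Nat.pow_lt_pow_right (by norm_num) (by omega)
    have hne : (a : G) ^ (2 ^ (n - 2) - 1) ≠ a := by
      intro h1
      have h2 : (a : G) ^ (2 ^ (n - 2) - 1) = (a : G) ^ 1 := by rw [h1, pow_one]
      rw [pow_inj_mod, hg, Nat.mod_eq_of_lt (by omega), Nat.mod_eq_of_lt (by omega)] at h2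
      omega
    obtain ⟨h1, h2⟩ := adjoin_eq n (a : G) b _ hg hG hx hne ζ hζ
      (Or.inr (by rw [hζr]; field_simp))
    rw [hζr, ← sub_eq_add_neg] at h1
    exact ⟨a, a.2, h2, Or.inr h1⟩

/-- roots of unity of order dividing `2^(n-2)` lie in `ℚ(ζ²)`. -/
theorem mem_K2 (n : ℕ) (hn : 2 ≤ n) (ζ : ℂ) (hζ : IsPrimitiveRoot ζ (2 ^ (n - 1))) (μ : ℂ)
    (hμ : μ ^ (2 ^ (n - 2)) = 1) : μ ∈ adjoin ℚ ({ζ ^ 2} : Set ℂ) := by
  have e : 2 ^ (n - 1) = 2 * 2 ^ (n - 2) := by rw [← pow_succ']; congr 1; omega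
  have h1 : IsPrimitiveRoot (ζ ^ 2) (2 ^ (n - 2)) := hζ.pow (by positivity) e
  obtain ⟨j, -, rfl⟩ := h1.eq_pow_of_pow_eq_one hμ
  exact pow_mem (mem_adjoin_simple_self ℚ _) j

/-- the values at `g` cannot all lie in `ℚ(ζ²)`. -/
theorem not_all_K2 {G : Type*} [Group G] (n : ℕ) (hn : 4 ≤ n) (g : G) (ζ : ℂ)
    (hζ : IsPrimitiveRoot ζ (2 ^ (n - 1)))
    (hf : adjoin ℚ (vals g) = adjoin ℚ ({ζ + ζ⁻¹} : Set ℂ) ∨
        adjoin ℚ (vals g) = adjoin ℚ ({ζ - ζ⁻¹} : Set ℂ))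
    (hall : ∀ χ : Cfsg.IrrCharacter G, (χ : G → ℂ) g ∈ adjoin ℚ ({ζ ^ 2} : Set ℂ)) : False := by
  have hζ0 : ζ ≠ 0 := hζ.ne_zero (by positivity)
  have hle : adjoin ℚ (vals g) ≤ adjoin ℚ ({ζ ^ 2} : Set ℂ) := by
    rw [adjoin_le_iff]
    rintro z ⟨χ, rfl⟩
    exact hall χ
  have hN8 : 2 ^ 3 ≤ 2 ^ (n - 1) := Nat.pow_le_pow_right (by norm_num) (by omega)
  have hz2 : ζ ^ 2 ∈ adjoin ℚ ({ζ ^ 2} : Set ℂ) := mem_adjoin_simple_self ℚ _
  have hne1 : ζ ^ 2 - 1 ≠ 0 := by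
    intro h
    have h1 : ζ ^ 2 = 1 := by linear_combination h
    have := Nat.le_of_dvd (by norm_num) (hζ.dvd_of_pow_eq_one _ h1)
    omega
  have hne2 : ζ ^ 2 + 1 ≠ 0 := by
    intro h
    have h1 : ζ ^ 4 = 1 := by linear_combination (ζ ^ 2 - 1) * h
    have := Nat.le_of_dvd (by norm_num) (hζ.dvd_of_pow_eq_one _ h1)
    omega
  apply not_mem_adjoin_sq (n - 1) (by omega) ζ hζ
  rcases hf with hf | hf
  · have h1 : ζ + ζ⁻¹ ∈ adjoin ℚ ({ζ ^ 2} : Set ℂ) := by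
      apply hle
      rw [hf]
      exact mem_adjoin_simple_self ℚ _
    have h2 : ζ = ζ ^ 2 * (ζ + ζ⁻¹) * (ζ ^ 2 + 1)⁻¹ := by
      field_simp
    have h3 := mul_mem (mul_mem hz2 h1) (inv_mem (add_mem hz2 (one_mem _)))
    rw [← h2] at h3
    exact h3
  · have h1 : ζ - ζ⁻¹ ∈ adjoin ℚ ({ζ ^ 2} : Set ℂ) := by
      apply hle
      rw [hf]
      exact mem_adjoin_simple_self ℚ _
    have h2 : ζ = ζ ^ 2 * (ζ - ζ⁻¹) * (ζ ^ 2 - 1)⁻¹ := by
      field_simp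
    have h3 := mul_mem (mul_mem hz2 h1) (inv_mem (sub_mem hz2 (one_mem _)))
    rw [← h2] at h3
    exact h3

theorem backward {G : Type*} [Group G] [Finite G] (Q : Subgroup G) (n : ℕ) (hn : 3 ≤ n)
    (hQ : Nat.card Q = 2 ^ n) (hG : ¬ 2 ^ (n + 1) ∣ Nat.card G) (ζ : ℂ)
    (hζ : IsPrimitiveRoot ζ (2 ^ (n - 1))) (g : G) (hgQ : g ∈ Q)
    (heven : 2 ∣ (Subgroup.centralizer ({g} : Set G)).index)
    (hf : adjoin ℚ (vals g) = adjoin ℚ ({ζ + ζ⁻¹} : Set ℂ) ∨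
        adjoin ℚ (vals g) = adjoin ℚ ({ζ - ζ⁻¹} : Set ℂ)) :
    (commutator ↥Q).index = 4 := by
  set a : Q := ⟨g, hgQ⟩ with hadef
  -- `g` is not central in `Q`
  have hnc : ∃ x : Q, x * a ≠ a * x := by
    by_contra hcon
    push Not at hcon
    have hle : Q ≤ Subgroup.centralizer ({g} : Set G) := by
      intro x hx
      rw [Subgroup.mem_centralizer_singleton_iff]
      exact congrArg Subtype.val (hcon ⟨x, hx⟩)
    have h1 : 2 ∣ Q.index := heven.trans (Subgroup.index_dvd_of_le hle)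
    apply hG
    rw [← Q.card_mul_index, hQ, pow_succ]
    exact Nat.mul_dvd_mul_left _ h1
  obtain ⟨x, hx⟩ := hnc
  have hna : ∃ x y : Q, x * y ≠ y * x := ⟨x, a, hx⟩
  have hcomm : ∀ u v : Q, u * v * u⁻¹ * v⁻¹ ∈ commutator ↥Q := by
    intro u v
    rw [commutator_def]
    exact Subgroup.commutator_mem_commutator (Subgroup.mem_top u) (Subgroup.mem_top v)
  have hpow : ∀ c : Q, ∃ m, m ≤ n ∧ orderOf c = 2 ^ m := by
    intro c
    have h1 : orderOf c ∣ 2 ^ n := hQ ▸ orderOf_dvd_natCard c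
    exact (Nat.dvd_prime_pow Nat.prime_two).mp h1
  rcases Nat.eq_or_lt_of_le hn with rfl | hn4
  · -- order 8
    refine commutator_index_eq_four 3 (by norm_num) hQ hna (x * a * x⁻¹ * a⁻¹) (hcomm x a) ?_
    obtain ⟨m, -, hm⟩ := hpow (x * a * x⁻¹ * a⁻¹)
    rw [hm]
    rcases Nat.eq_zero_or_pos m with rfl | hm0
    · exfalso
      rw [pow_zero, orderOf_eq_one_iff] at hm
      apply hx
      have : x * a = (x * a * x⁻¹ * a⁻¹) * (a * x) := by group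
      rw [this, hm, one_mul]
    · exact pow_dvd_pow 2 (by omega)
  have hn4' : 4 ≤ n := hn4
  obtain ⟨m, hmn, hm⟩ := hpow a
  have hgm : orderOf g = 2 ^ m := by
    rw [← hm, ← Subgroup.orderOf_coe]
  have hcase : m = n ∨ m ≤ n - 2 ∨ m = n - 1 := by omega
  rcases hcase with rfl | hm2 | rfl
  · -- cyclic
    exfalso
    have hcyc : IsCyclic Q := isCyclic_of_orderOf_eq_card a (by rw [hm, hQ])
    obtain ⟨u, v, huv⟩ := hna
    exact huv (isMulCommutative_iff.mp hcyc.isMulCommutative u v)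
  · exfalso
    refine not_all_K2 n hn4' g ζ hζ hf (fun χ => ?_)
    refine values_mem g 1 1 (by simp) _ ?_ χ
    intro μ hμ
    rw [hgm] at hμ
    have h1 : μ ^ (2 ^ (n - 2)) = 1 := by
      obtain ⟨d, hd⟩ := pow_dvd_pow 2 hm2
      rw [hd, pow_mul, hμ, one_pow]
    have h2 := mem_K2 n (by omega) ζ hζ μ h1
    rw [pow_one]
    exact add_mem h2 h2
  · have e : 2 ^ (n - 1) = 2 * 2 ^ (n - 2) := by rw [← pow_succ']; congr 1; omega
    have ha2 : orderOf (a ^ 2) = 2 ^ (n - 2) := by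
      rw [orderOf_pow_of_dvd (by norm_num) (by rw [hm, e]; exact Dvd.intro _ rfl), hm, e,
        Nat.mul_div_cancel_left _ (by norm_num)]
    obtain ⟨b, hb | ⟨-, hb⟩ | ⟨-, hb⟩⟩ := conj_cases n hn hQ a hm ⟨x, hx⟩
    · refine commutator_index_eq_four n (by omega) hQ hna (b * a * b⁻¹ * a⁻¹) (hcomm b a) ?_
      have : b * a * b⁻¹ * a⁻¹ = (a ^ 2)⁻¹ := by rw [hb]; group
      rw [this, orderOf_inv, ha2]
    · exfalso
      refine not_all_K2 n hn4' g ζ hζ hf (fun χ => ?_)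
      refine values_mem g (b : G) (1 + 2 ^ (n - 2)) (congrArg Subtype.val hb) _ ?_ χ
      intro μ hμ
      rw [hgm, e, mul_comm, pow_mul, sq] at hμ
      rw [pow_add, pow_one]
      rcases mul_self_eq_one_iff.mp hμ with h1 | h1
      · have h2 := mem_K2 n (by omega) ζ hζ μ h1
        rw [h1, mul_one]
        exact add_mem h2 h2
      · rw [h1]
        have : μ + μ * -1 = 0 := by ring
        rw [this]
        exact zero_mem _
    · refine commutator_index_eq_four n (by omega) hQ hna (b * a * b⁻¹ * a⁻¹) (hcomm b a) ?_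
      have hN2 : 2 ^ 2 ≤ 2 ^ (n - 2) := Nat.pow_le_pow_right (by norm_num) (by omega)
      have e2 : 2 ^ (n - 2) = 2 * 2 ^ (n - 3) := by rw [← pow_succ']; congr 1; omega
      have hpos : 0 < 2 ^ (n - 3) := by positivity
      have : b * a * b⁻¹ * a⁻¹ = (a ^ 2) ^ (2 ^ (n - 3) - 1) := by
        rw [hb, ← pow_mul, mul_inv_eq_iff_eq_mul, ← pow_succ]
        congr 1
        rw [e2]
        omega
      rw [this, Nat.Coprime.orderOf_pow, ha2]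
      rw [ha2]
      apply Nat.Coprime.pow_left
      rw [Nat.coprime_two_left]
      have e3 : 2 ^ (n - 3) = 2 * 2 ^ (n - 4) := by rw [← pow_succ']; congr 1; omega
      have hpos' : 0 < 2 ^ (n - 4) := by positivity
      exact ⟨2 ^ (n - 4) - 1, by omega⟩

theorem main {G : Type*} [Group G] [Finite G] (Q : Subgroup G) (n : ℕ) (hn : 3 ≤ n)
    (hQ : Nat.card Q = 2 ^ n) (hG : ¬ 2 ^ (n + 1) ∣ Nat.card G) (ζ : ℂ)
    (hζ : IsPrimitiveRoot ζ (2 ^ (n - 1))) :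
    (commutator ↥Q).index = 4 ↔
    ∃ g : G, g ∈ Q ∧ 2 ∣ (Subgroup.centralizer ({g} : Set G)).index ∧
      (adjoin ℚ {z : ℂ | ∃ χ : Cfsg.IrrCharacter G, (χ : G → ℂ) g = z}
          = adjoin ℚ ({ζ + ζ⁻¹} : Set ℂ) ∨
        adjoin ℚ {z : ℂ | ∃ χ : Cfsg.IrrCharacter G, (χ : G → ℂ) g = z}
          = adjoin ℚ ({ζ - ζ⁻¹} : Set ℂ)) :=
  ⟨forward Q n hn hQ hG ζ hζ, fun ⟨g, h1, h2, h3⟩ => backward Q n hn hQ hG ζ hζ g h1 h2 h3⟩

end Cfsg.Agent.Lib.H83FVMain
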