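import Mathlib
import Cfsg.Agent.Lib.H83RNDefs
import Cfsg.Agent.Lib.Helper4Char2
import Cfsg.Agent.S4519

set_option autoImplicit false

/-!
# Project 4864 (RN), piece Over: a real character of a normal subgroup of odd index lies under a real character
-/

namespace Cfsg.Agent.Lib.H83RNOver

open Cfsg.Agent.Lib.H83RNDefs

/-- COROLLARY of the landed row `Cfsg.Agent.S4519.result` with `k := Nat.card Γ - 1`, `e := 1`. -/
theorem exists_real_over {Γ : Type*} [Group Γ] [Fintype Γ] (K : Subgroup Γ) [K.Normal] [Fintype K]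
    (hodd : Odd K.index) (θ : Cfsg.IrrCharacter K) (hθ : RI θ) :
    ∃ χ : Cfsg.IrrCharacter Γ, RI χ ∧
      Cfsg.classInner (fun k : K => (χ : Γ → ℂ) k) (θ : K → ℂ) ≠ 0 := by
  obtain ⟨k, hk⟩ : ∃ k, Nat.card Γ = k + 1 := ⟨Nat.card Γ - 1, by have := Nat.card_pos (α := Γ); omega⟩
  have hpow : ∀ g : Γ, g ^ k = g⁻¹ := by
    intro g
    apply eq_inv_of_mul_eq_one_left
    rw [← pow_succ, ← hk]
    exact pow_card_eq_one'
  have hpowK : ∀ g : K, g ^ k = g⁻¹ := by
    intro g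
    apply Subtype.ext
    simp only [SubgroupClass.coe_pow, Subgroup.coe_inv]
    exact hpow g
  have hcop : Nat.Coprime k (Nat.card Γ) := by
    rw [hk]
    simp
  have hke : k ^ (2 ^ 1) ≡ 1 [MOD Nat.card Γ] := by
    rw [hk, pow_one]
    rcases Nat.eq_zero_or_pos k with h0 | h0
    · subst h0
      exact Nat.modEq_one
    · obtain ⟨j, rfl⟩ : ∃ j, k = j + 1 := ⟨k - 1, by omega⟩
      have e : (j + 1) ^ 2 = 1 + (j + 1 + 1) * j := by ring
      rw [e]
      unfold Nat.ModEq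
      simp
  have hinv : ∀ n : K, (θ : K → ℂ) (n ^ k) = (θ : K → ℂ) n := by
    intro n
    rw [hpowK, Cfsg.Agent.Lib.Helper4Char2.IsCharacter.apply_inv
      (Cfsg.Agent.Lib.Helper4Char.IsIrrCharacter.isCharacter θ.2)]
    exact Complex.conj_eq_iff_im.2 (hθ n)
  obtain ⟨χ, ⟨h1, h2, -⟩, -⟩ := Cfsg.Agent.S4519.result K hodd k 1 hcop hke
    (fun g _ => hpow g) θ hinv
  refine ⟨χ, ?_, h1⟩
  intro g
  have h3 := h2 g
  rw [hpow, Cfsg.Agent.Lib.Helper4Char2.IsCharacter.apply_inv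
      (Cfsg.Agent.Lib.Helper4Char.IsIrrCharacter.isCharacter χ.2)] at h3
  exact Complex.conj_eq_iff_im.1 h3

end Cfsg.Agent.Lib.H83RNOver
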