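import Mathlib
import Cfsg.Prelude.Def_Blocks
import Cfsg.Agent.Lib.H83RNDefs
import Cfsg.Agent.Lib.H83RNStepB
import Cfsg.Agent.Lib.H83RNCountR
import Cfsg.Agent.Lib.H83RNInvConj
import Cfsg.Agent.Lib.H83RNOver
import Cfsg.Agent.Lib.H83RNRealK

set_option autoImplicit false

/-!
# Project 4864 (RN), assembly Core
-/

namespace Cfsg.Agent.Lib.H83RNCore

open Cfsg.Agent.Lib.H83RNDefs Cfsg.Agent.Lib.Helper77Glaub Cfsg.Agent.Lib.Helper77Glaub2
  Cfsg.Agent.Lib.Helper77Glaub5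

theorem eq_one_of_mem {Γ : Type*} [Group Γ] [Finite Γ] (K : Subgroup Γ) (p : ℕ) [Fact p.Prime]
    (hp : ¬ p ∣ Nat.card K) (P : Sylow p Γ) (z : Γ) (hzK : z ∈ K) (hzP : z ∈ P) : z = 1 := by
  obtain ⟨k, hk⟩ := (IsPGroup.iff_orderOf.mp P.2) ⟨z, hzP⟩
  rw [Subgroup.orderOf_mk] at hk
  have h1 : orderOf z ∣ Nat.card K := by
    have := orderOf_dvd_natCard (⟨z, hzK⟩ : K)
    rwa [Subgroup.orderOf_mk] at this
  rcases Nat.eq_zero_or_pos k with rfl | hpos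
  · simpa using hk
  · exfalso
    apply hp
    rw [hk] at h1
    exact (dvd_pow_self p hpos.ne').trans h1

theorem core {Γ : Type*} [Group Γ] [Finite Γ] (K : Subgroup Γ) [hKn : K.Normal] (p : ℕ)
    [Fact p.Prime] (hp : ¬ p ∣ Nat.card K) (hodd : Odd K.index)
    (hreal : ∀ χ : Cfsg.IrrCharacter Γ, (∀ g : Γ, ((χ : Γ → ℂ) g).im = 0) →
      ¬ p ∣ Cfsg.charDegree (χ : Γ → ℂ))
    (P : Sylow p Γ) (x : Γ) (hx : IsConj x x⁻¹) :
    ∃ y : Γ, IsConj x y ∧ ∀ u ∈ P, u * y = y * u := by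
  classical
  have := Fintype.ofFinite Γ
  have : Fintype K := Fintype.ofFinite K
  obtain ⟨hxK, hxr⟩ := Cfsg.Agent.Lib.H83RNRealK.real_mem K hodd x hx
  let φ : Γ →* MulAut K := MulAut.conjNormal
  have hφ : ∀ (g : Γ) (k : K), ((φ g k : K) : Γ) = g * k * g⁻¹ :=
    fun g k => MulAut.conjNormal_apply g k
  let aX : Γ →* Equiv.Perm (Cfsg.IrrCharacter K) := permHom.comp φ
  let aY : Γ →* Equiv.Perm (ConjClasses K) := clHom.comp φ
  let φS : Subgroup.normalizer ((P : Subgroup Γ) : Set Γ) →* MulAut K :=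
    φ.comp (Subgroup.normalizer ((P : Subgroup Γ) : Set Γ)).subtype
  let φT : (P : Subgroup Γ) →* MulAut K := φ.comp (P : Subgroup Γ).subtype
  have hpow : ∀ g : Γ, φ g ^ K.index = MulAut.conj (⟨g ^ K.index, Subgroup.pow_index_mem K g⟩ : K) := by
    intro g
    rw [← map_pow]
    ext k
    rw [hφ]
    rfl
  have hXfix : ∀ (g : Γ) (θ : Cfsg.IrrCharacter K),
      aX g θ = θ ↔ ∀ k, θ.1 (φ g k) = θ.1 k := fun g θ => permHom_eq_self_iff _ _
  have ha : ∀ g : Γ, Nat.card {θ : Cfsg.IrrCharacter K // RI θ ∧ aX g θ = θ}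
      = Nat.card {C : ConjClasses K // RC C ∧ aY g C = C} := by
    intro g
    have h := Cfsg.Agent.Lib.H83RNBrauer.brauerReal (φ g) K.index hodd ⟨_, hpow g⟩
    exact (Nat.card_congr
      (Equiv.subtypeEquivRight (fun θ => and_congr_right (fun _ => hXfix g θ)))).trans h
  have hN : ∀ (s : Subgroup.normalizer ((P : Subgroup Γ) : Set Γ)) (t : (P : Subgroup Γ)),
      ∃ t' : (P : Subgroup Γ), φS s * φT t = φT t' * φS s := by
    intro s t
    refine ⟨⟨s * t * (s : Γ)⁻¹, (Subgroup.mem_normalizer_iff.mp s.2 t).mp t.2⟩, ?_⟩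
    change φ s * φ t = φ (s * t * (s : Γ)⁻¹) * φ s
    rw [← map_mul, ← map_mul]
    congr 1
    group
  have hb : ∀ n ∈ Subgroup.normalizer ((P : Subgroup Γ) : Set Γ),
      Nat.card {θ : Cfsg.IrrCharacter K // RI θ ∧ (∀ u ∈ P, aX u θ = θ) ∧ aX n θ = θ}
        = Nat.card {C : ConjClasses K // RC C ∧ (∀ u ∈ P, aY u C = C) ∧ aY n C = C} := by
    intro n hn
    have hsm : ∃ c : K, (∀ t, φT t c = c) ∧ φS ⟨n, hn⟩ ^ K.index = MulAut.conj c := by
      refine ⟨⟨n ^ K.index, Subgroup.pow_index_mem K n⟩, ?_, hpow n⟩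
      intro t
      apply Subtype.ext
      change ((φ t _ : K) : Γ) = _
      rw [hφ]
      change (t : Γ) * n ^ K.index * (t : Γ)⁻¹ = n ^ K.index
      set c := n ^ K.index with hc
      have hcK : c ∈ K := Subgroup.pow_index_mem K n
      have hcN : c ∈ Subgroup.normalizer ((P : Subgroup Γ) : Set Γ) := Subgroup.pow_mem _ hn _
      have h1 : (t : Γ) * c * (t : Γ)⁻¹ * c⁻¹ = 1 := by
        apply eq_one_of_mem K p hp P
        · exact K.mul_mem (hKn.conj_mem c hcK t) (K.inv_mem hcK)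
        · have h2 : c * (t : Γ)⁻¹ * c⁻¹ ∈ P :=
            (Subgroup.mem_normalizer_iff.mp hcN _).mp ((P : Subgroup Γ).inv_mem t.2)
          have h3 : (t : Γ) * c * (t : Γ)⁻¹ * c⁻¹ = t * (c * (t : Γ)⁻¹ * c⁻¹) := by group
          rw [h3]
          exact (P : Subgroup Γ).mul_mem t.2 h2
      exact mul_inv_eq_one.mp h1
    have h := Cfsg.Agent.Lib.H83RNStepB.stepB p P.2 φS φT hN hp ⟨n, hn⟩ K.index hodd hsm
    have e1 : {θ : Cfsg.IrrCharacter K // RI θ ∧ (∀ u ∈ P, aX u θ = θ) ∧ aX n θ = θ} ≃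
        {χ : Cfsg.IrrCharacter K // RI χ ∧ Inv φT χ.1 ∧ ∀ g, χ.1 (φS ⟨n, hn⟩ g) = χ.1 g} := by
      apply Equiv.subtypeEquivRight
      intro θ
      apply and_congr_right
      intro _
      apply and_congr
      · rw [inv_iff]
        exact ⟨fun h u => h u u.2, fun h u hu => h ⟨u, hu⟩⟩
      · exact hXfix n θ
    have e2 : {C : ConjClasses K // RC C ∧ (∀ u ∈ P, aY u C = C) ∧ aY n C = C} ≃
        {C : ConjClasses K // RC C ∧ InvC φT C ∧ clHom (φS ⟨n, hn⟩) C = C} := by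
      apply Equiv.subtypeEquivRight
      intro C
      apply and_congr_right
      intro _
      apply and_congr
      · rw [invC_iff]
        exact ⟨fun h u => h u u.2, fun h u hu => h ⟨u, hu⟩⟩
      · exact Iff.rfl
    rw [Nat.card_congr e1, Nat.card_congr e2, h]
  have hc : ∀ θ : Cfsg.IrrCharacter K, RI θ → ∃ g : Γ, ∀ u ∈ P, aX u (aX g θ) = aX g θ := by
    intro θ hθ
    obtain ⟨χ, hχr, hcon⟩ := Cfsg.Agent.Lib.H83RNOver.exists_real_over K hodd θ hθ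
    obtain ⟨g, hg⟩ := Cfsg.Agent.Lib.H83RNInvConj.exists_conj_le_inertia K p P θ χ hcon
      (hreal χ hχr)
    refine ⟨g, fun u hu => ?_⟩
    have h1 : aX (g⁻¹ * u * g) θ = θ := (hXfix _ θ).mpr (hg u hu)
    have h2 : aX u (aX g θ) = aX g (aX (g⁻¹ * u * g) θ) := by
      rw [← Equiv.Perm.mul_apply, ← Equiv.Perm.mul_apply, ← map_mul, ← map_mul]
      congr 2
      group
    rw [h2, h1]
  have key := Cfsg.Agent.Lib.H83RNCountR.countR p P aX aY RI RC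
    (fun g θ h => RI_permHom _ h) (fun g C h => RC_clHom _ h) ha hb hc
  obtain ⟨g, hg⟩ := key (ConjClasses.mk ⟨x, hxK⟩) ((RC_mk _).mpr hxr)
  have hinv : InvC φT (aY g (ConjClasses.mk ⟨x, hxK⟩)) :=
    (invC_iff _ _).mpr (fun u => hg u u.2)
  obtain ⟨c, hc'⟩ := exists_fixed_in_class p P.2 (isFix_fixSub φT) hp hinv
  refine ⟨((c : K) : Γ), ?_, ?_⟩
  · have h1 : IsConj ((fixSub φT).subtype c) (φ g ⟨x, hxK⟩) :=
      ConjClasses.mk_eq_mk_iff_isConj.mp hc'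
    have h2 := K.subtype.map_isConj h1
    have h3 : K.subtype (φ g ⟨x, hxK⟩) = g * x * g⁻¹ := hφ g ⟨x, hxK⟩
    rw [h3] at h2
    have h4 : IsConj x (g * x * g⁻¹) := isConj_iff.mpr ⟨g, rfl⟩
    exact h4.trans h2.symm
  · intro u hu
    have h1 := c.2 ⟨u, hu⟩
    have h2 : ((φT ⟨u, hu⟩ (c : K) : K) : Γ) = u * ((c : K) : Γ) * u⁻¹ := hφ u c
    rw [h1] at h2
    calc u * ((c : K) : Γ) = u * ((c : K) : Γ) * u⁻¹ * u := by group
      _ = ((c : K) : Γ) * u := by rw [← h2]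

end Cfsg.Agent.Lib.H83RNCore
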