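import Mathlib
import Cfsg.Prelude.Def_Blocks
import Cfsg.Agent.Lib.H83RNCore
import Cfsg.Agent.Lib.H83RNRedA
import Cfsg.Agent.Lib.H83RNRedQ
import Cfsg.Agent.Lib.H83RNRedL

set_option autoImplicit false

/-!
# Project 4864 (RN), final assembly
-/

namespace Cfsg.Agent.Lib.H83RNMain

theorem main {G : Type*} [Group G] [Finite G] (p : ℕ) [Fact p.Prime]
    (hsolv : Group.IsSolvable ↥(Subgroup.closure {g : G | ∃ k : ℕ, orderOf g = p ^ k}))
    (hreal : ∀ χ : Cfsg.IrrCharacter G, (∀ g : G, ((χ : G → ℂ) g).im = 0) →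
      ¬ p ∣ Cfsg.charDegree (χ : G → ℂ))
    (P : Sylow p G) (x : G) (hx : IsConj x x⁻¹) :
    ∃ y ∈ Subgroup.normalizer ((P : Subgroup G) : Set G), IsConj x y := by
  obtain ⟨Q, K, hQn, hKn, hQK, hQ, hidx, hodd⟩ := Cfsg.Agent.Lib.H83RNRedA.redA p hsolv hreal
  have hsurj : Function.Surjective (QuotientGroup.mk' Q) := QuotientGroup.mk'_surjective Q
  have hKn' : (K.map (QuotientGroup.mk' Q)).Normal := hKn.map _ hsurj
  have h1 : ¬ p ∣ Nat.card (K.map (QuotientGroup.mk' Q)) := by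
    rw [Cfsg.Agent.Lib.H83RNRedQ.card_map Q K hQK]
    exact hidx
  have h2 : Odd (K.map (QuotientGroup.mk' Q)).index := by
    rw [Cfsg.Agent.Lib.H83RNRedQ.index_map Q K hQK]
    exact hodd
  have hx' : IsConj (x : G ⧸ Q) (x : G ⧸ Q)⁻¹ := by
    have := (QuotientGroup.mk' Q).map_isConj hx
    simpa using this
  obtain ⟨y', hy1, hy2⟩ := Cfsg.Agent.Lib.H83RNCore.core (K.map (QuotientGroup.mk' Q)) p h1 h2
    (Cfsg.Agent.Lib.H83RNRedQ.real_quot p Q hreal) (P.mapSurjective hsurj) (x : G ⧸ Q) hx'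
  refine Cfsg.Agent.Lib.H83RNRedL.lift p Q hQ P x y' hy1 ?_
  intro u hu
  apply hy2
  have : (QuotientGroup.mk' Q) u ∈ (P : Subgroup G).map (QuotientGroup.mk' Q) :=
    Subgroup.mem_map_of_mem _ hu
  rw [← Sylow.coe_mapSurjective hsurj] at this
  exact this

end Cfsg.Agent.Lib.H83RNMain
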