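import Cfsg.Agent.Lib.H85SLDefs

set_option autoImplicit false

namespace Cfsg.Agent.Lib.H85SLLrd

open Matrix Cfsg Cfsg.Agent.Lib.Helper85LRDefs Cfsg.Agent.Lib.H85SLDefs

variable (k : Type*) [Field k] (n : ℕ)

section aux

variable {k n}

/-- the endomorphism `v ↦ φ(v) p`. -/
def R1 (p φ : V k n) : Module.End k (V k n) where
  toFun v := (φ ⬝ᵥ v) • p
  map_add' v w := by rw [dotProduct_add, add_smul]
  map_smul' c v := by rw [dotProduct_smul, RingHom.id_apply, smul_eq_mul, mul_smul]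

theorem R1_apply (p φ v : V k n) : R1 p φ v = (φ ⬝ᵥ v) • p := rfl

theorem eq_R1 {X : Module.End k (V k n)} {p φ : V k n} (h : ∀ v, X v = (φ ⬝ᵥ v) • p) : X = R1 p φ :=
  LinearMap.ext h

theorem R1_mem {p φ : V k n} (hp : p ≠ 0) (hφ : φ ≠ 0) (h : φ ⬝ᵥ p = 0) : R1 p φ ∈ XX k n :=
  ⟨p, φ, hp, hφ, h, fun _ => rfl⟩

theorem R1_mul (p φ r ψ : V k n) : R1 p φ * R1 r ψ = (φ ⬝ᵥ r) • R1 p ψ := by
  apply LinearMap.ext
  intro v
  rw [Module.End.mul_apply, LinearMap.smul_apply, R1_apply, R1_apply, R1_apply, dotProduct_smul,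
    smul_eq_mul, mul_comm, mul_smul]

theorem smul_R1 (c : k) (p φ : V k n) : c • R1 p φ = R1 p (c • φ) := by
  apply LinearMap.ext
  intro v
  rw [LinearMap.smul_apply, R1_apply, R1_apply, smul_dotProduct, smul_eq_mul, mul_smul]

theorem R1_ne_zero {p φ : V k n} (hp : p ≠ 0) (hφ : φ ≠ 0) : R1 p φ ≠ 0 := by
  intro h
  obtain ⟨i, hi⟩ : ∃ i, φ i ≠ 0 := by
    by_contra hcon
    push Not at hcon
    exact hφ (funext hcon)
  have h1 := LinearMap.congr_fun h (Pi.single i 1)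
  rw [R1_apply, dotProduct_single, mul_one, LinearMap.zero_apply] at h1
  rcases smul_eq_zero.mp h1 with h2 | h2
  · exact hi h2
  · exact hp h2

theorem tyC_of {p φ r ψ : V k n} (ha : φ ⬝ᵥ r = 0) (hb : ψ ⬝ᵥ p = 0) : TyC (R1 p φ) (R1 r ψ) := by
  unfold TyC
  rw [R1_mul, R1_mul, ha, hb, zero_smul, zero_smul]

theorem tyR_of {p φ r ψ : V k n} (ha : φ ⬝ᵥ r ≠ 0) (hb : ψ ⬝ᵥ p ≠ 0) : TyR (R1 p φ) (R1 r ψ) := by
  refine ⟨(φ ⬝ᵥ r) * (ψ ⬝ᵥ p), mul_ne_zero ha hb, ?_, ?_⟩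
  · rw [R1_mul, smul_mul_assoc, R1_mul, smul_smul]
  · rw [R1_mul, smul_mul_assoc, R1_mul, smul_smul, mul_comm]

theorem tyK_of {p φ r ψ : V k n} (hp : p ≠ 0) (hψ : ψ ≠ 0) (ha : φ ⬝ᵥ r ≠ 0) (hb : ψ ⬝ᵥ p = 0) :
    TyK (XX k n) (R1 p φ) (R1 r ψ) := by
  refine ⟨?_, ?_, ?_⟩
  · rw [R1_mul, smul_mul_assoc, R1_mul, hb, zero_smul, smul_zero]
  · rw [R1_mul, hb, zero_smul, zero_mul]
  · rw [R1_mul, R1_mul, hb, zero_smul, sub_zero, smul_R1]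
    apply R1_mem hp (smul_ne_zero ha hψ)
    rw [smul_dotProduct, hb, smul_zero]

theorem tyK_of' {p φ r ψ : V k n} (hr : r ≠ 0) (hφ : φ ≠ 0) (ha : φ ⬝ᵥ r = 0) (hb : ψ ⬝ᵥ p ≠ 0) :
    TyK (XX k n) (R1 p φ) (R1 r ψ) := by
  refine ⟨?_, ?_, ?_⟩
  · rw [R1_mul, ha, zero_smul, zero_mul]
  · rw [R1_mul, smul_mul_assoc, R1_mul, ha, zero_smul, smul_zero]
  · have hneg : -((ψ ⬝ᵥ p) • R1 r φ) = (-(ψ ⬝ᵥ p)) • R1 r φ := by
      apply LinearMap.ext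
      intro v
      simp
    rw [R1_mul, R1_mul, ha, zero_smul, zero_sub, hneg, smul_R1]
    apply R1_mem hr (smul_ne_zero (neg_ne_zero.mpr hb) hφ)
    rw [smul_dotProduct, ha, smul_zero]

/-- coordinate vectors -/
abbrev ee (i : Fin (n + 3)) : V k n := Pi.single i (1 : k)

theorem ee_ne_zero (i : Fin (n + 3)) : (ee i : V k n) ≠ 0 := by
  intro h
  have := congrFun h i
  simp at this

theorem ee_dot (i j : Fin (n + 3)) : (ee i : V k n) ⬝ᵥ ee j = if j = i then 1 else 0 := by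
  rw [single_dotProduct, one_mul]
  show (Pi.single j (1 : k) : V k n) i = _
  rw [Pi.single_apply]
  by_cases h : i = j
  · rw [if_pos h, if_pos h.symm]
  · rw [if_neg h, if_neg (Ne.symm h)]

theorem f01 : (0 : Fin (n + 3)) ≠ 1 := by
  intro h
  have := congrArg Fin.val h
  simp at this

theorem f02 : (0 : Fin (n + 3)) ≠ 2 := by
  intro h
  have := congrArg Fin.val h
  simp at this
  rw [Nat.mod_eq_of_lt (by omega)] at this
  omega

theorem f12 : (1 : Fin (n + 3)) ≠ 2 := by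
  intro h
  have := congrArg Fin.val h
  simp at this
  rw [Nat.mod_eq_of_lt (by omega)] at this
  omega

theorem X01_eq : X01 k n = R1 (ee 0) (ee 1) := by
  apply LinearMap.ext
  intro v
  rw [X01_apply, R1_apply, single_dotProduct, one_mul]

theorem E_mem {i j : Fin (n + 3)} (h : i ≠ j) : R1 (ee i : V k n) (ee j) ∈ XX k n :=
  R1_mem (ee_ne_zero i) (ee_ne_zero j) (by rw [ee_dot, if_neg h])

end aux

/-- PIECE SL.Lrd.  X = φ(.)p, Y = ψ(.)r:  X Y = φ(r) ψ(.) p,  Y X = ψ(p) φ(.) r.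
φ(r) = 0 = ψ(p): TyC (both products 0).  Both ≠ 0: TyR with c = φ(r) ψ(p).  Exactly one ≠ 0, say φ(r) ≠ 0 = ψ(p):
X Y X = 0 = Y X Y and X Y - Y X = (φ(r) ψ)(.) p ∈ XX since ψ(p) = 0. -/
theorem lrd : LRD (XX k n) := by
  refine ⟨?_, ?_, ?_, ?_⟩
  · rintro X ⟨p, φ, hp, hφ, h, hX⟩
    rw [eq_R1 hX, R1_mul, h, zero_smul]
  · rintro X ⟨p, φ, hp, hφ, h, hX⟩
    rw [eq_R1 hX]
    exact R1_ne_zero hp hφ
  · rintro X ⟨p, φ, hp, hφ, h, hX⟩ c hc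
    rw [eq_R1 hX, smul_R1]
    apply R1_mem hp (smul_ne_zero hc hφ)
    rw [smul_dotProduct, h, smul_zero]
  · rintro X ⟨p, φ, hp, hφ, h, hX⟩ Y ⟨r, ψ, hr, hψ, h', hY⟩
    rw [eq_R1 hX, eq_R1 hY]
    by_cases ha : φ ⬝ᵥ r = 0
    · by_cases hb : ψ ⬝ᵥ p = 0
      · exact Or.inl (tyC_of ha hb)
      · exact Or.inr (Or.inr (tyK_of' hr hφ ha hb))
    · by_cases hb : ψ ⬝ᵥ p = 0
      · exact Or.inr (Or.inr (tyK_of hp hψ ha hb))
      · exact Or.inr (Or.inl (tyR_of ha hb))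

theorem X01_mem : X01 k n ∈ XX k n := by
  rw [X01_eq]
  exact E_mem f01

/-- witnesses (use the coordinate vectors e₀, e₁, e₂; `Fin (n+3)` has the three distinct elements 0, 1, 2):
E₀₁ and E₀₂ commute and are not proportional; E₀₁, E₁₀ are of type R; E₀₁, E₁₂ of type K. -/
theorem witC : ∃ X ∈ XX k n, ∃ Y ∈ XX k n, TyC X Y ∧ ∀ c : k, Y ≠ c • X := by
  refine ⟨R1 (ee 0) (ee 1), E_mem f01, R1 (ee 0) (ee 2), E_mem f02, ?_, ?_⟩
  · exact tyC_of (by rw [ee_dot, if_neg f01]) (by rw [ee_dot, if_neg f02])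
  · intro c h
    have h1 := LinearMap.congr_fun h (ee 2)
    rw [LinearMap.smul_apply, R1_apply, R1_apply, ee_dot, ee_dot, if_pos rfl, if_neg f12.symm,
      zero_smul, smul_zero, one_smul] at h1
    exact ee_ne_zero 0 h1

theorem witR : ∃ X ∈ XX k n, ∃ Y ∈ XX k n, TyR X Y := by
  refine ⟨R1 (ee 0) (ee 1), E_mem f01, R1 (ee 1) (ee 0), E_mem f01.symm, ?_⟩
  exact tyR_of (by rw [ee_dot, if_pos rfl]; exact one_ne_zero)
    (by rw [ee_dot, if_pos rfl]; exact one_ne_zero)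

theorem witK : ∃ X ∈ XX k n, ∃ Y ∈ XX k n, TyK (XX k n) X Y := by
  refine ⟨R1 (ee 0) (ee 1), E_mem f01, R1 (ee 1) (ee 2), E_mem f12, ?_⟩
  exact tyK_of (ee_ne_zero 0) (ee_ne_zero 2) (by rw [ee_dot, if_pos rfl]; exact one_ne_zero)
    (by rw [ee_dot, if_neg f02])

end Cfsg.Agent.Lib.H85SLLrd
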