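import Cfsg.Agent.Lib.H85SLDefs
import Cfsg.Agent.Lib.H12RSLMove

set_option autoImplicit false

namespace Cfsg.Agent.Lib.H85SLTrans

open Matrix Cfsg Cfsg.Agent.Lib.Helper85LRDefs Cfsg.Agent.Lib.H85SLDefs

variable (k : Type*) [Field k] (n : ℕ)

/-- PIECE SL.Trans (the longest SL piece).  Given p ≠ 0, φ ≠ 0 with φ(p) = 0 find g ∈ SL_{n+3}(k) with g e₀ = p and
φ(g v) = v 1 for all v (then g E₀₁ g⁻¹ = φ(.) p).  Here: from `H12RSLMove.exists_move` (project 12). -/
theorem trans : ∀ X ∈ XX k n, ∃ g : SLn k n,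
    X = ((rho k n g : LinearMap.GeneralLinearGroup k (V k n)) : Module.End k (V k n)) * X01 k n *
      ((rho k n g⁻¹ : LinearMap.GeneralLinearGroup k (V k n)) : Module.End k (V k n)) := by
  rintro X ⟨p, φ, hp, hφ, hφp, hX⟩
  have h01 : (0 : Fin (n + 3)) ≠ 1 := by
    intro h
    have := congrArg Fin.val h
    simp at this
  have hinc : Cfsg.Agent.Lib.H12RSLDefs.Inc (Pi.single (0 : Fin (n + 3)) (1 : k))
      (Pi.single (1 : Fin (n + 3)) (1 : k)) := by
    refine ⟨?_, ?_, ?_⟩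
    · intro h
      have := congrFun h 0
      simp at this
    · intro h
      have := congrFun h 1
      simp at this
    · rw [single_dotProduct, one_mul, Pi.single_eq_of_ne h01.symm]
  obtain ⟨g, hg1, hg2⟩ := Cfsg.Agent.Lib.H12RSLMove.exists_move (by omega) hinc
    (⟨hp, hφ, hφp⟩ : Cfsg.Agent.Lib.H12RSLDefs.Inc p φ)
  refine ⟨g, ?_⟩
  apply LinearMap.ext
  intro v
  rw [Module.End.mul_apply, Module.End.mul_apply, rho_apply, rho_apply, X01_apply, hX,
    Matrix.mulVec_smul, hg1, ← hg2, ← Matrix.dotProduct_mulVec, single_dotProduct, one_mul]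

end Cfsg.Agent.Lib.H85SLTrans
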