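import Mathlib
import Cfsg.Agent.Lib.Helper87ZJ

set_option autoImplicit false
set_option linter.unusedSectionVars false
set_option linter.unusedVariables false

namespace Cfsg.Agent.Lib.Helper87ConSub

open Cfsg Cfsg.FusionSystem Cfsg.Agent.Lib.Helper87Fusion Cfsg.Agent.Lib.Helper87Fusion2
  Cfsg.Agent.Lib.Helper87Fusion3 Cfsg.Agent.Lib.Helper87Realized Cfsg.Agent.Lib.Helper86Fusion
  Cfsg.Agent.Lib.Helper86Sub Cfsg.Agent.Lib.Helper86Group Cfsg.Agent.Lib.Helper86Fusion3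

universe u

/-- an element stabilizing the chain `O_p(L) ≥ R ≥ 1` lies in `O_p(L)`. -/
theorem mem_pCore_of_stab {L : Type*} [Group L] [Finite L] {p : ℕ} [Fact p.Prime]
    (hc : Subgroup.centralizer ((pCore p L : Subgroup L) : Set L) ≤ pCore p L)
    {R : Subgroup L} (hRn : R.Normal) (hRQ : R ≤ pCore p L) {d : L}
    (h1 : ∀ x ∈ pCore p L, x⁻¹ * (d * x * d⁻¹) ∈ R) (h2 : ∀ x ∈ R, d * x * d⁻¹ = x) :
    d ∈ pCore p L := by
  have hQn : (pCore p L).Normal := Cfsg.Agent.Lib.Helper87Fusion3.pCore_normal p L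
  let C : Subgroup L :=
    { carrier := {g | (∀ x ∈ pCore p L, x⁻¹ * (g * x * g⁻¹) ∈ R) ∧ ∀ x ∈ R, g * x * g⁻¹ = x}
      one_mem' := ⟨fun x _ => by simp [R.one_mem], fun x _ => by simp⟩
      mul_mem' := by
        rintro g h ⟨hg1, hg2⟩ ⟨hh1, hh2⟩
        refine ⟨fun x hx => ?_, fun x hx => ?_⟩
        · have hy : h * x * h⁻¹ ∈ pCore p L := hQn.conj_mem x hx h
          have e : x⁻¹ * (g * h * x * (g * h)⁻¹) =
              (x⁻¹ * (h * x * h⁻¹)) * ((h * x * h⁻¹)⁻¹ * (g * (h * x * h⁻¹) * g⁻¹)) := by group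
          rw [e]
          exact R.mul_mem (hh1 x hx) (hg1 _ hy)
        · have e : g * h * x * (g * h)⁻¹ = g * (h * x * h⁻¹) * g⁻¹ := by group
          rw [e, hh2 x hx, hg2 x hx]
      inv_mem' := by
        rintro g ⟨hg1, hg2⟩
        refine ⟨fun x hx => ?_, fun x hx => ?_⟩
        · have hy : g⁻¹ * x * g⁻¹⁻¹ ∈ pCore p L := hQn.conj_mem x hx g⁻¹
          have := R.inv_mem (hg1 _ hy)
          have e : ((g⁻¹ * x * g⁻¹⁻¹)⁻¹ * (g * (g⁻¹ * x * g⁻¹⁻¹) * g⁻¹))⁻¹ =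
              x⁻¹ * (g⁻¹ * x * g⁻¹⁻¹) := by group
          rwa [e] at this
        · have := hg2 x hx
          calc g⁻¹ * x * g⁻¹⁻¹ = g⁻¹ * (g * x * g⁻¹) * g := by rw [this]; simp
            _ = x := by group }
  have hCn : C.Normal := by
    constructor
    rintro g ⟨hg1, hg2⟩ n
    refine ⟨fun x hx => ?_, fun x hx => ?_⟩
    · have hy : n⁻¹ * x * n⁻¹⁻¹ ∈ pCore p L := hQn.conj_mem x hx n⁻¹
      have := hRn.conj_mem _ (hg1 _ hy) n
      have e : n * ((n⁻¹ * x * n⁻¹⁻¹)⁻¹ * (g * (n⁻¹ * x * n⁻¹⁻¹) * g⁻¹)) * n⁻¹ =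
          x⁻¹ * (n * g * n⁻¹ * x * (n * g * n⁻¹)⁻¹) := by group
      rwa [e] at this
    · have hy : n⁻¹ * x * n⁻¹⁻¹ ∈ R := hRn.conj_mem x hx n⁻¹
      have := hg2 _ hy
      calc n * g * n⁻¹ * x * (n * g * n⁻¹)⁻¹ = n * (g * (n⁻¹ * x * n⁻¹⁻¹) * g⁻¹) * n⁻¹ := by group
        _ = x := by rw [this]; group
  have hQp : IsPGroup p (pCore p L) := Cfsg.Agent.Lib.Helper87Fusion3.pCore_isPGroup p L
  have hCp : IsPGroup p C := by
    rintro ⟨g, hg1, hg2⟩
    have hpow : ∀ n : ℕ, ∀ x ∈ pCore p L,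
        g ^ n * x * (g ^ n)⁻¹ = x * (x⁻¹ * (g * x * g⁻¹)) ^ n := by
      intro n
      induction n with
      | zero => intro x _; simp
      | succ n ih =>
        intro x hx
        have hz := R.pow_mem (hg1 x hx) n
        have e : g ^ (n + 1) * x * (g ^ (n + 1))⁻¹ = g * (g ^ n * x * (g ^ n)⁻¹) * g⁻¹ := by
          rw [pow_succ']; group
        rw [e, ih x hx]
        have e2 : g * (x * (x⁻¹ * (g * x * g⁻¹)) ^ n) * g⁻¹ =
            (g * x * g⁻¹) * (g * (x⁻¹ * (g * x * g⁻¹)) ^ n * g⁻¹) := by group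
        rw [e2, hg2 _ hz, pow_succ']
        generalize (x⁻¹ * (g * x * g⁻¹)) ^ n = w
        group
    obtain ⟨a, ha⟩ := IsPGroup.iff_card.1 (hQp.to_le hRQ)
    have hcen : g ^ (p ^ a) ∈ pCore p L := by
      apply hc
      rw [Subgroup.mem_centralizer_iff]
      intro x hx
      have h3 := hpow (p ^ a) x hx
      have h4 : (x⁻¹ * (g * x * g⁻¹)) ^ (p ^ a) = 1 := by
        have := pow_card_eq_one' (G := R) (x := ⟨_, hg1 x hx⟩)
        rw [ha] at this
        exact congrArg Subtype.val this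
      rw [h4, mul_one] at h3
      calc x * g ^ (p ^ a) = (g ^ (p ^ a) * x * (g ^ (p ^ a))⁻¹) * g ^ (p ^ a) := by rw [h3]
        _ = g ^ (p ^ a) * x := by group
    obtain ⟨k, hk⟩ := hQp ⟨_, hcen⟩
    refine ⟨a + k, Subtype.ext ?_⟩
    have := congrArg Subtype.val hk
    simp only [Subgroup.coe_pow, Subgroup.coe_one] at this ⊢
    rw [pow_add, pow_mul]
    exact this
  exact Cfsg.Agent.Lib.Helper87Fusion3.le_pCore hCn hCp (show d ∈ C from ⟨h1, h2⟩)

variable {Ω : Type u} [Group Ω] {S : Subgroup Ω}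

theorem isMap_of_subsystem {T : Subgroup Ω} {E : FusionSystem T} {F : FusionSystem S}
    (h : E.IsSubsystemOf F) {P : Subgroup Ω} {f : Ω → Ω} (hf : IsMap E P f) : IsMap F P f := by
  obtain ⟨φ, hφ, hφf⟩ := hf
  exact ⟨φ, h P hφ, hφf⟩

/-- a variant of `normal_le_centric_radical` where the extensions live in a bigger system. -/
theorem le_centric_radical_of_ext {p : ℕ} [Fact p.Prime] {T : Subgroup Ω} [Finite T]
    (hT : IsPGroup p T) (E : FusionSystem T) {F : FusionSystem S} {R P : Subgroup Ω} (hRT : R ≤ T)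
    (hc : E.IsCentric P) (hr : E.IsRadical p P)
    (hext : ∀ f, IsMap E P f → f '' (P : Set Ω) = (P : Set Ω) →
      ∃ f', IsMap F (P ⊔ R) f' ∧ (∀ x ∈ P, f' x = f x) ∧ ∀ x ∈ R, f' x ∈ R) : R ≤ P := by
  have hPT := hc.1
  have hPRT : P ⊔ R ≤ T := sup_le hPT hRT
  have : Finite P := finite_of_le hPT
  have : Finite (P ⊔ R : Subgroup Ω) := finite_of_le hPRT
  have hcen : centralizerIn T P ≤ P := hc.2 P (isConj_refl E hPT)
  have hBA : autInducedBy (P ⊔ R) P ≤ E.autGroup P :=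
    (autInducedBy_mono hPRT P).trans (autInducedBy_le_autGroup E hPT)
  have hBn : ((autInducedBy (P ⊔ R) P).subgroupOf (E.autGroup P)).Normal := by
    constructor
    intro b hb α
    rw [Subgroup.mem_subgroupOf] at hb ⊢
    obtain ⟨g, hg, hgb⟩ := (mem_autInducedBy_iff _ _ _).1 hb
    have ha : IsMap E P (totA (α : MulAut P)) := (mem_autGroup_iff_totA E hPT _).1 α.2
    obtain ⟨f', h1, h2, h3⟩ := hext _ ha (totA_image _)
    have hf'α : ∀ y : P, f' y = (((α : MulAut P) y : P) : Ω) := fun y => by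
      rw [h2 y y.2, totA_apply]
    rw [mem_autInducedBy_iff]
    refine ⟨f' g, map_sup_mem h1 (fun x hx => Subgroup.mem_sup_left (by
      rw [hf'α ⟨x, hx⟩]; exact ((α : MulAut P) ⟨x, hx⟩).2))
      (fun x hx => Subgroup.mem_sup_right (h3 x hx)) g hg, fun y => ?_⟩
    show (((α : MulAut P) ((b : MulAut P) ((α : MulAut P)⁻¹ y)) : P) : Ω) = _
    rw [← hf'α, hgb, h1.map_conj hg (Subgroup.mem_sup_left ((α : MulAut P)⁻¹ y).2), hf'α,
      MulAut.apply_inv_self]
  have hBp : IsPGroup p ((autInducedBy (P ⊔ R) P).subgroupOf (E.autGroup P)) :=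
    (autInducedBy_isPGroup (hT.to_le hPRT) P).comap_subtype
  have hBI : autInducedBy (P ⊔ R) P ≤ Inn P := by
    rw [← hr.2]
    intro b hb
    exact ⟨⟨b, hBA hb⟩, Cfsg.Agent.Lib.Helper87Fusion3.le_pCore hBn hBp
      (by rw [Subgroup.mem_subgroupOf]; exact hb), rfl⟩
  by_contra hRP
  have hlt : P < P ⊔ R := lt_of_le_of_ne le_sup_left (fun h => hRP (sup_eq_left.1 h.symm))
  obtain ⟨g, hg, hgN, hgP⟩ := exists_mem_normalizer_not_mem (P ⊔ R) P (hT.to_le hPRT) hlt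
  obtain ⟨r, hr', hgr⟩ := exists_conjAut hg hgN
  exact conjAut_not_mem_inn hcen (hPRT hg) hgP hPT hgr (hBI hr')

/-- **A saturated subsystem of a constrained system over a strongly closed subgroup is
constrained.** -/
theorem constrained_of_sub [Finite S] {p : ℕ} [Fact p.Prime] (hS : IsPGroup p S)
    {F : FusionSystem S} (hF : F.IsConstrained p) {T : Subgroup Ω} {E : FusionSystem T}
    (hE : E.IsSaturated p) (hEF : E.IsSubsystemOf F) (hT : F.StronglyClosed T) :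
    E.IsConstrained p := by
  obtain ⟨L, _, ι, hM⟩ := Cfsg.Agent.S5090.result p hS F hF
  obtain ⟨hfinL, hι, ⟨TL, hTL⟩, hcL⟩ := id hM
  have hTS := hT.1
  have hfinT : Finite T := finite_of_le hTS
  have hTp : IsPGroup p T := hS.to_le hTS
  have hQhat : hat ι (pull ι (pCore p L)) = pCore p L :=
    hat_pull (Cfsg.Agent.Lib.Helper87Model.pCore_le_range hM)
  have hcoreN : (pCore p L).Normal := Cfsg.Agent.Lib.Helper87Fusion3.pCore_normal p L
  have hQS : pull ι (pCore p L) ≤ S := pull_le _ _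
  have hQn : F.IsNormal (pull ι (pCore p L)) :=
    Cfsg.Agent.Lib.Helper87ZJ.isNormal_of_hat_normal hι hQS (by rw [hQhat]; exact hcoreN)
  have hQsc := normal_stronglyClosed hQn
  generalize hQdef : pull ι (pCore p L) = Q at *
  have hRS : Q ⊓ T ≤ S := inf_le_left.trans hQS
  have hRT : Q ⊓ T ≤ T := inf_le_right
  -- `R̂` is normal in `L`
  have hRhat : (hat ι (Q ⊓ T)).Normal := by
    constructor
    intro y hy g
    obtain ⟨x, hx, hxS, rfl⟩ := mem_hat.1 hy
    have hr : ∀ w ∈ Q, g * iot ι w * g⁻¹ ∈ pCore p L := by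
      intro w hw
      apply hcoreN.conj_mem
      rw [← hQhat]
      exact iot_mem_hat hQS hw
    have hr' : ∀ w ∈ Q, g * iot ι w * g⁻¹ ∈ ι.range :=
      fun w hw => Cfsg.Agent.Lib.Helper87Model.pCore_le_range hM (hr w hw)
    have hf : IsMap F Q (fun w => kap ι (g * iot ι w * g⁻¹)) :=
      (isMap_realized_iff hι).2 ⟨hQS, fun w hw => (kap_spec ι (hr' w hw)).1, g,
        fun w hw => (kap_spec ι (hr' w hw)).2⟩
    have h1 := StronglyClosed_mem hT hf hx.1 hx.2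
    have h2 := StronglyClosed_mem hQsc hf hx.1 hx.1
    rw [← (kap_spec ι (hr' x hx.1)).2]
    exact iot_mem_hat hRS ⟨h2, h1⟩
  -- `R` is strongly closed in `E`
  have hRsc : E.StronglyClosed (Q ⊓ T) := by
    rw [stronglyClosed_iff]
    refine ⟨hRT, fun A f hA hf x hx => ⟨?_, hf.mem hx⟩⟩
    exact StronglyClosed_mem hQsc (isMap_of_subsystem hEF hf) hx (hA hx).1
  have hRn : E.IsNormal (Q ⊓ T) := by
    refine (normal_iff_stronglyClosed_le hTp E hE _).2 ⟨hRsc, fun P hc hr => ?_⟩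
    refine le_centric_radical_of_ext (F := F) hTp E hRT hc hr (fun f hf _ => ?_)
    obtain ⟨f', h1, h2, h3⟩ := (isNormal_iff.1 hQn).2 P f (isMap_of_subsystem hEF hf)
    refine ⟨f', h1.restrict (sup_le_sup_left inf_le_left P), h2, fun x hx => ⟨?_, ?_⟩⟩
    · exact IsMap.mem_image h3 hx.1
    · exact StronglyClosed_mem hT h1 (Subgroup.mem_sup_right hx.1) hx.2
  have hcen : centralizerIn T (Q ⊓ T) ≤ Q ⊓ T := by
    intro d hd
    obtain ⟨hdT, hdc⟩ := mem_centralizerIn.1 hd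
    have hdS := hTS hdT
    refine ⟨?_, hdT⟩
    have : iot ι d ∈ pCore p L := by
      refine mem_pCore_of_stab hcL hRhat (by rw [← hQhat]; exact hat_mono inf_le_left) ?_ ?_
      · intro y hy
        rw [← hQhat] at hy
        obtain ⟨x, hx, hxS, rfl⟩ := mem_hat.1 hy
        have h1 : d * x * d⁻¹ ∈ Q := StronglyClosed_conj_mem hQsc hdS hx
        have h2 : x⁻¹ * d * x⁻¹⁻¹ ∈ T := StronglyClosed_conj_mem hT (S.inv_mem hxS) hdT
        have h3 : x⁻¹ * (d * x * d⁻¹) ∈ Q ⊓ T := by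
          refine ⟨Q.mul_mem (Q.inv_mem hx) h1, ?_⟩
          have := T.mul_mem h2 (T.inv_mem hdT)
          have e : x⁻¹ * d * x⁻¹⁻¹ * d⁻¹ = x⁻¹ * (d * x * d⁻¹) := by group
          rwa [e] at this
        have e : (iot ι x)⁻¹ * (iot ι d * iot ι x * (iot ι d)⁻¹) = iot ι (x⁻¹ * (d * x * d⁻¹)) := by
          rw [iot_mul ι (S.inv_mem hxS) (hQS h1), iot_inv ι hxS, iot_conj ι hdS hxS]
        rw [e]
        exact iot_mem_hat hRS h3
      · intro y hy
        obtain ⟨x, hx, hxS, rfl⟩ := mem_hat.1 hy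
        rw [← iot_conj ι hdS hxS]
        congr 1
        rw [← hdc x hx]; group
    rw [← hQdef]
    exact mem_pull.2 ⟨hdS, this⟩
  obtain ⟨-, h₁, h₂⟩ := Cfsg.Agent.Lib.Helper86Fusion2.saturated_fullyNormalized hTp hE
    (Cfsg.Agent.Lib.Helper87Split.fullyNormalized_of_stronglyClosed hRsc)
  exact ⟨hE, Q ⊓ T, hRn, centric_of_centralizerIn_le hTp E _ h₁ h₂ hcen⟩

theorem constrained_of_subnormal {T : Subgroup Ω} {E : FusionSystem T} {F : FusionSystem S} {p : ℕ}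
    (h : E.IsSubnormalIn F p) : ∀ [Fact p.Prime] [Finite S], IsPGroup p S → F.IsConstrained p →
      E.IsConstrained p := by
  induction h with
  | refl F p => intro _ _ _ h; exact h
  | step h1 h2 ih =>
    intro _ _ hS hF
    have hU := h2.1.2.2.2.1
    have : Finite _ := finite_of_le hU.1
    exact ih (hS.to_le hU.1) (constrained_of_sub hS hF h2.1.1 h2.1.2.2.1 hU)

end Cfsg.Agent.Lib.Helper87ConSub
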