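import Mathlib
import Cfsg.Agent.Lib.Helper87ConSub

set_option autoImplicit false
set_option linter.unusedSectionVars false
set_option linter.unusedVariables false

namespace Cfsg.Agent.Lib.Helper87ConFac

open Cfsg Cfsg.FusionSystem Cfsg.Agent.Lib.Helper87Fusion Cfsg.Agent.Lib.Helper87Fusion2
  Cfsg.Agent.Lib.Helper87Fusion3 Cfsg.Agent.Lib.Helper87Realized Cfsg.Agent.Lib.Helper86Fusion
  Cfsg.Agent.Lib.Helper86Sub Cfsg.Agent.Lib.Helper86Fusion3 Cfsg.Agent.Lib.Helper88Factor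
  Cfsg.Agent.Lib.Helper88Quot Cfsg.Agent.Lib.Helper88QuotSat Cfsg.Agent.Lib.Helper87ConSub

universe u

/-- a system realized on a Sylow subgroup, with a normal `p`-subgroup of the group containing its
centralizer in `S`, is constrained. -/
theorem constrained_of_realized {Ω G : Type*} [Group Ω] [Group G] [Finite G] {S : Subgroup Ω}
    [Finite S] {p : ℕ} [Fact p.Prime] {F : FusionSystem S} {ι : S →* G} (hι : F.IsRealizedBy ι)
    (T : Sylow p G) (hT : (T : Subgroup G) = ι.range) {R : Subgroup Ω} (hR : R ≤ S)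
    (hRn : (hat ι R).Normal) (hRc : centralizerIn S R ≤ R) : F.IsConstrained p := by
  have hF : F.IsSaturated p := saturated_of_realized hι T hT
  have hS : IsPGroup p S := by
    have h1 : IsPGroup p ι.range := hT ▸ T.isPGroup'
    exact h1.of_injective ι.rangeRestrict (by
      intro a b hab
      exact hι.1 (congrArg Subtype.val hab))
  have hn := Cfsg.Agent.Lib.Helper87ZJ.isNormal_of_hat_normal hι hR hRn
  obtain ⟨-, h₁, h₂⟩ := Cfsg.Agent.Lib.Helper86Fusion2.saturated_fullyNormalized hS hF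
    (Cfsg.Agent.Lib.Helper87Split.fullyNormalized_of_stronglyClosed (normal_stronglyClosed hn))
  exact ⟨hF, R, hn, centric_of_centralizerIn_le hS F _ h₁ h₂ hRc⟩

theorem isNormal_of_isCentral {Ω : Type*} [Group Ω] {S : Subgroup Ω} {F : FusionSystem S}
    {Z : Subgroup Ω} (hZ : F.IsCentral Z) : F.IsNormal Z := by
  obtain ⟨hZS, h⟩ := isCentral_iff.1 hZ
  refine isNormal_iff.2 ⟨hZS, fun P f hf => ?_⟩
  obtain ⟨f', h1, h2, h3⟩ := h P f hf
  refine ⟨f', h1, h2, ?_⟩
  ext y
  constructor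
  · rintro ⟨x, hx, rfl⟩
    rw [h3 x hx]; exact hx
  · intro hy
    exact ⟨y, hy, h3 y hy⟩

/-- **The factor system of a constrained system by a central subgroup is constrained.**  With
`Z = ⊥` this transports constrainedness along isomorphisms of fusion systems. -/
theorem constrained_factor {Ω : Type u} [Group Ω] {S : Subgroup Ω} [Finite S] {p : ℕ}
    [Fact p.Prime] (hS : IsPGroup p S) {F : FusionSystem S} (hF : F.IsConstrained p)
    {Z : Subgroup Ω} (hZ : F.IsCentral Z) {Ω' : Type*} [Group Ω'] {S' : Subgroup Ω'}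
    {θ : S →* Ω'} {E : FusionSystem S'} (hE : F.IsFactorSystem Z θ E) : E.IsConstrained p := by
  obtain ⟨L, _, j, hM⟩ := Cfsg.Agent.S5090.result p hS F hF
  obtain ⟨hfinL, hj, ⟨TL, hTL⟩, hcL⟩ := id hM
  have hZn := isNormal_of_isCentral hZ
  have hZhat : (hat j Z).Normal := Cfsg.Agent.Lib.Helper87Model.hat_normal hM hZn
  have hq := IsFactorSystem.isQuot hE
  have hfin' : Finite S' := Cfsg.Agent.Lib.Helper87Free3.finite_quot hq
  obtain ⟨ι', hι', hform⟩ := Cfsg.Agent.Lib.Helper87Free3.exists_quot_realization hj hq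
    (fun P' f' => isMap_factor_iff hE)
  have hrange : ι'.range = (j.range).map (QuotientGroup.mk' (hat j Z)) := by
    ext y
    constructor
    · rintro ⟨s', rfl⟩
      obtain ⟨x, hx, hxs⟩ := hq.exists_tt s'.2
      have := hform x hx
      rw [hxs, iot_of_mem ι' s'.2] at this
      rw [show ι' s' = ι' ⟨(s' : Ω'), s'.2⟩ from rfl, this]
      exact ⟨_, iot_mem_range j hx, rfl⟩
    · rintro ⟨_, ⟨s, rfl⟩, rfl⟩
      have := hform s s.2
      rw [iot_of_mem j s.2] at this
      rw [show j s = j ⟨(s : Ω), s.2⟩ from rfl, ← this]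
      exact iot_mem_range ι' (hq.tt_mem s.2)
  have hQhat : hat j (pull j (pCore p L)) = pCore p L :=
    hat_pull (Cfsg.Agent.Lib.Helper87Model.pCore_le_range hM)
  have hQS : pull j (pCore p L) ≤ S := pull_le _ _
  have hcoreN : (pCore p L).Normal := Cfsg.Agent.Lib.Helper87Fusion3.pCore_normal p L
  have hZS := hq.le
  have hZQ : hat j Z ≤ pCore p L :=
    Cfsg.Agent.Lib.Helper87Fusion3.le_pCore hZhat (by
      have h1 : IsPGroup p j.range := hTL ▸ TL.isPGroup'
      exact h1.to_le (hat_le_range j Z))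
  have hR'hat : hat ι' (imageAlong θ (pull j (pCore p L))) =
      (pCore p L).map (QuotientGroup.mk' (hat j Z)) := by
    ext y
    rw [mem_hat]
    constructor
    · rintro ⟨x', hx', hx'S, rfl⟩
      obtain ⟨x, hx, rfl⟩ := exists_of_mem_imageAlong hx'
      rw [hform x (hQS hx)]
      exact ⟨_, (mem_pull.1 hx).2, rfl⟩
    · rintro ⟨w, hw, rfl⟩
      rw [← hQhat] at hw
      obtain ⟨x, hx, hxS, rfl⟩ := mem_hat.1 hw
      exact ⟨tt θ x, tt_mem_image hQS hx, hq.tt_mem hxS, hform x hxS⟩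
  refine constrained_of_realized hι' (TL.mapSurjective (QuotientGroup.mk'_surjective _))
    (by rw [Sylow.coe_mapSurjective, hTL, hrange]) (imageAlong_le hq _)
    (by rw [hR'hat]; exact hcoreN.map _ (QuotientGroup.mk'_surjective _)) ?_
  intro d' hd'
  obtain ⟨hd'S, hd'c⟩ := mem_centralizerIn.1 hd'
  obtain ⟨d, hdS, rfl⟩ := hq.exists_tt hd'S
  apply tt_mem_image hQS
  rw [mem_pull]
  refine ⟨hdS, mem_pCore_of_stab hcL hZhat hZQ ?_ ?_⟩
  · intro y hy
    rw [← hQhat] at hy
    obtain ⟨x, hx, hxS, rfl⟩ := mem_hat.1 hy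
    have hdx : d * x * d⁻¹ ∈ S := S.mul_mem (S.mul_mem hdS hxS) (S.inv_mem hdS)
    have h1 : x⁻¹ * (d * x * d⁻¹) ∈ Z := by
      rw [← hq.tt_eq_iff hxS hdx, Cfsg.Agent.Lib.Helper87Free3.tt_conj θ hdS hxS,
        ← hd'c _ (tt_mem_image hQS hx)]
      group
    have e : (iot j x)⁻¹ * (iot j d * iot j x * (iot j d)⁻¹) = iot j (x⁻¹ * (d * x * d⁻¹)) := by
      rw [iot_mul j (S.inv_mem hxS) hdx, iot_inv j hxS, iot_conj j hdS hxS]
    rw [e]
    exact iot_mem_hat hZS h1
  · intro y hy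
    obtain ⟨x, hx, hxS, rfl⟩ := mem_hat.1 hy
    rw [← iot_conj j hdS hxS]
    congr 1
    obtain ⟨f', h1, h2, h3⟩ := (isCentral_iff.1 hZ).2 S _ (isMap_conj F le_rfl hdS)
    rw [← h2 x hxS, h3 x hx]

end Cfsg.Agent.Lib.Helper87ConFac
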