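import Mathlib
import Cfsg.Agent.Lib.Helper87ConFac
import Cfsg.Agent.Lib.Helper87Hyperfocal
import Cfsg.Agent.Lib.Helper87GroupFusion

set_option autoImplicit false
set_option linter.unusedSectionVars false
set_option linter.unusedVariables false

namespace Cfsg.Agent.Lib.Helper87ConGrp

open Cfsg Cfsg.FusionSystem Cfsg.Agent.Lib.Helper87Fusion Cfsg.Agent.Lib.Helper87Fusion2
  Cfsg.Agent.Lib.Helper87Fusion3 Cfsg.Agent.Lib.Helper87Realized Cfsg.Agent.Lib.Helper86Fusion
  Cfsg.Agent.Lib.Helper88Factor Cfsg.Agent.Lib.Helper88Quot Cfsg.Agent.Lib.Helper88QuotSat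
  Cfsg.Agent.Lib.Helper87Sylow

/-- `IsQuot` + the total-function description of the maps gives a factor system. -/
theorem isFactorSystem_of_facMap {Ω Ω' : Type*} [Group Ω] [Group Ω'] {S : Subgroup Ω}
    {S' : Subgroup Ω'} {F : FusionSystem S} {E : FusionSystem S'} {θ : S →* Ω'} {Z : Subgroup Ω}
    (hq : IsQuot θ Z S')
    (h : ∀ (P' : Subgroup Ω') (f' : Ω' → Ω'), IsMap E P' f' ↔ P' ≤ S' ∧
      ∃ f, IsMap F (preimageAlong θ P') f ∧ ∀ x ∈ preimageAlong θ P', f' (tt θ x) = tt θ (f x)) :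
    F.IsFactorSystem Z θ E := by
  refine ⟨hq.le, hq.ker, hq.range, fun P' φ' => ?_⟩
  rw [mem_hom_iff, h]
  exact (mem_factorHom_iff (F := F) (θ := θ) (S' := S') (fun y => (tot_apply φ' y).symm)).symm

/-- fusion systems realized by `G` and by a quotient `G'` of `G`, compatibly: the second is a
factor system of the first. -/
theorem factor_of_realized {Ω Ω' G G' : Type*} [Group Ω] [Group Ω'] [Group G] [Group G']
    [Finite G] {p : ℕ} [Fact p.Prime] {S : Subgroup Ω} {S' : Subgroup Ω'} {F : FusionSystem S}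
    {E : FusionSystem S'} {ι : S →* G} {ι' : S' →* G'} (hι : F.IsRealizedBy ι)
    (hι' : E.IsRealizedBy ι') (T : Sylow p G) (hT : (T : Subgroup G) = ι.range)
    {π : G →* G'} (hπ : Function.Surjective π) {θ : S →* Ω'} (hθ : θ.range = S')
    (hform : ∀ x ∈ S, iot ι' (tt θ x) = π (iot ι x)) {Z : Subgroup Ω} (hZS : Z ≤ S)
    (hZ : ∀ x ∈ S, (x ∈ Z ↔ π (iot ι x) = 1)) : F.IsFactorSystem Z θ E := by
  have hmemS' : ∀ x ∈ S, tt θ x ∈ S' := by
    intro x hx
    rw [tt_of_mem θ hx, ← hθ]; exact ⟨_, rfl⟩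
  have hone : iot ι' 1 = 1 := by rw [iot_of_mem ι' S'.one_mem]; exact map_one ι'
  have hq : IsQuot θ Z S' := by
    refine ⟨hZS, fun s => ?_, hθ⟩
    rw [hZ s s.2, ← hform s s.2, tt_coe]
    constructor
    · intro h; rw [h, hone]
    · intro h
      have hs : θ s ∈ S' := by rw [← hθ]; exact ⟨_, rfl⟩
      exact iot_inj hι'.1 hs S'.one_mem (h.trans hone.symm)
  refine isFactorSystem_of_facMap hq (fun P' f' => ?_)
  rw [isMap_realized_iff hι']
  constructor
  · rintro ⟨hP', hval, g', hg'⟩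
    obtain ⟨g, rfl⟩ := hπ g'
    have hP : preimageAlong θ P' ≤ S := preimageAlong_le θ P'
    have hTp : IsPGroup p ι.range := hT ▸ T.isPGroup'
    have hDp : IsPGroup p (cj g (hat ι (preimageAlong θ P'))) :=
      isPGroup_cj (hTp.to_le (hat_le_range ι _))
    have hDle : cj g (hat ι (preimageAlong θ P')) ≤ (T : Subgroup G) ⊔ π.ker := by
      rintro _ ⟨y, hy, rfl⟩
      obtain ⟨x, hx, hxS, rfl⟩ := mem_hat.1 hy
      show g * iot ι x * g⁻¹ ∈ _
      have hx' := ((mem_preimageAlong θ).1 hx).2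
      obtain ⟨x₂, hx₂, hx₂e⟩ := hq.exists_tt (hval _ hx')
      have h1 := hg' _ hx'
      rw [← hx₂e, hform x₂ hx₂, hform x hxS] at h1
      have h2 : (iot ι x₂)⁻¹ * (g * iot ι x * g⁻¹) ∈ π.ker := by
        rw [MonoidHom.mem_ker, map_mul, map_inv, h1, map_mul, map_mul, map_inv]
        group
      have h3 : iot ι x₂ ∈ (T : Subgroup G) := by rw [hT]; exact iot_mem_range ι hx₂
      have := Subgroup.mul_mem _ (Subgroup.mem_sup_left (T := π.ker) h3)
        (Subgroup.mem_sup_right (S := (T : Subgroup G)) h2)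
      rwa [mul_inv_cancel_left] at this
    obtain ⟨k, hk, hkD⟩ := conj_into_sylow π.ker T _ hDp hDle
    have hr : ∀ x ∈ preimageAlong θ P', (k * g) * iot ι x * (k * g)⁻¹ ∈ ι.range := by
      intro x hx
      have := hkD _ (conj_mem_cj (g := g) (iot_mem_hat hP hx))
      rw [← hT]
      have e : k * g * iot ι x * (k * g)⁻¹ = k * (g * iot ι x * g⁻¹) * k⁻¹ := by group
      rw [e]; exact this
    have hf : IsMap F (preimageAlong θ P') (fun x => kap ι ((k * g) * iot ι x * (k * g)⁻¹)) :=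
      (isMap_realized_iff hι).2 ⟨hP, fun x hx => (kap_spec ι (hr x hx)).1, k * g,
        fun x hx => (kap_spec ι (hr x hx)).2⟩
    refine ⟨hP', _, hf, fun x hx => ?_⟩
    have hx' := ((mem_preimageAlong θ).1 hx).2
    apply iot_inj hι'.1 (hval _ hx') (hmemS' _ (hf.mem hx))
    rw [hg' _ hx', hform x (hP hx), hform _ (hf.mem hx), (kap_spec ι (hr x hx)).2]
    have hk1 : π k = 1 := hk
    simp only [map_mul, map_inv, hk1, one_mul]
  · rintro ⟨hP', f, hf, H⟩
    obtain ⟨-, -, g, hg⟩ := (isMap_realized_iff hι).1 hf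
    refine ⟨hP', fun y hy => ?_, π g, fun y hy => ?_⟩
    · obtain ⟨x, hx, rfl⟩ := hq.exists_pre hP' hy
      rw [H x hx]
      exact hmemS' _ (hf.mem hx)
    · obtain ⟨x, hx, rfl⟩ := hq.exists_pre hP' hy
      rw [H x hx, hform _ (hf.mem hx), hform _ (hf.le hx), hg x hx, map_mul, map_mul, map_inv]

section subnormal

universe u

variable {G : Type u} [Group G] [Finite G] {p : ℕ} [Fact p.Prime]

theorem cj_le_of_normal_subgroupOf {H K : Subgroup G} (hle : H ≤ K)
    (hN : (H.subgroupOf K).Normal) {n : G} (hn : n ∈ K) {x : G} (hx : x ∈ H) :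
    n * x * n⁻¹ ∈ H := by
  have := hN.conj_mem ⟨x, hle hx⟩ (Subgroup.mem_subgroupOf.2 hx) ⟨n, hn⟩
  exact Subgroup.mem_subgroupOf.1 this

theorem sylIn_inf_of_subnormal (S : Sylow p G) {K : Subgroup G} (hK : K.IsSubnormal) :
    SylIn p ((S : Subgroup G) ⊓ K) K := by
  induction hK with
  | top => rw [inf_top_eq]; exact sylow_sylIn S
  | step H K hle _ hN ih =>
    have := ih.inf_normal hle (fun n hn => by
      rintro _ ⟨x, hx, rfl⟩
      exact cj_le_of_normal_subgroupOf hle hN hn hx)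
    rwa [inf_assoc, inf_eq_right.2 hle] at this

theorem constrained_inf_of_subnormal (S : Sylow p G)
    (hF : (groupFusionSystem (S : Subgroup G)).IsConstrained p) {K : Subgroup G}
    (hK : K.IsSubnormal) :
    (fusionSystemOfSubgroup K ((S : Subgroup G) ⊓ K) inf_le_right).IsConstrained p := by
  have hS : IsPGroup p (S : Subgroup G) := S.isPGroup'
  induction hK with
  | top =>
    refine Cfsg.Agent.Lib.Helper87ConSub.constrained_of_sub hS hF
      (Cfsg.Agent.Lib.Helper87Hyperfocal.fusionSystemOfSubgroup_saturated _ _ _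
        (sylIn_inf_of_subnormal S Subgroup.IsSubnormal.top))
      (Cfsg.Agent.Lib.Helper87Hyperfocal.fusionSystemOfSubgroup_subsystem _ _ _ _ inf_le_left) ?_
    rw [stronglyClosed_iff]
    exact ⟨inf_le_left, fun R f _ hf x hx => ⟨hf.mem hx, Subgroup.mem_top _⟩⟩
  | step H K hle hKs hN ih =>
    refine Cfsg.Agent.Lib.Helper87ConSub.constrained_of_sub (hS.to_le inf_le_left) ih
      (Cfsg.Agent.Lib.Helper87Hyperfocal.fusionSystemOfSubgroup_saturated _ _ _
        (sylIn_inf_of_subnormal S (Subgroup.IsSubnormal.step H K hle hKs hN))) ?_ ?_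
    · rintro P φ ⟨hP, hφ, g, hg, hgφ⟩
      exact ⟨hP.trans (inf_le_inf_left _ hle), fun x => ⟨(hφ x).1, hle (hφ x).2⟩, g, hle hg, hgφ⟩
    · rw [stronglyClosed_iff]
      refine ⟨inf_le_inf_left _ hle, fun R f hR hf x hx => ⟨(hf.mem hx).1, ?_⟩⟩
      obtain ⟨φ, ⟨-, -, g, hg, hgφ⟩, hφf⟩ := hf
      rw [← hφf ⟨x, hx⟩, hgφ]
      exact cj_le_of_normal_subgroupOf hle hN hg (hR hx).2

theorem isCentral_bot {Ω : Type*} [Group Ω] {S : Subgroup Ω} (F : FusionSystem S) :
    F.IsCentral ⊥ :=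
  isCentral_iff.2 ⟨bot_le, fun P f hf => ⟨f, by rw [sup_bot_eq]; exact hf, fun _ _ => rfl,
    fun x hx => by rw [Subgroup.mem_bot.1 hx]; exact hf.map_one⟩⟩

/-- passage from the ambient group `G` to the ambient group `H`. -/
theorem factor_subgroupOf {T H : Subgroup G} (h : SylIn p (T ⊓ H) H) :
    (fusionSystemOfSubgroup H (T ⊓ H) inf_le_right).IsFactorSystem ⊥
      (Subgroup.inclusion (inf_le_right : T ⊓ H ≤ H)) (groupFusionSystem (T.subgroupOf H)) := by
  obtain ⟨R, hR⟩ := (sylIn_iff inf_le_right).1 h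
  have hmem : ∀ x (hx : x ∈ T ⊓ H), (⟨x, hx.2⟩ : H) ∈ T.subgroupOf H :=
    fun x hx => Subgroup.mem_subgroupOf.2 hx.1
  refine factor_of_realized (p := p) (fusionSystemOfSubgroup_realized H (T ⊓ H) inf_le_right)
    (groupFusionSystem_realized (T.subgroupOf H)) R ?_ (π := MonoidHom.id H)
    Function.surjective_id ?_ ?_ bot_le ?_
  · rw [hR, Subgroup.inclusion_range]
  · rw [Subgroup.inclusion_range, Subgroup.inf_subgroupOf_right]
  · intro x hx
    rw [tt_of_mem _ hx, iot_of_mem _ hx]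
    exact iot_of_mem _ (hmem x hx)
  · intro x hx
    rw [iot_of_mem _ hx, Subgroup.mem_bot]
    show _ ↔ (⟨x, hx.2⟩ : H) = 1
    rw [Subtype.ext_iff]; rfl

theorem constrained_subgroupOf_of_subnormal (S : Sylow p G)
    (hF : (groupFusionSystem (S : Subgroup G)).IsConstrained p) {H : Subgroup G}
    (hH : H.IsSubnormal) :
    (groupFusionSystem ((S : Subgroup G).subgroupOf H)).IsConstrained p :=
  Cfsg.Agent.Lib.Helper87ConFac.constrained_factor (S.isPGroup'.to_le inf_le_left)
    (constrained_inf_of_subnormal S hF hH) (isCentral_bot _)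
    (factor_subgroupOf (sylIn_inf_of_subnormal S hH))

/-- the quotient by the centre. -/
theorem constrained_quot_center (R : Sylow p G)
    (hF : (groupFusionSystem (R : Subgroup G)).IsConstrained p) :
    (groupFusionSystem ((R : Subgroup G).map
      (QuotientGroup.mk' (Subgroup.center G)))).IsConstrained p := by
  have hfac : (groupFusionSystem (R : Subgroup G)).IsFactorSystem
      ((R : Subgroup G) ⊓ Subgroup.center G)
      ((QuotientGroup.mk' (Subgroup.center G)).comp (R : Subgroup G).subtype)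
      (groupFusionSystem ((R : Subgroup G).map (QuotientGroup.mk' (Subgroup.center G)))) := by
    have hθmem : ∀ x (hx : x ∈ (R : Subgroup G)), (QuotientGroup.mk' (Subgroup.center G)) x ∈
        (R : Subgroup G).map (QuotientGroup.mk' (Subgroup.center G)) := fun x hx => ⟨x, hx, rfl⟩
    refine factor_of_realized (p := p) (groupFusionSystem_realized (R : Subgroup G))
      (groupFusionSystem_realized _) R (Subgroup.range_subtype _).symm
      (π := QuotientGroup.mk' (Subgroup.center G)) (QuotientGroup.mk'_surjective _)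
      ?_ ?_ inf_le_left ?_
    · rw [MonoidHom.range_comp, Subgroup.range_subtype]
    · intro x hx
      rw [tt_of_mem _ hx, iot_of_mem _ hx]
      exact iot_of_mem _ (hθmem x hx)
    · intro x hx
      rw [iot_of_mem _ hx]
      show _ ↔ (QuotientGroup.mk' (Subgroup.center G)) x = 1
      rw [QuotientGroup.mk'_apply, QuotientGroup.eq_one_iff]
      exact ⟨fun h => h.2, fun h => ⟨hx, h⟩⟩
  refine Cfsg.Agent.Lib.Helper87ConFac.constrained_factor R.isPGroup' hF ?_ hfac
  refine isCentral_iff.2 ⟨inf_le_left, fun P f hf => ?_⟩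
  obtain ⟨hP, g, hg⟩ := Cfsg.Agent.Lib.Helper87GroupFusion.isMap_group_iff.1 hf
  have hle : P ⊔ ((R : Subgroup G) ⊓ Subgroup.center G) ≤
      (R : Subgroup G).comap (MulAut.conj g).toMonoidHom := by
    refine sup_le (fun x hx => (hg x hx).2) (fun x hx => ?_)
    show g * x * g⁻¹ ∈ (R : Subgroup G)
    rw [Subgroup.mem_center_iff.1 hx.2 g, mul_inv_cancel_right]
    exact hx.1
  refine ⟨fun x => g * x * g⁻¹, Cfsg.Agent.Lib.Helper87GroupFusion.isMap_group_iff.2
    ⟨sup_le hP inf_le_left, g, fun x hx => ⟨rfl, hle hx⟩⟩, fun x hx => ((hg x hx).1).symm,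
    fun x hx => ?_⟩
  show g * x * g⁻¹ = x
  rw [Subgroup.mem_center_iff.1 hx.2 g, mul_inv_cancel_right]

end subnormal

end Cfsg.Agent.Lib.Helper87ConGrp
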