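import Cfsg.Agent.Lib.Helper86TRDefs
import Cfsg.Agent.Lib.Helper87ConGrp
import Cfsg.Agent.Lib.Helper87ConFac

set_option autoImplicit false

namespace Cfsg.Agent.Lib.H86TRBase

open Cfsg Cfsg.FusionSystem Cfsg.Agent.Lib.Helper87Fusion Cfsg.Agent.Lib.Helper86TRDefs

variable {Ω : Type*} [Group Ω] {S : Subgroup Ω}

/-- PIECE Base, 1 (30m).  Over the trivial group: `Q = ⊥` is normal (`Helper87Fusion2.isNormal_iff` or the definition: `P ≤ S = ⊥`, so `P ⊔ ⊥ = P`; extension `ψ = φ`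
up to the cast; in the IsMap calculus: `isNormal_iff.2 ⟨bot_le, fun P f hf => ⟨f, by rwa [sup_bot_eq], fun _ _ => rfl, ..⟩⟩`, compare `Helper87ConGrp.isCentral_bot` +
`Helper87ConFac.isNormal_of_isCentral`: `⊥` is central, hence normal, in EVERY fusion system) and centric (`centralizerIn S Q' ≤ S = ⊥ ≤ Q'`). -/
theorem constrained_of_bot {p : ℕ} (F : FusionSystem S) (hF : F.IsSaturated p) (hS : S = ⊥) :
    F.IsConstrained p := by
  refine ⟨hF, ⊥, Cfsg.Agent.Lib.Helper87ConFac.isNormal_of_isCentral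
    (Cfsg.Agent.Lib.Helper87ConGrp.isCentral_bot F), bot_le, ?_⟩
  intro Q' _
  unfold centralizerIn
  rw [hS]
  exact inf_le_left.trans bot_le

/-- PIECE Base, 2 (30m).  The Sylow `p`-subgroup `ι.range` is trivial, so `p ∤ |G|` (`Sylow.card_eq_multiplicity` / `Sylow.ne_bot_of_dvd_card`), chain `![⊥, ⊤]` (`n = 1`):
`⊥.relIndex ⊤ = Nat.card G` is prime to `p`. -/
theorem psolv_of_bot {p : ℕ} [Fact p.Prime] (F : FusionSystem S) (hS : S = ⊥) {G : Type*} [Group G]
    (ι : S →* G) (hM : F.IsModel p G ι) : IsPSolvable p G := by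
  have hp : p.Prime := Fact.out
  obtain ⟨hfin, _, ⟨T, hT⟩, _⟩ := hM
  have hr : ι.range = ⊥ := by
    rw [eq_bot_iff]
    rintro _ ⟨x, rfl⟩
    have hx : (x : Ω) ∈ (⊥ : Subgroup Ω) := hS ▸ x.2
    have hx1 : x = 1 := Subtype.ext (Subgroup.mem_bot.1 hx)
    rw [hx1, map_one]
    exact Subgroup.one_mem _
  have hnd : ¬ p ∣ Nat.card G := by
    intro h
    exact T.ne_bot_of_dvd_card h (hT.trans hr)
  refine ⟨1, ![⊥, ⊤], rfl, rfl, ?_, ?_, ?_⟩
  · intro i j hij
    fin_cases i <;> fin_cases j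
    · exact le_refl _
    · exact bot_le
    · exact absurd hij (by decide)
    · exact le_refl _
  · intro i
    fin_cases i
    · exact (inferInstance : (⊥ : Subgroup G).Normal)
    · exact (inferInstance : (⊤ : Subgroup G).Normal)
  · intro i
    right
    fin_cases i
    show ((⊥ : Subgroup G).relIndex ⊤).Coprime p
    rw [Subgroup.relIndex_top_right, Subgroup.index_bot]
    exact ((Nat.Prime.coprime_iff_not_dvd hp).2 hnd).symm

end Cfsg.Agent.Lib.H86TRBase
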