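import Cfsg.Agent.Lib.Helper86TRDefs
import Cfsg.Agent.Lib.Helper87Fusion3
import Cfsg.Agent.Lib.Helper87Split
import Cfsg.Agent.Lib.Helper87Closed
import Cfsg.Agent.Lib.Helper86Sub
import Cfsg.Agent.Lib.Helper86Fusion3
import Cfsg.Agent.Lib.Helper88Normal
import Cfsg.Agent.Lib.Helper86TateF
import Cfsg.Agent.Lib.Helper86PPowerN
import Cfsg.Agent.S5255

set_option autoImplicit false

namespace Cfsg.Agent.Lib.H86TRSC

open Cfsg Cfsg.FusionSystem Cfsg.Agent.Lib.Helper87Fusion Cfsg.Agent.Lib.Helper87Fusion2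
open Cfsg.Agent.Lib.Helper87Fusion3 Cfsg.Agent.Lib.Helper86TRDefs

variable {Ω : Type*} [Group Ω] {S T : Subgroup Ω}

/-- PIECE SC (50m).  Every `S`-invariant subgroup between `Q` and `R = Q C_S(Q)` is strongly closed.
`stronglyClosed_iff.2 ⟨_, fun P f hP hf x hx => ?_⟩`.  `R` is strongly closed (`S5255.result p hS E hE Q (Helper86Sub.normal_stronglyClosed hQ)`), so `f x ∈ R` (`StronglyClosed_mem`).
`Helper86TateF.inner_mod_hyp hS E hE hf`: `s ∈ S` with `h := (s * x * s⁻¹)⁻¹ * f x ∈ hyp`.  `b := s * x * s⁻¹ ∈ B ≤ R`, so `h ∈ R`.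
`hyp ⊓ R ≤ Q`: `Helper86PPowerN.mem_QC_iff` gives `q ∈ Q` with `h y h⁻¹ = q y q⁻¹` for `y ∈ Q`; `c := q⁻¹ * h` lies in `hyp` (`hQT`) and centralizes `Q`, so `c ∈ centralizerIn hyp Q ≤ Q` (`mem_centralizerIn`), `h = q c ∈ Q ≤ B`.
`f x = b * h ∈ B`. -/
theorem sc_between [Finite S] {p : ℕ} [Fact p.Prime] (hS : IsPGroup p S) (E : FusionSystem S)
    (hE : E.IsSaturated p) (Q : Subgroup Ω) (hQ : E.IsNormal Q) (hQT : Q ≤ E.hyperfocalSubgroup p)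
    (hQc : centralizerIn (E.hyperfocalSubgroup p) Q ≤ Q) (B : Subgroup Ω) (hQB : Q ≤ B)
    (hBR : B ≤ Q ⊔ centralizerIn S Q) (hBn : ∀ s ∈ S, ∀ b ∈ B, s * b * s⁻¹ ∈ B) :
    E.StronglyClosed B := by
  have hQS : Q ≤ S := hQ.1
  have hRS : Q ⊔ centralizerIn S Q ≤ S := sup_le hQS (centralizerIn_le S Q)
  have hRsc : E.StronglyClosed (Q ⊔ centralizerIn S Q) :=
    Cfsg.Agent.S5255.result p hS E hE Q (Cfsg.Agent.Lib.Helper86Sub.normal_stronglyClosed hQ)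
  rw [stronglyClosed_iff]
  refine ⟨hBR.trans hRS, fun P f hP hf x hx => ?_⟩
  have hxB : x ∈ B := hP hx
  have hfxR : f x ∈ Q ⊔ centralizerIn S Q := StronglyClosed_mem hRsc hf hx (hBR hxB)
  obtain ⟨s, hs, hsu⟩ := Cfsg.Agent.Lib.Helper86TateF.inner_mod_hyp hS E hE hf
  have hh := hsu x hx
  have hbB : s * x * s⁻¹ ∈ B := hBn s hs x hxB
  have hhR : (s * x * s⁻¹)⁻¹ * f x ∈ Q ⊔ centralizerIn S Q :=
    Subgroup.mul_mem _ (Subgroup.inv_mem _ (hBR hbB)) hfxR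
  have hfx : f x = (s * x * s⁻¹) * ((s * x * s⁻¹)⁻¹ * f x) := by group
  rw [hfx]
  generalize (s * x * s⁻¹)⁻¹ * f x = h at hh hhR
  obtain ⟨hhS, q, hq, hqy⟩ := (Cfsg.Agent.Lib.Helper86PPowerN.mem_QC_iff hQS).1 hhR
  have hc : q⁻¹ * h ∈ centralizerIn (E.hyperfocalSubgroup p) Q := by
    rw [mem_centralizerIn]
    refine ⟨Subgroup.mul_mem _ (Subgroup.inv_mem _ (hQT hq)) hh, fun y hy => ?_⟩
    have h1 := hqy y hy
    have h2 : h * y = q * y * q⁻¹ * h := by rw [← h1]; group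
    calc y * (q⁻¹ * h) = q⁻¹ * (q * y * q⁻¹ * h) := by group
      _ = q⁻¹ * (h * y) := by rw [h2]
      _ = q⁻¹ * h * y := by group
  have hcQ := hQc hc
  have hhQ : h ∈ Q := by
    have h3 : h = q * (q⁻¹ * h) := by group
    rw [h3]; exact Subgroup.mul_mem _ hq hcQ
  exact Subgroup.mul_mem _ hbB (hQB hhQ)

end Cfsg.Agent.Lib.H86TRSC
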