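import Cfsg.Agent.Lib.Helper86TRDefs
import Cfsg.Agent.Lib.Helper87Fusion3
import Cfsg.Agent.Lib.Helper87Split
import Cfsg.Agent.Lib.Helper87Closed
import Cfsg.Agent.Lib.Helper86Sub
import Cfsg.Agent.Lib.Helper86Fusion3
import Cfsg.Agent.Lib.Helper88Normal
import Cfsg.Agent.Lib.Helper86TateF
import Cfsg.Agent.Lib.H86TRSC
import Cfsg.Agent.Lib.H86TRReachQ

set_option autoImplicit false

namespace Cfsg.Agent.Lib.H86TRReachR

open Cfsg Cfsg.FusionSystem Cfsg.Agent.Lib.Helper87Fusion Cfsg.Agent.Lib.Helper87Fusion2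
open Cfsg.Agent.Lib.Helper87Fusion3 Cfsg.Agent.Lib.Helper86TRDefs
open scoped commutatorElement

variable {Ω : Type*} [Group Ω] {S T : Subgroup Ω}

theorem normal_subgroupOf {B : Subgroup Ω} (hBn : ∀ s ∈ S, ∀ b ∈ B, s * b * s⁻¹ ∈ B) :
    (B.subgroupOf S).Normal := by
  constructor
  intro b hb s
  rw [Subgroup.mem_subgroupOf] at hb ⊢
  exact hBn s.1 s.2 b.1 hb

/-- PIECE ReachR: the claim. -/
theorem claim [Finite S] {p : ℕ} [Fact p.Prime] (hS : IsPGroup p S) (E : FusionSystem S)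
    (hE : E.IsSaturated p) (Q : Subgroup Ω) (hQ : E.IsNormal Q) (hQT : Q ≤ E.hyperfocalSubgroup p)
    (hQc : centralizerIn (E.hyperfocalSubgroup p) Q ≤ Q) :
    ∀ n : ℕ, ∀ B : Subgroup Ω, Nat.card B = n → Q ≤ B → B ≤ Q ⊔ centralizerIn S Q →
      (∀ s ∈ S, ∀ b ∈ B, s * b * s⁻¹ ∈ B) → Reach E (Q ⊔ centralizerIn S Q) B := by
  have hQS : Q ≤ S := hQ.1
  have hRS : Q ⊔ centralizerIn S Q ≤ S := sup_le hQS (centralizerIn_le S Q)
  have hQsc := Cfsg.Agent.Lib.Helper86Sub.normal_stronglyClosed hQ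
  have hQn : ∀ s ∈ S, ∀ b ∈ Q, s * b * s⁻¹ ∈ Q := fun s hs b hb => StronglyClosed_conj_mem hQsc hs hb
  intro n
  induction n using Nat.strong_induction_on with
  | _ n ih =>
    intro B hn hQB hBR hBn
    by_cases hBQ : B = Q
    · rw [hBQ]
      exact Cfsg.Agent.Lib.H86TRReachQ.reach_Q hS E hE Q hQ
    have hBS : B ≤ S := hBR.trans hRS
    have hlt : Q < B := lt_of_le_of_ne hQB (Ne.symm hBQ)
    haveI hW : (Q.subgroupOf S).Normal := normal_subgroupOf hQn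
    haveI hD : (B.subgroupOf S).Normal := normal_subgroupOf hBn
    have hWD : Q.subgroupOf S < B.subgroupOf S := by
      rw [lt_iff_le_not_ge]
      refine ⟨fun x hx => hQB hx, fun hle => ?_⟩
      apply not_le_of_gt hlt
      intro b hb
      exact hle (show (⟨b, hBS hb⟩ : S) ∈ B.subgroupOf S from hb)
    obtain ⟨D₁, hD₁n, hWD₁, hD₁D, hcomm, -⟩ :=
      Cfsg.Agent.Lib.Helper86TateF.exists_chief hS (Q.subgroupOf S) (B.subgroupOf S) hWD
    have hQA : Q ≤ D₁.map S.subtype := by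
      intro x hx
      exact ⟨⟨x, hQS hx⟩, hWD₁ (show (⟨x, hQS hx⟩ : S) ∈ Q.subgroupOf S from hx), rfl⟩
    have hAB : D₁.map S.subtype ≤ B := by
      rintro _ ⟨x, hx, rfl⟩
      exact hD₁D.le hx
    have hABne : D₁.map S.subtype ≠ B := by
      intro h
      apply not_le_of_gt hD₁D
      intro b hb
      have hb' : (b : Ω) ∈ D₁.map S.subtype := by rw [h]; exact hb
      obtain ⟨x, hx, hxb⟩ := hb'
      have : x = b := Subtype.ext hxb
      rw [← this]
      exact hx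
    have hABlt : D₁.map S.subtype < B := lt_of_le_of_ne hAB hABne
    haveI : Finite B := Finite.of_injective (fun b : B => (⟨b.1, hBS b.2⟩ : S))
      (fun a b h => Subtype.ext (congrArg (fun x : S => (x : Ω)) h))
    have hcard : Nat.card (D₁.map S.subtype) < n := by
      rw [← hn]
      exact Set.ncard_lt_ncard (s := ((D₁.map S.subtype : Subgroup Ω) : Set Ω)) (t := (B : Set Ω))
        (SetLike.coe_ssubset_coe.mpr hABlt) (Set.toFinite _)
    have hAn : ∀ s ∈ S, ∀ b ∈ D₁.map S.subtype, s * b * s⁻¹ ∈ D₁.map S.subtype := by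
      rintro s hs _ ⟨x, hx, rfl⟩
      exact ⟨⟨s, hs⟩ * x * ⟨s, hs⟩⁻¹, hD₁n.conj_mem x hx ⟨s, hs⟩, rfl⟩
    have hA := ih _ hcard (D₁.map S.subtype) rfl hQA (hAB.trans hBR) hAn
    refine Reach.step hA hAB
      (Cfsg.Agent.Lib.H86TRSC.sc_between hS E hE Q hQ hQT hQc B hQB hBR hBn) ?_
    rw [Subgroup.commutator_le]
    intro g hg b hb
    rw [commutatorElement_def]
    exact ⟨_, hcomm ⟨g, hRS hg⟩ ⟨b, hBS hb⟩ hb, rfl⟩

theorem reach_R [Finite S] {p : ℕ} [Fact p.Prime] (hS : IsPGroup p S) (E : FusionSystem S)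
    (hE : E.IsSaturated p) (Q : Subgroup Ω) (hQ : E.IsNormal Q) (hQT : Q ≤ E.hyperfocalSubgroup p)
    (hQc : centralizerIn (E.hyperfocalSubgroup p) Q ≤ Q) :
    Reach E (Q ⊔ centralizerIn S Q) (Q ⊔ centralizerIn S Q) := by
  have hRsc : E.StronglyClosed (Q ⊔ centralizerIn S Q) :=
    Cfsg.Agent.S5255.result p hS E hE Q (Cfsg.Agent.Lib.Helper86Sub.normal_stronglyClosed hQ)
  exact claim hS E hE Q hQ hQT hQc _ _ rfl le_sup_left le_rfl
    (fun s hs b hb => StronglyClosed_conj_mem hRsc hs hb)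

end Cfsg.Agent.Lib.H86TRReachR
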