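import Cfsg.Agent.Lib.Helper86TRDefs
import Cfsg.Agent.Lib.Helper86PPowerN
import Cfsg.Agent.Lib.Helper87Closed
import Cfsg.Agent.Lib.H86TRConPP
import Cfsg.Agent.Lib.H86TRCoreNor
import Cfsg.Agent.Lib.H86TRReachR
import Cfsg.Agent.Lib.H86TRChain
import Cfsg.Agent.S5088
import Cfsg.Agent.S5145

set_option autoImplicit false

namespace Cfsg.Agent.Lib.H86TRConP

open Cfsg Cfsg.FusionSystem Cfsg.Agent.Lib.Helper87Fusion Cfsg.Agent.Lib.Helper86TRDefs

variable {Ω : Type*} [Group Ω] {S : Subgroup Ω}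

theorem con_p [Finite S] {p : ℕ} [Fact p.Prime] (hS : IsPGroup p S) (E : FusionSystem S)
    (hE : E.IsSaturated p) (D : FusionSystem (E.hyperfocalSubgroup p)) (hD : E.IsPResidual p D)
    (hc : D.IsConstrained p) : E.IsConstrained p := by
  have hle : E.hyperfocalSubgroup p ≤ S := Cfsg.Agent.Lib.Helper87Closed.hyperfocal_le E p
  have : Finite (E.hyperfocalSubgroup p) := Cfsg.Agent.Lib.Helper86Fusion.finite_of_le hle
  have hnor := Cfsg.Agent.Lib.Helper86PPowerN.normal_of_pPowerIndex hS hE hD.1 hD.2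
    (fun s hs x hx => Cfsg.Agent.Lib.Helper87Closed.hyperfocal_conj_mem E p hs hx)
  have hQ : E.IsNormal D.core := H86TRCoreNor.core_normal hS hD.1 hE hnor.1.2.2
  have hQT : D.core ≤ E.hyperfocalSubgroup p := (Cfsg.Agent.S5145.result D).1
  have hQc := H86TRConPP.core_centric hc
  have hreach := H86TRReachR.reach_R hS E hE D.core hQ hQT hQc
  have hRn : E.IsNormal (D.core ⊔ centralizerIn S D.core) :=
    (Cfsg.Agent.S5088.result p hS E hE _).2 (H86TRChain.chain_of_reach hreach)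
  refine H86TRConPP.constrained_of_normal hS E hE hRn ?_
  intro c hc'
  apply (le_sup_right : centralizerIn S D.core ≤ D.core ⊔ centralizerIn S D.core)
  exact ⟨hc'.1, Subgroup.centralizer_le (SetLike.coe_subset_coe.2 le_sup_left) hc'.2⟩

end Cfsg.Agent.Lib.H86TRConP
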