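import Cfsg.Agent.Lib.H88McDefs
import Cfsg.Agent.Lib.Helper87Realized
import Cfsg.Agent.Lib.Helper87Mk
import Cfsg.Agent.Lib.Helper87Free

set_option autoImplicit false

namespace Cfsg.Agent.Lib.H88McReal

open Cfsg Cfsg.Agent.Lib.H88McDefs Cfsg.Agent.Lib.Helper87Realized Cfsg.Agent.Lib.Helper87Mk
  Cfsg.Agent.Lib.Helper87Free

/-- the map data of the system realized by `ι` -/
noncomputable def realData {Ω : Type*} [Group Ω] (S : Subgroup Ω) {G : Type*} [Group G] (ι : S →* G)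
    (hι : Function.Injective ι) : MapData S where
  M P f := P ≤ S ∧ (∀ x ∈ P, f x ∈ S) ∧ ∃ g : G, ∀ x ∈ P, iot ι (f x) = g * iot ι x * g⁻¹
  congr := by
    rintro P f g ⟨hP, hf, γ, hγ⟩ hfg
    refine ⟨hP, fun x hx => by rw [← hfg x hx]; exact hf x hx, γ, fun x hx => ?_⟩
    rw [← hfg x hx]; exact hγ x hx
  le := by
    rintro P f ⟨hP, hf, -⟩
    exact ⟨hP, hf⟩
  inj := by
    rintro P f ⟨hP, hf, γ, hγ⟩ x hx y hy hxy
    apply iot_inj hι (hP hx) (hP hy)
    have h1 := hγ x hx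
    have h2 := hγ y hy
    rw [hxy, h2] at h1
    exact (mul_left_cancel (mul_right_cancel h1)).symm
  hom := by
    rintro P f ⟨hP, hf, γ, hγ⟩ x hx y hy
    apply iot_inj hι (hf _ (P.mul_mem hx hy)) (S.mul_mem (hf _ hx) (hf _ hy))
    rw [iot_mul ι (hf _ hx) (hf _ hy), hγ _ (P.mul_mem hx hy), hγ _ hx, hγ _ hy,
      iot_mul ι (hP hx) (hP hy)]
    group
  conj := by
    intro P g hP hg
    refine ⟨hP, fun x hx => S.mul_mem (S.mul_mem hg (hP hx)) (S.inv_mem hg), iot ι g, fun x hx => ?_⟩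
    exact iot_conj ι hg (hP hx)
  comp := by
    rintro P Q f g ⟨hP, hf, γ, hγ⟩ ⟨hQ, hg, δ, hδ⟩ hPQ
    refine ⟨hP, fun x hx => hg _ (hPQ x hx), δ * γ, fun x hx => ?_⟩
    rw [hδ _ (hPQ x hx), hγ x hx]
    group
  inv := by
    rintro P P' f ⟨hP, hf, γ, hγ⟩ himg
    have key : ∀ x ∈ P, kap ι (γ⁻¹ * iot ι (f x) * γ) = x := by
      intro x hx
      rw [hγ x hx]
      have : γ⁻¹ * (γ * iot ι x * γ⁻¹) * γ = iot ι x := by group
      rw [this]
      exact kap_iot hι (hP hx)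
    have hP' : ∀ y ∈ P', ∃ x ∈ P, f x = y := by
      intro y hy
      have : y ∈ (P' : Set Ω) := hy
      rw [← himg] at this
      exact this
    refine ⟨fun y => kap ι (γ⁻¹ * iot ι y * γ), ⟨?_, ?_, γ⁻¹, ?_⟩, key⟩
    · intro y hy
      obtain ⟨x, hx, rfl⟩ := hP' y hy
      exact hf x hx
    · intro y hy
      obtain ⟨x, hx, rfl⟩ := hP' y hy
      beta_reduce
      rw [key x hx]
      exact hP hx
    · intro y hy
      obtain ⟨x, hx, rfl⟩ := hP' y hy
      beta_reduce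
      rw [key x hx, hγ x hx]
      group

/-- Every injective `ι : S →* G` realizes a fusion system on `S`. -/
theorem exists_realized {Ω : Type*} [Group Ω] (S : Subgroup Ω) {G : Type*} [Group G] (ι : S →* G)
    (hι : Function.Injective ι) : ∃ F : FusionSystem S, F.IsRealizedBy ι :=
  ⟨(realData S ι hι).toFusion, realized_of_isMap_iff hι (fun _ _ => isMap_toFusion _)⟩

end Cfsg.Agent.Lib.H88McReal
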