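import Cfsg.Agent.Lib.Helper86TRDefs
import Cfsg.Agent.Lib.Helper87Fusion3
import Cfsg.Agent.Lib.Helper87Split
import Cfsg.Agent.Lib.Helper87Closed
import Cfsg.Agent.Lib.Helper87ZJ
import Cfsg.Agent.Lib.Helper86Sub
import Cfsg.Agent.Lib.Helper86Fusion3
import Cfsg.Agent.Lib.Helper88Normal
import Cfsg.Agent.Lib.H88McReal
import Cfsg.Agent.Lib.Helper87ConGrp
import Cfsg.Agent.S5256
import Cfsg.Agent.S5093

set_option autoImplicit false

namespace Cfsg.Agent.Lib.H86TRHypR

open Cfsg Cfsg.FusionSystem Cfsg.Agent.Lib.Helper87Fusion Cfsg.Agent.Lib.Helper87Fusion2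
open Cfsg.Agent.Lib.Helper87Fusion3 Cfsg.Agent.Lib.Helper87Realized Cfsg.Agent.Lib.Helper86TRDefs

variable {Ω : Type*} [Group Ω] {S T : Subgroup Ω} {G : Type*} [Group G]

/-- PIECE HypR (50m).  The hyperfocal subgroup theorem for a realized system, by transport.
`E := groupFusionSystem (R : Subgroup G)` is realized by `(R : Subgroup G).subtype` (`groupFusionSystem_realized`).
`Helper87ConGrp.factor_of_realized hι (groupFusionSystem_realized _) R hR (π := MonoidHom.id G) Function.surjective_id (θ := ι) (hθ : ι.range = R) ..  (Z := ⊥)`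
shows `F.IsFactorSystem ⊥ ι E`  (`hform`: both sides are `iot ι x`; `hZ`: `x = 1 ↔ iot ι x = 1` by injectivity).
`⊥` is strongly closed (maps send `1` to `1`), `F` is saturated (`saturated_of_realized hι R hR`), so `S5256.result` gives
`E.hyperfocalSubgroup p = ((F.hyperfocalSubgroup p).subgroupOf S).map ι` and `S5093.result p R` gives `E.hyperfocalSubgroup p = R ⊓ pResidual p G`.
Read off the statement (`iot_of_mem`, injectivity of `ι`, `hR`). -/
theorem hyp_realized [Finite S] [Finite G] {p : ℕ} [Fact p.Prime] (hS : IsPGroup p S)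
    {F : FusionSystem S} {ι : S →* G} (hι : F.IsRealizedBy ι) (R : Sylow p G)
    (hR : (R : Subgroup G) = ι.range) :
    ∀ x ∈ S, (x ∈ F.hyperfocalSubgroup p ↔ iot ι x ∈ pResidual p G) := by
  intro x hx
  have hE := groupFusionSystem_realized (R : Subgroup G)
  have hfac : F.IsFactorSystem ⊥ ι (groupFusionSystem (R : Subgroup G)) := by
    refine Cfsg.Agent.Lib.Helper87ConGrp.factor_of_realized hι hE R hR (π := MonoidHom.id G)
      Function.surjective_id (θ := ι) hR.symm ?_ bot_le ?_
    · intro y hy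
      have h1 : Cfsg.Agent.Lib.Helper88Factor.tt ι y = iot ι y := by
        rw [Cfsg.Agent.Lib.Helper88Factor.tt_of_mem ι hy, iot_of_mem ι hy]
      have h2 : iot ι y ∈ (R : Subgroup G) := by rw [hR]; exact iot_mem_range ι hy
      rw [h1, iot_of_mem _ h2]; rfl
    · intro y hy
      rw [Subgroup.mem_bot]
      constructor
      · rintro rfl
        show iot ι 1 = 1
        rw [iot_of_mem ι S.one_mem]; exact map_one ι
      · intro h
        apply iot_inj hι.1 hy S.one_mem
        rw [show iot ι y = 1 from h, iot_of_mem ι S.one_mem]; exact (map_one ι).symm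
  have hsat : F.IsSaturated p := saturated_of_realized hι R hR
  have hbot : F.StronglyClosed ⊥ := by
    refine ⟨bot_le, fun Q hQ φ _ y => ?_⟩
    have hy : y = 1 := Subtype.ext (Subgroup.mem_bot.1 (hQ y.2))
    rw [hy, map_one]
    exact Subgroup.one_mem _
  have h1 := Cfsg.Agent.S5256.result p hS F hsat ⊥ hbot ι _ hfac
  have h2 := Cfsg.Agent.S5093.result p R
  rw [h2] at h1
  constructor
  · intro hxh
    have h3 : iot ι x ∈ ((F.hyperfocalSubgroup p).subgroupOf S).map ι := by
      rw [iot_of_mem ι hx]; exact ⟨⟨x, hx⟩, hxh, rfl⟩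
    rw [← h1] at h3
    exact h3.2
  · intro hxr
    have h3 : iot ι x ∈ (R : Subgroup G) ⊓ pResidual p G :=
      ⟨by rw [hR]; exact iot_mem_range ι hx, hxr⟩
    rw [h1] at h3
    obtain ⟨s, hs, hsx⟩ := h3
    rw [iot_of_mem ι hx] at hsx
    have h4 := hι.1 hsx
    subst h4
    exact hs

end Cfsg.Agent.Lib.H86TRHypR
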