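import Cfsg.Agent.Lib.Helper86TRDefs
import Cfsg.Agent.Lib.Helper87Fusion3
import Cfsg.Agent.Lib.Helper87Split
import Cfsg.Agent.Lib.Helper87Closed
import Cfsg.Agent.Lib.Helper87ZJ
import Cfsg.Agent.Lib.Helper86Sub
import Cfsg.Agent.Lib.Helper86Fusion3
import Cfsg.Agent.Lib.Helper88Normal
import Cfsg.Agent.Lib.H88McReal


set_option autoImplicit false

namespace Cfsg.Agent.Lib.H86TRLift

open Cfsg Cfsg.FusionSystem Cfsg.Agent.Lib.Helper87Fusion Cfsg.Agent.Lib.Helper87Fusion2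
open Cfsg.Agent.Lib.Helper87Fusion3 Cfsg.Agent.Lib.Helper87Realized Cfsg.Agent.Lib.Helper86TRDefs

variable {Ω : Type*} [Group Ω] {S T : Subgroup Ω} {G : Type*} [Group G]

/-- an element of `Aut_F(P)` is induced by an element of `G`, and so are its powers. -/
theorem lift_aux {F : FusionSystem S} {ι : S →* G}
    (hι : F.IsRealizedBy ι) {P : Subgroup Ω} (hP : P ≤ S) (α : MulAut P) (hα : α ∈ F.autGroup P) :
    ∃ g₀ : G, ∀ (m : ℕ) (x : P),
      iot ι (((α ^ m) x : P) : Ω) = g₀ ^ m * iot ι (x : Ω) * (g₀ ^ m)⁻¹ := by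
  have h1 := (Cfsg.Agent.Lib.Helper88Normal.isMap_of_mem_autGroup hP hα).1
  obtain ⟨-, -, g₀, hg₀⟩ := (isMap_realized_iff hι).1 h1
  have hg : ∀ x : P, iot ι ((α x : P) : Ω) = g₀ * iot ι (x : Ω) * g₀⁻¹ := by
    intro x
    have := hg₀ x x.2
    rw [tot_of_mem _ x.2] at this
    exact this
  refine ⟨g₀, fun m => ?_⟩
  induction m with
  | zero => intro x; simp
  | succ n ih =>
    intro x
    rw [pow_succ', MulAut.mul_apply, hg, ih, pow_succ']
    group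

/-- PIECE Lift, 1.  An automorphism of `p`-power order in `Aut_F(P)` is induced by a `p`-element of `G`. -/
theorem lift_p [Finite G] {p : ℕ} [Fact p.Prime] {F : FusionSystem S} {ι : S →* G}
    (hι : F.IsRealizedBy ι) {P : Subgroup Ω} (hP : P ≤ S) (α : MulAut P) (hα : α ∈ F.autGroup P)
    (k : ℕ) (hk : orderOf α = p ^ k) :
    ∃ g : G, (∃ k' : ℕ, orderOf g = p ^ k') ∧
      ∀ x : P, iot ι ((α x : P) : Ω) = g * iot ι (x : Ω) * g⁻¹ := by
  have hpp : p.Prime := Fact.out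
  obtain ⟨g₀, hpow⟩ := lift_aux hι hP α hα
  have hord : orderOf g₀ ≠ 0 := (orderOf_pos g₀).ne'
  set a := (orderOf g₀).factorization p with ha
  set b := ordCompl[p] (orderOf g₀) with hb
  have hbcop : p.Coprime b := Nat.coprime_ordCompl hpp hord
  obtain ⟨u, hu⟩ := exists_pow_eq_self_of_coprime (x := α) (n := b)
    (by rw [hk]; exact (Nat.Coprime.pow_left k hbcop).symm)
  refine ⟨(g₀ ^ b) ^ u, ?_, fun x => ?_⟩
  · have h1 : (g₀ ^ b) ^ (p ^ a) = 1 := by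
      rw [← pow_mul, mul_comm, Nat.ordProj_mul_ordCompl_eq_self, pow_orderOf_eq_one]
    have h2 : orderOf ((g₀ ^ b) ^ u) ∣ p ^ a :=
      (orderOf_pow_dvd u).trans (orderOf_dvd_of_pow_eq_one h1)
    obtain ⟨k', -, hk'⟩ := (Nat.dvd_prime_pow hpp).1 h2
    exact ⟨k', hk'⟩
  · conv_lhs => rw [← hu]
    rw [← pow_mul, hpow, pow_mul]

/-- PIECE Lift, 2. -/
theorem lift_p' [Finite G] {p : ℕ} [Fact p.Prime] {F : FusionSystem S} {ι : S →* G}
    (hι : F.IsRealizedBy ι) {P : Subgroup Ω} (hP : P ≤ S) (α : MulAut P) (hα : α ∈ F.autGroup P)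
    (hk : (orderOf α).Coprime p) :
    ∃ g : G, (orderOf g).Coprime p ∧
      ∀ x : P, iot ι ((α x : P) : Ω) = g * iot ι (x : Ω) * g⁻¹ := by
  have hpp : p.Prime := Fact.out
  obtain ⟨g₀, hpow⟩ := lift_aux hι hP α hα
  have hord : orderOf g₀ ≠ 0 := (orderOf_pos g₀).ne'
  set a := (orderOf g₀).factorization p with ha
  set b := ordCompl[p] (orderOf g₀) with hb
  have hbcop : p.Coprime b := Nat.coprime_ordCompl hpp hord
  obtain ⟨u, hu⟩ := exists_pow_eq_self_of_coprime (x := α) (n := p ^ a)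
    (Nat.Coprime.pow_left a hk.symm)
  refine ⟨(g₀ ^ p ^ a) ^ u, ?_, fun x => ?_⟩
  · have h1 : (g₀ ^ p ^ a) ^ b = 1 := by
      rw [← pow_mul, Nat.ordProj_mul_ordCompl_eq_self, pow_orderOf_eq_one]
    have h2 : orderOf ((g₀ ^ p ^ a) ^ u) ∣ b :=
      (orderOf_pow_dvd u).trans (orderOf_dvd_of_pow_eq_one h1)
    exact Nat.Coprime.coprime_dvd_left h2 hbcop.symm
  · conv_lhs => rw [← hu]
    rw [← pow_mul, hpow, pow_mul]

end Cfsg.Agent.Lib.H86TRLift
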