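import Cfsg.Agent.Lib.Helper86TRDefs
import Cfsg.Agent.Lib.Helper87Fusion3
import Cfsg.Agent.Lib.Helper87Split
import Cfsg.Agent.Lib.Helper87Closed
import Cfsg.Agent.Lib.Helper87ZJ
import Cfsg.Agent.Lib.Helper86Sub
import Cfsg.Agent.Lib.Helper86Fusion3
import Cfsg.Agent.Lib.Helper88Normal
import Cfsg.Agent.Lib.H88McReal


set_option autoImplicit false

namespace Cfsg.Agent.Lib.H86TRRes

open Cfsg Cfsg.FusionSystem Cfsg.Agent.Lib.Helper87Fusion Cfsg.Agent.Lib.Helper87Fusion2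
open Cfsg.Agent.Lib.Helper87Fusion3 Cfsg.Agent.Lib.Helper87Realized Cfsg.Agent.Lib.Helper86TRDefs

variable {Ω : Type*} [Group Ω] {S T : Subgroup Ω} {G : Type*} [Group G]

theorem iot_res {ι : S →* G} {K : Subgroup G} {j : T →* K} (hj : IsRes ι K j) {x : Ω}
    (hx : x ∈ T) : ((iot j x : K) : G) = iot ι x := by
  rw [iot_of_mem j hx]
  exact hj.2 ⟨x, hx⟩

/-- PIECE Res, 1. -/
theorem isMap_res_iff {ι : S →* G} {K : Subgroup G} {j : T →* K} (hj : IsRes ι K j)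
    {D : FusionSystem T} (hD : D.IsRealizedBy j) {P : Subgroup Ω} {f : Ω → Ω} :
    IsMap D P f ↔ P ≤ T ∧ (∀ x ∈ P, f x ∈ T) ∧
      ∃ g ∈ K, ∀ x ∈ P, iot ι (f x) = g * iot ι x * g⁻¹ := by
  rw [isMap_realized_iff hD]
  constructor
  · rintro ⟨hP, hf, g, hg⟩
    refine ⟨hP, hf, g.1, g.2, fun x hx => ?_⟩
    have := congrArg Subtype.val (hg x hx)
    rw [iot_res hj (hf x hx)] at this
    rw [this]
    simp only [Subgroup.coe_mul, Subgroup.coe_inv]
    rw [iot_res hj (hP hx)]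
  · rintro ⟨hP, hf, g, hgK, hg⟩
    refine ⟨hP, hf, ⟨g, hgK⟩, fun x hx => ?_⟩
    apply Subtype.ext
    rw [iot_res hj (hf x hx), hg x hx]
    simp only [Subgroup.coe_mul, Subgroup.coe_inv]
    rw [iot_res hj (hP hx)]

/-- PIECE Res, 2. -/
theorem res_subsystem {F : FusionSystem S} {ι : S →* G} (hι : F.IsRealizedBy ι) {K : Subgroup G}
    {j : T →* K} (hj : IsRes ι K j) {D : FusionSystem T} (hD : D.IsRealizedBy j) :
    D.IsSubsystemOf F := by
  intro P φ hφ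
  rw [mem_hom_iff] at hφ ⊢
  obtain ⟨hP, hf, g, -, hg⟩ := (isMap_res_iff hj hD).1 hφ
  exact (isMap_realized_iff hι).2 ⟨hP.trans hj.1, fun x hx => hj.1 (hf x hx), g, hg⟩

/-- PIECE Res, 3. -/
theorem exists_res (ι : S →* G) (hι : Function.Injective ι) (K : Subgroup G) (T : Subgroup Ω)
    (hTS : T ≤ S) (h : ∀ x ∈ T, iot ι x ∈ K) :
    ∃ (j : T →* K) (D : FusionSystem T), IsRes ι K j ∧ D.IsRealizedBy j := by
  let j : T →* K := MonoidHom.mk' (fun x => ⟨iot ι (x : Ω), h x x.2⟩)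
    (fun x y => Subtype.ext (iot_mul ι (hTS x.2) (hTS y.2)))
  have hjinj : Function.Injective j := by
    intro x y hxy
    exact Subtype.ext (iot_inj hι (hTS x.2) (hTS y.2) (congrArg Subtype.val hxy))
  obtain ⟨D, hD⟩ := H88McReal.exists_realized T j hjinj
  exact ⟨j, D, ⟨hTS, fun x => rfl⟩, hD⟩

end Cfsg.Agent.Lib.H86TRRes
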