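import Cfsg.Agent.Lib.Helper86TRDefs
import Cfsg.Agent.Lib.Helper87Fusion3
import Cfsg.Agent.Lib.Helper87Split
import Cfsg.Agent.Lib.Helper87Closed
import Cfsg.Agent.Lib.Helper87ZJ
import Cfsg.Agent.Lib.Helper86Sub
import Cfsg.Agent.Lib.Helper86Fusion3
import Cfsg.Agent.Lib.Helper88Normal
import Cfsg.Agent.Lib.H88McReal
import Cfsg.Agent.Lib.H86TRLift
import Cfsg.Agent.Lib.H86TRRes

set_option autoImplicit false

namespace Cfsg.Agent.Lib.H86TRIdxP

open Cfsg Cfsg.FusionSystem Cfsg.Agent.Lib.Helper87Fusion Cfsg.Agent.Lib.Helper87Fusion2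
open Cfsg.Agent.Lib.Helper87Fusion3 Cfsg.Agent.Lib.Helper87Realized Cfsg.Agent.Lib.Helper86TRDefs

variable {Ω : Type*} [Group Ω] {S T : Subgroup Ω} {G : Type*} [Group G]

/-- PIECE IdxP (35m).  `⟨H86TRRes.res_subsystem hι hj hD, le_rfl, fun P hP => ?_⟩`; `pResidual p (F.autGroup P)` is `Subgroup.closure {α | (orderOf α).Coprime p}`:
`Subgroup.map_le_iff_le_comap`, `Subgroup.closure_le`; `H86TRLift.lift_p'` gives `g` of order prime to `p`, `g ∈ pResidual p G` (`Subgroup.subset_closure`);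
conclude with `mem_autGroup_iff_isMap D hP α` and `H86TRRes.isMap_res_iff hj hD`. -/
theorem idx_p [Finite G] {p : ℕ} [Fact p.Prime] {F : FusionSystem S} {ι : S →* G}
    (hι : F.IsRealizedBy ι) {j : F.hyperfocalSubgroup p →* pResidual p G}
    (hj : IsRes ι (pResidual p G) j) {D : FusionSystem (F.hyperfocalSubgroup p)}
    (hD : D.IsRealizedBy j) : D.HasPPowerIndexIn F p := by
  refine ⟨Cfsg.Agent.Lib.H86TRRes.res_subsystem hι hj hD, le_rfl, fun P hP => ?_⟩
  have hPS : P ≤ S := hP.trans hj.1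
  rw [Subgroup.map_le_iff_le_comap]
  show Subgroup.closure {g : F.autGroup P | Nat.Coprime (orderOf g) p} ≤ _
  rw [Subgroup.closure_le]
  intro α hα
  show (α : MulAut P) ∈ D.autGroup P
  have hα' : (orderOf (α : MulAut P)).Coprime p := by
    rw [Subgroup.orderOf_coe]; exact hα
  obtain ⟨g, hg, hgx⟩ := Cfsg.Agent.Lib.H86TRLift.lift_p' hι hPS α.1 α.2 hα'
  have hgK : g ∈ pResidual p G := Subgroup.subset_closure hg
  rw [mem_autGroup_iff_isMap D hP α.1 (f := tot (P.subtype.comp α.1.toMonoidHom))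
    (fun x => (tot_apply (P.subtype.comp α.1.toMonoidHom) x).symm)]
  rw [Cfsg.Agent.Lib.H86TRRes.isMap_res_iff hj hD]
  refine ⟨hP, ?_, g, hgK, ?_⟩
  · intro x hx
    rw [tot_of_mem _ hx]
    exact hP (α.1 ⟨x, hx⟩).2
  · intro x hx
    rw [tot_of_mem _ hx]
    exact hgx ⟨x, hx⟩

end Cfsg.Agent.Lib.H86TRIdxP
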