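import Cfsg.Agent.Lib.Helper86TRDefs
import Cfsg.Agent.Lib.Helper87Fusion3
import Cfsg.Agent.Lib.Helper87Split
import Cfsg.Agent.Lib.Helper87Closed
import Cfsg.Agent.Lib.Helper87ZJ
import Cfsg.Agent.Lib.Helper86Sub
import Cfsg.Agent.Lib.Helper86Fusion3
import Cfsg.Agent.Lib.Helper88Normal
import Cfsg.Agent.Lib.H88McReal
import Cfsg.Agent.Lib.H86TRLift
import Cfsg.Agent.Lib.H86TRRes

set_option autoImplicit false

namespace Cfsg.Agent.Lib.H86TRIdxPP

open Cfsg Cfsg.FusionSystem Cfsg.Agent.Lib.Helper87Fusion Cfsg.Agent.Lib.Helper87Fusion2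
open Cfsg.Agent.Lib.Helper87Fusion3 Cfsg.Agent.Lib.Helper87Realized Cfsg.Agent.Lib.Helper86TRDefs

variable {Ω : Type*} [Group Ω] {S T : Subgroup Ω} {G : Type*} [Group G]

/-- PIECE IdxPP (35m).  `⟨H86TRRes.res_subsystem hι hj hE, fun P hP => ?_⟩`; `Subgroup.map_le_iff_le_comap`, `Subgroup.closure_le`; for `α : F.autGroup P` with `orderOf α = p ^ k`
(`Subgroup.orderOf_coe`) `H86TRLift.lift_p` gives a `p`-element `g`, `g ∈ Opp p G` (`Subgroup.subset_closure`); `(mem_autGroup_iff_isMap E hP α).2`/`mem_autGroup_iff_totA` +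
`H86TRRes.isMap_res_iff hj hE` (values `α x ∈ P ≤ S`). -/
theorem idx_pprime [Finite G] {p : ℕ} [Fact p.Prime] {F : FusionSystem S} {ι : S →* G}
    (hι : F.IsRealizedBy ι) {j : S →* Opp p G} (hj : IsRes ι (Opp p G) j) {E : FusionSystem S}
    (hE : E.IsRealizedBy j) : E.HasPrimeToPIndexIn F p := by
  refine ⟨H86TRRes.res_subsystem hι hj hE, fun P hP => ?_⟩
  rw [Subgroup.map_le_iff_le_comap, Subgroup.closure_le]
  rintro α ⟨k, hk⟩
  show ((α : MulAut P)) ∈ E.autGroup P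
  have hk' : orderOf (α : MulAut P) = p ^ k := by rw [Subgroup.orderOf_coe]; exact hk
  obtain ⟨g, hg, hgx⟩ := H86TRLift.lift_p hι hP (α : MulAut P) α.2 k hk'
  rw [mem_autGroup_iff_totA E hP, H86TRRes.isMap_res_iff hj hE]
  refine ⟨hP, fun x hx => hP (totA_mem _ hx), g, Subgroup.subset_closure hg, ?_⟩
  intro x hx
  rw [totA_of_mem _ hx]
  exact hgx ⟨x, hx⟩

end Cfsg.Agent.Lib.H86TRIdxPP
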