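import Cfsg.Agent.Lib.Helper86TRDefs
import Cfsg.Agent.Lib.Helper87Fusion3
import Cfsg.Agent.Lib.Helper87Split
import Cfsg.Agent.Lib.Helper87Closed
import Cfsg.Agent.Lib.Helper87ZJ
import Cfsg.Agent.Lib.Helper86Sub
import Cfsg.Agent.Lib.Helper86Fusion3
import Cfsg.Agent.Lib.Helper88Normal
import Cfsg.Agent.Lib.H88McReal
import Cfsg.Agent.Lib.Helper87Model


set_option autoImplicit false

namespace Cfsg.Agent.Lib.H86TRMinQ

open Cfsg Cfsg.FusionSystem Cfsg.Agent.Lib.Helper87Fusion Cfsg.Agent.Lib.Helper87Fusion2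
open Cfsg.Agent.Lib.Helper87Fusion3 Cfsg.Agent.Lib.Helper87Realized Cfsg.Agent.Lib.Helper86TRDefs
open Cfsg.Agent.Lib.Helper86Sub Cfsg.Agent.Lib.Helper86Fusion3

variable {Ω : Type*} [Group Ω] {S T : Subgroup Ω} {G : Type*} [Group G]

/-- PIECE MinQ.  `Q₀ = ι⁻¹(O_p(G))` is normal and centric in `F`. -/
theorem Q0_facts [Finite S] {p : ℕ} [Fact p.Prime] (hS : IsPGroup p S) {F : FusionSystem S}
    {ι : S →* G} (hM : F.IsModel p G ι) :
    hat ι (pull ι (pCore p G)) = pCore p G ∧ F.IsNormal (pull ι (pCore p G)) ∧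
      F.IsCentric (pull ι (pCore p G)) := by
  obtain ⟨hfin, hι, ⟨R, hR⟩, hc⟩ := id hM
  have hhat : hat ι (pull ι (pCore p G)) = pCore p G :=
    hat_pull (Cfsg.Agent.Lib.Helper87Model.pCore_le_range hM)
  have hcoreN : (pCore p G).Normal := Cfsg.Agent.Lib.Helper87Fusion3.pCore_normal p G
  have hQS : pull ι (pCore p G) ≤ S := pull_le _ _
  have hn : F.IsNormal (pull ι (pCore p G)) :=
    Cfsg.Agent.Lib.Helper87ZJ.isNormal_of_hat_normal hι hQS (by rw [hhat]; exact hcoreN)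
  have hF : F.IsSaturated p := saturated_of_realized hι R hR
  have hRc : centralizerIn S (pull ι (pCore p G)) ≤ pull ι (pCore p G) := by
    intro c hcc
    obtain ⟨hcS, hcC⟩ := Subgroup.mem_inf.1 hcc
    refine mem_pull.2 ⟨hcS, hc ?_⟩
    rw [Subgroup.mem_centralizer_iff]
    intro y hy
    have hy' : y ∈ hat ι (pull ι (pCore p G)) := by rw [hhat]; exact hy
    obtain ⟨x, hx, hxS, rfl⟩ := mem_hat.1 hy'
    rw [← iot_mul ι hxS hcS, ← iot_mul ι hcS hxS]
    congr 1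
    exact (Subgroup.mem_centralizer_iff.1 hcC) x hx
  obtain ⟨-, h₁, h₂⟩ := Cfsg.Agent.Lib.Helper86Fusion2.saturated_fullyNormalized hS hF
    (Cfsg.Agent.Lib.Helper87Split.fullyNormalized_of_stronglyClosed (normal_stronglyClosed hn))
  exact ⟨hhat, hn, centric_of_centralizerIn_le hS F _ h₁ h₂ hRc⟩

end Cfsg.Agent.Lib.H86TRMinQ
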