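import Cfsg.Agent.Lib.Helper86TRDefs
import Cfsg.Agent.Lib.Helper87Fusion3
import Cfsg.Agent.Lib.Helper87Split
import Cfsg.Agent.Lib.Helper87Closed
import Cfsg.Agent.Lib.Helper87ZJ
import Cfsg.Agent.Lib.Helper86Sub
import Cfsg.Agent.Lib.Helper86Fusion3
import Cfsg.Agent.Lib.Helper88Normal
import Cfsg.Agent.Lib.H88McReal
import Cfsg.Agent.Lib.H86TRMinQ
import Cfsg.Agent.Lib.H37PrBridge
import Cfsg.Agent.Lib.Helper87Model

set_option autoImplicit false

namespace Cfsg.Agent.Lib.H86TRMinA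

open Cfsg Cfsg.FusionSystem Cfsg.Agent.Lib.Helper87Fusion Cfsg.Agent.Lib.Helper87Fusion2
open Cfsg.Agent.Lib.Helper87Fusion3 Cfsg.Agent.Lib.Helper87Realized Cfsg.Agent.Lib.Helper86TRDefs

variable {Ω : Type*} [Group Ω] {S T : Subgroup Ω} {G : Type*} [Group G]

/-- PIECE MinA.  Conjugation by an element of `O^{p'}(G)` on `Q₀` is a map of every subsystem `D'` of index prime to `p`. -/
theorem aut_mem [Finite S] {p : ℕ} [Fact p.Prime] (hS : IsPGroup p S) {F : FusionSystem S}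
    {ι : S →* G} (hM : F.IsModel p G ι) (D' : FusionSystem S)
    (hD'i : D'.HasPrimeToPIndexIn F p) (n : G) (hn : n ∈ Opp p G) :
    ∃ b : Ω → Ω, IsMap D' (pull ι (pCore p G)) b ∧ ∀ x ∈ pull ι (pCore p G),
      b x ∈ pull ι (pCore p G) ∧ iot ι (b x) = n * iot ι x * n⁻¹ := by
  have hι : F.IsRealizedBy ι := hM.2.1
  have hcoreN : (pCore p G).Normal := Cfsg.Agent.Lib.Helper87Fusion3.pCore_normal p G
  have hrange : pCore p G ≤ ι.range := Cfsg.Agent.Lib.Helper87Model.pCore_le_range hM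
  have hQS : pull ι (pCore p G) ≤ S := pull_le _ _
  have hgen := Cfsg.Agent.Lib.H37PrBridge.gen hD'i
  unfold Opp at hn
  induction hn using Subgroup.closure_induction with
  | mem g hg =>
    obtain ⟨k, hk⟩ := hg
    have hc : ∀ x ∈ pull ι (pCore p G), g * iot ι x * g⁻¹ ∈ pCore p G := fun x hx =>
      hcoreN.conj_mem _ (mem_pull.1 hx).2 g
    have hb : ∀ x ∈ pull ι (pCore p G), kap ι (g * iot ι x * g⁻¹) ∈ pull ι (pCore p G) ∧
        iot ι (kap ι (g * iot ι x * g⁻¹)) = g * iot ι x * g⁻¹ := by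
      intro x hx
      have h1 := kap_spec ι (hrange (hc x hx))
      exact ⟨mem_pull.2 ⟨h1.1, by rw [h1.2]; exact hc x hx⟩, h1.2⟩
    have hF : IsMap F (pull ι (pCore p G)) (fun x => kap ι (g * iot ι x * g⁻¹)) :=
      (isMap_realized_iff hι).2 ⟨hQS, fun x hx => hQS (hb x hx).1, g, fun x hx => (hb x hx).2⟩
    have himg := Cfsg.Agent.Lib.Helper88Normal.image_eq_of_maps_to hF (fun x hx => (hb x hx).1)
    have hiter : ∀ (m : ℕ), ∀ x ∈ pull ι (pCore p G),
        (fun x => kap ι (g * iot ι x * g⁻¹))^[m] x ∈ pull ι (pCore p G) ∧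
        iot ι ((fun x => kap ι (g * iot ι x * g⁻¹))^[m] x) = g ^ m * iot ι x * (g ^ m)⁻¹ := by
      intro m
      induction m with
      | zero => intro x hx; simpa using hx
      | succ m ih =>
        intro x hx
        rw [Function.iterate_succ_apply']
        obtain ⟨h1, h2⟩ := ih x hx
        refine ⟨(hb _ h1).1, ?_⟩
        rw [(hb _ h1).2, h2, pow_succ']
        group
    refine ⟨_, hgen _ _ k hF himg (fun x hx => ?_), hb⟩
    obtain ⟨h1, h2⟩ := hiter (p ^ k) x hx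
    apply iot_inj hι.1 (hQS h1) (hQS hx)
    rw [h2, ← hk, pow_orderOf_eq_one]
    simp
  | one =>
    exact ⟨fun x => x, isMap_id' D' hQS, fun x hx => ⟨hx, by simp⟩⟩
  | mul a c _ _ iha ihc =>
    obtain ⟨ba, hba, hba'⟩ := iha
    obtain ⟨bc, hbc, hbc'⟩ := ihc
    refine ⟨fun x => ba (bc x), hbc.comp hba (fun x hx => (hbc' x hx).1), fun x hx => ?_⟩
    refine ⟨(hba' _ (hbc' x hx).1).1, ?_⟩
    rw [(hba' _ (hbc' x hx).1).2, (hbc' x hx).2]
    group
  | inv a _ iha =>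
    obtain ⟨ba, hba, hba'⟩ := iha
    have himg := Cfsg.Agent.Lib.Helper88Normal.image_eq_of_maps_to hba (fun x hx => (hba' x hx).1)
    obtain ⟨g, hg, -, hg2, hg3⟩ := hba.inv himg
    refine ⟨g, hg, fun x hx => ?_⟩
    have hgx : g x ∈ pull ι (pCore p G) := IsMap.mem_image hg3 hx
    refine ⟨hgx, ?_⟩
    have h1 := (hba' _ hgx).2
    rw [hg2 x hx] at h1
    rw [h1]
    group

end Cfsg.Agent.Lib.H86TRMinA
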