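import Cfsg.Agent.Lib.Helper86TRDefs
import Cfsg.Agent.Lib.Helper87Fusion3
import Cfsg.Agent.Lib.Helper87Split
import Cfsg.Agent.Lib.Helper87Closed
import Cfsg.Agent.Lib.Helper87ZJ
import Cfsg.Agent.Lib.Helper86Sub
import Cfsg.Agent.Lib.Helper86Fusion3
import Cfsg.Agent.Lib.Helper88Normal
import Cfsg.Agent.Lib.H88McReal
import Cfsg.Agent.Lib.H86TRMinQ
import Cfsg.Agent.Lib.H86TRMinA
import Cfsg.Agent.Lib.H86TRRes
import Cfsg.Agent.S5095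

set_option autoImplicit false

namespace Cfsg.Agent.Lib.H86TRMin

open Cfsg Cfsg.FusionSystem Cfsg.Agent.Lib.Helper87Fusion Cfsg.Agent.Lib.Helper87Fusion2
open Cfsg.Agent.Lib.Helper87Fusion3 Cfsg.Agent.Lib.Helper87Realized Cfsg.Agent.Lib.Helper86TRDefs

variable {Ω : Type*} [Group Ω] {S T : Subgroup Ω} {G : Type*} [Group G]

/-- PIECE Min.  Minimality of `F_S(O^{p'}(G))`. -/
theorem min_pprime [Finite S] {p : ℕ} [Fact p.Prime] (hS : IsPGroup p S) {F : FusionSystem S}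
    {ι : S →* G} (hM : F.IsModel p G ι) {j : S →* Opp p G} (hj : IsRes ι (Opp p G) j)
    {E : FusionSystem S} (hE : E.IsRealizedBy j) (D' : FusionSystem S)
    (hD's : D'.IsSaturated p) (hD'i : D'.HasPrimeToPIndexIn F p) : E.IsSubsystemOf D' := by
  intro P φ hφ
  rw [mem_hom_iff] at hφ ⊢
  set f := tot φ with hf
  obtain ⟨hPS, hfS, n, hn, hfn⟩ := (H86TRRes.isMap_res_iff hj hE).1 hφ
  obtain ⟨hfinG, hι, ⟨R, hR⟩, hcen⟩ := id hM
  have hF : F.IsSaturated p := saturated_of_realized hι R hR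
  set Q₀ := pull ι (pCore p G) with hQ₀
  obtain ⟨hhat, hQn, hQc⟩ := H86TRMinQ.Q0_facts hS hM
  rw [← hQ₀] at hhat hQn hQc
  have hQS : Q₀ ≤ S := pull_le _ _
  have hnorm : (hat ι Q₀).Normal := by
    rw [hhat]; infer_instance
  -- (1)
  have hle : P ⊔ Q₀ ≤ pull ι ((ι.range).comap (MulAut.conj n).toMonoidHom) := by
    refine sup_le (fun x hx => ?_) (fun x hx => ?_)
    · rw [mem_pull]
      refine ⟨hPS hx, ?_⟩
      show n * iot ι x * n⁻¹ ∈ ι.range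
      rw [← hfn x hx]
      exact iot_mem_range ι (hfS x hx)
    · rw [mem_pull]
      refine ⟨hQS hx, ?_⟩
      show n * iot ι x * n⁻¹ ∈ ι.range
      exact hat_le_range ι Q₀ (hnorm.conj_mem _ (iot_mem_hat hQS hx) n)
  have hr : ∀ x ∈ P ⊔ Q₀, n * iot ι x * n⁻¹ ∈ ι.range := fun x hx => (mem_pull.1 (hle hx)).2
  set fh : Ω → Ω := fun x => kap ι (n * iot ι x * n⁻¹) with hfh
  have hfhS : ∀ x ∈ P ⊔ Q₀, fh x ∈ S := fun x hx => (kap_spec ι (hr x hx)).1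
  have hfhi : ∀ x ∈ P ⊔ Q₀, iot ι (fh x) = n * iot ι x * n⁻¹ := fun x hx => (kap_spec ι (hr x hx)).2
  have hPQS : P ⊔ Q₀ ≤ S := sup_le hPS hQS
  have hfhF : IsMap F (P ⊔ Q₀) fh := (isMap_realized_iff hι).2 ⟨hPQS, hfhS, n, hfhi⟩
  have hfhP : ∀ x ∈ P, fh x = f x := by
    intro x hx
    apply iot_inj hι.1 (hfhS x (le_sup_left (a := P) hx)) (hfS x hx)
    rw [hfhi x (le_sup_left (a := P) hx), hfn x hx]
  -- (2)
  obtain ⟨b, hbD, hb⟩ := H86TRMinA.aut_mem hS hM D' hD'i n hn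
  rw [← hQ₀] at hbD hb
  have hbfh : ∀ x ∈ Q₀, b x = fh x := by
    intro x hx
    apply iot_inj hι.1 (hQS (hb x hx).1) (hfhS x (le_sup_right (a := P) hx))
    rw [(hb x hx).2, hfhi x (le_sup_right (a := P) hx)]
  have hbimg : b '' (Q₀ : Set Ω) = (Q₀ : Set Ω) :=
    Cfsg.Agent.Lib.Helper88Normal.image_eq_of_maps_to hbD (fun x hx => (hb x hx).1)
  -- (3)
  have hscF : F.StronglyClosed Q₀ := Cfsg.Agent.Lib.Helper86Sub.normal_stronglyClosed hQn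
  have hscD : D'.StronglyClosed Q₀ :=
    ⟨hscF.1, fun R' hR' ψ hψ x => hscF.2 R' hR' ψ (hD'i.1 R' hψ) x⟩
  have hfnD := Cfsg.Agent.Lib.Helper87Split.fullyNormalized_of_stronglyClosed hscD
  have hrec := (Cfsg.Agent.Lib.Helper86Fusion2.saturated_fullyNormalized hS hD's hfnD).2.2
  have hSn : S ≤ Subgroup.normalizer (Q₀ : Set Ω) := Cfsg.Agent.Lib.Helper88Quot.sc_le_normalizer hscF
  obtain ⟨b', hb'D, hb'b⟩ := isReceptive_extend (N := P ⊔ Q₀) hrec hbD hbimg (by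
    intro g hg
    refine ⟨hPQS hg, hSn (hPQS hg), fh g, hfhS g hg, fun x hx => ?_⟩
    have hgx : g * x * g⁻¹ ∈ Q₀ := (Subgroup.mem_normalizer_iff.1 (hSn (hPQS hg)) x).1 hx
    rw [hbfh _ hgx, hbfh x hx]
    exact hfhF.map_conj hg (le_sup_right (a := P) hx))
  -- (4)
  have hb'F : IsMap F (P ⊔ Q₀) b' := Cfsg.Agent.Lib.Helper88Normal.isMap_of_subsystem hD'i.1 hb'D
  obtain ⟨φ₁, hφ₁, h₁⟩ := hb'F
  obtain ⟨φ₂, hφ₂, h₂⟩ := id hfhF
  obtain ⟨z, hzQ, -, hz⟩ := Cfsg.Agent.S5095.result p hS F hF (P ⊔ Q₀) Q₀ le_sup_right hQc φ₁ φ₂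
    hφ₁ hφ₂ (by
      intro x hx
      rw [h₁, h₂, hb'b _ hx, hbfh _ hx])
  have hcz : IsMap D' (P ⊔ Q₀) (fun y => (z : Ω) * y * (z : Ω)⁻¹) := isMap_conj D' hPQS (hQS hzQ)
  have hcomp : IsMap D' (P ⊔ Q₀) (fun y => b' ((z : Ω) * y * (z : Ω)⁻¹)) :=
    hcz.comp hb'D (fun y hy => mul_mem (mul_mem z.2 hy) (inv_mem z.2))
  refine (hcomp.restrict le_sup_left).congr (fun y hy => ?_)
  have hy' : y ∈ P ⊔ Q₀ := le_sup_left (a := P) hy
  have := hz ⟨y, hy'⟩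
  rw [h₂, h₁] at this
  rw [← hfhP y hy]
  exact this.symm

end Cfsg.Agent.Lib.H86TRMin
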