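import Cfsg.Agent.Lib.Helper86TRDefs
import Cfsg.Agent.Lib.Helper87Fusion3
import Cfsg.Agent.Lib.Helper87Split
import Cfsg.Agent.Lib.Helper87Closed
import Cfsg.Agent.Lib.Helper87ZJ
import Cfsg.Agent.Lib.Helper86Sub
import Cfsg.Agent.Lib.Helper86Fusion3
import Cfsg.Agent.Lib.Helper88Normal
import Cfsg.Agent.Lib.H88McReal
import Cfsg.Agent.Lib.H86TRM1
import Cfsg.Agent.Lib.Helper87ConGrp

set_option autoImplicit false

namespace Cfsg.Agent.Lib.H86TRModel

open Cfsg Cfsg.FusionSystem Cfsg.Agent.Lib.Helper87Fusion Cfsg.Agent.Lib.Helper87Fusion2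
open Cfsg.Agent.Lib.Helper87Fusion3 Cfsg.Agent.Lib.Helper87Realized Cfsg.Agent.Lib.Helper86TRDefs

variable {Ω : Type*} [Group Ω] {S T : Subgroup Ω} {G : Type*} [Group G]

/-- PIECE Model (50m).  The restriction of a model to a normal subgroup is a model.
`Finite K`; `hD`; `H86TRM1.char_p_normal hM.2.2.2 K`; Sylow: `hM.2.2.1` gives `R : Sylow p G` with `(R : Subgroup G) = ι.range`.
`j.range = (ι.range ⊓ K).subgroupOf K` (`⊆`: `hj.2`, `iot_mem_range`; `⊇`: `y = iot ι x ∈ K`, `x ∈ S`, so `x ∈ T` by `hT`).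
`R ⊓ K` is a Sylow `p`-subgroup of the normal subgroup `K`: `Helper87ConGrp.sylIn_inf_of_subnormal`/`Helper87Sylow.SylIn`, `sylIn_iff`; or by hand: it is a `p`-group and
`(R ⊓ K).relIndex K = R.relIndex K` divides `R.index` (`Subgroup.relIndex_dvd_index_of_normal`-type: `K` normal gives `R.relIndex K = (R ⊔ K : _)…`; `Subgroup.relIndex_sup_left`),
prime to `p` (`Sylow.not_dvd_index`); then `IsPGroup.toSylow` / `Sylow.ofCard`. -/
theorem model_res [Finite S] {p : ℕ} [Fact p.Prime] {F : FusionSystem S} {ι : S →* G}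
    (hM : F.IsModel p G ι) (K : Subgroup G) [K.Normal] {j : T →* K} (hj : IsRes ι K j)
    (hT : ∀ x ∈ S, iot ι x ∈ K → x ∈ T) {D : FusionSystem T} (hD : D.IsRealizedBy j) :
    D.IsModel p K j := by
  obtain ⟨hfin, hreal, ⟨R, hR⟩, hchar⟩ := hM
  haveI := hfin
  refine ⟨inferInstance, hD, ?_, H86TRM1.char_p_normal hchar K⟩
  have hrange : j.range = (ι.range).subgroupOf K := by
    ext y
    rw [Subgroup.mem_subgroupOf]
    constructor
    · rintro ⟨x, rfl⟩
      rw [hj.2 x]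
      exact iot_mem_range ι (hj.1 x.2)
    · rintro ⟨s, hs⟩
      have h1 : iot ι (s : Ω) = (y : G) := by rw [iot_of_mem ι s.2]; exact hs
      have hsT : (s : Ω) ∈ T := hT s s.2 (by rw [h1]; exact y.2)
      refine ⟨⟨s, hsT⟩, ?_⟩
      apply Subtype.ext
      rw [hj.2]; exact h1
  rw [hrange, ← hR]
  have h2 := Cfsg.Agent.Lib.Helper87ConGrp.sylIn_inf_of_subnormal R
    (Subgroup.Normal.isSubnormal (inferInstance : K.Normal))
  obtain ⟨R', hR'⟩ := (Cfsg.Agent.Lib.Helper87Sylow.sylIn_iff inf_le_right).mp h2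
  refine ⟨R', ?_⟩
  rw [hR', Subgroup.inf_subgroupOf_right]

end Cfsg.Agent.Lib.H86TRModel
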