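import Cfsg.Agent.Lib.Helper86TRDefs
import Cfsg.Agent.Lib.Helper2Residual
import Cfsg.Agent.Lib.Helper87Closed
import Cfsg.Agent.Lib.H86TRRes
import Cfsg.Agent.Lib.H86TRModel
import Cfsg.Agent.Lib.H86TRIdxP
import Cfsg.Agent.Lib.H86TRHypR

set_option autoImplicit false

namespace Cfsg.Agent.Lib.H86TRP

open Cfsg Cfsg.FusionSystem Cfsg.Agent.Lib.Helper87Fusion Cfsg.Agent.Lib.Helper87Realized
open Cfsg.Agent.Lib.Helper86TRDefs

universe u
variable {Ω : Type u} [Group Ω] {S : Subgroup Ω}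

/-- the `p`-residual of a system with a model `G` is realized by `O^p(G)`, which is a model of it. -/
theorem p_step [Finite S] {p : ℕ} [Fact p.Prime] (hS : IsPGroup p S) (F : FusionSystem S)
    {G : Type u} [Group G] (ι : S →* G) (hM : F.IsModel p G ι) :
    ∃ (D : FusionSystem (F.hyperfocalSubgroup p)) (j : F.hyperfocalSubgroup p →* pResidual p G),
      F.IsPResidual p D ∧ D.IsModel p (pResidual p G) j := by
  have : Finite G := hM.1
  obtain ⟨R, hR⟩ := hM.2.2.1
  have hι := hM.2.1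
  have hhyp := H86TRHypR.hyp_realized hS hι R hR
  have hle : F.hyperfocalSubgroup p ≤ S := Cfsg.Agent.Lib.Helper87Closed.hyperfocal_le F p
  obtain ⟨j, D, hj, hD⟩ := H86TRRes.exists_res ι hι.1 (pResidual p G) (F.hyperfocalSubgroup p) hle
    (fun x hx => (hhyp x (hle hx)).1 hx)
  have := Cfsg.Agent.Lib.Helper2Residual.pResidual_normal (G := G) p
  have hmod := H86TRModel.model_res hM (pResidual p G) hj (fun x hx h => (hhyp x hx).2 h) hD
  obtain ⟨R', hR'⟩ := hmod.2.2.1
  exact ⟨D, j, ⟨saturated_of_realized hD R' hR', H86TRIdxP.idx_p hι hj hD⟩, hmod⟩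

end Cfsg.Agent.Lib.H86TRP
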