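import Cfsg.Agent.Lib.Helper86TRDefs
import Cfsg.Agent.Lib.H86TROpp
import Cfsg.Agent.Lib.H86TRRes
import Cfsg.Agent.Lib.H86TRModel
import Cfsg.Agent.Lib.H86TRIdxPP
import Cfsg.Agent.Lib.H86TRMin

set_option autoImplicit false

namespace Cfsg.Agent.Lib.H86TRPP

open Cfsg Cfsg.FusionSystem Cfsg.Agent.Lib.Helper87Fusion Cfsg.Agent.Lib.Helper87Realized
open Cfsg.Agent.Lib.Helper86TRDefs

universe u
variable {Ω : Type u} [Group Ω] {S : Subgroup Ω}

/-- the `p'`-residual of a system with a model `G` is realized by `O^{p'}(G)`, which is a model of it. -/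
theorem pp_step [Finite S] {p : ℕ} [Fact p.Prime] (hS : IsPGroup p S) (F : FusionSystem S)
    {G : Type u} [Group G] (ι : S →* G) (hM : F.IsModel p G ι) :
    ∃ (E : FusionSystem S) (j : S →* Opp p G), F.IsPPrimeResidual p E ∧ E.IsModel p (Opp p G) j := by
  have : Finite G := hM.1
  obtain ⟨R, hR⟩ := hM.2.2.1
  have hι := hM.2.1
  have hmem : ∀ x ∈ S, iot ι x ∈ Opp p G := fun x hx =>
    H86TROpp.mem_Opp_of_isPGroup (R := ι.range) (hR ▸ R.isPGroup') (iot_mem_range ι hx)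
  obtain ⟨j, E, hj, hE⟩ := H86TRRes.exists_res ι hι.1 (Opp p G) S le_rfl hmem
  have := H86TROpp.Opp_normal (G := G) p
  have hmod := H86TRModel.model_res hM (Opp p G) hj (fun x hx _ => hx) hE
  obtain ⟨R', hR'⟩ := hmod.2.2.1
  exact ⟨E, j, ⟨saturated_of_realized hE R' hR', H86TRIdxPP.idx_pprime hι hj hE,
    fun D' h1 h2 => H86TRMin.min_pprime hS hM hj hE D' h1 h2⟩, hmod⟩

end Cfsg.Agent.Lib.H86TRPP
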