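import Mathlib
import Cfsg.Prelude.Def_Local
import Cfsg.Agent.Lib.Helper60Core

set_option autoImplicit false

namespace Cfsg.Agent.Lib.Helper38PSolv

open Cfsg Cfsg.Agent.Lib.Helper60Core

variable {G : Type*} [Group G]

/-- Image of a `p`-solvable group under a surjective homomorphism is `p`-solvable. -/
theorem isPSolvable_of_surjective {p : ℕ} [Fact p.Prime] {G' : Type*} [Group G'] (f : G →* G')
    (hf : Function.Surjective f) (h : IsPSolvable p G) : IsPSolvable p G' := by
  obtain ⟨n, H, h0, hn, hmono, hnorm, hfac⟩ := h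
  refine ⟨n, fun i => (H i).map f, ?_, ?_, ?_, ?_, ?_⟩
  · simp [h0]
  · simp only [hn]
    rw [← MonoidHom.range_eq_map, MonoidHom.range_eq_top.2 hf]
  · intro i j hij
    exact Subgroup.map_mono (hmono hij)
  · intro i
    exact (hnorm i).map f hf
  · intro i
    have hle : H i.castSucc ≤ H i.succ := hmono (Fin.castSucc_le_succ i)
    have hdvd : ((H i.castSucc).map f).relIndex ((H i.succ).map f) ∣
        (H i.castSucc).relIndex (H i.succ) := by
      rw [Subgroup.relIndex_map_map]
      have : (H i.castSucc).Normal := hnorm _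
      have e : H i.succ ⊔ f.ker = H i.succ ⊔ (H i.castSucc ⊔ f.ker) := by
        rw [← sup_assoc, sup_eq_left.2 hle]
      rw [e, Subgroup.relIndex_sup_right]
      exact Subgroup.relIndex_dvd_of_le_left _ le_sup_left
    rcases hfac i with ⟨m, hm⟩ | hc
    · left
      rw [hm] at hdvd
      obtain ⟨k, _, hk⟩ := (Nat.dvd_prime_pow Fact.out).1 hdvd
      exact ⟨k, hk⟩
    · right
      exact Nat.Coprime.coprime_dvd_left hdvd hc

theorem isPSolvable_quotient {p : ℕ} [Fact p.Prime] (N : Subgroup G) [N.Normal]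
    (h : IsPSolvable p G) : IsPSolvable p (G ⧸ N) :=
  isPSolvable_of_surjective (QuotientGroup.mk' N) (QuotientGroup.mk'_surjective N) h

/-- A nontrivial `p`-solvable group has a nontrivial normal subgroup that is a `p`-group or has
order prime to `p`. -/
theorem exists_normal_of_isPSolvable {p : ℕ} [Fact p.Prime] [Nontrivial G]
    (h : IsPSolvable p G) :
    ∃ N : Subgroup G, N.Normal ∧ N ≠ ⊥ ∧ (IsPGroup p N ∨ (Nat.card N).Coprime p) := by
  obtain ⟨n, H, h0, hn, hmono, hnorm, hfac⟩ := h
  by_contra hcon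
  have hall : ∀ k : ℕ, ∀ hk : k < n + 1, H ⟨k, hk⟩ = ⊥ := by
    intro k
    induction k with
    | zero => intro hk; exact h0
    | succ k ih =>
      intro hk
      by_contra hne
      have hk' : k < n := by omega
      have h1 : H (Fin.castSucc ⟨k, hk'⟩) = ⊥ := ih (by omega)
      have h2 := hfac ⟨k, hk'⟩
      rw [h1, Subgroup.relIndex_bot_left] at h2
      have h3 : (Fin.succ ⟨k, hk'⟩ : Fin (n + 1)) = ⟨k + 1, hk⟩ := rfl
      rw [h3] at h2
      apply hcon
      refine ⟨H ⟨k + 1, hk⟩, hnorm _, hne, ?_⟩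
      rcases h2 with ⟨m, hm⟩ | hc
      · left; exact IsPGroup.of_card hm
      · right; exact hc
  have : H (Fin.last n) = ⊥ := hall n (by omega)
  rw [hn] at this
  exact top_ne_bot this

end Cfsg.Agent.Lib.Helper38PSolv
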