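import Cfsg.Agent.Lib.H87DLLin2
import Cfsg.Agent.S4218
import Cfsg.Agent.S0012

/-!
Project 3789 (row S3789), piece Act.
-/

set_option autoImplicit false

namespace Cfsg.Agent.Lib.H87DLAct

open Cfsg
open scoped commutatorElement

/-- `exists_lin2` for a group with a commutativity hypothesis -/
theorem lin2' (r : ℕ) [Fact r.Prime] (A : Type*) [Group A] [Finite A]
    (hc : ∀ a b : A, a * b = b * a)
    (hA : ∀ x : A, x ^ r = 1) (K : Type*) [Field K] [CharP K r] :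
    ∃ (d : ℕ) (L : MulAut A →* (Module.End K (Fin d → K))ˣ), Function.Injective L ∧
      (∀ f g : MulAut A, (∀ v : A, f (g v * v⁻¹) * (g v * v⁻¹)⁻¹ = 1) →
        (((L f : (Module.End K (Fin d → K))ˣ) : Module.End K (Fin d → K)) - 1)
          * (((L g : (Module.End K (Fin d → K))ˣ) : Module.End K (Fin d → K)) - 1) = 0) ∧
      (∀ f g h : MulAut A,
        (∀ v : A, f (g (h v * v⁻¹) * (h v * v⁻¹)⁻¹) * (g (h v * v⁻¹) * (h v * v⁻¹)⁻¹)⁻¹ = 1) →
        (((L f : (Module.End K (Fin d → K))ˣ) : Module.End K (Fin d → K)) - 1)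
          * (((L g : (Module.End K (Fin d → K))ˣ) : Module.End K (Fin d → K)) - 1)
          * (((L h : (Module.End K (Fin d → K))ˣ) : Module.End K (Fin d → K)) - 1) = 0) :=
  @Cfsg.Agent.Lib.H87DLLin2.exists_lin2 r _ A { (inferInstance : Group A) with mul_comm := hc } _
    hA K _ _

/-- The action of a `p`-solvable group `H₁` with `O_{p'}(H₁) = 1` on `V/Φ(V)`, `V = O_p(H₁)`, as a linear representation over `K` (char `p`) with kernel `V`.

Construction. `V = pCore p H₁` (normal, a `p`-group: `Helper60Core.pCore_isPGroup`), `Φ = (frattini V).map V.subtype` (normal in `H₁`: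
`ConjAct.normal_of_characteristic_of_normal`, see `S4218.core`), `X = H₁ ⧸ Φ`, `E = V.map (mk' Φ)` normal in `X`; `E` is commutative of exponent `p` (`S0012.result`:
commutators and `p`-th powers of `V` lie in `frattini V`); put the `CommGroup` structure on `↥E` (`{ (inferInstance : Group E) with mul_comm := _ }`).
`c = MulAut.conjNormal : X →* MulAut ↥E`; `L` from `H87DLLin2.exists_lin2 p ↥E _ K`; `φ = L.comp (c.comp (mk' Φ))`.
* kernel: `φ g = 1 ↔ c (mk g) = 1 ↔ ∀ v ∈ V, g v g⁻¹ v⁻¹ ∈ Φ ↔ g ∈ V` (`→`: `S4218.core hs h0 g`; `←`: commutators of `V` lie in `Φ`).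
* the two identities: every element of `E` is `mk v`, `v ∈ V`; `(c (mk g)) (mk v) * (mk v)⁻¹ = mk (g v g⁻¹ v⁻¹)`; `Commute f w` gives `f w f⁻¹ w⁻¹ = 1`. -/
theorem exists_act {H₁ : Type*} [Group H₁] [Finite H₁] {p : ℕ} [Fact p.Prime]
    (hs : IsPSolvable p H₁) (h0 : pPrimeCore p H₁ = ⊥) (K : Type*) [Field K] [CharP K p] :
    ∃ (d : ℕ) (φ : H₁ →* (Module.End K (Fin d → K))ˣ), (∀ g, φ g = 1 ↔ g ∈ pCore p H₁) ∧
      (∀ f g : H₁, (∀ v ∈ pCore p H₁, Commute f (g * v * g⁻¹ * v⁻¹)) →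
        (((φ f : (Module.End K (Fin d → K))ˣ) : Module.End K (Fin d → K)) - 1)
          * (((φ g : (Module.End K (Fin d → K))ˣ) : Module.End K (Fin d → K)) - 1) = 0) ∧
      (∀ f g h : H₁, (∀ v ∈ pCore p H₁,
          Commute f (g * (h * v * h⁻¹ * v⁻¹) * g⁻¹ * (h * v * h⁻¹ * v⁻¹)⁻¹)) →
        (((φ f : (Module.End K (Fin d → K))ˣ) : Module.End K (Fin d → K)) - 1)
          * (((φ g : (Module.End K (Fin d → K))ˣ) : Module.End K (Fin d → K)) - 1)
          * (((φ h : (Module.End K (Fin d → K))ˣ) : Module.End K (Fin d → K)) - 1) = 0) := by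
  obtain ⟨V, hVdef⟩ : ∃ V : Subgroup H₁, V = pCore p H₁ := ⟨_, rfl⟩
  have hVn : V.Normal := by rw [hVdef]; infer_instance
  have hVp : IsPGroup p V := by rw [hVdef]; exact Cfsg.Agent.Lib.Helper60Core.pCore_isPGroup p
  obtain ⟨Φ, hΦdef⟩ : ∃ Φ : Subgroup H₁, Φ = (frattini V).map V.subtype := ⟨_, rfl⟩
  have hΦn : Φ.Normal := by rw [hΦdef]; exact ConjAct.normal_of_characteristic_of_normal
  obtain ⟨hfc, hfp⟩ := Cfsg.Agent.S0012.result p hVp
  have hcommΦ : ∀ a ∈ V, ∀ b ∈ V, a * b * a⁻¹ * b⁻¹ ∈ Φ := by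
    intro a ha b hb
    rw [hΦdef]
    refine Subgroup.mem_map.2 ⟨⁅(⟨a, ha⟩ : V), ⟨b, hb⟩⁆, hfc
      (Subgroup.commutator_mem_commutator (Subgroup.mem_top _) (Subgroup.mem_top _)), ?_⟩
    rw [commutatorElement_def]
    rfl
  have hpowΦ : ∀ a ∈ V, a ^ p ∈ Φ := by
    intro a ha
    rw [hΦdef]
    exact Subgroup.mem_map.2 ⟨(⟨a, ha⟩ : V) ^ p, hfp _, rfl⟩
  obtain ⟨E, hEdef⟩ : ∃ E : Subgroup (H₁ ⧸ Φ), E = V.map (QuotientGroup.mk' Φ) := ⟨_, rfl⟩
  have hEn : E.Normal := by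
    rw [hEdef]; exact hVn.map _ (QuotientGroup.mk'_surjective Φ)
  have hEex : ∀ e : E, ∃ v ∈ V, (e : H₁ ⧸ Φ) = QuotientGroup.mk' Φ v := by
    intro e
    have : (e : H₁ ⧸ Φ) ∈ V.map (QuotientGroup.mk' Φ) := hEdef ▸ e.2
    obtain ⟨v, hv, hve⟩ := Subgroup.mem_map.1 this
    exact ⟨v, hv, hve.symm⟩
  have hEc : ∀ a b : E, a * b = b * a := by
    intro a b
    obtain ⟨v, hv, hva⟩ := hEex a
    obtain ⟨w, hw, hwb⟩ := hEex b
    apply Subtype.ext
    rw [Subgroup.coe_mul, Subgroup.coe_mul, hva, hwb, ← map_mul, ← map_mul]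
    apply QuotientGroup.eq.2
    have := hcommΦ w⁻¹ (V.inv_mem hw) v⁻¹ (V.inv_mem hv)
    convert this using 1
    group
  have hEp : ∀ a : E, a ^ p = 1 := by
    intro a
    obtain ⟨v, hv, hva⟩ := hEex a
    apply Subtype.ext
    rw [Subgroup.coe_pow, hva, ← map_pow]
    exact (QuotientGroup.eq_one_iff _).2 (hpowΦ v hv)
  obtain ⟨d, L, hLinj, hL2, hL3⟩ := lin2' p ↥E hEc hEp K
  let c : (H₁ ⧸ Φ) →* MulAut ↥E := MulAut.conjNormal
  have hval : ∀ (a : H₁) (e : E), ((c (QuotientGroup.mk' Φ a) e : E) : H₁ ⧸ Φ) =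
      QuotientGroup.mk' Φ a * e * (QuotientGroup.mk' Φ a)⁻¹ := fun a e =>
    MulAut.conjNormal_apply _ _
  -- difference
  have hdiff : ∀ (g v : H₁) (e : E), (e : H₁ ⧸ Φ) = QuotientGroup.mk' Φ v →
      ((c (QuotientGroup.mk' Φ g) e * e⁻¹ : E) : H₁ ⧸ Φ) =
        QuotientGroup.mk' Φ (g * v * g⁻¹ * v⁻¹) := by
    intro g v e he
    rw [Subgroup.coe_mul, Subgroup.coe_inv, hval, he]
    simp only [map_mul, map_inv]
  have hfix : ∀ (f w : H₁) (y : E), (y : H₁ ⧸ Φ) = QuotientGroup.mk' Φ w → Commute f w →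
      c (QuotientGroup.mk' Φ f) y * y⁻¹ = 1 := by
    intro f w y hy hfw
    rw [mul_inv_eq_one]
    apply Subtype.ext
    rw [hval, hy, ← map_inv, ← map_mul, ← map_mul, hfw.eq, mul_inv_cancel_right]
  refine ⟨d, L.comp (c.comp (QuotientGroup.mk' Φ)), ?_, ?_, ?_⟩
  · intro g
    rw [← hVdef]
    show L (c (QuotientGroup.mk' Φ g)) = 1 ↔ _
    rw [map_eq_one_iff L hLinj]
    constructor
    · intro h1
      rw [hVdef]
      apply Cfsg.Agent.S4218.core hs h0 g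
      rw [← hVdef, ← hΦdef]
      intro x hx
      have hxE : QuotientGroup.mk' Φ x ∈ E := by
        rw [hEdef]; exact Subgroup.mem_map_of_mem _ hx
      have h2 := hdiff g x ⟨_, hxE⟩ rfl
      rw [h1, MulAut.one_apply, mul_inv_cancel] at h2
      exact (QuotientGroup.eq_one_iff _).1 h2.symm
    · intro hg
      ext e
      obtain ⟨v, hv, hve⟩ := hEex e
      have h2 := hdiff g v e hve
      have h2' : QuotientGroup.mk' Φ (g * v * g⁻¹ * v⁻¹) = 1 :=
        (QuotientGroup.eq_one_iff _).2 (hcommΦ g hg v hv)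
      rw [h2'] at h2
      have h3 : c (QuotientGroup.mk' Φ g) e * e⁻¹ = 1 := Subtype.ext h2
      rw [mul_inv_eq_one] at h3
      rw [h3]
      rfl
  · intro f g hfg
    apply hL2
    intro e
    obtain ⟨v, hv, hve⟩ := hEex e
    exact hfix f _ _ (hdiff g v e hve) (hfg v (hVdef ▸ hv))
  · intro f g h hfgh
    apply hL3
    intro e
    obtain ⟨v, hv, hve⟩ := hEex e
    exact hfix f _ _ (hdiff g _ _ (hdiff h v e hve)) (hfgh v (hVdef ▸ hv))

end Cfsg.Agent.Lib.H87DLAct
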