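import Cfsg.Agent.Lib.Helper92HHDefs

/-!
# Vocabulary of PROJECT 3789 (row S3789: p-length ≤ derived length of a Sylow p-subgroup, p odd)
-/

set_option autoImplicit false

namespace Cfsg.Agent.Lib.Helper87DLDefs

open Cfsg.Agent.Lib.Helper92HHDefs

/-- helper92's `MinData` without the field `mini`. -/
structure MinData' {Γ : Type*} [Group Γ] (p q n : ℕ) (Q : Subgroup Γ) (X : Γ) : Prop where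
  fin : Finite Q
  pgrp : IsPGroup q Q
  norm : ∀ u ∈ Q, X * u * X⁻¹ ∈ Q
  pow : X ^ p ^ n = 1
  npos : 1 ≤ n
  /-- `C_Q(τ) ≤ Z(Q)` -/
  cent : ∀ d ∈ Q, Commute (X ^ p ^ (n - 1)) d → ∀ u ∈ Q, Commute d u
  /-- `Q' ≤ C_Q(τ)` -/
  der : ∀ u ∈ Q, ∀ v ∈ Q, Commute (X ^ p ^ (n - 1)) (u * v * u⁻¹ * v⁻¹)
  /-- `Q = [Q, τ]` -/
  gen : Q ≤ Subgroup.closure
    {w | ∃ u ∈ Q, w = X ^ p ^ (n - 1) * u * (X ^ p ^ (n - 1))⁻¹ * u⁻¹}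
  ne : ∃ u ∈ Q, ¬ Commute (X ^ p ^ (n - 1)) u
  /-- `C_{Q/N}(τ) = C_Q(τ)N/N` -/
  lift : ∀ N : Subgroup Γ, N ≤ Q → (∀ u ∈ Q, ∀ m ∈ N, u * m * u⁻¹ ∈ N) →
    (∀ m ∈ N, X ^ p ^ (n - 1) * m * (X ^ p ^ (n - 1))⁻¹ ∈ N) →
    ∀ u ∈ Q, X ^ p ^ (n - 1) * u * (X ^ p ^ (n - 1))⁻¹ * u⁻¹ ∈ N →
      ∃ d ∈ Q, Commute (X ^ p ^ (n - 1)) d ∧ u * d⁻¹ ∈ N

end Cfsg.Agent.Lib.Helper87DLDefs
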