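import Mathlib
import Cfsg.Agent.Lib.Helper87DLDefs

set_option autoImplicit false

namespace Cfsg.Agent.Lib.H87DLHeisOn

open Polynomial Cfsg.Agent.Lib.Helper92HHDefs Cfsg.Agent.Lib.Helper87DLDefs

variable {K V : Type*} [Field K] [AddCommGroup V] [Module K V]

/-- compatibility of an operator on `U` with an operator on `V`. -/
def Cmp (U : Submodule K V) (E : (Module.End K U)ˣ) (G : (Module.End K V)ˣ) : Prop :=
  ∀ u : U, (((E : Module.End K U) u : U) : V) = (G : Module.End K V) (u : V)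

theorem Cmp.one (U : Submodule K V) : Cmp U 1 1 := fun u => by simp

theorem Cmp.mul {U : Submodule K V} {E E' : (Module.End K U)ˣ} {G G' : (Module.End K V)ˣ}
    (h : Cmp U E G) (h' : Cmp U E' G') : Cmp U (E * E') (G * G') := fun u => by
  rw [Units.val_mul, Units.val_mul, Module.End.mul_apply, Module.End.mul_apply, h, h']

theorem Cmp.inv {U : Submodule K V} {E : (Module.End K U)ˣ} {G : (Module.End K V)ˣ}
    (h : Cmp U E G) : Cmp U E⁻¹ G⁻¹ := fun u => by
  have h1 := h (((E⁻¹ : (Module.End K U)ˣ) : Module.End K U) u)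
  rw [← Module.End.mul_apply, Units.mul_inv, Module.End.one_apply] at h1
  rw [h1, ← Module.End.mul_apply, Units.inv_mul, Module.End.one_apply]

theorem Cmp.pow {U : Submodule K V} {E : (Module.End K U)ˣ} {G : (Module.End K V)ˣ}
    (h : Cmp U E G) (k : ℕ) : Cmp U (E ^ k) (G ^ k) := by
  induction k with
  | zero => rw [pow_zero, pow_zero]; exact Cmp.one U
  | succ k ih => rw [pow_succ, pow_succ]; exact ih.mul h

theorem Cmp.ext {U : Submodule K V} {E E' : (Module.End K U)ˣ} {G : (Module.End K V)ˣ}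
    (h : Cmp U E G) (h' : Cmp U E' G) : E = E' :=
  Units.ext (LinearMap.ext fun u => Subtype.ext (by rw [h u, h' u]))

theorem exists_pow_eq {G : Type*} [Group G] (α : G) (p e i : ℕ) [Fact p.Prime]
    (hN : α ^ (p ^ (e + 1)) = 1) (hi : 0 < i) (hi' : i < p ^ (e + 1)) :
    ∃ j, (α ^ i) ^ j = α ^ (p ^ e) := by
  have hg1 : Nat.gcd i (p ^ (e + 1)) ∣ p ^ (e + 1) := Nat.gcd_dvd_right _ _
  have hg2 : Nat.gcd i (p ^ (e + 1)) ≤ i := Nat.le_of_dvd hi (Nat.gcd_dvd_left _ _)
  obtain ⟨f, hf, hgf⟩ := (Nat.dvd_prime_pow Fact.out).1 hg1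
  have hf' : f < e + 1 := by
    have : p ^ f < p ^ (e + 1) := by rw [← hgf]; omega
    exact (Nat.pow_lt_pow_iff_right (Fact.out : p.Prime).one_lt).1 this
  obtain ⟨m, _, hm⟩ := Nat.exists_mul_mod_eq_gcd (k := p ^ (e + 1)) (n := i) (by omega)
  refine ⟨m * p ^ (e - f), ?_⟩
  rw [← pow_mul, ← mul_assoc, pow_mul, pow_eq_pow_mod (i * m) hN, hm, hgf, ← pow_mul, ← pow_add]
  congr 2
  omega

theorem sc_commute {W : Type*} [AddCommGroup W] [Module K W] {E : (Module.End K W)ˣ}
    (h : IsSc (E : Module.End K W)) (F : (Module.End K W)ˣ) : F * E = E * F := by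
  obtain ⟨c, hc⟩ := h
  apply Units.ext
  rw [Units.val_mul, Units.val_mul, hc]
  simp

theorem smul_one_eq_one {U : Submodule K V} (hU : U ≠ ⊥) {c : K}
    (h : c • (1 : Module.End K U) = 1) : c = 1 := by
  obtain ⟨x, hx, hx0⟩ := Submodule.exists_mem_ne_zero_of_ne_bot hU
  have h1 := congrArg (fun f : Module.End K U => ((f ⟨x, hx⟩ : U) : V)) h
  simp only [LinearMap.smul_apply, Module.End.one_apply, Submodule.coe_smul] at h1
  have h2 : (c - 1) • x = 0 := by rw [sub_smul, h1, one_smul, sub_self]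
  rcases smul_eq_zero.1 h2 with h3 | h3
  · exact sub_eq_zero.1 h3
  · exact absurd h3 hx0

/-- PIECE HeisOn. -/
theorem heis_on (p q n : ℕ) [Fact p.Prime] [Fact q.Prime] (hpq : p ≠ q)
    (Q : Subgroup (Module.End K V)ˣ) (X : (Module.End K V)ˣ) (hM : MinData' p q n Q X)
    (U : Submodule K V) (a : ℕ) (ha : a < n) (hC : CritSit p Q X U a)
    (ρ : ↥Q →* (Module.End K ↥U)ˣ) (α : MulAut ↥Q) (Y : (Module.End K ↥U)ˣ)
    (h1 : ∀ (g : ↥Q) (u : ↥U), (((ρ g : (Module.End K ↥U)ˣ) : Module.End K ↥U) u : V)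
        = ((g : (Module.End K V)ˣ) : Module.End K V) (u : V))
    (h2 : ∀ u : ↥U, (((Y : Module.End K ↥U) u : ↥U) : V)
        = ((X ^ p ^ a : (Module.End K V)ˣ) : Module.End K V) (u : V))
    (h3 : ∀ g : ↥Q, ((α g : ↥Q) : (Module.End K V)ˣ) = X ^ p ^ a * g * (X ^ p ^ a)⁻¹) :
    Heis q ρ α Y (p ^ (n - a)) ∧
    (∀ W : Submodule K ↥U,
      (∀ g, ∀ w ∈ W, ((ρ g : (Module.End K ↥U)ˣ) : Module.End K ↥U) w ∈ W) →
      (∀ w ∈ W, (Y : Module.End K ↥U) w ∈ W) → W = ⊥ ∨ W = ⊤) := by
  have c1 : ∀ g : Q, Cmp U (ρ g) (g : (Module.End K V)ˣ) := h1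
  have c2 : Cmp U Y (X ^ p ^ a) := h2
  have hU : U ≠ ⊥ := hC.1.1
  have hXN : (X ^ p ^ a) ^ (p ^ (n - a)) = 1 := by
    rw [← pow_mul, ← pow_add, Nat.add_sub_cancel' ha.le, hM.pow]
  have hτ : (X ^ p ^ a) ^ (p ^ (n - 1 - a)) = X ^ p ^ (n - 1) := by
    rw [← pow_mul, ← pow_add]
    congr 2
    omega
  have hα : ∀ (k : ℕ) (g : Q), (((α ^ k) g : Q) : (Module.End K V)ˣ)
      = (X ^ p ^ a) ^ k * g * ((X ^ p ^ a) ^ k)⁻¹ := by
    intro k
    induction k with
    | zero => intro g; simp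
    | succ k ih =>
      intro g
      rw [pow_succ', MulAut.mul_apply, h3, ih, pow_succ']
      group
  have tw' : ∀ (k : ℕ) (u : Q), Y ^ k * ρ u * (Y ^ k)⁻¹ = ρ ((α ^ k) u) := by
    intro k u
    exact Cmp.ext (((c2.pow k).mul (c1 u)).mul (c2.pow k).inv) (hα k u ▸ c1 _)
  have hYN : Y ^ (p ^ (n - a)) = 1 := by
    have := c2.pow (p ^ (n - a))
    rw [hXN] at this
    exact Cmp.ext this (Cmp.one U)
  have hαN : α ^ (p ^ (n - a)) = 1 := by
    ext g
    rw [hα, hXN]
    simp
  have L1 : ∀ b : Q, IsScOn ((b : (Module.End K V)ˣ) : Module.End K V) U →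
      IsSc ((ρ b : (Module.End K ↥U)ˣ) : Module.End K ↥U) := by
    rintro b ⟨c, hc⟩
    refine ⟨c, LinearMap.ext fun w => Subtype.ext ?_⟩
    rw [h1 b w, hc _ w.2]
    simp
  have L2 : ∀ b : Q, (∀ g, Commute (ρ b) (ρ g)) →
      IsSc ((ρ b : (Module.End K ↥U)ˣ) : Module.End K ↥U) := by
    intro b hb
    apply L1
    apply hC.2.1 b b.2
    intro g hg u hu
    have e1 := ((c1 b).mul (c1 ⟨g, hg⟩)) ⟨u, hu⟩
    have e2 := ((c1 ⟨g, hg⟩).mul (c1 b)) ⟨u, hu⟩
    rw [(hb ⟨g, hg⟩).eq, e2] at e1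
    simpa [Units.val_mul, Module.End.mul_apply] using e1.symm
  have L3 : ∀ d : Q, Commute (X ^ p ^ (n - 1)) (d : (Module.End K V)ˣ) →
      IsSc ((ρ d : (Module.End K ↥U)ˣ) : Module.End K ↥U) := by
    intro d hd
    apply L2
    intro g
    have : Commute d g := Subtype.ext (hM.cent d d.2 hd g g.2).eq
    exact this.map ρ
  have hker : ∀ (k : ℕ) (m : Q), ρ m = 1 → ρ ((α ^ k) m) = 1 := by
    intro k m hm
    rw [← tw', hm]
    simp
  refine ⟨?_, ?_⟩
  · refine
      { fin := hM.fin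
        pgrp := hM.pgrp
        tw := ?_
        pow := hYN
        apow := hαN
        two_le := ?_
        comm_sc := ?_
        nondeg := L2
        free := ?_
        nonsc := ?_ }
    · intro u
      have := tw' 1 u
      simpa using this
    · calc 2 ≤ p := (Fact.out : p.Prime).two_le
        _ = p ^ 1 := (pow_one p).symm
        _ ≤ p ^ (n - a) := Nat.pow_le_pow_right (Fact.out : p.Prime).pos (by omega)
    · intro u v
      apply L3
      have := hM.der u u.2 v v.2
      simpa using this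
    · intro u i hi hiN hc
      obtain ⟨c, hc⟩ := hc
      have hA : ∀ j : ℕ, ((ρ (((α ^ i) ^ j) u) : (Module.End K ↥U)ˣ) : Module.End K ↥U)
          = c ^ j • ((ρ u : (Module.End K ↥U)ˣ) : Module.End K ↥U) := by
        intro j
        induction j with
        | zero => simp
        | succ j ih =>
          rw [pow_succ', MulAut.mul_apply, ← tw', Units.val_mul, Units.val_mul, ih,
            mul_smul_comm, smul_mul_assoc, ← Units.val_mul, ← Units.val_mul, tw', hc, smul_smul,
            pow_succ]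
      have hB : c ^ (p ^ (n - a)) = 1 := by
        have h := hA (p ^ (n - a))
        rw [← pow_mul, mul_comm, pow_mul, hαN, one_pow, MulAut.one_apply] at h
        apply smul_one_eq_one hU
        have h' := congrArg (fun f => f * (((ρ u)⁻¹ : (Module.End K ↥U)ˣ) : Module.End K ↥U)) h
        simp only [smul_mul_assoc, Units.mul_inv] at h'
        exact h'.symm
      have hz : ((ρ ((α ^ i) u * u⁻¹) : (Module.End K ↥U)ˣ) : Module.End K ↥U)
          = c • (1 : Module.End K ↥U) := by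
        rw [map_mul, map_inv, Units.val_mul, hc, smul_mul_assoc, Units.mul_inv]
      have hCc : c ^ (Nat.card Q) = 1 := by
        apply smul_one_eq_one hU
        have hfin := hM.fin
        have e : ((α ^ i) u * u⁻¹) ^ (Nat.card Q) = 1 := pow_card_eq_one'
        have e2 := congrArg (fun x => ((ρ x : (Module.End K ↥U)ˣ) : Module.End K ↥U)) e
        simp only [map_pow, Units.val_pow_eq_pow_val, hz, map_one, Units.val_one, _root_.smul_pow,
          one_pow] at e2
        exact e2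
      have hc1 : c = 1 := by
        have hfin := hM.fin
        obtain ⟨k, hk⟩ := IsPGroup.iff_card.1 hM.pgrp
        rw [hk] at hCc
        have hcop : Nat.Coprime (p ^ (n - a)) (q ^ k) :=
          Nat.Coprime.pow _ _ ((Nat.coprime_primes Fact.out Fact.out).2 hpq)
        exact (pow_eq_one_iff_of_coprime hcop).1 ⟨hB, hCc⟩
      have hA' : ∀ j : ℕ, ρ (((α ^ i) ^ j) u) = ρ u := by
        intro j
        apply Units.ext
        rw [hA, hc1]
        simp
      have hna : n - a = (n - 1 - a) + 1 := by omega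
      obtain ⟨j, hj⟩ := exists_pow_eq α p (n - 1 - a) i (by rw [← hna]; exact hαN) hi
        (by rw [← hna]; exact hiN)
      have hfix : ρ ((α ^ (p ^ (n - 1 - a))) u) = ρ u := by rw [← hj]; exact hA' j
      obtain ⟨d, hd, hdc, hdu⟩ := hM.lift ((ρ.ker).map Q.subtype) (Subgroup.map_subtype_le _)
        (by
          rintro v hv _ ⟨m, hm, rfl⟩
          refine ⟨⟨v, hv⟩ * m * ⟨v, hv⟩⁻¹, ?_, rfl⟩
          exact (inferInstance : ρ.ker.Normal).conj_mem m hm _)
        (by
          rintro _ ⟨m, hm, rfl⟩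
          refine ⟨(α ^ (p ^ (n - 1 - a))) m, hker _ m hm, ?_⟩
          rw [Subgroup.coe_subtype, hα, hτ])
        u u.2
        (by
          refine ⟨(α ^ (p ^ (n - 1 - a))) u * u⁻¹, ?_, ?_⟩
          · rw [SetLike.mem_coe, MonoidHom.mem_ker, map_mul, hfix, map_inv, mul_inv_cancel]
          · rw [Subgroup.coe_subtype, Subgroup.coe_mul, hα, hτ]
            rfl)
      obtain ⟨m, hm, hmu⟩ := hdu
      have hmu' : m = u * (⟨d, hd⟩ : Q)⁻¹ := Subtype.ext hmu
      have hρ : ρ u = ρ ⟨d, hd⟩ := by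
        have : ρ (u * (⟨d, hd⟩ : Q)⁻¹) = 1 := by rw [← hmu']; exact hm
        rw [map_mul, map_inv, mul_inv_eq_one] at this
        exact this
      rw [hρ]
      exact L3 ⟨d, hd⟩ hdc
    · by_contra hall
      simp only [not_exists, not_not] at hall
      have hfix : ∀ u : Q, ρ ((α ^ (p ^ (n - 1 - a))) u) = ρ u := by
        intro u
        rw [← tw', sc_commute (hall u), mul_assoc, mul_inv_cancel, mul_one]
      have hle : Subgroup.closure {w | ∃ u ∈ Q, w = X ^ p ^ (n - 1) * u * (X ^ p ^ (n - 1))⁻¹ * u⁻¹}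
          ≤ (ρ.ker).map Q.subtype := by
        rw [Subgroup.closure_le]
        rintro _ ⟨u, hu, rfl⟩
        refine ⟨(α ^ (p ^ (n - 1 - a))) ⟨u, hu⟩ * ⟨u, hu⟩⁻¹, ?_, ?_⟩
        · rw [SetLike.mem_coe, MonoidHom.mem_ker, map_mul, hfix, map_inv, mul_inv_cancel]
        · rw [Subgroup.coe_subtype, Subgroup.coe_mul, hα, hτ]
          rfl
      have htriv : ∀ g : Q, ρ g = 1 := by
        intro g
        obtain ⟨m, hm, hmg⟩ := hle (hM.gen g.2)
        have : m = g := Subtype.ext hmg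
        rw [← this]; exact hm
      apply hU
      rw [Submodule.eq_bot_iff]
      intro v hv
      apply hC.1.2.2.2 v hv
      intro g hg
      have := h1 ⟨g, hg⟩ ⟨v, hv⟩
      rw [htriv] at this
      simpa using this.symm
  · intro W hW1 hW2
    have := hC.2.2 (W.map U.subtype) (Submodule.map_subtype_le _ _)
      (by
        rintro g hg _ ⟨w, hw, rfl⟩
        refine ⟨_, hW1 ⟨g, hg⟩ w hw, ?_⟩
        exact h1 ⟨g, hg⟩ w)
      (by
        rintro _ ⟨w, hw, rfl⟩
        exact ⟨_, hW2 w hw, h2 w⟩)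
    rcases this with h | h
    · left
      rw [Submodule.eq_bot_iff]
      intro w hw
      have : (w : V) ∈ W.map U.subtype := ⟨w, hw, rfl⟩
      rw [h, Submodule.mem_bot] at this
      exact Subtype.ext this
    · right
      rw [Submodule.eq_top_iff']
      intro x
      have : (x : V) ∈ W.map U.subtype := by rw [h]; exact x.2
      obtain ⟨w, hw, hwx⟩ := this
      have : w = x := Subtype.ext hwx
      rw [← this]; exact hw

end Cfsg.Agent.Lib.H87DLHeisOn
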