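import Cfsg.Agent.Lib.H92HHLin

/-!
Project 3789 (row S3789), piece Lin2: variant of `H92HHLin.exists_lin` (helper92).
-/

set_option autoImplicit false

namespace Cfsg.Agent.Lib.H87DLLin2

theorem exists_lin2_aux (r : ℕ) [Fact r.Prime] (A : Type*) [CommGroup A] [Finite A]
    [Module (ZMod r) (Additive A)] (K : Type*) [Field K] [CharP K r] :
    ∃ (d : ℕ) (L : MulAut A →* (Module.End K (Fin d → K))ˣ), Function.Injective L ∧
      (∀ f g : MulAut A, (∀ v : A, f (g v * v⁻¹) * (g v * v⁻¹)⁻¹ = 1) →
        (((L f : (Module.End K (Fin d → K))ˣ) : Module.End K (Fin d → K)) - 1)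
          * (((L g : (Module.End K (Fin d → K))ˣ) : Module.End K (Fin d → K)) - 1) = 0) ∧
      (∀ f g h : MulAut A,
        (∀ v : A, f (g (h v * v⁻¹) * (h v * v⁻¹)⁻¹) * (g (h v * v⁻¹) * (h v * v⁻¹)⁻¹)⁻¹ = 1) →
        (((L f : (Module.End K (Fin d → K))ˣ) : Module.End K (Fin d → K)) - 1)
          * (((L g : (Module.End K (Fin d → K))ˣ) : Module.End K (Fin d → K)) - 1)
          * (((L h : (Module.End K (Fin d → K))ˣ) : Module.End K (Fin d → K)) - 1) = 0) := by
  classical
  letI : Algebra (ZMod r) K := ZMod.algebra K r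
  haveI : Module.Finite (ZMod r) (Additive A) := Module.Finite.of_finite
  obtain ⟨d, Φ, hΦ, -⟩ := Cfsg.Agent.Lib.H92HHBase.exists_base (F := ZMod r) (V := Additive A) K
  let ρ₀ : MulAut A →* Module.End (ZMod r) (Additive A) :=
    { toFun := fun h => AddMonoidHom.toZModLinearMap r (MonoidHom.toAdditive h.toMonoidHom)
      map_one' := by
        apply LinearMap.ext; intro x
        simp
      map_mul' := by
        intro g h
        apply LinearMap.ext; intro x
        simp }
  have hρ₀ : ∀ (h : MulAut A) (v : Additive A), ρ₀ h v = Additive.ofMul (h v.toMul) := fun _ _ => rfl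
  have hsub : ∀ (h : MulAut A) (v : Additive A),
      (ρ₀ h - 1) v = Additive.ofMul (h v.toMul * (v.toMul)⁻¹) := by
    intro h v
    rw [LinearMap.sub_apply, Module.End.one_apply, hρ₀, sub_eq_add_neg]
    rfl
  let M : MulAut A →* Module.End K (Fin d → K) := Φ.toMonoidHom.comp ρ₀
  have hM : ∀ x, M x = Φ (ρ₀ x) := fun _ => rfl
  have hMinj : Function.Injective M := by
    intro g h hgh
    have h1 : ρ₀ g = ρ₀ h := hΦ hgh
    ext v
    have := congrArg (fun f : Module.End (ZMod r) (Additive A) => (f (Additive.ofMul v)).toMul) h1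
    simpa [hρ₀] using this
  have hL : ∀ x, ((M.toHomUnits x : (Module.End K (Fin d → K))ˣ) : Module.End K (Fin d → K)) - 1
      = Φ (ρ₀ x - 1) := by
    intro x
    rw [map_sub, map_one]
    rfl
  refine ⟨d, M.toHomUnits, ?_, ?_, ?_⟩
  · intro g h hgh
    apply hMinj
    have := congrArg (fun u : (Module.End K (Fin d → K))ˣ => (u : Module.End K (Fin d → K))) hgh
    simpa using this
  · intro f g hfg
    rw [hL, hL, ← map_mul]
    have h2 : (ρ₀ f - 1) * (ρ₀ g - 1) = 0 := by
      apply LinearMap.ext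
      intro v
      rw [Module.End.mul_apply, hsub g, hsub f, LinearMap.zero_apply]
      have := hfg v.toMul
      simp only [toMul_ofMul]
      rw [this]
      rfl
    rw [h2, map_zero]
  · intro f g h hfgh
    rw [hL, hL, hL, ← map_mul, ← map_mul]
    have h2 : (ρ₀ f - 1) * (ρ₀ g - 1) * (ρ₀ h - 1) = 0 := by
      apply LinearMap.ext
      intro v
      rw [Module.End.mul_apply, Module.End.mul_apply, hsub h, hsub g, hsub f, LinearMap.zero_apply]
      have := hfgh v.toMul
      simp only [toMul_ofMul]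
      rw [this]
      rfl
    rw [h2, map_zero]

/-- Linearisation of the automorphism group of an elementary abelian `r`-group over a field `K` of characteristic `r`, transporting products of "differences".
COPY the proof of `Cfsg/Agent/Lib/H92HHLin.lean` (`exists_lin_aux`, `exists_lin`; 73 lines): `Φ : End_{ZMod r}(Additive A) →+* End_K(K^d)` injective ring hom
(`H92HHBase.exists_base`), `ρ₀ : MulAut A →* End_{ZMod r}(Additive A)`, `L x = Φ (ρ₀ x)` as a unit. Then `(L f - 1) (L g - 1) = Φ ((ρ₀ f - 1) (ρ₀ g - 1))` and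
`((ρ₀ f - 1) (ρ₀ g - 1)) (ofMul v) = ofMul (f (g v * v⁻¹) * (g v * v⁻¹)⁻¹)`; the same for three factors. -/
theorem exists_lin2 (r : ℕ) [Fact r.Prime] (A : Type*) [CommGroup A] [Finite A]
    (hA : ∀ x : A, x ^ r = 1) (K : Type*) [Field K] [CharP K r] :
    ∃ (d : ℕ) (L : MulAut A →* (Module.End K (Fin d → K))ˣ), Function.Injective L ∧
      (∀ f g : MulAut A, (∀ v : A, f (g v * v⁻¹) * (g v * v⁻¹)⁻¹ = 1) →
        (((L f : (Module.End K (Fin d → K))ˣ) : Module.End K (Fin d → K)) - 1)
          * (((L g : (Module.End K (Fin d → K))ˣ) : Module.End K (Fin d → K)) - 1) = 0) ∧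
      (∀ f g h : MulAut A,
        (∀ v : A, f (g (h v * v⁻¹) * (h v * v⁻¹)⁻¹) * (g (h v * v⁻¹) * (h v * v⁻¹)⁻¹)⁻¹ = 1) →
        (((L f : (Module.End K (Fin d → K))ˣ) : Module.End K (Fin d → K)) - 1)
          * (((L g : (Module.End K (Fin d → K))ˣ) : Module.End K (Fin d → K)) - 1)
          * (((L h : (Module.End K (Fin d → K))ˣ) : Module.End K (Fin d → K)) - 1) = 0) := by
  letI : Module (ZMod r) (Additive A) := AddCommGroup.zmodModule (n := r) (fun x => by
    induction x using Additive.rec with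
    | _ x => rw [← ofMul_pow, hA]; rfl)
  exact exists_lin2_aux r A K

end Cfsg.Agent.Lib.H87DLLin2
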