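import Cfsg.Agent.Lib.Helper87DLDefs

/-!
Project 3789 (row S3789), piece MinQD: port of helper84's `H92HHMinQ` to a group `D` of operators and a central element `x` of order `p`.
-/

set_option autoImplicit false

namespace Cfsg.Agent.Lib.H87DLMinQD

open Cfsg.Agent.Lib.Helper92HHDefs Cfsg.Agent.Lib.Helper87DLDefs

theorem exists_mini {Γ : Type*} [Group Γ] (D : Subgroup Γ) (t : Γ) : ∀ (k : ℕ) (Q : Subgroup Γ) [Finite Q],
    Nat.card Q = k → (∀ d ∈ D, ∀ u ∈ Q, d * u * d⁻¹ ∈ Q) → (∃ u ∈ Q, ¬ Commute t u) →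
    ∃ Q₁ : Subgroup Γ, Q₁ ≤ Q ∧ (∀ d ∈ D, ∀ u ∈ Q₁, d * u * d⁻¹ ∈ Q₁) ∧ (∃ u ∈ Q₁, ¬ Commute t u) ∧
      ∀ Q₂ : Subgroup Γ, Q₂ ≤ Q₁ → (∀ d ∈ D, ∀ u ∈ Q₂, d * u * d⁻¹ ∈ Q₂) → Q₂ ≠ Q₁ →
        ∀ u ∈ Q₂, Commute t u := by
  intro k
  induction k using Nat.strong_induction_on with
  | _ k ih =>
    intro Q _ hk hn hne
    by_cases hm : ∀ Q₂ : Subgroup Γ, Q₂ ≤ Q → (∀ d ∈ D, ∀ u ∈ Q₂, d * u * d⁻¹ ∈ Q₂) → Q₂ ≠ Q →
        ∀ u ∈ Q₂, Commute t u
    · exact ⟨Q, le_rfl, hn, hne, hm⟩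
    · simp only [not_forall] at hm
      obtain ⟨Q₂, h1, h2, h3, u, hu, hc⟩ := hm
      have : Finite Q₂ := Finite.of_injective _ (Subgroup.inclusion_injective h1)
      have hlt : Nat.card Q₂ < k := by
        by_contra hge
        rw [not_lt, ← hk] at hge
        exact h3 (Subgroup.eq_of_le_of_card_ge h1 hge)
      obtain ⟨Q₁, a1, a2, a3, a4⟩ := ih _ hlt Q₂ rfl h2 ⟨u, hu, hc⟩
      exact ⟨Q₁, a1.trans h1, a2, a3, a4⟩

theorem minData'_of {Γ : Type*} [Group Γ] (p q : ℕ) [Fact p.Prime] [Fact q.Prime] (hpq : p ≠ q)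
    (D Q : Subgroup Γ) [Finite Q] (hQ : IsPGroup q Q) (x : Γ) (hxD : x ∈ D)
    (hxc : ∀ d ∈ D, Commute d x) (hDQ : ∀ d ∈ D, ∀ u ∈ Q, d * u * d⁻¹ ∈ Q)
    (hpow : x ^ p = 1) (hne : ∃ u ∈ Q, ¬ Commute x u)
    (mini : ∀ Q₂ : Subgroup Γ, Q₂ ≤ Q → (∀ d ∈ D, ∀ u ∈ Q₂, d * u * d⁻¹ ∈ Q₂) → Q₂ ≠ Q →
        ∀ u ∈ Q₂, Commute x u) :
    MinData' p q 1 Q x := by
  obtain ⟨t, ht⟩ : ∃ t : Γ, t = x ^ p ^ (1 - 1) := ⟨_, rfl⟩
  have htx : t = x := by rw [ht]; simp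
  rw [← htx] at hne mini
  have htp : t ^ p = 1 := by rw [htx, hpow]
  have hDt : ∀ d ∈ D, Commute d t := by rw [htx]; exact hxc
  have htQ : ∀ u ∈ Q, t * u * t⁻¹ ∈ Q := by rw [htx]; exact hDQ x hxD
  have hcop : Nat.Coprime p q := (Nat.coprime_primes Fact.out Fact.out).2 hpq
  have key1 : ∀ c ∈ Q, c ^ p = 1 → c = 1 := by
    intro c hc hcp
    obtain ⟨k, hk⟩ := hQ ⟨c, hc⟩
    have hk' : c ^ q ^ k = 1 := by
      have := congrArg Subtype.val hk
      simpa using this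
    have h1 := orderOf_dvd_of_pow_eq_one hcp
    have h2 := orderOf_dvd_of_pow_eq_one hk'
    have h3 : orderOf c ∣ 1 := by
      have := Nat.dvd_gcd h1 h2
      rwa [Nat.Coprime.pow_right k hcop] at this
    exact orderOf_eq_one_iff.1 (Nat.dvd_one.1 h3)
  have gen : Q ≤ Subgroup.closure {w | ∃ u ∈ Q, w = t * u * t⁻¹ * u⁻¹} := by
    by_contra hgen
    have hCQ : Subgroup.closure {w | ∃ u ∈ Q, w = t * u * t⁻¹ * u⁻¹} ≤ Q := by
      rw [Subgroup.closure_le]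
      rintro _ ⟨u, hu, rfl⟩
      exact Q.mul_mem (htQ u hu) (Q.inv_mem hu)
    have hCinv : ∀ X ∈ D, ∀ w ∈ Subgroup.closure {w | ∃ u ∈ Q, w = t * u * t⁻¹ * u⁻¹},
        X * w * X⁻¹ ∈ Subgroup.closure {w | ∃ u ∈ Q, w = t * u * t⁻¹ * u⁻¹} := by
      intro X hX w hw
      have hXt : Commute X t := hDt X hX
      have hn : ∀ u ∈ Q, X * u * X⁻¹ ∈ Q := hDQ X hX
      induction hw using Subgroup.closure_induction with
      | mem x hx =>
        obtain ⟨u, hu, rfl⟩ := hx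
        apply Subgroup.subset_closure
        refine ⟨X * u * X⁻¹, hn u hu, ?_⟩
        have e1 : X * t = t * X := hXt.eq
        have e2 : t⁻¹ * X⁻¹ = X⁻¹ * t⁻¹ := by rw [← mul_inv_rev, ← mul_inv_rev, e1]
        calc X * (t * u * t⁻¹ * u⁻¹) * X⁻¹ = (X * t) * u * t⁻¹ * u⁻¹ * X⁻¹ := by group
          _ = t * X * u * (X⁻¹ * t⁻¹) * X * u⁻¹ * X⁻¹ := by rw [e1, ← e2]; group
          _ = t * (X * u * X⁻¹) * t⁻¹ * (X * u * X⁻¹)⁻¹ := by group
      | one => simp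
      | mul a b _ _ ha hb =>
        have e : X * (a * b) * X⁻¹ = (X * a * X⁻¹) * (X * b * X⁻¹) := by group
        rw [e]; exact Subgroup.mul_mem _ ha hb
      | inv a _ ha =>
        have e : X * a⁻¹ * X⁻¹ = (X * a * X⁻¹)⁻¹ := by group
        rw [e]; exact Subgroup.inv_mem _ ha
    have hC := mini _ hCQ hCinv (by
      intro h; apply hgen; rw [h])
    obtain ⟨u, hu, hcu⟩ := hne
    apply hcu
    have hc : Commute t (t * u * t⁻¹ * u⁻¹) := hC _ (Subgroup.subset_closure ⟨u, hu, rfl⟩)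
    have hcQ : t * u * t⁻¹ * u⁻¹ ∈ Q := hCQ (Subgroup.subset_closure ⟨u, hu, rfl⟩)
    have hk : ∀ k : ℕ, t ^ k * u * (t ^ k)⁻¹ = (t * u * t⁻¹ * u⁻¹) ^ k * u := by
      intro k
      induction k with
      | zero => simp
      | succ k ih =>
        have e : t ^ (k + 1) * u * (t ^ (k + 1))⁻¹ = t * (t ^ k * u * (t ^ k)⁻¹) * t⁻¹ := by
          rw [pow_succ']; group
        rw [e, ih]
        have h2 : t * (t * u * t⁻¹ * u⁻¹) ^ k = (t * u * t⁻¹ * u⁻¹) ^ k * t := (hc.pow_right k).eq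
        calc t * ((t * u * t⁻¹ * u⁻¹) ^ k * u) * t⁻¹
            = (t * (t * u * t⁻¹ * u⁻¹) ^ k) * u * t⁻¹ := by group
          _ = (t * u * t⁻¹ * u⁻¹) ^ k * (t * u * t⁻¹ * u⁻¹) * u := by rw [h2]; group
          _ = (t * u * t⁻¹ * u⁻¹) ^ (k + 1) * u := by rw [pow_succ]
    have hp := hk p
    rw [htp] at hp
    have hcp : (t * u * t⁻¹ * u⁻¹) ^ p = 1 := by
      have : (t * u * t⁻¹ * u⁻¹) ^ p * u = 1 * u := by rw [← hp]; simp
      exact mul_right_cancel this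
    have h1 := key1 _ hcQ hcp
    have : t * u = u * t := by
      calc t * u = (t * u * t⁻¹ * u⁻¹) * u * t := by group
        _ = u * t := by rw [h1]; simp
    exact this
  have der : ∀ u ∈ Q, ∀ v ∈ Q, Commute t (u * v * u⁻¹ * v⁻¹) := by
    intro u hu v hv
    have hle : ⁅Q, Q⁆ ≤ Q := Subgroup.commutator_le_self Q
    have hinv : ∀ X ∈ D, ∀ w ∈ ⁅Q, Q⁆, X * w * X⁻¹ ∈ ⁅Q, Q⁆ := by
      intro X hX w hw
      have hn : ∀ u ∈ Q, X * u * X⁻¹ ∈ Q := hDQ X hX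
      have hm : Q.map (MulAut.conj X).toMonoidHom ≤ Q := by
        rintro _ ⟨u, hu, rfl⟩
        exact hn u hu
      have h1 : (MulAut.conj X).toMonoidHom w ∈ (⁅Q, Q⁆).map (MulAut.conj X).toMonoidHom :=
        Subgroup.mem_map_of_mem _ hw
      rw [Subgroup.map_commutator] at h1
      exact Subgroup.commutator_mono hm hm h1
    have hne' : ⁅Q, Q⁆ ≠ Q := by
      intro h
      have : Group.IsNilpotent Q := hQ.isNilpotent
      have : Nontrivial Q := by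
        obtain ⟨u, hu, hcu⟩ := hne
        refine ⟨⟨⟨u, hu⟩, 1, ?_⟩⟩
        intro h1
        apply hcu
        have : u = 1 := congrArg Subtype.val h1
        rw [this]; exact Commute.one_right t
      have h2 := Group.IsSolvable.commutator_lt_top_of_nontrivial Q
      apply h2.ne
      apply Subgroup.map_injective Q.subtype_injective
      rw [Subgroup.map_subtype_commutator, h, ← MonoidHom.range_eq_map, Subgroup.range_subtype]
    have := mini _ hle hinv hne' _ (Subgroup.commutator_mem_commutator hu hv)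
    rwa [commutatorElement_def] at this
  have cent : ∀ d ∈ Q, Commute t d → ∀ u ∈ Q, Commute d u := by
    intro d hd htd u hu
    have hle : Subgroup.closure {w | ∃ u ∈ Q, w = t * u * t⁻¹ * u⁻¹}
        ≤ Subgroup.centralizer {d} := by
      rw [Subgroup.closure_le]
      rintro _ ⟨u, hu, rfl⟩
      rw [SetLike.mem_coe, Subgroup.mem_centralizer_singleton_iff]
      have hc := der u⁻¹ (Q.inv_mem hu) d hd
      have he : Commute t (u⁻¹ * d * u) := by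
        have := hc.mul_right htd
        have e : u⁻¹ * d * u⁻¹⁻¹ * d⁻¹ * d = u⁻¹ * d * u := by group
        rwa [e] at this
      calc t * u * t⁻¹ * u⁻¹ * d = t * u * (t⁻¹ * (u⁻¹ * d * u)) * u⁻¹ := by group
        _ = t * u * ((u⁻¹ * d * u) * t⁻¹) * u⁻¹ := by rw [he.inv_left.eq]
        _ = (t * d) * u * t⁻¹ * u⁻¹ := by group
        _ = d * t * u * t⁻¹ * u⁻¹ := by rw [htd.eq]
        _ = d * (t * u * t⁻¹ * u⁻¹) := by group
    have := hle (gen hu)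
    rw [Subgroup.mem_centralizer_singleton_iff] at this
    exact this.symm
  have lift : ∀ N : Subgroup Γ, N ≤ Q → (∀ u ∈ Q, ∀ m ∈ N, u * m * u⁻¹ ∈ N) →
      (∀ m ∈ N, t * m * t⁻¹ ∈ N) → ∀ u ∈ Q, t * u * t⁻¹ * u⁻¹ ∈ N →
      ∃ d ∈ Q, Commute t d ∧ u * d⁻¹ ∈ N := by
    intro N hNQ _ hNt u hu hc
    classical
    have : Finite N := Finite.of_injective _ (Subgroup.inclusion_injective hNQ)
    have : Fintype N := Fintype.ofFinite N
    let f : Function.End N := fun m => ⟨t * m * t⁻¹ * (t * u * t⁻¹ * u⁻¹),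
      N.mul_mem (hNt _ m.2) hc⟩
    have hf : ∀ (k : ℕ) (m : N), (((f ^ k) m : N) : Γ) * u = t ^ k * (m * u) * (t ^ k)⁻¹ := by
      intro k
      induction k with
      | zero =>
        intro m
        rw [pow_zero, pow_zero]
        change (m : Γ) * u = _
        simp
      | succ k ih =>
        intro m
        rw [pow_succ']
        change ((f ((f ^ k) m) : N) : Γ) * u = _
        have e : ((f ((f ^ k) m) : N) : Γ) * u = t * ((((f ^ k) m : N) : Γ) * u) * t⁻¹ := by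
          change t * (((f ^ k) m : N) : Γ) * t⁻¹ * (t * u * t⁻¹ * u⁻¹) * u = _
          group
        rw [e, ih, pow_succ']
        group
    have hfp : f ^ p ^ 1 = 1 := by
      funext m
      apply Subtype.ext
      have := hf p m
      rw [htp] at this
      rw [pow_one]
      have h2 : (((f ^ p) m : N) : Γ) * u = (m : Γ) * u := by rw [this]; simp
      exact mul_right_cancel h2
    have hmod := Equiv.Perm.card_fixedPoints_modEq (p := p) hfp
    have hNp : IsPGroup q N := hQ.to_le hNQ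
    obtain ⟨k, hk⟩ := IsPGroup.iff_card.1 hNp
    have hnd : ¬ p ∣ Fintype.card N := by
      rw [← Nat.card_eq_fintype_card, hk]
      intro h
      have := (Nat.Prime.dvd_of_dvd_pow Fact.out h)
      exact hpq ((Nat.prime_dvd_prime_iff_eq Fact.out Fact.out).1 this)
    have hpos : 0 < Fintype.card (Function.fixedPoints f) := by
      by_contra h0
      have h0' : Fintype.card (Function.fixedPoints f) = 0 := by omega
      rw [h0'] at hmod
      exact hnd (Nat.modEq_zero_iff_dvd.1 hmod)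
    obtain ⟨⟨m, hm⟩⟩ := Fintype.card_pos_iff.1 hpos
    have hm' : t * (m : Γ) * t⁻¹ * (t * u * t⁻¹ * u⁻¹) = m := congrArg Subtype.val hm
    refine ⟨m * u, Q.mul_mem (hNQ m.2) hu, ?_, ?_⟩
    · have : t * ((m : Γ) * u) = (m : Γ) * u * t := by
        calc t * ((m : Γ) * u) = (t * (m : Γ) * t⁻¹ * (t * u * t⁻¹ * u⁻¹)) * u * t := by group
          _ = (m : Γ) * u * t := by rw [hm']
      exact this
    · have e : u * ((m : Γ) * u)⁻¹ = (m : Γ)⁻¹ := by group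
      rw [e]; exact N.inv_mem m.2
  subst ht
  exact
    { fin := inferInstance
      pgrp := hQ
      norm := hDQ x hxD
      pow := by simpa using hpow
      npos := le_rfl
      cent := cent
      der := der
      gen := gen
      ne := hne
      lift := lift }

/-- PIECE MinQD. -/
theorem exists_min {Γ : Type*} [Group Γ] (p q : ℕ) [Fact p.Prime] [Fact q.Prime] (hpq : p ≠ q)
    (D Q : Subgroup Γ) [Finite Q] (hQ : IsPGroup q Q) (x : Γ) (hxD : x ∈ D)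
    (hxc : ∀ d ∈ D, Commute d x) (hDQ : ∀ d ∈ D, ∀ u ∈ Q, d * u * d⁻¹ ∈ Q)
    (hpow : x ^ p = 1) (hne : ∃ u ∈ Q, ¬ Commute x u) :
    ∃ Q₁ : Subgroup Γ, Q₁ ≤ Q ∧ MinData' p q 1 Q₁ x ∧ (∀ d ∈ D, ∀ u ∈ Q₁, d * u * d⁻¹ ∈ Q₁) ∧
      (∃ u ∈ Q₁, ¬ Commute x u) ∧
      ∀ Q₂ : Subgroup Γ, Q₂ ≤ Q₁ → (∀ d ∈ D, ∀ u ∈ Q₂, d * u * d⁻¹ ∈ Q₂) → Q₂ ≠ Q₁ →
        ∀ u ∈ Q₂, Commute x u := by
  obtain ⟨Q₁, h1, h2, h3, h4⟩ := exists_mini D x _ Q rfl hDQ hne
  have : Finite Q₁ := Finite.of_injective _ (Subgroup.inclusion_injective h1)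
  exact ⟨Q₁, h1, minData'_of p q hpq D Q₁ (hQ.to_le h1) x hxD hxc h2 hpow h3 h4, h2, h3, h4⟩

end Cfsg.Agent.Lib.H87DLMinQD
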