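import Cfsg.Agent.Lib.H92HHPsol

/-!
Project 3789 (row S3789), piece PsolD: port of `H92HHPsol.exists_q` (helper77) from a cyclic group to a `p`-subgroup `D`.
-/

set_option autoImplicit false

namespace Cfsg.Agent.Lib.H87DLPsolD

/-- a subgroup containing a Sylow subgroup for every prime is everything -/
theorem eq_top_of_sylow {L : Type*} [Group L] [Finite L] (C : Subgroup L)
    (h : ∀ q : ℕ, ∀ _ : Fact q.Prime, ∃ P : Sylow q L, (P : Subgroup L) ≤ C) : C = ⊤ := by
  have hdvd : Nat.card L ∣ Nat.card C := by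
    rw [← Nat.factorization_prime_le_iff_dvd Nat.card_pos.ne' Nat.card_pos.ne']
    intro q hq
    haveI : Fact q.Prime := ⟨hq⟩
    obtain ⟨P, hP⟩ := h q ⟨hq⟩
    rw [← hq.pow_dvd_iff_le_factorization Nat.card_pos.ne', ← Sylow.card_eq_multiplicity P]
    exact Subgroup.card_dvd_of_le hP
  exact Subgroup.eq_top_of_card_eq C (Nat.dvd_antisymm (Subgroup.card_subgroup_dvd_card C) hdvd)

theorem exists_q {H : Type*} [Group H] [Finite H] (p : ℕ) [Fact p.Prime]
    (hsol : Cfsg.IsPSolvable p H) (hOp : Cfsg.pCore p H = ⊥) (D : Subgroup H) (hD : IsPGroup p D)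
    (x : H) (hx : x ∈ D) (hx1 : x ≠ 1) :
    ∃ (q : ℕ) (Q : Subgroup H), q.Prime ∧ q ≠ p ∧ IsPGroup q Q ∧
      (∀ d ∈ D, ∀ u ∈ Q, d * u * d⁻¹ ∈ Q) ∧ ∃ u ∈ Q, ¬ Commute x u := by
  classical
  have hp : p.Prime := Fact.out
  by_contra hcon
  have hcon' : ∀ (q : ℕ) (Q : Subgroup H), q.Prime → q ≠ p → IsPGroup q Q →
      (∀ d ∈ D, ∀ u ∈ Q, d * u * d⁻¹ ∈ Q) → ∀ u ∈ Q, Commute x u := by
    intro q Q h1 h2 h3 h4 u hu
    by_contra h5
    exact hcon ⟨q, Q, h1, h2, h3, h4, u, hu, h5⟩
  set L := Cfsg.pPrimeCore p H with hL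
  have hLn : L.Normal := Cfsg.Agent.Lib.Helper40Cores.pPrimeCore_normal
  have hLc : (Nat.card L).Coprime p := Cfsg.Agent.Lib.Helper40Cores.pPrimeCore_coprime
  obtain ⟨n, hDcard⟩ := IsPGroup.iff_card.mp hD
  have hAL : D ≤ Subgroup.normalizer (L : Set H) := by
    rw [Subgroup.normalizer_eq_top]
    exact le_top
  have hcop : (Nat.card D).Coprime (Nat.card L) := by
    rw [hDcard]
    exact (Nat.Coprime.pow_right n hLc).symm
  have hAsol : Group.IsSolvable D := by
    haveI := hD.isNilpotent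
    infer_instance
  set C : Subgroup L := (Subgroup.centralizer ({x} : Set H)).subgroupOf L with hC
  have hCtop : C = ⊤ := by
    apply eq_top_of_sylow
    intro q hq
    obtain ⟨P, hP⟩ := Cfsg.Agent.S0023.result D L hAL hcop (Or.inl hAsol) q
    refine ⟨P, ?_⟩
    intro u hu
    rw [hC, Subgroup.mem_subgroupOf, Subgroup.mem_centralizer_singleton_iff]
    by_cases hqp : q = p
    · -- the Sylow subgroup is trivial
      subst hqp
      have h1 : Nat.card (P : Subgroup L) = 1 := by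
        rw [Sylow.card_eq_multiplicity P,
          Nat.factorization_eq_zero_of_not_dvd (fun h => ?_), pow_zero]
        exact hp.one_lt.ne' (Nat.eq_one_of_dvd_coprimes hLc h dvd_rfl)
      have h2 : (P : Subgroup L) = ⊥ := Subgroup.card_eq_one.mp h1
      have h3 : u = 1 := by
        have : u ∈ (⊥ : Subgroup L) := h2 ▸ hu
        exact Subgroup.mem_bot.mp this
      rw [h3]
      simp
    · have hQ : IsPGroup q ((P : Subgroup L).map L.subtype) := P.2.map _
      have hinv : ∀ d ∈ D, ∀ v ∈ (P : Subgroup L).map L.subtype,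
          d * v * d⁻¹ ∈ (P : Subgroup L).map L.subtype := by
        intro d hd v hv
        have hxN := hP hd
        exact (Subgroup.mem_normalizer_iff.mp hxN v).mp hv
      have := hcon' q _ hq.out hqp hQ hinv (u : H) ⟨u, hu, rfl⟩
      exact this.eq.symm
  have hτcen : x ∈ Subgroup.centralizer (L : Set H) := by
    rw [Subgroup.mem_centralizer_iff]
    intro u hu
    have h1 : (⟨u, hu⟩ : L) ∈ C := by rw [hCtop]; trivial
    rw [hC, Subgroup.mem_subgroupOf, Subgroup.mem_centralizer_singleton_iff] at h1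
    exact h1
  have hτL : x ∈ L := Cfsg.Agent.Lib.Helper55HH.centralizer_pPrimeCore_le hsol hOp hτcen
  have h1 : orderOf x ∣ Nat.card L := by
    have := orderOf_dvd_natCard (⟨x, hτL⟩ : L)
    rwa [Subgroup.orderOf_mk] at this
  have h2 : orderOf x ∣ Nat.card D := by
    have := orderOf_dvd_natCard (⟨x, hx⟩ : D)
    rwa [Subgroup.orderOf_mk] at this
  have h3 : orderOf x = 1 := Nat.eq_one_of_dvd_coprimes hcop h2 h1
  rw [orderOf_eq_one_iff] at h3
  exact hx1 h3

end Cfsg.Agent.Lib.H87DLPsolD
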