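import Cfsg.Agent.Lib.Helper60Core
import Cfsg.Agent.Lib.Helper31PLength

/-!
Project 3787 (row S3787), piece Pick.
-/

set_option autoImplicit false

namespace Cfsg.Agent.Lib.H87WRPick

open Cfsg Cfsg.Agent.Lib

/-- If `p` divides `|G : O_{p',p}(G)|` then the image `P̄` of a Sylow `p`-subgroup in `H₁ = G/O_{p'}(G)` contains `V = O_p(H₁)` and an element `x ∉ V` with `x^p ∈ V`. -/
theorem pick {G : Type*} [Group G] [Finite G] {p : ℕ} [Fact p.Prime] (P : Sylow p G)
    (h : ¬ ((pPrimePCore p G).index).Coprime p) :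
    pCore p (G ⧸ pPrimeCore p G) ≤ (P : Subgroup G).map (QuotientGroup.mk' (pPrimeCore p G)) ∧
    ∃ x ∈ (P : Subgroup G).map (QuotientGroup.mk' (pPrimeCore p G)),
      x ∉ pCore p (G ⧸ pPrimeCore p G) ∧ x ^ p ∈ pCore p (G ⧸ pPrimeCore p G) := by
  classical
  have hsurj := QuotientGroup.mk'_surjective (pPrimeCore p G)
  have h1 : pCore p (G ⧸ pPrimeCore p G) ≤
      (P : Subgroup G).map (QuotientGroup.mk' (pPrimeCore p G)) :=
    (Helper60Core.pCore_isPGroup p).le_sylow_of_normal (P.mapSurjective hsurj)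
  refine ⟨h1, ?_⟩
  have hidx : (pPrimePCore p G).index = (pCore p (G ⧸ pPrimeCore p G)).index := by
    unfold pPrimePCore
    exact Subgroup.index_comap_of_surjective _ hsurj
  obtain ⟨x₀, hx₀P, hx₀V⟩ : ∃ x₀ ∈ (P : Subgroup G).map (QuotientGroup.mk' (pPrimeCore p G)),
      x₀ ∉ pCore p (G ⧸ pPrimeCore p G) := by
    by_contra hcon
    push_neg at hcon
    apply h
    have heq : pCore p (G ⧸ pPrimeCore p G) = ((P.mapSurjective hsurj : Sylow p _) : Subgroup _) :=
      le_antisymm h1 hcon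
    rw [hidx, heq]
    exact ((Nat.Prime.coprime_iff_not_dvd Fact.out).2
      (Sylow.not_dvd_index (P.mapSurjective hsurj))).symm
  have hex : ∃ k : ℕ, x₀ ^ p ^ k ∈ pCore p (G ⧸ pPrimeCore p G) := by
    obtain ⟨k, hk⟩ := (P.mapSurjective hsurj).isPGroup' ⟨x₀, hx₀P⟩
    refine ⟨k, ?_⟩
    have : x₀ ^ p ^ k = 1 := congrArg Subtype.val hk
    rw [this]
    exact Subgroup.one_mem _
  have hk0 : Nat.find hex ≠ 0 := by
    intro h0
    have := Nat.find_spec hex
    rw [h0, pow_zero, pow_one] at this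
    exact hx₀V this
  obtain ⟨k, hk⟩ := Nat.exists_eq_succ_of_ne_zero hk0
  refine ⟨x₀ ^ p ^ k, Subgroup.pow_mem _ hx₀P _, ?_, ?_⟩
  · exact Nat.find_min hex (by omega)
  · have := Nat.find_spec hex
    rw [hk, Nat.succ_eq_add_one, pow_succ, pow_mul] at this
    exact this

end Cfsg.Agent.Lib.H87WRPick
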