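import Cfsg.Agent.Lib.Helper87SMDefs
import Cfsg.Agent.Lib.Helper38HH
import Cfsg.Agent.Lib.Helper60Core
import Cfsg.Agent.Lib.H87WRPick

/-!
Project 4394 (row S4394), piece G1.
-/

set_option autoImplicit false

namespace Cfsg.Agent.Lib.H87SMG1

open Cfsg Cfsg.Agent.Lib Cfsg.Agent.Lib.Helper87SMDefs

/-- a normal `p`-subgroup lies in every Sylow `p`-subgroup. -/
theorem V_le {G : Type*} [Group G] [Finite G] {p : ℕ} [Fact p.Prime] (S : Sylow p G) :
    pCore p G ≤ (S : Subgroup G) := by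
  have hn : (pCore p G).Normal := inferInstance
  obtain ⟨Q, hQ⟩ := (Helper60Core.pCore_isPGroup (G := G) p).exists_le_sylow
  obtain ⟨g, hg⟩ := MulAction.exists_smul_eq G Q S
  intro x hx
  rw [← hg]
  rw [Sylow.coe_subgroup_smul, Subgroup.mem_pointwise_smul_iff_inv_smul_mem]
  apply hQ
  have := hn.conj_mem x hx g⁻¹
  simpa [MulAut.smul_def] using this

/-- `Z` centralises `V ≤ S`, and `C_G(V) ≤ V`. -/
theorem Z_le {G : Type*} [Group G] [Finite G] {p : ℕ} [Fact p.Prime] (hs : IsPSolvable p G)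
    (h0 : pPrimeCore p G = ⊥) (S : Sylow p G) {Z : Subgroup G} (hZ : SESin p (S : Subgroup G) Z) : Z ≤ pCore p G := by
  intro z hz
  apply Helper38HH.centralizer_pCore_le hs h0
  rw [Subgroup.mem_centralizer_iff]
  intro v hv
  exact (hZ.cen z hz v (V_le S hv)).symm

/-- if `S` is commutative then `S ≤ C_G(V) ≤ V`. -/
theorem ab {G : Type*} [Group G] [Finite G] {p : ℕ} [Fact p.Prime] (hs : IsPSolvable p G)
    (h0 : pPrimeCore p G = ⊥) (S : Sylow p G)
    (hc : ∀ a ∈ (S : Subgroup G), ∀ b ∈ (S : Subgroup G), a * b = b * a) :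
    (S : Subgroup G) ≤ pCore p G := by
  intro z hz
  apply Helper38HH.centralizer_pCore_le hs h0
  rw [Subgroup.mem_centralizer_iff]
  intro v hv
  exact hc v (V_le S hv) z hz

end Cfsg.Agent.Lib.H87SMG1
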