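import Cfsg.Agent.Lib.H87SMG1

/-!
Project 4394 (row S4394), piece G2.
-/

set_option autoImplicit false

namespace Cfsg.Agent.Lib.H87SMG2

open Cfsg Cfsg.Agent.Lib Cfsg.Agent.Lib.Helper87SMDefs

/-- `W = ⟨Z^G⟩` lies in `Ω₁(Z(V))`. -/
theorem W_prop {G : Type*} [Group G] [Finite G] {p : ℕ} [Fact p.Prime] (hs : IsPSolvable p G)
    (h0 : pPrimeCore p G = ⊥) (S : Sylow p G) {Z : Subgroup G} (hZ : SESin p (S : Subgroup G) Z) : ∀ w ∈ Subgroup.normalClosure (Z : Set G),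
    w ∈ pCore p G ∧ (∀ v ∈ pCore p G, w * v = v * w) ∧ w ^ p = 1 := by
  have hn : (pCore p G).Normal := inferInstance
  let E : Subgroup G :=
    { carrier := {g | g ∈ pCore p G ∧ (∀ v ∈ pCore p G, g * v = v * g) ∧ g ^ p = 1}
      one_mem' := ⟨Subgroup.one_mem _, fun v _ => by simp, one_pow _⟩
      mul_mem' := by
        rintro a b ⟨ha1, ha2, ha3⟩ ⟨hb1, hb2, hb3⟩
        refine ⟨Subgroup.mul_mem _ ha1 hb1, ?_, ?_⟩
        · intro v hv
          rw [mul_assoc, hb2 v hv, ← mul_assoc, ha2 v hv, mul_assoc]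
        · have hc : Commute a b := ha2 b hb1
          rw [hc.mul_pow, ha3, hb3, one_mul]
      inv_mem' := by
        rintro a ⟨ha1, ha2, ha3⟩
        refine ⟨Subgroup.inv_mem _ ha1, ?_, by rw [inv_pow, ha3, inv_one]⟩
        intro v hv
        have := ha2 v hv
        calc a⁻¹ * v = a⁻¹ * (v * a) * a⁻¹ := by group
          _ = a⁻¹ * (a * v) * a⁻¹ := by rw [this]
          _ = v * a⁻¹ := by group }
  have hEn : E.Normal := by
    constructor
    rintro a ⟨ha1, ha2, ha3⟩ g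
    refine ⟨hn.conj_mem a ha1 g, ?_, ?_⟩
    · intro v hv
      have h1 := ha2 (g⁻¹ * v * g) (by simpa using hn.conj_mem v hv g⁻¹)
      calc g * a * g⁻¹ * v = g * (a * (g⁻¹ * v * g)) * g⁻¹ := by group
        _ = g * ((g⁻¹ * v * g) * a) * g⁻¹ := by rw [h1]
        _ = v * (g * a * g⁻¹) := by group
    · rw [conj_pow, ha3]; group
  have hZE : (Z : Set G) ⊆ E := by
    intro z hz
    exact ⟨H87SMG1.Z_le hs h0 S hZ hz, fun v hv => hZ.cen z hz v (H87SMG1.V_le S hv), hZ.exp z hz⟩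
  intro w hw
  exact Subgroup.normalClosure_le_normal hZE hw

end Cfsg.Agent.Lib.H87SMG2
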