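import Cfsg.Agent.Lib.H87SMG2

/-!
Project 4394 (row S4394), piece G3.
-/

set_option autoImplicit false

namespace Cfsg.Agent.Lib.H87SMG3

open Cfsg Cfsg.Agent.Lib Cfsg.Agent.Lib.Helper87SMDefs

/-- `O_p(G / C_G(W)) = 1`. -/
theorem pCore_eq_bot {G : Type*} [Group G] [Finite G] {p : ℕ} [Fact p.Prime] (hs : IsPSolvable p G)
    (h0 : pPrimeCore p G = ⊥) (S : Sylow p G) {Z : Subgroup G} (hZ : SESin p (S : Subgroup G) Z) :
    pCore p (G ⧸ Subgroup.centralizer ((Subgroup.normalClosure (Z : Set G) : Subgroup G) : Set G)) = ⊥ := by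
  set W : Subgroup G := Subgroup.normalClosure (Z : Set G) with hW
  set C : Subgroup G := Subgroup.centralizer (W : Set G) with hC
  have hDn : (pCore p (G ⧸ C)).Normal := inferInstance
  have hle : pCore p (G ⧸ C) ≤ (S : Subgroup G).map (QuotientGroup.mk' C) := by
    have := H87SMG1.V_le (S.mapSurjective (QuotientGroup.mk'_surjective C))
    rwa [Sylow.coe_mapSurjective] at this
  rw [eq_bot_iff]
  intro db hdb
  obtain ⟨d, rfl⟩ := QuotientGroup.mk'_surjective C db
  have claim : ∀ g : G, ∀ z ∈ Z, d * (g * z * g⁻¹) = (g * z * g⁻¹) * d := by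
    intro g z hz
    have h1 : QuotientGroup.mk' C (g⁻¹ * d * g) ∈ pCore p (G ⧸ C) := by
      have := hDn.conj_mem _ hdb (QuotientGroup.mk' C g⁻¹)
      rw [← map_inv, inv_inv, ← map_mul, ← map_mul] at this
      exact this
    obtain ⟨s, hs', hse⟩ := hle h1
    have h2 : s⁻¹ * (g⁻¹ * d * g) ∈ C := by
      have : (QuotientGroup.mk s : G ⧸ C) = QuotientGroup.mk (g⁻¹ * d * g) := hse
      exact QuotientGroup.eq.1 this
    set c := s⁻¹ * (g⁻¹ * d * g) with hc
    have h3 : g⁻¹ * d * g = s * c := by rw [hc]; group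
    have hzs : z * s = s * z := hZ.cen z hz s hs'
    have hzc : z * c = c * z := by
      have := (Subgroup.mem_centralizer_iff.1 h2) z (Subgroup.subset_normalClosure hz)
      exact this
    have h4 : (g⁻¹ * d * g) * z = z * (g⁻¹ * d * g) := by
      rw [h3, mul_assoc, ← hzc, ← mul_assoc, ← hzs, mul_assoc]
    calc d * (g * z * g⁻¹) = g * ((g⁻¹ * d * g) * z) * g⁻¹ := by group
      _ = g * (z * (g⁻¹ * d * g)) * g⁻¹ := by rw [h4]
      _ = (g * z * g⁻¹) * d := by group
  have hWle : W ≤ Subgroup.centralizer {d} := by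
    rw [hW]
    unfold Subgroup.normalClosure
    rw [Subgroup.closure_le]
    intro y hy
    rw [Group.mem_conjugatesOfSet_iff] at hy
    obtain ⟨z, hz, hzy⟩ := hy
    rw [isConj_iff] at hzy
    obtain ⟨g, rfl⟩ := hzy
    change _ ∈ Subgroup.centralizer {d}
    rw [Subgroup.mem_centralizer_iff]
    intro h hh
    rw [Set.mem_singleton_iff] at hh
    subst hh
    exact claim g z hz
  have hdC : d ∈ C := by
    rw [hC, Subgroup.mem_centralizer_iff]
    intro w hw
    have := (Subgroup.mem_centralizer_iff.1 (hWle hw)) d (Set.mem_singleton d)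
    exact this.symm
  rw [Subgroup.mem_bot]
  exact (QuotientGroup.eq_one_iff d).2 hdC

end Cfsg.Agent.Lib.H87SMG3
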