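import Cfsg.Agent.Lib.H87SMTCard
import Cfsg.Agent.Lib.H87DLPsolD
import Cfsg.Agent.Lib.H87DLMinQD

/-!
Project 4394 (row S4394), assembly LemT (the transvection lemma).
-/

set_option autoImplicit false

namespace Cfsg.Agent.Lib.H87SMLemT

open Cfsg Cfsg.Agent.Lib Cfsg.Agent.Lib.Helper87SMDefs

theorem lemT {p : ℕ} [Fact p.Prime] {H W : Type*} [Group H] [Finite H] [CommGroup W] [Finite W]
    (hsol : IsPSolvable p H) (hOp : pCore p H = ⊥) (j : H →* MulAut W)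
    (hj : Function.Injective j) (hW : ∀ w : W, w ^ p = 1) (A : Subgroup H) (Z : Subgroup W)
    (fixZ : ∀ a ∈ A, ∀ z ∈ Z, j a z = z) (quad : ∀ a ∈ A, ∀ w : W, j a w * w⁻¹ ∈ Z)
    (surj : ∀ w : W, w ∉ Z → ∀ z ∈ Z, ∃ a ∈ A, j a w * w⁻¹ = z)
    (comm : ∀ a ∈ A, ∀ b ∈ A, Commute a b) (expA : ∀ a ∈ A, a ^ p = 1) (hA : A ≠ ⊥) :
    Nat.card Z = p ∧ Nat.card W = p ^ 2 := by
  obtain ⟨x, hxA, hx1⟩ : ∃ x ∈ A, x ≠ 1 := by
    by_contra hcon
    push Not at hcon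
    exact hA ((Subgroup.eq_bot_iff_forall A).2 hcon)
  have hAp : IsPGroup p A := by
    intro a
    exact ⟨1, by rw [pow_one]; exact Subtype.ext (expA a a.2)⟩
  obtain ⟨q, Q, hq, hqp, hQ, hAQ, hne⟩ := H87DLPsolD.exists_q p hsol hOp A hAp x hxA hx1
  have : Fact q.Prime := ⟨hq⟩
  obtain ⟨Q₁, -, hM, hinv, hne₁, hmini⟩ := H87DLMinQD.exists_min p q (Ne.symm hqp) A Q hQ x hxA
    (fun d hd => comm d hd x hxA) hAQ (expA x hxA) hne
  have hgen := hM.gen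
  simp only [Nat.sub_self, pow_zero, pow_one] at hgen
  exact H87SMTCard.card (Ne.symm hqp) (x := x) (Q := Q₁)
    { inj := hj, expW := hW, fixZ := fixZ, quad := quad, surj := surj, comm := comm, expA := expA
      xA := hxA, x1 := hx1, qQ := hM.pgrp, inv := hinv, gen := hgen, ne := hne₁, mini := hmini }

/-- the same for a group `W` with a proof of commutativity. -/
theorem lemT' {p : ℕ} [Fact p.Prime] {H W : Type*} [Group H] [Finite H] [Group W] [Finite W]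
    (hcW : ∀ a b : W, a * b = b * a)
    (hsol : IsPSolvable p H) (hOp : pCore p H = ⊥) (j : H →* MulAut W)
    (hj : Function.Injective j) (hW : ∀ w : W, w ^ p = 1) (A : Subgroup H) (Z : Subgroup W)
    (fixZ : ∀ a ∈ A, ∀ z ∈ Z, j a z = z) (quad : ∀ a ∈ A, ∀ w : W, j a w * w⁻¹ ∈ Z)
    (surj : ∀ w : W, w ∉ Z → ∀ z ∈ Z, ∃ a ∈ A, j a w * w⁻¹ = z)
    (comm : ∀ a ∈ A, ∀ b ∈ A, Commute a b) (expA : ∀ a ∈ A, a ^ p = 1) (hA : A ≠ ⊥) :
    Nat.card Z = p ∧ Nat.card W = p ^ 2 :=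
  @lemT p _ H W _ _ { (inferInstance : Group W) with mul_comm := hcW } _ hsol hOp j hj hW A Z
    fixZ quad surj comm expA hA

end Cfsg.Agent.Lib.H87SMLemT
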