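import Cfsg.Agent.Lib.H87SMG3
import Cfsg.Agent.Lib.H87SMLemT
import Cfsg.Agent.Lib.Helper38PSolv

/-!
Project 4394 (row S4394), piece G5.
-/

set_option autoImplicit false

namespace Cfsg.Agent.Lib.H87SMG5

open Cfsg Cfsg.Agent.Lib Cfsg.Agent.Lib.Helper87SMDefs

/-- Apply the transvection lemma to `H = G ⧸ C_G(W)` acting on `W`. -/
theorem alt {G : Type*} [Group G] [Finite G] {p : ℕ} [Fact p.Prime] (hs : IsPSolvable p G)
    (h0 : pPrimeCore p G = ⊥) (S : Sylow p G) {Z : Subgroup G} (hZ : SESin p (S : Subgroup G) Z) :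
    (S : Subgroup G) ≤ Subgroup.centralizer ((Subgroup.normalClosure (Z : Set G) : Subgroup G) : Set G) ∨
      (Nat.card Z = p ∧ Nat.card (Subgroup.normalClosure (Z : Set G)) = p ^ 2) := by
  have hWp := H87SMG2.W_prop hs h0 S hZ
  have hZW : Z ≤ Subgroup.normalClosure (Z : Set G) := Subgroup.le_normalClosure
  have hWS : Subgroup.normalClosure (Z : Set G) ≤ (S : Subgroup G) :=
    fun w hw => H87SMG1.V_le S (hWp w hw).1
  have hVC : pCore p G ≤
      Subgroup.centralizer ((Subgroup.normalClosure (Z : Set G) : Subgroup G) : Set G) := by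
    intro v hv
    rw [Subgroup.mem_centralizer_iff]
    intro w hw
    exact (hWp w hw).2.1 v hv
  have hZC : Z ≤ Subgroup.centralizer ((Subgroup.normalClosure (Z : Set G) : Subgroup G) : Set G) :=
    fun z hz => hVC (hWp z (hZW hz)).1
  have hker : ∀ x : G, (MulAut.conjNormal x : MulAut (Subgroup.normalClosure (Z : Set G))) = 1 ↔
      x ∈ Subgroup.centralizer ((Subgroup.normalClosure (Z : Set G) : Subgroup G) : Set G) := by
    intro x
    rw [Subgroup.mem_centralizer_iff]
    constructor
    · intro h w hw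
      have h1 := congrArg (fun f : MulAut (Subgroup.normalClosure (Z : Set G)) =>
        ((f ⟨w, hw⟩ : Subgroup.normalClosure (Z : Set G)) : G)) h
      have h2 : x * w * x⁻¹ = w := h1
      calc w * x = (x * w * x⁻¹) * x := by rw [h2]
        _ = x * w := by group
    · intro h
      ext w
      show x * (w : G) * x⁻¹ = w
      rw [← h w w.2, mul_inv_cancel_right]
  let j : (G ⧸ Subgroup.centralizer ((Subgroup.normalClosure (Z : Set G) : Subgroup G) : Set G)) →*
      MulAut (Subgroup.normalClosure (Z : Set G)) :=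
    QuotientGroup.lift _ MulAut.conjNormal (fun x hx => (hker x).2 hx)
  have hjmk : ∀ (g : G) (w : Subgroup.normalClosure (Z : Set G)),
      ((j (QuotientGroup.mk' _ g) w : Subgroup.normalClosure (Z : Set G)) : G) = g * w * g⁻¹ :=
    fun g w => rfl
  have hj : Function.Injective j := by
    rw [injective_iff_map_eq_one]
    intro y hy
    obtain ⟨g, rfl⟩ := QuotientGroup.mk'_surjective _ y
    have h1 : (MulAut.conjNormal g : MulAut (Subgroup.normalClosure (Z : Set G))) = 1 := hy
    exact (QuotientGroup.eq_one_iff g).2 ((hker g).1 h1)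
  by_cases hA : (S : Subgroup G).map (QuotientGroup.mk'
      (Subgroup.centralizer ((Subgroup.normalClosure (Z : Set G) : Subgroup G) : Set G))) = ⊥
  · left
    intro s hs'
    have h1 : QuotientGroup.mk' (Subgroup.centralizer
        ((Subgroup.normalClosure (Z : Set G) : Subgroup G) : Set G)) s ∈
        (S : Subgroup G).map (QuotientGroup.mk' (Subgroup.centralizer
          ((Subgroup.normalClosure (Z : Set G) : Subgroup G) : Set G))) := ⟨s, hs', rfl⟩
    rw [hA, Subgroup.mem_bot] at h1
    exact (QuotientGroup.eq_one_iff s).1 h1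
  · right
    have key := H87SMLemT.lemT' (p := p)
      (H := G ⧸ Subgroup.centralizer ((Subgroup.normalClosure (Z : Set G) : Subgroup G) : Set G))
      (W := Subgroup.normalClosure (Z : Set G))
      (fun a b => Subtype.ext ((hWp a a.2).2.1 b (hWp b b.2).1))
      (Helper38PSolv.isPSolvable_quotient _ hs) (H87SMG3.pCore_eq_bot hs h0 S hZ) j hj
      (fun w => Subtype.ext (hWp w w.2).2.2)
      ((S : Subgroup G).map (QuotientGroup.mk' _))
      (Z.subgroupOf (Subgroup.normalClosure (Z : Set G)))
      (by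
        rintro _ ⟨s, hs', rfl⟩ z hz
        apply Subtype.ext
        rw [hjmk]
        have hz' : (z : G) ∈ Z := Subgroup.mem_subgroupOf.1 hz
        rw [← hZ.cen z hz' s hs', mul_inv_cancel_right])
      (by
        rintro _ ⟨s, hs', rfl⟩ w
        rw [Subgroup.mem_subgroupOf, Subgroup.coe_mul, Subgroup.coe_inv, hjmk]
        exact hZ.comm s hs' w (hWS w.2))
      (by
        intro w hw z hz
        have hw' : (w : G) ∉ Z := fun h => hw (Subgroup.mem_subgroupOf.2 h)
        have hz' : (z : G) ∈ Z := Subgroup.mem_subgroupOf.1 hz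
        obtain ⟨g, hg, hgz⟩ := hZ.surj w (hWS w.2) hw' (z : G)⁻¹ (Z.inv_mem hz')
        refine ⟨QuotientGroup.mk' _ g, ⟨g, hg, rfl⟩, ?_⟩
        apply Subtype.ext
        rw [Subgroup.coe_mul, Subgroup.coe_inv, hjmk]
        have : g * (w : G) * g⁻¹ * (w : G)⁻¹ = ((w : G) * g * (w : G)⁻¹ * g⁻¹)⁻¹ := by group
        rw [this, hgz, inv_inv])
      (by
        rintro _ ⟨s, hs', rfl⟩ _ ⟨s', hs'', rfl⟩
        show QuotientGroup.mk' _ s * QuotientGroup.mk' _ s' =
          QuotientGroup.mk' _ s' * QuotientGroup.mk' _ s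
        have h1 : QuotientGroup.mk' (Subgroup.centralizer
            ((Subgroup.normalClosure (Z : Set G) : Subgroup G) : Set G)) (s * s' * s⁻¹ * s'⁻¹) = 1 :=
          (QuotientGroup.eq_one_iff _).2 (hZC (hZ.comm s hs' s' hs''))
        have h2 : s * s' = (s * s' * s⁻¹ * s'⁻¹) * (s' * s) := by group
        rw [← map_mul, h2, map_mul, h1, one_mul, map_mul])
      (by
        rintro _ ⟨s, hs', rfl⟩
        rw [← map_pow]
        exact (QuotientGroup.eq_one_iff _).2 (hZC (hZ.pw s hs')))
      hA
    refine ⟨?_, key.2⟩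
    rw [← key.1]
    exact (Nat.card_congr (Subgroup.subgroupOfEquivOfLe hZW).toEquiv).symm

end Cfsg.Agent.Lib.H87SMG5
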