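import Cfsg.Agent.Lib.H87SMG1

/-!
Project 4394 (row S4394), piece G6.
-/

set_option autoImplicit false

namespace Cfsg.Agent.Lib.H87SMG6

open Cfsg Cfsg.Agent.Lib Cfsg.Agent.Lib.Helper87SMDefs

theorem le_of_normal {G : Type*} [Group G] [Finite G] {p : ℕ} [Fact p.Prime] (hs : IsPSolvable p G)
    (h0 : pPrimeCore p G = ⊥) (S : Sylow p G) {Z : Subgroup G} (hZ : SESin p (S : Subgroup G) Z) (hn : Z.Normal) : (S : Subgroup G) ≤ pCore p G := by
  have hVn : (pCore p G).Normal := inferInstance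
  let D : Subgroup G :=
    { carrier := {g | (∀ z ∈ Z, g * z = z * g) ∧ ∀ v ∈ pCore p G, g * v * g⁻¹ * v⁻¹ ∈ Z}
      one_mem' := by
        refine ⟨fun z _ => by simp, fun v _ => ?_⟩
        simp
      mul_mem' := by
        rintro g g' ⟨hg1, hg2⟩ ⟨hg1', hg2'⟩
        refine ⟨fun z hz => ?_, fun v hv => ?_⟩
        · rw [mul_assoc, hg1' z hz, ← mul_assoc, hg1 z hz, mul_assoc]
        · have e : g * g' * v * (g * g')⁻¹ * v⁻¹
              = (g * (g' * v * g'⁻¹ * v⁻¹)) * g⁻¹ * (g * v * g⁻¹ * v⁻¹) := by group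
          rw [e, hg1 _ (hg2' v hv)]
          have e2 : (g' * v * g'⁻¹ * v⁻¹) * g * g⁻¹ * (g * v * g⁻¹ * v⁻¹)
              = (g' * v * g'⁻¹ * v⁻¹) * (g * v * g⁻¹ * v⁻¹) := by group
          rw [e2]
          exact Z.mul_mem (hg2' v hv) (hg2 v hv)
      inv_mem' := by
        rintro g ⟨hg1, hg2⟩
        have hinv : ∀ z ∈ Z, g⁻¹ * z = z * g⁻¹ := by
          intro z hz
          have := hg1 z hz
          calc g⁻¹ * z = g⁻¹ * (z * g) * g⁻¹ := by group
            _ = g⁻¹ * (g * z) * g⁻¹ := by rw [this]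
            _ = z * g⁻¹ := by group
        refine ⟨hinv, fun v hv => ?_⟩
        have hc : (g * v * g⁻¹ * v⁻¹)⁻¹ ∈ Z := Z.inv_mem (hg2 v hv)
        have e : g⁻¹ * v * g⁻¹⁻¹ * v⁻¹ = (g⁻¹ * (g * v * g⁻¹ * v⁻¹)⁻¹) * g := by group
        rw [e, hinv _ hc]
        have e2 : (g * v * g⁻¹ * v⁻¹)⁻¹ * g⁻¹ * g = (g * v * g⁻¹ * v⁻¹)⁻¹ := by group
        rw [e2]; exact hc }
  have hDn : D.Normal := by
    constructor
    rintro g ⟨hg1, hg2⟩ h
    refine ⟨fun z hz => ?_, fun v hv => ?_⟩
    · have hz' : h⁻¹ * z * h ∈ Z := by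
        have := hn.conj_mem z hz h⁻¹
        simpa using this
      have := hg1 _ hz'
      calc h * g * h⁻¹ * z = h * (g * (h⁻¹ * z * h)) * h⁻¹ := by group
        _ = h * ((h⁻¹ * z * h) * g) * h⁻¹ := by rw [this]
        _ = z * (h * g * h⁻¹) := by group
    · have hv' : h⁻¹ * v * h ∈ pCore p G := by
        have := hVn.conj_mem v hv h⁻¹
        simpa using this
      have := hn.conj_mem _ (hg2 _ hv') h
      have e : h * g * h⁻¹ * v * (h * g * h⁻¹)⁻¹ * v⁻¹
          = h * (g * (h⁻¹ * v * h) * g⁻¹ * (h⁻¹ * v * h)⁻¹) * h⁻¹ := by group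
      rw [e]; exact this
  have hSD : (S : Subgroup G) ≤ D := by
    intro s hs'
    refine ⟨fun z hz => (hZ.cen z hz s hs').symm, fun v hv => ?_⟩
    exact hZ.comm s hs' v (H87SMG1.V_le S hv)
  have hDp : IsPGroup p D := by
    rintro ⟨g, hg1, hg2⟩
    have hcen : g ^ p ∈ Subgroup.centralizer (pCore p G : Set G) := by
      rw [Subgroup.mem_centralizer_iff]
      intro v hv
      have hz := hg2 v hv
      set z := g * v * g⁻¹ * v⁻¹ with hzdef
      have hgv : g * v = z * v * g := by rw [hzdef]; group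
      have hgz : Commute g z := hg1 z hz
      have hind : ∀ n : ℕ, g ^ n * v = z ^ n * v * g ^ n := by
        intro n
        induction n with
        | zero => simp
        | succ n ih =>
          calc g ^ (n + 1) * v = g * (g ^ n * v) := by rw [pow_succ']; group
            _ = g * (z ^ n * v * g ^ n) := by rw [ih]
            _ = (g * z ^ n) * v * g ^ n := by group
            _ = (z ^ n * g) * v * g ^ n := by rw [(hgz.pow_right n).eq]
            _ = z ^ n * (g * v) * g ^ n := by group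
            _ = z ^ n * (z * v * g) * g ^ n := by rw [hgv]
            _ = z ^ (n + 1) * v * g ^ (n + 1) := by rw [pow_succ, pow_succ']; group
      have := hind p
      rw [hZ.exp z hz, one_mul] at this
      exact this.symm
    have hV := Helper38HH.centralizer_pCore_le hs h0 hcen
    obtain ⟨k, hk⟩ := Helper60Core.pCore_isPGroup (G := G) p ⟨g ^ p, hV⟩
    have hk' : (g ^ p) ^ (p ^ k) = 1 := by
      have := congrArg Subtype.val hk
      simpa using this
    refine ⟨k + 1, ?_⟩
    apply Subtype.ext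
    show g ^ (p ^ (k + 1)) = 1
    rw [pow_succ', pow_mul]
    exact hk'
  exact hSD.trans (Helper60Core.le_pCore hDn hDp)

end Cfsg.Agent.Lib.H87SMG6
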