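import Cfsg.Agent.Lib.H87SMG2
import Cfsg.Agent.Lib.Helper13Thompson2

/-!
Project 4394 (row S4394), piece G7a.
-/

set_option autoImplicit false

namespace Cfsg.Agent.Lib.H87SMG7a

open Cfsg Cfsg.Agent.Lib Cfsg.Agent.Lib.Helper87SMDefs

/-- Frattini argument: if `U = S ⊓ C_G(W)` is not commutative and `|Z| = p` then `Z` is normal in `G`. -/
theorem normal_of_noncomm {G : Type*} [Group G] [Finite G] {p : ℕ} [Fact p.Prime] (hs : IsPSolvable p G)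
    (h0 : pPrimeCore p G = ⊥) (S : Sylow p G) {Z : Subgroup G} (hZ : SESin p (S : Subgroup G) Z) (hcard : Nat.card Z = p) (g h : G)
    (hg : g ∈ (S : Subgroup G) ⊓ Subgroup.centralizer ((Subgroup.normalClosure (Z : Set G) : Subgroup G) : Set G))
    (hh : h ∈ (S : Subgroup G) ⊓ Subgroup.centralizer ((Subgroup.normalClosure (Z : Set G) : Subgroup G) : Set G))
    (hne : g * h ≠ h * g) : Z.Normal := by
  have hz₀ : g * h * g⁻¹ * h⁻¹ ∈ Z := hZ.comm g hg.1 h hh.1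
  have hz₀1 : g * h * g⁻¹ * h⁻¹ ≠ 1 := by
    intro h1
    apply hne
    calc g * h = (g * h * g⁻¹ * h⁻¹) * (h * g) := by group
      _ = h * g := by rw [h1, one_mul]
  have hgen : ∀ z ∈ Z, ∃ i : ℤ, (g * h * g⁻¹ * h⁻¹) ^ i = z := by
    intro z hz
    have h1 : (⟨g * h * g⁻¹ * h⁻¹, hz₀⟩ : Z) ≠ 1 := fun h2 => hz₀1 (congrArg Subtype.val h2)
    have h2 := mem_zpowers_of_prime_card hcard h1 (g' := ⟨z, hz⟩)
    obtain ⟨i, hi⟩ := Subgroup.mem_zpowers_iff.1 h2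
    refine ⟨i, ?_⟩
    have := congrArg Subtype.val hi
    rwa [Subgroup.coe_zpow] at this
  refine ⟨fun z hz x => ?_⟩
  obtain ⟨c, hc, n, hn, rfl⟩ := Helper13Thompson2.frattini_elt
    (Subgroup.centralizer ((Subgroup.normalClosure (Z : Set G) : Subgroup G) : Set G)) S x
  rw [Subgroup.mem_normalizer_iff] at hn
  have hng := (hn g).1 hg
  have hnh := (hn h).1 hh
  have hnz₀ : n * (g * h * g⁻¹ * h⁻¹) * n⁻¹ ∈ Z := by
    have := hZ.comm _ hng.1 _ hnh.1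
    have e : n * (g * h * g⁻¹ * h⁻¹) * n⁻¹ =
        (n * g * n⁻¹) * (n * h * n⁻¹) * (n * g * n⁻¹)⁻¹ * (n * h * n⁻¹)⁻¹ := by group
    rw [e]; exact this
  obtain ⟨i, rfl⟩ := hgen z hz
  have hnz : n * (g * h * g⁻¹ * h⁻¹) ^ i * n⁻¹ ∈ Z := by
    rw [← conj_zpow]
    exact Z.zpow_mem hnz₀ i
  have hcz : c * (n * (g * h * g⁻¹ * h⁻¹) ^ i * n⁻¹) * c⁻¹ = n * (g * h * g⁻¹ * h⁻¹) ^ i * n⁻¹ := by
    have := (Subgroup.mem_centralizer_iff.1 hc) _ (Subgroup.le_normalClosure hnz)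
    rw [← this, mul_inv_cancel_right]
  have e : c * n * (g * h * g⁻¹ * h⁻¹) ^ i * (c * n)⁻¹ =
      c * (n * (g * h * g⁻¹ * h⁻¹) ^ i * n⁻¹) * c⁻¹ := by
    rw [mul_inv_rev]; simp only [mul_assoc]
  rw [e, hcz]
  exact hnz

end Cfsg.Agent.Lib.H87SMG7a
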