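import Cfsg.Agent.Lib.H87SMGHom
import Cfsg.Agent.Lib.H87SMG2

/-!
Project 4394 (row S4394), piece G7b.
-/

set_option autoImplicit false

namespace Cfsg.Agent.Lib.H87SMG7b

open Cfsg Cfsg.Agent.Lib Cfsg.Agent.Lib.Helper87SMDefs

/-- a subgroup strictly between: if `A ≤ T ≤ B`, `A ≠ T` and `|B| = |A| * p` then `T = B`. -/
theorem eq_of_prime_index {G : Type*} [Group G] [Finite G] {p : ℕ} (hp : p.Prime)
    (A T B : Subgroup G) (hAT : A ≤ T) (hTB : T ≤ B) (hne : ¬ T ≤ A)
    (hcard : Nat.card B = Nat.card A * p) : T = B := by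
  obtain ⟨m, hm⟩ := Subgroup.card_dvd_of_le hAT
  obtain ⟨k, hk⟩ := Subgroup.card_dvd_of_le hTB
  have hA0 : 0 < Nat.card A := Nat.card_pos
  have hmk : m * k = p := by
    have : Nat.card A * (m * k) = Nat.card A * p := by rw [← hcard, hk, hm, mul_assoc]
    exact Nat.eq_of_mul_eq_mul_left hA0 this
  have hm1 : m ≠ 1 := by
    intro h
    apply hne
    rw [h, mul_one] at hm
    exact (Subgroup.eq_of_le_of_card_ge hAT hm.le).ge
  have hmp : m = p := by
    rcases (Nat.dvd_prime hp).1 ⟨k, hmk.symm⟩ with h | h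
    · exact absurd h hm1
    · exact h
  apply Subgroup.eq_of_le_of_card_ge hTB
  rw [hcard, hm, hmp]

theorem card_S {G : Type*} [Group G] [Finite G] {p : ℕ} [Fact p.Prime] (hs : IsPSolvable p G)
    (h0 : pPrimeCore p G = ⊥) (S : Sylow p G) {Z : Subgroup G} (hZ : SESin p (S : Subgroup G) Z) (hcard : Nat.card Z = p)
    (hW : Nat.card (Subgroup.normalClosure (Z : Set G)) = p ^ 2)
    (hU : ∀ g ∈ (S : Subgroup G) ⊓ Subgroup.centralizer ((Subgroup.normalClosure (Z : Set G) : Subgroup G) : Set G),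
      ∀ h ∈ (S : Subgroup G) ⊓ Subgroup.centralizer ((Subgroup.normalClosure (Z : Set G) : Subgroup G) : Set G),
        g * h = h * g) : Nat.card (S : Subgroup G) = p ^ 3 := by
  have hp : p.Prime := Fact.out
  have hWp := H87SMG2.W_prop hs h0 S hZ
  have hVS := H87SMG1.V_le S
  obtain ⟨W, hWdef⟩ : ∃ W : Subgroup G, W = Subgroup.normalClosure (Z : Set G) := ⟨_, rfl⟩
  rw [← hWdef] at hW hU hWp
  obtain ⟨U, hUdef⟩ : ∃ U : Subgroup G,
      U = (S : Subgroup G) ⊓ Subgroup.centralizer (W : Set G) := ⟨_, rfl⟩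
  rw [← hUdef] at hU
  have hZW : Z ≤ W := by rw [hWdef]; exact Subgroup.subset_normalClosure
  have hWS : W ≤ (S : Subgroup G) := fun w hw => hVS (hWp w hw).1
  have hWU : W ≤ U := by
    intro w hw
    rw [hUdef]
    refine Subgroup.mem_inf.2 ⟨hWS hw, ?_⟩
    rw [Subgroup.mem_centralizer_iff]
    intro w' hw'
    exact (hWp w' hw').2.1 w (hWp w hw).1
  obtain ⟨w, hw, hwZ⟩ : ∃ w ∈ W, w ∉ Z := by
    by_contra hcon
    push Not at hcon
    have := Subgroup.card_le_of_le (show W ≤ Z from hcon)
    rw [hcard, hW] at this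
    have h2 := hp.two_le
    nlinarith
  have hwS : w ∈ (S : Subgroup G) := hWS hw
  -- W = Z ⊔ zpowers w
  have hW' : Z ⊔ Subgroup.zpowers w = W := by
    apply eq_of_prime_index hp Z _ W le_sup_left
      (sup_le hZW (by rw [Subgroup.zpowers_le]; exact hw))
    · intro h
      exact hwZ (h (Subgroup.mem_sup_right (Subgroup.mem_zpowers w)))
    · rw [hW, hcard, sq]
  have hCw : (S : Subgroup G) ⊓ Subgroup.centralizer {w} = U := by
    apply le_antisymm
    · intro s hs''
      obtain ⟨hsS, hsw⟩ := Subgroup.mem_inf.1 hs''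
      rw [hUdef]
      refine Subgroup.mem_inf.2 ⟨hsS, ?_⟩
      rw [Subgroup.mem_centralizer_singleton_iff] at hsw
      have hle : W ≤ Subgroup.centralizer {s} := by
        rw [← hW']
        apply sup_le
        · intro z hz
          rw [Subgroup.mem_centralizer_singleton_iff]
          exact hZ.cen z hz s hsS
        · rw [Subgroup.zpowers_le, Subgroup.mem_centralizer_singleton_iff]
          exact hsw.symm
      rw [Subgroup.mem_centralizer_iff]
      intro w' hw'
      exact Subgroup.mem_centralizer_singleton_iff.1 (hle hw')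
    · rintro s hs'
      rw [hUdef] at hs'
      obtain ⟨hs1, hs2⟩ := Subgroup.mem_inf.1 hs'
      refine Subgroup.mem_inf.2 ⟨hs1, ?_⟩
      rw [Subgroup.mem_centralizer_singleton_iff]
      exact ((Subgroup.mem_centralizer_iff.1 hs2) w hw).symm
  have hSU : Nat.card (S : Subgroup G) = Nat.card U * p := by
    have := H87SMGHom.card_eq hZ w hwS hwZ
    rwa [hCw, hcard] at this
  have hUS : U ≤ (S : Subgroup G) := by rw [hUdef]; exact inf_le_left
  obtain ⟨g, hgS, hgU⟩ : ∃ g ∈ (S : Subgroup G), g ∉ U := by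
    by_contra hcon
    push Not at hcon
    have := Subgroup.card_le_of_le (show (S : Subgroup G) ≤ U from hcon)
    rw [hSU] at this
    have h2 := hp.two_le
    have h3 : 0 < Nat.card U := Nat.card_pos
    nlinarith
  have hT : U ⊔ Subgroup.zpowers g = (S : Subgroup G) := by
    apply eq_of_prime_index hp U _ _ le_sup_left
      (sup_le hUS (by rw [Subgroup.zpowers_le]; exact hgS))
    · intro h
      exact hgU (h (Subgroup.mem_sup_right (Subgroup.mem_zpowers g)))
    · exact hSU
  have hker : U ⊓ Subgroup.centralizer {g} ≤ Z := by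
    intro u hu''
    obtain ⟨huU, hug⟩ := Subgroup.mem_inf.1 hu''
    rw [Subgroup.mem_centralizer_singleton_iff] at hug
    apply hZ.iscen u (hUS huU)
    have hle : (S : Subgroup G) ≤ Subgroup.centralizer {u} := by
      rw [← hT]
      apply sup_le
      · intro u' hu'
        rw [Subgroup.mem_centralizer_singleton_iff]
        exact hU u' hu' u huU
      · rw [Subgroup.zpowers_le, Subgroup.mem_centralizer_singleton_iff]
        exact hug.symm
    intro s hs'
    exact (Subgroup.mem_centralizer_singleton_iff.1 (hle hs')).symm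
  have h1 : Nat.card U ≤ p * p := by
    have := H87SMGHom.card_le hZ U hUS g hgS
    rw [hcard] at this
    have h2 := Subgroup.card_le_of_le hker
    rw [hcard] at h2
    exact this.trans (Nat.mul_le_mul_right _ h2)
  have h2 : p ^ 2 ≤ Nat.card U := by
    rw [← hW]; exact Subgroup.card_le_of_le hWU
  have h3 : Nat.card U = p ^ 2 := le_antisymm (by rw [sq]; exact h1) h2
  rw [hSU, h3]
  ring

end Cfsg.Agent.Lib.H87SMG7b
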