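import Cfsg.Agent.Lib.Helper87SMDefs

/-!
Project 4394 (row S4394), piece GAmb.
-/

set_option autoImplicit false

namespace Cfsg.Agent.Lib.H87SMGAmb

open Cfsg Cfsg.Agent.Lib Cfsg.Agent.Lib.Helper87SMDefs

theorem amb {G : Type*} [Group G] (S : Subgroup G) {p : ℕ} (h : SES p ↥S) :
    SESin p S ((Subgroup.center ↥S).map S.subtype) := by
  have hmem : ∀ x (hx : x ∈ S), x ∈ (Subgroup.center ↥S).map S.subtype ↔
      (⟨x, hx⟩ : S) ∈ Subgroup.center ↥S := by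
    intro x hx
    constructor
    · rintro ⟨z, hz, rfl⟩; exact hz
    · intro hz; exact ⟨⟨x, hx⟩, hz, rfl⟩
  refine ⟨Subgroup.map_subtype_le _, ?_, ?_, ?_, ?_, ?_, ?_⟩
  · rintro _ ⟨z, hz, rfl⟩ s hs
    have := Subgroup.mem_center_iff.mp hz ⟨s, hs⟩
    exact (congrArg Subtype.val this).symm
  · intro x hx hall
    rw [hmem x hx, Subgroup.mem_center_iff]
    rintro ⟨s, hs⟩
    apply Subtype.ext
    exact (hall s hs).symm
  · intro x hx y hy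
    exact ⟨_, h.comm ⟨x, hx⟩ ⟨y, hy⟩, rfl⟩
  · intro x hx
    exact ⟨_, h.pw ⟨x, hx⟩, rfl⟩
  · intro x hx hxZ
    rintro _ ⟨z, hz, rfl⟩
    obtain ⟨g, hg⟩ := h.surj ⟨x, hx⟩ (fun hc => hxZ ((hmem x hx).mpr hc)) z hz
    exact ⟨g.1, g.2, congrArg Subtype.val hg⟩
  · rintro _ ⟨z, hz, rfl⟩
    exact congrArg Subtype.val (h.exp z hz)

end Cfsg.Agent.Lib.H87SMGAmb
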