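import Cfsg.Agent.Lib.Helper87SMDefs

/-!
Project 4394 (row S4394), piece GHom.
-/

set_option autoImplicit false

namespace Cfsg.Agent.Lib.H87SMGHom

open Cfsg Cfsg.Agent.Lib Cfsg.Agent.Lib.Helper87SMDefs

theorem key {G : Type*} [Group G] {p : ℕ} {S Z : Subgroup G} (hZ : SESin p S Z)
    (T : Subgroup G) (hT : T ≤ S) (y : G) (hy : y ∈ S) :
    ∃ κ : ↥T →* ↥Z, (∀ t : T, ((κ t : Z) : G) = t * y * (t : G)⁻¹ * y⁻¹) ∧
      Nat.card κ.ker = Nat.card ↥(T ⊓ Subgroup.centralizer {y}) := by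
  let κ : ↥T →* ↥Z :=
    { toFun := fun t => ⟨t * y * (t : G)⁻¹ * y⁻¹, hZ.comm t (hT t.2) y hy⟩
      map_one' := by
        apply Subtype.ext
        simp
      map_mul' := by
        rintro ⟨t, ht⟩ ⟨t', ht'⟩
        apply Subtype.ext
        show t * t' * y * (t * t')⁻¹ * y⁻¹ = (t * y * t⁻¹ * y⁻¹) * (t' * y * t'⁻¹ * y⁻¹)
        have hc' : t' * y * t'⁻¹ * y⁻¹ ∈ Z := hZ.comm t' (hT ht') y hy
        have hc : t * y * t⁻¹ * y⁻¹ ∈ Z := hZ.comm t (hT ht) y hy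
        have e1 := hZ.cen _ hc' t (hT ht)
        have e2 := hZ.cen _ hc' _ (hZ.le hc)
        calc t * t' * y * (t * t')⁻¹ * y⁻¹
            = (t * (t' * y * t'⁻¹ * y⁻¹)) * (y * t⁻¹ * y⁻¹) := by group
          _ = ((t' * y * t'⁻¹ * y⁻¹) * t) * (y * t⁻¹ * y⁻¹) := by rw [e1]
          _ = (t' * y * t'⁻¹ * y⁻¹) * (t * y * t⁻¹ * y⁻¹) := by group
          _ = (t * y * t⁻¹ * y⁻¹) * (t' * y * t'⁻¹ * y⁻¹) := e2 }
  refine ⟨κ, fun t => rfl, ?_⟩
  have hker : κ.ker = (T ⊓ Subgroup.centralizer {y}).subgroupOf T := by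
    ext ⟨t, ht⟩
    rw [MonoidHom.mem_ker, Subgroup.mem_subgroupOf, Subgroup.mem_inf,
      Subgroup.mem_centralizer_singleton_iff]
    constructor
    · intro h
      have h1 : t * y * t⁻¹ * y⁻¹ = 1 := congrArg Subtype.val h
      refine ⟨ht, ?_⟩
      show t * y = y * t
      calc t * y = (t * y * t⁻¹ * y⁻¹) * (y * t) := by group
        _ = y * t := by rw [h1, one_mul]
    · rintro ⟨-, h⟩
      apply Subtype.ext
      show t * y * t⁻¹ * y⁻¹ = 1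
      have h' : t * y = y * t := h
      rw [h']; group
  rw [hker]
  exact Nat.card_congr (Subgroup.subgroupOfEquivOfLe inf_le_left).toEquiv

theorem card_le {G : Type*} [Group G] [Finite G] {p : ℕ} {S Z : Subgroup G} (hZ : SESin p S Z)
    (T : Subgroup G) (hT : T ≤ S) (y : G) (hy : y ∈ S) :
    Nat.card T ≤ Nat.card ↥(T ⊓ Subgroup.centralizer {y}) * Nat.card Z := by
  obtain ⟨κ, -, hk⟩ := key hZ T hT y hy
  rw [← hk, ← Subgroup.card_mul_index κ.ker, Subgroup.index_ker]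
  exact Nat.mul_le_mul_left _ (Subgroup.card_le_card_group _)

theorem card_eq {G : Type*} [Group G] [Finite G] {p : ℕ} {S Z : Subgroup G} (hZ : SESin p S Z)
    (y : G) (hy : y ∈ S) (hyZ : y ∉ Z) :
    Nat.card S = Nat.card ↥(S ⊓ Subgroup.centralizer {y}) * Nat.card Z := by
  obtain ⟨κ, hκ, hk⟩ := key hZ S le_rfl y hy
  have hsurj : Function.Surjective κ := by
    rintro ⟨z, hz⟩
    obtain ⟨g, hg, hgz⟩ := hZ.surj y hy hyZ z⁻¹ (Z.inv_mem hz)
    refine ⟨⟨g, hg⟩, ?_⟩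
    apply Subtype.ext
    rw [hκ]
    show g * y * g⁻¹ * y⁻¹ = z
    have : (y * g * y⁻¹ * g⁻¹)⁻¹ = z := by rw [hgz, inv_inv]
    rw [← this]; group
  rw [← hk, ← Subgroup.card_mul_index κ.ker, Subgroup.index_ker, MonoidHom.range_eq_top.mpr hsurj,
    Subgroup.card_top]

end Cfsg.Agent.Lib.H87SMGHom
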