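import Mathlib

/-!
# Vocabulary of PROJECT 4394 (row S4394: Sylow p-subgroup of Schmidt type => p-length ≤ 1)
-/

set_option autoImplicit false

namespace Cfsg.Agent.Lib.Helper87SMDefs

/-- Schmidt datum: `α` is an automorphism of `P` of prime order `r ≠ p` fixing pointwise every proper `α`-invariant subgroup. -/
structure SDat (p r : ℕ) {P : Type*} [Group P] (α : MulAut P) : Prop where
  rp : r.Prime
  ne : r ≠ p
  pow : α ^ r = 1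
  ne1 : α ≠ 1
  mini : ∀ S : Subgroup P, S ≠ ⊤ → (∀ s ∈ S, α s ∈ S) → ∀ s ∈ S, α s = s

def SD (p : ℕ) (P : Type*) [Group P] : Prop := ∃ (r : ℕ) (α : MulAut P), SDat p r α

/-- "semi-extraspecial". -/
structure SES (p : ℕ) (P : Type*) [Group P] : Prop where
  comm : ∀ x y : P, x * y * x⁻¹ * y⁻¹ ∈ Subgroup.center P
  pw : ∀ x : P, x ^ p ∈ Subgroup.center P
  surj : ∀ x : P, x ∉ Subgroup.center P → ∀ z ∈ Subgroup.center P, ∃ g : P, x * g * x⁻¹ * g⁻¹ = z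
  exp : ∀ z ∈ Subgroup.center P, z ^ p = 1

/-- the same for a subgroup `S` of an ambient group, `Z = Z(S)`. -/
structure SESin (p : ℕ) {G : Type*} [Group G] (S Z : Subgroup G) : Prop where
  le : Z ≤ S
  cen : ∀ z ∈ Z, ∀ s ∈ S, z * s = s * z
  iscen : ∀ x ∈ S, (∀ s ∈ S, x * s = s * x) → x ∈ Z
  comm : ∀ x ∈ S, ∀ y ∈ S, x * y * x⁻¹ * y⁻¹ ∈ Z
  pw : ∀ x ∈ S, x ^ p ∈ Z
  surj : ∀ x ∈ S, x ∉ Z → ∀ z ∈ Z, ∃ g ∈ S, x * g * x⁻¹ * g⁻¹ = z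
  exp : ∀ z ∈ Z, z ^ p = 1

/-- `[W, Q]`. -/
def W1 {H W : Type*} [Group H] [CommGroup W] (j : H →* MulAut W) (Q : Subgroup H) : Subgroup W :=
  Subgroup.closure {t | ∃ u ∈ Q, ∃ w : W, t = j u w * w⁻¹}

/-- `C_W(Q)`. -/
def F1 {H W : Type*} [Group H] [CommGroup W] (j : H →* MulAut W) (Q : Subgroup H) : Subgroup W where
  carrier := {w | ∀ u ∈ Q, j u w = w}
  one_mem' := fun u _ => map_one _
  mul_mem' := fun {a b} ha hb u hu => by rw [map_mul, ha u hu, hb u hu]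
  inv_mem' := fun {a} ha u hu => by rw [map_inv, ha u hu]

theorem mem_F1 {H W : Type*} [Group H] [CommGroup W] (j : H →* MulAut W) (Q : Subgroup H) (w : W) :
    w ∈ F1 j Q ↔ ∀ u ∈ Q, j u w = w := Iff.rfl

/-- The context of the transvection lemma: `H` acts faithfully (`j`) on the elementary abelian `p`-group `W`; `A` is an elementary abelian `p`-subgroup of `H`, `Z = C_W(A) ⊇ [W, A]`, and
`[w, A] = Z` for every `w ∉ Z`; `1 ≠ x ∈ A`; `Q` is a `q`-subgroup (`q ≠ p`), minimal among the `A`-invariant subgroups not centralised by `x`, `Q = [Q, x]`. -/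
structure TCtx (p q : ℕ) {H W : Type*} [Group H] [CommGroup W] (j : H →* MulAut W)
    (A Q : Subgroup H) (Z : Subgroup W) (x : H) : Prop where
  inj : Function.Injective j
  expW : ∀ w : W, w ^ p = 1
  fixZ : ∀ a ∈ A, ∀ z ∈ Z, j a z = z
  quad : ∀ a ∈ A, ∀ w : W, j a w * w⁻¹ ∈ Z
  surj : ∀ w : W, w ∉ Z → ∀ z ∈ Z, ∃ a ∈ A, j a w * w⁻¹ = z
  comm : ∀ a ∈ A, ∀ b ∈ A, Commute a b
  expA : ∀ a ∈ A, a ^ p = 1
  xA : x ∈ A
  x1 : x ≠ 1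
  qQ : IsPGroup q Q
  inv : ∀ d ∈ A, ∀ u ∈ Q, d * u * d⁻¹ ∈ Q
  gen : Q ≤ Subgroup.closure {w | ∃ u ∈ Q, w = x * u * x⁻¹ * u⁻¹}
  ne : ∃ u ∈ Q, ¬ Commute x u
  mini : ∀ Q₂ : Subgroup H, Q₂ ≤ Q → (∀ d ∈ A, ∀ u ∈ Q₂, d * u * d⁻¹ ∈ Q₂) → Q₂ ≠ Q →
    ∀ u ∈ Q₂, Commute x u

end Cfsg.Agent.Lib.Helper87SMDefs
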