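import Cfsg.Agent.Lib.Helper60Core
import Cfsg.Agent.Lib.Helper87SMDefs

/-!
Project 4394 (row S4394), piece GIso.
-/

set_option autoImplicit false

namespace Cfsg.Agent.Lib.H87SMGIso

open Cfsg Cfsg.Agent.Lib Cfsg.Agent.Lib.Helper87SMDefs

theorem iso {G : Type*} [Group G] [Finite G] {p : ℕ} [Fact p.Prime] (Q : Sylow p G) :
    Nonempty (↥(Q : Subgroup G) ≃*
      ↥((Q : Subgroup G).map (QuotientGroup.mk' (pPrimeCore p G)))) := by
  refine ⟨MulEquiv.ofBijective ((QuotientGroup.mk' (pPrimeCore p G)).subgroupMap (Q : Subgroup G))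
    ⟨?_, MonoidHom.subgroupMap_surjective _ _⟩⟩
  rw [injective_iff_map_eq_one]
  rintro ⟨x, hx⟩ h
  have h1 : QuotientGroup.mk' (pPrimeCore p G) x = 1 := congrArg Subtype.val h
  have hxN : x ∈ pPrimeCore p G := by
    rwa [QuotientGroup.mk'_apply, QuotientGroup.eq_one_iff] at h1
  obtain ⟨k, hk⟩ := Q.isPGroup' ⟨x, hx⟩
  have hk' : x ^ (p ^ k) = 1 := by
    have := congrArg Subtype.val hk
    simpa using this
  have h2 : x ^ Nat.card (pPrimeCore p G) = 1 := by
    have h5 := pow_card_eq_one' (x := (⟨x, hxN⟩ : pPrimeCore p G))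
    exact congrArg Subtype.val h5
  have hcop : Nat.Coprime (p ^ k) (Nat.card (pPrimeCore p G)) :=
    ((Helper60Core.card_pPrimeCore_coprime p).symm).pow_left k
  have h3 : x ^ (Nat.gcd (p ^ k) (Nat.card (pPrimeCore p G))) = 1 := pow_gcd_eq_one.mpr ⟨hk', h2⟩
  rw [hcop, pow_one] at h3
  exact Subtype.ext h3

end Cfsg.Agent.Lib.H87SMGIso
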