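import Mathlib

/-!
# Vocabulary of PROJECT 92 (Hall-Higman Theorem B and the Shult-Gross theorem)

All operator groups live in `(Module.End K V)ˣ`.
-/

set_option autoImplicit false

namespace Cfsg.Agent.Lib.Helper92HHDefs

open Polynomial

variable {K V : Type*} [Field K] [AddCommGroup V] [Module K V]

/-- every nonzero polynomial `f` with `f(X)` vanishing on `U` has degree at least `s`. -/
def minDegOn (X : Module.End K V) (U : Submodule K V) (s : ℕ) : Prop :=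
  ∀ f : K[X], f ≠ 0 → (∀ u ∈ U, aeval X f u = 0) → s ≤ f.natDegree

/-- the commutant of an operator. -/
def commutant (X : Module.End K V) : Submodule K (Module.End K V) where
  carrier := {T | T * X = X * T}
  add_mem' := by
    intro a b ha hb
    simp only [Set.mem_ofPred_eq] at ha hb ⊢
    rw [add_mul, mul_add, ha, hb]
  zero_mem' := by simp
  smul_mem' := by
    intro c a ha
    simp only [Set.mem_ofPred_eq] at ha ⊢
    rw [smul_mul_assoc, mul_smul_comm, ha]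

theorem mem_commutant {X T : Module.End K V} : T ∈ commutant X ↔ T * X = X * T := Iff.rfl

/-- scalar operator. -/
def IsSc (g : Module.End K V) : Prop := ∃ c : K, g = c • (1 : Module.End K V)

/-- scalar on a subspace. -/
def IsScOn (g : Module.End K V) (U : Submodule K V) : Prop := ∃ c : K, ∀ u ∈ U, g u = c • u

/-- joint eigenspace of a set of operators. -/
def wt (S : Set (Module.End K V)) (l : Module.End K V → K) : Submodule K V :=
  ⨅ s ∈ S, LinearMap.ker (s - l s • (1 : Module.End K V))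

theorem mem_wt {S : Set (Module.End K V)} {l : Module.End K V → K} {v : V} :
    v ∈ wt S l ↔ ∀ s ∈ S, s v = l s • v := by
  simp [wt, Submodule.mem_iInf, sub_eq_zero]

/-- `Q` is a minimal `X`-invariant `q`-subgroup not centralised by `τ = X ^ p ^ (n-1)`,
together with the standard consequences. -/
structure MinData {Γ : Type*} [Group Γ] (p q n : ℕ) (Q : Subgroup Γ) (X : Γ) : Prop where
  fin : Finite Q
  pgrp : IsPGroup q Q
  norm : ∀ u ∈ Q, X * u * X⁻¹ ∈ Q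
  pow : X ^ p ^ n = 1
  npos : 1 ≤ n
  /-- `C_Q(τ) ≤ Z(Q)` -/
  cent : ∀ d ∈ Q, Commute (X ^ p ^ (n - 1)) d → ∀ u ∈ Q, Commute d u
  /-- `Q' ≤ C_Q(τ)` -/
  der : ∀ u ∈ Q, ∀ v ∈ Q, Commute (X ^ p ^ (n - 1)) (u * v * u⁻¹ * v⁻¹)
  /-- `Q = [Q, τ]` -/
  gen : Q ≤ Subgroup.closure
    {w | ∃ u ∈ Q, w = X ^ p ^ (n - 1) * u * (X ^ p ^ (n - 1))⁻¹ * u⁻¹}
  mini : ∀ Q₁ : Subgroup Γ, Q₁ ≤ Q → (∀ u ∈ Q₁, X * u * X⁻¹ ∈ Q₁) → Q₁ ≠ Q →
    ∀ u ∈ Q₁, Commute (X ^ p ^ (n - 1)) u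
  ne : ∃ u ∈ Q, ¬ Commute (X ^ p ^ (n - 1)) u
  /-- `C_{Q/N}(τ) = C_Q(τ)N/N` -/
  lift : ∀ N : Subgroup Γ, N ≤ Q → (∀ u ∈ Q, ∀ m ∈ N, u * m * u⁻¹ ∈ N) →
    (∀ m ∈ N, X ^ p ^ (n - 1) * m * (X ^ p ^ (n - 1))⁻¹ ∈ N) →
    ∀ u ∈ Q, X ^ p ^ (n - 1) * u * (X ^ p ^ (n - 1))⁻¹ * u⁻¹ ∈ N →
      ∃ d ∈ Q, Commute (X ^ p ^ (n - 1)) d ∧ u * d⁻¹ ∈ N

/-- the running situation of the recursion: `U ≠ 0` is invariant under `Q` and `X ^ p ^ a`, and
`C_U(Q) = 0`. -/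
def Sit (p : ℕ) (Q : Subgroup (Module.End K V)ˣ) (X : (Module.End K V)ˣ) (U : Submodule K V)
    (a : ℕ) : Prop :=
  U ≠ ⊥ ∧ (∀ g ∈ Q, ∀ u ∈ U, (g : Module.End K V) u ∈ U) ∧
  (∀ u ∈ U, ((X ^ p ^ a : (Module.End K V)ˣ) : Module.End K V) u ∈ U) ∧
  (∀ v ∈ U, (∀ g ∈ Q, (g : Module.End K V) v = v) → v = 0)

/-- the critical situation: moreover the elements of `Q` central on `U` are scalar on `U`, and `U`
is irreducible under `Q` and `X ^ p ^ a`. -/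
def CritSit (p : ℕ) (Q : Subgroup (Module.End K V)ˣ) (X : (Module.End K V)ˣ)
    (U : Submodule K V) (a : ℕ) : Prop :=
  Sit p Q X U a ∧
  (∀ b ∈ Q, (∀ g ∈ Q, ∀ u ∈ U, (b : Module.End K V) ((g : Module.End K V) u)
      = (g : Module.End K V) ((b : Module.End K V) u)) → IsScOn (b : Module.End K V) U) ∧
  (∀ W : Submodule K V, W ≤ U → (∀ g ∈ Q, ∀ w ∈ W, (g : Module.End K V) w ∈ W) →
    (∀ w ∈ W, ((X ^ p ^ a : (Module.End K V)ˣ) : Module.End K V) w ∈ W) → W = ⊥ ∨ W = U)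

/-- Heisenberg-type twisted pair: `ρ` a representation of the finite `q`-group `Q₀`, abelian
modulo scalars, with nondegenerate commutator pairing; `Y` an operator of exponent `N` inducing the
automorphism `α` of `Q₀`, acting freely on `Q₀` modulo the scalars. -/
structure Heis (q : ℕ) {Q₀ : Type*} [Group Q₀] (ρ : Q₀ →* (Module.End K V)ˣ) (α : MulAut Q₀)
    (Y : (Module.End K V)ˣ) (N : ℕ) : Prop where
  fin : Finite Q₀
  pgrp : IsPGroup q Q₀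
  tw : ∀ u, Y * ρ u * Y⁻¹ = ρ (α u)
  pow : Y ^ N = 1
  apow : α ^ N = 1
  two_le : 2 ≤ N
  comm_sc : ∀ u v, IsSc ((ρ (u * v * u⁻¹ * v⁻¹) : (Module.End K V)ˣ) : Module.End K V)
  nondeg : ∀ b, (∀ g, Commute (ρ b) (ρ g)) → IsSc ((ρ b : (Module.End K V)ˣ) : Module.End K V)
  free : ∀ u i, 0 < i → i < N →
    (∃ c : K, ((ρ ((α ^ i) u) : (Module.End K V)ˣ) : Module.End K V)
      = c • ((ρ u : (Module.End K V)ˣ) : Module.End K V)) →
    IsSc ((ρ u : (Module.End K V)ˣ) : Module.End K V)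
  nonsc : ∃ u, ¬ IsSc ((ρ u : (Module.End K V)ˣ) : Module.End K V)

/-- irreducibility of a representation. -/
def Irr {Q₀ : Type*} [Group Q₀] (ρ : Q₀ →* (Module.End K V)ˣ) : Prop :=
  ∀ W : Submodule K V, (∀ g, ∀ w ∈ W, ((ρ g : (Module.End K V)ˣ) : Module.End K V) w ∈ W) →
    W = ⊥ ∨ W = ⊤

/-- the scalar part of `Q₀`. -/
def scSub {Q₀ : Type*} [Group Q₀] (ρ : Q₀ →* (Module.End K V)ˣ) : Set Q₀ :=
  {z | IsSc ((ρ z : (Module.End K V)ˣ) : Module.End K V)}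

/-- the good conclusion at level `a`: `X ^ p ^ a` has "minimal polynomial of degree `p ^ (n-a)`" on
`U`. -/
def formF (p n : ℕ) (X : (Module.End K V)ˣ) (U : Submodule K V) (a : ℕ) : Prop :=
  minDegOn ((X ^ p ^ a : (Module.End K V)ˣ) : Module.End K V) U (p ^ (n - a))

/-- the Hall-Higman conclusion at level `a`. -/
def formE (p q n : ℕ) (Q : Subgroup (Module.End K V)ˣ) (X : (Module.End K V)ˣ)
    (U : Submodule K V) (a : ℕ) : Prop :=
  formF p n X U a ∨ ((∃ u ∈ Q, ∃ v ∈ Q, ¬ Commute u v) ∧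
    ∃ n₀ m : ℕ, 1 ≤ n₀ ∧ n₀ ≤ n - a ∧ 1 ≤ m ∧ p ^ n₀ - 1 = q ^ m ∧
      minDegOn ((X ^ p ^ a : (Module.End K V)ˣ) : Module.End K V) U
        (p ^ (n - a - n₀) * (p ^ n₀ - 1)))

end Cfsg.Agent.Lib.Helper92HHDefs
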