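import Mathlib
import Cfsg.Agent.Lib.Helper92HHDefs

set_option autoImplicit false

/-! PROJECT 92: common lemmas on scalar operators (used by the pieces Basis, ATrick, Comm). -/

namespace Cfsg.Agent.Lib.Helper73HHSc

open Cfsg.Agent.Lib.Helper92HHDefs

variable {K V : Type*} [Field K] [AddCommGroup V] [Module K V]

theorem isSc_one : IsSc (1 : Module.End K V) := ⟨1, (one_smul _ _).symm⟩

theorem isSc_mul {a b : Module.End K V} (ha : IsSc a) (hb : IsSc b) : IsSc (a * b) := by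
  obtain ⟨c, rfl⟩ := ha
  obtain ⟨d, rfl⟩ := hb
  exact ⟨c * d, by rw [smul_mul_smul_comm, one_mul]⟩

theorem isSc_inv (g : (Module.End K V)ˣ) (h : IsSc (g : Module.End K V)) :
    IsSc ((g⁻¹ : (Module.End K V)ˣ) : Module.End K V) := by
  obtain ⟨c, hc⟩ := h
  have h1 : ((g⁻¹ : (Module.End K V)ˣ) : Module.End K V) * (g : Module.End K V) = 1 :=
    Units.inv_mul g
  rw [hc, mul_smul_comm, mul_one] at h1
  refine ⟨c⁻¹, ?_⟩
  by_cases h0 : c = 0
  · rw [h0, zero_smul] at h1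
    rw [← mul_one ((g⁻¹ : (Module.End K V)ˣ) : Module.End K V), ← h1, mul_zero, smul_zero]
  · rw [← h1, smul_smul, inv_mul_cancel₀ h0, one_smul]

theorem isSc_comm {a : Module.End K V} (ha : IsSc a) (b : Module.End K V) : a * b = b * a := by
  obtain ⟨c, rfl⟩ := ha
  rw [smul_mul_assoc, mul_smul_comm, one_mul, mul_one]

variable {Q₀ : Type*} [Group Q₀]

/-- the elements acting as scalars, as a subgroup -/
def scG (ρ : Q₀ →* (Module.End K V)ˣ) : Subgroup Q₀ where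
  carrier := scSub ρ
  one_mem' := by
    show IsSc _
    rw [map_one]
    exact isSc_one
  mul_mem' := by
    intro a b ha hb
    show IsSc _
    rw [map_mul, Units.val_mul]
    exact isSc_mul ha hb
  inv_mem' := by
    intro a ha
    show IsSc _
    rw [map_inv]
    exact isSc_inv _ ha

theorem mem_scG {ρ : Q₀ →* (Module.End K V)ˣ} {u : Q₀} :
    u ∈ scG ρ ↔ IsSc ((ρ u : (Module.End K V)ˣ) : Module.End K V) := Iff.rfl

theorem card_scG (ρ : Q₀ →* (Module.End K V)ˣ) : Nat.card (scG ρ) = Nat.card (scSub ρ) := rfl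

theorem cast_card_ne_zero {q : ℕ} [Fact q.Prime] (hq : (q : K) ≠ 0) {G : Type*} [Group G]
    [Finite G] (h : IsPGroup q G) : (Nat.card G : K) ≠ 0 := by
  obtain ⟨n, hn⟩ := h.exists_card_eq
  rw [hn, Nat.cast_pow]
  exact pow_ne_zero _ hq

/-- conjugating by `Y` fixes scalars -/
theorem conj_sc (Y g : (Module.End K V)ˣ) (h : IsSc (g : Module.End K V)) : Y * g * Y⁻¹ = g := by
  apply Units.ext
  rw [Units.val_mul, Units.val_mul, ← isSc_comm h, mul_assoc, Units.mul_inv, mul_one]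

variable {q : ℕ} {ρ : Q₀ →* (Module.End K V)ˣ} {α : MulAut Q₀} {Y : (Module.End K V)ˣ} {N : ℕ}

theorem one_ne_zero_of_heis (h : Heis q ρ α Y N) : (1 : Module.End K V) ≠ 0 := by
  intro h0
  obtain ⟨u, hu⟩ := h.nonsc
  apply hu
  refine ⟨0, ?_⟩
  rw [zero_smul, ← mul_one ((ρ u : (Module.End K V)ˣ) : Module.End K V), h0, mul_zero]

theorem rho_alpha_of_sc (h : Heis q ρ α Y N) {u : Q₀} (hu : u ∈ scG ρ) : ρ (α u) = ρ u := by
  rw [← h.tw, conj_sc Y _ hu]

theorem alpha_mem (h : Heis q ρ α Y N) {u : Q₀} (hu : u ∈ scG ρ) : α u ∈ scG ρ := by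
  rw [mem_scG, rho_alpha_of_sc h hu]
  exact hu

theorem free' (h : Heis q ρ α Y N) (u : Q₀) (i : ℕ) (h0 : 0 < i) (hi : i < N)
    (hu : (α ^ i) u * u⁻¹ ∈ scG ρ) : u ∈ scG ρ := by
  obtain ⟨c, hc⟩ := hu
  refine h.free u i h0 hi ⟨c, ?_⟩
  have e : ρ ((α ^ i) u) = ρ ((α ^ i) u * u⁻¹) * ρ u := by
    rw [← map_mul, inv_mul_cancel_right]
  rw [e, Units.val_mul, hc, smul_mul_assoc, one_mul]

end Cfsg.Agent.Lib.Helper73HHSc
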