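import Mathlib
import Cfsg.Agent.Lib.Helper92HHDefs
import Cfsg.Agent.Lib.H92HHAv
import Cfsg.Agent.Lib.Helper73HHSc

set_option autoImplicit false

namespace Cfsg.Agent.Lib.H92HHATrick

open Polynomial Cfsg.Agent.Lib.Helper92HHDefs Cfsg.Agent.Lib.Helper73HHSc

variable {K V : Type*} [Field K] [AddCommGroup V] [Module K V]

/-- PIECE ATrick.  If `V` is irreducible under `ρ(Q₀)` and `Y`, it is already irreducible under `ρ(Q₀)`.
Proof: `A = ∑_u ρ (α u * u⁻¹)`.  (i) `ρ (α g) A = A ρ g` (reindex `u ↦ g u`).  (ii) `Y A Y⁻¹ = A` (reindex `u ↦ α u`).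
(iii) `A ≠ 0` by averaging.  (iv) `ker A` is invariant under `ρ` and `Y`, and `≠ ⊤`: `A` is injective, hence invertible.
(v) an eigenspace of `A⁻¹ Y` is invariant, so `Y = μ A ∈ span ρ(Q₀)`.  (vi) every `ρ`-invariant subspace is `Y`-invariant. -/
theorem irr_of_irr [IsAlgClosed K] [FiniteDimensional K V] [Nontrivial V] {q : ℕ} [Fact q.Prime]
    (hq : (q : K) ≠ 0) {Q₀ : Type*} [Group Q₀] {ρ : Q₀ →* (Module.End K V)ˣ} {α : MulAut Q₀}
    {Y : (Module.End K V)ˣ} {N : ℕ} (h : Heis q ρ α Y N)
    (hirr : ∀ W : Submodule K V,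
      (∀ g, ∀ w ∈ W, ((ρ g : (Module.End K V)ˣ) : Module.End K V) w ∈ W) →
      (∀ w ∈ W, (Y : Module.End K V) w ∈ W) → W = ⊥ ∨ W = ⊤) : Irr ρ := by
  classical
  haveI := h.fin
  haveI : Fintype Q₀ := Fintype.ofFinite Q₀
  set R : Q₀ → Module.End K V := fun u => ((ρ u : (Module.End K V)ˣ) : Module.End K V) with hR
  have hRmul : ∀ a b, R (a * b) = R a * R b := by
    intro a b
    simp only [hR, map_mul, Units.val_mul]
  set A : Module.End K V := ∑ u : Q₀, R (α u * u⁻¹) with hA
  have hYR : ∀ x, (Y : Module.End K V) * R x = R (α x) * (Y : Module.End K V) := by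
    intro x
    have := h.tw x
    rw [mul_inv_eq_iff_eq_mul] at this
    have h2 := congrArg (fun g : (Module.End K V)ˣ => (g : Module.End K V)) this
    simpa only [Units.val_mul] using h2
  have hA1 : ∀ g, R (α g) * A = A * R g := by
    intro g
    rw [hA, Finset.mul_sum, Finset.sum_mul]
    refine Fintype.sum_equiv (Equiv.mulLeft g) _ _ (fun u => ?_)
    rw [← hRmul, ← hRmul]
    congr 1
    simp only [Equiv.coe_mulLeft, map_mul, mul_inv_rev]
    group
  have hA2 : (Y : Module.End K V) * A = A * (Y : Module.End K V) := by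
    rw [hA, Finset.mul_sum, Finset.sum_mul]
    refine Fintype.sum_equiv α.toEquiv _ _ (fun u => ?_)
    rw [hYR]
    congr 2
    simp
  have hA0 : A ≠ 0 := by
    intro h0
    have h1 : ∑ v : Q₀, R v * A * R v⁻¹ = 0 := by
      rw [h0]; simp
    have h2 : ∑ v : Q₀, R v * A * R v⁻¹ =
        ∑ u : Q₀, if u ∈ scG ρ then (Fintype.card Q₀ : K) • (1 : Module.End K V) else 0 := by
      rw [hA]
      simp only [Finset.mul_sum, Finset.sum_mul]
      rw [Finset.sum_comm]
      refine Finset.sum_congr rfl (fun u _ => ?_)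
      split_ifs with hu
      · have e : ∀ v, R v * R (α u * u⁻¹) * R v⁻¹ = 1 := by
          intro v
          have e1 : R (α u * u⁻¹) = 1 := by
            simp only [hR]
            rw [map_mul, rho_alpha_of_sc h hu, ← map_mul, mul_inv_cancel, map_one, Units.val_one]
          rw [e1, mul_one, ← hRmul, mul_inv_cancel]
          simp only [hR, map_one, Units.val_one]
        rw [Finset.sum_congr rfl (fun v _ => e v), Finset.sum_const, Finset.card_univ,
          Nat.cast_smul_eq_nsmul]
      · have hns : ¬ IsSc ((ρ (α u * u⁻¹) : (Module.End K V)ˣ) : Module.End K V) := by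
          intro hsc
          apply hu
          refine free' h u 1 one_pos (by have := h.two_le; omega) ?_
          rw [pow_one]
          exact hsc
        rw [← Cfsg.Agent.Lib.H92HHAv.av_eq_zero h _ hns]
        refine Finset.sum_congr rfl (fun v _ => ?_)
        rw [← hRmul, ← hRmul]
    rw [h2, ← Finset.sum_filter, Finset.sum_const, ← Nat.cast_smul_eq_nsmul K, smul_smul] at h1
    rcases smul_eq_zero.1 h1 with h3 | h3
    · rcases mul_eq_zero.1 h3 with h4 | h4
      · rw [← Fintype.card_subtype] at h4
        have : Fintype.card {x // x ∈ scG ρ} = Nat.card (scG ρ) :=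
          (Nat.card_eq_fintype_card).symm
        rw [this] at h4
        exact cast_card_ne_zero hq (h.pgrp.to_subgroup (scG ρ)) h4
      · rw [← Nat.card_eq_fintype_card] at h4
        exact cast_card_ne_zero hq h.pgrp h4
    · exact one_ne_zero_of_heis h h3
  have hinj : Function.Injective A := by
    rw [← LinearMap.ker_eq_bot]
    rcases hirr (LinearMap.ker A) (fun g w hw => by
      rw [LinearMap.mem_ker] at hw ⊢
      have : A (R g w) = (R (α g) * A) w := by rw [hA1]; rfl
      show A (R g w) = 0
      rw [this, Module.End.mul_apply, hw, map_zero]) (fun w hw => by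
      rw [LinearMap.mem_ker] at hw ⊢
      have : A ((Y : Module.End K V) w) = ((Y : Module.End K V) * A) w := by rw [hA2]; rfl
      rw [this, Module.End.mul_apply, hw, map_zero]) with h1 | h1
    · exact h1
    · exact absurd (LinearMap.ker_eq_top.1 h1) hA0
  set e := LinearEquiv.ofInjectiveEndo A hinj with he
  obtain ⟨μ, hμ⟩ := Module.End.exists_eigenvalue
    ((e.symm : V →ₗ[K] V) ∘ₗ (Y : Module.End K V) : Module.End K V)
  obtain ⟨w, hw⟩ := hμ.exists_hasEigenvector
  have hw1 : (Y : Module.End K V) w = μ • A w := by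
    have h1 := hw.apply_eq_smul
    rw [LinearMap.comp_apply, LinearEquiv.coe_coe, LinearEquiv.symm_apply_eq] at h1
    rw [h1, map_smul]
    rfl
  have hYA : (Y : Module.End K V) = μ • A := by
    have hB1 : ∀ g, ((Y : Module.End K V) - μ • A) * R g = R (α g) * ((Y : Module.End K V) - μ • A) := by
      intro g
      rw [sub_mul, mul_sub, smul_mul_assoc, mul_smul_comm, hYR, hA1]
    have hB2 : ((Y : Module.End K V) - μ • A) * (Y : Module.End K V) =
        (Y : Module.End K V) * ((Y : Module.End K V) - μ • A) := by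
      rw [sub_mul, mul_sub, smul_mul_assoc, mul_smul_comm, hA2]
    rcases hirr (LinearMap.ker ((Y : Module.End K V) - μ • A)) (fun g x hx => by
      rw [LinearMap.mem_ker] at hx ⊢
      have : ((Y : Module.End K V) - μ • A) (R g x) =
        (R (α g) * ((Y : Module.End K V) - μ • A)) x := by rw [← hB1]; rfl
      show ((Y : Module.End K V) - μ • A) (R g x) = 0
      rw [this, Module.End.mul_apply, hx, map_zero]) (fun x hx => by
      rw [LinearMap.mem_ker] at hx ⊢
      have : ((Y : Module.End K V) - μ • A) ((Y : Module.End K V) x) =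
        ((Y : Module.End K V) * ((Y : Module.End K V) - μ • A)) x := by rw [← hB2]; rfl
      rw [this, Module.End.mul_apply, hx, map_zero]) with h1 | h1
    · exfalso
      apply hw.2
      have : w ∈ LinearMap.ker ((Y : Module.End K V) - μ • A) := by
        rw [LinearMap.mem_ker, LinearMap.sub_apply, LinearMap.smul_apply, hw1, sub_self]
      rw [h1] at this
      exact this
    · exact sub_eq_zero.1 (LinearMap.ker_eq_top.1 h1)
  intro W hW
  refine hirr W hW (fun x hx => ?_)
  rw [hYA, LinearMap.smul_apply, hA, LinearMap.sum_apply]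
  exact W.smul_mem _ (Submodule.sum_mem _ (fun u _ => hW _ x hx))

end Cfsg.Agent.Lib.H92HHATrick
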