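import Mathlib
import Cfsg.Agent.Lib.Helper92HHDefs

set_option autoImplicit false

namespace Cfsg.Agent.Lib.H92HHBurn

open Polynomial Cfsg.Agent.Lib.Helper92HHDefs

variable {K V : Type*} [Field K] [AddCommGroup V] [Module K V]

/-- Schur's lemma. -/
theorem schur [IsAlgClosed K] [FiniteDimensional K V] [Nontrivial V] {Q₀ : Type*} [Group Q₀]
    (ρ : Q₀ →* (Module.End K V)ˣ) (hirr : Irr ρ) (ψ : Module.End K V)
    (hψ : ∀ g v, ψ (((ρ g : (Module.End K V)ˣ) : Module.End K V) v)
      = ((ρ g : (Module.End K V)ˣ) : Module.End K V) (ψ v)) :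
    ∃ c : K, ∀ v, ψ v = c • v := by
  obtain ⟨c, hc⟩ := Module.End.exists_eigenvalue ψ
  obtain ⟨u₀, hu₀⟩ := hc.exists_hasEigenvector
  set W : Submodule K V := LinearMap.ker (ψ - c • (1 : Module.End K V)) with hW
  have hmem : ∀ x, x ∈ W ↔ ψ x = c • x := by
    intro x
    simp [hW, sub_eq_zero]
  have hinv : ∀ g, ∀ w ∈ W, ((ρ g : (Module.End K V)ˣ) : Module.End K V) w ∈ W := by
    intro g w hw
    rw [hmem] at hw ⊢
    rw [hψ, hw, map_smul]
  rcases hirr W hinv with h | h
  · exfalso
    apply hu₀.2
    have : u₀ ∈ W := (hmem _).mpr hu₀.apply_eq_smul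
    rw [h] at this
    exact (Submodule.mem_bot K).mp this
  · refine ⟨c, fun v => ?_⟩
    rw [← hmem, h]
    exact Submodule.mem_top

/-- PIECE Burn (Burnside's theorem).  An irreducible representation over an algebraically closed field spans `End V`. -/
theorem span_eq_top [IsAlgClosed K] [FiniteDimensional K V] [Nontrivial V] {Q₀ : Type*} [Group Q₀]
    (ρ : Q₀ →* (Module.End K V)ˣ) (hirr : Irr ρ) :
    Submodule.span K (Set.range fun u : Q₀ => ((ρ u : (Module.End K V)ˣ) : Module.End K V)) = ⊤ := by
  classical
  set S : Set (Module.End K V) :=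
    Set.range fun u : Q₀ => ((ρ u : (Module.End K V)ˣ) : Module.End K V) with hS
  set A := Algebra.adjoin K S with hA
  -- the span is the subalgebra
  have hspan : Submodule.span K S = Subalgebra.toSubmodule A := by
    rw [hA, Algebra.adjoin_eq_span]
    congr 1
    let μ : Q₀ →* Module.End K V := (Units.coeHom (Module.End K V)).comp ρ
    have h1 : S = (MonoidHom.mrange μ : Set (Module.End K V)) := by
      ext x
      simp [hS, μ, MonoidHom.mem_mrange]
    rw [h1, Submonoid.closure_eq]
  let φ : A →+* Module.End K V := A.val.toRingHom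
  letI : Module A V := Module.compHom V φ
  have hsmul : ∀ (a : A) (v : V), a • v = (a : Module.End K V) v := by
    intro a v
    rfl
  have hsmulF : ∀ (c : K) (v : V), c • v = (algebraMap K A c) • v := by
    intro c v
    rw [hsmul]
    have : ((algebraMap K A c : A) : Module.End K V) = c • (1 : Module.End K V) := by
      rw [← Algebra.algebraMap_eq_smul_one]
      rfl
    rw [this]
    rfl
  have hkey : ∀ N : Submodule A V, N = ⊥ ∨ N = ⊤ := by
    intro N
    let W : Submodule K V :=
      { carrier := N
        add_mem' := fun ha hb => N.add_mem ha hb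
        zero_mem' := N.zero_mem
        smul_mem' := fun c v hv => by
          rw [hsmulF]
          exact N.smul_mem _ hv }
    have hW : ∀ g, ∀ w ∈ W, ((ρ g : (Module.End K V)ˣ) : Module.End K V) w ∈ W := by
      intro g w hw
      exact N.smul_mem (⟨_, Algebra.subset_adjoin ⟨g, rfl⟩⟩ : A) hw
    rcases hirr W hW with h | h
    · left
      rw [Submodule.eq_bot_iff]
      intro x hx
      have : x ∈ W := hx
      rwa [h, Submodule.mem_bot] at this
    · right
      rw [eq_top_iff]
      intro x _
      have : x ∈ W := by rw [h]; exact Submodule.mem_top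
      exact this
  have hord : IsSimpleOrder (Submodule A V) := ⟨hkey⟩
  have hsimple : IsSimpleModule A V := { toIsSimpleOrder := hord }
  have hscalar : ∀ ψ : Module.End A V, ∃ c : K, ∀ v, ψ v = c • v := by
    intro ψ
    let ψF : V →ₗ[K] V :=
      { toFun := ψ
        map_add' := ψ.map_add
        map_smul' := fun c v => by
          rw [hsmulF, map_smul, RingHom.id_apply, ← hsmulF] }
    exact schur ρ hirr ψF (by
      intro g v
      exact ψ.map_smul (⟨_, Algebra.subset_adjoin ⟨g, rfl⟩⟩ : A) v)
  rw [hspan, eq_top_iff]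
  intro g _
  let f : Module.End (Module.End A V) V :=
    { toFun := fun v => g v
      map_add' := fun a b => map_add g a b
      map_smul' := fun ψ v => by
        obtain ⟨c, hc⟩ := hscalar ψ
        simp only [Module.End.smul_def, RingHom.id_apply, hc, map_smul] }
  let B := Module.finBasis K V
  obtain ⟨a, ha⟩ := jacobson_density f (Finset.univ.image (fun i => B i))
  have : g = (a : Module.End K V) := by
    apply B.ext
    intro i
    exact ha (B i) (Finset.mem_image.mpr ⟨i, Finset.mem_univ i, rfl⟩)
  rw [this]
  exact a.2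

end Cfsg.Agent.Lib.H92HHBurn
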