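import Mathlib
import Cfsg.Agent.Lib.Helper92HHDefs

set_option autoImplicit false

namespace Cfsg.Agent.Lib.H92HHDimLe

open Polynomial Cfsg.Agent.Lib.Helper92HHDefs

/-- PIECE DimLe (pure Mathlib, short).  A space of functions in which vanishing propagates along the classes of an
equivalence relation has dimension at most the number of classes (`f ↦ fun c => f c.out` is injective). -/
theorem finrank_le {K Ω : Type*} [Field K] [Finite Ω] (r : Setoid Ω) (W : Submodule K (Ω → K))
    (h : ∀ f ∈ W, ∀ x y, r x y → f x = 0 → f y = 0) :
    Module.finrank K W ≤ Nat.card (Quotient r) := by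
  classical
  have : Fintype (Quotient r) := Fintype.ofFinite _
  let φ : W →ₗ[K] (Quotient r → K) :=
    { toFun := fun f c => (f : Ω → K) c.out
      map_add' := by intro f g; rfl
      map_smul' := by intro c f; rfl }
  have hinj : Function.Injective φ := by
    rw [← LinearMap.ker_eq_bot, LinearMap.ker_eq_bot']
    intro f hf
    apply Subtype.ext
    funext y
    have h1 : (f : Ω → K) (Quotient.mk r y).out = 0 := congrFun hf (Quotient.mk r y)
    exact h f f.2 _ y (Quotient.exact (Quotient.out_eq _)) h1
  have := LinearMap.finrank_le_finrank_of_injective hinj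
  rwa [Module.finrank_pi, ← Nat.card_eq_fintype_card] at this

end Cfsg.Agent.Lib.H92HHDimLe
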