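import Mathlib
import Cfsg.Agent.Lib.Helper92HHDefs

set_option autoImplicit false

namespace Cfsg.Agent.Lib.H92HHOrb

open Polynomial Cfsg.Agent.Lib.Helper92HHDefs

variable {K V : Type*} [Field K] [AddCommGroup V] [Module K V]

/-- PIECE Orb (pure group theory / counting).  `α` an automorphism with `α^N = 1`, `Z` an `α`-invariant subgroup such that
`⟨α⟩` acts freely on the nontrivial cosets `Z u`.  The relation `u ~ z α^i(u)` is an equivalence relation with one class `Z`
and all the other classes of size `|Z| N` (the map `(z, i) ↦ z α^i(u)`, `i < N`, is injective for `u ∉ Z`). -/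
theorem orb_count {Q₀ : Type*} [Group Q₀] [Finite Q₀] (α : MulAut Q₀) (N : ℕ) (hN : 0 < N)
    (hα : α ^ N = 1) (Z : Subgroup Q₀) (hZ : ∀ z ∈ Z, α z ∈ Z)
    (hfree : ∀ u i, 0 < i → i < N → (α ^ i) u * u⁻¹ ∈ Z → u ∈ Z) :
    ∃ r : Setoid Q₀, (∀ u u', r u u' ↔ ∃ z ∈ Z, ∃ i : ℕ, u' = z * (α ^ i) u) ∧
      Nat.card (Quotient r) * (Nat.card Z * N) = Nat.card Q₀ + (N - 1) * Nat.card Z := by
  classical
  have hZpow : ∀ (j : ℕ) z, z ∈ Z → (α ^ j) z ∈ Z := by
    intro j
    induction j with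
    | zero => intro z hz; simpa using hz
    | succ j ih =>
      intro z hz
      rw [pow_succ', MulAut.mul_apply]
      exact hZ _ (ih z hz)
  have hinv : ∀ (i : ℕ) u, (α ^ ((N - 1) * i)) ((α ^ i) u) = u := by
    intro i u
    rw [← MulAut.mul_apply, ← pow_add]
    have : (N - 1) * i + i = N * i := by
      obtain ⟨m, rfl⟩ : ∃ m, N = m + 1 := ⟨N - 1, by omega⟩
      simp only [Nat.add_sub_cancel]
      ring
    rw [this, pow_mul, hα, one_pow]
    rfl
  have hback : ∀ (i : ℕ) u, (α ^ i) u ∈ Z → u ∈ Z := by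
    intro i u h
    have := hZpow ((N - 1) * i) _ h
    rwa [hinv] at this
  let r : Setoid Q₀ :=
    { r := fun u u' => ∃ z ∈ Z, ∃ i : ℕ, u' = z * (α ^ i) u
      iseqv := by
        refine ⟨fun u => ⟨1, Z.one_mem, 0, by simp⟩, ?_, ?_⟩
        · rintro u u' ⟨z, hz, i, rfl⟩
          refine ⟨(α ^ ((N - 1) * i)) z⁻¹, hZpow _ _ (Z.inv_mem hz), (N - 1) * i, ?_⟩
          rw [← map_mul, inv_mul_cancel_left, hinv]
        · rintro u u' u'' ⟨z, hz, i, rfl⟩ ⟨z', hz', j, rfl⟩
          refine ⟨z' * (α ^ j) z, Z.mul_mem hz' (hZpow _ _ hz), j + i, ?_⟩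
          rw [map_mul, pow_add, MulAut.mul_apply, mul_assoc] }
  have hr : ∀ u u', r u u' ↔ ∃ z ∈ Z, ∃ i : ℕ, u' = z * (α ^ i) u := fun u u' => Iff.rfl
  refine ⟨r, hr, ?_⟩
  have : Fintype (Quotient r) := Fintype.ofFinite _
  have hsum : Nat.card Q₀ = ∑ c : Quotient r, Nat.card {u // Quotient.mk r u = c} := by
    rw [← Nat.card_sigma]
    exact Nat.card_congr (Equiv.sigmaFiberEquiv (Quotient.mk r)).symm
  -- the class of `1`
  have hcls1 : ∀ u, Quotient.mk r u = Quotient.mk r 1 ↔ u ∈ Z := by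
    intro u
    rw [eq_comm, Quotient.eq, hr]
    constructor
    · rintro ⟨z, hz, i, rfl⟩
      simpa using hz
    · intro hu
      exact ⟨u, hu, 0, by simp⟩
  have hfib1 : Nat.card {u // Quotient.mk r u = Quotient.mk r 1} = Nat.card Z :=
    Nat.card_congr (Equiv.subtypeEquivRight hcls1)
  -- injectivity
  have haux : ∀ (u : Q₀) (z z' : Q₀), z ∈ Z → z' ∈ Z → ∀ i j : ℕ, i < j → j < N →
      z * (α ^ i) u = z' * (α ^ j) u → u ∈ Z := by
    intro u z z' hz hz' i j hij hj h
    apply hback i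
    apply hfree _ (j - i) (by omega) (by omega)
    rw [← MulAut.mul_apply, ← pow_add, Nat.sub_add_cancel hij.le]
    have : (α ^ j) u * ((α ^ i) u)⁻¹ = z'⁻¹ * z := by
      rw [mul_inv_eq_iff_eq_mul, mul_assoc, h, inv_mul_cancel_left]
    rw [this]
    exact Z.mul_mem (Z.inv_mem hz') hz
  have hfib2 : ∀ u, u ∉ Z → Nat.card {u' // Quotient.mk r u' = Quotient.mk r u} =
      Nat.card Z * N := by
    intro u hu
    have hmem : ∀ x : Z × Fin N, Quotient.mk r ((x.1 : Q₀) * (α ^ (x.2 : ℕ)) u) =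
        Quotient.mk r u := by
      intro x
      rw [eq_comm, Quotient.eq, hr]
      exact ⟨x.1, x.1.2, x.2, rfl⟩
    let f : Z × Fin N → {u' // Quotient.mk r u' = Quotient.mk r u} :=
      fun x => ⟨(x.1 : Q₀) * (α ^ (x.2 : ℕ)) u, hmem x⟩
    have hf : Function.Bijective f := by
      constructor
      · rintro ⟨z, i⟩ ⟨z', j⟩ h
        have h' : (z : Q₀) * (α ^ (i : ℕ)) u = (z' : Q₀) * (α ^ (j : ℕ)) u :=
          congrArg Subtype.val h
        have hij : (i : ℕ) = j := by
          rcases lt_trichotomy (i : ℕ) j with h1 | h1 | h1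
          · exact absurd (haux u z z' z.2 z'.2 i j h1 j.2 h') hu
          · exact h1
          · exact absurd (haux u z' z z'.2 z.2 j i h1 i.2 h'.symm) hu
        have hij' : i = j := Fin.ext hij
        subst hij'
        have : (z : Q₀) = z' := mul_right_cancel h'
        rw [Subtype.ext this]
      · rintro ⟨u', hu'⟩
        rw [eq_comm, Quotient.eq, hr] at hu'
        obtain ⟨z, hz, i, rfl⟩ := hu'
        refine ⟨(⟨z, hz⟩, ⟨i % N, Nat.mod_lt _ hN⟩), ?_⟩
        apply Subtype.ext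
        show z * (α ^ (i % N)) u = z * (α ^ i) u
        rw [pow_eq_pow_mod i hα]
    rw [← Nat.card_congr (Equiv.ofBijective f hf), Nat.card_prod, Nat.card_eq_fintype_card (α := Fin N),
      Fintype.card_fin]
  have hrest : ∀ c ∈ (Finset.univ : Finset (Quotient r)).erase (Quotient.mk r 1),
      Nat.card {u // Quotient.mk r u = c} = Nat.card Z * N := by
    intro c hc
    obtain ⟨u, rfl⟩ := Quotient.exists_rep c
    apply hfib2
    intro hu
    exact (Finset.mem_erase.mp hc).1 ((hcls1 u).2 hu)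
  rw [hsum, ← Finset.add_sum_erase _ _ (Finset.mem_univ (Quotient.mk r 1)), hfib1,
    Finset.sum_congr rfl hrest, Finset.sum_const, Finset.card_erase_of_mem (Finset.mem_univ _),
    Finset.card_univ, Nat.card_eq_fintype_card (α := Quotient r), smul_eq_mul]
  obtain ⟨C, hC⟩ : ∃ C, Fintype.card (Quotient r) = C + 1 :=
    ⟨Fintype.card (Quotient r) - 1, by
      have : 0 < Fintype.card (Quotient r) := Fintype.card_pos_iff.mpr ⟨Quotient.mk r 1⟩
      omega⟩
  obtain ⟨m, rfl⟩ : ∃ m, N = m + 1 := ⟨N - 1, by omega⟩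
  rw [hC]
  simp only [Nat.add_sub_cancel]
  ring

end Cfsg.Agent.Lib.H92HHOrb
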