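import Mathlib
import Cfsg.Agent.Lib.Helper92HHDefs
import Cfsg.Agent.Lib.H92HHDimLe
import Cfsg.Agent.Lib.H92HHOrb
import Cfsg.Agent.Lib.Helper73HHSc

set_option autoImplicit false

namespace Cfsg.Agent.Lib.H92HHComm

open Polynomial Cfsg.Agent.Lib.Helper92HHDefs Cfsg.Agent.Lib.Helper73HHSc

variable {K V : Type*} [Field K] [AddCommGroup V] [Module K V]

/-- nondegeneracy of the trace form -/
theorem eq_zero_of_trace [FiniteDimensional K V] (T : Module.End K V)
    (hT : ∀ A : Module.End K V, LinearMap.trace K V (A * T) = 0) : T = 0 := by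
  by_contra hne
  obtain ⟨v, hv⟩ : ∃ v, T v ≠ 0 := by
    by_contra hcon
    push Not at hcon
    exact hne (LinearMap.ext hcon)
  obtain ⟨f, hf⟩ : ∃ f : Module.Dual K V, f (T v) ≠ 0 := by
    by_contra hcon
    push Not at hcon
    exact hv ((Module.forall_dual_apply_eq_zero_iff K (T v)).1 hcon)
  apply hf
  have h1 := hT (f.smulRight v)
  have e : (f.smulRight v : Module.End K V) * T = (f ∘ₗ T).smulRight v := by
    ext x
    simp
  rw [e, LinearMap.trace_smulRight] at h1
  exact h1

/-- the trace coefficients -/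
noncomputable def coef {Q₀ : Type*} [Group Q₀] (ρ : Q₀ →* (Module.End K V)ˣ) :
    Module.End K V →ₗ[K] (Q₀ → K) :=
  LinearMap.pi (fun u => (LinearMap.trace K V) ∘ₗ
    (LinearMap.mulLeft K ((ρ u⁻¹ : (Module.End K V)ˣ) : Module.End K V)))

theorem coef_apply {Q₀ : Type*} [Group Q₀] (ρ : Q₀ →* (Module.End K V)ˣ) (T : Module.End K V)
    (u : Q₀) : coef ρ T u =
      LinearMap.trace K V (((ρ u⁻¹ : (Module.End K V)ˣ) : Module.End K V) * T) := rfl

/-- PIECE Comm.  Upper bound for the commutant of `Y`: `N · dim C(Y) ≤ |Q₀ : Z₀| + N - 1`. -/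
theorem comm_le [FiniteDimensional K V] {q : ℕ} {Q₀ : Type*} [Group Q₀]
    {ρ : Q₀ →* (Module.End K V)ˣ} {α : MulAut Q₀} {Y : (Module.End K V)ˣ} {N : ℕ}
    (h : Heis q ρ α Y N)
    (hspan : Submodule.span K
      (Set.range fun u : Q₀ => ((ρ u : (Module.End K V)ˣ) : Module.End K V)) = ⊤) :
    N * Module.finrank K (commutant (Y : Module.End K V)) * Nat.card (scSub ρ)
      ≤ Nat.card Q₀ + (N - 1) * Nat.card (scSub ρ) := by
  haveI := h.fin
  have hinj : Function.Injective (coef ρ) := by
    rw [injective_iff_map_eq_zero]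
    intro T hT
    apply eq_zero_of_trace
    have hle : Submodule.span K
        (Set.range fun u : Q₀ => ((ρ u : (Module.End K V)ˣ) : Module.End K V)) ≤
        LinearMap.ker ((LinearMap.trace K V) ∘ₗ (LinearMap.mulRight K T)) := by
      rw [Submodule.span_le]
      rintro _ ⟨u, rfl⟩
      have := congrFun hT u⁻¹
      rw [coef_apply, inv_inv] at this
      simpa using this
    intro A
    have : A ∈ LinearMap.ker ((LinearMap.trace K V) ∘ₗ (LinearMap.mulRight K T)) := by
      apply hle
      rw [hspan]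
      trivial
    simpa using this
  have hα : ∀ T ∈ commutant (Y : Module.End K V), ∀ u, coef ρ T (α u) = coef ρ T u := by
    intro T hT u
    rw [mem_commutant] at hT
    rw [coef_apply, coef_apply, ← map_inv, ← h.tw, Units.val_mul, Units.val_mul, mul_assoc,
      mul_assoc, LinearMap.trace_mul_comm, mul_assoc, mul_assoc, hT, ← mul_assoc _ (Y : Module.End K V),
      Units.inv_mul, one_mul]
  have hαi : ∀ T ∈ commutant (Y : Module.End K V), ∀ (i : ℕ) u,
      coef ρ T ((α ^ i) u) = coef ρ T u := by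
    intro T hT i
    induction i with
    | zero => intro u; simp
    | succ i ih =>
      intro u
      rw [pow_succ', MulAut.mul_apply, hα T hT, ih]
  have hz : ∀ T : Module.End K V, ∀ z ∈ scG ρ, ∀ u, coef ρ T u = 0 → coef ρ T (z * u) = 0 := by
    intro T z hz u hu
    obtain ⟨c, hc⟩ := (scG ρ).inv_mem hz
    rw [coef_apply, mul_inv_rev, map_mul ρ, Units.val_mul, hc, mul_smul_comm, mul_one,
      smul_mul_assoc, map_smul, ← coef_apply, hu, smul_zero]
  obtain ⟨r, hr, hcount⟩ := Cfsg.Agent.Lib.H92HHOrb.orb_count α N (by have := h.two_le; omega)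
    h.apow (scG ρ) (fun z hz => alpha_mem h hz) (free' h)
  have hdim := Cfsg.Agent.Lib.H92HHDimLe.finrank_le r
    ((commutant (Y : Module.End K V)).map (coef ρ)) (by
      rintro _ ⟨T, hT, rfl⟩ x y hxy hx
      obtain ⟨z, hzZ, i, rfl⟩ := (hr x y).1 hxy
      apply hz T z hzZ
      rw [hαi T hT]
      exact hx)
  rw [← (Submodule.equivMapOfInjective (coef ρ) hinj _).finrank_eq] at hdim
  rw [← card_scG, ← hcount]
  calc N * Module.finrank K (commutant (Y : Module.End K V)) * Nat.card (scG ρ)
      = Module.finrank K (commutant (Y : Module.End K V)) * (Nat.card (scG ρ) * N) := by ring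
    _ ≤ _ := Nat.mul_le_mul_right _ hdim

end Cfsg.Agent.Lib.H92HHComm
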