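import Mathlib
import Cfsg.Agent.Lib.Helper92HHDefs

set_option autoImplicit false

namespace Cfsg.Agent.Lib.H92HHLA

open Polynomial Cfsg.Agent.Lib.Helper92HHDefs

variable {K V : Type*} [Field K] [AddCommGroup V] [Module K V]

theorem aeval_restrict_coe (X : Module.End K V) (W : Submodule K V)
    (hW : ∀ w ∈ W, X w ∈ W) (g : K[X]) (w : W) :
    ((aeval (X.restrict hW : Module.End K W) g w : W) : V) = aeval X g (w : V) := by
  induction g using Polynomial.induction_on' generalizing w with
  | add a b ha hb => simp [ha, hb]
  | monomial n c =>
    simp only [aeval_monomial, Module.algebraMap_end_eq_smul_id, Module.End.mul_apply,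
      LinearMap.smul_apply, LinearMap.id_apply, Submodule.coe_smul]
    congr 1
    induction n generalizing w with
    | zero => simp
    | succ n ih =>
      rw [pow_succ, pow_succ, Module.End.mul_apply, Module.End.mul_apply, ih]
      rfl

theorem mem_commutant_sub (X T : Module.End K V) (l : K) :
    T ∈ commutant X ↔ T * (X - l • 1) = (X - l • 1) * T := by
  rw [mem_commutant, mul_sub, sub_mul]
  simp only [mul_smul_comm, smul_mul_assoc, mul_one, one_mul]
  constructor
  · intro h; rw [h]
  · intro h; exact sub_left_injective h

theorem arith (r d' s c' : ℕ) (h : d' ^ 2 ≤ s * c') :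
    (r + d') ^ 2 ≤ (s + 1) * (r * r + c') := by
  rcases Nat.eq_zero_or_pos s with rfl | hs
  · have : d' = 0 := by
      have : d' ^ 2 = 0 := by omega
      exact pow_eq_zero_iff (two_ne_zero) |>.1 this
    subst this
    nlinarith
  · apply Nat.le_of_mul_le_mul_left _ hs
    zify at h ⊢
    nlinarith [sq_nonneg ((s : ℤ) * r - d'), h]

theorem commutant_sub (X : Module.End K V) (l : K) :
    commutant (X - l • (1 : Module.End K V)) = commutant X := by
  ext T
  rw [mem_commutant_sub X T l]
  rfl

theorem finrank_le_of_inj {A W : Type*} [AddCommGroup A] [Module K A] [FiniteDimensional K A]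
    [AddCommGroup W] [Module K W] [FiniteDimensional K W] [FiniteDimensional K V]
    (Y : Module.End K W) (X : Module.End K V) (Φ : A × commutant Y →ₗ[K] Module.End K V)
    (hinj : Function.Injective Φ) (hrange : ∀ x, Φ x ∈ commutant X) :
    Module.finrank K A + Module.finrank K (commutant Y) ≤ Module.finrank K (commutant X) := by
  have hle := LinearMap.finrank_le_finrank_of_injective
    (f := Φ.codRestrict (commutant X) hrange) (by
      intro a b hab
      apply hinj
      exact congrArg Subtype.val hab)
  rw [Module.finrank_prod] at hle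
  exact hle

/-- the key dimension inequality. -/
theorem key [FiniteDimensional K V] (T : Module.End K V)
    (hW : ∀ w ∈ LinearMap.range T, T w ∈ LinearMap.range T) :
    (Module.finrank K V - Module.finrank K (LinearMap.range T)) *
      (Module.finrank K V - Module.finrank K (LinearMap.range T))
      + Module.finrank K (commutant (T.restrict hW : Module.End K (LinearMap.range T)))
      ≤ Module.finrank K (commutant T) := by
  obtain ⟨σ, hσ⟩ := T.rangeRestrict.exists_rightInverse_of_surjective
    (LinearMap.range_rangeRestrict T)
  obtain ⟨π, hπ⟩ := (LinearMap.range T).subtype.exists_leftInverse_of_injective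
    (Submodule.ker_subtype _)
  have hσ' : ∀ w : LinearMap.range T, T (σ w) = (w : V) := by
    intro w
    have := congrArg (fun f => ((f w : LinearMap.range T) : V)) hσ
    simpa using this
  have hπ' : ∀ w : LinearMap.range T, π (w : V) = w := by
    intro w
    have := congrArg (fun f => (f w : LinearMap.range T)) hπ
    simpa using this
  let Φ1 : ((V ⧸ LinearMap.range T) →ₗ[K] LinearMap.ker T) →ₗ[K] Module.End K V :=
    { toFun := fun h => (LinearMap.ker T).subtype ∘ₗ h ∘ₗ (LinearMap.range T).mkQ
      map_add' := by intros; ext; simp
      map_smul' := by intros; ext; simp }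
  let Φ2 : Module.End K (LinearMap.range T) →ₗ[K] Module.End K V :=
    { toFun := fun ψ => (LinearMap.range T).subtype ∘ₗ ψ ∘ₗ π
        + σ ∘ₗ ψ ∘ₗ T.rangeRestrict ∘ₗ (LinearMap.id - (LinearMap.range T).subtype ∘ₗ π)
      map_add' := by intros; ext; simp; abel
      map_smul' := by intros; ext; simp }
  have h1 : ∀ h v, Φ1 h v = (h ((LinearMap.range T).mkQ v) : V) := fun h v => rfl
  have h2 : ∀ ψ v, Φ2 ψ v = (ψ (π v) : V) + σ (ψ (T.rangeRestrict (v - (π v : V)))) :=
    fun ψ v => rfl
  let Φ := Φ1.coprod (Φ2 ∘ₗ (commutant (T.restrict hW : Module.End K (LinearMap.range T))).subtype)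
  have hΦ : ∀ x v, Φ x v = Φ1 x.1 v + Φ2 (x.2 : Module.End K (LinearMap.range T)) v :=
    fun x v => rfl
  have hinj : Function.Injective Φ := by
    rw [injective_iff_map_eq_zero]
    rintro ⟨h, ψ⟩ hx
    have hψ : ψ = 0 := by
      apply Subtype.ext
      ext w
      have := congrArg (fun f => f (w : V)) hx
      simp only [hΦ, h1, h2, hπ', sub_self, map_zero, add_zero] at this
      have h0 : (LinearMap.range T).mkQ (w : V) = 0 := by
        rw [Submodule.mkQ_apply, Submodule.Quotient.mk_eq_zero]; exact w.2
      rw [h0] at this
      simpa using this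
    subst hψ
    have hh : h = 0 := by
      apply LinearMap.ext
      intro y
      obtain ⟨v, rfl⟩ := Submodule.mkQ_surjective _ y
      have := congrArg (fun f => f v) hx
      simp only [hΦ, h1, h2] at this
      apply Subtype.ext
      simpa using this
    subst hh
    rfl
  have hrange : ∀ x, Φ x ∈ commutant T := by
    rintro ⟨h, ψ⟩
    rw [mem_commutant]
    ext v
    have hψ := ψ.2
    rw [mem_commutant] at hψ
    have hψ' : ∀ w : LinearMap.range T, ((ψ : Module.End K (LinearMap.range T))
        ((T.restrict hW) w) : V)
        = T (((ψ : Module.End K (LinearMap.range T)) w : LinearMap.range T) : V) := by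
      intro w
      have := congrArg (fun f => ((f w : LinearMap.range T) : V)) hψ
      simpa using this
    simp only [Module.End.mul_apply, hΦ, h1, h2, map_add, hσ']
    have h0 : (LinearMap.range T).mkQ (T v) = 0 := by
      rw [Submodule.mkQ_apply, Submodule.Quotient.mk_eq_zero]; exact ⟨v, rfl⟩
    have h3 : T ((h ((LinearMap.range T).mkQ v) : LinearMap.ker T) : V) = 0 :=
      (h ((LinearMap.range T).mkQ v)).2
    have h4 : π (T v) = T.rangeRestrict v := hπ' (T.rangeRestrict v)
    have h5 : ((T.rangeRestrict v : LinearMap.range T) : V) = T v := rfl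
    rw [h0, h3, h4, ← hψ', h5]
    simp only [map_zero, ZeroMemClass.coe_zero, zero_add, sub_self, add_zero]
    rw [← Submodule.coe_add, ← map_add]
    congr 2
    apply Subtype.ext
    change T v = T (π v : V) + T (v - (π v : V))
    rw [← map_add]
    congr 1
    abel
  have hle := finrank_le_of_inj (T.restrict hW : Module.End K (LinearMap.range T)) T Φ hinj hrange
  rw [Module.finrank_linearMap] at hle
  have e1 := Submodule.finrank_quotient_add_finrank (LinearMap.range T)
  have e2 := LinearMap.finrank_range_add_finrank_ker T
  have e3 : Module.finrank K (V ⧸ LinearMap.range T)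
      = Module.finrank K V - Module.finrank K (LinearMap.range T) := by omega
  have e4 : Module.finrank K (LinearMap.ker T)
      = Module.finrank K V - Module.finrank K (LinearMap.range T) := by omega
  rw [e3, e4] at hle
  exact hle

theorem aux [IsAlgClosed K] (s : ℕ) : ∀ (V : Type _) [AddCommGroup V] [Module K V]
    [FiniteDimensional K V] (X : Module.End K V) (f : K[X]), f ≠ 0 → f.natDegree = s →
    aeval X f = 0 →
    (Module.finrank K V) ^ 2 ≤ s * Module.finrank K (commutant X) := by
  induction s with
  | zero =>
    intro V _ _ _ X f hf hd h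
    rw [Polynomial.eq_C_of_natDegree_eq_zero hd] at h hf
    have hc : f.coeff 0 ≠ 0 := by
      intro h0; apply hf; rw [h0]; simp
    rw [aeval_C, Module.algebraMap_end_eq_smul_id] at h
    have hsub : Subsingleton V := by
      constructor
      intro a b
      have h1 : ∀ v : V, v = 0 := by
        intro v
        have := congrArg (fun g => g v) h
        simp only [LinearMap.smul_apply, LinearMap.id_apply, LinearMap.zero_apply] at this
        exact (smul_eq_zero.1 this).resolve_left hc
      rw [h1 a, h1 b]
    rw [Module.finrank_zero_of_subsingleton]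
    simp
  | succ s ih =>
    intro V _ _ _ X f hf hd h
    obtain ⟨l, hl⟩ := IsAlgClosed.exists_root f (by
      intro h0
      have := Polynomial.natDegree_eq_zero_iff_degree_le_zero.2 h0.le
      omega)
    obtain ⟨g, rfl⟩ := Polynomial.dvd_iff_isRoot.2 hl
    have hg : g ≠ 0 := by
      rintro rfl; simp at hf
    have hgd : g.natDegree = s := by
      rw [Polynomial.natDegree_mul (Polynomial.X_sub_C_ne_zero l) hg,
        Polynomial.natDegree_X_sub_C] at hd
      omega
    have hTe : aeval X (Polynomial.X - Polynomial.C l) = X - l • (1 : Module.End K V) := by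
      simp [Module.algebraMap_end_eq_smul_id]
      rfl
    have hW : ∀ w ∈ LinearMap.range (X - l • (1 : Module.End K V)), X w ∈
        LinearMap.range (X - l • (1 : Module.End K V)) := by
      rintro _ ⟨v, rfl⟩
      exact ⟨X v, by simp⟩
    have hW2 : ∀ w ∈ LinearMap.range (X - l • (1 : Module.End K V)),
        (X - l • (1 : Module.End K V)) w ∈ LinearMap.range (X - l • (1 : Module.End K V)) :=
      fun w _ => ⟨w, rfl⟩
    have hg0 : aeval (X.restrict hW : Module.End K _) g = 0 := by
      ext ⟨_, v, rfl⟩
      rw [aeval_restrict_coe]
      have := congrArg (fun F => F v) h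
      rw [mul_comm, map_mul, hTe] at this
      simpa using this
    have ih' := ih _ (X.restrict hW) g hg hgd hg0
    have hk := key (X - l • (1 : Module.End K V)) hW2
    rw [commutant_sub] at hk
    have hres : ((X - l • (1 : Module.End K V)).restrict hW2 : Module.End K _)
        = (X.restrict hW : Module.End K _) - l • (1 : Module.End K _) := by
      ext w
      simp
    rw [hres, commutant_sub] at hk
    have hle : Module.finrank K (LinearMap.range (X - l • (1 : Module.End K V)))
        ≤ Module.finrank K V := Submodule.finrank_le _
    have ha := arith (Module.finrank K V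
      - Module.finrank K (LinearMap.range (X - l • (1 : Module.End K V))))
      (Module.finrank K (LinearMap.range (X - l • (1 : Module.End K V)))) s _ ih'
    rw [Nat.sub_add_cancel hle] at ha
    exact ha.trans (Nat.mul_le_mul_left _ hk)

/-- PIECE LA (pure Mathlib).  If `f ≠ 0` and `f(X) = 0` then `(dim V)² ≤ deg f · dim C(X)`. -/
theorem sq_finrank_le [IsAlgClosed K] [FiniteDimensional K V] (X : Module.End K V) (f : K[X])
    (hf : f ≠ 0) (h : aeval X f = 0) :
    (Module.finrank K V) ^ 2 ≤ f.natDegree * Module.finrank K (commutant X) :=
  aux _ V X f hf rfl h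

end Cfsg.Agent.Lib.H92HHLA
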