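import Mathlib
import Cfsg.Agent.Lib.Helper92HHDefs
import Cfsg.Agent.Lib.H92HHLA
import Cfsg.Agent.Lib.H92HHBurn
import Cfsg.Agent.Lib.H92HHBasis
import Cfsg.Agent.Lib.H92HHComm

set_option autoImplicit false

namespace Cfsg.Agent.Lib.H92HHCrit

open Polynomial Cfsg.Agent.Lib.Helper92HHDefs

variable {K V : Type*} [Field K] [AddCommGroup V] [Module K V]

/-- PIECE Crit (the unified critical lemma; arithmetic).  Let `d = dim V`, `c = dim C(Y)`, `s₀ = natDegree (minpoly K Y)`.
`Burn.span_eq_top`, `Basis.card_eq`, `Comm.comm_le` give `N c ≤ d² + N - 1`; `LA.sq_finrank_le` with `f = minpoly` gives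
`d² ≤ s₀ c`; `s₀ ≤ d` (`minpoly ∣ charpoly`); every `f ≠ 0` killing `Y` has degree `≥ s₀` (`minpoly.dvd`).
If `s₀ ≥ N`: left.  Otherwise `d² (N - s₀) ≤ s₀ (N - 1)`, with `s₀ ≤ d`: `(s₀ - 1)(N - 1 - s₀) ≤ 0`.  `s₀ = 1` is impossible (then `Y` is
scalar, `ρ (α u) = ρ u`, so by `free` with `i = 1` every `ρ u` is scalar, against `nonsc`).  So `s₀ = N - 1` and `d ≤ N - 1 = s₀ ≤ d`. -/
theorem crit [IsAlgClosed K] [FiniteDimensional K V] [Nontrivial V] {q : ℕ} [Fact q.Prime]
    (hq : (q : K) ≠ 0) {Q₀ : Type*} [Group Q₀] {ρ : Q₀ →* (Module.End K V)ˣ} {α : MulAut Q₀}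
    {Y : (Module.End K V)ˣ} {N : ℕ} (h : Heis q ρ α Y N) (hirr : Irr ρ) :
    minDegOn (Y : Module.End K V) ⊤ N ∨
      (Module.finrank K V = N - 1 ∧ minDegOn (Y : Module.End K V) ⊤ (N - 1)) := by
  classical
  have hfin := h.fin
  have hspan := Cfsg.Agent.Lib.H92HHBurn.span_eq_top ρ hirr
  have hcard := Cfsg.Agent.Lib.H92HHBasis.card_eq hq h hspan
  have hcomm := Cfsg.Agent.Lib.H92HHComm.comm_le h hspan
  set d := Module.finrank K V with hd
  set c := Module.finrank K (commutant (Y : Module.End K V)) with hc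
  set z := Nat.card (scSub ρ) with hz
  have hz0 : 0 < z := by
    rcases Nat.eq_zero_or_pos z with h0 | h0
    · rw [h0, mul_zero] at hcard
      exact absurd hcard.symm (Nat.card_pos).ne'
    · exact h0
  have hineq : N * c ≤ d ^ 2 + (N - 1) := by
    have h1 : N * c * z ≤ (d ^ 2 + (N - 1)) * z := by
      rw [add_mul, hcard]; exact hcomm
    exact Nat.le_of_mul_le_mul_right h1 hz0
  have hint : IsIntegral K (Y : Module.End K V) := Algebra.IsIntegral.isIntegral _
  have hP0 : minpoly K (Y : Module.End K V) ≠ 0 := minpoly.ne_zero hint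
  have hPa : aeval (Y : Module.End K V) (minpoly K (Y : Module.End K V)) = 0 := minpoly.aeval _ _
  set s := (minpoly K (Y : Module.End K V)).natDegree with hs
  have hLA : d ^ 2 ≤ s * c := Cfsg.Agent.Lib.H92HHLA.sq_finrank_le _ _ hP0 hPa
  have hsd : s ≤ d := by
    have h1 := Polynomial.natDegree_le_of_dvd (LinearMap.minpoly_dvd_charpoly (Y : Module.End K V))
      (LinearMap.charpoly_monic _).ne_zero
    rwa [LinearMap.charpoly_natDegree] at h1
  have hmin : minDegOn (Y : Module.End K V) ⊤ s := by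
    intro f hf hfu
    have h1 : aeval (Y : Module.End K V) f = 0 := LinearMap.ext (fun u => hfu u trivial)
    exact Polynomial.natDegree_le_of_dvd (minpoly.dvd K _ h1) hf
  have hs0 : 0 < s := minpoly.natDegree_pos hint
  have hs1 : s ≠ 1 := by
    intro h1
    obtain ⟨a, ha⟩ := (minpoly.natDegree_eq_one_iff (A := K) (x := (Y : Module.End K V))).1 h1
    obtain ⟨u, hu⟩ := h.nonsc
    apply hu
    apply h.free u 1 one_pos (by have := h.two_le; omega)
    refine ⟨1, ?_⟩
    rw [pow_one, one_smul, ← h.tw u]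
    have hcom : (Y : Module.End K V) * ((ρ u : (Module.End K V)ˣ) : Module.End K V)
        = ((ρ u : (Module.End K V)ˣ) : Module.End K V) * (Y : Module.End K V) := by
      rw [← ha]
      exact Algebra.commutes a _
    rw [Units.val_mul, Units.val_mul, hcom, mul_assoc, Units.mul_inv, mul_one]
  by_cases hsN : N ≤ s
  · left
    intro f hf hfu
    exact hsN.trans (hmin f hf hfu)
  · right
    obtain ⟨k, hk⟩ : ∃ k, N = s + k + 1 := ⟨N - s - 1, by omega⟩
    have hN1 : N - 1 = s + k := by omega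
    rw [hN1] at hineq
    have h2 : N * d ^ 2 ≤ s * (d ^ 2 + (s + k)) := by
      calc N * d ^ 2 ≤ N * (s * c) := Nat.mul_le_mul_left _ hLA
        _ = s * (N * c) := by ring
        _ ≤ s * (d ^ 2 + (s + k)) := Nat.mul_le_mul_left _ hineq
    rw [hk] at h2
    have h3 : (k + 1) * d ^ 2 ≤ s * (s + k) := by nlinarith
    have hsd2 : s ^ 2 ≤ d ^ 2 := Nat.pow_le_pow_left hsd 2
    have hk0 : k = 0 := by
      by_contra hk0
      have hk1 : 1 ≤ k := Nat.one_le_iff_ne_zero.mpr hk0
      have h4 : (k + 1) * s ^ 2 ≤ s * (s + k) := (Nat.mul_le_mul_left _ hsd2).trans h3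
      have h5 : k * s * s ≤ k * s := by nlinarith
      have h6 : 2 ≤ s := by omega
      have h7 : 0 < k * s := Nat.mul_pos (by omega) hs0
      have h8 : k * s * 2 ≤ k * s * s := Nat.mul_le_mul_left _ h6
      omega
    subst hk0
    have h7 : d ^ 2 ≤ s ^ 2 := by nlinarith
    have h8 : d ≤ s := by
      by_contra hcon
      push Not at hcon
      have := Nat.pow_lt_pow_left hcon (two_ne_zero)
      omega
    rw [hN1]
    refine ⟨by omega, ?_⟩
    simpa using hmin

end Cfsg.Agent.Lib.H92HHCrit
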