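import Mathlib
import Cfsg.Agent.Lib.Helper92HHDefs

set_option autoImplicit false

namespace Cfsg.Agent.Lib.H92HHRes

open Polynomial Cfsg.Agent.Lib.Helper92HHDefs

variable {K V : Type*} [Field K] [AddCommGroup V] [Module K V]

theorem inv_apply_apply (g : (Module.End K V)ˣ) (w : V) :
    ((g⁻¹ : (Module.End K V)ˣ) : Module.End K V) ((g : Module.End K V) w) = w := by
  rw [← Module.End.mul_apply, Units.inv_mul, Module.End.one_apply]

theorem apply_inv_apply (g : (Module.End K V)ˣ) (w : V) :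
    (g : Module.End K V) (((g⁻¹ : (Module.End K V)ˣ) : Module.End K V) w) = w := by
  rw [← Module.End.mul_apply, Units.mul_inv, Module.End.one_apply]

/-- restriction of a unit to an invariant subspace -/
def resU (g : (Module.End K V)ˣ) (U : Submodule K V) (h1 : ∀ u ∈ U, (g : Module.End K V) u ∈ U)
    (h2 : ∀ u ∈ U, ((g⁻¹ : (Module.End K V)ˣ) : Module.End K V) u ∈ U) : (Module.End K ↥U)ˣ where
  val := (g : Module.End K V).restrict h1
  inv := ((g⁻¹ : (Module.End K V)ˣ) : Module.End K V).restrict h2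
  val_inv := by
    ext u
    simp [Module.End.mul_apply, LinearMap.restrict_apply, apply_inv_apply]
  inv_val := by
    ext u
    simp [Module.End.mul_apply, LinearMap.restrict_apply, inv_apply_apply]

theorem resU_apply (g : (Module.End K V)ˣ) (U : Submodule K V)
    (h1 : ∀ u ∈ U, (g : Module.End K V) u ∈ U)
    (h2 : ∀ u ∈ U, ((g⁻¹ : (Module.End K V)ˣ) : Module.End K V) u ∈ U) (u : ↥U) :
    (((resU g U h1 h2 : (Module.End K ↥U)ˣ) : Module.End K ↥U) u : V) = (g : Module.End K V) (u : V) :=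
  rfl

/-- PIECE Res (plumbing, pure Mathlib).  Restriction of a group of operators `Q` and of a normalising operator `Z` to an invariant
subspace `U`, as a twisted pair on the type `↥U`. -/
theorem exists_res (Q : Subgroup (Module.End K V)ˣ) (Z : (Module.End K V)ˣ) (U : Submodule K V)
    (hQ : ∀ g ∈ Q, ∀ u ∈ U, (g : Module.End K V) u ∈ U)
    (hZ : ∀ u ∈ U, (Z : Module.End K V) u ∈ U)
    (hZi : ∀ u ∈ U, ((Z⁻¹ : (Module.End K V)ˣ) : Module.End K V) u ∈ U)
    (hn : ∀ u ∈ Q, Z * u * Z⁻¹ ∈ Q) (hn' : ∀ u ∈ Q, Z⁻¹ * u * Z ∈ Q) :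
    ∃ (ρ : ↥Q →* (Module.End K ↥U)ˣ) (α : MulAut ↥Q) (Y : (Module.End K ↥U)ˣ),
      (∀ (g : ↥Q) (u : ↥U), (((ρ g : (Module.End K ↥U)ˣ) : Module.End K ↥U) u : V)
        = ((g : (Module.End K V)ˣ) : Module.End K V) (u : V)) ∧
      (∀ u : ↥U, (((Y : Module.End K ↥U) u : ↥U) : V) = (Z : Module.End K V) (u : V)) ∧
      (∀ g : ↥Q, ((α g : ↥Q) : (Module.End K V)ˣ) = Z * g * Z⁻¹) := by
  let ρ : ↥Q →* (Module.End K ↥U)ˣ :=
    { toFun := fun g => resU g.1 U (hQ g.1 g.2) (hQ g.1⁻¹ (Q.inv_mem g.2))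
      map_one' := by
        apply Units.ext
        ext u
        rw [resU_apply]
        simp
      map_mul' := by
        intro a b
        apply Units.ext
        ext u
        rw [resU_apply, Units.val_mul, Module.End.mul_apply, resU_apply, resU_apply]
        simp [Module.End.mul_apply] }
  let α : MulAut ↥Q :=
    { toFun := fun u => ⟨Z * u * Z⁻¹, hn u u.2⟩
      invFun := fun u => ⟨Z⁻¹ * u * Z, hn' u u.2⟩
      left_inv := fun u => Subtype.ext (by simp [mul_assoc])
      right_inv := fun u => Subtype.ext (by simp [mul_assoc])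
      map_mul' := fun u v => Subtype.ext (by simp [mul_assoc]) }
  exact ⟨ρ, α, resU Z U hZ hZi, fun g u => rfl, fun u => rfl, fun g => rfl⟩

theorem pow_res (Z : Module.End K V) (U : Submodule K V) (Y : Module.End K ↥U)
    (h : ∀ u : ↥U, ((Y u : ↥U) : V) = Z (u : V)) (n : ℕ) (u : ↥U) :
    (((Y ^ n) u : ↥U) : V) = (Z ^ n) (u : V) := by
  induction n generalizing u with
  | zero => simp
  | succ n ih => rw [pow_succ, pow_succ, Module.End.mul_apply, Module.End.mul_apply, ih, h]

/-- polynomial evaluation commutes with restriction. -/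
theorem aeval_res (Z : Module.End K V) (U : Submodule K V) (Y : Module.End K ↥U)
    (h : ∀ u : ↥U, ((Y u : ↥U) : V) = Z (u : V)) (f : K[X]) (u : ↥U) :
    ((aeval Y f u : ↥U) : V) = aeval Z f (u : V) := by
  induction f using Polynomial.induction_on' with
  | add p q hp hq => simp [map_add, hp, hq]
  | monomial n a =>
    rw [aeval_monomial, aeval_monomial, Module.End.mul_apply, Module.End.mul_apply,
      Module.algebraMap_end_apply, Module.algebraMap_end_apply, Submodule.coe_smul, pow_res Z U Y h]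

end Cfsg.Agent.Lib.H92HHRes
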