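import Mathlib
import Cfsg.Agent.Lib.Helper92HHDefs

set_option autoImplicit false

namespace Cfsg.Agent.Lib.H92HHExcN

open Polynomial Cfsg.Agent.Lib.Helper92HHDefs

variable {K V : Type*} [Field K] [AddCommGroup V] [Module K V]

/-- PIECE ExcN (norm of the central character).  Such a `u` cannot exist if `X` acts fixed point freely on `Q`.
`u` is not scalar on `U`, so not central on `U` (`CritSit`): there is `v ∈ Q` with `c₀ = u v u⁻¹ v⁻¹` not trivial on `U`.  `D = C_Q(τ)` is central in `Q` (`cent`), abelian, `X`-invariant, and each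
`c ∈ D` acts on `U` as a scalar `μ c` (`U ≠ 0`: `μ` is multiplicative, `μ (X^t c X^-t) = μ c`, `t = p^a`).  `c₀ ∈ D` (`der`), `μ c₀ ≠ 1`, and for `0 < i < t`:
`X^-i c₀ X^i = [X^-i u X^i, X^-i v X^i]` is trivial on `U` because the first entry is scalar on `U`.  So `Nm c₀ := ∏_{i<t} μ (X^-i c₀ X^i) = μ c₀ ≠ 1`.
But `Nm (X c X⁻¹) = Nm c` for `c ∈ D` (shift the product, use `μ (X^t c' X^-t) = μ c'`), `Nm` is multiplicative, and `c ↦ X c X⁻¹ c⁻¹` is an injective (`hfpf`) endomorphism of the finite abelian group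
`D`, hence surjective: `c₀ = X c₁ X⁻¹ c₁⁻¹`, `Nm c₀ = 1`.  Contradiction. -/
theorem false_of_u (p q n : ℕ) [Fact p.Prime] [Fact q.Prime] (hpq : p ≠ q)
    (Q : Subgroup (Module.End K V)ˣ) (X : (Module.End K V)ˣ) (hM : MinData p q n Q X)
    (hfpf : ∀ u ∈ Q, Commute X u → u = 1) (U : Submodule K V) (a : ℕ) (ha : a < n)
    (hC : CritSit p Q X U a) (u : (Module.End K V)ˣ) (hu : u ∈ Q)
    (h1 : ¬ IsScOn (u : Module.End K V) U)
    (h2 : ∀ i, 0 < i → i < p ^ a →
      IsScOn (((X ^ i)⁻¹ * u * X ^ i : (Module.End K V)ˣ) : Module.End K V) U) : False := by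
  classical
  obtain ⟨⟨hU0, hQU, hXU, -⟩, hsc, -⟩ := hC
  set τ := X ^ p ^ (n - 1) with hτ
  set t := p ^ a with ht
  have htpos : 0 < t := pow_pos (Fact.out : p.Prime).pos a
  obtain ⟨w₀, hw₀U, hw₀⟩ := Submodule.exists_mem_ne_zero_of_ne_bot hU0
  have hact : ∀ (g h : (Module.End K V)ˣ) (x : V),
      ((g * h : (Module.End K V)ˣ) : Module.End K V) x =
        (g : Module.End K V) ((h : Module.End K V) x) := fun g h x => rfl
  have hunit : ∀ (g : (Module.End K V)ˣ) (x : V), (g : Module.End K V) x = 0 → x = 0 := by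
    intro g x h
    have e : ((g⁻¹ * g : (Module.End K V)ˣ) : Module.End K V) x = x := by simp
    rw [hact, h, map_zero] at e
    exact e.symm
  -- conjugation invariance
  have hQX : ∀ (i : ℕ), ∀ c ∈ Q, X ^ i * c * (X ^ i)⁻¹ ∈ Q := by
    intro i
    induction i with
    | zero => intro c hc; simpa using hc
    | succ i ih =>
      intro c hc
      have := hM.norm _ (ih c hc)
      have e : X ^ (i + 1) * c * (X ^ (i + 1))⁻¹ = X * (X ^ i * c * (X ^ i)⁻¹) * X⁻¹ := by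
        rw [pow_succ']; group
      rw [e]; exact this
  have hXinv : ∀ i : ℕ, (X ^ i)⁻¹ = X ^ (i * (p ^ n - 1)) := by
    intro i
    rw [inv_eq_iff_mul_eq_one, ← pow_add]
    have : i + i * (p ^ n - 1) = p ^ n * i := by
      have h0 : 0 < p ^ n := pow_pos (Fact.out : p.Prime).pos n
      obtain ⟨m, hm⟩ : ∃ m, p ^ n = m + 1 := ⟨p ^ n - 1, by omega⟩
      rw [hm]
      simp only [Nat.add_sub_cancel]
      ring
    rw [this, pow_mul, hM.pow, one_pow]
  have hQX' : ∀ (i : ℕ), ∀ c ∈ Q, (X ^ i)⁻¹ * c * X ^ i ∈ Q := by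
    intro i c hc
    have := hQX (i * (p ^ n - 1)) c hc
    rwa [← hXinv, inv_inv] at this
  have hτX : ∀ i : ℕ, Commute τ (X ^ i) := fun i => (Commute.refl X).pow_pow _ _
  have hDX' : ∀ (i : ℕ) (c : (Module.End K V)ˣ), Commute τ c →
      Commute τ ((X ^ i)⁻¹ * c * X ^ i) := by
    intro i c hc
    exact (((hτX i).inv_right).mul_right hc).mul_right (hτX i)
  have hDX : ∀ (i : ℕ) (c : (Module.End K V)ˣ), Commute τ c →
      Commute τ (X ^ i * c * (X ^ i)⁻¹) := by
    intro i c hc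
    exact (((hτX i)).mul_right hc).mul_right (hτX i).inv_right
  -- scalars
  have hDsc : ∀ c ∈ Q, Commute τ c → IsScOn (c : Module.End K V) U := by
    intro c hc hcτ
    apply hsc c hc
    intro g hg x _
    have := hM.cent c hc hcτ g hg
    rw [← hact, ← hact, this.eq]
  let μ : (Module.End K V)ˣ → K := fun c =>
    if h : IsScOn (c : Module.End K V) U then h.choose else 1
  have hμ : ∀ c : (Module.End K V)ˣ, IsScOn (c : Module.End K V) U →
      ∀ x ∈ U, (c : Module.End K V) x = μ c • x := by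
    intro c h
    simp only [μ, dif_pos h]
    exact h.choose_spec
  have hcancel : ∀ (k k' : K) (x : V), x ≠ 0 → k • x = k' • x → k = k' := by
    intro k k' x hx h
    have : (k - k') • x = 0 := by rw [sub_smul, h, sub_self]
    rcases smul_eq_zero.mp this with h2 | h2
    · exact sub_eq_zero.mp h2
    · exact absurd h2 hx
  have hμu : ∀ (c : (Module.End K V)ˣ) (k : K),
      (∀ x ∈ U, (c : Module.End K V) x = k • x) → μ c = k := by
    intro c k h
    have h1 := hμ c ⟨k, h⟩ w₀ hw₀U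
    rw [h w₀ hw₀U] at h1
    exact (hcancel _ _ _ hw₀ h1).symm
  have hμmul : ∀ c c' : (Module.End K V)ˣ, IsScOn (c : Module.End K V) U →
      IsScOn (c' : Module.End K V) U → μ (c * c') = μ c * μ c' := by
    intro c c' h h'
    apply hμu
    intro x hx
    rw [hact, hμ c' h' x hx, map_smul, hμ c h x hx, smul_smul, mul_comm (μ c')]
  have hμone : μ 1 = 1 := by
    apply hμu
    intro x _
    simp
  -- invariance of `μ` under `X ^ t`
  have hμt : ∀ c ∈ Q, Commute τ c → μ (X ^ t * c * (X ^ t)⁻¹) = μ c := by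
    intro c hc hcτ
    have hc'' := hDsc _ (hQX t c hc) (hDX t c hcτ)
    have e1 := hμ _ hc'' _ (hXU w₀ hw₀U)
    rw [← hact, inv_mul_cancel_right, hact, hμ c (hDsc c hc hcτ) w₀ hw₀U, map_smul] at e1
    exact (hcancel _ _ _ (fun h => hw₀ (hunit _ _ h)) e1).symm
  -- the norm
  let Nm : (Module.End K V)ˣ → K := fun c => ∏ i ∈ Finset.range t, μ ((X ^ i)⁻¹ * c * X ^ i)
  have hNmul : ∀ c c' : (Module.End K V)ˣ, c ∈ Q → Commute τ c → c' ∈ Q → Commute τ c' →
      Nm (c * c') = Nm c * Nm c' := by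
    intro c c' hc hcτ hc' hcτ'
    simp only [Nm]
    rw [← Finset.prod_mul_distrib]
    apply Finset.prod_congr rfl
    intro i _
    rw [← hμmul _ _ (hDsc _ (hQX' i c hc) (hDX' i c hcτ))
      (hDsc _ (hQX' i c' hc') (hDX' i c' hcτ'))]
    congr 1
    group
  have hNone : Nm 1 = 1 := by
    simp only [Nm]
    apply Finset.prod_eq_one
    intro i _
    rw [mul_one, inv_mul_cancel, hμone]
  obtain ⟨s, hs⟩ : ∃ s, t = s + 1 := ⟨t - 1, by omega⟩
  have hNX : ∀ c ∈ Q, Commute τ c → Nm (X * c * X⁻¹) = Nm c := by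
    intro c hc hcτ
    simp only [Nm]
    rw [hs, Finset.prod_range_succ', Finset.prod_range_succ]
    congr 1
    · apply Finset.prod_congr rfl
      intro i _
      congr 1
      rw [pow_succ]
      group
    · have := hμt _ (hQX' s c hc) (hDX' s c hcτ)
      rw [← this, hs]
      congr 1
      rw [pow_succ]
      group
  -- the element `c₀`
  have hex : ∃ v ∈ Q, ∃ w ∈ U, (u : Module.End K V) ((v : Module.End K V) w) ≠
      (v : Module.End K V) ((u : Module.End K V) w) := by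
    by_contra hcon
    push Not at hcon
    exact h1 (hsc u hu hcon)
  obtain ⟨v, hv, w, hw, hne⟩ := hex
  have hc₀Q : u * v * u⁻¹ * v⁻¹ ∈ Q :=
    Q.mul_mem (Q.mul_mem (Q.mul_mem hu hv) (Q.inv_mem hu)) (Q.inv_mem hv)
  have hc₀τ : Commute τ (u * v * u⁻¹ * v⁻¹) := hM.der u hu v hv
  have hμc₀ : μ (u * v * u⁻¹ * v⁻¹) ≠ 1 := by
    intro h
    apply hne
    have e := hμ _ (hDsc _ hc₀Q hc₀τ) _ (hQU v hv _ (hQU u hu w hw))
    rw [h, one_smul, ← hact, ← hact] at e
    have e2 : u * v * u⁻¹ * v⁻¹ * v * u = u * v := by group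
    rw [e2, hact] at e
    exact e
  have hNc₀ : Nm (u * v * u⁻¹ * v⁻¹) = μ (u * v * u⁻¹ * v⁻¹) := by
    simp only [Nm]
    rw [hs, Finset.prod_range_succ', Finset.prod_eq_one, one_mul]
    · simp
    · intro i hi
      have hi' : i + 1 < t := by
        rw [hs]
        have := Finset.mem_range.mp hi
        omega
      obtain ⟨k, hk⟩ := h2 (i + 1) (Nat.succ_pos i) hi'
      apply hμu
      intro x hx
      rw [one_smul]
      set ui := (X ^ (i + 1))⁻¹ * u * X ^ (i + 1) with hui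
      set vi := (X ^ (i + 1))⁻¹ * v * X ^ (i + 1) with hvi
      have huiQ : ui ∈ Q := hQX' _ u hu
      have hviQ : vi ∈ Q := hQX' _ v hv
      have e1 : (X ^ (i + 1))⁻¹ * (u * v * u⁻¹ * v⁻¹) * X ^ (i + 1) = ui * vi * ui⁻¹ * vi⁻¹ := by
        rw [hui, hvi]
        group
      rw [e1]
      have hy : ((ui⁻¹ * vi⁻¹ : (Module.End K V)ˣ) : Module.End K V) x ∈ U :=
        hQU _ (Q.mul_mem (Q.inv_mem huiQ) (Q.inv_mem hviQ)) x hx
      have e2 : ((ui * vi * ui⁻¹ * vi⁻¹ : (Module.End K V)ˣ) : Module.End K V) x =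
          (ui : Module.End K V) ((vi : Module.End K V)
            (((ui⁻¹ * vi⁻¹ : (Module.End K V)ˣ) : Module.End K V) x)) := by
        rw [← hact, ← hact]
        have : ui * vi * (ui⁻¹ * vi⁻¹) = ui * vi * ui⁻¹ * vi⁻¹ := by group
        rw [this]
      have e3 : x = (vi : Module.End K V) ((ui : Module.End K V)
            (((ui⁻¹ * vi⁻¹ : (Module.End K V)ˣ) : Module.End K V) x)) := by
        rw [← hact, ← hact]
        have : vi * ui * (ui⁻¹ * vi⁻¹) = 1 := by group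
        rw [this]
        simp
      rw [e2, hk _ (hQU vi hviQ _ hy)]
      conv_rhs => rw [e3, hk _ hy, map_smul]
  -- surjectivity of `c ↦ X c X⁻¹ c⁻¹`
  have hfin : Finite Q := hM.fin
  let ψ : {d : Q // Commute τ (d : (Module.End K V)ˣ)} → {d : Q // Commute τ (d : (Module.End K V)ˣ)} :=
    fun d => ⟨⟨X * (d.1 : (Module.End K V)ˣ) * X⁻¹ * (d.1 : (Module.End K V)ˣ)⁻¹,
      Q.mul_mem (hM.norm _ d.1.2) (Q.inv_mem d.1.2)⟩, by
        have h1 := hDX 1 _ d.2
        rw [pow_one] at h1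
        exact h1.mul_right d.2.inv_right⟩
  have hψinj : Function.Injective ψ := by
    intro c c' h
    have h' : X * (c.1 : (Module.End K V)ˣ) * X⁻¹ * (c.1 : (Module.End K V)ˣ)⁻¹ =
        X * (c'.1 : (Module.End K V)ˣ) * X⁻¹ * (c'.1 : (Module.End K V)ˣ)⁻¹ :=
      congrArg (fun d => ((d.1 : Q) : (Module.End K V)ˣ)) h
    have h3 : Commute X ((c'.1 : (Module.End K V)ˣ)⁻¹ * (c.1 : (Module.End K V)ˣ)) := by
      show X * ((c'.1 : (Module.End K V)ˣ)⁻¹ * (c.1 : (Module.End K V)ˣ)) =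
        ((c'.1 : (Module.End K V)ˣ)⁻¹ * (c.1 : (Module.End K V)ˣ)) * X
      have h4 : X * (c.1 : (Module.End K V)ˣ) * X⁻¹ =
          X * (c'.1 : (Module.End K V)ˣ) * X⁻¹ * (c'.1 : (Module.End K V)ˣ)⁻¹ *
            (c.1 : (Module.End K V)ˣ) := by
        rw [← h', inv_mul_cancel_right]
      have h5 : X * (c.1 : (Module.End K V)ˣ) =
          X * (c'.1 : (Module.End K V)ˣ) * X⁻¹ * (c'.1 : (Module.End K V)ˣ)⁻¹ *
            (c.1 : (Module.End K V)ˣ) * X := by
        rw [← h4, inv_mul_cancel_right]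
      calc X * ((c'.1 : (Module.End K V)ˣ)⁻¹ * (c.1 : (Module.End K V)ˣ))
          = X * (c'.1 : (Module.End K V)ˣ)⁻¹ * X⁻¹ * (X * (c.1 : (Module.End K V)ˣ)) := by group
        _ = _ := by rw [h5]; group
    have h6 := hfpf _ (Q.mul_mem (Q.inv_mem c'.1.2) c.1.2) h3
    apply Subtype.ext
    apply Subtype.ext
    exact (inv_mul_eq_one.mp h6).symm
  have hψsurj : Function.Surjective ψ := Finite.injective_iff_surjective.mp hψinj
  obtain ⟨c₁, hc₁⟩ := hψsurj ⟨⟨u * v * u⁻¹ * v⁻¹, hc₀Q⟩, hc₀τ⟩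
  have hc₁' : X * (c₁.1 : (Module.End K V)ˣ) * X⁻¹ * (c₁.1 : (Module.End K V)ˣ)⁻¹ =
      u * v * u⁻¹ * v⁻¹ := congrArg (fun d => ((d.1 : Q) : (Module.End K V)ˣ)) hc₁
  apply hμc₀
  have hcX : Commute τ (X * (c₁.1 : (Module.End K V)ˣ) * X⁻¹) := by
    have h1 := hDX 1 _ c₁.2
    rwa [pow_one] at h1
  rw [← hNc₀, ← hc₁', hNmul _ _ (hM.norm _ c₁.1.2) hcX (Q.inv_mem c₁.1.2) c₁.2.inv_right,
    hNX _ c₁.1.2 c₁.2, ← hNmul _ _ c₁.1.2 c₁.2 (Q.inv_mem c₁.1.2) c₁.2.inv_right, mul_inv_cancel,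
    hNone]

end Cfsg.Agent.Lib.H92HHExcN
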