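import Mathlib
import Cfsg.Agent.Lib.Helper92HHDefs

set_option autoImplicit false

namespace Cfsg.Agent.Lib.H92HHNT

open Polynomial Cfsg.Agent.Lib.Helper92HHDefs

variable {K V : Type*} [Field K] [AddCommGroup V] [Module K V]

/-- PIECE NT (pure number theory).  `p` odd, `p^k - 1 = q^m` forces `q = 2`.  `2^m ≡ -1 (mod p^k)`, so the order of `2` modulo `p^k` is exactly `2m`
(it divides `2m`, and `2^o ≡ 1` forces `2^o - 1 ≥ 2^m + 1`, `o > m`).  So `e = 2 m j`.  `v_p(2^(2m) - 1) = v_p(2^m + 1) = k` (`p ∤ 2^m - 1`), and LTE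
(`padicValNat.pow_sub_pow` / `Nat.emultiplicity_pow_sub_pow`) gives `n ≤ v_p(2^e - 1) = k + v_p(j)`, so `p^(n-k) ∣ j`. -/
theorem nt (p q m k n e : ℕ) (hp : p.Prime) (hp2 : p ≠ 2) (hq : q.Prime) (hm : 1 ≤ m) (hk : 1 ≤ k)
    (hkn : k ≤ n) (h : p ^ k - 1 = q ^ m) (he : 1 ≤ e) (hdvd : p ^ n ∣ q ^ e - 1) :
    2 * m * p ^ (n - k) ≤ e := by
  haveI : Fact p.Prime := ⟨hp⟩
  have hodd : Odd p := hp.odd_of_ne_two hp2
  have hpk1 : 1 ≤ p ^ k := Nat.one_le_pow _ _ hp.pos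
  -- `q = 2`
  have hq2 : q = 2 := by
    have h1 : Odd (p ^ k) := hodd.pow
    have h2 : Even (p ^ k - 1) := by
      obtain ⟨c, hc⟩ := h1
      exact ⟨c, by omega⟩
    rw [h] at h2
    have h3 : 2 ∣ q := Nat.Prime.dvd_of_dvd_pow Nat.prime_two h2.two_dvd
    exact ((Nat.prime_dvd_prime_iff_eq Nat.prime_two hq).1 h3).symm
  subst hq2
  have hpk : p ^ k = 2 ^ m + 1 := by omega
  have h2m1 : 2 ≤ 2 ^ m := by
    calc 2 = 2 ^ 1 := by norm_num
      _ ≤ 2 ^ m := Nat.pow_le_pow_right (by norm_num) hm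
  -- factorisation
  have hfac : 2 ^ (2 * m) - 1 = (2 ^ m - 1) * (2 ^ m + 1) := by
    have : 2 ^ (2 * m) = 2 ^ m * 2 ^ m := by rw [two_mul, pow_add]
    rw [this]
    obtain ⟨c, hc⟩ : ∃ c, 2 ^ m = c + 1 := ⟨2 ^ m - 1, by omega⟩
    rw [hc]
    simp only [Nat.add_sub_cancel]
    have : (c + 1) * (c + 1) = c * (c + 1 + 1) + 1 := by ring
    rw [this, Nat.add_sub_cancel]
  have hd1 : p ^ k ∣ 2 ^ (2 * m) - 1 := by
    rw [hfac, hpk]; exact Dvd.intro_left _ rfl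
  have hd2 : p ^ k ∣ 2 ^ e - 1 := (pow_dvd_pow p hkn).trans hdvd
  -- `2 m ∣ e`
  have hg : p ^ k ∣ 2 ^ (Nat.gcd e (2 * m)) - 1 := by
    rw [← Nat.pow_sub_one_gcd_pow_sub_one]
    exact Nat.dvd_gcd hd2 hd1
  set g := Nat.gcd e (2 * m) with hgdef
  have hgpos : 0 < g := Nat.gcd_pos_of_pos_left _ he
  have hgm : m < g := by
    by_contra hcon
    push Not at hcon
    have h1 : 2 ^ g ≤ 2 ^ m := Nat.pow_le_pow_right (by norm_num) hcon
    have h2 : 2 ≤ 2 ^ g := by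
      calc 2 = 2 ^ 1 := by norm_num
        _ ≤ 2 ^ g := Nat.pow_le_pow_right (by norm_num) hgpos
    have h3 := Nat.le_of_dvd (by omega) hg
    omega
  have hg2m : g = 2 * m := by
    obtain ⟨c, hc⟩ : g ∣ 2 * m := Nat.gcd_dvd_right _ _
    rcases Nat.lt_or_ge c 2 with h1 | h1
    · interval_cases c
      · omega
      · omega
    · have : g * 2 ≤ g * c := Nat.mul_le_mul_left _ h1
      omega
  obtain ⟨j, hj⟩ : 2 * m ∣ e := hg2m ▸ Nat.gcd_dvd_left _ _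
  have hj0 : j ≠ 0 := by
    rintro rfl
    omega
  -- LTE
  have hnd2 : ¬ p ∣ 2 := by
    intro h1
    exact hp2 ((Nat.prime_dvd_prime_iff_eq hp Nat.prime_two).1 h1)
  have hx : ¬ p ∣ 2 ^ (2 * m) := fun h1 => hnd2 (hp.dvd_of_dvd_pow h1)
  have hlt : 1 < 2 ^ (2 * m) := Nat.one_lt_pow (by omega) (by norm_num)
  have hpd : p ∣ 2 ^ (2 * m) - 1 := (dvd_pow_self p (by omega)).trans hd1
  have hlte := padicValNat.pow_sub_pow hodd hlt hpd hx hj0
  rw [one_pow, ← pow_mul, ← hj] at hlte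
  have hv1 : padicValNat p (2 ^ (2 * m) - 1) = k := by
    rw [hfac, ← hpk]
    have hne1 : 2 ^ m - 1 ≠ 0 := by omega
    rw [padicValNat.mul hne1 (by positivity), padicValNat.prime_pow]
    have : padicValNat p (2 ^ m - 1) = 0 := by
      apply padicValNat.eq_zero_of_not_dvd
      intro h1
      have h2 : p ∣ p ^ k := dvd_pow_self p (by omega)
      have h3 : p ∣ p ^ k - (2 ^ m - 1) := Nat.dvd_sub h2 h1
      have h4 : p ^ k - (2 ^ m - 1) = 2 := by omega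
      rw [h4] at h3
      exact hnd2 h3
    rw [this, zero_add]
  have hne : 2 ^ e - 1 ≠ 0 := by
    have : 2 ≤ 2 ^ e := by
      calc 2 = 2 ^ 1 := by norm_num
        _ ≤ 2 ^ e := Nat.pow_le_pow_right (by norm_num) he
    omega
  have hn : n ≤ padicValNat p (2 ^ e - 1) := (padicValNat_dvd_iff_le hne).1 hdvd
  rw [hlte, hv1] at hn
  have hjd : p ^ (n - k) ∣ j := (padicValNat_dvd_iff_le hj0).2 (by omega)
  have hjle := Nat.le_of_dvd (Nat.pos_of_ne_zero hj0) hjd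
  rw [hj]
  exact Nat.mul_le_mul_left _ hjle

end Cfsg.Agent.Lib.H92HHNT
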