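import Mathlib
import Cfsg.Agent.Lib.Helper92HHDefs
import Cfsg.Agent.Lib.H92HHOrb
import Cfsg.Agent.Lib.H92HHNT

set_option autoImplicit false

namespace Cfsg.Agent.Lib.H92HHExcU

open Polynomial Cfsg.Agent.Lib.Helper92HHDefs

variable {K V : Type*} [Field K] [AddCommGroup V] [Module K V]

theorem isScOn_mul {g h : (Module.End K V)ˣ} {U : Submodule K V}
    (hg : IsScOn (g : Module.End K V) U) (hh : IsScOn (h : Module.End K V) U) :
    IsScOn ((g * h : (Module.End K V)ˣ) : Module.End K V) U := by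
  obtain ⟨c, hc⟩ := hg
  obtain ⟨c', hc'⟩ := hh
  refine ⟨c' * c, fun u hu => ?_⟩
  rw [Units.val_mul, Module.End.mul_apply, hc' u hu, map_smul, hc u hu, smul_smul]

theorem inv_apply_apply (g : (Module.End K V)ˣ) (w : V) :
    ((g⁻¹ : (Module.End K V)ˣ) : Module.End K V) ((g : Module.End K V) w) = w := by
  rw [← Module.End.mul_apply, Units.inv_mul, Module.End.one_apply]

theorem isScOn_inv {g : (Module.End K V)ˣ} {U : Submodule K V}
    (hg : IsScOn (g : Module.End K V) U) :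
    IsScOn ((g⁻¹ : (Module.End K V)ˣ) : Module.End K V) U := by
  obtain ⟨c, hc⟩ := hg
  refine ⟨c⁻¹, fun u hu => ?_⟩
  by_cases h0 : c = 0
  · have h1 : (g : Module.End K V) u = 0 := by rw [hc u hu, h0, zero_smul]
    have h2 : u = 0 := by
      have := inv_apply_apply g u
      rw [h1, map_zero] at this
      exact this.symm
    rw [h2, map_zero, smul_zero]
  · have h1 : u = c⁻¹ • (g : Module.End K V) u := by
      rw [hc u hu, smul_smul, inv_mul_cancel₀ h0, one_smul]
    conv_lhs => rw [h1]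
    rw [map_smul, inv_apply_apply]

/-- the elements of `Q` which are scalar on `U` -/
def Rsub (Q : Subgroup (Module.End K V)ˣ) (U : Submodule K V) : Subgroup (Module.End K V)ˣ where
  carrier := {u | u ∈ Q ∧ IsScOn (u : Module.End K V) U}
  mul_mem' := fun ha hb => ⟨Q.mul_mem ha.1 hb.1, isScOn_mul ha.2 hb.2⟩
  one_mem' := ⟨Q.one_mem, 1, fun u _ => by simp⟩
  inv_mem' := fun ha => ⟨Q.inv_mem ha.1, isScOn_inv ha.2⟩

theorem mem_map_conj {G : Type*} [Group G] (A : Subgroup G) (g z : G) :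
    z ∈ A.map (MulAut.conj g).toMonoidHom ↔ g⁻¹ * z * g ∈ A := by
  constructor
  · rintro ⟨a, ha, rfl⟩
    have : g⁻¹ * (MulAut.conj g).toMonoidHom a * g = a := by
      simp [MulAut.conj_apply, mul_assoc]
    rw [this]; exact ha
  · intro h
    exact ⟨_, h, by simp [MulAut.conj_apply, mul_assoc]⟩

/-- the pure group theoretic part: `p ^ n ∣ |Q : C_Q(τ)| - 1`. -/
theorem dvd_index_sub_one {Γ : Type*} [Group Γ] {p q n : ℕ} [Fact p.Prime] {Q : Subgroup Γ} {X : Γ}
    (hM : MinData p q n Q X) (D : Subgroup Γ)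
    (hD : ∀ u, u ∈ D ↔ u ∈ Q ∧ Commute (X ^ p ^ (n - 1)) u) :
    p ^ n ∣ D.relIndex Q - 1 := by
  haveI := hM.fin
  have hp : p.Prime := Fact.out
  set τ := X ^ p ^ (n - 1) with hτ
  have hDQ : D ≤ Q := fun u hu => ((hD u).1 hu).1
  have conjQ : ∀ k : ℕ, ∀ u ∈ Q, X ^ k * u * (X ^ k)⁻¹ ∈ Q := by
    intro k
    induction k with
    | zero => intro u hu; simpa using hu
    | succ k ih =>
      intro u hu
      have e : X ^ (k + 1) * u * (X ^ (k + 1))⁻¹ = X * (X ^ k * u * (X ^ k)⁻¹) * X⁻¹ := by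
        rw [pow_succ']; group
      rw [e]
      exact hM.norm _ (ih u hu)
  have hXinv : X⁻¹ = X ^ (p ^ n - 1) := by
    apply inv_eq_of_mul_eq_one_left
    rw [← pow_succ, Nat.sub_add_cancel (Nat.one_le_pow _ _ hp.pos), hM.pow]
  have hinv : ∀ u ∈ Q, X⁻¹ * u * X ∈ Q := by
    intro u hu
    have := conjQ (p ^ n - 1) u hu
    rw [← hXinv, inv_inv] at this
    exact this
  have hτX : Commute τ X := (Commute.refl X).pow_left _
  -- `D` is invariant under `X`
  have hDX : ∀ u ∈ D, X * u * X⁻¹ ∈ D := by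
    intro u hu
    obtain ⟨h1, h2⟩ := (hD u).1 hu
    exact (hD _).2 ⟨hM.norm u h1, (hτX.mul_right h2).mul_right hτX.inv_right⟩
  have hDXk : ∀ k : ℕ, ∀ u ∈ D, X ^ k * u * (X ^ k)⁻¹ ∈ D := by
    intro k
    induction k with
    | zero => intro u hu; simpa using hu
    | succ k ih =>
      intro u hu
      have e : X ^ (k + 1) * u * (X ^ (k + 1))⁻¹ = X * (X ^ k * u * (X ^ k)⁻¹) * X⁻¹ := by
        rw [pow_succ']; group
      rw [e]
      exact hDX _ (ih u hu)
  let α : MulAut ↥Q :=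
    { toFun := fun u => ⟨X * u * X⁻¹, hM.norm u u.2⟩
      invFun := fun u => ⟨X⁻¹ * u * X, hinv u u.2⟩
      left_inv := fun u => Subtype.ext (by simp [mul_assoc])
      right_inv := fun u => Subtype.ext (by simp [mul_assoc])
      map_mul' := fun u v => Subtype.ext (by simp [mul_assoc]) }
  have hα1 : ∀ u : ↥Q, ((α u : ↥Q) : Γ) = X * u * X⁻¹ := fun _ => rfl
  have hαk : ∀ (k : ℕ) (u : ↥Q), (((α ^ k) u : ↥Q) : Γ) = X ^ k * u * (X ^ k)⁻¹ := by
    intro k
    induction k with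
    | zero => intro u; simp
    | succ k ih =>
      intro u
      rw [pow_succ', MulAut.mul_apply, hα1, ih, pow_succ']
      group
  have hαN : α ^ (p ^ n) = 1 := by
    ext u
    rw [hαk, hM.pow]
    simp
  have hfree : ∀ (u : ↥Q) (i : ℕ), 0 < i → i < p ^ n → (α ^ i) u * u⁻¹ ∈ D.subgroupOf Q →
      u ∈ D.subgroupOf Q := by
    intro u i hi0 hin hu
    rw [Subgroup.mem_subgroupOf] at hu ⊢
    rw [Subgroup.coe_mul, hαk, Subgroup.coe_inv] at hu
    set Y := X ^ i with hY
    -- all powers of `Y`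
    have hYk : ∀ k : ℕ, Y ^ k * u * (Y ^ k)⁻¹ * (u : Γ)⁻¹ ∈ D := by
      intro k
      induction k with
      | zero => simp
      | succ k ih =>
        have e : Y ^ (k + 1) * u * (Y ^ (k + 1))⁻¹ * (u : Γ)⁻¹
            = (Y * (Y ^ k * u * (Y ^ k)⁻¹ * (u : Γ)⁻¹) * Y⁻¹) * (Y * u * Y⁻¹ * (u : Γ)⁻¹) := by
          rw [pow_succ']; group
        rw [e]
        exact D.mul_mem (hDXk i _ ih) hu
    -- `τ` is a power of `Y`
    obtain ⟨k, hk⟩ : ∃ k : ℕ, Y ^ k = τ := by
      obtain ⟨b, i', hi', rfl⟩ := Nat.exists_eq_pow_mul_and_not_dvd hi0.ne' p hp.ne_one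
      have hb : b < n := by
        by_contra hbn
        push Not at hbn
        have h1 : p ^ n ≤ p ^ b := Nat.pow_le_pow_right hp.pos hbn
        have h2 : p ^ b ≤ p ^ b * i' := Nat.le_mul_of_pos_right _ (Nat.pos_of_ne_zero (by
          rintro rfl; simp at hi'))
        omega
      have hcop : Nat.Coprime i' (p ^ n) :=
        Nat.Coprime.pow_right _ ((Nat.Prime.coprime_iff_not_dvd hp).2 hi').symm
      obtain ⟨j, -, hj⟩ := Nat.exists_mul_mod_eq_one_of_coprime hcop
        (Nat.one_lt_pow (by have := hM.npos; omega) hp.one_lt)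
      refine ⟨j * p ^ (n - 1 - b), ?_⟩
      have h1 : X ^ (i' * j) = X := by
        have h2 : i' * j = p ^ n * (i' * j / p ^ n) + 1 := by
          have := Nat.div_add_mod (i' * j) (p ^ n)
          omega
        rw [h2, pow_succ, pow_mul, hM.pow, one_pow, one_mul]
      rw [hY, hτ, ← pow_mul]
      have h3 : p ^ b * i' * (j * p ^ (n - 1 - b)) = (i' * j) * p ^ (n - 1) := by
        have : p ^ (n - 1) = p ^ b * p ^ (n - 1 - b) := by
          rw [← pow_add]; congr 1; omega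
        rw [this]; ring
      rw [h3, pow_mul, h1]
    have h4 := hYk k
    rw [hk] at h4
    obtain ⟨dd, hdQ, hdc, hud⟩ := hM.lift D hDQ
      (fun v hv m hm => by
        have hc := hM.cent m ((hD m).1 hm).1 ((hD m).1 hm).2 v hv
        have : v * m * v⁻¹ = m := by rw [← hc.eq]; group
        rw [this]; exact hm)
      (fun m hm => by
        have hc := ((hD m).1 hm).2
        have : τ * m * τ⁻¹ = m := by rw [hc.eq]; group
        rw [this]; exact hm)
      u u.2 h4
    have := D.mul_mem hud ((hD dd).2 ⟨hdQ, hdc⟩)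
    simpa using this
  obtain ⟨r, -, hr⟩ := Cfsg.Agent.Lib.H92HHOrb.orb_count α (p ^ n) (pow_pos hp.pos n) hαN
    (D.subgroupOf Q) (fun z hz => by
      rw [Subgroup.mem_subgroupOf] at hz ⊢
      rw [hα1]
      exact hDX _ hz) hfree
  have hci := Subgroup.card_mul_index (D.subgroupOf Q)
  have hZpos : 0 < Nat.card (D.subgroupOf Q) := Nat.card_pos
  have hidx : D.relIndex Q = (D.subgroupOf Q).index := rfl
  have hipos : 0 < (D.subgroupOf Q).index := Nat.pos_of_ne_zero Subgroup.index_ne_zero_of_finite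
  rw [hidx]
  set z := Nat.card (D.subgroupOf Q) with hz
  set x := (D.subgroupOf Q).index with hx
  set c := Nat.card (Quotient r) with hc
  have hNpos : 0 < p ^ n := pow_pos hp.pos n
  rw [← hci] at hr
  have h5 : z * (c * p ^ n) = z * (x + (p ^ n - 1)) := by
    rw [mul_add]
    calc z * (c * p ^ n) = c * (z * p ^ n) := by ring
      _ = z * x + (p ^ n - 1) * z := hr
      _ = z * x + z * (p ^ n - 1) := by ring
  have h6 : c * p ^ n = x + (p ^ n - 1) := Nat.eq_of_mul_eq_mul_left hZpos h5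
  have h7 : (x - 1) + p ^ n = c * p ^ n := by omega
  exact (Nat.dvd_add_left (dvd_refl (p ^ n))).1 (h7 ▸ Dvd.intro_left c rfl)

/-- PIECE ExcU (counting). -/
theorem exists_u [FiniteDimensional K V] (p q n : ℕ) [Fact p.Prime] [Fact q.Prime] (hp2 : p ≠ 2)
    (hpq : p ≠ q) (Q : Subgroup (Module.End K V)ˣ) (X : (Module.End K V)ˣ)
    (hM : MinData p q n Q X) (U : Submodule K V) (a : ℕ) (ha : a < n) (hC : CritSit p Q X U a)
    (hd : Module.finrank K U = p ^ (n - a) - 1)
    (hcard : (Module.finrank K U) ^ 2 *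
      Nat.card {u : (Module.End K V)ˣ // u ∈ Q ∧ IsScOn (u : Module.End K V) U} = Nat.card Q) :
    ∃ u ∈ Q, ¬ IsScOn (u : Module.End K V) U ∧ ∀ i, 0 < i → i < p ^ a →
      IsScOn (((X ^ i)⁻¹ * u * X ^ i : (Module.End K V)ˣ) : Module.End K V) U := by
  classical
  by_contra hcon
  push Not at hcon
  haveI := hM.fin
  have hp : p.Prime := Fact.out
  have hq : q.Prime := Fact.out
  have hp3 : 3 ≤ p := by
    have := hp.two_le
    omega
  set t := p ^ a with ht
  have htpos : 0 < t := pow_pos hp.pos a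
  set d := Module.finrank K U with hdd
  set R := Rsub Q U with hR
  have hRQ : R ≤ Q := fun u hu => hu.1
  have hcardR : d ^ 2 * Nat.card R = Nat.card Q := hcard
  have hd2 : 2 ≤ d := by
    have h1 : p ^ 1 ≤ p ^ (n - a) := Nat.pow_le_pow_right hp.pos (by omega)
    rw [pow_one] at h1
    omega
  haveI : Finite R := Finite.of_injective (Subgroup.inclusion hRQ) (Subgroup.inclusion_injective hRQ)
  have hRpos : 0 < Nat.card R := Nat.card_pos
  have conjQ : ∀ k : ℕ, ∀ u ∈ Q, X ^ k * u * (X ^ k)⁻¹ ∈ Q := by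
    intro k
    induction k with
    | zero => intro u hu; simpa using hu
    | succ k ih =>
      intro u hu
      have e : X ^ (k + 1) * u * (X ^ (k + 1))⁻¹ = X * (X ^ k * u * (X ^ k)⁻¹) * X⁻¹ := by
        rw [pow_succ']; group
      rw [e]
      exact hM.norm _ (ih u hu)
  let Ri : ℕ → Subgroup (Module.End K V)ˣ := fun i => R.map (MulAut.conj (X ^ i)).toMonoidHom
  have mem_Ri : ∀ i z, z ∈ Ri i ↔ (X ^ i)⁻¹ * z * X ^ i ∈ R := fun i z => mem_map_conj R (X ^ i) z
  have hRiQ : ∀ i, Ri i ≤ Q := by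
    intro i z hz
    have h1 := conjQ i _ (hRQ ((mem_Ri i z).1 hz))
    have e : X ^ i * ((X ^ i)⁻¹ * z * X ^ i) * (X ^ i)⁻¹ = z := by group
    rwa [e] at h1
  have hRicard : ∀ i, Nat.card (Ri i) = Nat.card R := fun i =>
    Subgroup.card_map_of_injective (MulAut.conj (X ^ i)).injective
  have hRiidx : ∀ i, (Ri i).relIndex Q = d ^ 2 := by
    intro i
    have h1 := Subgroup.card_mul_index ((Ri i).subgroupOf Q)
    rw [Nat.card_congr (Subgroup.subgroupOfEquivOfLe (hRiQ i)).toEquiv, hRicard, ← hcardR,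
      mul_comm] at h1
    exact Nat.eq_of_mul_eq_mul_right hRpos h1
  set J : Subgroup (Module.End K V)ˣ := ⨅ j : Fin (t - 1), Ri (j.val + 1) with hJ
  have hJR : ∀ u ∈ Q, u ∈ J → u ∈ R := by
    intro u hu huJ
    by_contra huR
    have hns : ¬ IsScOn (u : Module.End K V) U := fun h => huR ⟨hu, h⟩
    obtain ⟨i, hi0, hit, hi⟩ := hcon u hu hns
    have h1 := Subgroup.mem_iInf.1 huJ ⟨i - 1, by omega⟩
    have h2 : i - 1 + 1 = i := by omega
    simp only [h2] at h1
    exact hi ((mem_Ri i u).1 h1).2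
  set I := J ⊓ Q with hI
  have hIX : ∀ u ∈ I, X * u * X⁻¹ ∈ I := by
    intro u hu
    refine ⟨Subgroup.mem_iInf.2 (fun j => (mem_Ri _ _).2 ?_), hM.norm u hu.2⟩
    have e : (X ^ (j.val + 1))⁻¹ * (X * u * X⁻¹) * X ^ (j.val + 1) = (X ^ j.val)⁻¹ * u * X ^ j.val := by
      rw [pow_succ']
      group
    rw [e]
    by_cases hj : j.val = 0
    · rw [hj]
      simpa using hJR u hu.2 hu.1
    · have h1 := Subgroup.mem_iInf.1 hu.1 ⟨j.val - 1, by have := j.isLt; omega⟩
      have h2 : j.val - 1 + 1 = j.val := by omega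
      simp only [h2] at h1
      exact (mem_Ri _ _).1 h1
  have hIne : I ≠ Q := by
    intro e
    have hQR : Q ≤ R := fun u hu => by
      have : u ∈ I := e ▸ hu
      exact hJR u hu this.1
    have hRe : R = Q := le_antisymm hRQ hQR
    rw [hRe] at hcardR
    have hQpos : 0 < Nat.card Q := Nat.card_pos
    have h4 : 4 ≤ d ^ 2 := by nlinarith
    nlinarith
  let D : Subgroup (Module.End K V)ˣ :=
    { carrier := {u | u ∈ Q ∧ Commute (X ^ p ^ (n - 1)) u}
      mul_mem' := fun ha hb => ⟨Q.mul_mem ha.1 hb.1, ha.2.mul_right hb.2⟩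
      one_mem' := ⟨Q.one_mem, Commute.one_right _⟩
      inv_mem' := fun ha => ⟨Q.inv_mem ha.1, ha.2.inv_right⟩ }
  have hD : ∀ u, u ∈ D ↔ u ∈ Q ∧ Commute (X ^ p ^ (n - 1)) u := fun _ => Iff.rfl
  have hDQ : D ≤ Q := fun u hu => hu.1
  have hID : I ≤ D := fun u hu => ⟨hu.2, hM.mini I inf_le_right hIX hIne u hu⟩
  -- upper bound
  have hub : D.relIndex Q ≤ (d ^ 2) ^ (t - 1) := by
    have h1 : D.relIndex Q ≤ I.relIndex Q :=
      Subgroup.relIndex_le_of_le_left hID (by
        show (I.subgroupOf Q).index ≠ 0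
        exact Subgroup.index_ne_zero_of_finite)
    have h2 : I.relIndex Q = J.relIndex Q := Subgroup.inf_relIndex_right J Q
    have h3 : J.relIndex Q ≤ ∏ j : Fin (t - 1), (Ri (j.val + 1)).relIndex Q :=
      Subgroup.relIndex_iInf_le _
    have h4 : ∏ j : Fin (t - 1), (Ri (j.val + 1)).relIndex Q = (d ^ 2) ^ (t - 1) := by
      simp [hRiidx]
    omega
  -- the index is a power of `q`
  obtain ⟨e, he⟩ : ∃ e, D.relIndex Q = q ^ e := by
    have hQp : IsPGroup q ↥Q := hM.pgrp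
    exact hQp.index (D.subgroupOf Q)
  have he1 : 1 ≤ e := by
    by_contra h0
    have h00 : e = 0 := by omega
    rw [h00, pow_zero, Subgroup.relIndex_eq_one] at he
    obtain ⟨u, hu, hnc⟩ := hM.ne
    exact hnc (he hu).2
  have hdvd := dvd_index_sub_one hM D hD
  rw [he] at hdvd
  -- `d` is a power of `q`
  obtain ⟨s, hs⟩ := (IsPGroup.iff_card (p := q) (G := ↥Q)).1 hM.pgrp
  obtain ⟨m, -, hm⟩ : ∃ m ≤ s, d = q ^ m := by
    apply (Nat.dvd_prime_pow hq).1
    rw [← hs, ← hcardR]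
    exact Dvd.dvd.mul_right (Dvd.intro_left (d ^ 1) (by ring)) _
  have hm1 : 1 ≤ m := by
    by_contra h0
    have h00 : m = 0 := by omega
    rw [h00, pow_zero] at hm
    omega
  have hnt := Cfsg.Agent.Lib.H92HHNT.nt p q m (n - a) n e hp hp2 hq hm1 (by omega) (by omega)
    (by rw [← hd, hm]) he1 hdvd
  have hna : n - (n - a) = a := by omega
  rw [hna, ← ht] at hnt
  have h1 : q ^ (2 * m * t) ≤ q ^ e := Nat.pow_le_pow_right hq.pos hnt
  have h2 : q ^ (2 * m * t) = d ^ (2 * t) := by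
    rw [hm, ← pow_mul]; congr 1; ring
  have h3 : (d ^ 2) ^ (t - 1) = d ^ (2 * (t - 1)) := by rw [← pow_mul]
  have h4 : d ^ (2 * (t - 1)) < d ^ (2 * t) := Nat.pow_lt_pow_right (by omega) (by omega)
  rw [he] at hub
  omega

end Cfsg.Agent.Lib.H92HHExcU
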