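import Mathlib
import Cfsg.Agent.Lib.Helper92HHDefs

set_option autoImplicit false

namespace Cfsg.Agent.Lib.H92HHImprim

open Polynomial Cfsg.Agent.Lib.Helper92HHDefs

variable {K V : Type*} [Field K] [AddCommGroup V] [Module K V]

theorem mono {X : Module.End K V} {W U : Submodule K V} (h : W ≤ U) {s : ℕ}
    (hs : minDegOn X W s) : minDegOn X U s :=
  fun f hf hU => hs f hf (fun u hu => hU u (h hu))

theorem one_of_ne_bot (X : Module.End K V) (W : Submodule K V) (hW : W ≠ ⊥) : minDegOn X W 1 := by
  intro f hf hk
  by_contra hlt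
  have h0 : f.natDegree = 0 := by omega
  obtain ⟨w, hw, hw0⟩ := Submodule.exists_mem_ne_zero_of_ne_bot hW
  rw [Polynomial.eq_C_of_natDegree_eq_zero h0] at hk hf
  have := hk w hw
  rw [aeval_C, Module.algebraMap_end_apply] at this
  rcases smul_eq_zero.1 this with h | h
  · apply hf
    rw [h, C_0]
  · exact hw0 h

theorem sum_range_mul' {M : Type*} [AddCommMonoid M] (a : ℕ → M) (t s : ℕ) :
    ∑ n ∈ Finset.range (t * s), a n =
      ∑ j ∈ Finset.range s, ∑ i ∈ Finset.range t, a (t * j + i) := by
  induction s with
  | zero => simp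
  | succ s ih => rw [Nat.mul_succ, Finset.sum_range_add, ih, Finset.sum_range_succ]

theorem aeval_mem (Z : Module.End K V) (W : Submodule K V) (hW : ∀ w ∈ W, Z w ∈ W) (g : K[X]) :
    ∀ w ∈ W, aeval Z g w ∈ W := by
  intro w hw
  have hpow : ∀ n : ℕ, ∀ w ∈ W, (Z ^ n) w ∈ W := by
    intro n
    induction n with
    | zero => intro w hw; simpa using hw
    | succ n ih =>
      intro w hw
      rw [pow_succ, Module.End.mul_apply]
      exact ih _ (hW w hw)
  rw [aeval_eq_sum_range, LinearMap.sum_apply]
  refine Submodule.sum_mem _ (fun i _ => ?_)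
  rw [LinearMap.smul_apply]
  exact W.smul_mem _ (hpow i w hw)

/-- PIECE Imprim (pure Mathlib).  If the translates `Y^i W` (`i < t`) are independent and `Y^t W ⊆ W`, then
a lower bound `s` for `Y^t` on `W` gives the lower bound `t s` for `Y` on `W`. -/
theorem imprim (Y : Module.End K V) (hY : Function.Injective Y) (W : Submodule K V) (t s : ℕ)
    (ht : 0 < t) (hind : iSupIndep (fun i : Fin t => W.map (Y ^ (i : ℕ))))
    (hW : ∀ w ∈ W, (Y ^ t) w ∈ W) (h : minDegOn (Y ^ t) W s) : minDegOn Y W (t * s) := by
  intro f hf hk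
  by_contra hlt
  have hlt' : f.natDegree < t * s := by omega
  have hs : 0 < s := by
    rcases Nat.eq_zero_or_pos s with h0 | h0
    · subst h0; simp at hlt'
    · exact h0
  set g : ℕ → K[X] := fun i => ∑ j ∈ Finset.range s, monomial j (f.coeff (t * j + i)) with hg
  have hinjpow : ∀ n : ℕ, Function.Injective (Y ^ n) := by
    intro n
    induction n with
    | zero => intro a b hab; simpa using hab
    | succ n ih =>
      intro a b hab
      rw [pow_succ, Module.End.mul_apply, Module.End.mul_apply] at hab
      exact hY (ih hab)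
  have hdec : ∀ w : V, aeval Y f w = ∑ i ∈ Finset.range t, (Y ^ i) (aeval (Y ^ t) (g i) w) := by
    intro w
    rw [aeval_eq_sum_range' hlt', sum_range_mul', Finset.sum_comm, LinearMap.sum_apply]
    refine Finset.sum_congr rfl (fun i _ => ?_)
    rw [hg]
    simp only [map_sum, LinearMap.sum_apply, aeval_monomial, Module.algebraMap_end_eq_smul_id]
    refine Finset.sum_congr rfl (fun j _ => ?_)
    rw [LinearMap.smul_apply, pow_add, pow_mul,
      ((Commute.pow_pow (Commute.refl Y) t i).pow_left j).eq]
    simp [Module.End.mul_apply]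
  have hgz : ∀ i < t, g i = 0 := by
    intro i hi
    by_contra hne
    have hkill : ∀ w ∈ W, aeval (Y ^ t) (g i) w = 0 := by
      intro w hw
      have h0 := hk w hw
      rw [hdec, Finset.sum_range] at h0
      have := (iSupIndep_iff_finsetSum_eq_zero_imp_eq_zero _).1 hind Finset.univ
        (fun i : Fin t => (Y ^ (i : ℕ)) (aeval (Y ^ t) (g i) w))
        (fun i _ => Submodule.mem_map_of_mem (aeval_mem _ W hW _ w hw)) h0 ⟨i, hi⟩
        (Finset.mem_univ _)
      apply hinjpow i
      rw [map_zero]
      exact this
    have h1 := h (g i) hne hkill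
    have h2 : (g i).natDegree < s := by
      have : (g i).natDegree ≤ s - 1 := by
        rw [hg]
        refine natDegree_sum_le_of_forall_le _ _ (fun j hj => ?_)
        have := Finset.mem_range.1 hj
        exact (natDegree_monomial_le _).trans (by omega)
      omega
    omega
  apply hf
  ext n
  rw [coeff_zero]
  by_cases hn : n < t * s
  · have hi : n % t < t := Nat.mod_lt _ ht
    have hj : n / t < s := Nat.div_lt_of_lt_mul hn
    have := congrArg (fun P => coeff P (n / t)) (hgz (n % t) hi)
    simp only [hg, finsetSum_coeff, coeff_monomial, coeff_zero] at this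
    rw [Finset.sum_ite_eq' , if_pos (Finset.mem_range.2 hj), Nat.div_add_mod] at this
    exact this
  · exact coeff_eq_zero_of_natDegree_lt (by omega)

end Cfsg.Agent.Lib.H92HHImprim
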