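import Mathlib
import Cfsg.Agent.Lib.Helper92HHDefs
import Cfsg.Agent.Lib.H92HHImprim

set_option autoImplicit false

namespace Cfsg.Agent.Lib.H92HHForms

open Polynomial Cfsg.Agent.Lib.Helper92HHDefs

variable {K V : Type*} [Field K] [AddCommGroup V] [Module K V]

theorem aux (p : ℕ) [Fact p.Prime] (n : ℕ) (Q : Subgroup (Module.End K V)ˣ)
    (X : (Module.End K V)ˣ) (hpow : X ^ p ^ n = 1) (W U : Submodule K V) (a c : ℕ) (hWU : W ≤ U)
    (hac : a + c ≤ n)
    (hind : iSupIndep (fun i : Fin (p ^ c) =>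
        W.map (((X ^ p ^ a : (Module.End K V)ˣ) : Module.End K V) ^ (i : ℕ))))
    (hs : a + c < n → Sit p Q X W (a + c)) (s : ℕ)
    (h : minDegOn ((X ^ p ^ (a + c) : (Module.End K V)ˣ) : Module.End K V) W s) :
    minDegOn ((X ^ p ^ a : (Module.End K V)ˣ) : Module.End K V) U (p ^ c * s) := by
  have hp : 0 < p := (Fact.out : p.Prime).pos
  set Y : Module.End K V := ((X ^ p ^ a : (Module.End K V)ˣ) : Module.End K V) with hY
  have hYinj : Function.Injective Y :=
    ((Module.End.isUnit_iff _).1 (Units.isUnit (X ^ p ^ a))).injective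
  have hYt : Y ^ p ^ c = ((X ^ p ^ (a + c) : (Module.End K V)ˣ) : Module.End K V) := by
    rw [hY, ← Units.val_pow_eq_pow_val, ← pow_mul, ← pow_add]
  apply Cfsg.Agent.Lib.H92HHImprim.mono hWU
  apply Cfsg.Agent.Lib.H92HHImprim.imprim Y hYinj W (p ^ c) s (pow_pos hp c) hind
  · intro w hw
    rw [hYt]
    by_cases hlt : a + c < n
    · exact (hs hlt).2.2.1 w hw
    · have e : a + c = n := by omega
      rw [e, hpow]
      simpa using hw
  · rw [hYt]
    exact h

/-- PIECE Forms.  The two conclusions are compatible with the imprimitivity step.  Use `Imprim.imprim` with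
`Y = X^(p^a)`, `t = p^c` (`Y^t = X^(p^(a+c))`; if `a + c = n` then `Y^t = 1` and `Imprim.one_of_ne_bot` gives `s = 1`),
then `Imprim.mono`. -/
theorem himpF (p : ℕ) [Fact p.Prime] (n : ℕ) (Q : Subgroup (Module.End K V)ˣ)
    (X : (Module.End K V)ˣ) (hpow : X ^ p ^ n = 1) (W U : Submodule K V) (a c : ℕ) (hWU : W ≤ U)
    (hW : W ≠ ⊥) (hac : a + c ≤ n)
    (hind : iSupIndep (fun i : Fin (p ^ c) =>
        W.map (((X ^ p ^ a : (Module.End K V)ˣ) : Module.End K V) ^ (i : ℕ))))
    (h : a + c < n → Sit p Q X W (a + c) ∧ formF p n X W (a + c)) : formF p n X U a := by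
  unfold formF
  have e : p ^ (n - a) = p ^ c * p ^ (n - (a + c)) := by
    rw [← pow_add]; congr 1; omega
  rw [e]
  apply aux p n Q X hpow W U a c hWU hac hind (fun hlt => (h hlt).1)
  by_cases hlt : a + c < n
  · exact (h hlt).2
  · have e2 : n - (a + c) = 0 := by omega
    rw [e2, pow_zero]
    exact Cfsg.Agent.Lib.H92HHImprim.one_of_ne_bot _ W hW

theorem himpE (p q : ℕ) [Fact p.Prime] (n : ℕ) (Q : Subgroup (Module.End K V)ˣ)
    (X : (Module.End K V)ˣ) (hpow : X ^ p ^ n = 1) (W U : Submodule K V) (a c : ℕ) (hWU : W ≤ U)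
    (hW : W ≠ ⊥) (hac : a + c ≤ n)
    (hind : iSupIndep (fun i : Fin (p ^ c) =>
        W.map (((X ^ p ^ a : (Module.End K V)ˣ) : Module.End K V) ^ (i : ℕ))))
    (h : a + c < n → Sit p Q X W (a + c) ∧ formE p q n Q X W (a + c)) : formE p q n Q X U a := by
  by_cases hlt : a + c < n
  · rcases (h hlt).2 with hF | ⟨hna, n₀, m, h1, h2, h3, h4, h5⟩
    · left
      exact himpF p n Q X hpow W U a c hWU hW hac hind (fun hl => ⟨(h hl).1, hF⟩)
    · right
      refine ⟨hna, n₀, m, h1, by omega, h3, h4, ?_⟩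
      have e : p ^ (n - a - n₀) * (p ^ n₀ - 1) = p ^ c * (p ^ (n - (a + c) - n₀) * (p ^ n₀ - 1)) := by
        rw [← mul_assoc, ← pow_add]; congr 2; omega
      rw [e]
      exact aux p n Q X hpow W U a c hWU hac hind (fun hl => (h hl).1) _ h5
  · left
    exact himpF p n Q X hpow W U a c hWU hW hac hind (fun hl => absurd hl hlt)

end Cfsg.Agent.Lib.H92HHForms
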