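import Mathlib
import Cfsg.Agent.Lib.Helper92HHDefs

set_option autoImplicit false

namespace Cfsg.Agent.Lib.H92HHInit

open Polynomial Cfsg.Agent.Lib.Helper92HHDefs

variable {K V : Type*} [Field K] [AddCommGroup V] [Module K V]

/-- PIECE Init.  `U = ker (∑_{u ∈ Q} u)` is invariant under `Q` and `X` (reindexing), `C_U(Q) = 0` (`|Q| v = 0`, `|Q|` a power of `q`), and `U ≠ 0`: otherwise `S = ∑ u` is injective;
`S (g v - v) = 0` for all `g, v`, so `g v = v`, `Q = 1`, against `ne`. -/
theorem exists_sit (p q n : ℕ) [Fact q.Prime] (hq : (q : K) ≠ 0) (Q : Subgroup (Module.End K V)ˣ)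
    (X : (Module.End K V)ˣ) (hM : MinData p q n Q X) : ∃ U : Submodule K V, Sit p Q X U 0 := by
  classical
  haveI := hM.fin
  letI : Fintype ↥Q := Fintype.ofFinite _
  set S : Module.End K V := ∑ g : ↥Q, ((g : (Module.End K V)ˣ) : Module.End K V) with hS
  have hSv : ∀ v, S v = ∑ g : ↥Q, ((g : (Module.End K V)ˣ) : Module.End K V) v := by
    intro v
    rw [hS, LinearMap.sum_apply]
  -- `S ∘ g = S`
  have hSg : ∀ g ∈ Q, ∀ v, S ((g : Module.End K V) v) = S v := by
    intro g hg v
    rw [hSv, hSv]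
    refine Fintype.sum_equiv (Equiv.mulRight (⟨g, hg⟩ : ↥Q)) _ _ (fun h => ?_)
    simp [Module.End.mul_apply]
  -- conjugation by `X`
  have hbij : Function.Bijective (fun h : ↥Q => (⟨X * h * X⁻¹, hM.norm h h.2⟩ : ↥Q)) := by
    apply Finite.injective_iff_bijective.1
    intro a b hab
    have := congrArg Subtype.val hab
    simp only at this
    apply Subtype.ext
    simpa using this
  have hSX : ∀ v, S ((X : Module.End K V) v) = (X : Module.End K V) (S v) := by
    intro v
    rw [hSv, hSv, map_sum]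
    symm
    refine Fintype.sum_equiv (Equiv.ofBijective _ hbij) _ _ (fun h => ?_)
    simp only [Equiv.ofBijective_apply, Units.val_mul, Module.End.mul_apply]
    congr 2
    rw [← Module.End.mul_apply, Units.inv_mul, Module.End.one_apply]
  refine ⟨LinearMap.ker S, ?_, ?_, ?_, ?_⟩
  · intro hbot
    have hinj : Function.Injective S := LinearMap.ker_eq_bot.1 hbot
    obtain ⟨u, hu, hnc⟩ := hM.ne
    apply hnc
    have : u = 1 := by
      apply Units.ext
      ext v
      exact hinj (hSg u hu v)
    rw [this]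
    exact Commute.one_right _
  · intro g hg u hu
    rw [LinearMap.mem_ker] at hu ⊢
    rw [hSg g hg, hu]
  · intro u hu
    rw [LinearMap.mem_ker] at hu ⊢
    rw [pow_zero, pow_one, hSX, hu, map_zero]
  · intro v hv hfix
    rw [LinearMap.mem_ker, hSv] at hv
    have h1 : ∑ g : ↥Q, ((g : (Module.End K V)ˣ) : Module.End K V) v = (Fintype.card ↥Q : K) • v := by
      rw [Finset.sum_congr rfl (fun g _ => hfix g.1 g.2), Finset.sum_const, Finset.card_univ,
        Nat.cast_smul_eq_nsmul]
    rw [h1] at hv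
    obtain ⟨s, hs⟩ := (IsPGroup.iff_card (p := q) (G := ↥Q)).1 hM.pgrp
    rw [Nat.card_eq_fintype_card] at hs
    rw [hs, Nat.cast_pow] at hv
    exact (smul_eq_zero.1 hv).resolve_left (pow_ne_zero _ hq)

end Cfsg.Agent.Lib.H92HHInit
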