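import Mathlib
import Cfsg.Agent.Lib.Helper92HHDefs

set_option autoImplicit false

namespace Cfsg.Agent.Lib.H92HHWeight

open Polynomial Cfsg.Agent.Lib.Helper92HHDefs

variable {K V : Type*} [Field K] [AddCommGroup V] [Module K V]

theorem exists_common_aux [IsAlgClosed K] [FiniteDimensional K V] (S : Set (Module.End K V))
    (d : ℕ) : ∀ (U : Submodule K V), Module.finrank K U ≤ d → U ≠ ⊥ →
    (∀ s ∈ S, ∀ u ∈ U, s u ∈ U) → (∀ s ∈ S, ∀ s' ∈ S, ∀ u ∈ U, s (s' u) = s' (s u)) →
    ∃ v : V, v ∈ U ∧ v ≠ 0 ∧ ∀ s ∈ S, ∃ c : K, s v = c • v := by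
  induction d with
  | zero =>
    intro U hd hU _ _
    exfalso
    apply hU
    exact Submodule.finrank_eq_zero.mp (Nat.le_zero.mp hd)
  | succ d ih =>
    intro U hd hU hinv hcomm
    by_cases hsc : ∀ s ∈ S, ∃ c : K, ∀ u ∈ U, s u = c • u
    · obtain ⟨v, hvU, hv0⟩ := Submodule.exists_mem_ne_zero_of_ne_bot hU
      refine ⟨v, hvU, hv0, ?_⟩
      intro s hs
      obtain ⟨c, hc⟩ := hsc s hs
      exact ⟨c, hc v hvU⟩
    · push Not at hsc
      obtain ⟨s₀, hs₀, hns⟩ := hsc
      have hnt : Nontrivial U := Submodule.nontrivial_iff_ne_bot.mpr hU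
      obtain ⟨μ, hμ⟩ := Module.End.exists_eigenvalue (LinearMap.restrict s₀ (hinv s₀ hs₀))
      obtain ⟨u₀, hu₀⟩ := hμ.exists_hasEigenvector
      have hu₀1 : s₀ (u₀ : V) = μ • (u₀ : V) := by
        have := hu₀.apply_eq_smul
        have h2 := congrArg (Subtype.val) this
        simpa using h2
      have hu₀0 : (u₀ : V) ≠ 0 := by
        intro h
        exact hu₀.2 (Subtype.ext h)
      set U' : Submodule K V := U ⊓ LinearMap.ker (s₀ - μ • (1 : Module.End K V)) with hU'
      have hmem : ∀ x, x ∈ U' ↔ x ∈ U ∧ s₀ x = μ • x := by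
        intro x
        simp [hU', Submodule.mem_inf, sub_eq_zero]
      have hU'0 : U' ≠ ⊥ := by
        intro h
        apply hu₀0
        have : (u₀ : V) ∈ U' := (hmem _).mpr ⟨u₀.2, hu₀1⟩
        rw [h] at this
        exact (Submodule.mem_bot K).mp this
      have hlt : U' < U := by
        refine lt_of_le_of_ne inf_le_left ?_
        intro h
        obtain ⟨u, hu, hne⟩ := hns μ
        apply hne
        have : u ∈ U' := by rw [h]; exact hu
        exact ((hmem u).mp this).2
      have hfr : Module.finrank K U' ≤ d := by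
        have := Submodule.finrank_lt_finrank_of_lt hlt
        omega
      obtain ⟨v, hv, hv0, hvs⟩ := ih U' hfr hU'0
        (by
          intro s hs u hu
          obtain ⟨huU, hus⟩ := (hmem u).mp hu
          refine (hmem _).mpr ⟨hinv s hs u huU, ?_⟩
          rw [hcomm s₀ hs₀ s hs u huU, hus, map_smul])
        (by
          intro s hs s' hs' u hu
          exact hcomm s hs s' hs' u ((hmem u).mp hu).1)
      exact ⟨v, ((hmem v).mp hv).1, hv0, hvs⟩

/-- PIECE Weight (pure Mathlib), part 1: a set of operators preserving `U ≠ 0` and commuting on `U` has a common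
eigenvector in `U`.  (Induction on `dim U`: if some `s ∈ S` is not scalar on `U`, pass to an eigenspace of `s|U`.) -/
theorem exists_weight [IsAlgClosed K] [FiniteDimensional K V] (S : Set (Module.End K V))
    (U : Submodule K V) (hU : U ≠ ⊥) (hinv : ∀ s ∈ S, ∀ u ∈ U, s u ∈ U)
    (hcomm : ∀ s ∈ S, ∀ s' ∈ S, ∀ u ∈ U, s (s' u) = s' (s u)) :
    ∃ (l : Module.End K V → K) (v : V), v ∈ U ∧ v ≠ 0 ∧ ∀ s ∈ S, s v = l s • v := by
  classical
  obtain ⟨v, hvU, hv0, hvs⟩ := exists_common_aux S _ U le_rfl hU hinv hcomm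
  refine ⟨fun s => if h : ∃ c : K, s v = c • v then h.choose else 0, v, hvU, hv0, ?_⟩
  intro s hs
  have h := hvs s hs
  simp only [dif_pos h]
  exact h.choose_spec

/-- part 2: joint eigenspaces for pairwise distinct weights are independent (no commutation needed: shortest
relation argument). -/
theorem wt_indep {ι : Type*} (S : Set (Module.End K V)) (l : ι → Module.End K V → K)
    (hne : ∀ i j, i ≠ j → ∃ s ∈ S, l i s ≠ l j s) : iSupIndep (fun i => wt S (l i)) := by
  classical
  rw [iSupIndep_iff_finsetSum_eq_zero_imp_eq_zero]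
  intro t
  induction t using Finset.induction_on with
  | empty =>
    intro v _ _ i hi
    simp at hi
  | insert j t hj ih =>
    intro v hv hsum
    rw [Finset.sum_insert hj] at hsum
    have hvj : v j ∈ wt S (l j) := hv j (Finset.mem_insert_self j t)
    have hvt : ∀ i ∈ t, v i ∈ wt S (l i) := fun i hi => hv i (Finset.mem_insert_of_mem hi)
    have hzero : ∀ i ∈ t, v i = 0 := by
      intro i hi
      have hij : i ≠ j := by
        rintro rfl
        exact hj hi
      obtain ⟨s, hs, hls⟩ := hne i j hij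
      have h1 : ∑ k ∈ t, (l k s - l j s) • v k = 0 := by
        have h2 := congrArg s hsum
        rw [map_add, map_sum, map_zero, mem_wt.mp hvj s hs] at h2
        have h3 : ∑ k ∈ t, s (v k) = ∑ k ∈ t, l k s • v k :=
          Finset.sum_congr rfl (fun k hk => mem_wt.mp (hvt k hk) s hs)
        rw [h3] at h2
        have h4 : l j s • (v j + ∑ k ∈ t, v k) = 0 := by rw [hsum, smul_zero]
        rw [smul_add, Finset.smul_sum] at h4
        have h5 : ∑ k ∈ t, (l k s - l j s) • v k
            = (l j s • v j + ∑ k ∈ t, l k s • v k) - (l j s • v j + ∑ k ∈ t, l j s • v k) := by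
          simp only [sub_smul, Finset.sum_sub_distrib]
          abel
        rw [h5, h2, h4, sub_zero]
      have h6 := ih (fun k => (l k s - l j s) • v k)
        (fun k hk => Submodule.smul_mem _ _ (hvt k hk)) h1 i hi
      rcases smul_eq_zero.mp h6 with h | h
      · exact absurd (sub_eq_zero.mp h) hls
      · exact h
    intro i hi
    rcases Finset.mem_insert.mp hi with rfl | hi'
    · rw [Finset.sum_eq_zero hzero, add_zero] at hsum
      exact hsum
    · exact hzero i hi'

end Cfsg.Agent.Lib.H92HHWeight
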