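import Mathlib
import Cfsg.Agent.Lib.Helper92HHDefs
import Cfsg.Agent.Lib.H92HHWeight

set_option autoImplicit false

namespace Cfsg.Agent.Lib.H92HHStep

open Polynomial Cfsg.Agent.Lib.Helper92HHDefs

variable {K V : Type*} [Field K] [AddCommGroup V] [Module K V]

/-- `b` is central on `U` (with respect to `Q`). -/
def Cen (Q : Subgroup (Module.End K V)ˣ) (U : Submodule K V) (b : (Module.End K V)ˣ) : Prop :=
  ∀ g ∈ Q, ∀ u ∈ U, (b : Module.End K V) ((g : Module.End K V) u)
      = (g : Module.End K V) ((b : Module.End K V) u)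

/-- the operators of the elements of `Q` central on `U`. -/
def SB (Q : Subgroup (Module.End K V)ˣ) (U : Submodule K V) : Set (Module.End K V) :=
  {s | ∃ b ∈ Q, Cen Q U b ∧ (b : Module.End K V) = s}

theorem unit_apply_inv (Y : (Module.End K V)ˣ) (x : V) :
    (Y : Module.End K V) (((Y⁻¹ : (Module.End K V)ˣ) : Module.End K V) x) = x := by
  rw [← Module.End.mul_apply, ← Units.val_mul, mul_inv_cancel]
  rfl

theorem unit_inv_apply (Y : (Module.End K V)ˣ) (x : V) :
    ((Y⁻¹ : (Module.End K V)ˣ) : Module.End K V) ((Y : Module.End K V) x) = x := by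
  rw [← Module.End.mul_apply, ← Units.val_mul, inv_mul_cancel]
  rfl

/-- conjugation preserves centrality on `U`. -/
theorem cen_conj (Q : Subgroup (Module.End K V)ˣ) (U : Submodule K V) (Y : (Module.End K V)ˣ)
    (hYQ' : ∀ u ∈ Q, Y⁻¹ * u * Y ∈ Q)
    (hYU' : ∀ u ∈ U, ((Y⁻¹ : (Module.End K V)ˣ) : Module.End K V) u ∈ U)
    (b : (Module.End K V)ˣ) (hb : Cen Q U b) : Cen Q U (Y * b * Y⁻¹) := by
  intro g hg u hu
  have h1 := hb (Y⁻¹ * g * Y) (hYQ' g hg) _ (hYU' u hu)
  simp only [Units.val_mul, Module.End.mul_apply] at h1 ⊢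
  rw [unit_apply_inv] at h1
  rw [h1, unit_apply_inv]

theorem SB_conj (Q : Subgroup (Module.End K V)ˣ) (U : Submodule K V) (Y : (Module.End K V)ˣ)
    (hYQ : ∀ u ∈ Q, Y * u * Y⁻¹ ∈ Q) (hYQ' : ∀ u ∈ Q, Y⁻¹ * u * Y ∈ Q)
    (hYU' : ∀ u ∈ U, ((Y⁻¹ : (Module.End K V)ˣ) : Module.End K V) u ∈ U)
    (s : Module.End K V) (hs : s ∈ SB Q U) :
    (Y : Module.End K V) * s * ((Y⁻¹ : (Module.End K V)ˣ) : Module.End K V) ∈ SB Q U := by
  obtain ⟨b, hbQ, hb, rfl⟩ := hs
  exact ⟨Y * b * Y⁻¹, hYQ b hbQ, cen_conj Q U Y hYQ' hYU' b hb, by simp only [Units.val_mul]⟩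

/-- the translated weight. -/
def lk (l : Module.End K V → K) (Y : (Module.End K V)ˣ) : Module.End K V → K :=
  fun s => l (((Y⁻¹ : (Module.End K V)ˣ) : Module.End K V) * s * (Y : Module.End K V))

/-- the translate of a weight space is a weight space. -/
theorem map_wt (Q : Subgroup (Module.End K V)ˣ) (U : Submodule K V) (Y : (Module.End K V)ˣ)
    (hYQ : ∀ u ∈ Q, Y * u * Y⁻¹ ∈ Q) (hYQ' : ∀ u ∈ Q, Y⁻¹ * u * Y ∈ Q)
    (hYU : ∀ u ∈ U, (Y : Module.End K V) u ∈ U)
    (hYU' : ∀ u ∈ U, ((Y⁻¹ : (Module.End K V)ˣ) : Module.End K V) u ∈ U)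
    (l : Module.End K V → K) :
    (U ⊓ wt (SB Q U) l).map (Y : Module.End K V) = U ⊓ wt (SB Q U) (lk l Y) := by
  ext y
  simp only [Submodule.mem_map, Submodule.mem_inf, mem_wt]
  constructor
  · rintro ⟨w, ⟨hwU, hw⟩, rfl⟩
    refine ⟨hYU w hwU, ?_⟩
    intro s hs
    have hs' : ((Y⁻¹ : (Module.End K V)ˣ) : Module.End K V) * s * (Y : Module.End K V) ∈ SB Q U := by
      have := SB_conj Q U Y⁻¹ (by simpa using hYQ') (by simpa using hYQ) (by simpa using hYU) s hs
      simpa using this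
    have h1 := hw _ hs'
    simp only [Module.End.mul_apply] at h1
    have h2 := congrArg (Y : Module.End K V) h1
    rw [unit_apply_inv, map_smul] at h2
    exact h2
  · rintro ⟨hyU, hy⟩
    refine ⟨((Y⁻¹ : (Module.End K V)ˣ) : Module.End K V) y, ⟨hYU' y hyU, ?_⟩, unit_apply_inv Y y⟩
    intro s hs
    have hs' := SB_conj Q U Y hYQ hYQ' hYU' s hs
    have h1 := hy _ hs'
    have h3 : lk l Y ((Y : Module.End K V) * s * ((Y⁻¹ : (Module.End K V)ˣ) : Module.End K V))
        = l s := by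
      unfold lk
      congr 1
      have e1 : ((Y⁻¹ : (Module.End K V)ˣ) : Module.End K V) * (Y : Module.End K V) = 1 := by
        rw [← Units.val_mul, inv_mul_cancel]; rfl
      calc ((Y⁻¹ : (Module.End K V)ˣ) : Module.End K V) *
            ((Y : Module.End K V) * s * ((Y⁻¹ : (Module.End K V)ˣ) : Module.End K V)) *
            (Y : Module.End K V)
          = (((Y⁻¹ : (Module.End K V)ˣ) : Module.End K V) * (Y : Module.End K V)) * s *
            (((Y⁻¹ : (Module.End K V)ˣ) : Module.End K V) * (Y : Module.End K V)) := by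
              simp only [mul_assoc]
        _ = s := by rw [e1, one_mul, mul_one]
    rw [h3] at h1
    simp only [Module.End.mul_apply] at h1
    have h2 := congrArg ((Y⁻¹ : (Module.End K V)ˣ) : Module.End K V) h1
    rw [unit_inv_apply, map_smul] at h2
    exact h2

/-- the stabiliser in `ℕ` of a subspace under an operator of `p`-power order. -/
theorem exists_stab (p : ℕ) [Fact p.Prime] (T : Module.End K V) (hT : Function.Injective T)
    (N : ℕ) (hTN : T ^ p ^ N = 1) (W : Submodule K V) :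
    ∃ c, c ≤ N ∧ W.map (T ^ p ^ c) = W ∧
      ∀ i j : ℕ, i < p ^ c → j < p ^ c → W.map (T ^ i) = W.map (T ^ j) → i = j := by
  classical
  have hinj : ∀ k : ℕ, Function.Injective (T ^ k) := by
    intro k
    induction k with
    | zero =>
      rw [pow_zero]
      exact Function.injective_id
    | succ k ih =>
      rw [pow_succ]
      exact ih.comp hT
  have hmapadd : ∀ i k : ℕ, W.map (T ^ (i + k)) = (W.map (T ^ k)).map (T ^ i) := by
    intro i k
    rw [pow_add, Module.End.mul_eq_comp, Submodule.map_comp]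
  have hsub : ∀ i j : ℕ, i ≤ j → W.map (T ^ i) = W.map (T ^ j) → W.map (T ^ (j - i)) = W := by
    intro i j hij h
    have h1 : W.map (T ^ j) = (W.map (T ^ (j - i))).map (T ^ i) := by
      rw [← hmapadd, Nat.add_sub_cancel' hij]
    rw [h1] at h
    exact (Submodule.map_injective_of_injective (hinj i) h).symm
  have hex : ∃ k, 0 < k ∧ W.map (T ^ k) = W :=
    ⟨p ^ N, pow_pos (Fact.out : p.Prime).pos N, by rw [hTN]; exact Submodule.map_id W⟩
  set d := Nat.find hex with hd
  have hd0 : 0 < d := (Nat.find_spec hex).1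
  have hdW : W.map (T ^ d) = W := (Nat.find_spec hex).2
  have hmin : ∀ k, 0 < k → k < d → W.map (T ^ k) ≠ W := by
    intro k hk hkd h
    exact Nat.find_min hex hkd ⟨hk, h⟩
  have hmul : ∀ m : ℕ, W.map (T ^ (d * m)) = W := by
    intro m
    induction m with
    | zero =>
      rw [Nat.mul_zero, pow_zero]
      exact Submodule.map_id W
    | succ m ih =>
      rw [Nat.mul_succ, add_comm, hmapadd, ih, hdW]
  have hdvd : d ∣ p ^ N := by
    rw [Nat.dvd_iff_mod_eq_zero]
    by_contra hr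
    have hr0 : 0 < p ^ N % d := Nat.pos_of_ne_zero hr
    have hlt : p ^ N % d < d := Nat.mod_lt _ hd0
    apply hmin _ hr0 hlt
    have h1 : W.map (T ^ (d * (p ^ N / d))) = W.map (T ^ p ^ N) := by
      rw [hmul, hTN]; exact (Submodule.map_id W).symm
    have h2 := hsub _ _ (Nat.mul_div_le _ _) h1
    have h3 : p ^ N - d * (p ^ N / d) = p ^ N % d := by
      have := Nat.div_add_mod (p ^ N) d
      omega
    rwa [h3] at h2
  obtain ⟨c, hc, hdc⟩ := (Nat.dvd_prime_pow (Fact.out : p.Prime)).mp hdvd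
  refine ⟨c, hc, by rw [← hdc]; exact hdW, ?_⟩
  intro i j hi hj hij
  rw [← hdc] at hi hj
  by_contra hne
  rcases Nat.lt_or_gt_of_ne hne with h | h
  · exact hmin (j - i) (by omega) (by omega) (hsub i j h.le hij)
  · exact hmin (i - j) (by omega) (by omega) (hsub j i h.le hij.symm)

/-- PIECE Step.  A non-critical situation `(U, a)` can be reduced to a strictly smaller `W`. -/
theorem step [IsAlgClosed K] [FiniteDimensional K V] (p : ℕ) [Fact p.Prime] (n : ℕ)
    (Q : Subgroup (Module.End K V)ˣ) (X : (Module.End K V)ˣ) (hnorm : ∀ u ∈ Q, X * u * X⁻¹ ∈ Q)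
    (hpow : X ^ p ^ n = 1) (U : Submodule K V) (a : ℕ) (ha : a < n) (hS : Sit p Q X U a)
    (hnc : ¬ CritSit p Q X U a) :
    ∃ (W : Submodule K V) (c : ℕ), W ≤ U ∧ W ≠ U ∧ W ≠ ⊥ ∧ a + c ≤ n ∧
      iSupIndep (fun i : Fin (p ^ c) =>
        W.map (((X ^ p ^ a : (Module.End K V)ˣ) : Module.End K V) ^ (i : ℕ))) ∧
      (a + c < n → Sit p Q X W (a + c)) := by
  classical
  obtain ⟨hU0, hQU, hXU, hfix⟩ := id hS
  set Xa : (Module.End K V)ˣ := X ^ p ^ a with hXa
  -- the two cases
  have hcases : (∃ b ∈ Q, Cen Q U b ∧ ¬ IsScOn (b : Module.End K V) U) ∨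
      (∃ W : Submodule K V, W ≤ U ∧ (∀ g ∈ Q, ∀ w ∈ W, (g : Module.End K V) w ∈ W) ∧
        (∀ w ∈ W, (Xa : Module.End K V) w ∈ W) ∧ W ≠ ⊥ ∧ W ≠ U) := by
    by_contra hcon
    push Not at hcon
    apply hnc
    refine ⟨hS, ?_, ?_⟩
    · intro b hb hcen
      exact hcon.1 b hb hcen
    · intro W hWU hWQ hWX
      by_contra h
      push Not at h
      exact h.2 (hcon.2 W hWU hWQ hWX h.1)
  rcases hcases with ⟨b, hbQ, hbcen, hbsc⟩ | ⟨W, hWU, hWQ, hWX, hW0, hWne⟩
  · -- Case 1
    have hXk : ∀ k : ℕ, ∀ u ∈ Q, X ^ k * u * (X ^ k)⁻¹ ∈ Q := by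
      intro k
      induction k with
      | zero => intro u hu; simpa using hu
      | succ k ih =>
        intro u hu
        have := hnorm _ (ih u hu)
        have e : X ^ (k + 1) * u * (X ^ (k + 1))⁻¹ = X * (X ^ k * u * (X ^ k)⁻¹) * X⁻¹ := by
          rw [pow_succ']
          group
        rw [e]; exact this
    have hQ1 : ∀ k : ℕ, ∀ u ∈ Q, Xa ^ k * u * (Xa ^ k)⁻¹ ∈ Q := by
      intro k u hu
      rw [hXa, ← pow_mul]
      exact hXk _ u hu
    have hU1 : ∀ k : ℕ, ∀ u ∈ U, ((Xa ^ k : (Module.End K V)ˣ) : Module.End K V) u ∈ U := by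
      intro k
      induction k with
      | zero => intro u hu; simpa using hu
      | succ k ih =>
        intro u hu
        rw [pow_succ, Units.val_mul, Module.End.mul_apply]
        exact ih _ (hXU u hu)
    have hXapow : Xa ^ p ^ n = 1 := by
      rw [hXa, ← pow_mul, mul_comm, pow_mul, hpow, one_pow]
    have hinvpow : ∀ k : ℕ, (Xa ^ k)⁻¹ = Xa ^ (k * (p ^ n - 1)) := by
      intro k
      rw [inv_eq_iff_mul_eq_one, ← pow_add]
      have hp1 : 1 ≤ p ^ n := Nat.one_le_pow _ _ (Fact.out : p.Prime).pos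
      have : k + k * (p ^ n - 1) = p ^ n * k := by
        obtain ⟨m, hm⟩ : ∃ m, p ^ n = m + 1 := ⟨p ^ n - 1, by omega⟩
        rw [hm]
        simp only [Nat.add_sub_cancel]
        ring
      rw [this, pow_mul, hXapow, one_pow]
    have hQ2 : ∀ k : ℕ, ∀ u ∈ Q, (Xa ^ k)⁻¹ * u * Xa ^ k ∈ Q := by
      intro k u hu
      have := hQ1 (k * (p ^ n - 1)) u hu
      rwa [← hinvpow, inv_inv] at this
    have hU2 : ∀ k : ℕ, ∀ u ∈ U,
        (((Xa ^ k)⁻¹ : (Module.End K V)ˣ) : Module.End K V) u ∈ U := by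
      intro k u hu
      rw [hinvpow]
      exact hU1 _ u hu
    -- a weight
    obtain ⟨l, v, hvU, hv0, hv⟩ := H92HHWeight.exists_weight (SB Q U) U hU0
      (by
        rintro s ⟨b', hb'Q, _, rfl⟩ u hu
        exact hQU b' hb'Q u hu)
      (by
        rintro s ⟨b', hb'Q, hb', rfl⟩ s' ⟨b'', hb''Q, _, rfl⟩ u hu
        exact hb' b'' hb''Q u hu)
    set W : Submodule K V := U ⊓ wt (SB Q U) l with hW
    have hWU : W ≤ U := inf_le_left
    have hW0 : W ≠ ⊥ := by
      intro h
      apply hv0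
      have : v ∈ W := ⟨hvU, mem_wt.mpr hv⟩
      rw [h] at this
      exact (Submodule.mem_bot K).mp this
    have hWne : W ≠ U := by
      intro h
      apply hbsc
      refine ⟨l (b : Module.End K V), ?_⟩
      intro u hu
      have hu' : u ∈ W := by rw [h]; exact hu
      exact mem_wt.mp hu'.2 _ ⟨b, hbQ, hbcen, rfl⟩
    have hWQ : ∀ g ∈ Q, ∀ w ∈ W, (g : Module.End K V) w ∈ W := by
      intro g hg w hw
      refine ⟨hQU g hg w hw.1, mem_wt.mpr ?_⟩
      rintro s ⟨b', hb'Q, hb', rfl⟩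
      rw [hb' g hg w hw.1, mem_wt.mp hw.2 _ ⟨b', hb'Q, hb', rfl⟩, map_smul]
    have hTinj : Function.Injective (Xa : Module.End K V) := by
      intro x y hxy
      have := congrArg ((Xa⁻¹ : (Module.End K V)ˣ) : Module.End K V) hxy
      rwa [unit_inv_apply, unit_inv_apply] at this
    have hTN : (Xa : Module.End K V) ^ p ^ (n - a) = 1 := by
      rw [← Units.val_pow_eq_pow_val, hXa, ← pow_mul, ← pow_add, Nat.add_sub_cancel' ha.le, hpow]
      rfl
    obtain ⟨c, hc, hcW, hcinj⟩ := exists_stab p (Xa : Module.End K V) hTinj (n - a) hTN W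
    have hmap : ∀ k : ℕ, W.map ((Xa : Module.End K V) ^ k) = U ⊓ wt (SB Q U) (lk l (Xa ^ k)) := by
      intro k
      rw [← Units.val_pow_eq_pow_val]
      exact map_wt Q U (Xa ^ k) (hQ1 k) (hQ2 k) (hU1 k) (hU2 k) l
    refine ⟨W, c, hWU, hWne, hW0, by omega, ?_, ?_⟩
    · have hind := H92HHWeight.wt_indep (SB Q U)
        (fun i : Fin (p ^ c) => lk l (Xa ^ (i : ℕ))) (by
          intro i j hij
          by_contra hcon
          push Not at hcon
          apply hij
          apply Fin.ext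
          apply hcinj _ _ i.2 j.2
          rw [hmap, hmap]
          congr 1
          ext y
          simp only [mem_wt]
          constructor
          · intro h s hs
            rw [h s hs, hcon s hs]
          · intro h s hs
            rw [h s hs, hcon s hs])
      refine hind.mono ?_
      intro i
      show W.map ((Xa : Module.End K V) ^ (i : ℕ)) ≤ _
      rw [hmap]
      exact inf_le_right
    · intro _
      refine ⟨hW0, hWQ, ?_, ?_⟩
      · intro w hw
        have e : ((X ^ p ^ (a + c) : (Module.End K V)ˣ) : Module.End K V)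
            = (Xa : Module.End K V) ^ p ^ c := by
          rw [← Units.val_pow_eq_pow_val, hXa, ← pow_mul, ← pow_add]
        rw [e]
        have : ((Xa : Module.End K V) ^ p ^ c) w ∈ W.map ((Xa : Module.End K V) ^ p ^ c) :=
          Submodule.mem_map_of_mem hw
        rwa [hcW] at this
      · intro w hw h
        exact hfix w (hWU hw) h
  · -- Case 2
    refine ⟨W, 0, hWU, hWne, hW0, by omega, ?_, ?_⟩
    · intro i
      have : (⨆ (j : Fin (p ^ 0)) (_ : j ≠ i),
          W.map (((X ^ p ^ a : (Module.End K V)ˣ) : Module.End K V) ^ (j : ℕ))) = ⊥ := by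
        rw [iSup_eq_bot]
        intro j
        rw [iSup_eq_bot]
        intro hj
        exfalso
        apply hj
        have hi := i.2
        have hj' := j.2
        simp only [pow_zero] at hi hj'
        apply Fin.ext
        omega
      rw [this]
      exact disjoint_bot_right
    · intro _
      refine ⟨hW0, hWQ, ?_, ?_⟩
      · intro w hw
        exact hWX w hw
      · intro w hw h
        exact hfix w (hWU hw) h

end Cfsg.Agent.Lib.H92HHStep
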