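import Mathlib
import Cfsg.Agent.Lib.Helper92HHDefs
import Cfsg.Agent.Lib.H92HHStep

set_option autoImplicit false

namespace Cfsg.Agent.Lib.H92HHRec

open Polynomial Cfsg.Agent.Lib.Helper92HHDefs

variable {K V : Type*} [Field K] [AddCommGroup V] [Module K V]

/-- PIECE Rec.  Generic recursion (strong induction on `finrank U`, using `Step.step`). -/
theorem rec_main [IsAlgClosed K] [FiniteDimensional K V] (p : ℕ) [Fact p.Prime] (n : ℕ)
    (Q : Subgroup (Module.End K V)ˣ) (X : (Module.End K V)ˣ) (hnorm : ∀ u ∈ Q, X * u * X⁻¹ ∈ Q)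
    (hpow : X ^ p ^ n = 1) (C : Submodule K V → ℕ → Prop)
    (himp : ∀ (W U : Submodule K V) (a c : ℕ), W ≤ U → W ≠ ⊥ → a + c ≤ n →
      iSupIndep (fun i : Fin (p ^ c) =>
        W.map (((X ^ p ^ a : (Module.End K V)ˣ) : Module.End K V) ^ (i : ℕ))) →
      (a + c < n → Sit p Q X W (a + c) ∧ C W (a + c)) → C U a)
    (hcrit : ∀ (U : Submodule K V) (a : ℕ), a < n → CritSit p Q X U a → C U a) :
    ∀ (U : Submodule K V) (a : ℕ), a < n → Sit p Q X U a → C U a := by
  have key : ∀ (d : ℕ) (U : Submodule K V), Module.finrank K U = d →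
      ∀ a : ℕ, a < n → Sit p Q X U a → C U a := by
    intro d
    induction d using Nat.strong_induction_on with
    | _ d ih =>
      intro U hd a ha hS
      by_cases hc : CritSit p Q X U a
      · exact hcrit U a ha hc
      · obtain ⟨W, c, hWU, hne, hW0, hac, hind, hsit⟩ :=
          Cfsg.Agent.Lib.H92HHStep.step p n Q X hnorm hpow U a ha hS hc
        apply himp W U a c hWU hW0 hac hind
        intro hlt
        refine ⟨hsit hlt, ?_⟩
        have hlt' : Module.finrank K W < Module.finrank K U :=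
          Submodule.finrank_lt_finrank_of_lt (lt_of_le_of_ne hWU hne)
        exact ih _ (hd ▸ hlt') W rfl (a + c) hlt (hsit hlt)
  intro U a ha hS
  exact key _ U rfl a ha hS

end Cfsg.Agent.Lib.H92HHRec
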