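import Mathlib
import Cfsg.Agent.Lib.Helper92HHDefs
import Cfsg.Agent.Lib.H92HHRec
import Cfsg.Agent.Lib.H92HHForms
import Cfsg.Agent.Lib.H92HHCritOn
import Cfsg.Agent.Lib.H92HHExcU
import Cfsg.Agent.Lib.H92HHExcN
import Cfsg.Agent.Lib.H92HHMinQ
import Cfsg.Agent.Lib.H92HHInit
import Cfsg.Agent.Lib.H92HHImprim

set_option autoImplicit false

namespace Cfsg.Agent.Lib.H92HHKey

open Polynomial Cfsg.Agent.Lib.Helper92HHDefs

variable {K V : Type*} [Field K] [AddCommGroup V] [Module K V]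

/-- PIECE Key (assembly): the unified Hall-Higman-Shult theorem, valid in every characteristic `≠ q`.
`MinQ.exists_min` gives `Q₁`; `Init.exists_sit` gives `U`; `Rec.rec_main` with `C = formE p q n Q₁ X` (`Forms.himpE`; `hcrit` from `CritOn.crit_on`: in the second alternative
`d = p^(n-a) - 1 ≥ 2` divides `|Q₁|`, a power of `q`, so `d = q^m` with `m ≥ 1`; take `n₀ = n - a`).  Finally `a = 0`, `X^(p^0) = X`, `Imprim.mono` to `⊤`. -/
theorem key [IsAlgClosed K] [FiniteDimensional K V] (p q n : ℕ) [Fact p.Prime] [Fact q.Prime]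
    (hpq : p ≠ q) (hq : (q : K) ≠ 0) (Q : Subgroup (Module.End K V)ˣ) [Finite Q]
    (hQ : IsPGroup q Q) (X : (Module.End K V)ˣ) (hn : ∀ u ∈ Q, X * u * X⁻¹ ∈ Q)
    (hpow : X ^ p ^ n = 1) (hn1 : 1 ≤ n) (hne : ∃ u ∈ Q, ¬ Commute (X ^ p ^ (n - 1)) u) :
    minDegOn (X : Module.End K V) ⊤ (p ^ n) ∨ ((∃ u ∈ Q, ∃ v ∈ Q, ¬ Commute u v) ∧
      ∃ n₀ m : ℕ, 1 ≤ n₀ ∧ n₀ ≤ n ∧ 1 ≤ m ∧ p ^ n₀ - 1 = q ^ m ∧
        minDegOn (X : Module.End K V) ⊤ (p ^ (n - n₀) * (p ^ n₀ - 1))) := by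
  obtain ⟨Q₁, hQ₁Q, hM⟩ := H92HHMinQ.exists_min p q n hpq Q hQ X hn hpow hn1 hne
  obtain ⟨U, hU⟩ := H92HHInit.exists_sit p q n hq Q₁ X hM
  have hmain := H92HHRec.rec_main p n Q₁ X hM.norm hpow (formE p q n Q₁ X)
    (fun W U a c hWU hW hac hind h => H92HHForms.himpE p q n Q₁ X hpow W U a c hWU hW hac hind h)
    (fun U a ha hC => by
      rcases H92HHCritOn.crit_on p q n hpq hq Q₁ X hM U a ha hC with
        h | ⟨hd, h2, hmin, hcard, hnc⟩
      · exact Or.inl h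
      · right
        refine ⟨hnc, ?_⟩
        have hfin := hM.fin
        obtain ⟨k, hk⟩ := (IsPGroup.iff_card).1 hM.pgrp
        have hdvd : Module.finrank K U ∣ q ^ k := by
          rw [← hk, ← hcard, sq, mul_assoc]
          exact Dvd.intro _ rfl
        obtain ⟨m, -, hm⟩ := (Nat.dvd_prime_pow (Fact.out : q.Prime)).1 hdvd
        have hm1 : 1 ≤ m := by
          rcases Nat.eq_zero_or_pos m with h0 | h0
          · rw [h0, pow_zero] at hm
            omega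
          · exact h0
        refine ⟨n - a, m, by omega, le_rfl, hm1, by rw [← hd, hm], ?_⟩
        rw [Nat.sub_self, pow_zero, one_mul]
        exact hmin)
    U 0 (by omega) hU
  have hX : ((X ^ p ^ 0 : (Module.End K V)ˣ) : Module.End K V) = (X : Module.End K V) := by
    rw [pow_zero, pow_one]
  rcases hmain with h | ⟨⟨u, hu, v, hv, huv⟩, n₀, m, h1, h2, h3, h4, h5⟩
  · left
    unfold formF at h
    rw [hX, Nat.sub_zero] at h
    exact H92HHImprim.mono le_top h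
  · right
    refine ⟨⟨u, hQ₁Q hu, v, hQ₁Q hv, huv⟩, n₀, m, h1, by omega, h3, h4, ?_⟩
    rw [hX, Nat.sub_zero] at h5
    exact H92HHImprim.mono le_top h5

/-- fixed point free version (`p` odd): no exception.  Same with `C = formF p n X`; `hcrit`: the second alternative of `CritOn.crit_on` is refuted by `ExcU.exists_u` + `ExcN.false_of_u`. -/
theorem key_fpf [IsAlgClosed K] [FiniteDimensional K V] (p q n : ℕ) [Fact p.Prime] [Fact q.Prime]
    (hp2 : p ≠ 2) (hpq : p ≠ q) (hq : (q : K) ≠ 0) (Q : Subgroup (Module.End K V)ˣ) [Finite Q]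
    (hQ : IsPGroup q Q) (X : (Module.End K V)ˣ) (hn : ∀ u ∈ Q, X * u * X⁻¹ ∈ Q)
    (hpow : X ^ p ^ n = 1) (hn1 : 1 ≤ n) (hne : ∃ u ∈ Q, ¬ Commute (X ^ p ^ (n - 1)) u)
    (hfpf : ∀ u ∈ Q, Commute X u → u = 1) : minDegOn (X : Module.End K V) ⊤ (p ^ n) := by
  obtain ⟨Q₁, hQ₁Q, hM⟩ := H92HHMinQ.exists_min p q n hpq Q hQ X hn hpow hn1 hne
  obtain ⟨U, hU⟩ := H92HHInit.exists_sit p q n hq Q₁ X hM
  have hmain := H92HHRec.rec_main p n Q₁ X hM.norm hpow (formF p n X)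
    (fun W U a c hWU hW hac hind h => H92HHForms.himpF p n Q₁ X hpow W U a c hWU hW hac hind h)
    (fun U a ha hC => by
      rcases H92HHCritOn.crit_on p q n hpq hq Q₁ X hM U a ha hC with
        h | ⟨hd, h2, hmin, hcard, hnc⟩
      · exact h
      · exfalso
        obtain ⟨u, hu, hu1, hu2⟩ := H92HHExcU.exists_u p q n hp2 hpq Q₁ X hM U a ha hC hd hcard
        exact H92HHExcN.false_of_u p q n hpq Q₁ X hM (fun u hu hc => hfpf u (hQ₁Q hu) hc) U a ha
          hC u hu hu1 hu2)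
    U 0 (by omega) hU
  have hX : ((X ^ p ^ 0 : (Module.End K V)ˣ) : Module.End K V) = (X : Module.End K V) := by
    rw [pow_zero, pow_one]
  unfold formF at hmain
  rw [hX, Nat.sub_zero] at hmain
  exact H92HHImprim.mono le_top hmain

end Cfsg.Agent.Lib.H92HHKey
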