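import Cfsg.Agent.Lib.Helper38HH
import Cfsg.Agent.Lib.Helper40Cores

set_option autoImplicit false

/-! The dual of Hall–Higman 1.2.3: a `p`-solvable group with `O_p(G) = 1` has
`C_G(O_{p'}(G)) ≤ O_{p'}(G)`. -/

namespace Cfsg.Agent.Lib.Helper55HH

open Cfsg Cfsg.Agent.Lib.Helper38HH

variable {G : Type*} [Group G]

/-- A normal subgroup `D` with a central subgroup `Z` of order prime to its index has a complement to `Z`
which is normal in `G`. -/
theorem exists_normal_complement_of_central [Finite G] {D Z : Subgroup G} (hD : D.Normal) (hZD : Z ≤ D)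
    (hcen : ∀ z ∈ Z, ∀ d ∈ D, z * d = d * z) (hcop : (Nat.card Z).Coprime (Z.relIndex D)) :
    ∃ K : Subgroup G, K.Normal ∧ K ≤ D ∧ Nat.card K = Z.relIndex D := by
  set N : Subgroup D := Z.subgroupOf D with hN
  have hNn : N.Normal := by
    constructor
    intro n hn g
    have h1 : (n : G) ∈ Z := Subgroup.mem_subgroupOf.1 hn
    have h2 : g * n * g⁻¹ = n := by
      apply Subtype.ext
      change (g : G) * n * (g : G)⁻¹ = n
      rw [← hcen _ h1 _ g.2]; group
    rw [h2]; exact hn
  have hNcard : Nat.card N = Nat.card Z :=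
    Nat.card_congr (Subgroup.subgroupOfEquivOfLe hZD).toEquiv
  have hNidx : N.index = Z.relIndex D := rfl
  obtain ⟨K, hK⟩ := Subgroup.exists_right_complement'_of_coprime (N := N)
    (by rw [hNcard, hNidx]; exact hcop)
  have hKcard : Nat.card K = Z.relIndex D := by
    have h1 := hK.card_mul_card
    have h2 := N.card_mul_index
    rw [← h2, hNidx] at h1
    exact Nat.eq_of_mul_eq_mul_left Nat.card_pos h1
  refine ⟨K.map D.subtype, ?_, Subgroup.map_subtype_le _, ?_⟩
  · constructor
    rintro _ ⟨k, hk, rfl⟩ g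
    have hkD : g * (k : G) * g⁻¹ ∈ D := hD.conj_mem _ k.2 g
    obtain ⟨⟨⟨z, hz⟩, ⟨k2, hk2⟩⟩, hzk, -⟩ := hK.existsUnique ⟨_, hkD⟩
    simp only at hzk
    have hzZ : (z : G) ∈ Z := Subgroup.mem_subgroupOf.1 hz
    have hcomm : Commute z k2 := by
      apply Subtype.ext
      exact hcen _ hzZ _ k2.2
    have hm1 : k ^ (Z.relIndex D) = 1 := by
      rw [← hKcard]; exact pow_card_of_mem hk
    have hm2 : k2 ^ (Z.relIndex D) = 1 := by
      rw [← hKcard]; exact pow_card_of_mem hk2
    have hm3 : (⟨_, hkD⟩ : D) ^ (Z.relIndex D) = 1 := by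
      apply Subtype.ext
      change (g * (k : G) * g⁻¹) ^ (Z.relIndex D) = 1
      rw [conj_pow]
      have : (k : G) ^ (Z.relIndex D) = 1 := by
        simpa only [Subgroup.coe_pow, Subgroup.coe_one] using congrArg Subtype.val hm1
      rw [this]; group
    rw [← hzk, hcomm.mul_pow, hm2, mul_one] at hm3
    have hz1 : z ^ (Nat.card Z) = 1 := by
      rw [← hNcard]; exact pow_card_of_mem hz
    have hz2 : z = 1 := eq_one_of_pow_coprime hm3 hz1 hcop.symm
    rw [hz2, one_mul] at hzk
    refine ⟨k2, hk2, ?_⟩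
    rw [hzk]; rfl
  · rw [Subgroup.card_map_of_injective D.subtype_injective, hKcard]

theorem centralizer_pPrimeCore_le [Finite G] {p : ℕ} [Fact p.Prime] (hs : IsPSolvable p G)
    (h : pCore p G = ⊥) : Subgroup.centralizer (pPrimeCore p G : Set G) ≤ pPrimeCore p G := by
  obtain ⟨n, H, h0, hn, hmono, hnorm, hfac⟩ := hs
  set Q := pPrimeCore p G with hQ
  set C := Subgroup.centralizer (Q : Set G) with hC
  have hQn : Q.Normal := Cfsg.Agent.Lib.Helper40Cores.pPrimeCore_normal
  have hCn : C.Normal := inferInstance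
  have hQc : (Nat.card Q).Coprime p := Cfsg.Agent.Lib.Helper40Cores.pPrimeCore_coprime
  have hall : ∀ k : ℕ, ∀ hk : k < n + 1, H ⟨k, hk⟩ ⊓ C ≤ Q := by
    intro k
    induction k with
    | zero =>
      intro hk
      have : H ⟨0, hk⟩ = ⊥ := h0
      rw [this]; simp
    | succ k ih =>
      intro hk
      have hk' : k < n := by omega
      have h1 : H (Fin.castSucc ⟨k, hk'⟩) ⊓ C ≤ Q := ih (by omega)
      have h2 := hfac ⟨k, hk'⟩
      have h3 : (Fin.succ ⟨k, hk'⟩ : Fin (n + 1)) = ⟨k + 1, hk⟩ := rfl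
      rw [h3] at h2
      have hle : H (Fin.castSucc ⟨k, hk'⟩) ≤ H ⟨k + 1, hk⟩ := by
        rw [← h3]; exact hmono (Fin.castSucc_le_succ _)
      set Z := H (Fin.castSucc ⟨k, hk'⟩) ⊓ C with hZ
      set D := H ⟨k + 1, hk⟩ ⊓ C with hD
      have hn1 : (H (Fin.castSucc ⟨k, hk'⟩)).Normal := hnorm _
      have hn2 : (H ⟨k + 1, hk⟩).Normal := hnorm _
      have hDn : D.Normal := inferInstance
      have hZD : Z ≤ D := inf_le_inf_right _ hle
      have hZc : (Nat.card Z).Coprime p := Nat.Coprime.coprime_dvd_left (Subgroup.card_dvd_of_le h1) hQc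
      have hrel : Z.relIndex D ∣ (H (Fin.castSucc ⟨k, hk'⟩)).relIndex (H ⟨k + 1, hk⟩) := by
        have e1 : Z.relIndex D = (H (Fin.castSucc ⟨k, hk'⟩)).relIndex D := by
          have : Z = H (Fin.castSucc ⟨k, hk'⟩) ⊓ D := by
            rw [hZ, hD, ← inf_assoc, inf_eq_left.2 hle]
          rw [this, Subgroup.inf_relIndex_right]
        rw [e1]
        exact relIndex_dvd_of_le_right_normal _ inf_le_left
      have hcm : Nat.card Z * Z.relIndex D = Nat.card D := by
        have := Subgroup.relIndex_mul_relIndex ⊥ Z D bot_le hZD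
        rwa [Subgroup.relIndex_bot_left, Subgroup.relIndex_bot_left] at this
      rcases h2 with ⟨m, hm⟩ | hc
      · rw [hm] at hrel
        obtain ⟨j, _, hj⟩ := (Nat.dvd_prime_pow Fact.out).1 hrel
        have hcen : ∀ z ∈ Z, ∀ d ∈ D, z * d = d * z := by
          intro z hz d hd
          exact (Subgroup.mem_centralizer_iff.1 hd.2) z (h1 hz)
        obtain ⟨K, hKn, hKD, hKc⟩ := exists_normal_complement_of_central hDn hZD hcen
          (by rw [hj]; exact Nat.Coprime.pow_right j hZc)
        have hKbot : K = ⊥ := by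
          rw [eq_bot_iff, ← h]
          exact Cfsg.Agent.Lib.Helper40Cores.le_pCore hKn (IsPGroup.of_card (n := j) (by rw [hKc, hj]))
        rw [hKbot, Subgroup.card_bot] at hKc
        exact (Subgroup.relIndex_eq_one.1 hKc.symm).trans h1
      · apply Cfsg.Agent.Lib.Helper40Cores.le_pPrimeCore hDn
        rw [← hcm]
        exact Nat.Coprime.mul_left hZc (Nat.Coprime.coprime_dvd_left hrel hc)
  have := hall n (by omega)
  have e : H ⟨n, by omega⟩ = ⊤ := hn
  rw [e, top_inf_eq] at this
  exact this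

end Cfsg.Agent.Lib.Helper55HH
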