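import Mathlib
import Cfsg.Prelude.Def_Blocks
import Cfsg.Agent.S0925
import Cfsg.Agent.Lib.Helper4Burnside
import Cfsg.Agent.Lib.Helper81ClassMul
import Cfsg.Agent.Lib.Helper81Local
import Cfsg.Agent.Lib.Helper81Base
import Cfsg.Agent.Lib.Helper19Lin

/-!
Character-theoretic core of Kazarin's theorem (an element of prime power index generates a
solvable normal subgroup), via block orthogonality for a prime different from `p`.
-/

set_option autoImplicit false

namespace Cfsg.Agent.Lib.Helper67Kazarin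

open Cfsg Module
open scoped ComplexConjugate
open Cfsg.Agent.Lib.Helper81Local Cfsg.Agent.Lib.Helper19Lin

variable {G : Type*} [Group G] [Finite G]

/-- members of the principal `s`-block do not vanish at an element whose class size is prime
to `s`. -/
theorem ne_zero_of_mem_principalBlock {s : ℕ} {M : Ideal AlgInt} (hM : IsPModular s M) (x : G)
    (hx : ¬ s ∣ (Subgroup.centralizer ({x} : Set G)).index) (χ : IrrCharacter G)
    (hχ : χ ∈ principalBlock M G) : (χ : G → ℂ) x ≠ 0 := by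
  intro h0
  have h1 : MemLocalIdeal M (centralChar (fun _ : G => (1 : ℂ)) x - centralChar (χ : G → ℂ) x) :=
    hχ x
  simp only [centralChar, h0, mul_one, div_one, mul_zero, zero_div, sub_zero] at h1
  exact hx ((memLocalIdeal_natCast_iff hM).1 h1)

theorem centralChar_homFun (f : G →* ℂˣ) (g : G) :
    centralChar (homFun f) g = ((Subgroup.centralizer ({g} : Set G)).index : ℂ) * (f g : ℂ) := by
  simp [centralChar, homFun_apply]

theorem centralChar_one (g : G) :
    centralChar (fun _ : G => (1 : ℂ)) g = ((Subgroup.centralizer ({g} : Set G)).index : ℂ) := by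
  simp [centralChar]

theorem isIntegral_hom (f : G →* ℂˣ) (g : G) : IsIntegral ℤ ((f g : ℂˣ) : ℂ) := by
  have := Cfsg.Agent.Lib.Helper4Char2.IsCharacter.isIntegral (isCharacter_homFun f) g
  simpa [homFun_apply] using this

/-- the linear characters in the principal block form a group. -/
def Lam (M : Ideal AlgInt) [M.IsPrime] (G : Type*) [Group G] [Finite G] : Subgroup (G →* ℂˣ) where
  carrier := {f | SameBlock M (fun _ : G => (1 : ℂ)) (homFun f)}
  one_mem' := by
    intro g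
    rw [centralChar_homFun, centralChar_one]
    simpa using memLocalIdeal_zero
  mul_mem' := by
    intro f f' hf hf' g
    have h1 := hf g
    have h2 := hf' g
    rw [centralChar_homFun, centralChar_one] at h1 h2 ⊢
    have h3 := memLocalIdeal_add h1
      (memLocalIdeal_mul (memLocalRing_of_isIntegral (isIntegral_hom f g)) h2)
    convert h3 using 1
    simp only [MonoidHom.mul_apply, Units.val_mul]
    ring
  inv_mem' := by
    intro f hf g
    have h1 := hf g
    rw [centralChar_homFun, centralChar_one] at h1 ⊢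
    have h3 := memLocalIdeal_neg
      (memLocalIdeal_mul (memLocalRing_of_isIntegral (isIntegral_hom f⁻¹ g)) h1)
    convert h3 using 1
    have hne : ((f g : ℂˣ) : ℂ) ≠ 0 := Units.ne_zero _
    simp only [MonoidHom.inv_apply, Units.val_inv_eq_inv_val]
    field_simp
    ring

theorem mem_Lam {M : Ideal AlgInt} [M.IsPrime] (f : G →* ℂˣ) :
    f ∈ Lam M G ↔ SameBlock M (fun _ : G => (1 : ℂ)) (homFun f) := Iff.rfl

open Cfsg.Agent.Lib.Helper4Eigen Cfsg.Agent.Lib.Helper4Char Cfsg.Agent.Lib.Helper4Char2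
  Cfsg.Agent.Lib.Helper4Char3 Cfsg.Agent.Lib.Helper4Char4 Cfsg.Agent.Lib.Helper4Burnside in
theorem linear_of_coprime (p : ℕ) (hp : p.Prime) (a : ℕ) (x : G)
    (hidx : (Subgroup.centralizer ({x} : Set G)).index = p ^ a)
    (S : Subgroup G) [hSn : S.Normal]
    (hmin : ∀ N : Subgroup G, N.Normal → N ≤ S → N = ⊥ ∨ N = S)
    (hgen : S ⊔ Subgroup.zpowers x = ⊤)
    (hnc : ∃ g ∈ S, x * g * x⁻¹ * g⁻¹ ≠ 1)
    (χ : IrrCharacter G) (hx0 : (χ : G → ℂ) x ≠ 0)
    (hdeg : ∀ n : ℕ, (χ : G → ℂ) 1 = n → ¬ p ∣ n) :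
    ∃ f : G →* ℂˣ, homFun f = (χ : G → ℂ) ∧ ∀ g ∈ S, f g = 1 := by
  classical
  cases nonempty_fintype G
  obtain ⟨n, ρ, hirr, hχ⟩ := χ.2
  have hn : ¬ p ∣ n := hdeg n (by rw [← hχ]; simp)
  have hfin : finrank ℂ (Fin n → ℂ) = n := by simp
  have hcop : Nat.Coprime (finrank ℂ (Fin n → ℂ)) (Subgroup.centralizer ({x} : Set G)).index := by
    rw [hfin, hidx]
    exact Nat.Coprime.pow_right a ((Nat.Prime.coprime_iff_not_dvd hp).mpr hn).symm
  have hnorm : ‖ρ.character x‖ = (finrank ℂ (Fin n → ℂ) : ℝ) := by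
    rcases char_eq_zero_or_norm_eq_of_coprime ρ x hcop with h | h
    · rw [hχ] at h; exact absurd h hx0
    · exact h
  obtain ⟨ω, hω⟩ := (norm_char_eq_finrank_iff ρ x).mp hnorm
  -- `x` commutes with everything under `ρ`
  have hcomm : ∀ g : G, ρ (x * g) = ρ (g * x) := by
    intro g
    rw [map_mul, map_mul, hω]
    ext v
    simp
  -- `S ≤ ker ρ`
  have hSker : S ≤ ρ.ker := by
    have hN : (ρ.ker ⊓ S).Normal := inferInstance
    rcases hmin (ρ.ker ⊓ S) hN inf_le_right with h | h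
    · exfalso
      obtain ⟨g, hg, hne⟩ := hnc
      apply hne
      have hmem : x * g * x⁻¹ * g⁻¹ ∈ ρ.ker ⊓ S := by
        refine Subgroup.mem_inf.mpr ⟨?_, ?_⟩
        · rw [MonoidHom.mem_ker]
          have h1 : x * g * x⁻¹ * g⁻¹ = (x * g) * (g * x)⁻¹ := by group
          rw [h1, map_mul, hcomm g, ← map_mul, mul_inv_cancel, map_one]
        · exact S.mul_mem (hSn.conj_mem g hg x) (S.inv_mem hg)
      rw [h] at hmem
      exact Subgroup.mem_bot.mp hmem
    · rw [← h]; exact inf_le_left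
  -- every `ρ g` is a scalar
  let T : Subgroup G :=
    { carrier := {g | ∀ h : G, ρ (g * h) = ρ (h * g)}
      one_mem' := by intro h; simp
      mul_mem' := by
        intro g₁ g₂ h₁ h₂ h
        calc ρ (g₁ * g₂ * h) = ρ (g₁ * (g₂ * h)) := by rw [mul_assoc]
          _ = ρ (g₂ * h * g₁) := h₁ _
          _ = ρ (g₂ * (h * g₁)) := by rw [mul_assoc]
          _ = ρ (h * g₁ * g₂) := h₂ _
          _ = ρ (h * (g₁ * g₂)) := by rw [mul_assoc]
      inv_mem' := by
        intro g hg h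
        have := hg (g⁻¹ * h * g⁻¹)
        have e1 : g * (g⁻¹ * h * g⁻¹) = h * g⁻¹ := by group
        have e2 : g⁻¹ * h * g⁻¹ * g = g⁻¹ * h := by group
        rw [e1, e2] at this
        exact this.symm }
  have hT : T = ⊤ := by
    rw [eq_top_iff, ← hgen, sup_le_iff]
    constructor
    · intro g hg h
      have hg1 : ρ g = 1 := hSker hg
      rw [map_mul, map_mul, hg1, one_mul, mul_one]
    · rw [Subgroup.zpowers_le]
      exact hcomm
  have hscal : ∀ g : G, ‖ρ.character g‖ = (finrank ℂ (Fin n → ℂ) : ℝ) := by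
    intro g
    rw [norm_char_eq_finrank_iff]
    apply Cfsg.Agent.Lib.Helper81Base.schur_scalar ρ (ρ g)
    intro h
    have hg : g ∈ T := by rw [hT]; exact Subgroup.mem_top g
    have := hg h
    rw [map_mul, map_mul] at this
    exact this
  have hnorm1 := classInner_irr_self χ.2
  have h2 : Cfsg.classInner (χ : G → ℂ) (χ : G → ℂ) = (n : ℂ) * n := by
    have h3 : ∀ g : G, (χ : G → ℂ) g * conj ((χ : G → ℂ) g) = (n : ℂ) * n := by
      intro g
      rw [Complex.mul_conj, Complex.normSq_eq_norm_sq, ← hχ, hscal g, hfin]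
      push_cast
      ring
    simp only [Cfsg.classInner, h3, Finset.sum_const, Finset.card_univ,
      nsmul_eq_mul, Nat.card_eq_fintype_card]
    have : (Fintype.card G : ℂ) ≠ 0 := Nat.cast_ne_zero.mpr Fintype.card_ne_zero
    field_simp
  rw [h2] at hnorm1
  have h3 : n * n = 1 := by exact_mod_cast hnorm1
  have h4 : n = 1 := Nat.eq_one_of_mul_eq_one_right h3
  have hχ1 : (χ : G → ℂ) 1 = 1 := by rw [← hχ]; simp [h4]
  obtain ⟨f, hf⟩ := exists_hom_of_linear (IsIrrCharacter.isCharacter χ.2) hχ1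
  refine ⟨f, hf, ?_⟩
  intro g hg
  have hg1 : ρ g = 1 := hSker hg
  have h5 : (χ : G → ℂ) g = 1 := by
    rw [← hχ, Representation.character, hg1]
    simp [h4]
  rw [← hf, homFun_apply] at h5
  exact Units.ext h5

open Cfsg.Agent.Lib.Helper4Char2 Cfsg.Agent.Lib.Helper4Char3 Cfsg.Agent.Lib.Helper4Char
  Cfsg.Agent.Lib.Helper4Burnside in
theorem kazarin_core (p : ℕ) (hp : p.Prime) (a : ℕ) (x : G)
    (hidx : (Subgroup.centralizer ({x} : Set G)).index = p ^ a)
    (hxp : (orderOf x).Coprime p)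
    (S : Subgroup G) [hSn : S.Normal]
    (hmin : ∀ N : Subgroup G, N.Normal → N ≤ S → N = ⊥ ∨ N = S)
    (hgen : S ⊔ Subgroup.zpowers x = ⊤)
    (hnc : ∃ g ∈ S, x * g * x⁻¹ * g⁻¹ ≠ 1)
    (s : ℕ) (hs : s.Prime) (hsp : s ≠ p) (hsS : s ∣ Nat.card S) : False := by
  classical
  obtain ⟨M, hM⟩ := Cfsg.Agent.Lib.Helper81ClassMul.exists_modular hs
  haveI := IsPModular.isPrime hM
  haveI : Fact s.Prime := ⟨hs⟩
  haveI : Fact p.Prime := ⟨hp⟩
  obtain ⟨t, ht⟩ := exists_prime_orderOf_dvd_card' s hsS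
  have ht' : orderOf (t : G) = s := by rw [Subgroup.orderOf_coe, ht]
  have ht1 : (t : G) ≠ 1 := by
    intro h
    rw [h, orderOf_one] at ht'
    exact hs.one_lt.ne ht'
  have hsidx : ¬ s ∣ (Subgroup.centralizer ({x} : Set G)).index := by
    rw [hidx]
    intro h
    exact hsp ((Nat.prime_dvd_prime_iff_eq hs hp).1 (hs.dvd_of_dvd_pow h))
  have key : ∀ χ : IrrCharacter G, χ ∈ principalBlock M G →
      (∀ n : ℕ, (χ : G → ℂ) 1 = n → ¬ p ∣ n) →
      ∃ f : G →* ℂˣ, homFun f = (χ : G → ℂ) ∧ ∀ g ∈ S, f g = 1 := fun χ hχ hd =>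
    linear_of_coprime p hp a x hidx S hmin hgen hnc χ
      (ne_zero_of_mem_principalBlock hM x hsidx χ hχ) hd
  have keyf : ∀ f : G →* ℂˣ, f ∈ Lam M G → ∀ g ∈ S, f g = 1 := by
    intro f hf
    obtain ⟨f', hf', h⟩ := key ⟨homFun f, isIrrCharacter_homFun f⟩ hf (by
      intro n hn hpn
      have h1 : ((1 : ℕ) : ℂ) = n := by rw [← hn]; simp [homFun_apply]
      have h2 : 1 = n := by exact_mod_cast h1
      rw [← h2] at hpn
      exact hp.one_lt.ne' (Nat.dvd_one.mp hpn))
    have : f' = f := homFun_injective hf'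
    rw [← this]; exact h
  have horth := (Cfsg.Agent.S0925.result s M hM).2 (t : G) 1 (t : G) 1
    ⟨1, by simp, Commute.one_right _, ⟨1, by simp [ht']⟩, by simp [hs.one_lt.ne']⟩
    ⟨1, by simp, Commute.one_right _, ⟨0, by simp⟩, by simp [hs.one_lt.ne']⟩
    (by
      intro h
      exact ht1 (isConj_one_left.mp h))
    (principalBlock M G) ⟨⟨fun _ => 1, isIrrCharacter_one⟩, rfl⟩
  have hBfin : (principalBlock M G).Finite := Set.toFinite _
  rw [finsum_mem_eq_finite_toFinset_sum _ hBfin] at horth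
  set F := hBfin.toFinset with hF
  have hFmem : ∀ χ, χ ∈ F ↔ χ ∈ principalBlock M G := fun χ => by simp [hF]
  let L := F.filter (fun χ : IrrCharacter G => ∃ f : G →* ℂˣ, homFun f = (χ : G → ℂ))
  rw [← Finset.sum_filter_add_sum_filter_not F
    (fun χ : IrrCharacter G => ∃ f : G →* ℂˣ, homFun f = (χ : G → ℂ))] at horth
  have hL1 : ∑ χ ∈ F.filter (fun χ : IrrCharacter G => ∃ f : G →* ℂˣ, homFun f = (χ : G → ℂ)),
      (χ : G → ℂ) (t : G) * (χ : G → ℂ) (1 : G)⁻¹ = (L.card : ℂ) := by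
    rw [Finset.card_eq_sum_ones, Nat.cast_sum]
    apply Finset.sum_congr rfl
    intro χ hχ
    obtain ⟨hχF, f, hf⟩ := Finset.mem_filter.mp hχ
    have hfL : f ∈ Lam M G := by
      rw [mem_Lam, hf]
      exact (hFmem χ).1 hχF
    rw [← hf, homFun_apply, homFun_apply, keyf f hfL t t.2]
    simp
  have hpc : (p : ℂ) ≠ 0 := Nat.cast_ne_zero.mpr hp.ne_zero
  have hint : IsIntegral ℤ (∑ χ ∈ F.filter
      (fun χ : IrrCharacter G => ¬ ∃ f : G →* ℂˣ, homFun f = (χ : G → ℂ)),
      (χ : G → ℂ) (t : G) * (χ : G → ℂ) (1 : G)⁻¹ / (p : ℂ)) := by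
    apply IsIntegral.sum
    intro χ hχ
    obtain ⟨hχF, hnl⟩ := Finset.mem_filter.mp hχ
    obtain ⟨n, -, hn⟩ := Cfsg.Agent.Lib.Helper81Base.irr_one χ
    have hpn : p ∣ n := by
      by_contra hpn
      apply hnl
      obtain ⟨f, hf, -⟩ := key χ ((hFmem χ).1 hχF) (by
        intro n' hn' hpn'
        rw [hn] at hn'
        have : n = n' := by exact_mod_cast hn'
        rw [← this] at hpn'
        exact hpn hpn')
      exact ⟨f, hf⟩
    obtain ⟨m, rfl⟩ := hpn
    rw [inv_one, hn]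
    have : (χ : G → ℂ) (t : G) * ((p * m : ℕ) : ℂ) / (p : ℂ) = (m : ℂ) * (χ : G → ℂ) (t : G) := by
      push_cast
      field_simp
    rw [this]
    exact (isIntegral_algebraMap (R := ℤ) (x := (m : ℤ))).mul
      (IsCharacter.isIntegral (IsIrrCharacter.isCharacter χ.2) _) |> fun h => by simpa using h
  rw [← Finset.sum_div] at hint
  rw [hL1] at horth
  have h2 : ∑ χ ∈ F.filter
      (fun χ : IrrCharacter G => ¬ ∃ f : G →* ℂˣ, homFun f = (χ : G → ℂ)),
      (χ : G → ℂ) (t : G) * (χ : G → ℂ) (1 : G)⁻¹ = -(L.card : ℂ) := by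
    linear_combination horth
  rw [h2] at hint
  have h3 : IsIntegral ℤ ((L.card : ℂ) / (p : ℂ)) := by
    have := hint.neg
    rw [neg_div, neg_neg] at this
    exact this
  have hpL : p ∣ L.card := dvd_of_isIntegral_div _ p hp.ne_zero h3
  -- the bijection with `Lam`
  let e : (Lam M G) → {χ // χ ∈ L} := fun f =>
    ⟨⟨homFun f.1, isIrrCharacter_homFun f.1⟩,
      Finset.mem_filter.mpr ⟨(hFmem _).2 f.2, f.1, rfl⟩⟩
  have he : Function.Bijective e := by
    constructor
    · intro f f' h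
      have h1 : homFun f.1 = homFun f'.1 := congrArg (fun z : {χ // χ ∈ L} => (z.1 : G → ℂ)) h
      exact Subtype.ext (homFun_injective h1)
    · rintro ⟨χ, hχ⟩
      obtain ⟨hχF, f, hf⟩ := Finset.mem_filter.mp hχ
      refine ⟨⟨f, ?_⟩, ?_⟩
      · rw [mem_Lam, hf]
        exact (hFmem χ).1 hχF
      · apply Subtype.ext
        apply Subtype.ext
        exact hf
  have hcard : Nat.card (Lam M G) = L.card := by
    rw [Nat.card_congr (Equiv.ofBijective e he), Nat.card_eq_fintype_card, Fintype.card_coe]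
  haveI : Finite (Lam M G) := Finite.of_injective e he.1
  rw [← hcard] at hpL
  obtain ⟨f, hf⟩ := exists_prime_orderOf_dvd_card' p hpL
  have hfm : f ^ orderOf x = 1 := by
    apply Subtype.ext
    rw [Subgroup.coe_pow, Subgroup.coe_one]
    have hker : ((f : G →* ℂˣ) ^ orderOf x).ker = ⊤ := by
      rw [eq_top_iff, ← hgen, sup_le_iff]
      constructor
      · intro g hg
        rw [MonoidHom.mem_ker, MonoidHom.pow_apply, keyf f.1 f.2 g hg, one_pow]
      · rw [Subgroup.zpowers_le, MonoidHom.mem_ker, MonoidHom.pow_apply, ← map_pow,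
          pow_orderOf_eq_one, map_one]
    ext g
    have : g ∈ ((f : G →* ℂˣ) ^ orderOf x).ker := by rw [hker]; exact Subgroup.mem_top g
    rw [MonoidHom.mem_ker] at this
    rw [this]; rfl
  have hdvd : p ∣ orderOf x := by
    rw [← hf]; exact orderOf_dvd_of_pow_eq_one hfm
  have := Nat.Coprime.eq_one_of_dvd hxp.symm hdvd
  exact hp.one_lt.ne' this

end Cfsg.Agent.Lib.Helper67Kazarin
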