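import Mathlib

set_option autoImplicit false

namespace Cfsg.Agent.Lib.Helper71Ind

universe u

theorem relIndex_eq_relIndex_sup {G : Type*} [Group G] [Finite G] (R T : Subgroup G) [T.Normal] :
    R.relIndex T = R.relIndex (R ⊔ T) := by
  have h1 : (R ⊓ T).relIndex R * R.relIndex (R ⊔ T) = (R ⊓ T).relIndex (R ⊔ T) :=
    Subgroup.relIndex_mul_relIndex _ _ _ inf_le_left le_sup_left
  have h2 : (R ⊓ T).relIndex T * T.relIndex (R ⊔ T) = (R ⊓ T).relIndex (R ⊔ T) :=
    Subgroup.relIndex_mul_relIndex _ _ _ inf_le_right le_sup_right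
  have h3 : T.relIndex (R ⊔ T) = (R ⊓ T).relIndex R := by
    rw [Subgroup.relIndex_sup_right, Subgroup.inf_relIndex_left]
  have h4 : (R ⊓ T).relIndex T = R.relIndex T := Subgroup.inf_relIndex_right _ _
  rw [h3, h4, ← h1, mul_comm] at h2
  have h5 : (R ⊓ T).relIndex R ≠ 0 := Subgroup.index_ne_zero_of_finite
  exact Nat.eq_of_mul_eq_mul_left (Nat.pos_of_ne_zero h5) h2

/-- `|T : R ∩ T|` divides `|G : R|` for `T` normal. -/
theorem relIndex_dvd_index_of_normal_right {G : Type*} [Group G] [Finite G] (R T : Subgroup G)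
    [T.Normal] : R.relIndex T ∣ R.index := by
  rw [relIndex_eq_relIndex_sup]
  exact Subgroup.relIndex_dvd_index_of_le le_sup_left

/-- A nontrivial non-simple group has a proper nontrivial normal subgroup. -/
theorem exists_normal_of_not_simple {G : Type*} [Group G] [Nontrivial G] (h : ¬ IsSimpleGroup G) :
    ∃ N : Subgroup G, N.Normal ∧ N ≠ ⊥ ∧ N ≠ ⊤ := by
  by_contra hcon
  push Not at hcon
  apply h
  refine ⟨fun H hH => ?_⟩
  by_cases hb : H = ⊥
  · exact Or.inl hb
  · exact Or.inr (hcon H hH hb)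

theorem card_lt_of_ne_top {G : Type*} [Group G] [Finite G] (N : Subgroup G) (h : N ≠ ⊤) :
    Nat.card N < Nat.card G :=
  lt_of_le_of_ne (Subgroup.card_le_card_group N) fun h' => h (Subgroup.eq_top_of_card_eq N h')

theorem card_quotient_lt_of_ne_bot {G : Type*} [Group G] [Finite G] (N : Subgroup G) (h : N ≠ ⊥) :
    Nat.card (G ⧸ N) < Nat.card G := by
  have h1 := Subgroup.card_eq_card_quotient_mul_card_subgroup N
  have h2 : 1 < Nat.card N := by
    rw [Finite.one_lt_card_iff_nontrivial]
    exact (Subgroup.nontrivial_iff_ne_bot N).2 h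
  have h3 : 0 < Nat.card (G ⧸ N) := Nat.card_pos
  rw [h1]
  nlinarith

/-- Induction principle: a property inherited by normal subgroups and quotients which forces simple
groups to be solvable forces solvability. -/
theorem solvable_of_inherited (Q : ∀ (G : Type u) [Group G], Prop)
    (hsub : ∀ (G : Type u) [Group G] [Finite G] (N : Subgroup G) [N.Normal], Q G → Q N)
    (hquot : ∀ (G : Type u) [Group G] [Finite G] (N : Subgroup G) [N.Normal], Q G → Q (G ⧸ N))
    (hsimple : ∀ (G : Type u) [Group G] [Finite G] [IsSimpleGroup G], Q G → Group.IsSolvable G) :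
    ∀ (n : ℕ) (G : Type u) [Group G] [Finite G], Nat.card G = n → Q G → Group.IsSolvable G := by
  intro n
  induction n using Nat.strong_induction_on with
  | _ n ih =>
    intro G _ _ hn hQ
    by_cases hsub' : Subsingleton G
    · infer_instance
    have : Nontrivial G := not_subsingleton_iff_nontrivial.1 hsub'
    by_cases hs : IsSimpleGroup G
    · exact hsimple G hQ
    obtain ⟨N, hN, hb, ht⟩ := exists_normal_of_not_simple hs
    rw [Group.isSolvable_iff_subgroup_quotient N]
    exact ⟨ih _ (hn ▸ card_lt_of_ne_top N ht) N rfl (hsub G N hQ),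
      ih _ (hn ▸ card_quotient_lt_of_ne_bot N hb) (G ⧸ N) rfl (hquot G N hQ)⟩

/-- Elements of order prime to `p` lift along surjections of finite groups. -/
theorem exists_lift_coprime {G H : Type*} [Group G] [Finite G] [Group H] (f : G →* H)
    (hf : Function.Surjective f) {p : ℕ} (hp : p.Prime) (y : H) (hy : (orderOf y).Coprime p) :
    ∃ x : G, f x = y ∧ (orderOf x).Coprime p := by
  obtain ⟨g, rfl⟩ := hf y
  set n := orderOf g with hn
  have hn0 : n ≠ 0 := (orderOf_pos g).ne'
  set a := p ^ n.factorization p with ha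
  set b := n / a with hb
  have hab : a * b = n := Nat.ordProj_mul_ordCompl_eq_self n p
  have hbp : b.Coprime p := (Nat.coprime_ordCompl hp hn0).symm
  have ha0 : a ≠ 0 := by intro h0; rw [h0, zero_mul] at hab; exact hn0 hab.symm
  have hcop : (orderOf (f g)).Coprime a := hy.pow_right _
  -- choose t with a * t ≡ 1 mod orderOf (f g)
  have hcop' : IsCoprime (a : ℤ) (orderOf (f g) : ℤ) := Nat.isCoprime_iff_coprime.2 hcop.symm
  obtain ⟨s, t, hst⟩ := hcop'
  refine ⟨(g ^ a) ^ s, ?_, ?_⟩
  · have h1 : f g = (f g) ^ (s * a + t * orderOf (f g)) := by rw [hst, zpow_one]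
    rw [map_zpow, map_pow]
    conv_rhs => rw [h1]
    rw [zpow_add, mul_comm t, zpow_mul (f g) _ t, zpow_natCast (f g) (orderOf (f g)), pow_orderOf_eq_one,
      one_zpow, mul_one, mul_comm s, zpow_mul, zpow_natCast]
  · have h1 : orderOf (g ^ a) = b := by
      rw [orderOf_pow_of_dvd ha0 (Dvd.intro _ hab)]
    have h2 : orderOf ((g ^ a) ^ s) ∣ b := by
      rw [← h1]
      exact orderOf_dvd_of_mem_zpowers (Subgroup.zpow_mem_zpowers _ s)
    exact Nat.Coprime.coprime_dvd_left h2 hbp

end Cfsg.Agent.Lib.Helper71Ind
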