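import Mathlib
import Cfsg.Agent.Lib.Helper67Kazarin
import Cfsg.Agent.Lib.Helper71Ind

/-!
Kazarin's theorem: an element whose conjugacy class has prime power size lies in a solvable
normal subgroup.  Group-theoretic reduction to `Helper67Kazarin.kazarin_core`.
-/

set_option autoImplicit false

namespace Cfsg.Agent.Lib.Helper67Kazarin2

open Subgroup Cfsg.Agent.Lib.Helper71Ind

universe u

section basics

variable {G : Type*} [Group G]

theorem isSolvable_sup' {X Y : Subgroup G} (hX : Group.IsSolvable X) (hY : Group.IsSolvable Y)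
    (hn : Y ≤ normalizer (X : Set G)) : Group.IsSolvable (X ⊔ Y : Subgroup G) := by
  have hnorm : (X.subgroupOf (X ⊔ Y)).Normal :=
    (normal_subgroupOf_iff_le_normalizer le_sup_left).mpr (sup_le le_normalizer hn)
  have h1 : Group.IsSolvable (X.subgroupOf (X ⊔ Y)) :=
    Group.isSolvable_of_isSolvable_injective (f := (subgroupOfEquivOfLe
      (le_sup_left : X ≤ X ⊔ Y)).toMonoidHom) (subgroupOfEquivOfLe _).injective
  have h2 : Group.IsSolvable ((X ⊔ Y : Subgroup G) ⧸ X.subgroupOf (X ⊔ Y)) := by
    let f : Y →* ((X ⊔ Y : Subgroup G) ⧸ X.subgroupOf (X ⊔ Y)) :=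
      (QuotientGroup.mk' _).comp (inclusion le_sup_right)
    apply Group.isSolvable_of_surjective (f := f)
    intro q
    obtain ⟨⟨g, hg⟩, rfl⟩ := QuotientGroup.mk'_surjective _ q
    have hg' : g ∈ ((X ⊔ Y : Subgroup G) : Set G) := hg
    rw [sup_comm, coe_mul_of_left_le_normalizer_right Y X hn] at hg'
    obtain ⟨y, hy, x, hx, rfl⟩ := hg'
    refine ⟨⟨y, hy⟩, ?_⟩
    change QuotientGroup.mk' _ _ = QuotientGroup.mk' _ _
    rw [QuotientGroup.mk'_eq_mk']
    exact ⟨⟨x, le_sup_left (a := X) (b := Y) hx⟩, by simpa [mem_subgroupOf] using hx, rfl⟩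
  exact (Group.isSolvable_iff_subgroup_quotient (X.subgroupOf (X ⊔ Y))).mpr ⟨h1, h2⟩

theorem isSolvable_of_le {X Y : Subgroup G} (h : X ≤ Y) (hY : Group.IsSolvable Y) :
    Group.IsSolvable X :=
  Group.isSolvable_of_isSolvable_injective (f := inclusion h) (inclusion_injective h)

theorem isSolvable_map {H : Type*} [Group H] (f : G →* H) (X : Subgroup G)
    (hX : Group.IsSolvable X) : Group.IsSolvable (X.map f) :=
  Group.isSolvable_of_surjective (f := f.subgroupMap X) (f.subgroupMap_surjective X)

theorem isSolvable_iSup_of_normalized {ι : Type*} [Finite ι] (f : ι → Subgroup G)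
    (N : Subgroup G) (hle : ∀ i, f i ≤ N) (hn : ∀ i, N ≤ normalizer (f i : Set G))
    (hs : ∀ i, Group.IsSolvable (f i)) : Group.IsSolvable (⨆ i, f i : Subgroup G) := by
  classical
  cases nonempty_fintype ι
  rw [← Finset.sup_univ_eq_iSup]
  have key : ∀ s : Finset ι, Group.IsSolvable (s.sup f : Subgroup G) ∧ s.sup f ≤ N := by
    intro s
    induction s using Finset.induction_on with
    | empty =>
      rw [Finset.sup_empty]
      exact ⟨inferInstance, bot_le⟩
    | insert i s _ ih =>
      rw [Finset.sup_insert]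
      exact ⟨isSolvable_sup' (hs i) ih.1 (ih.2.trans (hn i)), sup_le (hle i) ih.2⟩
  exact (key _).1

theorem exists_normal_solvable [Finite G] (C : Subgroup G) [hC : C.Normal] (L : Subgroup G)
    (hLC : L ≤ C) (hLn : C ≤ normalizer (L : Set G)) (hs : Group.IsSolvable L) :
    ∃ A : Subgroup G, A.Normal ∧ Group.IsSolvable A ∧ L ≤ A := by
  refine ⟨⨆ g : G, L.map (MulAut.conj g).toMonoidHom, ?_, ?_, ?_⟩
  · constructor
    intro n hn h
    have h1 : (⨆ g : G, L.map (MulAut.conj g).toMonoidHom).map (MulAut.conj h).toMonoidHom ≤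
        ⨆ g : G, L.map (MulAut.conj g).toMonoidHom := by
      rw [Subgroup.map_iSup]
      apply iSup_le
      intro g
      rw [Subgroup.map_map]
      have : (MulAut.conj h).toMonoidHom.comp (MulAut.conj g).toMonoidHom
          = (MulAut.conj (h * g)).toMonoidHom := by
        ext y; simp [mul_assoc]
      rw [this]
      exact le_iSup (fun g : G => L.map (MulAut.conj g).toMonoidHom) (h * g)
    exact h1 ⟨n, hn, by simp⟩
  · apply isSolvable_iSup_of_normalized _ C
    · rintro g _ ⟨l, hl, rfl⟩
      simpa using hC.conj_mem l (hLC hl) g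
    · intro g c hc
      rw [mem_normalizer_iff]
      have hc' : g⁻¹ * c * g ∈ normalizer (L : Set G) := by
        apply hLn
        simpa using hC.conj_mem c hc g⁻¹
      rw [mem_normalizer_iff] at hc'
      intro y
      constructor
      · rintro ⟨l, hl, rfl⟩
        refine ⟨(g⁻¹ * c * g) * l * (g⁻¹ * c * g)⁻¹, (hc' l).1 hl, ?_⟩
        simp only [MulEquiv.coe_toMonoidHom, MulAut.conj_apply]
        group
      · rintro ⟨l, hl, hly⟩
        refine ⟨(g⁻¹ * c * g)⁻¹ * l * (g⁻¹ * c * g), ?_, ?_⟩
        · apply (hc' _).2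
          have : g⁻¹ * c * g * ((g⁻¹ * c * g)⁻¹ * l * (g⁻¹ * c * g)) * (g⁻¹ * c * g)⁻¹ = l := by
            group
          rw [this]; exact hl
        · simp only [MulEquiv.coe_toMonoidHom, MulAut.conj_apply] at hly ⊢
          have : y = c⁻¹ * (c * y * c⁻¹) * c := by group
          rw [this, ← hly]
          group
    · intro g
      exact isSolvable_map _ _ hs
  · have := le_iSup (fun g : G => L.map (MulAut.conj g).toMonoidHom) 1
    intro l hl
    exact this ⟨l, hl, by simp⟩

theorem le_normalizer_map_subtype (H : Subgroup G) (N' : Subgroup H) [hN : N'.Normal] :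
    H ≤ normalizer ((N'.map H.subtype : Subgroup G) : Set G) := by
  rw [← normal_subgroupOf_iff_le_normalizer (map_subtype_le N')]
  have : (N'.map H.subtype).subgroupOf H = N' := by
    ext z
    rw [mem_subgroupOf, mem_map]
    constructor
    · rintro ⟨w, hw, hwz⟩
      have : w = z := Subtype.ext hwz
      rwa [← this]
    · intro hz
      exact ⟨z, hz, rfl⟩
  rw [this]; exact hN

theorem centralizer_subtype' (N : Subgroup G) (x : N) :
    Subgroup.centralizer ({x} : Set N) = (Subgroup.centralizer ({(x : G)} : Set G)).subgroupOf N := by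
  ext y
  rw [Subgroup.mem_subgroupOf, Subgroup.mem_centralizer_singleton_iff,
    Subgroup.mem_centralizer_singleton_iff]
  exact Subtype.ext_iff

end basics

section main

variable {G : Type*} [Group G] [Finite G]

theorem exists_mul_of_index_pow' {p : ℕ} [Fact p.Prime]
    (P : Sylow p G) (C : Subgroup G) (k : ℕ) (hC : C.index = p ^ k) (g : G) :
    ∃ x ∈ (P : Subgroup G), ∃ c ∈ C, g = x * c := by
  have hp : p.Prime := Fact.out
  have e1 : C.relIndex P * (P : Subgroup G).index = (C ⊓ P : Subgroup G).index := by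
    rw [← inf_relIndex_right]; exact relIndex_mul_index inf_le_right
  have e2 : (P : Subgroup G).relIndex C * C.index = (C ⊓ P : Subgroup G).index := by
    rw [← inf_relIndex_left]; exact relIndex_mul_index inf_le_left
  have h1 : p ^ k ∣ C.relIndex P := by
    have : p ^ k ∣ C.relIndex P * (P : Subgroup G).index := by
      rw [e1, ← e2, hC]; exact Dvd.intro_left _ rfl
    exact (Nat.Coprime.pow_left k
      ((Nat.Prime.coprime_iff_not_dvd hp).mpr P.not_dvd_index)).dvd_of_dvd_mul_right this
  have hne : C.relIndex (P : Subgroup G) ≠ 0 := by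
    unfold relIndex; exact index_ne_zero_of_finite
  have h2 : C.relIndex P ≤ p ^ k := by
    rw [← hC, ← relIndex_top_right]
    apply relIndex_le_of_le_right le_top
    rw [relIndex_top_right]; exact index_ne_zero_of_finite
  have h3 : C.relIndex P = p ^ k := le_antisymm h2 (Nat.le_of_dvd (Nat.pos_of_ne_zero hne) h1)
  have hstab : MulAction.stabilizer (P : Subgroup G) ((1 : G) : G ⧸ C) = C.subgroupOf P := by
    ext x
    rw [MulAction.mem_stabilizer_iff, mem_subgroupOf]
    show (((x : G) * 1 : G) : G ⧸ C) = ((1 : G) : G ⧸ C) ↔ _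
    rw [eq_comm, QuotientGroup.eq]
    simp
  have horb : MulAction.orbit (P : Subgroup G) ((1 : G) : G ⧸ C) = Set.univ := by
    apply Set.eq_of_subset_of_ncard_le (Set.subset_univ _)
    rw [Set.ncard_univ, ← MulAction.index_stabilizer, hstab]
    exact (hC.trans h3.symm).le
  have hg : (g : G ⧸ C) ∈ MulAction.orbit (P : Subgroup G) ((1 : G) : G ⧸ C) := by
    rw [horb]; trivial
  obtain ⟨x, hx⟩ := hg
  have hx' : (((x : G) * 1 : G) : G ⧸ C) = (g : G ⧸ C) := hx
  rw [QuotientGroup.eq] at hx'
  refine ⟨x, x.2, _, hx', ?_⟩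
  group

/-- a `p`-element of `p`-power index generates a normal `p`-subgroup. -/
theorem normalClosure_isPGroup {p : ℕ} [Fact p.Prime] (y : G) (hy : IsPGroup p (zpowers y))
    (k : ℕ) (hC : (centralizer ({y} : Set G)).index = p ^ k) :
    IsPGroup p (normalClosure ({y} : Set G)) := by
  obtain ⟨P, hP⟩ := hy.exists_le_sylow
  have hle : normalClosure ({y} : Set G) ≤ P := by
    rw [normalClosure, closure_le]
    intro z hz
    obtain ⟨w, hw, hwz⟩ := Group.mem_conjugatesOfSet_iff.mp hz
    rw [Set.mem_singleton_iff] at hw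
    subst hw
    obtain ⟨c, rfl⟩ := isConj_iff.mp hwz
    obtain ⟨u, hu, c0, hc0, rfl⟩ := exists_mul_of_index_pow' P _ k hC c
    rw [mem_centralizer_singleton_iff] at hc0
    have h1 : u * c0 * w * (u * c0)⁻¹ = u * w * u⁻¹ := by
      have : c0 * w * c0⁻¹ = w := by rw [hc0]; group
      calc u * c0 * w * (u * c0)⁻¹ = u * (c0 * w * c0⁻¹) * u⁻¹ := by group
        _ = u * w * u⁻¹ := by rw [this]
    rw [h1]
    exact (P : Subgroup G).mul_mem ((P : Subgroup G).mul_mem hu (hP (mem_zpowers w)))
      ((P : Subgroup G).inv_mem hu)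
  exact P.2.to_le hle

theorem exists_minimal_normal [Nontrivial G] : ∃ S : Subgroup G, S.Normal ∧ S ≠ ⊥ ∧
    ∀ N : Subgroup G, N.Normal → N ≤ S → N = ⊥ ∨ N = S := by
  have hne : ({S : Subgroup G | S.Normal ∧ S ≠ ⊥}).Nonempty := ⟨⊤, inferInstance, top_ne_bot⟩
  obtain ⟨S, hS, hmin⟩ := (wellFounded_lt (α := Subgroup G)).has_min _ hne
  refine ⟨S, hS.1, hS.2, ?_⟩
  intro N hN hle
  by_cases h0 : N = ⊥
  · exact Or.inl h0
  · right
    by_contra hne'
    exact hmin N ⟨hN, h0⟩ (lt_of_le_of_ne hle hne')

end main

/-- `x` lies in a solvable normal subgroup. -/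
def InSol {G : Type u} [Group G] (x : G) : Prop :=
  ∃ N : Subgroup G, N.Normal ∧ Group.IsSolvable N ∧ x ∈ N

theorem isSolvable_of_isPGroup {G : Type*} [Group G] [Finite G] {p : ℕ} [Fact p.Prime]
    (h : IsPGroup p G) : Group.IsSolvable G := by
  haveI := h.isNilpotent
  infer_instance

theorem kazarin_aux (p : ℕ) (hp : p.Prime) : ∀ (n : ℕ) (G : Type u) [Group G] [Finite G],
    Nat.card G = n → ∀ (x : G) (a : ℕ), (centralizer ({x} : Set G)).index = p ^ a → InSol x := by
  intro n
  induction n using Nat.strong_induction_on with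
  | _ n ih =>
  intro G _ _ hn x a hidx
  haveI : Fact p.Prime := ⟨hp⟩
  by_cases hR : ∃ A : Subgroup G, A.Normal ∧ Group.IsSolvable A ∧ A ≠ ⊥
  · obtain ⟨A, hAn, hAs, hA⟩ := hR
    have hlt : Nat.card (G ⧸ A) < n := hn ▸ card_quotient_lt_of_ne_bot A hA
    have hle : (centralizer ({x} : Set G)).map (QuotientGroup.mk' A) ≤
        centralizer ({QuotientGroup.mk' A x} : Set (G ⧸ A)) := by
      rintro _ ⟨c, hc, rfl⟩
      rw [mem_centralizer_singleton_iff, ← map_mul, ← map_mul]
      rw [SetLike.mem_coe, mem_centralizer_singleton_iff] at hc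
      rw [hc]
    have h1 : (centralizer ({QuotientGroup.mk' A x} : Set (G ⧸ A))).index ∣ p ^ a := by
      rw [← hidx]
      exact (index_dvd_of_le hle).trans (index_map_dvd _ (QuotientGroup.mk'_surjective A))
    obtain ⟨j, -, hj⟩ := (Nat.dvd_prime_pow hp).1 h1
    obtain ⟨Nb, hNn, hNs, hxN⟩ := ih _ hlt (G ⧸ A) rfl (QuotientGroup.mk' A x) j hj
    refine ⟨Nb.comap (QuotientGroup.mk' A), hNn.comap _, ?_, hxN⟩
    have hAle : A ≤ Nb.comap (QuotientGroup.mk' A) := by
      intro z hz
      rw [mem_comap]
      have : QuotientGroup.mk' A z = 1 := (QuotientGroup.eq_one_iff z).mpr hz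
      rw [this]; exact Nb.one_mem
    apply Group.isSolvable_of_ker_le_range (inclusion hAle)
      ((QuotientGroup.mk' A).subgroupComap Nb)
    intro z hz
    rw [MonoidHom.mem_ker] at hz
    have h2 : QuotientGroup.mk' A (z : G) = 1 := congrArg Subtype.val hz
    have h3 : (z : G) ∈ A := (QuotientGroup.eq_one_iff (z : G)).mp h2
    exact ⟨⟨z, h3⟩, Subtype.ext rfl⟩
  · push Not at hR
    by_cases hx1 : x = 1
    · exact ⟨⊥, inferInstance, inferInstance, by rw [hx1]; exact one_mem _⟩
    exfalso
    -- `x` is a `p'`-element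
    have hcop : (orderOf x).Coprime p := by
      by_contra hnc
      have hpd : p ∣ orderOf x := by
        by_contra h
        exact hnc ((Nat.Prime.coprime_iff_not_dvd hp).mpr h).symm
      have hy : orderOf (x ^ (orderOf x / p)) = p :=
        orderOf_pow_orderOf_div (orderOf_pos x).ne' hpd
      have hCle : centralizer ({x} : Set G) ≤ centralizer ({x ^ (orderOf x / p)} : Set G) := by
        intro c hc
        rw [mem_centralizer_singleton_iff] at hc ⊢
        exact ((Commute.pow_right (show Commute c x from hc) _)).eq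
      have h1 : (centralizer ({x ^ (orderOf x / p)} : Set G)).index ∣ p ^ a := by
        rw [← hidx]; exact index_dvd_of_le hCle
      obtain ⟨j, -, hj⟩ := (Nat.dvd_prime_pow hp).1 h1
      have hpg := normalClosure_isPGroup (x ^ (orderOf x / p))
        (IsPGroup.of_card (n := 1) (by rw [Nat.card_zpowers, hy, pow_one])) j hj
      have h2 := hR _ normalClosure_normal (isSolvable_of_isPGroup hpg)
      have h3 : x ^ (orderOf x / p) ∈ normalClosure ({x ^ (orderOf x / p)} : Set G) :=
        subset_normalClosure rfl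
      rw [h2, mem_bot] at h3
      rw [h3, orderOf_one] at hy
      exact hp.one_lt.ne hy
    haveI : Nontrivial G := ⟨x, 1, hx1⟩
    obtain ⟨S, hSn, hS0, hmin⟩ := exists_minimal_normal (G := G)
    have hSns : ¬ Group.IsSolvable S := fun h => hS0 (hR S hSn h)
    by_cases hcent : ∀ g ∈ S, x * g * x⁻¹ * g⁻¹ = 1
    · have hxC : x ∈ centralizer (S : Set G) := by
        rw [mem_centralizer_iff]
        intro g hg
        have := hcent g hg
        have h2 : x * g = g * x := by
          calc x * g = (x * g * x⁻¹ * g⁻¹) * (g * x) := by group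
            _ = g * x := by rw [this, one_mul]
        exact h2.symm
      have hCtop : centralizer (S : Set G) ≠ ⊤ := by
        intro h
        apply hSns
        apply Group.isSolvable_of_comm
        intro u v
        apply Subtype.ext
        have hu : (u : G) ∈ centralizer (S : Set G) := by rw [h]; exact mem_top _
        rw [mem_centralizer_iff] at hu
        exact (hu v v.2).symm
      have hlt : Nat.card (centralizer (S : Set G)) < n := hn ▸ card_lt_of_ne_top _ hCtop
      have h1 : (centralizer ({(⟨x, hxC⟩ : centralizer (S : Set G))} :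
          Set (centralizer (S : Set G)))).index ∣ p ^ a := by
        rw [centralizer_subtype', ← hidx]
        exact relIndex_dvd_index_of_normal_right _ _
      obtain ⟨j, -, hj⟩ := (Nat.dvd_prime_pow hp).1 h1
      obtain ⟨N', hN'n, hN's, hx'⟩ := ih _ hlt (centralizer (S : Set G)) rfl ⟨x, hxC⟩ j hj
      obtain ⟨A, hAn, hAs, hLA⟩ := exists_normal_solvable (centralizer (S : Set G))
        (N'.map (centralizer (S : Set G)).subtype) (map_subtype_le N')
        (le_normalizer_map_subtype _ N') (isSolvable_map _ _ hN's)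
      have hxA : x ∈ A := hLA ⟨⟨x, hxC⟩, hx', rfl⟩
      rw [hR A hAn hAs, mem_bot] at hxA
      exact hx1 hxA
    · push Not at hcent
      obtain ⟨g, hgS, hg1⟩ := hcent
      by_cases hH : S ⊔ zpowers x = ⊤
      · -- the core case
        have hex : ∃ s : ℕ, s.Prime ∧ s ≠ p ∧ s ∣ Nat.card S := by
          by_contra hcon
          push Not at hcon
          apply hSns
          have : Nat.card S = p ^ (Nat.card S).primeFactorsList.length :=
            Nat.eq_prime_pow_of_unique_prime_dvd Nat.card_pos.ne' (fun {d} hd hdS => by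
              by_contra hdp
              exact hcon d hd hdp hdS)
          exact isSolvable_of_isPGroup (IsPGroup.of_card this)
        obtain ⟨s, hs, hsp, hsS⟩ := hex
        exact Cfsg.Agent.Lib.Helper67Kazarin.kazarin_core p hp a x hidx hcop S hmin hH
          ⟨g, hgS, hg1⟩ s hs hsp hsS
      · have hlt : Nat.card (S ⊔ zpowers x : Subgroup G) < n := hn ▸ card_lt_of_ne_top _ hH
        have hxH : x ∈ S ⊔ zpowers x := le_sup_right (a := S) (mem_zpowers x)
        have hrel : (centralizer ({x} : Set G)).relIndex (S ⊔ zpowers x) =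
            (centralizer ({x} : Set G)).relIndex S := by
          have e1 := relIndex_eq_relIndex_sup (centralizer ({x} : Set G) ⊓ (S ⊔ zpowers x)) S
          have e2 : (centralizer ({x} : Set G) ⊓ (S ⊔ zpowers x)) ⊔ S = S ⊔ zpowers x := by
            apply le_antisymm
            · exact sup_le inf_le_right le_sup_left
            · apply sup_le le_sup_right
              apply le_trans _ le_sup_left
              apply le_inf _ le_sup_right
              rw [zpowers_le, mem_centralizer_singleton_iff]
          rw [e2, inf_relIndex_right] at e1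
          rw [← e1, ← inf_relIndex_right, inf_assoc,
            inf_eq_right.mpr (le_sup_left : S ≤ S ⊔ zpowers x), inf_relIndex_right]
        have h1 : (centralizer ({(⟨x, hxH⟩ : (S ⊔ zpowers x : Subgroup G))} :
            Set (S ⊔ zpowers x : Subgroup G))).index ∣ p ^ a := by
          rw [centralizer_subtype', ← hidx]
          change (centralizer ({x} : Set G)).relIndex (S ⊔ zpowers x) ∣ _
          rw [hrel]
          exact relIndex_dvd_index_of_normal_right _ _
        obtain ⟨j, -, hj⟩ := (Nat.dvd_prime_pow hp).1 h1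
        obtain ⟨N', hN'n, hN's, hx'⟩ := ih _ hlt (S ⊔ zpowers x : Subgroup G) rfl ⟨x, hxH⟩ j hj
        have hnorm := le_normalizer_map_subtype _ N'
        have hxL : x ∈ N'.map (S ⊔ zpowers x : Subgroup G).subtype := ⟨⟨x, hxH⟩, hx', rfl⟩
        obtain ⟨A, hAn, hAs, hLA⟩ := exists_normal_solvable S
          (N'.map (S ⊔ zpowers x : Subgroup G).subtype ⊓ S) inf_le_right
          (by
            refine le_trans ?_ inf_normalizer_le_normalizer_inf
            exact le_inf (le_sup_left.trans hnorm) le_normalizer)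
          (isSolvable_of_le inf_le_left (isSolvable_map _ _ hN's))
        have hmem : x * g * x⁻¹ * g⁻¹ ∈ A := by
          apply hLA
          refine mem_inf.mpr ⟨?_, ?_⟩
          · have hgn : g ∈ normalizer
                ((N'.map (S ⊔ zpowers x : Subgroup G).subtype : Subgroup G) : Set G) :=
              hnorm (le_sup_left (a := S) hgS)
            rw [mem_normalizer_iff] at hgn
            have h5 := (hgn x⁻¹).1 (inv_mem hxL)
            have h6 : x * g * x⁻¹ * g⁻¹ = x * (g * x⁻¹ * g⁻¹) := by group
            rw [h6]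
            exact mul_mem hxL h5
          · exact S.mul_mem (hSn.conj_mem g hgS x) (S.inv_mem hgS)
        rw [hR A hAn hAs, mem_bot] at hmem
        exact hg1 hmem

/-- **Kazarin's theorem.** -/
theorem kazarin {G : Type u} [Group G] [Finite G] (p : ℕ) (hp : p.Prime) (x : G) (a : ℕ)
    (hidx : (centralizer ({x} : Set G)).index = p ^ a) :
    Group.IsSolvable (normalClosure ({x} : Set G)) := by
  obtain ⟨N, hNn, hNs, hxN⟩ := kazarin_aux p hp _ G rfl x a hidx
  exact isSolvable_of_le (normalClosure_le_normal (Set.singleton_subset_iff.mpr hxN)) hNs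

end Cfsg.Agent.Lib.Helper67Kazarin2
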