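import Mathlib
import Cfsg.Agent.Lib.Helper67Kazarin2
import Cfsg.Agent.Lib.Helper73Class
import Cfsg.Agent.Lib.Helper1Fitting
import Cfsg.Agent.Lib.Helper14PConstr
import Cfsg.Agent.Lib.Helper52PReduced
import Cfsg.Agent.S0044

/-!
Consequences of Kazarin's theorem: conjugates of an element of `p`-power index commute modulo
`O_p(G)`.
-/

set_option autoImplicit false

namespace Cfsg.Agent.Lib.Helper67Kazarin3

open Subgroup Cfsg.Agent.Lib.Helper71Ind Cfsg.Agent.Lib.Helper67Kazarin2

universe u

/-- in a solvable group with trivial `p`-core, two elements of `p`-power index commute. -/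
theorem commute_of_core_trivial' {p : ℕ} (hp : p.Prime) (Q : Type u) [Group Q] [Finite Q]
    [Group.IsSolvable Q]
    (hOp : ∀ R : Subgroup Q, R.Normal → IsPGroup p R → R = ⊥)
    (a b : Q) (ha : ∃ k : ℕ, (centralizer ({a} : Set Q)).index = p ^ k)
    (hb : ∃ k : ℕ, (centralizer ({b} : Set Q)).index = p ^ k) : a * b = b * a := by
  have := Fact.mk hp
  set F := Cfsg.fittingSubgroup Q with hF
  have hFn : F.Normal := Cfsg.Agent.Lib.Helper1Fitting.fitting_normal
  have hFnil : Group.IsNilpotent F := Cfsg.Agent.Lib.Helper1Fitting.fitting_isNilpotent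
  have hpF : ¬ p ∣ Nat.card F := by
    intro hd
    obtain ⟨P⟩ : Nonempty (Sylow p F) := inferInstance
    have hPn : (P : Subgroup F).Normal := inferInstance
    have hPc : (P : Subgroup F).Characteristic := P.characteristic_of_normal hPn
    have h1 : ((P : Subgroup F).map F.subtype).Normal :=
      Cfsg.Agent.Lib.Helper1Char.normal_map_of_characteristic _
    have h2 := hOp _ h1 (P.isPGroup'.map _)
    have h3 : (P : Subgroup F) = ⊥ := by
      rw [← Subgroup.map_bot F.subtype] at h2
      exact Subgroup.map_injective F.subtype_injective h2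
    exact P.ne_bot_of_dvd_card hd h3
  have key : ∀ y : Q, (∃ k : ℕ, (centralizer ({y} : Set Q)).index = p ^ k) →
      F ≤ Subgroup.centralizer ({y} : Set Q) := by
    intro y hy
    obtain ⟨k, hk⟩ := hy
    rw [← Subgroup.relIndex_eq_one]
    have h1 : (Subgroup.centralizer ({y} : Set Q)).relIndex F ∣ p ^ k :=
      hk ▸ relIndex_dvd_index_of_normal_right _ F
    have h2 : (Subgroup.centralizer ({y} : Set Q)).relIndex F ∣ Nat.card F :=
      Subgroup.relIndex_dvd_card _ _
    have hcop : Nat.Coprime (p ^ k) (Nat.card F) :=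
      Nat.Coprime.pow_left _ ((Nat.Prime.coprime_iff_not_dvd hp).2 hpF)
    exact Nat.eq_one_of_dvd_coprimes hcop h1 h2
  have hbF : b ∈ F := by
    apply Cfsg.Agent.S0044.result
    rw [Subgroup.mem_centralizer_iff]
    intro f hf
    have := key b hb hf
    rw [Subgroup.mem_centralizer_singleton_iff] at this
    exact this
  have := key a ha hbF
  rw [Subgroup.mem_centralizer_singleton_iff] at this
  exact this.symm

theorem index_centralizer_conj {G : Type*} [Group G] (x g : G) :
    (centralizer ({g * x * g⁻¹} : Set G)).index = (centralizer ({x} : Set G)).index := by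
  rw [Cfsg.Agent.Lib.Helper73Class.index_centralizer_eq_card_carrier,
    Cfsg.Agent.Lib.Helper73Class.index_centralizer_eq_card_carrier]
  have : ConjClasses.mk (g * x * g⁻¹) = ConjClasses.mk x :=
    ConjClasses.mk_eq_mk_iff_isConj.mpr (isConj_iff.mpr ⟨g, rfl⟩).symm
  rw [this]

/-- with trivial `p`-core, any two conjugates of an element of `p`-power index commute. -/
theorem commute_conj_of_pCore_eq_bot {p : ℕ} (hp : p.Prime) (Q : Type u) [Group Q] [Finite Q]
    (hO : Cfsg.pCore p Q = ⊥) (x : Q) (a : ℕ) (hx : (centralizer ({x} : Set Q)).index = p ^ a)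
    (g h : Q) : (g * x * g⁻¹) * (h * x * h⁻¹) = (h * x * h⁻¹) * (g * x * g⁻¹) := by
  have hsol : Group.IsSolvable (normalClosure ({x} : Set Q)) := kazarin p hp x a hx
  have hmem : ∀ g : Q, g * x * g⁻¹ ∈ normalClosure ({x} : Set Q) := fun g =>
    normalClosure_normal.conj_mem x (subset_normalClosure (Set.mem_singleton x)) g
  have hidx : ∀ g : Q, ∃ k : ℕ, (centralizer ({(⟨g * x * g⁻¹, hmem g⟩ :
      normalClosure ({x} : Set Q))} : Set (normalClosure ({x} : Set Q)))).index = p ^ k := by
    intro g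
    have h1 : (centralizer ({(⟨g * x * g⁻¹, hmem g⟩ :
        normalClosure ({x} : Set Q))} : Set (normalClosure ({x} : Set Q)))).index ∣ p ^ a := by
      rw [centralizer_subtype', ← hx, ← index_centralizer_conj x g]
      exact relIndex_dvd_index_of_normal_right _ _
    obtain ⟨j, -, hj⟩ := (Nat.dvd_prime_pow hp).1 h1
    exact ⟨j, hj⟩
  have hOp : ∀ R : Subgroup (normalClosure ({x} : Set Q)), R.Normal → IsPGroup p R → R = ⊥ := by
    intro R hRn hRp
    have h1 : R ≤ Cfsg.pCore p (normalClosure ({x} : Set Q)) :=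
      Cfsg.Agent.Lib.Helper1Fitting.le_pCore hRn hRp
    have h2 := Cfsg.Agent.Lib.Helper14PConstr.pCore_subgroup_le p (normalClosure ({x} : Set Q))
    rw [hO, le_bot_iff, Subgroup.map_eq_bot_iff_of_injective _ (subtype_injective _)] at h2
    rw [h2] at h1
    exact le_bot_iff.mp h1
  have := commute_of_core_trivial' hp (normalClosure ({x} : Set Q)) hOp
    ⟨g * x * g⁻¹, hmem g⟩ ⟨h * x * h⁻¹, hmem h⟩ (hidx g) (hidx h)
  exact congrArg Subtype.val this

theorem pCore_quotient_pCore {G : Type*} [Group G] [Finite G] (p : ℕ) [Fact p.Prime]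
    [(Cfsg.pCore p G).Normal] : Cfsg.pCore p (G ⧸ Cfsg.pCore p G) = ⊥ := by
  rw [Cfsg.Agent.Lib.Helper52PReduced.pCore_quotient_eq_bot_iff]
  intro D hD hd
  apply Cfsg.Agent.Lib.Helper1Fitting.le_pCore hD
  rintro ⟨d, hdD⟩
  obtain ⟨k, hk⟩ := hd d hdD
  obtain ⟨j, hj⟩ := (Cfsg.Agent.Lib.Helper1Fitting.pCore_isPGroup (G := G) p) ⟨_, hk⟩
  refine ⟨k + j, Subtype.ext ?_⟩
  have h1 : (d ^ p ^ k) ^ p ^ j = 1 := congrArg Subtype.val hj
  show d ^ p ^ (k + j) = 1
  rw [pow_add, pow_mul, h1]

end Cfsg.Agent.Lib.Helper67Kazarin3
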