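import Cfsg.Agent.Lib.H87DLAct
import Cfsg.Agent.Lib.H92HHPsol
import Cfsg.Agent.Lib.H92HHKey
import Cfsg.Agent.Lib.Helper67Kazarin3
import Cfsg.Agent.Lib.Helper38PSolv

/-!
Project 4394 (row S4394), assembly KQ: no quadratic action for `p ≥ 5` (Hall-Higman).
-/

set_option autoImplicit false

namespace Cfsg.Agent.Lib.H87SMKQ

open Cfsg Cfsg.Agent.Lib Cfsg.Agent.Lib.Helper92HHDefs Polynomial

theorem kb' {K V : Type*} [Field K] [AddCommGroup V] [Module K V] [IsAlgClosed K]
    [FiniteDimensional K V] {p : ℕ} [Fact p.Prime] [CharP K p]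
    {H : Type*} [Group H] [Finite H] (hsol : IsPSolvable p H) (hOp : pCore p H = ⊥)
    (j : H →* (Module.End K V)ˣ) (hj : Function.Injective j) (x : H) (hx : orderOf x = p) :
    minDegOn ((j x : (Module.End K V)ˣ) : Module.End K V) ⊤ (p - 1) := by
  have hp : p.Prime := Fact.out
  obtain ⟨q, Q, hq, hqp, hQ, hxQ, u, hu, hcu⟩ :=
    H92HHPsol.exists_q p hsol hOp x 1 le_rfl (by rw [hx, pow_one])
  have : Fact q.Prime := ⟨hq⟩
  have hqK : (q : K) ≠ 0 := by
    intro h0
    have := (CharP.cast_eq_zero_iff K p q).1 h0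
    exact hqp ((Nat.prime_dvd_prime_iff_eq hp hq).1 this).symm
  have hfin : Finite (Q.map j) := by
    have : Finite ((Q.map j : Subgroup (Module.End K V)ˣ) : Set (Module.End K V)ˣ) := by
      rw [Subgroup.coe_map]; exact Set.Finite.image _ (Set.toFinite _)
    exact this
  have hkey := H92HHKey.key p q 1 (Ne.symm hqp) hqK (Q.map j) (hQ.map j) (j x)
    (by
      rintro _ ⟨g, hg, rfl⟩
      exact ⟨x * g * x⁻¹, hxQ g hg, by simp⟩)
    (by rw [← map_pow, pow_one, ← hx, pow_orderOf_eq_one, map_one]) le_rfl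
    ⟨j u, ⟨u, hu, rfl⟩, fun hc => hcu (by
      apply hj
      rw [map_mul, map_mul, map_pow]
      exact hc)⟩
  rcases hkey with h | ⟨-, n₀, m, h1, h2, h3, h4, h5⟩
  · rw [pow_one] at h
    intro f hf hk
    have := h f hf hk
    omega
  · have hn0 : n₀ = 1 := le_antisymm h2 h1
    subst hn0
    rw [pow_one, Nat.sub_self, pow_zero, one_mul] at h5
    exact h5

theorem kq {H₁ : Type*} [Group H₁] [Finite H₁] {p : ℕ} [Fact p.Prime] (hp5 : 5 ≤ p)
    (hs : IsPSolvable p H₁) (h0 : pPrimeCore p H₁ = ⊥) (x : H₁) (hxp : x ^ p ∈ pCore p H₁)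
    (hq : ∀ v ∈ pCore p H₁, Commute x (x * v * x⁻¹ * v⁻¹)) : x ∈ pCore p H₁ := by
  by_contra hx
  have hp : p.Prime := Fact.out
  obtain ⟨d, φ, hker, hq2, -⟩ := H87DLAct.exists_act hs h0 (AlgebraicClosure (ZMod p))
  have hsq := hq2 x x hq
  set V := pCore p H₁ with hV
  let j : H₁ ⧸ V →* (Module.End (AlgebraicClosure (ZMod p)) (Fin d → AlgebraicClosure (ZMod p)))ˣ :=
    QuotientGroup.lift V φ (fun g hg => (hker g).2 hg)
  have hjmk : ∀ g : H₁, j (QuotientGroup.mk' V g) = φ g := fun g => rfl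
  have hj : Function.Injective j := by
    rw [injective_iff_map_eq_one]
    intro a ha
    obtain ⟨g, rfl⟩ := QuotientGroup.mk'_surjective V a
    rw [hjmk] at ha
    exact (QuotientGroup.eq_one_iff g).2 ((hker g).1 ha)
  have hord : orderOf (QuotientGroup.mk' V x) = p := by
    apply orderOf_eq_prime
    · rw [← map_pow]
      exact (QuotientGroup.eq_one_iff _).2 hxp
    · intro h
      exact hx ((QuotientGroup.eq_one_iff x).1 h)
  have key := kb' (K := AlgebraicClosure (ZMod p))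
    (Helper38PSolv.isPSolvable_quotient V hs) (Helper67Kazarin3.pCore_quotient_pCore p) j hj
    (QuotientGroup.mk' V x) hord
  rw [hjmk] at key
  have hmon : (X - C 1 : (AlgebraicClosure (ZMod p))[X]).Monic := monic_X_sub_C 1
  have hdeg : ((X - C 1 : (AlgebraicClosure (ZMod p))[X]) ^ 2).natDegree = 2 := by
    rw [hmon.natDegree_pow, natDegree_X_sub_C, mul_one]
  have := key _ (pow_ne_zero 2 hmon.ne_zero) (by
    intro w _
    rw [map_pow, map_sub, aeval_X, aeval_C, map_one, sq, hsq]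
    rfl)
  rw [hdeg] at this
  omega

end Cfsg.Agent.Lib.H87SMKQ
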