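import Cfsg.Agent.Lib.H87SMSFix

/-!
Project 4394 (row S4394), piece SInv2.
-/

set_option autoImplicit false

namespace Cfsg.Agent.Lib.H87SMSInv2

open Cfsg Cfsg.Agent.Lib Cfsg.Agent.Lib.Helper87SMDefs

/-- `r = 2` is impossible for non-abelian `P`. -/
theorem false_of_two {p : ℕ} [Fact p.Prime] {P : Type*} [Group P] [Finite P] (hP : IsPGroup p P)
    {α : MulAut P} (hd : SDat p 2 α) (hnc : ¬ ∀ a b : P, a * b = b * a) : False := by
  have hx : ∃ x : P, x ∉ Subgroup.center P := by
    by_contra hcon
    push Not at hcon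
    apply hnc
    intro a b
    exact ((Subgroup.mem_center_iff.mp (hcon a)) b).symm
  obtain ⟨x, hx⟩ := hx
  obtain ⟨hcomm, hpw⟩ := H87SMSFix.cls hP hd hnc
  have hfix := H87SMSFix.fix_iff hP hd hnc
  have haa : ∀ u : P, α (α u) = u := by
    intro u
    have := congrArg (fun β : MulAut P => β u) hd.pow
    simpa [pow_two, MulAut.mul_apply] using this
  set y := x * α x with hy
  set z := (α x)⁻¹ * x⁻¹ * (α x)⁻¹⁻¹ * x⁻¹⁻¹ with hz
  have hzc : z ∈ Subgroup.center P := hcomm _ _
  have hzf : α z = z := (hfix z).2 hzc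
  have hay : α y = y * z := by
    rw [hy, map_mul, haa, hz]; group
  have hz2 : z ^ 2 = 1 := by
    have h1 : α (α y) = y * z * z := by rw [hay, map_mul, hay, hzf]
    rw [haa] at h1
    have h2 : y * (z * z) = y * 1 := by rw [mul_one, ← mul_assoc]; exact h1.symm
    rw [pow_two]
    exact mul_left_cancel h2
  obtain ⟨m, hm⟩ := hP z
  have hcop : Nat.Coprime 2 (p ^ m) :=
    Nat.Coprime.pow_right _ ((Nat.coprime_primes hd.rp (Fact.out : p.Prime)).2 hd.ne)
  have hz1 : z = 1 := by
    have h1 := orderOf_dvd_of_pow_eq_one hz2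
    have h2 := orderOf_dvd_of_pow_eq_one hm
    exact orderOf_eq_one_iff.mp (Nat.eq_one_of_dvd_coprimes hcop h1 h2)
  have hyc : y ∈ Subgroup.center P := by
    rw [← hfix, hay, hz1, mul_one]
  -- the subgroup centralizer of x … use `S₀ = closure {x} ⊔ center`
  set S₀ : Subgroup P := Subgroup.closure {x} ⊔ Subgroup.center P with hS₀
  have hxS : x ∈ S₀ := (le_sup_left : Subgroup.closure {x} ≤ S₀) (Subgroup.subset_closure rfl)
  have hcS : Subgroup.center P ≤ S₀ := le_sup_right
  have hScen : S₀ ≤ Subgroup.centralizer {x} := by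
    rw [hS₀, sup_le_iff]
    constructor
    · rw [Subgroup.closure_le]
      rintro w rfl
      show w ∈ Subgroup.centralizer {w}
      rw [Subgroup.mem_centralizer_singleton_iff]
    · intro c hc
      rw [Subgroup.mem_centralizer_singleton_iff]
      exact ((Subgroup.mem_center_iff.mp hc) x).symm
  have hne : S₀ ≠ ⊤ := by
    intro htop
    apply hx
    rw [Subgroup.mem_center_iff]
    intro g
    have : g ∈ Subgroup.centralizer {x} := hScen (by rw [htop]; trivial)
    rw [Subgroup.mem_centralizer_singleton_iff] at this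
    exact this
  have hinv : ∀ s ∈ S₀, α s ∈ S₀ := by
    have hle : S₀ ≤ S₀.comap α.toMonoidHom := by
      rw [hS₀, sup_le_iff]
      constructor
      · rw [Subgroup.closure_le]
        rintro w rfl
        show α w ∈ S₀
        have : α w = w⁻¹ * y := by rw [hy]; group
        rw [this]
        exact S₀.mul_mem (S₀.inv_mem hxS) (hcS hyc)
      · intro c hc
        show α c ∈ S₀
        rw [(hfix c).2 hc]
        exact hcS hc
    intro s hs
    exact hle hs
  exact hx ((hfix x).1 (hd.mini S₀ hne hinv x hxS))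

end Cfsg.Agent.Lib.H87SMSInv2
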