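import Cfsg.Agent.Lib.H87SMSExp

/-!
Project 4394 (row S4394), piece SInv3.
-/

set_option autoImplicit false

namespace Cfsg.Agent.Lib.H87SMSInv3

open Cfsg Cfsg.Agent.Lib Cfsg.Agent.Lib.Helper87SMDefs

/-- `p = 2`, `r = 3`: all involutions of `P` are central. -/
theorem invol_central {P : Type*} [Group P] [Finite P] (hP : IsPGroup 2 P)
    {α : MulAut P} (hd : SDat 2 3 α) (hnc : ¬ ∀ a b : P, a * b = b * a) : ∀ w : P, w ^ 2 = 1 → w ∈ Subgroup.center P := by
  have : Fact (Nat.Prime 2) := ⟨Nat.prime_two⟩
  intro w hw2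
  by_contra hx
  obtain ⟨hcomm, hpw⟩ := H87SMSFix.cls hP hd hnc
  have hfix := H87SMSFix.fix_iff hP hd hnc
  have hexp := H87SMSExp.exp hP hd hnc
  have haaa : ∀ u : P, α (α (α u)) = u := by
    intro u
    have := congrArg (fun β : MulAut P => β u) hd.pow
    simpa [pow_succ, MulAut.mul_apply] using this
  set a := α w with ha
  set b := α a with hb
  have hbw : α b = w := haaa w
  have ha2 : a ^ 2 = 1 := by rw [ha, ← map_pow, hw2, map_one]
  have hb2 : b ^ 2 = 1 := by rw [hb, ← map_pow, ha2, map_one]
  set n := w * a * b with hn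
  set z := n⁻¹ * w⁻¹ * n⁻¹⁻¹ * w⁻¹⁻¹ with hz
  have hzc : z ∈ Subgroup.center P := hcomm _ _
  have hzf : α z = z := (hfix z).2 hzc
  have han : α n = n * z := by
    have h1 : α n = a * b * w := by rw [hn, map_mul, map_mul, hbw]
    rw [h1, hz, hn]; group
  have hz3 : z ^ 3 = 1 := by
    have h1 : α (α (α n)) = n * z * z * z := by
      rw [han, map_mul, han, hzf, map_mul, map_mul, han, hzf]
    rw [haaa] at h1
    have h2 : n * (z * z * z) = n * 1 := by
      rw [mul_one]
      calc n * (z * z * z) = n * z * z * z := by simp only [mul_assoc]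
        _ = n := h1.symm
    have h3 := mul_left_cancel h2
    rw [pow_succ, pow_two]; exact h3
  have hz2 : z ^ 2 = 1 := hexp z hzc
  have hz1 : z = 1 := by
    have : z ^ 3 = z ^ 2 * z := pow_succ z 2
    rw [hz3, hz2, one_mul] at this
    exact this.symm
  have hnc' : n ∈ Subgroup.center P := by
    rw [← hfix, han, hz1, mul_one]
  have hn2 : n ^ 2 = 1 := hexp n hnc'
  have hncomm : ∀ g : P, g * n = n * g := fun g => Subgroup.mem_center_iff.mp hnc' g
  have hbeq : b = (w * a)⁻¹ * n := by rw [hn]; group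
  have hwa2 : (w * a) ^ 2 = 1 := by
    have h1 : b ^ 2 = ((w * a)⁻¹) ^ 2 * n ^ 2 := by
      have hc : Commute ((w * a)⁻¹) n := hncomm _
      rw [hbeq, hc.mul_pow]
    rw [hb2, hn2, mul_one, inv_pow] at h1
    exact inv_eq_one.mp h1.symm
  have hwinv : w⁻¹ = w := by
    rw [inv_eq_iff_mul_eq_one, ← pow_two]; exact hw2
  have hainv : a⁻¹ = a := by
    rw [inv_eq_iff_mul_eq_one, ← pow_two]; exact ha2
  have hwa : w * a = a * w := by
    have h1 : (w * a)⁻¹ = w * a := by
      rw [inv_eq_iff_mul_eq_one, ← pow_two]; exact hwa2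
    rw [mul_inv_rev, hwinv, hainv] at h1
    exact h1.symm
  set S₀ : Subgroup P := Subgroup.closure {w, a} ⊔ Subgroup.center P with hS₀
  have hwS : w ∈ S₀ := (le_sup_left : Subgroup.closure {w, a} ≤ S₀) (Subgroup.subset_closure (by simp))
  have haS : a ∈ S₀ := (le_sup_left : Subgroup.closure {w, a} ≤ S₀) (Subgroup.subset_closure (by simp))
  have hcS : Subgroup.center P ≤ S₀ := le_sup_right
  have hScen : S₀ ≤ Subgroup.centralizer {w} := by
    rw [hS₀, sup_le_iff]
    constructor
    · rw [Subgroup.closure_le]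
      rintro u (rfl | hu)
      · show u ∈ Subgroup.centralizer {u}
        rw [Subgroup.mem_centralizer_singleton_iff]
      · rw [Set.mem_singleton_iff] at hu
        subst hu
        show α w ∈ Subgroup.centralizer {w}
        rw [Subgroup.mem_centralizer_singleton_iff]
        exact hwa.symm
    · intro c hc
      rw [Subgroup.mem_centralizer_singleton_iff]
      exact ((Subgroup.mem_center_iff.mp hc) w).symm
  have hne : S₀ ≠ ⊤ := by
    intro htop
    apply hx
    rw [Subgroup.mem_center_iff]
    intro g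
    have : g ∈ Subgroup.centralizer {w} := hScen (by rw [htop]; trivial)
    rw [Subgroup.mem_centralizer_singleton_iff] at this
    exact this
  have hinv : ∀ s ∈ S₀, α s ∈ S₀ := by
    have hle : S₀ ≤ S₀.comap α.toMonoidHom := by
      rw [hS₀, sup_le_iff]
      constructor
      · rw [Subgroup.closure_le]
        rintro u (rfl | hu)
        · exact haS
        · rw [Set.mem_singleton_iff] at hu
          show α u ∈ S₀
          rw [hu]
          show b ∈ S₀
          rw [hbeq]
          exact S₀.mul_mem (S₀.inv_mem (S₀.mul_mem hwS haS)) (hcS hnc')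
      · intro c hc
        show α c ∈ S₀
        rw [(hfix c).2 hc]
        exact hcS hc
    intro s hs
    exact hle hs
  exact hx ((hfix w).1 (hd.mini S₀ hne hinv w hwS))

end Cfsg.Agent.Lib.H87SMSInv3
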