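import Cfsg.Agent.Lib.H87SMSFix

/-!
Project 4394 (row S4394), piece SOrb.
-/

set_option autoImplicit false

namespace Cfsg.Agent.Lib.H87SMSOrb

open Cfsg Cfsg.Agent.Lib Cfsg.Agent.Lib.Helper87SMDefs

/-- `|P| ≡ |Z(P)| (mod r)`. -/
theorem card_modEq {p r : ℕ} [Fact p.Prime] {P : Type*} [Group P] [Finite P] (hP : IsPGroup p P)
    {α : MulAut P} (hd : SDat p r α) (hnc : ¬ ∀ a b : P, a * b = b * a) : Nat.card P ≡ Nat.card (Subgroup.center P) [MOD r] := by
  have : Fact r.Prime := ⟨hd.rp⟩
  have hord : orderOf α = r := orderOf_eq_prime hd.pow hd.ne1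
  have hpg : IsPGroup r (Subgroup.zpowers α) := by
    apply IsPGroup.of_card (n := 1)
    rw [Nat.card_zpowers, hord, pow_one]
  have h1 := hpg.card_modEq_card_fixedPoints P
  have h2 : Nat.card (MulAction.fixedPoints (Subgroup.zpowers α) P) = Nat.card (Subgroup.center P) := by
    apply Nat.card_congr
    apply Equiv.setCongr
    ext x
    constructor
    · intro hx
      have := hx ⟨α, Subgroup.mem_zpowers α⟩
      exact (H87SMSFix.fix_iff hP hd hnc x).1 this
    · intro hx
      have hfx : α x = x := (H87SMSFix.fix_iff hP hd hnc x).2 hx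
      rintro ⟨β, hβ⟩
      show β x = x
      have hle : Subgroup.zpowers α ≤ MulAction.stabilizer (MulAut P) x := by
        rw [Subgroup.zpowers_le]
        exact hfx
      exact hle hβ
  rw [← h2]
  exact h1

end Cfsg.Agent.Lib.H87SMSOrb
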