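import Cfsg.Agent.Lib.H87SMSExp

/-!
Project 4394 (row S4394), assembly Ses.
-/

set_option autoImplicit false

namespace Cfsg.Agent.Lib.H87SMSes

open Cfsg Cfsg.Agent.Lib Cfsg.Agent.Lib.Helper87SMDefs

theorem ses {p r : ℕ} [Fact p.Prime] {P : Type*} [Group P] [Finite P] (hP : IsPGroup p P)
    {α : MulAut P} (hd : SDat p r α) (hnc : ¬ ∀ a b : P, a * b = b * a) : SES p P where
  comm := (H87SMSFix.cls hP hd hnc).1
  pw := (H87SMSFix.cls hP hd hnc).2
  surj := H87SMSSurj.surj hP hd hnc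
  exp := H87SMSExp.exp hP hd hnc

end Cfsg.Agent.Lib.H87SMSes
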