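import Cfsg.Agent.Lib.H87SMKQ
import Cfsg.Agent.Lib.H87SMSes
import Cfsg.Agent.Lib.H87SMSOrb
import Cfsg.Agent.Lib.H87SMSInv2
import Cfsg.Agent.Lib.H87SMSInv3
import Cfsg.Agent.Lib.H87SMGAmb
import Cfsg.Agent.Lib.H87SMG5
import Cfsg.Agent.Lib.H87SMG6
import Cfsg.Agent.Lib.H87SMG7a
import Cfsg.Agent.Lib.H87SMG7b

/-!
Project 4394 (row S4394), assembly Main.
-/

set_option autoImplicit false

namespace Cfsg.Agent.Lib.H87SMMain

open Cfsg Cfsg.Agent.Lib Cfsg.Agent.Lib.Helper87SMDefs

theorem main {G : Type*} [Group G] [Finite G] {p : ℕ} [Fact p.Prime] (hs : IsPSolvable p G)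
    (h0 : pPrimeCore p G = ⊥) (S : Sylow p G) (hSD : SD p ↥(S : Subgroup G)) :
    (S : Subgroup G) ≤ pCore p G := by
  have hp : p.Prime := Fact.out
  obtain ⟨r, α, hd⟩ := hSD
  by_cases hc : ∀ a b : ↥(S : Subgroup G), a * b = b * a
  · exact H87SMG1.ab hs h0 S (fun a ha b hb => congrArg Subtype.val (hc ⟨a, ha⟩ ⟨b, hb⟩))
  have hSp : IsPGroup p ↥(S : Subgroup G) := S.isPGroup'
  have hses := H87SMSes.ses hSp hd hc
  obtain ⟨Z, hZdef⟩ : ∃ Z : Subgroup G,
      Z = (Subgroup.center ↥(S : Subgroup G)).map (S : Subgroup G).subtype := ⟨_, rfl⟩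
  have hZ : SESin p (S : Subgroup G) Z := by rw [hZdef]; exact H87SMGAmb.amb _ hses
  have hWp := H87SMG2.W_prop hs h0 S hZ
  have hVS := H87SMG1.V_le S
  rcases H87SMG5.alt hs h0 S hZ with h1 | ⟨hcZ, hcW⟩
  · have hWZ : Subgroup.normalClosure (Z : Set G) ≤ Z := by
      intro w hw
      apply hZ.iscen w (hVS (hWp w hw).1)
      intro s hs'
      exact (Subgroup.mem_centralizer_iff.1 (h1 hs') w hw)
    have hEq : Z = Subgroup.normalClosure (Z : Set G) :=
      le_antisymm Subgroup.subset_normalClosure hWZ
    have hn : Z.Normal := by rw [hEq]; exact Subgroup.normalClosure_normal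
    exact H87SMG6.le_of_normal hs h0 S hZ hn
  · by_cases hU : ∀ g ∈ (S : Subgroup G) ⊓ Subgroup.centralizer
        ((Subgroup.normalClosure (Z : Set G) : Subgroup G) : Set G),
        ∀ h ∈ (S : Subgroup G) ⊓ Subgroup.centralizer
          ((Subgroup.normalClosure (Z : Set G) : Subgroup G) : Set G), g * h = h * g
    · have hS3 := H87SMG7b.card_S hs h0 S hZ hcZ hcW hU
      have hcen : Nat.card (Subgroup.center ↥(S : Subgroup G)) = p := by
        have h2 : Nat.card Z = Nat.card (Subgroup.center ↥(S : Subgroup G)) := by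
          rw [hZdef]
          exact Subgroup.card_map_of_injective (S : Subgroup G).subtype_injective
        rw [← h2]; exact hcZ
      have hmod := H87SMSOrb.card_modEq hSp hd hc
      rw [hS3, hcen] at hmod
      by_cases hp5 : 5 ≤ p
      · intro x hx
        apply H87SMKQ.kq hp5 hs h0 x (H87SMG1.Z_le hs h0 S hZ (hZ.pw x hx))
        intro v hv
        exact (hZ.cen _ (hZ.comm x hx v (hVS hv)) x hx).symm
      · exfalso
        have hp2 := hp.two_le
        have hrp := hd.rp
        have hne := hd.ne
        have hcases : p = 2 ∨ p = 3 := by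
          have : p < 5 := by omega
          interval_cases p
          · left; rfl
          · right; rfl
          · exact absurd hp (by norm_num)
        rcases hcases with rfl | rfl
        · -- p = 2
          have hdvd : r ∣ 6 := by
            have := (Nat.modEq_iff_dvd' (by norm_num : 2 ≤ 2 ^ 3)).1 hmod.symm
            simpa using this
          have hr3 : r = 3 := by
            have hle : r ≤ 6 := Nat.le_of_dvd (by norm_num) hdvd
            interval_cases r <;> first | rfl | (exfalso; revert hrp hdvd hne; norm_num)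
          subst hr3
          have hinv := H87SMSInv3.invol_central hSp hd hc
          -- an element of W outside Z
          have hex : ∃ w ∈ Subgroup.normalClosure (Z : Set G), w ∉ Z := by
            by_contra hcon
            push Not at hcon
            have := Subgroup.card_le_of_le (show Subgroup.normalClosure (Z : Set G) ≤ Z from hcon)
            rw [hcZ, hcW] at this
            norm_num at this
          obtain ⟨w, hw, hwZ⟩ := hex
          apply hwZ
          have hwS : w ∈ (S : Subgroup G) := hVS (hWp w hw).1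
          have := hinv ⟨w, hwS⟩ (Subtype.ext (hWp w hw).2.2)
          rw [hZdef]
          exact ⟨⟨w, hwS⟩, this, rfl⟩
        · -- p = 3
          have hdvd : r ∣ 24 := by
            have := (Nat.modEq_iff_dvd' (by norm_num : 3 ≤ 3 ^ 3)).1 hmod.symm
            simpa using this
          have hr2 : r = 2 := by
            have h1 : r ∣ 2 ^ 3 * 3 := by simpa using hdvd
            rcases (Nat.Prime.dvd_mul hrp).1 h1 with h | h
            · exact (Nat.prime_dvd_prime_iff_eq hrp Nat.prime_two).1 (hrp.dvd_of_dvd_pow h)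
            · exact absurd ((Nat.prime_dvd_prime_iff_eq hrp Nat.prime_three).1 h) hne
          subst hr2
          exact H87SMSInv2.false_of_two hSp hd hc
    · push Not at hU
      obtain ⟨g, hg, h, hh, hne⟩ := hU
      exact H87SMG6.le_of_normal hs h0 S hZ
        (H87SMG7a.normal_of_noncomm hs h0 S hZ hcZ g h hg hh hne)

end Cfsg.Agent.Lib.H87SMMain
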