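import Cfsg.Agent.Lib.H87SMS1Mini

/-!
Project 4394 (row S4394), piece S1Ne.
-/

set_option autoImplicit false

namespace Cfsg.Agent.Lib.H87SMS1Ne

open Cfsg Cfsg.Agent.Lib Cfsg.Agent.Lib.Helper87SMDefs

/-- `y` does not centralise `P`.
Proof. Otherwise `X = P ⊔ zpowers y` with commuting factors: the map `↥P × ↥(zpowers y) →* X`, `(t, g) ↦ t * g` (`MonoidHom.noncommCoprod` / `Subgroup.noncommPiCoprod`; or `MonoidHom.coprod`-like by hand) is surjective (`htop`, `P` normal) and the product of the nilpotent groups `↥P` (`IsPGroup.isNilpotent`) and `↥(zpowers y)` (commutative) is nilpotent (`Group.isNilpotent_prod`); a quotient of a nilpotent group is nilpotent (`Group.nilpotent_of_surjective`): contradiction with `hX.1`. -/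
theorem ne {X : Type*} [Group X] [Finite X] {p : ℕ} [Fact p.Prime]
    (hX : Cfsg.IsMinimalNonNilpotent X) (P : Sylow p X) (hPn : (P : Subgroup X).Normal)
    {r : ℕ} (hr : r.Prime) (hrp : r ≠ p) (y : X) (hy : ∃ k : ℕ, orderOf y = r ^ k)
    (htop : (P : Subgroup X) ⊔ Subgroup.zpowers y = ⊤) : ∃ t ∈ (P : Subgroup X), ¬ Commute y t := by
  by_contra hcon
  push Not at hcon
  haveI := hPn
  apply hX.1
  haveI : Group.IsNilpotent ↥(P : Subgroup X) := P.isPGroup'.isNilpotent
  haveI : Group.IsNilpotent ↥(Subgroup.zpowers y) := by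
    letI : CommGroup ↥(Subgroup.zpowers y) := IsCyclic.commGroup
    exact CommGroup.isNilpotent
  have hcomm : ∀ (m : ↥(P : Subgroup X)) (n : ↥(Subgroup.zpowers y)),
      Commute ((P : Subgroup X).subtype m) ((Subgroup.zpowers y).subtype n) := by
    intro m n
    obtain ⟨k, hk⟩ := Subgroup.mem_zpowers_iff.1 n.2
    show Commute (m : X) (n : X)
    rw [← hk]
    exact ((hcon m.1 m.2).zpow_left k).symm
  let f : ↥(P : Subgroup X) × ↥(Subgroup.zpowers y) →* X :=
    MonoidHom.noncommCoprod (P : Subgroup X).subtype (Subgroup.zpowers y).subtype hcomm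
  have hf : Function.Surjective f := by
    intro x
    have h1 : x ∈ (P : Subgroup X) ⊔ Subgroup.zpowers y := by rw [htop]; trivial
    rw [Subgroup.mem_sup_of_normal_left] at h1
    obtain ⟨t, ht, g, hg, rfl⟩ := h1
    exact ⟨(⟨t, ht⟩, ⟨g, hg⟩), rfl⟩
  exact Group.nilpotent_of_surjective f hf

end Cfsg.Agent.Lib.H87SMS1Ne
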