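import Cfsg.Agent.Lib.H87SMS1Mini

/-!
Project 4394 (row S4394), piece S1Pow.
-/

set_option autoImplicit false

namespace Cfsg.Agent.Lib.H87SMS1Pow

open Cfsg Cfsg.Agent.Lib Cfsg.Agent.Lib.Helper87SMDefs

/-- `y^r` centralises `P`.
Proof. `K = P ⊔ zpowers (y^r)`; `P` is normal, so every element of `K` is `t * (y^r)^k` (`Subgroup.mem_sup_of_normal_left`/`Subgroup.normal_mul`). `K ≠ ⊤`: otherwise `y = t * y^(r k)`, `y^(1 - r k) = t ∈ P ⊓ zpowers y`, so `y^(1 - r * k) = 1` (`H87SMS1Mini.disj`), `(orderOf y : ℤ) ∣ 1 - r * k` (`orderOf_dvd_iff_zpow_eq_one`).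
`y ≠ 1` (else `P = ⊤` is nilpotent, being a `p`-group: `IsPGroup.isNilpotent`, transport along `Subgroup.topEquiv`; against `hX.1`), so `orderOf y = r^(k'+1)`, `r ∣ orderOf y`, `r ∣ 1`: contradiction. So `K` is nilpotent and `y^r` (order a power of `r`: `orderOf_pow_dvd`, `Nat.dvd_prime_pow`) commutes with every `t ∈ P`: `H87SMSNil.commute_of_mem`. -/
theorem pow {X : Type*} [Group X] [Finite X] {p : ℕ} [Fact p.Prime]
    (hX : Cfsg.IsMinimalNonNilpotent X) (P : Sylow p X) (hPn : (P : Subgroup X).Normal)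
    {r : ℕ} (hr : r.Prime) (hrp : r ≠ p) (y : X) (hy : ∃ k : ℕ, orderOf y = r ^ k)
    (htop : (P : Subgroup X) ⊔ Subgroup.zpowers y = ⊤) : ∀ t ∈ (P : Subgroup X), Commute (y ^ r) t := by
  haveI := hPn
  have hy1 : y ≠ 1 := by
    rintro rfl
    apply hX.1
    rw [Subgroup.zpowers_one_eq_bot, sup_bot_eq] at htop
    haveI : Group.IsNilpotent ↥(P : Subgroup X) := P.isPGroup'.isNilpotent
    have e : ↥(P : Subgroup X) ≃* X := (MulEquiv.subgroupCongr htop).trans Subgroup.topEquiv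
    exact Group.nilpotent_of_surjective e.toMonoidHom e.surjective
  have hK : (P : Subgroup X) ⊔ Subgroup.zpowers (y ^ r) ≠ ⊤ := by
    intro hK
    have h1 : y ∈ (P : Subgroup X) ⊔ Subgroup.zpowers (y ^ r) := by rw [hK]; trivial
    rw [Subgroup.mem_sup_of_normal_left] at h1
    obtain ⟨t, ht, g, hg, h⟩ := h1
    obtain ⟨k, rfl⟩ := Subgroup.mem_zpowers_iff.1 hg
    have h2 : t = y ^ (1 - (r : ℤ) * k) := by
      have h0 : t = y * ((y ^ r) ^ k)⁻¹ := eq_mul_inv_of_mul_eq h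
      rw [h0, ← zpow_natCast y r, ← zpow_mul, zpow_sub, zpow_one]
    have h3 : t = 1 := H87SMS1Mini.disj hX P hPn hr hrp y hy htop t ht
      (by rw [h2]; exact Subgroup.zpow_mem_zpowers y _)
    rw [h3] at h2
    have h4 : (orderOf y : ℤ) ∣ 1 - (r : ℤ) * k := orderOf_dvd_iff_zpow_eq_one.2 h2.symm
    obtain ⟨k', hk'⟩ := hy
    have hk0 : k' ≠ 0 := by
      rintro rfl
      rw [pow_zero, orderOf_eq_one_iff] at hk'
      exact hy1 hk'
    have h5 : (r : ℤ) ∣ (orderOf y : ℤ) := by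
      rw [hk']
      exact_mod_cast dvd_pow_self r hk0
    have h6 : (r : ℤ) ∣ 1 := by
      have := h5.trans h4
      have h7 : (r : ℤ) ∣ (r : ℤ) * k := dvd_mul_right _ _
      have := dvd_add this h7
      simpa using this
    have h8 : r ∣ 1 := by exact_mod_cast h6
    exact hr.one_lt.ne' (Nat.dvd_one.1 h8)
  intro t ht
  obtain ⟨k, hk⟩ := hy
  obtain ⟨a, ha⟩ := (IsPGroup.iff_orderOf.1 P.isPGroup') ⟨t, ht⟩
  rw [Subgroup.orderOf_mk] at ha
  apply H87SMSNil.commute_of_mem _ (hX.2 _ hK) (y ^ r) t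
    (Subgroup.mem_sup_right (Subgroup.mem_zpowers _)) (Subgroup.mem_sup_left ht)
  have h1 : orderOf (y ^ r) ∣ r ^ k := by rw [← hk]; exact orderOf_pow_dvd r
  rw [ha]
  exact Nat.Coprime.coprime_dvd_left h1
    (Nat.Coprime.pow _ _ ((Nat.coprime_primes hr (Fact.out : p.Prime)).2 hrp))

end Cfsg.Agent.Lib.H87SMS1Pow
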