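import Cfsg.Agent.Lib.H87SMS1P
import Cfsg.Agent.Lib.H87SMS1Pow
import Cfsg.Agent.Lib.H87SMS1Ne

/-!
Project 4394 (row S4394), assembly S1.
-/

set_option autoImplicit false

namespace Cfsg.Agent.Lib.H87SMS1

open Cfsg Cfsg.Agent.Lib Cfsg.Agent.Lib.Helper87SMDefs

theorem sd {X : Type*} [Group X] [Finite X] (p : ℕ) [Fact p.Prime]
    (hX : Cfsg.IsMinimalNonNilpotent X) (P : Sylow p X) (hPn : (P : Subgroup X).Normal)
    (hP1 : (P : Subgroup X) ≠ ⊥) : SD p ↥(P : Subgroup X) := by
  obtain ⟨r, y, hr, hrp, hy, htop⟩ := H87SMS1P.exists_y p hX P hPn hP1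
  refine ⟨r, MulAut.conjNormal y, hr, hrp, ?_, ?_, ?_⟩
  · rw [← map_pow]
    apply MulEquiv.ext
    intro t
    apply Subtype.ext
    rw [MulAut.conjNormal_apply]
    have := H87SMS1Pow.pow hX P hPn hr hrp y hy htop t t.2
    rw [this.eq, mul_inv_cancel_right]
    rfl
  · intro h
    obtain ⟨t, ht, hc⟩ := H87SMS1Ne.ne hX P hPn hr hrp y hy htop
    apply hc
    have h1 := congrArg (fun f : MulAut ↥(P : Subgroup X) => ((f ⟨t, ht⟩ : ↥(P : Subgroup X)) : X)) h
    simp only [MulAut.conjNormal_apply, MulAut.one_apply] at h1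
    exact mul_inv_eq_iff_eq_mul.1 h1
  · intro S hS hinv s hs
    have key := H87SMS1Mini.mini hX P hPn hr hrp y hy htop (S.map (P : Subgroup X).subtype)
      (by
        rintro _ ⟨a, -, rfl⟩
        exact a.2)
      (by
        intro h
        apply hS
        rw [eq_top_iff]
        intro a _
        have : (a : X) ∈ S.map (P : Subgroup X).subtype := by rw [h]; exact a.2
        obtain ⟨b, hb, hba⟩ := this
        have : b = a := Subtype.ext hba
        rwa [← this])
      (by
        rintro _ ⟨a, ha, rfl⟩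
        exact ⟨MulAut.conjNormal y a, hinv a ha, by rw [Subgroup.coe_subtype, MulAut.conjNormal_apply]⟩)
      s ⟨s, hs, rfl⟩
    apply Subtype.ext
    rw [MulAut.conjNormal_apply]
    have h2 : y * (s : X) = s * y := key.eq
    rw [h2, mul_inv_cancel_right]

end Cfsg.Agent.Lib.H87SMS1
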