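import Cfsg.Agent.Lib.H87SMSNil
import Cfsg.Prelude.Def_SolvableStructure

/-!
Project 4394 (row S4394), piece S1Mini.
-/

set_option autoImplicit false

namespace Cfsg.Agent.Lib.H87SMS1Mini

open Cfsg Cfsg.Agent.Lib Cfsg.Agent.Lib.Helper87SMDefs

/-- `P ⊓ ⟨y⟩ = ⊥` (an element of both has order a power of `p` and a power of `r`). -/
theorem disj {X : Type*} [Group X] [Finite X] {p : ℕ} [Fact p.Prime]
    (hX : Cfsg.IsMinimalNonNilpotent X) (P : Sylow p X) (hPn : (P : Subgroup X).Normal)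
    {r : ℕ} (hr : r.Prime) (hrp : r ≠ p) (y : X) (hy : ∃ k : ℕ, orderOf y = r ^ k)
    (htop : (P : Subgroup X) ⊔ Subgroup.zpowers y = ⊤) : ∀ g ∈ (P : Subgroup X), g ∈ Subgroup.zpowers y → g = 1 := by
  intro g hg hgy
  obtain ⟨k, hk⟩ := hy
  obtain ⟨a, ha⟩ := (IsPGroup.iff_orderOf.1 P.isPGroup') ⟨g, hg⟩
  rw [Subgroup.orderOf_mk] at ha
  have h1 : orderOf g ∣ r ^ k := by rw [← hk]; exact orderOf_dvd_of_mem_zpowers hgy
  have h2 : Nat.Coprime (p ^ a) (r ^ k) :=
    Nat.Coprime.pow _ _ ((Nat.coprime_primes (Fact.out : p.Prime) hr).2 (Ne.symm hrp))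
  rw [ha] at h1
  have h3 := Nat.Coprime.eq_one_of_dvd h2 h1
  rw [h3] at ha
  exact orderOf_eq_one_iff.1 ha

/-- `y` centralises every proper `y`-invariant subgroup `S` of `P`.
Proof. `K = S ⊔ zpowers y`; `zpowers y` normalises `S` (`hinv` for `y`; for `y⁻¹` use finiteness: conjugation by `y` maps `S` injectively into `S`, hence onto; or `y⁻¹ = y^(orderOf y - 1)`), so every element of `K` is `s * y^k` (`Subgroup.mem_sup_of_normal_left`-type lemma / `Subgroup.sup_eq_closure_mul`, `Subgroup.mul_normal` inside the normaliser; or show directly that `{s * y^k}` is a subgroup).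
`K ≠ ⊤`: otherwise each `t ∈ P` is `s * y^k`, `y^k = s⁻¹ * t ∈ P ⊓ zpowers y`, so `y^k = 1` (`disj`) and `t = s ∈ S`: `S = P`, against `hne`. So `K` is nilpotent (`hX.2`), and `y`, `s` have coprime orders (`r^k` and a power of `p`: `P.isPGroup'`): `H87SMSNil.commute_of_mem`. -/
theorem mini {X : Type*} [Group X] [Finite X] {p : ℕ} [Fact p.Prime]
    (hX : Cfsg.IsMinimalNonNilpotent X) (P : Sylow p X) (hPn : (P : Subgroup X).Normal)
    {r : ℕ} (hr : r.Prime) (hrp : r ≠ p) (y : X) (hy : ∃ k : ℕ, orderOf y = r ^ k)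
    (htop : (P : Subgroup X) ⊔ Subgroup.zpowers y = ⊤) (S : Subgroup X) (hS : S ≤ (P : Subgroup X)) (hne : S ≠ (P : Subgroup X))
    (hinv : ∀ s ∈ S, y * s * y⁻¹ ∈ S) : ∀ s ∈ S, Commute y s := by
  have hyN : y ∈ Subgroup.normalizer (S : Set X) := by
    rw [Subgroup.mem_normalizer_iff]
    intro h
    refine ⟨hinv h, fun hh => ?_⟩
    let f : S → S := fun s => ⟨y * s.1 * y⁻¹, hinv s.1 s.2⟩
    have hf : Function.Injective f := by
      intro a b hab
      have := congrArg Subtype.val hab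
      apply Subtype.ext
      simpa [f] using this
    obtain ⟨s, hs⟩ := (Finite.injective_iff_surjective.1 hf) ⟨y * h * y⁻¹, hh⟩
    have := congrArg Subtype.val hs
    have h2 : s.1 = h := by simpa [f] using this
    rw [← h2]
    exact s.2
  have hK : S ⊔ Subgroup.zpowers y ≠ ⊤ := by
    intro hK
    have hle : S ⊔ Subgroup.zpowers y ≤ Subgroup.normalizer (S : Set X) :=
      sup_le Subgroup.le_normalizer (by rw [Subgroup.zpowers_le]; exact hyN)
    rw [hK, top_le_iff, Subgroup.normalizer_eq_top_iff] at hle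
    haveI := hle
    apply hne
    apply le_antisymm hS
    intro t ht
    have h1 : t ∈ S ⊔ Subgroup.zpowers y := by rw [hK]; trivial
    rw [Subgroup.mem_sup_of_normal_left] at h1
    obtain ⟨s, hs, g, hg, rfl⟩ := h1
    have h2 : g ∈ (P : Subgroup X) := by
      have : g = s⁻¹ * (s * g) := by group
      rw [this]
      exact mul_mem (inv_mem (hS hs)) ht
    rw [disj hX P hPn hr hrp y hy htop g h2 hg, mul_one]
    exact hs
  intro s hs
  obtain ⟨k, hk⟩ := hy
  obtain ⟨a, ha⟩ := (IsPGroup.iff_orderOf.1 P.isPGroup') ⟨s, hS hs⟩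
  rw [Subgroup.orderOf_mk] at ha
  apply H87SMSNil.commute_of_mem _ (hX.2 _ hK) y s
    (Subgroup.mem_sup_right (Subgroup.mem_zpowers y)) (Subgroup.mem_sup_left hs)
  rw [hk, ha]
  exact Nat.Coprime.pow _ _ ((Nat.coprime_primes hr (Fact.out : p.Prime)).2 hrp)

end Cfsg.Agent.Lib.H87SMS1Mini
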