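import Cfsg.Agent.Lib.Helper87SMDefs
import Cfsg.Agent.S0536

/-!
Project 4394 (row S4394), piece S1P.
-/

set_option autoImplicit false

namespace Cfsg.Agent.Lib.H87SMS1P

open Cfsg Cfsg.Agent.Lib Cfsg.Agent.Lib.Helper87SMDefs

/-- Proof. `S0536.result hX` gives primes `r ≠ p₀`, a cyclic Sylow `r`-subgroup `R`, a normal Sylow `p₀`-subgroup `P₀`, `R ⊔ P₀ = ⊤`. So `|X|` divides `|R| |P₀|` (`Subgroup.card_mul...`/`Nat.card_sup_dvd..`; or: a prime `ℓ ∉ {r, p₀}` dividing `|X|`... use `Subgroup.mul_normal`, every element is `a * b`) and only `r, p₀` divide `|X|`. As `P ≠ ⊥`, `p ∣ |X|`, so `p ∈ {r, p₀}`.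
If `p = r` (`subst`): the Sylow `p`-subgroup `P` and the Sylow `p₀`-subgroup `P₀` are normal, the Sylow `ℓ`-subgroups for the other primes are trivial, so `X` is nilpotent (`isNilpotent_of_finite_tfae`: all Sylow subgroups normal; if one Sylow `ℓ`-subgroup is normal then all are, they are conjugate/equal: `Sylow.normal_of_all_max...`/`Subsingleton (Sylow ℓ X)` via `Sylow.unique_of_normal`) against `hX.1`.
So `p = p₀` (`subst`), `P = P₀` (unique normal Sylow subgroup; or just use conjugacy) and `y` = a generator of `R` (`IsCyclic.exists_generator`, `zpowers (y : X) = R`), a `r`-element (`R.isPGroup'`, `IsPGroup.iff_orderOf`). -/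
theorem exists_y {X : Type*} [Group X] [Finite X] (p : ℕ) [Fact p.Prime]
    (hX : Cfsg.IsMinimalNonNilpotent X) (P : Sylow p X) (hPn : (P : Subgroup X).Normal)
    (hP1 : (P : Subgroup X) ≠ ⊥) :
    ∃ (r : ℕ) (y : X), r.Prime ∧ r ≠ p ∧ (∃ k : ℕ, orderOf y = r ^ k) ∧
      (P : Subgroup X) ⊔ Subgroup.zpowers y = ⊤ := by
  obtain ⟨r, p₀, hr, hp₀, hne, R, P₀, hcyc, hn, htop⟩ := Cfsg.Agent.S0536.result hX
  haveI : Fact r.Prime := ⟨hr⟩
  haveI : Fact p₀.Prime := ⟨hp₀⟩
  haveI := hn
  haveI := hPn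
  have hp : p.Prime := Fact.out
  -- p divides |X|
  have hpX : p ∣ Nat.card X := by
    have h1 : Nat.card (P : Subgroup X) ≠ 1 := by
      intro h
      exact hP1 ((Subgroup.card_eq_one).1 h)
    obtain ⟨a, ha⟩ := (IsPGroup.iff_card.1 P.isPGroup')
    have ha0 : a ≠ 0 := by
      rintro rfl
      exact h1 (by simpa using ha)
    have h2 : p ∣ Nat.card (P : Subgroup X) := by rw [ha]; exact dvd_pow_self p ha0
    exact h2.trans (Subgroup.card_subgroup_dvd_card _)
  have hidx : (P₀ : Subgroup X).index ∣ Nat.card (R : Subgroup X) := by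
    rw [← Subgroup.relIndex_top_right, ← htop, Subgroup.relIndex_sup_right]
    exact Subgroup.relIndex_dvd_card _ _
  have hcases : p = r ∨ p = p₀ := by
    rw [← Subgroup.card_mul_index (P₀ : Subgroup X)] at hpX
    rcases (Nat.Prime.dvd_mul hp).1 hpX with h | h
    · right
      obtain ⟨a, ha⟩ := (IsPGroup.iff_card.1 P₀.isPGroup')
      rw [ha] at h
      exact (Nat.prime_dvd_prime_iff_eq hp hp₀).1 (hp.dvd_of_dvd_pow h)
    · left
      obtain ⟨a, ha⟩ := (IsPGroup.iff_card.1 R.isPGroup')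
      have := h.trans hidx
      rw [ha] at this
      exact (Nat.prime_dvd_prime_iff_eq hp hr).1 (hp.dvd_of_dvd_pow this)
  rcases hcases with rfl | rfl
  · exfalso
    apply hX.1
    have hRP : R = P := by
      haveI := Sylow.unique_of_normal P hPn
      exact Subsingleton.elim _ _
    subst hRP
    haveI : Group.IsNilpotent ↥(R : Subgroup X) := R.isPGroup'.isNilpotent
    haveI : Group.IsNilpotent ↥(P₀ : Subgroup X) := P₀.isPGroup'.isNilpotent
    have hdis : Disjoint (R : Subgroup X) (P₀ : Subgroup X) :=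
      IsPGroup.disjoint_of_ne p p₀ hne _ _ R.isPGroup' P₀.isPGroup'
    have hcomm : ∀ (m : ↥(R : Subgroup X)) (n : ↥(P₀ : Subgroup X)),
        Commute ((R : Subgroup X).subtype m) ((P₀ : Subgroup X).subtype n) := fun m n =>
      Subgroup.commute_of_normal_of_disjoint _ _ hPn hn hdis m.1 n.1 m.2 n.2
    let f : ↥(R : Subgroup X) × ↥(P₀ : Subgroup X) →* X :=
      MonoidHom.noncommCoprod (R : Subgroup X).subtype (P₀ : Subgroup X).subtype hcomm
    have hf : Function.Surjective f := by
      intro x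
      have h1 : x ∈ (R : Subgroup X) ⊔ (P₀ : Subgroup X) := by rw [htop]; trivial
      rw [Subgroup.mem_sup_of_normal_left] at h1
      obtain ⟨t, ht, g, hg, rfl⟩ := h1
      exact ⟨(⟨t, ht⟩, ⟨g, hg⟩), rfl⟩
    exact Group.nilpotent_of_surjective f hf
  · have hPP : P₀ = P := by
      haveI := Sylow.unique_of_normal P hPn
      exact Subsingleton.elim _ _
    subst hPP
    obtain ⟨g, hg⟩ := IsCyclic.exists_generator (α := ↥(R : Subgroup X))
    have hz : Subgroup.zpowers (g : X) = (R : Subgroup X) := by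
      ext x
      constructor
      · intro hx
        obtain ⟨k, rfl⟩ := Subgroup.mem_zpowers_iff.1 hx
        exact zpow_mem g.2 k
      · intro hx
        obtain ⟨k, hk⟩ := Subgroup.mem_zpowers_iff.1 (hg ⟨x, hx⟩)
        rw [Subgroup.mem_zpowers_iff]
        exact ⟨k, by have := congrArg Subtype.val hk; simpa using this⟩
    refine ⟨r, g, hr, hne, ?_, ?_⟩
    · obtain ⟨a, ha⟩ := (IsPGroup.iff_orderOf.1 R.isPGroup') g
      exact ⟨a, by rw [← ha]; exact (Subgroup.orderOf_coe g)⟩
    · rw [hz, sup_comm]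
      exact htop

end Cfsg.Agent.Lib.H87SMS1P
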