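import Cfsg.Agent.Lib.H87SMSGen

/-!
Project 4394 (row S4394), piece SCen.
-/

set_option autoImplicit false

namespace Cfsg.Agent.Lib.H87SMSCen

open Cfsg Cfsg.Agent.Lib Cfsg.Agent.Lib.Helper87SMDefs

/-- A normal subgroup fixed pointwise by `α` is central. -/
theorem le_center {p r : ℕ} [Fact p.Prime] {P : Type*} [Group P] [Finite P] (hP : IsPGroup p P)
    {α : MulAut P} (hd : SDat p r α) (N : Subgroup P) (hN : N.Normal) (hfix : ∀ n ∈ N, α n = n) :
    N ≤ Subgroup.center P := by
  intro n hn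
  have hle : Subgroup.closure {w : P | ∃ x : P, w = x⁻¹ * α x} ≤ Subgroup.centralizer {n} := by
    rw [Subgroup.closure_le]
    rintro w ⟨x, rfl⟩
    show x⁻¹ * α x ∈ Subgroup.centralizer {n}
    rw [Subgroup.mem_centralizer_singleton_iff]
    have h1 : α (x * n * x⁻¹) = x * n * x⁻¹ := hfix _ (hN.conj_mem n hn x)
    rw [map_mul, map_mul, map_inv, hfix n hn] at h1
    -- α x * n * (α x)⁻¹ = x * n * x⁻¹
    have h2 : α x * n = x * n * x⁻¹ * α x := by
      rw [← h1]; group
    calc x⁻¹ * α x * n = x⁻¹ * (α x * n) := by group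
      _ = x⁻¹ * (x * n * x⁻¹ * α x) := by rw [h2]
      _ = n * (x⁻¹ * α x) := by group
  rw [H87SMSGen.gen hP hd] at hle
  rw [Subgroup.mem_center_iff]
  intro g
  have := hle (Subgroup.mem_top g)
  rw [Subgroup.mem_centralizer_singleton_iff] at this
  exact this

end Cfsg.Agent.Lib.H87SMSCen
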