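import Cfsg.Agent.Lib.H87SMSFix

/-!
Project 4394 (row S4394), piece SDer.
-/

set_option autoImplicit false

namespace Cfsg.Agent.Lib.H87SMSDer

open Cfsg Cfsg.Agent.Lib Cfsg.Agent.Lib.Helper87SMDefs

/-- `Z(P) ≤ P'` (norm argument in the abelianisation). -/
theorem center_le {p r : ℕ} [Fact p.Prime] {P : Type*} [Group P] [Finite P] (hP : IsPGroup p P)
    {α : MulAut P} (hd : SDat p r α) (hnc : ¬ ∀ a b : P, a * b = b * a) : Subgroup.center P ≤ commutator P := by
  let M : P →* Abelianization P := MonoidHom.mk'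
    (fun x => ∏ i ∈ Finset.range r, Abelianization.of ((α ^ i) x))
    (by
      intro a b
      simp only [map_mul]
      exact Finset.prod_mul_distrib)
  have hM : ∀ x, M x = ∏ i ∈ Finset.range r, Abelianization.of ((α ^ i) x) := fun x => rfl
  have hMα : ∀ x, M (α x) = M x := by
    intro x
    rw [hM, hM]
    have e1 : ∀ i, (α ^ i) (α x) = (α ^ (i + 1)) x := by
      intro i
      rw [pow_succ]
      rfl
    simp only [e1]
    have h1 := Finset.prod_range_succ (fun i => Abelianization.of ((α ^ i) x)) r
    have h2 := Finset.prod_range_succ' (fun i => Abelianization.of ((α ^ i) x)) r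
    rw [h1] at h2
    rw [hd.pow, pow_zero] at h2
    exact (mul_right_cancel h2).symm
  have hker : M.ker = ⊤ := by
    rw [eq_top_iff, ← H87SMSGen.gen hP hd, Subgroup.closure_le]
    rintro w ⟨x, rfl⟩
    change x⁻¹ * α x ∈ M.ker
    rw [MonoidHom.mem_ker, map_mul, map_inv, hMα, inv_mul_cancel]
  intro z hz
  have hfix : ∀ i : ℕ, (α ^ i) z = z := by
    intro i
    induction i with
    | zero => simp
    | succ n ih =>
      rw [pow_succ]
      change (α ^ n) (α z) = z
      rw [(H87SMSFix.fix_iff hP hd hnc z).2 hz, ih]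
  have hMz : M z = 1 := by
    have : z ∈ M.ker := by rw [hker]; exact Subgroup.mem_top _
    exact this
  have h1 : (Abelianization.of z) ^ r = 1 := by
    rw [← hMz, hM]
    simp only [hfix]
    rw [Finset.prod_const, Finset.card_range]
  obtain ⟨m, hm⟩ := hP z
  have h2 : (Abelianization.of z) ^ (p ^ m) = 1 := by
    rw [← map_pow, hm, map_one]
  have hcop : Nat.Coprime r (p ^ m) := by
    apply Nat.Coprime.pow_right
    exact (Nat.coprime_primes hd.rp (Fact.out)).2 hd.ne
  have h3 : Abelianization.of z = 1 := by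
    have := pow_gcd_eq_one.2 ⟨h1, h2⟩
    rw [hcop] at this
    simpa using this
  exact (QuotientGroup.eq_one_iff z).1 h3

end Cfsg.Agent.Lib.H87SMSDer
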