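import Cfsg.Agent.Lib.H87SMSSurj

/-!
Project 4394 (row S4394), piece SExp.
-/

set_option autoImplicit false

namespace Cfsg.Agent.Lib.H87SMSExp

open Cfsg Cfsg.Agent.Lib Cfsg.Agent.Lib.Helper87SMDefs

/-- `Z(P)` has exponent `p`. -/
theorem exp {p r : ℕ} [Fact p.Prime] {P : Type*} [Group P] [Finite P] (hP : IsPGroup p P)
    {α : MulAut P} (hd : SDat p r α) (hnc : ¬ ∀ a b : P, a * b = b * a) : ∀ z ∈ Subgroup.center P, z ^ p = 1 := by
  intro z hz
  have hx : ∃ x : P, x ∉ Subgroup.center P := by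
    by_contra hcon
    push Not at hcon
    apply hnc
    intro a b
    exact ((Subgroup.mem_center_iff.mp (hcon a)) b).symm
  obtain ⟨x, hx⟩ := hx
  obtain ⟨g, hg⟩ := H87SMSSurj.surj hP hd hnc x hx z hz
  obtain ⟨hcomm, hpw⟩ := H87SMSFix.cls hP hd hnc
  have hcz : ∀ y : P, y * z = z * y := fun y => Subgroup.mem_center_iff.mp hz y
  have key : ∀ n : ℕ, x ^ n * g * (x ^ n)⁻¹ * g⁻¹ = z ^ n := by
    intro n
    induction n with
    | zero => simp
    | succ n ih =>
      have h1 : x ^ n * g * (x ^ n)⁻¹ = z ^ n * g := by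
        rw [← ih]; group
      have h2 : x * g * x⁻¹ = z * g := by
        rw [← hg]; group
      have hczn : x * z ^ n = z ^ n * x := by
        have : Commute x z := hcz x
        exact (this.pow_right n)
      calc x ^ (n + 1) * g * (x ^ (n + 1))⁻¹ * g⁻¹
          = x * (x ^ n * g * (x ^ n)⁻¹) * x⁻¹ * g⁻¹ := by
            rw [pow_succ']; group
        _ = x * (z ^ n * g) * x⁻¹ * g⁻¹ := by rw [h1]
        _ = (x * z ^ n) * g * x⁻¹ * g⁻¹ := by group
        _ = z ^ n * (x * g * x⁻¹) * g⁻¹ := by rw [hczn]; group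
        _ = z ^ n * (z * g) * g⁻¹ := by rw [h2]
        _ = z ^ (n + 1) := by rw [pow_succ]; group
  rw [← key p]
  have hc := Subgroup.mem_center_iff.mp (hpw x) g
  -- g * x^p = x^p * g
  rw [← hc]
  group

end Cfsg.Agent.Lib.H87SMSExp
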