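import Cfsg.Agent.Lib.H87SMSCen
import Cfsg.Agent.S0012

/-!
Project 4394 (row S4394), piece SFix.
-/

set_option autoImplicit false

namespace Cfsg.Agent.Lib.H87SMSFix

open Cfsg Cfsg.Agent.Lib Cfsg.Agent.Lib.Helper87SMDefs
open scoped commutatorElement

/-- the Frattini subgroup is fixed pointwise. -/
theorem frattini_fixed {p r : ℕ} [Fact p.Prime] {P : Type*} [Group P] [Finite P] (hP : IsPGroup p P)
    {α : MulAut P} (hd : SDat p r α) : ∀ f ∈ frattini P, α f = f := by
  have hnt : Nontrivial P := by
    by_contra hn
    rw [not_nontrivial_iff_subsingleton] at hn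
    apply hd.ne1
    ext x
    exact Subsingleton.elim _ _
  have hne : frattini P ≠ ⊤ := by
    intro htop
    rcases eq_top_or_exists_le_coatom (⊥ : Subgroup P) with h | ⟨M, hM, -⟩
    · exact bot_ne_top h
    · have := frattini_le_coatom hM
      rw [htop] at this
      exact hM.1 (top_le_iff.1 this)
  have hchar : (frattini P).Characteristic := frattini_characteristic
  apply hd.mini _ hne
  intro s hs
  have := Subgroup.characteristic_iff_map_eq.1 hchar α
  rw [← this]
  exact Subgroup.mem_map_of_mem _ hs

/-- For non-abelian `P` the fixed points of `α` are exactly the centre. -/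
theorem fix_iff {p r : ℕ} [Fact p.Prime] {P : Type*} [Group P] [Finite P] (hP : IsPGroup p P)
    {α : MulAut P} (hd : SDat p r α) (hnc : ¬ ∀ a b : P, a * b = b * a) : ∀ x : P, α x = x ↔ x ∈ Subgroup.center P := by
  intro x
  constructor
  · intro hx
    let F : Subgroup P := (α.toMonoidHom).eqLocus (MonoidHom.id P)
    have hF : ∀ y, y ∈ F ↔ α y = y := fun y => Iff.rfl
    have hcomm : commutator P ≤ F := by
      intro y hy
      exact (hF y).2 (frattini_fixed hP hd y ((S0012.result p hP).1 hy))
    have hN : F.Normal := by
      constructor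
      intro f hf g
      have h1 : g * f * g⁻¹ = (g * f * g⁻¹ * f⁻¹) * f := by group
      rw [h1]
      apply F.mul_mem _ hf
      apply hcomm
      have : g * f * g⁻¹ * f⁻¹ = ⁅g, f⁆ := rfl
      rw [this, commutator_def]
      exact Subgroup.commutator_mem_commutator (Subgroup.mem_top _) (Subgroup.mem_top _)
    exact H87SMSCen.le_center hP hd F hN (fun n hn => (hF n).1 hn) ((hF x).2 hx)
  · intro hx
    have hne : Subgroup.center P ≠ ⊤ := by
      intro htop
      apply hnc
      intro a b
      have ha : a ∈ Subgroup.center P := by rw [htop]; exact Subgroup.mem_top _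
      exact ((Subgroup.mem_center_iff.1 ha) b).symm
    have hchar : (Subgroup.center P).Characteristic := inferInstance
    refine hd.mini _ hne ?_ x hx
    intro s hs
    have := Subgroup.characteristic_iff_map_eq.1 hchar α
    rw [← this]
    exact Subgroup.mem_map_of_mem _ hs

/-- commutators and `p`-th powers lie in the centre. -/
theorem cls {p r : ℕ} [Fact p.Prime] {P : Type*} [Group P] [Finite P] (hP : IsPGroup p P)
    {α : MulAut P} (hd : SDat p r α) (hnc : ¬ ∀ a b : P, a * b = b * a) :
    (∀ x y : P, x * y * x⁻¹ * y⁻¹ ∈ Subgroup.center P) ∧ ∀ x : P, x ^ p ∈ Subgroup.center P := by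
  constructor
  · intro x y
    rw [← fix_iff hP hd hnc]
    apply frattini_fixed hP hd
    apply (S0012.result p hP).1
    have : x * y * x⁻¹ * y⁻¹ = ⁅x, y⁆ := rfl
    rw [this, commutator_def]
    exact Subgroup.commutator_mem_commutator (Subgroup.mem_top _) (Subgroup.mem_top _)
  · intro x
    rw [← fix_iff hP hd hnc]
    apply frattini_fixed hP hd
    exact (S0012.result p hP).2 x

end Cfsg.Agent.Lib.H87SMSFix
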