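import Cfsg.Agent.Lib.Helper87SMDefs

/-!
Project 4394 (row S4394), piece SGen.
-/

set_option autoImplicit false

namespace Cfsg.Agent.Lib.H87SMSGen

open Cfsg Cfsg.Agent.Lib Cfsg.Agent.Lib.Helper87SMDefs

/-- `P = [P, α]`. -/
theorem gen {p r : ℕ} [Fact p.Prime] {P : Type*} [Group P] [Finite P] (hP : IsPGroup p P)
    {α : MulAut P} (hd : SDat p r α) : Subgroup.closure {w : P | ∃ x : P, w = x⁻¹ * α x} = ⊤ := by
  by_contra hne
  set K : Subgroup P := Subgroup.closure {w : P | ∃ x : P, w = x⁻¹ * α x} with hK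
  have hinv : ∀ s ∈ K, α s ∈ K := by
    intro s hs
    have hle : K ≤ K.comap α.toMonoidHom := by
      rw [hK, Subgroup.closure_le]
      rintro w ⟨x, rfl⟩
      show α (x⁻¹ * α x) ∈ K
      rw [map_mul, map_inv]
      exact Subgroup.subset_closure ⟨α x, rfl⟩
    exact hle hs
  have hfix := hd.mini K hne hinv
  apply hd.ne1
  ext x
  show α x = x
  have hk : x⁻¹ * α x ∈ K := Subgroup.subset_closure ⟨x, rfl⟩
  set k := x⁻¹ * α x with hkdef
  have hax : α x = x * k := by rw [hkdef]; group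
  have hpow : ∀ i : ℕ, (α ^ i) x = x * k ^ i := by
    intro i
    induction i with
    | zero => simp
    | succ i ih =>
      rw [pow_succ', MulAut.mul_apply, ih, map_mul, map_pow, hfix k hk, hax, pow_succ', mul_assoc]
  have hkr : k ^ r = 1 := by
    have h := hpow r
    rw [hd.pow, MulAut.one_apply] at h
    exact (mul_eq_left.mp h.symm)
  obtain ⟨m, hm⟩ := hP k
  have hcop : Nat.Coprime r (p ^ m) :=
    Nat.Coprime.pow_right _ ((Nat.coprime_primes hd.rp (Fact.out : p.Prime)).2 hd.ne)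
  have hk1 : k = 1 := by
    have h1 := orderOf_dvd_of_pow_eq_one hkr
    have h2 := orderOf_dvd_of_pow_eq_one hm
    have := Nat.eq_one_of_dvd_coprimes hcop h1 h2
    exact orderOf_eq_one_iff.mp this
  rw [hax, hk1, mul_one]

end Cfsg.Agent.Lib.H87SMSGen
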