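import Cfsg.Agent.Lib.Helper87SMDefs
import Cfsg.Agent.Lib.Helper31Nilpotent

/-!
Project 4394 (row S4394), piece SNil.
-/

set_option autoImplicit false

namespace Cfsg.Agent.Lib.H87SMSNil

open Cfsg Cfsg.Agent.Lib Cfsg.Agent.Lib.Helper87SMDefs

/-- In a finite nilpotent group elements of coprime orders commute. -/
theorem commute_of_coprime {K : Type*} [Group K] [Finite K] [Group.IsNilpotent K] (g s : K)
    (h : (orderOf g).Coprime (orderOf s)) : Commute g s :=
  Helper31Nilpotent.coprime_commute K g s h

/-- ambient form for a nilpotent subgroup. -/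
theorem commute_of_mem {X : Type*} [Group X] [Finite X] (K : Subgroup X) (hK : Group.IsNilpotent K)
    (g s : X) (hg : g ∈ K) (hs : s ∈ K) (h : (orderOf g).Coprime (orderOf s)) : Commute g s := by
  have h1 : Commute (⟨g, hg⟩ : K) ⟨s, hs⟩ := by
    apply commute_of_coprime
    rwa [Subgroup.orderOf_mk, Subgroup.orderOf_mk]
  have := congrArg Subtype.val h1.eq
  exact this

end Cfsg.Agent.Lib.H87SMSNil
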