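import Cfsg.Agent.Lib.H87SMSDer

/-!
Project 4394 (row S4394), piece SSurj.
-/

set_option autoImplicit false

namespace Cfsg.Agent.Lib.H87SMSSurj

open Cfsg Cfsg.Agent.Lib Cfsg.Agent.Lib.Helper87SMDefs
open scoped commutatorElement

/-- `[x, P] = Z(P)` for `x ∉ Z(P)`. -/
theorem surj {p r : ℕ} [Fact p.Prime] {P : Type*} [Group P] [Finite P] (hP : IsPGroup p P)
    {α : MulAut P} (hd : SDat p r α) (hnc : ¬ ∀ a b : P, a * b = b * a) (x : P) (hx : x ∉ Subgroup.center P) :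
    ∀ z ∈ Subgroup.center P, ∃ g : P, x * g * x⁻¹ * g⁻¹ = z := by
  have hcc := (H87SMSFix.cls hP hd hnc).1
  have hcen : ∀ a b c : P, (a * b * a⁻¹ * b⁻¹) * c = c * (a * b * a⁻¹ * b⁻¹) := fun a b c =>
    ((Subgroup.mem_center_iff.1 (hcc a b)) c).symm
  -- bilinearity
  have hR : ∀ a g h : P, a * (g * h) * a⁻¹ * (g * h)⁻¹ = (a * g * a⁻¹ * g⁻¹) * (a * h * a⁻¹ * h⁻¹) := by
    intro a g h
    have e : a * (g * h) * a⁻¹ * (g * h)⁻¹ = a * g * a⁻¹ * ((a * h * a⁻¹ * h⁻¹) * g⁻¹) := by group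
    rw [e, hcen a h g⁻¹]
    group
  have hL : ∀ a b h : P, (a * b) * h * (a * b)⁻¹ * h⁻¹ = (b * h * b⁻¹ * h⁻¹) * (a * h * a⁻¹ * h⁻¹) := by
    intro a b h
    have e : (a * b) * h * (a * b)⁻¹ * h⁻¹ = a * ((b * h * b⁻¹ * h⁻¹) * (h * a⁻¹ * h⁻¹)) := by group
    rw [e, ← mul_assoc, ← hcen b h a]
    group
  let c : P →* P := MonoidHom.mk' (fun g => x * g * x⁻¹ * g⁻¹) (fun g h => hR x g h)
  have hc : ∀ g, c g = x * g * x⁻¹ * g⁻¹ := fun g => rfl
  let T : Subgroup P := c.range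
  have hLinv : ∀ a h : P, a⁻¹ * h * a⁻¹⁻¹ * h⁻¹ = (a * h * a⁻¹ * h⁻¹)⁻¹ := by
    intro a h
    have := hL a a⁻¹ h
    rw [mul_inv_cancel] at this
    have e1 : (1 : P) * h * 1⁻¹ * h⁻¹ = 1 := by group
    rw [e1] at this
    exact eq_inv_of_mul_eq_one_left this.symm
  let R : Subgroup P :=
    { carrier := {g | ∀ h, g * h * g⁻¹ * h⁻¹ ∈ T}
      one_mem' := by
        intro h
        have e1 : (1 : P) * h * 1⁻¹ * h⁻¹ = 1 := by group
        rw [e1]; exact T.one_mem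
      mul_mem' := by
        intro a b ha hb h
        rw [hL]
        exact T.mul_mem (hb h) (ha h)
      inv_mem' := by
        intro a ha h
        rw [hLinv]
        exact T.inv_mem (ha h) }
  have hRmem : ∀ g, g ∈ R ↔ ∀ h, g * h * g⁻¹ * h⁻¹ ∈ T := fun g => Iff.rfl
  have hxR : x ∈ R := by
    rw [hRmem]
    intro h
    exact ⟨h, rfl⟩
  have hinv : ∀ s ∈ R, α s ∈ R := by
    intro s hs
    rw [hRmem] at hs ⊢
    intro h
    have e : α s * h * (α s)⁻¹ * h⁻¹ = α (s * (α⁻¹ h) * s⁻¹ * (α⁻¹ h)⁻¹) := by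
      simp
    rw [e, (H87SMSFix.fix_iff hP hd hnc _).2 (hcc _ _)]
    exact hs _
  have hRtop : R = ⊤ := by
    by_contra hne
    exact hx ((H87SMSFix.fix_iff hP hd hnc x).1 (hd.mini R hne hinv x hxR))
  have hcomm : commutator P ≤ T := by
    rw [commutator_def, Subgroup.commutator_le]
    intro a _ b _
    have : a ∈ R := by rw [hRtop]; exact Subgroup.mem_top _
    exact (hRmem a).1 this b
  intro z hz
  obtain ⟨g, hg⟩ := hcomm (H87SMSDer.center_le hP hd hnc hz)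
  exact ⟨g, hg⟩

end Cfsg.Agent.Lib.H87SMSSurj
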