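import Cfsg.Agent.Lib.Helper87SMDefs

/-!
Project 4394 (row S4394), piece STrans.
-/

set_option autoImplicit false

namespace Cfsg.Agent.Lib.H87SMSTrans

open Cfsg Cfsg.Agent.Lib Cfsg.Agent.Lib.Helper87SMDefs

/-- transport along an isomorphism. -/
theorem trans {p : ℕ} {P P' : Type*} [Group P] [Group P'] (e : P ≃* P') (h : SD p P) : SD p P' := by
  obtain ⟨r, α, hd⟩ := h
  let α' : MulAut P' := e.symm.trans (α.trans e)
  have happ : ∀ y : P', α' y = e (α (e.symm y)) := fun y => rfl
  have hpow : ∀ (k : ℕ) (y : P'), (α' ^ k) y = e ((α ^ k) (e.symm y)) := by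
    intro k
    induction k with
    | zero => intro y; simp
    | succ k ih =>
      intro y
      rw [pow_succ', MulAut.mul_apply, ih, happ, pow_succ', MulAut.mul_apply]
      simp
  refine ⟨r, α', ⟨hd.rp, hd.ne, ?_, ?_, ?_⟩⟩
  · ext y
    rw [hpow, hd.pow]
    simp
  · intro h1
    apply hd.ne1
    ext x
    have := happ (e x)
    rw [h1] at this
    simp only [MulAut.one_apply, MulEquiv.symm_apply_apply] at this
    simpa using (e.injective this).symm
  · intro S' hS' hinv s hs
    have hne : S'.comap e.toMonoidHom ≠ ⊤ := by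
      intro htop
      apply hS'
      rw [eq_top_iff]
      intro y _
      have : e.symm y ∈ S'.comap e.toMonoidHom := by rw [htop]; trivial
      simpa [Subgroup.mem_comap] using this
    have hinv' : ∀ t ∈ S'.comap e.toMonoidHom, α t ∈ S'.comap e.toMonoidHom := by
      intro t ht
      have h1 : e t ∈ S' := ht
      have := hinv (e t) h1
      rw [happ] at this
      simpa [Subgroup.mem_comap] using this
    have hmem : e.symm s ∈ S'.comap e.toMonoidHom := by
      simpa [Subgroup.mem_comap] using hs
    have := hd.mini _ hne hinv' (e.symm s) hmem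
    rw [happ, this]
    simp

end Cfsg.Agent.Lib.H87SMSTrans
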