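import Cfsg.Agent.Lib.H87SMTTriv

/-!
Project 4394 (row S4394), piece TB.
-/

set_option autoImplicit false

namespace Cfsg.Agent.Lib.H87SMTB

open Cfsg Cfsg.Agent.Lib Cfsg.Agent.Lib.Helper87SMDefs

theorem fixB {p q : ℕ} [Fact p.Prime] [Fact q.Prime] (hpq : p ≠ q) {H W : Type*} [Group H] [Finite H]
    [CommGroup W] [Finite W] {j : H →* MulAut W} {A Q : Subgroup H} {Z : Subgroup W} {x : H}
    (h : TCtx p q j A Q Z x) (b : H) (hb : b ∈ A) (hbQ : ∀ u ∈ Q, Commute b u) :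
    ∀ t ∈ W1 j Q, j b t = t := by
  let δ : W →* W :=
    { toFun := fun w => j b w * w⁻¹
      map_one' := by simp
      map_mul' := by
        intro a c
        rw [map_mul, mul_inv]
        exact mul_mul_mul_comm _ _ _ _ }
  have hδ : ∀ w, δ w = j b w * w⁻¹ := fun _ => rfl
  have hcomm : ∀ u ∈ Q, ∀ w, j u (δ w) = δ (j u w) := by
    intro u hu w
    rw [hδ, hδ, map_mul, map_inv, ← MulAut.mul_apply, ← MulAut.mul_apply, ← map_mul, ← map_mul,
      (hbQ u hu).eq]
  have hfix := H87SMTTriv.triv hpq h δ.range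
    (by
      rintro u hu _ ⟨w, rfl⟩
      exact ⟨j u w, (hcomm u hu w).symm⟩)
    (by
      rintro _ ⟨w, rfl⟩
      exact h.fixZ x h.xA _ (h.quad b hb w))
  intro t ht
  unfold W1 at ht
  induction ht using Subgroup.closure_induction with
  | mem t ht =>
    obtain ⟨u, hu, w, rfl⟩ := ht
    have h1 : δ (j u w * w⁻¹) = 1 := by
      rw [map_mul, map_inv, ← hcomm u hu w, hfix u hu _ ⟨w, rfl⟩, mul_inv_cancel]
    rw [hδ] at h1
    exact mul_inv_eq_one.mp h1
  | one => rw [map_one]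
  | mul a c _ _ ha hc => rw [map_mul, ha, hc]
  | inv a _ ha => rw [map_inv, ha]

end Cfsg.Agent.Lib.H87SMTB
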