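import Cfsg.Agent.Lib.H87SMTCyc

/-!
Project 4394 (row S4394), piece TCard.
-/

set_option autoImplicit false

namespace Cfsg.Agent.Lib.H87SMTCard

open Cfsg Cfsg.Agent.Lib Cfsg.Agent.Lib.Helper87SMDefs

/-- `|Z| = p` and `|W| = p^2`.
Proof. `δ : W →* W`, `δ w = j x w * w⁻¹`. `δ.range ≤ Z` (`h.quad`). `δ.ker = Z`: `⊇` by `h.fixZ`; `⊆`: if `j x f = f` then `j a f = f` for all `a ∈ A` (`a = x^k`, `H87SMTCyc.mem_zpowers`; `map_zpow`), so `f ∈ Z` (`H87SMTFix.fix_mem`).
`Z ≠ ⊤` (else `j x = 1`). Take `t ∉ Z`. Every `z ∈ Z` is `j a t * t⁻¹` with `a = x^k`, and `j (x^k) t * t⁻¹ = (δ t)^k` (as `δ t ∈ Z` is fixed by `j x`: induction for `k : ℕ`; reduce `k : ℤ` to `ℕ` by `x^p = 1`, or do `zpow` induction). So `Z ≤ zpowers (δ t)`, `δ t ∈ Z`, `(δ t)^p = 1`, `δ t ≠ 1` (`t ∉ δ.ker`): `Z = zpowers (δ t)` has order `p` (`orderOf_eq_prime`, `Nat.card_zpowers`), and `δ.range = Z`.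
`Nat.card W = Nat.card δ.ker * Nat.card δ.range` (`Subgroup.card_eq_card_quotient_mul_card_subgroup` + `QuotientGroup.quotientKerEquivRange`, or `MonoidHom.card_...`) `= p * p`. -/
theorem card {p q : ℕ} [Fact p.Prime] [Fact q.Prime] (hpq : p ≠ q) {H W : Type*} [Group H] [Finite H]
    [CommGroup W] [Finite W] {j : H →* MulAut W} {A Q : Subgroup H} {Z : Subgroup W} {x : H}
    (h : TCtx p q j A Q Z x) : Nat.card Z = p ∧ Nat.card W = p ^ 2 := by
  classical
  have hpp := (Fact.out : p.Prime)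
  let δ : W →* W :=
    { toFun := fun w => j x w * w⁻¹
      map_one' := by simp
      map_mul' := by
        intro a b
        rw [map_mul, mul_inv]
        exact mul_mul_mul_comm _ _ _ _ }
  have hδ : ∀ w, δ w = j x w * w⁻¹ := fun _ => rfl
  have hpowers : ∀ a ∈ A, ∃ k : ℕ, x ^ k = a := by
    intro a ha
    have h1 := H87SMTCyc.mem_zpowers hpq h a ha
    rw [← mem_powers_iff_mem_zpowers] at h1
    exact Submonoid.mem_powers_iff _ _ |>.1 h1
  have hker : δ.ker = Z := by
    ext f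
    rw [MonoidHom.mem_ker, hδ, mul_inv_eq_one]
    constructor
    · intro hf
      apply H87SMTFix.fix_mem hpq h f
      intro a ha
      obtain ⟨k, rfl⟩ := hpowers a ha
      induction k with
      | zero => simp
      | succ k ih =>
        rw [pow_succ, map_mul, MulAut.mul_apply, hf]
        exact ih (A.pow_mem h.xA k)
    · exact h.fixZ x h.xA f
  obtain ⟨t, ht⟩ : ∃ t : W, t ∉ Z := by
    by_contra hcon
    push Not at hcon
    apply h.x1
    apply h.inj
    rw [map_one]
    ext w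
    exact h.fixZ x h.xA w (hcon w)
  set c : W := δ t with hc
  have hcZ : c ∈ Z := h.quad x h.xA t
  have hc1 : c ≠ 1 := by
    intro h1
    apply ht
    rw [← hker]
    exact h1
  have hxt : j x t = c * t := by rw [hc, hδ, inv_mul_cancel_right]
  have hxc : j x c = c := h.fixZ x h.xA c hcZ
  have hpow : ∀ k : ℕ, j (x ^ k) t = c ^ k * t := by
    intro k
    induction k with
    | zero => simp
    | succ k ih =>
      rw [pow_succ', map_mul, MulAut.mul_apply, ih, map_mul, map_pow, hxc, hxt, pow_succ, mul_assoc]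
  have hZ : Z = Subgroup.zpowers c := by
    apply le_antisymm
    · intro z hz
      obtain ⟨a, ha, haz⟩ := h.surj t ht z hz
      obtain ⟨k, rfl⟩ := hpowers a ha
      rw [hpow, mul_inv_cancel_right] at haz
      rw [← haz]
      exact Subgroup.pow_mem _ (Subgroup.mem_zpowers c) k
    · exact Subgroup.zpowers_le.2 hcZ
  have hZc : Nat.card Z = p := by
    rw [hZ, Nat.card_zpowers, orderOf_eq_prime (h.expW c) hc1]
  have hrange : δ.range = Z := by
    apply le_antisymm
    · rintro _ ⟨w, rfl⟩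
      exact h.quad x h.xA w
    · rw [hZ, Subgroup.zpowers_le]
      exact ⟨t, rfl⟩
  refine ⟨hZc, ?_⟩
  have h5 := Subgroup.card_mul_index δ.ker
  rw [Subgroup.index_ker, hrange, hker, hZc] at h5
  rw [← h5, pow_two]

end Cfsg.Agent.Lib.H87SMTCard
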