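import Cfsg.Agent.Lib.Helper87SMDefs

/-!
Project 4394 (row S4394), piece TCop.
-/

set_option autoImplicit false

namespace Cfsg.Agent.Lib.H87SMTCop

open Cfsg Cfsg.Agent.Lib Cfsg.Agent.Lib.Helper87SMDefs

/-- Coprime decomposition `W = C_W(Q) × [W, Q]` (only `h.expW`, `h.qQ`, `hpq` are used).
Proof. `n = Nat.card Q = q^k` is prime to `p`. `e : W →* W`, `e w = ∏ u : Q, j u w` (`Fintype`/`finprod` over the finite type `↥Q`; `W` commutative).
* `e w ∈ F1 j Q` (reindex by left multiplication: `Fintype.prod_equiv (Equiv.mulLeft v)`); * `e w = w^n` for `w ∈ F1 j Q`; * `e (j v w * w⁻¹) = 1` for `v ∈ Q` (reindex by right multiplication), hence `e t = 1` for `t ∈ W1 j Q`;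
* `w^n * (e w)⁻¹ = ∏ u, (j u w * w⁻¹)⁻¹ ∈ W1 j Q`.
(1) `w ∈ F1 ⊓ W1`: `w^n = e w = 1`, `w^p = 1`, coprime, so `w = 1`. (2) `w^n = e w * (w^n * (e w)⁻¹) ∈ F1 ⊔ W1`; choose `m` with `n * m ≡ 1 [MOD p]` (`Nat.exists_mul_emod_eq_one_of_coprime`), `w = (w^n)^m` (`pow_eq_pow_mod` with `w^p = 1`). -/
theorem cop {p q : ℕ} [Fact p.Prime] [Fact q.Prime] (hpq : p ≠ q) {H W : Type*} [Group H] [Finite H]
    [CommGroup W] [Finite W] {j : H →* MulAut W} {A Q : Subgroup H} {Z : Subgroup W} {x : H}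
    (h : TCtx p q j A Q Z x) : F1 j Q ⊓ W1 j Q = ⊥ ∧ F1 j Q ⊔ W1 j Q = ⊤ := by
  classical
  have hpp := (Fact.out : p.Prime)
  have hqq := (Fact.out : q.Prime)
  have : Fintype Q := Fintype.ofFinite Q
  obtain ⟨k, hk⟩ := IsPGroup.iff_card.1 h.qQ
  have hcop : Nat.Coprime (Nat.card Q) p := by
    rw [hk]
    exact Nat.Coprime.pow_left k ((Nat.coprime_primes hqq hpp).2 hpq.symm)
  let e : W →* W :=
    { toFun := fun w => ∏ u : Q, j u w
      map_one' := by simp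
      map_mul' := by intro a b; simp [Finset.prod_mul_distrib] }
  have hedef : ∀ w, e w = ∏ u : Q, j u w := fun w => rfl
  have he1 : ∀ w, e w ∈ F1 j Q := by
    intro w v hv
    rw [hedef, map_prod]
    exact Fintype.prod_equiv (Equiv.mulLeft (⟨v, hv⟩ : Q)) _ _ (fun u => by simp [map_mul])
  have he2 : ∀ w ∈ F1 j Q, e w = w ^ Nat.card Q := by
    intro w hw
    rw [hedef, Finset.prod_congr rfl (fun (u : Q) _ => hw (u : H) u.2), Finset.prod_const, Finset.card_univ,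
      ← Nat.card_eq_fintype_card]
  have he3 : ∀ t ∈ W1 j Q, e t = 1 := by
    intro t ht
    have hle : W1 j Q ≤ e.ker := by
      unfold W1
      rw [Subgroup.closure_le]
      rintro _ ⟨v, hv, w, rfl⟩
      rw [SetLike.mem_coe, MonoidHom.mem_ker, map_mul, map_inv, mul_inv_eq_one, hedef, hedef]
      exact Fintype.prod_equiv (Equiv.mulRight (⟨v, hv⟩ : Q)) _ _ (fun u => by simp [map_mul])
    exact hle ht
  have he4 : ∀ w, w ^ Nat.card Q * (e w)⁻¹ ∈ W1 j Q := by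
    intro w
    have h1 : w ^ Nat.card Q * (e w)⁻¹ = ∏ u : Q, (j u w * w⁻¹)⁻¹ := by
      rw [Finset.prod_inv_distrib, Finset.prod_mul_distrib, Finset.prod_const, Finset.card_univ,
        ← Nat.card_eq_fintype_card, ← hedef, mul_inv, inv_pow, inv_inv, mul_comm]
    rw [h1]
    exact Subgroup.prod_mem _ (fun u _ => Subgroup.inv_mem _ (Subgroup.subset_closure ⟨u, u.2, w, rfl⟩))
  constructor
  · rw [eq_bot_iff]
    rintro w ⟨hw1, hw2⟩
    rw [Subgroup.mem_bot]
    have h1 : w ^ Nat.card Q = 1 := by rw [← he2 w hw1, he3 w hw2]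
    have h2 := pow_gcd_eq_one.2 ⟨h1, h.expW w⟩
    rwa [hcop, pow_one] at h2
  · rw [eq_top_iff]
    intro w _
    have h1 : w ^ Nat.card Q ∈ F1 j Q ⊔ W1 j Q := by
      have : w ^ Nat.card Q = e w * (w ^ Nat.card Q * (e w)⁻¹) := by
        rw [mul_comm (w ^ Nat.card Q), mul_inv_cancel_left]
      rw [this]
      exact Subgroup.mul_mem _ (Subgroup.mem_sup_left (he1 w)) (Subgroup.mem_sup_right (he4 w))
    have h2 : (Nat.card Q).Coprime (orderOf w) :=
      Nat.Coprime.coprime_dvd_right (orderOf_dvd_of_pow_eq_one (h.expW w)) hcop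
    obtain ⟨m, hm⟩ := exists_pow_eq_self_of_coprime h2
    rw [← hm]
    exact Subgroup.pow_mem _ h1 m

end Cfsg.Agent.Lib.H87SMTCop
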