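import Cfsg.Agent.Lib.H87SMTF1
import Cfsg.Agent.Lib.H87SMTB
import Cfsg.Agent.Lib.Helper30Gen

/-!
Project 4394 (row S4394), piece TCyc.
-/

set_option autoImplicit false

namespace Cfsg.Agent.Lib.H87SMTCyc

open Cfsg Cfsg.Agent.Lib Cfsg.Agent.Lib.Helper87SMDefs

/-- `C_A(Q) = 1`: `H87SMTB.fixB` + `H87SMTF1.W1_eq_top` give `j b = 1`; `h.inj`. -/
theorem cent_eq_one {p q : ℕ} [Fact p.Prime] [Fact q.Prime] (hpq : p ≠ q) {H W : Type*} [Group H] [Finite H]
    [CommGroup W] [Finite W] {j : H →* MulAut W} {A Q : Subgroup H} {Z : Subgroup W} {x : H}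
    (h : TCtx p q j A Q Z x) (b : H) (hb : b ∈ A) (hbQ : ∀ u ∈ Q, Commute b u) : b = 1 := by
  apply h.inj
  rw [map_one]
  ext w
  have hw : w ∈ W1 j Q := by rw [H87SMTF1.W1_eq_top hpq h]; exact Subgroup.mem_top w
  rw [H87SMTB.fixB hpq h b hb hbQ w hw]
  rfl

/-- `A = ⟨x⟩`.
Proof. Let `a ∈ A`, `a ∉ zpowers x`. `Helper30Gen.le_gen (K := Q) (r := p) (w := x) (z := a)` (commuting: `h.comm`; `x^p = a^p = 1`: `h.expA`; `Nat.card Q` is a power of `q`, prime to `p`; `x, a` normalise `Q`: `h.inv` for `a` and `a⁻¹`, `Subgroup.mem_normalizer_iff`)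
gives `Q ≤ (Q ⊓ centralizer {x}) ⊔ ⨆ i, Q ⊓ centralizer {a * x^i}` (`Helper30Gen.gen`). For each `i`, `Q₂ = Q ⊓ centralizer {a * x^i}` is `A`-invariant (`A` is commutative, `a * x^i ∈ A`); `Q₂ ≠ Q`, otherwise `a * x^i` commutes with `Q`, so `a * x^i = 1` by `cent_eq_one` and `a = (x^i)⁻¹ ∈ zpowers x`.
By `h.mini`, `x` commutes with `Q₂`. So `Q ≤ centralizer {x}` (`sup_le`, `iSup_le`, `Subgroup.mem_centralizer_singleton_iff`): contradiction with `h.ne`. -/
theorem mem_zpowers {p q : ℕ} [Fact p.Prime] [Fact q.Prime] (hpq : p ≠ q) {H W : Type*} [Group H] [Finite H]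
    [CommGroup W] [Finite W] {j : H →* MulAut W} {A Q : Subgroup H} {Z : Subgroup W} {x : H}
    (h : TCtx p q j A Q Z x) : ∀ a ∈ A, a ∈ Subgroup.zpowers x := by
  classical
  intro a ha
  by_contra hax
  have hpp := (Fact.out : p.Prime)
  have hqq := (Fact.out : q.Prime)
  obtain ⟨k, hk⟩ := IsPGroup.iff_card.1 h.qQ
  have hcop : Nat.Coprime (Nat.card Q) p := by
    rw [hk]
    exact Nat.Coprime.pow_left k ((Nat.coprime_primes hqq hpp).2 hpq.symm)
  have hnorm : ∀ d ∈ A, d ∈ Subgroup.normalizer (Q : Set H) := by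
    intro d hd
    rw [Subgroup.mem_normalizer_iff]
    intro u
    constructor
    · exact h.inv d hd u
    · intro hu
      have := h.inv d⁻¹ (A.inv_mem hd) _ hu
      have e1 : d⁻¹ * (d * u * d⁻¹) * d⁻¹⁻¹ = u := by group
      rwa [e1] at this
  have hgen := Helper30Gen.le_gen (K := Q) (r := p) (w := x) (z := a) (h.comm x h.xA a ha)
    (h.expA x h.xA) (h.expA a ha) hcop (hnorm x h.xA) (hnorm a ha)
  obtain ⟨u, hu, hxu⟩ := h.ne
  apply hxu
  have hle : Helper30Gen.gen Q x a ≤ Subgroup.centralizer {x} := by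
    unfold Helper30Gen.gen
    apply sup_le inf_le_right
    apply iSup_le
    intro i
    have hai : a * x ^ i ∈ A := A.mul_mem ha (A.pow_mem h.xA i)
    intro v hv
    rw [Subgroup.mem_centralizer_singleton_iff]
    refine ((h.mini (Q ⊓ Subgroup.centralizer {a * x ^ i}) inf_le_left ?_ ?_ v hv).eq).symm
    · intro d hd w hw
      refine Subgroup.mem_inf.2 ⟨h.inv d hd w hw.1, ?_⟩
      have h1 := Subgroup.mem_centralizer_singleton_iff.1 hw.2
      rw [Subgroup.mem_centralizer_singleton_iff]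
      have h2 : d * (a * x ^ i) = (a * x ^ i) * d := (h.comm d hd _ hai).eq
      have h3 : d⁻¹ * (a * x ^ i) = (a * x ^ i) * d⁻¹ := (h.comm d⁻¹ (A.inv_mem hd) _ hai).eq
      calc d * w * d⁻¹ * (a * x ^ i) = d * w * (d⁻¹ * (a * x ^ i)) := by group
        _ = d * (w * (a * x ^ i)) * d⁻¹ := by rw [h3]; group
        _ = d * ((a * x ^ i) * w) * d⁻¹ := by rw [h1]
        _ = (d * (a * x ^ i)) * w * d⁻¹ := by group
        _ = (a * x ^ i) * (d * w * d⁻¹) := by rw [h2]; group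
    · intro heq
      have h1 : a * x ^ i = 1 := by
        apply cent_eq_one hpq h _ hai
        intro w hw
        have : w ∈ Q ⊓ Subgroup.centralizer {a * x ^ i} := by rw [heq]; exact hw
        exact (Subgroup.mem_centralizer_singleton_iff.1 this.2).symm
      apply hax
      have h2 : a = (x ^ i)⁻¹ := eq_inv_of_mul_eq_one_left h1
      rw [h2]
      exact Subgroup.inv_mem _ (Subgroup.pow_mem _ (Subgroup.mem_zpowers x) i)
  exact (Subgroup.mem_centralizer_singleton_iff.1 (hle (hgen hu))).symm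

end Cfsg.Agent.Lib.H87SMTCyc
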