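import Cfsg.Agent.Lib.Helper87SMDefs

/-!
Project 4394 (row S4394), piece TFix.
-/

set_option autoImplicit false

namespace Cfsg.Agent.Lib.H87SMTFix

open Cfsg Cfsg.Agent.Lib Cfsg.Agent.Lib.Helper87SMDefs

theorem fix_mem {p q : ℕ} [Fact p.Prime] [Fact q.Prime] (hpq : p ≠ q) {H W : Type*} [Group H] [Finite H]
    [CommGroup W] [Finite W] {j : H →* MulAut W} {A Q : Subgroup H} {Z : Subgroup W} {x : H}
    (h : TCtx p q j A Q Z x) (f : W) (hf : ∀ a ∈ A, j a f = f) : f ∈ Z := by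
  by_contra hfZ
  have hZ : ∀ z ∈ Z, z = 1 := by
    intro z hz
    obtain ⟨a, ha, haz⟩ := h.surj f hfZ z hz
    rw [hf a ha, mul_inv_cancel] at haz
    exact haz.symm
  apply h.x1
  apply h.inj
  rw [map_one]
  ext w
  have := hZ _ (h.quad x h.xA w)
  rw [MulAut.one_apply]
  exact mul_inv_eq_one.mp this

end Cfsg.Agent.Lib.H87SMTFix
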