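import Cfsg.Agent.Lib.H87SMTZW
import Cfsg.Agent.Lib.H87SMTFix
import Cfsg.Agent.Lib.H87SMTCop

/-!
Project 4394 (row S4394), piece TF1.
-/

set_option autoImplicit false

namespace Cfsg.Agent.Lib.H87SMTF1

open Cfsg Cfsg.Agent.Lib Cfsg.Agent.Lib.Helper87SMDefs

/-- `C_W(Q) = 1`, hence `[W, Q] = W`.
Proof. `F = F1 j Q` is `A`-invariant: for `a ∈ A`, `u ∈ Q`, `f ∈ F`: `j u (j a f) = j a (j (a⁻¹ * u * a) f) = j a f` (`a⁻¹ ∈ A`, `h.inv`). `A` is a `p`-group (`h.expA`; `IsPGroup`: `⟨1, by simpa using _⟩`) and `|F|` is a power of `p` (`h.expW`).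
If `F ≠ ⊥` then `p ∣ Nat.card F` and the action of `↥A` on `↥F` (`MulAction` with `a • f = ⟨j a f, _⟩`) has the fixed point `1`, hence another one (`IsPGroup.exists_fixed_point_of_prime_dvd_card_of_fixed_point`): `f ≠ 1`, `j a f = f` for all `a ∈ A`.
By `H87SMTFix.fix_mem`, `f ∈ Z ≤ W1 j Q` (`H87SMTZW.le_W1`), so `f ∈ F1 ⊓ W1 = ⊥` (`H87SMTCop.cop`): contradiction. -/
theorem F1_eq_bot {p q : ℕ} [Fact p.Prime] [Fact q.Prime] (hpq : p ≠ q) {H W : Type*} [Group H] [Finite H]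
    [CommGroup W] [Finite W] {j : H →* MulAut W} {A Q : Subgroup H} {Z : Subgroup W} {x : H}
    (h : TCtx p q j A Q Z x) : F1 j Q = ⊥ := by
  classical
  by_contra hne
  have hpp := (Fact.out : p.Prime)
  have hinvF : ∀ a ∈ A, ∀ f ∈ F1 j Q, j a f ∈ F1 j Q := by
    intro a ha f hf u hu
    have h1 : j u (j a f) = j a (j (a⁻¹ * u * a) f) := by
      rw [← MulAut.mul_apply, ← MulAut.mul_apply, ← map_mul, ← map_mul]
      congr 2
      group
    rw [h1, hf _ (by have := h.inv a⁻¹ (A.inv_mem ha) u hu; rwa [inv_inv] at this)]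
  let act : MulAction A (F1 j Q) :=
    { smul := fun a f => ⟨j a f, hinvF a a.2 f f.2⟩
      one_smul := fun f => Subtype.ext (by show j ((1 : A) : H) f = f; simp)
      mul_smul := fun a b f => Subtype.ext (by
        show j ((a * b : A) : H) f = j a (j b f)
        simp [map_mul]) }
  have hA : IsPGroup p A := fun a => ⟨1, by rw [pow_one]; exact Subtype.ext (h.expA a a.2)⟩
  have hF : IsPGroup p (F1 j Q) := fun f => ⟨1, by rw [pow_one]; exact Subtype.ext (h.expW f)⟩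
  have hdvd : p ∣ Nat.card (F1 j Q) := by
    have : Nontrivial (F1 j Q) := (Subgroup.nontrivial_iff_ne_bot _).2 hne
    obtain ⟨n, hn0, hn⟩ := hF.nontrivial_iff_card.1 this
    rw [hn]
    exact dvd_pow_self p hn0.ne'
  have h1fix : (1 : F1 j Q) ∈ MulAction.fixedPoints A (F1 j Q) :=
    fun a => Subtype.ext (map_one (j (a : H)))
  obtain ⟨f, hf, hf1⟩ := hA.exists_fixed_point_of_prime_dvd_card_of_fixed_point (F1 j Q) hdvd h1fix
  have hfix : ∀ a ∈ A, j a (f : W) = f := fun a ha => congrArg Subtype.val (hf ⟨a, ha⟩)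
  have hfZ : (f : W) ∈ Z := H87SMTFix.fix_mem hpq h f hfix
  have hfW : (f : W) ∈ W1 j Q := H87SMTZW.le_W1 hpq h hfZ
  have h2 : (f : W) ∈ F1 j Q ⊓ W1 j Q := ⟨f.2, hfW⟩
  rw [(H87SMTCop.cop hpq h).1, Subgroup.mem_bot] at h2
  exact hf1 (Subtype.ext h2.symm)

theorem W1_eq_top {p q : ℕ} [Fact p.Prime] [Fact q.Prime] (hpq : p ≠ q) {H W : Type*} [Group H] [Finite H]
    [CommGroup W] [Finite W] {j : H →* MulAut W} {A Q : Subgroup H} {Z : Subgroup W} {x : H}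
    (h : TCtx p q j A Q Z x) : W1 j Q = ⊤ := by
  have h1 := (H87SMTCop.cop hpq h).2
  rwa [F1_eq_bot hpq h, bot_sup_eq] at h1

end Cfsg.Agent.Lib.H87SMTF1
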