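import Cfsg.Agent.Lib.H87SMTTriv

/-!
Project 4394 (row S4394), piece TNZ.
-/

set_option autoImplicit false

namespace Cfsg.Agent.Lib.H87SMTNZ

open Cfsg Cfsg.Agent.Lib Cfsg.Agent.Lib.Helper87SMDefs

theorem exists_notMem {p q : ℕ} [Fact p.Prime] [Fact q.Prime] (hpq : p ≠ q) {H W : Type*} [Group H] [Finite H]
    [CommGroup W] [Finite W] {j : H →* MulAut W} {A Q : Subgroup H} {Z : Subgroup W} {x : H}
    (h : TCtx p q j A Q Z x) : ∃ t ∈ W1 j Q, t ∉ Z := by
  by_contra hcon
  push Not at hcon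
  have hgenmem : ∀ u ∈ Q, ∀ w : W, j u w * w⁻¹ ∈ W1 j Q := by
    intro u hu w
    exact Subgroup.subset_closure ⟨u, hu, w, rfl⟩
  have hinv : ∀ u ∈ Q, ∀ m ∈ W1 j Q, j u m ∈ W1 j Q := by
    intro u' hu' m hm
    unfold W1 at hm
    induction hm using Subgroup.closure_induction with
    | mem t ht =>
      obtain ⟨u, hu, w, rfl⟩ := ht
      have : j u' (j u w * w⁻¹) = (j (u' * u) w * w⁻¹) * (j u' w * w⁻¹)⁻¹ := by
        rw [map_mul, map_mul, MulAut.mul_apply, map_inv]
        simp [mul_assoc]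
      rw [this]
      exact (W1 j Q).mul_mem (hgenmem _ (Q.mul_mem hu' hu) w) ((W1 j Q).inv_mem (hgenmem _ hu' w))
    | one => rw [map_one]; exact (W1 j Q).one_mem
    | mul a b _ _ ha hb => rw [map_mul]; exact (W1 j Q).mul_mem ha hb
    | inv a _ ha => rw [map_inv]; exact (W1 j Q).inv_mem ha
  have hfix := H87SMTTriv.triv hpq h (W1 j Q) hinv (fun m hm => h.fixZ x h.xA m (hcon m hm))
  have hall : ∀ u ∈ Q, u = 1 := by
    intro u hu
    apply h.inj
    rw [map_one]
    ext w
    rw [MulAut.one_apply]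
    set t := j u w * w⁻¹ with ht
    have htM : t ∈ W1 j Q := hgenmem u hu w
    have hjt : j u t = t := hfix u hu t htM
    have hjw : j u w = t * w := by rw [ht]; simp
    have hpow : ∀ n : ℕ, j (u ^ n) w = t ^ n * w := by
      intro n
      induction n with
      | zero => simp
      | succ n ih =>
        rw [pow_succ', map_mul, MulAut.mul_apply, ih, map_mul, map_pow, hjt, hjw, pow_succ]
        simp [mul_assoc]
    obtain ⟨k, hk⟩ := h.qQ ⟨u, hu⟩
    have hk' : u ^ (q ^ k) = 1 := by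
      have := congrArg Subtype.val hk
      simpa using this
    have h1 : t ^ (q ^ k) = 1 := by
      have := hpow (q ^ k)
      rw [hk', map_one, MulAut.one_apply] at this
      exact (mul_eq_right.mp this.symm)
    have h2 : t ^ p = 1 := h.expW t
    have hcop : Nat.Coprime (q ^ k) p := by
      apply Nat.Coprime.pow_left
      exact (Nat.coprime_primes (Fact.out) (Fact.out)).mpr (Ne.symm hpq)
    have h3 : t ^ (Nat.gcd (q ^ k) p) = 1 := pow_gcd_eq_one.mpr ⟨h1, h2⟩
    rw [hcop, pow_one] at h3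
    rw [hjw, h3, one_mul]
  obtain ⟨u, hu, hne⟩ := h.ne
  apply hne
  rw [hall u hu]
  exact Commute.one_right x

end Cfsg.Agent.Lib.H87SMTNZ
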