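import Cfsg.Agent.Lib.Helper87SMDefs

/-!
Project 4394 (row S4394), piece TTriv.
-/

set_option autoImplicit false

namespace Cfsg.Agent.Lib.H87SMTTriv

open Cfsg Cfsg.Agent.Lib Cfsg.Agent.Lib.Helper87SMDefs

theorem triv {p q : ℕ} [Fact p.Prime] [Fact q.Prime] (hpq : p ≠ q) {H W : Type*} [Group H] [Finite H]
    [CommGroup W] [Finite W] {j : H →* MulAut W} {A Q : Subgroup H} {Z : Subgroup W} {x : H}
    (h : TCtx p q j A Q Z x) (M : Subgroup W) (hM : ∀ u ∈ Q, ∀ m ∈ M, j u m ∈ M)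
    (hx : ∀ m ∈ M, j x m = m) : ∀ u ∈ Q, ∀ m ∈ M, j u m = m := by
  let K : Subgroup H :=
    { carrier := {g | ∀ m ∈ M, j g m = m}
      one_mem' := by intro m _; simp
      mul_mem' := by
        intro a b ha hb m hm
        rw [map_mul, MulAut.mul_apply, hb m hm, ha m hm]
      inv_mem' := by
        intro a ha m hm
        rw [map_inv, MulAut.inv_apply, MulEquiv.symm_apply_eq, ha m hm] }
  have hxK : x ∈ K := hx
  have hle : Q ≤ K := by
    refine h.gen.trans ?_
    rw [Subgroup.closure_le]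
    rintro _ ⟨u, hu, rfl⟩
    intro m hm
    have hm' : j u⁻¹ m ∈ M := hM _ (Q.inv_mem hu) m hm
    have h1 : j x⁻¹ (j u⁻¹ m) = j u⁻¹ m := (K.inv_mem hxK) _ hm'
    have h2 : j u (j u⁻¹ m) = m := by
      rw [← MulAut.mul_apply, ← map_mul, mul_inv_cancel, map_one, MulAut.one_apply]
    simp only [map_mul, MulAut.mul_apply]
    rw [h1, h2, hx m hm]
  intro u hu m hm
  exact hle hu m hm

end Cfsg.Agent.Lib.H87SMTTriv
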