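import Cfsg.Agent.Lib.H87SMTNZ

/-!
Project 4394 (row S4394), piece TZW.
-/

set_option autoImplicit false

namespace Cfsg.Agent.Lib.H87SMTZW

open Cfsg Cfsg.Agent.Lib Cfsg.Agent.Lib.Helper87SMDefs

/-- the invariance used below. -/
theorem W1_inv {p q : ℕ} [Fact p.Prime] [Fact q.Prime] (hpq : p ≠ q) {H W : Type*} [Group H] [Finite H]
    [CommGroup W] [Finite W] {j : H →* MulAut W} {A Q : Subgroup H} {Z : Subgroup W} {x : H}
    (h : TCtx p q j A Q Z x) : ∀ a ∈ A, ∀ t ∈ W1 j Q, j a t ∈ W1 j Q := by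
  intro a ha t ht
  unfold W1 at ht
  induction ht using Subgroup.closure_induction with
  | mem t ht =>
    obtain ⟨u, hu, w, rfl⟩ := ht
    have : j a (j u w * w⁻¹) = j (a * u * a⁻¹) (j a w) * (j a w)⁻¹ := by
      rw [map_mul, map_inv, ← MulAut.mul_apply, ← MulAut.mul_apply, ← map_mul, ← map_mul]
      simp
    rw [this]
    exact Subgroup.subset_closure ⟨_, h.inv a ha u hu, _, rfl⟩
  | one => rw [map_one]; exact (W1 j Q).one_mem
  | mul b c _ _ hb hc => rw [map_mul]; exact (W1 j Q).mul_mem hb hc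
  | inv b _ hb => rw [map_inv]; exact (W1 j Q).inv_mem hb

theorem le_W1 {p q : ℕ} [Fact p.Prime] [Fact q.Prime] (hpq : p ≠ q) {H W : Type*} [Group H] [Finite H]
    [CommGroup W] [Finite W] {j : H →* MulAut W} {A Q : Subgroup H} {Z : Subgroup W} {x : H}
    (h : TCtx p q j A Q Z x) : Z ≤ W1 j Q := by
  obtain ⟨t, ht, htZ⟩ := H87SMTNZ.exists_notMem hpq h
  intro z hz
  obtain ⟨a, ha, rfl⟩ := h.surj t htZ z hz
  exact (W1 j Q).mul_mem (W1_inv hpq h a ha t ht) ((W1 j Q).inv_mem ht)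

end Cfsg.Agent.Lib.H87SMTZW
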