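import Cfsg.Agent.Lib.H87WREmbB
import Cfsg.Agent.Lib.Helper24Section
import Cfsg.Agent.S5299

/-!
Project 3787 (row S3787), piece SecC.
-/

set_option autoImplicit false

namespace Cfsg.Agent.Lib.H87WRSecC

open Cfsg Cfsg.Agent.Lib.Helper87WRDefs Cfsg.Agent.Lib

/-- Kill `u = y^p`. -/
theorem secC (p : ℕ) [Fact p.Prime] {Y : Type*} [Group Y] (E : Subgroup Y)
    (hc : ∀ a ∈ E, ∀ b ∈ E, a * b = b * a) (hexp : ∀ a ∈ E, a ^ p = 1) (y : Y)
    (hn : ∀ a ∈ E, y * a * y⁻¹ ∈ E) (hyp : y ^ p ∈ E) (e : Y) (he : e ∈ E)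
    (hne : (e * y) ^ p * (y ^ p)⁻¹ ∉ Subgroup.zpowers (y ^ p)) : Involves (Wr p) Y := by
  set u := y ^ p with hu
  set C : Subgroup Y := Subgroup.centralizer {u} with hC
  have hEC : E ≤ C := by
    intro a ha
    rw [hC, Subgroup.mem_centralizer_singleton_iff]
    exact hc a ha u hyp
  have hyC : y ∈ C := by
    rw [hC, Subgroup.mem_centralizer_singleton_iff, hu, ← pow_succ', ← pow_succ]
  set Z : Subgroup C := (Subgroup.zpowers u).subgroupOf C with hZ
  have hZn : Z.Normal := by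
    constructor
    intro z hz g
    have hg : (g : Y) * u = u * g := Subgroup.mem_centralizer_singleton_iff.1 g.2
    rw [hZ, Subgroup.mem_subgroupOf] at hz ⊢
    obtain ⟨k, hk⟩ := Subgroup.mem_zpowers_iff.1 hz
    have hcomm : Commute (g : Y) (z : Y) := by
      rw [← hk]
      exact (show Commute (g : Y) u from hg).zpow_right k
    have : ((g * z * g⁻¹ : C) : Y) = z := by
      push_cast
      rw [hcomm.eq, mul_inv_cancel_right]
    rw [this]; exact hz
  set π := QuotientGroup.mk' Z with hπ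
  obtain ⟨F, hF⟩ := H87WREmbB.embB p (Y := C ⧸ Z) ((E.subgroupOf C).map π)
    (by
      rintro _ ⟨a, ha, rfl⟩ _ ⟨b, hb, rfl⟩
      rw [← map_mul, ← map_mul]
      congr 1
      exact Subtype.ext (hc a ha b hb))
    (by
      rintro _ ⟨a, ha, rfl⟩
      rw [← map_pow]
      have : a ^ p = 1 := Subtype.ext (hexp a ha)
      rw [this, map_one])
    (π ⟨y, hyC⟩)
    (by
      rw [← map_pow]
      refine (QuotientGroup.eq_one_iff _).2 ?_
      rw [hZ, Subgroup.mem_subgroupOf]
      exact Subgroup.mem_zpowers u)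
    (by
      rintro _ ⟨a, ha, rfl⟩
      refine ⟨⟨y, hyC⟩ * a * ⟨y, hyC⟩⁻¹, ?_, by simp⟩
      exact hn a ha)
    (π ⟨e, hEC he⟩) ⟨⟨e, hEC he⟩, he, rfl⟩
    (by
      rw [← map_mul, ← map_pow]
      intro h
      have h1 := (QuotientGroup.eq_one_iff _).1 h
      rw [hZ, Subgroup.mem_subgroupOf] at h1
      apply hne
      exact Subgroup.mul_mem _ h1 (Subgroup.inv_mem _ (Subgroup.mem_zpowers u)))
  have h1 : Involves (Wr p) (C ⧸ Z) :=
    S5299.involves_of_injective F hF (Helper24Section.involves_self _)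
  exact Helper24Section.Involves.trans
    (Helper24Section.Involves.trans h1 (Helper24Section.involves_quotient Z))
    (Helper24Section.involves_subgroup C)

end Cfsg.Agent.Lib.H87WRSecC
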