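import Cfsg.Agent.Lib.H87WRAdjust
import Cfsg.Agent.Lib.H87WRSecC

/-!
Project 3787 (row S3787), assembly Abs / Rel.
-/

set_option autoImplicit false

namespace Cfsg.Agent.Lib.H87WRRel

open Cfsg Cfsg.Agent.Lib.Helper87WRDefs Cfsg.Agent.Lib

theorem abs (p : ℕ) [Fact p.Prime] {Y : Type*} [Group Y] (E : Subgroup Y)
    (hc : ∀ a ∈ E, ∀ b ∈ E, a * b = b * a) (hexp : ∀ a ∈ E, a ^ p = 1) (x : Y)
    (hn : ∀ a ∈ E, x * a * x⁻¹ ∈ E) (hxp : x ^ p ∈ E) (e : Y) (he : e ∈ E)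
    (hne : (e * x) ^ p ≠ x ^ p) : Involves (Wr p) Y := by
  obtain ⟨y, e', h1, h2, h3, h4⟩ := H87WRAdjust.adjust p E hc hexp x hn hxp e he hne
  exact H87WRSecC.secC p E hc hexp y h1 h2 e' h3 h4

theorem rel (p : ℕ) [Fact p.Prime] {Y : Type*} [Group Y] (E : Subgroup Y)
    (hc : ∀ a ∈ E, ∀ b ∈ E, a * b = b * a) (hexp : ∀ a ∈ E, a ^ p = 1) (x : Y)
    (hn : ∀ a ∈ E, x * a * x⁻¹ ∈ E) (hxp : x ^ p ∈ E) (e : Y) (he : e ∈ E)
    (hne : (e * x) ^ p ≠ x ^ p) (S : Subgroup Y) (hES : E ≤ S) (hxS : x ∈ S) :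
    Involves (Wr p) ↥S := by
  apply abs p (E.subgroupOf S) _ _ ⟨x, hxS⟩ _ _ ⟨e, hES he⟩ _ _
  · intro a ha b hb
    exact Subtype.ext (hc a ha b hb)
  · intro a ha
    exact Subtype.ext (hexp a ha)
  · intro a ha
    exact hn a ha
  · exact hxp
  · exact he
  · intro h
    exact hne (congrArg Subtype.val h)

end Cfsg.Agent.Lib.H87WRRel
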