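import Cfsg.Agent.Lib.H87WRRel
import Cfsg.Agent.Lib.Helper60Core
import Cfsg.Agent.S0012

/-!
Project 3787 (row S3787), piece Sect.
-/

set_option autoImplicit false

namespace Cfsg.Agent.Lib.H87WRSect

open Cfsg Cfsg.Agent.Lib.Helper87WRDefs Cfsg.Agent.Lib
open scoped commutatorElement

/-- Pass to `H₁ ⧸ Φ(V)`, `V = O_p(H₁)`. -/
theorem sect {H₁ : Type*} [Group H₁] [Finite H₁] {p : ℕ} [Fact p.Prime] (S : Subgroup H₁)
    (hVS : pCore p H₁ ≤ S) (x : H₁) (hxS : x ∈ S) (hxp : x ^ p ∈ pCore p H₁) (v : H₁)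
    (hv : v ∈ pCore p H₁)
    (hne : (v * x) ^ p * (x ^ p)⁻¹ ∉ (frattini ↥(pCore p H₁)).map (pCore p H₁).subtype) :
    Involves (Wr p) ↥S := by
  obtain ⟨V, hVdef⟩ : ∃ V : Subgroup H₁, V = pCore p H₁ := ⟨_, rfl⟩
  rw [← hVdef] at hVS hxp hv hne
  have hVn : V.Normal := by rw [hVdef]; infer_instance
  have hVp : IsPGroup p V := by rw [hVdef]; exact Cfsg.Agent.Lib.Helper60Core.pCore_isPGroup p
  obtain ⟨Φ, hΦdef⟩ : ∃ Φ : Subgroup H₁, Φ = (frattini V).map V.subtype := ⟨_, rfl⟩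
  rw [← hΦdef] at hne
  have hΦn : Φ.Normal := by rw [hΦdef]; exact ConjAct.normal_of_characteristic_of_normal
  obtain ⟨hfc, hfp⟩ := Cfsg.Agent.S0012.result p hVp
  have hcommΦ : ∀ a ∈ V, ∀ b ∈ V, a * b * a⁻¹ * b⁻¹ ∈ Φ := by
    intro a ha b hb
    rw [hΦdef]
    refine Subgroup.mem_map.2 ⟨⁅(⟨a, ha⟩ : V), ⟨b, hb⟩⁆, hfc
      (Subgroup.commutator_mem_commutator (Subgroup.mem_top _) (Subgroup.mem_top _)), ?_⟩
    rw [commutatorElement_def]
    rfl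
  have hpowΦ : ∀ a ∈ V, a ^ p ∈ Φ := by
    intro a ha
    rw [hΦdef]
    exact Subgroup.mem_map.2 ⟨(⟨a, ha⟩ : V) ^ p, hfp _, rfl⟩
  set π := QuotientGroup.mk' Φ with hπ
  have h1 : Involves (Wr p) ↥(S.map π) := by
    apply H87WRRel.rel p (V.map π) _ _ (π x) _ _ (π v) ⟨v, hv, rfl⟩ _ (S.map π)
      (Subgroup.map_mono hVS) ⟨x, hxS, rfl⟩
    · rintro _ ⟨a, ha, rfl⟩ _ ⟨b, hb, rfl⟩
      have h := (QuotientGroup.eq_one_iff _).2 (hcommΦ a ha b hb)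
      have h' : π (a * b * a⁻¹ * b⁻¹) = 1 := h
      rw [map_mul, map_mul, map_mul, map_inv, map_inv] at h'
      have := mul_inv_eq_one.1 h'
      exact mul_inv_eq_iff_eq_mul.1 this
    · rintro _ ⟨a, ha, rfl⟩
      rw [← map_pow]
      exact (QuotientGroup.eq_one_iff _).2 (hpowΦ a ha)
    · rintro _ ⟨a, ha, rfl⟩
      exact ⟨x * a * x⁻¹, hVn.conj_mem a ha x, by simp⟩
    · exact ⟨x ^ p, hxp, by simp⟩
    · intro h
      apply hne
      refine (QuotientGroup.eq_one_iff _).1 ?_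
      change π ((v * x) ^ p * (x ^ p)⁻¹) = 1
      rw [map_mul, map_inv, map_pow, map_pow, map_mul, h, mul_inv_cancel]
  exact Helper24Section.Involves.trans h1
    (S5299.involves_of_surjective (π.subgroupMap S) (π.subgroupMap_surjective S))

end Cfsg.Agent.Lib.H87WRSect
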