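import Cfsg.Agent.Lib.H88McDefs
import Cfsg.Agent.Lib.H88McChain
import Cfsg.Agent.Lib.H88McReal
import Cfsg.Agent.Lib.H88McCritA
import Cfsg.Agent.Lib.H88McCritB

set_option autoImplicit false

namespace Cfsg.Agent.Lib.H88McCrit

open Cfsg Cfsg.Agent.Lib.H88McDefs

/-- CRITERION. -/
theorem not_allSS_of_bad {Ω : Type*} [Group Ω] {S : Subgroup Ω} [Finite S] (p : ℕ) [Fact p.Prime]
    (h : Bad p ↥S) : ¬ AllSS p S := by
  obtain ⟨G, hG, hfin, ι, hι, ⟨P, hP⟩, C, ⟨c0, hc0⟩, h1, hconj, htc⟩ := h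
  obtain ⟨F, hF⟩ := H88McReal.exists_realized S ι hι
  intro hall
  refine H88McChain.not_ss F (Subtype.val '' C) ⟨c0, c0, hc0, rfl⟩ ?_ ?_ ?_ ?_
    (hall F (Helper87Realized.saturated_of_realized hF P hP))
  · rintro _ ⟨a, -, rfl⟩
    exact a.2
  · rintro ⟨a, ha, hae⟩
    have : a = 1 := Subtype.ext hae
    exact h1 (this ▸ ha)
  · rintro T hT _ ⟨a, ha, rfl⟩ haT _ ⟨b, hb, rfl⟩
    exact H88McCritA.mem_of_isConj hF hT a b (hconj a ha b hb) haT
  · intro T hT hav x hx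
    exact H88McCritB.tc_transport F C htc T hT hav x hx

end Cfsg.Agent.Lib.H88McCrit
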