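import Mathlib
import Cfsg.Prelude.Def_FusionSystem
import Cfsg.Prelude.Def_OddOrderLocal
import Cfsg.Prelude.Def_CaseTheorems

/-! Definitions for row S5287 (project 5287 = MC): metacyclic `p`-groups all of whose saturated fusion
systems are supersoluble. -/

set_option autoImplicit false

namespace Cfsg.Agent.Lib.H88McDefs

open Cfsg

/-- the fusion system is supersoluble: a chain of strongly closed subgroups with cyclic steps (verbatim from the row) -/
def SS {Ω : Type*} [Group Ω] {S : Subgroup Ω} (F : FusionSystem S) : Prop :=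
  ∃ (m : ℕ) (c : Fin (m + 1) → Subgroup Ω), c 0 = ⊥ ∧ c (Fin.last m) = S ∧
    (∀ i : Fin (m + 1), F.StronglyClosed (c i)) ∧
    ∀ i : Fin m, c i.castSucc ≤ c i.succ ∧ ∃ x ∈ S, c i.succ = c i.castSucc ⊔ Subgroup.zpowers x

/-- every saturated fusion system on `S` is supersoluble -/
def AllSS (p : ℕ) {Ω : Type*} [Group Ω] (S : Subgroup Ω) : Prop :=
  ∀ F : FusionSystem S, F.IsSaturated p → SS F

/-- the set `C` cannot be swallowed in one cyclic step over a normal subgroup avoiding it -/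
def TC {X : Type*} [Group X] (C : Set X) : Prop :=
  ∀ T : Subgroup X, T.Normal → (∀ a ∈ C, a ∉ T) →
    ∀ x : X, ¬ C ⊆ ((T ⊔ Subgroup.zpowers x : Subgroup X) : Set X)

/-- `X` embeds as a Sylow `p`-subgroup of a finite group `G` fusing a set `C` with `TC C` -/
def Bad (p : ℕ) (X : Type*) [Group X] : Prop :=
  ∃ (G : Type) (_ : Group G) (_ : Finite G) (ι : X →* G), Function.Injective ι ∧
    (∃ P : Sylow p G, (P : Subgroup G) = ι.range) ∧
    ∃ C : Set X, C.Nonempty ∧ (1 : X) ∉ C ∧ (∀ a ∈ C, ∀ b ∈ C, IsConj (ι a) (ι b)) ∧ TC C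

/-- homocyclic of rank two -/
def Homo (p : ℕ) (X : Type*) [Group X] : Prop :=
  ∃ n : ℕ, 0 < n ∧ Nonempty (X ≃* Multiplicative (ZMod (p ^ n)) × Multiplicative (ZMod (p ^ n)))

/-- `X` has a subgroup of index `p` invariant under all automorphisms -/
def HasChar (p : ℕ) (X : Type*) [Group X] : Prop :=
  ∃ M : Subgroup X, M.index = p ∧ ∀ α : MulAut X, ∀ x ∈ M, α x ∈ M

end Cfsg.Agent.Lib.H88McDefs
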