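import Mathlib
import Cfsg.Agent.Lib.Helper89Fusion
import Cfsg.Agent.Lib.Helper87Mk
import Cfsg.Agent.Lib.Helper86Fusion2

set_option autoImplicit false

/-! The fusion system on `T` consisting of the restrictions of the automorphisms in a group
`A ≤ Aut(T)` containing `Inn(T)`; it is saturated as soon as every `p`-element of `A` is inner
(helper89). -/

namespace Cfsg.Agent.Lib.Helper89AutSys

open Cfsg Cfsg.FusionSystem Cfsg.Agent.Lib.Helper87Fusion Cfsg.Agent.Lib.Helper87Fusion2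
  Cfsg.Agent.Lib.Helper87Mk Cfsg.Agent.Lib.Helper86Fusion

variable {Ω : Type*} [Group Ω]

theorem totA_mul {T : Subgroup Ω} (a b : MulAut T) {x : Ω} (hx : x ∈ T) :
    totA (a * b) x = totA a (totA b x) := by
  rw [totA_of_mem _ hx, totA_of_mem b hx, totA_apply]
  rfl

theorem totA_one {T : Subgroup Ω} {x : Ω} (hx : x ∈ T) : totA (1 : MulAut T) x = x := by
  rw [totA_of_mem _ hx]; rfl

theorem totA_map_mul {T : Subgroup Ω} (a : MulAut T) {x y : Ω} (hx : x ∈ T) (hy : y ∈ T) :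
    totA a (x * y) = totA a x * totA a y := by
  rw [totA_of_mem _ hx, totA_of_mem _ hy, totA_of_mem _ (T.mul_mem hx hy)]
  have : (⟨x * y, T.mul_mem hx hy⟩ : T) = ⟨x, hx⟩ * ⟨y, hy⟩ := rfl
  rw [this, map_mul]; rfl

theorem totA_inj {T : Subgroup Ω} (a : MulAut T) {x y : Ω} (hx : x ∈ T) (hy : y ∈ T)
    (h : totA a x = totA a y) : x = y := by
  rw [totA_of_mem _ hx, totA_of_mem _ hy] at h
  exact congrArg Subtype.val (a.injective (Subtype.ext h))

theorem totA_inv_totA {T : Subgroup Ω} (a : MulAut T) {x : Ω} (hx : x ∈ T) :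
    totA a⁻¹ (totA a x) = x := by
  rw [← totA_mul _ _ hx, inv_mul_cancel, totA_one hx]

/-- map data of the system of restrictions of `A` -/
def autData (T : Subgroup Ω) (A : Subgroup (MulAut T)) (hA : Inn T ≤ A) : MapData T where
  M P f := P ≤ T ∧ ∃ a ∈ A, ∀ x ∈ P, f x = totA a x
  congr := by
    rintro P f g ⟨hP, a, ha, h⟩ hfg
    exact ⟨hP, a, ha, fun x hx => (hfg x hx).symm.trans (h x hx)⟩
  le := by
    rintro P f ⟨hP, a, ha, h⟩
    exact ⟨hP, fun x hx => by rw [h x hx]; exact totA_mem a (hP hx)⟩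
  inj := by
    rintro P f ⟨hP, a, ha, h⟩ x hx y hy hxy
    rw [h x hx, h y hy] at hxy
    exact totA_inj a (hP hx) (hP hy) hxy
  hom := by
    rintro P f ⟨hP, a, ha, h⟩ x hx y hy
    rw [h x hx, h y hy, h _ (P.mul_mem hx hy), totA_map_mul a (hP hx) (hP hy)]
  conj := by
    intro P g hP hg
    refine ⟨hP, MulAut.conj (⟨g, hg⟩ : T), hA ⟨_, rfl⟩, fun x hx => ?_⟩
    rw [totA_of_mem _ (hP hx)]
    rfl
  comp := by
    rintro P Q f g ⟨hP, a, ha, h⟩ ⟨hQ, b, hb, h'⟩ hfQ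
    refine ⟨hP, b * a, A.mul_mem hb ha, fun x hx => ?_⟩
    show g (f x) = _
    rw [h' _ (hfQ x hx), h x hx, totA_mul _ _ (hP hx)]
  inv := by
    rintro P P' f ⟨hP, a, ha, h⟩ him
    refine ⟨totA a⁻¹, ⟨?_, a⁻¹, A.inv_mem ha, fun x _ => rfl⟩, fun x hx => ?_⟩
    · intro y hy
      obtain ⟨x, hx, rfl⟩ := IsMap.exists_of_mem_image him hy
      rw [h x hx]; exact totA_mem a (hP hx)
    · rw [h x hx, totA_inv_totA a (hP hx)]

/-- the system of restrictions of `A` -/
def autSystem (T : Subgroup Ω) (A : Subgroup (MulAut T)) (hA : Inn T ≤ A) : FusionSystem T :=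
  (autData T A hA).toFusion

theorem isMap_autSystem_iff {T : Subgroup Ω} {A : Subgroup (MulAut T)} {hA : Inn T ≤ A}
    {P : Subgroup Ω} {f : Ω → Ω} :
    IsMap (autSystem T A hA) P f ↔ P ≤ T ∧ ∃ a ∈ A, ∀ x ∈ P, f x = totA a x :=
  isMap_toFusion _

theorem autGroup_autSystem {T : Subgroup Ω} {A : Subgroup (MulAut T)} {hA : Inn T ≤ A} :
    (autSystem T A hA).autGroup T = A := by
  ext a
  rw [mem_autGroup_iff_totA _ le_rfl, isMap_autSystem_iff]
  constructor
  · rintro ⟨-, b, hb, h⟩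
    have : a = b := by
      apply MulEquiv.ext
      intro x
      apply Subtype.ext
      rw [← totA_apply, ← totA_apply, h x x.2]
    exact this ▸ hb
  · intro ha
    exact ⟨le_rfl, a, ha, fun _ _ => rfl⟩

theorem totA_pow_eq {T P : Subgroup Ω} (hP : P ≤ T) {a : MulAut T} {β : MulAut P}
    (h : ∀ x ∈ P, totA β x = totA a x) (e : ℕ) : ∀ x ∈ P, totA (β ^ e) x = totA (a ^ e) x := by
  induction e with
  | zero =>
    intro x hx
    rw [pow_zero, pow_zero, totA_one hx, totA_one (hP hx)]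
  | succ e ih =>
    intro x hx
    rw [pow_succ, pow_succ, totA_mul _ _ hx, totA_mul _ _ (hP hx), ← h x hx,
      ih _ (totA_mem β hx)]

theorem autSystem_saturated {T : Subgroup Ω} [Finite T] {p : ℕ} [hp : Fact p.Prime]
    (hT : IsPGroup p T) {A : Subgroup (MulAut T)} {hA : Inn T ≤ A}
    (hpA : ∀ a ∈ A, (∃ k : ℕ, a ^ p ^ k = 1) → a ∈ Inn T) :
    (autSystem T A hA).IsSaturated p := by
  intro P hP
  refine ⟨P, isConj_refl _ hP, ⟨hP, ?_⟩, ?_⟩
  · have key : ∀ β : (autSystem T A hA).autGroup P, (∃ k : ℕ, β ^ p ^ k = 1) →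
        (β : MulAut P) ∈ autInducedBy T P := by
      rintro ⟨β, hβ⟩ ⟨k, hk⟩
      have hk' : β ^ p ^ k = 1 := congrArg Subtype.val hk
      obtain ⟨-, a, ha, hab⟩ := isMap_autSystem_iff.1 ((mem_autGroup_iff_totA _ hP β).1 hβ)
      obtain ⟨j, m, hm, hjm⟩ :=
        Nat.exists_eq_pow_mul_and_not_dvd (orderOf_pos a).ne' p hp.out.ne_one
      have hcop : Nat.Coprime m (orderOf β) := by
        have h1 : orderOf β ∣ p ^ k := orderOf_dvd_of_pow_eq_one hk'
        exact Nat.Coprime.coprime_dvd_right h1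
          (Nat.Coprime.pow_right k ((Nat.Prime.coprime_iff_not_dvd hp.out).2 hm).symm)
      obtain ⟨u, hu⟩ := exists_pow_eq_self_of_coprime hcop
      have h1 : (a ^ (m * u)) ^ p ^ j = 1 := by
        rw [← pow_mul, show m * u * p ^ j = (p ^ j * m) * u by ring, ← hjm, pow_mul,
          pow_orderOf_eq_one, one_pow]
      obtain ⟨t, ht⟩ := hpA _ (A.pow_mem ha _) ⟨j, h1⟩
      refine Subgroup.subset_closure ⟨t, t.2, fun x => ?_⟩
      have h2 := totA_pow_eq hP hab (m * u) x x.2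
      rw [pow_mul, hu, ← ht, totA_apply, totA_of_mem _ (hP x.2)] at h2
      rw [h2]
      rfl
    refine ⟨⟨(autInducedBy T P).subgroupOf _, (autInducedBy_isPGroup hT P).comap_subtype, ?_⟩, rfl⟩
    intro Q hQ hle
    refine le_antisymm (fun β hβ => ?_) hle
    rw [Subgroup.mem_subgroupOf]
    obtain ⟨k, hk⟩ := hQ ⟨β, hβ⟩
    exact key β ⟨k, congrArg Subtype.val hk⟩
  · refine isReceptive_of hP (fun R f hf _ N hN => ?_)
    obtain ⟨hR, a, ha, hab⟩ := isMap_autSystem_iff.1 hf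
    exact ⟨totA a, isMap_autSystem_iff.2 ⟨fun g hg => ((hN g).1 hg).1, a, ha, fun _ _ => rfl⟩,
      fun x hx => (hab x hx).symm⟩

/-- in `Inn(T)⟨a⟩` with `a ^ q = 1`, `q ≠ p` primes, the `p`-elements are inner -/
theorem pElement_mem_inn {T : Type*} [Group T] {a : MulAut T} {p q : ℕ} (hp : p.Prime)
    (hq : q.Prime) (hqp : q ≠ p) (ha : a ^ q = 1) :
    ∀ b ∈ Inn T ⊔ Subgroup.zpowers a, (∃ k : ℕ, b ^ p ^ k = 1) → b ∈ Inn T := by
  rintro b hb ⟨k, hk⟩
  have h1 : ∀ b ∈ Inn T ⊔ Subgroup.zpowers a, (QuotientGroup.mk' (Inn T) b) ^ q = 1 := by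
    intro b hb
    have hle : Inn T ⊔ Subgroup.zpowers a ≤
        (Subgroup.zpowers (QuotientGroup.mk' (Inn T) a)).comap (QuotientGroup.mk' (Inn T)) := by
      refine sup_le (fun x hx => ?_) ?_
      · rw [Subgroup.mem_comap]
        have : QuotientGroup.mk' (Inn T) x = 1 := (QuotientGroup.eq_one_iff x).2 hx
        rw [this]
        exact Subgroup.one_mem _
      · rw [Subgroup.zpowers_le, Subgroup.mem_comap]
        exact Subgroup.mem_zpowers _
    obtain ⟨n, hn⟩ := Subgroup.mem_zpowers_iff.1 (hle hb)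
    rw [← hn, ← zpow_natCast, ← zpow_mul, mul_comm, zpow_mul, zpow_natCast, ← map_pow, ha, map_one,
      one_zpow]
  have h2 : (QuotientGroup.mk' (Inn T) b) ^ p ^ k = 1 := by rw [← map_pow, hk, map_one]
  have h3 : orderOf (QuotientGroup.mk' (Inn T) b) ∣ Nat.gcd q (p ^ k) :=
    Nat.dvd_gcd (orderOf_dvd_of_pow_eq_one (h1 b hb)) (orderOf_dvd_of_pow_eq_one h2)
  have h4 : Nat.gcd q (p ^ k) = 1 := Nat.Coprime.pow_right k ((Nat.coprime_primes hq hp).2 hqp)
  rw [h4, Nat.dvd_one, orderOf_eq_one_iff] at h3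
  exact (QuotientGroup.eq_one_iff b).1 h3

end Cfsg.Agent.Lib.Helper89AutSys
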