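import Mathlib
import Cfsg.Agent.Lib.H89TrToFac
import Cfsg.Agent.S5256

set_option autoImplicit false

namespace Cfsg.Agent.Lib.H89TrHyp

open Cfsg Cfsg.FusionSystem Cfsg.Agent.Lib.Helper87Fusion Cfsg.Agent.Lib.H89TrDefs
  Cfsg.Agent.Lib.H89TrBasic

variable {Ω Ω' : Type*} [Group Ω] [Group Ω'] {t : Ω → Ω'} {s : Ω' → Ω}

/-- the hyperfocal subgroup of an image system. -/
theorem hyp {X : Subgroup Ω} {X' : Subgroup Ω'} [Finite X] {p : ℕ} [Fact p.Prime] (hX : IsPGroup p X)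
    {A : FusionSystem X} {A' : FusionSystem X'} (h : Corr t s A A') (hA : A.IsSaturated p)
    (hh : A.hyperfocalSubgroup p = X) : A'.hyperfocalSubgroup p = X' := by
  obtain ⟨τ0, hτ0⟩ := isoOn_exists_hom h.1
  have hτ : ∀ x : X, (X'.subtype.comp τ0) x = t x := hτ0
  have hbot : A.StronglyClosed ⊥ := by
    refine ⟨bot_le, fun R hR φ _ x => ?_⟩
    have hx : x = 1 := Subtype.ext (Subgroup.mem_bot.1 (hR x.2))
    rw [hx, map_one]
    exact Subgroup.one_mem _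
  have key := Cfsg.Agent.S5256.result p hX A hA ⊥ hbot (X'.subtype.comp τ0) A'
    (H89TrToFac.toFac h (X'.subtype.comp τ0) hτ)
  rw [key, hh]
  ext y
  constructor
  · rintro ⟨x, -, rfl⟩
    exact (τ0 x).2
  · intro hy
    refine ⟨⟨s y, h.1.inv y hy⟩, ?_, ?_⟩
    · exact Subgroup.mem_subgroupOf.2 (h.1.inv y hy)
    · rw [hτ]
      exact h.1.ts y hy

end Cfsg.Agent.Lib.H89TrHyp
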