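import Mathlib
import Cfsg.Agent.Lib.H89TrBasic
import Cfsg.Agent.S5133

set_option autoImplicit false

namespace Cfsg.Agent.Lib.H89TrSat

open Cfsg Cfsg.FusionSystem Cfsg.Agent.Lib.Helper87Fusion Cfsg.Agent.Lib.H89TrDefs
  Cfsg.Agent.Lib.H89TrBasic

variable {Ω Ω' : Type*} [Group Ω] [Group Ω'] {t : Ω → Ω'} {s : Ω' → Ω}

/-- `S5133.result p hX A hA A' α hα` with `α : X →* Ω'`, `α x = t x` (`isoOn_exists_hom`, composed with `X'.subtype`).
`IsSurjectiveMorphism`: (morphism) for `φ ∈ A.Hom P` the induced map is the one given by `Push t s` on `imageAlong α P` (whose carrier is `t '' P`);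
(`α.range = X'`) `isoOn_image`; (surjectivity) for `φ' ∈ A'.Hom P'` use `Push s t`, `preimageAlong α P'` has carrier `s '' P'`. -/
theorem sat {X : Subgroup Ω} {X' : Subgroup Ω'} [Finite X] {p : ℕ} [Fact p.Prime] (hX : IsPGroup p X)
    {A : FusionSystem X} {A' : FusionSystem X'} (h : Corr t s A A') (hA : A.IsSaturated p) :
    A'.IsSaturated p := by
  obtain ⟨hiso, hpush, hpull⟩ := h
  obtain ⟨τ, hτ⟩ := isoOn_exists_hom hiso
  let α : X →* Ω' := X'.subtype.comp τ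
  have hα : ∀ x : X, α x = t x := hτ
  refine Cfsg.Agent.S5133.result p hX A hA A' α ⟨⟨?_, ?_⟩, ?_, ?_⟩
  · intro x; exact (τ x).2
  · intro P φ hφ
    have hPX : P ≤ X := (A.le_of_mem hφ).1
    have himg : t '' (P : Set Ω) = (imageAlong α P : Set Ω') := by
      ext y; constructor
      · rintro ⟨x, hx, rfl⟩
        exact ⟨⟨x, hPX hx⟩, hx, hα _⟩
      · rintro ⟨x, hx, rfl⟩
        exact ⟨x, hx, (hα x).symm⟩
    obtain ⟨φ', hφ', hφ'f⟩ := hpush P _ (tot φ) (isMap_tot hφ) himg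
    refine ⟨φ', hφ', hPX, (A.le_of_mem hφ).2, fun x => ⟨⟨x, hPX x.2⟩, x.2, rfl⟩, fun x => ?_⟩
    rw [hφ'f]
    simp only [hα]
    rw [hiso.st _ (hPX x.2), tot_apply]
  · ext y
    constructor
    · rintro ⟨x, rfl⟩; exact (τ x).2
    · intro hy
      exact ⟨⟨s y, hiso.inv y hy⟩, by rw [hα]; exact hiso.ts y hy⟩
  · intro P' hP' φ' hφ'
    have himg : s '' (P' : Set Ω') = (preimageAlong α P' : Set Ω) := by
      ext x; constructor
      · rintro ⟨y, hy, rfl⟩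
        refine ⟨⟨s y, hiso.inv y (hP' hy)⟩, ?_, rfl⟩
        show α _ ∈ P'
        rw [hα]
        show t (s y) ∈ P'
        rw [hiso.ts y (hP' hy)]; exact hy
      · rintro ⟨x, hx, rfl⟩
        refine ⟨α x, hx, ?_⟩
        rw [hα]; exact hiso.st x x.2
    obtain ⟨φ, hφ, hφf⟩ := hpull P' _ (tot φ') (isMap_tot hφ') himg
    have hPX : preimageAlong α P' ≤ X := (A.le_of_mem hφ).1
    have hmem : ∀ x : preimageAlong α P', α ⟨x, hPX x.2⟩ ∈ P' := by
      rintro ⟨_, x, hx, rfl⟩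
      exact hx
    refine ⟨φ, hφ, hPX, (A.le_of_mem hφ).2, hmem, fun x => ?_⟩
    have h1 : t (x : Ω) ∈ P' := by
      have := hmem x
      rwa [hα] at this
    have h2 : tot φ' (t x) ∈ X' := by
      rw [tot_of_mem φ' h1]
      exact (A'.le_of_mem hφ').2 _
    have e1 : α ⟨φ x, (A.le_of_mem hφ).2 x⟩ = t (φ x) := hα _
    have e2 : φ' ⟨α ⟨x, hPX x.2⟩, hmem x⟩ = tot φ' (α ⟨x, hPX x.2⟩) := (tot_apply φ' ⟨α ⟨x, hPX x.2⟩, hmem x⟩).symm
    have e3 : α ⟨x, hPX x.2⟩ = t x := hα _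
    rw [e1, e2, e3, hφf]
    exact (hiso.ts _ h2).symm

end Cfsg.Agent.Lib.H89TrSat
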