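import Mathlib
import Cfsg.Agent.Lib.H89TrNorInv
import Cfsg.Agent.Lib.H89TrNorExt
import Cfsg.Agent.Lib.H89TrSat

set_option autoImplicit false

namespace Cfsg.Agent.Lib.H89TrNor

open Cfsg Cfsg.FusionSystem Cfsg.Agent.Lib.Helper87Fusion Cfsg.Agent.Lib.H89TrDefs
  Cfsg.Agent.Lib.H89TrBasic

variable {Ω Ω' : Type*} [Group Ω] [Group Ω'] {t : Ω → Ω'} {s : Ω' → Ω}

/-- NORMAL subsystems correspond.  `⟨⟨sat A, sat B, H89TrNorInv.invariant⟩, _⟩`; the last component from `H89TrNorExt.ext` exactly as in the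
last lines of `Helper90NormalCrit.isNormalIn_of` (`totA α`, `mem_autGroup_iff_totA`, `IsMap.exists_aut`).  `X ≤ Y` from `h.1.2.2.2.1.1`, so `Finite X`,
`IsPGroup p X`. -/
theorem normal {X Y : Subgroup Ω} {X' Y' : Subgroup Ω'} [Finite Y] {p : ℕ} [Fact p.Prime]
    (hY : IsPGroup p Y) {A : FusionSystem X} {A' : FusionSystem X'} {B : FusionSystem Y}
    {B' : FusionSystem Y'} (hA : Corr t s A A') (hB : Corr t s B B') (h : A.IsNormalIn B p) :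
    A'.IsNormalIn B' p := by
  have hXY : X ≤ Y := h.1.2.2.2.1.1
  haveI : Finite X := Cfsg.Agent.Lib.Helper86Fusion.finite_of_le hXY
  have hXp : IsPGroup p X := hY.to_le hXY
  refine ⟨⟨Cfsg.Agent.Lib.H89TrSat.sat hXp hA h.1.1, Cfsg.Agent.Lib.H89TrSat.sat hY hB h.1.2.1,
    Cfsg.Agent.Lib.H89TrNorInv.invariant hA hB h.1.2.2⟩, fun α hα => ?_⟩
  obtain ⟨b, hb, hbim, hbT, hbc⟩ := Cfsg.Agent.Lib.H89TrNorExt.ext hA hB h
    (Cfsg.Agent.Lib.Helper87Fusion2.totA α)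
    ((Cfsg.Agent.Lib.Helper87Fusion2.mem_autGroup_iff_totA A' le_rfl α).1 hα)
  obtain ⟨β, hβ, hβb⟩ := hb.exists_aut hbim
  refine ⟨β, hβ, fun x => ?_, fun c hc => ?_⟩
  · rw [hβb]
    show b (x : Ω') = _
    rw [hbT x x.2, Cfsg.Agent.Lib.Helper87Fusion2.totA_apply]
  · rw [hβb]
    exact hbc c hc

end Cfsg.Agent.Lib.H89TrNor
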