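import Mathlib
import Cfsg.Agent.Lib.H89TrNor
import Cfsg.Agent.Lib.H89TrEx
import Cfsg.Agent.Lib.H89TrUniq

set_option autoImplicit false

namespace Cfsg.Agent.Lib.H89TrSimple

open Cfsg Cfsg.FusionSystem Cfsg.Agent.Lib.Helper87Fusion Cfsg.Agent.Lib.H89TrDefs
  Cfsg.Agent.Lib.H89TrBasic

variable {Ω Ω' : Type*} [Group Ω] [Group Ω'] {t : Ω → Ω'} {s : Ω' → Ω}

/-- SIMPLE systems correspond.  Saturated: `H89TrSat.sat`.  `Y' ≠ ⊥`: else `Y = s '' Y' = {s 1} = ⊥`.  Let `E' ⊴ B'` over `T' ≤ Y'`.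
`H89TrEx.exists_corr (isoOn_symm hB.1) hT' E'` gives `E` over `T` with `Corr s t E' E`; `H89TrNor.normal` (for `s t`, `Finite Y'`, `IsPGroup p Y'`,
`corr_symm hB`) gives `E ⊴ B`.  So `T = ⊥` (then `T' = t '' T = ⊥`) or `T = Y` with the same maps: `subst`, `H89TrUniq.eq_of_hom`, then
`H89TrUniq.unique (corr_symm ‹Corr s t E' B›) hB`. -/
theorem simple {Y : Subgroup Ω} {Y' : Subgroup Ω'} [Finite Y] {p : ℕ} [Fact p.Prime]
    (hY : IsPGroup p Y) {B : FusionSystem Y} {B' : FusionSystem Y'} (hB : Corr t s B B')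
    (h : B.IsSimple p) : B'.IsSimple p := by
  obtain ⟨hsat, hne, hsimp⟩ := h
  have hiso := hB.1
  haveI : Finite Y' := isoOn_finite hiso
  have hY' : IsPGroup p Y' := isoOn_isPGroup hiso hY
  refine ⟨Cfsg.Agent.Lib.H89TrSat.sat hY hB hsat, ?_, ?_⟩
  · intro hbot
    apply hne
    rw [eq_bot_iff]
    intro x hx
    have h1 : t x ∈ Y' := hiso.map x hx
    rw [hbot, Subgroup.mem_bot] at h1
    have h2 : s 1 = 1 := isoOn_one (isoOn_symm hiso)
    rw [Subgroup.mem_bot, ← hiso.st x hx, h1, h2]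
  · intro T' E' hE'
    have hT'Y' : T' ≤ Y' := hE'.1.2.2.2.1.1
    obtain ⟨T, E, hcorr⟩ := Cfsg.Agent.Lib.H89TrEx.exists_corr (isoOn_symm hiso) hT'Y' E'
    have hEn : E.IsNormalIn B p := Cfsg.Agent.Lib.H89TrNor.normal hY' hcorr (corr_symm hB) hE'
    rcases hsimp T E hEn with hT | ⟨hT, hhom⟩
    · left
      rw [eq_bot_iff]
      intro y hy
      have h1 : s y ∈ T := hcorr.1.map y hy
      rw [hT, Subgroup.mem_bot] at h1
      have h2 : t 1 = 1 := isoOn_one hiso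
      rw [Subgroup.mem_bot, ← hiso.ts y (hT'Y' hy), h1, h2]
    · right
      subst hT
      have hEB : E = B := Cfsg.Agent.Lib.H89TrUniq.eq_of_hom E B hhom
      subst hEB
      exact Cfsg.Agent.Lib.H89TrUniq.unique (corr_symm hcorr) hB

end Cfsg.Agent.Lib.H89TrSimple
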