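import Mathlib
import Cfsg.Agent.Lib.H89TrNor
import Cfsg.Agent.Lib.H89TrEx
import Cfsg.Agent.Lib.H89TrUniq

set_option autoImplicit false

namespace Cfsg.Agent.Lib.H89TrSn

open Cfsg Cfsg.FusionSystem Cfsg.Agent.Lib.Helper87Fusion Cfsg.Agent.Lib.H89TrDefs
  Cfsg.Agent.Lib.H89TrBasic

variable {Ω Ω' : Type*} [Group Ω] [Group Ω'] {t : Ω → Ω'} {s : Ω' → Ω}

theorem sn_aux {p : ℕ} {X Y : Subgroup Ω} {A : FusionSystem X} {B : FusionSystem Y}
    (hs : A.IsSubnormalIn B p) : ∀ (_ : Fact p.Prime) (_ : Finite Y) (_ : IsPGroup p Y)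
    {X' Y' : Subgroup Ω'} (A' : FusionSystem X') (B' : FusionSystem Y'), Corr t s B B' →
    Corr t s A A' → A'.IsSubnormalIn B' p := by
  induction hs with
  | refl F p =>
    intro _ _ _ X' Y' A' B' hB hA
    obtain ⟨h1, h2⟩ := H89TrUniq.unique hA hB
    exact H89TrUniq.sn_of_homEq p h1 h2
  | @step U S E D F p hED hDF ih =>
    intro hp hfin hY X' Y' A' B' hB hA
    have hU : U ≤ S := hDF.1.2.2.2.1.1
    obtain ⟨U', D', hD'⟩ := H89TrEx.exists_corr hB.1 hU D
    have hfinU : Finite U :=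
      Finite.of_injective (Subgroup.inclusion hU) (Subgroup.inclusion_injective hU)
    exact IsSubnormalIn.step (ih hp hfinU (hY.to_le hU) A' D' hD' hA)
      (H89TrNor.normal hY hD' hB hDF)

/-- SUBNORMAL subsystems correspond. -/
theorem sn {p : ℕ} [Fact p.Prime] {X Y : Subgroup Ω} {A : FusionSystem X} {B : FusionSystem Y}
    (hs : A.IsSubnormalIn B p) (hfin : Finite Y) (hY : IsPGroup p Y) {X' Y' : Subgroup Ω'}
    (A' : FusionSystem X') (B' : FusionSystem Y') (hB : Corr t s B B') (hA : Corr t s A A') :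
    A'.IsSubnormalIn B' p :=
  sn_aux hs inferInstance hfin hY A' B' hB hA

end Cfsg.Agent.Lib.H89TrSn
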