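import Mathlib
import Cfsg.Agent.Lib.H89TrSimple
import Cfsg.Agent.Lib.H89TrFac
import Cfsg.Agent.Lib.H89TrFacC
import Cfsg.Agent.Lib.H89TrCen
import Cfsg.Agent.Lib.H89TrHyp
import Cfsg.Agent.Lib.H89TrSn
import Cfsg.Agent.S5132

set_option autoImplicit false

namespace Cfsg.Agent.Lib.H89TrQs

open Cfsg Cfsg.FusionSystem Cfsg.Agent.Lib.Helper87Fusion Cfsg.Agent.Lib.H89TrDefs
  Cfsg.Agent.Lib.H89TrBasic

variable {Ω Ω' : Type*} [Group Ω] [Group Ω'] {t : Ω → Ω'} {s : Ω' → Ω}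

/-- a central subgroup is strongly closed (every map on `R ≤ Q` extends to `R ⊔ Q` fixing `Q` elementwise, so it is the identity on `R`). -/
theorem central_stronglyClosed {X Q : Subgroup Ω} {A : FusionSystem X} (hQ : A.IsCentral Q) :
    A.StronglyClosed Q := by
  refine ⟨hQ.1, fun R hR φ hφ x => ?_⟩
  obtain ⟨ψ, -, hψR, hψQ⟩ := hQ.2 R φ hφ
  have h1 := hψR x
  have h2 := hψQ ⟨x, hR x.2⟩
  have h12 : (Subgroup.inclusion (le_sup_left : R ≤ R ⊔ Q) x) =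
      Subgroup.inclusion (le_sup_right : Q ≤ R ⊔ Q) ⟨x, hR x.2⟩ := Subtype.ext rfl
  rw [h12, h2] at h1
  rw [← h1]
  exact hR x.2

/-- QUASISIMPLE systems correspond. -/
theorem quasisimple {X : Subgroup Ω} {X' : Subgroup Ω'} [Finite X] {p : ℕ} [Fact p.Prime]
    (hX : IsPGroup p X) {A : FusionSystem X} {A' : FusionSystem X'} (h : Corr t s A A')
    (hq : A.Quasisimple p) : A'.Quasisimple p := by
  refine ⟨H89TrSat.sat hX h hq.1, H89TrHyp.hyp hX h hq.1 hq.2.1, fun E' hE' => ?_⟩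
  have hcen : A.IsCentral A.center := Cfsg.Agent.S5144.result A
  obtain ⟨E, hE⟩ := Cfsg.Agent.S5132.result p hX A A.center (central_stronglyClosed hcen)
  have hEs : E.IsSimple p := hq.2.2 E hE
  obtain ⟨τ, hτ⟩ := isoOn_exists_hom h.1
  have hE2 := H89TrFacC.facC h hcen.1 (H89TrCen.center h) τ hτ _ hE'
  obtain ⟨t₂, s₂, hc⟩ := H89TrFac.fac _ _ hE hE2
  have hp : IsPGroup p (⊤ : Subgroup (X ⧸ (A.center).subgroupOf X)) :=
    (hX.to_quotient _).to_subgroup _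
  exact H89TrSimple.simple hp hc hEs

end Cfsg.Agent.Lib.H89TrQs
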