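import Mathlib
import Cfsg.Agent.Lib.H89TrQs

set_option autoImplicit false

namespace Cfsg.Agent.Lib.H89TrComp

open Cfsg Cfsg.FusionSystem Cfsg.Agent.Lib.Helper87Fusion Cfsg.Agent.Lib.H89TrDefs
  Cfsg.Agent.Lib.H89TrBasic

variable {Ω Ω' : Type*} [Group Ω] [Group Ω'] {t : Ω → Ω'} {s : Ω' → Ω}

/-- COMPONENTS correspond. -/
theorem component {X Y : Subgroup Ω} {X' Y' : Subgroup Ω'} [Finite Y] {p : ℕ} [Fact p.Prime]
    (hY : IsPGroup p Y) {A : FusionSystem X} {A' : FusionSystem X'} {B : FusionSystem Y}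
    {B' : FusionSystem Y'} (hA : Corr t s A A') (hB : Corr t s B B') (h : A.IsComponentIn B p) :
    A'.IsComponentIn B' p := by
  have hXY : X ≤ Y := H89TrUniq.sn_le h.1
  haveI : Finite X := Finite.of_injective (Subgroup.inclusion hXY) (Subgroup.inclusion_injective hXY)
  exact ⟨H89TrSn.sn h.1 inferInstance hY A' B' hB hA, H89TrQs.quasisimple (hY.to_le hXY) hA h.2⟩

end Cfsg.Agent.Lib.H89TrComp
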