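import Mathlib
import Cfsg.Agent.Lib.H89TrComp

set_option autoImplicit false

namespace Cfsg.Agent.Lib.H89TrLayer

open Cfsg Cfsg.FusionSystem Cfsg.Agent.Lib.Helper87Fusion Cfsg.Agent.Lib.H89TrDefs
  Cfsg.Agent.Lib.H89TrBasic

variable {Ω : Type*} [Group Ω] {t s : Ω → Ω}

/-- the image of a layer under an automorphism of `F` is a layer. -/
theorem layer {S : Subgroup Ω} [Finite S] {p : ℕ} [Fact p.Prime] (hS : IsPGroup p S)
    {F : FusionSystem S} (hFF : Corr t s F F) {T T' : Subgroup Ω} {E : FusionSystem T}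
    {E' : FusionSystem T'} (hEE' : Corr t s E E') (hE : E.IsLayerOf F p) : E'.IsLayerOf F p := by
  have hFFs : Corr s t F F := corr_symm hFF
  refine ⟨H89TrNor.normal hS hEE' hFF hE.1, ?_, ?_⟩
  · intro U C hC
    have hU : U ≤ S := H89TrUniq.sn_le hC.1
    obtain ⟨U₀, C₀, hCC₀⟩ := H89TrEx.exists_corr (isoOn_symm hFF.1) hU C
    have hC₀ : C₀.IsComponentIn F p := H89TrComp.component hS hCC₀ hFFs hC
    have h1 : C₀.IsSubsystemOf E := hE.2.1 U₀ C₀ hC₀
    exact H89TrSub.sub (corr_symm hCC₀) hEE' h1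
  · intro R D hD hall
    have hR : R ≤ S := hD.1.2.2.2.1.1
    obtain ⟨R₀, D₀, hDD₀⟩ := H89TrEx.exists_corr (isoOn_symm hFF.1) hR D
    have hD₀ : D₀.IsNormalIn F p := H89TrNor.normal hS hDD₀ hFFs hD
    have h2 : E.IsSubsystemOf D₀ := by
      refine hE.2.2 R₀ D₀ hD₀ ?_
      intro U C hC
      have hU : U ≤ S := H89TrUniq.sn_le hC.1
      obtain ⟨U', C', hCC'⟩ := H89TrEx.exists_corr hFF.1 hU C
      have hC' : C'.IsComponentIn F p := H89TrComp.component hS hCC' hFF hC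
      have h3 : C'.IsSubsystemOf D := hall U' C' hC'
      exact H89TrSub.sub (corr_symm hCC') hDD₀ h3
    exact H89TrSub.sub hEE' (corr_symm hDD₀) h2

/-- two layers have the same maps, hence the same group. -/
theorem layer_unique {S : Subgroup Ω} {p : ℕ} {F : FusionSystem S} {T T' : Subgroup Ω}
    {E : FusionSystem T} {E' : FusionSystem T'} (hE : E.IsLayerOf F p) (hE' : E'.IsLayerOf F p) :
    T = T' ∧ ∀ P : Subgroup Ω, E.Hom P = E'.Hom P := by
  have h1 : E.IsSubsystemOf E' := hE.2.2 _ E' hE'.1 hE'.2.1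
  have h2 : E'.IsSubsystemOf E := hE'.2.2 _ E hE.1 hE.2.1
  refine ⟨le_antisymm ?_ ?_, fun P => Set.Subset.antisymm (h1 P) (h2 P)⟩
  · have h : IsMap E T id := isMap_id E le_rfl
    exact (Cfsg.Agent.Lib.Helper88Normal.isMap_of_subsystem h1 h).le
  · have h : IsMap E' T' id := isMap_id E' le_rfl
    exact (Cfsg.Agent.Lib.Helper88Normal.isMap_of_subsystem h2 h).le

end Cfsg.Agent.Lib.H89TrLayer
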