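import Mathlib
import Cfsg.Agent.Lib.H89TrConj
import Cfsg.Agent.Lib.H89TrSn
import Cfsg.Agent.Lib.H89TrUniq
import Cfsg.Agent.Lib.H89TrEx

set_option autoImplicit false

namespace Cfsg.Agent.Lib.H89TrSnConj

open Cfsg Cfsg.FusionSystem Cfsg.Agent.Lib.Helper87Fusion Cfsg.Agent.Lib.H89TrDefs
  Cfsg.Agent.Lib.H89TrBasic Cfsg.Agent.Lib.H89TrConj

variable {Ω : Type*} [Group Ω]

theorem sn_conj_aux {p : ℕ} {T S : Subgroup Ω} {C : FusionSystem T} {F : FusionSystem S}
    (hs : C.IsSubnormalIn F p) : ∀ (_ : Fact p.Prime) (_ : Finite S) (_ : IsPGroup p S) (g s : Ω → Ω)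
    (T' : Subgroup Ω) (E : FusionSystem T') (_ : IsMap F T g) (_ : Corr g s C E),
    E.IsSubnormalIn F p := by
  induction hs with
  | refl F p =>
    intro hp hfin hS g s T' E hg h
    have himg := Cfsg.Agent.Lib.Helper88Normal.image_eq_of_maps_to hg (fun x hx => hg.mem hx)
    obtain ⟨g', hg', hg'g, hgg', -⟩ := hg.inv himg
    have h1 := corr_self hg hg' himg hg'g hgg'
    have h2 : Corr g g' F E := by
      refine corr_congr h (fun _ _ => rfl) (fun y hy => ?_)
      have e := hg'g (s y) (h.1.inv y hy)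
      rw [h.1.ts y hy] at e
      exact e.symm
    have h3 := Cfsg.Agent.Lib.H89TrUniq.unique h2 h1
    exact Cfsg.Agent.Lib.H89TrUniq.sn_of_homEq p h3.1 h3.2
  | step hCD hD ih =>
    rename_i U S C D F p
    intro hp hfin hS g s T' E hg h
    have hTU := Cfsg.Agent.Lib.H89TrUniq.sn_le hCD
    have hinv : D.IsInvariantIn F := hD.1.2.2
    have hUS : U ≤ S := hinv.2.1.1
    have hfinU : Finite U := Finite.of_injective (Subgroup.inclusion hUS)
      (Subgroup.inclusion_injective hUS)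
    have hpU : IsPGroup p U := hS.to_le hUS
    obtain ⟨a, c, ha, haU, hc, hgac⟩ := Cfsg.Agent.Lib.Helper88Normal.frattini hinv hTU hg
    obtain ⟨T₁, hT₁⟩ := hc.exists_image
    obtain ⟨c', hc', hiso⟩ := isoOn_of_isMap hc hT₁
    obtain ⟨X', C₁, hcorr⟩ := Cfsg.Agent.Lib.H89TrEx.exists_corr hiso le_rfl C
    have hC₁ : C₁.IsSubnormalIn D p := ih hp hfinU hpU c c' X' C₁ hc hcorr
    obtain ⟨a', ha', ha'a, haa', -⟩ := ha.inv haU
    have hDD := corr_of_invariant hinv ha ha' haU ha'a haa'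
    have hC₁E : Corr a a' C₁ E :=
      corr_comp hcorr h hDD.1 (Cfsg.Agent.Lib.H89TrUniq.sn_le hC₁) hgac
    exact IsSubnormalIn.step (Cfsg.Agent.Lib.H89TrSn.sn hC₁ hfinU hpU E D hDD hC₁E) hD

/-- an `F`-conjugate of a subnormal subsystem is subnormal.  Induction on `hs` (generalize `g s T' E`, `Finite`, `IsPGroup`).
`refl` (`C = F`, `T = S`): `g '' S = S` (`Helper88Normal.image_eq_of_maps_to`), inverse `g'` (`isoOn_of_isMap`/`IsMap.inv`), `corr_self`: `Corr g g' F F`;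
`corr_congr h` turns `Corr g s F E` into `Corr g g' F E` (`s = g'` on `T' = S`: both invert `g`); `H89TrUniq.unique` + `H89TrUniq.sn_of_homEq`.
`step` (`C sn D`, `D ⊴ F` over `U`, `T ≤ U` by `H89TrUniq.sn_le`): `Helper88Normal.frattini hD.1.2.2 hTU hg` gives `a` (`F`-aut of `U`), `c` (`D`-map on `T`), `g = a ∘ c` on `T`.
`T₁` := image of `T` under `c` (`IsMap.exists_image_of_le`), `isoOn_of_isMap` gives `c'`; `H89TrEx.exists_corr` (`X = Y = T`) gives `C₁` over some `T₁'` with `Corr c c' C C₁`.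
IH: `C₁ sn D`.  `a'` := inverse of `a` (`IsMap.inv`), `corr_of_invariant`: `Corr a a' D D`; `corr_comp`: `Corr a a' C₁ E`; `H89TrSn.sn`: `E sn D`; `IsSubnormalIn.step`. -/
theorem sn_conj {p : ℕ} [Fact p.Prime] {T S : Subgroup Ω} {C : FusionSystem T} {F : FusionSystem S}
    (hs : C.IsSubnormalIn F p) (hfin : Finite S) (hS : IsPGroup p S) {g s : Ω → Ω} {T' : Subgroup Ω}
    (E : FusionSystem T') (hg : IsMap F T g) (h : Corr g s C E) : E.IsSubnormalIn F p :=
  sn_conj_aux hs inferInstance hfin hS g s T' E hg h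

end Cfsg.Agent.Lib.H89TrSnConj
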