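import Mathlib

set_option autoImplicit false

/-! Vocabulary of project 4091 (row S4091, Gheri: in a `p`-solvable group `u^p ≥ |P|^p n^(p-1)`).
A finite `p`-group `P` acts on a subgroup `K` of `Γ` (of order prime to `p`) through `φ : P →* Γ` and conjugation.
`cen φ K X = |C_K(X)|` for `X ≤ P`.
KEY INEQUALITY `KI`:  `∏_{x ∈ P} |C_K(x)|^p ≤ |K|^|P| * |C_K(P)|^(|P| (p-1))`. -/

namespace Cfsg.Agent.Lib.H8GhDefs

variable {P Γ : Type*} [Group P] [Group Γ]

/-- `|C_K(X)|`, `X ≤ P` acting through `φ`. -/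
noncomputable def cen (φ : P →* Γ) (K : Subgroup Γ) (X : Subgroup P) : ℕ :=
  Nat.card ↥(K ⊓ Subgroup.centralizer ((X.map φ : Subgroup Γ) : Set Γ))

/-- the standing hypotheses: `P` normalises `K`, and `|K|` is prime to `p`. -/
structure Act (p : ℕ) (φ : P →* Γ) (K : Subgroup Γ) : Prop where
  nor : φ.range ≤ Subgroup.normalizer (K : Set Γ)
  cop : (Nat.card K).Coprime p

/-- the key inequality. -/
def KI (p : ℕ) [Fintype P] (φ : P →* Γ) (K : Subgroup Γ) : Prop :=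
  ∏ x : P, cen φ K (Subgroup.zpowers x) ^ p ≤
    Nat.card K ^ Nat.card P * cen φ K ⊤ ^ (Nat.card P * (p - 1))

/-- the kernel of the action of `P` on `K`. -/
def Kr (φ : P →* Γ) (K : Subgroup Γ) : Subgroup P := (Subgroup.centralizer (K : Set Γ)).comap φ

/-- the group `N_Γ(N) / N`. -/
abbrev QG (N : Subgroup Γ) : Type _ :=
  ↥(Subgroup.normalizer (N : Set Γ)) ⧸ N.subgroupOf (Subgroup.normalizer (N : Set Γ))

/-- the action on `N_Γ(N) / N`. -/
def qφ (φ : P →* Γ) (N : Subgroup Γ) (h : φ.range ≤ Subgroup.normalizer (N : Set Γ)) : P →* QG N :=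
  (QuotientGroup.mk' (N.subgroupOf (Subgroup.normalizer (N : Set Γ)))).comp
    (φ.codRestrict (Subgroup.normalizer (N : Set Γ)) (fun x => h ⟨x, rfl⟩))

/-- the image `K N / N` of `K` in `N_Γ(N) / N`. -/
def qK (K N : Subgroup Γ) : Subgroup (QG N) :=
  (K.subgroupOf (Subgroup.normalizer (N : Set Γ))).map
    (QuotientGroup.mk' (N.subgroupOf (Subgroup.normalizer (N : Set Γ))))

/-- `N` is a `P`-invariant normal subgroup of `K`. -/
structure Sub (φ : P →* Γ) (K N : Subgroup Γ) : Prop where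
  le : N ≤ K
  norK : K ≤ Subgroup.normalizer (N : Set Γ)
  norP : φ.range ≤ Subgroup.normalizer (N : Set Γ)

/-- `K` is abelian. -/
def Ab (K : Subgroup Γ) : Prop := ∀ a ∈ K, ∀ b ∈ K, a * b = b * a

/-- `R` is a `P`-invariant Sylow `r`-subgroup of `K`. -/
structure IsSyl (r : ℕ) (φ : P →* Γ) (K R : Subgroup Γ) : Prop where
  le : R ≤ K
  card : Nat.card R = r ^ (Nat.card K).factorization r
  nor : φ.range ≤ Subgroup.normalizer (R : Set Γ)

/-- `|C_{M₁/M₀}(H)|` as it is written in the rows S4090, S4091. -/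
noncomputable def EE {G : Type*} [Group G] (M₀ M₁ H : Subgroup G) : ℕ :=
  Nat.card {u : G // u ∈ M₁ ∧ ∀ h ∈ H, h * u * h⁻¹ * u⁻¹ ∈ M₀} / Nat.card M₀

end Cfsg.Agent.Lib.H8GhDefs
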