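import Mathlib
import Cfsg.Prelude.Def_GeometricClasses

set_option autoImplicit false
set_option linter.unusedSectionVars false

/-! Row S5961: the lemmas L0, L2, L4 of row S5958 (Helper29ImpL0, Helper29ImpL2, Helper77ImpL4) over a
general index type. -/

namespace Cfsg.Agent.Lib.H90SwL

open Module Polynomial Cfsg.Geo

variable {F : Type*} [Field F] {ι : Type} [Fintype ι]

section L
variable {a t : ℕ} (r : ℕ) [Fact r.Prime] (f : Module.End F (ι → F)) (hf : f ^ r = 1)
  (D : Fin t → Submodule F (ι → F)) (hD : IsMDecomposition a D) (σ : Equiv.Perm (Fin t))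
  (hσ : ∀ j, (D j).map f = D (σ j))

include hD in
theorem dec_injective : Function.Injective D := by
  apply hD.indep.injective
  intro i hi
  have h1 := hD.finrank_eq i
  rw [hi, finrank_bot] at h1
  have h2 := hD.pos
  omega

include hσ in
theorem map_pow (k : ℕ) (j : Fin t) : (D j).map (f ^ k) = D ((σ ^ k) j) := by
  induction k with
  | zero =>
    rw [pow_zero, pow_zero, Module.End.one_eq_id, Submodule.map_id]
    rfl
  | succ k ih =>
    rw [pow_succ', Module.End.mul_eq_comp, Submodule.map_comp, ih, hσ, pow_succ',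
      Equiv.Perm.mul_apply]

include hf hD hσ in
theorem sigma_pow : σ ^ r = 1 := by
  ext j
  have h1 := map_pow f D σ hσ r j
  rw [hf, Module.End.one_eq_id, Submodule.map_id] at h1
  rw [← dec_injective D hD h1]
  rfl

include hf hD hσ in
theorem pow_inj_aux (j : Fin t) (hj : σ j ≠ j) (k m : ℕ) (hk' : k + m < r)
    (h : (σ ^ k) j = (σ ^ (k + m)) j) : m = 0 := by
  by_contra hm
  have hr : r.Prime := Fact.out
  have h1 : (σ ^ m) j = j := by
    rw [pow_add, Equiv.Perm.mul_apply] at h
    exact ((σ ^ k).injective h).symm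
  have hcop : Nat.Coprime m r := by
    rw [Nat.coprime_comm, hr.coprime_iff_not_dvd]
    intro hdvd
    have := Nat.le_of_dvd (Nat.pos_of_ne_zero hm) hdvd
    omega
  obtain ⟨u, -, hu⟩ := Nat.exists_mul_mod_eq_one_of_coprime hcop hr.one_lt
  have h2 : σ ^ (m * u) = σ := by
    rw [pow_eq_pow_mod (m * u) (sigma_pow r f hf D hD σ hσ), hu, pow_one]
  apply hj
  have h3 := Equiv.Perm.pow_apply_eq_self_of_apply_eq_self h1 u
  rw [← pow_mul, h2] at h3
  exact h3

include hf hD hσ in
theorem pow_inj (j : Fin t) (hj : σ j ≠ j) (k k' : ℕ) (hk : k < r) (hk' : k' < r)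
    (h : (σ ^ k) j = (σ ^ k') j) : k = k' := by
  rcases le_total k k' with hle | hle
  · obtain ⟨m, rfl⟩ := Nat.exists_eq_add_of_le hle
    have := pow_inj_aux r f hf D hD σ hσ j hj k m hk' h
    omega
  · obtain ⟨m, rfl⟩ := Nat.exists_eq_add_of_le hle
    have := pow_inj_aux r f hf D hD σ hσ j hj k' m hk h.symm
    omega

include hf hD hσ in
/-- the vectors `f ^ k v`, `k < r`, are linearly independent for `0 ≠ v ∈ D j`, `σ j ≠ j` -/
theorem li_orbit (j : Fin t) (hj : σ j ≠ j) (v : ι → F) (hv : v ∈ D j) (hv0 : v ≠ 0) :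
    LinearIndependent F (fun k : Fin r => (f ^ (k : ℕ)) v) := by
  have hinj : Function.Injective (fun k : Fin r => (σ ^ (k : ℕ)) j) := by
    intro k k' h
    exact Fin.ext (pow_inj r f hf D hD σ hσ j hj k k' k.2 k'.2 h)
  have hind : iSupIndep (D ∘ fun k : Fin r => (σ ^ (k : ℕ)) j) := hD.indep.comp hinj
  apply hind.linearIndependent
  · intro k
    show (f ^ (k : ℕ)) v ∈ D ((σ ^ (k : ℕ)) j)
    rw [← map_pow f D σ hσ]
    exact Submodule.mem_map_of_mem hv
  · intro k h0
    apply hv0
    have h1 : (f ^ (r - (k : ℕ))) ((f ^ (k : ℕ)) v) = v := by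
      rw [← Module.End.mul_apply, ← pow_add, Nat.sub_add_cancel k.2.le, hf]
      rfl
    rw [← h1, h0, map_zero]

end L

section L
variable {a t : ℕ} (r : ℕ) [Fact r.Prime] (f : Module.End F (ι → F)) (hf : f ^ r = 1)
  (D : Fin t → Submodule F (ι → F)) (hD : IsMDecomposition a D) (σ : Equiv.Perm (Fin t))
  (hσ : ∀ j, (D j).map f = D (σ j))

include hf hD hσ in
theorem l2 (j : Fin t) (hj : σ j ≠ j) : a ≤ finrank F ↥(Module.End.eigenspace f 1) := by
  have hr : r.Prime := Fact.out
  have hfN : f * (∑ k ∈ Finset.range r, f ^ k) = ∑ k ∈ Finset.range r, f ^ k := by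
    rw [Finset.mul_sum]
    have h1 : ∑ k ∈ Finset.range r, f * f ^ k = ∑ k ∈ Finset.range r, f ^ (k + 1) :=
      Finset.sum_congr rfl (fun k _ => (pow_succ' f k).symm)
    have h2 := Finset.sum_range_succ' (fun k => f ^ k) r
    have h3 := Finset.sum_range_succ (fun k => f ^ k) r
    rw [h1]
    rw [h3, hf, pow_zero] at h2
    exact (add_right_cancel h2).symm
  have hmem : ∀ v : D j, (∑ k ∈ Finset.range r, f ^ k) (v : ι → F) ∈
      Module.End.eigenspace f 1 := by
    intro v
    rw [Module.End.mem_eigenspace_iff, one_smul, ← Module.End.mul_apply, hfN]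
  let N : D j →ₗ[F] Module.End.eigenspace f 1 :=
    LinearMap.codRestrict _ ((∑ k ∈ Finset.range r, f ^ k).comp (D j).subtype) hmem
  have hinj : Function.Injective N := by
    rw [← LinearMap.ker_eq_bot, LinearMap.ker_eq_bot']
    intro v hv
    by_contra hv0
    have hv0' : (v : ι → F) ≠ 0 := fun h => hv0 (Subtype.ext h)
    have hli := li_orbit r f hf D hD σ hσ j hj v v.2 hv0'
    rw [Fintype.linearIndependent_iff] at hli
    have h1 : (∑ k ∈ Finset.range r, f ^ k) (v : ι → F) = 0 := congrArg Subtype.val hv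
    have h2 := hli (fun _ => 1) (by
      simp only [one_smul]
      rw [← Finset.sum_range (fun k => (f ^ k) (v : ι → F)), ← h1, LinearMap.sum_apply])
      ⟨0, hr.pos⟩
    exact one_ne_zero h2
  have h := LinearMap.finrank_le_finrank_of_injective hinj
  rwa [hD.finrank_eq j] at h

end L

section L
variable {a t : ℕ} (r : ℕ) [Fact r.Prime] (f : Module.End F (ι → F)) (hf : f ^ r = 1)
  (D : Fin t → Submodule F (ι → F)) (hD : IsMDecomposition a D) (σ : Equiv.Perm (Fin t))
  (hσ : ∀ j, (D j).map f = D (σ j))

include hσ in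
private lemma map_pow' (k : ℕ) (j : Fin t) : (D j).map (f ^ k) = D ((σ ^ k) j) := by
  induction k with
  | zero =>
    rw [pow_zero, pow_zero]
    exact Submodule.map_id _
  | succ k ih =>
    rw [pow_succ', Module.End.mul_eq_comp, Submodule.map_comp, ih, hσ, pow_succ',
      Equiv.Perm.mul_apply]

include hD in
private lemma D_inj : Function.Injective D := by
  refine hD.indep.injective fun i h => ?_
  have h1 := hD.finrank_eq i
  rw [h, finrank_bot] at h1
  have := hD.pos
  omega

include hf hD hσ in
private lemma sigma_pow' : σ ^ r = 1 := by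
  ext j
  have h1 := map_pow' f D σ hσ r j
  rw [hf] at h1
  have h2 : (D j).map (1 : Module.End F (ι → F)) = D j := Submodule.map_id _
  rw [h2] at h1
  rw [← D_inj D hD h1]
  simp

include hf hD hσ in
private lemma pow_fix (j : Fin t) (hj : σ j ≠ j) (d : ℕ) (hd : d < r) (h : (σ ^ d) j = j) :
    d = 0 := by
  have hr : r.Prime := Fact.out
  have h1 : MulAction.period σ j ∣ r := by
    rw [← MulAction.pow_smul_eq_iff_period_dvd, sigma_pow' r f hf D hD σ hσ, one_smul]
  have h2 : MulAction.period σ j ∣ d := by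
    rw [← MulAction.pow_smul_eq_iff_period_dvd]
    exact h
  rcases (Nat.dvd_prime hr).mp h1 with h3 | h3
  · exfalso
    apply hj
    have := MulAction.pow_period_smul σ j
    rw [h3, pow_one] at this
    exact this
  · rw [h3] at h2
    exact Nat.eq_zero_of_dvd_of_lt h2 hd

include hf hD hσ in
private lemma pow_inj' (j : Fin t) (hj : σ j ≠ j) (k k' : ℕ) (hk : k < r) (hk' : k' < r)
    (h : (σ ^ k) j = (σ ^ k') j) : k = k' := by
  wlog hle : k ≤ k' generalizing k k'
  · exact (this k' k hk' hk h.symm (by omega)).symm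
  obtain ⟨d, rfl⟩ := Nat.exists_eq_add_of_le hle
  rw [pow_add, Equiv.Perm.mul_apply] at h
  have h1 := (σ ^ k).injective h
  have := pow_fix r f hf D hD σ hσ j hj d (by omega) h1.symm
  omega

include hD in
private lemma disj {i : Fin t} {S : Finset (Fin t)} (h : i ∉ S) :
    Disjoint (D i) (⨆ k ∈ S, D k) := by
  have := hD.indep.disjoint_biSup (x := i) (y := (S : Set (Fin t))) (by simpa using h)
  simpa using this

include hD in
private lemma finrank_U (S : Finset (Fin t)) :
    finrank F ↥(⨆ k ∈ S, D k : Submodule F (ι → F)) = a * S.card := by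
  classical
  induction S using Finset.induction_on with
  | empty => simp
  | insert i S hi ih =>
    rw [Finset.iSup_insert, Finset.card_insert_of_notMem hi]
    have h1 := Submodule.finrank_sup_add_finrank_inf_eq (D i) (⨆ k ∈ S, D k)
    rw [(disj D hD hi).eq_bot, finrank_bot, add_zero, hD.finrank_eq, ih] at h1
    rw [h1]; ring

include hf in
private lemma f_inj {w : ι → F} (h : f w = 0) : w = 0 := by
  have hr : r.Prime := Fact.out
  have h1 : (f ^ r) w = w := by rw [hf]; rfl
  obtain ⟨m, hm⟩ : ∃ m, r = m + 1 := ⟨r - 1, by have := hr.pos; omega⟩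
  rw [hm, pow_succ, Module.End.mul_apply, h, map_zero] at h1
  exact h1.symm

/- piece I-L4 -/
include hf hD hσ in
theorem l4 (j : Fin t) (hj : σ j ≠ j) :
    finrank F ↥(Module.End.eigenspace f 1) + a * (r - 1) ≤ Fintype.card ι := by
  classical
  have hr : r.Prime := Fact.out
  set S : ℕ → Finset (Fin t) := fun m => (Finset.range m).image (fun k => (σ ^ k) j) with hS
  have hSs : ∀ m, S (m + 1) = insert ((σ ^ m) j) (S m) := by
    intro m
    simp only [hS, Finset.range_add_one, Finset.image_insert]
  have hcard : ∀ m, m ≤ r → (S m).card = m := by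
    intro m hm
    simp only [hS]
    rw [Finset.card_image_of_injOn, Finset.card_range]
    intro k hk k' hk' h
    simp only [Finset.coe_range, Set.mem_Iio] at hk hk'
    exact pow_inj' r f hf D hD σ hσ j hj k k' (by omega) (by omega) h
  have claim : ∀ m, m + 1 ≤ r → ∀ v ∈ (⨆ k ∈ S m, D k : Submodule F (ι → F)), f v = v →
      v = 0 := by
    intro m
    induction m with
    | zero =>
      intro _ v hv _
      simpa [hS] using hv
    | succ m ih =>
      intro hm v hv hfv
      rw [hSs, Finset.iSup_insert, Submodule.mem_sup] at hv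
      obtain ⟨w, hw, u, hu, rfl⟩ := hv
      have hfu : f u ∈ (⨆ k ∈ S (m + 1), D k : Submodule F (ι → F)) := by
        have h1 : f u ∈ (⨆ k ∈ S m, D k : Submodule F (ι → F)).map f :=
          Submodule.mem_map_of_mem hu
        simp only [Submodule.map_iSup, hσ] at h1
        have hle : (⨆ k ∈ S m, D (σ k) : Submodule F (ι → F)) ≤ ⨆ k ∈ S (m + 1), D k := by
          refine iSup₂_le fun k hk => ?_
          have hk' : σ k ∈ S (m + 1) := by
            simp only [hS, Finset.mem_image, Finset.mem_range] at hk ⊢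
            obtain ⟨l, hl, rfl⟩ := hk
            exact ⟨l + 1, by omega, by rw [pow_succ', Equiv.Perm.mul_apply]⟩
          exact le_biSup D hk'
        exact hle h1
      have hwu : w + u ∈ (⨆ k ∈ S (m + 1), D k : Submodule F (ι → F)) := by
        rw [hSs, Finset.iSup_insert]
        exact Submodule.add_mem_sup hw hu
      have hfw : f w ∈ (⨆ k ∈ S (m + 1), D k : Submodule F (ι → F)) := by
        have : f w = (w + u) - f u := by
          rw [map_add] at hfv
          rw [← hfv]; abel
        rw [this]
        exact Submodule.sub_mem _ hwu hfu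
      have hfw' : f w ∈ D ((σ ^ (m + 1)) j) := by
        rw [pow_succ', Equiv.Perm.mul_apply, ← hσ]
        exact Submodule.mem_map_of_mem hw
      have hnot : (σ ^ (m + 1)) j ∉ S (m + 1) := by
        simp only [hS, Finset.mem_image, Finset.mem_range, not_exists, not_and]
        intro l hl h
        have := pow_inj' r f hf D hD σ hσ j hj l (m + 1) (by omega) (by omega) h
        omega
      have h0 : f w = 0 := (Submodule.disjoint_def.mp (disj D hD hnot)) _ hfw' hfw
      have hw0 : w = 0 := f_inj r f hf h0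
      subst hw0
      rw [zero_add] at hfv ⊢
      exact ih (by omega) u hu hfv
  set U : Submodule F (ι → F) := ⨆ k ∈ S (r - 1), D k with hU
  have hUr : finrank F U = a * (r - 1) := by
    rw [hU, finrank_U D hD, hcard _ (by omega)]
  have hinf : Module.End.eigenspace f 1 ⊓ U = ⊥ := by
    rw [eq_bot_iff]
    rintro v ⟨h1, h2⟩
    have h1' : f v = v := by
      have := Module.End.mem_eigenspace_iff.mp h1
      rwa [one_smul] at this
    have hr1 := hr.pos
    exact claim (r - 1) (by omega) v h2 h1'
  have h1 := Submodule.finrank_sup_add_finrank_inf_eq (Module.End.eigenspace f 1) U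
  rw [hinf, finrank_bot, add_zero, hUr] at h1
  rw [← h1]
  have h2 := Submodule.finrank_le (Module.End.eigenspace f 1 ⊔ U)
  rwa [Module.finrank_fintype_fun_eq_card] at h2

end L

end Cfsg.Agent.Lib.H90SwL
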