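import Mathlib
import Cfsg.Agent.Lib.Helper92HHDefs
import Cfsg.Agent.Lib.H92HHTrivH
import Cfsg.Agent.Lib.Helper66Ward9

set_option autoImplicit false

namespace Cfsg.Agent.Lib.H92HHShStep

open Polynomial Cfsg.Agent.Lib.Helper92HHDefs Cfsg.Agent.Lib.Helper66Ward9

theorem zp_inv {G : Type*} [Group G] [Finite G] (σ : MulAut G) (V : Subgroup G)
    (h : ∀ v ∈ V, σ v ∈ V) : ∀ a : Subgroup.zpowers σ, ∀ v ∈ V, (Subgroup.zpowers σ).subtype a v ∈ V := by
  rintro ⟨a, ha⟩ v hv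
  have h1 : a ∈ Submonoid.powers σ := (isOfFinOrder_of_finite σ).mem_powers_iff_mem_zpowers.mpr ha
  obtain ⟨k, rfl⟩ := h1
  show (σ ^ k) v ∈ V
  clear ha
  induction k with
  | zero => simpa using hv
  | succ k ih =>
    rw [pow_succ', MulAut.mul_apply]
    exact h _ ih

theorem zp_pgroup {G : Type*} [Group G] (p n : ℕ) (σ : MulAut G) (hσ : σ ^ p ^ n = 1) :
    IsPGroup p (Subgroup.zpowers σ) := by
  rintro ⟨a, ha⟩
  obtain ⟨k, rfl⟩ := Subgroup.mem_zpowers_iff.mp ha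
  refine ⟨n, Subtype.ext ?_⟩
  show (σ ^ k) ^ p ^ n = 1
  rw [← zpow_natCast, ← zpow_mul, mul_comm, zpow_mul, zpow_natCast, hσ, one_zpow]

/-- fixed points in quotients, cyclic form -/
theorem mem_of_fixed {G : Type*} [Group G] [Finite G] (p n : ℕ) [Fact p.Prime] (σ : MulAut G)
    (hσ : σ ^ p ^ n = 1) (hf : ∀ g : G, σ g = g → g = 1) (K : Subgroup G)
    (hK : ∀ x ∈ K, σ x ∈ K) {g : G} (hg : g⁻¹ * σ g ∈ K) : g ∈ K := by
  apply mem_of_coset_fixed (zp_pgroup p n σ hσ) (Subgroup.zpowers σ).subtype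
    (fun g h => hf g (h ⟨σ, Subgroup.mem_zpowers σ⟩)) K (zp_inv σ K hK)
  rintro ⟨a, ha⟩
  have h1 : a ∈ Submonoid.powers σ := (isOfFinOrder_of_finite σ).mem_powers_iff_mem_zpowers.mpr ha
  obtain ⟨k, rfl⟩ := h1
  show g⁻¹ * (σ ^ k) g ∈ K
  clear ha
  induction k with
  | zero => simp
  | succ k ih =>
    rw [pow_succ', MulAut.mul_apply]
    have e : g⁻¹ * σ ((σ ^ k) g) = (g⁻¹ * σ g) * σ (g⁻¹ * (σ ^ k) g) := by
      rw [map_mul, map_inv]; group
    rw [e]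
    exact K.mul_mem hg (hK _ ih)

/-- PIECE ShStep. -/
theorem step {G : Type*} [Group G] [Finite G] (p n : ℕ) [Fact p.Prime] (hp2 : p ≠ 2) (hn : 1 ≤ n)
    (hsol : Group.IsSolvable G) (σ : MulAut G) (hσ : σ ^ p ^ n = 1)
    (hf : ∀ g : G, σ g = g → g = 1) (V : Subgroup G) [V.Normal] (hVne : V ≠ ⊥)
    (hσV : ∀ v ∈ V, σ v ∈ V)
    (hmin : ∀ W : Subgroup G, W.Normal → (∀ w ∈ W, σ w ∈ W) → W ≤ V → W = ⊥ ∨ W = V) :
    ∀ g : G, g⁻¹ * (σ ^ p ^ (n - 1)) g ∈ Subgroup.centralizer (V : Set G) := by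
  let ρ : Subgroup.zpowers σ →* MulAut G := (Subgroup.zpowers σ).subtype
  let σ₀ : Subgroup.zpowers σ := ⟨σ, Subgroup.mem_zpowers σ⟩
  have hρV : ∀ a, ∀ v ∈ V, ρ a v ∈ V := zp_inv σ V hσV
  have hmin' : ∀ W : Subgroup G, W.Normal → (∀ a, ∀ w ∈ W, ρ a w ∈ W) → W ≤ V → W = ⊥ ∨ W = V :=
    fun W hW h hWV => hmin W hW (fun w hw => h σ₀ w hw) hWV
  have hab := abelian_of_min hsol ρ V hVne hρV hmin'
  obtain ⟨r, hr, hexpV⟩ := exponent_of_min ρ V hVne hmin' hρV hab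
  have := Fact.mk hr
  let _ : CommGroup V := { (inferInstance : Group V) with
    mul_comm := fun a b => Subtype.ext (hab a a.2 b b.2) }
  have hVnt : Nontrivial V := (Subgroup.nontrivial_iff_ne_bot V).mpr hVne
  let φ : G →* MulAut V := MulAut.conjNormal
  let ψ : Subgroup.zpowers σ →* MulAut V := resHom ρ V hρV
  have hψ : ∀ (a : Subgroup.zpowers σ) (v : V), ((ψ a v : V) : G) = ρ a v := fun a v => rfl
  have hφ : ∀ (g : G) (v : V), ((φ g v : V) : G) = g * v * g⁻¹ := fun g v =>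
    MulAut.conjNormal_apply g v
  have hφσ : ∀ a g, ψ a * φ g * (ψ a)⁻¹ = φ (ρ a g) := by
    intro a g
    rw [mul_inv_eq_iff_eq_mul]
    ext v
    rw [MulAut.mul_apply, MulAut.mul_apply, hψ, hφ, hφ, hψ, map_mul, map_mul, map_inv]
  set C := φ.ker with hC
  have hσC : ∀ c ∈ C, σ c ∈ C := by
    intro c hc
    rw [hC, MonoidHom.mem_ker] at hc ⊢
    have := hφσ σ₀ c
    rw [hc] at this
    rw [show σ c = ρ σ₀ c from rfl, ← this]
    group
  have key := Cfsg.Agent.Lib.H92HHTrivH.trivH p r n hp2 hn V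
    (fun v => Subtype.ext (hexpV v v.2)) (ψ σ₀)
    (by
      rw [← map_pow]
      have : σ₀ ^ p ^ n = 1 := Subtype.ext hσ
      rw [this, map_one])
    φ.range
    (Group.isSolvable_of_surjective φ.rangeRestrict_surjective)
    (by
      rintro _ ⟨g, rfl⟩
      exact ⟨ρ σ₀ g, (hφσ σ₀ g).symm⟩)
    (by
      rintro _ ⟨g, rfl⟩ hg
      have h1 : g⁻¹ * σ g ∈ C := by
        rw [hC, MonoidHom.mem_ker, map_mul, map_inv, show σ g = ρ σ₀ g from rfl, ← hφσ, hg.eq]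
        group
      exact mem_of_fixed p n σ hσ hf C hσC h1)
    (by
      intro v hv
      apply Subtype.ext
      apply hf
      exact congrArg Subtype.val hv)
    (by
      intro U hU1 hU2
      have hn : (U.map V.subtype).Normal := by
        constructor
        rintro _ ⟨u, hu, rfl⟩ g
        exact ⟨φ g u, hU1 _ ⟨g, rfl⟩ u hu, hφ g u⟩
      have hσU : ∀ w ∈ U.map V.subtype, σ w ∈ U.map V.subtype := by
        rintro _ ⟨u, hu, rfl⟩
        exact ⟨ψ σ₀ u, hU2 u hu, hψ σ₀ u⟩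
      rcases hmin _ hn hσU (Subgroup.map_subtype_le U) with h | h
      · left
        exact (Subgroup.map_eq_bot_iff_of_injective U V.subtype_injective).mp h
      · right
        rw [eq_top_iff]
        intro v _
        have : (v : G) ∈ U.map V.subtype := by rw [h]; exact v.2
        obtain ⟨u, hu, huv⟩ := this
        have : u = v := Subtype.ext huv
        rwa [← this])
  intro g
  have h1 := key (φ g) ⟨g, rfl⟩
  rw [← map_pow] at h1
  have h2 : φ (ρ (σ₀ ^ p ^ (n - 1)) g) = φ g := by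
    rw [← hφσ, h1.eq]
    group
  have h3 : ρ (σ₀ ^ p ^ (n - 1)) g = (σ ^ p ^ (n - 1)) g := rfl
  rw [h3] at h2
  have h4 : φ (g⁻¹ * (σ ^ p ^ (n - 1)) g) = 1 := by
    rw [map_mul, map_inv, h2]
    group
  rw [Subgroup.mem_centralizer_iff]
  intro v hv
  have h5 := hφ (g⁻¹ * (σ ^ p ^ (n - 1)) g) ⟨v, hv⟩
  rw [h4] at h5
  have h6 : v = (g⁻¹ * (σ ^ p ^ (n - 1)) g) * v * (g⁻¹ * (σ ^ p ^ (n - 1)) g)⁻¹ := h5
  exact (eq_mul_inv_iff_mul_eq.mp h6)

end Cfsg.Agent.Lib.H92HHShStep
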