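import Mathlib
import Cfsg.Agent.Lib.Helper92HHDefs
import Cfsg.Agent.Lib.H92HHShStep

set_option autoImplicit false

namespace Cfsg.Agent.Lib.H92HHShMain

open Polynomial Cfsg.Agent.Lib.Helper92HHDefs Cfsg.Agent.Lib.H92HHShStep

/-- the automorphism induced on the quotient by an invariant normal subgroup -/
theorem exists_quot {G : Type*} [Group G] [Finite G] (σ : MulAut G) (V : Subgroup G) [V.Normal]
    (hσV : ∀ v ∈ V, σ v ∈ V) :
    ∃ σ' : MulAut (G ⧸ V), ∀ (k : ℕ) (g : G), (σ' ^ k) (g : G ⧸ V) = (((σ ^ k) g : G) : G ⧸ V) := by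
  have hmap : V.map (σ : G →* G) = V := by
    apply Subgroup.eq_of_le_of_card_ge
    · rintro _ ⟨v, hv, rfl⟩
      exact hσV v hv
    · rw [Subgroup.card_map_of_injective σ.injective]
  refine ⟨QuotientGroup.congr V V σ hmap, ?_⟩
  intro k
  induction k with
  | zero => intro g; simp
  | succ k ih =>
    intro g
    rw [pow_succ', pow_succ', MulAut.mul_apply, MulAut.mul_apply, ih, QuotientGroup.congr_mk]

theorem main_aux.{u} (p n : ℕ) [Fact p.Prime] (hp2 : p ≠ 2) (hn : 1 ≤ n) :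
    ∀ m : ℕ, ∀ (G : Type u) [Group G] [Finite G], Nat.card G = m →
    Group.IsSolvable G → ∀ σ : MulAut G, σ ^ p ^ n = 1 → (∀ g : G, σ g = g → g = 1) →
    ∃ N : Subgroup G, N.Normal ∧ Group.IsNilpotent N ∧ (∀ g ∈ N, σ g ∈ N) ∧
      ∀ g : G, g⁻¹ * (σ ^ p ^ (n - 1)) g ∈ N := by
  intro m
  induction m using Nat.strong_induction_on with
  | _ m ih =>
  intro G _ _ hm hsol σ hσ hf
  by_cases hG : Subsingleton G
  · refine ⟨⊥, inferInstance, inferInstance, ?_, ?_⟩
    · intro g _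
      rw [Subgroup.mem_bot]
      exact Subsingleton.elim _ _
    · intro g
      rw [Subgroup.mem_bot]
      exact Subsingleton.elim _ _
  rw [not_subsingleton_iff_nontrivial] at hG
  let S : Set (Subgroup G) := {V | V ≠ ⊥ ∧ V.Normal ∧ ∀ v ∈ V, σ v ∈ V}
  have hSne : S.Nonempty := ⟨⊤, top_ne_bot, inferInstance, fun _ _ => Subgroup.mem_top _⟩
  obtain ⟨V, hV⟩ := (Set.toFinite S).exists_minimal hSne
  obtain ⟨hVne, hVn, hσV⟩ := hV.prop
  have hmin : ∀ W : Subgroup G, W.Normal → (∀ w ∈ W, σ w ∈ W) → W ≤ V → W = ⊥ ∨ W = V := by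
    intro W hWn hWσ hWV
    by_cases hW : W = ⊥
    · exact Or.inl hW
    · exact Or.inr (hV.eq_of_le ⟨hW, hWn, hWσ⟩ hWV)
  have hstep := step p n hp2 hn hsol σ hσ hf V hVne hσV hmin
  obtain ⟨σ', hσ'⟩ := exists_quot σ V hσV
  have hσ'1 : ∀ g : G, σ' (g : G ⧸ V) = ((σ g : G) : G ⧸ V) := by
    intro g
    have := hσ' 1 g
    simpa using this
  have hcard' := Subgroup.card_eq_card_quotient_mul_card_subgroup V
  have hV1 : 1 < Nat.card V := (Subgroup.one_lt_card_iff_ne_bot V).mpr hVne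
  have hlt : Nat.card (G ⧸ V) < m := by
    rw [← hm, hcard']
    have : 0 < Nat.card (G ⧸ V) := Nat.card_pos
    nlinarith
  obtain ⟨N', hN'n, hN'nil, hN'σ, hN'τ⟩ := ih _ hlt (G ⧸ V) rfl inferInstance σ'
    (by
      ext x
      induction x using QuotientGroup.induction_on with
      | H g => rw [hσ', hσ]; rfl)
    (by
      intro x
      induction x using QuotientGroup.induction_on with
      | H g =>
        intro h
        rw [QuotientGroup.eq_one_iff]
        apply mem_of_fixed p n σ hσ hf V hσV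
        rw [hσ'1, eq_comm, QuotientGroup.eq] at h
        exact h)
  have hσC : ∀ c ∈ Subgroup.centralizer (V : Set G), σ c ∈ Subgroup.centralizer (V : Set G) := by
    intro c hc
    rw [Subgroup.mem_centralizer_iff] at hc ⊢
    intro v hv
    -- v = σ w with w ∈ V
    have hw : σ⁻¹ v ∈ V := by
      have h1 := zp_inv σ V hσV ⟨σ⁻¹, Subgroup.inv_mem _ (Subgroup.mem_zpowers σ)⟩ v hv
      exact h1
    have h2 := hc _ hw
    have h3 := congrArg σ h2
    rw [map_mul, map_mul] at h3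
    simpa using h3
  refine ⟨N'.comap (QuotientGroup.mk' V) ⊓ Subgroup.centralizer (V : Set G), inferInstance, ?_,
    ?_, ?_⟩
  · set N := N'.comap (QuotientGroup.mk' V) ⊓ Subgroup.centralizer (V : Set G) with hN
    let f : N →* N' := ((QuotientGroup.mk' V).comp N.subtype).codRestrict N' (fun x => x.2.1)
    apply Subgroup.isNilpotent_of_ker_le_center f
    intro x hx
    rw [MonoidHom.mem_ker] at hx
    have h1 : ((x : G) : G ⧸ V) = 1 := congrArg Subtype.val hx
    rw [QuotientGroup.eq_one_iff] at h1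
    rw [Subgroup.mem_center_iff]
    intro y
    apply Subtype.ext
    exact (Subgroup.mem_centralizer_iff.mp y.2.2 x h1).symm
  · rintro g ⟨hg1, hg2⟩
    refine ⟨?_, hσC g hg2⟩
    show ((σ g : G) : G ⧸ V) ∈ N'
    rw [← hσ'1]
    exact hN'σ _ hg1
  · intro g
    refine ⟨?_, hstep g⟩
    show ((g⁻¹ * (σ ^ p ^ (n - 1)) g : G) : G ⧸ V) ∈ N'
    have := hN'τ (g : G ⧸ V)
    rw [hσ'] at this
    exact this

/-- PIECE ShMain.  There is a nilpotent normal `σ`-invariant subgroup `N` with `τ` trivial on `G / N`. -/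
theorem main (p n : ℕ) [Fact p.Prime] (hp2 : p ≠ 2) (hn : 1 ≤ n) {G : Type*} [Group G] [Finite G]
    (hsol : Group.IsSolvable G) (σ : MulAut G) (hσ : σ ^ p ^ n = 1)
    (hf : ∀ g : G, σ g = g → g = 1) :
    ∃ N : Subgroup G, N.Normal ∧ Group.IsNilpotent N ∧ (∀ g ∈ N, σ g ∈ N) ∧
      ∀ g : G, g⁻¹ * (σ ^ p ^ (n - 1)) g ∈ N :=
  main_aux p n hp2 hn _ G rfl hsol σ hσ hf

end Cfsg.Agent.Lib.H92HHShMain
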