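import Mathlib
import Cfsg.Agent.Lib.Helper92HHDefs
import Cfsg.Agent.Lib.H92HHShMain

set_option autoImplicit false

namespace Cfsg.Agent.Lib.H92HHShChain

open Polynomial Cfsg.Agent.Lib.Helper92HHDefs Cfsg.Agent.Lib.H92HHShStep Cfsg.Agent.Lib.H92HHShMain

theorem chain_aux.{u} (p : ℕ) [Fact p.Prime] (hp2 : p ≠ 2) :
    ∀ (n : ℕ) (G : Type u) [Group G] [Finite G], Group.IsSolvable G → ∀ σ : MulAut G,
    σ ^ p ^ n = 1 → (∀ g : G, σ g = g → g = 1) →
    ∃ F : Fin (n + 1) → Subgroup G, F 0 = ⊥ ∧ F (Fin.last n) = ⊤ ∧ Monotone F ∧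
      (∀ i, (F i).Normal) ∧
      ∀ i : Fin n, ∃ k : ℕ, (F i.succ).lowerCentralSeries k ≤ F i.castSucc := by
  intro n
  induction n with
  | zero =>
    intro G _ _ hsol σ hσ hf
    have h1 : σ = 1 := by simpa using hσ
    have hG : ∀ g : G, g = 1 := fun g => hf g (by rw [h1]; rfl)
    refine ⟨fun _ => ⊥, rfl, ?_, fun _ _ _ => le_rfl, fun _ => inferInstance, fun i => i.elim0⟩
    rw [eq_comm, eq_bot_iff]
    intro g _
    rw [Subgroup.mem_bot]
    exact hG g
  | succ n ih =>
    intro G _ _ hsol σ hσ hf
    obtain ⟨N, hNn, hNnil, hNσ, hNτ⟩ := main p (n + 1) hp2 (by omega) hsol σ hσ hf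
    obtain ⟨σ', hσ'⟩ := exists_quot σ N hNσ
    have hσ'1 : ∀ g : G, σ' (g : G ⧸ N) = ((σ g : G) : G ⧸ N) := by
      intro g
      have := hσ' 1 g
      simpa using this
    obtain ⟨F', hF0, hFl, hFm, hFn, hFk⟩ := ih (G ⧸ N) inferInstance σ'
      (by
        ext x
        induction x using QuotientGroup.induction_on with
        | H g =>
          rw [hσ']
          have := hNτ g
          rw [Nat.add_sub_cancel] at this
          rw [MulAut.one_apply, eq_comm, QuotientGroup.eq]
          exact this)
      (by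
        intro x
        induction x using QuotientGroup.induction_on with
        | H g =>
          intro h
          rw [QuotientGroup.eq_one_iff]
          apply mem_of_fixed p (n + 1) σ hσ hf N hNσ
          rw [hσ'1, eq_comm, QuotientGroup.eq] at h
          exact h)
    refine ⟨Fin.cons ⊥ (fun i => (F' i).comap (QuotientGroup.mk' N)), rfl, ?_, ?_, ?_, ?_⟩
    · rw [← Fin.succ_last, Fin.cons_succ, hFl, Subgroup.comap_top]
    · intro a b hab
      induction a using Fin.cases with
      | zero => rw [Fin.cons_zero]; exact bot_le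
      | succ a =>
        induction b using Fin.cases with
        | zero => exact absurd hab (by simp)
        | succ b =>
          rw [Fin.cons_succ, Fin.cons_succ]
          exact Subgroup.comap_mono (hFm (Fin.succ_le_succ_iff.mp hab))
    · intro i
      induction i using Fin.cases with
      | zero => rw [Fin.cons_zero]; infer_instance
      | succ i =>
        rw [Fin.cons_succ]
        have := hFn i
        infer_instance
    · intro i
      induction i using Fin.cases with
      | zero =>
        obtain ⟨j, hj⟩ := (Subgroup.isNilpotent_iff_lowerCentralSeries N).mp hNnil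
        refine ⟨j, ?_⟩
        rw [Fin.cons_succ, hF0, Fin.castSucc_zero, Fin.cons_zero]
        have : (⊥ : Subgroup (G ⧸ N)).comap (QuotientGroup.mk' N) = N := by
          ext g
          rw [Subgroup.mem_comap, Subgroup.mem_bot]
          exact QuotientGroup.eq_one_iff g
        rw [this, hj]
      | succ i =>
        obtain ⟨k, hk⟩ := hFk i
        refine ⟨k, ?_⟩
        rw [Fin.cons_succ, ← Fin.succ_castSucc, Fin.cons_succ, ← Subgroup.map_le_iff_le_comap,
          Subgroup.map_lowerCentralSeries]
        exact (Subgroup.lowerCentralSeries_mono k (Subgroup.map_comap_le _ _)).trans hk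

/-- PIECE ShChain (= the row S3793 up to `orderOf σ = p^n → σ^(p^n) = 1`). -/
theorem chain (p : ℕ) [Fact p.Prime] (hp2 : p ≠ 2) (n : ℕ) {G : Type*} [Group G] [Finite G]
    (hsol : Group.IsSolvable G) (σ : MulAut G) (hσ : σ ^ p ^ n = 1)
    (hf : ∀ g : G, σ g = g → g = 1) :
    ∃ F : Fin (n + 1) → Subgroup G, F 0 = ⊥ ∧ F (Fin.last n) = ⊤ ∧ Monotone F ∧
      (∀ i, (F i).Normal) ∧
      ∀ i : Fin n, ∃ k : ℕ, (F i.succ).lowerCentralSeries k ≤ F i.castSucc :=
  chain_aux p hp2 n G hsol σ hσ hf

end Cfsg.Agent.Lib.H92HHShChain
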