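import Mathlib
import Cfsg.Agent.Lib.Helper92HHDefs
import Cfsg.Agent.Lib.Helper92GRDefs
import Cfsg.Agent.Lib.H92HHShChain

set_option autoImplicit false

namespace Cfsg.Agent.Lib.H92GRChainExt

open Polynomial Cfsg.Agent.Lib.Helper92HHDefs Cfsg.Agent.Lib.Helper92GRDefs Cfsg.Agent.Lib.Helper73HHSc

variable {K V : Type*} [Field K] [AddCommGroup V] [Module K V]

/-- PIECE ChainExt.  Model: the `succ` step of `H92HHShChain.chain_aux` (file `Cfsg/Agent/Lib/H92HHShChain.lean`).  `F = Fin.cons ⊥ (Fin.cons B (fun i => (F̄ i).comap mk))`; `(F̄ 0).comap mk = N`. -/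
theorem chain_ext {G : Type*} [Group G] (m : ℕ) (N B : Subgroup G) [N.Normal] (hB : B.Normal)
    (hBN : B ≤ N) (hBnil : Group.IsNilpotent B) (hk : ∃ k : ℕ, N.lowerCentralSeries k ≤ B)
    (h : HasChain m (G ⧸ N)) : HasChain (m + 2) G := by
  obtain ⟨F', hF0, hFl, hFm, hFn, hFk⟩ := h
  obtain ⟨j, hj⟩ := (Subgroup.isNilpotent_iff_lowerCentralSeries B).mp hBnil
  obtain ⟨k₀, hk₀⟩ := hk
  have hN : (⊥ : Subgroup (G ⧸ N)).comap (QuotientGroup.mk' N) = N := by
    ext g
    rw [Subgroup.mem_comap, Subgroup.mem_bot]
    exact QuotientGroup.eq_one_iff g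
  have hNle : ∀ i, N ≤ (F' i).comap (QuotientGroup.mk' N) := by
    intro i
    exact hN.symm.le.trans (Subgroup.comap_mono bot_le)
  refine ⟨Fin.cons ⊥ (Fin.cons B (fun i => (F' i).comap (QuotientGroup.mk' N))), rfl, ?_, ?_, ?_, ?_⟩
  · rw [← Fin.succ_last, Fin.cons_succ, ← Fin.succ_last, Fin.cons_succ, hFl, Subgroup.comap_top]
  · intro a b hab
    induction a using Fin.cases with
    | zero => rw [Fin.cons_zero]; exact bot_le
    | succ a =>
      induction b using Fin.cases with
      | zero => exact absurd hab (by simp)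
      | succ b =>
        rw [Fin.cons_succ, Fin.cons_succ]
        have hab' : a ≤ b := Fin.succ_le_succ_iff.mp hab
        induction a using Fin.cases with
        | zero =>
          rw [Fin.cons_zero]
          induction b using Fin.cases with
          | zero => rw [Fin.cons_zero]
          | succ b => rw [Fin.cons_succ]; exact hBN.trans (hNle b)
        | succ a =>
          induction b using Fin.cases with
          | zero => exact absurd hab' (by simp)
          | succ b =>
            rw [Fin.cons_succ, Fin.cons_succ]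
            exact Subgroup.comap_mono (hFm (Fin.succ_le_succ_iff.mp hab'))
  · intro i
    induction i using Fin.cases with
    | zero => rw [Fin.cons_zero]; infer_instance
    | succ i =>
      rw [Fin.cons_succ]
      induction i using Fin.cases with
      | zero => rw [Fin.cons_zero]; exact hB
      | succ i =>
        rw [Fin.cons_succ]
        have := hFn i
        infer_instance
  · intro i
    induction i using Fin.cases with
    | zero =>
      refine ⟨j, ?_⟩
      rw [Fin.cons_succ, Fin.cons_zero, Fin.castSucc_zero, Fin.cons_zero, hj]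
    | succ i =>
      rw [Fin.cons_succ, ← Fin.succ_castSucc, Fin.cons_succ]
      induction i using Fin.cases with
      | zero =>
        refine ⟨k₀, ?_⟩
        rw [Fin.cons_succ, hF0, hN, Fin.castSucc_zero, Fin.cons_zero]
        exact hk₀
      | succ i =>
        obtain ⟨k, hk⟩ := hFk i
        refine ⟨k, ?_⟩
        rw [Fin.cons_succ, ← Fin.succ_castSucc, Fin.cons_succ, ← Subgroup.map_le_iff_le_comap,
          Subgroup.map_lowerCentralSeries]
        exact (Subgroup.lowerCentralSeries_mono k (Subgroup.map_comap_le _ _)).trans hk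

end Cfsg.Agent.Lib.H92GRChainExt
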