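import Mathlib
import Cfsg.Agent.Lib.Helper92HHDefs
import Cfsg.Agent.Lib.Helper92GRDefs
import Cfsg.Agent.Lib.H92HHAv

set_option autoImplicit false

namespace Cfsg.Agent.Lib.H92GRGAv

open Polynomial Cfsg.Agent.Lib.Helper92HHDefs Cfsg.Agent.Lib.Helper92GRDefs Cfsg.Agent.Lib.Helper73HHSc

variable {K V : Type*} [Field K] [AddCommGroup V] [Module K V]

/-- PIECE GAv.  COPY of `H92HHAv.av_eq_zero` (file `Cfsg/Agent/Lib/H92HHAv.lean`) with `HeisW` instead of `Heis` (the proof only uses `comm_sc` and `nondeg`). -/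
theorem gav_eq_zero {q : ℕ} {Q₀ : Type*} [Group Q₀] [Fintype Q₀] {ρ : Q₀ →* (Module.End K V)ˣ}
    {α : MulAut Q₀} {Y : (Module.End K V)ˣ} {N : ℕ} (h : HeisW q ρ α Y N) (w : Q₀)
    (hw : ¬ IsSc ((ρ w : (Module.End K V)ˣ) : Module.End K V)) :
    ∑ v : Q₀, ((ρ (v * w * v⁻¹) : (Module.End K V)ˣ) : Module.End K V) = 0 := by
  classical
  have hex : ∃ v₀, ¬ Commute (ρ w) (ρ v₀) := by
    by_contra hcon
    push Not at hcon
    exact hw (h.nondeg w hcon)
  obtain ⟨v₀, hv₀⟩ := hex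
  obtain ⟨c, hc⟩ := h.comm_sc v₀ w
  have hc1 : c ≠ 1 := by
    rintro rfl
    apply hv₀
    have h1 : ρ (v₀ * w * v₀⁻¹ * w⁻¹) = 1 := Units.ext (by rw [hc, one_smul]; rfl)
    have h2 : ρ v₀ * ρ w = ρ w * ρ v₀ := by
      have e : v₀ * w = (v₀ * w * v₀⁻¹ * w⁻¹) * (w * v₀) := by group
      rw [← map_mul, e, map_mul, h1, one_mul, map_mul]
    exact h2.symm
  set T : Module.End K V := ∑ v : Q₀, ((ρ (v * w * v⁻¹) : (Module.End K V)ˣ) : Module.End K V)
    with hT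
  have key : T = c • T := by
    calc T = ∑ v : Q₀, ((ρ ((v * v₀) * w * (v * v₀)⁻¹) : (Module.End K V)ˣ) : Module.End K V) :=
          (Equiv.sum_comp (Equiv.mulRight v₀)
            (fun v => ((ρ (v * w * v⁻¹) : (Module.End K V)ˣ) : Module.End K V))).symm
      _ = ∑ v : Q₀, c • ((ρ (v * w * v⁻¹) : (Module.End K V)ˣ) : Module.End K V) := by
          refine Finset.sum_congr rfl (fun v _ => ?_)
          have e : (v * v₀) * w * (v * v₀)⁻¹ = v * (v₀ * w * v₀⁻¹ * w⁻¹) * (w * v⁻¹) := by group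
          have e2 : v * w * v⁻¹ = v * (w * v⁻¹) := by group
          rw [e, e2, map_mul ρ (v * _) (w * v⁻¹), map_mul ρ v (v₀ * w * v₀⁻¹ * w⁻¹),
            map_mul ρ v (w * v⁻¹), Units.val_mul, Units.val_mul, Units.val_mul, hc,
            mul_smul_comm, mul_one, smul_mul_assoc]
      _ = c • T := Finset.smul_sum.symm
  have h3 : (1 - c) • T = 0 := by
    rw [sub_smul, one_smul, ← key, sub_self]
  rcases smul_eq_zero.mp h3 with h4 | h4
  · exact absurd (sub_eq_zero.mp h4).symm hc1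
  · exact h4

end Cfsg.Agent.Lib.H92GRGAv
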