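import Mathlib
import Cfsg.Agent.Lib.Helper92HHDefs
import Cfsg.Agent.Lib.Helper92GRDefs
import Cfsg.Agent.Lib.H92HHTrivQ
import Cfsg.Agent.Lib.H92HHShStep

set_option autoImplicit false

namespace Cfsg.Agent.Lib.H92GRGT1a

open Polynomial Cfsg.Agent.Lib.Helper92HHDefs Cfsg.Agent.Lib.Helper92GRDefs Cfsg.Agent.Lib.Helper73HHSc

variable {K V : Type*} [Field K] [AddCommGroup V] [Module K V]

/-- conjugation by `x` on an `x`-invariant subgroup. -/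
def conjOn {Γ : Type*} [Group Γ] (x : Γ) (H : Subgroup Γ) (h1 : ∀ h ∈ H, x * h * x⁻¹ ∈ H)
    (h2 : ∀ h ∈ H, x⁻¹ * h * x ∈ H) : MulAut H where
  toFun h := ⟨x * h * x⁻¹, h1 h h.2⟩
  invFun h := ⟨x⁻¹ * h * x, h2 h h.2⟩
  left_inv h := by
    apply Subtype.ext
    simp [mul_assoc]
  right_inv h := by
    apply Subtype.ext
    simp [mul_assoc]
  map_mul' a b := by
    apply Subtype.ext
    simp [mul_assoc]

theorem conjOn_pow {Γ : Type*} [Group Γ] (x : Γ) (H : Subgroup Γ) (h1 : ∀ h ∈ H, x * h * x⁻¹ ∈ H)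
    (h2 : ∀ h ∈ H, x⁻¹ * h * x ∈ H) (k : ℕ) (h : H) :
    (((conjOn x H h1 h2) ^ k) h : Γ) = x ^ k * h * (x ^ k)⁻¹ := by
  induction k with
  | zero => simp
  | succ k ih =>
    rw [pow_succ', MulAut.mul_apply]
    show x * (((conjOn x H h1 h2) ^ k) h : Γ) * x⁻¹ = _
    rw [ih, pow_succ']
    group

/-- PIECE GT1a (pure group theory).  `TrivQ` applied to `H / F`.  `τ = x^(p^(n-1))`.
`𝒩 = H ⊔ zpowers x` (all its elements normalise `H` and `F`); `Γ₁ = ↥𝒩 ⧸ F.subgroupOf 𝒩`, `π = mk'`; `H₁ = (H.subgroupOf 𝒩).map π` (solvable), `x₁ = π x`.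
`C_{H₁}(x₁) = 1`: if `x h x⁻¹ h⁻¹ ∈ F` (`h ∈ H`) then `h ∈ F`: `H92HHShStep.mem_of_fixed` for the group `↥H`, `σ` = conjugation by `x` on `↥H` (`σ^(p^n) = 1`, fixed point free by `hHx`), `K = F.subgroupOf H`.
`hne` says that `τ₁ = x₁^(p^(n-1))` does not centralise `H₁`.  `H92HHTrivQ.exists_q` gives a prime `s ≠ p` and an `s`-subgroup `Q̄ ≤ H₁`, normal in `H₁`, `x₁`-invariant, not centralised by `τ₁`.  `L = {h ∈ H | π h ∈ Q̄}`. -/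
theorem exists_L {Γ : Type*} [Group Γ] [Finite Γ] (p n : ℕ) [Fact p.Prime] (hn : 1 ≤ n) (x : Γ)
    (hx : x ^ p ^ n = 1) (H : Subgroup Γ) (hsol : Group.IsSolvable H)
    (hxH : ∀ h ∈ H, x * h * x⁻¹ ∈ H) (hHx : ∀ h ∈ H, Commute x h → h = 1)
    (F : Subgroup Γ) (hFH : F ≤ H) (hFn : ∀ h ∈ H, ∀ f ∈ F, h * f * h⁻¹ ∈ F)
    (hFx : ∀ f ∈ F, x * f * x⁻¹ ∈ F)
    (hne : ∃ h ∈ H, x ^ p ^ (n - 1) * h * (x ^ p ^ (n - 1))⁻¹ * h⁻¹ ∉ F) :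
    ∃ (s : ℕ) (L : Subgroup Γ), s.Prime ∧ s ≠ p ∧ F ≤ L ∧ L ≤ H ∧
      (∀ h ∈ H, ∀ l ∈ L, h * l * h⁻¹ ∈ L) ∧ (∀ l ∈ L, x * l * x⁻¹ ∈ L) ∧
      (∀ l ∈ L, ∃ k : ℕ, l ^ s ^ k ∈ F) ∧
      ∃ l ∈ L, x ^ p ^ (n - 1) * l * (x ^ p ^ (n - 1))⁻¹ * l⁻¹ ∉ F := by
  classical
  have hxinv : x⁻¹ = x ^ (p ^ n - 1) := by
    have hpos : 0 < p ^ n := pow_pos (Fact.out : p.Prime).pos n
    rw [eq_comm, ← mul_eq_one_iff_eq_inv, ← pow_succ, Nat.sub_add_cancel hpos, hx]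
  have hpowinv : ∀ (M : Subgroup Γ), (∀ f ∈ M, x * f * x⁻¹ ∈ M) →
      ∀ k : ℕ, ∀ f ∈ M, x ^ k * f * (x ^ k)⁻¹ ∈ M := by
    intro M hM k
    induction k with
    | zero => intro f hf; simpa using hf
    | succ k ih =>
      intro f hf
      have := hM _ (ih f hf)
      have e : x ^ (k+1) * f * (x ^ (k+1))⁻¹ = x * (x ^ k * f * (x ^ k)⁻¹) * x⁻¹ := by
        rw [pow_succ']; group
      rw [e]; exact this
  have hinvinv : ∀ (M : Subgroup Γ), (∀ f ∈ M, x * f * x⁻¹ ∈ M) → ∀ f ∈ M, x⁻¹ * f * x ∈ M := by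
    intro M hM f hf
    have := hpowinv M hM (p ^ n - 1) f hf
    rwa [← hxinv, inv_inv] at this
  set 𝒩 : Subgroup Γ := Subgroup.normalizer (F : Set Γ) with h𝒩
  have hx𝒩 : x ∈ 𝒩 := by
    rw [h𝒩, Subgroup.mem_normalizer_iff]
    intro f
    constructor
    · exact hFx f
    · intro h
      have := hinvinv F hFx _ h
      simpa [mul_assoc] using this
  have hH𝒩 : H ≤ 𝒩 := by
    intro h hh
    rw [h𝒩, Subgroup.mem_normalizer_iff]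
    intro f
    constructor
    · exact hFn h hh f
    · intro h'
      have := hFn h⁻¹ (H.inv_mem hh) _ h'
      simpa [mul_assoc] using this
  have : (F.subgroupOf 𝒩).Normal := Subgroup.normal_in_normalizer
  let ρ : 𝒩 →* (𝒩 ⧸ F.subgroupOf 𝒩) := QuotientGroup.mk' _
  have hker : ∀ g : 𝒩, ρ g = 1 ↔ (g : Γ) ∈ F := by
    intro g
    rw [QuotientGroup.mk'_apply, QuotientGroup.eq_one_iff, Subgroup.mem_subgroupOf]
  have hρsurj : Function.Surjective ρ := QuotientGroup.mk'_surjective _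
  let X : 𝒩 := ⟨x, hx𝒩⟩
  let H₁ : Subgroup (𝒩 ⧸ F.subgroupOf 𝒩) := (H.subgroupOf 𝒩).map ρ
  have hH₁ : ∀ y, y ∈ H₁ ↔ ∃ g : 𝒩, (g : Γ) ∈ H ∧ ρ g = y := by
    intro y
    simp only [H₁, Subgroup.mem_map, Subgroup.mem_subgroupOf]
  -- solvability
  have := hsol
  have hsol0 : Group.IsSolvable (H.subgroupOf 𝒩) :=
    Group.isSolvable_of_isSolvable_injective (f := (Subgroup.subgroupOfEquivOfLe hH𝒩).toMonoidHom)
      (Subgroup.subgroupOfEquivOfLe hH𝒩).injective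
  have hsol1 : Group.IsSolvable H₁ :=
    Group.isSolvable_of_surjective (f := ρ.subgroupMap (H.subgroupOf 𝒩))
      (ρ.subgroupMap_surjective _)
  have hX : (ρ X) ^ p ^ n = 1 := by
    rw [← map_pow, hker]
    show x ^ p ^ n ∈ F
    rw [hx]; exact F.one_mem
  have hXH₁ : ∀ h ∈ H₁, ρ X * h * (ρ X)⁻¹ ∈ H₁ := by
    intro h hh
    obtain ⟨g, hg, rfl⟩ := (hH₁ h).1 hh
    rw [hH₁]
    exact ⟨X * g * X⁻¹, hxH _ hg, by simp⟩
  -- fixed points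
  let σ : MulAut H := conjOn x H hxH (hinvinv H hxH)
  have hσ : σ ^ p ^ n = 1 := by
    ext h
    rw [conjOn_pow, hx]
    simp
  have hσf : ∀ g : H, σ g = g → g = 1 := by
    intro g hg
    have h1 : x * (g : Γ) * x⁻¹ = g := congrArg Subtype.val hg
    apply Subtype.ext
    apply hHx _ g.2
    show x * g = g * x
    rw [mul_inv_eq_iff_eq_mul] at h1
    exact h1
  have hfix : ∀ h ∈ H, h⁻¹ * (x * h * x⁻¹) ∈ F → h ∈ F := by
    intro h hh hF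
    have := H92HHShStep.mem_of_fixed p n σ hσ hσf (F.subgroupOf H)
      (fun y hy => by
        rw [Subgroup.mem_subgroupOf] at hy ⊢
        exact hFx _ hy) (g := ⟨h, hh⟩)
      (by
        rw [Subgroup.mem_subgroupOf]
        exact hF)
    rwa [Subgroup.mem_subgroupOf] at this
  have hHX₁ : ∀ h ∈ H₁, Commute (ρ X) h → h = 1 := by
    intro h hh hc
    obtain ⟨g, hg, rfl⟩ := (hH₁ h).1 hh
    rw [hker]
    apply hfix _ hg
    have : ρ (g⁻¹ * (X * g * X⁻¹)) = 1 := by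
      rw [map_mul, map_mul, map_mul, map_inv, map_inv, hc.eq, mul_inv_cancel_right,
        inv_mul_cancel]
    exact (hker _).1 this
  have hcomm : ∀ g : 𝒩, Commute ((ρ X) ^ p ^ (n - 1)) (ρ g) ↔
      x ^ p ^ (n - 1) * g * (x ^ p ^ (n - 1))⁻¹ * (g : Γ)⁻¹ ∈ F := by
    intro g
    have h1 : x ^ p ^ (n - 1) * g * (x ^ p ^ (n - 1))⁻¹ * (g : Γ)⁻¹ ∈ F ↔
        ρ (X ^ p ^ (n - 1) * g * (X ^ p ^ (n - 1))⁻¹ * g⁻¹) = 1 := by
      rw [hker]; rfl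
    rw [h1, map_mul, map_mul, map_mul, map_inv, map_inv, map_pow, mul_inv_eq_one,
      mul_inv_eq_iff_eq_mul]
    rfl
  have hne₁ : ∃ h ∈ H₁, ¬ Commute ((ρ X) ^ p ^ (n - 1)) h := by
    obtain ⟨h, hh, hF⟩ := hne
    refine ⟨ρ ⟨h, hH𝒩 hh⟩, (hH₁ _).2 ⟨_, hh, rfl⟩, ?_⟩
    rw [hcomm]
    exact hF
  obtain ⟨s, Qb, hs, hsp, hQH, hQp, hQx, hQn, u, hu, hucomm⟩ :=
    H92HHTrivQ.exists_q p n hn (ρ X) hX H₁ hsol1 hXH₁ hHX₁ hne₁
  let L : Subgroup Γ := (Qb.comap ρ).map 𝒩.subtype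
  have hL : ∀ l, l ∈ L ↔ ∃ g : 𝒩, ρ g ∈ Qb ∧ (g : Γ) = l := by
    intro l
    simp only [L, Subgroup.mem_map, Subgroup.mem_comap, Subgroup.coe_subtype]
  refine ⟨s, L, hs, hsp, ?_, ?_, ?_, ?_, ?_, ?_⟩
  · intro f hf
    rw [hL]
    refine ⟨⟨f, hH𝒩 (hFH hf)⟩, ?_, rfl⟩
    rw [(hker _).2 hf]
    exact Qb.one_mem
  · intro l hl
    obtain ⟨g, hg, rfl⟩ := (hL l).1 hl
    obtain ⟨g', hg', he⟩ := (hH₁ _).1 (hQH hg)
    have : ρ (g'⁻¹ * g) = 1 := by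
      rw [map_mul, map_inv, he, inv_mul_cancel]
    have h2 := hFH ((hker _).1 this)
    have h3 := H.mul_mem hg' h2
    simpa using h3
  · intro h hh l hl
    obtain ⟨g, hg, rfl⟩ := (hL l).1 hl
    rw [hL]
    refine ⟨⟨h, hH𝒩 hh⟩ * g * ⟨h, hH𝒩 hh⟩⁻¹, ?_, rfl⟩
    rw [map_mul, map_mul, map_inv]
    exact hQn _ ((hH₁ _).2 ⟨_, hh, rfl⟩) _ hg
  · intro l hl
    obtain ⟨g, hg, rfl⟩ := (hL l).1 hl
    rw [hL]
    refine ⟨X * g * X⁻¹, ?_, rfl⟩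
    rw [map_mul, map_mul, map_inv]
    exact hQx _ hg
  · intro l hl
    obtain ⟨g, hg, rfl⟩ := (hL l).1 hl
    obtain ⟨k, hk⟩ := hQp ⟨ρ g, hg⟩
    refine ⟨k, ?_⟩
    have h1 : (ρ g) ^ s ^ k = 1 := congrArg Subtype.val hk
    rw [← map_pow, hker] at h1
    exact h1
  · obtain ⟨g, rfl⟩ := hρsurj u
    refine ⟨g, (hL _).2 ⟨g, hu, rfl⟩, ?_⟩
    rw [← hcomm]
    exact hucomm

end Cfsg.Agent.Lib.H92GRGT1a
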