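import Mathlib
import Cfsg.Agent.Lib.Helper92HHDefs
import Cfsg.Agent.Lib.Helper92GRDefs
import Cfsg.Agent.Lib.H92GRGT1a
import Cfsg.Agent.Lib.H92GRGT1b
import Cfsg.Agent.Lib.H92GRGT1c
import Cfsg.Agent.Lib.Helper66Ward9

set_option autoImplicit false

namespace Cfsg.Agent.Lib.H92GRGT1

open Polynomial Cfsg.Agent.Lib.Helper92HHDefs Cfsg.Agent.Lib.Helper92GRDefs Cfsg.Agent.Lib.Helper73HHSc

variable {K V : Type*} [Field K] [AddCommGroup V] [Module K V]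

theorem conj_pow_mem'' {Γ : Type*} [Group Γ] {Q : Subgroup Γ} {X : Γ}
    (h : ∀ u ∈ Q, X * u * X⁻¹ ∈ Q) (k : ℕ) : ∀ u ∈ Q, X ^ k * u * (X ^ k)⁻¹ ∈ Q := by
  induction k with
  | zero => intro u hu; simpa using hu
  | succ k ih =>
    intro u hu
    have := h _ (ih u hu)
    have e : X ^ (k + 1) * u * (X ^ (k + 1))⁻¹ = X * (X ^ k * u * (X ^ k)⁻¹) * X⁻¹ := by
      rw [pow_succ']; group
    rw [e]; exact this

theorem not_dvd_card_of_fpf {Γ : Type*} [Group Γ] [Finite Γ] (p n : ℕ) [Fact p.Prime] (x : Γ)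
    (hx : x ^ p ^ n = 1) (H : Subgroup Γ)
    (hxH : ∀ h ∈ H, x * h * x⁻¹ ∈ H) (hHx : ∀ h ∈ H, Commute x h → h = 1) :
    ¬ p ∣ Nat.card H := by
  have hp : p.Prime := Fact.out
  have hxinv : x⁻¹ = x ^ (p ^ n - 1) := by
    rw [inv_eq_iff_mul_eq_one, ← pow_succ']
    have h0 : 0 < p ^ n := pow_pos hp.pos n
    rw [Nat.sub_add_cancel h0, hx]
  have hxN : x ∈ Subgroup.normalizer (H : Set Γ) := by
    rw [Subgroup.mem_normalizer_iff]
    intro h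
    refine ⟨hxH h, fun hh => ?_⟩
    have := conj_pow_mem'' hxH (p ^ n - 1) _ hh
    rw [← hxinv] at this
    simpa [mul_assoc] using this
  let σ : MulAut H := H.normalizerMonoidHom ⟨x, hxN⟩
  have hσpow : σ ^ p ^ n = 1 := by
    show (H.normalizerMonoidHom ⟨x, hxN⟩) ^ p ^ n = 1
    rw [← map_pow]
    have : (⟨x, hxN⟩ : Subgroup.normalizer (H : Set Γ)) ^ p ^ n = 1 :=
      Subtype.ext (by simpa using hx)
    rw [this, map_one]
  have hZ : IsPGroup p (Subgroup.zpowers σ) := by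
    have h1 : orderOf σ ∣ p ^ n := orderOf_dvd_of_pow_eq_one hσpow
    obtain ⟨k, _, hk⟩ := (Nat.dvd_prime_pow hp).mp h1
    apply IsPGroup.of_card (n := k)
    rw [Nat.card_zpowers, hk]
  have h2 := hZ.card_modEq_card_fixedPoints H
  have h3 : MulAction.fixedPoints (Subgroup.zpowers σ) H = {1} := by
    ext g
    constructor
    · intro hg
      have h4 : σ g = g := hg ⟨σ, Subgroup.mem_zpowers σ⟩
      have h5 : x * (g : Γ) * x⁻¹ = g := congrArg Subtype.val h4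
      have h6 : Commute x (g : Γ) := by
        show x * (g : Γ) = g * x
        rw [← mul_inv_eq_iff_eq_mul]
        exact h5
      exact Subtype.ext (hHx g g.2 h6)
    · intro hg
      rw [Set.mem_singleton_iff] at hg
      subst hg
      intro z
      exact map_one z.1
  rw [h3] at h2
  intro hdvd
  have h7 : Nat.card (({1} : Set H)) = 1 := by simp
  rw [h7] at h2
  have h8 : 0 % p = 1 % p := (Nat.modEq_zero_iff_dvd.mpr hdvd).symm.trans h2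
  rw [Nat.zero_mod, Nat.mod_eq_of_lt hp.one_lt] at h8
  exact absurd h8 (by norm_num)

/-- PIECE GT1 (assembly, pure group theory).  Either `[H, τ] ≤ F(H)` or there is a two-step tower.
`GT1c.exists_F` gives `F`.  If `τ h τ⁻¹ h⁻¹ ∈ F` for all `h ∈ H`: left (`M = F`).  Otherwise `GT1a.exists_L` gives `s, L`; `p ∤ |H|` (`x` acts fixed point freely on `H`: `Helper66Ward9.not_dvd_card` with `A₀ = zpowers x` acting on `↥H`
by conjugation, or count: the orbits of `⟨x⟩` on `H \ {1}` have length divisible by `p`), so `p ∤ |L|`; `GT1b.exists_S` (`j = p^(n-1)`) gives `S`.  `T = closure {τ a τ⁻¹ a⁻¹ | a ∈ S}`: `T ≤ S` (`S` is `x`-invariant),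
normalised by `S` (`b (τ a τ⁻¹ a⁻¹) b⁻¹ = (τ b' τ⁻¹ b'⁻¹)⁻¹ (τ (b' a) τ⁻¹ (b' a)⁻¹)`-type identity: `[τ, b a] = [τ, b] · b [τ, a] b⁻¹`), `¬ T ≤ F`.  The last clause of `exists_F` gives `q, Q` and `c ∈ T`, `u ∈ Q` not commuting; since the centraliser of `u`... rather of `Q`
is a subgroup, some generator `τ a τ⁻¹ a⁻¹` does not centralise `Q`.  `q ≠ p` because `Q ≠ 1` is a `q`-subgroup of `H` and `p ∤ |H|`. -/
theorem exists_SQ {Γ : Type*} [Group Γ] [Finite Γ] (p n : ℕ) [Fact p.Prime] (hn : 1 ≤ n) (x : Γ)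
    (hx : x ^ p ^ n = 1) (H : Subgroup Γ) (hsol : Group.IsSolvable H)
    (hxH : ∀ h ∈ H, x * h * x⁻¹ ∈ H) (hHx : ∀ h ∈ H, Commute x h → h = 1) :
    (∃ M : Subgroup Γ, M ≤ H ∧ (∀ h ∈ H, ∀ m ∈ M, h * m * h⁻¹ ∈ M) ∧ (∀ m ∈ M, x * m * x⁻¹ ∈ M) ∧
      Group.IsNilpotent M ∧ ∀ h ∈ H, x ^ p ^ (n - 1) * h * (x ^ p ^ (n - 1))⁻¹ * h⁻¹ ∈ M) ∨
    ∃ (q s : ℕ) (Q S : Subgroup Γ), q.Prime ∧ s.Prime ∧ q ≠ p ∧ s ≠ p ∧ s ≠ q ∧ Q ≤ H ∧ S ≤ H ∧
      IsPGroup q Q ∧ IsPGroup s S ∧ (∀ u ∈ Q, x * u * x⁻¹ ∈ Q) ∧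
      (∀ h ∈ H, ∀ u ∈ Q, h * u * h⁻¹ ∈ Q) ∧ (∀ a ∈ S, x * a * x⁻¹ ∈ S) ∧
      ∃ a ∈ S, ∃ u ∈ Q, ¬ Commute (x ^ p ^ (n - 1) * a * (x ^ p ^ (n - 1))⁻¹ * a⁻¹) u := by
  classical
  have hp : p.Prime := Fact.out
  obtain ⟨F, hFH, hFn, hFx, hFnil, hFlast⟩ := H92GRGT1c.exists_F H hsol x hxH
  by_cases hall : ∀ h ∈ H, x ^ p ^ (n - 1) * h * (x ^ p ^ (n - 1))⁻¹ * h⁻¹ ∈ F
  · left; exact ⟨F, hFH, hFn, hFx, hFnil, hall⟩
  right
  push Not at hall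
  obtain ⟨s, L, hs, hsp, hFL, hLH, hLn, hLx, hLF, hneL⟩ :=
    H92GRGT1a.exists_L p n hn x hx H hsol hxH hHx F hFH hFn hFx hall
  have : Fact s.Prime := ⟨hs⟩
  have hpH : ¬ p ∣ Nat.card H := not_dvd_card_of_fpf p n x hx H hxH hHx
  have hpL : ¬ p ∣ Nat.card L := fun h => hpH (h.trans (Subgroup.card_dvd_of_le hLH))
  obtain ⟨S, hSL, hSp, hSx, hLFS, hneS⟩ := H92GRGT1b.exists_S p n s x hx F L hFL
    (fun l hl f hf => hFn l (hLH hl) f hf) hFx hLx hpL hLF (p ^ (n - 1)) hneL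
  set τ := x ^ p ^ (n - 1) with hτ
  let T : Subgroup Γ := Subgroup.closure {w | ∃ a ∈ S, w = τ * a * τ⁻¹ * a⁻¹}
  have hτS : ∀ a ∈ S, τ * a * τ⁻¹ ∈ S := conj_pow_mem'' hSx _
  have hgen : ∀ a ∈ S, τ * a * τ⁻¹ * a⁻¹ ∈ T := fun a ha => Subgroup.subset_closure ⟨a, ha, rfl⟩
  have hTS : T ≤ S := by
    rw [Subgroup.closure_le]
    rintro w ⟨a, ha, rfl⟩
    exact S.mul_mem (hτS a ha) (S.inv_mem ha)
  have hTn : ∀ a ∈ S, ∀ c ∈ T, a * c * a⁻¹ ∈ T := by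
    intro b hb
    have h1 : T ≤ T.comap (MulAut.conj b).toMonoidHom := by
      rw [Subgroup.closure_le]
      rintro w ⟨a, ha, rfl⟩
      rw [SetLike.mem_coe, Subgroup.mem_comap]
      show b * (τ * a * τ⁻¹ * a⁻¹) * b⁻¹ ∈ T
      have e : b * (τ * a * τ⁻¹ * a⁻¹) * b⁻¹
          = (τ * b * τ⁻¹ * b⁻¹)⁻¹ * (τ * (b * a) * τ⁻¹ * (b * a)⁻¹) := by group
      rw [e]
      exact T.mul_mem (T.inv_mem (hgen b hb)) (hgen _ (S.mul_mem hb ha))
    intro c hc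
    exact h1 hc
  have hTF : ¬ T ≤ F := by
    obtain ⟨a, ha, hna⟩ := hneS
    exact fun h => hna (h (hgen a ha))
  obtain ⟨q, Q, hq, hqs, hQH, hQp, hQn, hQx, c, hc, u, hu, hcu⟩ :=
    hFlast s L S T hs hFL hLH hLn hSp hSL hLFS hTS hTn hTF
  have hex : ∃ a ∈ S, ∃ u ∈ Q, ¬ Commute (τ * a * τ⁻¹ * a⁻¹) u := by
    by_contra hcon
    push Not at hcon
    have h1 : T ≤ Subgroup.centralizer (Q : Set Γ) := by
      rw [Subgroup.closure_le]
      rintro w ⟨a, ha, rfl⟩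
      rw [SetLike.mem_coe, Subgroup.mem_centralizer_iff]
      intro v hv
      exact (hcon a ha v hv).eq.symm
    exact hcu ((Subgroup.mem_centralizer_iff.1 (h1 hc) u hu).symm)
  have hqp : q ≠ p := by
    rintro rfl
    have : Fact q.Prime := ⟨hq⟩
    obtain ⟨k, hk⟩ := hQp.exists_card_eq
    have h1 : Nat.card Q ∣ Nat.card H := Subgroup.card_dvd_of_le hQH
    rcases Nat.eq_zero_or_pos k with h0 | h0
    · subst h0
      rw [pow_zero] at hk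
      have hQ := Subgroup.eq_bot_of_card_eq Q hk
      rw [hQ, Subgroup.mem_bot] at hu
      rw [hu] at hcu
      exact hcu (Commute.one_right _)
    · apply hpH
      refine dvd_trans ?_ h1
      rw [hk]
      exact dvd_pow_self _ h0.ne'
  exact ⟨q, s, Q, S, hq, hs, hqp, hsp, hqs.symm, hQH, hSL.trans hLH, hQp, hSp, hQx, hQn, hSx, hex⟩

end Cfsg.Agent.Lib.H92GRGT1
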