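import Mathlib
import Cfsg.Agent.Lib.Helper92HHDefs

set_option autoImplicit false

namespace Cfsg.Agent.Lib.H92HHBase

open Polynomial Cfsg.Agent.Lib.Helper92HHDefs

/-- PIECE Base (pure Mathlib).  Extension of scalars in coordinates: an injective ring homomorphism `End_F V → End_K (K^d)` compatible with scalars. -/
theorem exists_base {F V : Type*} [Field F] [AddCommGroup V] [Module F V] [FiniteDimensional F V]
    (K : Type*) [Field K] [Algebra F K] :
    ∃ (d : ℕ) (Φ : Module.End F V →+* Module.End K (Fin d → K)), Function.Injective Φ ∧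
      ∀ c : F, Φ (c • (1 : Module.End F V)) = (algebraMap F K c) • (1 : Module.End K (Fin d → K)) := by
  classical
  let B := Module.finBasis F V
  let Φ : Module.End F V →+* Module.End K (Fin (Module.finrank F V) → K) :=
    (Matrix.toLinAlgEquiv' : Matrix _ _ K ≃ₐ[K] _).toRingEquiv.toRingHom.comp
      ((algebraMap F K).mapMatrix.comp (LinearMap.toMatrixAlgEquiv B).toRingEquiv.toRingHom)
  have hΦ : Function.Injective Φ := by
    intro f g hfg
    simp only [Φ, RingHom.comp_apply] at hfg
    have h1 := (Matrix.toLinAlgEquiv' : Matrix _ _ K ≃ₐ[K] _).injective hfg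
    have h2 := Matrix.map_injective (algebraMap F K).injective h1
    exact (LinearMap.toMatrixAlgEquiv B).injective h2
  refine ⟨_, Φ, hΦ, ?_⟩
  intro c
  have h1 : (LinearMap.toMatrixAlgEquiv B) (c • (1 : Module.End F V))
      = c • (1 : Matrix (Fin (Module.finrank F V)) (Fin (Module.finrank F V)) F) := by
    rw [map_smul, map_one]
  have h2 : (algebraMap F K).mapMatrix
      (c • (1 : Matrix (Fin (Module.finrank F V)) (Fin (Module.finrank F V)) F))
      = (algebraMap F K c) • (1 : Matrix (Fin (Module.finrank F V)) (Fin (Module.finrank F V)) K) := by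
    ext i j
    by_cases hij : i = j
    · subst hij
      simp
    · simp [hij]
  show (Matrix.toLinAlgEquiv' : Matrix _ _ K ≃ₐ[K] _)
    ((algebraMap F K).mapMatrix ((LinearMap.toMatrixAlgEquiv B) (c • (1 : Module.End F V)))) = _
  rw [h1, h2, map_smul, map_one]

end Cfsg.Agent.Lib.H92HHBase
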