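import Mathlib
import Cfsg.Agent.Lib.Helper92HHDefs
import Cfsg.Agent.Lib.H92HHBase

set_option autoImplicit false

namespace Cfsg.Agent.Lib.H92HHLin

open Polynomial Cfsg.Agent.Lib.Helper92HHDefs

theorem exists_lin_aux (r : ℕ) [Fact r.Prime] (A : Type*) [CommGroup A] [Finite A]
    [Module (ZMod r) (Additive A)] (K : Type*) [Field K] [CharP K r] :
    ∃ (d : ℕ) (L : MulAut A →* (Module.End K (Fin d → K))ˣ), Function.Injective L ∧
      ∀ (x : MulAut A) (N : ℕ),
        (∀ v : A, ∏ i ∈ Finset.range N, (x ^ i) v = 1) →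
        ∑ i ∈ Finset.range N, ((L x : (Module.End K (Fin d → K))ˣ) : Module.End K (Fin d → K)) ^ i = 0 := by
  classical
  letI : Algebra (ZMod r) K := ZMod.algebra K r
  haveI : Module.Finite (ZMod r) (Additive A) := Module.Finite.of_finite
  obtain ⟨d, Φ, hΦ, -⟩ := Cfsg.Agent.Lib.H92HHBase.exists_base (F := ZMod r) (V := Additive A) K
  let ρ₀ : MulAut A →* Module.End (ZMod r) (Additive A) :=
    { toFun := fun h => AddMonoidHom.toZModLinearMap r (MonoidHom.toAdditive h.toMonoidHom)
      map_one' := by
        apply LinearMap.ext; intro x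
        simp
      map_mul' := by
        intro g h
        apply LinearMap.ext; intro x
        simp }
  have hρ₀ : ∀ (h : MulAut A) (v : Additive A), ρ₀ h v = Additive.ofMul (h v.toMul) := fun _ _ => rfl
  let M : MulAut A →* Module.End K (Fin d → K) := Φ.toMonoidHom.comp ρ₀
  have hM : ∀ x, M x = Φ (ρ₀ x) := fun _ => rfl
  have hMinj : Function.Injective M := by
    intro g h hgh
    have h1 : ρ₀ g = ρ₀ h := hΦ hgh
    ext v
    have := congrArg (fun f : Module.End (ZMod r) (Additive A) => (f (Additive.ofMul v)).toMul) h1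
    simpa [hρ₀] using this
  refine ⟨d, M.toHomUnits, ?_, ?_⟩
  · intro g h hgh
    apply hMinj
    have := congrArg (fun u : (Module.End K (Fin d → K))ˣ => (u : Module.End K (Fin d → K))) hgh
    simpa using this
  · intro x N hN
    have h1 : ((M.toHomUnits x : (Module.End K (Fin d → K))ˣ) : Module.End K (Fin d → K)) = Φ (ρ₀ x) := rfl
    rw [h1]
    have h2 : ∑ i ∈ Finset.range N, (ρ₀ x) ^ i = 0 := by
      apply LinearMap.ext
      intro v
      rw [LinearMap.sum_apply, LinearMap.zero_apply]
      have h3 : ∀ i, ((ρ₀ x) ^ i) v = Additive.ofMul ((x ^ i) v.toMul) := by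
        intro i
        rw [← map_pow, hρ₀]
      simp only [h3]
      rw [← ofMul_prod, hN]
      rfl
    have h4 := congrArg Φ h2
    rw [map_sum, map_zero] at h4
    simpa [map_pow] using h4

/-- PIECE Lin.  Linearisation of the automorphism group of an elementary abelian `r`-group over a field `K` of characteristic `r`. -/
theorem exists_lin (r : ℕ) [Fact r.Prime] (A : Type*) [CommGroup A] [Finite A]
    (hA : ∀ x : A, x ^ r = 1) (K : Type*) [Field K] [CharP K r] :
    ∃ (d : ℕ) (L : MulAut A →* (Module.End K (Fin d → K))ˣ), Function.Injective L ∧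
      ∀ (x : MulAut A) (N : ℕ),
        (∀ v : A, ∏ i ∈ Finset.range N, (x ^ i) v = 1) →
        ∑ i ∈ Finset.range N, ((L x : (Module.End K (Fin d → K))ˣ) : Module.End K (Fin d → K)) ^ i = 0 := by
  letI : Module (ZMod r) (Additive A) := AddCommGroup.zmodModule (n := r) (fun x => by
    induction x using Additive.rec with
    | _ x => rw [← ofMul_pow, hA]; rfl)
  exact exists_lin_aux r A K

end Cfsg.Agent.Lib.H92HHLin
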