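import Mathlib
import Cfsg.Agent.Lib.Helper92HHDefs
import Cfsg.Agent.Lib.Helper92GRDefs
import Cfsg.Agent.Lib.H92GRGT1
import Cfsg.Agent.Lib.H92GRGT2
import Cfsg.Agent.Lib.H92GRGrMap
import Cfsg.Agent.Lib.H92GRGrLin
import Cfsg.Agent.Lib.H92HHLin
import Cfsg.Agent.Lib.H92HHTrivH

set_option autoImplicit false

namespace Cfsg.Agent.Lib.H92GRGrTriv

open Polynomial Cfsg.Agent.Lib.Helper92HHDefs Cfsg.Agent.Lib.Helper92GRDefs Cfsg.Agent.Lib.Helper73HHSc

variable {K V : Type*} [Field K] [AddCommGroup V] [Module K V]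

/-- PIECE GrTriv.  The heart of Gross's theorem: on an irreducible module, `τ = x^(2^(n-1))` centralises `H` modulo a nilpotent normal subgroup.  MODEL: `Cfsg/Agent/Lib/H92HHTrivH.lean` (copy its `q ≠ r` part and its end).
`GT1.exists_SQ` (`Γ = MulAut A`, `p = 2`): left alternative = the claim.  Otherwise `q, s, Q₀, S`.  `q ≠ r`: otherwise `C_A(Q₀) ≠ 1` is a subgroup invariant under `H` and `x`, so `= A`, `Q₀ = 1` (as in `TrivH`), but `Q₀` contains a non central... an element `u` not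
commuting with something, so `u ≠ 1`.  `GT2.exists_data` (`S ≤ H` normalises `Q₀`) gives `Q, D` with `GrData 2 q s n Q D x`.  `K = AlgebraicClosure (ZMod r)`, `L` from `H92HHLin.exists_lin`, `(q : K) ≠ 0`; `GrMap.map`; `GrLin.gr_lin` gives
`minDegOn (L x) ⊤ (2^n)`.  As at the end of `TrivH`: `f = ∑_{i<2^n} T^i` has degree `2^n - 1`, so `∑ (L x)^i ≠ 0`, so there is `v` with `w = ∏_{i<2^n} x^i v ≠ 1`, and `x w = w`, against `hAx`. -/
theorem gr_triv (r n : ℕ) [Fact r.Prime] (hn : 1 ≤ n) (A : Type*)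
    [CommGroup A] [Finite A] [Nontrivial A] (hA : ∀ x : A, x ^ r = 1) (x : MulAut A)
    (hx : x ^ 2 ^ n = 1) (H : Subgroup (MulAut A)) (hsol : Group.IsSolvable H)
    (hxH : ∀ h ∈ H, x * h * x⁻¹ ∈ H) (hHx : ∀ h ∈ H, Commute x h → h = 1)
    (hAx : ∀ v : A, x v = v → v = 1)
    (hirr : ∀ U : Subgroup A, (∀ h ∈ H, ∀ u ∈ U, h u ∈ U) → (∀ u ∈ U, x u ∈ U) → U = ⊥ ∨ U = ⊤) :
    ∃ M : Subgroup (MulAut A), M ≤ H ∧ (∀ h ∈ H, ∀ m ∈ M, h * m * h⁻¹ ∈ M) ∧
      (∀ m ∈ M, x * m * x⁻¹ ∈ M) ∧ Group.IsNilpotent M ∧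
      ∀ h ∈ H, x ^ 2 ^ (n - 1) * h * (x ^ 2 ^ (n - 1))⁻¹ * h⁻¹ ∈ M := by
  have hfinAut : Finite (MulAut A) :=
    Finite.of_injective (fun f : MulAut A => (f : A → A)) DFunLike.coe_injective
  rcases H92GRGT1.exists_SQ 2 n hn x hx H hsol hxH hHx with hM | hSQ
  · exact hM
  exfalso
  obtain ⟨q, s, Q, S, hqp, hsp, hq2, hs2, hsq, hQH, hSH, hQp, hSp, hxQ, hHQ, hxS, a₀, ha₀, u, hu,
    hcu⟩ := hSQ
  have hqF : Fact q.Prime := ⟨hqp⟩
  have hsF : Fact s.Prime := ⟨hsp⟩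
  have hppos : 0 < 2 ^ n := pow_pos (by norm_num) _
  have hxinv : x⁻¹ = x ^ (2 ^ n - 1) := by
    rw [inv_eq_iff_mul_eq_one, ← pow_succ', Nat.sub_add_cancel hppos, hx]
  have hxQ' : ∀ g ∈ Q, x⁻¹ * g * x ∈ Q := by
    intro g hg
    have h := H92HHTrivH.conj_pow_mem' hxQ (2 ^ n - 1) g hg
    rwa [← hxinv, inv_inv] at h
  -- `q ≠ r`
  have hqr : q ≠ r := by
    rintro rfl
    let C : Subgroup A :=
      { carrier := {a | ∀ g ∈ Q, g a = a}
        mul_mem' := fun {a b} ha hb g hg => by rw [map_mul, ha g hg, hb g hg]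
        one_mem' := fun g _ => map_one g
        inv_mem' := fun {a} ha g hg => by rw [map_inv, ha g hg] }
    have hCH : ∀ h ∈ H, ∀ a ∈ C, h a ∈ C := by
      intro h hh a ha g hg
      have h1 := hHQ h⁻¹ (H.inv_mem hh) g hg
      rw [inv_inv] at h1
      have h2 := ha _ h1
      have h3 : (h⁻¹ * g * h) a = h⁻¹ (g (h a)) := rfl
      rw [h3] at h2
      have h4 := congrArg h h2
      rwa [MulAut.apply_inv_self] at h4
    have hCx : ∀ a ∈ C, x a ∈ C := by
      intro a ha g hg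
      have h2 := ha _ (hxQ' g hg)
      have h3 : (x⁻¹ * g * x) a = x⁻¹ (g (x a)) := rfl
      rw [h3] at h2
      have h4 := congrArg x h2
      rwa [MulAut.apply_inv_self] at h4
    have hdvd : q ∣ Nat.card A := by
      obtain ⟨a, ha⟩ := exists_ne (1 : A)
      have : orderOf a = q := orderOf_eq_prime (hA a) ha
      rw [← this]
      exact orderOf_dvd_natCard a
    have hone : (1 : A) ∈ MulAction.fixedPoints ↥Q A := fun g => map_one (g : MulAut A)
    obtain ⟨b, hb, hb1⟩ := hQp.exists_fixed_point_of_prime_dvd_card_of_fixed_point A hdvd hone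
    have hbC : b ∈ C := fun g hg => hb ⟨g, hg⟩
    rcases hirr C hCH hCx with h | h
    · rw [h, Subgroup.mem_bot] at hbC
      exact hb1 hbC.symm
    · apply hcu
      have : u = 1 := by
        ext a
        have : a ∈ C := h ▸ Subgroup.mem_top a
        exact this u hu
      rw [this]
      exact Commute.one_right _
  obtain ⟨Q₁, D, hQ₁, hD, hG⟩ := H92GRGT2.exists_data 2 q s n hs2 hsq x hx hn Q S hQp hSp hxS hxQ
    (fun a ha u hu => hHQ a (hSH ha) u hu) ⟨a₀, ha₀, u, hu, hcu⟩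
  obtain ⟨d, L, hLinj, hLsum⟩ := H92HHLin.exists_lin r A hA (AlgebraicClosure (ZMod r))
  have hqK : (q : AlgebraicClosure (ZMod r)) ≠ 0 := by
    intro h0
    rw [CharP.cast_eq_zero_iff (AlgebraicClosure (ZMod r)) r q] at h0
    exact hqr ((Nat.prime_dvd_prime_iff_eq (Fact.out : r.Prime) hqp).1 h0).symm
  have hmin := H92GRGrLin.gr_lin q s n hq2 hs2 hsq hqK (Q₁.map L) (D.map L) (L x)
    (H92GRGrMap.map L hLinj hG)
  have hsum := hLsum x (2 ^ n) (fun v => hAx _ (H92HHTrivH.norm_fixed x (2 ^ n) hx v))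
  have hmon : (∑ i ∈ Finset.range (2 ^ n), (X : (AlgebraicClosure (ZMod r))[X]) ^ i).Monic :=
    Polynomial.monic_geom_sum_X hppos.ne'
  have hdeg : (∑ i ∈ Finset.range (2 ^ n), (X : (AlgebraicClosure (ZMod r))[X]) ^ i).natDegree
      ≤ 2 ^ n - 1 := by
    apply Polynomial.natDegree_sum_le_of_forall_le
    intro i hi
    rw [Polynomial.natDegree_X_pow]
    have := Finset.mem_range.1 hi
    omega
  have := hmin _ hmon.ne_zero (fun w _ => by
    rw [map_sum]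
    simp only [map_pow, aeval_X]
    rw [hsum]
    rfl)
  omega

end Cfsg.Agent.Lib.H92GRGrTriv
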