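import Mathlib
import Cfsg.Agent.Lib.Helper92HHDefs
import Cfsg.Agent.Lib.Helper92GRDefs
import Cfsg.Agent.Lib.H92GRGrTriv
import Cfsg.Agent.Lib.H92HHShStep

set_option autoImplicit false

namespace Cfsg.Agent.Lib.H92GRGrStep

open Cfsg.Agent.Lib.Helper66Ward9 Cfsg.Agent.Lib.H92HHShStep Polynomial Cfsg.Agent.Lib.Helper92HHDefs Cfsg.Agent.Lib.Helper92GRDefs Cfsg.Agent.Lib.Helper73HHSc

variable {K V : Type*} [Field K] [AddCommGroup V] [Module K V]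

/-- PIECE GrStep.  COPY of `H92HHShStep.step` (file `Cfsg/Agent/Lib/H92HHShStep.lean`) with `GrTriv.gr_triv` instead of `TrivH.trivH`: same `φ = MulAut.conjNormal : G →* MulAut V`, `ψ σ₀`, `H = φ.range`.
`M = M̄.comap φ`: normal (`M̄` is normalised by `φ.range`), `σ`-invariant (`φ (σ g) = ψσ₀ φ g (ψσ₀)⁻¹`), contains `ker φ = C_G(V)`;
`(M.lowerCentralSeries k).map φ = (M.map φ).lowerCentralSeries k ≤ M̄.lowerCentralSeries k = ⊥` (`Subgroup.map_lowerCentralSeries`, `Subgroup.lowerCentralSeries_mono`, `Subgroup.isNilpotent_iff_lowerCentralSeries`);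
`φ (g⁻¹ τ g) = (φ g)⁻¹ (ψτ φ g ψτ⁻¹)`, which lies in `M̄` (conjugate `ψτ h ψτ⁻¹ h⁻¹ ∈ M̄` by `h⁻¹ ∈ H`). -/
theorem step {G : Type*} [Group G] [Finite G] (n : ℕ) (hn : 1 ≤ n)
    (hsol : Group.IsSolvable G) (σ : MulAut G) (hσ : σ ^ 2 ^ n = 1)
    (hf : ∀ g : G, σ g = g → g = 1) (V : Subgroup G) [V.Normal] (hVne : V ≠ ⊥)
    (hσV : ∀ v ∈ V, σ v ∈ V)
    (hmin : ∀ W : Subgroup G, W.Normal → (∀ w ∈ W, σ w ∈ W) → W ≤ V → W = ⊥ ∨ W = V) :
    ∃ M : Subgroup G, M.Normal ∧ (∀ g ∈ M, σ g ∈ M) ∧ Subgroup.centralizer (V : Set G) ≤ M ∧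
      (∃ k : ℕ, M.lowerCentralSeries k ≤ Subgroup.centralizer (V : Set G)) ∧
      ∀ g : G, g⁻¹ * (σ ^ 2 ^ (n - 1)) g ∈ M := by
  let ρ : Subgroup.zpowers σ →* MulAut G := (Subgroup.zpowers σ).subtype
  let σ₀ : Subgroup.zpowers σ := ⟨σ, Subgroup.mem_zpowers σ⟩
  have hρV : ∀ a, ∀ v ∈ V, ρ a v ∈ V := zp_inv σ V hσV
  have hmin' : ∀ W : Subgroup G, W.Normal → (∀ a, ∀ w ∈ W, ρ a w ∈ W) → W ≤ V → W = ⊥ ∨ W = V :=
    fun W hW h hWV => hmin W hW (fun w hw => h σ₀ w hw) hWV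
  have hab := abelian_of_min hsol ρ V hVne hρV hmin'
  obtain ⟨r, hr, hexpV⟩ := exponent_of_min ρ V hVne hmin' hρV hab
  have := Fact.mk hr
  let _ : CommGroup V := { (inferInstance : Group V) with
    mul_comm := fun a b => Subtype.ext (hab a a.2 b b.2) }
  have hVnt : Nontrivial V := (Subgroup.nontrivial_iff_ne_bot V).mpr hVne
  let φ : G →* MulAut V := MulAut.conjNormal
  let ψ : Subgroup.zpowers σ →* MulAut V := resHom ρ V hρV
  have hψ : ∀ (a : Subgroup.zpowers σ) (v : V), ((ψ a v : V) : G) = ρ a v := fun a v => rfl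
  have hφ : ∀ (g : G) (v : V), ((φ g v : V) : G) = g * v * g⁻¹ := fun g v =>
    MulAut.conjNormal_apply g v
  have hφσ : ∀ a g, ψ a * φ g * (ψ a)⁻¹ = φ (ρ a g) := by
    intro a g
    rw [mul_inv_eq_iff_eq_mul]
    ext v
    rw [MulAut.mul_apply, MulAut.mul_apply, hψ, hφ, hφ, hψ, map_mul, map_mul, map_inv]
  set C := φ.ker with hC
  have hσC : ∀ c ∈ C, σ c ∈ C := by
    intro c hc
    rw [hC, MonoidHom.mem_ker] at hc ⊢
    have := hφσ σ₀ c
    rw [hc] at this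
    rw [show σ c = ρ σ₀ c from rfl, ← this]
    group
  obtain ⟨Mb, hMH, hMn, hMx, hMnil, hMτ⟩ := Cfsg.Agent.Lib.H92GRGrTriv.gr_triv r n hn V
    (fun v => Subtype.ext (hexpV v v.2)) (ψ σ₀)
    (by
      rw [← map_pow]
      have : σ₀ ^ 2 ^ n = 1 := Subtype.ext hσ
      rw [this, map_one])
    φ.range
    (Group.isSolvable_of_surjective φ.rangeRestrict_surjective)
    (by
      rintro _ ⟨g, rfl⟩
      exact ⟨ρ σ₀ g, (hφσ σ₀ g).symm⟩)
    (by
      rintro _ ⟨g, rfl⟩ hg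
      have h1 : g⁻¹ * σ g ∈ C := by
        rw [hC, MonoidHom.mem_ker, map_mul, map_inv, show σ g = ρ σ₀ g from rfl, ← hφσ, hg.eq]
        group
      exact mem_of_fixed 2 n σ hσ hf C hσC h1)
    (by
      intro v hv
      apply Subtype.ext
      apply hf
      exact congrArg Subtype.val hv)
    (by
      intro U hU1 hU2
      have hn : (U.map V.subtype).Normal := by
        constructor
        rintro _ ⟨u, hu, rfl⟩ g
        exact ⟨φ g u, hU1 _ ⟨g, rfl⟩ u hu, hφ g u⟩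
      have hσU : ∀ w ∈ U.map V.subtype, σ w ∈ U.map V.subtype := by
        rintro _ ⟨u, hu, rfl⟩
        exact ⟨ψ σ₀ u, hU2 u hu, hψ σ₀ u⟩
      rcases hmin _ hn hσU (Subgroup.map_subtype_le U) with h | h
      · left
        exact (Subgroup.map_eq_bot_iff_of_injective U V.subtype_injective).mp h
      · right
        rw [eq_top_iff]
        intro v _
        have : (v : G) ∈ U.map V.subtype := by rw [h]; exact v.2
        obtain ⟨u, hu, huv⟩ := this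
        have : u = v := Subtype.ext huv
        rwa [← this])
  obtain ⟨k, hk⟩ := (Subgroup.isNilpotent_iff_lowerCentralSeries Mb).mp hMnil
  have hker : ∀ g : G, φ g = 1 → g ∈ Subgroup.centralizer (V : Set G) := by
    intro g h4
    rw [Subgroup.mem_centralizer_iff]
    intro v hv
    have h5 := hφ g ⟨v, hv⟩
    rw [h4] at h5
    have h6 : v = g * v * g⁻¹ := h5
    exact (eq_mul_inv_iff_mul_eq.mp h6)
  refine ⟨Mb.comap φ, ?_, ?_, ?_, ⟨k, ?_⟩, ?_⟩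
  · constructor
    intro m hm g
    show φ (g * m * g⁻¹) ∈ Mb
    rw [map_mul, map_mul, map_inv]
    exact hMn _ ⟨g, rfl⟩ _ hm
  · intro g hg
    show φ (σ g) ∈ Mb
    rw [show σ g = ρ σ₀ g from rfl, ← hφσ]
    exact hMx _ hg
  · intro g hg
    show φ g ∈ Mb
    have : φ g = 1 := by
      ext v
      rw [hφ, MulAut.one_apply]
      have := Subgroup.mem_centralizer_iff.mp hg v v.2
      rw [← this]; group
    rw [this]; exact Mb.one_mem
  · intro g hg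
    apply hker
    have h1 : φ g ∈ ((Mb.comap φ).lowerCentralSeries k).map φ := ⟨g, hg, rfl⟩
    rw [Subgroup.map_lowerCentralSeries] at h1
    have h2 : φ g ∈ Mb.lowerCentralSeries k :=
      Subgroup.lowerCentralSeries_mono k (Subgroup.map_comap_le φ Mb) h1
    rw [hk] at h2
    exact h2
  · intro g
    show φ (g⁻¹ * (σ ^ 2 ^ (n - 1)) g) ∈ Mb
    have h3 : (σ ^ 2 ^ (n - 1)) g = ρ (σ₀ ^ 2 ^ (n - 1)) g := rfl
    rw [map_mul, map_inv, h3, ← hφσ, map_pow]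
    have h4 := hMτ (φ g) ⟨g, rfl⟩
    have h5 := hMn (φ g)⁻¹ (φ.range.inv_mem ⟨g, rfl⟩) _ h4
    have e : (φ g)⁻¹ * (ψ σ₀ ^ 2 ^ (n - 1) * φ g * (ψ σ₀ ^ 2 ^ (n - 1))⁻¹ * (φ g)⁻¹) * (φ g)⁻¹⁻¹
        = (φ g)⁻¹ * (ψ σ₀ ^ 2 ^ (n - 1) * φ g * (ψ σ₀ ^ 2 ^ (n - 1))⁻¹) := by group
    rw [e] at h5
    exact h5

end Cfsg.Agent.Lib.H92GRGrStep
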