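import Mathlib
import Cfsg.Agent.Lib.Helper92HHDefs
import Cfsg.Agent.Lib.Helper92GRDefs
import Cfsg.Agent.Lib.H92GRGrStep
import Cfsg.Agent.Lib.H92HHShMain

set_option autoImplicit false

namespace Cfsg.Agent.Lib.H92GRGrMain

open Cfsg.Agent.Lib.H92HHShStep Cfsg.Agent.Lib.H92HHShMain Polynomial Cfsg.Agent.Lib.Helper92HHDefs Cfsg.Agent.Lib.Helper92GRDefs Cfsg.Agent.Lib.Helper73HHSc

variable {K V : Type*} [Field K] [AddCommGroup V] [Module K V]

theorem main_aux.{u} (n : ℕ) (hn : 1 ≤ n) :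
    ∀ m : ℕ, ∀ (G : Type u) [Group G] [Finite G], Nat.card G = m →
    Group.IsSolvable G → ∀ σ : MulAut G, σ ^ 2 ^ n = 1 → (∀ g : G, σ g = g → g = 1) →
    ∃ N B : Subgroup G, N.Normal ∧ B.Normal ∧ B ≤ N ∧ Group.IsNilpotent B ∧
      (∃ k : ℕ, N.lowerCentralSeries k ≤ B) ∧ (∀ g ∈ N, σ g ∈ N) ∧
      ∀ g : G, g⁻¹ * (σ ^ 2 ^ (n - 1)) g ∈ N := by
  intro m
  induction m using Nat.strong_induction_on with
  | _ m ih =>
  intro G _ _ hm hsol σ hσ hf
  by_cases hG : Subsingleton G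
  · refine ⟨⊥, ⊥, inferInstance, inferInstance, le_rfl, inferInstance, ⟨0, ?_⟩, ?_, ?_⟩
    · intro g _
      rw [Subgroup.mem_bot]
      exact Subsingleton.elim _ _
    · intro g _
      rw [Subgroup.mem_bot]
      exact Subsingleton.elim _ _
    · intro g
      rw [Subgroup.mem_bot]
      exact Subsingleton.elim _ _
  rw [not_subsingleton_iff_nontrivial] at hG
  let S : Set (Subgroup G) := {V | V ≠ ⊥ ∧ V.Normal ∧ ∀ v ∈ V, σ v ∈ V}
  have hSne : S.Nonempty := ⟨⊤, top_ne_bot, inferInstance, fun _ _ => Subgroup.mem_top _⟩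
  obtain ⟨V, hV⟩ := (Set.toFinite S).exists_minimal hSne
  obtain ⟨hVne, hVn, hσV⟩ := hV.prop
  have hmin : ∀ W : Subgroup G, W.Normal → (∀ w ∈ W, σ w ∈ W) → W ≤ V → W = ⊥ ∨ W = V := by
    intro W hWn hWσ hWV
    by_cases hW : W = ⊥
    · exact Or.inl hW
    · exact Or.inr (hV.eq_of_le ⟨hW, hWn, hWσ⟩ hWV)
  obtain ⟨M, hMn, hMσ, hCM, ⟨k₁, hk₁⟩, hMτ⟩ := H92GRGrStep.step n hn hsol σ hσ hf V hVne hσV hmin
  obtain ⟨σ', hσ'⟩ := exists_quot σ V hσV
  have hσ'1 : ∀ g : G, σ' (g : G ⧸ V) = ((σ g : G) : G ⧸ V) := by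
    intro g
    have := hσ' 1 g
    simpa using this
  have hcard' := Subgroup.card_eq_card_quotient_mul_card_subgroup V
  have hV1 : 1 < Nat.card V := (Subgroup.one_lt_card_iff_ne_bot V).mpr hVne
  have hlt : Nat.card (G ⧸ V) < m := by
    rw [← hm, hcard']
    have : 0 < Nat.card (G ⧸ V) := Nat.card_pos
    nlinarith
  obtain ⟨N', B', hN'n, hB'n, hB'N', hB'nil, ⟨k₂, hk₂⟩, hN'σ, hN'τ⟩ :=
    ih _ hlt (G ⧸ V) rfl inferInstance σ'
    (by
      ext x
      induction x using QuotientGroup.induction_on with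
      | H g => rw [hσ', hσ]; rfl)
    (by
      intro x
      induction x using QuotientGroup.induction_on with
      | H g =>
        intro h
        rw [QuotientGroup.eq_one_iff]
        apply mem_of_fixed 2 n σ hσ hf V hσV
        rw [hσ'1, eq_comm, QuotientGroup.eq] at h
        exact h)
  refine ⟨N'.comap (QuotientGroup.mk' V) ⊓ M,
    B'.comap (QuotientGroup.mk' V) ⊓ Subgroup.centralizer (V : Set G), inferInstance, inferInstance,
    inf_le_inf (Subgroup.comap_mono hB'N') hCM, ?_, ⟨max k₂ k₁, ?_⟩, ?_, ?_⟩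
  · set B := B'.comap (QuotientGroup.mk' V) ⊓ Subgroup.centralizer (V : Set G) with hB
    let f : B →* B' := ((QuotientGroup.mk' V).comp B.subtype).codRestrict B' (fun x => x.2.1)
    apply Subgroup.isNilpotent_of_ker_le_center f
    intro x hx
    rw [MonoidHom.mem_ker] at hx
    have h1 : ((x : G) : G ⧸ V) = 1 := congrArg Subtype.val hx
    rw [QuotientGroup.eq_one_iff] at h1
    rw [Subgroup.mem_center_iff]
    intro y
    apply Subtype.ext
    exact (Subgroup.mem_centralizer_iff.mp y.2.2 x h1).symm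
  · apply le_inf
    · refine (Subgroup.lowerCentralSeries_antitone _ (le_max_left k₂ k₁)).trans ?_
      rw [← Subgroup.map_le_iff_le_comap, Subgroup.map_lowerCentralSeries]
      refine (Subgroup.lowerCentralSeries_mono k₂ ?_).trans hk₂
      rw [Subgroup.map_le_iff_le_comap]
      exact inf_le_left
    · refine (Subgroup.lowerCentralSeries_antitone _ (le_max_right k₂ k₁)).trans ?_
      exact (Subgroup.lowerCentralSeries_mono k₁ inf_le_right).trans hk₁
  · rintro g ⟨hg1, hg2⟩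
    refine ⟨?_, hMσ g hg2⟩
    show ((σ g : G) : G ⧸ V) ∈ N'
    rw [← hσ'1]
    exact hN'σ _ hg1
  · intro g
    refine ⟨?_, hMτ g⟩
    show ((g⁻¹ * (σ ^ 2 ^ (n - 1)) g : G) : G ⧸ V) ∈ N'
    have := hN'τ (g : G ⧸ V)
    rw [hσ'] at this
    exact this

/-- PIECE GrMain.  COPY of the induction of `H92HHShMain.main_aux` (file `Cfsg/Agent/Lib/H92HHShMain.lean`; `exists_quot`, `mem_of_fixed`, `zp_inv` reusable).  `V` a minimal `σ`-invariant normal subgroup, `M` from `GrStep.step`,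
`(N', B')` from the induction hypothesis for `G ⧸ V`.  `N = N'.comap mk ⊓ M`, `B = B'.comap mk ⊓ C_G(V)`.  `B ≤ N` (`C_G(V) ≤ M`); `B` is nilpotent as in `ShMain` (`Subgroup.isNilpotent_of_ker_le_center`);
`N.lowerCentralSeries (max k k') ≤ B` (`Subgroup.lowerCentralSeries_mono`, `_antitone`, `Subgroup.map_lowerCentralSeries`, see the end of `Cfsg/Agent/S3796.lean`). -/
theorem main (n : ℕ) (hn : 1 ≤ n) {G : Type*} [Group G] [Finite G]
    (hsol : Group.IsSolvable G) (σ : MulAut G) (hσ : σ ^ 2 ^ n = 1)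
    (hf : ∀ g : G, σ g = g → g = 1) :
    ∃ N B : Subgroup G, N.Normal ∧ B.Normal ∧ B ≤ N ∧ Group.IsNilpotent B ∧
      (∃ k : ℕ, N.lowerCentralSeries k ≤ B) ∧ (∀ g ∈ N, σ g ∈ N) ∧
      ∀ g : G, g⁻¹ * (σ ^ 2 ^ (n - 1)) g ∈ N :=
  main_aux n hn _ G rfl hsol σ hσ hf

end Cfsg.Agent.Lib.H92GRGrMain
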