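import Mathlib
import Cfsg.Agent.Lib.Helper92HHDefs
import Cfsg.Agent.Lib.Helper92GRDefs
import Cfsg.Agent.Lib.H92GRGrMain
import Cfsg.Agent.Lib.H92GRChainExt
import Cfsg.Agent.S3794
import Cfsg.Agent.Lib.H92HHShMain

set_option autoImplicit false

namespace Cfsg.Agent.Lib.H92GRGrChain

open Polynomial Cfsg.Agent.Lib.Helper92HHDefs Cfsg.Agent.Lib.Helper92GRDefs Cfsg.Agent.Lib.Helper73HHSc

variable {K V : Type*} [Field K] [AddCommGroup V] [Module K V]

theorem chain_aux.{u} (n : ℕ) (hn : 2 ≤ n) :
    ∀ (G : Type u) [Group G] [Finite G], Group.IsSolvable G → ∀ σ : MulAut G,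
    σ ^ 2 ^ n = 1 → (∀ g : G, σ g = g → g = 1) → HasChain (2 * n - 2) G := by
  induction n, hn using Nat.le_induction with
  | base =>
    intro G _ _ hsol σ hσ hf
    have hnil : Group.IsNilpotent (commutator G) :=
      Cfsg.Agent.S3794.result hsol σ (by simpa using hσ) hf
    obtain ⟨j, hj⟩ := (Subgroup.isNilpotent_iff_lowerCentralSeries (commutator G)).mp hnil
    refine ⟨![⊥, commutator G, ⊤], rfl, rfl, ?_, ?_, ?_⟩
    · intro a b hab
      fin_cases a <;> fin_cases b <;> simp_all
    · intro i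
      fin_cases i
      · exact (inferInstance : (⊥ : Subgroup G).Normal)
      · exact (inferInstance : (commutator G).Normal)
      · exact (inferInstance : (⊤ : Subgroup G).Normal)
    · intro i
      fin_cases i
      · exact ⟨j, hj.le⟩
      · exact ⟨1, (Subgroup.top_lowerCentralSeries_one (G := G)).le⟩
  | succ n hn ih =>
    intro G _ _ hsol σ hσ hf
    have : Fact (Nat.Prime 2) := ⟨Nat.prime_two⟩
    obtain ⟨N, B, hNn, hBn, hBN, hBnil, hk, hNσ, hNτ⟩ :=
      Cfsg.Agent.Lib.H92GRGrMain.main (n + 1) (by omega) hsol σ hσ hf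
    obtain ⟨σ', hσ'⟩ := Cfsg.Agent.Lib.H92HHShMain.exists_quot σ N hNσ
    have hσ'1 : ∀ g : G, σ' (g : G ⧸ N) = ((σ g : G) : G ⧸ N) := by
      intro g
      have := hσ' 1 g
      simpa using this
    have hch : HasChain (2 * n - 2) (G ⧸ N) := ih (G ⧸ N) inferInstance σ'
      (by
        ext x
        induction x using QuotientGroup.induction_on with
        | H g =>
          rw [hσ']
          have := hNτ g
          rw [Nat.add_sub_cancel] at this
          rw [MulAut.one_apply, eq_comm, QuotientGroup.eq]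
          exact this)
      (by
        intro x
        induction x using QuotientGroup.induction_on with
        | H g =>
          intro h
          rw [QuotientGroup.eq_one_iff]
          apply Cfsg.Agent.Lib.H92HHShStep.mem_of_fixed 2 (n + 1) σ hσ hf N hNσ
          rw [hσ'1, eq_comm, QuotientGroup.eq] at h
          exact h)
    have h2 := Cfsg.Agent.Lib.H92GRChainExt.chain_ext (2 * n - 2) N B hBn hBN hBnil hk hch
    have e : 2 * (n + 1) - 2 = 2 * n - 2 + 2 := by omega
    rw [e]
    exact h2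

/-- PIECE GrChain (= the row S3795).  Induction on `n ≥ 2` for all `G` in the universe (`Nat.le_induction`).
`n = 2`: `Cfsg.Agent.S3794.result` (`σ^4 = 1`): `commutator G` is nilpotent; `F = ![⊥, commutator G, ⊤]` (`⊤.lowerCentralSeries 1 = ⁅⊤,⊤⁆ = commutator G`), as at the end of `Cfsg/Agent/S3796.lean`.
`n + 1`: `N, B` from `GrMain.main`; `σ̄` on `G ⧸ N` (`H92HHShMain.exists_quot`) satisfies `σ̄^(2^n) = 1` and is fixed point free (`H92HHShStep.mem_of_fixed` with `p = 2`), exactly as in `H92HHShChain.chain_aux`; `ChainExt.chain_ext`;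
`2 * (n + 1) - 2 = (2 * n - 2) + 2`. -/
theorem chain (n : ℕ) (hn : 2 ≤ n) {G : Type*} [Group G] [Finite G]
    (hsol : Group.IsSolvable G) (σ : MulAut G) (hσ : σ ^ 2 ^ n = 1)
    (hf : ∀ g : G, σ g = g → g = 1) : HasChain (2 * n - 2) G :=
  chain_aux n hn G hsol σ hσ hf

end Cfsg.Agent.Lib.H92GRGrChain
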