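import Mathlib
import Cfsg.Agent.Lib.H92KGGrp

/-!
# Project 3779 (HKK), sub-project GroupLie: the Jacobi identity modulo `Gam (a+b+c+1)` (Leibniz form)
-/

set_option autoImplicit false

namespace Cfsg.Agent.Lib.H92KGJac

open scoped commutatorElement
open Cfsg.Agent.Lib.H92KGGrp

variable {G : Type*} [Group G]

theorem inv_left {a b : ℕ} {x y : G} (hx : x ∈ Gam G a) (hy : y ∈ Gam G b) :
    Cg (a + b + 1) ⁅x⁻¹, y⁆ ⁅x, y⁆⁻¹ := by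
  have h := bil_left (x := x) (x' := x⁻¹) hx ((Gam G a).inv_mem hx) hy
  rw [mul_inv_cancel, commutatorElement_one_left] at h
  rw [cg_iff] at h ⊢
  rw [QuotientGroup.mk_mul, QuotientGroup.mk_one] at h
  rw [QuotientGroup.mk_inv]
  exact eq_inv_of_mul_eq_one_right h.symm

theorem inv_right {a b : ℕ} {x y : G} (hx : x ∈ Gam G a) (hy : y ∈ Gam G b) :
    Cg (a + b + 1) ⁅x, y⁻¹⁆ ⁅x, y⁆⁻¹ := by
  have h := bil_right (x := x) (y := y) (y' := y⁻¹) hx hy ((Gam G b).inv_mem hy)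
  rw [mul_inv_cancel, commutatorElement_one_right] at h
  rw [cg_iff] at h ⊢
  rw [QuotientGroup.mk_mul, QuotientGroup.mk_one] at h
  rw [QuotientGroup.mk_inv]
  exact eq_inv_of_mul_eq_one_right h.symm

/-- `⁅y, ⁅x⁻¹, z⁆⁆ ≡ ⁅y, ⁅x, z⁆⁆⁻¹`. -/
theorem triple {a b c n : ℕ} (hn : n = a + b + c) {x y z : G} (hx : x ∈ Gam G a) (hy : y ∈ Gam G b)
    (hz : z ∈ Gam G c) : Cg (n + 1) ⁅y, ⁅x⁻¹, z⁆⁆ ⁅y, ⁅x, z⁆⁆⁻¹ := by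
  have h1 : Cg (a + c + 1) ⁅x⁻¹, z⁆ ⁅x, z⁆⁻¹ := inv_left hx hz
  have h2 : Cg (b + (a + c) + 1) ⁅y, ⁅x⁻¹, z⁆⁆ ⁅y, ⁅x, z⁆⁻¹⁆ :=
    congr_right hy (comm_mem ((Gam G a).inv_mem hx) hz) h1
  have h3 : Cg (b + (a + c) + 1) ⁅y, ⁅x, z⁆⁻¹⁆ ⁅y, ⁅x, z⁆⁆⁻¹ := inv_right hy (comm_mem hx hz)
  have e : b + (a + c) + 1 = n + 1 := by omega
  rw [e] at h2 h3
  exact cg_trans h2 h3

/-- the Jacobi identity in the Leibniz form. -/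
theorem jacobi {a b c n : ℕ} (hn : n = a + b + c) {x y z : G} (hx : x ∈ Gam G a) (hy : y ∈ Gam G b)
    (hz : z ∈ Gam G c) : Cg (n + 1) ⁅x, ⁅y, z⁆⁆ (⁅⁅x, y⁆, z⁆ * ⁅y, ⁅x, z⁆⁆) := by
  have mA : ⁅y, ⁅x, z⁆⁆ ∈ Gam G n := by
    have := comm_mem hy (comm_mem hx hz)
    rwa [show b + (a + c) = n by omega] at this
  have mA' : ⁅y, ⁅x⁻¹, z⁆⁆ ∈ Gam G n := by
    have := comm_mem hy (comm_mem ((Gam G a).inv_mem hx) hz)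
    rwa [show b + (a + c) = n by omega] at this
  have mB' : ⁅x, ⁅z⁻¹, y⁆⁆ ∈ Gam G n := by
    have := comm_mem hx (comm_mem ((Gam G c).inv_mem hz) hy)
    rwa [show a + (c + b) = n by omega] at this
  have mC' : ⁅z, ⁅y⁻¹, x⁆⁆ ∈ Gam G n := by
    have := comm_mem hz (comm_mem ((Gam G b).inv_mem hy) hx)
    rwa [show c + (b + a) = n by omega] at this
  -- the three factors of Hall-Witt
  have t1 : Cg (n + 1) (x * ⁅y, ⁅x⁻¹, z⁆⁆ * x⁻¹) ⁅y, ⁅x, z⁆⁆⁻¹ :=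
    cg_trans (cg_conj mA' x) (triple hn hx hy hz)
  have t2 : Cg (n + 1) (z * ⁅x, ⁅z⁻¹, y⁆⁆ * z⁻¹) ⁅x, ⁅y, z⁆⁆ := by
    have h1 : Cg (n + 1) ⁅x, ⁅z⁻¹, y⁆⁆ ⁅x, ⁅z, y⁆⁆⁻¹ := triple (by omega) hz hx hy
    have h2 : Cg (n + 1) ⁅x, ⁅y, z⁆⁻¹⁆ ⁅x, ⁅y, z⁆⁆⁻¹ := by
      have := inv_right hx (comm_mem hy hz)
      rwa [show a + (b + c) + 1 = n + 1 by omega] at this
    rw [commutatorElement_inv] at h2
    have h3 := cg_inv h2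
    rw [inv_inv] at h3
    exact cg_trans (cg_conj mB' z) (cg_trans h1 h3)
  have t3 : Cg (n + 1) (y * ⁅z, ⁅y⁻¹, x⁆⁆ * y⁻¹) ⁅⁅x, y⁆, z⁆⁻¹ := by
    have h1 : Cg (n + 1) ⁅z, ⁅y⁻¹, x⁆⁆ ⁅z, ⁅y, x⁆⁆⁻¹ := triple (by omega) hy hz hx
    have h2 : Cg (n + 1) ⁅z, ⁅x, y⁆⁻¹⁆ ⁅z, ⁅x, y⁆⁆⁻¹ := by
      have := inv_right hz (comm_mem hx hy)
      rwa [show c + (a + b) + 1 = n + 1 by omega] at this
    rw [commutatorElement_inv] at h2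
    have h3 := cg_inv h2
    rw [inv_inv, ← commutatorElement_inv ⁅x, y⁆ z] at h3
    exact cg_trans (cg_conj mC' y) (cg_trans h1 h3)
  have hw := hall_witt x y z
  have h4 := cg_mul (cg_mul t1 t2) t3
  rw [hw] at h4
  -- h4 : 1 ≡ A⁻¹ * B * C⁻¹
  have hAC := cg_comm mA ⁅⁅x, y⁆, z⁆
  rw [cg_iff] at h4 hAC ⊢
  simp only [QuotientGroup.mk_mul, QuotientGroup.mk_inv, QuotientGroup.mk_one] at h4 hAC ⊢
  rw [← hAC]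
  generalize (QuotientGroup.mk ⁅y, ⁅x, z⁆⁆ : G ⧸ Gam G (n + 1)) = A at h4 ⊢
  generalize (QuotientGroup.mk ⁅x, ⁅y, z⁆⁆ : G ⧸ Gam G (n + 1)) = B at h4 ⊢
  generalize (QuotientGroup.mk ⁅⁅x, y⁆, z⁆ : G ⧸ Gam G (n + 1)) = C at h4 ⊢
  have : B = A * (A⁻¹ * B * C⁻¹) * C := by group
  rw [this, ← h4, mul_one]

end Cfsg.Agent.Lib.H92KGJac
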