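import Mathlib
import Cfsg.Agent.Lib.Helper92KDefs
import Cfsg.Agent.Lib.H92KGGrp
import Cfsg.Agent.Lib.H92KGGen

/-!
# Project 3779 (HKK), sub-project GroupLie: the factors `Gam d / Gam (d+1)` and the graded product
-/

set_option autoImplicit false

namespace Cfsg.Agent.Lib.H92KGQuot

open scoped commutatorElement
open Cfsg.Agent.Lib.H92KGGrp DirectSum

universe u

variable (G : Type u) [Group G]

/-- `Gam d / Gam (d+1)` -/
abbrev Q (d : ℕ) : Type u := ↥(Gam G d) ⧸ (Gam G (d + 1)).subgroupOf (Gam G d)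

theorem q_comm (d : ℕ) (x y : Q G d) : x * y = y * x := by
  obtain ⟨x, rfl⟩ := QuotientGroup.mk_surjective x
  obtain ⟨y, rfl⟩ := QuotientGroup.mk_surjective y
  rw [← QuotientGroup.mk_mul, ← QuotientGroup.mk_mul, QuotientGroup.eq, Subgroup.mem_subgroupOf]
  exact cg_comm x.2 (y : G)

instance commQ (d : ℕ) : CommGroup (Q G d) :=
  { (inferInstance : Group (Q G d)) with mul_comm := q_comm G d }

/-- the additive version -/
def A (d : ℕ) : Type u := Additive (Q G d)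

instance (d : ℕ) : AddCommGroup (A G d) := inferInstanceAs (AddCommGroup (Additive (Q G d)))

variable {G}

/-- the class of `x ∈ Gam d` -/
def mk (d : ℕ) (x : G) (hx : x ∈ Gam G d) : A G d :=
  Additive.ofMul (QuotientGroup.mk (⟨x, hx⟩ : Gam G d) : Q G d)

theorem mk_eq_iff {d : ℕ} {x y : G} (hx : x ∈ Gam G d) (hy : y ∈ Gam G d) :
    mk d x hx = mk d y hy ↔ Cg (d + 1) x y := by
  constructor
  · intro h
    have h' : (QuotientGroup.mk (⟨x, hx⟩ : Gam G d) : Q G d) = QuotientGroup.mk (⟨y, hy⟩ : Gam G d) := h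
    rw [QuotientGroup.eq, Subgroup.mem_subgroupOf] at h'
    exact h'
  · intro h
    have h' : (QuotientGroup.mk (⟨x, hx⟩ : Gam G d) : Q G d) = QuotientGroup.mk (⟨y, hy⟩ : Gam G d) := by
      rw [QuotientGroup.eq, Subgroup.mem_subgroupOf]
      exact h
    exact h'

theorem mk_congr {d : ℕ} {x y : G} (h : x = y) (hx : x ∈ Gam G d) (hy : y ∈ Gam G d) :
    mk d x hx = mk d y hy := by
  subst h; rfl

theorem mk_mul {d : ℕ} {x y : G} (hx : x ∈ Gam G d) (hy : y ∈ Gam G d) :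
    mk d (x * y) ((Gam G d).mul_mem hx hy) = mk d x hx + mk d y hy := rfl

theorem mk_one (d : ℕ) : mk d (1 : G) (Gam G d).one_mem = 0 := rfl

theorem mk_inv {d : ℕ} {x : G} (hx : x ∈ Gam G d) :
    mk d x⁻¹ ((Gam G d).inv_mem hx) = - mk d x hx := rfl

theorem mk_eq_zero_iff {d : ℕ} {x : G} (hx : x ∈ Gam G d) : mk d x hx = 0 ↔ x ∈ Gam G (d + 1) := by
  rw [← mk_one, mk_eq_iff, cg_one_iff']

theorem mk_surj {d : ℕ} (u : A G d) : ∃ x, ∃ hx : x ∈ Gam G d, mk d x hx = u := by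
  obtain ⟨x, hx⟩ := QuotientGroup.mk_surjective (Additive.toMul u : Q G d)
  refine ⟨x.1, x.2, ?_⟩
  unfold mk
  rw [show (⟨x.1, x.2⟩ : Gam G d) = x from rfl, hx]
  rfl

theorem mk_pow {d : ℕ} {x : G} (hx : x ∈ Gam G d) (n : ℕ) :
    mk d (x ^ n) ((Gam G d).pow_mem hx n) = n • mk d x hx := by
  induction n with
  | zero => rw [zero_smul]; exact (mk_congr (pow_zero x) _ _).trans (mk_one d)
  | succ n ih =>
    rw [succ_nsmul, ← ih, ← mk_mul]
    exact mk_congr (pow_succ x n) _ _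

/-- a representative -/
noncomputable def rep {d : ℕ} (u : A G d) : G := (mk_surj u).choose

theorem rep_mem {d : ℕ} (u : A G d) : rep u ∈ Gam G d := (mk_surj u).choose_spec.choose

theorem mk_rep {d : ℕ} (u : A G d) : mk d (rep u) (rep_mem u) = u := (mk_surj u).choose_spec.choose_spec

theorem rep_mk {d : ℕ} {x : G} (hx : x ∈ Gam G d) : Cg (d + 1) (rep (mk d x hx)) x :=
  (mk_eq_iff _ _).mp (mk_rep (mk d x hx))

/-- the bracket of the factors -/
noncomputable def brk {a b : ℕ} (u : A G a) (v : A G b) : A G (a + b) :=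
  mk (a + b) ⁅rep u, rep v⁆ (comm_mem (rep_mem u) (rep_mem v))

theorem brk_mk {a b : ℕ} {x y : G} (hx : x ∈ Gam G a) (hy : y ∈ Gam G b) :
    brk (mk a x hx) (mk b y hy) = mk (a + b) ⁅x, y⁆ (comm_mem hx hy) := by
  unfold brk
  rw [mk_eq_iff]
  exact cg_trans (congr_left (rep_mem _) (rep_mk hx) (rep_mem _)) (congr_right hx (rep_mem _) (rep_mk hy))

noncomputable instance : DirectSum.GNonUnitalNonAssocSemiring (A G) where
  mul := brk
  mul_zero := by
    intro i j a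
    obtain ⟨x, hx, rfl⟩ := mk_surj a
    rw [← mk_one, brk_mk, ← mk_one]
    exact mk_congr (commutatorElement_one_right x) _ _
  zero_mul := by
    intro i j b
    obtain ⟨y, hy, rfl⟩ := mk_surj b
    rw [← mk_one, brk_mk, ← mk_one]
    exact mk_congr (commutatorElement_one_left y) _ _
  mul_add := by
    intro i j a b c
    obtain ⟨x, hx, rfl⟩ := mk_surj a
    obtain ⟨y, hy, rfl⟩ := mk_surj b
    obtain ⟨z, hz, rfl⟩ := mk_surj c
    rw [← mk_mul, brk_mk, brk_mk, brk_mk, ← mk_mul, mk_eq_iff]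
    exact bil_right hx hy hz
  add_mul := by
    intro i j a b c
    obtain ⟨x, hx, rfl⟩ := mk_surj a
    obtain ⟨y, hy, rfl⟩ := mk_surj b
    obtain ⟨z, hz, rfl⟩ := mk_surj c
    rw [← mk_mul, brk_mk, brk_mk, brk_mk, ← mk_mul, mk_eq_iff]
    exact bil_left hx hy hz

theorem gmul_eq {a b : ℕ} (u : A G a) (v : A G b) : GradedMonoid.GMul.mul u v = brk u v := rfl

/-- homogeneous elements of the direct sum -/
noncomputable def cls (d : ℕ) (g : G) (hg : g ∈ Gam G d) : ⨁ d, A G d := of (A G) d (mk d g hg)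

theorem cls_congr {d d' : ℕ} {g g' : G} (hd : d = d') (h : g = g') (hg : g ∈ Gam G d) (hg' : g' ∈ Gam G d') :
    cls d g hg = cls d' g' hg' := by
  subst hd; subst h; rfl

theorem cls_cg {d : ℕ} {g g' : G} (h : Cg (d + 1) g g') (hg : g ∈ Gam G d) (hg' : g' ∈ Gam G d) :
    cls d g hg = cls d g' hg' := by
  unfold cls; rw [(mk_eq_iff hg hg').mpr h]

theorem cls_mul {d : ℕ} {g h : G} (hg : g ∈ Gam G d) (hh : h ∈ Gam G d) :
    cls d (g * h) ((Gam G d).mul_mem hg hh) = cls d g hg + cls d h hh := by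
  unfold cls; rw [mk_mul, map_add]

theorem cls_one (d : ℕ) : cls d (1 : G) (Gam G d).one_mem = 0 := by
  unfold cls; rw [mk_one, map_zero]

theorem cls_inv {d : ℕ} {g : G} (hg : g ∈ Gam G d) :
    cls d g⁻¹ ((Gam G d).inv_mem hg) = - cls d g hg := by
  unfold cls; rw [mk_inv, map_neg]

theorem cls_conj {d : ℕ} {g : G} (hg : g ∈ Gam G d) (t : G) :
    cls d (t * g * t⁻¹) (conj_mem hg t) = cls d g hg := cls_cg (cg_conj hg t) _ _

theorem cls_mul_cls {a b : ℕ} {x y : G} (hx : x ∈ Gam G a) (hy : y ∈ Gam G b) :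
    cls a x hx * cls b y hy = cls (a + b) ⁅x, y⁆ (comm_mem hx hy) := by
  unfold cls; rw [of_mul_of, gmul_eq, brk_mk]

theorem exists_cls {d : ℕ} (u : A G d) : ∃ g, ∃ hg : g ∈ Gam G d, of (A G) d u = cls d g hg := by
  obtain ⟨g, hg, rfl⟩ := mk_surj u
  exact ⟨g, hg, rfl⟩

theorem hself (a : ℕ) (u : A G a) : of (A G) a u * of (A G) a u = 0 := by
  obtain ⟨x, hx, e⟩ := exists_cls u
  rw [e, cls_mul_cls, ← cls_one]
  exact cls_congr rfl (commutatorElement_self x) _ _

theorem hskew (a b : ℕ) (u : A G a) (v : A G b) :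
    of (A G) a u * of (A G) b v + of (A G) b v * of (A G) a u = 0 := by
  obtain ⟨x, hx, e⟩ := exists_cls u
  obtain ⟨y, hy, e'⟩ := exists_cls v
  rw [e, e', cls_mul_cls, cls_mul_cls,
    cls_congr (add_comm b a) rfl (comm_mem hy hx) (by rw [add_comm]; exact comm_mem hy hx), ← cls_mul,
    ← cls_one]
  exact cls_congr rfl (skew x y) _ _

end Cfsg.Agent.Lib.H92KGQuot
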