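import Mathlib
import Cfsg.Agent.Lib.H92KGQuot
import Cfsg.Agent.Lib.H92KGJac

/-!
# Project 3779 (HKK), sub-project GroupLie: `hjac` for the graded product on `⨁ d, A G d`
-/

set_option autoImplicit false

namespace Cfsg.Agent.Lib.H92KGJac2

open scoped commutatorElement
open Cfsg.Agent.Lib.H92KGGrp Cfsg.Agent.Lib.H92KGQuot DirectSum

universe u

variable {G : Type u} [Group G]

theorem hjac (a b c : ℕ) (u : A G a) (v : A G b) (w : A G c) :
    of (A G) a u * (of (A G) b v * of (A G) c w) =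
      (of (A G) a u * of (A G) b v) * of (A G) c w + of (A G) b v * (of (A G) a u * of (A G) c w) := by
  obtain ⟨x, hx, e⟩ := exists_cls u
  obtain ⟨y, hy, e'⟩ := exists_cls v
  obtain ⟨z, hz, e''⟩ := exists_cls w
  rw [e, e', e'', cls_mul_cls, cls_mul_cls, cls_mul_cls, cls_mul_cls, cls_mul_cls, cls_mul_cls]
  have m1 : ⁅x, ⁅y, z⁆⁆ ∈ Gam G (a + b + c) := by
    have := comm_mem hx (comm_mem hy hz)
    rwa [show a + (b + c) = a + b + c by omega] at this
  have m3 : ⁅y, ⁅x, z⁆⁆ ∈ Gam G (a + b + c) := by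
    have := comm_mem hy (comm_mem hx hz)
    rwa [show b + (a + c) = a + b + c by omega] at this
  rw [cls_congr (show a + (b + c) = a + b + c by omega) rfl _ m1,
    cls_congr (show b + (a + c) = a + b + c by omega) rfl _ m3, ← cls_mul]
  exact cls_cg (Cfsg.Agent.Lib.H92KGJac.jacobi rfl hx hy hz) _ _

end Cfsg.Agent.Lib.H92KGJac2
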