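import Mathlib

set_option autoImplicit false

namespace Cfsg.Agent.Lib.H92KTFix

open TensorProduct Polynomial

variable {L : Type*} [AddCommGroup L] {A : Type*} [CommRing A]

theorem equiv_baseChange {ι : Type*} [DecidableEq ι] (ℬ : Module.Basis ι ℤ A) (Φ : L →+ L) (y : A ⊗[ℤ] L) (i : ι) :
    (equivFinsuppOfBasisLeft ℬ (LinearMap.baseChange A Φ.toIntLinearMap y)) i
      = Φ ((equivFinsuppOfBasisLeft ℬ y) i) := by
  induction y using TensorProduct.induction_on with
  | zero => simp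
  | tmul a x =>
    rw [LinearMap.baseChange_tmul, equivFinsuppOfBasisLeft_apply_tmul, equivFinsuppOfBasisLeft_apply_tmul]
    simp
  | add y z hy hz => simp only [map_add, Finsupp.add_apply, hy, hz]

/-- fixed points of `1 ⊗ Φ`. -/
theorem fix_eq_zero {ι : Type*} [DecidableEq ι] (ℬ : Module.Basis ι ℤ A) (Φ : L →+ L)
    (hfix : ∀ x : L, Φ x = x → x = 0) (y : A ⊗[ℤ] L)
    (hy : LinearMap.baseChange A Φ.toIntLinearMap y = y) : y = 0 := by
  apply (equivFinsuppOfBasisLeft ℬ).injective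
  rw [map_zero]
  ext i
  apply hfix
  rw [← equiv_baseChange, hy]

theorem one_tmul_injective {ι : Type*} [DecidableEq ι] (ℬ : Module.Basis ι ℤ A) (i₀ : ι) (h1 : ℬ i₀ = 1) :
    Function.Injective (fun x : L => (1 : A) ⊗ₜ[ℤ] x) := by
  intro x y hxy
  have h := congrArg (fun z => (equivFinsuppOfBasisLeft ℬ z) i₀) hxy
  simp only [equivFinsuppOfBasisLeft_apply_tmul, ← h1, Module.Basis.repr_self] at h
  simpa using h

/-- the basis of `AdjoinRoot (cyclotomic p ℤ)`. -/
theorem exists_basis (p : ℕ) [Fact p.Prime] :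
    ∃ (d : ℕ) (ℬ : Module.Basis (Fin d) ℤ (AdjoinRoot (cyclotomic p ℤ))) (i₀ : Fin d), ℬ i₀ = 1 := by
  have hm : (cyclotomic p ℤ).Monic := cyclotomic.monic p ℤ
  have hd : 0 < (AdjoinRoot.powerBasis' hm).dim := by
    rw [AdjoinRoot.powerBasis'_dim, natDegree_cyclotomic]
    exact Nat.totient_pos.2 (Fact.out : p.Prime).pos
  refine ⟨_, (AdjoinRoot.powerBasis' hm).basis, ⟨0, hd⟩, ?_⟩
  rw [PowerBasis.coe_basis]
  simp

end Cfsg.Agent.Lib.H92KTFix
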