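import Mathlib

set_option autoImplicit false

namespace Cfsg.Agent.Lib.H92KTOmega

open Polynomial

variable (p : ℕ) [Fact p.Prime]

theorem sum_root : ∑ s ∈ Finset.range p, (AdjoinRoot.root (cyclotomic p ℤ)) ^ s = 0 := by
  have h := AdjoinRoot.eval₂_root (cyclotomic p ℤ)
  have e : eval₂ (AdjoinRoot.of (cyclotomic p ℤ)) (AdjoinRoot.root (cyclotomic p ℤ)) (cyclotomic p ℤ)
      = eval₂ (AdjoinRoot.of (cyclotomic p ℤ)) (AdjoinRoot.root (cyclotomic p ℤ))
        (∑ i ∈ Finset.range p, X ^ i) := by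
    congr 1
    exact cyclotomic_prime ℤ p
  rw [e, eval₂_finsetSum] at h
  simpa using h

theorem root_pow : (AdjoinRoot.root (cyclotomic p ℤ)) ^ p = 1 := by
  have h := geom_sum_mul (AdjoinRoot.root (cyclotomic p ℤ)) p
  rw [sum_root, zero_mul] at h
  exact (sub_eq_zero.1 h.symm)

/-- general: in a commutative ring, `w ^ p = 1`, `∑ s<p, w^s = 0`, `p` prime, `¬ p ∣ k`. -/
theorem sum_pow_mul {A : Type*} [CommRing A] (w : A) (h1 : w ^ p = 1)
    (h0 : ∑ s ∈ Finset.range p, w ^ s = 0) (k : ℕ) (hk : ¬ p ∣ k) :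
    ∑ s ∈ Finset.range p, w ^ (s * k) = 0 := by
  have hp : p.Prime := Fact.out
  rw [← h0]
  apply Finset.sum_nbij' (fun s => (s * k) % p)
    (fun r => (r * ((k : ZMod p)⁻¹).val) % p)
  · intro s _
    exact Finset.mem_range.2 (Nat.mod_lt _ hp.pos)
  · intro s _
    exact Finset.mem_range.2 (Nat.mod_lt _ hp.pos)
  · intro s hs
    have hk' : (k : ZMod p) ≠ 0 := by
      rwa [Ne, ZMod.natCast_eq_zero_iff]
    have : (((s * k) % p * ((k : ZMod p)⁻¹).val) % p : ℕ) = s % p := by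
      rw [← ZMod.natCast_eq_natCast_iff']
      push_cast
      rw [ZMod.natCast_mod]
      push_cast
      rw [ZMod.natCast_zmod_val, mul_assoc, mul_inv_cancel₀ hk', mul_one]
    rw [this, Nat.mod_eq_of_lt (Finset.mem_range.1 hs)]
  · intro s hs
    have hk' : (k : ZMod p) ≠ 0 := by
      rwa [Ne, ZMod.natCast_eq_zero_iff]
    have : (((s * ((k : ZMod p)⁻¹).val) % p * k) % p : ℕ) = s % p := by
      rw [← ZMod.natCast_eq_natCast_iff']
      push_cast
      rw [ZMod.natCast_mod]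
      push_cast
      rw [ZMod.natCast_zmod_val, mul_assoc, inv_mul_cancel₀ hk', mul_one]
    rw [this, Nat.mod_eq_of_lt (Finset.mem_range.1 hs)]
  · intro s _
    exact pow_eq_pow_mod _ h1

end Cfsg.Agent.Lib.H92KTOmega
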