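import Cfsg.Agent.Lib.H93MiDefs

/-! Project 4220 (row S4220), piece SylConv. -/

set_option autoImplicit false
open scoped commutatorElement

namespace Cfsg.Agent.H93Mi

variable {α : Type*} [Fintype α] [DecidableEq α]

/-- Translation between the maximality form `SylFix` and Mathlib's `Sylow` structure of the
subgroup `FxG G S`.  (→) `P := ⟨Q.subgroupOf (FxG G S), _, _⟩`; (←) `P.2`, `P.3` and
`Subgroup.map_subtype_le`, `Subgroup.map_injective`, `IsPGroup.map`, `IsPGroup.comap_subtype`. -/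
theorem syl_conv (p : ℕ) [Fact p.Prime] (G Q : Subgroup (Equiv.Perm α)) (S : Finset α) :
    SylFix p G Q S ↔
      ∃ P : Sylow p (FxG G S), (P : Subgroup (FxG G S)).map (FxG G S).subtype = Q := by
  have hFG : FxG G S ≤ G := fun g hg => hg.1
  have hFfix : ∀ g ∈ FxG G S, ∀ a ∈ S, g a = a := fun g hg => hg.2
  constructor
  · rintro ⟨hQG, hQfix, hQp, hQmax⟩
    have hQF : Q ≤ FxG G S := fun q hq => ⟨hQG hq, hQfix q hq⟩
    refine ⟨⟨Q.subgroupOf (FxG G S), hQp.comap_subtype, ?_⟩, Subgroup.map_subgroupOf_eq_of_le hQF⟩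
    intro R hRp hQR
    have h1 : R.map (FxG G S).subtype = Q := by
      apply hQmax
      · exact (Subgroup.map_subtype_le R).trans hFG
      · intro q hq
        exact hFfix q (Subgroup.map_subtype_le R hq)
      · exact hRp.map _
      · intro q hq
        exact ⟨⟨q, hQF hq⟩, hQR (Subgroup.mem_subgroupOf.2 hq), rfl⟩
    ext x
    rw [Subgroup.mem_subgroupOf, ← h1]
    constructor
    · intro hx
      exact ⟨x, hx, rfl⟩
    · rintro ⟨y, hy, hyx⟩
      have : y = x := Subtype.ext hyx
      rwa [← this]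
  · rintro ⟨P, rfl⟩
    refine ⟨(Subgroup.map_subtype_le _).trans hFG, fun q hq => hFfix q (Subgroup.map_subtype_le _ hq),
      P.2.map _, ?_⟩
    intro R hRG hRfix hRp hPR
    have hRF : R ≤ FxG G S := fun q hq => ⟨hRG hq, hRfix q hq⟩
    have h1 : R.subgroupOf (FxG G S) = (P : Subgroup (FxG G S)) := by
      apply P.3 hRp.comap_subtype
      intro x hx
      exact Subgroup.mem_subgroupOf.2 (hPR ⟨x, hx, rfl⟩)
    rw [← h1, Subgroup.map_subgroupOf_eq_of_le hRF]

end Cfsg.Agent.H93Mi
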