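import Cfsg.Agent.Lib.Helper96EDefs
import Cfsg.Agent.Lib.Helper13EluT2

/-! PROJECT 5980 (TE = row S5980), piece Tr.  See notes/helper96/E/README.md. -/

set_option autoImplicit false
set_option linter.unusedSectionVars false
set_option linter.unusedVariables false

namespace Cfsg.Agent.Lib.H96ETr

open scoped Matrix Kronecker
open Matrix Cfsg.Agent.Lib.Helper49TDefs Cfsg.Agent.Lib.Helper49SDefs Cfsg.Agent.Lib.Helper96KDefs
  Cfsg.Agent.Lib.Helper96EDefs Cfsg.Agent.Lib.H90SwDefs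

variable {F : Type*} [Field F] {a b n d : ℕ}

local notation "Mn" => Matrix (Fin a × Fin b) (Fin a × Fin b) F
local notation "GLn" => Matrix.GeneralLinearGroup (Fin a × Fin b) F
local notation "Ma" => Matrix (Fin a) (Fin a) F
local notation "Mb" => Matrix (Fin b) (Fin b) F
local notation "Md" => Matrix (Fin d ⊕ Fin d) (Fin d ⊕ Fin d) F
local notation "GLd" => Matrix.GeneralLinearGroup (Fin d ⊕ Fin d) F
local notation "Vd" => (Fin d ⊕ Fin d → F)

theorem coe_glReindex' (e : (Fin d ⊕ Fin d) ≃ Fin a × Fin b) (k : GLn) :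
    ((Cfsg.Geo.glReindex e.symm k : GLd) : Md) = (k : Mn).submatrix e e := rfl

theorem conj_sub' (e : (Fin d ⊕ Fin d) ≃ Fin a × Fin b) (Q : GLd) (k : GLn) (l : F) :
    ((Q * Cfsg.Geo.glReindex e.symm k * Q⁻¹ : GLd) : Md) - l • 1
      = (Q : Md) * ((k : Mn) - l • 1).submatrix e e * ((Q⁻¹ : GLd) : Md) := by
  have h1 : ((k : Mn) - l • 1).submatrix e e = (k : Mn).submatrix e e - l • 1 := by
    ext i j
    simp [Matrix.one_apply]
  rw [Units.val_mul, Units.val_mul, coe_glReindex', h1, mul_sub, sub_mul, mul_smul_comm,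
    smul_mul_assoc, mul_one, ← Units.val_mul, mul_inv_cancel, Units.val_one]

theorem rank_conj' (e : (Fin d ⊕ Fin d) ≃ Fin a × Fin b) (Q : GLd) (k : GLn) (l : F) :
    (((Q * Cfsg.Geo.glReindex e.symm k * Q⁻¹ : GLd) : Md) - l • 1).rank = ((k : Mn) - l • 1).rank := by
  rw [conj_sub', Matrix.rank_mul_eq_left_of_isUnit_det _ _
      ((Matrix.isUnit_iff_isUnit_det _).1 (Q⁻¹).isUnit),
    Matrix.rank_mul_eq_right_of_isUnit_det _ _ ((Matrix.isUnit_iff_isUnit_det _).1 Q.isUnit),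
    Matrix.rank_submatrix]

/-- TRANSPORT.  `y = g⁻¹ x g ∈ tensorProductSubgroup ⊓ spGL = (KS ⊓ SpG D).map (phi e P)` (`Helper96EDefs.KS_map`, `sp_map`;
take `k = (phi e P).symm y`: `k ∈ KS` because `y = phi k'` with `k' ∈ KS` and `phi` is injective, same for `SpG D`).
Then `x = (g * P) * glReindex e.symm k * (g * P)⁻¹`; the rank statement is `Helper13EluT2.conj_sub` / `rank_conj`
(COPY these two proofs, they are stated for `Fin n` but work verbatim for the index type `Fin d ⊕ Fin d`);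
the power statement: see the first lines of `Helper13EluT2.small_case` (`conj_pow`, `map_pow`, injectivity). -/
theorem exists_k (e : (Fin d ⊕ Fin d) ≃ Fin a × Fin b) (P : GLd) (D : TDat F a b)
    (hD : ∀ x y, D.ff x y = Cfsg.sympForm d F ((P : Md) *ᵥ (x ∘ e)) ((P : Md) *ᵥ (y ∘ e)))
    (x g : GLd) (hx : x ∈ Cfsg.spGL d F) (hg : g ∈ Cfsg.spGL d F)
    (h : g⁻¹ * x * g ∈ Cfsg.Geo.tensorProductSubgroup a b e P) :
    ∃ k ∈ KS a b F ⊓ SpG D, (∀ l : F, ((x : Md) - l • 1).rank = ((k : Mn) - l • 1).rank) ∧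
      ∀ m : ℕ, x ^ m = 1 → k ^ m = 1 := by
  have hy : g⁻¹ * x * g ∈ Cfsg.spGL d F := mul_mem (mul_mem (inv_mem hg) hx) hg
  rw [← KS_map] at h
  rw [← sp_map e P D hD] at hy
  obtain ⟨k, hk, hk'⟩ := h
  obtain ⟨k₂, hk₂, hk₂'⟩ := hy
  have hkk : k₂ = k := (phi e P).injective (hk₂'.trans hk'.symm)
  subst hkk
  have hk'' : P * Cfsg.Geo.glReindex e.symm k₂ * P⁻¹ = g⁻¹ * x * g := hk'
  have hxQ : x = (g * P) * Cfsg.Geo.glReindex e.symm k₂ * (g * P)⁻¹ := by
    calc x = g * (g⁻¹ * x * g) * g⁻¹ := by group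
    _ = _ := by rw [← hk'']; group
  refine ⟨k₂, ⟨hk, hk₂⟩, fun l => ?_, fun m hm => ?_⟩
  · conv_lhs => rw [hxQ]
    exact rank_conj' e (g * P) k₂ l
  · rw [hxQ, conj_pow, ← map_pow] at hm
    have h2 : Cfsg.Geo.glReindex e.symm (k₂ ^ m) = 1 := by
      calc Cfsg.Geo.glReindex e.symm (k₂ ^ m)
          = (g * P)⁻¹ * ((g * P) * Cfsg.Geo.glReindex e.symm (k₂ ^ m) * (g * P)⁻¹) * (g * P) := by group
      _ = 1 := by rw [hm]; group
    exact (Cfsg.Geo.glReindex e.symm).injective (by rw [h2, map_one])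


end Cfsg.Agent.Lib.H96ETr
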