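import Cfsg.Agent.Lib.Helper96KDefs
import Cfsg.Agent.Lib.H96KFormA

/-!
PROJECT 196 (TKL), piece PerpNS.  See notes/helper96/K/README.md.
-/

set_option autoImplicit false
set_option linter.unusedSectionVars false
set_option linter.unusedVariables false

namespace Cfsg.Agent.Lib.H96KPerpNS

open scoped Matrix Kronecker
open Matrix Polynomial Cfsg.Agent.Lib.Helper49TDefs Cfsg.Agent.Lib.Helper49SDefs Cfsg.Agent.Lib.Helper96KDefs
open Cfsg.Agent.Lib.H96KFormA

variable {F : Type*} [Field F] {a b n : ℕ}

local notation "Mn" => Matrix (Fin a × Fin b) (Fin a × Fin b) F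
local notation "GLn" => Matrix.GeneralLinearGroup (Fin a × Fin b) F
local notation "Mb" => Matrix (Fin b) (Fin b) F
local notation "Ma" => Matrix (Fin a) (Fin a) F

theorem exists_perp_nonsing {J : Matrix (Fin n) (Fin n) F} (hJ : IsSymmMat J) (h2 : (2 : F) ≠ 0) (hn : 3 ≤ n)
    {c x : Fin n → F} (hx : bf J x x = 0) (hcx : bf J c x ≠ 0) :
    ∃ d, bf J d d ≠ 0 ∧ bf J d c = 0 ∧ bf J d x = 0 := by
  classical
  by_contra hcon
  push Not at hcon
  have hxc : bf J x c = bf J c x := symm_swap hJ x c
  -- polarisation on the perp
  have hpol : ∀ d d', bf J d c = 0 → bf J d x = 0 → bf J d' c = 0 → bf J d' x = 0 → bf J d d' = 0 := by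
    intro d d' h1 h2' h3 h4
    have e1 : bf J d d = 0 := by
      by_contra h
      exact hcon d h h1 h2'
    have e2 : bf J d' d' = 0 := by
      by_contra h
      exact hcon d' h h3 h4
    have e3 : bf J (d + d') (d + d') = 0 := by
      by_contra h
      exact hcon (d + d') h (by rw [bf_add_left, h1, h3, add_zero]) (by rw [bf_add_left, h2', h4, add_zero])
    simp only [bf_add_left, bf_add_right, e1, e2, symm_swap hJ d' d] at e3
    have : 2 * bf J d d' = 0 := by linear_combination e3
    exact (mul_eq_zero.mp this).resolve_left h2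
  set β := bf J c x with hβ
  let A : (Fin n → F) → F := fun v => bf J v x / β
  let B : (Fin n → F) → F := fun v => (bf J v c - bf J c c * bf J v x / β) / β
  let π : (Fin n → F) → (Fin n → F) := fun v => v - A v • c - B v • x
  have hπx : ∀ v, bf J (π v) x = 0 := by
    intro v
    simp only [π, A, B, bf_sub_left, bf_smul_left, hx, ← hβ]
    field_simp
    ring
  have hπc : ∀ v, bf J (π v) c = 0 := by
    intro v
    simp only [π, A, B, bf_sub_left, bf_smul_left, hxc]
    field_simp
    ring
  have hπ0 : ∀ v, π v = 0 := by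
    intro v
    apply symm_eq_zero_of_right hJ
    intro w
    rw [symm_swap hJ]
    have hw : w = π w + (A w • c + B w • x) := by
      simp only [π]
      abel
    rw [hw, bf_add_right, bf_add_right, bf_smul_right, bf_smul_right, hπc, hπx,
      hpol _ _ (hπc v) (hπx v) (hπc w) (hπx w)]
    ring
  have hspan : (⊤ : Submodule F (Fin n → F)) ≤ Submodule.span F (({c, x} : Finset (Fin n → F)) : Set (Fin n → F)) := by
    intro v _
    rw [Finset.coe_pair, Submodule.mem_span_pair]
    refine ⟨A v, B v, ?_⟩
    have := hπ0 v
    simp only [π] at this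
    have h3 : v = A v • c + B v • x := by
      have h4 : v - A v • c - B v • x + (A v • c + B v • x) = v := by abel
      rw [this, zero_add] at h4
      exact h4.symm
    exact h3.symm
  have h5 := Submodule.finrank_mono hspan
  rw [finrank_top, Module.finrank_fin_fun] at h5
  have h6 := finrank_span_finset_le_card (R := F) ({c, x} : Finset (Fin n → F))
  unfold Set.finrank at h6
  have h7 : ({c, x} : Finset (Fin n → F)).card ≤ 2 := Finset.card_le_two
  omega

end Cfsg.Agent.Lib.H96KPerpNS
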