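import Cfsg.Agent.Lib.Helper98FixDefs


/-! PROJECT 2271 (fixed points on products of classes), PIECE Ar. -/

namespace Cfsg.Agent.Lib.H98FixAr

open Cfsg.Agent.Lib.Helper98FixDefs Equiv Finset

theorem arith1 (n k fa fb : ℕ) (hn : 5 ≤ n) (ha : fa + 2 ≤ n) (hle : fb ≤ fa) (h2 : 2 ≤ fb)
    (hE : k * (n * (n - 1)) = (n - 1) * (fa * fb) + (n - fa) * (n - fb)) : k < fb := by
  obtain ⟨f, rfl⟩ : ∃ f, fb = f + 2 := ⟨fb - 2, by omega⟩
  obtain ⟨d, rfl⟩ : ∃ d, fa = f + 2 + d := ⟨fa - (f + 2), by omega⟩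
  obtain ⟨m, rfl⟩ : ∃ m, n = f + 2 + d + (m + 2) := ⟨n - (f + 2 + d) - 2, by omega⟩
  have h1 : f + 2 + d + (m + 2) - 1 = f + d + m + 3 := by omega
  have h3 : f + 2 + d + (m + 2) - (f + 2 + d) = m + 2 := by omega
  have h4 : f + 2 + d + (m + 2) - (f + 2) = d + m + 2 := by omega
  rw [h1, h3, h4] at hE
  by_contra hcon
  push_neg at hcon
  have h5 : (f + 2) * ((f + 2 + d + (m + 2)) * (f + d + m + 3)) ≤
      k * ((f + 2 + d + (m + 2)) * (f + d + m + 3)) := Nat.mul_le_mul_right _ hcon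
  have h6 : (f + 2) * ((f + 2 + d + (m + 2)) * (f + d + m + 3)) =
      (f + d + m + 3) * ((f + 2 + d) * (f + 2)) + (m + 2) * (d + m + 2) +
        (m + 2) * (f + 2 + d + (m + 2)) * (f + 1) := by ring
  have h7 : 0 < (m + 2) * (f + 2 + d + (m + 2)) * (f + 1) := by positivity
  omega

theorem arith2 (n k fa : ℕ) (hn : 5 ≤ n) (ha : fa + 2 ≤ n)
    (hE : k * (n * (n - 1)) = (n - 1) * (fa * 1) + (n - fa) * (n - 1)) : k = 1 := by
  have h1 : (n - 1) * (fa * 1) + (n - fa) * (n - 1) = 1 * (n * (n - 1)) := by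
    obtain ⟨m, rfl⟩ : ∃ m, n = fa + m := ⟨n - fa, by omega⟩
    rw [Nat.add_sub_cancel_left]
    ring
  rw [h1] at hE
  have hpos : 0 < n * (n - 1) := Nat.mul_pos (by omega) (by omega)
  exact Nat.eq_of_mul_eq_mul_right hpos hE

theorem arith3 (n k fa : ℕ) (hn : 5 ≤ n) (ha : fa + 2 ≤ n)
    (hE : k * (n * (n - 1)) = (n - 1) * (fa * 0) + (n - fa) * (n - 0)) : k = 1 ∧ fa = 1 := by
  have h1 : (k * (n - 1)) * n = (n - fa) * n := by
    rw [mul_zero, mul_zero, zero_add, Nat.sub_zero] at hE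
    rw [← hE]; ring
  have h2 : k * (n - 1) = n - fa := Nat.eq_of_mul_eq_mul_right (by omega) h1
  have hk1 : k = 1 := by
    rcases Nat.lt_or_ge k 2 with h | h
    · interval_cases k
      · omega
      · rfl
    · have : 2 * (n - 1) ≤ k * (n - 1) := Nat.mul_le_mul_right _ h
      omega
  subst hk1
  exact ⟨rfl, by omega⟩

end Cfsg.Agent.Lib.H98FixAr
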