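import Cfsg.Agent.Lib.Helper98FixDefs


/-! PROJECT 2271 (fixed points on products of classes), PIECE Tr. -/

namespace Cfsg.Agent.Lib.H98FixTr

open Cfsg.Agent.Lib.Helper98FixDefs Equiv Finset

/-- `S_n` is `k`-transitive. -/
theorem exists_perm (n k : ℕ) (e e' : Fin k → Fin n) (he : Function.Injective e) (he' : Function.Injective e') :
    ∃ h : Perm (Fin n), ∀ i, h (e i) = e' i :=
  Equiv.Perm.exists_extending_pair e e' he he'

theorem mem_AF' {n : ℕ} {h : Perm (Fin n)} : h ∈ AF n ↔ Perm.sign h = 1 := by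
  simp [AF]

/-- `A_n` is `(n-2)`-transitive. -/
theorem exists_even (n k : ℕ) (hk : k + 2 ≤ n) (e e' : Fin k → Fin n) (he : Function.Injective e) (he' : Function.Injective e') :
    ∃ h ∈ AF n, ∀ i, h (e i) = e' i := by
  obtain ⟨h, hh⟩ := exists_perm n k e e' he he'
  rcases Int.units_eq_one_or (Perm.sign h) with hs | hs
  · exact ⟨h, mem_AF'.2 hs, hh⟩
  · have hcard : 1 < (univ \ (univ.image e') : Finset (Fin n)).card := by
      rw [Finset.card_sdiff_of_subset (Finset.subset_univ _), Finset.card_univ, Fintype.card_fin,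
        Finset.card_image_of_injective _ he', Finset.card_univ, Fintype.card_fin]
      omega
    obtain ⟨y, hy, y', hy', hyy⟩ := Finset.one_lt_card.1 hcard
    simp only [mem_sdiff, mem_univ, true_and, mem_image, not_exists] at hy hy'
    refine ⟨swap y y' * h, mem_AF'.2 ?_, ?_⟩
    · rw [Perm.sign_mul, Perm.sign_swap hyy, hs]
      rfl
    · intro i
      rw [Perm.mul_apply, hh i]
      exact swap_apply_of_ne_of_ne (hy i) (hy' i)

end Cfsg.Agent.Lib.H98FixTr
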