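import Cfsg.Agent.Lib.Helper98FixDefs
import Cfsg.Agent.Lib.H98FixTr

/-! PROJECT 2271 (fixed points on products of classes), PIECE Cnt. -/

namespace Cfsg.Agent.Lib.H98FixCnt

open Cfsg.Agent.Lib.Helper98FixDefs Equiv Finset

open Cfsg.Agent.Lib.H98FixTr

theorem mul_mem_AF {n : ℕ} {g h : Perm (Fin n)} (hg : g ∈ AF n) (hh : h ∈ AF n) : g * h ∈ AF n := by
  rw [mem_AF'] at *
  rw [Perm.sign_mul, hg, hh, one_mul]

theorem le1 (n : ℕ) (hn : 3 ≤ n) (u x x' : Fin n) :
    ((AF n).filter fun h => h u = x).card ≤ ((AF n).filter fun h => h u = x').card := by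
  obtain ⟨g, hg, hgx⟩ := exists_even n 1 (by omega) (fun _ => x) (fun _ => x')
    (Function.injective_of_subsingleton _) (Function.injective_of_subsingleton _)
  have hgx' : g x = x' := hgx 0
  apply Finset.card_le_card_of_injOn (fun h => g * h)
  · intro h hh
    simp only [coe_filter, Set.mem_ofPred_eq] at hh ⊢
    exact ⟨mul_mem_AF hg hh.1, by rw [Perm.mul_apply, hh.2, hgx']⟩
  · intro h _ h' _ heq
    exact mul_left_cancel heq

theorem count1 (n : ℕ) (hn : 3 ≤ n) (u x : Fin n) :
    ((AF n).filter fun h => h u = x).card * n = (AF n).card := by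
  have hmaps : ((AF n : Finset (Perm (Fin n))) : Set (Perm (Fin n))).MapsTo (fun h => h u)
      (univ : Finset (Fin n)) := by
    intro h _
    simp
  rw [Finset.card_eq_sum_card_fiberwise hmaps]
  have hterm : ∀ y ∈ (univ : Finset (Fin n)), ((AF n).filter fun h => h u = y).card
      = ((AF n).filter fun h => h u = x).card :=
    fun y _ => le_antisymm (le1 n hn u y x) (le1 n hn u x y)
  rw [Finset.sum_congr rfl hterm, Finset.sum_const, smul_eq_mul, Finset.card_univ, Fintype.card_fin,
    mul_comm]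

theorem inj2 {n : ℕ} {x y : Fin n} (hxy : x ≠ y) : Function.Injective ![x, y] := by
  intro i j hij
  fin_cases i <;> fin_cases j <;> simp_all

theorem le2 (n : ℕ) (hn : 4 ≤ n) (u v x y x' y' : Fin n) (hxy : x ≠ y) (hxy' : x' ≠ y') :
    ((AF n).filter fun h => h u = x ∧ h v = y).card ≤
      ((AF n).filter fun h => h u = x' ∧ h v = y').card := by
  obtain ⟨g, hg, hgx⟩ := exists_even n 2 (by omega) ![x, y] ![x', y'] (inj2 hxy) (inj2 hxy')
  have hgx' : g x = x' := hgx 0
  have hgy' : g y = y' := hgx 1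
  apply Finset.card_le_card_of_injOn (fun h => g * h)
  · intro h hh
    simp only [coe_filter, Set.mem_ofPred_eq] at hh ⊢
    exact ⟨mul_mem_AF hg hh.1, by rw [Perm.mul_apply, hh.2.1, hgx'],
      by rw [Perm.mul_apply, hh.2.2, hgy']⟩
  · intro h _ h' _ heq
    exact mul_left_cancel heq

theorem count2 (n : ℕ) (hn : 4 ≤ n) (u v x y : Fin n) (huv : u ≠ v) (hxy : x ≠ y) :
    ((AF n).filter fun h => h u = x ∧ h v = y).card * (n * (n - 1)) = (AF n).card := by
  have hmaps : ((AF n : Finset (Perm (Fin n))) : Set (Perm (Fin n))).MapsTo (fun h => (h u, h v))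
      ((univ : Finset (Fin n)).offDiag) := by
    intro h _
    simp only [coe_offDiag, Set.mem_offDiag, coe_univ, Set.mem_univ, true_and]
    exact fun hh => huv (h.injective hh)
  rw [Finset.card_eq_sum_card_fiberwise hmaps]
  have hterm : ∀ q ∈ ((univ : Finset (Fin n)).offDiag), ((AF n).filter fun h => (h u, h v) = q).card
      = ((AF n).filter fun h => h u = x ∧ h v = y).card := by
    rintro ⟨x', y'⟩ hq
    simp only [mem_offDiag, mem_univ, true_and] at hq
    simp only [Prod.mk.injEq]
    exact le_antisymm (le2 n hn u v x' y' x y hq hxy) (le2 n hn u v x y x' y' hxy hq)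
  rw [Finset.sum_congr rfl hterm, Finset.sum_const, smul_eq_mul, Finset.offDiag_card,
    Finset.card_univ, Fintype.card_fin, mul_comm, Nat.mul_sub, mul_one]

end Cfsg.Agent.Lib.H98FixCnt
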