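import Cfsg.Agent.Lib.Helper98FixDefs
import Cfsg.Agent.Lib.H98FixCnt

/-! PROJECT 2271 (fixed points on products of classes), PIECE Avg. -/

namespace Cfsg.Agent.Lib.H98FixAvg

open Cfsg.Agent.Lib.Helper98FixDefs Equiv Finset

open Cfsg.Agent.Lib.H98FixCnt

theorem ais {n : ℕ} (h : Perm (Fin n)) (x : Fin n) : h (h⁻¹ x) = x := h.apply_symm_apply x

theorem ias {n : ℕ} (h : Perm (Fin n)) (x : Fin n) : h⁻¹ (h x) = x := h.symm_apply_apply x

/-- reindexing `x = h u`:  `fx (a * (h * b * h⁻¹)) = #{u | h (b u) = a⁻¹ (h u)}`. -/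
theorem fx_eq {n : ℕ} (a b h : Perm (Fin n)) :
    fx (a * (h * b * h⁻¹)) = (univ.filter fun u => h (b u) = a⁻¹ (h u)).card := by
  unfold fx
  symm
  apply Finset.card_bij (fun u _ => h u)
  · intro u hu
    simp only [mem_filter, mem_univ, true_and] at hu ⊢
    simp only [Perm.mul_apply, ias]
    rw [hu, ais]
  · intro u _ v _ huv
    exact h.injective huv
  · intro x hx
    refine ⟨h⁻¹ x, ?_, ais h x⟩
    have hx' : (a * (h * b * h⁻¹)) x = x := (mem_filter.1 hx).2
    simp only [Perm.mul_apply] at hx'
    simp only [mem_filter, mem_univ, true_and]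
    rw [ais, Perm.eq_inv_iff_eq]
    exact hx'

theorem card_not_fix {n : ℕ} (c : Perm (Fin n)) :
    (univ.filter fun x => ¬ c x = x).card = n - fx c := by
  have h := Finset.card_filter_add_card_filter_not (s := (univ : Finset (Fin n))) (fun x => c x = x)
  rw [Finset.card_univ, Fintype.card_fin] at h
  unfold fx
  omega

theorem count_u (n : ℕ) (hn : 4 ≤ n) (a b : Perm (Fin n)) (u : Fin n) :
    ((AF n).filter fun h => h (b u) = a⁻¹ (h u)).card * (n * (n - 1)) =
      (AF n).card * (if b u = u then (n - 1) * fx a else n - fx a) := by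
  by_cases hbu : b u = u
  · rw [if_pos hbu, hbu]
    have hmaps : (((AF n).filter fun h => h u = a⁻¹ (h u) : Finset (Perm (Fin n))) :
        Set (Perm (Fin n))).MapsTo (fun h => h u) (univ.filter fun x => a x = x : Finset (Fin n)) := by
      intro h hh
      simp only [coe_filter, Set.mem_ofPred_eq, mem_univ, true_and] at hh ⊢
      have := hh.2
      rw [Perm.eq_inv_iff_eq] at this
      exact this
    rw [Finset.card_eq_sum_card_fiberwise hmaps]
    have hterm : ∀ x ∈ (univ.filter fun x => a x = x : Finset (Fin n)),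
        (((AF n).filter fun h => h u = a⁻¹ (h u)).filter fun h => h u = x).card * n = (AF n).card := by
      intro x hx
      simp only [mem_filter, mem_univ, true_and] at hx
      rw [← count1 n (by omega) u x]
      congr 2
      ext h
      simp only [mem_filter]
      constructor
      · rintro ⟨⟨h1, -⟩, h3⟩
        exact ⟨h1, h3⟩
      · rintro ⟨h1, h3⟩
        refine ⟨⟨h1, ?_⟩, h3⟩
        rw [h3, Perm.eq_inv_iff_eq]
        exact hx
    have : (∑ x ∈ (univ.filter fun x => a x = x : Finset (Fin n)),
        (((AF n).filter fun h => h u = a⁻¹ (h u)).filter fun h => h u = x).card) * n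
        = fx a * (AF n).card := by
      rw [Finset.sum_mul, Finset.sum_congr rfl hterm, Finset.sum_const, smul_eq_mul]
      rfl
    calc _ = ((∑ x ∈ (univ.filter fun x => a x = x : Finset (Fin n)),
        (((AF n).filter fun h => h u = a⁻¹ (h u)).filter fun h => h u = x).card) * n) * (n - 1) := by
          ring
      _ = _ := by rw [this]; ring
  · rw [if_neg hbu]
    have hmaps : (((AF n).filter fun h => h (b u) = a⁻¹ (h u) : Finset (Perm (Fin n))) :
        Set (Perm (Fin n))).MapsTo (fun h => h u) (univ.filter fun x => ¬ a x = x : Finset (Fin n)) := by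
      intro h hh
      simp only [coe_filter, Set.mem_ofPred_eq, mem_univ, true_and] at hh ⊢
      intro hfix
      have h1 := hh.2
      have h2 : a⁻¹ (h u) = h u := by rw [Perm.inv_eq_iff_eq, hfix]
      rw [h2] at h1
      exact hbu (h.injective h1)
    rw [Finset.card_eq_sum_card_fiberwise hmaps]
    have hterm : ∀ x ∈ (univ.filter fun x => ¬ a x = x : Finset (Fin n)),
        (((AF n).filter fun h => h (b u) = a⁻¹ (h u)).filter fun h => h u = x).card * (n * (n - 1))
          = (AF n).card := by
      intro x hx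
      simp only [mem_filter, mem_univ, true_and] at hx
      have hx' : x ≠ a⁻¹ x := by
        intro h
        apply hx
        rw [Perm.eq_inv_iff_eq] at h
        exact h
      rw [← count2 n hn u (b u) x (a⁻¹ x) (Ne.symm hbu) hx']
      congr 2
      ext h
      simp only [mem_filter]
      constructor
      · rintro ⟨⟨h1, h2⟩, h3⟩
        exact ⟨h1, h3, by rw [h2, h3]⟩
      · rintro ⟨h1, h3, h2⟩
        exact ⟨⟨h1, by rw [h2, h3]⟩, h3⟩
    rw [Finset.sum_mul, Finset.sum_congr rfl hterm, Finset.sum_const, smul_eq_mul, card_not_fix]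
    ring

theorem avg (n : ℕ) (hn : 4 ≤ n) (a b : Perm (Fin n)) :
    (∑ h ∈ AF n, fx (a * (h * b * h⁻¹))) * (n * (n - 1)) =
      (AF n).card * ((n - 1) * (fx a * fx b) + (n - fx a) * (n - fx b)) := by
  have h1 : (∑ h ∈ AF n, fx (a * (h * b * h⁻¹))) =
      ∑ u : Fin n, ((AF n).filter fun h => h (b u) = a⁻¹ (h u)).card := by
    simp only [fx_eq, Finset.card_filter]
    rw [Finset.sum_comm]
  rw [h1, Finset.sum_mul, Finset.sum_congr rfl (fun u _ => count_u n hn a b u), ← Finset.mul_sum,
    Finset.sum_ite, Finset.sum_const, Finset.sum_const, smul_eq_mul, smul_eq_mul, card_not_fix]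
  have : (univ.filter fun x => b x = x).card = fx b := rfl
  rw [this]
  ring

end Cfsg.Agent.Lib.H98FixAvg
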