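import Cfsg.Agent.Lib.Helper98FixDefs


/-! PROJECT 2271 (fixed points on products of classes), PIECE Bas. -/

namespace Cfsg.Agent.Lib.H98FixBas

open Cfsg.Agent.Lib.Helper98FixDefs Equiv Finset

theorem ais {n : ℕ} (h : Perm (Fin n)) (x : Fin n) : h (h⁻¹ x) = x := h.apply_symm_apply x

theorem ias {n : ℕ} (h : Perm (Fin n)) (x : Fin n) : h⁻¹ (h x) = x := h.symm_apply_apply x

theorem card_not_fix {n : ℕ} (c : Perm (Fin n)) :
    (univ.filter fun x => ¬ c x = x).card + fx c = n := by
  have h := Finset.card_filter_add_card_filter_not (s := (univ : Finset (Fin n))) (fun x => c x = x)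
  rw [Finset.card_univ, Fintype.card_fin] at h
  unfold fx
  omega

/-- a non-identity permutation moves at least two points (`x` and `a x`). -/
theorem fx_add_two_le {n : ℕ} {a : Perm (Fin n)} (ha : a ≠ 1) : fx a + 2 ≤ n := by
  obtain ⟨x, hx⟩ : ∃ x, a x ≠ x := by
    by_contra hcon
    push_neg at hcon
    exact ha (Equiv.ext hcon)
  have h1 : 1 < (univ.filter fun x => ¬ a x = x).card := by
    rw [Finset.one_lt_card]
    refine ⟨x, by simpa using hx, a x, ?_, hx.symm⟩
    simp only [mem_filter, mem_univ, true_and]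
    intro h
    exact hx (a.injective h)
  have := card_not_fix a
  omega

theorem fx_conj {n : ℕ} (σ g : Perm (Fin n)) : fx (g * σ * g⁻¹) = fx σ := by
  unfold fx
  symm
  apply Finset.card_bij (fun u _ => g u)
  · intro u hu
    simp only [mem_filter, mem_univ, true_and] at hu ⊢
    simp only [Perm.mul_apply, ias]
    rw [hu]
  · intro u _ v _ huv
    exact g.injective huv
  · intro x hx
    refine ⟨g⁻¹ x, ?_, ais g x⟩
    have hx' : (g * σ * g⁻¹) x = x := (mem_filter.1 hx).2
    simp only [Perm.mul_apply] at hx'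
    simp only [mem_filter, mem_univ, true_and]
    apply g.injective
    rw [hx', ais]

/-- the symmetry between `a` and `b`. -/
theorem fx_symm {n : ℕ} (a b h : Perm (Fin n)) :
    fx (a * (h * b * h⁻¹)) = fx (b * (h⁻¹ * a * h⁻¹⁻¹)) := by
  have h1 : b * (h⁻¹ * a * h⁻¹⁻¹) = (b * h⁻¹) * (a * (h * b * h⁻¹)) * (b * h⁻¹)⁻¹ := by group
  rw [h1, fx_conj]

/-- two different fixed points. -/
theorem two_le_fx {n : ℕ} {σ : Perm (Fin n)} {x y : Fin n} (hxy : x ≠ y) (hx : σ x = x) (hy : σ y = y) : 2 ≤ fx σ := by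
  have : 1 < fx σ := by
    unfold fx
    rw [Finset.one_lt_card]
    exact ⟨x, by simpa using hx, y, by simpa using hy, hxy⟩
  omega

theorem natCard_fixedPoints {n : ℕ} (σ : Perm (Fin n)) : Nat.card (Function.fixedPoints ⇑σ) = fx σ := by
  unfold fx
  rw [Nat.card_eq_fintype_card, ← Fintype.card_subtype]
  rfl

end Cfsg.Agent.Lib.H98FixBas
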