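import Cfsg.Agent.Lib.Helper98FixDefs
import Cfsg.Agent.Lib.H98FixTr
import Cfsg.Agent.Lib.H98FixBas

/-! PROJECT 2271 (fixed points on products of classes), PIECE C1. -/

namespace Cfsg.Agent.Lib.H98FixC1

open Cfsg.Agent.Lib.Helper98FixDefs Equiv Finset

open Cfsg.Agent.Lib.H98FixTr Cfsg.Agent.Lib.H98FixBas

theorem key {n : ℕ} (a b h : Perm (Fin n)) (hS : ∀ s, b s = s → a (h s) = h s) :
    fx b ≤ fx (a * (h * b * h⁻¹)) := by
  unfold fx
  apply Finset.card_le_card_of_injOn (fun s => h s)
  · intro s hs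
    simp only [coe_filter, mem_univ, true_and, Set.mem_ofPred_eq] at hs ⊢
    simp only [Perm.mul_apply, ias]
    rw [hs, hS s hs]
  · intro s _ s' _ heq
    exact h.injective heq

/-- CONFIGURATION 1: put the fixed points of `b` inside the fixed points of `a`. -/
theorem conf1 (n : ℕ) (a b : Perm (Fin n)) (h2 : 2 ≤ fx b) (hle : fx b ≤ fx a) :
    ∃ h ∈ AF n, fx b ≤ fx (a * (h * b * h⁻¹)) := by
  obtain ⟨T', hT', hcT'⟩ := Finset.exists_subset_card_eq (s := univ.filter fun x => a x = x) hle
  let eS := (univ.filter fun x => b x = x).equivFinOfCardEq (n := fx b) rfl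
  let eT := T'.equivFinOfCardEq hcT'
  obtain ⟨h, hh⟩ := exists_perm n (fx b) (fun i => (eS.symm i : Fin n)) (fun i => (eT.symm i : Fin n))
    (fun i j hij => eS.symm.injective (Subtype.ext hij))
    (fun i j hij => eT.symm.injective (Subtype.ext hij))
  have hS : ∀ s, b s = s → a (h s) = h s := by
    intro s hs
    have hs' : s ∈ univ.filter fun x => b x = x := by simpa using hs
    have h1 := hh (eS ⟨s, hs'⟩)
    simp only [Equiv.symm_apply_apply] at h1
    rw [h1]
    have h3 := hT' (eT.symm (eS ⟨s, hs'⟩)).2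
    exact (mem_filter.1 h3).2
  rcases Int.units_eq_one_or (Perm.sign h) with hs | hs
  · exact ⟨h, mem_AF'.2 hs, key a b h hS⟩
  · have hcard : 1 < (univ.filter fun x => a x = x).card := by
      have : (univ.filter fun x => a x = x).card = fx a := rfl
      omega
    obtain ⟨t, ht, t', ht', htt⟩ := Finset.one_lt_card.1 hcard
    simp only [mem_filter, mem_univ, true_and] at ht ht'
    refine ⟨swap t t' * h, mem_AF'.2 ?_, key a b _ ?_⟩
    · rw [Perm.sign_mul, Perm.sign_swap htt, hs]
      rfl
    · intro s hs'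
      rw [Perm.mul_apply, swap_apply_def]
      split_ifs
      · exact ht'
      · exact ht
      · exact hS s hs'

end Cfsg.Agent.Lib.H98FixC1
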