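import Cfsg.Agent.Lib.Helper98FixDefs
import Cfsg.Agent.Lib.H98FixTr
import Cfsg.Agent.Lib.H98FixBas

/-! PROJECT 2271 (fixed points on products of classes), PIECE C2. -/

namespace Cfsg.Agent.Lib.H98FixC2

open Cfsg.Agent.Lib.Helper98FixDefs Equiv Finset

open Cfsg.Agent.Lib.H98FixTr Cfsg.Agent.Lib.H98FixBas

/-- GENERAL PRINCIPLE: if `h u = x` and `h (b u) = a⁻¹ x` then `x` is a fixed point of `a * (h * b * h⁻¹)`. -/
theorem fixed_of {n : ℕ} {a b h : Perm (Fin n)} {u x : Fin n} (h1 : h u = x) (h2 : h (b u) = a⁻¹ x) :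
    (a * (h * b * h⁻¹)) x = x := by
  simp only [Perm.mul_apply]
  rw [← h1, ias, h2, ← h1, ais]

theorem inj2 {n : ℕ} {x y : Fin n} (hxy : x ≠ y) : Function.Injective ![x, y] := by
  intro i j hij
  fin_cases i <;> fin_cases j <;> simp_all

theorem inj3 {n : ℕ} {x y z : Fin n} (hxy : x ≠ y) (hxz : x ≠ z) (hyz : y ≠ z) :
    Function.Injective ![x, y, z] := by
  intro i j hij
  fin_cases i <;> fin_cases j <;> simp_all

theorem exists_moved {n : ℕ} {a : Perm (Fin n)} (ha : a ≠ 1) : ∃ x, a x ≠ x := by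
  by_contra hcon
  push_neg at hcon
  exact ha (Equiv.ext hcon)

theorem exists_fixed {n : ℕ} {a : Perm (Fin n)} (h1 : 1 ≤ fx a) : ∃ x, a x = x := by
  have : 0 < (univ.filter fun x => a x = x).card := h1
  obtain ⟨x, hx⟩ := Finset.card_pos.1 this
  exact ⟨x, (mem_filter.1 hx).2⟩

/-- CONFIGURATION 2: a common fixed point and one more agreement. -/
theorem conf2 (n : ℕ) (hn : 5 ≤ n) (a b : Perm (Fin n)) (ha : a ≠ 1) (hb : b ≠ 1) (h1 : 1 ≤ fx a) (h2 : 1 ≤ fx b) :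
    ∃ h ∈ AF n, 2 ≤ fx (a * (h * b * h⁻¹)) := by
  obtain ⟨p₀, hp₀⟩ := exists_fixed h1
  obtain ⟨u₀, hu₀⟩ := exists_fixed h2
  obtain ⟨x, hx⟩ := exists_moved ha
  obtain ⟨u, hu⟩ := exists_moved hb
  have hp₀' : a⁻¹ p₀ = p₀ := by rw [Perm.inv_eq_iff_eq, hp₀]
  have e1 : p₀ ≠ x := by rintro rfl; exact hx hp₀
  have e2 : p₀ ≠ a⁻¹ x := by
    intro h
    rw [Perm.eq_inv_iff_eq, hp₀] at h
    exact e1 h
  have e3 : x ≠ a⁻¹ x := by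
    intro h
    rw [Perm.eq_inv_iff_eq] at h
    exact hx h
  have f1 : u₀ ≠ u := by rintro rfl; exact hu hu₀
  have f2 : u₀ ≠ b u := by
    intro h
    rw [← hu₀] at h
    exact f1 (b.injective h)
  obtain ⟨h, hh, hhe⟩ := exists_even n 3 (by omega) ![u₀, u, b u] ![p₀, x, a⁻¹ x]
    (inj3 f1 f2 (Ne.symm hu)) (inj3 e1 e2 e3)
  have g0 : h u₀ = p₀ := hhe 0
  have g1 : h u = x := hhe 1
  have g2 : h (b u) = a⁻¹ x := hhe 2
  exact ⟨h, hh, two_le_fx e1 (fixed_of g0 (by rw [hu₀, g0, hp₀'])) (fixed_of g1 g2)⟩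

/-- CONFIGURATION 4α. -/
theorem conf4a (n : ℕ) (hn : 5 ≤ n) (a b : Perm (Fin n)) (u x : Fin n) (hu : b u ≠ u) (hu2 : b (b u) ≠ u)
    (hx : a⁻¹ x ≠ x) (hx2 : a⁻¹ (a⁻¹ x) ≠ x) : ∃ h ∈ AF n, 2 ≤ fx (a * (h * b * h⁻¹)) := by
  obtain ⟨h, hh, hhe⟩ := exists_even n 3 (by omega) ![u, b u, b (b u)] ![x, a⁻¹ x, a⁻¹ (a⁻¹ x)]
    (inj3 (Ne.symm hu) (Ne.symm hu2) (fun h => hu (b.injective h).symm))
    (inj3 (Ne.symm hx) (Ne.symm hx2) (fun h => hx ((a⁻¹).injective h).symm))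
  have g0 : h u = x := hhe 0
  have g1 : h (b u) = a⁻¹ x := hhe 1
  have g2 : h (b (b u)) = a⁻¹ (a⁻¹ x) := hhe 2
  exact ⟨h, hh, two_le_fx (Ne.symm hx) (fixed_of g0 g1) (fixed_of g1 g2)⟩

/-- CONFIGURATION 4β: both have a 2-cycle. -/
theorem conf4b (n : ℕ) (hn : 5 ≤ n) (a b : Perm (Fin n)) (u x : Fin n) (hu : b u ≠ u) (hu2 : b (b u) = u)
    (hx : a⁻¹ x ≠ x) (hx2 : a⁻¹ (a⁻¹ x) = x) : ∃ h ∈ AF n, 2 ≤ fx (a * (h * b * h⁻¹)) := by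
  obtain ⟨h, hh, hhe⟩ := exists_even n 2 (by omega) ![u, b u] ![x, a⁻¹ x]
    (inj2 (Ne.symm hu)) (inj2 (Ne.symm hx))
  have g0 : h u = x := hhe 0
  have g1 : h (b u) = a⁻¹ x := hhe 1
  exact ⟨h, hh, two_le_fx (Ne.symm hx) (fixed_of g0 g1) (fixed_of g1 (by rw [hu2, g0, hx2]))⟩

end Cfsg.Agent.Lib.H98FixC2
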