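import Cfsg.Agent.Lib.Helper98FixDefs
import Cfsg.Agent.Lib.H98FixC2

/-! PROJECT 2271 (fixed points on products of classes), PIECE C3. -/

namespace Cfsg.Agent.Lib.H98FixC3

open Cfsg.Agent.Lib.Helper98FixDefs Equiv Finset

open Cfsg.Agent.Lib.H98FixTr Cfsg.Agent.Lib.H98FixBas Cfsg.Agent.Lib.H98FixC2

theorem exists_moved_not_mem {n : ℕ} (c : Perm (Fin n)) (h4 : fx c + 4 ≤ n) (s : Finset (Fin n))
    (hs : s.card ≤ 3) : ∃ x, c x ≠ x ∧ x ∉ s := by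
  have h1 := card_not_fix c
  have h2 : s.card < (univ.filter fun x => ¬ c x = x).card := by omega
  obtain ⟨x, hx, hxs⟩ := Finset.exists_mem_notMem_of_card_lt_card h2
  exact ⟨x, (mem_filter.1 hx).2, hxs⟩

/-- two disjoint arcs of a permutation `c` without 2-cycles which moves at least 4 points. -/
theorem two_arcs {n : ℕ} (c : Perm (Fin n)) (h2 : ∀ x, c x ≠ x → c (c x) ≠ x) (h4 : fx c + 4 ≤ n) :
    ∃ x x' : Fin n, c x ≠ x ∧ c x' ≠ x' ∧ x ≠ x' ∧ x ≠ c x' ∧ c x ≠ x' ∧ c x ≠ c x' := by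
  obtain ⟨x, hx, -⟩ := exists_moved_not_mem c h4 ∅ (by simp)
  have hzx : c (c x) ≠ x := h2 x hx
  have hzy : c (c x) ≠ c x := fun h => hx (c.injective h)
  by_cases hcz : c (c (c x)) = x
  · obtain ⟨x', hx', hx's⟩ := exists_moved_not_mem c h4 {x, c x, c (c x)} Finset.card_le_three
    simp only [mem_insert, mem_singleton, not_or] at hx's
    obtain ⟨e1, e2, e3⟩ := hx's
    refine ⟨x, x', hx, hx', Ne.symm e1, ?_, Ne.symm e2, fun h => e1 (c.injective h).symm⟩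
    intro h
    rw [← hcz] at h
    exact e3 (c.injective h).symm
  · refine ⟨x, c (c x), hx, fun h => hzy (c.injective h), Ne.symm hzx, Ne.symm hcz, Ne.symm hzy,
      fun h => hzx (c.injective h).symm⟩

/-- two disjoint 2-cycles of an involution moving at least 4 points. -/
theorem two_swaps {n : ℕ} (c : Perm (Fin n)) (h2 : ∀ x, c (c x) = x) (h4 : fx c + 4 ≤ n) :
    ∃ x x' : Fin n, c x ≠ x ∧ c x' ≠ x' ∧ x ≠ x' ∧ x ≠ c x' ∧ c x ≠ x' ∧ c x ≠ c x' := by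
  obtain ⟨x, hx, -⟩ := exists_moved_not_mem c h4 ∅ (by simp)
  obtain ⟨x', hx', hx's⟩ := exists_moved_not_mem c h4 {x, c x}
    (Finset.card_le_two.trans (by norm_num))
  simp only [mem_insert, mem_singleton, not_or] at hx's
  obtain ⟨e1, e2⟩ := hx's
  refine ⟨x, x', hx, hx', Ne.symm e1, ?_, Ne.symm e2, fun h => e1 (c.injective h).symm⟩
  intro h
  apply e2
  rw [h, h2]

theorem inj4 {n : ℕ} {w x y z : Fin n} (h1 : w ≠ x) (h2 : w ≠ y) (h3 : w ≠ z) (h4 : x ≠ y)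
    (h5 : x ≠ z) (h6 : y ≠ z) : Function.Injective ![w, x, y, z] := by
  intro i j hij
  fin_cases i <;> fin_cases j <;> simp_all

/-- CONFIGURATION 4γδ. -/
theorem conf4cd (n : ℕ) (a b : Perm (Fin n)) (u u' x x' : Fin n)
    (hb : b u ≠ u ∧ b u' ≠ u' ∧ u ≠ u' ∧ u ≠ b u' ∧ b u ≠ u' ∧ b u ≠ b u')
    (ha : a⁻¹ x ≠ x ∧ a⁻¹ x' ≠ x' ∧ x ≠ x' ∧ x ≠ a⁻¹ x' ∧ a⁻¹ x ≠ x' ∧ a⁻¹ x ≠ a⁻¹ x')
    (σ : Perm (Fin n)) (hσ : Perm.sign σ = -1) (hc : σ * b = b * σ ∨ σ * a = a * σ) :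
    ∃ h ∈ AF n, 2 ≤ fx (a * (h * b * h⁻¹)) := by
  obtain ⟨b1, b2, b3, b4, b5, b6⟩ := hb
  obtain ⟨a1, a2, a3, a4, a5, a6⟩ := ha
  obtain ⟨h, hhe⟩ := exists_perm n 4 ![u, b u, u', b u'] ![x, a⁻¹ x, x', a⁻¹ x']
    (inj4 (Ne.symm b1) b3 b4 b5 b6 (Ne.symm b2)) (inj4 (Ne.symm a1) a3 a4 a5 a6 (Ne.symm a2))
  have g0 : h u = x := hhe 0
  have g1 : h (b u) = a⁻¹ x := hhe 1
  have g2 : h u' = x' := hhe 2
  have g3 : h (b u') = a⁻¹ x' := hhe 3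
  have hfx : 2 ≤ fx (a * (h * b * h⁻¹)) := two_le_fx a3 (fixed_of g0 g1) (fixed_of g2 g3)
  rcases Int.units_eq_one_or (Perm.sign h) with hs | hs
  · exact ⟨h, mem_AF'.2 hs, hfx⟩
  · rcases hc with hc | hc
    · refine ⟨h * σ, mem_AF'.2 ?_, ?_⟩
      · rw [Perm.sign_mul, hs, hσ]; rfl
      · have : h * σ * b * (h * σ)⁻¹ = h * b * h⁻¹ := by
          calc h * σ * b * (h * σ)⁻¹ = h * (σ * b) * σ⁻¹ * h⁻¹ := by group
            _ = h * (b * σ) * σ⁻¹ * h⁻¹ := by rw [hc]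
            _ = _ := by group
        rw [this]
        exact hfx
    · refine ⟨σ * h, mem_AF'.2 ?_, ?_⟩
      · rw [Perm.sign_mul, hs, hσ]; rfl
      · have : a * (σ * h * b * (σ * h)⁻¹) = σ * (a * (h * b * h⁻¹)) * σ⁻¹ := by
          calc a * (σ * h * b * (σ * h)⁻¹) = (a * σ) * (h * b * h⁻¹) * σ⁻¹ := by group
            _ = (σ * a) * (h * b * h⁻¹) * σ⁻¹ := by rw [hc]
            _ = _ := by group
        rw [this, fx_conj]
        exact hfx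

end Cfsg.Agent.Lib.H98FixC3
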