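import Cfsg.Agent.Lib.Helper98FixDefs
import Cfsg.Agent.Lib.H98FixC3

/-! PROJECT 2271 (fixed points on products of classes), PIECE C4. -/

namespace Cfsg.Agent.Lib.H98FixC4

open Cfsg.Agent.Lib.Helper98FixDefs Equiv Finset

open Cfsg.Agent.Lib.H98FixTr Cfsg.Agent.Lib.H98FixBas Cfsg.Agent.Lib.H98FixC2 Cfsg.Agent.Lib.H98FixC3

/-- `fx a⁻¹ = fx a`. -/
theorem fx_inv {n : ℕ} (a : Perm (Fin n)) : fx a⁻¹ = fx a := by
  unfold fx
  congr 1
  ext x
  simp only [mem_filter, mem_univ, true_and]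
  rw [Perm.inv_eq_iff_eq]
  exact eq_comm

theorem swap_commutes {n : ℕ} (c : Perm (Fin n)) (x : Fin n) (h : c (c x) = x) :
    swap x (c x) * c = c * swap x (c x) := by
  rw [Equiv.mul_swap_eq_swap_mul, h, swap_comm]

/-- CONFIGURATION 4: `b` has no fixed point, `a` exactly one. -/
theorem conf4 (n : ℕ) (hn : 5 ≤ n) (a b : Perm (Fin n)) (hb0 : fx b = 0) (ha1 : fx a = 1) :
    ∃ h ∈ AF n, 2 ≤ fx (a * (h * b * h⁻¹)) := by
  have hbm : ∀ u, b u ≠ u := by
    intro u hu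
    have : 0 < fx b := Finset.card_pos.2 ⟨u, by simpa using hu⟩
    omega
  have hc1 : fx a⁻¹ = 1 := by rw [fx_inv, ha1]
  by_cases hA : ∃ u, b (b u) ≠ u
  · obtain ⟨u, hu⟩ := hA
    by_cases hB : ∃ x, a⁻¹ x ≠ x ∧ a⁻¹ (a⁻¹ x) ≠ x
    · obtain ⟨x, hx, hx2⟩ := hB
      exact conf4a n hn a b u x (hbm u) hu hx hx2
    · push_neg at hB
      have hinv : ∀ x, a⁻¹ (a⁻¹ x) = x := by
        intro x
        by_cases hx : a⁻¹ x = x
        · rw [hx, hx]
        · exact hB x hx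
      obtain ⟨x, x', hxx⟩ := two_swaps a⁻¹ hinv (by omega)
      by_cases hA' : ∃ u, b (b u) = u
      · obtain ⟨u', hu'⟩ := hA'
        exact conf4b n hn a b u' x (hbm u') hu' hxx.1 (hinv x)
      · push_neg at hA'
        obtain ⟨v, v', hvv⟩ := two_arcs b (fun y _ => hA' y) (by omega)
        refine conf4cd n a b v v' x x' hvv hxx (swap x (a⁻¹ x)) (Perm.sign_swap (Ne.symm hxx.1))
          (Or.inr ?_)
        have h1 := swap_commutes a⁻¹ x (hinv x)
        calc swap x (a⁻¹ x) * a = a * (a⁻¹ * swap x (a⁻¹ x)) * a := by group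
          _ = a * (swap x (a⁻¹ x) * a⁻¹) * a := by rw [h1]
          _ = _ := by group
  · push_neg at hA
    obtain ⟨v, v', hvv⟩ := two_swaps b hA (by omega)
    by_cases hB' : ∃ x, a⁻¹ x ≠ x ∧ a⁻¹ (a⁻¹ x) = x
    · obtain ⟨x, hx, hx2⟩ := hB'
      exact conf4b n hn a b v x (hbm v) (hA v) hx hx2
    · push_neg at hB'
      obtain ⟨x, x', hxx⟩ := two_arcs a⁻¹ hB' (by omega)
      exact conf4cd n a b v v' x x' hvv hxx (swap v (b v)) (Perm.sign_swap (Ne.symm hvv.1))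
        (Or.inl (swap_commutes b v (hA v)))

end Cfsg.Agent.Lib.H98FixC4
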