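import Cfsg.Agent.Lib.H98FixAvg
import Cfsg.Agent.Lib.H98FixBas
import Cfsg.Agent.Lib.H98FixC1
import Cfsg.Agent.Lib.H98FixC2
import Cfsg.Agent.Lib.H98FixC4
import Cfsg.Agent.Lib.H98FixAr

/-! PROJECT 2271: assembly. -/

namespace Cfsg.Agent.Lib.H98FixMain

open Cfsg.Agent.Lib.Helper98FixDefs Equiv Finset
open Cfsg.Agent.Lib.H98FixAvg Cfsg.Agent.Lib.H98FixBas Cfsg.Agent.Lib.H98FixC1 Cfsg.Agent.Lib.H98FixC2
  Cfsg.Agent.Lib.H98FixC4 Cfsg.Agent.Lib.H98FixAr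

theorem AF_card_pos (n : ℕ) : 0 < (AF n).card :=
  Finset.card_pos.2 ⟨1, mem_AF.2 (one_mem _)⟩

/-- the case `fx b ≤ fx a`. -/
theorem core_le (n : ℕ) (hn : 5 ≤ n) (a b : Perm (Fin n)) (ha : a ≠ 1) (hb : b ≠ 1) (hle : fx b ≤ fx a)
    (k : ℕ) (hk : ∀ h ∈ AF n, fx (a * (h * b * h⁻¹)) = k) : False := by
  have h1 := avg n (by omega) a b
  rw [Finset.sum_congr rfl hk, Finset.sum_const, smul_eq_mul, mul_assoc] at h1
  have hE : k * (n * (n - 1)) = (n - 1) * (fx a * fx b) + (n - fx a) * (n - fx b) :=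
    Nat.eq_of_mul_eq_mul_left (AF_card_pos n) h1
  have ha2 := fx_add_two_le ha
  rcases Nat.lt_or_ge (fx b) 2 with h2 | h2
  · rcases Nat.eq_zero_or_pos (fx b) with h0 | h0
    · rw [h0] at hE
      obtain ⟨e1, e2⟩ := arith3 n k (fx a) hn ha2 hE
      obtain ⟨h, hh, h3⟩ := conf4 n hn a b h0 e2
      rw [hk h hh] at h3
      omega
    · have hb1 : fx b = 1 := by omega
      rw [hb1] at hE
      have e1 := arith2 n k (fx a) hn ha2 hE
      obtain ⟨h, hh, h3⟩ := conf2 n hn a b ha hb (by omega) (by omega)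
      rw [hk h hh] at h3
      omega
  · have e1 := arith1 n k (fx a) (fx b) hn ha2 hle h2 hE
    obtain ⟨h, hh, h3⟩ := conf1 n a b h2 hle
    rw [hk h hh] at h3
    omega

theorem core (n : ℕ) (hn : 5 ≤ n) (a b : Perm (Fin n)) (ha : a ≠ 1) (hb : b ≠ 1)
    (k : ℕ) (hk : ∀ h ∈ AF n, fx (a * (h * b * h⁻¹)) = k) : False := by
  rcases le_total (fx b) (fx a) with hle | hle
  · exact core_le n hn a b ha hb hle k hk
  · refine core_le n hn b a hb ha hle k ?_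
    intro h hh
    have h1 : h⁻¹ ∈ AF n := mem_AF.2 (inv_mem (mem_AF.1 hh))
    have h2 := fx_symm a b h⁻¹
    rw [inv_inv] at h2
    rw [← h2]
    have h3 := hk _ h1
    rwa [inv_inv] at h3

end Cfsg.Agent.Lib.H98FixMain
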