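import Cfsg.Agent.Lib.Helper98KulDefs
import Cfsg.Agent.Lib.Helper3Class2

/-! PROJECT 4157, piece CycQ (60m), pure Mathlib. -/
namespace Cfsg.Agent.Lib.H98KulCycQ

open scoped commutatorElement

/-- In a group of order `p³` (abelian if `p = 2`) the `p`-th power map is multiplicative.
Proof.  `Z(Q) ≠ 1` (`IsPGroup.center_nontrivial`); `Q/Z(Q)` has order `≤ p²` so it is abelian (`IsPGroup.commutative_of_card_eq_prime_sq`, prime order: cyclic):
every commutator `c = [y,x]` is central.  If `Q` is not abelian then `|Z(Q)| = p` (`Q/Z` not cyclic: `commutative_of_cyclic_center_quotient`), so `c ^ p = 1`.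
With central commutators `(x y)^n = x^n y^n [y,x]^(n(n-1)/2)` (induction on `n`), and `p ∣ p(p-1)/2` for odd `p`. -/
theorem mul_pow_p {Q : Type*} [Group Q] [Finite Q] {p : ℕ} [Fact p.Prime] (hQ : Nat.card Q = p ^ 3)
    (h2 : p = 2 → ∀ x y : Q, x * y = y * x) (x y : Q) : (x * y) ^ p = x ^ p * y ^ p := by
  have hp : p.Prime := Fact.out
  by_cases hp2 : p = 2
  · exact (Commute.mul_pow (h2 hp2 x y) p)
  have hPG : IsPGroup p Q := IsPGroup.of_card hQ
  have hnt : Nontrivial Q := by
    rw [← Finite.one_lt_card_iff_nontrivial, hQ]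
    exact Nat.one_lt_pow (by norm_num) hp.one_lt
  have hcn : Nontrivial (Subgroup.center Q) := hPG.center_nontrivial
  obtain ⟨k, hk3, hk⟩ := (Nat.dvd_prime_pow hp).1
    (hQ ▸ Subgroup.card_subgroup_dvd_card (Subgroup.center Q))
  have hk1 : k ≠ 0 := by
    rintro rfl
    rw [pow_zero] at hk
    have := Finite.one_lt_card_iff_nontrivial.2 hcn
    omega
  have hquot : Nat.card (Q ⧸ Subgroup.center Q) * p ^ k = p ^ 3 := by
    rw [← hk, ← hQ]
    exact (Subgroup.card_eq_card_quotient_mul_card_subgroup _).symm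
  have hquot' : Nat.card (Q ⧸ Subgroup.center Q) = p ^ (3 - k) := by
    have h3 : p ^ 3 = p ^ (3 - k) * p ^ k := by rw [← pow_add]; congr 1; omega
    rw [h3] at hquot
    exact Nat.eq_of_mul_eq_mul_right (pow_pos hp.pos k) hquot
  have hker : (QuotientGroup.mk' (Subgroup.center Q)).ker ≤ Subgroup.center Q := by
    rw [QuotientGroup.ker_mk']
  have hcases : k = 1 ∨ k = 2 ∨ k = 3 := by omega
  rcases hcases with rfl | rfl | rfl
  · have hcq : ∀ a b : Q ⧸ Subgroup.center Q, a * b = b * a :=
      IsPGroup.commutative_of_card_eq_prime_sq (p := p) hquot'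
    have hc : ⁅y, x⁆ ∈ Subgroup.center Q := by
      rw [← QuotientGroup.eq_one_iff]
      have h5 : ((⁅y, x⁆ : Q) : Q ⧸ Subgroup.center Q)
          = ⁅(QuotientGroup.mk' (Subgroup.center Q) y), (QuotientGroup.mk' (Subgroup.center Q) x)⁆ :=
        map_commutatorElement (QuotientGroup.mk' (Subgroup.center Q)) y x
      rw [h5, commutatorElement_eq_one_iff_mul_comm]
      exact hcq _ _
    have hcp : ⁅y, x⁆ ^ p = 1 := by
      have h6 : (⟨⁅y, x⁆, hc⟩ : Subgroup.center Q) ^ Nat.card (Subgroup.center Q) = 1 :=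
        pow_card_eq_one'
      rw [hk, pow_one] at h6
      have := congrArg Subtype.val h6
      simpa using this
    exact Helper3Class2.mul_pow_prime_class2 hp hp2 x y
      (Helper3Class2.commute_of_mem_center hc x) (Helper3Class2.commute_of_mem_center hc y) hcp
  · have hcyc : IsCyclic (Q ⧸ Subgroup.center Q) :=
      isCyclic_of_prime_card (p := p) (by rw [hquot']; norm_num)
    exact Commute.mul_pow
      (commutative_of_cyclic_center_quotient (QuotientGroup.mk' (Subgroup.center Q)) hker x y) p
  · have hcyc : IsCyclic (Q ⧸ Subgroup.center Q) := by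
      have h1 : Nat.card (Q ⧸ Subgroup.center Q) = 1 := by rw [hquot']; norm_num
      have := (Nat.card_eq_one_iff_unique.1 h1).1
      infer_instance
    exact Commute.mul_pow
      (commutative_of_cyclic_center_quotient (QuotientGroup.mk' (Subgroup.center Q)) hker x y) p

end Cfsg.Agent.Lib.H98KulCycQ
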