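import Cfsg.Agent.Lib.H98KulCycP
import Cfsg.Agent.Lib.H98KulCycQ

/-! PROJECT 4157, piece CycA (90m). -/
namespace Cfsg.Agent.Lib.H98KulCycA
open Subgroup
open scoped commutatorElement

/-- `G` noncyclic of order `p^m`, `m ≥ 3`, not of maximal class if `p = 2`, with a cyclic subgroup `⟨a⟩` of index `p`.
Then there is `M₀` of index `p` with `x^(p^(m-2)) = 1` on `M₀` and all elements outside `M₀` of order `p^(m-1)`.
Proof.  `|a| = p^(m-1)`.  `D := ⟨a^(p²)⟩` (order `p^(m-3)`) is normal (`H98KulCycP.normal_zpowers_pow`; `⟨a⟩` is normal since of index `p` in a `p`-group), `Q := G ⧸ D` has order `p³`, and is abelian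
if `p = 2` (`H98KulCycP.commutator_le`: `G' ≤ ⟨a⁴⟩ = D`).  By `H98KulCycQ.mul_pow_p`, `φ : G →* Q, x ↦ (x D)^p` is a homomorphism.  Its range lies in `E/D`, `E := ⟨a^p⟩` (`H98KulCycP.pow_mem`), a group of order `p`,
and `φ a ≠ 1` (`a^p ∉ D`); so the range has order `p` and `M₀ := ker φ = {x | x^p ∈ D}` has index `p`.
`x ∈ M₀`: `x^p ∈ D` has order dividing `p^(m-3)`.   `x ∉ M₀`: `x^p = a^(p i)` with `p ∤ i`, of order `p^(m-2)`, so `x` has order `p^(m-1)` (`orderOf_pow`-type lemmas: `orderOf x` is a power of `p`,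
`≠ 1`, and `orderOf (x^p) = orderOf x / p`). -/
theorem exists_M0 {G : Type*} [Group G] [Finite G] {p : ℕ} [Fact p.Prime] (m : ℕ) (hm : 3 ≤ m)
    (hG : Nat.card G = p ^ m) (hnc : ¬ IsCyclic G) (h2 : p = 2 → Group.nilpotencyClass G ≠ m - 1)
    (a : G) (ha : (zpowers a).index = p) :
    ∃ M0 : Subgroup G, M0.index = p ∧ (∀ x ∈ M0, x ^ (p ^ (m - 2)) = 1) ∧
      ∀ x : G, x ∉ M0 → orderOf x = p ^ (m - 1) := by
  obtain ⟨k, rfl⟩ : ∃ k, m = k + 3 := ⟨m - 3, by omega⟩
  have hp := (Fact.out : p.Prime)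
  have hPG : IsPGroup p G := IsPGroup.of_card hG
  have hoa : orderOf a = p ^ (k + 2) := by
    have h := (zpowers a).card_mul_index
    rw [Nat.card_zpowers, ha, hG, pow_succ p (k + 2)] at h
    exact Nat.eq_of_mul_eq_mul_right hp.pos h
  have hCn : (zpowers a).Normal := by
    apply Subgroup.normal_of_index_eq_minFac_card
    rw [ha, hG, hp.pow_minFac (by omega)]
  have hDn : (zpowers (a ^ p ^ 2)).Normal := H98KulCycP.normal_zpowers_pow a hCn _
  have hoD : orderOf (a ^ p ^ 2) = p ^ k := by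
    rw [orderOf_pow_of_dvd (pow_ne_zero _ hp.ne_zero)
      (by rw [hoa]; exact pow_dvd_pow p (by omega)), hoa, pow_add,
      Nat.mul_div_cancel _ (pow_pos hp.pos 2)]
  have hoE : orderOf (a ^ p) = p ^ (k + 1) := by
    rw [orderOf_pow_of_dvd hp.ne_zero (by rw [hoa]; exact dvd_pow_self p (by omega)), hoa,
      pow_succ, Nat.mul_div_cancel _ hp.pos]
  have hQ : Nat.card (G ⧸ zpowers (a ^ p ^ 2)) = p ^ 3 := by
    have h := (zpowers (a ^ p ^ 2)).card_mul_index
    rw [Nat.card_zpowers, hoD, hG, pow_add] at h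
    rw [← Subgroup.index_eq_card]
    exact Nat.eq_of_mul_eq_mul_left (pow_pos hp.pos k) h
  have hab : p = 2 → ∀ x y : G ⧸ zpowers (a ^ p ^ 2), x * y = y * x := by
    intro hp2 x y
    have hc := H98KulCycP.commutator_le (k + 3) hm (hp2 ▸ hG) hnc (h2 hp2) a (hp2 ▸ ha)
    have hD4 : zpowers (a ^ p ^ 2) = zpowers (a ^ 4) := by rw [hp2]; norm_num
    induction x using QuotientGroup.induction_on with
    | H x =>
      induction y using QuotientGroup.induction_on with
      | H y =>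
        rw [← QuotientGroup.mk_mul, ← QuotientGroup.mk_mul, QuotientGroup.eq, hD4]
        apply hc
        have e : (x * y)⁻¹ * (y * x) = ⁅y⁻¹, x⁻¹⁆ := by rw [commutatorElement_def]; group
        rw [e, commutator_def]
        exact Subgroup.commutator_mem_commutator (mem_top _) (mem_top _)
  let φ : G →* G ⧸ zpowers (a ^ p ^ 2) := MonoidHom.mk' (fun x => (x : G ⧸ zpowers (a ^ p ^ 2)) ^ p) (by
    intro x y
    rw [QuotientGroup.mk_mul]
    exact H98KulCycQ.mul_pow_p hQ hab _ _)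
  have hφ : ∀ x, φ x = ((x ^ p : G) : G ⧸ zpowers (a ^ p ^ 2)) := fun x => rfl
  have hker : ∀ x, x ∈ φ.ker ↔ x ^ p ∈ zpowers (a ^ p ^ 2) := by
    intro x
    rw [MonoidHom.mem_ker, hφ, QuotientGroup.eq_one_iff]
  have hrange : φ.range = zpowers (φ a) := by
    apply le_antisymm
    · rintro _ ⟨x, rfl⟩
      obtain ⟨i, hi⟩ := mem_zpowers_iff.1 (H98KulCycP.pow_mem hPG hnc a ha x)
      refine mem_zpowers_iff.2 ⟨i, ?_⟩
      rw [hφ, hφ, ← hi, QuotientGroup.mk_zpow]
    · rw [zpowers_le]; exact ⟨a, rfl⟩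
  have haD : a ^ p ∉ zpowers (a ^ p ^ 2) := by
    intro h
    have h3 := orderOf_dvd_of_mem_zpowers h
    rw [hoE, hoD] at h3
    exact absurd ((Nat.pow_dvd_pow_iff_le_right hp.one_lt).1 h3) (by omega)
  have hoφ : orderOf (φ a) = p := by
    apply orderOf_eq_prime
    · rw [hφ, ← QuotientGroup.mk_pow, QuotientGroup.eq_one_iff, ← pow_mul, ← pow_two]
      exact mem_zpowers _
    · rw [hφ, Ne, QuotientGroup.eq_one_iff]; exact haD
  refine ⟨φ.ker, ?_, ?_, ?_⟩
  · rw [Subgroup.index_ker, hrange, Nat.card_zpowers, hoφ]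
  · intro x hx
    rw [hker] at hx
    have h3 := orderOf_dvd_of_mem_zpowers hx
    rw [hoD] at h3
    have h4 := orderOf_dvd_iff_pow_eq_one.1 h3
    show x ^ p ^ (k + 1) = 1
    rw [pow_succ', pow_mul]; exact h4
  · intro x hx
    rw [hker] at hx
    have hxE := H98KulCycP.pow_mem hPG hnc a ha x
    show orderOf x = p ^ (k + 1 + 1)
    apply orderOf_eq_prime_pow
    · intro h
      apply hx
      obtain ⟨i, hi⟩ := mem_zpowers_iff.1 hxE
      have h4 : a ^ ((p : ℤ) * i * (p : ℤ) ^ k) = 1 := by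
        rw [pow_succ', pow_mul, ← hi] at h
        rw [zpow_mul, zpow_mul, zpow_natCast]
        have e : ((p : ℤ) ^ k) = ((p ^ k : ℕ) : ℤ) := by push_cast; rfl
        rw [e, zpow_natCast]
        exact h
      have h5 := (orderOf_dvd_iff_zpow_eq_one).2 h4
      rw [hoa] at h5
      have h6 : (p : ℤ) ∣ i := by
        push_cast at h5
        have e : (p : ℤ) ^ (k + 2) = (p ^ (k + 1)) * p := by ring
        have e' : (p : ℤ) * i * p ^ k = p ^ (k + 1) * i := by ring
        rw [e, e'] at h5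
        exact (mul_dvd_mul_iff_left (pow_ne_zero _ (by exact_mod_cast hp.ne_zero))).1 h5
      obtain ⟨j, rfl⟩ := h6
      rw [← hi]
      refine mem_zpowers_iff.2 ⟨j, ?_⟩
      rw [zpow_mul, zpow_natCast, ← pow_mul, ← pow_two]
    · have h3 := orderOf_dvd_of_mem_zpowers hxE
      rw [hoE] at h3
      have h4 := orderOf_dvd_iff_pow_eq_one.1 h3
      rw [pow_succ', pow_mul]; exact h4

end Cfsg.Agent.Lib.H98KulCycA
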