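import Cfsg.Agent.Lib.H98KulCycP

/-! PROJECT 4157, piece CycB (90m). -/
namespace Cfsg.Agent.Lib.H98KulCycB
open Subgroup
open scoped commutatorElement

/-- in a group where `α⁸ = 1` and `[α, ω]` is a power of `α⁴`, `α²` commutes with `ω`. -/
theorem sq_comm_aux {Q : Type*} [Group Q] (α ω : Q) (k : ℤ) (h8 : α ^ 8 = 1)
    (h : α * ω * α⁻¹ * ω⁻¹ = (α ^ 4) ^ k) : α ^ 2 * ω = ω * α ^ 2 := by
  have h1 : ω * α⁻¹ * ω⁻¹ = α⁻¹ * (α ^ 4) ^ k := by
    calc ω * α⁻¹ * ω⁻¹ = α⁻¹ * (α * ω * α⁻¹ * ω⁻¹) := by group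
      _ = α⁻¹ * (α ^ 4) ^ k := by rw [h]
  have hc : Commute α⁻¹ ((α ^ 4) ^ k) :=
    (((Commute.refl α).pow_right 4).zpow_right k).inv_left
  have h2 : ω * (α ^ 2)⁻¹ * ω⁻¹ = (α ^ 2)⁻¹ := by
    calc ω * (α ^ 2)⁻¹ * ω⁻¹ = (ω * α⁻¹ * ω⁻¹) ^ 2 := by rw [conj_pow, inv_pow]
      _ = (α⁻¹ * (α ^ 4) ^ k) ^ 2 := by rw [h1]
      _ = α⁻¹ ^ 2 * ((α ^ 4) ^ k) ^ 2 := hc.mul_pow 2
      _ = α⁻¹ ^ 2 * (α ^ 8) ^ k := by
        congr 1
        rw [← zpow_natCast, ← zpow_natCast, ← zpow_natCast, ← zpow_mul, ← zpow_mul, ← zpow_mul]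
        congr 1
        push_cast
        ring
      _ = (α ^ 2)⁻¹ := by rw [h8, one_zpow, mul_one, inv_pow]
  have h3 : ω * (α ^ 2)⁻¹ = (α ^ 2)⁻¹ * ω := by
    calc ω * (α ^ 2)⁻¹ = (ω * (α ^ 2)⁻¹ * ω⁻¹) * ω := by group
      _ = (α ^ 2)⁻¹ * ω := by rw [h2]
  calc α ^ 2 * ω = α ^ 2 * (ω * (α ^ 2)⁻¹) * α ^ 2 := by group
    _ = α ^ 2 * ((α ^ 2)⁻¹ * ω) * α ^ 2 := by rw [h3]
    _ = ω * α ^ 2 := by group

/-- `p = 2`, `|G| = 2^m ≥ 16`, `G` noncyclic, not of maximal class, with a cyclic subgroup `C = ⟨a⟩` of index 2.  Then NO subgroup `L` of index 2 is of maximal class. -/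
theorem not_maxClass {G : Type*} [Group G] [Finite G] (m : ℕ) (hm : 4 ≤ m) (hG : Nat.card G = 2 ^ m)
    (hnc : ¬ IsCyclic G) (hc : Group.nilpotencyClass G ≠ m - 1) (a : G) (ha : (zpowers a).index = 2)
    (L : Subgroup G) (hL : L.index = 2) : Group.nilpotencyClass ↥L ≠ m - 2 := by
  obtain ⟨n, rfl⟩ : ∃ n, m = n + 4 := ⟨m - 4, by omega⟩
  have hCn : (zpowers a).Normal := Subgroup.normal_of_index_eq_two ha
  have hNn : (zpowers (a ^ 8)).Normal := H98KulCycP.normal_zpowers_pow a hCn 8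
  have hcomm : commutator G ≤ zpowers (a ^ 4) :=
    H98KulCycP.commutator_le (n + 4) (by omega) hG hnc hc a ha
  -- orders
  have hoa : orderOf a = 2 ^ (n + 3) := by
    have h := Subgroup.card_mul_index (zpowers a)
    rw [Nat.card_zpowers, ha, hG, pow_succ 2 (n + 3)] at h
    exact Nat.eq_of_mul_eq_mul_right (by norm_num) h
  have ho8 : orderOf (a ^ 8) = 2 ^ n := by
    rw [orderOf_pow_of_dvd (by norm_num) (by rw [hoa, pow_add]; exact ⟨2 ^ n, by ring⟩),
      hoa, pow_add]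
    norm_num
  have ho2 : orderOf (a ^ 2) = 2 ^ (n + 2) := by
    rw [orderOf_pow_of_dvd (by norm_num) (by rw [hoa, pow_succ]; exact Dvd.intro_left _ rfl),
      hoa, pow_succ]
    norm_num
  have hNi : (zpowers (a ^ 8)).index = 16 := by
    have h := Subgroup.card_mul_index (zpowers (a ^ 8))
    rw [Nat.card_zpowers, ho8, hG, pow_add 2 n 4] at h
    have := Nat.eq_of_mul_eq_mul_left (by positivity) h
    rw [this]; norm_num
  have hAi : (zpowers (a ^ 2)).index = 4 := by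
    have h := Subgroup.card_mul_index (zpowers (a ^ 2))
    rw [Nat.card_zpowers, ho2, hG, show n + 4 = (n + 2) + 2 from rfl, pow_add 2 (n + 2) 2] at h
    have := Nat.eq_of_mul_eq_mul_left (by positivity) h
    rw [this]; norm_num
  have ha2L : a ^ 2 ∈ L := Subgroup.sq_mem_of_index_two hL a
  have hAL : zpowers (a ^ 2) ≤ L := by
    rw [Subgroup.zpowers_le]; exact ha2L
  have hNL : zpowers (a ^ 8) ≤ L := by
    rw [Subgroup.zpowers_le]
    have : a ^ 8 = (a ^ 2) ^ 4 := by rw [← pow_mul]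
    rw [this]; exact L.pow_mem ha2L 4
  have hAr : (zpowers (a ^ 2)).relIndex L = 2 := by
    have h := Subgroup.relIndex_mul_index hAL
    rw [hL, hAi] at h
    omega
  have hNr : (zpowers (a ^ 8)).relIndex L = 8 := by
    have h := Subgroup.relIndex_mul_index hNL
    rw [hL, hNi] at h
    omega
  -- the quotient
  set π := QuotientGroup.mk' (zpowers (a ^ 8)) with hπ
  have hπ8 : (π a) ^ 8 = 1 := by
    rw [← map_pow, hπ, QuotientGroup.mk'_apply, QuotientGroup.eq_one_iff]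
    exact mem_zpowers _
  have hcen : ∀ w : G, π (a ^ 2) * π w = π w * π (a ^ 2) := by
    intro w
    have h1 : ⁅a, w⁆ ∈ zpowers (a ^ 4) := hcomm (Subgroup.commutator_mem_commutator (mem_top a) (mem_top w))
    obtain ⟨k, hk⟩ := Subgroup.mem_zpowers_iff.mp h1
    rw [map_pow]
    apply sq_comm_aux (π a) (π w) k hπ8
    have := congrArg π hk
    rw [commutatorElement_def] at this
    simpa using this.symm
  have hcenA : ∀ t ∈ zpowers (a ^ 2), ∀ w : G, π t * π w = π w * π t := by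
    intro t ht w
    obtain ⟨k, rfl⟩ := Subgroup.mem_zpowers_iff.mp ht
    rw [map_zpow]
    exact ((show Commute (π (a ^ 2)) (π w) from hcen w).zpow_left k)
  have hLL : ∀ x ∈ L, ∀ z ∈ L, π x * π z = π z * π x := by
    intro x hx z hz
    by_cases hxA : x ∈ zpowers (a ^ 2)
    · exact hcenA x hxA z
    by_cases hzA : z ∈ zpowers (a ^ 2)
    · exact (hcenA z hzA x).symm
    have hidx : ((zpowers (a ^ 2)).subgroupOf L).index = 2 := hAr
    have h1 := Subgroup.mul_mem_iff_of_index_two hidx (a := (⟨x, hx⟩ : L)⁻¹) (b := ⟨z, hz⟩)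
    have h2 : (⟨x, hx⟩ : L)⁻¹ * ⟨z, hz⟩ ∈ (zpowers (a ^ 2)).subgroupOf L := by
      rw [h1, Subgroup.inv_mem_iff, Subgroup.mem_subgroupOf, Subgroup.mem_subgroupOf]
      exact ⟨fun h => absurd h hxA, fun h => absurd h hzA⟩
    have h3 : x⁻¹ * z ∈ zpowers (a ^ 2) := by
      simpa [Subgroup.mem_subgroupOf] using h2
    have h4 := hcenA _ h3 x
    rw [map_mul, map_inv] at h4
    have h5 : (π x)⁻¹ * π z * π x = π z := by rw [h4]; group
    calc π x * π z = π x * ((π x)⁻¹ * π z * π x) := by rw [h5]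
      _ = π z * π x := by group
  have hle : commutator L ≤ (zpowers (a ^ 8)).subgroupOf L := by
    rw [_root_.commutator_def, Subgroup.commutator_le]
    intro x _ z _
    rw [Subgroup.mem_subgroupOf]
    have h5 : ((⁅x, z⁆ : L) : G) = ⁅(x : G), (z : G)⁆ := rfl
    rw [h5, ← QuotientGroup.eq_one_iff, ← QuotientGroup.mk'_apply, ← hπ, map_commutatorElement,
      commutatorElement_eq_one_iff_mul_comm]
    exact hLL x x.2 z z.2
  have hdvd : 8 ∣ (commutator L).index := by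
    have := Subgroup.index_dvd_of_le hle
    rwa [show ((zpowers (a ^ 8)).subgroupOf L).index = 8 from hNr] at this
  have hcardL : Nat.card L = 2 ^ (n + 3) := by
    have h := Subgroup.card_mul_index L
    rw [hL, hG, pow_succ 2 (n + 3)] at h
    exact Nat.eq_of_mul_eq_mul_right (by norm_num) h
  intro hcl
  have h6 := (H98KulTau8.class_eq_iff (X := L) (n + 3) (by omega) hcardL).mp (by rw [hcl]; rfl)
  rw [h6] at hdvd
  omega

end Cfsg.Agent.Lib.H98KulCycB
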