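import Cfsg.Agent.Lib.H98KulTau8

/-! PROJECT 4157, piece CycP (75m). -/
namespace Cfsg.Agent.Lib.H98KulCycP
open Subgroup

theorem normal_of_index' {G : Type*} [Group G] [Finite G] {p : ℕ} [Fact p.Prime] (hG : IsPGroup p G)
    (M : Subgroup G) (hM : M.index = p) : M.Normal := by
  have hp : p.Prime := Fact.out
  obtain ⟨n, hn⟩ := IsPGroup.iff_card.1 hG
  apply Subgroup.normal_of_index_eq_minFac_card
  have hn0 : n ≠ 0 := by
    rintro rfl
    have h1 := M.index_dvd_card
    rw [hM, hn, pow_zero] at h1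
    exact hp.one_lt.ne' (Nat.dvd_one.1 h1)
  rw [hM, hn, Nat.Prime.pow_minFac hp hn0]

/-- `G` a noncyclic `p`-group, `⟨a⟩` of index `p`.  Then `x ^ p ∈ ⟨a ^ p⟩` for all `x`. -/
theorem pow_mem {G : Type*} [Group G] [Finite G] {p : ℕ} [Fact p.Prime] (hG : IsPGroup p G)
    (hnc : ¬ IsCyclic G) (a : G) (ha : (zpowers a).index = p) (x : G) : x ^ p ∈ zpowers (a ^ p) := by
  have hp : p.Prime := Fact.out
  have hN : (zpowers a).Normal := normal_of_index' hG _ ha
  have h1 : x ^ p ∈ zpowers a := by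
    have := (zpowers a).pow_index_mem x
    rwa [ha] at this
  obtain ⟨i, hi⟩ := (mem_powers_iff_mem_zpowers).2 h1
  have hi' : a ^ i = x ^ p := hi
  by_cases hpi : p ∣ i
  · obtain ⟨j, rfl⟩ := hpi
    rw [← hi', pow_mul]
    exact Subgroup.pow_mem _ (mem_zpowers _) _
  · exfalso
    apply hnc
    have hcard : Nat.card G = orderOf a * p := by
      rw [← (zpowers a).card_mul_index, ha, Nat.card_zpowers]
    obtain ⟨k, hk⟩ := (IsPGroup.iff_orderOf.1 hG) a
    obtain ⟨l, hl⟩ := (IsPGroup.iff_orderOf.1 hG) x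
    have hcop : (orderOf a).Coprime i := by
      rw [hk]
      exact Nat.Coprime.pow_left _ ((Nat.Prime.coprime_iff_not_dvd hp).2 hpi)
    have ho : orderOf (x ^ p) = orderOf a := by
      rw [← hi']; exact hcop.orderOf_pow
    rcases Nat.eq_zero_or_pos l with rfl | hl0
    · rw [pow_zero, orderOf_eq_one_iff] at hl
      subst hl
      rw [one_pow, orderOf_one] at ho
      rw [← ho, one_mul] at hcard
      exact isCyclic_of_prime_card hcard
    · have hdvd : p ∣ orderOf x := by rw [hl]; exact dvd_pow_self p hl0.ne'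
      have h2 := orderOf_pow_of_dvd hp.ne_zero hdvd
      rw [ho] at h2
      apply isCyclic_of_orderOf_eq_card x
      rw [hcard, h2, Nat.div_mul_cancel hdvd]

/-- every `zpowers (a ^ j)` is normal in `G` when `zpowers a` is (`g a g⁻¹ = a ^ r`, so `g a^j g⁻¹ = (a^j)^r`). -/
theorem normal_zpowers_pow {G : Type*} [Group G] (a : G) (h : (zpowers a).Normal) (j : ℕ) :
    (zpowers (a ^ j)).Normal := by
  constructor
  intro y hy g
  obtain ⟨k, rfl⟩ := mem_zpowers_iff.1 hy
  obtain ⟨r, hr⟩ := mem_zpowers_iff.1 (h.conj_mem a (mem_zpowers a) g)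
  rw [← conj_zpow, ← conj_pow, ← hr]
  apply Subgroup.zpow_mem
  have e : (a ^ r) ^ j = (a ^ j) ^ r := by
    rw [← zpow_natCast (a ^ r) j, ← zpow_mul, mul_comm, zpow_mul, zpow_natCast]
  rw [e]
  exact Subgroup.zpow_mem _ (mem_zpowers _) _

/-- `p = 2`: `G` noncyclic, not of maximal class, `|G| = 2^m ≥ 8`, `⟨a⟩` of index 2.  Then `G' ≤ ⟨a⁴⟩`. -/
theorem commutator_le {G : Type*} [Group G] [Finite G] (m : ℕ) (hm : 3 ≤ m) (hG : Nat.card G = 2 ^ m)
    (hnc : ¬ IsCyclic G) (hc : Group.nilpotencyClass G ≠ m - 1) (a : G) (ha : (zpowers a).index = 2) :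
    commutator G ≤ zpowers (a ^ 4) := by
  have : Fact (Nat.Prime 2) := ⟨Nat.prime_two⟩
  have hP : IsPGroup 2 G := IsPGroup.of_card hG
  have hN : (zpowers a).Normal := normal_of_index' hP _ ha
  have hle : commutator G ≤ zpowers a := by
    rw [← Subgroup.Normal.quotient_commutative_iff_commutator_le]
    have hq : Nat.card (G ⧸ zpowers a) = 2 := by rw [← Subgroup.index_eq_card, ha]
    have hcyc : IsCyclic (G ⧸ zpowers a) := isCyclic_of_prime_card hq
    exact ⟨⟨fun x y => (IsCyclic.commGroup (α := G ⧸ zpowers a)).mul_comm x y⟩⟩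
  have h8 := H98KulTau8.eight_dvd_index m hm hG hnc hc
  have hoa : orderOf a = 2 ^ (m - 1) := by
    have h1 := (zpowers a).card_mul_index
    rw [ha, hG, Nat.card_zpowers] at h1
    have h2 : 2 ^ m = 2 ^ (m - 1) * 2 := by rw [← pow_succ, Nat.sub_add_cancel (by omega)]
    rw [h2] at h1
    exact Nat.eq_of_mul_eq_mul_right (by norm_num) h1
  have hcd : Nat.card (commutator G) ∣ 2 ^ (m - 3) := by
    obtain ⟨e, he⟩ := h8
    have h1 := (commutator G).card_mul_index
    rw [he, hG] at h1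
    have h2 : 2 ^ m = 2 ^ (m - 3) * 8 := by
      have : (8 : ℕ) = 2 ^ 3 := by norm_num
      rw [this, ← pow_add, Nat.sub_add_cancel hm]
    rw [h2] at h1
    refine ⟨e, ?_⟩
    apply Nat.eq_of_mul_eq_mul_right (show 0 < 8 by norm_num)
    rw [← h1]; ring
  intro y hy
  obtain ⟨i, hi⟩ := (mem_powers_iff_mem_zpowers).2 (hle hy)
  have hi' : a ^ i = y := hi
  have hy1 : y ^ (2 ^ (m - 3)) = 1 := by
    have h1 : (⟨y, hy⟩ : commutator G) ^ Nat.card (commutator G) = 1 := pow_card_eq_one'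
    have h2 : y ^ Nat.card (commutator G) = 1 := congrArg Subtype.val h1
    obtain ⟨e, he⟩ := hcd
    rw [he, pow_mul, h2, one_pow]
  rw [← hi', ← pow_mul] at hy1
  have h3 := orderOf_dvd_of_pow_eq_one hy1
  rw [hoa] at h3
  have h4 : 4 ∣ i := by
    have h5 : 2 ^ (m - 1) = 2 ^ (m - 3) * 4 := by
      have : (4 : ℕ) = 2 ^ 2 := by norm_num
      rw [this, ← pow_add]
      congr 1
      omega
    rw [h5, mul_comm i] at h3
    exact Nat.dvd_of_mul_dvd_mul_left (pow_pos (by norm_num) _) h3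
  obtain ⟨j, rfl⟩ := h4
  rw [← hi', pow_mul]
  exact Subgroup.pow_mem _ (mem_zpowers _) _

end Cfsg.Agent.Lib.H98KulCycP
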