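import Cfsg.Agent.Lib.H98KulTau8
import Cfsg.Agent.S0113

/-! PROJECT 4157, piece FourA. -/
namespace Cfsg.Agent.Lib.H98KulFourA
open Subgroup

/-- a subgroup of index 2 contains the commutator subgroup. -/
theorem comm_le_of_index_two {G : Type*} [Group G] (L : Subgroup G) (h : L.index = 2) :
    commutator G ≤ L := by
  have hn : L.Normal := normal_of_index_eq_two h
  have hc : Nat.card (G ⧸ L) = 2 := h
  have : IsCyclic (G ⧸ L) := isCyclic_of_prime_card hc
  let _ : CommGroup (G ⧸ L) := IsCyclic.commGroup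
  have := Abelianization.commutator_subset_ker (QuotientGroup.mk' L)
  rwa [QuotientGroup.ker_mk'] at this

theorem eq_of_le_of_index_eq {G : Type*} [Group G] [Finite G] {H K : Subgroup G} (h : H ≤ K)
    (hi : H.index = K.index) : H = K := by
  apply eq_of_le_of_card_ge h
  have h1 := H.card_mul_index
  have h2 := K.card_mul_index
  rw [hi] at h1
  have h3 : K.index ≠ 0 := Subgroup.index_ne_zero_of_finite
  have : Nat.card H * K.index = Nat.card K * K.index := h1.trans h2.symm
  exact (Nat.eq_of_mul_eq_mul_right (Nat.pos_of_ne_zero h3) this).ge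

theorem card_of_index_two {G : Type*} [Group G] [Finite G] (m : ℕ) (hm : 1 ≤ m)
    (hG : Nat.card G = 2 ^ m) (L : Subgroup G) (h : L.index = 2) : Nat.card L = 2 ^ (m - 1) := by
  have h1 := L.card_mul_index
  rw [h, hG] at h1
  obtain ⟨k, rfl⟩ : ∃ k, m = k + 1 := ⟨m - 1, by omega⟩
  rw [pow_succ] at h1
  simpa using Nat.eq_of_mul_eq_mul_right (by norm_num) h1

theorem index_comm_sub {G : Type*} [Group G] (L : Subgroup G) :
    (⁅L, L⁆ : Subgroup G).index = (commutator ↥L).index * L.index := by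
  rw [← map_subtype_commutator, index_map_subtype]

/-- in a cyclic 2-group `⟨r⟩` every proper subgroup lies in `⟨r²⟩`. -/
theorem le_sq_of_ne {G : Type*} [Group G] [Finite G] (r : G) {k : ℕ} (hr : orderOf r = 2 ^ k)
    (H : Subgroup G) (hH : H ≤ zpowers r) (hne : H ≠ zpowers r) : H ≤ zpowers (r ^ 2) := by
  intro x hx
  obtain ⟨j, hj⟩ := (mem_powers_iff_mem_zpowers (x := r)).mpr (hH hx)
  have hj' : r ^ j = x := hj
  subst hj'
  rcases Nat.even_or_odd' j with ⟨i, rfl | rfl⟩
  · rw [pow_mul]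
    exact Subgroup.pow_mem _ (mem_zpowers _) i
  · exfalso
    apply hne
    apply le_antisymm hH
    rw [zpowers_le]
    have hco : Nat.Coprime (2 * i + 1) (orderOf r) := by
      rw [hr]
      apply Nat.Coprime.pow_right
      exact (Nat.coprime_two_right).mpr ⟨i, rfl⟩
    obtain ⟨t, ht⟩ := exists_pow_eq_self_of_coprime hco
    rw [← ht]
    exact H.pow_mem hx t

theorem main {G : Type*} [Group G] [Finite G] (m : ℕ) (hm : 4 ≤ m) (hG : Nat.card G = 2 ^ m)
    (hnc : ¬ IsCyclic G) (hc : Group.nilpotencyClass G ≠ m - 1)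
    (M1 : Subgroup G) (hM1 : M1.index = 2) (hM1c : Group.nilpotencyClass ↥M1 = m - 2) :
    ∃ K : Subgroup G, K.Normal ∧ K.index = 16 ∧ K ≤ commutator G ∧ (commutator G).index = 8 ∧
      ∀ L : Subgroup G, L.index = 2 → (Group.nilpotencyClass ↥L = m - 2 ↔ ¬ ⁅L, L⁆ ≤ K) := by
  have hM1n : M1.Normal := normal_of_index_eq_two hM1
  have hcardM1 : Nat.card M1 = 2 ^ (m - 1) := card_of_index_two m (by omega) hG M1 hM1
  have e12 : m - 1 - 1 = m - 2 := by omega
  -- `R = M₁'`
  have hR4 : (commutator ↥M1).index = 4 := by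
    apply (H98KulTau8.class_eq_iff (m - 1) (by omega) hcardM1).mp
    rw [e12]; exact hM1c
  have hR8 : (⁅M1, M1⁆ : Subgroup G).index = 8 := by
    rw [index_comm_sub, hR4, hM1]
  have hRle : (⁅M1, M1⁆ : Subgroup G) ≤ commutator G := by
    rw [_root_.commutator_def]
    exact commutator_mono le_top le_top
  have h8 : 8 ∣ (commutator G).index := H98KulTau8.eight_dvd_index m (by omega) hG hnc hc
  have hG8 : (commutator G).index = 8 := by
    have := index_dvd_of_le hRle
    rw [hR8] at this
    exact Nat.dvd_antisymm this h8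
  have hReq : (⁅M1, M1⁆ : Subgroup G) = commutator G :=
    eq_of_le_of_index_eq hRle (hR8.trans hG8.symm)
  -- `G'` is cyclic
  obtain ⟨C, hCc, hC2⟩ := Cfsg.Agent.S0113.result (m - 1) (by omega) hcardM1 (by rw [e12]; exact hM1c)
  have hcyc1 : IsCyclic ↥(commutator ↥M1) :=
    isCyclic_of_injective (Subgroup.inclusion (comm_le_of_index_two C hC2))
      (Subgroup.inclusion_injective _)
  have hcyc : IsCyclic ↥(commutator G) := by
    rw [← hReq, ← map_subtype_commutator]
    exact isCyclic_of_surjective (M1.subtype.subgroupMap (commutator ↥M1))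
      (MonoidHom.subgroupMap_surjective _ _)
  obtain ⟨r, hr⟩ := (Subgroup.isCyclic_iff_exists_zpowers_eq_top _).mp hcyc
  have hcardR : Nat.card (commutator G) = 2 ^ (m - 3) := by
    have h1 := (commutator G).card_mul_index
    rw [hG8, hG] at h1
    obtain ⟨k, rfl⟩ : ∃ k, m = k + 3 := ⟨m - 3, by omega⟩
    rw [pow_add] at h1
    simpa using Nat.eq_of_mul_eq_mul_right (by norm_num) h1
  have hor : orderOf r = 2 ^ (m - 3) := by
    rw [← Nat.card_zpowers, hr, hcardR]
  have hrG : r ∈ commutator G := by rw [← hr]; exact mem_zpowers r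
  have hor2 : orderOf (r ^ 2) = 2 ^ (m - 4) := by
    rw [orderOf_pow_of_dvd (by norm_num) (by rw [hor]; exact dvd_pow_self 2 (by omega)), hor]
    obtain ⟨k, rfl⟩ : ∃ k, m = k + 4 := ⟨m - 4, by omega⟩
    have : k + 4 - 3 = k + 1 := by omega
    rw [this, pow_succ]
    simp
  have hK16 : (zpowers (r ^ 2)).index = 16 := by
    have h1 := (zpowers (r ^ 2)).card_mul_index
    rw [Nat.card_zpowers, hor2, hG] at h1
    obtain ⟨k, rfl⟩ : ∃ k, m = k + 4 := ⟨m - 4, by omega⟩
    have : k + 4 - 4 = k := by omega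
    rw [this, pow_add] at h1
    have := Nat.eq_of_mul_eq_mul_left (by positivity) h1
    rw [this]; norm_num
  have hKle : zpowers (r ^ 2) ≤ commutator G := by
    rw [zpowers_le]; exact Subgroup.pow_mem _ hrG 2
  have hKn : (zpowers (r ^ 2)).Normal := by
    constructor
    intro x hx g
    obtain ⟨i, rfl⟩ := mem_zpowers_iff.mp hx
    have h1 : g * r * g⁻¹ ∈ zpowers r := by
      rw [hr]
      exact (inferInstance : (commutator G).Normal).conj_mem r hrG g
    obtain ⟨j, hj⟩ := mem_zpowers_iff.mp h1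
    have h2 : g * (r ^ 2) ^ i * g⁻¹ = ((r ^ 2) ^ j) ^ i := by
      have : g * (r ^ 2) ^ i * g⁻¹ = ((g * r * g⁻¹) ^ 2) ^ i := by
        rw [conj_pow, conj_zpow]
      rw [this, ← hj]
      congr 1
      rw [← zpow_natCast, ← zpow_natCast, ← zpow_mul, ← zpow_mul, mul_comm]
    rw [h2]
    exact Subgroup.zpow_mem _ (Subgroup.zpow_mem _ (mem_zpowers _) j) i
  refine ⟨zpowers (r ^ 2), hKn, hK16, hKle, hG8, ?_⟩
  intro L hL
  have hcardL : Nat.card L = 2 ^ (m - 1) := card_of_index_two m (by omega) hG L hL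
  have hLle : (⁅L, L⁆ : Subgroup G) ≤ commutator G := by
    rw [_root_.commutator_def]
    exact commutator_mono le_top le_top
  have hiff := H98KulTau8.class_eq_iff (m - 1) (by omega) hcardL
  rw [e12] at hiff
  rw [hiff]
  constructor
  · intro h4 hle
    have h8' : (⁅L, L⁆ : Subgroup G).index = 8 := by rw [index_comm_sub, h4, hL]
    have := index_dvd_of_le hle
    rw [hK16, h8'] at this
    norm_num at this
  · intro hnle
    have heq : (⁅L, L⁆ : Subgroup G) = zpowers r := by
      by_contra hne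
      exact hnle (le_sq_of_ne r hor _ (hr ▸ hLle) hne)
    have h8' : (⁅L, L⁆ : Subgroup G).index = 8 := by rw [heq, hr, hG8]
    rw [index_comm_sub, hL] at h8'
    omega

end Cfsg.Agent.Lib.H98KulFourA
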