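import Cfsg.Agent.Lib.H98KulL16

/-! PROJECT 4157, piece FourB (75m): transfer of L16 to a quotient. -/
namespace Cfsg.Agent.Lib.H98KulFourB
open Subgroup

theorem commutator_le_of_index_two {G : Type*} [Group G] (L : Subgroup G) (hL : L.index = 2) :
    commutator G ≤ L := by
  have hnorm : L.Normal := Subgroup.normal_of_index_eq_two hL
  have hcard : Nat.card (G ⧸ L) = 2 := by
    rw [← Subgroup.index_eq_card]; exact hL
  have : Fact (Nat.Prime 2) := ⟨Nat.prime_two⟩
  have hcyc : IsCyclic (G ⧸ L) := isCyclic_of_prime_card hcard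
  rw [commutator_def, Subgroup.commutator_le]
  intro u _ v _
  rw [← QuotientGroup.eq_one_iff]
  have hc : ∀ a b : G ⧸ L, a * b = b * a := fun a b => (IsCyclic.commGroup).mul_comm a b
  rw [commutatorElement_def]
  simp only [QuotientGroup.mk_mul, QuotientGroup.mk_inv]
  rw [hc (u : G ⧸ L) v]
  group

/-- Apply `H98KulL16.even_card` to `Q = G ⧸ K`:  `|Q| = 16`; `Q' = ` image of `G'` (`Subgroup.map_commutator` / `commutator` is `⁅⊤,⊤⁆`), of order `|G' : K| = 16 / 8 = 2`.
Every subgroup `L` of index 2 of `G` contains `G' ≥ K` (normal with abelian quotient), so `L ↦ L.map (mk' K)` is a bijection from the index-2 subgroups of `G` to those of `Q` (inverse `comap`;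
`Subgroup.index_comap_of_surjective`, `QuotientGroup.comapMk'OrderIso`), and `⁅map L, map L⁆ = map ⁅L, L⁆ = ⊥  ↔  ⁅L, L⁆ ≤ K`. -/
theorem even_card {G : Type*} [Group G] [Finite G] (K : Subgroup G) [K.Normal] (hK : K.index = 16)
    (hKc : K ≤ commutator G) (hc : (commutator G).index = 8) :
    Even (Nat.card {L : Subgroup G // L.index = 2 ∧ ¬ ⁅L, L⁆ ≤ K}) := by
  classical
  set π := QuotientGroup.mk' K with hπ
  have hsurj : Function.Surjective π := QuotientGroup.mk'_surjective K
  have hker : π.ker = K := QuotientGroup.ker_mk' K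
  have hQ : Nat.card (G ⧸ K) = 16 := by
    rw [← Subgroup.index_eq_card]; exact hK
  have hcomm : commutator (G ⧸ K) = (commutator G).map π := by
    rw [commutator_def, commutator_def, Subgroup.map_commutator,
      Subgroup.map_top_of_surjective π hsurj]
  have hidx : (commutator (G ⧸ K)).index = 8 := by
    rw [hcomm, Subgroup.index_map_eq _ hsurj (by rw [hker]; exact hKc), hc]
  have hcQ : Nat.card (commutator (G ⧸ K)) = 2 := by
    have := (commutator (G ⧸ K)).card_mul_index
    rw [hidx, hQ] at this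
    omega
  have hev := H98KulL16.even_card hQ hcQ
  have hiff : ∀ L' : Subgroup (G ⧸ K), ⁅L'.comap π, L'.comap π⁆ ≤ K ↔ ⁅L', L'⁆ = ⊥ := by
    intro L'
    have h1 : ⁅L'.comap π, L'.comap π⁆ ≤ K ↔ ⁅L'.comap π, L'.comap π⁆ ≤ π.ker := by
      constructor
      · intro h; exact h.trans hker.ge
      · intro h; exact h.trans hker.le
    rw [h1, ← Subgroup.map_eq_bot_iff, Subgroup.map_commutator,
      Subgroup.map_comap_eq_self_of_surjective hsurj]
  let f : {L' : Subgroup (G ⧸ K) // L'.index = 2 ∧ ¬ ⁅L', L'⁆ = ⊥} →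
      {L : Subgroup G // L.index = 2 ∧ ¬ ⁅L, L⁆ ≤ K} :=
    fun L' => ⟨L'.1.comap π, by rw [Subgroup.index_comap_of_surjective _ hsurj]; exact L'.2.1,
      fun h => L'.2.2 ((hiff L'.1).1 h)⟩
  have hbij : Function.Bijective f := by
    constructor
    · intro A B hAB
      apply Subtype.ext
      exact Subgroup.comap_injective hsurj (congrArg Subtype.val hAB)
    · intro L
      have hKL : π.ker ≤ L.1 := by
        rw [hker]; exact hKc.trans (commutator_le_of_index_two L.1 L.2.1)
      have hcm : (L.1.map π).comap π = L.1 := Subgroup.comap_map_eq_self hKL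
      refine ⟨⟨L.1.map π, ?_, ?_⟩, ?_⟩
      · rw [Subgroup.index_map_eq _ hsurj hKL]; exact L.2.1
      · intro h
        apply L.2.2
        have := (hiff (L.1.map π)).2 h
        rwa [hcm] at this
      · apply Subtype.ext
        exact hcm
  rw [← Nat.card_congr (Equiv.ofBijective f hbij)]
  exact hev

end Cfsg.Agent.Lib.H98KulFourB
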