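import Cfsg.Agent.Lib.Helper98KulDefs

/-! PROJECT 4157, piece Sub. -/
namespace Cfsg.Agent.Lib.H98KulSub
open Cfsg.Agent.Lib.Helper98KulDefs

/-- Subgroups of `↥M` = subgroups of `G` inside `M`. -/
theorem sc_subgroup (p k : ℕ) {G : Type*} [Group G] (M : Subgroup G) :
    sc p k ↥M = Nat.card {H : Subgroup G // H ≤ M ∧ Nat.card H = p ^ k} := by
  unfold sc
  apply Nat.card_congr
  refine
    { toFun := fun H => ⟨H.1.map M.subtype, Subgroup.map_subtype_le _, ?_⟩
      invFun := fun H => ⟨H.1.subgroupOf M, ?_⟩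
      left_inv := ?_
      right_inv := ?_ }
  · rw [Subgroup.card_map_of_injective M.subtype_injective]; exact H.2
  · rw [← Subgroup.card_map_of_injective M.subtype_injective, Subgroup.map_subgroupOf_eq_of_le H.2.1]
    exact H.2.2
  · intro H
    apply Subtype.ext
    exact Subgroup.comap_map_eq_self_of_injective M.subtype_injective H.1
  · intro H
    apply Subtype.ext
    exact Subgroup.map_subgroupOf_eq_of_le H.2.1

/-- index `p` <-> order `p^m` in a group of order `p^(m+1)`. -/
theorem sc_pred_eq_mu {G : Type*} [Group G] [Finite G] {p : ℕ} [Fact p.Prime] (m : ℕ)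
    (hG : Nat.card G = p ^ (m + 1)) : sc p m G = mu p (⊥ : Subgroup G) := by
  unfold sc mu
  apply Nat.card_congr
  apply Equiv.subtypeEquivRight
  intro M
  have hp : 0 < p := (Fact.out : p.Prime).pos
  have h := M.card_mul_index
  rw [hG, pow_succ] at h
  constructor
  · intro hM
    rw [hM] at h
    exact ⟨Nat.eq_of_mul_eq_mul_left (pow_pos hp m) h, bot_le⟩
  · rintro ⟨hM, -⟩
    rw [hM] at h
    exact Nat.eq_of_mul_eq_mul_right hp h

/-- a cyclic group of order `p^m` has exactly one subgroup of order `p^k`, `k ≤ m`. -/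
theorem sc_cyclic {G : Type*} [Group G] [Finite G] {p : ℕ} [Fact p.Prime] (m k : ℕ)
    (hG : Nat.card G = p ^ m) (hc : IsCyclic G) (hk : k ≤ m) : sc p k G = 1 := by
  classical
  unfold sc
  have hp : 0 < p := (Fact.out : p.Prime).pos
  obtain ⟨K, hK⟩ := Sylow.exists_subgroup_card_pow_prime p (G := G) (n := k)
    (by rw [hG]; exact pow_dvd_pow p hk)
  rw [Nat.card_eq_one_iff_unique]
  refine ⟨⟨?_⟩, ⟨⟨K, hK⟩⟩⟩
  have key : ∀ H : Subgroup G, Nat.card H = p ^ k → (H : Set G) = {x : G | x ^ (p ^ k) = 1} := by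
    intro H hH
    have : Fintype G := Fintype.ofFinite G
    have hsub : (H : Set G) ⊆ {x : G | x ^ (p ^ k) = 1} := by
      intro x hx
      have : (⟨x, hx⟩ : H) ^ Nat.card H = 1 := pow_card_eq_one'
      rw [hH] at this
      simpa using congrArg Subtype.val this
    apply Set.eq_of_subset_of_ncard_le hsub _ (Set.toFinite _)
    have h1 := IsCyclic.card_pow_eq_one_le (α := G) (n := p ^ k) (pow_pos hp k)
    have h2 : ({x : G | x ^ (p ^ k) = 1} : Set G).ncard = (Finset.univ.filter fun a : G => a ^ (p ^ k) = 1).card := by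
      rw [← Set.ncard_coe_finset]; congr 1; ext; simp
    rw [h2]
    have h3 : (H : Set G).ncard = p ^ k := by rw [← hH]; rfl
    rw [h3]; exact h1
  rintro ⟨A, hA⟩ ⟨B, hB⟩
  apply Subtype.ext
  apply SetLike.coe_injective
  rw [key A hA, key B hB]

end Cfsg.Agent.Lib.H98KulSub
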