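import Cfsg.Agent.Lib.H98KulTCount
import Cfsg.Agent.Lib.H98KulSub
import Cfsg.Agent.S3975

/-! PROJECT 4157, piece Hall2 (60m): double counting over the `T`. -/
namespace Cfsg.Agent.Lib.H98KulHall2
open Cfsg.Agent.Lib.Helper98KulDefs

/-- fibre a type of pairs over the second component -/
theorem card_pairs_snd {α β : Type*} [Finite α] [Finite β] (Q : β → Prop) (S : α → β → Prop) :
    Nat.card {x : α × β // Q x.2 ∧ S x.1 x.2}
      = ∑ᶠ b : {b : β // Q b}, Nat.card {a : α // S a b.1} := by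
  classical
  have := Fintype.ofFinite {b : β // Q b}
  rw [finsum_eq_sum_of_fintype, ← Nat.card_sigma]
  refine Nat.card_congr
    { toFun := fun x => ⟨⟨x.1.2, x.2.1⟩, ⟨x.1.1, x.2.2⟩⟩
      invFun := fun y => ⟨(y.2.1, y.1.1), y.1.2, y.2.2⟩
      left_inv := fun x => rfl
      right_inv := fun y => rfl }

/-- `nT = ∑_T #{H ≤ T, |H| = p^k} = ∑_T sc p k ↥T` (`H98KulSub.sc_subgroup`), the sum over the `tau p ⊥` subgroups `T` with `IsT p T`.
`|T| = p^(m-2)` (`H98KulTCount.index_of_isT`, `Subgroup.card_mul_index`) is divisible by `p^k`, so `sc p k ↥T ≡ 1 mod p` by `Cfsg.Agent.S3975.result`. -/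
theorem main {G : Type*} [Group G] [Finite G] {p : ℕ} [Fact p.Prime] (m k : ℕ)
    (hG : Nat.card G = p ^ m) (hk : k + 2 ≤ m) :
    nT p k G ≡ tau p (⊥ : Subgroup G) [MOD p] := by
  classical
  have hP : IsPGroup p G := IsPGroup.of_card hG
  have hp : p.Prime := Fact.out
  have := Fintype.ofFinite {T : Subgroup G // IsT p T}
  have e1 : nT p k G = ∑ T : {T : Subgroup G // IsT p T}, sc p k ↥T.1 := by
    unfold nT
    have h0 : Nat.card {x : Subgroup G × Subgroup G // Nat.card x.1 = p ^ k ∧ IsT p x.2 ∧ x.1 ≤ x.2}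
        = Nat.card {x : Subgroup G × Subgroup G // IsT p x.2 ∧ (x.1 ≤ x.2 ∧ Nat.card x.1 = p ^ k)} := by
      refine Nat.card_congr (Equiv.subtypeEquivRight fun x => ?_)
      tauto
    rw [h0, card_pairs_snd (fun T : Subgroup G => IsT p T)
      (fun H T => H ≤ T ∧ Nat.card H = p ^ k), finsum_eq_sum_of_fintype]
    refine Finset.sum_congr rfl fun T _ => ?_
    rw [H98KulSub.sc_subgroup]
  have e2 : tau p (⊥ : Subgroup G) = ∑ _T : {T : Subgroup G // IsT p T}, 1 := by
    unfold tau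
    rw [Finset.sum_const, Finset.card_univ, ← Nat.card_eq_fintype_card]
    simp
  rw [e1, e2]
  refine Nat.ModEq.sum fun T _ => ?_
  unfold sc
  refine Cfsg.Agent.S3975.result p k hp ?_
  have h1 := H98KulTCount.index_of_isT hP T.1 T.2
  have h2 := Subgroup.card_mul_index T.1
  rw [h1, hG] at h2
  have h3 : p ^ m = p ^ (m - 2) * p ^ 2 := by rw [← pow_add]; congr 1; omega
  rw [h3] at h2
  have h4 : Nat.card T.1 = p ^ (m - 2) := Nat.eq_of_mul_eq_mul_right (pow_pos hp.pos 2) h2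
  rw [h4]
  exact pow_dvd_pow p (by omega)

end Cfsg.Agent.Lib.H98KulHall2
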