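import Cfsg.Agent.Lib.H98KulSub

/-! PROJECT 4157, piece Hall3 (60m): double counting over the maximal subgroups. -/
namespace Cfsg.Agent.Lib.H98KulHall3
open Cfsg.Agent.Lib.Helper98KulDefs

/-- fibre a type of pairs over the second component -/
theorem card_pairs_snd {α β : Type*} [Finite α] [Finite β] (Q : β → Prop) (S : α → β → Prop) :
    Nat.card {x : α × β // Q x.2 ∧ S x.1 x.2}
      = ∑ᶠ b : {b : β // Q b}, Nat.card {a : α // S a b.1} := by
  classical
  have := Fintype.ofFinite {b : β // Q b}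
  rw [finsum_eq_sum_of_fintype, ← Nat.card_sigma]
  refine Nat.card_congr
    { toFun := fun x => ⟨⟨x.1.2, x.2.1⟩, ⟨x.1.1, x.2.2⟩⟩
      invFun := fun y => ⟨(y.2.1, y.1.1), y.1.2, y.2.2⟩
      left_inv := fun x => rfl
      right_inv := fun y => rfl }

/-- `nM = ∑_M sc p k ↥M` (sum over the `mu p ⊥` subgroups of index `p`, `H98KulSub.sc_subgroup`).  The `c` members of `B` contribute `≡ 1`, the others `≡ 1 + p`:
`nM ≡ c + (μ - c)(1 + p)`, i.e. `nM + p c ≡ μ (1 + p)  mod p²`. -/
theorem main {G : Type*} [Group G] [Finite G] (p k : ℕ) (B : Set (Subgroup G))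
    (h1 : ∀ M : Subgroup G, M.index = p → M ∈ B → sc p k ↥M ≡ 1 [MOD p ^ 2])
    (h2 : ∀ M : Subgroup G, M.index = p → M ∉ B → sc p k ↥M ≡ 1 + p [MOD p ^ 2]) :
    nM p k G + p * Nat.card {M : Subgroup G // M.index = p ∧ M ∈ B}
      ≡ mu p (⊥ : Subgroup G) * (1 + p) [MOD p ^ 2] := by
  classical
  have := Fintype.ofFinite {M : Subgroup G // M.index = p}
  have e1 : nM p k G = ∑ M : {M : Subgroup G // M.index = p}, sc p k ↥M.1 := by
    unfold nM
    have h0 : Nat.card {x : Subgroup G × Subgroup G // Nat.card x.1 = p ^ k ∧ x.2.index = p ∧ x.1 ≤ x.2}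
        = Nat.card {x : Subgroup G × Subgroup G // x.2.index = p ∧ (x.1 ≤ x.2 ∧ Nat.card x.1 = p ^ k)} := by
      refine Nat.card_congr (Equiv.subtypeEquivRight fun x => ?_)
      tauto
    rw [h0, card_pairs_snd (fun M : Subgroup G => M.index = p)
      (fun H T => H ≤ T ∧ Nat.card H = p ^ k), finsum_eq_sum_of_fintype]
    refine Finset.sum_congr rfl fun T _ => ?_
    rw [H98KulSub.sc_subgroup]
  have e2 : mu p (⊥ : Subgroup G) = ∑ _M : {M : Subgroup G // M.index = p}, 1 := by
    unfold mu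
    rw [Finset.sum_const, Finset.card_univ, ← Nat.card_eq_fintype_card]
    simp
  have e3 : Nat.card {M : Subgroup G // M.index = p ∧ M ∈ B}
      = ∑ M : {M : Subgroup G // M.index = p}, (if M.1 ∈ B then 1 else 0) := by
    rw [Finset.sum_boole, Nat.cast_id, ← Fintype.card_subtype, ← Nat.card_eq_fintype_card]
    refine Nat.card_congr
      { toFun := fun x => ⟨⟨x.1, x.2.1⟩, x.2.2⟩
        invFun := fun y => ⟨y.1.1, y.1.2, y.2⟩
        left_inv := fun x => rfl
        right_inv := fun y => rfl }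
  rw [e1, e2, e3, Finset.mul_sum, ← Finset.sum_add_distrib, Finset.sum_mul]
  refine Nat.ModEq.sum fun M _ => ?_
  by_cases hB : M.1 ∈ B
  · rw [if_pos hB, mul_one, one_mul]
    exact (h1 M.1 M.2 hB).add_right p
  · rw [if_neg hB, mul_zero, one_mul, add_zero]
    exact h2 M.1 M.2 hB

end Cfsg.Agent.Lib.H98KulHall3
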