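import Cfsg.Agent.Lib.H98KulHall1
import Cfsg.Agent.Lib.H98KulHall2
import Cfsg.Agent.Lib.H98KulHall3

/-! PROJECT 4157: P. Hall's enumeration principle modulo `p²` (assembly, helper98). -/
namespace Cfsg.Agent.Lib.H98KulHall
open Cfsg.Agent.Lib.Helper98KulDefs

theorem arith (p s t τ n c μ : ℕ)
    (e1 : s + p * t ≡ n [MOD p ^ 2]) (e2 : t ≡ τ [MOD p]) (e3 : n + p * c ≡ μ * (1 + p) [MOD p ^ 2])
    (e4 : μ ≡ 1 + p * τ [MOD p ^ 2]) : s + p * c ≡ 1 + p [MOD p ^ 2] := by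
  have e2' : p * t ≡ p * τ [MOD p ^ 2] := by
    rw [pow_two]; exact Nat.ModEq.mul_left' p e2
  rw [← Int.natCast_modEq_iff] at *
  push_cast at *
  rw [Int.modEq_iff_dvd] at *
  obtain ⟨a1, h1⟩ := e1
  obtain ⟨a2, h2⟩ := e2'
  obtain ⟨a3, h3⟩ := e3
  obtain ⟨a4, h4⟩ := e4
  refine ⟨a1 + a3 - a2 + a4 * (1 + p) - τ, ?_⟩
  linear_combination h1 + h3 - h2 + (1 + (p:ℤ)) * h4

theorem hall {G : Type*} [Group G] [Finite G] {p : ℕ} [Fact p.Prime] (m k : ℕ)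
    (hG : Nat.card G = p ^ m) (hk : k + 2 ≤ m) (B : Set (Subgroup G))
    (h1 : ∀ M : Subgroup G, M.index = p → M ∈ B → sc p k ↥M ≡ 1 [MOD p ^ 2])
    (h2 : ∀ M : Subgroup G, M.index = p → M ∉ B → sc p k ↥M ≡ 1 + p [MOD p ^ 2]) :
    sc p k G + p * Nat.card {M : Subgroup G // M.index = p ∧ M ∈ B} ≡ 1 + p [MOD p ^ 2] := by
  have hP : IsPGroup p G := IsPGroup.of_card hG
  have hbot : (⊥ : Subgroup G) ≠ ⊤ := by
    intro h
    have h1 : Nat.card (⊥ : Subgroup G) = Nat.card (⊤ : Subgroup G) := by rw [h]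
    rw [Subgroup.card_bot, Subgroup.card_top, hG] at h1
    have : 1 < p ^ m := Nat.one_lt_pow (by omega) (Fact.out : p.Prime).one_lt
    omega
  exact arith p _ _ _ _ _ _ (H98KulHall1.main m k hG (by omega)) (H98KulHall2.main m k hG hk)
    (H98KulHall3.main p k B h1 h2) (H98KulTauRel.mu_modEq hP ⊥ hbot)

end Cfsg.Agent.Lib.H98KulHall
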