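import Cfsg.Agent.Lib.H98KulTauRel

/-! PROJECT 4157, piece Hall1 (60m): double counting over the subgroups `H` of order `p^k`. -/
namespace Cfsg.Agent.Lib.H98KulHall1
open Cfsg.Agent.Lib.Helper98KulDefs

/-- fibre a type of pairs over the first component -/
theorem card_pairs_fst {α β : Type*} [Finite α] [Finite β] (P : α → Prop) (S : α → β → Prop) :
    Nat.card {x : α × β // P x.1 ∧ S x.1 x.2}
      = ∑ᶠ a : {a : α // P a}, Nat.card {b : β // S a.1 b} := by
  classical
  have := Fintype.ofFinite {a : α // P a}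
  rw [finsum_eq_sum_of_fintype, ← Nat.card_sigma]
  refine Nat.card_congr
    { toFun := fun x => ⟨⟨x.1.1, x.2.1⟩, ⟨x.1.2, x.2.2⟩⟩
      invFun := fun y => ⟨(y.1.1, y.2.1), y.1.2, y.2.2⟩
      left_inv := fun x => rfl
      right_inv := fun y => rfl }

/-- `nM = ∑_H μ(H)` and `nT = ∑_H τ(H)` (sums over the `sc p k G` subgroups `H` of order `p^k`; fibre the pair types over the first component:
`Nat.card_sigma` / `Finset.card_sigma` / `Nat.card_congr (Equiv.sigmaFiberEquiv ..)`).  As `k < m`, every such `H` is `≠ ⊤`, so `μ(H) ≡ 1 + p τ(H) mod p²`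
(`H98KulTauRel.mu_modEq`); sum over `H`. -/
theorem main {G : Type*} [Group G] [Finite G] {p : ℕ} [Fact p.Prime] (m k : ℕ)
    (hG : Nat.card G = p ^ m) (hk : k < m) :
    sc p k G + p * nT p k G ≡ nM p k G [MOD p ^ 2] := by
  classical
  have hP : IsPGroup p G := IsPGroup.of_card hG
  have hp : p.Prime := Fact.out
  have := Fintype.ofFinite {H : Subgroup G // Nat.card H = p ^ k}
  have e1 : nM p k G = ∑ H : {H : Subgroup G // Nat.card H = p ^ k}, mu p H.1 := by
    unfold nM mu
    rw [card_pairs_fst (fun H : Subgroup G => Nat.card H = p ^ k)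
      (fun H M => M.index = p ∧ H ≤ M), finsum_eq_sum_of_fintype]
  have e2 : nT p k G = ∑ H : {H : Subgroup G // Nat.card H = p ^ k}, tau p H.1 := by
    unfold nT tau
    rw [card_pairs_fst (fun H : Subgroup G => Nat.card H = p ^ k)
      (fun H M => IsT p M ∧ H ≤ M), finsum_eq_sum_of_fintype]
  have e3 : sc p k G = ∑ _H : {H : Subgroup G // Nat.card H = p ^ k}, 1 := by
    unfold sc
    rw [Finset.sum_const, Finset.card_univ, Nat.card_eq_fintype_card]
    simp
  rw [e1, e2, e3, Finset.mul_sum, ← Finset.sum_add_distrib]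
  refine Nat.ModEq.sum fun H _ => ?_
  refine (H98KulTauRel.mu_modEq hP H.1 ?_).symm
  intro h
  have h1 : Nat.card H.1 = Nat.card G := by rw [h, Subgroup.card_top]
  rw [H.2, hG] at h1
  have := Nat.pow_right_injective hp.two_le h1
  omega

end Cfsg.Agent.Lib.H98KulHall1
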