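import Cfsg.Agent.Lib.Helper98KulDefs

/-! PROJECT 4157, piece Hom (75m), pure Mathlib. -/
namespace Cfsg.Agent.Lib.H98KulHom
open Cfsg.Agent.Lib.Helper98KulDefs

theorem card_ne_add_one {α : Type*} [Finite α] (a : α) :
    Nat.card {b : α // b ≠ a} + 1 = Nat.card α := by
  classical
  rw [← Nat.card_congr (Equiv.optionSubtypeNe a), Finite.card_option]

/-- `#{normal subgroups of index p} * (p - 1) + 1` is a power of `p`.
Proof.  `X := G →* Multiplicative (ZMod p)` is a finite commutative group with `f ^ p = 1` for all `f`, so `Nat.card X = p ^ d`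
(`IsPGroup.iff_card`).  The map `f ↦ f.ker` sends `X \ {1}` ONTO the set of normal subgroups of index `p`
(`G ⧸ M` has prime order, so it is cyclic, `≃* Multiplicative (ZMod p)`; index of the kernel = card of the range = `p` as the range is a
nontrivial subgroup of a group of prime order), and every fibre has exactly `p - 1` elements: if `ker f = ker f' = M`, pick `g ∉ M`;
`f g` generates, so `f' g = (f g) ^ a` with `a` prime to `p`, and then `f' = f ^ a` on `G = ⟨g⟩ M`; conversely the `f ^ a`, `1 ≤ a < p`, are distinct with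
kernel `M`. -/
theorem exists_pow (G : Type*) [Group G] [Finite G] (p : ℕ) [Fact p.Prime] :
    ∃ d : ℕ, Nat.card {M : Subgroup G // M.Normal ∧ M.index = p} * (p - 1) + 1 = p ^ d := by
  classical
  have hp : p.Prime := Fact.out
  have hCcard : Nat.card (Multiplicative (ZMod p)) = p := by
    rw [Nat.card_congr Multiplicative.toAdd, Nat.card_zmod]
  have hfinX : Finite (G →* Multiplicative (ZMod p)) :=
    Finite.of_injective (fun f => (f : G → Multiplicative (ZMod p))) DFunLike.coe_injective
  have hXp : IsPGroup p (G →* Multiplicative (ZMod p)) := by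
    intro f
    refine ⟨1, ?_⟩
    ext x
    rw [pow_one, MonoidHom.pow_apply, MonoidHom.one_apply]
    have h := pow_card_eq_one' (x := f x)
    rw [hCcard] at h
    rw [h]
  obtain ⟨d, hd⟩ := IsPGroup.iff_card.mp hXp
  refine ⟨d, ?_⟩
  rw [← hd]
  have hker : ∀ f : G →* Multiplicative (ZMod p), f ≠ 1 → f.ker.index = p := by
    intro f hf
    rw [Subgroup.index_ker]
    have : Fact (Nat.Prime (Nat.card (Multiplicative (ZMod p)))) := ⟨by rw [hCcard]; exact hp⟩
    rcases Subgroup.eq_bot_or_eq_top_of_prime_card f.range with h | h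
    · exfalso
      apply hf
      ext x
      have : f x ∈ f.range := ⟨x, rfl⟩
      rw [h, Subgroup.mem_bot] at this
      rw [this]; rfl
    · rw [h, Subgroup.card_top, hCcard]
  let κ : {f : G →* Multiplicative (ZMod p) // f ≠ 1} →
      {M : Subgroup G // M.Normal ∧ M.index = p} :=
    fun f => ⟨f.1.ker, inferInstance, hker f.1 f.2⟩
  have hfib : ∀ M : {M : Subgroup G // M.Normal ∧ M.index = p},
      Nat.card {f // κ f = M} + 1 = p := by
    rintro ⟨M, hMn, hMi⟩
    have hMtop : M ≠ ⊤ := by
      intro h
      rw [h, Subgroup.index_top] at hMi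
      exact hp.one_lt.ne hMi
    obtain ⟨g, hg⟩ : ∃ g, g ∉ M := by
      by_contra hcon
      push Not at hcon
      exact hMtop (eq_top_iff.mpr (fun x _ => hcon x))
    have hκ : ∀ f, κ f = ⟨M, hMn, hMi⟩ ↔ f.1.ker = M := by
      intro f
      exact Subtype.ext_iff
    -- a homomorphism with kernel M
    obtain ⟨f₀, hf₀⟩ : ∃ f₀ : G →* Multiplicative (ZMod p), f₀.ker = M := by
      have hq : Nat.card (G ⧸ M) = p := hMi
      let e := mulEquivOfPrimeCardEq hq hCcard
      refine ⟨e.toMonoidHom.comp (QuotientGroup.mk' M), ?_⟩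
      ext x
      rw [MonoidHom.mem_ker]
      simp
    let ev : {f // κ f = ⟨M, hMn, hMi⟩} → {y : Multiplicative (ZMod p) // y ≠ 1} :=
      fun f => ⟨f.1.1 g, fun h => hg (by
        have h2 := (hκ f.1).mp f.2
        rw [← h2, MonoidHom.mem_ker]; exact h)⟩
    have hinj : Function.Injective ev := by
      intro f f' hff
      have hfg : f.1.1 g = f'.1.1 g := congrArg Subtype.val hff
      have hk := (hκ f.1).mp f.2
      have hk' := (hκ f'.1).mp f'.2
      apply Subtype.ext
      apply Subtype.ext
      refine MonoidHom.ext fun x => ?_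
      have hs : Multiplicative.toAdd (f.1.1 g) ≠ 0 := by
        intro h
        apply hg
        rw [← hk, MonoidHom.mem_ker]
        exact h
      set s := Multiplicative.toAdd (f.1.1 g) with hsdef
      set t := Multiplicative.toAdd (f.1.1 x) with htdef
      set n := (t / s).val with hn
      have hncast : (n : ZMod p) = t / s := by rw [hn, ZMod.natCast_val, ZMod.cast_id', id]
      have h1 : x * (g ^ n)⁻¹ ∈ f.1.1.ker := by
        rw [MonoidHom.mem_ker, map_mul, map_inv, map_pow]
        apply Multiplicative.toAdd.injective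
        rw [toAdd_mul, toAdd_inv, toAdd_pow, toAdd_one, ← hsdef, ← htdef, nsmul_eq_mul, hncast]
        field_simp
        ring
      rw [hk, ← hk', MonoidHom.mem_ker, map_mul, map_inv, map_pow, mul_inv_eq_one] at h1
      have h2 : x * (g ^ n)⁻¹ ∈ f.1.1.ker := by
        rw [hk, ← hk', MonoidHom.mem_ker, map_mul, map_inv, map_pow, mul_inv_eq_one]; exact h1
      rw [MonoidHom.mem_ker, map_mul, map_inv, map_pow, mul_inv_eq_one] at h2
      rw [h1, h2, hfg]
    have hsurj : Function.Surjective ev := by
      rintro ⟨y, hy⟩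
      have hs : Multiplicative.toAdd (f₀ g) ≠ 0 := by
        intro h
        apply hg
        rw [← hf₀, MonoidHom.mem_ker]
        exact h
      set s := Multiplicative.toAdd (f₀ g) with hsdef
      have hy0 : Multiplicative.toAdd y ≠ 0 := fun h => hy h
      set a := Multiplicative.toAdd y / s with ha
      have ha0 : a ≠ 0 := div_ne_zero hy0 hs
      let f : G →* Multiplicative (ZMod p) :=
        (AddMonoidHom.toMultiplicative (AddMonoidHom.mulLeft a)).comp f₀
      have hfx : ∀ x, f x = Multiplicative.ofAdd (a * Multiplicative.toAdd (f₀ x)) := fun x => rfl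
      have hfk : f.ker = M := by
        ext x
        rw [MonoidHom.mem_ker, hfx, ← hf₀, MonoidHom.mem_ker, ofAdd_eq_one, mul_eq_zero]
        constructor
        · rintro (h | h)
          · exact absurd h ha0
          · exact h
        · intro h
          right
          rw [h]; rfl
      have hf1 : f ≠ 1 := by
        intro h
        apply hMtop
        rw [← hfk, h]
        ext x
        simp
      refine ⟨⟨⟨f, hf1⟩, (hκ _).mpr hfk⟩, ?_⟩
      apply Subtype.ext
      change f g = y
      rw [hfx, ← hsdef, ha, div_mul_cancel₀ _ hs]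
      rfl
    rw [Nat.card_congr (Equiv.ofBijective ev ⟨hinj, hsurj⟩), card_ne_add_one, hCcard]
  have hfib' : ∀ M : {M : Subgroup G // M.Normal ∧ M.index = p},
      Nat.card {f // κ f = M} = p - 1 := by
    intro M
    have := hfib M
    omega
  have h1 : Nat.card {f : G →* Multiplicative (ZMod p) // f ≠ 1} =
      Nat.card {M : Subgroup G // M.Normal ∧ M.index = p} * (p - 1) := by
    have : Fintype {M : Subgroup G // M.Normal ∧ M.index = p} := Fintype.ofFinite _
    rw [← Nat.card_congr (Equiv.sigmaFiberEquiv κ), Nat.card_sigma]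
    simp [hfib']
  rw [← h1, card_ne_add_one]

end Cfsg.Agent.Lib.H98KulHom
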