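import Cfsg.Agent.Lib.H98KulMuMod

/-! PROJECT 4157, piece L16 (100m). -/
namespace Cfsg.Agent.Lib.H98KulL16
open Subgroup Cfsg.Agent.Lib.Helper98KulDefs

theorem card_lt_of_mem {Q : Type*} [Group Q] [Finite Q] {H K : Subgroup Q} (h : H ≤ K) {x : Q}
    (hxK : x ∈ K) (hxH : x ∉ H) : Nat.card H < Nat.card K := by
  by_contra hcon
  push Not at hcon
  have := Subgroup.eq_of_le_of_card_ge h hcon
  exact hxH (this ▸ hxK)

theorem exists_c {Q : Type*} [Group Q] (hc : Nat.card (commutator Q) = 2) :
    ∃ c : Q, c ≠ 1 ∧ c * c = 1 ∧ (∀ g, g * c = c * g) ∧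
      ∀ b x : Q, b * x = x * b ∨ b * x = c * (x * b) := by
  obtain ⟨c, hc1, huniq⟩ := (Nat.card_eq_two_iff' (1 : commutator Q)).mp hc
  have hmem : ∀ y ∈ commutator Q, y = 1 ∨ y = c.1 := by
    intro y hy
    by_cases h1 : y = 1
    · left; exact h1
    · right
      have := huniq ⟨y, hy⟩ (fun h => h1 (congrArg Subtype.val h))
      exact congrArg Subtype.val this
  have hc1' : c.1 ≠ 1 := fun h => hc1 (Subtype.ext h)
  refine ⟨c.1, hc1', ?_, ?_, ?_⟩
  · rcases hmem _ ((commutator Q).mul_mem c.2 c.2) with h | h
    · exact h
    · exfalso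
      apply hc1'
      exact mul_eq_left.mp h
  · intro g
    have hn : (commutator Q).Normal := inferInstance
    rcases hmem _ (hn.conj_mem c.1 c.2 g) with h | h
    · exfalso
      apply hc1'
      have : c.1 = g⁻¹ * (g * c.1 * g⁻¹) * g := by group
      rw [this, h]; group
    · calc g * c.1 = (g * c.1 * g⁻¹) * g := by group
        _ = c.1 * g := by rw [h]
  · intro b x
    have hbx : b * x * b⁻¹ * x⁻¹ ∈ commutator Q := by
      have := Subgroup.commutator_mem_commutator (mem_top b) (mem_top x)
      rw [commutatorElement_def] at this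
      exact this
    rcases hmem _ hbx with h | h
    · left
      calc b * x = (b * x * b⁻¹ * x⁻¹) * (x * b) := by group
        _ = x * b := by rw [h, one_mul]
    · right
      calc b * x = (b * x * b⁻¹ * x⁻¹) * (x * b) := by group
        _ = c.1 * (x * b) := by rw [h]

theorem index_centralizer {Q : Type*} [Group Q] (hc : Nat.card (commutator Q) = 2) (x a : Q)
    (ha : a * x ≠ x * a) : (centralizer {x}).index = 2 := by
  obtain ⟨c, hc1, hcc, hcz, hcom⟩ := exists_c hc
  rw [Subgroup.index_eq_two_iff]
  have hax : a * x = c * (x * a) := (hcom a x).resolve_left ha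
  refine ⟨a, fun b => ?_⟩
  rw [Subgroup.mem_centralizer_singleton_iff, Subgroup.mem_centralizer_singleton_iff]
  rcases hcom b x with h | h
  · right
    refine ⟨h, ?_⟩
    intro h2
    apply hc1
    have h3 : b * a * x = c * (x * (b * a)) := by
      calc b * a * x = b * (a * x) := by group
        _ = b * (c * (x * a)) := by rw [hax]
        _ = (b * c) * x * a := by group
        _ = c * (b * x) * a := by rw [hcz b]; group
        _ = c * (x * (b * a)) := by rw [h]; group
    rw [h2] at h3
    exact (mul_eq_right.mp h3.symm)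
  · left
    refine ⟨?_, ?_⟩
    · calc b * a * x = b * (a * x) := by group
        _ = b * (c * (x * a)) := by rw [hax]
        _ = (b * c) * x * a := by group
        _ = c * (b * x) * a := by rw [hcz b]; group
        _ = (c * c) * (x * (b * a)) := by rw [h]; group
        _ = x * (b * a) := by rw [hcc, one_mul]
    · intro h2
      rw [h2] at h
      apply hc1
      exact (mul_eq_right.mp h.symm)

theorem dvd16 {n : ℕ} (h : n ∣ 16) : n = 1 ∨ n = 2 ∨ n = 4 ∨ n = 8 ∨ n = 16 := by
  have h1 : n ≤ 16 := Nat.le_of_dvd (by norm_num) h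
  interval_cases n <;> omega

/-- `|Q| = 16`, `|Q'| = 2`  =>  `|Q : Z(Q)| = 4`. -/
theorem index_center {Q : Type*} [Group Q] [Finite Q] (hQ : Nat.card Q = 16)
    (hc : Nat.card (commutator Q) = 2) : (center Q).index = 4 := by
  obtain ⟨c, hc1, hcc, hcz, hcom⟩ := exists_c hc
  have hmul := (center Q).card_mul_index
  rw [hQ] at hmul
  have hZtop : center Q ≠ ⊤ := by
    intro h
    rw [← commutator_eq_bot_iff_center_eq_top] at h
    rw [h] at hc
    simp at hc
  have hcZ : c ∈ center Q := by
    rw [Subgroup.mem_center_iff]
    exact hcz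
  have hd : ∀ H : Subgroup Q, Nat.card H ∣ 16 := fun H => hQ ▸ H.card_subgroup_dvd_card
  rcases dvd16 (hd (center Q)) with h | h | h | h | h
  · exfalso
    have := (Subgroup.card_eq_one).mp h
    rw [this, Subgroup.mem_bot] at hcZ
    exact hc1 hcZ
  · exfalso
    obtain ⟨x, hx⟩ : ∃ x, x ∉ center Q := by
      by_contra hcon
      push Not at hcon
      exact hZtop (eq_top_iff.mpr (fun x _ => hcon x))
    obtain ⟨z, hz⟩ : ∃ z, z * x ≠ x * z := by
      by_contra hcon
      push Not at hcon
      exact hx (Subgroup.mem_center_iff.mpr hcon)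
    have hix := index_centralizer hc x z hz
    have hiz := index_centralizer hc z x (fun h => hz h.symm)
    set D := centralizer {x} ⊓ centralizer {z} with hD
    have hDi : D.index ≤ 4 := by
      have := Subgroup.index_inf_le (H := centralizer {x}) (K := centralizer {z})
      rw [hix, hiz] at this
      exact this
    have hDmul := D.card_mul_index
    rw [hQ] at hDmul
    have hCxmul := (centralizer {x}).card_mul_index
    rw [hQ, hix] at hCxmul
    have hxD : x ∉ D := by
      intro h
      exact hz (Subgroup.mem_centralizer_singleton_iff.mp h.2).symm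
    have hxCx : x ∈ centralizer {x} := Subgroup.mem_centralizer_singleton_iff.mpr rfl
    have hDlt : Nat.card D < Nat.card (centralizer {x}) :=
      card_lt_of_mem (inf_le_left : D ≤ centralizer {x}) hxCx hxD
    have hD4 : Nat.card D = 4 := by
      rcases dvd16 (hd D) with h | h | h | h | h <;> rw [h] at hDmul hDlt <;> omega
    have : Fact (Nat.Prime 2) := ⟨Nat.prime_two⟩
    have hDcomm := IsPGroup.commutative_of_card_eq_prime_sq (p := 2) (G := D) (by rw [hD4]; norm_num)
    have hDZ : D ≤ center Q := by
      intro w hw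
      have hwx : w * x = x * w := Subgroup.mem_centralizer_singleton_iff.mp hw.1
      have hwz : w * z = z * w := Subgroup.mem_centralizer_singleton_iff.mp hw.2
      set E := centralizer {w} ⊓ centralizer {x} with hE
      have hDE : D ≤ E := by
        intro d hd
        refine ⟨?_, hd.1⟩
        apply Subgroup.mem_centralizer_singleton_iff.mpr
        exact congrArg Subtype.val (hDcomm ⟨d, hd⟩ ⟨w, hw⟩)
      have hxE : x ∈ E := ⟨Subgroup.mem_centralizer_singleton_iff.mpr hwx.symm, hxCx⟩
      have h1 : Nat.card D < Nat.card E := card_lt_of_mem hDE hxE hxD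
      have hzE : z ∉ E := fun h => hz (Subgroup.mem_centralizer_singleton_iff.mp h.2)
      have hzw : z ∈ centralizer {w} := Subgroup.mem_centralizer_singleton_iff.mpr hwz.symm
      have h2 : Nat.card E < Nat.card (centralizer {w}) :=
        card_lt_of_mem (inf_le_left : E ≤ centralizer {w}) hzw hzE
      have h3 : Nat.card (centralizer {w}) = 16 := by
        rcases dvd16 (hd E) with h | h | h | h | h <;>
          rcases dvd16 (hd (centralizer {w})) with h' | h' | h' | h' | h' <;> omega
      have h4 : centralizer {w} = ⊤ := Subgroup.eq_top_of_card_eq _ (by rw [h3, hQ])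
      rw [Subgroup.mem_center_iff]
      intro g
      have : g ∈ centralizer {w} := h4 ▸ mem_top g
      exact Subgroup.mem_centralizer_singleton_iff.mp this
    have := Subgroup.card_le_of_le hDZ
    omega
  · rw [h] at hmul; omega
  · exfalso
    have hi : (center Q).index = 2 := by rw [h] at hmul; omega
    have hq : Nat.card (Q ⧸ center Q) = 2 := hi
    have : Fact (Nat.Prime 2) := ⟨Nat.prime_two⟩
    have hcyc : IsCyclic (Q ⧸ center Q) := isCyclic_of_prime_card hq
    have hcomm := commutative_of_cyclic_center_quotient (QuotientGroup.mk' (center Q))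
      (by rw [QuotientGroup.ker_mk'])
    apply hZtop
    rw [eq_top_iff]
    intro x _
    rw [Subgroup.mem_center_iff]
    intro g
    exact hcomm g x
  · exfalso
    exact hZtop (Subgroup.eq_top_of_card_eq _ (by rw [h, hQ]))

theorem card_split {α : Type*} [Finite α] (P R : α → Prop) :
    Nat.card {x // P x} = Nat.card {x // P x ∧ R x} + Nat.card {x // P x ∧ ¬ R x} := by
  classical
  have := Fintype.ofFinite α
  simp only [Nat.card_eq_fintype_card, Fintype.card_subtype]
  rw [← Finset.card_filter_add_card_filter_not (s := Finset.univ.filter P) R, Finset.filter_filter,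
    Finset.filter_filter]

/-- The number of NONABELIAN subgroups of index 2 is even. -/
theorem even_card {Q : Type*} [Group Q] [Finite Q] (hQ : Nat.card Q = 16)
    (hc : Nat.card (commutator Q) = 2) :
    Even (Nat.card {L : Subgroup Q // L.index = 2 ∧ ¬ ⁅L, L⁆ = ⊥}) := by
  have : Fact (Nat.Prime 2) := ⟨Nat.prime_two⟩
  have hZi := index_center hQ hc
  have hZmul := (center Q).card_mul_index
  rw [hQ, hZi] at hZmul
  have hP : IsPGroup 2 Q := IsPGroup.of_card (n := 4) (by rw [hQ]; norm_num)
  have hZtop : center Q ≠ ⊤ := by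
    intro h
    rw [h, Subgroup.index_top] at hZi
    omega
  have hbot : (⊥ : Subgroup Q) ≠ ⊤ := by
    intro h
    have h1 : Nat.card (⊥ : Subgroup Q) = Nat.card (⊤ : Subgroup Q) := by rw [h]
    rw [Subgroup.card_bot, Subgroup.card_top, hQ] at h1
    omega
  have h1 := H98KulMuMod.mu_modEq_one hP (⊥ : Subgroup Q) hbot
  have h2 := H98KulMuMod.mu_modEq_one hP (center Q) hZtop
  have hiff : ∀ L : Subgroup Q, L.index = 2 → (⁅L, L⁆ = ⊥ ↔ center Q ≤ L) := by
    intro L hL
    have hLmul := L.card_mul_index
    rw [hQ, hL] at hLmul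
    constructor
    · intro hab
      by_contra hZL
      obtain ⟨t, htZ, htL⟩ := SetLike.not_le_iff_exists.mp hZL
      rw [Subgroup.commutator_eq_bot_iff_le_centralizer] at hab
      have hLZ : L ≤ center Q := by
        intro l hl
        rw [Subgroup.mem_center_iff]
        intro g
        by_cases hg : g ∈ L
        · exact (Subgroup.mem_centralizer_iff.mp (hab hl) g hg)
        · have htg : t * g ∈ L := (Subgroup.mul_mem_iff_of_index_two hL).mpr
            ⟨fun h => absurd h htL, fun h => absurd h hg⟩
          have h3 := (Subgroup.mem_centralizer_iff.mp (hab hl) (t * g) htg)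
          have h4 : l * t = t * l := (Subgroup.mem_center_iff.mp htZ l)
          have h5 : t * (g * l) = t * (l * g) := by
            calc t * (g * l) = t * g * l := by group
              _ = l * (t * g) := h3
              _ = (l * t) * g := by group
              _ = t * (l * g) := by rw [h4]; group
          exact mul_left_cancel h5
      have := Subgroup.card_le_of_le hLZ
      omega
    · intro hZL
      have hrel := Subgroup.relIndex_mul_index hZL
      rw [hL, hZi] at hrel
      have hrel2 : (center Q).relIndex L = 2 := by omega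
      have hq : Nat.card (L ⧸ (center Q).subgroupOf L) = 2 := hrel2
      have hcyc : IsCyclic (L ⧸ (center Q).subgroupOf L) := isCyclic_of_prime_card hq
      have hcomm := commutative_of_cyclic_center_quotient
        (QuotientGroup.mk' ((center Q).subgroupOf L)) (by
          rw [QuotientGroup.ker_mk']
          intro z hz
          rw [Subgroup.mem_subgroupOf, Subgroup.mem_center_iff] at hz
          rw [Subgroup.mem_center_iff]
          intro g
          exact Subtype.ext (hz g.1))
      rw [Subgroup.commutator_eq_bot_iff_le_centralizer]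
      intro a ha
      rw [Subgroup.mem_centralizer_iff]
      intro b hb
      exact congrArg Subtype.val (hcomm ⟨b, hb⟩ ⟨a, ha⟩)
  have hA : mu 2 (⊥ : Subgroup Q) = Nat.card {L : Subgroup Q // L.index = 2} := by
    unfold mu
    apply Nat.card_congr
    exact Equiv.subtypeEquivRight (fun L => by simp)
  have hB : mu 2 (center Q) = Nat.card {L : Subgroup Q // L.index = 2 ∧ ⁅L, L⁆ = ⊥} := by
    unfold mu
    apply Nat.card_congr
    exact Equiv.subtypeEquivRight (fun L => by
      constructor
      · rintro ⟨h1, h2⟩; exact ⟨h1, (hiff L h1).mpr h2⟩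
      · rintro ⟨h1, h2⟩; exact ⟨h1, (hiff L h1).mp h2⟩)
  have hsplit := card_split (fun L : Subgroup Q => L.index = 2) (fun L => ⁅L, L⁆ = ⊥)
  rw [← hA, ← hB] at hsplit
  rw [Nat.even_iff]
  unfold Nat.ModEq at h1 h2
  omega

end Cfsg.Agent.Lib.H98KulL16
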