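import Cfsg.Agent.Lib.H98KulTau8
import Cfsg.Agent.S0113

/-! PROJECT 4157, piece MC3. -/
namespace Cfsg.Agent.Lib.H98KulMC3
open Subgroup
open scoped commutatorElement

theorem eq_of_le_of_index_eq {G : Type*} [Group G] [Finite G] {H K : Subgroup G} (h : H ≤ K)
    (hi : H.index = K.index) : H = K := by
  apply eq_of_le_of_card_ge h
  have h1 := H.card_mul_index
  have h2 := K.card_mul_index
  rw [hi] at h1
  have h3 : K.index ≠ 0 := Subgroup.index_ne_zero_of_finite
  have : Nat.card H * K.index = Nat.card K * K.index := h1.trans h2.symm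
  exact (Nat.eq_of_mul_eq_mul_right (Nat.pos_of_ne_zero h3) this).ge

theorem card_of_index_two {G : Type*} [Group G] [Finite G] (m : ℕ) (hm : 1 ≤ m)
    (hG : Nat.card G = 2 ^ m) (L : Subgroup G) (h : L.index = 2) : Nat.card L = 2 ^ (m - 1) := by
  have h1 := L.card_mul_index
  rw [h, hG] at h1
  obtain ⟨k, rfl⟩ : ∃ k, m = k + 1 := ⟨m - 1, by omega⟩
  rw [pow_succ] at h1
  simpa using Nat.eq_of_mul_eq_mul_right (by norm_num) h1

theorem index_comm_sub {G : Type*} [Group G] (L : Subgroup G) :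
    (⁅L, L⁆ : Subgroup G).index = (commutator ↥L).index * L.index := by
  rw [← map_subtype_commutator, index_map_subtype]

/-- subgroups of a cyclic normal subgroup are normal. -/
theorem normal_zpowers_of_mem {G : Type*} [Group G] {a c : G} (hn : (zpowers a).Normal)
    (hc : c ∈ zpowers a) : (zpowers c).Normal := by
  constructor
  intro x hx g
  obtain ⟨t, rfl⟩ := mem_zpowers_iff.mp hx
  obtain ⟨i, rfl⟩ := mem_zpowers_iff.mp hc
  obtain ⟨j, hj⟩ := mem_zpowers_iff.mp (hn.conj_mem a (mem_zpowers a) g)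
  have h2 : g * (a ^ i) ^ t * g⁻¹ = ((a ^ i) ^ j) ^ t := by
    have : g * (a ^ i) ^ t * g⁻¹ = ((g * a * g⁻¹) ^ i) ^ t := by
      rw [conj_zpow, conj_zpow]
    rw [this, ← hj]
    congr 1
    rw [← zpow_mul, ← zpow_mul, mul_comm]
  rw [h2]
  exact Subgroup.zpow_mem _ (Subgroup.zpow_mem _ (mem_zpowers _) j) t

/-- `X = ⟨a⟩ ∪ y⟨a⟩`, `⟨a⟩` normal: `X' ≤ ⟨[a,y]⟩`. -/
theorem commutator_le_zpowers {X : Type*} [Group X] {a y : X} (h2 : (zpowers a).index = 2)
    (hy : y ∉ zpowers a) : commutator X ≤ zpowers ⁅a, y⁆ := by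
  have hn : (zpowers a).Normal := normal_of_index_eq_two h2
  have hcC : ⁅a, y⁆ ∈ zpowers a := by
    rw [commutatorElement_def, mul_assoc, mul_assoc]
    apply Subgroup.mul_mem _ (mem_zpowers a)
    rw [← mul_assoc]
    exact hn.conj_mem _ (Subgroup.inv_mem _ (mem_zpowers a)) y
  have hN : (zpowers ⁅a, y⁆).Normal := normal_zpowers_of_mem hn hcC
  set π := QuotientGroup.mk' (zpowers ⁅a, y⁆) with hπ
  have hay : Commute (π a) (π y) := by
    have h1 : π ⁅a, y⁆ = 1 := (QuotientGroup.eq_one_iff _).mpr (mem_zpowers _)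
    rw [map_commutatorElement] at h1
    exact commutatorElement_eq_one_iff_commute.mp h1
  have hyc : ∀ c' ∈ zpowers a, Commute (π c') (π y) := by
    intro c' hc'
    obtain ⟨i, rfl⟩ := mem_zpowers_iff.mp hc'
    rw [map_zpow]
    exact hay.zpow_left i
  have hcc : ∀ c' ∈ zpowers a, ∀ c'' ∈ zpowers a, Commute (π c') (π c'') := by
    intro c' hc' c'' hc''
    obtain ⟨i, rfl⟩ := mem_zpowers_iff.mp hc'
    obtain ⟨j, rfl⟩ := mem_zpowers_iff.mp hc''
    rw [map_zpow, map_zpow]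
    exact ((Commute.refl (π a)).zpow_left i).zpow_right j
  have hform : ∀ g : X, ∃ c' ∈ zpowers a, g = c' ∨ g = y * c' := by
    intro g
    by_cases hg : g ∈ zpowers a
    · exact ⟨g, hg, Or.inl rfl⟩
    · refine ⟨y⁻¹ * g, ?_, Or.inr (by group)⟩
      rw [mul_mem_iff_of_index_two h2, Subgroup.inv_mem_iff]
      exact ⟨fun h => absurd h hy, fun h => absurd h hg⟩
  have hall : ∀ u v : X, Commute (π u) (π v) := by
    intro u v
    obtain ⟨c1, h1, hu⟩ := hform u
    obtain ⟨c2, h2', hv⟩ := hform v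
    rcases hu with rfl | rfl <;> rcases hv with rfl | rfl
    · exact hcc _ h1 _ h2'
    · rw [map_mul]; exact (hyc _ h1).mul_right (hcc _ h1 _ h2')
    · rw [map_mul]; exact ((hyc _ h2').symm).mul_left (hcc _ h1 _ h2')
    · rw [map_mul, map_mul]
      exact Commute.mul_left (Commute.mul_right (Commute.refl _) (hyc _ h2').symm)
        (Commute.mul_right (hyc _ h1) (hcc _ h1 _ h2'))
  let _ : CommGroup (X ⧸ zpowers ⁅a, y⁆) :=
    { (inferInstance : Group (X ⧸ zpowers ⁅a, y⁆)) with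
      mul_comm := by
        intro u v
        obtain ⟨u, rfl⟩ := QuotientGroup.mk'_surjective _ u
        obtain ⟨v, rfl⟩ := QuotientGroup.mk'_surjective _ v
        exact hall u v }
  have := Abelianization.commutator_subset_ker (QuotientGroup.mk' (zpowers ⁅a, y⁆))
  rwa [QuotientGroup.ker_mk'] at this

theorem comm_sq {X : Type*} [Group X] (a y : X) :
    ⁅a ^ 2, y⁆ = a * ⁅a, y⁆ * a⁻¹ * ⁅a, y⁆ := by
  simp only [commutatorElement_def, sq, mul_inv_rev]
  group

theorem main {X : Type*} [Group X] [Finite X] (n : ℕ) (hn : 4 ≤ n) (hX : Nat.card X = 2 ^ n)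
    (hc : Group.nilpotencyClass X = n - 1) :
    ∃ C : Subgroup X, C.index = 2 ∧ IsCyclic ↥C ∧
      ∀ L : Subgroup X, L.index = 2 → L ≠ C → Group.nilpotencyClass ↥L = n - 2 := by
  obtain ⟨C, hCc, hC2⟩ := Cfsg.Agent.S0113.result n (by omega) hX hc
  refine ⟨C, hC2, hCc, ?_⟩
  intro L hL hne
  have hX4 : (commutator X).index = 4 := (H98KulTau8.class_eq_iff n (by omega) hX).mp hc
  obtain ⟨a, rfl⟩ := (Subgroup.isCyclic_iff_exists_zpowers_eq_top C).mp hCc
  have hnle : ¬ L ≤ zpowers a := fun h => hne (eq_of_le_of_index_eq h (hL.trans hC2.symm))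
  obtain ⟨y, hyL, hyC⟩ := SetLike.not_le_iff_exists.mp hnle
  have hle := commutator_le_zpowers hC2 hyC
  set c := ⁅a, y⁆ with hcdef
  have hnC : (zpowers a).Normal := normal_of_index_eq_two hC2
  have hcC : c ∈ zpowers a := by
    rw [hcdef, commutatorElement_def, mul_assoc, mul_assoc]
    apply Subgroup.mul_mem _ (mem_zpowers a)
    rw [← mul_assoc]
    exact hnC.conj_mem _ (Subgroup.inv_mem _ (mem_zpowers a)) y
  have hac : a * c = c * a := by
    obtain ⟨i, hi⟩ := mem_zpowers_iff.mp hcC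
    rw [← hi]
    exact ((Commute.refl a).zpow_right i)
  -- `c² ∈ L'`
  have hc2 : ⁅a ^ 2, y⁆ = c ^ 2 := by
    have h1 : ⁅a ^ 2, y⁆ = a * c * a⁻¹ * c := comm_sq a y
    rw [h1, hac, mul_inv_cancel_right, sq]
  have hc2L : c ^ 2 ∈ (⁅L, L⁆ : Subgroup X) := by
    rw [← hc2]
    exact commutator_mem_commutator (sq_mem_of_index_two hL a) hyL
  -- arithmetic
  have hidx : (zpowers c).index ∣ 4 := hX4 ▸ index_dvd_of_le hle
  have hcm := (zpowers c).card_mul_index
  rw [Nat.card_zpowers, hX] at hcm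
  obtain ⟨k, hkn, hk⟩ := (Nat.dvd_prime_pow Nat.prime_two).mp (Dvd.intro _ hcm)
  have hnk : n ≤ k + 2 := by
    have h4 : (zpowers c).index ≤ 4 := Nat.le_of_dvd (by norm_num) hidx
    have : 2 ^ n ≤ 2 ^ (k + 2) := by
      rw [← hcm, hk, pow_add]
      exact Nat.mul_le_mul_left _ h4
    exact (Nat.pow_le_pow_iff_right (by norm_num)).mp this
  have hor2 : orderOf (c ^ 2) = 2 ^ (k - 1) := by
    rw [orderOf_pow_of_dvd (by norm_num) (by rw [hk]; exact dvd_pow_self 2 (by omega)), hk]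
    obtain ⟨j, rfl⟩ : ∃ j, k = j + 1 := ⟨k - 1, by omega⟩
    rw [pow_succ]
    simp
  have hidx2 : (zpowers (c ^ 2)).index ∣ 8 := by
    have h1 := (zpowers (c ^ 2)).card_mul_index
    rw [Nat.card_zpowers, hor2, hX] at h1
    have h2 : 2 ^ n = 2 ^ (k - 1) * 2 ^ (n - (k - 1)) := by
      rw [← pow_add]; congr 1; omega
    rw [h2] at h1
    have h3 := Nat.eq_of_mul_eq_mul_left (by positivity) h1
    rw [h3]
    exact (pow_dvd_pow 2 (show n - (k - 1) ≤ 3 by omega))
  have hL8 : (⁅L, L⁆ : Subgroup X).index ∣ 8 :=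
    (index_dvd_of_le ((zpowers_le).mpr hc2L)).trans hidx2
  rw [index_comm_sub, hL] at hL8
  have hL4 : (commutator ↥L).index ∣ 2 ^ 2 :=
    Nat.dvd_of_mul_dvd_mul_right (by norm_num : 0 < 2) (by simpa using hL8)
  have hcardL : Nat.card L = 2 ^ (n - 1) := card_of_index_two n (by omega) hX L hL
  have hnotcyc : ¬ IsCyclic (↥L ⧸ commutator ↥L) := by
    intro hcy
    have hLc : IsCyclic ↥L :=
      H98KulTau8.isCyclic_of_abelianization (p := 2) (IsPGroup.of_card hcardL) hcy
    let _ : CommGroup ↥L := IsCyclic.commGroup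
    have h1 := mul_comm (⟨a ^ 2, sq_mem_of_index_two hL a⟩ : ↥L) ⟨y, hyL⟩
    have h2 : a ^ 2 * y = y * a ^ 2 := congrArg Subtype.val h1
    have h3 : c ^ 2 = 1 := by
      rw [← hc2]
      exact commutatorElement_eq_one_iff_mul_comm.mpr h2
    have h4 : orderOf (c ^ 2) = 1 := orderOf_eq_one_iff.mpr h3
    rw [hor2] at h4
    have : 2 ^ 1 ≤ 2 ^ (k - 1) := Nat.pow_le_pow_right (by norm_num) (by omega)
    omega
  have e12 : n - 1 - 1 = n - 2 := by omega
  have hiff := H98KulTau8.class_eq_iff (n - 1) (by omega) hcardL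
  rw [e12] at hiff
  rw [hiff]
  obtain ⟨j, hj2, hj⟩ := (Nat.dvd_prime_pow Nat.prime_two).mp hL4
  interval_cases j
  · exfalso
    apply hnotcyc
    have h1 : Nat.card (↥L ⧸ commutator ↥L) = 1 := by
      have := hj
      rw [pow_zero] at this
      exact this
    have : Subsingleton (↥L ⧸ commutator ↥L) := (Nat.card_eq_one_iff_unique.mp h1).1
    exact isCyclic_of_subsingleton
  · exfalso
    apply hnotcyc
    have h1 : Nat.card (↥L ⧸ commutator ↥L) = 2 := by
      have := hj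
      rw [pow_one] at this
      exact this
    exact isCyclic_of_prime_card h1
  · simpa using hj

end Cfsg.Agent.Lib.H98KulMC3
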