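import Cfsg.Agent.Lib.H98KulMuMod
import Cfsg.Agent.S0113

/-! PROJECT 4157, piece MC8 (90m). -/
namespace Cfsg.Agent.Lib.H98KulMC8
open Subgroup

theorem top_of {X : Type*} [Group X] {C H : Subgroup X} (hC : C.index = 2) (hCH : C ≤ H) {b : X}
    (hbH : b ∈ H) (hbC : b ∉ C) : H = ⊤ := by
  rw [eq_top_iff]
  intro g _
  by_cases hg : g ∈ C
  · exact hCH hg
  · have h1 : b⁻¹ * g ∈ C := (Subgroup.mul_mem_iff_of_index_two hC).mpr
      ⟨fun h => absurd (C.inv_mem_iff.mp h) hbC, fun h => absurd h hg⟩
    have h2 : g = b * (b⁻¹ * g) := by group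
    rw [h2]
    exact H.mul_mem hbH (hCH h1)

/-- A group of order 8 and class 2 (i.e. nonabelian: D8 or Q8) has an ODD number of cyclic subgroups of index 2 (1 or 3). -/
theorem odd_card {X : Type*} [Group X] [Finite X] (hX : Nat.card X = 2 ^ 3)
    (hc : Group.nilpotencyClass X = 2) :
    Odd (Nat.card {L : Subgroup X // L.index = 2 ∧ IsCyclic ↥L}) := by
  classical
  have : Fact (Nat.Prime 2) := ⟨Nat.prime_two⟩
  have hP : IsPGroup 2 X := IsPGroup.of_card hX
  obtain ⟨C, hCcyc, hCi⟩ := Cfsg.Agent.S0113.result 3 le_rfl hX (by simpa using hc)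
  have hab := (Cfsg.Agent.Lib.Helper3TwoMax.maxclass_abelianization 3 le_rfl hX
    (by simpa using hc)).1
  have hZtop : center X ≠ ⊤ := by
    intro h
    rw [← commutator_eq_bot_iff_center_eq_top] at h
    rw [h, Subgroup.index_bot, hX] at hab
    omega
  have hcard4 : ∀ L : Subgroup X, L.index = 2 → Nat.card L = 4 := by
    intro L hL
    have := L.card_mul_index
    rw [hL, hX] at this
    omega
  obtain ⟨a', ha'⟩ := hCcyc.exists_generator
  have hoa' : orderOf a' = 4 := by
    rw [orderOf_eq_card_of_forall_mem_zpowers ha', hcard4 C hCi]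
  set a : X := a'.1 with ha
  have hoa : orderOf a = 4 := by rw [ha, Subgroup.orderOf_coe, hoa']
  have haC : a ∈ C := a'.2
  have hCa : ∀ k ∈ C, ∃ i : ℤ, a ^ i = k := by
    intro k hk
    obtain ⟨i, hi⟩ := Subgroup.mem_zpowers_iff.mp (ha' ⟨k, hk⟩)
    exact ⟨i, by have := congrArg Subtype.val hi; simpa using this⟩
  have ha4 : a ^ 4 = 1 := by rw [← hoa]; exact pow_orderOf_eq_one a
  have ha1 : a ≠ 1 := by
    intro h
    rw [h, orderOf_one] at hoa
    omega
  have ha2 : a ^ 2 ≠ 1 := by
    intro h
    have := orderOf_dvd_of_pow_eq_one h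
    rw [hoa] at this
    omega
  have hCn : C.Normal := Subgroup.normal_of_index_eq_two hCi
  -- no element outside C commutes with a
  have hnc : ∀ b, b ∉ C → b * a ≠ a * b := by
    intro b hb hba
    have h1 : centralizer {a} = ⊤ := by
      apply top_of hCi _ (Subgroup.mem_centralizer_singleton_iff.mpr hba) hb
      intro k hk
      obtain ⟨i, rfl⟩ := hCa k hk
      apply Subgroup.mem_centralizer_singleton_iff.mpr
      exact ((Commute.refl a).zpow_left i)
    have haZ : a ∈ center X := by
      rw [Subgroup.mem_center_iff]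
      intro g
      have : g ∈ centralizer {a} := h1 ▸ mem_top g
      exact Subgroup.mem_centralizer_singleton_iff.mp this
    have hCZ : C ≤ center X := by
      intro k hk
      obtain ⟨i, rfl⟩ := hCa k hk
      exact (center X).zpow_mem haZ i
    have h2 : centralizer {b} = ⊤ := by
      apply top_of hCi _ (Subgroup.mem_centralizer_singleton_iff.mpr rfl) hb
      intro k hk
      apply Subgroup.mem_centralizer_singleton_iff.mpr
      exact ((Subgroup.mem_center_iff.mp (hCZ hk)) b).symm
    have hbZ : b ∈ center X := by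
      rw [Subgroup.mem_center_iff]
      intro g
      have : g ∈ centralizer {b} := h2 ▸ mem_top g
      exact Subgroup.mem_centralizer_singleton_iff.mp this
    exact hZtop (top_of hCi hCZ hbZ hb)
  -- inversion of a
  have hinva : ∀ b, b ∉ C → b * a * b⁻¹ = a⁻¹ := by
    intro b hb
    have h1 : b * a * b⁻¹ ∈ C := hCn.conj_mem a haC b
    obtain ⟨i, hi⟩ := hCa _ h1
    have h2 : b * a * b⁻¹ ∈ zpowers a := ⟨i, hi⟩
    rw [mem_zpowers_iff_mem_range_orderOf, hoa] at h2
    obtain ⟨j, hj, hj2⟩ := Finset.mem_image.mp h2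
    rw [Finset.mem_range] at hj
    have hj2' : a ^ j = b * a * b⁻¹ := hj2
    interval_cases j
    · exfalso
      apply ha1
      have : a = b⁻¹ * (b * a * b⁻¹) * b := by group
      rw [this, ← hj2']; group
    · exfalso
      apply hnc b hb
      rw [pow_one] at hj2'
      calc b * a = (b * a * b⁻¹) * b := by group
        _ = a * b := by rw [← hj2']
    · exfalso
      apply ha2
      have h3 : (b * a * b⁻¹) ^ 2 = 1 := by
        rw [← hj2', ← pow_mul]; exact ha4
      rw [conj_pow] at h3
      have : a ^ 2 = b⁻¹ * (b * a ^ 2 * b⁻¹) * b := by group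
      rw [this, h3]; group
    · rw [← hj2']
      apply eq_inv_of_mul_eq_one_left
      rw [← pow_succ]; exact ha4
  have hinv : ∀ b, b ∉ C → ∀ k ∈ C, b * k * b⁻¹ = k⁻¹ := by
    intro b hb k hk
    obtain ⟨i, rfl⟩ := hCa k hk
    rw [← conj_zpow, hinva b hb, inv_zpow]
  obtain ⟨b₀, hb₀⟩ : ∃ b, b ∉ C := by
    by_contra hcon
    push Not at hcon
    have : C = ⊤ := eq_top_iff.mpr (fun x _ => hcon x)
    rw [this, Subgroup.index_top] at hCi
    omega
  set s : X := b₀ * b₀ with hs
  have hsC : s ∈ C := (Subgroup.mul_mem_iff_of_index_two hCi).mpr Iff.rfl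
  have hsq : ∀ x, x ∉ C → x * x = s := by
    intro x hx
    have hk : b₀⁻¹ * x ∈ C := (Subgroup.mul_mem_iff_of_index_two hCi).mpr
      ⟨fun h => absurd (C.inv_mem_iff.mp h) hb₀, fun h => absurd h hx⟩
    have hb₀' : b₀⁻¹ ∉ C := fun h => hb₀ (C.inv_mem_iff.mp h)
    have h1 := hinv b₀⁻¹ hb₀' _ hk
    rw [inv_inv] at h1
    calc x * x = b₀ * b₀ * (b₀⁻¹ * (b₀⁻¹ * x) * b₀) * (b₀⁻¹ * x) := by group
      _ = s := by rw [h1, hs]; group
  have hss : s * s = 1 := by
    have h1 := hinv b₀ hb₀ s hsC
    have h2 : b₀ * s * b₀⁻¹ = s := by rw [hs]; group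
    rw [h2] at h1
    calc s * s = s * s⁻¹ := by rw [← h1]
      _ = 1 := mul_inv_cancel s
  by_cases hs1 : s = 1
  · -- only C is cyclic
    have hone : Nat.card {L : Subgroup X // L.index = 2 ∧ IsCyclic ↥L} = 1 := by
      rw [Nat.card_eq_one_iff_unique]
      refine ⟨⟨?_⟩, ⟨⟨C, hCi, hCcyc⟩⟩⟩
      have key : ∀ L : {L : Subgroup X // L.index = 2 ∧ IsCyclic ↥L}, L.1 = C := by
        rintro ⟨L, hLi, hLc⟩
        obtain ⟨g, hg⟩ := hLc.exists_generator
        have hog : orderOf g = 4 := by
          rw [orderOf_eq_card_of_forall_mem_zpowers hg, hcard4 L hLi]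
        have hog' : orderOf g.1 = 4 := by rw [Subgroup.orderOf_coe, hog]
        have hgC : g.1 ∈ C := by
          by_contra hgC
          have h1 := hsq g.1 hgC
          rw [hs1, ← pow_two] at h1
          have := orderOf_dvd_of_pow_eq_one h1
          rw [hog'] at this
          omega
        have hLC : L ≤ C := by
          intro x hx
          obtain ⟨i, hi⟩ := Subgroup.mem_zpowers_iff.mp (hg ⟨x, hx⟩)
          have h2 : g.1 ^ i = x := by have := congrArg Subtype.val hi; simpa using this
          rw [← h2]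
          exact C.zpow_mem hgC i
        exact Subgroup.eq_of_le_of_card_ge hLC (by rw [hcard4 L hLi, hcard4 C hCi])
      intro L L'
      exact Subtype.ext ((key L).trans (key L').symm)
    rw [hone]
    exact odd_one
  · -- all are cyclic
    have hall : ∀ L : Subgroup X, L.index = 2 → IsCyclic L := by
      intro L hLi
      by_cases hLC : L ≤ C
      · have := Subgroup.eq_of_le_of_card_ge hLC (by rw [hcard4 L hLi, hcard4 C hCi])
        rw [this]; exact hCcyc
      · obtain ⟨x, hxL, hxC⟩ := SetLike.not_le_iff_exists.mp hLC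
        have hx2 := hsq x hxC
        have hox : orderOf x = 4 := by
          have h4 : x ^ (2 ^ 2) = 1 := by
            calc x ^ (2 ^ 2) = (x * x) * (x * x) := by
                  norm_num [pow_succ, mul_assoc]
              _ = 1 := by rw [hx2, hss]
          have h2 : ¬ x ^ (2 ^ 1) = 1 := by
            intro h
            apply hs1
            rw [← hx2, ← pow_two]; simpa using h
          have := orderOf_eq_prime_pow h2 h4
          simpa using this
        apply isCyclic_of_orderOf_eq_card (⟨x, hxL⟩ : L)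
        rw [hcard4 L hLi, ← hox, ← Subgroup.orderOf_coe]
    have hbot : (⊥ : Subgroup X) ≠ ⊤ := by
      intro h
      have h1 : Nat.card (⊥ : Subgroup X) = Nat.card (⊤ : Subgroup X) := by rw [h]
      rw [Subgroup.card_bot, Subgroup.card_top, hX] at h1
      omega
    have h1 := H98KulMuMod.mu_modEq_one hP (⊥ : Subgroup X) hbot
    have hA : Cfsg.Agent.Lib.Helper98KulDefs.mu 2 (⊥ : Subgroup X) =
        Nat.card {L : Subgroup X // L.index = 2 ∧ IsCyclic ↥L} := by
      unfold Cfsg.Agent.Lib.Helper98KulDefs.mu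
      apply Nat.card_congr
      exact Equiv.subtypeEquivRight (fun L => by
        constructor
        · rintro ⟨h1, _⟩; exact ⟨h1, hall L h1⟩
        · rintro ⟨h1, _⟩; exact ⟨h1, bot_le⟩)
    rw [← hA, Nat.odd_iff]
    exact h1

end Cfsg.Agent.Lib.H98KulMC8
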