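import Cfsg.Agent.Lib.Helper98KulDefs
import Cfsg.Agent.Lib.H98KulSub
import Cfsg.Agent.S3975

/-! PROJECT 4157, piece MuMod. -/
namespace Cfsg.Agent.Lib.H98KulMuMod
open Cfsg.Agent.Lib.Helper98KulDefs

/-- In a finite `p`-group a subgroup of index `p` is normal. -/
theorem normal_of_index {G : Type*} [Group G] [Finite G] {p : ℕ} [Fact p.Prime] (hG : IsPGroup p G)
    (M : Subgroup G) (hM : M.index = p) : M.Normal := by
  have hp : p.Prime := Fact.out
  obtain ⟨n, hn⟩ := IsPGroup.iff_card.1 hG
  apply Subgroup.normal_of_index_eq_minFac_card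
  rw [hM, hn]
  have hn0 : n ≠ 0 := by
    rintro rfl
    have h := M.index_dvd_card
    rw [hM, hn, pow_zero] at h
    exact hp.one_lt.ne' (Nat.dvd_one.1 h)
  exact (hp.pow_minFac hn0).symm

/-- correspondence theorem for index-`p` subgroups -/
theorem mu_quotient (p : ℕ) {G : Type*} [Group G] (N : Subgroup G) [N.Normal] :
    mu p N = mu p (⊥ : Subgroup (G ⧸ N)) := by
  unfold mu
  apply Nat.card_congr
  refine
    { toFun := fun M => ⟨M.1.map (QuotientGroup.mk' N), ?_, bot_le⟩
      invFun := fun M => ⟨M.1.comap (QuotientGroup.mk' N), ?_, QuotientGroup.le_comap_mk' N _⟩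
      left_inv := ?_
      right_inv := ?_ }
  · rw [Subgroup.index_map_eq _ (QuotientGroup.mk'_surjective N) (by rw [QuotientGroup.ker_mk']; exact M.2.2)]
    exact M.2.1
  · rw [Subgroup.index_comap_of_surjective _ (QuotientGroup.mk'_surjective N)]
    exact M.2.1
  · intro M
    apply Subtype.ext
    simp only
    rw [Subgroup.comap_map_eq, QuotientGroup.ker_mk', sup_eq_left.2 M.2.2]
  · intro M
    apply Subtype.ext
    exact Subgroup.map_comap_eq_self_of_surjective (QuotientGroup.mk'_surjective N) _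

/-- The number of index-`p` subgroups containing a proper subgroup `H` of a finite `p`-group is `≡ 1 mod p`. -/
theorem mu_modEq_one {G : Type*} [Group G] [Finite G] {p : ℕ} [Fact p.Prime] (hG : IsPGroup p G)
    (H : Subgroup G) (hH : H ≠ ⊤) : mu p H ≡ 1 [MOD p] := by
  have hp : p.Prime := Fact.out
  obtain ⟨n, hn⟩ := IsPGroup.iff_card.1 hG
  obtain ⟨j, hj⟩ := IsPGroup.iff_card.1 (hG.to_subgroup H)
  have hjn : j < n := by
    have h1 : Nat.card H < Nat.card G := by
      rcases lt_or_eq_of_le (Subgroup.card_le_card_group H) with h | h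
      · exact h
      · exact absurd (Subgroup.eq_top_of_card_eq H h) hH
    rw [hj, hn] at h1
    exact (Nat.pow_lt_pow_iff_right hp.one_lt).1 h1
  obtain ⟨M0, hM0, hHM0⟩ := Sylow.exists_subgroup_card_pow_prime_le p (G := G) (m := n - 1)
    (by rw [hn]; exact pow_dvd_pow p (Nat.sub_le n 1)) H hj (by omega)
  have hM0i : M0.index = p := by
    have h := M0.card_mul_index
    rw [hM0, hn] at h
    have : p ^ n = p ^ (n - 1) * p := by rw [← pow_succ]; congr 1; omega
    rw [this] at h
    exact Nat.eq_of_mul_eq_mul_left (pow_pos hp.pos _) h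
  have := normal_of_index hG M0 hM0i
  set N := Subgroup.normalClosure (H : Set G) with hN
  have hNM0 : N ≤ M0 := Subgroup.normalClosure_le_normal hHM0
  have h1 : mu p H = mu p N := by
    unfold mu
    apply Nat.card_congr
    apply Equiv.subtypeEquivRight
    intro M
    constructor
    · rintro ⟨hM, hHM⟩
      have := normal_of_index hG M hM
      exact ⟨hM, Subgroup.normalClosure_le_normal hHM⟩
    · rintro ⟨hM, hNM⟩
      exact ⟨hM, le_trans Subgroup.le_normalClosure hNM⟩
  rw [h1, mu_quotient p N]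
  have hdvd : p ∣ N.index := by rw [← hM0i]; exact Subgroup.index_dvd_of_le hNM0
  have hdc : N.index ∣ p ^ n := hn ▸ N.index_dvd_card
  obtain ⟨i, -, hi⟩ := (Nat.dvd_prime_pow hp).1 hdc
  have hi0 : i ≠ 0 := by
    rintro rfl
    rw [hi, pow_zero] at hdvd
    exact hp.one_lt.ne' (Nat.dvd_one.1 hdvd)
  obtain ⟨i', rfl⟩ : ∃ i', i = i' + 1 := ⟨i - 1, by omega⟩
  have hcard : Nat.card (G ⧸ N) = p ^ (i' + 1) := by rw [← hi]; rfl
  rw [← H98KulSub.sc_pred_eq_mu i' hcard]
  exact Cfsg.Agent.S3975.result p i' hp (by rw [hcard]; exact pow_dvd_pow p (Nat.le_succ i'))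

end Cfsg.Agent.Lib.H98KulMuMod
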