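import Cfsg.Agent.Lib.H98KulHom
import Cfsg.Agent.Lib.H98KulMuMod

/-! PROJECT 4157, piece MaxMod (45m). -/
namespace Cfsg.Agent.Lib.H98KulMaxMod
open Cfsg.Agent.Lib.Helper98KulDefs

/-- every element generating a proper subgroup lies in a subgroup of index `p`. -/
theorem exists_index_p {G : Type*} [Group G] [Finite G] {p : ℕ} [Fact p.Prime] (hG : IsPGroup p G)
    (g : G) (hg : Subgroup.zpowers g ≠ ⊤) : ∃ M : Subgroup G, M.index = p ∧ g ∈ M := by
  have hp : p.Prime := Fact.out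
  obtain ⟨n, hn⟩ := IsPGroup.iff_card.1 hG
  obtain ⟨a, ha, hca⟩ := (Nat.dvd_prime_pow hp).1
    (hn ▸ Subgroup.card_subgroup_dvd_card (Subgroup.zpowers g))
  have han : a < n := by
    rcases Nat.lt_or_ge a n with h | h
    · exact h
    · exfalso
      have : a = n := le_antisymm ha h
      apply hg
      apply Subgroup.eq_top_of_card_eq
      rw [hca, hn, this]
  obtain ⟨M, hM, hle⟩ := Sylow.exists_subgroup_card_pow_prime_le p (n := a) (m := n - 1)
    (by rw [hn]; exact pow_dvd_pow p (Nat.sub_le n 1)) (Subgroup.zpowers g) hca (by omega)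
  refine ⟨M, ?_, hle (Subgroup.mem_zpowers g)⟩
  have h1 := Subgroup.card_mul_index M
  rw [hM, hn] at h1
  have h2 : p ^ n = p ^ (n - 1) * p := by
    rw [← pow_succ]; congr 1; omega
  rw [h2] at h1
  exact Nat.eq_of_mul_eq_mul_left (pow_pos hp.pos _) h1

/-- A finite `p`-group with at most one subgroup of index `p` is cyclic: if `G ≠ 1` let `M` be the subgroup of index `p`, `g ∉ M`; if `zpowers g ≠ ⊤`
it lies in a subgroup of index `p` (`Sylow.exists_subgroup_card_pow_prime_le`), which is `M`: contradiction. -/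
theorem two_le_mu {G : Type*} [Group G] [Finite G] {p : ℕ} [Fact p.Prime] (hG : IsPGroup p G)
    (hnc : ¬ IsCyclic G) : 2 ≤ mu p (⊥ : Subgroup G) := by
  have hp : p.Prime := Fact.out
  have hz : ∀ g : G, Subgroup.zpowers g ≠ ⊤ := by
    intro g hg
    apply hnc
    exact ⟨⟨g, fun x => by
      have : x ∈ Subgroup.zpowers g := by rw [hg]; exact Subgroup.mem_top x
      exact this⟩⟩
  obtain ⟨M1, hM1, -⟩ := exists_index_p hG 1 (hz 1)
  have hne : M1 ≠ ⊤ := by
    rintro rfl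
    rw [Subgroup.index_top] at hM1
    exact hp.one_lt.ne hM1
  obtain ⟨g, hg⟩ : ∃ g : G, g ∉ M1 := by
    by_contra hcon
    push Not at hcon
    exact hne (eq_top_iff.2 fun x _ => hcon x)
  obtain ⟨M2, hM2, hgM2⟩ := exists_index_p hG g (hz g)
  have h12 : M1 ≠ M2 := by
    rintro rfl
    exact hg hgM2
  have hnt : Nontrivial {M : Subgroup G // M.index = p ∧ (⊥ : Subgroup G) ≤ M} :=
    ⟨⟨⟨M1, hM1, bot_le⟩, ⟨M2, hM2, bot_le⟩, fun h => h12 (congrArg Subtype.val h)⟩⟩
  exact Finite.one_lt_card_iff_nontrivial.2 hnt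

/-- The number `μ` of maximal subgroups of a noncyclic `p`-group is `≡ 1 + p mod p²`.
Proof.  `μ (p-1) + 1 = p^d` (`H98KulHom.exists_pow` + `H98KulMuMod.normal_of_index`), `μ ≥ 2` gives `d ≥ 2`, so `μ (p-1) ≡ -1 mod p²`;
multiply by `p + 1`:  `μ (p² - 1) ≡ -(p+1)`, i.e. `μ ≡ 1 + p`. -/
theorem mu_bot_modEq {G : Type*} [Group G] [Finite G] {p : ℕ} [Fact p.Prime] (hG : IsPGroup p G)
    (hnc : ¬ IsCyclic G) : mu p (⊥ : Subgroup G) ≡ 1 + p [MOD p ^ 2] := by
  have hp : p.Prime := Fact.out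
  obtain ⟨d, hd⟩ := H98KulHom.exists_pow G p
  have hmu : Nat.card {M : Subgroup G // M.Normal ∧ M.index = p} = mu p (⊥ : Subgroup G) := by
    apply Nat.card_congr
    refine Equiv.subtypeEquivRight ?_
    intro M
    constructor
    · rintro ⟨-, h⟩
      exact ⟨h, bot_le⟩
    · rintro ⟨h, -⟩
      exact ⟨H98KulMuMod.normal_of_index hG M h, h⟩
  rw [hmu] at hd
  have h2 := two_le_mu hG hnc
  set μ := mu p (⊥ : Subgroup G) with hμ
  have hd2 : 2 ≤ d := by
    by_contra hcon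
    have hd1 : d ≤ 1 := by omega
    have h3 : p ^ d ≤ p ^ 1 := Nat.pow_le_pow_right hp.pos hd1
    have h4 : 2 * (p - 1) ≤ μ * (p - 1) := Nat.mul_le_mul_right _ h2
    have := hp.two_le
    rw [pow_one] at h3
    omega
  have hA : (μ : ℤ) * ((p : ℤ) - 1) + 1 = (p : ℤ) ^ 2 * (p : ℤ) ^ (d - 2) := by
    rw [← pow_add, show 2 + (d - 2) = d by omega]
    have := congrArg (fun z : ℕ => (z : ℤ)) hd
    push_cast [Nat.cast_sub hp.one_le] at this
    exact this
  apply (Nat.modEq_iff_dvd).2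
  refine ⟨((p : ℤ) + 1) * (p : ℤ) ^ (d - 2) - μ, ?_⟩
  push_cast
  linear_combination ((p : ℤ) + 1) * hA

end Cfsg.Agent.Lib.H98KulMaxMod
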