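import Cfsg.Agent.Lib.H98KulHom
import Cfsg.Agent.Lib.H98KulMuMod

/-! PROJECT 4157, piece TCount. -/
namespace Cfsg.Agent.Lib.H98KulTCount
open Cfsg.Agent.Lib.Helper98KulDefs

theorem index_inf_aux {G : Type*} [Group G] [Finite G] {p : ℕ} [Fact p.Prime] (hG : IsPGroup p G)
    (M M' : Subgroup G) (hM : M.index = p) (hM' : M'.index = p) (hne : M ≠ M') :
    (M ⊓ M').index = p ^ 2 := by
  have hp := (Fact.out : p.Prime)
  have nM := H98KulMuMod.normal_of_index hG M hM
  have nM' := H98KulMuMod.normal_of_index hG M' hM'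
  have hsup : M ⊔ M' = ⊤ := by
    have h1 : (M ⊔ M').index ∣ p := hM ▸ Subgroup.index_dvd_of_le le_sup_left
    rcases (Nat.dvd_prime hp).1 h1 with h | h
    · exact Subgroup.index_eq_one.1 h
    · exfalso
      have h2 := Subgroup.relIndex_mul_index (le_sup_left : M ≤ M ⊔ M')
      rw [h, hM] at h2
      have h3 : M.relIndex (M ⊔ M') = 1 :=
        Nat.eq_of_mul_eq_mul_right hp.pos (by rw [h2, one_mul])
      have h4 : M ⊔ M' ≤ M := Subgroup.relIndex_eq_one.1 h3
      have h5 : M' ≤ M := le_trans le_sup_right h4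
      have h6 := Subgroup.relIndex_mul_index h5
      rw [hM, hM'] at h6
      have h7 : M'.relIndex M = 1 :=
        Nat.eq_of_mul_eq_mul_right hp.pos (by rw [h6, one_mul])
      exact hne (le_antisymm (Subgroup.relIndex_eq_one.1 h7) h5)
  have h1 := Subgroup.relIndex_mul_index (inf_le_left : M ⊓ M' ≤ M)
  rw [Subgroup.inf_relIndex_left, ← Subgroup.relIndex_sup_right, hsup, Subgroup.relIndex_top_right,
    hM, hM'] at h1
  rw [← h1, sq]

theorem index_of_isT {G : Type*} [Group G] [Finite G] {p : ℕ} [Fact p.Prime] (hG : IsPGroup p G)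
    (T : Subgroup G) (hT : IsT p T) : T.index = p ^ 2 := by
  obtain ⟨M, M', hM, hM', hne, rfl⟩ := hT
  exact index_inf_aux hG M M' hM hM' hne

theorem mu_of_isT {G : Type*} [Group G] [Finite G] {p : ℕ} [Fact p.Prime] (hG : IsPGroup p G)
    (T : Subgroup G) (hT : IsT p T) : mu p T = p + 1 := by
  classical
  have hp := (Fact.out : p.Prime)
  have hTi := index_of_isT hG T hT
  have hTtop : T ≠ ⊤ := by
    rintro rfl
    rw [Subgroup.index_top] at hTi
    have : 1 < p ^ 2 := Nat.one_lt_pow (by norm_num) hp.one_lt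
    omega
  have hmod := H98KulMuMod.mu_modEq_one hG T hTtop
  set S := {M : Subgroup G // M.index = p ∧ T ≤ M} with hS
  have hmu : mu p T = Nat.card S := rfl
  have : Finite S := inferInstance
  have : Fintype S := Fintype.ofFinite S
  -- lower bound
  have h2 : 2 ≤ Nat.card S := by
    obtain ⟨M, M', hM, hM', hne, hTe⟩ := hT
    have : (1 : ℕ) < Nat.card S := by
      rw [Finite.one_lt_card_iff_nontrivial]
      refine ⟨⟨M, hM, hTe ▸ inf_le_left⟩, ⟨M', hM', hTe ▸ inf_le_right⟩, ?_⟩
      intro h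
      exact hne (congrArg Subtype.val h)
    exact this
  -- upper bound
  set t := Nat.card T with ht
  have htpos : 0 < t := Nat.card_pos
  have hGc : Nat.card G = t * p ^ 2 := by
    rw [← hTi]; exact (Subgroup.card_mul_index T).symm
  have hMc : ∀ M : S, Nat.card (M.1) = t * p := by
    intro M
    have h1 := Subgroup.card_mul_index M.1
    rw [M.2.1, hGc] at h1
    have : Nat.card (M.1) * p = (t * p) * p := by rw [h1]; ring
    exact Nat.eq_of_mul_eq_mul_right hp.pos this
  let A : S → Set G := fun M => (M.1 : Set G) \ (T : Set G)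
  have hA : ∀ M : S, Nat.card (A M) + t = t * p := by
    intro M
    rw [← hMc M, Nat.card_coe_set_eq, ht]
    have := Set.ncard_sdiff_add_ncard_of_subset (s := (T : Set G)) (t := (M.1 : Set G)) M.2.2
      (Set.toFinite _)
    rw [← Nat.card_coe_set_eq (T : Set G), ← Nat.card_coe_set_eq (M.1 : Set G)] at this
    exact this
  let f : (Σ M : S, A M) → ((T : Set G)ᶜ : Set G) := fun x => ⟨x.2.1, x.2.2.2⟩
  have hf : Function.Injective f := by
    rintro ⟨M₁, x₁, hx₁⟩ ⟨M₂, x₂, hx₂⟩ h
    have hx : x₁ = x₂ := congrArg Subtype.val h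
    subst hx
    have hMM : M₁ = M₂ := by
      by_contra hne
      have hne' : M₁.1 ≠ M₂.1 := fun h => hne (Subtype.ext h)
      have hi := index_inf_aux hG M₁.1 M₂.1 M₁.2.1 M₂.2.1 hne'
      have hle : T ≤ M₁.1 ⊓ M₂.1 := le_inf M₁.2.2 M₂.2.2
      have h6 := Subgroup.relIndex_mul_index hle
      rw [hi, hTi] at h6
      have h7 : T.relIndex (M₁.1 ⊓ M₂.1) = 1 :=
        Nat.eq_of_mul_eq_mul_right (pow_pos hp.pos 2) (by rw [h6, one_mul])
      have h8 := Subgroup.relIndex_eq_one.1 h7
      exact hx₁.2 (h8 ⟨hx₁.1, hx₂.1⟩)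
    subst hMM
    rfl
  have hle := Nat.card_le_card_of_injective f hf
  rw [Nat.card_sigma] at hle
  have hcompl : Nat.card ((T : Set G)ᶜ : Set G) + t = t * p ^ 2 := by
    rw [← hGc, Nat.card_coe_set_eq, ht, add_comm]
    have := Set.ncard_add_ncard_compl (T : Set G)
    rw [← Nat.card_coe_set_eq (T : Set G)] at this
    exact this
  have hsum : ∑ M : S, Nat.card (A M) = Nat.card S * (t * p - t) := by
    rw [Finset.sum_congr rfl (fun M _ => (by have := hA M; omega : Nat.card (A M) = t * p - t))]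
    simp [Nat.card_eq_fintype_card]
  rw [hsum] at hle
  have hup : Nat.card S ≤ p + 1 := by
    obtain ⟨k, rfl⟩ : ∃ k, p = k + 1 := ⟨p - 1, by have := hp.pos; omega⟩
    have e1 : t * (k + 1) - t = t * k := by
      have : t * (k + 1) = t * k + t := by ring
      omega
    rw [e1] at hle
    have e2 : Nat.card ((T : Set G)ᶜ : Set G) = (k + 1 + 1) * (t * k) := by
      have : t * (k + 1) ^ 2 = (k + 1 + 1) * (t * k) + t := by ring
      omega
    rw [e2] at hle
    have hk : 0 < k := by have := hp.one_lt; omega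
    exact Nat.le_of_mul_le_mul_right hle (by positivity)
  rw [hmu] at hmod ⊢
  -- N ≡ 1 mod p, 2 ≤ N ≤ p + 1
  have h3 : p ∣ Nat.card S - 1 := (Nat.modEq_iff_dvd' (by omega)).1 hmod.symm
  obtain ⟨c, hc⟩ := h3
  have hc0 : c ≠ 0 := by
    rintro rfl
    omega
  have hc1 : c < 2 := by
    by_contra hcon
    have : p * 2 ≤ p * c := Nat.mul_le_mul_left p (by omega)
    have := hp.one_lt
    omega
  have : c = 1 := by omega
  subst this
  omega

end Cfsg.Agent.Lib.H98KulTCount
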