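import Cfsg.Agent.Lib.Helper98KulDefs
import Cfsg.Agent.S0115

/-! PROJECT 4157, piece Tau8 (60m): Taussky's theorem (landed row S0115) in index form. -/
namespace Cfsg.Agent.Lib.H98KulTau8
open Cfsg.Agent.Lib.Helper98KulDefs

/-- A finite `p`-group (any nilpotent group) with cyclic abelianization is cyclic.
Proof: `G = ⟨x⟩ G'`.  Either: every maximal subgroup is normal of index `p`, hence contains `G'`; if `zpowers x ≠ ⊤` it lies in a subgroup `M` of index `p`
(`Sylow.exists_subgroup_card_pow_prime_le`), `M` is normal with abelian quotient so `G' ≤ M` (`QuotientGroup`/`Abelianization.commutator_subset_ker`,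
`Subgroup.Normal.commutator_le_of_...`), so `G = ⟨x⟩G' ≤ M`: contradiction. -/
theorem isCyclic_of_abelianization {G : Type*} [Group G] [Finite G] {p : ℕ} [Fact p.Prime] (hG : IsPGroup p G)
    (h : IsCyclic (G ⧸ commutator G)) : IsCyclic G := by
  classical
  have hp : p.Prime := Fact.out
  obtain ⟨y, hy⟩ := h.exists_generator
  obtain ⟨x, rfl⟩ := QuotientGroup.mk_surjective y
  by_contra hnc
  have hne : Subgroup.zpowers x ≠ ⊤ := by
    intro htop
    apply hnc
    exact ⟨x, fun g => by
      have : g ∈ Subgroup.zpowers x := by rw [htop]; trivial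
      exact this⟩
  obtain ⟨N, hN⟩ := IsPGroup.iff_card.1 hG
  obtain ⟨n, hn⟩ := IsPGroup.iff_card.1 (hG.to_subgroup (Subgroup.zpowers x))
  have hlt : n < N := by
    have h1 : Nat.card (Subgroup.zpowers x) < Nat.card G := by
      by_contra hge
      exact hne (Subgroup.eq_top_of_le_card _ (not_lt.1 hge))
    rw [hn, hN] at h1
    exact (Nat.pow_lt_pow_iff_right hp.one_lt).1 h1
  obtain ⟨k, rfl⟩ : ∃ k, N = k + 1 := ⟨N - 1, by omega⟩
  obtain ⟨M, hM, hxM⟩ := Sylow.exists_subgroup_card_pow_prime_le p (n := n) (m := k)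
    (by rw [hN]; exact pow_dvd_pow p (Nat.le_succ k)) (Subgroup.zpowers x) hn (by omega)
  have hidx : M.index = p := by
    have h1 := M.card_mul_index
    rw [hM, hN, pow_succ] at h1
    exact Nat.eq_of_mul_eq_mul_left (pow_pos hp.pos k) h1
  have hnorm : M.Normal := by
    apply Subgroup.normal_of_index_eq_minFac_card
    rw [hidx, hN, hp.pow_minFac (Nat.succ_ne_zero k)]
  have hcard : Nat.card (G ⧸ M) = p := by
    rw [← Subgroup.index_eq_card]; exact hidx
  have hcyc : IsCyclic (G ⧸ M) := isCyclic_of_prime_card hcard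
  have hcomm : commutator G ≤ M := by
    rw [commutator_def, Subgroup.commutator_le]
    intro u _ v _
    rw [← QuotientGroup.eq_one_iff]
    have hc : ∀ a b : G ⧸ M, a * b = b * a := fun a b => (IsCyclic.commGroup).mul_comm a b
    rw [commutatorElement_def]
    simp only [QuotientGroup.mk_mul, QuotientGroup.mk_inv]
    rw [hc (u : G ⧸ M) v]
    group
  have htop : M = ⊤ := by
    rw [eq_top_iff]
    intro g _
    obtain ⟨j, hj⟩ := Subgroup.mem_zpowers_iff.1 (hy (g : G ⧸ commutator G))
    rw [← QuotientGroup.mk_zpow, QuotientGroup.eq] at hj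
    have h1 : (x ^ j)⁻¹ * g ∈ M := hcomm hj
    have h2 : x ^ j ∈ M := M.zpow_mem (hxM (Subgroup.mem_zpowers x)) j
    have := M.mul_mem h2 h1
    simpa using this
  rw [htop, Subgroup.index_top] at hidx
  exact hp.one_lt.ne hidx

/-- a noncyclic group of order 4 is a Klein four group -/
theorem klein_of {A : Type*} [Group A] [Finite A] (h4 : Nat.card A = 4) (hnc : ¬ IsCyclic A) :
    IsKleinFour A := by
  refine ⟨h4, ?_⟩
  have hsq : ∀ a : A, a ^ 2 = 1 := by
    intro a
    have h1 : orderOf a ∣ 4 := h4 ▸ orderOf_dvd_natCard a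
    have h2 : orderOf a ≠ 4 := fun h => hnc (isCyclic_of_orderOf_eq_card a (by rw [h, h4]))
    have h3 : orderOf a ≤ 4 := Nat.le_of_dvd (by norm_num) h1
    have h5 : orderOf a ∣ 2 := by
      interval_cases (orderOf a) <;> simp_all
    exact orderOf_dvd_iff_pow_eq_one.1 h5
  have hd : Monoid.exponent A ∣ 2 := Monoid.exponent_dvd_of_forall_pow_eq_one hsq
  rcases (Nat.dvd_prime Nat.prime_two).1 hd with h1 | h1
  · exfalso
    have hsub : Subsingleton A := Monoid.exp_eq_one_iff.1 h1
    have : Nat.card A = 1 := Nat.card_unique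
    omega
  · exact h1

/-- `Cfsg.Agent.S0115.result n hn hX : nilpotencyClass X = n - 1 ↔ IsKleinFour (X ⧸ commutator X)`. -/
theorem class_eq_iff {X : Type*} [Group X] [Finite X] (n : ℕ) (hn : 3 ≤ n) (hX : Nat.card X = 2 ^ n) :
    Group.nilpotencyClass X = n - 1 ↔ (commutator X).index = 4 := by
  rw [Cfsg.Agent.S0115.result n hn hX]
  constructor
  · intro h
    rw [Subgroup.index_eq_card]
    exact h.card_four
  · intro h
    apply klein_of
    · rw [← Subgroup.index_eq_card]; exact h
    · intro hcyc
      have hP : IsPGroup 2 X := IsPGroup.of_card hX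
      have hXc : IsCyclic X := isCyclic_of_abelianization hP hcyc
      have hbot : commutator X = ⊥ := by
        rw [commutator_def, Subgroup.commutator_eq_bot_iff_le_centralizer]
        intro a _
        rw [Subgroup.mem_centralizer_iff]
        intro b _
        exact (IsCyclic.commGroup).mul_comm b a
      rw [hbot, Subgroup.index_bot, hX] at h
      have : 2 ^ 3 ≤ 2 ^ n := Nat.pow_le_pow_right (by norm_num) hn
      omega

/-- noncyclic, not of maximal class  =>  `|X : X'| ≥ 8`. -/
theorem eight_dvd_index {X : Type*} [Group X] [Finite X] (n : ℕ) (hn : 3 ≤ n) (hX : Nat.card X = 2 ^ n)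
    (hnc : ¬ IsCyclic X) (hc : Group.nilpotencyClass X ≠ n - 1) : 8 ∣ (commutator X).index := by
  have hP : IsPGroup 2 X := IsPGroup.of_card hX
  have hd : (commutator X).index ∣ 2 ^ n := hX ▸ Subgroup.index_dvd_card _
  obtain ⟨k, _, hk⟩ := (Nat.dvd_prime_pow Nat.prime_two).1 hd
  have hcard : Nat.card (X ⧸ commutator X) = 2 ^ k := by
    rw [← Subgroup.index_eq_card]; exact hk
  rcases k with _ | _ | _ | k
  · exfalso
    apply hnc
    apply isCyclic_of_abelianization hP
    have : Subsingleton (X ⧸ commutator X) :=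
      (Nat.card_eq_one_iff_unique.1 (by simpa using hcard)).1
    exact isCyclic_of_subsingleton
  · exfalso
    apply hnc
    apply isCyclic_of_abelianization hP
    have : Fact (Nat.Prime 2) := ⟨Nat.prime_two⟩
    exact isCyclic_of_prime_card (p := 2) (by simpa using hcard)
  · exfalso
    apply hc
    rw [class_eq_iff n hn hX, hk]
    norm_num
  · rw [hk]
    exact ⟨2 ^ k, by ring⟩

end Cfsg.Agent.Lib.H98KulTau8
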