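import Cfsg.Agent.Lib.H98KulTCount

/-! PROJECT 4157, piece TauRel (75m). -/
namespace Cfsg.Agent.Lib.H98KulTauRel
open Cfsg.Agent.Lib.Helper98KulDefs

theorem card_offdiag (α : Type*) [Finite α] :
    Nat.card {x : α × α // x.1 ≠ x.2} = Nat.card α * (Nat.card α - 1) := by
  classical
  have := Fintype.ofFinite α
  rw [Nat.card_eq_fintype_card, Nat.card_eq_fintype_card, Fintype.card_subtype]
  have h : (Finset.univ.filter fun x : α × α => x.1 ≠ x.2) = (Finset.univ : Finset α).offDiag := by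
    ext x; simp [Finset.mem_offDiag]
  rw [h, Finset.offDiag_card, Finset.card_univ, Nat.mul_sub, mul_one]

theorem card_pairs {G : Type*} [Group G] [Finite G] (p : ℕ) (H : Subgroup G) :
    Nat.card {x : Subgroup G × Subgroup G //
      x.1.index = p ∧ x.2.index = p ∧ x.1 ≠ x.2 ∧ H ≤ x.1 ∧ H ≤ x.2} = mu p H * (mu p H - 1) := by
  unfold mu
  rw [← card_offdiag]
  apply Nat.card_congr
  exact
    { toFun := fun x => ⟨(⟨x.1.1, x.2.1, x.2.2.2.2.1⟩, ⟨x.1.2, x.2.2.1, x.2.2.2.2.2⟩),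
        fun h => x.2.2.2.1 (congrArg Subtype.val h)⟩
      invFun := fun y => ⟨(y.1.1.1, y.1.2.1), y.1.1.2.1, y.1.2.2.1, fun h => y.2 (Subtype.ext h),
        y.1.1.2.2, y.1.2.2.2⟩
      left_inv := fun x => rfl
      right_inv := fun y => rfl }

/-- Count the ordered pairs `(M, M')` of DISTINCT index-`p` subgroups containing `H` in two ways. -/
theorem mu_mul_pred {G : Type*} [Group G] [Finite G] {p : ℕ} [Fact p.Prime] (hG : IsPGroup p G)
    (H : Subgroup G) : mu p H * (mu p H - 1) = tau p H * (p * (p + 1)) := by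
  classical
  have hp : p.Prime := Fact.out
  rw [← card_pairs]
  let f : {x : Subgroup G × Subgroup G //
      x.1.index = p ∧ x.2.index = p ∧ x.1 ≠ x.2 ∧ H ≤ x.1 ∧ H ≤ x.2} →
      {T : Subgroup G // IsT p T ∧ H ≤ T} :=
    fun x => ⟨x.1.1 ⊓ x.1.2, ⟨x.1.1, x.1.2, x.2.1, x.2.2.1, x.2.2.2.1, rfl⟩,
      le_inf x.2.2.2.2.1 x.2.2.2.2.2⟩
  have hfib : ∀ T, Nat.card {x // f x = T} = p * (p + 1) := by
    intro T
    have h1 := card_pairs p T.1
    rw [H98KulTCount.mu_of_isT hG T.1 T.2.1] at h1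
    have h2 : Nat.card {x // f x = T} = Nat.card {x : Subgroup G × Subgroup G //
        x.1.index = p ∧ x.2.index = p ∧ x.1 ≠ x.2 ∧ T.1 ≤ x.1 ∧ T.1 ≤ x.2} := by
      apply Nat.card_congr
      exact
        { toFun := fun x => ⟨x.1.1, x.1.2.1, x.1.2.2.1, x.1.2.2.2.1,
            (by
              have := congrArg Subtype.val x.2
              rw [← this]; exact inf_le_left),
            (by
              have := congrArg Subtype.val x.2
              rw [← this]; exact inf_le_right)⟩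
          invFun := fun y => ⟨⟨y.1, y.2.1, y.2.2.1, y.2.2.2.1, T.2.2.trans y.2.2.2.2.1,
              T.2.2.trans y.2.2.2.2.2⟩, by
            apply Subtype.ext
            show y.1.1 ⊓ y.1.2 = T.1
            have hle : T.1 ≤ y.1.1 ⊓ y.1.2 := le_inf y.2.2.2.2.1 y.2.2.2.2.2
            have i1 := H98KulTCount.index_of_isT hG T.1 T.2.1
            have i2 := H98KulTCount.index_of_isT hG (y.1.1 ⊓ y.1.2)
              ⟨y.1.1, y.1.2, y.2.1, y.2.2.1, y.2.2.2.1, rfl⟩
            have i3 := Subgroup.relIndex_mul_index hle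
            rw [i1, i2] at i3
            have i4 : T.1.relIndex (y.1.1 ⊓ y.1.2) = 1 := by
              have hpos : 0 < p ^ 2 := pow_pos hp.pos 2
              exact Nat.eq_of_mul_eq_mul_right hpos (by rw [i3, one_mul])
            exact le_antisymm (Subgroup.relIndex_eq_one.1 i4) hle⟩
          left_inv := fun x => rfl
          right_inv := fun y => rfl }
    rw [h2, h1, Nat.add_sub_cancel, mul_comm]
  have h3 := Nat.card_congr (Equiv.sigmaFiberEquiv f).symm
  have : Fintype {T : Subgroup G // IsT p T ∧ H ≤ T} := Fintype.ofFinite _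
  rw [h3, Nat.card_sigma, Finset.sum_congr rfl (fun T _ => hfib T), Finset.sum_const,
    Finset.card_univ, smul_eq_mul, tau, Nat.card_eq_fintype_card]

/-- Pure arithmetic: `μ ≡ 1 mod p` and `μ (μ-1) = τ p (p+1)` give `μ ≡ 1 + p τ mod p²`
(`μ = 1 + p e`; `(1 + p e) e = τ (p + 1)`, so `e ≡ τ mod p`). -/
theorem arith (p μ τ : ℕ) (hp : p.Prime) (h1 : μ ≡ 1 [MOD p]) (h2 : μ * (μ - 1) = τ * (p * (p + 1))) :
    μ ≡ 1 + p * τ [MOD p ^ 2] := by
  have hμ : 1 ≤ μ := by
    rcases Nat.eq_zero_or_pos μ with h0 | h0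
    · exfalso
      subst h0
      have : p ∣ 1 := (Nat.modEq_zero_iff_dvd.1 h1.symm)
      exact hp.one_lt.ne' (Nat.dvd_one.1 this)
    · exact h0
  obtain ⟨e, he⟩ := (Nat.modEq_iff_dvd' hμ).1 h1.symm
  have hμe : μ = 1 + p * e := by omega
  subst hμe
  rw [Nat.add_sub_cancel_left] at h2
  have h3 : (1 + p * e) * e = τ * (p + 1) := by
    apply Nat.eq_of_mul_eq_mul_left hp.pos
    calc p * ((1 + p * e) * e) = (1 + p * e) * (p * e) := by ring
      _ = τ * (p * (p + 1)) := h2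
      _ = p * (τ * (p + 1)) := by ring
  have h4 : e ≡ τ [MOD p] := by
    rw [Nat.modEq_iff_dvd]
    refine ⟨(e : ℤ) * e - τ, ?_⟩
    have h5 : ((1 + (p : ℤ) * e) * e) = τ * (p + 1) := by exact_mod_cast h3
    linarith
  rw [pow_two]
  exact Nat.ModEq.add_left 1 (Nat.ModEq.mul_left' p h4)

theorem mu_modEq {G : Type*} [Group G] [Finite G] {p : ℕ} [Fact p.Prime] (hG : IsPGroup p G)
    (H : Subgroup G) (hH : H ≠ ⊤) : mu p H ≡ 1 + p * tau p H [MOD p ^ 2] :=
  arith p _ _ (Fact.out) (H98KulMuMod.mu_modEq_one hG H hH) (mu_mul_pred hG H)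

end Cfsg.Agent.Lib.H98KulTauRel
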