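import Mathlib
import Cfsg.Prelude

/-! Project 3905 (helper98 + helper99).  See notes/helper98/gaps.md (F1-F7). -/

namespace Cfsg.Agent.Lib.Helper98MaxDefs

variable {G : Type*} [Group G]

abbrev Cn (x : G) : Subgroup G := Subgroup.centralizer ({x} : Set G)

def Hyp (N : Subgroup G) : Prop :=
  ∀ x : G, x ∈ N → x ∉ Subgroup.centralizer (N : Set G) → IsCoatom (Cn x)

/-- `Z(N)` inside `G`. -/
def ZN (N : Subgroup G) : Subgroup G := N ⊓ Subgroup.centralizer (N : Set G)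

/-- `C_N(N')`. -/
def KN (N : Subgroup G) : Subgroup G := N ⊓ Subgroup.centralizer ((⁅N, N⁆ : Subgroup G) : Set G)

def AltI (N : Subgroup G) : Prop :=
  ∃ p : ℕ, p.Prime ∧ (∀ a ∈ N, ∀ b ∈ N, a * b * a⁻¹ * b⁻¹ ∈ ZN N) ∧ ∀ a ∈ N, a ^ p ∈ ZN N

def AltII (N K D : Subgroup G) (p q : ℕ) : Prop :=
  p.Prime ∧ q.Prime ∧ K ≤ N ∧ D ≤ N ∧ ZN N ≤ K ∧ ZN N ≤ D ∧
    (∀ n ∈ N, ∀ k ∈ K, n * k * n⁻¹ ∈ K) ∧ (∀ a ∈ K, ∀ b ∈ K, a * b = b * a) ∧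
    (∀ a ∈ K, a ^ p ∈ ZN N) ∧ K ⊓ D = ZN N ∧ (ZN N).relIndex D = q ∧ K.relIndex N = q ∧
    ¬ K ≤ ZN N ∧ (∀ n ∈ N, (∀ d ∈ D, n * d * n⁻¹ ∈ D) → n ∈ D)

/-- image of a subgroup of `G` in `N / Z(N)`. -/
def img (N D : Subgroup G) : Subgroup (↥N ⧸ Subgroup.center ↥N) :=
  (D.subgroupOf N).map (QuotientGroup.mk' (Subgroup.center ↥N))

end Cfsg.Agent.Lib.Helper98MaxDefs
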