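import Mathlib
import Cfsg.Agent.Lib.Helper98MaxDefs

namespace Cfsg.Agent.Lib.H98MaxF1
open Cfsg.Agent.Lib.Helper98MaxDefs

theorem sup_top {G : Type*} [Group G] (N : Subgroup G) (h : Hyp N)
    (x : G) (hx : x ∈ N) (hxz : x ∉ Subgroup.centralizer (N : Set G)) : Cn x ⊔ N = ⊤ := by
  have hco := h x hx hxz
  have hnle : ¬ N ≤ Cn x := by
    intro hle
    apply hxz
    rw [Subgroup.mem_centralizer_iff]
    intro n hn
    have h1 := hle hn
    rw [Subgroup.mem_centralizer_iff] at h1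
    exact (h1 x (Set.mem_singleton x)).symm
  apply hco.2
  refine lt_of_le_of_ne le_sup_left (fun e => hnle ?_)
  rw [e]
  exact le_sup_right

/-- `N ≰ C(x)` (x ∉ C(N)), `C(x)` coatom, so `C(x) ⊔ N = ⊤`; `N` normal so `C(x) ⊔ N = C(x) * N` (`Subgroup.mul_normal`). -/
theorem prod {G : Type*} [Group G] [Finite G] (N : Subgroup G) [N.Normal] (h : Hyp N)
    (x : G) (hx : x ∈ N) (hxz : x ∉ Subgroup.centralizer (N : Set G)) (g : G) :
    ∃ m ∈ Cn x, ∃ n ∈ N, g = m * n := by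
  have hg : g ∈ Cn x ⊔ N := by
    rw [sup_top N h x hx hxz]
    exact Subgroup.mem_top g
  rw [← SetLike.mem_coe, Subgroup.mul_normal] at hg
  obtain ⟨m, hm, n, hn, e⟩ := Set.mem_mul.1 hg
  exact ⟨m, hm, n, hn, e.symm⟩

/-- consequence of `prod`: `g x g⁻¹ = n x n⁻¹` for some `n ∈ N` (write `g⁻¹ = m n`, so `g = n⁻¹ m⁻¹`). -/
theorem conj_eq {G : Type*} [Group G] [Finite G] (N : Subgroup G) [N.Normal] (h : Hyp N)
    (x : G) (hx : x ∈ N) (hxz : x ∉ Subgroup.centralizer (N : Set G)) (g : G) :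
    ∃ n ∈ N, g * x * g⁻¹ = n * x * n⁻¹ := by
  obtain ⟨m, hm, n, hn, e⟩ := prod N h x hx hxz g⁻¹
  have hmx : x * m = m * x := (Subgroup.mem_centralizer_iff.1 hm) x (Set.mem_singleton x)
  have hg : g = n⁻¹ * m⁻¹ := by rw [← mul_inv_rev, ← e, inv_inv]
  have h1 : m⁻¹ * x * m = x := by rw [mul_assoc, hmx, inv_mul_cancel_left]
  refine ⟨n⁻¹, N.inv_mem hn, ?_⟩
  calc g * x * g⁻¹ = n⁻¹ * (m⁻¹ * x * m) * n⁻¹⁻¹ := by rw [hg]; group
    _ = n⁻¹ * x * n⁻¹⁻¹ := by rw [h1]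

/-- `D = C(x) ⊓ N` is a maximal `C(x)`-invariant proper subgroup of `N`. -/
theorem max_inv {G : Type*} [Group G] [Finite G] (N : Subgroup G) [N.Normal] (h : Hyp N)
    (x : G) (hx : x ∈ N) (hxz : x ∉ Subgroup.centralizer (N : Set G)) (L : Subgroup G)
    (h1 : Cn x ⊓ N ≤ L) (h2 : L ≤ N) (h3 : ∀ m ∈ Cn x, ∀ l ∈ L, m * l * m⁻¹ ∈ L) :
    L = Cn x ⊓ N ∨ L = N := by
  by_cases hL : L ≤ Cn x
  · left
    exact le_antisymm (le_inf hL h2) h1
  · right
    have hco := h x hx hxz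
    let T : Subgroup G :=
      { carrier := {g | ∃ l ∈ L, ∃ m ∈ Cn x, g = l * m}
        mul_mem' := by
          rintro _ _ ⟨l₁, hl₁, m₁, hm₁, rfl⟩ ⟨l₂, hl₂, m₂, hm₂, rfl⟩
          refine ⟨l₁ * (m₁ * l₂ * m₁⁻¹), L.mul_mem hl₁ (h3 m₁ hm₁ l₂ hl₂), m₁ * m₂,
            (Cn x).mul_mem hm₁ hm₂, by group⟩
        one_mem' := ⟨1, L.one_mem, 1, (Cn x).one_mem, by simp⟩
        inv_mem' := by
          rintro _ ⟨l, hl, m, hm, rfl⟩
          refine ⟨m⁻¹ * l⁻¹ * m⁻¹⁻¹, h3 m⁻¹ ((Cn x).inv_mem hm) l⁻¹ (L.inv_mem hl), m⁻¹,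
            (Cn x).inv_mem hm, by group⟩ }
    have hCT : Cn x ≤ T := fun m hm => ⟨1, L.one_mem, m, hm, by simp⟩
    have hLT : L ≤ T := fun l hl => ⟨l, hl, 1, (Cn x).one_mem, by simp⟩
    have hT : T = ⊤ := by
      apply hco.2
      refine lt_of_le_of_ne hCT (fun e => hL ?_)
      rw [e]
      exact hLT
    apply le_antisymm h2
    intro n hn
    have hnT : n ∈ T := by
      rw [hT]
      exact Subgroup.mem_top n
    obtain ⟨l, hl, m, hm, e⟩ := hnT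
    have hmN : m ∈ N := by
      have : m = l⁻¹ * n := by rw [e, inv_mul_cancel_left]
      rw [this]
      exact N.mul_mem (N.inv_mem (h2 hl)) hn
    rw [e]
    exact L.mul_mem hl (h1 ⟨hm, hmN⟩)

/-- `|N : C_N(x)| = |G : C(x)|`. -/
theorem relIndex_eq {G : Type*} [Group G] [Finite G] (N : Subgroup G) [N.Normal] (h : Hyp N)
    (x : G) (hx : x ∈ N) (hxz : x ∉ Subgroup.centralizer (N : Set G)) :
    (Cn x).relIndex N = (Cn x).index := by
  have htop := sup_top N h x hx hxz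
  have e1 : N.relIndex (Cn x) = N.index := by
    rw [← Subgroup.relIndex_sup_right (Cn x) N, htop, Subgroup.relIndex_top_right]
  have e2 := Subgroup.relIndex_mul_index (inf_le_left : Cn x ⊓ N ≤ Cn x)
  have e3 := Subgroup.relIndex_mul_index (inf_le_right : Cn x ⊓ N ≤ N)
  rw [Subgroup.inf_relIndex_left, e1] at e2
  rw [Subgroup.inf_relIndex_right] at e3
  have hN0 : N.index ≠ 0 := Subgroup.index_ne_zero_of_finite
  have e4 : N.index * (Cn x).relIndex N = N.index * (Cn x).index := by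
    rw [e2, ← e3, mul_comm]
  exact Nat.eq_of_mul_eq_mul_left (Nat.pos_of_ne_zero hN0) e4

end Cfsg.Agent.Lib.H98MaxF1
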