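import Cfsg.Agent.Lib.Helper98SoftDefs


/-! PROJECT 3811 (soft subgroups), PIECE Cls. -/

namespace Cfsg.Agent.Lib.H98SoftCls

open Cfsg.Agent.Lib.Helper98SoftDefs Subgroup

variable {G : Type*} [Group G] {p : ℕ} {A : Subgroup G}

/-- class of `M` from the class of `M / Z(M)`.  `Subgroup.map_lowerCentralSeries`: `(M.map q).lowerCentralSeries j = (M.lowerCentralSeries j).map q`;
`map q = ⊥ ↔ ≤ ker q = cen M` (`Subgroup.map_eq_bot_iff`, `QuotientGroup.ker_mk'`).
* `γ_{j+1} ≤ cen M ≤ centralizer M` ⇒ `γ_{j+2} = ⁅γ_{j+1}, M⁆ = ⊥` (`Subgroup.commutator_eq_bot_iff_le_centralizer`).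
* `γ_j ≰ cen M`, `γ_j ≤ M` (`Subgroup.lowerCentralSeries_antitone`, `lowerCentralSeries_zero`) ⇒ `γ_j ≰ centralizer M` ⇒ `γ_{j+1} ≠ ⊥`. -/
theorem lcs_step (M : Subgroup G) [(cen M).Normal] (j : ℕ)
    (h1 : (M.map (QuotientGroup.mk' (cen M))).lowerCentralSeries (j + 1) = ⊥)
    (h2 : (M.map (QuotientGroup.mk' (cen M))).lowerCentralSeries j ≠ ⊥) :
    M.lowerCentralSeries (j + 2) = ⊥ ∧ M.lowerCentralSeries (j + 1) ≠ ⊥ := by
  rw [← Subgroup.map_lowerCentralSeries, Subgroup.map_eq_bot_iff, QuotientGroup.ker_mk'] at h1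
  rw [← Subgroup.map_lowerCentralSeries, Ne, Subgroup.map_eq_bot_iff, QuotientGroup.ker_mk'] at h2
  constructor
  · rw [Subgroup.lowerCentralSeries_succ, Subgroup.commutator_eq_bot_iff_le_centralizer]
    exact h1.trans inf_le_right
  · rw [Subgroup.lowerCentralSeries_succ, Ne, Subgroup.commutator_eq_bot_iff_le_centralizer]
    intro h3
    exact h2 (le_inf (Subgroup.lowerCentralSeries_le_self M j) h3)

/-- bridge to `Group.nilpotencyClass`.  `Subgroup.top_subtype_lowerCentralSeries`, `Subgroup.map_eq_bot_iff_of_injective`,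
`lowerCentralSeries_eq_bot_iff_nilpotencyClass_le` (for the group `↥K`): `class ≤ c + 1` and `¬ class ≤ c`. -/
theorem nilpotencyClass_eq (K : Subgroup G) [Group.IsNilpotent ↥K] (c : ℕ) (h1 : K.lowerCentralSeries (c + 1) = ⊥)
    (h2 : K.lowerCentralSeries c ≠ ⊥) : Group.nilpotencyClass ↥K = c + 1 := by
  rw [← Subgroup.top_subtype_lowerCentralSeries, Subgroup.map_eq_bot_iff_of_injective _ K.subtype_injective,
    Subgroup.lowerCentralSeries_eq_bot_iff_nilpotencyClass_le] at h1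
  rw [← Subgroup.top_subtype_lowerCentralSeries, Ne, Subgroup.map_eq_bot_iff_of_injective _ K.subtype_injective,
    Subgroup.lowerCentralSeries_eq_bot_iff_nilpotencyClass_le] at h2
  omega

end Cfsg.Agent.Lib.H98SoftCls
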