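import Cfsg.Agent.Lib.Helper98SoftDefs


/-! PROJECT 3811 (soft subgroups), PIECE Corr. -/

namespace Cfsg.Agent.Lib.H98SoftCorr

open Cfsg.Agent.Lib.Helper98SoftDefs Subgroup

variable {G : Type*} [Group G] {p : ℕ} {A : Subgroup G}

/-! Correspondence theorem for `q = QuotientGroup.mk' Z`.  Useful: `Subgroup.map_le_map_iff`, `QuotientGroup.ker_mk'`, `Subgroup.comap_map_eq`,
`Subgroup.map_comap_eq_self_of_surjective`, `Subgroup.comap_normalizer_eq_of_surjective`, `Subgroup.relIndex_comap`. -/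

theorem comap_map (Z : Subgroup G) [Z.Normal] {K : Subgroup G} (hZ : Z ≤ K) :
    (K.map (QuotientGroup.mk' Z)).comap (QuotientGroup.mk' Z) = K := by
  rw [Subgroup.comap_map_eq, QuotientGroup.ker_mk', sup_eq_left]
  exact hZ

theorem map_le_map (Z : Subgroup G) [Z.Normal] {K L : Subgroup G} (hZ : Z ≤ L) :
    K.map (QuotientGroup.mk' Z) ≤ L.map (QuotientGroup.mk' Z) ↔ K ≤ L := by
  rw [Subgroup.map_le_map_iff, QuotientGroup.ker_mk', sup_eq_left.2 hZ]

theorem map_ne_top (Z : Subgroup G) [Z.Normal] {K : Subgroup G} (hZ : Z ≤ K) (h : K ≠ ⊤) :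
    K.map (QuotientGroup.mk' Z) ≠ ⊤ := by
  intro h1
  apply h
  rw [← comap_map Z hZ, h1, Subgroup.comap_top]

theorem normalizer_map (Z : Subgroup G) [Z.Normal] {K : Subgroup G} (hZ : Z ≤ K) :
    normalizer ((K.map (QuotientGroup.mk' Z) : Subgroup (G ⧸ Z)) : Set (G ⧸ Z)) =
      (normalizer (K : Set G)).map (QuotientGroup.mk' Z) := by
  have h1 := Subgroup.comap_normalizer_eq_of_surjective (K.map (QuotientGroup.mk' Z))
    (QuotientGroup.mk'_surjective Z)
  rw [comap_map Z hZ] at h1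
  rw [← h1, Subgroup.map_comap_eq_self_of_surjective (QuotientGroup.mk'_surjective Z)]

theorem relIndex_map (Z : Subgroup G) [Z.Normal] {K L : Subgroup G} (hZ : Z ≤ K) :
    (K.map (QuotientGroup.mk' Z)).relIndex (L.map (QuotientGroup.mk' Z)) = K.relIndex L := by
  rw [← Subgroup.relIndex_comap, comap_map Z hZ]

/-- overgroups `K, L` of `B ≥ Z`: compare `K.map q`, `L.map q` (`map_le_map`, `Subgroup.map_mono`). -/
theorem chain_of_map (Z : Subgroup G) [Z.Normal] {B : Subgroup G} (hZ : Z ≤ B)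
    (h : Chain (B.map (QuotientGroup.mk' Z))) : Chain B := by
  intro K L hK hL
  rcases h _ _ (Subgroup.map_mono hK) (Subgroup.map_mono hL) with h1 | h1
  · exact Or.inl ((map_le_map Z (hZ.trans hL)).1 h1)
  · exact Or.inr ((map_le_map Z (hZ.trans hK)).1 h1)

/-- `map_ne_top`, `normalizer_map`, `relIndex_map`. -/
theorem normP_of_map (Z : Subgroup G) [Z.Normal] {B : Subgroup G} (hZ : Z ≤ B)
    (h : NormP p (B.map (QuotientGroup.mk' Z))) : NormP p B := by
  intro K hK hne
  have h1 := h _ (Subgroup.map_mono hK) (map_ne_top Z (hZ.trans hK) hne)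
  rwa [normalizer_map Z (hZ.trans hK), relIndex_map Z (hZ.trans hK)] at h1

end Cfsg.Agent.Lib.H98SoftCorr
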