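import Cfsg.Agent.Lib.Helper98SoftDefs


/-! PROJECT 3811 (soft subgroups), PIECE N1. -/

namespace Cfsg.Agent.Lib.H98SoftN1

open Cfsg.Agent.Lib.Helper98SoftDefs Subgroup

variable {G : Type*} [Group G] {p : ℕ} {A : Subgroup G}

/-- `A` has prime index in `N₁ = N_G(A)`, so `N₁ = A ⊔ ⟨x⟩` for every `x ∈ N₁ \ A`. -/
theorem N1_eq_sup [Fact p.Prime] (hA : Soft p A) {x : G} (hx : x ∈ normalizer (A : Set G)) (hxA : x ∉ A) :
    normalizer (A : Set G) = A ⊔ zpowers x := by
  have hp : p.Prime := Fact.out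
  have hAN : A ≤ normalizer (A : Set G) := le_normalizer
  have h1 : A ≤ A ⊔ zpowers x := le_sup_left
  have h2 : A ⊔ zpowers x ≤ normalizer (A : Set G) := sup_le hAN (by simpa using hx)
  have h3 := relIndex_mul_relIndex A (A ⊔ zpowers x) (normalizer (A : Set G)) h1 h2
  rw [hA.idx] at h3
  have h4 : A.relIndex (A ⊔ zpowers x) ≠ 1 := by
    intro h
    rw [relIndex_eq_one] at h
    exact hxA (h (le_sup_right (a := A) (mem_zpowers x)))
  have h5 : A.relIndex (A ⊔ zpowers x) ∣ p := ⟨_, h3.symm⟩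
  have h6 : A.relIndex (A ⊔ zpowers x) = p := ((Nat.dvd_prime hp).1 h5).resolve_left h4
  rw [h6] at h3
  have h7 : (A ⊔ zpowers x).relIndex (normalizer (A : Set G)) = 1 := by
    have := hp.pos
    exact Nat.eq_of_mul_eq_mul_left this (by rw [h3, mul_one])
  rw [relIndex_eq_one] at h7
  exact le_antisymm h7 h2

/-- every overgroup `K ≠ A` of `A` contains `N₁`. -/
theorem N1_le [Finite G] [Fact p.Prime] (hG : IsPGroup p G) (hA : Soft p A) {K : Subgroup G} (hK : A ≤ K) (hne : K ≠ A) :
    normalizer (A : Set G) ≤ K := by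
  haveI : Group.IsNilpotent K := (hG.to_subgroup K).isNilpotent
  have hnc := Group.normalizerCondition_of_isNilpotent (G := K)
  have hlt : A.subgroupOf K < ⊤ := by
    rw [lt_top_iff_ne_top]
    intro h
    rw [subgroupOf_eq_top] at h
    exact hne (le_antisymm h hK)
  have h1 := hnc _ hlt
  obtain ⟨x, hxN, hxA⟩ := SetLike.exists_of_lt h1
  have hxA' : (x : G) ∉ A := fun h => hxA (mem_subgroupOf.2 h)
  have hxN' : (x : G) ∈ normalizer (A : Set G) := by
    rw [mem_normalizer_iff] at hxN ⊢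
    intro h
    constructor
    · intro hh
      have := (hxN ⟨h, hK hh⟩).1 (mem_subgroupOf.2 hh)
      simpa [mem_subgroupOf] using this
    · intro hh
      have hmem : h ∈ K := by
        have h2 : (x : G)⁻¹ * ((x : G) * h * (x : G)⁻¹) * (x : G) ∈ K :=
          K.mul_mem (K.mul_mem (K.inv_mem x.2) (hK hh)) x.2
        simpa [mul_assoc] using h2
      have := (hxN ⟨h, hmem⟩).2 (by simpa [mem_subgroupOf] using hh)
      simpa [mem_subgroupOf] using this
  rw [N1_eq_sup hA hxN' hxA']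
  exact sup_le hK (by simpa using x.2)

end Cfsg.Agent.Lib.H98SoftN1
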