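import Cfsg.Agent.Lib.Helper98SoftDefs
import Cfsg.Agent.Lib.H98SoftN1

/-! PROJECT 3811 (soft subgroups), PIECE Dich. -/

namespace Cfsg.Agent.Lib.H98SoftDich

open Cfsg.Agent.Lib.Helper98SoftDefs Subgroup

variable {G : Type*} [Group G] {p : ℕ} {A : Subgroup G}

open Cfsg.Agent.Lib.H98SoftN1

/-- the join of two commuting commutative subgroups is commutative -/
theorem sup_le_centralizer_sup {Q : Type*} [Group Q] (P R : Subgroup Q) (hP : P ≤ centralizer (P : Set Q))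
    (hR : R ≤ centralizer (R : Set Q)) (hPR : P ≤ centralizer (R : Set Q)) :
    P ⊔ R ≤ centralizer ((P ⊔ R : Subgroup Q) : Set Q) := by
  have h1 : P ⊔ R ≤ centralizer (P : Set Q) := sup_le hP (Subgroup.le_centralizer_iff.1 hPR)
  have h2 : P ⊔ R ≤ centralizer (R : Set Q) := sup_le hPR hR
  exact sup_le (Subgroup.le_centralizer_iff.1 h1) (Subgroup.le_centralizer_iff.1 h2)

/-- if some `x ∉ A` centralizes `A` modulo `Z ≤ A` then `N₁/Z` is abelian.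
`x a x⁻¹ = (x a x⁻¹ a⁻¹) a ∈ A`, the same for `x⁻¹` (`x⁻¹ a x a⁻¹ = x⁻¹ (x a⁻¹ x⁻¹ a)⁻¹... ∈ Z` as `Z` is normal), so `x ∈ N₁`, `N₁ = A ⊔ zpowers x` (`N1_eq_sup`).
`⁅N₁,N₁⁆ ≤ Z ↔` the image of `N₁` in `G ⧸ Z` is commutative; the image is generated by the commuting set `q(A) ∪ {q x}`:
e.g. `Subgroup.commutator_le`, `Subgroup.closure_induction₂`, or: `C = comap q (centralizer (q '' N₁))`-style arguments:
 first `A ⊔ zpowers x ≤ {g | ∀ a ∈ A, ⁅g,a⁆ ∈ Z}` (a subgroup as `Z` is normal), then `A ⊔ zpowers x ≤ {g | ∀ h ∈ N₁, ⁅g,h⁆ ∈ Z}`. -/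
theorem comm_le_of [Fact p.Prime] (hA : Soft p A) (Z : Subgroup G) [Z.Normal] (hZ : Z ≤ A) {x : G} (hx : x ∉ A)
    (h : ∀ a ∈ A, x * a * x⁻¹ * a⁻¹ ∈ Z) : ⁅normalizer (A : Set G), normalizer (A : Set G)⁆ ≤ Z := by
  have hxN : x ∈ normalizer (A : Set G) := by
    rw [Subgroup.mem_normalizer_iff]
    intro a
    constructor
    · intro ha
      have h1 := A.mul_mem (hZ (h a ha)) ha
      simpa using h1
    · intro hb
      -- `b = x a x⁻¹ ∈ A`, `x b x⁻¹ = z b`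
      have h1 := h _ hb
      have h2 : x⁻¹ * (x * (x * a * x⁻¹) * x⁻¹ * (x * a * x⁻¹)⁻¹) * x⁻¹⁻¹ ∈ Z :=
        ‹Z.Normal›.conj_mem _ h1 x⁻¹
      have h3 := A.mul_mem (A.inv_mem (hZ h2)) hb
      have h4 : (x⁻¹ * (x * (x * a * x⁻¹) * x⁻¹ * (x * a * x⁻¹)⁻¹) * x⁻¹⁻¹)⁻¹ * (x * a * x⁻¹) = a := by
        group
      rwa [h4] at h3
  have hN := N1_eq_sup hA hxN hx
  rw [← QuotientGroup.ker_mk' Z, ← Subgroup.map_eq_bot_iff, Subgroup.map_commutator,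
    Subgroup.commutator_eq_bot_iff_le_centralizer, hN, Subgroup.map_sup, MonoidHom.map_zpowers]
  apply sup_le_centralizer_sup
  · rintro _ ⟨a, ha, rfl⟩
    rw [Subgroup.mem_centralizer_iff]
    rintro _ ⟨b, hb, rfl⟩
    rw [← map_mul, ← map_mul, hA.comm _ ha _ hb]
  · rw [Subgroup.zpowers_le, Subgroup.mem_centralizer_iff]
    rintro _ ⟨n, rfl⟩
    exact ((Commute.refl _).zpow_left n)
  · rintro _ ⟨a, ha, rfl⟩
    rw [Subgroup.mem_centralizer_iff]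
    rintro _ ⟨n, rfl⟩
    have h1 : Commute ((QuotientGroup.mk' Z) x) ((QuotientGroup.mk' Z) a) := by
      have h2 := (QuotientGroup.eq_one_iff (N := Z) _).2 (h a ha)
      have h3 : (QuotientGroup.mk' Z) x * (QuotientGroup.mk' Z) a * ((QuotientGroup.mk' Z) x)⁻¹ *
          ((QuotientGroup.mk' Z) a)⁻¹ = 1 := by
        rw [← map_inv, ← map_inv, ← map_mul, ← map_mul, ← map_mul]
        exact h2
      rw [mul_inv_eq_one, mul_inv_eq_iff_eq_mul] at h3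
      exact h3
    exact (h1.zpow_left n)

end Cfsg.Agent.Lib.H98SoftDich
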