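import Cfsg.Agent.Lib.Helper98SoftDefs


/-! PROJECT 3811 (soft subgroups), PIECE M1. -/

namespace Cfsg.Agent.Lib.H98SoftM1

open Cfsg.Agent.Lib.Helper98SoftDefs Subgroup

variable {G : Type*} [Group G] {p : ℕ} {A : Subgroup G}

/-- the centre of a normal subgroup is normal. -/
theorem cen_normal (M : Subgroup G) [hM : M.Normal] : (cen M).Normal := by
  constructor
  intro n hn g
  have h1 : n ∈ M := hn.1
  have h2 : n ∈ centralizer (M : Set G) := hn.2
  refine Subgroup.mem_inf.2 ⟨hM.conj_mem n h1 g, ?_⟩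
  rw [Subgroup.mem_centralizer_iff] at h2 ⊢
  intro m hm
  have h3 := h2 (g⁻¹ * m * g) (by
    have := hM.conj_mem m hm g⁻¹
    simpa using this)
  calc m * (g * n * g⁻¹) = g * ((g⁻¹ * m * g) * n) * g⁻¹ := by group
    _ = g * (n * (g⁻¹ * m * g)) * g⁻¹ := by rw [h3]
    _ = g * n * g⁻¹ * m := by group

/-- `cen M ≤ centralizer M ≤ centralizer A ≤ A`. -/
theorem cen_le (hA : Soft p A) {M : Subgroup G} (hAM : A ≤ M) : cen M ≤ A :=
  (inf_le_right.trans (Subgroup.centralizer_le (by exact_mod_cast hAM))).trans hA.cent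

theorem mem_cen_iff {M : Subgroup G} {x : G} : x ∈ cen M ↔ x ∈ M ∧ ∀ m ∈ M, m * x = x * m := by
  unfold cen
  rw [Subgroup.mem_inf, Subgroup.mem_centralizer_iff]
  rfl

theorem coe_mem_cen_iff {M : Subgroup G} (x : M) : (x : G) ∈ cen M ↔ x ∈ Subgroup.center M := by
  rw [mem_cen_iff, Subgroup.mem_center_iff]
  constructor
  · rintro ⟨_, h⟩ m
    exact Subtype.ext (h m m.2)
  · intro h
    refine ⟨x.2, fun m hm => ?_⟩
    have := h ⟨m, hm⟩
    exact congrArg Subtype.val this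

/-- the centre of the nontrivial `p`-group `M` is nontrivial. -/
theorem cen_ne_bot [Finite G] [Fact p.Prime] (hG : IsPGroup p G) {M : Subgroup G} (hM : M ≠ ⊥) : cen M ≠ ⊥ := by
  have hMp : IsPGroup p M := hG.to_subgroup M
  have : Nontrivial M := (Subgroup.nontrivial_iff_ne_bot M).2 hM
  have hc := hMp.center_nontrivial
  obtain ⟨z, hz⟩ := exists_ne (1 : Subgroup.center M)
  intro hbot
  have h1 : ((z : M) : G) ∈ cen M := (coe_mem_cen_iff _).2 z.2
  rw [hbot, Subgroup.mem_bot] at h1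
  apply hz
  apply Subtype.ext
  apply Subtype.ext
  simpa using h1

/-- second centre. -/
theorem exists_second [Finite G] [Fact p.Prime] (hG : IsPGroup p G) {M : Subgroup G} (hM : ¬ M ≤ centralizer (M : Set G)) :
    ∃ y ∈ M, y ∉ cen M ∧ ∀ m ∈ M, y * m * y⁻¹ * m⁻¹ ∈ cen M := by
  have hMp : IsPGroup p M := hG.to_subgroup M
  have hQp : IsPGroup p (M ⧸ Subgroup.center M) := hMp.to_quotient _
  have hne : Subgroup.center M ≠ ⊤ := by
    intro htop
    apply hM
    intro x hx
    have h1 : (⟨x, hx⟩ : M) ∈ Subgroup.center M := by rw [htop]; trivial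
    have h2 := (coe_mem_cen_iff (⟨x, hx⟩ : M)).2 h1
    exact h2.2
  have : Nontrivial (M ⧸ Subgroup.center M) := by
    rw [QuotientGroup.nontrivial_iff]
    exact hne
  have hc := hQp.center_nontrivial
  obtain ⟨z, hz⟩ := exists_ne (1 : Subgroup.center (M ⧸ Subgroup.center M))
  obtain ⟨y, hy⟩ := QuotientGroup.mk_surjective (z : M ⧸ Subgroup.center M)
  refine ⟨y, y.2, ?_, ?_⟩
  · intro hmem
    have h1 := (coe_mem_cen_iff y).1 hmem
    apply hz
    apply Subtype.ext
    rw [← hy]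
    simpa using (QuotientGroup.eq_one_iff y).2 h1
  · intro m hm
    have h1 : (y * ⟨m, hm⟩ * y⁻¹ * (⟨m, hm⟩ : M)⁻¹ : M) ∈ Subgroup.center M := by
      rw [← QuotientGroup.eq_one_iff]
      have h2 := Subgroup.mem_center_iff.1 z.2 ((⟨m, hm⟩ : M) : M ⧸ Subgroup.center M)
      rw [← hy] at h2
      rw [QuotientGroup.mk_mul, QuotientGroup.mk_mul, QuotientGroup.mk_mul, QuotientGroup.mk_inv,
        QuotientGroup.mk_inv, ← h2]
      group
    have := (coe_mem_cen_iff _).2 h1
    simpa using this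

end Cfsg.Agent.Lib.H98SoftM1
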