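import Cfsg.Agent.Lib.Helper98SoftDefs


/-! PROJECT 3811 (soft subgroups), PIECE M2. -/

namespace Cfsg.Agent.Lib.H98SoftM2

open Cfsg.Agent.Lib.Helper98SoftDefs Subgroup

variable {G : Type*} [Group G] {p : ℕ} {A : Subgroup G}

/-- the normal closure of `A` is `M`. -/
theorem normalClosure_eq [Finite G] [Fact p.Prime] (hn : NormP p A) (M : Subgroup G) [M.Normal] (hAM : A ≤ M) (hne : M ≠ ⊤) :
    normalClosure (A : Set G) = M := by
  have hp : p.Prime := Fact.out
  have hCM : normalClosure (A : Set G) ≤ M := normalClosure_le_normal hAM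
  have hAC : A ≤ normalClosure (A : Set G) := subset_normalClosure
  have hCne : normalClosure (A : Set G) ≠ ⊤ := by
    intro h
    rw [h] at hCM
    exact hne (top_le_iff.1 hCM)
  have h1 := hn _ hAC hCne
  have h2 := hn M hAM hne
  rw [normalizer_eq_top, relIndex_top_right] at h1 h2
  have h3 := relIndex_mul_index hCM
  rw [h1, h2] at h3
  have h4 : (normalClosure (A : Set G)).relIndex M = 1 :=
    Nat.eq_of_mul_eq_mul_right hp.pos (by rw [h3, one_mul])
  rw [relIndex_eq_one] at h4
  exact le_antisymm hCM h4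

end Cfsg.Agent.Lib.H98SoftM2
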