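import Cfsg.Agent.Lib.Helper98SoftDefs
import Cfsg.Agent.Lib.H98SoftM1
import Cfsg.Agent.Lib.H98SoftM2
import Cfsg.Agent.Lib.H98SoftDich

/-! PROJECT 3811 (soft subgroups), PIECE M3. -/

namespace Cfsg.Agent.Lib.H98SoftM3

open Cfsg.Agent.Lib.Helper98SoftDefs Subgroup

variable {G : Type*} [Group G] {p : ℕ} {A : Subgroup G}

open Cfsg.Agent.Lib.H98SoftM1 Cfsg.Agent.Lib.H98SoftM2 Cfsg.Agent.Lib.H98SoftDich

/-- KEY STEP: `N₁ / Z(M)` is abelian for the normal maximal overgroup `M ≠ A`. -/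
theorem comm_le_cen [Finite G] [Fact p.Prime] (hG : IsPGroup p G) (hA : Soft p A) (hn : NormP p A) (M : Subgroup G) [hMn : M.Normal]
    [hZn : (cen M).Normal] (hAM : A ≤ M) (hne : M ≠ ⊤) (hMA : M ≠ A) :
    ⁅normalizer (A : Set G), normalizer (A : Set G)⁆ ≤ cen M := by
  have hnab : ¬ M ≤ centralizer (M : Set G) := by
    intro h
    apply hMA
    apply le_antisymm _ hAM
    exact (h.trans (Subgroup.centralizer_le (by exact_mod_cast hAM))).trans hA.cent
  obtain ⟨y0, hy0M, hy0, hy0c⟩ := exists_second hG hnab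
  by_cases hex : ∃ y ∈ M, (∀ m ∈ M, y * m * y⁻¹ * m⁻¹ ∈ cen M) ∧ y ∉ A
  · obtain ⟨y, hyM, hyc, hyA⟩ := hex
    exact comm_le_of hA (cen M) (cen_le hA hAM) hyA (fun a ha => hyc a (hAM ha))
  · exfalso
    push_neg at hex
    apply hy0
    refine Subgroup.mem_inf.2 ⟨hy0M, ?_⟩
    -- conjugates of y0 are in Y
    have hconj : ∀ g : G, g⁻¹ * y0 * g ∈ A := by
      intro g
      apply hex
      · have := hMn.conj_mem y0 hy0M g⁻¹
        simpa using this
      · intro m hm
        have h1 := hy0c (g * m * g⁻¹) (hMn.conj_mem m hm g)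
        have h2 := hZn.conj_mem _ h1 g⁻¹
        have h3 : g⁻¹ * (y0 * (g * m * g⁻¹) * y0⁻¹ * (g * m * g⁻¹)⁻¹) * g⁻¹⁻¹
            = g⁻¹ * y0 * g * m * (g⁻¹ * y0 * g)⁻¹ * m⁻¹ := by group
        rwa [h3] at h2
    have hle : normalClosure (A : Set G) ≤ centralizer ({y0} : Set G) := by
      rw [Subgroup.normalClosure, Subgroup.closure_le]
      intro x hx
      rw [Group.mem_conjugatesOfSet_iff] at hx
      obtain ⟨a, ha, hax⟩ := hx
      rw [isConj_iff] at hax
      obtain ⟨g, rfl⟩ := hax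
      rw [SetLike.mem_coe, Subgroup.mem_centralizer_singleton_iff]
      have h1 := hA.comm a ha _ (hconj g)
      calc g * a * g⁻¹ * y0 = g * (a * (g⁻¹ * y0 * g)) * g⁻¹ := by group
        _ = g * ((g⁻¹ * y0 * g) * a) * g⁻¹ := by rw [h1]
        _ = _ := by group
    rw [normalClosure_eq hn M hAM hne] at hle
    rw [Subgroup.mem_centralizer_iff]
    intro m hm
    have := hle hm
    rw [Subgroup.mem_centralizer_singleton_iff] at this
    exact this

end Cfsg.Agent.Lib.H98SoftM3
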