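import Cfsg.Agent.Lib.Helper98SoftDefs


/-! PROJECT 3811 (soft subgroups), PIECE N2a. -/

namespace Cfsg.Agent.Lib.H98SoftN2a

open Cfsg.Agent.Lib.Helper98SoftDefs Subgroup

variable {G : Type*} [Group G] {p : ℕ} {A : Subgroup G}

/-- conjugate of `A` by `y`. -/
def cj (A : Subgroup G) (y : G) : Subgroup G := A.map (MulAut.conj y).toMonoidHom

theorem mem_cj {A : Subgroup G} {y x : G} : x ∈ cj A y ↔ ∃ a ∈ A, y * a * y⁻¹ = x := by
  unfold cj
  rw [Subgroup.mem_map]
  rfl

theorem cj_one (A : Subgroup G) : cj A 1 = A := by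
  ext x
  rw [mem_cj]
  constructor
  · rintro ⟨a, ha, rfl⟩
    simpa using ha
  · intro hx
    exact ⟨x, hx, by simp⟩

theorem card_mul_relIndex' {H K : Subgroup G} (h : H ≤ K) : Nat.card H * H.relIndex K = Nat.card K := by
  rw [← Subgroup.relIndex_bot_left, ← Subgroup.relIndex_bot_left]
  exact Subgroup.relIndex_mul_relIndex ⊥ H K bot_le h

/-- STRUCTURE of the conjugates of `A` under `N₂ = N_G(N₁)`, `N₁ = N_G(A)`. -/
theorem cj_le (hA : Soft p A) {y : G} (hy : y ∈ normalizer ((normalizer (A : Set G) : Subgroup G) : Set G)) :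
    cj A y ≤ normalizer (A : Set G) := by
  intro x hx
  obtain ⟨a, ha, rfl⟩ := mem_cj.1 hx
  exact (Subgroup.mem_normalizer_iff.1 hy a).1 (Subgroup.le_normalizer ha)

theorem card_cj (A : Subgroup G) (y : G) : Nat.card (cj A y) = Nat.card A :=
  Nat.card_congr (A.equivMapOfInjective _ (MulAut.conj y).injective).toEquiv.symm

theorem cj_comm (hA : Soft p A) (y : G) : ∀ x ∈ cj A y, ∀ x' ∈ cj A y, x * x' = x' * x := by
  intro x hx x' hx'
  obtain ⟨a, ha, rfl⟩ := mem_cj.1 hx
  obtain ⟨b, hb, rfl⟩ := mem_cj.1 hx'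
  calc y * a * y⁻¹ * (y * b * y⁻¹) = y * (a * b) * y⁻¹ := by group
    _ = y * (b * a) * y⁻¹ := by rw [hA.comm a ha b hb]
    _ = _ := by group

theorem cj_cent (hA : Soft p A) (y : G) : centralizer (cj A y : Set G) ≤ cj A y := by
  intro x hx
  rw [Subgroup.mem_centralizer_iff] at hx
  refine mem_cj.2 ⟨y⁻¹ * x * y, ?_, by group⟩
  apply hA.cent
  rw [Subgroup.mem_centralizer_iff]
  intro a ha
  have h := hx (y * a * y⁻¹) (mem_cj.2 ⟨a, ha, rfl⟩)
  calc a * (y⁻¹ * x * y) = y⁻¹ * ((y * a * y⁻¹) * x) * y := by group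
    _ = y⁻¹ * (x * (y * a * y⁻¹)) * y := by rw [h]
    _ = _ := by group

theorem cj_relIndex [Finite G] [Fact p.Prime] (hA : Soft p A) {y : G}
    (hy : y ∈ normalizer ((normalizer (A : Set G) : Subgroup G) : Set G)) :
    (cj A y).relIndex (normalizer (A : Set G)) = p := by
  have h1 := card_mul_relIndex' (cj_le hA hy)
  have h2 := card_mul_relIndex' (Subgroup.le_normalizer (H := A))
  rw [hA.idx] at h2
  rw [card_cj, ← h2] at h1
  exact Nat.eq_of_mul_eq_mul_left Nat.card_pos h1

theorem cj_sup_cj [Finite G] [Fact p.Prime] (hA : Soft p A) {y y' : G}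
    (hy : y ∈ normalizer ((normalizer (A : Set G) : Subgroup G) : Set G))
    (hy' : y' ∈ normalizer ((normalizer (A : Set G) : Subgroup G) : Set G)) (hne : cj A y ≠ cj A y') :
    cj A y ⊔ cj A y' = normalizer (A : Set G) := by
  have hle : cj A y ⊔ cj A y' ≤ normalizer (A : Set G) := sup_le (cj_le hA hy) (cj_le hA hy')
  have h1 := Subgroup.relIndex_mul_relIndex (cj A y) (cj A y ⊔ cj A y') _ le_sup_left hle
  rw [cj_relIndex hA hy] at h1
  have hp : p.Prime := Fact.out
  have h2 : (cj A y).relIndex (cj A y ⊔ cj A y') ≠ 1 := by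
    intro h
    rw [Subgroup.relIndex_eq_one] at h
    have h3 : cj A y' ≤ cj A y := le_sup_right.trans h
    apply hne
    symm
    apply Subgroup.eq_of_le_of_card_ge h3
    rw [card_cj, card_cj]
  have h3 : (cj A y).relIndex (cj A y ⊔ cj A y') ∣ p := Dvd.intro _ h1
  have h4 := (Nat.dvd_prime hp).1 h3
  have h5 : (cj A y).relIndex (cj A y ⊔ cj A y') = p := h4.resolve_left h2
  rw [h5] at h1
  have h6 : (cj A y ⊔ cj A y').relIndex (normalizer (A : Set G)) = 1 := by
    have : p * (cj A y ⊔ cj A y').relIndex (normalizer (A : Set G)) = p * 1 := by rw [h1, mul_one]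
    exact Nat.eq_of_mul_eq_mul_left hp.pos this
  rw [Subgroup.relIndex_eq_one] at h6
  exact le_antisymm hle h6

theorem cj_inf_cj [Finite G] [Fact p.Prime] (hA : Soft p A) {y y' : G}
    (hy : y ∈ normalizer ((normalizer (A : Set G) : Subgroup G) : Set G))
    (hy' : y' ∈ normalizer ((normalizer (A : Set G) : Subgroup G) : Set G)) (hne : cj A y ≠ cj A y') :
    cj A y ⊓ cj A y' = cen (normalizer (A : Set G)) := by
  apply le_antisymm
  · intro z hz
    obtain ⟨hz1, hz2⟩ := Subgroup.mem_inf.1 hz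
    refine Subgroup.mem_inf.2 ⟨cj_le hA hy hz1, ?_⟩
    have h1 : normalizer (A : Set G) ≤ centralizer ({z} : Set G) := by
      rw [← cj_sup_cj hA hy hy' hne]
      apply sup_le
      · intro x hx
        rw [Subgroup.mem_centralizer_singleton_iff]
        exact cj_comm hA y x hx z hz1
      · intro x hx
        rw [Subgroup.mem_centralizer_singleton_iff]
        exact cj_comm hA y' x hx z hz2
    rw [Subgroup.mem_centralizer_iff]
    intro m hm
    have := h1 hm
    rw [Subgroup.mem_centralizer_singleton_iff] at this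
    exact this
  · apply le_inf
    · exact (inf_le_right.trans (Subgroup.centralizer_le (by exact_mod_cast cj_le hA hy))).trans
        (cj_cent hA y)
    · exact (inf_le_right.trans (Subgroup.centralizer_le (by exact_mod_cast cj_le hA hy'))).trans
        (cj_cent hA y')

/-- if there are two different conjugates then `|A| = p |Z₁|`. -/
theorem card_A_eq [Finite G] [Fact p.Prime] (hA : Soft p A) {y : G}
    (hy : y ∈ normalizer ((normalizer (A : Set G) : Subgroup G) : Set G)) (hne : cj A y ≠ A) :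
    Nat.card A = p * Nat.card (cen (normalizer (A : Set G))) := by
  have h1 : (1 : G) ∈ normalizer ((normalizer (A : Set G) : Subgroup G) : Set G) := one_mem _
  have hne' : cj A y ≠ cj A 1 := by rwa [cj_one]
  have hinf := cj_inf_cj hA hy h1 hne'
  have hsup := cj_sup_cj hA hy h1 hne'
  rw [cj_one] at hinf hsup
  have hle : cj A y ≤ normalizer (A : Set G) := cj_le hA hy
  have h2 : A.relIndex (cj A y) = A.relIndex (cj A y ⊔ A) := by
    letI := Subgroup.normal_subgroupOf_of_le_normalizer hle
    letI := Subgroup.normal_subgroupOf_sup_of_le_normalizer hle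
    exact Nat.card_congr (QuotientGroup.quotientInfEquivProdNormalizerQuotient (cj A y) A hle).toEquiv
  rw [hsup, hA.idx, ← Subgroup.inf_relIndex_right, inf_comm, hinf] at h2
  have h3 := card_mul_relIndex' (H := cen (normalizer (A : Set G))) (K := cj A y) (by
    rw [← hinf]; exact inf_le_left)
  rw [h2, card_cj] at h3
  rw [← h3, mul_comm]

end Cfsg.Agent.Lib.H98SoftN2a
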