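import Cfsg.Agent.Lib.Helper98SoftDefs
import Cfsg.Agent.Lib.H98SoftN2a
import Cfsg.Agent.Lib.H98SoftN2b

/-! PROJECT 3811 (soft subgroups), PIECE N2. -/

namespace Cfsg.Agent.Lib.H98SoftN2

open Cfsg.Agent.Lib.Helper98SoftDefs Subgroup

variable {G : Type*} [Group G] {p : ℕ} {A : Subgroup G}

open Cfsg.Agent.Lib.H98SoftN2a Cfsg.Agent.Lib.H98SoftN2b

theorem mem_cj' {A : Subgroup G} {y x : G} : x ∈ cj A y ↔ y⁻¹ * x * y ∈ A := by
  rw [mem_cj]
  constructor
  · rintro ⟨a, ha, rfl⟩
    have : y⁻¹ * (y * a * y⁻¹) * y = a := by group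
    rwa [this]
  · intro h
    exact ⟨_, h, by group⟩

theorem mem_normalizer_of_cj_eq {A : Subgroup G} {y y' : G} (h : cj A y = cj A y') :
    y⁻¹ * y' ∈ normalizer (A : Set G) := by
  rw [Subgroup.mem_normalizer_iff]
  intro a
  have h1 : a ∈ A ↔ y' * a * y'⁻¹ ∈ cj A y' := by
    rw [mem_cj']
    have : y'⁻¹ * (y' * a * y'⁻¹) * y' = a := by group
    rw [this]
  rw [h1, ← h, mem_cj']
  have : y⁻¹ * (y' * a * y'⁻¹) * y = y⁻¹ * y' * a * (y⁻¹ * y')⁻¹ := by group
  rw [this]

open Classical in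
/-- a subgroup as a finset. -/
noncomputable def fs [Fintype G] (H : Subgroup G) : Finset G := Finset.univ.filter (· ∈ H)

theorem mem_fs [Fintype G] {H : Subgroup G} {x : G} : x ∈ fs H ↔ x ∈ H := by
  simp [fs]

theorem card_fs [Fintype G] (H : Subgroup G) : (fs H).card = Nat.card H := by
  rw [← Set.ncard_coe_finset]
  have : ((fs H : Finset G) : Set G) = (H : Set G) := by
    ext x
    simp [mem_fs]
  rw [this]
  rfl

theorem fs_inj [Fintype G] {H K : Subgroup G} (h : fs H = fs K) : H = K := by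
  ext x
  rw [← mem_fs, h, mem_fs]

theorem idx_N2 [Finite G] [Fact p.Prime] (hG : IsPGroup p G) (hA : Soft p A) (hne : normalizer (A : Set G) ≠ ⊤) :
    (normalizer (A : Set G)).relIndex (normalizer ((normalizer (A : Set G) : Subgroup G) : Set G)) = p := by
  classical
  have hp : p.Prime := Fact.out
  letI : Fintype G := Fintype.ofFinite G
  set N₁ := normalizer (A : Set G) with hN₁
  set N₂ := normalizer (N₁ : Set G) with hN₂
  haveI : Group.IsNilpotent G := hG.isNilpotent
  have hlt : N₁ < N₂ := Group.normalizerCondition_of_isNilpotent N₁ (lt_top_iff_ne_top.2 hne)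
  obtain ⟨j, hj⟩ := (hG.to_subgroup N₂).index (N₁.subgroupOf N₂)
  have hj' : N₁.relIndex N₂ = p ^ j := hj
  have hj0 : j ≠ 0 := by
    rintro rfl
    rw [pow_zero, Subgroup.relIndex_eq_one] at hj'
    exact absurd hj' (not_le_of_gt hlt)
  -- an element outside
  obtain ⟨y0, hy0, hy0'⟩ := SetLike.exists_of_lt hlt
  have hcj0 : cj A y0 ≠ A := by
    intro h
    have h1 : cj A 1 = cj A y0 := by rw [cj_one, h]
    have := mem_normalizer_of_cj_eq h1
    apply hy0'
    simpa using this
  have hcA := card_A_eq hA hy0 hcj0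
  set z := Nat.card (cen N₁) with hz
  have hz0 : 0 < z := Nat.card_pos
  have hcN : Nat.card N₁ = p ^ 2 * z := by
    have h2 := card_mul_relIndex' (Subgroup.le_normalizer (H := A))
    rw [hA.idx, hcA] at h2
    rw [← h2]; ring
  -- the family
  let f : N₂ ⧸ N₁.subgroupOf N₂ → Finset G := fun q => fs (cj A ((q.out : N₂) : G))
  have hf : Function.Injective f := by
    intro q q' hqq
    have h1 : cj A ((q.out : N₂) : G) = cj A ((q'.out : N₂) : G) := fs_inj hqq
    have h2 := mem_normalizer_of_cj_eq h1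
    rw [← q.out_eq', ← q'.out_eq']
    rw [QuotientGroup.eq]
    exact h2
  have hcard : (Finset.univ.image f).card = N₁.relIndex N₂ := by
    rw [Finset.card_image_of_injective _ hf, Finset.card_univ, ← Nat.card_eq_fintype_card]
    rfl
  have hle := card_family_le p z hp.one_lt hz0 (fs N₁) (fs (cen N₁)) (Finset.univ.image f)
    (by rw [card_fs, hcN]) (by rw [card_fs])
    (by
      intro X hX
      obtain ⟨q, -, rfl⟩ := Finset.mem_image.1 hX
      intro x hx
      exact mem_fs.2 (cj_le hA (q.out : N₂).2 (mem_fs.1 hx)))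
    (by
      intro X hX
      obtain ⟨q, -, rfl⟩ := Finset.mem_image.1 hX
      intro x hx
      refine mem_fs.2 ?_
      exact ((inf_le_right.trans (Subgroup.centralizer_le
        (by exact_mod_cast cj_le hA (q.out : N₂).2))).trans (cj_cent hA _)) (mem_fs.1 hx))
    (by
      intro X hX
      obtain ⟨q, -, rfl⟩ := Finset.mem_image.1 hX
      show (fs _).card = _
      rw [card_fs, card_cj, hcA])
    (by
      intro X hX Y hY hXY
      obtain ⟨q, -, rfl⟩ := Finset.mem_image.1 hX
      obtain ⟨q', -, rfl⟩ := Finset.mem_image.1 hY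
      have hne' : cj A ((q.out : N₂) : G) ≠ cj A ((q'.out : N₂) : G) := by
        intro h
        apply hXY
        show fs _ = fs _
        rw [h]
      have := cj_inf_cj hA (q.out : N₂).2 (q'.out : N₂).2 hne'
      ext x
      rw [Finset.mem_inter]
      show x ∈ fs _ ∧ x ∈ fs _ ↔ _
      rw [mem_fs, mem_fs, mem_fs, ← this, Subgroup.mem_inf])
  rw [hcard, hj'] at hle
  rw [hj']
  have hj1 : j = 1 := by
    by_contra h
    have h2 : 2 ≤ j := by omega
    have h3 : p ^ 2 ≤ p ^ j := Nat.pow_le_pow_right hp.pos h2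
    have h4 := hp.two_le
    nlinarith
  rw [hj1, pow_one]

end Cfsg.Agent.Lib.H98SoftN2
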