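import Cfsg.Agent.Lib.Helper98SoftDefs
import Cfsg.Agent.Lib.H98SoftCorr

/-! PROJECT 3811 (soft subgroups), PIECE Q1. -/

namespace Cfsg.Agent.Lib.H98SoftQ1

open Cfsg.Agent.Lib.Helper98SoftDefs Subgroup

variable {G : Type*} [Group G] {p : ℕ} {A : Subgroup G}

open Cfsg.Agent.Lib.H98SoftCorr

/-- CASE 1: `A/Z` is soft in `G/Z`. -/
theorem soft_map_A (hA : Soft p A) (Z : Subgroup G) [Z.Normal] (hZ : Z ≤ A)
    (h : ∀ x, (∀ a ∈ A, x * a * x⁻¹ * a⁻¹ ∈ Z) → x ∈ A) : Soft p (A.map (QuotientGroup.mk' Z)) := by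
  refine ⟨?_, ?_, ?_⟩
  · rintro _ ⟨x, hx, rfl⟩ _ ⟨y, hy, rfl⟩
    rw [← map_mul, ← map_mul, hA.comm x hx y hy]
  · intro xb hxb
    obtain ⟨x, rfl⟩ := QuotientGroup.mk'_surjective Z xb
    refine mem_map_of_mem _ (h x ?_)
    intro a ha
    rw [mem_centralizer_iff] at hxb
    have h1 := hxb (QuotientGroup.mk' Z a) (mem_map_of_mem _ ha)
    rw [← QuotientGroup.eq_one_iff]
    have h2 : ((x * a * x⁻¹ * a⁻¹ : G) : G ⧸ Z) =
        QuotientGroup.mk' Z x * QuotientGroup.mk' Z a * (QuotientGroup.mk' Z x)⁻¹ * (QuotientGroup.mk' Z a)⁻¹ := by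
      simp
    rw [h2, ← h1]
    group
  · rw [normalizer_map Z hZ, relIndex_map Z hZ, hA.idx]

end Cfsg.Agent.Lib.H98SoftQ1
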