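import Cfsg.Agent.Lib.Helper98SoftDefs
import Cfsg.Agent.Lib.H98SoftCorr

/-! PROJECT 3811 (soft subgroups), PIECE Q2. -/

namespace Cfsg.Agent.Lib.H98SoftQ2

open Cfsg.Agent.Lib.Helper98SoftDefs Subgroup

variable {G : Type*} [Group G] {p : ℕ} {A : Subgroup G}

open Cfsg.Agent.Lib.H98SoftCorr
open scoped commutatorElement

/-- CASE 2: `N₁/Z` is soft in `G/Z`. -/
theorem soft_map_N1 (hA : Soft p A) (Z : Subgroup G) [Z.Normal] (hZ : Z ≤ A)
    (hc : ⁅normalizer (A : Set G), normalizer (A : Set G)⁆ ≤ Z)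
    (hidx : (normalizer (A : Set G)).relIndex (normalizer ((normalizer (A : Set G) : Subgroup G) : Set G)) = p) :
    Soft p ((normalizer (A : Set G)).map (QuotientGroup.mk' Z)) := by
  have hAN : A ≤ normalizer (A : Set G) := le_normalizer
  have hZN : Z ≤ normalizer (A : Set G) := hZ.trans hAN
  refine ⟨?_, ?_, ?_⟩
  · rintro _ ⟨x, hx, rfl⟩ _ ⟨y, hy, rfl⟩
    have h1 : ⁅x, y⁆ ∈ Z := hc (commutator_mem_commutator hx hy)
    rw [← QuotientGroup.eq_one_iff] at h1
    have h2 : ((⁅x, y⁆ : G) : G ⧸ Z) =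
        QuotientGroup.mk' Z x * QuotientGroup.mk' Z y * (QuotientGroup.mk' Z x)⁻¹ * (QuotientGroup.mk' Z y)⁻¹ := by
      simp [commutatorElement_def]
    rw [h2] at h1
    have h3 := mul_inv_eq_one.1 h1
    exact mul_inv_eq_iff_eq_mul.1 h3
  · intro xb hxb
    obtain ⟨x, rfl⟩ := QuotientGroup.mk'_surjective Z xb
    refine mem_map_of_mem _ ?_
    rw [mem_centralizer_iff] at hxb
    have key : ∀ a ∈ A, x * a * x⁻¹ * a⁻¹ ∈ Z := by
      intro a ha
      have h1 := hxb (QuotientGroup.mk' Z a) (mem_map_of_mem _ (hAN ha))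
      rw [← QuotientGroup.eq_one_iff]
      have h2 : ((x * a * x⁻¹ * a⁻¹ : G) : G ⧸ Z) =
          QuotientGroup.mk' Z x * QuotientGroup.mk' Z a * (QuotientGroup.mk' Z x)⁻¹ * (QuotientGroup.mk' Z a)⁻¹ := by
        simp
      rw [h2, ← h1]
      group
    have key' : ∀ a ∈ A, x⁻¹ * a * x * a⁻¹ ∈ Z := by
      intro a ha
      have h1 := hxb (QuotientGroup.mk' Z a) (mem_map_of_mem _ (hAN ha))
      rw [← QuotientGroup.eq_one_iff]
      have h2 : ((x⁻¹ * a * x * a⁻¹ : G) : G ⧸ Z) =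
          (QuotientGroup.mk' Z x)⁻¹ * (QuotientGroup.mk' Z a * QuotientGroup.mk' Z x) * (QuotientGroup.mk' Z a)⁻¹ := by
        simp [mul_assoc]
      rw [h2, h1]
      group
    rw [mem_normalizer_iff]
    intro a
    constructor
    · intro ha
      have := A.mul_mem (hZ (key a ha)) ha
      simpa using this
    · intro ha
      have := A.mul_mem (hZ (key' _ ha)) ha
      simpa [mul_assoc] using this
  · rw [normalizer_map Z hZN, relIndex_map Z hZN, hidx]

end Cfsg.Agent.Lib.H98SoftQ2
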