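import Cfsg.Agent.Lib.Helper98SoftDefs


/-! PROJECT 3811 (soft subgroups), PIECE Sub. -/

namespace Cfsg.Agent.Lib.H98SoftSub

open Cfsg.Agent.Lib.Helper98SoftDefs Subgroup

variable {G : Type*} [Group G] {p : ℕ} {A : Subgroup G}

theorem normalizer_subgroupOf' {H : Subgroup G} (hAH : A ≤ H) :
    normalizer ((A.subgroupOf H : Subgroup H) : Set H) = (normalizer (A : Set G)).subgroupOf H := by
  ext x
  rw [Subgroup.mem_subgroupOf, Subgroup.mem_normalizer_iff, Subgroup.mem_normalizer_iff]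
  constructor
  · intro h y
    constructor
    · intro hy
      have := (h ⟨y, hAH hy⟩).1 (by rw [Subgroup.mem_subgroupOf]; exact hy)
      rw [Subgroup.mem_subgroupOf] at this
      simpa using this
    · intro hy
      have hyH : y ∈ H := by
        have h1 : (x : G)⁻¹ * ((x : G) * y * (x : G)⁻¹) * (x : G) ∈ H :=
          H.mul_mem (H.mul_mem (H.inv_mem x.2) (hAH hy)) x.2
        simpa [mul_assoc] using h1
      have := (h ⟨y, hyH⟩).2 (by rw [Subgroup.mem_subgroupOf]; simpa using hy)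
      rw [Subgroup.mem_subgroupOf] at this
      simpa using this
  · intro h y
    rw [Subgroup.mem_subgroupOf, Subgroup.mem_subgroupOf]
    simpa using h (y : G)

/-- `A` is soft in every subgroup `H ⊇ N₁`.  cent: `x : H` centralizing `A.subgroupOf H` ⇒ `x.1 ∈ centralizer A`.
idx: `normalizer (A.subgroupOf H) = (normalizer A).subgroupOf H` (`Subgroup.mem_normalizer_iff`, for `⊇` and `⊆` use `A ≤ H`),
`Subgroup.relIndex_subgroupOf`. -/
theorem soft_subgroupOf (hA : Soft p A) (H : Subgroup G) (hH : normalizer (A : Set G) ≤ H) : Soft p (A.subgroupOf H) := by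
  have hAH : A ≤ H := Subgroup.le_normalizer.trans hH
  refine ⟨?_, ?_, ?_⟩
  · intro x hx y hy
    rw [Subgroup.mem_subgroupOf] at hx hy
    exact Subtype.ext (hA.comm _ hx _ hy)
  · intro x hx
    rw [Subgroup.mem_subgroupOf]
    apply hA.cent
    rw [Subgroup.mem_centralizer_iff] at hx ⊢
    intro a ha
    have := hx ⟨a, hAH ha⟩ (by
      show (⟨a, hAH ha⟩ : H) ∈ A.subgroupOf H
      rw [Subgroup.mem_subgroupOf]; exact ha)
    simpa using congrArg Subtype.val this
  · rw [normalizer_subgroupOf' hAH, Subgroup.relIndex_subgroupOf hH]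
    exact hA.idx

/-- `Subgroup.map_lowerCentralSeries` with `H.subtype`, `Subgroup.map_subgroupOf_eq_of_le`, `Subgroup.map_eq_bot_iff_of_injective`. -/
theorem lcs_subgroupOf {K H : Subgroup G} (hKH : K ≤ H) (j : ℕ) :
    (K.subgroupOf H).lowerCentralSeries j = ⊥ ↔ K.lowerCentralSeries j = ⊥ := by
  rw [← Subgroup.map_eq_bot_iff_of_injective _ H.subtype_injective, Subgroup.map_lowerCentralSeries,
    Subgroup.map_subgroupOf_eq_of_le hKH]

/-- apply `h` to `K.subgroupOf H` (`≠ ⊤` by `Subgroup.subgroupOf_eq_top`; `Subgroup.subgroupOf_le_subgroupOf`-type monotonicity;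
`Subgroup.relIndex_subgroupOf`), then `lcs_subgroupOf`. -/
theorem classP_of_sub {H : Subgroup G} (h : ClassP p (A.subgroupOf H)) (i : ℕ) {K : Subgroup G} (hAK : A ≤ K) (hKH : K ≤ H)
    (hne : K ≠ H) (hi : A.relIndex K = p ^ i) : K.lowerCentralSeries (i + 1) = ⊥ ∧ K.lowerCentralSeries i ≠ ⊥ := by
  have h1 := h i (K.subgroupOf H) ?_ ?_ ?_
  · rw [lcs_subgroupOf hKH, Ne, lcs_subgroupOf hKH] at h1
    exact h1
  · intro x hx
    rw [Subgroup.mem_subgroupOf] at hx ⊢
    exact hAK hx
  · rw [Ne, Subgroup.subgroupOf_eq_top]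
    intro h2
    exact hne (le_antisymm hKH h2)
  · rw [Subgroup.relIndex_subgroupOf hKH]
    exact hi

end Cfsg.Agent.Lib.H98SoftSub
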