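import Cfsg.Agent.Lib.Helper98SoftDefs
import Cfsg.Agent.Lib.H98SoftN1

/-! PROJECT 3811 (soft subgroups), PIECE Up. -/

namespace Cfsg.Agent.Lib.H98SoftUp

open Cfsg.Agent.Lib.Helper98SoftDefs Subgroup

variable {G : Type*} [Group G] {p : ℕ} {A : Subgroup G}

open Cfsg.Agent.Lib.H98SoftN1

/-- an overgroup of `A` is `A` or contains `N₁` (`N1_le`). -/
theorem chain_up [Finite G] [Fact p.Prime] (hG : IsPGroup p G) (hA : Soft p A) (h : Chain (normalizer (A : Set G))) : Chain A := by
  intro K L hK hL
  by_cases hKA : K = A
  · left; rw [hKA]; exact hL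
  by_cases hLA : L = A
  · right; rw [hLA]; exact hK
  exact h K L (N1_le hG hA hK hKA) (N1_le hG hA hL hLA)

theorem normP_up [Finite G] [Fact p.Prime] (hG : IsPGroup p G) (hA : Soft p A) (h : NormP p (normalizer (A : Set G))) : NormP p A := by
  intro K hK hne
  by_cases hKA : K = A
  · rw [hKA]; exact hA.idx
  exact h K (N1_le hG hA hK hKA) hne

/-- if `N₁ = ⊤` the only overgroups are `A` and `⊤`. -/
theorem chain_of_top [Finite G] [Fact p.Prime] (hG : IsPGroup p G) (hA : Soft p A) (h : normalizer (A : Set G) = ⊤) : Chain A ∧ NormP p A := by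
  have key : ∀ K : Subgroup G, A ≤ K → K = A ∨ K = ⊤ := by
    intro K hK
    by_cases hKA : K = A
    · exact Or.inl hKA
    · right
      have := N1_le hG hA hK hKA
      rw [h] at this
      exact top_le_iff.1 this
  constructor
  · intro K L hK hL
    rcases key K hK with rfl | rfl
    · exact Or.inl hL
    · exact Or.inr le_top
  · intro K hK hne
    rcases key K hK with rfl | rfl
    · exact hA.idx
    · exact absurd rfl hne

/-- `A` has class exactly 1. -/
theorem class_A [Fact p.Prime] (hA : Soft p A) : A.lowerCentralSeries 1 = ⊥ ∧ A.lowerCentralSeries 0 ≠ ⊥ := by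
  have hp : p.Prime := Fact.out
  constructor
  · rw [show (1:ℕ) = 0 + 1 from rfl, Subgroup.lowerCentralSeries_succ, Subgroup.lowerCentralSeries_zero, commutator_eq_bot_iff_le_centralizer]
    intro x hx
    rw [mem_centralizer_iff]
    intro y hy
    exact hA.comm y hy x hx
  · rw [Subgroup.lowerCentralSeries_zero]
    intro h
    have h1 := hA.idx
    have h2 : normalizer (A : Set G) ≤ A := by
      refine le_trans ?_ hA.cent
      intro x _
      rw [mem_centralizer_iff]
      intro y hy
      have : y = 1 := by
        have : y ∈ A := hy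
        rw [h] at this
        exact mem_bot.1 this
      rw [this]; simp
    rw [relIndex_eq_one.2 h2] at h1
    exact hp.one_lt.ne h1

end Cfsg.Agent.Lib.H98SoftUp
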