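import Cfsg.Agent.Lib.H98SoftN1
import Cfsg.Agent.Lib.H98SoftN2
import Cfsg.Agent.Lib.H98SoftCorr
import Cfsg.Agent.Lib.H98SoftQ1
import Cfsg.Agent.Lib.H98SoftQ2
import Cfsg.Agent.Lib.H98SoftDich
import Cfsg.Agent.Lib.H98SoftUp
import Cfsg.Agent.Lib.H98SoftSub
import Cfsg.Agent.Lib.H98SoftM1
import Cfsg.Agent.Lib.H98SoftM3
import Cfsg.Agent.Lib.H98SoftCls

/-! PROJECT 3811 (soft subgroups): the main induction. -/

namespace Cfsg.Agent.Lib.H98SoftMain

open Cfsg.Agent.Lib.Helper98SoftDefs Subgroup
open Cfsg.Agent.Lib.H98SoftN1 Cfsg.Agent.Lib.H98SoftN2 Cfsg.Agent.Lib.H98SoftCorr Cfsg.Agent.Lib.H98SoftQ1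
  Cfsg.Agent.Lib.H98SoftQ2 Cfsg.Agent.Lib.H98SoftDich Cfsg.Agent.Lib.H98SoftUp Cfsg.Agent.Lib.H98SoftSub
  Cfsg.Agent.Lib.H98SoftM1 Cfsg.Agent.Lib.H98SoftM3 Cfsg.Agent.Lib.H98SoftCls

universe u

theorem card_quot_lt {G : Type u} [Group G] [Finite G] (Z : Subgroup G) (hZ : Z ≠ ⊥) :
    Nat.card (G ⧸ Z) < Nat.card G := by
  have h1 : Nat.card Z * Z.index = Nat.card G := Z.card_mul_index
  have h2 : 1 < Nat.card Z := by
    rw [Finite.one_lt_card_iff_nontrivial]
    exact (Subgroup.nontrivial_iff_ne_bot Z).2 hZ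
  have h3 : 0 < Z.index := Nat.pos_of_ne_zero Z.index_ne_zero_of_finite
  have h4 : Nat.card (G ⧸ Z) = Z.index := rfl
  rw [h4, ← h1]
  nlinarith

theorem card_sub_lt {G : Type u} [Group G] [Finite G] (H : Subgroup G) (hH : H ≠ ⊤) :
    Nat.card H < Nat.card G := by
  have h1 : Nat.card H * H.index = Nat.card G := H.card_mul_index
  have h2 : H.index ≠ 1 := fun h => hH (Subgroup.index_eq_one.1 h)
  have h3 : 0 < H.index := Nat.pos_of_ne_zero H.index_ne_zero_of_finite
  have h4 : 0 < Nat.card H := Nat.card_pos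
  rw [← h1]
  have : 2 ≤ H.index := by omega
  nlinarith

theorem main (p : ℕ) [Fact p.Prime] : ∀ (n : ℕ) (G : Type u) [Group G] [Finite G], Nat.card G = n →
    IsPGroup p G → ∀ A : Subgroup G, Soft p A → Chain A ∧ NormP p A ∧ ClassP p A := by
  intro n
  induction n using Nat.strong_induction_on with
  | _ n ih =>
  intro G _ _ hn hG A hA
  have hp : p.Prime := Fact.out
  have hAN : A ≤ normalizer (A : Set G) := le_normalizer
  have hAB : Chain A ∧ NormP p A := by
    by_cases hN : normalizer (A : Set G) = ⊤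
    · exact chain_of_top hG hA hN
    · have hnt : Nontrivial G := by
        by_contra h
        rw [not_nontrivial_iff_subsingleton] at h
        exact hN (Subsingleton.elim _ _)
      have hZne : center G ≠ ⊥ := by
        have := hG.center_nontrivial
        exact (Subgroup.nontrivial_iff_ne_bot _).1 this
      have hZA : center G ≤ A := (Subgroup.center_le_centralizer _).trans hA.cent
      have hlt : Nat.card (G ⧸ center G) < n := hn ▸ card_quot_lt _ hZne
      by_cases h : ∀ x, (∀ a ∈ A, x * a * x⁻¹ * a⁻¹ ∈ center G) → x ∈ A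
      · have hs := soft_map_A hA (center G) hZA h
        obtain ⟨c, d, _⟩ := ih _ hlt (G ⧸ center G) rfl (hG.to_quotient _) _ hs
        exact ⟨chain_of_map _ hZA c, normP_of_map _ hZA d⟩
      · push Not at h
        obtain ⟨x, hx, hxA⟩ := h
        have hc := comm_le_of hA (center G) hZA hxA hx
        have hs := soft_map_N1 hA (center G) hZA hc (idx_N2 hG hA hN)
        obtain ⟨c, d, _⟩ := ih _ hlt (G ⧸ center G) rfl (hG.to_quotient _) _ hs
        exact ⟨chain_up hG hA (chain_of_map _ (hZA.trans hAN) c),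
          normP_up hG hA (normP_of_map _ (hZA.trans hAN) d)⟩
  refine ⟨hAB.1, hAB.2, ?_⟩
  intro i K hAK hK hi
  by_cases hKA : K = A
  · subst hKA
    rw [relIndex_self] at hi
    have hi0 : i = 0 := by
      by_contra h
      have : 1 < p ^ i := Nat.one_lt_pow h hp.one_lt
      omega
    subst hi0
    exact class_A hA
  · have hN1K := N1_le hG hA hAK hKA
    have hKH : K ≤ normalizer (K : Set G) := le_normalizer
    have hidx := hAB.2 K hAK hK
    have hKneH : K ≠ normalizer (K : Set G) := by
      intro h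
      rw [← h, relIndex_self] at hidx
      exact hp.one_lt.ne hidx
    by_cases hH : normalizer (K : Set G) = ⊤
    · have hKn : K.Normal := normalizer_eq_top_iff.1 hH
      have hcn : (cen K).Normal := cen_normal K
      have hZA := cen_le hA hAK
      have hKbot : K ≠ ⊥ := by
        intro h
        apply hKA
        rw [h] at hAK ⊢
        exact (le_bot_iff.1 hAK).symm
      have hZne := cen_ne_bot hG hKbot
      have hc := comm_le_cen hG hA hAB.2 K hAK hK hKA
      have hN : normalizer (A : Set G) ≠ ⊤ := by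
        intro h
        rw [h] at hN1K
        exact hK (top_le_iff.1 hN1K)
      have hs := soft_map_N1 hA (cen K) hZA hc (idx_N2 hG hA hN)
      have hlt : Nat.card (G ⧸ cen K) < n := hn ▸ card_quot_lt _ hZne
      obtain ⟨_, _, e⟩ := ih _ hlt (G ⧸ cen K) rfl (hG.to_quotient _) _ hs
      have hmul : A.relIndex (normalizer (A : Set G)) * (normalizer (A : Set G)).relIndex K = A.relIndex K :=
        relIndex_mul_relIndex _ _ _ hAN hN1K
      rw [hA.idx, hi] at hmul
      obtain ⟨j, rfl⟩ : ∃ j, i = j + 1 := by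
        rcases i with _ | j
        · exfalso
          rw [pow_zero] at hmul
          have := Nat.eq_one_of_mul_eq_one_right hmul
          exact hp.one_lt.ne' this
        · exact ⟨j, rfl⟩
      have h3 : (normalizer (A : Set G)).relIndex K = p ^ j := by
        rw [pow_succ, mul_comm] at hmul
        exact Nat.eq_of_mul_eq_mul_right hp.pos hmul
      have hcK : cen K ≤ K := inf_le_left
      have := e j (K.map (QuotientGroup.mk' (cen K))) (Subgroup.map_mono hN1K) (map_ne_top _ hcK hK)
        (by rw [relIndex_map _ (hZA.trans hAN)]; exact h3)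
      exact lcs_step K j this.1 this.2
    · have hs := soft_subgroupOf hA _ (hN1K.trans hKH)
      have hlt : Nat.card (normalizer (K : Set G)) < n := hn ▸ card_sub_lt _ hH
      obtain ⟨_, _, e⟩ := ih _ hlt (normalizer (K : Set G)) rfl (hG.to_subgroup _) _ hs
      exact classP_of_sub e i hAK hKH hKneH hi

end Cfsg.Agent.Lib.H98SoftMain
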