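import Cfsg.Prelude.Def_ChevE6
import Cfsg.Agent.Lib.Helper23TwC
import Cfsg.Agent.Lib.Helper23FastT2E6

set_option autoImplicit false
set_option maxRecDepth 1000000
set_option Elab.async false
set_option synthInstance.maxSize 4000

/-! The tables of the twisting of type 2E6 (generated by a script) and their checks. -/

namespace Cfsg.Agent.Lib.Helper23TwT2E6

open Cfsg.Lie Cfsg.Agent.Lib.Helper23TwC Cfsg.Agent.Lib.Helper23Fast

def X : TD where
  D := chevE6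
  P := Cfsg.Agent.Lib.Helper23FastF4.P
  rho r := [0, 1, 2, 5, 16, 3, 6, 17, 8, 19, 22, 11, 26, 30, 33, 35, 4, 7, 18, 9, 20, 23, 10, 21, 24, 25, 12, 27, 31, 34, 13, 28, 32, 14, 29, 15, 56, 42, 57, 39, 43, 58, 37, 40, 44, 59, 46, 47, 50, 61, 48, 51, 62, 53, 64, 67, 36, 38, 41, 45, 60, 49, 52, 63, 54, 65, 68, 55, 66, 69, 70, 71].getD r 0
  rhoI i := [5, 1, 4, 3, 2, 0].getD i 0
  rhoI' i := [5, 1, 4, 3, 2, 0].getD i 0
  cls r := [0, 1, 2, 3, 7, 3, 4, 8, 5, 9, 11, 6, 10, 12, 13, 14, 7, 8, 15, 9, 16, 18, 11, 18, 21, 23, 10, 17, 19, 20, 12, 19, 22, 13, 20, 14, 33, 27, 34, 25, 28, 35, 27, 28, 30, 37, 24, 26, 29, 36, 29, 31, 38, 32, 39, 40, 33, 34, 35, 37, 41, 36, 38, 42, 39, 43, 44, 40, 44, 45, 46, 47].getD r 0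
  oi i := [0, 3, 1, 2, 1, 0].getD i 0

theorem rho_lt : ∀ r < X.D.nroots, X.rho r < X.D.nroots := by
  decide +kernel

theorem rhoI_lt : ∀ i < X.D.rank, X.rhoI i < X.D.rank := by
  decide +kernel

theorem rhoI'_lt : ∀ i < X.D.rank, X.rhoI' i < X.D.rank := by
  decide +kernel

theorem rhoI_l : ∀ i < X.D.rank, X.rhoI' (X.rhoI i) = i := by
  decide +kernel

theorem rhoI_r : ∀ i < X.D.rank, X.rhoI (X.rhoI' i) = i := by
  decide +kernel

theorem cls_lt : ∀ r < X.D.nroots, X.cls r < X.P.n := by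
  decide +kernel

theorem rho_simple : ∀ i < X.D.rank, X.rho (X.D.simple i) = X.D.simple (X.rhoI i) := by
  decide +kernel

theorem rho_neg : ∀ r < X.D.nroots, X.rho (X.D.neg r) = X.D.neg (X.rho r) := by
  decide +kernel

theorem rho_refl : ∀ i < X.D.rank, ∀ r < X.D.nroots,
    X.rho (X.D.reflectRoot i r) = X.D.reflectRoot (X.rhoI i) (X.rho r) := by
  decide +kernel

theorem cls_rho : ∀ r < X.D.nroots, X.cls (X.rho r) = X.cls r := by
  decide +kernel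

theorem cls_neg : ∀ r < X.D.nroots, X.cls (X.D.neg r) = X.P.n - 1 - X.cls r := by
  decide +kernel

theorem cls_pos : ∀ r < X.D.nroots, (X.P.n / 2 ≤ X.cls r ↔ X.D.nroots / 2 ≤ r) := by
  decide +kernel

theorem cls_simple : ∀ J < X.P.l, ∀ r < X.D.nroots,
    (X.cls r = X.P.simp J ↔ ∃ i < X.D.rank, X.oi i = J ∧ r = X.D.simple i) := by
  decide +kernel

theorem cls_refl : ∀ J < X.P.l, ∀ r < X.D.nroots,
    X.cls (((List.range X.D.rank).filter (fun i => X.oi i = J)).foldr (fun i r => X.D.reflectRoot i r) r) =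
      X.P.refl J (X.cls r) := by
  decide +kernel

theorem oi_rho : ∀ i < X.D.rank, X.oi (X.rhoI i) = X.oi i := by
  decide +kernel

theorem oi_trans : ∀ i < X.D.rank, ∀ j < X.D.rank, X.oi i = X.oi j → ∃ k < 3, X.rhoI^[k] i = j := by
  decide +kernel

theorem oi_surj : ∀ J < X.P.l, ∃ i < X.D.rank, X.oi i = J := by
  decide +kernel

theorem comm_orb : ∀ i < X.D.rank, ∀ j < X.D.rank, i ≠ j → X.oi i = X.oi j →
    ∀ a ∈ [X.D.simple i, X.D.neg (X.D.simple i)], ∀ b ∈ [X.D.simple j, X.D.neg (X.D.simple j)],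
      b ≠ a ∧ b ≠ X.D.neg a ∧ X.D.commTerms a b = [] := by
  decide +kernel

theorem comm_J : ∀ i < X.D.rank, ∀ r < X.D.nroots, X.D.nroots / 2 ≤ r → X.cls r ≠ X.P.simp (X.oi i) →
    ∀ c ∈ X.D.commTerms (X.D.simple i) r,
      X.D.nroots / 2 ≤ c.1 ∧ c.1 < X.D.nroots ∧ X.cls c.1 ≠ X.P.simp (X.oi i) := by
  decide +kernel

theorem simp_inj : ∀ i < X.P.l, ∀ j < X.P.l, X.P.simp i = X.P.simp j → i = j := by
  decide +kernel

theorem chk : X.Chk :=
  ⟨rho_lt, rhoI_lt, rhoI'_lt, rhoI_l, rhoI_r, cls_lt, rho_simple, rho_neg, rho_refl, cls_rho, cls_neg, cls_pos, cls_simple, cls_refl, oi_rho, oi_trans, oi_surj, comm_orb, comm_J, simp_inj⟩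

end Cfsg.Agent.Lib.Helper23TwT2E6
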