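import Mathlib
import Cfsg.Prelude.Def_Characters
import Cfsg.Agent.Lib.Helper19Ind
import Cfsg.Agent.Lib.Helper32Ind

set_option autoImplicit false

namespace Cfsg.Agent.Lib.Helper44Ind

open Cfsg Cfsg.Agent.Lib.Helper19Ind

variable {G : Type*} [Group G]

theorem extendByZero_conj (H : Subgroup G) (θ : H → ℂ) (hθ : IsClassFunction H θ) (y : G) (h : H) :
    extendByZero H θ ((h : G)⁻¹ * y * h) = extendByZero H θ y := by
  by_cases hy : y ∈ H
  · have h1 : (h : G)⁻¹ * y * h ∈ H := H.mul_mem (H.mul_mem (H.inv_mem h.2) hy) h.2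
    rw [extendByZero_of_mem H θ h1, extendByZero_of_mem H θ hy]
    have := hθ ⟨y, hy⟩ h⁻¹
    rw [← this]
    congr 1
    apply Subtype.ext
    simp
  · have h1 : (h : G)⁻¹ * y * h ∉ H := by
      intro hc
      apply hy
      have := H.mul_mem (H.mul_mem h.2 hc) (H.inv_mem h.2)
      simpa [mul_assoc] using this
    rw [extendByZero_of_not_mem H θ h1, extendByZero_of_not_mem H θ hy]

/-- sum of a right-`H`-invariant function over a transversal -/
theorem sum_eq_card_mul_sum_transversal [Fintype G] (H : Subgroup G) {X : Type*} [Fintype X]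
    (rep : X → G) (hrep : Function.Bijective (fun x => (QuotientGroup.mk (rep x) : G ⧸ H)))
    (f : G → ℂ) (hf : ∀ (y : G) (h : H), f (y * h) = f y) :
    ∑ y : G, f y = (Nat.card H : ℂ) * ∑ x : X, f (rep x) := by
  classical
  have : Fintype H := Fintype.ofFinite _
  have hbij : Function.Bijective (fun p : X × H => rep p.1 * (p.2 : G)) := by
    constructor
    · rintro ⟨x, h⟩ ⟨x', h'⟩ hxy
      simp only at hxy
      have h1 : (QuotientGroup.mk (rep x) : G ⧸ H) = QuotientGroup.mk (rep x') := by
        rw [QuotientGroup.eq]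
        have : (rep x)⁻¹ * rep x' = h * (h' : G)⁻¹ := by
          rw [eq_mul_inv_iff_mul_eq, mul_assoc, ← hxy, inv_mul_cancel_left]
        rw [this]
        exact H.mul_mem h.2 (H.inv_mem h'.2)
      have h2 : x = x' := hrep.1 h1
      subst h2
      have h3 : (h : G) = h' := mul_left_cancel hxy
      rw [Subtype.ext h3]
    · intro y
      obtain ⟨x, hx⟩ := hrep.2 (QuotientGroup.mk y)
      simp only at hx
      rw [QuotientGroup.eq] at hx
      exact ⟨(x, ⟨_, hx⟩), by simp⟩
  rw [← Equiv.sum_comp (Equiv.ofBijective _ hbij), Fintype.sum_prod_type]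
  simp only [Equiv.ofBijective_apply, hf, Finset.sum_const, Finset.card_univ, nsmul_eq_mul]
  rw [← Finset.mul_sum, Nat.card_eq_fintype_card]

theorem indFun_transversal [Fintype G] (H : Subgroup G) (θ : H → ℂ) (hθ : IsClassFunction H θ)
    {X : Type*} [Fintype X] (rep : X → G)
    (hrep : Function.Bijective (fun x => (QuotientGroup.mk (rep x) : G ⧸ H))) (g : G) :
    indFun H θ g = ∑ x : X, extendByZero H θ ((rep x)⁻¹ * g * rep x) := by
  rw [indFun_apply, sum_eq_card_mul_sum_transversal H rep hrep
    (fun y => extendByZero H θ (y⁻¹ * g * y)), ← mul_assoc,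
    inv_mul_cancel₀ (card_ne_zero H), one_mul]
  intro y h
  have := extendByZero_conj H θ hθ (y⁻¹ * g * y) h
  rw [← this]
  congr 1
  simp [mul_assoc]

/-- counting form of Frobenius reciprocity for the permutation character -/
theorem sum_indFun_one_mul [Fintype G] (H : Subgroup G) [Fintype H] (f : G → ℂ)
    (hf : IsClassFunction G f) :
    ∑ g : G, indFun H (fun _ => 1) g * f g = (H.index : ℂ) * ∑ h : H, f h := by
  have h1 := Cfsg.Agent.Lib.Helper32Ind.frobenius H (fun _ => 1) (fun g => (starRingEnd ℂ) (f g))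
    (fun g h => by simp only [hf g h])
  unfold classInner at h1
  simp only [Complex.conj_conj, one_mul] at h1
  have hG : (Nat.card G : ℂ) ≠ 0 := by exact_mod_cast Nat.card_pos.ne'
  have h2 : ∑ g : G, indFun H (fun _ => 1) g * f g =
      (Nat.card G : ℂ) * ((Nat.card H : ℂ)⁻¹ * ∑ h : H, f h) := by
    rw [← h1, ← mul_assoc, mul_inv_cancel₀ hG, one_mul]
  rw [h2, ← mul_assoc, mul_comm (Nat.card G : ℂ), card_div_card_eq_index]

end Cfsg.Agent.Lib.Helper44Ind
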