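import Mathlib
import Cfsg.Prelude.Def_Characters
import Cfsg.Prelude.Def_ParabolicCharacters
import Cfsg.Agent.Lib.Helper44Ind

set_option autoImplicit false

namespace Cfsg.Agent.Lib.Helper44P1

open Matrix Cfsg Cfsg.Agent.Lib.Helper19Ind Cfsg.Agent.Lib.Helper44Ind

variable {F : Type*} [Field F] {Γ : Type*} [Group Γ] (ι : Γ →* GL (Fin 2) F)

/-- the matrix of an element -/
def mat (γ : Γ) : Matrix (Fin 2) (Fin 2) F := ((ι γ : GL (Fin 2) F) : Matrix (Fin 2) (Fin 2) F)

theorem mat_mul (x y : Γ) : mat ι (x * y) = mat ι x * mat ι y := by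
  simp [mat]

theorem mat_one : mat ι (1 : Γ) = 1 := by
  simp [mat]

theorem mat_inv_of (x : Γ) (N : Matrix (Fin 2) (Fin 2) F) (h : mat ι x * N = 1) :
    mat ι x⁻¹ = N := by
  have h1 : mat ι x⁻¹ * mat ι x = 1 := by rw [← mat_mul, inv_mul_cancel, mat_one]
  calc mat ι x⁻¹ = mat ι x⁻¹ * (mat ι x * N) := by rw [h, Matrix.mul_one]
    _ = N := by rw [← Matrix.mul_assoc, h1, Matrix.one_mul]

/-- the Borel subgroup -/
abbrev Bor : Subgroup Γ := (Cfsg.upperTriangularGL 2 F).comap ι

theorem mem_upper_iff (g : GL (Fin 2) F) :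
    g ∈ Cfsg.upperTriangularGL 2 F ↔ (g : Matrix (Fin 2) (Fin 2) F) 1 0 = 0 := by
  show (g : Matrix (Fin 2) (Fin 2) F).BlockTriangular id ↔ _
  constructor
  · intro h
    exact h (by simp)
  · intro h i j hij
    fin_cases i <;> fin_cases j <;> simp_all

theorem mem_Bor_iff (γ : Γ) : γ ∈ Bor ι ↔ mat ι γ 1 0 = 0 := by
  rw [Subgroup.mem_comap, mem_upper_iff]
  rfl

variable (hSL : ∀ M : Matrix (Fin 2) (Fin 2) F, M.det = 1 → ∃ γ : Γ, mat ι γ = M)

/-- coset representatives indexed by the projective line -/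
noncomputable def rep : Option F → Γ
  | some s => Classical.choose (hSL !![1, 0; s, 1] (by simp [Matrix.det_fin_two_of]))
  | none => Classical.choose (hSL !![0, -1; 1, 0] (by simp [Matrix.det_fin_two_of]))

theorem mat_rep_some (s : F) : mat ι (rep ι hSL (some s)) = !![1, 0; s, 1] :=
  Classical.choose_spec (hSL !![1, 0; s, 1] (by simp [Matrix.det_fin_two_of]))

theorem mat_rep_none : mat ι (rep ι hSL none) = !![0, -1; 1, 0] :=
  Classical.choose_spec (hSL !![0, -1; 1, 0] (by simp [Matrix.det_fin_two_of]))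

theorem mat_rep_some_inv (s : F) : mat ι (rep ι hSL (some s))⁻¹ = !![1, 0; -s, 1] := by
  apply mat_inv_of
  rw [mat_rep_some, Matrix.mul_fin_two]
  ext i j
  fin_cases i <;> fin_cases j <;> simp

theorem mat_rep_none_inv : mat ι (rep ι hSL none)⁻¹ = !![0, 1; -1, 0] := by
  apply mat_inv_of
  rw [mat_rep_none, Matrix.mul_fin_two]
  ext i j
  fin_cases i <;> fin_cases j <;> simp

theorem mat_conj_some (γ : Γ) (s : F) :
    mat ι ((rep ι hSL (some s))⁻¹ * γ * rep ι hSL (some s)) =
      !![mat ι γ 0 0 + mat ι γ 0 1 * s, mat ι γ 0 1;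
        mat ι γ 1 0 + (mat ι γ 1 1 - mat ι γ 0 0) * s - mat ι γ 0 1 * s ^ 2,
        mat ι γ 1 1 - mat ι γ 0 1 * s] := by
  rw [mat_mul, mat_mul, mat_rep_some, mat_rep_some_inv, Matrix.eta_fin_two (mat ι γ),
    Matrix.mul_fin_two, Matrix.mul_fin_two]
  ext i j
  fin_cases i <;> fin_cases j <;> simp <;> ring

theorem mat_conj_none (γ : Γ) :
    mat ι ((rep ι hSL none)⁻¹ * γ * rep ι hSL none) =
      !![mat ι γ 1 1, -mat ι γ 1 0; -mat ι γ 0 1, mat ι γ 0 0] := by
  rw [mat_mul, mat_mul, mat_rep_none, mat_rep_none_inv, Matrix.eta_fin_two (mat ι γ),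
    Matrix.mul_fin_two, Matrix.mul_fin_two]
  ext i j
  fin_cases i <;> fin_cases j <;> simp

theorem rep_bijective :
    Function.Bijective (fun o => (QuotientGroup.mk (rep ι hSL o) : Γ ⧸ Bor ι)) := by
  constructor
  · intro o o' h
    simp only at h
    rw [QuotientGroup.eq, mem_Bor_iff, mat_mul] at h
    cases o with
    | none =>
      cases o' with
      | none => rfl
      | some s' =>
        rw [mat_rep_none_inv, mat_rep_some, Matrix.mul_fin_two] at h
        simp at h
    | some s =>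
      cases o' with
      | none =>
        rw [mat_rep_some_inv, mat_rep_none, Matrix.mul_fin_two] at h
        simp at h
      | some s' =>
        rw [mat_rep_some_inv, mat_rep_some, Matrix.mul_fin_two] at h
        simp at h
        congr 1
        linear_combination -h
  · intro c
    obtain ⟨γ, rfl⟩ := QuotientGroup.mk_surjective c
    by_cases ha : mat ι γ 0 0 = 0
    · refine ⟨none, ?_⟩
      simp only
      rw [QuotientGroup.eq, mem_Bor_iff, mat_mul, mat_rep_none_inv, Matrix.eta_fin_two (mat ι γ),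
        Matrix.mul_fin_two]
      simp [ha]
    · refine ⟨some (mat ι γ 1 0 / mat ι γ 0 0), ?_⟩
      simp only
      rw [QuotientGroup.eq, mem_Bor_iff, mat_mul, mat_rep_some_inv, Matrix.eta_fin_two (mat ι γ),
        Matrix.mul_fin_two]
      simp
      field_simp
      ring

theorem extend_eq (Θ : Matrix (Fin 2) (Fin 2) F → ℂ) [DecidableEq F] (y : Γ) :
    extendByZero (Bor ι) (fun b => Θ (mat ι (b : Γ))) y =
      if mat ι y 1 0 = 0 then Θ (mat ι y) else 0 := by
  split_ifs with h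
  · rw [extendByZero_of_mem _ _ ((mem_Bor_iff ι y).mpr h)]
  · rw [extendByZero_of_not_mem _ _ (fun hc => h ((mem_Bor_iff ι y).mp hc))]

include hSL in
/-- explicit formula for functions induced from the Borel subgroup -/
theorem indFun_Bor [Fintype F] [DecidableEq F] [Fintype Γ] (Θ : Matrix (Fin 2) (Fin 2) F → ℂ)
    (hΘ : IsClassFunction (Bor ι) (fun b => Θ (mat ι (b : Γ)))) (γ : Γ) :
    indFun (Bor ι) (fun b => Θ (mat ι (b : Γ))) γ =
      (∑ s : F, if mat ι γ 1 0 + (mat ι γ 1 1 - mat ι γ 0 0) * s - mat ι γ 0 1 * s ^ 2 = 0 then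
        Θ !![mat ι γ 0 0 + mat ι γ 0 1 * s, mat ι γ 0 1;
          mat ι γ 1 0 + (mat ι γ 1 1 - mat ι γ 0 0) * s - mat ι γ 0 1 * s ^ 2,
          mat ι γ 1 1 - mat ι γ 0 1 * s] else 0) +
      (if mat ι γ 0 1 = 0 then Θ !![mat ι γ 1 1, -mat ι γ 1 0; -mat ι γ 0 1, mat ι γ 0 0] else 0) := by
  rw [indFun_transversal (Bor ι) _ hΘ (rep ι hSL) (rep_bijective ι hSL) γ, Fintype.sum_option,
    add_comm]
  congr 1
  · apply Finset.sum_congr rfl
    intro s _
    rw [extend_eq, mat_conj_some]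
    simp
  · rw [extend_eq, mat_conj_none]
    simp

theorem fixedPointCharacter_eq_indFun {G : Type*} [Group G] [Fintype G] (H : Subgroup G) (g : G) :
    Cfsg.fixedPointCharacter H g = indFun H (fun _ => 1) g := by
  rw [indFun_one_eq_card_fixed]
  rfl

include hSL in
/-- the permutation character on the projective line -/
theorem perm_formula [Fintype F] [DecidableEq F] [Fintype Γ] (γ : Γ) :
    Cfsg.fixedPointCharacter (Bor ι) γ =
      (∑ s : F, if mat ι γ 1 0 + (mat ι γ 1 1 - mat ι γ 0 0) * s - mat ι γ 0 1 * s ^ 2 = 0 then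
        (1 : ℂ) else 0) + (if mat ι γ 0 1 = 0 then 1 else 0) := by
  rw [fixedPointCharacter_eq_indFun]
  exact indFun_Bor ι hSL (fun _ => 1) (fun _ _ => rfl) γ

include hSL in
theorem index_Bor [Fintype F] : (Bor ι).index = Fintype.card F + 1 := by
  classical
  rw [Subgroup.index, ← Nat.card_congr (Equiv.ofBijective _ (rep_bijective ι hSL)),
    Nat.card_eq_fintype_card, Fintype.card_option]

end Cfsg.Agent.Lib.Helper44P1
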