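import Mathlib
import Cfsg.Prelude.Def_Characters
import Cfsg.Prelude.Def_ParabolicCharacters
import Cfsg.Agent.Lib.Helper44P1

set_option autoImplicit false

namespace Cfsg.Agent.Lib.Helper44B

open Matrix Cfsg Cfsg.Agent.Lib.Helper19Ind Cfsg.Agent.Lib.Helper44Ind Cfsg.Agent.Lib.Helper44P1

variable {F : Type*} [Field F] {Γ : Type*} [Group Γ] (ι : Γ →* GL (Fin 2) F)

theorem mat_injective (hι : Function.Injective ι) : Function.Injective (mat ι) :=
  fun _ _ h => hι (Units.ext h)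

theorem det_mat_ne_zero (γ : Γ) : (mat ι γ).det ≠ 0 :=
  (Matrix.GeneralLinearGroup.det (ι γ)).ne_zero

/-- the diagonal torus -/
def Tor : Subgroup Γ where
  carrier := {γ | mat ι γ 0 1 = 0 ∧ mat ι γ 1 0 = 0}
  one_mem' := by simp [mat_one]
  mul_mem' := by
    rintro x y ⟨hx1, hx2⟩ ⟨hy1, hy2⟩
    constructor
    · rw [mat_mul, Matrix.mul_apply, Fin.sum_univ_two, hx1, hy1]; ring
    · rw [mat_mul, Matrix.mul_apply, Fin.sum_univ_two, hx2, hy2]; ring
  inv_mem' := by
    rintro x ⟨hx1, hx2⟩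
    have hd := det_mat_ne_zero ι x
    rw [Matrix.det_fin_two, hx1, hx2] at hd
    have ha : mat ι x 0 0 ≠ 0 := by intro h; apply hd; rw [h]; ring
    have hdd : mat ι x 1 1 ≠ 0 := by intro h; apply hd; rw [h]; ring
    have : mat ι x⁻¹ = !![(mat ι x 0 0)⁻¹, 0; 0, (mat ι x 1 1)⁻¹] := by
      apply mat_inv_of
      rw [Matrix.eta_fin_two (mat ι x), hx1, hx2, Matrix.mul_fin_two]
      ext i j
      fin_cases i <;> fin_cases j <;> simp [ha, hdd]
    constructor
    · rw [this]; rfl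
    · rw [this]; rfl

theorem mem_Tor_iff (γ : Γ) : γ ∈ Tor ι ↔ mat ι γ 0 1 = 0 ∧ mat ι γ 1 0 = 0 := Iff.rfl

/-- diagonal entries of a torus element -/
def ta (t : Tor ι) : F := mat ι (t : Γ) 0 0
def td (t : Tor ι) : F := mat ι (t : Γ) 1 1

theorem mat_tor (t : Tor ι) : mat ι (t : Γ) = !![ta ι t, 0; 0, td ι t] := by
  conv_lhs => rw [Matrix.eta_fin_two (mat ι (t : Γ)), t.2.1, t.2.2]
  rfl

theorem ta_ne_zero (t : Tor ι) : ta ι t ≠ 0 := by
  have hd := det_mat_ne_zero ι (t : Γ)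
  rw [mat_tor, Matrix.det_fin_two_of] at hd
  intro h; apply hd; rw [h]; ring

theorem td_ne_zero (t : Tor ι) : td ι t ≠ 0 := by
  have hd := det_mat_ne_zero ι (t : Γ)
  rw [mat_tor, Matrix.det_fin_two_of] at hd
  intro h; apply hd; rw [h]; ring

theorem ta_one : ta ι 1 = 1 := by simp [ta, mat_one]
theorem td_one : td ι 1 = 1 := by simp [td, mat_one]

theorem tor_ext (hι : Function.Injective ι) (t t' : Tor ι) (h1 : ta ι t = ta ι t')
    (h2 : td ι t = td ι t') : t = t' := by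
  apply Subtype.ext
  apply mat_injective ι hι
  rw [mat_tor, mat_tor, h1, h2]

theorem tor_comm (hι : Function.Injective ι) (t t' : Tor ι) : t * t' = t' * t := by
  apply Subtype.ext
  apply mat_injective ι hι
  show mat ι ((t : Γ) * (t' : Γ)) = mat ι ((t' : Γ) * (t : Γ))
  rw [mat_mul, mat_mul, mat_tor, mat_tor, Matrix.mul_fin_two, Matrix.mul_fin_two]
  ext i j
  fin_cases i <;> fin_cases j <;> simp [mul_comm]

variable (hSL : ∀ M : Matrix (Fin 2) (Fin 2) F, M.det = 1 → ∃ γ : Γ, mat ι γ = M)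

/-- upper unitriangular elements -/
noncomputable def uu (c : F) : Γ :=
  Classical.choose (hSL !![1, c; 0, 1] (by simp [Matrix.det_fin_two_of]))

theorem mat_uu (c : F) : mat ι (uu ι hSL c) = !![1, c; 0, 1] :=
  Classical.choose_spec (hSL !![1, c; 0, 1] (by simp [Matrix.det_fin_two_of]))

theorem uu_add (hι : Function.Injective ι) (c c' : F) :
    uu ι hSL (c + c') = uu ι hSL c * uu ι hSL c' := by
  apply mat_injective ι hι
  rw [mat_mul, mat_uu, mat_uu, mat_uu, Matrix.mul_fin_two]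
  ext i j
  fin_cases i <;> fin_cases j <;> simp [add_comm]

theorem uu_zero (hι : Function.Injective ι) : uu ι hSL 0 = 1 := by
  apply mat_injective ι hι
  rw [mat_uu, mat_one]
  ext i j
  fin_cases i <;> fin_cases j <;> simp

theorem uu_neg (hι : Function.Injective ι) (c : F) : uu ι hSL (-c) = (uu ι hSL c)⁻¹ := by
  rw [eq_inv_iff_mul_eq_one, ← uu_add ι hSL hι, neg_add_cancel, uu_zero ι hSL hι]

/-- `c ↦ u(c)` as a homomorphism -/
noncomputable def uHom (hι : Function.Injective ι) : Multiplicative F →* Γ where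
  toFun c := uu ι hSL (Multiplicative.toAdd c)
  map_one' := uu_zero ι hSL hι
  map_mul' _ _ := uu_add ι hSL hι _ _

theorem mat_tu (t : Tor ι) (c : F) :
    mat ι ((t : Γ) * uu ι hSL c) = !![ta ι t, ta ι t * c; 0, td ι t] := by
  rw [mat_mul, mat_tor, mat_uu, Matrix.mul_fin_two]
  ext i j
  fin_cases i <;> fin_cases j <;> simp

theorem tu_mem_Bor (t : Tor ι) (c : F) : (t : Γ) * uu ι hSL c ∈ Bor ι := by
  rw [mem_Bor_iff, mat_tu]; rfl

theorem mat_bor (b : Bor ι) :
    mat ι (b : Γ) = !![mat ι (b : Γ) 0 0, mat ι (b : Γ) 0 1; 0, mat ι (b : Γ) 1 1] := by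
  conv_lhs => rw [Matrix.eta_fin_two (mat ι (b : Γ)), (mem_Bor_iff ι _).mp b.2]

theorem bor_a_ne_zero (b : Bor ι) : mat ι (b : Γ) 0 0 ≠ 0 := by
  have hd := det_mat_ne_zero ι (b : Γ)
  rw [Matrix.det_fin_two, (mem_Bor_iff ι _).mp b.2] at hd
  intro h; apply hd; rw [h]; ring

theorem mat_pr_aux (b : Bor ι) :
    mat ι ((b : Γ) * uu ι hSL (-(mat ι (b : Γ) 0 1) / mat ι (b : Γ) 0 0)) =
      !![mat ι (b : Γ) 0 0, 0; 0, mat ι (b : Γ) 1 1] := by
  have ha := bor_a_ne_zero ι b
  rw [mat_mul, mat_uu]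
  conv_lhs => rw [mat_bor ι b]
  rw [Matrix.mul_fin_two]
  ext i j
  fin_cases i <;> fin_cases j <;> simp
  field_simp
  ring

/-- the projection of the Borel subgroup onto the torus -/
noncomputable def pr (hι : Function.Injective ι) : Bor ι →* Tor ι where
  toFun b := ⟨(b : Γ) * uu ι hSL (-(mat ι (b : Γ) 0 1) / mat ι (b : Γ) 0 0), by
    rw [mem_Tor_iff, mat_pr_aux]; exact ⟨rfl, rfl⟩⟩
  map_one' := by
    apply Subtype.ext
    apply mat_injective ι hι
    rw [mat_pr_aux]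
    simp [mat_one]
    ext i j
    fin_cases i <;> fin_cases j <;> simp
  map_mul' b b' := by
    apply Subtype.ext
    apply mat_injective ι hι
    rw [mat_pr_aux]
    show _ = mat ι (_ * _)
    rw [mat_mul, mat_pr_aux, mat_pr_aux, Matrix.mul_fin_two]
    have h1 : mat ι ((b * b' : Bor ι) : Γ) = mat ι (b : Γ) * mat ι (b' : Γ) := by
      rw [← mat_mul]; rfl
    rw [h1]
    conv_lhs => rw [mat_bor ι b, mat_bor ι b', Matrix.mul_fin_two]
    ext i j
    fin_cases i <;> fin_cases j <;> simp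

theorem mat_pr (hι : Function.Injective ι) (b : Bor ι) :
    mat ι ((pr ι hSL hι b : Tor ι) : Γ) = !![mat ι (b : Γ) 0 0, 0; 0, mat ι (b : Γ) 1 1] :=
  mat_pr_aux ι hSL b

theorem pr_tu (hι : Function.Injective ι) (t : Tor ι) (c : F) :
    pr ι hSL hι ⟨(t : Γ) * uu ι hSL c, tu_mem_Bor ι hSL t c⟩ = t := by
  apply Subtype.ext
  apply mat_injective ι hι
  rw [mat_pr, mat_tor]
  simp only [mat_tu]
  rfl

theorem tu_bijective (hι : Function.Injective ι) :
    Function.Bijective (fun p : Tor ι × F =>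
      (⟨(p.1 : Γ) * uu ι hSL p.2, tu_mem_Bor ι hSL p.1 p.2⟩ : Bor ι)) := by
  constructor
  · rintro ⟨t, c⟩ ⟨t', c'⟩ h
    have h1 := congrArg (fun b : Bor ι => mat ι (b : Γ)) h
    simp only [mat_tu] at h1
    have e1 := congrFun (congrFun h1 0) 0
    have e2 := congrFun (congrFun h1 1) 1
    have e3 := congrFun (congrFun h1 0) 1
    simp at e1 e2 e3
    have ht : t = t' := tor_ext ι hι t t' e1 e2
    subst ht
    have hc : c = c' := mul_left_cancel₀ (ta_ne_zero ι t) e3
    rw [hc]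
  · intro b
    refine ⟨(pr ι hSL hι b, mat ι (b : Γ) 0 1 / mat ι (b : Γ) 0 0), ?_⟩
    apply Subtype.ext
    apply mat_injective ι hι
    have ha := bor_a_ne_zero ι b
    simp only
    rw [mat_mul, mat_pr, mat_uu, Matrix.mul_fin_two]
    conv_rhs => rw [mat_bor ι b]
    ext i j
    fin_cases i <;> fin_cases j <;> simp
    field_simp

theorem sum_Bor (hι : Function.Injective ι) [Fintype F] [Fintype (Bor ι)] [Fintype (Tor ι)]
    (f : Γ → ℂ) :
    ∑ b : Bor ι, f (b : Γ) = ∑ t : Tor ι, ∑ c : F, f ((t : Γ) * uu ι hSL c) := by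
  rw [← Fintype.sum_prod_type', ← Equiv.sum_comp (Equiv.ofBijective _ (tu_bijective ι hSL hι))]
  rfl

include hSL in
theorem card_Bor (hι : Function.Injective ι) [Fintype F] :
    Nat.card (Bor ι) = Nat.card (Tor ι) * Fintype.card F := by
  rw [← Nat.card_congr (Equiv.ofBijective _ (tu_bijective ι hSL hι)), Nat.card_prod,
    Nat.card_eq_fintype_card (α := F)]

include hSL in
theorem card_Gam (hι : Function.Injective ι) [Fintype F] :
    Nat.card Γ = (Fintype.card F + 1) * (Nat.card (Tor ι) * Fintype.card F) := by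
  rw [← card_Bor ι hSL hι, ← index_Bor ι hSL, mul_comm, Subgroup.card_mul_index]

/-- for `a ≠ d` the element `t u(c)` is conjugate to `t` -/
theorem tu_conj (hι : Function.Injective ι) (t : Tor ι) (c : F) (h : ta ι t ≠ td ι t) :
    (t : Γ) * uu ι hSL c =
      uu ι hSL (ta ι t * c / (td ι t - ta ι t)) * (t : Γ) *
        (uu ι hSL (ta ι t * c / (td ι t - ta ι t)))⁻¹ := by
  rw [eq_mul_inv_iff_mul_eq]
  apply mat_injective ι hι
  have hs : td ι t - ta ι t ≠ 0 := sub_ne_zero.mpr (Ne.symm h)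
  rw [mat_mul, mat_tu, mat_mul, mat_uu, mat_tor, Matrix.mul_fin_two, Matrix.mul_fin_two]
  ext i j
  fin_cases i <;> fin_cases j <;> simp
  field_simp
  ring

/-- the torus acts on the unipotent radical -/
theorem t_u_conj (hι : Function.Injective ι) (t : Tor ι) (c : F) :
    (t : Γ) * uu ι hSL c * (t : Γ)⁻¹ = uu ι hSL (ta ι t * c / td ι t) := by
  rw [mul_inv_eq_iff_eq_mul]
  apply mat_injective ι hι
  have hs := td_ne_zero ι t
  rw [mat_tu, mat_mul, mat_uu, mat_tor, Matrix.mul_fin_two]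
  ext i j
  fin_cases i <;> fin_cases j <;> simp
  field_simp

end Cfsg.Agent.Lib.Helper44B
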