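import Mathlib
import Cfsg.Prelude.Def_Characters
import Cfsg.Prelude.Def_ParabolicCharacters
import Cfsg.Agent.Lib.Helper44B
import Cfsg.Agent.Lib.Helper4Char4
import Cfsg.Agent.Lib.Helper82Linear

set_option autoImplicit false

namespace Cfsg.Agent.Lib.Helper44PS

open Matrix Cfsg Cfsg.Agent.Lib.Helper19Ind Cfsg.Agent.Lib.Helper44Ind Cfsg.Agent.Lib.Helper44P1
  Cfsg.Agent.Lib.Helper44B

variable {F : Type*} [Field F] {Γ : Type*} [Group Γ] (ι : Γ →* GL (Fin 2) F)
variable (hSL : ∀ M : Matrix (Fin 2) (Fin 2) F, M.det = 1 → ∃ γ : Γ, mat ι γ = M)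
variable (hι : Function.Injective ι)

/-- the function on the Borel subgroup attached to a function of the two diagonal entries -/
def thetaB (ϑ : F → F → ℂ) : Bor ι → ℂ := fun b => ϑ (mat ι (b : Γ) 0 0) (mat ι (b : Γ) 1 1)

/-- the function on the torus attached to a function of the two diagonal entries -/
def thetaT (ϑ : F → F → ℂ) : Tor ι → ℂ := fun t => ϑ (ta ι t) (td ι t)

theorem thetaB_eq (ϑ : F → F → ℂ) (b : Bor ι) :
    thetaB ι ϑ b = thetaT ι ϑ (pr ι hSL hι b) := by
  unfold thetaB thetaT ta td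
  rw [mat_pr]
  rfl

include hSL hι in
theorem thetaB_isClassFunction (ϑ : F → F → ℂ) : IsClassFunction (Bor ι) (thetaB ι ϑ) := by
  intro g h
  rw [thetaB_eq ι hSL hι, thetaB_eq ι hSL hι, map_mul, map_mul, map_inv,
    tor_comm ι hι (pr ι hSL hι h), mul_inv_cancel_right]

include hSL hι in
theorem thetaB_isCharacter (ϑ : F → F → ℂ) (h : IsCharacter (Tor ι) (thetaT ι ϑ)) :
    IsCharacter (Bor ι) (thetaB ι ϑ) := by
  have := Cfsg.Agent.Lib.Helper4Char4.IsCharacter.comp (pr ι hSL hι) h
  have e : thetaB ι ϑ = fun x => thetaT ι ϑ (pr ι hSL hι x) := by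
    funext b
    exact thetaB_eq ι hSL hι ϑ b
  rw [e]
  exact this

include hSL hι in
/-- explicit formula for the principal series functions -/
theorem ind_formula [Fintype F] [DecidableEq F] [Fintype Γ] (ϑ : F → F → ℂ) (γ : Γ) :
    indFun (Bor ι) (thetaB ι ϑ) γ =
      (∑ s : F, if mat ι γ 1 0 + (mat ι γ 1 1 - mat ι γ 0 0) * s - mat ι γ 0 1 * s ^ 2 = 0 then
        ϑ (mat ι γ 0 0 + mat ι γ 0 1 * s) (mat ι γ 1 1 - mat ι γ 0 1 * s) else 0) +
      (if mat ι γ 0 1 = 0 then ϑ (mat ι γ 1 1) (mat ι γ 0 0) else 0) := by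
  have := indFun_Bor ι hSL (fun M => ϑ (M 0 0) (M 1 1)) (thetaB_isClassFunction ι hSL hι ϑ) γ
  exact this

/-- averaging over the unipotent radical -/
noncomputable def tau [Fintype F] (χ : Γ → ℂ) (t : Tor ι) : ℂ :=
  (Fintype.card F : ℂ)⁻¹ * ∑ c : F, χ ((t : Γ) * uu ι hSL c)

include hSL hι

theorem sum_Bor' [Fintype F] [Fintype (Bor ι)] [Fintype (Tor ι)] (f : Bor ι → ℂ) :
    ∑ b : Bor ι, f b =
      ∑ t : Tor ι, ∑ c : F, f ⟨(t : Γ) * uu ι hSL c, tu_mem_Bor ι hSL t c⟩ := by
  rw [← Fintype.sum_prod_type', ← Equiv.sum_comp (Equiv.ofBijective _ (tu_bijective ι hSL hι))]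
  rfl

theorem classInner_Bor [Fintype F] [Fintype (Bor ι)] [Fintype (Tor ι)] (ϑ : F → F → ℂ)
    (χ : Γ → ℂ) :
    classInner (thetaB ι ϑ) (fun b : Bor ι => χ b) = classInner (thetaT ι ϑ) (tau ι hSL χ) := by
  unfold classInner
  rw [sum_Bor' ι hSL hι, card_Bor ι hSL hι]
  have hq : (Fintype.card F : ℂ) ≠ 0 := by exact_mod_cast Fintype.card_ne_zero
  have hT : (Nat.card (Tor ι) : ℂ) ≠ 0 := by exact_mod_cast Nat.card_pos.ne'
  push_cast
  rw [_root_.mul_inv_rev, mul_assoc, mul_comm (Fintype.card F : ℂ)⁻¹, mul_assoc]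
  congr 1
  rw [Finset.sum_mul]
  apply Finset.sum_congr rfl
  intro t _
  have h1 : ∀ c : F, thetaB ι ϑ ⟨(t : Γ) * uu ι hSL c, tu_mem_Bor ι hSL t c⟩ = thetaT ι ϑ t := by
    intro c
    rw [thetaB_eq ι hSL hι, pr_tu]
  simp only [h1]
  unfold tau
  rw [map_mul, map_sum, ← Finset.mul_sum, map_inv₀, Complex.conj_natCast]
  ring

theorem classInner_ind [Fintype F] [Fintype Γ] [Fintype (Bor ι)] [Fintype (Tor ι)]
    (ϑ : F → F → ℂ) (χ : Γ → ℂ) (hχ : IsClassFunction Γ χ) :
    classInner (indFun (Bor ι) (thetaB ι ϑ)) χ = classInner (thetaT ι ϑ) (tau ι hSL χ) := by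
  rw [Cfsg.Agent.Lib.Helper32Ind.frobenius _ _ _ hχ, classInner_Bor ι hSL hι]

theorem tau_ind [Fintype F] [DecidableEq F] [Fintype Γ] (ϑ : F → F → ℂ) (t : Tor ι) :
    tau ι hSL (indFun (Bor ι) (thetaB ι ϑ)) t =
      ϑ (ta ι t) (td ι t) + ϑ (td ι t) (ta ι t) := by
  unfold tau
  have hq : (Fintype.card F : ℂ) ≠ 0 := by exact_mod_cast Fintype.card_ne_zero
  have ha := ta_ne_zero ι t
  set a := ta ι t with ha_def
  set d := td ι t with hd_def
  have h1 : ∀ c : F, indFun (Bor ι) (thetaB ι ϑ) ((t : Γ) * uu ι hSL c) =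
      (∑ s : F, if (d - a) * s - a * c * s ^ 2 = 0 then ϑ (a + a * c * s) (d - a * c * s) else 0) +
      (if c = 0 then ϑ d a else 0) := by
    intro c
    rw [ind_formula ι hSL hι, mat_tu, ← ha_def, ← hd_def]
    simp [ha]
  simp only [h1]
  rw [Finset.sum_add_distrib, Finset.sum_comm, Finset.sum_ite_eq' Finset.univ (0 : F)]
  have h2 : ∀ s : F, (∑ c : F, if (d - a) * s - a * c * s ^ 2 = 0 then
      ϑ (a + a * c * s) (d - a * c * s) else 0) =
      ϑ d a + (if s = 0 then (Fintype.card F : ℂ) * ϑ a d - ϑ d a else 0) := by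
    intro s
    by_cases hs : s = 0
    · subst hs
      simp
    · rw [if_neg hs, add_zero]
      have h3 : ∀ c : F, (if (d - a) * s - a * c * s ^ 2 = 0 then
          ϑ (a + a * c * s) (d - a * c * s) else 0) =
          if c = (d - a) / (a * s) then ϑ d a else 0 := by
        intro c
        have hiff : ((d - a) * s - a * c * s ^ 2 = 0) ↔ c = (d - a) / (a * s) := by
          rw [eq_div_iff (mul_ne_zero ha hs)]
          constructor
          · intro h
            have : s * ((d - a) - c * (a * s)) = 0 := by linear_combination h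
            have := (mul_eq_zero.mp this).resolve_left hs
            linear_combination -this
          · intro h
            linear_combination (-s) * h
        by_cases hc : c = (d - a) / (a * s)
        · rw [if_pos hc, if_pos (hiff.mpr hc)]
          have hc' : c * (a * s) = d - a := by
            rw [eq_div_iff (mul_ne_zero ha hs)] at hc; exact hc
          have e1 : a + a * c * s = d := by linear_combination hc'
          have e2 : d - a * c * s = a := by linear_combination -hc'
          rw [e1, e2]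
        · rw [if_neg hc, if_neg (fun h => hc (hiff.mp h))]
      simp only [h3]
      rw [Finset.sum_ite_eq' Finset.univ]
      simp
  simp only [h2]
  rw [Finset.sum_add_distrib, Finset.sum_ite_eq' Finset.univ (0 : F)]
  simp only [Finset.mem_univ, if_true, Finset.sum_const, Finset.card_univ, nsmul_eq_mul]
  field_simp
  ring

/-- inner product of two principal series functions -/
theorem classInner_ind_ind [Fintype F] [DecidableEq F] [Fintype Γ] [Fintype (Bor ι)]
    [Fintype (Tor ι)] (ϑ ϑ' : F → F → ℂ) :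
    classInner (indFun (Bor ι) (thetaB ι ϑ)) (indFun (Bor ι) (thetaB ι ϑ')) =
      classInner (thetaT ι ϑ) (thetaT ι ϑ') +
        classInner (thetaT ι ϑ) (thetaT ι (fun x y => ϑ' y x)) := by
  rw [classInner_ind ι hSL hι _ _ (indFun_isClassFunction _ _),
    ← Cfsg.Agent.Lib.Helper4Char.classInner_add_right]
  congr 1
  funext t
  rw [tau_ind ι hSL hι]
  rfl

omit hSL hι

theorem ta_mul (t t' : Tor ι) : ta ι (t * t') = ta ι t * ta ι t' := by
  unfold ta
  show mat ι ((t : Γ) * (t' : Γ)) 0 0 = _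
  rw [mat_mul, mat_tor, mat_tor, Matrix.mul_fin_two]
  simp [ta]

theorem td_mul (t t' : Tor ι) : td ι (t * t') = td ι t * td ι t' := by
  unfold td
  show mat ι ((t : Γ) * (t' : Γ)) 1 1 = _
  rw [mat_mul, mat_tor, mat_tor, Matrix.mul_fin_two]
  simp [td]

/-- the first diagonal entry as a homomorphism -/
noncomputable def taU : Tor ι →* Fˣ where
  toFun t := Units.mk0 (ta ι t) (ta_ne_zero ι t)
  map_one' := Units.ext (ta_one ι)
  map_mul' t t' := Units.ext (ta_mul ι t t')

/-- the second diagonal entry as a homomorphism -/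
noncomputable def tdU : Tor ι →* Fˣ where
  toFun t := Units.mk0 (td ι t) (td_ne_zero ι t)
  map_one' := Units.ext (td_one ι)
  map_mul' t t' := Units.ext (td_mul ι t t')

theorem thetaT_isIrr (α β : MulChar F ℂ) :
    IsIrrCharacter (Tor ι) (thetaT ι (fun x y => α x * β y)) := by
  have := Cfsg.Agent.Lib.Helper82Linear.isIrrCharacter_of_hom
    ((α.toUnitHom.comp (taU ι)) * (β.toUnitHom.comp (tdU ι)))
  convert this using 1
  funext t
  simp only [MonoidHom.mul_apply, MonoidHom.comp_apply, Units.val_mul, MulChar.coe_toUnitHom]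
  rfl

/-- orthogonality of multiplicative characters, summed over the units -/
theorem sum_units_mulChar [Fintype F] [DecidableEq F] (α α' : MulChar F ℂ) :
    ∑ x : Fˣ, α x * (starRingEnd ℂ) (α' x) = if α = α' then ((Fintype.card F : ℂ) - 1) else 0 := by
  have h1 : ∑ x : Fˣ, α x * (starRingEnd ℂ) (α' x) = ∑ x : F, (α * α'⁻¹) x := by
    apply Fintype.sum_of_injective (fun x : Fˣ => (x : F)) Units.val_injective
    · intro x hx
      apply MulChar.map_nonunit
      intro hu
      apply hx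
      exact ⟨hu.unit, rfl⟩
    · intro x
      rw [MulChar.mul_apply, ← MulChar.star_apply']
      rfl
  rw [h1]
  split_ifs with h
  · subst h
    rw [mul_inv_cancel, MulChar.sum_one_eq_card_units, Fintype.card_units,
      Nat.cast_sub Fintype.card_pos]
    simp
  · apply MulChar.sum_eq_zero_of_ne_one
    intro hc
    apply h
    rw [mul_inv_eq_one] at hc
    exact hc

end Cfsg.Agent.Lib.Helper44PS
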