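import Mathlib
import Cfsg.Agent.Lib.Helper44PS
import Cfsg.Agent.S0148

set_option autoImplicit false

namespace Cfsg.Agent.Lib.Helper44GL2

open Matrix Cfsg Cfsg.Agent.Lib.Helper19Ind Cfsg.Agent.Lib.Helper44Ind Cfsg.Agent.Lib.Helper44P1
  Cfsg.Agent.Lib.Helper44B Cfsg.Agent.Lib.Helper44PS

variable {F : Type*} [Field F]

/-- the identity embedding of `GL₂` -/
abbrev iG (F : Type*) [Field F] : GL (Fin 2) F →* GL (Fin 2) F := MonoidHom.id _

theorem hSL_G : ∀ M : Matrix (Fin 2) (Fin 2) F, M.det = 1 →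
    ∃ γ : GL (Fin 2) F, mat (iG F) γ = M := by
  intro M hM
  exact ⟨Matrix.GeneralLinearGroup.mkOfDetNeZero M (by rw [hM]; exact one_ne_zero), rfl⟩

theorem hι_G : Function.Injective (iG F) := fun _ _ h => h

theorem tor_bijective :
    Function.Bijective (fun t : Tor (iG F) => ((taU (iG F) t, tdU (iG F) t) : Fˣ × Fˣ)) := by
  constructor
  · intro t t' h
    have h1 := congrArg (fun p : Fˣ × Fˣ => (p.1 : F)) h
    have h2 := congrArg (fun p : Fˣ × Fˣ => (p.2 : F)) h
    exact tor_ext (iG F) hι_G t t' h1 h2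
  · rintro ⟨x, y⟩
    refine ⟨⟨Matrix.GeneralLinearGroup.mkOfDetNeZero !![(x : F), 0; 0, (y : F)]
      (by rw [Matrix.det_fin_two_of]; simp), ⟨rfl, rfl⟩⟩, ?_⟩
    apply Prod.ext
    · exact Units.ext rfl
    · exact Units.ext rfl

theorem sum_Tor [Fintype F] [DecidableEq F] [Fintype (Tor (iG F))] (f : F → F → ℂ) :
    ∑ t : Tor (iG F), f (ta (iG F) t) (td (iG F) t) = ∑ x : Fˣ, ∑ y : Fˣ, f x y := by
  rw [← Fintype.sum_prod_type', ← Equiv.sum_comp (Equiv.ofBijective _ tor_bijective)]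
  rfl

theorem card_Tor [Fintype F] [DecidableEq F] :
    Nat.card (Tor (iG F)) = (Fintype.card F - 1) ^ 2 := by
  rw [Nat.card_congr (Equiv.ofBijective _ tor_bijective), Nat.card_prod, Nat.card_eq_fintype_card,
    Fintype.card_units]
  ring

theorem q_sub_one_ne_zero [Fintype F] : (Fintype.card F : ℂ) - 1 ≠ 0 := by
  have : 1 < Fintype.card F := Fintype.one_lt_card
  intro h
  have h2 : (Fintype.card F : ℂ) = 1 := by linear_combination h
  have h3 : Fintype.card F = 1 := by exact_mod_cast h2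
  omega

theorem classInner_thetaT [Fintype F] [DecidableEq F] [Fintype (Tor (iG F))]
    (α β α' β' : MulChar F ℂ) :
    classInner (thetaT (iG F) (fun x y => α x * β y)) (thetaT (iG F) (fun x y => α' x * β' y)) =
      (if α = α' then 1 else 0) * (if β = β' then 1 else 0) := by
  unfold classInner thetaT
  rw [sum_Tor (fun x y => α x * β y * (starRingEnd ℂ) (α' x * β' y)), card_Tor]
  have h1 : ∀ x : Fˣ, ∑ y : Fˣ, α x * β y * (starRingEnd ℂ) (α' x * β' y) =
      (α x * (starRingEnd ℂ) (α' x)) * ∑ y : Fˣ, β y * (starRingEnd ℂ) (β' y) := by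
    intro x
    rw [Finset.mul_sum]
    apply Finset.sum_congr rfl
    intro y _
    rw [map_mul]
    ring
  simp only [h1]
  rw [← Finset.sum_mul, sum_units_mulChar, sum_units_mulChar]
  have hq := q_sub_one_ne_zero (F := F)
  rw [Nat.cast_pow, Nat.cast_sub Fintype.card_pos, Nat.cast_one]
  split_ifs <;> first | (field_simp; done) | simp

/-- the inducing function of the principal series of `GL₂` -/
theorem ps_eq [Fintype F] [DecidableEq F] (α β : MulChar F ℂ) :
    Cfsg.indFun (Cfsg.upperTriangularGL 2 F)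
      (fun b => α (((b : GL (Fin 2) F) : Matrix (Fin 2) (Fin 2) F) 0 0) *
        β (((b : GL (Fin 2) F) : Matrix (Fin 2) (Fin 2) F) 1 1)) =
    Cfsg.indFun (Bor (iG F)) (thetaB (iG F) (fun x y => α x * β y)) := rfl

theorem ps_isCharacter [Fintype F] [DecidableEq F] (α β : MulChar F ℂ) :
    IsCharacter (GL (Fin 2) F) (Cfsg.indFun (Bor (iG F)) (thetaB (iG F) (fun x y => α x * β y))) :=
  Cfsg.Agent.S0148.result _ _ (thetaB_isCharacter (iG F) hSL_G hι_G _
    (Cfsg.Agent.Lib.Helper4Char.IsIrrCharacter.isCharacter (thetaT_isIrr (iG F) α β)))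

theorem ps_inner [Fintype F] [DecidableEq F] (α β α' β' : MulChar F ℂ) :
    classInner (Cfsg.indFun (Bor (iG F)) (thetaB (iG F) (fun x y => α x * β y)))
      (Cfsg.indFun (Bor (iG F)) (thetaB (iG F) (fun x y => α' x * β' y))) =
      (if α = α' then 1 else 0) * (if β = β' then 1 else 0) +
      (if α = β' then 1 else 0) * (if β = α' then 1 else 0) := by
  classical
  rw [classInner_ind_ind (iG F) hSL_G hι_G, classInner_thetaT]
  have : (fun x y => α' y * β' x) = (fun x y : F => β' x * α' y) := by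
    funext x y
    rw [mul_comm]
  rw [this, classInner_thetaT]

theorem ps_irr [Fintype F] [DecidableEq F] (α β : MulChar F ℂ) (hαβ : α ≠ β) :
    IsIrrCharacter (GL (Fin 2) F)
      (Cfsg.indFun (Bor (iG F)) (thetaB (iG F) (fun x y => α x * β y))) := by
  rw [Cfsg.Agent.Lib.Helper4Char4.isIrrCharacter_iff]
  refine ⟨ps_isCharacter α β, ?_⟩
  rw [ps_inner]
  simp [hαβ]

end Cfsg.Agent.Lib.Helper44GL2
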