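import Mathlib
import Cfsg.Prelude.Def_Characters
import Cfsg.Agent.Lib.Helper44Wt
import Cfsg.Agent.Lib.Helper44GL2

set_option autoImplicit false

/-! PROJECT 44 (minimal degree of `SL_n(q)`, S2332): vocabulary.

`GG k F = SL (Fin 2 ⊕ Fin k) F` (so `n = k + 2`), block upper triangular elements `pel A X D`,
the unipotent elements `uK c X = [[1 c; 0 1], X; 0, 1]` and the homomorphisms
`upHom` (transvections with centre `e₀`), `ulHom` (radical of the stabiliser of the line `<e₀,e₁>`),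
`r2Hom`, `xHom`, `jHom : GL₂ → GG`. -/

namespace Cfsg.Agent.Lib.Helper44SLDefs

open Matrix Cfsg Cfsg.Agent.Lib.Helper44Wt

section Abstract

variable {G : Type*} [Group G] {A : Type*} [AddCommGroup A] [Fintype A]

/-- the "second moment" `|A|⁻² ∑_{a,a'} χ(w u(a') w⁻¹ u(a))`. -/
noncomputable def tw (u : Multiplicative A →* G) (w : G) (χ : G → ℂ) : ℂ :=
  ((Fintype.card A : ℂ)⁻¹) ^ 2 *
    ∑ a : A, ∑ a' : A, χ (w * u (Multiplicative.ofAdd a') * w⁻¹ * u (Multiplicative.ofAdd a))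

/-- Harish-Chandra type restriction: the trace of `j γ` on the `l`-weight space of `u`. -/
noncomputable def hc {Γ : Type*} [Group Γ] (u : Multiplicative A →* G) (l : AddChar A ℂ)
    (j : Γ →* G) (χ : G → ℂ) : Γ → ℂ := fun γ =>
  (Fintype.card A : ℂ)⁻¹ *
    ∑ a : A, χ (u (Multiplicative.ofAdd a) * j γ) * (starRingEnd ℂ) (l a)

/-- product of two additive characters -/
noncomputable def pc {A₁ A₂ : Type*} [AddCommGroup A₁] [AddCommGroup A₂]
    (l₁ : AddChar A₁ ℂ) (l₂ : AddChar A₂ ℂ) : AddChar (A₁ × A₂) ℂ :=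
  (l₁.compAddMonoidHom (AddMonoidHom.fst A₁ A₂)) * (l₂.compAddMonoidHom (AddMonoidHom.snd A₁ A₂))

theorem pc_apply {A₁ A₂ : Type*} [AddCommGroup A₁] [AddCommGroup A₂]
    (l₁ : AddChar A₁ ℂ) (l₂ : AddChar A₂ ℂ) (a : A₁ × A₂) : pc l₁ l₂ a = l₁ a.1 * l₂ a.2 := rfl

end Abstract

variable {F : Type*} [Field F] {k : ℕ}

/-- `SL_{k+2}(F)` with rows and columns indexed by `Fin 2 ⊕ Fin k`. -/
abbrev GG (k : ℕ) (F : Type*) [Field F] := Matrix.SpecialLinearGroup (Fin 2 ⊕ Fin k) F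

/-- block upper triangular element -/
def pel (A : Matrix (Fin 2) (Fin 2) F) (X : Matrix (Fin 2) (Fin k) F)
    (D : Matrix (Fin k) (Fin k) F) (h : A.det * D.det = 1) : GG k F :=
  ⟨Matrix.fromBlocks A X 0 D, by rw [Matrix.det_fromBlocks_zero₂₁, h]⟩

theorem pel_coe (A : Matrix (Fin 2) (Fin 2) F) (X : Matrix (Fin 2) (Fin k) F)
    (D : Matrix (Fin k) (Fin k) F) (h : A.det * D.det = 1) :
    (pel A X D h : Matrix (Fin 2 ⊕ Fin k) (Fin 2 ⊕ Fin k) F) = Matrix.fromBlocks A X 0 D := rfl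

theorem pel_congr {A A' : Matrix (Fin 2) (Fin 2) F} {X X' : Matrix (Fin 2) (Fin k) F}
    {D D' : Matrix (Fin k) (Fin k) F} (h : A.det * D.det = 1) (hA : A = A') (hX : X = X')
    (hD : D = D') : pel A X D h = pel A' X' D' (by rw [← hA, ← hD]; exact h) := by
  subst hA hX hD; rfl

theorem pel_mul (A A' : Matrix (Fin 2) (Fin 2) F) (X X' : Matrix (Fin 2) (Fin k) F)
    (D D' : Matrix (Fin k) (Fin k) F) (h : A.det * D.det = 1) (h' : A'.det * D'.det = 1) :
    pel A X D h * pel A' X' D' h' = pel (A * A') (A * X' + X * D') (D * D')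
      (by rw [Matrix.det_mul, Matrix.det_mul]; linear_combination (A'.det * D'.det) * h + h') := by
  apply Subtype.ext
  rw [Matrix.SpecialLinearGroup.coe_mul, pel_coe, pel_coe, pel_coe, Matrix.fromBlocks_multiply]
  simp


/-- the matrix `[[1, c], [0, 1]]`. -/
def tt (c : F) : Matrix (Fin 2) (Fin 2) F := !![1, c; 0, 1]

theorem det_tt (c : F) : (tt c).det = 1 := by simp [tt, Matrix.det_fin_two_of]

theorem tt_mul (c c' : F) : tt c * tt c' = tt (c + c') := by
  ext i j; fin_cases i <;> fin_cases j <;> simp [tt, Matrix.mul_apply, Fin.sum_univ_two, add_comm]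

theorem tt_zero : tt (0 : F) = 1 := by
  ext i j; fin_cases i <;> fin_cases j <;> simp [tt]

/-- the `2 × k` matrix with rows `y₀`, `y₁`. -/
def rows (y₀ y₁ : Fin k → F) : Matrix (Fin 2) (Fin k) F := Matrix.of ![y₀, y₁]

theorem rows_add (y₀ y₁ z₀ z₁ : Fin k → F) :
    rows y₀ y₁ + rows z₀ z₁ = rows (y₀ + z₀) (y₁ + z₁) := by
  ext i j; fin_cases i <;> simp [rows]

theorem tt_mul_rows (c : F) (y₀ y₁ : Fin k → F) :
    tt c * rows y₀ y₁ = rows (y₀ + c • y₁) y₁ := by
  ext i j; fin_cases i <;> simp [rows, tt, Matrix.mul_apply, Fin.sum_univ_two]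

theorem rows_zero : rows (0 : Fin k → F) 0 = 0 := by
  ext i j; fin_cases i <;> simp [rows]

/-- the unipotent element `[[1 c; 0 1], X; 0, 1]`. -/
def uK (c : F) (X : Matrix (Fin 2) (Fin k) F) : GG k F :=
  pel (tt c) X 1 (by rw [det_tt, Matrix.det_one, mul_one])

theorem uK_mul (c c' : F) (X X' : Matrix (Fin 2) (Fin k) F) :
    uK c X * uK c' X' = uK (c + c') (tt c * X' + X) := by
  unfold uK
  rw [pel_mul]
  exact pel_congr _ (tt_mul c c') (by rw [Matrix.mul_one]) (Matrix.mul_one 1)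

theorem uK_zero : uK (0 : F) (0 : Matrix (Fin 2) (Fin k) F) = 1 := by
  apply Subtype.ext
  rw [uK, pel_coe, tt_zero, Matrix.fromBlocks_one]
  rfl

/-- transvections with centre `e₀`: `(c, y) ↦ uK c (rows y 0)`. -/
def upHom : Multiplicative (F × (Fin k → F)) →* GG k F where
  toFun a := uK (Multiplicative.toAdd a).1 (rows (Multiplicative.toAdd a).2 0)
  map_one' := by
    show uK (0 : F) (rows (0 : Fin k → F) 0) = 1
    rw [rows_zero, uK_zero]
  map_mul' a b := by
    rw [uK_mul, tt_mul_rows, smul_zero, add_zero, rows_add, add_zero]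
    simp [add_comm]

theorem upHom_apply (c : F) (y : Fin k → F) :
    upHom (Multiplicative.ofAdd (c, y)) = uK c (rows y 0) := rfl

/-- the radical of the stabiliser of the line `<e₀, e₁>`: `(y₀, y₁) ↦ uK 0 (rows y₀ y₁)`. -/
def ulHom : Multiplicative ((Fin k → F) × (Fin k → F)) →* GG k F where
  toFun a := uK 0 (rows (Multiplicative.toAdd a).1 (Multiplicative.toAdd a).2)
  map_one' := by
    show uK (0 : F) (rows (0 : Fin k → F) 0) = 1
    rw [rows_zero, uK_zero]
  map_mul' a b := by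
    rw [uK_mul, tt_zero, Matrix.one_mul, rows_add, add_zero]
    simp [add_comm]

theorem ulHom_apply (y₀ y₁ : Fin k → F) :
    ulHom (Multiplicative.ofAdd (y₀, y₁)) = uK 0 (rows y₀ y₁) := rfl

/-- `v ↦ uK 0 (rows 0 v)`. -/
def r2Hom : Multiplicative (Fin k → F) →* GG k F where
  toFun a := uK 0 (rows 0 (Multiplicative.toAdd a))
  map_one' := by
    show uK (0 : F) (rows (0 : Fin k → F) 0) = 1
    rw [rows_zero, uK_zero]
  map_mul' a b := by
    rw [uK_mul, tt_zero, Matrix.one_mul, rows_add, add_zero]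
    simp [add_comm]

theorem r2Hom_apply (v : Fin k → F) :
    r2Hom (Multiplicative.ofAdd v) = uK 0 (rows 0 v) := rfl

/-- `y ↦ uK 0 (rows y 0)`. -/
def r1Hom : Multiplicative (Fin k → F) →* GG k F where
  toFun a := uK 0 (rows (Multiplicative.toAdd a) 0)
  map_one' := by
    show uK (0 : F) (rows (0 : Fin k → F) 0) = 1
    rw [rows_zero, uK_zero]
  map_mul' a b := by
    rw [uK_mul, tt_zero, Matrix.one_mul, rows_add, add_zero]
    simp [add_comm]

theorem r1Hom_apply (v : Fin k → F) :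
    r1Hom (Multiplicative.ofAdd v) = uK 0 (rows v 0) := rfl

/-- the root group `c ↦ uK c 0`. -/
def xHom : Multiplicative F →* GG k F where
  toFun a := uK (Multiplicative.toAdd a) 0
  map_one' := uK_zero
  map_mul' a b := by
    rw [uK_mul, Matrix.mul_zero, add_zero]
    rfl

theorem xHom_apply (c : F) : (xHom (Multiplicative.ofAdd c) : GG k F) = uK c 0 := rfl

/-- Levi elements -/
def lev (A : GL (Fin 2) F) (D : GL (Fin k) F)
    (h : (A : Matrix (Fin 2) (Fin 2) F).det * (D : Matrix (Fin k) (Fin k) F).det = 1) : GG k F :=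
  pel A 0 D h

/-- conjugation of `pel B X 1` by a Levi element. -/
theorem lev_conj (A : GL (Fin 2) F) (D : GL (Fin k) F)
    (h : (A : Matrix (Fin 2) (Fin 2) F).det * (D : Matrix (Fin k) (Fin k) F).det = 1)
    (B : Matrix (Fin 2) (Fin 2) F) (X : Matrix (Fin 2) (Fin k) F) (hB : B.det * (1 : Matrix (Fin k) (Fin k) F).det = 1) :
    lev A D h * pel B X 1 hB =
      pel ((A : Matrix (Fin 2) (Fin 2) F) * B * ((A⁻¹ : GL (Fin 2) F) : Matrix (Fin 2) (Fin 2) F))
        ((A : Matrix (Fin 2) (Fin 2) F) * X * ((D⁻¹ : GL (Fin k) F) : Matrix (Fin k) (Fin k) F)) 1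
        (by
          rw [Matrix.det_mul, Matrix.det_mul, Matrix.det_one, mul_one]
          have h1 : (A : Matrix (Fin 2) (Fin 2) F).det *
              ((A⁻¹ : GL (Fin 2) F) : Matrix (Fin 2) (Fin 2) F).det = 1 := by
            rw [← Matrix.det_mul, ← Matrix.GeneralLinearGroup.coe_mul, mul_inv_cancel]; simp
          rw [Matrix.det_one, mul_one] at hB
          rw [hB, mul_one, h1]) * lev A D h := by
  unfold lev
  rw [pel_mul, pel_mul]
  have h1 : ((A⁻¹ : GL (Fin 2) F) : Matrix (Fin 2) (Fin 2) F) * (A : Matrix (Fin 2) (Fin 2) F) = 1 := by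
    rw [← Matrix.GeneralLinearGroup.coe_mul, inv_mul_cancel]; rfl
  have h2 : ((D⁻¹ : GL (Fin k) F) : Matrix (Fin k) (Fin k) F) * (D : Matrix (Fin k) (Fin k) F) = 1 := by
    rw [← Matrix.GeneralLinearGroup.coe_mul, inv_mul_cancel]; rfl
  apply pel_congr
  · rw [Matrix.mul_assoc, h1, Matrix.mul_one]
  · rw [Matrix.zero_mul, add_zero, Matrix.mul_zero, zero_add, Matrix.mul_assoc, h2, Matrix.mul_one]
  · rw [Matrix.mul_one, Matrix.one_mul]


/-- `diag(t, 1, ..., 1)` as a monoid homomorphism. -/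
def dgM (m : ℕ) : F →* Matrix (Fin (m + 1)) (Fin (m + 1)) F where
  toFun t := Matrix.diagonal (Function.update (1 : Fin (m + 1) → F) 0 t)
  map_one' := by
    have : Function.update (1 : Fin (m + 1) → F) 0 1 = 1 := by
      ext i
      by_cases h : i = 0
      · subst h; simp
      · simp [Function.update_of_ne h]
    rw [this]
    exact Matrix.diagonal_one
  map_mul' a b := by
    rw [Matrix.diagonal_mul_diagonal]
    congr 1
    ext i
    by_cases h : i = 0
    · subst h; simp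
    · simp [Function.update_of_ne h]

/-- `diag(t, 1, ..., 1)` in `GL`. -/
def dgl (m : ℕ) : Fˣ →* GL (Fin (m + 1)) F := Units.map (dgM m)

theorem dgl_coe (m : ℕ) (t : Fˣ) : (dgl m t : Matrix (Fin (m + 1)) (Fin (m + 1)) F) =
    Matrix.diagonal (Function.update (1 : Fin (m + 1) → F) 0 (t : F)) := rfl

theorem det_dgl (m : ℕ) (t : Fˣ) : (dgl m t : Matrix (Fin (m + 1)) (Fin (m + 1)) F).det = t := by
  rw [dgl_coe, Matrix.det_diagonal, Fin.prod_univ_succ]
  simp

theorem jHom_aux (m : ℕ) (g : GL (Fin 2) F) : (g : Matrix (Fin 2) (Fin 2) F).det *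
    (dgl m (Matrix.GeneralLinearGroup.det g)⁻¹ : Matrix (Fin (m + 1)) (Fin (m + 1)) F).det = 1 := by
  rw [det_dgl, ← Matrix.GeneralLinearGroup.val_det_apply, ← Units.val_mul, mul_inv_cancel]
  rfl

/-- `g ↦ diag(g, det g⁻¹, 1, ..., 1)`. -/
def jHom (m : ℕ) : GL (Fin 2) F →* GG (m + 1) F where
  toFun g := lev g (dgl m (Matrix.GeneralLinearGroup.det g)⁻¹) (jHom_aux m g)
  map_one' := by
    apply Subtype.ext
    simp only [lev, pel_coe, map_one, inv_one]
    rw [Matrix.GeneralLinearGroup.coe_one, Matrix.GeneralLinearGroup.coe_one,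
      Matrix.fromBlocks_one]
    rfl
  map_mul' a b := by
    unfold lev
    rw [pel_mul]
    apply pel_congr
    · rfl
    · simp
    · rw [map_mul, mul_inv, map_mul]; rfl

theorem jHom_apply (m : ℕ) (g : GL (Fin 2) F) :
    jHom m g = lev g (dgl m (Matrix.GeneralLinearGroup.det g)⁻¹) (jHom_aux m g) := rfl

/-- the root group of `GL₂`. -/
noncomputable def xGL : Multiplicative F →* GL (Fin 2) F where
  toFun a := Matrix.GeneralLinearGroup.mkOfDetNeZero (tt (Multiplicative.toAdd a))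
    (by rw [det_tt]; exact one_ne_zero)
  map_one' := by
    apply Units.ext
    exact tt_zero
  map_mul' a b := by
    apply Units.ext
    exact (tt_mul _ _).symm

theorem xGL_coe (c : F) :
    (xGL (Multiplicative.ofAdd c) : Matrix (Fin 2) (Fin 2) F) = tt c := rfl

/-- the Weyl element of `GL₂`. -/
noncomputable def w2 : GL (Fin 2) F :=
  Matrix.GeneralLinearGroup.mkOfDetNeZero !![0, -1; 1, 0] (by simp [Matrix.det_fin_two_of])

theorem w2_coe : ((w2 : GL (Fin 2) F) : Matrix (Fin 2) (Fin 2) F) = !![0, -1; 1, 0] := rfl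

/-- the first basis vector -/
def e0 : Fin 2 ⊕ Fin k → F := Pi.single (Sum.inl 0) 1

theorem e0_ne_zero : (e0 : Fin 2 ⊕ Fin k → F) ≠ 0 := by
  intro h
  have := congrFun h (Sum.inl 0)
  simp [e0] at this

/-- the stabiliser of the point `<e₀>`. -/
def Ppt (k : ℕ) (F : Type*) [Field F] : Subgroup (GG k F) where
  carrier := {g | ∀ i, i ≠ Sum.inl 0 → (g : Matrix (Fin 2 ⊕ Fin k) (Fin 2 ⊕ Fin k) F) i (Sum.inl 0) = 0}
  one_mem' := by
    intro i hi
    simp [hi]
  mul_mem' := by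
    intro a b ha hb i hi
    rw [Matrix.SpecialLinearGroup.coe_mul, Matrix.mul_apply]
    apply Finset.sum_eq_zero
    intro l _
    by_cases hl : l = Sum.inl 0
    · subst hl; rw [ha i hi, zero_mul]
    · rw [hb l hl, mul_zero]
  inv_mem' := by
    intro a ha i hi
    -- `a e₀ = c e₀`, so `a⁻¹ e₀ = c⁻¹ e₀`
    have h1 : (a : Matrix (Fin 2 ⊕ Fin k) (Fin 2 ⊕ Fin k) F) *ᵥ e0 =
        ((a : Matrix (Fin 2 ⊕ Fin k) (Fin 2 ⊕ Fin k) F) (Sum.inl 0) (Sum.inl 0)) • e0 := by
      ext l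
      simp only [e0, Matrix.mulVec_single, Pi.smul_apply, smul_eq_mul, MulOpposite.op_one, one_smul,
        Matrix.col_apply]
      by_cases hl : l = Sum.inl 0
      · subst hl; simp
      · rw [ha l hl]; simp [hl]
    have h2 : ((a⁻¹ : GG k F) : Matrix (Fin 2 ⊕ Fin k) (Fin 2 ⊕ Fin k) F) *
        (a : Matrix (Fin 2 ⊕ Fin k) (Fin 2 ⊕ Fin k) F) = 1 := by
      rw [← Matrix.SpecialLinearGroup.coe_mul, inv_mul_cancel]; rfl
    have h3 := congrArg (fun v => ((a⁻¹ : GG k F) : Matrix (Fin 2 ⊕ Fin k) (Fin 2 ⊕ Fin k) F) *ᵥ v) h1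
    simp only [Matrix.mulVec_mulVec, h2, Matrix.one_mulVec, Matrix.mulVec_smul] at h3
    have hc : (a : Matrix (Fin 2 ⊕ Fin k) (Fin 2 ⊕ Fin k) F) (Sum.inl 0) (Sum.inl 0) ≠ 0 := by
      intro hc
      rw [hc, zero_smul] at h3
      exact e0_ne_zero h3
    have h4 := congrFun h3 i
    simp only [e0, Pi.smul_apply, smul_eq_mul, Matrix.mulVec_single, MulOpposite.op_one, one_smul,
      Matrix.col_apply, Pi.single_apply, hi, if_false] at h4
    rcases mul_eq_zero.mp h4.symm with h | h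
    · exact absurd h hc
    · exact h

theorem mem_Ppt (g : GG k F) : g ∈ Ppt k F ↔
    ∀ i, i ≠ Sum.inl 0 → (g : Matrix (Fin 2 ⊕ Fin k) (Fin 2 ⊕ Fin k) F) i (Sum.inl 0) = 0 := Iff.rfl

/-- joint multiplicity of the linear character `(α, β)` of the group `{uK c X}`
(trivial on the first row of `X`). -/
noncomputable def nn [Fintype F] (χ : GG k F → ℂ) (α : AddChar F ℂ) (β : AddChar (Fin k → F) ℂ) : ℂ :=
  ((Fintype.card F : ℂ) * (Fintype.card (Fin k → F) : ℂ) ^ 2)⁻¹ *
    ∑ c : F, ∑ y₀ : Fin k → F, ∑ y₁ : Fin k → F,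
      χ (uK c (rows y₀ y₁)) * (starRingEnd ℂ) (α c) * (starRingEnd ℂ) (β y₁)

/-- the additive character `y ↦ ψ (y ⬝ᵥ b)`. -/
noncomputable def chV (ψ : AddChar F ℂ) (b : Fin k → F) : AddChar (Fin k → F) ℂ :=
  ψ.compAddMonoidHom
    { toFun := fun y => y ⬝ᵥ b
      map_zero' := zero_dotProduct b
      map_add' := fun y y' => add_dotProduct y y' b }

theorem chV_apply (ψ : AddChar F ℂ) (b y : Fin k → F) : chV ψ b y = ψ (y ⬝ᵥ b) := rfl

end Cfsg.Agent.Lib.Helper44SLDefs
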