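import Mathlib
import Cfsg.Prelude.Def_Characters
import Cfsg.Prelude.Def_Classical
import Cfsg.Agent.Lib.Helper44Wt
import Cfsg.Agent.Lib.Helper44Lam
import Cfsg.Agent.Lib.Helper44SLDefs
import Cfsg.Agent.Lib.Helper49Orth

set_option autoImplicit false

/-! PROJECT 46 (minimal degree of `Ω⁺_{2n}(q)`, S2345): vocabulary.

`alt u v = u vᵀ - v uᵀ`, the set `O2` of alternating matrices of rank two, the group `sqGL n F` of
invertible matrices whose determinant is a square, the Siegel radical `uI X = [[1, X - Xᵀ], [0, 1]]`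
and the Levi elements `gI A = diag (A, A⁻ᵀ)` of the isometry group of `quadFormPlus n F`. -/

namespace Cfsg.Agent.Lib.Helper44ODefs

open Matrix Cfsg Cfsg.Agent.Lib.Helper44Wt Cfsg.Agent.Lib.Helper44Lam
  Cfsg.Agent.Lib.Helper44SLDefs

variable {F : Type*} [Field F]

section LA

variable {ι : Type*} [Fintype ι] [DecidableEq ι]

/-- `u vᵀ - v uᵀ` -/
def alt (u v : ι → F) : Matrix ι ι F := vecMulVec u v - vecMulVec v u

omit [Fintype ι] [DecidableEq ι] in
theorem alt_apply (u v : ι → F) (i j : ι) : alt u v i j = u i * v j - v i * u j := by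
  simp [alt, vecMulVec_apply]

omit [DecidableEq ι] in
theorem alt_mulVec (u v x : ι → F) : alt u v *ᵥ x = (v ⬝ᵥ x) • u - (u ⬝ᵥ x) • v := by
  rw [alt, Matrix.sub_mulVec, Matrix.vecMulVec_mulVec, Matrix.vecMulVec_mulVec]
  ext i
  simp [mul_comm]

omit [DecidableEq ι] in
theorem alt_congr (A : Matrix ι ι F) (u v : ι → F) :
    A * alt u v * Aᵀ = alt (A *ᵥ u) (A *ᵥ v) := by
  simp only [alt, Matrix.mul_sub, Matrix.sub_mul, Matrix.mul_vecMulVec, Matrix.vecMulVec_mul,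
    Matrix.vecMul_transpose]

omit [DecidableEq ι] in
theorem alt_congr' (A : Matrix ι ι F) (u v : ι → F) :
    Aᵀ * alt u v * A = alt (Aᵀ *ᵥ u) (Aᵀ *ᵥ v) := by
  have := alt_congr Aᵀ u v
  rwa [Matrix.transpose_transpose] at this

/-- alternating matrices -/
def IsAltM (C : Matrix ι ι F) : Prop := Cᵀ = -C ∧ ∀ i, C i i = 0

/-- alternating matrices of rank two -/
def O2 : Set (Matrix ι ι F) := {C | ∃ u v : ι → F, LinearIndependent F ![u, v] ∧ C = alt u v}

/-- standard basis vectors -/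
def ee (i : ι) : ι → F := Pi.single i 1

end LA

/-- invertible matrices whose determinant is a square -/
def sqGL (n : ℕ) (F : Type*) [Field F] : Subgroup (GL (Fin n) F) where
  carrier := {A | ∃ a : Fˣ, Matrix.GeneralLinearGroup.det A = a ^ 2}
  one_mem' := ⟨1, by simp⟩
  mul_mem' := by
    rintro A B ⟨a, ha⟩ ⟨b, hb⟩
    exact ⟨a * b, by rw [map_mul, ha, hb, mul_pow]⟩
  inv_mem' := by
    rintro A ⟨a, ha⟩
    exact ⟨a⁻¹, by rw [map_inv, ha, inv_pow]⟩

theorem mem_sqGL {n : ℕ} (A : GL (Fin n) F) :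
    A ∈ sqGL n F ↔ ∃ a : Fˣ, Matrix.GeneralLinearGroup.det A = a ^ 2 := Iff.rfl

/-- the underlying matrix -/
abbrev mt {n : ℕ} (A : sqGL n F) : Matrix (Fin n) (Fin n) F :=
  ((A : GL (Fin n) F) : Matrix (Fin n) (Fin n) F)

/-- `SL_n → sqGL` -/
def slToSq (n : ℕ) (F : Type*) [Field F] : Matrix.SpecialLinearGroup (Fin n) F →* sqGL n F :=
  (Matrix.SpecialLinearGroup.toGL).codRestrict (sqGL n F) (fun A => ⟨1, by
    apply Units.ext
    simp⟩)

theorem slToSq_coe {n : ℕ} (A : Matrix.SpecialLinearGroup (Fin n) F) :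
    (((slToSq n F A : sqGL n F) : GL (Fin n) F) : Matrix (Fin n) (Fin n) F) =
      (A : Matrix (Fin n) (Fin n) F) := rfl

variable {k : ℕ}

/-- the root group `s ↦ 1 + s E₀₁` of `SL_{k+2}`. -/
def x01 (k : ℕ) (F : Type*) [Field F] :
    Multiplicative F →* Matrix.SpecialLinearGroup (Fin (k + 2)) F where
  toFun s := ⟨Matrix.transvection 0 1 (Multiplicative.toAdd s), by
    rw [Matrix.det_transvection_of_ne]
    exact Fin.zero_ne_one⟩
  map_one' := by
    apply Subtype.ext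
    show Matrix.transvection 0 1 (0 : F) = 1
    simp [Matrix.transvection]
  map_mul' s t := by
    apply Subtype.ext
    show Matrix.transvection 0 1 (Multiplicative.toAdd s + Multiplicative.toAdd t) =
      Matrix.transvection 0 1 (Multiplicative.toAdd s) *
        Matrix.transvection 0 1 (Multiplicative.toAdd t)
    rw [Matrix.transvection_mul_transvection_same]
    exact Fin.zero_ne_one

theorem x01_coe (s : F) :
    (x01 k F (Multiplicative.ofAdd s) : Matrix (Fin (k + 2)) (Fin (k + 2)) F) =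
      Matrix.transvection 0 1 s := rfl

/-- the base point `e₁ e₀ᵀ - e₀ e₁ᵀ` of `O2`. -/
def C0 (k : ℕ) (F : Type*) [Field F] : Matrix (Fin (k + 2)) (Fin (k + 2)) F :=
  alt (ee 1) (ee 0)

/-- the matrix unit `E₀₁`. -/
def X0 (k : ℕ) (F : Type*) [Field F] : Matrix (Fin (k + 2)) (Fin (k + 2)) F :=
  Matrix.single 0 1 1

section Orth

variable {n : ℕ}

/-- the isometry group of the hyperbolic form -/
abbrev IO (n : ℕ) (F : Type*) [Field F] := ↥(Cfsg.isometryGroup F (Cfsg.quadFormPlus n F))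

/-- `Ω⁺_{2n}(F)` -/
abbrev OO (n : ℕ) (F : Type*) [Field F] := ↥(Cfsg.Omega F (Cfsg.quadFormPlus n F))

theorem quadFormPlus_eq (v : Fin n ⊕ Fin n → F) :
    Cfsg.quadFormPlus n F v = (fun i => v (Sum.inl i)) ⬝ᵥ (fun i => v (Sum.inr i)) := rfl

theorem fromBlocks_mulVec' (A B C D : Matrix (Fin n) (Fin n) F) (v : Fin n ⊕ Fin n → F) :
    fromBlocks A B C D *ᵥ v =
      Sum.elim (A *ᵥ (fun i => v (Sum.inl i)) + B *ᵥ (fun i => v (Sum.inr i)))
        (C *ᵥ (fun i => v (Sum.inl i)) + D *ᵥ (fun i => v (Sum.inr i))) := by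
  rw [Matrix.fromBlocks_mulVec]
  rfl

theorem dot_skew (X : Matrix (Fin n) (Fin n) F) (b : Fin n → F) : ((X - Xᵀ) *ᵥ b) ⬝ᵥ b = 0 := by
  rw [Matrix.sub_mulVec, sub_dotProduct, Matrix.mulVec_transpose, dotProduct_comm (X *ᵥ b) b,
    Matrix.dotProduct_mulVec, sub_self]

/-- the Siegel radical in the isometry group, parametrised by all matrices -/
def uI : Multiplicative (Matrix (Fin n) (Fin n) F) →* IO n F where
  toFun T := ⟨⟨fromBlocks 1 (Multiplicative.toAdd T - (Multiplicative.toAdd T)ᵀ) 0 1,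
      fromBlocks 1 (-(Multiplicative.toAdd T - (Multiplicative.toAdd T)ᵀ)) 0 1,
      by rw [fromBlocks_multiply]; simp, by rw [fromBlocks_multiply]; simp⟩, by
    rw [Cfsg.Agent.Lib.Helper49Orth.mem_iso]
    intro v
    show Cfsg.quadFormPlus n F
      (fromBlocks 1 (Multiplicative.toAdd T - (Multiplicative.toAdd T)ᵀ) 0 1 *ᵥ v) = _
    rw [fromBlocks_mulVec', quadFormPlus_eq, quadFormPlus_eq]
    simp only [Sum.elim_inl, Sum.elim_inr, Matrix.one_mulVec, Matrix.zero_mulVec, zero_add]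
    rw [add_dotProduct]
    have := dot_skew (Multiplicative.toAdd T) (fun i => v (Sum.inr i))
    simp only [add_eq_left]
    exact this⟩
  map_one' := by
    apply Subtype.ext
    apply Units.ext
    show fromBlocks 1 ((0 : Matrix (Fin n) (Fin n) F) - 0ᵀ) 0 1 = 1
    simp
  map_mul' T T' := by
    apply Subtype.ext
    apply Units.ext
    show fromBlocks 1 ((Multiplicative.toAdd T + Multiplicative.toAdd T') -
        (Multiplicative.toAdd T + Multiplicative.toAdd T')ᵀ) 0 1 =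
      fromBlocks 1 (Multiplicative.toAdd T - (Multiplicative.toAdd T)ᵀ) 0 1 *
        fromBlocks 1 (Multiplicative.toAdd T' - (Multiplicative.toAdd T')ᵀ) 0 1
    rw [fromBlocks_multiply]
    simp only [Matrix.mul_zero, Matrix.zero_mul, Matrix.mul_one, Matrix.one_mul, add_zero, zero_add,
      Matrix.transpose_add]
    congr 1
    abel

theorem uI_coe (T : Matrix (Fin n) (Fin n) F) :
    (((uI (Multiplicative.ofAdd T) : IO n F) : GL (Fin n ⊕ Fin n) F) :
      Matrix (Fin n ⊕ Fin n) (Fin n ⊕ Fin n) F) = fromBlocks 1 (T - Tᵀ) 0 1 := rfl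

theorem coe_inv_mul' (A : GL (Fin n) F) :
    ((A⁻¹ : GL (Fin n) F) : Matrix (Fin n) (Fin n) F) * (A : Matrix (Fin n) (Fin n) F) = 1 := by
  rw [← Matrix.GeneralLinearGroup.coe_mul, inv_mul_cancel]
  rfl

theorem coe_mul_inv' (A : GL (Fin n) F) :
    (A : Matrix (Fin n) (Fin n) F) * ((A⁻¹ : GL (Fin n) F) : Matrix (Fin n) (Fin n) F) = 1 := by
  rw [← Matrix.GeneralLinearGroup.coe_mul, mul_inv_cancel]
  rfl

/-- the Levi elements `diag (A, A⁻ᵀ)` -/
def gI : GL (Fin n) F →* IO n F where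
  toFun A := ⟨⟨fromBlocks (A : Matrix (Fin n) (Fin n) F) 0 0
      ((A⁻¹ : GL (Fin n) F) : Matrix (Fin n) (Fin n) F)ᵀ,
      fromBlocks ((A⁻¹ : GL (Fin n) F) : Matrix (Fin n) (Fin n) F) 0 0
        (A : Matrix (Fin n) (Fin n) F)ᵀ,
      by
        rw [fromBlocks_multiply]
        simp [coe_mul_inv', ← Matrix.transpose_mul],
      by
        rw [fromBlocks_multiply]
        simp [coe_inv_mul', ← Matrix.transpose_mul]⟩, by
    rw [Cfsg.Agent.Lib.Helper49Orth.mem_iso]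
    intro v
    show Cfsg.quadFormPlus n F (fromBlocks (A : Matrix (Fin n) (Fin n) F) 0 0
      ((A⁻¹ : GL (Fin n) F) : Matrix (Fin n) (Fin n) F)ᵀ *ᵥ v) = _
    rw [fromBlocks_mulVec', quadFormPlus_eq, quadFormPlus_eq]
    simp only [Sum.elim_inl, Sum.elim_inr, Matrix.zero_mulVec, zero_add, add_zero]
    rw [Matrix.mulVec_transpose, dotProduct_comm, ← Matrix.dotProduct_mulVec, Matrix.mulVec_mulVec,
      coe_inv_mul', Matrix.one_mulVec, dotProduct_comm]⟩
  map_one' := by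
    apply Subtype.ext
    apply Units.ext
    show fromBlocks ((1 : GL (Fin n) F) : Matrix (Fin n) (Fin n) F) 0 0
      (((1 : GL (Fin n) F)⁻¹ : GL (Fin n) F) : Matrix (Fin n) (Fin n) F)ᵀ = 1
    simp
  map_mul' A B := by
    apply Subtype.ext
    apply Units.ext
    show fromBlocks ((A * B : GL (Fin n) F) : Matrix (Fin n) (Fin n) F) 0 0
      (((A * B)⁻¹ : GL (Fin n) F) : Matrix (Fin n) (Fin n) F)ᵀ =
      fromBlocks (A : Matrix (Fin n) (Fin n) F) 0 0
        ((A⁻¹ : GL (Fin n) F) : Matrix (Fin n) (Fin n) F)ᵀ *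
      fromBlocks (B : Matrix (Fin n) (Fin n) F) 0 0
        ((B⁻¹ : GL (Fin n) F) : Matrix (Fin n) (Fin n) F)ᵀ
    rw [fromBlocks_multiply, _root_.mul_inv_rev]
    simp [Matrix.transpose_mul]

theorem gI_coe (A : GL (Fin n) F) :
    (((gI A : IO n F) : GL (Fin n ⊕ Fin n) F) : Matrix (Fin n ⊕ Fin n) (Fin n ⊕ Fin n) F) =
      fromBlocks (A : Matrix (Fin n) (Fin n) F) 0 0
        ((A⁻¹ : GL (Fin n) F) : Matrix (Fin n) (Fin n) F)ᵀ := rfl

theorem gI_mul_uI (A : GL (Fin n) F) (T : Matrix (Fin n) (Fin n) F) :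
    gI A * uI (Multiplicative.ofAdd T) =
      uI (Multiplicative.ofAdd ((A : Matrix (Fin n) (Fin n) F) * T *
        (A : Matrix (Fin n) (Fin n) F)ᵀ)) * gI A := by
  apply Subtype.ext
  apply Units.ext
  show fromBlocks (A : Matrix (Fin n) (Fin n) F) 0 0
        ((A⁻¹ : GL (Fin n) F) : Matrix (Fin n) (Fin n) F)ᵀ * fromBlocks 1 (T - Tᵀ) 0 1 =
    fromBlocks 1 ((A : Matrix (Fin n) (Fin n) F) * T * (A : Matrix (Fin n) (Fin n) F)ᵀ -
      ((A : Matrix (Fin n) (Fin n) F) * T * (A : Matrix (Fin n) (Fin n) F)ᵀ)ᵀ) 0 1 *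
      fromBlocks (A : Matrix (Fin n) (Fin n) F) 0 0
        ((A⁻¹ : GL (Fin n) F) : Matrix (Fin n) (Fin n) F)ᵀ
  rw [fromBlocks_multiply, fromBlocks_multiply]
  simp only [Matrix.mul_zero, Matrix.zero_mul, Matrix.mul_one, Matrix.one_mul, add_zero, zero_add]
  congr 1
  rw [Matrix.transpose_mul, Matrix.transpose_mul, Matrix.transpose_transpose, Matrix.sub_mul,
    Matrix.mul_assoc _ _ ((A⁻¹ : GL (Fin n) F) : Matrix (Fin n) (Fin n) F)ᵀ,
    Matrix.mul_assoc _ _ ((A⁻¹ : GL (Fin n) F) : Matrix (Fin n) (Fin n) F)ᵀ,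
    Matrix.mul_assoc _ _ ((A⁻¹ : GL (Fin n) F) : Matrix (Fin n) (Fin n) F)ᵀ,
    ← Matrix.transpose_mul, coe_inv_mul', Matrix.transpose_one, Matrix.mul_one, Matrix.mul_one,
    Matrix.mul_sub]

theorem uI_ker (X : Matrix (Fin n) (Fin n) F) (hX : Xᵀ = X) : uI (Multiplicative.ofAdd X) = 1 := by
  apply Subtype.ext
  apply Units.ext
  rw [uI_coe, hX, sub_self]
  exact fromBlocks_one

/-- the Siegel radical as a homomorphism to `Ω`. -/
def uQ (hU : ∀ X : Multiplicative (Matrix (Fin n) (Fin n) F),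
    uI X ∈ Cfsg.Omega F (Cfsg.quadFormPlus n F)) :
    Multiplicative (Matrix (Fin n) (Fin n) F) →* OO n F :=
  uI.codRestrict _ hU

/-- the Levi subgroup as a homomorphism to `Ω`. -/
def gL (hL : ∀ A : sqGL n F, gI (A : GL (Fin n) F) ∈ Cfsg.Omega F (Cfsg.quadFormPlus n F)) :
    sqGL n F →* OO n F :=
  (gI.comp (sqGL n F).subtype).codRestrict _ hL

theorem uQ_coe (hU : ∀ X : Multiplicative (Matrix (Fin n) (Fin n) F),
    uI X ∈ Cfsg.Omega F (Cfsg.quadFormPlus n F)) (X : Multiplicative (Matrix (Fin n) (Fin n) F)) :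
    ((uQ hU X : OO n F) : IO n F) = uI X := rfl

theorem gL_coe (hL : ∀ A : sqGL n F, gI (A : GL (Fin n) F) ∈ Cfsg.Omega F (Cfsg.quadFormPlus n F))
    (A : sqGL n F) : ((gL hL A : OO n F) : IO n F) = gI (A : GL (Fin n) F) := rfl

/-- ordered pairs spanning a totally singular line -/
def SS (n : ℕ) (F : Type*) [Field F] : Set ((Fin n ⊕ Fin n → F) × (Fin n ⊕ Fin n → F)) :=
  {p | Cfsg.quadFormPlus n F p.1 = 0 ∧ Cfsg.quadFormPlus n F p.2 = 0 ∧
    QuadraticMap.polar (Cfsg.quadFormPlus n F) p.1 p.2 = 0 ∧ LinearIndependent F ![p.1, p.2]}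

end Orth

end Cfsg.Agent.Lib.Helper44ODefs
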