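import Mathlib
import Cfsg.Agent.Lib.Helper44ODefs

set_option autoImplicit false

/-! PROJECT 46: permutation matrices and the isometries exchanging `inl j` and `inr j`
(common tools of the pieces `gmem` and `sigma`). -/

namespace Cfsg.Agent.Lib.Helper1OPerm

open Matrix Cfsg Cfsg.Agent.Lib.Helper44ODefs

variable {F : Type*} [Field F]

section gen

variable {ι : Type*} [Fintype ι] [DecidableEq ι]

/-- permutation matrices as a homomorphism to `GL` -/
def pG (ι : Type*) [Fintype ι] [DecidableEq ι] (F : Type*) [Field F] : Equiv.Perm ι →* GL ι F :=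
  (Units.map (Matrix.permMatrixHom (n := ι) (R := F))).comp
    (toUnits (G := Equiv.Perm ι)).toMonoidHom

theorem pG_coe (π : Equiv.Perm ι) :
    ((pG ι F π : GL ι F) : Matrix ι ι F) = (π⁻¹).permMatrix F := rfl

theorem pG_mulVec (π : Equiv.Perm ι) (v : ι → F) :
    ((pG ι F π : GL ι F) : Matrix ι ι F) *ᵥ v = v ∘ (π⁻¹ : Equiv.Perm ι) := by
  rw [pG_coe, Matrix.permMatrix_mulVec]

theorem GL_ext {A B : GL ι F}
    (h : ∀ v : ι → F, (A : Matrix ι ι F) *ᵥ v = (B : Matrix ι ι F) *ᵥ v) : A = B := by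
  apply Units.ext
  exact Matrix.ext_of_mulVec_single (fun i => h _)

end gen

variable {n : ℕ}

/-- the isometry exchanging the basis vectors `inl j` and `inr j` -/
def rI (j : Fin n) : IO n F :=
  ⟨pG (Fin n ⊕ Fin n) F (Equiv.swap (Sum.inl j) (Sum.inr j)), by
    rw [Cfsg.Agent.Lib.Helper49Orth.mem_iso]
    intro v
    rw [pG_mulVec, Equiv.swap_inv]
    unfold Cfsg.quadFormPlus
    apply Finset.sum_congr rfl
    intro i _
    by_cases h : i = j
    · subst h
      simp [mul_comm]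
    · have h1 : Equiv.swap (Sum.inl j : Fin n ⊕ Fin n) (Sum.inr j) (Sum.inl i) = Sum.inl i :=
        Equiv.swap_apply_of_ne_of_ne (by simpa using h) (by simp)
      have h2 : Equiv.swap (Sum.inl j : Fin n ⊕ Fin n) (Sum.inr j) (Sum.inr i) = Sum.inr i :=
        Equiv.swap_apply_of_ne_of_ne (by simp) (by simpa using h)
      simp only [Function.comp_apply, h1, h2]⟩

theorem rI_coe (j : Fin n) : ((rI j : IO n F) : GL (Fin n ⊕ Fin n) F) =
    pG (Fin n ⊕ Fin n) F (Equiv.swap (Sum.inl j) (Sum.inr j)) := rfl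

theorem gI_mulVec (A : GL (Fin n) F) (v : Fin n ⊕ Fin n → F) :
    (((gI A : IO n F) : GL (Fin n ⊕ Fin n) F) : Matrix (Fin n ⊕ Fin n) (Fin n ⊕ Fin n) F) *ᵥ v =
      Sum.elim ((A : Matrix (Fin n) (Fin n) F) *ᵥ (fun i => v (Sum.inl i)))
        (((A⁻¹ : GL (Fin n) F) : Matrix (Fin n) (Fin n) F)ᵀ *ᵥ (fun i => v (Sum.inr i))) := by
  rw [gI_coe, fromBlocks_mulVec']
  simp

theorem gI_pG (π : Equiv.Perm (Fin n)) :
    ((gI (pG (Fin n) F π) : IO n F) : GL (Fin n ⊕ Fin n) F) =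
      pG (Fin n ⊕ Fin n) F (Equiv.sumCongr π π) := by
  apply GL_ext
  intro v
  rw [gI_mulVec, pG_mulVec, pG_mulVec, ← map_inv, pG_coe, Matrix.transpose_permMatrix,
    Matrix.permMatrix_mulVec, inv_inv]
  ext x
  rcases x with i | i
  · rfl
  · rfl

end Cfsg.Agent.Lib.Helper1OPerm
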