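import Mathlib
import Cfsg.Agent.Lib.Helper44ODefs
import Cfsg.Agent.Lib.Helper1OPerm
import Cfsg.Agent.Lib.Helper6SL

set_option autoImplicit false

/-! PROJECT 46, piece `gmem`: the Levi elements with square determinant lie in `Ω`. -/

namespace Cfsg.Agent.Lib.Helper1Ogmem

open Matrix Cfsg Cfsg.Agent.Lib.Helper44Wt Cfsg.Agent.Lib.Helper44Lam
  Cfsg.Agent.Lib.Helper44SLDefs Cfsg.Agent.Lib.Helper44ODefs Cfsg.Agent.Lib.Helper1OPerm

open scoped commutatorElement

variable {F : Type*} [Field F]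

variable {n : ℕ}

/-- `diag (1, …, a, …, 1)` -/
def dG (j : Fin n) : Fˣ →* GL (Fin n) F :=
  (Units.map (Matrix.diagonalRingHom (Fin n) F).toMonoidHom).comp
    ((MulEquiv.piUnits (M := fun _ : Fin n => F)).symm.toMonoidHom.comp
      (MonoidHom.mulSingle (fun _ : Fin n => Fˣ) j))

theorem dG_coe (j : Fin n) (a : Fˣ) : ((dG j a : GL (Fin n) F) : Matrix (Fin n) (Fin n) F) =
    Matrix.diagonal (fun i => ((Pi.mulSingle j a : Fin n → Fˣ) i : F)) := rfl

theorem dG_det (j : Fin n) (a : Fˣ) : Matrix.GeneralLinearGroup.det (dG j a) = a := by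
  apply Units.ext
  rw [Matrix.GeneralLinearGroup.val_det_apply, dG_coe, Matrix.det_diagonal, ← Units.coe_prod,
    Finset.prod_pi_mulSingle']
  simp

theorem rI_mul_gI_dG (j : Fin n) (a : Fˣ) :
    (rI j : IO n F) * gI (dG j a) = (gI (dG j a))⁻¹ * rI j := by
  rw [← map_inv, ← map_inv]
  apply Subtype.ext
  apply GL_ext
  intro v
  rw [Subgroup.coe_mul, Subgroup.coe_mul, Matrix.GeneralLinearGroup.coe_mul,
    Matrix.GeneralLinearGroup.coe_mul, ← Matrix.mulVec_mulVec, ← Matrix.mulVec_mulVec, rI_coe,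
    pG_mulVec, pG_mulVec, gI_mulVec, gI_mulVec, ← map_inv, ← map_inv, inv_inv, Equiv.swap_inv]
  simp only [dG_coe, Matrix.diagonal_transpose]
  ext x
  rcases x with i | i
  · by_cases h : i = j
    · subst h
      simp [Matrix.mulVec_diagonal]
    · have h1 : Equiv.swap (Sum.inl j : Fin n ⊕ Fin n) (Sum.inr j) (Sum.inl i) = Sum.inl i :=
        Equiv.swap_apply_of_ne_of_ne (by simpa using h) (by simp)
      simp [Matrix.mulVec_diagonal, h1, Pi.mulSingle_apply, h]
  · by_cases h : i = j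
    · subst h
      simp [Matrix.mulVec_diagonal]
    · have h2 : Equiv.swap (Sum.inl j : Fin n ⊕ Fin n) (Sum.inr j) (Sum.inr i) = Sum.inr i :=
        Equiv.swap_apply_of_ne_of_ne (by simp) (by simpa using h)
      simp [Matrix.mulVec_diagonal, h2, Pi.mulSingle_apply, h]

theorem gI_dG_sq_mem (j : Fin n) (a : Fˣ) :
    gI (dG j (a ^ 2)) ∈ Cfsg.Omega F (Cfsg.quadFormPlus n F) := by
  set g : IO n F := gI (dG j a) with hg
  set r : IO n F := rI j with hr
  have h : r * g = g⁻¹ * r := rI_mul_gI_dG j a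
  have h2 : r * g⁻¹ = g * r := by
    calc r * g⁻¹ = g * (g⁻¹ * r) * g⁻¹ := by group
      _ = g * (r * g) * g⁻¹ := by rw [h]
      _ = g * r := by group
  have h3 : ⁅g, r⁆ = g * g := by
    rw [commutatorElement_def]
    calc g * r * g⁻¹ * r⁻¹ = g * (r * g⁻¹) * r⁻¹ := by group
      _ = g * (g * r) * r⁻¹ := by rw [h2]
      _ = g * g := by group
  have h4 : gI (dG j (a ^ 2)) = g * g := by
    rw [pow_two, map_mul, map_mul]
  rw [h4, ← h3]
  exact Subgroup.commutator_mem_commutator (Subgroup.mem_top g) (Subgroup.mem_top r)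

theorem gI_SL_mem (hn : 3 ≤ n) (B : Matrix.SpecialLinearGroup (Fin n) F) :
    gI (Matrix.SpecialLinearGroup.toGL B) ∈ Cfsg.Omega F (Cfsg.quadFormPlus n F) := by
  have h1 : commutator (Matrix.SpecialLinearGroup (Fin n) F) = ⊤ :=
    Cfsg.Agent.Lib.Helper6SL.commutator_SL_eq_top (by simpa using hn)
  let φ : Matrix.SpecialLinearGroup (Fin n) F →* IO n F :=
    gI.comp Matrix.SpecialLinearGroup.toGL
  have h2 : (commutator (Matrix.SpecialLinearGroup (Fin n) F)).map φ ≤ commutator (IO n F) := by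
    rw [commutator_def, Subgroup.map_commutator, commutator_def]
    exact Subgroup.commutator_mono le_top le_top
  exact h2 ⟨B, h1 ▸ Subgroup.mem_top B, rfl⟩

theorem gI_mem [Fintype F] [DecidableEq F] (n : ℕ) (hn : 3 ≤ n) (A : sqGL n F) :
    gI (A : GL (Fin n) F) ∈ Cfsg.Omega F (Cfsg.quadFormPlus n F) := by
  obtain ⟨a, ha⟩ := A.2
  let j : Fin n := ⟨0, by omega⟩
  set D : GL (Fin n) F := dG j (a ^ 2) with hD
  set B : GL (Fin n) F := (A : GL (Fin n) F) * D⁻¹ with hB
  have hdet : Matrix.GeneralLinearGroup.det B = 1 := by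
    rw [hB, map_mul, map_inv, ha, hD, dG_det, mul_inv_cancel]
  have hdet' : (B : Matrix (Fin n) (Fin n) F).det = 1 := by
    rw [← Matrix.GeneralLinearGroup.val_det_apply, hdet]; rfl
  have hB' : Matrix.SpecialLinearGroup.toGL (⟨(B : Matrix (Fin n) (Fin n) F), hdet'⟩ :
      Matrix.SpecialLinearGroup (Fin n) F) = B := Units.ext rfl
  have hA : (A : GL (Fin n) F) = B * D := by rw [hB]; group
  rw [hA, map_mul]
  exact Subgroup.mul_mem _ (hB' ▸ gI_SL_mem hn _) (gI_dG_sq_mem j a)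

end Cfsg.Agent.Lib.Helper1Ogmem
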