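import Mathlib
import Cfsg.Agent.Lib.Helper7OPlus
import Cfsg.Agent.Lib.Helper7Witt
import Cfsg.Agent.Lib.Helper49All

set_option autoImplicit false

/-! Project 4625, family `POmega+`: the order of `Ω⁺_{2m}(F)` in characteristic 2. -/

namespace Cfsg.Agent.Lib.H99EaOpCard

open Cfsg

theorem odd_pow_sub_one {q : ℕ} (hq : Even q) (hq0 : 0 < q) {k : ℕ} (hk : k ≠ 0) :
    Odd (q ^ k - 1) := by
  have h1 : Even (q ^ k) := (Nat.even_pow.2 ⟨hq, hk⟩)
  have h2 : 1 ≤ q ^ k := Nat.one_le_pow _ _ hq0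
  rcases h1 with ⟨r, hr⟩
  exact ⟨r - 1, by omega⟩

theorem card_Omega {F : Type*} [Field F] [Fintype F] [CharP F 2] (m : ℕ) (hm : 4 ≤ m) :
    ∃ c, Odd c ∧ Nat.card (Cfsg.Omega F (Cfsg.quadFormPlus m F)) =
      Fintype.card F ^ (m * (m - 1)) * c := by
  classical
  have hfun : ⇑(Lib.Helper7OPlus.QP F m) = Cfsg.quadFormPlus m F :=
    funext (Lib.Helper7OPlus.QP_apply m)
  have hQ := Lib.Helper7Witt.nondegenerate_of (Lib.Helper7OPlus.nondeg (F := F) m)
  have hcard : Fintype.card (Fin m ⊕ Fin m) = 2 * m := by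
    simp; ring
  have hq : Fintype.card F ≠ 2 ∨ Fintype.card (Fin m ⊕ Fin m) ≠ 4 := by
    right; rw [hcard]; omega
  have hidx := Lib.Helper49All.index_Omega_two (Lib.Helper7OPlus.QP F m) hQ hq
      (by rw [hcard]; omega)
  rw [hfun] at hidx
  have h1 := Subgroup.card_mul_index (Cfsg.Omega F (Cfsg.quadFormPlus m F))
  rw [hidx, Lib.Helper7OPlus.card_isometryGroup_plus m (by omega)] at h1
  have heven : Even (Fintype.card F) := by
    rw [Nat.even_iff]
    exact FiniteField.even_card_iff_char_two.1 (ringChar.eq F 2)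
  refine ⟨(Fintype.card F ^ m - 1) * ∏ i ∈ Finset.range (m - 1),
    (Fintype.card F ^ (2 * (i + 1)) - 1), ?_, ?_⟩
  · apply Odd.mul
    · exact odd_pow_sub_one heven Fintype.card_pos (by omega)
    · apply Finset.prod_induction _ Odd (fun a b => Odd.mul) odd_one
      intro i _
      exact odd_pow_sub_one heven Fintype.card_pos (by omega)
  · have h2 : Nat.card (Cfsg.Omega F (Cfsg.quadFormPlus m F)) * 2 =
        (Fintype.card F ^ (m * (m - 1)) * ((Fintype.card F ^ m - 1) * ∏ i ∈ Finset.range (m - 1),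
          (Fintype.card F ^ (2 * (i + 1)) - 1))) * 2 := by
      rw [h1]; ring
    exact Nat.eq_of_mul_eq_mul_right (by norm_num) h2

end Cfsg.Agent.Lib.H99EaOpCard
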