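import Cfsg.Agent.Lib.H99EaSup
import Cfsg.Agent.Lib.H99EaEquiv
import Cfsg.Agent.Lib.Helper22TwSB

set_option autoImplicit false

/-! `SqD U1` for helper22's split (B,N)-structure `SB` (used for 2F4), from `SqD` of the SIMPLE root subgroups `XJ j` and the order of `U1`:
`U1` is built up along a reduced word of the longest element.  (Same idea as `H99EaTG`.) -/

namespace Cfsg.Agent.Lib.H99EaSB

open Cfsg.Agent.Lib.Helper99EaDefs Cfsg.Agent.Lib.Helper22TwSB Cfsg.Agent.Lib.Helper23RG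
  Cfsg.Agent.Lib.Helper23RG.RG

variable {𝔾 F R I I1 : Type*} [Group 𝔾] [Field F] {S : RG 𝔾 F R I} (T : SB S I1)

/-- generated by `XJ j1`, `n_{j1} XJ j2 n_{j1}⁻¹`, ... -/
def UL : List I1 → Subgroup 𝔾
  | [] => ⊥
  | (j :: L) => T.XJ j ⊔ (UL L).map (MulAut.conj (T.nJ j)).toMonoidHom

def GoodAt : Equiv.Perm R → List I1 → Prop
  | _, [] => True
  | π, (j :: L) => T.posJ π j ∧ GoodAt (π * T.wJ j) L

/-- every suffix of the word is "positive" -/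
def Good : List I1 → Prop
  | [] => True
  | (j :: L) => GoodAt T 1 (j :: L) ∧ Good L

variable {T} (ok : S.Ok) (hBV : ∀ g ∈ S.B, g ∈ S.V → g = 1) (tk : T.Ok)

include tk in
/-- (30 min) induction on `L` (generalising `π`, `m`): `tk.pos_conj` for the `XJ j` part; for the other part `m * nJ j ∈ N0`
(`nJ_mem_N0`), `S.Mon (m * nJ j) (π * wJ j)` (`Mon.mul` in Helper23RG + `tk.mon j`), and `Subgroup.map_map` / elementwise
`m * (n * g * n⁻¹) * m⁻¹ = (m*n) * g * (m*n)⁻¹`.  Use `Subgroup.map_sup`, `sup_le`. -/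
theorem conj_UL_le (L : List I1) : ∀ (π : Equiv.Perm R), GoodAt T π L → ∀ m ∈ T.N0, S.Mon m π →
    (UL T L).map (MulAut.conj m).toMonoidHom ≤ T.U1 := by
  induction L with
  | nil =>
    intro π _ m _ _
    show (⊥ : Subgroup 𝔾).map _ ≤ _
    rw [Subgroup.map_bot]
    exact bot_le
  | cons j L ih =>
    intro π hG m hm hM
    show (T.XJ j ⊔ (UL T L).map (MulAut.conj (T.nJ j)).toMonoidHom).map (MulAut.conj m).toMonoidHom ≤ _
    rw [Subgroup.map_sup]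
    apply sup_le
    · rintro _ ⟨x, hx, rfl⟩
      exact tk.pos_conj π j hG.1 m hm hM x hx
    · have h1 := ih (π * T.wJ j) hG.2 (m * T.nJ j) (mul_mem hm (SB.nJ_mem_N0 j)) (hM.mul (tk.mon j))
      rintro _ ⟨_, ⟨g, hg, rfl⟩, rfl⟩
      have h2 : (MulAut.conj (m * T.nJ j)).toMonoidHom g ∈ T.U1 := h1 ⟨g, hg, rfl⟩
      have e : (MulAut.conj m).toMonoidHom ((MulAut.conj (T.nJ j)).toMonoidHom g)
          = (MulAut.conj (m * T.nJ j)).toMonoidHom g := by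
        show m * (T.nJ j * g * (T.nJ j)⁻¹) * m⁻¹ = (m * T.nJ j) * g * (m * T.nJ j)⁻¹
        group
      rw [e]
      exact h2

include ok tk in
/-- (10 min) `conj_UL_le` with `m = 1`, `π = 1` (`Mon` of `1`: look for `Mon.one`/`mon_one` in Helper23RG). -/
theorem UL_le_U1 (L : List I1) (h : GoodAt T 1 L) : UL T L ≤ T.U1 := by
  have h1 := conj_UL_le tk L 1 h 1 (one_mem _) Mon.one
  intro g hg
  have h2 : (MulAut.conj (1 : 𝔾)).toMonoidHom g ∈ T.U1 := h1 ⟨g, hg, rfl⟩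
  have e : (MulAut.conj (1 : 𝔾)).toMonoidHom g = g := by
    show 1 * g * 1⁻¹ = g
    group
  rwa [e] at h2

include hBV tk in
/-- (15 min) `z` in both: `n z n⁻¹ ∈ S.V` (`tk.n_XJ_V`) and `∈ UJ j ≤ U1 ≤ S.U ≤ S.B` (`tk.n_UJ`, `tk.UJ_le`, `tk.U1_le`, `U_le_B`); `hBV`. -/
theorem XJ_inf_UJ (j : I1) : T.XJ j ⊓ T.UJ j = ⊥ := by
  rw [eq_bot_iff]
  rintro z ⟨hz1, hz2⟩
  have h1 : T.nJ j * z * (T.nJ j)⁻¹ ∈ S.V := tk.n_XJ_V j z hz1
  have h2 : T.nJ j * z * (T.nJ j)⁻¹ ∈ S.B :=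
    U_le_B (tk.U1_le (tk.UJ_le j (tk.n_UJ j z hz2)))
  have h3 := hBV _ h2 h1
  rw [Subgroup.mem_bot]
  have : z = (T.nJ j)⁻¹ * (T.nJ j * z * (T.nJ j)⁻¹) * T.nJ j := by group
  rw [this, h3]
  group

include ok hBV tk in
/-- (30 min) `u ∈ UL L ≤ U1`: `u = a x` (`tk.split j`), `n u n⁻¹ ∈ U1` (`conj_UL_le` with `m = nJ j`, `π = 1 * wJ j`), `n a n⁻¹ ∈ UJ j ≤ U1`, so
`n x n⁻¹ ∈ U1 ∩ V ≤ B ∩ V = 1`, `x = 1`, `n u n⁻¹ = n a n⁻¹ ∈ UJ j`. -/
theorem conj_le_UJ (j : I1) (L : List I1) (hL : Good T (j :: L)) :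
    (UL T L).map (MulAut.conj (T.nJ j)).toMonoidHom ≤ T.UJ j := by
  rintro _ ⟨u, hu, rfl⟩
  show T.nJ j * u * (T.nJ j)⁻¹ ∈ T.UJ j
  have hGL : GoodAt T 1 L := by
    cases L with
    | nil => trivial
    | cons i L' => exact hL.2.1
  have huU : u ∈ T.U1 := UL_le_U1 ok tk L hGL hu
  obtain ⟨a, ha, x, hx, rfl⟩ := tk.split j u huU
  have h1 : T.nJ j * (a * x) * (T.nJ j)⁻¹ ∈ T.U1 :=
    conj_UL_le tk L (1 * T.wJ j) hL.1.2 (T.nJ j) (SB.nJ_mem_N0 j) (by rw [one_mul]; exact tk.mon j)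
      ⟨a * x, hu, rfl⟩
  have h2 : T.nJ j * a * (T.nJ j)⁻¹ ∈ T.UJ j := tk.n_UJ j a ha
  have h3 : T.nJ j * x * (T.nJ j)⁻¹ ∈ T.U1 := by
    have e : T.nJ j * x * (T.nJ j)⁻¹ = (T.nJ j * a * (T.nJ j)⁻¹)⁻¹ * (T.nJ j * (a * x) * (T.nJ j)⁻¹) := by
      group
    rw [e]
    exact mul_mem (inv_mem (tk.UJ_le j h2)) h1
  have h4 : T.nJ j * x * (T.nJ j)⁻¹ = 1 :=
    hBV _ (U_le_B (tk.U1_le h3)) (tk.n_XJ_V j x hx)
  have e : T.nJ j * (a * x) * (T.nJ j)⁻¹ = (T.nJ j * a * (T.nJ j)⁻¹) * (T.nJ j * x * (T.nJ j)⁻¹) := by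
    group
  rw [e, h4, mul_one]
  exact h2

/-- (20 min) induction: `H99EaSup.sqD_sup`, `H99EaEquiv.sqD_of_surj`/`sqD_of_equiv` (`Subgroup.equivMapOfInjective`). -/
theorem sqD_UL (hX : ∀ j, SqD (T.XJ j)) (L : List I1) : SqD (UL T L) := by
  induction L with
  | nil =>
    intro x
    have : x = 1 := Subtype.ext (Subgroup.mem_bot.1 x.2)
    rw [this, one_pow]
    exact Subgroup.one_mem _
  | cons i L ih =>
    show SqD (T.XJ i ⊔ (UL T L).map (MulAut.conj (T.nJ i)).toMonoidHom : Subgroup 𝔾)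
    apply H99EaSup.sqD_sup _ _ (hX i)
    exact H99EaEquiv.sqD_of_equiv
      (Subgroup.equivMapOfInjective (UL T L) (MulAut.conj (T.nJ i)).toMonoidHom
        (MulAut.conj (T.nJ i)).injective).symm ih

include ok hBV tk in
/-- (30 min) induction: `H99EaSup.card_sup_ge`, `XJ_inf_UJ`, `conj_le_UJ`. -/
theorem card_UL [Finite 𝔾] (L : List I1) (hL : Good T L) :
    (L.map (fun j => Nat.card (T.XJ j))).prod ≤ Nat.card (UL T L) := by
  induction L with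
  | nil =>
    show 1 ≤ Nat.card (⊥ : Subgroup 𝔾)
    simp
  | cons i L ih =>
    show _ ≤ Nat.card (T.XJ i ⊔ (UL T L).map (MulAut.conj (T.nJ i)).toMonoidHom : Subgroup 𝔾)
    rw [List.map_cons, List.prod_cons]
    have h1 : T.XJ i ⊓ (UL T L).map (MulAut.conj (T.nJ i)).toMonoidHom = ⊥ := by
      rw [eq_bot_iff, ← XJ_inf_UJ hBV tk i]
      exact inf_le_inf le_rfl (conj_le_UJ ok hBV tk i L hL)
    have h2 := H99EaSup.card_sup_ge _ _ h1
    have h3 : Nat.card ((UL T L).map (MulAut.conj (T.nJ i)).toMonoidHom) = Nat.card (UL T L) :=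
      (Nat.card_congr (Subgroup.equivMapOfInjective (UL T L) (MulAut.conj (T.nJ i)).toMonoidHom
        (MulAut.conj (T.nJ i)).injective).toEquiv).symm
    rw [h3] at h2
    exact le_trans (Nat.mul_le_mul_left _ (ih hL.2)) h2

include ok hBV tk in
/-- MAIN (10 min): `UL L = U1` by `Subgroup.eq_of_le_of_card_ge`. -/
theorem sqD_U1 [Finite 𝔾] (hX : ∀ j, SqD (T.XJ j)) (L : List I1) (hL : Good T L)
    (hcard : Nat.card T.U1 ≤ (L.map (fun j => Nat.card (T.XJ j))).prod) : SqD T.U1 := by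
  have hG : GoodAt T 1 L := by
    cases L with
    | nil => trivial
    | cons i L' => exact hL.1
  have h1 : UL T L = T.U1 :=
    Subgroup.eq_of_le_of_card_ge (UL_le_U1 ok tk L hG) (hcard.trans (card_UL ok hBV tk L hL))
  rw [← h1]
  exact sqD_UL hX L

end Cfsg.Agent.Lib.H99EaSB
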