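import Cfsg.Agent.Lib.Helper22TwSB2
import Cfsg.Agent.Lib.Helper99EaDefs
import Cfsg.Agent.Lib.H99EaClos
import Cfsg.Agent.Lib.H99EaEquiv

set_option autoImplicit false
set_option linter.unusedSectionVars false
set_option linter.unusedVariables false

/-! Project 4625, family `2F4`, generic part: in a split (B,N)-structure `SB` with length data, `U1` is generated by the
`N0`-conjugates of the fundamental subgroups `XJ j` lying in `U1`; hence `SqD U1` follows from `SqD (XJ j)`. -/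

namespace Cfsg.Agent.Lib.H99EaSB2

open Subgroup Cfsg.Agent.Lib.Helper23Grp Cfsg.Agent.Lib.Helper23Weyl Cfsg.Agent.Lib.Helper23RG
  Cfsg.Agent.Lib.Helper23RG.RG Cfsg.Agent.Lib.Helper22TwSB Cfsg.Agent.Lib.Helper99EaDefs

variable {𝔾 F R I I1 : Type*} [Group 𝔾] [Field F] {S : RG 𝔾 F R I}

/-- the generating set -/
def gen (T : SB S I1) : Set 𝔾 :=
  {g | ∃ (π : Equiv.Perm R) (j : I1) (m : 𝔾), T.posJ π j ∧ m ∈ T.N0 ∧ S.Mon m π ∧ ∃ x ∈ T.XJ j, g = m * x * m⁻¹}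

def CC (T : SB S I1) : Subgroup 𝔾 := closure (gen T)

variable {T : SB S I1} (ok : S.Ok) (hBV : ∀ g ∈ S.B, g ∈ S.V → g = 1) (tk : T.Ok)
variable {ℓ : Equiv.Perm R → ℕ} {wt : I1 → ℕ} {q : ℕ} (hL : SB.Len T ℓ wt q)

include ok hBV tk hL in
theorem peel : ∀ (k : ℕ) (π : Equiv.Perm R), ℓ π = k → π ∈ T.W1 →
    ∃ n ∈ T.N0, S.Mon n π ∧ ∀ u ∈ T.U1, ∃ u1 ∈ T.U1, ∃ c ∈ CC T, u = u1 * c ∧ n⁻¹ * u1 * n ∈ T.U1 := by
  intro k
  induction k using Nat.strong_induction_on with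
  | _ k ih =>
    intro π hk hπ
    by_cases h1 : π = 1
    · subst h1
      exact ⟨1, one_mem _, Mon.one, fun u hu => ⟨u, hu, 1, one_mem _, by simp, by simpa using hu⟩⟩
    · obtain ⟨j, hp, hl⟩ := hL.desc π hπ h1
      have hw := hL.wt_pos j
      obtain ⟨n', hn', hM', h2⟩ := ih (ℓ (π * T.wJ j)) (by omega) _ rfl (T.W1.mul_mem hπ (SB.wJ_mem_W1 j))
      refine ⟨n' * T.nJ j, mul_mem hn' (SB.nJ_mem_N0 j), ?_, ?_⟩
      · have := hM'.mul (tk.mon j)
        rwa [mul_assoc, SB.wJ_sq ok hBV tk, mul_one] at this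
      · intro u hu
        obtain ⟨u1, hu1, c, hc, rfl, hv⟩ := h2 u hu
        obtain ⟨v', hv', a, ha, e⟩ := tk.split j _ hv
        have haU : n' * a * n'⁻¹ ∈ T.U1 := tk.pos_conj _ j hp n' hn' hM' a ha
        have haC : n' * a * n'⁻¹ ∈ CC T := subset_closure ⟨_, j, n', hp, hn', hM', a, ha, rfl⟩
        have e1 : u1 = (n' * v' * n'⁻¹) * (n' * a * n'⁻¹) := by
          have : u1 = n' * (n'⁻¹ * u1 * n') * n'⁻¹ := by group
          rw [this, e]; group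
        refine ⟨n' * v' * n'⁻¹, ?_, (n' * a * n'⁻¹) * c, mul_mem haC hc, ?_, ?_⟩
        · have : n' * v' * n'⁻¹ = u1 * (n' * a * n'⁻¹)⁻¹ := by rw [e1]; group
          rw [this]
          exact mul_mem hu1 (inv_mem haU)
        · rw [← mul_assoc, ← e1]
        · have : (n' * T.nJ j)⁻¹ * (n' * v' * n'⁻¹) * (n' * T.nJ j) = (T.nJ j)⁻¹ * v' * T.nJ j := by group
          rw [this]
          exact tk.UJ_le j (SB.n_UJ' tk j v' hv')

include ok hBV tk hL in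
theorem U1_eq_CC {π0 : Equiv.Perm R} (hπ0 : π0 ∈ T.W1) (h0 : ∀ r, S.pos r → ¬ S.pos (π0 r)) :
    T.U1 = CC T := by
  apply le_antisymm
  · intro u hu
    obtain ⟨n0, hn0, hM0, h⟩ := peel ok hBV tk hL _ π0 rfl hπ0
    obtain ⟨u1, hu1, c, hc, rfl, hv⟩ := h u hu
    have h3 : u1 ∈ S.V := by
      have : u1 = n0 * (n0⁻¹ * u1 * n0) * n0⁻¹ := by group
      rw [this]
      exact hM0.conj_XS (Ψ := S.pos) (Ψ' := fun r => ¬ S.pos r) h0 _ (tk.U1_le hv)
    rw [hBV u1 (U_le_B (tk.U1_le hu1)) h3, one_mul]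
    exact hc
  · unfold CC
    rw [closure_le]
    rintro g ⟨π, j, m, hp, hm, hM, x, hx, rfl⟩
    exact tk.pos_conj _ j hp m hm hM x hx

include ok hBV tk hL in
/-- MAIN -/
theorem sqD_U1 {π0 : Equiv.Perm R} (hπ0 : π0 ∈ T.W1) (h0 : ∀ r, S.pos r → ¬ S.pos (π0 r))
    (hX : ∀ j, SqD (T.XJ j)) : SqD T.U1 := by
  have hE := U1_eq_CC ok hBV tk hL hπ0 h0
  refine Cfsg.Agent.Lib.H99EaClos.sqD_of_gen (Subtype.val ⁻¹' (gen T)) ?_ ?_
  · have h1 := Subgroup.closure_closure_coe_preimage (k := gen T)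
    have key : ∀ (A : Subgroup 𝔾), A = closure (gen T) →
        closure ((Subtype.val : A → 𝔾) ⁻¹' (gen T)) = ⊤ := by
      intro A hA
      subst hA
      exact h1
    exact key _ hE
  · rintro ⟨s, hs⟩ ⟨π, j, m, hp, hm, hM, x, hx, e⟩
    let φ : T.XJ j →* T.U1 :=
      { toFun := fun y => ⟨m * y.1 * m⁻¹, tk.pos_conj _ j hp m hm hM y.1 y.2⟩
        map_one' := by apply Subtype.ext; simp
        map_mul' := by
          intro a b
          apply Subtype.ext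
          show m * (a.1 * b.1) * m⁻¹ = (m * a.1 * m⁻¹) * (m * b.1 * m⁻¹)
          group }
    have h2 : (⟨s, hs⟩ : T.U1) = φ ⟨x, hx⟩ := Subtype.ext e
    rw [h2, ← map_pow]
    exact Cfsg.Agent.Lib.H99EaEquiv.map_mem_commutator φ (hX j ⟨x, hx⟩)

end Cfsg.Agent.Lib.H99EaSB2
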