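import Cfsg.Agent.Lib.H99EaSup
import Cfsg.Agent.Lib.H99EaEquiv
import Cfsg.Agent.Lib.Helper23TG

set_option autoImplicit false

/-! `SqD U` for helper23's abstract twisted root datum `TG`, from `SqD` of the SIMPLE root subgroups and the order of `U`:
`U` is built up along a reduced word of the longest element. -/

namespace Cfsg.Agent.Lib.H99EaTG

open Cfsg.Agent.Lib.Helper99EaDefs Cfsg.Agent.Lib.Helper23TG

variable {𝔾 R I : Type*} [Group 𝔾] (S : TG 𝔾 R I)

/-- the roots `α_{i1}, s_{i1} α_{i2}, s_{i1} s_{i2} α_{i3}, ...` of the word `L = [i1, i2, ...]` -/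
def PL : List I → R → Prop
  | [] => fun _ => False
  | (i :: L) => fun r => r = S.simple i ∨ PL L (S.refl i r)

/-- the word is reduced -/
def Good : List I → Prop
  | [] => True
  | (i :: L) => Good L ∧ ∀ r, PL S L r → S.pos (S.refl i r) ∧ S.refl i r ≠ S.simple i

/-- the subgroup generated by the root subgroups of the roots of the word -/
def UL : List I → Subgroup 𝔾
  | [] => ⊥
  | (i :: L) => S.X (S.simple i) ⊔ (UL L).map (MulAut.conj (S.nn i)).toMonoidHom

variable {S}

theorem X_inf_Ui (ok : S.Ok) (i : I) : S.X (S.simple i) ⊓ S.Ui i = ⊥ := by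
  rw [eq_bot_iff]
  rintro z ⟨hz1, hz2⟩
  have h1 : S.nn i * z * (S.nn i)⁻¹ ∈ S.V := by
    have := TG.n_conj ok i _ z hz1
    rw [ok.refl_simple] at this
    exact TG.X_le_V ok _ (TG.not_pos_neg_simple ok i) this
  have h2 : S.nn i * z * (S.nn i)⁻¹ ∈ S.B :=
    (le_sup_left : S.U ≤ S.B) (TG.Ui_le_U ok i (TG.nn_Ui ok i z hz2))
  have h3 := ok.hBV _ h2 h1
  rw [Subgroup.mem_bot]
  have : z = (S.nn i)⁻¹ * (S.nn i * z * (S.nn i)⁻¹) * S.nn i := by group
  rw [this, h3]
  group

theorem UL_le_XS (ok : S.Ok) (L : List I) : UL S L ≤ S.XS (PL S L) := by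
  induction L with
  | nil => exact bot_le
  | cons i L ih =>
    show S.X (S.simple i) ⊔ (UL S L).map (MulAut.conj (S.nn i)).toMonoidHom ≤ _
    apply sup_le
    · exact ok.XS_mono _ _ (fun r hr => Or.inl hr)
    · rintro _ ⟨g, hg, rfl⟩
      exact ok.n_XS i (PL S L) (PL S (i :: L))
        (fun r hr => Or.inr (by rw [ok.refl_refl]; exact hr)) g (ih hg)

theorem conj_UL_le_Ui (ok : S.Ok) (i : I) (L : List I) (hL : Good S (i :: L)) :
    (UL S L).map (MulAut.conj (S.nn i)).toMonoidHom ≤ S.Ui i := by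
  rintro _ ⟨g, hg, rfl⟩
  exact ok.n_XS i (PL S L) _ hL.2 g (UL_le_XS ok L hg)

theorem UL_le_U (ok : S.Ok) (L : List I) (hL : Good S L) : UL S L ≤ S.U := by
  induction L with
  | nil => exact bot_le
  | cons i L _ =>
    show S.X (S.simple i) ⊔ (UL S L).map (MulAut.conj (S.nn i)).toMonoidHom ≤ _
    apply sup_le
    · exact TG.X_le_U ok _ (ok.pos_simple i)
    · exact (conj_UL_le_Ui ok i L hL).trans (TG.Ui_le_U ok i)

theorem sqD_UL (hX : ∀ i, SqD (S.X (S.simple i))) (L : List I) : SqD (UL S L) := by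
  induction L with
  | nil =>
    intro x
    have : x = 1 := Subtype.ext (Subgroup.mem_bot.1 x.2)
    rw [this, one_pow]
    exact Subgroup.one_mem _
  | cons i L ih =>
    show SqD (S.X (S.simple i) ⊔ (UL S L).map (MulAut.conj (S.nn i)).toMonoidHom : Subgroup 𝔾)
    apply H99EaSup.sqD_sup _ _ (hX i)
    exact H99EaEquiv.sqD_of_equiv
      (Subgroup.equivMapOfInjective (UL S L) (MulAut.conj (S.nn i)).toMonoidHom
        (MulAut.conj (S.nn i)).injective).symm ih

theorem card_UL [Finite 𝔾] (ok : S.Ok) (L : List I) (hL : Good S L) :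
    (L.map (fun i => Nat.card (S.X (S.simple i)))).prod ≤ Nat.card (UL S L) := by
  induction L with
  | nil =>
    show 1 ≤ Nat.card (⊥ : Subgroup 𝔾)
    simp
  | cons i L ih =>
    show _ ≤ Nat.card (S.X (S.simple i) ⊔ (UL S L).map (MulAut.conj (S.nn i)).toMonoidHom :
      Subgroup 𝔾)
    rw [List.map_cons, List.prod_cons]
    have h1 : S.X (S.simple i) ⊓ (UL S L).map (MulAut.conj (S.nn i)).toMonoidHom = ⊥ := by
      rw [eq_bot_iff, ← X_inf_Ui ok i]
      exact inf_le_inf le_rfl (conj_UL_le_Ui ok i L hL)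
    have h2 := H99EaSup.card_sup_ge _ _ h1
    have h3 : Nat.card ((UL S L).map (MulAut.conj (S.nn i)).toMonoidHom) = Nat.card (UL S L) :=
      (Nat.card_congr (Subgroup.equivMapOfInjective (UL S L) (MulAut.conj (S.nn i)).toMonoidHom
        (MulAut.conj (S.nn i)).injective).toEquiv).symm
    rw [h3] at h2
    exact le_trans (Nat.mul_le_mul_left _ (ih hL.1)) h2

theorem sqD_U [Finite 𝔾] (ok : S.Ok) (hX : ∀ i, SqD (S.X (S.simple i))) (L : List I) (hL : Good S L)
    (hcard : Nat.card S.U ≤ (L.map (fun i => Nat.card (S.X (S.simple i)))).prod) : SqD S.U := by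
  have h1 : UL S L = S.U :=
    Subgroup.eq_of_le_of_card_ge (UL_le_U ok L hL) (hcard.trans (card_UL ok L hL))
  rw [← h1]
  exact sqD_UL hX L

end Cfsg.Agent.Lib.H99EaTG
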