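import Cfsg.Agent.S5647

/-! `S5647` for `5 ≤ m` (same proof). -/

set_option autoImplicit false
open Cfsg

namespace Cfsg.Agent.Lib.H99G5647

open Cfsg.Agent.S5647

open Module Cfsg.Agent.Lib.Helper95Basic Cfsg.Agent.Lib.Helper95Sp Cfsg.Agent.Lib.Helper95Form
  Cfsg.Agent.Lib.Helper95Cen Cfsg.Agent.Lib.Helper95SpStd Cfsg.Agent.Lib.Helper95Swap

theorem gen {F : Type*} [Field F] [Fintype F] (m : ℕ) (hm : 5 ≤ m) {t : ℕ} (k : ℕ) (D : Fin t → Submodule F (Fin m ⊕ Fin m → F)) (hD : Cfsg.Geo.IsNondegenerateMDecomposition (Cfsg.sympForm m F) k D) (hex : ¬ (k = 2 ∧ Fintype.card F = 2)) : Cfsg.Geo.IsMaximalIn (Cfsg.spGL m F) (Cfsg.Geo.decompositionStabilizer D ⊓ Cfsg.spGL m F) := by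
  have hA := stdB_isAlt (F := F) m
  have hndD : ∀ i, nd (stdB F m) (D i) := by
    intro i x hx h
    by_contra hx0
    obtain ⟨y, hy, hxy⟩ := (hD.nondegenerate i x hx hx0).2
    exact hxy (h y hy)
  have hdd : DD (stdB F m) D k :=
    { two_le := hD.decomp.two_le
      pos := hD.decomp.pos
      fr := hD.decomp.finrank_eq
      sup := hD.decomp.iSup_eq_top
      nd := hndD
      orth := fun i j hij u hu v hv => hD.orthogonal i j hij u hu v hv
      ex := by
        intro i x hx hx0
        by_cases hl : ∃ l : F, l ≠ 0 ∧ l ≠ -1
        · obtain ⟨l, hl0, hl1⟩ := hl
          refine ⟨l • x, (D i).smul_mem l hx, smul_ne_zero hl0 hx0, ?_, ?_⟩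
          · have : x + l • x = (1 + l) • x := by module
            rw [this]
            refine smul_ne_zero ?_ hx0
            intro h0
            apply hl1
            linear_combination h0
          · rw [map_smul, hA x, smul_zero]
        · push Not at hl
          have hcard : Fintype.card F = 2 := by
            classical
            have h1 : (Finset.univ : Finset F) ⊆ {0, -1} := by
              intro l _
              by_cases hl0 : l = 0
              · simp [hl0]
              · simp [hl l hl0]
            have h2 := Finset.card_le_card h1
            have h3 : ({0, -1} : Finset F).card ≤ 2 := Finset.card_le_two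
            have h4 : 1 < Fintype.card F := Fintype.one_lt_card
            rw [Finset.card_univ] at h2
            omega
          have hk2 : k ≠ 2 := fun h0 => hex ⟨h0, hcard⟩
          obtain ⟨y, hy, hxy⟩ := nd_exists (hndD i) hx hx0
          classical
          have hnle : ¬ D i ≤ Submodule.span F (({x, y} : Finset (Fin m ⊕ Fin m → F)) : Set _) := by
            intro hle
            have h1 := Submodule.finrank_mono hle
            have h2 := finrank_span_finset_le_card (R := F) ({x, y} : Finset (Fin m ⊕ Fin m → F))
            rw [Set.finrank] at h2
            have h3 : ({x, y} : Finset (Fin m ⊕ Fin m → F)).card ≤ 2 := Finset.card_le_two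
            rw [hD.decomp.finrank_eq] at h1
            -- k ≥ 2 since x, y independent
            have h4 : 2 ≤ k := by
              have hli : LinearIndependent F ![x, y] := by
                rw [LinearIndependent.pair_iff]
                intro s t hst
                have e1 : stdB F m x (s • x + t • y) = 0 := by rw [hst, map_zero]
                have e2 : stdB F m (s • x + t • y) y = 0 := by
                  rw [hst, map_zero, LinearMap.zero_apply]
                rw [map_add, map_smul, map_smul, hA x, smul_zero, zero_add, smul_eq_mul] at e1
                rw [map_add, map_smul, map_smul, LinearMap.add_apply, LinearMap.smul_apply,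
                  LinearMap.smul_apply, hA y, smul_zero, add_zero, smul_eq_mul] at e2
                exact ⟨(mul_eq_zero.1 e2).resolve_right hxy, (mul_eq_zero.1 e1).resolve_right hxy⟩
              have hsp : Submodule.span F (Set.range ![x, y]) ≤ D i := by
                rw [Submodule.span_le]
                rintro _ ⟨a, rfl⟩
                fin_cases a
                · exact hx
                · exact hy
              have h5 := Submodule.finrank_mono hsp
              rw [finrank_span_eq_card hli, hD.decomp.finrank_eq] at h5
              simpa using h5
            omega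
          obtain ⟨z, hz, hzs⟩ := SetLike.not_le_iff_exists.1 hnle
          set c := stdB F m x z / stdB F m x y with hc
          have hx' : z - c • y ∉ Submodule.span F {x} := by
            intro h0
            apply hzs
            obtain ⟨d, hd⟩ := Submodule.mem_span_singleton.1 h0
            have : z = d • x + c • y := by rw [hd]; abel
            rw [this]
            refine Submodule.add_mem _ (Submodule.smul_mem _ _ (Submodule.subset_span (by simp)))
              (Submodule.smul_mem _ _ (Submodule.subset_span (by simp)))
          refine ⟨z - c • y, (D i).sub_mem hz ((D i).smul_mem _ hy), ?_, ?_, ?_⟩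
          · intro h0
            exact hx' (h0 ▸ Submodule.zero_mem _)
          · intro h0
            apply hx'
            have : z - c • y = (-1 : F) • x := by
              rw [neg_one_smul]
              exact eq_neg_of_add_eq_zero_right h0
            rw [this]
            exact Submodule.smul_mem _ _ (Submodule.mem_span_singleton_self x)
          · rw [map_sub, map_smul, smul_eq_mul, hc]
            field_simp
            ring }
  have hInH : ∀ e : (Fin m ⊕ Fin m → F) ≃ₗ[F] (Fin m ⊕ Fin m → F),
      mkGL e ∈ Cfsg.Geo.decompositionStabilizer D ↔ InH D e := by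
    intro e
    constructor
    · rintro ⟨σ, hσ⟩
      refine ⟨σ, fun i => ?_⟩
      rw [← hσ i, toLin'_mkGL]
    · rintro ⟨σ, hσ⟩
      refine ⟨σ, fun i => ?_⟩
      rw [← hσ i, toLin'_mkGL]
  apply sp_maximal
  · obtain ⟨e, he, hne⟩ := exists_not_InH hdd hA
    exact ⟨e, he, fun h => hne ((hInH e).1 h)⟩
  · intro M hM hMiso g hgM hgX
    exact cen_univ hdd (stdB_nondegenerate m) hA M (fun e he heH => hM e he ((hInH e).2 heH)) hMiso g hgM
      (fun h => hgX ((hInH g).2 h))

end Cfsg.Agent.Lib.H99G5647
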