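import Cfsg.Agent.S5649

/-! `S5649` for `5 ≤ m` (same proof). -/

set_option autoImplicit false
open Cfsg

namespace Cfsg.Agent.Lib.H99G5649

open Cfsg.Agent.S5649

open Module Cfsg.Agent.Lib.Helper95Basic Cfsg.Agent.Lib.Helper95Sp Cfsg.Agent.Lib.Helper95Form
  Cfsg.Agent.Lib.Helper95Cen Cfsg.Agent.Lib.Helper95SpStd Cfsg.Agent.Lib.Helper96Lagr

theorem gen {F : Type*} [Field F] [Fintype F] (m : ℕ) (hm : 5 ≤ m) (hodd : Odd (Fintype.card F)) (D : Fin 2 → Submodule F (Fin m ⊕ Fin m → F)) (hD : Cfsg.Geo.IsMDecomposition m D) (hts : ∀ i, Cfsg.Geo.IsTotallySingularFor (Cfsg.sympForm m F) (D i)) : Cfsg.Geo.IsMaximalIn (Cfsg.spGL m F) (Cfsg.Geo.decompositionStabilizer D ⊓ Cfsg.spGL m F) := by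
  have htwo : (2 : F) ≠ 0 := by
    intro h
    have h1 : ringChar F = 2 := CharP.ringChar_of_prime_eq_zero Nat.prime_two (by exact_mod_cast h)
    have h2 := FiniteField.even_card_of_char_two h1
    rcases hodd with ⟨k, hk⟩
    omega
  have hcompl : IsCompl (D 0) (D 1) := by
    constructor
    · exact hD.indep.pairwiseDisjoint (by decide)
    · rw [codisjoint_iff, eq_top_iff, ← hD.iSup_eq_top]
      refine iSup_le fun i => ?_
      fin_cases i
      · exact le_sup_left
      · exact le_sup_right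
  have mk : ∀ M : Subgroup ((Fin m ⊕ Fin m → F) ≃ₗ[F] (Fin m ⊕ Fin m → F)),
      (∀ e, (∀ u v, stdB F m (e u) (e v) = stdB F m u v) →
        mkGL e ∈ Cfsg.Geo.decompositionStabilizer D → e ∈ M) →
      (∀ e ∈ M, ∀ u v, stdB F m (e u) (e v) = stdB F m u v) →
      Setup (stdB_isAlt (F := F) m) (D 0) (D 1) M := by
    intro M hM hMiso
    exact
      { nd := stdB_nondegenerate m
        two := htwo
        isoA := hts 0
        isoA' := hts 1
        compl := hcompl
        hM := fun e he h => hM e he (mem_stab_of_inH D hD.finrank_eq e h)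
        hMiso := hMiso
        dimA := by rw [hD.finrank_eq]; omega
        dimA' := by rw [hD.finrank_eq]; omega
        dimEq := by rw [hD.finrank_eq, hD.finrank_eq] }
  apply sp_maximal
  · have S := mk (pull (Cfsg.spGL m F)) (fun e he _ => (mem_pull _ _).2 ((mkGL_mem_spGL_iff m e).2 he))
      (fun e he => (mkGL_mem_spGL_iff m e).1 ((mem_pull _ _).1 he))
    obtain ⟨a, ha, ha0, -, -⟩ := exists_ker2 (D 0) S.dimA 0 0
    obtain ⟨b, hb, hab⟩ := S.exists_pair ha ha0
    have hb0 : b ≠ 0 := by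
      rintro rfl
      exact hab (map_zero _)
    refine ⟨stv (stdB F m) (stdB_isAlt m) (a + b) (stdB F m a b)⁻¹, stv_isometry _ _ _, fun h => ?_⟩
    have h1 := inH_of_mem_stab D _ h
    have h2 : stv (stdB F m) (stdB_isAlt m) (a + b) (stdB F m a b)⁻¹ a = (2 : F) • a + b := by
      rw [stv_apply, map_add, stdB_isAlt m a, zero_add, inv_mul_cancel₀ hab]
      module
    rcases h1 with h1 | h1
    · have h3 := h1.1 a ha
      rw [h2] at h3
      have h4 : b ∈ D 0 := by
        have := (D 0).sub_mem h3 ((D 0).smul_mem 2 ha)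
        simpa using this
      exact hb0 (S.inter h4 hb)
    · have h3 := h1.1 a ha
      rw [h2] at h3
      have h4 : (2 : F) • a ∈ D 1 := by
        have := (D 1).sub_mem h3 hb
        simpa using this
      exact ha0 (S.inter ha (((D 1).smul_mem_iff htwo).1 h4))
  · intro M hM hMiso g hgM hgX
    exact (mk M hM hMiso).cen_univ hgM (fun h => hgX (mem_stab_of_inH D hD.finrank_eq g h))

end Cfsg.Agent.Lib.H99G5649
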