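import Cfsg.Prelude.Def_Sporadic_a

/-!
# Transport of automorphism groups of set systems (helper10)
-/

set_option autoImplicit false

namespace Cfsg.Agent.Lib.Helper10Aut

open Cfsg Finset Equiv MulAction
open scoped Pointwise

variable {α β : Type*} [DecidableEq α] [DecidableEq β]

theorem mem_aut_iff {B : Set (Finset α)} {g : Perm α} :
    g ∈ setSystemAut B ↔ (fun b : Finset α => b.image g) '' B = B := Iff.rfl

theorem mem_aut_congr {B : Set (Finset α)} {B' : Set (Finset β)} (e : α ≃ β)
    (h : (fun b => b.image e) '' B = B') (g : Perm α) :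
    e.permCongrHom g ∈ setSystemAut B' ↔ g ∈ setSystemAut B := by
  rw [mem_aut_iff, mem_aut_iff, ← h, Set.image_image]
  have h1 : (fun b : Finset α => (b.image e).image (e.permCongrHom g)) =
      fun b => (b.image g).image e := by
    funext b
    rw [Finset.image_image, Finset.image_image]
    congr 1
    funext x
    simp [Equiv.permCongrHom_coe]
  rw [h1]
  have h2 : (fun b : Finset α => (b.image g).image e) '' B =
      (fun b : Finset α => b.image e) '' ((fun b : Finset α => b.image g) '' B) := by
    rw [Set.image_image]
  rw [h2]
  exact (Set.image_injective.2 (Finset.image_injective e.injective)).eq_iff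

/-- isomorphic set systems have isomorphic automorphism groups, compatibly with the actions -/
theorem aut_equiv {B : Set (Finset α)} {B' : Set (Finset β)} (e : α ≃ β)
    (h : (fun b => b.image e) '' B = B') :
    ∃ Φ : setSystemAut B ≃* setSystemAut B',
      ∀ (g : setSystemAut B) (a : α), (Φ g : Perm β) (e a) = e ((g : Perm α) a) := by
  have hmap : (setSystemAut B).map e.permCongrHom.toMonoidHom = setSystemAut B' := by
    ext g'
    rw [Subgroup.mem_map]
    constructor
    · rintro ⟨g, hg, rfl⟩
      exact (mem_aut_congr e h g).2 hg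
    · intro hg'
      refine ⟨e.permCongrHom.symm g', ?_, e.permCongrHom.apply_symm_apply g'⟩
      rw [← mem_aut_congr e h, MulEquiv.apply_symm_apply]
      exact hg'
  refine ⟨(e.permCongrHom.subgroupMap (setSystemAut B)).trans (MulEquiv.subgroupCongr hmap), ?_⟩
  intro g a
  show (e.permCongrHom (g : Perm α)) (e a) = e ((g : Perm α) a)
  simp [Equiv.permCongrHom_coe]

/-- transport of multiple transitivity -/
theorem mpt_transport {G H X Y : Type*} [Group G] [MulAction G X] [Group H] [MulAction H Y]
    (n : ℕ) (f : X → Y) (hf : Function.Surjective f) (σ : G → H)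
    (hσ : ∀ g a, σ g • f a = f (g • a)) (hG : IsMultiplyPretransitive G X n) :
    IsMultiplyPretransitive H Y n :=
  IsPretransitive.of_embedding (f := (⟨f, fun g a => (hσ g a).symm⟩ : X →ₑ[σ] Y)) hf

end Cfsg.Agent.Lib.Helper10Aut
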