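import Cfsg.Agent.Lib.Helper10Chain
import Cfsg.Agent.Lib.Helper10Aut
import Cfsg.Agent.S0369

/-!
# Automorphisms of the derived octad systems (helper10)
-/

set_option autoImplicit false

namespace Cfsg.Agent.Lib.Helper10AutW

open Cfsg Finset Equiv Cfsg.Agent.Lib.Helper33Golay Cfsg.Agent.Lib.Helper10Ext
  Cfsg.Agent.Lib.Helper10Chain
open scoped Pointwise

theorem subtype_map_union {A o : Finset GolayPt} (hAo : A ⊆ o) :
    (o.subtype (fun x => x ∉ A)).map (Function.Embedding.subtype _) ∪ A = o := by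
  rw [Finset.subtype_map]
  ext z
  simp only [Finset.mem_union, Finset.mem_filter]
  constructor
  · rintro (h | h)
    · exact h.1
    · exact hAo h
  · intro h
    by_cases hz : z ∈ A
    · exact Or.inr hz
    · exact Or.inl ⟨h, hz⟩

theorem image_fix {A : Finset GolayPt} {ρ : Perm GolayPt} (h : ∀ y ∈ A, ρ y = y) :
    A.image ρ = A := by
  conv_rhs => rw [← Finset.image_id (s := A)]
  exact Finset.image_congr (fun y hy => h y (Finset.mem_coe.1 hy))

theorem ofSubtype_fix {A : Finset GolayPt} (ρ' : Perm {x : GolayPt // x ∉ A}) :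
    ∀ y ∈ A, Perm.ofSubtype ρ' y = y := fun _ hy =>
  Perm.ofSubtype_apply_of_not_mem ρ' (not_not.2 hy)

theorem key {A : Finset GolayPt} (ρ' : Perm {x : GolayPt // x ∉ A})
    (b : Finset {x : GolayPt // x ∉ A}) :
    (b.image ρ').map (Function.Embedding.subtype _) ∪ A =
      (b.map (Function.Embedding.subtype _) ∪ A).image (Perm.ofSubtype ρ') := by
  rw [Finset.image_union, image_fix (ofSubtype_fix ρ'), Finset.map_eq_image, Finset.map_eq_image,
    Finset.image_image, Finset.image_image]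
  congr 1
  apply Finset.image_congr
  intro x _
  exact (Perm.ofSubtype_apply_coe ρ' x).symm

theorem P_of_aut {A : Finset GolayPt} {ρ' : Perm {x : GolayPt // x ∉ A}}
    (h : ρ' ∈ setSystemAut (WS A)) :
    ∀ o ∈ octads, A ⊆ o → o.image (Perm.ofSubtype ρ') ∈ octads := by
  intro o ho hAo
  have h1 : o.subtype (fun x => x ∉ A) ∈ WS A := by
    show _ ∈ octads
    rw [subtype_map_union hAo]; exact ho
  have h2 : (o.subtype (fun x => x ∉ A)).image ρ' ∈ WS A := by
    have h3 : ρ' • WS A = WS A := h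
    rw [← h3]
    exact ⟨_, h1, rfl⟩
  have h4 : _ ∈ octads := h2
  rwa [key, subtype_map_union hAo] at h4

theorem aut_of_P {A : Finset GolayPt} {ρ' : Perm {x : GolayPt // x ∉ A}}
    (h : ∀ o ∈ octads, A ⊆ o → o.image (Perm.ofSubtype ρ') ∈ octads) :
    ρ' ∈ setSystemAut (WS A) := by
  rw [MulAction.mem_stabilizer_set_iff_smul_set_subset (Set.toFinite _)]
  rintro _ ⟨b, hb, rfl⟩
  show (b.image ρ').map (Function.Embedding.subtype _) ∪ A ∈ octads
  rw [key]
  exact h _ hb Finset.subset_union_right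

open Classical in
theorem surj_of_P {A : Finset GolayPt} {ρ : Perm GolayPt} (hfix : ∀ y ∈ A, ρ y = y)
    (hP : ∀ o ∈ octads, A ⊆ o → o.image ρ ∈ octads) :
    ∀ o ∈ octads, A ⊆ o → ∃ o' ∈ octads, A ⊆ o' ∧ o'.image ρ = o := by
  have h1 : ((Finset.univ.filter (fun o : Finset GolayPt => o ∈ octads ∧ A ⊆ o)).image
      (fun o => o.image ρ)) = Finset.univ.filter (fun o : Finset GolayPt => o ∈ octads ∧ A ⊆ o) := by
    apply Finset.eq_of_subset_of_card_le
    · intro o ho
      obtain ⟨o', ho', rfl⟩ := Finset.mem_image.1 ho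
      obtain ⟨-, h2, h3⟩ := Finset.mem_filter.1 ho'
      refine Finset.mem_filter.2 ⟨Finset.mem_univ _, hP o' h2 h3, ?_⟩
      rw [← image_fix hfix]
      exact Finset.image_subset_image h3
    · rw [Finset.card_image_of_injective _ (Finset.image_injective ρ.injective)]
  intro o ho hAo
  have h2 : o ∈ ((Finset.univ.filter (fun o : Finset GolayPt => o ∈ octads ∧ A ⊆ o)).image
      (fun o => o.image ρ)) := by
    rw [h1]; exact Finset.mem_filter.2 ⟨Finset.mem_univ _, ho, hAo⟩
  obtain ⟨o', ho', rfl⟩ := Finset.mem_image.1 h2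
  obtain ⟨-, h3, h4⟩ := Finset.mem_filter.1 ho'
  exact ⟨o', h3, h4, rfl⟩

theorem mem_M24_of_forall {ρ : Perm GolayPt} (h : ∀ o ∈ octads, o.image ρ ∈ octads) :
    ρ ∈ M24 := by
  rw [Cfsg.Agent.S0369.result, MulAction.mem_stabilizer_set_iff_smul_set_subset (Set.toFinite _)]
  rintro _ ⟨o, ho, rfl⟩
  exact h o ho

/-- a permutation fixing the extra point and preserving the octads through it is in the group -/
theorem mem_M24_of_P1 {ρ : Perm GolayPt} (hfix : ρ none = none)
    (hP : ∀ o ∈ octads, A1 ⊆ o → o.image ρ ∈ octads) : ρ ∈ M24 := by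
  have hfix' : ∀ y ∈ A1, ρ y = y := by
    intro y hy
    obtain rfl : y = none := by simpa [A1] using hy
    exact hfix
  apply mem_M24_of_forall
  intro o ho
  by_cases hn : none ∈ o
  · apply hP o ho
    intro y hy
    obtain rfl : y = none := by simpa [A1] using hy
    exact hn
  · obtain ⟨x, hx, hx0, hox⟩ := H1_1 (o.image ρ)
      (by
        rw [Finset.disjoint_left]
        intro z hz hz'
        obtain rfl : z = none := by simpa using hz'
        obtain ⟨u, hu, hun⟩ := Finset.mem_image.1 hz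
        rw [← hfix] at hun
        exact hn (ρ.injective hun ▸ hu))
      (by rw [Finset.card_image_of_injective _ ρ.injective, octads_card ho])
      (by
        intro o' ho' hAo'
        obtain ⟨o'', ho'', -, rfl⟩ := surj_of_P hfix' hP o' ho' hAo'
        rw [← Finset.image_inter _ _ ρ.injective, Finset.card_image_of_injective _ ρ.injective]
        exact octads_inter_even ho ho'')
    rw [Finset.card_eq_zero] at hx0
    rwa [hx0, Finset.union_empty] at hox

theorem equiv_of_map_eq {G₁ G₂ N : Type*} [Group G₁] [Group G₂] [Group N] (H₁ : Subgroup G₁)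
    (H₂ : Subgroup G₂) (f₁ : G₁ →* N) (f₂ : G₂ →* N) (h₁ : Function.Injective f₁)
    (h₂ : Function.Injective f₂) (h : H₁.map f₁ = H₂.map f₂) :
    ∃ Θ : H₁ ≃* H₂, ∀ g : H₁, f₂ (Θ g : G₂) = f₁ (g : G₁) := by
  refine ⟨(H₁.equivMapOfInjective f₁ h₁).trans ((MulEquiv.subgroupCongr h).trans
    (H₂.equivMapOfInjective f₂ h₂).symm), fun g => ?_⟩
  have h3 : (H₂.equivMapOfInjective f₂ h₂) (((H₁.equivMapOfInjective f₁ h₁).trans
      ((MulEquiv.subgroupCongr h).trans (H₂.equivMapOfInjective f₂ h₂).symm)) g) =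
      (MulEquiv.subgroupCongr h) ((H₁.equivMapOfInjective f₁ h₁) g) := by
    simp
  have h4 := congrArg Subtype.val h3
  rw [Subgroup.coe_equivMapOfInjective_apply] at h4
  exact h4

theorem restrict_of_fix {A : Finset GolayPt} {g : Perm GolayPt} (hg : g ∈ M24)
    (hfix : ∀ y ∈ A, g y = y) : ∃ ρ' ∈ setSystemAut (WS A), Perm.ofSubtype ρ' = g := by
  have h1 : ∀ x, g x ∉ A ↔ x ∉ A := by
    intro x
    rw [not_iff_not]
    constructor
    · intro h
      have := hfix _ h
      rwa [← g.injective this]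
    · intro h
      rwa [hfix x h]
  have h2 : Perm.ofSubtype (p := fun x => x ∉ A) (g.subtypePerm h1) = g :=
    Perm.ofSubtype_subtypePerm (p := fun x => x ∉ A) h1 (fun x hx hxA => hx (hfix x hxA))
  refine ⟨g.subtypePerm h1, aut_of_P ?_, h2⟩
  rw [h2]
  intro o ho _
  exact image_mem_octads hg ho

theorem map_eq_A1 : (setSystemAut (WS A1)).map Perm.ofSubtype =
    (MulAction.stabilizer M24 (none : GolayPt)).map M24.subtype := by
  ext ρ
  simp only [Subgroup.mem_map]
  constructor
  · rintro ⟨ρ', hρ', rfl⟩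
    have hn : Perm.ofSubtype ρ' none = none := ofSubtype_fix ρ' none (by simp [A1])
    exact ⟨⟨Perm.ofSubtype ρ', mem_M24_of_P1 hn (P_of_aut hρ')⟩, hn, rfl⟩
  · rintro ⟨g, hg, rfl⟩
    apply restrict_of_fix g.2
    intro y hy
    obtain rfl : y = none := by simpa [A1] using hy
    exact hg

theorem exists_equiv_A1 : ∃ Θ : MulAction.stabilizer M24 (none : GolayPt) ≃* setSystemAut (WS A1),
    ∀ (g : MulAction.stabilizer M24 (none : GolayPt)) (x : {x : GolayPt // x ∉ A1}),
      (((Θ g : Perm {x : GolayPt // x ∉ A1}) x : {x : GolayPt // x ∉ A1}) : GolayPt) =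
        ((g : M24) : Perm GolayPt) x := by
  obtain ⟨Θ, hΘ⟩ := equiv_of_map_eq _ _ _ _ M24.subtype_injective Perm.ofSubtype_injective
    map_eq_A1.symm
  refine ⟨Θ, fun g x => ?_⟩
  rw [← Perm.ofSubtype_apply_coe, hΘ]
  rfl

end Cfsg.Agent.Lib.Helper10AutW
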