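import Mathlib

set_option autoImplicit false

namespace Cfsg.Agent.Lib.Helper10Simple

open MulAction Subgroup

variable {G α : Type*} [Group G] [MulAction G α]

theorem card_dvd_of_pretransitive' (H : Type*) [Group H] [MulAction H α] [IsPretransitive H α]
    [Nonempty α] : Nat.card α ∣ Nat.card H := by
  obtain ⟨a⟩ := ‹Nonempty α›
  rw [← index_stabilizer_of_transitive H a]
  exact Subgroup.index_dvd_card _

theorem pretransitive_of_normal [IsPreprimitive G α]
    (hfaith : ∀ g : G, (∀ y : α, g • y = y) → g = 1) (N : Subgroup G) [N.Normal] (hN : N ≠ ⊥) :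
    IsPretransitive N α := by
  apply IsQuasiPreprimitive.isPretransitive_of_normal (G := G)
  intro hfix
  apply hN
  rw [eq_bot_iff]
  intro n hn
  rw [Subgroup.mem_bot]
  apply hfaith
  intro y
  have : y ∈ fixedPoints N α := by rw [hfix]; trivial
  exact this ⟨n, hn⟩

/-- A transitive faithful group of prime degree `p` and order `p * k`, `p ∤ k`, for which Sylow's
congruence forces `|N(P) : P|` to be a prime `r ≠ k`, is simple. -/
theorem simple_of_prime_degree [Finite α] (p k r : ℕ) [hp : Fact p.Prime] (hα : Nat.card α = p)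
    [IsPretransitive G α] (hfaith : ∀ g : G, (∀ y : α, g • y = y) → g = 1)
    (hcard : Nat.card G = p * k) (hpk : ¬ p ∣ k) (hr : r.Prime) (hkr : k ≠ r)
    (harith : ∀ m i : ℕ, m ∣ p - 1 → m * i = k → i % p = 1 → m = r) : IsSimpleGroup G := by
  classical
  have hp0 : 0 < p := hp.out.pos
  have hk0 : k ≠ 0 := by rintro rfl; exact hpk (dvd_zero p)
  have hfin : Finite G := Nat.finite_of_card_ne_zero (by
    rw [hcard]; exact Nat.mul_ne_zero hp0.ne' hk0)
  have hne : Nonempty α := (Nat.card_pos_iff.mp (by omega)).1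
  have hprimG : IsPreprimitive G α := IsPreprimitive.of_prime_card (hα ▸ hp.out)
  have hnt : Nontrivial G := by
    rw [← Finite.one_lt_card_iff_nontrivial, hcard]
    have := hp.out.one_lt
    exact lt_of_lt_of_le this (Nat.le_mul_of_pos_right p (Nat.pos_of_ne_zero hk0))
  refine ⟨fun N hN => ?_⟩
  by_contra hcon
  rw [not_or] at hcon
  obtain ⟨hNbot, hNtop⟩ := hcon
  have hNtr : IsPretransitive N α := pretransitive_of_normal hfaith N hNbot
  have hpN : p ∣ Nat.card N := hα ▸ card_dvd_of_pretransitive' (α := α) N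
  obtain ⟨n, hn⟩ := exists_prime_orderOf_dvd_card' p hpN
  have hQcard : Nat.card (zpowers (n : G)) = p := by
    rw [Nat.card_zpowers, Subgroup.orderOf_coe, hn]
  have hQidx : (zpowers (n : G)).index = k := by
    have := (zpowers (n : G)).card_mul_index
    rw [hQcard, hcard] at this
    exact Nat.eq_of_mul_eq_mul_left hp0 this
  let P : Sylow p G := (IsPGroup.of_card (n := 1) (by rw [hQcard, pow_one])).toSylow
    (P := zpowers (n : G)) (by rw [hQidx]; exact hpk)
  have hPcoe : (P : Subgroup G) = zpowers (n : G) := rfl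
  have hPN : (P : Subgroup G) ≤ N := by
    rw [hPcoe, zpowers_le]; exact n.2
  have hPcard : Nat.card (P : Subgroup G) = p := hQcard
  have hPidx : (P : Subgroup G).index = k := hQidx
  have hPcyc : IsCyclic (P : Subgroup G) := isCyclic_of_prime_card hPcard
  have hPcomm : ∀ x ∈ (P : Subgroup G), ∀ y ∈ (P : Subgroup G), x * y = y * x := by
    intro x hx y hy
    rw [hPcoe] at hx hy
    obtain ⟨i, rfl⟩ := mem_zpowers_iff.mp hx
    obtain ⟨j, rfl⟩ := mem_zpowers_iff.mp hy
    rw [← zpow_add, ← zpow_add, add_comm]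
  have hPtr : IsPretransitive (P : Subgroup G) α := by
    obtain ⟨a, ha⟩ : ∃ a : α, (n : G) • a ≠ a := by
      by_contra hcon
      push Not at hcon
      have h1 : (n : G) = 1 := hfaith _ hcon
      have h2 : orderOf (n : G) = p := by rw [Subgroup.orderOf_coe, hn]
      rw [h1, orderOf_one] at h2
      exact hp.out.one_lt.ne h2
    rw [isPretransitive_iff_orbit_eq_univ a, Set.eq_univ_iff_ncard, ← index_stabilizer, hα]
    have hdvd : (stabilizer (P : Subgroup G) a).index ∣ p := by
      have := Subgroup.index_dvd_card (stabilizer (P : Subgroup G) a)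
      rwa [hPcard] at this
    rcases (Nat.dvd_prime hp.out).mp hdvd with h1 | h1
    · exfalso
      rw [Subgroup.index_eq_one] at h1
      have hnP : (n : G) ∈ (P : Subgroup G) := by rw [hPcoe]; exact mem_zpowers _
      have : (⟨(n : G), hnP⟩ : (P : Subgroup G)) ∈ stabilizer (P : Subgroup G) a := by
        rw [h1]; trivial
      exact ha this
    · exact h1
  have hcent : centralizer ((P : Subgroup G) : Set G) = (P : Subgroup G) := by
    apply le_antisymm
    · intro g hg
      obtain ⟨a⟩ := hne
      obtain ⟨q, hq⟩ := exists_smul_eq (P : Subgroup G) a (g • a)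
      have hq' : (q : G) • a = g • a := hq
      have h1 : (q : G)⁻¹ * g = 1 := by
        apply hfaith
        intro y
        obtain ⟨q', rfl⟩ := exists_smul_eq (P : Subgroup G) a y
        have hc : (q' : G) * g = g * q' := mem_centralizer_iff.mp hg q' q'.2
        show ((q : G)⁻¹ * g) • ((q' : G) • a) = (q' : G) • a
        rw [← mul_smul, mul_assoc, ← hc, mul_smul, mul_smul, ← hq', ← mul_smul, ← mul_smul,
          mul_assoc, hPcomm q' q'.2 q q.2, inv_mul_cancel_left]
      rw [inv_mul_eq_one] at h1
      rw [← h1]; exact q.2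
    · intro g hg
      rw [mem_centralizer_iff]
      intro y hy
      exact hPcomm y hy g hg
  have key := card_dvd_of_injective _
    (QuotientGroup.kerLift_injective (P : Subgroup G).normalizerMonoidHom)
  rw [normalizerMonoidHom_ker, ← index, ← relIndex, hcent, hPcyc.card_mulAut, hPcard,
    Nat.totient_prime hp.out] at key
  have hmul := relIndex_mul_index (le_normalizer (H := (P : Subgroup G)))
  rw [hPidx] at hmul
  have hmod : (normalizer ((P : Subgroup G) : Set G)).index ≡ 1 [MOD p] := by
    have h0 : Nat.card (Sylow p G) = (normalizer ((P : Subgroup G) : Set G)).index :=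
      P.card_eq_index_normalizer
    rw [← h0]
    exact card_sylow_modEq_one p G
  have hmod' : (normalizer ((P : Subgroup G) : Set G)).index % p = 1 := by
    have := hmod
    unfold Nat.ModEq at this
    rwa [Nat.mod_eq_of_lt hp.out.one_lt] at this
  have hr5 : (P : Subgroup G).relIndex (normalizer ((P : Subgroup G) : Set G)) = r :=
    harith _ _ key hmul hmod'
  have hi1 : (normalizer ((P : Subgroup G) : Set G)).index ≠ 1 := by
    intro h1
    rw [hr5, h1, mul_one] at hmul
    exact hkr hmul.symm
  have hPR : (P : Subgroup G) ≤ N ⊓ normalizer ((P : Subgroup G) : Set G) :=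
    le_inf hPN le_normalizer
  have hmul2 := relIndex_mul_relIndex (P : Subgroup G) (N ⊓ normalizer ((P : Subgroup G) : Set G))
    (normalizer ((P : Subgroup G) : Set G)) hPR inf_le_right
  rw [hr5] at hmul2
  have hfrat : normalizer ((P : Subgroup G) : Set G) ⊔ N = ⊤ := Sylow.normalizer_sup_eq_top' P hPN
  rcases (Nat.dvd_prime hr).mp ⟨_, hmul2.symm⟩ with h1 | h1
  · rw [relIndex_eq_one] at h1
    let P' : Sylow p N := P.subtype hPN
    have hP'coe : (P' : Subgroup N) = (P : Subgroup G).subgroupOf N := Sylow.coe_subtype P hPN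
    have hP' : normalizer ((P' : Subgroup N) : Set N) ≤ centralizer ((P' : Subgroup N) : Set N) := by
      rw [hP'coe, ← subgroupOf_normalizer_eq hPN]
      intro m hm
      rw [mem_subgroupOf] at hm
      have hmP : (m : G) ∈ (P : Subgroup G) := h1 ⟨m.2, hm⟩
      rw [mem_centralizer_iff]
      intro y hy
      apply Subtype.ext
      exact hPcomm y (mem_subgroupOf.mp hy) m hmP
    have hK1 := MonoidHom.not_dvd_card_ker_transferSylow P' hP'
    have hK2 := (MonoidHom.ker_transferSylow_isComplement' P' hP').card_mul_card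
    set K := (MonoidHom.transferSylow P' hP').ker with hK
    have hprim : IsPreprimitive N α := IsPreprimitive.of_prime_card (hα ▸ hp.out)
    have hKfix : fixedPoints K α = Set.univ := by
      by_contra hcon
      have : IsPretransitive K α := IsQuasiPreprimitive.isPretransitive_of_normal (G := N) hcon
      exact hK1 (hα ▸ card_dvd_of_pretransitive' (α := α) K)
    have hKbot : K = ⊥ := by
      rw [eq_bot_iff]
      intro m hm
      rw [Subgroup.mem_bot]
      apply Subtype.ext
      apply hfaith
      intro y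
      have : y ∈ fixedPoints K α := by rw [hKfix]; trivial
      exact this ⟨m, hm⟩
    rw [hKbot, Subgroup.card_bot, one_mul] at hK2
    have hP'card : Nat.card (P' : Subgroup N) = p := by
      rw [hP'coe]
      exact (Nat.card_congr (subgroupOfEquivOfLe hPN).toEquiv).trans hPcard
    have hNP : (P : Subgroup G) = N := by
      apply Subgroup.eq_of_le_of_card_ge hPN
      rw [hPcard, ← hK2, hP'card]
    have : (P : Subgroup G).Normal := hNP ▸ hN
    apply hi1
    rw [normalizer_eq_top, index_top]
  · rw [h1] at hmul2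
    have h2 : (N ⊓ normalizer ((P : Subgroup G) : Set G)).relIndex
        (normalizer ((P : Subgroup G) : Set G)) = 1 := by
      have hr0 : 0 < r := hr.pos
      exact Nat.eq_of_mul_eq_mul_left hr0 (by rw [hmul2, mul_one])
    rw [relIndex_eq_one] at h2
    apply hNtop
    rw [← hfrat]
    exact (sup_eq_right.mpr (h2.trans inf_le_left)).symm

/-- A faithful 2-transitive group whose degree is divisible by two distinct primes and whose point
stabiliser is simple is simple. -/
theorem simple_of_simple_stabilizer [Finite α] [Finite G] (h2tr : IsMultiplyPretransitive G α 2)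
    (hfaith : ∀ g : G, (∀ y : α, g • y = y) → g = 1) (a : α)
    (hS : IsSimpleGroup (stabilizer G a)) (q₁ q₂ : ℕ) (hq₁ : q₁.Prime) (hq₂ : q₂.Prime)
    (hq : q₁ ≠ q₂) (h₁ : q₁ ∣ Nat.card α) (h₂ : q₂ ∣ Nat.card α) : IsSimpleGroup G := by
  classical
  have hprim : IsPreprimitive G α := isPreprimitive_of_is_two_pretransitive h2tr
  have hnt : Nontrivial G := by
    have := hS.toNontrivial
    obtain ⟨x, y, hxy⟩ := this
    exact ⟨x, y, fun h => hxy (Subtype.ext h)⟩
  refine ⟨fun N hN => ?_⟩
  by_contra hcon
  rw [not_or] at hcon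
  obtain ⟨hNbot, hNtop⟩ := hcon
  have hNtr : IsPretransitive N α := pretransitive_of_normal hfaith N hNbot
  rcases hS.eq_bot_or_eq_top_of_normal (N.subgroupOf (stabilizer G a)) inferInstance
    with h1 | h1
  · rw [subgroupOf_eq_bot, disjoint_iff] at h1
    have hreg : ∀ n ∈ N, n • a = a → n = 1 := by
      intro n hn hna
      have : n ∈ N ⊓ stabilizer G a := ⟨hn, hna⟩
      rwa [h1, Subgroup.mem_bot] at this
    have hstab : stabilizer N a = ⊥ := by
      rw [eq_bot_iff]
      intro n hn
      rw [Subgroup.mem_bot]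
      exact Subtype.ext (hreg n n.2 hn)
    have hNcard : Nat.card N = Nat.card α := by
      have := index_stabilizer_of_transitive N a
      rwa [hstab, Subgroup.index_bot] at this
    have hp2 : Fact (Nat.Prime q₁) := ⟨hq₁⟩
    have hp3 : Fact (Nat.Prime q₂) := ⟨hq₂⟩
    obtain ⟨n2, hn2⟩ := exists_prime_orderOf_dvd_card' (G := N) q₁ (by rw [hNcard]; exact h₁)
    obtain ⟨n3, hn3⟩ := exists_prime_orderOf_dvd_card' (G := N) q₂ (by rw [hNcard]; exact h₂)
    have hn2a : a ≠ (n2 : G) • a := by
      intro hh
      have h2 := hreg n2 n2.2 hh.symm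
      have h3 : orderOf (n2 : G) = q₁ := by rw [Subgroup.orderOf_coe, hn2]
      rw [h2, orderOf_one] at h3
      exact hq₁.one_lt.ne h3
    have hn3a : a ≠ (n3 : G) • a := by
      intro hh
      have h2 := hreg n3 n3.2 hh.symm
      have h3 : orderOf (n3 : G) = q₂ := by rw [Subgroup.orderOf_coe, hn3]
      rw [h2, orderOf_one] at h3
      exact hq₂.one_lt.ne h3
    obtain ⟨s, hsa, hs⟩ := is_two_pretransitive_iff.mp h2tr hn2a hn3a
    have hconj : (n3 : G)⁻¹ * (s * n2 * s⁻¹) = 1 := by
      apply hreg
      · exact N.mul_mem (N.inv_mem n3.2) (hN.conj_mem _ n2.2 s)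
      · have hsa' : s⁻¹ • a = a := by rw [inv_smul_eq_iff, hsa]
        rw [mul_smul, mul_smul, mul_smul, hsa', hs, inv_smul_smul]
    rw [inv_mul_eq_one] at hconj
    have h3 : orderOf (n3 : G) = q₂ := by rw [Subgroup.orderOf_coe, hn3]
    have h2 : orderOf (s * n2 * s⁻¹ : G) = q₁ := by
      rw [← hn2, ← Subgroup.orderOf_coe]
      have hsc : SemiconjBy s (n2 : G) (s * n2 * s⁻¹) := by
        unfold SemiconjBy; group
      exact (hsc.orderOf_eq).symm
    rw [hconj, h2] at h3
    exact hq h3
  · rw [subgroupOf_eq_top] at h1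
    apply hNtop
    rw [eq_top_iff]
    intro g _
    obtain ⟨n, hn⟩ := exists_smul_eq N a (g • a)
    have hn' : (n : G) • a = g • a := hn
    have : (n : G)⁻¹ * g ∈ stabilizer G a := by
      rw [mem_stabilizer_iff, mul_smul, ← hn', inv_smul_smul]
    have h2 := N.mul_mem n.2 (h1 this)
    rwa [mul_inv_cancel_left] at h2

end Cfsg.Agent.Lib.Helper10Simple
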