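import Mathlib
import Cfsg.Agent.Lib.Helper10Simple

set_option autoImplicit false

namespace Cfsg.Agent.Lib.Helper10M22

open MulAction Subgroup Cfsg.Agent.Lib.Helper10Simple

variable {G Ω : Type*} [Group G] [MulAction G Ω]

theorem dvd_of_zpow_fix (n : G) (hfree : ∀ y : Ω, n • y ≠ y) (hn : n ^ 11 = 1) (i : ℤ) (y : Ω)
    (h : n ^ i • y = y) : (11 : ℤ) ∣ i := by
  by_contra hcon
  have hp : Prime (11 : ℤ) := by norm_num
  have hco : IsCoprime (11 : ℤ) i := (Prime.coprime_iff_not_dvd hp).mpr hcon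
  obtain ⟨u, v, huv⟩ := hco
  apply hfree y
  have h1 : n ^ i ∈ stabilizer G y := h
  have h2 : (n ^ i) ^ v ∈ stabilizer G y := zpow_mem h1 v
  have h3 : (n ^ i) ^ v = n := by
    have h11 : n ^ (11 : ℤ) = 1 := by exact_mod_cast hn
    calc (n ^ i) ^ v = n ^ (v * i) := by rw [← zpow_mul, mul_comm]
      _ = n ^ (u * 11 + v * i) := by
          rw [zpow_add n (u * 11), mul_comm u, zpow_mul n 11 u, h11, one_zpow, one_mul]
      _ = n := by rw [huv, zpow_one]
  rw [h3] at h2
  exact h2

theorem mem_orbit_zpowers (n : G) (y y' : Ω) :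
    y' ∈ orbit (zpowers n) y ↔ ∃ i : ℤ, n ^ i • y = y' := by
  constructor
  · rintro ⟨⟨z, hz⟩, rfl⟩
    obtain ⟨i, rfl⟩ := mem_zpowers_iff.mp hz
    exact ⟨i, rfl⟩
  · rintro ⟨i, rfl⟩
    exact ⟨⟨n ^ i, zpow_mem (mem_zpowers n) i⟩, rfl⟩

theorem ncard_orbit (n : G) (hfree : ∀ y : Ω, n • y ≠ y) (hn : orderOf n = 11) (y : Ω) :
    (orbit (zpowers n) y).ncard = 11 := by
  have hn' : n ^ 11 = 1 := by rw [← hn]; exact pow_orderOf_eq_one n
  rw [← index_stabilizer]
  have : stabilizer (zpowers n) y = ⊥ := by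
    rw [eq_bot_iff]
    rintro ⟨z, hz⟩ hzy
    obtain ⟨i, rfl⟩ := mem_zpowers_iff.mp hz
    have h1 : n ^ i • y = y := hzy
    obtain ⟨j, rfl⟩ := dvd_of_zpow_fix n hfree hn' i y h1
    rw [Subgroup.mem_bot]
    apply Subtype.ext
    show n ^ (11 * j) = 1
    rw [zpow_mul]
    have h11 : n ^ (11 : ℤ) = 1 := by exact_mod_cast hn'
    rw [h11, one_zpow]
  rw [this, index_bot, Nat.card_zpowers, hn]

theorem exists_zpow [Finite Ω] (hΩ : Nat.card Ω = 22) (n : G) (hfree : ∀ y : Ω, n • y ≠ y)
    (hn : orderOf n = 11) (h : G) (hc : h * n = n * h) (a : Ω) (ha : h • a = a) (b : Ω) :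
    ∃ l : ℤ, h • b = n ^ l • b := by
  have hcz : ∀ (i : ℤ) (y : Ω), h • n ^ i • y = n ^ i • h • y := by
    intro i y
    have : Commute h (n ^ i) := (show Commute h n from hc).zpow_right i
    rw [← mul_smul, this.eq, mul_smul]
  by_cases hb1 : b ∈ orbit (zpowers n) a
  · obtain ⟨i, rfl⟩ := (mem_orbit_zpowers n a b).mp hb1
    exact ⟨0, by rw [hcz, ha, zpow_zero, one_smul]⟩
  by_contra hcon
  have hb2 : h • b ∉ orbit (zpowers n) b := by
    intro hh
    obtain ⟨l, hl⟩ := (mem_orbit_zpowers n b _).mp hh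
    exact hcon ⟨l, hl.symm⟩
  have hb3 : h • b ∉ orbit (zpowers n) a := by
    intro hh
    obtain ⟨l, hl⟩ := (mem_orbit_zpowers n a _).mp hh
    apply hb1
    rw [mem_orbit_zpowers]
    refine ⟨l, ?_⟩
    apply MulAction.injective h
    show h • n ^ l • a = h • b
    rw [hcz, ha, hl]
  have d12 : Disjoint (orbit (zpowers n) a) (orbit (zpowers n) b) := by
    rcases orbit.eq_or_disjoint (G := zpowers n) a b with h1 | h1
    · exact absurd (h1 ▸ mem_orbit_self b) hb1
    · exact h1
  have d13 : Disjoint (orbit (zpowers n) a) (orbit (zpowers n) (h • b)) := by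
    rcases orbit.eq_or_disjoint (G := zpowers n) a (h • b) with h1 | h1
    · exact absurd (h1 ▸ mem_orbit_self (h • b)) hb3
    · exact h1
  have d23 : Disjoint (orbit (zpowers n) b) (orbit (zpowers n) (h • b)) := by
    rcases orbit.eq_or_disjoint (G := zpowers n) b (h • b) with h1 | h1
    · exact absurd (h1 ▸ mem_orbit_self (h • b)) hb2
    · exact h1
  have hcard : (orbit (zpowers n) a ∪ orbit (zpowers n) b ∪ orbit (zpowers n) (h • b)).ncard
      = 33 := by
    rw [Set.ncard_union_eq (Set.disjoint_union_left.mpr ⟨d13, d23⟩), Set.ncard_union_eq d12,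
      ncard_orbit n hfree hn, ncard_orbit n hfree hn, ncard_orbit n hfree hn]
  have hle := Set.ncard_le_ncard (Set.subset_univ
    (orbit (zpowers n) a ∪ orbit (zpowers n) b ∪ orbit (zpowers n) (h • b)))
  rw [hcard, Set.ncard_univ, hΩ] at hle
  omega

/-- an element commuting with a fixed-point-free element of order 11 and fixing a point is trivial -/
theorem eq_one_of_fix [Finite Ω] (hΩ : Nat.card Ω = 22)
    (hfaith : ∀ g : G, (∀ y : Ω, g • y = y) → g = 1)
    (h3 : ∀ g : G, ∀ x y z : Ω, x ≠ y → x ≠ z → y ≠ z → g • x = x → g • y = y → g • z = z →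
      g ^ 48 = 1)
    (n : G) (hfree : ∀ y : Ω, n • y ≠ y)
    (hn : orderOf n = 11) (h : G) (hc : h * n = n * h) (a : Ω) (ha : h • a = a) : h = 1 := by
  have hn' : n ^ 11 = 1 := by rw [← hn]; exact pow_orderOf_eq_one n
  have hcz : ∀ (i : ℤ) (y : Ω), h • n ^ i • y = n ^ i • h • y := by
    intro i y
    have : Commute h (n ^ i) := (show Commute h n from hc).zpow_right i
    rw [← mul_smul, this.eq, mul_smul]
  have h11 : h ^ 11 = 1 := by
    apply hfaith
    intro b
    obtain ⟨l, hl⟩ := exists_zpow hΩ n hfree hn h hc a ha b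
    have hk : ∀ k : ℕ, h ^ k • b = n ^ (l * k) • b := by
      intro k
      induction k with
      | zero => simp
      | succ k ih =>
        rw [pow_succ', mul_smul, ih, hcz, hl, ← mul_smul, ← zpow_add]
        congr 2
        push_cast; ring
    rw [hk 11]
    have : n ^ (l * ((11 : ℕ) : ℤ)) = 1 := by
      rw [mul_comm, zpow_mul]
      have h11 : n ^ (((11 : ℕ) : ℤ)) = 1 := by exact_mod_cast hn'
      rw [h11, one_zpow]
    rw [this, one_smul]
  have h48 : h ^ 48 = 1 := by
    have e1 : a ≠ n • a := fun hh => hfree a hh.symm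
    have e2 : a ≠ n ^ (2 : ℤ) • a := by
      intro hh
      have := dvd_of_zpow_fix n hfree hn' 2 a hh.symm
      omega
    have e3 : n • a ≠ n ^ (2 : ℤ) • a := by
      intro hh
      apply e1
      apply MulAction.injective n
      show n • a = n • n • a
      have e : n ^ (2 : ℤ) = n * n := by
        rw [← pow_two]; exact_mod_cast rfl
      rw [← mul_smul, ← e]
      exact hh
    refine h3 h a (n • a) (n ^ (2 : ℤ) • a) e1 e2 e3 ha ?_ ?_
    · have := hcz 1 a
      rw [zpow_one, ha] at this
      exact this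
    · rw [hcz, ha]
  calc h = (h ^ 48) ^ 3 * ((h ^ 11) ^ 13)⁻¹ := by
        rw [← pow_mul, ← pow_mul]
        have : h ^ (48 * 3) = h ^ (11 * 13) * h := by rw [← pow_succ]
        rw [this]; group
    _ = 1 := by rw [h48, h11]; simp


theorem simple_of_degree_22 [Finite Ω] (hΩ : Nat.card Ω = 22) [IsPreprimitive G Ω]
    (hfaith : ∀ g : G, (∀ y : Ω, g • y = y) → g = 1) (hcard : Nat.card G = 443520)
    (h3 : ∀ g : G, ∀ x y z : Ω, x ≠ y → x ≠ z → y ≠ z → g • x = x → g • y = y → g • z = z →
      g ^ 48 = 1) : IsSimpleGroup G := by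
  classical
  have hfin : Finite G := Nat.finite_of_card_ne_zero (by omega)
  have hne : Nonempty Ω := (Nat.card_pos_iff.mp (by omega)).1
  have hp : Fact (Nat.Prime 11) := ⟨by norm_num⟩
  have hnt : Nontrivial G := by
    rw [← Finite.one_lt_card_iff_nontrivial]; omega
  refine ⟨fun N hN => ?_⟩
  by_contra hcon
  rw [not_or] at hcon
  obtain ⟨hNbot, hNtop⟩ := hcon
  have hNtr : IsPretransitive N Ω := pretransitive_of_normal hfaith N hNbot
  have h22N : 22 ∣ Nat.card N := hΩ ▸ card_dvd_of_pretransitive' (α := Ω) N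
  have h11N : 11 ∣ Nat.card N := Dvd.dvd.trans (by norm_num) h22N
  obtain ⟨n, hn⟩ := exists_prime_orderOf_dvd_card' 11 h11N
  have hnG : orderOf (n : G) = 11 := by rw [Subgroup.orderOf_coe, hn]
  have hQcard : Nat.card (zpowers (n : G)) = 11 := by
    rw [Nat.card_zpowers, hnG]
  have hQidx : (zpowers (n : G)).index = 40320 := by
    have := (zpowers (n : G)).card_mul_index
    rw [hQcard, hcard] at this
    omega
  let P : Sylow 11 G := (IsPGroup.of_card (n := 1) (by rw [hQcard, pow_one])).toSylow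
    (P := zpowers (n : G)) (by rw [hQidx]; norm_num)
  have hPcoe : (P : Subgroup G) = zpowers (n : G) := rfl
  have hPN : (P : Subgroup G) ≤ N := by
    rw [hPcoe, zpowers_le]; exact n.2
  have hPcard : Nat.card (P : Subgroup G) = 11 := hQcard
  have hPidx : (P : Subgroup G).index = 40320 := hQidx
  have hPcyc : IsCyclic (P : Subgroup G) := isCyclic_of_prime_card hPcard
  have hPcomm : ∀ x ∈ (P : Subgroup G), ∀ y ∈ (P : Subgroup G), x * y = y * x := by
    intro x hx y hy
    rw [hPcoe] at hx hy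
    obtain ⟨i, rfl⟩ := mem_zpowers_iff.mp hx
    obtain ⟨j, rfl⟩ := mem_zpowers_iff.mp hy
    rw [← zpow_add, ← zpow_add, add_comm]
  have hfree : ∀ y : Ω, (n : G) • y ≠ y := by
    intro y hy
    have hpg : IsPGroup 11 (zpowers (n : G)) := IsPGroup.of_card (n := 1) (by rw [hQcard, pow_one])
    have hmod := hpg.card_modEq_card_fixedPoints Ω
    rw [hΩ, Nat.card_coe_set_eq] at hmod
    have hmem : ∀ w : Ω, w ∈ fixedPoints (zpowers (n : G)) Ω ↔ (n : G) • w = w := by
      intro w
      constructor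
      · intro hw
        exact hw ⟨n, mem_zpowers _⟩
      · intro hw z
        obtain ⟨z, hz⟩ := z
        obtain ⟨i, rfl⟩ := mem_zpowers_iff.mp hz
        have h1 : (n : G) ∈ stabilizer G w := hw
        exact zpow_mem h1 i
    have hpos : 0 < (fixedPoints (zpowers (n : G)) Ω).ncard :=
      (Set.ncard_pos (Set.toFinite _)).mpr ⟨y, (hmem y).mpr hy⟩
    have h2lt : 2 < (fixedPoints (zpowers (n : G)) Ω).ncard := by
      unfold Nat.ModEq at hmod
      omega
    obtain ⟨a, b, c, ha, hb, hc, hab, hac, hbc⟩ := (Set.two_lt_ncard_iff (Set.toFinite _)).mp h2lt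
    have h48 := h3 n a b c hab hac hbc ((hmem a).mp ha) ((hmem b).mp hb) ((hmem c).mp hc)
    have := orderOf_dvd_of_pow_eq_one h48
    rw [hnG] at this
    omega
  -- the centraliser of P
  have hPC : (P : Subgroup G) ≤ centralizer ((P : Subgroup G) : Set G) := by
    intro g hg
    rw [mem_centralizer_iff]
    intro y hy
    exact hPcomm y hy g hg
  have hCN : centralizer ((P : Subgroup G) : Set G) ≤ normalizer ((P : Subgroup G) : Set G) :=
    centralizer_le_normalizer _
  have hCcard : Nat.card (centralizer ((P : Subgroup G) : Set G)) ≤ 22 := by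
    obtain ⟨a⟩ := hne
    rw [← hΩ]
    apply Nat.card_le_card_of_injective
      (fun g : centralizer ((P : Subgroup G) : Set G) => (g : G) • a)
    intro g g' hgg
    have hgg' : (g : G) • a = (g' : G) • a := hgg
    have hmem : (g : G)⁻¹ * g' ∈ centralizer ((P : Subgroup G) : Set G) :=
      mul_mem (inv_mem g.2) g'.2
    have hnP : (n : G) ∈ (P : Subgroup G) := by rw [hPcoe]; exact mem_zpowers _
    have hc : ((g : G)⁻¹ * g') * n = n * ((g : G)⁻¹ * g') :=
      (mem_centralizer_iff.mp hmem n hnP).symm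
    have h1 := eq_one_of_fix hΩ hfaith h3 (n : G) hfree hnG _ hc a (by
      rw [mul_smul, ← hgg', inv_smul_smul])
    exact Subtype.ext (inv_mul_eq_one.mp h1)
  have hc1 : 11 * (P : Subgroup G).relIndex (centralizer ((P : Subgroup G) : Set G)) =
      Nat.card (centralizer ((P : Subgroup G) : Set G)) := by
    have h1 := ((P : Subgroup G).subgroupOf (centralizer ((P : Subgroup G) : Set G))).card_mul_index
    rw [Nat.card_congr (subgroupOfEquivOfLe hPC).toEquiv, hPcard] at h1
    exact h1
  have key := card_dvd_of_injective _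
    (QuotientGroup.kerLift_injective (P : Subgroup G).normalizerMonoidHom)
  rw [normalizerMonoidHom_ker, ← index, ← relIndex, hPcyc.card_mulAut, hPcard,
    Nat.totient_prime hp.out] at key
  have hmul0 := relIndex_mul_relIndex (P : Subgroup G) (centralizer ((P : Subgroup G) : Set G))
    (normalizer ((P : Subgroup G) : Set G)) hPC hCN
  have hmul := relIndex_mul_index (le_normalizer (H := (P : Subgroup G)))
  rw [hPidx] at hmul
  have hmod : (normalizer ((P : Subgroup G) : Set G)).index ≡ 1 [MOD 11] := by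
    have h0 : Nat.card (Sylow 11 G) = (normalizer ((P : Subgroup G) : Set G)).index :=
      P.card_eq_index_normalizer
    rw [← h0]
    exact card_sylow_modEq_one 11 G
  have hr5 : (P : Subgroup G).relIndex (normalizer ((P : Subgroup G) : Set G)) = 5 := by
    rw [← hmul0] at hmul ⊢
    generalize (P : Subgroup G).relIndex (centralizer ((P : Subgroup G) : Set G)) = c at hc1 hmul ⊢
    generalize (centralizer ((P : Subgroup G) : Set G)).relIndex
      (normalizer ((P : Subgroup G) : Set G)) = m at key hmul ⊢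
    generalize (normalizer ((P : Subgroup G) : Set G)).index = i at hmul hmod
    have hm10 : m ≤ 10 := Nat.le_of_dvd (by norm_num) key
    have hc2 : c ≤ 2 := by omega
    unfold Nat.ModEq at hmod
    interval_cases c <;> interval_cases m <;> omega
  have hPR : (P : Subgroup G) ≤ N ⊓ normalizer ((P : Subgroup G) : Set G) :=
    le_inf hPN le_normalizer
  have hmul2 := relIndex_mul_relIndex (P : Subgroup G) (N ⊓ normalizer ((P : Subgroup G) : Set G))
    (normalizer ((P : Subgroup G) : Set G)) hPR inf_le_right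
  rw [hr5] at hmul2
  have hfrat : normalizer ((P : Subgroup G) : Set G) ⊔ N = ⊤ := Sylow.normalizer_sup_eq_top' P hPN
  rcases (Nat.dvd_prime Nat.prime_five).mp ⟨_, hmul2.symm⟩ with h1 | h1
  · rw [relIndex_eq_one] at h1
    let P' : Sylow 11 N := P.subtype hPN
    have hP'coe : (P' : Subgroup N) = (P : Subgroup G).subgroupOf N := Sylow.coe_subtype P hPN
    have hP' : normalizer ((P' : Subgroup N) : Set N) ≤ centralizer ((P' : Subgroup N) : Set N) := by
      rw [hP'coe, ← subgroupOf_normalizer_eq hPN]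
      intro m hm
      rw [mem_subgroupOf] at hm
      have hmP : (m : G) ∈ (P : Subgroup G) := h1 ⟨m.2, hm⟩
      rw [mem_centralizer_iff]
      intro y hy
      apply Subtype.ext
      exact hPcomm y (mem_subgroupOf.mp hy) m hmP
    have hK1 := MonoidHom.not_dvd_card_ker_transferSylow P' hP'
    have hK2 := (MonoidHom.ker_transferSylow_isComplement' P' hP').card_mul_card
    have hP'card : Nat.card (P' : Subgroup N) = 11 := by
      rw [hP'coe]
      exact (Nat.card_congr (subgroupOfEquivOfLe hPN).toEquiv).trans hPcard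
    set φ := MonoidHom.transferSylow P' hP' with hφ
    have hKnormal : (φ.ker.map N.subtype).Normal := by
      refine ⟨fun x hx g => ?_⟩
      obtain ⟨k, hk, rfl⟩ := hx
      refine ⟨⟨g * k * g⁻¹, hN.conj_mem _ k.2 g⟩, ?_, rfl⟩
      show φ _ = 1
      have ho : orderOf (⟨g * k * g⁻¹, hN.conj_mem _ k.2 g⟩ : N) = orderOf k := by
        rw [← Subgroup.orderOf_coe, ← Subgroup.orderOf_coe]
        have hsc : SemiconjBy g (k : G) (g * k * g⁻¹) := by
          unfold SemiconjBy; group
        exact (hsc.orderOf_eq).symm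
      have hok : orderOf k ∣ Nat.card φ.ker := by
        have : orderOf (⟨k, hk⟩ : φ.ker) = orderOf k := Subgroup.orderOf_mk k hk
        rw [← this]
        exact orderOf_dvd_natCard _
      have e1 : φ ⟨g * k * g⁻¹, hN.conj_mem _ k.2 g⟩ ^ (Nat.card φ.ker) = 1 := by
        rw [← map_pow]
        have : (⟨g * k * g⁻¹, hN.conj_mem _ k.2 g⟩ : N) ^ (Nat.card φ.ker) = 1 := by
          rw [← orderOf_dvd_iff_pow_eq_one, ho]; exact hok
        rw [this, map_one]
      have e2 : φ ⟨g * k * g⁻¹, hN.conj_mem _ k.2 g⟩ ^ 11 = 1 := by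
        have := pow_card_eq_one' (x := φ ⟨g * k * g⁻¹, hN.conj_mem _ k.2 g⟩)
        rwa [hP'card] at this
      have e3 := pow_gcd_eq_one.mpr ⟨e1, e2⟩
      have hco : Nat.gcd (Nat.card φ.ker) 11 = 1 := by
        rw [Nat.gcd_comm]
        exact (Nat.Prime.coprime_iff_not_dvd hp.out).mpr hK1
      rwa [hco, pow_one] at e3
    have hKcard : Nat.card (φ.ker.map N.subtype) = Nat.card φ.ker :=
      Subgroup.card_map_of_injective N.subtype_injective
    have hKbot : φ.ker.map N.subtype = ⊥ := by
      by_contra hne'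
      have : IsPretransitive (φ.ker.map N.subtype) Ω := pretransitive_of_normal hfaith _ hne'
      have h22 : 22 ∣ Nat.card (φ.ker.map N.subtype) :=
        hΩ ▸ card_dvd_of_pretransitive' (α := Ω) (φ.ker.map N.subtype)
      rw [hKcard] at h22
      exact hK1 (Dvd.dvd.trans (by norm_num) h22)
    rw [← hKcard, hKbot, Subgroup.card_bot, one_mul, hP'card] at hK2
    rw [← hK2] at h22N
    omega
  · rw [h1] at hmul2
    have h2 : (N ⊓ normalizer ((P : Subgroup G) : Set G)).relIndex
        (normalizer ((P : Subgroup G) : Set G)) = 1 := by omega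
    rw [relIndex_eq_one] at h2
    apply hNtop
    rw [← hfrat]
    exact (sup_eq_right.mpr (h2.trans inf_le_left)).symm

end Cfsg.Agent.Lib.Helper10M22
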