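import Mathlib

set_option autoImplicit false

namespace Cfsg.Agent.Lib.Helper10Sharp

open MulAction

/-- sharply `k`-transitive actions -/
structure Sharp (G α : Type*) [Group G] [MulAction G α] (k : ℕ) : Prop where
  trans : IsMultiplyPretransitive G α k
  free : ∀ x : Fin k ↪ α, stabilizer G x = ⊥

variable {G α : Type*} [Group G] [MulAction G α] {k : ℕ}

/-- the embedding given by a duplicate-free list -/
def embOfList (l : List α) (hl : l.Nodup) (hk : l.length = k) : Fin k ↪ α :=
  ⟨fun i => l.get (i.cast hk.symm), fun i j h => by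
    have := (List.Nodup.get_inj_iff hl).mp h
    simpa using this⟩

theorem embOfList_apply (l : List α) (hl : l.Nodup) (hk : l.length = k) (i : Fin k) :
    embOfList l hl hk i = l.get (i.cast hk.symm) := rfl

theorem Sharp.exists_map (h : Sharp G α k) (l l' : List α) (hl : l.Nodup) (hl' : l'.Nodup)
    (hk : l.length = k) (hk' : l'.length = k) : ∃ g : G, l.map (g • ·) = l' := by
  have := h.trans
  obtain ⟨g, hg⟩ := exists_smul_eq G (embOfList l hl hk) (embOfList l' hl' hk')
  refine ⟨g, ?_⟩
  apply List.ext_get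
  · simp [hk, hk']
  · intro n h1 h2
    have h3 : n < k := by simpa [hk] using h1
    have := DFunLike.congr_fun hg ⟨n, h3⟩
    simpa [embOfList_apply] using this

theorem Sharp.eq_one (h : Sharp G α k) (l : List α) (hl : l.Nodup) (hk : l.length = k) (g : G)
    (hg : ∀ a ∈ l, g • a = a) : g = 1 := by
  have h1 : g ∈ stabilizer G (embOfList l hl hk) := by
    rw [mem_stabilizer_iff]
    ext i
    rw [Function.Embedding.smul_apply, embOfList_apply]
    exact hg _ (List.get_mem _ _)
  rw [h.free] at h1
  exact Subgroup.mem_bot.mp h1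

theorem Sharp.comm_of_agree (h : Sharp G α k) (l : List α) (hl : l.Nodup) (hk : l.length = k)
    (g x : G) (hg : ∀ y ∈ l, g • x • y = x • g • y) : g * x = x * g := by
  have h1 : (x * g)⁻¹ * (g * x) = 1 := h.eq_one l hl hk _ (fun y hy => by
    rw [mul_smul, mul_smul, hg y hy, ← mul_smul x g y, inv_smul_smul])
  exact (inv_mul_eq_one.mp h1).symm

theorem Sharp.eq_of_agree (h : Sharp G α k) (l : List α) (hl : l.Nodup) (hk : l.length = k)
    (g g' : G) (hg : ∀ y ∈ l, g • y = g' • y) : g = g' := by
  have h1 : g'⁻¹ * g = 1 := h.eq_one l hl hk _ (fun y hy => by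
    rw [mul_smul, hg y hy, inv_smul_smul])
  exact (inv_mul_eq_one.mp h1).symm

theorem Sharp.isPretransitive [Finite α] (h : Sharp G α (k + 1)) (hk : k + 1 ≤ Nat.card α) :
    IsPretransitive G α := by
  have := h.trans
  rw [← is_one_pretransitive_iff]
  exact isMultiplyPretransitive_of_le (n := k + 1) (by omega) hk

/-- a point stabiliser of a sharply `(k+1)`-transitive action is sharply `k`-transitive -/
theorem Sharp.stabilizer [Finite α] (h : Sharp G α (k + 1)) (hk : k + 1 ≤ Nat.card α) (a : α) :
    Sharp (stabilizer G a) (SubMulAction.ofStabilizer G a) k := by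
  have := h.isPretransitive hk
  refine ⟨SubMulAction.ofStabilizer.isMultiplyPretransitive.mp h.trans, fun y => ?_⟩
  rw [eq_bot_iff]
  intro g hg
  rw [mem_stabilizer_iff] at hg
  have h1 : (g : G) ∈ MulAction.stabilizer G (SubMulAction.ofStabilizer.snoc y) := by
    rw [mem_stabilizer_iff]
    ext i
    rw [Function.Embedding.smul_apply]
    rcases Fin.eq_castSucc_or_eq_last i with ⟨i, rfl⟩ | rfl
    · rw [SubMulAction.ofStabilizer.snoc_castSucc]
      have := DFunLike.congr_fun hg i
      rw [Function.Embedding.smul_apply] at this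
      exact congrArg Subtype.val this
    · rw [SubMulAction.ofStabilizer.snoc_last]
      exact g.2
  rw [h.free] at h1
  rw [Subgroup.mem_bot] at h1 ⊢
  exact Subtype.ext h1

/-- the order of a sharply `k`-transitive group -/
theorem Sharp.card_eq [Fintype α] (h : Sharp G α k) (hk : k ≤ Fintype.card α) :
    Nat.card G = (Fintype.card α).descFactorial k := by
  have := h.trans
  obtain ⟨t⟩ : Nonempty (Fin k ↪ α) := Function.Embedding.nonempty_of_card_le (by simpa using hk)
  have hbij : Function.Bijective (fun g : G => g • t) := by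
    constructor
    · intro g g' hgg
      have h1 : g'⁻¹ * g ∈ MulAction.stabilizer G t := by
        rw [mem_stabilizer_iff, mul_smul]
        simp only at hgg
        rw [hgg, inv_smul_smul]
      rw [h.free, Subgroup.mem_bot] at h1
      exact (inv_mul_eq_one.mp h1).symm
    · intro s
      exact exists_smul_eq G t s
  rw [Nat.card_congr (Equiv.ofBijective _ hbij), Nat.card_eq_fintype_card,
    Fintype.card_embedding_eq, Fintype.card_fin]


theorem exists_nodup [Fintype α] (hk : k ≤ Fintype.card α) :
    ∃ l : List α, l.Nodup ∧ l.length = k := by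
  classical
  obtain ⟨s, -, hs⟩ := Finset.exists_subset_card_eq (s := (Finset.univ : Finset α)) (n := k)
    (by simpa using hk)
  exact ⟨s.toList, s.nodup_toList, by simp [hs]⟩

theorem Sharp.card_fixed_lt [Fintype α] [DecidableEq α] (h : Sharp G α k) (x : G) (hx : x ≠ 1) :
    (Finset.univ.filter (fun y : α => x • y = y)).card < k := by
  by_contra hcon
  obtain ⟨s, hs, hs4⟩ := Finset.exists_subset_card_eq (n := k) (not_lt.mp hcon)
  apply hx
  refine h.eq_one s.toList s.nodup_toList (by simp [hs4]) x (fun y hy => ?_)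
  have := hs (Finset.mem_toList.mp hy)
  simpa using this

theorem lemmaA [Fintype α] [DecidableEq α] (h : Sharp G α 4) (h4 : 4 ≤ Fintype.card α) :
    Fintype.card α = 4 ∨ Fintype.card α = 5 ∨ Fintype.card α = 6 ∨ Fintype.card α = 11 := by
  obtain ⟨l, hl, hl4⟩ := exists_nodup h4
  obtain ⟨p, q, a, b, rfl⟩ : ∃ p q a b, l = [p, q, a, b] := by
    match l, hl4 with
    | [p, q, a, b], _ => exact ⟨p, q, a, b, rfl⟩
  have hl' : [p, q, b, a].Nodup := by
    simp only [List.nodup_cons, List.mem_cons, List.not_mem_nil, or_false, not_or,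
      List.nodup_nil, and_true, not_false_eq_true] at hl ⊢
    tauto
  obtain ⟨x, hx⟩ := h.exists_map [p, q, a, b] [p, q, b, a] hl hl' rfl rfl
  simp only [List.map_cons, List.map_nil, List.cons.injEq, and_true] at hx
  obtain ⟨hxp, hxq, hxa, hxb⟩ := hx
  simp only [List.nodup_cons, List.mem_cons, List.not_mem_nil, or_false, not_or,
      List.nodup_nil, and_true, not_false_eq_true] at hl'
  obtain ⟨⟨hpq, hpb, hpa⟩, ⟨hqb, hqa⟩, hba⟩ := hl'
  have hxx : x * x = 1 := h.eq_one [p, q, a, b] hl rfl _ (by
    simp [mul_smul, hxp, hxq, hxa, hxb])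
  have hxx' : ∀ y : α, x • x • y = y := fun y => by rw [← mul_smul, hxx, one_smul]
  have hx1 : x ≠ 1 := by
    rintro rfl
    rw [one_smul] at hxa
    exact hba hxa.symm
  set F := Finset.univ.filter (fun y : α => x • y = y) with hF
  set M := Finset.univ.filter (fun y : α => ¬ x • y = y) with hM
  have hFM : F.card + M.card = Fintype.card α := by
    rw [hF, hM, Finset.card_filter_add_card_filter_not]; rfl
  have hF3 : F.card < 4 := h.card_fixed_lt x hx1
  have memF : ∀ y, y ∈ F ↔ x • y = y := fun y => by simp [hF]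
  have memM : ∀ y, y ∈ M ↔ ¬ x • y = y := fun y => by simp [hM]
  have hF2 : 1 < F.card := Finset.one_lt_card.mpr ⟨p, (memF p).mpr hxp, q, (memF q).mpr hxq, hpq⟩
  have haM : a ∈ M := (memM a).mpr (by rw [hxa]; exact hba)
  have hbM : b ∈ M := (memM b).mpr (by rw [hxb]; exact fun h => hba h.symm)
  have hcardE : ((M.erase a).erase b).card = M.card - 2 := by
    rw [Finset.card_erase_of_mem (Finset.mem_erase.mpr ⟨hba, hbM⟩), Finset.card_erase_of_mem haM]
    omega
  have hM2 : 2 ≤ M.card := Finset.one_lt_card.mpr ⟨a, haM, b, hbM, fun h => hba h.symm⟩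
  by_cases hE : ((M.erase a).erase b) = ∅
  · rw [hE, Finset.card_empty] at hcardE
    omega
  obtain ⟨c, hc⟩ := Finset.nonempty_iff_ne_empty.mpr hE
  have memE : ∀ y, y ∈ (M.erase a).erase b ↔ y ≠ b ∧ y ≠ a ∧ ¬ x • y = y := fun y => by
    simp [memM]
  obtain ⟨hcb, hca, hxc⟩ := (memE c).mp hc
  -- the group H
  let H := {g : G // g • a = a ∧ g * x = x * g}
  have Hcomm : ∀ (g : H) (y : α), g.1 • x • y = x • g.1 • y := fun g y => by
    rw [← mul_smul, g.2.2, mul_smul]
  have Hb : ∀ g : H, g.1 • b = b := fun g => by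
    rw [← hxa, Hcomm, g.2.1]
  let f1 : H → F.offDiag := fun g => ⟨(g.1 • p, g.1 • q), by
    rw [Finset.mem_offDiag]
    refine ⟨(memF _).mpr ?_, (memF _).mpr ?_, fun hh => hpq (MulAction.injective g.1 hh)⟩
    · rw [← Hcomm, hxp]
    · rw [← Hcomm, hxq]⟩
  have hf1 : Function.Bijective f1 := by
    constructor
    · intro g g' hgg
      have h1 := congrArg (fun z => z.1.1) hgg
      have h2 := congrArg (fun z => z.1.2) hgg
      simp only [f1] at h1 h2
      apply Subtype.ext
      refine h.eq_of_agree [p, q, a, b] hl rfl _ _ ?_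
      simp [h1, h2, g.2.1, g'.2.1, Hb]
    · rintro ⟨⟨p', q'⟩, hpq'⟩
      rw [Finset.mem_offDiag] at hpq'
      obtain ⟨hp', hq', hne⟩ := hpq'
      simp only at hp' hq' hne
      rw [memF] at hp' hq'
      have hnd : [p', q', a, b].Nodup := by
        simp only [List.nodup_cons, List.mem_cons, List.not_mem_nil, or_false, not_or,
          List.nodup_nil, and_true, not_false_eq_true]
        refine ⟨⟨hne, ?_, ?_⟩, ⟨?_, ?_⟩, fun h => hba h.symm⟩
        · rintro rfl; rw [hxa] at hp'; exact hba hp'
        · rintro rfl; rw [hxb] at hp'; exact hba hp'.symm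
        · rintro rfl; rw [hxa] at hq'; exact hba hq'
        · rintro rfl; rw [hxb] at hq'; exact hba hq'.symm
      obtain ⟨g, hg⟩ := h.exists_map [p, q, a, b] [p', q', a, b] hl hnd rfl rfl
      simp only [List.map_cons, List.map_nil, List.cons.injEq, and_true] at hg
      obtain ⟨hgp, hgq, hga, hgb⟩ := hg
      refine ⟨⟨g, hga, h.comm_of_agree [p, q, a, b] hl rfl g x ?_⟩, ?_⟩
      · simp [hxp, hxq, hxa, hxb, hgp, hgq, hga, hgb, hp', hq']
      · simp [f1, hgp, hgq]
  have hxc_ne : ∀ y, y ≠ b → y ≠ a → ¬ x • y = y → [a, b, y, x • y].Nodup := by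
    intro y hyb hya hxy
    simp only [List.nodup_cons, List.mem_cons, List.not_mem_nil, or_false, not_or,
      List.nodup_nil, and_true, not_false_eq_true]
    refine ⟨⟨fun h => hba h.symm, fun h => hya h.symm, ?_⟩, ⟨fun h => hyb h.symm, ?_⟩,
      fun h => hxy h.symm⟩
    · intro hh
      apply hyb
      rw [← hxa, hh, hxx']
    · intro hh
      apply hya
      rw [← hxb, hh, hxx']
  let f2 : H → ((M.erase a).erase b : Finset α) := fun g => ⟨g.1 • c, by
    rw [memE]
    refine ⟨?_, ?_, ?_⟩
    · intro hh; rw [← Hb g] at hh; exact hcb (MulAction.injective g.1 hh)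
    · intro hh; exact hca (MulAction.injective g.1 (hh.trans g.2.1.symm))
    · rw [← Hcomm]; intro hh; exact hxc (MulAction.injective g.1 hh)⟩
  have hf2 : Function.Bijective f2 := by
    constructor
    · intro g g' hgg
      have h1 : g.1 • c = g'.1 • c := congrArg (fun z => z.1) hgg
      apply Subtype.ext
      refine h.eq_of_agree [a, b, c, x • c] (hxc_ne c hcb hca hxc) rfl _ _ ?_
      simp [h1, g.2.1, g'.2.1, Hb, Hcomm]
    · rintro ⟨c', hc'⟩
      obtain ⟨hcb', hca', hxc'⟩ := (memE c').mp hc'
      obtain ⟨g, hg⟩ := h.exists_map [a, b, c, x • c] [a, b, c', x • c'] (hxc_ne c hcb hca hxc)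
        (hxc_ne c' hcb' hca' hxc') rfl rfl
      simp only [List.map_cons, List.map_nil, List.cons.injEq, and_true] at hg
      obtain ⟨hga, hgb, hgc, hgxc⟩ := hg
      refine ⟨⟨g, hga, h.comm_of_agree [a, b, c, x • c] (hxc_ne c hcb hca hxc) rfl g x ?_⟩, ?_⟩
      · simp [hxa, hxb, hga, hgb, hgc, hgxc, hxx']
      · simp [f2, hgc]
  have hcard := Fintype.card_congr ((Equiv.ofBijective f1 hf1).symm.trans (Equiv.ofBijective f2 hf2))
  rw [Fintype.card_coe, Fintype.card_coe, Finset.offDiag_card, hcardE] at hcard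
  have : F.card = 2 ∨ F.card = 3 := by omega
  rcases this with h2 | h2 <;> rw [h2] at hcard <;> omega


theorem lemmaC [Fintype α] [DecidableEq α] {m : ℕ} (h : Sharp G α (m + 2)) (x : G)
    (hxx : x * x = 1) (L : List α) (hL : L.Nodup) (hLm : L.length = m)
    (hLM : ∀ y ∈ L, x • y ≠ y) (hLx : ∀ y ∈ L, x • y ∈ L) (p q : α) (hp : x • p = p)
    (hq : x • q = q) (hpq : p ≠ q) (d : α) (hd : x • d ≠ d) (hdL : d ∉ L) :
    (Finset.univ.filter (fun y : α => x • y = y)).card *
      (Finset.univ.filter (fun y : α => x • y = y)).card -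
      (Finset.univ.filter (fun y : α => x • y = y)).card =
      (Finset.univ.filter (fun y : α => ¬ x • y = y)).card - m := by
  have hxx' : ∀ y : α, x • x • y = y := fun y => by rw [← mul_smul, hxx, one_smul]
  set F := Finset.univ.filter (fun y : α => x • y = y) with hF
  set M := Finset.univ.filter (fun y : α => ¬ x • y = y) with hM
  have memF : ∀ y, y ∈ F ↔ x • y = y := fun y => by simp [hF]
  have memM : ∀ y, y ∈ M ↔ ¬ x • y = y := fun y => by simp [hM]
  have hLsub : L.toFinset ⊆ M := fun y hy => (memM y).mpr (hLM y (List.mem_toFinset.mp hy))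
  have hcardE : (M \ L.toFinset).card = M.card - m := by
    rw [Finset.card_sdiff_of_subset hLsub, List.toFinset_card_of_nodup hL, hLm]
  have memE : ∀ y, y ∈ M \ L.toFinset ↔ ¬ x • y = y ∧ y ∉ L := fun y => by
    simp [memM]
  have nd1 : ∀ p' q' : α, x • p' = p' → x • q' = q' → p' ≠ q' → (p' :: q' :: L).Nodup := by
    intro p' q' hp' hq' hne
    rw [List.nodup_cons, List.nodup_cons, List.mem_cons]
    exact ⟨fun hh => hh.elim hne (fun h1 => hLM _ h1 hp'), fun h1 => hLM _ h1 hq', hL⟩
  have nd2 : ∀ d' : α, x • d' ≠ d' → d' ∉ L → (d' :: x • d' :: L).Nodup := by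
    intro d' hd' hdL'
    rw [List.nodup_cons, List.nodup_cons, List.mem_cons]
    refine ⟨fun hh => hh.elim (fun h1 => hd' h1.symm) hdL', fun h1 => hdL' ?_, hL⟩
    have := hLx _ h1
    rwa [hxx'] at this
  have len : ∀ u v : α, (u :: v :: L).length = m + 2 := fun u v => by simp [hLm]
  let H := {g : G // (∀ y ∈ L, g • y = y) ∧ g * x = x * g}
  have Hcomm : ∀ (g : H) (y : α), g.1 • x • y = x • g.1 • y := fun g y => by
    rw [← mul_smul, g.2.2, mul_smul]
  let f1 : H → F.offDiag := fun g => ⟨(g.1 • p, g.1 • q), by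
    rw [Finset.mem_offDiag]
    refine ⟨(memF _).mpr ?_, (memF _).mpr ?_, fun hh => hpq (MulAction.injective g.1 hh)⟩
    · rw [← Hcomm, hp]
    · rw [← Hcomm, hq]⟩
  have hf1 : Function.Bijective f1 := by
    constructor
    · intro g g' hgg
      have h1 : g.1 • p = g'.1 • p := congrArg (fun z => z.1.1) hgg
      have h2 : g.1 • q = g'.1 • q := congrArg (fun z => z.1.2) hgg
      apply Subtype.ext
      refine h.eq_of_agree (p :: q :: L) (nd1 p q hp hq hpq) (len p q) _ _ ?_
      intro y hy
      rw [List.mem_cons, List.mem_cons] at hy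
      rcases hy with rfl | rfl | hy
      · exact h1
      · exact h2
      · rw [g.2.1 y hy, g'.2.1 y hy]
    · rintro ⟨⟨p', q'⟩, hpq'⟩
      rw [Finset.mem_offDiag] at hpq'
      obtain ⟨hp', hq', hne⟩ := hpq'
      simp only at hp' hq' hne
      rw [memF] at hp' hq'
      obtain ⟨g, hg⟩ := h.exists_map (p :: q :: L) (p' :: q' :: L) (nd1 p q hp hq hpq)
        (nd1 p' q' hp' hq' hne) (len p q) (len p' q')
      simp only [List.map_cons, List.cons.injEq] at hg
      obtain ⟨hgp, hgq, hgL⟩ := hg
      have hgL' : ∀ y ∈ L, g • y = y := by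
        have := List.map_inj_left.mp (hgL.trans (List.map_id L).symm)
        simpa using this
      refine ⟨⟨g, hgL', h.comm_of_agree (p :: q :: L) (nd1 p q hp hq hpq) (len p q) g x ?_⟩, ?_⟩
      · intro y hy
        rw [List.mem_cons, List.mem_cons] at hy
        rcases hy with rfl | rfl | hy
        · rw [hp, hgp, hp']
        · rw [hq, hgq, hq']
        · rw [hgL' y hy, hgL' _ (hLx y hy)]
      · simp [f1, hgp, hgq]
  let f2 : H → (M \ L.toFinset : Finset α) := fun g => ⟨g.1 • d, by
    rw [memE]
    refine ⟨?_, ?_⟩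
    · rw [← Hcomm]; intro hh; exact hd (MulAction.injective g.1 hh)
    · intro hh
      apply hdL
      have h1 := g.2.1 _ hh
      have h2 := MulAction.injective g.1 h1
      rwa [h2] at hh⟩
  have hf2 : Function.Bijective f2 := by
    constructor
    · intro g g' hgg
      have h1 : g.1 • d = g'.1 • d := congrArg (fun z => z.1) hgg
      apply Subtype.ext
      refine h.eq_of_agree (d :: x • d :: L) (nd2 d hd hdL) (len _ _) _ _ ?_
      intro y hy
      rw [List.mem_cons, List.mem_cons] at hy
      rcases hy with rfl | rfl | hy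
      · exact h1
      · rw [Hcomm, Hcomm, h1]
      · rw [g.2.1 y hy, g'.2.1 y hy]
    · rintro ⟨d', hd'⟩
      obtain ⟨hxd', hdL'⟩ := (memE d').mp hd'
      obtain ⟨g, hg⟩ := h.exists_map (d :: x • d :: L) (d' :: x • d' :: L) (nd2 d hd hdL)
        (nd2 d' hxd' hdL') (len _ _) (len _ _)
      simp only [List.map_cons, List.cons.injEq] at hg
      obtain ⟨hgd, hgxd, hgL⟩ := hg
      have hgL' : ∀ y ∈ L, g • y = y := by
        have := List.map_inj_left.mp (hgL.trans (List.map_id L).symm)
        simpa using this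
      refine ⟨⟨g, hgL', h.comm_of_agree (d :: x • d :: L) (nd2 d hd hdL) (len _ _) g x ?_⟩, ?_⟩
      · intro y hy
        rw [List.mem_cons, List.mem_cons] at hy
        rcases hy with rfl | rfl | hy
        · rw [hgxd, hgd]
        · rw [hxx', hgd, hgxd, hxx']
        · rw [hgL' y hy, hgL' _ (hLx y hy)]
      · simp [f2, hgd]
  have hcard := Fintype.card_congr ((Equiv.ofBijective f1 hf1).symm.trans (Equiv.ofBijective f2 hf2))
  rw [Fintype.card_coe, Fintype.card_coe, Finset.offDiag_card, hcardE] at hcard
  exact hcard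

theorem lemmaB [Fintype α] [DecidableEq α] (h : Sharp G α 6) (h13 : Fintype.card α = 13) :
    False := by
  obtain ⟨l, hl, hl6⟩ := exists_nodup (α := α) (k := 6) (by omega)
  obtain ⟨p, q, r, s, a, b, rfl⟩ : ∃ p q r s a b, l = [p, q, r, s, a, b] := by
    match l, hl6 with
    | [p, q, r, s, a, b], _ => exact ⟨p, q, r, s, a, b, rfl⟩
  have hl' : [p, q, r, s, b, a].Nodup := by
    simp only [List.nodup_cons, List.mem_cons, List.not_mem_nil, or_false, not_or,
      List.nodup_nil, and_true, not_false_eq_true] at hl ⊢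
    tauto
  obtain ⟨x, hx⟩ := h.exists_map [p, q, r, s, a, b] [p, q, r, s, b, a] hl hl' rfl rfl
  simp only [List.map_cons, List.map_nil, List.cons.injEq, and_true] at hx
  obtain ⟨hxp, hxq, hxr, hxs, hxa, hxb⟩ := hx
  have hxx : x * x = 1 := h.eq_one [p, q, r, s, a, b] hl rfl _ (by
    simp [mul_smul, hxp, hxq, hxr, hxs, hxa, hxb])
  have hxx' : ∀ y : α, x • x • y = y := fun y => by rw [← mul_smul, hxx, one_smul]
  have hba : b ≠ a := by
    simp only [List.nodup_cons, List.mem_cons, List.not_mem_nil, or_false, not_or,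
      List.nodup_nil, and_true, not_false_eq_true] at hl'
    tauto
  have hpq : p ≠ q := by
    simp only [List.nodup_cons, List.mem_cons, List.not_mem_nil, or_false, not_or,
      List.nodup_nil, and_true, not_false_eq_true] at hl'
    tauto
  have hx1 : x ≠ 1 := by
    rintro rfl
    rw [one_smul] at hxa
    exact hba hxa.symm
  have hC := fun (L : List α) (hL : L.Nodup ∧ L.length = 4) hLM hLx d hd hdL =>
    lemmaC (m := 4) h x hxx L hL.1 hL.2 hLM hLx p q hxp hxq hpq d hd hdL
  set F := Finset.univ.filter (fun y : α => x • y = y) with hF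
  set M := Finset.univ.filter (fun y : α => ¬ x • y = y) with hM
  have hFM : F.card + M.card = Fintype.card α := by
    rw [hF, hM, Finset.card_filter_add_card_filter_not]; rfl
  have hF6 : F.card < 6 := h.card_fixed_lt x hx1
  have memF : ∀ y, y ∈ F ↔ x • y = y := fun y => by simp [hF]
  have memM : ∀ y, y ∈ M ↔ ¬ x • y = y := fun y => by simp [hM]
  have hF4 : 4 ≤ F.card := by
    have hnd : [p, q, r, s].Nodup := by
      simp only [List.nodup_cons, List.mem_cons, List.not_mem_nil, or_false, not_or,
        List.nodup_nil, and_true, not_false_eq_true] at hl ⊢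
      tauto
    have hsub : [p, q, r, s].toFinset ⊆ F := by
      intro y hy
      rw [memF]
      simp only [List.toFinset_cons, List.toFinset_nil, insert_empty_eq, Finset.mem_insert,
        Finset.mem_singleton] at hy
      rcases hy with rfl | rfl | rfl | rfl <;> assumption
    have := Finset.card_le_card hsub
    rwa [List.toFinset_card_of_nodup hnd] at this
  obtain ⟨c, hcM, hcL⟩ : ∃ c ∈ M, c ∉ [a, b].toFinset := by
    apply Finset.exists_mem_notMem_of_card_lt_card
    have := List.toFinset_card_le [a, b]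
    simp only [List.length_cons, List.length_nil] at this
    omega
  rw [memM] at hcM
  simp only [List.toFinset_cons, List.toFinset_nil, insert_empty_eq, Finset.mem_insert,
    Finset.mem_singleton, not_or] at hcL
  obtain ⟨hca, hcb⟩ := hcL
  have hLnd : [a, b, c, x • c].Nodup := by
    simp only [List.nodup_cons, List.mem_cons, List.not_mem_nil, or_false, not_or,
      List.nodup_nil, and_true, not_false_eq_true]
    refine ⟨⟨fun h => hba h.symm, fun h => hca h.symm, ?_⟩, ⟨fun h => hcb h.symm, ?_⟩,
      fun h => hcM h.symm⟩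
    · intro hh
      apply hcb
      rw [← hxa, hh, hxx']
    · intro hh
      apply hca
      rw [← hxb, hh, hxx']
  obtain ⟨d, hdM, hdL⟩ : ∃ d ∈ M, d ∉ [a, b, c, x • c].toFinset := by
    apply Finset.exists_mem_notMem_of_card_lt_card
    have := List.toFinset_card_le [a, b, c, x • c]
    simp only [List.length_cons, List.length_nil] at this
    omega
  rw [memM] at hdM
  rw [List.mem_toFinset] at hdL
  have key := hC [a, b, c, x • c] ⟨hLnd, rfl⟩ (by
      intro y hy
      simp only [List.mem_cons, List.not_mem_nil, or_false] at hy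
      rcases hy with rfl | rfl | rfl | rfl
      · rw [hxa]; exact hba
      · rw [hxb]; exact hba.symm
      · exact hcM
      · rw [hxx']; exact fun hh => hcM hh.symm) (by
      intro y hy
      simp only [List.mem_cons, List.not_mem_nil, or_false] at hy
      rcases hy with rfl | rfl | rfl | rfl
      · simp [hxa]
      · simp [hxb]
      · simp
      · simp [hxx']) d hdM hdL
  have : F.card = 4 ∨ F.card = 5 := by omega
  rcases this with h2 | h2 <;> rw [h2] at key <;> omega

theorem degree_four [Finite α] (h : Sharp G α 4) (h4 : 4 ≤ Nat.card α) :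
    Nat.card α = 4 ∨ Nat.card α = 5 ∨ Nat.card α = 6 ∨ Nat.card α = 11 := by
  classical
  have := Fintype.ofFinite α
  rw [Nat.card_eq_fintype_card] at h4 ⊢
  exact lemmaA h h4

theorem degree_five [Finite α] (h : Sharp G α 5) (h5 : 5 ≤ Nat.card α) :
    Nat.card α = 5 ∨ Nat.card α = 6 ∨ Nat.card α = 7 ∨ Nat.card α = 12 := by
  have : Nonempty α := (Nat.card_pos_iff.mp (by omega)).1
  obtain ⟨a⟩ := this
  have h1 := h.stabilizer h5 a
  have h2 := SubMulAction.nat_card_ofStabilizer_add_one_eq (G := G) a
  have := degree_four h1 (by omega)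
  omega

theorem degree_six [Finite α] (h : Sharp G α 6) (h6 : 6 ≤ Nat.card α) :
    Nat.card α = 6 ∨ Nat.card α = 7 ∨ Nat.card α = 8 := by
  have : Nonempty α := (Nat.card_pos_iff.mp (by omega)).1
  obtain ⟨a⟩ := this
  have h1 := h.stabilizer h6 a
  have h2 := SubMulAction.nat_card_ofStabilizer_add_one_eq (G := G) a
  have h3 := degree_five h1 (by omega)
  have h13 : Nat.card α ≠ 13 := by
    classical
    have := Fintype.ofFinite α
    rw [Nat.card_eq_fintype_card]
    exact fun hh => lemmaB h hh
  omega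

theorem degree_large : ∀ (k : ℕ) {G α : Type*} [Group G] [MulAction G α] [Finite α],
    Sharp G α (k + 6) → k + 6 ≤ Nat.card α →
    Nat.card α = k + 6 ∨ Nat.card α = k + 6 + 1 ∨ Nat.card α = k + 6 + 2 := by
  intro k
  induction k with
  | zero =>
    intro G α _ _ _ h h6
    have := degree_six h (by omega)
    omega
  | succ k ih =>
    intro G α _ _ _ h h6
    have : Nonempty α := (Nat.card_pos_iff.mp (by omega)).1
    obtain ⟨a⟩ := this
    have h' : Sharp G α ((k + 6) + 1) := by
      have e : k + 1 + 6 = (k + 6) + 1 := by ring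
      rwa [e] at h
    have h1 := h'.stabilizer (by omega) a
    have h2 := SubMulAction.nat_card_ofStabilizer_add_one_eq (G := G) a
    have h3 := ih h1 (by omega)
    omega

end Cfsg.Agent.Lib.Helper10Sharp
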