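import Cfsg.Agent.Lib.Helper10AutW
import Cfsg.Agent.S0378
import Cfsg.Agent.S0379
import Cfsg.Prelude.Def_Sporadic

/-!
# Automorphisms of the doubly derived octad system (helper10)
-/

set_option autoImplicit false

namespace Cfsg.Agent.Lib.Helper10AutW2

open Cfsg Finset Equiv Cfsg.Agent.Lib.Helper33Golay Cfsg.Agent.Lib.Helper10Ext
  Cfsg.Agent.Lib.Helper10Chain Cfsg.Agent.Lib.Helper10AutW
open scoped Pointwise

theorem core' (A : Finset GolayPt) (a : GolayPt) (ha : a ∉ A) (j : ℕ) (hj : A.card = j)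
    (H1 : ∀ b : Finset GolayPt, Disjoint b (insert a A) → b.card = 8 - j →
      (∀ o ∈ octads, insert a A ⊆ o → (b ∩ o).card % 2 = j % 2) →
      ∃ x ⊆ insert a A, x.card = j ∧ b ∪ x ∈ octads)
    (H2 : ∀ c ∈ A, ∃ τ ∈ M24, τ c = a ∧ τ a = c ∧ ∀ y ∈ A, y ≠ c → τ y = y)
    (BB : Set (Finset GolayPt))
    (h1 : ∀ b ∈ BB, Disjoint b A ∧ b.card = 8 - j)
    (h2 : ∀ b ∈ BB, a ∈ b → b ∪ A ∈ octads)
    (h2' : ∀ o ∈ octads, insert a A ⊆ o → o \ A ∈ BB)
    (h3 : ∀ b ∈ BB, ∀ c ∈ BB, (b ∩ c).card % 2 = j % 2) :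
    ∃ ρ : Equiv.Perm GolayPt, (ρ = 1 ∨ ∃ c ∈ A, ∃ τ ∈ M24, τ c = a ∧ τ a = c ∧
        (∀ y ∈ A, y ≠ c → τ y = y) ∧ ρ = Equiv.swap c a * τ) ∧ (∀ y ∈ insert a A, ρ y = y) ∧
      ∀ b ∈ BB, b.image ρ ∪ A ∈ octads := by
  have hdis : ∀ b ∈ BB, a ∉ b → Disjoint b (insert a A) := fun b hb hab =>
    Finset.disjoint_insert_right.2 ⟨hab, (h1 b hb).1⟩
  have ht : ∀ b ∈ BB, a ∉ b → ∃ x ⊆ insert a A, x.card = j ∧ b ∪ x ∈ octads := by
    intro b hb hab
    apply H1 b (hdis b hb hab) (h1 b hb).2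
    intro o ho hAo
    have h := h3 b hb (o \ A) (h2' o ho hAo)
    have e : b ∩ (o \ A) = b ∩ o := by
      ext y
      simp only [Finset.mem_inter, Finset.mem_sdiff]
      constructor
      · rintro ⟨h, h', -⟩; exact ⟨h, h'⟩
      · rintro ⟨h, h'⟩; exact ⟨h, h', Finset.disjoint_left.1 (h1 b hb).1 h⟩
    rwa [e] at h
  have hA' : (insert a A).card = j + 1 := by rw [Finset.card_insert_of_notMem ha, hj]
  have hsame : ∀ b ∈ BB, ∀ b' ∈ BB, a ∉ b → a ∉ b' → ∀ x x' : Finset GolayPt,
      x ⊆ insert a A → x' ⊆ insert a A → x.card = j → x'.card = j → b ∪ x ∈ octads →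
      b' ∪ x' ∈ octads → x = x' := by
    intro b hb b' hb' hab hab' x x' hx hx' hxc hxc' ho ho'
    have hev := octads_inter_even ho ho'
    have e : (b ∪ x) ∩ (b' ∪ x') = (b ∩ b') ∪ (x ∩ x') := by
      ext y
      simp only [Finset.mem_inter, Finset.mem_union]
      constructor
      · rintro ⟨h | h, h' | h'⟩
        · exact Or.inl ⟨h, h'⟩
        · exact absurd (hx' h') (Finset.disjoint_left.1 (hdis b hb hab) h)
        · exact absurd (hx h) (Finset.disjoint_left.1 (hdis b' hb' hab') h')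
        · exact Or.inr ⟨h, h'⟩
      · rintro (⟨h, h'⟩ | ⟨h, h'⟩)
        · exact ⟨Or.inl h, Or.inl h'⟩
        · exact ⟨Or.inr h, Or.inr h'⟩
    have hd : Disjoint (b ∩ b') (x ∩ x') := by
      rw [Finset.disjoint_left]
      intro y hy hy'
      exact Finset.disjoint_left.1 (hdis b hb hab) (Finset.mem_inter.1 hy).1
        (hx (Finset.mem_inter.1 hy').1)
    rw [e, Finset.card_union_of_disjoint hd] at hev
    have hp := h3 b hb b' hb'
    have hu : (x ∪ x').card ≤ j + 1 := hA' ▸ Finset.card_le_card (Finset.union_subset hx hx')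
    have hui := Finset.card_union_add_card_inter x x'
    have hle : (x ∩ x').card ≤ j := hxc ▸ Finset.card_le_card Finset.inter_subset_left
    have hi : (x ∩ x').card = j := by omega
    have e1 : x ∩ x' = x := Finset.eq_of_subset_of_card_le Finset.inter_subset_left (by omega)
    have e2 : x ∩ x' = x' := Finset.eq_of_subset_of_card_le Finset.inter_subset_right (by omega)
    exact e1.symm.trans e2
  by_cases hex : ∃ b ∈ BB, a ∉ b
  swap
  · refine ⟨1, Or.inl rfl, fun _ _ => rfl, fun b hb => ?_⟩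
    have : a ∈ b := by
      by_contra h
      exact hex ⟨b, hb, h⟩
    simpa using h2 b hb this
  obtain ⟨b0, hb0, hab0⟩ := hex
  obtain ⟨x0, hx0, hx0c, ho0⟩ := ht b0 hb0 hab0
  have hall : ∀ b ∈ BB, a ∉ b → b ∪ x0 ∈ octads := by
    intro b hb hab
    obtain ⟨x, hx, hxc, ho⟩ := ht b hb hab
    rw [hsame b0 hb0 b hb hab0 hab x0 x hx0 hx hx0c hxc ho0 ho]
    exact ho
  by_cases hxA : x0 = A
  · refine ⟨1, Or.inl rfl, fun _ _ => rfl, fun b hb => ?_⟩
    by_cases hab : a ∈ b
    · simpa using h2 b hb hab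
    · simpa [hxA] using hall b hb hab
  -- the twisted case
  have hc : ∃ c ∈ A, c ∉ x0 := by
    by_contra h
    push Not at h
    exact hxA (Finset.eq_of_subset_of_card_le h (by omega)).symm
  obtain ⟨c, hcA, hcx⟩ := hc
  have hca : c ≠ a := fun e => ha (e ▸ hcA)
  have hx0e : x0 = insert a (A.erase c) := by
    apply Finset.eq_of_subset_of_card_le
    · intro y hy
      rcases Finset.mem_insert.1 (hx0 hy) with h | h
      · exact h ▸ Finset.mem_insert_self _ _
      · exact Finset.mem_insert_of_mem (Finset.mem_erase.2 ⟨fun e => hcx (e ▸ hy), h⟩)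
    · rw [Finset.card_insert_of_notMem (fun h => ha (Finset.mem_of_mem_erase h)),
        Finset.card_erase_of_mem hcA]
      have : 0 < A.card := Finset.card_pos.2 ⟨c, hcA⟩
      omega
  obtain ⟨τ, hτ, hτc, hτa, hτA⟩ := H2 c hcA
  have hτe : (A.erase c).image τ = A.erase c := by
    conv_rhs => rw [← Finset.image_id (s := A.erase c)]
    apply Finset.image_congr
    intro y hy
    have hy' := Finset.mem_erase.1 (Finset.mem_coe.1 hy)
    exact hτA y hy'.2 hy'.1
  have hτx : x0.image τ = A := by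
    rw [hx0e, Finset.image_insert, hτe, hτa, Finset.insert_erase hcA]
  have hτA' : (insert a A).image τ = insert a A := by
    rw [← Finset.insert_erase hcA, Finset.image_insert, Finset.image_insert, hτe, hτa, hτc,
      Finset.insert_comm]
  have hρ : ∀ z, z ∉ insert a A → (Equiv.swap c a * τ) z = τ z := by
    intro z hz
    rw [Equiv.Perm.mul_apply]
    apply Equiv.swap_apply_of_ne_of_ne
    · intro e
      exact hz (by rw [← τ.injective (e.trans hτa.symm)]; exact Finset.mem_insert_self _ _)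
    · intro e
      exact hz (by rw [τ.injective (e.trans hτc.symm)]; exact Finset.mem_insert_of_mem hcA)
  have hρfix : ∀ y ∈ insert a A, (Equiv.swap c a * τ) y = y := by
    intro y hy
    rw [Equiv.Perm.mul_apply]
    rcases Finset.mem_insert.1 hy with rfl | hy
    · rw [hτa, Equiv.swap_apply_left]
    · by_cases hyc : y = c
      · rw [hyc, hτc, Equiv.swap_apply_right]
      · rw [hτA y hy hyc]
        exact Equiv.swap_apply_of_ne_of_ne hyc (fun e => ha (e ▸ hy))
  have himg : ∀ b : Finset GolayPt, Disjoint b (insert a A) →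
      b.image (Equiv.swap c a * τ) = b.image τ := by
    intro b hb
    apply Finset.image_congr
    intro z hz
    exact hρ z (Finset.disjoint_left.1 hb (Finset.mem_coe.1 hz))
  refine ⟨Equiv.swap c a * τ, Or.inr ⟨c, hcA, τ, hτ, hτc, hτa, hτA, rfl⟩, hρfix, fun b hb => ?_⟩
  by_cases hab : a ∈ b
  · have hb' : Disjoint (b.erase a) (insert a A) :=
      Finset.disjoint_insert_right.2 ⟨Finset.notMem_erase a b,
        Finset.disjoint_of_subset_left (Finset.erase_subset a b) (h1 b hb).1⟩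
    have e : b.image (Equiv.swap c a * τ) ∪ A = (b ∪ A).image τ := by
      conv_lhs => rw [← Finset.insert_erase hab, Finset.image_insert, himg _ hb',
        hρfix a (Finset.mem_insert_self _ _)]
      conv_rhs => rw [← Finset.insert_erase hab, Finset.insert_union, ← Finset.union_insert,
        Finset.image_union, hτA']
      rw [Finset.insert_union, Finset.union_insert]
    rw [e]
    exact image_mem_octads hτ (h2 b hb hab)
  · have e : b.image (Equiv.swap c a * τ) ∪ A = (b ∪ x0).image τ := by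
      rw [himg _ (hdis b hb hab), Finset.image_union, hτx]
    rw [e]
    exact image_mem_octads hτ (hall b hb hab)


theorem mem_A1 {y : GolayPt} : y ∈ A1 ↔ y = none := by simp [A1]
theorem mem_A2 {y : GolayPt} : y ∈ A2 ↔ y = some 0 ∨ y = none := by simp [A2, A1]

theorem A1_subset {o : Finset GolayPt} : A1 ⊆ o ↔ none ∈ o := by
  constructor
  · intro h; exact h (mem_A1.2 rfl)
  · intro h y hy; rw [mem_A1.1 hy]; exact h

theorem A2_subset {o : Finset GolayPt} : A2 ⊆ o ↔ some 0 ∈ o ∧ none ∈ o := by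
  constructor
  · intro h; exact ⟨h (mem_A2.2 (Or.inl rfl)), h (mem_A2.2 (Or.inr rfl))⟩
  · rintro ⟨h, h'⟩ y hy
    rcases mem_A2.1 hy with rfl | rfl
    · exact h
    · exact h'

theorem image_sdiff_union {A o : Finset GolayPt} {ρ : Perm GolayPt} (hfix : ∀ y ∈ A, ρ y = y)
    (hAo : A ⊆ o) : (o \ A).image ρ ∪ A = o.image ρ := by
  have h : o.image ρ = ((o \ A) ∪ A).image ρ := by rw [Finset.sdiff_union_of_subset hAo]
  rw [h, Finset.image_union, image_fix hfix]

theorem disjoint_image_sdiff {A o : Finset GolayPt} {ρ : Perm GolayPt}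
    (hfix : ∀ y ∈ A, ρ y = y) : Disjoint ((o \ A).image ρ) A := by
  have h := (Finset.disjoint_image ρ.injective).2 (Finset.sdiff_disjoint : Disjoint (o \ A) A)
  rwa [image_fix hfix] at h

theorem dichotomy {ρ : Perm GolayPt} (hn : ρ none = none) (h0 : ρ (some 0) = some 0)
    (hP : ∀ o ∈ octads, A2 ⊆ o → o.image ρ ∈ octads) :
    ρ ∈ M24 ∨ ∃ τ ∈ M24, τ none = some 0 ∧ τ (some 0) = none ∧
      swap none (some 0) * τ * ρ ∈ M24 := by
  have hfix1 : ∀ y ∈ A1, ρ y = y := fun y hy => by rw [mem_A1.1 hy]; exact hn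
  have hfix2 : ∀ y ∈ A2, ρ y = y := fun y hy => by
    rcases mem_A2.1 hy with rfl | rfl
    · exact h0
    · exact hn
  obtain ⟨ρ₂, hρ₂, hρ₂fix, hρ₂B⟩ := core' A1 (some 0) (by decide +kernel) 1 card_A1 H1_2 H2_1
    {b | ∃ o ∈ octads, A1 ⊆ o ∧ b = (o \ A1).image ρ}
    (by
      rintro _ ⟨o, ho, hAo, rfl⟩
      constructor
      · exact disjoint_image_sdiff hfix1
      · rw [Finset.card_image_of_injective _ ρ.injective, Finset.card_sdiff_of_subset hAo,
          octads_card ho, card_A1])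
    (by
      rintro _ ⟨o, ho, hAo, rfl⟩ h
      obtain ⟨u, hu, hu0⟩ := Finset.mem_image.1 h
      rw [← h0] at hu0
      have hu' : some 0 ∈ o := ρ.injective hu0 ▸ (Finset.mem_sdiff.1 hu).1
      rw [image_sdiff_union hfix1 hAo]
      exact hP o ho (A2_subset.2 ⟨hu', A1_subset.1 hAo⟩))
    (by
      intro o ho hAo
      obtain ⟨o', ho', hAo', rfl⟩ := surj_of_P hfix2 hP o ho hAo
      refine ⟨o', ho', A1_subset.2 (A2_subset.1 hAo').2, ?_⟩
      rw [Finset.image_sdiff _ _ ρ.injective, image_fix hfix1])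
    (by
      rintro _ ⟨o, ho, hAo, rfl⟩ _ ⟨o', ho', hAo', rfl⟩
      rw [← Finset.image_inter _ _ ρ.injective, Finset.card_image_of_injective _ ρ.injective]
      have e : (o \ A1) ∩ (o' \ A1) = (o ∩ o') \ A1 := by
        ext z
        simp only [Finset.mem_inter, Finset.mem_sdiff]
        tauto
      rw [e, Finset.card_sdiff_of_subset (Finset.subset_inter hAo hAo'), card_A1]
      have h1 := octads_inter_even ho ho'
      have h2 : 0 < (o ∩ o').card :=
        Finset.card_pos.2 ⟨none, Finset.mem_inter.2 ⟨A1_subset.1 hAo, A1_subset.1 hAo'⟩⟩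
      omega)
  have hμ : ρ₂ * ρ ∈ M24 := by
    apply mem_M24_of_P1
    · rw [Perm.mul_apply, hn]
      exact hρ₂fix none (Finset.mem_insert_of_mem (mem_A1.2 rfl))
    · intro o ho hAo
      have h1 := hρ₂B _ ⟨o, ho, hAo, rfl⟩
      have hfix1' : ∀ y ∈ A1, ρ₂ y = y := fun y hy => hρ₂fix y (Finset.mem_insert_of_mem hy)
      have e : ((o \ A1).image ρ).image ρ₂ ∪ A1 = o.image (ρ₂ * ρ) := by
        have e1 : ((o \ A1).image ρ).image ρ₂ ∪ A1 = ((o \ A1).image ρ ∪ A1).image ρ₂ := by
          rw [Finset.image_union, image_fix hfix1']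
        rw [e1, image_sdiff_union hfix1 hAo, Finset.image_image]
        rfl
      rwa [e] at h1
  rcases hρ₂ with rfl | ⟨c, hc, τ, hτ, hτc, hτa, -, rfl⟩
  · left
    simpa using hμ
  · right
    rw [mem_A1] at hc
    subst hc
    exact ⟨τ, hτ, hτc, hτa, hμ⟩

theorem swap_not_mem : swap (none : GolayPt) (some 0) ∉ M24 := by
  intro h
  have ho : dec 13938692 ∈ octads := dec_mem_octads (by decide +kernel)
  have ho' := image_mem_octads h ho
  have hn : (none : GolayPt) ∈ dec 13938692 := by rw [mem_dec]; decide +kernel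
  have h0 : (some 0 : GolayPt) ∉ dec 13938692 := by rw [mem_dec]; decide +kernel
  have hsub : (dec 13938692).erase none ⊆
      dec 13938692 ∩ (dec 13938692).image (swap (none : GolayPt) (some 0)) := by
    intro z hz
    obtain ⟨hz1, hz2⟩ := Finset.mem_erase.1 hz
    refine Finset.mem_inter.2 ⟨hz2, Finset.mem_image.2 ⟨z, hz2, ?_⟩⟩
    exact swap_apply_of_ne_of_ne hz1 (fun e => h0 (e ▸ hz2))
  have h5 : 5 ≤ (dec 13938692 ∩ (dec 13938692).image (swap (none : GolayPt) (some 0))).card := by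
    have h1 := Finset.card_le_card hsub
    rw [Finset.card_erase_of_mem hn, octads_card ho] at h1
    omega
  have h6 := octads_eq_of_inter ho ho' h5
  have h7 : (some 0 : GolayPt) ∈ (dec 13938692).image (swap (none : GolayPt) (some 0)) :=
    Finset.mem_image.2 ⟨none, hn, swap_apply_left _ _⟩
  rw [← h6] at h7
  exact h0 h7

theorem restrict_of_P {A : Finset GolayPt} {g : Perm GolayPt} (hfix : ∀ y ∈ A, g y = y)
    (hP : ∀ o ∈ octads, A ⊆ o → o.image g ∈ octads) :
    ∃ ρ' ∈ setSystemAut (WS A), Perm.ofSubtype ρ' = g := by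
  have h1 : ∀ x, g x ∉ A ↔ x ∉ A := by
    intro x
    rw [not_iff_not]
    constructor
    · intro h
      have := hfix _ h
      rwa [← g.injective this]
    · intro h
      rwa [hfix x h]
  have h2 : Perm.ofSubtype (p := fun x => x ∉ A) (g.subtypePerm h1) = g :=
    Perm.ofSubtype_subtypePerm (p := fun x => x ∉ A) h1 (fun x hx hxA => hx (hfix x hxA))
  refine ⟨g.subtypePerm h1, aut_of_P ?_, h2⟩
  rw [h2]
  exact hP

/-- automorphisms induced by elements of the group of the code fixing both points -/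
def H0 : Subgroup (setSystemAut (WS A2)) :=
  (M24.comap Perm.ofSubtype).subgroupOf (setSystemAut (WS A2))

theorem mem_H0 {b : setSystemAut (WS A2)} :
    b ∈ H0 ↔ Perm.ofSubtype (b : Perm {x : GolayPt // x ∉ A2}) ∈ M24 := Iff.rfl

theorem swap_image {o : Finset GolayPt} {c a : GolayPt} (hc : c ∈ o) (ha : a ∈ o) :
    o.image (swap c a) = o := by
  apply Finset.eq_of_subset_of_card_le
  · intro z hz
    obtain ⟨u, hu, rfl⟩ := Finset.mem_image.1 hz
    by_cases h1 : u = c
    · rw [h1, swap_apply_left]; exact ha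
    · by_cases h2 : u = a
      · rw [h2, swap_apply_right]; exact hc
      · rw [swap_apply_of_ne_of_ne h1 h2]; exact hu
  · rw [Finset.card_image_of_injective _ (swap c a).injective]

theorem index_H0 : H0.index = 2 := by
  obtain ⟨τ₀, hτ₀, hτ₀n, hτ₀0, -⟩ := H2_1 none (mem_A1.2 rfl)
  have hs : ∀ τ : Perm GolayPt, τ none = some 0 → τ (some 0) = none →
      τ * swap (none : GolayPt) (some 0) = swap (none : GolayPt) (some 0) * τ := by
    intro τ h1 h2
    rw [mul_swap_eq_swap_mul, h1, h2, swap_comm]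
  have hs' : ∀ ρ : Perm GolayPt, ρ none = none → ρ (some 0) = some 0 →
      ρ * swap (none : GolayPt) (some 0) = swap (none : GolayPt) (some 0) * ρ := by
    intro τ h1 h2
    rw [mul_swap_eq_swap_mul, h1, h2]
  have hσfix : ∀ y ∈ A2, (swap (none : GolayPt) (some 0) * τ₀) y = y := by
    intro y hy
    rw [Perm.mul_apply]
    rcases mem_A2.1 hy with rfl | rfl
    · rw [hτ₀0, swap_apply_left]
    · rw [hτ₀n, swap_apply_right]
  have hσP : ∀ o ∈ octads, A2 ⊆ o → o.image (swap (none : GolayPt) (some 0) * τ₀) ∈ octads := by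
    intro o ho hAo
    have h1 := image_mem_octads hτ₀ ho
    obtain ⟨h2, h3⟩ := A2_subset.1 hAo
    have e : o.image (swap (none : GolayPt) (some 0) * τ₀) = (o.image τ₀).image (swap (none : GolayPt) (some 0)) := by
      rw [Finset.image_image]; rfl
    rw [e, swap_image (hτ₀0 ▸ Finset.mem_image_of_mem _ h2) (hτ₀n ▸ Finset.mem_image_of_mem _ h3)]
    exact h1
  have hσM : swap (none : GolayPt) (some 0) * τ₀ ∉ M24 := by
    intro h
    apply swap_not_mem
    have := M24.mul_mem h (M24.inv_mem hτ₀)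
    rwa [mul_inv_cancel_right] at this
  obtain ⟨σ', hσ', hσe⟩ := restrict_of_P hσfix hσP
  rw [Subgroup.index_eq_two_iff]
  refine ⟨⟨σ', hσ'⟩, fun b => ?_⟩
  have hbn : Perm.ofSubtype (b : Perm {x : GolayPt // x ∉ A2}) none = none :=
    ofSubtype_fix _ none (mem_A2.2 (Or.inr rfl))
  have hb0 : Perm.ofSubtype (b : Perm {x : GolayPt // x ∉ A2}) (some 0) = some 0 :=
    ofSubtype_fix _ (some 0) (mem_A2.2 (Or.inl rfl))
  have hmul : (b * ⟨σ', hσ'⟩ ∈ H0) ↔
      Perm.ofSubtype (b : Perm {x : GolayPt // x ∉ A2}) * (swap (none : GolayPt) (some 0) * τ₀) ∈ M24 := by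
    rw [mem_H0, ← hσe, ← map_mul]
    rfl
  rw [hmul, mem_H0]
  rcases dichotomy hbn hb0 (P_of_aut b.2) with h | ⟨τ, hτ, hτn, hτ0, h⟩
  · right
    refine ⟨h, fun h' => hσM ?_⟩
    have := M24.mul_mem (M24.inv_mem h) h'
    rwa [inv_mul_cancel_left] at this
  · have h1 : Perm.ofSubtype (b : Perm {x : GolayPt // x ∉ A2}) * (swap (none : GolayPt) (some 0) * τ₀) ∈
        M24 := by
      have e : Perm.ofSubtype (b : Perm {x : GolayPt // x ∉ A2}) * (swap (none : GolayPt) (some 0) * τ₀) =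
          τ⁻¹ * (swap (none : GolayPt) (some 0) * τ * Perm.ofSubtype (b : Perm {x : GolayPt // x ∉ A2})) *
            τ₀ := by
        rw [← mul_assoc, hs' _ hbn hb0, ← hs τ hτn hτ0]
        group
      rw [e]
      exact M24.mul_mem (M24.mul_mem (M24.inv_mem hτ) h) hτ₀
    left
    refine ⟨h1, fun h' => hσM ?_⟩
    have := M24.mul_mem (M24.inv_mem h') h1
    rwa [inv_mul_cancel_left] at this

theorem map_eq_A2 : H0.map (Perm.ofSubtype.comp (setSystemAut (WS A2)).subtype) =
    (MulAction.stabilizer M24 (none : GolayPt) ⊓ MulAction.stabilizer M24 (some 0 : GolayPt)).map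
      M24.subtype := by
  ext ρ
  simp only [Subgroup.mem_map]
  constructor
  · rintro ⟨ρ', hρ', rfl⟩
    exact ⟨⟨_, mem_H0.1 hρ'⟩, ⟨ofSubtype_fix _ none (mem_A2.2 (Or.inr rfl)),
      ofSubtype_fix _ (some 0) (mem_A2.2 (Or.inl rfl))⟩, rfl⟩
  · rintro ⟨g, ⟨hg1, hg2⟩, rfl⟩
    obtain ⟨ρ', hρ', he⟩ := restrict_of_fix (A := A2) g.2 (by
      intro y hy
      rcases mem_A2.1 hy with rfl | rfl
      · exact hg2
      · exact hg1)
    refine ⟨⟨ρ', hρ'⟩, ?_, he⟩
    rw [mem_H0]
    show Perm.ofSubtype ρ' ∈ M24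
    rw [he]
    exact g.2

theorem isM22_H0 : IsM22 H0 := by
  obtain ⟨Θ, -⟩ := equiv_of_map_eq H0 _ (Perm.ofSubtype.comp (setSystemAut (WS A2)).subtype) _
    (by
      rw [MonoidHom.coe_comp]
      exact Perm.ofSubtype_injective.comp (Subgroup.subtype_injective _))
    M24.subtype_injective map_eq_A2
  constructor
  · have := Cfsg.Agent.S0379.result none (some 0) (by decide)
    exact Θ.isSimpleGroup
  · rw [Nat.card_congr Θ.toEquiv, Cfsg.Agent.S0378.result none (some 0) (by decide)]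

theorem card_autW2 : Nat.card (setSystemAut (WS A2)) = 887040 := by
  rw [← H0.card_mul_index, index_H0, isM22_H0.2]

theorem trans3 : MulAction.IsMultiplyPretransitive (setSystemAut (WS A2))
    {x : GolayPt // x ∉ A2} 3 := by
  have h5 := Cfsg.Agent.S0366.result
  have hs : ({none, some 0} : Set GolayPt).ncard = 2 := Set.ncard_pair (by decide)
  have h3 : MulAction.IsMultiplyPretransitive (fixingSubgroup M24 ({none, some 0} : Set GolayPt))
      (SubMulAction.ofFixingSubgroup M24 ({none, some 0} : Set GolayPt)) 3 :=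
    SubMulAction.ofFixingSubgroup.isMultiplyPretransitive M24 ({none, some 0} : Set GolayPt)
      (by rw [hs])
  have hmem : ∀ x : SubMulAction.ofFixingSubgroup M24 ({none, some 0} : Set GolayPt),
      (x : GolayPt) ∉ A2 := by
    intro x hx
    apply (SubMulAction.mem_ofFixingSubgroup_iff M24).1 x.2
    rcases mem_A2.1 hx with h | h <;> simp [h]
  have hres : ∀ g : fixingSubgroup M24 ({none, some 0} : Set GolayPt),
      ∃ ρ' : setSystemAut (WS A2), Perm.ofSubtype (ρ' : Perm {x : GolayPt // x ∉ A2}) =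
        ((g : M24) : Perm GolayPt) := by
    intro g
    obtain ⟨ρ', hρ', he⟩ := restrict_of_fix (A := A2) (g : M24).2 (by
      intro y hy
      apply (mem_fixingSubgroup_iff M24).1 g.2 y
      rcases mem_A2.1 hy with h | h <;> simp [h])
    exact ⟨⟨ρ', hρ'⟩, he⟩
  choose σ hσ using hres
  apply Helper10Aut.mpt_transport 3 (fun x => (⟨x.1, hmem x⟩ : {x : GolayPt // x ∉ A2})) ?_ σ ?_ h3
  · rintro ⟨z, hz⟩
    refine ⟨⟨z, ?_⟩, rfl⟩
    rw [SubMulAction.mem_ofFixingSubgroup_iff]
    intro h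
    apply hz
    rw [mem_A2]
    rcases h with h | h
    · exact Or.inr h
    · exact Or.inl h
  · intro g x
    apply Subtype.ext
    show (((σ g : Perm {x : GolayPt // x ∉ A2}) ⟨x.1, hmem x⟩ : {x : GolayPt // x ∉ A2}) : GolayPt)
      = ((g : M24) : Perm GolayPt) x.1
    rw [← hσ g, ← Perm.ofSubtype_apply_coe]

end Cfsg.Agent.Lib.Helper10AutW2
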