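import Cfsg.Agent.Lib.Helper33Golay

/-!
# Sets orthogonal to all octads through a small set (helper10)
-/

set_option autoImplicit false

namespace Cfsg.Agent.Lib.Helper10ExtChk

open Cfsg Finset Cfsg.Agent.Lib.Helper33Golay

def parChk (OL : List ℕ) (par : ℕ) (XL : List ℕ) : Bool :=
  (List.range 4096).all fun s =>
    !(OL.all fun o => Nat.beq (Nat.mod (pop (Nat.land (Nat.shiftLeft s 12) o)) 2) par) ||
      XL.any fun x => isCode (Nat.xor (Nat.shiftLeft s 12) x)

theorem encode_mod' (m : ℕ) : encode m % 4096 = m % 4096 := by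
  rw [← encode_mod, encode_low (Nat.mod_lt _ (by norm_num))]

theorem high_part (m : ℕ) (hm : m < 2 ^ 24) :
    ∃ s < 4096, m ^^^ encode m = s <<< 12 := by
  have h0 : (m ^^^ encode m) % 2 ^ 12 = 0 := by
    rw [Nat.xor_mod_two_pow]
    have := encode_mod' m
    norm_num at this ⊢
    rw [this]
  have hlt : m ^^^ encode m < 2 ^ 24 := Nat.xor_lt_two_pow hm (encode_lt m)
  refine ⟨(m ^^^ encode m) / 2 ^ 12, ?_, ?_⟩
  · apply Nat.div_lt_of_lt_mul
    norm_num at hlt ⊢
    exact hlt
  · rw [Nat.shiftLeft_eq, Nat.div_mul_cancel (Nat.dvd_of_mod_eq_zero h0)]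

theorem pop_and_even {c o : ℕ} (hc : isCode c = true) (ho : isCode o = true) :
    pop (c &&& o) % 2 = 0 := by
  have h1 := pop_xor_add c o
  have h2 := isCode_weights hc
  have h3 := isCode_weights ho
  have h4 := isCode_weights (isCode_xor hc ho)
  omega

theorem H1_of_chk (mA : ℕ) (j : ℕ) (hj : j ≤ 2) (OL XL : List ℕ) (hmA : mA < 2 ^ 24)
    (hOL : ∀ o ∈ OL, o ∈ octL ∧ mA &&& o = mA)
    (hXL : ∀ x ∈ XL, x &&& mA = x ∧ pop x ≤ 3)
    (hchk : parChk OL (j % 2) XL = true) :
    ∀ b : Finset GolayPt, Disjoint b (dec mA) → b.card = 8 - j →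
      (∀ o ∈ octads, dec mA ⊆ o → (b ∩ o).card % 2 = j % 2) →
      ∃ x ⊆ dec mA, x.card = j ∧ b ∪ x ∈ octads := by
  intro b hbA hbc hpar
  obtain ⟨s, hs, hsm⟩ := high_part (enc b) (enc_lt b)
  have hm : enc b = encode (enc b) ^^^ (s <<< 12) := by
    rw [← hsm, Nat.xor_comm (enc b), ← Nat.xor_assoc, Nat.xor_self, Nat.zero_xor]
  have h1 : ∀ o ∈ OL, pop ((s <<< 12) &&& o) % 2 = j % 2 := by
    intro o ho
    obtain ⟨ho1, ho2⟩ := hOL o ho
    have h2 := hpar (dec o) (dec_mem_octads ho1) ((dec_subset_iff hmA).2 ho2)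
    rw [card_eq_pop, enc_inter, enc_dec (octL_lt ho1), hm, Nat.and_xor_distrib_right] at h2
    have h3 := pop_xor_add (encode (enc b) &&& o) ((s <<< 12) &&& o)
    have h4 := pop_and_even (isCode_encode (enc b)) (mem_octL.1 ho1).1
    omega
  have h2 := List.all_eq_true.1 hchk s (List.mem_range.2 hs)
  rw [Bool.or_eq_true] at h2
  rcases h2 with h2 | h2
  · exfalso
    rw [Bool.not_eq_true'] at h2
    have h3 : (OL.all fun o => Nat.beq (Nat.mod (pop (Nat.land (Nat.shiftLeft s 12) o)) 2)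
        (j % 2)) = true := by
      rw [List.all_eq_true]
      intro o ho
      show Nat.beq (pop ((s <<< 12) &&& o) % 2) (j % 2) = true
      exact Nat.beq_eq.symm ▸ h1 o ho
    rw [h3] at h2
    exact Bool.noConfusion h2
  · obtain ⟨x, hx, hxc⟩ := List.any_eq_true.1 h2
    obtain ⟨hx1, hx2⟩ := hXL x hx
    have hxlt : x < 2 ^ 24 := lt_of_le_of_lt (hx1 ▸ Nat.and_le_right) hmA
    have hcode : isCode (enc b ^^^ x) = true := by
      have := isCode_xor (isCode_encode (enc b)) hxc
      rw [show Nat.xor (Nat.shiftLeft s 12) x = (s <<< 12) ^^^ x from rfl, ← Nat.xor_assoc,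
        ← hm] at this
      exact this
    have hxA : dec x ⊆ dec mA := (dec_subset_iff hxlt).2 hx1
    have hd : Disjoint b (dec x) := Finset.disjoint_of_subset_right hxA hbA
    have hu : b ∪ dec x = symmDiff b (dec x) := hd.symmDiff_eq_sup.symm
    have henc : enc (b ∪ dec x) = enc b ^^^ x := by
      rw [hu, enc_symmDiff, enc_dec hxlt]
    have hcard : (b ∪ dec x).card = 8 - j + pop x := by
      rw [Finset.card_union_of_disjoint hd, hbc, card_dec]
    have hw := isCode_weights hcode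
    rw [← henc, ← card_eq_pop, hcard] at hw
    have hpx : pop x = j := by omega
    refine ⟨dec x, hxA, by rw [card_dec, hpx], ?_⟩
    rw [mem_octads_iff, mem_octL, henc]
    refine ⟨hcode, ?_⟩
    rw [← henc, ← card_eq_pop, hcard]
    omega

end Cfsg.Agent.Lib.Helper10ExtChk
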