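import Cfsg.Prelude.Def_Sporadic_a

set_option autoImplicit false
set_option linter.unusedVariables false

namespace Cfsg.Agent.Lib.Helper8Steiner

open Cfsg Finset

variable {α : Type*} [Fintype α] [DecidableEq α]

open Classical in
/-- number of blocks containing `I` and disjoint from `O`. -/
noncomputable def mu (B : Set (Finset α)) (I O : Finset α) : ℕ :=
  (univ.filter (fun c : Finset α => c ∈ B ∧ I ⊆ c ∧ Disjoint c O)).card

open Classical in
/-- number of blocks containing `I`. -/
noncomputable def nb (B : Set (Finset α)) (I : Finset α) : ℕ :=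
  (univ.filter (fun c : Finset α => c ∈ B ∧ I ⊆ c)).card

theorem mu_empty (B : Set (Finset α)) (I : Finset α) : mu B I ∅ = nb B I := by
  unfold mu nb
  congr 1
  ext c
  simp only [mem_filter, mem_univ, true_and, Finset.disjoint_empty_right, and_true]

open Classical in
theorem mu_split (B : Set (Finset α)) (I O : Finset α) (x : α) :
    mu B I O = mu B (insert x I) O + mu B I (insert x O) := by
  unfold mu
  rw [← Finset.card_filter_add_card_filter_not (s := univ.filter (fun c : Finset α => c ∈ B ∧ I ⊆ c ∧ Disjoint c O)) (fun c => x ∈ c)]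
  congr 2
  · ext c
    simp only [mem_filter, mem_univ, true_and, insert_subset_iff]
    tauto
  · ext c
    simp only [mem_filter, mem_univ, true_and, disjoint_insert_right]
    tauto

open Classical in
theorem nb_step {t k : ℕ} {B : Set (Finset α)} (hB : IsSteinerSystem t k B) (I : Finset α) :
    nb B I * (k - I.card) = ∑ x ∈ Iᶜ, nb B (insert x I) := by
  have h := Finset.sum_card_bipartiteAbove_eq_sum_card_bipartiteBelow
    (s := Iᶜ) (t := univ.filter (fun c : Finset α => c ∈ B ∧ I ⊆ c)) (fun x c => x ∈ c)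
  have h1 : ∀ x ∈ Iᶜ, ((univ.filter (fun c : Finset α => c ∈ B ∧ I ⊆ c)).bipartiteAbove
      (fun x c => x ∈ c) x).card = nb B (insert x I) := by
    intro x _
    unfold nb Finset.bipartiteAbove
    congr 1
    ext c
    simp only [mem_filter, mem_univ, true_and, insert_subset_iff]
    tauto
  have h2 : ∀ c ∈ univ.filter (fun c : Finset α => c ∈ B ∧ I ⊆ c),
      ((Iᶜ).bipartiteBelow (fun x c => x ∈ c) c).card = k - I.card := by
    intro c hc
    simp only [mem_filter, mem_univ, true_and] at hc
    have e : (Iᶜ).bipartiteBelow (fun x c => x ∈ c) c = c \ I := by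
      unfold Finset.bipartiteBelow
      ext x
      simp only [mem_filter, mem_compl, mem_sdiff]
      tauto
    rw [e, Finset.card_sdiff_of_subset hc.2, hB.1 c hc.1]
  rw [Finset.sum_congr rfl h1, Finset.sum_congr rfl h2, Finset.sum_const, smul_eq_mul] at h
  exact h.symm

theorem nb_step_const {t k : ℕ} {B : Set (Finset α)} (hB : IsSteinerSystem t k B) {i a : ℕ}
    (h : ∀ I : Finset α, I.card = i + 1 → nb B I = a) (I : Finset α) (hI : I.card = i) :
    nb B I * (k - i) = (Fintype.card α - i) * a := by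
  have h1 := nb_step hB I
  rw [hI] at h1
  rw [h1, Finset.sum_congr rfl (fun x hx => h (insert x I) (by
    rw [Finset.card_insert_of_notMem (Finset.mem_compl.1 hx), hI])), Finset.sum_const,
    smul_eq_mul, Finset.card_compl, hI]

open Classical in
theorem nb_eq_one {t k : ℕ} {B : Set (Finset α)} (hB : IsSteinerSystem t k B) {b : Finset α}
    (hb : b ∈ B) {I : Finset α} (hI : I ⊆ b) (ht : t ≤ I.card) : nb B I = 1 := by
  unfold nb
  rw [Finset.card_eq_one]
  refine ⟨b, ?_⟩
  ext c
  simp only [mem_filter, mem_univ, true_and, mem_singleton]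
  constructor
  · rintro ⟨hc, hIc⟩
    obtain ⟨s, hs, hst⟩ := Finset.exists_subset_card_eq ht
    obtain ⟨d, _, hd⟩ := hB.2 s hst
    rw [hd c ⟨hc, hs.trans hIc⟩, hd b ⟨hb, hs.trans hI⟩]
  · rintro rfl
    exact ⟨hb, hI⟩

open Classical in
theorem nb_eq_one' {t k : ℕ} {B : Set (Finset α)} (hB : IsSteinerSystem t k B)
    {I : Finset α} (ht : I.card = t) : nb B I = 1 := by
  obtain ⟨d, hd, _⟩ := hB.2 I ht
  exact nb_eq_one hB hd.1 hd.2 ht.ge

/-- the Pascal-type triangle of intersection numbers -/
def tri (lam : ℕ → ℤ) : ℕ → ℕ → ℤ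
  | i, 0 => lam i
  | i, o + 1 => tri lam i o - tri lam (i + 1) o

theorem mu_eq_tri {B : Set (Finset α)} {b : Finset α} (lam : ℕ → ℤ)
    (hlam : ∀ I : Finset α, I ⊆ b → (nb B I : ℤ) = lam I.card) :
    ∀ (o : ℕ) (I O : Finset α), I ⊆ b → O ⊆ b → Disjoint I O → O.card = o →
      (mu B I O : ℤ) = tri lam I.card o
  | 0, I, O, hI, hO, hd, ho => by
    rw [Finset.card_eq_zero] at ho
    subst ho
    rw [mu_empty, hlam I hI]
    rfl
  | o + 1, I, O, hI, hO, hd, ho => by
    obtain ⟨x, O', hx, rfl, hO'⟩ := Finset.card_eq_succ.1 ho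
    have hxb : x ∈ b := hO (Finset.mem_insert_self x O')
    have hO'b : O' ⊆ b := (Finset.subset_insert x O').trans hO
    rw [Finset.disjoint_insert_right] at hd
    have hxI : x ∉ I := hd.1
    have h1 := mu_split B I O' x
    have h2 := mu_eq_tri lam hlam o I O' hI hO'b hd.2 hO'
    have h3 := mu_eq_tri lam hlam o (insert x I) O' (Finset.insert_subset hxb hI) hO'b
      (Finset.disjoint_insert_left.2 ⟨hx, hd.2⟩) hO'
    rw [Finset.card_insert_of_notMem hxI] at h3
    show (mu B I (insert x O') : ℤ) = tri lam I.card o - tri lam (I.card + 1) o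
    rw [← h2, ← h3, h1]
    push_cast
    ring

open Classical in
/-- a block `c` is counted by `mu B (b ∩ c) (b \ c)`. -/
theorem mu_pos_of_mem {B : Set (Finset α)} {b c : Finset α} (hc : c ∈ B) :
    0 < mu B (b ∩ c) (b \ c) := by
  unfold mu
  rw [Finset.card_pos]
  refine ⟨c, ?_⟩
  simp only [mem_filter, mem_univ, true_and]
  exact ⟨hc, Finset.inter_subset_right, Finset.disjoint_sdiff⟩

/-- if the triangle entry vanishes, no block meets `b` in `j` points. -/
theorem inter_card_ne {B : Set (Finset α)} {b c : Finset α} (lam : ℕ → ℤ)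
    (hlam : ∀ I : Finset α, I ⊆ b → (nb B I : ℤ) = lam I.card) (hc : c ∈ B)
    {j : ℕ} (hj : tri lam j (b.card - j) = 0) : (b ∩ c).card ≠ j := by
  intro h
  have h1 := mu_eq_tri lam hlam _ (b ∩ c) (b \ c) Finset.inter_subset_left Finset.sdiff_subset
    (Finset.disjoint_left.2 (fun x hx hx' => (Finset.mem_sdiff.1 hx').2 (Finset.mem_inter.1 hx).2))
    rfl
  have h2 : (b \ c).card = b.card - j := by
    rw [← h, ← Finset.card_sdiff_add_card_inter b c]
    omega
  rw [h2, h, hj] at h1
  have := mu_pos_of_mem (B := B) (b := b) hc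
  omega

/-! ### concrete parameters -/

/-- the numbers of blocks through `i` points of a block in `S(5,8,24)` -/
def lam24 : ℕ → ℤ
  | 0 => 759 | 1 => 253 | 2 => 77 | 3 => 21 | 4 => 5 | _ => 1

/-- the numbers of blocks through `i` points of a block in `S(4,7,23)` -/
def lam23 : ℕ → ℤ
  | 0 => 253 | 1 => 77 | 2 => 21 | 3 => 5 | _ => 1

/-- the numbers of blocks through `i` points of a block in `S(3,6,22)` -/
def lam22 : ℕ → ℤ
  | 0 => 77 | 1 => 21 | 2 => 5 | _ => 1

section S24
variable (hα : Fintype.card α = 24) {B : Set (Finset α)} (hB : IsSteinerSystem 5 8 B)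
include hα hB

theorem nb24_4 (I : Finset α) (hI : I.card = 4) : nb B I = 5 := by
  have := nb_step_const hB (fun I hI => nb_eq_one' hB hI) I hI
  rw [hα] at this; omega

theorem nb24_3 (I : Finset α) (hI : I.card = 3) : nb B I = 21 := by
  have := nb_step_const hB (nb24_4 hα hB) I hI
  rw [hα] at this; omega

theorem nb24_2 (I : Finset α) (hI : I.card = 2) : nb B I = 77 := by
  have := nb_step_const hB (nb24_3 hα hB) I hI
  rw [hα] at this; omega

theorem nb24_1 (I : Finset α) (hI : I.card = 1) : nb B I = 253 := by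
  have := nb_step_const hB (nb24_2 hα hB) I hI
  rw [hα] at this; omega

theorem nb24_0 (I : Finset α) (hI : I.card = 0) : nb B I = 759 := by
  have := nb_step_const hB (nb24_1 hα hB) I hI
  rw [hα] at this; omega

theorem hlam24 {b : Finset α} (hb : b ∈ B) (I : Finset α) (hI : I ⊆ b) :
    (nb B I : ℤ) = lam24 I.card := by
  rcases Nat.lt_or_ge I.card 5 with h | h
  · interval_cases hc : I.card
    · rw [nb24_0 hα hB I hc]; rfl
    · rw [nb24_1 hα hB I hc]; rfl
    · rw [nb24_2 hα hB I hc]; rfl
    · rw [nb24_3 hα hB I hc]; rfl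
    · rw [nb24_4 hα hB I hc]; rfl
  · rw [nb_eq_one hB hb hI h]
    obtain ⟨m, hm⟩ := Nat.exists_eq_add_of_le h
    rw [hm, add_comm]
    rfl

end S24

section S23
variable (hα : Fintype.card α = 23) {B : Set (Finset α)} (hB : IsSteinerSystem 4 7 B)
include hα hB

theorem nb23_3 (I : Finset α) (hI : I.card = 3) : nb B I = 5 := by
  have := nb_step_const hB (fun I hI => nb_eq_one' hB hI) I hI
  rw [hα] at this; omega

theorem nb23_2 (I : Finset α) (hI : I.card = 2) : nb B I = 21 := by
  have := nb_step_const hB (nb23_3 hα hB) I hI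
  rw [hα] at this; omega

theorem nb23_1 (I : Finset α) (hI : I.card = 1) : nb B I = 77 := by
  have := nb_step_const hB (nb23_2 hα hB) I hI
  rw [hα] at this; omega

theorem nb23_0 (I : Finset α) (hI : I.card = 0) : nb B I = 253 := by
  have := nb_step_const hB (nb23_1 hα hB) I hI
  rw [hα] at this; omega

theorem hlam23 {b : Finset α} (hb : b ∈ B) (I : Finset α) (hI : I ⊆ b) :
    (nb B I : ℤ) = lam23 I.card := by
  rcases Nat.lt_or_ge I.card 4 with h | h
  · interval_cases hc : I.card
    · rw [nb23_0 hα hB I hc]; rfl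
    · rw [nb23_1 hα hB I hc]; rfl
    · rw [nb23_2 hα hB I hc]; rfl
    · rw [nb23_3 hα hB I hc]; rfl
  · rw [nb_eq_one hB hb hI h]
    obtain ⟨m, hm⟩ := Nat.exists_eq_add_of_le h
    rw [hm, add_comm]
    rfl

end S23

section S22
variable (hα : Fintype.card α = 22) {B : Set (Finset α)} (hB : IsSteinerSystem 3 6 B)
include hα hB

theorem nb22_2 (I : Finset α) (hI : I.card = 2) : nb B I = 5 := by
  have := nb_step_const hB (fun I hI => nb_eq_one' hB hI) I hI
  rw [hα] at this; omega

theorem nb22_1 (I : Finset α) (hI : I.card = 1) : nb B I = 21 := by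
  have := nb_step_const hB (nb22_2 hα hB) I hI
  rw [hα] at this; omega

theorem nb22_0 (I : Finset α) (hI : I.card = 0) : nb B I = 77 := by
  have := nb_step_const hB (nb22_1 hα hB) I hI
  rw [hα] at this; omega

theorem hlam22 {b : Finset α} (hb : b ∈ B) (I : Finset α) (hI : I ⊆ b) :
    (nb B I : ℤ) = lam22 I.card := by
  rcases Nat.lt_or_ge I.card 3 with h | h
  · interval_cases hc : I.card
    · rw [nb22_0 hα hB I hc]; rfl
    · rw [nb22_1 hα hB I hc]; rfl
    · rw [nb22_2 hα hB I hc]; rfl
  · rw [nb_eq_one hB hb hI h]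
    obtain ⟨m, hm⟩ := Nat.exists_eq_add_of_le h
    rw [hm, add_comm]
    rfl

end S22

/-- two distinct sets of the same size meet in fewer points. -/
theorem inter_card_lt {b c : Finset α} {k : ℕ} (hb : b.card = k) (hc : c.card = k) (hbc : b ≠ c) :
    (b ∩ c).card < k := by
  by_contra h
  push Not at h
  have h1 : b ∩ c = b := Finset.eq_of_subset_of_card_le Finset.inter_subset_left (by omega)
  have h2 : b ∩ c = c := Finset.eq_of_subset_of_card_le Finset.inter_subset_right (by omega)
  exact hbc (h1.symm.trans h2)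

end Cfsg.Agent.Lib.Helper8Steiner
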