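import Cfsg.Prelude.Def_Sporadic_a
import Cfsg.Agent.Lib.Helper8Steiner

set_option autoImplicit false

namespace Cfsg.Agent.Lib.Helper10Plane

open Cfsg Finset Equiv
open Cfsg.Agent.Lib.Helper8Steiner

/-! ### permutations of four letters -/

def isV (v : Perm (Fin 4)) : Prop := v * v = 1 ∧ Perm.sign v = 1
instance isV_dec : DecidablePred isV := fun v => by unfold isV; infer_instance

set_option synthInstance.maxSize 2000 in
set_option synthInstance.maxHeartbeats 0 in
theorem D4 : ∀ s s' : Perm (Fin 4), Perm.sign s = 1 → Perm.sign s' = 1 → s 0 = s' 0 →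
    s 1 = s' 1 → s = s' := by decide +kernel

set_option synthInstance.maxSize 2000 in
set_option synthInstance.maxHeartbeats 0 in
theorem D2 : ∀ v s : Perm (Fin 4), isV v → v ≠ 1 → s 0 = v 0 → s (v 0) = 0 →
    s = v ∨ ∃ i i' : Fin 4, i ≠ i' ∧ s i = i ∧ s i' = i' := by decide +kernel

theorem D2' : ∀ v : Perm (Fin 4), isV v → v ≠ 1 → v 0 ≠ 0 := by decide +kernel

theorem D3 : ∀ s : Perm (Fin 4), Perm.sign s ≠ 1 →
    ∃ v, isV v ∧ ∃ i i' : Fin 4, i ≠ i' ∧ s i = v i ∧ s i' = v i' := by decide +kernel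

/-- a sharply 2-transitive set of permutations of four letters containing `1` contains all
even permutations. -/
theorem S4_lemma (S : Set (Perm (Fin 4))) (h1 : 1 ∈ S)
    (hE : ∀ i i' j j' : Fin 4, i ≠ i' → j ≠ j' → ∃ s ∈ S, s i = j ∧ s i' = j')
    (hU : ∀ s ∈ S, ∀ s' ∈ S, ∀ i i' : Fin 4, i ≠ i' → s i = s' i → s i' = s' i' → s = s') :
    ∀ s : Perm (Fin 4), Perm.sign s = 1 → s ∈ S := by
  have hV : ∀ v, isV v → v ∈ S := by
    intro v hv
    by_cases hv1 : v = 1
    · rw [hv1]; exact h1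
    have h0 := D2' v hv hv1
    obtain ⟨s, hs, hs0, hs1⟩ := hE 0 (v 0) (v 0) 0 (Ne.symm h0) h0
    rcases D2 v s hv hv1 hs0 hs1 with rfl | ⟨i, i', hii, hi, hi'⟩
    · exact hs
    · have := hU s hs 1 h1 i i' hii (by simpa using hi) (by simpa using hi')
      rw [this] at hs0
      exact absurd hs0.symm (by simpa using h0)
  have hev : ∀ s ∈ S, Perm.sign s = 1 := by
    intro s hs
    by_contra hne
    obtain ⟨v, hv, i, i', hii, hi, hi'⟩ := D3 s hne
    have := hU s hs v (hV v hv) i i' hii hi hi'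
    rw [this] at hne
    exact hne hv.2
  intro s hs
  obtain ⟨s', hs', h0, h1'⟩ := hE 0 1 (s 0) (s 1) (by decide)
    (fun h => absurd (s.injective h) (by decide))
  rw [D4 s s' hs (hev s' hs') h0.symm h1'.symm]
  exact hs'

/-! ### basic facts on planes of order four -/

section basic
variable {α : Type*} [Fintype α] [DecidableEq α] {L : Set (Finset α)}

def lam21 : ℕ → ℤ
  | 0 => 21 | 1 => 5 | _ => 1

theorem K2 (hL : IsSteinerSystem 2 5 L) {l m : Finset α} (hl : l ∈ L) (hm : m ∈ L) {p q : α}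
    (hpq : p ≠ q) (hpl : p ∈ l) (hql : q ∈ l) (hpm : p ∈ m) (hqm : q ∈ m) : l = m := by
  obtain ⟨b, _, hb⟩ := hL.2 {p, q} (Finset.card_pair hpq)
  rw [hb l ⟨hl, by
    intro z hz
    rcases Finset.mem_insert.1 hz with rfl | hz
    · exact hpl
    · rw [Finset.mem_singleton.1 hz]; exact hql⟩, hb m ⟨hm, by
    intro z hz
    rcases Finset.mem_insert.1 hz with rfl | hz
    · exact hpm
    · rw [Finset.mem_singleton.1 hz]; exact hqm⟩]

theorem exists_line (hL : IsSteinerSystem 2 5 L) {p q : α} (hpq : p ≠ q) :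
    ∃ l ∈ L, p ∈ l ∧ q ∈ l := by
  obtain ⟨b, hb, _⟩ := hL.2 {p, q} (Finset.card_pair hpq)
  exact ⟨b, hb.1, hb.2 (by simp), hb.2 (by simp)⟩

theorem nb21_1 (hα : Fintype.card α = 21) (hL : IsSteinerSystem 2 5 L) (I : Finset α)
    (hI : I.card = 1) : nb L I = 5 := by
  have := nb_step_const hL (fun I hI => nb_eq_one' hL hI) I hI
  rw [hα] at this; omega

theorem nb21_0 (hα : Fintype.card α = 21) (hL : IsSteinerSystem 2 5 L) (I : Finset α)
    (hI : I.card = 0) : nb L I = 21 := by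
  have := nb_step_const hL (nb21_1 hα hL) I hI
  rw [hα] at this; omega

theorem hlam21 (hα : Fintype.card α = 21) (hL : IsSteinerSystem 2 5 L) {b : Finset α}
    (hb : b ∈ L) (I : Finset α) (hI : I ⊆ b) : (nb L I : ℤ) = lam21 I.card := by
  rcases Nat.lt_or_ge I.card 2 with h | h
  · interval_cases hc : I.card
    · rw [nb21_0 hα hL I hc]; rfl
    · rw [nb21_1 hα hL I hc]; rfl
  · rw [nb_eq_one hL hb hI h]
    obtain ⟨m, hm⟩ := Nat.exists_eq_add_of_le h
    rw [hm, add_comm]
    rfl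

theorem K1 (hα : Fintype.card α = 21) (hL : IsSteinerSystem 2 5 L) {l m : Finset α}
    (hl : l ∈ L) (hm : m ∈ L) : ∃ p, p ∈ l ∧ p ∈ m := by
  have h0 := inter_card_ne lam21 (hlam21 hα hL hl) hm (j := 0) (by rw [hL.1 l hl]; decide)
  obtain ⟨p, hp⟩ := Finset.card_pos.1 (Nat.pos_of_ne_zero h0)
  exact ⟨p, (Finset.mem_inter.1 hp).1, (Finset.mem_inter.1 hp).2⟩

end basic

/-! ### the model -/

abbrev M := (Fin 4 × Fin 4) ⊕ (Bool ⊕ Fin 3)
def aff (i j : Fin 4) : M := Sum.inl (i, j)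
def ptX : M := Sum.inr (Sum.inl false)
def ptY : M := Sum.inr (Sum.inl true)
def ptZ (k : Fin 3) : M := Sum.inr (Sum.inr k)

def tK : Fin 3 → Perm (Fin 4)
  | 0 => 1
  | 1 => swap 0 1 * swap 1 2
  | 2 => swap 1 2 * swap 0 1

def kap (k : Fin 3) (s : Perm (Fin 4)) : Prop :=
  Perm.sign s = 1 ∧ (s = tK k ∨ ∀ i, s i ≠ tK k i)
instance kap_dec (k : Fin 3) : DecidablePred (kap k) := fun s => by unfold kap; infer_instance

def linf : Finset M := insert ptX (insert ptY (univ.image ptZ))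
def rowM (i : Fin 4) : Finset M := insert ptX (univ.image (fun j => aff i j))
def colM (j : Fin 4) : Finset M := insert ptY (univ.image (fun i => aff i j))
def diagM (k : Fin 3) (s : Perm (Fin 4)) : Finset M :=
  insert (ptZ k) (univ.image (fun i => aff i (s i)))

def linesM : Set (Finset M) :=
  {l | l = linf ∨ (∃ i, l = rowM i) ∨ (∃ j, l = colM j) ∨ ∃ k s, kap k s ∧ l = diagM k s}

theorem tK_even : ∀ k, Perm.sign (tK k) = 1 := by decide +kernel

theorem tK_ne : ∀ k k', k ≠ k' → (∃ i, tK k i = tK k' i) ∧ ∃ i, tK k i ≠ tK k' i := by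
  decide +kernel

set_option synthInstance.maxSize 2000 in
set_option synthInstance.maxHeartbeats 0 in
theorem D7 : ∀ u v : M, u ≠ v → (u ∈ linf ∧ v ∈ linf) ∨ (∃ i, u ∈ rowM i ∧ v ∈ rowM i) ∨
    (∃ j, u ∈ colM j ∧ v ∈ colM j) ∨ ∃ k s, kap k s ∧ u ∈ diagM k s ∧ v ∈ diagM k s := by
  decide +kernel

/-! ### coordinatisation -/

section main
variable {α : Type*} [Fintype α] [DecidableEq α] {L : Set (Finset α)}

theorem main (hα : Fintype.card α = 21) (hL : IsSteinerSystem 2 5 L) :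
    ∃ φ : M → α, Function.Injective φ ∧ ∀ l ∈ linesM, l.image φ ∈ L := by
  have k2 : ∀ {l m : Finset α}, l ∈ L → m ∈ L → ∀ {p q : α}, p ≠ q → p ∈ l → q ∈ l →
      p ∈ m → q ∈ m → l = m := fun hl hm _ _ h => K2 hL hl hm h
  obtain ⟨p0, p1, hp01⟩ := Fintype.exists_pair_of_one_lt_card (α := α) (by omega)
  obtain ⟨li, hli, -, -⟩ := exists_line hL hp01
  obtain ⟨x, y, z0, hx, hy, hz0, hxy, hxz, hyz⟩ :=
    Finset.two_lt_card_iff.1 (by rw [hL.1 li hli]; norm_num : 2 < li.card)
  obtain ⟨w, hw⟩ : ∃ w, w ∉ li := by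
    by_contra h
    push Not at h
    have h1 : li = univ := Finset.eq_univ_iff_forall.2 h
    have h5 := hL.1 li hli
    rw [h1, Finset.card_univ, hα] at h5
    omega
  obtain ⟨m0, hm0, hz0m, hwm⟩ := exists_line hL (p := z0) (q := w)
    (by rintro rfl; exact hw hz0)
  have hm0li : m0 ≠ li := by rintro rfl; exact hw hwm
  have hc4 : (m0.erase z0).card = 4 := by rw [Finset.card_erase_of_mem hz0m, hL.1 m0 hm0]
  obtain ⟨f, hfinj, hfm, hfz⟩ : ∃ f : Fin 4 → α, Function.Injective f ∧ (∀ i, f i ∈ m0) ∧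
      ∀ i, f i ≠ z0 :=
    ⟨fun i => ((Finset.equivFinOfCardEq hc4).symm i : α),
      fun i j h => (Finset.equivFinOfCardEq hc4).symm.injective (Subtype.ext h),
      fun i => Finset.mem_of_mem_erase ((Finset.equivFinOfCardEq hc4).symm i).2,
      fun i => Finset.ne_of_mem_erase ((Finset.equivFinOfCardEq hc4).symm i).2⟩
  have hxm0 : x ∉ m0 := fun h => hm0li (k2 hm0 hli hxz h hz0m hx hz0)
  have hym0 : y ∉ m0 := fun h => hm0li (k2 hm0 hli hyz h hz0m hy hz0)
  have hfli : ∀ i, f i ∉ li := fun i h => hm0li (k2 hm0 hli (hfz i) (hfm i) hz0m h hz0)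
  have hr : ∀ i, ∃ l ∈ L, x ∈ l ∧ f i ∈ l := fun i =>
    exists_line hL (fun e => hfli i (e ▸ hx))
  choose r hrL hxr hfr using hr
  have hc : ∀ j, ∃ l ∈ L, y ∈ l ∧ f j ∈ l := fun j =>
    exists_line hL (fun e => hfli j (e ▸ hy))
  choose c hcL hyc hfc using hc
  have hyr : ∀ i, y ∉ r i := fun i h =>
    hfli i (by rw [← k2 (hrL i) hli hxy (hxr i) h hx hy]; exact hfr i)
  have hxc : ∀ j, x ∉ c j := fun j h =>
    hfli j (by rw [← k2 (hcL j) hli hxy h (hyc j) hx hy]; exact hfc j)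
  have hrinj : ∀ i i', r i = r i' → i = i' := by
    intro i i' h
    by_contra hne
    have h1 : r i = m0 := k2 (hrL i) hm0 (fun h' => hne (hfinj h')) (hfr i) (h ▸ hfr i')
      (hfm i) (hfm i')
    exact hxm0 (h1 ▸ hxr i)
  have hcinj : ∀ j j', c j = c j' → j = j' := by
    intro i i' h
    by_contra hne
    have h1 : c i = m0 := k2 (hcL i) hm0 (fun h' => hne (hfinj h')) (hfc i) (h ▸ hfc i')
      (hfm i) (hfm i')
    exact hym0 (h1 ▸ hyc i)
  have hP : ∀ i j, ∃ p, p ∈ r i ∧ p ∈ c j := fun i j => K1 hα hL (hrL i) (hcL j)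
  choose P hPr hPc using hP
  have hPx : ∀ i j, P i j ≠ x := fun i j h => hxc j (h ▸ hPc i j)
  have hPy : ∀ i j, P i j ≠ y := fun i j h => hyr i (h ▸ hPr i j)
  have hPli : ∀ i j, P i j ∉ li := fun i j h =>
    hyr i (by rw [k2 (hrL i) hli (hPx i j) (hPr i j) (hxr i) h hx]; exact hy)
  have hPi : ∀ i j i' j', P i j = P i' j' → i = i' := fun i j i' j' h =>
    hrinj i i' (k2 (hrL i) (hrL i') (hPx i j) (hPr i j) (hxr i) (h ▸ hPr i' j') (hxr i'))
  have hPj : ∀ i j i' j', P i j = P i' j' → j = j' := fun i j i' j' h =>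
    hcinj j j' (k2 (hcL j) (hcL j') (hPy i j) (hPc i j) (hyc j) (h ▸ hPc i' j') (hyc j'))
  have hPf : ∀ i, P i i = f i := by
    intro i
    by_contra hne
    have h1 := k2 (hrL i) (hcL i) hne (hPr i i) (hfr i) (hPc i i) (hfc i)
    exact hxc i (h1 ▸ hxr i)
  have hrow1 : ∀ m ∈ L, x ∉ m → ∀ i j j', P i j ∈ m → P i j' ∈ m → j = j' := by
    intro m hm hxm i j j' h h'
    by_contra hne
    have h1 : P i j ≠ P i j' := fun e => hne (hPj _ _ _ _ e)
    exact hxm ((k2 hm (hrL i) h1 h h' (hPr i j) (hPr i j')) ▸ hxr i)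
  have hcol1 : ∀ m ∈ L, y ∉ m → ∀ i i' j, P i j ∈ m → P i' j ∈ m → i = i' := by
    intro m hm hym i i' j h h'
    by_contra hne
    have h1 : P i j ≠ P i' j := fun e => hne (hPi _ _ _ _ e)
    exact hym ((k2 hm (hcL j) h1 h h' (hPc i j) (hPc i' j)) ▸ hyc j)
  have hrow : ∀ i, insert x (univ.image (fun j => P i j)) = r i := by
    intro i
    apply Finset.eq_of_subset_of_card_le
    · intro p hp
      rcases Finset.mem_insert.1 hp with rfl | hp
      · exact hxr i
      · obtain ⟨j, -, rfl⟩ := Finset.mem_image.1 hp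
        exact hPr i j
    · rw [hL.1 _ (hrL i), Finset.card_insert_of_notMem,
        Finset.card_image_of_injective _ (fun j j' h => hPj _ _ _ _ h)]
      · simp
      · intro h
        obtain ⟨j, -, hj⟩ := Finset.mem_image.1 h
        exact hPx i j hj
  have hcol : ∀ j, insert y (univ.image (fun i => P i j)) = c j := by
    intro j
    apply Finset.eq_of_subset_of_card_le
    · intro p hp
      rcases Finset.mem_insert.1 hp with rfl | hp
      · exact hyc j
      · obtain ⟨i, -, rfl⟩ := Finset.mem_image.1 hp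
        exact hPc i j
    · rw [hL.1 _ (hcL j), Finset.card_insert_of_notMem,
        Finset.card_image_of_injective _ (fun i i' h => hPi _ _ _ _ h)]
      · simp
      · intro h
        obtain ⟨i, -, hi⟩ := Finset.mem_image.1 h
        exact hPy i j hi
  have hS1 : (1 : Perm (Fin 4)) ∈ {s : Perm (Fin 4) | ∃ m ∈ L, x ∉ m ∧ y ∉ m ∧
      ∀ i, P i (s i) ∈ m} :=
    ⟨m0, hm0, hxm0, hym0, fun i => by rw [Perm.one_apply, hPf]; exact hfm i⟩
  have hSU : ∀ s ∈ {s : Perm (Fin 4) | ∃ m ∈ L, x ∉ m ∧ y ∉ m ∧ ∀ i, P i (s i) ∈ m},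
      ∀ s' ∈ {s : Perm (Fin 4) | ∃ m ∈ L, x ∉ m ∧ y ∉ m ∧ ∀ i, P i (s i) ∈ m},
      ∀ i i' : Fin 4, i ≠ i' → s i = s' i → s i' = s' i' → s = s' := by
    rintro s ⟨m, hm, hxm, hym, hs⟩ s' ⟨m', hm', hxm', hym', hs'⟩ i i' hii h h'
    have h1 : m = m' := k2 hm hm' (fun e => hii (hPi _ _ _ _ e)) (hs i) (hs i')
      (h ▸ hs' i) (h' ▸ hs' i')
    subst h1
    exact Equiv.ext fun a => hrow1 m hm hxm a _ _ (hs a) (hs' a)
  have hSE : ∀ i i' j j' : Fin 4, i ≠ i' → j ≠ j' →
      ∃ s ∈ {s : Perm (Fin 4) | ∃ m ∈ L, x ∉ m ∧ y ∉ m ∧ ∀ i, P i (s i) ∈ m},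
        s i = j ∧ s i' = j' := by
    intro i i' j j' hii hjj
    obtain ⟨m, hm, h1, h2⟩ := exists_line hL (p := P i j) (q := P i' j')
      (fun e => hii (hPi _ _ _ _ e))
    have hxm : x ∉ m := fun h => hii (hrinj i i'
      ((k2 (hrL i) hm (hPx i j) (hPr i j) (hxr i) h1 h).trans
        (k2 (hrL i') hm (hPx i' j') (hPr i' j') (hxr i') h2 h).symm))
    have hym : y ∉ m := fun h => hjj (hcinj j j'
      ((k2 (hcL j) hm (hPy i j) (hPc i j) (hyc j) h1 h).trans
        (k2 (hcL j') hm (hPy i' j') (hPc i' j') (hyc j') h2 h).symm))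
    have hs0 : ∀ a, ∃ b, P a b ∈ m := by
      intro a
      obtain ⟨p, hpr, hpm⟩ := K1 hα hL (hrL a) hm
      rw [← hrow a] at hpr
      rcases Finset.mem_insert.1 hpr with rfl | hp
      · exact absurd hpm hxm
      · obtain ⟨b, -, rfl⟩ := Finset.mem_image.1 hp
        exact ⟨b, hpm⟩
    choose s0 hs0 using hs0
    have hinj : Function.Injective s0 := fun a a' h =>
      hcol1 m hm hym a a' (s0 a) (hs0 a) (h ▸ hs0 a')
    exact ⟨Equiv.ofBijective s0 (Finite.injective_iff_bijective.1 hinj),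
      ⟨m, hm, hxm, hym, fun a => hs0 a⟩, hrow1 m hm hxm i _ _ (hs0 i) h1,
      hrow1 m hm hxm i' _ _ (hs0 i') h2⟩
  have hA := S4_lemma _ hS1 hSE hSU
  have hdiag : ∀ s : Perm (Fin 4), Perm.sign s = 1 → ∃ m ∈ L, ∃ q ∈ li, x ∉ m ∧ y ∉ m ∧
      m = insert q (univ.image fun i => P i (s i)) := by
    intro s hs
    obtain ⟨m, hm, hxm, hym, hsm⟩ := hA s hs
    obtain ⟨q, hqm, hql⟩ := K1 hα hL hm hli
    refine ⟨m, hm, q, hql, hxm, hym, (Finset.eq_of_subset_of_card_le ?_ ?_).symm⟩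
    · intro p hp
      rcases Finset.mem_insert.1 hp with rfl | hp
      · exact hqm
      · obtain ⟨i, -, rfl⟩ := Finset.mem_image.1 hp
        exact hsm i
    · rw [hL.1 _ hm, Finset.card_insert_of_notMem,
        Finset.card_image_of_injective _ (fun i i' h => hPi _ _ _ _ h)]
      · simp
      · intro h
        obtain ⟨i, -, hi⟩ := Finset.mem_image.1 h
        exact hPli i _ (hi ▸ hql)
  choose n hnL Q hQli hxn hyn hn using fun k => hdiag (tK k) (tK_even k)
  have hQn : ∀ k, Q k ∈ n k := fun k => by rw [hn k]; exact Finset.mem_insert_self _ _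
  have hPn : ∀ k i, P i (tK k i) ∈ n k := fun k i => by
    rw [hn k]; exact Finset.mem_insert_of_mem (Finset.mem_image_of_mem _ (Finset.mem_univ i))
  have hQx : ∀ k, Q k ≠ x := fun k h => hxn k (h ▸ hQn k)
  have hQy : ∀ k, Q k ≠ y := fun k h => hyn k (h ▸ hQn k)
  have hQinj : Function.Injective Q := by
    intro k k' h
    by_contra hne
    obtain ⟨⟨i, hi⟩, ⟨i', hi'⟩⟩ := tK_ne k k' hne
    have h1 : n k = n k' := k2 (hnL k) (hnL k') (p := Q k) (q := P i (tK k i))
      (fun e => hPli _ _ (e ▸ hQli k)) (hQn k) (hPn k i) (h ▸ hQn k') (hi ▸ hPn k' i)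
    exact hi' (hrow1 _ (hnL k) (hxn k) i' _ _ (hPn k i') (h1 ▸ hPn k' i'))
  have hkap : ∀ k s, kap k s → insert (Q k) (univ.image fun i => P i (s i)) ∈ L := by
    intro k s hs
    rcases hs.2 with rfl | hne
    · rw [← hn k]; exact hnL k
    obtain ⟨m, hm, q, hql, hxm, hym, hmeq⟩ := hdiag s hs.1
    suffices h : q = Q k by rw [← h, ← hmeq]; exact hm
    obtain ⟨p, hpm, hpn⟩ := K1 hα hL hm (hnL k)
    rw [hmeq] at hpm
    rw [hn k] at hpn
    rcases Finset.mem_insert.1 hpm with rfl | hp1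
    · rcases Finset.mem_insert.1 hpn with h | hp2
      · exact h
      · obtain ⟨i, -, hi⟩ := Finset.mem_image.1 hp2
        exact absurd (hi ▸ hql) (hPli _ _)
    · obtain ⟨i, -, rfl⟩ := Finset.mem_image.1 hp1
      rcases Finset.mem_insert.1 hpn with h | hp2
      · exact absurd (h ▸ hQli k) (hPli _ _)
      · obtain ⟨i', -, hi'⟩ := Finset.mem_image.1 hp2
        have h1 := hPi _ _ _ _ hi'
        subst h1
        exact absurd (hPj _ _ _ _ hi').symm (hne i')
  refine ⟨Sum.elim (fun ij => P ij.1 ij.2) (Sum.elim (fun b => cond b y x) Q), ?_, ?_⟩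
  · apply Function.Injective.sumElim
    · rintro ⟨i, j⟩ ⟨i', j'⟩ h
      exact Prod.ext (hPi _ _ _ _ h) (hPj _ _ _ _ h)
    · apply Function.Injective.sumElim
      · intro b b' h
        cases b <;> cases b'
        · rfl
        · exact absurd h hxy
        · exact absurd h.symm hxy
        · rfl
      · exact hQinj
      · intro b k
        cases b
        · exact (hQx k).symm
        · exact (hQy k).symm
    · rintro ⟨i, j⟩ (b | k)
      · cases b
        · exact hPx i j
        · exact hPy i j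
      · exact fun e => hPli i j (e ▸ hQli k)
  · rintro l (rfl | ⟨i, rfl⟩ | ⟨j, rfl⟩ | ⟨k, s, hs, rfl⟩)
    · have h1 : linf.image (Sum.elim (fun ij => P ij.1 ij.2) (Sum.elim (fun b => cond b y x) Q))
          = insert x (insert y (univ.image Q)) := by
        simp [linf, Finset.image_insert, Finset.image_image, ptX, ptY, ptZ, Function.comp_def]
      rw [h1]
      have h2 : insert x (insert y (univ.image Q)) = li := by
        apply Finset.eq_of_subset_of_card_le
        · intro p hp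
          rcases Finset.mem_insert.1 hp with rfl | hp
          · exact hx
          rcases Finset.mem_insert.1 hp with rfl | hp
          · exact hy
          obtain ⟨k, -, rfl⟩ := Finset.mem_image.1 hp
          exact hQli k
        · rw [hL.1 _ hli, Finset.card_insert_of_notMem, Finset.card_insert_of_notMem,
            Finset.card_image_of_injective _ hQinj]
          · simp
          · intro h
            obtain ⟨k, -, hk⟩ := Finset.mem_image.1 h
            exact hQy k hk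
          · intro h
            rcases Finset.mem_insert.1 h with h | h
            · exact hxy h
            obtain ⟨k, -, hk⟩ := Finset.mem_image.1 h
            exact hQx k hk
      rw [h2]; exact hli
    · have h1 : (rowM i).image (Sum.elim (fun ij => P ij.1 ij.2)
          (Sum.elim (fun b => cond b y x) Q)) = insert x (univ.image (fun j => P i j)) := by
        simp [rowM, Finset.image_insert, Finset.image_image, ptX, aff, Function.comp_def]
      rw [h1, hrow i]; exact hrL i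
    · have h1 : (colM j).image (Sum.elim (fun ij => P ij.1 ij.2)
          (Sum.elim (fun b => cond b y x) Q)) = insert y (univ.image (fun i => P i j)) := by
        simp [colM, Finset.image_insert, Finset.image_image, ptY, aff, Function.comp_def]
      rw [h1, hcol j]; exact hcL j
    · have h1 : (diagM k s).image (Sum.elim (fun ij => P ij.1 ij.2)
          (Sum.elim (fun b => cond b y x) Q)) = insert (Q k) (univ.image (fun i => P i (s i))) := by
        simp [diagM, Finset.image_insert, Finset.image_image, ptZ, aff, Function.comp_def]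
      rw [h1]; exact hkap k s hs

theorem iso_model (hα : Fintype.card α = 21) (hL : IsSteinerSystem 2 5 L) :
    SetSystemIso linesM L := by
  obtain ⟨φ, hinj, himg⟩ := main hα hL
  have hbij : Function.Bijective φ :=
    (Fintype.bijective_iff_injective_and_card φ).2 ⟨hinj, by rw [hα]; rfl⟩
  refine ⟨Equiv.ofBijective φ hbij, ?_⟩
  apply Set.Subset.antisymm
  · rintro _ ⟨l, hl, rfl⟩
    exact himg l hl
  · intro b hb
    obtain ⟨p, hp, q, hq, hpq⟩ := Finset.one_lt_card.1
      (by rw [hL.1 b hb]; norm_num : 1 < b.card)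
    obtain ⟨u, rfl⟩ := hbij.2 p
    obtain ⟨v, rfl⟩ := hbij.2 q
    have huv : u ≠ v := fun e => hpq (e ▸ rfl)
    have h1 : ∃ l ∈ linesM, u ∈ l ∧ v ∈ l := by
      rcases D7 u v huv with h | ⟨i, h⟩ | ⟨j, h⟩ | ⟨k, s, hs, h⟩
      · exact ⟨_, Or.inl rfl, h⟩
      · exact ⟨_, Or.inr (Or.inl ⟨i, rfl⟩), h⟩
      · exact ⟨_, Or.inr (Or.inr (Or.inl ⟨j, rfl⟩)), h⟩
      · exact ⟨_, Or.inr (Or.inr (Or.inr ⟨k, s, hs, rfl⟩)), h⟩
    obtain ⟨l, hl, hu, hv⟩ := h1
    exact ⟨l, hl, K2 hL (himg l hl) hb hpq (Finset.mem_image_of_mem _ hu)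
      (Finset.mem_image_of_mem _ hv) hp hq⟩

end main

end Cfsg.Agent.Lib.Helper10Plane
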