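import Cfsg.Agent.Lib.Helper10Ext
import Cfsg.Agent.Lib.Helper10ExtChk
import Cfsg.Agent.Lib.Helper10Plane
import Cfsg.Agent.S0352
import Cfsg.Agent.S0355
import Cfsg.Agent.S0356
import Cfsg.Agent.S0366

/-!
# Uniqueness of the large Witt designs (helper10)
-/

set_option autoImplicit false

namespace Cfsg.Agent.Lib.Helper10Chain

open Cfsg Finset Cfsg.Agent.Lib.Helper33Golay Cfsg.Agent.Lib.Helper10Ext
  Cfsg.Agent.Lib.Helper10ExtChk Cfsg.Agent.Lib.Helper10SetSys

def A1 : Finset GolayPt := insert none ∅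
def A2 : Finset GolayPt := insert (some 0) A1
def A3 : Finset GolayPt := insert (some 1) A2

theorem dec_A1 : dec 8388608 = A1 := by decide +kernel
theorem dec_A2 : dec 8388609 = A2 := by decide +kernel
theorem dec_A3 : dec 8388611 = A3 := by decide +kernel

theorem card_A1 : A1.card = 1 := by decide +kernel
theorem card_A2 : A2.card = 2 := by decide +kernel
theorem card_A3 : A3.card = 3 := by decide +kernel

def OL1 : List ℕ := [13062145, 9347075, 13938692, 11100169, 10170384, 11952160, 15515712,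
  14254209, 11731203, 12325377, 11654144, 14919680]
def OL2 : List ℕ := [13062145, 9347075, 11100169, 8966165, 10846245, 9506893, 14254209,
  11731203, 12325377, 10630149, 15747077]
def OL3 : List ℕ := [9347075, 14716939, 12656663, 8536111, 13893731, 9465987, 11731203,
  8524371, 10765331, 9963547]

theorem chk1 : parChk OL1 (0 % 2) [0] = true := by decide +kernel
theorem chk2 : parChk OL2 (1 % 2) [1, 8388608] = true := by decide +kernel
theorem chk3 : parChk OL3 (2 % 2) [0, 3, 8388609, 8388610] = true := by decide +kernel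

theorem H1_1 : ∀ b : Finset GolayPt, Disjoint b (insert none ∅) → b.card = 8 - 0 →
    (∀ o ∈ octads, insert none ∅ ⊆ o → (b ∩ o).card % 2 = 0 % 2) →
    ∃ x ⊆ insert none ∅, x.card = 0 ∧ b ∪ x ∈ octads := by
  have h := H1_of_chk 8388608 0 (by norm_num) OL1 [0] (by norm_num) (by decide +kernel)
    (by decide +kernel) chk1
  rw [dec_A1] at h
  exact h

theorem H1_2 : ∀ b : Finset GolayPt, Disjoint b (insert (some 0) A1) → b.card = 8 - 1 →
    (∀ o ∈ octads, insert (some 0) A1 ⊆ o → (b ∩ o).card % 2 = 1 % 2) →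
    ∃ x ⊆ insert (some 0) A1, x.card = 1 ∧ b ∪ x ∈ octads := by
  have h := H1_of_chk 8388609 1 (by norm_num) OL2 [1, 8388608] (by norm_num) (by decide +kernel)
    (by decide +kernel) chk2
  rw [dec_A2] at h
  exact h

theorem H1_3 : ∀ b : Finset GolayPt, Disjoint b (insert (some 1) A2) → b.card = 8 - 2 →
    (∀ o ∈ octads, insert (some 1) A2 ⊆ o → (b ∩ o).card % 2 = 2 % 2) →
    ∃ x ⊆ insert (some 1) A2, x.card = 2 ∧ b ∪ x ∈ octads := by
  have h := H1_of_chk 8388611 2 (by norm_num) OL3 [0, 3, 8388609, 8388610] (by norm_num)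
    (by decide +kernel) (by decide +kernel) chk3
  rw [dec_A3] at h
  exact h

theorem exists_M24 (x y : Fin 5 ↪ GolayPt) : ∃ τ ∈ M24, ∀ i, τ (x i) = y i := by
  have := Cfsg.Agent.S0366.result
  obtain ⟨g, hg⟩ := MulAction.exists_smul_eq M24 x y
  exact ⟨g.1, g.2, fun i => DFunLike.congr_fun hg i⟩

theorem H2_0 : ∀ c ∈ (∅ : Finset GolayPt), ∃ τ ∈ M24, τ c = none ∧ τ none = c ∧
    ∀ y ∈ (∅ : Finset GolayPt), y ≠ c → τ y = y := by
  intro c hc
  exact absurd hc (Finset.notMem_empty c)

theorem H2_1 : ∀ c ∈ A1, ∃ τ ∈ M24, τ c = some 0 ∧ τ (some 0) = c ∧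
    ∀ y ∈ A1, y ≠ c → τ y = y := by
  intro c hc
  obtain rfl : c = none := by simpa [A1] using hc
  obtain ⟨τ, hτ, h⟩ := exists_M24 ⟨![none, some 0, some 1, some 2, some 3], by decide⟩
    ⟨![some 0, none, some 1, some 2, some 3], by decide⟩
  refine ⟨τ, hτ, h 0, h 1, fun y hy hne => ?_⟩
  exact absurd (by simpa [A1] using hy) hne

theorem H2_2 : ∀ c ∈ A2, ∃ τ ∈ M24, τ c = some 1 ∧ τ (some 1) = c ∧
    ∀ y ∈ A2, y ≠ c → τ y = y := by
  intro c hc
  have hc' : c = some 0 ∨ c = none := by simpa [A2, A1] using hc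
  rcases hc' with rfl | rfl
  · obtain ⟨τ, hτ, h⟩ := exists_M24 ⟨![none, some 0, some 1, some 2, some 3], by decide⟩
      ⟨![none, some 1, some 0, some 2, some 3], by decide⟩
    refine ⟨τ, hτ, h 1, h 2, fun y hy hne => ?_⟩
    have hy' : y = some 0 ∨ y = none := by simpa [A2, A1] using hy
    rcases hy' with rfl | rfl
    · exact absurd rfl hne
    · exact h 0
  · obtain ⟨τ, hτ, h⟩ := exists_M24 ⟨![none, some 0, some 1, some 2, some 3], by decide⟩
      ⟨![some 1, some 0, none, some 2, some 3], by decide⟩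
    refine ⟨τ, hτ, h 0, h 2, fun y hy hne => ?_⟩
    have hy' : y = some 0 ∨ y = none := by simpa [A2, A1] using hy
    rcases hy' with rfl | rfl
    · exact h 1
    · exact absurd rfl hne

section chain
variable {α : Type*} [Fintype α] [DecidableEq α]

theorem card_ne (p : α) : Fintype.card {u : α // u ≠ p} = Fintype.card α - 1 := by
  have h := Fintype.card_subtype_compl (fun u : α => u = p)
  rw [Fintype.card_subtype_eq] at h
  exact h

theorem U3 (hα : Fintype.card α = 21) {B : Set (Finset α)} (hB : IsSteinerSystem 2 5 B) :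
    SetSystemIso B (WS A3) := by
  have h1 := card_compl_subtype A3
  rw [card_A3] at h1
  exact iso_trans (iso_symm (Helper10Plane.iso_model hα hB))
    (Helper10Plane.iso_model (by omega) (WS_steiner A3 2 5 (by rw [card_A3]) (by rw [card_A3])))

theorem U2 (hα : Fintype.card α = 22) {B : Set (Finset α)} (hB : IsSteinerSystem 3 6 B) :
    SetSystemIso B (WS A2) := by
  apply step A2 (some 1) (by decide +kernel) 2 card_A2 H1_3 H2_2 2 5 rfl rfl (by omega) hB
  · intro b hb c hc
    by_cases hbc : b = c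
    · rw [hbc, Finset.inter_self, hB.1 c hc]
    · rcases Cfsg.Agent.S0356.result hα hB hb hc hbc with h | h <;> rw [h]
  · intro p
    exact U3 (by rw [card_ne, hα]) (Cfsg.Agent.S0351.result hB p)

theorem U1 (hα : Fintype.card α = 23) {B : Set (Finset α)} (hB : IsSteinerSystem 4 7 B) :
    SetSystemIso B (WS A1) := by
  apply step A1 (some 0) (by decide +kernel) 1 card_A1 H1_2 H2_1 3 6 rfl rfl (by omega) hB
  · intro b hb c hc
    by_cases hbc : b = c
    · rw [hbc, Finset.inter_self, hB.1 c hc]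
    · rcases Cfsg.Agent.S0355.result hα hB hb hc hbc with h | h <;> rw [h]
  · intro p
    exact U2 (by rw [card_ne, hα]) (Cfsg.Agent.S0351.result hB p)

theorem U0 (hα : Fintype.card α = 24) {B : Set (Finset α)} (hB : IsSteinerSystem 5 8 B) :
    SetSystemIso B (WS ∅) := by
  apply step ∅ none (by decide +kernel) 0 rfl H1_1 H2_0 4 7 rfl rfl (by omega) hB
  · intro b hb c hc
    by_cases hbc : b = c
    · rw [hbc, Finset.inter_self, hB.1 c hc]
    · rcases Cfsg.Agent.S0352.result hα hB hb hc hbc with h | h | h <;> rw [h]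
  · intro p
    exact U1 (by rw [card_ne, hα]) (Cfsg.Agent.S0351.result hB p)

end chain

end Cfsg.Agent.Lib.Helper10Chain
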