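import Mathlib
import Cfsg.Agent.Lib.Helper9Golay2

set_option autoImplicit false

namespace Cfsg.Agent.Lib.Helper94Leech

open Cfsg Finset
open Cfsg.Agent.Lib.Helper9Golay Cfsg.Agent.Lib.Helper9Golay2

/-- positions with coordinate congruent to `k` modulo 4 -/
def cls (x : GolayPt → ℤ) (k : ℤ) : Finset GolayPt := univ.filter fun i => x i ≡ k [ZMOD 4]

theorem mem_cls {x : GolayPt → ℤ} {k : ℤ} {i : GolayPt} : i ∈ cls x k ↔ x i % 4 = k % 4 := by
  simp only [cls, mem_filter, mem_univ, true_and]; rfl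

theorem mem_leechSet_iff (x : GolayPt → ℤ) : x ∈ leechSet ↔
    ∃ m : ℤ, (∀ i, x i % 2 = m % 2) ∧ ((∑ i, x i) % 8 = (4 * m) % 8) ∧ ∀ k, cls x k ∈ Csup := Iff.rfl

theorem empty_mem : (∅ : Finset GolayPt) ∈ Csup :=
  ⟨0, golayCode.zero_mem, by ext i; simp [support₂]⟩

theorem univ_mem : (univ : Finset GolayPt) ∈ Csup :=
  ⟨1, Submodule.subset_span (Or.inr rfl), by ext i; simp [support₂]⟩

theorem zero_mem_leechSet : (0 : GolayPt → ℤ) ∈ leechSet := by
  rw [mem_leechSet_iff]
  refine ⟨0, fun i => rfl, by simp, fun k => ?_⟩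
  by_cases hk : k % 4 = 0
  · have : cls 0 k = univ := by
      ext i; simp [mem_cls, hk]
    rw [this]; exact univ_mem
  · have : cls 0 k = ∅ := by
      ext i; simp only [mem_cls, Pi.zero_apply, notMem_empty, iff_false]
      intro h; exact hk h.symm
    rw [this]; exact empty_mem

theorem neg_mem_leechSet {x : GolayPt → ℤ} (hx : x ∈ leechSet) : -x ∈ leechSet := by
  rw [mem_leechSet_iff] at hx ⊢
  obtain ⟨m, h1, h2, h3⟩ := hx
  refine ⟨-m, fun i => ?_, ?_, fun k => ?_⟩
  · have := h1 i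
    simp only [Pi.neg_apply]; omega
  · simp only [Pi.neg_apply, Finset.sum_neg_distrib]; omega
  · have : cls (-x) k = cls x (-k) := by
      ext i; simp only [mem_cls, Pi.neg_apply]; omega
    rw [this]; exact h3 _

theorem add_mem_leechSet {x y : GolayPt → ℤ} (hx : x ∈ leechSet) (hy : y ∈ leechSet) :
    x + y ∈ leechSet := by
  rw [mem_leechSet_iff] at hx hy ⊢
  obtain ⟨m, h1, h2, h3⟩ := hx
  obtain ⟨m', h1', h2', h3'⟩ := hy
  refine ⟨m + m', fun i => ?_, ?_, fun k => ?_⟩
  · have := h1 i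
    have := h1' i
    simp only [Pi.add_apply]; omega
  · simp only [Pi.add_apply, Finset.sum_add_distrib]; omega
  · by_cases hk : k % 2 = (m + m') % 2
    · have : cls (x + y) k = symmDiff (cls x m) (cls y (k - m + 2)) := by
        ext i
        have a1 := h1 i
        have a2 := h1' i
        simp only [Finset.mem_symmDiff, mem_cls, Pi.add_apply]
        omega
      rw [this]
      exact symmDiff_mem_supports (h3 _) (h3' _)
    · have : cls (x + y) k = ∅ := by
        ext i
        have a1 := h1 i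
        have a2 := h1' i
        simp only [mem_cls, Pi.add_apply, notMem_empty, iff_false]
        omega
      rw [this]; exact empty_mem

/-- `leechSet` as an additive subgroup. -/
def leechSub : AddSubgroup (GolayPt → ℤ) where
  carrier := leechSet
  zero_mem' := zero_mem_leechSet
  add_mem' := add_mem_leechSet
  neg_mem' := neg_mem_leechSet

theorem leechLattice_eq : leechLattice = leechSub := by
  apply le_antisymm
  · rw [leechLattice, AddSubgroup.closure_le]; exact fun x hx => hx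
  · intro x hx
    exact AddSubgroup.subset_closure hx

theorem mem_leechLattice_iff (x : GolayPt → ℤ) : x ∈ leechLattice ↔ x ∈ leechSet := by
  rw [leechLattice_eq]; rfl

theorem card_pts : (univ : Finset GolayPt).card = 24 := by decide

theorem sum_ind (c : Finset GolayPt) : ∑ i : GolayPt, (if i ∈ c then (1 : ℤ) else 0) = c.card := by
  rw [Finset.sum_ite_mem, Finset.univ_inter, Finset.sum_const, nsmul_eq_mul, mul_one]

/-- even vectors -/
theorem even_decomp {x : GolayPt → ℤ} (h1 : ∀ i, x i % 2 = 0) :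
    ∃ a : GolayPt → ℤ, ∀ i, x i = 2 * (if i ∈ cls x 2 then (1 : ℤ) else 0) + 4 * a i := by
  have : ∀ i, ∃ a : ℤ, x i = 2 * (if i ∈ cls x 2 then (1 : ℤ) else 0) + 4 * a := by
    intro i
    have := h1 i
    by_cases hi : i ∈ cls x 2
    · rw [if_pos hi]
      rw [mem_cls] at hi
      exact ⟨(x i - 2) / 4, by omega⟩
    · rw [if_neg hi]
      rw [mem_cls] at hi
      exact ⟨x i / 4, by omega⟩
  choose a ha using this
  exact ⟨a, ha⟩

theorem odd_decomp {x : GolayPt → ℤ} (h1 : ∀ i, x i % 2 = 1) :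
    ∃ a : GolayPt → ℤ, ∀ i, x i = -1 + 2 * (if i ∈ cls x 1 then (1 : ℤ) else 0) + 4 * a i := by
  have : ∀ i, ∃ a : ℤ, x i = -1 + 2 * (if i ∈ cls x 1 then (1 : ℤ) else 0) + 4 * a := by
    intro i
    have := h1 i
    by_cases hi : i ∈ cls x 1
    · rw [if_pos hi]
      rw [mem_cls] at hi
      exact ⟨(x i - 1) / 4, by omega⟩
    · rw [if_neg hi]
      rw [mem_cls] at hi
      exact ⟨(x i + 1) / 4, by omega⟩
  choose a ha using this
  exact ⟨a, ha⟩

theorem even_norm {x : GolayPt → ℤ} {a : GolayPt → ℤ}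
    (ha : ∀ i, x i = 2 * (if i ∈ cls x 2 then (1 : ℤ) else 0) + 4 * a i) :
    sqNorm x = 4 * (cls x 2).card +
      16 * ∑ i, ((if i ∈ cls x 2 then (1 : ℤ) else 0) * a i + a i ^ 2) := by
  have hsq : ∀ i, x i ^ 2 = 4 * (if i ∈ cls x 2 then (1 : ℤ) else 0) +
      16 * ((if i ∈ cls x 2 then (1 : ℤ) else 0) * a i + a i ^ 2) := by
    intro i
    conv_lhs => rw [ha i]
    by_cases hi : i ∈ cls x 2
    · simp only [if_pos hi]; ring
    · simp only [if_neg hi]; ring
  simp only [sqNorm]
  rw [Finset.sum_congr rfl (fun i _ => hsq i), Finset.sum_add_distrib, ← Finset.mul_sum,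
    ← Finset.mul_sum, sum_ind]

theorem odd_norm {x : GolayPt → ℤ} {a : GolayPt → ℤ}
    (ha : ∀ i, x i = -1 + 2 * (if i ∈ cls x 1 then (1 : ℤ) else 0) + 4 * a i) :
    sqNorm x = 24 - 8 * ∑ i, a i +
      16 * ∑ i, (a i ^ 2 + (if i ∈ cls x 1 then (1 : ℤ) else 0) * a i) := by
  have hsq : ∀ i, x i ^ 2 = 1 - 8 * a i +
      16 * (a i ^ 2 + (if i ∈ cls x 1 then (1 : ℤ) else 0) * a i) := by
    intro i
    conv_lhs => rw [ha i]
    by_cases hi : i ∈ cls x 1
    · simp only [if_pos hi]; ring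
    · simp only [if_neg hi]; ring
  simp only [sqNorm]
  rw [Finset.sum_congr rfl (fun i _ => hsq i), Finset.sum_add_distrib, Finset.sum_sub_distrib,
    ← Finset.mul_sum, ← Finset.mul_sum, Finset.sum_const, card_pts]
  norm_num

theorem odd_sum {x : GolayPt → ℤ} {a : GolayPt → ℤ}
    (ha : ∀ i, x i = -1 + 2 * (if i ∈ cls x 1 then (1 : ℤ) else 0) + 4 * a i) :
    ∑ i, x i = -24 + 2 * (cls x 1).card + 4 * ∑ i, a i := by
  rw [Finset.sum_congr rfl (fun i _ => ha i), Finset.sum_add_distrib, Finset.sum_add_distrib,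
    ← Finset.mul_sum, ← Finset.mul_sum, sum_ind, Finset.sum_const, card_pts]
  norm_num

theorem sixteen_dvd {x : GolayPt → ℤ} (hx : x ∈ leechSet) : (16 : ℤ) ∣ sqNorm x := by
  rw [mem_leechSet_iff] at hx
  obtain ⟨m, h1, h2, h3⟩ := hx
  rcases Int.emod_two_eq_zero_or_one m with hm | hm
  · obtain ⟨a, ha⟩ := even_decomp (fun i => by rw [h1 i, hm])
    rw [even_norm ha]
    obtain ⟨t, ht⟩ := four_dvd_card (h3 2)
    rw [ht]
    push_cast
    exact ⟨t + ∑ i, ((if i ∈ cls x 2 then (1 : ℤ) else 0) * a i + a i ^ 2), by ring⟩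
  · obtain ⟨a, ha⟩ := odd_decomp (fun i => by rw [h1 i, hm])
    rw [odd_norm ha]
    rw [odd_sum ha] at h2
    obtain ⟨t, ht⟩ := four_dvd_card (h3 1)
    rw [ht] at h2
    push_cast at h2
    generalize ∑ i, a i = A at h2 ⊢
    generalize ∑ i, (a i ^ 2 + (if i ∈ cls x 1 then (1 : ℤ) else 0) * a i) = S
    omega

theorem sqNorm_pos {x : GolayPt → ℤ} (h0 : x ≠ 0) : 0 < sqNorm x := by
  obtain ⟨i, hi⟩ : ∃ i, x i ≠ 0 := by
    by_contra hc
    push Not at hc
    exact h0 (funext hc)
  have h1 : 0 < x i ^ 2 := by positivity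
  have h2 : x i ^ 2 ≤ sqNorm x :=
    Finset.single_le_sum (f := fun i => x i ^ 2) (fun j _ => sq_nonneg (x j)) (Finset.mem_univ i)
  omega

theorem min_norm {x : GolayPt → ℤ} (hx : x ∈ leechSet) (h0 : x ≠ 0) : 32 ≤ sqNorm x := by
  have h16 := sixteen_dvd hx
  have hpos := sqNorm_pos h0
  rw [mem_leechSet_iff] at hx
  obtain ⟨m, h1, h2, h3⟩ := hx
  rcases Int.emod_two_eq_zero_or_one m with hm | hm
  · by_cases hc : cls x 2 = ∅
    · obtain ⟨a, ha⟩ := even_decomp (fun i => by rw [h1 i, hm])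
      have hn := even_norm ha
      simp only [hc, notMem_empty, if_false, mul_zero, zero_add, card_empty, Nat.cast_zero,
        zero_mul] at ha hn
      have hs : ∑ i, x i = 4 * ∑ i, a i := by
        rw [Finset.sum_congr rfl (fun i _ => ha i), ← Finset.mul_sum]
      have hb : ∀ i, ∃ b : ℤ, a i ^ 2 = a i + 2 * b := by
        intro i
        have : Even (a i * (a i - 1)) := Int.even_mul_pred_self (a i)
        obtain ⟨b, hb⟩ := this
        exact ⟨b, by nlinarith⟩
      choose b hb using hb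
      rw [Finset.sum_congr rfl (fun i _ => hb i), Finset.sum_add_distrib, ← Finset.mul_sum] at hn
      rw [hs] at h2
      generalize ∑ i, a i = A at h2 hn
      generalize ∑ i, b i = B at hn
      omega
    · have h8 := eight_le_card (h3 2) hc
      have hle : ∑ i ∈ cls x 2, (4 : ℤ) ≤ ∑ i ∈ cls x 2, x i ^ 2 := by
        apply Finset.sum_le_sum
        intro i hi
        rw [mem_cls] at hi
        have : x i ≠ 0 ∧ x i ≠ 1 ∧ x i ≠ -1 := by omega
        nlinarith [sq_nonneg (x i), sq_abs (x i), abs_nonneg (x i),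
          (by
            rcases le_or_gt 0 (x i) with h | h
            · rw [abs_of_nonneg h]; omega
            · rw [abs_of_neg h]; omega : 2 ≤ |x i|)]
      have hle2 : ∑ i ∈ cls x 2, x i ^ 2 ≤ sqNorm x :=
        Finset.sum_le_sum_of_subset_of_nonneg (Finset.subset_univ _) (fun j _ _ => sq_nonneg (x j))
      rw [Finset.sum_const, nsmul_eq_mul] at hle
      have : (8 : ℤ) ≤ (cls x 2).card := by exact_mod_cast h8
      omega
  · have hle : ∑ _i : GolayPt, (1 : ℤ) ≤ sqNorm x := by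
      apply Finset.sum_le_sum
      intro i _
      have := h1 i
      have h' : x i ≠ 0 := by omega
      have : 0 < x i ^ 2 := by positivity
      omega
    rw [Finset.sum_const, card_pts] at hle
    norm_num at hle
    omega

end Cfsg.Agent.Lib.Helper94Leech
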