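import Cfsg.Agent.Lib.Helper93Kron
import Cfsg.Agent.Lib.Helper94Leech
import Cfsg.Agent.Lib.Helper33Golay

/-!
# Numbers of vectors of small norm in the rank-24 lattice (helper93)

`ncard_norm`: for `n ≤ 64` the number of lattice vectors with sum of squares `n` is `tot n`, a number
computed from powers of four theta numbers (Kronecker substitution).
-/

set_option autoImplicit false
set_option exponentiation.threshold 10000000

namespace Cfsg.Agent.Lib.Helper93LeechCount

open Cfsg Finset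
open Cfsg.Agent.Lib.Helper33Pack Cfsg.Agent.Lib.Helper93Kron Cfsg.Agent.Lib.Helper94Leech
open Cfsg.Agent.Lib.Helper9Golay2 (Csup four_dvd_card)
open Cfsg.Agent.Lib.Helper33Golay (dec enc codeL pop)

/-- the bit of weight four -/
def bb (v : ℤ) : ℕ := ((v % 8) / 4).toNat

/-- exponent attached to a coordinate value -/
def ee (v : ℤ) : ℕ := 32 * v.natAbs ^ 2 + bb v

/-- admissible coordinate values in a residue class modulo four -/
def Vr (r : ℤ) : Finset ℤ :=
  ((Finset.range 17).image (fun k : ℕ => (k : ℤ) - 8)).filter (fun v => v % 4 = r)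

def VV (c : Finset GolayPt) (ra rb : ℤ) (i : GolayPt) : Finset ℤ := if i ∈ c then Vr ra else Vr rb

def theta (r : ℤ) : ℕ := ∑ v ∈ Vr r, 2 ^ (64 * ee v)

def TT (n m : ℕ) : Finset ℕ := (Finset.range 13).image (fun k => 32 * n + 2 * k + m)

/-- vectors with residues `ra` on `c`, `rb` off `c`, norm `n`, parity `m` of the number of fours -/
def Fib (ra rb : ℤ) (m n : ℕ) (c : Finset GolayPt) : Finset (GolayPt → ℤ) :=
  (Fintype.piFinset (VV c ra rb)).filter (fun x => ∑ i, ee (x i) ∈ TT n m)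

theorem bb_le (v : ℤ) : bb v ≤ 1 := by unfold bb; omega

theorem bb_cast (v : ℤ) : ((bb v : ℕ) : ℤ) = (v % 8) / 4 := by unfold bb; omega

theorem sum_bb_le (x : GolayPt → ℤ) : ∑ i, bb (x i) ≤ 24 := by
  calc ∑ i, bb (x i) ≤ ∑ _i : GolayPt, 1 := Finset.sum_le_sum (fun i _ => bb_le _)
    _ = 24 := by rw [Finset.sum_const, card_pts]; rfl

theorem sum_ee (x : GolayPt → ℤ) :
    ∑ i, ee (x i) = 32 * ∑ i, (x i).natAbs ^ 2 + ∑ i, bb (x i) := by
  simp only [ee, Finset.sum_add_distrib, Finset.mul_sum]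

theorem sqNorm_eq (x : GolayPt → ℤ) : sqNorm x = ((∑ i, (x i).natAbs ^ 2 : ℕ) : ℤ) := by
  unfold sqNorm
  push_cast
  apply Finset.sum_congr rfl
  intro i _
  rw [sq_abs]

theorem mem_TT_iff (x : GolayPt → ℤ) (n m : ℕ) (hm : m < 2) :
    ∑ i, ee (x i) ∈ TT n m ↔ sqNorm x = n ∧ (∑ i, bb (x i)) % 2 = m := by
  have h24 := sum_bb_le x
  rw [sum_ee, sqNorm_eq]
  simp only [TT, Finset.mem_image, Finset.mem_range]
  constructor
  · rintro ⟨k, hk, e⟩
    refine ⟨?_, ?_⟩
    · have : ∑ i, (x i).natAbs ^ 2 = n := by omega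
      exact_mod_cast this
    · omega
  · rintro ⟨h1, h2⟩
    have h1' : ∑ i, (x i).natAbs ^ 2 = n := by exact_mod_cast h1
    exact ⟨(∑ i, bb (x i)) / 2, by omega, by omega⟩

theorem sum_decomp (x : GolayPt → ℤ) :
    ∑ i, x i = ∑ i, x i % 4 + 4 * ((∑ i, bb (x i) : ℕ) : ℤ) + 8 * ∑ i, x i / 8 := by
  push_cast
  rw [Finset.mul_sum, Finset.mul_sum, ← Finset.sum_add_distrib, ← Finset.sum_add_distrib]
  apply Finset.sum_congr rfl
  intro i _
  rw [bb_cast]
  omega

theorem sum_res (c : Finset GolayPt) (ra rb : ℤ) :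
    ∑ i : GolayPt, (if i ∈ c then ra else rb) = ra * c.card + rb * (24 - c.card) := by
  have h : ∀ i : GolayPt, (if i ∈ c then ra else rb) = (ra - rb) * (if i ∈ c then (1 : ℤ) else 0) + rb := by
    intro i; split_ifs <;> ring
  rw [Finset.sum_congr rfl (fun i _ => h i), Finset.sum_add_distrib, ← Finset.mul_sum, sum_ind,
    Finset.sum_const, card_pts]
  simp only [nsmul_eq_mul]
  push_cast
  ring

theorem compl_mem {c : Finset GolayPt} (hc : c ∈ Csup) : cᶜ ∈ Csup := by
  have := Cfsg.Agent.Lib.Helper33Golay.supports_symmDiff hc univ_mem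
  have e : symmDiff c univ = cᶜ := by
    ext i; simp [Finset.mem_symmDiff]
  rwa [e] at this

/-- the two admissible patterns of residues -/
def Pat (ra rb : ℤ) (m : ℕ) : Prop := (ra = 2 ∧ rb = 0 ∧ m = 0) ∨ (ra = 1 ∧ rb = 3 ∧ m = 1)

theorem mem_leechSet_of_res {c : Finset GolayPt} (hc : c ∈ Csup) {ra rb : ℤ} {m : ℕ}
    (hp : Pat ra rb m) {x : GolayPt → ℤ} (hx : ∀ i, x i % 4 = if i ∈ c then ra else rb) :
    x ∈ leechSet ↔ (∑ i, bb (x i)) % 2 = m := by
  unfold Pat at hp
  obtain ⟨q, hq⟩ := four_dvd_card hc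
  have hsum : ∑ i, x i = ra * c.card + rb * (24 - c.card) + 4 * ((∑ i, bb (x i) : ℕ) : ℤ)
      + 8 * ∑ i, x i / 8 := by
    rw [sum_decomp x, Finset.sum_congr rfl (fun i _ => hx i), sum_res]
  have hq' : (c.card : ℤ) = 4 * q := by exact_mod_cast hq
  generalize (∑ i, bb (x i)) = B at hsum ⊢
  have hpar : ∀ i, x i % 2 = (m : ℤ) % 2 := by
    intro i
    have := hx i
    split_ifs at this <;> omega
  rw [mem_leechSet_iff]
  constructor
  · rintro ⟨m', h1, h2, _⟩
    have h3 := h1 none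
    have h4 := hpar none
    rcases hp with ⟨rfl, rfl, rfl⟩ | ⟨rfl, rfl, rfl⟩ <;> omega
  · intro h
    refine ⟨m, hpar, ?_, ?_⟩
    · rcases hp with ⟨rfl, rfl, rfl⟩ | ⟨rfl, rfl, rfl⟩ <;> omega
    · intro k
      by_cases k1 : k % 4 = ra
      · have : cls x k = c := by
          ext i
          rw [mem_cls, hx i, k1]
          split_ifs with hi
          · simp [hi]
          · simp only [hi, iff_false]; omega
        rw [this]; exact hc
      · by_cases k2 : k % 4 = rb
        · have : cls x k = cᶜ := by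
            ext i
            rw [mem_cls, hx i, k2, Finset.mem_compl]
            split_ifs with hi
            · simp only [hi, not_true_eq_false, iff_false]; omega
            · simp [hi]
          rw [this]; exact compl_mem hc
        · have : cls x k = ∅ := by
            ext i
            rw [mem_cls, hx i]
            simp only [Finset.notMem_empty, iff_false]
            split_ifs
            · exact fun e => k1 e.symm
            · exact fun e => k2 e.symm
          rw [this]; exact empty_mem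

theorem mem_Vr {r v : ℤ} : v ∈ Vr r ↔ (-8 ≤ v ∧ v ≤ 8) ∧ v % 4 = r := by
  simp only [Vr, Finset.mem_filter, Finset.mem_image, Finset.mem_range]
  constructor
  · rintro ⟨⟨k, hk, rfl⟩, h⟩
    exact ⟨by omega, h⟩
  · rintro ⟨h1, h2⟩
    exact ⟨⟨(v + 8).toNat, by omega, by omega⟩, h2⟩

theorem mem_Fib {c : Finset GolayPt} (hc : c ∈ Csup) {ra rb : ℤ} {m : ℕ} (hp : Pat ra rb m) (n : ℕ)
    (x : GolayPt → ℤ) : x ∈ Fib ra rb m n c ↔
      (∀ i, -8 ≤ x i ∧ x i ≤ 8) ∧ (∀ i, x i % 4 = if i ∈ c then ra else rb) ∧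
        x ∈ leechSet ∧ sqNorm x = n := by
  have hm : m < 2 := by unfold Pat at hp; omega
  unfold Fib
  rw [Finset.mem_filter, Fintype.mem_piFinset, mem_TT_iff x n m hm]
  have h1 : (∀ i, x i ∈ VV c ra rb i) ↔
      (∀ i, -8 ≤ x i ∧ x i ≤ 8) ∧ (∀ i, x i % 4 = if i ∈ c then ra else rb) := by
    rw [← forall_and]
    apply forall_congr'
    intro i
    unfold VV
    split_ifs <;> exact mem_Vr
  rw [h1]
  constructor
  · rintro ⟨⟨a, b⟩, e, f⟩
    exact ⟨a, b, (mem_leechSet_of_res hc hp b).2 f, e⟩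
  · rintro ⟨a, b, e, f⟩
    exact ⟨⟨a, b⟩, f, (mem_leechSet_of_res hc hp b).1 e⟩

theorem card_Vr_le : ∀ r ∈ ({0, 1, 2, 3} : Finset ℤ), (Vr r).card ≤ 5 := by decide

theorem card_Fib (c : Finset GolayPt) {ra rb : ℤ} {m : ℕ} (hp : Pat ra rb m) (n : ℕ) :
    (Fib ra rb m n c).card =
      ∑ E ∈ TT n m, dg 64 (theta ra ^ c.card * theta rb ^ (24 - c.card)) E := by
  unfold Fib
  have ha : (Vr ra).card ≤ 5 := card_Vr_le ra (by
    unfold Pat at hp
    rcases hp with ⟨rfl, _, _⟩ | ⟨rfl, _, _⟩ <;> simp)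
  have hb : (Vr rb).card ≤ 5 := card_Vr_le rb (by
    unfold Pat at hp
    rcases hp with ⟨_, rfl, _⟩ | ⟨_, rfl, _⟩ <;> simp)
  rw [card_filter_mem_eq_sum (VV c ra rb) ee 64]
  · have : ∏ i, ∑ v ∈ VV c ra rb i, 2 ^ (64 * ee v) = theta ra ^ c.card * theta rb ^ (24 - c.card) := by
      have h : ∀ i, ∑ v ∈ VV c ra rb i, 2 ^ (64 * ee v) = if i ∈ c then theta ra else theta rb := by
        intro i
        unfold VV theta
        split_ifs <;> rfl
      rw [Finset.prod_congr rfl (fun i _ => h i), Finset.prod_ite, Finset.prod_const,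
        Finset.prod_const, Finset.filter_mem_eq_inter, Finset.univ_inter, Finset.filter_not,
        Finset.filter_mem_eq_inter, Finset.univ_inter, ← Finset.compl_eq_univ_sdiff,
        Finset.card_compl]
      rfl
    rw [this]
  · calc ∏ i, (VV c ra rb i).card ≤ 5 ^ (Finset.univ : Finset GolayPt).card := by
          apply Finset.prod_le_pow_card
          intro i _
          unfold VV
          split_ifs
          · exact ha
          · exact hb
      _ < 2 ^ 64 := by rw [card_pts]; norm_num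

/-! ### the decomposition of the set of vectors of given norm -/

/-- the supports of the code words, as a finset -/
def CF : Finset (Finset GolayPt) := (codeL.map dec).toFinset

theorem mem_CF {c : Finset GolayPt} : c ∈ CF ↔ c ∈ Csup := by
  unfold CF
  rw [List.mem_toFinset, List.mem_map]
  constructor
  · rintro ⟨m, hm, rfl⟩
    exact Cfsg.Agent.Lib.Helper33Golay.dec_mem_supports (Cfsg.Agent.Lib.Helper33Golay.mem_codeL.1 hm)
  · intro hc
    exact ⟨enc c, Cfsg.Agent.Lib.Helper33Golay.mem_codeL.2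
      ((Cfsg.Agent.Lib.Helper33Golay.mem_supports_iff c).1 hc), Cfsg.Agent.Lib.Helper33Golay.dec_enc c⟩

def SF (n : ℕ) : Finset (GolayPt → ℤ) := CF.biUnion (Fib 2 0 0 n) ∪ CF.biUnion (Fib 1 3 1 n)

theorem pat0 : Pat 2 0 0 := Or.inl ⟨rfl, rfl, rfl⟩
theorem pat1 : Pat 1 3 1 := Or.inr ⟨rfl, rfl, rfl⟩

theorem bound_of_norm {x : GolayPt → ℤ} {n : ℕ} (hn : n ≤ 64) (hx : sqNorm x = n) (i : GolayPt) :
    -8 ≤ x i ∧ x i ≤ 8 := by
  have h1 : x i ^ 2 ≤ sqNorm x :=
    Finset.single_le_sum (f := fun i => x i ^ 2) (fun j _ => sq_nonneg _) (Finset.mem_univ i)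
  have h2 : x i ^ 2 ≤ 64 := by
    rw [hx] at h1
    have : (n : ℤ) ≤ 64 := by exact_mod_cast hn
    omega
  constructor <;> nlinarith

theorem coe_SF (n : ℕ) (hn : n ≤ 64) :
    {x : GolayPt → ℤ | x ∈ leechLattice ∧ sqNorm x = n} = ↑(SF n) := by
  ext x
  simp only [Set.mem_ofPred_eq, SF, Finset.coe_union, Finset.coe_biUnion, Set.mem_union,
    Set.mem_iUnion, Finset.mem_coe, exists_prop]
  rw [mem_leechLattice_iff]
  constructor
  · rintro ⟨hx, hnorm⟩
    have hb := bound_of_norm hn hnorm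
    obtain ⟨m, h1, _, h3⟩ := (mem_leechSet_iff x).1 hx
    rcases Int.emod_two_eq_zero_or_one m with hm | hm
    · left
      refine ⟨cls x 2, mem_CF.2 (h3 2), (mem_Fib (h3 2) pat0 n x).2 ⟨hb, ?_, hx, hnorm⟩⟩
      intro i
      have := h1 i
      by_cases hi : i ∈ cls x 2
      · rw [if_pos hi]; rw [mem_cls] at hi; omega
      · rw [if_neg hi]; rw [mem_cls] at hi; omega
    · right
      refine ⟨cls x 1, mem_CF.2 (h3 1), (mem_Fib (h3 1) pat1 n x).2 ⟨hb, ?_, hx, hnorm⟩⟩
      intro i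
      have := h1 i
      by_cases hi : i ∈ cls x 1
      · rw [if_pos hi]; rw [mem_cls] at hi; omega
      · rw [if_neg hi]; rw [mem_cls] at hi; omega
  · rintro (⟨c, hc, hx⟩ | ⟨c, hc, hx⟩)
    · have := (mem_Fib (mem_CF.1 hc) pat0 n x).1 hx
      exact ⟨this.2.2.1, this.2.2.2⟩
    · have := (mem_Fib (mem_CF.1 hc) pat1 n x).1 hx
      exact ⟨this.2.2.1, this.2.2.2⟩

theorem Fib_disjoint {ra rb : ℤ} {m : ℕ} (hp : Pat ra rb m) (n : ℕ) {c c' : Finset GolayPt}
    (hc : c ∈ Csup) (hc' : c' ∈ Csup) (hne : c ≠ c') :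
    Disjoint (Fib ra rb m n c) (Fib ra rb m n c') := by
  rw [Finset.disjoint_left]
  intro x hx hx'
  apply hne
  have h1 := ((mem_Fib hc hp n x).1 hx).2.1
  have h2 := ((mem_Fib hc' hp n x).1 hx').2.1
  have hab : ra ≠ rb := by unfold Pat at hp; omega
  ext i
  have e := (h1 i).symm.trans (h2 i)
  by_cases a : i ∈ c <;> by_cases b : i ∈ c' <;> simp only [a, b, if_true, if_false] at e ⊢
  · exact absurd e hab
  · exact absurd e.symm hab

def fe (n w : ℕ) : ℕ := ∑ E ∈ TT n 0, dg 64 (theta 2 ^ w * theta 0 ^ (24 - w)) E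
def fo (n w : ℕ) : ℕ := ∑ E ∈ TT n 1, dg 64 (theta 1 ^ w * theta 3 ^ (24 - w)) E

theorem card_SFg (C : Finset (Finset GolayPt)) (hC : ∀ c ∈ C, c ∈ Csup) (n : ℕ) :
    (C.biUnion (Fib 2 0 0 n) ∪ C.biUnion (Fib 1 3 1 n)).card =
      ∑ c ∈ C, (fe n c.card + fo n c.card) := by
  have e0 : ∀ c ∈ C, (Fib 2 0 0 n c).card = fe n c.card := fun c _ => card_Fib c pat0 n
  have e1 : ∀ c ∈ C, (Fib 1 3 1 n c).card = fo n c.card := fun c _ => card_Fib c pat1 n
  have hd : Disjoint (C.biUnion (Fib 2 0 0 n)) (C.biUnion (Fib 1 3 1 n)) := by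
    rw [Finset.disjoint_left]
    intro x hx hx'
    obtain ⟨c, hc, h⟩ := Finset.mem_biUnion.1 hx
    obtain ⟨c', hc', h'⟩ := Finset.mem_biUnion.1 hx'
    have h1 := ((mem_Fib (hC c hc) pat0 n x).1 h).2.1 none
    have h2 := ((mem_Fib (hC c' hc') pat1 n x).1 h').2.1 none
    split_ifs at h1 h2 <;> omega
  rw [Finset.card_union_of_disjoint hd,
    Finset.card_biUnion (fun c hc c' hc' hne => Fib_disjoint pat0 n (hC c hc) (hC c' hc') hne),
    Finset.card_biUnion (fun c hc c' hc' hne => Fib_disjoint pat1 n (hC c hc) (hC c' hc') hne),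
    Finset.sum_add_distrib, Finset.sum_congr rfl e0, Finset.sum_congr rfl e1]

theorem card_SF (n : ℕ) : (SF n).card = ∑ c ∈ CF, (fe n c.card + fo n c.card) :=
  card_SFg CF (fun _ hc => mem_CF.1 hc) n

theorem sum_by_weight (f : ℕ → ℕ) (L : List ℕ)
    (h : ∀ m ∈ L, pop m = 0 ∨ pop m = 8 ∨ pop m = 12 ∨ pop m = 16 ∨ pop m = 24) :
    (L.map (fun m => f (pop m))).sum =
      L.countP (fun m => Nat.beq (pop m) 0) * f 0 + L.countP (fun m => Nat.beq (pop m) 8) * f 8 +
      L.countP (fun m => Nat.beq (pop m) 12) * f 12 + L.countP (fun m => Nat.beq (pop m) 16) * f 16 +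
      L.countP (fun m => Nat.beq (pop m) 24) * f 24 := by
  induction L with
  | nil => simp
  | cons a t ih =>
    have ih' := ih (fun m hm => h m (List.mem_cons_of_mem _ hm))
    rw [List.map_cons, List.sum_cons, ih']
    simp only [List.countP_cons]
    rcases h a (by simp) with e | e | e | e | e <;> rw [e] <;>
      simp only [Nat.beq_refl, if_true, show Nat.beq 0 8 = false from rfl,
        show Nat.beq 0 12 = false from rfl, show Nat.beq 0 16 = false from rfl,
        show Nat.beq 0 24 = false from rfl, show Nat.beq 8 0 = false from rfl,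
        show Nat.beq 8 12 = false from rfl, show Nat.beq 8 16 = false from rfl,
        show Nat.beq 8 24 = false from rfl, show Nat.beq 12 0 = false from rfl,
        show Nat.beq 12 8 = false from rfl, show Nat.beq 12 16 = false from rfl,
        show Nat.beq 12 24 = false from rfl, show Nat.beq 16 0 = false from rfl,
        show Nat.beq 16 8 = false from rfl, show Nat.beq 16 12 = false from rfl,
        show Nat.beq 16 24 = false from rfl, show Nat.beq 24 0 = false from rfl,
        show Nat.beq 24 8 = false from rfl, show Nat.beq 24 12 = false from rfl,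
        show Nat.beq 24 16 = false from rfl, Bool.false_eq_true, if_false] <;> ring

set_option maxRecDepth 100000 in
theorem wts_count : codeL.countP (fun m => Nat.beq (pop m) 0) = 1 ∧
    codeL.countP (fun m => Nat.beq (pop m) 8) = 759 ∧
    codeL.countP (fun m => Nat.beq (pop m) 12) = 2576 ∧
    codeL.countP (fun m => Nat.beq (pop m) 16) = 759 ∧
    codeL.countP (fun m => Nat.beq (pop m) 24) = 1 := by decide +kernel

theorem sum_CF (f : ℕ → ℕ) :
    ∑ c ∈ CF, f c.card = f 0 + 759 * f 8 + 2576 * f 12 + 759 * f 16 + f 24 := by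
  unfold CF
  have hnd : (codeL.map dec).Nodup :=
    List.Nodup.map_on (fun a ha b hb h => Cfsg.Agent.Lib.Helper33Golay.dec_injOn
      (Cfsg.Agent.Lib.Helper33Golay.isCode_lt (Cfsg.Agent.Lib.Helper33Golay.mem_codeL.1 ha))
      (Cfsg.Agent.Lib.Helper33Golay.isCode_lt (Cfsg.Agent.Lib.Helper33Golay.mem_codeL.1 hb)) h)
      Cfsg.Agent.Lib.Helper33Golay.codeL_nodup
  rw [List.sum_toFinset _ hnd, List.map_map]
  have e : ((fun c : Finset GolayPt => f c.card) ∘ dec) = fun m => f (pop m) := by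
    funext m
    simp [Cfsg.Agent.Lib.Helper33Golay.card_dec]
  rw [e, sum_by_weight f codeL (fun m hm => Cfsg.Agent.Lib.Helper33Golay.isCode_weights
    (Cfsg.Agent.Lib.Helper33Golay.mem_codeL.1 hm))]
  obtain ⟨c0, c8, c12, c16, c24⟩ := wts_count
  rw [c0, c8, c12, c16, c24]
  ring

def tot (n : ℕ) : ℕ := (fe n 0 + fo n 0) + 759 * (fe n 8 + fo n 8) + 2576 * (fe n 12 + fo n 12) +
  759 * (fe n 16 + fo n 16) + (fe n 24 + fo n 24)

/-- the number of lattice vectors of given small norm -/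
theorem ncard_norm (n : ℕ) (hn : n ≤ 64) :
    {x : GolayPt → ℤ | x ∈ leechLattice ∧ sqNorm x = n}.ncard = tot n := by
  rw [coe_SF n hn, Set.ncard_coe_finset, card_SF, sum_CF (fun w => fe n w + fo n w)]
  rfl

theorem tot64 : tot 64 = 398034000 := by decide +kernel
theorem tot48 : tot 48 = 16773120 := by decide +kernel
theorem tot32 : tot 32 = 196560 := by decide +kernel

end Cfsg.Agent.Lib.Helper93LeechCount
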