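import Cfsg.Agent.Lib.Helper93LeechBasis
import Cfsg.Agent.Lib.Helper93LeechCount
import Cfsg.Agent.S1588

/-!
# The rank-24 lattice modulo its double (helper93)

Transfer of the abstract counting argument (`S1588`) to the concrete lattice through the basis `Mx`.
-/

set_option autoImplicit false

namespace Cfsg.Agent.Lib.Helper93LeechMod2

open Cfsg Matrix
open Cfsg.Agent.Lib.Helper93LeechBasis Cfsg.Agent.S1588

/-- every class modulo two contains a short vector (abstract version) -/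
theorem exists_short (B : Matrix (Fin 24) (Fin 24) ℤ) (hsymm : B.IsSymm)
    (hpos : ∀ x : Fin 24 → ℤ, x ≠ 0 → 0 < x ⬝ᵥ (B *ᵥ x))
    (heven : ∀ x : Fin 24 → ℤ, (2 : ℤ) ∣ x ⬝ᵥ (B *ᵥ x))
    (h2 : ∀ x : Fin 24 → ℤ, x ⬝ᵥ (B *ᵥ x) ≠ 2)
    (h4 : {x : Fin 24 → ℤ | x ⬝ᵥ (B *ᵥ x) = 4}.ncard = 196560)
    (h6 : {x : Fin 24 → ℤ | x ⬝ᵥ (B *ᵥ x) = 6}.ncard = 16773120)
    (h8 : {x : Fin 24 → ℤ | x ⬝ᵥ (B *ᵥ x) = 8}.ncard = 398034000) (x : Fin 24 → ℤ) :
    ∃ y : Fin 24 → ℤ, y ⬝ᵥ (B *ᵥ y) ≤ 8 ∧ ∀ i, (2 : ℤ) ∣ (x - y) i := by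
  classical
  have fin4 : {x : Fin 24 → ℤ | x ⬝ᵥ (B *ᵥ x) = 4}.Finite :=
    Set.finite_of_ncard_ne_zero (by rw [h4]; norm_num)
  have fin6 : {x : Fin 24 → ℤ | x ⬝ᵥ (B *ᵥ x) = 6}.Finite :=
    Set.finite_of_ncard_ne_zero (by rw [h6]; norm_num)
  have fin8 : {x : Fin 24 → ℤ | x ⬝ᵥ (B *ᵥ x) = 8}.Finite :=
    Set.finite_of_ncard_ne_zero (by rw [h8]; norm_num)
  set F4 := fin4.toFinset with hF4
  set F6 := fin6.toFinset with hF6
  set F8 := fin8.toFinset with hF8
  have m4 : ∀ y, y ∈ F4 ↔ b B y y = 4 := fun y => by simp [hF4, b]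
  have m6 : ∀ y, y ∈ F6 ↔ b B y y = 6 := fun y => by simp [hF6, b]
  have m8 : ∀ y, y ∈ F8 ↔ b B y y = 8 := fun y => by simp [hF8, b]
  have c4 : F4.card = 196560 := by rw [← h4, Set.ncard_eq_toFinset_card _ fin4]
  have c6 : F6.card = 16773120 := by rw [← h6, Set.ncard_eq_toFinset_card _ fin6]
  have c8 : F8.card = 398034000 := by rw [← h8, Set.ncard_eq_toFinset_card _ fin8]
  have b00 : b B 0 0 = 0 := b_zero_right B 0
  have bpos : ∀ y : Vc, b B y y = 0 → y = 0 := by
    intro y hy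
    by_contra hne
    have := hpos y hne
    unfold b at hy
    omega
  set S : Finset Vc := (({0} ∪ F4) ∪ F6) ∪ F8 with hS
  have mS : ∀ y, y ∈ S ↔ y = 0 ∨ b B y y = 4 ∨ b B y y = 6 ∨ b B y y = 8 := by
    intro y
    simp only [hS, Finset.mem_union, Finset.mem_singleton, m4, m6, m8]
    tauto
  have hS8 : ∀ y ∈ S, b B y y ≤ 8 := by
    intro y hy
    rcases (mS y).1 hy with rfl | h | h | h
    · rw [b00]; norm_num
    all_goals omega
  -- total weight
  have htot : ∑ y ∈ S, wt B y = 48 * 2 ^ 24 := by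
    rw [hS, Finset.sum_union, Finset.sum_union, Finset.sum_union, Finset.sum_singleton]
    · have w0 : wt B 0 = 48 := by simp [wt, b00]
      have w4 : ∑ y ∈ F4, wt B y = 24 * F4.card := by
        rw [Finset.sum_congr rfl (fun y hy => (by
          have := (m4 y).1 hy
          simp [wt, this] : wt B y = 24)), Finset.sum_const, smul_eq_mul, mul_comm]
      have w6 : ∑ y ∈ F6, wt B y = 24 * F6.card := by
        rw [Finset.sum_congr rfl (fun y hy => (by
          have := (m6 y).1 hy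
          simp [wt, this] : wt B y = 24)), Finset.sum_const, smul_eq_mul, mul_comm]
      have w8 : ∑ y ∈ F8, wt B y = F8.card := by
        rw [Finset.sum_congr rfl (fun y hy => (by
          have := (m8 y).1 hy
          simp [wt, this] : wt B y = 1)), Finset.sum_const, smul_eq_mul, mul_one]
      rw [w0, w4, w6, w8, c4, c6, c8]
      norm_num
    · rw [Finset.disjoint_left]
      intro y hy hy'
      rw [Finset.mem_singleton] at hy
      rw [m4, hy, b00] at hy'
      omega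
    · rw [Finset.disjoint_left]
      intro y hy hy'
      rw [m6] at hy'
      rcases Finset.mem_union.1 hy with hy | hy
      · rw [Finset.mem_singleton] at hy
        rw [hy, b00] at hy'
        omega
      · rw [m4] at hy; omega
    · rw [Finset.disjoint_left]
      intro y hy hy'
      rw [m8] at hy'
      rcases Finset.mem_union.1 hy with hy | hy
      · rcases Finset.mem_union.1 hy with hy | hy
        · rw [Finset.mem_singleton] at hy
          rw [hy, b00] at hy'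
          omega
        · rw [m4] at hy; omega
      · rw [m6] at hy; omega
  have hkey := fun {u v : Vc} => key (x := u) (y := v) hsymm hpos heven h2
  -- bound on each fibre
  have hfib : ∀ c ∈ (Finset.univ : Finset (Fin 24 → ZMod 2)),
      ∑ y ∈ S with red y = c, wt B y ≤ 48 := by
    intro c _
    by_cases hall : ∀ y ∈ S.filter (fun y => red y = c), b B y y = 8
    · -- all of norm 8
      rw [Finset.sum_congr rfl (fun y hy => (by
          have := hall y hy
          simp [wt, this] : wt B y = 1)), Finset.sum_const, smul_eq_mul, mul_one]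
      apply card_le_48 (B := B)
      · intro y hy; rw [hall y hy]; norm_num
      · intro u hu v hv
        by_cases e1 : u = v
        · left; exact e1
        by_cases e2 : u = -v
        · right; left; exact e2
        right; right
        have hu' := Finset.mem_filter.1 hu
        have hv' := Finset.mem_filter.1 hv
        exact (hkey (hS8 u hu'.1) (hS8 v hv'.1) (hu'.2.trans hv'.2.symm) e1 e2).2.2
    · push Not at hall
      obtain ⟨u, hu, hu8⟩ := hall
      have hu' := Finset.mem_filter.1 hu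
      have hsub : S.filter (fun y => red y = c) ⊆ {u, -u} := by
        intro v hv
        have hv' := Finset.mem_filter.1 hv
        by_contra hc
        simp only [Finset.mem_insert, Finset.mem_singleton, not_or] at hc
        have e2 : u ≠ -v := fun h => hc.2 (by rw [h, neg_neg])
        exact hu8 (hkey (hS8 u hu'.1) (hS8 v hv'.1) (hu'.2.trans hv'.2.symm) (Ne.symm hc.1) e2).1
      by_cases hu0 : u = 0
      · subst hu0
        calc ∑ y ∈ S with red y = c, wt B y ≤ ∑ y ∈ ({0, -0} : Finset Vc), wt B y :=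
              Finset.sum_le_sum_of_subset hsub
          _ = 48 := by simp [wt, b00]
      · have hw : wt B u = 24 := by
          have : b B u u ≠ 0 := fun h => hu0 (bpos u h)
          simp [wt, this, hu8]
        have hw' : wt B (-u) = 24 := by
          have : b B (-u) (-u) = b B u u := by rw [b_neg_left, b_neg_right, neg_neg]
          simp only [wt, this] at hw ⊢
          exact hw
        calc ∑ y ∈ S with red y = c, wt B y ≤ ∑ y ∈ ({u, -u} : Finset Vc), wt B y :=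
              Finset.sum_le_sum_of_subset hsub
          _ ≤ wt B u + wt B (-u) := by
              by_cases e : u = -u
              · rw [← e]; simp
              · rw [Finset.sum_pair e]
          _ = 48 := by rw [hw, hw']
  have hsum : ∑ c : Fin 24 → ZMod 2, ∑ y ∈ S with red y = c, wt B y
      = ∑ _c : Fin 24 → ZMod 2, 48 := by
    rw [Finset.sum_fiberwise, htot, Finset.sum_const, Finset.card_univ]
    simp
  have heq := (Finset.sum_eq_sum_iff_of_le hfib).1 hsum (red x) (Finset.mem_univ _)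
  have hne : (S.filter (fun y => red y = red x)).Nonempty := by
    by_contra hemp
    rw [Finset.not_nonempty_iff_eq_empty] at hemp
    rw [hemp, Finset.sum_empty] at heq
    omega
  obtain ⟨y, hy⟩ := hne
  have hy' := Finset.mem_filter.1 hy
  exact ⟨y, hS8 y hy'.1, (red_eq_iff x y).1 hy'.2.symm⟩

/-! ### the hypotheses for the Gram matrix -/

theorem q_eq (x : Fin 24 → ℤ) : sqNorm (Mx *ᵥ x) = 8 * (x ⬝ᵥ (Gram *ᵥ x)) := sqNorm_mulVec x

theorem mulVec_ne_zero {x : Fin 24 → ℤ} (hx : x ≠ 0) : Mx *ᵥ x ≠ 0 := by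
  intro h
  apply hx
  apply Mx_inj
  show Mx *ᵥ x = Mx *ᵥ 0
  rw [h, Matrix.mulVec_zero]

theorem hpos (x : Fin 24 → ℤ) (hx : x ≠ 0) : 0 < x ⬝ᵥ (Gram *ᵥ x) := by
  have h1 := Cfsg.Agent.Lib.Helper94Leech.sqNorm_pos (mulVec_ne_zero hx)
  rw [q_eq] at h1
  omega

theorem heven (x : Fin 24 → ℤ) : (2 : ℤ) ∣ x ⬝ᵥ (Gram *ᵥ x) := by
  have h1 := Cfsg.Agent.Lib.Helper94Leech.sixteen_dvd
    ((Cfsg.Agent.Lib.Helper94Leech.mem_leechLattice_iff _).1 (mulVec_mem x))
  rw [q_eq] at h1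
  omega

theorem h2 (x : Fin 24 → ℤ) : x ⬝ᵥ (Gram *ᵥ x) ≠ 2 := by
  intro h
  have hx : x ≠ 0 := by
    rintro rfl
    simp at h
  have h1 := Cfsg.Agent.Lib.Helper94Leech.min_norm
    ((Cfsg.Agent.Lib.Helper94Leech.mem_leechLattice_iff _).1 (mulVec_mem x)) (mulVec_ne_zero hx)
  rw [q_eq] at h1
  omega

theorem image_norm (k : ℤ) : (fun x : Fin 24 → ℤ => Mx *ᵥ x) '' {x | x ⬝ᵥ (Gram *ᵥ x) = k}
    = {v : GolayPt → ℤ | v ∈ leechLattice ∧ sqNorm v = 8 * k} := by
  ext v
  constructor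
  · rintro ⟨x, hx, rfl⟩
    refine ⟨mulVec_mem x, ?_⟩
    show sqNorm (Mx *ᵥ x) = 8 * k
    rw [q_eq, hx]
  · rintro ⟨hv, hn⟩
    obtain ⟨x, rfl⟩ := exists_of_mem hv
    refine ⟨x, ?_, rfl⟩
    rw [q_eq] at hn
    show x ⬝ᵥ (Gram *ᵥ x) = k
    omega

theorem ncard_q (k : ℤ) : {x : Fin 24 → ℤ | x ⬝ᵥ (Gram *ᵥ x) = k}.ncard
    = {v : GolayPt → ℤ | v ∈ leechLattice ∧ sqNorm v = 8 * k}.ncard := by
  rw [← image_norm, Set.ncard_image_of_injective _ Mx_inj]

theorem h4 : {x : Fin 24 → ℤ | x ⬝ᵥ (Gram *ᵥ x) = 4}.ncard = 196560 := by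
  rw [ncard_q]
  have h := Cfsg.Agent.Lib.Helper93LeechCount.ncard_norm 32 (by norm_num)
  rw [Cfsg.Agent.Lib.Helper93LeechCount.tot32] at h
  exact_mod_cast h

theorem h6 : {x : Fin 24 → ℤ | x ⬝ᵥ (Gram *ᵥ x) = 6}.ncard = 16773120 := by
  rw [ncard_q]
  have h := Cfsg.Agent.Lib.Helper93LeechCount.ncard_norm 48 (by norm_num)
  rw [Cfsg.Agent.Lib.Helper93LeechCount.tot48] at h
  exact_mod_cast h

theorem h8 : {x : Fin 24 → ℤ | x ⬝ᵥ (Gram *ᵥ x) = 8}.ncard = 398034000 := by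
  rw [ncard_q]
  have h := Cfsg.Agent.Lib.Helper93LeechCount.ncard_norm 64 (by norm_num)
  rw [Cfsg.Agent.Lib.Helper93LeechCount.tot64] at h
  exact_mod_cast h

/-- congruence modulo the double of the lattice, in coordinates -/
theorem congr_iff (x y : Fin 24 → ℤ) :
    (∃ z ∈ leechLattice, Mx *ᵥ x - Mx *ᵥ y = 2 • z) ↔ ∀ i, (2 : ℤ) ∣ (x - y) i := by
  constructor
  · rintro ⟨z, hz, h⟩
    obtain ⟨w, rfl⟩ := exists_of_mem hz
    have h1 : Mx *ᵥ (x - y) = Mx *ᵥ ((2 : ℤ) • w) := by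
      rw [Matrix.mulVec_sub, h, Matrix.mulVec_smul, two_smul, two_smul]
    have h3 : x - y = (2 : ℤ) • w := Mx_inj h1
    intro i
    rw [h3]
    exact ⟨w i, by simp⟩
  · intro h
    choose w hw using h
    refine ⟨Mx *ᵥ w, mulVec_mem w, ?_⟩
    have h3 : x - y = (2 : ℤ) • w := by
      funext i
      rw [hw i]; simp
    rw [← Matrix.mulVec_sub, h3, Matrix.mulVec_smul, two_smul, two_smul]

theorem cross_card (x : GolayPt → ℤ) (hx : x ∈ leechLattice) (hxn : sqNorm x = 64) :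
    (cross x).ncard = 48 := by
  obtain ⟨x0, rfl⟩ := exists_of_mem hx
  have hx8 : x0 ⬝ᵥ (Gram *ᵥ x0) = 8 := by
    rw [q_eq] at hxn; omega
  have h := Cfsg.Agent.S1588.result Gram Gram_symm hpos heven h2 h4 h6 h8 x0 hx8
  rw [← h, ← Set.ncard_image_of_injective _ Mx_inj]
  congr 1
  ext v
  constructor
  · rintro ⟨hv, hn, hz⟩
    obtain ⟨y, rfl⟩ := exists_of_mem hv
    refine ⟨y, ⟨?_, (congr_iff x0 y).1 hz⟩, rfl⟩
    rw [hxn, q_eq] at hn
    omega
  · rintro ⟨y, ⟨hy, hd⟩, rfl⟩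
    refine ⟨mulVec_mem y, ?_, (congr_iff x0 y).2 hd⟩
    show sqNorm (Mx *ᵥ y) = _
    rw [hxn, q_eq, hy]
    norm_num

theorem mod_two_rep (x : GolayPt → ℤ) (hx : x ∈ leechLattice) :
    ∃ y ∈ leechLattice, sqNorm y ≤ 64 ∧ ∃ z ∈ leechLattice, x - y = 2 • z := by
  obtain ⟨x0, rfl⟩ := exists_of_mem hx
  obtain ⟨y, hy, hd⟩ := exists_short Gram Gram_symm hpos heven h2 h4 h6 h8 x0
  refine ⟨Mx *ᵥ y, mulVec_mem y, ?_, (congr_iff x0 y).2 hd⟩
  rw [q_eq]
  omega

end Cfsg.Agent.Lib.Helper93LeechMod2
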