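import Cfsg.Agent.S1571
import Cfsg.Agent.S1569
import Cfsg.Agent.S0396
import Cfsg.Agent.S5592

/-!
# The order of the automorphism group of the rank-24 lattice (helper10)
orbit-stabiliser on the set of crosses
-/

set_option autoImplicit false

namespace Cfsg.Agent.Lib.Helper10Co0

open Cfsg
open scoped Pointwise
open Cfsg.Agent.S5546 (e8 dot_map toAdd toAdd_apply)

/-- counting the classes of a partition into parts of equal size -/
theorem ncard_classes {A : Type*} (S : Set A) (hS : S.Finite) (c : A → Set A) (k : ℕ)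
    (h1 : ∀ v ∈ S, c v ⊆ S) (h2 : ∀ v ∈ S, (c v).ncard = k) (h3 : ∀ v ∈ S, v ∈ c v)
    (h4 : ∀ v ∈ S, ∀ y ∈ c v, c y = c v) : S.ncard = k * (c '' S).ncard := by
  classical
  have e1 : S.ncard = hS.toFinset.card := Set.ncard_eq_toFinset_card S hS
  have e2 : (c '' S) = ↑(hS.toFinset.image c) := by
    rw [Finset.coe_image, Set.Finite.coe_toFinset]
  rw [e1, e2, Set.ncard_coe_finset, Finset.card_eq_sum_card_image c hS.toFinset,
    Finset.sum_const_nat (m := k), mul_comm]
  intro b hb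
  obtain ⟨v, hv, rfl⟩ := Finset.mem_image.1 hb
  have hv' : v ∈ S := hS.mem_toFinset.1 hv
  rw [← h2 v hv', ← Set.ncard_coe_finset]
  congr 1
  ext y
  simp only [Finset.coe_filter, Set.Finite.mem_toFinset, Set.mem_ofPred_eq]
  constructor
  · rintro ⟨hy, hyv⟩
    rw [← hyv]; exact h3 y hy
  · intro hy
    exact ⟨h1 v hv' hy, h4 v hv' y hy⟩

/-- the class of `v` modulo twice the lattice among the vectors of the same norm -/
def cl (v : ↥leechLattice) : Set ↥leechLattice :=
  {y | (y : GolayPt → ℤ) ∈ cross (v : GolayPt → ℤ)}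

theorem mem_cl {v y : ↥leechLattice} : y ∈ cl v ↔ sqNorm (y : GolayPt → ℤ) = sqNorm (v : GolayPt → ℤ)
    ∧ ∃ z : ↥leechLattice, v - y = 2 • z := by
  constructor
  · rintro ⟨-, h1, z, hz, h2⟩
    exact ⟨h1, ⟨z, hz⟩, Subtype.ext h2⟩
  · rintro ⟨h1, z, h2⟩
    exact ⟨y.2, h1, z.1, z.2, congrArg Subtype.val h2⟩

theorem ncard_cl (v : ↥leechLattice) (hv : sqNorm (v : GolayPt → ℤ) = 64) : (cl v).ncard = 48 := by
  rw [← Cfsg.Agent.S1569.result v.1 v.2 hv]
  apply Set.ncard_preimage_of_injective_subset_range Subtype.val_injective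
  intro y hy
  exact ⟨⟨y, hy.1⟩, rfl⟩

theorem self_mem_cl (v : ↥leechLattice) : v ∈ cl v := mem_cl.2 ⟨rfl, 0, by simp⟩

theorem cl_eq_of_mem {v y : ↥leechLattice} (hy : y ∈ cl v) : cl y = cl v := by
  obtain ⟨h1, z, hz⟩ := mem_cl.1 hy
  ext w
  rw [mem_cl, mem_cl, h1]
  constructor
  · rintro ⟨h2, z', hz'⟩
    refine ⟨h2, z + z', ?_⟩
    rw [smul_add, ← hz, ← hz']; abel
  · rintro ⟨h2, z', hz'⟩
    refine ⟨h2, z' - z, ?_⟩
    rw [smul_sub, ← hz, ← hz']; abel

theorem smul_mem_cl (g : ↥Co0) {v y : ↥leechLattice} (hy : y ∈ cl v) : g • y ∈ cl (g • v) := by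
  obtain ⟨h1, z, hz⟩ := mem_cl.1 hy
  refine mem_cl.2 ⟨?_, g • z, ?_⟩
  · show sqNorm ((g.1 y : ↥leechLattice) : GolayPt → ℤ) = sqNorm ((g.1 v : ↥leechLattice) : GolayPt → ℤ)
    rw [g.2.2, g.2.2, h1]
  · show g.1 v - g.1 y = 2 • g.1 z
    rw [← toAdd_apply g.1 g.2, ← toAdd_apply g.1 g.2, ← toAdd_apply g.1 g.2, ← map_sub, hz,
      map_nsmul]

theorem smul_cl (g : ↥Co0) (v : ↥leechLattice) : g • cl v = cl (g • v) := by
  ext y
  rw [Set.mem_smul_set_iff_inv_smul_mem]
  constructor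
  · intro h
    have := smul_mem_cl g h
    rwa [smul_inv_smul] at this
  · intro h
    have := smul_mem_cl g⁻¹ h
    rwa [inv_smul_smul] at this


theorem four_mem (a b : GolayPt) (s t : ℤ) (hs : s = 4 ∨ s = -4) (ht : t = 4 ∨ t = -4) :
    (Pi.single a s + Pi.single b t : GolayPt → ℤ) ∈ leechLattice := by
  apply AddSubgroup.subset_closure
  apply Cfsg.Spor.mem_leechSet_of_const_mod_four _ 0 0 (by decide)
  · intro i
    have h1 : (Pi.single a s : GolayPt → ℤ) i ≡ 0 [ZMOD 4] := by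
      by_cases h : i = a
      · subst h
        rw [Pi.single_eq_same]
        rcases hs with rfl | rfl <;> decide
      · rw [Pi.single_eq_of_ne h]
    have h2 : (Pi.single b t : GolayPt → ℤ) i ≡ 0 [ZMOD 4] := by
      by_cases h : i = b
      · subst h
        rw [Pi.single_eq_same]
        rcases ht with rfl | rfl <;> decide
      · rw [Pi.single_eq_of_ne h]
    exact h1.add h2
  · simp only [Pi.add_apply]
    rw [Finset.sum_add_distrib, Finset.sum_pi_single', Finset.sum_pi_single']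
    simp only [Finset.mem_univ, if_true]
    rcases hs with rfl | rfl <;> rcases ht with rfl | rfl <;> decide

/-- the standard cross inside the lattice -/
def X0 : Set ↥leechLattice := {v | (v : GolayPt → ℤ) ∈ stdCross}

theorem sqNorm_single (i : GolayPt) (s : ℤ) : sqNorm (Pi.single i s : GolayPt → ℤ) = s ^ 2 := by
  simp only [sqNorm]
  rw [Finset.sum_eq_single i]
  · simp
  · intro b _ hb
    simp [Pi.single_eq_of_ne hb]
  · simp

theorem sqNorm_e8 (j : GolayPt) : sqNorm ((e8 j : ↥leechLattice) : GolayPt → ℤ) = 64 := by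
  show sqNorm (Pi.single j 8 : GolayPt → ℤ) = 64
  rw [sqNorm_single]; norm_num

theorem X0_subset : X0 ⊆ cl (e8 none) := by
  rintro ⟨v, hv⟩ ⟨i, s, hs, rfl⟩
  refine ⟨hv, ?_, ?_⟩
  · rw [sqNorm_e8]
    show sqNorm (Pi.single i s : GolayPt → ℤ) = 64
    rw [sqNorm_single]
    rcases hs with rfl | rfl <;> norm_num
  · show ∃ z ∈ leechLattice, (Pi.single none 8 : GolayPt → ℤ) - Pi.single i s = 2 • z
    rcases hs with rfl | rfl
    · refine ⟨_, four_mem none i 4 (-4) (Or.inl rfl) (Or.inr rfl), ?_⟩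
      rw [smul_add, ← Pi.single_smul, ← Pi.single_smul, sub_eq_add_neg, ← Pi.single_neg]
      norm_num
    · refine ⟨_, four_mem none i 4 4 (Or.inl rfl) (Or.inl rfl), ?_⟩
      rw [smul_add, ← Pi.single_smul, ← Pi.single_smul, sub_eq_add_neg, ← Pi.single_neg]
      norm_num

theorem e8_mem_X0 (j : GolayPt) : e8 j ∈ X0 := ⟨j, 8, Or.inl rfl, rfl⟩

theorem X0_eq : X0 = cl (e8 none) := by
  apply Set.Subset.antisymm X0_subset
  intro y hy
  have h1 : ∀ j, y = e8 j ∨ y = - e8 j ∨ y.1 j = 0 := by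
    intro j
    have h2 : y ∈ cl (e8 j) := by rw [cl_eq_of_mem (X0_subset (e8_mem_X0 j))]; exact hy
    by_cases hne : e8 j = y
    · exact Or.inl hne.symm
    obtain ⟨-, h3, h4⟩ := h2
    rcases Cfsg.Agent.S5592.result (e8 j).1 y.1 (e8 j).2 y.2 (fun h => hne (Subtype.ext h))
      (sqNorm_e8 j).le (by rw [h3, sqNorm_e8]) h4 with h5 | ⟨-, -, h5⟩
    · refine Or.inr (Or.inl ?_)
      apply Subtype.ext
      show y.1 = - (e8 j).1
      rw [h5, neg_neg]
    · refine Or.inr (Or.inr ?_)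
      have h6 : dotInt (e8 j).1 y.1 = 8 * y.1 j := by
        show dotInt (Pi.single j 8 : GolayPt → ℤ) y.1 = 8 * y.1 j
        simp only [dotInt]
        rw [Finset.sum_eq_single j]
        · simp
        · intro b _ hb
          simp [Pi.single_eq_of_ne hb]
        · simp
      rw [h6] at h5
      omega
  by_cases h0 : ∀ j, y.1 j = 0
  · exfalso
    have h2 : sqNorm y.1 = 64 := by rw [hy.2.1, sqNorm_e8]
    have h3 : sqNorm y.1 = 0 := by
      simp only [sqNorm]
      apply Finset.sum_eq_zero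
      intro j _
      rw [h0 j]; norm_num
    omega
  · rw [not_forall] at h0
    obtain ⟨j, hj⟩ := h0
    rcases h1 j with h | h | h
    · rw [h]; exact e8_mem_X0 j
    · rw [h]
      refine ⟨j, -8, Or.inr rfl, ?_⟩
      show - (Pi.single j 8 : GolayPt → ℤ) = Pi.single j (-8)
      rw [Pi.single_neg]
    · exact absurd h hj


def N64 : Set ↥leechLattice := {v | sqNorm (v : GolayPt → ℤ) = 64}

theorem ncard_N64 : N64.ncard = 398034000 := by
  rw [← Cfsg.Agent.S0396.result]
  have h : N64 = Subtype.val ⁻¹' {x : GolayPt → ℤ | x ∈ leechLattice ∧ sqNorm x = 64} := by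
    ext v
    exact ⟨fun h => ⟨v.2, h⟩, fun h => h.2⟩
  rw [h]
  apply Set.ncard_preimage_of_injective_subset_range Subtype.val_injective
  intro y hy
  exact ⟨⟨y, hy.1⟩, rfl⟩

theorem N64_finite : N64.Finite := Set.finite_of_ncard_ne_zero (by rw [ncard_N64]; norm_num)

theorem ncard_classes64 : (cl '' N64).ncard = 8292375 := by
  have h := ncard_classes N64 N64_finite cl 48
    (fun v hv y hy => by
      show sqNorm y.1 = 64
      rw [hy.2.1]; exact hv)
    (fun v hv => ncard_cl v hv) (fun v _ => self_mem_cl v) (fun v _ y hy => cl_eq_of_mem hy)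
  rw [ncard_N64] at h
  omega

/-- the transitivity hypothesis -/
def Trans64 : Prop := ∀ v w : ↥leechLattice, sqNorm (v : GolayPt → ℤ) = 64 →
  sqNorm (w : GolayPt → ℤ) = 64 → ∃ g : ↥Co0, ∃ z ∈ leechLattice,
    ((g • v : ↥leechLattice) : GolayPt → ℤ) - (w : GolayPt → ℤ) = 2 • z

theorem sqNorm_smul (g : ↥Co0) (v : ↥leechLattice) :
    sqNorm ((g • v : ↥leechLattice) : GolayPt → ℤ) = sqNorm (v : GolayPt → ℤ) := g.2.2 v

theorem orbit_eq (htr : Trans64) : MulAction.orbit ↥Co0 X0 = cl '' N64 := by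
  ext Y
  constructor
  · rintro ⟨g, rfl⟩
    refine ⟨g • e8 none, ?_, ?_⟩
    · show sqNorm _ = 64
      rw [sqNorm_smul, sqNorm_e8]
    · show _ = g • X0
      rw [X0_eq, smul_cl]
  · rintro ⟨w, hw, rfl⟩
    obtain ⟨g, z, hz, hgz⟩ := htr (e8 none) w (sqNorm_e8 none) hw
    refine ⟨g, ?_⟩
    show g • X0 = cl w
    rw [X0_eq, smul_cl]
    refine (cl_eq_of_mem ?_).symm
    exact ⟨w.2, by rw [sqNorm_smul, sqNorm_e8]; exact hw, z, hz, hgz⟩

theorem X0_finite : X0.Finite := by
  rw [X0_eq]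
  exact Set.finite_of_ncard_ne_zero (by rw [ncard_cl _ (sqNorm_e8 none)]; norm_num)

theorem mem_stab_iff (g : ↥Co0) : g ∈ MulAction.stabilizer ↥Co0 X0 ↔
    ∀ v : ↥leechLattice, (v : GolayPt → ℤ) ∈ stdCross →
      ((g • v : ↥leechLattice) : GolayPt → ℤ) ∈ stdCross := by
  rw [MulAction.mem_stabilizer_set_iff_smul_set_subset X0_finite, Set.smul_set_subset_iff]
  rfl

theorem card_stab : Nat.card (MulAction.stabilizer ↥Co0 X0) = 4096 * 244823040 := by
  rw [← Cfsg.Agent.S1571.result.2]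
  exact Nat.card_congr (Equiv.subtypeEquivRight mem_stab_iff)

theorem card_Co0_of (htr : Trans64) : Nat.card Co0 = 8315553613086720000 := by
  have h1 := (MulAction.stabilizer ↥Co0 X0).card_mul_index
  rw [MulAction.index_stabilizer, orbit_eq htr, ncard_classes64, card_stab] at h1
  rw [← h1]

end Cfsg.Agent.Lib.Helper10Co0
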