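import Cfsg.Agent.Lib.Helper10Co0
import Cfsg.Agent.Lib.Helper33Golay
import Cfsg.Agent.Lib.Helper9M24Trans

/-!
# The centre of the automorphism group of the rank-24 lattice (helper10)
-/

set_option autoImplicit false

namespace Cfsg.Agent.Lib.Helper10Co0Center

open Cfsg Cfsg.Agent.Lib.Helper10Co0 Cfsg.Agent.Lib.Helper9Golay2 Cfsg.Agent.Lib.Helper94Leech
open Cfsg.Agent.Lib.Helper33Golay (octL idx idx_lt pt_idx dec dec_mem_octads mem_dec)
open scoped Pointwise
open Cfsg.Agent.S5546 (e8 dot_map toAdd toAdd_apply eight_smul_map)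
open Cfsg.Agent.S1571 (mon mon_mem mon_apply signedPerm_single)

theorem sep_chk : ∀ i < 24, ∀ j < 24, i ≠ j →
    octL.any (fun o => Nat.testBit o i && !Nat.testBit o j) = true := by decide +kernel

theorem exists_sep {p q : GolayPt} (hpq : p ≠ q) : ∃ o ∈ octads, p ∈ o ∧ q ∉ o := by
  have h := sep_chk (idx p) (idx_lt p) (idx q) (idx_lt q) (fun h => hpq (by
    rw [← pt_idx p, ← pt_idx q, h]))
  obtain ⟨o, ho, h1⟩ := List.any_eq_true.1 h
  rw [Bool.and_eq_true, Bool.not_eq_true'] at h1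
  exact ⟨dec o, dec_mem_octads ho, mem_dec.2 h1.1, fun h2 => by
    rw [mem_dec, h1.2] at h2; exact absurd h2 (by decide)⟩

/-- sign change on a codeword -/
def eps (c : Finset GolayPt) (hc : c ∈ Csup) : ↥Co0 := ⟨mon 1 M24.one_mem c hc, mon_mem _ _ _ _⟩

/-- coordinate permutation -/
def prm (σ : Equiv.Perm GolayPt) (hσ : σ ∈ M24) : ↥Co0 :=
  ⟨mon σ hσ ∅ empty_mem, mon_mem _ _ _ _⟩

theorem eps_apply (c : Finset GolayPt) (hc : c ∈ Csup) (v : ↥leechLattice) (i : GolayPt) :
    ((eps c hc • v : ↥leechLattice) : GolayPt → ℤ) i = if i ∈ c then - v.1 i else v.1 i := rfl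

theorem prm_apply (σ : Equiv.Perm GolayPt) (hσ : σ ∈ M24) (v : ↥leechLattice) (i : GolayPt) :
    ((prm σ hσ • v : ↥leechLattice) : GolayPt → ℤ) (σ i) = v.1 i := by
  show signedPerm σ ∅ v.1 (σ i) = v.1 i
  simp [signedPerm]

theorem prm_e8 (σ : Equiv.Perm GolayPt) (hσ : σ ∈ M24) (j : GolayPt) :
    prm σ hσ • e8 j = e8 (σ j) := by
  apply Subtype.ext
  show signedPerm σ ∅ (Pi.single j 8) = Pi.single (σ j) 8
  rw [signedPerm_single]
  simp

theorem eps_e8_of_not_mem (c : Finset GolayPt) (hc : c ∈ Csup) {j : GolayPt} (hj : j ∉ c) :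
    eps c hc • e8 j = e8 j := by
  apply Subtype.ext
  show signedPerm 1 c (Pi.single j 8) = Pi.single j 8
  rw [signedPerm_single]
  simp [hj]

theorem comm_smul {z : ↥Co0} (hz : z ∈ Subgroup.center ↥Co0) (g : ↥Co0) (v : ↥leechLattice) :
    z • g • v = g • z • v := by
  rw [← mul_smul, ← mul_smul, (Subgroup.mem_center_iff.1 hz g)]

theorem off_diag {z : ↥Co0} (hz : z ∈ Subgroup.center ↥Co0) {j k : GolayPt} (hkj : k ≠ j) :
    ((z • e8 j : ↥leechLattice) : GolayPt → ℤ) k = 0 := by
  obtain ⟨o, ho, hko, hjo⟩ := exists_sep hkj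
  have h1 := comm_smul hz (eps o ho.1) (e8 j)
  rw [eps_e8_of_not_mem o ho.1 hjo] at h1
  have h2 : ((z • e8 j : ↥leechLattice) : GolayPt → ℤ) k =
      ((eps o ho.1 • z • e8 j : ↥leechLattice) : GolayPt → ℤ) k :=
    congrArg (fun w : ↥leechLattice => w.1 k) h1
  rw [eps_apply, if_pos hko] at h2
  omega

theorem diag_const {z : ↥Co0} (hz : z ∈ Subgroup.center ↥Co0) (j : GolayPt) :
    ((z • e8 j : ↥leechLattice) : GolayPt → ℤ) j = ((z • e8 none : ↥leechLattice) : GolayPt → ℤ) none := by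
  obtain ⟨σ, hσ⟩ := MulAction.exists_smul_eq M24 (none : GolayPt) j
  have hσ' : σ.1 none = j := hσ
  have h1 := comm_smul hz (prm σ.1 σ.2) (e8 none)
  rw [prm_e8, hσ'] at h1
  rw [h1, ← hσ', prm_apply]

theorem smul_e8_eq {z : ↥Co0} (hz : z ∈ Subgroup.center ↥Co0) (j : GolayPt) :
    ((z • e8 j : ↥leechLattice) : GolayPt → ℤ) =
      Pi.single j (((z • e8 none : ↥leechLattice) : GolayPt → ℤ) none) := by
  funext k
  by_cases hk : k = j
  · subst hk
    rw [Pi.single_eq_same, diag_const hz]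
  · rw [Pi.single_eq_of_ne hk, off_diag hz hk]

theorem diag_sq {z : ↥Co0} (hz : z ∈ Subgroup.center ↥Co0) :
    (((z • e8 none : ↥leechLattice) : GolayPt → ℤ) none) ^ 2 = 64 := by
  have h1 := sqNorm_smul z (e8 none)
  rw [sqNorm_e8, smul_e8_eq hz, sqNorm_single] at h1
  exact h1

theorem smul_eq {z : ↥Co0} (hz : z ∈ Subgroup.center ↥Co0) (v : ↥leechLattice) (i : GolayPt) :
    8 * ((z • v : ↥leechLattice) : GolayPt → ℤ) i =
      v.1 i * (((z • e8 none : ↥leechLattice) : GolayPt → ℤ) none) := by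
  have h1 := congrArg (fun w : ↥leechLattice => w.1 i) (eight_smul_map z.1 z.2 v)
  simp only [AddSubgroup.coe_zsmul, AddSubgroup.val_finsetSum, Finset.sum_apply, Pi.smul_apply,
    smul_eq_mul] at h1
  have h2 : ∀ j, ((z.1 (e8 j) : ↥leechLattice) : GolayPt → ℤ) =
      Pi.single j (((z • e8 none : ↥leechLattice) : GolayPt → ℤ) none) := fun j => smul_e8_eq hz j
  simp only [h2] at h1
  rw [Finset.sum_eq_single i] at h1
  · rw [Pi.single_eq_same] at h1
    exact h1
  · intro j _ hj
    rw [Pi.single_eq_of_ne (Ne.symm hj), mul_zero]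
  · simp

/-- negation -/
def negOne : ↥Co0 := eps Finset.univ univ_mem

theorem negOne_smul (v : ↥leechLattice) : negOne • v = -v := by
  apply Subtype.ext
  funext i
  rw [negOne, eps_apply, if_pos (Finset.mem_univ _)]
  rfl

theorem negOne_mem_center : negOne ∈ Subgroup.center ↥Co0 := by
  rw [Subgroup.mem_center_iff]
  intro g
  apply Subtype.ext
  apply Equiv.ext
  intro v
  show g • negOne • v = negOne • g • v
  rw [negOne_smul, negOne_smul]
  show g.1 (-v) = - g.1 v
  rw [← toAdd_apply g.1 g.2, ← toAdd_apply g.1 g.2, map_neg]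

theorem negOne_ne_one : negOne ≠ 1 := by
  intro h
  have h1 := negOne_smul (e8 none)
  rw [h, one_smul] at h1
  have h2 := congrArg (fun w : ↥leechLattice => w.1 none) h1
  have h3 : ((e8 none : ↥leechLattice) : GolayPt → ℤ) none = 8 := by
    show (Pi.single none 8 : GolayPt → ℤ) none = 8
    exact Pi.single_eq_same _ _
  simp only [AddSubgroup.coe_neg, Pi.neg_apply, h3] at h2
  omega

theorem center_cases {z : ↥Co0} (hz : z ∈ Subgroup.center ↥Co0) : z = 1 ∨ z = negOne := by
  have h1 := diag_sq hz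
  have h2 : (((z • e8 none : ↥leechLattice) : GolayPt → ℤ) none) = 8 ∨
      (((z • e8 none : ↥leechLattice) : GolayPt → ℤ) none) = -8 := by
    have : ((((z • e8 none : ↥leechLattice) : GolayPt → ℤ) none) - 8) *
        ((((z • e8 none : ↥leechLattice) : GolayPt → ℤ) none) + 8) = 0 := by ring_nf; omega
    rcases mul_eq_zero.1 this with h | h
    · left; omega
    · right; omega
  rcases h2 with h | h
  · left
    apply Subtype.ext
    apply Equiv.ext
    intro v
    apply Subtype.ext
    funext i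
    have := smul_eq hz v i
    rw [h] at this
    show ((z • v : ↥leechLattice) : GolayPt → ℤ) i = v.1 i
    omega
  · right
    apply Subtype.ext
    apply Equiv.ext
    intro v
    show z • v = negOne • v
    rw [negOne_smul]
    apply Subtype.ext
    funext i
    have := smul_eq hz v i
    rw [h] at this
    show ((z • v : ↥leechLattice) : GolayPt → ℤ) i = - v.1 i
    omega

theorem card_center : Nat.card (Subgroup.center ↥Co0) = 2 := by
  rw [Nat.card_eq_two_iff]
  refine ⟨1, ⟨negOne, negOne_mem_center⟩, ?_, ?_⟩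
  · intro h
    exact negOne_ne_one (congrArg Subtype.val h).symm
  · ext z
    simp only [Set.mem_insert_iff, Set.mem_singleton_iff, Set.mem_univ, iff_true]
    rcases center_cases z.2 with h | h
    · left; exact Subtype.ext h
    · right; exact Subtype.ext h

end Cfsg.Agent.Lib.Helper10Co0Center
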