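import Cfsg.Prelude.Def_Sporadic_a

set_option autoImplicit false

namespace Cfsg.Agent.Lib.Helper10SetSys

open Cfsg Finset

variable {α β γ : Type*}

theorem iso_refl [DecidableEq α] (B : Set (Finset α)) : SetSystemIso B B :=
  ⟨Equiv.refl α, by simp⟩

theorem iso_symm [DecidableEq α] [DecidableEq β] {B : Set (Finset α)} {B' : Set (Finset β)}
    (h : SetSystemIso B B') : SetSystemIso B' B := by
  obtain ⟨e, rfl⟩ := h
  refine ⟨e.symm, ?_⟩
  rw [Set.image_image]
  simp [Finset.image_image]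

theorem iso_trans [DecidableEq β] [DecidableEq γ] {B : Set (Finset α)} {B' : Set (Finset β)}
    {B'' : Set (Finset γ)} (h : SetSystemIso B B') (h' : SetSystemIso B' B'') :
    SetSystemIso B B'' := by
  obtain ⟨e, rfl⟩ := h
  obtain ⟨e', rfl⟩ := h'
  refine ⟨e.trans e', ?_⟩
  rw [Set.image_image]
  simp [Finset.image_image, Function.comp_def]

/-- an inclusion of Steiner systems with the same parameters is an equality -/
theorem steiner_eq_of_subset {t k : ℕ} {B B' : Set (Finset α)} (hB : IsSteinerSystem t k B)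
    (hB' : IsSteinerSystem t k B') (htk : t ≤ k) (h : B ⊆ B') : B = B' := by
  apply Set.Subset.antisymm h
  intro b hb
  obtain ⟨s, hs, hst⟩ := Finset.exists_subset_card_eq (s := b) (n := t) (by rw [hB'.1 b hb]; exact htk)
  obtain ⟨c, hc, _⟩ := hB.2 s hst
  obtain ⟨d, _, hd⟩ := hB'.2 s hst
  rw [hd b ⟨hb, hs⟩, ← hd c ⟨h hc.1, hc.2⟩]
  exact hc.1

/-- transport of a Steiner system along a bijection -/
theorem steiner_image [DecidableEq α] [DecidableEq β] {t k : ℕ} {B : Set (Finset α)}
    (hB : IsSteinerSystem t k B) (e : α ≃ β) :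
    IsSteinerSystem t k ((fun b => b.image e) '' B) := by
  constructor
  · rintro _ ⟨b, hb, rfl⟩
    rw [Finset.card_image_of_injective _ e.injective, hB.1 b hb]
  · intro s hs
    obtain ⟨b, hb, hu⟩ := hB.2 (s.image e.symm)
      (by rw [Finset.card_image_of_injective _ e.symm.injective, hs])
    refine ⟨b.image e, ⟨⟨b, hb.1, rfl⟩, ?_⟩, ?_⟩
    · intro x hx
      exact Finset.mem_image.2 ⟨e.symm x, hb.2 (Finset.mem_image_of_mem _ hx), by simp⟩
    · rintro _ ⟨⟨c, hc, rfl⟩, hsc⟩
      rw [hu c ⟨hc, ?_⟩]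
      intro x hx
      obtain ⟨y, hy, rfl⟩ := Finset.mem_image.1 hx
      obtain ⟨z, hz, rfl⟩ := Finset.mem_image.1 (hsc hy)
      simpa using hz

theorem steiner_of_iso [DecidableEq α] [DecidableEq β] {t k : ℕ} {B : Set (Finset α)}
    {B' : Set (Finset β)} (h : SetSystemIso B B') (hB : IsSteinerSystem t k B) :
    IsSteinerSystem t k B' := by
  obtain ⟨e, rfl⟩ := h
  exact steiner_image hB e

end Cfsg.Agent.Lib.Helper10SetSys
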