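import Cfsg.Agent.Lib.Helper33Golay
import Cfsg.Agent.Lib.Helper10SetSys
import Cfsg.Agent.S0363
import Cfsg.Agent.S0351

/-!
# Extending Steiner systems inside the octad system (helper10)
-/

set_option autoImplicit false

namespace Cfsg.Agent.Lib.Helper10Ext

open Cfsg Finset Cfsg.Agent.Lib.Helper33Golay
open scoped Pointwise

theorem octads_card {o : Finset GolayPt} (ho : o ∈ octads) : o.card = 8 := ho.2

/-- two octads meet evenly -/
theorem octads_inter_even {o o' : Finset GolayPt} (ho : o ∈ octads) (ho' : o' ∈ octads) :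
    (o ∩ o').card % 2 = 0 := by
  obtain ⟨h1, h2⟩ := mem_octL.1 ((mem_octads_iff o).1 ho)
  obtain ⟨h1', h2'⟩ := mem_octL.1 ((mem_octads_iff o').1 ho')
  have h3 := pop_xor_add (enc o) (enc o')
  have h4 := isCode_weights (isCode_xor h1 h1')
  rw [card_eq_pop, enc_inter]
  omega

theorem image_mem_octads {τ : Equiv.Perm GolayPt} (hτ : τ ∈ M24) {o : Finset GolayPt}
    (ho : o ∈ octads) : o.image τ ∈ octads := smul_mem_octads hτ ho

theorem core (A : Finset GolayPt) (a : GolayPt) (ha : a ∉ A) (j : ℕ) (hj : A.card = j)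
    (H1 : ∀ b : Finset GolayPt, Disjoint b (insert a A) → b.card = 8 - j →
      (∀ o ∈ octads, insert a A ⊆ o → (b ∩ o).card % 2 = j % 2) →
      ∃ x ⊆ insert a A, x.card = j ∧ b ∪ x ∈ octads)
    (H2 : ∀ c ∈ A, ∃ τ ∈ M24, τ c = a ∧ τ a = c ∧ ∀ y ∈ A, y ≠ c → τ y = y)
    (BB : Set (Finset GolayPt))
    (h1 : ∀ b ∈ BB, Disjoint b A ∧ b.card = 8 - j)
    (h2 : ∀ b ∈ BB, a ∈ b → b ∪ A ∈ octads)
    (h2' : ∀ o ∈ octads, insert a A ⊆ o → o \ A ∈ BB)
    (h3 : ∀ b ∈ BB, ∀ c ∈ BB, (b ∩ c).card % 2 = j % 2) :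
    ∃ ρ : Equiv.Perm GolayPt, (∀ y ∈ insert a A, ρ y = y) ∧
      ∀ b ∈ BB, b.image ρ ∪ A ∈ octads := by
  have hdis : ∀ b ∈ BB, a ∉ b → Disjoint b (insert a A) := fun b hb hab =>
    Finset.disjoint_insert_right.2 ⟨hab, (h1 b hb).1⟩
  have ht : ∀ b ∈ BB, a ∉ b → ∃ x ⊆ insert a A, x.card = j ∧ b ∪ x ∈ octads := by
    intro b hb hab
    apply H1 b (hdis b hb hab) (h1 b hb).2
    intro o ho hAo
    have h := h3 b hb (o \ A) (h2' o ho hAo)
    have e : b ∩ (o \ A) = b ∩ o := by
      ext y
      simp only [Finset.mem_inter, Finset.mem_sdiff]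
      constructor
      · rintro ⟨h, h', -⟩; exact ⟨h, h'⟩
      · rintro ⟨h, h'⟩; exact ⟨h, h', Finset.disjoint_left.1 (h1 b hb).1 h⟩
    rwa [e] at h
  have hA' : (insert a A).card = j + 1 := by rw [Finset.card_insert_of_notMem ha, hj]
  have hsame : ∀ b ∈ BB, ∀ b' ∈ BB, a ∉ b → a ∉ b' → ∀ x x' : Finset GolayPt,
      x ⊆ insert a A → x' ⊆ insert a A → x.card = j → x'.card = j → b ∪ x ∈ octads →
      b' ∪ x' ∈ octads → x = x' := by
    intro b hb b' hb' hab hab' x x' hx hx' hxc hxc' ho ho'
    have hev := octads_inter_even ho ho'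
    have e : (b ∪ x) ∩ (b' ∪ x') = (b ∩ b') ∪ (x ∩ x') := by
      ext y
      simp only [Finset.mem_inter, Finset.mem_union]
      constructor
      · rintro ⟨h | h, h' | h'⟩
        · exact Or.inl ⟨h, h'⟩
        · exact absurd (hx' h') (Finset.disjoint_left.1 (hdis b hb hab) h)
        · exact absurd (hx h) (Finset.disjoint_left.1 (hdis b' hb' hab') h')
        · exact Or.inr ⟨h, h'⟩
      · rintro (⟨h, h'⟩ | ⟨h, h'⟩)
        · exact ⟨Or.inl h, Or.inl h'⟩
        · exact ⟨Or.inr h, Or.inr h'⟩
    have hd : Disjoint (b ∩ b') (x ∩ x') := by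
      rw [Finset.disjoint_left]
      intro y hy hy'
      exact Finset.disjoint_left.1 (hdis b hb hab) (Finset.mem_inter.1 hy).1
        (hx (Finset.mem_inter.1 hy').1)
    rw [e, Finset.card_union_of_disjoint hd] at hev
    have hp := h3 b hb b' hb'
    have hu : (x ∪ x').card ≤ j + 1 := hA' ▸ Finset.card_le_card (Finset.union_subset hx hx')
    have hui := Finset.card_union_add_card_inter x x'
    have hle : (x ∩ x').card ≤ j := hxc ▸ Finset.card_le_card Finset.inter_subset_left
    have hi : (x ∩ x').card = j := by omega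
    have e1 : x ∩ x' = x := Finset.eq_of_subset_of_card_le Finset.inter_subset_left (by omega)
    have e2 : x ∩ x' = x' := Finset.eq_of_subset_of_card_le Finset.inter_subset_right (by omega)
    exact e1.symm.trans e2
  by_cases hex : ∃ b ∈ BB, a ∉ b
  swap
  · refine ⟨1, fun _ _ => rfl, fun b hb => ?_⟩
    have : a ∈ b := by
      by_contra h
      exact hex ⟨b, hb, h⟩
    simpa using h2 b hb this
  obtain ⟨b0, hb0, hab0⟩ := hex
  obtain ⟨x0, hx0, hx0c, ho0⟩ := ht b0 hb0 hab0
  have hall : ∀ b ∈ BB, a ∉ b → b ∪ x0 ∈ octads := by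
    intro b hb hab
    obtain ⟨x, hx, hxc, ho⟩ := ht b hb hab
    rw [hsame b0 hb0 b hb hab0 hab x0 x hx0 hx hx0c hxc ho0 ho]
    exact ho
  by_cases hxA : x0 = A
  · refine ⟨1, fun _ _ => rfl, fun b hb => ?_⟩
    by_cases hab : a ∈ b
    · simpa using h2 b hb hab
    · simpa [hxA] using hall b hb hab
  -- the twisted case
  have hc : ∃ c ∈ A, c ∉ x0 := by
    by_contra h
    push Not at h
    exact hxA (Finset.eq_of_subset_of_card_le h (by omega)).symm
  obtain ⟨c, hcA, hcx⟩ := hc
  have hca : c ≠ a := fun e => ha (e ▸ hcA)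
  have hx0e : x0 = insert a (A.erase c) := by
    apply Finset.eq_of_subset_of_card_le
    · intro y hy
      rcases Finset.mem_insert.1 (hx0 hy) with h | h
      · exact h ▸ Finset.mem_insert_self _ _
      · exact Finset.mem_insert_of_mem (Finset.mem_erase.2 ⟨fun e => hcx (e ▸ hy), h⟩)
    · rw [Finset.card_insert_of_notMem (fun h => ha (Finset.mem_of_mem_erase h)),
        Finset.card_erase_of_mem hcA]
      have : 0 < A.card := Finset.card_pos.2 ⟨c, hcA⟩
      omega
  obtain ⟨τ, hτ, hτc, hτa, hτA⟩ := H2 c hcA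
  have hτe : (A.erase c).image τ = A.erase c := by
    conv_rhs => rw [← Finset.image_id (s := A.erase c)]
    apply Finset.image_congr
    intro y hy
    have hy' := Finset.mem_erase.1 (Finset.mem_coe.1 hy)
    exact hτA y hy'.2 hy'.1
  have hτx : x0.image τ = A := by
    rw [hx0e, Finset.image_insert, hτe, hτa, Finset.insert_erase hcA]
  have hτA' : (insert a A).image τ = insert a A := by
    rw [← Finset.insert_erase hcA, Finset.image_insert, Finset.image_insert, hτe, hτa, hτc,
      Finset.insert_comm]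
  have hρ : ∀ z, z ∉ insert a A → (Equiv.swap c a * τ) z = τ z := by
    intro z hz
    rw [Equiv.Perm.mul_apply]
    apply Equiv.swap_apply_of_ne_of_ne
    · intro e
      exact hz (by rw [← τ.injective (e.trans hτa.symm)]; exact Finset.mem_insert_self _ _)
    · intro e
      exact hz (by rw [τ.injective (e.trans hτc.symm)]; exact Finset.mem_insert_of_mem hcA)
  have hρfix : ∀ y ∈ insert a A, (Equiv.swap c a * τ) y = y := by
    intro y hy
    rw [Equiv.Perm.mul_apply]
    rcases Finset.mem_insert.1 hy with rfl | hy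
    · rw [hτa, Equiv.swap_apply_left]
    · by_cases hyc : y = c
      · rw [hyc, hτc, Equiv.swap_apply_right]
      · rw [hτA y hy hyc]
        exact Equiv.swap_apply_of_ne_of_ne hyc (fun e => ha (e ▸ hy))
  have himg : ∀ b : Finset GolayPt, Disjoint b (insert a A) →
      b.image (Equiv.swap c a * τ) = b.image τ := by
    intro b hb
    apply Finset.image_congr
    intro z hz
    exact hρ z (Finset.disjoint_left.1 hb (Finset.mem_coe.1 hz))
  refine ⟨Equiv.swap c a * τ, hρfix, fun b hb => ?_⟩
  by_cases hab : a ∈ b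
  · have hb' : Disjoint (b.erase a) (insert a A) :=
      Finset.disjoint_insert_right.2 ⟨Finset.notMem_erase a b,
        Finset.disjoint_of_subset_left (Finset.erase_subset a b) (h1 b hb).1⟩
    have e : b.image (Equiv.swap c a * τ) ∪ A = (b ∪ A).image τ := by
      conv_lhs => rw [← Finset.insert_erase hab, Finset.image_insert, himg _ hb',
        hρfix a (Finset.mem_insert_self _ _)]
      conv_rhs => rw [← Finset.insert_erase hab, Finset.insert_union, ← Finset.union_insert,
        Finset.image_union, hτA']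
      rw [Finset.insert_union, Finset.union_insert]
    rw [e]
    exact image_mem_octads hτ (h2 b hb hab)
  · have e : b.image (Equiv.swap c a * τ) ∪ A = (b ∪ x0).image τ := by
      rw [himg _ (hdis b hb hab), Finset.image_union, hτx]
    rw [e]
    exact image_mem_octads hτ (hall b hb hab)

/-! ### embeddings into the octad system -/

/-- `ι` embeds the set system `B` into the system of octads containing `A` (with `A` removed) -/
def Emb {α : Type*} (A : Finset GolayPt) (B : Set (Finset α)) (ι : α → GolayPt) : Prop :=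
  Function.Injective ι ∧ (∀ u, ι u ∉ A) ∧ ∀ b ∈ B, b.image ι ∪ A ∈ octads

theorem card_golayPt : Fintype.card GolayPt = 24 := by decide

theorem Emb.exists_preimage {α : Type*} [Fintype α] {A : Finset GolayPt}
    {B : Set (Finset α)} {ι : α → GolayPt} (h : Emb A B ι)
    (hα : Fintype.card α + A.card = 24) : ∀ z, z ∉ A → ∃ u, ι u = z := by
  have h1 : (Finset.univ : Finset α).image ι = Aᶜ := by
    apply Finset.eq_of_subset_of_card_le
    · intro z hz
      obtain ⟨u, -, rfl⟩ := Finset.mem_image.1 hz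
      exact Finset.mem_compl.2 (h.2.1 u)
    · rw [Finset.card_image_of_injective _ h.1, Finset.card_compl, card_golayPt,
        Finset.card_univ]
      omega
  intro z hz
  have h2 : z ∈ (Finset.univ : Finset α).image ι := h1 ▸ Finset.mem_compl.2 hz
  obtain ⟨u, -, hu⟩ := Finset.mem_image.1 h2
  exact ⟨u, hu⟩

theorem Emb.disjoint {α : Type*} {A : Finset GolayPt}
    {B : Set (Finset α)} {ι : α → GolayPt} (h : Emb A B ι) (b : Finset α) :
    Disjoint (b.image ι) A := by
  rw [Finset.disjoint_left]
  intro z hz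
  obtain ⟨u, -, rfl⟩ := Finset.mem_image.1 hz
  exact h.2.1 u

theorem Emb.surj {α : Type*} [Fintype α] [DecidableEq α] {A : Finset GolayPt}
    {B : Set (Finset α)} {ι : α → GolayPt} (h : Emb A B ι) {t k : ℕ}
    (hB : IsSteinerSystem t k B) (hα : Fintype.card α + A.card = 24) (ht : t + A.card = 5) :
    ∀ o ∈ octads, A ⊆ o → ∃ b ∈ B, b.image ι = o \ A := by
  intro o ho hAo
  have hc : (o \ A).card = 8 - A.card := by
    rw [Finset.card_sdiff_of_subset hAo, octads_card ho]
  obtain ⟨s, hs, hst⟩ := Finset.exists_subset_card_eq (s := o \ A) (n := t) (by omega)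
  have hs0 : (Finset.univ.filter (fun u => ι u ∈ s)).image ι = s := by
    ext z
    simp only [Finset.mem_image, Finset.mem_filter, Finset.mem_univ, true_and]
    constructor
    · rintro ⟨u, hu, rfl⟩; exact hu
    · intro hz
      obtain ⟨u, rfl⟩ := h.exists_preimage hα z (Finset.mem_sdiff.1 (hs hz)).2
      exact ⟨u, hz, rfl⟩
  have hs0c : (Finset.univ.filter (fun u => ι u ∈ s)).card = t := by
    rw [← Finset.card_image_of_injective _ h.1, hs0, hst]
  obtain ⟨b, ⟨hb, hsb⟩, -⟩ := hB.2 _ hs0c
  refine ⟨b, hb, ?_⟩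
  have ho' := h.2.2 b hb
  have hsub : s ∪ A ⊆ (b.image ι ∪ A) ∩ o := by
    intro z hz
    rcases Finset.mem_union.1 hz with hz | hz
    · refine Finset.mem_inter.2 ⟨Finset.mem_union_left _ ?_, (Finset.mem_sdiff.1 (hs hz)).1⟩
      rw [← hs0] at hz
      exact Finset.image_subset_image hsb hz
    · exact Finset.mem_inter.2 ⟨Finset.mem_union_right _ hz, hAo hz⟩
  have hd : Disjoint s A := Finset.disjoint_of_subset_left hs Finset.sdiff_disjoint
  have h5 : 5 ≤ ((b.image ι ∪ A) ∩ o).card := by
    have := Finset.card_le_card hsub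
    rw [Finset.card_union_of_disjoint hd] at this
    omega
  rw [← octads_eq_of_inter ho' ho h5]
  exact (Finset.union_sdiff_cancel_right (h.disjoint b)).symm

/-- the model: octads containing `A`, with `A` removed, on the complement of `A` -/
def WS (A : Finset GolayPt) : Set (Finset {x : GolayPt // x ∉ A}) :=
  {b | b.map (Function.Embedding.subtype _) ∪ A ∈ octads}

theorem map_disjoint (A : Finset GolayPt) (b : Finset {x : GolayPt // x ∉ A}) :
    Disjoint (b.map (Function.Embedding.subtype _)) A := by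
  rw [Finset.disjoint_left]
  intro z hz
  obtain ⟨u, -, rfl⟩ := Finset.mem_map.1 hz
  exact u.2

theorem octads_steiner : IsSteinerSystem 5 8 octads := Cfsg.Agent.S0363.result

theorem WS_steiner (A : Finset GolayPt) (t k : ℕ) (ht : t + A.card = 5) (hk : k + A.card = 8) :
    IsSteinerSystem t k (WS A) := by
  constructor
  · intro b hb
    have h := octads_card hb
    rw [Finset.card_union_of_disjoint (map_disjoint A b), Finset.card_map] at h
    omega
  · intro s hs
    obtain ⟨o, ⟨ho, hso⟩, hu⟩ := octads_steiner.2 (s.map (Function.Embedding.subtype _) ∪ A)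
      (by rw [Finset.card_union_of_disjoint (map_disjoint A s), Finset.card_map]; omega)
    have hAo : A ⊆ o := Finset.union_subset_right hso
    have hmap : (o.subtype (fun x => x ∉ A)).map (Function.Embedding.subtype _) ∪ A = o := by
      rw [Finset.subtype_map]
      ext z
      simp only [Finset.mem_union, Finset.mem_filter]
      constructor
      · rintro (h | h)
        · exact h.1
        · exact hAo h
      · intro h
        by_cases hz : z ∈ A
        · exact Or.inr hz
        · exact Or.inl ⟨h, hz⟩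
    refine ⟨o.subtype (fun x => x ∉ A), ⟨?_, ?_⟩, ?_⟩
    · show _ ∈ octads
      rw [hmap]; exact ho
    · intro u hu'
      rw [Finset.mem_subtype]
      exact hso (Finset.mem_union_left _ (Finset.mem_map_of_mem _ hu'))
    · rintro c ⟨hc, hsc⟩
      have h1 := hu _ ⟨hc, Finset.union_subset_union_left (Finset.map_subset_map.2 hsc)⟩
      ext u
      rw [Finset.mem_subtype, ← h1]
      constructor
      · intro h; exact Finset.mem_union_left _ (Finset.mem_map_of_mem _ h)
      · intro h
        rcases Finset.mem_union.1 h with h | h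
        · obtain ⟨v, hv, hvu⟩ := Finset.mem_map.1 h
          rwa [← Subtype.ext hvu]
        · exact absurd h u.2

theorem card_compl_subtype (A : Finset GolayPt) :
    Fintype.card {x : GolayPt // x ∉ A} + A.card = 24 := by
  have h := Fintype.card_subtype_compl (fun x : GolayPt => x ∈ A)
  rw [Fintype.card_coe, card_golayPt] at h
  have h2 : A.card ≤ 24 := card_golayPt ▸ Finset.card_le_univ A
  omega

theorem emb_of_iso {α : Type*} {A : Finset GolayPt} {B : Set (Finset α)}
    (h : SetSystemIso B (WS A)) : ∃ ι, Emb A B ι := by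
  obtain ⟨e, he⟩ := h
  refine ⟨fun u => (e u : GolayPt), fun u v huv => e.injective (Subtype.ext huv),
    fun u => (e u).2, fun b hb => ?_⟩
  have h1 : b.image e ∈ WS A := he ▸ ⟨b, hb, rfl⟩
  have h2 : b.image (fun u => (e u : GolayPt)) =
      (b.image e).map (Function.Embedding.subtype _) := by
    rw [Finset.map_eq_image, Finset.image_image]
    rfl
  rw [h2]
  exact h1

theorem iso_of_emb {α : Type*} [Fintype α] [DecidableEq α] {A : Finset GolayPt}
    {B : Set (Finset α)} {ι : α → GolayPt} (h : Emb A B ι) {t k : ℕ}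
    (hB : IsSteinerSystem t k B) (hα : Fintype.card α + A.card = 24) (ht : t + A.card = 5)
    (hk : k + A.card = 8) : SetSystemIso B (WS A) := by
  have hbij : Function.Bijective (fun u => (⟨ι u, h.2.1 u⟩ : {x : GolayPt // x ∉ A})) := by
    rw [Fintype.bijective_iff_injective_and_card]
    refine ⟨fun u v huv => h.1 (congrArg Subtype.val huv), ?_⟩
    have := card_compl_subtype A
    omega
  refine ⟨Equiv.ofBijective _ hbij, ?_⟩
  apply Helper10SetSys.steiner_eq_of_subset (Helper10SetSys.steiner_image hB _)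
    (WS_steiner A t k ht hk) (by omega)
  rintro _ ⟨b, hb, rfl⟩
  show _ ∈ octads
  have h2 : (b.image (Equiv.ofBijective _ hbij)).map (Function.Embedding.subtype _) =
      b.image ι := by
    rw [Finset.map_eq_image, Finset.image_image]
    rfl
  rw [h2]
  exact h.2.2 b hb

theorem step (A : Finset GolayPt) (a : GolayPt) (ha : a ∉ A) (j : ℕ) (hj : A.card = j)
    (H1 : ∀ b : Finset GolayPt, Disjoint b (insert a A) → b.card = 8 - j →
      (∀ o ∈ octads, insert a A ⊆ o → (b ∩ o).card % 2 = j % 2) →
      ∃ x ⊆ insert a A, x.card = j ∧ b ∪ x ∈ octads)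
    (H2 : ∀ c ∈ A, ∃ τ ∈ M24, τ c = a ∧ τ a = c ∧ ∀ y ∈ A, y ≠ c → τ y = y)
    (t k : ℕ) (ht : t + 1 + j = 5) (hk : k + 1 + j = 8)
    {α : Type*} [Fintype α] [DecidableEq α] (hα : Fintype.card α + j = 24)
    {B : Set (Finset α)} (hB : IsSteinerSystem (t + 1) (k + 1) B)
    (hpar : ∀ b ∈ B, ∀ c ∈ B, (b ∩ c).card % 2 = j % 2)
    (IH : ∀ p : α, SetSystemIso {b' : Finset {u : α // u ≠ p} |
      ∃ b ∈ B, p ∈ b ∧ b' = Finset.subtype (fun u => u ≠ p) b} (WS (insert a A))) :
    SetSystemIso B (WS A) := by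
  have hne : Nonempty α := by
    rw [← Fintype.card_pos_iff]; omega
  obtain ⟨p⟩ := hne
  obtain ⟨ι', hι'⟩ := emb_of_iso (IH p)
  have hD := Cfsg.Agent.S0351.result hB p
  have hcard' : Fintype.card {u : α // u ≠ p} + (insert a A).card = 24 := by
    rw [Finset.card_insert_of_notMem ha, hj]
    have h := Fintype.card_subtype_compl (fun u : α => u = p)
    rw [Fintype.card_subtype_eq] at h
    have h' : Fintype.card {u : α // u ≠ p} = Fintype.card α - 1 := h
    omega
  obtain ⟨ι, hιp, hιn⟩ : ∃ ι : α → GolayPt, ι p = a ∧ ∀ u (h : u ≠ p), ι u = ι' ⟨u, h⟩ :=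
    ⟨fun u => if h : u = p then a else ι' ⟨u, h⟩, dif_pos rfl, fun u h => dif_neg h⟩
  have hιa : ∀ u, ι u = a → u = p := by
    intro u hu
    by_contra h
    rw [hιn u h] at hu
    exact hι'.2.1 ⟨u, h⟩ (hu ▸ Finset.mem_insert_self _ _)
  have hinj : Function.Injective ι := by
    intro u v huv
    by_cases hu : u = p
    · subst hu
      rw [hιp] at huv
      exact (hιa v huv.symm).symm
    · by_cases hv : v = p
      · subst hv
        rw [hιp] at huv
        exact absurd (hιa u huv) hu
      · rw [hιn u hu, hιn v hv] at huv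
        exact congrArg Subtype.val (hι'.1 huv)
  have havoid : ∀ u, ι u ∉ A := by
    intro u
    by_cases hu : u = p
    · rw [hu, hιp]; exact ha
    · rw [hιn u hu]; exact fun h => hι'.2.1 _ (Finset.mem_insert_of_mem h)
  have himg : ∀ b : Finset α, p ∈ b →
      b.image ι = insert a ((b.subtype (fun u => u ≠ p)).image ι') := by
    intro b hpb
    ext z
    simp only [Finset.mem_image, Finset.mem_insert, Finset.mem_subtype]
    constructor
    · rintro ⟨u, hu, rfl⟩
      by_cases h : u = p
      · left; rw [h, hιp]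
      · right; exact ⟨⟨u, h⟩, hu, (hιn u h).symm⟩
    · rintro (rfl | ⟨⟨u, h⟩, hu, rfl⟩)
      · exact ⟨p, hpb, hιp⟩
      · exact ⟨u, hu, hιn u h⟩
  have hdisj : ∀ b : Finset α, Disjoint (b.image ι) A := by
    intro b
    rw [Finset.disjoint_left]
    intro z hz
    obtain ⟨u, -, rfl⟩ := Finset.mem_image.1 hz
    exact havoid u
  obtain ⟨ρ, hρfix, hρ⟩ := core A a ha j hj H1 H2 ((fun b => b.image ι) '' B)
    (by
      rintro _ ⟨b, hb, rfl⟩
      refine ⟨hdisj b, ?_⟩
      rw [Finset.card_image_of_injective _ hinj, hB.1 b hb]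
      omega)
    (by
      rintro _ ⟨b, hb, rfl⟩ hab
      obtain ⟨u, hu, hua⟩ := Finset.mem_image.1 hab
      have hpb : p ∈ b := hιa u hua ▸ hu
      have h1 := hι'.2.2 (b.subtype (fun u => u ≠ p)) ⟨b, hb, hpb, rfl⟩
      show b.image ι ∪ A ∈ octads
      rw [himg b hpb, Finset.insert_union, ← Finset.union_insert]
      exact h1)
    (by
      intro o ho hAo
      obtain ⟨b', ⟨b, hb, hpb, rfl⟩, hb'⟩ := hι'.surj hD hcard'
        (by rw [Finset.card_insert_of_notMem ha, hj]; omega) o ho hAo
      refine ⟨b, hb, ?_⟩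
      show b.image ι = o \ A
      rw [himg b hpb, hb']
      ext z
      simp only [Finset.mem_insert, Finset.mem_sdiff, not_or]
      constructor
      · rintro (rfl | ⟨h1, -, h3⟩)
        · exact ⟨hAo (Finset.mem_insert_self _ _), ha⟩
        · exact ⟨h1, h3⟩
      · rintro ⟨h1, h2⟩
        by_cases hz : z = a
        · exact Or.inl hz
        · exact Or.inr ⟨h1, hz, h2⟩)
    (by
      rintro _ ⟨b, hb, rfl⟩ _ ⟨c, hc, rfl⟩
      show (b.image ι ∩ c.image ι).card % 2 = j % 2
      rw [← Finset.image_inter _ _ hinj, Finset.card_image_of_injective _ hinj]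
      exact hpar b hb c hc)
  have hemb : Emb A B (fun u => ρ (ι u)) := by
    refine ⟨fun u v huv => hinj (ρ.injective huv), fun u hu => ?_, fun b hb => ?_⟩
    · have h1 := hρfix _ (Finset.mem_insert_of_mem hu)
      exact havoid u (ρ.injective h1 ▸ hu)
    · have h1 := hρ _ ⟨b, hb, rfl⟩
      rwa [Finset.image_image] at h1
  exact iso_of_emb hemb hB (by omega) (by omega) (by omega)

end Cfsg.Agent.Lib.Helper10Ext
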