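import Cfsg.Agent.Lib.Helper10HSGroup

/-!
# The simple subgroup of index two in the automorphism group of the 100-vertex graph (helper10)
-/

set_option autoImplicit false
set_option linter.unusedSectionVars false

namespace Cfsg.Agent.Lib.Helper10HSSimple

open Cfsg Finset Equiv MulAction Subgroup Cfsg.Agent.Lib.Helper10HSGraph
  Cfsg.Agent.Lib.Helper10HSGroup Cfsg.Agent.Lib.Helper10Simple
open scoped Pointwise

/-- a simple subgroup of index two is the only subgroup of index two -/
theorem eq_of_index_two {G : Type*} [Group G] [Finite G] (S0 S1 : Subgroup G) (h0 : S0.index = 2)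
    (h1 : S1.index = 2) (hs : IsSimpleGroup S0) (hc : 2 < Nat.card S0) : S1 = S0 := by
  have hn : S1.Normal := normal_of_index_eq_two h1
  rcases hs.eq_bot_or_eq_top_of_normal (S1.subgroupOf S0) inferInstance with h | h
  · exfalso
    have h2 : S1.relIndex S0 ∣ S1.index := relIndex_dvd_index_of_normal S1 S0
    rw [relIndex, h, index_bot, h1] at h2
    have := Nat.le_of_dvd (by norm_num) h2
    omega
  · rw [subgroupOf_eq_top] at h
    symm
    apply Subgroup.eq_of_le_of_card_ge h
    have e0 := S0.card_mul_index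
    have e1 := S1.card_mul_index
    rw [h0] at e0
    rw [h1] at e1
    omega

/-- a faithful primitive group of degree 100 with a simple point stabiliser is simple -/
theorem simple_of_primitive_100 {G X : Type*} [Group G] [MulAction G X] [Finite G] [Finite X]
    [IsPreprimitive G X] (hfaith : ∀ g : G, (∀ y : X, g • y = y) → g = 1) (a : X)
    (hS : IsSimpleGroup (stabilizer G a)) (hX : Nat.card X = 100) : IsSimpleGroup G := by
  classical
  have hnt : Nontrivial G := by
    have := hS.toNontrivial
    obtain ⟨x, y, hxy⟩ := this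
    exact ⟨x, y, fun h => hxy (Subtype.ext h)⟩
  have hne : Nonempty X := ⟨a⟩
  refine ⟨fun N hN => ?_⟩
  by_contra hcon
  rw [not_or] at hcon
  obtain ⟨hNbot, hNtop⟩ := hcon
  have hNtr : IsPretransitive N X := pretransitive_of_normal hfaith N hNbot
  rcases hS.eq_bot_or_eq_top_of_normal (N.subgroupOf (stabilizer G a)) inferInstance
    with h1 | h1
  · rw [subgroupOf_eq_bot, disjoint_iff] at h1
    have hreg : ∀ n ∈ N, n • a = a → n = 1 := by
      intro n hn hna
      have : n ∈ N ⊓ stabilizer G a := ⟨hn, hna⟩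
      rwa [h1, Subgroup.mem_bot] at this
    have hstab : stabilizer N a = ⊥ := by
      rw [eq_bot_iff]
      intro n hn
      rw [Subgroup.mem_bot]
      exact Subtype.ext (hreg n n.2 hn)
    have hNcard : Nat.card N = 100 := by
      have := index_stabilizer_of_transitive N a
      rwa [hstab, Subgroup.index_bot, hX] at this
    have hp5 : Fact (Nat.Prime 5) := ⟨by norm_num⟩
    obtain ⟨P⟩ : Nonempty (Sylow 5 N) := inferInstance
    have hPcard : Nat.card (P : Subgroup N) = 25 := by
      rw [Sylow.card_eq_multiplicity, hNcard]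
      have : (100 : ℕ).factorization 5 = 2 := by
        have h100 : (100 : ℕ) = 5 ^ 2 * 4 := by norm_num
        rw [h100, Nat.factorization_mul (by norm_num) (by norm_num), Nat.factorization_pow]
        have h4 : (4 : ℕ).factorization 5 = 0 := Nat.factorization_eq_zero_of_not_dvd (by norm_num)
        simp [h4, Nat.Prime.factorization_self (by norm_num : Nat.Prime 5)]
      rw [this]; norm_num
    have hPidx : (P : Subgroup N).index = 4 := by
      have := (P : Subgroup N).card_mul_index
      rw [hPcard, hNcard] at this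
      omega
    have hs1 : Nat.card (Sylow 5 N) = 1 := by
      have h2 := card_sylow_modEq_one 5 N
      have h3 := P.card_dvd_index
      rw [hPidx] at h3
      have h4 := Nat.le_of_dvd (by norm_num) h3
      unfold Nat.ModEq at h2
      interval_cases h : Nat.card (Sylow 5 N) <;> simp_all
    have hPn : (P : Subgroup N).Normal := by
      rw [← normalizer_eq_top_iff, ← index_eq_one]
      have h0 : Nat.card (Sylow 5 N) = (normalizer ((P : Subgroup N) : Set N)).index :=
        P.card_eq_index_normalizer
      rw [← h0, hs1]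
    have hPc : (P : Subgroup N).Characteristic := P.characteristic_of_normal hPn
    have hQn : ((P : Subgroup N).map N.subtype).Normal := inferInstance
    have hQcard : Nat.card ((P : Subgroup N).map N.subtype) = 25 := by
      rw [← hPcard]
      exact Nat.card_congr ((P : Subgroup N).equivMapOfInjective N.subtype
        N.subtype_injective).symm.toEquiv
    have hQbot : (P : Subgroup N).map N.subtype ≠ ⊥ := by
      intro h
      rw [h, Subgroup.card_bot] at hQcard
      omega
    have hQtr : IsPretransitive ((P : Subgroup N).map N.subtype) X :=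
      pretransitive_of_normal hfaith _ hQbot
    have := card_dvd_of_pretransitive' (α := X) ((P : Subgroup N).map N.subtype)
    rw [hX, hQcard] at this
    omega
  · rw [subgroupOf_eq_top] at h1
    apply hNtop
    rw [eq_top_iff]
    intro g _
    obtain ⟨n, hn⟩ := exists_smul_eq N a (g • a)
    have hn' : (n : G) • a = g • a := hn
    have : (n : G)⁻¹ * g ∈ stabilizer G a := by
      rw [mem_stabilizer_iff, mul_smul, ← hn', inv_smul_smul]
    have h2 := N.mul_mem n.2 (h1 this)
    rwa [mul_inv_cancel_left] at h2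


theorem ncard_range {X Y : Type*} {f : X → Y} (hf : Function.Injective f) :
    (Set.range f).ncard = Nat.card X := by
  rw [← Set.image_univ, Set.ncard_image_of_injective _ hf, Set.ncard_univ]

variable {α : Type*} [Fintype α] [DecidableEq α] {B : Set (Finset α)}

theorem prim_of (hα : Fintype.card α = 22) (hB : IsSteinerSystem 3 6 B) {G : Type*} [Group G]
    [MulAction G (Option (α ⊕ ↥B))] [IsPretransitive G (Option (α ⊕ ↥B))]
    (hP : ∀ a a' : α, ∃ g : G, g • (none : Option (α ⊕ ↥B)) = none ∧
      g • (some (Sum.inl a) : Option (α ⊕ ↥B)) = some (Sum.inl a'))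
    (hQ : ∀ b b' : ↥B, ∃ g : G, g • (none : Option (α ⊕ ↥B)) = none ∧
      g • (some (Sum.inr b) : Option (α ⊕ ↥B)) = some (Sum.inr b')) :
    IsPreprimitive G (Option (α ⊕ ↥B)) := by
  apply IsPreprimitive.of_isTrivialBlock_base (none : Option (α ⊕ ↥B))
  intro Bk hmem hblk
  have hfix : ∀ g : G, g • (none : Option (α ⊕ ↥B)) = none → g • Bk = Bk := by
    intro g hg
    exact hblk.smul_eq_of_mem hmem (by rw [hg]; exact hmem)
  have hP' : ∀ a a', (some (Sum.inl a) : Option (α ⊕ ↥B)) ∈ Bk → some (Sum.inl a') ∈ Bk := by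
    intro a a' h
    obtain ⟨g, h1, h2⟩ := hP a a'
    rw [← hfix g h1, ← h2]
    exact Set.smul_mem_smul_set h
  have hQ' : ∀ b b', (some (Sum.inr b) : Option (α ⊕ ↥B)) ∈ Bk → some (Sum.inr b') ∈ Bk := by
    intro b b' h
    obtain ⟨g, h1, h2⟩ := hQ b b'
    rw [← hfix g h1, ← h2]
    exact Set.smul_mem_smul_set h
  have hdvd := hblk.ncard_dvd_card ⟨none, hmem⟩
  rw [card_V hα hB] at hdvd
  by_cases p : ∃ a, (some (Sum.inl a) : Option (α ⊕ ↥B)) ∈ Bk <;>
    by_cases q : ∃ b, (some (Sum.inr b) : Option (α ⊕ ↥B)) ∈ Bk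
  · right
    obtain ⟨a, ha⟩ := p
    obtain ⟨b, hb⟩ := q
    ext v
    simp only [Set.mem_univ, iff_true]
    rcases v with _ | a' | b'
    · exact hmem
    · exact hP' a a' ha
    · exact hQ' b b' hb
  · exfalso
    obtain ⟨a, ha⟩ := p
    have h1 : Bk = Set.range (fun o : Option α => (o.map Sum.inl : Option (α ⊕ ↥B))) := by
      ext v
      rcases v with _ | a' | b'
      · exact ⟨fun _ => ⟨none, rfl⟩, fun _ => hmem⟩
      · exact ⟨fun _ => ⟨some a', rfl⟩, fun _ => hP' a a' ha⟩
      · constructor
        · intro h; exact absurd ⟨b', h⟩ q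
        · rintro ⟨o, ho⟩
          rcases o with _ | x <;> simp at ho
    rw [h1, ncard_range (Option.map_injective Sum.inl_injective), Finite.card_option,
      Nat.card_eq_fintype_card, hα] at hdvd
    omega
  · exfalso
    obtain ⟨b, hb⟩ := q
    have h1 : Bk = Set.range (fun o : Option ↥B => (o.map Sum.inr : Option (α ⊕ ↥B))) := by
      ext v
      rcases v with _ | a' | b'
      · exact ⟨fun _ => ⟨none, rfl⟩, fun _ => hmem⟩
      · constructor
        · intro h; exact absurd ⟨a', h⟩ p
        · rintro ⟨o, ho⟩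
          rcases o with _ | x <;> simp at ho
      · exact ⟨fun _ => ⟨some b', rfl⟩, fun _ => hQ' b b' hb⟩
    rw [h1, ncard_range (Option.map_injective Sum.inr_injective), Finite.card_option,
      card_blocks hα hB] at hdvd
    omega
  · left
    have h1 : ∀ v ∈ Bk, v = none := by
      intro v hv
      rcases v with _ | a' | b'
      · rfl
      · exact absurd ⟨a', hv⟩ p
      · exact absurd ⟨b', hv⟩ q
    intro v hv w hw
    rw [h1 v hv, h1 w hw]


variable (B) in
/-- the sign of the action on the 100 vertices -/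
noncomputable def sgn : AutG B →* ℤˣ :=
  letI : Fintype (Option (α ⊕ ↥B)) := Fintype.ofFinite _
  Perm.sign.comp (MulAction.toPermHom (AutG B) (Option (α ⊕ ↥B)))

variable (B) in
/-- the even automorphisms -/
noncomputable def HS : Subgroup (AutG B) := (sgn B).ker

theorem exists_odd (hα : Fintype.card α = 22) (hB : IsSteinerSystem 3 6 B) :
    ∃ σ : AutG B, sgn B σ = -1 := by
  obtain ⟨σ, -, -, h⟩ := exists_sigma hα hB
  exact ⟨σ, @h (Fintype.ofFinite _) _⟩

theorem index_HS (hα : Fintype.card α = 22) (hB : IsSteinerSystem 3 6 B) : (HS B).index = 2 := by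
  obtain ⟨σ, hσ⟩ := exists_odd hα hB
  have hsurj : Function.Surjective (sgn B) := by
    intro u
    rcases Int.units_eq_one_or u with rfl | rfl
    · exact ⟨1, map_one _⟩
    · exact ⟨σ, hσ⟩
  rw [HS, index_ker, MonoidHom.range_eq_top.2 hsurj, Subgroup.card_top, Nat.card_eq_fintype_card,
    Fintype.card_units_int]

theorem card_HS (hα : Fintype.card α = 22) (hB : IsSteinerSystem 3 6 B) :
    Nat.card (HS B) = 44352000 := by
  have h := (HS B).card_mul_index
  rw [index_HS hα hB, card_aut hα hB] at h
  omega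

theorem faith (g : AutG B) (h : ∀ y : Option (α ⊕ ↥B), g • y = y) : g = 1 := RelIso.ext h

theorem prim_aut (hα : Fintype.card α = 22) (hB : IsSteinerSystem 3 6 B) :
    IsPreprimitive (AutG B) (Option (α ⊕ ↥B)) := by
  have := aut_trans hα hB
  apply prim_of hα hB
  · intro a a'
    obtain ⟨π, hπ⟩ := (pt_trans hα hB).exists_smul_eq a a'
    exact ⟨E B π, rfl, congrArg (fun z => some (Sum.inl z)) hπ⟩
  · intro b b'
    obtain ⟨π, hπ⟩ := blk_trans hα hB b.2 b'.2
    exact ⟨E B π, rfl, E_blk' π b b' hπ⟩

theorem finite_aut (hα : Fintype.card α = 22) (hB : IsSteinerSystem 3 6 B) : Finite (AutG B) :=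
  Nat.finite_of_card_ne_zero (by rw [card_aut hα hB]; norm_num)

theorem HS_trans (hα : Fintype.card α = 22) (hB : IsSteinerSystem 3 6 B) :
    IsPretransitive (HS B) (Option (α ⊕ ↥B)) := by
  have := prim_aut hα hB
  have hn : (HS B).Normal := by unfold HS; infer_instance
  apply pretransitive_of_normal faith (HS B)
  intro h
  have := card_HS hα hB
  rw [h, Subgroup.card_bot] at this
  omega

variable (B) in
/-- the design automorphisms acting evenly on the graph -/
noncomputable def S1 : Subgroup (setSystemAut B) := (HS B).comap (E B)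

/-- the point stabiliser of the even group -/
noncomputable def stabEquiv' : S1 B ≃* stabilizer (HS B) (none : Option (α ⊕ ↥B)) :=
  MulEquiv.ofBijective ((((E B).comp (S1 B).subtype).codRestrict (HS B) (fun π => π.2)).codRestrict
    (stabilizer (HS B) (none : Option (α ⊕ ↥B))) (fun π => E_none π.1)) ⟨by
    intro π π' h
    have h1 : E B π.1 = E B π'.1 :=
      congrArg (fun z : stabilizer (HS B) (none : Option (α ⊕ ↥B)) => ((z : HS B) : AutG B)) h
    exact Subtype.ext (E_injective h1), by
    rintro ⟨⟨φ, hφ⟩, hφ'⟩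
    obtain ⟨π, hπ⟩ := exists_of_fix φ hφ'
    refine ⟨⟨π, ?_⟩, Subtype.ext (Subtype.ext hπ)⟩
    show E B π ∈ HS B
    rw [hπ]; exact hφ⟩

theorem stabEquiv'_coe (π : S1 B) : ((stabEquiv' π : HS B) : AutG B) = E B π.1 := rfl

theorem card_S1 (hα : Fintype.card α = 22) (hB : IsSteinerSystem 3 6 B) :
    Nat.card (S1 B) = 443520 := by
  have := HS_trans hα hB
  have h := (stabilizer (HS B) (none : Option (α ⊕ ↥B))).card_mul_index
  rw [index_stabilizer_of_transitive, card_V hα hB, ← Nat.card_congr stabEquiv'.toEquiv,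
    card_HS hα hB] at h
  omega

theorem index_S1 (hα : Fintype.card α = 22) (hB : IsSteinerSystem 3 6 B) : (S1 B).index = 2 := by
  have h := (S1 B).card_mul_index
  rw [card_S1 hα hB, (Cfsg.Agent.S0414.result hα hB).1] at h
  omega

theorem simple_S1 (hα : Fintype.card α = 22) (hB : IsSteinerSystem 3 6 B) :
    IsSimpleGroup (S1 B) := by
  obtain ⟨hc, -, S0, h0, hs, hc0⟩ := Cfsg.Agent.S0414.result hα hB
  have hfin : Finite (setSystemAut B) := Nat.finite_of_card_ne_zero (by rw [hc]; norm_num)
  rw [eq_of_index_two S0 (S1 B) h0 (index_S1 hα hB) hs (by rw [hc0]; norm_num)]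
  exact hs


theorem S1_pt_trans (hα : Fintype.card α = 22) (hB : IsSteinerSystem 3 6 B) :
    IsPretransitive (S1 B) α := by
  have h3 := (Cfsg.Agent.S0414.result hα hB).2.1
  have h2 : IsMultiplyPretransitive (setSystemAut B) α 2 :=
    MulAction.isMultiplyPretransitive_of_le (n := 3) (by norm_num)
      (by rw [Nat.card_eq_fintype_card, hα]; norm_num)
  have hprim : IsPreprimitive (setSystemAut B) α := isPreprimitive_of_is_two_pretransitive h2
  have hn : (S1 B).Normal := normal_of_index_eq_two (index_S1 hα hB)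
  apply pretransitive_of_normal (G := setSystemAut B) _ (S1 B)
  · intro h
    have := card_S1 hα hB
    rw [h, Subgroup.card_bot] at this
    omega
  · intro g hg
    exact Subtype.ext (Equiv.ext hg)

theorem S1_blk_trans (hα : Fintype.card α = 22) (hB : IsSteinerSystem 3 6 B) {b c : Finset α}
    (hb : b ∈ B) (hc : c ∈ B) : ∃ π : S1 B, b.image π.1.1 = c := by
  have horb : orbit (setSystemAut B) b = B := by
    ext d
    constructor
    · rintro ⟨π, rfl⟩
      exact image_mem π.2 hb
    · intro hd
      obtain ⟨π, hπ⟩ := blk_trans hα hB hb hd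
      exact ⟨π, hπ⟩
  have hT := (stabilizer (setSystemAut B) b).card_mul_index
  rw [index_stabilizer, horb, ← Nat.card_coe_set_eq, card_blocks hα hB,
    (Cfsg.Agent.S0414.result hα hB).1] at hT
  have hT' : Nat.card (stabilizer (setSystemAut B) b) = 11520 := by omega
  have hex : ∃ ρ ∈ stabilizer (setSystemAut B) b, ρ ∉ S1 B := by
    by_contra hcon
    push Not at hcon
    have h1 := Subgroup.card_dvd_of_le (H := stabilizer (setSystemAut B) b) (K := S1 B) hcon
    rw [hT', card_S1 hα hB] at h1
    omega
  obtain ⟨ρ, hρ, hρ'⟩ := hex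
  obtain ⟨π, hπ⟩ := blk_trans hα hB hb hc
  by_cases h : π ∈ S1 B
  · exact ⟨⟨π, h⟩, hπ⟩
  · refine ⟨⟨π * ρ, ?_⟩, ?_⟩
    · rw [mul_mem_iff_of_index_two (index_S1 hα hB)]
      exact ⟨fun h' => absurd h' h, fun h' => absurd h' hρ'⟩
    · have hρb : b.image ρ.1 = b := hρ
      show b.image (π.1 * ρ.1) = c
      rw [← hπ]
      conv_rhs => rw [← hρb]
      rw [Finset.image_image]
      rfl

theorem prim_HS (hα : Fintype.card α = 22) (hB : IsSteinerSystem 3 6 B) :
    IsPreprimitive (HS B) (Option (α ⊕ ↥B)) := by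
  have := HS_trans hα hB
  apply prim_of hα hB
  · intro a a'
    obtain ⟨π, hπ⟩ := (S1_pt_trans hα hB).exists_smul_eq a a'
    exact ⟨⟨E B π.1, π.2⟩, rfl, congrArg (fun z => some (Sum.inl z)) hπ⟩
  · intro b b'
    obtain ⟨π, hπ⟩ := S1_blk_trans hα hB b.2 b'.2
    exact ⟨⟨E B π.1, π.2⟩, rfl, E_blk' π.1 b b' hπ⟩

theorem simple_HS (hα : Fintype.card α = 22) (hB : IsSteinerSystem 3 6 B) :
    IsSimpleGroup (HS B) := by
  have := prim_HS hα hB
  have := finite_aut hα hB
  have hs := simple_S1 hα hB
  apply simple_of_primitive_100 (X := Option (α ⊕ ↥B)) _ none _ (card_V hα hB)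
  · intro g hg
    exact Subtype.ext (faith g.1 hg)
  · exact stabEquiv'.symm.isSimpleGroup

theorem isHS (hα : Fintype.card α = 22) (hB : IsSteinerSystem 3 6 B) : IsHS (HS B) :=
  ⟨simple_HS hα hB, card_HS hα hB⟩

end Cfsg.Agent.Lib.Helper10HSSimple
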