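import Cfsg.Agent.Lib.Helper10HSOrb
import Cfsg.Agent.Lib.Helper10HSSimple

/-!
# Fixed vertices of automorphisms of order 7 and 11 of the 100-vertex graph (helper10)
-/

set_option autoImplicit false
set_option linter.unusedSectionVars false

namespace Cfsg.Agent.Lib.Helper10HSFix

open Cfsg Finset Equiv MulAction Subgroup Cfsg.Agent.Lib.Helper10HSGraph
  Cfsg.Agent.Lib.Helper10HSGroup Cfsg.Agent.Lib.Helper10HSSimple Cfsg.Agent.Lib.Helper10HSOrb
  Cfsg.Agent.Lib.Helper10SRG

variable {α : Type*} [Fintype α] [DecidableEq α] {B : Set (Finset α)}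

theorem order_dvd (hα : Fintype.card α = 22) (hB : IsSteinerSystem 3 6 B) (π : setSystemAut B)
    (x : Fin 3 ↪ α) (hx : ∀ i, π • x i = x i) : orderOf π ∣ 96 := by
  have h3 := (Cfsg.Agent.S0414.result hα hB).2.1
  have h5 := @index_stabilizer_of_transitive _ _ _ _ x h3
  obtain ⟨T, hT, hidx⟩ : ∃ T : Subgroup (setSystemAut B), (∀ π, (∀ i, π • x i = x i) → π ∈ T) ∧
      T.index = Nat.card (Fin 3 ↪ α) := ⟨_, fun π h => by
        rw [mem_stabilizer_iff]
        ext i
        exact h i, h5⟩
  have h := T.card_mul_index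
  rw [hidx, (Cfsg.Agent.S0414.result hα hB).1, Nat.card_eq_fintype_card (α := Fin 3 ↪ α),
    Fintype.card_embedding_eq, hα, Fintype.card_fin] at h
  have h2 : Nat.descFactorial 22 3 = 9240 := by decide
  rw [h2] at h
  have h6 : Nat.card T = 96 := by omega
  rw [← h6]
  exact Subgroup.orderOf_dvd_natCard _ (hT π hx)

theorem fix_pts_le (hα : Fintype.card α = 22) (hB : IsSteinerSystem 3 6 B) (π : setSystemAut B)
    (p : ℕ) (hord : orderOf π = p) (h96 : ¬ p ∣ 96) :
    (univ.filter (fun a : α => π • a = a)).card ≤ 2 := by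
  by_contra hcon
  push Not at hcon
  obtain ⟨x, hx⟩ := exists_emb (s := univ.filter (fun a : α => π • a = a)) (k := 3) (by omega)
  have := order_dvd hα hB π x (fun i => (Finset.mem_filter.1 (hx i)).2)
  rw [hord] at this
  exact h96 this

theorem no_fix_blk (hα : Fintype.card α = 22) (hB : IsSteinerSystem 3 6 B) (π : setSystemAut B)
    (p : ℕ) [Fact p.Prime] (hord : orderOf π = p) (h96 : ¬ p ∣ 96) (h7 : 7 ≤ p) (b : Finset α)
    (hb : b ∈ B) : b.image π.1 ≠ b := by
  intro hfix
  have hm := modEq_fix π p (by rw [← hord]; exact pow_orderOf_eq_one π) b (by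
    intro v
    constructor
    · intro hv
      rw [← hfix] at hv
      obtain ⟨w, hw, hwv⟩ := Finset.mem_image.1 hv
      rw [← π.1.injective hwv]; exact hw
    · intro hv
      rw [← hfix]
      exact Finset.mem_image_of_mem _ hv)
  have h6 : b.card = 6 := hB.1 b hb
  have hle : (b.filter (fun v => π • v = v)).card ≤ 2 :=
    le_trans (Finset.card_le_card (Finset.filter_subset_filter _ (Finset.subset_univ b)))
      (fix_pts_le hα hB π p hord h96)
  unfold Nat.ModEq at hm
  rw [h6, Nat.mod_eq_of_lt (by omega), Nat.mod_eq_of_lt (by omega)] at hm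
  omega

theorem fix_le_three (hα : Fintype.card α = 22) (hB : IsSteinerSystem 3 6 B) (φ : AutG B)
    (p : ℕ) [Fact p.Prime] (hord : orderOf φ = p) (h96 : ¬ p ∣ 96) (h7 : 7 ≤ p)
    [Fintype (Option (α ⊕ ↥B))] [DecidableEq (Option (α ⊕ ↥B))] :
    (univ.filter (fun v : Option (α ⊕ ↥B) => φ • v = v)).card ≤ 3 := by
  by_cases hne : ∃ v : Option (α ⊕ ↥B), φ • v = v
  · obtain ⟨v, hv⟩ := hne
    obtain ⟨ψ, hψ⟩ := (aut_trans hα hB).exists_smul_eq v none
    have h0 : (ψ * φ * ψ⁻¹) • (none : Option (α ⊕ ↥B)) = none := by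
      rw [← hψ, mul_smul, inv_smul_smul, mul_smul, hv]
    obtain ⟨π, hπ⟩ := exists_of_fix (ψ * φ * ψ⁻¹) h0
    have hoπ : orderOf π = p := by
      rw [← orderOf_injective (E B) E_injective π, hπ, ← hord, ← MulAut.conj_apply]
      exact MulEquiv.orderOf_eq _ _
    have hsub : (univ.filter (fun v : Option (α ⊕ ↥B) => φ • v = v)).image (fun v => ψ • v) ⊆
        insert none ((univ.filter (fun a : α => π • a = a)).image (fun a => some (Sum.inl a))) := by
      intro w hw
      obtain ⟨u, hu, rfl⟩ := Finset.mem_image.1 hw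
      have hu' : φ • u = u := (Finset.mem_filter.1 hu).2
      have hfix : E B π (ψ • u) = ψ • u := by
        rw [hπ]
        show (ψ * φ * ψ⁻¹) • ψ • u = ψ • u
        rw [mul_smul, inv_smul_smul, mul_smul, hu']
      rcases hw' : ψ • u with _ | a | b
      · exact Finset.mem_insert_self _ _
      · apply Finset.mem_insert_of_mem
        apply Finset.mem_image_of_mem
        rw [hw', E_pt] at hfix
        exact Finset.mem_filter.2 ⟨Finset.mem_univ _,
          Sum.inl_injective (Option.some_injective _ hfix)⟩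
      · exfalso
        rw [hw'] at hfix
        obtain ⟨c, h1, h2⟩ := E_blk π b
        rw [h1] at hfix
        have h3 : c = b := Sum.inr_injective (Option.some_injective _ hfix)
        rw [h3] at h2
        exact no_fix_blk hα hB π p hoπ h96 h7 b.1 b.2 h2.symm
    have h1 := Finset.card_le_card hsub
    rw [Finset.card_image_of_injective _ (MulAction.injective ψ)] at h1
    have h2 := Finset.card_insert_le (none : Option (α ⊕ ↥B))
      ((univ.filter (fun a : α => π • a = a)).image (fun a => some (Sum.inl a)))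
    have h3 : ((univ.filter (fun a : α => π • a = a)).image
        (fun a => (some (Sum.inl a) : Option (α ⊕ ↥B)))).card ≤ _ := Finset.card_image_le
    have h4 := fix_pts_le hα hB π p hoπ h96
    omega
  · rw [Finset.filter_eq_empty_iff.2 (fun v _ hv => hne ⟨v, hv⟩)]
    simp

theorem card_univ_V (hα : Fintype.card α = 22) (hB : IsSteinerSystem 3 6 B)
    [Fintype (Option (α ⊕ ↥B))] : (univ : Finset (Option (α ⊕ ↥B))).card = 100 := by
  rw [Finset.card_univ, ← Nat.card_eq_fintype_card, card_V hα hB]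

theorem fix11 (hα : Fintype.card α = 22) (hB : IsSteinerSystem 3 6 B) (φ : AutG B)
    (hord : orderOf φ = 11) : ∃ x : Option (α ⊕ ↥B), ∀ v, φ • v = v ↔ v = x := by
  classical
  have : Fintype (Option (α ⊕ ↥B)) := Fintype.ofFinite _
  have hp : Fact (Nat.Prime 11) := ⟨by norm_num⟩
  have h1 := fix_le_three hα hB φ 11 hord (by norm_num) (by norm_num)
  have h2 := modEq_fix φ 11 (by rw [← hord]; exact pow_orderOf_eq_one φ)
    (univ : Finset (Option (α ⊕ ↥B))) (fun v => by simp)
  rw [card_univ_V hα hB] at h2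
  unfold Nat.ModEq at h2
  have h3 : (univ.filter (fun v : Option (α ⊕ ↥B) => φ • v = v)).card = 1 := by
    rw [Nat.mod_eq_of_lt (by omega)] at h2
    exact h2
  obtain ⟨x, hx⟩ := Finset.card_eq_one.1 h3
  refine ⟨x, fun v => ?_⟩
  have h4 : v ∈ univ.filter (fun v : Option (α ⊕ ↥B) => φ • v = v) ↔ v ∈ ({x} : Finset _) := by
    rw [hx]
  rw [Finset.mem_filter, Finset.mem_singleton] at h4
  rw [← h4]
  simp

theorem fix7 (hα : Fintype.card α = 22) (hB : IsSteinerSystem 3 6 B) (φ : AutG B)
    (hord : orderOf φ = 7) [Fintype (Option (α ⊕ ↥B))] [DecidableEq (Option (α ⊕ ↥B))] :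
    (univ.filter (fun v : Option (α ⊕ ↥B) => φ • v = v)).card ≤ 2 := by
  have hp : Fact (Nat.Prime 7) := ⟨by norm_num⟩
  have h1 := fix_le_three hα hB φ 7 hord (by norm_num) (by norm_num)
  have h2 := modEq_fix φ 7 (by rw [← hord]; exact pow_orderOf_eq_one φ)
    (univ : Finset (Option (α ⊕ ↥B))) (fun v => by simp)
  rw [card_univ_V hα hB] at h2
  unfold Nat.ModEq at h2
  rw [Nat.mod_eq_of_lt (by omega)] at h2
  omega

end Cfsg.Agent.Lib.Helper10HSFix
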