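import Cfsg.Prelude.Def_Sporadic_a

/-!
# Automorphisms of the point-block graph of a set system (helper10)
-/

set_option autoImplicit false
set_option linter.unusedSectionVars false

namespace Cfsg.Agent.Lib.Helper10HSGraph

open Cfsg Finset Equiv
open scoped Pointwise

variable {α β : Type*} [DecidableEq α] [DecidableEq β]

/-- the bijection between blocks induced by an isomorphism of set systems -/
noncomputable def blkEquiv {B : Set (Finset α)} {B' : Set (Finset β)} (e : α ≃ β)
    (h : (fun b => b.image e) '' B = B') : ↥B ≃ ↥B' :=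
  (Equiv.Set.image _ B (Finset.image_injective e.injective)).trans (Equiv.setCongr h)

theorem blkEquiv_coe {B : Set (Finset α)} {B' : Set (Finset β)} (e : α ≃ β)
    (h : (fun b => b.image e) '' B = B') (b : ↥B) : (blkEquiv e h b).1 = b.1.image e := rfl

theorem rel_map {B : Set (Finset α)} {B' : Set (Finset β)} (e : α ≃ β)
    (h : (fun b => b.image e) '' B = B') (v w : Option (α ⊕ ↥B)) :
    pointBlockRel B' (Equiv.optionCongr (Equiv.sumCongr e (blkEquiv e h)) v)
      (Equiv.optionCongr (Equiv.sumCongr e (blkEquiv e h)) w) ↔ pointBlockRel B v w := by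
  rcases v with _ | a | b <;> rcases w with _ | a' | c
  · exact Iff.rfl
  · exact Iff.rfl
  · exact Iff.rfl
  · exact Iff.rfl
  · exact Iff.rfl
  · show e a ∈ c.1.image e ↔ a ∈ c.1
    exact e.injective.mem_finset_image
  · exact Iff.rfl
  · exact Iff.rfl
  · show Disjoint (b.1.image e) (c.1.image e) ↔ Disjoint b.1 c.1
    exact Finset.disjoint_image e.injective

/-- the graph isomorphism induced by an isomorphism of set systems -/
noncomputable def isoOf {B : Set (Finset α)} {B' : Set (Finset β)} (e : α ≃ β)
    (h : (fun b => b.image e) '' B = B') : pointBlockGraph B ≃g pointBlockGraph B' where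
  toEquiv := Equiv.optionCongr (Equiv.sumCongr e (blkEquiv e h))
  map_rel_iff' := by
    intro v w
    simp only [pointBlockGraph, SimpleGraph.fromRel_adj, rel_map, ne_eq, EmbeddingLike.apply_eq_iff_eq]

theorem isoOf_none {B : Set (Finset α)} {B' : Set (Finset β)} (e : α ≃ β)
    (h : (fun b => b.image e) '' B = B') : isoOf e h none = none := rfl

theorem isoOf_pt {B : Set (Finset α)} {B' : Set (Finset β)} (e : α ≃ β)
    (h : (fun b => b.image e) '' B = B') (a : α) :
    isoOf e h (some (Sum.inl a)) = some (Sum.inl (e a)) := rfl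

theorem isoOf_blk {B : Set (Finset α)} {B' : Set (Finset β)} (e : α ≃ β)
    (h : (fun b => b.image e) '' B = B') (b : ↥B) :
    isoOf e h (some (Sum.inr b)) = some (Sum.inr (blkEquiv e h b)) := rfl

variable (B : Set (Finset α))

/-- the automorphism group of the graph -/
abbrev AutG := pointBlockGraph B ≃g pointBlockGraph B

/-- extension of automorphisms of the set system to the graph -/
noncomputable def E : setSystemAut B →* AutG B :=
  MonoidHom.mk' (fun π => isoOf π.1 π.2) (by
    intro π π'
    apply RelIso.ext
    intro v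
    rcases v with _ | a | b
    · rfl
    · rfl
    · show some (Sum.inr _) = some (Sum.inr _)
      congr 2
      apply Subtype.ext
      show b.1.image (π.1 * π'.1) = (b.1.image π'.1).image π.1
      rw [Finset.image_image]
      rfl)

variable {B}

theorem E_none (π : setSystemAut B) : E B π none = none := rfl

theorem E_pt (π : setSystemAut B) (a : α) :
    E B π (some (Sum.inl a)) = some (Sum.inl (π.1 a)) := rfl

theorem E_blk (π : setSystemAut B) (b : ↥B) :
    ∃ c : ↥B, E B π (some (Sum.inr b)) = some (Sum.inr c) ∧ c.1 = b.1.image π.1 := ⟨_, rfl, rfl⟩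

theorem E_injective : Function.Injective (E B) := by
  intro π π' h
  apply Subtype.ext
  apply Equiv.ext
  intro a
  have h1 := congrArg (fun φ : AutG B => φ (some (Sum.inl a))) h
  simp only [E_pt] at h1
  exact Sum.inl_injective (Option.some_injective _ h1)

theorem adj_none_iff (w : Option (α ⊕ ↥B)) :
    (pointBlockGraph B).Adj none w ↔ ∃ a, w = some (Sum.inl a) := by
  rw [pointBlockGraph, SimpleGraph.fromRel_adj]
  rcases w with _ | a | b
  · simp [pointBlockRel]
  · simp [pointBlockRel]
  · simp [pointBlockRel]

theorem adj_pt_blk (a : α) (b : ↥B) :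
    (pointBlockGraph B).Adj (some (Sum.inl a)) (some (Sum.inr b)) ↔ a ∈ b.1 := by
  rw [pointBlockGraph, SimpleGraph.fromRel_adj]
  simp [pointBlockRel]

theorem map_pt (φ : AutG B) (h : φ none = none) (a : α) :
    ∃ a', φ (some (Sum.inl a)) = some (Sum.inl a') := by
  rw [← adj_none_iff, ← h, φ.map_rel_iff, adj_none_iff]
  exact ⟨a, rfl⟩

theorem exists_of_fix [Finite α] (φ : AutG B) (h : φ none = none) : ∃ π : setSystemAut B, E B π = φ := by
  have h' : φ.symm none = none := by
    conv_lhs => rw [← h]
    exact RelIso.symm_apply_apply _ _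
  choose f hf using map_pt φ h
  choose g hg using map_pt φ.symm h'
  have hgf : ∀ a, g (f a) = a := by
    intro a
    have := hg (f a)
    rw [← hf a, RelIso.symm_apply_apply] at this
    exact (Sum.inl_injective (Option.some_injective _ this)).symm
  have hfg : ∀ a, f (g a) = a := by
    intro a
    have := hf (g a)
    rw [← hg a, RelIso.apply_symm_apply] at this
    exact (Sum.inl_injective (Option.some_injective _ this)).symm
  let π : Perm α := ⟨f, g, hgf, hfg⟩
  have hblk : ∀ b : ↥B, ∃ c : ↥B, φ (some (Sum.inr b)) = some (Sum.inr c) := by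
    intro b
    rcases hb : φ (some (Sum.inr b)) with _ | a | c
    · rw [← h] at hb
      exact absurd (φ.injective hb) (by simp)
    · have : φ (some (Sum.inr b)) = φ (some (Sum.inl (g a))) := by rw [hb, hf, hfg]
      exact absurd (φ.injective this) (by simp)
    · exact ⟨c, rfl⟩
  choose r hr using hblk
  have hr' : ∀ b : ↥B, (r b).1 = b.1.image π := by
    intro b
    ext x
    rw [← adj_pt_blk, ← hr, ← hfg x, ← hf, φ.map_rel_iff, adj_pt_blk]
    constructor
    · intro hx
      exact Finset.mem_image.2 ⟨g x, hx, rfl⟩
    · intro hx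
      obtain ⟨y, hy, hyx⟩ := Finset.mem_image.1 hx
      have : y = g x := by
        have h1 : f y = f (g x) := hyx
        rw [← hgf y, h1, hgf]
      rwa [← this]
  have hπ : π ∈ setSystemAut B := by
    rw [MulAction.mem_stabilizer_set_iff_smul_set_subset (Set.toFinite _)]
    rintro _ ⟨b, hb, rfl⟩
    show b.image π ∈ B
    rw [← hr' ⟨b, hb⟩]
    exact (r ⟨b, hb⟩).2
  refine ⟨⟨π, hπ⟩, ?_⟩
  apply RelIso.ext
  intro v
  rcases v with _ | a | b
  · exact h.symm
  · exact (hf a).symm
  · rw [hr]
    show some (Sum.inr _) = some (Sum.inr _)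
    congr 2
    apply Subtype.ext
    exact (hr' b).symm

end Cfsg.Agent.Lib.Helper10HSGraph
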