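import Cfsg.Agent.Lib.Helper10AutW
import Cfsg.Agent.Lib.Helper10HSGraph

/-!
# A coded model of the 100-vertex point-block graph of the octad system S(3,6,22) (helper10)
-/

set_option autoImplicit false

namespace Cfsg.Agent.Lib.Helper10HSModel

open Cfsg Finset Cfsg.Agent.Lib.Helper33Golay Cfsg.Agent.Lib.Helper10Ext
  Cfsg.Agent.Lib.Helper10Chain Cfsg.Agent.Lib.Helper10AutW

abbrev P0 := {x : GolayPt // x ∉ A2}
abbrev V0 := Option (P0 ⊕ ↥(WS A2))

def hexL : List ℕ := [13062145, 9347075, 11100169, 14716939, 8966165, 12656663, 10846245, 8536111, 15335473, 8663097, 9506893, 11575377, 13893731, 14254209, 9465987, 9830549, 11010247, 12599513, 8593633, 11731203, 9748745, 9969957, 12747077, 9240913, 10506593, 14950785, 9048457, 8421811, 12325377, 13771273, 9519665, 8675909, 8524371, 8946281, 10666625, 8716939, 12587685, 8499969, 13124355, 10486557, 10630149, 13370381, 10765331, 8619033, 12641313, 8983587, 10110017, 11535529, 8688833, 13636881, 8398155, 8471941, 9471495, 14747201, 8922769, 8783649, 15747077, 9963547, 9607201, 13121601,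 8505411, 10881097, 8431757, 10557585, 9193633, 8657159, 8546577, 12650793, 9112069, 12880401, 10496547, 9440193, 9776129, 8391797, 12717187, 11046145, 8412681]

def ptL : List ℕ := [2, 3, 4, 5, 6, 7, 8, 9, 10, 11, 12, 13, 14, 15, 16, 17, 18, 19, 20, 21, 22, 23]

def VL : List ℕ := 0 :: (ptL ++ hexL)

def TL : List ℕ := [17, 12656663, 11731203, 10557585, 8716939, 9776129, 14747201, 8619033, 9112069, 9240913, 8593633, 12650793, 11100169, 8983587, 13062145, 14254209, 0, 8471941, 9519665, 8499969, 10846245, 9506893, 8505411, 15, 10881097, 13, 8783649, 8391797, 2, 21, 8946281, 15335473, 12747077, 22, 8546577, 9048457, 16, 9440193, 13121601, 9193633, 9969957, 11, 3, 8398155, 12599513, 8663097, 10, 8421811, 14950785, 13893731, 10506593, 12717187, 13771273, 19, 8431757, 9607201, 8536111, 10496547, 5, 12587685, 20, 11535529, 12641313, 12880401, 13370381, 11046145, 8, 10486557, 14, 9963547, 13124355, 8657159, 13636881, 9748745, 18, 8412681, 7, 15747077, 14716939, 8922769, 10110017, 8524371, 9830549, 23, 9347075, 8675909, 4, 11010247,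 8688833, 11575377, 12, 9, 10630149, 10666625, 9465987, 6, 8966165, 12325377, 10765331, 9471495]

theorem hexL_eq : hexL = octL.filter (fun o => Nat.beq (Nat.land 8388609 o) 8388609) := by
  decide +kernel

theorem beq_iff' {a b : ℕ} : Nat.beq a b = true ↔ a = b :=
  ⟨Nat.eq_of_beq_eq_true, fun h => h ▸ Nat.beq_refl a⟩

theorem mem_hexL {o : ℕ} : o ∈ hexL ↔ o ∈ octL ∧ 8388609 &&& o = 8388609 := by
  rw [hexL_eq, List.mem_filter, beq_iff']
  rfl

theorem enc_A2 : enc A2 = 8388609 := by rw [← dec_A2, enc_dec (by norm_num)]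

/-- the octad of a block -/
def oct (b : ↥(WS A2)) : Finset GolayPt := b.1.map (Function.Embedding.subtype _) ∪ A2

theorem oct_mem (b : ↥(WS A2)) : oct b ∈ octads := b.2

theorem A2_subset_oct (b : ↥(WS A2)) : A2 ⊆ oct b := Finset.subset_union_right

theorem mem_oct_iff (b : ↥(WS A2)) (x : P0) : x.1 ∈ oct b ↔ x ∈ b.1 := by
  simp only [oct, Finset.mem_union, Finset.mem_map, Function.Embedding.coe_subtype]
  constructor
  · rintro (⟨y, hy, hyx⟩ | h)
    · rwa [← Subtype.ext hyx]
    · exact absurd h x.2
  · intro h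
    exact Or.inl ⟨x, h, rfl⟩

theorem oct_injective : Function.Injective oct := by
  intro b c h
  apply Subtype.ext
  ext x
  rw [← mem_oct_iff, ← mem_oct_iff, h]

theorem enc_oct_mem (b : ↥(WS A2)) : enc (oct b) ∈ hexL := by
  rw [mem_hexL]
  refine ⟨(mem_octads_iff _).1 (oct_mem b), ?_⟩
  rw [← dec_subset_iff (by norm_num), dec_A2, dec_enc]
  exact A2_subset_oct b

theorem hexL_gt : ∀ c ∈ hexL, 24 < c := by decide +kernel

theorem enc_oct_gt (b : ↥(WS A2)) : 24 < enc (oct b) := hexL_gt _ (enc_oct_mem b)

/-- the code of a vertex -/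
def code : V0 → ℕ
  | none => 0
  | some (Sum.inl x) => idx x.1 + 1
  | some (Sum.inr b) => enc (oct b)

theorem idx_injective : Function.Injective idx := fun p q h => by
  rw [← pt_idx p, ← pt_idx q, h]

theorem code_injective : Function.Injective code := by
  intro v w h
  rcases v with _ | x | b <;> rcases w with _ | y | c
  · rfl
  · exact absurd h (by simp [code])
  · have := enc_oct_gt c
    simp only [code] at h
    omega
  · exact absurd h (by simp [code])
  · simp only [code] at h
    have : x = y := Subtype.ext (idx_injective (by omega))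
    rw [this]
  · have := enc_oct_gt c
    have := idx_lt x.1
    simp only [code] at h
    omega
  · have := enc_oct_gt b
    simp only [code] at h
    omega
  · have := enc_oct_gt b
    have := idx_lt y.1
    simp only [code] at h
    omega
  · simp only [code] at h
    rw [oct_injective (enc_injective h)]

theorem ptL_chk : ∀ i < 24, i ≠ 0 → i ≠ 23 → i + 1 ∈ ptL := by decide +kernel

theorem idx_ne (x : P0) : idx x.1 ≠ 0 ∧ idx x.1 ≠ 23 := by
  constructor
  · intro h
    apply x.2
    have : x.1 = some 0 := idx_injective (by rw [h]; rfl)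
    rw [this]; decide
  · intro h
    apply x.2
    have : x.1 = none := idx_injective (by rw [h]; rfl)
    rw [this]; decide

theorem code_mem (v : V0) : code v ∈ VL := by
  rcases v with _ | x | b
  · exact List.mem_cons_self
  · exact List.mem_cons_of_mem _ (List.mem_append_left _
      (ptL_chk _ (idx_lt x.1) (idx_ne x).1 (idx_ne x).2))
  · exact List.mem_cons_of_mem _ (List.mem_append_right _ (enc_oct_mem b))

theorem ptL_chk2 : ∀ c ∈ ptL, 1 ≤ c ∧ c - 1 < 24 ∧ pt (c - 1) ∉ A2 := by decide +kernel

theorem exists_code {c : ℕ} (hc : c ∈ VL) : ∃ v : V0, code v = c := by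
  rcases List.mem_cons.1 hc with rfl | hc
  · exact ⟨none, rfl⟩
  rcases List.mem_append.1 hc with hc | hc
  · obtain ⟨h1, h2, h3⟩ := ptL_chk2 c hc
    refine ⟨some (Sum.inl ⟨pt (c - 1), h3⟩), ?_⟩
    simp only [code]
    rw [idx_pt h2]
    omega
  · obtain ⟨h1, h2⟩ := mem_hexL.1 hc
    have hA : A2 ⊆ dec c := by
      rw [← dec_A2, dec_subset_iff (by norm_num)]; exact h2
    have hb : (dec c).subtype (fun x => x ∉ A2) ∈ WS A2 := by
      show _ ∈ octads
      rw [subtype_map_union hA]; exact dec_mem_octads h1
    refine ⟨some (Sum.inr ⟨_, hb⟩), ?_⟩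
    show enc ((((dec c).subtype (fun x => x ∉ A2)).map (Function.Embedding.subtype _)) ∪ A2) = c
    rw [subtype_map_union hA, enc_dec (octL_lt h1)]


/-- coded version of the defining relation -/
def relC (a b : ℕ) : Bool :=
  if a = 0 then Nat.ble 1 b && Nat.ble b 24
  else if a ≤ 24 then Nat.blt 24 b && Nat.testBit b (a - 1)
  else Nat.blt 24 b && Nat.beq (Nat.land a b) 8388609

def adjC (a b : ℕ) : Bool := relC a b || relC b a

theorem blt_iff {a b : ℕ} : Nat.blt a b = true ↔ a < b := by
  simp [Nat.blt]

theorem oct_inter (b c : ↥(WS A2)) : oct b ∩ oct c = A2 ↔ Disjoint b.1 c.1 := by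
  constructor
  · intro h
    rw [Finset.disjoint_left]
    intro x hxb hxc
    have : x.1 ∈ oct b ∩ oct c :=
      Finset.mem_inter.2 ⟨(mem_oct_iff b x).2 hxb, (mem_oct_iff c x).2 hxc⟩
    rw [h] at this
    exact x.2 this
  · intro h
    apply Finset.Subset.antisymm
    · intro z hz
      obtain ⟨h1, h2⟩ := Finset.mem_inter.1 hz
      by_contra hzA
      exact Finset.disjoint_left.1 h ((mem_oct_iff b ⟨z, hzA⟩).1 h1) ((mem_oct_iff c ⟨z, hzA⟩).1 h2)
    · exact Finset.subset_inter (A2_subset_oct b) (A2_subset_oct c)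

theorem relC_pt {a : ℕ} (h1 : a ≠ 0) (h2 : a ≤ 24) (b : ℕ) :
    relC a b = (Nat.blt 24 b && Nat.testBit b (a - 1)) := by
  unfold relC; rw [if_neg h1, if_pos h2]

theorem relC_blk {a : ℕ} (h : 24 < a) (b : ℕ) :
    relC a b = (Nat.blt 24 b && Nat.beq (Nat.land a b) 8388609) := by
  unfold relC; rw [if_neg (by omega), if_neg (by omega)]

theorem relC_small {a b : ℕ} (h1 : a ≠ 0) (hb : b ≤ 24) : relC a b = false := by
  have h : Nat.blt 24 b = false := by
    rw [← Bool.not_eq_true, blt_iff]; omega
  by_cases h2 : a ≤ 24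
  · rw [relC_pt h1 h2, h, Bool.false_and]
  · rw [relC_blk (by omega), h, Bool.false_and]

theorem rel_iff (v w : V0) : pointBlockRel (WS A2) v w ↔ relC (code v) (code w) = true := by
  rcases v with _ | x | b <;> rcases w with _ | y | c
  · simp [pointBlockRel, relC, code]
  · have := idx_lt y.1
    simp only [pointBlockRel, relC, code, if_true, true_iff, Bool.and_eq_true, Nat.ble_eq]
    omega
  · have := enc_oct_gt c
    simp only [pointBlockRel, relC, code, if_true, false_iff, Bool.and_eq_true, Nat.ble_eq]
    omega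
  · show False ↔ relC (idx x.1 + 1) 0 = true
    rw [relC_small (by omega) (by omega)]; simp
  · have := idx_lt y.1
    show False ↔ relC (idx x.1 + 1) (idx y.1 + 1) = true
    rw [relC_small (by omega) (by omega)]; simp
  · have := idx_lt x.1
    show x ∈ c.1 ↔ relC (idx x.1 + 1) (enc (oct c)) = true
    rw [relC_pt (by omega) (by omega), Bool.and_eq_true, blt_iff, Nat.add_sub_cancel, testBit_enc,
      decide_eq_true_eq, mem_oct_iff]
    exact ⟨fun h => ⟨enc_oct_gt c, h⟩, fun h => h.2⟩
  · have := enc_oct_gt b
    show False ↔ relC (enc (oct b)) 0 = true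
    rw [relC_small (by omega) (by omega)]; simp
  · have := enc_oct_gt b
    have := idx_lt y.1
    show False ↔ relC (enc (oct b)) (idx y.1 + 1) = true
    rw [relC_small (by omega) (by omega)]; simp
  · show Disjoint b.1 c.1 ↔ relC (enc (oct b)) (enc (oct c)) = true
    rw [relC_blk (enc_oct_gt b), Bool.and_eq_true, blt_iff, beq_iff', ← oct_inter,
      ← enc_injective.eq_iff, enc_inter, enc_A2]
    exact ⟨fun h => ⟨enc_oct_gt c, h⟩, fun h => h.2⟩

theorem adjC_irrefl : ∀ a ∈ VL, adjC a a = false := by decide +kernel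

theorem adj_iff (v w : V0) : (pointBlockGraph (WS A2)).Adj v w ↔ adjC (code v) (code w) = true := by
  rw [pointBlockGraph, SimpleGraph.fromRel_adj, rel_iff, rel_iff, adjC, Bool.or_eq_true]
  constructor
  · exact fun h => h.2
  · intro h
    refine ⟨?_, h⟩
    rintro rfl
    have h1 := adjC_irrefl _ (code_mem v)
    rw [adjC, Bool.or_eq_false_iff] at h1
    rcases h with h | h <;> rw [h1.1] at h <;> exact absurd h (by decide)


/-- the coded involution -/
def tmap (c : ℕ) : ℕ := ((VL.zip TL).lookup c).getD 0

theorem tmap_chk : ∀ a ∈ VL, tmap a ∈ VL ∧ tmap (tmap a) = a := by decide +kernel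

theorem tmap_adj : VL.all (fun a => VL.all (fun b => adjC (tmap a) (tmap b) == adjC a b)) = true := by
  decide +kernel

open Classical in
noncomputable def dcd (c : ℕ) : V0 := if h : ∃ v, code v = c then h.choose else none

theorem code_dcd {c : ℕ} (hc : c ∈ VL) : code (dcd c) = c := by
  unfold dcd
  rw [dif_pos (exists_code hc)]
  exact (exists_code hc).choose_spec

noncomputable def sigF (v : V0) : V0 := dcd (tmap (code v))

theorem code_sigF (v : V0) : code (sigF v) = tmap (code v) :=
  code_dcd (tmap_chk _ (code_mem v)).1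

theorem sigF_invol : Function.Involutive sigF := by
  intro v
  apply code_injective
  rw [code_sigF, code_sigF, (tmap_chk _ (code_mem v)).2]

noncomputable def sig : pointBlockGraph (WS A2) ≃g pointBlockGraph (WS A2) where
  toEquiv := sigF_invol.toPerm
  map_rel_iff' := by
    intro v w
    show (pointBlockGraph (WS A2)).Adj (sigF v) (sigF w) ↔ (pointBlockGraph (WS A2)).Adj v w
    rw [adj_iff, adj_iff, code_sigF, code_sigF]
    have h := List.all_eq_true.1 (List.all_eq_true.1 tmap_adj _ (code_mem v)) _ (code_mem w)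
    rw [beq_iff_eq] at h
    rw [h]

theorem code_sig (v : V0) : code (sig v) = tmap (code v) := code_sigF v

theorem sig_none : ∃ a : P0, sig none = some (Sum.inl a) := by
  have h : code (sig none) = 17 := by rw [code_sig]; decide +kernel
  rcases hs : sig none with _ | x | b
  · rw [hs] at h; exact absurd h (by simp [code])
  · exact ⟨x, rfl⟩
  · rw [hs] at h
    have := enc_oct_gt b
    simp only [code] at h
    omega

theorem sig_pt : ∃ (a : P0) (b : ↥(WS A2)), sig (some (Sum.inl a)) = some (Sum.inr b) := by
  refine ⟨⟨pt 1, by decide +kernel⟩, ?_⟩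
  have h : code (sig (some (Sum.inl ⟨pt 1, by decide +kernel⟩))) = 12656663 := by
    rw [code_sig]
    show tmap (idx (pt 1) + 1) = 12656663
    rw [idx_pt (by norm_num)]
    decide +kernel
  rcases hs : sig (some (Sum.inl ⟨pt 1, by decide +kernel⟩)) with _ | x | b
  · rw [hs] at h; exact absurd h (by simp [code])
  · rw [hs] at h
    have := idx_lt x.1
    simp only [code] at h
    omega
  · exact ⟨b, rfl⟩

theorem sign_of_invol {X : Type*} [Fintype X] [DecidableEq X] (σ : Equiv.Perm X) (h2 : σ ^ 2 = 1)
    (k : ℕ) (hk : σ.support.card = 2 * k) : Equiv.Perm.sign σ = (-1) ^ k := by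
  have h1 : ∀ n ∈ σ.cycleType, n = 2 := by
    intro n hn
    have h3 := Equiv.Perm.two_le_of_mem_cycleType hn
    have h4 := (Equiv.Perm.dvd_of_mem_cycleType hn).trans (orderOf_dvd_of_pow_eq_one h2)
    have h5 := Nat.le_of_dvd (by norm_num) h4
    omega
  have h3 := Multiset.eq_replicate_card.2 h1
  have h4 := Equiv.Perm.sum_cycleType σ
  rw [h3, Multiset.sum_replicate, hk, smul_eq_mul, mul_comm] at h4
  have h5 : Multiset.card σ.cycleType = k := by omega
  rw [Equiv.Perm.sign_of_cycleType, h3, h5, Multiset.sum_replicate, Multiset.card_replicate,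
    smul_eq_mul, pow_add, pow_mul]
  norm_num

theorem VL_nodup : VL.Nodup := by decide +kernel

theorem moved_length : (VL.filter (fun c => !(Nat.beq (tmap c) c))).length = 94 := by decide +kernel

theorem sign_sig [Fintype V0] [DecidableEq V0] : Equiv.Perm.sign sig.toEquiv = -1 := by
  have h2 : (sig.toEquiv : Equiv.Perm V0) ^ 2 = 1 := by
    apply Equiv.ext
    intro v
    rw [pow_two]
    exact sigF_invol v
  have hs : (Equiv.Perm.support (sig.toEquiv : Equiv.Perm V0)).card = 2 * 47 := by
    rw [← Finset.card_image_of_injective _ code_injective]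
    have : (Equiv.Perm.support (sig.toEquiv : Equiv.Perm V0)).image code =
        (VL.filter (fun c => !(Nat.beq (tmap c) c))).toFinset := by
      ext c
      simp only [Finset.mem_image, Equiv.Perm.mem_support, List.mem_toFinset, List.mem_filter,
        Bool.not_eq_true', ← Bool.not_eq_true, beq_iff']
      constructor
      · rintro ⟨v, hv, rfl⟩
        refine ⟨code_mem v, fun h => hv ?_⟩
        apply code_injective
        rw [← h]
        exact code_sig v
      · rintro ⟨hc, h⟩
        obtain ⟨v, rfl⟩ := exists_code hc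
        refine ⟨v, fun hv => h ?_, rfl⟩
        rw [← code_sig v]
        exact congrArg code hv
    rw [this, List.toFinset_card_of_nodup (VL_nodup.filter _), moved_length]
  rw [sign_of_invol _ h2 47 hs]
  decide

end Cfsg.Agent.Lib.Helper10HSModel
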