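import Cfsg.Agent.Lib.Helper10HSGraph
import Cfsg.Agent.Lib.Helper10HSModel
import Cfsg.Agent.Lib.Helper10Simple
import Cfsg.Agent.S0414

/-!
# The automorphism group of the 100-vertex graph of an S(3,6,22) (helper10)
-/

set_option autoImplicit false
set_option linter.unusedSectionVars false

namespace Cfsg.Agent.Lib.Helper10HSGroup

open Cfsg Finset Equiv MulAction Cfsg.Agent.Lib.Helper10HSGraph
open scoped Pointwise

variable {α : Type*} [Fintype α] [DecidableEq α] {B : Set (Finset α)}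

theorem exists_sigma (hα : Fintype.card α = 22) (hB : IsSteinerSystem 3 6 B) :
    ∃ σ : AutG B, (∃ a, σ none = some (Sum.inl a)) ∧
      (∃ a b, σ (some (Sum.inl a)) = some (Sum.inr b)) ∧
      ∀ [Fintype (Option (α ⊕ ↥B))] [DecidableEq (Option (α ⊕ ↥B))], Perm.sign σ.toEquiv = -1 := by
  classical
  obtain ⟨e, he⟩ := Cfsg.Agent.Lib.Helper10Chain.U2 hα hB
  let ψ := isoOf e he
  refine ⟨(ψ.trans Helper10HSModel.sig).trans ψ.symm, ?_, ?_, ?_⟩
  · obtain ⟨a0, ha0⟩ := Helper10HSModel.sig_none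
    refine ⟨e.symm a0, ?_⟩
    show ψ.symm (Helper10HSModel.sig (ψ none)) = _
    rw [RelIso.symm_apply_eq, isoOf_none, ha0, isoOf_pt, Equiv.apply_symm_apply]
  · obtain ⟨a1, b1, h1⟩ := Helper10HSModel.sig_pt
    refine ⟨e.symm a1, (blkEquiv e he).symm b1, ?_⟩
    show ψ.symm (Helper10HSModel.sig (ψ (some (Sum.inl (e.symm a1))))) = _
    rw [RelIso.symm_apply_eq, isoOf_pt, Equiv.apply_symm_apply, h1, isoOf_blk,
      Equiv.apply_symm_apply]
  · intro i1 i2
    have : Fintype Helper10HSModel.V0 := Fintype.ofFinite _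
    have h : ((ψ.trans Helper10HSModel.sig).trans ψ.symm).toEquiv =
        ψ.symm.toEquiv.permCongr Helper10HSModel.sig.toEquiv := by
      apply Equiv.ext
      intro v
      rfl
    rw [h, Perm.sign_permCongr]
    exact Helper10HSModel.sign_sig

theorem exists_emb {s : Finset α} {k : ℕ} (h : k ≤ s.card) :
    ∃ x : Fin k ↪ α, ∀ i, x i ∈ s := by
  obtain ⟨t, hts, htc⟩ := Finset.exists_subset_card_eq h
  let e := (Finset.equivFinOfCardEq htc).symm
  exact ⟨⟨fun i => (e i).1, fun i j hij => e.injective (Subtype.ext hij)⟩, fun i => hts (e i).2⟩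

theorem image_mem {g : Perm α} (hg : g ∈ setSystemAut B) {l : Finset α} (hl : l ∈ B) :
    l.image g ∈ B := by
  have h : g • B = B := hg
  exact h.subset ⟨l, hl, rfl⟩

theorem blk_trans (hα : Fintype.card α = 22) (hB : IsSteinerSystem 3 6 B) {b c : Finset α}
    (hb : b ∈ B) (hc : c ∈ B) : ∃ π : setSystemAut B, b.image π.1 = c := by
  have h3 := (Cfsg.Agent.S0414.result hα hB).2.1
  obtain ⟨x, hx⟩ := exists_emb (s := b) (k := 3) (by rw [hB.1 b hb]; norm_num)
  obtain ⟨y, hy⟩ := exists_emb (s := c) (k := 3) (by rw [hB.1 c hc]; norm_num)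
  obtain ⟨π, hπ⟩ := h3.exists_smul_eq x y
  refine ⟨π, ?_⟩
  have hπ' : ∀ i, π.1 (x i) = y i := fun i => congrArg (fun z : Fin 3 ↪ α => z i) hπ
  obtain ⟨d, -, hd⟩ := hB.2 (Finset.univ.map y) (by rw [Finset.card_map]; rfl)
  rw [hd (b.image π.1) ⟨image_mem π.2 hb, ?_⟩, hd c ⟨hc, ?_⟩]
  · intro z hz
    obtain ⟨i, -, rfl⟩ := Finset.mem_map.1 hz
    exact hy i
  · intro z hz
    obtain ⟨i, -, rfl⟩ := Finset.mem_map.1 hz
    rw [← hπ']
    exact Finset.mem_image_of_mem _ (hx i)

theorem pt_trans (hα : Fintype.card α = 22) (hB : IsSteinerSystem 3 6 B) :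
    IsPretransitive (setSystemAut B) α := by
  have h3 := (Cfsg.Agent.S0414.result hα hB).2.1
  exact MulAction.is_one_pretransitive_iff.1 (MulAction.isMultiplyPretransitive_of_le
    (n := 3) (by norm_num) (by rw [Nat.card_eq_fintype_card, hα]; norm_num))

theorem E_blk' (π : setSystemAut B) (b c : ↥B) (h : b.1.image π.1 = c.1) :
    E B π (some (Sum.inr b)) = some (Sum.inr c) := by
  obtain ⟨d, h1, h2⟩ := E_blk π b
  rw [h1]
  congr 2
  exact Subtype.ext (h2.trans h)

theorem aut_trans (hα : Fintype.card α = 22) (hB : IsSteinerSystem 3 6 B) :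
    IsPretransitive (AutG B) (Option (α ⊕ ↥B)) := by
  obtain ⟨σ, ⟨a0, h0⟩, ⟨a1, b1, h1⟩, -⟩ := exists_sigma hα hB
  have hpt := pt_trans hα hB
  have hP : ∀ a, ∃ g : AutG B, g • (none : Option (α ⊕ ↥B)) = some (Sum.inl a) := by
    intro a
    obtain ⟨π, hπ⟩ := hpt.exists_smul_eq a0 a
    refine ⟨E B π * σ, ?_⟩
    show E B π (σ none) = _
    rw [h0, E_pt]
    exact congrArg (fun z => some (Sum.inl z)) hπ
  rw [MulAction.isPretransitive_iff_base (none : Option (α ⊕ ↥B))]
  intro v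
  rcases v with _ | a | b
  · exact ⟨1, rfl⟩
  · exact hP a
  · obtain ⟨g, hg⟩ := hP a1
    obtain ⟨π, hπ⟩ := blk_trans hα hB b1.2 b.2
    refine ⟨E B π * σ * g, ?_⟩
    show E B π (σ (g • none)) = _
    rw [hg, h1]
    exact E_blk' π b1 b hπ


theorem card_blocks (hα : Fintype.card α = 22) (hB : IsSteinerSystem 3 6 B) :
    Nat.card ↥B = 77 := by
  classical
  have h := Cfsg.Agent.Lib.Helper8Steiner.nb22_0 hα hB ∅ rfl
  unfold Cfsg.Agent.Lib.Helper8Steiner.nb at h
  rw [Nat.card_coe_set_eq, ← h, ← Set.ncard_coe_finset]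
  congr 1
  ext c
  simp

theorem card_V (hα : Fintype.card α = 22) (hB : IsSteinerSystem 3 6 B) :
    Nat.card (Option (α ⊕ ↥B)) = 100 := by
  rw [Finite.card_option, Nat.card_sum, card_blocks hα hB, Nat.card_eq_fintype_card, hα]

/-- the stabiliser of the extra vertex is the automorphism group of the design -/
noncomputable def stabEquiv : setSystemAut B ≃* stabilizer (AutG B) (none : Option (α ⊕ ↥B)) :=
  MulEquiv.ofBijective ((E B).codRestrict _ (fun π => E_none π)) ⟨by
    intro π π' h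
    exact E_injective (congrArg Subtype.val h), by
    rintro ⟨φ, hφ⟩
    obtain ⟨π, hπ⟩ := exists_of_fix φ hφ
    exact ⟨π, Subtype.ext hπ⟩⟩

theorem stabEquiv_coe (π : setSystemAut B) : (stabEquiv π : AutG B) = E B π := rfl

theorem card_aut (hα : Fintype.card α = 22) (hB : IsSteinerSystem 3 6 B) :
    Nat.card (AutG B) = 88704000 := by
  have := aut_trans hα hB
  have h := (stabilizer (AutG B) (none : Option (α ⊕ ↥B))).card_mul_index
  rw [index_stabilizer_of_transitive, card_V hα hB, ← Nat.card_congr stabEquiv.toEquiv,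
    (Cfsg.Agent.S0414.result hα hB).1] at h
  rw [← h]

end Cfsg.Agent.Lib.Helper10HSGroup
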