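import Cfsg.Agent.Lib.Helper9M24Trans

set_option autoImplicit false
open Cfsg
open scoped Pointwise

namespace Cfsg.Agent.Lib.Helper9Octad

open Cfsg.Agent.Lib.Helper9Golay Cfsg.Agent.Lib.Helper9Golay2 Cfsg.Agent.Lib.Helper9M24
open Cfsg.Agent.Lib.Helper9Chain Cfsg.Agent.Lib.Helper9M24Data Cfsg.Agent.Lib.Helper9M24Order
open Cfsg.Agent.Lib.Helper9M24Trans

/-- pointwise stabiliser of a finset in `M24` -/
abbrev PS (o : Finset GolayPt) : Subgroup (Equiv.Perm GolayPt) :=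
  M24 ⊓ fixingSubgroup (Equiv.Perm GolayPt) (o : Set GolayPt)

theorem mem_PS {o : Finset GolayPt} {g : Equiv.Perm GolayPt} :
    g ∈ PS o ↔ g ∈ M24 ∧ ∀ p ∈ o, g p = p := by
  rw [Subgroup.mem_inf, mem_fixingSubgroup_iff]
  rfl

theorem check6 : cert6.all (fun c =>
    (compose (T.getD c.2 idl) (T.getD c.2 idl) == idl) && ((T.getD c.2 idl).getD 14 99 == 14)
      && ((T.getD c.2 idl).getD 17 99 == 17)) = true := by decide +kernel

theorem level6' : ∀ x ∈ cert6.map Prod.fst, ∃ g ∈ K ⊓ Fx [5, 3, 2, 1, 0, 23],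
    g (pt x) = pt 4 ∧ g * g = 1 ∧ g (pt 14) = pt 14 ∧ g (pt 17) = pt 17 := by
  intro x hx
  obtain ⟨c, hcm, rfl⟩ := List.mem_map.1 hx
  have h1 := List.all_eq_true.1 Cfsg.Agent.Lib.Helper9M24Data.check6 c hcm
  have h2 := List.all_eq_true.1 check6 c hcm
  rw [Bool.and_eq_true, List.all_eq_true] at h1
  rw [Bool.and_eq_true, Bool.and_eq_true] at h2
  obtain ⟨g, hg, hgl⟩ := T_sound.getD c.2
  have hc : c.1 < 24 := (by decide : ∀ c ∈ cert6, c.1 < 24) c hcm
  refine ⟨g, ⟨hg, fun f hf => ?_⟩, ?_, ?_, ?_, ?_⟩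
  · exact apply_of_tbl hgl ((by decide : ∀ f ∈ [5, 3, 2, 1, 0, 23], f < 24) f hf)
      (by simpa using h1.1 f hf)
  · exact apply_of_tbl hgl hc (by simpa using h1.2)
  · apply tbl_injective
    rw [tbl_mul, hgl, tbl_one]
    simpa using h2.1.1
  · exact apply_of_tbl hgl (by norm_num) (by simpa using h2.1.2)
  · exact apply_of_tbl hgl (by norm_num) (by simpa using h2.2)

theorem fix6_props {g : Equiv.Perm GolayPt} (hg : g ∈ M24 ⊓ Fx [5, 3, 2, 1, 0, 23]) :
    g * g = 1 ∧ g (pt 14) = pt 14 ∧ g (pt 17) = pt 17 := by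
  obtain ⟨x, hx, hgx⟩ := upper6 g hg
  obtain ⟨k, hk, hkx, hkk, h14, h17⟩ := level6' x hx
  have h4 : k * g ∈ M24 ⊓ Fx [4, 5, 3, 2, 1, 0, 23] := by
    refine ⟨M24.mul_mem (K_le hk.1) hg.1, fun f hf => ?_⟩
    rcases List.mem_cons.1 hf with rfl | hf
    · rw [Equiv.Perm.mul_apply, hgx, hkx]
    · rw [Equiv.Perm.mul_apply, hg.2 f hf, hk.2 f hf]
  rw [trivial_stab, Subgroup.mem_bot] at h4
  have h5 : g = k := by
    have : k * (k * g) = k := by rw [h4, mul_one]
    rwa [← mul_assoc, hkk, one_mul] at this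
  subst h5
  exact ⟨hkk, h14, h17⟩

theorem PS_O0 : PS (fs O0) = M24 ⊓ Fx [5, 3, 2, 1, 0, 23] := by
  ext g
  rw [mem_PS]
  constructor
  · rintro ⟨hg, h⟩
    refine ⟨hg, fun f hf => h _ ?_⟩
    have : ∀ f ∈ [5, 3, 2, 1, 0, 23], f < 24 ∧ O0.testBit f = true := by decide +kernel
    rw [mem_fs, idx_pt (this f hf).1]
    exact (this f hf).2
  · intro hg
    refine ⟨hg.1, fun p hp => ?_⟩
    rw [mem_fs] at hp
    have key : ∀ i < 24, O0.testBit i = true → i ∈ [5, 3, 2, 1, 0, 23] ∨ i = 14 ∨ i = 17 := by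
      decide +kernel
    have h3 := fix6_props hg
    rcases key _ (idx_lt p) hp with h | h | h
    · have := hg.2 _ h
      rwa [pt_idx] at this
    · have := h3.2.1
      rwa [← h, pt_idx] at this
    · have := h3.2.2
      rwa [← h, pt_idx] at this

theorem PS_smul {g0 : Equiv.Perm GolayPt} (hg0 : g0 ∈ M24) (o : Finset GolayPt) :
    PS (g0 • o) = (PS o).map (MulAut.conj g0).toMonoidHom := by
  ext h
  rw [Subgroup.mem_map_equiv, MulAut.conj_symm_apply, mem_PS, mem_PS]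
  constructor
  · rintro ⟨hh, hfix⟩
    refine ⟨M24.mul_mem (M24.mul_mem (M24.inv_mem hg0) hh) hg0, fun p hp => ?_⟩
    have h1 : g0 p ∈ g0 • o := by rw [mem_smul_iff]; simpa using hp
    simp only [Equiv.Perm.mul_apply]
    rw [hfix _ h1]; simp
  · rintro ⟨hh, hfix⟩
    constructor
    · have := M24.mul_mem (M24.mul_mem hg0 hh) (M24.inv_mem hg0)
      simpa [mul_assoc] using this
    · intro p hp
      rw [mem_smul_iff] at hp
      have := hfix _ hp
      simp only [Equiv.Perm.mul_apply] at this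
      have h2 : g0 (g0⁻¹ (h (g0 (g0⁻¹ p)))) = g0 (g0⁻¹ p) := by rw [this]
      simpa using h2

theorem octad_PS {o : Finset GolayPt} (ho : o ∈ octads) :
    Nat.card ↥(PS o) = 16 ∧ ∀ g ∈ PS o, g * g = 1 := by
  obtain ⟨g0, hg0, rfl⟩ := octad_trans (fs_mem_octads (by decide +kernel : isOctad O0 = true)) ho
  rw [PS_smul hg0]
  constructor
  · rw [Subgroup.card_map_of_injective (MulEquiv.injective _), PS_O0, card_fix6]
  · intro g hg
    rw [Subgroup.mem_map_equiv, MulAut.conj_symm_apply, PS_O0] at hg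
    have h := (fix6_props hg).1
    have h2 : g0⁻¹ * (g * g) * g0 = 1 := by
      rw [← h]; group
    have h3 : g * g = g0 * (g0⁻¹ * (g * g) * g0) * g0⁻¹ := by group
    rw [h3, h2]; group

end Cfsg.Agent.Lib.Helper9Octad
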