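import Cfsg.Agent.Lib.Helper9Idx24
import Cfsg.Agent.Lib.Helper9Octad

set_option autoImplicit false
open Cfsg
open scoped Pointwise

namespace Cfsg.Agent.Lib.Helper9Out

open Cfsg.Agent.Lib.Helper9Golay Cfsg.Agent.Lib.Helper9Golay2 Cfsg.Agent.Lib.Helper9M24
open Cfsg.Agent.Lib.Helper9Chain Cfsg.Agent.Lib.Helper9M24Data
open Cfsg.Agent.Lib.Helper9M24Order Cfsg.Agent.Lib.Helper9M24Trans Cfsg.Agent.Lib.Helper9M12
open Cfsg.Agent.Lib.Helper9Octad

/-! ### fixed points -/

def fixF (g : Equiv.Perm GolayPt) : Finset GolayPt := Finset.univ.filter (fun p => g p = p)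

theorem mem_fixF {g : Equiv.Perm GolayPt} {p : GolayPt} : p ∈ fixF g ↔ g p = p := by
  simp [fixF]

theorem fixF_conj (k g : Equiv.Perm GolayPt) : fixF (k * g * k⁻¹) = k • fixF g := by
  ext p
  rw [mem_smul_iff, mem_fixF, mem_fixF]
  simp only [Equiv.Perm.mul_apply]
  constructor
  · intro h
    apply k.injective
    rw [h]; simp
  · intro h
    rw [h]; simp

theorem fixF_inv (g : Equiv.Perm GolayPt) : fixF g⁻¹ = fixF g := by
  ext p
  rw [mem_fixF, mem_fixF, Equiv.Perm.inv_eq_iff_eq, eq_comm]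

def fixMask (l : List ℕ) : ℕ := maskOf ((List.range 24).filter (fun i => l.getD i 99 == i))

theorem fixF_eq (g : Equiv.Perm GolayPt) : fixF g = fs (fixMask (tbl g)) := by
  ext p
  rw [mem_fixF, mem_fs, fixMask, testBit_maskOf, List.mem_filter, List.mem_range, tblF_getD]
  constructor
  · intro h
    exact ⟨idx_lt p, by rw [h]; simp⟩
  · rintro ⟨_, h⟩
    exact idx_injective (by simpa using h)

theorem check48b : cert5.all (fun c5 => cert6.all (fun c6 =>
    (compose (T.getD c6.2 idl) (T.getD c5.2 idl) == idl)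
      || (fixMask (compose (T.getD c6.2 idl) (T.getD c5.2 idl)) == O0)
      || decide (popc 24 (fixMask (compose (T.getD c6.2 idl) (T.getD c5.2 idl))) < 8))) = true := by
  decide +kernel

theorem O0_mem : fs O0 ∈ octads := fs_mem_octads (by decide +kernel)

/-- a non-identity element of `M24` with at least 8 fixed points fixes exactly an octad -/
theorem fix_octad {h : Equiv.Perm GolayPt} (hh : h ∈ M24) (h1 : h ≠ 1) (h8 : 8 ≤ (fixF h).card) :
    fixF h ∈ octads := by
  obtain ⟨x, hx⟩ := exists_emb5 (s := fixF h) (by omega)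
  obtain ⟨k, hk, mk⟩ := Cfsg.Agent.Lib.Helper9M24Trans.exists_maps5 x
  simp only [Maps, List.forall₂_cons, List.forall₂_nil_right_iff, and_true] at mk
  have aux : ∀ i, (k * h * k⁻¹) (k (x i)) = k (x i) := by
    intro i
    have h0 : k⁻¹ (k (x i)) = x i := by simp
    simp only [Equiv.Perm.mul_apply]
    rw [h0, mem_fixF.1 (hx i)]
  have hmem : k * h * k⁻¹ ∈ M24 ⊓ Fx [3, 2, 1, 0, 23] := by
    refine ⟨M24.mul_mem (M24.mul_mem hk hh) (M24.inv_mem hk), ?_⟩
    intro f hf
    simp only [List.mem_cons, List.not_mem_nil, or_false] at hf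
    rcases hf with rfl | rfl | rfl | rfl | rfl
    · rw [← mk.1]; exact aux 4
    · rw [← mk.2.1]; exact aux 3
    · rw [← mk.2.2.1]; exact aux 2
    · rw [← mk.2.2.2.1]; exact aux 1
    · rw [← mk.2.2.2.2]; exact aux 0
  obtain ⟨c5, hc5, c6, hc6, ht⟩ := fix5_enum hmem
  have hc := List.all_eq_true.1 (List.all_eq_true.1 check48b c5 hc5) c6 hc6
  rw [← ht, Bool.or_eq_true, Bool.or_eq_true] at hc
  have hfix : fixF (k * h * k⁻¹) = fs (fixMask (tbl (k * h * k⁻¹)⁻¹)) := by
    rw [← fixF_eq, fixF_inv]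
  rcases hc with (hc | hc) | hc
  · exfalso
    have h2 : tbl (k * h * k⁻¹)⁻¹ = tbl 1 := by rw [tbl_one]; simpa using hc
    have h3 := tbl_injective h2
    apply h1
    have h4 : k * h * k⁻¹ = 1 := inv_eq_one.1 h3
    have h5 : h = k⁻¹ * (k * h * k⁻¹) * k := by group
    rw [h5, h4]; group
  · have h2 : fixMask (tbl (k * h * k⁻¹)⁻¹) = O0 := by simpa using hc
    rw [h2, fixF_conj] at hfix
    have h3 : fixF h = k⁻¹ • fs O0 := by rw [← hfix, inv_smul_smul]
    rw [h3]
    exact smul_mem_octads (M24.inv_mem hk) O0_mem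
  · exfalso
    have h2 : popc 24 (fixMask (tbl (k * h * k⁻¹)⁻¹)) < 8 := by simpa using hc
    rw [← card_fs, ← hfix, fixF_conj, Finset.card_smul_finset] at h2
    omega

/-- a non-identity element of `M24` fixes at most 8 points -/
theorem card_fixF_le {h : Equiv.Perm GolayPt} (hh : h ∈ M24) (h1 : h ≠ 1) : (fixF h).card ≤ 8 := by
  by_contra hcon
  have := (fix_octad hh h1 (by omega)).2
  omega

theorem exists_PS_ne_one {o : Finset GolayPt} (ho : o ∈ octads) : ∃ g ∈ PS o, g ≠ 1 ∧ fixF g = o := by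
  have h16 := (octad_PS ho).1
  have hnt : Nontrivial ↥(PS o) := by
    have : Finite ↥(PS o) := Nat.finite_of_card_ne_zero (by omega)
    rw [← Finite.one_lt_card_iff_nontrivial]; omega
  obtain ⟨⟨g, hg⟩, hne⟩ := exists_ne (1 : ↥(PS o))
  have hg1 : g ≠ 1 := fun h => hne (Subtype.ext h)
  refine ⟨g, hg, hg1, ?_⟩
  have hsub : o ⊆ fixF g := fun p hp => mem_fixF.2 ((mem_PS.1 hg).2 p hp)
  have h8 : 8 ≤ (fixF g).card := by rw [← ho.2]; exact Finset.card_le_card hsub
  have hoct := fix_octad (mem_PS.1 hg).1 hg1 h8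
  exact (Finset.eq_of_subset_of_card_le hsub (by rw [hoct.2, ho.2])).symm

/-- if conjugation by `σ` maps the pointwise stabiliser of the octad `o` into `M24` then `σ • o` is an octad -/
theorem smul_octad_of_conj {σ : Equiv.Perm GolayPt} {o : Finset GolayPt} (ho : o ∈ octads)
    (h : ∀ g ∈ PS o, σ * g * σ⁻¹ ∈ M24) : σ • o ∈ octads := by
  obtain ⟨g, hg, hg1, hfix⟩ := exists_PS_ne_one ho
  have h2 : σ * g * σ⁻¹ ≠ 1 := by
    intro h3
    apply hg1
    have h5 : g = σ⁻¹ * (σ * g * σ⁻¹) * σ := by group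
    rw [h5, h3]; group
  have h3 := fix_octad (h g hg) h2 (by rw [fixF_conj, Finset.card_smul_finset, hfix, ho.2])
  rwa [fixF_conj, hfix] at h3

theorem mem_M24_of_normalizes {σ : Equiv.Perm GolayPt} (h : ∀ g ∈ M24, σ * g * σ⁻¹ ∈ M24) :
    σ ∈ M24 := by
  rw [M24_eq_aut, MulAction.mem_stabilizer_set' (Set.toFinite octads)]
  intro o ho
  exact smul_octad_of_conj ho (fun g hg => h g (mem_PS.1 hg).1)

/-! ### automorphisms induced by permutations -/

theorem exists_perm_of_aut {G Ω : Type*} [Group G] [MulAction G Ω] [Finite Ω] (X : Set Ω) (c : ℕ)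
    (h1 : ∀ p ∈ X, Nat.card (MulAction.stabilizer G p) = c)
    (h2 : ∀ H : Subgroup G, Nat.card H = c → ∃ p ∈ X, H = MulAction.stabilizer G p)
    (h3 : ∀ p ∈ X, ∀ q ∈ X, MulAction.stabilizer G p = MulAction.stabilizer G q → p = q)
    (h4 : ∀ g : G, ∀ p ∈ X, g • p ∈ X)
    (h5 : ∀ g : G, ∀ p ∉ X, g • p = p)
    (φ : MulAut G) :
    ∃ σ : Equiv.Perm Ω, (∀ p ∉ X, σ p = p) ∧ ∀ (g : G) (p : Ω), σ (g • p) = φ g • σ p := by
  classical
  have key : ∀ p ∈ X, ∃ p' ∈ X,
      (MulAction.stabilizer G p).map φ.toMonoidHom = MulAction.stabilizer G p' := by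
    intro p hp
    apply h2
    rw [Subgroup.card_map_of_injective φ.injective, h1 p hp]
  choose! f hfX hf using key
  let F : Ω → Ω := fun p => if p ∈ X then f p else p
  have hFX : ∀ p ∈ X, F p = f p := fun p hp => if_pos hp
  have hFn : ∀ p ∉ X, F p = p := fun p hp => if_neg hp
  have hinj : Function.Injective F := by
    intro p q hpq
    by_cases hp : p ∈ X <;> by_cases hq : q ∈ X
    · rw [hFX p hp, hFX q hq] at hpq
      apply h3 p hp q hq
      have : (MulAction.stabilizer G p).map φ.toMonoidHom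
          = (MulAction.stabilizer G q).map φ.toMonoidHom := by rw [hf p hp, hf q hq, hpq]
      exact Subgroup.map_injective φ.injective this
    · rw [hFX p hp, hFn q hq] at hpq
      exact absurd (hpq ▸ hfX p hp) hq
    · rw [hFn p hp, hFX q hq] at hpq
      exact absurd (hpq ▸ hfX q hq) hp
    · rwa [hFn p hp, hFn q hq] at hpq
  refine ⟨Equiv.ofBijective F (Finite.injective_iff_bijective.mp hinj), fun p hp => hFn p hp, ?_⟩
  intro g p
  change F (g • p) = φ g • F p
  by_cases hp : p ∈ X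
  · rw [hFX p hp, hFX _ (h4 g p hp)]
    apply h3 _ (hfX _ (h4 g p hp)) _ (h4 _ _ (hfX p hp))
    rw [← hf _ (h4 g p hp), MulAction.stabilizer_smul_eq_stabilizer_map_conj,
      MulAction.stabilizer_smul_eq_stabilizer_map_conj, ← hf p hp, Subgroup.map_map, Subgroup.map_map]
    congr 1
    ext x
    simp [MulAut.conj_apply]
  · rw [hFn p hp, h5 g p hp, hFn p hp, h5 _ p hp]

end Cfsg.Agent.Lib.Helper9Out
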