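import Cfsg.Agent.Lib.Helper10HSFix
import Cfsg.Agent.Lib.Helper9Out
import Cfsg.Prelude.Def_KGroupFacts

/-!
# The outer automorphism group of the simple group of the 100-vertex graph (helper10)
-/

set_option autoImplicit false
set_option linter.unusedSectionVars false

namespace Cfsg.Agent.Lib.Helper10HSOut

open Cfsg Finset Equiv MulAction Subgroup Cfsg.Agent.Lib.Helper10HSGraph
  Cfsg.Agent.Lib.Helper10HSGroup Cfsg.Agent.Lib.Helper10HSSimple Cfsg.Agent.Lib.Helper10HSOrb
  Cfsg.Agent.Lib.Helper10SRG Cfsg.Agent.Lib.Helper10HSFix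

variable {α : Type*} [Fintype α] [DecidableEq α] {B : Set (Finset α)}

theorem adj_smul (k : AutG B) (v w : Option (α ⊕ ↥B)) :
    (pointBlockGraph B).Adj (k • v) (k • w) ↔ (pointBlockGraph B).Adj v w := k.map_rel_iff

theorem index100 (hα : Fintype.card α = 22) (hB : IsSteinerSystem 3 6 B) (K : Subgroup (HS B))
    (hK : Nat.card K = 443520) : ∃ x : Option (α ⊕ ↥B), K = stabilizer (HS B) x := by
  classical
  have : Fintype (Option (α ⊕ ↥B)) := Fintype.ofFinite _
  have := finite_aut hα hB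
  have := HS_trans hα hB
  exact stab_of_card (Γ := pointBlockGraph B) (srg100 hα hB) (fun k v w => adj_smul k.1 v w)
    (card_HS hα hB)
    (fun g hg => fix11 hα hB g.1 (by rw [Subgroup.orderOf_coe]; exact hg))
    (fun g hg => fix7 hα hB g.1 (by rw [Subgroup.orderOf_coe]; exact hg)) K hK

theorem card_stab (hα : Fintype.card α = 22) (hB : IsSteinerSystem 3 6 B) (p : Option (α ⊕ ↥B)) :
    Nat.card (stabilizer (HS B) p) = 443520 := by
  have := HS_trans hα hB
  have h := (stabilizer (HS B) p).card_mul_index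
  rw [index_stabilizer_of_transitive, card_V hα hB, card_HS hα hB] at h
  omega

/-- an element of the simple group with a prescribed unique fixed vertex -/
theorem exists_unique_fix (hα : Fintype.card α = 22) (hB : IsSteinerSystem 3 6 B)
    (p : Option (α ⊕ ↥B)) : ∃ g : HS B, ∀ v : Option (α ⊕ ↥B), g • v = v ↔ v = p := by
  have hp11 : Fact (Nat.Prime 11) := ⟨by norm_num⟩
  have := finite_aut hα hB
  obtain ⟨g, hg⟩ := exists_prime_orderOf_dvd_card' (G := stabilizer (HS B) p) 11
    (by rw [card_stab hα hB]; norm_num)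
  obtain ⟨x, hx⟩ := fix11 hα hB g.1.1 (by rw [Subgroup.orderOf_coe, Subgroup.orderOf_coe, hg])
  have hgp : g.1.1 • p = p := g.2
  have hxp : p = x := (hx p).1 hgp
  refine ⟨g.1, fun v => ?_⟩
  have := hx v
  rw [← hxp] at this
  exact this

theorem stab_inj (hα : Fintype.card α = 22) (hB : IsSteinerSystem 3 6 B) (p q : Option (α ⊕ ↥B))
    (h : stabilizer (HS B) p = stabilizer (HS B) q) : p = q := by
  obtain ⟨g, hg⟩ := exists_unique_fix hα hB p
  have h1 : g ∈ stabilizer (HS B) p := (hg p).2 rfl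
  rw [h] at h1
  exact ((hg q).1 h1).symm

theorem exists_perm (hα : Fintype.card α = 22) (hB : IsSteinerSystem 3 6 B) (φ : MulAut (HS B)) :
    ∃ σ : Equiv.Perm (Option (α ⊕ ↥B)), ∀ (g : HS B) (p : Option (α ⊕ ↥B)),
      σ (g • p) = φ g • σ p := by
  obtain ⟨σ, -, hσ⟩ := Cfsg.Agent.Lib.Helper9Out.exists_perm_of_aut (G := HS B)
    (Ω := Option (α ⊕ ↥B)) Set.univ 443520 (fun p _ => card_stab hα hB p)
    (fun H hH => by
      obtain ⟨x, hx⟩ := index100 hα hB H hH
      exact ⟨x, Set.mem_univ _, hx⟩)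
    (fun p _ q _ h => stab_inj hα hB p q h) (fun _ _ _ => Set.mem_univ _)
    (fun _ p hp => absurd (Set.mem_univ p) hp) φ
  exact ⟨σ, hσ⟩

/-- a set of 22 vertices invariant under the stabiliser of the extra vertex -/
theorem inv_set (hα : Fintype.card α = 22) (hB : IsSteinerSystem 3 6 B)
    [Fintype (Option (α ⊕ ↥B))] [DecidableEq (Option (α ⊕ ↥B))] (T : Finset (Option (α ⊕ ↥B)))
    (hT : ∀ g : HS B, g • (none : Option (α ⊕ ↥B)) = none → ∀ v ∈ T, g • v ∈ T)
    (hc : T.card = 22) (v : Option (α ⊕ ↥B)) (hv : v ∈ T) : (pointBlockGraph B).Adj none v := by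
  have : Fintype ↥B := Fintype.ofFinite _
  by_cases hq : ∃ b : ↥B, (some (Sum.inr b) : Option (α ⊕ ↥B)) ∈ T
  · exfalso
    obtain ⟨b, hb⟩ := hq
    have hsub : (univ : Finset ↥B).image (fun b => (some (Sum.inr b) : Option (α ⊕ ↥B))) ⊆ T := by
      intro w hw
      obtain ⟨b', -, rfl⟩ := Finset.mem_image.1 hw
      obtain ⟨π, hπ⟩ := S1_blk_trans hα hB b.2 b'.2
      have := hT ⟨E B π.1, π.2⟩ rfl _ hb
      have e : (⟨E B π.1, π.2⟩ : HS B) • (some (Sum.inr b) : Option (α ⊕ ↥B)) =
        some (Sum.inr b') := E_blk' π.1 b b' hπ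
      rwa [e] at this
    have h1 := Finset.card_le_card hsub
    rw [Finset.card_image_of_injective _ (fun a b h =>
      Sum.inr_injective (Option.some_injective _ h)), Finset.card_univ, ← Nat.card_eq_fintype_card,
      card_blocks hα hB, hc] at h1
    omega
  · by_cases hn : (none : Option (α ⊕ ↥B)) ∈ T
    · exfalso
      have h2 : ∃ a : α, (some (Sum.inl a) : Option (α ⊕ ↥B)) ∈ T := by
        by_contra hcon
        have hsub : T ⊆ {none} := by
          intro w hw
          rcases w with _ | a | b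
          · simp
          · exact absurd ⟨a, hw⟩ hcon
          · exact absurd ⟨b, hw⟩ hq
        have := Finset.card_le_card hsub
        rw [hc] at this
        simp at this
      obtain ⟨a, ha⟩ := h2
      have hsub : insert none ((univ : Finset α).image
          (fun a => (some (Sum.inl a) : Option (α ⊕ ↥B)))) ⊆ T := by
        intro w hw
        rcases Finset.mem_insert.1 hw with rfl | hw
        · exact hn
        · obtain ⟨a', -, rfl⟩ := Finset.mem_image.1 hw
          obtain ⟨π, hπ⟩ := (S1_pt_trans hα hB).exists_smul_eq a a'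
          have := hT ⟨E B π.1, π.2⟩ rfl _ ha
          have e : (⟨E B π.1, π.2⟩ : HS B) • (some (Sum.inl a) : Option (α ⊕ ↥B)) =
            some (Sum.inl a') := congrArg (fun z => some (Sum.inl z)) hπ
          rwa [e] at this
      have h1 := Finset.card_le_card hsub
      rw [Finset.card_insert_of_notMem (by simp), Finset.card_image_of_injective _ (fun a b h =>
        Sum.inl_injective (Option.some_injective _ h)), Finset.card_univ, hα, hc] at h1
      omega
    · rw [adj_none_iff]
      rcases v with _ | a | b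
      · exact absurd hv hn
      · exact ⟨a, rfl⟩
      · exact absurd ⟨b, hv⟩ hq

theorem adj_of_perm0 (hα : Fintype.card α = 22) (hB : IsSteinerSystem 3 6 B) (φ : MulAut (HS B))
    (σ : Equiv.Perm (Option (α ⊕ ↥B)))
    (hσ : ∀ (g : HS B) (p : Option (α ⊕ ↥B)), σ (g • p) = φ g • σ p) (w : Option (α ⊕ ↥B))
    (h : (pointBlockGraph B).Adj none w) : (pointBlockGraph B).Adj (σ none) (σ w) := by
  classical
  have : Fintype (Option (α ⊕ ↥B)) := Fintype.ofFinite _
  obtain ⟨k, hk⟩ := (HS_trans hα hB).exists_smul_eq (none : Option (α ⊕ ↥B)) (σ none)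
  let P : Finset (Option (α ⊕ ↥B)) := (univ : Finset α).image (fun a => some (Sum.inl a))
  have hP : ∀ v, v ∈ P ↔ (pointBlockGraph B).Adj none v := by
    intro v
    rw [adj_none_iff]
    constructor
    · intro hv
      obtain ⟨a, -, rfl⟩ := Finset.mem_image.1 hv
      exact ⟨a, rfl⟩
    · rintro ⟨a, rfl⟩
      exact Finset.mem_image_of_mem _ (Finset.mem_univ a)
  let T : Finset (Option (α ⊕ ↥B)) := P.image (fun w => k⁻¹ • σ w)
  have hTc : T.card = 22 := by
    rw [Finset.card_image_of_injective _ (fun a b h => σ.injective (MulAction.injective k⁻¹ h)),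
      Finset.card_image_of_injective _ (fun a b h =>
        Sum.inl_injective (Option.some_injective _ h)), Finset.card_univ, hα]
  have hT : ∀ g : HS B, g • (none : Option (α ⊕ ↥B)) = none → ∀ v ∈ T, g • v ∈ T := by
    intro g hg v hv
    obtain ⟨u, hu, rfl⟩ := Finset.mem_image.1 hv
    have e1 : ∀ z, σ (φ.symm (k * g * k⁻¹) • z) = (k * g * k⁻¹) • σ z := by
      intro z
      rw [hσ, MulEquiv.apply_symm_apply]
    have e2 : φ.symm (k * g * k⁻¹) • (none : Option (α ⊕ ↥B)) = none := by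
      apply σ.injective
      rw [e1, ← hk, mul_smul, inv_smul_smul, mul_smul, hg]
    refine Finset.mem_image.2 ⟨φ.symm (k * g * k⁻¹) • u, ?_, ?_⟩
    · rw [hP] at hu ⊢
      have := (adj_smul (φ.symm (k * g * k⁻¹)).1 none u).2 hu
      have e3 : (φ.symm (k * g * k⁻¹)).1 • (none : Option (α ⊕ ↥B)) = none := e2
      rwa [e3] at this
    · show k⁻¹ • σ (φ.symm (k * g * k⁻¹) • u) = g • k⁻¹ • σ u
      rw [e1, mul_smul, mul_smul, inv_smul_smul]
  have h1 := inv_set hα hB T hT hTc (k⁻¹ • σ w) (Finset.mem_image_of_mem _ ((hP w).2 h))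
  have h2 := (adj_smul k.1 none (k⁻¹ • σ w)).2 h1
  have e4 : k.1 • (none : Option (α ⊕ ↥B)) = σ none := hk
  have e5 : k.1 • (k⁻¹ • σ w) = σ w := smul_inv_smul k (σ w)
  rwa [e4, e5] at h2

theorem adj_of_perm (hα : Fintype.card α = 22) (hB : IsSteinerSystem 3 6 B) (φ : MulAut (HS B))
    (σ : Equiv.Perm (Option (α ⊕ ↥B)))
    (hσ : ∀ (g : HS B) (p : Option (α ⊕ ↥B)), σ (g • p) = φ g • σ p) (v w : Option (α ⊕ ↥B))
    (h : (pointBlockGraph B).Adj v w) : (pointBlockGraph B).Adj (σ v) (σ w) := by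
  obtain ⟨m, rfl⟩ := (HS_trans hα hB).exists_smul_eq (none : Option (α ⊕ ↥B)) v
  have h1 : (pointBlockGraph B).Adj none (m⁻¹ • w) := by
    have := (adj_smul m.1 none (m⁻¹ • w))
    have e5 : m.1 • (m⁻¹ • w) = w := smul_inv_smul m w
    rw [e5] at this
    exact this.1 h
  have h2 := adj_of_perm0 hα hB φ σ hσ _ h1
  have h3 := (adj_smul (φ m).1 (σ none) (σ (m⁻¹ • w))).2 h2
  have e6 : (φ m).1 • σ none = σ (m • none) := (hσ m none).symm
  have e7 : (φ m).1 • σ (m⁻¹ • w) = σ w := by
    have := (hσ m (m⁻¹ • w)).symm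
    rwa [smul_inv_smul] at this
  rwa [e6, e7] at h3

/-- every automorphism is induced by an automorphism of the graph -/
theorem exists_graph_aut (hα : Fintype.card α = 22) (hB : IsSteinerSystem 3 6 B)
    (φ : MulAut (HS B)) : ∃ ψ : AutG B, ∀ g : HS B, ψ * g.1 * ψ⁻¹ = (φ g).1 := by
  obtain ⟨σ, hσ⟩ := exists_perm hα hB φ
  have hσ' : ∀ (g : HS B) (p : Option (α ⊕ ↥B)), σ.symm (g • p) = φ.symm g • σ.symm p := by
    intro g p
    rw [Equiv.symm_apply_eq, hσ, MulEquiv.apply_symm_apply, Equiv.apply_symm_apply]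
  let ψ : AutG B := ⟨σ, by
    intro v w
    constructor
    · intro h
      have := adj_of_perm hα hB φ.symm σ.symm hσ' _ _ h
      rwa [Equiv.symm_apply_apply, Equiv.symm_apply_apply] at this
    · exact adj_of_perm hα hB φ σ hσ v w⟩
  refine ⟨ψ, fun g => ?_⟩
  rw [mul_inv_eq_iff_eq_mul]
  apply RelIso.ext
  intro v
  exact hσ g v

instance HS_normal : (HS B).Normal := by unfold HS; infer_instance

theorem card_out (hα : Fintype.card α = 22) (hB : IsSteinerSystem 3 6 B) :
    Nat.card (Cfsg.Out (HS B)) = 2 := by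
  change (Cfsg.Inn (HS B)).index = 2
  let Φ : AutG B →* MulAut (HS B) := MulAut.conjNormal
  have hsurj : Function.Surjective Φ := by
    intro φ
    obtain ⟨ψ, hψ⟩ := exists_graph_aut hα hB φ
    refine ⟨ψ, ?_⟩
    ext1 g
    apply Subtype.ext
    rw [← hψ]
    exact MulAut.conjNormal_apply ψ g
  have hker : Φ.ker = ⊥ := by
    rw [eq_bot_iff]
    intro ψ hψ
    rw [Subgroup.mem_bot]
    apply faith
    intro v
    obtain ⟨g, hg⟩ := exists_unique_fix hα hB v
    have h1 : ψ * g.1 * ψ⁻¹ = g.1 := by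
      have := congrArg (fun f : MulAut (HS B) => (f g).1) (MonoidHom.mem_ker.1 hψ)
      rw [← MulAut.conjNormal_apply ψ g]
      exact this
    rw [mul_inv_eq_iff_eq_mul] at h1
    apply (hg (ψ • v)).1
    show g.1 • ψ • v = ψ • v
    rw [← mul_smul, ← h1, mul_smul]
    congr 1
    exact (hg v).2 rfl
  have hmap : Cfsg.Inn (HS B) = (HS B).map Φ := by
    ext φ
    constructor
    · rintro ⟨g, rfl⟩
      refine ⟨g.1, g.2, ?_⟩
      ext1 x
      apply Subtype.ext
      rw [MulAut.conj_apply]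
      exact MulAut.conjNormal_apply g.1 x
    · rintro ⟨g, hg, rfl⟩
      refine ⟨⟨g, hg⟩, ?_⟩
      ext1 x
      apply Subtype.ext
      rw [MulAut.conj_apply]
      exact (MulAut.conjNormal_apply g x).symm
  rw [hmap, Subgroup.index_map, hker, sup_bot_eq, MonoidHom.range_eq_top.2 hsurj,
    Subgroup.index_top, mul_one, index_HS hα hB]

end Cfsg.Agent.Lib.Helper10HSOut
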