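import Cfsg.Agent.Lib.Helper10HSVec
import Cfsg.Agent.Lib.Helper10HSOut
import Cfsg.Prelude.Def_Spor_Conway

/-!
# The two-vector stabiliser in the lattice group is the simple group of the 100-vertex graph (helper10)
-/

set_option autoImplicit false
set_option linter.unusedSectionVars false

namespace Cfsg.Agent.Lib.Helper10HSIso

open Cfsg Finset MulAction Cfsg.Agent.Lib.Helper33Golay Cfsg.Agent.Lib.Helper33LCo0
  Cfsg.Agent.Lib.Helper33LPair Cfsg.Agent.Lib.Helper33LFrame Cfsg.Agent.Lib.Helper33LM22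
  Cfsg.Agent.Lib.Helper33LBase Cfsg.Agent.Lib.Helper33LCo2 Cfsg.Agent.Lib.Helper33LMcL
  Cfsg.Agent.Lib.Helper33LGood Cfsg.Agent.Lib.Helper33LHS Cfsg.Agent.Lib.Helper33LOrders
  Cfsg.Agent.Lib.Helper10Ext Cfsg.Agent.Lib.Helper10HSVec Cfsg.Agent.Lib.Helper10HSGraph
  Cfsg.Agent.Lib.Helper10HSGroup Cfsg.Agent.Lib.Helper10HSSimple

/-- the frame -/
noncomputable abbrev F0 : List LV := [DL u0c, DL xhc]

theorem exists_iota (y : LV) (hy : y ∈ C F0 [24, 0]) : ∃ v : V, iota v = y := by
  have hfin : Finite ↥(C F0 [24, 0]) :=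
    (Set.finite_of_ncard_ne_zero (by rw [n100]; norm_num)).to_subtype
  have hbij := Function.Injective.bijective_of_nat_card_le
    (f := fun v : V => (⟨iota v, iota_mem v⟩ : ↥(C F0 [24, 0])))
    (fun v w h => iota_injective (congrArg Subtype.val h))
    (by rw [Nat.card_coe_set_eq, n100, card_V card_P steiner])
  obtain ⟨v, hv⟩ := hbij.2 ⟨y, hy⟩
  exact ⟨v, congrArg Subtype.val hv⟩

theorem smul_mem (g : ↥(fixG F0)) (y : LV) (hy : y ∈ C F0 [24, 0]) : g.1 • y ∈ C F0 [24, 0] := by
  have h1 := (mem_C_mv g.1 F0 [24, 0] y).2 hy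
  rwa [mv_of_fixes g.1 F0 g.2] at h1

/-- the induced map on the vertices -/
noncomputable def f (g : ↥(fixG F0)) (v : V) : V :=
  Classical.choose (exists_iota (g.1 • iota v) (smul_mem g _ (iota_mem v)))

theorem f_spec (g : ↥(fixG F0)) (v : V) : iota (f g v) = g.1 • iota v :=
  Classical.choose_spec (exists_iota (g.1 • iota v) (smul_mem g _ (iota_mem v)))

theorem f_mul (g h : ↥(fixG F0)) (v : V) : f (g * h) v = f g (f h v) := by
  apply iota_injective
  rw [f_spec, f_spec, f_spec]
  exact mul_smul g.1 h.1 _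

theorem f_one (v : V) : f 1 v = v := by
  apply iota_injective
  rw [f_spec]
  exact one_smul _ _

theorem f_adj (g : ↥(fixG F0)) (v w : V) :
    (pointBlockGraph (WS A)).Adj (f g v) (f g w) ↔ (pointBlockGraph (WS A)).Adj v w := by
  rw [← tab_eq_8, ← tab_eq_8, ← dot_iota, ← dot_iota, f_spec, f_spec, dot_smul']

/-- the action on the graph -/
noncomputable def rho : ↥(fixG F0) →* AutG (WS A) :=
  MonoidHom.mk' (fun g => ⟨⟨f g, f g⁻¹, fun v => by rw [← f_mul, inv_mul_cancel, f_one],
    fun v => by rw [← f_mul, mul_inv_cancel, f_one]⟩, fun {v w} => f_adj g v w⟩) (by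
    intro g h
    apply RelIso.ext
    intro v
    exact f_mul g h v)

theorem rho_apply (g : ↥(fixG F0)) (v : V) : rho g v = f g v := rfl

theorem rho_injective : Function.Injective rho := by
  have hs : IsSimpleGroup ↥(fixG F0) := goodHS.1
  rw [← MonoidHom.ker_eq_bot_iff]
  rcases hs.eq_bot_or_eq_top_of_normal rho.ker inferInstance with h | h
  · exact h
  · exfalso
    have hP : Nonempty P := by
      rw [← Fintype.card_pos_iff, card_P]; norm_num
    obtain ⟨a⟩ := hP
    obtain ⟨g, hg, hga⟩ := T100 (iota none) (iota_mem none) (iota (some (Sum.inl a)))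
      (iota_mem _)
    have h1 : (⟨g, hg⟩ : ↥(fixG F0)) ∈ rho.ker := by rw [h]; exact Subgroup.mem_top _
    have h2 : f ⟨g, hg⟩ none = none := by
      rw [← rho_apply, MonoidHom.mem_ker.1 h1]; rfl
    have h3 := f_spec ⟨g, hg⟩ none
    rw [h2] at h3
    have h4 : iota none = iota (some (Sum.inl a)) := h3.trans hga
    exact absurd (iota_injective h4) (by simp)

theorem range_rho : rho.range = HS (WS A) := by
  have := finite_aut card_P steiner
  apply eq_of_index_two (HS (WS A)) rho.range (index_HS card_P steiner) _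
    (simple_HS card_P steiner) (by rw [card_HS card_P steiner]; norm_num)
  have h := rho.range.card_mul_index
  rw [← Nat.card_congr (MonoidHom.ofInjective rho_injective).toEquiv, goodHS.2,
    card_aut card_P steiner] at h
  omega

/-- the isomorphism for the standard frame -/
noncomputable def iso0 : ↥(fixG F0) ≃* ↥(HS (WS A)) :=
  (MonoidHom.ofInjective rho_injective).trans (MulEquiv.subgroupCongr range_rho)

theorem normV' : sqNorm ((Spor.leechV : LV) : GolayPt → ℤ) = 48 := by
  show sqNorm Spor.vecV = 48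
  decide

theorem U'_mem : Spor.leechU' ∈ C [Spor.leechV] [-16] := by
  refine ⟨?_, ?_⟩
  · show sqNorm Spor.vecU' = 32
    decide
  · show [dotInt Spor.vecV Spor.vecU'] = [-16]
    decide

/-- the group of the statement as the pointwise stabiliser of a frame -/
def iso1 : ↥Spor.HS ≃* ↥(fixG [Spor.leechV, Spor.leechU']) where
  toFun g := ⟨⟨g.1, g.2.1.1⟩, by
    intro b hb
    simp only [List.mem_cons, List.not_mem_nil, or_false] at hb
    rcases hb with rfl | rfl
    · exact g.2.1.2
    · exact g.2.2⟩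
  invFun k := ⟨k.1.1, ⟨⟨k.1.2, k.2 _ (by simp)⟩, k.2 _ (by simp)⟩⟩
  left_inv g := rfl
  right_inv k := rfl
  map_mul' a b := rfl

theorem exists_iso : Nonempty (↥Spor.HS ≃* ↥(HS (WS A))) := by
  obtain ⟨g, hg⟩ := mvUH Spor.leechV Spor.leechU' normV' U'_mem
  have e := conjEquiv g [Spor.leechV, Spor.leechU']
  rw [hg] at e
  exact ⟨(iso1.trans e).trans iso0⟩

theorem card_out_congr {G G' : Type} [Group G] [Group G'] (e : G ≃* G') :
    Nat.card (Cfsg.Out G) = Nat.card (Cfsg.Out G') := by
  have he : (Cfsg.Inn G).map (MulAut.congr e).toMonoidHom = Cfsg.Inn G' := by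
    ext φ
    constructor
    · rintro ⟨_, ⟨g, rfl⟩, rfl⟩
      refine ⟨e g, ?_⟩
      ext x
      simp [MulAut.congr, MulAut.conj_apply]
    · rintro ⟨g, rfl⟩
      refine ⟨MulAut.conj (e.symm g), ⟨_, rfl⟩, ?_⟩
      ext x
      simp [MulAut.congr, MulAut.conj_apply]
  exact Nat.card_congr (QuotientGroup.congr (Cfsg.Inn G) (Cfsg.Inn G') (MulAut.congr e) he).toEquiv

theorem card_out_HS : Nat.card (Cfsg.Out ↥Spor.HS) = 2 := by
  obtain ⟨e⟩ := exists_iso
  rw [card_out_congr e]
  exact Cfsg.Agent.Lib.Helper10HSOut.card_out card_P steiner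

end Cfsg.Agent.Lib.Helper10HSIso
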