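import Cfsg.Agent.Lib.Helper10SRG

/-!
# Subgroups of index 100 acting on a strongly regular graph with parameters (100,22,0,6) (helper10)
-/

set_option autoImplicit false
set_option linter.unusedSectionVars false

namespace Cfsg.Agent.Lib.Helper10HSOrb

open Cfsg Finset MulAction Cfsg.Agent.Lib.Helper10SRG

section fix
variable {K V : Type*} [Group K] [MulAction K V] [Fintype V] [DecidableEq V]

/-- fixed points of an element of prime order on an invariant set -/
theorem modEq_fix (g : K) (p : ℕ) [Fact p.Prime] (hg : g ^ p = 1) (S : Finset V)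
    (hS : ∀ v, g • v ∈ S ↔ v ∈ S) :
    (S.filter (fun v => g • v = v)).card ≡ S.card [MOD p] := by
  let σ : Equiv.Perm V := MulAction.toPerm g
  have hσ : σ ^ p = 1 := by
    have : σ = MulAction.toPermHom K V g := rfl
    rw [this, ← map_pow, hg, map_one]
  have hS' : ∀ v, σ v ∈ S ↔ v ∈ S := hS
  let τ : Equiv.Perm {v // v ∈ S} := σ.subtypePerm hS'
  have hτ : τ ^ p ^ 1 = 1 := by
    rw [pow_one, Equiv.Perm.subtypePerm_pow]
    ext v
    simp [hσ]
  have h := Equiv.Perm.card_compl_support_modEq hτ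
  rw [Fintype.card_coe] at h
  have e : (τ.supportᶜ).card = (S.filter (fun v => g • v = v)).card := by
    apply Finset.card_bij (fun v _ => v.1)
    · intro v hv
      rw [Finset.mem_compl, Equiv.Perm.mem_support, not_not] at hv
      exact Finset.mem_filter.2 ⟨v.2, congrArg Subtype.val hv⟩
    · intro v _ w _ h
      exact Subtype.ext h
    · intro v hv
      obtain ⟨h1, h2⟩ := Finset.mem_filter.1 hv
      refine ⟨⟨v, h1⟩, ?_, rfl⟩
      rw [Finset.mem_compl, Equiv.Perm.mem_support, not_not]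
      exact Subtype.ext h2
  rw [← e]
  exact h

end fix

section graph
variable {V : Type*} [Fintype V] [DecidableEq V] (Γ : SimpleGraph V)

open Classical in
/-- number of neighbours of `v` in `S` -/
noncomputable def d (S : Finset V) (v : V) : ℕ := (S.filter (fun w => Γ.Adj v w)).card

open Classical in
/-- number of common neighbours -/
noncomputable def cn (v w : V) : ℕ := (univ.filter (fun u => Γ.Adj v u ∧ Γ.Adj w u)).card

open Classical in
/-- the neighbours -/
noncomputable def nb (x : V) : Finset V := univ.filter (fun y => Γ.Adj x y)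

variable {Γ}

theorem mem_nb {x y : V} : y ∈ nb Γ x ↔ Γ.Adj x y := by
  classical
  simp [nb]

theorem d_univ (h : SRG' Γ 100 22 0 6) (v : V) : d Γ univ v = 22 := by
  classical
  rw [← h.2.1 v, d, ← Set.ncard_coe_finset]
  congr 1
  ext w
  simp

theorem cn_eq (v w : V) : cn Γ v w = (Γ.commonNeighbors v w).ncard := by
  classical
  rw [cn, ← Set.ncard_coe_finset]
  congr 1
  ext u
  simp [SimpleGraph.mem_commonNeighbors]

theorem cn_self (h : SRG' Γ 100 22 0 6) (v : V) : cn Γ v v = 22 := by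
  classical
  rw [← d_univ h v, cn, d]
  congr 1
  ext u
  simp

theorem cn_adj (h : SRG' Γ 100 22 0 6) {v w : V} (hvw : Γ.Adj v w) : cn Γ v w = 0 := by
  rw [cn_eq, h.2.2.1 v w hvw]

theorem cn_nadj (h : SRG' Γ 100 22 0 6) {v w : V} (hne : v ≠ w) (hvw : ¬ Γ.Adj v w) :
    cn Γ v w = 6 := by
  rw [cn_eq, h.2.2.2 v w hne hvw]

theorem d_compl (h : SRG' Γ 100 22 0 6) (S : Finset V) (v : V) : d Γ S v + d Γ Sᶜ v = 22 := by
  classical
  rw [← d_univ h v, d, d, d, ← Finset.card_union_of_disjoint]
  · congr 1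
    ext w
    simp only [Finset.mem_union, Finset.mem_filter, Finset.mem_compl, Finset.mem_univ, true_and]
    tauto
  · rw [Finset.disjoint_left]
    intro w hw hw'
    exact (Finset.mem_compl.1 (Finset.mem_filter.1 hw').1) (Finset.mem_filter.1 hw).1

theorem dc (S T : Finset V) : ∑ u ∈ S, d Γ T u = ∑ w ∈ T, d Γ S w := by
  classical
  have h := Finset.sum_card_bipartiteAbove_eq_sum_card_bipartiteBelow (s := S) (t := T) Γ.Adj
  unfold Finset.bipartiteAbove Finset.bipartiteBelow at h
  unfold d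
  rw [h]
  apply Finset.sum_congr rfl
  intro w _
  congr 1
  ext u
  simp [Γ.adj_comm]

theorem two_path (S : Finset V) (x : V) :
    ∑ y ∈ nb Γ x, d Γ S y = ∑ z ∈ S, cn Γ x z := by
  classical
  have h := Finset.sum_card_bipartiteAbove_eq_sum_card_bipartiteBelow
    (s := nb Γ x) (t := S) Γ.Adj
  unfold Finset.bipartiteAbove Finset.bipartiteBelow at h
  unfold d cn
  rw [h]
  apply Finset.sum_congr rfl
  intro w _
  congr 1
  ext u
  simp [Γ.adj_comm, mem_nb]

variable {K : Type*} [Group K] [MulAction K V]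

theorem d_inv (hadj : ∀ (k : K) (v w : V), Γ.Adj (k • v) (k • w) ↔ Γ.Adj v w) (k : K)
    (S : Finset V) (hS : ∀ v, k • v ∈ S ↔ v ∈ S) (v : V) : d Γ S (k • v) = d Γ S v := by
  classical
  unfold d
  symm
  apply Finset.card_bij (fun w _ => k • w)
  · intro w hw
    obtain ⟨h1, h2⟩ := Finset.mem_filter.1 hw
    exact Finset.mem_filter.2 ⟨(hS w).2 h1, (hadj k v w).2 h2⟩
  · intro w _ w' _ h
    exact MulAction.injective k h
  · intro w hw
    obtain ⟨h1, h2⟩ := Finset.mem_filter.1 hw
    refine ⟨k⁻¹ • w, Finset.mem_filter.2 ⟨?_, ?_⟩, smul_inv_smul k w⟩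
    · rw [← hS, smul_inv_smul]; exact h1
    · rw [← hadj k, smul_inv_smul]; exact h2

theorem mem_of_d_ne {S : Finset V} {v : V} (h : d Γ S v ≠ 0) : ∃ w ∈ S, Γ.Adj v w := by
  classical
  unfold d at h
  obtain ⟨w, hw⟩ := Finset.card_pos.1 (Nat.pos_of_ne_zero h)
  exact ⟨w, (Finset.mem_filter.1 hw).1, (Finset.mem_filter.1 hw).2⟩

theorem d_eq_zero {S : Finset V} {v : V} (h : d Γ S v = 0) (w : V) (hw : w ∈ S) : ¬ Γ.Adj v w := by
  classical
  intro hvw
  unfold d at h
  rw [Finset.card_eq_zero] at h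
  have : w ∈ S.filter (fun w => Γ.Adj v w) := Finset.mem_filter.2 ⟨hw, hvw⟩
  rw [h] at this
  exact absurd this (Finset.notMem_empty _)

theorem orbit_ne_56 (h : SRG' Γ 100 22 0 6)
    (hadj : ∀ (k : K) (v w : V), Γ.Adj (k • v) (k • w) ↔ Γ.Adj v w)
    (g : K) (hg : g ^ 11 = 1) (x : V) (hx : ∀ v, g • v = v ↔ v = x)
    (O : Finset V) (hO : ∀ v, v ∈ O ↔ v ∈ orbit K x) : O.card ≠ 56 := by
  classical
  intro hcard
  have hp : Fact (Nat.Prime 11) := ⟨by norm_num⟩
  have hV : (univ : Finset V).card = 100 := by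
    rw [Finset.card_univ, ← Nat.card_eq_fintype_card]; exact h.1
  have hxO : x ∈ O := (hO x).2 (mem_orbit_self x)
  have hOinv : ∀ (k : K) v, k • v ∈ O ↔ v ∈ O := by
    intro k v
    rw [hO, hO]
    constructor
    · rintro ⟨m, hm⟩
      have hm' : m • x = k • v := hm
      exact ⟨k⁻¹ * m, by show (k⁻¹ * m) • x = v; rw [mul_smul, hm', inv_smul_smul]⟩
    · rintro ⟨m, rfl⟩
      exact ⟨k * m, mul_smul k m x⟩
  have hCcard : Oᶜ.card = 44 := by rw [Finset.card_compl, hcard, ← Finset.card_univ, hV]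
  set a := d Γ O x with ha
  have hdO : ∀ u ∈ O, d Γ O u = a := by
    intro u hu
    obtain ⟨k, rfl⟩ := (hO u).1 hu
    exact d_inv hadj k O (hOinv k) x
  have hdC : ∀ u ∈ O, d Γ Oᶜ u = 22 - a := by
    intro u hu
    have := d_compl h O u
    rw [hdO u hu] at this; omega
  have hgx : g • x = x := (hx x).2 rfl
  have hgadj : ∀ w, Γ.Adj x (g • w) ↔ Γ.Adj x w := by
    intro w
    conv_lhs => rw [← hgx]
    exact hadj g x w
  have h11 : 11 ∣ a := by
    have hm := modEq_fix g 11 hg (O.filter (fun w => Γ.Adj x w)) (by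
      intro w
      rw [Finset.mem_filter, Finset.mem_filter, hOinv, hgadj])
    have he : ((O.filter (fun w => Γ.Adj x w)).filter (fun v => g • v = v)) = ∅ := by
      rw [Finset.filter_eq_empty_iff]
      intro w hw hgw
      rw [(hx w).1 hgw] at hw
      exact Γ.irrefl (Finset.mem_filter.1 hw).2
    rw [he, Finset.card_empty] at hm
    exact (Nat.modEq_zero_iff_dvd.1 hm.symm)
  have ha22 : a ≤ 22 := by have := d_compl h O x; omega
  obtain ⟨c, hc⟩ := h11
  have hc2 : c ≤ 2 := by omega
  have hedge : ∑ w ∈ Oᶜ, d Γ O w = 56 * (22 - a) := by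
    rw [← dc O Oᶜ, Finset.sum_congr rfl hdC, Finset.sum_const, hcard, smul_eq_mul]
  interval_cases c
  · have h1 : ∑ w ∈ Oᶜ, d Γ O w ≤ ∑ w ∈ Oᶜ, 22 :=
      Finset.sum_le_sum (fun w _ => by have := d_compl h O w; omega)
    rw [hedge, Finset.sum_const, hCcard, hc] at h1
    norm_num at h1
  · have ha11 : a = 11 := by omega
    have htp := two_path (Γ := Γ) O x
    have hR : ∑ z ∈ O, cn Γ x z = 286 := by
      have h1 : ∀ z ∈ O, cn Γ x z + (if Γ.Adj x z then 6 else 0) =
          6 + (if z = x then 16 else 0) := by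
        intro z _
        by_cases hz : z = x
        · subst hz
          rw [cn_self h, if_neg (Γ.irrefl), if_pos rfl]
        · by_cases hz' : Γ.Adj x z
          · rw [cn_adj h hz', if_pos hz', if_neg hz]
          · rw [cn_nadj h (Ne.symm hz) hz', if_neg hz', if_neg hz]
      have h2 := Finset.sum_congr rfl h1
      rw [Finset.sum_add_distrib, Finset.sum_add_distrib, ← Finset.sum_filter, Finset.sum_const,
        Finset.sum_const, Finset.sum_ite_eq', if_pos hxO, hcard] at h2
      have h3 : (O.filter (fun w => Γ.Adj x w)).card = 11 := ha11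
      rw [h3] at h2
      simp only [smul_eq_mul] at h2
      omega
    rw [hR, ← Finset.sum_filter_add_sum_filter_not (nb Γ x) (fun y => y ∈ O)] at htp
    have hT1 : ((nb Γ x).filter (fun y => y ∈ O)).card = 11 := by
      rw [← ha11, ha, d]
      congr 1
      ext w
      simp only [Finset.mem_filter, mem_nb]
      tauto
    have hT2 : ((nb Γ x).filter (fun y => ¬ y ∈ O)).card = 11 := by
      have := hdC x hxO
      rw [ha11] at this
      rw [show (11 : ℕ) = 22 - 11 from rfl, ← this, d]
      congr 1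
      ext w
      simp only [Finset.mem_filter, mem_nb, Finset.mem_compl]
      tauto
    have hs1 : ∑ y ∈ (nb Γ x).filter (fun y => y ∈ O), d Γ O y = 121 := by
      rw [Finset.sum_congr rfl (fun y hy => hdO y (Finset.mem_filter.1 hy).2), Finset.sum_const,
        hT1, ha11]
      rfl
    rw [hs1] at htp
    set T2 := (nb Γ x).filter (fun y => ¬ y ∈ O) with hT2def
    obtain ⟨y0, hy0⟩ : T2.Nonempty := Finset.card_pos.1 (by rw [hT2]; norm_num)
    have hL : T2.filter (fun y => d Γ O y = d Γ O y0) = T2 := by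
      apply Finset.eq_of_subset_of_card_le (Finset.filter_subset _ _)
      have hm := modEq_fix g 11 hg (T2.filter (fun y => d Γ O y = d Γ O y0)) (by
        intro w
        rw [Finset.mem_filter, Finset.mem_filter, hT2def, Finset.mem_filter, Finset.mem_filter,
          mem_nb, mem_nb, hOinv, hgadj, d_inv hadj g O (hOinv g)])
      have he : ((T2.filter (fun y => d Γ O y = d Γ O y0)).filter (fun v => g • v = v)) = ∅ := by
        rw [Finset.filter_eq_empty_iff]
        intro w hw hgw
        rw [(hx w).1 hgw] at hw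
        exact (Finset.mem_filter.1 (Finset.mem_filter.1 hw).1).2 hxO
      rw [he, Finset.card_empty] at hm
      have hd := (Nat.modEq_zero_iff_dvd.1 hm.symm)
      have hpos : 0 < (T2.filter (fun y => d Γ O y = d Γ O y0)).card :=
        Finset.card_pos.2 ⟨y0, Finset.mem_filter.2 ⟨hy0, rfl⟩⟩
      rw [hT2]
      exact Nat.le_of_dvd hpos hd
    have hconst : ∀ y ∈ T2, d Γ O y = d Γ O y0 := by
      intro y hy
      rw [← hL] at hy
      exact (Finset.mem_filter.1 hy).2
    rw [Finset.sum_congr rfl hconst, Finset.sum_const, hT2, smul_eq_mul] at htp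
    have h15 : d Γ O y0 = 15 := by omega
    have hall : ∀ y ∈ Oᶜ, 15 ∣ d Γ O y := by
      intro y hy
      by_cases h0 : d Γ O y = 0
      · rw [h0]; exact dvd_zero _
      · obtain ⟨u, hu, hyu⟩ := mem_of_d_ne h0
        obtain ⟨k, rfl⟩ := (hO u).1 hu
        have h1 : k⁻¹ • y ∈ T2 := by
          rw [hT2def, Finset.mem_filter, mem_nb, hOinv]
          refine ⟨?_, Finset.mem_compl.1 hy⟩
          rw [← hadj k, smul_inv_smul]
          exact hyu.symm
        have h2 := hconst _ h1
        rw [d_inv hadj k⁻¹ O (hOinv k⁻¹), h15] at h2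
        rw [h2]
    have := Finset.dvd_sum hall
    rw [hedge, ha11] at this
    omega
  · have hC0 : ∀ u ∈ O, d Γ Oᶜ u = 0 := by intro u hu; rw [hdC u hu, hc]
    obtain ⟨y, hy⟩ : Oᶜ.Nonempty := Finset.card_pos.1 (by rw [hCcard]; norm_num)
    have key : ∀ u ∈ O, ∀ w, Γ.Adj u w → w ∈ O := by
      intro u hu w huw
      by_contra hw
      exact d_eq_zero (hC0 u hu) w (Finset.mem_compl.2 hw) huw
    have hyO : y ∉ O := Finset.mem_compl.1 hy
    have hne : x ≠ y := fun e => hyO (e ▸ hxO)
    have hnadj : ¬ Γ.Adj x y := fun e => hyO (key x hxO y e)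
    have h6 := cn_nadj h hne hnadj
    unfold cn at h6
    obtain ⟨z, hz⟩ : (univ.filter (fun u => Γ.Adj x u ∧ Γ.Adj y u)).Nonempty :=
      Finset.card_pos.1 (by rw [h6]; norm_num)
    obtain ⟨-, hz1, hz2⟩ := Finset.mem_filter.1 hz
    exact hyO (key z (key x hxO z hz1) y hz2.symm)

theorem arith : ∀ n ≤ 100, n ∣ 443520 → n % 11 = 1 → n % 7 ≤ 2 → n = 1 ∨ n = 56 := by decide

/-- a subgroup of index 100 is a vertex stabiliser -/
theorem stab_of_card {G : Type*} [Group G] [Finite G] [MulAction G V] [IsPretransitive G V]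
    (h : SRG' Γ 100 22 0 6)
    (hadj : ∀ (k : G) (v w : V), Γ.Adj (k • v) (k • w) ↔ Γ.Adj v w)
    (hG : Nat.card G = 44352000)
    (h11 : ∀ g : G, orderOf g = 11 → ∃ x : V, ∀ v, g • v = v ↔ v = x)
    (h7 : ∀ g : G, orderOf g = 7 → (univ.filter (fun v : V => g • v = v)).card ≤ 2)
    (K : Subgroup G) (hK : Nat.card K = 443520) : ∃ x : V, K = stabilizer G x := by
  classical
  have hp11 : Fact (Nat.Prime 11) := ⟨by norm_num⟩
  have hp7 : Fact (Nat.Prime 7) := ⟨by norm_num⟩
  have hV : (univ : Finset V).card = 100 := by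
    rw [Finset.card_univ, ← Nat.card_eq_fintype_card]; exact h.1
  obtain ⟨g, hg⟩ := exists_prime_orderOf_dvd_card' (G := K) 11 (by rw [hK]; norm_num)
  obtain ⟨t, ht⟩ := exists_prime_orderOf_dvd_card' (G := K) 7 (by rw [hK]; norm_num)
  obtain ⟨x, hx⟩ := h11 g.1 (by rw [Subgroup.orderOf_coe, hg])
  have hx' : ∀ v : V, g • v = v ↔ v = x := hx
  refine ⟨x, ?_⟩
  let O : Finset V := (orbit K x).toFinset
  have hO : ∀ v, v ∈ O ↔ v ∈ orbit K x := fun v => Set.mem_toFinset
  have hOinv : ∀ (k : K) v, k • v ∈ O ↔ v ∈ O := by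
    intro k v
    rw [hO, hO]
    constructor
    · rintro ⟨m, hm⟩
      have hm' : m • x = k • v := hm
      exact ⟨k⁻¹ * m, by show (k⁻¹ * m) • x = v; rw [mul_smul, hm', inv_smul_smul]⟩
    · rintro ⟨m, rfl⟩
      exact ⟨k * m, mul_smul k m x⟩
  have hn : O.card = (stabilizer K x).index := by
    rw [index_stabilizer, ← Set.ncard_coe_finset]
    congr 1
    ext v
    exact hO v
  have h1 : O.card ∣ 443520 := by rw [hn, ← hK]; exact Subgroup.index_dvd_card _
  have h2 : O.card ≤ 100 := by rw [← hV]; exact Finset.card_le_univ O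
  have h3 : O.card % 11 = 1 := by
    have hm := modEq_fix g 11 (by rw [← hg]; exact pow_orderOf_eq_one g) O (hOinv g)
    have he : O.filter (fun v => g • v = v) = {x} := by
      ext v
      rw [Finset.mem_filter, Finset.mem_singleton, hx']
      constructor
      · exact fun h => h.2
      · rintro rfl
        exact ⟨(hO _).2 (mem_orbit_self _), rfl⟩
    rw [he, Finset.card_singleton] at hm
    exact hm.symm
  have h4 : O.card % 7 ≤ 2 := by
    have hm := modEq_fix t 7 (by rw [← ht]; exact pow_orderOf_eq_one t) O (hOinv t)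
    have hle : (O.filter (fun v => t • v = v)).card ≤ 2 :=
      le_trans (Finset.card_le_card (Finset.filter_subset_filter _ (Finset.subset_univ O)))
        (h7 t.1 (by rw [Subgroup.orderOf_coe, ht]))
    unfold Nat.ModEq at hm
    rw [← hm, Nat.mod_eq_of_lt (by omega)]
    exact hle
  rcases arith _ h2 h1 h3 h4 with h5 | h5
  · have hle : K ≤ stabilizer G x := by
      intro k hk
      rw [mem_stabilizer_iff]
      have h6 : (⟨k, hk⟩ : K) • x ∈ O := (hO _).2 (mem_orbit _ _)
      have h7' : x ∈ O := (hO _).2 (mem_orbit_self _)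
      exact Finset.card_le_one.1 h5.le _ h6 _ h7'
    apply Subgroup.eq_of_le_of_card_ge hle
    have h8 := (stabilizer G x).card_mul_index
    rw [index_stabilizer_of_transitive, h.1, hG] at h8
    rw [hK]
    omega
  · exact absurd h5 (orbit_ne_56 h (fun k v w => hadj k.1 v w) g
      (by rw [← hg]; exact pow_orderOf_eq_one g) x hx' O hO)

end graph

end Cfsg.Agent.Lib.Helper10HSOrb
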