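import Cfsg.Agent.Lib.Helper33LOrders
import Cfsg.Agent.Lib.Helper10HSGraph
import Cfsg.Agent.Lib.Helper10Ext

/-!
# The hundred lattice vectors of the Higman–Sims configuration, explicitly (helper10)
-/

set_option autoImplicit false
set_option linter.unusedSectionVars false

namespace Cfsg.Agent.Lib.Helper10HSVec

open Cfsg Finset Cfsg.Agent.Lib.Helper33Golay Cfsg.Agent.Lib.Helper33LCo0
  Cfsg.Agent.Lib.Helper33LPair Cfsg.Agent.Lib.Helper33LFrame Cfsg.Agent.Lib.Helper33LM22
  Cfsg.Agent.Lib.Helper33LBase Cfsg.Agent.Lib.Helper33LCo2 Cfsg.Agent.Lib.Helper33LMcL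
  Cfsg.Agent.Lib.Helper10Ext Cfsg.Agent.Lib.Helper94Leech
open Cfsg.Agent.Lib.Helper9Golay2 (Csup)

/-- a multiple of a coordinate vector -/
def sg (a : GolayPt) (c : ℤ) : GolayPt → ℤ := fun p => if p = a then c else 0

theorem dot_sg (a : GolayPt) (c : ℤ) (f : GolayPt → ℤ) : dotInt (sg a c) f = c * f a := by
  unfold dotInt sg
  simp only [ite_mul, zero_mul]
  rw [Finset.sum_ite_eq' Finset.univ a, if_pos (Finset.mem_univ a)]

theorem dot_one (f : GolayPt → ℤ) : dotInt (fun _ => (1 : ℤ)) f = ∑ p, f p := by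
  unfold dotInt
  simp only [one_mul]

/-- the vectors of shape (-3, 1^23) -/
def pv (a : GolayPt) : GolayPt → ℤ := fun p => if p = a then -3 else 1

/-- the vectors of shape (2^8, 0^16) -/
def ov (o : Finset GolayPt) : GolayPt → ℤ := fun p => if p ∈ o then 2 else 0

theorem pv_eq (a : GolayPt) : pv a = (fun _ => (1 : ℤ)) + sg a (-4) := by
  funext p
  simp only [pv, sg, Pi.add_apply]
  split_ifs <;> norm_num

theorem dot_pv (a : GolayPt) (f : GolayPt → ℤ) : dotInt (pv a) f = (∑ p, f p) - 4 * f a := by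
  rw [pv_eq, dot_add_left, dot_one, dot_sg]
  ring

theorem dot_ov (o : Finset GolayPt) (f : GolayPt → ℤ) : dotInt (ov o) f = 2 * ∑ p ∈ o, f p := by
  unfold dotInt ov
  simp only [ite_mul, zero_mul]
  rw [← Finset.sum_filter, Finset.mul_sum]
  apply Finset.sum_congr
  · ext p; simp
  · intro _ _; rfl

theorem sum_pv (a : GolayPt) : ∑ p, pv a p = 20 := by
  have h := dot_sg a (-4) (fun _ => (1 : ℤ))
  have h2 : ∑ p, pv a p = dotInt (pv a) (fun _ => (1 : ℤ)) := by
    unfold dotInt; simp
  rw [h2, dot_pv]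
  simp

theorem sum_ov (o : Finset GolayPt) : ∑ p, ov o p = 2 * o.card := by
  have h2 : ∑ p, ov o p = dotInt (ov o) (fun _ => (1 : ℤ)) := by
    unfold dotInt; simp
  rw [h2, dot_ov]
  simp

theorem pv_mem (a : GolayPt) : pv a ∈ leechLattice := by
  apply AddSubgroup.subset_closure
  apply Cfsg.Spor.mem_leechSet_of_const_mod_four (pv a) 1 1 rfl
  · intro i
    unfold pv
    split_ifs
    · decide
    · rfl
  · rw [sum_pv]; decide

theorem compl_mem {c : Finset GolayPt} (hc : c ∈ Csup) : cᶜ ∈ Csup := by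
  have := Cfsg.Agent.Lib.Helper33Golay.supports_symmDiff hc univ_mem
  have e : symmDiff c univ = cᶜ := by
    ext i; simp [Finset.mem_symmDiff]
  rwa [e] at this

theorem ov_mem {o : Finset GolayPt} (ho : o ∈ octads) : ov o ∈ leechLattice := by
  apply AddSubgroup.subset_closure
  rw [mem_leechSet_iff]
  refine ⟨0, ?_, ?_, ?_⟩
  · intro i
    unfold ov
    split_ifs <;> rfl
  · rw [sum_ov, octads_card ho]; rfl
  · intro k
    by_cases k1 : k % 4 = 2
    · have : cls (ov o) k = o := by
        ext i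
        rw [mem_cls, k1]
        unfold ov
        split_ifs with hi
        · simp [hi]
        · simp [hi]
      rw [this]; exact ho.1
    · by_cases k2 : k % 4 = 0
      · have : cls (ov o) k = oᶜ := by
          ext i
          rw [mem_cls, k2, Finset.mem_compl]
          unfold ov
          split_ifs with hi
          · simp [hi]
          · simp [hi]
        rw [this]; exact compl_mem ho.1
      · have : cls (ov o) k = ∅ := by
          ext i
          rw [mem_cls]
          simp only [Finset.notMem_empty, iff_false]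
          unfold ov
          split_ifs
          · exact fun e => k1 e.symm
          · exact fun e => k2 e.symm
        rw [this]; exact empty_mem

theorem u_eq : ((DL u0c : LV) : GolayPt → ℤ) = (fun _ => (1 : ℤ)) + sg (pt 1) 4 := by
  funext p
  rw [cU']
  simp only [sg, Pi.add_apply]
  split_ifs <;> norm_num

theorem h_eq : ((DL xhc : LV) : GolayPt → ℤ) = sg (pt 0) 4 + sg (pt 1) (-4) := by
  funext p
  rw [cH']
  simp only [sg, Pi.add_apply]
  by_cases h0 : p = pt 0
  · subst h0; simp [p01]
  · simp [h0]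

theorem v_eq : ((DL v0c : LV) : GolayPt → ℤ) = sg (pt 0) 4 + sg (pt 1) 4 := by
  funext p
  rw [cV']
  simp only [sg, Pi.add_apply]
  by_cases h0 : p = pt 0
  · subst h0; simp [p01]
  · simp [h0]

theorem dot_u (f : GolayPt → ℤ) :
    dotInt ((DL u0c : LV) : GolayPt → ℤ) f = (∑ p, f p) + 4 * f (pt 1) := by
  rw [u_eq, dot_add_left, dot_one, dot_sg]

theorem dot_h (f : GolayPt → ℤ) :
    dotInt ((DL xhc : LV) : GolayPt → ℤ) f = 4 * f (pt 0) - 4 * f (pt 1) := by
  rw [h_eq, dot_add_left, dot_sg, dot_sg]; ring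

theorem dot_v (f : GolayPt → ℤ) :
    dotInt ((DL v0c : LV) : GolayPt → ℤ) f = 4 * f (pt 0) + 4 * f (pt 1) := by
  rw [v_eq, dot_add_left, dot_sg, dot_sg]

/-- the two special coordinates -/
def A : Finset GolayPt := {pt 0, pt 1}

theorem card_A : A.card = 2 := by decide

theorem mem_A {p : GolayPt} : p ∈ A ↔ p = pt 0 ∨ p = pt 1 := by
  simp [A]

abbrev P := {x : GolayPt // x ∉ A}

theorem card_P : Fintype.card P = 22 := by
  have h := card_compl_subtype A
  rw [card_A] at h
  have h2 : Fintype.card P + 2 = 24 := by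
    rw [← h]
  omega

theorem steiner : IsSteinerSystem 3 6 (WS A) := WS_steiner A 3 6 (by rw [card_A]) (by rw [card_A])

abbrev V := Option (P ⊕ ↥(WS A))

/-- the octad of a block -/
def oct (b : ↥(WS A)) : Finset GolayPt := b.1.map (Function.Embedding.subtype _) ∪ A

theorem oct_mem (b : ↥(WS A)) : oct b ∈ octads := b.2

theorem mem_oct (b : ↥(WS A)) (a : P) : a.1 ∈ oct b ↔ a ∈ b.1 := by
  unfold oct
  rw [Finset.mem_union, Finset.mem_map]
  constructor
  · rintro (⟨c, hc, hca⟩ | h)
    · rwa [← Subtype.ext hca]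
    · exact absurd h a.2
  · intro h
    exact Or.inl ⟨a, h, rfl⟩

theorem p0_oct (b : ↥(WS A)) : pt 0 ∈ oct b := Finset.mem_union_right _ (mem_A.2 (Or.inl rfl))
theorem p1_oct (b : ↥(WS A)) : pt 1 ∈ oct b := Finset.mem_union_right _ (mem_A.2 (Or.inr rfl))

theorem oct_inter (b c : ↥(WS A)) : (oct b ∩ oct c).card = 2 + (b.1 ∩ c.1).card := by
  have e : oct b ∩ oct c = (b.1 ∩ c.1).map (Function.Embedding.subtype _) ∪ A := by
    unfold oct
    rw [Finset.map_inter]
    ext z
    simp only [Finset.mem_inter, Finset.mem_union]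
    tauto
  rw [e, Finset.card_union_of_disjoint (map_disjoint A _), Finset.card_map, card_A, add_comm]

/-- the hundred vectors -/
noncomputable def iota : V → LV
  | none => DL v0c
  | some (Sum.inl a) => ⟨pv a.1, pv_mem a.1⟩
  | some (Sum.inr b) => ⟨ov (oct b), ov_mem (oct_mem b)⟩

theorem pv_p0 (a : P) : pv a.1 (pt 0) = 1 := by
  unfold pv
  rw [if_neg]
  intro h
  exact a.2 (mem_A.2 (Or.inl h.symm))

theorem pv_p1 (a : P) : pv a.1 (pt 1) = 1 := by
  unfold pv
  rw [if_neg]
  intro h
  exact a.2 (mem_A.2 (Or.inr h.symm))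

theorem ov_p0 (b : ↥(WS A)) : ov (oct b) (pt 0) = 2 := by
  unfold ov; rw [if_pos (p0_oct b)]

theorem ov_p1 (b : ↥(WS A)) : ov (oct b) (pt 1) = 2 := by
  unfold ov; rw [if_pos (p1_oct b)]

theorem sum_ov' (b : ↥(WS A)) : ∑ p, ov (oct b) p = 16 := by
  rw [sum_ov, octads_card (oct_mem b)]; rfl

theorem dot_ov_ov (o o' : Finset GolayPt) : dotInt (ov o) (ov o') = 4 * (o ∩ o').card := by
  rw [dot_ov]
  unfold ov
  rw [← Finset.sum_filter, Finset.sum_const, Finset.filter_mem_eq_inter]
  simp only [nsmul_eq_mul]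
  ring

/-- the table of inner products -/
def tab : V → V → ℤ
  | none, none => 32
  | none, some (Sum.inl _) => 8
  | none, some (Sum.inr _) => 16
  | some (Sum.inl _), none => 8
  | some (Sum.inr _), none => 16
  | some (Sum.inl a), some (Sum.inl a') => if a = a' then 32 else 16
  | some (Sum.inl a), some (Sum.inr b) => if a ∈ b.1 then 8 else 16
  | some (Sum.inr b), some (Sum.inl a) => if a ∈ b.1 then 8 else 16
  | some (Sum.inr b), some (Sum.inr b') => 8 + 4 * (b.1 ∩ b'.1).card

theorem dot_pv_ov (a : P) (b : ↥(WS A)) :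
    dotInt (pv a.1) (ov (oct b)) = if a ∈ b.1 then 8 else 16 := by
  rw [dot_pv, sum_ov']
  unfold ov
  by_cases h : a ∈ b.1
  · rw [if_pos ((mem_oct b a).2 h), if_pos h]; norm_num
  · rw [if_neg (fun h' => h ((mem_oct b a).1 h')), if_neg h]; norm_num

theorem dot_iota (v w : V) :
    dotInt ((iota v : LV) : GolayPt → ℤ) ((iota w : LV) : GolayPt → ℤ) = tab v w := by
  rcases v with _ | a | b <;> rcases w with _ | a' | b'
  · show dotInt ((DL v0c : LV) : GolayPt → ℤ) ((DL v0c : LV) : GolayPt → ℤ) = 32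
    rw [dot_v, cV', cV', if_pos rfl, if_neg p01.symm, if_pos rfl]; norm_num
  · show dotInt ((DL v0c : LV) : GolayPt → ℤ) (pv a'.1) = 8
    rw [dot_v, pv_p0, pv_p1]; norm_num
  · show dotInt ((DL v0c : LV) : GolayPt → ℤ) (ov (oct b')) = 16
    rw [dot_v, ov_p0, ov_p1]; norm_num
  · show dotInt (pv a.1) ((DL v0c : LV) : GolayPt → ℤ) = 8
    rw [dot_comm, dot_v, pv_p0, pv_p1]; norm_num
  · show dotInt (pv a.1) (pv a'.1) = if a = a' then 32 else 16
    rw [dot_pv, sum_pv]
    unfold pv
    by_cases h : a = a'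
    · rw [if_pos (congrArg Subtype.val h), if_pos h]; norm_num
    · rw [if_neg (fun h' => h (Subtype.ext h')), if_neg h]; norm_num
  · exact dot_pv_ov a b'
  · show dotInt (ov (oct b)) ((DL v0c : LV) : GolayPt → ℤ) = 16
    rw [dot_comm, dot_v, ov_p0, ov_p1]; norm_num
  · show dotInt (ov (oct b)) (pv a'.1) = _
    rw [dot_comm]; exact dot_pv_ov a' b
  · show dotInt (ov (oct b)) (ov (oct b')) = 8 + 4 * ((b.1 ∩ b'.1).card : ℤ)
    rw [dot_ov_ov, oct_inter]
    push_cast
    ring

theorem tab_eq_32 (v w : V) (h : tab v w = 32) : v = w := by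
  rcases v with _ | a | b <;> rcases w with _ | a' | b' <;> simp only [tab] at h
  · rfl
  · norm_num at h
  · norm_num at h
  · norm_num at h
  · by_cases h' : a = a'
    · rw [h']
    · rw [if_neg h'] at h; norm_num at h
  · split_ifs at h <;> norm_num at h
  · norm_num at h
  · split_ifs at h <;> norm_num at h
  · have h6 : (b.1 ∩ b'.1).card = 6 := by
      have : ((b.1 ∩ b'.1).card : ℤ) = 6 := by linarith
      exact_mod_cast this
    have hb := steiner.1 b.1 b.2
    have hb' := steiner.1 b'.1 b'.2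
    have e1 : b.1 ∩ b'.1 = b.1 :=
      Finset.eq_of_subset_of_card_le Finset.inter_subset_left (by rw [h6, hb])
    have e2 : b.1 ∩ b'.1 = b'.1 :=
      Finset.eq_of_subset_of_card_le Finset.inter_subset_right (by rw [h6, hb'])
    have : b = b' := Subtype.ext (e1.symm.trans e2)
    rw [this]

theorem tab_eq_8 (v w : V) : tab v w = 8 ↔ (pointBlockGraph (WS A)).Adj v w := by
  rw [pointBlockGraph, SimpleGraph.fromRel_adj]
  rcases v with _ | a | b <;> rcases w with _ | a' | b' <;> simp only [tab, pointBlockRel]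
  · simp
  · simp
  · simp
  · simp
  · split_ifs <;> simp
  · split_ifs with h <;> simp [h]
  · simp
  · split_ifs with h <;> simp [h]
  · constructor
    · intro h
      have h0 : (b.1 ∩ b'.1).card = 0 := by
        have : ((b.1 ∩ b'.1).card : ℤ) = 0 := by linarith
        exact_mod_cast this
      have hd : Disjoint b.1 b'.1 := by
        rw [Finset.disjoint_iff_inter_eq_empty]
        exact Finset.card_eq_zero.1 h0
      refine ⟨?_, Or.inl hd⟩
      intro e
      have e' : b = b' := Sum.inr_injective (Option.some_injective _ e)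
      rw [e'] at hd
      have hb' := steiner.1 b'.1 b'.2
      rw [Finset.disjoint_self_iff_empty] at hd
      rw [hd] at hb'
      simp at hb'
    · rintro ⟨-, h | h⟩
      · rw [Finset.disjoint_iff_inter_eq_empty.1 h]; simp
      · rw [Finset.inter_comm, Finset.disjoint_iff_inter_eq_empty.1 h]; simp

theorem iota_injective : Function.Injective iota := by
  intro v w h
  apply tab_eq_32
  rw [← dot_iota, h, dot_iota]
  rcases w with _ | a | b
  · rfl
  · simp [tab]
  · simp only [tab, Finset.inter_self]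
    rw [steiner.1 b.1 b.2]; norm_num

theorem iota_mem (v : V) : iota v ∈ C [DL u0c, DL xhc] [24, 0] := by
  rcases v with _ | a | b
  · exact Cfsg.Agent.Lib.Helper33LHS.V_mem100
  · refine ⟨?_, ?_⟩
    · rw [← dot_self]
      have := dot_iota (some (Sum.inl a)) (some (Sum.inl a))
      simpa [tab] using this
    · simp only [dots, List.map_cons, List.map_nil]
      show [dotInt ((DL u0c : LV) : GolayPt → ℤ) (pv a.1),
        dotInt ((DL xhc : LV) : GolayPt → ℤ) (pv a.1)] = _
      rw [dot_u, dot_h, sum_pv, pv_p0, pv_p1]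
      norm_num
  · refine ⟨?_, ?_⟩
    · rw [← dot_self]
      have := dot_iota (some (Sum.inr b)) (some (Sum.inr b))
      simp only [tab, Finset.inter_self] at this
      rw [steiner.1 b.1 b.2] at this
      rw [this]; norm_num
    · simp only [dots, List.map_cons, List.map_nil]
      show [dotInt ((DL u0c : LV) : GolayPt → ℤ) (ov (oct b)),
        dotInt ((DL xhc : LV) : GolayPt → ℤ) (ov (oct b))] = _
      rw [dot_u, dot_h, sum_ov', ov_p0, ov_p1]
      norm_num

end Cfsg.Agent.Lib.Helper10HSVec
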