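import Cfsg.Agent.Lib.Helper17PCTab
import Cfsg.Agent.Lib.Helper10Sp6Gens
import Cfsg.Agent.Lib.Helper10Sp6Card

set_option autoImplicit false
set_option maxRecDepth 1000000
set_option maxHeartbeats 0

namespace Cfsg.Agent.Lib.Helper10MSp6P2

open Cfsg Cfsg.Agent.Lib.Helper63PCDefs Cfsg.Agent.Lib.Helper63PCTabDefs Cfsg.Agent.Lib.Helper10Sp6Defs Cfsg.Agent.Lib.Helper10Sp6Gens

local notation "KK" => K64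

def N2 : ℕ := 0xb65d7da61c79ba6dbeaa2cbaae3cfbbe7dffa20c38b24d3c45924155d34549a28259e3865df3c74db2c351c304418200
theorem h2 : Tabled KK 6 N2 := Cfsg.Agent.Lib.Helper17PCTab.Tabled.mul ha hb (by decide +kernel)
def N3 : ℕ := 0xa48a8bd97d54b4cb8fc93c50e19eda9c6905f1dfde8c2801a09acadd6d15b0dbcecd2c11e58e9b987944f5cf9f883840
theorem h3 : Tabled KK 6 N3 := Cfsg.Agent.Lib.Helper17PCTab.Tabled.mul h2 ha (by decide +kernel)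
def N4 : ℕ := 0xcf0db5df4cb18e09a59e48a1becaa9ae8badffceb9ef8fbd38d2c82893cc79d6d86997dc4915d45954d00811c41850c0
theorem h4 : Tabled KK 6 N4 := Cfsg.Agent.Lib.Helper17PCTab.Tabled.mul h3 hb (by decide +kernel)
def N5 : ℕ := 0x69fdf228f9e2efe593aee1836dedb32ce9a3ebf5d2aaf1c261dd7020d960e7c511a6c10165cd3124c921e3d550a2d140
theorem h5 : Tabled KK 6 N5 := Cfsg.Agent.Lib.Helper17PCTab.Tabled.mul h4 hb (by decide +kernel)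
def N6 : ℕ := 0xa442a7225ac6a872642e6a05539ddad585bb5fad19d9b57847cc9fc1d4fe4bfc5ccde43db013e2360b83bc23213a3b40
theorem h6 : Tabled KK 6 N6 := Cfsg.Agent.Lib.Helper17PCTab.Tabled.mul h5 hb (by decide +kernel)
def N7 : ℕ := 0xcd022bc132e8d9536ed563adc522a9c9126ad173ecdd432f73f9c47fc90767a8816b98427bd94677e9856f880363b8c0
theorem h7 : Tabled KK 6 N7 := Cfsg.Agent.Lib.Helper17PCTab.Tabled.mul h6 hb (by decide +kernel)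
def N8 : ℕ := 0x6a1c0b7e4d4edcc766c896238992339dc3763f495e2b181b07aad013fb95b171bda520f8e424e8f075ad52ff8546aec0
theorem h8 : Tabled KK 6 N8 := Cfsg.Agent.Lib.Helper17PCTab.Tabled.mul h7 hb (by decide +kernel)
def N9 : ℕ := 0xa437f512ec982a0f169cd47b1acc1aac177794f4f9222f94f572e143a98c7b4a02cd916f4b890efd5263c5b1ed736a80
theorem h9 : Tabled KK 6 N9 := Cfsg.Agent.Lib.Helper17PCTab.Tabled.mul h8 hb (by decide +kernel)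
def N10 : ℕ := 0xd6a50b217a76607e6697a11b83f05e742f23352b33c2f44eee46851999f8589de8af4295bb13d04cccad0dc8bdfa17c0
theorem h10 : Tabled KK 6 N10 := Cfsg.Agent.Lib.Helper17PCTab.Tabled.mul hb h9 (by decide +kernel)
def N11 : ℕ := 0xd7ac7edf8cfcef4ff0e76f7249d59941f51b71361779169582f92b8ad9a9ba1aa5b23a271c80cc14a04e2463422c43c0
theorem h11 : Tabled KK 6 N11 := Cfsg.Agent.Lib.Helper17PCTab.Tabled.mul ha ha (by decide +kernel)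
def N12 : ℕ := 0xdcfe41fc7c49d4dec3f45ccb5ef6617e746956d6e37654eb7244aa52c6a27a64285ae620f04c8ad0ce82f86c08d8ee00
theorem h12 : Tabled KK 6 N12 := Cfsg.Agent.Lib.Helper17PCTab.Tabled.mul h11 ha (by decide +kernel)
def N13 : ℕ := 0x598ff151af73753d3a7d1db841ee7749cef56d5cbc657c3ea2604faa40cd8ed28486f206ba01c9b2214b96b3029e9380
theorem h13 : Tabled KK 6 N13 := Cfsg.Agent.Lib.Helper17PCTab.Tabled.mul h12 hb (by decide +kernel)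
def N14 : ℕ := 0x84853da837f6670b054bb9ce2a3fd6068d1dc9b1eee5032512dc583e6e93f15260dde0abbc66b390d4785fe88b735a40
theorem h14 : Tabled KK 6 N14 := Cfsg.Agent.Lib.Helper17PCTab.Tabled.mul h13 hb (by decide +kernel)
def N15 : ℕ := 0xdc2a9f3fa4a7e4c91107472927c521c44b191f26affca897815f4862d170b9bcc65a32fe7ab0f6993ece425378a1dd40
theorem h15 : Tabled KK 6 N15 := Cfsg.Agent.Lib.Helper17PCTab.Tabled.mul h14 hb (by decide +kernel)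
def N16 : ℕ := 0x58b3d260505cfe29bbc6ca35ceeab7f609396870de50935019b7c221544cbf2dab87ce258feea7b70d292974ce119740
theorem h16 : Tabled KK 6 N16 := Cfsg.Agent.Lib.Helper17PCTab.Tabled.mul h15 hb (by decide +kernel)
def N17 : ℕ := 0x878601211c6850db74f6411ddaf3d67c69bf0daea3ab34caaf248b09bee27879fedee397f2515c54cb35250c29839640
theorem h17 : Tabled KK 6 N17 := Cfsg.Agent.Lib.Helper17PCTab.Tabled.mul h16 hb (by decide +kernel)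
def N18 : ℕ := 0xa14ccf6650be4ef23489ee45b92d497e31385693b2918fc3ad7c0c6a607d42c2f785de86b51d8a7201fb5aa3719dbf00
theorem h18 : Tabled KK 6 N18 := Cfsg.Agent.Lib.Helper17PCTab.Tabled.inv h17 (by decide +kernel)
def N19 : ℕ := 0x223ddced012ff560a93a5c5a0e8f17c1b3e4d9d26216ee9167298da8157eb074f87f480b4b9b4684a7b59cc63353fac0
theorem h19 : Tabled KK 6 N19 := Cfsg.Agent.Lib.Helper17PCTab.Tabled.mul h18 h10 (by decide +kernel)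
def N20 : ℕ := 0xaa9491b2f51786265a9e47dcbad595a2b41396675e8e06d8cb1289d3730fe7a042ffc1c4db538dc3320bf7e146ef80c0
theorem h20 : Tabled KK 6 N20 := Cfsg.Agent.Lib.Helper17PCTab.Tabled.mul h14 ha (by decide +kernel)
def N21 : ℕ := 0xfc7b14d0c9df8dbc08a10ec30794aa2b26617653b65ae17d0ba4692716a27a637556d1bef04bd7dcf91c818ccbad3e00
theorem h21 : Tabled KK 6 N21 := Cfsg.Agent.Lib.Helper17PCTab.Tabled.mul h20 hb (by decide +kernel)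
def N22 : ℕ := 0x546d2725aa3b585de4299af835eb3f442c2339dbfc481ce0d66507a7a21bda55c4ab92d8b7e31fc62403bbd3dcca14c0
theorem h22 : Tabled KK 6 N22 := Cfsg.Agent.Lib.Helper17PCTab.Tabled.mul h21 hb (by decide +kernel)
def N23 : ℕ := 0xa8b268a482ab4b3c50470c935f6d15535dd6bce32db0d3ee1259c61e6905f1d7fefde73de586bbe9b6780608830a3840
theorem h23 : Tabled KK 6 N23 := Cfsg.Agent.Lib.Helper17PCTab.Tabled.mul h22 hb (by decide +kernel)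
def N24 : ℕ := 0x7dacb7d7061dbab0c6101a6c92124c38b8e6550e3dffa49720d9608a73cae7c5114d6fbbcf679b65cd31087beaa2d140
theorem h24 : Tabled KK 6 N24 := Cfsg.Agent.Lib.Helper17PCTab.Tabled.mul hb h23 (by decide +kernel)
def N25 : ℕ := 0xa34f20b30e24a75f61b71e65af7fe3bf3ee7ab6fa2bb2ea63926862967823d36c72d77c3351645255741310604214700
theorem h25 : Tabled KK 6 N25 := Cfsg.Agent.Lib.Helper17PCTab.Tabled.inv h2 (by decide +kernel)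
def N26 : ℕ := 0x396c69f6509adef21011cee38ba745449bb66c393ca305cf059fa6caa355e201df2d3d2cb7548a78687950caf39ff600
theorem h26 : Tabled KK 6 N26 := Cfsg.Agent.Lib.Helper17PCTab.Tabled.mul h25 h24 (by decide +kernel)
def N27 : ℕ := 0x58ea7154dab2b344cbbf7408292d6d251daec283d7ceb31409af65059fa6e201dfee311c7868797458ba93c6c39ff600
theorem h27 : Tabled KK 6 N27 := Cfsg.Agent.Lib.Helper17PCTab.Tabled.mul h2 hb (by decide +kernel)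
def N28 : ℕ := 0xec456a07ebd0ccc7622769d81f8a56f424ec3f085ed4a6e47e0c4e95a2f45e8e46b520fc8dc372666dc8ad417a46efc0
theorem h28 : Tabled KK 6 N28 := Cfsg.Agent.Lib.Helper17PCTab.Tabled.mul h27 hb (by decide +kernel)
def N29 : ℕ := 0x7f27776356bec5ccd9d9bd17a05a80bc2b491ab12e06c0e3f11f94ed6e5d4bf43a5785f42e62633213aa9489cd88f80
theorem h29 : Tabled KK 6 N29 := Cfsg.Agent.Lib.Helper17PCTab.Tabled.mul h28 ha (by decide +kernel)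
def N30 : ℕ := 0xa617554db9efe3030408adbef752411cfcfbb2461059e8aa0cbdffe7134549a9aea207145df8ebb6565118ecbaf34200
theorem h30 : Tabled KK 6 N30 := Cfsg.Agent.Lib.Helper17PCTab.Tabled.mul h29 hb (by decide +kernel)
def N31 : ℕ := 0xa1c4e7e4d0b65a2b591f3f08992769dc333862c8d727dc86b9a561fcb130424adf075e8e8146efc452be7aa9513fbd00
theorem h31 : Tabled KK 6 N31 := Cfsg.Agent.Lib.Helper17PCTab.Tabled.mul h30 hb (by decide +kernel)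
def N32 : ℕ := 0x7ae42fc41fc272c4adcc3f4ad04e856eb568d86e076695e7e49dc85a6625ecbd4a5246ad4e3762f0cc8f4617e0f8ec0
theorem h32 : Tabled KK 6 N32 := Cfsg.Agent.Lib.Helper17PCTab.Tabled.mul h31 hb (by decide +kernel)
def N33 : ℕ := 0xa51fc7859dcf7652f356d0fbbd7e419dfc496e33754eb17d52c0ba7242b2818d8ea10f864aa13c6a233499ec08b96e00
theorem h33 : Tabled KK 6 N33 := Cfsg.Agent.Lib.Helper17PCTab.Tabled.mul h32 hb (by decide +kernel)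
def N34 : ℕ := 0x8a5efc9a1ff8be8db1aeccb5923f7a827e7ea6ec37b6ad3345620f55230b71b14261f0465d03894d428d69d0c47991c0
theorem h34 : Tabled KK 6 N34 := Cfsg.Agent.Lib.Helper17PCTab.Tabled.mul ha h33 (by decide +kernel)
def N35 : ℕ := 0x6c2af22d2ee24ca8fa0dacea3d6fe67c6bf61dedee5ce9fe97c54cd6c15cb74744f64354c68058878448e60250a70640
theorem h35 : Tabled KK 6 N35 := Cfsg.Agent.Lib.Helper17PCTab.Tabled.mul hb ha (by decide +kernel)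
def N36 : ℕ := 0xf4d2fbd450f35e78517efa5976dadb5658d3dc7071fcf279134c8233ce8ab9e6289964209144a2b1c6aa3bee081b6c00
theorem h36 : Tabled KK 6 N36 := Cfsg.Agent.Lib.Helper17PCTab.Tabled.mul h35 hb (by decide +kernel)
def N37 : ℕ := 0xd707da8642cef785d2a6c0c6c746de9603cae7c4d6b681c2df27588e624cffa550aee044cf665c9e2348efe454bea140
theorem h37 : Tabled KK 6 N37 := Cfsg.Agent.Lib.Helper17PCTab.Tabled.mul h36 ha (by decide +kernel)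
def N38 : ℕ := 0xac184b8c9a43b479cd94fbc557f7f57775fd4f96736f147b43a6b06324b85bc7367b453eb8490e98cb06a0288880aa80
theorem h38 : Tabled KK 6 N38 := Cfsg.Agent.Lib.Helper17PCTab.Tabled.mul h37 hb (by decide +kernel)
def N39 : ℕ := 0x8ea96c9ee868ae2b64be6a60cfad7cdfec78ef2f74ff6e704da55c5de4586d27547d66500ca14c1ce0482c23443c6240
theorem h39 : Tabled KK 6 N39 := Cfsg.Agent.Lib.Helper17PCTab.Tabled.mul h38 ha (by decide +kernel)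
def N40 : ℕ := 0x9c9bc1b4394b8cdac5a4784fd1af12f90d98c1ee16e94c9ced5cddc5fe57fd1dd9d5bf53a0680e88ca84b0290a988b80
theorem h40 : Tabled KK 6 N40 := Cfsg.Agent.Lib.Helper17PCTab.Tabled.mul h39 ha (by decide +kernel)
def N41 : ℕ := 0xd7db65c79a61eb28aafb69aedffbe7cfbae3e30828f3492c65104975514d59e38649a2826d30cb7d71cf51c304418200
theorem h41 : Tabled KK 6 N41 := Cfsg.Agent.Lib.Helper17PCTab.Tabled.mul h40 hb (by decide +kernel)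
def N42 : ℕ := 0xc48f8789bb54d4ce8399fa50a119deec2d0db158dafc6c09e01dcead291df05ccabd6819858b97c8bf4495ca93d8fe40
theorem h42 : Tabled KK 6 N42 := Cfsg.Agent.Lib.Helper17PCTab.Tabled.mul h41 ha (by decide +kernel)
def N43 : ℕ := 0xbe08adae49a9ff0cbdef4db9cfcfb1df8eb58ecba19e8aa52851c83810cc6955d87914dc5996d449d7d01892c408d3c0
theorem h43 : Tabled KK 6 N43 := Cfsg.Agent.Lib.Helper17PCTab.Tabled.mul h42 hb (by decide +kernel)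
def N44 : ℕ := 0xdedd2ece9c2aaf1a32bf5b36fe5f26ee1e228f983a9fd93e25329035739454f58c44b48805b09815f19c747784643680
theorem h44 : Tabled KK 6 N44 := Cfsg.Agent.Lib.Helper17PCTab.Tabled.inv h43 (by decide +kernel)
def N45 : ℕ := 0xf60ceee64deafe2c6cee6d68ea7d29fa3c2de25dabf21caf48f70158b60540d7835096875486c644c7c25ca6444ce740
theorem h45 : Tabled KK 6 N45 := Cfsg.Agent.Lib.Helper17PCTab.Tabled.mul h44 h34 (by decide +kernel)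
def N46 : ℕ := 0xe47c4fdc9fc1f43d4bccdec5b9099881ea16a9489c91ab12ad58dd95bb53bd19d985fa57f02d0ac8ce84e06c0ed88f80
theorem h46 : Tabled KK 6 N46 := Cfsg.Agent.Lib.Helper17PCTab.Tabled.mul h19 h26 (by decide +kernel)
def N47 : ℕ := 0x124f5ddd73aec512280a2edbd963ef165f1c0e3e9ac10269b4d5347be9c7638841acb4b27ff986b0c575a8a4f3679800
theorem h47 : Tabled KK 6 N47 := Cfsg.Agent.Lib.Helper17PCTab.Tabled.mul h46 h19 (by decide +kernel)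
def N48 : ℕ := 0xd70c74df2cf6f78e7cffaefe65c7586de7da4545504d65d29e28e6960864beaaeeb68a6c2ce3ca24c3480c61c2044140
theorem h48 : Tabled KK 6 N48 := Cfsg.Agent.Lib.Helper17PCTab.Tabled.mul h47 h19 (by decide +kernel)
def N49 : ℕ := 0x213f66dec099c6a11f395ee005ad2ffa52d0e233561dcca987a50f785af0603b769fc489a337465cc8b944a93fbb56c0
theorem h49 : Tabled KK 6 N49 := Cfsg.Agent.Lib.Helper17PCTab.Tabled.mul h48 h19 (by decide +kernel)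
def N50 : ℕ := 0xcc3ecbf4dd45c41e49fcfdc772c5244a26aa7ae5a64206286eb4e356576d6694615e77efd04f0ce8ac82d86f8ee08c00
theorem h50 : Tabled KK 6 N50 := Cfsg.Agent.Lib.Helper17PCTab.Tabled.mul h49 h26 (by decide +kernel)
def N51 : ℕ := 0xee8fecd66c62ce0de4f6ee6a35e25a0d01d41560522d83dc9f48f0a7ab7ebfcaf88729764425467cc6c864a74e5c44c0
theorem h51 : Tabled KK 6 N51 := Cfsg.Agent.Lib.Helper17PCTab.Tabled.mul h50 h45 (by decide +kernel)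
def N52 : ℕ := 0xbce47fc113accd2363b0d4b6268dd95b7a0a574ac52abd14eda16b9056b89c6677e191a277c8cd0a3f1e060fd17bf80
theorem h52 : Tabled KK 6 N52 := Cfsg.Agent.Lib.Helper17PCTab.Tabled.mul h51 h26 (by decide +kernel)
def N53 : ℕ := 0xc54cd6fdaf58e5cededd2d501601e22ee26c3683ea0e60645705f26fe67c7787fa4f64748448c6bcab48a4cace9c2940
theorem h53 : Tabled KK 6 N53 := Cfsg.Agent.Lib.Helper17PCTab.Tabled.mul h52 h19 (by decide +kernel)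
def N54 : ℕ := 0xe68de6f6cce2c60feed64eea9f6a788f2b7cbfe870afa97435c0d22581d61542da0503de4c274c5c66486ca5447ce440
theorem h54 : Tabled KK 6 N54 := Cfsg.Agent.Lib.Helper17PCTab.Tabled.mul h26 h19 (by decide +kernel)
def N55 : ℕ := 0xdf4d76cf0c72e7aef8f7effcb2fbada2baa98a18239a592741349151759579d71f69961b2c824a3cc34e1461c40420c0
theorem h55 : Tabled KK 6 N55 := Cfsg.Agent.Lib.Helper17PCTab.Tabled.mul h54 h45 (by decide +kernel)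
def N56 : ℕ := 0x3a6e51cdb12cd5d0aa220fd7069d9ef142e3e923651efc185be849ac3734b456b24389cf671b8690c4fb88a57d7f7a00
theorem h56 : Tabled KK 6 N56 := Cfsg.Agent.Lib.Helper17PCTab.Tabled.mul h55 h19 (by decide +kernel)
def N57 : ℕ := 0xec7d49ccff41e45dcbc4dfc37e346d5eb6657614ef5696e77204ae5286a67a242c5aa624e04d8ac0cf82e86d08c8ef00
theorem h57 : Tabled KK 6 N57 := Cfsg.Agent.Lib.Helper17PCTab.Tabled.mul h56 h19 (by decide +kernel)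
def N58 : ℕ := 0xd67c63f6fe6bee9fedce1de53dd2d91d50d105315725b35fab8bbc8b09b4936832b3ea3a40250660a70e78c688584480
theorem h58 : Tabled KK 6 N58 := Cfsg.Agent.Lib.Helper17PCTab.Tabled.mul h57 h45 (by decide +kernel)
def N59 : ℕ := 0xbcfc1e4713accd3b0236d4b4edb90a1656b89c7e166791a62695b8dd7a0a5752a4acbd1277d0ac8c3f1e0617b0fdf80
theorem h59 : Tabled KK 6 N59 := Cfsg.Agent.Lib.Helper17PCTab.Tabled.mul h45 h19 (by decide +kernel)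
def N60 : ℕ := 0xdd7d55fdff5dcd3c51edbe599c7945bcfb4d8c3841acba49f9ef1cd96d14e9ae18c92c10b8eb0c986904a8aa08882800
theorem h60 : Tabled KK 6 N60 := Cfsg.Agent.Lib.Helper17PCTab.Tabled.mul h59 h26 (by decide +kernel)
def N61 : ℕ := 0xd49ec7f41ccfdcbe45fc3c4d7e346d5eb6657614ef5696e74ae7206a652842c7a26245aae04d8ac0cf82e86d08c8ef00
theorem h61 : Tabled KK 6 N61 := Cfsg.Agent.Lib.Helper17PCTab.Tabled.mul h60 h45 (by decide +kernel)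
def N62 : ℕ := 0x95de0f6a21feec399113c66ca51d035ae2f2dcfa9d23056503876afc789b7a60f4859f09334466ccbb974aa3f8b55c0
theorem h62 : Tabled KK 6 N62 := Cfsg.Agent.Lib.Helper17PCTab.Tabled.mul h61 h19 (by decide +kernel)
def N63 : ℕ := 0xcfac78dfed7cef2e70ff6f748ea8689ee96cae2a60be6b645de55c4da4587d67546d26501ce14c0ca0483c63442c2240
theorem h63 : Tabled KK 6 N63 := Cfsg.Agent.Lib.Helper17PCTab.Tabled.mul h62 h26 (by decide +kernel)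
def N64 : ℕ := 0xd45f4decbcc3dc7fcfe49c4152472c6aa4a25a67ae62842056576d6eb4e35e77ef669461d04f0ce8ac82d86f8ee08c00
theorem h64 : Tabled KK 6 N64 := Cfsg.Agent.Lib.Helper17PCTab.Tabled.mul h19 h19 (by decide +kernel)
def N65 : ℕ := 0xf60e64ceedead68c6cee6fe22d63d215805c0de1da350254a74b709fa8fe87c978bf2af67c26c644c5485ca4ce644740
theorem h65 : Tabled KK 6 N65 := Cfsg.Agent.Lib.Helper17PCTab.Tabled.mul h64 h45 (by decide +kernel)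
def N66 : ℕ := 0xbcfc1e4713ad4b2363b0ccd42eb53ad55a89d96a472285f76381e9986e5a945e946fb123f1c8cd0a277e0617b0fdf80
theorem h66 : Tabled KK 6 N66 := Cfsg.Agent.Lib.Helper17PCTab.Tabled.mul h65 h26 (by decide +kernel)
def N67 : ℕ := 0xc54cd6fdaf58d50dd2edee5c887805b09b8b983901a0da8ff9bf19c15c97e9fe1dd11d93b48bca8c6844a4cace9c2940
theorem h67 : Tabled KK 6 N67 := Cfsg.Agent.Lib.Helper17PCTab.Tabled.mul h66 h26 (by decide +kernel)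
def N68 : ℕ := 0xccfec7f41d49c4de45fc3dcb6a64ae52872062442c5aa7a246d6657e35eb4ef6e7761569e04c0cd8af82e86c8ed08f00
theorem h68 : Tabled KK 6 N68 := Cfsg.Agent.Lib.Helper17PCTab.Tabled.mul h67 h45 (by decide +kernel)
def N69 : ℕ := 0x3aaedfc55120f5922c0a6dd35b28c7a4d7389414346bebcb161c14e9e3ebd920e726df18779a0c8865f3b8a6ff475900
theorem h69 : Tabled KK 6 N69 := Cfsg.Agent.Lib.Helper17PCTab.Tabled.mul h48 h26 (by decide +kernel)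
def N70 : ℕ := 0xcdaf54c58fd6ed2d5ce50dde4787f64fa7746705fe6f257c3e60683640ea1ee26016c2e2b448cabc684894cac29cea40
theorem h70 : Tabled KK 6 N70 := Cfsg.Agent.Lib.Helper17PCTab.Tabled.mul h69 h19 (by decide +kernel)
def N71 : ℕ := 0x21bee8c62091f6e39d117de49f450778db7e481872af860b0d0c23ea925ada51563dcf2fb3f7cc5469b564aab98334c0
theorem h71 : Tabled KK 6 N71 := Cfsg.Agent.Lib.Helper17PCTab.Tabled.mul h70 h19 (by decide +kernel)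
def N72 : ℕ := 0xfe5dedee1ce9f67d6fe63c6be22c2af26d2eea0ca8fa4dac4c96c15cd7c544b64354f74750e70640a60258c784488680
theorem h72 : Tabled KK 6 N72 := Cfsg.Agent.Lib.Helper17PCTab.Tabled.mul h71 h26 (by decide +kernel)
def N73 : ℕ := 0x20dd70cf638bffa087101e7c86471969f9e2593aeeb684157588259a36deaaf5d2454b29d3124c3cacb70c6fbbe3d140
theorem h73 : Tabled KK 6 N73 := Cfsg.Agent.Lib.Helper17PCTab.Tabled.mul h45 h26 (by decide +kernel)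
def N74 : ℕ := 0xdedfe5ce9ee1d6ff67c6be63e22c2af26d2eea0ca8fa4dac6c14c97c55cd64344b74754f50e70640a60258c784488680
theorem h74 : Tabled KK 6 N74 := Cfsg.Agent.Lib.Helper17PCTab.Tabled.mul h73 h19 (by decide +kernel)
def N75 : ℕ := 0xfecc62ee8d66de4e6ace0f6ea7a9f4b7e8f0872bfc976af81d425a0d035e3dc0522d81564427cc5466c864a5c474e4c0
theorem h75 : Tabled KK 6 N75 := Cfsg.Agent.Lib.Helper17PCTab.Tabled.mul h74 h45 (by decide +kernel)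
def N76 : ℕ := 0x9cf63c6f390de921611aee5da825715bea40ddf22c2e3d14cdb3283e7c19b864754bab49f960650aaf548cb7387f780
theorem h76 : Tabled KK 6 N76 := Cfsg.Agent.Lib.Helper17PCTab.Tabled.mul h75 h26 (by decide +kernel)
def N77 : ℕ := 0xd70df2c74cf6f78ffae7cefe8648e69609e2a6caeeb68bea7da7586de65c5d25504d64542ce24c3ca3480c60441c2140
theorem h77 : Tabled KK 6 N77 := Cfsg.Agent.Lib.Helper17PCTab.Tabled.mul h76 h19 (by decide +kernel)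
def N78 : ℕ := 0x22df58c54121dd20a73abede1e2c97f9b2eee1d368064d1167cb098055709834f67faa8f5b38c6bca6bfa4c739435940
theorem h78 : Tabled KK 6 N78 := Cfsg.Agent.Lib.Helper17PCTab.Tabled.mul h77 h19 (by decide +kernel)
def N79 : ℕ := 0xfc1dc9c4fe47f43d4bccdec542e6267a05a84ac6a472252a56b7636e54ed5e97e166746fe84c8cd0af02e06c0ed88f80
theorem h79 : Tabled KK 6 N79 := Cfsg.Agent.Lib.Helper17PCTab.Tabled.mul h78 h19 (by decide +kernel)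
def N80 : ℕ := 0xc52cd0fdcf5ee5aed8dd4d5626a2e81e41660620e03ec36e7fc77e4724f05f457667a6f89c4946a4aac8bccb4e8428c0
theorem h80 : Tabled KK 6 N80 := Cfsg.Agent.Lib.Helper17PCTab.Tabled.mul h46 h45 (by decide +kernel)
def N81 : ℕ := 0x20fe7eff8389cf4085103d728664175919e069daecb6a71b4d48a5923552a2f65e7d8ba9ebd2cc34af3b046c37db11c0
theorem h81 : Tabled KK 6 N81 := Cfsg.Agent.Lib.Helper17PCTab.Tabled.mul h80 h19 (by decide +kernel)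
def N82 : ℕ := 0xf6fd67e6bc63ce1ee9de5fedab88b0bbc9b4936b3e832a3a1d53dd0d12d925b05335f15740260a50670e78c584688480
theorem h82 : Tabled KK 6 N82 := Cfsg.Agent.Lib.Helper17PCTab.Tabled.mul h81 h26 (by decide +kernel)
def N83 : ℕ := 0xd7adf8c7ecfcf72ff0e76ef4ae4a66be0b628ec86e9e896a7d07526d46565d855a4dc45e04e0cc14a1c82462c43423c0
theorem h83 : Tabled KK 6 N83 := Cfsg.Agent.Lib.Helper17PCTab.Tabled.mul h82 h45 (by decide +kernel)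
def N84 : ℕ := 0xd551243aefdf228e59cd30a2d961e736df1c2ebe9ac10061534945bcf7bea496384b28c35f7986b0c77da8a6fb471800
theorem h84 : Tabled KK 6 N84 := Cfsg.Agent.Lib.Helper17PCTab.Tabled.mul h73 h45 (by decide +kernel)
def N85 : ℕ := 0xdc90bc13ac4f236f43ec53b042e95b8dd5a8bd16a4722a5781e56b4ed9987e1a94b126671f9c8cd0a07fe063732f5f80
theorem h85 : Tabled KK 6 N85 := Cfsg.Agent.Lib.Helper17PCTab.Tabled.mul h84 h26 (by decide +kernel)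
def N86 : ℕ := 0x97eeec6421dde239b111f68eaf0d625cc253dada3f29150487afe87460d9f278b501b78abf4c664c8357ca9b3b39540
theorem h86 : Tabled KK 6 N86 := Cfsg.Agent.Lib.Helper17PCTab.Tabled.mul h85 h45 (by decide +kernel)
def N87 : ℕ := 0xff2f70ef6e74dfad78cfec7ca64ae6b60be286c8ee9689ea5585da45c4de7507d26546d60ce04c1ca1482c62443c2340
theorem h87 : Tabled KK 6 N87 := Cfsg.Agent.Lib.Helper17PCTab.Tabled.mul h86 h26 (by decide +kernel)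
def N88 : ℕ := 0x396f65c6909aee321011cdef9be54d641ab24cb838b347c7251ea2dae15df243d70dbc2887948a786b7550c9ffaf3600
theorem h88 : Tabled KK 6 N88 := Cfsg.Agent.Lib.Helper17PCTab.Tabled.mul h63 h26 (by decide +kernel)
def N89 : ℕ := 0xd6cee2c68fe6f64ceae60deeaf297cbf68788fab749fea7015c2d20583d63540da2501de6c254c7c64484ca7445ce640
theorem h89 : Tabled KK 6 N89 := Cfsg.Agent.Lib.Helper17PCTab.Tabled.mul h88 h19 (by decide +kernel)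
def N90 : ℕ := 0x94de1eed398f6b21e112c67fa82dd1d1ca4057d22e2e35b64fb3a8365439b04c57c9abc97340670aa7f68cbf98f5580
theorem h90 : Tabled KK 6 N90 := Cfsg.Agent.Lib.Helper17PCTab.Tabled.mul h89 h26 (by decide +kernel)
def N91 : ℕ := 0xff8f7aefce7edf0d72cf4c768e48669e0962aeca6ebe8b6a5525d04564d475a7d865e6dc24e2cc34a3c80460c41421c0
theorem h91 : Tabled KK 6 N91 := Cfsg.Agent.Lib.Helper17PCTab.Tabled.mul h90 h19 (by decide +kernel)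
def N92 : ℕ := 0x558be24dea6459bb2141daa75dab6045cae6519ba349fa25c3d287dbb301cfe244d783c2cbf205d39383c7c2c6dfa340
theorem h92 : Tabled KK 6 N92 := Cfsg.Agent.Lib.Helper17PCTab.Tabled.mul h27 ha (by decide +kernel)
def N93 : ℕ := 0xd4f4e9d8c42a4a8d0e46bdcd273bd52b0b16b94232b572f113e8981fd85b8d917f81a1bce027a4ec17677e5e43726e80
theorem h93 : Tabled KK 6 N93 := Cfsg.Agent.Lib.Helper17PCTab.Tabled.mul h92 hb (by decide +kernel)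
def N94 : ℕ := 0xdba45dd384dfd7949edfb41ccbe559c3c5dbc7d59acff518ba2245b202c7b61286be3204aa6341a243c3a65382ae7300
theorem h94 : Tabled KK 6 N94 := Cfsg.Agent.Lib.Helper17PCTab.Tabled.mul h93 ha (by decide +kernel)
def N95 : ℕ := 0xd0cdcf4aa469d8ed4d4284eb6a2661f04fc76206e3f86f45c49c8a5ef52cccbc0856d5ae7e7724e41e827657a6ec3e00
theorem h95 : Tabled KK 6 N95 := Cfsg.Agent.Lib.Helper17PCTab.Tabled.mul h94 ha (by decide +kernel)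
def N96 : ℕ := 0x5564915d4413fbde7af3fef8c33df4cb1d766d871f65a79d20b3cc28934e8e09278629a5b6eaa9beca2b1850421070c0
theorem h96 : Tabled KK 6 N96 := Cfsg.Agent.Lib.Helper17PCTab.Tabled.mul h95 hb (by decide +kernel)
def N97 : ℕ := 0x8665d028df3b65ebe8cb51039234953c8e7e71baaddf00469e045630bebd7d8a6ed330858a551324eff869db2bc761c0
theorem h97 : Tabled KK 6 N97 := Cfsg.Agent.Lib.Helper17PCTab.Tabled.mul h96 hb (by decide +kernel)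
def N98 : ℕ := 0x16790663ae5bd16577a4b22a3edb8c4b0cd1f9c7fd8c10a0947126e1a67b536d5726ba0abcd3acc904f17bcfdd0e1880
theorem h98 : Tabled KK 6 N98 := Cfsg.Agent.Lib.Helper17PCTab.Tabled.mul hb h97 (by decide +kernel)
def N99 : ℕ := 0xb28df38a6e7d79a1414142cfaaec75920ffb61c0c7592349961fbaaefc345d330865d0868e7e3cb69db245528e7db100
theorem h99 : Tabled KK 6 N99 := Cfsg.Agent.Lib.Helper17PCTab.Tabled.mul h11 hb (by decide +kernel)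
def N100 : ℕ := 0x884436163dd1b0a7b82ede5f1e1d538064b426feddb8873a63ea8cfd936b5b0902c570e5f5b3e96bca0ecd5067532980
theorem h100 : Tabled KK 6 N100 := Cfsg.Agent.Lib.Helper17PCTab.Tabled.mul h99 ha (by decide +kernel)
def N101 : ℕ := 0x1662e87bd433881b0fe5add477e4f01a522be99d17842bcc26a1e44b173fb8d803d56ed84727fc2a9127d95e1bb4e8c0
theorem h101 : Tabled KK 6 N101 := Cfsg.Agent.Lib.Helper17PCTab.Tabled.mul h100 ha (by decide +kernel)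
def N102 : ℕ := 0xd7b79049ce7786f284188b6382e2c51c9b22d3a7d14dde360cda2692a3c15d9f32c3e6d5598f73c7f69408ca6796b380
theorem h102 : Tabled KK 6 N102 := Cfsg.Agent.Lib.Helper17PCTab.Tabled.mul h101 hb (by decide +kernel)
def N103 : ℕ := 0x48e19a296782d6987db71e6544d159255741daa8bebb2ea6d2883cb30e244cf1db2d77c3deb8ffbf3ee740c118214700
theorem h103 : Tabled KK 6 N103 := Cfsg.Agent.Lib.Helper17PCTab.Tabled.mul h102 ha (by decide +kernel)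
def N104 : ℕ := 0x29cb7b877190484d63e6f788fa864f543ca49b005735babcda044774beacbb825f1538b4094973a7f39868cf6bc67580
theorem h104 : Tabled KK 6 N104 := Cfsg.Agent.Lib.Helper17PCTab.Tabled.mul h103 ha (by decide +kernel)
def N105 : ℕ := 0x16284677ae5e36aa4e572c5626eb4a476d5206694267ef5a7f8edc1e08c45f0cd43e8acc4f4dd02ecbc86fcfd80e49c0
theorem h105 : Tabled KK 6 N105 := Cfsg.Agent.Lib.Helper17PCTab.Tabled.mul h104 hb (by decide +kernel)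
def N106 : ℕ := 0x76756fa5385b17f377c4be430b82b0d8cf846a04a8b9499c07b273d4ff4766346bb5795f7a45aca908981bc3b4c88e80
theorem h106 : Tabled KK 6 N106 := Cfsg.Agent.Lib.Helper17PCTab.Tabled.mul h105 ha (by decide +kernel)
def N107 : ℕ := 0xda9646781c6ed2b6c4703cecf234cc50bee4fa144e589e6640ffe0e275c848df62ea554a685d6acad742607de8c2f7c0
theorem h107 : Tabled KK 6 N107 := Cfsg.Agent.Lib.Helper17PCTab.Tabled.inv h106 (by decide +kernel)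
def N108 : ℕ := 0xdfe387201c7810df74ef208b6938ea96c715a6041959fbe6458a21ba75de8ab6d275492df3514c0caeb33c6dbfc39240
theorem h108 : Tabled KK 6 N108 := Cfsg.Agent.Lib.Helper17PCTab.Tabled.mul h107 h98 (by decide +kernel)
def N109 : ℕ := 0x2d90d18f1af96c94c1ce1ee9bbc9b419439cfacda458478c1d53ddbfd9f55c57cdfedde58b0ab8298090ca0ea8688480
theorem h109 : Tabled KK 6 N109 := Cfsg.Agent.Lib.Helper17PCTab.Tabled.mul h35 ha (by decide +kernel)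
def N110 : ℕ := 0xff78ebbe7cfb59e28218e6927d70cb3c74dbdbeaa29aeeb234545975504992ce30d3ca20b65c79f7586910c61051c200
theorem h110 : Tabled KK 6 N110 := Cfsg.Agent.Lib.Helper17PCTab.Tabled.mul h109 hb (by decide +kernel)
def N111 : ℕ := 0xd28bf374119a9baf613d3508e248ff44d296ab6c6d0df604c2caf764509e8bee652d740cf209fb549392bb2d691db700
theorem h111 : Tabled KK 6 N111 := Cfsg.Agent.Lib.Helper17PCTab.Tabled.mul h110 hb (by decide +kernel)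
def N112 : ℕ := 0x2d07466423d40d854e44a1dce62bf4af0f66c6a9fc8f8d6e97ece8dec87ab76ee0fe4a725cc05a15e4c87c42523566c0
theorem h112 : Tabled KK 6 N112 := Cfsg.Agent.Lib.Helper17PCTab.Tabled.mul h111 hb (by decide +kernel)
def N113 : ℕ := 0xd9fbc6848e11c9bac294cf15f5490da83cdae50809b87ddea01c58fd698fb05d5ced288b8cae93d1db449cef97c19a40
theorem h113 : Tabled KK 6 N113 := Cfsg.Agent.Lib.Helper17PCTab.Tabled.mul ha h112 (by decide +kernel)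
def N114 : ℕ := 0xbc81a12ad8c4fd85b16bdcd48852ec1e0b89c956fc5f0f99d917f84f4e9d9813e80e4a8dedc4b57b9dd0acc0a53a99c0
theorem h114 : Tabled KK 6 N114 := Cfsg.Agent.Lib.Helper17PCTab.Tabled.mul h110 ha (by decide +kernel)
def N115 : ℕ := 0xea2a34fa6b35fe7b71ee3a73e61af7f65bf6f24bb2e20aba01848e11c58f15d5cb0594c90db44d1df54c19e50809a40
theorem h115 : Tabled KK 6 N115 := Cfsg.Agent.Lib.Helper17PCTab.Tabled.mul h114 hb (by decide +kernel)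
def N116 : ℕ := 0xa3625793a15bd2a54be26647b3235383e05fc2e44ff22743af52949f9198de9588ee5684bf13908fd09cced48cfe1780
theorem h116 : Tabled KK 6 N116 := Cfsg.Agent.Lib.Helper17PCTab.Tabled.inv h115 (by decide +kernel)
def N117 : ℕ := 0xaabb2d75c6da9a78214505d62483cefbfe391440c2cb3d357de658a29baf4d25549258a3f3debb2ca34cc31db71c6040
theorem h117 : Tabled KK 6 N117 := Cfsg.Agent.Lib.Helper17PCTab.Tabled.mul h116 h113 (by decide +kernel)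
def N118 : ℕ := 0x5c6de61d69f67cefee3debfe0d28f24c2ce22daafa6caeeaf6c74cb7c35cd64544974154a78258e68648870050c60440
theorem h118 : Tabled KK 6 N118 := Cfsg.Agent.Lib.Helper17PCTab.Tabled.inv h37 (by decide +kernel)
def N119 : ℕ := 0x91c5ef13cdcf765b96f453b652c9dfd0c1ffb557a6375f8689a4690bac496e3a10ec32304aa859c8a079ad36202f3e00
theorem h119 : Tabled KK 6 N119 := Cfsg.Agent.Lib.Helper17PCTab.Tabled.mul h118 h13 (by decide +kernel)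
def N120 : ℕ := 0x984c9ded9bc643212b36f6750e15f87bc2a3d5784ea0af1ce98b819c5cda32e6374731697fd2e40a05bfa4bf52d1680
theorem h120 : Tabled KK 6 N120 := Cfsg.Agent.Lib.Helper17PCTab.Tabled.mul h117 h119 (by decide +kernel)
def N121 : ℕ := 0xee17c58b819c54fc6b316a3205b97f602f26bf52d1dac488ce95cdab0394747e6311e83a253b7740ad2e9fd0d9fa4680
theorem h121 : Tabled KK 6 N121 := Cfsg.Agent.Lib.Helper17PCTab.Tabled.mul h120 h117 (by decide +kernel)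
def N122 : ℕ := 0x44d7416455495cb6c77c34cf8ffbf3af79fb979a75b7187db3083c938a34ab69ba8bebb278248e58a68660450840c700
theorem h122 : Tabled KK 6 N122 := Cfsg.Agent.Lib.Helper17PCTab.Tabled.mul h121 h119 (by decide +kernel)

def specsL : List (ℕ × List ℕ × List ℕ) := [(0, [0], [0, 0]),
    (0, [1], [1, 1]),
    (0, [3], [3, 3]),
    (0, [4], [4, 4]),
    (0, [1], [1, 0]),
    (0, [1], [0, 0]),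
    (0, [2], [2, 0]),
    (0, [3], [3, 0]),
    (0, [3], [0, 0]),
    (0, [4], [4, 0]),
    (0, [4], [0, 0]),
    (0, [5], [5, 0]),
    (0, [7], [7, 0]),
    (0, [7], [0, 0]),
    (0, [8], [8, 0]),
    (0, [8], [0, 0]),
    (0, [2], [2, 1]),
    (0, [2], [1, 1]),
    (0, [3], [3, 1]),
    (0, [3], [1, 1]),
    (0, [4], [4, 1]),
    (0, [6], [6, 1]),
    (0, [6], [1, 1]),
    (0, [7], [7, 1]),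
    (0, [7], [1, 1]),
    (0, [8], [8, 1]),
    (0, [8], [1, 1]),
    (0, [3], [2, 2]),
    (0, [4], [4, 2]),
    (0, [4], [2, 2]),
    (0, [5], [5, 2]),
    (0, [5], [2, 2]),
    (0, [6], [6, 2]),
    (0, [5], [5, 3]),
    (0, [7], [7, 3]),
    (0, [7], [3, 3]),
    (0, [4], [1, 0]),
    (0, [6], [1, 0]),
    (0, [7], [1, 0]),
    (0, [3], [2, 0]),
    (1, [0, 0, 4], []),
    (1, [2, 2, 7], []),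
    (1, [3, 3, 6], []),
    (1, [4, 4], []),
    (1, [5, 5], []),
    (1, [5, 0, 7, 5, 0, 4], []),
    (1, [3, 1, 6, 3, 6, 1], []),
    (1, [5, 1, 5, 1], []),
    (1, [5, 3, 5, 3, 6], []),
    (2, [1, 1, 7], []),
    (2, [2, 2], []),
    (2, [3, 3, 7], []),
    (2, [4, 4], []),
    (2, [5, 5], []),
    (2, [6, 6], []),
    (2, [7, 7], []),
    (2, [6, 5, 6, 5], []),
    (3, [0, 0], []),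
    (3, [1, 1], []),
    (3, [2, 2, 7], []),
    (3, [3, 3, 6], []),
    (3, [5, 5], []),
    (3, [6, 6], []),
    (3, [7, 7], []),
    (3, [1, 0, 1, 0], []),
    (3, [3, 0, 5, 6, 7, 3, 6, 0], []),
    (3, [3, 2, 5, 6, 7, 3, 6, 2, 7], []),
    (3, [7, 3, 7, 3, 6], [])]

def relVL : List (List ℤ) := [[0, 0, 0, 0, 0, 0, 1, 0, 0, 0, 0, 0, 0, 0, 0, 0, 0, 0, 0, 0, 0, 0, 0, 0, 0, 0, 0, 0, 0, 0, 0, 0, 0, 0, 0, 0, 0, 0, 0, 0, 0, 0, 0, 0, 0, 0, 0, 0, 0, 0, 0, 0, 0, 0, 0, 0, 0, 0, 0, 0, 0, 0, 0, 0, 0, 0, 0, 0, 0, 0, 0, 0, 0, 0, 0, 0, 0, 0, 0, 0, 0, 0, 0, 0, 0, 0, 0, 0, 0, 0, 0, 0, 0, 0, 0, 0, 0, 0, 0, 0, 0, 0, 0, 0, 0, 0, 0, 0],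
    [0, 0, 0, 0, 0, 0, 0, 0, 0, 0, 0, 0, 0, 0, 1, 0, 0, 0, 0, 0, 0, 0, 0, 0, 0, 0, 0, 0, 0, 0, 0, 0, 0, 0, 0, 0, 0, 0, 0, 0, 0, 0, 0, 0, 0, 0, 0, 0, 0, 0, 0, 0, 0, 0, 0, 0, 0, 0, 0, 0, 0, 0, 0, 0, 0, 0, 0, 0, 0, 0, 0, 0, 0, 0, 0, 0, 0, 0, 0, 0, 0, 0, 0, 0, 0, 0, 0, 0, 0, 0, 0, 0, 0, 0, 0, 0, 0, 0, 0, 0, 0, 0, 0, 0, 0, 0, 0, 0],
    [0, 0, 0, 0, 0, 0, 0, 0, 0, 0, 0, 0, 0, 0, 0, 0, 0, 0, 0, 0, 0, 0, 0, 0, 0, 0, 0, 0, 0, 0, 0, 0, 0, 0, 0, 1, 0, 0, 0, 0, 0, 0, 0, 0, 0, 0, 0, 0, 0, 0, 0, 0, 0, 0, 0, 0, 0, 0, 0, 0, 0, 0, 0, 0, 0, 0, 0, 0, 0, 0, 0, 0, 0, 0, 0, 0, 0, 0, 0, 0, 0, 0, 0, 0, 0, 0, 0, 0, 0, 0, 0, 0, 0, 0, 0, 0, 0, 0, 0, 0, 0, 0, 0, 0, 0, 0, 0, 0],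
    [0, 0, 0, 0, 0, 0, 0, 0, 0, 0, 0, 0, 0, 0, 0, 0, 0, 0, 0, 0, 0, 0, 0, 0, 0, 0, 0, 0, 0, 0, 0, 0, 0, 0, 0, 0, 0, 0, 0, 0, 0, 0, 0, 1, 0, 0, 0, 0, 0, 0, 0, 0, 0, 0, 0, 0, 0, 0, 0, 0, 0, 0, 0, 0, 0, 0, 0, 0, 0, 0, 0, 0, 0, 0, 0, 0, 0, 0, 0, 0, 0, 0, 0, 0, 0, 0, 0, 0, 0, 0, 0, 0, 0, 0, 0, 0, 0, 0, 0, 0, 0, 0, 0, 0, 0, 0, 0, 0],
    [0, (-2), 0, 0, 0, 1, 0, 0, 0, 0, 0, (-1), 0, 0, (-1), 0, 0, 0, 0, 0, (-1), 0, 0, (-1), (-1), 0, 0, 0, 0, 0, 0, 0, 0, 0, 0, 0, 0, 0, 0, 0, 0, 0, 0, 0, 0, 0, 0, 0, 0, 0, (-1), (-2), 0, 0, 0, 0, 0, 0, 0, 0, 0, 0, (-1), 0, 0, 0, 0, 0, 0, 0, 0, 0, 0, 0, 0, 0, 0, 0, 0, 0, (-1), 0, 0, 0, 0, 0, 0, 0, 0, 0, 0, 0, 0, 0, 0, 0, 0, 0, 0, 0, 0, 0, 0, 0, 0, 0, 0, 0],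
    [0, 2, 1, 0, 0, 1, 0, 0, 0, 0, 0, 0, 0, 0, 0, 1, 0, 0, 0, 0, 1, 0, 0, 1, 2, 0, 2, 0, 0, 0, 0, 0, 0, 0, 0, 0, 0, 0, 0, 0, 0, 0, 0, 0, 0, 0, 0, 0, 0, 0, 1, 1, 0, 1, 0, 0, 0, 0, 0, 0, 1, 0, 1, 0, 0, 0, 0, 0, 0, 0, 0, 0, 0, 0, 0, 0, 0, 0, 0, 0, 1, 0, 0, 0, 0, 0, 0, 0, 0, 0, 0, 0, 0, 0, 0, 0, 0, 0, 0, 0, 0, 0, 0, 0, 0, 0, 0, 0],
    [0, 0, (-2), 0, 0, 0, 0, 0, 0, 0, 0, 0, 0, 0, 0, 0, 0, 0, 0, 0, 0, 0, 0, 0, (-1), 0, 0, 0, 0, 0, 0, 0, 0, 0, 0, 0, 0, 0, 0, 0, 0, 0, 0, 0, 0, 0, 0, 0, 0, 0, 0, 0, 0, 0, 0, 0, 0, 0, 0, 0, (-1), 0, 0, 0, 0, 0, 0, 0, 0, 0, 0, 0, 0, 0, 0, 0, 0, 0, 0, 0, 0, 0, 0, 0, 0, 0, 0, 0, 0, 0, 0, 0, 0, 0, 0, 0, 0, 0, 0, 0, 0, 0, 0, 0, 0, 0, 0, 0],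
    [0, 0, 0, (-2), 0, 0, 0, 0, 1, 0, 0, 0, 0, 0, 0, 0, 0, 0, 0, 0, 0, 0, 0, 0, 0, 0, 0, 0, 0, 0, 0, 0, 0, 0, (-1), 0, 0, 0, 0, 0, 0, 0, 0, 0, 0, 0, 0, 0, 0, 0, 0, 0, 0, 0, 0, 0, 0, 0, 0, 0, 0, 0, 0, 0, 0, 0, 0, 0, 0, 0, (-1), (-2), 0, 0, 0, 0, 0, 0, 0, 0, 0, 0, 0, 0, 0, 0, 0, 0, 0, 0, 0, 0, 0, 0, 0, 0, 0, 0, 0, 0, 0, 0, 0, 0, 0, 0, 0, 0],
    [0, 0, 0, 2, 0, 0, 0, 1, 0, 0, 0, 0, 0, 0, 0, 0, 0, 0, 0, 0, 0, 0, 0, 0, 0, 0, 0, 0, 0, 0, 0, 0, 0, 1, 0, 0, 0, 0, 0, 0, 0, 0, 0, 0, 0, 0, 0, 0, 0, 0, 0, 0, 0, 0, 0, 0, 0, 0, 0, 0, 0, 0, 0, 0, 0, 0, 0, 0, 0, 0, 1, 0, 0, 0, 0, 0, 0, 0, 0, 0, 0, 0, 0, 0, 0, 0, 0, 0, 0, 0, 0, 0, 0, 0, 0, 0, 0, 0, 0, 0, 0, 0, 0, 0, 0, 0, 0, 0],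
    [0, 0, 0, 0, (-2), 0, 0, 1, 0, 0, 0, 0, 0, 0, 0, 0, 0, 0, 0, 0, 0, 0, 0, 0, 0, 0, 0, 0, 0, 0, 0, 0, 0, 0, 0, 0, 0, 0, 0, 0, 0, 0, 0, (-1), 0, 0, 0, 0, 0, 0, 0, 0, 0, 0, 0, 0, 0, 0, 0, 0, 0, 0, 0, 0, 0, 0, 0, 0, 0, 0, (-1), 0, 0, 0, 0, 0, 0, 0, 0, 0, 0, 0, 0, 0, 0, 0, 0, 0, 0, 0, 0, 0, 0, 0, 0, 0, 0, 0, 0, 0, 0, 0, 0, 0, 0, 0, 0, 0],
    [0, 0, 0, 0, 2, 0, 0, 1, 0, 0, 0, 0, 0, 0, 0, 0, 0, 0, 0, 0, 0, 0, 0, 0, 0, 0, 0, 0, 0, 0, 0, 0, 0, 0, 0, 0, 0, 0, 0, 0, 0, 0, 1, 0, 0, 0, 0, 0, 0, 0, 0, 0, 0, 0, 0, 0, 0, 0, 0, 0, 0, 0, 0, 0, 0, 0, 0, 0, 0, 0, 1, 0, 0, 0, 0, 0, 0, 0, 0, 0, 0, 0, 0, 0, 0, 0, 0, 0, 0, 0, 0, 0, 0, 0, 0, 0, 0, 0, 0, 0, 0, 0, 0, 0, 0, 0, 0, 0],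
    [0, 0, 0, 0, 0, (-2), 0, 0, 0, 0, 0, 0, 0, 0, 0, 0, 0, 0, 0, 0, 0, 0, 0, 0, 0, 0, 0, 0, 0, 0, 0, 0, 0, 0, 0, 0, 0, 0, 0, 0, 0, 0, 0, 0, 0, 0, 0, 0, 0, 0, 0, (-1), 0, 0, 0, 0, 0, 0, 0, 0, (-1), 0, 0, 0, 0, 0, 0, 0, 0, 0, 0, 0, 0, 0, 0, 0, 0, 0, 0, 0, 0, 0, 0, 0, 0, 0, 0, 0, 0, 0, 0, 0, 0, 0, 0, 0, 0, 0, 0, 0, 0, 0, 0, 0, 0, 0, 0, 0],
    [0, 0, 0, 0, 0, 0, 0, (-2), 0, 0, 0, 0, 0, 0, 0, 0, 0, 0, 0, 0, 0, 0, 0, 0, 0, 0, 0, 0, 0, 0, 0, 0, 0, 0, 0, 0, 0, 0, 0, 0, 0, 0, 0, 0, 0, 0, 0, 0, 0, 0, 0, 0, 0, 0, 0, 0, 0, 0, 0, 0, 0, 0, 0, 0, 0, 0, 0, 0, 0, 0, 0, 0, 0, 0, 0, 0, 0, 0, 0, 0, 0, 0, 0, 0, 0, 0, 0, 0, 0, 0, 0, 0, 0, 0, 0, 0, 0, 0, 0, 0, 0, 0, 0, 0, 0, 0, 0, 0],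
    [0, 0, 0, 0, 0, 0, 0, 2, 0, 0, 0, 0, 0, 0, 0, 0, 0, 0, 0, 0, 0, 0, 0, 0, 0, 0, 0, 0, 0, 0, 0, 0, 0, 0, 0, 0, 0, 0, 0, 0, 0, 0, 0, 0, 0, 0, 0, 0, 0, 0, 0, 0, 0, 0, 0, 0, 0, 0, 0, 0, 0, (-1), 0, 0, 0, 0, 0, 0, 0, 0, 0, 0, 0, 0, 0, 0, 0, 0, 0, 0, 0, 0, 0, 0, 0, 0, 0, 0, 0, 0, 0, 0, 0, 0, 0, 0, 0, 0, 0, 0, 0, 0, 0, 0, 0, 0, 0, 0],
    [0, 0, 0, 0, 0, 0, 0, 0, (-2), 0, 0, 0, 0, 0, 0, 0, 0, 0, 0, 0, 0, 0, 0, 0, 0, 0, 0, 0, 0, 0, 0, 0, 0, 0, 0, 0, 0, 0, 0, 0, 0, 0, 0, 0, 0, 0, 0, 0, 0, 0, 0, 0, 0, 0, 0, 0, 0, 0, 0, 0, 0, 0, 0, 0, 0, 0, 0, 0, 0, 0, 0, 0, 0, 0, 0, 0, 0, 0, 0, 0, 0, 0, 0, 0, 0, 0, 0, 0, 0, 0, 0, 0, 0, 0, 0, 0, 0, 0, 0, 0, 0, 0, 0, 0, 0, 0, 0, 0],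
    [0, 0, 0, 0, 0, 0, 0, 0, 2, 0, 0, 0, 0, 0, 0, 0, 0, 0, 0, 0, 0, 0, 0, 0, 0, 0, 0, 0, 0, 0, 0, 0, 0, 0, 0, 0, 0, 0, 0, 0, 0, 0, 0, 0, 0, 0, 0, 0, 0, 0, 0, 0, 0, 0, 0, 0, 0, 0, 0, 0, 0, 0, (-1), 0, 0, 0, 0, 0, 0, 0, 0, 0, 0, 0, 0, 0, 0, 0, 0, 0, 0, 0, 0, 0, 0, 0, 0, 0, 0, 0, 0, 0, 0, 0, 0, 0, 0, 0, 0, 0, 0, 0, 0, 0, 0, 0, 0, 0],
    [0, 0, 0, 0, 0, 0, 0, 0, 0, 0, 0, (-2), 0, 0, 0, 0, 0, 0, 0, 0, 0, 0, 0, 0, (-1), 0, (-1), 0, 0, 0, 0, 0, 0, 0, 0, 0, 0, 0, 0, 0, 0, 0, 0, 0, 0, 0, 0, 0, 0, 0, 0, 0, 0, 0, 0, 0, 0, 0, 0, 0, (-1), 0, (-1), 0, 0, 0, 0, 0, 0, 0, 0, 0, 0, 0, 0, 0, 0, 0, 0, 0, (-1), 0, 0, 0, 0, 0, 0, 0, 0, 0, 0, 0, 0, 0, 0, 0, 0, 0, 0, 0, 0, 0, 0, 0, 0, 0, 0, 0],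
    [0, 0, 0, 0, 0, 0, 0, 0, 0, 0, 0, 2, 0, 0, 0, 1, 0, 1, 0, 0, 0, 0, 0, 1, 0, 0, 0, 0, 0, 0, 0, 0, 0, 0, 0, 0, 0, 0, 0, 0, 0, 0, 0, 0, 0, 0, 0, 0, 0, 0, 0, 0, 0, 0, 0, 0, 0, 0, 0, 0, 1, 0, 1, 0, 0, 0, 0, 0, 0, 0, 0, 0, 0, 0, 0, 0, 0, 0, 0, 0, 2, 0, 0, 0, 0, 0, 0, 0, 0, 0, 0, 0, 0, 0, 0, 0, 0, 0, 0, 0, 0, 0, 0, 0, 0, 0, 0, 0],
    [0, 0, 0, 0, 0, 0, 0, 0, 0, 0, 0, 0, (-2), 0, 0, 0, 0, 1, 0, 0, 0, 0, 0, 0, 0, 0, 0, 0, 0, 0, 0, 0, 0, (-1), (-1), (-1), 0, 0, 0, 0, 0, 0, 0, 0, 0, 0, 0, 0, 0, 0, 0, 0, 0, 0, 0, 0, 0, 0, 0, 0, (-1), (-1), (-1), 0, 0, 0, 0, 0, 0, 0, (-1), (-1), 0, 0, 0, 0, 0, 0, 0, 0, (-1), 0, 0, 0, 0, 0, 0, 0, 0, 0, 0, 0, 0, 0, 0, 0, 0, 0, 0, 0, 0, 0, 0, 0, 0, 0, 0, 0],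
    [0, 0, 0, 0, 0, 0, 0, 0, 0, 0, 0, 0, 2, 0, 0, 1, 1, 1, 0, 0, 0, 0, 0, 0, 0, 0, 0, 0, 0, 0, 0, 0, 1, 0, 0, 0, 0, 0, 0, 0, 0, 0, 0, 0, 0, 0, 0, 0, 0, 0, 0, 0, 0, 0, 0, 0, 0, 0, 0, 0, 1, 1, 1, 0, 0, 0, 0, 0, 0, 0, 1, 2, 0, 0, 0, 0, 0, 0, 0, 0, 2, 0, 0, 0, 0, 0, 0, 0, 0, 0, 0, 0, 0, 0, 0, 0, 0, 0, 0, 0, 0, 0, 0, 0, 0, 0, 0, 0],
    [0, 0, 0, 0, 0, 0, 0, 0, 0, 0, 0, 0, 0, (-2), 0, 0, 1, 0, 0, 0, 0, 0, 0, 0, 0, 0, 0, 0, 0, 0, 0, 0, 0, 0, 0, 0, 0, 0, 0, 0, 0, (-1), 0, (-1), (-1), 0, 0, 0, 0, 0, (-1), 0, (-1), (-1), 0, 0, 0, 0, 0, 0, 0, 0, 0, 0, 0, 0, 0, 0, 0, 0, (-1), (-1), 0, 0, 0, 0, 0, 0, 0, 0, (-1), 0, 0, 0, 0, 0, 0, 0, 0, 0, 0, 0, 0, 0, 0, 0, 0, 0, 0, 0, 0, 0, 0, 0, 0, 0, 0, 0],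
    [0, 0, 0, 0, 0, 0, 0, 0, 0, 0, 0, 0, 0, 0, 0, (-2), 0, 0, 0, 0, 0, 0, 0, 0, 0, 0, 0, 0, 0, 0, 0, 0, 0, 0, 0, 0, 0, 0, 0, 0, 0, 0, 0, 0, 0, 0, 0, 0, 0, 0, 0, 0, 0, 0, 0, 0, 0, 0, 0, 0, 0, 0, (-1), 0, 0, 0, 0, 0, 0, 0, 0, 0, 0, 0, 0, 0, 0, 0, 0, 0, (-1), 0, 0, 0, 0, 0, 0, 0, 0, 0, 0, 0, 0, 0, 0, 0, 0, 0, 0, 0, 0, 0, 0, 0, 0, 0, 0, 0],
    [0, 0, 0, 0, 0, 0, 0, 0, 0, 0, 0, 0, 0, 0, 0, 2, 0, 1, 0, 0, 0, 0, 0, 0, 0, 0, 0, 0, 0, 0, 0, 0, 0, 0, 0, 0, 0, 0, 0, 0, 0, 0, 0, 0, 0, 0, 0, 0, 0, 0, 0, (-1), 0, 0, 0, 0, 0, 0, 0, 0, 0, 0, 0, 0, 0, 0, 0, 0, 0, 0, 0, 0, 0, 0, 0, 0, 0, 0, 0, 0, 1, 0, 0, 0, 0, 0, 0, 0, 0, 0, 0, 0, 0, 0, 0, 0, 0, 0, 0, 0, 0, 0, 0, 0, 0, 0, 0, 0],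
    [0, 0, 0, 0, 0, 0, 0, 0, 0, 0, 0, 0, 0, 0, 0, 0, (-2), 0, 0, 0, 0, 0, 0, 0, 0, 0, 0, 0, 0, 0, 0, 0, 0, 0, 0, 0, 0, 0, 0, 0, 0, 0, 0, 0, 0, 0, 0, 0, 0, 0, 0, 0, 0, 0, 0, 0, 0, 0, 0, 0, 0, 0, 0, 0, 0, 0, 0, 0, 0, 0, 0, 0, 0, 0, 0, 0, 0, 0, 0, 0, 0, 0, 0, 0, 0, 0, 0, 0, 0, 0, 0, 0, 0, 0, 0, 0, 0, 0, 0, 0, 0, 0, 0, 0, 0, 0, 0, 0],
    [0, 0, 0, 0, 0, 0, 0, 0, 0, 0, 0, 0, 0, 0, 0, 0, 2, 0, 0, 0, 0, 0, 0, 0, 0, 0, 0, 0, 0, 0, 0, 0, 0, 0, 0, 0, 0, 0, 0, 0, 0, 0, 0, 0, 0, 0, 0, 0, 0, 0, 0, 0, (-1), 0, 0, 0, 0, 0, 0, 0, 0, 0, 0, 0, 0, 0, 0, 0, 0, 0, 0, 0, 0, 0, 0, 0, 0, 0, 0, 0, 0, 0, 0, 0, 0, 0, 0, 0, 0, 0, 0, 0, 0, 0, 0, 0, 0, 0, 0, 0, 0, 0, 0, 0, 0, 0, 0, 0],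
    [0, 0, 0, 0, 0, 0, 0, 0, 0, 0, 0, 0, 0, 0, 0, 0, 0, (-2), 0, 0, 0, 0, 0, 0, 0, 0, 0, 0, 0, 0, 0, 0, 0, 0, 0, 0, 0, 0, 0, 0, 0, 0, 0, 0, 0, 0, 0, 0, 0, 0, 0, 0, 0, 0, 0, 0, 0, 0, 0, 0, 0, 0, 0, 0, 0, 0, 0, 0, 0, 0, 0, 0, 0, 0, 0, 0, 0, 0, 0, 0, 0, 0, 0, 0, 0, 0, 0, 0, 0, 0, 0, 0, 0, 0, 0, 0, 0, 0, 0, 0, 0, 0, 0, 0, 0, 0, 0, 0],
    [0, 0, 0, 0, 0, 0, 0, 0, 0, 0, 0, 0, 0, 0, 0, 0, 0, 2, 0, 0, 0, 0, 0, 0, 0, 0, 0, 0, 0, 0, 0, 0, 0, 0, 0, 0, 0, 0, 0, 0, 0, 0, 0, 0, 0, 0, 0, 0, 0, 0, 0, 0, 0, (-1), 0, 0, 0, 0, 0, 0, 0, 0, 0, 0, 0, 0, 0, 0, 0, 0, 0, 0, 0, 0, 0, 0, 0, 0, 0, 0, 0, 0, 0, 0, 0, 0, 0, 0, 0, 0, 0, 0, 0, 0, 0, 0, 0, 0, 0, 0, 0, 0, 0, 0, 0, 0, 0, 0],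
    [0, 0, 0, 0, 0, 0, 0, 0, 0, 0, 0, 0, 0, 0, 0, 0, 0, 0, 0, 0, 0, 2, 0, 0, 0, 0, 1, 0, 0, 0, 0, 0, 0, 0, 0, 0, 0, 0, 0, 0, 0, 0, 0, 0, 0, 0, 0, 0, 0, 0, 0, 0, 0, 0, 0, 0, 0, 0, 0, 0, 0, 0, 0, 0, 0, 0, 0, 0, 0, 0, 0, 0, 0, 0, 0, 0, 0, 0, 0, 0, 1, 0, 0, 0, 0, 0, 0, 0, 0, 0, 0, 0, 0, 0, 0, 0, 0, 0, 0, 0, 0, 0, 0, 0, 0, 0, 0, 0],
    [0, 0, 0, 0, 0, 0, 0, 0, 0, 0, 0, 0, 0, 0, 0, 0, 0, 0, 0, 0, 0, 0, (-2), 0, 0, 1, 0, 0, 0, 0, 0, 0, 0, 0, 0, 0, 0, 0, 0, 0, 0, 0, (-1), 0, (-1), 0, 0, 0, 0, 0, 0, 0, 0, 0, 0, 0, 0, 0, 0, 0, (-1), (-2), (-1), 0, 0, 0, 0, 0, 0, 0, 0, 0, 0, 0, 0, 0, 0, 0, 0, 0, (-1), 0, 0, 0, 0, 0, 0, 0, 0, 0, 0, 0, 0, 0, 0, 0, 0, 0, 0, 0, 0, 0, 0, 0, 0, 0, 0, 0],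
    [0, 0, 0, 0, 0, 0, 0, 0, 0, 0, 0, 0, 0, 0, 0, 0, 0, 0, 0, 0, 0, 0, 2, 0, 1, 0, 1, 0, 0, 0, 0, 0, 0, 0, 0, 0, 0, 0, 0, 0, 0, 0, 0, 0, 0, 0, 0, 0, 0, 0, 0, 0, 0, 0, 0, 0, 0, 0, 0, 0, 1, 0, 1, 0, 0, 0, 0, 0, 0, 0, 0, 0, 0, 0, 0, 0, 0, 0, 0, 0, 1, 0, 0, 0, 0, 0, 0, 0, 0, 0, 0, 0, 0, 0, 0, 0, 0, 0, 0, 0, 0, 0, 0, 0, 0, 0, 0, 0],
    [0, 0, 0, 0, 0, 0, 0, 0, 0, 0, 0, 0, 0, 0, 0, 0, 0, 0, 0, 0, 0, 0, 0, (-2), 0, 0, 0, 0, 0, 0, 0, 0, 0, 0, 0, 0, 0, 0, 0, 0, 0, 0, 0, 0, 0, 0, 0, 0, 0, 0, 0, 0, 0, (-1), 0, 0, 0, 0, 0, 0, 0, 0, 0, 0, 0, 0, 0, 0, 0, 0, 0, 0, 0, 0, 0, 0, 0, 0, 0, 0, (-1), 0, 0, 0, 0, 0, 0, 0, 0, 0, 0, 0, 0, 0, 0, 0, 0, 0, 0, 0, 0, 0, 0, 0, 0, 0, 0, 0],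
    [0, 0, 0, 0, 0, 0, 0, 0, 0, 0, 0, 0, 0, 0, 0, 0, 0, 0, 0, 0, 0, 0, 0, 2, 0, 0, 1, 0, 0, 0, 0, 0, 0, 0, 0, 0, 0, 0, 0, 0, 0, 0, 0, 0, 0, 0, 0, 0, 0, 0, 0, 0, 0, 0, 0, 0, 0, 0, 0, 0, 0, 0, 0, 0, 0, 0, 0, 0, 0, 0, 0, 0, 0, 0, 0, 0, 0, 0, 0, 0, 1, 0, 0, 0, 0, 0, 0, 0, 0, 0, 0, 0, 0, 0, 0, 0, 0, 0, 0, 0, 0, 0, 0, 0, 0, 0, 0, 0],
    [0, 0, 0, 0, 0, 0, 0, 0, 0, 0, 0, 0, 0, 0, 0, 0, 0, 0, 0, 0, 0, 0, 0, 0, (-2), 0, 0, 0, 0, 0, 0, 0, 0, 0, 0, 0, 0, 0, 0, 0, 0, 0, 0, 0, 0, 0, 0, 0, 0, 0, 0, 0, 0, 0, 0, 0, 0, 0, 0, 0, 0, 0, 0, 0, 0, 0, 0, 0, 0, 0, 0, 0, 0, 0, 0, 0, 0, 0, 0, 0, 0, 0, 0, 0, 0, 0, 0, 0, 0, 0, 0, 0, 0, 0, 0, 0, 0, 0, 0, 0, 0, 0, 0, 0, 0, 0, 0, 0],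
    [0, 0, 0, 0, 0, 0, 0, 0, 0, 0, 0, 0, 0, 0, 0, 0, 0, 0, 0, 0, 0, 0, 0, 0, 0, 0, 0, 0, 0, 0, 0, 0, (-2), 0, 0, 0, 0, 0, 0, 0, 0, 0, 0, 0, 0, 0, 0, 0, 0, 0, 0, 0, 0, (-1), 0, 0, 0, 0, 0, 0, 0, 0, 0, 0, 0, 0, 0, 0, 0, 0, 0, 0, 0, 0, 0, 0, 0, 0, 0, 0, (-1), 0, 0, 0, 0, 0, 0, 0, 0, 0, 0, 0, 0, 0, 0, 0, 0, 0, 0, 0, 0, 0, 0, 0, 0, 0, 0, 0],
    [0, 0, 0, 0, 0, 0, 0, 0, 0, 0, 0, 0, 0, 0, 0, 0, 0, 0, 0, 0, 0, 0, 0, 0, 0, 0, 0, 0, 0, 0, 0, 0, 0, 0, (-2), 0, 0, 0, 0, 0, 0, 0, 0, 0, 0, 0, 0, 0, 0, 0, 0, 0, 0, 0, 0, 0, 0, 0, 0, 0, 0, 0, 0, 0, 0, 0, 0, 0, 0, 0, 0, 0, 0, 0, 0, 0, 0, 0, 0, 0, 0, 0, 0, 0, 0, 0, 0, 0, 0, 0, 0, 0, 0, 0, 0, 0, 0, 0, 0, 0, 0, 0, 0, 0, 0, 0, 0, 0],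
    [0, 0, 0, 0, 0, 0, 0, 0, 0, 0, 0, 0, 0, 0, 0, 0, 0, 0, 0, 0, 0, 0, 0, 0, 0, 0, 0, 0, 0, 0, 0, 0, 0, 0, 2, 0, 0, 0, 0, 0, 0, 0, 0, 0, 0, 0, 0, 0, 0, 0, 0, 0, 0, 0, 0, 0, 0, 0, 0, 0, 0, 0, 0, 0, 0, 0, 0, 0, 0, 0, 0, 1, 0, 0, 0, 0, 0, 0, 0, 0, 0, 0, 0, 0, 0, 0, 0, 0, 0, 0, 0, 0, 0, 0, 0, 0, 0, 0, 0, 0, 0, 0, 0, 0, 0, 0, 0, 0],
    [0, 0, 0, 0, 0, 1, 0, 1, 1, 0, 0, 0, 0, 0, 0, 0, (-1), 0, 0, 0, 0, 0, (-1), (-1), 0, 0, (-1), 0, 0, 0, 0, 0, 0, 0, 0, 0, 0, 0, 0, 0, 0, 1, 0, 0, 0, 0, 0, 0, 0, 0, 0, (-2), 1, (-2), 0, 0, 0, 0, 0, 0, 0, 1, 0, 0, 0, 0, 0, 0, 0, 0, 0, (-1), 0, 0, 0, 0, 0, 0, 0, 0, (-1), 0, 0, 0, 0, 0, 0, 0, 0, 0, 0, 0, 0, 0, 0, 0, 0, 0, 0, 0, 0, 0, 0, 0, 0, 0, 0, 0],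
    [0, 0, 0, 0, 0, 0, 0, 0, 1, 0, 0, 0, 0, 0, 0, 0, 0, 0, 0, 0, 0, 0, 0, 0, (-1), 0, (-1), 0, 0, 0, 0, 0, 0, 0, 0, 0, 0, 0, 0, 0, 0, 0, 0, 0, 0, 0, 0, 0, 0, 0, 0, (-1), 0, (-1), 0, 0, 0, 0, 0, 0, 0, 0, 0, 0, 0, 0, 0, 0, 0, 0, 0, 0, 0, 0, 0, 0, 0, 0, 0, 0, 0, 0, 0, 0, 0, 0, 0, 0, 0, 0, 0, 0, 0, 0, 0, 0, 0, 0, 0, 0, 0, 0, 0, 0, 0, 0, 0, 0],
    [0, 0, 0, 0, 0, 0, 0, 0, 0, 0, 0, 0, 0, 0, 0, 0, 0, 0, 0, 0, 0, 0, 0, 0, 0, (-1), 0, 0, 0, 0, 0, 0, 0, 0, 0, 0, 0, 0, 0, 0, 0, 0, 0, 0, 0, 0, 0, 0, 0, 0, 0, 0, (-1), 0, 0, 0, 0, 0, 0, 0, 0, 0, 0, 0, 0, 0, 0, 0, 0, 0, 0, 0, 0, 0, 0, 0, 0, 0, 0, 0, 0, 0, 0, 0, 0, 0, 0, 0, 0, 0, 0, 0, 0, 0, 0, 0, 0, 0, 0, 0, 0, 0, 0, 0, 0, 0, 0, 0],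
    [0, 0, 0, 0, 0, 0, 0, 0, 1, 0, 0, 0, 0, 0, 0, 0, 0, 0, 0, 0, 0, 0, 0, 0, 0, (-1), 0, 0, 0, 0, 0, 0, 0, 1, 0, 0, 0, 0, 0, 0, 0, 0, 0, 0, 0, 0, 0, 0, 0, 0, 0, 0, 0, 0, 0, 0, 0, 0, 0, 0, 0, (-1), (-1), 0, 0, 0, 0, 0, 0, 0, 0, (-1), 0, 0, 0, 0, 0, 0, 0, 0, 0, 0, 0, 0, 0, 0, 0, 0, 0, 0, 0, 0, 0, 0, 0, 0, 0, 0, 0, 0, 0, 0, 0, 0, 0, 0, 0, 0],
    [0, 0, 0, 0, 0, 0, 0, 0, 0, 0, 0, (-1), 0, 0, 0, 0, (-1), 0, 0, 0, (-1), 0, 0, (-2), (-1), (-1), 0, 0, 0, 0, 0, 0, 0, 0, 0, 0, 0, 0, 0, 0, 0, 0, 0, 0, 0, 0, 0, 0, 0, 0, 0, (-1), 0, (-1), 0, 0, 0, 0, 0, 0, (-1), 0, (-3), 0, 0, 0, 0, 0, 0, 0, (-1), (-2), 0, 0, 0, 0, 0, 0, 0, 0, (-2), (-2), 0, 0, 0, (-1), 0, 0, 0, 0, 0, 0, 0, 0, 0, 0, 0, 0, 0, 0, 0, 0, 0, 0, 0, 0, 0, 0],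
    [0, 0, 0, 0, 0, 0, 0, 0, 0, 0, (-1), 0, 0, (-1), (-1), 0, (-1), 0, 0, 0, 0, 0, 0, 0, 0, 0, 0, 0, 0, 0, 1, 0, 0, 0, 0, 0, 0, 0, 0, 0, (-1), (-2), 0, 0, (-1), 0, 0, 0, 0, 0, (-2), 0, (-3), (-2), 0, 0, 0, 0, 0, 0, 0, 0, 0, 0, 0, 0, 0, 0, 0, 0, (-2), (-2), 0, 0, 0, 0, 0, 0, 0, 0, 0, 0, 0, (-2), 0, 0, 0, 0, (-1), 0, 0, 0, 0, 0, 0, 0, 0, 0, 0, 0, 0, 0, 0, 0, 0, 0, 0, 0],
    [0, 0, 0, 0, 0, 0, 0, 0, 0, 0, 0, 0, 0, 0, 0, 0, 0, 0, 0, 0, 0, 0, 0, 0, 0, 0, 0, 0, 0, 0, 0, 0, 0, 0, 0, 0, 0, 0, 0, 0, 0, (-1), 0, (-1), (-1), 0, 0, 0, 0, 0, (-1), 0, (-1), (-1), 0, 0, 0, 0, 0, 0, 0, 0, 0, 0, 0, 0, 0, 0, 0, 0, (-1), (-1), 0, 0, 0, 0, 0, 0, 0, 0, (-1), 0, 0, 0, (-2), 0, 0, (-1), 0, 0, 0, 0, 0, 0, 0, 0, 0, 0, 0, 0, 0, 0, 0, 0, 0, 0, 0, 0],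
    [0, 0, 0, 0, 0, 0, 0, 0, 0, 0, 0, 0, 0, 0, 0, 0, 0, 0, 0, 0, 0, 0, 0, 0, 0, 0, 0, 0, 0, 0, 0, 0, 0, 0, 0, 0, 0, 0, 0, 0, 0, 0, 0, 0, 0, 0, 0, 0, 0, 0, 0, (-1), 0, (-1), 0, 0, 0, 0, 0, 0, (-1), 0, (-1), 0, 0, 0, 0, 0, 0, 0, 0, 0, 0, 0, 0, 0, 0, 0, 0, 0, (-1), 0, 0, 0, 0, (-2), 0, 0, 0, 0, 0, 0, 0, 0, 0, 0, 0, 0, 0, 0, 0, 0, 0, 0, 0, 0, 0, 0],
    [0, 0, 0, 0, 0, 0, 0, 0, 0, 0, 0, 0, 0, 0, 0, 0, 0, 0, 0, 0, 0, 0, 0, 0, 0, 0, 0, 0, 0, 0, 0, 0, 0, 0, 0, 0, 0, 0, 0, 0, 0, 0, 0, 0, 0, 0, 0, 0, 0, 0, (-1), 0, 0, 0, 0, 0, 0, 0, 0, 0, 1, 0, 0, 0, 0, 0, 0, 0, 0, 0, 0, 0, 0, 0, 0, 0, 0, 0, 0, 0, 0, 0, 0, 0, 0, 0, (-2), 0, 0, 0, 0, 0, 0, 0, 0, 0, 0, 0, 0, 0, 0, 0, 0, 0, 0, 0, 0, 0],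
    [0, 0, 0, 0, 0, 0, 0, 0, 0, 0, 0, (-1), 0, 0, (-1), 1, (-1), 0, 0, 0, (-1), 0, 0, (-3), (-1), (-1), 0, 0, 0, 0, 0, 0, 0, 0, 0, 0, 0, 0, 0, 0, 0, 0, 0, 0, 0, 0, 0, 0, 0, 0, (-1), (-1), (-1), (-1), 0, 0, 0, 0, 0, 0, 0, 0, (-3), 0, 0, 0, 0, 0, 0, 0, (-1), (-3), 0, 0, 0, 0, 0, 0, 0, 0, (-2), (-2), 0, 0, 0, (-1), (-2), 0, (-1), 0, 0, 0, 0, 0, 0, 0, 0, 0, 0, 0, 0, 0, 0, 0, 0, 0, 0, 0],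
    [0, 0, 0, 0, 0, 0, 0, 0, 0, 0, 0, 0, 0, 0, 0, 0, 0, 0, 0, 0, 0, 0, 0, (-1), (-1), (-1), (-2), 0, 0, 0, 0, 0, (-1), (-1), (-1), 1, 0, 0, 0, 0, 0, (-1), (-1), (-1), 0, 0, 0, 0, 0, 0, (-1), (-3), (-2), (-2), 0, 0, 0, 0, 0, 0, (-1), (-1), (-3), 0, 0, 0, 0, 0, 0, 0, (-1), (-1), 0, 0, 0, 0, 0, 0, 0, 0, (-3), 0, (-2), 0, (-2), 0, 0, (-2), 0, 0, 0, 0, 0, 0, 0, 0, 0, 0, 0, 0, 0, 0, 0, 0, 0, 0, 0, 0],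
    [0, 0, 0, 0, 0, 0, 0, 0, 0, 0, 0, 0, 0, 0, 0, 0, 0, 0, 0, 0, 0, 0, 0, (-1), 0, 0, (-1), 0, 0, 0, 0, 0, (-1), 0, 0, 0, 0, 0, 0, 0, 0, 0, 0, 0, 0, 0, 0, 0, 0, 0, (-1), (-1), 0, (-1), 0, 0, 0, 0, 0, 0, 0, 0, (-3), 0, 0, 0, 0, 0, 0, 0, 0, 0, 0, 0, 0, 0, 0, 0, 0, 0, (-2), 0, (-2), 0, 0, 0, (-2), 0, 0, 0, 0, 0, 0, 0, 0, 0, 0, 0, 0, 0, 0, 0, 0, 0, 0, 0, 0, 0],
    [0, 0, 0, 0, 0, 0, 0, 0, 0, 0, 0, 0, 0, 0, 0, 0, 0, 0, 0, 0, 0, 0, 0, 0, 0, 0, 0, 0, 0, 0, 0, 0, 0, 0, 0, 0, 0, 0, 0, 0, 0, (-2), 1, (-1), (-1), 0, 0, 0, 0, 0, (-2), 0, (-2), (-2), 0, 0, 0, 0, 0, 0, 1, 0, 0, 0, 0, 0, 0, 0, 0, 0, (-1), (-1), 0, 0, 0, 0, 0, 0, 0, 0, (-1), 0, 0, 0, (-2), 0, (-2), (-1), 0, 0, 0, 0, 0, 0, 0, 0, 0, 0, 0, 0, 0, 0, 0, 0, 0, 0, 0, 0],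
    [0, 0, 0, 0, 0, 0, 0, 0, 0, 0, 1, 0, 0, 1, 1, 0, 0, 0, 0, 0, 0, 0, 0, 0, 0, 0, 0, 0, 0, 0, (-1), 0, 0, (-1), 0, 0, 0, 0, 0, 0, 1, 2, 0, 1, 1, 0, 0, 0, 0, 0, 2, 0, 2, 2, 0, 0, 0, 0, 0, 0, (-1), 0, (-2), 0, 0, 0, 0, 0, 0, 0, 1, 0, 0, 0, 0, 0, 0, 0, 0, 0, 0, 0, 0, 0, 0, 0, 0, 0, 0, 0, 0, (-2), 0, 0, 0, 0, 0, (-1), 0, 0, 0, 0, 0, 0, 0, 0, 0, 0],
    [0, 0, 0, 0, 0, 0, 0, 0, 0, 0, 0, 0, 0, 0, 0, 0, 0, 0, 0, 0, 0, 0, 0, 0, (-1), 0, (-1), 0, 0, 0, 0, 0, 0, 0, 0, 0, 0, 0, 0, 0, 0, 0, 0, 0, 0, 0, 0, 0, 0, 0, 0, 0, 0, 0, 0, 0, 0, 0, 0, 0, (-1), 0, (-1), 0, 0, 0, 0, 0, 0, 0, 0, 0, 0, 0, 0, 0, 0, 0, 0, 0, (-1), 0, 0, 0, 0, 0, 0, 0, 0, 0, 0, 0, (-2), 0, 0, 0, 0, 0, 0, 0, 0, 0, 0, 0, 0, 0, 0, 0],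
    [0, 0, 0, 0, 0, 0, 0, 0, 0, 0, (-1), 0, 0, (-1), 0, 0, (-1), 0, 0, 0, 0, 0, 0, 0, 0, 0, 0, 0, 0, 0, 1, 0, 0, 0, 1, 0, 0, 0, 0, 0, (-1), (-1), 0, 0, (-1), 0, 0, 0, 0, 0, (-1), 0, 0, 0, 0, 0, 0, 0, 0, 0, 0, 0, 0, 0, 0, 0, 0, 0, 0, 0, (-1), 0, 0, 0, 0, 0, 0, 0, 0, 0, 0, 0, 0, 0, 0, 0, 0, 0, 0, 0, 0, 0, 0, (-2), 0, 0, 0, (-1), 0, 0, 0, 0, 0, 0, 0, 0, 0, 0],
    [0, 0, 0, 0, 0, 0, 0, 0, 0, 0, (-1), 0, (-1), (-1), (-1), 0, 0, (-1), 0, 0, 0, 0, 0, 0, 0, 0, 0, 0, 0, 0, (-1), (-1), (-2), (-1), 0, 0, 0, 0, 0, 0, (-1), (-2), (-1), (-2), (-2), 0, 0, 0, 0, 0, (-1), (-3), (-3), (-2), 0, 0, 0, 0, 0, 0, (-1), (-1), (-3), 0, 0, 0, 0, 0, 0, 0, (-2), (-2), 0, 0, 0, 0, 0, 0, 0, 0, (-4), 0, 0, 0, 0, 0, 0, 0, 0, 0, 0, 0, 0, 0, (-2), 0, 0, 0, 0, 0, 0, 0, 0, 0, 0, 0, 0, 0],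
    [0, 0, 0, 0, 0, 0, 0, 0, 0, 0, 0, 0, 0, 0, 0, 0, 0, 0, 0, 0, (-1), 0, 0, 0, 0, 0, 0, 0, 0, 0, 0, 0, 0, 0, 0, 0, 0, 0, 0, 0, 0, 0, 0, 0, 0, 0, 0, 0, 0, 0, 0, 0, 0, 0, 0, 0, 0, 0, 0, 0, 1, 0, 0, 0, 0, 0, 0, 0, 0, 0, 0, 0, 0, 0, 0, 0, 0, 0, 0, 0, 0, 0, 0, 0, 0, 0, 0, 0, 0, 0, 0, 0, 0, 0, 0, (-2), 0, 0, 0, 0, 0, 0, 0, 0, 0, 0, 0, 0],
    [0, 0, 0, 0, 0, 0, 0, 0, 0, 0, 0, 0, 0, 0, 0, 0, 0, 0, 0, 0, (-1), (-1), 0, (-1), 0, (-1), 0, 0, 0, 0, (-1), 0, (-1), 0, (-1), 0, 0, 0, 0, 0, 0, 0, 0, 0, 0, 0, 0, 0, 0, 0, (-1), 0, (-1), (-2), 0, 0, 0, 0, 0, 0, 0, 0, 0, 0, 0, 0, 0, 0, 0, 0, 0, 0, 0, 0, 0, 0, 0, 0, 0, 0, (-2), 0, 0, 0, 0, 0, 0, 0, 0, 0, 0, 0, 0, 0, 0, 0, (-2), 0, 0, 0, 0, 0, 0, 0, 0, 0, 0, 0],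
    [0, 0, 0, 0, 0, 0, 0, 0, 0, 0, 0, 0, 0, 0, 0, 0, 0, 0, 0, 0, 0, 0, 0, 0, 0, 0, 0, 0, 0, 0, 0, 0, 0, 0, 0, 0, 0, 0, 0, 0, 0, 0, 0, 0, 0, 0, 0, 0, 0, 0, 0, 0, 0, 0, 0, 0, 0, 0, 0, 0, 0, 0, 0, 0, 0, 0, 0, 0, 0, 0, 0, 0, 0, 0, 0, 0, 0, 0, 0, 0, 0, 0, 0, 0, 0, 0, 0, 0, 0, 0, 0, 0, 0, 0, 0, 0, 0, (-2), 0, 0, 0, 0, 0, 0, 0, 0, 0, 0],
    [0, 0, 0, 0, 0, 0, 0, 0, 0, 0, 0, 0, 0, 0, 0, 0, 0, 0, 0, 0, (-2), (-2), 0, (-2), 0, (-2), 0, 0, 0, 0, (-1), 0, (-1), 0, (-1), 0, 0, 0, 0, 0, 0, 0, 0, 0, 0, 0, 0, 0, 0, 0, (-1), 0, (-1), (-3), 0, 0, 0, 0, 0, 0, 1, 1, 0, 0, 0, 0, 0, 0, 0, 0, 0, 0, 0, 0, 0, 0, 0, 0, 0, 0, (-3), 0, 0, 0, 0, 0, 0, 0, 0, 0, 0, 0, 0, 0, 0, (-2), (-2), 0, 0, 0, 0, 0, 0, 0, 0, 0, 0, 0],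
    [1, 0, 1, 0, 0, 0, 0, 0, 0, 0, 0, 0, 0, 0, 0, 0, 0, 0, 0, 0, 0, (-1), 0, 0, 1, (-1), 0, 0, 0, 0, (-1), 0, 0, 0, (-1), (-1), 0, 0, 0, 0, 0, 0, 0, 0, 0, 0, 0, 0, 0, 0, 0, 0, 0, 0, 0, 0, 0, 0, 0, 0, 1, 0, 0, 0, 0, 0, 0, 0, 0, 0, (-1), (-2), 0, 0, 0, 0, 0, 0, 0, 0, (-1), 0, 0, 0, 0, 0, 0, 0, 0, 0, 0, 0, 0, 0, 0, 0, 0, 0, 0, (-2), 0, 0, 0, 0, 0, 0, 0, 0],
    [0, 0, 0, 0, 0, 0, 0, 0, 0, 0, 0, 0, 0, 0, 0, 0, 0, 0, 0, 0, 1, 1, 1, 0, 0, 0, 0, 0, 0, 0, 1, 1, 0, 1, 0, 0, 0, 0, 0, 0, 1, 0, 0, 1, 2, 0, 0, 0, 0, 0, (-1), 0, 0, 0, 0, 0, 0, 0, 0, 0, 1, 1, 2, 0, 0, 0, 0, 0, 0, 0, 1, 1, 0, 0, 0, 0, 0, 0, 0, 0, 2, 0, 0, 0, 0, 0, 0, 0, 0, 0, 0, 0, 0, 0, 0, 0, 0, 0, 0, 0, (-2), 0, 0, 0, 0, 0, 0, 0],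
    [0, 0, 0, 0, 0, 0, 0, 0, 0, 0, 0, 0, 0, 0, 0, 0, 0, 0, 0, 0, (-1), 0, (-1), 0, 0, 0, 0, 0, 0, 0, 1, 0, 0, 1, 0, 0, 0, 0, 0, 0, (-1), 0, (-1), 0, (-1), 0, 0, 0, 0, 0, 0, 0, 0, 0, 0, 0, 0, 0, 0, 0, 0, (-2), 1, 0, 0, 0, 0, 0, 0, 0, (-1), (-1), 0, 0, 0, 0, 0, 0, 0, 0, 0, 0, 0, 0, 0, 0, 0, 0, 0, 0, 0, 0, 0, 0, 0, 0, 0, 0, 0, 0, 0, (-2), 0, 0, 0, 0, (-1), 0],
    [(-1), 0, 0, 0, 0, 0, 0, (-1), (-1), 0, 0, 0, 0, 0, 0, 0, 0, 0, 0, 0, 0, 0, 0, 0, 0, 0, 0, 0, 0, 0, 0, 0, 0, 0, 0, 0, 0, 0, 0, 0, 1, 0, 0, 0, 0, 0, 0, 0, 0, 0, 0, 0, 0, 0, 0, 0, 0, 0, 0, 0, (-1), 0, 0, 0, 0, 0, 0, 0, 0, 0, 0, (-1), 0, 0, 0, 0, 0, 0, 0, 0, (-1), 0, 0, 0, 0, 0, 0, 0, 0, 0, 0, 0, 0, 0, 0, 0, 0, 0, 0, 0, 0, 0, (-2), 0, 0, (-1), 0, 0],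
    [0, 0, 0, 0, 0, 0, 0, 0, 0, 0, 0, 0, 0, 0, 0, 0, 0, 0, 0, 0, 0, 0, 0, 0, 0, 0, 0, 0, 0, 0, 0, 0, 0, 0, 0, 0, 0, 0, 0, 0, 0, 0, 0, 0, 0, 0, 0, 0, 0, 0, 0, 0, 0, 0, 0, 0, 0, 0, 0, 0, 0, 0, (-1), 0, 0, 0, 0, 0, 0, 0, 0, 0, 0, 0, 0, 0, 0, 0, 0, 0, (-1), 0, 0, 0, 0, 0, 0, 0, 0, 0, 0, 0, 0, 0, 0, 0, 0, 0, 0, 0, 0, 0, 0, 0, (-2), 0, 0, 0],
    [0, 0, 0, 0, 0, 0, 0, 0, 0, 0, 0, 0, 0, 0, 0, 0, 0, 0, 0, 0, 0, 0, 0, 0, 0, 0, 0, 0, 0, 0, 0, 0, 0, 0, 0, 0, 0, 0, 0, 0, 0, 0, 0, 0, 0, 0, 0, 0, 0, 0, 0, 0, 0, 0, 0, 0, 0, 0, 0, 0, (-1), 0, 0, 0, 0, 0, 0, 0, 0, 0, 1, 0, 0, 0, 0, 0, 0, 0, 0, 0, 0, 0, 0, 0, 0, 0, 0, 0, 0, 0, 0, 0, 0, 0, 0, 0, 0, 0, 0, 0, 0, 0, 0, 0, 0, (-2), 0, 0],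
    [0, 0, 0, 0, 0, 0, 0, 0, 0, 0, 0, 0, 0, 0, 0, 0, 0, 0, 0, 0, 0, 0, 0, 0, 0, 0, 0, 0, 0, 0, 0, 0, 0, 0, 0, 0, 0, 0, 0, 0, 0, 0, 0, 0, 0, 0, 0, 0, 0, 0, 0, 0, 0, 0, 0, 0, 0, 0, 0, 0, (-1), (-1), (-1), 0, 0, 0, 0, 0, 0, 0, (-1), (-1), 0, 0, 0, 0, 0, 0, 0, 0, 0, 0, 0, 0, 0, 0, 0, 0, 0, 0, 0, 0, 0, 0, 0, 0, 0, 0, 0, 0, 0, 0, 0, 0, 0, 0, (-2), 0],
    [1, 0, 2, 1, 1, 0, 0, 0, 0, 0, 0, 0, 0, 0, 0, 0, 0, 0, 0, 0, 1, 1, 2, (-1), 2, (-1), 0, 0, 0, 0, 0, 1, (-1), 2, (-1), (-2), 0, 0, 0, 0, 1, 0, 1, 2, 3, 0, 0, 0, 0, 0, (-1), 0, (-1), 0, 0, 0, 0, 0, 0, 0, 3, 1, 3, 0, 0, 0, 0, 0, 0, 0, 1, (-1), 0, 0, 0, 0, 0, 0, 0, 0, 1, 0, 0, 0, 0, 0, 0, 0, 0, 0, 0, 0, 0, 0, 0, 0, 0, 0, 0, (-2), (-2), 0, 0, 0, 0, 0, 0, 0],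
    [0, 0, 0, (-1), 1, 0, (-1), (-1), (-1), 0, 0, 0, 0, 0, 0, 0, 0, 0, 0, 0, 0, (-1), 1, 0, 0, (-1), (-1), 0, 0, 0, (-1), 0, 0, 0, (-2), (-2), 0, 0, 0, 0, 1, 0, 0, 0, 0, 0, 0, 0, 0, 0, 0, 0, 0, 0, 0, 0, 0, 0, 0, 0, (-1), (-1), 0, 0, 0, 0, 0, 0, 0, 0, (-1), (-2), 0, 0, 0, 0, 0, 0, 0, 0, (-2), 0, 0, 0, 0, 0, 0, 0, 0, 0, 0, 0, 0, 0, 0, 0, 0, 0, 0, (-2), 0, 0, (-2), 0, (-1), (-2), (-1), 0],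
    [(-1), 0, (-1), 0, (-1), 0, (-1), 0, (-1), 0, 0, 0, 0, 0, 0, 0, 0, 0, 0, 0, (-1), 0, (-1), 0, (-1), (-1), (-1), 0, 0, 0, 1, 1, 0, 1, 0, 0, 0, 0, 0, 0, 0, 0, 0, (-1), (-2), 0, 0, 0, 0, 0, 0, 0, 0, 0, 0, 0, 0, 0, 0, 0, (-2), (-3), 2, 0, 0, 0, 0, 0, 0, 0, (-1), (-1), 0, 0, 0, 0, 0, 0, 0, 0, (-1), 0, 0, 0, 0, 0, 0, 0, 0, 0, 0, 0, 0, 0, 0, 0, 0, 0, 0, 0, 0, (-2), (-2), 0, (-1), (-2), (-2), 0],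
    [(-1), 0, 0, 0, 0, 0, (-1), (-2), (-2), 0, 0, 0, 0, 0, 0, 0, 0, 0, 0, 0, 0, 0, 0, 0, 0, 0, 0, 0, 0, 0, 0, 0, 0, 0, 0, 0, 0, 0, 0, 0, 1, 0, 0, 0, 1, 0, 0, 0, 0, 0, 0, 0, 0, 0, 0, 0, 0, 0, 0, 0, (-2), 0, 0, 0, 0, 0, 0, 0, 0, 0, (-1), (-2), 0, 0, 0, 0, 0, 0, 0, 0, (-1), 0, 0, 0, 0, 0, 0, 0, 0, 0, 0, 0, 0, 0, 0, 0, 0, 0, 0, 0, 0, 0, (-2), 0, 0, (-1), (-2), 0]]

def lamL : List (List ℤ) := [[0, 0, 0, 0, 0, 0, 0, 0, 0, 0, 0, 0, 0, 0, 0, 0, 0, 0, 0, 0, 0, 0, 0, 0, 0, 0, 0, 0, 0, 0, 0, 0, 0, 0, 0, 0, 0, 0, 0, 0, 0, 0, 0, 0, 0, 0, 0, 0, 0, 0, 0, 0, 0, 0, 0, 0, 0, 0, 0, 0, 0, 0, 0, 0, 0, 0, 0, 0, 0, 0, 0, 0, 0, 0, 0, 0, 0, 0, 0, 0, 0, 0, 0, 0, 0, 0, 0, 0, 0, 0, 0, 0, 0, 0, 0, 0, 0, 0, 0, 0, 0, 0, 0, 0, 0, 0, 0, 0],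
    [0, 0, 0, 0, 0, 0, 0, 0, 0, 0, 0, 0, 0, 0, 0, 0, 0, 0, 0, 0, 0, 0, 0, 0, 0, 0, 0, 0, 0, 0, 0, 0, 0, 0, 0, 0, 0, 0, 0, 0, 0, 0, 0, 0, 0, 0, 0, 0, 0, 0, 0, 0, 0, 0, 0, 0, 0, 0, 0, 0, 0, 0, 0, 0, 0, 0, 0, 0, 0, 0, 0, 0, 0, 0, 0, 0, 0, 0, 0, 0, 0, 0, 0, 0, 0, 0, 0, 0, 0, 0, 0, 0, 0, 0, 0, 0, 0, 0, 0, 0, 0, 0, 0, 0, 0, 0, 0, 0],
    [0, 1, 0, 0, 0, 0, 0, 0, 0, 0, 1, 0, 0, 0, 0, 0, 0, 0, 0, 0, 0, 0, 0, 0, 0, 0, 0, 0, 0, 0, 0, 0, 0, 0, 0, 0, 0, 0, 0, 0, 0, 0, 0, 0, 0, 0, 0, 0, 0, 0, 0, 0, 0, 0, 0, 0, 0, 0, 0, 0, 0, 0, 0, 0, 0, 0, 0, 0, 0, 0, 0, 0, 0, 0, 0, 0, 0, 0, 0, 0, 0, 0, 0, 0, 0, 0, 0, 0, 0, 0, 0, 0, 0, 0, 0, 0, 0, 0, 0, 0, 0, 0, 0, 0, 0, 0, 0, 0],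
    [0, 0, 0, 0, 0, 0, 0, 0, 0, 0, 0, 0, 0, 0, 0, 0, 0, 0, 0, 0, 0, 0, 0, 0, 0, 0, 0, 0, 0, 0, 0, 0, 0, 0, 0, 0, 0, 0, 0, 0, 0, 0, 0, 0, 0, 0, 0, 0, 0, 0, 0, 0, 0, 0, 0, 0, 0, 0, 0, 0, 0, 0, 0, 0, 0, 0, 0, 0, 0, 0, 0, 0, 0, 0, 0, 0, 0, 0, 0, 0, 0, 0, 0, 0, 0, 0, 0, 0, 0, 0, 0, 0, 0, 0, 0, 0, 0, 0, 0, 0, 0, 0, 0, 0, 0, 0, 0, 0],
    [0, 0, 0, 0, 0, 0, 0, 0, 0, 0, 0, 0, 0, 0, 0, 0, 0, 0, 0, 0, 0, 0, 0, 0, 0, 0, 0, 0, 0, 0, 0, 0, 0, 0, 0, 0, 0, 0, 0, 0, 0, 0, 0, 0, 0, 0, 0, 0, 0, 0, 0, 0, 0, 0, 0, 0, 0, 0, 0, 0, 0, 0, 0, 0, 0, 0, 0, 0, 0, 0, 0, 0, 0, 0, 0, 0, 0, 0, 0, 0, 0, 0, 0, 0, 0, 0, 0, 0, 0, 0, 0, 0, 0, 0, 0, 0, 0, 0, 0, 0, 0, 0, 0, 0, 0, 0, 0, 0],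
    [0, 0, 0, 0, 0, 0, 0, 0, 0, 0, 1, 0, 0, 0, 0, 0, 0, 0, 0, 0, 0, 0, 0, 0, 0, 0, 0, 0, 0, 0, 0, 0, 0, 0, 0, 0, 0, 0, 0, 0, 0, 0, 0, 0, 0, 0, 0, 0, 0, 0, 0, 0, 0, 0, 0, 0, 0, 0, 0, 0, 0, 0, 0, 0, 0, 0, 0, 0, 0, 0, 0, 0, 0, 0, 0, 0, 0, 0, 0, 0, 0, 0, 0, 0, 0, 0, 0, 0, 0, 0, 0, 0, 0, 0, 0, 0, 0, 0, 0, 0, 0, 0, 0, 0, 0, 0, 0, 0],
    [1, 0, 0, 0, 0, 0, 0, 0, 0, 0, 0, 0, 0, 0, 0, 0, 0, 0, 0, 0, 0, 0, 0, 0, 0, 0, 0, 0, 0, 0, 0, 0, 0, 0, 0, 0, 0, 0, 0, 0, 0, 0, 0, 0, 0, 0, 0, 0, 0, 0, 0, 0, 0, 0, 0, 0, 0, 0, 0, 0, 0, 0, 0, 0, 0, 0, 0, 0, 0, 0, 0, 0, 0, 0, 0, 0, 0, 0, 0, 0, 0, 0, 0, 0, 0, 0, 0, 0, 0, 0, 0, 0, 0, 0, 0, 0, 0, 0, 0, 0, 0, 0, 0, 0, 0, 0, 0, 0],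
    [0, 0, 0, 1, 0, 0, 0, 0, 0, 0, 0, 0, 0, 0, 0, 0, 0, 0, 0, 0, 0, 0, 0, 0, 0, 0, 0, 0, 0, 0, 0, 0, 0, 0, 0, 0, 0, 0, 0, 0, 0, 0, 0, 0, 0, 0, 0, 0, 0, 0, 0, 0, 0, 0, 0, 0, 0, 0, 0, 0, 0, 0, 0, 0, 0, 0, 0, 0, 0, 0, 0, 0, 0, 0, 0, 0, 0, 0, 0, 0, 0, 0, 0, 0, 0, 0, 0, 0, 0, 0, 0, 0, 0, 0, 0, 0, 0, 0, 0, 0, 0, 0, 0, 0, 0, 0, 0, 0],
    [1, 0, 0, 0, 0, 0, 0, 0, 0, 0, 0, 1, 0, 0, 0, 0, 0, 0, 0, 0, 0, 0, 0, 0, 0, 0, 0, 0, 0, 0, 0, 0, 0, 0, 0, 0, 0, 0, 0, 0, 0, 0, 0, 0, 0, 0, 0, 0, 0, 0, 0, 0, 0, 0, 0, 0, 0, 0, 0, 0, 0, 0, 0, 0, 0, 0, 0, 0, 0, 0, 0, 0, 0, 0, 0, 0, 0, 0, 0, 0, 0, 0, 0, 0, 0, 0, 0, 0, 0, 0, 0, 0, 0, 0, 0, 0, 0, 0, 0, 0, 0, 0, 0, 0, 0, 0, 0, 0]]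

def y1L : List (List (ℕ × ℤ)) := [[],
    [],
    [],
    [],
    [(2, 1), (5, 1), (8, 1), (9, 1), (10, 1), (11, 1), (13, 1), (15, 1), (19, 1), (22, 1), (24, 1), (28, 1), (35, 1), (36, 1), (37, 1), (42, 1), (48, 1), (54, 1), (56, 1), (57, 1), (58, 1), (61, 1), (62, 1), (64, 1)],
    [(5, 1), (17, 1), (22, 1), (26, 1), (44, 1), (53, 1)],
    [(0, 1)],
    [(2, 1), (6, 1), (9, 1), (13, 1), (17, 1), (19, 1), (20, 1), (28, 1), (35, 1), (38, 1), (42, 1), (44, 1), (48, 1), (53, 1), (54, 1), (57, 1), (61, 1)],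
    [(6, 1), (11, 1), (15, 1), (26, 1), (27, 1), (37, 1), (61, 1)],
    [],
    [],
    [],
    [(2, 1), (3, 1), (4, 1), (6, 1), (7, 1), (8, 1), (10, 1), (11, 1), (15, 1), (17, 1), (26, 1), (27, 1), (36, 1), (38, 1), (40, 1), (41, 1), (42, 1), (45, 1), (48, 1), (52, 1), (53, 1), (57, 1), (59, 1), (61, 1), (62, 1), (65, 1), (66, 1)],
    [(1, 1), (2, 1), (4, 1), (5, 1), (7, 1), (8, 1), (9, 1), (10, 1), (20, 1), (24, 1), (26, 1), (27, 1), (28, 1), (35, 1), (37, 1), (38, 1), (40, 1), (41, 1), (42, 1), (45, 1), (48, 1), (54, 1), (56, 1), (57, 1), (58, 1), (59, 1), (65, 1), (66, 1)],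
    [(1, 1)],
    [(1, 1), (2, 1), (3, 1), (4, 1), (5, 1), (11, 1), (13, 1), (17, 1), (19, 1), (20, 1), (26, 1), (28, 1), (35, 1), (38, 1), (42, 1), (44, 1), (48, 1), (53, 1), (54, 1), (57, 1), (61, 1), (62, 1)],
    [(2, 1), (6, 1), (13, 1), (15, 1), (17, 1), (19, 1), (24, 1), (44, 1), (53, 1), (54, 1), (57, 1), (61, 1)],
    [(2, 1), (3, 1), (6, 1), (11, 1), (13, 1), (15, 1), (17, 1), (19, 1), (20, 1), (22, 1), (28, 1), (35, 1), (38, 1), (42, 1), (44, 1), (48, 1), (53, 1), (54, 1), (57, 1), (62, 1)],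
    [],
    [],
    [(2, 1), (3, 1), (6, 1), (13, 1), (17, 1), (19, 1), (20, 1), (28, 1), (35, 1), (38, 1), (42, 1), (44, 1), (48, 1), (54, 1), (57, 1), (61, 1), (62, 1)],
    [(1, 1), (2, 1), (3, 1), (4, 1), (5, 1), (15, 1), (19, 1), (20, 1), (22, 1), (24, 1), (28, 1), (35, 1), (42, 1), (44, 1), (48, 1), (56, 1), (57, 1), (61, 1), (62, 1)],
    [(1, 1), (2, 1), (4, 1), (6, 1), (10, 1), (11, 1), (17, 1), (19, 1), (24, 1), (35, 1), (36, 1), (37, 1), (42, 1), (44, 1), (48, 1), (54, 1), (57, 1), (61, 1), (62, 1)],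
    [(1, 1), (2, 1), (3, 1), (4, 1), (5, 1), (13, 1), (19, 1), (20, 1), (22, 1), (26, 1), (28, 1), (35, 1), (38, 1), (42, 1), (44, 1), (48, 1), (53, 1), (54, 1), (57, 1), (62, 1)],
    [(2, 1), (3, 1), (13, 1), (17, 1), (19, 1), (20, 1), (28, 1), (35, 1), (38, 1), (42, 1), (44, 1), (48, 1), (53, 1), (54, 1), (57, 1), (61, 1), (62, 1)],
    [(24, 1), (38, 1)],
    [(15, 1), (27, 1), (61, 1)],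
    [],
    [],
    [],
    [(1, 1), (3, 1), (4, 1), (5, 1), (7, 1), (11, 1), (15, 1), (19, 1), (20, 1), (22, 1), (26, 1), (27, 1), (28, 1), (35, 1), (37, 1), (38, 1), (42, 1), (44, 1), (48, 1), (56, 1), (61, 1), (62, 1)],
    [(1, 1), (2, 1), (3, 1), (4, 1), (6, 1), (7, 1), (9, 1), (10, 1), (13, 1), (20, 1), (24, 1), (26, 1), (27, 1), (36, 1), (38, 1), (53, 1), (57, 1), (59, 1), (65, 1), (66, 1)],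
    [(1, 1), (2, 1), (4, 1), (5, 1), (15, 1), (17, 1), (22, 1), (24, 1), (26, 1), (44, 1), (53, 1), (54, 1), (57, 1), (62, 1)],
    [(3, 1), (8, 1), (9, 1)],
    [(2, 1), (3, 1), (7, 1), (11, 1), (13, 1), (15, 1), (17, 1), (19, 1), (20, 1), (26, 1), (27, 1), (28, 1), (35, 1), (37, 1), (38, 1), (42, 1), (44, 1), (48, 1), (53, 1), (54, 1), (57, 1)],
    [(2, 1)],
    [],
    [],
    [],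
    [],
    [(2, 1), (3, 1), (8, 1), (17, 1), (19, 1), (20, 1), (24, 1), (42, 1), (48, 1), (54, 1), (57, 1), (58, 1), (59, 1), (61, 1), (65, 1), (66, 1)],
    [(3, 1), (9, 1), (10, 1), (24, 1), (26, 1), (42, 1), (44, 1), (48, 1)],
    [(3, 1), (9, 1), (10, 1)],
    [(3, 1)],
    [(2, 1), (6, 1), (9, 1), (10, 1), (13, 1), (17, 1), (19, 1), (20, 1), (24, 1), (35, 1), (42, 1), (44, 1), (48, 1), (53, 1), (54, 1), (57, 1), (62, 1)],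
    [],
    [],
    [],
    [],
    [],
    [(2, 1), (3, 1), (6, 1), (13, 1), (17, 1), (19, 1), (20, 1), (28, 1), (35, 1), (38, 1), (42, 1), (48, 1), (53, 1), (54, 1), (57, 1), (61, 1), (62, 1)],
    [(2, 1), (3, 1), (6, 1), (11, 1), (13, 1), (17, 1), (19, 1), (20, 1), (28, 1), (35, 1), (38, 1), (42, 1), (44, 1), (48, 1), (53, 1), (54, 1), (57, 1), (61, 1), (62, 1)],
    [(24, 1)],
    [(26, 1)],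
    [],
    [],
    [],
    [],
    [],
    [],
    [(2, 1), (3, 1), (6, 1), (13, 1), (17, 1), (19, 1), (20, 1), (28, 1), (35, 1), (38, 1), (42, 1), (44, 1), (48, 1), (53, 1), (54, 1), (57, 1), (61, 1), (62, 1)],
    [(13, 1)],
    [(15, 1)],
    [],
    [],
    [],
    [],
    [],
    [],
    [],
    [(2, 1), (3, 1), (6, 1), (13, 1), (17, 1), (19, 1), (20, 1), (28, 1), (35, 1), (38, 1), (42, 1), (44, 1), (48, 1), (53, 1), (54, 1), (57, 1), (61, 1)],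
    [(35, 1)],
    [],
    [],
    [],
    [],
    [],
    [],
    [],
    [],
    [(15, 1), (61, 1)]]

def y2L : List (List (ℕ × ℤ)) := [[],
    [],
    [(0, 2), (1, 2), (3, 2), (5, 2), (10, 2), (12, 3), (13, 1), (14, 3), (15, 1), (18, 2), (19, 2), (20, 2), (23, 2), (24, 2), (25, 2), (26, 2), (28, 2), (29, 2), (30, 2), (32, 1), (33, 2), (34, 3), (35, 3), (36, 2), (37, 2), (46, 2), (47, 2), (49, 2), (51, 2), (56, 2), (59, 2), (61, 2), (62, 3), (63, 1), (67, 2)],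
    [],
    [(1, 2), (2, 2), (5, 2), (6, 2), (7, 2), (8, 2), (14, 2), (15, 2), (18, 2), (19, 2), (20, 2), (31, 2), (33, 2), (35, 2), (36, 2), (37, 2), (38, 2), (39, 2), (44, 2), (46, 2), (47, 2), (49, 2), (51, 2), (54, 2), (56, 2), (57, 2), (58, 2), (62, 2), (64, 2)],
    [(2, 2), (3, 2), (6, 2), (9, 2), (10, 2), (12, 1), (13, 3), (14, 3), (15, 1), (16, 2), (17, 2), (18, 2), (19, 2), (21, 2), (22, 2), (28, 2), (29, 2), (30, 2), (31, 2), (32, 1), (34, 3), (35, 1), (36, 2), (38, 2), (42, 2), (43, 2), (48, 2), (53, 2), (56, 2), (59, 2), (60, 2), (62, 3), (63, 1)],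
    [(0, 2)],
    [(5, 2), (10, 2), (12, 3), (13, 1), (14, 3), (15, 1), (16, 2), (17, 2), (20, 2), (21, 2), (22, 2), (31, 2), (32, 1), (33, 2), (34, 3), (35, 3), (36, 2), (38, 2), (42, 2), (44, 2), (46, 2), (47, 2), (48, 2), (53, 2), (54, 2), (56, 2), (57, 2), (59, 2), (60, 2), (62, 3), (63, 1)],
    [(37, 2), (43, 2), (50, 2)],
    [],
    [],
    [],
    [(1, 2), (4, 2), (5, 2), (6, 2), (12, 3), (13, 1), (14, 1), (15, 3), (16, 2), (17, 2), (28, 2), (29, 2), (32, 1), (34, 1), (35, 3), (38, 2), (39, 2), (44, 2), (49, 2), (52, 2), (54, 2), (55, 1), (56, 2), (60, 2), (62, 3), (63, 1), (65, 2), (66, 2)],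
    [(1, 2), (2, 2), (4, 2), (5, 2), (7, 2), (8, 2), (12, 2), (13, 2), (14, 2), (15, 2), (18, 2), (19, 2), (23, 2), (24, 2), (34, 2), (35, 2), (38, 2), (39, 2), (42, 2), (43, 2), (48, 2), (51, 2), (53, 2), (55, 1), (56, 2), (58, 2), (59, 2), (62, 2), (65, 2), (66, 2)],
    [(1, 2)],
    [(4, 2), (5, 2), (9, 2), (10, 2), (16, 2), (17, 2), (18, 2), (19, 2), (21, 2), (22, 2), (34, 2), (35, 2), (42, 2), (44, 2), (48, 2), (49, 2), (50, 2), (51, 2), (53, 2), (54, 2), (57, 2), (62, 2)],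
    [(1, 2), (5, 2), (7, 2), (8, 2), (9, 2), (12, 3), (13, 1), (14, 3), (15, 1), (16, 2), (17, 2), (20, 2), (21, 2), (22, 2), (23, 2), (24, 2), (25, 2), (26, 2), (31, 2), (32, 1), (33, 2), (34, 3), (35, 3), (36, 2), (37, 2), (38, 2), (43, 2), (44, 2), (46, 2), (47, 2), (49, 2), (50, 2), (51, 2), (53, 2), (54, 2), (56, 2), (57, 2), (59, 2), (60, 2), (62, 3), (63, 1)],
    [(0, 2), (3, 2), (5, 2), (9, 2), (12, 3), (13, 1), (14, 1), (15, 3), (16, 2), (17, 2), (20, 2), (23, 2), (24, 2), (25, 2), (26, 2), (28, 2), (29, 2), (31, 2), (32, 1), (33, 2), (34, 1), (35, 1), (36, 2), (37, 2), (42, 2), (44, 2), (46, 2), (47, 2), (48, 2), (53, 2), (54, 2), (56, 2), (57, 2), (59, 2), (62, 1), (63, 1), (67, 2)],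
    [],
    [],
    [(0, 2), (3, 2), (5, 2), (9, 2), (12, 3), (13, 1), (14, 3), (15, 1), (16, 2), (17, 2), (20, 2), (21, 2), (22, 2), (23, 2), (24, 2), (28, 2), (29, 2), (31, 2), (32, 1), (33, 2), (34, 1), (35, 1), (36, 2), (37, 2), (42, 2), (43, 2), (44, 2), (46, 2), (47, 2), (48, 2), (54, 2), (56, 2), (57, 2), (59, 2), (61, 2), (62, 1), (63, 1), (67, 2)],
    [(4, 2), (5, 2), (9, 2), (10, 2), (12, 2), (13, 2), (14, 2), (15, 2), (18, 2), (19, 2), (23, 2), (24, 2), (34, 2), (35, 2), (38, 2), (42, 2), (43, 2), (44, 2), (48, 2), (49, 2), (51, 2), (56, 2), (57, 2), (62, 2)],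
    [(1, 2), (2, 2), (4, 2), (5, 2), (6, 2), (7, 2), (8, 2), (12, 3), (13, 1), (14, 1), (15, 3), (16, 2), (17, 2), (21, 2), (22, 2), (23, 2), (24, 2), (28, 2), (29, 2), (32, 1), (34, 3), (35, 1), (38, 2), (54, 2), (56, 2), (57, 2), (59, 2), (60, 2), (62, 1), (63, 1)],
    [(4, 2), (5, 2), (9, 2), (10, 2), (18, 2), (19, 2), (25, 2), (26, 2), (34, 2), (35, 2), (42, 2), (43, 2), (44, 2), (48, 2), (49, 2), (51, 2), (53, 2), (54, 2), (57, 2), (61, 2), (62, 2)],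
    [(0, 2), (3, 2), (5, 2), (9, 2), (12, 3), (13, 1), (14, 3), (15, 1), (16, 2), (17, 2), (20, 2), (21, 2), (22, 2), (23, 2), (24, 2), (25, 2), (26, 2), (28, 2), (29, 2), (30, 2), (32, 1), (33, 2), (34, 1), (35, 1), (36, 2), (37, 2), (42, 2), (43, 2), (44, 2), (46, 2), (47, 2), (48, 2), (50, 2), (53, 2), (54, 2), (56, 2), (57, 2), (59, 2), (62, 1), (63, 1), (67, 2)],
    [(23, 2), (24, 2), (38, 2)],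
    [(25, 2), (26, 2), (30, 2), (31, 2)],
    [],
    [],
    [],
    [(1, 2), (2, 2), (4, 2), (7, 2), (8, 2), (10, 2), (12, 3), (13, 1), (14, 1), (15, 3), (20, 2), (23, 2), (24, 2), (31, 2), (32, 1), (33, 2), (34, 1), (35, 1), (36, 2), (39, 2), (42, 2), (44, 2), (46, 2), (47, 2), (48, 2), (50, 2), (59, 2), (60, 2), (62, 1), (63, 1)],
    [(0, 2), (1, 2), (4, 2), (6, 2), (9, 2), (12, 2), (13, 2), (14, 2), (15, 2), (20, 2), (23, 2), (24, 2), (28, 2), (29, 2), (31, 2), (33, 2), (35, 2), (36, 2), (37, 2), (39, 2), (42, 2), (43, 2), (44, 2), (46, 2), (47, 2), (48, 2), (50, 2), (53, 2), (57, 2), (59, 2), (60, 2), (65, 2), (66, 2), (67, 2)],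
    [(1, 2), (2, 2), (4, 2), (5, 2), (14, 2), (15, 2), (16, 2), (17, 2), (21, 2), (22, 2), (23, 2), (24, 2), (25, 2), (26, 2), (44, 2), (50, 2), (53, 2), (54, 2), (57, 2), (61, 2), (62, 2)],
    [(12, 2), (13, 2), (14, 2), (15, 2), (23, 2), (24, 2), (34, 2), (35, 2), (37, 2), (38, 2), (39, 2), (43, 2), (50, 2)],
    [(5, 2), (7, 2), (8, 2), (10, 2), (12, 1), (13, 3), (14, 1), (15, 3), (16, 2), (17, 2), (20, 2), (21, 2), (22, 2), (23, 2), (24, 2), (31, 2), (32, 1), (33, 2), (34, 1), (35, 1), (36, 2), (39, 2), (42, 2), (44, 2), (46, 2), (47, 2), (48, 2), (53, 2), (54, 2), (56, 2), (57, 2), (59, 2), (60, 2), (62, 3), (63, 1)],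
    [(2, 2)],
    [],
    [],
    [],
    [],
    [(0, 2), (1, 2), (3, 2), (14, 2), (15, 2), (16, 2), (17, 2), (18, 2), (19, 2), (21, 2), (22, 2), (23, 2), (24, 2), (38, 2), (39, 2), (42, 2), (43, 2), (48, 2), (49, 2), (50, 2), (51, 2), (54, 2), (57, 2), (58, 2), (59, 2), (60, 2), (65, 2), (66, 2), (67, 2)],
    [(3, 2), (9, 2), (10, 2), (23, 2), (24, 2), (25, 2), (26, 2), (42, 2), (44, 2), (48, 2)],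
    [(3, 2), (9, 2), (10, 2)],
    [(3, 2)],
    [(0, 2), (5, 2), (10, 2), (12, 3), (13, 1), (14, 3), (15, 1), (16, 2), (17, 2), (20, 2), (21, 2), (22, 2), (31, 2), (32, 1), (33, 2), (34, 1), (35, 1), (36, 2), (37, 2), (38, 2), (42, 2), (43, 2), (44, 2), (46, 2), (47, 2), (48, 2), (50, 2), (53, 2), (54, 2), (56, 2), (57, 2), (59, 2), (62, 1), (63, 1), (67, 2)],
    [],
    [],
    [],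
    [],
    [],
    [(0, 2), (3, 2), (5, 2), (9, 2), (12, 3), (13, 1), (14, 3), (15, 1), (16, 2), (17, 2), (20, 2), (21, 2), (22, 2), (23, 2), (24, 2), (28, 2), (29, 2), (31, 2), (32, 1), (33, 2), (34, 1), (35, 1), (36, 2), (37, 2), (42, 2), (43, 2), (46, 2), (47, 2), (48, 2), (53, 2), (54, 2), (56, 2), (57, 2), (59, 2), (61, 2), (62, 1), (63, 1), (67, 2)],
    [(0, 2), (3, 2), (5, 2), (9, 2), (12, 3), (13, 1), (14, 3), (15, 1), (16, 2), (17, 2), (20, 2), (21, 2), (22, 2), (23, 2), (24, 2), (25, 2), (26, 2), (28, 2), (29, 2), (31, 2), (32, 1), (33, 2), (34, 1), (35, 1), (36, 2), (37, 2), (42, 2), (44, 2), (46, 2), (47, 2), (48, 2), (53, 2), (54, 2), (56, 2), (57, 2), (59, 2), (62, 1), (63, 1), (67, 2)],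
    [(23, 2), (24, 2)],
    [(25, 2), (26, 2)],
    [],
    [],
    [],
    [],
    [],
    [],
    [(0, 2), (3, 2), (5, 2), (9, 2), (12, 3), (13, 1), (14, 3), (15, 1), (16, 2), (17, 2), (20, 2), (21, 2), (22, 2), (23, 2), (24, 2), (28, 2), (29, 2), (31, 2), (32, 1), (33, 2), (34, 1), (35, 1), (36, 2), (37, 2), (42, 2), (43, 2), (44, 2), (46, 2), (47, 2), (48, 2), (53, 2), (54, 2), (56, 2), (57, 2), (59, 2), (61, 2), (62, 1), (63, 1), (67, 2)],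
    [(12, 2), (13, 2)],
    [(14, 2), (15, 2)],
    [],
    [],
    [],
    [],
    [],
    [],
    [],
    [(0, 2), (3, 2), (5, 2), (9, 2), (12, 3), (13, 1), (14, 3), (15, 1), (16, 2), (17, 2), (20, 2), (21, 2), (22, 2), (23, 2), (24, 2), (28, 2), (29, 2), (31, 2), (32, 1), (33, 2), (34, 1), (35, 1), (36, 2), (37, 2), (42, 2), (43, 2), (44, 2), (46, 2), (47, 2), (48, 2), (53, 2), (54, 2), (56, 2), (57, 2), (59, 2), (61, 2), (62, 3), (63, 1), (67, 2)],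
    [(34, 2), (35, 2)],
    [],
    [],
    [],
    [],
    [],
    [],
    [],
    [],
    [(14, 2), (15, 2), (61, 2)]]

def C : Cert where
  D := { p := 2, n := 9, pwL := [[6], [5], [], [8], [7], [], [], [], []], cmL := [[], [2, 5], [6], [7], [7], [6], [], [], [], [], [], [6, 8], [6, 7, 8], [5, 7, 8], [], [8], [], [], [], [], [], [8], [6, 8], [8], [], [], [], [], [], [], [], [6, 7, 8], [8], [], [], [], [], [], [], [], [], [], [], [], [], [], [], [], [], [], [], [], [], [], [], [], [], [], [], [], [], [], [], [], [], [], [], [], [], [], [], [], [], [], [], [], [], [], [], [], []] }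
  k := 1
  f := 45
  R := 9
  fus := [([[1], [2, 3], [3], [4], [5], [6], [7], [8]], [[1, 2, 7], [2, 3, 6, 8], [1, 4, 5, 7], [4, 5, 7, 8], [5, 6, 8], [5], [7], [8]]), ([[0, 4], [1, 4, 5], [2], [3, 7], [5], [6], [7], [8]], [[0, 1], [3, 6], [2, 6, 8], [1, 4, 7], [1, 3, 4, 5, 8], [2], [2, 3, 5, 7], [8]]), ([[0, 2], [2, 3, 4], [3, 6], [4], [5], [6], [7], [8]], [[2, 3, 7], [5], [2, 4], [0, 7, 8], [2, 3, 4, 5, 7, 8], [6, 8], [6], [6, 7, 8]])]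
  specs := specsL
  relV := relVL
  lam := lamL
  j0 := 2
  mu := [0, 0, 1, 0, 0, 1, 0, 1, 0, 0, 0, 0, 0, 1, 0, 0, 1, 1, 0, 0, 1, 0, 1, 0, 1, 0, 0, 0, 0, 0, 1, 0, 0, 0, 1, 0, 0, 0, 0, 0, 0, 0, 0, 0, 1, 0, 0, 0, 0, 0, 1, 1, 0, 0, 0, 0, 0, 0, 0, 0, 1, 0, 0, 0, 0, 0, 0, 0, 0, 0, 1, 0, 0, 0, 0, 0, 0, 0, 0, 0, 0]
  y1 := y1L
  y2 := y2L

theorem hC : C.check = true := by decide +kernel

def tx : ℕ → ℕ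
  | 0 => N53
  | 1 => N58
  | 2 => N63
  | 3 => N68
  | 4 => N72
  | 5 => N79
  | 6 => N83
  | 7 => N87
  | 8 => N91
  | _ => 0

def tg : ℕ → ℕ
  | 0 => N108
  | 1 => N45
  | 2 => N122
  | _ => 0

theorem hx : ∀ a < C.D.n, Tabled KK 6 (tx a) := by
  intro a ha
  have ha' : a < 9 := ha
  interval_cases a
  · exact h53
  · exact h58
  · exact h63
  · exact h68
  · exact h72
  · exact h79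
  · exact h83
  · exact h87
  · exact h91

theorem hg : ∀ i < C.fus.length, Tabled KK 6 (tg i) := by
  intro a ha
  have ha' : a < 3 := ha
  interval_cases a
  · exact h108
  · exact h45
  · exact h122

theorem hpc : pcChk 64 6 C.D tx = true := by decide +kernel

theorem hfus : fusChk 64 6 C tx tg = true := by decide +kernel

theorem hinj : injChk 64 6 C.D tx [1, 16, 32] = true := by decide +kernel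

theorem lb : LocalBound KK 2 1 :=
  Cfsg.Agent.Lib.Helper17PCTab.ub_tab KK C (by norm_num [C]) hC 6 tx tg [1, 16, 32] hx hg hpc hfus hinj (by rw [Cfsg.Agent.Lib.Helper10Sp6Card.card_K64]; norm_num [C])

end Cfsg.Agent.Lib.Helper10MSp6P2
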