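import Cfsg.Agent.Lib.Helper17PCTab
import Cfsg.Agent.Lib.Helper10Sp6Gens
import Cfsg.Agent.Lib.Helper10Sp6Card

set_option autoImplicit false
set_option maxRecDepth 1000000
set_option maxHeartbeats 0

namespace Cfsg.Agent.Lib.Helper10MSp6P3

open Cfsg Cfsg.Agent.Lib.Helper63PCDefs Cfsg.Agent.Lib.Helper63PCTabDefs Cfsg.Agent.Lib.Helper10Sp6Defs Cfsg.Agent.Lib.Helper10Sp6Gens

local notation "KK" => K64

def N2 : ℕ := 0xb65d7da61c79ba6dbeaa2cbaae3cfbbe7dffa20c38b24d3c45924155d34549a28259e3865df3c74db2c351c304418200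
theorem h2 : Tabled KK 6 N2 := Cfsg.Agent.Lib.Helper17PCTab.Tabled.mul ha hb (by decide +kernel)
def N3 : ℕ := 0xa48a8bd97d54b4cb8fc93c50e19eda9c6905f1dfde8c2801a09acadd6d15b0dbcecd2c11e58e9b987944f5cf9f883840
theorem h3 : Tabled KK 6 N3 := Cfsg.Agent.Lib.Helper17PCTab.Tabled.mul h2 ha (by decide +kernel)
def N4 : ℕ := 0xcf0db5df4cb18e09a59e48a1becaa9ae8badffceb9ef8fbd38d2c82893cc79d6d86997dc4915d45954d00811c41850c0
theorem h4 : Tabled KK 6 N4 := Cfsg.Agent.Lib.Helper17PCTab.Tabled.mul h3 hb (by decide +kernel)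
def N5 : ℕ := 0xdc39d3992d82cc78d7896c86e4da5da1ce0cf49b59b18f08fcbbdbb9af8aecfadfa9ee8ec45855814c04d41951910d00
theorem h5 : Tabled KK 6 N5 := Cfsg.Agent.Lib.Helper17PCTab.Tabled.mul h4 ha (by decide +kernel)
def N6 : ℕ := 0x9b48b08f19f5de5ce1ca0da464b74f70e60a21a31e35f25bf6fe6be2af2eb3ea3aa7bb7f0901941d50d14c15c5584480
theorem h6 : Tabled KK 6 N6 := Cfsg.Agent.Lib.Helper17PCTab.Tabled.mul h5 ha (by decide +kernel)
def N7 : ℕ := 0x8d2c83cc2893997dc6d879d67af3fe3bf7ee6ea2bb2fa6ab23966862927837c72d76c33dd44915954d05c01850811c40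
theorem h7 : Tabled KK 6 N7 := Cfsg.Agent.Lib.Helper17PCTab.Tabled.mul h6 ha (by decide +kernel)
def N8 : ℕ := 0x74cce2609da72da97439f83170dca3648de629b9353de870b7c0d2a39197eea544faf401b3d093a781d6eab505fee440
theorem h8 : Tabled KK 6 N8 := Cfsg.Agent.Lib.Helper17PCTab.Tabled.mul h7 hb (by decide +kernel)
def N9 : ℕ := 0x61138796ccfa7542c2829dbfd7c8ea201797c399af3446d2283715dfe8683c6650cbb92d9eec786933058abd3d7d6240
theorem h9 : Tabled KK 6 N9 := Cfsg.Agent.Lib.Helper17PCTab.Tabled.mul h8 ha (by decide +kernel)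
def N10 : ℕ := 0x94980c2e73a2634771d9acdfbc3a8606d1284be5fbf10e55c1cd597b26f73612248cf98ae96fd353847d1eb0aea45b00
theorem h10 : Tabled KK 6 N10 := Cfsg.Agent.Lib.Helper17PCTab.Tabled.mul h9 ha (by decide +kernel)
def N11 : ℕ := 0x8e62ce79bdb3f39511044a6c20d825d707585d2ffaaaf08792130965cc74efe4d6183bab3ca9e2cb769f415e3db68140
theorem h11 : Tabled KK 6 N11 := Cfsg.Agent.Lib.Helper17PCTab.Tabled.mul h10 hb (by decide +kernel)
def N12 : ℕ := 0xb6769059c86be73384088d7fc3a1cd2c1f3692e4d97d5a223c5e32d3e0c96d1b2682a5dd49896fa6379418cc7bf77280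
theorem h12 : Tabled KK 6 N12 := Cfsg.Agent.Lib.Helper17PCTab.Tabled.mul hb h11 (by decide +kernel)
def N13 : ℕ := 0xda1ca5bb9abda7eb7ac66d6278968d19109505615264e74af2be2f9338378f49f0eecfe850340731b21f2dc3d84c45c0
theorem h13 : Tabled KK 6 N13 := Cfsg.Agent.Lib.Helper17PCTab.Tabled.mul h3 ha (by decide +kernel)
def N14 : ℕ := 0xeffbaa920c7565d3081824d79e3cb6e3cb6914141469e3cbc34961bebebe4961c334961cb28e7dcf79a238a6df455100
theorem h14 : Tabled KK 6 N14 := Cfsg.Agent.Lib.Helper17PCTab.Tabled.mul h13 hb (by decide +kernel)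
def N15 : ℕ := 0x358931bfa19368fce6e2d4441d2bbb970319405e6cca76ce0d6abf87421d501f68da37ca25c835afe09778bde2f29540
theorem h15 : Tabled KK 6 N15 := Cfsg.Agent.Lib.Helper17PCTab.Tabled.mul h14 hb (by decide +kernel)
def N16 : ℕ := 0xd9fbc6848e11c9bac294cf15f5490da83cdae50809b87ddea01c58fd698fb05d5ced288b8cae93d1db449cef97c19a40
theorem h16 : Tabled KK 6 N16 := Cfsg.Agent.Lib.Helper17PCTab.Tabled.mul h15 hb (by decide +kernel)
def N17 : ℕ := 0x86996dae3be7dbecbaf34e302413450cb1cf79669251c418e71f75cfbdffba6aa292c82845955d6d37d718e08a304200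
theorem h17 : Tabled KK 6 N17 := Cfsg.Agent.Lib.Helper17PCTab.Tabled.mul h16 ha (by decide +kernel)
def N18 : ℕ := 0x920aefcf7f385106df0c7308aae961f79cb669e5513490868a6b69d71ebe49675914128eb288e7effd307184d72cf100
theorem h18 : Tabled KK 6 N18 := Cfsg.Agent.Lib.Helper17PCTab.Tabled.mul h17 hb (by decide +kernel)
def N19 : ℕ := 0xcc40f46ecadc91352333bf0b466856e4e27e1b1d81b997a96ada9dc850b537af4a952562e0f23f427817bd87e81f0dc0
theorem h19 : Tabled KK 6 N19 := Cfsg.Agent.Lib.Helper17PCTab.Tabled.mul h18 ha (by decide +kernel)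
def N20 : ℕ := 0x328571c96acf06563cfdb9821e37bae5d8042ae4f7d10b49161738edf88622c475d92bcb3aa5f3c14a4d0e76bef59900
theorem h20 : Tabled KK 6 N20 := Cfsg.Agent.Lib.Helper17PCTab.Tabled.inv h19 (by decide +kernel)
def N21 : ℕ := 0x78a7cbb38b79affabe64d60c0960d7c24c65de3da215111039a3dbf28f69eefeae25d21c4864c78348759f39b2541500
theorem h21 : Tabled KK 6 N21 := Cfsg.Agent.Lib.Helper17PCTab.Tabled.mul h20 h12 (by decide +kernel)
def N22 : ℕ := 0x58ea7154dab2b344cbbf7408292d6d251daec283d7ceb31409af65059fa6e201dfee311c7868797458ba93c6c39ff600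
theorem h22 : Tabled KK 6 N22 := Cfsg.Agent.Lib.Helper17PCTab.Tabled.mul h2 hb (by decide +kernel)
def N23 : ℕ := 0xec456a07ebd0ccc7622769d81f8a56f424ec3f085ed4a6e47e0c4e95a2f45e8e46b520fc8dc372666dc8ad417a46efc0
theorem h23 : Tabled KK 6 N23 := Cfsg.Agent.Lib.Helper17PCTab.Tabled.mul h22 hb (by decide +kernel)
def N24 : ℕ := 0xb4306f94b267d5b677f5347fe5757bc5f77384f363a4716b1a8a843a088c7b0c9c5b8e944bcf906b4d982a49880acb80
theorem h24 : Tabled KK 6 N24 := Cfsg.Agent.Lib.Helper17PCTab.Tabled.mul h23 hb (by decide +kernel)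
def N25 : ℕ := 0x96ef7665204ab66d7e45a2428e8ef07d41ccae0cf85dc3c486ae7275614ea62c7a55e3469ecff46d00c8be4dfc4d82c0
theorem h25 : Tabled KK 6 N25 := Cfsg.Agent.Lib.Helper17PCTab.Tabled.mul h24 ha (by decide +kernel)
def N26 : ℕ := 0x64b443d67f6f977b7f25b053e2ac2250670e11631ea3a832af98f11d53dd5c57cdee9ce12980909b4bbcda4fac688480
theorem h26 : Tabled KK 6 N26 := Cfsg.Agent.Lib.Helper17PCTab.Tabled.mul h25 ha (by decide +kernel)
def N27 : ℕ := 0xd5226eb4a47667e942066f5a7b98851a1e9dc953a9a8d5b1123e1f73b807a0f533c1732bbc84f4dd02ec0e4fd86fc9c0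
theorem h27 : Tabled KK 6 N27 := Cfsg.Agent.Lib.Helper17PCTab.Tabled.mul h26 ha (by decide +kernel)
def N28 : ℕ := 0xb6704b96f243d7f653f7745ba6314f86b347c7b757e7355fcb8794eb059caa018c8a8384dbc690fb4498ba40889ac280
theorem h28 : Tabled KK 6 N28 := Cfsg.Agent.Lib.Helper17PCTab.Tabled.mul h27 ha (by decide +kernel)
def N29 : ℕ := 0x94af5267606eb42d5a47e2665f83e0ac4cdc7f01e88cced4c5ea4636257ae5684e16a7720ec6f4fd09c82e44fcdd8bc0
theorem h29 : Tabled KK 6 N29 := Cfsg.Agent.Lib.Helper17PCTab.Tabled.mul h28 ha (by decide +kernel)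
def N30 : ℕ := 0x15d6413554498fbfe7af3def879f65a71d6d1df6c33d74cb39648a19e682a30d2c838f24ab2dae8bafa631440811c600
theorem h30 : Tabled KK 6 N30 := Cfsg.Agent.Lib.Helper17PCTab.Tabled.mul h29 hb (by decide +kernel)
def N31 : ℕ := 0xd2f87ac2b97ebb5ee0ab1fe49bdce88b9decf27a72e23b760995cc19d4c860335670725240b15e50f05a2917c43956c0
theorem h31 : Tabled KK 6 N31 := Cfsg.Agent.Lib.Helper17PCTab.Tabled.mul ha h30 (by decide +kernel)
def N32 : ℕ := 0xb046f3734ac3b456b2775a82324ed3f142e3365e92f552a23a6e51f962613e7e10fd7220b866717b6a41bc76307f7a00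
theorem h32 : Tabled KK 6 N32 := Cfsg.Agent.Lib.Helper17PCTab.Tabled.mul hb hb (by decide +kernel)
def N33 : ℕ := 0x7287696ae6efb18b59a9eadf4a64e75205618968d79109513793382ff2bef49f08ecfe8e0f70b6171130cc7c86d41d00
theorem h33 : Tabled KK 6 N33 := Cfsg.Agent.Lib.Helper17PCTab.Tabled.mul h32 ha (by decide +kernel)
def N34 : ℕ := 0xefa69b2caaab925144515d74f3d75c30db6c8e20834d2cb3209a68e396585d6db79e61873cebafffe79f411c70821040
theorem h34 : Tabled KK 6 N34 := Cfsg.Agent.Lib.Helper17PCTab.Tabled.mul h33 hb (by decide +kernel)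
def N35 : ℕ := 0x9c62eae195354f2fde32d801d976bba481640a3b8f77cc50dd66faa091250e2bce73dc119872abe585744b3f9f36c840
theorem h35 : Tabled KK 6 N35 := Cfsg.Agent.Lib.Helper17PCTab.Tabled.mul h34 hb (by decide +kernel)
def N36 : ℕ := 0xe21315fe62d29fe4ca83950d3d6ee2211f2540993d5ce8fa09bdaf15cc68744a70683bb7d6c058cab19fab3787b74640
theorem h36 : Tabled KK 6 N36 := Cfsg.Agent.Lib.Helper17PCTab.Tabled.mul h35 ha (by decide +kernel)
def N37 : ℕ := 0xfd98064f532ae1e9c15322edf5b8844773a8e9c9435b026f4363e9f1a8c55f122eedd9024b436bf988475732ace5f980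
theorem h37 : Tabled KK 6 N37 := Cfsg.Agent.Lib.Helper17PCTab.Tabled.mul h36 ha (by decide +kernel)
def N38 : ℕ := 0x4e65219d2815fcae0d2fe3390f6131dc2c05bdaa1d6ee729e8ff483bb27c5a3464897950a9fb587ab66c1b3074c87d40
theorem h38 : Tabled KK 6 N38 := Cfsg.Agent.Lib.Helper17PCTab.Tabled.mul h37 ha (by decide +kernel)
def N39 : ℕ := 0x8a59e03892cc6dc799df0cb5456513f7ae3fa2fb6a10304692386620f34a75a61fc76d335d0495efcfb9ba9aec0851c0
theorem h39 : Tabled KK 6 N39 := Cfsg.Agent.Lib.Helper17PCTab.Tabled.mul h38 hb (by decide +kernel)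
def N40 : ℕ := 0x387dfe7979ee8ab6d2cbb2c2aa34daeb30ca18fff659fbe6a21458e3104810df7451db64305d7c71596c829650c39240
theorem h40 : Tabled KK 6 N40 := Cfsg.Agent.Lib.Helper17PCTab.Tabled.mul h39 ha (by decide +kernel)
def N41 : ℕ := 0x789ca56ccde03998b52dc9f0da168dce47c89b129d8f43d8191abd0d4bf8581ead4c4fe8bb9095afc1d0fa9485eec5c0
theorem h41 : Tabled KK 6 N41 := Cfsg.Agent.Lib.Helper17PCTab.Tabled.mul h40 ha (by decide +kernel)
def N42 : ℕ := 0x6d72c78aecbe7923829ebdfb751341928d3861420486dc7d9aadba7d33c38efcff69628682cc3c655245969d79710300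
theorem h42 : Tabled KK 6 N42 := Cfsg.Agent.Lib.Helper17PCTab.Tabled.mul h41 ha (by decide +kernel)
def N43 : ℕ := 0x53880cc1c128c5d16957984d5ba88ec9e1aacdf1eb5fb8cf6f7bc3fd32e7f922a66b6b82675b41f51265f10224634b00
theorem h43 : Tabled KK 6 N43 := Cfsg.Agent.Lib.Helper17PCTab.Tabled.inv h42 (by decide +kernel)
def N44 : ℕ := 0xa568dc3721f8e85c0f7a152b7e056aec4c4e3331b9a1789dd0bf8142f6a59d8b520fc2760bd237999b1346e6e4d4afc0
theorem h44 : Tabled KK 6 N44 := Cfsg.Agent.Lib.Helper17PCTab.Tabled.mul h43 h31 (by decide +kernel)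
def N45 : ℕ := 0xd7ac7edf8cfcef4ff0e76f7249d59941f51b71361779169582f92b8ad9a9ba1aa5b23a271c80cc14a04e2463422c43c0
theorem h45 : Tabled KK 6 N45 := Cfsg.Agent.Lib.Helper17PCTab.Tabled.mul ha ha (by decide +kernel)
def N46 : ℕ := 0xdcfe41fc7c49d4dec3f45ccb5ef6617e746956d6e37654eb7244aa52c6a27a64285ae620f04c8ad0ce82f86c08d8ee00
theorem h46 : Tabled KK 6 N46 := Cfsg.Agent.Lib.Helper17PCTab.Tabled.mul h45 ha (by decide +kernel)
def N47 : ℕ := 0x598ff151af73753d3a7d1db841ee7749cef56d5cbc657c3ea2604faa40cd8ed28486f206ba01c9b2214b96b3029e9380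
theorem h47 : Tabled KK 6 N47 := Cfsg.Agent.Lib.Helper17PCTab.Tabled.mul h46 hb (by decide +kernel)
def N48 : ℕ := 0x84853da837f6670b054bb9ce2a3fd6068d1dc9b1eee5032512dc583e6e93f15260dde0abbc66b390d4785fe88b735a40
theorem h48 : Tabled KK 6 N48 := Cfsg.Agent.Lib.Helper17PCTab.Tabled.mul h47 hb (by decide +kernel)
def N49 : ℕ := 0xaa9491b2f51786265a9e47dcbad595a2b41396675e8e06d8cb1289d3730fe7a042ffc1c4db538dc3320bf7e146ef80c0
theorem h49 : Tabled KK 6 N49 := Cfsg.Agent.Lib.Helper17PCTab.Tabled.mul h48 ha (by decide +kernel)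
def N50 : ℕ := 0xfc7b14d0c9df8dbc08a10ec30794aa2b26617653b65ae17d0ba4692716a27a637556d1bef04bd7dcf91c818ccbad3e00
theorem h50 : Tabled KK 6 N50 := Cfsg.Agent.Lib.Helper17PCTab.Tabled.mul h49 hb (by decide +kernel)
def N51 : ℕ := 0xd38a24c3cb20ff38efef79ebdbaaa6cbeba2f7186de7596975104d65514959a28649e3827d30cf6d71cb51820441c300
theorem h51 : Tabled KK 6 N51 := Cfsg.Agent.Lib.Helper17PCTab.Tabled.mul h50 ha (by decide +kernel)
def N52 : ℕ := 0xc0cec78dfa14d08fc39dbb10b5199af82d49a5589ee86c4df41d8ab92959e45c8ea9685d81cad7ccfe04918bd3dcbf00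
theorem h52 : Tabled KK 6 N52 := Cfsg.Agent.Lib.Helper17PCTab.Tabled.mul h51 ha (by decide +kernel)
def N53 : ℕ := 0xaa18e8ba59eceb1cf8fb5dfccb9ef0dbdff48a9ae09adbe43851cc2810c87955dc6914d859d7d44996d018d3c40892c0
theorem h53 : Tabled KK 6 N53 := Cfsg.Agent.Lib.Helper17PCTab.Tabled.mul h52 hb (by decide +kernel)
def N54 : ℕ := 0xb8bf9bcd68c6a8fe9fdd29c2805c15f58b48901d11e5ca4c887c97fdabca983d93edeaceb09f19c54844a0de1dd50940
theorem h54 : Tabled KK 6 N54 := Cfsg.Agent.Lib.Helper17PCTab.Tabled.mul h53 ha (by decide +kernel)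
def N55 : ℕ := 0x5da45cae6b607d26548ee9681ca04cef6f703c2244cfed78be2a644de5589ea86c6d6750ff2e740ce148dfac7c2c6340
theorem h55 : Tabled KK 6 N55 := Cfsg.Agent.Lib.Helper17PCTab.Tabled.mul hb h54 (by decide +kernel)
def N56 : ℕ := 0x7f27776356bec5ccd9d9bd17a05a80bc2b491ab12e06c0e3f11f94ed6e5d4bf43a5785f42e62633213aa9489cd88f80
theorem h56 : Tabled KK 6 N56 := Cfsg.Agent.Lib.Helper17PCTab.Tabled.mul h23 ha (by decide +kernel)
def N57 : ℕ := 0xa617554db9efe3030408adbef752411cfcfbb2461059e8aa0cbdffe7134549a9aea207145df8ebb6565118ecbaf34200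
theorem h57 : Tabled KK 6 N57 := Cfsg.Agent.Lib.Helper17PCTab.Tabled.mul h56 hb (by decide +kernel)
def N58 : ℕ := 0xa1c4e7e4d0b65a2b591f3f08992769dc333862c8d727dc86b9a561fcb130424adf075e8e8146efc452be7aa9513fbd00
theorem h58 : Tabled KK 6 N58 := Cfsg.Agent.Lib.Helper17PCTab.Tabled.mul h57 hb (by decide +kernel)
def N59 : ℕ := 0x7ae42fc41fc272c4adcc3f4ad04e856eb568d86e076695e7e49dc85a6625ecbd4a5246ad4e3762f0cc8f4617e0f8ec0
theorem h59 : Tabled KK 6 N59 := Cfsg.Agent.Lib.Helper17PCTab.Tabled.mul h58 hb (by decide +kernel)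
def N60 : ℕ := 0xa51fc7859dcf7652f356d0fbbd7e419dfc496e33754eb17d52c0ba7242b2818d8ea10f864aa13c6a233499ec08b96e00
theorem h60 : Tabled KK 6 N60 := Cfsg.Agent.Lib.Helper17PCTab.Tabled.mul h59 hb (by decide +kernel)
def N61 : ℕ := 0xf5180cc1cb41e55908d18a45bc3c9e88efd3ac7d9a98aed7a86ddb9cbe96b82cdf8cff92e14949d59a04f1084dc5db00
theorem h61 : Tabled KK 6 N61 := Cfsg.Agent.Lib.Helper17PCTab.Tabled.inv h60 (by decide +kernel)
def N62 : ℕ := 0xb8bf9b887c97a8fe9f983d93f19b09c15805e1da0dd11901bcafda8c6cd6aceede9c2dd2f58b48c54844e5ca4cd50940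
theorem h62 : Tabled KK 6 N62 := Cfsg.Agent.Lib.Helper17PCTab.Tabled.mul h61 h55 (by decide +kernel)
def N63 : ℕ := 0xc6f15b4cd9f9e26312684bb0390ea4b326061d9ced97b44ffa0294702a36de90dd54b87f05fd6b8fd5c9216f22ab4780
theorem h63 : Tabled KK 6 N63 := Cfsg.Agent.Lib.Helper17PCTab.Tabled.mul h21 h44 (by decide +kernel)
def N64 : ℕ := 0x83dfa3939ea7b31cafa35dabd29ab7c2dbb3e259bbf218bf7c205c6c61584ce3505ca2542d65483d244c1da6440de740
theorem h64 : Tabled KK 6 N64 := Cfsg.Agent.Lib.Helper17PCTab.Tabled.mul h63 h21 (by decide +kernel)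
def N65 : ℕ := 0xa4ff5b847d53b4be5f943c578c5dd1acdfd99c1cd5bc9eddd12806f1aa0ec16902e1eb0af98a8cd90884e9cb88c94980
theorem h65 : Tabled KK 6 N65 := Cfsg.Agent.Lib.Helper17PCTab.Tabled.mul h64 h62 (by decide +kernel)
def N66 : ℕ := 0x490d36453df5ae934fa2a38c516cb05d5c73b6f2c9bac20a61afbc6d9f7f8631c58a010679ce3a75fef99e5043926080
theorem h66 : Tabled KK 6 N66 := Cfsg.Agent.Lib.Helper17PCTab.Tabled.mul h65 h21 (by decide +kernel)
def N67 : ℕ := 0x59d41bb27aa155e4d8be4a62dbdc3b307281d7ecf83c424251f499ba5a235dc45ab66ae0d3fcb9385203dfcc7a3462c0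
theorem h67 : Tabled KK 6 N67 := Cfsg.Agent.Lib.Helper17PCTab.Tabled.mul h66 h62 (by decide +kernel)
def N68 : ℕ := 0x29c3d9ca4de19f18b47c968c502447b3aa7fe6ff2a05711260e74b836973d63c2635b21e1900d5fa8eedafdbb84c5580
theorem h68 : Tabled KK 6 N68 := Cfsg.Agent.Lib.Helper17PCTab.Tabled.mul h67 h44 (by decide +kernel)
def N69 : ℕ := 0x8265905d1867102cb4cf514371aaacaed75be3e3883c9e7f7d9a6fa2e798efd34b30aebc8e55535128a41c1c77c36180
theorem h69 : Tabled KK 6 N69 := Cfsg.Agent.Lib.Helper17PCTab.Tabled.mul h44 h62 (by decide +kernel)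
def N70 : ℕ := 0x6527d4b27aa1ae0b66795613dbdc3b0c814e10f089c7adfc96e8e841b59d5dc45a8a992f281307ff4e72e33fb53462c0
theorem h70 : Tabled KK 6 N70 := Cfsg.Agent.Lib.Helper17PCTab.Tabled.mul h69 h21 (by decide +kernel)
def N71 : ℕ := 0x15cc68315e219fe4cabb768397c448b356011decea397ea39bf48bbf66c211dc29354e6019fcab3d6ee293d409b74640
theorem h71 : Tabled KK 6 N71 := Cfsg.Agent.Lib.Helper17PCTab.Tabled.mul h70 h44 (by decide +kernel)
def N72 : ℕ := 0xfd698f221478b05d5c6f20abd1db440ea6b39cef974392607f61afa01c5832557ced288b53d3648cae931ee7b7c19a40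
theorem h72 : Tabled KK 6 N72 := Cfsg.Agent.Lib.Helper17PCTab.Tabled.mul h71 h21 (by decide +kernel)
def N73 : ℕ := 0x2d9d26ab8547ee9116688977298d67af9506ea81576c9936f6f09070e8f135fca0b3e4c1f2e0d174f8b031ece1b7f480
theorem h73 : Tabled KK 6 N73 := Cfsg.Agent.Lib.Helper17PCTab.Tabled.mul h44 h21 (by decide +kernel)
def N74 : ℕ := 0x61d65c24c20de7ce3da2da6c9a39e2df2db31c21835935d228f2ce6de69faeeaafebfefed31d70960921550511101140
theorem h74 : Tabled KK 6 N74 := Cfsg.Agent.Lib.Helper17PCTab.Tabled.mul h73 h62 (by decide +kernel)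
def N75 : ℕ := 0x8e575b4d5b6bcb430a084f3a71a8a4b2a49434bcf5f7b0c59a061e590a2edf124f1c1e7f65f9e1a6f5d120edb0e3e180
theorem h75 : Tabled KK 6 N75 := Cfsg.Agent.Lib.Helper17PCTab.Tabled.mul h74 h62 (by decide +kernel)
def N76 : ℕ := 0x82f9a992b8adb23aa5a27ba1fb1e37eb5f33cbdd3bdb9c3f7d06566d47524dc55a5d845e04e1c814a0cc3422c42463c0
theorem h76 : Tabled KK 6 N76 := Cfsg.Agent.Lib.Helper17PCTab.Tabled.mul h75 h21 (by decide +kernel)
def N77 : ℕ := 0xf1cd961e736dacb8414306ba7ff575904b8e2280a2cd3e59945bcf7be534c92e182690e31a632cf5ddd74716fba8a800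
theorem h77 : Tabled KK 6 N77 := Cfsg.Agent.Lib.Helper17PCTab.Tabled.mul h76 h44 (by decide +kernel)
def N78 : ℕ := 0xffd71e4d1c321069e5a2a2c9594d77eb865bb6f38c0438a07ddf3ecf14129261c520aae9db4557698e7b34fbac863080
theorem h78 : Tabled KK 6 N78 := Cfsg.Agent.Lib.Helper17PCTab.Tabled.mul h77 h62 (by decide +kernel)
def N79 : ℕ := 0x294bf1257b32c2e54bced58840ed6b4cdda8ab43d1a77312606f636c5fa08bc1d987f11a09c9f905f93ae26743ee5780
theorem h79 : Tabled KK 6 N79 := Cfsg.Agent.Lib.Helper17PCTab.Tabled.mul h62 h21 (by decide +kernel)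
def N80 : ℕ := 0xdbca639ede325dd20218c6536121cd24359ce739aca22dfd2c151e69014faa0d7fef192e96feb0d3eae110e6d155f280
theorem h80 : Tabled KK 6 N80 := Cfsg.Agent.Lib.Helper17PCTab.Tabled.mul h79 h44 (by decide +kernel)
def N81 : ℕ := 0x7e2f43721f82760fc17a3f07e056a4ec6665e87626e446ebd095a8dca569d8b52ad485ec4eec4f42dc8e46cccd4afc0
theorem h81 : Tabled KK 6 N81 := Cfsg.Agent.Lib.Helper17PCTab.Tabled.mul h80 h21 (by decide +kernel)
def N82 : ℕ := 0x6586daefae78cb3c31411493beeb6c34c3ce1051879a7925f3dfbf79f71d5d6554d74df628b209a29aab8608e20c2040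
theorem h82 : Tabled KK 6 N82 := Cfsg.Agent.Lib.Helper17PCTab.Tabled.mul h81 h44 (by decide +kernel)
def N83 : ℕ := 0xf69f28b38b793593187087490960d74c7486ca6ce78f78b62df29e68e6cfeefeaeabeaffd20d61971930110151541500
theorem h83 : Tabled KK 6 N83 := Cfsg.Agent.Lib.Helper17PCTab.Tabled.mul h82 h21 (by decide +kernel)
def N84 : ℕ := 0x7f12e55f90ed4fd1e96f53e106f57b26777336367716b47f80ed1aa06f12b02e1690ac1ef90a84d9888cc9c988e94b80
theorem h84 : Tabled KK 6 N84 := Cfsg.Agent.Lib.Helper17PCTab.Tabled.mul h83 h21 (by decide +kernel)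

def specsL : List (ℕ × List ℕ × List ℕ) := [(0, [2], [1, 0]),
    (0, [3], [1, 0]),
    (1, [0, 0, 0], []),
    (1, [2, 1, 2, 2, 1, 1], []),
    (2, [1, 1, 1], []),
    (2, [2, 2, 2], []),
    (2, [3, 3, 3], []),
    (2, [3, 0, 3, 3, 0, 0], [])]

def relVL : List (List ℤ) := [[0, 0, 0, 0, 0, 0, 0, (-1), 0, 0, 0, (-1), 0, 0, 0, 0, 0, 0, 0, 0, 0, 0, 0, 0],
    [0, 0, 0, 0, 0, 0, 0, 0, 0, 0, 0, (-1), 0, 0, 0, 0, 0, 0, 0, 0, 0, 0, 0, 0],
    [(-1), 0, (-3), (-3), 0, 0, 0, 0, 0, 0, 0, (-2), 0, 0, 0, (-1), (-3), 0, 0, 0, 0, 0, 0, 0],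
    [0, 0, 0, 0, 0, 0, (-1), (-1), 0, 0, (-1), (-6), 0, 0, 0, (-1), 0, (-3), (-3), 0, 0, 0, 0, 0],
    [0, 0, 0, 0, 0, (-1), 0, 0, 0, 0, 0, 0, 0, 0, 0, 0, 0, 0, 0, 0, 0, (-3), 0, 0],
    [0, 0, 0, 0, 0, 0, 0, 0, 0, 0, (-1), 0, 0, 0, 0, 0, 0, 0, 0, 0, 0, 0, (-3), 0],
    [0, 0, 0, 0, 0, 0, 0, 0, 0, 0, 0, 0, 0, 0, 0, (-1), 0, 0, 0, 0, 0, 0, 0, (-3)],
    [0, 0, 0, (-1), 0, 0, 0, 0, 0, 0, 0, 0, 0, 0, 0, (-1), 0, 0, 0, 0, (-3), 0, 0, (-3)]]

def lamL : List (List ℤ) := [[0, 0, 0, 0, 0, 0, 0, 0, 0, 0, 0, 0, 0, 0, 0, 0, 0, 0, 0, 0, 0, 0, 0, 0],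
    [0, 0, 0, 0, 0, 0, 0, 0, 0, 0, 0, 0, 0, 0, 0, 0, 0, 0, 0, 0, 0, 0, 0, 0],
    [0, 1, 0, 0, 0, 0, 0, 0, 0, 0, 0, 0, 0, 0, 0, 0, 0, 0, 0, 0, 0, 0, 0, 0],
    [0, 0, 1, 0, 0, 0, 0, 0, 0, 0, 0, 0, 0, 0, 0, 0, 0, 0, 0, 0, 0, 0, 0, 0]]

def y1L : List (List (ℕ × ℤ)) := [[(1, 2), (2, 2), (6, 1)],
    [],
    [],
    [(6, 1), (7, 2)],
    [],
    [(4, 2)],
    [(0, 1), (1, 2), (3, 2), (5, 1), (6, 1)],
    [(0, 2), (1, 1)],
    [],
    [],
    [(5, 2)],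
    [(1, 2)],
    [],
    [],
    [],
    [(6, 2)]]

def y2L : List (List (ℕ × ℤ)) := [[(1, 2), (2, 2), (6, 1)],
    [],
    [],
    [(6, 1), (7, 2)],
    [],
    [(4, 2)],
    [(0, 1), (1, 2), (3, 2), (5, 1), (6, 1)],
    [(0, 2), (1, 1)],
    [],
    [],
    [(5, 2)],
    [(1, 2)],
    [],
    [],
    [],
    [(6, 2)]]

def C : Cert where
  D := { p := 3, n := 4, pwL := [[], [], [], []], cmL := [[], [2], [3], [], [], [], [], [], [], [], [], [], [], [], [], []] }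
  k := 0
  f := 20
  R := 4
  fus := [([[0, 2], [1], [2], [3]], [[0, 0, 2], [1], [2, 2, 3], [3]]), ([[0], [1], [2], [3]], [[0], [1, 1], [2, 2], [3, 3]])]
  specs := specsL
  relV := relVL
  lam := lamL
  j0 := 0
  mu := [0, 0, 0, 0, 0, 0, 0, 0, 0, 0, 0, 0, 0, 0, 0, 0]
  y1 := y1L
  y2 := y2L

theorem hC : C.check = true := by decide +kernel

def tx : ℕ → ℕ
  | 0 => N68
  | 1 => N72
  | 2 => N78
  | 3 => N84
  | _ => 0

def tg : ℕ → ℕ
  | 0 => N79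
  | 1 => N69
  | _ => 0

theorem hx : ∀ a < C.D.n, Tabled KK 6 (tx a) := by
  intro a ha
  have ha' : a < 4 := ha
  interval_cases a
  · exact h68
  · exact h72
  · exact h78
  · exact h84

theorem hg : ∀ i < C.fus.length, Tabled KK 6 (tg i) := by
  intro a ha
  have ha' : a < 2 := ha
  interval_cases a
  · exact h79
  · exact h69

theorem hpc : pcChk 64 6 C.D tx = true := by decide +kernel

theorem hfus : fusChk 64 6 C tx tg = true := by decide +kernel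

theorem hinj : injChk 64 6 C.D tx [1, 2] = true := by decide +kernel

theorem lb : LocalBound KK 3 0 :=
  Cfsg.Agent.Lib.Helper17PCTab.ub_tab KK C (by norm_num [C]) hC 6 tx tg [1, 2] hx hg hpc hfus hinj (by rw [Cfsg.Agent.Lib.Helper10Sp6Card.card_K64]; norm_num [C])

end Cfsg.Agent.Lib.Helper10MSp6P3
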