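import Cfsg.Agent.Lib.Helper33Sextet

/-!
# Orbit certificates for coded families of objects under subgroups of the group of the length-24 code
(helper10; on top of helper33's mask model)

A family `F` of objects (octads, dodecads, sextets, trios, ...) is *coded* by positions `i < n`
(valid when `V i`), numbers `code i`, a decoding `obj` and an action `act` of packed permutations
on codes.  `reach_pos` is a linear-time certificate that positions of the same class are in one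
orbit of a subgroup `H`; `orbit_eq`, `ncard_class`, `trans_transport` turn this into statements on
orbits of stabilisers.
-/

set_option autoImplicit false

namespace Cfsg.Agent.Lib.Helper10Orb

open Cfsg Cfsg.Agent.Lib.Helper33Golay
open scoped Pointwise
open MulAction

theorem beq_iff {a b : ℕ} : Nat.beq a b = true ↔ a = b :=
  ⟨Nat.eq_of_beq_eq_true, fun h => h ▸ Nat.beq_refl a⟩

theorem nbeq_iff {a b : ℕ} : (!(Nat.beq a b)) = true ↔ a ≠ b := by
  rw [Bool.not_eq_true', ← Bool.not_eq_true, beq_iff]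

theorem blt_iff {a b : ℕ} : Nat.blt a b = true ↔ a < b := by
  simp [Nat.blt]

/-- entry `i` of a packed array with `w` bits per entry -/
def ent (w A i : ℕ) : ℕ :=
  Nat.land (Nat.shiftRight A (Nat.mul w i)) (Nat.sub (Nat.shiftLeft 1 w) 1)

/-- certificate entries: 24 bits per position = parent position (12), generator (4), rank (8) -/
def cPar (C i : ℕ) : ℕ := Nat.land (Nat.shiftRight C (Nat.mul 24 i)) 4095
def cGen (C i : ℕ) : ℕ := Nat.land (Nat.shiftRight C (Nat.add (Nat.mul 24 i) 12)) 15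
def cRank (C i : ℕ) : ℕ := Nat.land (Nat.shiftRight C (Nat.add (Nat.mul 24 i) 16)) 255

/-- a family of objects coded by numbers -/
structure IsCoded {α : Type*} [MulAction (Equiv.Perm GolayPt) α] (F : Set α) (n : ℕ)
    (V : ℕ → Bool) (code : ℕ → ℕ) (obj : ℕ → α) (act : ℕ → ℕ → ℕ) : Prop where
  mem : ∀ i < n, V i = true → obj (code i) ∈ F
  surj : ∀ x ∈ F, ∃ i < n, V i = true ∧ obj (code i) = x
  inj : ∀ i < n, ∀ j < n, V i = true → V j = true → obj (code i) = obj (code j) → i = j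
  act_spec : ∀ P, inM24 P = true → ∀ i < n, V i = true →
    toPerm P • obj (code i) = obj (act P (code i))
  inv : ∀ g ∈ M24, ∀ x ∈ F, g • x ∈ F

/-- the Bool check at one position -/
def chkPos (n : ℕ) (V : ℕ → Bool) (code : ℕ → ℕ) (act : ℕ → ℕ → ℕ) (gens : List ℕ) (C : ℕ)
    (cls rootOf : ℕ → ℕ) (i : ℕ) : Bool :=
  !(V i) || Nat.beq (code i) (rootOf (cls (code i))) ||
    (Nat.blt (cPar C i) n && V (cPar C i) && Nat.blt (cRank C (cPar C i)) (cRank C i) &&
      Nat.beq (cls (code (cPar C i))) (cls (code i)) && Nat.blt (cGen C i) gens.length &&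
      Nat.beq (act (gens.getD (cGen C i) 0) (code i)) (code (cPar C i)))

section
variable {α : Type*} [MulAction (Equiv.Perm GolayPt) α]

theorem reach_root (H : Subgroup (Equiv.Perm GolayPt)) (obj : ℕ → α) (n : ℕ) (V : ℕ → Bool)
    (code : ℕ → ℕ) (act : ℕ → ℕ → ℕ) (gens : List ℕ) (C : ℕ) (cls rootOf : ℕ → ℕ)
    (hgens : ∀ P ∈ gens, toPerm P ∈ H ∧
      ∀ i < n, V i = true → toPerm P • obj (code i) = obj (act P (code i)))
    (hchk : (List.range n).all (chkPos n V code act gens C cls rootOf) = true) :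
    ∀ i < n, V i = true → ∃ g ∈ H, g • obj (code i) = obj (rootOf (cls (code i))) := by
  intro i
  induction h : cRank C i using Nat.strong_induction_on generalizing i with
  | _ r ih =>
    intro hi hV
    have h1 := List.all_eq_true.1 hchk i (List.mem_range.2 hi)
    unfold chkPos at h1
    rw [hV] at h1
    simp only [Bool.not_true, Bool.false_or, Bool.or_eq_true, Bool.and_eq_true, beq_iff,
      blt_iff] at h1
    rcases h1 with h1 | ⟨⟨⟨⟨⟨h1, h2⟩, h3⟩, h4⟩, h5⟩, h6⟩
    · exact ⟨1, H.one_mem, by rw [one_smul, ← h1]⟩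
    · obtain ⟨g', hg', hgm'⟩ := ih _ (h ▸ h3) (cPar C i) rfl h1 h2
      have hmem : gens.getD (cGen C i) 0 ∈ gens := by
        rw [List.getD_eq_getElem _ _ h5]; exact List.getElem_mem h5
      obtain ⟨hg, hgm⟩ := hgens _ hmem
      exact ⟨g' * _, H.mul_mem hg' hg, by rw [mul_smul, hgm i hi hV, h6, hgm', h4]⟩

/-- **orbit certificate**: valid positions of the same class are in one `H`-orbit -/
theorem reach_pos (H : Subgroup (Equiv.Perm GolayPt)) (obj : ℕ → α) (n : ℕ) (V : ℕ → Bool)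
    (code : ℕ → ℕ) (act : ℕ → ℕ → ℕ) (gens : List ℕ) (C : ℕ) (cls rootOf : ℕ → ℕ)
    (hgens : ∀ P ∈ gens, toPerm P ∈ H ∧
      ∀ i < n, V i = true → toPerm P • obj (code i) = obj (act P (code i)))
    (hchk : (List.range n).all (chkPos n V code act gens C cls rootOf) = true) :
    ∀ i < n, V i = true → ∀ j < n, V j = true → cls (code i) = cls (code j) →
      ∃ g ∈ H, g • obj (code i) = obj (code j) := by
  intro i hi hVi j hj hVj hij
  obtain ⟨g, hg, h1⟩ := reach_root H obj n V code act gens C cls rootOf hgens hchk i hi hVi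
  obtain ⟨g', hg', h2⟩ := reach_root H obj n V code act gens C cls rootOf hgens hchk j hj hVj
  refine ⟨g'⁻¹ * g, H.mul_mem (H.inv_mem hg') hg, ?_⟩
  rw [mul_smul, h1, hij, ← h2, inv_smul_smul]

variable {F : Set α} {n : ℕ} {V : ℕ → Bool} {code : ℕ → ℕ} {obj : ℕ → α} {act : ℕ → ℕ → ℕ}

/-- counting the members of a coded family with a property -/
theorem ncard_class (hF : IsCoded F n V code obj act) (p : α → Prop) (q : ℕ → Bool)
    (hpq : ∀ i < n, V i = true → (p (obj (code i)) ↔ q i = true)) :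
    {x | x ∈ F ∧ p x}.ncard = ((List.range n).filter (fun i => V i && q i)).length := by
  classical
  have h1 : {x | x ∈ F ∧ p x} =
      ↑(((List.range n).filter (fun i => V i && q i)).toFinset.image (fun i => obj (code i))) := by
    ext x
    simp only [Set.mem_ofPred_eq, Finset.coe_image, Set.mem_image, Finset.mem_coe,
      List.mem_toFinset, List.mem_filter, List.mem_range, Bool.and_eq_true]
    constructor
    · rintro ⟨hx, hp⟩
      obtain ⟨i, hi, hV, rfl⟩ := hF.surj x hx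
      exact ⟨i, ⟨hi, hV, (hpq i hi hV).1 hp⟩, rfl⟩
    · rintro ⟨i, ⟨hi, hV, hq⟩, rfl⟩
      exact ⟨hF.mem i hi hV, (hpq i hi hV).2 hq⟩
  rw [h1, Set.ncard_coe_finset, Finset.card_image_of_injOn,
    List.toFinset_card_of_nodup (List.Nodup.filter _ List.nodup_range)]
  intro a ha b hb hab
  simp only [Finset.mem_coe, List.mem_toFinset, List.mem_filter, List.mem_range,
    Bool.and_eq_true] at ha hb
  exact hF.inj a ha.1 b hb.1 ha.2.1 hb.2.1 hab

theorem ncard_family (hF : IsCoded F n V code obj act) :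
    F.ncard = ((List.range n).filter V).length := by
  have := ncard_class hF (fun _ => True) (fun _ => true) (fun _ _ _ => by simp)
  simpa using this

/-- transitivity of the group of the code on a coded family, from a certificate -/
theorem trans_family (hF : IsCoded F n V code obj act) (gens : List ℕ) (C : ℕ) (root : ℕ)
    (hgens : gens.all inM24 = true)
    (hchk : (List.range n).all (chkPos n V code act gens C (fun _ => 0) (fun _ => root)) = true) :
    ∀ x ∈ F, ∀ y ∈ F, ∃ g ∈ M24, g • x = y := by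
  intro x hx y hy
  obtain ⟨i, hi, hVi, rfl⟩ := hF.surj x hx
  obtain ⟨j, hj, hVj, rfl⟩ := hF.surj y hy
  refine reach_pos M24 obj n V code act gens C _ _ ?_ hchk i hi hVi j hj hVj rfl
  intro P hP
  have := List.all_eq_true.1 hgens P hP
  exact ⟨toPerm_mem_M24 this, hF.act_spec P this⟩

variable {β : Type*} [MulAction (Equiv.Perm GolayPt) β]

/-- transitivity of the stabiliser of a base object `Z0` on the classes of an invariant -/
theorem trans_base (hF : IsCoded F n V code obj act) (c : β → α → ℕ) (Z0 : β) (cls : ℕ → ℕ)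
    (hcls : ∀ i < n, V i = true → c Z0 (obj (code i)) = cls (code i))
    (gens : List ℕ) (hgens : ∀ P ∈ gens, inM24 P = true ∧ toPerm P • Z0 = Z0)
    (C : ℕ) (rootOf : ℕ → ℕ)
    (hchk : (List.range n).all (chkPos n V code act gens C cls rootOf) = true) :
    ∀ x ∈ F, ∀ y ∈ F, c Z0 x = c Z0 y → ∃ g ∈ M24, g • Z0 = Z0 ∧ g • x = y := by
  intro x hx y hy hxy
  obtain ⟨i, hi, hVi, rfl⟩ := hF.surj x hx
  obtain ⟨j, hj, hVj, rfl⟩ := hF.surj y hy
  rw [hcls i hi hVi, hcls j hj hVj] at hxy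
  obtain ⟨g, hg, hgx⟩ := reach_pos (M24 ⊓ stabilizer (Equiv.Perm GolayPt) Z0) obj n V code act
    gens C cls rootOf (fun P hP => ⟨Subgroup.mem_inf.2 ⟨toPerm_mem_M24 (hgens P hP).1,
      (hgens P hP).2⟩, hF.act_spec P (hgens P hP).1⟩) hchk i hi hVi j hj hVj hxy
  exact ⟨g, hg.1, hg.2, hgx⟩

/-- transport of the transitivity statement to a conjugate object -/
theorem trans_transport (hinv : ∀ g ∈ M24, ∀ x ∈ F, g • x ∈ F) (c : β → α → ℕ)
    (hc : ∀ g ∈ M24, ∀ z x, c (g • z) (g • x) = c z x) (Z0 Z : β)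
    (k : Equiv.Perm GolayPt) (hk : k ∈ M24) (hkZ : k • Z = Z0)
    (h0 : ∀ x ∈ F, ∀ y ∈ F, c Z0 x = c Z0 y → ∃ g ∈ M24, g • Z0 = Z0 ∧ g • x = y) :
    ∀ x ∈ F, ∀ y ∈ F, c Z x = c Z y → ∃ g ∈ M24, g • Z = Z ∧ g • x = y := by
  intro x hx y hy hxy
  obtain ⟨g, hg, hgZ, hgx⟩ := h0 (k • x) (hinv k hk x hx) (k • y) (hinv k hk y hy) (by
    rw [← hkZ, hc k hk, hc k hk, hxy])
  refine ⟨k⁻¹ * g * k, M24.mul_mem (M24.mul_mem (M24.inv_mem hk) hg) hk, ?_, ?_⟩
  · rw [mul_smul, mul_smul, hkZ, hgZ, ← hkZ, inv_smul_smul]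
  · rw [mul_smul, mul_smul, hgx, inv_smul_smul]

/-- transport of class sizes -/
theorem ncard_transport' (hinv : ∀ g ∈ M24, ∀ x ∈ F, g • x ∈ F) (c : β → α → ℕ)
    (hc : ∀ g ∈ M24, ∀ z x, c (g • z) (g • x) = c z x) (Z0 Z : β)
    (k : Equiv.Perm GolayPt) (hk : k ∈ M24) (hkZ : k • Z = Z0) (v : ℕ) :
    {x | x ∈ F ∧ c Z x = v}.ncard = {x | x ∈ F ∧ c Z0 x = v}.ncard := by
  symm
  apply Cfsg.Agent.Lib.Helper33Transport.ncard_transport k
  intro U
  rw [← hkZ, hc k hk]
  constructor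
  · rintro ⟨h1, h2⟩
    have := hinv k⁻¹ (M24.inv_mem hk) _ h1
    rw [inv_smul_smul] at this
    exact ⟨this, h2⟩
  · rintro ⟨h1, h2⟩
    exact ⟨hinv k hk _ h1, h2⟩

/-- the orbits of the stabiliser of `Z` on `F` are the classes of the invariant -/
theorem orbit_eq [MulAction ↥M24 β] (hβ : ∀ (g : ↥M24) (z : β), g • z = (g : Equiv.Perm GolayPt) • z)
    (Z : β) [MulAction ↥(stabilizer ↥M24 Z) α]
    (hα : ∀ (g : ↥(stabilizer ↥M24 Z)) (x : α), g • x = ((g : ↥M24) : Equiv.Perm GolayPt) • x)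
    (hinv : ∀ g ∈ M24, ∀ x ∈ F, g • x ∈ F) (c : β → α → ℕ)
    (hc : ∀ g ∈ M24, ∀ z x, c (g • z) (g • x) = c z x)
    (htr : ∀ x ∈ F, ∀ y ∈ F, c Z x = c Z y → ∃ g ∈ M24, g • Z = Z ∧ g • x = y)
    (x : α) (hx : x ∈ F) :
    orbit ↥(stabilizer ↥M24 Z) x = {y | y ∈ F ∧ c Z y = c Z x} := by
  ext y
  constructor
  · rintro ⟨g, rfl⟩
    have hg : ((g : ↥M24) : Equiv.Perm GolayPt) • Z = Z := by
      rw [← hβ]; exact g.2
    show g • x ∈ F ∧ c Z (g • x) = c Z x
    rw [hα]
    refine ⟨hinv _ (g : ↥M24).2 x hx, ?_⟩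
    have h2 := hc _ (g : ↥M24).2 Z x
    rwa [hg] at h2
  · rintro ⟨hy, hxy⟩
    obtain ⟨g, hg, hgZ, hgx⟩ := htr x hx y hy hxy.symm
    refine ⟨⟨⟨g, hg⟩, ?_⟩, ?_⟩
    · rw [mem_stabilizer_iff, hβ]; exact hgZ
    · show (_ : ↥(stabilizer ↥M24 Z)) • x = y
      rw [hα]; exact hgx

/-- a class of given positive size is an orbit of that size -/
theorem exists_orbit [MulAction ↥M24 β]
    (hβ : ∀ (g : ↥M24) (z : β), g • z = (g : Equiv.Perm GolayPt) • z)
    (Z : β) [MulAction ↥(stabilizer ↥M24 Z) α]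
    (hα : ∀ (g : ↥(stabilizer ↥M24 Z)) (x : α), g • x = ((g : ↥M24) : Equiv.Perm GolayPt) • x)
    (hinv : ∀ g ∈ M24, ∀ x ∈ F, g • x ∈ F) (c : β → α → ℕ)
    (hc : ∀ g ∈ M24, ∀ z x, c (g • z) (g • x) = c z x)
    (htr : ∀ x ∈ F, ∀ y ∈ F, c Z x = c Z y → ∃ g ∈ M24, g • Z = Z ∧ g • x = y)
    (v m : ℕ) (hm : {x | x ∈ F ∧ c Z x = v}.ncard = m) (hpos : 0 < m) :
    ∃ x ∈ F, (orbit ↥(stabilizer ↥M24 Z) x).ncard = m ∧
      orbit ↥(stabilizer ↥M24 Z) x = {y | y ∈ F ∧ c Z y = v} := by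
  have hne : {x | x ∈ F ∧ c Z x = v}.Nonempty := by
    apply Set.nonempty_of_ncard_ne_zero
    omega
  obtain ⟨x, hx, hxv⟩ := hne
  have := orbit_eq hβ Z hα hinv c hc htr x hx
  rw [hxv] at this
  exact ⟨x, hx, by rw [this, hm], this⟩

end

end Cfsg.Agent.Lib.Helper10Orb
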