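import Cfsg.Agent.Lib.Helper10HSGroup

/-!
# Strong regularity of the block graph and the point-block graph of an S(3,6,22) (helper10)
-/

set_option autoImplicit false
set_option linter.unusedSectionVars false

namespace Cfsg.Agent.Lib.Helper10SRG

open Cfsg Finset Cfsg.Agent.Lib.Helper10HSGraph Cfsg.Agent.Lib.Helper10HSModel
  Cfsg.Agent.Lib.Helper10Ext Cfsg.Agent.Lib.Helper10Chain Cfsg.Agent.Lib.Helper33Golay

/-- strong regularity without instances -/
def SRG' {V : Type*} (G : SimpleGraph V) (n k l m : ℕ) : Prop :=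
  Nat.card V = n ∧ (∀ v, (G.neighborSet v).ncard = k) ∧
  (∀ v w, G.Adj v w → (G.commonNeighbors v w).ncard = l) ∧
  (∀ v w, v ≠ w → ¬ G.Adj v w → (G.commonNeighbors v w).ncard = m)

theorem SRG'.isSRGWith {V : Type*} [Fintype V] {G : SimpleGraph V} [DecidableRel G.Adj]
    {n k l m : ℕ} (h : SRG' G n k l m) : G.IsSRGWith n k l m where
  card := by rw [← Nat.card_eq_fintype_card]; exact h.1
  regular := by
    intro v
    rw [← SimpleGraph.card_neighborSet_eq_degree, ← Nat.card_eq_fintype_card, Nat.card_coe_set_eq]
    exact h.2.1 v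
  of_adj := by
    intro v w hvw
    rw [← Nat.card_eq_fintype_card, Nat.card_coe_set_eq]
    exact h.2.2.1 v w hvw
  of_not_adj := by
    intro v w hne hvw
    rw [← Nat.card_eq_fintype_card, Nat.card_coe_set_eq]
    exact h.2.2.2 v w hne hvw

theorem SRG'.of_iso {V W : Type*} {G : SimpleGraph V} {H : SimpleGraph W} (φ : G ≃g H)
    {n k l m : ℕ} (h : SRG' G n k l m) : SRG' H n k l m := by
  have hN : ∀ v, H.neighborSet (φ v) = φ '' G.neighborSet v := by
    intro v
    ext w
    constructor
    · intro hw
      refine ⟨φ.symm w, ?_, φ.apply_symm_apply w⟩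
      show G.Adj v (φ.symm w)
      rw [← φ.map_rel_iff, φ.apply_symm_apply]
      exact hw
    · rintro ⟨u, hu, rfl⟩
      exact φ.map_rel_iff.2 hu
  have hC : ∀ v w, H.commonNeighbors (φ v) (φ w) = φ '' G.commonNeighbors v w := by
    intro v w
    unfold SimpleGraph.commonNeighbors
    rw [hN, hN, Set.image_inter φ.injective]
  refine ⟨by rw [← h.1]; exact (Nat.card_congr φ.toEquiv).symm, ?_, ?_, ?_⟩
  · intro w
    rw [← φ.apply_symm_apply w, hN, Set.ncard_image_of_injective _ φ.injective]
    exact h.2.1 _
  · intro v w hvw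
    rw [← φ.apply_symm_apply w, ← φ.apply_symm_apply v] at hvw ⊢
    rw [hC, Set.ncard_image_of_injective _ φ.injective]
    exact h.2.2.1 _ _ (φ.map_rel_iff.1 hvw)
  · intro v w hne hvw
    rw [← φ.apply_symm_apply w, ← φ.apply_symm_apply v] at hvw hne ⊢
    rw [hC, Set.ncard_image_of_injective _ φ.injective]
    exact h.2.2.2 _ _ (fun h' => hne (by rw [h'])) (fun h' => hvw (φ.map_rel_iff.2 h'))

theorem ncard_code (Q : ℕ → Bool) : {w : V0 | Q (code w) = true}.ncard = (VL.filter Q).length := by
  rw [← Set.ncard_image_of_injective _ code_injective,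
    ← List.toFinset_card_of_nodup (VL_nodup.filter _), ← Set.ncard_coe_finset]
  congr 1
  ext c
  simp only [Set.mem_image, Set.mem_ofPred_eq, Finset.mem_coe, List.mem_toFinset, List.mem_filter]
  constructor
  · rintro ⟨w, hw, rfl⟩
    exact ⟨code_mem w, hw⟩
  · rintro ⟨hc, hq⟩
    obtain ⟨w, rfl⟩ := exists_code hc
    exact ⟨w, hq, rfl⟩

theorem chk1 : ∀ a ∈ VL, (VL.filter (adjC a)).length = 22 := by decide +kernel

theorem chk2 : VL.all (fun a => VL.all (fun b =>
    Nat.beq (VL.filter (fun c => adjC a c && adjC b c)).length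
      (if adjC a b then 0 else if Nat.beq a b then 22 else 6))) = true := by decide +kernel


theorem nbr_eq (v : V0) : (pointBlockGraph (WS A2)).neighborSet v =
    {w : V0 | adjC (code v) (code w) = true} := by
  ext w
  exact adj_iff v w

theorem common_eq (v w : V0) : (pointBlockGraph (WS A2)).commonNeighbors v w =
    {u : V0 | (adjC (code v) (code u) && adjC (code w) (code u)) = true} := by
  ext u
  rw [SimpleGraph.mem_commonNeighbors, adj_iff, adj_iff, Set.mem_ofPred_eq, Bool.and_eq_true]

theorem chk2' (v w : V0) : ((pointBlockGraph (WS A2)).commonNeighbors v w).ncard =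
    if adjC (code v) (code w) then 0 else if Nat.beq (code v) (code w) then 22 else 6 := by
  rw [common_eq, ncard_code (fun c => adjC (code v) c && adjC (code w) c)]
  exact beq_iff'.1 (List.all_eq_true.1 (List.all_eq_true.1 chk2 _ (code_mem v)) _ (code_mem w))

theorem VL_length : VL.length = 100 := by decide +kernel

theorem model100 : SRG' (pointBlockGraph (WS A2)) 100 22 0 6 := by
  refine ⟨?_, ?_, ?_, ?_⟩
  · have h := ncard_code (fun _ => true)
    rw [List.filter_true, VL_length] at h
    rw [← h, ← Set.ncard_univ]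
    congr 1
    ext w
    simp
  · intro v
    rw [nbr_eq, ncard_code (adjC (code v))]
    exact chk1 _ (code_mem v)
  · intro v w hvw
    rw [chk2', if_pos ((adj_iff v w).1 hvw)]
  · intro v w hne hvw
    rw [chk2', if_neg (fun h => hvw ((adj_iff v w).2 h)),
      if_neg (fun h => hne (code_injective (beq_iff'.1 h)))]

variable {α : Type*} [Fintype α] {B : Set (Finset α)}

theorem srg100 (hα : Fintype.card α = 22) (hB : IsSteinerSystem 3 6 B) :
    SRG' (pointBlockGraph B) 100 22 0 6 := by
  classical
  obtain ⟨e, he⟩ := U2 hα hB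
  exact model100.of_iso (isoOf e he).symm

/-- the block graph sits inside the point-block graph -/
theorem blk_adj_iff {β : Type*} {C : Set (Finset β)} (b c : ↥C) :
    (blockGraph C).Adj b c ↔ (pointBlockGraph C).Adj (some (Sum.inr b)) (some (Sum.inr c)) := by
  rw [blockGraph, pointBlockGraph, SimpleGraph.fromRel_adj, SimpleGraph.fromRel_adj]
  simp [pointBlockRel]

theorem hexL_nodup : hexL.Nodup := by decide +kernel

theorem ncard_codeB (Q : ℕ → Bool) :
    {c : ↥(WS A2) | Q (enc (oct c)) = true}.ncard = (hexL.filter Q).length := by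
  rw [← Set.ncard_image_of_injective _ (enc_injective.comp oct_injective),
    ← List.toFinset_card_of_nodup (hexL_nodup.filter _), ← Set.ncard_coe_finset]
  congr 1
  ext c
  simp only [Set.mem_image, Set.mem_ofPred_eq, Finset.mem_coe, List.mem_toFinset, List.mem_filter,
    Function.comp]
  constructor
  · rintro ⟨w, hw, rfl⟩
    exact ⟨enc_oct_mem w, hw⟩
  · rintro ⟨hc, hq⟩
    obtain ⟨w, hw⟩ := exists_code (List.mem_cons_of_mem _ (List.mem_append_right _ hc))
    rcases w with _ | x | b
    · have := hexL_gt c hc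
      simp only [code] at hw
      omega
    · have := hexL_gt c hc
      have := idx_lt x.1
      simp only [code] at hw
      omega
    · exact ⟨b, by rw [show enc (oct b) = c from hw]; exact hq, hw⟩

theorem chk3 : ∀ a ∈ hexL, (hexL.filter (adjC a)).length = 16 := by decide +kernel

theorem chk4 : hexL.all (fun a => hexL.all (fun b =>
    Nat.beq (hexL.filter (fun c => adjC a c && adjC b c)).length
      (if adjC a b then 0 else if Nat.beq a b then 16 else 4))) = true := by decide +kernel

theorem blk_adj_iff' (b c : ↥(WS A2)) :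
    (blockGraph (WS A2)).Adj b c ↔ adjC (enc (oct b)) (enc (oct c)) = true := by
  rw [blk_adj_iff, adj_iff]
  rfl

theorem hexL_length : hexL.length = 77 := by decide +kernel

theorem model77 : SRG' (blockGraph (WS A2)) 77 16 0 4 := by
  have hcommon : ∀ v w : ↥(WS A2), ((blockGraph (WS A2)).commonNeighbors v w).ncard =
      if adjC (enc (oct v)) (enc (oct w)) then 0
        else if Nat.beq (enc (oct v)) (enc (oct w)) then 16 else 4 := by
    intro v w
    have h1 : (blockGraph (WS A2)).commonNeighbors v w = {u : ↥(WS A2) |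
        (adjC (enc (oct v)) (enc (oct u)) && adjC (enc (oct w)) (enc (oct u))) = true} := by
      ext u
      rw [SimpleGraph.mem_commonNeighbors, blk_adj_iff', blk_adj_iff', Set.mem_ofPred_eq,
        Bool.and_eq_true]
    rw [h1, ncard_codeB (fun c => adjC (enc (oct v)) c && adjC (enc (oct w)) c)]
    exact beq_iff'.1 (List.all_eq_true.1 (List.all_eq_true.1 chk4 _ (enc_oct_mem v)) _
      (enc_oct_mem w))
  refine ⟨?_, ?_, ?_, ?_⟩
  · have h := ncard_codeB (fun _ => true)
    rw [List.filter_true, hexL_length] at h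
    rw [← h, ← Set.ncard_univ]
    congr 1
    ext w
    simp
  · intro v
    have h1 : (blockGraph (WS A2)).neighborSet v =
        {u : ↥(WS A2) | adjC (enc (oct v)) (enc (oct u)) = true} := by
      ext u
      exact blk_adj_iff' v u
    rw [h1, ncard_codeB (adjC (enc (oct v)))]
    exact chk3 _ (enc_oct_mem v)
  · intro v w hvw
    rw [hcommon, if_pos ((blk_adj_iff' v w).1 hvw)]
  · intro v w hne hvw
    rw [hcommon, if_neg (fun h => hvw ((blk_adj_iff' v w).2 h)),
      if_neg (fun h => hne (oct_injective (enc_injective (beq_iff'.1 h))))]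

/-- isomorphic set systems have isomorphic block graphs -/
noncomputable def blkIso {α β : Type*} [DecidableEq α] [DecidableEq β] {B : Set (Finset α)}
    {B' : Set (Finset β)} (e : α ≃ β) (h : (fun b => b.image e) '' B = B') :
    blockGraph B ≃g blockGraph B' where
  toEquiv := blkEquiv e h
  map_rel_iff' := by
    intro b c
    rw [blk_adj_iff, blk_adj_iff, ← (isoOf e h).map_rel_iff]
    rfl

theorem srg77 (hα : Fintype.card α = 22) (hB : IsSteinerSystem 3 6 B) :
    SRG' (blockGraph B) 77 16 0 4 := by
  classical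
  obtain ⟨e, he⟩ := U2 hα hB
  exact model77.of_iso (blkIso e he).symm

end Cfsg.Agent.Lib.Helper10SRG
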