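import Mathlib
import Cfsg.Agent.Lib.Helper47AltHom

/-!
# PROJECT 10 = SPIN, piece `Ker` (helper15)
-/

set_option autoImplicit false
set_option linter.unusedVariables false

namespace Cfsg.Agent.Lib.Helper10SpinKer

open Cfsg Equiv

theorem ker_le {E : Type*} [Group E] (n : ℕ) (t : Fin n → E) (z : E) (hz : z ∈ Subgroup.center E)
    (hgen : Subgroup.closure (Set.range t) = ⊤)
    (hrel : ∀ i j, (t i * t j) ^ (CoxeterMatrix.A n i j) ∈ Subgroup.zpowers z)
    (π : E →* Perm (Fin (n + 1))) (hπ : ∀ i, π (t i) = swap i.castSucc i.succ) (hπz : π z = 1) :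
    π.ker ≤ Subgroup.zpowers z := by
  haveI hN : (Subgroup.zpowers z).Normal := by
    refine ⟨fun x hx g => ?_⟩
    have hxc : x ∈ Subgroup.center E :=
      (Subgroup.zpowers_le.2 hz) hx
    have : g * x * g⁻¹ = x := by
      rw [Subgroup.mem_center_iff.1 hxc g]; group
    rw [this]; exact hx
  obtain ⟨φ, hφ⟩ := Helper47AltHom.exists_permHom n
    (fun i => (QuotientGroup.mk (t i) : E ⧸ Subgroup.zpowers z)) (by
      intro i j
      rw [← QuotientGroup.mk_mul, ← QuotientGroup.mk_pow, QuotientGroup.eq_one_iff]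
      exact hrel i j)
  have heq : φ.comp π = QuotientGroup.mk' (Subgroup.zpowers z) := by
    apply MonoidHom.eq_of_eqOn_dense hgen
    rintro _ ⟨i, rfl⟩
    show φ (π (t i)) = _
    rw [hπ, hφ]
    rfl
  intro g hg
  have h := DFunLike.congr_fun heq g
  rw [MonoidHom.comp_apply, MonoidHom.mem_ker.1 hg, map_one] at h
  exact (QuotientGroup.eq_one_iff g).1 h.symm

end Cfsg.Agent.Lib.Helper10SpinKer
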