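import Cfsg.Agent.Lib.Helper10SpinRel
import Cfsg.Agent.Lib.Helper10SpinKer
import Cfsg.Agent.Lib.Helper10SpinStd
import Cfsg.Agent.Lib.Helper10SpinStem

/-!
# Stem extensions with kernel of order two from the double cover of the symmetric group (helper10)

A perfect group of permutations of `n + 1` points containing an involution which is the product of
`m` disjoint transpositions with `m (m + 1) / 2` odd has a stem extension with kernel of order 2.
-/

set_option autoImplicit false

namespace Cfsg.Agent.Lib.Helper10Spin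

open Cfsg Equiv Cfsg.Agent.Lib.Helper10SpinDefs Cfsg.Agent.Lib.Helper10SpinStd

theorem zz_mul_self (n : ℕ) : zz n * zz n = 1 := by
  apply Prod.ext
  · show (-1 : (Cl (n + 1))ˣ) * -1 = 1
    simp
  · show (1 : Perm (Fin (n + 1))) * 1 = 1
    simp

theorem zz_ne_one (n : ℕ) : zz n ≠ 1 := by
  intro h
  have h1 : (-1 : (Cl (n + 1))ˣ) = 1 := congrArg Prod.fst h
  have h2 := congrArg Units.val h1
  rw [Units.val_neg, Units.val_one] at h2
  exact neg_one_ne_one _ h2

theorem zz_pow_odd (n k : ℕ) (hk : Odd k) : zz n ^ k = zz n := by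
  obtain ⟨j, rfl⟩ := hk
  rw [pow_succ, pow_mul, pow_two, zz_mul_self, one_pow, one_mul]

theorem zz_mem (n : ℕ) (hn : 0 < n) : zz n ∈ Gam n := by
  rw [← gen_sq n ⟨0, hn⟩]
  exact mul_mem (Subgroup.subset_closure ⟨_, rfl⟩) (Subgroup.subset_closure ⟨_, rfl⟩)

/-- the projection -/
noncomputable def pr (n : ℕ) : ↥(Gam n) →* Perm (Fin (n + 1)) :=
  (MonoidHom.snd _ _).comp (Gam n).subtype

theorem pr_apply (n : ℕ) (a : ↥(Gam n)) : pr n a = a.1.2 := rfl

noncomputable def tt (n : ℕ) (i : Fin n) : ↥(Gam n) := ⟨gen n i, Subgroup.subset_closure ⟨i, rfl⟩⟩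

theorem closure_tt (n : ℕ) : Subgroup.closure (Set.range (tt n)) = ⊤ := by
  have h : Set.range (tt n) = ((↑) : ↥(Gam n) → Amb n) ⁻¹' (Set.range (gen n)) := by
    ext a
    constructor
    · rintro ⟨i, rfl⟩
      exact ⟨i, rfl⟩
    · rintro ⟨i, hi⟩
      exact ⟨i, Subtype.ext hi⟩
  rw [h]
  exact Subgroup.closure_closure_coe_preimage

theorem pr_surjective (n : ℕ) : Function.Surjective (pr n) := by
  rw [← MonoidHom.range_eq_top, eq_top_iff]
  have h := Subgroup.closure_eq_top_of_mclosure_eq_top (Perm.mclosure_swap_castSucc_succ n)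
  rw [← h, Subgroup.closure_le]
  rintro _ ⟨i, rfl⟩
  exact ⟨tt n i, rfl⟩

theorem pr_ker (n : ℕ) (hn : 0 < n) (a : ↥(Gam n)) (ha : pr n a = 1) :
    a = 1 ∨ a = ⟨zz n, zz_mem n hn⟩ := by
  set z : ↥(Gam n) := ⟨zz n, zz_mem n hn⟩ with hz
  have hzc : z ∈ Subgroup.center ↥(Gam n) := by
    rw [Subgroup.mem_center_iff]
    intro b
    apply Subtype.ext
    exact (zz_comm n b.1).symm
  have h := Cfsg.Agent.Lib.Helper10SpinKer.ker_le n (tt n) z hzc (closure_tt n)
    (fun i j => by
      have : (tt n i * tt n j) ^ (CoxeterMatrix.A n i j) = z := by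
        apply Subtype.ext
        exact Cfsg.Agent.Lib.Helper10SpinRel.gen_rel n i j
      rw [this]
      exact Subgroup.mem_zpowers z)
    (pr n) (fun i => rfl) rfl
  have h1 : a ∈ Subgroup.zpowers z := h ha
  obtain ⟨k, rfl⟩ := Subgroup.mem_zpowers_iff.1 h1
  have hzz : z * z = 1 := Subtype.ext (zz_mul_self n)
  rcases Int.even_or_odd' k with ⟨j, rfl | rfl⟩
  · left
    rw [zpow_mul, zpow_two, hzz, one_zpow]
  · right
    rw [zpow_add, zpow_mul, zpow_two, hzz, one_zpow, one_mul, zpow_one]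

theorem finite_Gam (n : ℕ) (hn : 0 < n) : Finite ↥(Gam n) := by
  classical
  let f : ↥(Gam n) → Perm (Fin (n + 1)) × Prop := fun a => (pr n a, a = (pr_surjective n (pr n a)).choose)
  apply Finite.of_injective f
  intro a b hab
  have h1 : pr n a = pr n b := congrArg Prod.fst hab
  have h2 : (a = (pr_surjective n (pr n a)).choose) = (b = (pr_surjective n (pr n b)).choose) :=
    congrArg Prod.snd hab
  rw [← h1] at h2
  set c := (pr_surjective n (pr n a)).choose with hc
  have hcs : pr n c = pr n a := (pr_surjective n (pr n a)).choose_spec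
  by_cases hac : a = c
  · exact hac.trans (h2 ▸ hac).symm
  · have hbc : b ≠ c := fun h => hac (h2.symm ▸ h)
    have ka := pr_ker n hn (a * c⁻¹) (by rw [map_mul, map_inv, hcs, mul_inv_cancel])
    have kb := pr_ker n hn (b * c⁻¹) (by rw [map_mul, map_inv, hcs, h1, mul_inv_cancel])
    rcases ka with ka | ka
    · exact absurd (mul_inv_eq_one.1 ka) hac
    rcases kb with kb | kb
    · exact absurd (mul_inv_eq_one.1 kb) hbc
    exact mul_right_cancel (ka.trans kb.symm)

theorem stem_of_perm (n : ℕ) (K : Subgroup (Perm (Fin (n + 1)))) (hK : commutator K = ⊤)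
    (g : Perm (Fin (n + 1))) (hg : g ∈ K) (m : ℕ) (hgc : g.cycleType = Multiset.replicate m 2)
    (hm : Odd (m * (m + 1) / 2)) :
    ∃ (Γ : Type) (_ : Group Γ) (_ : Finite Γ) (σ : Γ →* K),
      IsStemExtension σ ∧ Nat.card σ.ker = 2 := by
  have hm0 : 0 < m := by
    rcases Nat.eq_zero_or_pos m with rfl | h
    · simp at hm
    · exact h
  have h2m : 2 * m ≤ n + 1 := by
    have h1 := Perm.sum_cycleType g
    rw [hgc, Multiset.sum_replicate, smul_eq_mul] at h1
    have h2 := Finset.card_le_univ g.support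
    rw [Fintype.card_fin] at h2
    omega
  have hn : 0 < n := by omega
  have := finite_Gam n hn
  set z : ↥(Gam n) := ⟨zz n, zz_mem n hn⟩ with hz
  have hzcomm : ∀ b : ↥(Gam n), z * b = b * z := fun b => Subtype.ext (zz_comm n b.1)
  have hzz : z * z = 1 := Subtype.ext (zz_mul_self n)
  refine Cfsg.Agent.Lib.Helper10SpinStem.stem_of_cover (pr n) (pr_surjective n) z ?_ ?_
    (pr_ker n hn) rfl K hK g hg ?_
  · rw [Subgroup.mem_center_iff]
    intro b
    exact (hzcomm b).symm
  · intro h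
    exact zz_ne_one n (congrArg Subtype.val h)
  · intro a ha
    obtain ⟨g0, hg0, hsq, hct⟩ := exists_std n m h2m
    rw [zz_pow_odd n _ hm] at hsq
    have hconj : IsConj g0.2 g := by
      rw [Perm.isConj_iff_cycleType_eq, hct, hgc]
    obtain ⟨h, hh⟩ := isConj_iff.1 hconj
    obtain ⟨h', rfl⟩ := pr_surjective n h
    set a' : ↥(Gam n) := h' * ⟨g0, hg0⟩ * h'⁻¹ with ha'
    have hpa' : pr n a' = g := by
      rw [ha', map_mul, map_mul, map_inv]
      exact hh
    have hsq' : a' * a' = z := by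
      have e : (⟨g0, hg0⟩ : ↥(Gam n)) * ⟨g0, hg0⟩ = z := Subtype.ext hsq
      calc a' * a' = h' * ((⟨g0, hg0⟩ : ↥(Gam n)) * ⟨g0, hg0⟩) * h'⁻¹ := by rw [ha']; group
        _ = z := by rw [e, ← hzcomm, mul_assoc, mul_inv_cancel, mul_one]
    rcases pr_ker n hn (a * a'⁻¹) (by rw [map_mul, map_inv, ha, hpa', mul_inv_cancel]) with k | k
    · rw [mul_inv_eq_one.1 k, hsq']
    · have k' : a * a'⁻¹ = z := k
      have : a = z * a' := by rw [← k']; group
      rw [this]
      calc z * a' * (z * a') = (z * z) * (a' * a') := by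
            rw [mul_assoc, ← mul_assoc a' z a', ← hzcomm a', mul_assoc z a' a', ← mul_assoc]
        _ = z := by rw [hzz, one_mul, hsq']

end Cfsg.Agent.Lib.Helper10Spin
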