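import Mathlib
import Cfsg.Agent.Lib.Helper10SpinDefs
import Cfsg.Agent.Lib.Helper47AltHom

/-!
# PROJECT 10 = SPIN, piece `Rel` (helper15)
-/

set_option autoImplicit false

namespace Cfsg.Agent.Lib.Helper10SpinRel

open Cfsg Equiv Cfsg.Agent.Lib.Helper10SpinDefs

theorem cube_eq {R : Type*} [Ring R] (x y : R) (hx : x * x = -1) (hy : y * y = -1)
    (h : x * y + y * x = 1) : (x * y) ^ 3 = -1 := by
  have h1 : y * x = 1 - x * y := eq_sub_of_add_eq' h
  have h2 : (x * y) * (y * x) = 1 := by
    calc x * y * (y * x) = x * (y * y) * x := by simp only [mul_assoc]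
      _ = 1 := by rw [hy, mul_neg, mul_one, neg_mul, hx, neg_neg]
  rw [h1] at h2
  generalize x * y = w at h2
  have h3 : w - w * w = 1 := by rw [← h2, mul_sub, mul_one]
  have hw2 : w * w = w - 1 := by rw [← h3]; abel
  rw [pow_succ, pow_two, hw2, sub_mul, one_mul, hw2]
  abel

theorem sq_eq {R : Type*} [Ring R] (x y : R) (hx : x * x = -1) (hy : y * y = -1)
    (h : x * y = -(y * x)) : (x * y) ^ 2 = -1 := by
  calc (x * y) ^ 2 = (x * y) * (x * y) := pow_two _
    _ = -(y * x) * (x * y) := by rw [← h]
    _ = -(y * (x * x) * y) := by simp only [mul_assoc, neg_mul]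
    _ = -1 := by rw [hx, mul_neg, mul_one, neg_mul, hy]; simp

theorem gen_rel (n : ℕ) (i j : Fin n) : (gen n i * gen n j) ^ (CoxeterMatrix.A n i j) = zz n := by
  apply Prod.ext
  · apply Units.ext
    have e : (((gen n i * gen n j) ^ (CoxeterMatrix.A n i j)).1 : (Cl (n+1))ˣ).val
        = (rt i.castSucc i.succ * rt j.castSucc j.succ) ^ (CoxeterMatrix.A n i j) := by
      rw [Prod.pow_fst, Units.val_pow_eq_pow_val]; rfl
    rw [e]
    show _ = (-1 : Cl (n+1))
    have hA : CoxeterMatrix.A n i j = if i = j then 1 else
      (if (j : ℕ) + 1 = i ∨ (i : ℕ) + 1 = j then 3 else 2) := rfl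
    have hx := rt_sq (castSucc_ne_succ i)
    have hy := rt_sq (castSucc_ne_succ j)
    rw [hA]
    by_cases hij : i = j
    · subst hij
      rw [if_pos rfl, pow_one, hx]
    · rw [if_neg hij]
      have hij' : (i : ℕ) ≠ j := fun h => hij (Fin.ext h)
      by_cases hadj : (j : ℕ) + 1 = i ∨ (i : ℕ) + 1 = j
      · rw [if_pos hadj]
        apply cube_eq _ _ hx hy
        rcases hadj with h | h
        · have e1 : i.castSucc = j.succ := Fin.ext (by simp [h])
          rw [e1, add_comm (rt j.succ i.succ * rt j.castSucc j.succ)]
          apply rt_braid (castSucc_ne_succ j)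
          · intro h'; have := congrArg Fin.val h'; simp at this; omega
          · intro h'; have := congrArg Fin.val h'; simp at this; omega
        · have e1 : j.castSucc = i.succ := Fin.ext (by simp [h])
          rw [e1]
          apply rt_braid (castSucc_ne_succ i)
          · intro h'; have := congrArg Fin.val h'; simp at this; omega
          · intro h'; have := congrArg Fin.val h'; simp at this; omega
      · rw [if_neg hadj]
        push Not at hadj
        apply sq_eq _ _ hx hy
        apply rt_anti
        · intro h'; have := congrArg Fin.val h'; simp at this; omega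
        · intro h'; have := congrArg Fin.val h'; simp at this; omega
        · intro h'; have := congrArg Fin.val h'; simp at this; omega
        · intro h'; have := congrArg Fin.val h'; simp at this; omega
  · obtain ⟨cs, hcs⟩ := Cfsg.Agent.S2530.result n
    rw [Prod.pow_snd]
    show (swap i.castSucc i.succ * swap j.castSucc j.succ) ^ _ = 1
    rw [← hcs i, ← hcs j]
    exact cs.simple_mul_simple_pow i j

end Cfsg.Agent.Lib.Helper10SpinRel
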