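import Mathlib

/-!
# PROJECT 10 = SPIN, piece `Sq` (helper15)
-/

set_option autoImplicit false

namespace Cfsg.Agent.Lib.Helper10SpinSq

theorem comm_prod {E : Type*} [Monoid E] (z : E) (hz : ∀ a : E, z * a = a * z) (y : E) (l : List E)
    (h : ∀ y' ∈ l, y * y' = z * (y' * y)) : y * l.prod = z ^ l.length * (l.prod * y) := by
  induction l with
  | nil => simp
  | cons a l ih =>
    have ih' := ih (fun y' hy' => h y' (List.mem_cons_of_mem _ hy'))
    have ha := h a List.mem_cons_self
    have hzk : a * z ^ l.length = z ^ l.length * a :=
      ((show Commute z a from hz a).pow_left _).eq.symm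
    rw [List.prod_cons, List.length_cons]
    calc y * (a * l.prod) = (y * a) * l.prod := by rw [mul_assoc]
      _ = z * (a * y) * l.prod := by rw [ha]
      _ = z * a * (y * l.prod) := by simp only [mul_assoc]
      _ = z * a * (z ^ l.length * (l.prod * y)) := by rw [ih']
      _ = z * (a * z ^ l.length) * (l.prod * y) := by simp only [mul_assoc]
      _ = z * (z ^ l.length * a) * (l.prod * y) := by rw [hzk]
      _ = z ^ (l.length + 1) * (a * l.prod * y) := by rw [pow_succ']; simp only [mul_assoc]

theorem sq_prod {E : Type*} [Monoid E] (z : E) (hz : ∀ a : E, z * a = a * z)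
    (l : List E) (h1 : ∀ y ∈ l, y * y = z) (h2 : l.Pairwise (fun y y' => y * y' = z * (y' * y))) :
    l.prod * l.prod = z ^ (l.length * (l.length + 1) / 2) := by
  induction l with
  | nil => simp
  | cons y l ih =>
    rw [List.pairwise_cons] at h2
    have ih' := ih (fun y' hy' => h1 y' (List.mem_cons_of_mem _ hy')) h2.2
    have hy := h1 y List.mem_cons_self
    have hc := comm_prod z hz y l h2.1
    have e : (l.length + 1) * (l.length + 1 + 1) / 2
        = l.length + 1 + l.length * (l.length + 1) / 2 := by
      have : (l.length + 1) * (l.length + 1 + 1)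
          = 2 * (l.length + 1) + l.length * (l.length + 1) := by ring
      rw [this, Nat.mul_add_div (by norm_num)]
    rw [List.prod_cons, List.length_cons, e, pow_add, ← ih']
    calc y * l.prod * (y * l.prod) = z ^ l.length * (l.prod * y) * (y * l.prod) := by rw [hc]
      _ = z ^ l.length * (l.prod * (y * y) * l.prod) := by simp only [mul_assoc]
      _ = z ^ l.length * (l.prod * z * l.prod) := by rw [hy]
      _ = z ^ l.length * (z * l.prod * l.prod) := by rw [hz l.prod]
      _ = z ^ (l.length + 1) * (l.prod * l.prod) := by rw [pow_succ]; simp only [mul_assoc]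

end Cfsg.Agent.Lib.Helper10SpinSq
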