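import Mathlib
import Cfsg.Agent.Lib.Helper11BG76Defs
import Cfsg.Agent.Lib.Helper52BG14
import Cfsg.Agent.Lib.Helper52BG14b
import Cfsg.Agent.Lib.Helper51BG16a
import Cfsg.Agent.S1353
import Cfsg.Agent.S1408
import Cfsg.Agent.S1416

/-!
PROJECT 76, piece `basic`.
-/

set_option autoImplicit false

namespace Cfsg.Agent.Lib.Helper11BG76basic

open Cfsg Subgroup
open Cfsg.Agent.Lib.Helper30Trans Cfsg.Agent.Lib.Helper24BG
open Cfsg.Agent.Lib.Helper52BG14Defs Cfsg.Agent.Lib.Helper11BG76Defs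

variable {G : Type*} [Group G] [Finite G]

theorem basic (hG : IsMinSimpleOddOrder G) {M N K U Ns A : Subgroup G} {p : ℕ}
    (h : Cfg M N K U Ns A p) : Bas M Ns K (Ks N K) A p (Nat.card K) := by
  have : Fact p.Prime := ⟨h.pp⟩
  have ptN : PT N K := ⟨h.hN, h.dec.hall, h.hK1⟩
  have hUN : U ≤ N := h.dec.compl.1
  -- `N` is not of type `P₁`
  have hnoU : ¬ NoU N := by
    intro hno
    obtain ⟨r, hr, hrd⟩ := Nat.exists_prime_and_dvd (n := Nat.card U) (by
      intro h1; exact h.hU1 (card_eq_one.1 h1))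
    have h1 := Cfsg.Agent.Lib.Helper51BG16.U_primes hG h.hN h.dec r hr hrd
    exact h1.1 (hno r hr (hrd.trans (card_dvd_of_le hUN)) h1.2)
  have hKp : (Nat.card K).Prime := Cfsg.Agent.Lib.Helper52BG14b.card_prime_of_not_noU hG ptN hnoU
  have hNK : normalizer (K : Set G) ≤ Ns :=
    (Cfsg.Agent.Lib.Helper52BG14b.partner_iff hG ptN h.hNs).1 ⟨h.hKst, h.hKstH⟩ K le_rfl hKp
  have hpm := Cfsg.Agent.Lib.Helper52BG14b.pair_main hG ptN le_rfl hKp h.hNs hNK
  have hCK : centralizer (K : Set G) ≤ Ns := (centralizer_le_normalizer _).trans hNK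
  have hKM : K ≤ M := (le_sup_right.trans h.NM.ge).trans inf_le_right
  have hKNs : K ≤ Ns := le_normalizer.trans hNK
  have hKD : K ≤ M ⊓ Ns := le_inf hKM hKNs
  have hDS : (M ⊓ Ns) ⊓ sigmaCore M = ⊥ := h.compl.2.2.1
  have hAM : A ≤ sigmaCore M := h.AU.trans h.UM
  have hA1 : A ≠ ⊥ := by
    intro h0
    have h1 := h.Ac
    rw [h0, card_bot] at h1
    have := Nat.one_lt_pow (n := 2) (by norm_num) h.pp.one_lt
    omega
  have hDN : (M ⊓ Ns) ⊓ N ≤ K := by
    intro w hw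
    have hw1 : w ∈ U ⊔ K := h.NM ▸ (⟨hw.2, hw.1.1⟩ : w ∈ N ⊓ M)
    obtain ⟨u, hu, z, hz, rfl⟩ := (Cfsg.Agent.Lib.Helper30SZ.mem_sup_iff h.dec.normal).1 hw1
    have hu1 : u ∈ (M ⊓ Ns) ⊓ sigmaCore M := by
      refine ⟨?_, h.UM hu⟩
      have := (M ⊓ Ns).mul_mem hw.1 (inv_mem (hKD hz))
      simpa using this
    rw [hDS, mem_bot] at hu1
    rw [hu1, one_mul]
    exact hz
  have hCA : centralizer (A : Set G) ≤ N :=
    (Cfsg.Agent.S1416.result hG N h.hN p A ⟨h.AU.trans hUN, h.Ae, h.Ac⟩).1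
  refine
    { hM := h.hM
      pt := hpm.1
      KsK := hpm.2.1
      kp := hKp
      Kc := rfl
      kM := h.kM
      compl := h.compl
      KD := hKD
      KF := h.KF
      regK := ?_
      pp := h.pp
      AM := hAM
      Ae := h.Ae
      Ac := h.Ac
      maxA := ?_
      DA := ?_
      ne := ?_
      uniq := ?_ }
  · rw [← le_bot_iff, ← hDS]
    exact le_inf (le_inf (inf_le_left.trans (Cfsg.Agent.Lib.Helper2BGb.sigmaCore_le M))
      (inf_le_right.trans hCK)) inf_le_left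
  · exact (Cfsg.Agent.S1408.result hG N h.hN p h.hp.2.1 h.hp.2.2.1 h.hp.2.2.2).2 A
      (h.AU.trans hUN) h.Ae h.Ac
  · rw [← le_bot_iff]
    intro z hz
    have hzK : z ∈ K := hDN ⟨hz.1, hCA hz.2⟩
    by_contra hz1
    have hz1' : z ≠ 1 := fun h0 => hz1 (by rw [h0]; exact one_mem _)
    have h1 := Cfsg.Agent.S1353.result hG N h.hN K U h.dec z hzK hz1'
    apply hA1
    rw [← le_bot_iff, ← h1]
    refine le_inf h.AU ?_
    intro a ha
    rw [mem_centralizer_singleton_iff]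
    exact ((mem_centralizer_iff.1 hz.2) a ha)
  · intro h0
    apply hA1
    rw [← le_bot_iff, ← hDS, ← h0, inf_idem]
    exact le_inf (hAM.trans (Cfsg.Agent.Lib.Helper2BGb.sigmaCore_le M)) hAM
  · intro X hX hXp L hL hCL
    have h1 := (Cfsg.Agent.Lib.Helper52BG14.ptype_c hG h.hN h.dec.hall h.hK1 hX hXp).1.2 L hL hCL
    rw [h1]
    exact ⟨Nat.card K, h.dec.hall.2.1 _ hKp dvd_rfl⟩

end Cfsg.Agent.Lib.Helper11BG76basic
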