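import Mathlib
import Cfsg.Agent.Lib.Helper11BG76Defs
import Cfsg.Agent.Lib.Helper11BG76frobact2
import Cfsg.Agent.Lib.Helper52BG14
import Cfsg.Agent.Lib.Helper52BGPsi
import Cfsg.Agent.Lib.Helper31BGS
import Cfsg.Agent.Lib.Helper65RelHall
import Cfsg.Agent.S1419

/-!
PROJECT 76, piece `keyX`.
-/

set_option autoImplicit false

namespace Cfsg.Agent.Lib.Helper11BG76keyX

open Cfsg Subgroup
open Cfsg.Agent.Lib.Helper30Trans Cfsg.Agent.Lib.Helper24BG
open Cfsg.Agent.Lib.Helper52BG14Defs Cfsg.Agent.Lib.Helper11BG76Defs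
open Cfsg.Agent.Lib.Helper37Cores

variable {G : Type*} [Group G] [Finite G]

theorem coprime_of_primes {a b : ℕ} (h : ∀ r : ℕ, r.Prime → r ∣ a → r ∣ b → False) : a.Coprime b :=
  Nat.coprime_of_dvd (fun r hr ha hb => h r hr ha hb)

theorem keyX (hG : IsMinSimpleOddOrder G) {Ns Kst K B : Subgroup G} {k q : ℕ} (pt : PT Ns Kst)
    (KsK : Ks Ns Kst = K) (kp : k.Prime) (Kc : Nat.card K = k) (hq : q.Prime) (hqk : q ≠ k)
    (hqβ : q ∉ beta Ns) (hB : IsPGroup q B) (hBle : B ≤ sigmaCore Ns ⊓ centralizer (K : Set G)) :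
    ∃ c ∈ Ns, ∃ S : Subgroup G, IsSyl k S (sigmaCore Ns) ∧ S ≤ centralizer ((cj c B : Subgroup G) : Set G) := by
  have hNs := pt.max
  have : Fact q.Prime := ⟨hq⟩
  have : Fact k.Prime := ⟨kp⟩
  by_cases hB1 : B = ⊥
  · obtain ⟨S, hS, -⟩ := exists_isSyl_ge (p := k) (B := ⊥) (X := sigmaCore Ns) bot_le
      (IsPGroup.of_bot)
    refine ⟨1, one_mem _, S, hS, ?_⟩
    rw [hB1, cj_one]
    intro s _
    rw [mem_centralizer_iff]
    intro b hb
    rw [SetLike.mem_coe, mem_bot] at hb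
    subst hb
    simp
  set Sg : Subgroup G := sigmaCore Ns with hSg
  set C : Subgroup G := Sg ⊓ centralizer (K : Set G) with hC
  have hSgNs : Sg ≤ Ns := Cfsg.Agent.Lib.Helper2BGb.sigmaCore_le Ns
  have hNsSg : Ns ≤ normalizer (Sg : Set G) := Cfsg.Agent.Lib.Helper2BGb.le_normalizer_sigmaCore Ns
  have hKstNs : Kst ≤ Ns := pt.hall.1
  have hKSg : K ≤ Sg := by rw [← KsK]; exact inf_le_left
  have hKstK : Kst ≤ centralizer (K : Set G) := by
    rw [← KsK]
    exact le_centralizer_iff.1 inf_le_right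
  have hcentnorm : centralizer (K : Set G) ≤ normalizer (K : Set G) := centralizer_le_normalizer _
  -- primes
  have hσ : ∀ r : ℕ, r.Prime → r ∣ Nat.card Sg → r ∈ sigma Ns :=
    Cfsg.Agent.Lib.Helper30BG2.card_sigmaCore hG hNs
  have hκ : ∀ r : ℕ, r.Prime → r ∣ Nat.card Kst → r ∉ sigma Ns := fun r hr hd =>
    (pt.hall.2.1 r hr hd).2.2.1
  have hcopKstSg : (Nat.card Kst).Coprime (Nat.card Sg) :=
    coprime_of_primes (fun r hr h1 h2 => hκ r hr h1 (hσ r hr h2))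
  have hqNs : q ∣ Nat.card Ns := by
    have h1 : q ∣ Nat.card B := by
      obtain ⟨n, hn⟩ := IsPGroup.iff_card.mp hB
      rcases n with _ | n
      · exact absurd (card_eq_one.1 (by simpa using hn)) hB1
      · rw [hn]; exact dvd_pow_self q (Nat.succ_ne_zero n)
    exact h1.trans (card_dvd_of_le ((hBle.trans inf_le_left).trans hSgNs))
  -- a `Kst`-invariant Sylow `q`-subgroup of `C`
  have hKstC : Kst ≤ normalizer (C : Set G) :=
    Cfsg.Agent.S1419.le_normalizer_inf_centralizer' (hKstNs.trans hNsSg) (hKstK.trans hcentnorm)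
  have hKstsol : Group.IsSolvable Kst := sol hG (ne_top_of_le_ne_top hNs.1 hKstNs)
  obtain ⟨Q, hQ, -, hKstQ⟩ := Cfsg.Agent.Lib.Helper52BGPsi.exists_inv_syl (A := Kst) (L := C) (U := ⊥)
    hKstC (hcopKstSg.coprime_dvd_right (card_dvd_of_le inf_le_left)) hKstsol q bot_le IsPGroup.of_bot
    (by intro x _; rw [mem_normalizer_iff]; intro y; simp [mem_bot])
  obtain ⟨c, hcC, hcB⟩ := Cfsg.Agent.Lib.Helper24BG2.exists_cj_le hQ hB hBle
  have hQSg : Q ≤ Sg := hQ.1.trans inf_le_left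
  have hQK : Q ≤ centralizer (K : Set G) := hQ.1.trans inf_le_right
  -- the normal `q`-complement
  have hnpc : Cfsg.Agent.Lib.Helper11Frobenius.HasNPC q ↥Sg :=
    Cfsg.Agent.Lib.Helper2BGd.npc_of_le (Cfsg.Agent.Lib.Helper2BGd.npc_derived hG hNs hqNs hqβ)
      (Cfsg.Agent.Lib.Helper2BGb.sigmaCore_le_derived hG hNs)
  set Y : Subgroup G := coreOf q Sg with hY
  have hYSg : Y ≤ Sg := coreOf_le q Sg
  have hYq : (Nat.card Y).Coprime q := card_coreOf_coprime q Sg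
  have hQY : Q ≤ normalizer (Y : Set G) := hQSg.trans (le_normalizer_coreOf q Sg)
  have hKstY : Kst ≤ normalizer (Y : Set G) :=
    (hKstNs.trans hNsSg).trans (normalizer_le_normalizer_coreOf q Sg)
  have hKcard : IsPGroup k K := IsPGroup.of_card (n := 1) (by rw [Kc, pow_one])
  have hKY : K ≤ Y := Cfsg.Agent.Lib.Helper2BGc.le_coreOf_of_npc hnpc hKSg (by
    rw [Kc]; exact (Nat.coprime_primes kp hq).2 (Ne.symm hqk))
  have hAsol : Group.IsSolvable ↥(Q ⊔ Kst) :=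
    sol hG (ne_top_of_le_ne_top hNs.1 (sup_le (hQSg.trans hSgNs) hKstNs))
  have hAcop : (Nat.card ↥(Q ⊔ Kst)).Coprime (Nat.card Y) := by
    apply coprime_of_primes
    intro r hr h1 h2
    have h3 := Cfsg.Agent.Lib.Helper65RelHall.card_sup_mul_card_inf Kst Q hKstQ
    rw [sup_comm] at h3
    have h4 : r ∣ Nat.card Kst * Nat.card Q := h3 ▸ (h1.mul_right _)
    rcases (Nat.Prime.dvd_mul hr).1 h4 with h5 | h5
    · exact hκ r hr h5 (hσ r hr (h2.trans (card_dvd_of_le hYSg)))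
    · obtain ⟨n, hn⟩ := IsPGroup.iff_card.mp hQ.2.1
      rw [hn] at h5
      have h6 : r = q := (Nat.prime_dvd_prime_iff_eq hr hq).1 (hr.dvd_of_dvd_pow h5)
      subst h6
      exact (Nat.Prime.coprime_iff_not_dvd hr).1 hYq.symm h2
  obtain ⟨S, hS, hKS, hAS⟩ := Cfsg.Agent.Lib.Helper52BGPsi.exists_inv_syl (A := Q ⊔ Kst) (L := Y) (U := K)
    (sup_le hQY hKstY) hAcop hAsol k hKY hKcard
    (sup_le (hQK.trans hcentnorm) (hKstK.trans hcentnorm))
  have hSSg : IsSyl k S Sg := by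
    apply Cfsg.Agent.Lib.Helper31BGS.isSyl_of_not_dvd_relIndex hS hYSg
    obtain ⟨j, hj⟩ := Cfsg.Agent.Lib.Helper2BGc.relIndex_coreOf_of_npc hnpc
    rw [hj]
    intro hd
    exact hqk ((Nat.prime_dvd_prime_iff_eq kp hq).1 (kp.dvd_of_dvd_pow hd)).symm
  -- a subgroup of prime order of `Kst`
  obtain ⟨r, hr, hrd⟩ := Nat.exists_prime_and_dvd (n := Nat.card Kst) (by
    intro h; exact pt.ne (card_eq_one.1 h))
  have : Fact r.Prime := ⟨hr⟩
  obtain ⟨y, hy⟩ := exists_prime_orderOf_dvd_card' (G := Kst) r hrd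
  have hy1 : (y : G) ≠ 1 := by
    intro h
    have : y = 1 := Subtype.ext h
    rw [this, orderOf_one] at hy
    exact hr.one_lt.ne hy
  set R₀ : Subgroup G := zpowers (y : G) with hR₀
  have hR₀Kst : R₀ ≤ Kst := by rw [hR₀, zpowers_le]; exact y.2
  have hR₀c : Nat.card R₀ = r := by
    rw [hR₀, Nat.card_zpowers, Subgroup.orderOf_coe, hy]
  have hcentR₀ : Sg ⊓ centralizer (R₀ : Set G) ≤ K := by
    have h1 := (Cfsg.Agent.Lib.Helper52BG14.ptype_a hG hNs pt.hall pt.ne).1 y y.2 hy1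
    rw [← KsK]
    show _ ≤ sigmaCore Ns ⊓ centralizer (Kst : Set G)
    rw [← h1]
    apply inf_le_inf_left
    apply centralizer_le
    rw [Set.singleton_subset_iff]
    exact mem_zpowers _
  have hcopQS : (Nat.card Q).Coprime (Nat.card S) := by
    obtain ⟨n, hn⟩ := IsPGroup.iff_card.mp hQ.2.1
    obtain ⟨m, hm⟩ := IsPGroup.iff_card.mp hS.2.1
    rw [hn, hm]
    exact Nat.Coprime.pow _ _ ((Nat.coprime_primes hq kp).2 hqk)
  have hcopQK : (Nat.card Q).Coprime (Nat.card K) := by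
    obtain ⟨n, hn⟩ := IsPGroup.iff_card.mp hQ.2.1
    rw [hn, Kc]
    exact Nat.Coprime.pow_left _ ((Nat.coprime_primes hq kp).2 hqk)
  have hQS : Q ≤ centralizer (S : Set G) := by
    apply Cfsg.Agent.Lib.Helper11BG76frobact2.frob_act2 (R := R₀)
    · exact sol hG (ne_top_of_le_ne_top hNs.1 (hSSg.1.trans hSgNs))
    · exact le_sup_left.trans hAS
    · exact (hR₀Kst.trans le_sup_right).trans hAS
    · exact hR₀Kst.trans hKstQ
    · rw [hR₀c]; exact hr
    · exact hcopQS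
    · rw [hR₀c]
      exact (hcopKstSg.coprime_dvd_left hrd).coprime_dvd_right (card_dvd_of_le hSSg.1)
    · have h1 : Q ⊓ centralizer (R₀ : Set G) ≤ K ⊓ Q :=
        le_inf ((inf_le_inf_right _ hQSg).trans hcentR₀) inf_le_left
      rw [Cfsg.Agent.Lib.Helper30SZ.inf_eq_bot_of_coprime hcopQK] at h1
      exact le_bot_iff.1 h1
    · exact hQK.trans (centralizer_le ((inf_le_inf_right _ hSSg.1).trans hcentR₀))
  refine ⟨c, hSgNs hcC.1, S, hSSg, ?_⟩
  exact (le_centralizer_iff.1 hQS).trans (centralizer_le hcB)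

end Cfsg.Agent.Lib.Helper11BG76keyX
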