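import Mathlib
import Cfsg.Agent.Lib.Helper11BG76Defs
import Cfsg.Agent.Lib.Helper11BG76keyX
import Cfsg.Agent.Lib.Helper52BG14
import Cfsg.Agent.S1408
import Cfsg.Agent.S1418
import Cfsg.Agent.S1419

/-!
PROJECT 76, piece `tau2` (relative to the piece `qsigma`, which enters as a hypothesis).
-/

set_option autoImplicit false

namespace Cfsg.Agent.Lib.Helper11BG76tau2

open Cfsg Subgroup
open Cfsg.Agent.Lib.Helper30Trans Cfsg.Agent.Lib.Helper24BG
open Cfsg.Agent.Lib.Helper52BG14Defs Cfsg.Agent.Lib.Helper11BG76Defs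

variable {G : Type*} [Group G] [Finite G]

theorem tau2_empty_of (hG : IsMinSimpleOddOrder G) {M Ns K Kst A : Subgroup G} {p k : ℕ}
    (h : Bas M Ns K Kst A p k)
    (hqs : ∀ (q : ℕ) (B : Subgroup G), q ∈ tau2 M → q ≠ k → B ≤ M ⊓ Ns →
      IsElementaryAbelian q B → Nat.card B = q ^ 2 → B ≤ sigmaCore Ns ⊓ centralizer (K : Set G)) :
    tau2 M = ∅ := by
  rw [Set.eq_empty_iff_forall_notMem]
  intro q hq
  have : Fact q.Prime := ⟨hq.1⟩
  obtain ⟨B, hBD, hBe, hBc⟩ := Cfsg.Agent.Lib.Helper12BG14ptypeA.exists_sq_compl hG h.hM h.compl hq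
  have h18 := Cfsg.Agent.S1418.result hG M h.hM (M ⊓ Ns) h.compl q hq B ⟨hBD, hBe, hBc⟩
  have hCB : centralizer (B : Set G) ≤ M := h18.2.1.1.trans inf_le_left
  have hNs := h.pt.max
  have huniq : ∀ S : Subgroup G, IsSyl k S (sigmaCore Ns) → InUniqueMaximal S := by
    have h1 := (Cfsg.Agent.Lib.Helper52BG14.ptype_c hG hNs h.pt.hall h.pt.ne (X := K)
      (by rw [← h.KsK]) (by rw [h.Kc]; exact h.kp)).2
    rwa [h.Kc] at h1
  have hcontra : ∀ c ∈ Ns, ∀ S : Subgroup G, IsSyl k S (sigmaCore Ns) → S ≤ cj c M → False := by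
    intro c hc S hS hSM
    obtain ⟨L, -, hLu⟩ := huniq S hS
    have h1 : Ns = L := hLu Ns ⟨hNs, hS.1.trans (Cfsg.Agent.Lib.Helper2BGb.sigmaCore_le Ns)⟩
    have h2 : cj c M = L := hLu _ ⟨isCoatom_cj h.hM c, hSM⟩
    have h3 : cj c M = Ns := h2.trans h1.symm
    have h4 : M = Ns := by
      have h5 := congrArg (cj c⁻¹) h3
      rwa [cj_inv_cj, Cfsg.Agent.Lib.Helper2BGa.cj_eq_self_of_mem (inv_mem hc)] at h5
    exact h.ne h4
  by_cases hqk : q = k
  · subst hqk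
    have hab : ∃ S : Sylow q G, IsMulCommutative (S : Subgroup G) := by
      by_contra hno
      push Not at hno
      have h19 := Cfsg.Agent.S1419.result hG M h.hM (M ⊓ Ns) h.compl q hq hno B ⟨hBD, hBe, hBc⟩
      have hc := h19.2.1.1
      have hle : B ⊓ centralizer (sigmaCore M : Set G) ≤ (M ⊓ Ns) ⊓ centralizer (A : Set G) :=
        le_inf (inf_le_left.trans hBD) (inf_le_right.trans (centralizer_le h.AM))
      rw [h.DA, le_bot_iff] at hle
      rw [hle, card_bot] at hc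
      exact hq.1.one_lt.ne hc
    obtain ⟨S₀, hS₀⟩ := hab
    have hKSg : K ≤ sigmaCore Ns := by rw [← h.KsK]; exact inf_le_left
    have hqσ : q ∈ sigma Ns := Cfsg.Agent.Lib.Helper30BG2.card_sigmaCore hG hNs q hq.1
      (h.Kc ▸ card_dvd_of_le hKSg)
    have hBp : IsPGroup q B := isPGroup_of_elemAb hBe
    have hBNs : B ≤ sigmaCore Ns :=
      Cfsg.Agent.Lib.Helper30BG2.pgroup_le_sigmaCore hG hNs hqσ hBp (hBD.trans inf_le_right)
    obtain ⟨S, hS, hBS⟩ := exists_isSyl_ge hBNs hBp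
    have hStop : IsSyl q S ⊤ := Cfsg.Agent.Lib.Helper2BGb.sigma_syl_top hqσ
      (Cfsg.Agent.Lib.Helper30BG2.isSyl_of_sigmaCore hG hNs hqσ hS)
    obtain ⟨x, -, hx⟩ := Cfsg.Agent.Lib.Helper2BGa.isSyl_conj hStop (isSyl_top S₀)
    have hSab : ∀ a ∈ S, ∀ b ∈ S, a * b = b * a := by
      intro a ha b hb
      rw [← hx, mem_cj] at ha hb
      have h1 := congrArg Subtype.val (hS₀.is_comm.comm ⟨_, ha⟩ ⟨_, hb⟩)
      have h2 : x⁻¹ * a * x * (x⁻¹ * b * x) = x⁻¹ * b * x * (x⁻¹ * a * x) := h1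
      have h3 : x⁻¹ * (a * b) * x = x⁻¹ * (b * a) * x := by
        have e1 : x⁻¹ * a * x * (x⁻¹ * b * x) = x⁻¹ * (a * b) * x := by group
        have e2 : x⁻¹ * b * x * (x⁻¹ * a * x) = x⁻¹ * (b * a) * x := by group
        rw [← e1, ← e2, h2]
      exact mul_left_cancel (mul_right_cancel h3)
    have hSCB : S ≤ centralizer (B : Set G) := by
      intro s hs
      rw [mem_centralizer_iff]
      intro b hb
      exact hSab b (hBS hb) s hs
    exact hcontra 1 (one_mem _) S hS (by rw [cj_one]; exact hSCB.trans hCB)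
  · have hB2 := hqs q B hq hqk hBD hBe hBc
    have hnotideal := (Cfsg.Agent.S1408.result hG M h.hM q hq.2.1 hq.2.2.1 hq.2.2.2).1
    have hqβ : q ∉ beta Ns := fun hb => hnotideal hb.2
    obtain ⟨c, hc, S, hS, hSc⟩ := Cfsg.Agent.Lib.Helper11BG76keyX.keyX hG h.pt h.KsK h.kp h.Kc hq.1
      hqk hqβ (isPGroup_of_elemAb hBe) hB2
    apply hcontra c hc S hS
    intro s hs
    rw [mem_cj]
    apply hCB
    rw [mem_centralizer_iff]
    intro b hb
    have h1 := (mem_centralizer_iff.1 (hSc hs)) (c * b * c⁻¹) (conj_mem_cj hb)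
    have e1 : b * (c⁻¹ * s * c) = c⁻¹ * (c * b * c⁻¹ * s) * c := by group
    have e2 : c⁻¹ * s * c * b = c⁻¹ * (s * (c * b * c⁻¹)) * c := by group
    rw [e1, e2, h1]

end Cfsg.Agent.Lib.Helper11BG76tau2
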