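import Cfsg.Agent.Lib.Helper52BGDefs
import Cfsg.Agent.Lib.Helper3Class2
import Cfsg.Agent.Lib.Helper3PGroup
import Cfsg.Agent.Lib.Helper3Nilp

set_option autoImplicit false
open Cfsg

namespace Cfsg.Agent.Lib.Helper11BGP3

open Subgroup
open Cfsg.Agent.Lib.Helper30Trans
open Cfsg.Agent.Lib.Helper24BG
open Cfsg.Agent.Lib.Helper52BGDefs
open Cfsg.Agent.Lib.Helper30Rank3
open Cfsg.Agent.Lib.Helper3RankTower
open scoped commutatorElement

universe u
variable {G : Type u} [Group G]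

/-- `Ω₁(Z(S))` -/
def Z1 (s : ℕ) (S : Subgroup G) : Subgroup G where
  carrier := {z | z ∈ S ∧ (∀ x ∈ S, x * z = z * x) ∧ z ^ s = 1}
  mul_mem' := by
    rintro a b ⟨ha, hac, has⟩ ⟨hb, hbc, hbs⟩
    refine ⟨S.mul_mem ha hb, fun x hx => ?_, ?_⟩
    · rw [← mul_assoc, hac x hx, mul_assoc, hbc x hx, mul_assoc]
    · rw [(show Commute a b from hbc a ha).mul_pow, has, hbs, one_mul]
  one_mem' := ⟨S.one_mem, fun x _ => by simp, one_pow s⟩
  inv_mem' := by
    rintro a ⟨ha, hac, has⟩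
    refine ⟨S.inv_mem ha, fun x hx => ?_, by rw [inv_pow, has, inv_one]⟩
    exact ((show Commute x a from hac x hx).inv_right).eq

lemma mem_Z1 {s : ℕ} {S : Subgroup G} {z : G} :
    z ∈ Z1 s S ↔ z ∈ S ∧ (∀ x ∈ S, x * z = z * x) ∧ z ^ s = 1 := Iff.rfl

/-- the elements of order dividing `s` that are central modulo `Ω₁(Z(S))` -/
def W1 (s : ℕ) (hs : s.Prime) (hs2 : s ≠ 2) (S : Subgroup G) : Subgroup G where
  carrier := {w | w ∈ S ∧ w ^ s = 1 ∧ ∀ x ∈ S, ⁅w, x⁆ ∈ Z1 s S}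
  mul_mem' := by
    rintro a b ⟨ha, has, hac⟩ ⟨hb, hbs, hbc⟩
    refine ⟨S.mul_mem ha hb, ?_, fun x hx => ?_⟩
    · have h1 := hbc a ha
      rw [Cfsg.Agent.Lib.Helper3Class2.mul_pow_prime_class2 hs hs2 a b (h1.2.1 a ha).symm
        (h1.2.1 b hb).symm h1.2.2, has, hbs, one_mul]
    · have h1 := hbc x hx
      have e : ⁅a * b, x⁆ = a * ⁅b, x⁆ * a⁻¹ * ⁅a, x⁆ := by
        simp only [commutatorElement_def]; group
      rw [e, h1.2.1 a ha, mul_assoc ⁅b, x⁆, mul_inv_cancel, mul_one]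
      exact (Z1 s S).mul_mem h1 (hac x hx)
  one_mem' := ⟨S.one_mem, one_pow s, fun x _ => by
    rw [commutatorElement_one_left]; exact (Z1 s S).one_mem⟩
  inv_mem' := by
    rintro a ⟨ha, has, hac⟩
    refine ⟨S.inv_mem ha, by rw [inv_pow, has, inv_one], fun x hx => ?_⟩
    have h1 := (Z1 s S).inv_mem (hac x hx)
    have e : ⁅a⁻¹, x⁆ = a⁻¹ * ⁅a, x⁆⁻¹ * a := by
      simp only [commutatorElement_def]; group
    rw [e, h1.2.1 a⁻¹ (S.inv_mem ha), mul_assoc, inv_mul_cancel, mul_one]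
    exact h1

lemma le_normalizer_Z1 {s : ℕ} {S E : Subgroup G} (hES : E ≤ normalizer (S : Set G)) :
    E ≤ normalizer (Z1 s S : Set G) := by
  rw [le_normalizer_iff] at hES ⊢
  rintro e he z ⟨hz, hzc, hzs⟩
  refine ⟨hES e he z hz, fun x hx => ?_, by rw [conj_pow, hzs]; group⟩
  have h1 := hzc (e⁻¹ * x * e⁻¹⁻¹) (hES e⁻¹ (E.inv_mem he) x hx)
  calc x * (e * z * e⁻¹) = e * ((e⁻¹ * x * e⁻¹⁻¹) * z) * e⁻¹ := by group
    _ = e * (z * (e⁻¹ * x * e⁻¹⁻¹)) * e⁻¹ := by rw [h1]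
    _ = e * z * e⁻¹ * x := by group

lemma le_normalizer_W1 {s : ℕ} (hs : s.Prime) (hs2 : s ≠ 2) {S E : Subgroup G}
    (hES : E ≤ normalizer (S : Set G)) : E ≤ normalizer (W1 s hs hs2 S : Set G) := by
  have hZ := le_normalizer_Z1 (s := s) hES
  rw [le_normalizer_iff] at hES hZ ⊢
  rintro e he w ⟨hw, hws, hwc⟩
  refine ⟨hES e he w hw, by rw [conj_pow, hws]; group, fun x hx => ?_⟩
  have h1 := hwc (e⁻¹ * x * e⁻¹⁻¹) (hES e⁻¹ (E.inv_mem he) x hx)
  have e1 : ⁅e * w * e⁻¹, x⁆ = e * ⁅w, e⁻¹ * x * e⁻¹⁻¹⁆ * e⁻¹ := by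
    simp only [commutatorElement_def]; group
  rw [e1]
  exact hZ e he _ h1

variable [Finite G]

/-- a normal elementary abelian subgroup of order `s ^ 2` has a centralizer of rank at least 3 -/
lemma rank_centralizer_of_normal_sq {s : ℕ} [Fact s.Prime] (hs2 : s ≠ 2) {S B : Subgroup G}
    (hSp : IsPGroup s S) (hS3 : ¬ PRankLE s 2 S) (hBS : B ≤ S) (hSB : S ≤ normalizer (B : Set G))
    (hB : IsElementaryAbelian s B) (hB2 : Nat.card B = s ^ 2) :
    ¬ PRankLE s 2 ↥(S ⊓ centralizer (B : Set G) : Subgroup G) := by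
  have hN : (B.subgroupOf S).Normal := (normal_subgroupOf_iff_le_normalizer hBS).mpr hSB
  have hc : Nat.card (B.subgroupOf S) = s ^ 2 := by
    rw [← hB2]
    exact Nat.card_congr (subgroupOfEquivOfLe hBS).toEquiv
  have hel : IsElementaryAbelian s (B.subgroupOf S) := by
    refine ⟨⟨⟨fun a b => ?_⟩⟩, fun a ha => ?_⟩
    · apply Subtype.ext
      apply Subtype.ext
      have h := congrArg Subtype.val (hB.1.is_comm.comm ⟨a.1.1, a.2⟩ ⟨b.1.1, b.2⟩)
      exact h
    · apply Subtype.ext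
      exact hB.2 a.1 ha
  obtain ⟨A, hBA, hAn, hAC, hA3⟩ := Cfsg.Agent.S1452.result s hs2 hSp hS3 (B.subgroupOf S) hel hc
  intro h
  apply hA3
  have hle : A.map S.subtype ≤ S ⊓ centralizer (B : Set G) := by
    rintro _ ⟨a, ha, rfl⟩
    refine Subgroup.mem_inf.mpr ⟨a.2, ?_⟩
    rw [mem_centralizer_iff]
    intro b hb
    have ha' : a ∈ centralizer (A : Set S) := by rw [hAC]; exact ha
    have hb' : (⟨b, hBS hb⟩ : S) ∈ A := hBA (mem_subgroupOf.mpr hb)
    exact congrArg Subtype.val (mem_centralizer_iff.mp ha' _ hb')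
  have h1 := rank_le_of_le hle h
  exact rank_of_injective (A.equivMapOfInjective S.subtype S.subtype_injective).toMonoidHom
    (A.equivMapOfInjective S.subtype S.subtype_injective).injective h1


variable {p : ℕ} [Fact p.Prime]

/-- the common part of the two cases -/
lemma core {s : ℕ} [Fact s.Prime] (hs2 : s ≠ 2) (hsp : s ≠ p) {S E R E0 : Subgroup G}
    (hSp : IsPGroup s S) (hS3 : ¬ PRankLE s 2 S) (hE : IsElementaryAbelian p E)
    (hE3 : p ^ 3 ≤ Nat.card E) (hRS : R ≤ S) (hRexp : ∀ w ∈ R, w ^ s = 1)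
    (hER : E ≤ normalizer (R : Set G)) {z : G} (hzR : z ∈ R) (hz1 : z ≠ 1) (hE0 : E0 ≤ E)
    (hi0 : E0.relIndex E ≤ p) (hE0z : ∀ e ∈ E0, e * z = z * e)
    (hR3 : ∀ w ∈ R, ∀ x ∈ S, ⁅x, w⁆ ∈ zpowers z) (hR5 : ¬ R ≤ zpowers z) :
    ∃ e ∈ E, e ≠ 1 ∧ ∃ B : Subgroup G, B ≤ S ⊓ centralizer ({e} : Set G) ∧
      IsElementaryAbelian s B ∧ Nat.card B = s ^ 2 ∧
      ¬ PRankLE s 2 ↥(S ⊓ centralizer (B : Set G) : Subgroup G) := by
  have hp : p.Prime := Fact.out
  have hs : s.Prime := Fact.out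
  have hpR : ¬ p ∣ Nat.card R := not_dvd_card_of_le hRS (not_dvd_card_of_isPGroup hp hsp hSp)
  obtain ⟨E1, hE1E, hi1, hc1⟩ := exists_hyperplane_not_le hE.1 hE.2 hpR hER hR5
  obtain ⟨e, he, he1⟩ := exists_mem_inf_hyperplanes hp hE3 hi0 hi1
  obtain ⟨heE0, heE1⟩ := Subgroup.mem_inf.mp he
  obtain ⟨w, hw, hwz⟩ := SetLike.not_le_iff_exists.mp hc1
  obtain ⟨hwR, hwC⟩ := Subgroup.mem_inf.mp hw
  set X : Subgroup G := R ⊓ centralizer ({e} : Set G) with hX
  have hzX : z ∈ X :=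
    Subgroup.mem_inf.mpr ⟨hzR, mem_centralizer_singleton_iff.mpr (hE0z e heE0).symm⟩
  have hwX : w ∈ X :=
    Subgroup.mem_inf.mpr ⟨hwR, mem_centralizer_singleton_iff.mpr
      ((mem_centralizer_iff.mp hwC) e heE1).symm⟩
  have hXS : X ≤ S := inf_le_left.trans hRS
  have hXp : IsPGroup s X := hSp.to_le hXS
  have hzle : zpowers z ≤ X := by rw [zpowers_le]; exact hzX
  have hzlt : zpowers z < X := lt_of_le_of_ne hzle (fun h => hwz (by rw [h]; exact hwX))
  have hzc : Nat.card (zpowers z) = s := by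
    rw [Nat.card_zpowers]
    exact orderOf_eq_prime (hRexp z hzR) hz1
  have hdvd : s ^ 2 ∣ Nat.card X := by
    obtain ⟨k, hk⟩ := IsPGroup.iff_card.mp hXp
    have hlt := Cfsg.Agent.Lib.Helper30Coprime.card_lt_of_lt hzlt
    rw [hzc, hk] at hlt
    rw [hk]
    apply pow_dvd_pow
    by_contra hcon
    have hk1 : k ≤ 1 := by omega
    have : s ^ k ≤ s ^ 1 := Nat.pow_le_pow_right hs.pos hk1
    rw [pow_one] at this
    omega
  have hc1' : Nat.card ((zpowers z).subgroupOf X) = s ^ 1 := by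
    rw [pow_one, ← hzc]
    exact Nat.card_congr (subgroupOfEquivOfLe hzle).toEquiv
  obtain ⟨K', hK'c, hK'z⟩ := Sylow.exists_subgroup_card_pow_prime_le s hdvd _ hc1' (by norm_num)
  set K : Subgroup G := K'.map X.subtype with hK
  have hKX : K ≤ X := map_subtype_le K'
  have hKc : Nat.card K = s ^ 2 := by
    rw [hK, card_map_of_injective X.subtype_injective, hK'c]
  have hzK : zpowers z ≤ K := by
    intro y hy
    exact ⟨⟨y, hzle hy⟩, hK'z (mem_subgroupOf.mpr hy), rfl⟩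
  have hKel : IsElementaryAbelian s K :=
    ⟨IsPGroup.isMulCommutative_of_card_eq_prime_sq hKc, fun a ha => hRexp a (hKX ha).1⟩
  have hSK : S ≤ normalizer (K : Set G) := by
    rw [le_normalizer_iff]
    intro x hx k hk
    have h1 := hzK (hR3 k (hKX hk).1 x hx)
    have e1 : x * k * x⁻¹ = ⁅x, k⁆ * k := by rw [commutatorElement_def]; group
    rw [e1]
    exact K.mul_mem h1 hk
  refine ⟨e, hE0 heE0, he1, K, le_inf (hKX.trans hXS) (hKX.trans inf_le_right), hKel, hKc, ?_⟩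
  exact rank_centralizer_of_normal_sq hs2 hSp hS3 (hKX.trans hXS) hSK hKel hKc

theorem exists_centralized_sq {s : ℕ} [Fact s.Prime] (hs2 : s ≠ 2) (hsp : s ≠ p) {S E : Subgroup G}
    (hSp : IsPGroup s S) (hS3 : ¬ PRankLE s 2 S) (hE : IsElementaryAbelian p E)
    (hE3 : p ^ 3 ≤ Nat.card E) (hES : E ≤ normalizer (S : Set G)) :
    ∃ e ∈ E, e ≠ 1 ∧ ∃ B : Subgroup G, B ≤ S ⊓ centralizer ({e} : Set G) ∧
      IsElementaryAbelian s B ∧ Nat.card B = s ^ 2 ∧
      ¬ PRankLE s 2 ↥(S ⊓ centralizer (B : Set G) : Subgroup G) := by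
  have hp : p.Prime := Fact.out
  have hs : s.Prime := Fact.out
  have hnc : ¬ IsCyclic S := fun h => hS3 (rank_mono hs.pos (rank_one_of_cyclic hs.pos) (by norm_num))
  have hZS : Z1 s S ≤ S := fun z hz => hz.1
  have hZ0 : ¬ Z1 s S ≤ ⊥ := by
    intro h0
    have hnt : (⊤ : Subgroup S) ≠ ⊥ := by
      intro h
      apply hnc
      have : Subsingleton S := Subgroup.subsingleton_iff.mp (subsingleton_of_bot_eq_top h.symm)
      infer_instance
    obtain ⟨x, -, hxc, hx1, hxs⟩ := Cfsg.Agent.Lib.Helper3PGroup.exists_central_order_p hSp ⊤ hnt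
    have hx : (x : G) ∈ Z1 s S :=
      ⟨x.2, fun y hy => congrArg Subtype.val (mem_center_iff.mp hxc ⟨y, hy⟩),
        congrArg Subtype.val hxs⟩
    exact hx1 (Subtype.ext (h0 hx))
  have hpZ : ¬ p ∣ Nat.card (Z1 s S) :=
    not_dvd_card_of_le hZS (not_dvd_card_of_isPGroup hp hsp hSp)
  obtain ⟨E0, hE0E, hi0, hc0⟩ := exists_hyperplane_not_le hE.1 hE.2 hpZ (le_normalizer_Z1 hES) hZ0
  obtain ⟨z, hz, hz1⟩ := SetLike.not_le_iff_exists.mp hc0
  obtain ⟨hzZ, hzC⟩ := Subgroup.mem_inf.mp hz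
  have hz1' : z ≠ 1 := fun h => hz1 (by rw [h]; exact one_mem _)
  have hE0z : ∀ e ∈ E0, e * z = z * e := fun e he => (mem_centralizer_iff.mp hzC) e he
  by_cases hcase : Z1 s S ≤ zpowers z
  · -- `Ω₁(Z(S))` has order `s`
    have hzW : z ∈ W1 s hs hs2 S := by
      refine ⟨hzZ.1, hzZ.2.2, fun x hx => ?_⟩
      have : ⁅z, x⁆ = 1 := by
        rw [commutatorElement_eq_one_iff_mul_comm]
        exact (hzZ.2.1 x hx).symm
      rw [this]
      exact one_mem _
    apply core hs2 hsp hSp hS3 hE hE3 (R := W1 s hs hs2 S) (fun w hw => hw.1) (fun w hw => hw.2.1)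
      (le_normalizer_W1 hs hs2 hES) hzW hz1' hE0E hi0 hE0z
    · intro w hw x hx
      have h1 := hcase (hw.2.2 x hx)
      rw [← commutatorElement_inv]
      exact (zpowers z).inv_mem h1
    · intro hle
      obtain ⟨W, hWS, hSW, hWel, hWc⟩ := Cfsg.Agent.Lib.Helper24BG2.exists_normal_sq hs2 hSp hnc
      have hzc : Nat.card (zpowers z) = s := by
        rw [Nat.card_zpowers]
        exact orderOf_eq_prime hzZ.2.2 hz1'
      have hNn : ((Z1 s S).subgroupOf S).Normal := by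
        constructor
        intro a ha g
        have h1 : g * a * g⁻¹ = a := by
          apply Subtype.ext
          have h2 := (mem_subgroupOf.mp ha).2.1 g g.2
          show (g : G) * a * (g : G)⁻¹ = a
          rw [h2]; group
        rw [h1]; exact ha
      have hWn : (W.subgroupOf S).Normal := (normal_subgroupOf_iff_le_normalizer hWS).mpr hSW
      have hHn : ((W.subgroupOf S).map (QuotientGroup.mk' ((Z1 s S).subgroupOf S))).Normal :=
        hWn.map _ (QuotientGroup.mk'_surjective _)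
      have hH0 : (W.subgroupOf S).map (QuotientGroup.mk' ((Z1 s S).subgroupOf S)) ≠ ⊥ := by
        intro h0
        rw [Subgroup.map_eq_bot_iff, QuotientGroup.ker_mk'] at h0
        have h1 : W ≤ zpowers z := by
          intro w hw
          exact hcase (mem_subgroupOf.mp (h0 (mem_subgroupOf.mpr (show ((⟨w, hWS hw⟩ : S) : G) ∈ W from hw))))
        have h2 := card_le_of_le h1
        rw [hWc, hzc] at h2
        have : s ^ 2 = s * s := by ring
        have h3 : s * 2 ≤ s * s := Nat.mul_le_mul_left _ hs.two_le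
        have := hs.pos
        omega
      have hnil : Group.IsNilpotent (S ⧸ (Z1 s S).subgroupOf S) :=
        (hSp.to_quotient _).isNilpotent
      obtain ⟨x, ⟨w, hw, rfl⟩, hxc, hx1⟩ :=
        Cfsg.Agent.Lib.Helper3Nilp.normal_inf_center_ne_bot _ hH0
      apply hx1
      rw [QuotientGroup.mk'_apply, QuotientGroup.eq_one_iff, mem_subgroupOf]
      have hzle : zpowers z ≤ Z1 s S := by rw [zpowers_le]; exact hzZ
      apply hzle
      apply hle
      refine ⟨w.2, hWel.2 _ (mem_subgroupOf.mp hw), fun y hy => ?_⟩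
      have h1 := mem_center_iff.mp hxc (QuotientGroup.mk' _ (⟨y, hy⟩ : S))
      have h2 : QuotientGroup.mk' ((Z1 s S).subgroupOf S) ⁅w, (⟨y, hy⟩ : S)⁆ = 1 := by
        rw [map_commutatorElement, commutatorElement_eq_one_iff_mul_comm]
        exact h1.symm
      rw [QuotientGroup.mk'_apply, QuotientGroup.eq_one_iff, mem_subgroupOf] at h2
      exact h2
  · apply core hs2 hsp hSp hS3 hE hE3 (R := Z1 s S) hZS (fun w hw => hw.2.2)
      (le_normalizer_Z1 hES) hzZ hz1' hE0E hi0 hE0z _ hcase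
    intro w hw x hx
    have : ⁅x, w⁆ = 1 := by
      rw [commutatorElement_eq_one_iff_mul_comm]
      exact hw.2.1 x hx
    rw [this]
    exact one_mem _

end Cfsg.Agent.Lib.Helper11BGP3
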