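import Mathlib
import Cfsg.Agent.Lib.Helper11OddAut

set_option autoImplicit false

namespace Cfsg.Agent.Lib.Helper11CyclicTwo

open Subgroup

section
variable {G : Type*} [Group G]

/-- `M` behaves like a subgroup of index at most two in `Q`. -/
def P2 (Q M : Subgroup G) : Prop :=
  M ≤ Q ∧ ∀ x ∈ Q, ∀ y ∈ Q, (x * y ∈ M ↔ (x ∈ M ↔ y ∈ M))

theorem P2_of_index_two (Q A : Subgroup G) (hAQ : A ≤ Q) (h : (A.subgroupOf Q).index = 2) :
    P2 Q A := by
  refine ⟨hAQ, ?_⟩
  intro x hx y hy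
  exact mul_mem_iff_of_index_two h (a := (⟨x, hx⟩ : Q)) (b := (⟨y, hy⟩ : Q))

/-- conjugate of `A` by `h`, as a comap. -/
def cj (h : G) (A : Subgroup G) : Subgroup G := A.comap (MulAut.conj h⁻¹).toMonoidHom

theorem mem_cj (h x : G) (A : Subgroup G) : x ∈ cj h A ↔ h⁻¹ * x * h ∈ A := by
  simp [cj, Subgroup.mem_comap]

theorem P2_cj (Q A : Subgroup G) (hA : P2 Q A) (h : G) (hh : h ∈ normalizer (Q : Set G)) :
    P2 Q (cj h A) := by
  have hQ : ∀ x, x ∈ Q ↔ h⁻¹ * x * h ∈ Q := fun x => mem_normalizer_iff''.mp hh x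
  refine ⟨?_, ?_⟩
  · intro x hx
    rw [mem_cj] at hx
    exact (hQ x).mpr (hA.1 hx)
  · intro x hx y hy
    rw [mem_cj, mem_cj, mem_cj]
    have : h⁻¹ * (x * y) * h = (h⁻¹ * x * h) * (h⁻¹ * y * h) := by group
    rw [this]
    exact hA.2 _ ((hQ x).mp hx) _ ((hQ y).mp hy)

theorem P2_ext (Q A M M' : Subgroup G) (a b : G) (hA : A = zpowers a) (hAQ : P2 Q A) (hbQ : b ∈ Q)
    (hbA : b ∉ A) (hM : P2 Q M) (hM' : P2 Q M') (ha : a ∈ M ↔ a ∈ M') (hb : b ∈ M ↔ b ∈ M') :
    M = M' := by
  let E : Subgroup G :=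
    { carrier := {x | x ∈ Q ∧ (x ∈ M ↔ x ∈ M')}
      one_mem' := ⟨Q.one_mem, by simp [M.one_mem, M'.one_mem]⟩
      mul_mem' := by
        rintro x y ⟨hx, hx'⟩ ⟨hy, hy'⟩
        refine ⟨Q.mul_mem hx hy, ?_⟩
        rw [hM.2 x hx y hy, hM'.2 x hx y hy, hx', hy']
      inv_mem' := by
        rintro x ⟨hx, hx'⟩
        exact ⟨Q.inv_mem hx, by rw [inv_mem_iff, inv_mem_iff, hx']⟩ }
  have haQ : a ∈ Q := hAQ.1 (hA ▸ mem_zpowers a)
  have haE : a ∈ E := ⟨haQ, ha⟩
  have hbE : b ∈ E := ⟨hbQ, hb⟩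
  have hAE : A ≤ E := by rw [hA, zpowers_le]; exact haE
  have hQE : Q ≤ E := by
    intro x hx
    by_cases hxA : x ∈ A
    · exact hAE hxA
    · have h1 : b⁻¹ * x ∈ A := by
        rw [hAQ.2 _ (Q.inv_mem hbQ) _ hx, inv_mem_iff]
        exact ⟨fun h => absurd h hbA, fun h => absurd h hxA⟩
      have : x = b * (b⁻¹ * x) := by group
      rw [this]
      exact E.mul_mem hbE (hAE h1)
  ext x
  constructor
  · intro hx; exact ((hQE (hM.1 hx)).2).mp hx
  · intro hx; exact ((hQE (hM'.1 hx)).2).mpr hx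

/-- An element of odd order prime to `3` normalizing a `2`-group with a cyclic subgroup of index
at most `2` centralizes it. -/
theorem cyclic_index_two_aut (Q A : Subgroup G) [Finite Q] (hQ : IsPGroup 2 Q) (hAQ : A ≤ Q)
    (hc : IsCyclic A) (hidx : (A.subgroupOf Q).index ∣ 2) (g : G) (hg : Odd (orderOf g))
    (hg3 : ¬ 3 ∣ orderOf g) (hgQ : g ∈ normalizer (Q : Set G)) : g ∈ centralizer (Q : Set G) := by
  classical
  have hfin : IsOfFinOrder g := by
    rw [← orderOf_pos_iff]; exact hg.pos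
  have : Finite A := Finite.of_injective _ (inclusion_injective hAQ)
  suffices hgA : g ∈ normalizer (A : Set G) by
    have h1 := Helper11OddAut.mem_centralizer_of_isCyclic A (hQ.to_le hAQ) hc g hg hgA
    exact Helper11OddAut.mem_centralizer_of_index_two A Q hQ hAQ hidx g hg h1 hgQ
  rcases (Nat.dvd_prime Nat.prime_two).mp hidx with h1 | h2
  · rw [index_eq_one, subgroupOf_eq_top] at h1
    rw [le_antisymm hAQ h1]
    exact hgQ
  · have hP2 : P2 Q A := P2_of_index_two Q A hAQ h2
    obtain ⟨a, ha⟩ := (Subgroup.isCyclic_iff_exists_zpowers_eq_top A).mp hc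
    obtain ⟨b, hbQ, hbA⟩ : ∃ b ∈ Q, b ∉ A := by
      by_contra hcon
      push Not at hcon
      have : (A.subgroupOf Q) = ⊤ := subgroupOf_eq_top.mpr hcon
      rw [this, index_top] at h2
      norm_num at h2
    let f : Fin 5 → Bool × Bool := fun i =>
      (decide (a ∈ cj (g ^ (i : ℕ)) A), decide (b ∈ cj (g ^ (i : ℕ)) A))
    obtain ⟨i, j, hij, hf⟩ := Fintype.exists_ne_map_eq_of_card_lt f (by simp)
    have hPi : ∀ i : ℕ, P2 Q (cj (g ^ i) A) := fun i => P2_cj Q A hP2 _ (pow_mem hgQ i)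
    have heq : cj (g ^ (i : ℕ)) A = cj (g ^ (j : ℕ)) A := by
      apply P2_ext Q A _ _ a b ha.symm hP2 hbQ hbA (hPi i) (hPi j)
      · have := congrArg Prod.fst hf
        simpa [f] using this
      · have := congrArg Prod.snd hf
        simpa [f] using this
    -- reduce to `i < j`
    have key : ∀ i j : ℕ, i < j → j < 5 → cj (g ^ i) A = cj (g ^ j) A →
        g ∈ normalizer (A : Set G) := by
      intro i j hlt hj5 heq
      set k := j - i with hk
      have hk1 : 1 ≤ k := by omega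
      have hk4 : k ≤ 4 := by omega
      have hgk : g ^ k ∈ normalizer (A : Set G) := by
        rw [mem_normalizer_iff'']
        intro y
        have h3 := SetLike.ext_iff.mp heq (g ^ i * y * (g ^ i)⁻¹)
        rw [mem_cj, mem_cj] at h3
        have e1 : (g ^ i)⁻¹ * (g ^ i * y * (g ^ i)⁻¹) * g ^ i = y := by group
        have e2 : (g ^ j)⁻¹ * (g ^ i * y * (g ^ i)⁻¹) * g ^ j = (g ^ k)⁻¹ * y * g ^ k := by
          have : g ^ j = g ^ i * g ^ k := by rw [← pow_add]; congr 1; omega
          rw [this]; group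
        rw [e1, e2] at h3
        exact h3
      have hcop : (orderOf g).Coprime k := by
        have h2' : (orderOf g).Coprime 2 := (Nat.coprime_two_left.mpr hg).symm
        have h3' : (orderOf g).Coprime 3 :=
          ((Nat.Prime.coprime_iff_not_dvd Nat.prime_three).mpr hg3).symm
        interval_cases k
        · simp
        · exact h2'
        · exact h3'
        · exact Nat.Coprime.mul_right h2' h2'
      have hz : zpowers (g ^ k) = zpowers g := by
        have : Finite (zpowers g) := by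
          exact Nat.finite_of_card_ne_zero (by rw [Nat.card_zpowers]; exact (orderOf_pos_iff.mpr hfin).ne')
        apply eq_of_le_of_card_ge
        · rw [zpowers_le]; exact pow_mem (mem_zpowers g) k
        · rw [Nat.card_zpowers, Nat.card_zpowers, hcop.orderOf_pow]
      have : zpowers (g ^ k) ≤ normalizer (A : Set G) := by rw [zpowers_le]; exact hgk
      rw [hz] at this
      exact this (mem_zpowers g)
    rcases lt_or_gt_of_ne (fun h => hij (Fin.ext h) : (i : ℕ) ≠ (j : ℕ)) with h | h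
    · exact key i j h j.2 heq
    · exact key j i h i.2 heq.symm

end

end Cfsg.Agent.Lib.Helper11CyclicTwo
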