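import Mathlib

set_option autoImplicit false
set_option linter.style.haveILetI false
set_option linter.deprecated false

namespace Cfsg.Agent.Lib.Helper11FieldOfIrr

universe u

/-- A commuting set of endomorphisms of a finite abelian group acting irreducibly generates a field,
and the group is one-dimensional over it. -/
theorem exists_field {V : Type u} [AddCommGroup V] [Finite V]
    (S : Set (AddMonoid.End V)) (hcomm : ∀ a ∈ S, ∀ b ∈ S, a * b = b * a)
    (hirr : ∀ W : AddSubgroup V, (∀ s ∈ S, ∀ w ∈ W, s w ∈ W) → W = ⊥ ∨ W = ⊤)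
    (x₀ : V) (hx₀ : x₀ ≠ 0) :
    ∃ (F : Type u) (_ : Field F) (_ : Fintype F) (e : F ≃+ V) (c : AddMonoid.End V → F),
      e 1 = x₀ ∧ (∀ s ∈ S, ∀ r, e (c s * r) = s (e r)) ∧
      (∀ s ∈ S, ∀ s' ∈ S, c (s * s') = c s * c s') ∧ Set.InjOn c S ∧
      (∀ s ∈ S, s ≠ 0 → c s ≠ 0) := by
  classical
  let R : Subring (AddMonoid.End V) := Subring.closure S
  letI : CommRing R := Subring.closureCommRingOfComm hcomm
  have hSR : ∀ s ∈ S, s ∈ R := fun s hs => Subring.subset_closure hs
  have hRc : ∀ r ∈ R, ∀ s ∈ S, s * r = r * s := by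
    intro r hr s hs
    have := mul_comm (⟨s, hSR s hs⟩ : R) ⟨r, hr⟩
    exact congrArg Subtype.val this
  -- kernels
  have hker : ∀ r ∈ R, ∀ v : V, v ≠ 0 → r v = 0 → r = 0 := by
    intro r hr v hv hrv
    let W : AddSubgroup V := AddMonoidHom.ker (r : V →+ V)
    have hW : ∀ s ∈ S, ∀ w ∈ W, s w ∈ W := by
      intro s hs w hw
      have hw' : r w = 0 := hw
      show r (s w) = 0
      have h1 : (r * s) w = (s * r) w := by rw [hRc r hr s hs]
      have h2 : r (s w) = s (r w) := h1
      rw [h2, hw', map_zero]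
    rcases hirr W hW with h | h
    · exfalso
      have : v ∈ W := hrv
      rw [h, AddSubgroup.mem_bot] at this
      exact hv this
    · ext w
      have : w ∈ W := by rw [h]; trivial
      exact this
  let ev : R →+ V :=
    { toFun := fun r => (r : AddMonoid.End V) x₀
      map_zero' := rfl
      map_add' := fun a b => rfl }
  have hevinj : Function.Injective ev := by
    rw [injective_iff_map_eq_zero]
    intro r hr
    exact Subtype.ext (hker r r.2 x₀ hx₀ hr)
  have hevsurj : Function.Surjective ev := by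
    have hW : ∀ s ∈ S, ∀ w ∈ ev.range, s w ∈ ev.range := by
      rintro s hs _ ⟨r, rfl⟩
      exact ⟨⟨s, hSR s hs⟩ * r, rfl⟩
    rcases hirr ev.range hW with h | h
    · exfalso
      have : x₀ ∈ ev.range := ⟨1, rfl⟩
      rw [h, AddSubgroup.mem_bot] at this
      exact hx₀ this
    · intro v
      have : v ∈ ev.range := by rw [h]; trivial
      exact this
  haveI : Finite R := Finite.of_injective ev hevinj
  haveI : Fintype R := Fintype.ofFinite R
  haveI : Nontrivial R := by
    refine ⟨⟨0, 1, fun h => hx₀ ?_⟩⟩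
    have := congrArg ev h
    exact this.symm
  haveI : NoZeroDivisors R := by
    refine ⟨fun {a b} hab => ?_⟩
    by_contra hcon
    push Not at hcon
    obtain ⟨ha, hb⟩ := hcon
    have hb' : ev b ≠ 0 := fun h => hb (hevinj (h.trans (map_zero ev).symm))
    have h1 : (a : AddMonoid.End V) (ev b) = 0 := by
      have := congrArg ev hab
      exact this
    exact ha (Subtype.ext (hker a a.2 _ hb' h1))
  haveI : IsDomain R := NoZeroDivisors.to_isDomain R
  letI : Field R := Fintype.fieldOfDomain R
  let c : AddMonoid.End V → R := fun t => if h : t ∈ R then ⟨t, h⟩ else 0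
  have hc : ∀ t (h : t ∈ R), c t = ⟨t, h⟩ := fun t h => dif_pos h
  refine ⟨R, inferInstance, inferInstance, AddEquiv.ofBijective ev ⟨hevinj, hevsurj⟩,
    c, rfl, ?_, ?_, ?_, ?_⟩
  · intro s hs r
    rw [hc s (hSR s hs)]
    rfl
  · intro s hs s' hs'
    rw [hc s (hSR s hs), hc s' (hSR s' hs'), hc _ (R.mul_mem (hSR s hs) (hSR s' hs'))]
    rfl
  · intro s hs s' hs' h
    rw [hc s (hSR s hs), hc s' (hSR s' hs')] at h
    exact congrArg Subtype.val h
  · intro s hs h0 h
    rw [hc s (hSR s hs)] at h
    exact h0 (congrArg Subtype.val h)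

end Cfsg.Agent.Lib.Helper11FieldOfIrr
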