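import Mathlib
import Cfsg.Agent.Lib.Helper11FieldOfIrr

set_option autoImplicit false
set_option linter.style.haveILetI false

namespace Cfsg.Agent.Lib.Helper11FieldOfFrob

open Cfsg.Agent.Lib.Helper11FieldOfIrr

universe u

theorem card_dvd_of_free {A X : Type*} [Group A] [MulAction A X] [Finite A] [Finite X]
    (h : ∀ (a : A) (x : X), a • x = x → a = 1) : Nat.card A ∣ Nat.card X := by
  have e1 := MulAction.selfEquivSigmaOrbitsQuotientStabilizer A X
  have := Fintype.ofFinite (MulAction.orbitRel.Quotient A X)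
  rw [Nat.card_congr e1, Nat.card_sigma]
  apply Finset.dvd_sum
  intro ω _
  have hst : MulAction.stabilizer A ω.out = ⊥ := by
    rw [eq_bot_iff]
    intro a ha
    rw [MulAction.mem_stabilizer_iff] at ha
    exact h a _ ha
  rw [hst]
  have := (⊥ : Subgroup A).card_eq_card_quotient_mul_card_subgroup
  rw [Subgroup.card_bot, mul_one] at this
  rw [this]

theorem arith {p q d n : ℕ} (hp : 2 ≤ p) (hn : n * (p - 1) = p ^ q - 1) (hd : d ≤ q)
    (hdvd : n ∣ p ^ d - 1) : d = 0 ∨ d = q := by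
  by_contra hcon
  push Not at hcon
  obtain ⟨h0, hq⟩ := hcon
  have hdq : d + 1 ≤ q := by omega
  have h1 : 1 < p ^ d := Nat.one_lt_pow h0 (by omega)
  have hle : n ≤ p ^ d - 1 := Nat.le_of_dvd (by omega) hdvd
  have h2 : p ^ (d + 1) ≤ p ^ q := Nat.pow_le_pow_right (by omega) hdq
  have h3 : n * (p - 1) ≤ (p ^ d - 1) * (p - 1) := Nat.mul_le_mul_right _ hle
  obtain ⟨a, rfl⟩ : ∃ a, p = a + 2 := ⟨p - 2, by omega⟩
  obtain ⟨b, hb⟩ : ∃ b, (a + 2) ^ d = b + 2 := ⟨(a + 2) ^ d - 2, by omega⟩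
  rw [pow_succ, hb] at h2
  rw [hn, hb] at h3
  have e1 : a + 2 - 1 = a + 1 := by omega
  have e2 : b + 2 - 1 = b + 1 := by omega
  rw [e1, e2] at h3
  have h4 : (b + 2) * (a + 2) - 1 ≤ (b + 1) * (a + 1) := le_trans (Nat.sub_le_sub_right h2 1) h3
  have h5 : (b + 2) * (a + 2) = (b + 1) * (a + 1) + (a + b + 3) := by ring
  omega

/-- the field structure on the kernel of a Frobenius group `P A` with `|P| = p ^ q`,
`|A| = (p ^ q - 1) / (p - 1)`. -/
theorem exists_field_group {G : Type u} [Group G] [Finite G] (p q : ℕ) [hp : Fact p.Prime]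
    (P A : Subgroup G) (hPc : IsMulCommutative P) (hPcard : Nat.card P = p ^ q)
    (hAc : IsMulCommutative A) (hAcard : Nat.card A * (p - 1) = p ^ q - 1)
    (hAP : ∀ u ∈ A, ∀ x ∈ P, u * x * u⁻¹ ∈ P)
    (hfpf : ∀ u ∈ A, u ≠ 1 → ∀ x ∈ P, u * x = x * u → x = 1)
    (x₀ : G) (hx₀ : x₀ ∈ P) (hx₀1 : x₀ ≠ 1) :
    ∃ (F : Type u) (_ : Field F) (_ : Fintype F) (f ψ : G → F), Fintype.card F = p ^ q ∧
      Set.BijOn f (P : Set G) Set.univ ∧ (∀ x ∈ P, ∀ z ∈ P, f (x * z) = f x + f z) ∧
      (∀ u ∈ A, ψ u ≠ 0 ∧ ∀ x ∈ P, f (u * x * u⁻¹) = ψ u * f x) ∧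
      (∀ u ∈ A, ∀ v ∈ A, ψ (u * v) = ψ u * ψ v) ∧ Set.InjOn ψ (A : Set G) ∧ f x₀ = 1 := by
  classical
  letI : CommGroup P :=
    { (inferInstance : Group P) with mul_comm := fun a b => hPc.is_comm.comm a b }
  let V := Additive P
  let ρ : A → AddMonoid.End V := fun u =>
    AddMonoidHom.mk' (fun v => Additive.ofMul
      (⟨(u : G) * ((Additive.toMul v : P) : G) * (u : G)⁻¹, hAP u u.2 _ (Additive.toMul v).2⟩ : P))
      (by
        intro a b
        apply congrArg Additive.ofMul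
        apply Subtype.ext
        show (u : G) * (((Additive.toMul a : P) : G) * ((Additive.toMul b : P) : G)) * (u : G)⁻¹ =
          ((u : G) * ((Additive.toMul a : P) : G) * (u : G)⁻¹) *
          ((u : G) * ((Additive.toMul b : P) : G) * (u : G)⁻¹)
        group)
  have hρ : ∀ (u : A) (v : V), ((Additive.toMul (ρ u v) : P) : G)
      = (u : G) * ((Additive.toMul v : P) : G) * (u : G)⁻¹ := fun _ _ => rfl
  have hVext : ∀ v w : V, ((Additive.toMul v : P) : G) = ((Additive.toMul w : P) : G) → v = w := by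
    intro v w h
    exact Additive.toMul.injective (Subtype.ext h)
  have hρmul : ∀ u w : A, ρ (u * w) = ρ u * ρ w := by
    intro u w
    ext v
    show _ = ((Additive.toMul (ρ u (ρ w v)) : P) : G)
    rw [hρ, hρ, hρ]
    simp [mul_assoc]
  have hfree : ∀ (u : A) (v : V), ρ u v = v → v ≠ 0 → u = 1 := by
    intro u v h hv
    by_contra hu
    apply hv
    have h1 := hρ u v
    rw [h] at h1
    have h2 : (u : G) * ((Additive.toMul v : P) : G) = ((Additive.toMul v : P) : G) * (u : G) := by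
      calc (u : G) * ((Additive.toMul v : P) : G)
          = ((u : G) * ((Additive.toMul v : P) : G) * (u : G)⁻¹) * u := by group
        _ = _ := by rw [← h1]
    have h3 := hfpf u u.2 (fun h => hu (Subtype.ext h)) _ (Additive.toMul v).2 h2
    apply hVext
    rw [h3]
    rfl
  have hρinj : Function.Injective ρ := by
    intro u w h
    have hx : (Additive.ofMul (⟨x₀, hx₀⟩ : P) : V) ≠ 0 := by
      intro h0
      apply hx₀1
      have := congrArg (fun v : V => ((Additive.toMul v : P) : G)) h0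
      exact this
    have h1 : ρ (w⁻¹ * u) (Additive.ofMul (⟨x₀, hx₀⟩ : P)) = Additive.ofMul (⟨x₀, hx₀⟩ : P) := by
      rw [hρmul, h, ← hρmul, inv_mul_cancel]
      apply hVext
      rw [hρ]
      simp
    have := hfree _ _ h1 hx
    exact (inv_mul_eq_one.1 this).symm
  have hcardV : Nat.card V = p ^ q := hPcard
  have hcomm : ∀ a ∈ Set.range ρ, ∀ b ∈ Set.range ρ, a * b = b * a := by
    rintro _ ⟨u, rfl⟩ _ ⟨w, rfl⟩
    rw [← hρmul, ← hρmul, hAc.is_comm.comm u w]
  have hirr : ∀ W : AddSubgroup V, (∀ s ∈ Set.range ρ, ∀ w ∈ W, s w ∈ W) → W = ⊥ ∨ W = ⊤ := by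
    intro W hW
    let X := ↥((W : Set V) \ {0})
    letI : MulAction A X :=
      { smul := fun u x => ⟨ρ u x.1, hW _ ⟨u, rfl⟩ _ x.2.1, by
          intro h0
          have h0' : ρ u x.1 = 0 := h0
          apply x.2.2
          have h1 : ρ (u⁻¹ * u) x.1 = 0 := by
            rw [hρmul]
            show ρ u⁻¹ (ρ u x.1) = 0
            rw [h0', map_zero]
          rw [inv_mul_cancel] at h1
          have h2 : ρ 1 x.1 = x.1 := by
            apply hVext
            rw [hρ]
            simp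
          rw [h2] at h1
          exact h1⟩
        one_smul := fun x => by
          apply Subtype.ext
          show ρ 1 x.1 = x.1
          apply hVext
          rw [hρ]
          simp
        mul_smul := fun u w x => by
          apply Subtype.ext
          show ρ (u * w) x.1 = ρ u (ρ w x.1)
          rw [hρmul]
          rfl }
    have hdvd : Nat.card A ∣ Nat.card X := by
      apply card_dvd_of_free
      intro u x hux
      have h1 : ρ u x.1 = x.1 := congrArg Subtype.val hux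
      exact hfree u x.1 h1 x.2.2
    have hXcard : Nat.card X = Nat.card W - 1 := by
      show Nat.card ↥((W : Set V) \ {0}) = _
      rw [Nat.card_coe_set_eq, Set.ncard_sdiff_singleton_of_mem W.zero_mem, ← Nat.card_coe_set_eq]
      rfl
    have hWdvd : Nat.card W ∣ p ^ q := by
      rw [← hcardV]
      exact AddSubgroup.card_addSubgroup_dvd_card W
    obtain ⟨d, hd, hWd⟩ := (Nat.dvd_prime_pow hp.out).1 hWdvd
    rw [hXcard, hWd] at hdvd
    rcases arith hp.out.two_le hAcard hd hdvd with rfl | rfl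
    · left
      rw [pow_zero] at hWd
      exact AddSubgroup.eq_bot_of_card_eq W hWd
    · right
      apply AddSubgroup.eq_top_of_card_eq
      rw [hWd, hcardV]
  have hx : (Additive.ofMul (⟨x₀, hx₀⟩ : P) : V) ≠ 0 := by
    intro h0
    apply hx₀1
    have := congrArg (fun v : V => ((Additive.toMul v : P) : G)) h0
    exact this
  obtain ⟨F, iF, iFt, e, c, he1, hec, hcmul, hcinj, hc0⟩ :=
    exists_field (Set.range ρ) hcomm hirr _ hx
  let f : G → F := fun g => if h : g ∈ P then e.symm (Additive.ofMul (⟨g, h⟩ : P)) else 0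
  let ψ : G → F := fun g => if h : g ∈ A then c (ρ ⟨g, h⟩) else 0
  have hf : ∀ g (h : g ∈ P), f g = e.symm (Additive.ofMul (⟨g, h⟩ : P)) := fun g h => dif_pos h
  have hψ : ∀ g (h : g ∈ A), ψ g = c (ρ ⟨g, h⟩) := fun g h => dif_pos h
  refine ⟨F, iF, iFt, f, ψ, ?_, ⟨fun _ _ => trivial, ?_, ?_⟩, ?_, ?_, ?_, ?_, ?_⟩
  · rw [← Nat.card_eq_fintype_card, Nat.card_congr e.toEquiv, hcardV]
  · intro x hx y hy hxy
    rw [hf x hx, hf y hy] at hxy
    have := e.symm.injective hxy
    exact congrArg (fun v : V => ((Additive.toMul v : P) : G)) this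
  · intro r _
    refine ⟨((Additive.toMul (e r) : P) : G), (Additive.toMul (e r)).2, ?_⟩
    rw [hf _ (Additive.toMul (e r)).2]
    exact e.symm_apply_apply r
  · intro x hx z hz
    rw [hf x hx, hf z hz, hf _ (P.mul_mem hx hz), ← map_add]
    rfl
  · intro u hu
    refine ⟨?_, ?_⟩
    · rw [hψ u hu]
      apply hc0 _ ⟨_, rfl⟩
      intro h0
      have h1 : ρ ⟨u, hu⟩ (Additive.ofMul (⟨x₀, hx₀⟩ : P)) = 0 := by rw [h0]; rfl
      have h2 := hρ ⟨u, hu⟩ (Additive.ofMul (⟨x₀, hx₀⟩ : P))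
      rw [h1] at h2
      have h3 : (1 : G) = u * x₀ * u⁻¹ := h2
      apply hx₀1
      have : x₀ = u⁻¹ * (u * x₀ * u⁻¹) * u := by group
      rw [this, ← h3]
      group
    · intro x hx
      rw [hψ u hu, hf x hx, hf _ (hAP u hu x hx)]
      apply e.injective
      rw [hec _ ⟨_, rfl⟩, e.apply_symm_apply, e.apply_symm_apply]
      rfl
  · intro u hu v hv
    rw [hψ u hu, hψ v hv, hψ _ (A.mul_mem hu hv), ← hcmul _ ⟨_, rfl⟩ _ ⟨_, rfl⟩, ← hρmul]
    rfl
  · intro u hu v hv huv
    rw [hψ u hu, hψ v hv] at huv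
    have := hρinj (hcinj ⟨_, rfl⟩ ⟨_, rfl⟩ huv)
    exact congrArg Subtype.val this
  · rw [hf x₀ hx₀, ← he1, e.symm_apply_apply]

end Cfsg.Agent.Lib.Helper11FieldOfFrob
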