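import Mathlib
import Cfsg.Prelude.Def_SolvableStructure

set_option autoImplicit false

namespace Cfsg.Agent.Lib.Helper11Supersolvable

/-- Inductive form of the chains in `Cfsg.IsSupersolvable`. -/
inductive Chain {G : Type*} [Group G] : Subgroup G → Prop
  | bot : Chain ⊥
  | step (A : Subgroup G) (g : G) : Chain A → (A ⊔ Subgroup.zpowers g).Normal →
      Chain (A ⊔ Subgroup.zpowers g)

theorem Chain.normal {G : Type*} [Group G] {A : Subgroup G} (h : Chain A) : A.Normal := by
  cases h with
  | bot => infer_instance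
  | step A g _ hn => exact hn

theorem chain_of_fin {G : Type*} [Group G] (n : ℕ) (H : Fin (n + 1) → Subgroup G)
    (h0 : H 0 = ⊥) (hnorm : ∀ i, (H i).Normal)
    (hstep : ∀ i : Fin n, ∃ g : G, H i.succ = H i.castSucc ⊔ Subgroup.zpowers g) (i : Fin (n + 1)) :
    Chain (H i) := by
  induction i using Fin.induction with
  | zero => rw [h0]; exact Chain.bot
  | succ i ih =>
    obtain ⟨g, hg⟩ := hstep i
    have := hnorm i.succ
    rw [hg] at this ⊢
    exact Chain.step _ g ih this

theorem fin_of_chain {G : Type*} [Group G] {A : Subgroup G} (h : Chain A) :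
    ∃ (n : ℕ) (H : Fin (n + 1) → Subgroup G),
    H 0 = ⊥ ∧ H (Fin.last n) = A ∧ (∀ i, (H i).Normal) ∧
      ∀ i : Fin n, ∃ g : G, H i.succ = H i.castSucc ⊔ Subgroup.zpowers g := by
  induction h with
  | bot => exact ⟨0, fun _ => ⊥, rfl, rfl, fun _ => inferInstance, fun i => i.elim0⟩
  | step A g hA hn ih =>
    obtain ⟨n, H, h0, hl, hnorm, hstep⟩ := ih
    refine ⟨n + 1, Fin.snoc (α := fun _ => Subgroup G) H (A ⊔ Subgroup.zpowers g), ?_, ?_, ?_, ?_⟩
    · have : (0 : Fin (n + 1 + 1)) = Fin.castSucc (0 : Fin (n + 1)) := rfl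
      rw [this, Fin.snoc_castSucc, h0]
    · rw [Fin.snoc_last]
    · intro i
      induction i using Fin.lastCases with
      | last => rw [Fin.snoc_last]; exact hn
      | cast i => rw [Fin.snoc_castSucc]; exact hnorm i
    · intro i
      induction i using Fin.lastCases with
      | last =>
        refine ⟨g, ?_⟩
        rw [Fin.succ_last, Fin.snoc_last, Fin.snoc_castSucc, hl]
      | cast i =>
        obtain ⟨g', hg'⟩ := hstep i
        refine ⟨g', ?_⟩
        rw [Fin.succ_castSucc, Fin.snoc_castSucc, Fin.snoc_castSucc, hg']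

theorem isSupersolvable_iff {G : Type*} [Group G] :
    Cfsg.IsSupersolvable G ↔ Chain (⊤ : Subgroup G) := by
  constructor
  · rintro ⟨n, H, h0, hn, hnorm, hstep⟩
    rw [← hn]
    exact chain_of_fin n H h0 hnorm hstep _
  · intro h
    exact fin_of_chain h

theorem chain_sup_map {G K : Type*} [Group G] [Group K] (f : G →* K) (C : Subgroup K) (hC : Chain C)
    (hN : ∀ A : Subgroup G, A.Normal → (C ⊔ A.map f).Normal) {A : Subgroup G} (hA : Chain A) :
    Chain (C ⊔ A.map f) := by
  induction hA with
  | bot => simpa using hC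
  | step A g hA hn ih =>
    have h1 : C ⊔ (A ⊔ Subgroup.zpowers g).map f = (C ⊔ A.map f) ⊔ Subgroup.zpowers (f g) := by
      rw [Subgroup.map_sup, MonoidHom.map_zpowers, sup_assoc]
    have h2 := hN _ hn
    rw [h1] at h2 ⊢
    exact Chain.step _ _ ih h2

theorem map_inl' {G H : Type*} [Group G] [Group H] (A : Subgroup G) :
    A.map (MonoidHom.inl G H) = A.prod ⊥ := by
  ext ⟨x, y⟩
  simp only [Subgroup.mem_map, MonoidHom.inl_apply, Prod.mk.injEq, Subgroup.mem_prod,
    Subgroup.mem_bot]
  constructor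
  · rintro ⟨a, ha, rfl, rfl⟩; exact ⟨ha, rfl⟩
  · rintro ⟨ha, rfl⟩; exact ⟨x, ha, rfl, rfl⟩

theorem map_inr' {G H : Type*} [Group G] [Group H] (A : Subgroup H) :
    A.map (MonoidHom.inr G H) = (⊥ : Subgroup G).prod A := by
  ext ⟨x, y⟩
  simp only [Subgroup.mem_map, MonoidHom.inr_apply, Prod.mk.injEq, Subgroup.mem_prod,
    Subgroup.mem_bot]
  constructor
  · rintro ⟨a, ha, rfl, rfl⟩; exact ⟨rfl, ha⟩
  · rintro ⟨rfl, ha⟩; exact ⟨y, ha, rfl, rfl⟩

theorem prod_bot_sup_bot_prod' {G H : Type*} [Group G] [Group H] (A : Subgroup G) (B : Subgroup H) :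
    A.prod ⊥ ⊔ (⊥ : Subgroup G).prod B = A.prod B := by
  apply le_antisymm
  · exact sup_le (Subgroup.prod_mono le_rfl bot_le) (Subgroup.prod_mono bot_le le_rfl)
  · rintro ⟨x, y⟩ ⟨hx, hy⟩
    have : ((x, y) : G × H) = (x, 1) * (1, y) := by simp
    rw [this]
    exact Subgroup.mul_mem _ (Subgroup.mem_sup_left ⟨hx, rfl⟩) (Subgroup.mem_sup_right ⟨rfl, hy⟩)

theorem prod {G H : Type*} [Group G] [Group H] (hG : Cfsg.IsSupersolvable G)
    (hH : Cfsg.IsSupersolvable H) : Cfsg.IsSupersolvable (G × H) := by
  rw [isSupersolvable_iff] at hG hH ⊢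
  have h1 : Chain (⊥ ⊔ (⊤ : Subgroup G).map (MonoidHom.inl G H)) := by
    apply chain_sup_map _ _ Chain.bot _ hG
    intro A hA
    rw [bot_sup_eq, map_inl']
    infer_instance
  have h2 : Chain ((⊥ ⊔ (⊤ : Subgroup G).map (MonoidHom.inl G H)) ⊔
      (⊤ : Subgroup H).map (MonoidHom.inr G H)) := by
    apply chain_sup_map _ _ h1 _ hH
    intro A hA
    rw [bot_sup_eq, map_inl', map_inr', prod_bot_sup_bot_prod']
    infer_instance
  rwa [bot_sup_eq, map_inl', map_inr', prod_bot_sup_bot_prod',
    Subgroup.top_prod_top] at h2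

theorem of_surjective {G K : Type*} [Group G] [Group K] (f : G →* K) (hf : Function.Surjective f)
    (hG : Cfsg.IsSupersolvable G) : Cfsg.IsSupersolvable K := by
  obtain ⟨n, H, h0, hn, hnorm, hstep⟩ := hG
  refine ⟨n, fun i => (H i).map f, ?_, ?_, ?_, ?_⟩
  · simp [h0]
  · simp only [hn]
    exact (MonoidHom.range_eq_map f).symm.trans (MonoidHom.range_eq_top.mpr hf)
  · intro i
    have := hnorm i
    exact Subgroup.Normal.map inferInstance f hf
  · intro i
    obtain ⟨g, hg⟩ := hstep i
    refine ⟨f g, ?_⟩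
    simp only [hg, Subgroup.map_sup, MonoidHom.map_zpowers]

theorem step_subgroup {G : Type*} [Group G] (A B K : Subgroup G) [A.Normal] (g : G)
    (hB : B = A ⊔ Subgroup.zpowers g) :
    ∃ k : K, B.subgroupOf K = A.subgroupOf K ⊔ Subgroup.zpowers k := by
  classical
  let π := QuotientGroup.mk' A
  have hcyc : IsCyclic ((B ⊓ K).map π) := by
    have hle : (B ⊓ K).map π ≤ Subgroup.zpowers (π g) := by
      rw [← MonoidHom.map_zpowers]
      intro y hy
      obtain ⟨x, hx, rfl⟩ := hy
      have hxB : x ∈ A ⊔ Subgroup.zpowers g := hB ▸ hx.1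
      have : π x ∈ (A ⊔ Subgroup.zpowers g).map π := ⟨x, hxB, rfl⟩
      rw [Subgroup.map_sup] at this
      have hA : A.map π = ⊥ := by
        rw [Subgroup.map_eq_bot_iff]
        simp [π]
      rwa [hA, bot_sup_eq] at this
    exact Subgroup.isCyclic_of_le hle
  obtain ⟨y, hy⟩ := (Subgroup.isCyclic_iff_exists_zpowers_eq_top _).mp hcyc
  have hymem : y ∈ (B ⊓ K).map π := hy ▸ Subgroup.mem_zpowers y
  obtain ⟨k, hk, rfl⟩ := hymem
  refine ⟨⟨k, hk.2⟩, ?_⟩
  have hAB : A ≤ B := hB ▸ le_sup_left
  apply le_antisymm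
  · intro x hx
    have hxB : (x : G) ∈ B := hx
    have h1 : π x ∈ Subgroup.zpowers (π k) := by
      rw [hy]; exact ⟨x, ⟨hxB, x.2⟩, rfl⟩
    obtain ⟨j, hj⟩ := h1
    have h2 : (x : G) * (k ^ j)⁻¹ ∈ A := by
      have : π ((x : G) * (k ^ j)⁻¹) = 1 := by
        rw [map_mul, map_inv, map_zpow]
        simp only at hj
        rw [hj]; simp
      exact (QuotientGroup.eq_one_iff _).mp this
    have h3 : x = (x * ((⟨k, hk.2⟩ : K) ^ j)⁻¹) * (⟨k, hk.2⟩ : K) ^ j := by simp
    rw [h3]
    apply Subgroup.mul_mem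
    · apply Subgroup.mem_sup_left
      show ((x * ((⟨k, hk.2⟩ : K) ^ j)⁻¹ : K) : G) ∈ A
      simpa using h2
    · apply Subgroup.mem_sup_right
      exact Subgroup.zpow_mem _ (Subgroup.mem_zpowers _) _
  · apply sup_le
    · intro x hx
      exact hAB hx
    · rw [Subgroup.zpowers_le]
      exact hk.1

theorem of_subgroup {G : Type*} [Group G] (hG : Cfsg.IsSupersolvable G) (K : Subgroup G) :
    Cfsg.IsSupersolvable K := by
  obtain ⟨n, H, h0, hn, hnorm, hstep⟩ := hG
  refine ⟨n, fun i => (H i).subgroupOf K, ?_, ?_, ?_, ?_⟩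
  · simp [h0]
  · simp [hn]
  · intro i
    have := hnorm i
    infer_instance
  · intro i
    obtain ⟨g, hg⟩ := hstep i
    have := hnorm i.castSucc
    exact step_subgroup _ _ K g hg


theorem commutator_le_centralizer_of_isCyclic {Q : Type*} [Group Q] (Z : Subgroup Q) [Z.Normal]
    (hZ : IsCyclic Z) : commutator Q ≤ Subgroup.centralizer (Z : Set Q) := by
  let _ := (hZ.mulAutMulEquiv _).toMonoidHom.commGroupOfInjective (hZ.mulAutMulEquiv _).injective
  have h := Abelianization.commutator_subset_ker Z.normalizerMonoidHom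
  rw [Subgroup.normalizerMonoidHom_ker, Subgroup.normalizer_eq_top,
      ← Subgroup.map_subtype_le_map_subtype, Subgroup.map_subtype_commutator,
        Subgroup.map_subgroupOf_eq_of_le le_top] at h
  simpa [commutator_def] using h

theorem step_commutator {G : Type*} [Group G] (A : Subgroup G) [A.Normal] (g : G)
    (hB : (A ⊔ Subgroup.zpowers g).Normal) (x : G) (hx : x ∈ A ⊔ Subgroup.zpowers g) (d : G)
    (hd : d ∈ commutator G) : x * d * x⁻¹ * d⁻¹ ∈ A := by
  let π := QuotientGroup.mk' A
  have hπ : Function.Surjective π := QuotientGroup.mk'_surjective A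
  have hZeq : (A ⊔ Subgroup.zpowers g).map π = Subgroup.zpowers (π g) := by
    rw [Subgroup.map_sup, MonoidHom.map_zpowers]
    have hA : A.map π = ⊥ := by
      rw [Subgroup.map_eq_bot_iff]
      simp [π]
    rw [hA, bot_sup_eq]
  have hZn : ((A ⊔ Subgroup.zpowers g).map π).Normal := Subgroup.Normal.map hB π hπ
  have hZc : IsCyclic ((A ⊔ Subgroup.zpowers g).map π) := by
    rw [hZeq]; infer_instance
  have h1 := commutator_le_centralizer_of_isCyclic _ hZc
  have h2 : π d ∈ commutator (G ⧸ A) := by
    have : (commutator G).map π ≤ commutator (G ⧸ A) := by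
      rw [commutator_def, commutator_def, Subgroup.map_commutator]
      exact Subgroup.commutator_mono le_top le_top
    exact this ⟨d, hd, rfl⟩
  have h3 := h1 h2
  rw [Subgroup.mem_centralizer_iff] at h3
  have h4 := h3 (π x) ⟨x, hx, rfl⟩
  apply (QuotientGroup.eq_one_iff _).mp
  show π (x * d * x⁻¹ * d⁻¹) = 1
  rw [map_mul, map_mul, map_mul, map_inv, map_inv, h4]
  group

theorem chain_le_upperCentralSeries {G : Type*} [Group G] {A : Subgroup G} (hA : Chain A) :
    ∃ n, A.subgroupOf (commutator G) ≤ Subgroup.upperCentralSeries (commutator G) n := by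
  induction hA with
  | bot => exact ⟨0, by simp⟩
  | step A g hA hn ih =>
    obtain ⟨n, hn'⟩ := ih
    refine ⟨n + 1, ?_⟩
    intro x hx
    rw [Subgroup.mem_upperCentralSeries_succ_iff]
    intro y
    apply hn'
    have := hA.normal
    exact step_commutator A g hn x hx y y.2

theorem commutator_isNilpotent {G : Type*} [Group G] (hG : Cfsg.IsSupersolvable G) :
    Group.IsNilpotent (commutator G) := by
  rw [isSupersolvable_iff] at hG
  obtain ⟨n, hn⟩ := chain_le_upperCentralSeries hG
  refine ⟨n, ?_⟩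
  rw [Subgroup.top_subgroupOf] at hn
  exact top_le_iff.mp hn

theorem exists_normal_zpowers {G : Type*} [Group G] {A : Subgroup G} (hA : Chain A) (hne : A ≠ ⊥) :
    ∃ g : G, g ≠ 1 ∧ (Subgroup.zpowers g).Normal := by
  induction hA with
  | bot => exact absurd rfl hne
  | step A g hA hn ih =>
    by_cases h : A = ⊥
    · subst h
      rw [bot_sup_eq] at hn hne
      refine ⟨g, ?_, hn⟩
      rintro rfl
      simp at hne
    · exact ih h

theorem exists_normal_prime_card {G : Type*} [Group G] [Finite G] [Nontrivial G]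
    (hG : Cfsg.IsSupersolvable G) : ∃ N : Subgroup G, N.Normal ∧ (Nat.card N).Prime := by
  rw [isSupersolvable_iff] at hG
  obtain ⟨g, hg1, hgn⟩ := exists_normal_zpowers hG top_ne_bot
  have hn1 : orderOf g ≠ 1 := by rwa [Ne, orderOf_eq_one_iff]
  have hn0 : orderOf g ≠ 0 := (orderOf_pos g).ne'
  set p := (orderOf g).minFac with hp
  have hpp : p.Prime := Nat.minFac_prime hn1
  have hpd : p ∣ orderOf g := Nat.minFac_dvd _
  refine ⟨Subgroup.zpowers (g ^ (orderOf g / p)), ⟨?_⟩, ?_⟩
  · intro x hx u
    obtain ⟨k, rfl⟩ := hx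
    obtain ⟨j, hj⟩ := hgn.conj_mem g (Subgroup.mem_zpowers g) u
    simp only at hj ⊢
    refine ⟨j * k, ?_⟩
    simp only
    rw [← zpow_natCast, ← zpow_mul, ← zpow_mul, ← conj_zpow, ← hj, ← zpow_mul]
    congr 1
    ring
  · rw [Nat.card_zpowers, orderOf_pow_orderOf_div hn0 hpd]
    exact hpp

universe u

theorem index_prime_aux (n : ℕ) : ∀ (G : Type u) [Group G] [Finite G], Nat.card G = n →
    Cfsg.IsSupersolvable G → ∀ M : Subgroup G, IsCoatom M → M.index.Prime := by
  induction n using Nat.strong_induction_on with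
  | _ n ih =>
    intro G _ _ hcard hG M hM
    have hnt : Nontrivial G := by
      by_contra h
      rw [not_nontrivial_iff_subsingleton] at h
      exact hM.1 (Subsingleton.elim _ _)
    obtain ⟨N, hN, hNp⟩ := exists_normal_prime_card hG
    by_cases hNM : N ≤ M
    · let π := QuotientGroup.mk' N
      have hπ : Function.Surjective π := QuotientGroup.mk'_surjective N
      have hcomap : (M.map π).comap π = M := by
        apply Subgroup.comap_map_eq_self
        simpa [π] using hNM
      have hco : IsCoatom (M.map π) := by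
        constructor
        · intro h
          rw [h, Subgroup.comap_top] at hcomap
          exact hM.1 hcomap.symm
        · intro K hK
          have h1 : M < K.comap π := by
            rw [← hcomap]
            exact (Subgroup.comap_lt_comap_of_surjective hπ).mpr hK
          have h2 := hM.2 _ h1
          apply Subgroup.comap_injective hπ
          rw [h2, Subgroup.comap_top]
      have hlt : Nat.card (G ⧸ N) < n := by
        rw [← hcard, Subgroup.card_eq_card_quotient_mul_card_subgroup N]
        have h1 : 0 < Nat.card (G ⧸ N) := Nat.card_pos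
        have h2 := hNp.two_le
        nlinarith
      have h3 := ih _ hlt (G ⧸ N) rfl (of_surjective π hπ hG) _ hco
      rwa [← Subgroup.index_comap_of_surjective _ hπ, hcomap] at h3
    · have hsup : M ⊔ N = ⊤ := by
        apply hM.2
        apply lt_of_le_of_ne le_sup_left
        intro h
        apply hNM
        rw [h]
        exact le_sup_right
      have hinf : Disjoint M N := by
        rw [disjoint_iff]
        have h1 : Nat.card (M ⊓ N : Subgroup G) ∣ Nat.card N := Subgroup.card_dvd_of_le inf_le_right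
        rcases (Nat.dvd_prime hNp).mp h1 with h | h
        · exact Subgroup.card_eq_one.mp h
        · exfalso
          apply hNM
          have : M ⊓ N = N := Subgroup.eq_of_le_of_card_ge inf_le_right h.ge
          rw [← this]
          exact inf_le_left
      have hc : Subgroup.IsComplement' M N := by
        apply Subgroup.isComplement'_of_disjoint_and_mul_eq_univ hinf
        rw [← Subgroup.mul_normal, hsup]
        rfl
      rw [hc.symm.index_eq_card]
      exact hNp

theorem index_prime {G : Type u} [Group G] [Finite G] (hG : Cfsg.IsSupersolvable G)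
    (M : Subgroup G) (hM : IsCoatom M) : M.index.Prime :=
  index_prime_aux _ G rfl hG M hM

end Cfsg.Agent.Lib.Helper11Supersolvable
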