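import Cfsg.Agent.Lib.Helper98AschDefs

set_option autoImplicit false

/-! Piece `wcoord` of the ASCH-GEN project: a commuting family of full matrix algebras with trivial
common centraliser is the standard tensor power.  (Relative to the piece `enf`, which enters as a
hypothesis in `wreath_coord_of_enf`.) -/

namespace Cfsg.Agent.Lib.Helper12AschWcoord

open Cfsg Cfsg.Geo Matrix
open Cfsg.Agent.Lib.Helper97AschBase Cfsg.Agent.Lib.Helper98AschDefs
open scoped MatrixGroups Kronecker

section pr

variable {R : Type*}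

/-- ordered product of a family indexed by `Fin k` -/
def pr [Monoid R] {k : ℕ} (f : Fin k → R) : R := (List.ofFn f).prod

lemma pr_zero [Monoid R] (f : Fin 0 → R) : pr f = 1 := by simp [pr]

lemma pr_succ [Monoid R] {k : ℕ} (f : Fin (k + 1) → R) : pr f = f 0 * pr (fun i => f i.succ) := by
  simp [pr, List.ofFn_succ]

lemma pr_one [Monoid R] {k : ℕ} : pr (fun _ : Fin k => (1 : R)) = 1 := by
  induction k with
  | zero => exact pr_zero _
  | succ k ih => rw [pr_succ, ih, one_mul]

lemma pr_commute [Monoid R] {k : ℕ} (f : Fin k → R) (r : R) (h : ∀ i, Commute (f i) r) :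
    Commute (pr f) r := by
  induction k with
  | zero => rw [pr_zero]; exact Commute.one_left r
  | succ k ih => rw [pr_succ]; exact (h 0).mul_left (ih _ fun i => h _)

lemma pr_mul [Monoid R] {k : ℕ} (f g : Fin k → R) (h : ∀ i j, i ≠ j → Commute (f i) (g j)) :
    pr (fun i => f i * g i) = pr f * pr g := by
  induction k with
  | zero => simp [pr_zero]
  | succ k ih =>
    rw [pr_succ, pr_succ f, pr_succ g,
      ih (fun i => f i.succ) (fun i => g i.succ) (fun i j hij => h _ _ (by simpa using hij))]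
    have hc : Commute (pr fun i => f i.succ) (g 0) :=
      pr_commute _ _ fun i => h _ _ (Fin.succ_ne_zero i)
    calc f 0 * g 0 * (pr (fun i => f i.succ) * pr (fun i => g i.succ))
        = f 0 * (g 0 * pr (fun i => f i.succ)) * pr (fun i => g i.succ) := by
          simp only [mul_assoc]
      _ = f 0 * (pr (fun i => f i.succ) * g 0) * pr (fun i => g i.succ) := by rw [hc.eq]
      _ = _ := by simp only [mul_assoc]

lemma pr_single [Monoid R] {k : ℕ} (i : Fin k) (r : R) :
    pr (Function.update (fun _ : Fin k => (1 : R)) i r) = r := by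
  induction k with
  | zero => exact i.elim0
  | succ k ih =>
    rw [pr_succ]
    refine Fin.cases ?_ (fun i' => ?_) i
    · have : (fun j : Fin k => Function.update (fun _ : Fin (k + 1) => (1 : R)) 0 r j.succ) =
          fun _ => 1 := by
        funext j
        rw [Function.update_of_ne (Fin.succ_ne_zero j)]
      rw [this, pr_one, Function.update_self, mul_one]
    · have : (fun j : Fin k => Function.update (fun _ : Fin (k + 1) => (1 : R)) i'.succ r j.succ) =
          Function.update (fun _ : Fin k => (1 : R)) i' r := by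
        funext j
        by_cases hj : j = i'
        · subst hj; simp
        · rw [Function.update_of_ne hj, Function.update_of_ne (by simpa using hj)]
      rw [this, ih, Function.update_of_ne (Fin.succ_ne_zero i').symm, one_mul]

/-- pulling the `i`-th factor out of the product -/
lemma pr_update [Monoid R] {k : ℕ} (g : Fin k → R) (i : Fin k) (u : R)
    (h : ∀ j, j ≠ i → Commute u (g j)) :
    pr (Function.update g i u) = u * pr (Function.update g i 1) := by
  have h1 : Function.update g i u =
      fun j => Function.update (fun _ : Fin k => (1 : R)) i u j * Function.update g i 1 j := by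
    funext j
    by_cases hj : j = i
    · subst hj; simp
    · simp [Function.update_of_ne hj]
  rw [h1, pr_mul, pr_single]
  intro a b hab
  by_cases ha : a = i
  · subst ha
    rw [Function.update_self, Function.update_of_ne hab.symm]
    exact h b hab.symm
  · rw [Function.update_of_ne ha]
    exact Commute.one_left _

lemma pr_eq_zero [MonoidWithZero R] {k : ℕ} (f : Fin k → R) (i : Fin k) (h : f i = 0) :
    pr f = 0 := by
  apply List.prod_eq_zero
  rw [List.mem_ofFn]
  exact ⟨i, h⟩

lemma pr_sum [Semiring R] {α : Type*} [Fintype α] {k : ℕ} (f : Fin k → α → R) :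
    ∑ x : Fin k → α, pr (fun i => f i (x i)) = pr (fun i => ∑ a, f i a) := by
  induction k with
  | zero => simp [pr_zero]
  | succ k ih =>
    rw [pr_succ, ← ih, Finset.sum_mul_sum, ← (Fin.consEquiv (fun _ => α)).sum_comp,
      Fintype.sum_prod_type]
    simp [pr_succ, Fin.consEquiv]

end pr

section unitsHom

variable {F : Type*} [Field F] {κ : Type*} [Fintype κ] [DecidableEq κ]
  {B : Type*} [Ring B] [Algebra F B]

/-- the algebra homomorphism out of a full matrix algebra attached to a system of matrix units -/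
def unitsHom (E : κ → κ → B) (hmul : ∀ x y z w, E x y * E z w = if y = z then E x w else 0)
    (hone : ∑ x, E x x = 1) : Matrix κ κ F →ₐ[F] B :=
  AlgHom.ofLinearMap
    { toFun := fun X => ∑ x, ∑ y, X x y • E x y
      map_add' := by
        intro X Y
        simp [add_smul, Finset.sum_add_distrib]
      map_smul' := by
        intro c X
        simp [mul_smul, Finset.smul_sum] }
    (by
      show ∑ x, ∑ y, (1 : Matrix κ κ F) x y • E x y = 1
      simp [Matrix.one_apply, hone])
    (by
      intro X Y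
      show ∑ x, ∑ w, (X * Y) x w • E x w =
        (∑ x, ∑ y, X x y • E x y) * (∑ z, ∑ w, Y z w • E z w)
      rw [Finset.sum_mul]
      refine Finset.sum_congr rfl fun x _ => ?_
      rw [Finset.sum_mul]
      simp only [Finset.mul_sum, smul_mul_smul_comm, hmul, Matrix.mul_apply, Finset.sum_smul]
      rw [Finset.sum_comm]
      refine Finset.sum_congr rfl fun y _ => ?_
      rw [Finset.sum_comm]
      simp)

lemma unitsHom_apply (E : κ → κ → B)
    (hmul : ∀ x y z w, E x y * E z w = if y = z then E x w else 0)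
    (hone : ∑ x, E x x = 1) (X : Matrix κ κ F) :
    unitsHom (F := F) E hmul hone X = ∑ x, ∑ y, X x y • E x y := rfl

end unitsHom

section main

variable {n : ℕ} {F : Type*} [Field F] {k m : ℕ}

/-- matrix units of the tensor power -/
def EE (φ : Fin k → (Matrix (Fin m) (Fin m) F →ₐ[F] Matrix (Fin n) (Fin n) F))
    (x y : Fin k → Fin m) : Matrix (Fin n) (Fin n) F :=
  pr (fun i => φ i (Matrix.single (x i) (y i) 1))

lemma EE_mul (φ : Fin k → (Matrix (Fin m) (Fin m) F →ₐ[F] Matrix (Fin n) (Fin n) F))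
    (hcomm : ∀ i j, i ≠ j → ∀ a b, φ i a * φ j b = φ j b * φ i a) (x y z w : Fin k → Fin m) :
    EE φ x y * EE φ z w = if y = z then EE φ x w else 0 := by
  unfold EE
  rw [← pr_mul _ _ (fun i j hij => hcomm i j hij _ _)]
  split_ifs with h
  · subst h
    congr 1
    funext i
    rw [← map_mul, Matrix.single_mul_single_same, mul_one]
  · obtain ⟨i, hi⟩ := Function.ne_iff.mp h
    apply pr_eq_zero _ i
    rw [← map_mul, Matrix.single_mul_single_of_ne _ _ _ _ hi, map_zero]

lemma EE_sum (φ : Fin k → (Matrix (Fin m) (Fin m) F →ₐ[F] Matrix (Fin n) (Fin n) F)) :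
    ∑ x, EE φ x x = 1 := by
  unfold EE
  rw [pr_sum (fun i a => φ i (Matrix.single a a 1))]
  have : (fun i => ∑ a, φ i (Matrix.single a a 1)) = fun _ => 1 := by
    funext i
    rw [← map_sum, Matrix.sum_single_one, map_one]
  rw [this, pr_one]

lemma mul_single_eq_sum (a : Matrix (Fin m) (Fin m) F) (p q : Fin m) :
    a * Matrix.single p q 1 = ∑ c, a c p • Matrix.single c q (1 : F) := by
  ext r t
  simp only [Matrix.sum_apply, Matrix.single_apply, Matrix.mul_apply, Matrix.smul_apply,
    smul_eq_mul, mul_ite, mul_one, mul_zero]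
  by_cases hq : q = t
  · simp [hq]
  · simp [hq]

lemma map_mul_EE (φ : Fin k → (Matrix (Fin m) (Fin m) F →ₐ[F] Matrix (Fin n) (Fin n) F))
    (hcomm : ∀ i j, i ≠ j → ∀ a b, φ i a * φ j b = φ j b * φ i a) (i : Fin k)
    (a : Matrix (Fin m) (Fin m) F) (x y : Fin k → Fin m) :
    φ i a * EE φ x y = ∑ c, a c (x i) • EE φ (Function.update x i c) y := by
  set g : Fin k → Matrix (Fin n) (Fin n) F := fun j => φ j (Matrix.single (x j) (y j) 1) with hg
  have key : ∀ c, EE φ (Function.update x i c) y =
      φ i (Matrix.single c (y i) 1) * pr (Function.update g i 1) := by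
    intro c
    have h1 : (fun j => φ j (Matrix.single (Function.update x i c j) (y j) 1)) =
        Function.update g i (φ i (Matrix.single c (y i) 1)) := by
      funext j
      by_cases hj : j = i
      · subst hj; simp
      · simp [Function.update_of_ne hj, hg]
    unfold EE
    rw [h1, pr_update]
    intro j hj
    exact hcomm i j hj.symm _ _
  have h0 : EE φ x y = φ i (Matrix.single (x i) (y i) 1) * pr (Function.update g i 1) := by
    rw [← key (x i), Function.update_eq_self]
  rw [h0, ← mul_assoc, ← map_mul, mul_single_eq_sum, map_sum, Finset.sum_mul]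
  refine Finset.sum_congr rfl fun c _ => ?_
  rw [key, map_smul, smul_mul_assoc]

/-- the homomorphism from the big matrix algebra -/
def bigHom (φ : Fin k → (Matrix (Fin m) (Fin m) F →ₐ[F] Matrix (Fin n) (Fin n) F))
    (hcomm : ∀ i j, i ≠ j → ∀ a b, φ i a * φ j b = φ j b * φ i a) :
    Matrix (Fin k → Fin m) (Fin k → Fin m) F →ₐ[F] Matrix (Fin n) (Fin n) F :=
  unitsHom (EE φ) (EE_mul φ hcomm) (EE_sum φ)

lemma bigHom_factor (φ : Fin k → (Matrix (Fin m) (Fin m) F →ₐ[F] Matrix (Fin n) (Fin n) F))
    (hcomm : ∀ i j, i ≠ j → ∀ a b, φ i a * φ j b = φ j b * φ i a) (i : Fin k)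
    (a : Matrix (Fin m) (Fin m) F) : bigHom φ hcomm (factor i a) = φ i a := by
  unfold bigHom
  rw [unitsHom_apply, Finset.sum_comm]
  conv_rhs => rw [← mul_one (φ i a), ← EE_sum φ, Finset.mul_sum]
  refine Finset.sum_congr rfl fun y _ => ?_
  rw [map_mul_EE φ hcomm]
  have h1 : ∀ x : Fin k → Fin m, factor i a x y • EE φ x y =
      if ∀ j, j ≠ i → x j = y j then a (x i) (y i) • EE φ x y else 0 := by
    intro x
    unfold factor
    split_ifs <;> simp
  simp only [h1]
  rw [← Finset.sum_filter]
  refine Finset.sum_nbij' (fun x => x i) (fun c => Function.update y i c) ?_ ?_ ?_ ?_ ?_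
  · intro x _
    exact Finset.mem_univ _
  · intro c _
    rw [Finset.mem_filter]
    refine ⟨Finset.mem_univ _, fun j hj => ?_⟩
    rw [Function.update_of_ne hj]
  · intro x hx
    rw [Finset.mem_filter] at hx
    funext j
    by_cases hj : j = i
    · subst hj; simp
    · rw [Function.update_of_ne hj, hx.2 j hj]
  · intro c _
    simp
  · intro x hx
    rw [Finset.mem_filter] at hx
    have : Function.update y i (x i) = x := by
      funext j
      by_cases hj : j = i
      · subst hj; simp
      · rw [Function.update_of_ne hj, hx.2 j hj]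
    rw [this]

lemma tens_mul {κ₁ κ₂ : Type} [Fintype κ₁] [Fintype κ₂] [DecidableEq κ₁] [DecidableEq κ₂]
    (e : Fin n ≃ κ₁ × κ₂) (P : GL (Fin n) F) (a a' : Matrix κ₁ κ₁ F) (b b' : Matrix κ₂ κ₂ F) :
    tens e P a b * tens e P a' b' = tens e P (a * a') (b * b') := by
  unfold tens
  have hP : ((P⁻¹ : GL (Fin n) F) : Matrix (Fin n) (Fin n) F) * (P : Matrix (Fin n) (Fin n) F) = 1 := by
    rw [← Units.val_mul, inv_mul_cancel, Units.val_one]
  rw [Matrix.mul_kronecker_mul, Matrix.reindex_apply, Matrix.reindex_apply, Matrix.reindex_apply,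
    ← Matrix.submatrix_mul_equiv _ _ _ e.symm.symm]
  calc _ = (P : Matrix (Fin n) (Fin n) F) * (a ⊗ₖ b).submatrix e.symm.symm e.symm.symm *
        (((P⁻¹ : GL (Fin n) F) : Matrix (Fin n) (Fin n) F) * (P : Matrix (Fin n) (Fin n) F)) *
        (a' ⊗ₖ b').submatrix e.symm.symm e.symm.symm *
        ((P⁻¹ : GL (Fin n) F) : Matrix (Fin n) (Fin n) F) := by simp only [mul_assoc]
    _ = _ := by rw [hP]; simp only [mul_one, mul_assoc]

lemma eq_smul_one_of_tens {κ₁ κ₂ : Type} [Fintype κ₁] [Fintype κ₂] [DecidableEq κ₁]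
    [DecidableEq κ₂] [Nonempty κ₁]
    (e : Fin n ≃ κ₁ × κ₂) (P : GL (Fin n) F) (b : Matrix κ₂ κ₂ F) (c : F)
    (h : tens e P 1 b = c • (1 : Matrix (Fin n) (Fin n) F)) : b = c • (1 : Matrix κ₂ κ₂ F) := by
  have hP : ((P⁻¹ : GL (Fin n) F) : Matrix (Fin n) (Fin n) F) * (P : Matrix (Fin n) (Fin n) F) = 1 := by
    rw [← Units.val_mul, inv_mul_cancel, Units.val_one]
  have h1 : Matrix.reindex e.symm e.symm ((1 : Matrix κ₁ κ₁ F) ⊗ₖ b) =
      c • (1 : Matrix (Fin n) (Fin n) F) := by
    have h2 := congrArg (fun M => ((P⁻¹ : GL (Fin n) F) : Matrix (Fin n) (Fin n) F) * M *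
      (P : Matrix (Fin n) (Fin n) F)) h
    unfold tens at h2
    calc _ = (((P⁻¹ : GL (Fin n) F) : Matrix (Fin n) (Fin n) F) * (P : Matrix (Fin n) (Fin n) F)) *
        Matrix.reindex e.symm e.symm ((1 : Matrix κ₁ κ₁ F) ⊗ₖ b) *
        (((P⁻¹ : GL (Fin n) F) : Matrix (Fin n) (Fin n) F) * (P : Matrix (Fin n) (Fin n) F)) := by
          rw [hP]; simp
      _ = _ := by
          simp only [mul_assoc] at h2 ⊢
          rw [h2]
          simp
  obtain ⟨x0⟩ := ‹Nonempty κ₁›
  ext p q
  have h3 := congrFun (congrFun h1 (e.symm (x0, p))) (e.symm (x0, q))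
  simp only [Matrix.reindex_apply, Matrix.submatrix_apply, Equiv.symm_symm, Equiv.apply_symm_apply,
    Matrix.kroneckerMap_apply, Matrix.one_apply_eq, one_mul, Matrix.smul_apply, smul_eq_mul] at h3
  rw [h3, Matrix.smul_apply, smul_eq_mul]
  by_cases hpq : p = q
  · subst hpq; simp
  · rw [Matrix.one_apply_ne hpq, Matrix.one_apply_ne]
    intro h4
    apply hpq
    simpa using e.symm.injective h4

/-- [wcoord], relative to the normal form [enf] of the homomorphism `bigHom`. -/
theorem wreath_coord_of_enf [NeZero n] (hm : 2 ≤ m)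
    (φ : Fin k → (Matrix (Fin m) (Fin m) F →ₐ[F] Matrix (Fin n) (Fin n) F))
    (hcomm : ∀ i j, i ≠ j → ∀ a b, φ i a * φ j b = φ j b * φ i a)
    (hcen : ∀ M : Matrix (Fin n) (Fin n) F, (∀ i a, M * φ i a = φ i a * M) →
      ∃ c : F, M = c • (1 : Matrix (Fin n) (Fin n) F))
    (henf : ∃ (s : ℕ) (e : Fin n ≃ (Fin k → Fin m) × Fin s) (P : GL (Fin n) F),
      ∀ a, bigHom φ hcomm a = tens e P a 1) :
    ∃ (e : Fin n ≃ (Fin k → Fin m)) (P : GL (Fin n) F), ∀ i a,
      φ i a = (P : Matrix (Fin n) (Fin n) F) * Matrix.reindex e.symm e.symm (factor i a) *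
        ((P⁻¹ : GL (Fin n) F) : Matrix (Fin n) (Fin n) F) := by
  obtain ⟨s, e, P, hΦ⟩ := henf
  have : Nonempty (Fin k → Fin m) := ⟨fun _ => ⟨0, by omega⟩⟩
  have hscal : ∀ b : Matrix (Fin s) (Fin s) F, ∃ c : F, b = c • (1 : Matrix (Fin s) (Fin s) F) := by
    intro b
    obtain ⟨c, hc⟩ := hcen (tens e P 1 b) (by
      intro i a
      rw [← bigHom_factor φ hcomm, hΦ, tens_mul, tens_mul]
      simp)
    exact ⟨c, eq_smul_one_of_tens e P b c hc⟩
  have hs1 : s = 1 := by
    rcases Nat.lt_or_ge s 2 with h | h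
    · interval_cases s
      · exact ((e ⟨0, Nat.pos_of_ne_zero (NeZero.ne n)⟩).2).elim0
      · rfl
    · obtain ⟨c, hc⟩ := hscal (Matrix.single ⟨0, by omega⟩ ⟨0, by omega⟩ 1)
      have h00 := congrFun (congrFun hc ⟨0, by omega⟩) ⟨0, by omega⟩
      have h11 := congrFun (congrFun hc ⟨1, by omega⟩) ⟨1, by omega⟩
      simp at h00 h11
      rw [← h00] at h11
      exact absurd h11 zero_ne_one
  subst hs1
  refine ⟨e.trans (Equiv.prodUnique _ _), P, fun i a => ?_⟩
  rw [← bigHom_factor φ hcomm, hΦ]
  unfold tens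
  congr 2
  ext p q
  have h1 : (1 : Matrix (Fin 1) (Fin 1) F) (e p).2 (e q).2 = 1 := by
    rw [Subsingleton.elim (e p).2 (e q).2, Matrix.one_apply_eq]
  simp [Matrix.kroneckerMap_apply, h1]

end main

end Cfsg.Agent.Lib.Helper12AschWcoord
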