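import Cfsg.Agent.Lib.Helper13UDefs
import Cfsg.Agent.Lib.Helper74UAdj

set_option autoImplicit false

/-! PROJECT 4 = ASCH-U, phase 2, piece `field62a`: the element `z` with `z ^ 3 = ω` in an adjoint-closed field of
degree three in `M_6(F_4)`. -/

namespace Cfsg.Agent.Lib.Helper12UField62a

open Cfsg Cfsg.Geo Matrix
open Cfsg.Agent.Lib.Helper97AschBase Cfsg.Agent.Lib.Helper97UBase
  Cfsg.Agent.Lib.Helper13UDefs Cfsg.Agent.Lib.Helper74UAdj
open scoped MatrixGroups

variable {n : ℕ} {F : Type*} [Field F] {σ : F ≃+* F}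

lemma smul_one_inj' [NeZero n] {a b : F}
    (h : a • (1 : Matrix (Fin n) (Fin n) F) = b • (1 : Matrix (Fin n) (Fin n) F)) : a = b := by
  have := congrFun (congrFun h 0) 0
  simpa using this

/-- a cube root of `ω` in a field with 64 elements -/
lemma exists_cube_root [Fintype F] [NeZero n] (hcard : Fintype.card F = 4)
    (K : Subalgebra F (Matrix (Fin n) (Fin n) F)) (hK : IsFieldSubalgebra 3 K) {ω : F} (hω0 : ω ≠ 0)
    (hω3 : ω ^ 3 = 1) : ∃ z ∈ K, z ^ 3 = ω • (1 : Matrix (Fin n) (Fin n) F) := by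
  classical
  have hF : IsField K := by
    refine ⟨exists_pair_ne K, fun a b => Subtype.ext (hK.comm a a.2 b b.2), ?_⟩
    intro a ha
    obtain ⟨y, hy, hxy⟩ := hK.inv a a.2 (fun h => ha (Subtype.ext h))
    exact ⟨⟨y, hy⟩, Subtype.ext hxy⟩
  let _ : Field K := hF.toField
  have hcardK : Nat.card K = 64 := by
    rw [Module.natCard_eq_pow_finrank (K := F), Nat.card_eq_fintype_card, hK.finrank_eq, hcard]
    norm_num
  have hcardU : Nat.card Kˣ = 63 := by
    rw [Nat.card_units, hcardK]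
  obtain ⟨γ, hγ⟩ := IsCyclic.exists_generator (α := Kˣ)
  have hord : orderOf γ = 63 := by rw [orderOf_eq_card_of_forall_mem_zpowers hγ, hcardU]
  have hne : algebraMap F K ω ≠ 0 := by
    intro h0
    apply hω0
    have := (algebraMap F K).injective (h0.trans (map_zero _).symm)
    exact this
  obtain ⟨k, hk⟩ := hγ (Units.mk0 (algebraMap F K ω) hne)
  have hk : γ ^ k = Units.mk0 (algebraMap F K ω) hne := hk
  have h3 : (Units.mk0 (algebraMap F K ω) hne) ^ 3 = 1 := by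
    apply Units.ext
    rw [Units.val_pow_eq_pow_val, Units.val_mk0, ← map_pow, hω3, map_one, Units.val_one]
  have h63 : (63 : ℤ) ∣ k * 3 := by
    have : ((orderOf γ : ℕ) : ℤ) ∣ k * 3 := by
      apply orderOf_dvd_iff_zpow_eq_one.mpr
      rw [_root_.zpow_mul, hk]
      exact_mod_cast h3
    rwa [hord] at this
  obtain ⟨m, rfl⟩ : (21 : ℤ) ∣ k := by omega
  refine ⟨((γ ^ (7 * m) : Kˣ) : K), Subtype.property _, ?_⟩
  have h4 : (γ ^ (7 * m)) ^ 3 = Units.mk0 (algebraMap F K ω) hne := by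
    rw [← hk, ← zpow_natCast, ← _root_.zpow_mul]
    congr 1
    push_cast
    ring
  have h5 := congrArg (fun u : Kˣ => ((u : K) : Matrix (Fin n) (Fin n) F)) h4
  simp only [Units.val_pow_eq_pow_val, Units.val_mk0] at h5
  rw [Algebra.algebraMap_eq_smul_one] at h5
  exact h5


/-- cube roots of unity in a field subalgebra are scalars -/
lemma scalar_of_cube {r : ℕ} (K : Subalgebra F (Matrix (Fin n) (Fin n) F)) (hK : IsFieldSubalgebra r K) {ω : F}
    (hω : ω ^ 2 + ω + 1 = 0) {y : Matrix (Fin n) (Fin n) F} (hy : y ∈ K) (hy3 : y ^ 3 = 1) :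
    ∃ c : F, c ≠ 0 ∧ y = c • (1 : Matrix (Fin n) (Fin n) F) := by
  have hω0 : ω ≠ 0 := by
    rintro rfl
    simp at hω
  have hnzd : ∀ a ∈ K, ∀ b : Matrix (Fin n) (Fin n) F, a * b = 0 → a = 0 ∨ b = 0 := by
    intro a ha b hab
    by_cases ha0 : a = 0
    · exact Or.inl ha0
    · right
      obtain ⟨a', ha', haa'⟩ := hK.inv a ha ha0
      rw [hK.comm a ha a' ha'] at haa'
      calc b = (a' * a) * b := by rw [haa', one_mul]
        _ = 0 := by rw [mul_assoc, hab, mul_zero]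
  have hs : ∀ c : F, c • (1 : Matrix (Fin n) (Fin n) F) ∈ K := fun c => K.smul_mem K.one_mem c
  have hfac : (y - (1 : F) • (1 : Matrix (Fin n) (Fin n) F)) * ((y - ω • (1 : Matrix (Fin n) (Fin n) F)) *
      (y - (ω ^ 2) • (1 : Matrix (Fin n) (Fin n) F))) = 0 := by
    have e1 : (y - ω • (1 : Matrix (Fin n) (Fin n) F)) * (y - (ω ^ 2) • (1 : Matrix (Fin n) (Fin n) F)) =
        y ^ 2 + y + 1 := by
      have hω3 : ω * ω ^ 2 = 1 := by linear_combination (ω - 1) * hω
      have hω' : -(ω ^ 2) - ω = 1 := by linear_combination -hω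
      rw [sub_mul, mul_sub, mul_sub, Matrix.smul_mul, Matrix.mul_smul, Matrix.smul_mul, Matrix.mul_smul, one_mul,
        mul_one, mul_one, smul_smul, hω3, one_smul, pow_two y]
      have : y * y - ω ^ 2 • y - (ω • y - 1) = y * y + (-(ω ^ 2) - ω) • y + 1 := by module
      rw [this, hω', one_smul]
    rw [e1, one_smul, sub_mul, one_mul, mul_add, mul_add, mul_one]
    have : y * y ^ 2 = 1 := by rw [← pow_succ', hy3]
    rw [this, pow_two]
    abel
  rcases hnzd _ (K.sub_mem hy (hs 1)) _ hfac with h1 | h1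
  · exact ⟨1, one_ne_zero, sub_eq_zero.mp h1⟩
  · rcases hnzd _ (K.sub_mem hy (hs ω)) _ h1 with h2 | h2
    · exact ⟨ω, hω0, sub_eq_zero.mp h2⟩
    · exact ⟨ω ^ 2, pow_ne_zero 2 hω0, sub_eq_zero.mp h2⟩

/-- [field62a] -/
theorem exists_z62 [Fintype F] {f : (Fin 6 → F) → (Fin 6 → F) → F} (hU : US σ f 2)
    (K : Subalgebra F (Matrix (Fin 6) (Fin 6) F)) (hK : IsFieldSubalgebra 3 K)
    (hs : IsAdjointClosedFor f K) :
    ∃ (z : GL (Fin 6) F) (ω : F), ω ^ 2 + ω + 1 = 0 ∧ z ∈ Iso f ∧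
      (z : Matrix (Fin 6) (Fin 6) F) ^ 3 = ω • (1 : Matrix (Fin 6) (Fin 6) F) ∧
      ∀ g ∈ subalgebraNormalizer K, ∃ c : F, c ≠ 0 ∧
        (g : Matrix (Fin 6) (Fin 6) F) * (z : Matrix (Fin 6) (Fin 6) F) =
          c • ((z : Matrix (Fin 6) (Fin 6) F) * (g : Matrix (Fin 6) (Fin 6) F)) := by
  classical
  have hf := hU.unitary
  have hcard : Fintype.card F = 4 := by rw [hU.card]; norm_num
  obtain ⟨ω, hω0, hω1⟩ : ∃ ω : F, ω ≠ 0 ∧ ω ≠ 1 := by
    by_contra hcon
    push Not at hcon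
    have hsub : (Finset.univ : Finset F) ⊆ {0, 1} := by
      intro x _
      by_cases hx : x = 0
      · simp [hx]
      · simp [hcon x hx]
    have := Finset.card_le_card hsub
    rw [Finset.card_univ, hcard] at this
    have h2 := Finset.card_le_two (a := (0 : F)) (b := 1)
    omega
  have hω3 : ω ^ 3 = 1 := by
    have := FiniteField.pow_card_sub_one_eq_one ω hω0
    rwa [hcard] at this
  have hω : ω ^ 2 + ω + 1 = 0 := by
    have h1 : (ω - 1) * (ω ^ 2 + ω + 1) = 0 := by linear_combination hω3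
    rcases mul_eq_zero.mp h1 with h2 | h2
    · exact absurd (sub_eq_zero.mp h2) hω1
    · exact h2
  obtain ⟨z, hzK, hz3⟩ := exists_cube_root hcard K hK hω0 hω3
  have hadjK := (AC_iff hf).mp hs
  have hz'K := hadjK z hzK
  have hcomm : Commute z (adj hf z) := hK.comm z hzK _ hz'K
  have hy3 : (z * adj hf z) ^ 3 = 1 := by
    rw [hcomm.mul_pow, ← adj_pow, hz3, adj_smul, adj_one, Matrix.smul_mul, Matrix.mul_smul, one_mul, smul_smul,
      hU.pow]
    have : ω * ω ^ 2 = 1 := by linear_combination hω3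
    rw [this, one_smul]
  obtain ⟨c, hc0, hc⟩ := scalar_of_cube K hK hω (K.mul_mem hzK hz'K) hy3
  have hc1 : c = 1 := by
    have h1 : adj hf (z * adj hf z) = z * adj hf z := by rw [adj_mul, adj_adj]
    rw [hc, adj_smul, adj_one] at h1
    have h2 : σ c = c := smul_one_inj' h1
    rw [hU.pow] at h2
    have h3 : c * (c - 1) = 0 := by linear_combination h2
    rcases mul_eq_zero.mp h3 with h4 | h4
    · exact absurd h4 hc0
    · exact sub_eq_zero.mp h4
  rw [hc1, one_smul] at hc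
  have hc' : adj hf z * z = 1 := by rw [← hcomm.eq, hc]
  refine ⟨⟨z, adj hf z, hc, hc'⟩, ω, hω, ?_, hz3, ?_⟩
  · rw [mem_Iso]
    intro u v
    show f (z *ᵥ u) (z *ᵥ v) = f u v
    rw [adj_spec hf, Matrix.mulVec_mulVec, hc', Matrix.one_mulVec]
  · intro g hg
    show ∃ c : F, c ≠ 0 ∧ (g : Matrix (Fin 6) (Fin 6) F) * z = c • (z * (g : Matrix (Fin 6) (Fin 6) F))
    have hw := (hg z).mp hzK
    have hgg : ((g⁻¹ : GL (Fin 6) F) : Matrix (Fin 6) (Fin 6) F) * (g : Matrix (Fin 6) (Fin 6) F) = 1 := by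
      rw [← Units.val_mul, inv_mul_cancel, Units.val_one]
    have hgg' : (g : Matrix (Fin 6) (Fin 6) F) * ((g⁻¹ : GL (Fin 6) F) : Matrix (Fin 6) (Fin 6) F) = 1 := by
      rw [← Units.val_mul, mul_inv_cancel, Units.val_one]
    obtain ⟨w, hwdef⟩ : ∃ w, w = (g : Matrix (Fin 6) (Fin 6) F) * z *
      ((g⁻¹ : GL (Fin 6) F) : Matrix (Fin 6) (Fin 6) F) := ⟨_, rfl⟩
    rw [← hwdef] at hw
    have hw3 : w ^ 3 = ω • (1 : Matrix (Fin 6) (Fin 6) F) := by
      have e : w ^ 3 = (g : Matrix (Fin 6) (Fin 6) F) * z ^ 3 *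
          ((g⁻¹ : GL (Fin 6) F) : Matrix (Fin 6) (Fin 6) F) := by
        rw [hwdef, pow_succ, pow_two, pow_succ, pow_two]
        calc _ = (g : Matrix (Fin 6) (Fin 6) F) * z * (((g⁻¹ : GL (Fin 6) F) : Matrix (Fin 6) (Fin 6) F) *
              (g : Matrix (Fin 6) (Fin 6) F)) * z * (((g⁻¹ : GL (Fin 6) F) : Matrix (Fin 6) (Fin 6) F) *
              (g : Matrix (Fin 6) (Fin 6) F)) * z * ((g⁻¹ : GL (Fin 6) F) : Matrix (Fin 6) (Fin 6) F) := by
              simp only [mul_assoc]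
          _ = _ := by rw [hgg]; simp only [mul_one, mul_assoc]
      rw [e, hz3, Matrix.mul_smul, mul_one, Matrix.smul_mul, hgg']
    have hcw : Commute w (adj hf z) := hK.comm w hw _ hz'K
    have hy3' : (w * adj hf z) ^ 3 = 1 := by
      rw [hcw.mul_pow, hw3, ← hz3, ← hcomm.mul_pow, hy3]
    obtain ⟨d, hd0, hd⟩ := scalar_of_cube K hK hω (K.mul_mem hw hz'K) hy3'
    refine ⟨d, hd0, ?_⟩
    have hwz : w = d • z := by
      calc w = w * (adj hf z * z) := by rw [hc', mul_one]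
        _ = (w * adj hf z) * z := by rw [mul_assoc]
        _ = d • z := by rw [hd, Matrix.smul_mul, one_mul]
    calc (g : Matrix (Fin 6) (Fin 6) F) * z = w * (g : Matrix (Fin 6) (Fin 6) F) := by
          rw [hwdef, mul_assoc, hgg, mul_one]
      _ = d • (z * (g : Matrix (Fin 6) (Fin 6) F)) := by rw [hwz, Matrix.smul_mul]

end Cfsg.Agent.Lib.Helper12UField62a
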