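import Cfsg.Agent.Lib.Helper97AschBase

set_option autoImplicit false

namespace Cfsg.Agent.Lib.Helper13MatAlg

open Cfsg Cfsg.Geo Matrix Cfsg.Agent.Lib.Helper97AschBase
open scoped MatrixGroups

variable {n : ℕ} {F : Type*} [Field F]

/-- `G` normalises the subalgebra `A` of the matrix algebra -/
def NzA (G : Subgroup (GL (Fin n) F)) (A : Subalgebra F (Matrix (Fin n) (Fin n) F)) : Prop :=
  ∀ g ∈ G, ∀ a ∈ A, (g : Matrix (Fin n) (Fin n) F) * a * ((g⁻¹ : GL (Fin n) F) : Matrix (Fin n) (Fin n) F) ∈ A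

section tw

variable (A : Subalgebra F (Matrix (Fin n) (Fin n) F))

/-- the translate `g N` of an `A`-submodule by an element normalising `A` -/
def tw (g : GL (Fin n) F)
    (hg : ∀ a ∈ A, ((g⁻¹ : GL (Fin n) F) : Matrix (Fin n) (Fin n) F) * a * (g : Matrix (Fin n) (Fin n) F) ∈ A)
    (N : Submodule A (Fin n → F)) : Submodule A (Fin n → F) where
  carrier := {v | ((g⁻¹ : GL (Fin n) F) : Matrix (Fin n) (Fin n) F) *ᵥ v ∈ N}
  add_mem' := by
    intro u v hu hv
    simp only [Set.mem_ofPred_eq, Matrix.mulVec_add] at *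
    exact N.add_mem hu hv
  zero_mem' := by simp
  smul_mem' := by
    intro a v hv
    simp only [Set.mem_ofPred_eq] at *
    have : ((g⁻¹ : GL (Fin n) F) : Matrix (Fin n) (Fin n) F) *ᵥ (a • v) =
        (⟨((g⁻¹ : GL (Fin n) F) : Matrix (Fin n) (Fin n) F) * a.1 * (g : Matrix (Fin n) (Fin n) F), hg a a.2⟩ : A) •
          (((g⁻¹ : GL (Fin n) F) : Matrix (Fin n) (Fin n) F) *ᵥ v) := by
      show ((g⁻¹ : GL (Fin n) F) : Matrix (Fin n) (Fin n) F) *ᵥ (a.1 *ᵥ v) =
        (((g⁻¹ : GL (Fin n) F) : Matrix (Fin n) (Fin n) F) * a.1 * (g : Matrix (Fin n) (Fin n) F)) *ᵥ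
          (((g⁻¹ : GL (Fin n) F) : Matrix (Fin n) (Fin n) F) *ᵥ v)
      rw [Matrix.mulVec_mulVec, Matrix.mulVec_mulVec, mul_assoc _ _ ((g⁻¹ : GL (Fin n) F) : Matrix (Fin n) (Fin n) F),
        ← Units.val_mul, mul_inv_cancel, Units.val_one, mul_one]
    rw [this]
    exact N.smul_mem _ hv

lemma mem_tw {g : GL (Fin n) F}
    {hg : ∀ a ∈ A, ((g⁻¹ : GL (Fin n) F) : Matrix (Fin n) (Fin n) F) * a * (g : Matrix (Fin n) (Fin n) F) ∈ A}
    {N : Submodule A (Fin n → F)} {v : Fin n → F} :
    v ∈ tw A g hg N ↔ ((g⁻¹ : GL (Fin n) F) : Matrix (Fin n) (Fin n) F) *ᵥ v ∈ N := Iff.rfl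

/-- translation as an order isomorphism of the lattice of `A`-submodules -/
def twIso (g : GL (Fin n) F)
    (hg : ∀ a ∈ A, ((g⁻¹ : GL (Fin n) F) : Matrix (Fin n) (Fin n) F) * a * (g : Matrix (Fin n) (Fin n) F) ∈ A)
    (hg' : ∀ a ∈ A, (((g⁻¹)⁻¹ : GL (Fin n) F) : Matrix (Fin n) (Fin n) F) * a * ((g⁻¹ : GL (Fin n) F) : Matrix (Fin n) (Fin n) F) ∈ A) :
    Submodule A (Fin n → F) ≃o Submodule A (Fin n → F) where
  toFun := tw A g hg
  invFun := tw A g⁻¹ hg'
  left_inv N := by
    ext v
    rw [mem_tw, mem_tw]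
    simp
  right_inv N := by
    ext v
    rw [mem_tw, mem_tw]
    simp
  map_rel_iff' := by
    intro N N'
    constructor
    · intro h v hv
      have h1 : (g : Matrix (Fin n) (Fin n) F) *ᵥ v ∈ tw A g hg N := by
        rw [mem_tw]; simpa using hv
      have h2 : (g : Matrix (Fin n) (Fin n) F) *ᵥ v ∈ tw A g hg N' := h h1
      rw [mem_tw] at h2
      simpa using h2
    · intro h v hv
      exact h hv

end tw

/-- the natural module is semisimple over a subalgebra normalised by an irreducible group -/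
theorem semisimple [Finite F] (hn : 0 < n) {G : Subgroup (GL (Fin n) F)}
    (hG : ActsIrreducibly (matrixSet G)) {A : Subalgebra F (Matrix (Fin n) (Fin n) F)} (hA : NzA G A) :
    IsSemisimpleModule A (Fin n → F) := by
  have : Nonempty (Fin n) := ⟨⟨0, hn⟩⟩
  apply IsSemisimpleModule.of_sSup_simples_eq_top
  set Sg := sSup { m : Submodule A (Fin n → F) | IsSimpleModule A m } with hSg
  have h1 : ∀ g ∈ G, ∀ a ∈ A, ((g⁻¹ : GL (Fin n) F) : Matrix (Fin n) (Fin n) F) * a * (g : Matrix (Fin n) (Fin n) F) ∈ A := by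
    intro g hg a ha
    have := hA g⁻¹ (G.inv_mem hg) a ha
    rwa [inv_inv] at this
  have hinv : Inv G (Sg.restrictScalars F) := by
    intro g hg w hw
    rw [Submodule.restrictScalars_mem] at hw ⊢
    have h2 : Sg ≤ tw A g⁻¹ (h1 g⁻¹ (G.inv_mem hg)) Sg := by
      apply sSup_le
      intro m hm v hv
      rw [mem_tw, inv_inv]
      have h3 : IsSimpleModule A (tw A g (h1 g hg) m) := by
        rw [isSimpleModule_iff_isAtom]
        exact ((twIso A g (h1 g hg) (h1 g⁻¹ (G.inv_mem hg))).isAtom_iff m).mpr (isSimpleModule_iff_isAtom.mp hm)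
      have h4 : tw A g (h1 g hg) m ≤ Sg := le_sSup h3
      apply h4
      rw [mem_tw]
      simpa using hv
    have := h2 hw
    rwa [mem_tw, inv_inv] at this
  rcases (actsIrreducibly_iff.mp hG) _ hinv with h | h
  · exfalso
    obtain ⟨a, ha⟩ := IsAtomic.exists_atom (Submodule A (Fin n → F))
    have h5 : a ≤ Sg := le_sSup (isSimpleModule_iff_isAtom.mpr ha)
    have h6 : Sg = ⊥ := by
      rw [eq_bot_iff]
      intro v hv
      have : v ∈ Sg.restrictScalars F := hv
      rw [h] at this
      simpa using this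
    rw [h6] at h5
    exact ha.1 (le_bot_iff.mp h5)
  · rw [eq_top_iff]
    intro v _
    have : v ∈ Sg.restrictScalars F := by rw [h]; trivial
    exact this

/-- a subalgebra over which the natural module is semisimple is a semisimple ring -/
theorem semisimpleRing {A : Subalgebra F (Matrix (Fin n) (Fin n) F)}
    (h : IsSemisimpleModule A (Fin n → F)) : IsSemisimpleRing A := by
  let ι : A →ₗ[A] (Fin n → (Fin n → F)) :=
    LinearMap.pi (fun j => LinearMap.toSpanSingleton A (Fin n → F) (Pi.single j 1))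
  apply IsSemisimpleModule.of_injective ι
  intro a b hab
  apply Subtype.ext
  ext i j
  have h1 := congrFun (congrFun hab j) i
  simp only [ι, LinearMap.pi_apply, LinearMap.toSpanSingleton_apply] at h1
  have h2 : ∀ c : A, (c • (Pi.single j 1 : Fin n → F)) i = c.1 i j := by
    intro c
    show (c.1 *ᵥ (Pi.single j 1 : Fin n → F)) i = _
    simp
  rwa [h2, h2] at h1

/-- a semisimple subalgebra of the matrix algebra over a finite field whose centre consists of scalars
is a full matrix algebra over the field -/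
theorem exists_matrix_algEquiv [Finite F] (hn : 0 < n) {A : Subalgebra F (Matrix (Fin n) (Fin n) F)}
    (hss : IsSemisimpleModule A (Fin n → F))
    (hcen : ∀ z ∈ A, (∀ a ∈ A, z * a = a * z) → ∃ c : F, z = c • (1 : Matrix (Fin n) (Fin n) F)) :
    ∃ m : ℕ, Nonempty (Matrix (Fin m) (Fin m) F ≃ₐ[F] A) := by
  have : Nonempty (Fin n) := ⟨⟨0, hn⟩⟩
  have hring : IsSemisimpleRing A := semisimpleRing hss
  obtain ⟨k, D, d, instD, instAlg, instFin, hd, ⟨e⟩⟩ :=
    IsSemisimpleRing.exists_algEquiv_pi_matrix_divisionRing_finite F A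
  -- central elements of `A` are scalars
  have hcen' : ∀ z : A, (∀ a : A, z * a = a * z) → ∃ c : F, z = algebraMap F A c := by
    intro z hz
    obtain ⟨c, hc⟩ := hcen z.1 z.2 (fun a ha => congrArg Subtype.val (hz ⟨a, ha⟩))
    refine ⟨c, Subtype.ext ?_⟩
    rw [hc, Algebra.algebraMap_eq_smul_one]
    rfl
  have hcenP : ∀ y : ((i : Fin k) → Matrix (Fin (d i)) (Fin (d i)) (D i)), (∀ x, y * x = x * y) →
      ∃ c : F, y = algebraMap F _ c := by
    intro y hy
    obtain ⟨c, hc⟩ := hcen' (e.symm y) (by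
      intro a
      apply e.injective
      rw [map_mul, map_mul, e.apply_symm_apply]
      exact hy _)
    refine ⟨c, ?_⟩
    rw [← e.apply_symm_apply y, hc, AlgEquiv.commutes]
  have hsub : ∀ i j : Fin k, i = j := by
    intro i j
    by_contra hij
    obtain ⟨c, hc⟩ := hcenP (Pi.single i 1) (by
      intro x
      funext l
      by_cases hl : l = i
      · subst hl; simp
      · simp [Pi.single_eq_of_ne hl])
    have hj := congrFun hc j
    have hi := congrFun hc i
    rw [Pi.single_eq_of_ne (Ne.symm hij), Pi.algebraMap_apply, Algebra.algebraMap_eq_smul_one] at hj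
    rw [Pi.single_eq_same, Pi.algebraMap_apply, Algebra.algebraMap_eq_smul_one] at hi
    have : NeZero (d j) := hd j
    have : NeZero (d i) := hd i
    have hc0 : c = 0 := by
      by_contra hc0
      have := (smul_eq_zero.mp hj.symm).resolve_left hc0
      exact one_ne_zero this
    rw [hc0, zero_smul] at hi
    exact one_ne_zero hi
  have hk : 0 < k := by
    by_contra hk
    have hk0 : k = 0 := by omega
    subst hk0
    have h1 : e 1 = e 0 := Subsingleton.elim _ _
    have h2 : (1 : A) = 0 := e.injective h1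
    have h3 : (1 : Matrix (Fin n) (Fin n) F) = 0 := congrArg Subtype.val h2
    exact one_ne_zero h3
  let i0 : Fin k := ⟨0, hk⟩
  have : NeZero (d i0) := hd i0
  let ev : ((i : Fin k) → Matrix (Fin (d i)) (Fin (d i)) (D i)) →ₐ[F] Matrix (Fin (d i0)) (Fin (d i0)) (D i0) :=
    Pi.evalAlgHom F _ i0
  have hev : Function.Bijective ev := by
    constructor
    · intro x y hxy
      funext l
      obtain rfl := hsub l i0
      exact hxy
    · intro y
      exact ⟨Pi.single i0 y, by simp [ev]⟩
  let e1 : A ≃ₐ[F] Matrix (Fin (d i0)) (Fin (d i0)) (D i0) := e.trans (AlgEquiv.ofBijective ev hev)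
  have hfinD : Finite (D i0) := Module.finite_of_finite F
  have hcommD : ∀ x y : D i0, x * y = y * x := (littleWedderburn (D i0)).mul_comm
  have hbij : Function.Bijective (Algebra.ofId F (D i0)) := by
    constructor
    · exact (algebraMap F (D i0)).injective
    · intro x
      obtain ⟨c, hc⟩ := hcen' (e1.symm (Matrix.scalar _ x)) (by
        intro a
        apply e1.injective
        rw [map_mul, map_mul, e1.apply_symm_apply]
        exact Matrix.scalar_commute x (fun r => hcommD x r) _)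
      refine ⟨c, ?_⟩
      have h1 : Matrix.scalar (Fin (d i0)) x = algebraMap F _ c := by
        rw [← e1.apply_symm_apply (Matrix.scalar _ x), hc, AlgEquiv.commutes]
      have h2 := congrFun (congrFun h1 0) 0
      rw [Matrix.algebraMap_matrix_apply] at h2
      simp at h2
      exact h2.symm
  let e2 : F ≃ₐ[F] D i0 := AlgEquiv.ofBijective (Algebra.ofId F (D i0)) hbij
  exact ⟨d i0, ⟨(AlgEquiv.mapMatrix e2).trans e1.symm⟩⟩

/-- packaged version: an algebra embedding of a full matrix algebra with range `A` -/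
theorem exists_matrix_embedding [Finite F] (hn : 0 < n) {G : Subgroup (GL (Fin n) F)}
    (hG : ActsIrreducibly (matrixSet G)) {A : Subalgebra F (Matrix (Fin n) (Fin n) F)} (hA : NzA G A)
    (hcen : ∀ z ∈ A, (∀ a ∈ A, z * a = a * z) → ∃ c : F, z = c • (1 : Matrix (Fin n) (Fin n) F)) :
    ∃ (m : ℕ) (φ : Matrix (Fin m) (Fin m) F →ₐ[F] Matrix (Fin n) (Fin n) F),
      Function.Injective φ ∧ ∀ x, x ∈ A ↔ ∃ a, φ a = x := by
  obtain ⟨m, ⟨e⟩⟩ := exists_matrix_algEquiv hn (semisimple hn hG hA) hcen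
  refine ⟨m, A.val.comp e.toAlgHom, ?_, ?_⟩
  · intro a b hab
    exact e.injective (Subtype.ext hab)
  · intro x
    constructor
    · intro hx
      exact ⟨e.symm ⟨x, hx⟩, by simp⟩
    · rintro ⟨a, rfl⟩
      exact (e a).2

end Cfsg.Agent.Lib.Helper13MatAlg
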