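import Cfsg.Agent.Lib.Helper27Basic

set_option autoImplicit false

/-! An abstract criterion for `E(C(t))` to be a standard subgroup. -/

namespace Cfsg.Agent.Lib.Helper13StdAbs

open Subgroup

variable {G : Type*} [Group G]

theorem normalizer_le_normalizer_centralizer (A : Subgroup G) :
    normalizer (A : Set G) ≤ normalizer (centralizer (A : Set G) : Set G) := by
  intro g hg
  have hg' : g⁻¹ ∈ normalizer (A : Set G) := inv_mem hg
  rw [mem_normalizer_iff] at hg hg' ⊢
  have key : ∀ (k : G), (∀ h, h ∈ A ↔ k * h * k⁻¹ ∈ A) → ∀ z ∈ centralizer (A : Set G),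
      k * z * k⁻¹ ∈ centralizer (A : Set G) := by
    intro k hk z hz
    rw [mem_centralizer_iff] at hz ⊢
    intro a ha
    have ha' : k⁻¹ * a * k ∈ A := by
      rw [hk]
      simpa [mul_assoc] using ha
    have := hz _ ha'
    calc a * (k * z * k⁻¹) = k * ((k⁻¹ * a * k) * z) * k⁻¹ := by group
      _ = k * (z * (k⁻¹ * a * k)) * k⁻¹ := by rw [this]
      _ = k * z * k⁻¹ * a := by group
  intro z
  constructor
  · exact key g hg z
  · intro hz
    have := key g⁻¹ hg' _ hz
    simpa [mul_assoc] using this

theorem not_comm_of_quasisimple (A : Subgroup G) (hA : Cfsg.IsQuasisimple A)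
    (hc : ∀ x ∈ A, ∀ y ∈ A, x * y = y * x) : False := by
  obtain ⟨hp, hs⟩ := hA
  have h1 : _root_.commutator A = ⊥ := by
    rw [_root_.commutator_def, Subgroup.commutator_eq_bot_iff_le_centralizer]
    intro x _
    rw [mem_centralizer_iff]
    intro y _
    exact Subtype.ext (hc y y.2 x x.2)
  have h2 : (⊥ : Subgroup A) = ⊤ := h1 ▸ hp.commutator_eq_top
  have h3 : Subsingleton A := Subgroup.subsingleton_iff.1 (subsingleton_of_bot_eq_top h2) |> fun h => h
  have h4 : Subsingleton (A ⧸ center A) := Quot.Subsingleton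
  exact not_subsingleton _ h4

theorem layer_eq (A : Subgroup G) (t : G)
    {M : Type*} [CommGroup M] (χ : ↥(centralizer ({t} : Set G)) →* M)
    (hA : Cfsg.IsQuasisimple A) (hAC : A ≤ centralizer {t})
    (hχ : χ.ker = A.subgroupOf (centralizer {t})) :
    (Cfsg.layer ↥(centralizer ({t} : Set G))).map (centralizer ({t} : Set G)).subtype = A := by
  have h1 : Cfsg.layer ↥(centralizer ({t} : Set G)) = A.subgroupOf (centralizer {t}) := by
    apply le_antisymm
    · apply sSup_le
      rintro K ⟨-, hK, -⟩
      rw [← hχ]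
      intro k hk
      have h := Abelianization.commutator_subset_ker (χ.comp K.subtype)
      rw [hK.commutator_eq_top] at h
      have := h (Subgroup.mem_top ⟨k, hk⟩)
      exact this
    · apply le_sSup
      refine ⟨?_, ?_⟩
      · have : (A.subgroupOf (centralizer {t})).Normal := hχ ▸ χ.normal_ker
        exact this.isSubnormal
      · exact Cfsg.Agent.Lib.Helper27Basic.isQuasisimple_of_mulEquiv
          (Subgroup.subgroupOfEquivOfLe hAC).symm hA
  rw [h1, Subgroup.subgroupOf_map_subtype, inf_eq_left.2 hAC]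

theorem standard_of [Finite G] (A : Subgroup G) (t : G)
    {M : Type*} [CommGroup M] (χ : ↥(centralizer ({t} : Set G)) →* M)
    (hA : Cfsg.IsQuasisimple A) (hAC : A ≤ centralizer {t})
    (hχ : χ.ker = A.subgroupOf (centralizer {t}))
    (hZ : ∀ x ∈ centralizer (A : Set G), ∀ y ∈ centralizer (A : Set G), x * y = y * x)
    (ht1 : t ≠ 1) (ht2 : t * t = 1)
    (hinv : ∀ x ∈ centralizer (A : Set G), x * x = 1 → x ≠ 1 → x = t) :
    Cfsg.IsStandardSubgroup
      ((Cfsg.layer ↥(centralizer ({t} : Set G))).map (centralizer ({t} : Set G)).subtype) := by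
  rw [layer_eq A t χ hA hAC hχ]
  have htZ : t ∈ centralizer (A : Set G) := by
    rw [mem_centralizer_iff]
    intro a ha
    exact mem_centralizer_singleton_iff.1 (hAC ha)
  have hCN : centralizer {t} ≤ normalizer (A : Set G) := by
    have : (A.subgroupOf (centralizer {t})).Normal := hχ ▸ χ.normal_ker
    exact Subgroup.le_normalizer_of_normal_subgroupOf hAC
  have hconj : ∀ g y : G, y ∈ centralizer (A : Set G) → g * y * g⁻¹ ∈ centralizer (A : Set G) →
      y * y = 1 → y ≠ 1 → g ∈ centralizer {t} := by
    intro g y hy hgy hy2 hy1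
    have e1 : y = t := hinv y hy hy2 hy1
    have e2 : g * y * g⁻¹ = t := by
      apply hinv _ hgy
      · calc g * y * g⁻¹ * (g * y * g⁻¹) = g * (y * y) * g⁻¹ := by group
          _ = 1 := by rw [hy2]; group
      · intro h
        apply hy1
        calc y = g⁻¹ * (g * y * g⁻¹) * g := by group
          _ = 1 := by rw [h]; group
    rw [mem_centralizer_singleton_iff]
    rw [e1] at e2
    calc g * t = g * t * g⁻¹ * g := by group
      _ = t * g := by rw [e2]
  have hNZ : normalizer (centralizer (A : Set G) : Set G) ≤ centralizer {t} := by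
    intro g hg
    rw [mem_normalizer_iff] at hg
    exact hconj g t htZ ((hg t).1 htZ) ht2 ht1
  refine ⟨hA, ⟨?_, ?_⟩, ?_, ?_⟩
  · have h2 : orderOf t = 2 := by
      apply orderOf_eq_prime
      · rw [pow_two]; exact ht2
      · exact ht1
    rw [even_iff_two_dvd, ← h2]
    exact Subgroup.orderOf_dvd_natCard _ htZ
  · intro g hg
    by_contra hodd
    rw [Nat.not_odd_iff_even, even_iff_two_dvd] at hodd
    haveI : Fact (Nat.Prime 2) := ⟨Nat.prime_two⟩
    obtain ⟨⟨x, hx⟩, hox⟩ := exists_prime_orderOf_dvd_card' 2 hodd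
    rw [Subgroup.orderOf_mk] at hox
    obtain ⟨hx1, hx2⟩ := Subgroup.mem_inf.1 hx
    obtain ⟨y, hy, rfl⟩ := Subgroup.mem_map.1 hx2
    have hyo : orderOf y = 2 := by
      rw [← hox]
      exact (orderOf_injective _ (MulAut.conj g).injective y).symm
    have hy2 : y * y = 1 := by
      rw [← pow_two, ← hyo]; exact pow_orderOf_eq_one y
    have hy1 : y ≠ 1 := by
      intro h
      rw [h, orderOf_one] at hyo
      omega
    apply hg
    apply (hCN.trans (normalizer_le_normalizer_centralizer A))
    exact hconj g y hy (by simpa using hx1) hy2 hy1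
  · intro g _ hcomm
    rw [Subgroup.commutator_comm, Subgroup.commutator_eq_bot_iff_le_centralizer] at hcomm
    apply not_comm_of_quasisimple A hA
    intro x hx y hy
    have h1 := hcomm (Subgroup.mem_map_of_mem _ hx)
    have h2 := hcomm (Subgroup.mem_map_of_mem _ hy)
    have h3 := hZ _ h1 _ h2
    have h4 : (MulAut.conj g) (x * y) = (MulAut.conj g) (y * x) := by
      rw [map_mul, map_mul]; exact h3
    exact (MulAut.conj g).injective h4
  · apply le_antisymm (normalizer_le_normalizer_centralizer A)
    exact hNZ.trans hCN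

end Cfsg.Agent.Lib.Helper13StdAbs
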