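import Cfsg.Agent.S0249
import Cfsg.Agent.Lib.Helper27Basic
import Cfsg.Agent.Lib.Helper13StdAbs

set_option autoImplicit false

/-! `SL_{n-1}(q)` is a standard subgroup of `SL_n(q)` (`n`, `q` odd): matrix part. -/

namespace Cfsg.Agent.Lib.Helper13Std

open Matrix Subgroup

variable {F : Type*} [Field F] {m : ℕ}

local notation "G" => Matrix.SpecialLinearGroup (Fin (m + 1)) F
local notation "cs" => Fin.castSucc
local notation "lst" => Fin.last m

/-- block diagonal -/
def BD (g : Matrix (Fin (m + 1)) (Fin (m + 1)) F) : Prop :=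
  (∀ i : Fin m, g (cs i) lst = 0) ∧ (∀ j : Fin m, g lst (cs j) = 0)

/-- the embedding of matrices -/
def emb (a : Matrix (Fin m) (Fin m) F) : Matrix (Fin (m + 1)) (Fin (m + 1)) F :=
  fun i j => Fin.lastCases (motive := fun _ => F) (Fin.lastCases (motive := fun _ => F) 1 (fun _ => 0) j)
    (fun i' => Fin.lastCases (motive := fun _ => F) 0 (fun j' => a i' j') j) i

@[simp] theorem emb_cc (a : Matrix (Fin m) (Fin m) F) (i j : Fin m) : emb a (cs i) (cs j) = a i j := by
  simp [emb]
@[simp] theorem emb_cl (a : Matrix (Fin m) (Fin m) F) (i : Fin m) : emb a (cs i) lst = 0 := by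
  simp [emb]
@[simp] theorem emb_lc (a : Matrix (Fin m) (Fin m) F) (j : Fin m) : emb a lst (cs j) = 0 := by
  simp [emb]
@[simp] theorem emb_ll (a : Matrix (Fin m) (Fin m) F) : emb a lst lst = 1 := by
  simp [emb]

theorem emb_one : emb (1 : Matrix (Fin m) (Fin m) F) = 1 := by
  ext i j
  induction i using Fin.lastCases with
  | last =>
    induction j using Fin.lastCases with
    | last => simp
    | cast j => simp [Matrix.one_apply, Fin.ext_iff, (Fin.castSucc_lt_last j).ne']
  | cast i =>
    induction j using Fin.lastCases with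
    | last => simp [Matrix.one_apply, (Fin.castSucc_lt_last i).ne]
    | cast j => simp [Matrix.one_apply]

theorem emb_mul (a b : Matrix (Fin m) (Fin m) F) : emb (a * b) = emb a * emb b := by
  ext i j
  rw [Matrix.mul_apply, Fin.sum_univ_castSucc]
  induction i using Fin.lastCases with
  | last =>
    induction j using Fin.lastCases with
    | last => simp
    | cast j => simp
  | cast i =>
    induction j using Fin.lastCases with
    | last => simp
    | cast j => simp [Matrix.mul_apply]

theorem det_of_row (g : Matrix (Fin (m + 1)) (Fin (m + 1)) F) (h : ∀ j : Fin m, g lst (cs j) = 0) :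
    g.det = g lst lst * (g.submatrix cs cs).det := by
  rw [Matrix.det_succ_row g lst, Fin.sum_univ_castSucc]
  simp [h, Fin.succAbove_last, ← two_mul]

theorem det_emb (a : Matrix (Fin m) (Fin m) F) : (emb a).det = a.det := by
  rw [det_of_row _ (fun j => emb_lc a j), emb_ll, one_mul]
  congr 1
  ext i j
  simp

theorem eq_emb {g : Matrix (Fin (m + 1)) (Fin (m + 1)) F} (h : BD g) (h1 : g lst lst = 1) :
    g = emb (g.submatrix cs cs) := by
  ext i j
  induction i using Fin.lastCases with
  | last =>
    induction j using Fin.lastCases with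
    | last => simp [h1]
    | cast j => simp [h.2 j]
  | cast i =>
    induction j using Fin.lastCases with
    | last => simp [h.1 i]
    | cast j => simp

/-- the embedding `SL_m → SL_{m+1}` -/
def ψ : Matrix.SpecialLinearGroup (Fin m) F →* G where
  toFun a := ⟨emb (a : Matrix (Fin m) (Fin m) F), by rw [det_emb]; exact a.2⟩
  map_one' := Subtype.ext emb_one
  map_mul' a b := Subtype.ext (emb_mul _ _)

theorem coe_ψ (a : Matrix.SpecialLinearGroup (Fin m) F) :
    ((ψ a : G) : Matrix (Fin (m + 1)) (Fin (m + 1)) F) = emb (a : Matrix (Fin m) (Fin m) F) := rfl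

theorem ψ_injective : Function.Injective (ψ : Matrix.SpecialLinearGroup (Fin m) F →* G) := by
  intro a b h
  apply Subtype.ext
  ext i j
  have := congrFun (congrFun (congrArg Subtype.val h) (cs i)) (cs j)
  rw [coe_ψ, coe_ψ, emb_cc, emb_cc] at this
  exact this

theorem mem_range_iff (g : G) : g ∈ (ψ : Matrix.SpecialLinearGroup (Fin m) F →* G).range ↔
    BD (g : Matrix (Fin (m + 1)) (Fin (m + 1)) F) ∧ (g : Matrix (Fin (m + 1)) (Fin (m + 1)) F) lst lst = 1 := by
  constructor
  · rintro ⟨a, rfl⟩
    exact ⟨⟨fun i => emb_cl _ i, fun j => emb_lc _ j⟩, emb_ll _⟩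
  · rintro ⟨h, h1⟩
    have hd : ((g : Matrix (Fin (m + 1)) (Fin (m + 1)) F).submatrix cs cs).det = 1 := by
      have := det_of_row (g : Matrix (Fin (m + 1)) (Fin (m + 1)) F) h.2
      rw [h1, one_mul, g.2] at this
      exact this.symm
    exact ⟨⟨_, hd⟩, Subtype.ext (eq_emb h h1).symm⟩

/-- the subgroup `SL_m` of `SL_{m+1}` -/
abbrev AA (F : Type*) [Field F] (m : ℕ) : Subgroup (Matrix.SpecialLinearGroup (Fin (m + 1)) F) :=
  (ψ : Matrix.SpecialLinearGroup (Fin m) F →* Matrix.SpecialLinearGroup (Fin (m + 1)) F).range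

theorem quasisimple_AA (hm : 3 ≤ m) : Cfsg.IsQuasisimple (AA F m) := by
  have h3 : 3 ≤ Fintype.card (Fin m) := by simpa using hm
  have h : Cfsg.IsQuasisimple (Matrix.SpecialLinearGroup (Fin m) F) :=
    ⟨⟨Cfsg.Agent.Lib.Helper6SL.commutator_SL_eq_top h3⟩, Cfsg.Agent.S0249.PSL_simple h3⟩
  exact Cfsg.Agent.Lib.Helper27Basic.isQuasisimple_of_mulEquiv (MonoidHom.ofInjective ψ_injective) h

/-- the transvections of `AA` -/
def tv (i j : Fin m) (hij : i ≠ j) : G :=
  ⟨Matrix.transvection (cs i) (cs j) (1 : F),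
      Matrix.det_transvection_of_ne _ _ (fun h => hij (Fin.castSucc_inj.1 h)) 1⟩

theorem coe_tv (i j : Fin m) (hij : i ≠ j) :
    ((tv i j hij : G) : Matrix (Fin (m + 1)) (Fin (m + 1)) F) = 1 + Matrix.single (cs i) (cs j) (1 : F) := rfl

theorem tv_mem {i j : Fin m} (hij : i ≠ j) : (tv i j hij : G) ∈ AA F m := by
  refine (mem_range_iff _).2 ?_
  rw [coe_tv]
  refine ⟨⟨fun k => ?_, fun k => ?_⟩, ?_⟩
  · simp [Matrix.single_apply, Matrix.one_apply, (Fin.castSucc_lt_last _).ne]
  · simp [Matrix.single_apply, Matrix.one_apply, (Fin.castSucc_lt_last _).ne,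
      (Fin.castSucc_lt_last _).ne']
  · simp [Matrix.single_apply, (Fin.castSucc_lt_last _).ne]

/-- the diagonal matrix `diag(l, …, l, u)` -/
def dg (l u : F) : Matrix (Fin (m + 1)) (Fin (m + 1)) F :=
  Matrix.diagonal (fun i => if i = lst then u else l)

/-- the centraliser of `AA` consists of the matrices `diag(l, …, l, u)` -/
theorem centralizer_form (hm : 2 ≤ m) {x : G} (hx : x ∈ centralizer (AA F m : Set G)) :
    ∃ l u : F, (x : Matrix (Fin (m + 1)) (Fin (m + 1)) F) = dg l u := by
  have key : ∀ i j : Fin m, i ≠ j →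
      (x : Matrix (Fin (m + 1)) (Fin (m + 1)) F) * Matrix.single (cs i) (cs j) (1 : F)
        = Matrix.single (cs i) (cs j) (1 : F) * (x : Matrix (Fin (m + 1)) (Fin (m + 1)) F) := by
    intro i j hij
    have h := hx _ (tv_mem (F := F) hij)
    have h2 := congrArg Subtype.val h
    rw [Matrix.SpecialLinearGroup.coe_mul, Matrix.SpecialLinearGroup.coe_mul, coe_tv] at h2
    rw [add_mul, mul_add, one_mul, mul_one] at h2
    exact (add_left_cancel h2).symm
  have hex : ∀ i : Fin m, ∃ j : Fin m, i ≠ j := by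
    intro i
    by_cases h0 : (i : ℕ) = 0
    · exact ⟨⟨1, by omega⟩, fun h => by simp [Fin.ext_iff] at h; omega⟩
    · exact ⟨⟨0, by omega⟩, fun h => by simp [Fin.ext_iff] at h; omega⟩
  -- columns
  have hcol : ∀ (i : Fin m) (a : Fin (m + 1)), a ≠ cs i →
      (x : Matrix (Fin (m + 1)) (Fin (m + 1)) F) a (cs i) = 0 := by
    intro i a ha
    obtain ⟨j, hij⟩ := hex i
    have h := congrFun (congrFun (key i j hij) a) (cs j)
    simp [Matrix.single_mul_apply_of_ne, ha] at h
    exact h
  have hrow : ∀ (j : Fin m) (b : Fin (m + 1)), b ≠ cs j →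
      (x : Matrix (Fin (m + 1)) (Fin (m + 1)) F) (cs j) b = 0 := by
    intro j b hb
    obtain ⟨i, hji⟩ := hex j
    have h := congrFun (congrFun (key i j hji.symm) (cs i)) b
    simp [Matrix.mul_single_apply_of_ne, hb] at h
    exact h.symm
  have hdiag : ∀ i j : Fin m, (x : Matrix (Fin (m + 1)) (Fin (m + 1)) F) (cs i) (cs i)
      = (x : Matrix (Fin (m + 1)) (Fin (m + 1)) F) (cs j) (cs j) := by
    intro i j
    by_cases hij : i = j
    · rw [hij]
    · have h := congrFun (congrFun (key i j hij) (cs i)) (cs j)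
      simpa using h
  refine ⟨(x : Matrix (Fin (m + 1)) (Fin (m + 1)) F) (cs ⟨0, by omega⟩) (cs ⟨0, by omega⟩),
    (x : Matrix (Fin (m + 1)) (Fin (m + 1)) F) lst lst, ?_⟩
  ext a b
  unfold dg
  by_cases hab : a = b
  · subst hab
    rw [Matrix.diagonal_apply_eq]
    induction a using Fin.lastCases with
    | last => simp
    | cast i => rw [if_neg (Fin.castSucc_lt_last i).ne]; exact hdiag _ _
  · rw [Matrix.diagonal_apply_ne _ hab]
    induction b using Fin.lastCases with
    | last =>
      induction a using Fin.lastCases with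
      | last => exact absurd rfl hab
      | cast i => exact hrow i _ (Ne.symm hab)
    | cast j => exact hcol j _ hab

theorem dg_cc (l u : F) (i j : Fin m) : (dg l u : Matrix (Fin (m + 1)) (Fin (m + 1)) F) (cs i) (cs j)
    = if i = j then l else 0 := by
  simp [dg, Matrix.diagonal_apply, (Fin.castSucc_lt_last _).ne]

theorem dg_mul_dg (l u l' u' : F) :
    (dg l u : Matrix (Fin (m + 1)) (Fin (m + 1)) F) * dg l' u' = dg (l * l') (u * u') := by
  unfold dg
  rw [Matrix.diagonal_mul_diagonal]
  congr 1
  ext i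
  split_ifs <;> rfl

theorem dg_one : (dg 1 1 : Matrix (Fin (m + 1)) (Fin (m + 1)) F) = 1 := by
  unfold dg
  simp

theorem det_dg (l u : F) : (dg l u : Matrix (Fin (m + 1)) (Fin (m + 1)) F).det = l ^ m * u := by
  unfold dg
  rw [Matrix.det_diagonal, Fin.prod_univ_castSucc]
  simp [(Fin.castSucc_lt_last _).ne]

theorem dg_ll (l u : F) : (dg l u : Matrix (Fin (m + 1)) (Fin (m + 1)) F) lst lst = u := by
  simp [dg]

theorem mem_centralizer_iff_BD (h2 : (2 : F) ≠ 0) {t : G}
    (ht : (t : Matrix (Fin (m + 1)) (Fin (m + 1)) F) = dg (-1) 1) (g : G) :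
    g ∈ centralizer ({t} : Set G) ↔ BD (g : Matrix (Fin (m + 1)) (Fin (m + 1)) F) := by
  rw [mem_centralizer_singleton_iff]
  constructor
  · intro h
    have h' : (g : Matrix (Fin (m + 1)) (Fin (m + 1)) F) * dg (-1) 1
        = dg (-1) 1 * (g : Matrix (Fin (m + 1)) (Fin (m + 1)) F) := by
      rw [← ht, ← Matrix.SpecialLinearGroup.coe_mul, ← Matrix.SpecialLinearGroup.coe_mul, h]
    constructor
    · intro i
      have h3 := congrFun (congrFun h' (cs i)) lst
      simp only [dg, Matrix.mul_diagonal, Matrix.diagonal_mul, if_true,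
        if_neg (Fin.castSucc_lt_last i).ne] at h3
      have h4 : 2 * (g : Matrix (Fin (m + 1)) (Fin (m + 1)) F) (cs i) lst = 0 := by
        linear_combination h3
      exact (mul_eq_zero.1 h4).resolve_left h2
    · intro j
      have h3 := congrFun (congrFun h' lst) (cs j)
      simp only [dg, Matrix.mul_diagonal, Matrix.diagonal_mul, if_true,
        if_neg (Fin.castSucc_lt_last j).ne] at h3
      have h4 : 2 * (g : Matrix (Fin (m + 1)) (Fin (m + 1)) F) lst (cs j) = 0 := by
        linear_combination -h3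
      exact (mul_eq_zero.1 h4).resolve_left h2
  · intro h
    apply Subtype.ext
    rw [Matrix.SpecialLinearGroup.coe_mul, Matrix.SpecialLinearGroup.coe_mul, ht]
    ext i j
    simp only [dg, Matrix.mul_diagonal, Matrix.diagonal_mul]
    induction i using Fin.lastCases with
    | last =>
      induction j using Fin.lastCases with
      | last => simp
      | cast j => simp [h.2 j]
    | cast i =>
      induction j using Fin.lastCases with
      | last => simp [h.1 i]
      | cast j => simp [(Fin.castSucc_lt_last _).ne]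

/-- the corner entry as a monoid homomorphism on the centraliser of `t` -/
def corner (h2 : (2 : F) ≠ 0) {t : G}
    (ht : (t : Matrix (Fin (m + 1)) (Fin (m + 1)) F) = dg (-1) 1) :
    ↥(centralizer ({t} : Set G)) →* F where
  toFun g := ((g : G) : Matrix (Fin (m + 1)) (Fin (m + 1)) F) lst lst
  map_one' := by simp
  map_mul' g h := by
    have := ((mem_centralizer_iff_BD h2 ht g.1).1 g.2).2
    simp [Matrix.mul_apply, Fin.sum_univ_castSucc, this]

theorem standard_AA [Finite F] (h2 : (2 : F) ≠ 0) (hm : 3 ≤ m) (hev : Even m) {t : G}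
    (ht : (t : Matrix (Fin (m + 1)) (Fin (m + 1)) F) = dg (-1) 1) :
    Cfsg.IsStandardSubgroup
      ((Cfsg.layer ↥(centralizer ({t} : Set G))).map (centralizer ({t} : Set G)).subtype) := by
  have hfin : Finite G := by
    have : Finite (Matrix (Fin (m + 1)) (Fin (m + 1)) F) := inferInstanceAs (Finite (Fin (m + 1) → Fin (m + 1) → F))
    exact Subtype.finite
  have hAC : AA F m ≤ centralizer ({t} : Set G) := by
    intro g hg
    exact (mem_centralizer_iff_BD h2 ht g).2 ((mem_range_iff g).1 hg).1
  have h11 : (-1 : F) ≠ 1 := by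
    intro h
    apply h2
    linear_combination -h
  refine Cfsg.Agent.Lib.Helper13StdAbs.standard_of (AA F m) t (corner h2 ht).toHomUnits
    (quasisimple_AA hm) hAC ?_ ?_ ?_ ?_ ?_
  · ext g
    rw [MonoidHom.mem_ker, Subgroup.mem_subgroupOf, mem_range_iff, Units.ext_iff,
      MonoidHom.coe_toHomUnits]
    constructor
    · intro h
      exact ⟨(mem_centralizer_iff_BD h2 ht g.1).1 g.2, h⟩
    · intro h
      exact h.2
  · intro x hx y hy
    obtain ⟨l, u, hxe⟩ := centralizer_form (by omega) hx
    obtain ⟨l', u', hye⟩ := centralizer_form (by omega) hy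
    apply Subtype.ext
    rw [Matrix.SpecialLinearGroup.coe_mul, Matrix.SpecialLinearGroup.coe_mul, hxe, hye,
      dg_mul_dg, dg_mul_dg, mul_comm l, mul_comm u]
  · intro h
    have h3 := congrFun (congrFun (congrArg Subtype.val h) (cs ⟨0, by omega⟩)) (cs ⟨0, by omega⟩)
    rw [ht, dg_cc] at h3
    simp at h3
    exact h11 h3
  · apply Subtype.ext
    rw [Matrix.SpecialLinearGroup.coe_mul, ht, dg_mul_dg]
    simp [dg_one]
  · intro x hx hxx hx1
    obtain ⟨l, u, hxe⟩ := centralizer_form (by omega) hx
    have h3 := congrArg Subtype.val hxx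
    rw [Matrix.SpecialLinearGroup.coe_mul, hxe, dg_mul_dg] at h3
    have hl : l * l = 1 := by
      have := congrFun (congrFun h3 (cs ⟨0, by omega⟩)) (cs ⟨0, by omega⟩)
      rw [dg_cc] at this
      simpa using this
    have hd : l ^ m * u = 1 := by
      rw [← det_dg, ← hxe]; exact x.2
    obtain ⟨k, hk⟩ := hev
    have hu : u = 1 := by
      rw [hk, ← two_mul, pow_mul, pow_two, hl, one_pow, one_mul] at hd
      exact hd
    have hl' : l = 1 ∨ l = -1 := mul_self_eq_one_iff.1 hl
    apply Subtype.ext
    rw [hxe, ht, hu]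
    rcases hl' with h | h
    · exfalso
      apply hx1
      apply Subtype.ext
      rw [hxe, h, hu, dg_one]
      rfl
    · rw [h]

end Cfsg.Agent.Lib.Helper13Std
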