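import Cfsg.Agent.Lib.Helper97UBase
import Cfsg.Agent.Lib.Helper98AschBasic

set_option autoImplicit false

/-! Vocabulary for the general-dimension Aschbacher theorem, unitary case (PROJECT 4 = ASCH-U). -/

namespace Cfsg.Agent.Lib.Helper13UDefs

open Cfsg Cfsg.Geo Matrix
open Cfsg.Agent.Lib.Helper97AschBase Cfsg.Agent.Lib.Helper97UBase
open scoped MatrixGroups Kronecker

variable {n : ℕ} {F : Type*} [Field F]

/-- the standing hypotheses of the unitary case: `f` is a unitary form on `F^n` for the involution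
`σ = (x ↦ x ^ q)` of the field `F` with `q ^ 2` elements. -/
structure US [Fintype F] (σ : F ≃+* F) (f : (Fin n → F) → (Fin n → F) → F) (q : ℕ) : Prop where
  unitary : IsUnitaryForm σ f
  card : Fintype.card F = q ^ 2
  pow : ∀ a, σ a = a ^ q

/-- the columns of `P` form an orthonormal basis for `f`. -/
def IsON (σ : F ≃+* F) (f : (Fin n → F) → (Fin n → F) → F) (P : GL (Fin n) F) : Prop :=
  ∀ x y : Fin n → F, f ((P : Matrix (Fin n) (Fin n) F) *ᵥ x) ((P : Matrix (Fin n) (Fin n) F) *ᵥ y) =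
    ∑ i, x i * σ (y i)

/-- the explicit list of geometric alternatives in the unitary case: THE INTERFACE of the general theorem
(`umain : US σ f q → 2 ≤ n → H ≤ Iso f → UAlt σ f q H ∨ InUnitaryResidualClass H`).
In the tensor alternatives the basis `P` is orthonormal, so all form conditions of the classes 4 and 7 hold with
the standard forms; the last alternative INCLUDES the case `(q, k) = (2, 3)`. -/
def UAlt [Fintype F] (σ : F ≃+* F) (f : (Fin n → F) → (Fin n → F) → F) (q : ℕ)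
    (H : Subgroup (GL (Fin n) F)) : Prop :=
  (∃ W : Submodule F (Fin n → F), W ≠ ⊥ ∧ IsTotallySingularFor f W ∧ H ≤ subspaceStabilizer W) ∨
  (∃ W : Submodule F (Fin n → F), W ≠ ⊥ ∧ IsNondegenerateOn f W ∧ 2 * Module.finrank F W < n ∧
      H ≤ subspaceStabilizer W) ∨
  (∃ (t k : ℕ) (D : Fin t → Submodule F (Fin n → F)), IsNondegenerateMDecomposition f k D ∧
      H ≤ decompositionStabilizer D) ∨
  (∃ (k : ℕ) (D : Fin 2 → Submodule F (Fin n → F)), 2 * k = n ∧ IsMDecomposition k D ∧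
      (∀ i, IsTotallySingularFor f (D i)) ∧ H ≤ decompositionStabilizer D) ∨
  (∃ (r : ℕ) (K : Subalgebra F (Matrix (Fin n) (Fin n) F)), r.Prime ∧ Odd r ∧ IsFieldSubalgebra r K ∧
      IsAdjointClosedFor f K ∧ H ≤ subalgebraNormalizer K) ∨
  (∃ (n₁ n₂ : ℕ) (e : Fin n ≃ Fin n₁ × Fin n₂) (P : GL (Fin n) F), 2 ≤ n₁ ∧ n₁ < n₂ ∧ IsON σ f P ∧
      H ≤ tensorProductSubgroup n₁ n₂ e P) ∨
  (∃ (F₀ : Subfield F) (r : ℕ) (P : GL (Fin n) F), r.Prime ∧ Odd r ∧ Fintype.card F = Nat.card F₀ ^ r ∧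
      IsFormRationalStructure f F₀ 1 P ∧ H ≤ subfieldSubgroup F₀ P) ∨
  (∃ (F₀ : Subfield F) (P : GL (Fin n) F), Odd q ∧ Fintype.card F = Nat.card F₀ ^ 2 ∧
      IsFormRationalStructure f F₀ 1 P ∧ H ≤ subfieldSubgroup F₀ P) ∨
  (∃ (F₀ : Subfield F) (P : GL (Fin n) F) (ζ : F), Even n ∧ Fintype.card F = Nat.card F₀ ^ 2 ∧ ζ ≠ 0 ∧
      ζ + ζ ^ q = 0 ∧ IsFormRationalStructure f F₀ ζ P ∧
      (∀ u : Fin n → F, (∀ i, u i ∈ F₀) →
        f ((P : Matrix (Fin n) (Fin n) F) *ᵥ u) ((P : Matrix (Fin n) (Fin n) F) *ᵥ u) = 0) ∧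
      H ≤ subfieldSubgroup F₀ P) ∨
  (∃ (r : ℕ) (R : Subgroup (GL (Fin n) F)) (p e k : ℕ), IsSymplecticTypeGroup r R ∧
      ActsAbsolutelyIrreducibly (matrixSet R) ∧ R ≤ Iso f ∧ ⁅R, R⁆ ≤ scalars (Fin n) F ∧ r ≠ p ∧
      IsMinimalFieldFor (Nat.card (Subgroup.center R)) p e F ∧
      ((Odd r ∧ Nat.card (Subgroup.center R) = r ∧ 1 ≤ k ∧ Nat.card R = r ^ (1 + 2 * k)) ∨
       (r = 2 ∧ e = 2 ∧ Nat.card (Subgroup.center R) = 4 ∧ Nat.card R = 2 ^ (2 + 2 * k))) ∧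
      n = r ^ k ∧ H ≤ subgroupNormalizer R) ∨
  (∃ (k t : ℕ) (e : Fin n ≃ (Fin t → Fin k)) (P : GL (Fin n) F), 3 ≤ k ∧ 2 ≤ t ∧ IsON σ f P ∧
      H ≤ tensorWreathSubgroup k t e P)

section alts
variable [Fintype F] {σ : F ≃+* F} {f : (Fin n → F) → (Fin n → F) → F} {q : ℕ}
  {H : Subgroup (GL (Fin n) F)}

lemma u1a {W : Submodule F (Fin n → F)} (h0 : W ≠ ⊥) (h1 : IsTotallySingularFor f W)
    (h : H ≤ subspaceStabilizer W) : UAlt σ f q H := Or.inl ⟨W, h0, h1, h⟩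

lemma u1b {W : Submodule F (Fin n → F)} (h0 : W ≠ ⊥) (h1 : IsNondegenerateOn f W)
    (h2 : 2 * Module.finrank F W < n) (h : H ≤ subspaceStabilizer W) : UAlt σ f q H :=
  Or.inr (Or.inl ⟨W, h0, h1, h2, h⟩)

lemma u2a {t k : ℕ} {D : Fin t → Submodule F (Fin n → F)} (hD : IsNondegenerateMDecomposition f k D)
    (h : H ≤ decompositionStabilizer D) : UAlt σ f q H := Or.inr (Or.inr (Or.inl ⟨t, k, D, hD, h⟩))

lemma u2b {k : ℕ} {D : Fin 2 → Submodule F (Fin n → F)} (hk : 2 * k = n) (hD : IsMDecomposition k D)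
    (hs : ∀ i, IsTotallySingularFor f (D i)) (h : H ≤ decompositionStabilizer D) : UAlt σ f q H :=
  Or.inr (Or.inr (Or.inr (Or.inl ⟨k, D, hk, hD, hs, h⟩)))

lemma u3 {r : ℕ} {K : Subalgebra F (Matrix (Fin n) (Fin n) F)} (hr : r.Prime) (hodd : Odd r)
    (hK : IsFieldSubalgebra r K) (hs : IsAdjointClosedFor f K) (h : H ≤ subalgebraNormalizer K) :
    UAlt σ f q H := Or.inr (Or.inr (Or.inr (Or.inr (Or.inl ⟨r, K, hr, hodd, hK, hs, h⟩))))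

lemma u4 {n₁ n₂ : ℕ} {e : Fin n ≃ Fin n₁ × Fin n₂} {P : GL (Fin n) F} (h1 : 2 ≤ n₁) (h2 : n₁ < n₂)
    (hP : IsON σ f P) (h : H ≤ tensorProductSubgroup n₁ n₂ e P) : UAlt σ f q H :=
  Or.inr (Or.inr (Or.inr (Or.inr (Or.inr (Or.inl ⟨n₁, n₂, e, P, h1, h2, hP, h⟩)))))

lemma u5a {F₀ : Subfield F} {r : ℕ} {P : GL (Fin n) F} (hr : r.Prime) (hodd : Odd r)
    (hc : Fintype.card F = Nat.card F₀ ^ r) (hP : IsFormRationalStructure f F₀ 1 P)
    (h : H ≤ subfieldSubgroup F₀ P) : UAlt σ f q H :=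
  Or.inr (Or.inr (Or.inr (Or.inr (Or.inr (Or.inr (Or.inl ⟨F₀, r, P, hr, hodd, hc, hP, h⟩))))))

lemma u5b {F₀ : Subfield F} {P : GL (Fin n) F} (hodd : Odd q)
    (hc : Fintype.card F = Nat.card F₀ ^ 2) (hP : IsFormRationalStructure f F₀ 1 P)
    (h : H ≤ subfieldSubgroup F₀ P) : UAlt σ f q H :=
  Or.inr (Or.inr (Or.inr (Or.inr (Or.inr (Or.inr (Or.inr (Or.inl ⟨F₀, P, hodd, hc, hP, h⟩)))))))

lemma u5c {F₀ : Subfield F} {P : GL (Fin n) F} {ζ : F} (hn : Even n)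
    (hc : Fintype.card F = Nat.card F₀ ^ 2) (h0 : ζ ≠ 0) (h1 : ζ + ζ ^ q = 0)
    (hP : IsFormRationalStructure f F₀ ζ P)
    (ha : ∀ u : Fin n → F, (∀ i, u i ∈ F₀) →
        f ((P : Matrix (Fin n) (Fin n) F) *ᵥ u) ((P : Matrix (Fin n) (Fin n) F) *ᵥ u) = 0)
    (h : H ≤ subfieldSubgroup F₀ P) : UAlt σ f q H :=
  Or.inr (Or.inr (Or.inr (Or.inr (Or.inr (Or.inr (Or.inr (Or.inr
    (Or.inl ⟨F₀, P, ζ, hn, hc, h0, h1, hP, ha, h⟩))))))))

lemma u6 {r : ℕ} {R : Subgroup (GL (Fin n) F)} {p e k : ℕ} (h1 : IsSymplecticTypeGroup r R)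
    (h2 : ActsAbsolutelyIrreducibly (matrixSet R)) (h3 : R ≤ Iso f)
    (h3' : ⁅R, R⁆ ≤ scalars (Fin n) F) (h4 : r ≠ p)
    (h5 : IsMinimalFieldFor (Nat.card (Subgroup.center R)) p e F)
    (h6 : (Odd r ∧ Nat.card (Subgroup.center R) = r ∧ 1 ≤ k ∧ Nat.card R = r ^ (1 + 2 * k)) ∨
       (r = 2 ∧ e = 2 ∧ Nat.card (Subgroup.center R) = 4 ∧ Nat.card R = 2 ^ (2 + 2 * k)))
    (h7 : n = r ^ k) (h : H ≤ subgroupNormalizer R) : UAlt σ f q H :=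
  Or.inr (Or.inr (Or.inr (Or.inr (Or.inr (Or.inr (Or.inr (Or.inr (Or.inr
    (Or.inl ⟨r, R, p, e, k, h1, h2, h3, h3', h4, h5, h6, h7, h⟩)))))))))

lemma u7 {k t : ℕ} {e : Fin n ≃ (Fin t → Fin k)} {P : GL (Fin n) F} (hk : 3 ≤ k) (ht : 2 ≤ t)
    (hP : IsON σ f P) (h : H ≤ tensorWreathSubgroup k t e P) : UAlt σ f q H :=
  Or.inr (Or.inr (Or.inr (Or.inr (Or.inr (Or.inr (Or.inr (Or.inr (Or.inr
    (Or.inr ⟨k, t, e, P, hk, ht, hP, h⟩)))))))))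

end alts

end Cfsg.Agent.Lib.Helper13UDefs
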