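import Mathlib
import Cfsg.Agent.Lib.Helper18F4

set_option autoImplicit false

/-! ASCH-U, phase 2, piece `field62c`, part 1: the ring `F[X]/(X^3 - ω)` inside the `3 × 3` matrices. -/

namespace Cfsg.Agent.Lib.Helper13UK3

open Matrix

/-- the ring `F[X]/(X^3 - ω)` -/
@[ext] structure K3 (F : Type*) [Field F] (ω : F) where
  a0 : F
  a1 : F
  a2 : F

namespace K3

variable {F : Type*} [Field F] {ω : F}

instance : Zero (K3 F ω) := ⟨⟨0, 0, 0⟩⟩
instance : One (K3 F ω) := ⟨⟨1, 0, 0⟩⟩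
instance : Add (K3 F ω) := ⟨fun x y => ⟨x.a0 + y.a0, x.a1 + y.a1, x.a2 + y.a2⟩⟩
instance : Neg (K3 F ω) := ⟨fun x => ⟨-x.a0, -x.a1, -x.a2⟩⟩
instance : Mul (K3 F ω) := ⟨fun x y =>
  ⟨x.a0 * y.a0 + ω * (x.a1 * y.a2 + x.a2 * y.a1), x.a0 * y.a1 + x.a1 * y.a0 + ω * (x.a2 * y.a2),
    x.a0 * y.a2 + x.a1 * y.a1 + x.a2 * y.a0⟩⟩

@[simp] lemma zero_a0 : (0 : K3 F ω).a0 = 0 := rfl
@[simp] lemma zero_a1 : (0 : K3 F ω).a1 = 0 := rfl
@[simp] lemma zero_a2 : (0 : K3 F ω).a2 = 0 := rfl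
@[simp] lemma one_a0 : (1 : K3 F ω).a0 = 1 := rfl
@[simp] lemma one_a1 : (1 : K3 F ω).a1 = 0 := rfl
@[simp] lemma one_a2 : (1 : K3 F ω).a2 = 0 := rfl
@[simp] lemma add_a0 (x y : K3 F ω) : (x + y).a0 = x.a0 + y.a0 := rfl
@[simp] lemma add_a1 (x y : K3 F ω) : (x + y).a1 = x.a1 + y.a1 := rfl
@[simp] lemma add_a2 (x y : K3 F ω) : (x + y).a2 = x.a2 + y.a2 := rfl
@[simp] lemma neg_a0 (x : K3 F ω) : (-x).a0 = -x.a0 := rfl
@[simp] lemma neg_a1 (x : K3 F ω) : (-x).a1 = -x.a1 := rfl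
@[simp] lemma neg_a2 (x : K3 F ω) : (-x).a2 = -x.a2 := rfl
@[simp] lemma mul_a0 (x y : K3 F ω) : (x * y).a0 = x.a0 * y.a0 + ω * (x.a1 * y.a2 + x.a2 * y.a1) := rfl
@[simp] lemma mul_a1 (x y : K3 F ω) : (x * y).a1 = x.a0 * y.a1 + x.a1 * y.a0 + ω * (x.a2 * y.a2) := rfl
@[simp] lemma mul_a2 (x y : K3 F ω) : (x * y).a2 = x.a0 * y.a2 + x.a1 * y.a1 + x.a2 * y.a0 := rfl

instance : CommRing (K3 F ω) where
  add_assoc x y z := by ext <;> simp [add_assoc]
  zero_add x := by ext <;> simp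
  add_zero x := by ext <;> simp
  nsmul := nsmulRec
  zsmul := zsmulRec
  neg_add_cancel x := by ext <;> simp
  add_comm x y := by ext <;> simp [add_comm]
  left_distrib x y z := by ext <;> simp <;> ring
  right_distrib x y z := by ext <;> simp <;> ring
  zero_mul x := by ext <;> simp
  mul_zero x := by ext <;> simp
  mul_assoc x y z := by ext <;> simp <;> ring
  one_mul x := by ext <;> simp
  mul_one x := by ext <;> simp
  mul_comm x y := by ext <;> simp <;> ring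

/-- the regular representation -/
def ρ : K3 F ω →+* Matrix (Fin 3) (Fin 3) F where
  toFun x := !![x.a0, ω * x.a2, ω * x.a1; x.a1, x.a0, ω * x.a2; x.a2, x.a1, x.a0]
  map_one' := by
    ext i j; fin_cases i <;> fin_cases j <;> simp
  map_mul' x y := by
    ext i j; fin_cases i <;> fin_cases j <;> simp [Matrix.mul_apply, Fin.sum_univ_three] <;> ring
  map_zero' := by
    ext i j; fin_cases i <;> fin_cases j <;> simp
  map_add' x y := by
    ext i j; fin_cases i <;> fin_cases j <;> simp <;> ring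

lemma ρ_apply (x : K3 F ω) :
    ρ x = !![x.a0, ω * x.a2, ω * x.a1; x.a1, x.a0, ω * x.a2; x.a2, x.a1, x.a0] := rfl

lemma ρ_injective : Function.Injective (ρ : K3 F ω → Matrix (Fin 3) (Fin 3) F) := by
  intro x y h
  rw [ρ_apply, ρ_apply] at h
  have h0 := congrFun (congrFun h 0) 0
  have h1 := congrFun (congrFun h 1) 0
  have h2 := congrFun (congrFun h 2) 0
  simp at h0 h1 h2
  exact K3.ext h0 h1 h2

/-- the companion matrix of `X^3 - ω` -/
def Z (ω : F) : Matrix (Fin 3) (Fin 3) F := !![0, 0, ω; 1, 0, 0; 0, 1, 0]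

lemma exists_of_comm {B : Matrix (Fin 3) (Fin 3) F} (h : B * Z ω = Z ω * B) :
    ∃ k : K3 F ω, ρ k = B := by
  refine ⟨⟨B 0 0, B 1 0, B 2 0⟩, ?_⟩
  have e := fun i j => congrFun (congrFun h i) j
  have e00 := e 0 0
  have e10 := e 1 0
  have e20 := e 2 0
  have e01 := e 0 1
  have e11 := e 1 1
  have e21 := e 2 1
  simp [Matrix.mul_apply, Fin.sum_univ_three, Z] at e00 e10 e20 e01 e11 e21
  rw [ρ_apply]
  ext i j
  fin_cases i <;> fin_cases j <;> simp [*]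

/-- the involution `k ↦ k̄` -/
def bar (σ : F ≃+* F) (x : K3 F ω) : K3 F ω := ⟨σ x.a0, ω ^ 2 * σ x.a2, ω ^ 2 * σ x.a1⟩

@[simp] lemma bar_a0 (σ : F ≃+* F) (x : K3 F ω) : (bar σ x).a0 = σ x.a0 := rfl
@[simp] lemma bar_a1 (σ : F ≃+* F) (x : K3 F ω) : (bar σ x).a1 = ω ^ 2 * σ x.a2 := rfl
@[simp] lemma bar_a2 (σ : F ≃+* F) (x : K3 F ω) : (bar σ x).a2 = ω ^ 2 * σ x.a1 := rfl

variable {σ : F ≃+* F}

lemma ρ_bar (hω3 : ω ^ 3 = 1) (hσω : σ ω = ω ^ 2) (x : K3 F ω) :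
    ρ (bar σ x) = ((ρ x).map σ)ᵀ := by
  rw [ρ_apply, ρ_apply]
  ext i j
  have h3 : ∀ t : F, ω * (ω ^ 2 * t) = t := fun t => by linear_combination t * hω3
  fin_cases i <;> fin_cases j <;> simp [hσω, h3]

lemma bar_mul (hω3 : ω ^ 3 = 1) (hσω : σ ω = ω ^ 2) (x y : K3 F ω) :
    bar σ (x * y) = bar σ x * bar σ y := by
  ext
  · simp [hσω]
    linear_combination (-(ω ^ 2 * (σ x.a1 * σ y.a2 + σ x.a2 * σ y.a1))) * hω3
  · simp [hσω]
    linear_combination (-(ω ^ 2 * (σ x.a1 * σ y.a1))) * hω3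
  · simp [hσω]
    linear_combination (0 : F) * hω3

lemma bar_add (x y : K3 F ω) : bar σ (x + y) = bar σ x + bar σ y := by
  ext <;> simp <;> ring

lemma bar_neg (x : K3 F ω) : bar σ (-x) = - bar σ x := by
  ext <;> simp

lemma bar_sub (x y : K3 F ω) : bar σ (x - y) = bar σ x - bar σ y := by
  rw [sub_eq_add_neg, bar_add, bar_neg, ← sub_eq_add_neg]

/-- the matrix of `k ↦ k̄` -/
def B0 (ω : F) : Matrix (Fin 3) (Fin 3) F := !![1, 0, 0; 0, 0, ω ^ 2; 0, ω ^ 2, 0]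

lemma B0_conj (hω3 : ω ^ 3 = 1) (hσω : σ ω = ω ^ 2) (x : K3 F ω) :
    B0 ω * (ρ x).map σ = ρ (bar σ x) * B0 ω := by
  rw [ρ_apply, ρ_apply]
  ext i j
  have h3 : ∀ t : F, ω * (ω ^ 2 * t) = t := fun t => by linear_combination t * hω3
  fin_cases i <;> fin_cases j <;> simp [hσω, B0, Matrix.mul_apply, Fin.sum_univ_three, h3]
  all_goals ring

lemma ρ_scalar (s : F) (k : K3 F ω) : ρ ((⟨s, 0, 0⟩ : K3 F ω) * k) = s • ρ k := by
  rw [ρ_apply, ρ_apply]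
  ext i j
  fin_cases i <;> fin_cases j <;> simp <;> ring

end K3

open K3

/-- the finite check, in the model -/
lemma check_model : ∀ ω x y w : Helper18F4.F4c, ω ^ 2 + ω + 1 = 0 →
    x * x ^ 2 + ω * (y * (ω ^ 2 * y ^ 2) + w * (ω ^ 2 * w ^ 2)) = 1 →
    x * (ω ^ 2 * w ^ 2) + y * x ^ 2 + ω * (w * (ω ^ 2 * y ^ 2)) = 0 →
    x * (x * x - ω * w * y) - ω * w * (y * x - ω * w * w) + ω * y * (y * y - x * w) = 1 →
    y = 0 ∧ w = 0 := by
  decide +kernel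

variable {F : Type*} [Field F] {ω : F} {σ : F ≃+* F}

/-- the finite check -/
lemma check [Fintype F] (hF : Fintype.card F = 4) (hω : ω ^ 2 + ω + 1 = 0) (hσ : ∀ a, σ a = a ^ 2)
    (Δ : K3 F ω) (h1 : Δ * bar σ Δ = 1) (h2 : (ρ Δ).det = 1) : Δ.a1 = 0 ∧ Δ.a2 = 0 := by
  obtain ⟨φ⟩ := Helper18F4.exists_ringEquiv hF
  have e0 := congrArg K3.a0 h1
  have e1 := congrArg K3.a1 h1
  rw [ρ_apply, Matrix.det_fin_three] at h2
  simp [hσ] at e0 e1 h2
  have e0' : Δ.a0 * Δ.a0 ^ 2 + ω * (Δ.a1 * (ω ^ 2 * Δ.a1 ^ 2) + Δ.a2 * (ω ^ 2 * Δ.a2 ^ 2)) = 1 := by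
    linear_combination e0
  have e1' : Δ.a0 * (ω ^ 2 * Δ.a2 ^ 2) + Δ.a1 * Δ.a0 ^ 2 + ω * (Δ.a2 * (ω ^ 2 * Δ.a1 ^ 2)) = 0 := by
    linear_combination e1
  have h2' : Δ.a0 * (Δ.a0 * Δ.a0 - ω * Δ.a2 * Δ.a1) - ω * Δ.a2 * (Δ.a1 * Δ.a0 - ω * Δ.a2 * Δ.a2) +
      ω * Δ.a1 * (Δ.a1 * Δ.a1 - Δ.a0 * Δ.a2) = 1 := by
    linear_combination h2
  have := check_model (φ ω) (φ Δ.a0) (φ Δ.a1) (φ Δ.a2)
    (by have := congrArg φ hω; simpa only [map_add, map_mul, map_pow, map_one, map_zero] using this)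
    (by have := congrArg φ e0'; simpa only [map_add, map_mul, map_pow, map_one, map_zero] using this)
    (by have := congrArg φ e1'; simpa only [map_add, map_mul, map_pow, map_one, map_zero] using this)
    (by have := congrArg φ h2'; simpa only [map_add, map_sub, map_mul, map_pow, map_one, map_zero] using this)
  exact ⟨(map_eq_zero_iff φ φ.injective).mp this.1, (map_eq_zero_iff φ φ.injective).mp this.2⟩

/-- the swap of `Fin 2` -/
def sw : Fin 2 → Fin 2 := ![1, 0]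

/-- THE CORE: unitary `2 × 2` matrices over `F[Z]` of determinant one over `F`. -/
theorem core [Fintype F] (hF : Fintype.card F = 4) (hω : ω ^ 2 + ω + 1 = 0) (hσ : ∀ a, σ a = a ^ 2)
    (X : Matrix (Fin 2) (Fin 2) (Matrix (Fin 3) (Fin 3) F))
    (h1 : X * (Matrix.of fun i j => ((X j i).map σ)ᵀ) = 1)
    (h2 : (Matrix.comp (Fin 2) (Fin 2) (Fin 3) (Fin 3) F X).det = 1)
    (h3 : ∀ i j, X i j * Z ω = Z ω * X i j) :
    ∃ μ : F, ∀ i j, B0 ω * (X (sw i) j).map σ = μ • (X i (sw j) * B0 ω) := by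
  have hω3 : ω ^ 3 = 1 := by linear_combination (ω - 1) * hω
  have hσω : σ ω = ω ^ 2 := hσ ω
  have h20 : (2 : F) = 0 := by
    have : CharP F 2 := by
      have : Fact (Nat.Prime 2) := ⟨by norm_num⟩
      exact charP_of_card_eq_prime_pow (p := 2) (f := 2) (by rw [hF]; norm_num)
    exact_mod_cast CharP.cast_eq_zero F 2
  choose G hG using fun i j => exists_of_comm (h3 i j)
  let G' : Matrix (Fin 2) (Fin 2) (K3 F ω) := Matrix.of G
  let GH : Matrix (Fin 2) (Fin 2) (K3 F ω) := Matrix.of fun i j => bar σ (G j i)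
  have hX : X = G'.map ρ := by
    apply Matrix.ext
    intro i j
    exact (hG i j).symm
  have hXH : (Matrix.of fun i j => ((X j i).map σ)ᵀ) = GH.map ρ := by
    apply Matrix.ext
    intro i j
    simp only [Matrix.of_apply, Matrix.map_apply, GH]
    rw [ρ_bar hω3 hσω, hG]
  have hGG : G' * GH = 1 := by
    apply Matrix.map_injective ρ_injective
    show (G' * GH).map ρ = (1 : Matrix (Fin 2) (Fin 2) (K3 F ω)).map ρ
    rw [Matrix.map_mul, ← hX, ← hXH, h1, Matrix.map_one _ (map_zero _) (map_one _)]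
  -- the adjugate
  have hadj : G'.adjugate = G'.det • GH := by
    calc G'.adjugate = G'.adjugate * (G' * GH) := by rw [hGG, mul_one]
      _ = G'.det • GH := by rw [← mul_assoc, Matrix.adjugate_mul, Matrix.smul_mul, one_mul]
  set Δ := G'.det with hΔ
  have hdetH : GH.det = bar σ Δ := by
    rw [hΔ, Matrix.det_fin_two, Matrix.det_fin_two, bar_sub, bar_mul hω3 hσω, bar_mul hω3 hσω]
    simp only [GH, G', Matrix.of_apply]
    ring
  have hΔΔ : Δ * bar σ Δ = 1 := by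
    rw [← hdetH, hΔ, ← Matrix.det_mul, hGG, Matrix.det_one]
  have hdet : (ρ Δ).det = 1 := by
    rw [hΔ, Matrix.det_det, ← hX, h2]
  obtain ⟨hΔ1, hΔ2⟩ := check hF hω hσ Δ hΔΔ hdet
  have hbarΔ : bar σ Δ = ⟨σ Δ.a0, 0, 0⟩ := by
    ext <;> simp [hΔ1, hΔ2]
  have hneg : ∀ k : K3 F ω, -k = k := by
    intro k
    have h : ∀ t : F, -t = t := fun t => by linear_combination (-t) * h20
    ext <;> simp [h]
  -- `bar (G a b) = bar Δ * G (sw a) (sw b)`
  have key : ∀ a b, bar σ (G a b) = bar σ Δ * G (sw a) (sw b) := by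
    intro a b
    have e := congrFun (congrFun hadj b) a
    rw [Matrix.adjugate_fin_two, Matrix.smul_apply, smul_eq_mul] at e
    have e2 : bar σ Δ * (Matrix.of ![![G' 1 1, -G' 0 1], ![-G' 1 0, G' 0 0]] b a) = bar σ (G a b) := by
      rw [e, ← mul_assoc, mul_comm (bar σ Δ), hΔΔ, one_mul]
      rfl
    rw [← e2]
    fin_cases a <;> fin_cases b <;> simp [sw, G', hneg]
  refine ⟨σ Δ.a0, fun i j => ?_⟩
  rw [← hG, ← hG, B0_conj hω3 hσω, key, hbarΔ, ρ_scalar, Matrix.smul_mul]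
  have : sw (sw i) = i := by fin_cases i <;> rfl
  rw [this]

end Cfsg.Agent.Lib.Helper13UK3
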