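import Cfsg.Agent.Lib.Helper13UK3
import Cfsg.Agent.Lib.Helper13UDefs
import Cfsg.Agent.Lib.Helper13UWrform
import Cfsg.Agent.Lib.Helper17Exc23D

set_option autoImplicit false

/-! ASCH-U, phase 2, piece `field62c`: the model of `(3 × SL_2(8)) : 3 ≤ 3 × Sp_6(2)` in `SU_6(2)`. -/

namespace Cfsg.Agent.Lib.Helper13UModel62

open Cfsg Cfsg.Geo Matrix
open Cfsg.Agent.Lib.Helper97AschBase Cfsg.Agent.Lib.Helper97UBase Cfsg.Agent.Lib.Helper13UDefs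
  Cfsg.Agent.Lib.Helper13UK3 Cfsg.Agent.Lib.Helper13UK3.K3
open scoped MatrixGroups

variable {F : Type*} [Field F]

/-- the standard element `z` with `z ^ 3 = ω`: `I₂ ⊗ Z`, `Z` the companion matrix of `X ^ 3 - ω` -/
def Z6 (ω : F) : Matrix (Fin 6) (Fin 6) F :=
  !![0, 0, ω, 0, 0, 0; 1, 0, 0, 0, 0, 0; 0, 1, 0, 0, 0, 0; 0, 0, 0, 0, 0, ω; 0, 0, 0, 1, 0, 0; 0, 0, 0, 0, 1, 0]

/-- the matrix of the semilinear map `J₀` -/
def M0 (ω : F) : Matrix (Fin 6) (Fin 6) F :=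
  !![0, 0, 0, 1, 0, 0; 0, 0, 0, 0, 0, ω ^ 2; 0, 0, 0, 0, ω ^ 2, 0; 1, 0, 0, 0, 0, 0; 0, 0, ω ^ 2, 0, 0, 0;
    0, ω ^ 2, 0, 0, 0, 0]

/-- `I₂ ⊗ diag(1, c, c²)` -/
def Ph (c : F) : Matrix (Fin 6) (Fin 6) F := Matrix.diagonal ![1, c, c ^ 2, 1, c, c ^ 2]

/-- the index bijection -/
def e6 : Fin 6 ≃ Fin 2 × Fin 3 := (finProdFinEquiv : Fin 2 × Fin 3 ≃ Fin 6).symm

/-- blocks -/
def Ψ : Matrix (Fin 6) (Fin 6) F ≃+* Matrix (Fin 2) (Fin 2) (Matrix (Fin 3) (Fin 3) F) :=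
  ((Matrix.reindexAlgEquiv F F e6).toRingEquiv).trans (Matrix.compRingEquiv (Fin 2) (Fin 3) F).symm

lemma Ψ_apply (M : Matrix (Fin 6) (Fin 6) F) (i j : Fin 2) (k l : Fin 3) :
    Ψ M i j k l = M (e6.symm (i, k)) (e6.symm (j, l)) := rfl

lemma Ψ_Z6 (ω : F) : Ψ (Z6 ω) = Matrix.diagonal (fun _ => Z ω) := by
  ext i j k l
  fin_cases i <;> fin_cases j <;> fin_cases k <;> fin_cases l <;> rfl

lemma Ψ_M0 (ω : F) : Ψ (M0 ω) = Matrix.of fun i j => if j = sw i then B0 ω else 0 := by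
  ext i j k l
  fin_cases i <;> fin_cases j <;> fin_cases k <;> fin_cases l <;> rfl

variable {σ : F ≃+* F} {ω : F}

lemma Ψ_map (M : Matrix (Fin 6) (Fin 6) F) : Ψ (M.map σ) = (Ψ M).map (fun B => B.map σ) := rfl

lemma Ψ_H (M : Matrix (Fin 6) (Fin 6) F) :
    Ψ ((M.map σ)ᵀ) = Matrix.of fun i j => ((Ψ M j i).map σ)ᵀ := rfl

lemma Ψ_smul (μ : F) (M : Matrix (Fin 6) (Fin 6) F) : Ψ (μ • M) = μ • Ψ M := rfl

lemma det_Ψ (M : Matrix (Fin 6) (Fin 6) F) :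
    (Matrix.comp (Fin 2) (Fin 2) (Fin 3) (Fin 3) F (Ψ M)).det = M.det := by
  have : Matrix.comp (Fin 2) (Fin 2) (Fin 3) (Fin 3) F (Ψ M) = Matrix.reindex e6 e6 M := rfl
  rw [this, Matrix.det_reindex_self]

theorem core6_one [Fintype F] (hF : Fintype.card F = 4) (hω : ω ^ 2 + ω + 1 = 0) (hσ : ∀ a, σ a = a ^ 2)
    (g : Matrix (Fin 6) (Fin 6) F) (hu : g * (g.map σ)ᵀ = 1) (hd : g.det = 1)
    (hz : g * Z6 ω = Z6 ω * g) : ∃ μ : F, M0 ω * g.map σ = μ • (g * M0 ω) := by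
  obtain ⟨μ, h⟩ := core hF hω hσ (Ψ g) (by rw [← Ψ_H, ← map_mul, hu, map_one]) (by rw [det_Ψ, hd])
    (fun i j => by
      have h1 := congrArg Ψ hz
      rw [map_mul, map_mul, Ψ_Z6] at h1
      have h2 := congrFun (congrFun h1 i) j
      rwa [Matrix.mul_diagonal, Matrix.diagonal_mul] at h2)
  refine ⟨μ, Ψ.injective ?_⟩
  rw [Ψ_smul, map_mul, map_mul, Ψ_M0, Ψ_map]
  apply Matrix.ext
  intro i j
  have h3 := h i j
  rw [Matrix.smul_apply, Matrix.mul_apply, Matrix.mul_apply, Fin.sum_univ_two, Fin.sum_univ_two]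
  simp only [Matrix.of_apply, Matrix.map_apply]
  fin_cases i <;> fin_cases j <;> simpa [sw] using h3

lemma Ph_Z6 {c : F} (hc : c ^ 3 = 1) : Ph c * Z6 ω = c • (Z6 ω * Ph c) := by
  ext i j
  rw [Matrix.smul_apply, Ph, Matrix.diagonal_mul, Matrix.mul_diagonal]
  fin_cases i <;> fin_cases j <;> simp [Z6]
  all_goals first | (ring; done) | linear_combination (-ω) * hc

lemma Ph_map {c : F} (hσc : σ c = c ^ 2) (hc : c ^ 3 = 1) : (Ph c).map σ = Ph (c ^ 2) := by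
  have h4 : (c ^ 2) ^ 2 = c := by linear_combination c * hc
  ext i j
  fin_cases i <;> fin_cases j <;> simp [Ph, Matrix.diagonal_apply, hσc, h4]

lemma Ph_transpose (c : F) : (Ph c)ᵀ = Ph c := Matrix.diagonal_transpose _

lemma Ph_mul {c : F} (hc : c ^ 3 = 1) : Ph c * Ph (c ^ 2) = 1 := by
  have h6 : c ^ 2 * (c ^ 2) ^ 2 = 1 := by linear_combination (c ^ 3 + 1) * hc
  have h3 : c * c ^ 2 = 1 := by linear_combination hc
  rw [Ph, Ph, Matrix.diagonal_mul_diagonal, ← Matrix.diagonal_one]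
  congr 1
  ext i
  fin_cases i <;> simp [h6, h3]

lemma Ph_det {c : F} (hc : c ^ 3 = 1) : (Ph c).det = 1 := by
  rw [Ph, Matrix.det_diagonal, Fin.prod_univ_six]
  simp
  linear_combination (c ^ 3 + 1) * hc

lemma Ph_M0 {c : F} (hc : c ^ 3 = 1) : M0 ω * Ph (c ^ 2) = Ph c * M0 ω := by
  have h4 : (c ^ 2) ^ 2 = c := by linear_combination c * hc
  ext i j
  rw [Ph, Ph, Matrix.diagonal_mul, Matrix.mul_diagonal]
  fin_cases i <;> fin_cases j <;> simp [M0, h4, mul_comm]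

theorem core6 [Fintype F] (hF : Fintype.card F = 4) (hω : ω ^ 2 + ω + 1 = 0) (hσ : ∀ a, σ a = a ^ 2)
    (g : Matrix (Fin 6) (Fin 6) F) (hu : g * (g.map σ)ᵀ = 1) (hd : g.det = 1) {c : F} (hc0 : c ≠ 0)
    (hz : g * Z6 ω = c • (Z6 ω * g)) : ∃ μ : F, M0 ω * g.map σ = μ • (g * M0 ω) := by
  have hc : c ^ 3 = 1 := by
    have h1 := FiniteField.pow_card_sub_one_eq_one c hc0
    rwa [hF] at h1
  have hc2 : (c ^ 2) ^ 3 = 1 := by rw [← pow_mul, mul_comm, pow_mul, hc, one_pow]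
  have h4 : (c ^ 2) ^ 2 = c := by linear_combination c * hc
  have hmul' : Ph (c ^ 2) * Ph c = 1 := by
    have := Ph_mul hc2
    rwa [h4] at this
  obtain ⟨μ, hμ⟩ := core6_one hF hω hσ (Ph (c ^ 2) * g)
    (by
      rw [Matrix.map_mul, Matrix.transpose_mul, Ph_map (hσ _) hc2, h4, Ph_transpose, mul_assoc,
        ← mul_assoc g, hu, one_mul, hmul'])
    (by rw [Matrix.det_mul, Ph_det hc2, hd, one_mul])
    (by
      rw [mul_assoc, hz, Matrix.mul_smul, ← mul_assoc, Ph_Z6 hc2, Matrix.smul_mul, smul_smul, mul_assoc]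
      have : c * c ^ 2 = 1 := by linear_combination hc
      rw [this, one_smul])
  refine ⟨μ, ?_⟩
  have hg : g = Ph c * (Ph (c ^ 2) * g) := by rw [← mul_assoc, Ph_mul hc, one_mul]
  conv_lhs => rw [hg, Matrix.map_mul, Ph_map (hσ _) hc, ← mul_assoc, Ph_M0 hc, mul_assoc, hμ]
  rw [Matrix.mul_smul, ← mul_assoc, ← mul_assoc, Ph_mul hc, one_mul]

lemma M0_mul (hω3 : ω ^ 3 = 1) (hσω : σ ω = ω ^ 2) : M0 ω * (M0 ω).map σ = 1 := by
  have h6 : ω ^ 2 * (ω ^ 2) ^ 2 = 1 := by linear_combination (ω ^ 3 + 1) * hω3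
  ext i j
  fin_cases i <;> fin_cases j <;> simp [M0, Matrix.mul_apply, Fin.sum_univ_six, hσω, h6]

lemma M0_transpose : (M0 ω)ᵀ = M0 ω := by
  ext i j
  fin_cases i <;> fin_cases j <;> rfl

/-- [field62c] -/
theorem model62 [Fintype F] {f : (Fin 6 → F) → (Fin 6 → F) → F} (hU : US σ f 2) {ω : F}
    (hω : ω ^ 2 + ω + 1 = 0) {P : GL (Fin 6) F} (hP : IsON σ f P) :
    ∃ J : (Fin 6 → F) → (Fin 6 → F), (∀ u v, J (u + v) = J u + J v) ∧
      (∀ (a : F) v, J (a • v) = σ a • J v) ∧ (∀ v, J (J v) = (1 : F) • v) ∧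
      (∀ u v, f (J u) (J v) = 1 * σ (f u v)) ∧
      ∀ g ∈ Iso f ⊓ specialLinear (Fin 6) F,
        (∃ c : F, c ≠ 0 ∧ (g : Matrix (Fin 6) (Fin 6) F) * ((P : Matrix (Fin 6) (Fin 6) F) * Z6 ω *
            ((P⁻¹ : GL (Fin 6) F) : Matrix (Fin 6) (Fin 6) F)) =
          c • (((P : Matrix (Fin 6) (Fin 6) F) * Z6 ω *
            ((P⁻¹ : GL (Fin 6) F) : Matrix (Fin 6) (Fin 6) F)) * (g : Matrix (Fin 6) (Fin 6) F))) →
        ∃ μ : F, ∀ v, J ((g : Matrix (Fin 6) (Fin 6) F) *ᵥ v) =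
          μ • ((g : Matrix (Fin 6) (Fin 6) F) *ᵥ J v) := by
  have hF : Fintype.card F = 4 := by rw [hU.card]; norm_num
  have hσ := hU.pow
  have hσσ := hU.unitary.involutive
  have hω3 : ω ^ 3 = 1 := by linear_combination (ω - 1) * hω
  have hσω : σ ω = ω ^ 2 := hσ ω
  have hM1 := M0_mul (σ := σ) hω3 hσω
  have hM2 : (M0 ω)ᵀ * (M0 ω).map σ = 1 := by rw [M0_transpose, hM1]
  have hmap := @Cfsg.Agent.Lib.Helper13UWrform.map_mulVec 6 F _ σ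
  have hmm : ∀ (A B : Matrix (Fin 6) (Fin 6) F) (x : Fin 6 → F), A *ᵥ (B *ᵥ x) = (A * B) *ᵥ x :=
    fun A B x => Matrix.mulVec_mulVec x A B
  have htadd : ∀ a b : Fin 6 → F, (fun i => σ ((a + b) i)) = (fun i => σ (a i)) + fun i => σ (b i) := by
    intro a b; ext i; simp
  have htsmul : ∀ (c : F) (b : Fin 6 → F), (fun i => σ ((c • b) i)) = σ c • fun i => σ (b i) := by
    intro c b; ext i; simp
  obtain ⟨J, hJ⟩ : ∃ J : (Fin 6 → F) → (Fin 6 → F), ∀ v, J v = (P : Matrix (Fin 6) (Fin 6) F) *ᵥ (M0 ω *ᵥ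
    (fun i => σ ((((P⁻¹ : GL (Fin 6) F) : Matrix (Fin 6) (Fin 6) F) *ᵥ v) i))) := ⟨_, fun _ => rfl⟩
  refine ⟨J, ?_, ?_, ?_, ?_, ?_⟩
  · intro u v
    rw [hJ, hJ, hJ, Matrix.mulVec_add, htadd, Matrix.mulVec_add, Matrix.mulVec_add]
  · intro a v
    rw [hJ, hJ, Matrix.mulVec_smul, htsmul, Matrix.mulVec_smul, Matrix.mulVec_smul]
  · intro v
    rw [hJ, hJ, inv_mulVec_mulVec, hmap, hmm (M0 ω), hM1, Matrix.one_mulVec, one_smul]
    simp only [hσσ]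
    exact mulVec_inv_mulVec P v
  · intro u v
    rw [hJ, hJ, hP, (Cfsg.Agent.Lib.Helper17Exc23D.std_unitary_iff (σ := σ) (M0 ω)).mpr hM2, one_mul]
    conv_rhs => rw [← mulVec_inv_mulVec P u, ← mulVec_inv_mulVec P v, hP]
    rw [map_sum]
    simp only [map_mul]
  · rintro g hg ⟨c, hc0, hz⟩
    have hgI : g ∈ Iso f := hg.1
    have hgd : (g : Matrix (Fin 6) (Fin 6) F).det = 1 := mem_specialLinear_iff.mp hg.2
    obtain ⟨g', hg'⟩ : ∃ g' : GL (Fin 6) F, g' = P⁻¹ * g * P := ⟨_, rfl⟩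
    have hPg : P * g' = g * P := by rw [hg']; group
    have hgP : g' * P⁻¹ = P⁻¹ * g := by rw [hg']; group
    have hu1 : (g' : Matrix (Fin 6) (Fin 6) F)ᵀ * (g' : Matrix (Fin 6) (Fin 6) F).map σ = 1 := by
      rw [← Cfsg.Agent.Lib.Helper17Exc23D.std_unitary_iff]
      intro x y
      rw [← hP, ← hP, Matrix.mulVec_mulVec, Matrix.mulVec_mulVec, ← Units.val_mul, hPg, Units.val_mul,
        ← Matrix.mulVec_mulVec, ← Matrix.mulVec_mulVec]
      exact hgI _ _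
    have hu : (g' : Matrix (Fin 6) (Fin 6) F) * ((g' : Matrix (Fin 6) (Fin 6) F).map σ)ᵀ = 1 := by
      have h1 := congrArg Matrix.transpose hu1
      rw [Matrix.transpose_mul, Matrix.transpose_transpose, Matrix.transpose_one] at h1
      exact mul_eq_one_comm.mp h1
    have hd : (g' : Matrix (Fin 6) (Fin 6) F).det = 1 := by
      have h1 : g' ∈ specialLinear (Fin 6) F := by
        rw [hg']
        have hn : (specialLinear (Fin 6) F).Normal := by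
          unfold specialLinear; infer_instance
        have := hn.conj_mem g hg.2 P⁻¹
        simpa using this
      exact mem_specialLinear_iff.mp h1
    have hPP : ((P⁻¹ : GL (Fin 6) F) : Matrix (Fin 6) (Fin 6) F) * (P : Matrix (Fin 6) (Fin 6) F) = 1 := by
      rw [← Units.val_mul, inv_mul_cancel, Units.val_one]
    have hz' : (g' : Matrix (Fin 6) (Fin 6) F) * Z6 ω = c • (Z6 ω * (g' : Matrix (Fin 6) (Fin 6) F)) := by
      have h1 := congrArg (fun M => ((P⁻¹ : GL (Fin 6) F) : Matrix (Fin 6) (Fin 6) F) * M *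
        (P : Matrix (Fin 6) (Fin 6) F)) hz
      beta_reduce at h1
      have e1 : ((P⁻¹ : GL (Fin 6) F) : Matrix (Fin 6) (Fin 6) F) * ((g : Matrix (Fin 6) (Fin 6) F) *
          ((P : Matrix (Fin 6) (Fin 6) F) * Z6 ω * ((P⁻¹ : GL (Fin 6) F) : Matrix (Fin 6) (Fin 6) F))) *
          (P : Matrix (Fin 6) (Fin 6) F) = (g' : Matrix (Fin 6) (Fin 6) F) * Z6 ω := by
        rw [hg', Units.val_mul, Units.val_mul]
        simp only [mul_assoc, hPP, mul_one]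
      have e2 : ((P⁻¹ : GL (Fin 6) F) : Matrix (Fin 6) (Fin 6) F) * (c • ((P : Matrix (Fin 6) (Fin 6) F) * Z6 ω *
          ((P⁻¹ : GL (Fin 6) F) : Matrix (Fin 6) (Fin 6) F) * (g : Matrix (Fin 6) (Fin 6) F))) *
          (P : Matrix (Fin 6) (Fin 6) F) = c • (Z6 ω * (g' : Matrix (Fin 6) (Fin 6) F)) := by
        rw [hg', Units.val_mul, Units.val_mul, Matrix.mul_smul, Matrix.smul_mul]
        congr 1
        simp only [← mul_assoc, hPP, one_mul]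
      rw [← e1, ← e2, h1]
    obtain ⟨μ, hμ⟩ := core6 hF hω hσ (g' : Matrix (Fin 6) (Fin 6) F) hu hd hc0 hz'
    refine ⟨μ, fun v => ?_⟩
    rw [hJ, hJ, hmm ((P⁻¹ : GL (Fin 6) F) : Matrix (Fin 6) (Fin 6) F) g, ← Units.val_mul, ← hgP,
      Units.val_mul, ← hmm, hmap, hmm (M0 ω), hμ, Matrix.smul_mulVec,
      Matrix.mulVec_smul, ← hmm, hmm (P : Matrix (Fin 6) (Fin 6) F) g',
      ← Units.val_mul, hPg, Units.val_mul, ← hmm]

end Cfsg.Agent.Lib.Helper13UModel62
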