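import Cfsg.Agent.Lib.Helper15UPc6

set_option autoImplicit false

/-! ASCH-U, phase 2, piece `pc6four`: `SU_n(q)`, `n ≥ 4`, does not normalise an absolutely irreducible group with
scalar commutators. -/

namespace Cfsg.Agent.Lib.Helper13UPc6Four

open Cfsg Cfsg.Geo Matrix Cfsg.Agent.Lib.Helper97AschBase Cfsg.Agent.Lib.Helper97AschForms
  Cfsg.Agent.Lib.Helper97AschTransv Cfsg.Agent.Lib.Helper95Herm Cfsg.Agent.Lib.Helper97UBase
  Cfsg.Agent.Lib.Helper97UProper Cfsg.Agent.Lib.Helper97AschHeis Cfsg.Agent.Lib.Helper97AschStd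
  Cfsg.Agent.Lib.Helper97UProper2 Cfsg.Agent.Lib.Helper97UProper3
open scoped MatrixGroups

variable {n : ℕ} {F : Type*} [Field F]

/-- a transvection does not normalise an absolutely irreducible group with scalar commutators
(dimension at least four) -/
lemma tv_not_mem_normalizer4 (h4 : 4 ≤ n) {N : Subgroup (GL (Fin n) F)}
    (habs : ActsAbsolutelyIrreducibly (matrixSet N))
    (hcomm : ⁅N, N⁆ ≤ scalars (Fin n) F) (u φ : Fin n → F) (hφu : φ ⬝ᵥ u = 0) (hu0 : u ≠ 0)
    (hφ0 : φ ≠ 0) : tv u φ hφu ∉ subgroupNormalizer N := by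
  intro ht
  have hpos : 0 < n := by omega
  have : NeZero n := ⟨hpos.ne'⟩
  unfold subgroupNormalizer at ht
  rw [Subgroup.mem_normalizer_iff] at ht
  obtain ⟨t, htdef⟩ : ∃ t, t = tv u φ hφu := ⟨_, rfl⟩
  rw [← htdef] at ht
  have htv : ∀ v, (t : Matrix (Fin n) (Fin n) F) *ᵥ v = v + (φ ⬝ᵥ v) • u := by
    intro v; rw [htdef, tv_mulVec]
  have htinv : ∀ v, φ ⬝ᵥ v = 0 → ((t⁻¹ : GL (Fin n) F) : Matrix (Fin n) (Fin n) F) *ᵥ v = v := by
    intro v hv
    have h1 : (t : Matrix (Fin n) (Fin n) F) *ᵥ v = v := by rw [htv, hv, zero_smul, add_zero]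
    conv_lhs => rw [← h1]
    rw [inv_mulVec_mulVec]
  -- commutators are trivial
  have hcomm1 : ∀ x ∈ N, t * x * t⁻¹ * x⁻¹ = 1 := by
    intro x hx
    have hc : t * x * t⁻¹ * x⁻¹ ∈ N := N.mul_mem ((ht x).mp hx) (N.inv_mem hx)
    obtain ⟨c, hcdef⟩ : ∃ c, c = t * x * t⁻¹ * x⁻¹ := ⟨_, rfl⟩
    rw [← hcdef] at hc ⊢
    let K₀ := LinearMap.ker ((dotL φ).prod
      ((dotL φ) ∘ₗ Matrix.toLin' ((x⁻¹ : GL (Fin n) F) : Matrix (Fin n) (Fin n) F)))
    have hK₀ : n ≤ Module.finrank F K₀ + 2 := finrank_ker_two _ _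
    have hle : K₀ ≤ fixS c := by
      intro v hv
      rw [LinearMap.mem_ker] at hv
      have hv1 : φ ⬝ᵥ v = 0 := congrArg Prod.fst hv
      have hv2 : φ ⬝ᵥ (((x⁻¹ : GL (Fin n) F) : Matrix (Fin n) (Fin n) F) *ᵥ v) = 0 := by
        have := congrArg Prod.snd hv
        simpa using this
      rw [mem_fixS, hcdef, Units.val_mul, Units.val_mul, Units.val_mul, ← Matrix.mulVec_mulVec,
        ← Matrix.mulVec_mulVec, ← Matrix.mulVec_mulVec, htinv _ hv2, mulVec_inv_mulVec, htv, hv1,
        zero_smul, add_zero]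
    have hfr : n ≤ Module.finrank F (fixS c) + 2 := by
      have := Submodule.finrank_mono hle
      omega
    by_cases hcen : ∀ w ∈ N, c * w = w * c
    · obtain ⟨κ, hκ⟩ := (mem_scalars_iff _).mp (mem_scalars_of_comm hpos habs hcen)
      have hne : fixS c ≠ ⊥ := by
        intro hb
        rw [hb, finrank_bot] at hfr
        omega
      obtain ⟨v, hv, hv0⟩ := Submodule.exists_mem_ne_zero_of_ne_bot hne
      rw [mem_fixS, hκ, Matrix.smul_mulVec, Matrix.one_mulVec] at hv
      have hκ1 : (κ : F) = 1 := by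
        have h2 : ((κ : F) - 1) • v = 0 := by rw [sub_smul, hv, one_smul, sub_self]
        rcases smul_eq_zero.mp h2 with h3 | h3
        · exact sub_eq_zero.mp h3
        · exact absurd h3 hv0
      apply Units.ext
      rw [hκ, hκ1, one_smul, Units.val_one]
    · push Not at hcen
      obtain ⟨w, hw, hcw⟩ := hcen
      have h1 : w * c * w⁻¹ * c⁻¹ ∈ scalars (Fin n) F :=
        hcomm (Subgroup.commutator_mem_commutator hw hc)
      obtain ⟨ζ, hζ⟩ := (mem_scalars_iff _).mp h1
      have hrel : (w : Matrix (Fin n) (Fin n) F) * c = (ζ : F) • ((c : Matrix (Fin n) (Fin n) F) * w) := by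
        have h2 : w * c = (w * c * w⁻¹ * c⁻¹) * (c * w) := by group
        rw [← Units.val_mul, h2, Units.val_mul, hζ, Matrix.smul_mul, Matrix.one_mul, Units.val_mul]
      have hζ1 : (ζ : F) ≠ 1 := by
        intro h1'
        apply hcw
        apply Units.ext
        rw [Units.val_mul, Units.val_mul, hrel, h1', one_smul]
      exfalso
      have hζ0 : (ζ : F) ≠ 0 := ζ.ne_zero
      -- the formula for `c`
      have hcv : ∀ v, (c : Matrix (Fin n) (Fin n) F) *ᵥ v = v
          - (φ ⬝ᵥ (((x⁻¹ : GL (Fin n) F) : Matrix (Fin n) (Fin n) F) *ᵥ v)) • ((x : Matrix (Fin n) (Fin n) F) *ᵥ u)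
          + (φ ⬝ᵥ v - (φ ⬝ᵥ (((x⁻¹ : GL (Fin n) F) : Matrix (Fin n) (Fin n) F) *ᵥ v)) *
              (φ ⬝ᵥ ((x : Matrix (Fin n) (Fin n) F) *ᵥ u))) • u := by
        intro v
        have htinv' : ∀ y, ((t⁻¹ : GL (Fin n) F) : Matrix (Fin n) (Fin n) F) *ᵥ y = y - (φ ⬝ᵥ y) • u := by
          intro y
          apply mulVec_injective t
          show (t : Matrix (Fin n) (Fin n) F) *ᵥ (((t⁻¹ : GL (Fin n) F) : Matrix (Fin n) (Fin n) F) *ᵥ y) =
            (t : Matrix (Fin n) (Fin n) F) *ᵥ (y - (φ ⬝ᵥ y) • u)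
          rw [mulVec_inv_mulVec, htv, dotProduct_sub, dotProduct_smul, hφu, smul_zero, sub_zero]
          abel
        rw [hcdef, Units.val_mul, Units.val_mul, Units.val_mul, ← Matrix.mulVec_mulVec,
          ← Matrix.mulVec_mulVec, ← Matrix.mulVec_mulVec, htinv', Matrix.mulVec_sub, mulVec_inv_mulVec,
          Matrix.mulVec_smul, htv, dotProduct_sub, dotProduct_smul, smul_eq_mul]
      set S : Submodule F (Fin n → F) := Submodule.span F {u, (x : Matrix (Fin n) (Fin n) F) *ᵥ u} with hS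
      have huS : u ∈ S := Submodule.subset_span (by simp)
      have hxuS : (x : Matrix (Fin n) (Fin n) F) *ᵥ u ∈ S := Submodule.subset_span (by simp)
      set E : Submodule F (Fin n → F) := (fixS c).map (Matrix.toLin' (w : Matrix (Fin n) (Fin n) F)) with hE
      have hinj : Function.Injective (Matrix.toLin' (w : Matrix (Fin n) (Fin n) F)) := by
        intro a b hab
        rw [Matrix.toLin'_apply, Matrix.toLin'_apply] at hab
        exact mulVec_injective w hab
      have hfrE : Module.finrank F E = Module.finrank F (fixS c) :=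
        (Submodule.equivMapOfInjective _ hinj (fixS c)).finrank_eq.symm
      -- `c` acts on `E` as `ζ⁻¹`
      have hcE : ∀ y ∈ E, (ζ : F) • ((c : Matrix (Fin n) (Fin n) F) *ᵥ y) = y := by
        rintro y ⟨v, hv, rfl⟩
        rw [SetLike.mem_coe, mem_fixS] at hv
        rw [Matrix.toLin'_apply, Matrix.mulVec_mulVec, ← Matrix.smul_mulVec, ← hrel,
          ← Matrix.mulVec_mulVec, hv]
      have hES : E ≤ S := by
        intro y hy
        have h1 := hcE y hy
        rw [hcv y, smul_add, smul_sub] at h1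
        have h2 : (1 - (ζ : F)) • y ∈ S := by
          have : (1 - (ζ : F)) • y = (ζ : F) • ((φ ⬝ᵥ y - (φ ⬝ᵥ (((x⁻¹ : GL (Fin n) F) : Matrix (Fin n) (Fin n) F) *ᵥ y)) *
              (φ ⬝ᵥ ((x : Matrix (Fin n) (Fin n) F) *ᵥ u))) • u) - (ζ : F) • ((φ ⬝ᵥ (((x⁻¹ : GL (Fin n) F) : Matrix (Fin n) (Fin n) F) *ᵥ y)) • ((x : Matrix (Fin n) (Fin n) F) *ᵥ u)) := by
            rw [sub_smul, one_smul]
            nth_rewrite 1 [← h1]
            abel
          rw [this]
          exact S.sub_mem (S.smul_mem _ (S.smul_mem _ huS)) (S.smul_mem _ (S.smul_mem _ hxuS))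
        have h3 : (1 - (ζ : F)) ≠ 0 := sub_ne_zero.mpr (Ne.symm hζ1)
        have := S.smul_mem (1 - (ζ : F))⁻¹ h2
        rwa [smul_smul, inv_mul_cancel₀ h3, one_smul] at this
      have hfrS : Module.finrank F S ≤ 2 := by
        classical
        have h5 := finrank_span_finset_le_card (R := F)
          ({u, (x : Matrix (Fin n) (Fin n) F) *ᵥ u} : Finset (Fin n → F))
        have h6 := Finset.card_le_two (a := u) (b := (x : Matrix (Fin n) (Fin n) F) *ᵥ u)
        have h7 : S = Submodule.span F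
            (({u, (x : Matrix (Fin n) (Fin n) F) *ᵥ u} : Finset (Fin n → F)) : Set (Fin n → F)) := by
          rw [hS]; congr 1; simp
        rw [h7]
        unfold Set.finrank at h5
        omega
      have hES' : E = S := Submodule.eq_of_le_of_finrank_le hES (by omega)
      have huE : u ∈ E := hES' ▸ huS
      have h6 := hcE u huE
      rw [hcv u, hφu] at h6
      set α := φ ⬝ᵥ (((x⁻¹ : GL (Fin n) F) : Matrix (Fin n) (Fin n) F) *ᵥ u) with hα
      by_cases hα0 : α = 0
      · rw [hα0] at h6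
        simp only [zero_smul, sub_zero, zero_mul, add_zero] at h6
        have h7 : ((ζ : F) - 1) • u = 0 := by rw [sub_smul, h6, one_smul, sub_self]
        rcases smul_eq_zero.mp h7 with h8 | h8
        · exact hζ1 (sub_eq_zero.mp h8)
        · exact hu0 h8
      · -- then `x u` is a multiple of `u`
        have h7 : (x : Matrix (Fin n) (Fin n) F) *ᵥ u ∈ Submodule.span F {u} := by
          rw [Submodule.mem_span_singleton]
          refine ⟨((ζ : F) * α)⁻¹ * ((ζ : F) - 1 + (ζ : F) * (0 - α * (φ ⬝ᵥ ((x : Matrix (Fin n) (Fin n) F) *ᵥ u)))), ?_⟩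
          have h12 : ((ζ : F) * α) • ((x : Matrix (Fin n) (Fin n) F) *ᵥ u) =
              ((ζ : F) - 1 + (ζ : F) * (0 - α * (φ ⬝ᵥ ((x : Matrix (Fin n) (Fin n) F) *ᵥ u)))) • u := by
            rw [smul_add, smul_sub, smul_smul, smul_smul] at h6
            rw [add_smul, sub_smul, one_smul]
            calc ((ζ : F) * α) • ((x : Matrix (Fin n) (Fin n) F) *ᵥ u)
                = (ζ : F) • u + ((ζ : F) * (0 - α * (φ ⬝ᵥ ((x : Matrix (Fin n) (Fin n) F) *ᵥ u)))) • u -
                  ((ζ : F) • u - ((ζ : F) * α) • ((x : Matrix (Fin n) (Fin n) F) *ᵥ u) +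
                    ((ζ : F) * (0 - α * (φ ⬝ᵥ ((x : Matrix (Fin n) (Fin n) F) *ᵥ u)))) • u) := by abel
              _ = (ζ : F) • u + ((ζ : F) * (0 - α * (φ ⬝ᵥ ((x : Matrix (Fin n) (Fin n) F) *ᵥ u)))) • u - u := by
                  rw [h6]
              _ = _ := by abel
          rw [mul_smul, ← h12, smul_smul, inv_mul_cancel₀ (mul_ne_zero hζ0 hα0), one_smul]
        have h8 : S ≤ Submodule.span F {u} := by
          rw [hS, Submodule.span_le]
          intro y hy
          rcases hy with rfl | hy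
          · exact Submodule.mem_span_singleton_self _
          · rw [Set.mem_singleton_iff] at hy
            rw [hy]; exact h7
        have h9 := Submodule.finrank_mono h8
        have h10 := finrank_span_singleton (K := F) hu0
        have h11 := Submodule.finrank_mono hES
        omega
  have hcen : ∀ x ∈ N, t * x = x * t := by
    intro x hx
    have := hcomm1 x hx
    calc t * x = (t * x * t⁻¹ * x⁻¹) * (x * t) := by group
      _ = x * t := by rw [this, one_mul]
  obtain ⟨κ, hκ⟩ := (mem_scalars_iff _).mp (mem_scalars_of_comm hpos habs hcen)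
  obtain ⟨v, hv0, hv1, _⟩ := exists_ker_two (by omega) (dotL φ) (dotL φ)
  rw [dotL_apply] at hv1
  have h1 := htv v
  rw [hκ, Matrix.smul_mulVec, Matrix.one_mulVec, hv1, zero_smul, add_zero] at h1
  have hκ1 : (κ : F) = 1 := by
    have h2 : ((κ : F) - 1) • v = 0 := by rw [sub_smul, h1, one_smul, sub_self]
    rcases smul_eq_zero.mp h2 with h3 | h3
    · exact sub_eq_zero.mp h3
    · exact absurd h3 hv0
  obtain ⟨v₁, hv₁⟩ := exists_dot_eq_one hφ0
  have h2 := htv v₁
  rw [hκ, hκ1, one_smul, Matrix.one_mulVec, hv₁, one_smul] at h2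
  exact hu0 (by simpa using h2)

variable {σ : F ≃+* F} {f : (Fin n → F) → (Fin n → F) → F}

/-- `notSU_c6` for `4 ≤ n` -/
theorem notSU_c6_ge_four [Finite F] (hf : IsUnitaryForm σ f) (hn : 4 ≤ n) {R : Subgroup (GL (Fin n) F)}
    (habs : ActsAbsolutelyIrreducibly (matrixSet R)) (hcomm : ⁅R, R⁆ ≤ scalars (Fin n) F) :
    ¬ Iso f ⊓ specialLinear (Fin n) F ≤ subgroupNormalizer R := by
  intro hle
  have h := herm_of_unitary hf
  obtain ⟨u, hu0, hu⟩ := Cfsg.Agent.Lib.Helper15UPc6.exists_singular hf (by omega)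
  obtain ⟨a, ha0, ha⟩ := h.exists_z
  exact tv_not_mem_normalizer4 hn habs hcomm u (uφ f u a) _ hu0
    (uφ_ne_zero hf hu0 ha0) (hle (utv_mem hf u a hu ha))

/-- [pc6four] -/
theorem notSU_c6_four [Finite F] {f : (Fin 4 → F) → (Fin 4 → F) → F} (hf : IsUnitaryForm σ f)
    {R : Subgroup (GL (Fin 4) F)}
    (habs : ActsAbsolutelyIrreducibly (matrixSet R)) (hcomm : ⁅R, R⁆ ≤ scalars (Fin 4) F) :
    ¬ Iso f ⊓ specialLinear (Fin 4) F ≤ subgroupNormalizer R :=
  notSU_c6_ge_four hf le_rfl habs hcomm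

end Cfsg.Agent.Lib.Helper13UPc6Four
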