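import Cfsg.Agent.Lib.Helper14BG16
import Cfsg.Agent.Lib.Helper52BG14
import Cfsg.Agent.Lib.Helper2KWa
import Cfsg.Agent.S1412
import Cfsg.Agent.Lib.H14BG157existsx
import Cfsg.Agent.Lib.H14BG157existsN
import Cfsg.Agent.Lib.H14BG157inter
import Cfsg.Agent.Lib.H14BG157nilsyl
import Cfsg.Agent.Lib.H14BG157nonab
import Cfsg.Agent.Lib.H14BG157cyc
import Cfsg.Agent.Lib.H14BG157cores
import Cfsg.Agent.Lib.H14BG157sylG
import Cfsg.Agent.Lib.H14BG157center
import Cfsg.Agent.Lib.H14BG157faith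
import Cfsg.Agent.Lib.H14BG157rank3
import Cfsg.Agent.Lib.H14BG157cube
import Cfsg.Agent.Lib.H14BG157zcent
import Cfsg.Agent.Lib.H14BG157pcD

/-!
PROJECT 157 (helper14): B-G 15.7 for `K ≠ 1`, `U = 1` (row S1383): assembly of the pieces.
-/

set_option autoImplicit false
set_option linter.unusedSectionVars false
set_option linter.unusedVariables false
open Cfsg

namespace Cfsg.Agent.Lib.Helper14BG157

open Subgroup
open Cfsg.Agent.Lib Cfsg.Agent.Lib.Helper30Trans Cfsg.Agent.Lib.Helper24BG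
open Cfsg.Agent.Lib.Helper51BG16 Cfsg.Agent.Lib.Helper14BG16

universe u
variable {G : Type u} [Group G] [Finite G]

theorem eq_zpowers_of_card {H : Subgroup G} {p : ℕ} {z : G} (hz : orderOf z = p) (hzH : z ∈ H)
    (hH : Nat.card H = p) : H = zpowers z := by
  symm
  apply Subgroup.eq_of_le_of_card_ge (zpowers_le.mpr hzH)
  rw [Nat.card_zpowers, hz, hH]

theorem typeV_alt (hG : IsMinSimpleOddOrder G) {M K : Subgroup G} (hM : IsCoatom M)
    (hKU : IsSigmaDecomposition M K ⊥) (hK1 : K ≠ ⊥) (hH : fittingHallOf M = sigmaCore M)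
    (hTI : ¬ IsTISubset (fittingHallOf M : Set G)) :
    (∃ p : ℕ, p.Prime ∧ p ∣ Nat.card (fittingHallOf M) ∧ Nat.card K ∣ p - 1 ∧
        IsCyclic (pPrimeCore p (fittingHallOf M))) ∨
      (∃ p : ℕ, p.Prime ∧ p ∣ Nat.card (fittingHallOf M) ∧
        Nat.card (pCore p (fittingHallOf M)) = p ^ 3 ∧
        Nat.card K ∣ p + 1 ∧ IsCyclic (pPrimeCore p (fittingHallOf M))) := by
  obtain ⟨g, x, p, hg, hp, hxp, hx, hxg⟩ := H14BG157existsx.exists_x hH hTI
  haveI : Fact p.Prime := ⟨hp⟩
  have hx1 : x ≠ 1 := by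
    rintro rfl
    rw [orderOf_one] at hxp
    exact hp.one_lt.ne hxp
  obtain ⟨N, hN, hNM, hxN, hc⟩ := H14BG157existsN.exists_N hG hM hg hx hx1 hxg
  have hnil : Group.IsNilpotent (sigmaCore M) := hH ▸ fittingHallOf_nilpotent M
  have hxpg : IsPGroup p (zpowers x) :=
    IsPGroup.of_card (n := 1) (by rw [Nat.card_zpowers, hxp, pow_one])
  obtain ⟨P, hP, hxP'⟩ := exists_isSyl_ge (B := zpowers x) (X := sigmaCore M)
    (zpowers_le.mpr hx) hxpg
  have hxP : x ∈ P := hxP' (mem_zpowers x)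
  have hP1 : P ≠ ⊥ := by
    rintro rfl
    exact hx1 (mem_bot.mp hxP)
  obtain ⟨hPna, hKs⟩ := H14BG157nonab.nonab hG hM hKU hK1 hnil hxp hx hN hNM hxN hP
  obtain ⟨hPall, hPnorm⟩ := H14BG157nilsyl.nil_syl hnil hP
  have hKsP : sigmaCore M ⊓ centralizer (K : Set G) ≤ P :=
    hPall _ inf_le_left (IsPGroup.of_card (n := 1) (by rw [hKs, pow_one]))
  have hKN : K ≤ normalizer (P : Set G) :=
    (hKU.hall.1.trans (Helper2BGb.le_normalizer_sigmaCore M)).trans hPnorm
  have hcent : ∀ k ∈ K, k ≠ 1 →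
      P ⊓ centralizer ({k} : Set G) = sigmaCore M ⊓ centralizer (K : Set G) := by
    intro k hk hk1
    have h1 := (Helper52BG14.ptype_a hG hM hKU.hall hK1).1 k hk hk1
    apply le_antisymm
    · rw [← h1]
      exact inf_le_inf_right _ hP.1
    · refine le_inf hKsP ?_
      rw [← h1]
      exact inf_le_right
  have hCx : P ⊓ centralizer ({x} : Set G) ≤ M ⊓ N :=
    le_inf (inf_le_left.trans (hP.1.trans (Helper2BGb.sigmaCore_le M))) (inf_le_right.trans hxN)
  obtain ⟨hab, hrk⟩ := H14BG157inter.inter_props hG hN hc hCx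
  have hxab : IsMulCommutative ↥(P ⊓ centralizer ({x} : Set G)) :=
    hab (hP.2.1.to_le inf_le_left).isNilpotent
  -- the cores
  obtain ⟨hcore, C, hCle, hCp, ⟨e⟩⟩ := H14BG157cores.cores hnil hP
  have hCcyc : IsCyclic C := H14BG157cyc.cyc hG hM hnil hxp hx hN hNM hxN hc hP hPna hCle hCp
  have hcyc : IsCyclic (pPrimeCore p (sigmaCore M)) :=
    isCyclic_of_surjective e.symm e.symm.surjective
  obtain ⟨⟨z, hz, hzZ, hzall⟩, hmax⟩ :=
    H14BG157center.center_props hP.2.1 hPna hxP hxp hxab (hrk p hp)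
  have hp2 : p ≠ 2 := ne_two hG hP.2.1 hP1
  have hodd : Odd (Nat.card K) := odd_sub hG K
  have hpd : p ∣ Nat.card (sigmaCore M) := hxp ▸ Subgroup.orderOf_dvd_natCard _ hx
  have hKp : (Nat.card K).Coprime p := Nat.Coprime.coprime_dvd_right hpd (coprime_K_Ms hG hM hKU)
  rw [hH]
  by_cases hzKs : z ∈ sigmaCore M ⊓ centralizer (K : Set G)
  · by_cases hr : PRankLE p 2 ↥P
    · have hZ := H14BG157zcent.card_center hp2 hP.2.1 hKN hKp hK1 hKs hcent hz hzZ hzall hzKs
      have hPtop := H14BG157sylG.syl_top hG hM hP hP1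
      rcases Cfsg.Agent.S1412.result hG p hPtop.toSylowTop hr with h | hs
      · exact absurd h hPna
      · have hcube : Nat.card P = p ^ 3 := H14BG157cube.card_cube hZ hs
        have hKsZ : sigmaCore M ⊓ centralizer (K : Set G) = P ⊓ centralizer (P : Set G) := by
          rw [eq_zpowers_of_card hz hzKs hKs, eq_zpowers_of_card hz hzZ hZ]
        rcases H14BG157pcD.pure_cube hp2 hcube hPna hKN hKU.cyclic hodd hKp
          (fun k hk hk1 => (hcent k hk hk1).trans hKsZ) with h | h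
        · exact Or.inl ⟨p, hp, hpd, h, hcyc⟩
        · exact Or.inr ⟨p, hp, hpd, hcore.trans hcube, h, hcyc⟩
    · refine Or.inl ⟨p, hp, hpd, ?_, hcyc⟩
      refine H14BG157rank3.rank3 hp2 hP.2.1 hKN hKU.cyclic hKp ?_ hr hmax
      intro k hk hPk
      by_contra hk1
      have h1 := hcent k hk hk1
      rw [inf_eq_left.mpr hPk] at h1
      apply hPna
      have h2 : Nat.card P = p := by rw [h1]; exact hKs
      have h3 : IsCyclic P := isCyclic_of_prime_card h2
      exact h3.isMulCommutative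
  · refine Or.inl ⟨p, hp, hpd, ?_, hcyc⟩
    refine H14BG157faith.dvd_of_faithful hz ?_ ?_
    · intro k hk
      apply Helper2KWa.mem_normalizer_of_forall
      have hkz : k * z * k⁻¹ ∈ zpowers z := by
        apply hzall
        · have hkP := hKN hk
          refine mem_inf.mpr ⟨(mem_normalizer_iff.mp hkP z).mp hzZ.1, ?_⟩
          rw [mem_centralizer_iff]
          intro y hy
          have hy' : k⁻¹ * y * k ∈ P := by
            have := (mem_normalizer_iff.mp (inv_mem hkP) y).mp hy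
            simpa using this
          have h4 := mem_centralizer_iff.mp hzZ.2 _ hy'
          calc y * (k * z * k⁻¹) = k * ((k⁻¹ * y * k) * z) * k⁻¹ := by group
            _ = k * (z * (k⁻¹ * y * k)) * k⁻¹ := by rw [h4]
            _ = k * z * k⁻¹ * y := by group
        · rw [conj_pow, ← hz, pow_orderOf_eq_one]
          group
      intro y hy
      obtain ⟨n, rfl⟩ := mem_zpowers_iff.mp hy
      rw [← conj_zpow]
      exact zpow_mem hkz n
    · intro k hk hkz
      by_contra hk1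
      apply hzKs
      rw [← hcent k hk hk1]
      refine mem_inf.mpr ⟨hzZ.1, ?_⟩
      rw [mem_centralizer_iff]
      intro y hy
      rw [Set.mem_singleton_iff] at hy
      rw [hy]
      exact hkz

end Cfsg.Agent.Lib.Helper14BG157
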