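import Cfsg.Agent.Lib.Helper14Transport
import Cfsg.Agent.Lib.Helper14ZJ
import Cfsg.Agent.Lib.Helper40Sylow

set_option autoImplicit false
open Cfsg

namespace Cfsg.Agent.Lib.Helper14WBasic

open Cfsg.Agent.Lib.Helper14Family Cfsg.Agent.Lib.Helper14FamProps Cfsg.Agent.Lib.Helper14Transport

variable {G : Type*} [Group G]

theorem center_le_sInf_famA [Finite G] (R : Subgroup G) :
    R ⊓ Subgroup.centralizer (R : Set G) ≤ sInf (famA R) := by
  apply le_sInf
  intro A hA x hx
  have hxA : x ∈ Subgroup.centralizer (A : Set G) := Subgroup.centralizer_le hA.1 hx.2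
  have h1 := hA.2.2 (A ⊔ Subgroup.zpowers x) (sup_le hA.1 (by rw [Subgroup.zpowers_le]; exact hx.1))
    (comm_sup_zpowers A hA.2.1 x hxA)
  have h2 : A = A ⊔ Subgroup.zpowers x := Subgroup.eq_of_le_of_card_ge le_sup_left h1
  rw [h2]
  exact (le_sup_right : Subgroup.zpowers x ≤ A ⊔ Subgroup.zpowers x) (Subgroup.mem_zpowers x)

theorem inf_centralizer_ne_bot [Finite G] {p : ℕ} [Fact p.Prime] {R : Subgroup G}
    (hR : IsPGroup p R) (hne : R ≠ ⊥) : R ⊓ Subgroup.centralizer (R : Set G) ≠ ⊥ := by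
  have : Nontrivial R := (Subgroup.nontrivial_iff_ne_bot R).mpr hne
  have h1 : Nontrivial (Subgroup.center R) := hR.center_nontrivial
  obtain ⟨⟨z, hz⟩, hz1⟩ := exists_ne (1 : Subgroup.center R)
  intro hbot
  apply hz1
  have h2 : (z : G) ∈ R ⊓ Subgroup.centralizer (R : Set G) := by
    refine ⟨z.2, ?_⟩
    intro y hy
    have := (Subgroup.mem_center_iff.mp hz) ⟨y, hy⟩
    exact congrArg Subtype.val this
  rw [hbot, Subgroup.mem_bot] at h2
  apply Subtype.ext
  apply Subtype.ext
  exact h2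

theorem centerThompsonAOf_ne_bot [Finite G] {p : ℕ} [Fact p.Prime] {R : Subgroup G}
    (hR : IsPGroup p R) (hne : R ≠ ⊥) : centerThompsonAOf R ≠ ⊥ := by
  intro h
  apply inf_centralizer_ne_bot hR hne
  rw [eq_bot_iff, ← h, centerThompsonAOf_eq]
  exact center_le_sInf_famA R

theorem centerThompsonAOf_le [Finite G] (R : Subgroup G) : centerThompsonAOf R ≤ R := by
  rw [centerThompsonAOf_eq]
  obtain ⟨A, hA⟩ := famA_F4 R
  exact (sInf_le hA).trans hA.1

theorem normalizer_le_normalizer_centerThompsonAOf [Finite G] (R : Subgroup G) :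
    Subgroup.normalizer (R : Set G) ≤ Subgroup.normalizer (centerThompsonAOf R : Set G) := by
  rw [centerThompsonAOf_eq]
  exact Cfsg.Agent.Lib.Helper14ZJ.norm_le_norm_Z famA famA_F2 R

/-- a normal subgroup of `↥H` gives a subgroup of `G` normalized by `H` -/
theorem le_normalizer_map_subtype {H : Subgroup G} (Z : Subgroup H) [hZ : Z.Normal] :
    H ≤ Subgroup.normalizer ((Z.map H.subtype : Subgroup G) : Set G) := by
  rw [Subgroup.le_normalizer_iff]
  rintro h hh _ ⟨z, hz, rfl⟩
  exact ⟨⟨h, hh⟩ * z * ⟨h, hh⟩⁻¹, hZ.conj_mem z hz _, rfl⟩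

theorem centerThompsonAOf_subtype [Finite G] {H : Subgroup G} (T : Subgroup H) :
    centerThompsonAOf (T.map H.subtype) = (centerThompsonAOf T).map H.subtype :=
  centerThompsonAOf_map H.subtype (H.subtype_injective.injOn)

end Cfsg.Agent.Lib.Helper14WBasic
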