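import Cfsg.Agent.Lib.Helper14NPS
import Cfsg.Agent.Lib.Helper14PConstr
import Cfsg.Agent.Lib.Helper14WBasic
import Cfsg.Agent.S3079

set_option autoImplicit false
open Cfsg

namespace Cfsg.Agent.Lib.Helper14LocalZJ

open Cfsg.Agent.Lib.Helper14NPS Cfsg.Agent.Lib.Helper40Sylow Cfsg.Agent.Lib.Helper14Transport
  Cfsg.Agent.Lib.Helper14CoreB Cfsg.Agent.Lib.Helper14PConstr Cfsg.Agent.Lib.Helper14WBasic
  Cfsg.Agent.Lib.Helper14Family

variable {G : Type*} [Group G]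

theorem stronglyClosed_subgroup {D P : Subgroup G} (hD : IsStronglyClosed D P) (H : Subgroup G) :
    IsStronglyClosed ((P ⊓ H ⊓ D).subgroupOf H) ((P ⊓ H).subgroupOf H) := by
  refine ⟨Subgroup.comap_mono inf_le_left, ?_⟩
  intro x hx g hg
  rw [Subgroup.mem_subgroupOf] at hx hg ⊢
  refine ⟨hg, ?_⟩
  exact hD.2 x hx.2 g hg.1

theorem stronglyClosed_map {K L : Type*} [Group K] [Group L] [Finite K] [Finite L] {p : ℕ}
    [Fact p.Prime] (f : K →* L) (hf : Function.Surjective f) (hker : (Nat.card f.ker).Coprime p)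
    {D R : Subgroup K} (hR : IsPGroup p R) (hD : IsStronglyClosed D R) :
    IsStronglyClosed (D.map f) (R.map f) := by
  refine ⟨Subgroup.map_mono hD.1, ?_⟩
  rintro _ ⟨x, hx, rfl⟩ g' hg'
  obtain ⟨g, rfl⟩ := hf g'
  obtain ⟨r, hr, hrg⟩ := hg'
  set y := g * x * g⁻¹ with hy
  have hfy : f y = f g * f x * (f g)⁻¹ := by rw [hy]; simp
  have hyM : y ∈ R ⊔ f.ker := by
    have h2 : r⁻¹ * y ∈ f.ker := by
      rw [MonoidHom.mem_ker, map_mul, map_inv, hrg, hfy]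
      group
    have h3 : y = r * (r⁻¹ * y) := by group
    rw [h3]
    exact mul_mem ((le_sup_left : R ≤ R ⊔ f.ker) hr) ((le_sup_right : f.ker ≤ R ⊔ f.ker) h2)
  have hyp : IsPGroup p (Subgroup.zpowers y) := by
    have h1 : Subgroup.zpowers y = cj g (Subgroup.zpowers x) := by
      rw [cj, MonoidHom.map_zpowers]
      rfl
    rw [h1]
    exact isPGroup_cj (hR.to_le (by rw [Subgroup.zpowers_le]; exact hD.1 hx)) g
  obtain ⟨m, hm, hmR⟩ := (isSylowIn_sup_ker f hker hR).exists_conj_le hyp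
    (by rw [Subgroup.zpowers_le]; exact hyM)
  rw [Subgroup.mem_sup_of_normal_right] at hm
  obtain ⟨r₁, hr₁, x₁, hx₁, rfl⟩ := hm
  have h1 : (r₁ * x₁) * y * (r₁ * x₁)⁻¹ ∈ R := hmR (conj_mem_cj (Subgroup.mem_zpowers y))
  have h2 : x₁ * y * x₁⁻¹ ∈ R := by
    have := mul_mem (mul_mem (inv_mem hr₁) h1) hr₁
    have e : r₁⁻¹ * ((r₁ * x₁) * y * (r₁ * x₁)⁻¹) * r₁ = x₁ * y * x₁⁻¹ := by group
    rwa [e] at this
  have h3 : (x₁ * g) * x * (x₁ * g)⁻¹ ∈ D := by
    apply hD.2 x hx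
    have e : (x₁ * g) * x * (x₁ * g)⁻¹ = x₁ * y * x₁⁻¹ := by rw [hy]; group
    rw [e]; exact h2
  refine ⟨_, h3, ?_⟩
  have hx₁' : f x₁ = 1 := MonoidHom.mem_ker.mp hx₁
  simp [hx₁']

/-- Frattini-type factorization for a `p`-subgroup whose image modulo `O_{p'}` is normal -/
theorem factor_core {K : Type*} [Group K] [Finite K] {p : ℕ} [Fact p.Prime] {T : Subgroup K}
    (hT : IsPGroup p T) (hN : (T.map (QuotientGroup.mk' (pPrimeCore p K))).Normal) (k : K) :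
    ∃ x ∈ pPrimeCore p K, x * k ∈ Subgroup.normalizer (T : Set K) := by
  have hker : (Nat.card (QuotientGroup.mk' (pPrimeCore p K)).ker).Coprime p := by
    rw [QuotientGroup.ker_mk']
    exact card_pPrimeCore_coprime p
  obtain ⟨x, hx, h⟩ := exists_mul_mem_normalizer (QuotientGroup.mk' (pPrimeCore p K)) hker hT k
    (by rw [Subgroup.normalizer_eq_top]; trivial)
  rw [QuotientGroup.ker_mk'] at hx
  exact ⟨x, hx, h⟩

theorem local_factor [Finite G] {p : ℕ} [Fact p.Prime] (hp : p ≠ 2) (P : Sylow p G)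
    (D : Subgroup G) (hD : IsStronglyClosed D (P : Subgroup G)) (hst : IsNormalizerPStable p G)
    (H : Subgroup G) (hH : IsPConstrained p ↥H) (hR : IsSylowIn p ((P : Subgroup G) ⊓ H) H)
    (h : G) (hh : h ∈ H) :
    (∃ x ∈ (pPrimeCore p ↥H).map H.subtype, ∃ n ∈ H,
      n ∈ Subgroup.normalizer (centerThompsonAOf ((P : Subgroup G) ⊓ H ⊓ D) : Set G) ∧ h = x * n) ∧
    (∃ x ∈ (pPrimeCore p ↥H).map H.subtype, ∃ n ∈ H,
      n ∈ Subgroup.normalizer (omegaOne p (centerThompsonOf p ((P : Subgroup G) ⊓ H ⊓ D)) : Set G) ∧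
        h = x * n) := by
  set X := pPrimeCore p ↥H with hX
  set f := QuotientGroup.mk' X with hf
  have hfs : Function.Surjective f := QuotientGroup.mk'_surjective X
  have hker : (Nat.card f.ker).Coprime p := by
    rw [hf, QuotientGroup.ker_mk']
    exact card_pPrimeCore_coprime p
  set D' := ((P : Subgroup G) ⊓ H ⊓ D).subgroupOf H with hD'
  have hD'map : D'.map H.subtype = (P : Subgroup G) ⊓ H ⊓ D :=
    map_subgroupOf (inf_le_left.trans inf_le_right)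
  have hsc1 := stronglyClosed_subgroup hD H
  have hRp : IsPGroup p (((P : Subgroup G) ⊓ H).subgroupOf H) := hR.toSylow.2
  have hD'p : IsPGroup p D' := hRp.to_le hsc1.1
  have hsc2 := stronglyClosed_map f hfs hker hRp hsc1
  have hnps : IsNormalizerPStable p (↥H ⧸ X) :=
    nps_iff.mpr (nps_quotient f hfs hker (nps_subgroup (nps_iff.mp hst) H))
  have hZ := Cfsg.Agent.S3079.result hp (hR.toSylow.mapSurjective hfs) (D'.map f) hsc2 hnps
    (isPConstrained_iff.mp hH)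
  have hinj := injOn_of_coprime f hker hD'p
  constructor
  · have h1 := hZ.1
    rw [centerThompsonAOf_map f hinj] at h1
    obtain ⟨x, hx, hn⟩ := factor_core (hD'p.to_le (centerThompsonAOf_le D')) h1 ⟨h, hh⟩
    refine ⟨(x⁻¹ : ↥H), ⟨x⁻¹, inv_mem hx, rfl⟩, (x * ⟨h, hh⟩ : ↥H), (x * ⟨h, hh⟩ : ↥H).2, ?_, ?_⟩
    · rw [← hD'map, centerThompsonAOf_subtype]
      exact map_normalizer_le H.subtype _ ⟨_, hn, rfl⟩
    · simp
  · have h1 := hZ.2
    rw [Cfsg.Agent.S3079.omegaOne_centerThompsonOf_eq, sInf_famE_map f hinj] at h1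
    have hle : sInf (famE p D') ≤ D' := by
      obtain ⟨A, hA⟩ := Cfsg.Agent.Lib.Helper14FamProps.famE_F4 p D'
      exact (sInf_le hA).trans hA.1
    obtain ⟨x, hx, hn⟩ := factor_core (hD'p.to_le hle) h1 ⟨h, hh⟩
    refine ⟨(x⁻¹ : ↥H), ⟨x⁻¹, inv_mem hx, rfl⟩, (x * ⟨h, hh⟩ : ↥H), (x * ⟨h, hh⟩ : ↥H).2, ?_, ?_⟩
    · rw [Cfsg.Agent.S3079.omegaOne_centerThompsonOf_eq, ← hD'map,
        sInf_famE_map H.subtype H.subtype_injective.injOn]
      exact map_normalizer_le H.subtype _ ⟨_, hn, rfl⟩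
    · simp

end Cfsg.Agent.Lib.Helper14LocalZJ
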