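import Mathlib
import Cfsg.Agent.Lib.Helper14NPSQuot
import Cfsg.Agent.Lib.Helper39Rel

set_option autoImplicit false
set_option linter.unusedSectionVars false
set_option linter.style.haveILetI false

/-! In a `p`-stable group (`p` odd) a normal `p`-subgroup `Q` which is not self-centralizing in a Sylow subgroup `S`
lies properly in a strongly closed subgroup `T ≤ S ∩ Q C(Q)` with `T / Q` abelian. -/

namespace Cfsg.Agent.Lib.Helper14NPSConstr

open Subgroup Cfsg
open scoped commutatorElement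
open Cfsg.Agent.Lib.Helper14NPS Cfsg.Agent.Lib.Helper14NPSQuot Cfsg.Agent.Lib.Helper39Sylow
  Cfsg.Agent.Lib.Helper39Control Cfsg.Agent.Lib.Helper39Section Cfsg.Agent.Lib.Helper39Rel
  Cfsg.Agent.Lib.Helper24Thompson Cfsg.Agent.Lib.Helper24Functor

universe u

variable {p : ℕ} [Fact p.Prime]

/-- stability passes to homomorphic images whose kernel is a `p`-group centralized by all `p'`-elements -/
theorem stable_map {X X' : Type u} [Group X] [Group X'] [Finite X] (hp : p ≠ 2) (f : X →* X')
    (hf : Function.Surjective f) (hst : IsNormalizerPStable p X) (hk : IsPGroup p f.ker)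
    (hcen : ∀ x : X, (orderOf x).Coprime p → x ∈ centralizer (f.ker : Set X)) :
    IsNormalizerPStable p X' := by
  haveI : Finite X' := Finite.of_surjective f hf
  have h1 := stable_quotient hp hst f.ker hk hcen
  let e := QuotientGroup.quotientKerEquivOfSurjective f hf
  apply nps_iff.mpr
  apply nps_quotient e.toMonoidHom e.surjective _ (nps_iff.mp h1)
  have : e.toMonoidHom.ker = ⊥ := (MonoidHom.ker_eq_bot_iff _).2 e.injective
  rw [this, Subgroup.card_bot]
  exact Nat.coprime_one_left p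

theorem mem_of_map_mk {X : Type*} [Group X] (Q : Subgroup X) [Q.Normal] {K : Subgroup X} (hQK : Q ≤ K)
    {t : X} (h : QuotientGroup.mk' Q t ∈ K.map (QuotientGroup.mk' Q)) : t ∈ K := by
  obtain ⟨k, hk, e⟩ := h
  have h1 : k⁻¹ * t ∈ Q := by
    rw [← QuotientGroup.eq_one_iff]
    show QuotientGroup.mk' Q (k⁻¹ * t) = 1
    rw [map_mul, map_inv, e, inv_mul_cancel]
  have : t = k * (k⁻¹ * t) := by group
  rw [this]
  exact K.mul_mem hk (hQK h1)

theorem exists_bigger {X : Type u} [Group X] [Finite X] (hp : p ≠ 2) (hst : IsNormalizerPStable p X)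
    {S : Subgroup X} (hS : IsSyl p S ⊤) (Q : Subgroup X) [hQn : Q.Normal] (hQ : IsPGroup p Q)
    (hnc : ¬ S ⊓ centralizer (Q : Set X) ≤ Q) :
    ∃ T : Subgroup X, Q ≤ T ∧ ¬ T ≤ Q ∧ T ≤ S ∧ T ≤ Q ⊔ centralizer (Q : Set X) ∧ ⁅T, T⁆ ≤ Q ∧
      ∀ t ∈ T, ∀ x : X, x * t * x⁻¹ ∈ S → x * t * x⁻¹ ∈ T := by
  have hW := isChar_fZJA.{u} p
  set C := centralizer (Q : Set X) with hC
  have hCn : C.Normal := inferInstance
  set H := Q ⊔ C with hH
  have hHn : H.Normal := inferInstance
  have hQS : Q ≤ S := hS.normal_le le_top hQ (top_le_normalizer hQn)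
  have hQH : Q ≤ H := le_sup_left
  set π := QuotientGroup.mk' Q with hπ
  have hπs : Function.Surjective π := QuotientGroup.mk'_surjective Q
  set S' := S.map π with hS'
  have hS'syl : IsSyl p S' ⊤ := isSyl_map_surjective hS π hπs
  set H' := H.map π with hH'
  have hH'n : H'.Normal := hHn.map π hπs
  set R := S' ⊓ H' with hR
  have hRsyl : IsSyl p R H' := isSyl_inf_of_normal hS'syl le_top (top_le_normalizer hH'n)
  -- stability of `H'`
  have hstH : IsNormalizerPStable p ↥H := nps_iff.mpr (nps_subgroup (nps_iff.mp hst) H)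
  have hstH' : IsNormalizerPStable p ↥H' := by
    apply stable_map hp (π.subgroupMap H) (π.subgroupMap_surjective H) hstH
    · have hle : (π.subgroupMap H).ker ≤ Q.subgroupOf H := by
        intro h hh
        rw [MonoidHom.mem_ker] at hh
        have h1 : π (h : X) = 1 := congrArg Subtype.val hh
        rw [Subgroup.mem_subgroupOf]
        exact (QuotientGroup.eq_one_iff _).1 h1
      exact (hQ.comap_of_injective H.subtype H.subtype_injective).to_le hle
    · intro z hz
      have hCHn : (C.subgroupOf H).Normal := inferInstance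
      have htop : C.subgroupOf H ⊔ Q.subgroupOf H = ⊤ := by
        rw [← Subgroup.subgroupOf_sup le_sup_right le_sup_left, sup_comm]
        exact Subgroup.subgroupOf_self _
      have hzC : z ∈ C.subgroupOf H := mem_of_coprime_of_sup_eq_top hCHn
        (hQ.comap_of_injective H.subtype H.subtype_injective) htop hz
      intro k hk
      rw [SetLike.mem_coe, MonoidHom.mem_ker] at hk
      have h1 : π (k : X) = 1 := congrArg Subtype.val hk
      have hkQ : (k : X) ∈ Q := (QuotientGroup.eq_one_iff _).1 h1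
      apply Subtype.ext
      exact (Subgroup.mem_subgroupOf.1 hzC) k hkQ
  have hcsf : CSF (inducedFunctor fZJA) H' R :=
    csf_sub hW hRsyl.1 hRsyl.2.1
      (csf_of_stable hp (Nat.card ↥H') ↥H' rfl hstH' _ (isSyl_subgroupOf hRsyl))
  rw [csf_iff_set] at hcsf
  set U := inducedFunctor fZJA R with hU
  have hUR : U ≤ R := ind_le R
  have hR1 : R ≠ ⊥ := by
    intro hbot
    apply hnc
    intro d hd
    have h1 : π d ∈ R := ⟨mem_map_of_mem _ hd.1, mem_map_of_mem _ ((le_sup_right : C ≤ H) hd.2)⟩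
    rw [hbot, Subgroup.mem_bot] at h1
    exact (QuotientGroup.eq_one_iff _).1 h1
  have hU1 : U ≠ ⊥ := ind_ne_bot hW R hRsyl.2.1 hR1
  refine ⟨U.comap π, ?_, ?_, ?_, ?_, ?_, ?_⟩
  · intro q hq
    rw [Subgroup.mem_comap]
    have : π q = 1 := (QuotientGroup.eq_one_iff q).2 hq
    rw [this]
    exact one_mem _
  · intro hle
    apply hU1
    rw [eq_bot_iff]
    intro u hu
    obtain ⟨t, rfl⟩ := hπs u
    rw [Subgroup.mem_bot]
    exact (QuotientGroup.eq_one_iff t).2 (hle hu)
  · intro t ht
    exact mem_of_map_mk Q hQS (hUR ht).1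
  · intro t ht
    exact mem_of_map_mk Q hQH (hUR ht).2
  · rw [Subgroup.commutator_le]
    intro a ha b hb
    rw [← QuotientGroup.eq_one_iff]
    show π ⁅a, b⁆ = 1
    rw [map_commutatorElement, commutatorElement_eq_one_iff_mul_comm]
    have ha' : π a ∈ U := ha
    have hb' : π b ∈ U := hb
    rw [hU, ind_fZJA] at ha' hb'
    exact hb'.2 (π a) ha'.1
  · intro t ht x hx
    have htU : π t ∈ U := ht
    have hA : zpowers (π t) ≤ S' := by
      rw [Subgroup.zpowers_le]; exact (hUR htU).1
    have hhA : cj (π x) (zpowers (π t)) ≤ S' := by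
      rw [cj, MonoidHom.map_zpowers, Subgroup.zpowers_le]
      show π x * π t * (π x)⁻¹ ∈ S'
      rw [← map_inv, ← map_mul, ← map_mul]
      exact mem_map_of_mem _ hx
    obtain ⟨e, he, n, hn, hxe, -⟩ := exists_factor hS'syl hH'n hA hhA
    have hnU : n ∈ normalizer (U : Set (X ⧸ Q)) :=
      normalizer_le_normalizer_ind hW R hRsyl.2.1 hn
    have h1 : n * π t * n⁻¹ ∈ U := (Subgroup.mem_normalizer_iff.1 hnU _).1 htU
    have h2 : e * (n * π t * n⁻¹) * e⁻¹ = π (x * t * x⁻¹) := by
      rw [map_mul, map_mul, map_inv, hxe]; group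
    have h3 : e * (n * π t * n⁻¹) * e⁻¹ ∈ R := by
      refine ⟨?_, hH'n.conj_mem _ (hUR h1).2 e⟩
      rw [h2]; exact mem_map_of_mem _ hx
    obtain ⟨y, hy, hya⟩ := hcsf {n * π t * n⁻¹} e he (by
      rintro _ rfl; exact hUR h1) (by
      rintro _ ⟨_, rfl, rfl⟩; exact h3)
    have h4 := hya _ rfl
    show π (x * t * x⁻¹) ∈ U
    rw [← h2, ← h4]
    exact (Subgroup.mem_normalizer_iff.1 hy.2 _).1 h1

end Cfsg.Agent.Lib.Helper14NPSConstr
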