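import Mathlib
import Cfsg.Agent.Lib.Helper51Qd
import Cfsg.Agent.Lib.Helper46SL2
import Cfsg.Agent.Lib.Helper14NPS
import Cfsg.Agent.Lib.Helper14Quad

set_option autoImplicit false
set_option linter.unusedSimpArgs false

/-! `Qd(p)` is not `p`-stable. -/

namespace Cfsg.Agent.Lib.Helper14QdNot

open Subgroup Cfsg Cfsg.Agent.Lib.Helper51Qd Cfsg.Agent.Lib.Helper46SL2 Cfsg.Agent.Lib.Helper14NPS
  Cfsg.Agent.Lib.Helper14Quad
open scoped commutatorElement

variable {F : Type*} [Field F]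

local notation "SL2" => Matrix.SpecialLinearGroup (Fin 2)

theorem mk_inv (A : SL2 F) (b : Fin 2 → F) :
    (mk A b)⁻¹ = mk A⁻¹ (((A⁻¹ : SL2 F) : Matrix (Fin 2) (Fin 2) F).mulVec (-b)) := by
  rw [inv_eq_iff_mul_eq_one, mk_mul_mk, mul_inv_cancel, Matrix.mulVec_mulVec,
    ← Matrix.SpecialLinearGroup.coe_mul, mul_inv_cancel,
    Matrix.SpecialLinearGroup.coe_one, Matrix.one_mulVec, neg_add_cancel, mk_one_zero]

theorem blk_eq_one_of_centralizer {c : ↥(Cfsg.qdOver F)}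
    (hc : c ∈ centralizer (((blk : ↥(Cfsg.qdOver F) →* _).ker : Subgroup ↥(Cfsg.qdOver F)) :
      Set ↥(Cfsg.qdOver F))) : blk c = 1 := by
  rw [blk_apply]
  apply Matrix.SpecialLinearGroup.ext
  intro i j
  have h1 := hc (mk 1 (Pi.single j 1)) ((mem_ker_blk_iff' _).mpr ⟨_, rfl⟩)
  rw [← mk_blk_tr c, mk_mul_mk, mk_mul_mk] at h1
  have h2 := congrFun (mk_injective h1).2 i
  simp only [Matrix.SpecialLinearGroup.coe_one, Matrix.one_mulVec, Pi.add_apply,
    Matrix.mulVec_single, MulOpposite.op_one, one_smul, Matrix.col_apply] at h2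
  have h3 : (blkFun c : Matrix (Fin 2) (Fin 2) F) i j = (Pi.single j 1 : Fin 2 → F) i := by
    linear_combination -h2
  rw [h3]
  simp [Matrix.one_apply, Pi.single_apply]

theorem not_nps [Finite F] {p : ℕ} [Fact p.Prime] [CharP F p] : ¬ NPS p ↥(Cfsg.qdOver F) := by
  intro h
  set V : Subgroup ↥(Cfsg.qdOver F) := (blk : ↥(Cfsg.qdOver F) →* _).ker with hV
  have hVn : V.Normal := MonoidHom.normal_ker _
  set U : SL2 F := mk2 1 1 0 1 (by ring) with hU
  set g : ↥(Cfsg.qdOver F) := mk U 0 with hg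
  have hq : ⁅⁅V, zpowers g⁆, zpowers g⁆ = ⊥ := by
    rw [quad_iff]
    intro v hv
    obtain ⟨b, rfl⟩ := (mem_ker_blk_iff' v).mp hv
    have h1 : ⁅mk 1 b, g⁆ = mk 1 ![-(b 1), 0] := by
      rw [commutatorElement_def, hg, mk_inv, mk_inv, mk_mul_mk, mk_mul_mk, mk_mul_mk]
      congr 1
      · simp
      · ext i
        fin_cases i <;>
          simp [hU, Matrix.mulVec, dotProduct, Fin.sum_univ_two, Matrix.vecHead, Matrix.vecTail]
    rw [h1, hg, mk_mul_mk, mk_mul_mk]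
    congr 1
    · simp
    · ext i
      fin_cases i <;> simp [hU, Matrix.mulVec, dotProduct, Fin.sum_univ_two]
  have htop : normalizer (V : Set ↥(Cfsg.qdOver F)) = ⊤ := Subgroup.normalizer_eq_top V
  obtain ⟨D, -, hD2, hD3, hD4⟩ := h V ker_blk_isPGroup g (by rw [htop]; trivial) hq
  have hDn : D.Normal := by
    rw [← Subgroup.normalizer_eq_top_iff, eq_top_iff, ← htop]
    exact hD2
  have h1 : (D.map blk).Normal := hDn.map _ blk_surjective
  have h2 : IsPGroup p (D.map blk) := by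
    rintro ⟨_, ⟨d, hd, rfl⟩⟩
    obtain ⟨k, hk⟩ := hD4 d hd
    refine ⟨k, ?_⟩
    apply Subtype.ext
    simp only [Subgroup.coe_pow, Subgroup.coe_one]
    rw [← map_pow]
    exact blk_eq_one_of_centralizer hk
  have h3 := Cfsg.Agent.Lib.Helper51SL2.normal_pgroup_eq_bot _ h1 h2
  have h4 : blk g ∈ D.map blk := ⟨g, hD3, rfl⟩
  rw [h3, Subgroup.mem_bot, blk_apply, hg, blkFun_mk] at h4
  have h5 := congrArg (fun A : SL2 F => A 0 1) h4
  simp [hU] at h5

end Cfsg.Agent.Lib.Helper14QdNot
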