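import Mathlib
import Cfsg.Agent.Lib.Helper14QdStable
import Cfsg.Agent.Lib.Helper14QdNot
import Cfsg.Agent.Lib.Helper14WBasic
import Cfsg.Agent.Lib.Helper39SecFusion
import Cfsg.Agent.Lib.Helper39Control
import Cfsg.Agent.Lib.Helper39SecTransport
import Cfsg.Agent.Lib.Helper24Thompson
import Cfsg.Agent.Lib.Helper31PGroup
import Cfsg.Agent.S0653
import Cfsg.Agent.S2763

set_option autoImplicit false
set_option linter.style.haveILetI false

/-! `N(Z(J(S)))` controls strong fusion in `Qd(p)`-free groups, and not in `Qd(p)`. -/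

namespace Cfsg.Agent.Lib.Helper14QdFus

open Subgroup Cfsg
open Cfsg.Agent.Lib.Helper24Thompson Cfsg.Agent.Lib.Helper39Sylow Cfsg.Agent.Lib.Helper39Control
  Cfsg.Agent.Lib.Helper39SecFusion Cfsg.Agent.Lib.Helper24Section Cfsg.Agent.Lib.Helper14QdStable
  Cfsg.Agent.Lib.Helper39SecTransport Cfsg.Agent.Lib.Helper51Qd Cfsg.Agent.Lib.Helper14QdNot

universe u

variable {p : ℕ} [Fact p.Prime]

theorem csf_ZJA {G : Type u} [Group G] [Finite G] (hp : p ≠ 2)
    (hfree : ¬ Involves ↥(qd p) G) (S : Sylow p G) :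
    CSF (inducedFunctor fZJA) ⊤ (S : Subgroup G) := by
  apply csf_all (p := p) (W := fZJA) (isChar_fZJA p) (fun X _ => ¬ Involves ↥(qd p) X)
    (fun X _ _ Y h h' => h (Involves.trans h' (involves_subgroup Y)))
    (fun X _ _ N _ h h' => h (Involves.trans h' (involves_quotient N))) ?_ (Nat.card G) G rfl hfree
    S (isSyl_sylow S)
  intro X _ _ hX hcon T hT
  have := Cfsg.Agent.S0653.result hp hcon (fun P _ hP => stableOn hp hX P hP) (toSylowTop hT)
  rw [coe_toSylowTop, ← ind_fZJA] at this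
  infer_instance

theorem controls_ZJA {G : Type u} [Group G] [Finite G] (hp : p ≠ 2)
    (hfree : ¬ Involves ↥(qd p) G) (S : Sylow p G) :
    ControlsStrongFusion p (centerThompsonAOf (S : Subgroup G)) := by
  refine ⟨S, Cfsg.Agent.Lib.Helper14WBasic.centerThompsonAOf_le _, fun A hA => ⟨hA, fun g hg => ?_⟩⟩
  have h := csf_ZJA hp hfree S
  rw [csf_iff_set] at h
  obtain ⟨x, hx, hxa⟩ := h A g (mem_top _) hA hg
  rw [ind_fZJA] at hx
  exact ⟨x, hx.2, fun a ha => (hxa a ha).symm⟩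

theorem controls_map {X Q : Type*} [Group X] [Group Q] [Finite X] (e : X ≃* Q) (U : Subgroup X)
    (h : ControlsStrongFusion p U) : ControlsStrongFusion p (U.map e.toMonoidHom) := by
  obtain ⟨T, hU, hctl⟩ := h
  have hes : Function.Surjective e.toMonoidHom := e.surjective
  refine ⟨T.mapSurjective hes, ?_, ?_⟩
  · rw [Sylow.coe_mapSurjective]
    exact map_mono hU
  · intro A hA
    rw [Sylow.coe_mapSurjective] at hA ⊢
    refine ⟨hA, fun g hg => ?_⟩
    have hA' : e.symm '' A ⊆ (T : Subgroup X) := by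
      rintro _ ⟨a, ha, rfl⟩
      obtain ⟨t, ht, rfl⟩ := hA ha
      simpa using ht
    obtain ⟨-, h2⟩ := hctl (e.symm '' A) hA'
    obtain ⟨x, hx, hxa⟩ := h2 (e.symm g) (by
      rintro _ ⟨_, ⟨a, ha, rfl⟩, rfl⟩
      obtain ⟨t, ht, hte⟩ := hg ⟨a, ha, rfl⟩
      have : e.symm g * e.symm a * (e.symm g)⁻¹ = t := by
        apply e.injective
        simpa using hte.symm
      show e.symm g * e.symm a * (e.symm g)⁻¹ ∈ (T : Subgroup X)
      rw [this]
      exact ht)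
    refine ⟨e x, Cfsg.Agent.Lib.Helper14NPS.map_normalizer_le e.toMonoidHom U ⟨x, hx, rfl⟩, ?_⟩
    intro a ha
    have := congrArg e (hxa (e.symm a) ⟨a, ha, rfl⟩)
    simpa using this

theorem conj_mk (M : Matrix.SpecialLinearGroup (Fin 2) (ZMod p)) (b : Fin 2 → ZMod p) :
    (mk M 0 : ↥(qdOver (ZMod p))) * mk 1 b * (mk M 0)⁻¹ =
      mk 1 ((M : Matrix (Fin 2) (Fin 2) (ZMod p)).mulVec b) := by
  rw [mk_inv, mk_mul_mk, mk_mul_mk]
  congr 1
  · simp
  · simp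

/-- In `Qd(p)`, `Z(J(T))` does not control strong fusion. -/
theorem not_controls (T₀ : Sylow p ↥(qdOver (ZMod p))) :
    ¬ ControlsStrongFusion p (centerThompsonAOf (T₀ : Subgroup ↥(qdOver (ZMod p)))) := by
  rintro ⟨T', -, hctl⟩
  set V : Subgroup ↥(qdOver (ZMod p)) := (blk : ↥(qdOver (ZMod p)) →* _).ker with hV
  have hVn : V.Normal := MonoidHom.normal_ker _
  have hVp : IsPGroup p V := ker_blk_isPGroup
  have hVle : ∀ T : Sylow p ↥(qdOver (ZMod p)), V ≤ (T : Subgroup ↥(qdOver (ZMod p))) := fun T =>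
    hVp.le_sylow_of_normal T
  have hV1 : V ≠ ⊥ := by
    intro h
    have h1 : (mk 1 ![1, 0] : ↥(qdOver (ZMod p))) ∈ V := (mem_ker_blk_iff' _).mpr ⟨_, rfl⟩
    rw [h, mem_bot, ← mk_one_zero] at h1
    have h2 := congrFun (mk_injective h1).2 0
    simp at h2
  have hT1 : (T₀ : Subgroup ↥(qdOver (ZMod p))) ≠ ⊥ := fun h => hV1 (le_bot_iff.mp (h ▸ hVle T₀))
  haveI : Nontrivial ↥(T₀ : Subgroup ↥(qdOver (ZMod p))) := (nontrivial_iff_ne_bot _).mpr hT1
  have hW1 : fZJA ↥(T₀ : Subgroup ↥(qdOver (ZMod p))) ≠ ⊥ := (isChar_fZJA p).1 _ T₀.2 inferInstance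
  have hWc : (fZJA ↥(T₀ : Subgroup ↥(qdOver (ZMod p)))).Characteristic := by
    rw [characteristic_iff_map_eq]
    intro φ
    exact (isChar_fZJA p).2 _ _ T₀.2 φ
  have hS := Cfsg.Agent.S2763.result T₀ _ hW1 hWc
  have hN : normalizer (((fZJA ↥(T₀ : Subgroup ↥(qdOver (ZMod p)))).map
      (T₀ : Subgroup ↥(qdOver (ZMod p))).subtype : Subgroup ↥(qdOver (ZMod p))) :
        Set ↥(qdOver (ZMod p))) =
      normalizer ((T₀ : Subgroup ↥(qdOver (ZMod p))) : Set ↥(qdOver (ZMod p))) := hS.1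
  have hNtop : normalizer ((T₀ : Subgroup ↥(qdOver (ZMod p))) : Set ↥(qdOver (ZMod p))) ≠ ⊤ := hS.2
  have hind : (fZJA ↥(T₀ : Subgroup ↥(qdOver (ZMod p)))).map (T₀ : Subgroup ↥(qdOver (ZMod p))).subtype =
      centerThompsonAOf (T₀ : Subgroup ↥(qdOver (ZMod p))) := ind_fZJA _
  rw [hind] at hN
  -- a central element of `T₀` inside `V`
  haveI : (V.subgroupOf (T₀ : Subgroup ↥(qdOver (ZMod p)))).Normal := hVn.subgroupOf _
  obtain ⟨z, hzV, hzc, hz1⟩ := Cfsg.Agent.Lib.Helper31PGroup.exists_center_mem_of_normal T₀.2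
    (V.subgroupOf (T₀ : Subgroup ↥(qdOver (ZMod p)))) (by
      intro h
      rw [subgroupOf_eq_bot, disjoint_iff, inf_eq_left.mpr (hVle T₀)] at h
      exact hV1 h)
  have hzV' : (z : ↥(qdOver (ZMod p))) ∈ V := hzV
  obtain ⟨b, hb⟩ := (mem_ker_blk_iff' _).mp hzV'
  have hb0 : b ≠ 0 := by
    rintro rfl
    apply hz1
    apply Subtype.ext
    rw [hb]
    exact mk_one_zero
  have hzcomm : ∀ τ ∈ (T₀ : Subgroup ↥(qdOver (ZMod p))), τ * (z : ↥(qdOver (ZMod p))) = z * τ := by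
    intro τ hτ
    exact congrArg Subtype.val ((mem_center_iff.mp hzc) ⟨τ, hτ⟩)
  -- every element of `V` is central in `T₀`
  have hVc : ∀ v ∈ V, ∀ τ ∈ (T₀ : Subgroup ↥(qdOver (ZMod p))), τ * v = v * τ := by
    intro v hv τ hτ
    obtain ⟨b', rfl⟩ := (mem_ker_blk_iff' _).mp hv
    by_cases hb' : b' = 0
    · subst hb'
      rw [mk_one_zero]
      simp
    obtain ⟨M₁, hM₁⟩ := Cfsg.Agent.Lib.Helper51SL2.exists_fst_col b hb0
    obtain ⟨M₂, hM₂⟩ := Cfsg.Agent.Lib.Helper51SL2.exists_fst_col b' hb'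
    set g : ↥(qdOver (ZMod p)) := (mk (M₂ * M₁⁻¹) 0 : ↥(qdOver (ZMod p))) with hg
    have hgz : g * (z : ↥(qdOver (ZMod p))) * g⁻¹ = (mk 1 b' : ↥(qdOver (ZMod p))) := by
      rw [hb, hg]
      rw [conj_mk]
      congr 1
      rw [← hM₁, Matrix.mulVec_mulVec, ← Matrix.SpecialLinearGroup.coe_mul, inv_mul_cancel_right, hM₂]
    obtain ⟨-, h2⟩ := hctl {(z : ↥(qdOver (ZMod p)))} (by
      rw [Set.singleton_subset_iff]
      exact hVle T' hzV')
    obtain ⟨n, hn, hna⟩ := h2 g (by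
      rw [Set.image_singleton, Set.singleton_subset_iff]
      show g * (z : ↥(qdOver (ZMod p))) * g⁻¹ ∈ (T' : Subgroup ↥(qdOver (ZMod p)))
      rw [hgz]
      exact hVle T' hv)
    have hnz := hna z rfl
    rw [hgz] at hnz
    rw [hN] at hn
    rw [hnz]
    have hτ' : n⁻¹ * τ * n ∈ (T₀ : Subgroup ↥(qdOver (ZMod p))) := by
      have := (mem_normalizer_iff.mp (inv_mem hn) τ).mp hτ
      simpa using this
    have h3 := hzcomm _ hτ'
    calc τ * (n * (z : ↥(qdOver (ZMod p))) * n⁻¹) = n * ((n⁻¹ * τ * n) * z) * n⁻¹ := by group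
      _ = n * (z * (n⁻¹ * τ * n)) * n⁻¹ := by rw [h3]
      _ = n * (z : ↥(qdOver (ZMod p))) * n⁻¹ * τ := by group
  -- hence `T₀ ≤ C(V) ≤ V`
  have hTV : (T₀ : Subgroup ↥(qdOver (ZMod p))) ≤ V := by
    intro τ hτ
    have h1 : τ ∈ centralizer (V : Set ↥(qdOver (ZMod p))) := fun v hv => (hVc v hv τ hτ).symm
    exact blk_eq_one_of_centralizer h1
  have hTeq : (T₀ : Subgroup ↥(qdOver (ZMod p))) = V := le_antisymm hTV (hVle T₀)
  apply hNtop
  rw [hTeq]
  exact normalizer_eq_top V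

end Cfsg.Agent.Lib.Helper14QdFus
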