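import Mathlib
import Cfsg.Agent.Lib.Helper39SecFusion
import Cfsg.Agent.Lib.Helper39Control
import Cfsg.Agent.Lib.Helper39SecTransport
import Cfsg.Agent.Lib.Helper14Control2
import Cfsg.Agent.Lib.Helper14LocalZJ

set_option autoImplicit false
set_option linter.unusedSectionVars false
set_option linter.style.haveILetI false

/-! Control of strong fusion by `N(W(D))`, `D` strongly closed: reduction to constrained sections. -/

namespace Cfsg.Agent.Lib.Helper14SCFus

open Cfsg Cfsg.Agent.Lib.Helper39Sylow Cfsg.Agent.Lib.Helper39Control Cfsg.Agent.Lib.Helper39Transfer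
  Cfsg.Agent.Lib.Helper24Functor Cfsg.Agent.Lib.Helper39Rel Cfsg.Agent.Lib.Helper39Core
  Cfsg.Agent.Lib.Helper39WellPlaced Cfsg.Agent.Lib.Helper39KInfFunctor Cfsg.Agent.Lib.Helper39Section
  Cfsg.Agent.Lib.Helper39Fusion Cfsg.Agent.Lib.Helper39SecFusion

universe u

variable {p : ℕ}

/-- `D` is strongly closed in `T` with respect to `H` -/
def SC {X : Type*} [Group X] (D T H : Subgroup X) : Prop :=
  D ≤ T ∧ ∀ x ∈ D, ∀ g ∈ H, g * x * g⁻¹ ∈ T → g * x * g⁻¹ ∈ D

theorem sc_top_iff {X : Type*} [Group X] {D T : Subgroup X} : SC D T ⊤ ↔ IsStronglyClosed D T :=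
  ⟨fun h => ⟨h.1, fun x hx g hg => h.2 x hx g trivial hg⟩, fun h => ⟨h.1, fun x hx g _ hg => h.2 x hx g hg⟩⟩

theorem SC.mono {X : Type*} [Group X] {D T H K : Subgroup X} (h : SC D T H) (hK : K ≤ H) : SC D T K :=
  ⟨h.1, fun x hx g hg => h.2 x hx g (hK hg)⟩

theorem SC.inf {X : Type*} [Group X] {D T H R : Subgroup X} (h : SC D T H) (hR : R ≤ T) :
    SC (R ⊓ D) R H :=
  ⟨inf_le_left, fun x hx g hg hgx => ⟨hgx, h.2 x hx.2 g hg (hR hgx)⟩⟩

theorem SC.le_normalizer {X : Type*} [Group X] [Finite X] {D T H : Subgroup X} (h : SC D T H) (hT : T ≤ H) :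
    T ≤ Subgroup.normalizer (D : Set X) := by
  intro t ht
  rw [mem_normalizer_iff_cj]
  apply cj_eq_of_le_of_finite
  rintro _ ⟨d, hd, rfl⟩
  exact h.2 d hd t (hT ht) (T.mul_mem (T.mul_mem ht (h.1 hd)) (T.inv_mem ht))

theorem SC.subgroupOf {X : Type*} [Group X] {D T H : Subgroup X} (h : SC D T H) :
    SC (D.subgroupOf H) (T.subgroupOf H) ⊤ := by
  refine ⟨Subgroup.comap_mono h.1, ?_⟩
  intro x hx g _ hg
  exact h.2 x hx g g.2 hg

theorem csu_of_quotient_pprime {X : Type*} [Group X] [Finite X] [Fact p.Prime]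
    {S M U : Subgroup X} (hS : IsSyl p S ⊤) [hM : M.Normal] (hMc : (Nat.card M).Coprime p)
    (hUS : U ≤ S) (hSN : S ≤ Subgroup.normalizer (U : Set X))
    (h : CSF (fun _ => U.map (QuotientGroup.mk' M)) ⊤ (S.map (QuotientGroup.mk' M))) :
    CSF (fun _ => U) ⊤ S := by
  intro Q hQ g _ hgQ
  set π := QuotientGroup.mk' M with hπ
  have hSM : S ⊓ M = ⊥ := inf_eq_bot_of_pgroup_coprime hS.2.1 hMc
  have hinj : Set.InjOn π S := injOn_mk' hSM
  obtain ⟨nb, hnb, cb, hcb, e⟩ := h (Q.map π) (Subgroup.map_mono hQ) (π g) trivial (by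
    rw [← map_cj]; exact Subgroup.map_mono hgQ)
  obtain ⟨x, hx, hxe⟩ := normalizer_map_le M hMc U (hS.2.1.to_le hUS) hnb.2
  obtain ⟨c0, hc0, hce⟩ := centralizer_map_le M hMc Q (hS.2.1.to_le hQ) hcb
  have hxe' : π x = nb := hxe
  have hce' : π c0 = cb := hce
  rw [← hxe', ← hce'] at e
  have hx : x ∈ Subgroup.normalizer (U : Set X) := hx
  have hc0 : c0 ∈ Subgroup.centralizer (Q : Set X) := hc0
  set N := Subgroup.normalizer (U : Set X) with hN
  obtain ⟨m, hmdef⟩ : ∃ m, m = g * (x * c0)⁻¹ := ⟨_, rfl⟩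
  have hm : m ∈ M := by
    rw [hmdef, ← QuotientGroup.ker_mk' M, MonoidHom.mem_ker, ← hπ, map_mul, map_inv, map_mul, e]
    group
  have e1 : cj g Q = cj m (cj x Q) := by
    have e2 : g = m * (x * c0) := by rw [hmdef]; group
    calc cj g Q = cj (m * (x * c0)) Q := by rw [← e2]
      _ = cj m (cj x Q) := by rw [cj_mul, cj_mul, cj_eq_of_mem_centralizer hc0]
  have hA1N : cj x Q ≤ N := by
    have := cj_mono (g := x) (hQ.trans hSN)
    rwa [cj_eq_of_mem hx] at this
  have hA1MS : cj x Q ≤ S ⊔ M := by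
    have h1 : cj x Q = cj m⁻¹ (cj g Q) := by rw [e1, cj_inv_cj]
    rw [h1]
    refine (cj_mono hgQ).trans ?_
    have h2 := cj_mono (g := m⁻¹) (le_sup_left : S ≤ S ⊔ M)
    rwa [cj_eq_of_mem ((le_sup_right : M ≤ S ⊔ M) (M.inv_mem hm))] at h2
  obtain ⟨y, hy, hyS⟩ := (hS.of_le (le_inf hSN le_sup_left) le_top).exists_conj_le (le_inf hA1N hA1MS)
    (isPGroup_cj (hS.2.1.to_le hQ))
  have hy2 : y ∈ S ⊔ M := hy.2
  rw [← SetLike.mem_coe, Subgroup.mul_normal] at hy2
  obtain ⟨s, hs, n', hn', rfl⟩ := hy2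
  have hn'S : cj n' (cj x Q) ≤ S := by
    rw [cj_mul, cj_le_iff, cj_eq_of_mem (S.inv_mem hs)] at hyS
    exact hyS
  have hn'N : n' ∈ N := by
    have : n' = s⁻¹ * (s * n') := by group
    rw [this]
    exact N.mul_mem (N.inv_mem (hSN hs)) hy.1
  refine ⟨n' * x, ⟨trivial, N.mul_mem hn'N hx⟩, (n' * x)⁻¹ * g, ?_, by group⟩
  intro a ha
  apply conj_eq_conj_iff.1
  apply hinj
  · apply hn'S
    rw [← cj_mul]
    exact conj_mem_cj ha
  · exact hgQ (conj_mem_cj ha)
  · have hn1 : π n' = 1 := (QuotientGroup.eq_one_iff n').2 hn'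
    have hca : π c0 * π a = π a * π c0 := by
      rw [← map_mul, ← map_mul, hc0 a ha]
    simp only [map_mul, map_inv, hn1, one_mul, e]
    calc π x * π a * (π x)⁻¹ = π x * (π a * π c0) * (π c0)⁻¹ * (π x)⁻¹ := by group
      _ = π x * (π c0 * π a) * (π c0)⁻¹ * (π x)⁻¹ := by rw [hca]
      _ = π x * π c0 * π a * (π x * π c0)⁻¹ := by group

/-- the case `X = C_X(Q) S`: fusion in `S` is controlled by the preimage of a controlling normalizer of `X/Q` -/
theorem relM_of_sup_eq_top' {X : Type*} [Group X] [Finite X] [Fact p.Prime]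
    {S Q : Subgroup X} (hS : IsSyl p S ⊤) [hQn : Q.Normal] (hQS : Q ≤ S)
    (htop : Subgroup.centralizer (Q : Set X) ⊔ S = ⊤) (Ub : Subgroup (X ⧸ Q))
    (hSM : S ≤ (Subgroup.normalizer (Ub : Set (X ⧸ Q))).comap (QuotientGroup.mk' Q))
    (hq : CSF (fun _ => Ub) ⊤ (S.map (QuotientGroup.mk' Q))) :
    ∀ A : Subgroup X, A ≤ S → ∀ g : X, cj g A ≤ S →
      RelM ((Subgroup.normalizer (Ub : Set (X ⧸ Q))).comap (QuotientGroup.mk' Q)) A g := by
  set π := QuotientGroup.mk' Q with hπ
  set M := (Subgroup.normalizer (Ub : Set (X ⧸ Q))).comap π with hM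
  have hQp : IsPGroup p Q := hS.2.1.to_le hQS
  apply alperin_induction S hS (RelM M) (fun A g h _ _ _ h1 h2 => h1.trans h2)
    (fun A g _ _ h1 => h1.symm) (fun A B g _ _ hBA h1 => h1.mono hBA) Set.univ
  · intro T hT
    obtain ⟨h, h1, h2, -⟩ := exists_tame_conj hS hT
    exact ⟨cj h T, trivial, h1, ⟨h, rfl⟩, h2⟩
  · intro U _ hUS hUsyl IH x hx
    by_cases hQU : Q ≤ U
    · -- main case
      have hxU : cj x U = U := mem_normalizer_iff_cj.1 hx
      obtain ⟨nb, hnb, zb, hzb, e⟩ := hq (U.map π) (Subgroup.map_mono hUS) (π x) trivial (by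
        rw [← map_cj, hxU]; exact Subgroup.map_mono hUS)
      obtain ⟨n, hne⟩ := QuotientGroup.mk'_surjective Q nb
      have hne' : π n = nb := hne
      rw [← hne'] at e hnb
      have hnM : n ∈ M := hnb.2
      set D := (Subgroup.centralizer ((U.map π : Subgroup (X ⧸ Q)) : Set (X ⧸ Q))).comap π with hD
      have hzD : n⁻¹ * x ∈ D := by
        rw [hD, Subgroup.mem_comap, map_mul, map_inv, e, inv_mul_cancel_left]
        exact hzb
      -- elements of `D` act trivially on `U / Q`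
      have hDact : ∀ d ∈ D, ∀ u ∈ U, u⁻¹ * (d * u * d⁻¹) ∈ Q := by
        intro d hd u hu
        have h1 : π u * π d = π d * π u := hd (π u) ⟨u, hu, rfl⟩
        rw [← QuotientGroup.ker_mk' Q, MonoidHom.mem_ker, ← hπ]
        simp only [map_mul, map_inv]
        rw [← h1]; group
      have hDN : D ≤ Subgroup.normalizer (U : Set X) := by
        intro d hd
        rw [mem_normalizer_iff_cj]
        apply cj_eq_of_le_of_finite
        rintro _ ⟨u, hu, rfl⟩
        have h1 := hQU (hDact d hd u hu)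
        have h2 : d * u * d⁻¹ = u * (u⁻¹ * (d * u * d⁻¹)) := by group
        show d * u * d⁻¹ ∈ U
        rw [h2]
        exact U.mul_mem hu h1
      have hND : Subgroup.normalizer (U : Set X) ≤ Subgroup.normalizer (D : Set X) := by
        intro k hk
        rw [mem_normalizer_iff_cj]
        apply cj_eq_of_le_of_finite
        rintro _ ⟨d, hd, rfl⟩
        show k * d * k⁻¹ ∈ D
        rw [hD, Subgroup.mem_comap]
        have h1 : π k ∈ Subgroup.normalizer ((U.map π : Subgroup (X ⧸ Q)) : Set (X ⧸ Q)) := by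
          rw [mem_normalizer_iff_cj, ← map_cj, mem_normalizer_iff_cj.1 hk]
        have h2 := Cfsg.Agent.Lib.Helper39KInfCent.normalizer_le_normalizer_centralizer _ h1
        have h3 := (Subgroup.mem_normalizer_iff.1 h2 (π d)).1 hd
        simpa using h3
      have hCD : Subgroup.centralizer (U : Set X) ≤ D := by
        intro c hc
        rw [hD, Subgroup.mem_comap]
        rintro _ ⟨u, hu, rfl⟩
        rw [← map_mul, ← map_mul, hc u hu]
      have hDC : D ≤ Subgroup.normalizer ((Subgroup.centralizer (U : Set X) : Subgroup X) : Set X) :=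
        hDN.trans (Cfsg.Agent.Lib.Helper39KInfCent.normalizer_le_normalizer_centralizer U)
      have hpow : ∀ d ∈ D, ∃ k : ℕ, d ^ (p ^ k) ∈ Subgroup.centralizer (U : Set X) := by
        intro d hd
        obtain ⟨k, hk⟩ := exists_pow_coprime (p := p) d
        refine ⟨k, ?_⟩
        set z := d ^ (p ^ k) with hz
        have hzD' : z ∈ D := D.pow_mem hd _
        have hzC : z ∈ Subgroup.centralizer (Q : Set X) :=
          mem_of_coprime_of_sup_eq_top inferInstance hS.2.1 htop hk
        have hcop : (Nat.card (Subgroup.zpowers z)).Coprime (Nat.card Q) := by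
          rw [Nat.card_zpowers]
          obtain ⟨j, hj⟩ := hQp.exists_card_eq
          rw [hj]
          exact Nat.Coprime.pow_right j hk
        have hzp : Subgroup.zpowers z ≤ D ⊓ Subgroup.centralizer (Q : Set X) := by
          rw [Subgroup.zpowers_le]; exact ⟨hzD', hzC⟩
        have h1 := Cfsg.Agent.Lib.Helper30Coprime.centralizes_of_chain (A := Subgroup.zpowers z) (P := U) (N := Q)
          hcop (fun a ha n hn => by
            have := (hzp ha).2 n hn
            rw [← this]; group)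
          (fun a ha u hu => hDact a (hzp ha).1 u hu) z (Subgroup.mem_zpowers z)
        intro u hu
        have h2 := h1 u hu
        calc u * z = (z * u * z⁻¹) * z := by rw [h2]
          _ = z * u := by group
      obtain ⟨t, ht, c, hc, e2⟩ := exists_mul_of_pgroup_quotient hUsyl hDN hND hDC hpow _ hzD
      refine ⟨n * t, M.mul_mem hnM (hSM ht.1.1), c, hc, ?_⟩
      rw [mul_assoc, ← e2]; group
    · -- enlarge `U`
      have hlt : U < U ⊔ Q := lt_of_le_of_ne le_sup_left (fun h => hQU (h ▸ le_sup_right))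
      have hle : U ⊔ Q ≤ S := sup_le hUS hQS
      have hx2 : cj x (U ⊔ Q) = U ⊔ Q := by
        rw [cj_sup, mem_normalizer_iff_cj.1 hx, cj_of_normal hQn]
      exact (IH (U ⊔ Q) hle (card_lt_of_lt hlt) x (by rw [hx2]; exact hle)).mono le_sup_left

variable {W : ∀ (Q : Type u) [Group Q], Subgroup Q}

theorem csu_sub (hW : IsCharPFunctor.{u} p W) {X : Type u} [Group X] [Finite X] {H T D : Subgroup X}
    (hTH : T ≤ H) (hT : IsPGroup p T) (hDT : D ≤ T)
    (h : CSF (fun _ => inducedFunctor (G := ↥H) W (D.subgroupOf H)) ⊤ (T.subgroupOf H)) :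
    CSF (fun _ => inducedFunctor (G := X) W D) H T := by
  intro Q hQ g hg hgQ
  have hQH : Q ≤ H := hQ.trans hTH
  obtain ⟨n, hn, c, hc, e⟩ := h (Q.subgroupOf H) (Subgroup.comap_mono hQ) ⟨g, hg⟩ trivial (by
    rw [← Subgroup.map_le_map_iff_of_injective H.subtype_injective, map_cj,
      Subgroup.map_subgroupOf_eq_of_le hQH, Subgroup.map_subgroupOf_eq_of_le hTH]
    exact hgQ)
  refine ⟨n, ?_, c, ?_, congrArg Subtype.val e⟩
  · have h1 : (n : X) ∈ (Subgroup.normalizer
        ((inducedFunctor (G := ↥H) W (D.subgroupOf H) : Subgroup H) : Set H)).map H.subtype := ⟨n, hn.2, rfl⟩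
    rw [map_normalizer_subtype, ind_subgroupOf hW (hDT.trans hTH) (hT.to_le hDT)] at h1
    exact h1
  · have h1 : (c : X) ∈ (Subgroup.centralizer ((Q.subgroupOf H : Subgroup H) : Set H)).map H.subtype :=
      ⟨c, hc, rfl⟩
    rw [map_centralizer_subtype, Subgroup.map_subgroupOf_eq_of_le hQH] at h1
    exact h1.2


theorem sc_map_of_le {X : Type*} [Group X] {S Q D : Subgroup X} [hQn : Q.Normal] (hQS : Q ≤ S)
    (hD : SC D S ⊤) : SC (D.map (QuotientGroup.mk' Q)) (S.map (QuotientGroup.mk' Q)) ⊤ := by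
  refine ⟨Subgroup.map_mono hD.1, ?_⟩
  rintro _ ⟨d, hd, rfl⟩ gb _ hg
  obtain ⟨g, rfl⟩ := QuotientGroup.mk'_surjective Q gb
  obtain ⟨s, hs, hse⟩ := hg
  have h1 : s⁻¹ * (g * d * g⁻¹) ∈ Q := by
    rw [← QuotientGroup.ker_mk' Q, MonoidHom.mem_ker, map_mul, map_inv, hse, map_mul, map_mul, map_inv]
    group
  have h2 : g * d * g⁻¹ ∈ S := by
    have := S.mul_mem hs (hQS h1)
    simpa using this
  exact ⟨g * d * g⁻¹, hD.2 d hd g trivial h2, by simp⟩

theorem csu_of_normal {X : Type*} [Group X] {U S : Subgroup X} (hU : U.Normal) :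
    CSF (fun _ => U) ⊤ S := by
  intro Q _ g _ _
  exact ⟨g, ⟨trivial, by rw [Subgroup.normalizer_eq_top]; trivial⟩, 1, one_mem _, by simp⟩

/-- the case `O_p(X) = 1` -/
theorem csu_of_local (hW : IsCharPFunctor.{u} p W) {X : Type u} [Group X] [Finite X] [Fact p.Prime]
    (IHsub : ∀ H : Subgroup X, H ≠ ⊤ → ∀ T D : Subgroup X, IsSyl p T H → SC D T H →
      CSF (fun _ => inducedFunctor W D) H T)
    (h2 : pCore p X = ⊥)
    {S D : Subgroup X} (hS : IsSyl p S ⊤) (hD : SC D S ⊤) : CSF (fun _ => inducedFunctor W D) ⊤ S := by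
  classical
  set P := Cfsg.Agent.Lib.Helper39SecTransport.toSylowTop hS with hP
  have hPS : (P : Subgroup X) = S := rfl
  set W' : Subgroup X → Subgroup X := fun T => if IsPGroup p T then inducedFunctor W T else ⊥ with hW'
  have hW'p : ∀ T : Subgroup X, IsPGroup p T → W' T = inducedFunctor W T := fun T hT => by
    simp only [hW', if_pos hT]
  have key := Cfsg.Agent.Lib.Helper14Control2.control_stronglyClosed P D (sc_top_iff.1 hD) W'
    (fun T => by
      by_cases hT : IsPGroup p T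
      · rw [hW'p T hT]; exact ind_le T
      · simp only [hW', if_neg hT]; exact bot_le)
    (fun T hT hne => by rw [hW'p T hT]; exact ind_ne_bot hW T hT hne)
    (fun T g => by
      by_cases hT : IsPGroup p T
      · rw [hW'p T hT, hW'p _ (isPGroup_cj hT)]
        exact ind_cj hW g⁻¹ T hT
      · have hT' : ¬ IsPGroup p (Cfsg.Agent.Lib.Helper40Alperin.rj g T) := by
          intro h
          apply hT
          have := isPGroup_cj (g := g) h
          rwa [cj_cj_inv] at this
        simp only [hW', if_neg hT, if_neg hT']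
        exact (Subgroup.map_bot _).symm)
    (by
      intro Y hY hYne hfull E hE h hh hhE
      have hne : Subgroup.normalizer (Y : Set X) ≠ ⊤ := by
        intro htop
        apply hYne
        have := le_pCore (Subgroup.normalizer_eq_top_iff.1 htop) (hS.2.1.to_le hY)
        rw [h2] at this
        exact le_bot_iff.1 this
      have hT : IsSyl p (S ⊓ Subgroup.normalizer (Y : Set X)) (Subgroup.normalizer (Y : Set X)) :=
        ⟨hfull.1, hfull.2.1, hfull.2.2⟩
      have hsc : SC (S ⊓ Subgroup.normalizer (Y : Set X) ⊓ D) (S ⊓ Subgroup.normalizer (Y : Set X))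
          (Subgroup.normalizer (Y : Set X)) := (hD.mono le_top).inf inf_le_left
      have hcsf := IHsub _ hne _ _ hT hsc
      have hhE' : cj h⁻¹ E ≤ S ⊓ Subgroup.normalizer (Y : Set X) := by
        refine le_inf hhE ?_
        have := cj_mono (g := h⁻¹) (hE.trans inf_le_right)
        rwa [cj_eq_of_mem (inv_mem hh)] at this
      obtain ⟨n, hn, c, hc, e⟩ := hcsf E hE h⁻¹ (inv_mem hh) hhE'
      refine ⟨n⁻¹, ?_, ?_⟩
      · rw [hPS, hW'p _ (hS.2.1.to_le (inf_le_left.trans inf_le_left))]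
        exact inv_mem hn.2
      · intro a ha
        have hca : c * a * c⁻¹ = a := by
          rw [← hc a ha]; group
        have e' : h = c⁻¹ * n⁻¹ := by
          rw [← inv_inv h, e]; group
        calc h⁻¹ * a * h = n * (c * a * c⁻¹) * n⁻¹ := by rw [e, e']; group
          _ = n⁻¹⁻¹ * a * n⁻¹ := by rw [hca, inv_inv])
  rw [csf_iff_set]
  intro A g _ hA hgA
  obtain ⟨x, hx, hxa⟩ := (key A hA).2 g hgA
  rw [hW'p D (hS.2.1.to_le hD.1)] at hx
  exact ⟨x, ⟨trivial, hx⟩, fun a ha => (hxa a ha).symm⟩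


theorem preimage_normalizer_ne_top' (hW : IsCharPFunctor.{u} p W) {X : Type u} [Group X] [Finite X]
    [Fact p.Prime] {D : Subgroup X} (hDp : IsPGroup p D)
    (hDQ : ¬ D ≤ pCore p X) [hQ : (pCore p X).Normal] :
    (Subgroup.normalizer ((inducedFunctor W (D.map (QuotientGroup.mk' (pCore p X))) :
      Subgroup (X ⧸ pCore p X)) : Set (X ⧸ pCore p X))).comap (QuotientGroup.mk' (pCore p X)) ≠ ⊤ := by
  intro htop
  set π := QuotientGroup.mk' (pCore p X) with hπ
  have hπs : Function.Surjective π := QuotientGroup.mk'_surjective _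
  have hSb : D.map π ≠ ⊥ := by
    intro h
    rw [Subgroup.map_eq_bot_iff, hπ, QuotientGroup.ker_mk'] at h
    exact hDQ h
  have hSp : IsPGroup p (D.map π) := hDp.map π
  have hWne := ind_ne_bot hW (D.map π) hSp hSb
  set U := inducedFunctor W (D.map π) with hU
  have hUp : IsPGroup p U := hSp.to_le (ind_le _)
  have hUn : U.Normal := by
    rw [← Subgroup.normalizer_eq_top_iff]
    have := congrArg (Subgroup.map π) htop
    rw [Subgroup.map_comap_eq_self_of_surjective hπs, ← MonoidHom.range_eq_map,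
      MonoidHom.range_eq_top.2 hπs] at this
    exact this
  have hP1 : IsPGroup p (U.comap π) := hUp.comap_of_ker_isPGroup π (by
    rw [hπ, QuotientGroup.ker_mk']; exact pCore_isPGroup p)
  have hle : U.comap π ≤ pCore p X := le_pCore (hUn.comap π) hP1
  apply hWne
  have h3 := Subgroup.map_mono (f := π) hle
  rw [Subgroup.map_comap_eq_self_of_surjective hπs] at h3
  have h4 : (pCore p X).map π = ⊥ := by
    rw [Subgroup.map_eq_bot_iff, hπ, QuotientGroup.ker_mk']
  rw [h4] at h3
  exact le_bot_iff.1 h3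

theorem csu_step (hW : IsCharPFunctor.{u} p W) {X : Type u} [Group X] [Finite X] [Fact p.Prime]
    (IHsub : ∀ H : Subgroup X, H ≠ ⊤ → ∀ T D : Subgroup X, IsSyl p T H → SC D T H →
      CSF (fun _ => inducedFunctor W D) H T)
    (IHquot : ∀ (M : Subgroup X) [M.Normal], M ≠ ⊥ → ∀ T D : Subgroup (X ⧸ M), IsSyl p T ⊤ → SC D T ⊤ →
      CSF (fun _ => inducedFunctor W D) ⊤ T)
    (hloc : Subgroup.centralizer ((pCore p X : Subgroup X) : Set X) ≤ pCore p X →
      ∀ S D : Subgroup X, IsSyl p S ⊤ → SC D S ⊤ → (inducedFunctor W D).Normal)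
    {S D : Subgroup X} (hS : IsSyl p S ⊤) (hD : SC D S ⊤) : CSF (fun _ => inducedFunctor W D) ⊤ S := by
  have hDp : IsPGroup p D := hS.2.1.to_le hD.1
  have hSND : S ≤ Subgroup.normalizer (D : Set X) := hD.le_normalizer le_top
  have hSNU : S ≤ Subgroup.normalizer ((inducedFunctor W D : Subgroup X) : Set X) :=
    hSND.trans (normalizer_le_normalizer_ind hW D hDp)
  by_cases h1 : pPrimeCore p X = ⊥
  swap
  · have : (pPrimeCore p X).Normal := Cfsg.Agent.Lib.Helper40Cores.pPrimeCore_normal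
    have hcop : (Nat.card (pPrimeCore p X)).Coprime p := Cfsg.Agent.Lib.Helper40Cores.pPrimeCore_coprime
    apply csu_of_quotient_pprime hS hcop ((ind_le D).trans hD.1) hSNU
    have hinj : Set.InjOn (QuotientGroup.mk' (pPrimeCore p X)) D :=
      injOn_mk' (inf_eq_bot_of_pgroup_coprime hDp hcop)
    rw [← ind_map hW _ D hDp hinj]
    apply IHquot _ h1 _ _ (isSyl_map_surjective hS _ (QuotientGroup.mk'_surjective _))
    rw [sc_top_iff]
    exact Cfsg.Agent.Lib.Helper14LocalZJ.stronglyClosed_map _ (QuotientGroup.mk'_surjective _)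
      (by rw [QuotientGroup.ker_mk']; exact hcop) hS.2.1 (sc_top_iff.1 hD)
  have hnormal_le : ∀ T : Subgroup X, IsPGroup p T → Subgroup.normalizer (T : Set X) = ⊤ → T ≤ pCore p X :=
    fun T hT htop => le_pCore (Subgroup.normalizer_eq_top_iff.1 htop) hT
  by_cases h2 : pCore p X = ⊥
  · exact csu_of_local hW IHsub h2 hS hD
  by_cases h3 : Subgroup.centralizer ((pCore p X : Subgroup X) : Set X) ≤ pCore p X
  · exact csu_of_normal (hloc h3 S D hS hD)
  have hQn : (pCore p X).Normal := Cfsg.Agent.Lib.Helper39Core.pCore_normal p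
  have hS0 := not_le_of_not_constrained hS h1 h3
  set Q := pCore p X with hQ
  set C := Subgroup.centralizer (Q : Set X) with hC
  have hCn : C.Normal := inferInstance
  have hDn : (Q ⊔ C).Normal := inferInstance
  have hQS : Q ≤ S := hS.normal_le le_top (pCore_isPGroup p) (top_le_normalizer hQn)
  set S0 := S ⊓ (Q ⊔ C) with hS0def
  have hG1 : Subgroup.normalizer (S0 : Set X) ≠ ⊤ :=
    fun htop => hS0 (hnormal_le S0 (hS.2.1.to_le inf_le_left) htop)
  have hSG1 : S ≤ Subgroup.normalizer (S0 : Set X) := by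
    intro s hs
    rw [mem_normalizer_iff_cj, hS0def, cj_inf, cj_eq_of_mem hs, cj_of_normal hDn]
  have hcsf1 : CSF (fun _ => inducedFunctor W D) (Subgroup.normalizer (S0 : Set X)) S :=
    IHsub _ hG1 S D (hS.of_le hSG1 le_top) (hD.mono le_top)
  by_cases h4 : C ⊔ S = ⊤
  swap
  · have hcsf2 : CSF (fun _ => inducedFunctor W D) (C ⊔ S) S :=
      IHsub _ h4 S D (hS.of_le le_sup_right le_top) (hD.mono le_top)
    intro A hA h _ hhA
    obtain ⟨e, he, n, hn, rfl, hnA⟩ := exists_factor hS hDn hA hhA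
    obtain ⟨x1, hx1, c1, hc1, rfl⟩ := hcsf1 A hA n hn hnA
    have heCS : e ∈ C ⊔ S := (sup_le (hQS.trans le_sup_right) le_sup_left : Q ⊔ C ≤ C ⊔ S) he
    obtain ⟨x2, hx2, c2, hc2, rfl⟩ := hcsf2 (cj (x1 * c1) A) hnA e heCS (by rw [← cj_mul]; exact hhA)
    rw [cj_mul, cj_eq_of_mem_centralizer hc1, centralizer_cj, mem_cj] at hc2
    exact ⟨x2 * x1, ⟨trivial, mul_mem hx2.2 hx1.2⟩, (x1⁻¹ * c2 * x1) * c1, mul_mem hc2 hc1, by group⟩
  · by_cases hDQ : D ≤ Q
    · -- `D` is normal
      apply csu_of_normal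
      rw [← Subgroup.normalizer_eq_top_iff, eq_top_iff]
      refine le_trans ?_ (normalizer_le_normalizer_ind hW D hDp)
      intro g _
      rw [mem_normalizer_iff_cj]
      apply cj_eq_of_le_of_finite
      rintro _ ⟨d, hd, rfl⟩
      exact hD.2 d hd g trivial (hQS (hQn.conj_mem d (hDQ hd) g))
    · have hM := preimage_normalizer_ne_top' hW hDp hDQ
      have hscQ : SC (D.map (QuotientGroup.mk' Q)) (S.map (QuotientGroup.mk' Q)) ⊤ := sc_map_of_le hQS hD
      have hSM : S ≤ (Subgroup.normalizer ((inducedFunctor W (D.map (QuotientGroup.mk' Q)) :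
          Subgroup (X ⧸ Q)) : Set (X ⧸ Q))).comap (QuotientGroup.mk' Q) := by
        intro s hs
        rw [Subgroup.mem_comap]
        exact normalizer_le_normalizer_ind hW _ (hDp.map _) (hscQ.le_normalizer le_top ⟨s, hs, rfl⟩)
      have hcsfM := IHsub _ hM S D (hS.of_le hSM le_top) (hD.mono le_top)
      have hcsfQ := IHquot Q h2 _ _ (isSyl_map_surjective hS _ (QuotientGroup.mk'_surjective Q)) hscQ
      have hrel := relM_of_sup_eq_top' hS hQS h4 _ hSM hcsfQ
      intro A hA g _ hgA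
      obtain ⟨y, hy, c, hc, rfl⟩ := hrel A hA g hgA
      obtain ⟨n, hn, c', hc', rfl⟩ := hcsfM A hA y hy (by
        rw [cj_mul, cj_eq_of_mem_centralizer hc] at hgA; exact hgA)
      exact ⟨n, ⟨trivial, hn.2⟩, c' * c, mul_mem hc' hc, by group⟩

/-- abstract form of the reduction of control of strong fusion by `N(W(D))`, `D` strongly closed,
to constrained sections -/
theorem csu_all (hW : IsCharPFunctor.{u} p W) [Fact p.Prime]
    (𝒮 : ∀ (X : Type u) [Group X], Prop)
    (hSsub : ∀ (X : Type u) [Group X] [Finite X] (Y : Subgroup X), 𝒮 X → 𝒮 Y)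
    (hSquot : ∀ (X : Type u) [Group X] [Finite X] (N : Subgroup X) [N.Normal], 𝒮 X → 𝒮 (X ⧸ N))
    (hloc : ∀ (X : Type u) [Group X] [Finite X], 𝒮 X →
      Subgroup.centralizer ((pCore p X : Subgroup X) : Set X) ≤ pCore p X →
      ∀ S D : Subgroup X, IsSyl p S ⊤ → SC D S ⊤ → (inducedFunctor W D).Normal) :
    ∀ (n : ℕ) (X : Type u) [Group X] [Finite X], Nat.card X = n → 𝒮 X →
      ∀ S D : Subgroup X, IsSyl p S ⊤ → SC D S ⊤ → CSF (fun _ => inducedFunctor W D) ⊤ S := by
  intro n
  induction n using Nat.strong_induction_on with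
  | _ n ih =>
  intro X _ _ hn hX S D hS hD
  apply csu_step hW _ _ (hloc X hX) hS hD
  · intro H hH T D' hT hD'
    apply csu_sub hW hT.1 hT.2.1 hD'.1
    apply ih (Nat.card H) _ H rfl (hSsub X H hX) _ _ (isSyl_subgroupOf hT) hD'.subgroupOf
    rw [← hn, ← Subgroup.card_top (G := X)]
    exact card_lt_of_lt (lt_top_iff_ne_top.2 hH)
  · intro M _ hM T D' hT hD'
    apply ih (Nat.card (X ⧸ M)) _ (X ⧸ M) rfl (hSquot X M hX) T D' hT hD'
    rw [← hn, ← M.card_mul_index, ← Subgroup.index_eq_card]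
    have h1 : 1 < Nat.card M := by
      rw [Subgroup.one_lt_card_iff_ne_bot]; exact hM
    have h2 : 0 < M.index := Nat.pos_of_ne_zero M.index_ne_zero_of_finite
    nlinarith

end Cfsg.Agent.Lib.Helper14SCFus
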