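import Cfsg.Agent.Lib.Helper14ZJ

set_option autoImplicit false
open Cfsg

namespace Cfsg.Agent.Lib.Helper14ZJ2

open scoped commutatorElement
open Cfsg.Agent.Lib.Helper14Sylow Cfsg.Agent.Lib.Helper14Quad Cfsg.Agent.Lib.Helper14Comm
  Cfsg.Agent.Lib.Helper14ZJ

variable {G : Type*} [Group G]

/-- stability hypothesis for `p`-elements on normal `p`-subgroups, phrased with `LL` -/
def StabLL (p : ℕ) (G : Type*) [Group G] : Prop :=
  ∀ (B : Subgroup G) [B.Normal], IsPGroup p B → ∀ a : G, IsPGroup p (Subgroup.zpowers a) →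
    ⁅⁅B, Subgroup.zpowers a⁆, Subgroup.zpowers a⁆ = ⊥ → a ∈ LL p B

theorem le_LL_of_le_normalizer' {p : ℕ} (B : Subgroup G) [B.Normal] (hB : IsPGroup p B)
    (hst : StabLL p G)
    (X : Subgroup G) (hX : IsMulCommutative X) (hXp : IsPGroup p X)
    (hBX : B ≤ Subgroup.normalizer (X : Set G)) :
    X ≤ LL p B := by
  intro a ha
  apply hst B hB a (hXp.to_le (by rwa [Subgroup.zpowers_le]))
  rw [quad_iff]
  intro v hv
  have h1 : ⁅v, a⁆ ∈ X := by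
    rw [commutatorElement_def]
    exact mul_mem (conj_mem_of_le_normalizer hBX hv ha) (inv_mem ha)
  exact setLike_mul_comm h1 ha

section abstract

variable [Finite G] {p : ℕ} [Fact p.Prime] (S : Sylow p G) (𝔉 : Subgroup G → Set (Subgroup G))

omit [Fact p.Prime] in
theorem max_arg
    (F5 : ∀ B A : Subgroup G, B ≤ S → (S : Subgroup G) ≤ Subgroup.normalizer (B : Set G) →
      A ∈ 𝔉 S → ⁅B, B⁆ ≤ A → ¬ B ≤ Subgroup.normalizer (A : Set G) →
      ∃ K ∈ 𝔉 S, ⁅B, B⁆ ≤ K ∧ A ⊓ B < K ⊓ B ∧ K ⊓ B < B)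
    (B : Subgroup G) (hBP : B ≤ S)
    (hPB : (S : Subgroup G) ≤ Subgroup.normalizer (B : Set G)) (hBZ : ∀ A ∈ 𝔉 S, ⁅B, B⁆ ≤ A)
    (𝒞 : Set (Subgroup G)) (h𝒞 : ∃ A ∈ 𝔉 S, A ∈ 𝒞) :
    ∃ A ∈ 𝔉 S, A ∈ 𝒞 ∧ (B ≤ Subgroup.normalizer (A : Set G) ∨
      ∃ K ∈ 𝔉 S, K ∉ 𝒞 ∧ K ⊓ B < B) := by
  obtain ⟨U, hU1, hU2⟩ := h𝒞
  have hne : Nonempty {A : Subgroup G // A ∈ 𝔉 S ∧ A ∈ 𝒞} := ⟨⟨U, hU1, hU2⟩⟩
  obtain ⟨⟨A, hA1, hA2⟩, hmax⟩ := Finite.exists_max
    (fun A : {A : Subgroup G // A ∈ 𝔉 S ∧ A ∈ 𝒞} => Nat.card ((A : Subgroup G) ⊓ B : Subgroup G))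
  refine ⟨A, hA1, hA2, ?_⟩
  by_cases hn : B ≤ Subgroup.normalizer (A : Set G)
  · exact Or.inl hn
  · right
    obtain ⟨K, k1, _, k3, k4⟩ := F5 B A hBP hPB hA1 (hBZ A hA1) hn
    refine ⟨K, k1, ?_, k4⟩
    intro hK
    have h1 := hmax ⟨K, k1, hK⟩
    exact absurd h1 (not_le.mpr (card_lt_of_lt k3))

variable
  (F1 : ∀ A : Subgroup G, A ∈ 𝔉 S → A ≤ S ∧ IsMulCommutative A)
  (FN : ∀ T : Subgroup G, T ≤ S →
    Subgroup.normalizer (T : Set G) ≤ Subgroup.normalizer ((sInf (𝔉 T) : Subgroup G) : Set G))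
  (F3 : ∀ T A : Subgroup G, A ∈ 𝔉 S → A ≤ T → T ≤ S → 𝔉 T ⊆ 𝔉 S)
  (F3' : ∀ T A : Subgroup G, A ∈ 𝔉 S → A ≤ T → T ≤ S → A ∈ 𝔉 T)
  (F4 : (𝔉 S).Nonempty)
  (F5 : ∀ B A : Subgroup G, B ≤ S → (S : Subgroup G) ≤ Subgroup.normalizer (B : Set G) →
      A ∈ 𝔉 S → ⁅B, B⁆ ≤ A → ¬ B ≤ Subgroup.normalizer (A : Set G) →
      ∃ K ∈ 𝔉 S, ⁅B, B⁆ ≤ K ∧ A ⊓ B < K ⊓ B ∧ K ⊓ B < B)
  (hst : StabLL p G)

include F1 FN F3 F3' F4 F5 hst in
/-- the case `B = ⟨(B ∩ Z)^G⟩` with `[B,B] ≤ Z` -/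
theorem main_case (B : Subgroup G) [hBn : B.Normal] (hBp : IsPGroup p B)
    (hgen : Subgroup.normalClosure ((B ⊓ sInf (𝔉 S) : Subgroup G) : Set G) = B)
    (hder : ⁅B, B⁆ ≤ sInf (𝔉 S)) : (B ⊓ sInf (𝔉 S)).Normal := by
  have hBS : B ≤ S := hBp.le_sylow_of_normal S
  have hSB : (S : Subgroup G) ≤ Subgroup.normalizer (B : Set G) := Subgroup.le_normalizer_of_normal
  have hBZ : ∀ A ∈ 𝔉 S, ⁅B, B⁆ ≤ A := fun A hA => hder.trans (sInf_le hA)
  set L := LL p B with hL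
  set T := (S : Subgroup G) ⊓ L with hT
  have hTS : T ≤ S := inf_le_left
  -- members normalized by `B` lie in `T`
  have claim4 : ∀ A ∈ 𝔉 S, B ≤ Subgroup.normalizer (A : Set G) → A ≤ T := by
    intro A hA hBA
    exact le_inf (F1 A hA).1 (le_LL_of_le_normalizer' B hBp hst A (F1 A hA).2
      (S.2.to_le (F1 A hA).1) hBA)
  -- some member lies in `T`
  obtain ⟨A₀, hA₀, -, hA₀'⟩ := max_arg S 𝔉 F5 B hBS hSB hBZ Set.univ
    (by obtain ⟨A, hA⟩ := F4; exact ⟨A, hA, trivial⟩)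
  have hA₀T : A₀ ≤ T := by
    rcases hA₀' with h | ⟨K, _, hK, _⟩
    · exact claim4 A₀ hA₀ h
    · exact absurd trivial hK
  have claim5 : 𝔉 T ⊆ 𝔉 S := F3 T A₀ hA₀ hA₀T hTS
  have hZZT : sInf (𝔉 S) ≤ sInf (𝔉 T) := sInf_le_sInf claim5
  -- `B ⊓ Z_T` is normal
  have claim7 : (B ⊓ sInf (𝔉 T)).Normal := by
    rw [← Subgroup.normalizer_eq_top_iff, eq_top_iff, ← frattini_LL B S]
    apply sup_le
    · refine le_trans (le_inf ?_ (FN T hTS)) Subgroup.inf_normalizer_le_normalizer_inf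
      rw [Subgroup.normalizer_eq_top B]
      exact le_top
    · refine le_trans ?_ (Subgroup.centralizer_le_normalizer _)
      apply Subgroup.centralizer_le
      exact inf_le_left
  have claim8 : B ≤ sInf (𝔉 T) := by
    have h1 : Subgroup.normalClosure ((B ⊓ sInf (𝔉 S) : Subgroup G) : Set G) ≤ B ⊓ sInf (𝔉 T) :=
      Subgroup.normalClosure_le_normal (inf_le_inf_left B hZZT)
    rw [hgen] at h1
    exact h1.trans inf_le_right
  -- every member lies in `T`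
  have claim9 : ∀ A ∈ 𝔉 S, A ≤ T := by
    by_contra hcon
    push Not at hcon
    obtain ⟨A₁, hA₁, hA₁T⟩ := hcon
    obtain ⟨A, hA, hAT, hA'⟩ := max_arg S 𝔉 F5 B hBS hSB hBZ {A | ¬ A ≤ T} ⟨A₁, hA₁, hA₁T⟩
    rcases hA' with h | ⟨K, hK, hKT, hKB⟩
    · exact hAT (claim4 A hA h)
    · have hKT' : K ≤ T := by
        by_contra h
        exact hKT h
      have h1 : K ∈ 𝔉 T := F3' T K hK hKT' hTS
      have h2 : B ≤ K := claim8.trans (sInf_le h1)
      exact hKB.ne (inf_eq_right.mpr h2)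
  have claim10 : sInf (𝔉 T) ≤ sInf (𝔉 S) :=
    sInf_le_sInf (fun A hA => F3' T A hA (claim9 A hA) hTS)
  have : sInf (𝔉 S) = sInf (𝔉 T) := le_antisymm hZZT claim10
  rw [this]
  exact claim7

include F1 FN F3 F3' F4 F5 hst in
theorem main : ∀ n : ℕ, ∀ B : Subgroup G, B.Normal → IsPGroup p B →
    Nat.card B = n → (B ⊓ sInf (𝔉 S)).Normal := by
  intro n
  induction n using Nat.strong_induction_on with
  | _ n ih =>
  intro B hBn hBp hcard
  have hB₁B : Subgroup.normalClosure ((B ⊓ sInf (𝔉 S) : Subgroup G) : Set G) ≤ B :=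
    Subgroup.normalClosure_le_normal inf_le_left
  by_cases hB₁ : Subgroup.normalClosure ((B ⊓ sInf (𝔉 S) : Subgroup G) : Set G) = B
  · by_cases hbot : B = ⊥
    · rw [hbot, bot_inf_eq]
      infer_instance
    · have hlt := derived_lt B hBp hbot
      have hY : (⁅B, B⁆ ⊓ sInf (𝔉 S)).Normal :=
        ih _ (hcard ▸ card_lt_of_lt hlt) ⁅B, B⁆ inferInstance (hBp.to_le hlt.le) rfl
      have hBS : B ≤ S := hBp.le_sylow_of_normal S
      have hSZ : (S : Subgroup G) ≤ Subgroup.normalizer ((sInf (𝔉 S) : Subgroup G) : Set G) :=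
        Subgroup.le_normalizer.trans (FN S le_rfl)
      have hder : ⁅Subgroup.normalClosure ((B ⊓ sInf (𝔉 S) : Subgroup G) : Set G), B⁆ ≤
          ⁅B, B⁆ ⊓ sInf (𝔉 S) := by
        have h := commutator_closure_le
          (s := Group.conjugatesOfSet ((B ⊓ sInf (𝔉 S) : Subgroup G) : Set G)) (t := (B : Set G))
          (N := ⁅B, B⁆ ⊓ sInf (𝔉 S)) (by rw [Subgroup.normalizer_eq_top]; exact le_top)
          (by rw [Subgroup.normalizer_eq_top]; exact le_top) ?_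
        · rwa [Subgroup.closure_eq] at h
        · intro x hx y hy
          obtain ⟨z, hz, hzx⟩ := Group.mem_conjugatesOfSet_iff.mp hx
          obtain ⟨c, rfl⟩ := isConj_iff.mp hzx
          have hy' : c⁻¹ * y * c ∈ B := by
            have := hBn.conj_mem y hy c⁻¹
            rwa [inv_inv] at this
          have h1 : ⁅c * z * c⁻¹, y⁆ = c * ⁅z, c⁻¹ * y * c⁆ * c⁻¹ := by
            rw [conjugate_commutatorElement]
            congr 1
            group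
          rw [h1]
          apply hY.conj_mem
          refine Subgroup.mem_inf.mpr ⟨Subgroup.commutator_mem_commutator hz.1 hy', ?_⟩
          have h2 : ⁅z, c⁻¹ * y * c⁆ = z * ((c⁻¹ * y * c) * z⁻¹ * (c⁻¹ * y * c)⁻¹) := by
            rw [commutatorElement_def]; group
          rw [h2]
          exact mul_mem hz.2 (conj_mem_of_le_normalizer hSZ (hBS hy') (inv_mem hz.2))
      rw [hB₁] at hder
      exact main_case S 𝔉 F1 FN F3 F3' F4 F5 hst B hBp hB₁ (hder.trans inf_le_right)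
  · have hlt : Subgroup.normalClosure ((B ⊓ sInf (𝔉 S) : Subgroup G) : Set G) < B :=
      lt_of_le_of_ne hB₁B hB₁
    have h1 := ih _ (hcard ▸ card_lt_of_lt hlt) _ Subgroup.normalClosure_normal
      (hBp.to_le hB₁B) rfl
    have h2 : Subgroup.normalClosure ((B ⊓ sInf (𝔉 S) : Subgroup G) : Set G) ⊓ sInf (𝔉 S) =
        B ⊓ sInf (𝔉 S) :=
      le_antisymm (inf_le_inf_right _ hB₁B) (le_inf Subgroup.le_normalClosure inf_le_right)
    rwa [h2] at h1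

include F1 FN F3 F3' F4 F5 hst in
theorem Z_normal (hc : Subgroup.centralizer (Cfsg.pCore p G : Set G) ≤ Cfsg.pCore p G) :
    (sInf (𝔉 S)).Normal := by
  have hQp : IsPGroup p (Cfsg.pCore p G) :=
    Sylow.sSup_of_normal _ (fun _ h => h.2) (fun _ h => h.1)
  have hQS : Cfsg.pCore p G ≤ S := hQp.le_sylow_of_normal S
  have hSZ : (S : Subgroup G) ≤ Subgroup.normalizer ((sInf (𝔉 S) : Subgroup G) : Set G) :=
    Subgroup.le_normalizer.trans (FN S le_rfl)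
  obtain ⟨A, hA⟩ := F4
  have hZA : sInf (𝔉 S) ≤ A := sInf_le hA
  have hAc := (F1 A hA).2
  have hZc : IsMulCommutative (sInf (𝔉 S) : Subgroup G) :=
    .of_setLike_mul_comm fun a ha b hb => setLike_mul_comm (hZA ha) (hZA hb)
  have h1 : sInf (𝔉 S) ≤ LL p (Cfsg.pCore p G) :=
    le_LL_of_le_normalizer' _ hQp hst _ hZc (S.2.to_le (hZA.trans (F1 A hA).1)) (hQS.trans hSZ)
  have h2 : IsPGroup p (LL p (Cfsg.pCore p G)) := by
    unfold LL
    apply IsPGroup.comap_of_ker_isPGroup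
    · exact Sylow.sSup_of_normal _ (fun _ h => h.2) (fun _ h => h.1)
    · rw [QuotientGroup.ker_mk']
      exact hQp.to_le hc
  have h3 : LL p (Cfsg.pCore p G) ≤ Cfsg.pCore p G := le_sSup ⟨inferInstance, h2⟩
  have h4 := main S 𝔉 F1 FN F3 F3' ⟨A, hA⟩ F5 hst _ (Cfsg.pCore p G) inferInstance hQp rfl
  rwa [inf_eq_right.mpr (h1.trans h3)] at h4

end abstract

end Cfsg.Agent.Lib.Helper14ZJ2
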