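import Mathlib
import Cfsg.Prelude.Def_Transfer
import Cfsg.Agent.Lib.Helper3PGroup
import Cfsg.Agent.Lib.Helper3Class2

set_option autoImplicit false

namespace Cfsg.Agent.Lib.Helper3Extraspecial

open scoped commutatorElement
open Cfsg.Agent.Lib.Helper3PGroup Cfsg.Agent.Lib.Helper3Class2

universe u

section
variable {P : Type u} [Group P]

/-- in a group whose commutators are central, `g ↦ ⁅g, x⁆` is a homomorphism to the centre. -/
def commHom (hcl : ∀ a b : P, ⁅a, b⁆ ∈ Subgroup.center P) (x : P) : P →* Subgroup.center P where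
  toFun g := ⟨⁅g, x⁆, hcl g x⟩
  map_one' := by apply Subtype.ext; simp
  map_mul' := by
    intro g h
    apply Subtype.ext
    have hc' := Subgroup.mem_center_iff.mp (hcl h x)
    change ⁅g * h, x⁆ = ⁅g, x⁆ * ⁅h, x⁆
    have h1 : ⁅g * h, x⁆ = g * ⁅h, x⁆ * g⁻¹ * ⁅g, x⁆ := by
      simp only [commutatorElement_def]; group
    rw [h1, hc' g, mul_assoc _ g, mul_inv_cancel, mul_one]
    exact (hc' _).symm

theorem commHom_apply (hcl : ∀ a b : P, ⁅a, b⁆ ∈ Subgroup.center P) (x g : P) :
    ((commHom hcl x g : Subgroup.center P) : P) = ⁅g, x⁆ := rfl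

theorem mem_ker_commHom (hcl : ∀ a b : P, ⁅a, b⁆ ∈ Subgroup.center P) (x g : P) :
    g ∈ (commHom hcl x).ker ↔ g * x = x * g := by
  rw [MonoidHom.mem_ker, Subtype.ext_iff, commHom_apply, Subgroup.coe_one,
    commutatorElement_eq_one_iff_mul_comm]

end

variable {P : Type u} [Group P] [Finite P] {p : ℕ} [hp : Fact p.Prime]

omit [Finite P] hp in
theorem comm_central (h : Cfsg.IsExtraspecial p P) (a b : P) : ⁅a, b⁆ ∈ Subgroup.center P := by
  rw [← h.1.2.2]
  exact Subgroup.commutator_mem_commutator (Subgroup.mem_top a) (Subgroup.mem_top b)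

theorem exists_noncomm (h : Cfsg.IsExtraspecial p P) : ∃ x y : P, ⁅x, y⁆ ≠ 1 := by
  by_contra hcon
  push Not at hcon
  have h1 : commutator P = ⊥ := by
    rw [commutator_eq_closure, Subgroup.closure_eq_bot_iff]
    rintro _ ⟨a, b, rfl⟩
    exact hcon a b
  have h2 := h.2
  rw [← h.1.2.2, h1, Subgroup.card_bot] at h2
  exact hp.out.one_lt.ne h2

/-- The centralizer of a hyperbolic pair. -/
def hypCompl (x y : P) : Subgroup P :=
  Subgroup.centralizer ({x, y} : Set P)

omit [Finite P] in
theorem mem_hypCompl {x y g : P} : g ∈ hypCompl x y ↔ g * x = x * g ∧ g * y = y * g := by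
  unfold hypCompl
  rw [Subgroup.mem_centralizer_iff]
  constructor
  · intro h
    exact ⟨(h x (by simp)).symm, (h y (by simp)).symm⟩
  · rintro ⟨h1, h2⟩ z hz
    rcases hz with rfl | rfl
    · exact h1.symm
    · exact h2.symm

/-- every element is a product of powers of `y`, `x` and an element of the complement -/
theorem exists_decomp (h : Cfsg.IsExtraspecial p P) {x y : P} (hxy : ⁅x, y⁆ ≠ 1) (g : P) :
    ∃ (i j : ℤ), (y ^ i * x ^ j)⁻¹ * g ∈ hypCompl x y := by
  have hcl := comm_central h
  have hZ := h.2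
  have hyx : ⁅y, x⁆ ≠ 1 := by
    intro h1
    apply hxy
    rw [← commutatorElement_inv, h1, inv_one]
  have h1 : (commHom hcl x y) ≠ 1 := fun h2 => hyx (congrArg Subtype.val h2)
  have h2 : (commHom hcl y x) ≠ 1 := fun h2 => hxy (congrArg Subtype.val h2)
  obtain ⟨i, hi⟩ := Subgroup.mem_zpowers_iff.mp
    (mem_zpowers_of_prime_card hZ h1 (g' := commHom hcl x g))
  obtain ⟨j, hj⟩ := Subgroup.mem_zpowers_iff.mp
    (mem_zpowers_of_prime_card hZ h2 (g' := commHom hcl y g))
  have hxx : commHom hcl x x = 1 := by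
    apply Subtype.ext; rw [commHom_apply]; simp
  have hyy : commHom hcl y y = 1 := by
    apply Subtype.ext; rw [commHom_apply]; simp
  refine ⟨i, j, ?_⟩
  rw [mem_hypCompl, ← mem_ker_commHom hcl, ← mem_ker_commHom hcl, MonoidHom.mem_ker,
    MonoidHom.mem_ker]
  constructor
  · rw [map_mul, map_inv, map_mul, map_zpow, map_zpow, hxx, one_zpow, mul_one, hi, inv_mul_cancel]
  · rw [map_mul, map_inv, map_mul, map_zpow, map_zpow, hyy, one_zpow, one_mul, hj, inv_mul_cancel]

theorem card_eq_hypCompl (h : Cfsg.IsExtraspecial p P) {x y : P} (hxy : ⁅x, y⁆ ≠ 1) :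
    Nat.card P = Nat.card (hypCompl x y) * p ^ 2 := by
  have hcl := comm_central h
  have hZ := h.2
  have hyx : ⁅y, x⁆ ≠ 1 := by
    intro h1
    apply hxy
    rw [← commutatorElement_inv, h1, inv_one]
  have h1 : (commHom hcl x y) ≠ 1 := fun h2 => hyx (congrArg Subtype.val h2)
  have h2 : (commHom hcl y x) ≠ 1 := fun h2 => hxy (congrArg Subtype.val h2)
  have hxx : commHom hcl x x = 1 := by
    apply Subtype.ext; rw [commHom_apply]; simp
  have hyy : commHom hcl y y = 1 := by
    apply Subtype.ext; rw [commHom_apply]; simp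
  let θ : P →* Subgroup.center P × Subgroup.center P := (commHom hcl x).prod (commHom hcl y)
  have hker : θ.ker = hypCompl x y := by
    ext g
    rw [MonoidHom.mem_ker, mem_hypCompl, ← mem_ker_commHom hcl, ← mem_ker_commHom hcl,
      MonoidHom.mem_ker, MonoidHom.mem_ker, MonoidHom.prod_apply, Prod.mk_eq_one]
  have hsurj : θ.range = ⊤ := by
    rw [eq_top_iff]
    rintro ⟨a, b⟩ _
    obtain ⟨i, hi⟩ := Subgroup.mem_zpowers_iff.mp (mem_zpowers_of_prime_card hZ h1 (g' := a))
    obtain ⟨j, hj⟩ := Subgroup.mem_zpowers_iff.mp (mem_zpowers_of_prime_card hZ h2 (g' := b))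
    refine ⟨y ^ i * x ^ j, ?_⟩
    rw [MonoidHom.prod_apply, map_mul, map_mul, map_zpow, map_zpow, map_zpow, map_zpow, hxx, hyy,
      one_zpow, one_zpow, mul_one, one_mul, hi, hj]
  have e1 := θ.ker.card_mul_index
  rw [Subgroup.index_ker, hsurj, Subgroup.card_top, Nat.card_prod, hZ, hker] at e1
  rw [← e1, sq]

theorem center_le_hypCompl (x y : P) : Subgroup.center P ≤ hypCompl x y :=
  Subgroup.center_le_centralizer _

theorem mem_center_hypCompl_iff (h : Cfsg.IsExtraspecial p P) {x y : P} (hxy : ⁅x, y⁆ ≠ 1)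
    (w : hypCompl x y) : w ∈ Subgroup.center (hypCompl x y) ↔ (w : P) ∈ Subgroup.center P := by
  constructor
  · intro hw
    rw [Subgroup.mem_center_iff] at hw ⊢
    intro g
    obtain ⟨i, j, hij⟩ := exists_decomp h hxy g
    have hwx := (mem_hypCompl.mp w.2).1
    have hwy := (mem_hypCompl.mp w.2).2
    have c1 : Commute (w : P) (y ^ i * x ^ j) :=
      ((show Commute (w : P) y from hwy).zpow_right i).mul_right
        ((show Commute (w : P) x from hwx).zpow_right j)
    have c2 : Commute (w : P) ((y ^ i * x ^ j)⁻¹ * g) := by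
      have := hw ⟨_, hij⟩
      exact (congrArg Subtype.val this).symm
    have c3 := c1.mul_right c2
    rw [mul_inv_cancel_left] at c3
    exact c3.eq.symm
  · intro hw
    rw [Subgroup.mem_center_iff] at hw ⊢
    intro g
    exact Subtype.ext (hw g)

theorem card_center_hypCompl (h : Cfsg.IsExtraspecial p P) {x y : P} (hxy : ⁅x, y⁆ ≠ 1) :
    Nat.card (Subgroup.center (hypCompl x y)) = p := by
  rw [← h.2, ← Subgroup.card_map_of_injective (hypCompl x y).subtype_injective]
  congr 2
  ext w
  constructor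
  · rintro ⟨v, hv, rfl⟩
    exact (mem_center_hypCompl_iff h hxy v).mp hv
  · intro hw
    exact ⟨⟨w, center_le_hypCompl x y hw⟩, (mem_center_hypCompl_iff h hxy _).mpr hw, rfl⟩

/-- The complement of a hyperbolic pair is either the centre or again extraspecial. -/
theorem hypCompl_dichotomy (h : Cfsg.IsExtraspecial p P) {x y : P} (hxy : ⁅x, y⁆ ≠ 1) :
    Nat.card (hypCompl x y) = p ∨ Cfsg.IsExtraspecial p (hypCompl x y) := by
  set Q := hypCompl x y with hQ
  have hcardZ := card_center_hypCompl h hxy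
  have hPQ : IsPGroup p Q := h.1.1.to_subgroup Q
  have hcomm_le : commutator Q ≤ Subgroup.center Q := by
    rw [commutator_eq_closure, Subgroup.closure_le]
    rintro _ ⟨a, b, rfl⟩
    rw [SetLike.mem_coe, mem_center_hypCompl_iff h hxy]
    exact comm_central h a b
  by_cases hab : commutator Q = ⊥
  · left
    have htop : Subgroup.center Q = ⊤ := by
      rw [eq_top_iff]
      intro a _
      rw [Subgroup.mem_center_iff]
      intro b
      have : ⁅b, a⁆ ∈ commutator Q :=
        Subgroup.commutator_mem_commutator (Subgroup.mem_top b) (Subgroup.mem_top a)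
      rw [hab, Subgroup.mem_bot, commutatorElement_eq_one_iff_mul_comm] at this
      exact this
    rw [htop, Subgroup.card_top] at hcardZ
    exact hcardZ
  · right
    have hceq : commutator Q = Subgroup.center Q := by
      apply Subgroup.eq_of_le_of_card_ge hcomm_le
      rw [hcardZ]
      have h1 : Nat.card (commutator Q) ∣ p := by
        rw [← hcardZ]; exact Subgroup.card_dvd_of_le hcomm_le
      rcases (Nat.dvd_prime hp.out).mp h1 with h2 | h2
      · exact absurd (Subgroup.card_eq_one.mp h2) hab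
      · exact h2.ge
    refine ⟨⟨hPQ, ?_, hceq⟩, hcardZ⟩
    apply le_antisymm
    · apply frattini_le_of_elementary (p := p) _ hcomm_le
      intro a
      rw [mem_center_hypCompl_iff h hxy, Subgroup.coe_pow, ← h.1.2.1]
      exact pow_mem_frattini h.1.1 _
    · rw [← hceq]
      exact commutator_le_frattini hPQ

theorem card_extraspecial (m : ℕ) : ∀ (P : Type u) [Group P] [Finite P],
    Nat.card P ≤ m → Cfsg.IsExtraspecial p P → ∃ n : ℕ, 1 ≤ n ∧ Nat.card P = p ^ (2 * n + 1) := by
  induction m with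
  | zero =>
    intro P _ _ hm _
    exact absurd hm (by have := Nat.card_pos (α := P); omega)
  | succ m ih =>
    intro P _ _ hm h
    obtain ⟨x, y, hxy⟩ := exists_noncomm h
    have hcard := card_eq_hypCompl h hxy
    rcases hypCompl_dichotomy h hxy with hQ | hQ
    · refine ⟨1, le_rfl, ?_⟩
      rw [hcard, hQ]; ring
    · have hlt : Nat.card (hypCompl x y) ≤ m := by
        have h1 : 1 < p ^ 2 := Nat.one_lt_pow (by norm_num) hp.out.one_lt
        have h2 := Nat.card_pos (α := hypCompl x y)
        nlinarith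
      obtain ⟨n, hn, hn2⟩ := ih _ hlt hQ
      refine ⟨n + 1, by omega, ?_⟩
      rw [hcard, hn2]; ring

end Cfsg.Agent.Lib.Helper3Extraspecial
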