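import Mathlib
import Cfsg.Agent.Lib.Helper3Extraspecial

/-!
# Abelian subgroups of extraspecial groups (helper15, for S5179)
-/

set_option autoImplicit false

namespace Cfsg.Agent.Lib.Helper15ExtraAb

open Cfsg Cfsg.Agent.Lib.Helper3Extraspecial
open scoped commutatorElement

universe u

variable {P : Type u} [Group P] [Finite P] {p : ℕ} [hp : Fact p.Prime]

omit [Finite P] in
theorem gen_center (h : Nat.card (Subgroup.center P) = p) {z : P} (hz : z ∈ Subgroup.center P)
    (hz1 : z ≠ 1) : ∀ ζ ∈ Subgroup.center P, ∃ k : ℕ, ζ = z ^ k := by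
  intro ζ hζ
  have h1 : (⟨ζ, hζ⟩ : Subgroup.center P) ∈ Submonoid.powers (⟨z, hz⟩ : Subgroup.center P) :=
    mem_powers_of_prime_card h (fun h' => hz1 (congrArg Subtype.val h'))
  obtain ⟨k, hk⟩ := h1
  exact ⟨k, (congrArg Subtype.val hk).symm⟩

theorem card_le_ker (hP : IsExtraspecial p P) (x : P) :
    Nat.card P ≤ Nat.card (commHom (comm_central hP) x).ker * p := by
  rw [← Subgroup.card_mul_index (commHom (comm_central hP) x).ker, Subgroup.index_ker]
  apply Nat.mul_le_mul_left
  exact (Subgroup.card_le_card_group _).trans hP.2.le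

/-- in an extraspecial group of order at least `p ^ 4`, every element of a proper abelian subgroup
`A` commutes with some element outside `A`. -/
theorem exists_comm_notMem (hP : IsExtraspecial p P) (h4 : p ^ 4 ≤ Nat.card P)
    (A : Subgroup P) (hab : ∀ a ∈ A, ∀ b ∈ A, a * b = b * a) (hne : A ≠ ⊤) (e : P) :
    ∃ x, x ∉ A ∧ x * e = e * x := by
  have hpp := hp.out
  have hcl := comm_central hP
  by_contra hcon
  push Not at hcon
  have hkA : (commHom hcl e).ker ≤ A := by
    intro x hx
    by_contra hxA
    exact hcon x hxA ((mem_ker_commHom hcl e x).1 hx)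
  have h1 : Nat.card P ≤ Nat.card A * p :=
    (card_le_ker hP e).trans (Nat.mul_le_mul_right _ (Subgroup.card_le_of_le hkA))
  obtain ⟨x₁, hx₁⟩ : ∃ x₁, x₁ ∉ A := by
    by_contra h
    push Not at h
    exact hne (eq_top_iff.2 (fun x _ => h x))
  -- elements of `A` commuting with `x₁` are central
  have hcent : ∀ y ∈ A, y * x₁ = x₁ * y → y ∈ Subgroup.center P := by
    intro y hy hyx
    have hAk : A ≤ (commHom hcl y).ker := by
      intro a ha
      rw [mem_ker_commHom]
      exact hab a ha y hy
    have hx₁k : x₁ ∈ (commHom hcl y).ker := by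
      rw [mem_ker_commHom]
      exact hyx.symm
    have hdvd : Nat.card (commHom hcl y).range ∣ p := by
      rw [← hP.2]
      exact Subgroup.card_subgroup_dvd_card _
    rcases (Nat.dvd_prime hpp).1 hdvd with h | h
    · have htop : (commHom hcl y).ker = ⊤ := by
        rw [← Subgroup.index_eq_one, Subgroup.index_ker, h]
      rw [Subgroup.mem_center_iff]
      intro g
      have : g ∈ (commHom hcl y).ker := by rw [htop]; trivial
      exact (mem_ker_commHom hcl y g).1 this
    · exfalso
      have h2 := Subgroup.card_mul_index (commHom hcl y).ker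
      rw [Subgroup.index_ker, h] at h2
      have h3 : Nat.card (commHom hcl y).ker ≤ Nat.card A := by
        rw [← h2] at h1
        exact Nat.le_of_mul_le_mul_right h1 hpp.pos
      have h4 : A = (commHom hcl y).ker := Subgroup.eq_of_le_of_card_ge hAk h3
      exact hx₁ (h4 ▸ hx₁k)
  let ψ : A →* Subgroup.center P := (commHom hcl x₁).comp A.subtype
  have h2 : Nat.card A ≤ Nat.card ψ.ker * p := by
    rw [← Subgroup.card_mul_index ψ.ker, Subgroup.index_ker]
    apply Nat.mul_le_mul_left
    rw [← hP.2]
    exact Subgroup.card_le_card_group _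
  have h3 : Nat.card ψ.ker ≤ p := by
    rw [← hP.2]
    refine Nat.card_le_card_of_injective
      (fun y : ψ.ker => (⟨(y.1 : P), hcent y.1 y.1.2 (by
        have := y.2
        rw [MonoidHom.mem_ker] at this
        exact (mem_ker_commHom hcl x₁ (y.1 : P)).1 (MonoidHom.mem_ker.2 this))⟩ : Subgroup.center P)) ?_
    intro y y' h
    exact Subtype.ext (Subtype.ext (congrArg (fun t : Subgroup.center P => (t : P)) h))
  have h5 : Nat.card P ≤ p ^ 3 := by
    calc Nat.card P ≤ Nat.card A * p := h1
      _ ≤ (Nat.card ψ.ker * p) * p := Nat.mul_le_mul_right _ h2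
      _ ≤ (p * p) * p := Nat.mul_le_mul_right _ (Nat.mul_le_mul_right _ h3)
      _ = p ^ 3 := by ring
  have h6 : p ^ 3 < p ^ 4 := Nat.pow_lt_pow_right hpp.one_lt (by norm_num)
  omega

end Cfsg.Agent.Lib.Helper15ExtraAb
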