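import Mathlib

/-!
Vocabulary for the coprime Hall--Higman type theorem (Bender--Glauberman 3.1--3.4, Aschbacher 36.2).
-/

set_option autoImplicit false

namespace Cfsg.Agent.Lib.Helper15HHDefs

/-- A set of operators on `W` is irreducible: no proper nonzero invariant subspace. -/
def Irr {K W : Type*} [Field K] [AddCommGroup W] [Module K W] (S : Set (Module.End K W)) : Prop :=
  ∀ E : Submodule K W, (∀ f ∈ S, ∀ w ∈ E, f w ∈ E) → E = ⊥ ∨ E = ⊤

/-- the operators of a subgroup `T` of `GL(W)` together with one more unit `g` -/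
def opSet {K W : Type*} [Field K] [AddCommGroup W] [Module K W]
    (T : Subgroup (Module.End K W)ˣ) (g : (Module.End K W)ˣ) : Set (Module.End K W) :=
  {f | (∃ t ∈ T, f = (t : Module.End K W)) ∨ f = (g : Module.End K W)}

end Cfsg.Agent.Lib.Helper15HHDefs
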