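import Mathlib

/-!
PROJECT 61 (Suzuki 2-groups and ZT-groups), vocabulary.

`HS f` : `P` is a finite 2-group with more than one involution and `f : A →* MulAut P` is an action of a
cyclic group `A` which is regular on the involutions of `P`.
`Inv f M` : the subgroup `M` is `A`-invariant; `res f M hM`, `quo f Y hY` : induced actions on `M`, `P ⧸ Y`.
-/

set_option autoImplicit false

namespace Cfsg.Agent.Lib.Helper61HigDefs

universe u v

variable {P : Type u} {A : Type v} [Group P] [Group A]

structure HS (f : A →* MulAut P) : Prop where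
  fin : Finite P
  two : IsPGroup 2 P
  cyc : IsCyclic A
  reg : ∀ x y : P, x ≠ 1 → x * x = 1 → y ≠ 1 → y * y = 1 → ∃! a : A, f a x = y
  many : ∃ x y : P, x ≠ y ∧ x ≠ 1 ∧ x * x = 1 ∧ y ≠ 1 ∧ y * y = 1

/-- `M` is invariant under the action. -/
def Inv (f : A →* MulAut P) (M : Subgroup P) : Prop := ∀ a : A, ∀ x ∈ M, f a x ∈ M

theorem inv_apply (f : A →* MulAut P) (a : A) (x : P) : f a⁻¹ (f a x) = x := by
  rw [map_inv]; exact (f a).symm_apply_apply x

theorem apply_inv (f : A →* MulAut P) (a : A) (x : P) : f a (f a⁻¹ x) = x := by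
  rw [map_inv]; exact (f a).apply_symm_apply x

/-- restriction of the action to an invariant subgroup -/
def res (f : A →* MulAut P) (M : Subgroup P) (hM : Inv f M) : A →* MulAut M where
  toFun a :=
    { toFun := fun x => ⟨f a (x : P), hM a x x.2⟩
      invFun := fun x => ⟨f a⁻¹ (x : P), hM a⁻¹ x x.2⟩
      left_inv := fun x => Subtype.ext (inv_apply f a x)
      right_inv := fun x => Subtype.ext (apply_inv f a x)
      map_mul' := fun x y => Subtype.ext (map_mul (f a) (x : P) (y : P)) }
  map_one' := by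
    ext x
    simp
  map_mul' a b := by
    ext x
    simp

@[simp] theorem res_apply (f : A →* MulAut P) (M : Subgroup P) (hM : Inv f M) (a : A) (x : M) :
    ((res f M hM a x : M) : P) = f a x := rfl

theorem map_eq_of_inv {f : A →* MulAut P} {Y : Subgroup P} (hY : Inv f Y) (a : A) :
    Y.map ((f a : P ≃* P) : P →* P) = Y := by
  ext x
  constructor
  · rintro ⟨y, hy, rfl⟩
    exact hY a y hy
  · intro hx
    exact ⟨f a⁻¹ x, hY a⁻¹ x hx, apply_inv f a x⟩

/-- induced action on the quotient by an invariant normal subgroup -/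
def quo (f : A →* MulAut P) (Y : Subgroup P) [Y.Normal] (hY : Inv f Y) : A →* MulAut (P ⧸ Y) where
  toFun a := QuotientGroup.congr Y Y (f a) (map_eq_of_inv hY a)
  map_one' := by
    ext x
    induction x using QuotientGroup.induction_on with
    | H x => simp
  map_mul' a b := by
    ext x
    induction x using QuotientGroup.induction_on with
    | H x => simp

@[simp] theorem quo_mk (f : A →* MulAut P) (Y : Subgroup P) [Y.Normal] (hY : Inv f Y) (a : A) (x : P) :
    quo f Y hY a (QuotientGroup.mk x : P ⧸ Y) = (QuotientGroup.mk (f a x) : P ⧸ Y) := rfl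

end Cfsg.Agent.Lib.Helper61HigDefs

namespace Cfsg.Agent.Lib.Helper61HigDefs

universe u v

variable {P : Type u} {A : Type v} [Group P] [Group A]

/-- Coordinates on the group `Z₀ = {z | z * z = 1}` of involutions: an additive bijection `i : Z₀ → F` onto a
field, under which the generator `a₀` of `A` acts as multiplication by `l`.  (`i` is a junk-valued function outside
`Z₀`.) -/
structure ZCoord (f : A →* MulAut P) (F : Type) [Field F] where
  i : P → F
  a₀ : A
  l : F
  gen : ∀ a : A, a ∈ Subgroup.zpowers a₀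
  add : ∀ z z' : P, z * z = 1 → z' * z' = 1 → i (z * z') = i z + i z'
  inj : ∀ z : P, z * z = 1 → i z = 0 → z = 1
  surj : ∀ t : F, ∃ z : P, z * z = 1 ∧ i z = t
  equi : ∀ z : P, z * z = 1 → i (f a₀ z) = l * i z

/-- The hypotheses on the subgroup `D` (homocyclic of exponent 4, `D / Z₀` central in `P / Z₀`, centralised by
all squares). -/
structure DH (f : A →* MulAut P) (D : Subgroup P) : Prop where
  inv : Inv f D
  comm : ∀ d ∈ D, ∀ d' ∈ D, d * d' = d' * d
  sq : ∀ d ∈ D, (d * d) * (d * d) = 1
  cen : ∀ d ∈ D, ∀ g : P, (d⁻¹ * g⁻¹ * d * g) * (d⁻¹ * g⁻¹ * d * g) = 1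
  ne : ∃ d ∈ D, d * d ≠ 1
  sqc : ∀ d ∈ D, ∀ g : P, (g * g) * d = d * (g * g)
  invol : ∀ z : P, z * z = 1 → z ∈ D

/-- `M` is an invariant subgroup properly containing `C` and `A` is transitive on the non-trivial cosets of `C`
in `M`. -/
structure RegOver (f : A →* MulAut P) (C M : Subgroup P) : Prop where
  inv : Inv f M
  le : C ≤ M
  ne : ∃ g ∈ M, g ∉ C
  tr : ∀ g ∈ M, ∀ g' ∈ M, g ∉ C → g' ∉ C → ∃ a : A, g'⁻¹ * f a g ∈ C

end Cfsg.Agent.Lib.Helper61HigDefs
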