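import Mathlib
import Cfsg.Agent.Lib.Helper61HigDefs

/-!
PROJECT 61, piece `basic`.
-/

set_option autoImplicit false

namespace Cfsg.Agent.Lib.Helper3HigBasic

open Subgroup
open Cfsg.Agent.Lib.Helper61HigDefs

universe u v

variable {P : Type u} {A : Type v} [Group P] [Group A] {f : A →* MulAut P}

/-- a power of a non-identity element is an involution -/
theorem exists_invol_pow (h : HS f) {x : P} (hx : x ≠ 1) :
    ∃ k : ℕ, x ^ k ≠ 1 ∧ x ^ k * x ^ k = 1 := by
  obtain ⟨m, hm⟩ := (IsPGroup.iff_orderOf.mp h.two) x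
  have hm0 : m ≠ 0 := by
    rintro rfl
    rw [pow_zero, orderOf_eq_one_iff] at hm
    exact hx hm
  obtain ⟨m', rfl⟩ : ∃ m', m = m' + 1 := ⟨m - 1, by omega⟩
  refine ⟨2 ^ m', ?_, ?_⟩
  · apply pow_ne_one_of_lt_orderOf (by positivity)
    rw [hm]
    exact Nat.pow_lt_pow_right (by norm_num) (Nat.lt_succ_self m')
  · rw [← pow_add, ← two_mul, ← pow_succ', ← hm, pow_orderOf_eq_one]

theorem invol_central (h : HS f) {z : P} (hz : z * z = 1) (x : P) : z * x = x * z := by
  by_cases hz1 : z = 1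
  · rw [hz1, one_mul, mul_one]
  have := h.fin
  have hnt : Nontrivial P := ⟨⟨z, 1, hz1⟩⟩
  have hc := h.two.center_nontrivial
  obtain ⟨c, hc1⟩ := exists_ne (1 : center P)
  have hc1' : (c : P) ≠ 1 := fun hh => hc1 (Subtype.ext hh)
  obtain ⟨k, hk1, hk2⟩ := exists_invol_pow h hc1'
  have hkc : (c : P) ^ k ∈ center P := (center P).pow_mem c.2 k
  obtain ⟨a, ha, -⟩ := h.reg _ z hk1 hk2 hz1 hz
  rw [← ha]
  have h1 := mem_center_iff.mp hkc (f a⁻¹ x)
  have h2 := congrArg (f a) h1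
  rw [map_mul, map_mul, apply_inv] at h2
  exact h2.symm

theorem fpf (h : HS f) {a : A} {x : P} (hx : x ≠ 1) (hax : f a x = x) : a = 1 := by
  obtain ⟨k, hk1, hk2⟩ := exists_invol_pow h hx
  obtain ⟨b, -, hb⟩ := h.reg _ _ hk1 hk2 hk1 hk2
  have h1 : a = b := hb a (by show f a (x ^ k) = x ^ k; rw [map_pow, hax])
  have h2 : (1 : A) = b := hb 1 (by show f 1 (x ^ k) = x ^ k; rw [map_one]; rfl)
  rw [h1, ← h2]

theorem invol_mem (h : HS f) {M : Subgroup P} (hM : Inv f M) (hne : M ≠ ⊥) {z : P} (hz : z * z = 1) :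
    z ∈ M := by
  by_cases hz1 : z = 1
  · rw [hz1]; exact M.one_mem
  obtain ⟨x, hxM, hx1⟩ : ∃ x ∈ M, x ≠ 1 := by
    by_contra hcon
    push Not at hcon
    exact hne ((Subgroup.eq_bot_iff_forall M).mpr hcon)
  obtain ⟨k, hk1, hk2⟩ := exists_invol_pow h hx1
  obtain ⟨a, ha, -⟩ := h.reg _ z hk1 hk2 hz1 hz
  rw [← ha]
  exact hM a _ (M.pow_mem hxM k)

theorem res_HS (h : HS f) {M : Subgroup P} (hM : Inv f M) (hne : M ≠ ⊥) : HS (res f M hM) := by
  have := h.fin
  refine ⟨inferInstance, h.two.to_subgroup M, h.cyc, ?_, ?_⟩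
  · intro x y hx1 hx2 hy1 hy2
    obtain ⟨a, ha, hu⟩ := h.reg (x : P) (y : P) (fun hh => hx1 (Subtype.ext hh))
      (congrArg Subtype.val hx2) (fun hh => hy1 (Subtype.ext hh)) (congrArg Subtype.val hy2)
    exact ⟨a, Subtype.ext ha, fun b hb => hu b (congrArg Subtype.val hb)⟩
  · obtain ⟨x, y, hxy, hx1, hx2, hy1, hy2⟩ := h.many
    refine ⟨⟨x, invol_mem h hM hne hx2⟩, ⟨y, invol_mem h hM hne hy2⟩, ?_, ?_, Subtype.ext hx2, ?_,
      Subtype.ext hy2⟩
    · intro hh; exact hxy (congrArg Subtype.val hh)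
    · intro hh; exact hx1 (congrArg Subtype.val hh)
    · intro hh; exact hy1 (congrArg Subtype.val hh)

theorem finite_A (h : HS f) : Finite A := by
  have := h.fin
  obtain ⟨x, -, -, hx1, hx2, -, -⟩ := h.many
  apply Finite.of_injective (fun a : A => f a x)
  intro a b hab
  have hab' : f a x = f b x := hab
  have hb1 : f b x ≠ 1 := fun hh => hx1 (by simpa using hh)
  have hb2 : f b x * f b x = 1 := by rw [← map_mul, hx2, map_one]
  obtain ⟨c, -, hc⟩ := h.reg x (f b x) hx1 hx2 hb1 hb2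
  rw [hc a hab', hc b rfl]

theorem card_invol (h : HS f) : Nat.card {z : P // z * z = 1} = Nat.card A + 1 := by
  have := h.fin
  have := finite_A h
  obtain ⟨x, -, -, hx1, hx2, -, -⟩ := h.many
  rw [← Finite.card_option]
  symm
  apply Nat.card_congr
  refine Equiv.ofBijective (fun o : Option A => match o with
    | none => ⟨1, one_mul 1⟩
    | some a => ⟨f a x, by rw [← map_mul, hx2, map_one]⟩) ⟨?_, ?_⟩
  · have hne : ∀ a : A, f a x ≠ 1 := fun a hh => hx1 (by simpa using hh)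
    rintro (_ | a) (_ | b) hab
    · rfl
    · exact absurd (congrArg Subtype.val hab).symm (hne b)
    · exact absurd (congrArg Subtype.val hab) (hne a)
    · have hab' : f a x = f b x := congrArg Subtype.val hab
      have hb2 : f b x * f b x = 1 := by rw [← map_mul, hx2, map_one]
      obtain ⟨c, -, hc⟩ := h.reg x (f b x) hx1 hx2 (hne b) hb2
      rw [hc a hab', hc b rfl]
  · rintro ⟨z, hz⟩
    by_cases hz1 : z = 1
    · exact ⟨none, Subtype.ext hz1.symm⟩
    · obtain ⟨a, ha, -⟩ := h.reg x z hx1 hx2 hz1 hz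
      exact ⟨some a, Subtype.ext ha⟩

/-- the subgroup of all `z` with `z * z = 1` -/
def Z0 (h : HS f) : Subgroup P where
  carrier := {z | z * z = 1}
  mul_mem' := by
    intro a b ha hb
    show a * b * (a * b) = 1
    calc a * b * (a * b) = a * (b * a) * b := by group
      _ = a * (a * b) * b := by rw [invol_central h hb a]
      _ = (a * a) * (b * b) := by group
      _ = 1 := by rw [show a * a = 1 from ha, show b * b = 1 from hb, one_mul]
  one_mem' := one_mul 1
  inv_mem' := by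
    intro a ha
    show a⁻¹ * a⁻¹ = 1
    rw [← mul_inv_rev, show a * a = 1 from ha, inv_one]

theorem mem_Z0 (h : HS f) {z : P} : z ∈ Z0 h ↔ z * z = 1 := Iff.rfl

theorem card_Z0 (h : HS f) : Nat.card (Z0 h) = Nat.card A + 1 := card_invol h

theorem exists_q (h : HS f) : ∃ n : ℕ, 2 ≤ n ∧ Nat.card A + 1 = 2 ^ n := by
  have := h.fin
  have := finite_A h
  obtain ⟨n, hn⟩ := IsPGroup.iff_card.mp (h.two.to_subgroup (Z0 h))
  rw [card_Z0] at hn
  refine ⟨n, ?_, hn⟩
  obtain ⟨x, y, hxy, hx1, hx2, hy1, hy2⟩ := h.many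
  obtain ⟨a, ha, -⟩ := h.reg x y hx1 hx2 hy1 hy2
  have ha1 : a ≠ 1 := by
    rintro rfl
    rw [map_one] at ha
    exact hxy ha
  have hnt : Nontrivial A := ⟨⟨a, 1, ha1⟩⟩
  have h2 : 1 < Nat.card A := Finite.one_lt_card
  by_contra hlt
  have : n = 0 ∨ n = 1 := by omega
  rcases this with rfl | rfl
  · simp at hn; omega
  · simp at hn; omega

theorem fpf_coset (h : HS f) {C : Subgroup P} (hC : Inv f C) {a : A} {g : P} (hg : g ∉ C)
    (hag : g⁻¹ * f a g ∈ C) : a = 1 := by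
  have := h.fin
  by_contra ha
  have hinj : ∀ x y : P, x⁻¹ * f a x = y⁻¹ * f a y → x = y := by
    intro x y hxy
    by_contra hne
    apply ha
    apply fpf h (x := y * x⁻¹)
    · intro hh
      exact hne (eq_of_mul_inv_eq_one hh).symm
    · rw [map_mul, map_inv]
      calc f a y * (f a x)⁻¹ = y * (y⁻¹ * f a y) * (f a x)⁻¹ := by group
        _ = y * (x⁻¹ * f a x) * (f a x)⁻¹ := by rw [hxy]
        _ = y * x⁻¹ := by group
  let φ : C → C := fun c => ⟨(c : P)⁻¹ * f a c, C.mul_mem (C.inv_mem c.2) (hC a c c.2)⟩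
  have hφ : Function.Injective φ := by
    intro c c' hcc
    exact Subtype.ext (hinj c c' (congrArg Subtype.val hcc))
  obtain ⟨c, hc⟩ := (Finite.injective_iff_surjective.mp hφ) ⟨_, hag⟩
  have h1 : (c : P) = g := hinj c g (congrArg Subtype.val hc)
  exact hg (h1 ▸ c.2)

end Cfsg.Agent.Lib.Helper3HigBasic
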