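import Mathlib
import Cfsg.Agent.Lib.Helper61HigDefs
import Cfsg.Agent.Lib.Helper3HigBasic

set_option autoImplicit false

namespace Cfsg.Agent.Lib.Helper15HigCab

open Subgroup
open Cfsg.Agent.Lib.Helper61HigDefs Cfsg.Agent.Lib.Helper3HigBasic

universe u v

variable {P : Type u} {A : Type v} [Group P] [Group A] {f : A →* MulAut P}

theorem centralizer_inv {D : Subgroup P} (hD : Inv f D) : Inv f (centralizer (D : Set P)) := by
  intro a x hx
  rw [mem_centralizer_iff]
  intro d hd
  have h1 := mem_centralizer_iff.1 hx (f a⁻¹ d) (hD a⁻¹ d hd)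
  have h2 := congrArg (f a) h1
  rwa [map_mul, map_mul, apply_inv] at h2

theorem centralizer_ne_top (h : HS f) (hZ : ∀ z ∈ center P, z * z = 1) {D : Subgroup P} (hD : DH f D) :
    centralizer (D : Set P) ≠ ⊤ := by
  intro htop
  obtain ⟨d, hd, hd1⟩ := hD.ne
  apply hd1
  apply hZ
  rw [mem_center_iff]
  intro g
  have hg : g ∈ centralizer (D : Set P) := htop ▸ mem_top g
  exact (mem_centralizer_iff.1 hg d hd).symm

/-- `centralizer_comm`, with the assembly `T` (for invariant subgroups) as an extra hypothesis -/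
theorem centralizer_comm (h : HS f) {D : Subgroup P} (hD : DH f D)
    (hT : ∀ (M : Subgroup P) (hM : Inv f M), HS (res f M hM) → (∃ c ∈ center M, orderOf c = 4) →
      ∀ x y : M, x * y = y * x) :
    ∀ c ∈ centralizer (D : Set P), ∀ c' ∈ centralizer (D : Set P), c * c' = c' * c := by
  obtain ⟨d, hd, hd1⟩ := hD.ne
  have hDC : D ≤ centralizer (D : Set P) :=
    fun d hd => mem_centralizer_iff.2 (fun d' hd' => hD.comm d' hd' d hd)
  have hCinv := centralizer_inv (f := f) hD.inv
  have hne : centralizer (D : Set P) ≠ ⊥ := by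
    intro hb
    have : d ∈ (⊥ : Subgroup P) := hb ▸ hDC hd
    rw [mem_bot] at this
    apply hd1
    rw [this, one_mul]
  have hHS := res_HS h hCinv hne
  have hord : orderOf d = 4 := by
    have : orderOf d = 2 ^ (1 + 1) := by
      apply orderOf_eq_prime_pow
      · intro hh
        apply hd1
        rw [← hh]; simp only [pow_succ, pow_zero, one_mul]
      · rw [← hD.sq d hd]
        norm_num
        simp only [pow_succ, pow_zero, one_mul, mul_assoc]
    simpa using this
  have hab := hT _ hCinv hHS ⟨⟨d, hDC hd⟩, by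
    rw [mem_center_iff]
    intro g
    apply Subtype.ext
    exact (mem_centralizer_iff.1 g.2 d hd).symm, by
    rw [← hord]
    exact Subgroup.orderOf_mk d (hDC hd)⟩
  intro c hc c' hc'
  exact congrArg Subtype.val (hab ⟨c, hc⟩ ⟨c', hc'⟩)

end Cfsg.Agent.Lib.Helper15HigCab
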