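import Mathlib
import Cfsg.Agent.Lib.Helper61HigDefs

set_option autoImplicit false

namespace Cfsg.Agent.Lib.Helper15HigOrdfour

open Subgroup
open Cfsg.Agent.Lib.Helper61HigDefs

universe u v

variable {P : Type u} {A : Type v} [Group P] [Group A] {f : A →* MulAut P}

/-- piece `ordfour` -/
theorem mem_D_of_pow_four (h : HS f) {D : Subgroup P} (hD : DH f D) {c : P}
    (hc : c ∈ centralizer (D : Set P)) (hc4 : c ^ 4 = 1) : c ∈ D := by
  have hcc : (c * c) * (c * c) = 1 := by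
    rw [← hc4]; simp only [pow_succ, pow_zero, one_mul, mul_assoc]
  by_cases h1 : c * c = 1
  · exact hD.invol c h1
  obtain ⟨d₀, hd₀, hd₀1⟩ := hD.ne
  obtain ⟨a, ha, -⟩ := h.reg (d₀ * d₀) (c * c) hd₀1 (hD.sq d₀ hd₀) h1 hcc
  have hd : f a d₀ ∈ D := hD.inv a d₀ hd₀
  have hdd : f a d₀ * f a d₀ = c * c := by rw [← map_mul]; exact ha
  have hcomm : f a d₀ * c = c * f a d₀ := mem_centralizer_iff.1 hc _ hd
  have hcomm' : (f a d₀)⁻¹ * c = c * (f a d₀)⁻¹ := by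
    rw [inv_mul_eq_iff_eq_mul, ← mul_assoc, hcomm, mul_assoc, mul_inv_cancel, mul_one]
  have h2 : (c * (f a d₀)⁻¹) * (c * (f a d₀)⁻¹) = 1 := by
    calc (c * (f a d₀)⁻¹) * (c * (f a d₀)⁻¹) = c * ((f a d₀)⁻¹ * c) * (f a d₀)⁻¹ := by group
      _ = (c * c) * ((f a d₀) * (f a d₀))⁻¹ := by rw [hcomm']; group
      _ = 1 := by rw [hdd, mul_inv_cancel]
  have h3 := D.mul_mem (hD.invol _ h2) hd
  rwa [inv_mul_cancel_right] at h3

end Cfsg.Agent.Lib.Helper15HigOrdfour
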