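import Mathlib
import Cfsg.Agent.Lib.Helper61HigDefs
import Cfsg.Agent.Lib.Helper3HigBasic

set_option autoImplicit false

namespace Cfsg.Agent.Lib.Helper15HigPowq

open Subgroup
open Cfsg.Agent.Lib.Helper61HigDefs Cfsg.Agent.Lib.Helper3HigBasic

universe u v

variable {P : Type u} {A : Type v} [Group P] [Group A] {f : A →* MulAut P}

/-- the action of `A` on the non-identity elements -/
@[reducible] def actNe (f : A →* MulAut P) : MulAction A {x : P // x ≠ 1} where
  smul a x := ⟨f a x.1, fun hh => x.2 (by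
    have := (map_eq_one_iff (f a) (f a).injective).1 hh
    exact this)⟩
  one_smul x := Subtype.ext (by
    show f 1 x.1 = x.1
    rw [map_one]; rfl)
  mul_smul a b x := Subtype.ext (by
    show f (a * b) x.1 = f a (f b x.1)
    rw [map_mul]; rfl)

theorem card_dvd (h : HS f) : Nat.card A ∣ Nat.card P - 1 := by
  have := h.fin
  have := finite_A h
  letI := actNe f
  have hst : ∀ x : {x : P // x ≠ 1}, MulAction.stabilizer A x = ⊥ := by
    intro x
    rw [eq_bot_iff]
    intro a ha
    rw [MulAction.mem_stabilizer_iff] at ha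
    rw [mem_bot]
    exact fpf h x.2 (congrArg Subtype.val ha)
  have e := MulAction.selfEquivOrbitsQuotientProd hst
  have h1 : Nat.card {x : P // x ≠ 1} = Nat.card P - 1 := by
    classical
    have := Fintype.ofFinite P
    rw [Nat.card_eq_fintype_card, Nat.card_eq_fintype_card, Fintype.card_subtype_compl]
    simp
  rw [← h1, Nat.card_congr e, Nat.card_prod]
  exact Dvd.intro_left _ rfl

theorem card_eq_pow (h : HS f) : ∃ j, Nat.card P = (Nat.card A + 1) ^ j := by
  have := h.fin
  obtain ⟨s, hs⟩ := IsPGroup.iff_card.1 h.two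
  obtain ⟨n, hn2, hn⟩ := exists_q h
  have hA : Nat.card A = 2 ^ n - 1 := by omega
  have hd := card_dvd h
  rw [hs, hA] at hd
  have hg := Nat.pow_sub_one_gcd_pow_sub_one 2 n s
  rw [Nat.gcd_eq_left hd] at hg
  have h1 : (2 : ℕ) ^ n = 2 ^ (Nat.gcd n s) := by
    have a1 : 0 < 2 ^ n := by positivity
    have a2 : 0 < 2 ^ (Nat.gcd n s) := by positivity
    omega
  have h2 : n = Nat.gcd n s := Nat.pow_right_injective (le_refl 2) h1
  have h3 : n ∣ s := by
    rw [h2]; exact Nat.gcd_dvd_right n s
  obtain ⟨j, rfl⟩ := h3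
  exact ⟨j, by rw [hs, hn, pow_mul]⟩

end Cfsg.Agent.Lib.Helper15HigPowq
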