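import Mathlib

/-!
Project 71 part 2, piece R4: number theory.
-/

set_option autoImplicit false

namespace Cfsg.Agent.Lib.Helper15RgR4

theorem aux (d k a t : ℕ) (hd : 2 ≤ d) (hk : 2 ≤ k) (ha : a ∣ d - 1)
    (ht : t ∣ 24) (h : d ^ k = a * t + 1) (h8 : 8 ∣ a * t) :
    k = 2 ∧ (d = 3 ∨ d = 5 ∨ d = 7 ∨ d = 11 ∨ d = 23) := by
  obtain ⟨c, hc⟩ := ha
  have ht24 : t ≤ 24 := Nat.le_of_dvd (by norm_num) ht
  have ht0 : 0 < t := Nat.pos_of_dvd_of_pos ht (by norm_num)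
  -- d^k - 1 = (d-1) * s
  set s := ∑ j ∈ Finset.range k, d ^ j with hs
  have hgeom : (d - 1) * s + 1 = d ^ k := by
    have := Nat.geomSum_eq hd k
    have h1 : 1 ≤ d ^ k := Nat.one_le_pow _ _ (by omega)
    have h2 : (d - 1) ∣ d ^ k - 1 := by
      have := Nat.sub_dvd_pow_sub_pow d 1 k
      simpa using this
    rw [← hs] at this
    rw [this, Nat.mul_div_cancel' h2]
    omega
  have ha0 : 0 < a := by
    rcases Nat.eq_zero_or_pos a with h0 | h0
    · subst h0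
      simp at hc
      omega
    · exact h0
  have hcs : c * s = t := by
    have h1 : (d - 1) * s = a * t := by omega
    rw [hc, mul_assoc] at h1
    exact Nat.eq_of_mul_eq_mul_left ha0 h1
  have hc0 : 0 < c := by
    rcases Nat.eq_zero_or_pos c with h0 | h0
    · subst h0; simp at hcs; omega
    · exact h0
  have hs24 : s ≤ 24 := by
    calc s ≤ c * s := Nat.le_mul_of_pos_left _ hc0
      _ = t := hcs
      _ ≤ 24 := ht24
  have hs_ge : d ^ (k - 1) + 1 ≤ s := by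
    obtain ⟨k', rfl⟩ : ∃ k', k = k' + 2 := ⟨k - 2, by omega⟩
    rw [hs, Finset.sum_range_succ, Finset.sum_range_succ']
    simp only [pow_zero, Nat.add_sub_cancel]
    have : k' + 2 - 1 = k' + 1 := by omega
    rw [this]
    omega
  have hdk : d ^ (k - 1) ≤ 23 := by omega
  have hd23 : d ≤ 23 := by
    calc d = d ^ 1 := (pow_one d).symm
      _ ≤ d ^ (k - 1) := Nat.pow_le_pow_right (by omega) (by omega)
      _ ≤ 23 := hdk
  have hk5 : k ≤ 5 := by
    by_contra hk6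
    have : 2 ^ 5 ≤ d ^ (k - 1) := by
      calc 2 ^ 5 ≤ 2 ^ (k - 1) := Nat.pow_le_pow_right (by norm_num) (by omega)
        _ ≤ d ^ (k - 1) := Nat.pow_le_pow_left hd _
    omega
  have hsdvd : s ∣ 24 := (Dvd.intro_left c hcs).trans ht
  have h8' : 8 ∣ d ^ k - 1 := by
    have : d ^ k - 1 = a * t := by omega
    rw [this]; exact h8
  clear hgeom hcs hs_ge
  interval_cases k <;> interval_cases d <;>
    simp only [hs, Finset.sum_range_succ, Finset.sum_range_zero] at hsdvd hs24 <;> revert hsdvd h8' hdk <;> decide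

theorem num_solv {p e k a t : ℕ} (hp : p.Prime) (he : 0 < e) (hk : 2 ≤ k) (ha : a ∣ p ^ e - 1)
    (ht : t ∣ 24) (h : (p ^ e) ^ k = a * t + 1) (h8 : 8 ∣ a * t) :
    (p ^ e) ^ k = 9 ∨ (p ^ e) ^ k = 25 ∨ (p ^ e) ^ k = 49 ∨ (p ^ e) ^ k = 121 ∨
      (p ^ e) ^ k = 529 := by
  have hd : 2 ≤ p ^ e := by
    calc 2 ≤ p := hp.two_le
      _ = p ^ 1 := (pow_one p).symm
      _ ≤ p ^ e := Nat.pow_le_pow_right hp.pos he
  obtain ⟨rfl, hd'⟩ := aux (p ^ e) k a t hd hk ha ht h h8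
  rcases hd' with h | h | h | h | h <;> rw [h] <;> norm_num

end Cfsg.Agent.Lib.Helper15RgR4
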