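import Cfsg.Prelude.Def_Perm
import Mathlib

set_option autoImplicit false
set_option linter.unusedSectionVars false
set_option linter.unusedVariables false
set_option linter.style.haveILetI false

/-! Semi-affine groups: recognition at the level of permutations of a field. -/

namespace Cfsg.Agent.Helper16Aff

variable {F : Type*} [Field F]

/-- a permutation of a field fixing `0` which normalises the translations and the dilations is
a dilation times a field automorphism -/
theorem semilinear_of_normalizes (π : Equiv.Perm F) (h0 : π 0 = 0)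
    (hadd : ∀ b : F, ∃ b' : F, ∀ k, π (k + b) = π k + b')
    (hmul : ∀ c : F, c ≠ 0 → ∃ c' : F, ∀ k, π (c * k) = c' * π k) :
    ∃ (a : Fˣ) (ψ : F ≃+* F), ∀ k, π k = a * ψ k := by
  have hadd' : ∀ k b, π (k + b) = π k + π b := by
    intro k b
    obtain ⟨b', hb'⟩ := hadd b
    have h1 := hb' 0
    rw [zero_add, h0, zero_add] at h1
    rw [hb' k, h1]
  have ha : π 1 ≠ 0 := by
    intro h
    exact one_ne_zero (π.injective (h.trans h0.symm))
  have hmul' : ∀ c k, π (c * k) * π 1 = π c * π k := by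
    intro c k
    by_cases hc : c = 0
    · subst hc
      rw [zero_mul, h0, zero_mul, zero_mul]
    · obtain ⟨c', hc'⟩ := hmul c hc
      have h1 := hc' 1
      rw [mul_one] at h1
      rw [hc' k, h1]; ring
  let ψ : F ≃+* F :=
    { toFun := fun k => (π 1)⁻¹ * π k
      invFun := fun k => π.symm (π 1 * k)
      left_inv := fun k => by
        show π.symm (π 1 * ((π 1)⁻¹ * π k)) = k
        rw [mul_inv_cancel_left₀ ha, Equiv.symm_apply_apply]
      right_inv := fun k => by
        show (π 1)⁻¹ * π (π.symm (π 1 * k)) = k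
        rw [Equiv.apply_symm_apply, inv_mul_cancel_left₀ ha]
      map_mul' := fun c k => by
        show (π 1)⁻¹ * π (c * k) = ((π 1)⁻¹ * π c) * ((π 1)⁻¹ * π k)
        have := hmul' c k
        field_simp
        linear_combination this
      map_add' := fun c k => by
        show (π 1)⁻¹ * π (c + k) = (π 1)⁻¹ * π c + (π 1)⁻¹ * π k
        rw [hadd', mul_add] }
  refine ⟨Units.mk0 _ ha, ψ, fun k => ?_⟩
  show π k = π 1 * ((π 1)⁻¹ * π k)
  rw [mul_inv_cancel_left₀ ha]

/-- a permutation of a field which normalises the translations, and such that its translate fixing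
`0` normalises the dilations, is semi-affine -/
theorem mem_semiaffine (π : Equiv.Perm F)
    (hadd : ∀ b : F, ∃ b' : F, ∀ k, π (k + b) = π k + b')
    (hmul : ∀ c : F, c ≠ 0 → ∃ c' : F, ∀ k, π (c * k) - π 0 = c' * (π k - π 0)) :
    π ∈ Cfsg.semiaffineGroup F := by
  let π₀ : Equiv.Perm F := π.trans (Equiv.subRight (π 0))
  have hπ₀ : ∀ k, π₀ k = π k - π 0 := fun k => rfl
  obtain ⟨a, ψ, h⟩ := semilinear_of_normalizes π₀ (by rw [hπ₀, sub_self])
    (by
      intro b
      obtain ⟨b', hb'⟩ := hadd b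
      refine ⟨b', fun k => ?_⟩
      rw [hπ₀, hπ₀, hb']; ring)
    (by
      intro c hc
      obtain ⟨c', hc'⟩ := hmul c hc
      exact ⟨c', fun k => by rw [hπ₀, hπ₀, hc']⟩)
  refine ⟨a, π 0, ψ, fun k => ?_⟩
  rw [← h k, hπ₀]; ring

/-- transport of semi-affine permutations along a ring isomorphism -/
theorem semiaffine_transport {K : Type*} [Field K] (ι : F ≃+* K) (π : Equiv.Perm F)
    (hπ : π ∈ Cfsg.semiaffineGroup F) :
    (ι.toEquiv.symm.trans (π.trans ι.toEquiv)) ∈ Cfsg.semiaffineGroup K := by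
  obtain ⟨a, b, φ, h⟩ := hπ
  refine ⟨Units.map (ι : F →* K) a, ι b, (ι.symm.trans φ).trans ι, fun k => ?_⟩
  show ι (π (ι.symm k)) = ι a * ι (φ (ι.symm k)) + ι b
  rw [h, map_add, map_mul]

/-- Artin's theorem applied to a group of automorphisms of a field with `2 ^ q` elements acting
semiregularly off the prime field -/
theorem card_aut_of_semiregular [Fintype F] {q : ℕ} (hF : Fintype.card F = 2 ^ q)
    (Δ : Subgroup (F ≃+* F))
    (hΔ : ∀ ψ ∈ Δ, ψ ≠ 1 → ∀ k : F, ψ k = k → k = 0 ∨ k = 1) :
    Nat.card Δ = 1 ∨ Nat.card Δ = q := by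
  classical
  by_cases hbot : Δ = ⊥
  · left
    rw [hbot, Subgroup.card_bot]
  right
  obtain ⟨ψ₀, hψ₀, hψ₀1⟩ : ∃ ψ ∈ Δ, ψ ≠ 1 := by
    by_contra hc
    push Not at hc
    exact hbot ((Subgroup.eq_bot_iff_forall _).2 hc)
  haveI : Finite (F ≃+* F) := Finite.of_injective (fun ψ : F ≃+* F => (ψ : F → F))
    DFunLike.coe_injective
  letI : Fintype Δ := Fintype.ofFinite _
  have h1 := FixedPoints.finrank_eq_card Δ F
  letI : Fintype (FixedPoints.subfield Δ F) := Fintype.ofFinite _
  have h2 : Fintype.card (FixedPoints.subfield Δ F) = 2 := by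
    rw [← Nat.card_eq_fintype_card, Nat.card_eq_two_iff]
    refine ⟨0, 1, zero_ne_one, ?_⟩
    rw [Set.eq_univ_iff_forall]
    intro k
    have hk : ψ₀ (k : F) = k := k.2 ⟨ψ₀, hψ₀⟩
    rcases hΔ ψ₀ hψ₀ hψ₀1 k hk with h | h
    · left; exact Subtype.ext h
    · right; exact Subtype.ext h
  have h3 := Module.card_eq_pow_finrank (K := FixedPoints.subfield Δ F) (V := F)
  rw [h1, h2, hF] at h3
  rw [Nat.card_eq_fintype_card]
  exact (Nat.pow_right_injective (le_refl 2) h3).symm

end Cfsg.Agent.Helper16Aff
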