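import Cfsg.Prelude.Def_Solvable
import Cfsg.Agent.Lib.Helper1Basic

set_option autoImplicit false

namespace Cfsg.Agent.Lib.Helper1Frob

open Subgroup Pointwise Cfsg Cfsg.Agent.Lib.Helper1Basic

variable {G : Type*} [Group G]

theorem mem_of_conj_mem {H : Subgroup G} (hH : IsFrobeniusComplement H) {g h : G} (hh : h ∈ H)
    (h1 : h ≠ 1) (hg : g⁻¹ * h * g ∈ H) : g ∈ H := by
  by_contra hgH
  have : h ∈ H ⊓ MulAut.conj g • H := ⟨hh, mem_conj_smul.mpr hg⟩
  rw [hH.2.2 g hgH, mem_bot] at this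
  exact h1 this

theorem mem_of_conj_mem' {H : Subgroup G} (hH : IsFrobeniusComplement H) {g h : G} (hh : h ∈ H)
    (h1 : h ≠ 1) (hg : g * h * g⁻¹ ∈ H) : g ∈ H := by
  have := mem_of_conj_mem hH (g := g⁻¹) hh h1 (by simpa using hg)
  simpa using this

theorem not_mem_kernel_iff {H : Subgroup G} {x : G} :
    x ∉ frobeniusKernel H ↔ x ≠ 1 ∧ ∃ g : G, g⁻¹ * x * g ∈ H := by
  unfold frobeniusKernel
  simp only [Set.mem_ofPred_eq, not_or, not_forall, not_not, mem_conj_smul]

theorem mem_kernel_iff {H : Subgroup G} {x : G} :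
    x ∈ frobeniusKernel H ↔ x = 1 ∨ ∀ g : G, g⁻¹ * x * g ∉ H := by
  unfold frobeniusKernel
  simp only [Set.mem_ofPred_eq, mem_conj_smul]

theorem conj_mem_kernel {H : Subgroup G} {x : G} (hx : x ∈ frobeniusKernel H) (a : G) :
    a * x * a⁻¹ ∈ frobeniusKernel H := by
  rw [mem_kernel_iff] at hx ⊢
  rcases hx with rfl | hx
  · left; simp
  · right
    intro g
    have := hx (a⁻¹ * g)
    intro h
    apply this
    have e : (a⁻¹ * g)⁻¹ * x * (a⁻¹ * g) = g⁻¹ * (a * x * a⁻¹) * g := by group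
    rw [e]; exact h

/-- the conjugates of `H \ {1}` are parametrized by `G ⧸ H × (H \ {1})` -/
theorem card_covered [Finite G] {H : Subgroup G} (hH : IsFrobeniusComplement H) (X : Set G)
    (hX : ∀ g x, x ∈ X → g * x * g⁻¹ ∈ X) :
    Nat.card {x : G // x ∈ X ∧ x ∉ frobeniusKernel H} =
      H.index * Nat.card {h : G // h ∈ H ∧ h ≠ 1 ∧ h ∈ X} := by
  rw [index_eq_card, ← Nat.card_prod]
  symm
  let f : (G ⧸ H) × {h : G // h ∈ H ∧ h ≠ 1 ∧ h ∈ X} → {x : G // x ∈ X ∧ x ∉ frobeniusKernel H} :=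
    fun z => ⟨z.1.out * z.2.1 * z.1.out⁻¹, hX _ _ z.2.2.2.2, by
      rw [not_mem_kernel_iff]
      refine ⟨?_, z.1.out, ?_⟩
      · intro h
        apply z.2.2.2.1
        have e : z.2.1 = z.1.out⁻¹ * (z.1.out * z.2.1 * z.1.out⁻¹) * z.1.out := by group
        rw [e, h]; group
      · have e : z.1.out⁻¹ * (z.1.out * z.2.1 * z.1.out⁻¹) * z.1.out = z.2.1 := by group
        rw [e]; exact z.2.2.1⟩
  apply Nat.card_congr (Equiv.ofBijective f ⟨?_, ?_⟩)
  · rintro ⟨q, h, hh, h1, hhX⟩ ⟨q', h', hh', h1', hhX'⟩ heq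
    have heq' : q.out * h * q.out⁻¹ = q'.out * h' * q'.out⁻¹ := congrArg Subtype.val heq
    have h2 : (q.out⁻¹ * q'.out)⁻¹ * h * (q.out⁻¹ * q'.out) ∈ H := by
      have e : (q.out⁻¹ * q'.out)⁻¹ * h * (q.out⁻¹ * q'.out) =
          q'.out⁻¹ * (q.out * h * q.out⁻¹) * q'.out := by group
      rw [e, heq']
      have e2 : q'.out⁻¹ * (q'.out * h' * q'.out⁻¹) * q'.out = h' := by group
      rw [e2]; exact hh'
    have h3 : q.out⁻¹ * q'.out ∈ H := mem_of_conj_mem hH hh h1 h2
    have h4 : q = q' := by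
      rw [← QuotientGroup.out_eq' q, ← QuotientGroup.out_eq' q']
      exact QuotientGroup.eq.mpr h3
    subst h4
    have h5 : h = h' := by
      have := congrArg (fun y => q.out⁻¹ * y * q.out) heq'
      simpa [mul_assoc] using this
    subst h5
    rfl
  · rintro ⟨x, hxX, hxK⟩
    rw [not_mem_kernel_iff] at hxK
    obtain ⟨hx1, g, hg⟩ := hxK
    obtain ⟨h₀, hh₀⟩ := QuotientGroup.mk_out_eq_mul H g
    refine ⟨⟨(g : G ⧸ H), ⟨(g * h₀)⁻¹ * x * (g * h₀), ?_, ?_, ?_⟩⟩, ?_⟩
    · have e : (g * (h₀ : G))⁻¹ * x * (g * h₀) = (h₀ : G)⁻¹ * (g⁻¹ * x * g) * h₀ := by group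
      rw [e]
      exact H.mul_mem (H.mul_mem (H.inv_mem h₀.2) hg) h₀.2
    · intro h
      apply hx1
      have e : x = (g * (h₀ : G)) * ((g * (h₀ : G))⁻¹ * x * (g * h₀)) * (g * (h₀ : G))⁻¹ := by group
      rw [e, h]; group
    · have := hX (g * (h₀ : G))⁻¹ x hxX
      simpa using this
    · apply Subtype.ext
      change (g : G ⧸ H).out * ((g * (h₀ : G))⁻¹ * x * (g * h₀)) * (g : G ⧸ H).out⁻¹ = x
      rw [hh₀]; group

theorem card_kernel_compl [Finite G] {H : Subgroup G} (hH : IsFrobeniusComplement H) :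
    Nat.card {x : G // x ∉ frobeniusKernel H} + H.index = Nat.card G := by
  have h1 := card_covered hH Set.univ (fun _ _ _ => trivial)
  have e1 : Nat.card {x : G // x ∈ Set.univ ∧ x ∉ frobeniusKernel H} =
      Nat.card {x : G // x ∉ frobeniusKernel H} :=
    Nat.card_congr (Equiv.subtypeEquivRight fun x => by simp)
  have e2 : Nat.card {h : G // h ∈ H ∧ h ≠ 1 ∧ h ∈ Set.univ} + 1 = Nat.card H := by
    have e3 : Nat.card {h : G // h ∈ H ∧ h ≠ 1 ∧ h ∈ Set.univ} = Nat.card {h : H // h ≠ 1} := by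
      apply Nat.card_congr
      exact
        { toFun := fun h => ⟨⟨h.1, h.2.1⟩, fun e => h.2.2.1 (congrArg Subtype.val e)⟩
          invFun := fun h => ⟨h.1.1, h.1.2, fun e => h.2 (Subtype.ext e), trivial⟩
          left_inv := fun _ => rfl
          right_inv := fun _ => rfl }
    rw [e3]
    have := Fintype.ofFinite H
    classical
    rw [Nat.card_eq_fintype_card, Nat.card_eq_fintype_card, Fintype.card_subtype_compl,
      Fintype.card_subtype_eq]
    have : 0 < Fintype.card H := Fintype.card_pos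
    omega
  rw [e1] at h1
  rw [h1, ← H.index_mul_card, ← e2]
  ring

theorem card_kernel [Finite G] {H : Subgroup G} (hH : IsFrobeniusComplement H) :
    Nat.card (frobeniusKernel H) = H.index := by
  have h1 := card_kernel_compl hH
  have h2 : Nat.card (frobeniusKernel H) + Nat.card {x : G // x ∉ frobeniusKernel H} = Nat.card G := by
    have := Fintype.ofFinite G
    classical
    change Nat.card {x : G // x ∈ frobeniusKernel H} + _ = _
    rw [Nat.card_eq_fintype_card, Nat.card_eq_fintype_card, Nat.card_eq_fintype_card,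
      Fintype.card_subtype_compl]
    have := Fintype.card_subtype_le (fun x : G => x ∈ frobeniusKernel H)
    omega
  omega

theorem card_dvd_of_free {H Ω : Type*} [Group H] [MulAction H Ω] (S : SubMulAction H Ω)
    (hfree : ∀ x : S, MulAction.stabilizer H x = ⊥) : Nat.card H ∣ Nat.card S := by
  rw [Nat.card_congr (MulAction.selfEquivOrbitsQuotientProd hfree), Nat.card_prod]
  exact dvd_mul_left _ _

theorem card_dvd_index_sub_one [Finite G] {H : Subgroup G} (hH : IsFrobeniusComplement H) :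
    Nat.card H ∣ H.index - 1 := by
  let S : SubMulAction H (G ⧸ H) :=
    { carrier := {q | q ≠ ((1 : G) : G ⧸ H)}
      smul_mem' := by
        intro h q hq he
        apply hq
        have : q = h⁻¹ • ((1 : G) : G ⧸ H) := by rw [← he, inv_smul_smul]
        rw [this]
        change (((h⁻¹ : H) : G) * 1 : G) = ((1 : G) : G ⧸ H)
        rw [mul_one, eq_comm, QuotientGroup.eq, inv_one, one_mul]
        exact (h⁻¹).2 }
  have hfree : ∀ x : S, MulAction.stabilizer H x = ⊥ := by
    rintro ⟨q, hq⟩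
    obtain ⟨g, rfl⟩ := QuotientGroup.mk_surjective q
    rw [eq_bot_iff]
    intro h hh
    rw [mem_bot]
    by_contra h1
    have hh' : (((h : G) * g : G) : G ⧸ H) = (g : G ⧸ H) := congrArg Subtype.val hh
    rw [eq_comm, QuotientGroup.eq, ← mul_assoc] at hh'
    have hg : g ∈ H := mem_of_conj_mem hH h.2 (fun e => h1 (Subtype.ext e)) hh'
    apply hq
    rw [eq_comm, QuotientGroup.eq, inv_one, one_mul]
    exact hg
  have h1 := card_dvd_of_free S hfree
  have h2 : Nat.card S = H.index - 1 := by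
    have := Fintype.ofFinite (G ⧸ H)
    classical
    change Nat.card {q : G ⧸ H // q ≠ ((1 : G) : G ⧸ H)} = _
    rw [index_eq_card, Nat.card_eq_fintype_card, Nat.card_eq_fintype_card, Fintype.card_subtype_compl,
      Fintype.card_subtype_eq]
  rwa [h2] at h1

end Cfsg.Agent.Lib.Helper1Frob
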