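import Cfsg.Agent.Lib.Helper61Feit
import Cfsg.Agent.S0034
import Cfsg.Agent.S0035
import Cfsg.Agent.S0039
import Cfsg.Agent.S0040
import Cfsg.Agent.S0042

set_option autoImplicit false
set_option linter.unusedVariables false
set_option linter.unusedSectionVars false
set_option linter.unusedSimpArgs false

/-! The Frobenius structure of a point stabiliser of a Zassenhaus-type group. -/

namespace Cfsg.Agent.Lib.Helper61Feit2

open Cfsg.Agent.Lib.Helper61Zass Cfsg.Agent.Lib.Helper61Feit

variable {G : Type*} [Group G] [Finite G] {O : Type*} [Finite O] [MulAction G O] {h : ℕ}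

/-- the two point stabiliser inside the point stabiliser -/
abbrev E' (G : Type*) [Group G] {O : Type*} [MulAction G O] (a b : O) :
    Subgroup (MulAction.stabilizer G a) := (stab2 G a b).subgroupOf (MulAction.stabilizer G a)

theorem mem_E' {a b : O} {x : MulAction.stabilizer G a} : x ∈ E' G a b ↔ (x : G) • b = b := by
  rw [Subgroup.mem_subgroupOf, mem_stab2]
  exact ⟨fun h => h.2, fun h => ⟨x.2, h⟩⟩

theorem card_E' {a b : O} : Nat.card (E' G a b) = Nat.card (stab2 G a b) :=
  Nat.card_congr (Subgroup.subgroupOfEquivOfLe inf_le_left).toEquiv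

theorem exists_third (D : TData G O h) (hh : 2 ≤ h) (a b : O) : ∃ c : O, c ≠ a ∧ c ≠ b := by
  classical
  have : Fintype O := Fintype.ofFinite O
  by_contra hcon
  push Not at hcon
  have h1 : (Finset.univ : Finset O) ⊆ {a, b} := by
    intro c _
    by_cases hc : c = a
    · simp [hc]
    · simp [hcon c hc]
  have h2 := Finset.card_le_card h1
  have h3 : ({a, b} : Finset O).card ≤ 2 := Finset.card_le_two
  rw [Finset.card_univ, ← Nat.card_eq_fintype_card, D.card_O] at h2
  omega

theorem frob_compl (D : TData G O h) {a b : O} (hab : a ≠ b)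
    (he : 2 ≤ Nat.card (stab2 G a b)) (hh : 2 ≤ h) :
    Cfsg.IsFrobeniusComplement (E' G a b) := by
  refine ⟨?_, ?_, ?_⟩
  · intro hbot
    have h1 := card_E' (G := G) (a := a) (b := b)
    rw [hbot, Subgroup.card_bot] at h1
    omega
  · intro htop
    obtain ⟨c, hca, hcb⟩ := exists_third D hh a b
    obtain ⟨g, hga, hgb⟩ := exists_smul_pair D hab hca.symm
    have h1 : (⟨g, hga⟩ : MulAction.stabilizer G a) ∈ E' G a b := by rw [htop]; trivial
    rw [mem_E'] at h1
    exact hcb (hgb.symm.trans h1)
  · intro g hg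
    rw [eq_bot_iff]
    intro x hx
    rw [Subgroup.mem_inf] at hx
    obtain ⟨hx1, hx2⟩ := hx
    rw [Subgroup.mem_pointwise_smul_iff_inv_smul_mem] at hx2
    rw [mem_E'] at hx1 hx2 hg
    rw [Subgroup.mem_bot]
    apply Subtype.ext
    have hx3 : (x : G) • ((g : G) • b) = (g : G) • b := by
      have h1 : (((MulAut.conj g)⁻¹ • x : MulAction.stabilizer G a) : G)
          = (g : G)⁻¹ * x * g := by
        rw [← map_inv, MulAut.smul_def, MulAut.conj_apply]
        simp
      rw [h1, mul_smul, mul_smul] at hx2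
      have := congrArg (fun z => (g : G) • z) hx2
      simpa using this
    have hga : (g : G) • a = a := g.2
    apply D.three_point (x : G) a b ((g : G) • b) hab (fun h => hg h.symm) ?_ x.2 hx1 hx3
    intro h1
    apply hab
    have : (g : G) • a = (g : G) • b := by rw [hga]; exact h1
    exact smul_left_cancel _ this

theorem mem_kernel_iff (D : TData G O h) {a b : O} (hab : a ≠ b)
    (u : MulAction.stabilizer G a) :
    u ∈ Cfsg.frobeniusKernel (E' G a b) ↔ (u = 1 ∨ ∀ c : O, (u : G) • c = c → c = a) := by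
  constructor
  · rintro (h1 | h1)
    · exact Or.inl h1
    · right
      intro c hc
      by_contra hca
      obtain ⟨g, hga, hgb⟩ := exists_smul_pair D hab (Ne.symm hca)
      apply h1 ⟨g, hga⟩
      rw [Subgroup.mem_pointwise_smul_iff_inv_smul_mem, mem_E']
      have h2 : (((MulAut.conj (⟨g, hga⟩ : MulAction.stabilizer G a))⁻¹ • u :
          MulAction.stabilizer G a) : G) = g⁻¹ * u * g := by
        rw [← map_inv, MulAut.smul_def, MulAut.conj_apply]
        simp
      rw [h2, mul_smul, mul_smul, hgb, hc, ← hgb, inv_smul_smul]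
  · rintro (h1 | h1)
    · exact Or.inl h1
    · by_cases hu : u = 1
      · exact Or.inl hu
      right
      intro g hg
      rw [Subgroup.mem_pointwise_smul_iff_inv_smul_mem, mem_E'] at hg
      have h2 : (((MulAut.conj g)⁻¹ • u : MulAction.stabilizer G a) : G)
          = (g : G)⁻¹ * u * g := by
        rw [← map_inv, MulAut.smul_def, MulAut.conj_apply]
        simp
      rw [h2, mul_smul, mul_smul] at hg
      have h3 : (u : G) • ((g : G) • b) = (g : G) • b := by
        have := congrArg (fun z => (g : G) • z) hg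
        simpa using this
      have h4 := h1 _ h3
      have hga : (g : G) • a = a := g.2
      apply hab
      have : (g : G) • a = (g : G) • b := by rw [hga, h4]
      exact smul_left_cancel _ this

/-- data of a Frobenius kernel of the point stabiliser -/
structure KData (G : Type*) [Group G] (O : Type*) [MulAction G O] (a : O) (h : ℕ)
    (H : Subgroup G) : Prop where
  le : H ≤ MulAction.stabilizer G a
  card : Nat.card H = h
  fix : ∀ u ∈ H, u ≠ 1 → ∀ c : O, u • c = c → c = a

theorem index_E' (D : TData G O h) {a b : O} (hab : a ≠ b) : (E' G a b).index = h := by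
  have h1 := (E' G a b).card_mul_index
  rw [card_E', card_stab D hab] at h1
  have : 0 < Nat.card (stab2 G a b) := Nat.card_pos
  apply Nat.eq_of_mul_eq_mul_left this
  rw [h1]; ring

theorem coe_subgroupOf_eq (D : TData G O h) {a b : O} (hab : a ≠ b)
    (he : 2 ≤ Nat.card (stab2 G a b)) (hh : 2 ≤ h) {H : Subgroup G} (K : KData G O a h H) :
    ((H.subgroupOf (MulAction.stabilizer G a) : Subgroup _) : Set (MulAction.stabilizer G a))
      = Cfsg.frobeniusKernel (E' G a b) := by
  have hF := frob_compl D hab he hh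
  have h1 := (Cfsg.Agent.S0034.result _ hF).1
  rw [index_E' D hab] at h1
  apply Set.eq_of_subset_of_ncard_le
  · intro u hu
    rw [mem_kernel_iff D hab]
    by_cases hu1 : u = 1
    · exact Or.inl hu1
    · right
      exact K.fix u (Subgroup.mem_subgroupOf.1 hu) (fun h => hu1 (Subtype.ext h))
  · rw [← Nat.card_coe_set_eq, ← Nat.card_coe_set_eq, h1]
    have h2 : Nat.card (H.subgroupOf (MulAction.stabilizer G a)) = Nat.card H :=
      Nat.card_congr (Subgroup.subgroupOfEquivOfLe K.le).toEquiv
    exact (K.card.symm.trans h2.symm).le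
  · exact Set.toFinite _

theorem KData.mem_iff (D : TData G O h) {a b : O} (hab : a ≠ b)
    (he : 2 ≤ Nat.card (stab2 G a b)) (hh : 2 ≤ h) {H : Subgroup G} (K : KData G O a h H)
    (u : G) : u ∈ H ↔ u • a = a ∧ (u = 1 ∨ ∀ c : O, u • c = c → c = a) := by
  constructor
  · intro hu
    refine ⟨K.le hu, ?_⟩
    by_cases hu1 : u = 1
    · exact Or.inl hu1
    · exact Or.inr (K.fix u hu hu1)
  · rintro ⟨hua, hu⟩
    have h1 := coe_subgroupOf_eq D hab he hh K
    have h2 : (⟨u, hua⟩ : MulAction.stabilizer G a) ∈ Cfsg.frobeniusKernel (E' G a b) := by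
      rw [mem_kernel_iff D hab]
      rcases hu with hu | hu
      · exact Or.inl (Subtype.ext hu)
      · exact Or.inr hu
    rw [← h1] at h2
    exact Subgroup.mem_subgroupOf.1 h2

theorem KData.conj_mem (D : TData G O h) {a b : O} (hab : a ≠ b)
    (he : 2 ≤ Nat.card (stab2 G a b)) (hh : 2 ≤ h) {H : Subgroup G} (K : KData G O a h H)
    {g : G} (hg : g • a = a) {u : G} (hu : u ∈ H) : g * u * g⁻¹ ∈ H := by
  rw [K.mem_iff D hab he hh] at hu ⊢
  have hg' : g⁻¹ • a = a := by rw [inv_smul_eq_iff, hg]
  refine ⟨by rw [mul_smul, mul_smul, hg', hu.1, hg], ?_⟩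
  rcases hu.2 with h1 | h1
  · left; rw [h1]; group
  · right
    intro c hc
    have h2 : u • (g⁻¹ • c) = g⁻¹ • c := by
      rw [mul_smul, mul_smul] at hc
      rw [eq_inv_smul_iff]; exact hc
    have h3 := h1 _ h2
    rw [inv_smul_eq_iff, hg] at h3
    exact h3

theorem exists_KData (D : TData G O h) {a b : O} (hab : a ≠ b)
    (he : 2 ≤ Nat.card (stab2 G a b)) (hh : 2 ≤ h) :
    ∃ H : Subgroup G, KData G O a h H ∧ Group.IsNilpotent H := by
  have hF := frob_compl D hab he hh
  obtain ⟨N, hN, hNn, hnil⟩ := Cfsg.Agent.S0042.result _ hF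
  have h1 := (Cfsg.Agent.S0034.result _ hF).1
  rw [index_E' D hab, ← hN] at h1
  let f := N.equivMapOfInjective (MulAction.stabilizer G a).subtype
    (MulAction.stabilizer G a).subtype_injective
  refine ⟨N.map (MulAction.stabilizer G a).subtype, ⟨Subgroup.map_subtype_le N, ?_, ?_⟩, ?_⟩
  · rw [← Nat.card_congr f.toEquiv]
    exact h1
  · rintro _ ⟨u, hu, rfl⟩ hu1 c hc
    have h2 : u ∈ Cfsg.frobeniusKernel (E' G a b) := by rw [← hN]; exact hu
    rw [mem_kernel_iff D hab] at h2
    rcases h2 with h2 | h2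
    · exact absurd (by rw [h2]; rfl) hu1
    · exact h2 c hc
  · exact (Group.isNilpotent_congr f).1 hnil

theorem KData.nilpotent (D : TData G O h) {a b : O} (hab : a ≠ b)
    (he : 2 ≤ Nat.card (stab2 G a b)) (hh : 2 ≤ h) {H : Subgroup G} (K : KData G O a h H) :
    Group.IsNilpotent H := by
  obtain ⟨H', K', hn⟩ := exists_KData D hab he hh
  have : H = H' := by
    ext u
    rw [K.mem_iff D hab he hh, K'.mem_iff D hab he hh]
  rw [this]; exact hn

end Cfsg.Agent.Lib.Helper61Feit2
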