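import Cfsg.Agent.Lib.Helper16AffA
import Cfsg.Agent.Lib.Helper26Fld
import Cfsg.Agent.Lib.Helper61Feit2
import Cfsg.Agent.S0054
import Mathlib

set_option autoImplicit false
set_option linter.unusedSectionVars false
set_option linter.unusedVariables false
set_option linter.style.haveILetI false

/-! Doubly transitive groups of degree `p + 1` with a regular normal subgroup. -/

namespace Cfsg.Agent.Helper16Aff

open Cfsg Cfsg.Agent.Lib.Helper61Feit Cfsg.Agent.Lib.Helper61Feit2 Cfsg.Agent.Lib.Helper26Fld

/-- coordinates on an abelian subgroup `N` normalised by a large abelian group `U` acting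
semiregularly (after helper26's `Datum.exists_coord`) -/
theorem exists_coord' {G : Type*} [Group G] (N U : Subgroup G) [Finite N]
    (hNcomm : ∀ n ∈ N, ∀ n' ∈ N, n * n' = n' * n)
    (hnorm : ∀ d ∈ U, ∀ n ∈ N, d * n * d⁻¹ ∈ N)
    (hUcomm : ∀ d ∈ U, ∀ d' ∈ U, d * d' = d' * d)
    (hfree : ∀ d ∈ U, ∀ n ∈ N, n ≠ 1 → d * n * d⁻¹ = n → d = 1)
    (hcard : Nat.card N ≤ 2 * Nat.card U + 1) (hne : N ≠ ⊥) :
    ∃ (F : Type) (_ : Field F) (_ : Fintype F) (uu : F → G) (χ : U →* Fˣ),
      (∀ k, uu k ∈ N) ∧ (∀ a b, uu (a + b) = uu a * uu b) ∧ (∀ u ∈ N, ∃ k, uu k = u) ∧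
      Function.Injective uu ∧ (∀ (d : U) k, (d : G) * uu k * (d : G)⁻¹ = uu (χ d * k)) := by
  letI : CommGroup N :=
    { (inferInstance : Group N) with
      mul_comm := fun a b => Subtype.ext (hNcomm a a.2 b b.2) }
  letI : DistribMulAction U (Additive N) :=
    { smul := fun d a => Additive.ofMul
        ⟨(d : G) * (Additive.toMul a : N) * (d : G)⁻¹, hnorm d d.2 _ (Additive.toMul a).2⟩
      one_smul := fun u => by
        apply Additive.toMul.injective
        apply Subtype.ext
        change ((1 : U) : G) * (Additive.toMul u : N) * ((1 : U) : G)⁻¹ = (Additive.toMul u : N)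
        simp
      mul_smul := fun d d' u => by
        apply Additive.toMul.injective
        apply Subtype.ext
        change ((d * d' : U) : G) * (Additive.toMul u : N) * ((d * d' : U) : G)⁻¹
          = (d : G) * ((d' : G) * (Additive.toMul u : N) * (d' : G)⁻¹) * (d : G)⁻¹
        simp [mul_assoc]
      smul_add := fun d u u' => by
        apply Additive.toMul.injective
        apply Subtype.ext
        change (d : G) * ((Additive.toMul u * Additive.toMul u' : N) : G) * (d : G)⁻¹
          = ((d : G) * (Additive.toMul u : N) * (d : G)⁻¹)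
            * ((d : G) * (Additive.toMul u' : N) * (d : G)⁻¹)
        simp [mul_assoc]
      smul_zero := fun d => by
        apply Additive.toMul.injective
        apply Subtype.ext
        change (d : G) * ((1 : N) : G) * (d : G)⁻¹ = 1
        simp }
  obtain ⟨u₀, hu₀U, hu₀⟩ : ∃ u ∈ N, u ≠ 1 := by
    by_contra hc
    push Not at hc
    exact hne ((Subgroup.eq_bot_iff_forall _).2 hc)
  obtain ⟨F, iF, iFt, φ, χ, -, h2⟩ := exists_field (A := Additive N) (D := U)
    (fun d d' => Subtype.ext (hUcomm d d.2 d' d'.2))
    (by
      intro d a ha hda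
      apply Subtype.ext
      apply hfree d d.2 (Additive.toMul a : N) (Additive.toMul a).2
      · intro h1
        apply ha
        have : Additive.toMul a = 1 := Subtype.ext h1
        exact this
      · have := congrArg (fun x : Additive N => ((Additive.toMul x : N) : G)) hda
        exact this)
    (by rw [show Nat.card (Additive N) = Nat.card N from rfl]; exact hcard)
    (Additive.ofMul ⟨u₀, hu₀U⟩)
    (by
      intro h1
      apply hu₀
      exact congrArg (fun x : Additive N => ((Additive.toMul x : N) : G)) h1)
  refine ⟨F, iF, iFt, fun k => ((Additive.toMul (φ k) : N) : G), χ, fun k => (Additive.toMul (φ k)).2,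
    ?_, ?_, ?_, ?_⟩
  · intro a b
    change ((Additive.toMul (φ (a + b)) : N) : G) = _
    rw [map_add]; rfl
  · intro u hu
    refine ⟨φ.symm (Additive.ofMul ⟨u, hu⟩), ?_⟩
    simp
  · intro a b hab
    apply φ.injective
    have : Additive.toMul (φ a) = Additive.toMul (φ b) := Subtype.ext hab
    exact this
  · intro d k
    have := congrArg (fun x : Additive N => ((Additive.toMul x : N) : G)) (h2 d k)
    exact this

end Cfsg.Agent.Helper16Aff
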