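import Cfsg.Agent.Lib.Helper16AffB
import Mathlib

set_option autoImplicit false
set_option linter.unusedSectionVars false
set_option linter.unusedVariables false
set_option linter.style.haveILetI false

/-! Doubly transitive groups of degree `p + 1` with a regular normal subgroup, II. -/

namespace Cfsg.Agent.Helper16Aff

open Cfsg

theorem affine_core {G Ω : Type*} [Group G] [MulAction G Ω] [Finite Ω] {p : ℕ}
    (hp : p.Prime) (hp2 : p ≠ 2) (hcard : Nat.card Ω = p + 1) (x : Ω)
    (h3 : ∀ (g : G) (a b c : Ω), a ≠ b → b ≠ c → a ≠ c → g • a = a → g • b = b →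
      g • c = c → g = 1)
    (N U : Subgroup G)
    (hNn : ∀ (g : G), ∀ n ∈ N, g * n * g⁻¹ ∈ N)
    (hNcomm : ∀ n ∈ N, ∀ n' ∈ N, n * n' = n' * n)
    (hNtr : ∀ a : Ω, ∃ n ∈ N, n • x = a)
    (hNreg : ∀ n ∈ N, n • x = x → n = 1)
    (hUx : ∀ u ∈ U, u • x = x)
    (hUcomm : ∀ d ∈ U, ∀ d' ∈ U, d * d' = d' * d)
    (hUfree : ∀ u ∈ U, ∀ a : Ω, a ≠ x → u • a = a → u = 1)
    (hUcard : Nat.card U = p)
    (hUn : ∀ g : G, g • x = x → ∀ u ∈ U, g * u * g⁻¹ ∈ U) :
    ∃ q : ℕ, q.Prime ∧ p + 1 = 2 ^ q ∧
      (∃ y : Ω, x ≠ y ∧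
        (Nat.card (MulAction.stabilizer G x ⊓ MulAction.stabilizer G y : Subgroup G) = 1 ∨
         Nat.card (MulAction.stabilizer G x ⊓ MulAction.stabilizer G y : Subgroup G) = q)) ∧
      ∃ e : Ω ≃ GaloisField 2 q, ∀ g : G,
        (e.symm.trans ((MulAction.toPerm g).trans e)) ∈ Cfsg.semiaffineGroup (GaloisField 2 q) := by
  classical
  -- `N ≃ Ω`
  have hβ : Function.Bijective (fun n : N => (n : G) • x) := by
    constructor
    · intro n n' h
      have h1 : ((n' : G)⁻¹ * n) • x = x := by
        rw [mul_smul]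
        have h' : (n : G) • x = (n' : G) • x := h
        rw [h', inv_smul_smul]
      have h2 := hNreg _ (N.mul_mem (N.inv_mem n'.2) n.2) h1
      apply Subtype.ext
      exact (inv_mul_eq_one.1 h2).symm
    · intro a
      obtain ⟨n, hn, hna⟩ := hNtr a
      exact ⟨⟨n, hn⟩, hna⟩
  haveI : Finite N := Finite.of_injective _ hβ.1
  have hNcard : Nat.card N = p + 1 := by
    rw [Nat.card_congr (Equiv.ofBijective _ hβ), hcard]
  have hfree : ∀ d ∈ U, ∀ n ∈ N, n ≠ 1 → d * n * d⁻¹ = n → d = 1 := by
    intro d hd n hn hn1 hdn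
    apply hUfree d hd (n • x)
    · intro h
      exact hn1 (hNreg n hn h)
    · have h1 : d • n • x = (d * n * d⁻¹) • d • x := by
        simp [mul_smul]
      rw [h1, hdn, hUx d hd]
  obtain ⟨F, iF, iFt, uu, χ, huN, hadd, hsurj, hinj, hχ⟩ := exists_coord' N U hNcomm
    (fun d _ n hn => hNn d n hn) hUcomm hfree (by rw [hNcard, hUcard]; omega)
    (by
      intro h
      rw [h, Subgroup.card_bot] at hNcard
      have := hp.two_le
      omega)
  have hu0 : uu 0 = 1 := by
    have := hadd 0 0
    rw [add_zero] at this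
    exact (mul_eq_left.1 this.symm)
  have hEbij : Function.Bijective (fun k : F => uu k • x) := by
    constructor
    · intro k k' h
      have := hβ.1 (a₁ := ⟨uu k, huN k⟩) (a₂ := ⟨uu k', huN k'⟩) h
      exact hinj (congrArg Subtype.val this)
    · intro a
      obtain ⟨n, hn, hna⟩ := hNtr a
      obtain ⟨k, hk⟩ := hsurj n hn
      exact ⟨k, by show uu k • x = a; rw [hk, hna]⟩
  let E : F ≃ Ω := Equiv.ofBijective _ hEbij
  have hE : ∀ k, E k = uu k • x := fun k => rfl
  have hFcard : Fintype.card F = p + 1 := by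
    rw [← Nat.card_eq_fintype_card, Nat.card_congr E, hcard]
  let ρ : G → Equiv.Perm F := fun g => (E.trans (MulAction.toPerm g)).trans E.symm
  have hρ : ∀ g k, E (ρ g k) = g • E k := by
    intro g k
    show E (E.symm (g • E k)) = g • E k
    rw [Equiv.apply_symm_apply]
  have hEadd : ∀ k b, E (k + b) = uu b • E k := by
    intro k b
    rw [hE, hE, add_comm, hadd, mul_smul]
  have hEmul : ∀ (w : U) k, E (χ w * k) = (w : G) • E k := by
    intro w k
    rw [hE, hE, ← hχ, mul_smul, mul_smul]
    congr 2
    rw [inv_smul_eq_iff, hUx w w.2]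
  -- `χ` is onto
  have hχinj : Function.Injective χ := by
    rw [injective_iff_map_eq_one]
    intro d hd
    apply Subtype.ext
    apply hfree d d.2 (uu 1) (huN 1)
    · intro h
      exact one_ne_zero (hinj (h.trans hu0.symm))
    · rw [hχ, hd, Units.val_one, one_mul]
  have hχsurj : Function.Surjective χ := by
    haveI : Finite U := Nat.finite_of_card_ne_zero (by rw [hUcard]; exact hp.ne_zero)
    have hc : Nat.card U = Nat.card Fˣ := by
      rw [hUcard, Nat.card_eq_fintype_card, Fintype.card_units, hFcard]; rfl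
    exact ((Nat.bijective_iff_injective_and_card χ).2 ⟨hχinj, hc⟩).2
  have hmem : ∀ g, ρ g ∈ Cfsg.semiaffineGroup F := by
    intro g
    apply mem_semiaffine
    · intro b
      obtain ⟨b', hb'⟩ := hsurj _ (hNn g _ (huN b))
      refine ⟨b', fun k => ?_⟩
      apply E.injective
      rw [hρ, hEadd, hEadd, hρ, hb']
      simp [mul_smul]
    · intro c hc
      obtain ⟨w, hw⟩ := hχsurj (Units.mk0 c hc)
      have hw' : ((χ w : Fˣ) : F) = c := by rw [hw]; rfl
      set n₀ := uu (ρ g 0) with hn₀
      have hn₀x : n₀ • x = g • x := by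
        have := hρ g 0
        rw [hE, hE, hu0, one_smul] at this
        exact this
      have hg₀ : (n₀⁻¹ * g) • x = x := by
        rw [mul_smul, ← hn₀x, inv_smul_smul]
      have hw2 := hUn _ hg₀ w w.2
      refine ⟨χ ⟨_, hw2⟩, fun k => ?_⟩
      have key : ∀ k, E (ρ g k - ρ g 0) = (n₀⁻¹ * g) • E k := by
        intro k
        rw [mul_smul, ← hρ, eq_inv_smul_iff, hn₀, ← hEadd, sub_add_cancel]
      apply E.injective
      rw [hEmul, key, key, ← hw', hEmul]
      simp [mul_smul]
  -- arithmetic
  obtain ⟨r, hr⟩ := CharP.exists F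
  obtain ⟨n, hrp, hrn⟩ := FiniteField.card F r
  have hr2 : r = 2 := by
    have hodd : Odd p := hp.odd_of_ne_two hp2
    have heven : Even (r ^ (n : ℕ)) := by
      rw [← hrn, hFcard]; exact hodd.add_one
    have := (Nat.even_pow.1 heven).1
    exact (hrp.even_iff.1 this)
  subst hr2
  have hpq : p + 1 = 2 ^ (n : ℕ) := by rw [← hFcard, hrn]
  have hq : (n : ℕ).Prime := by
    refine (Nat.prime_of_pow_sub_one_prime (a := 2) (n := n) ?_ ?_).2
    · intro h
      rw [h] at hpq
      have := hp.two_le
      omega
    · rw [← hpq]; exact hp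
  refine ⟨n, hq, hpq, ?_, ?_⟩
  · refine ⟨E 1, ?_, ?_⟩
    · intro h
      have h0 : E 0 = x := by rw [hE, hu0, one_smul]
      rw [← h0] at h
      exact zero_ne_one (E.injective h)
    · have h0 : E 0 = x := by rw [hE, hu0, one_smul]
      have hfix : ∀ g : (MulAction.stabilizer G x ⊓ MulAction.stabilizer G (E 1) : Subgroup G),
          ρ g 0 = 0 ∧ ρ g 1 = 1 := by
        intro g
        have hg := g.2
        rw [Subgroup.mem_inf, MulAction.mem_stabilizer_iff, MulAction.mem_stabilizer_iff] at hg
        constructor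
        · apply E.injective
          rw [hρ, h0, hg.1]
        · apply E.injective
          rw [hρ, hg.2]
      have hring : ∀ g : (MulAction.stabilizer G x ⊓ MulAction.stabilizer G (E 1) : Subgroup G),
          ∃ ψ : F ≃+* F, ∀ k, ρ g k = ψ k := by
        intro g
        obtain ⟨a, b, ψ, h⟩ := hmem g
        have hb : b = 0 := by
          have := h 0
          rw [(hfix g).1, map_zero, mul_zero, zero_add] at this
          exact this.symm
        have ha : (a : F) = 1 := by
          have := h 1
          rw [(hfix g).2, map_one, mul_one, hb, add_zero] at this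
          exact this.symm
        exact ⟨ψ, fun k => by rw [h, ha, hb, one_mul, add_zero]⟩
      choose Ψ hΨ using hring
      have hρmul : ∀ g g' k, ρ (g * g') k = ρ g (ρ g' k) := by
        intro g g' k
        apply E.injective
        rw [hρ, hρ, hρ, mul_smul]
      let Ψh : (MulAction.stabilizer G x ⊓ MulAction.stabilizer G (E 1) : Subgroup G) →*
          (F ≃+* F) := MonoidHom.mk' Ψ (by
        intro g g'
        apply RingEquiv.ext
        intro k
        rw [← hΨ]
        show ρ ((g : G) * (g' : G)) k = Ψ g (Ψ g' k)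
        rw [hρmul, hΨ, hΨ])
      have hΨh : ∀ g, Ψh g = Ψ g := fun g => rfl
      have hone : ∀ g : (MulAction.stabilizer G x ⊓ MulAction.stabilizer G (E 1) : Subgroup G),
          ∀ k : F, k ≠ 0 → k ≠ 1 → Ψ g k = k → g = 1 := by
        intro g k hk0 hk1 hk
        have hg := g.2
        rw [Subgroup.mem_inf, MulAction.mem_stabilizer_iff, MulAction.mem_stabilizer_iff] at hg
        apply Subtype.ext
        apply h3 (g : G) (E 0) (E 1) (E k)
        · exact fun h => zero_ne_one (E.injective h)
        · exact fun h => hk1 (E.injective h).symm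
        · exact fun h => hk0 (E.injective h).symm
        · rw [h0]; exact hg.1
        · exact hg.2
        · rw [← hρ, hΨ, hk]
      obtain ⟨k₀, hk₀0, hk₀1⟩ : ∃ k : F, k ≠ 0 ∧ k ≠ 1 := by
        by_contra hc
        push Not at hc
        have : Fintype.card F ≤ 2 := by
          have h1 : (Finset.univ : Finset F) ⊆ {0, 1} := by
            intro k _
            by_cases hk : k = 0
            · simp [hk]
            · simp [hc k hk]
          calc Fintype.card F = (Finset.univ : Finset F).card := rfl
            _ ≤ ({0, 1} : Finset F).card := Finset.card_le_card h1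
            _ ≤ 2 := Finset.card_le_two
        have := hp.two_le
        omega
      have hΨinj : Function.Injective Ψh := by
        rw [injective_iff_map_eq_one]
        intro g hg
        apply hone g k₀ hk₀0 hk₀1
        rw [← hΨh, hg]; rfl
      have hcardΔ := card_aut_of_semiregular (q := n) hrn Ψh.range (by
        rintro ψ ⟨g, rfl⟩ hne k hk
        by_contra hc
        push Not at hc
        apply hne
        rw [hone g k hc.1 hc.2 hk, map_one])
      rw [← Nat.card_congr (MonoidHom.ofInjective hΨinj).toEquiv] at hcardΔ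
      exact hcardΔ
  · haveI : Fact (Nat.Prime 2) := ⟨Nat.prime_two⟩
    letI : Fintype (GaloisField 2 n) := Fintype.ofFinite _
    have hGc : Fintype.card (GaloisField 2 n) = 2 ^ (n : ℕ) := by
      rw [← Nat.card_eq_fintype_card]
      exact GaloisField.card 2 n n.ne_zero
    let ι : F ≃+* GaloisField 2 n := FiniteField.ringEquivOfCardEq (by rw [hrn, hGc])
    refine ⟨E.symm.trans ι.toEquiv, fun g => ?_⟩
    have := semiaffine_transport ι (ρ g) (hmem g)
    convert this using 1
    ext k
    rfl

end Cfsg.Agent.Helper16Aff
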