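import Cfsg.Agent.Lib.Helper10Sharp
import Mathlib

set_option autoImplicit false

namespace Cfsg.Agent.Lib.Helper16Sharp3

open MulAction Cfsg.Agent.Lib.Helper10Sharp

variable {G α : Type*} [Group G] [MulAction G α]

theorem exists3 (h : Sharp G α 3) {x1 x2 x3 y1 y2 y3 : α} (hx12 : x1 ≠ x2) (hx13 : x1 ≠ x3)
    (hx23 : x2 ≠ x3) (hy12 : y1 ≠ y2) (hy13 : y1 ≠ y3) (hy23 : y2 ≠ y3) :
    ∃ g : G, g • x1 = y1 ∧ g • x2 = y2 ∧ g • x3 = y3 := by
  obtain ⟨g, hg⟩ := h.exists_map [x1, x2, x3] [y1, y2, y3] (by simp [hx12, hx13, hx23])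
    (by simp [hy12, hy13, hy23]) rfl rfl
  simp only [List.map_cons, List.map_nil, List.cons.injEq, and_true] at hg
  exact ⟨g, hg⟩

theorem eq_one3 (h : Sharp G α 3) {x1 x2 x3 : α} (hx12 : x1 ≠ x2) (hx13 : x1 ≠ x3)
    (hx23 : x2 ≠ x3) (g : G) (h1 : g • x1 = x1) (h2 : g • x2 = x2) (h3 : g • x3 = x3) : g = 1 := by
  apply h.eq_one [x1, x2, x3] (by simp [hx12, hx13, hx23]) rfl
  intro a ha
  simp only [List.mem_cons, List.not_mem_nil, or_false] at ha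
  rcases ha with rfl | rfl | rfl <;> assumption

theorem eq3 (h : Sharp G α 3) {x1 x2 x3 : α} (hx12 : x1 ≠ x2) (hx13 : x1 ≠ x3)
    (hx23 : x2 ≠ x3) (g g' : G) (h1 : g • x1 = g' • x1) (h2 : g • x2 = g' • x2)
    (h3 : g • x3 = g' • x3) : g = g' := by
  apply h.eq_of_agree [x1, x2, x3] (by simp [hx12, hx13, hx23]) rfl
  intro a ha
  simp only [List.mem_cons, List.not_mem_nil, or_false] at ha
  rcases ha with rfl | rfl | rfl <;> assumption

end Cfsg.Agent.Lib.Helper16Sharp3
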