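import Cfsg.Agent.Lib.Helper26Sh3
import Cfsg.Agent.Lib.Helper16Sharp3

/-!
# Conversion between the forms of sharp triple transitivity
-/

set_option autoImplicit false

namespace Cfsg.Agent.Lib.Helper26Sh3b

open MulAction Cfsg.Agent.Lib.Helper26Sh3 Cfsg.Agent.Lib.Helper10Sharp Cfsg.Agent.Lib.Helper16Sharp3

variable {G Ω : Type*} [Group G] [MulAction G Ω]

theorem sharp3_of_sharp (h : Sharp G Ω 3) : Sharp3 G Ω :=
  { trans := fun _ _ _ _ _ _ h1 h2 h3 h4 h5 h6 => exists3 h h1 h2 h3 h4 h5 h6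
    sharp := fun g _ _ _ h1 h2 h3 h4 h5 h6 => eq_one3 h h1 h2 h3 g h4 h5 h6 }

theorem sharp3_of (h3 : IsMultiplyPretransitive G Ω 3)
    (hs : ∀ g : G, ∀ x₁ x₂ x₃ : Ω, x₁ ≠ x₂ → x₁ ≠ x₃ → x₂ ≠ x₃ → g • x₁ = x₁ → g • x₂ = x₂ →
      g • x₃ = x₃ → g = 1) : Sharp3 G Ω := by
  apply sharp3_of_sharp
  refine ⟨h3, fun x => ?_⟩
  rw [eq_bot_iff]
  intro g hg
  rw [mem_stabilizer_iff] at hg
  rw [Subgroup.mem_bot]
  have hx : ∀ k : Fin 3, g • x k = x k := fun k => by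
    have := DFunLike.congr_fun hg k
    simpa using this
  exact hs g (x 0) (x 1) (x 2) (fun h => by simpa using x.injective h)
    (fun h => by simpa using x.injective h) (fun h => by simpa using x.injective h)
    (hx 0) (hx 1) (hx 2)

end Cfsg.Agent.Lib.Helper26Sh3b
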