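import Cfsg.Agent.Lib.Helper16CtA
import Cfsg.Agent.Lib.Helper26Sh3b
import Cfsg.Agent.S0731
import Mathlib

/-!
# Finite simple groups in which commuting is transitive: the permutation representation
-/

set_option autoImplicit false
set_option linter.unusedSectionVars false
set_option linter.unusedVariables false
set_option linter.style.haveILetI false

namespace Cfsg.Agent.Helper16Ct

open Cfsg Cfsg.Agent.Helper16Feit Cfsg.Agent.Lib.Helper61Feit Cfsg.Agent.Lib.Helper61Feit2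

variable {G : Type*} [Group G] [Finite G] {t : G} (D : CTData G t)

include D

theorem fix_iff {g x : G} :
    g • ((x : G) : G ⧸ Hs D) = (x : G ⧸ Hs D) ↔ x⁻¹ * g * x ∈ Hs D := by
  have : g • ((x : G) : G ⧸ Hs D) = ((g * x : G) : G ⧸ Hs D) := rfl
  rw [this, eq_comm, QuotientGroup.eq, mul_assoc]

theorem fix_base {g : G} :
    g • ((1 : G) : G ⧸ Hs D) = ((1 : G) : G ⧸ Hs D) ↔ g ∈ Hs D := by
  rw [fix_iff]; simp

theorem fix_inv {g z : G} (hz2 : z * z = 1) :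
    g • ((z : G) : G ⧸ Hs D) = (z : G ⧸ Hs D) ↔ z * g * z⁻¹ ∈ Hs D := by
  rw [fix_iff, inv_eq_self hz2]

theorem exists_inv_pt (c : G ⧸ Hs D) (hc : c ≠ ((1 : G) : G ⧸ Hs D)) :
    ∃ z : G, z ∉ Hs D ∧ z * z = 1 ∧ c = (z : G ⧸ Hs D) := by
  obtain ⟨g, rfl⟩ := QuotientGroup.mk_surjective c
  have hg : g ∉ Hs D := by
    intro h
    apply hc
    rw [eq_comm, QuotientGroup.eq]; simpa using h
  obtain ⟨z, hz2, hz⟩ := exists_inv D hg
  refine ⟨z, not_mem_of_conj_eq D hg hz, hz2, ?_⟩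
  rw [QuotientGroup.eq]
  exact S_le D (inv_mul_comm_of_conj_eq D hz)

theorem three_base {g : G} {b c : G ⧸ Hs D} (hb : b ≠ ((1 : G) : G ⧸ Hs D))
    (hc : c ≠ ((1 : G) : G ⧸ Hs D)) (hbc : b ≠ c)
    (hg : g • ((1 : G) : G ⧸ Hs D) = ((1 : G) : G ⧸ Hs D)) (hgb : g • b = b) (hgc : g • c = c) :
    g = 1 := by
  obtain ⟨z, hz, hz2, rfl⟩ := exists_inv_pt D b hb
  obtain ⟨z', hz', hz'2, rfl⟩ := exists_inv_pt D c hc
  by_contra hg1
  apply hbc
  rw [QuotientGroup.eq]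
  exact three_pt D hz hz2 hz' hz'2 hg1 ((fix_base D).1 hg) ((fix_inv D hz2).1 hgb)
    ((fix_inv D hz'2).1 hgc)

theorem inv_smul_mk (x : G) : x⁻¹ • ((x : G) : G ⧸ Hs D) = ((1 : G) : G ⧸ Hs D) := by
  show ((x⁻¹ * x : G) : G ⧸ Hs D) = _
  rw [inv_mul_cancel]

theorem three_gen (g : G) (a b c : G ⧸ Hs D) (hab : a ≠ b) (hbc : b ≠ c) (hac : a ≠ c)
    (ha : g • a = a) (hb : g • b = b) (hc : g • c = c) : g = 1 := by
  obtain ⟨x, rfl⟩ := QuotientGroup.mk_surjective a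
  have key : ∀ p : G ⧸ Hs D, g • p = p → (x⁻¹ * g * x) • (x⁻¹ • p) = x⁻¹ • p := by
    intro p hp
    rw [smul_smul]
    have : x⁻¹ * g * x * x⁻¹ = x⁻¹ * g := by group
    rw [this, mul_smul, hp]
  have hx := inv_smul_mk D x
  have h0 := key _ ha
  rw [hx] at h0
  have h1 : x⁻¹ * g * x = 1 := by
    refine three_base D (b := x⁻¹ • b) (c := x⁻¹ • c) ?_ ?_ ?_ h0 (key b hb) (key c hc)
    · rw [← hx]; intro h; exact hab (smul_left_cancel _ h).symm
    · rw [← hx]; intro h; exact hac (smul_left_cancel _ h).symm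
    · intro h; exact hbc (smul_left_cancel _ h)
  have : g = x * (x⁻¹ * g * x) * x⁻¹ := by group
  rw [this, h1]; simp

theorem S_free {s : G} (hs : Commute s t) (hs1 : s ≠ 1) (c : G ⧸ Hs D) (hc : s • c = c) :
    c = ((1 : G) : G ⧸ Hs D) := by
  by_contra hne
  obtain ⟨z, hz, hz2, rfl⟩ := exists_inv_pt D c hne
  exact hs1 (Y_inf_S D hz hz2 hs ((fix_inv D hz2).1 hc))

variable {u : G} (hu1 : u ≠ 1) (hu2 : u * u = 1) (hut : Commute u t) (hne : u ≠ t)

include hu1 hu2 hut hne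

theorem S_trans_pt (b c : G ⧸ Hs D) (hb : b ≠ ((1 : G) : G ⧸ Hs D))
    (hc : c ≠ ((1 : G) : G ⧸ Hs D)) : ∃ s : G, Commute s t ∧ s • b = c := by
  obtain ⟨z, hz, hz2, rfl⟩ := exists_inv_pt D b hb
  obtain ⟨z', hz', hz'2, rfl⟩ := exists_inv_pt D c hc
  obtain ⟨s, hs, h⟩ := S_trans D hz hz2 hz' hz'2 hu1 hu2 hut hne
  refine ⟨s, hs, ?_⟩
  show ((s * z : G) : G ⧸ Hs D) = _
  rw [eq_comm, QuotientGroup.eq]; exact h

theorem two_trans : MulAction.IsMultiplyPretransitive G (G ⧸ Hs D) 2 := by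
  rw [MulAction.is_two_pretransitive_iff]
  intro a b c d hab hcd
  obtain ⟨x, rfl⟩ := QuotientGroup.mk_surjective a
  obtain ⟨y, rfl⟩ := QuotientGroup.mk_surjective c
  have hx := inv_smul_mk D x
  have hy := inv_smul_mk D y
  obtain ⟨s, hs, hsb⟩ := S_trans_pt D hu1 hu2 hut hne (x⁻¹ • b) (y⁻¹ • d)
    (by rw [← hx]; intro h; exact hab (smul_left_cancel _ h).symm)
    (by rw [← hy]; intro h; exact hcd (smul_left_cancel _ h).symm)
  refine ⟨y * s * x⁻¹, ?_, ?_⟩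
  · rw [mul_smul, hx, mul_smul, (fix_base D).2 (S_le D hs), ← hy, smul_inv_smul]
  · rw [mul_smul, mul_smul, hsb, smul_inv_smul]

omit hu1 hu2 hut hne in
/-- the elements of order at most two in the centraliser of `t` -/
def Es : Subgroup G where
  carrier := {x | x * x = 1 ∧ Commute x t}
  one_mem' := by simp
  mul_mem' := by
    intro a b ha hb
    refine ⟨?_, ha.2.mul_left hb.2⟩
    have hc := S_comm D ha.2 hb.2
    calc a * b * (a * b) = a * (b * a) * b := by group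
      _ = (a * a) * (b * b) := by rw [← hc.eq]; group
      _ = 1 := by rw [ha.1, hb.1, one_mul]
  inv_mem' := by
    intro a ha
    refine ⟨?_, ha.2.inv_left⟩
    rw [← mul_inv_rev, ha.1, inv_one]

omit hu1 hu2 hut hne in
theorem mem_Es {x : G} : x ∈ Es D ↔ x * x = 1 ∧ Commute x t := Iff.rfl

omit D hu1 hu2 hut hne in
theorem card_sub_one (X : Type*) [Finite X] (a : X) : Nat.card {c : X // c ≠ a} + 1 = Nat.card X := by
  classical
  letI : Fintype X := Fintype.ofFinite X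
  rw [Nat.card_eq_fintype_card, Nat.card_eq_fintype_card, Fintype.card_subtype_compl,
    Fintype.card_subtype_eq]
  have : 0 < Fintype.card X := Fintype.card_pos_iff.2 ⟨a⟩
  omega

omit hu1 hu2 hut hne in
/-- the order of the two point stabiliser -/
theorem card_stab2_add_one {z : G} (hz : z ∉ Hs D) (hz2 : z * z = 1) :
    Nat.card (stab2 G ((1 : G) : G ⧸ Hs D) ((z : G) : G ⧸ Hs D)) + 1 = Nat.card (Es D) := by
  rw [← card_sub_one (Es D) 1]
  congr 1
  have hmem : ∀ h : G, h ∈ stab2 G ((1 : G) : G ⧸ Hs D) ((z : G) : G ⧸ Hs D) ↔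
      h ∈ Hs D ∧ z * h * z⁻¹ ∈ Hs D := by
    intro h
    rw [mem_stab2, fix_base, fix_inv D hz2]
  let φ : stab2 G ((1 : G) : G ⧸ Hs D) ((z : G) : G ⧸ Hs D) → {c : Es D // c ≠ 1} := fun h =>
    ⟨⟨h.1 * t * h.1⁻¹, conj_t_sq D h.1, ((hmem h.1).1 h.2).1⟩, fun hc =>
      conj_t_ne D h.1 (congrArg Subtype.val hc)⟩
  apply Nat.card_congr
  refine Equiv.ofBijective φ ⟨?_, ?_⟩
  · intro h h' hh
    have h1 : h.1 * t * h.1⁻¹ = h'.1 * t * h'.1⁻¹ :=
      congrArg (fun x : {c : Es D // c ≠ 1} => (x.1.1 : G)) hh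
    have h2 : Commute (h'.1⁻¹ * h.1) t := inv_mul_comm_of_conj_eq D h1
    have h3 : z * (h'.1⁻¹ * h.1) * z⁻¹ ∈ Hs D := by
      rw [← conj_mul, ← conj_inv]
      exact (Hs D).mul_mem ((Hs D).inv_mem ((hmem h'.1).1 h'.2).2) ((hmem h.1).1 h.2).2
    have h4 := Y_inf_S D hz hz2 h2 h3
    exact Subtype.ext (inv_mul_eq_one.1 h4).symm
  · rintro ⟨⟨x, hx2, hxt⟩, hx1⟩
    have hx1' : x ≠ 1 := fun h => hx1 (Subtype.ext h)
    obtain ⟨h, hh, hinv, hconj⟩ := Y_trans D hz hz2 hx1' hx2 hxt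
    refine ⟨⟨h, (hmem h).2 ⟨hh, by rw [hinv]; exact (Hs D).inv_mem hh⟩⟩, ?_⟩
    apply Subtype.ext
    apply Subtype.ext
    exact hconj

/-- the number of points -/
theorem card_pts {z : G} (hz : z ∉ Hs D) (hz2 : z * z = 1) :
    Nat.card (G ⧸ Hs D) = Nat.card (Subgroup.centralizer ({t} : Set G)) + 1 := by
  rw [← card_sub_one (G ⧸ Hs D) ((1 : G) : G ⧸ Hs D)]
  congr 1
  have hzb : ((z : G) : G ⧸ Hs D) ≠ ((1 : G) : G ⧸ Hs D) := by
    intro h
    apply hz
    rw [eq_comm, QuotientGroup.eq] at h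
    simpa using h
  have hS : ∀ s : Subgroup.centralizer ({t} : Set G), Commute s.1 t := fun s =>
    Subgroup.mem_centralizer_singleton_iff.1 s.2
  let φ : Subgroup.centralizer ({t} : Set G) → {c : G ⧸ Hs D // c ≠ ((1 : G) : G ⧸ Hs D)} :=
    fun s => ⟨s.1 • ((z : G) : G ⧸ Hs D), by
      intro h
      apply hzb
      rw [← (fix_base D).2 (S_le D (hS s))] at h
      exact smul_left_cancel _ h⟩
  symm
  apply Nat.card_congr
  refine Equiv.ofBijective φ ⟨?_, ?_⟩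
  · intro s s' hss
    have h1 : s.1 • ((z : G) : G ⧸ Hs D) = s'.1 • ((z : G) : G ⧸ Hs D) := congrArg Subtype.val hss
    have h2 : (s'.1⁻¹ * s.1) • ((z : G) : G ⧸ Hs D) = ((z : G) : G ⧸ Hs D) := by
      rw [mul_smul, h1, inv_smul_smul]
    by_contra hne'
    have h3 : s'.1⁻¹ * s.1 ≠ 1 := fun h => hne' (Subtype.ext (inv_mul_eq_one.1 h).symm)
    exact hzb (S_free D ((hS s').inv_left.mul_left (hS s)) h3 _ h2)
  · rintro ⟨c, hc⟩
    obtain ⟨s, hs, hsc⟩ := S_trans_pt D hu1 hu2 hut hne _ c hzb hc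
    exact ⟨⟨s, Subgroup.mem_centralizer_singleton_iff.2 hs⟩, Subtype.ext hsc⟩

/-- the identification -/
theorem main [IsSimpleGroup G] {g₀ : G} (hg₀ : g₀ ∉ Hs D) :
    ∃ (F : Type) (_ : Field F) (_ : Fintype F) (f : ℕ), 2 ≤ f ∧ Fintype.card F = 2 ^ f ∧
      Nonempty (G ≃* Matrix.ProjectiveSpecialLinearGroup (Fin 2) F) := by
  obtain ⟨z, hz2, hzc⟩ := exists_inv D hg₀
  have hz : z ∉ Hs D := not_mem_of_conj_eq D hg₀ hzc
  set a : G ⧸ Hs D := ((1 : G) : G ⧸ Hs D) with ha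
  set b : G ⧸ Hs D := ((z : G) : G ⧸ Hs D) with hb
  have hab : a ≠ b := by
    intro h
    apply hz
    rw [ha, hb, QuotientGroup.eq] at h
    simpa using h
  set S : Subgroup G := Subgroup.centralizer ({t} : Set G) with hS
  have hSmem : ∀ s : G, s ∈ S ↔ Commute s t := fun s => Subgroup.mem_centralizer_singleton_iff
  have hh : Nat.card (G ⧸ Hs D) = Nat.card S + 1 := card_pts D hu1 hu2 hut hne hz hz2
  have he : Nat.card (stab2 G a b) + 1 = Nat.card (Es D) := card_stab2_add_one D hz hz2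
  have h2t := two_trans D hu1 hu2 hut hne
  have T : TData G (G ⧸ Hs D) (Nat.card S) := ⟨hh, h2t, three_gen D⟩
  have K : KData G (G ⧸ Hs D) a (Nat.card S) S :=
    ⟨fun s hs => (fix_base D).2 (S_le D ((hSmem s).1 hs)), rfl,
      fun s hs hs1 c hc => S_free D ((hSmem s).1 hs) hs1 c hc⟩
  have hSab : ∀ x ∈ S, ∀ y ∈ S, x * y = y * x := fun x hx y hy =>
    (S_comm D ((hSmem x).1 hx) ((hSmem y).1 hy)).eq
  -- a nontrivial element of the two point stabiliser
  obtain ⟨y, hyH, hyinv, hyu⟩ := Y_trans D hz hz2 hu1 hu2 hut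
  have hy1 : y ≠ 1 := by
    rintro rfl
    apply hne
    rw [← hyu]; simp
  have hya : y • a = a := (fix_base D).2 hyH
  have hyb : y • b = b := (fix_inv D hz2).2 (by rw [hyinv]; exact (Hs D).inv_mem hyH)
  -- a third point
  have hta : t • a = a := (fix_base D).2 (S_le D (Commute.refl t))
  have htb : t • b ≠ b := fun h => hab (S_free D (Commute.refl t) D.t1 b h).symm
  have htb' : t • b ≠ a := by
    intro h
    rw [← hta] at h
    exact hab (smul_left_cancel _ h).symm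
  have hZ : IsZassenhausGroup G (G ⧸ Hs D) := by
    refine ⟨⟨?_⟩, h2t, three_gen D, ⟨y, hy1, a, b, hab, hya, hyb⟩, ?_⟩
    · intro m₁ m₂ hm
      have hfix : ∀ c : G ⧸ Hs D, (m₂⁻¹ * m₁) • c = c := by
        intro c; rw [mul_smul, hm, inv_smul_smul]
      have := three_gen D (m₂⁻¹ * m₁) a b (t • b) hab htb.symm htb'.symm (hfix _) (hfix _) (hfix _)
      exact (inv_mul_eq_one.1 this).symm
    · intro N hN hNt
      rcases hN.eq_bot_or_eq_top with rfl | rfl
      · exfalso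
        obtain ⟨n, hn⟩ := hNt.exists_smul_eq a b
        have hn1 : (n : G) = 1 := Subgroup.mem_bot.1 n.2
        have : (n : G) • a = b := hn
        rw [hn1, one_smul] at this
        exact hab this
      · refine ⟨a, fun hbot => ?_⟩
        have hmem : (⟨t, Subgroup.mem_top t⟩ : (⊤ : Subgroup G)) ∈
            (⊥ : Subgroup (⊤ : Subgroup G)) := by
          rw [← hbot, MulAction.mem_stabilizer_iff]
          exact hta
        rw [Subgroup.mem_bot] at hmem
        exact D.t1 (congrArg Subtype.val hmem)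
  -- parity
  have htE : t ∈ Es D := ⟨D.t2, Commute.refl t⟩
  have hord : orderOf t = 2 := orderOf_eq_prime (by rw [pow_two]; exact D.t2) D.t1
  have h2E : 2 ∣ Nat.card (Es D) := by
    have h1 : orderOf (⟨t, htE⟩ : Es D) = 2 := by
      rw [← hord]; exact Subgroup.orderOf_mk t htE
    rw [← h1]
    exact orderOf_dvd_natCard _
  have hodd : Odd (Nat.card (stab2 G a b)) := by
    obtain ⟨k, hk⟩ := h2E
    exact ⟨k - 1, by omega⟩
  have hES : Nat.card (Es D) ∣ Nat.card S :=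
    Subgroup.card_dvd_of_le (fun x hx => (hSmem x).2 hx.2)
  have hfe := feit_ab hh hab (Nat.card G) G hZ hodd S K hSab rfl
  have hSpos : 0 < Nat.card S := Nat.card_pos
  have hSE : Nat.card S = Nat.card (Es D) := by
    obtain ⟨k, hk⟩ := hES
    rcases k with _ | _ | k
    · omega
    · omega
    · exfalso
      have : Nat.card S = Nat.card (Es D) * k + 2 * Nat.card (Es D) := by rw [hk]; ring
      have h0 : 0 ≤ Nat.card (Es D) * k := Nat.zero_le _
      omega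
  have he' : Nat.card (stab2 G a b) + 1 = Nat.card S := by rw [hSE]; exact he
  obtain ⟨h3, hs3⟩ := Cfsg.Agent.S0731.sharp3 T hab he'
  have hSh : Cfsg.Agent.Lib.Helper26Sh3.Sharp3 G (G ⧸ Hs D) :=
    Cfsg.Agent.Lib.Helper26Sh3b.sharp3_of_sharp ⟨h3, hs3⟩
  have h1e : 1 < Nat.card (stab2 G a b) := by
    rw [Subgroup.one_lt_card_iff_ne_bot]
    intro hbot
    have : y ∈ stab2 G a b := mem_stab2.2 ⟨hya, hyb⟩
    rw [hbot, Subgroup.mem_bot] at this
    exact hy1 this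
  obtain ⟨f, F, iF, iFt, -, hcf, hF, -, hPSL, -⟩ := hSh.main_odd
    (by rw [hh, hSE]; obtain ⟨k, hk⟩ := h2E; exact ⟨k, by omega⟩) (by omega)
  refine ⟨F, iF, iFt, f, ?_, hF, hPSL⟩
  have h2f : 3 ≤ 2 ^ f := by omega
  rcases f with _ | _ | f
  · norm_num at h2f
  · norm_num at h2f
  · omega

end Cfsg.Agent.Helper16Ct
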