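import Cfsg.Agent.Lib.Helper16CtA
import Cfsg.Agent.S0182
import Mathlib

/-!
# Finite simple groups in which commuting is transitive: the initial data, and the converse
-/

set_option autoImplicit false
set_option linter.unusedSectionVars false
set_option linter.unusedVariables false
set_option linter.style.haveILetI false

namespace Cfsg.Agent.Helper16Ct

section converse

variable {F : Type*} [Field F]

theorem par (x1 x2 x3 v1 v2 v3 w1 w2 w3 : F) (hx : x1 ≠ 0 ∨ x2 ≠ 0 ∨ x3 ≠ 0)
    (hv12 : v1 * x2 = v2 * x1) (hv13 : v1 * x3 = v3 * x1) (hv23 : v2 * x3 = v3 * x2)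
    (hw12 : w1 * x2 = w2 * x1) (hw13 : w1 * x3 = w3 * x1) (hw23 : w2 * x3 = w3 * x2) :
    v1 * w2 = v2 * w1 ∧ v1 * w3 = v3 * w1 ∧ v2 * w3 = v3 * w2 := by
  rcases hx with h | h | h
  · refine ⟨mul_left_cancel₀ h ?_, mul_left_cancel₀ h ?_, mul_left_cancel₀ h ?_⟩
    · linear_combination (-v1) * hw12 + w1 * hv12
    · linear_combination (-v1) * hw13 + w1 * hv13
    · linear_combination (-v2) * hw13 + v3 * hw12 + w1 * hv23
  · have h23 : v2 * w3 = v3 * w2 := mul_left_cancel₀ h (by
      linear_combination (-v2) * hw23 + w2 * hv23)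
    refine ⟨mul_left_cancel₀ h ?_, mul_left_cancel₀ h ?_, h23⟩
    · linear_combination w2 * hv12 - v2 * hw12
    · linear_combination x1 * h23 + w3 * hv12 - v3 * hw12
  · have h23 : v2 * w3 = v3 * w2 := mul_left_cancel₀ h (by
      linear_combination w3 * hv23 - v3 * hw23)
    refine ⟨mul_left_cancel₀ h ?_, mul_left_cancel₀ h ?_, h23⟩
    · linear_combination w2 * hv13 - v2 * hw13 - x1 * h23
    · linear_combination w3 * hv13 - v3 * hw13

theorem comm_entries {A B : Matrix (Fin 2) (Fin 2) F} (h : A * B = B * A) :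
    A 0 1 * B 1 0 = A 1 0 * B 0 1 ∧ A 0 1 * (B 0 0 - B 1 1) = (A 0 0 - A 1 1) * B 0 1 ∧
      A 1 0 * (B 0 0 - B 1 1) = (A 0 0 - A 1 1) * B 1 0 := by
  have h00 := congrFun (congrFun h 0) 0
  have h01 := congrFun (congrFun h 0) 1
  have h10 := congrFun (congrFun h 1) 0
  simp only [Matrix.mul_apply, Fin.sum_univ_two] at h00 h01 h10
  refine ⟨?_, ?_, ?_⟩
  · linear_combination h00
  · linear_combination -h01
  · linear_combination h10

theorem comm_of_entries {A B : Matrix (Fin 2) (Fin 2) F}
    (h : A 0 1 * B 1 0 = A 1 0 * B 0 1 ∧ A 0 1 * (B 0 0 - B 1 1) = (A 0 0 - A 1 1) * B 0 1 ∧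
      A 1 0 * (B 0 0 - B 1 1) = (A 0 0 - A 1 1) * B 1 0) : A * B = B * A := by
  obtain ⟨h1, h2, h3⟩ := h
  ext i j
  fin_cases i <;> fin_cases j <;> simp only [Matrix.mul_apply, Fin.sum_univ_two, Fin.zero_eta,
    Fin.mk_one, Fin.isValue]
  · linear_combination h1
  · linear_combination -h2
  · linear_combination h3
  · linear_combination -h1

theorem sl2_ct (h2 : (2 : F) = 0) (A B C : Matrix.SpecialLinearGroup (Fin 2) F) (hB : B ≠ 1)
    (hAB : Commute A B) (hBC : Commute B C) : Commute A C := by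
  have hAB' : A.1 * B.1 = B.1 * A.1 := congrArg Subtype.val hAB.eq
  have hCB' : C.1 * B.1 = B.1 * C.1 := (congrArg Subtype.val hBC.eq).symm
  obtain ⟨a1, a2, a3⟩ := comm_entries hAB'
  obtain ⟨c1, c2, c3⟩ := comm_entries hCB'
  have hx : B.1 0 1 ≠ 0 ∨ B.1 1 0 ≠ 0 ∨ B.1 0 0 - B.1 1 1 ≠ 0 := by
    by_contra hcon
    push Not at hcon
    obtain ⟨e1, e2, e3⟩ := hcon
    apply hB
    have hdet := B.2
    rw [Matrix.det_fin_two, e1, e2] at hdet
    have e4 : B.1 0 0 = B.1 1 1 := sub_eq_zero.1 e3
    have h5 : (B.1 1 1 + 1) * (B.1 1 1 + 1) = 0 := by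
      rw [e4] at hdet
      linear_combination hdet + (B.1 1 1 + 1) * h2
    have h6 : B.1 1 1 = 1 := by
      have := mul_self_eq_zero.1 h5
      linear_combination this - h2
    ext i j
    fin_cases i <;> fin_cases j <;> simp [e1, e2, e4, h6]
  have := par _ _ _ _ _ _ _ _ _ hx a1 a2 a3 c1 c2 c3
  exact Subtype.ext (comm_of_entries this)

end converse

section data

variable {G : Type*} [Group G] [Finite G] [IsSimpleGroup G]

theorem exists_data (hG : ¬ IsMulCommutative G)
    (hCT : ∀ a b c : G, a ≠ 1 → b ≠ 1 → c ≠ 1 → Commute a b → Commute b c → Commute a c) :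
    ∃ (t : G) (D : CTData G t), (∃ g, g ∉ Hs D) ∧
      ∃ u : G, u ≠ 1 ∧ u * u = 1 ∧ Commute u t ∧ u ≠ t := by
  have hnc : ¬ ∀ a b : G, a * b = b * a := fun h => hG ⟨⟨h⟩⟩
  have heven : Even (Nat.card G) := by
    by_contra hodd
    rw [Nat.not_even_iff_odd] at hodd
    apply hnc
    rw [IsSimpleGroup.comm_iff_isSolvable]
    apply Cfsg.Agent.S0182.result hodd
    intro x hx a ha b hb
    rw [Subgroup.mem_centralizer_singleton_iff] at ha hb
    by_cases ha1 : a = 1
    · simp [ha1]
    by_cases hb1 : b = 1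
    · simp [hb1]
    exact (hCT a x b ha1 hx hb1 ha (Commute.symm hb)).eq
  haveI : Fact (Nat.Prime 2) := ⟨Nat.prime_two⟩
  obtain ⟨t, ht⟩ := exists_prime_orderOf_dvd_card' 2 heven.two_dvd
  have t1 : t ≠ 1 := by
    rintro rfl
    rw [orderOf_one] at ht
    omega
  have t2 : t * t = 1 := by
    have := pow_orderOf_eq_one t
    rwa [ht, pow_two] at this
  have D : CTData G t := ⟨hCT, t1, t2⟩
  refine ⟨t, D, ?_, ?_⟩
  · by_contra h
    push Not at h
    have hN : (Subgroup.centralizer ({t} : Set G)).Normal := by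
      refine ⟨fun s hs g => ?_⟩
      rw [Subgroup.mem_centralizer_singleton_iff] at hs ⊢
      exact S_norm D (h g) hs
    rcases hN.eq_bot_or_eq_top with h0 | h0
    · have : t ∈ Subgroup.centralizer ({t} : Set G) :=
        Subgroup.mem_centralizer_singleton_iff.2 rfl
      rw [h0, Subgroup.mem_bot] at this
      exact t1 this
    · apply hnc
      intro a b
      have ha : a ∈ Subgroup.centralizer ({t} : Set G) := by rw [h0]; exact Subgroup.mem_top a
      have hb : b ∈ Subgroup.centralizer ({t} : Set G) := by rw [h0]; exact Subgroup.mem_top b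
      rw [Subgroup.mem_centralizer_singleton_iff] at ha hb
      exact (S_comm D ha hb).eq
  · by_contra h
    push Not at h
    have hz : IsPGroup 2 (Subgroup.zpowers t) :=
      IsPGroup.of_card (n := 1) (by rw [Nat.card_zpowers, ht, pow_one])
    obtain ⟨P, hP⟩ := hz.exists_le_sylow
    have htP : t ∈ P := hP (Subgroup.mem_zpowers t)
    haveI : Nontrivial P := ⟨⟨⟨t, htP⟩, 1, fun h => t1 (congrArg Subtype.val h)⟩⟩
    haveI := P.2.center_nontrivial
    obtain ⟨c, hc⟩ := exists_ne (1 : Subgroup.center P)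
    have hc1 : ((c : P) : G) ≠ 1 := by
      intro h1
      apply hc
      apply Subtype.ext
      apply Subtype.ext
      exact h1
    have hcc : ∀ x : G, x ∈ P → Commute x ((c : P) : G) := by
      intro x hx
      have := Subgroup.mem_center_iff.1 c.2 ⟨x, hx⟩
      exact congrArg Subtype.val this
    have hPS : ∀ x : G, x ∈ P → Commute x t := by
      intro x hx
      by_cases hx1 : x = 1
      · rw [hx1]; exact Commute.one_left t
      exact hCT _ _ _ hx1 hc1 t1 (hcc x hx) (hcc t htP).symm
    have hNS : ∀ n : G, n ∈ Subgroup.normalizer (P : Set G) → Commute n t := by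
      intro n hn
      have h1 : n * t * n⁻¹ ∈ P := (Subgroup.mem_normalizer_iff.1 hn t).1 htP
      have h2 := h _ (conj_t_ne D n) (conj_t_sq D n) (hPS _ h1)
      exact mul_inv_eq_iff_eq_mul.1 h2
    have hN : Subgroup.normalizer (P : Set G) ≤ Subgroup.centralizer (P : Set G) := by
      intro n hn
      rw [Subgroup.mem_centralizer_iff]
      intro x hx
      exact (S_comm D (hPS x hx) (hNS n hn)).eq
    have hcomp := MonoidHom.ker_transferSylow_isComplement' P hN
    rcases (MonoidHom.normal_ker (MonoidHom.transferSylow P hN)).eq_bot_or_eq_top with h0 | h0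
    · rw [h0] at hcomp
      have h3 : (P : Subgroup G) = ⊤ := by
        have := hcomp.sup_eq_top
        rwa [bot_sup_eq] at this
      apply hnc
      intro a b
      have ha : a ∈ (P : Subgroup G) := by rw [h3]; exact Subgroup.mem_top a
      have hb : b ∈ (P : Subgroup G) := by rw [h3]; exact Subgroup.mem_top b
      exact (S_comm D (hPS a ha) (hPS b hb)).eq
    · rw [h0] at hcomp
      have h3 : (P : Subgroup G) = ⊥ := by
        have := hcomp.disjoint.eq_bot
        rwa [top_inf_eq] at this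
      have : t ∈ (P : Subgroup G) := htP
      rw [h3, Subgroup.mem_bot] at this
      exact t1 this

end data

end Cfsg.Agent.Helper16Ct
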