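import Cfsg.Agent.Lib.Helper61Feit5
import Cfsg.Agent.Lib.Helper32Ind
import Cfsg.Agent.Lib.Helper82Linear
import Cfsg.Agent.Lib.Helper4Char4
import Cfsg.Agent.S0148
import Cfsg.Agent.Lib.Helper83Char

set_option autoImplicit false
set_option linter.unusedVariables false
set_option linter.unusedSectionVars false
set_option linter.unusedSimpArgs false

/-! Characters induced from linear characters of the point stabiliser (principal series). -/

namespace Cfsg.Agent.Lib.Helper61Feit6

open Cfsg Cfsg.Agent.Lib.Helper61Zass Cfsg.Agent.Lib.Helper61Feit Cfsg.Agent.Lib.Helper61Feit2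
  Cfsg.Agent.Lib.Helper61Feit3 Cfsg.Agent.Lib.Helper61Feit4 Cfsg.Agent.Lib.Helper61Feit5
  Cfsg.Agent.Lib.Helper19Ind Cfsg.Agent.Lib.Helper32Ind

section ind

variable {G : Type*} [Group G]

theorem extendByZero_conj (B : Subgroup G) (μ : B → ℂ) (hμ : IsClassFunction B μ) {b : G}
    (hb : b ∈ B) (g : G) : extendByZero B μ (b⁻¹ * g * b) = extendByZero B μ g := by
  by_cases hg : g ∈ B
  · have h1 : b⁻¹ * g * b ∈ B := B.mul_mem (B.mul_mem (B.inv_mem hb) hg) hb
    rw [extendByZero_of_mem B μ h1, extendByZero_of_mem B μ hg]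
    have := hμ ⟨g, hg⟩ (⟨b, hb⟩ : B)⁻¹
    rw [← this]
    congr 1
    apply Subtype.ext
    simp
  · have h1 : b⁻¹ * g * b ∉ B := by
      intro h
      apply hg
      have : g = b * (b⁻¹ * g * b) * b⁻¹ := by group
      rw [this]
      exact B.mul_mem (B.mul_mem hb h) (B.inv_mem hb)
    rw [extendByZero_of_not_mem B μ h1, extendByZero_of_not_mem B μ hg]

variable [Fintype G] {O : Type*} [Fintype O] [DecidableEq O] [MulAction G O]

theorem indFun_stab (a : O) (μ : MulAction.stabilizer G a → ℂ)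
    (hμ : IsClassFunction (MulAction.stabilizer G a) μ) (κ : O → G) (hκ : ∀ c, κ c • a = c) (g : G) :
    indFun (MulAction.stabilizer G a) μ g
      = ∑ c : O, extendByZero (MulAction.stabilizer G a) μ ((κ c)⁻¹ * g * κ c) := by
  classical
  rw [indFun_apply, ← Finset.sum_fiberwise Finset.univ (fun k : G => k • a)]
  have h1 : ∀ c : O, ∑ k ∈ Finset.univ.filter (fun k : G => k • a = c),
      extendByZero (MulAction.stabilizer G a) μ (k⁻¹ * g * k)
      = (Nat.card (MulAction.stabilizer G a) : ℂ)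
        * extendByZero (MulAction.stabilizer G a) μ ((κ c)⁻¹ * g * κ c) := by
    intro c
    have h2 : ∀ k ∈ Finset.univ.filter (fun k : G => k • a = c),
        extendByZero (MulAction.stabilizer G a) μ (k⁻¹ * g * k)
        = extendByZero (MulAction.stabilizer G a) μ ((κ c)⁻¹ * g * κ c) := by
      intro k hk
      have hk' := (Finset.mem_filter.1 hk).2
      have hb : (κ c)⁻¹ * k ∈ MulAction.stabilizer G a := by
        rw [MulAction.mem_stabilizer_iff, mul_smul, hk', inv_smul_eq_iff, hκ]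
      rw [← extendByZero_conj _ μ hμ hb ((κ c)⁻¹ * g * κ c)]
      congr 1
      group
    rw [Finset.sum_congr rfl h2, Finset.sum_const, nsmul_eq_mul]
    congr 2
    rw [Nat.card_eq_fintype_card, Fintype.card_subtype]
    apply Finset.card_bij (fun k _ => (κ c)⁻¹ * k)
    · intro k hk
      have hk' := (Finset.mem_filter.1 hk).2
      rw [Finset.mem_filter]
      refine ⟨Finset.mem_univ _, ?_⟩
      rw [MulAction.mem_stabilizer_iff, mul_smul, hk', inv_smul_eq_iff, hκ]
    · intro k _ k' _ h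
      exact mul_left_cancel h
    · intro b hb
      have hb' := (Finset.mem_filter.1 hb).2
      refine ⟨κ c * b, ?_, by group⟩
      rw [Finset.mem_filter]
      refine ⟨Finset.mem_univ _, ?_⟩
      rw [mul_smul, MulAction.mem_stabilizer_iff.1 hb', hκ]
  rw [Finset.sum_congr rfl (fun c _ => h1 c), ← Finset.mul_sum, ← mul_assoc,
    inv_mul_cancel₀ (card_ne_zero _), one_mul]

end ind

section main

variable {G : Type*} [Group G] [Fintype G] {O : Type*} [Fintype O] [MulAction G O] {h : ℕ}
  (hZ : Cfsg.IsZassenhausGroup G O) [IsSimpleGroup G] (hh : Nat.card O = h + 1)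
  {a b : O} (hab : a ≠ b) (hodd : Odd (Nat.card (stab2 G a b)))
  (μ : Cfsg.IrrCharacter (MulAction.stabilizer G a)) (hμ1 : (μ : MulAction.stabilizer G a → ℂ) 1 = 1)

include hZ hh hab hodd hμ1

open Classical in
theorem ind_value (g : MulAction.stabilizer G a) :
    indFun (MulAction.stabilizer G a) (μ : MulAction.stabilizer G a → ℂ) (g : G)
      = (μ : MulAction.stabilizer G a → ℂ) g
        + (∑ c : O, if c ≠ a ∧ (g : G) • c = c then (1 : ℂ) else 0)
          * (starRingEnd ℂ) ((μ : MulAction.stabilizer G a → ℂ) g) := by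
  classical
  have hcl : IsClassFunction (MulAction.stabilizer G a) (μ : MulAction.stabilizer G a → ℂ) :=
    Cfsg.Agent.Lib.Helper83Char.irr_class μ.2
  have hex : ∀ c : O, ∃ s : G, s • a = c ∧ (c ≠ a → orderOf s = 2 ∧ s • c = a) ∧ (c = a → s = 1) := by
    intro c
    by_cases hc : c = a
    · exact ⟨1, by rw [one_smul, hc], fun h => absurd hc h, fun _ => rfl⟩
    · obtain ⟨s, hs, h1, h2⟩ := exists_swap hZ hh (Ne.symm hc)
      exact ⟨s, h1, fun _ => ⟨hs, h2⟩, fun h => absurd h hc⟩
  choose κ hκ1 hκ2 hκ3 using hex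
  rw [indFun_stab a _ hcl κ hκ1, Finset.sum_mul]
  rw [← Finset.add_sum_erase Finset.univ _ (Finset.mem_univ a)]
  rw [← Finset.add_sum_erase Finset.univ (fun c => (if c ≠ a ∧ (g : G) • c = c then (1 : ℂ) else 0)
    * (starRingEnd ℂ) ((μ : MulAction.stabilizer G a → ℂ) g)) (Finset.mem_univ a)]
  have h0 : extendByZero (MulAction.stabilizer G a) (μ : MulAction.stabilizer G a → ℂ)
      ((κ a)⁻¹ * (g : G) * κ a) = (μ : MulAction.stabilizer G a → ℂ) g := by
    rw [hκ3 a rfl]
    simp only [inv_one, one_mul, mul_one]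
    exact extendByZero_coe _ _ g
  rw [h0]
  simp only [ne_eq, not_true_eq_false, false_and, if_false, zero_mul, zero_add]
  congr 1
  apply Finset.sum_congr rfl
  intro c hc
  have hca : c ≠ a := Finset.ne_of_mem_erase hc
  obtain ⟨hs, hsc⟩ := hκ2 c hca
  have hsa := hκ1 c
  by_cases hgc : (g : G) • c = c
  · rw [if_pos ⟨hca, hgc⟩, one_mul]
    have hgE : (g : G) ∈ stab2 G a c := mem_stab2.2 ⟨g.2, hgc⟩
    have hinv := inverts hZ hh (Ne.symm hca) (odd_all hZ hh hab hodd (Ne.symm hca)) hsa hsc g hgE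
    have h1 : (κ c)⁻¹ * (g : G) * κ c = ((g⁻¹ : MulAction.stabilizer G a) : G) := by
      rw [inv_of_order_two hs] at hinv ⊢
      exact hinv
    rw [h1, extendByZero_coe]
    exact Cfsg.Agent.Lib.Helper83Char.irr_inv μ.2 g
  · rw [if_neg (fun h => hgc h.2), zero_mul]
    apply extendByZero_of_not_mem
    intro hmem
    apply hgc
    rw [MulAction.mem_stabilizer_iff, mul_smul, mul_smul, hsa, inv_smul_eq_iff, hsa] at hmem
    exact hmem

/-- `μ²` is non-trivial on every two point stabiliser -/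
theorem exists_sq_ne_one {H : Subgroup G} (K : KData G O a h H)
    (hμH : ∀ u : MulAction.stabilizer G a, (u : G) ∈ H → (μ : MulAction.stabilizer G a → ℂ) u = 1)
    (hμne : (μ : MulAction.stabilizer G a → ℂ) ≠ fun _ => 1) {c : O} (hca : c ≠ a) :
    ∃ y : MulAction.stabilizer G a, (y : G) • c = c ∧ (μ : MulAction.stabilizer G a → ℂ) y ^ 2 ≠ 1 := by
  have D := tdata_of_zass hZ hh
  have he := three_le_e hZ hh hab hodd
  have h4 := four_le_h hZ hh hab hodd
  have hcl : IsClassFunction (MulAction.stabilizer G a) (μ : MulAction.stabilizer G a → ℂ) :=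
    Cfsg.Agent.Lib.Helper83Char.irr_class μ.2
  obtain ⟨x, hx⟩ : ∃ x, (μ : MulAction.stabilizer G a → ℂ) x ≠ 1 := by
    by_contra hcon
    push Not at hcon
    exact hμne (funext hcon)
  have hxH : (x : G) ∉ H := fun hx' => hx (hμH x hx')
  rw [K.mem_iff D hab (by omega) (by omega)] at hxH
  push Not at hxH
  obtain ⟨-, c', hc', hc'a⟩ := hxH x.2
  obtain ⟨k, hka, hkc⟩ := exists_smul_pair D (Ne.symm hc'a) (Ne.symm hca)
  let k' : MulAction.stabilizer G a := ⟨k, hka⟩
  refine ⟨k' * x * k'⁻¹, ?_, ?_⟩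
  · show (k * (x : G) * k⁻¹) • c = c
    rw [mul_smul, mul_smul, ← hkc, inv_smul_smul, hc']
  · rw [hcl x k']
    intro hsq
    apply hx
    have hxE : (x : G) ∈ stab2 G a c' := mem_stab2.2 ⟨x.2, hc'⟩
    obtain ⟨j, hj⟩ := odd_all hZ hh hab hodd (Ne.symm hc'a)
    have hpow : x ^ (2 * j + 1) = 1 := by
      have := pow_card_eq_one' (G := stab2 G a c') (x := ⟨x, hxE⟩)
      rw [hj] at this
      have h' : (x : G) ^ (2 * j + 1) = 1 := by
        simpa using congrArg Subtype.val this
      apply Subtype.ext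
      simpa using h'
    have hmul : ∀ n : ℕ, (μ : MulAction.stabilizer G a → ℂ) (x ^ n)
        = (μ : MulAction.stabilizer G a → ℂ) x ^ n := by
      intro n
      induction n with
      | zero => rw [pow_zero, pow_zero, hμ1]
      | succ n ih => rw [pow_succ, pow_succ, Cfsg.Agent.Lib.Helper82Linear.irr_linear_mul μ hμ1, ih]
    have h5 := hmul (2 * j + 1)
    rw [hpow, hμ1, pow_succ, pow_mul, hsq, one_pow, one_mul] at h5
    exact h5.symm

open Classical in
theorem sum_sq_eq_zero {H : Subgroup G} (K : KData G O a h H)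
    (hμH : ∀ u : MulAction.stabilizer G a, (u : G) ∈ H → (μ : MulAction.stabilizer G a → ℂ) u = 1)
    (hμne : (μ : MulAction.stabilizer G a → ℂ) ≠ fun _ => 1) {c : O} (hca : c ≠ a) :
    ∑ g : MulAction.stabilizer G a,
      (if (g : G) • c = c then (μ : MulAction.stabilizer G a → ℂ) g ^ 2 else 0) = 0 := by
  obtain ⟨y, hyc, hy⟩ := exists_sq_ne_one hZ hh hab hodd μ hμ1 K hμH hμne hca
  have hf : ∀ g : MulAction.stabilizer G a,
      (if ((g * y : MulAction.stabilizer G a) : G) • c = c
        then (μ : MulAction.stabilizer G a → ℂ) (g * y) ^ 2 else 0)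
      = (μ : MulAction.stabilizer G a → ℂ) y ^ 2 *
        (if (g : G) • c = c then (μ : MulAction.stabilizer G a → ℂ) g ^ 2 else 0) := by
    intro g
    have h2 : ((g * y : MulAction.stabilizer G a) : G) • c = c ↔ (g : G) • c = c := by
      show ((g : G) * (y : G)) • c = c ↔ _
      rw [mul_smul, hyc]
    by_cases hg : (g : G) • c = c
    · rw [if_pos hg, if_pos (h2.2 hg), Cfsg.Agent.Lib.Helper82Linear.irr_linear_mul μ hμ1]
      ring
    · rw [if_neg hg, if_neg (fun h => hg (h2.1 h)), mul_zero]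
  set S := ∑ g : MulAction.stabilizer G a,
      (if (g : G) • c = c then (μ : MulAction.stabilizer G a → ℂ) g ^ 2 else 0) with hS
  have h1 : S = (μ : MulAction.stabilizer G a → ℂ) y ^ 2 * S := by
    conv_lhs => rw [hS]
    rw [hS, Finset.mul_sum, ← Finset.sum_congr rfl (fun g _ => hf g)]
    exact (Equiv.sum_comp (Equiv.mulRight y) (fun g : MulAction.stabilizer G a =>
      (if (g : G) • c = c then (μ : MulAction.stabilizer G a → ℂ) g ^ 2 else 0))).symm
  have h2 : (1 - (μ : MulAction.stabilizer G a → ℂ) y ^ 2) * S = 0 := by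
    rw [sub_mul, one_mul, ← h1, sub_self]
  rcases mul_eq_zero.1 h2 with h3 | h3
  · exact absurd (sub_eq_zero.1 h3).symm hy
  · exact h3

theorem norm_ind {H : Subgroup G} (K : KData G O a h H)
    (hμH : ∀ u : MulAction.stabilizer G a, (u : G) ∈ H → (μ : MulAction.stabilizer G a → ℂ) u = 1)
    (hμne : (μ : MulAction.stabilizer G a → ℂ) ≠ fun _ => 1) :
    classInner (indFun (MulAction.stabilizer G a) (μ : MulAction.stabilizer G a → ℂ))
      (indFun (MulAction.stabilizer G a) (μ : MulAction.stabilizer G a → ℂ)) = 1 := by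
  classical
  rw [frobenius _ _ _ (indFun_isClassFunction _ _)]
  unfold classInner
  have h1 : ∀ g : MulAction.stabilizer G a, (μ : MulAction.stabilizer G a → ℂ) g
      * (starRingEnd ℂ) (indFun (MulAction.stabilizer G a) (μ : MulAction.stabilizer G a → ℂ) (g : G))
      = 1 + ∑ c : O, (if c ≠ a then
          (if (g : G) • c = c then (μ : MulAction.stabilizer G a → ℂ) g ^ 2 else 0) else 0) := by
    intro g
    rw [ind_value hZ hh hab hodd μ hμ1 g, map_add, map_mul, Complex.conj_conj, mul_add,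
      Cfsg.Agent.Lib.Helper82Linear.irr_linear_mul_conj μ hμ1, map_sum]
    congr 1
    rw [Finset.sum_mul, Finset.mul_sum]
    apply Finset.sum_congr rfl
    intro c _
    by_cases hc : c ≠ a
    · by_cases hg : (g : G) • c = c
      · rw [if_pos ⟨hc, hg⟩, if_pos hc, if_pos hg, map_one]
        ring
      · rw [if_neg (fun h => hg h.2), if_pos hc, if_neg hg, map_zero]
        ring
    · rw [if_neg (fun h => hc h.1), if_neg hc, map_zero]
      ring
  rw [Finset.sum_congr rfl (fun g _ => h1 g), Finset.sum_add_distrib, Finset.sum_comm]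
  have h2 : ∀ c : O, ∑ g : MulAction.stabilizer G a, (if c ≠ a then
      (if (g : G) • c = c then (μ : MulAction.stabilizer G a → ℂ) g ^ 2 else 0) else 0) = 0 := by
    intro c
    by_cases hc : c ≠ a
    · simp only [if_pos hc]
      exact sum_sq_eq_zero hZ hh hab hodd μ hμ1 K hμH hμne hc
    · simp only [if_neg hc]
      exact Finset.sum_const_zero
  rw [Finset.sum_congr rfl (fun c _ => h2 c), Finset.sum_const_zero, add_zero, Finset.sum_const,
    Finset.card_univ, nsmul_eq_mul, mul_one, ← Nat.card_eq_fintype_card,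
    inv_mul_cancel₀ (card_ne_zero _)]

theorem irr_ind {H : Subgroup G} (K : KData G O a h H)
    (hμH : ∀ u : MulAction.stabilizer G a, (u : G) ∈ H → (μ : MulAction.stabilizer G a → ℂ) u = 1)
    (hμne : (μ : MulAction.stabilizer G a → ℂ) ≠ fun _ => 1) :
    IsIrrCharacter G (indFun (MulAction.stabilizer G a) (μ : MulAction.stabilizer G a → ℂ)) := by
  rw [Cfsg.Agent.Lib.Helper4Char4.isIrrCharacter_iff]
  exact ⟨Cfsg.Agent.S0148.result _ _ (Cfsg.Agent.Lib.Helper83Char.isCharacter_of_irr μ.2),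
    norm_ind hZ hh hab hodd μ hμ1 K hμH hμne⟩

theorem ind_value_kernel {H : Subgroup G} (K : KData G O a h H)
    (hμH : ∀ u : MulAction.stabilizer G a, (u : G) ∈ H → (μ : MulAction.stabilizer G a → ℂ) u = 1)
    {u : G} (hu : u ∈ H) (hu1 : u ≠ 1) :
    indFun (MulAction.stabilizer G a) (μ : MulAction.stabilizer G a → ℂ) u = 1 := by
  classical
  have h1 := ind_value hZ hh hab hodd μ hμ1 ⟨u, K.le hu⟩
  rw [h1, hμH _ hu]
  have h2 : ∑ c : O, (if c ≠ a ∧ u • c = c then (1 : ℂ) else 0) = 0 := by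
    apply Finset.sum_eq_zero
    intro c _
    rw [if_neg]
    rintro ⟨h3, h4⟩
    exact h3 (K.fix u hu hu1 c h4)
  rw [h2, zero_mul, add_zero]

end main

end Cfsg.Agent.Lib.Helper61Feit6
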