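import Cfsg.Agent.Lib.Helper19Chief
import Mathlib

set_option autoImplicit false

namespace Cfsg.Agent.Lib.Helper19Rel

open Cfsg Cfsg.Agent.Lib.Helper4Char Cfsg.Agent.Lib.Helper4Char2
  Cfsg.Agent.Lib.Helper4Char4 Cfsg.Agent.Lib.Helper19Cliff Cfsg.Agent.Lib.Helper19Ratio
open scoped commutatorElement

variable {G : Type*} [Group G]

/-- Conjugation action of `T` on a subgroup `K` that it normalizes. -/
def conjOn (T K : Subgroup G) (h : ∀ t ∈ T, ∀ k ∈ K, t * k * t⁻¹ ∈ K) : T →* MulAut K where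
  toFun t :=
    { toFun := fun k => ⟨t * k * t⁻¹, h t t.2 k k.2⟩
      invFun := fun k => ⟨t⁻¹ * k * t, by simpa using h t⁻¹ (T.inv_mem t.2) k k.2⟩
      left_inv := fun k => by apply Subtype.ext; simp [mul_assoc]
      right_inv := fun k => by apply Subtype.ext; simp [mul_assoc]
      map_mul' := fun a b => by apply Subtype.ext; simp [mul_assoc] }
  map_one' := by ext; simp
  map_mul' a b := by ext; simp [mul_assoc]

theorem conjOn_coe (T K : Subgroup G) (h : ∀ t ∈ T, ∀ k ∈ K, t * k * t⁻¹ ∈ K) (t : T) (k : K) :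
    ((conjOn T K h t k : K) : G) = t * k * t⁻¹ := rfl

theorem commutator_sup_lt (N : Subgroup G) [N.Normal] (hsolv : Group.IsSolvable (G ⧸ N))
    (K : Subgroup G) (hNK : N < K) : ⁅K, K⁆ ⊔ N < K := by
  have hle : ⁅K, K⁆ ⊔ N ≤ K := by
    apply sup_le _ hNK.le
    rw [Subgroup.commutator_le]
    intro a ha b hb
    exact K.mul_mem (K.mul_mem (K.mul_mem ha hb) (K.inv_mem ha)) (K.inv_mem hb)
  refine lt_of_le_of_ne hle ?_
  intro heq
  obtain ⟨Kb, hKb⟩ : ∃ Kb, Kb = K.map (QuotientGroup.mk' N) := ⟨_, rfl⟩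
  have hmapN : N.map (QuotientGroup.mk' N) = ⊥ := by
    rw [Subgroup.map_eq_bot_iff, QuotientGroup.ker_mk']
  have h1 : ⁅Kb, Kb⁆ = Kb := by
    rw [hKb, ← Subgroup.map_commutator]
    conv_rhs => rw [← heq, Subgroup.map_sup, hmapN, sup_bot_eq]
  obtain ⟨k, hkK, hkN⟩ := SetLike.exists_of_lt hNK
  haveI : Nontrivial Kb := by
    refine ⟨⟨⟨QuotientGroup.mk' N k, by rw [hKb]; exact ⟨k, hkK, rfl⟩⟩, 1, ?_⟩⟩
    intro h
    apply hkN
    have := congrArg Subtype.val h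
    exact (QuotientGroup.eq_one_iff k).1 this
  have h2 := Group.IsSolvable.commutator_lt_top_of_nontrivial Kb
  apply h2.ne
  apply Subgroup.map_injective Kb.subtype_injective
  rw [Subgroup.map_subtype_commutator, h1, ← MonoidHom.range_eq_map, Subgroup.range_subtype]

/-- Existence of an abelian "chief factor" of `T` below `K`, above `N`. -/
theorem exists_chief_below [Finite G] (N : Subgroup G) [N.Normal]
    (hsolv : Group.IsSolvable (G ⧸ N)) (T K : Subgroup G) (hNK : N < K)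
    (hK : ∀ t ∈ T, ∀ k ∈ K, t * k * t⁻¹ ∈ K) :
    ∃ L : Subgroup G, N ≤ L ∧ L < K ∧ ⁅K, K⁆ ≤ L ∧ (∀ t ∈ T, ∀ l ∈ L, t * l * t⁻¹ ∈ L) ∧
      ∀ M : Subgroup G, L ≤ M → M ≤ K → (∀ t ∈ T, ∀ m ∈ M, t * m * t⁻¹ ∈ M) → M = L ∨ M = K := by
  have hD := commutator_sup_lt N hsolv K hNK
  have hDinv : ∀ t ∈ T, ∀ l ∈ ⁅K, K⁆ ⊔ N, t * l * t⁻¹ ∈ ⁅K, K⁆ ⊔ N := by
    intro t ht
    have h1 : ⁅K, K⁆ ⊔ N ≤ (⁅K, K⁆ ⊔ N).comap (MulAut.conj t).toMonoidHom := by
      apply sup_le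
      · rw [Subgroup.commutator_le]
        intro a ha b hb
        show t * ⁅a, b⁆ * t⁻¹ ∈ ⁅K, K⁆ ⊔ N
        apply Subgroup.mem_sup_left
        have h2 : t * ⁅a, b⁆ * t⁻¹ = ⁅t * a * t⁻¹, t * b * t⁻¹⁆ := by
          simp only [commutatorElement_def]; group
        rw [h2]
        exact Subgroup.commutator_mem_commutator (hK t ht a ha) (hK t ht b hb)
      · intro n hn
        show t * n * t⁻¹ ∈ ⁅K, K⁆ ⊔ N
        exact Subgroup.mem_sup_right (Subgroup.Normal.conj_mem inferInstance n hn t)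
    exact h1
  obtain ⟨L, ⟨hL1, hL2, hL3⟩, hLmax⟩ := (wellFounded_gt : WellFounded
    ((· > ·) : Subgroup G → Subgroup G → Prop)).has_min
    {L : Subgroup G | ⁅K, K⁆ ⊔ N ≤ L ∧ L < K ∧ ∀ t ∈ T, ∀ l ∈ L, t * l * t⁻¹ ∈ L}
    ⟨_, le_rfl, hD, hDinv⟩
  refine ⟨L, le_sup_right.trans hL1, hL2, le_sup_left.trans hL1, hL3, ?_⟩
  intro M hLM hMK hM
  by_cases h : M = K
  · right; exact h
  · left
    by_contra hne
    exact hLmax M ⟨hL1.trans hLM, lt_of_le_of_ne hMK h, hM⟩ (lt_of_le_of_ne hLM (Ne.symm hne))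

section

variable [Fintype G]

/-- Isaacs (6.18) relative to a subgroup `T` normalizing `L ≤ K`. -/
theorem chief_cases (T K L : Subgroup G) [Fintype K] [Fintype L] (hLK : L ≤ K) (hKT : K ≤ T)
    (hK : ∀ t ∈ T, ∀ k ∈ K, t * k * t⁻¹ ∈ K) (hL : ∀ t ∈ T, ∀ l ∈ L, t * l * t⁻¹ ∈ L)
    (hchief : ∀ M : Subgroup G, L ≤ M → M ≤ K → (∀ t ∈ T, ∀ m ∈ M, t * m * t⁻¹ ∈ M) →
      M = L ∨ M = K) (hab : ⁅K, K⁆ ≤ L) {ϑ : K → ℂ} (hϑ : IsIrrCharacter K ϑ)
    (hinv : ∀ (t : T) (k : K), ϑ (conjOn T K hK t k) = ϑ k) {φ : L → ℂ} (hφ : IsIrrCharacter L φ)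
    (hcon : classInner (fun l : L => ϑ (Subgroup.inclusion hLK l)) φ ≠ 0) :
    (∀ t : T, (t : G) ∈ K → (∀ l : L, φ (conjOn T L hL t l) = φ l) → (t : G) ∈ L) ∨
      IsIrrCharacter L (fun l : L => ϑ (Subgroup.inclusion hLK l)) ∨
      ∃ e : ℕ, e ^ 2 = L.relIndex K := by
  classical
  have hrange : (Subgroup.inclusion hLK).range = L.subgroupOf K := Subgroup.inclusion_range hLK
  have hι : Function.Injective (Subgroup.inclusion hLK) := Subgroup.inclusion_injective _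
  obtain ⟨c, hcdef⟩ : ∃ c : K →* MulAut L, c = (conjOn T L hL).comp (Subgroup.inclusion hKT) :=
    ⟨_, rfl⟩
  have hc : ∀ (k : K) (l : L), Subgroup.inclusion hLK (c k l)
      = k * Subgroup.inclusion hLK l * k⁻¹ := by
    intro k l
    rw [hcdef]
    apply Subtype.ext
    rfl
  have ha : ∀ (a : T) (l : L), Subgroup.inclusion hLK (conjOn T L hL a l)
      = conjOn T K hK a (Subgroup.inclusion hLK l) := by
    intro a l
    apply Subtype.ext
    rfl
  have hchief' : ∀ M : Subgroup K, (Subgroup.inclusion hLK).range ≤ M →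
      (∀ a : T, ∀ m ∈ M, conjOn T K hK a m ∈ M) →
      M = (Subgroup.inclusion hLK).range ∨ M = ⊤ := by
    intro M hM hMinv
    have hn : ∀ t ∈ T, ∀ m ∈ M.map K.subtype, t * m * t⁻¹ ∈ M.map K.subtype := by
      rintro t ht _ ⟨m, hm, rfl⟩
      exact ⟨_, hMinv ⟨t, ht⟩ m hm, rfl⟩
    have hL' : L ≤ M.map K.subtype := by
      intro l hl
      exact ⟨⟨l, hLK hl⟩, hM ⟨⟨l, hl⟩, rfl⟩, rfl⟩
    rcases hchief _ hL' (Subgroup.map_subtype_le M) hn with h | h
    · left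
      apply le_antisymm _ hM
      intro m hm
      have : (m : G) ∈ M.map K.subtype := ⟨m, hm, rfl⟩
      rw [h] at this
      exact ⟨⟨m, this⟩, rfl⟩
    · right
      rw [eq_top_iff]
      intro m _
      have : (m : G) ∈ M.map K.subtype := by rw [h]; exact m.2
      obtain ⟨m', hm', hmm⟩ := this
      have : m' = m := Subtype.ext hmm
      rwa [← this]
  have hab' : ∀ x y : K, x * y * x⁻¹ * y⁻¹ ∈ (Subgroup.inclusion hLK).range := by
    intro x y
    have := hab (Subgroup.commutator_mem_commutator x.2 y.2)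
    exact ⟨⟨_, this⟩, rfl⟩
  have hidx : (Subgroup.inclusion hLK).range.index = L.relIndex K := by rw [hrange]; rfl
  rcases Helper19Chief.inertia_eq _ hι c hc (conjOn T K hK) (conjOn T L hL) ha hchief' hab'
    hϑ hinv hφ hcon with hI | hI
  · left
    intro t ht htφ
    have h1 : (⟨t, ht⟩ : K) ∈ inertia c φ := by
      intro l
      rw [hcdef]
      exact htφ l
    rw [hI] at h1
    obtain ⟨l, hl⟩ := h1
    have := congrArg Subtype.val hl
    simp only [Subgroup.coe_inclusion] at this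
    rw [← this]
    exact l.2
  · right
    have hI' : ∀ (k : K) (l : L), φ (c k l) = φ l := by
      intro k
      have : k ∈ inertia c φ := by rw [hI]; trivial
      exact this
    rcases Helper19Chief.res_of_invariant _ hι c hc (conjOn T K hK) (conjOn T L hL) ha hchief'
      hab' hϑ hinv hφ hcon hI' with h | ⟨e, he1, he2⟩
    · left; exact h
    · right
      exact ⟨e, by rw [he2, hidx]⟩

end

end Cfsg.Agent.Lib.Helper19Rel
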