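import Cfsg.Agent.Lib.Helper61Feit4

set_option autoImplicit false
set_option linter.unusedVariables false
set_option linter.unusedSectionVars false
set_option linter.unusedSimpArgs false

/-! Involutions in the Frobenius kernel; counting classes through products of involutions. -/

namespace Cfsg.Agent.Lib.Helper61Feit5

open Cfsg.Agent.Lib.Helper61Zass Cfsg.Agent.Lib.Helper61Feit Cfsg.Agent.Lib.Helper61Feit2
  Cfsg.Agent.Lib.Helper61Feit3 Cfsg.Agent.Lib.Helper61Feit4

section general

variable {G : Type*} [Group G] [Finite G]

theorem card_fiber_mul (g : G) :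
    Nat.card {g' : G // ConjClasses.mk g' = ConjClasses.mk g}
      * Nat.card (Subgroup.centralizer ({g} : Set G)) = Nat.card G := by
  classical
  have hfin : Finite (ConjAct G) := inferInstanceAs (Finite G)
  have : Fintype (ConjAct G) := Fintype.ofFinite _
  have : Fintype (MulAction.orbit (ConjAct G) g) := Fintype.ofFinite _
  have hos := MulAction.card_orbit_mul_card_stabilizer_eq_card_group (ConjAct G) g
  have hcG : Nat.card (ConjAct G) = Nat.card G := rfl
  rw [← Nat.card_eq_fintype_card, ← Nat.card_eq_fintype_card, ← Nat.card_eq_fintype_card,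
    hcG, ← Subgroup.nat_card_centralizer_nat_card_stabilizer] at hos
  rw [← hos]
  congr 1
  apply Nat.card_congr
  apply Equiv.subtypeEquivRight
  intro g'
  rw [ConjAct.mem_orbit_conjAct, ConjClasses.mk_eq_mk_iff_isConj]

/-- class counting: the sum of the centraliser orders over a union of classes -/
theorem sum_card_centralizer [Fintype G] (P : ConjClasses G → Prop) [DecidablePred P] :
    ∑ g : G, (if P (ConjClasses.mk g) then Nat.card (Subgroup.centralizer ({g} : Set G)) else 0)
      = Nat.card {C : ConjClasses G // P C} * Nat.card G := by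
  classical
  have : Fintype (ConjClasses G) := Fintype.ofFinite _
  rw [← Finset.sum_fiberwise Finset.univ (fun g : G => ConjClasses.mk g)]
  have h1 : ∀ C : ConjClasses G, ∑ g ∈ Finset.univ.filter (fun g : G => ConjClasses.mk g = C),
      (if P (ConjClasses.mk g) then Nat.card (Subgroup.centralizer ({g} : Set G)) else 0)
      = if P C then Nat.card G else 0 := by
    intro C
    by_cases hC : P C
    · rw [if_pos hC]
      obtain ⟨g₀, rfl⟩ := ConjClasses.exists_rep C
      set n := Nat.card {g' : G // ConjClasses.mk g' = ConjClasses.mk g₀} with hn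
      have hnpos : 0 < n := by
        have : Nonempty {g' : G // ConjClasses.mk g' = ConjClasses.mk g₀} := ⟨⟨g₀, rfl⟩⟩
        exact Nat.card_pos
      apply Nat.eq_of_mul_eq_mul_left hnpos
      rw [Finset.mul_sum]
      have h2 : ∀ g ∈ Finset.univ.filter (fun g : G => ConjClasses.mk g = ConjClasses.mk g₀),
          n * (if P (ConjClasses.mk g) then Nat.card (Subgroup.centralizer ({g} : Set G)) else 0)
          = Nat.card G := by
        intro g hg
        have hg' := (Finset.mem_filter.1 hg).2
        rw [hg', if_pos hC, ← card_fiber_mul g, hg']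
      rw [Finset.sum_congr rfl h2, Finset.sum_const, smul_eq_mul]
      congr 1
      rw [hn, Nat.card_eq_fintype_card, Fintype.card_subtype]
    · rw [if_neg hC]
      apply Finset.sum_eq_zero
      intro g hg
      rw [(Finset.mem_filter.1 hg).2, if_neg hC]
  rw [Finset.sum_congr rfl (fun C _ => h1 C), Finset.sum_ite, Finset.sum_const_zero, add_zero,
    Finset.sum_const, smul_eq_mul, Nat.card_eq_fintype_card (α := {C : ConjClasses G // P C}),
    Fintype.card_subtype]

/-- the number of ways of writing `g` as a product of two involutions is at most `|C(g)|` -/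
theorem card_invol_pairs_le (g : G) :
    Nat.card {p : G × G // orderOf p.1 = 2 ∧ orderOf p.2 = 2 ∧ p.1 * p.2 = g}
      ≤ Nat.card (Subgroup.centralizer ({g} : Set G)) := by
  classical
  by_cases hne : Nonempty {p : G × G // orderOf p.1 = 2 ∧ orderOf p.2 = 2 ∧ p.1 * p.2 = g}
  · obtain ⟨⟨⟨s, s'⟩, hs, hs', hss⟩⟩ := hne
    have hinvert : ∀ p : {p : G × G // orderOf p.1 = 2 ∧ orderOf p.2 = 2 ∧ p.1 * p.2 = g},
        p.1.1 * g * p.1.1 = g⁻¹ := by
      rintro ⟨⟨x, y⟩, hx, hy, hxy⟩
      show x * g * x = g⁻¹
      rw [← hxy, mul_inv_rev, inv_of_order_two hx, inv_of_order_two hy]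
      calc x * (x * y) * x = (x * x) * y * x := by group
        _ = y * x := by rw [sq_of_order_two hx, one_mul]
    have h0 : s * g * s = g⁻¹ := hinvert ⟨⟨s, s'⟩, hs, hs', hss⟩
    apply Nat.card_le_card_of_injective
      (fun p => (⟨s * p.1.1, by
        rw [Subgroup.mem_centralizer_singleton_iff]
        have h1 := hinvert p
        have h2 : p.1.1 * g = g⁻¹ * p.1.1 := by
          rw [← h1]
          have := sq_of_order_two p.2.1
          calc p.1.1 * g = p.1.1 * g * (p.1.1 * p.1.1) := by rw [this, mul_one]
            _ = p.1.1 * g * p.1.1 * p.1.1 := by group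
        have h3 : s * g⁻¹ = g * s := by
          have h4 : g = s * g⁻¹ * s := by
            rw [← h0]
            have := sq_of_order_two hs
            calc g = (s * s) * g * (s * s) := by rw [this]; group
              _ = s * (s * g * s) * s := by group
          have := sq_of_order_two hs
          calc s * g⁻¹ = s * g⁻¹ * (s * s) := by rw [this, mul_one]
            _ = (s * g⁻¹ * s) * s := by group
            _ = g * s := by rw [← h4]
        show s * p.1.1 * g = g * (s * p.1.1)
        calc s * p.1.1 * g = s * (p.1.1 * g) := by group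
          _ = s * (g⁻¹ * p.1.1) := by rw [h2]
          _ = (s * g⁻¹) * p.1.1 := by group
          _ = g * s * p.1.1 := by rw [h3]
          _ = g * (s * p.1.1) := by group⟩ : Subgroup.centralizer ({g} : Set G)))
    intro p p' hpp
    have h1 : s * p.1.1 = s * p'.1.1 := congrArg Subtype.val hpp
    have h2 : p.1.1 = p'.1.1 := mul_left_cancel h1
    apply Subtype.ext
    apply Prod.ext h2
    have h3 := p.2.2.2
    have h4 := p'.2.2.2
    rw [h2] at h3
    exact mul_left_cancel (h3.trans h4.symm)
  · rw [not_nonempty_iff] at hne
    rw [Nat.card_of_isEmpty]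
    exact Nat.zero_le _

end general

variable {G : Type*} [Group G] [Finite G] {O : Type*} [Finite O] [MulAction G O] {h : ℕ}

section main

variable (hZ : Cfsg.IsZassenhausGroup G O) [IsSimpleGroup G] (hh : Nat.card O = h + 1)
  {a b : O} (hab : a ≠ b) (hodd : Odd (Nat.card (stab2 G a b)))

include hZ hh hab hodd

theorem card_invol_fix_eq (c d : O) :
    Nat.card {s : G // orderOf s = 2 ∧ s • c = c} = Nat.card {s : G // orderOf s = 2 ∧ s • d = d} := by
  have D := tdata_of_zass hZ hh
  have := trans D
  obtain ⟨g, rfl⟩ := MulAction.exists_smul_eq G c d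
  apply Nat.card_congr
  refine
    { toFun := fun s => ⟨g * s * g⁻¹, by rw [orderOf_conj]; exact s.2.1, by
        rw [mul_smul, mul_smul, inv_smul_smul, s.2.2]⟩
      invFun := fun s => ⟨g⁻¹ * s * g, by
        have := orderOf_conj g⁻¹ (s : G)
        rw [inv_inv] at this
        rw [this]; exact s.2.1, by
        rw [mul_smul, mul_smul, s.2.2, inv_smul_smul]⟩
      left_inv := fun s => by
        apply Subtype.ext
        show g⁻¹ * (g * (s : G) * g⁻¹) * g = s
        group
      right_inv := fun s => by
        apply Subtype.ext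
        show g * (g⁻¹ * (s : G) * g) * g⁻¹ = s
        group }

theorem card_invol_fix (hhe : Even h) (c : O) :
    Nat.card {s : G // orderOf s = 2 ∧ s • c = c} = Nat.card (stab2 G a b) := by
  classical
  have : Fintype O := Fintype.ofFinite O
  have : Fintype G := Fintype.ofFinite G
  have h1 : ∑ s : G, ∑ d : O, (if orderOf s = 2 ∧ s • d = d then 1 else 0)
      = Nat.card {s : G // orderOf s = 2} := by
    have h2 : ∀ s : G, ∑ d : O, (if orderOf s = 2 ∧ s • d = d then 1 else 0)
        = if orderOf s = 2 then 1 else 0 := by
      intro s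
      by_cases hs : orderOf s = 2
      · rw [if_pos hs]
        obtain ⟨d₀, hd₀⟩ := invol_fix_of_even hZ hh hhe hs
        rw [Finset.sum_eq_single d₀]
        · rw [if_pos ⟨hs, hd₀⟩]
        · intro d _ hd
          rw [if_neg]
          rintro ⟨-, h3⟩
          exact hd (invol_not_fix_two hZ hh hab hodd hs h3 hd₀)
        · intro h3
          exact absurd (Finset.mem_univ _) h3
      · rw [if_neg hs]
        apply Finset.sum_eq_zero
        intro d _
        simp [hs]
    rw [Finset.sum_congr rfl (fun s _ => h2 s), Nat.card_eq_fintype_card, Fintype.card_subtype,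
      Finset.card_filter]
  rw [Finset.sum_comm] at h1
  have h3 : ∀ d : O, ∑ s : G, (if orderOf s = 2 ∧ s • d = d then 1 else 0)
      = Nat.card {s : G // orderOf s = 2 ∧ s • c = c} := by
    intro d
    rw [card_invol_fix_eq hZ hh hab hodd c d, Nat.card_eq_fintype_card, Fintype.card_subtype,
      Finset.card_filter]
  rw [Finset.sum_congr rfl (fun d _ => h3 d), Finset.sum_const, smul_eq_mul, Finset.card_univ,
    ← Nat.card_eq_fintype_card, hh, card_invol hZ hh hab hodd, if_pos hhe] at h1
  apply Nat.eq_of_mul_eq_mul_left (show 0 < h + 1 by omega)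
  rw [h1]; ring

/-- an involution fixing `a` lies in the kernel -/
theorem invol_mem_kernel {H : Subgroup G} (K : KData G O a h H) {z : G} (hz : orderOf z = 2)
    (hza : z • a = a) : z ∈ H := by
  have D := tdata_of_zass hZ hh
  have he := three_le_e hZ hh hab hodd
  have h4 := four_le_h hZ hh hab hodd
  rw [K.mem_iff D hab (by omega) (by omega)]
  exact ⟨hza, Or.inr fun c hc => invol_not_fix_two hZ hh hab hodd hz hc hza⟩

/-- involutions of the kernel are central in it -/
theorem invol_central (hhe : Even h) {H : Subgroup G} (K : KData G O a h H) {z : G}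
    (hz : orderOf z = 2) (hza : z • a = a) : ∀ u ∈ H, u * z = z * u := by
  classical
  have : Fintype G := Fintype.ofFinite G
  have D := tdata_of_zass hZ hh
  have he := three_le_e hZ hh hab hodd
  have h4 := four_le_h hZ hh hab hodd
  have h1 := card_le_of_conj_mem z (Finset.univ.filter (fun s : G => orderOf s = 2 ∧ s • a = a))
    (MulAction.stabilizer G a) (by
      intro g hg
      have hg' : g • a = a := hg
      rw [Finset.mem_filter]
      refine ⟨Finset.mem_univ _, by rw [orderOf_conj]; exact hz, ?_⟩
      rw [mul_smul, mul_smul, inv_smul_eq_iff.2 hg'.symm, hza, hg'])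
  have h2 : (Finset.univ.filter (fun s : G => orderOf s = 2 ∧ s • a = a)).card
      = Nat.card (stab2 G a b) := by
    rw [← card_invol_fix hZ hh hab hodd hhe a, Nat.card_eq_fintype_card, Fintype.card_subtype]
  rw [h2, card_stab D hab] at h1
  have h3 : h ≤ Nat.card (Subgroup.centralizer ({z} : Set G)) :=
    Nat.le_of_mul_le_mul_right h1 (by omega)
  have h5 : Subgroup.centralizer ({z} : Set G) ≤ H := by
    intro g hg
    rw [Subgroup.mem_centralizer_singleton_iff] at hg
    have hga : g • a = a := by
      apply invol_not_fix_two hZ hh hab hodd hz _ hza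
      rw [← mul_smul, ← hg, mul_smul, hza]
    rw [K.mem_iff D hab (by omega) (by omega)]
    refine ⟨hga, ?_⟩
    by_cases hg1 : g = 1
    · exact Or.inl hg1
    right
    intro c hc
    by_contra hca
    have hzc : z • c ≠ c := fun h6 => hca (invol_not_fix_two hZ hh hab hodd hz h6 hza)
    have hzc' : z • c ≠ a := by
      intro h6
      apply hca
      have : z • c = z • a := by rw [h6, hza]
      exact smul_left_cancel _ this
    apply hg1
    apply D.three_point g a c (z • c) (Ne.symm hca) (Ne.symm hzc) (Ne.symm hzc') hga hc
    rw [← mul_smul, hg, mul_smul, hc]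
  have h6 : Subgroup.centralizer ({z} : Set G) = H := by
    apply Subgroup.eq_of_le_of_card_ge h5
    rw [K.card]; exact h3
  intro u hu
  rw [← h6, Subgroup.mem_centralizer_singleton_iff] at hu
  exact hu

/-- if a product of two involutions is a non-identity element fixing only `c`, both fix `c` -/
theorem invol_fix_of_prod {x y u : G} (hx : orderOf x = 2) (hy : orderOf y = 2) (hxy : x * y = u)
    {c : O} (huc : u • c = c) (hfix : ∀ d : O, u • d = d → d = c) : x • c = c ∧ y • c = c := by
  have h1 : x • c = c := by
    apply hfix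
    -- u (x c) = x y x c = x (y x) c = x u⁻¹ c
    have h2 : u * x = x * u⁻¹ := by
      rw [← hxy, mul_inv_rev, inv_of_order_two hx, inv_of_order_two hy]
      group
    rw [← mul_smul, h2, mul_smul, inv_smul_eq_iff.2 huc.symm]
  refine ⟨h1, ?_⟩
  have h3 : y = x * u := by
    rw [← hxy, ← mul_assoc, sq_of_order_two hx, one_mul]
  rw [h3, mul_smul, huc, h1]

end main

end Cfsg.Agent.Lib.Helper61Feit5
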