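import Cfsg.Agent.Lib.Helper16FeitA
import Cfsg.Agent.Lib.Helper61Feit6
import Cfsg.Agent.Lib.Helper19TIFN2
import Cfsg.Agent.S0851
import Cfsg.Agent.S0878
import Cfsg.Agent.S0884
import Cfsg.Agent.S0157
import Cfsg.Agent.S0190
import Mathlib

set_option autoImplicit false
set_option linter.unusedSectionVars false
set_option linter.unusedVariables false
set_option linter.style.haveILetI false

/-! Feit's inequality for Zassenhaus groups with abelian kernel: group theoretic facts. -/

namespace Cfsg.Agent.Helper16Feit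

open Cfsg Cfsg.Agent.Lib.Helper4Char Cfsg.Agent.Lib.Helper4Char2 Cfsg.Agent.Lib.Helper4Char4
  Cfsg.Agent.Lib.Helper19Ind Cfsg.Agent.Lib.Helper32Ind
  Cfsg.Agent.Lib.Helper61Feit Cfsg.Agent.Lib.Helper61Feit2 Cfsg.Agent.Lib.Helper61Feit3
open scoped ComplexConjugate

section general

variable {G : Type*} [Group G] [Finite G] {O : Type*} [Finite O] [MulAction G O] {h : ℕ}
  (D : TData G O h) {a b : O} (hab : a ≠ b) {H : Subgroup G} (K : KData G O a h H)

include D K

/-- the kernel is transitive on the remaining points -/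
theorem H_trans (hab : a ≠ b) (c : O) (hc : c ≠ a) : ∃ u ∈ H, u • b = c := by
  classical
  letI : Fintype O := Fintype.ofFinite O
  have hfix : ∀ u : H, (u : G) • b ≠ a := by
    intro u hu
    have h1 : (u : G) • a = a := K.le u.2
    exact hab (smul_left_cancel (u : G) (h1.trans hu.symm))
  let φ : H → {c : O // c ≠ a} := fun u => ⟨(u : G) • b, hfix u⟩
  have hinj : Function.Injective φ := by
    intro u v huv
    have h1 : (u : G) • b = (v : G) • b := congrArg Subtype.val huv
    have h2 : ((v : G)⁻¹ * (u : G)) • b = b := by rw [mul_smul, h1, inv_smul_smul]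
    by_contra hne
    have h3 : (v : G)⁻¹ * (u : G) ≠ 1 := by
      intro h4
      apply hne
      apply Subtype.ext
      exact (inv_mul_eq_one.1 h4).symm
    exact hab (K.fix _ (H.mul_mem (H.inv_mem v.2) u.2) h3 b h2).symm
  have hcard : Nat.card {c : O // c ≠ a} = Nat.card H := by
    rw [K.card, Nat.card_eq_fintype_card, Fintype.card_subtype_compl, Fintype.card_subtype_eq,
      ← Nat.card_eq_fintype_card, D.card_O]
    rfl
  have hsurj : Function.Surjective φ :=
    (Function.Injective.bijective_of_nat_card_le hinj hcard.le).2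
  obtain ⟨u, hu⟩ := hsurj ⟨c, hc⟩
  exact ⟨u, u.2, congrArg Subtype.val hu⟩

/-- the kernel contains the centralisers of its non-identity elements -/
theorem H_cent (hab : a ≠ b) (he : 2 ≤ Nat.card (stab2 G a b)) (hh2 : 2 ≤ h) (k : G) (hk : k ∈ H)
    (hk1 : k ≠ 1) : Subgroup.centralizer ({k} : Set G) ≤ H := by
  intro g hg
  rw [Subgroup.mem_centralizer_singleton_iff] at hg
  have hga : g • a = a := by
    apply K.fix k hk hk1
    rw [← mul_smul, ← hg, mul_smul, K.le hk]
  rw [K.mem_iff D hab he hh2]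
  refine ⟨hga, ?_⟩
  by_cases hg1 : g = 1
  · exact Or.inl hg1
  right
  intro c hc
  by_contra hca
  apply hg1
  have h1 : g • (k • c) = k • c := by rw [← mul_smul, hg, mul_smul, hc]
  have h2 : k • c ≠ c := fun h => hca (K.fix k hk hk1 c h)
  have h3 : k • c ≠ a := by
    intro h
    apply hca
    have : k • c = k • a := by rw [h, K.le hk]
    exact smul_left_cancel k this
  exact D.three_point g a c (k • c) (Ne.symm hca) (Ne.symm h2) (Ne.symm h3) hga hc h1

theorem H_normal (hab : a ≠ b) (he : 2 ≤ Nat.card (stab2 G a b)) (hh2 : 2 ≤ h) :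
    (H.subgroupOf (MulAction.stabilizer G a)).Normal := by
  constructor
  intro n hn g
  rw [Subgroup.mem_subgroupOf] at hn ⊢
  exact K.conj_mem D hab he hh2 g.2 hn

theorem card_H' : Nat.card (H.subgroupOf (MulAction.stabilizer G a)) = h := by
  rw [Nat.card_congr (Subgroup.subgroupOfEquivOfLe K.le).toEquiv, K.card]

theorem index_H' (hab : a ≠ b) (hh2 : 2 ≤ h) :
    (H.subgroupOf (MulAction.stabilizer G a)).index = Nat.card (stab2 G a b) := by
  have h1 := (H.subgroupOf (MulAction.stabilizer G a)).card_mul_index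
  rw [card_H' D K, card_stab D hab] at h1
  exact Nat.eq_of_mul_eq_mul_left (by omega) h1

/-- every element of the point stabiliser is a product of an element of the kernel and an element
of the two point stabiliser -/
theorem exists_decomp (hab : a ≠ b) (n : G) (hn : n • a = a) :
    ∃ u ∈ H, ∃ s ∈ stab2 G a b, n = u * s := by
  have h1 : n • b ≠ a := by
    intro h2
    exact hab (smul_left_cancel n (hn.trans h2.symm))
  obtain ⟨u, hu, hub⟩ := H_trans D K hab (n • b) h1
  refine ⟨u, hu, u⁻¹ * n, ?_, by group⟩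
  rw [mem_stab2]
  constructor
  · rw [mul_smul, hn, inv_smul_eq_iff, K.le hu]
  · rw [mul_smul, inv_smul_eq_iff, hub]

end general

section chars

variable {G : Type*} [Group G] [Fintype G] {O : Type*} [Fintype O] [MulAction G O] {h : ℕ}
  (D : TData G O h) {a b : O} (hab : a ≠ b) {H : Subgroup G} (K : KData G O a h H)
  [Fintype (MulAction.stabilizer G a)]
  (he : 2 ≤ Nat.card (stab2 G a b)) (hh2 : 2 ≤ h)

include D K hab he hh2

theorem nonrel_iff (μ : IrrCharacter (MulAction.stabilizer G a)) :
    ¬ Rel (MulAction.stabilizer G a) H μ ↔ ∀ k ∈ H.subgroupOf (MulAction.stabilizer G a),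
      (μ : MulAction.stabilizer G a → ℂ) k = (μ : MulAction.stabilizer G a → ℂ) 1 := by
  constructor
  · intro hμ n hn
    by_contra hne
    exact hμ ⟨n, Subgroup.mem_subgroupOf.1 hn, hne⟩
  · rintro hμ ⟨k, hk, hne⟩
    exact hne (hμ k (Subgroup.mem_subgroupOf.2 hk))

theorem lin_of_comm (hcomm : ∀ x ∈ stab2 G a b, ∀ y ∈ stab2 G a b, x * y = y * x)
    (μ : IrrCharacter (MulAction.stabilizer G a)) (hμ : ¬ Rel (MulAction.stabilizer G a) H μ) :
    (μ : MulAction.stabilizer G a → ℂ) 1 = 1 := by
  haveI hn := H_normal D K hab he hh2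
  obtain ⟨ψ, hψ⟩ := Cfsg.Agent.Lib.Helper82Quot.exists_deflate
    (H.subgroupOf (MulAction.stabilizer G a)) μ ((nonrel_iff D hab K he hh2 μ).1 hμ)
  have hrep : ∀ x : MulAction.stabilizer G a ⧸ H.subgroupOf (MulAction.stabilizer G a),
      ∃ s : MulAction.stabilizer G a, (s : G) ∈ stab2 G a b ∧
        x = (s : MulAction.stabilizer G a ⧸ H.subgroupOf (MulAction.stabilizer G a)) := by
    intro x
    obtain ⟨n, rfl⟩ := QuotientGroup.mk_surjective x
    obtain ⟨u, hu, s, hs, hns⟩ := exists_decomp D K hab (n : G) n.2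
    refine ⟨⟨s, (mem_stab2.1 hs).1⟩, hs, ?_⟩
    have h1 : n = (⟨u, K.le hu⟩ : MulAction.stabilizer G a) * ⟨s, (mem_stab2.1 hs).1⟩ :=
      Subtype.ext hns
    rw [h1, QuotientGroup.mk_mul,
      (QuotientGroup.eq_one_iff (⟨u, K.le hu⟩ : MulAction.stabilizer G a)).2
        (Subgroup.mem_subgroupOf.2 hu), one_mul]
  haveI : IsMulCommutative (MulAction.stabilizer G a ⧸ H.subgroupOf (MulAction.stabilizer G a)) := by
    refine ⟨⟨fun x y => ?_⟩⟩
    obtain ⟨s, hs, rfl⟩ := hrep x
    obtain ⟨t, ht, rfl⟩ := hrep y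
    rw [← QuotientGroup.mk_mul, ← QuotientGroup.mk_mul]
    congr 1
    exact Subtype.ext (hcomm s hs t ht)
  have h1 := Cfsg.Agent.Lib.Helper83Char.irr_one_of_comm ψ.2
  rw [← hψ, Cfsg.Agent.Lib.Helper82Quot.inflate_apply]
  exact h1

theorem card_nonrel (hcomm : ∀ x ∈ stab2 G a b, ∀ y ∈ stab2 G a b, x * y = y * x) :
    Nat.card {μ : IrrCharacter (MulAction.stabilizer G a) // ¬ Rel (MulAction.stabilizer G a) H μ}
      = Nat.card (stab2 G a b) := by
  classical
  haveI hn := H_normal D K hab he hh2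
  have h1 := Cfsg.Agent.Lib.Helper19TIFN.sum_deg_sq_ker (H.subgroupOf (MulAction.stabilizer G a))
  rw [index_H' D K hab hh2] at h1
  have h2 : ∀ η ∈ Finset.univ.filter (fun η : IrrCharacter (MulAction.stabilizer G a) =>
      ∀ k ∈ H.subgroupOf (MulAction.stabilizer G a),
        (η : MulAction.stabilizer G a → ℂ) k = (η : MulAction.stabilizer G a → ℂ) 1),
      (η : MulAction.stabilizer G a → ℂ) 1 ^ 2 = 1 := by
    intro η hη
    rw [lin_of_comm D hab K he hh2 hcomm η
      ((nonrel_iff D hab K he hh2 η).2 (Finset.mem_filter.1 hη).2), one_pow]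
  rw [Finset.sum_congr rfl h2, Finset.sum_const, nsmul_eq_mul, mul_one] at h1
  rw [Nat.card_eq_fintype_card, Fintype.card_subtype]
  have h3 : (Finset.univ.filter (fun μ : IrrCharacter (MulAction.stabilizer G a) =>
      ¬ Rel (MulAction.stabilizer G a) H μ)).card
      = (Finset.univ.filter (fun η : IrrCharacter (MulAction.stabilizer G a) =>
      ∀ k ∈ H.subgroupOf (MulAction.stabilizer G a),
        (η : MulAction.stabilizer G a → ℂ) k = (η : MulAction.stabilizer G a → ℂ) 1)).card := by
    congr 1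
    apply Finset.filter_congr
    intro η _
    exact nonrel_iff D hab K he hh2 η
  rw [h3]
  exact_mod_cast h1

theorem deg_rel (hHab : ∀ x ∈ H, ∀ y ∈ H, x * y = y * x)
    (η : IrrCharacter (MulAction.stabilizer G a)) (hη : Rel (MulAction.stabilizer G a) H η) :
    (η : MulAction.stabilizer G a → ℂ) 1 = (Nat.card (stab2 G a b) : ℂ) := by
  classical
  letI : Fintype H := Fintype.ofFinite _
  obtain ⟨k, hk, hne⟩ := hη
  have hnorm : ∀ t ∈ MulAction.stabilizer G a, ∀ k ∈ H, t * k * t⁻¹ ∈ H :=
    fun t ht k hk => K.conj_mem D hab he hh2 ht hk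
  have h1 := Cfsg.Agent.S0851.degree_eq_index (Subgroup.inclusion K.le)
    (Subgroup.inclusion_injective K.le)
    (Cfsg.Agent.Lib.Helper19Rel.conjOn _ H hnorm) (fun g l => rfl)
    (fun x y => Subtype.ext (hHab x x.2 y y.2)) ?_ η.2 ⟨⟨k, hk⟩, hne⟩
  · rw [h1]
    congr 1
    rw [← index_H' D K hab hh2]
    congr 1
    ext x
    rw [Subgroup.mem_subgroupOf]
    constructor
    · rintro ⟨y, rfl⟩
      exact y.2
    · intro hx
      exact ⟨⟨x, hx⟩, rfl⟩
  · intro g hg l hl
    by_contra hl1
    apply hg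
    have h2 : (g : G) ∈ H := by
      apply H_cent D K hab he hh2 l l.2 (fun h => hl1 (Subtype.ext h))
      rw [Subgroup.mem_centralizer_singleton_iff]
      have h3 : (g : G) * l * (g : G)⁻¹ = l := congrArg Subtype.val hl
      calc (g : G) * l = (g : G) * l * (g : G)⁻¹ * g := by group
        _ = l * g := by rw [h3]
    exact ⟨⟨g, h2⟩, rfl⟩

theorem van_rel (η : IrrCharacter (MulAction.stabilizer G a))
    (hη : Rel (MulAction.stabilizer G a) H η) (x : MulAction.stabilizer G a) (hx : (x : G) ∉ H) :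
    (η : MulAction.stabilizer G a → ℂ) x = 0 := by
  haveI hn := H_normal D K hab he hh2
  exact Cfsg.Agent.Lib.Helper19TIFN2.vanish_off H (MulAction.stabilizer G a)
    (H_cent D K hab he hh2) _ rfl ⟨η.2, hη⟩ x hx

theorem card_rel (hcomm : ∀ x ∈ stab2 G a b, ∀ y ∈ stab2 G a b, x * y = y * x)
    (hHab : ∀ x ∈ H, ∀ y ∈ H, x * y = y * x) :
    Nat.card {μ : IrrCharacter (MulAction.stabilizer G a) // Rel (MulAction.stabilizer G a) H μ}
      * Nat.card (stab2 G a b) + 1 = h := by
  classical
  have h1 := sum_degree_sq (G := MulAction.stabilizer G a)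
  rw [← Finset.sum_filter_add_sum_filter_not Finset.univ
    (fun μ : IrrCharacter (MulAction.stabilizer G a) => Rel (MulAction.stabilizer G a) H μ),
    Finset.sum_congr rfl (fun η hη => by
      rw [deg_rel D hab K he hh2 hHab η (Finset.mem_filter.1 hη).2]),
    Finset.sum_congr (s₁ := Finset.univ.filter
      (fun μ : IrrCharacter (MulAction.stabilizer G a) => ¬ Rel (MulAction.stabilizer G a) H μ)) rfl
      (fun η hη => by
      rw [lin_of_comm D hab K he hh2 hcomm η (Finset.mem_filter.1 hη).2]),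
    Finset.sum_const, Finset.sum_const, ← Fintype.card_subtype, ← Fintype.card_subtype,
    ← Nat.card_eq_fintype_card, ← Nat.card_eq_fintype_card, card_nonrel D hab K he hh2 hcomm,
    card_stab D hab] at h1
  simp only [nsmul_eq_mul, one_pow, mul_one] at h1
  have h2 : Nat.card {μ : IrrCharacter (MulAction.stabilizer G a) //
      Rel (MulAction.stabilizer G a) H μ} * Nat.card (stab2 G a b) ^ 2 + Nat.card (stab2 G a b)
      = h * Nat.card (stab2 G a b) := by exact_mod_cast h1
  have h3 : 0 < Nat.card (stab2 G a b) := by omega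
  apply Nat.eq_of_mul_eq_mul_right h3
  rw [← h2]; ring

end chars

theorem exists_exc {G : Type*} [Group G] [Fintype G] (K N : Subgroup G) [Fintype N]
    (hN : Subgroup.normalizer (K : Set G) = N)
    (hTI : ∀ g : G, g ∉ N → ∀ k ∈ K, g * k * g⁻¹ ∈ K → k = 1) (hlt : K < N)
    (hC : ∀ k ∈ K, k ≠ 1 → Subgroup.centralizer ({k} : Set G) ≤ K)
    (hab : ∀ a ∈ K, ∀ b ∈ K, a * b = b * a)
    (hcard : Nat.card K ≠ (K.subgroupOf N).index + 1) :
    ∃ (ε : ℂ) (f : {η : IrrCharacter N // Rel N K η} → IrrCharacter G), Exc ε f := by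
  subst hN
  rcases Cfsg.Agent.S0851.result K hTI hlt hC hab with ⟨-, p, -, -, h1⟩ | ⟨ε, f, hε, hinj, hf⟩
  · exact absurd h1 hcard
  · exact ⟨ε, f, hε, hinj, hf⟩

section classes

variable {G : Type*} [Group G] [Fintype G] {O : Type*} [Fintype O] [MulAction G O] {h : ℕ}
  (D : TData G O h) {a b : O} (hab : a ≠ b) {H : Subgroup G} (K : KData G O a h H)
  (hh2 : 2 ≤ h)
  (hTI : ∀ g : G, g ∉ MulAction.stabilizer G a → ∀ k ∈ H, g * k * g⁻¹ ∈ H → k = 1)
  (hHab : ∀ x ∈ H, ∀ y ∈ H, x * y = y * x)

include D K hab hh2 hTI hHab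

open scoped Classical in
theorem fiber_le (u : G) (hu : u ∈ H) (hu1 : u ≠ 1) :
    ((Finset.univ.filter (fun x : G => x ∈ H ∧ x ≠ 1)).filter
      (fun x => ConjClasses.mk x = ConjClasses.mk u)).card ≤ Nat.card (stab2 G a b) := by
  set u' : MulAction.stabilizer G a := ⟨u, K.le hu⟩ with hu'
  have h1 : Nat.card {y : MulAction.stabilizer G a // IsConj u' y} ≤ Nat.card (stab2 G a b) := by
    have h2 := card_isConj_mul_card_centralizer u'
    rw [card_stab D hab] at h2
    have h3 : h ≤ Nat.card (Subgroup.centralizer ({u'} : Set (MulAction.stabilizer G a))) := by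
      rw [← card_H' D K]
      apply Subgroup.card_le_of_le
      intro x hx
      rw [Subgroup.mem_centralizer_singleton_iff]
      apply Subtype.ext
      exact hHab _ (Subgroup.mem_subgroupOf.1 hx) _ hu
    have h4 : Nat.card {y : MulAction.stabilizer G a // IsConj u' y} * h
        ≤ h * Nat.card (stab2 G a b) := by
      rw [← h2]
      exact Nat.mul_le_mul_left _ h3
    rw [mul_comm] at h4
    exact Nat.le_of_mul_le_mul_left h4 (by omega)
  refine le_trans ?_ h1
  rw [Nat.card_eq_fintype_card, Fintype.card_subtype]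
  refine le_trans (Finset.card_le_card ?_) (Finset.card_image_le (f := Subtype.val))
  intro x hx
  rw [Finset.mem_filter, Finset.mem_filter] at hx
  obtain ⟨⟨-, hxH, hx1⟩, hxu⟩ := hx
  rw [ConjClasses.mk_eq_mk_iff_isConj, isConj_iff] at hxu
  obtain ⟨g, hg⟩ := hxu
  have hgN : g ∈ MulAction.stabilizer G a := by
    by_contra hgN
    exact hx1 (hTI g hgN x hxH (by rw [hg]; exact hu))
  rw [Finset.mem_image]
  refine ⟨⟨x, K.le hxH⟩, ?_, rfl⟩
  rw [Finset.mem_filter]
  refine ⟨Finset.mem_univ _, ?_⟩
  rw [isConj_iff]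
  refine ⟨⟨g, hgN⟩⁻¹, ?_⟩
  apply Subtype.ext
  show g⁻¹ * u * g⁻¹⁻¹ = x
  rw [← hg]; group

/-- lower bound for the number of conjugacy classes -/
theorem card_classes_ge (r : ℕ) (hr : r * Nat.card (stab2 G a b) + 1 = h) :
    Nat.card {C : ConjClasses G // ∀ g : G, ConjClasses.mk g = C → g ∉ H} + 1 + r
      ≤ Nat.card (ConjClasses G) := by
  classical
  set S := Finset.univ.filter (fun x : G => x ∈ H ∧ x ≠ 1) with hS
  have hScard : S.card + 1 = h := by
    have h1 : S = (Finset.univ.filter (fun x : G => x ∈ H)).erase 1 := by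
      ext x
      simp only [hS, Finset.mem_filter, Finset.mem_univ, true_and, Finset.mem_erase]
      tauto
    rw [h1, Finset.card_erase_of_mem (Finset.mem_filter.2 ⟨Finset.mem_univ _, H.one_mem⟩),
      ← Fintype.card_subtype]
    have h2 : Fintype.card {x : G // x ∈ H} = h := by
      rw [← Nat.card_eq_fintype_card]; exact K.card
    rw [h2]; omega
  have h1 : S.card ≤ Nat.card (stab2 G a b) * (S.image ConjClasses.mk).card := by
    apply Finset.card_le_mul_card_image
    intro C hC
    obtain ⟨u, hu, rfl⟩ := Finset.mem_image.1 hC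
    have hu' := (Finset.mem_filter.1 hu).2
    exact fiber_le D hab K hh2 hTI hHab u hu'.1 hu'.2
  have h2 : r ≤ (S.image ConjClasses.mk).card := by
    have h3 : r * Nat.card (stab2 G a b) ≤ (S.image ConjClasses.mk).card * Nat.card (stab2 G a b) := by
      rw [mul_comm (S.image ConjClasses.mk).card]
      omega
    have h4 : 0 < Nat.card (stab2 G a b) := Nat.card_pos
    exact Nat.le_of_mul_le_mul_right h3 h4
  have hnot : (ConjClasses.mk (1 : G)) ∉ S.image ConjClasses.mk := by
    intro hmem
    obtain ⟨u, hu, hu1⟩ := Finset.mem_image.1 hmem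
    rw [ConjClasses.mk_eq_mk_iff_isConj, isConj_iff] at hu1
    obtain ⟨g, hg⟩ := hu1
    apply (Finset.mem_filter.1 hu).2.2
    have : u = g⁻¹ * (g * u * g⁻¹) * g := by group
    rw [this, hg]; group
  have hsub : insert (ConjClasses.mk (1 : G)) (S.image ConjClasses.mk) ⊆
      Finset.univ.filter (fun C : ConjClasses G => ¬ ∀ g : G, ConjClasses.mk g = C → g ∉ H) := by
    intro C hC
    rw [Finset.mem_filter]
    refine ⟨Finset.mem_univ _, ?_⟩
    rw [Finset.mem_insert] at hC
    rcases hC with rfl | hC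
    · intro h5
      exact h5 1 rfl H.one_mem
    · obtain ⟨u, hu, rfl⟩ := Finset.mem_image.1 hC
      intro h5
      exact h5 u rfl (Finset.mem_filter.1 hu).2.1
  have h3 := Finset.card_le_card hsub
  rw [Finset.card_insert_of_notMem hnot] at h3
  have h4 := Finset.card_filter_add_card_filter_not (s := (Finset.univ : Finset (ConjClasses G)))
    (fun C : ConjClasses G => ∀ g : G, ConjClasses.mk g = C → g ∉ H)
  rw [Nat.card_eq_fintype_card, Nat.card_eq_fintype_card, Fintype.card_subtype, ← Finset.card_univ]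
  omega

end classes

section main

variable {G : Type*} [Group G] [Fintype G] {O : Type*} [Fintype O] [MulAction G O] {h : ℕ}
  (hZ : Cfsg.IsZassenhausGroup G O) [IsSimpleGroup G] (hh : Nat.card O = h + 1)
  {a b : O} (hab : a ≠ b) (hodd : Odd (Nat.card (stab2 G a b)))
  {H : Subgroup G} (K : KData G O a h H)

include hZ hh hab hodd K

theorem theta_exists : ∃ θ : IrrCharacter G,
    indFun (MulAction.stabilizer G a) (fun _ : MulAction.stabilizer G a => (1 : ℂ))
      = (fun _ => 1) + (θ : G → ℂ) := by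
  have D := tdata_of_zass hZ hh
  haveI := trans D
  have h1 := (Cfsg.Agent.S0157.result (G := G) O (by rw [hh]; have := four_le_h hZ hh hab hodd; omega)).2
    D.two_trans
  refine ⟨⟨_, h1⟩, ?_⟩
  rw [← Cfsg.Agent.S0190.result O a]
  funext g
  simp

theorem fib [Fintype (MulAction.stabilizer G a)] (μ ν : IrrCharacter (MulAction.stabilizer G a))
    (hμ : ¬ Rel (MulAction.stabilizer G a) H μ) (hν : ¬ Rel (MulAction.stabilizer G a) H ν)
    (heq : indFun (MulAction.stabilizer G a) (μ : MulAction.stabilizer G a → ℂ)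
      = indFun (MulAction.stabilizer G a) (ν : MulAction.stabilizer G a → ℂ)) :
    (ν : MulAction.stabilizer G a → ℂ) = μ ∨
      (ν : MulAction.stabilizer G a → ℂ) = fun n => conj ((μ : MulAction.stabilizer G a → ℂ) n) := by
  classical
  have D := tdata_of_zass hZ hh
  have he := three_le_e hZ hh hab hodd
  have h4 := four_le_h hZ hh hab hodd
  have hcomm := comm hZ hh hab hodd
  have hμ1 := lin_of_comm D hab K (by omega) (by omega) hcomm μ hμ
  have hν1 := lin_of_comm D hab K (by omega) (by omega) hcomm ν hν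
  have key : ∀ g : MulAction.stabilizer G a,
      (μ : MulAction.stabilizer G a → ℂ) g + conj ((μ : MulAction.stabilizer G a → ℂ) g)
      = (ν : MulAction.stabilizer G a → ℂ) g + conj ((ν : MulAction.stabilizer G a → ℂ) g) := by
    intro g
    by_cases hg : (g : G) ∈ H
    · rw [(nonrel_iff D hab K (by omega) (by omega) μ).1 hμ g (Subgroup.mem_subgroupOf.2 hg),
        (nonrel_iff D hab K (by omega) (by omega) ν).1 hν g (Subgroup.mem_subgroupOf.2 hg), hμ1, hν1]
    · have e1 := Cfsg.Agent.Lib.Helper61Feit6.ind_value hZ hh hab hodd μ hμ1 g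
      have e2 := Cfsg.Agent.Lib.Helper61Feit6.ind_value hZ hh hab hodd ν hν1 g
      rw [K.mem_iff D hab (by omega) (by omega)] at hg
      push Not at hg
      obtain ⟨hg1, c₀, hc₀, hc₀a⟩ := hg g.2
      have hsum : ∑ c : O, (if c ≠ a ∧ (g : G) • c = c then (1 : ℂ) else 0) = 1 := by
        rw [Finset.sum_eq_single c₀, if_pos ⟨hc₀a, hc₀⟩]
        · intro c _ hc
          rw [if_neg]
          rintro ⟨hca, hgc⟩
          exact hg1 (D.three_point g a c c₀ (Ne.symm hca) hc (Ne.symm hc₀a) g.2 hgc hc₀)
        · intro h5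
          exact absurd (Finset.mem_univ _) h5
      rw [hsum, one_mul] at e1 e2
      rw [← e1, ← e2, heq]
  have h1 : (μ : MulAction.stabilizer G a → ℂ)
      + (fun n => conj ((μ : MulAction.stabilizer G a → ℂ) n))
      = (ν : MulAction.stabilizer G a → ℂ)
      + (fun n => conj ((ν : MulAction.stabilizer G a → ℂ) n)) := funext key
  have h2 := congrArg (fun φ => classInner φ (ν : MulAction.stabilizer G a → ℂ)) h1
  simp only [classInner_add_left] at h2
  rw [classInner_irr μ.2 ν.2, classInner_irr (IsIrrCharacter.conj μ.2) ν.2,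
    classInner_irr_self ν.2, classInner_irr (IsIrrCharacter.conj ν.2) ν.2] at h2
  by_contra hcon
  push Not at hcon
  rw [if_neg (Ne.symm hcon.1), if_neg (Ne.symm hcon.2)] at h2
  split_ifs at h2 <;> norm_num at h2

/-- **Feit's inequality**, simple group, abelian kernel. -/
theorem feit_simple (hHab : ∀ x ∈ H, ∀ y ∈ H, x * y = y * x) :
    h - 1 ≤ 2 * Nat.card (stab2 G a b) := by
  classical
  by_contra hlt
  push Not at hlt
  have D := tdata_of_zass hZ hh
  have he := three_le_e hZ hh hab hodd
  have h4 := four_le_h hZ hh hab hodd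
  have hcomm := comm hZ hh hab hodd
  have hcardO : Fintype.card O = h + 1 := by rw [← Nat.card_eq_fintype_card, hh]
  obtain ⟨hTI, hnorm⟩ := Cfsg.Agent.S0878.result hZ a H K.le (by rw [K.card, hcardO]) K.fix
  have hrel := card_rel D hab K (by omega) (by omega) hcomm hHab
  have C : Cfg (MulAction.stabilizer G a) H h (Nat.card (stab2 G a b)) :=
    { cardN := card_stab D hab
      index := by
        haveI := trans D
        rw [MulAction.index_stabilizer_of_transitive G a, hh]
      epos := by omega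
      hpos := by omega
      van := van_rel D hab K (by omega) (by omega)
      deg := deg_rel D hab K (by omega) (by omega) hHab
      ti := hTI
      lin := lin_of_comm D hab K (by omega) (by omega) hcomm
      irr := fun μ hμ hμ1 => Cfsg.Agent.Lib.Helper61Feit6.irr_ind hZ hh hab hodd μ
        (lin_of_comm D hab K (by omega) (by omega) hcomm μ hμ) K
        (fun u hu => by
          rw [(nonrel_iff D hab K (by omega) (by omega) μ).1 hμ u (Subgroup.mem_subgroupOf.2 hu),
            lin_of_comm D hab K (by omega) (by omega) hcomm μ hμ]) hμ1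
      val := fun μ hμ u hu hu1 => Cfsg.Agent.Lib.Helper61Feit6.ind_value_kernel hZ hh hab hodd μ
        (lin_of_comm D hab K (by omega) (by omega) hcomm μ hμ) K
        (fun u hu => by
          rw [(nonrel_iff D hab K (by omega) (by omega) μ).1 hμ u (Subgroup.mem_subgroupOf.2 hu),
            lin_of_comm D hab K (by omega) (by omega) hcomm μ hμ]) hu hu1
      theta := theta_exists hZ hh hab hodd K }
  have hltN : H < MulAction.stabilizer G a := by
    refine lt_of_le_of_ne K.le ?_
    intro heq
    have h1 := card_stab D hab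
    rw [← heq, K.card] at h1
    nlinarith
  obtain ⟨ε, f, X⟩ := exists_exc H (MulAction.stabilizer G a) hnorm hTI hltN
    (H_cent D K hab (by omega) (by omega)) hHab (by
      rw [K.card, index_H' D K hab (by omega)]; omega)
  have h3 : 3 ≤ Nat.card {μ : IrrCharacter (MulAction.stabilizer G a) //
      Rel (MulAction.stabilizer G a) H μ} := by
    by_contra hcon
    push Not at hcon
    have : Nat.card {μ : IrrCharacter (MulAction.stabilizer G a) //
      Rel (MulAction.stabilizer G a) H μ} * Nat.card (stab2 G a b)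
        ≤ 2 * Nat.card (stab2 G a b) := Nat.mul_le_mul_right _ (by omega)
    omega
  have hcard : Nat.card (stab2 G a b) + 1 + Nat.card {μ : IrrCharacter (MulAction.stabilizer G a) //
      Rel (MulAction.stabilizer G a) H μ} ≤ Nat.card (IrrCharacter G) := by
    rw [card_irr_eq_card_conjClasses]
    have h5 := card_classes_ge D hab K (by omega) hTI hHab _ hrel
    have h6 : Nat.card (stab2 G a b) ≤
        Nat.card {C : ConjClasses G // ∀ g : G, ConjClasses.mk g = C → g ∉ H} :=
      Cfsg.Agent.S0884.result hZ hab h _ hcardO rfl hodd hlt H K.le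
        (by rw [K.card, hcardO]) K.fix
    omega
  have hfin := final C X hcard h3
    (fun μ ν hμ hν _ _ heq => fib hZ hh hab hodd K μ ν hμ hν heq)
    (card_nonrel D hab K (by omega) (by omega) hcomm)
  obtain ⟨e, he'⟩ : ∃ e, e = Nat.card (stab2 G a b) := ⟨_, rfl⟩
  rw [← he'] at hfin hlt he
  obtain ⟨e', rfl⟩ : ∃ e', e = e' + 1 := ⟨e - 1, by omega⟩
  have h7 : e' + 1 - 1 = e' := by omega
  rw [h7] at hfin
  have h8 : 2 * (e' + 1) + 2 ≤ h := by omega
  have h9 : e' * (2 * (e' + 1) + 2 + 1) ≤ e' * (h + 1) := Nat.mul_le_mul_left _ (by omega)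
  nlinarith

end main

end Cfsg.Agent.Helper16Feit
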