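import Cfsg.Agent.Lib.Helper16AffC
import Cfsg.Agent.Lib.Helper16FeitD
import Cfsg.Agent.Lib.Helper16PglB
import Cfsg.Agent.Lib.Helper6Transport
import Cfsg.Agent.S0035
import Cfsg.Agent.S0054
import Mathlib

set_option autoImplicit false
set_option linter.unusedSectionVars false
set_option linter.unusedVariables false
set_option linter.style.haveILetI false

/-! Doubly transitive groups of degree `p + 1` whose point stabiliser has a normal subgroup of
order `p`. -/

namespace Cfsg.Agent.Helper16P1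

open Cfsg Cfsg.Agent.Lib.Helper61Feit Cfsg.Agent.Lib.Helper61Feit2 Cfsg.Agent.Lib.Helper61Feit3
  Cfsg.Agent.Helper16Feit

variable {G Ω : Type*} [Group G] [Finite G] [MulAction G Ω] [Finite Ω] {p : ℕ}

theorem stab2_trans {h : ℕ}
    (D : TData G Ω h) {a b : Ω} (hab : a ≠ b) (he : Nat.card (stab2 G a b) + 1 = h)
    (c d : Ω) (hca : c ≠ a) (hcb : c ≠ b) (hda : d ≠ a) (hdb : d ≠ b) :
    ∃ s ∈ stab2 G a b, s • c = d := by
  classical
  letI : Fintype Ω := Fintype.ofFinite Ω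
  have hfix : ∀ s : stab2 G a b, (s : G) • c ≠ a ∧ (s : G) • c ≠ b := by
    intro s
    have hs := mem_stab2.1 s.2
    constructor
    · intro h1
      exact hca (smul_left_cancel (s : G) (h1.trans hs.1.symm))
    · intro h1
      exact hcb (smul_left_cancel (s : G) (h1.trans hs.2.symm))
  let φ : stab2 G a b → {z : Ω // z ≠ a ∧ z ≠ b} := fun s => ⟨(s : G) • c, hfix s⟩
  have hinj : Function.Injective φ := by
    intro s t hst
    have h1 : (s : G) • c = (t : G) • c := congrArg Subtype.val hst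
    have hs := mem_stab2.1 s.2
    have ht := mem_stab2.1 t.2
    have h2 : (t : G)⁻¹ * (s : G) = 1 := by
      apply D.three_point _ a b c hab (Ne.symm hcb) (Ne.symm hca)
      · rw [mul_smul, hs.1, inv_smul_eq_iff, ht.1]
      · rw [mul_smul, hs.2, inv_smul_eq_iff, ht.2]
      · rw [mul_smul, h1, inv_smul_smul]
    apply Subtype.ext
    exact (inv_mul_eq_one.1 h2).symm
  have hcard : Nat.card {z : Ω // z ≠ a ∧ z ≠ b} ≤ Nat.card (stab2 G a b) := by
    rw [Nat.card_eq_fintype_card, Fintype.card_subtype]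
    have h1 : Finset.univ.filter (fun z : Ω => z ≠ a ∧ z ≠ b)
        = (Finset.univ.erase a).erase b := by
      ext z
      simp only [Finset.mem_filter, Finset.mem_univ, true_and, Finset.mem_erase, and_true]
      tauto
    rw [h1, Finset.card_erase_of_mem (Finset.mem_erase.2 ⟨hab.symm, Finset.mem_univ _⟩),
      Finset.card_erase_of_mem (Finset.mem_univ _), Finset.card_univ,
      ← Nat.card_eq_fintype_card, D.card_O]
    omega
  obtain ⟨s, hs⟩ := (Function.Injective.bijective_of_nat_card_le hinj hcard).2 ⟨d, hda, hdb⟩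
  exact ⟨s, s.2, congrArg Subtype.val hs⟩

theorem mem_zpowers_nat {u w : G} (hw : w ∈ Subgroup.zpowers u) : ∃ k : ℕ, u ^ k = w := by
  have := (mem_powers_iff_mem_zpowers).2 hw
  exact (Submonoid.mem_powers_iff _ _).1 this

/-- the case `d = p - 1` -/
theorem pgl_case (hp : p.Prime) (D : TData G Ω p) (hfaith : FaithfulSMul G Ω) {x y : Ω}
    (hxy : x ≠ y) (u : G) (hu : orderOf u = p) (K : KData G Ω x p (Subgroup.zpowers u))
    (hUn : ∀ g : G, g • x = x → ∀ w ∈ Subgroup.zpowers u, g * w * g⁻¹ ∈ Subgroup.zpowers u)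
    (hd : Nat.card (stab2 G x y) + 1 = p) :
    Nonempty (G ≃* Matrix.ProjGenLinGroup (Fin 2) (ZMod p)) := by
  haveI : Fact p.Prime := ⟨hp⟩
  have hux : u • x = x := K.le (Subgroup.mem_zpowers u)
  have hu1 : u ≠ 1 := by
    intro h
    rw [h, orderOf_one] at hu
    exact hp.one_lt.ne hu
  obtain ⟨v, hvx, hvy⟩ := exists_smul_pair D hxy hxy.symm
  refine Cfsg.Agent.Helper16Pgl.pgl_of_sharp3 (p := p) (o := y) (i := x) ?_ ?_ hxy.symm u hux
    (by rw [← hu]; exact pow_orderOf_eq_one u) ?_ ?_ ?_ ?_ v hvy hvx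
  · intro g hg
    apply hfaith.eq_of_smul_eq_smul
    intro a
    rw [hg, one_smul]
  · intro g a b c hab hac hbc h1 h2 h3
    exact D.three_point g a b c hab hbc hac h1 h2 h3
  · intro k hk
    rw [← hu]
    apply orderOf_dvd_of_pow_eq_one
    by_contra hne
    exact hxy (K.fix _ (Subgroup.pow_mem _ (Subgroup.mem_zpowers u) k) hne y hk).symm
  · intro z hz
    obtain ⟨w, hw, hwz⟩ := H_trans D K hxy z hz
    obtain ⟨k, rfl⟩ := mem_zpowers_nat hw
    exact ⟨k, hwz⟩
  · intro d hdy hdx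
    obtain ⟨m, hm⟩ := mem_zpowers_nat (hUn d hdx u (Subgroup.mem_zpowers u))
    exact ⟨m, hm.symm⟩
  · intro z hzy hzx
    obtain ⟨s, hs, hsz⟩ := stab2_trans D hxy hd (u • y) z
      (fun h => hxy (smul_left_cancel u (hux.trans h.symm)))
      (fun h => hxy (K.fix u (Subgroup.mem_zpowers u) hu1 y h).symm) hzx hzy
    have hs' := mem_stab2.1 hs
    exact ⟨s, hs'.2, hs'.1, hsz⟩

/-- the case of a regular normal subgroup -/
theorem aff_case (hp : p.Prime) (hp2 : p ≠ 2) (D : TData G Ω p) {x y : Ω}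
    (hxy : x ≠ y) (u : G) (K : KData G Ω x p (Subgroup.zpowers u))
    (hUn : ∀ g : G, g • x = x → ∀ w ∈ Subgroup.zpowers u, g * w * g⁻¹ ∈ Subgroup.zpowers u)
    (N : Subgroup G) (hN : N.Normal) (htr : MulAction.IsPretransitive N Ω)
    (hreg : ∀ a : Ω, MulAction.stabilizer N a = ⊥) :
    ∃ q : ℕ, q.Prime ∧ p + 1 = 2 ^ q ∧
      (Nat.card (stab2 G x y) = 1 ∨ Nat.card (stab2 G x y) = q) ∧
      ∃ e : Ω ≃ GaloisField 2 q, ∀ g : G,
        (e.symm.trans ((MulAction.toPerm g).trans e)) ∈ Cfsg.semiaffineGroup (GaloisField 2 q) := by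
  haveI : Nonempty Ω := ⟨x⟩
  obtain ⟨hcomm, -⟩ := Cfsg.Agent.S0054.result D.two_trans N htr hreg
  obtain ⟨q, hq, hpq, ⟨y', hxy', hd⟩, he⟩ := Cfsg.Agent.Helper16Aff.affine_core hp hp2 D.card_O x
    D.three_point N (Subgroup.zpowers u)
    (fun g n hn => hN.conj_mem n hn g)
    (fun n hn n' hn' => by
      have := hcomm.is_comm.comm ⟨n, hn⟩ ⟨n', hn'⟩
      exact congrArg Subtype.val this)
    (fun a => by
      obtain ⟨n, hn⟩ := htr.exists_smul_eq x a
      exact ⟨n, n.2, hn⟩)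
    (fun n hn hnx => by
      have h1 : (⟨n, hn⟩ : N) ∈ MulAction.stabilizer N x := hnx
      rw [hreg x, Subgroup.mem_bot] at h1
      exact congrArg Subtype.val h1)
    (fun w hw => K.le hw)
    (fun d hd d' hd' => by
      obtain ⟨i, rfl⟩ := Subgroup.mem_zpowers_iff.1 hd
      obtain ⟨j, rfl⟩ := Subgroup.mem_zpowers_iff.1 hd'
      exact (Commute.zpow_zpow_self u i j))
    (fun w hw a ha hwa => by
      by_contra hne
      exact ha (K.fix w hw hne a hwa))
    K.card hUn
  refine ⟨q, hq, hpq, ?_, he⟩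
  rw [card_stab2_eq D hxy hxy']
  exact hd

/-- sharply doubly transitive groups have a regular normal subgroup (Frobenius) -/
theorem exists_regular_normal {h : ℕ} (hh : 2 ≤ h) (D : TData G Ω h) {x y : Ω} (hxy : x ≠ y)
    (hd : Nat.card (stab2 G x y) = 1) :
    ∃ N : Subgroup G, N.Normal ∧ MulAction.IsPretransitive N Ω ∧
      ∀ a : Ω, MulAction.stabilizer N a = ⊥ := by
  have htrans := trans D
  have hFC : Cfsg.IsFrobeniusComplement (MulAction.stabilizer G x) := by
    refine ⟨?_, ?_, ?_⟩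
    · intro hbot
      have h1 := card_stab D hxy
      rw [hbot, Subgroup.card_bot, hd] at h1
      omega
    · intro htop
      obtain ⟨g, hg⟩ := MulAction.exists_smul_eq G x y
      have : g ∈ MulAction.stabilizer G x := htop ▸ Subgroup.mem_top g
      exact hxy (this.symm.trans hg)
    · intro g hg
      have hne : x ≠ g • x := fun h => hg h.symm
      have h1 : Nat.card (stab2 G x (g • x)) = 1 := by
        rw [card_stab2_eq D hne hxy, hd]
      rw [Subgroup.card_eq_one] at h1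
      rw [← h1]
      show _ = MulAction.stabilizer G x ⊓ MulAction.stabilizer G (g • x)
      rw [MulAction.stabilizer_smul_eq_stabilizer_map_conj]
      rfl
  obtain ⟨N, hNk, hNn, hNc⟩ := Cfsg.Agent.S0035.result _ hFC
  have hx : ∀ a : Ω, ∃ n ∈ N, n • x = a := by
    intro a
    obtain ⟨g, hg⟩ := MulAction.exists_smul_eq G x a
    obtain ⟨⟨⟨n, hn⟩, ⟨k, hk⟩⟩, hnk⟩ := hNc.2 g
    have hnk' : n * k = g := hnk
    refine ⟨n, hn, ?_⟩
    rw [← hg, ← hnk', mul_smul]
    congr 1
    exact hk.symm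
  refine ⟨N, hNn, ⟨fun a b => ?_⟩, fun a => ?_⟩
  · obtain ⟨n1, hn1, h1⟩ := hx a
    obtain ⟨n2, hn2, h2⟩ := hx b
    refine ⟨⟨n2 * n1⁻¹, N.mul_mem hn2 (N.inv_mem hn1)⟩, ?_⟩
    show (n2 * n1⁻¹) • a = b
    rw [mul_smul, ← h1, inv_smul_smul, h2]
  · rw [Subgroup.eq_bot_iff_forall]
    intro n hn
    have hn' : (n : G) • a = a := hn
    have hmem : (n : G) ∈ Cfsg.frobeniusKernel (MulAction.stabilizer G x) := hNk ▸ n.2
    rcases hmem with h1 | h1
    · exact Subtype.ext h1
    · exfalso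
      obtain ⟨g, hg⟩ := MulAction.exists_smul_eq G x a
      apply h1 g
      have : (n : G) ∈ MulAction.stabilizer G (g • x) := by
        rw [hg]; exact hn'
      rw [MulAction.stabilizer_smul_eq_stabilizer_map_conj] at this
      exact this

/-- the main theorem in abstract form -/
theorem main (hp : p.Prime) (D : TData G Ω p) (hfaith : FaithfulSMul G Ω) {x y : Ω}
    (hxy : x ≠ y) (u : G) (hu : orderOf u = p) (K : KData G Ω x p (Subgroup.zpowers u))
    (hUn : ∀ g : G, g • x = x → ∀ w ∈ Subgroup.zpowers u, g * w * g⁻¹ ∈ Subgroup.zpowers u)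
    (hlt : Nat.card (stab2 G x y) < p) :
    (Nat.card (stab2 G x y) = p - 1 ∧ Nonempty (G ≃* Matrix.ProjGenLinGroup (Fin 2) (ZMod p))) ∨
    (2 * Nat.card (stab2 G x y) = p - 1 ∧
      Nonempty (G ≃* Matrix.ProjectiveSpecialLinearGroup (Fin 2) (ZMod p))) ∨
    ∃ q : ℕ, q.Prime ∧ p + 1 = 2 ^ q ∧
      (Nat.card (stab2 G x y) = 1 ∨ Nat.card (stab2 G x y) = q) ∧
      ∃ e : Ω ≃ GaloisField 2 q, ∀ g : G,
        (e.symm.trans ((MulAction.toPerm g).trans e)) ∈ Cfsg.semiaffineGroup (GaloisField 2 q) := by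
  have hp2le := hp.two_le
  have hpos : 0 < Nat.card (stab2 G x y) := Nat.card_pos
  by_cases hd : Nat.card (stab2 G x y) + 1 = p
  · left
    exact ⟨by omega, pgl_case hp D hfaith hxy u hu K hUn hd⟩
  right
  have hp2 : p ≠ 2 := by
    intro h
    omega
  by_cases hN : ∃ N : Subgroup G, N.Normal ∧ MulAction.IsPretransitive N Ω ∧
      ∀ a : Ω, MulAction.stabilizer N a = ⊥
  · right
    obtain ⟨N, hNn, htr, hreg⟩ := hN
    exact aff_case hp hp2 D hxy u K hUn N hNn htr hreg
  left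
  have hd1 : Nat.card (stab2 G x y) ≠ 1 := fun h => hN (exists_regular_normal hp2le D hxy h)
  have hZ : Cfsg.IsZassenhausGroup G Ω := by
    refine ⟨hfaith, D.two_trans, D.three_point, ?_, ?_⟩
    · have h1 : (stab2 G x y) ≠ ⊥ := by
        intro h
        apply hd1
        rw [h, Subgroup.card_bot]
      obtain ⟨g, hg, hg1⟩ : ∃ g ∈ stab2 G x y, g ≠ 1 := by
        by_contra hc
        push Not at hc
        exact h1 ((Subgroup.eq_bot_iff_forall _).2 hc)
      have hg' := mem_stab2.1 hg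
      exact ⟨g, hg1, x, y, hxy, hg'.1, hg'.2⟩
    · intro N hNn htr
      by_contra hc
      push Not at hc
      exact hN ⟨N, hNn, htr, hc⟩
  obtain ⟨h1, K', iK, iKt, hK', -, ⟨f⟩⟩ := psl_of_zass hZ D.card_O hxy K
    (fun d hd d' hd' => by
      obtain ⟨i, rfl⟩ := Subgroup.mem_zpowers_iff.1 hd
      obtain ⟨j, rfl⟩ := Subgroup.mem_zpowers_iff.1 hd'
      exact (Commute.zpow_zpow_self u i j)) hd
  haveI : Fact p.Prime := ⟨hp⟩
  obtain ⟨f'⟩ := Cfsg.Agent.Lib.Helper6Transport.nonempty_pslEquiv (n := Fin 2) (F := K')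
    (K := ZMod p) (by rw [hK', ZMod.card])
  exact ⟨by omega, ⟨f.trans f'⟩⟩

end Cfsg.Agent.Helper16P1
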