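import Cfsg.Agent.Lib.Helper26Rec
import Mathlib

set_option autoImplicit false
set_option linter.unusedSectionVars false
set_option linter.unusedVariables false
set_option linter.style.haveILetI false

/-! A sharply triply transitive group of permutations of the projective line over a prime field which
contains the affine group is the full Moebius group. -/

namespace Cfsg.Agent.Helper16Pgl

open OnePoint Cfsg.Agent.Lib.Helper26Mob Cfsg.Agent.Lib.Helper26Rec

variable {p : ℕ} [Fact p.Prime]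

section gamma

variable (Γ : Subgroup (Equiv.Perm (OnePoint (ZMod p))))
  (h3 : ∀ π ∈ Γ, ∀ x y z : OnePoint (ZMod p), x ≠ y → x ≠ z → y ≠ z → π x = x → π y = y →
    π z = z → π = 1)
  (hT : ∀ b : ZMod p, T b ∈ Γ) (hM : ∀ a : (ZMod p)ˣ, M a ∈ Γ)
  (v : Equiv.Perm (OnePoint (ZMod p))) (hv : v ∈ Γ) (hv1 : v ∞ = ((0 : ZMod p) : OnePoint (ZMod p)))
  (hv2 : v ((0 : ZMod p) : OnePoint (ZMod p)) = ∞)
  (hv3 : v ((1 : ZMod p) : OnePoint (ZMod p)) = ((1 : ZMod p) : OnePoint (ZMod p)))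

include h3 in
theorem eq_of_agree {π ρ : Equiv.Perm (OnePoint (ZMod p))} (hπ : π ∈ Γ) (hρ : ρ ∈ Γ)
    (x y z : OnePoint (ZMod p)) (hxy : x ≠ y) (hxz : x ≠ z) (hyz : y ≠ z) (hx : π x = ρ x)
    (hy : π y = ρ y) (hz : π z = ρ z) : π = ρ := by
  have h1 : ρ⁻¹ * π = 1 := by
    apply h3 _ (Γ.mul_mem (Γ.inv_mem hρ) hπ) x y z hxy hxz hyz
    · rw [Equiv.Perm.mul_apply, hx]; simp
    · rw [Equiv.Perm.mul_apply, hy]; simp
    · rw [Equiv.Perm.mul_apply, hz]; simp
  exact (inv_mul_eq_one.1 h1).symm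

include hv1 hv2 in
theorem exists_s (a : (ZMod p)ˣ) :
    ∃ s : (ZMod p)ˣ, v ((a : ZMod p) : OnePoint (ZMod p)) = ((s : ZMod p) : OnePoint (ZMod p)) := by
  have h1 : v ((a : ZMod p) : OnePoint (ZMod p)) ≠ ∞ := by
    intro h'
    have := v.injective (h'.trans hv2.symm)
    rw [coe_eq_coe] at this
    exact a.ne_zero this
  obtain ⟨y, hy⟩ := ne_infty_iff_exists.1 h1
  have hy0 : y ≠ 0 := by
    rintro rfl
    have := v.injective (hy.symm.trans hv1.symm)
    exact coe_ne_infty _ this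
  exact ⟨Units.mk0 y hy0, hy.symm⟩

include h3 hM hv hv1 hv2 hv3 in
theorem conj_M (a s : (ZMod p)ˣ)
    (hs : v ((a : ZMod p) : OnePoint (ZMod p)) = ((s : ZMod p) : OnePoint (ZMod p))) :
    v * M a * v⁻¹ = M s := by
  have e1 : v⁻¹ ∞ = ((0 : ZMod p) : OnePoint (ZMod p)) := by
    rw [Equiv.Perm.inv_eq_iff_eq, hv2]
  have e2 : v⁻¹ ((0 : ZMod p) : OnePoint (ZMod p)) = ∞ := by
    rw [Equiv.Perm.inv_eq_iff_eq, hv1]
  have e3 : v⁻¹ ((1 : ZMod p) : OnePoint (ZMod p)) = ((1 : ZMod p) : OnePoint (ZMod p)) := by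
    rw [Equiv.Perm.inv_eq_iff_eq, hv3]
  apply eq_of_agree Γ h3 (Γ.mul_mem (Γ.mul_mem hv (hM a)) (Γ.inv_mem hv)) (hM s) ∞
    ((0 : ZMod p) : OnePoint (ZMod p)) ((1 : ZMod p) : OnePoint (ZMod p))
    (infty_ne_coe _) (infty_ne_coe _) (by rw [Ne, coe_eq_coe]; exact zero_ne_one)
  · simp only [Equiv.Perm.mul_apply, e1, M_coe, mul_zero, hv2, M_infty]
  · simp only [Equiv.Perm.mul_apply, e2, M_infty, hv1, M_coe, mul_zero]
  · simp only [Equiv.Perm.mul_apply, e3, M_coe, mul_one, hs]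

include h3 hM hv hv1 hv2 hv3 in
theorem v_mul (a s : (ZMod p)ˣ)
    (hs : v ((a : ZMod p) : OnePoint (ZMod p)) = ((s : ZMod p) : OnePoint (ZMod p)))
    (x : OnePoint (ZMod p)) : v (M a x) = M s (v x) := by
  have h1 := conj_M Γ h3 hM v hv hv1 hv2 hv3 a s hs
  have h2 := congrArg (fun π : Equiv.Perm (OnePoint (ZMod p)) => π (v x)) h1
  simpa using h2

include h3 hT hM hv hv1 hv2 hv3 in
theorem v_natCast (m : ℕ) (hm0 : 0 < m) (hmp : m < p) :
    v (((m : ZMod p)) : OnePoint (ZMod p)) = (((m : ZMod p)⁻¹ : ZMod p) : OnePoint (ZMod p)) := by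
  induction m with
  | zero => omega
  | succ m ih =>
    rcases Nat.eq_zero_or_pos m with rfl | hm
    · simp [hv3]
    have ihm := ih hm (by omega)
    have hp3 : 2 < p := by omega
    have hm0' : (m : ZMod p) ≠ 0 := by
      intro h
      rw [ZMod.natCast_eq_zero_iff] at h
      exact absurd (Nat.le_of_dvd hm h) (by omega)
    have hm1' : ((m + 1 : ℕ) : ZMod p) ≠ 0 := by
      intro h
      rw [ZMod.natCast_eq_zero_iff] at h
      exact absurd (Nat.le_of_dvd (by omega) h) (by omega)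
    have hneg : (-1 : ZMod p) ≠ 1 := by
      intro h
      have h2 : ((2 : ℕ) : ZMod p) = 0 := by
        push_cast
        linear_combination -h
      rw [ZMod.natCast_eq_zero_iff] at h2
      exact absurd (Nat.le_of_dvd (by omega) h2) (by omega)
    -- the value at `-1`
    obtain ⟨s1, hs1⟩ := exists_s v hv1 hv2 (-1 : (ZMod p)ˣ)
    have hs1sq : s1 * s1 = 1 := by
      have h1 := v_mul Γ h3 hM v hv hv1 hv2 hv3 (-1) s1 hs1
        (((-1 : (ZMod p)ˣ) : ZMod p) : OnePoint (ZMod p))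
      rw [hs1, M_coe, M_coe] at h1
      have h2 : (((-1 : (ZMod p)ˣ) : ZMod p)) * (((-1 : (ZMod p)ˣ) : ZMod p)) = 1 := by simp
      rw [h2, hv3, coe_eq_coe] at h1
      exact Units.ext h1.symm
    have hs1ne : s1 ≠ 1 := by
      rintro rfl
      have := v.injective (hs1.trans (by rw [Units.val_one]; exact hv3.symm))
      rw [coe_eq_coe] at this
      apply hneg
      simpa using this
    have hs1' : (s1 : ZMod p) = -1 := by
      have h1 : ((s1 : ZMod p) - 1) * ((s1 : ZMod p) + 1) = 0 := by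
        have := congrArg (fun u : (ZMod p)ˣ => (u : ZMod p)) hs1sq
        simp only [Units.val_mul, Units.val_one] at this
        linear_combination this
      rcases mul_eq_zero.1 h1 with h2 | h2
      · exact absurd (Units.ext (by rw [Units.val_one]; exact sub_eq_zero.1 h2)) hs1ne
      · exact eq_neg_of_add_eq_zero_left h2
    have hvneg : v (((-1 : ZMod p)) : OnePoint (ZMod p)) = (((-1 : ZMod p)) : OnePoint (ZMod p)) := by
      have := hs1
      rw [hs1'] at this
      simpa using this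
    -- the relation
    have hrel : v * T 1 * v = T 1 * M (-1) * v * T 1 := by
      apply eq_of_agree Γ h3 (Γ.mul_mem (Γ.mul_mem hv (hT 1)) hv)
        (Γ.mul_mem (Γ.mul_mem (Γ.mul_mem (hT 1) (hM (-1))) hv) (hT 1)) ∞
        ((0 : ZMod p) : OnePoint (ZMod p)) ((-1 : ZMod p) : OnePoint (ZMod p))
        (infty_ne_coe _) (infty_ne_coe _)
        (by rw [Ne, coe_eq_coe]; intro h; exact one_ne_zero (neg_eq_zero.1 h.symm))
      · simp [Equiv.Perm.mul_apply, hv1, hv3]
      · simp [Equiv.Perm.mul_apply, hv1, hv2, hv3]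
      · simp [Equiv.Perm.mul_apply, hv1, hv2, hv3, hvneg]
    obtain ⟨t, ht⟩ := exists_s v hv1 hv2 (Units.mk0 _ hm1')
    rw [Units.val_mk0] at ht
    -- value of `s` at `m⁻¹`
    have hminv : v ((((Units.mk0 _ hm0')⁻¹ : (ZMod p)ˣ) : ZMod p) : OnePoint (ZMod p))
        = (((Units.mk0 _ hm0' : (ZMod p)ˣ) : ZMod p) : OnePoint (ZMod p)) := by
      obtain ⟨r, hr⟩ := exists_s v hv1 hv2 (Units.mk0 _ hm0')⁻¹
      have h1 := v_mul Γ h3 hM v hv hv1 hv2 hv3 _ r hr
        (((Units.mk0 _ hm0' : (ZMod p)ˣ) : ZMod p) : OnePoint (ZMod p))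
      rw [M_coe, Units.val_mk0, ihm, M_coe] at h1
      have h2 : (((Units.mk0 _ hm0')⁻¹ : (ZMod p)ˣ) : ZMod p) * (m : ZMod p) = 1 := by
        rw [Units.val_inv_eq_inv_val, Units.val_mk0, inv_mul_cancel₀ hm0']
      rw [h2, hv3, coe_eq_coe] at h1
      rw [hr, coe_eq_coe, Units.val_mk0]
      field_simp at h1
      exact h1.symm
    have h1 := congrArg (fun π : Equiv.Perm (OnePoint (ZMod p)) => π ((m : ZMod p) : OnePoint (ZMod p)))
      hrel
    simp only [Equiv.Perm.mul_apply, ihm, T_coe] at h1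
    have h2 : ((m : ZMod p) + 1) = ((m + 1 : ℕ) : ZMod p) := by push_cast; ring
    rw [h2, ht, M_coe, T_coe] at h1
    have h4 : ((m : ZMod p)⁻¹ + 1) = (((Units.mk0 _ hm0')⁻¹ : (ZMod p)ˣ) : ZMod p)
        * ((m + 1 : ℕ) : ZMod p) := by
      rw [Units.val_inv_eq_inv_val, Units.val_mk0]
      push_cast
      field_simp
      ring
    have h5 := v_mul Γ h3 hM v hv hv1 hv2 hv3 _ _ hminv (((m + 1 : ℕ) : ZMod p) : OnePoint (ZMod p))
    rw [M_coe, ← h4, ht, M_coe, Units.val_mk0] at h5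
    rw [h5, coe_eq_coe] at h1
    rw [ht, coe_eq_coe]
    have h6 : ((m + 1 : ℕ) : ZMod p) * (t : ZMod p) = 1 := by
      push_cast
      simp only [Units.val_neg, Units.val_one] at h1
      linear_combination h1
    exact eq_inv_of_mul_eq_one_right h6

include h3 hT hM hv hv1 hv2 hv3 in
theorem v_unit (a : (ZMod p)ˣ) :
    v ((a : ZMod p) : OnePoint (ZMod p)) = (((a⁻¹ : (ZMod p)ˣ) : ZMod p) : OnePoint (ZMod p)) := by
  have h1 : ((a : ZMod p).val : ZMod p) = a := ZMod.natCast_zmod_val _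
  have h2 : 0 < (a : ZMod p).val := by
    rw [Nat.pos_iff_ne_zero, Ne, ZMod.val_eq_zero]
    exact a.ne_zero
  have h4 := v_natCast Γ h3 hT hM v hv hv1 hv2 hv3 _ h2 (ZMod.val_lt _)
  rw [h1] at h4
  rw [h4, Units.val_inv_eq_inv_val]

include h3 hT hM hv hv1 hv2 hv3 in
theorem gamma_eq_aux : Γ = MG (ZMod p) := by
  have hc : Cond Γ ⊤ v :=
    { T_mem := hT
      stab := by
        intro π h1 h0
        constructor
        · intro hπ
          have h5 : π ((1 : ZMod p) : OnePoint (ZMod p)) ≠ ∞ := by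
            intro h'
            exact coe_ne_infty _ (π.injective (h'.trans h1.symm))
          obtain ⟨y, hy⟩ := ne_infty_iff_exists.1 h5
          have hy0 : y ≠ 0 := by
            rintro rfl
            have := π.injective (hy.symm.trans h0.symm)
            rw [coe_eq_coe] at this
            exact one_ne_zero this
          refine ⟨Units.mk0 y hy0, Subgroup.mem_top _, ?_⟩
          apply eq_of_agree Γ h3 hπ (hM _) ∞ ((0 : ZMod p) : OnePoint (ZMod p))
            ((1 : ZMod p) : OnePoint (ZMod p)) (infty_ne_coe _) (infty_ne_coe _)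
            (by rw [Ne, coe_eq_coe]; exact zero_ne_one)
          · rw [h1, M_infty]
          · rw [h0, M_coe, mul_zero]
          · rw [← hy, M_coe, mul_one, Units.val_mk0]
        · rintro ⟨a, -, rfl⟩
          exact hM a
      v_mem := hv
      v_infty := hv1
      v_zero := hv2
      v_inv := fun a _ => conj_M Γ h3 hM v hv hv1 hv2 hv3 a a⁻¹
        (v_unit Γ h3 hT hM v hv hv1 hv2 hv3 a) }
  exact hc.eq_MG rfl

include h3 hT hM hv hv1 hv2 in
theorem gamma_eq : Γ = MG (ZMod p) := by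
  obtain ⟨c, hc⟩ := exists_s v hv1 hv2 1
  apply gamma_eq_aux Γ h3 hT hM (M c⁻¹ * v) (Γ.mul_mem (hM _) hv)
  · rw [Equiv.Perm.mul_apply, hv1, M_coe, mul_zero]
  · rw [Equiv.Perm.mul_apply, hv2, M_infty]
  · rw [Equiv.Perm.mul_apply]
    have : ((1 : ZMod p) : OnePoint (ZMod p)) = (((1 : (ZMod p)ˣ) : ZMod p) : OnePoint (ZMod p)) := by
      simp
    rw [this, hc, M_coe, coe_eq_coe, Units.val_one, ← Units.val_mul, inv_mul_cancel,
      Units.val_one]

end gamma

end Cfsg.Agent.Helper16Pgl
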