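import Cfsg.Agent.Lib.Helper16CtA
import Mathlib

/-!
# Groups with an involution `t` such that `C(b) ≤ C(t)` for all `1 ≠ b ∈ C(t)`: local analysis
(the arguments of `Helper16CtA` under a weaker hypothesis)
-/

set_option autoImplicit false
set_option linter.unusedSectionVars false
set_option linter.unusedVariables false
set_option linter.style.haveILetI false

namespace Cfsg.Agent.Helper16Ti

open Cfsg.Agent.Helper16Ct (inv_eq_self dih)

variable {G : Type*} [Group G]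

/-- the standing data: `t` is an involution and `C(b) ≤ C(t)` for all `1 ≠ b ∈ C(t)` -/
structure WData (G : Type*) [Group G] (t : G) : Prop where
  ct : ∀ a b : G, a ≠ 1 → b ≠ 1 → Commute a b → Commute b t → Commute a t
  t1 : t ≠ 1
  t2 : t * t = 1

variable {t : G} (D : WData G t)

include D

theorem conj_t_ne (g : G) : g * t * g⁻¹ ≠ 1 := fun h => D.t1 (conj_eq_one_iff.1 h)

theorem conj_t_sq (g : G) : g * t * g⁻¹ * (g * t * g⁻¹) = 1 := by
  rw [conj_mul, D.t2]; simp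

/-- the normaliser of the centraliser of `t` -/
def Hs : Subgroup G where
  carrier := {g | Commute (g * t * g⁻¹) t}
  one_mem' := by simp
  mul_mem' := by
    intro a b ha hb
    simp only [Set.mem_ofPred_eq] at ha hb ⊢
    have h1 : Commute (a * (b * t * b⁻¹) * a⁻¹) (a * t * a⁻¹) := (Commute.conj_iff a).2 hb
    have h2 : a * b * t * (a * b)⁻¹ = a * (b * t * b⁻¹) * a⁻¹ := by group
    rw [h2]
    refine D.ct _ _ ?_ (conj_t_ne D a) h1 ha
    rw [← h2]; exact conj_t_ne D _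
  inv_mem' := by
    intro a ha
    simp only [Set.mem_ofPred_eq] at ha ⊢
    have h1 := (Commute.conj_iff a⁻¹).2 ha
    have h2 : a⁻¹ * (a * t * a⁻¹) * a⁻¹⁻¹ = t := by group
    rw [h2] at h1
    exact h1.symm

theorem mem_Hs {g : G} : g ∈ Hs D ↔ Commute (g * t * g⁻¹) t := Iff.rfl

theorem S_le {s : G} (hs : Commute s t) : s ∈ Hs D := by
  rw [mem_Hs]
  have : s * t * s⁻¹ = t := by rw [hs.eq, mul_inv_cancel_right]
  rw [this]

/-- the centraliser of `t` is normalised by `Hs` -/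
theorem S_norm {h s : G} (hh : h ∈ Hs D) (hs : Commute s t) : Commute (h * s * h⁻¹) t := by
  by_cases hs1 : s = 1
  · rw [hs1]; simp
  exact D.ct _ _ (fun h1 => hs1 (conj_eq_one_iff.1 h1)) (conj_t_ne D h)
    ((Commute.conj_iff h).2 hs) hh

/-- involutions of `Hs` centralise `t` -/
theorem inv_Hs {v : G} (hv : v ∈ Hs D) (hv2 : v * v = 1) : Commute v t := by
  by_cases hv1 : v = 1
  · rw [hv1]; exact Commute.one_left t
  have hvi := inv_eq_self hv2
  have hc : Commute (v * t * v⁻¹) t := hv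
  by_cases ht : v * t * v⁻¹ = t
  · exact mul_inv_eq_iff_eq_mul.1 ht
  have hw1 : t * (v * t * v⁻¹) ≠ 1 := by
    intro h1
    apply ht
    have := eq_inv_of_mul_eq_one_right h1
    rw [this, inv_eq_self D.t2]
  have hvw : Commute v (t * (v * t * v⁻¹)) := by
    have : v * (t * (v * t * v⁻¹)) * v⁻¹ = t * (v * t * v⁻¹) := by
      calc v * (t * (v * t * v⁻¹)) * v⁻¹ = (v * t * v⁻¹) * ((v * v) * t * (v * v)⁻¹) := by group
        _ = (v * t * v⁻¹) * t := by rw [hv2]; simp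
        _ = t * (v * t * v⁻¹) := hc.eq
    exact mul_inv_eq_iff_eq_mul.1 this
  have hwt : Commute (t * (v * t * v⁻¹)) t := (Commute.refl t).mul_left hc
  exact D.ct _ _ hv1 hw1 hvw hwt

/-- an involution moving the base point as `g` does -/
theorem exists_inv [Finite G] {g : G} (hg : g ∉ Hs D) :
    ∃ z : G, z * z = 1 ∧ z * t * z⁻¹ = g * t * g⁻¹ := by
  rcases dih D.t2 (conj_t_sq D g) with ⟨w, hw1, -, hwt, hwg⟩ | h
  · exact absurd (D.ct _ _ (conj_t_ne D g) hw1 hwg.symm hwt) hg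
  · exact h

theorem not_mem_of_conj_eq {g z : G} (hg : g ∉ Hs D) (hz : z * t * z⁻¹ = g * t * g⁻¹) :
    z ∉ Hs D := by
  intro h
  apply hg
  rw [mem_Hs] at h ⊢
  rwa [← hz]

theorem inv_mul_comm_of_conj_eq {g z : G} (hz : z * t * z⁻¹ = g * t * g⁻¹) :
    Commute (g⁻¹ * z) t := by
  have : (g⁻¹ * z) * t * (g⁻¹ * z)⁻¹ = t := by
    calc (g⁻¹ * z) * t * (g⁻¹ * z)⁻¹ = g⁻¹ * (z * t * z⁻¹) * g := by group
      _ = t := by rw [hz]; group
  exact mul_inv_eq_iff_eq_mul.1 this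

variable {z : G} (hz : z ∉ Hs D) (hz2 : z * z = 1)

include hz hz2

/-- (a) the two point stabiliser meets the centraliser of `t` trivially -/
theorem Y_inf_S {s : G} (hs : Commute s t) (hsz : z * s * z⁻¹ ∈ Hs D) : s = 1 := by
  by_contra hs1
  have hzi := inv_eq_self hz2
  set s' : G := z * s * z⁻¹ with hs'
  have hs'1 : s' ≠ 1 := fun h => hs1 (conj_eq_one_iff.1 h)
  have hzs' : z * s' * z⁻¹ = s := by
    rw [hs']
    calc z * (z * s * z⁻¹) * z⁻¹ = (z * z) * s * (z * z)⁻¹ := by group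
      _ = s := by rw [hz2]; simp
  have hs't : Commute s' (z * t * z⁻¹) := (Commute.conj_iff z).2 hs
  -- the commutator lies in both
  have hc1 : Commute (s * (s' * s⁻¹ * s'⁻¹)) t :=
    hs.mul_left (S_norm D hsz hs.inv_left)
  have hc2 : Commute (s * s' * s⁻¹ * s'⁻¹) (z * t * z⁻¹) := by
    have h1 : Commute (s' * s * s'⁻¹) t := S_norm D hsz hs
    have h2 : Commute (z * (s' * s * s'⁻¹) * z⁻¹) (z * t * z⁻¹) := (Commute.conj_iff z).2 h1
    have h3 : z * (s' * s * s'⁻¹) * z⁻¹ = s * s' * s⁻¹ := by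
      calc z * (s' * s * s'⁻¹) * z⁻¹ = (z * s' * z⁻¹) * (z * s * z⁻¹) * (z * s' * z⁻¹)⁻¹ := by group
        _ = s * s' * s⁻¹ := by rw [hzs']
    rw [h3] at h2
    exact h2.mul_left hs't.inv_left
  have hc3 : s * s' * s⁻¹ * s'⁻¹ = 1 := by
    by_contra hne
    apply hz
    have h4 : s * (s' * s⁻¹ * s'⁻¹) = s * s' * s⁻¹ * s'⁻¹ := by group
    rw [h4] at hc1
    exact D.ct _ _ (conj_t_ne D z) hne hc2.symm hc1
  have hcomm : Commute s s' := by
    have : s * s' * s⁻¹ = s' := mul_inv_eq_one.1 hc3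
    exact mul_inv_eq_iff_eq_mul.1 this
  apply hz
  have h5 : Commute s' t := D.ct _ _ hs'1 hs1 hcomm.symm hs
  exact D.ct _ _ (conj_t_ne D z) hs'1 hs't.symm h5

/-- (b) the two point stabiliser is transitive on the involutions commuting with `t` -/
theorem Y_trans [Finite G] {u : G} (hu1 : u ≠ 1) (hu2 : u * u = 1) (hut : Commute u t) :
    ∃ h : G, h ∈ Hs D ∧ z * h * z⁻¹ = h⁻¹ ∧ h * t * h⁻¹ = u := by
  have hzi := inv_eq_self hz2
  have hy2 : z * u * z⁻¹ * (z * u * z⁻¹) = 1 := by rw [conj_mul, hu2]; simp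
  have hy1 : z * u * z⁻¹ ≠ 1 := fun h => hu1 (conj_eq_one_iff.1 h)
  rcases dih D.t2 hy2 with ⟨w, hw1, -, hwt, hwy⟩ | ⟨z', hz'2, hz'⟩
  · exfalso
    apply hz
    have h1 : Commute (z * u * z⁻¹) t := D.ct _ _ hy1 hw1 hwy.symm hwt
    have h2 : Commute (z * t * z⁻¹) (z * u * z⁻¹) := (Commute.conj_iff z).2 hut.symm
    exact D.ct _ _ (conj_t_ne D z) hy1 h2 h1
  · have hz'i := inv_eq_self hz'2
    have h3 : (z * z') * t * (z * z')⁻¹ = u := by
      calc (z * z') * t * (z * z')⁻¹ = z * (z' * t * z'⁻¹) * z⁻¹ := by group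
        _ = (z * z) * u * (z * z)⁻¹ := by rw [hz']; group
        _ = u := by rw [hz2]; simp
    refine ⟨z * z', ?_, ?_, h3⟩
    · rw [mem_Hs, h3]; exact hut
    · rw [mul_inv_rev, hz'i, hzi, ← mul_assoc, hz2, one_mul]

/-- (c) the involution `z` inverts the two point stabiliser -/
theorem Y_inv [Finite G] {h : G} (hh : h ∈ Hs D) (hhz : z * h * z⁻¹ ∈ Hs D) :
    z * h * z⁻¹ = h⁻¹ := by
  obtain ⟨h', hh', hinv, hconj⟩ := Y_trans D hz hz2 (conj_t_ne D h) (conj_t_sq D h) hh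
  have hs : Commute (h'⁻¹ * h) t := inv_mul_comm_of_conj_eq D hconj.symm
  have h1 : z * (h'⁻¹ * h) * z⁻¹ ∈ Hs D := by
    have : z * (h'⁻¹ * h) * z⁻¹ = (z * h' * z⁻¹)⁻¹ * (z * h * z⁻¹) := by group
    rw [this, hinv, inv_inv]
    exact (Hs D).mul_mem hh' hhz
  have h2 := Y_inf_S D hz hz2 hs h1
  have h3 : h' = h := by
    have := inv_mul_eq_one.1 h2
    exact this
  rw [← h3]; exact hinv

/-- (d) the two point stabiliser is abelian -/
theorem Y_comm [Finite G] {h k : G} (hh : h ∈ Hs D) (hhz : z * h * z⁻¹ ∈ Hs D)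
    (hk : k ∈ Hs D) (hkz : z * k * z⁻¹ ∈ Hs D) : Commute h k := by
  have h1 := Y_inv D hz hz2 hh hhz
  have h2 := Y_inv D hz hz2 hk hkz
  have h3 : z * (h * k) * z⁻¹ = (h * k)⁻¹ := by
    apply Y_inv D hz hz2 ((Hs D).mul_mem hh hk)
    rw [← conj_mul]
    exact (Hs D).mul_mem hhz hkz
  rw [← conj_mul, h1, h2, ← mul_inv_rev] at h3
  exact (inv_injective h3).symm

/-- (e) `Hs` is the product of the two point stabiliser and the centraliser of `t` -/
theorem Y_mul_S [Finite G] {h : G} (hh : h ∈ Hs D) :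
    ∃ y : G, y ∈ Hs D ∧ z * y * z⁻¹ = y⁻¹ ∧ Commute (y⁻¹ * h) t := by
  obtain ⟨h', hh', hinv, hconj⟩ := Y_trans D hz hz2 (conj_t_ne D h) (conj_t_sq D h) hh
  exact ⟨h', hh', hinv, inv_mul_comm_of_conj_eq D hconj.symm⟩

/-- (f) centralisers of non-identity elements of the two point stabiliser fix the base point -/
theorem cent_le [Finite G] {y a : G} (hy1 : y ≠ 1) (hy : y ∈ Hs D) (hyz : z * y * z⁻¹ ∈ Hs D)
    (ha : Commute a y) : a ∈ Hs D := by
  by_contra haH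
  obtain ⟨z', hz'2, hz'⟩ := exists_inv D haH
  have hz'H := not_mem_of_conj_eq D haH hz'
  have hw : Commute (a⁻¹ * z') t := inv_mul_comm_of_conj_eq D hz'
  have hz'i := inv_eq_self hz'2
  set w : G := a⁻¹ * z' with hwdef
  have hz'w : z' = a * w := by rw [hwdef]; group
  have h1 : z' * y * z'⁻¹ = w⁻¹ * y * w := by
    have h2 : z' * y * z'⁻¹ = z'⁻¹ * y * z' := by rw [hz'i]
    rw [h2, hz'w]
    calc (a * w)⁻¹ * y * (a * w) = w⁻¹ * (a⁻¹ * (y * a)) * w := by group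
      _ = w⁻¹ * y * w := by rw [← ha.eq]; group
  have hwH : w ∈ Hs D := S_le D hw
  have h3 : z' * y * z'⁻¹ ∈ Hs D := by
    rw [h1]
    exact (Hs D).mul_mem ((Hs D).mul_mem ((Hs D).inv_mem hwH) hy) hwH
  have h4 := Y_inv D hz'H hz'2 hy h3
  rw [h1] at h4
  -- `y⁻²` lies in the centraliser of `t`
  have h5 : Commute (w⁻¹ * (y * w * y⁻¹)) t := hw.inv_left.mul_left (S_norm D hy hw)
  have h6 : w⁻¹ * (y * w * y⁻¹) = y⁻¹ * y⁻¹ := by
    calc w⁻¹ * (y * w * y⁻¹) = (w⁻¹ * y * w) * y⁻¹ := by group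
      _ = y⁻¹ * y⁻¹ := by rw [h4]
  rw [h6] at h5
  have h7 : z * (y⁻¹ * y⁻¹) * z⁻¹ ∈ Hs D := by
    rw [← conj_mul, ← conj_inv]
    exact (Hs D).mul_mem ((Hs D).inv_mem hyz) ((Hs D).inv_mem hyz)
  have h8 := Y_inf_S D hz hz2 h5 h7
  have h9 : y * y = 1 := by
    have : (y * y)⁻¹ = 1 := by rw [mul_inv_rev]; exact h8
    exact inv_eq_one.1 this
  exact hy1 (Y_inf_S D hz hz2 (inv_Hs D hy h9) hyz)

omit hz hz2 in
/-- (g) three point stabilisers are trivial -/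
theorem three_pt [Finite G] {z z' g : G} (hz : z ∉ Hs D) (hz2 : z * z = 1) (hz' : z' ∉ Hs D)
    (hz'2 : z' * z' = 1) (hg1 : g ≠ 1) (hg : g ∈ Hs D) (hgz : z * g * z⁻¹ ∈ Hs D)
    (hgz' : z' * g * z'⁻¹ ∈ Hs D) : z⁻¹ * z' ∈ Hs D := by
  have h1 := Y_inv D hz hz2 hg hgz
  have h2 := Y_inv D hz' hz'2 hg hgz'
  apply cent_le D hz hz2 hg1 hg hgz
  have : (z⁻¹ * z') * g * (z⁻¹ * z')⁻¹ = g := by
    calc (z⁻¹ * z') * g * (z⁻¹ * z')⁻¹ = z⁻¹ * (z' * g * z'⁻¹) * z := by group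
      _ = z⁻¹ * (z * g * z⁻¹) * z := by rw [h2, h1]
      _ = g := by group
  exact mul_inv_eq_iff_eq_mul.1 this

omit hz hz2 in
/-- (h) the centraliser of `t` is transitive on the remaining points -/
theorem S_trans [Finite G] {z z' u : G} (hz : z ∉ Hs D) (hz2 : z * z = 1) (hz' : z' ∉ Hs D)
    (hz'2 : z' * z' = 1) (hu1 : u ≠ 1) (hu2 : u * u = 1) (hut : Commute u t) (hne : u ≠ t) :
    ∃ s : G, Commute s t ∧ z'⁻¹ * (s * z) ∈ Hs D := by
  obtain ⟨y₁, hy₁H, hy₁inv, hy₁u⟩ := Y_trans D hz' hz'2 hu1 hu2 hut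
  have hy₁S : ¬ Commute y₁ t := by
    intro h; apply hne; rw [← hy₁u, h.eq, mul_inv_cancel_right]
  obtain ⟨y, hyH, hyinv, hyS⟩ := Y_mul_S D hz hz2 hy₁H
  have hyS' : ¬ Commute y t := by
    intro h; apply hy₁S
    have := h.mul_left hyS
    simpa using this
  have hy1 : y ≠ 1 := by rintro rfl; exact hyS' (Commute.one_left t)
  have hy₁1 : y₁ ≠ 1 := by rintro rfl; exact hy₁S (Commute.one_left t)
  let φ : {s : G // Commute s t} → {s : G // Commute s t} := fun s =>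
    ⟨y⁻¹ * s.1 * y * s.1⁻¹, by
      have h1 : Commute (y⁻¹ * s.1 * y⁻¹⁻¹) t := S_norm D ((Hs D).inv_mem hyH) s.2
      rw [inv_inv] at h1
      exact h1.mul_left s.2.inv_left⟩
  have hinj : Function.Injective φ := by
    intro s s' hss
    have h1 : y⁻¹ * s.1 * y * s.1⁻¹ = y⁻¹ * s'.1 * y * s'.1⁻¹ := congrArg Subtype.val hss
    have h2 : Commute (s'.1⁻¹ * s.1) y := by
      have h3 : s.1 * y * s.1⁻¹ = s'.1 * y * s'.1⁻¹ := by
        have := congrArg (fun x => y * x) h1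
        simpa [mul_assoc] using this
      have h4 : (s'.1⁻¹ * s.1) * y * (s'.1⁻¹ * s.1)⁻¹ = y := by
        calc (s'.1⁻¹ * s.1) * y * (s'.1⁻¹ * s.1)⁻¹ = s'.1⁻¹ * (s.1 * y * s.1⁻¹) * s'.1 := by group
          _ = y := by rw [h3]; group
      exact mul_inv_eq_iff_eq_mul.1 h4
    by_contra hne'
    have h5 : s'.1⁻¹ * s.1 ≠ 1 := by
      intro h6
      apply hne'
      exact Subtype.ext (inv_mul_eq_one.1 h6).symm
    exact hyS' (D.ct _ _ hy1 h5 h2.symm (s'.2.inv_left.mul_left s.2))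
  obtain ⟨s', hs'⟩ := Finite.surjective_of_injective hinj ⟨y⁻¹ * y₁, hyS⟩
  have hs'1 : y⁻¹ * s'.1 * y * s'.1⁻¹ = y⁻¹ * y₁ := congrArg Subtype.val hs'
  have hy₁eq : y₁ = s'.1 * y * s'.1⁻¹ := by
    have := congrArg (fun x => y * x) hs'1
    simpa [mul_assoc] using this.symm
  have hs'H : s'.1 ∈ Hs D := S_le D s'.2
  have hz''2 : (s'.1 * z * s'.1⁻¹) * (s'.1 * z * s'.1⁻¹) = 1 := by rw [conj_mul, hz2]; simp
  have hz''H : s'.1 * z * s'.1⁻¹ ∉ Hs D := by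
    intro h
    apply hz
    have := (Hs D).mul_mem ((Hs D).mul_mem ((Hs D).inv_mem hs'H) h) hs'H
    have h2 : s'.1⁻¹ * (s'.1 * z * s'.1⁻¹) * s'.1 = z := by group
    rwa [h2] at this
  have h7 : (s'.1 * z * s'.1⁻¹) * y₁ * (s'.1 * z * s'.1⁻¹)⁻¹ ∈ Hs D := by
    have h8 : (s'.1 * z * s'.1⁻¹) * y₁ * (s'.1 * z * s'.1⁻¹)⁻¹ = s'.1 * (z * y * z⁻¹) * s'.1⁻¹ := by
      rw [hy₁eq]; group
    rw [h8, hyinv]
    exact (Hs D).mul_mem ((Hs D).mul_mem hs'H ((Hs D).inv_mem hyH)) ((Hs D).inv_mem hs'H)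
  have h9 : z' * y₁ * z'⁻¹ ∈ Hs D := by rw [hy₁inv]; exact (Hs D).inv_mem hy₁H
  have h10 := three_pt D hz' hz'2 hz''H hz''2 hy₁1 hy₁H h9 h7
  refine ⟨s'.1, s'.2, ?_⟩
  have h11 : z'⁻¹ * (s'.1 * z) = z'⁻¹ * (s'.1 * z * s'.1⁻¹) * s'.1 := by group
  rw [h11]
  exact (Hs D).mul_mem h10 hs'H

end Cfsg.Agent.Helper16Ti
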