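import Cfsg.Agent.Lib.Helper16TiA
import Cfsg.Agent.Lib.Helper16CtB
import Mathlib

/-!
# Groups with an involution `t` such that `C(b) ≤ C(t)` for all `1 ≠ b ∈ C(t)`:
the permutation representation on the cosets of `N(C(t))`
-/

set_option autoImplicit false
set_option linter.unusedSectionVars false
set_option linter.unusedVariables false
set_option linter.style.haveILetI false

namespace Cfsg.Agent.Helper16Ti

open Cfsg.Agent.Helper16Ct (inv_eq_self dih card_sub_one)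
open Cfsg Cfsg.Agent.Helper16Feit Cfsg.Agent.Lib.Helper61Feit Cfsg.Agent.Lib.Helper61Feit2

variable {G : Type*} [Group G] [Finite G] {t : G} (D : WData G t)

include D

theorem fix_iff {g x : G} :
    g • ((x : G) : G ⧸ Hs D) = (x : G ⧸ Hs D) ↔ x⁻¹ * g * x ∈ Hs D := by
  have : g • ((x : G) : G ⧸ Hs D) = ((g * x : G) : G ⧸ Hs D) := rfl
  rw [this, eq_comm, QuotientGroup.eq, mul_assoc]

theorem fix_base {g : G} :
    g • ((1 : G) : G ⧸ Hs D) = ((1 : G) : G ⧸ Hs D) ↔ g ∈ Hs D := by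
  rw [fix_iff]; simp

theorem fix_inv {g z : G} (hz2 : z * z = 1) :
    g • ((z : G) : G ⧸ Hs D) = (z : G ⧸ Hs D) ↔ z * g * z⁻¹ ∈ Hs D := by
  rw [fix_iff, inv_eq_self hz2]

theorem exists_inv_pt (c : G ⧸ Hs D) (hc : c ≠ ((1 : G) : G ⧸ Hs D)) :
    ∃ z : G, z ∉ Hs D ∧ z * z = 1 ∧ c = (z : G ⧸ Hs D) := by
  obtain ⟨g, rfl⟩ := QuotientGroup.mk_surjective c
  have hg : g ∉ Hs D := by
    intro h
    apply hc
    rw [eq_comm, QuotientGroup.eq]; simpa using h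
  obtain ⟨z, hz2, hz⟩ := exists_inv D hg
  refine ⟨z, not_mem_of_conj_eq D hg hz, hz2, ?_⟩
  rw [QuotientGroup.eq]
  exact S_le D (inv_mul_comm_of_conj_eq D hz)

theorem three_base {g : G} {b c : G ⧸ Hs D} (hb : b ≠ ((1 : G) : G ⧸ Hs D))
    (hc : c ≠ ((1 : G) : G ⧸ Hs D)) (hbc : b ≠ c)
    (hg : g • ((1 : G) : G ⧸ Hs D) = ((1 : G) : G ⧸ Hs D)) (hgb : g • b = b) (hgc : g • c = c) :
    g = 1 := by
  obtain ⟨z, hz, hz2, rfl⟩ := exists_inv_pt D b hb
  obtain ⟨z', hz', hz'2, rfl⟩ := exists_inv_pt D c hc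
  by_contra hg1
  apply hbc
  rw [QuotientGroup.eq]
  exact three_pt D hz hz2 hz' hz'2 hg1 ((fix_base D).1 hg) ((fix_inv D hz2).1 hgb)
    ((fix_inv D hz'2).1 hgc)

theorem inv_smul_mk (x : G) : x⁻¹ • ((x : G) : G ⧸ Hs D) = ((1 : G) : G ⧸ Hs D) := by
  show ((x⁻¹ * x : G) : G ⧸ Hs D) = _
  rw [inv_mul_cancel]

theorem three_gen (g : G) (a b c : G ⧸ Hs D) (hab : a ≠ b) (hbc : b ≠ c) (hac : a ≠ c)
    (ha : g • a = a) (hb : g • b = b) (hc : g • c = c) : g = 1 := by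
  obtain ⟨x, rfl⟩ := QuotientGroup.mk_surjective a
  have key : ∀ p : G ⧸ Hs D, g • p = p → (x⁻¹ * g * x) • (x⁻¹ • p) = x⁻¹ • p := by
    intro p hp
    rw [smul_smul]
    have : x⁻¹ * g * x * x⁻¹ = x⁻¹ * g := by group
    rw [this, mul_smul, hp]
  have hx := inv_smul_mk D x
  have h0 := key _ ha
  rw [hx] at h0
  have h1 : x⁻¹ * g * x = 1 := by
    refine three_base D (b := x⁻¹ • b) (c := x⁻¹ • c) ?_ ?_ ?_ h0 (key b hb) (key c hc)
    · rw [← hx]; intro h; exact hab (smul_left_cancel _ h).symm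
    · rw [← hx]; intro h; exact hac (smul_left_cancel _ h).symm
    · intro h; exact hbc (smul_left_cancel _ h)
  have : g = x * (x⁻¹ * g * x) * x⁻¹ := by group
  rw [this, h1]; simp

theorem S_free {s : G} (hs : Commute s t) (hs1 : s ≠ 1) (c : G ⧸ Hs D) (hc : s • c = c) :
    c = ((1 : G) : G ⧸ Hs D) := by
  by_contra hne
  obtain ⟨z, hz, hz2, rfl⟩ := exists_inv_pt D c hne
  exact hs1 (Y_inf_S D hz hz2 hs ((fix_inv D hz2).1 hc))

variable {u : G} (hu1 : u ≠ 1) (hu2 : u * u = 1) (hut : Commute u t) (hne : u ≠ t)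

include hu1 hu2 hut hne

theorem S_trans_pt (b c : G ⧸ Hs D) (hb : b ≠ ((1 : G) : G ⧸ Hs D))
    (hc : c ≠ ((1 : G) : G ⧸ Hs D)) : ∃ s : G, Commute s t ∧ s • b = c := by
  obtain ⟨z, hz, hz2, rfl⟩ := exists_inv_pt D b hb
  obtain ⟨z', hz', hz'2, rfl⟩ := exists_inv_pt D c hc
  obtain ⟨s, hs, h⟩ := S_trans D hz hz2 hz' hz'2 hu1 hu2 hut hne
  refine ⟨s, hs, ?_⟩
  show ((s * z : G) : G ⧸ Hs D) = _
  rw [eq_comm, QuotientGroup.eq]; exact h

theorem two_trans : MulAction.IsMultiplyPretransitive G (G ⧸ Hs D) 2 := by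
  rw [MulAction.is_two_pretransitive_iff]
  intro a b c d hab hcd
  obtain ⟨x, rfl⟩ := QuotientGroup.mk_surjective a
  obtain ⟨y, rfl⟩ := QuotientGroup.mk_surjective c
  have hx := inv_smul_mk D x
  have hy := inv_smul_mk D y
  obtain ⟨s, hs, hsb⟩ := S_trans_pt D hu1 hu2 hut hne (x⁻¹ • b) (y⁻¹ • d)
    (by rw [← hx]; intro h; exact hab (smul_left_cancel _ h).symm)
    (by rw [← hy]; intro h; exact hcd (smul_left_cancel _ h).symm)
  refine ⟨y * s * x⁻¹, ?_, ?_⟩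
  · rw [mul_smul, hx, mul_smul, (fix_base D).2 (S_le D hs), ← hy, smul_inv_smul]
  · rw [mul_smul, mul_smul, hsb, smul_inv_smul]

omit hu1 hu2 hut hne in
/-- the involutions of the centraliser of `t` are central in it -/
theorem inv_central {z : G} (hz : z ∉ Hs D) (hz2 : z * z = 1) {v s : G} (hv2 : v * v = 1)
    (hvt : Commute v t) (hs : Commute s t) : Commute s v := by
  by_cases hv1 : v = 1
  · rw [hv1]; exact Commute.one_right s
  obtain ⟨h, hh, -, hconj⟩ := Y_trans D hz hz2 hv1 hv2 hvt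
  have h1 := S_norm D ((Hs D).inv_mem hh) hs
  have h2 := (Commute.conj_iff h).2 h1
  rw [hconj] at h2
  have h3 : h * (h⁻¹ * s * h⁻¹⁻¹) * h⁻¹ = s := by group
  rwa [h3] at h2

omit hu1 hu2 hut hne in
/-- the elements of order at most two in the centraliser of `t` -/
def Es {z : G} (hz : z ∉ Hs D) (hz2 : z * z = 1) : Subgroup G where
  carrier := {x | x * x = 1 ∧ Commute x t}
  one_mem' := by simp
  mul_mem' := by
    intro a b ha hb
    refine ⟨?_, ha.2.mul_left hb.2⟩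
    have hc := inv_central D hz hz2 hb.1 hb.2 ha.2
    calc a * b * (a * b) = a * (b * a) * b := by group
      _ = (a * a) * (b * b) := by rw [← hc.eq]; group
      _ = 1 := by rw [ha.1, hb.1, one_mul]
  inv_mem' := by
    intro a ha
    refine ⟨?_, ha.2.inv_left⟩
    rw [← mul_inv_rev, ha.1, inv_one]

omit hu1 hu2 hut hne in
theorem mem_Es {z : G} (hz : z ∉ Hs D) (hz2 : z * z = 1) {x : G} :
    x ∈ Es D hz hz2 ↔ x * x = 1 ∧ Commute x t := Iff.rfl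

omit hu1 hu2 hut hne in
/-- the order of the two point stabiliser -/
theorem card_stab2_add_one {z : G} (hz : z ∉ Hs D) (hz2 : z * z = 1) :
    Nat.card (stab2 G ((1 : G) : G ⧸ Hs D) ((z : G) : G ⧸ Hs D)) + 1 = Nat.card (Es D hz hz2) := by
  rw [← card_sub_one (Es D hz hz2) 1]
  congr 1
  have hmem : ∀ h : G, h ∈ stab2 G ((1 : G) : G ⧸ Hs D) ((z : G) : G ⧸ Hs D) ↔
      h ∈ Hs D ∧ z * h * z⁻¹ ∈ Hs D := by
    intro h
    rw [mem_stab2, fix_base, fix_inv D hz2]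
  let φ : stab2 G ((1 : G) : G ⧸ Hs D) ((z : G) : G ⧸ Hs D) → {c : Es D hz hz2 // c ≠ 1} := fun h =>
    ⟨⟨h.1 * t * h.1⁻¹, conj_t_sq D h.1, ((hmem h.1).1 h.2).1⟩, fun hc =>
      conj_t_ne D h.1 (congrArg Subtype.val hc)⟩
  apply Nat.card_congr
  refine Equiv.ofBijective φ ⟨?_, ?_⟩
  · intro h h' hh
    have h1 : h.1 * t * h.1⁻¹ = h'.1 * t * h'.1⁻¹ :=
      congrArg (fun x : {c : Es D hz hz2 // c ≠ 1} => (x.1.1 : G)) hh
    have h2 : Commute (h'.1⁻¹ * h.1) t := inv_mul_comm_of_conj_eq D h1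
    have h3 : z * (h'.1⁻¹ * h.1) * z⁻¹ ∈ Hs D := by
      rw [← conj_mul, ← conj_inv]
      exact (Hs D).mul_mem ((Hs D).inv_mem ((hmem h'.1).1 h'.2).2) ((hmem h.1).1 h.2).2
    have h4 := Y_inf_S D hz hz2 h2 h3
    exact Subtype.ext (inv_mul_eq_one.1 h4).symm
  · rintro ⟨⟨x, hx2, hxt⟩, hx1⟩
    have hx1' : x ≠ 1 := fun h => hx1 (Subtype.ext h)
    obtain ⟨h, hh, hinv, hconj⟩ := Y_trans D hz hz2 hx1' hx2 hxt
    refine ⟨⟨h, (hmem h).2 ⟨hh, by rw [hinv]; exact (Hs D).inv_mem hh⟩⟩, ?_⟩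
    apply Subtype.ext
    apply Subtype.ext
    exact hconj

/-- the number of points -/
theorem card_pts {z : G} (hz : z ∉ Hs D) (hz2 : z * z = 1) :
    Nat.card (G ⧸ Hs D) = Nat.card (Subgroup.centralizer ({t} : Set G)) + 1 := by
  rw [← card_sub_one (G ⧸ Hs D) ((1 : G) : G ⧸ Hs D)]
  congr 1
  have hzb : ((z : G) : G ⧸ Hs D) ≠ ((1 : G) : G ⧸ Hs D) := by
    intro h
    apply hz
    rw [eq_comm, QuotientGroup.eq] at h
    simpa using h
  have hS : ∀ s : Subgroup.centralizer ({t} : Set G), Commute s.1 t := fun s =>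
    Subgroup.mem_centralizer_singleton_iff.1 s.2
  let φ : Subgroup.centralizer ({t} : Set G) → {c : G ⧸ Hs D // c ≠ ((1 : G) : G ⧸ Hs D)} :=
    fun s => ⟨s.1 • ((z : G) : G ⧸ Hs D), by
      intro h
      apply hzb
      rw [← (fix_base D).2 (S_le D (hS s))] at h
      exact smul_left_cancel _ h⟩
  symm
  apply Nat.card_congr
  refine Equiv.ofBijective φ ⟨?_, ?_⟩
  · intro s s' hss
    have h1 : s.1 • ((z : G) : G ⧸ Hs D) = s'.1 • ((z : G) : G ⧸ Hs D) := congrArg Subtype.val hss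
    have h2 : (s'.1⁻¹ * s.1) • ((z : G) : G ⧸ Hs D) = ((z : G) : G ⧸ Hs D) := by
      rw [mul_smul, h1, inv_smul_smul]
    by_contra hne'
    have h3 : s'.1⁻¹ * s.1 ≠ 1 := fun h => hne' (Subtype.ext (inv_mul_eq_one.1 h).symm)
    exact hzb (S_free D ((hS s').inv_left.mul_left (hS s)) h3 _ h2)
  · rintro ⟨c, hc⟩
    obtain ⟨s, hs, hsc⟩ := S_trans_pt D hu1 hu2 hut hne _ c hzb hc
    exact ⟨⟨s, Subgroup.mem_centralizer_singleton_iff.2 hs⟩, Subtype.ext hsc⟩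

end Cfsg.Agent.Helper16Ti
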