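import Cfsg.Agent.Lib.Helper17AschUSub

set_option autoImplicit false

/-! ASCH-U: tensor products of unitary planes lie in subfield groups of index two. -/

namespace Cfsg.Agent.Lib.Helper17AschUTwo

open Cfsg Cfsg.Geo Matrix Cfsg.Agent.Lib.Helper97AschBase Cfsg.Agent.Lib.Helper97AschForms
  Cfsg.Agent.Lib.Helper97UBase Cfsg.Agent.Lib.Helper97AschSubfield
  Cfsg.Agent.Lib.Helper17AschUDescent Cfsg.Agent.Lib.Helper17AschTens Cfsg.Agent.Lib.Helper17AschWreath2
open scoped MatrixGroups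

variable {F : Type*} [Field F] {σ : F ≃+* F}

/-- the key computation in dimension two -/
lemma two_by_two (G : Matrix (Fin 2) (Fin 2) F) (hdet : IsUnit G.det)
    (hG : ∀ a b, σ (G a b) = G b a) :
    (G⁻¹ * J2).map σ * (G⁻¹ * J2) = (-(G.det)⁻¹) • (1 : Matrix (Fin 2) (Fin 2) F) := by
  have hd : G.det ≠ 0 := hdet.ne_zero
  have hd' : G 0 0 * G 1 1 - G 0 1 * G 1 0 ≠ 0 := by rwa [Matrix.det_fin_two] at hd
  have hσd : σ (G 0 0 * G 1 1 - G 0 1 * G 1 0) = G 0 0 * G 1 1 - G 0 1 * G 1 0 := by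
    simp only [map_sub, map_mul, hG]; ring
  rw [Matrix.inv_def, Matrix.adjugate_fin_two, Ring.inverse_eq_inv', Matrix.det_fin_two]
  ext i j
  fin_cases i <;> fin_cases j <;>
    simp [J2, Matrix.mul_apply, Fin.sum_univ_two, hG, hσd, map_inv₀] <;> field_simp <;> ring

variable {n k : ℕ} {f : (Fin n → F) → (Fin n → F) → F}

lemma map_mulVec (M : Matrix (Fin k → Fin 2) (Fin k → Fin 2) F) (w : (Fin k → Fin 2) → F) :
    (fun a => σ ((M *ᵥ w) a)) = (M.map σ) *ᵥ (fun a => σ (w a)) := by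
  ext a
  simp [Matrix.mulVec, dotProduct, map_sum, map_mul]

lemma pt_map (A : Fin k → Matrix (Fin 2) (Fin 2) F) : (pt A).map σ = pt (fun i => (A i).map σ) := by
  ext a b
  simp [pt_apply, map_prod]

lemma TT_S (e : Fin n ≃ (Fin k → Fin 2)) (P : GL (Fin n) F) (x : (Fin k → Fin 2) → F) :
    TT e P ((P : Matrix (Fin n) (Fin n) F) *ᵥ (x ∘ e)) = x := by
  simp only [TT]
  rw [mulVec_mulVec, ← Units.val_mul, inv_mul_cancel, Units.val_one, one_mulVec]
  funext a
  simp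

lemma S_TT (e : Fin n ≃ (Fin k → Fin 2)) (P : GL (Fin n) F) (u : Fin n → F) :
    (P : Matrix (Fin n) (Fin n) F) *ᵥ ((TT e P u) ∘ e) = u := by
  have : (TT e P u) ∘ e = ((P⁻¹ : GL (Fin n) F) : Matrix (Fin n) (Fin n) F) *ᵥ u := by
    funext i
    simp [TT]
  rw [this, mulVec_mulVec, ← Units.val_mul, mul_inv_cancel, Units.val_one, one_mulVec]

/-- **tensor products of unitary planes**: if `f` is (a multiple of) the tensor product of `k` hermitian
forms `G i` on the plane, a subgroup of the unitary group inside the tensor wreath subgroup lies in a subfield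
group of index two. -/
theorem wreath_two_u [Fintype F] (hf : IsUnitaryForm σ f) {q : ℕ} (hq : Fintype.card F = q ^ 2)
    (hσq : ∀ a, σ a = a ^ q) (hn : 2 ≤ n) {H : Subgroup (GL (Fin n) F)} (hH : H ≤ Iso f)
    (hirr : ActsIrreducibly (matrixSet H)) (e : Fin n ≃ (Fin k → Fin 2)) (P : GL (Fin n) F)
    (hle : H ≤ tensorWreathSubgroup 2 k e P)
    (G : Fin k → Matrix (Fin 2) (Fin 2) F) (hGu : ∀ i, IsUnit (G i).det)
    (hGh : ∀ i a b, σ (G i a b) = G i b a) {c : F}
    (hG : ∀ x y : (Fin k → Fin 2) → F,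
      f ((P : Matrix (Fin n) (Fin n) F) *ᵥ (x ∘ e)) ((P : Matrix (Fin n) (Fin n) F) *ᵥ (y ∘ e)) =
        c * ∑ a, ∑ b, x a * (∏ i, G i (a i) (b i)) * σ (y b)) :
    SubfieldTwoAlt q f H := by
  have hs := sesq_of_unitary hf
  -- the form in coordinates
  have hf' : ∀ u v, f u v = c * fM (pt G) (TT e P u) (fun a => σ (TT e P v a)) := by
    intro u v
    have := hG (TT e P u) (TT e P v)
    rw [S_TT, S_TT] at this
    rw [this]
    congr 1
    simp only [fM, dotProduct, mulVec, Finset.mul_sum, pt_apply, mul_assoc]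
  obtain ⟨M₀, hM₀⟩ : ∃ M₀, M₀ = pt (fun i => ((G i)⁻¹ * J2).map σ) := ⟨_, rfl⟩
  have hM₀σ : M₀.map σ = pt (fun i => (G i)⁻¹ * J2) := by
    rw [hM₀, pt_map]
    congr 1
    funext i
    ext a b
    rw [Matrix.map_apply, Matrix.map_apply, hf.involutive]
  obtain ⟨s, hs0, hsM⟩ : ∃ s : F, s ≠ 0 ∧ M₀ * M₀.map σ = s • 1 := by
    refine ⟨∏ i, (-((G i).det)⁻¹), ?_, ?_⟩
    · rw [Finset.prod_ne_zero_iff]
      intro i _
      exact neg_ne_zero.mpr (inv_ne_zero (hGu i).ne_zero)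
    · rw [hM₀σ, hM₀, pt_mul]
      have : (fun i => ((G i)⁻¹ * J2).map σ * ((G i)⁻¹ * J2)) =
          fun i => (-((G i).det)⁻¹) • (1 : Matrix (Fin 2) (Fin 2) F) := by
        funext i
        exact two_by_two (G i) (hGu i) (hGh i)
      rw [this, pt_smul, pt_one]
  have hGM : pt G * M₀.map σ = JJ F k := by
    rw [hM₀σ, pt_mul, JJ]
    congr 1
    funext i
    rw [← mul_assoc, Matrix.mul_nonsing_inv _ (hGu i), one_mul]
  -- the semilinear map
  obtain ⟨J, hJ⟩ : ∃ J : (Fin n → F) → (Fin n → F), ∀ u, J u =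
      (P : Matrix (Fin n) (Fin n) F) *ᵥ ((M₀ *ᵥ (fun a => σ (TT e P u a))) ∘ e) := ⟨_, fun _ => rfl⟩
  have hTJ : ∀ u, TT e P (J u) = M₀ *ᵥ (fun a => σ (TT e P u a)) := by
    intro u
    rw [hJ, TT_S]
  have hinj : ∀ u v, TT e P u = TT e P v → u = v := by
    intro u v h
    rw [← S_TT e P u, ← S_TT e P v, h]
  have hadd : ∀ u v, J (u + v) = J u + J v := by
    intro u v
    apply hinj
    rw [TT_add, hTJ, hTJ, hTJ, TT_add, ← mulVec_add]
    congr 1
    funext a
    simp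
  have hsmul : ∀ (a : F) v, J (a • v) = σ a • J v := by
    intro a v
    apply hinj
    rw [TT_smul, hTJ, hTJ, TT_smul, ← mulVec_smul]
    congr 1
    funext b
    simp
  have hJJ : ∀ v, J (J v) = s • v := by
    intro v
    apply hinj
    rw [hTJ, hTJ, map_mulVec, mulVec_mulVec, hsM, TT_smul, smul_mulVec, one_mulVec]
    congr 1
    funext a
    simp [hf.involutive]
  -- the bilinear form
  have hb : ∀ u v, f u (J v) = c * fM (JJ F k) (TT e P u) (TT e P v) := by
    intro u v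
    rw [hf', hTJ, map_mulVec]
    congr 1
    simp only [fM]
    rw [mulVec_mulVec, hGM]
    congr 2
    funext a
    simp [hf.involutive]
  have hbs : ∀ u v, fM (JJ F k) (TT e P u) (TT e P v) = (-1 : F) ^ k * fM (JJ F k) (TT e P v) (TT e P u) := by
    intro u v
    rw [fM_swap, JJ_transpose, fM_smul]
  have hJf : ∀ u v, f (J u) (J v) = ((-1 : F) ^ k * σ s) * σ (f u v) := by
    intro u v
    rw [hb, hbs, ← mul_assoc, mul_comm c, mul_assoc, ← hb, hJJ, hs.smul_right, ← hf.herm]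
    ring
  refine descent hf hq hσq hn hH hirr J hadd hsmul hs0 hJJ hJf ?_
  intro h hh
  obtain ⟨l, hl⟩ := exists_of_mem e P (hle hh)
  refine ⟨σ l, fun v => ?_⟩
  by_contra hne
  have hne' : J ((h : Matrix (Fin n) (Fin n) F) *ᵥ v) - σ (l : F) • ((h : Matrix (Fin n) (Fin n) F) *ᵥ J v) ≠ 0 :=
    sub_ne_zero.mpr hne
  obtain ⟨w, hw⟩ := (hf.nondegenerate _ hne').1
  apply hw
  have hw' : w = (h : Matrix (Fin n) (Fin n) F) *ᵥ (((h⁻¹ : GL (Fin n) F) : Matrix (Fin n) (Fin n) F) *ᵥ w) := by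
    rw [mulVec_mulVec, iv, one_mulVec]
  have hsub : ∀ a b : Fin n → F, f w (a - b) = f w a - f w b := by
    intro a b
    have h1 := hs.add_right w (a - b) b
    rw [sub_add_cancel] at h1
    rw [h1]; ring
  rw [hsub, hs.smul_right, hf.involutive]
  conv_lhs => rw [hw']
  rw [hb, hl, mem_Iso.1 (hH hh), hb]
  ring

end Cfsg.Agent.Lib.Helper17AschUTwo
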