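import Cfsg.Agent.S1404
import Cfsg.Agent.S1461
import Cfsg.Agent.Lib.Helper27BGa

/-!
Bender-Glauberman 10.7 (c), (d), (e), relative to the hypothesis that all proper subgroups have
`p`-length one (B-G 10.6).
-/

set_option autoImplicit false
open Cfsg

namespace Cfsg.Agent.Lib.Helper17BG107

open Subgroup
open Cfsg.Agent.Lib.Helper30Trans
open Cfsg.Agent.Lib.Helper24BG
open Cfsg.Agent.Lib.Helper24BG2
open Cfsg.Agent.Lib.Helper27BGa

universe u
variable {G : Type u} [Group G] [Finite G] {p : ℕ} [Fact p.Prime]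

/-- (c) -/
theorem partC (hG : IsMinSimpleOddOrder G)
    (hpl : ∀ H : Subgroup G, H ≠ ⊤ → PLengthLE p 1 H) (P : Sylow p G)
    (Q : Subgroup G) (x : G) (hQP : Q ≤ (P : Subgroup G)) (hx : cj x Q ≤ (P : Subgroup G)) :
    ∃ y ∈ normalizer ((P : Subgroup G) : Set G), cj x Q = cj y Q := by
  by_cases hQ1 : Q = ⊥
  · subst hQ1
    exact ⟨1, one_mem _, by simp [cj]⟩
  have hP1 : (P : Subgroup G) ≠ ⊥ := by
    intro h
    apply hQ1
    rw [h] at hQP
    exact le_bot_iff.mp hQP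
  have hPt : (P : Subgroup G) ≠ ⊤ := pgroup_ne_top hG P.2
  obtain ⟨M, hM, hNM⟩ := exists_coatom (norm_ne_top hG hP1 hPt)
  have hPM : (P : Subgroup G) ≤ M := le_normalizer.trans hNM
  have hSyl : IsSyl p (P : Subgroup G) M := (isSyl_top P).mono hPM le_top
  have hσ : p ∈ sigma M := mem_sigma_of_isSyl hSyl hP1 hNM
  have hQp : IsPGroup p Q := P.2.to_le hQP
  obtain ⟨m, hm, c, hc, hxmc⟩ :=
    (Cfsg.Agent.S1404.result hG M hM p hσ Q hQp hQ1 (hQP.trans hPM)).1 x (hx.trans hPM)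
  have hsol : Group.IsSolvable M := sol hG hM.1
  have hcq : ∀ q ∈ Q, c * q * c⁻¹ = q := by
    intro q hq
    have := mem_centralizer_iff.mp hc q hq
    rw [← this, mul_inv_cancel_right]
  have hxq : ∀ q ∈ Q, x * q * x⁻¹ = m * q * m⁻¹ := by
    intro q hq
    rw [hxmc]
    have : m * c * q * (m * c)⁻¹ = m * (c * q * c⁻¹) * m⁻¹ := by group
    rw [this, hcq q hq]
  obtain ⟨g, hg, c', hc', hgc⟩ := (Cfsg.Agent.S1461.result (G := M) p (hpl M hM.1) hSyl.toSylow).2.1
    ((Q.subgroupOf M : Subgroup M) : Set M) ⟨m, hm⟩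
    (by
      intro y hy
      exact mem_subgroupOf.mpr (hQP (mem_subgroupOf.mp hy)))
    (by
      rintro _ ⟨y, hy, rfl⟩
      have hyQ : (y : G) ∈ Q := mem_subgroupOf.mp hy
      apply mem_subgroupOf.mpr
      show m * (y : G) * m⁻¹ ∈ (P : Subgroup G)
      rw [← hxq _ hyQ]
      exact hx (conj_mem_cj hyQ))
  have hgN : (g : G) ∈ normalizer ((P : Subgroup G) : Set G) := by
    rw [mem_normalizer_iff] at hg ⊢
    intro h
    constructor
    · intro hh
      exact mem_subgroupOf.mp ((hg ⟨h, hPM hh⟩).mp (mem_subgroupOf.mpr hh))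
    · intro hh
      have hhM : h ∈ M := by
        have h1 : h = (g : G)⁻¹ * ((g : G) * h * (g : G)⁻¹) * (g : G) := by group
        rw [h1]
        exact M.mul_mem (M.mul_mem (M.inv_mem g.2) (hPM hh)) g.2
      exact mem_subgroupOf.mp ((hg ⟨h, hhM⟩).mpr (mem_subgroupOf.mpr hh))
  have hc'q : ∀ q ∈ Q, (c' : G) * q * (c' : G)⁻¹ = q := by
    intro q hq
    have h1 := mem_centralizer_iff.mp hc' ⟨q, hPM (hQP hq)⟩ (mem_subgroupOf.mpr hq)
    have h2 : q * (c' : G) = (c' : G) * q := congrArg Subtype.val h1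
    rw [← h2, mul_inv_cancel_right]
  have hmq : ∀ q ∈ Q, m * q * m⁻¹ = (g : G) * q * (g : G)⁻¹ := by
    intro q hq
    have h1 : m = (g : G) * (c' : G) := (congrArg Subtype.val hgc).symm
    rw [h1]
    have : (g : G) * (c' : G) * q * ((g : G) * (c' : G))⁻¹
        = (g : G) * ((c' : G) * q * (c' : G)⁻¹) * (g : G)⁻¹ := by group
    rw [this, hc'q q hq]
  refine ⟨g, hgN, ?_⟩
  ext z
  constructor
  · rintro ⟨q, hq, rfl⟩
    refine ⟨q, hq, ?_⟩
    show (g : G) * q * (g : G)⁻¹ = x * q * x⁻¹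
    rw [hxq q hq, hmq q hq]
  · rintro ⟨q, hq, rfl⟩
    refine ⟨q, hq, ?_⟩
    show x * q * x⁻¹ = (g : G) * q * (g : G)⁻¹
    rw [hxq q hq, hmq q hq]

/-- (d) -/
theorem partD (hG : IsMinSimpleOddOrder G)
    (hpl : ∀ H : Subgroup G, H ≠ ⊤ → PLengthLE p 1 H) (P : Sylow p G)
    (Q : Subgroup G) (hQP : Q ≤ (P : Subgroup G)) :
    ¬ p ∣ ((P : Subgroup G) ⊓ normalizer (Q : Set G)).relIndex (normalizer (Q : Set G)) := by
  have hQp : IsPGroup p Q := P.2.to_le hQP
  obtain ⟨S, hS, hQS⟩ := exists_isSyl_ge (X := normalizer (Q : Set G)) le_normalizer hQp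
  obtain ⟨x, -, hx⟩ := exists_cj_le (isSyl_top P) hS.2.1 le_top
  obtain ⟨y, hy, hxy⟩ := partC hG hpl P Q x hQP ((cj_mono hQS).trans hx)
  have hw : cj (y⁻¹ * x) Q = Q := by
    rw [cj_mul, hxy, cj_inv_cj]
  have hwN : y⁻¹ * x ∈ normalizer (Q : Set G) := mem_normalizer_of_cj_eq hw
  have h1 : cj (y⁻¹ * x) S ≤ (P : Subgroup G) := by
    rw [cj_mul]
    have h2 : cj y⁻¹ (cj x S) ≤ cj y⁻¹ (P : Subgroup G) := cj_mono hx
    rwa [cj_eq_self_of_mem_normalizer (inv_mem hy)] at h2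
  have h2 : cj (y⁻¹ * x) S ≤ normalizer (Q : Set G) := by
    rintro _ ⟨s, hs, rfl⟩
    exact mul_mem (mul_mem hwN (hS.1 hs)) (inv_mem hwN)
  have h3 : Nat.card S ∣ Nat.card ((P : Subgroup G) ⊓ normalizer (Q : Set G) : Subgroup G) := by
    rw [← card_cj (y⁻¹ * x) S]
    exact card_dvd_of_le (le_inf h1 h2)
  have h4 : Nat.card S = p ^ (Nat.card (normalizer (Q : Set G))).factorization p := by
    rw [← hS.toSylow.card_eq_multiplicity]
    have : Nat.card ((hS.toSylow : Sylow p (normalizer (Q : Set G))) :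
        Subgroup (normalizer (Q : Set G))) = Nat.card (((hS.toSylow : Sylow p (normalizer (Q : Set G))) :
        Subgroup (normalizer (Q : Set G))).map (normalizer (Q : Set G)).subtype) :=
      (card_map_of_injective (subtype_injective _)).symm
    rw [this, hS.map_toSylow]
  intro hdvd
  have h5 := relIndex_mul_relIndex ⊥ ((P : Subgroup G) ⊓ normalizer (Q : Set G))
    (normalizer (Q : Set G)) bot_le inf_le_right
  rw [relIndex_bot_left, relIndex_bot_left] at h5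
  have h6 : p * Nat.card S ∣ Nat.card (normalizer (Q : Set G)) := by
    rw [← h5, mul_comm p]
    exact mul_dvd_mul h3 hdvd
  rw [h4, ← pow_succ'] at h6
  exact Nat.pow_succ_factorization_not_dvd (Nat.card_pos.ne') Fact.out h6

/-- (e) -/
theorem partE (hG : IsMinSimpleOddOrder G)
    (hpl : ∀ H : Subgroup G, H ≠ ⊤ → PLengthLE p 1 H) (P : Sylow p G)
    (R Q : Subgroup G) (hR : IsPGroup p R) (hQ : Q ≤ (P : Subgroup G) ⊓ R)
    (hN : normalizer ((P : Subgroup G) : Set G) ≤ normalizer (Q : Set G)) :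
    normalizer (R : Set G) ≤ normalizer (Q : Set G) := by
  obtain ⟨x, -, hx⟩ := exists_cj_le (isSyl_top P) hR le_top
  have hQP : Q ≤ (P : Subgroup G) := hQ.trans inf_le_left
  have hQR : Q ≤ R := hQ.trans inf_le_right
  have key : ∀ z : G, cj z Q ≤ (P : Subgroup G) → cj z Q = Q := by
    intro z hz
    obtain ⟨y, hy, hzy⟩ := partC hG hpl P Q z hQP hz
    rw [hzy]
    exact cj_eq_self_of_mem_normalizer (hN hy)
  intro n hn
  apply mem_normalizer_of_cj_eq
  have h1 : cj x Q = Q := key x ((cj_mono hQR).trans hx)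
  have h2 : cj (x * n) Q = Q := by
    apply key
    rw [cj_mul]
    have h3 : cj n Q ≤ cj n R := cj_mono hQR
    rw [cj_eq_self_of_mem_normalizer hn] at h3
    exact (cj_mono h3).trans hx
  rw [cj_mul] at h2
  have h4 : cj x⁻¹ (cj x (cj n Q)) = cj x⁻¹ (cj x Q) := by rw [h2, h1]
  rwa [cj_inv_cj, cj_inv_cj] at h4

end Cfsg.Agent.Lib.Helper17BG107
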