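import Cfsg.Agent.Lib.Helper1Coprime
import Cfsg.Agent.Lib.Helper24Fpf
import Cfsg.Agent.Lib.Helper31Nilpotent

/-!
Piece `thompson` of the B-G 3.6 project (helper74): a Frobenius-like group `A R` acting on `Q`.
-/

set_option autoImplicit false
set_option linter.unusedSectionVars false

namespace Cfsg.Agent.Lib.Helper17BG36Thompson

open Subgroup

theorem conj_iterate {G : Type*} [Group G] (y x : G) (k : ℕ) :
    ((MulAut.conj y).toMonoidHom)^[k] x = y ^ k * x * (y ^ k)⁻¹ := by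
  induction k with
  | zero => simp
  | succ n ih =>
    rw [Function.iterate_succ_apply', ih]
    show y * (y ^ n * x * (y ^ n)⁻¹) * y⁻¹ = _
    rw [pow_succ']
    group

/-- `A R` is a Frobenius-like group (`R` of prime order, fixed point free on `A`) acting on `Q` (coprime),
`Z ≤ Q` an invariant subgroup normal in `Q`.  If `C_Q(R) ≤ Z` then `[Q, A] ≤ Z`. -/
theorem comm_le_of_fixed_le {G : Type*} [Group G] [Finite G] {r : ℕ} (hr : r.Prime)
    {Q A R Z : Subgroup G}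
    (hAQ : A ≤ normalizer (Q : Set G)) (hRQ : R ≤ normalizer (Q : Set G))
    (hRA : R ≤ normalizer (A : Set G))
    (hZQ : Z ≤ Q) (hQZ : Q ≤ normalizer (Z : Set G)) (hAZ : A ≤ normalizer (Z : Set G))
    (hRZ : R ≤ normalizer (Z : Set G))
    (hR : Nat.card R = r) (hfpf : ∀ x ∈ R, x ≠ 1 → ∀ a ∈ A, x * a = a * x → a = 1)
    (hQA : (Nat.card Q).Coprime (Nat.card A)) (hQR : (Nat.card Q).Coprime r)
    (hfix : Q ⊓ centralizer (R : Set G) ≤ Z) : ⁅Q, A⁆ ≤ Z := by
  classical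
  have : Fact r.Prime := ⟨hr⟩
  obtain ⟨y, hy⟩ := (isCyclic_of_prime_card hR).exists_generator
  have hy1 : (y : G) ≠ 1 := by
    intro h
    have hy' : y = 1 := Subtype.ext h
    have h1 : ∀ x : R, x = 1 := by
      intro x
      have := hy x
      rw [hy', zpowers_one_eq_bot, mem_bot] at this
      exact this
    have h2 : Nat.card R = 1 := by
      have : Subsingleton R := ⟨fun a b => (h1 a).trans (h1 b).symm⟩
      exact Nat.card_of_subsingleton 1
    rw [hR] at h2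
    exact hr.one_lt.ne' h2
  have hyr : (y : G) ^ r = 1 := by
    have h1 : y ^ Nat.card R = 1 := pow_card_eq_one'
    rw [hR] at h1
    have := congrArg Subtype.val h1
    simpa using this
  have hRpow : ∀ a ∈ R, ∃ k : ℕ, (y : G) ^ k = a := by
    intro a ha
    have h1 := hy ⟨a, ha⟩
    rw [← mem_powers_iff_mem_zpowers] at h1
    obtain ⟨k, hk⟩ := h1
    exact ⟨k, by simpa using congrArg Subtype.val hk⟩
  set T : Subgroup G := Q ⊔ A with hT
  have hQT : Q ≤ T := le_sup_left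
  have hAT : A ≤ T := le_sup_right
  have hTZ : T ≤ normalizer (Z : Set G) := sup_le hQZ hAZ
  have hTmem : ∀ t ∈ T, ∃ g ∈ Q, ∃ a ∈ A, t = g * a := by
    intro t ht
    have h1 : t ∈ ((Q ⊔ A : Subgroup G) : Set G) := ht
    rw [coe_mul_of_right_le_normalizer_left Q A hAQ] at h1
    obtain ⟨g, hg, a, ha, rfl⟩ := h1
    exact ⟨g, hg, a, ha, rfl⟩
  have hyQ : ∀ g ∈ Q, (y : G) * g * (y : G)⁻¹ ∈ Q := fun g hg =>
    (mem_normalizer_iff.mp (hRQ y.2) g).mp hg
  have hyA : ∀ a ∈ A, (y : G) * a * (y : G)⁻¹ ∈ A := fun a ha =>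
    (mem_normalizer_iff.mp (hRA y.2) a).mp ha
  have hyZ : ∀ z ∈ Z, (y : G) * z * (y : G)⁻¹ ∈ Z := fun z hz =>
    (mem_normalizer_iff.mp (hRZ y.2) z).mp hz
  have hyT : ∀ t ∈ T, (MulAut.conj (y : G)).toMonoidHom t ∈ T := by
    intro t ht
    obtain ⟨g, hg, a, ha, rfl⟩ := hTmem t ht
    show (y : G) * (g * a) * (y : G)⁻¹ ∈ T
    have : (y : G) * (g * a) * (y : G)⁻¹ = ((y : G) * g * (y : G)⁻¹) * ((y : G) * a * (y : G)⁻¹) := by
      group
    rw [this]
    exact T.mul_mem (hQT (hyQ g hg)) (hAT (hyA a ha))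
  let φ : T →* T := Cfsg.Agent.Lib.Helper24Fpf.res (MulAut.conj (y : G)).toMonoidHom T hyT
  have hφk : ∀ (k : ℕ) (t : T), ((φ^[k] t : T) : G) = (y : G) ^ k * t * ((y : G) ^ k)⁻¹ := by
    intro k t
    rw [Cfsg.Agent.Lib.Helper24Fpf.res_iterate, conj_iterate]
  have hN : (Z.subgroupOf T).Normal := normal_subgroupOf_of_le_normalizer hTZ
  have hφN : ∀ x ∈ Z.subgroupOf T, φ x ∈ Z.subgroupOf T := by
    intro x hx
    exact mem_subgroupOf.mpr (hyZ _ (mem_subgroupOf.mp hx))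
  have hQAbot : Q ⊓ A = ⊥ := (disjoint_of_coprime_natCard hQA).eq_bot
  have hFP : Cfsg.Agent.Lib.Helper24Fpf.FP r (Cfsg.Agent.Lib.Helper24Fpf.quo φ (Z.subgroupOf T) hφN) := by
    refine ⟨fun x hx => ?_, fun x => ?_⟩
    · obtain ⟨t, rfl⟩ := QuotientGroup.mk_surjective x
      have hk : ∀ k : ℕ, (Cfsg.Agent.Lib.Helper24Fpf.quo φ (Z.subgroupOf T) hφN)^[k]
          (t : T ⧸ Z.subgroupOf T) = (t : T ⧸ Z.subgroupOf T) := by
        intro k
        exact Function.iterate_fixed hx k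
      have hk2 : ∀ k : ℕ, (t : G)⁻¹ * ((y : G) ^ k * t * ((y : G) ^ k)⁻¹) ∈ Z := by
        intro k
        have h1 := hk k
        rw [Cfsg.Agent.Lib.Helper24Fpf.quo_iterate] at h1
        have h2 := (QuotientGroup.eq.mp h1.symm)
        have h3 := mem_subgroupOf.mp h2
        rw [coe_mul, coe_inv, hφk] at h3
        exact h3
      have htN : (t : G) ∈ normalizer (Z : Set G) := hTZ t.2
      have hinv : ∀ a ∈ R, a * (t : G) * a⁻¹ * (t : G)⁻¹ ∈ Z := by
        intro a ha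
        obtain ⟨k, rfl⟩ := hRpow a ha
        have h1 := (mem_normalizer_iff.mp htN _).mp (hk2 k)
        have h2 : (t : G) * ((t : G)⁻¹ * ((y : G) ^ k * t * ((y : G) ^ k)⁻¹)) * (t : G)⁻¹
            = (y : G) ^ k * (t : G) * ((y : G) ^ k)⁻¹ * (t : G)⁻¹ := by group
        rwa [h2] at h1
      have hcop : (Nat.card R).Coprime (Nat.card Z) := by
        rw [hR]
        exact (Nat.Coprime.coprime_dvd_left (card_dvd_of_le hZQ) hQR).symm
      have hsol : Group.IsSolvable R := by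
        have := isCyclic_of_prime_card hR
        have : IsMulCommutative R := ⟨⟨fun a b => IsCyclic.commGroup.mul_comm a b⟩⟩
        infer_instance
      obtain ⟨u, hu, hut⟩ := Cfsg.Agent.Lib.Helper1Coprime.exists_mul_mem_centralizer hRZ hcop
        (Or.inl hsol) (t : G) hinv
      have hutT : u * (t : G) ∈ T := T.mul_mem (hQT (hZQ hu)) t.2
      obtain ⟨g, hg, a, ha, hga⟩ := hTmem _ hutT
      have hcomm : (y : G) * (g * a) = (g * a) * (y : G) := by
        rw [← hga]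
        exact (mem_centralizer_iff.mp hut (y : G) y.2)
      have h1 : g⁻¹ * ((y : G) * g * (y : G)⁻¹) = a * ((y : G) * a * (y : G)⁻¹)⁻¹ := by
        have h2 : (y : G) * g * (y : G)⁻¹ * ((y : G) * a * (y : G)⁻¹) = g * a := by
          calc (y : G) * g * (y : G)⁻¹ * ((y : G) * a * (y : G)⁻¹)
              = ((y : G) * (g * a)) * (y : G)⁻¹ := by group
            _ = g * a := by rw [hcomm]; group
        have h3 : (y : G) * g * (y : G)⁻¹ = g * a * ((y : G) * a * (y : G)⁻¹)⁻¹ := by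
          rw [← h2]; group
        rw [h3]; group
      have h4 : a * ((y : G) * a * (y : G)⁻¹)⁻¹ ∈ Q ⊓ A := by
        refine ⟨?_, A.mul_mem ha (A.inv_mem (hyA a ha))⟩
        rw [← h1]
        exact Q.mul_mem (Q.inv_mem hg) (hyQ g hg)
      rw [hQAbot, mem_bot] at h4
      have h5 : (y : G) * a = a * (y : G) := by
        have h6 : a = (y : G) * a * (y : G)⁻¹ := mul_inv_eq_one.mp h4
        calc (y : G) * a = ((y : G) * a * (y : G)⁻¹) * (y : G) := by group
          _ = a * (y : G) := by rw [← h6]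
      have ha1 : a = 1 := hfpf y y.2 hy1 a ha h5
      rw [ha1, mul_one] at hga
      have h7 : u * (t : G) ∈ Z := hfix ⟨hga ▸ hg, hut⟩
      have h8 : (t : G) ∈ Z := by
        have : (t : G) = u⁻¹ * (u * (t : G)) := by group
        rw [this]
        exact Z.mul_mem (Z.inv_mem hu) h7
      exact (QuotientGroup.eq_one_iff t).mpr (mem_subgroupOf.mpr h8)
    · obtain ⟨t, rfl⟩ := QuotientGroup.mk_surjective x
      rw [Cfsg.Agent.Lib.Helper24Fpf.quo_iterate]
      congr 1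
      apply Subtype.ext
      rw [hφk, hyr]
      simp
  have hnil : Group.IsNilpotent (T ⧸ Z.subgroupOf T) :=
    Cfsg.Agent.Lib.Helper24Fpf.nilpotent_of_fp hr _ hFP
  rw [commutator_le]
  intro g hg a ha
  have hog : orderOf (QuotientGroup.mk' (Z.subgroupOf T) ⟨g, hQT hg⟩) ∣ Nat.card Q := by
    refine (orderOf_map_dvd _ _).trans ?_
    have h1 : orderOf (⟨g, hQT hg⟩ : T) = orderOf (⟨g, hg⟩ : Q) := by
      rw [orderOf_mk, orderOf_mk]
    rw [h1]
    exact orderOf_dvd_natCard _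
  have hoa : orderOf (QuotientGroup.mk' (Z.subgroupOf T) ⟨a, hAT ha⟩) ∣ Nat.card A := by
    refine (orderOf_map_dvd _ _).trans ?_
    have h1 : orderOf (⟨a, hAT ha⟩ : T) = orderOf (⟨a, ha⟩ : A) := by
      rw [orderOf_mk, orderOf_mk]
    rw [h1]
    exact orderOf_dvd_natCard _
  have hc := Cfsg.Agent.Lib.Helper31Nilpotent.coprime_commute (T ⧸ Z.subgroupOf T) _ _
    (Nat.Coprime.coprime_dvd_left hog (Nat.Coprime.coprime_dvd_right hoa hQA))
  have h1 : QuotientGroup.mk' (Z.subgroupOf T)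
      ((⟨g, hQT hg⟩ : T) * (⟨a, hAT ha⟩ : T) * (⟨g, hQT hg⟩ : T)⁻¹ * (⟨a, hAT ha⟩ : T)⁻¹) = 1 := by
    rw [map_mul, map_mul, map_mul, map_inv, map_inv, hc]
    group
  have h2 := (QuotientGroup.eq_one_iff _).mp h1
  exact mem_subgroupOf.mp h2

end Cfsg.Agent.Lib.Helper17BG36Thompson
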