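import Mathlib
import Cfsg.Prelude.Def_Transfer

/-!
# Vocabulary for PROJECT 5188 (row S5188: essential subgroups of order `p ^ 4`)

`AInv A` : the subgroup `A` is invariant under all automorphisms.
`HasChain p P` : `P` (of order `p ^ 4`) has a chain of invariant subgroups of orders `p`, `p ^ 2`, `p ^ 3`.
`C2 p P` : the basic facts on a group of order `p ^ 4` whose centre has order `p ^ 2`.
-/

set_option autoImplicit false

namespace Cfsg.Agent.Lib.Helper17E4Defs

open scoped commutatorElement

variable {P : Type*} [Group P]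

/-- `A` is invariant under all automorphisms of `P` -/
def AInv (A : Subgroup P) : Prop := ∀ γ : MulAut P, ∀ x ∈ A, γ x ∈ A

/-- a chain of automorphism invariant subgroups of orders `p`, `p ^ 2`, `p ^ 3` -/
def HasChain (p : ℕ) (P : Type*) [Group P] : Prop :=
  ∃ A₁ A₂ A₃ : Subgroup P, A₁ ≤ A₂ ∧ A₂ ≤ A₃ ∧ Nat.card A₁ = p ∧ Nat.card A₂ = p ^ 2 ∧
    Nat.card A₃ = p ^ 3 ∧ AInv A₁ ∧ AInv A₂ ∧ AInv A₃

theorem inv_center : AInv (Subgroup.center P) := by
  intro γ x hx
  rw [Subgroup.mem_center_iff] at hx ⊢
  intro g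
  have := congrArg γ (hx (γ.symm g))
  simpa using this

theorem inv_commutator : AInv (commutator P) := by
  intro γ x hx
  have h : (commutator P).map (γ : P ≃* P).toMonoidHom ≤ commutator P := by
    rw [commutator_def, Subgroup.map_commutator]
    exact Subgroup.commutator_mono le_top le_top
  exact h ⟨x, hx, rfl⟩

/-- the kernel of a homomorphism given by an automorphism-equivariant formula is invariant -/
theorem inv_ker {Q : Type*} [Group Q] (φ : P →* Q)
    (h : ∀ (γ : MulAut P) (x : P), φ x = 1 → φ (γ x) = 1) : AInv φ.ker := by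
  intro γ x hx
  exact h γ x hx

/-- the centraliser of an invariant subgroup is invariant -/
theorem inv_centralizer {A : Subgroup P} (hA : AInv A) : AInv (Subgroup.centralizer (A : Set P)) := by
  intro γ x hx
  rw [Subgroup.mem_centralizer_iff] at hx ⊢
  intro a ha
  have h1 := hx (γ.symm a) (hA γ.symm a ha)
  have := congrArg γ h1
  simpa using this

/-- basic facts on a group of order `p ^ 4` with centre of order `p ^ 2` -/
structure C2 (p : ℕ) (P : Type*) [Group P] : Prop where
  card : Nat.card P = p ^ 4
  cardZ : Nat.card (Subgroup.center P) = p ^ 2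
  pow_mem : ∀ g : P, g ^ p ∈ Subgroup.center P
  comm_mem : ∀ g h : P, ⁅g, h⁆ ∈ Subgroup.center P
  comm_pow : ∀ g h : P, ⁅g, h⁆ ^ p = 1
  cardD : Nat.card (commutator P) = p
  D_le : commutator P ≤ Subgroup.center P

end Cfsg.Agent.Lib.Helper17E4Defs
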