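import Cfsg.Agent.Lib.Helper17Herm
import Cfsg.Agent.Lib.Helper95SpSL

set_option autoImplicit false

namespace Cfsg.Agent.Lib.Helper95Herm

open Module Cfsg.Agent.Lib.Helper95Sp Cfsg.Agent.Lib.Helper95SpSL

variable {K V : Type*} [Field K] [AddCommGroup V] [Module K V]

/-- a non-degenerate Hermitian form, as a function -/
structure Herm (σ : K →+* K) (f : V → V → K) : Prop where
  ne_id : σ ≠ RingHom.id K
  invol : ∀ a, σ (σ a) = a
  add_left : ∀ x y v, f (x + y) v = f x v + f y v
  smul_left : ∀ (c : K) (x v : V), f (c • x) v = c * f x v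
  herm : ∀ v w, f v w = σ (f w v)
  nondeg : ∀ v, v ≠ 0 → ∃ x, f x v ≠ 0

section Pcalc

variable {M : Subgroup (V ≃ₗ[K] V)}

lemma P_of_eq {a : V} {ℓ : Dual K V} (e : V ≃ₗ[K] V) (he : e ∈ M) (h0 : ℓ a = 0)
    (h : ∀ x, e x = x + ℓ x • a) : P M a ℓ := by
  refine ⟨h0, ?_⟩
  have : LinearEquiv.transvection h0 = e := by
    ext x
    simp [LinearMap.transvection.apply, h]
  rw [this]
  exact he

lemma P_exists_eq {a : V} {ℓ : Dual K V} (h : P M a ℓ) :
    ∃ e ∈ M, ∀ x, e x = x + ℓ x • a := by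
  obtain ⟨h0, h1⟩ := h
  exact ⟨_, h1, fun x => by simp [LinearMap.transvection.apply]⟩

lemma P_app_zero {a : V} {ℓ : Dual K V} (h : P M a ℓ) : ℓ a = 0 := h.1

lemma P_zero_right (a : V) : P M a 0 :=
  P_of_eq 1 M.one_mem (by simp) (fun x => by simp)

lemma P_sub {a : V} {ℓ ℓ' : Dual K V} (h : P M a ℓ) (h' : P M a ℓ') : P M a (ℓ - ℓ') := by
  rw [sub_eq_add_neg]
  exact P_add h (P_neg h')

lemma P_add_left {a a' : V} {ℓ : Dual K V} (h : P M a ℓ) (h' : P M a' ℓ) : P M (a + a') ℓ := by
  obtain ⟨e, he, h1⟩ := P_exists_eq h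
  obtain ⟨e', he', h1'⟩ := P_exists_eq h'
  refine P_of_eq (e * e') (M.mul_mem he he') (by simp [P_app_zero h, P_app_zero h']) fun x => ?_
  rw [LinearEquiv.mul_apply, h1', h1, map_add, map_smul, P_app_zero h']
  module

lemma P_smul_iff (c : K) (a : V) (ℓ : Dual K V) : P M (c • a) ℓ ↔ P M a (c • ℓ) := by
  constructor
  · intro h
    obtain ⟨e, he, h1⟩ := P_exists_eq h
    refine P_of_eq e he (by simpa using P_app_zero h) fun x => ?_
    rw [h1, LinearMap.smul_apply, smul_eq_mul, smul_smul, mul_comm]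
  · intro h
    obtain ⟨e, he, h1⟩ := P_exists_eq h
    refine P_of_eq e he (by simpa using P_app_zero h) fun x => ?_
    rw [h1, LinearMap.smul_apply, smul_eq_mul, smul_smul, mul_comm]

/-- commutator formula -/
lemma P_comm {b c : V} {ψ χ : Dual K V} (hb : P M b ψ) (hc : P M c χ) (h : ψ c = 0) :
    P M c (χ b • ψ) := by
  obtain ⟨e1, he1, h1⟩ := P_exists_eq hb
  obtain ⟨e2, he2, h2⟩ := P_exists_eq (P_neg hb)
  obtain ⟨e3, he3, h3⟩ := P_exists_eq hc
  obtain ⟨e4, he4, h4⟩ := P_exists_eq (P_neg hc)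
  refine P_of_eq (e2 * e3 * e1 * e4) (M.mul_mem (M.mul_mem (M.mul_mem he2 he3) he1) he4)
    (by simp [h]) fun x => ?_
  simp only [LinearEquiv.mul_apply, h1, h2, h3, h4, map_add, map_smul, smul_eq_mul, h, P_app_zero hb,
    P_app_zero hc, LinearMap.neg_apply, LinearMap.smul_apply, mul_zero, add_zero, neg_zero]
  module

/-- the set of centres all of whose transvections lie in `M` -/
def Cen (M : Subgroup (V ≃ₗ[K] V)) : Set V := {a | ∀ ℓ : Dual K V, ℓ a = 0 → P M a ℓ}

lemma Cen_map {a : V} (ha : a ∈ Cen M) (e : V ≃ₗ[K] V) (he : e ∈ M) : e a ∈ Cen M := by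
  intro ℓ hℓ
  have h1 := P_conj e he (ha (ℓ ∘ₗ (e : V →ₗ[K] V)) (by simpa using hℓ))
  have h2 : (ℓ ∘ₗ (e : V →ₗ[K] V)) ∘ₗ ((e⁻¹ : V ≃ₗ[K] V) : V →ₗ[K] V) = ℓ := by
    ext x
    have h4 : e (e⁻¹ x) = x := e.apply_symm_apply x
    simp [h4]
  rwa [h2] at h1

lemma Cen_smul {a : V} (ha : a ∈ Cen M) (c : K) : c • a ∈ Cen M := by
  intro ℓ hℓ
  rw [P_smul_iff]
  exact ha _ (by simpa using hℓ)

lemma dual_smul_of_ker_le (φ ψ : Dual K V) (h : ∀ x, φ x = 0 → ψ x = 0) : ∃ c : K, ψ = c • φ := by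
  by_cases h0 : ∃ x1, φ x1 ≠ 0
  · obtain ⟨x1, hx1⟩ := h0
    refine ⟨ψ x1 / φ x1, ?_⟩
    ext x
    have h1 := h (x - (φ x / φ x1) • x1) (by
      rw [map_sub, map_smul, smul_eq_mul]
      field_simp
      ring)
    rw [map_sub, map_smul, smul_eq_mul, sub_eq_zero] at h1
    rw [h1, LinearMap.smul_apply, smul_eq_mul]
    ring
  · push Not at h0
    refine ⟨0, ?_⟩
    ext x
    simp [h x (h0 x)]

end Pcalc

variable {σ : K →+* K} {f : V → V → K}

namespace Herm

lemma add_right (h : Herm σ f) (v x y : V) : f v (x + y) = f v x + f v y := by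
  rw [h.herm, h.add_left, map_add, ← h.herm, ← h.herm]

lemma smul_right (h : Herm σ f) (c : K) (v x : V) : f v (c • x) = σ c * f v x := by
  rw [h.herm, h.smul_left, map_mul, ← h.herm]

lemma zero_left (h : Herm σ f) (v : V) : f 0 v = 0 := by
  have := h.smul_left 0 0 v
  simpa using this

lemma zero_right (h : Herm σ f) (v : V) : f v 0 = 0 := by
  rw [h.herm, h.zero_left, map_zero]

lemma neg_left (h : Herm σ f) (x v : V) : f (-x) v = - f x v := by
  have := h.smul_left (-1) x v
  simpa using this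

lemma neg_right (h : Herm σ f) (x v : V) : f v (-x) = - f v x := by
  rw [h.herm, h.neg_left, map_neg, ← h.herm]

lemma sub_left (h : Herm σ f) (x y v : V) : f (x - y) v = f x v - f y v := by
  rw [sub_eq_add_neg, h.add_left, h.neg_left, sub_eq_add_neg]

lemma sub_right (h : Herm σ f) (v x y : V) : f v (x - y) = f v x - f v y := by
  rw [sub_eq_add_neg, h.add_right, h.neg_right, sub_eq_add_neg]

lemma self_fix (h : Herm σ f) (v : V) : σ (f v v) = f v v := (h.herm v v).symm

lemma swap_zero (h : Herm σ f) {x y : V} (hxy : f x y = 0) : f y x = 0 := by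
  rw [h.herm, hxy, map_zero]

lemma swap_ne (h : Herm σ f) {x y : V} (hxy : f x y ≠ 0) : f y x ≠ 0 :=
  fun h0 => hxy (h.swap_zero h0)

/-- the functional `x ↦ f x u` -/
def fl (h : Herm σ f) (u : V) : Dual K V where
  toFun x := f x u
  map_add' x y := h.add_left x y u
  map_smul' c x := h.smul_left c x u

@[simp] lemma fl_apply (h : Herm σ f) (u x : V) : h.fl u x = f x u := rfl

lemma fl_add (h : Herm σ f) (u v : V) : h.fl (u + v) = h.fl u + h.fl v := by
  ext x; simp [h.add_right]

lemma fl_smul (h : Herm σ f) (c : K) (u : V) : h.fl (c • u) = σ c • h.fl u := by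
  ext x; simp [h.smul_right]

lemma fl_zero (h : Herm σ f) : h.fl 0 = 0 := by
  ext x; simp [h.zero_right]

lemma fl_neg (h : Herm σ f) (u : V) : h.fl (-u) = - h.fl u := by
  ext x; simp [h.neg_right]

lemma fl_sub (h : Herm σ f) (u v : V) : h.fl (u - v) = h.fl u - h.fl v := by
  ext x; simp [h.sub_right]

lemma fl_injective (h : Herm σ f) : Function.Injective h.fl := by
  intro u v huv
  by_contra hne
  obtain ⟨x, hx⟩ := h.nondeg (u - v) (sub_ne_zero.2 hne)
  apply hx
  rw [h.sub_right]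
  have := congrArg (fun φ : Dual K V => φ x) huv
  simpa [sub_eq_zero] using this

lemma fl_surjective [Finite K] [FiniteDimensional K V] (h : Herm σ f) :
    Function.Surjective h.fl := by
  classical
  have : Finite V := Module.finite_of_finite K
  have : Finite (Dual K V) := Module.finite_of_finite K
  haveI := Fintype.ofFinite V
  haveI := Fintype.ofFinite (Dual K V)
  have hcard : Fintype.card V = Fintype.card (Dual K V) := by
    rw [← Nat.card_eq_fintype_card, ← Nat.card_eq_fintype_card,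
      Module.natCard_eq_pow_finrank (K := K) (V := V),
      Module.natCard_eq_pow_finrank (K := K) (V := Dual K V), Subspace.dual_finrank_eq]
  exact ((Fintype.bijective_iff_injective_and_card _).2 ⟨h.fl_injective, hcard⟩).2

/-- nonzero trace-zero element -/
lemma exists_z (h : Herm σ f) : ∃ z : K, z ≠ 0 ∧ z + σ z = 0 := by
  obtain ⟨a, ha⟩ := Cfsg.Agent.Lib.Helper17Herm.exists_ne_fix σ h.ne_id
  refine ⟨a - σ a, sub_ne_zero.2 (Ne.symm ha), ?_⟩
  rw [map_sub, h.invol]
  ring

lemma trace_surj (h : Herm σ f) (a : K) (ha : σ a = a) : ∃ c, c + σ c = a :=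
  Cfsg.Agent.Lib.Helper17Herm.trace_surj σ h.ne_id h.invol a ha

lemma norm_surj [Finite K] (h : Herm σ f) (a : K) (ha : σ a = a) : ∃ c, c * σ c = a := by
  by_cases h0 : a = 0
  · exact ⟨0, by simp [h0]⟩
  · exact Cfsg.Agent.Lib.Helper17Herm.norm_surj σ h.ne_id h.invol a h0 ha

/-- the orthogonal of a set -/
def perp (h : Herm σ f) (S : Set V) : Submodule K V where
  carrier := {x | ∀ u ∈ S, f x u = 0}
  add_mem' {x y} hx hy u hu := by rw [h.add_left, hx u hu, hy u hu, add_zero]
  zero_mem' u _ := h.zero_left u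
  smul_mem' c x hx u hu := by rw [h.smul_left, hx u hu, mul_zero]

lemma mem_perp (h : Herm σ f) (S : Set V) (x : V) : x ∈ h.perp S ↔ ∀ u ∈ S, f x u = 0 := Iff.rfl

lemma perp_eq (h : Herm σ f) (S : Set V) :
    h.perp S = (Submodule.span K (h.fl '' S)).dualCoannihilator := by
  ext x
  rw [Submodule.mem_dualCoannihilator, mem_perp]
  constructor
  · intro hx φ hφ
    induction hφ using Submodule.span_induction with
    | mem φ hφ =>
      obtain ⟨u, hu, rfl⟩ := hφ
      exact hx u hu
    | zero => simp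
    | add φ ψ _ _ h1 h2 => simp [h1, h2]
    | smul c φ _ h1 => simp [h1]
  · intro hx u hu
    exact hx (h.fl u) (Submodule.subset_span ⟨u, hu, rfl⟩)

lemma finrank_perp_ge [FiniteDimensional K V] (h : Herm σ f) (U : Finset V) :
    finrank K V ≤ finrank K (h.perp (U : Set V)) + U.card := by
  classical
  rw [perp_eq]
  have h1 := Subspace.finrank_add_finrank_dualCoannihilator_eq
    (Submodule.span K (h.fl '' (U : Set V)))
  have h2 : finrank K (Submodule.span K (h.fl '' (U : Set V))) ≤ U.card := by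
    have h3 := finrank_span_finset_le_card (R := K) (U.image h.fl)
    rw [Finset.coe_image] at h3
    exact le_trans h3 Finset.card_image_le
  omega

/-- polarisation -/
lemma polar (h : Herm σ f) (T : Submodule K V) (hT : ∀ x ∈ T, f x x = 0) :
    ∀ x ∈ T, ∀ y ∈ T, f x y = 0 := by
  obtain ⟨a, ha⟩ := Cfsg.Agent.Lib.Helper17Herm.exists_ne_fix σ h.ne_id
  have h1 : ∀ x ∈ T, ∀ y ∈ T, f x y + σ (f x y) = 0 := by
    intro x hx y hy
    have := hT (x + y) (T.add_mem hx hy)
    rw [h.add_left, h.add_right, h.add_right, hT x hx, hT y hy, h.herm y x] at this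
    linear_combination this
  intro x hx y hy
  have h2 := h1 x hx y hy
  have h3 := h1 (a • x) (T.smul_mem a hx) y hy
  rw [h.smul_left, map_mul] at h3
  have h4 : (a - σ a) * f x y = 0 := by linear_combination h3 - σ a * h2
  rcases mul_eq_zero.1 h4 with h5 | h5
  · exact absurd (sub_eq_zero.1 h5).symm ha
  · exact h5

/-- totally isotropic subspaces are small -/
lemma ti_finrank [Finite K] [FiniteDimensional K V] (h : Herm σ f) (T : Submodule K V)
    (hT : ∀ x ∈ T, ∀ y ∈ T, f x y = 0) : 2 * finrank K T ≤ finrank K V := by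
  classical
  have : Finite V := Module.finite_of_finite K
  have : Finite (Dual K V) := Module.finite_of_finite K
  have h1 := Subspace.finrank_add_finrank_dualAnnihilator_eq T
  let φ : T → T.dualAnnihilator := fun y => ⟨h.fl y, by
    rw [Submodule.mem_dualAnnihilator]
    intro x hx
    exact hT x hx y y.2⟩
  have hφ : Function.Injective φ := by
    intro y y' hyy
    apply Subtype.ext
    apply h.fl_injective
    exact congrArg Subtype.val hyy
  have h2 := Nat.card_le_card_of_injective φ hφ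
  rw [Module.natCard_eq_pow_finrank (K := K) (V := T),
    Module.natCard_eq_pow_finrank (K := K) (V := T.dualAnnihilator)] at h2
  have h3 : 1 < Nat.card K := Finite.one_lt_card
  have h4 := (Nat.pow_le_pow_iff_right h3).1 h2
  omega

/-- vectors orthogonal to a small set, of prescribed norm -/
lemma exists_perp [Finite K] [FiniteDimensional K V] (h : Herm σ f) (U : Finset V)
    (hU : 2 * U.card < finrank K V) (d : K) (hd : σ d = d) :
    ∃ y, (∀ u ∈ U, f y u = 0) ∧ f y y = d := by
  set T := h.perp (U : Set V) with hT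
  have h1 : finrank K V ≤ finrank K T + U.card := h.finrank_perp_ge U
  obtain ⟨y0, hy0T, hy0⟩ : ∃ y0 ∈ T, f y0 y0 ≠ 0 := by
    by_contra hcon
    push Not at hcon
    have h2 : 2 * finrank K T ≤ finrank K V := h.ti_finrank T (h.polar T hcon)
    omega
  obtain ⟨c, hc⟩ := h.norm_surj (d / f y0 y0) (by rw [map_div₀, hd, h.self_fix])
  refine ⟨c • y0, fun u hu => ?_, ?_⟩
  · rw [h.smul_left, hy0T u hu, mul_zero]
  · rw [h.smul_left, h.smul_right, ← mul_assoc, hc]
    field_simp

/-- double orthogonal -/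
lemma exists_perp_ne [FiniteDimensional K V] (h : Herm σ f) (S : Set V) (u : V)
    (hu : u ∉ Submodule.span K S) : ∃ x ∈ h.perp S, f x u ≠ 0 := by
  by_contra hcon
  push Not at hcon
  apply hu
  have h1 : h.fl u ∈ (Submodule.span K (h.fl '' S)).dualCoannihilator.dualAnnihilator := by
    rw [Submodule.mem_dualAnnihilator, ← perp_eq]
    intro x hx
    exact hcon x hx
  rw [Subspace.dualCoannihilator_dualAnnihilator_eq] at h1
  have h2 : ∀ φ ∈ Submodule.span K (h.fl '' S), ∃ y ∈ Submodule.span K S, φ = h.fl y := by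
    intro φ hφ
    induction hφ using Submodule.span_induction with
    | mem φ hφ =>
      obtain ⟨s, hs, rfl⟩ := hφ
      exact ⟨s, Submodule.subset_span hs, rfl⟩
    | zero => exact ⟨0, Submodule.zero_mem _, h.fl_zero.symm⟩
    | add φ ψ _ _ h1 h2 =>
      obtain ⟨y1, hy1, rfl⟩ := h1
      obtain ⟨y2, hy2, rfl⟩ := h2
      exact ⟨y1 + y2, Submodule.add_mem _ hy1 hy2, (h.fl_add _ _).symm⟩
    | smul c φ _ h1 =>
      obtain ⟨y1, hy1, rfl⟩ := h1
      exact ⟨σ c • y1, Submodule.smul_mem _ _ hy1, by rw [h.fl_smul, h.invol]⟩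
  obtain ⟨y, hy, hyu⟩ := h2 _ h1
  rw [h.fl_injective hyu]
  exact hy

/-- the main existence lemma: vectors of prescribed norm, orthogonal to a small set `S`, not
orthogonal to `u₁` and `u₂`. -/
lemma exists_iso [Finite K] [FiniteDimensional K V] (h : Herm σ f) (S : Finset V) (u₁ u₂ : V)
    (hS : 2 * (S.card + 3) < finrank K V)
    (h₁ : u₁ ∉ Submodule.span K (S : Set V)) (h₂ : u₂ ∉ Submodule.span K (S : Set V))
    (d : K) (hd : σ d = d) :
    ∃ x, (∀ s ∈ S, f x s = 0) ∧ f x u₁ ≠ 0 ∧ f x u₂ ≠ 0 ∧ f x x = d := by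
  classical
  obtain ⟨x, hxS, hx1, hx2⟩ := exists_both_ne_zero (h.perp (S : Set V)) (h.fl u₁) (h.fl u₂)
    (h.exists_perp_ne _ _ h₁) (h.exists_perp_ne _ _ h₂)
  obtain ⟨w, hw, hww⟩ := h.exists_perp (insert x (insert u₁ (insert u₂ S))) (by
    have h1 := Finset.card_insert_le x (insert u₁ (insert u₂ S))
    have h2 := Finset.card_insert_le u₁ (insert u₂ S)
    have h3 := Finset.card_insert_le u₂ S
    omega) (d - f x x) (by rw [map_sub, hd, h.self_fix])
  have hwx : f w x = 0 := hw x (by simp)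
  refine ⟨x + w, fun s hs => ?_, ?_, ?_, ?_⟩
  · rw [h.add_left, hxS s hs, hw s (by simp [hs]), add_zero]
  · rw [h.add_left, hw u₁ (by simp), add_zero]; exact hx1
  · rw [h.add_left, hw u₂ (by simp), add_zero]; exact hx2
  · rw [h.add_left, h.add_right, h.add_right, hwx, h.swap_zero hwx, hww]
    ring

/-- the unitary transvection `x ↦ x + z * f x v • v` -/
noncomputable def utv (h : Herm σ f) (v : V) (z : K) (hv : f v v = 0) : V ≃ₗ[K] V :=
  LinearEquiv.transvection (f := z • h.fl v) (v := v) (by simp [hv])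

lemma utv_apply (h : Herm σ f) (v : V) (z : K) (hv : f v v = 0) (x : V) :
    h.utv v z hv x = x + (z * f x v) • v := by
  simp [utv, LinearMap.transvection.apply]

lemma utv_isometry (h : Herm σ f) (v : V) (z : K) (hv : f v v = 0) (hz : z + σ z = 0) (x y : V) :
    f (h.utv v z hv x) (h.utv v z hv y) = f x y := by
  rw [utv_apply, utv_apply, h.add_left, h.add_right, h.add_right, h.smul_left, h.smul_left,
    h.smul_right, h.smul_right, hv, map_mul, ← h.herm v y]
  linear_combination (f x v * f v y) * hz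

lemma utv_det [FiniteDimensional K V] (h : Herm σ f) (v : V) (z : K) (hv : f v v = 0) :
    LinearMap.det ((h.utv v z hv : V ≃ₗ[K] V) : V →ₗ[K] V) = 1 := by
  rw [utv, LinearEquiv.transvection.coe_toLinearMap, LinearMap.transvection.det]
  simp [hv]

lemma P_utv (h : Herm σ f) {M : Subgroup (V ≃ₗ[K] V)} (v : V) (z : K) (hv : f v v = 0)
    (hM : h.utv v z hv ∈ M) : P M v (z • h.fl v) := ⟨by simp [hv], hM⟩

end Herm

end Cfsg.Agent.Lib.Helper95Herm
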