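import Mathlib
import Cfsg.Agent.Lib.Helper17HermC
import Cfsg.Agent.Lib.Helper95Herm

set_option autoImplicit false
open Cfsg

namespace Cfsg.Agent.Lib.Helper17Heis

open Matrix Cfsg.Agent.Lib.Helper7Herm Cfsg.Agent.Lib.Helper7GU Cfsg.Agent.Lib.Helper17HermC
  Cfsg.Agent.Lib.Helper95Herm

section Abstract

variable {K V : Type*} [Field K] [AddCommGroup V] [Module K V] {σ : K →+* K} {f : V → V → K}

/-- The Heisenberg-type map `x ↦ x + f(x,v)(u + a v) - f(x,u) v`. -/
def E (f : V → V → K) (v u : V) (a : K) (x : V) : V := x + f x v • (u + a • v) - f x u • v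

theorem f_E (h : Herm σ f) (v u : V) (a : K) (x w : V) :
    f (E f v u a x) w = f x w + f x v * (f u w + a * f v w) - f x u * f v w := by
  unfold E
  rw [h.sub_left, h.add_left, h.smul_left, h.smul_left, h.add_left, h.smul_left]

theorem f_E_right (h : Herm σ f) (v u : V) (a : K) (z y : V) :
    f z (E f v u a y) = f z y + σ (f y v) * (f z u + σ a * f z v) - σ (f y u) * f z v := by
  unfold E
  rw [h.sub_right, h.add_right, h.smul_right, h.smul_right, h.add_right, h.smul_right]

theorem E_isom (h : Herm σ f) (v u : V) (a : K) (hv : f v v = 0) (hu : f u v = 0)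
    (ha : a + σ a + f u u = 0) (x y : V) : f (E f v u a x) (E f v u a y) = f x y := by
  have hvu : f v u = 0 := h.swap_zero hu
  rw [f_E_right h, f_E h, f_E h, f_E h, hv, hu, hvu, h.herm u y, h.herm v y]
  linear_combination (f x v * σ (f y v)) * ha

theorem E_comp (h : Herm σ f) (v u₁ u₂ : V) (a₁ a₂ : K) (hv : f v v = 0) (hu₁ : f u₁ v = 0)
    (hu₂ : f u₂ v = 0) (x : V) :
    E f v u₁ a₁ (E f v u₂ a₂ x) = E f v (u₁ + u₂) (a₁ + a₂ - f u₂ u₁) x := by
  have hvu₁ : f v u₁ = 0 := h.swap_zero hu₁
  have e : ∀ y, E f v u₁ a₁ y = y + f y v • (u₁ + a₁ • v) - f y u₁ • v := fun y => rfl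
  rw [e, f_E h, f_E h, hv, hu₂, hvu₁]
  unfold E
  rw [h.add_right]
  module

theorem T_E (h : Herm σ f) (v u : V) (a c : K) (hv : f v v = 0) (hu : f u v = 0) (x : V) :
    E f v u a x + (c * f (E f v u a x) v) • v = E f v u (a + c) x := by
  rw [f_E h, hv, hu]
  unfold E
  module

theorem exists_beta (h : Herm σ f) (c : K) (hc : c + σ c = 0) : ∃ β : K, σ β - β = c := by
  obtain ⟨z, hz0, hz⟩ := h.exists_z
  have hσz : σ z = -z := by linear_combination hz
  have hσc : σ c = -c := by linear_combination hc
  obtain ⟨d, hd⟩ := h.trace_surj (c / z) (by rw [map_div₀, hσz, hσc, neg_div_neg_eq])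
  refine ⟨-(z * d), ?_⟩
  rw [map_neg, map_mul, hσz]
  have : z * (d + σ d) = c := by rw [hd]; field_simp
  linear_combination this

end Abstract

section Concrete

variable {F : Type*} [Field F] [Fintype F] {q : ℕ} (hF : Fintype.card F = q ^ 2) (n : ℕ)

local notation "H" => Cfsg.hermForm n F q

theorem herm_concrete : Herm (sig hF) (Cfsg.hermForm n F q) where
  ne_id := sig_ne_id hF
  invol := sig_sig hF
  add_left := h_add_left
  smul_left := h_smul_left
  herm v w := by rw [sig_apply, ← h_symm hF]
  nondeg v hv := by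
    by_contra hcon
    push Not at hcon
    apply hv
    apply h_nondeg hF n v
    intro u
    exact h_eq_zero_symm hF _ _ (hcon u)

omit [Fintype F] in
theorem vmv (w z x : Fin n → F) : vecMulVec w (fun j => z j ^ q) *ᵥ x = H x z • w := by
  funext i
  simp only [mulVec, dotProduct, vecMulVec_apply, Pi.smul_apply, smul_eq_mul, Cfsg.hermForm,
    Finset.sum_mul]
  apply Finset.sum_congr rfl
  intro j _
  ring

/-- The matrix of a Heisenberg-type element. -/
def Emat (n q : ℕ) {F : Type*} [Field F] (v u : Fin n → F) (a : F) : Matrix (Fin n) (Fin n) F :=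
  1 + vecMulVec (u + a • v) (fun j => v j ^ q) - vecMulVec v (fun j => u j ^ q)

omit [Fintype F] in
theorem Emat_mulVec (v u : Fin n → F) (a : F) (x : Fin n → F) :
    Emat n q v u a *ᵥ x = E (Cfsg.hermForm n F q) v u a x := by
  unfold Emat E
  rw [sub_mulVec, add_mulVec, one_mulVec, vmv, vmv]

omit [Fintype F] in
theorem unitaryTransvection_mulVec (v : Fin n → F) (c : F) (x : Fin n → F) :
    Cfsg.unitaryTransvection n q v c *ᵥ x = x + (c * H x v) • v := by
  unfold Cfsg.unitaryTransvection
  rw [add_mulVec, one_mulVec, smul_mulVec, vmv, smul_smul]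

omit [Fintype F] in
theorem Emat_det (v u : Fin n → F) (a : F) (hv : H v v = 0) (hu : H u v = 0) (hvu : H v u = 0) :
    (Emat n q v u a).det = 1 := by
  set A : Matrix (Fin n) (Fin 2) F := Matrix.of (fun i k => if k = 0 then (u + a • v) i else - v i)
    with hA
  set B : Matrix (Fin 2) (Fin n) F := Matrix.of (fun k j => if k = 0 then v j ^ q else u j ^ q)
    with hB
  have h1 : Emat n q v u a = 1 + A * B := by
    ext i j
    simp only [Emat, Matrix.sub_apply, Matrix.add_apply, vecMulVec_apply, Matrix.mul_apply,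
      Fin.sum_univ_two, hA, hB, Matrix.of_apply]
    simp
    ring
  have e00 : (B * A) 0 0 = 0 := by
    have : (B * A) 0 0 = H (u + a • v) v := by
      simp only [Matrix.mul_apply, hA, hB, Matrix.of_apply, Cfsg.hermForm]
      apply Finset.sum_congr rfl
      intro i _
      simp
      ring
    rw [this, h_add_left, h_smul_left, hu, hv]
    simp
  have e01 : (B * A) 0 1 = 0 := by
    have : (B * A) 0 1 = - H v v := by
      simp only [Matrix.mul_apply, hA, hB, Matrix.of_apply, Cfsg.hermForm, ← Finset.sum_neg_distrib]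
      apply Finset.sum_congr rfl
      intro i _
      simp
      ring
    rw [this, hv, neg_zero]
  have e11 : (B * A) 1 1 = 0 := by
    have : (B * A) 1 1 = - H v u := by
      simp only [Matrix.mul_apply, hA, hB, Matrix.of_apply, Cfsg.hermForm, ← Finset.sum_neg_distrib]
      apply Finset.sum_congr rfl
      intro i _
      simp
      ring
    rw [this, hvu, neg_zero]
  rw [h1, Matrix.det_one_add_mul_comm, Matrix.det_fin_two]
  simp only [Matrix.add_apply, e00, e01, e11, Matrix.one_apply_eq]
  simp

end Concrete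

end Cfsg.Agent.Lib.Helper17Heis
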