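import Mathlib
import Cfsg.Agent.S0025
import Cfsg.Agent.Lib.Helper76SylowCount

set_option autoImplicit false
set_option linter.style.haveILetI false
set_option linter.unusedSectionVars false

namespace Cfsg.Agent.Lib.Helper63SylowNum

open Subgroup Cfsg.Agent.Lib.Helper76SylowCount

variable {G : Type*} [Group G]

/-- `|D| * |K : D| = |K|` for `D ≤ K`. -/
theorem card_mul_relIndex' (D K : Subgroup G) (h : D ≤ K) :
    Nat.card D * D.relIndex K = Nat.card K := by
  have := Subgroup.relIndex_mul_relIndex ⊥ D K bot_le h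
  rwa [Subgroup.relIndex_bot_left, Subgroup.relIndex_bot_left] at this

/-- fixed point congruence for a `p`-group normalizing a subgroup. -/
theorem card_modEq_card_inf_centralizer [Finite G] {p : ℕ} [Fact p.Prime] (P L : Subgroup G)
    (hP : IsPGroup p P) (hPL : P ≤ normalizer (L : Set G)) :
    Nat.card L ≡ Nat.card (L ⊓ centralizer (P : Set G) : Subgroup G) [MOD p] := by
  letI : MulAction P L :=
    { smul := fun g x => ⟨(g : G) * x * (g : G)⁻¹, ((hPL g.2) x).mp x.2⟩
      one_smul := fun x => by
        apply Subtype.ext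
        change ((1 : P) : G) * x * ((1 : P) : G)⁻¹ = x
        simp
      mul_smul := fun g h x => by
        apply Subtype.ext
        change ((g * h : P) : G) * x * ((g * h : P) : G)⁻¹ = (g : G) * ((h : G) * x * (h : G)⁻¹) * (g : G)⁻¹
        simp [mul_assoc] }
  have h1 := hP.card_modEq_card_fixedPoints L
  have h2 : Nat.card (MulAction.fixedPoints P L) =
      Nat.card (L ⊓ centralizer (P : Set G) : Subgroup G) := by
    refine Nat.card_congr ⟨fun x => ⟨x.1.1, x.1.2, ?_⟩, fun y => ⟨⟨y.1, y.2.1⟩, ?_⟩, ?_, ?_⟩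
    · change (x.1 : G) ∈ centralizer (P : Set G)
      rw [Subgroup.mem_centralizer_iff]
      intro g hg
      have := x.2 ⟨g, hg⟩
      have h3 : g * (x.1 : G) * g⁻¹ = x.1 := congrArg Subtype.val this
      calc g * (x.1 : G) = g * (x.1 : G) * g⁻¹ * g := by group
        _ = x.1 * g := by rw [h3]
    · intro g
      apply Subtype.ext
      change (g : G) * y.1 * (g : G)⁻¹ = y.1
      have := (Subgroup.mem_centralizer_iff.mp y.2.2) g g.2
      rw [this]; group
    · intro x; rfl
    · intro y; rfl
  rwa [h2] at h1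

/-- order of a normal complement to a Sylow subgroup -/
theorem card_eq_index_of_compl [Finite G] {p : ℕ} [Fact p.Prime] (P : Sylow p G) (K : Subgroup G)
    [K.Normal] (hsup : (P : Subgroup G) ⊔ K = ⊤) (hinf : (P : Subgroup G) ⊓ K = ⊥) :
    Nat.card K = (P : Subgroup G).index := by
  have h1 : K.index = Nat.card P := by
    rw [← Subgroup.relIndex_top_right, ← hsup, Subgroup.relIndex_sup_right,
      ← Subgroup.inf_relIndex_left, hinf, Subgroup.relIndex_bot_left]
  have h2 := K.card_mul_index
  have h3 := (P : Subgroup G).card_mul_index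
  rw [h1] at h2
  have h4 : 0 < Nat.card P := Nat.card_pos
  have : Nat.card P * Nat.card K = Nat.card P * (P : Subgroup G).index := by
    rw [mul_comm, h2]; exact h3.symm
  exact Nat.eq_of_mul_eq_mul_left h4 this

/-- **M. Hall**, the `p`-complement case: if `G = PK` with `K` a normal `p`-complement then each
prime-power part of the number of Sylow `p`-subgroups is `1` modulo `p`. -/
theorem pow_factorization_mod [Finite G] {p : ℕ} [Fact p.Prime] (P : Sylow p G) (K : Subgroup G)
    [K.Normal] (hsup : (P : Subgroup G) ⊔ K = ⊤) (hinf : (P : Subgroup G) ⊓ K = ⊥)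
    (l : ℕ) (hl : l.Prime) :
    l ^ (Nat.card (Sylow p G)).factorization l % p = 1 := by
  have hp : p.Prime := Fact.out
  have hp1 : 1 % p = 1 := Nat.mod_eq_of_lt hp.one_lt
  have hmod : Nat.card (Sylow p G) ≡ 1 [MOD p] := card_sylow_modEq_one p G
  by_cases hlp : l = p
  · subst hlp
    have : ¬ l ∣ Nat.card (Sylow l G) := by
      intro hd
      have h0 : Nat.card (Sylow l G) % l = 0 := Nat.mod_eq_zero_of_dvd hd
      have : Nat.card (Sylow l G) % l = 1 % l := hmod
      omega
    rw [Nat.factorization_eq_zero_of_not_dvd this, pow_zero, hp1]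
  haveI : Fact l.Prime := ⟨hl⟩
  set n := Nat.card (Sylow p G) with hn
  set D : Subgroup G := K ⊓ normalizer ((P : Subgroup G) : Set G) with hD
  -- n = |K : D|
  have hq : Nat.card (Sylow p (G ⧸ K)) = 1 := by
    rw [card_sylow_quotient K P]
    have : normalizer ((P : Subgroup G) : Set G) ⊔ K = ⊤ := by
      apply top_le_iff.mp
      rw [← hsup]
      exact sup_le_sup_right Subgroup.le_normalizer K
    rw [this, Subgroup.index_top]
  have hnK : n = D.relIndex K := by
    rw [hn, card_sylow_eq_mul K P, hq, one_mul, hD, inf_comm, Subgroup.inf_relIndex_right]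
  have hcard : Nat.card D * n = Nat.card K := by
    rw [hnK]; exact card_mul_relIndex' D K inf_le_left
  have hKp : ¬ p ∣ Nat.card K := by
    rw [card_eq_index_of_compl P K hsup hinf]
    exact P.not_dvd_index
  -- D centralizes P
  have hDc : D ≤ centralizer ((P : Subgroup G) : Set G) := by
    intro d hd
    rw [Subgroup.mem_centralizer_iff]
    intro x hx
    have h1 : d * x * d⁻¹ * x⁻¹ ∈ (P : Subgroup G) :=
      Subgroup.mul_mem _ ((hd.2 x).mp hx) (Subgroup.inv_mem _ hx)
    have h2 : d * x * d⁻¹ * x⁻¹ ∈ K := by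
      have : d * x * d⁻¹ * x⁻¹ = d * (x * d⁻¹ * x⁻¹) := by group
      rw [this]
      exact Subgroup.mul_mem _ hd.1
        (Subgroup.Normal.conj_mem inferInstance _ (Subgroup.inv_mem _ hd.1) x)
    have h3 : d * x * d⁻¹ * x⁻¹ ∈ (P : Subgroup G) ⊓ K := ⟨h1, h2⟩
    rw [hinf, Subgroup.mem_bot] at h3
    calc x * d = (d * x * d⁻¹ * x⁻¹)⁻¹ * (d * x) := by group
      _ = d * x := by rw [h3]; simp
  obtain ⟨L0⟩ : Nonempty (Sylow l D) := inferInstance
  set U : Subgroup G := (L0 : Subgroup D).map D.subtype with hU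
  have hUD : U ≤ D := Subgroup.map_subtype_le _
  have hUcard : Nat.card U = l ^ (Nat.card D).factorization l := by
    rw [hU, Subgroup.card_subtype, L0.card_eq_multiplicity]
  have hUp : IsPGroup l U := IsPGroup.of_card hUcard
  have hPU : (P : Subgroup G) ≤ normalizer (U : Set G) := by
    intro x hx
    have hc : ∀ u ∈ U, x * u * x⁻¹ = u := by
      intro u hu
      have := (Subgroup.mem_centralizer_iff.mp (hDc (hUD hu))) x hx
      rw [this]; group
    rw [Subgroup.mem_normalizer_iff]
    intro u
    constructor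
    · intro hu; rw [hc u hu]; exact hu
    · intro hu
      have h1 := hc _ hu
      have h2 : u = x * u * x⁻¹ := by
        have : x * (x * u * x⁻¹) * x⁻¹ = x * u * x⁻¹ := h1
        have h3 : x * u * x⁻¹ = u := by
          calc x * u * x⁻¹ = x⁻¹ * (x * (x * u * x⁻¹) * x⁻¹) * x := by group
            _ = x⁻¹ * (x * u * x⁻¹) * x := by rw [this]
            _ = u := by group
        exact h3.symm
      rw [h2]; exact hu
  have hcop : (Nat.card (P : Subgroup G)).Coprime (Nat.card K) := by
    obtain ⟨k, hk⟩ := IsPGroup.iff_card.mp P.isPGroup'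
    rw [hk]
    exact Nat.Coprime.pow_left _ ((Nat.Prime.coprime_iff_not_dvd hp).mpr hKp)
  have hsolv : Group.IsSolvable (P : Subgroup G) := by
    haveI := P.isPGroup'.isNilpotent
    infer_instance
  obtain ⟨L, hUL, hPL⟩ := Cfsg.Agent.S0025.result (P : Subgroup G) K
    Subgroup.le_normalizer_of_normal hcop (Or.inl hsolv) l U (hUD.trans inf_le_left) hUp hPU
  set L1 : Subgroup G := (L : Subgroup K).map K.subtype with hL1
  have hL1K : L1 ≤ K := Subgroup.map_subtype_le _
  have hL1card : Nat.card L1 = l ^ (Nat.card K).factorization l := by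
    rw [hL1, Subgroup.card_subtype, L.card_eq_multiplicity]
  set W : Subgroup G := L1 ⊓ centralizer ((P : Subgroup G) : Set G) with hW
  have hWD : W ≤ D := by
    intro w hw
    refine ⟨hL1K hw.1, ?_⟩
    exact Subgroup.centralizer_le_normalizer _ hw.2
  have hUW : U ≤ W := le_inf hUL (hUD.trans hDc)
  have hWcard : Nat.card W = Nat.card U := by
    have h1 : Nat.card U ∣ Nat.card W := Subgroup.card_dvd_of_le hUW
    have h2 : Nat.card W ∣ Nat.card L1 := Subgroup.card_dvd_of_le inf_le_left
    have h3 : Nat.card W ∣ Nat.card D := Subgroup.card_dvd_of_le hWD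
    rw [hL1card] at h2
    obtain ⟨j, -, hj⟩ := (Nat.dvd_prime_pow hl).mp h2
    have h4 : Nat.card W ∣ Nat.card U := by
      rw [hUcard, hj]
      rw [hj] at h3
      apply pow_dvd_pow
      exact (hl.pow_dvd_iff_le_factorization (Nat.card_pos.ne')).mp h3
    exact Nat.dvd_antisymm h4 h1
  have hcong := card_modEq_card_inf_centralizer (p := p) (P : Subgroup G) L1 P.isPGroup' hPL
  rw [← hW, hWcard, hL1card, hUcard, ← hcard] at hcong
  have hn0 : n ≠ 0 := by
    intro h0; rw [h0, mul_zero] at hcard
    exact (Nat.card_pos (α := K)).ne hcard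
  rw [Nat.factorization_mul Nat.card_pos.ne' hn0, Finsupp.add_apply, pow_add] at hcong
  have hcop2 : (p).gcd (l ^ (Nat.card D).factorization l) = 1 := by
    apply Nat.Coprime.pow_right
    exact (Nat.coprime_primes hp hl).mpr (Ne.symm hlp)
  have h5 : l ^ (Nat.card D).factorization l * l ^ n.factorization l ≡
      l ^ (Nat.card D).factorization l * 1 [MOD p] := by rwa [mul_one]
  have h6 := Nat.ModEq.cancel_left_of_coprime hcop2 h5
  have h7 : l ^ n.factorization l % p = 1 % p := h6
  rw [h7, hp1]

end Cfsg.Agent.Lib.Helper63SylowNum
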