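import Mathlib
import Cfsg.Agent.S4303

set_option autoImplicit false
set_option linter.style.haveILetI false
set_option linter.unusedSectionVars false

namespace Cfsg.Agent.Lib.Helper63SylowNum2

open Subgroup

universe u

/-- Reduction of `n_p ≠ n` to simple groups (via M. Hall's theorem S4303). -/
theorem exists_simple (p n : ℕ) [Fact p.Prime] (hn : ∀ d, d ∣ n → d % p = 1 → d = 1 ∨ d = n)
    (hpp : ¬ IsPrimePow n) (hn1 : n ≠ 1) {G : Type u} [Group G] [Finite G]
    (h : Nat.card (Sylow p G) = n) :
    ∃ (S : Type u) (_ : Group S) (_ : Finite S), IsSimpleGroup S ∧ Nat.card (Sylow p S) = n := by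
  have hp : p.Prime := Fact.out
  obtain ⟨l, hl, hl'⟩ := Cfsg.Agent.S4303.result (G := G) p
  rw [h] at hl
  by_cases hall : ∀ m ∈ l, m = 1
  · exact absurd (hl.symm.trans (List.prod_eq_one hall)) hn1
  push Not at hall
  obtain ⟨m, hm, hm1⟩ := hall
  have hdvd : m ∣ n := hl ▸ List.dvd_prod hm
  rcases hl' m hm with ⟨h1, h2⟩ | ⟨S, i1, i2, h1, h2⟩
  · rcases hn m hdvd h2 with h3 | h3
    · exact absurd h3 hm1
    · exact absurd (h3 ▸ h1) hpp
  · have h3 : m % p = 1 := by
      rw [h2]
      have : Nat.card (Sylow p S) % p = 1 % p := card_sylow_modEq_one p S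
      rw [this, Nat.mod_eq_of_lt hp.one_lt]
    rcases hn m hdvd h3 with h4 | h4
    · exact absurd h4 hm1
    · exact ⟨S, i1, i2, h1, by rw [← h2, h4]⟩

variable {G : Type*} [Group G] [Finite G]

/-- In a simple group with more than one Sylow `p`-subgroup the action on them is faithful. -/
theorem faithful [IsSimpleGroup G] {p : ℕ} [Fact p.Prime] (h1 : Nat.card (Sylow p G) ≠ 1)
    (g : G) (hg : ∀ Q : Sylow p G, g • Q = Q) : g = 1 := by
  have hker : (MulAction.toPermHom G (Sylow p G)).ker = ⊥ := by
    rcases IsSimpleGroup.eq_bot_or_eq_top_of_normal (MulAction.toPermHom G (Sylow p G)).ker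
      inferInstance with h | h
    · exact h
    · exfalso
      apply h1
      obtain ⟨P⟩ : Nonempty (Sylow p G) := inferInstance
      rw [Nat.card_eq_one_iff_unique]
      refine ⟨⟨fun Q R => ?_⟩, ⟨P⟩⟩
      obtain ⟨x, hx⟩ := MulAction.exists_smul_eq G Q R
      have hx' : x ∈ (MulAction.toPermHom G (Sylow p G)).ker := by rw [h]; trivial
      rw [MonoidHom.mem_ker] at hx'
      have := congrArg (fun σ : Equiv.Perm (Sylow p G) => σ Q) hx'
      simp only [MulAction.toPermHom_apply, MulAction.toPerm_apply, Equiv.Perm.coe_one, id] at this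
      rw [← hx, this]
  have : g ∈ (MulAction.toPermHom G (Sylow p G)).ker := by
    rw [MonoidHom.mem_ker]
    ext Q : 1
    simpa using hg Q
  rwa [hker, Subgroup.mem_bot] at this

/-- A nonabelian simple group acts by even permutations. -/
theorem sign_eq_one [IsSimpleGroup G] (hnc : ¬ IsMulCommutative G) {α : Type*} [Fintype α]
    [DecidableEq α] [MulAction G α] (g : G) :
    Equiv.Perm.sign (MulAction.toPerm g : Equiv.Perm α) = 1 := by
  set f : G →* ℤˣ := Equiv.Perm.sign.comp (MulAction.toPermHom G α) with hf
  rcases IsSimpleGroup.eq_bot_or_eq_top_of_normal f.ker inferInstance with h | h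
  · exfalso
    apply hnc
    have hinj : Function.Injective f := (MonoidHom.ker_eq_bot_iff f).mp h
    exact ⟨⟨fun a b => hinj (by rw [map_mul, map_mul, mul_comm])⟩⟩
  · have : g ∈ f.ker := by rw [h]; trivial
    exact this

/-- An element centralizing a Sylow `p`-subgroup fixes `1` mod `p` Sylow `p`-subgroups. -/
theorem card_fixedBy_modEq_one {p : ℕ} [Fact p.Prime] (P : Sylow p G) (c : G)
    (hc : c ∈ centralizer ((P : Subgroup G) : Set G)) :
    Nat.card (MulAction.fixedBy (Sylow p G) c) ≡ 1 [MOD p] := by
  let S : SubMulAction (P : Subgroup G) (Sylow p G) :=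
    { carrier := MulAction.fixedBy (Sylow p G) c
      smul_mem' := by
        intro x Q hQ
        rw [MulAction.mem_fixedBy] at hQ ⊢
        have hcomm : c * (x : G) = x * c := ((Subgroup.mem_centralizer_iff.mp hc) x x.2).symm
        change c • ((x : G) • Q) = (x : G) • Q
        rw [smul_smul, hcomm, mul_smul, hQ] }
  have h1 := P.2.card_modEq_card_fixedPoints S
  have hPS : P ∈ S := by
    change c • P = P
    rw [Sylow.smul_eq_iff_mem_normalizer]
    exact Subgroup.centralizer_le_normalizer _ hc
  have h2 : Nat.card (MulAction.fixedPoints (P : Subgroup G) S) = 1 := by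
    rw [Nat.card_eq_one_iff_unique]
    constructor
    · constructor
      intro a b
      have key : ∀ a : MulAction.fixedPoints (P : Subgroup G) S, (a.1.1 : Sylow p G) = P := by
        intro a
        have ha : (a.1.1 : Sylow p G) ∈ MulAction.fixedPoints (P : Subgroup G) (Sylow p G) := by
          intro x
          exact congrArg Subtype.val (a.2 x)
        rw [P.2.sylow_mem_fixedPoints_iff] at ha
        exact Sylow.ext (P.3 (a.1.1 : Sylow p G).2 ha)
      apply Subtype.ext
      apply Subtype.ext
      rw [key a, key b]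
    · refine ⟨⟨⟨P, hPS⟩, ?_⟩⟩
      intro x
      apply Subtype.ext
      change (x : G) • P = P
      rw [Sylow.smul_eq_iff_mem_normalizer]
      exact Subgroup.le_normalizer x.2
  rw [h2] at h1
  exact h1

/-- fixed point congruence for an element of prime order -/
theorem card_modEq_card_fixedBy {α : Type*} [MulAction G α] [Finite α] (c : G) {r : ℕ}
    [Fact r.Prime] (hc : orderOf c = r) :
    Nat.card α ≡ Nat.card (MulAction.fixedBy α c) [MOD r] := by
  have hz : IsPGroup r (zpowers c) := by
    apply IsPGroup.of_card (n := 1)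
    rw [Nat.card_zpowers, hc, pow_one]
  have h1 := hz.card_modEq_card_fixedPoints α
  have h2 : MulAction.fixedPoints (zpowers c) α = MulAction.fixedBy α c := by
    ext x
    constructor
    · intro hx
      exact hx ⟨c, Subgroup.mem_zpowers c⟩
    · intro hx g
      have : zpowers c ≤ MulAction.stabilizer G x := by
        rw [Subgroup.zpowers_le]
        exact hx
      exact this g.2
  rwa [h2] at h1

/-- sign of an involution -/
theorem sign_involution {α : Type*} [Fintype α] [DecidableEq α] (σ : Equiv.Perm α)
    (h2 : orderOf σ = 2) :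
    Equiv.Perm.sign σ =
      (-1) ^ ((Fintype.card α - Fintype.card (Function.fixedPoints σ)) / 2) := by
  obtain ⟨k, hk⟩ := Equiv.Perm.cycleType_prime_order (σ := σ) (by rw [h2]; exact Nat.prime_two)
  rw [h2] at hk
  have h3 : σ.cycleType = Multiset.replicate (Multiset.card σ.cycleType) 2 := by
    rw [hk, Multiset.card_replicate]
  have := Equiv.Perm.sign_of_cycleType_eq_replicate (n := 2) (by norm_num) h3
  rw [this, if_neg (by decide)]

/-- `|N(P) : C(P)|` divides `p - 1` for `|P| = p`. -/
theorem relIndex_centralizer_normalizer_dvd {p : ℕ} [Fact p.Prime] (P : Subgroup G)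
    (hP : Nat.card P = p) :
    (centralizer (P : Set G)).relIndex (normalizer (P : Set G)) ∣ p - 1 := by
  have key := card_dvd_of_injective _ (QuotientGroup.kerLift_injective P.normalizerMonoidHom)
  rw [normalizerMonoidHom_ker, ← index, ← relIndex] at key
  haveI : IsCyclic P := isCyclic_of_prime_card hP
  rwa [IsCyclic.card_mulAut, hP, Nat.totient_prime Fact.out] at key

/-- order of a Sylow subgroup when the prime divides the order exactly once -/
theorem card_sylow_eq_prime {r m : ℕ} [Fact r.Prime] (Q : Sylow r G) (h : Nat.card G = r * m)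
    (hm : ¬ r ∣ m) : Nat.card Q = r := by
  have hr : r.Prime := Fact.out
  have hm0 : m ≠ 0 := fun h0 => hm (h0 ▸ dvd_zero r)
  rw [Q.card_eq_multiplicity, h, Nat.factorization_mul hr.ne_zero hm0, Finsupp.add_apply,
    hr.factorization_self, Nat.factorization_eq_zero_of_not_dvd hm, pow_one]

/-- Burnside transfer in a simple group. -/
theorem card_eq_of_simple_of_coprime [IsSimpleGroup G] (r : ℕ) [Fact r.Prime] (Q : Sylow r G)
    (hQ : Nat.card Q = r) (hcop : (Nat.card G).Coprime (r - 1)) : Nat.card G = r := by
  have hr : r.Prime := Fact.out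
  have h1 := relIndex_centralizer_normalizer_dvd (Q : Subgroup G) hQ
  have h2 : (centralizer ((Q : Subgroup G) : Set G)).relIndex
      (normalizer ((Q : Subgroup G) : Set G)) ∣ Nat.card G :=
    (Subgroup.relIndex_dvd_card _ _).trans (Subgroup.card_subgroup_dvd_card _)
  have h3 : (centralizer ((Q : Subgroup G) : Set G)).relIndex
      (normalizer ((Q : Subgroup G) : Set G)) = 1 := Nat.eq_one_of_dvd_coprimes hcop h2 h1
  have hNC : normalizer ((Q : Subgroup G) : Set G) ≤ centralizer ((Q : Subgroup G) : Set G) :=
    Subgroup.relIndex_eq_one.mp h3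
  have hcompl := MonoidHom.ker_transferSylow_isComplement' Q hNC
  have hcard := hcompl.card_mul
  rcases IsSimpleGroup.eq_bot_or_eq_top_of_normal (MonoidHom.transferSylow Q hNC).ker
    inferInstance with h | h
  · rw [h, Subgroup.card_bot, one_mul] at hcard
    rw [← hcard]; exact hQ
  · rw [h, Subgroup.card_top] at hcard
    have h4 : Nat.card (Q : Subgroup G) = r := hQ
    rw [h4] at hcard
    have hpos : 0 < Nat.card G := Nat.card_pos
    have : r = 1 := by
      have h5 : Nat.card G * r = Nat.card G * 1 := by rw [hcard, mul_one]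
      exact Nat.eq_of_mul_eq_mul_left hpos h5
    exact absurd this hr.one_lt.ne'

/-- more than one Sylow subgroup forces noncommutativity -/
theorem not_comm_of_card_sylow {p : ℕ} [Fact p.Prime] (h1 : Nat.card (Sylow p G) ≠ 1) :
    ¬ IsMulCommutative G := by
  intro hc
  apply h1
  obtain ⟨P⟩ : Nonempty (Sylow p G) := inferInstance
  have hn : (P : Subgroup G).Normal := by
    refine ⟨fun n hn g => ?_⟩
    have : g * n * g⁻¹ = n := by
      rw [hc.is_comm.comm g n]; group
    rw [this]; exact hn
  haveI := Sylow.unique_of_normal P hn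
  exact Nat.card_unique

/-- more than one Sylow subgroup forces `p ∣ |G|` -/
theorem dvd_card_of_card_sylow {p : ℕ} [Fact p.Prime] (h1 : Nat.card (Sylow p G) ≠ 1) :
    p ∣ Nat.card G := by
  by_contra hnd
  apply h1
  obtain ⟨P⟩ : Nonempty (Sylow p G) := inferInstance
  rw [Nat.card_eq_one_iff_unique]
  refine ⟨⟨fun Q R => ?_⟩, ⟨P⟩⟩
  have key : ∀ Q : Sylow p G, (Q : Subgroup G) = ⊥ := by
    intro Q
    apply Subgroup.eq_bot_of_card_eq
    rw [Q.card_eq_multiplicity, Nat.factorization_eq_zero_of_not_dvd hnd, pow_zero]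
  exact Sylow.ext (by rw [key Q, key R])

end Cfsg.Agent.Lib.Helper63SylowNum2
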