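import Mathlib
import Cfsg.Agent.Lib.Helper63Derange
import Cfsg.Agent.Lib.Helper63SylowNum2

set_option autoImplicit false
set_option linter.style.haveILetI false
set_option linter.unusedSectionVars false

namespace Cfsg.Agent.Lib.Helper63SylowNum3

open Subgroup MulAction Cfsg.Agent.Lib.Helper63SylowNum2

variable {G : Type*} [Group G] [Finite G] {α : Type*} [MulAction G α] [Finite α]

/-- fixed point congruence on an invariant subset -/
theorem card_inv_set_modEq {p : ℕ} [Fact p.Prime] (A : Subgroup G) (hA : IsPGroup p A) (s : Set α)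
    (hs : ∀ a ∈ A, ∀ x ∈ s, a • x ∈ s) :
    Nat.card s ≡ Nat.card {x : α | x ∈ s ∧ ∀ a ∈ A, a • x = x} [MOD p] := by
  let S : SubMulAction A α :=
    { carrier := s
      smul_mem' := fun a x hx => hs a a.2 x hx }
  have h1 := hA.card_modEq_card_fixedPoints S
  have h2 : Nat.card (fixedPoints A S) = Nat.card {x : α | x ∈ s ∧ ∀ a ∈ A, a • x = x} := by
    refine Nat.card_congr ⟨fun x => ⟨x.1.1, x.1.2, fun a ha => congrArg Subtype.val (x.2 ⟨a, ha⟩)⟩,
      fun y => ⟨⟨y.1, y.2.1⟩, fun a => Subtype.ext (y.2.2 a a.2)⟩, fun x => rfl, fun y => rfl⟩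
  rw [h2] at h1
  exact h1

/-- fixed point congruence for an element of prime power order -/
theorem card_modEq_card_fixedBy_pow (c : G) {r j : ℕ} [Fact r.Prime] (hc : orderOf c = r ^ j) :
    Nat.card α ≡ Nat.card (fixedBy α c) [MOD r] := by
  have hz : IsPGroup r (zpowers c) := by
    apply IsPGroup.of_card (n := j)
    rw [Nat.card_zpowers, hc]
  have h1 := hz.card_modEq_card_fixedPoints α
  have h2 : fixedPoints (zpowers c) α = fixedBy α c := by
    ext x
    constructor
    · intro hx
      exact hx ⟨c, Subgroup.mem_zpowers c⟩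
    · intro hx g
      have : zpowers c ≤ stabilizer G x := by
        rw [Subgroup.zpowers_le]
        exact hx
      exact this g.2
  rwa [h2] at h1

/-- a subgroup all of whose nonidentity elements have exactly `f` fixed points -/
theorem card_dvd_of_const_fix (R : Subgroup G) (f : ℕ)
    (hf : ∀ g ∈ R, g ≠ 1 → Nat.card (fixedBy α g) = f) (hfn : f ≤ Nat.card α) :
    Nat.card R ∣ Nat.card α - f := by
  classical
  haveI : Fintype R := Fintype.ofFinite _
  have h1 := Cfsg.Agent.Lib.Helper63Derange.burnside (G := R) (Ω := α)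
  have h2 : ∑ g : R, Nat.card (fixedBy α g) = Nat.card α + (Nat.card R - 1) * f := by
    rw [← Finset.add_sum_erase _ _ (Finset.mem_univ (1 : R))]
    congr 1
    · have : fixedBy α (1 : R) = Set.univ := by
        ext x; simp
      rw [this, Nat.card_univ]
    · rw [Finset.sum_congr rfl (g := fun _ => f)]
      · rw [Finset.sum_const, Finset.card_erase_of_mem (Finset.mem_univ _), Finset.card_univ,
          Nat.card_eq_fintype_card, smul_eq_mul]
      · intro g hg
        have hg1 : (g : G) ≠ 1 := by
          intro h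
          exact (Finset.mem_erase.mp hg).1 (Subtype.ext h)
        exact hf g g.2 hg1
  rw [h2] at h1
  have hpos : 0 < Nat.card R := Nat.card_pos
  obtain ⟨m, hm⟩ : ∃ m, Nat.card R = m + 1 := ⟨Nat.card R - 1, by omega⟩
  obtain ⟨d, hd⟩ : ∃ d, Nat.card α = f + d := ⟨Nat.card α - f, by omega⟩
  rw [hd, Nat.add_sub_cancel_left]
  rw [hd, hm, Nat.add_sub_cancel] at h1
  rw [hm]
  have h3 : (m + 1) ∣ d + (m + 1) * f := ⟨_, by rw [mul_comm (m + 1) (Nat.card _), ← h1]; ring⟩
  exact (Nat.dvd_add_left (Dvd.intro _ rfl)).mp h3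

/-- sign of a permutation of order four whose square has no extra fixed points -/
theorem sign_of_order_four {β : Type*} [Fintype β] [DecidableEq β] (σ : Equiv.Perm β)
    (h4 : orderOf σ = 4) (hfix : ∀ x, (σ ^ 2) x = x → σ x = x) :
    Equiv.Perm.sign σ =
      (-1) ^ ((Fintype.card β - Fintype.card (Function.fixedPoints σ)) / 4) := by
  have hall : ∀ n ∈ σ.cycleType, n = 4 := by
    intro n hn
    have h1 : n ∣ 4 := h4 ▸ Equiv.Perm.dvd_of_mem_cycleType hn
    have h2 : 2 ≤ n := Equiv.Perm.two_le_of_mem_cycleType hn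
    have h3 : n ≤ 4 := Nat.le_of_dvd (by norm_num) h1
    by_contra hne
    have hn2 : n = 2 := by
      interval_cases n
      · rfl
      · norm_num at h1
      · exact absurd rfl hne
    subst hn2
    rw [Equiv.Perm.cycleType_def, Multiset.mem_map] at hn
    obtain ⟨c, hc, hcard⟩ := hn
    have hc' : c ∈ σ.cycleFactorsFinset := hc
    rw [Equiv.Perm.mem_cycleFactorsFinset_iff] at hc'
    obtain ⟨hcyc, hcσ⟩ := hc'
    have hord : orderOf c = 2 := by rw [hcyc.orderOf]; exact hcard
    obtain ⟨x, hx⟩ := hcyc.nonempty_support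
    have hcx : c x ∈ c.support := Equiv.Perm.apply_mem_support.mpr hx
    have h5 : (σ ^ 2) x = x := by
      have h6 : (c ^ 2) x = x := by
        rw [← hord, pow_orderOf_eq_one]; rfl
      rw [sq, Equiv.Perm.mul_apply] at h6 ⊢
      rw [← hcσ x hx, ← hcσ _ hcx]
      exact h6
    have h7 := hfix x h5
    rw [← hcσ x hx] at h7
    exact (Equiv.Perm.mem_support.mp hx) h7
  have h3 : σ.cycleType = Multiset.replicate (Multiset.card σ.cycleType) 4 :=
    Multiset.eq_replicate_card.mpr hall
  have := Equiv.Perm.sign_of_cycleType_eq_replicate (n := 4) (by norm_num) h3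
  rw [this, if_neg (by decide)]

/-- order of a Sylow subgroup from a factorisation of the group order -/
theorem card_sylow_eq_prime_pow {r e m : ℕ} [Fact r.Prime] (Q : Sylow r G)
    (h : Nat.card G = r ^ e * m) (hm : ¬ r ∣ m) : Nat.card Q = r ^ e := by
  have hr : r.Prime := Fact.out
  have hm0 : m ≠ 0 := fun h0 => hm (h0 ▸ dvd_zero r)
  rw [Q.card_eq_multiplicity, h, Nat.factorization_mul (pow_ne_zero _ hr.ne_zero) hm0,
    Finsupp.add_apply, hr.factorization_pow, Finsupp.single_eq_same,
    Nat.factorization_eq_zero_of_not_dvd hm, add_zero]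

/-- Burnside transfer: in a simple group which is not a `r`-group of order `|Q|`, `N(Q) ≰ C(Q)`. -/
theorem card_eq_of_normalizer_le_centralizer [IsSimpleGroup G] (r : ℕ) [Fact r.Prime]
    (Q : Sylow r G) (hQ : Nat.card Q ≠ 1)
    (hNC : normalizer ((Q : Subgroup G) : Set G) ≤ centralizer ((Q : Subgroup G) : Set G)) :
    Nat.card G = Nat.card Q := by
  have hcompl := MonoidHom.ker_transferSylow_isComplement' Q hNC
  have hcard := hcompl.card_mul
  rcases IsSimpleGroup.eq_bot_or_eq_top_of_normal (MonoidHom.transferSylow Q hNC).ker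
    inferInstance with h | h
  · rw [h, Subgroup.card_bot, one_mul] at hcard
    exact hcard.symm
  · rw [h, Subgroup.card_top] at hcard
    have hpos : 0 < Nat.card G := Nat.card_pos
    have : Nat.card (Q : Subgroup G) = 1 := by
      have h5 : Nat.card G * Nat.card (Q : Subgroup G) = Nat.card G * 1 := by rw [hcard, mul_one]
      exact Nat.eq_of_mul_eq_mul_left hpos h5
    exact absurd this hQ

/-- an involution normalizing but not centralizing a group of prime order inverts it -/
theorem inverts_of_sq_eq_one {p : ℕ} [Fact p.Prime] (P : Subgroup G) (hP : Nat.card P = p) (z : G)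
    (hzN : z ∈ normalizer (P : Set G)) (hzC : z ∉ centralizer (P : Set G)) (hz2 : z * z = 1)
    (a : G) (ha : a ∈ P) : z * a * z⁻¹ = a⁻¹ := by
  haveI : IsCyclic P := isCyclic_of_prime_card hP
  have hcomm : ∀ x ∈ P, ∀ y ∈ P, x * y = y * x := by
    intro x hx y hy
    have := IsCyclic.commGroup.mul_comm (⟨x, hx⟩ : P) ⟨y, hy⟩
    exact congrArg Subtype.val this
  have hza : z * a * z⁻¹ ∈ P := (hzN a).mp ha
  have hzinv : z⁻¹ = z := inv_eq_of_mul_eq_one_left hz2
  set b := a * (z * a * z⁻¹) with hb
  have hbP : b ∈ P := P.mul_mem ha hza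
  have hzb : z * b * z⁻¹ = b := by
    have h1 : z * b * z⁻¹ = (z * a * z⁻¹) * (z * z * a * (z * z)⁻¹) := by
      rw [hb]; group
    rw [h1, hz2]
    simp only [one_mul, inv_one, mul_one]
    exact hcomm _ hza _ ha
  by_cases hb1 : b = 1
  · exact (eq_inv_of_mul_eq_one_right hb1)
  · exfalso
    apply hzC
    rw [Subgroup.mem_centralizer_iff]
    have hgen : zpowers (⟨b, hbP⟩ : P) = ⊤ :=
      zpowers_eq_top_of_prime_card hP (fun h => hb1 (congrArg Subtype.val h))
    intro x hx
    have hx' : (⟨x, hx⟩ : P) ∈ zpowers (⟨b, hbP⟩ : P) := by rw [hgen]; trivial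
    obtain ⟨i, hi⟩ := Subgroup.mem_zpowers_iff.mp hx'
    have hxi : x = b ^ i := by
      have := congrArg Subtype.val hi
      simpa using this.symm
    have hcb : Commute z b := by
      have : z * b = b * z := by
        calc z * b = z * b * z⁻¹ * z := by group
          _ = b * z := by rw [hzb]
      exact this
    rw [hxi]
    exact ((hcb.zpow_right i).eq).symm

/-- an element of order `p` fixes exactly one Sylow `p`-subgroup when these have order `p` -/
theorem fixedBy_eq_singleton_of_mem {p : ℕ} [Fact p.Prime] (P : Sylow p G) (hP : Nat.card P = p)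
    (g : G) (hg : g ∈ P) (hg1 : g ≠ 1) : fixedBy (Sylow p G) g = {P} := by
  have hgen : zpowers g = (P : Subgroup G) := by
    have hle : zpowers g ≤ (P : Subgroup G) := by rw [Subgroup.zpowers_le]; exact hg
    apply Subgroup.eq_of_le_of_card_ge hle
    have h1 : Nat.card (zpowers g) ∣ p := by
      have := Subgroup.card_dvd_of_le hle
      rwa [show Nat.card (P : Subgroup G) = p from hP] at this
    have hp : p.Prime := Fact.out
    rcases (Nat.dvd_prime hp).mp h1 with h | h
    · rw [Nat.card_zpowers, orderOf_eq_one_iff] at h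
      exact absurd h hg1
    · rw [h]; exact hP.le
  ext Q
  rw [Set.mem_singleton_iff, mem_fixedBy, Sylow.smul_eq_iff_mem_normalizer]
  constructor
  · intro h
    have h1 : (P : Subgroup G) ≤ normalizer ((Q : Subgroup G) : Set G) := by
      rw [← hgen, Subgroup.zpowers_le]; exact h
    have h2 : (P : Subgroup G) ⊓ normalizer ((Q : Subgroup G) : Set G) = (P : Subgroup G) ⊓ Q :=
      P.2.inf_normalizer_sylow Q
    rw [inf_eq_left.mpr h1] at h2
    have h3 : (P : Subgroup G) ≤ Q := by rw [h2]; exact inf_le_right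
    exact Sylow.ext (P.3 Q.2 h3)
  · rintro rfl
    exact Subgroup.le_normalizer hg

end Cfsg.Agent.Lib.Helper63SylowNum3
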