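import Mathlib
import Cfsg.Agent.Lib.Helper63SylowNum3

set_option autoImplicit false

namespace Cfsg.Agent.Lib.Helper17P8exp3

open MulAction Subgroup

variable {G : Type*} [Group G] [Finite G] [IsSimpleGroup G]

/-- piece `exp3` -/
theorem exp3 (h : Nat.card G = 360) (P : Sylow 3 G) (hh : G) (hhP : hh • P = P)
    (hinv : ∀ x ∈ (P : Subgroup G), hh ^ 2 * x * (hh ^ 2)⁻¹ = x⁻¹)
    (x : G) (hx : x ∈ (P : Subgroup G)) : x ^ 3 = 1 := by
  classical
  have : Fact (Nat.Prime 3) := ⟨by norm_num⟩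
  have hcardP : Nat.card (P : Subgroup G) = 3 ^ 2 :=
    Cfsg.Agent.Lib.Helper63SylowNum3.card_sylow_eq_prime_pow (m := 40) P (by rw [h]; norm_num)
      (by norm_num)
  have hord : orderOf x ∣ 3 ^ 2 := by
    rw [← hcardP]
    have := orderOf_dvd_natCard (⟨x, hx⟩ : (P : Subgroup G))
    rwa [Subgroup.orderOf_mk] at this
  obtain ⟨j, hj, hjo⟩ := (Nat.dvd_prime_pow (by norm_num : Nat.Prime 3)).mp hord
  have hj2 : j = 2 → False := by
    intro hj2
    rw [hj2] at hjo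
    -- P = zpowers x
    have hz : zpowers x = (P : Subgroup G) := by
      apply Subgroup.eq_of_le_of_card_ge (by rwa [zpowers_le])
      rw [Nat.card_zpowers, hjo, hcardP]
    have hN : hh ∈ normalizer ((P : Subgroup G) : Set G) := Sylow.smul_eq_iff_mem_normalizer.mp hhP
    have hmem : hh * x * hh⁻¹ ∈ zpowers x := by
      rw [hz]
      exact (mem_normalizer_iff.mp hN x).mp hx
    obtain ⟨k, hk⟩ := mem_zpowers_iff.mp hmem
    have h2 : hh ^ 2 * x * (hh ^ 2)⁻¹ = x ^ (k * k) := by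
      have : hh ^ 2 * x * (hh ^ 2)⁻¹ = hh * (hh * x * hh⁻¹) * hh⁻¹ := by
        rw [pow_two, mul_inv_rev]; simp only [mul_assoc]
      rw [this, ← hk]
      have h3 : hh * x ^ k * hh⁻¹ = (hh * x * hh⁻¹) ^ k := (conj_zpow (a := hh) (b := x) (i := k)).symm
      rw [h3, ← hk, ← zpow_mul]
    rw [hinv x hx] at h2
    have h4 : x ^ (k * k + 1) = 1 := by
      rw [zpow_add, ← h2, zpow_one, inv_mul_cancel]
    have h5 : (orderOf x : ℤ) ∣ k * k + 1 := orderOf_dvd_iff_zpow_eq_one.mpr h4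
    rw [hjo] at h5
    have h6 : (3 : ℤ) ∣ k * k + 1 := Dvd.dvd.trans (by norm_num) h5
    have h7 : (k * k + 1) % 3 = 0 := Int.emod_eq_zero_of_dvd h6
    have h8 : k % 3 = 0 ∨ k % 3 = 1 ∨ k % 3 = 2 := by omega
    rcases h8 with h8 | h8 | h8 <;>
      simp [Int.add_emod, Int.mul_emod, h8] at h7
  have hj1 : j ≤ 1 := by
    by_contra hc
    exact hj2 (by omega)
  have : orderOf x ∣ 3 := by
    rw [hjo]
    exact pow_dvd_pow 3 hj1
  exact orderOf_dvd_iff_pow_eq_one.mp this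

end Cfsg.Agent.Lib.Helper17P8exp3
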