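import Mathlib

set_option autoImplicit false

namespace Cfsg.Agent.Lib.Helper17P8idx

open MulAction Subgroup

variable {G : Type*} [Group G] [Finite G] [IsSimpleGroup G]

/-- piece `idx` -/
theorem index_ge_six (h : Nat.card G = 360) (H : Subgroup G) (hH : H ≠ ⊤) : 6 ≤ H.index := by
  classical
  by_contra hlt
  push Not at hlt
  -- the action on G ⧸ H
  have hcore : H.normalCore = ⊥ := by
    rcases (H.normalCore_normal).eq_bot_or_eq_top with h1 | h1
    · exact h1
    · exact absurd (top_le_iff.mp (h1 ▸ H.normalCore_le)) hH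
  have hinj : Function.Injective (MulAction.toPermHom G (G ⧸ H)) := by
    rw [← MonoidHom.ker_eq_bot_iff, ← Subgroup.normalCore_eq_ker, hcore]
  have hfin : Finite (G ⧸ H) := inferInstance
  have := Fintype.ofFinite (G ⧸ H)
  have hdvd : Nat.card G ∣ Nat.card (Equiv.Perm (G ⧸ H)) :=
    Subgroup.card_dvd_of_injective _ hinj
  rw [Nat.card_perm, h] at hdvd
  have hidx : Nat.card (G ⧸ H) = H.index := rfl
  rw [hidx] at hdvd
  have h0 : H.index ≠ 0 := Subgroup.index_ne_zero_of_finite
  interval_cases H.index <;> simp_all [Nat.factorial] <;> omega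

end Cfsg.Agent.Lib.Helper17P8idx
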