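import Mathlib
import Cfsg.Agent.Lib.Helper63SylowNum3

set_option autoImplicit false

namespace Cfsg.Agent.Lib.Helper17P8n3

open MulAction Subgroup

variable {G : Type*} [Group G] [Finite G] [IsSimpleGroup G]

/-- piece `n3` -/
theorem card_sylow3 (h : Nat.card G = 360)
    (hidx : ∀ H : Subgroup G, H ≠ ⊤ → 6 ≤ H.index) : Nat.card (Sylow 3 G) = 10 := by
  classical
  have : Fact (Nat.Prime 3) := ⟨by norm_num⟩
  obtain ⟨P⟩ : Nonempty (Sylow 3 G) := inferInstance
  have hcardP : Nat.card (P : Subgroup G) = 3 ^ 2 :=
    Cfsg.Agent.Lib.Helper63SylowNum3.card_sylow_eq_prime_pow (m := 40) P (by rw [h]; norm_num) (by norm_num)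
  have hmod : Nat.card (Sylow 3 G) ≡ 1 [MOD 3] := card_sylow_modEq_one 3 G
  have hdvd : Nat.card (Sylow 3 G) ∣ (P : Subgroup G).index := P.card_dvd_index
  have hindex : (P : Subgroup G).index = 40 := by
    have := (P : Subgroup G).card_mul_index
    rw [hcardP, h] at this
    omega
  rw [hindex] at hdvd
  have hn : Nat.card (Sylow 3 G) = (normalizer ((P : Subgroup G) : Set G)).index :=
    P.card_eq_index_normalizer
  have hle : Nat.card (Sylow 3 G) ≤ 40 := Nat.le_of_dvd (by norm_num) hdvd
  have hNtop : normalizer ((P : Subgroup G) : Set G) ≠ ⊤ := by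
    intro htop
    have hnorm : (P : Subgroup G).Normal := normalizer_eq_top_iff.mp htop
    rcases hnorm.eq_bot_or_eq_top with h1 | h1
    · rw [h1, Subgroup.card_bot] at hcardP; norm_num at hcardP
    · rw [h1, Subgroup.card_top, h] at hcardP; norm_num at hcardP
  have h6 := hidx _ hNtop
  rw [← hn] at h6
  have hne40 : Nat.card (Sylow 3 G) ≠ 40 := by
    intro h40
    have hNcard : Nat.card (normalizer ((P : Subgroup G) : Set G)) = 9 := by
      have := (normalizer ((P : Subgroup G) : Set G)).card_mul_index
      rw [← hn, h40, h] at this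
      omega
    have hNP : normalizer ((P : Subgroup G) : Set G) = (P : Subgroup G) := by
      symm
      apply Subgroup.eq_of_le_of_card_ge le_normalizer
      rw [hNcard, hcardP]; norm_num
    have hcomm := IsPGroup.isMulCommutative_of_card_eq_prime_sq hcardP
    have hNC : normalizer ((P : Subgroup G) : Set G) ≤ centralizer ((P : Subgroup G) : Set G) := by
      rw [hNP]
      intro x hx
      rw [mem_centralizer_iff]
      intro y hy
      exact congrArg Subtype.val (hcomm.is_comm.comm (⟨y, hy⟩ : (P : Subgroup G)) ⟨x, hx⟩)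
    have := Cfsg.Agent.Lib.Helper63SylowNum3.card_eq_of_normalizer_le_centralizer 3 P
      (by rw [hcardP]; norm_num) hNC
    rw [h, hcardP] at this
    norm_num at this
  unfold Nat.ModEq at hmod
  generalize Nat.card (Sylow 3 G) = n at *
  interval_cases n <;> omega

end Cfsg.Agent.Lib.Helper17P8n3
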