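import Mathlib
import Cfsg.Agent.Lib.Helper63SylowNum3

set_option autoImplicit false

namespace Cfsg.Agent.Lib.Helper17P8reg

open MulAction Subgroup

variable {G : Type*} [Group G] [Finite G] [IsSimpleGroup G]

/-- piece `reg` (a) -/
theorem semireg
    (hTI : ∀ P Q : Sylow 3 G, P ≠ Q → (P : Subgroup G) ⊓ (Q : Subgroup G) = ⊥)
    (P Q : Sylow 3 G) (hQ : Q ≠ P) (x : G)
    (hx : x ∈ (P : Subgroup G)) (hxQ : x • Q = Q) : x = 1 := by
  have : Fact (Nat.Prime 3) := ⟨by norm_num⟩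
  have hxN : x ∈ normalizer ((Q : Subgroup G) : Set G) := Sylow.smul_eq_iff_mem_normalizer.mp hxQ
  have h1 : x ∈ (P : Subgroup G) ⊓ normalizer ((Q : Subgroup G) : Set G) := ⟨hx, hxN⟩
  have h2 := IsPGroup.inf_normalizer_sylow P.2 Q
  have h3 : x ∈ (P : Subgroup G) ⊓ (Q : Subgroup G) := h2 ▸ h1
  rw [hTI P Q hQ.symm] at h3
  exact mem_bot.mp h3

/-- piece `reg` (b) -/
theorem regular (h : Nat.card G = 360) (hn : Nat.card (Sylow 3 G) = 10)
    (hsemi : ∀ P Q : Sylow 3 G, Q ≠ P → ∀ x ∈ (P : Subgroup G), x • Q = Q → x = 1)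
    (P Q Q' : Sylow 3 G) (hQ : Q ≠ P) (hQ' : Q' ≠ P) :
    ∃ x ∈ (P : Subgroup G), x • Q = Q' := by
  classical
  have : Fact (Nat.Prime 3) := ⟨by norm_num⟩
  have hcardP : Nat.card (P : Subgroup G) = 3 ^ 2 :=
    Cfsg.Agent.Lib.Helper63SylowNum3.card_sylow_eq_prime_pow (m := 40) P (by rw [h]; norm_num)
      (by norm_num)
  have hfix : ∀ x ∈ (P : Subgroup G), x • P = P := fun x hx =>
    Sylow.smul_eq_iff_mem_normalizer.mpr (le_normalizer hx)
  let f : ↥(P : Subgroup G) → {R : Sylow 3 G // R ≠ P} := fun x => ⟨(x : G) • Q, by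
    intro hc
    apply hQ
    have : (x : G)⁻¹ • ((x : G) • Q) = (x : G)⁻¹ • P := by rw [hc]
    rw [inv_smul_smul] at this
    rw [this]
    exact hfix _ (inv_mem x.2)⟩
  have hinj : Function.Injective f := by
    intro x y hxy
    have h1 : (x : G) • Q = (y : G) • Q := congrArg Subtype.val hxy
    have h2 : ((y : G)⁻¹ * (x : G)) • Q = Q := by
      rw [mul_smul, h1, inv_smul_smul]
    have h3 := hsemi P Q hQ _ (mul_mem (inv_mem y.2) x.2) h2
    apply Subtype.ext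
    exact (inv_mul_eq_one.mp h3).symm
  have hcard : Nat.card {R : Sylow 3 G // R ≠ P} = 9 := by
    have := Fintype.ofFinite (Sylow 3 G)
    rw [Nat.card_eq_fintype_card, Fintype.card_subtype_compl, Fintype.card_subtype_eq,
      ← Nat.card_eq_fintype_card, hn]
  have hbij : Function.Bijective f := by
    rw [Nat.bijective_iff_injective_and_card]
    exact ⟨hinj, by rw [hcardP, hcard]; norm_num⟩
  obtain ⟨x, hx⟩ := hbij.2 ⟨Q', hQ'⟩
  exact ⟨x, x.2, congrArg Subtype.val hx⟩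

end Cfsg.Agent.Lib.Helper17P8reg
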