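import Cfsg.Agent.Lib.Helper95SU

set_option autoImplicit false

namespace Cfsg.Agent.Lib.Helper17SUGen

open Module Cfsg.Agent.Lib.Helper95Sp Cfsg.Agent.Lib.Helper95SpSL Cfsg.Agent.Lib.Helper95Herm
  Cfsg.Agent.Lib.Helper95SU

variable {K V : Type*} [Field K] [AddCommGroup V] [Module K V]
variable {σ : K →+* K} {f : V → V → K}

/-- vectors of prescribed norm orthogonal to a pair, given one orthogonal vector outside the span -/
lemma exists_perp_pair [Finite K] [FiniteDimensional K V] (h : Herm σ f) (a b t : V)
    (hta : f t a = 0) (htb : f t b = 0) (ht : t ∉ Submodule.span K ({a, b} : Set V))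
    (d : K) (hd : σ d = d) : ∃ y, f y a = 0 ∧ f y b = 0 ∧ f y y = d := by
  set T := h.perp ({a, b} : Set V) with hT
  have htT : t ∈ T := by
    intro u hu
    rcases hu with rfl | rfl
    · exact hta
    · exact htb
  obtain ⟨y0, hy0T, hy0⟩ : ∃ y0 ∈ T, f y0 y0 ≠ 0 := by
    by_contra hcon
    push Not at hcon
    have hpol := h.polar T hcon
    obtain ⟨z, hzT, hz⟩ := h.exists_perp_ne _ t ht
    exact hz (hpol z hzT t htT)
  obtain ⟨c, hc⟩ := h.norm_surj (d / f y0 y0) (by rw [map_div₀, hd, h.self_fix])
  refine ⟨c • y0, ?_, ?_, ?_⟩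
  · rw [h.smul_left, hy0T a (by simp), mul_zero]
  · rw [h.smul_left, hy0T b (by simp), mul_zero]
  · rw [h.smul_left, h.smul_right, ← mul_assoc, hc]
    field_simp

lemma finrank_perp_pair [FiniteDimensional K V] (h : Herm σ f) (a b : V) :
    finrank K V ≤ finrank K (h.perp ({a, b} : Set V)) + 2 := by
  classical
  have h1 := h.finrank_perp_ge {a, b}
  have h2 := Finset.card_le_two (a := a) (b := b)
  rw [Finset.coe_insert, Finset.coe_singleton] at h1
  omega

/-- vectors of prescribed norm orthogonal to a non-degenerate pair -/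
lemma exists_perp_nondeg [Finite K] [FiniteDimensional K V] (h : Herm σ f)
    (hdim : 3 ≤ finrank K V) (a b : V) (hD : f a a * f b b - f a b * f b a ≠ 0)
    (d : K) (hd : σ d = d) : ∃ y, f y a = 0 ∧ f y b = 0 ∧ f y y = d := by
  have h1 := finrank_perp_pair h a b
  have h2 : h.perp ({a, b} : Set V) ≠ ⊥ := by
    intro h0
    rw [h0, finrank_bot] at h1
    omega
  obtain ⟨t, htT, ht0⟩ := Submodule.exists_mem_ne_zero_of_ne_bot h2
  have hta : f t a = 0 := htT a (by simp)
  have htb : f t b = 0 := htT b (by simp)
  refine exists_perp_pair h a b t hta htb ?_ d hd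
  intro hmem
  obtain ⟨α, β, rfl⟩ := Submodule.mem_span_pair.1 hmem
  rw [h.add_left, h.smul_left, h.smul_left] at hta htb
  have hα : α * (f a a * f b b - f a b * f b a) = 0 := by
    linear_combination f b b * hta - f b a * htb
  have hβ : β * (f a a * f b b - f a b * f b a) = 0 := by
    linear_combination f a a * htb - f a b * hta
  rcases mul_eq_zero.1 hα with hα | hα
  · rcases mul_eq_zero.1 hβ with hβ | hβ
    · apply ht0
      rw [hα, hβ]
      simp
    · exact hD hβ
  · exact hD hα

/-- the transvection group moves `x` to an orthogonal vector of the same norm -/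
lemma move_orth [Finite K] [FiniteDimensional K V] (h : Herm σ f) (hdim : 3 ≤ finrank K V)
    (x y : V) (hxy : f y y = f x x) (hx : f x x ≠ 0) (hperp : f x y = 0) :
    ∃ t ∈ TT h, t x = y := by
  obtain ⟨z0, hz0, hz0'⟩ := h.exists_z
  have hσz0 : σ z0 = - z0 := by linear_combination hz0'
  set ν := f x x with hν
  have hνfix : σ ν = ν := h.self_fix x
  have hyx : f y x = 0 := h.swap_zero hperp
  set α := (ν + z0) / ν with hα
  have hσα : σ α = (ν - z0) / ν := by
    rw [hα, map_div₀, map_add, hνfix, hσz0]; ring
  obtain ⟨s, hsx, hsy, hss⟩ := exists_perp_nondeg h hdim x y (by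
      rw [hperp, hxy, ← hν, zero_mul, sub_zero]
      exact mul_ne_zero hx hx) (ν - 2 * (α * σ α) * ν) (by
      rw [map_sub, map_mul, map_mul, map_mul, h.invol, hνfix, map_ofNat]
      ring)
  have hxs : f x s = 0 := h.swap_zero hsx
  have hys : f y s = 0 := h.swap_zero hsy
  set w := α • x + α • y + s with hw
  have hwx : f w x = ν + z0 := by
    rw [hw, h.add_left, h.add_left, h.smul_left, h.smul_left, hyx, hsx, ← hν, hα]
    field_simp
    ring
  have hwy : f w y = ν + z0 := by
    rw [hw, h.add_left, h.add_left, h.smul_left, h.smul_left, hperp, hsy, hxy, hα]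
    field_simp
    ring
  have hxw : f x w = ν - z0 := by rw [h.herm, hwx, map_add, hνfix, hσz0]; ring
  have hyw : f y w = ν - z0 := by rw [h.herm, hwy, map_add, hνfix, hσz0]; ring
  have hsw : f s w = ν - 2 * (α * σ α) * ν := by
    rw [hw, h.add_right, h.add_right, h.smul_right, h.smul_right, hsx, hsy, hss]; ring
  have hww : f w w = ν := by
    conv_lhs => rw [hw]
    rw [h.add_left, h.add_left, h.smul_left, h.smul_left, hxw, hyw, hsw, hσα, hα]
    field_simp
    ring
  obtain ⟨t1, ht1, hm1, -⟩ := single_move h x w hww (by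
    rw [h.sub_left, h.sub_right, h.sub_right, hww, hwx, hxw, ← hν]; ring) (by
    rw [h.sub_right, hxw, ← hν]
    simpa using hz0)
  obtain ⟨t2, ht2, hm2, -⟩ := single_move h w y (by rw [hxy, hww]) (by
    rw [h.sub_left, h.sub_right, h.sub_right, hww, hwy, hyw, hxy]; ring) (by
    rw [h.sub_right, hwy, hww]
    simpa using hz0)
  exact ⟨t2 * t1, Subgroup.mul_mem _ ht2 ht1, by rw [LinearEquiv.mul_apply, hm1, hm2]⟩

/-- an intermediate vector -/
lemma exists_mid [Finite K] [FiniteDimensional K V] (h : Herm σ f) (hdim : 3 ≤ finrank K V)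
    (hex : 4 ≤ finrank K V ∨ ∃ d, σ d = d ∧ d ≠ 0 ∧ d ≠ 1)
    (x w : V) (hxw : f w w = f x x) (hx : f x x ≠ 0) :
    ∃ y, f y x = 0 ∧ f y y = f x x ∧ f y y * f w w - f y w * f w y ≠ 0 := by
  classical
  set c := f x x with hc
  have hcfix : σ c = c := h.self_fix x
  set w' := w - (f w x / c) • x with hw'
  have hw'x : f w' x = 0 := by
    rw [hw', h.sub_left, h.smul_left, ← hc]
    field_simp
    ring
  have hxw' : f x w' = 0 := h.swap_zero hw'x
  have key : ∀ y, f y x = 0 → f y w = f y w' := by
    intro y hy
    rw [hw', h.sub_right, h.smul_right, hy, mul_zero, sub_zero]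
  have fin : ∀ y, f y x = 0 → f y w' = 0 → f y y = c →
      ∃ y, f y x = 0 ∧ f y y = c ∧ f y y * f w w - f y w * f w y ≠ 0 := by
    intro y hyx hyw hyy
    refine ⟨y, hyx, hyy, ?_⟩
    rw [key y hyx, hyw, zero_mul, sub_zero, hyy, hxw]
    exact mul_ne_zero hx hx
  by_cases hN : f w' w' = 0
  · by_cases hw0 : w' = 0
    · obtain ⟨y, hy, hyy⟩ := h.exists_perp {x} (by simp; omega) c hcfix
      exact fin y (hy x (by simp)) (by rw [hw0, h.zero_right]) hyy
    · rcases hex with h4 | ⟨d, hd, hd0, hd1⟩
      · have h1 := finrank_perp_pair h x w'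
        obtain ⟨t, htT, ht⟩ : ∃ t ∈ h.perp ({x, w'} : Set V),
            t ∉ Submodule.span K ({x, w'} : Set V) := by
          by_contra hcon
          push Not at hcon
          have hle : h.perp ({x, w'} : Set V) ≤ Submodule.span K {w'} := by
            intro t ht
            obtain ⟨α, β, rfl⟩ := Submodule.mem_span_pair.1 (hcon t ht)
            have h2 := ht x (by simp)
            rw [h.add_left, h.smul_left, h.smul_left, hw'x, mul_zero, add_zero, ← hc] at h2
            have hα : α = 0 := by
              rcases mul_eq_zero.1 h2 with h3 | h3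
              · exact h3
              · exact absurd h3 hx
            rw [hα, zero_smul, zero_add]
            exact Submodule.smul_mem _ _ (Submodule.mem_span_singleton_self _)
          have h3 := Submodule.finrank_mono hle
          rw [finrank_span_singleton hw0] at h3
          omega
        obtain ⟨y, hyx, hyw, hyy⟩ := exists_perp_pair h x w' t (htT x (by simp)) (htT w' (by simp))
          ht c hcfix
        exact fin y hyx hyw hyy
      · obtain ⟨v, hv⟩ := h.nondeg w' hw0
        set w'' := v - (f v x / c) • x with hw''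
        have hw''x : f w'' x = 0 := by
          rw [hw'', h.sub_left, h.smul_left, ← hc]
          field_simp
          ring
        set e := f w'' w' with he
        have he' : e = f v w' := by
          rw [he, hw'', h.sub_left, h.smul_left, hxw', mul_zero, sub_zero]
        have he0 : e ≠ 0 := by rw [he']; exact hv
        have hσe0 : σ e ≠ 0 := by
          intro h0
          apply he0
          have := congrArg σ h0
          rwa [h.invol, map_zero] at this
        obtain ⟨γ, hγ⟩ := h.norm_surj (d * c * c) (by rw [map_mul, map_mul, hd, hcfix])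
        have hγ0 : γ ≠ 0 := by
          rintro rfl
          rw [zero_mul] at hγ
          exact mul_ne_zero (mul_ne_zero hd0 hx) hx hγ.symm
        set β := γ / e with hβ
        have hβ0 : β ≠ 0 := div_ne_zero hγ0 he0
        have hσβ0 : σ β ≠ 0 := by
          intro h0
          apply hβ0
          have := congrArg σ h0
          rwa [h.invol, map_zero] at this
        obtain ⟨ε, hε⟩ := h.trace_surj (c - β * σ β * f w'' w'') (by
          rw [map_sub, map_mul, map_mul, h.invol, hcfix, h.self_fix]
          ring)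
        set α := ε / (σ β * σ e) with hα
        have hw'w'' : f w' w'' = σ e := by rw [he, ← h.herm]
        have hyw' : f (α • w' + β • w'') w' = γ := by
          rw [h.add_left, h.smul_left, h.smul_left, hN, ← he, hβ]
          field_simp
          ring
        have hyx : f (α • w' + β • w'') x = 0 := by
          rw [h.add_left, h.smul_left, h.smul_left, hw'x, hw''x]
          ring
        have hyy : f (α • w' + β • w'') (α • w' + β • w'') = c := by
          have h1 : α * σ β * σ e = ε := by
            rw [hα]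
            field_simp
          have h2 : σ α * β * e = σ ε := by
            rw [← h1, map_mul, map_mul, h.invol, h.invol]
          rw [h.add_left, h.smul_left, h.smul_left, h.add_right, h.add_right, h.smul_right,
            h.smul_right, h.smul_right, h.smul_right, hN, hw'w'', ← he]
          linear_combination h1 + h2 + hε
        refine ⟨α • w' + β • w'', hyx, hyy, ?_⟩
        rw [hyy, hxw, h.herm w, key _ hyx, hyw', hγ]
        intro h0
        have h1 : (1 - d) * (c * c) = 0 := by linear_combination h0
        rcases mul_eq_zero.1 h1 with h2 | h2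
        · exact hd1 (by linear_combination -h2)
        · exact mul_ne_zero hx hx h2
  · obtain ⟨y, hyx, hyw, hyy⟩ := exists_perp_nondeg h hdim x w' (by
      rw [hxw', zero_mul, sub_zero, ← hc]
      exact mul_ne_zero hx hN) c hcfix
    exact fin y hyx hyw hyy

/-- the transvection group is transitive on vectors of a given non-zero norm -/
theorem TT_move' [Finite K] [FiniteDimensional K V] (h : Herm σ f) (hdim : 3 ≤ finrank K V)
    (hex : 4 ≤ finrank K V ∨ ∃ d, σ d = d ∧ d ≠ 0 ∧ d ≠ 1)
    (x y : V) (hxy : f y y = f x x) (hx : f x x ≠ 0) : ∃ t ∈ TT h, t x = y := by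
  obtain ⟨y1, hy1x, hy1, hD⟩ := exists_mid h hdim hex x y hxy hx
  obtain ⟨y2, hy21, hy2y, hy2⟩ := exists_perp_nondeg h hdim y1 y hD (f x x) (h.self_fix x)
  obtain ⟨t1, ht1, hm1⟩ := move_orth h hdim x y1 hy1 hx (h.swap_zero hy1x)
  obtain ⟨t2, ht2, hm2⟩ := move_orth h hdim y1 y2 (by rw [hy2, hy1]) (by rw [hy1]; exact hx)
    (h.swap_zero hy21)
  obtain ⟨t3, ht3, hm3⟩ := move_orth h hdim y2 y (by rw [hy2, hxy]) (by rw [hy2]; exact hx) hy2y
  exact ⟨t3 * t2 * t1, Subgroup.mul_mem _ (Subgroup.mul_mem _ ht3 ht2) ht1, by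
    rw [LinearEquiv.mul_apply, LinearEquiv.mul_apply, hm1, hm2, hm3]⟩

/-- transitivity of the transvection group on vectors of given non-zero norm -/
def Move (h : Herm σ f) : Prop :=
  ∀ x y : V, f y y = f x x → f x x ≠ 0 → ∃ t ∈ TT h, t x = y

/-! The following four statements are the arguments of `Helper95SU` (helper95), with the dimension
hypothesis replaced by `Move`. -/

lemma Phi_qr' [Finite K] [FiniteDimensional K V] (h : Herm σ f) (hmv : Move h)
    (e : V) (he : f e e ≠ 0) (a : V) (m : K) (ha : f a a ≠ 0) (hm : m ≠ 0) (hNm : m * σ m = 1)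
    (g : V ≃ₗ[K] V) (hg : Phi h e he g) : Phi h e he (qr h a m ha hm * g) := by
  obtain ⟨t, ht, l, hl, hN, rfl⟩ := hg
  obtain ⟨c, hc⟩ := h.norm_surj (f a a / f e e) (by rw [map_div₀, h.self_fix, h.self_fix])
  have hce : f (c • e) (c • e) = f a a := by
    rw [h.smul_left, h.smul_right, ← mul_assoc, hc]
    field_simp
  have hce0 : f (c • e) (c • e) ≠ 0 := by rw [hce]; exact ha
  obtain ⟨t0, ht0, ht0e⟩ := hmv (c • e) a hce.symm hce0
  have h1 : qr h a m ha hm = t0 * qr h e m he hm * t0⁻¹ := by
    rw [← qr_smul h e c m he hce0 hm, qr_conj h t0 (TT_isometry h t0 ht0)]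
    simp only [ht0e]
  refine ⟨t0 * (qr h e m he hm * (t0⁻¹ * t) * (qr h e m he hm)⁻¹), ?_, m * l, mul_ne_zero hm hl, ?_,
    ?_⟩
  · exact Subgroup.mul_mem _ ht0 (TT_conj h _ (qr_isometry h e m he hm hNm) _
      (Subgroup.mul_mem _ (Subgroup.inv_mem _ ht0) ht))
  · rw [map_mul]
    linear_combination (l * σ l) * hNm + hN
  · rw [h1, ← qr_mul h e m l he hm hl]
    group

/-- moving `y` to `x` by transvections and quasi-reflections -/
lemma step' [Finite K] [FiniteDimensional K V] (h : Herm σ f) (hmv : Move h)
    (e : V) (he : f e e ≠ 0) (x y : V) (hxy : f x x = f y y) (hy : f y y ≠ 0) :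
    ∃ s : V ≃ₗ[K] V, (∀ a b, f (s a) (s b) = f a b) ∧ s y = x ∧
      (∀ w, f w x = 0 → f w y = 0 → s w = w) ∧ (∀ g, Phi h e he g → Phi h e he (s * g)) := by
  -- non-isotropic difference
  have caseii : ∀ x y : V, f x x = f y y → f (x - y) (x - y) ≠ 0 →
      ∃ s : V ≃ₗ[K] V, (∀ a b, f (s a) (s b) = f a b) ∧ s y = x ∧
      (∀ w, f w x = 0 → f w y = 0 → s w = w) ∧ (∀ g, Phi h e he g → Phi h e he (s * g)) := by
    intro x y hxy hz
    set a := f y (x - y) with ha
    have hzz : f (x - y) (x - y) = - (a + σ a) := by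
      have h1 : σ a = f x y - f y y := by rw [ha, ← h.herm, h.sub_left]
      rw [h1, ha, h.sub_left, h.sub_right, h.sub_right, hxy]
      ring
    have ha0 : a ≠ 0 := by
      intro h0
      apply hz
      rw [hzz, h0, map_zero]
      ring
    have hσa0 : σ a ≠ 0 := by
      intro h0
      apply ha0
      have := congrArg σ h0
      rwa [h.invol, map_zero] at this
    have hl0 : - σ a / a ≠ 0 := div_ne_zero (neg_ne_zero.2 hσa0) ha0
    have hN : (- σ a / a) * σ (- σ a / a) = 1 := by
      rw [map_div₀, map_neg, h.invol]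
      field_simp
    refine ⟨qr h (x - y) (- σ a / a) hz hl0, qr_isometry h _ _ hz hl0 hN, ?_, ?_,
      fun g hg => Phi_qr' h hmv e he _ _ hz hl0 hN g hg⟩
    · rw [qr_apply, ← ha, hzz]
      have h3 : a + σ a ≠ 0 := by
        intro h0
        apply hz
        rw [hzz, h0, neg_zero]
      have : (-σ a / a - 1) / -(a + σ a) * a = 1 := by
        field_simp
        ring
      rw [this]
      module
    · intro w hwx hwy
      exact qr_fix h _ _ hz hl0 w (by rw [h.sub_right, hwx, hwy, sub_zero])
  by_cases hz : f (x - y) (x - y) = 0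
  · by_cases ha : f y (x - y) = 0
    · -- two quasi-reflections
      obtain ⟨b, hb⟩ := Cfsg.Agent.Lib.Helper17Herm.exists_ne_fix σ h.ne_id
      have hb0 : b ≠ 0 := by
        rintro rfl
        exact hb (map_zero σ)
      have hσb0 : σ b ≠ 0 := by
        intro h0
        apply hb0
        have := congrArg σ h0
        rwa [h.invol, map_zero] at this
      set l := σ b / b with hl
      have hl0 : l ≠ 0 := div_ne_zero hσb0 hb0
      have hσl : σ l = b / σ b := by rw [hl, map_div₀, h.invol]
      have hN : l * σ l = 1 := by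
        rw [hσl, hl]
        field_simp
      have hl1 : l ≠ 1 := by
        intro h1
        apply hb
        rw [hl, div_eq_one_iff_eq hb0] at h1
        exact h1
      have hyx : f y x = f y y := by
        rw [h.sub_right] at ha
        linear_combination ha
      have hxy' : f x y = f y y := by rw [h.herm, hyx, h.self_fix]
      obtain ⟨s2, hs2i, hs2, hs2f, hs2P⟩ := caseii x (l • y) (by
        rw [h.smul_left, h.smul_right, ← mul_assoc, hN, one_mul, hxy]) (by
        rw [h.sub_left, h.sub_right, h.sub_right, h.smul_left, h.smul_left, h.smul_right,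
          h.smul_right, hxy, hxy', hyx]
        have : f y y - σ l * f y y - (l * f y y - l * (σ l * f y y)) =
            ((1 - l) * (1 - σ l)) * f y y := by ring
        rw [this]
        refine mul_ne_zero (mul_ne_zero (sub_ne_zero.2 (Ne.symm hl1)) ?_) hy
        intro h0
        apply hl1
        have h1 : σ l = 1 := by linear_combination -h0
        have := congrArg σ h1
        rwa [h.invol, map_one] at this)
      refine ⟨s2 * qr h y l hy hl0, ?_, ?_, ?_, ?_⟩
      · intro a b
        rw [LinearEquiv.mul_apply, LinearEquiv.mul_apply, hs2i, qr_isometry h y l hy hl0 hN]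
      · rw [LinearEquiv.mul_apply, qr_self, hs2]
      · intro w hwx hwy
        rw [LinearEquiv.mul_apply, qr_fix h y l hy hl0 w hwy]
        exact hs2f w hwx (by rw [h.smul_right, hwy, mul_zero])
      · intro g hg
        rw [mul_assoc]
        exact hs2P _ (Phi_qr' h hmv e he y l hy hl0 hN g hg)
    · obtain ⟨t, ht, htx, htf⟩ := single_move h y x hxy hz ha
      exact ⟨t, TT_isometry h t ht, htx, fun w hwx hwy => htf w (by
        rw [h.sub_right, hwx, hwy, sub_zero]), fun g hg => Phi_TT h e he t g ht hg⟩
  · exact caseii x y hxy hz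

theorem Phi_all' [Finite K] [FiniteDimensional K V] (h : Herm σ f) (hmv : Move h)
    (e : V) (he : f e e ≠ 0) : ∀ (d : ℕ) (Y : Submodule K V), Good h Y →
    finrank K (h.perp (Y : Set V)) ≤ d → ∀ g : V ≃ₗ[K] V, (∀ a b, f (g a) (g b) = f a b) →
    (∀ y ∈ Y, g y = y) → Phi h e he g := by
  intro d
  induction d with
  | zero =>
    intro Y hY hd g _ hgY
    have hbot : h.perp (Y : Set V) = ⊥ := Submodule.finrank_eq_zero.1 (by omega)
    have hg1 : g = 1 := by
      ext w
      obtain ⟨y, hy, x, hx, rfl⟩ := hY w
      rw [hbot, Submodule.mem_bot] at hx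
      rw [hx, add_zero, hgY y hy]
      rfl
    exact ⟨1, Subgroup.one_mem _, 1, one_ne_zero, by simp, by rw [qr_one, hg1, mul_one]⟩
  | succ d ih =>
    intro Y hY hd g hg hgY
    by_cases hbot : h.perp (Y : Set V) = ⊥
    · exact ih Y hY (by rw [hbot]; simp) g hg hgY
    · obtain ⟨e', he', hee'⟩ := exists_ns_perp h hY hbot
      have hge' : g e' ∈ h.perp (Y : Set V) := by
        intro y hy
        rw [← hgY y hy, hg]
        exact he' y hy
      obtain ⟨s, hsi, hse, hsf, hsP⟩ := step' h hmv e he (g e') e' (hg e' e') hee'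
      have hsY : ∀ y ∈ Y, s y = y := fun y hy =>
        hsf y (h.swap_zero (hge' y hy)) (h.swap_zero (he' y hy))
      have hsinv : ∀ w, s⁻¹ (s w) = w := fun w => s.symm_apply_apply w
      have hsinv' : ∀ w, s (s⁻¹ w) = w := fun w => s.apply_symm_apply w
      have key := ih (Y ⊔ Submodule.span K {e'}) (good_sup h hY e' he' hee') (by
        have hlt : h.perp ((Y ⊔ Submodule.span K {e'} : Submodule K V) : Set V) <
            h.perp (Y : Set V) := by
          refine lt_of_le_of_ne ?_ ?_
          · intro x hx y hy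
            exact hx y (Submodule.mem_sup_left hy)
          · intro heq
            rw [← heq] at he'
            exact hee' (he' e' (Submodule.mem_sup_right (Submodule.mem_span_singleton_self e')))
        have := Submodule.finrank_lt_finrank_of_lt hlt
        omega) (s⁻¹ * g) (by
          intro a b
          rw [LinearEquiv.mul_apply, LinearEquiv.mul_apply, ← hsi, hsinv', hsinv', hg]) (by
          intro y hy
          obtain ⟨y', hy', z, hz, rfl⟩ := Submodule.mem_sup.1 hy
          obtain ⟨c, rfl⟩ := Submodule.mem_span_singleton.1 hz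
          rw [LinearEquiv.mul_apply, map_add, map_add, map_smul, map_smul, hgY y' hy', ← hse, hsinv]
          conv_lhs => rw [← hsY y' hy', hsinv])
      have := hsP _ key
      rwa [← mul_assoc, mul_inv_cancel, one_mul] at this

/-- the special unitary group is generated by transvections -/
theorem mem_TT_of_det_one' [Finite K] [FiniteDimensional K V] (h : Herm σ f)
    (hmv : Move h) (hpos : 0 < finrank K V) (g : V ≃ₗ[K] V) (hg : ∀ a b, f (g a) (g b) = f a b)
    (hdet : LinearMap.det (g : V →ₗ[K] V) = 1) : g ∈ TT h := by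
  obtain ⟨e, -, he⟩ := h.exists_perp ∅ (by simpa using hpos) 1 (map_one σ)
  have he0 : f e e ≠ 0 := by rw [he]; exact one_ne_zero
  obtain ⟨t, ht, l, hl, hN, rfl⟩ := Phi_all' h hmv e he0 _ ⊥ (good_bot h) le_rfl g hg (by
    intro y hy
    rw [Submodule.mem_bot] at hy
    rw [hy, map_zero])
  have h1 : ((t * qr h e l he0 hl : V ≃ₗ[K] V) : V →ₗ[K] V) =
      (t : V →ₗ[K] V) * ((qr h e l he0 hl : V ≃ₗ[K] V) : V →ₗ[K] V) := rfl
  rw [h1, map_mul, TT_det h t ht, qr_det, one_mul] at hdet
  subst hdet
  rw [qr_one, mul_one]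
  exact ht


/-- the special unitary group is generated by transvections, in dimension at least three, except
in dimension three over the field with four elements. -/
theorem mem_TT_of_det_one_small [Finite K] [FiniteDimensional K V] (h : Herm σ f)
    (hdim : 3 ≤ finrank K V) (hex : 4 ≤ finrank K V ∨ ∃ d, σ d = d ∧ d ≠ 0 ∧ d ≠ 1)
    (g : V ≃ₗ[K] V) (hg : ∀ a b, f (g a) (g b) = f a b)
    (hdet : LinearMap.det (g : V →ₗ[K] V) = 1) : g ∈ TT h :=
  mem_TT_of_det_one' h (TT_move' h hdim hex) (by omega) g hg hdet

end Cfsg.Agent.Lib.Helper17SUGen
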