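import Cfsg.Agent.S0780
import Cfsg.Agent.S0781

set_option autoImplicit false
open Cfsg

namespace Cfsg.Agent.Lib.Helper17SUPrim

open scoped Pointwise
open Matrix Cfsg.Agent.Lib.Helper17HermC Cfsg.Agent.Lib.Helper17Heis Cfsg.Agent.Lib.Helper17UWitt
  Cfsg.Agent.Lib.Helper95Herm Cfsg.Agent.Lib.Helper95SU Cfsg.Agent.Lib.Helper95Basic
  Cfsg.Agent.Lib.Helper17SUGen Cfsg.Agent.Lib.Helper7Herm Cfsg.Agent.S0780 Cfsg.Agent.S0781

section Abstract

variable {K V : Type*} [Field K] [AddCommGroup V] [Module K V] {σ : K →+* K} {f : V → V → K}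

theorem sig_ne_zero (h : Herm σ f) {a : K} (ha : a ≠ 0) : σ a ≠ 0 := by
  intro h0
  apply ha
  have := congrArg σ h0
  rwa [h.invol, map_zero] at this

/-- making a vector isotropic by adding a multiple of an isotropic vector -/
theorem exists_iso_add (h : Herm σ f) (x y : V) (hy : f y y = 0) (hxy : f x y ≠ 0) :
    ∃ l : K, f (x + l • y) (x + l • y) = 0 := by
  obtain ⟨e, he⟩ := h.trace_surj (- f x x) (by rw [map_neg, h.self_fix])
  have hyx : f y x ≠ 0 := h.swap_ne hxy
  refine ⟨e / f y x, ?_⟩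
  have h1 : σ (e / f y x) * f x y = σ e := by
    rw [map_div₀, ← h.herm x y]
    field_simp
  have h2 : e / f y x * f y x = e := by field_simp
  rw [h.add_left, h.add_right, h.add_right, h.smul_left, h.smul_left, h.smul_right, h.smul_right,
    hy, h1, h2]
  linear_combination he

/-- a third isotropic vector in a hyperbolic line -/
theorem exists_iso_comb (h : Herm σ f) (v r : V) (hv : f v v = 0) (hr : f r r = 0)
    (hvr : f v r ≠ 0) : ∃ l : K, l ≠ 0 ∧ f (v + l • r) (v + l • r) = 0 := by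
  obtain ⟨z, hz0, hz⟩ := h.exists_z
  have hrv : f r v ≠ 0 := h.swap_ne hvr
  refine ⟨z / f r v, div_ne_zero hz0 hrv, ?_⟩
  have h1 : σ (z / f r v) * f v r = σ z := by
    rw [map_div₀, ← h.herm v r]
    field_simp
  have h2 : z / f r v * f r v = z := by field_simp
  rw [h.add_left, h.add_right, h.add_right, h.smul_left, h.smul_left, h.smul_right, h.smul_right,
    hv, hr, h1, h2]
  linear_combination hz

/-- an isotropic vector orthogonal to neither of two given isotropic vectors -/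
theorem exists_iso_both (h : Herm σ f) (v r : V) (hv0 : v ≠ 0) (hr0 : r ≠ 0) (hv : f v v = 0)
    (hr : f r r = 0) : ∃ s, f s s = 0 ∧ f s v ≠ 0 ∧ f s r ≠ 0 := by
  by_cases hvr : f v r = 0
  · obtain ⟨x, -, hx1, hx2⟩ := Cfsg.Agent.Lib.Helper95Sp.exists_both_ne_zero ⊤ (h.fl v) (h.fl r)
      (by obtain ⟨x, hx⟩ := h.nondeg v hv0; exact ⟨x, trivial, hx⟩)
      (by obtain ⟨x, hx⟩ := h.nondeg r hr0; exact ⟨x, trivial, hx⟩)
    rw [Herm.fl_apply] at hx1 hx2
    obtain ⟨l, hl⟩ := exists_iso_add h x v hv hx1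
    refine ⟨x + l • v, hl, ?_, ?_⟩
    · rw [h.add_left, h.smul_left, hv, mul_zero, add_zero]; exact hx1
    · rw [h.add_left, h.smul_left, hvr, mul_zero, add_zero]; exact hx2
  · obtain ⟨l, hl0, hl⟩ := exists_iso_comb h v r hv hr hvr
    refine ⟨v + l • r, hl, ?_, ?_⟩
    · rw [h.add_left, h.smul_left, hv, zero_add]
      exact mul_ne_zero hl0 (h.swap_ne hvr)
    · rw [h.add_left, h.smul_left, hr, mul_zero, add_zero]; exact hvr

/-- an isotropic vector orthogonal to `v` but not to `y` -/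
theorem exists_iso_perp [FiniteDimensional K V] (h : Herm σ f) (v y : V)
    (hy : y ∉ Submodule.span K ({v} : Set V)) (hyy : f y y = 0) (hyv : f y v = 0) :
    ∃ z, f z z = 0 ∧ f z v = 0 ∧ f z y ≠ 0 := by
  obtain ⟨x, hx, hxy⟩ := h.exists_perp_ne _ y hy
  have hxv : f x v = 0 := hx v (by simp)
  obtain ⟨l, hl⟩ := exists_iso_add h x y hyy hxy
  refine ⟨x + l • y, hl, ?_, ?_⟩
  · rw [h.add_left, h.smul_left, hxv, hyv, mul_zero, add_zero]
  · rw [h.add_left, h.smul_left, hyy, mul_zero, add_zero]; exact hxy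

/-- the data of a Heisenberg element moving `w` to `w'` -/
theorem heis_data (h : Herm σ f) (s w w' : V) (hw : f w w = 0) (hw' : f w' w' = 0)
    (h1 : f w s = 1) (h2 : f w' s = 1) :
    f (w' - w) s = 0 ∧ f w (w' - w) + σ (f w (w' - w)) + f (w' - w) (w' - w) = 0 ∧
      E f s (w' - w) (f w (w' - w)) w = w' ∧ (f s s = 0 → E f s (w' - w) (f w (w' - w)) s = s) := by
  have h3 : f (w' - w) s = 0 := by rw [h.sub_left, h1, h2, sub_self]
  refine ⟨h3, ?_, ?_, ?_⟩
  · rw [← h.herm (w' - w) w]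
    simp only [h.sub_left, h.sub_right, hw, hw']
    ring
  · unfold E
    rw [h1]
    module
  · intro hs
    unfold E
    rw [hs, h.swap_zero h3]
    module

end Abstract

section Concrete

variable {F : Type*} [Field F] {q : ℕ} {n : ℕ}

local notation "H" => Cfsg.hermForm n F q

theorem Th_isom (A : ↥(Cfsg.SU n F q)) (a b : Fin n → F) :
    H (Th n F q A a) (Th n F q A b) = H a b := A.2 a b

theorem Th_mul (A B : ↥(Cfsg.SU n F q)) (x : Fin n → F) :
    Th n F q (A * B) x = Th n F q A (Th n F q B x) := by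
  rw [map_mul]; rfl

theorem Th_one (x : Fin n → F) : Th n F q 1 x = x := by
  rw [map_one]; rfl

theorem Th_inv_apply (A : ↥(Cfsg.SU n F q)) (x : Fin n → F) :
    Th n F q A⁻¹ (Th n F q A x) = x := by
  rw [← Th_mul, inv_mul_cancel, Th_one]

theorem Th_apply_inv (A : ↥(Cfsg.SU n F q)) (x : Fin n → F) :
    Th n F q A (Th n F q A⁻¹ x) = x := by
  rw [← Th_mul, mul_inv_cancel, Th_one]

theorem Th_ext {A B : ↥(Cfsg.SU n F q)} (h : ∀ x, Th n F q A x = Th n F q B x) : A = B :=
  Th_injective n (LinearEquiv.ext h)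

/-- The isotropic points. -/
def Om (n : ℕ) (F : Type*) [Field F] (q : ℕ) : Type _ :=
  {W : Submodule F (Fin n → F) //
    ∃ v, v ≠ 0 ∧ Cfsg.hermForm n F q v v = 0 ∧ W = Submodule.span F {v}}

/-- The point spanned by an isotropic vector. -/
def pt (v : Fin n → F) (hv0 : v ≠ 0) (hv : H v v = 0) : Om n F q :=
  ⟨Submodule.span F {v}, v, hv0, hv, rfl⟩

theorem Th_ne_zero (A : ↥(Cfsg.SU n F q)) {v : Fin n → F} (hv0 : v ≠ 0) : Th n F q A v ≠ 0 := by
  intro h
  apply hv0
  rw [← Th_inv_apply A v, h, map_zero]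

theorem Th_iso (A : ↥(Cfsg.SU n F q)) {v : Fin n → F} (hv : H v v = 0) :
    H (Th n F q A v) (Th n F q A v) = 0 := by rw [Th_isom, hv]

noncomputable instance actOm : MulAction ↥(Cfsg.SU n F q) (Om n F q) where
  smul g W := ⟨W.1.map ((Th n F q g : (Fin n → F) ≃ₗ[F] (Fin n → F)) : (Fin n → F) →ₗ[F] (Fin n → F)),
    by
      obtain ⟨v, hv0, hv, hW⟩ := W.2
      refine ⟨Th n F q g v, Th_ne_zero g hv0, Th_iso g hv, ?_⟩
      rw [hW, Submodule.map_span, Set.image_singleton]
      rfl⟩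
  one_smul W := by
    apply Subtype.ext
    change W.1.map _ = W.1
    rw [map_one]
    exact Submodule.map_id _
  mul_smul g h W := by
    apply Subtype.ext
    change W.1.map _ = (W.1.map _).map _
    rw [map_mul, ← Submodule.map_comp]
    rfl

theorem smul_val (g : ↥(Cfsg.SU n F q)) (W : Om n F q) :
    (g • W).1 = W.1.map ((Th n F q g : (Fin n → F) ≃ₗ[F] (Fin n → F)) :
      (Fin n → F) →ₗ[F] (Fin n → F)) := rfl

theorem smul_pt (g : ↥(Cfsg.SU n F q)) (v : Fin n → F) (hv0 : v ≠ 0) (hv : H v v = 0) :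
    g • pt v hv0 hv = pt (Th n F q g v) (Th_ne_zero g hv0) (Th_iso g hv) := by
  apply Subtype.ext
  rw [smul_val]
  change (Submodule.span F {v}).map _ = Submodule.span F {Th n F q g v}
  rw [Submodule.map_span, Set.image_singleton]
  rfl

theorem pt_congr {v w : Fin n → F} (hv0 : v ≠ 0) (hv : H v v = 0) (hw0 : w ≠ 0) (hw : H w w = 0)
    (c : F) (hc : c ≠ 0) (h : v = c • w) : pt v hv0 hv = pt w hw0 hw := by
  apply Subtype.ext
  change Submodule.span F {v} = Submodule.span F {w}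
  rw [h]
  exact Submodule.span_singleton_smul_eq (IsUnit.mk0 c hc) w

theorem exists_pt (P : Om n F q) : ∃ (v : Fin n → F) (hv0 : v ≠ 0) (hv : H v v = 0),
    P = pt v hv0 hv := by
  obtain ⟨W, v, hv0, hv, rfl⟩ := P
  exact ⟨v, hv0, hv, rfl⟩

end Concrete

section Fin

variable {F : Type*} [Field F] [Fintype F] {q : ℕ} (hF : Fintype.card F = q ^ 2) {n : ℕ}

local notation "H" => Cfsg.hermForm n F q

/-- Transvections as elements of `SU`. -/
def TSU (v : Fin n → F) (z : F) (hv : H v v = 0) (hz : z + sig hF z = 0) : ↥(Cfsg.SU n F q) :=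
  ⟨⟨Cfsg.unitaryTransvection n q v z, by
      rw [unitaryTransvection_det, hv, mul_zero, add_zero]⟩, by
      intro x y
      change Cfsg.hermForm n F q (Cfsg.unitaryTransvection n q v z *ᵥ x)
        (Cfsg.unitaryTransvection n q v z *ᵥ y) = _
      rw [unitaryTransvection_mulVec, unitaryTransvection_mulVec,
        ← (herm_concrete hF n).utv_apply v z hv, ← (herm_concrete hF n).utv_apply v z hv]
      exact (herm_concrete hF n).utv_isometry v z hv hz x y⟩

theorem Th_TSU (v : Fin n → F) (z : F) (hv : H v v = 0) (hz : z + sig hF z = 0) (x : Fin n → F) :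
    Th n F q (TSU hF v z hv hz) x = x + (z * H x v) • v :=
  unitaryTransvection_mulVec n v z x

theorem Th_ESU (v u : Fin n → F) (a : F) (hv : H v v = 0) (hu : H u v = 0)
    (ha : a + sig hF a + H u u = 0) (x : Fin n → F) :
    Th n F q (ESU hF n v u a hv hu ha) x = E (Cfsg.hermForm n F q) v u a x :=
  Emat_mulVec n v u a x

include hF in
/-- The stabiliser of an isotropic vector `s` is transitive on the isotropic points not orthogonal
to `s`. -/
theorem T1 (s w w' : Fin n → F) (hs : H s s = 0) (hw : H w w = 0) (hw' : H w' w' = 0)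
    (h1 : H w s ≠ 0) (h2 : H w' s ≠ 0) :
    ∃ g : ↥(Cfsg.SU n F q), Th n F q g s = s ∧ ∃ c : F, c ≠ 0 ∧ Th n F q g w = c • w' := by
  have hH := herm_concrete hF n
  set w1 := (H w s)⁻¹ • w with hw1
  set w2 := (H w' s)⁻¹ • w' with hw2
  have e1 : H w1 s = 1 := by rw [hw1, hH.smul_left, inv_mul_cancel₀ h1]
  have e2 : H w2 s = 1 := by rw [hw2, hH.smul_left, inv_mul_cancel₀ h2]
  have n1 : H w1 w1 = 0 := by rw [hw1, hH.smul_left, hH.smul_right, hw]; ring
  have n2 : H w2 w2 = 0 := by rw [hw2, hH.smul_left, hH.smul_right, hw']; ring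
  obtain ⟨d1, d2, d3, d4⟩ := heis_data hH s w1 w2 n1 n2 e1 e2
  refine ⟨ESU hF n s (w2 - w1) (H w1 (w2 - w1)) hs d1 d2, ?_, H w s * (H w' s)⁻¹,
    mul_ne_zero h1 (inv_ne_zero h2), ?_⟩
  · rw [Th_ESU]; exact d4 hs
  · have h3 : w = H w s • w1 := by rw [hw1, smul_smul, mul_inv_cancel₀ h1, one_smul]
    conv_lhs => rw [h3]
    rw [map_smul, Th_ESU, d3, hw2, smul_smul]

include hF in
theorem T1_pt (s w w' : Fin n → F) (hs0 : s ≠ 0) (hw0 : w ≠ 0) (hw0' : w' ≠ 0) (hs : H s s = 0)
    (hw : H w w = 0) (hw' : H w' w' = 0) (h1 : H w s ≠ 0) (h2 : H w' s ≠ 0) :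
    ∃ g : ↥(Cfsg.SU n F q), g • pt s hs0 hs = pt s hs0 hs ∧ g • pt w hw0 hw = pt w' hw0' hw' := by
  obtain ⟨g, hgs, c, hc, hgw⟩ := T1 hF s w w' hs hw hw' h1 h2
  refine ⟨g, ?_, ?_⟩
  · rw [smul_pt]
    exact pt_congr _ _ _ _ 1 one_ne_zero (by rw [hgs, one_smul])
  · rw [smul_pt]
    exact pt_congr _ _ _ _ c hc hgw

include hF in
theorem pretrans : MulAction.IsPretransitive ↥(Cfsg.SU n F q) (Om n F q) := by
  have hH := herm_concrete hF n
  refine ⟨fun P R => ?_⟩
  obtain ⟨v, hv0, hv, rfl⟩ := exists_pt P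
  obtain ⟨r, hr0, hr, rfl⟩ := exists_pt R
  obtain ⟨s, hs, hsv, hsr⟩ := exists_iso_both hH v r hv0 hr0 hv hr
  have hs0 : s ≠ 0 := by
    rintro rfl
    exact hsv (hH.zero_left v)
  obtain ⟨g, -, hg⟩ := T1_pt hF s v r hs0 hv0 hr0 hs hv hr (hH.swap_ne hsv) (hH.swap_ne hsr)
  exact ⟨g, hg⟩

include hF in
theorem blockB {B : Set (Om n F q)} (hB : MulAction.IsBlock ↥(Cfsg.SU n F q) B)
    (v w r : Fin n → F) (hv0 : v ≠ 0) (hw0 : w ≠ 0) (hr0 : r ≠ 0) (hv : H v v = 0)
    (hw : H w w = 0) (hr : H r r = 0) (hvB : pt v hv0 hv ∈ B) (hwB : pt w hw0 hw ∈ B)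
    (hwv : H w v ≠ 0) (hrv : H r v ≠ 0) : pt r hr0 hr ∈ B := by
  obtain ⟨g, hg1, hg2⟩ := T1_pt hF v w r hv0 hw0 hr0 hv hw hr hwv hrv
  have h3 : g • B = B := hB.smul_eq_of_mem hvB (by rw [hg1]; exact hvB)
  rw [← h3, ← hg2]
  exact Set.smul_mem_smul_set hwB

include hF in
theorem blockC {B : Set (Om n F q)} (hB : MulAction.IsBlock ↥(Cfsg.SU n F q) B)
    (v w : Fin n → F) (hv0 : v ≠ 0) (hw0 : w ≠ 0) (hv : H v v = 0)
    (hw : H w w = 0) (hvB : pt v hv0 hv ∈ B) (hwB : pt w hw0 hw ∈ B)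
    (hwv : H w v ≠ 0) : B = Set.univ := by
  have hH := herm_concrete hF n
  rw [Set.eq_univ_iff_forall]
  intro R
  obtain ⟨r, hr0, hr, rfl⟩ := exists_pt R
  by_cases hrv : H r v = 0
  · obtain ⟨s, hs, hsv, hsr⟩ := exists_iso_both hH v r hv0 hr0 hv hr
    have hs0 : s ≠ 0 := by
      rintro rfl
      exact hsv (hH.zero_left v)
    have hsB : pt s hs0 hs ∈ B := blockB hF hB v w s hv0 hw0 hs0 hv hw hs hvB hwB hwv hsv
    exact blockB hF hB s v r hs0 hv0 hr0 hs hv hr hsB hvB (hH.swap_ne hsv) (hH.swap_ne hsr)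
  · exact blockB hF hB v w r hv0 hw0 hr0 hv hw hr hvB hwB hwv hrv

include hF in
/-- `SU` is primitive on the isotropic points. -/
theorem prim : MulAction.IsPreprimitive ↥(Cfsg.SU n F q) (Om n F q) := by
  have hH := herm_concrete hF n
  have := pretrans hF (n := n)
  refine ⟨fun {B} hB => ?_⟩
  by_cases hsub : B.Subsingleton
  · exact Or.inl hsub
  right
  rw [Set.not_subsingleton_iff] at hsub
  obtain ⟨P, hP, Q, hQ, hPQ⟩ := hsub
  obtain ⟨v, hv0, hv, rfl⟩ := exists_pt P
  obtain ⟨y, hy0, hy, rfl⟩ := exists_pt Q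
  by_cases hyv : H y v = 0
  · have hyspan : y ∉ Submodule.span F ({v} : Set (Fin n → F)) := by
      intro hmem
      obtain ⟨c, rfl⟩ := Submodule.mem_span_singleton.1 hmem
      have hc : c ≠ 0 := by
        rintro rfl
        exact hy0 (zero_smul _ _)
      exact hPQ (pt_congr _ _ _ _ c hc rfl).symm
    obtain ⟨z, hz, hzv, hzy⟩ := exists_iso_perp hH v y hyspan hy hyv
    obtain ⟨c, hc0, hc⟩ := hH.exists_z
    set t := TSU hF z c hz hc with ht
    have htv : t • pt v hv0 hv = pt v hv0 hv := by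
      rw [smul_pt]
      refine pt_congr _ _ _ _ 1 one_ne_zero ?_
      rw [ht, Th_TSU, hH.swap_zero hzv, mul_zero, zero_smul, add_zero, one_smul]
    have htB : t • B = B := hB.smul_eq_of_mem hP (by rw [htv]; exact hP)
    have hty : t • pt y hy0 hy ∈ B := by
      rw [← htB]
      exact Set.smul_mem_smul_set hQ
    rw [smul_pt] at hty
    refine blockC hF hB y (Th n F q t y) hy0 _ hy _ hQ hty ?_
    rw [ht, Th_TSU, hH.add_left, hH.smul_left, hy, zero_add]
    exact mul_ne_zero (mul_ne_zero hc0 (hH.swap_ne hzy)) hzy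
  · exact blockC hF hB v y hv0 hy0 hv hy hP hQ hyv

include hF in
theorem Om_iso (P : Om n F q) : ∀ x ∈ P.1, ∀ y ∈ P.1, H x y = 0 := by
  have hH := herm_concrete hF n
  obtain ⟨W, v, hv0, hv, rfl⟩ := P
  intro x hx y hy
  obtain ⟨a, rfl⟩ := Submodule.mem_span_singleton.1 hx
  obtain ⟨b, rfl⟩ := Submodule.mem_span_singleton.1 hy
  rw [hH.smul_left, hH.smul_right, hv]
  ring

/-- The root subgroup of an isotropic point. -/
def RT (P : Om n F q) : Subgroup ↥(Cfsg.SU n F q) where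
  carrier := {A | (∀ x, Th n F q A x - x ∈ P.1) ∧
    ∀ x, (∀ w ∈ P.1, H x w = 0) → Th n F q A x = x}
  one_mem' := by
    refine ⟨fun x => ?_, fun x _ => Th_one x⟩
    rw [Th_one, sub_self]
    exact Submodule.zero_mem _
  mul_mem' := by
    rintro A B ⟨hA1, hA2⟩ ⟨hB1, hB2⟩
    refine ⟨fun x => ?_, fun x hx => ?_⟩
    · rw [Th_mul]
      have : Th n F q A (Th n F q B x) - x
          = (Th n F q A (Th n F q B x) - Th n F q B x) + (Th n F q B x - x) := by abel
      rw [this]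
      exact Submodule.add_mem _ (hA1 _) (hB1 _)
    · rw [Th_mul, hB2 x hx, hA2 x hx]
  inv_mem' := by
    rintro A ⟨hA1, hA2⟩
    refine ⟨fun x => ?_, fun x hx => ?_⟩
    · have h1 := hA1 (Th n F q A⁻¹ x)
      rw [Th_apply_inv] at h1
      have : Th n F q A⁻¹ x - x = - (x - Th n F q A⁻¹ x) := by abel
      rw [this]
      exact Submodule.neg_mem _ h1
    · conv_lhs => rw [← hA2 x hx]
      exact Th_inv_apply A x

omit [Fintype F] in
theorem mem_RT (P : Om n F q) (A : ↥(Cfsg.SU n F q)) :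
    A ∈ RT P ↔ (∀ x, Th n F q A x - x ∈ P.1) ∧
      ∀ x, (∀ w ∈ P.1, H x w = 0) → Th n F q A x = x := Iff.rfl

include hF in
theorem RT_comm (P : Om n F q) (A B : ↥(Cfsg.SU n F q)) (hA : A ∈ RT P) (hB : B ∈ RT P) :
    A * B = B * A := by
  have key : ∀ A B : ↥(Cfsg.SU n F q), A ∈ RT P → B ∈ RT P → ∀ x,
      Th n F q (A * B) x = x + (Th n F q A x - x) + (Th n F q B x - x) := by
    intro A B hA hB x
    have h1 : Th n F q A (Th n F q B x - x) = Th n F q B x - x :=
      hA.2 _ (fun w hw => Om_iso hF P _ (hB.1 x) w hw)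
    rw [map_sub] at h1
    rw [Th_mul]
    have h2 : Th n F q A (Th n F q B x) = Th n F q B x - x + Th n F q A x := by
      rw [← h1]; abel
    rw [h2]
    abel
  apply Th_ext
  intro x
  rw [key A B hA hB, key B A hB hA]
  abel

omit [Fintype F] in
theorem RT_conj_mem (g : ↥(Cfsg.SU n F q)) (P : Om n F q) (A : ↥(Cfsg.SU n F q)) (hA : A ∈ RT P) :
    g * A * g⁻¹ ∈ RT (g • P) := by
  refine ⟨fun x => ?_, fun x hx => ?_⟩
  · rw [Th_mul, Th_mul, smul_val]
    refine ⟨Th n F q A (Th n F q g⁻¹ x) - Th n F q g⁻¹ x, hA.1 _, ?_⟩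
    change Th n F q g _ = _
    rw [map_sub, Th_apply_inv]
  · rw [Th_mul, Th_mul, hA.2, Th_apply_inv]
    intro w hw
    rw [← Th_isom g, Th_apply_inv]
    apply hx
    rw [smul_val]
    exact ⟨w, hw, rfl⟩

omit [Fintype F] in
theorem RT_conj (g : ↥(Cfsg.SU n F q)) (P : Om n F q) : RT (g • P) = MulAut.conj g • RT P := by
  ext A
  rw [Subgroup.mem_pointwise_smul_iff_inv_smul_mem, MulAut.smul_def, ← map_inv, MulAut.conj_apply,
    inv_inv]
  constructor
  · intro hA
    have := RT_conj_mem g⁻¹ (g • P) A hA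
    rwa [inv_smul_smul, inv_inv] at this
  · intro hA
    have := RT_conj_mem g P _ hA
    have e : g * (g⁻¹ * A * g) * g⁻¹ = A := by group
    rwa [e] at this

omit [Fintype F] in
theorem transv_mem_RT (A : ↥(Cfsg.SU n F q)) (v : Fin n → F) (c : F) (hv0 : v ≠ 0) (hv : H v v = 0)
    (hA : ((A : Matrix.SpecialLinearGroup (Fin n) F) : Matrix (Fin n) (Fin n) F)
      = Cfsg.unitaryTransvection n q v c) : A ∈ RT (pt v hv0 hv) := by
  have hx : ∀ x, Th n F q A x = x + (c * H x v) • v := by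
    intro x
    rw [Th_apply, hA, unitaryTransvection_mulVec]
  refine ⟨fun x => ?_, fun x hxw => ?_⟩
  · rw [hx, add_sub_cancel_left]
    exact Submodule.smul_mem _ _ (Submodule.mem_span_singleton_self v)
  · rw [hx, hxw v (Submodule.mem_span_singleton_self v), mul_zero, zero_smul, add_zero]

/-- The Iwasawa structure. -/
def iwa (hn : 3 ≤ n) (h32 : ¬ (n = 3 ∧ q = 2)) :
    MulAction.IwasawaStructure ↥(Cfsg.SU n F q) (Om n F q) where
  T := RT
  is_comm P := ⟨⟨fun A B => Subtype.ext (RT_comm hF P A.1 B.1 A.2 B.2)⟩⟩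
  is_conj := RT_conj
  is_generator := by
    rw [eq_top_iff, ← Cfsg.Agent.S0780.result hF n hn h32, Subgroup.closure_le]
    rintro A ⟨v, c, hv, hA⟩
    by_cases hv0 : v = 0
    · have : A = 1 := by
        apply Subtype.ext
        apply Subtype.ext
        rw [hA, hv0]
        simp [Cfsg.unitaryTransvection]
      rw [this]
      exact one_mem _
    · exact (le_iSup (fun P : Om n F q => RT P) (pt v hv0 hv)) (transv_mem_RT A v c hv0 hv hA)

include hF in
/-- An element fixing every isotropic point multiplies each isotropic vector by a scalar of norm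
one. -/
theorem scalar_of_fix (A : ↥(Cfsg.SU n F q)) (h : ∀ P : Om n F q, A • P = P)
    (v : Fin n → F) (hv0 : v ≠ 0) (hv : H v v = 0) :
    ∃ l : F, Th n F q A v = l • v ∧ l * sig hF l = 1 := by
  have hH := herm_concrete hF n
  have h1 : ∀ (w : Fin n → F), w ≠ 0 → H w w = 0 → ∃ l : F, Th n F q A w = l • w := by
    intro w hw0 hw
    have h2 := congrArg Subtype.val (h (pt w hw0 hw))
    rw [smul_pt] at h2
    have h3 : Th n F q A w ∈ Submodule.span F {w} := by
      have : Th n F q A w ∈ (pt (Th n F q A w) (Th_ne_zero A hw0) (Th_iso A hw)).1 :=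
        Submodule.mem_span_singleton_self _
      rw [h2] at this
      exact this
    obtain ⟨l, hl⟩ := Submodule.mem_span_singleton.1 h3
    exact ⟨l, hl.symm⟩
  obtain ⟨r, hr, hrv, -⟩ := exists_iso_both hH v v hv0 hv0 hv hv
  have hvr : H v r ≠ 0 := hH.swap_ne hrv
  have hr0 : r ≠ 0 := by
    rintro rfl
    exact hrv (hH.zero_left v)
  obtain ⟨m, hm0, hm⟩ := exists_iso_comb hH v r hv hr hvr
  have hs0 : v + m • r ≠ 0 := by
    intro h0
    have := congrArg (fun x => H x r) h0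
    simp only [hH.add_left, hH.smul_left, hr, mul_zero, add_zero, hH.zero_left] at this
    exact hvr this
  obtain ⟨l, hl⟩ := h1 v hv0 hv
  obtain ⟨l', hl'⟩ := h1 r hr0 hr
  obtain ⟨l'', hl''⟩ := h1 _ hs0 hm
  rw [map_add, map_smul, hl, hl'] at hl''
  have e1 := congrArg (fun x => H x r) hl''
  have e2 := congrArg (fun x => H x v) hl''
  simp only [hH.add_left, hH.smul_left, hr, hv, mul_zero, add_zero, zero_add] at e1 e2
  have e3 : l = l'' := mul_right_cancel₀ hvr e1
  have e4 : l' = l'' := by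
    have : l' * (m * H r v) = l'' * (m * H r v) := by linear_combination e2
    exact mul_right_cancel₀ (mul_ne_zero hm0 hrv) this
  refine ⟨l, hl, ?_⟩
  have e5 := Th_isom A v r
  rw [hl, hl', hH.smul_left, hH.smul_right, e4, ← e3] at e5
  have : (l * sig hF l) * H v r = 1 * H v r := by linear_combination e5
  exact mul_right_cancel₀ hvr this

include hF in
theorem mem_center_of_fix (hn : 3 ≤ n) (h32 : ¬ (n = 3 ∧ q = 2)) (A : ↥(Cfsg.SU n F q))
    (h : ∀ P : Om n F q, A • P = P) : A ∈ Subgroup.center ↥(Cfsg.SU n F q) := by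
  have hH := herm_concrete hF n
  rw [Subgroup.mem_center_iff]
  intro g
  have hg : g ∈ Subgroup.closure {A : ↥(Cfsg.SU n F q) | ∃ (v : Fin n → F) (c : F),
      Cfsg.hermForm n F q v v = 0 ∧ ((A : Matrix.SpecialLinearGroup (Fin n) F) :
        Matrix (Fin n) (Fin n) F) = Cfsg.unitaryTransvection n q v c} := by
    rw [Cfsg.Agent.S0780.result hF n hn h32]
    trivial
  induction hg using Subgroup.closure_induction with
  | mem t ht =>
    obtain ⟨v, c, hv, ht⟩ := ht
    have hx : ∀ x, Th n F q t x = x + (c * H x v) • v := by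
      intro x
      rw [Th_apply, ht, unitaryTransvection_mulVec]
    by_cases hv0 : v = 0
    · have : t = 1 := by
        apply Th_ext
        intro x
        rw [hx, hv0, smul_zero, add_zero, Th_one]
      rw [this, one_mul, mul_one]
    · obtain ⟨l, hl, hN⟩ := scalar_of_fix hF A h v hv0 hv
      apply Th_ext
      intro x
      rw [Th_mul, Th_mul, hx, hx, map_add, map_smul, hl]
      have e1 : H (Th n F q A x) v = l * H x v := by
        have e2 := Th_isom A x v
        rw [hl, hH.smul_right] at e2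
        linear_combination l * e2 - H (Th n F q A x) v * hN
      rw [e1, smul_smul]
      congr 2
      ring
  | one => rw [one_mul, mul_one]
  | mul a b _ _ ha hb => rw [mul_assoc, hb, ← mul_assoc, ha, mul_assoc]
  | inv a _ ha =>
    have : a⁻¹ * A = a⁻¹ * (A * a) * a⁻¹ := by group
    rw [this, ← ha]
    group

end Fin

end Cfsg.Agent.Lib.Helper17SUPrim
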