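import Mathlib
import Cfsg.Prelude.Def_ClassicalGeometry
import Cfsg.Agent.Lib.Helper17Symp
import Cfsg.Agent.Lib.Helper17Symp2
import Cfsg.Agent.S0749

set_option autoImplicit false
open Cfsg

namespace Cfsg.Agent.Lib.Helper17SpCount

open Matrix Cfsg.Agent.Lib.Helper17Symp Cfsg.Agent.Lib.Helper17Symp2

/-- Orbit counting for a subgroup containing the point stabiliser. -/
theorem card_mul_orbit {G X : Type*} [Group G] [Finite G] [MulAction G X] (P : Subgroup G) (x0 : X)
    (h : MulAction.stabilizer G x0 ≤ P) :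
    Nat.card P * (MulAction.orbit G x0).ncard = Nat.card G * (MulAction.orbit P x0).ncard := by
  have h1 := Subgroup.index_mul_card (MulAction.stabilizer G x0)
  have h2 := Subgroup.index_mul_card (MulAction.stabilizer P x0)
  rw [MulAction.index_stabilizer] at h1 h2
  have h3 : Nat.card (MulAction.stabilizer P x0) = Nat.card (MulAction.stabilizer G x0) := by
    have e : MulAction.stabilizer P x0 = (MulAction.stabilizer G x0).subgroupOf P := by
      ext g
      simp [Subgroup.mem_subgroupOf, MulAction.mem_stabilizer_iff, Subgroup.smul_def]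
    rw [e]
    exact Nat.card_congr (Subgroup.subgroupOfEquivOfLe h).toEquiv
  rw [h3] at h2
  rw [← h1, ← h2]
  ring

section Abstract

variable {K V : Type*} [Field K] [AddCommGroup V] [Module K V] (B : LinearMap.BilinForm K V)

/-- Linearly independent families spanning a totally isotropic subspace. -/
def IsoFam (k : ℕ) : Set (Fin k → V) := {s | LinearIndependent K s ∧ ∀ i j, B (s i) (s j) = 0}

/-- Peeling off the first vector. -/
def equivIsoFam (hA : B.IsAlt) (k : ℕ) : IsoFam B (k + 1) ≃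
    Σ s : IsoFam B k, {v : V // (∀ i, B (s.1 i) v = 0) ∧ v ∉ Submodule.span K (Set.range s.1)} where
  toFun s := ⟨⟨Fin.tail s.1, (linearIndependent_finSucc.mp s.2.1).1,
      fun i j => s.2.2 i.succ j.succ⟩,
    ⟨s.1 0, fun i => s.2.2 i.succ 0, (linearIndependent_finSucc.mp s.2.1).2⟩⟩
  invFun s := ⟨Fin.cons s.2.1 s.1.1, linearIndependent_finCons.mpr ⟨s.1.2.1, s.2.2.2⟩, by
    intro i j
    refine Fin.cases ?_ (fun i => ?_) i <;> refine Fin.cases ?_ (fun j => ?_) j
    · simpa using hA _
    · simp only [Fin.cons_zero, Fin.cons_succ]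
      rw [← neg_eq_zero, hA.neg_eq]
      exact s.2.2.1 j
    · simpa using s.2.2.1 i
    · simpa using s.1.2.2 i j⟩
  left_inv s := by simp only [Fin.cons_self_tail, Subtype.coe_eta]
  right_inv := fun ⟨⟨_, _⟩, ⟨_, _⟩⟩ => rfl

theorem card_fiber [Finite K] [Finite V] (hB : B.Nondegenerate) (k : ℕ) (s : IsoFam B k) :
    Nat.card {v : V // (∀ i, B (s.1 i) v = 0) ∧ v ∉ Submodule.span K (Set.range s.1)}
      = Nat.card K ^ (Module.finrank K V - k) - Nat.card K ^ k := by
  have : FiniteDimensional K V := Module.Finite.of_finite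
  set U := Submodule.span K (Set.range s.1) with hU
  have hUk : Module.finrank K U = k := by
    rw [hU, finrank_span_eq_card s.2.1, Fintype.card_fin]
  have hmem : ∀ v, (∀ i, B (s.1 i) v = 0) ↔ v ∈ B.orthogonal U := by
    intro v
    rw [LinearMap.BilinForm.mem_orthogonal_iff]
    constructor
    · intro h u hu
      induction hu using Submodule.span_induction with
      | mem x hx =>
        obtain ⟨i, rfl⟩ := hx
        exact h i
      | zero => simp
      | add x y _ _ hx hy =>
        rw [map_add, LinearMap.add_apply, hx, hy, add_zero]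
      | smul a x _ hx =>
        rw [map_smul, LinearMap.smul_apply, hx, smul_zero]
    · intro h i
      exact h _ (Submodule.subset_span ⟨i, rfl⟩)
  have hle : U ≤ B.orthogonal U := by
    rw [hU, Submodule.span_le]
    rintro _ ⟨j, rfl⟩
    rw [SetLike.mem_coe, ← hmem]
    intro i
    exact s.2.2 i j
  have e : {v : V | (∀ i, B (s.1 i) v = 0) ∧ v ∉ U} = (B.orthogonal U : Set V) \ (U : Set V) := by
    ext v
    simp only [Set.mem_ofPred_eq, Set.mem_sdiff, SetLike.mem_coe, hmem]
  change Nat.card ↥{v : V | (∀ i, B (s.1 i) v = 0) ∧ v ∉ U} = _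
  rw [e, Nat.card_coe_set_eq, Set.ncard_sdiff hle (Set.toFinite _), ← Nat.card_coe_set_eq,
    ← Nat.card_coe_set_eq]
  have h1 : Nat.card ↥(B.orthogonal U : Set V) = Nat.card K ^ (Module.finrank K V - k) := by
    rw [← hUk, ← LinearMap.BilinForm.finrank_orthogonal hB U]
    exact Module.natCard_eq_pow_finrank
  have h2 : Nat.card ↥(U : Set V) = Nat.card K ^ k := by
    conv_rhs => rw [← hUk]
    exact Module.natCard_eq_pow_finrank
  rw [h1, h2]

theorem card_IsoFam [Finite K] [Finite V] (hB : B.Nondegenerate) (hA : B.IsAlt) (k : ℕ) :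
    Nat.card (IsoFam B k)
      = ∏ i ∈ Finset.range k, (Nat.card K ^ (Module.finrank K V - i) - Nat.card K ^ i) := by
  induction k with
  | zero =>
    have : Unique (IsoFam B 0) :=
      { default := ⟨fun i => i.elim0, linearIndependent_empty_type, fun i => i.elim0⟩
        uniq := fun s => Subtype.ext (funext fun i => i.elim0) }
    simp
  | succ k ih =>
    have : Fintype (IsoFam B k) := Fintype.ofFinite _
    rw [Nat.card_congr (equivIsoFam B hA k), Nat.card_sigma, Finset.prod_range_succ, ← ih]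
    rw [Finset.sum_congr rfl (fun s _ => card_fiber B hB k s)]
    simp [Nat.card_eq_fintype_card]

end Abstract

section Concrete

variable {F : Type*} [Field F] (m : ℕ)

theorem sB_isAlt : (sB (F := F) m).IsAlt := fun v => by rw [sB_apply, sympForm_self]

theorem sB_nondeg : (sB (F := F) m).Nondegenerate := by
  constructor
  · intro x hx
    apply sympForm_nondeg m x
    intro y
    rw [← sB_apply]
    exact hx y
  · intro y hy
    apply sympForm_nondeg m y
    intro x
    rw [sympForm_swap, ← sB_apply, hy x, neg_zero]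

/-- Witt's lemma for families of vectors, in matrix form. -/
theorem witt_fam {κ : Type*} (x y : κ → (Fin m ⊕ Fin m → F)) (hx : LinearIndependent F x)
    (hy : LinearIndependent F y)
    (h : ∀ i j, sympForm m F (x i) (x j) = sympForm m F (y i) (y j)) :
    ∃ g : Matrix.symplecticGroup (Fin m) F,
      ∀ i, (g : Matrix (Fin m ⊕ Fin m) (Fin m ⊕ Fin m) F) *ᵥ x i = y i := by
  set bx := Module.Basis.span hx with hbx
  set by' := Module.Basis.span hy with hby
  set φ := bx.equiv by' (Equiv.refl κ) with hφ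
  have hφb : ∀ i, ((φ (bx i) : Submodule.span F (Set.range y)) : Fin m ⊕ Fin m → F) = y i := by
    intro i
    rw [hφ, Module.Basis.equiv_apply, Equiv.refl_apply, hby, Module.Basis.span_apply]
  have hbxi : ∀ i, ((bx i : Submodule.span F (Set.range x)) : Fin m ⊕ Fin m → F) = x i := by
    intro i
    rw [hbx, Module.Basis.span_apply]
  have key : ((sB (F := F) m).restrict (Submodule.span F (Set.range y))).comp
      (φ : _ →ₗ[F] _) (φ : _ →ₗ[F] _) = (sB (F := F) m).restrict (Submodule.span F (Set.range x)) := by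
    apply LinearMap.BilinForm.ext_basis bx
    intro i j
    simp only [LinearMap.BilinForm.comp_apply, LinearMap.BilinForm.restrict_apply,
      LinearEquiv.coe_coe, LinearMap.domRestrict_apply]
    rw [hφb, hφb, hbxi, hbxi, sB_apply, sB_apply, h]
  obtain ⟨g, hg1, hg2⟩ := Cfsg.Agent.S0749.result (sB (F := F) m) (sB_nondeg m) (sB_isAlt m) _ _ φ
    (by
      intro a b
      have := congrArg (fun B => B a b) key
      simpa using this)
  refine ⟨⟨LinearMap.toMatrix' (g : _ →ₗ[F] _), ?_⟩, ?_⟩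
  · rw [mem_symplecticGroup_iff_preserves]
    intro u v
    rw [LinearMap.toMatrix'_mulVec, LinearMap.toMatrix'_mulVec, ← sB_apply, ← sB_apply]
    exact hg1 u v
  · intro i
    change LinearMap.toMatrix' (g : _ →ₗ[F] _) *ᵥ x i = y i
    rw [LinearMap.toMatrix'_mulVec, ← hbxi, LinearEquiv.coe_coe, hg2, hφb]

/-- The diagonal action of `Sp` on families of vectors. -/
@[instance_reducible]
def actFam (k : ℕ) : MulAction (Matrix.symplecticGroup (Fin m) F) (Fin k → (Fin m ⊕ Fin m → F)) where
  smul g x := fun i => (g : Matrix (Fin m ⊕ Fin m) (Fin m ⊕ Fin m) F) *ᵥ x i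
  one_smul x := by
    funext i
    change ((1 : Matrix.symplecticGroup (Fin m) F) : Matrix (Fin m ⊕ Fin m) (Fin m ⊕ Fin m) F)
      *ᵥ x i = x i
    simp
  mul_smul g h x := by
    funext i
    exact coe_mul_mulVec g h (x i)

theorem linearIndependent_map (g : Matrix.symplecticGroup (Fin m) F) {κ : Type*}
    (x : κ → (Fin m ⊕ Fin m → F)) (hx : LinearIndependent F x) :
    LinearIndependent F
      (fun i => (g : Matrix (Fin m ⊕ Fin m) (Fin m ⊕ Fin m) F) *ᵥ x i) := by
  have := hx.map' (Matrix.mulVecLin (g : Matrix (Fin m ⊕ Fin m) (Fin m ⊕ Fin m) F)) (by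
    rw [LinearMap.ker_eq_bot]
    intro a b hab
    simp only [Matrix.mulVecLin_apply] at hab
    rw [← coe_inv_mulVec' g a, hab, coe_inv_mulVec'])
  exact this

theorem orbit_eq (k : ℕ) (x0 : Fin k → (Fin m ⊕ Fin m → F)) (hx0 : x0 ∈ IsoFam (sB (F := F) m) k) :
    @MulAction.orbit (Matrix.symplecticGroup (Fin m) F) _ (actFam m k).toSMul x0 = IsoFam (sB (F := F) m) k := by
  ext x
  constructor
  · rintro ⟨g, rfl⟩
    refine ⟨linearIndependent_map m g x0 hx0.1, ?_⟩
    intro i j
    rw [sB_apply]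
    change sympForm m F ((g : Matrix (Fin m ⊕ Fin m) (Fin m ⊕ Fin m) F) *ᵥ x0 i)
      ((g : Matrix (Fin m ⊕ Fin m) (Fin m ⊕ Fin m) F) *ᵥ x0 j) = 0
    rw [preserves, ← sB_apply]
    exact hx0.2 i j
  · intro hx
    obtain ⟨g, hg⟩ := witt_fam m x0 x hx0.1 hx.1 (by
      intro i j
      rw [← sB_apply, ← sB_apply, hx0.2, hx.2])
    exact ⟨g, funext hg⟩

theorem card_mul_prod [Fintype F] (k : ℕ) (P : Subgroup (Matrix.symplecticGroup (Fin m) F))
    (x0 : Fin k → (Fin m ⊕ Fin m → F)) (hx0 : x0 ∈ IsoFam (sB (F := F) m) k)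
    (hP : ∀ g : Matrix.symplecticGroup (Fin m) F,
      (∀ i, (g : Matrix (Fin m ⊕ Fin m) (Fin m ⊕ Fin m) F) *ᵥ x0 i = x0 i) → g ∈ P)
    (O : Set (Fin k → (Fin m ⊕ Fin m → F)))
    (hO : ∀ x, x ∈ O ↔ ∃ g ∈ P, ∀ i, (g : Matrix (Fin m ⊕ Fin m) (Fin m ⊕ Fin m) F) *ᵥ x0 i = x i) :
    Nat.card P * ∏ i ∈ Finset.range k, (Fintype.card F ^ (2 * m - i) - Fintype.card F ^ i)
      = Nat.card (Matrix.symplecticGroup (Fin m) F) * O.ncard := by
  let _ := actFam (F := F) m k
  have h1 := card_mul_orbit P x0 (by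
    intro g hg
    apply hP
    intro i
    exact congrFun hg i)
  rw [orbit_eq m k x0 hx0, ← Nat.card_coe_set_eq, card_IsoFam _ (sB_nondeg m) (sB_isAlt m)] at h1
  have h2 : MulAction.orbit P x0 = O := by
    ext x
    rw [hO]
    constructor
    · rintro ⟨g, rfl⟩
      exact ⟨g.1, g.2, fun i => rfl⟩
    · rintro ⟨g, hg, hx⟩
      exact ⟨⟨g, hg⟩, funext hx⟩
  rw [h2] at h1
  rw [← h1]
  congr 1
  apply Finset.prod_congr rfl
  intro i _
  rw [Nat.card_eq_fintype_card]
  congr 3
  simp
  ring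

theorem tri_succ (k : ℕ) : (k + 1) * (k + 1 + 1) / 2 = k * (k + 1) / 2 + (k + 1) := by
  have : (k + 1) * (k + 1 + 1) = k * (k + 1) + 2 * (k + 1) := by ring
  rw [this, Nat.add_mul_div_left _ _ (by norm_num)]

theorem arith (q : ℕ) (m k : ℕ) (hk : k ≤ m) :
    q ^ (m ^ 2) * ∏ i ∈ Finset.range m, (q ^ (2 * (i + 1)) - 1)
      = (∏ i ∈ Finset.range k, (q ^ (2 * m - i) - q ^ i)) *
        (q ^ (k * (k + 1) / 2 + 2 * k * (m - k)) *
          (q ^ ((m - k) ^ 2) * ∏ i ∈ Finset.range (m - k), (q ^ (2 * (i + 1)) - 1))) := by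
  induction k with
  | zero => simp
  | succ k ih =>
    rw [ih (by omega), Finset.prod_range_succ]
    conv_rhs => rw [mul_assoc]
    congr 1
    obtain ⟨r, rfl⟩ : ∃ r, m = k + 1 + r := ⟨m - (k + 1), by omega⟩
    have e1 : k + 1 + r - k = r + 1 := by omega
    have e2 : k + 1 + r - (k + 1) = r := by omega
    have e3 : q ^ (2 * (k + 1 + r) - k) - q ^ k = q ^ k * (q ^ (2 * (r + 1)) - 1) := by
      rw [Nat.mul_sub, mul_one, ← pow_add]
      congr 2
      omega
    rw [e1, e2, e3, tri_succ, Finset.prod_range_succ]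
    generalize k * (k + 1) / 2 = T
    generalize q ^ (2 * (r + 1)) - 1 = X
    generalize ∏ i ∈ Finset.range r, (q ^ (2 * (i + 1)) - 1) = Y
    ring

end Concrete

end Cfsg.Agent.Lib.Helper17SpCount
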