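import Mathlib
import Cfsg.Agent.S0242

/-! PROJECT 58, pieces `arithcore`, `arithodd`, `aritheven`, `aritheven2`, `arithsp`:
2-adic valuations of the orders of the classical groups. -/

set_option autoImplicit false

namespace Cfsg.Agent.Lib.Helper17SylArith

/-- the 2-adic valuation of the order of the plane group -/
def dd (q : ℕ) : ℕ := (if q % 4 = 1 then 2 * (q - 1) else 2 * (q + 1)).factorization 2

theorem fac_two_of_mod {n : ℕ} (h : n % 4 = 2) : n.factorization 2 = 1 := by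
  obtain ⟨k, rfl⟩ : ∃ k, n = 2 * k := ⟨n / 2, by omega⟩
  have hk : ¬ 2 ∣ k := by omega
  have hk0 : k ≠ 0 := by rintro rfl; omega
  rw [Nat.factorization_mul (by norm_num) hk0, Finsupp.add_apply,
    Nat.Prime.factorization_self Nat.prime_two, Nat.factorization_eq_zero_of_not_dvd hk]

theorem fac_odd {n : ℕ} (h : Odd n) : n.factorization 2 = 0 :=
  Nat.factorization_eq_zero_of_not_dvd (by
    obtain ⟨k, rfl⟩ := h
    omega)

theorem mod_four_cases {q : ℕ} (hq : Odd q) : q % 4 = 1 ∨ q % 4 = 3 := by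
  obtain ⟨k, rfl⟩ := hq
  omega

theorem dd_eq (q : ℕ) (hq : Odd q) (hq1 : 1 < q) :
    dd q = (q + 1).factorization 2 + (q - 1).factorization 2 := by
  unfold dd
  rcases mod_four_cases hq with h | h
  · rw [if_pos h, Nat.factorization_mul (by norm_num) (by omega), Finsupp.add_apply,
      Nat.Prime.factorization_self Nat.prime_two, fac_two_of_mod (n := q + 1) (by omega)]
  · rw [if_neg (by omega), Nat.factorization_mul (by norm_num) (by omega), Finsupp.add_apply,
      Nat.Prime.factorization_self Nat.prime_two, fac_two_of_mod (n := q - 1) (by omega)]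
    omega

theorem one_lt_pow' {q : ℕ} (hq1 : 1 < q) {n : ℕ} (hn : n ≠ 0) : 1 < q ^ n :=
  Nat.one_lt_pow hn hq1

theorem fac_pow_two_mul (q : ℕ) (hq : Odd q) (hq1 : 1 < q) (i : ℕ) (hi : i ≠ 0) :
    (q ^ (2 * i) - 1).factorization 2 = dd q + i.factorization 2 := by
  have h2 : ¬ 2 ∣ q := by
    obtain ⟨k, rfl⟩ := hq
    omega
  have h := padicValNat.pow_two_sub_one hq1 h2 (n := 2 * i) (by omega) (even_two_mul i)
  rw [dd_eq q hq hq1]
  simp only [Nat.factorization_def _ Nat.prime_two]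
  rw [padicValNat.mul (by norm_num) hi, padicValNat_self] at h
  omega

/-- piece `arithcore` -/
theorem val_prod (q : ℕ) (hq : Odd q) (hq1 : 1 < q) (m : ℕ) :
    (∏ i ∈ Finset.range m, (q ^ (2 * (i + 1)) - 1)).factorization 2
      = dd q * m + (m.factorial).factorization 2 := by
  induction m with
  | zero => simp
  | succ m ih =>
    have h1 : (∏ i ∈ Finset.range m, (q ^ (2 * (i + 1)) - 1)) ≠ 0 := by
      rw [Finset.prod_ne_zero_iff]
      intro i _
      have := one_lt_pow' hq1 (n := 2 * (i + 1)) (by omega)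
      omega
    have h2 : q ^ (2 * (m + 1)) - 1 ≠ 0 := by
      have := one_lt_pow' hq1 (n := 2 * (m + 1)) (by omega)
      omega
    rw [Finset.prod_range_succ, Nat.factorization_mul h1 h2, Finsupp.add_apply, ih,
      fac_pow_two_mul q hq hq1 (m + 1) (by omega), Nat.factorial_succ,
      Nat.factorization_mul (by omega) (Nat.factorial_ne_zero m), Finsupp.add_apply]
    ring

theorem prod_ne_zero (q : ℕ) (hq1 : 1 < q) (m : ℕ) :
    (∏ i ∈ Finset.range m, (q ^ (2 * (i + 1)) - 1)) ≠ 0 := by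
  rw [Finset.prod_ne_zero_iff]
  intro i _
  have := one_lt_pow' hq1 (n := 2 * (i + 1)) (by omega)
  omega

theorem not_dvd_of_fac {N e : ℕ} (hN : N ≠ 0) (h : N.factorization 2 = e) : ¬ 2 ^ (e + 1) ∣ N := by
  rw [← h]
  exact Nat.pow_succ_factorization_not_dvd hN Nat.prime_two

theorem fac_pow_odd (q : ℕ) (hq : Odd q) (k : ℕ) : (q ^ k).factorization 2 = 0 :=
  fac_odd hq.pow

/-- piece `arithodd` -/
theorem arith_odd (q : ℕ) (hq : Odd q) (hq1 : 1 < q) (m : ℕ) :
    ¬ 2 ^ (dd q * m + (m.factorial).factorization 2 + 1 + 1) ∣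
      2 * q ^ (m ^ 2) * ∏ i ∈ Finset.range m, (q ^ (2 * (i + 1)) - 1) := by
  have hq0 : q ^ (m ^ 2) ≠ 0 := pow_ne_zero _ (by omega)
  apply not_dvd_of_fac (mul_ne_zero (mul_ne_zero (by norm_num) hq0) (prod_ne_zero q hq1 m))
  rw [Nat.factorization_mul (mul_ne_zero (by norm_num) hq0) (prod_ne_zero q hq1 m),
    Nat.factorization_mul (by norm_num) hq0, Finsupp.add_apply, Finsupp.add_apply,
    val_prod q hq hq1, fac_pow_odd q hq, Nat.Prime.factorization_self Nat.prime_two]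
  ring

/-- piece `arithsp` -/
theorem arith_sp (q : ℕ) (hq : Odd q) (hq1 : 1 < q) (m : ℕ) :
    ¬ 2 ^ (dd q * m + (m.factorial).factorization 2 + 1) ∣
      q ^ (m ^ 2) * ∏ i ∈ Finset.range m, (q ^ (2 * (i + 1)) - 1) := by
  have hq0 : q ^ (m ^ 2) ≠ 0 := pow_ne_zero _ (by omega)
  apply not_dvd_of_fac (mul_ne_zero hq0 (prod_ne_zero q hq1 m))
  rw [Nat.factorization_mul hq0 (prod_ne_zero q hq1 m), Finsupp.add_apply,
    val_prod q hq hq1, fac_pow_odd q hq]
  ring

/-- `q ^ m ≡ 1 mod 4` in the "square" case -/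
theorem pow_mod_four_one (q : ℕ) (hq : Odd q) (m : ℕ) (h : Even m ∨ q % 4 = 1) :
    q ^ m % 4 = 1 := by
  rcases h with h | h
  · obtain ⟨k, rfl⟩ := h
    rw [← two_mul, pow_mul, Nat.pow_mod]
    have : q ^ 2 % 4 = 1 := by
      rcases mod_four_cases hq with h | h <;> simp [Nat.pow_mod, h]
    rw [this]
    simp
  · rw [Nat.pow_mod, h]
    simp

/-- `q ^ m ≡ 3 mod 4` in the "non-square" case -/
theorem pow_mod_four_three (q : ℕ) (m : ℕ) (h : Odd m ∧ q % 4 = 3) : q ^ m % 4 = 3 := by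
  obtain ⟨⟨k, rfl⟩, h⟩ := h
  rw [pow_succ, pow_mul, Nat.mul_mod, Nat.pow_mod]
  have : q ^ 2 % 4 = 1 := by simp [Nat.pow_mod, h]
  rw [this, h]
  simp

theorem fac_sub_add (q : ℕ) (hq : Odd q) (hq1 : 1 < q) (m : ℕ) (hm : m ≠ 0) :
    (q ^ m - 1).factorization 2 + (q ^ m + 1).factorization 2 = dd q + m.factorization 2 := by
  have h1 := one_lt_pow' hq1 hm
  rw [← fac_pow_two_mul q hq hq1 m hm, ← Finsupp.add_apply,
    ← Nat.factorization_mul (by omega) (by omega)]
  congr 2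
  have : q ^ (2 * m) = q ^ m * q ^ m := by rw [two_mul, pow_add]
  rw [this]
  obtain ⟨x, hx⟩ : ∃ x, q ^ m = x + 1 := ⟨q ^ m - 1, by omega⟩
  rw [hx]
  simp only [Nat.add_sub_cancel]
  have : (x + 1) * (x + 1) = x * (x + 1 + 1) + 1 := by ring
  rw [this, Nat.add_sub_cancel]

theorem fac_factorial_pred (m : ℕ) (hm : 1 ≤ m) :
    (m.factorial).factorization 2 = m.factorization 2 + ((m - 1).factorial).factorization 2 := by
  obtain ⟨k, rfl⟩ : ∃ k, m = k + 1 := ⟨m - 1, by omega⟩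
  rw [Nat.factorial_succ, Nat.factorization_mul (by omega) (Nat.factorial_ne_zero k),
    Finsupp.add_apply, Nat.add_sub_cancel]

theorem fac_big (q : ℕ) (hq : Odd q) (hq1 : 1 < q) (m : ℕ) (X : ℕ) (hX : X ≠ 0) :
    (2 * q ^ (m * (m - 1)) * X * ∏ i ∈ Finset.range (m - 1), (q ^ (2 * (i + 1)) - 1)) ≠ 0 ∧
    (2 * q ^ (m * (m - 1)) * X * ∏ i ∈ Finset.range (m - 1),
      (q ^ (2 * (i + 1)) - 1)).factorization 2
      = 1 + X.factorization 2 + (dd q * (m - 1) + ((m - 1).factorial).factorization 2) := by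
  have hq0 : q ^ (m * (m - 1)) ≠ 0 := pow_ne_zero _ (by omega)
  have h1 : 2 * q ^ (m * (m - 1)) ≠ 0 := mul_ne_zero (by norm_num) hq0
  refine ⟨mul_ne_zero (mul_ne_zero h1 hX) (prod_ne_zero q hq1 _), ?_⟩
  rw [Nat.factorization_mul (mul_ne_zero h1 hX) (prod_ne_zero q hq1 _),
    Nat.factorization_mul h1 hX, Nat.factorization_mul (by norm_num) hq0, Finsupp.add_apply,
    Finsupp.add_apply, Finsupp.add_apply, val_prod q hq hq1, fac_pow_odd q hq,
    Nat.Prime.factorization_self Nat.prime_two]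

/-- piece `aritheven` : plus type, `(-1)^m` a square -/
theorem arith_plus_sq (q : ℕ) (hq : Odd q) (hq1 : 1 < q) (m : ℕ) (hm : 1 ≤ m)
    (h : Even m ∨ q % 4 = 1) :
    ¬ 2 ^ (dd q * m + (m.factorial).factorization 2 + 0 + 1) ∣
      2 * q ^ (m * (m - 1)) * (q ^ m - 1) * ∏ i ∈ Finset.range (m - 1), (q ^ (2 * (i + 1)) - 1) := by
  have h1 := one_lt_pow' hq1 (n := m) (by omega)
  obtain ⟨hne, hf⟩ := fac_big q hq hq1 m (q ^ m - 1) (by omega)
  apply not_dvd_of_fac hne
  rw [hf, fac_factorial_pred m hm]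
  have h4 := pow_mod_four_one q hq m h
  have h5 := fac_sub_add q hq hq1 m (by omega)
  rw [fac_two_of_mod (n := q ^ m + 1) (by omega)] at h5
  obtain ⟨k, rfl⟩ : ∃ k, m = k + 1 := ⟨m - 1, by omega⟩
  simp only [Nat.add_sub_cancel] at *
  rw [mul_add]
  omega

/-- piece `aritheven` : plus type, `(-1)^m` not a square -/
theorem arith_plus_nsq (q : ℕ) (hq : Odd q) (hq1 : 1 < q) (m : ℕ) (hm : 1 ≤ m)
    (h : Odd m ∧ q % 4 = 3) :
    ¬ 2 ^ (dd q * (m - 1) + ((m - 1).factorial).factorization 2 + 2 + 1) ∣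
      2 * q ^ (m * (m - 1)) * (q ^ m - 1) * ∏ i ∈ Finset.range (m - 1), (q ^ (2 * (i + 1)) - 1) := by
  have h1 := one_lt_pow' hq1 (n := m) (by omega)
  obtain ⟨hne, hf⟩ := fac_big q hq hq1 m (q ^ m - 1) (by omega)
  apply not_dvd_of_fac hne
  have h4 := pow_mod_four_three q m h
  rw [hf, fac_two_of_mod (n := q ^ m - 1) (by omega)]
  omega

/-- piece `aritheven2` : minus type, `(-1)^m` not a square -/
theorem arith_minus_sq (q : ℕ) (hq : Odd q) (hq1 : 1 < q) (m : ℕ) (hm : 1 ≤ m)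
    (h : Odd m ∧ q % 4 = 3) :
    ¬ 2 ^ (dd q * m + (m.factorial).factorization 2 + 0 + 1) ∣
      2 * q ^ (m * (m - 1)) * (q ^ m + 1) * ∏ i ∈ Finset.range (m - 1), (q ^ (2 * (i + 1)) - 1) := by
  have h1 := one_lt_pow' hq1 (n := m) (by omega)
  obtain ⟨hne, hf⟩ := fac_big q hq hq1 m (q ^ m + 1) (by omega)
  apply not_dvd_of_fac hne
  rw [hf, fac_factorial_pred m hm]
  have h4 := pow_mod_four_three q m h
  have h5 := fac_sub_add q hq hq1 m (by omega)
  rw [fac_two_of_mod (n := q ^ m - 1) (by omega)] at h5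
  obtain ⟨k, rfl⟩ : ∃ k, m = k + 1 := ⟨m - 1, by omega⟩
  simp only [Nat.add_sub_cancel] at *
  rw [mul_add]
  omega

/-- piece `aritheven2` : minus type, `(-1)^m` a square -/
theorem arith_minus_nsq (q : ℕ) (hq : Odd q) (hq1 : 1 < q) (m : ℕ) (hm : 1 ≤ m)
    (h : Even m ∨ q % 4 = 1) :
    ¬ 2 ^ (dd q * (m - 1) + ((m - 1).factorial).factorization 2 + 2 + 1) ∣
      2 * q ^ (m * (m - 1)) * (q ^ m + 1) * ∏ i ∈ Finset.range (m - 1), (q ^ (2 * (i + 1)) - 1) := by
  obtain ⟨hne, hf⟩ := fac_big q hq hq1 m (q ^ m + 1) (by omega)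
  apply not_dvd_of_fac hne
  have h4 := pow_mod_four_one q hq m h
  rw [hf, fac_two_of_mod (n := q ^ m + 1) (by omega)]
  omega

/-- piece `arithsp` -/
theorem card_sl2_val {F : Type*} [Field F] [Fintype F] (hF : Odd (Fintype.card F)) :
    (Nat.card (Matrix.SpecialLinearGroup (Fin 2) F)).factorization 2 = dd (Fintype.card F) := by
  have hq1 : 1 < Fintype.card F := Fintype.one_lt_card
  have h := Cfsg.Agent.S0242.result (F := F) rfl 2 (by norm_num)
  set q := Fintype.card F with hq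
  rw [Fin.prod_univ_two] at h
  simp only [Fin.val_zero, Fin.val_one, pow_zero, pow_one] at h
  have hN : Nat.card (Matrix.SpecialLinearGroup (Fin 2) F) ≠ 0 := Nat.card_pos.ne'
  have h3 := fac_pow_two_mul q hF hq1 1 one_ne_zero
  simp only [mul_one, Nat.factorization_one, Finsupp.coe_zero, Pi.zero_apply, add_zero] at h3
  have hlt : q < q ^ 2 := by nlinarith
  have e : q ^ 2 - q = q * (q - 1) := by
    rw [Nat.mul_sub, mul_one, sq]
  have h4 : ((q - 1) * Nat.card (Matrix.SpecialLinearGroup (Fin 2) F)).factorization 2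
      = ((q ^ 2 - 1) * (q ^ 2 - q)).factorization 2 := by rw [h]
  rw [e, Nat.factorization_mul (by omega) hN, Nat.factorization_mul (by omega)
    (mul_ne_zero (by omega) (by omega)), Nat.factorization_mul (by omega) (by omega),
    Finsupp.add_apply, Finsupp.add_apply, Finsupp.add_apply, h3, fac_odd hF] at h4
  omega

end Cfsg.Agent.Lib.Helper17SylArith
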