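import Mathlib
import Cfsg.Agent.Lib.Helper17SylArith

/-! PROJECT 58 part 2, pieces `arithgl1`, `arithgl3`: 2-adic valuation of `|GL_n(q)|`. -/

set_option autoImplicit false

namespace Cfsg.Agent.Lib.Helper17SylArithGL

open Cfsg.Agent.Lib.Helper17SylArith

theorem gl_fac (q : ℕ) (hq : Odd q) (hq1 : 1 < q) (n : ℕ) :
    (∏ i : Fin n, (q ^ n - q ^ (i : ℕ))) ≠ 0 ∧
    (∏ i : Fin n, (q ^ n - q ^ (i : ℕ))).factorization 2
      = ∑ k ∈ Finset.range n, (q ^ (k + 1) - 1).factorization 2 := by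
  rw [Fin.prod_univ_eq_prod_range (fun i => q ^ n - q ^ i) n]
  have hne : ∀ i ∈ Finset.range n, q ^ n - q ^ i ≠ 0 := by
    intro i hi
    rw [Finset.mem_range] at hi
    have := Nat.pow_lt_pow_right hq1 hi
    omega
  refine ⟨Finset.prod_ne_zero_iff.2 hne, ?_⟩
  rw [Nat.factorization_prod hne, Finsupp.finsetSum_apply,
    ← Finset.sum_range_reflect (fun k => (q ^ (k + 1) - 1).factorization 2) n]
  apply Finset.sum_congr rfl
  intro i hi
  rw [Finset.mem_range] at hi
  have e : n - 1 - i + 1 = n - i := by omega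
  rw [e]
  have h1 : q ^ n - q ^ i = q ^ i * (q ^ (n - i) - 1) := by
    rw [Nat.mul_sub, mul_one, ← pow_add]
    congr 2
    omega
  have h2 := one_lt_pow' hq1 (n := n - i) (by omega)
  rw [h1, Nat.factorization_mul (pow_ne_zero _ (by omega)) (by omega), Finsupp.add_apply,
    fac_pow_odd q hq, zero_add]

theorem sum_fac_succ (n : ℕ) :
    ∑ k ∈ Finset.range n, (k + 1).factorization 2 = (n.factorial).factorization 2 := by
  induction n with
  | zero => simp
  | succ n ih =>
    rw [Finset.sum_range_succ, ih, Nat.factorial_succ,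
      Nat.factorization_mul (by omega) (Nat.factorial_ne_zero n), Finsupp.add_apply, add_comm]

theorem odd_of_mod {q : ℕ} (h : q % 4 = 1 ∨ q % 4 = 3) : Odd q := by
  rw [Nat.odd_iff]
  omega

/-- piece `arithgl1` -/
theorem arith_gl1 (q : ℕ) (hq : q % 4 = 1) (hq1 : 1 < q) (n : ℕ) :
    ¬ 2 ^ ((q - 1).factorization 2 * n + (n.factorial).factorization 2 + 1) ∣
      ∏ i : Fin n, (q ^ n - q ^ (i : ℕ)) := by
  have ho : Odd q := odd_of_mod (Or.inl hq)
  obtain ⟨hne, hf⟩ := gl_fac q ho hq1 n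
  apply not_dvd_of_fac hne
  have hc : (q - 1).factorization 2 * n = ∑ _k ∈ Finset.range n, (q - 1).factorization 2 := by
    rw [Finset.sum_const, Finset.card_range, smul_eq_mul, mul_comm]
  rw [hf, ← sum_fac_succ, hc, ← Finset.sum_add_distrib]
  apply Finset.sum_congr rfl
  intro k _
  have h5 := fac_sub_add q ho hq1 (k + 1) (by omega)
  have h4 := pow_mod_four_one q ho (k + 1) (Or.inr hq)
  rw [fac_two_of_mod (n := q ^ (k + 1) + 1) (by omega)] at h5
  have hd : dd q = 1 + (q - 1).factorization 2 := by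
    unfold dd
    rw [if_pos hq, Nat.factorization_mul (by norm_num) (by omega), Finsupp.add_apply,
      Nat.Prime.factorization_self Nat.prime_two]
  omega

theorem sum_gl3 (q : ℕ) (hq : q % 4 = 3) (m : ℕ) :
    ∑ k ∈ Finset.range (2 * m), (q ^ (k + 1) - 1).factorization 2
      = (dd q + 1) * m + (m.factorial).factorization 2 := by
  have ho : Odd q := odd_of_mod (Or.inr hq)
  have hq1 : 1 < q := by omega
  induction m with
  | zero => simp
  | succ m ih =>
    have e : 2 * (m + 1) = 2 * m + 1 + 1 := by ring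
    rw [e, Finset.sum_range_succ, Finset.sum_range_succ, ih]
    have h1 := pow_mod_four_three q (2 * m + 1) ⟨⟨m, rfl⟩, hq⟩
    rw [fac_two_of_mod (n := q ^ (2 * m + 1) - 1) (by omega)]
    have e2 : 2 * m + 1 + 1 = 2 * (m + 1) := by ring
    rw [e2, fac_pow_two_mul q ho hq1 (m + 1) (by omega), Nat.factorial_succ,
      Nat.factorization_mul (by omega) (Nat.factorial_ne_zero m), Finsupp.add_apply]
    ring

/-- piece `arithgl3` -/
theorem arith_gl3 (q : ℕ) (hq : q % 4 = 3) (m j : ℕ) (hj : j ≤ 1) :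
    ¬ 2 ^ ((dd q + 1) * m + (m.factorial).factorization 2 + j + 1) ∣
      ∏ i : Fin (2 * m + j), (q ^ (2 * m + j) - q ^ (i : ℕ)) := by
  have ho : Odd q := odd_of_mod (Or.inr hq)
  have hq1 : 1 < q := by omega
  obtain ⟨hne, hf⟩ := gl_fac q ho hq1 (2 * m + j)
  apply not_dvd_of_fac hne
  rw [hf]
  obtain rfl | rfl : j = 0 ∨ j = 1 := by omega
  · rw [add_zero, sum_gl3 q hq, add_zero]
  · rw [Finset.sum_range_succ, sum_gl3 q hq]
    have h1 := pow_mod_four_three q (2 * m + 1) ⟨⟨m, rfl⟩, hq⟩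
    rw [fac_two_of_mod (n := q ^ (2 * m + 1) - 1) (by omega)]

/-- piece `arithgl3` -/
theorem val_gl2 (q : ℕ) (hq : q % 4 = 3) :
    (∏ i : Fin 2, (q ^ 2 - q ^ (i : ℕ))).factorization 2 = dd q + 1 := by
  have ho : Odd q := odd_of_mod (Or.inr hq)
  have hq1 : 1 < q := by omega
  obtain ⟨-, hf⟩ := gl_fac q ho hq1 2
  rw [hf]
  have := sum_gl3 q hq 1
  simpa using this

end Cfsg.Agent.Lib.Helper17SylArithGL
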