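import Mathlib
import Cfsg.Prelude.Def_Classical
import Cfsg.Prelude.Def_ClassicalGeometry
import Cfsg.Agent.Lib.Helper49Orth

/-! Vocabulary of PROJECT 58 (Sylow subgroups with elementary abelian abelianisation). -/

set_option autoImplicit false

namespace Cfsg.Agent.Lib.Helper58SylDefs

open Cfsg.Agent.Lib.Helper49Orth
open scoped Matrix

/-- `P / P'` has exponent `p` for every Sylow `p`-subgroup `P` of `G`. -/
def ElemAb (p : ℕ) (G : Type*) [Group G] : Prop :=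
  ∀ P : Sylow p G, ∀ x : (P : Subgroup G), x ^ p ∈ commutator (P : Subgroup G)

/-- Abstract wreath data: `k` commuting copies of `D₀` in `G`, permuted by `Perm (Fin k)`. -/
structure WD (G D₀ : Type*) [Group G] [Group D₀] (k : ℕ) where
  B : (Fin k → D₀) →* G
  Pm : Equiv.Perm (Fin k) →* G
  conj : ∀ (π : Equiv.Perm (Fin k)) (d : Fin k → D₀),
    Pm π * B d * (Pm π)⁻¹ = B (fun i => d (π⁻¹ i))
  inj : ∀ (d : Fin k → D₀) (π : Equiv.Perm (Fin k)), B d * Pm π = 1 → d = 1 ∧ π = 1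

/-- The wreath product `D wr T` inside `G`. -/
def WD.wr {G D₀ : Type*} [Group G] [Group D₀] {k : ℕ} (W : WD G D₀ k) (D : Subgroup D₀)
    (T : Subgroup (Equiv.Perm (Fin k))) : Subgroup G :=
  (Subgroup.pi Set.univ (fun _ : Fin k => D)).map W.B ⊔ T.map W.Pm

section Forms

variable {F : Type*} [Field F]

/-- the isometry group of a quadratic form on `ι → F`, as a type -/
abbrev OG {ι : Type} [Fintype ι] [DecidableEq ι] (Q : QuadraticForm F (ι → F)) : Type _ :=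
  ↥(Cfsg.isometryGroup F ⇑Q)

/-- the matrix of an isometry -/
abbrev mat {ι : Type} [Fintype ι] [DecidableEq ι] {Q : QuadraticForm F (ι → F)} (g : OG Q) :
    Matrix ι ι F := ((g : Matrix.GeneralLinearGroup ι F) : Matrix ι ι F)

/-- orthogonal sum of `k` copies of `Q₀` -/
noncomputable def Qpow {ι₀ : Type} [Fintype ι₀] (Q₀ : QuadraticForm F (ι₀ → F)) (k : ℕ) :
    QuadraticForm F (ι₀ × Fin k → F) :=
  ∑ i : Fin k, Q₀.comp (LinearMap.funLeft F F (fun a : ι₀ => (a, i)))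

theorem Qpow_apply {ι₀ : Type} [Fintype ι₀] (Q₀ : QuadraticForm F (ι₀ → F)) (k : ℕ)
    (v : ι₀ × Fin k → F) : Qpow Q₀ k v = ∑ i : Fin k, Q₀ (fun a => v (a, i)) := by
  simp [Qpow, LinearMap.funLeft, Function.comp_def]

/-- orthogonal sum of two forms -/
noncomputable def Qsum {ι₁ ι₂ : Type} (Q₁ : QuadraticForm F (ι₁ → F))
    (Q₂ : QuadraticForm F (ι₂ → F)) : QuadraticForm F (ι₁ ⊕ ι₂ → F) :=
  Q₁.comp (LinearMap.funLeft F F Sum.inl) + Q₂.comp (LinearMap.funLeft F F Sum.inr)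

theorem Qsum_apply {ι₁ ι₂ : Type} (Q₁ : QuadraticForm F (ι₁ → F))
    (Q₂ : QuadraticForm F (ι₂ → F)) (v : ι₁ ⊕ ι₂ → F) :
    Qsum Q₁ Q₂ v = Q₁ (fun a => v (Sum.inl a)) + Q₂ (fun b => v (Sum.inr b)) := by
  simp [Qsum, LinearMap.funLeft, Function.comp_def]

/-- diagonal form `∑ c i * x i ^ 2` -/
noncomputable abbrev wss {κ : Type} [Fintype κ] (c : κ → F) : QuadraticForm F (κ → F) :=
  QuadraticMap.weightedSumSquares F c

/-- the plane `x² + y²` -/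
noncomputable abbrev sq2 (F : Type*) [Field F] : QuadraticForm F (Fin 2 → F) :=
  wss (fun _ : Fin 2 => (1 : F))

/-- the model form: `k` planes `x² + y²` and `j` further coordinates with coefficients `c` -/
noncomputable abbrev Qfin (k : ℕ) {j : ℕ} (c : Fin j → F) :
    QuadraticForm F ((Fin 2 × Fin k) ⊕ Fin j → F) :=
  Qsum (Qpow (sq2 F) k) (wss c)

/-- the vector `v` placed in block `i` -/
def emb {ι₀ : Type} {k : ℕ} (i : Fin k) (v : ι₀ → F) : ι₀ × Fin k → F :=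
  fun x => if x.2 = i then v x.1 else 0

/-- `W` is the standard wreath data of `O(Q₀) wr S_k` in `O(Q₀ ⊥ ... ⊥ Q₀)`. -/
def ActsStd {ι₀ : Type} [Fintype ι₀] [DecidableEq ι₀] {Q₀ : QuadraticForm F (ι₀ → F)} {k : ℕ}
    (W : WD (OG (Qpow Q₀ k)) (OG Q₀) k) : Prop :=
  (∀ (d : Fin k → OG Q₀) (v : ι₀ × Fin k → F) (a : ι₀) (i : Fin k),
      (mat (W.B d) *ᵥ v) (a, i) = (mat (d i) *ᵥ (fun a' => v (a', i))) a) ∧
  (∀ (π : Equiv.Perm (Fin k)) (v : ι₀ × Fin k → F) (a : ι₀) (i : Fin k),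
      (mat (W.Pm π) *ᵥ v) (a, i) = v (a, π⁻¹ i))

/-- `S ≤ O(Q)` is generated by reflections `r_v` (`v ∈ V`) and involutions of `Ω(Q)` (`Y`);
there are two orthogonal "blocks" `{a₁, b₁}`, `{a₂, b₂}` in `V`, each with a vector of square norm
and a vector of non-square norm, and every `v ∈ V` is orthogonal to one of the two blocks.
`Z` is a set of vectors orthogonal to `V` and fixed by `Y`. -/
def Good {ι : Type} [Fintype ι] [DecidableEq ι] (Q : QuadraticForm F (ι → F))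
    (S : Subgroup (OG Q)) (Z : Set (ι → F)) : Prop :=
  ∃ (V : Set (ι → F)) (Y : Set (OG Q)),
    (∀ v ∈ V, Q v ≠ 0) ∧
    (∀ y ∈ Y, y ∈ Cfsg.Omega F ⇑Q ∧ y * y = 1) ∧
    S = Subgroup.closure (reflO' Q '' V ∪ Y) ∧
    (∃ a₁ ∈ V, ∃ b₁ ∈ V, ∃ a₂ ∈ V, ∃ b₂ ∈ V,
      IsSquare (Q a₁) ∧ ¬ IsSquare (Q b₁) ∧ IsSquare (Q a₂) ∧ ¬ IsSquare (Q b₂) ∧
      QuadraticMap.polar ⇑Q a₁ a₂ = 0 ∧ QuadraticMap.polar ⇑Q a₁ b₂ = 0 ∧
      QuadraticMap.polar ⇑Q b₁ a₂ = 0 ∧ QuadraticMap.polar ⇑Q b₁ b₂ = 0 ∧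
      ∀ v ∈ V, (QuadraticMap.polar ⇑Q v a₁ = 0 ∧ QuadraticMap.polar ⇑Q v b₁ = 0) ∨
        (QuadraticMap.polar ⇑Q v a₂ = 0 ∧ QuadraticMap.polar ⇑Q v b₂ = 0)) ∧
    (∀ z ∈ Z, ∀ v ∈ V, QuadraticMap.polar ⇑Q v z = 0) ∧
    (∀ z ∈ Z, ∀ y ∈ Y, mat y *ᵥ z = z)

end Forms

end Cfsg.Agent.Lib.Helper58SylDefs
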