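import Mathlib
import Cfsg.Agent.Lib.Helper58SylDefs

/-! PROJECT 58, piece `spwd`: wreath data `SL_2 wr S_n` inside `Sp_2n`. -/

set_option autoImplicit false

namespace Cfsg.Agent.Lib.Helper17SylSpwd

open Cfsg.Agent.Lib.Helper58SylDefs
open scoped Matrix

variable {F : Type*} [Field F] {n : ℕ}

/-- block matrix of a family of `2 × 2` matrices -/
def bm (d : Fin n → Matrix.SpecialLinearGroup (Fin 2) F) :
    Matrix (Fin n ⊕ Fin n) (Fin n ⊕ Fin n) F :=
  Matrix.fromBlocks (Matrix.diagonal fun i => (d i).1 0 0) (Matrix.diagonal fun i => (d i).1 0 1)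
    (Matrix.diagonal fun i => (d i).1 1 0) (Matrix.diagonal fun i => (d i).1 1 1)

/-- permutation matrix with `P *ᵥ v = v ∘ π⁻¹` -/
def pm0 (π : Equiv.Perm (Fin n)) : Matrix (Fin n) (Fin n) F :=
  Matrix.of fun i j => if π⁻¹ i = j then 1 else 0

theorem pm0_mul_apply (π : Equiv.Perm (Fin n)) (M : Matrix (Fin n) (Fin n) F) (i j : Fin n) :
    ((pm0 π : Matrix (Fin n) (Fin n) F) * M) i j = M (π⁻¹ i) j := by
  simp [pm0, Matrix.mul_apply]

theorem pm0_mul (π σ : Equiv.Perm (Fin n)) :
    (pm0 (π * σ) : Matrix (Fin n) (Fin n) F) = pm0 π * pm0 σ := by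
  ext i j
  rw [pm0_mul_apply]
  simp [pm0]

theorem pm0_one : (pm0 (1 : Equiv.Perm (Fin n)) : Matrix (Fin n) (Fin n) F) = 1 := by
  ext i j
  simp [pm0, Matrix.one_apply]

theorem pm0_transpose (π : Equiv.Perm (Fin n)) :
    (pm0 π : Matrix (Fin n) (Fin n) F)ᵀ = pm0 π⁻¹ := by
  ext i j
  simp only [pm0, Matrix.transpose_apply, Matrix.of_apply, inv_inv]
  by_cases h : π⁻¹ j = i
  · have : π i = j := by rw [← h]; simp
    rw [if_pos h, if_pos this]
  · have : π i ≠ j := by
      intro h'
      apply h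
      rw [← h']
      simp
    rw [if_neg h, if_neg this]

theorem pm0_mul_transpose (π : Equiv.Perm (Fin n)) :
    (pm0 π : Matrix (Fin n) (Fin n) F) * (pm0 π)ᵀ = 1 := by
  rw [pm0_transpose, ← pm0_mul, mul_inv_cancel, pm0_one]

/-- the block permutation matrix -/
def pm (π : Equiv.Perm (Fin n)) : Matrix (Fin n ⊕ Fin n) (Fin n ⊕ Fin n) F :=
  Matrix.fromBlocks (pm0 π) 0 0 (pm0 π)

theorem det_eq (x : Matrix.SpecialLinearGroup (Fin 2) F) :
    x.1 0 0 * x.1 1 1 - x.1 0 1 * x.1 1 0 = 1 := by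
  have := x.2
  rwa [Matrix.det_fin_two] at this

theorem bm_mem (d : Fin n → Matrix.SpecialLinearGroup (Fin 2) F) :
    bm d ∈ Matrix.symplecticGroup (Fin n) F := by
  rw [SymplecticGroup.mem_iff]
  simp only [bm, Matrix.J, Matrix.fromBlocks_multiply, Matrix.fromBlocks_transpose,
    Matrix.diagonal_transpose, mul_zero, mul_one, zero_add, add_zero, mul_neg, neg_mul,
    Matrix.diagonal_mul_diagonal]
  congr 1
  · ext i j
    by_cases h : i = j
    · subst h
      simp [mul_comm]
    · simp [h]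
  · ext i j
    by_cases h : i = j
    · subst h
      have := det_eq (d i)
      simp only [Matrix.add_apply, Matrix.neg_apply, Matrix.diagonal_apply_eq, Matrix.one_apply_eq]
      linear_combination (-1 : F) * this
    · simp [h]
  · ext i j
    by_cases h : i = j
    · subst h
      have := det_eq (d i)
      simp only [Matrix.add_apply, Matrix.neg_apply, Matrix.diagonal_apply_eq, Matrix.one_apply_eq]
      linear_combination this
    · simp [h]
  · ext i j
    by_cases h : i = j
    · subst h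
      simp [mul_comm]
    · simp [h]

theorem pm_mem (π : Equiv.Perm (Fin n)) :
    (pm π : Matrix (Fin n ⊕ Fin n) (Fin n ⊕ Fin n) F) ∈ Matrix.symplecticGroup (Fin n) F := by
  rw [SymplecticGroup.mem_iff]
  simp only [pm, Matrix.J, Matrix.fromBlocks_multiply, Matrix.fromBlocks_transpose,
    Matrix.transpose_zero, mul_zero, mul_one, zero_add, add_zero, mul_neg, neg_mul, zero_mul,
    pm0_mul_transpose, neg_zero]

theorem bm_mul (d d' : Fin n → Matrix.SpecialLinearGroup (Fin 2) F) :
    bm (d * d') = bm d * bm d' := by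
  simp only [bm, Matrix.fromBlocks_multiply, Matrix.diagonal_mul_diagonal, Matrix.diagonal_add,
    Pi.mul_apply, Matrix.SpecialLinearGroup.coe_mul, Matrix.mul_apply, Fin.sum_univ_two]

theorem bm_one : bm (1 : Fin n → Matrix.SpecialLinearGroup (Fin 2) F) = 1 := by
  simp [bm]

theorem pm_mul (π σ : Equiv.Perm (Fin n)) :
    (pm (π * σ) : Matrix (Fin n ⊕ Fin n) (Fin n ⊕ Fin n) F) = pm π * pm σ := by
  simp [pm, Matrix.fromBlocks_multiply, pm0_mul]

theorem pm_one : (pm (1 : Equiv.Perm (Fin n)) : Matrix (Fin n ⊕ Fin n) (Fin n ⊕ Fin n) F) = 1 := by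
  simp [pm, pm0_one]

theorem pm0_diag (π : Equiv.Perm (Fin n)) (a : Fin n → F) :
    pm0 π * Matrix.diagonal a = Matrix.diagonal (fun i => a (π⁻¹ i)) * pm0 π := by
  ext i j
  rw [pm0_mul_apply, Matrix.diagonal_mul]
  by_cases h : π⁻¹ i = j
  · subst h
    simp only [pm0, Matrix.of_apply, Matrix.diagonal_apply_eq, if_true, mul_one]
  · simp only [pm0, Matrix.of_apply, if_neg h, mul_zero, Matrix.diagonal_apply_ne _ h]

theorem pm_bm (π : Equiv.Perm (Fin n)) (d : Fin n → Matrix.SpecialLinearGroup (Fin 2) F) :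
    pm π * bm d = bm (fun i => d (π⁻¹ i)) * pm π := by
  simp only [pm, bm, Matrix.fromBlocks_multiply, zero_mul, mul_zero, add_zero, zero_add, pm0_diag]

theorem diag_pm0_apply (π : Equiv.Perm (Fin n)) (a : Fin n → F) (i j : Fin n) :
    (Matrix.diagonal a * (pm0 π : Matrix (Fin n) (Fin n) F)) i j
      = if π⁻¹ i = j then a i else 0 := by
  rw [Matrix.diagonal_mul]
  simp only [pm0, Matrix.of_apply, mul_ite, mul_one, mul_zero]

theorem bm_pm_inj (d : Fin n → Matrix.SpecialLinearGroup (Fin 2) F) (π : Equiv.Perm (Fin n))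
    (h : bm d * pm π = 1) : d = 1 ∧ π = 1 := by
  simp only [pm, bm, Matrix.fromBlocks_multiply, zero_mul, mul_zero, add_zero, zero_add] at h
  rw [← Matrix.fromBlocks_one, Matrix.fromBlocks_inj] at h
  obtain ⟨h1, h2, h3, h4⟩ := h
  have hπ : ∀ i, π⁻¹ i = i := by
    intro i
    have := congrFun (congrFun h1 i) i
    rw [diag_pm0_apply, Matrix.one_apply_eq] at this
    by_contra hne
    rw [if_neg hne] at this
    exact zero_ne_one this
  refine ⟨?_, ?_⟩
  · funext i
    have e1 := congrFun (congrFun h1 i) i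
    have e2 := congrFun (congrFun h2 i) i
    have e3 := congrFun (congrFun h3 i) i
    have e4 := congrFun (congrFun h4 i) i
    rw [diag_pm0_apply, if_pos (hπ i)] at e1 e2 e3 e4
    rw [Matrix.one_apply_eq] at e1 e4
    rw [Matrix.zero_apply] at e2 e3
    apply Subtype.ext
    ext a b
    fin_cases a <;> fin_cases b <;> simp [e1, e2, e3, e4]
  · have : π⁻¹ = 1 := Equiv.ext hπ
    simpa using this

/-- piece `spwd` -/
theorem exists_wd_sp {F : Type*} [Field F] (n : ℕ) :
    Nonempty (WD ↥(Matrix.symplecticGroup (Fin n) F) (Matrix.SpecialLinearGroup (Fin 2) F) n) := by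
  refine ⟨{
    B := 
      { toFun := fun d => ⟨bm d, bm_mem d⟩
        map_one' := Subtype.ext bm_one
        map_mul' := fun d d' => Subtype.ext (bm_mul d d') }
    Pm := 
      { toFun := fun π => ⟨pm π, pm_mem π⟩
        map_one' := Subtype.ext pm_one
        map_mul' := fun π σ => Subtype.ext (pm_mul π σ) }
    conj := ?_
    inj := ?_ }⟩
  · intro π d
    rw [mul_inv_eq_iff_eq_mul]
    exact Subtype.ext (pm_bm π d)
  · intro d π h
    exact bm_pm_inj d π (congrArg Subtype.val h)

end Cfsg.Agent.Lib.Helper17SylSpwd
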