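import Mathlib
import Cfsg.Agent.Lib.Helper17Heis
import Cfsg.Agent.Lib.Helper95Basic
import Cfsg.Agent.S0751

set_option autoImplicit false
open Cfsg

namespace Cfsg.Agent.Lib.Helper17UWitt

open Matrix Cfsg.Agent.Lib.Helper7Herm Cfsg.Agent.Lib.Helper7GU Cfsg.Agent.Lib.Helper17HermC
  Cfsg.Agent.Lib.Helper95Herm Cfsg.Agent.Lib.Helper17Heis Cfsg.Agent.Lib.Helper95Basic

variable {F : Type*} [Field F] [Fintype F] {q : ℕ} (hF : Fintype.card F = q ^ 2) (n : ℕ)

local notation "H" => Cfsg.hermForm n F q

include hF in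
theorem h_zero_right (v : Fin n → F) : H v 0 = 0 := (herm_concrete hF n).zero_right v

include hF in
theorem h_sum_right {κ : Type*} (s : Finset κ) (f : κ → (Fin n → F)) (v : Fin n → F) :
    H v (∑ a ∈ s, f a) = ∑ a ∈ s, H v (f a) := by
  classical
  induction s using Finset.induction_on with
  | empty => simp [h_zero_right hF]
  | insert a s ha ih => rw [Finset.sum_insert ha, Finset.sum_insert ha, h_add_right hF, ih]

include hF in
theorem h_sum_sum {κ : Type*} [Fintype κ] (x : κ → (Fin n → F)) (c d : κ → F) :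
    H (∑ i, c i • x i) (∑ j, d j • x j) = ∑ i, ∑ j, c i * (d j ^ q * H (x i) (x j)) := by
  rw [h_sum_left]
  apply Finset.sum_congr rfl
  intro i _
  rw [h_sum_right hF]
  apply Finset.sum_congr rfl
  intro j _
  rw [h_smul_left, h_smul_right]

include hF in
/-- Witt's lemma for families of vectors, in matrix form, for the unitary group. -/
theorem witt_fam_U {κ : Type*} [Fintype κ] (x y : κ → (Fin n → F)) (hx : LinearIndependent F x)
    (hy : LinearIndependent F y) (h : ∀ i j, H (x i) (x j) = H (y i) (y j)) :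
    ∃ g : GL (Fin n) F, g ∈ Cfsg.GU n F q ∧ ∀ i, (g : Matrix (Fin n) (Fin n) F) *ᵥ x i = y i := by
  set bx := Module.Basis.span hx with hbx
  set by' := Module.Basis.span hy with hby
  set φ := bx.equiv by' (Equiv.refl κ) with hφ
  have hbxi : ∀ i, ((bx i : Submodule.span F (Set.range x)) : Fin n → F) = x i := by
    intro i
    rw [hbx, Module.Basis.span_apply]
  have hbyi : ∀ i, ((by' i : Submodule.span F (Set.range y)) : Fin n → F) = y i := by
    intro i
    rw [hby, Module.Basis.span_apply]
  have e1 : ∀ a : Submodule.span F (Set.range x),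
      (a : Fin n → F) = ∑ i, bx.repr a i • x i := by
    intro a
    have h5 := congrArg Subtype.val (bx.sum_repr a)
    simp only [Submodule.coe_sum, Submodule.coe_smul, hbxi] at h5
    exact h5.symm
  have e2 : ∀ a : Submodule.span F (Set.range x),
      ((φ a : Submodule.span F (Set.range y)) : Fin n → F) = ∑ i, bx.repr a i • y i := by
    intro a
    have h5 := congrArg φ (bx.sum_repr a)
    rw [map_sum] at h5
    simp only [map_smul, hφ, Module.Basis.equiv_apply, Equiv.refl_apply] at h5
    have h6 := congrArg Subtype.val h5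
    simp only [Submodule.coe_sum, Submodule.coe_smul, hbyi] at h6
    exact h6.symm
  obtain ⟨g, hg1, hg2⟩ := Cfsg.Agent.S0751.result (sig hF) (sig_ne_id hF) (sig_sig hF) (hB hF n)
    (hB_isSymm hF n) (hB_nondeg hF n) _ _ φ (by
      intro a b
      rw [hB_apply, hB_apply, e1 a, e1 b, e2 a, e2 b, h_sum_sum hF, h_sum_sum hF]
      simp only [h])
  refine ⟨mkGL g, ?_, ?_⟩
  · intro u v
    change H ((mkGL g : Matrix (Fin n) (Fin n) F) *ᵥ u) ((mkGL g : Matrix (Fin n) (Fin n) F) *ᵥ v) = _
    rw [mkGL_mulVec, mkGL_mulVec]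
    exact hg1 v u
  · intro i
    rw [mkGL_mulVec, ← hbxi, hg2, hφ, Module.Basis.equiv_apply, Equiv.refl_apply, hbyi]

omit [Fintype F] in
theorem unitaryTransvection_det (u : Fin n → F) (e : F) :
    (Cfsg.unitaryTransvection n q u e).det = 1 + e * H u u := by
  unfold Cfsg.unitaryTransvection
  rw [Matrix.vecMulVec_eq Unit, ← Matrix.smul_mul]
  have : e • replicateCol Unit u = replicateCol Unit (e • u) := by
    ext i j; simp
  rw [this, Matrix.det_one_add_replicateCol_mul_replicateRow]
  congr 1
  simp only [dotProduct, Cfsg.hermForm, Pi.smul_apply, smul_eq_mul, Finset.mul_sum]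
  apply Finset.sum_congr rfl
  intro i _
  ring

include hF in
/-- Quasi-reflections are isometries. -/
theorem qrefl_isom (u : Fin n → F) (e : F) (he : e + e ^ q + e * e ^ q * H u u = 0)
    (x y : Fin n → F) :
    H (Cfsg.unitaryTransvection n q u e *ᵥ x) (Cfsg.unitaryTransvection n q u e *ᵥ y) = H x y := by
  have hH := herm_concrete hF n
  rw [unitaryTransvection_mulVec, unitaryTransvection_mulVec, hH.add_left, hH.add_right,
    hH.add_right, hH.smul_left, hH.smul_left, hH.smul_right, hH.smul_right, map_mul,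
    ← hH.herm u y, sig_apply]
  linear_combination (H x u * H u y) * he

end Cfsg.Agent.Lib.Helper17UWitt
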