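import Mathlib

set_option autoImplicit false

namespace Cfsg.Agent.Lib.Helper18Quad

open QuadraticMap QuadraticForm

variable {F : Type*} [Field F] {ι : Type*} [Fintype ι] [DecidableEq ι]

theorem sum_split (h : ι → F) (i j : ι) (hij : i ≠ j) :
    ∑ k, h k = h i + (h j + ∑ k ∈ (Finset.univ.erase i).erase j, h k) := by
  rw [← Finset.add_sum_erase Finset.univ h (Finset.mem_univ i),
    ← Finset.add_sum_erase (Finset.univ.erase i) h
      (Finset.mem_erase.mpr ⟨hij.symm, Finset.mem_univ j⟩)]

theorem two_coord (w : ι → F) (i j : ι) (hij : i ≠ j) (x y : F)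
    (hxy : w i * x ^ 2 + w j * y ^ 2 = 1) :
    Equivalent (weightedSumSquares F (Function.update (Function.update w i 1) j (w i * w j)))
      (weightedSumSquares F w) := by
  set a := w i with ha
  set b := w j with hb
  let f : (ι → F) →ₗ[F] (ι → F) := LinearMap.pi (fun k =>
    if k = i then x • LinearMap.proj i - (b * y) • LinearMap.proj j
    else if k = j then y • LinearMap.proj i + (a * x) • LinearMap.proj j
    else LinearMap.proj k)
  let g : (ι → F) →ₗ[F] (ι → F) := LinearMap.pi (fun k =>
    if k = i then (a * x) • LinearMap.proj i + (b * y) • LinearMap.proj j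
    else if k = j then (-y) • LinearMap.proj i + x • LinearMap.proj j
    else LinearMap.proj k)
  have hfi : ∀ v, f v i = x * v i - b * y * v j := by intro v; simp [f]
  have hfj : ∀ v, f v j = y * v i + a * x * v j := by intro v; simp [f, hij.symm]
  have hfk : ∀ v k, k ≠ i → k ≠ j → f v k = v k := by intro v k h1 h2; simp [f, h1, h2]
  have hgi : ∀ v, g v i = a * x * v i + b * y * v j := by intro v; simp [g]
  have hgj : ∀ v, g v j = -y * v i + x * v j := by intro v; simp [g, hij.symm]
  have hgk : ∀ v k, k ≠ i → k ≠ j → g v k = v k := by intro v k h1 h2; simp [g, h1, h2]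
  have hfg : f ∘ₗ g = LinearMap.id := by
    apply LinearMap.ext
    intro v
    funext k
    simp only [LinearMap.comp_apply, LinearMap.id_apply]
    by_cases h1 : k = i
    · subst h1
      rw [hfi, hgi, hgj]
      linear_combination (v k) * hxy
    · by_cases h2 : k = j
      · subst h2
        rw [hfj, hgi, hgj]
        linear_combination (v k) * hxy
      · rw [hfk _ _ h1 h2, hgk _ _ h1 h2]
  have hgf : g ∘ₗ f = LinearMap.id := by
    apply LinearMap.ext
    intro v
    funext k
    simp only [LinearMap.comp_apply, LinearMap.id_apply]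
    by_cases h1 : k = i
    · subst h1
      rw [hgi, hfi, hfj]
      linear_combination (v k) * hxy
    · by_cases h2 : k = j
      · subst h2
        rw [hgj, hfi, hfj]
        linear_combination (v k) * hxy
      · rw [hgk _ _ h1 h2, hfk _ _ h1 h2]
  let E : (ι → F) ≃ₗ[F] (ι → F) := LinearEquiv.ofLinearMap f g hfg hgf
  refine ⟨⟨E, ?_⟩⟩
  intro v
  show weightedSumSquares F w (f v) = _
  simp only [weightedSumSquares_apply, smul_eq_mul]
  rw [sum_split _ i j hij, sum_split (fun k => Function.update (Function.update w i 1) j (a * b) k * (v k * v k)) i j hij]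
  have hrest : ∑ k ∈ (Finset.univ.erase i).erase j, w k * (f v k * f v k) =
      ∑ k ∈ (Finset.univ.erase i).erase j,
        Function.update (Function.update w i 1) j (a * b) k * (v k * v k) := by
    refine Finset.sum_congr rfl fun k hk => ?_
    have h2 : k ≠ j := (Finset.mem_erase.mp hk).1
    have h1 : k ≠ i := (Finset.mem_erase.mp (Finset.mem_erase.mp hk).2).1
    rw [hfk _ _ h1 h2, Function.update_of_ne h2, Function.update_of_ne h1]
  rw [hrest, hfi, hfj, Function.update_self, Function.update_of_ne hij, Function.update_self,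
    ← ha, ← hb]
  linear_combination (v i * v i + a * b * (v j * v j)) * hxy

theorem exists_rep [Fintype F] (h2 : (2 : F) ≠ 0) (a b : F) (ha : a ≠ 0) (hb : b ≠ 0) :
    ∃ x y : F, a * x ^ 2 + b * y ^ 2 = 1 := by
  have hchar : ringChar F ≠ 2 := by
    intro h
    apply h2
    have : ((ringChar F : ℕ) : F) = 0 := ringChar.Nat.cast_ringChar
    rw [h] at this
    exact_mod_cast this
  have hcard : Fintype.card F % 2 = 1 := FiniteField.odd_card_of_char_ne_two hchar
  open Polynomial in
  obtain ⟨x, y, hxy⟩ := FiniteField.exists_root_sum_quadratic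
    (f := C a * X ^ 2) (g := C b * X ^ 2 - C 1)
    (by rw [degree_C_mul_X_pow 2 ha]; rfl)
    (by rw [degree_sub_C (by rw [degree_C_mul_X_pow 2 hb]; norm_num), degree_C_mul_X_pow 2 hb]; rfl) hcard
  refine ⟨x, y, ?_⟩
  simp at hxy
  linear_combination hxy

theorem normal_form_aux [Fintype F] (h2 : (2 : F) ≠ 0) (w : ι → F) (hw : ∀ i, w i ≠ 0) (i0 : ι)
    (T : Finset ι) (hT : i0 ∉ T) :
    Equivalent (weightedSumSquares F w) (weightedSumSquares F
      (fun i => if i ∈ T then 1 else if i = i0 then w i0 * ∏ t ∈ T, w t else w i)) := by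
  induction T using Finset.induction_on with
  | empty =>
    have : (fun i => if i ∈ (∅ : Finset ι) then 1 else if i = i0 then w i0 * ∏ t ∈ (∅ : Finset ι), w t
        else w i) = w := by
      funext i
      by_cases h : i = i0
      · simp [h]
      · simp [h]
    rw [this]
  | insert t T ht ih =>
    have hi0t : i0 ≠ t := fun h => hT (h ▸ Finset.mem_insert_self _ _)
    have hi0T : i0 ∉ T := fun h => hT (Finset.mem_insert_of_mem h)
    refine (ih hi0T).trans ?_
    set wT : ι → F := fun i => if i ∈ T then 1 else if i = i0 then w i0 * ∏ t ∈ T, w t else w i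
      with hwT
    have e1 : wT t = w t := by simp [hwT, ht, hi0t.symm]
    have e2 : wT i0 = w i0 * ∏ t ∈ T, w t := by simp [hwT, hi0T]
    have hne2 : wT i0 ≠ 0 := by
      rw [e2]
      exact mul_ne_zero (hw i0) (Finset.prod_ne_zero_iff.mpr fun t _ => hw t)
    obtain ⟨x, y, hxy⟩ := exists_rep h2 (wT t) (wT i0) (by rw [e1]; exact hw t) hne2
    have key := (two_coord wT t i0 hi0t.symm x y hxy).symm
    convert key using 2
    funext k
    by_cases hk0 : k = i0
    · subst hk0
      rw [Function.update_self, e1, e2, Finset.prod_insert ht]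
      simp [hT]
      ring
    · rw [Function.update_of_ne hk0]
      by_cases hkt : k = t
      · subst hkt
        simp
      · rw [Function.update_of_ne hkt]
        simp [hwT, hkt, hk0]

theorem normal_form [Fintype F] (h2 : (2 : F) ≠ 0) (w : ι → F) (hw : ∀ i, w i ≠ 0) (i0 : ι) :
    Equivalent (weightedSumSquares F w) (weightedSumSquares F
      (fun i => if i = i0 then ∏ t, w t else 1)) := by
  have key := normal_form_aux h2 w hw i0 (Finset.univ.erase i0) (Finset.notMem_erase _ _)
  convert key using 2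
  funext k
  by_cases hk : k = i0
  · subst hk
    simp [Finset.mul_prod_erase]
  · simp [hk]


theorem equiv_of_prod [Fintype F] (h2 : (2 : F) ≠ 0) (w w' : ι → F) (hw : ∀ i, w i ≠ 0)
    (hw' : ∀ i, w' i ≠ 0) (i0 : ι) (s : F) (hs : s ≠ 0) (h : ∏ i, w i = (∏ i, w' i) * s ^ 2) :
    Equivalent (weightedSumSquares F w) (weightedSumSquares F w') := by
  refine (normal_form h2 w hw i0).trans (Equivalent.trans ?_ (normal_form h2 w' hw' i0).symm)
  refine ⟨isometryEquivWeightedSumSquaresWeightedSumSquares
      (fun i => if i = i0 then Units.mk0 s hs else 1) ?_⟩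
  intro i
  by_cases hi : i = i0
  · simp only [hi, if_true, Units.val_mk0]
    rw [h]
  · simp [hi]

theorem plus_of_sq [Fintype F] (h2 : (2 : F) ≠ 0) (w : ι → F) (hw : ∀ i, w i ≠ 0) (m : ℕ)
    (hm : Fintype.card ι = 2 * m) (s : F) (h : (-1) ^ m * ∏ i, w i = s ^ 2) :
    ∃ X : Submodule F (ι → F), Module.finrank F X = m ∧ ∀ x ∈ X, weightedSumSquares F w x = 0 := by
  rcases Nat.eq_zero_or_pos m with rfl | hmpos
  · exact ⟨⊥, by simp, by simp⟩
  have hne : Nonempty ι := by
    rw [← Fintype.card_pos_iff]; omega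
  obtain ⟨i0⟩ := hne
  have e : ι ≃ Fin m ⊕ Fin m := Fintype.equivOfCardEq (by simp [hm, two_mul])
  set w' : ι → F := fun k => Sum.elim (fun _ => (1 : F)) (fun _ => (-1 : F)) (e k) with hw'
  have hw'0 : ∀ i, w' i ≠ 0 := by
    intro i
    simp only [hw']
    rcases e i with j | j <;> simp
  have hprod' : ∏ i, w' i = (-1) ^ m := by
    rw [hw', Fintype.prod_equiv e _ (Sum.elim (fun _ => (1 : F)) (fun _ => (-1 : F))) (fun _ => rfl),
      Fintype.prod_sum_type]
    simp
  have hprodne : ∏ i, w i ≠ 0 := Finset.prod_ne_zero_iff.mpr fun i _ => hw i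
  have hs : s ≠ 0 := by
    rintro rfl
    rw [zero_pow (by norm_num)] at h
    rcases mul_eq_zero.mp h with h | h
    · exact (pow_ne_zero _ (by norm_num : (-1 : F) ≠ 0)) h
    · exact hprodne h
  have hsq1 : ((-1 : F) ^ m) * (-1) ^ m = 1 := by
    rw [← mul_pow]; simp
  obtain ⟨E⟩ := equiv_of_prod h2 w w' hw hw'0 i0 s hs (by
    rw [hprod', ← h, ← mul_assoc, hsq1, one_mul])
  let f : (Fin m → F) →ₗ[F] (ι → F) := LinearMap.pi (fun k =>
    Sum.elim (fun j => LinearMap.proj j) (fun j => LinearMap.proj j) (e k))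
  have hf : ∀ t k, f t k = Sum.elim t t (e k) := by
    intro t k
    simp only [f, LinearMap.pi_apply]
    rcases e k with j | j <;> simp
  have hfinj : Function.Injective f := by
    intro t t' htt
    funext j
    have := congrFun htt (e.symm (Sum.inl j))
    simpa [hf] using this
  refine ⟨(LinearMap.range f).map E.symm.toLinearEquiv.toLinearMap, ?_, ?_⟩
  · rw [LinearEquiv.finrank_map_eq, LinearMap.finrank_range_of_inj hfinj, Module.finrank_fin_fun]
  · rintro _ ⟨_, ⟨t, rfl⟩, rfl⟩
    show weightedSumSquares F w (E.symm (f t)) = 0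
    rw [E.symm.map_app, weightedSumSquares_apply]
    simp only [hf, hw', smul_eq_mul]
    rw [Fintype.sum_equiv e _ (fun k' => Sum.elim (fun _ => (1 : F)) (fun _ => (-1 : F)) k' *
      (Sum.elim t t k' * Sum.elim t t k')) (fun _ => rfl), Fintype.sum_sum_type]
    simp

section bilin

variable {V : Type*} [AddCommGroup V] [Module F V]

theorem diag_of_basis (h2 : (2 : F) ≠ 0) (B : LinearMap.BilinForm F V) (hB : B.IsSymm)
    (b : Module.Basis ι F V) (hb : B.IsOrthoᵢ b) (x : V) :
    B x x = weightedSumSquares F (fun i => B (b i) (b i)) (b.equivFun x) := by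
  have : Invertible (2 : F) := invertibleOfNonzero h2
  have hass : associated (R := F) B.toQuadraticMap = B :=
    associated_left_inverse F (fun x y => hB.eq x y)
  have h1 := basisRepr_eq_of_iIsOrtho B.toQuadraticMap b (by rw [hass]; exact hb)
  have h3 : (fun i => B.toQuadraticMap (b i)) = fun i => B (b i) (b i) := rfl
  rw [h3] at h1
  rw [← h1, basisRepr_apply, b.sum_equivFun]
  rfl

theorem ti_of_sq [Fintype F] (h2 : (2 : F) ≠ 0) (B : LinearMap.BilinForm F V) (hB : B.IsSymm)
    (b : Module.Basis ι F V) (hb : B.IsOrthoᵢ b) (hne : ∀ i, B (b i) (b i) ≠ 0) (m : ℕ)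
    (hm : Fintype.card ι = 2 * m) (s : F) (h : (-1) ^ m * ∏ i, B (b i) (b i) = s ^ 2) :
    ∃ X : Submodule F V, Module.finrank F X = m ∧ ∀ x ∈ X, ∀ y ∈ X, B x y = 0 := by
  obtain ⟨X, hX, hX0⟩ := plus_of_sq h2 (fun i => B (b i) (b i)) hne m hm s h
  refine ⟨X.map b.equivFun.symm.toLinearMap, ?_, ?_⟩
  · rw [LinearEquiv.finrank_map_eq, hX]
  · have hq : ∀ x ∈ X.map b.equivFun.symm.toLinearMap, B x x = 0 := by
      rintro _ ⟨x, hx, rfl⟩
      rw [diag_of_basis h2 B hB b hb]
      have : b.equivFun (b.equivFun.symm.toLinearMap x) = x := b.equivFun.apply_symm_apply x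
      rw [this]
      exact hX0 x hx
    intro x hx y hy
    have h1 := hq (x + y) (Submodule.add_mem _ hx hy)
    simp only [map_add, LinearMap.add_apply, hq x hx, hq y hy] at h1
    rw [hB.eq y x] at h1
    have h3 : (2 : F) * B x y = 0 := by
      linear_combination h1
    exact (mul_eq_zero.mp h3).resolve_left h2

end bilin

end Cfsg.Agent.Lib.Helper18Quad
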