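import Mathlib
import Cfsg.Prelude.Def_Classical
import Cfsg.Prelude.Def_ClassicalGeometry

set_option autoImplicit false

namespace Cfsg.Agent.Lib.Helper18Transfer

open Matrix

variable {ι : Type} [Fintype ι] [DecidableEq ι] {F F' : Type*} [Field F] [Field F']

/-- a field isomorphism induces an isomorphism of general linear groups -/
def glEquiv (e : F ≃+* F') : Matrix.GeneralLinearGroup ι F ≃* Matrix.GeneralLinearGroup ι F' :=
  Units.mapEquiv (RingEquiv.mapMatrix e).toMulEquiv

theorem coe_glEquiv (e : F ≃+* F') (g : Matrix.GeneralLinearGroup ι F) :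
    ((glEquiv e g : Matrix.GeneralLinearGroup ι F') : Matrix ι ι F') = (g : Matrix ι ι F).map e := rfl

theorem glEquiv_mulVec (e : F ≃+* F') (g : Matrix.GeneralLinearGroup ι F) (v : ι → F) :
    ((glEquiv e g : Matrix.GeneralLinearGroup ι F') : Matrix ι ι F') *ᵥ (fun i => e (v i))
      = fun i => e (((g : Matrix ι ι F) *ᵥ v) i) := by
  funext i
  rw [coe_glEquiv]
  exact (RingHom.map_mulVec (e : F →+* F') (g : Matrix ι ι F) v i).symm

theorem mem_iso {Q : (ι → F) → F} {g : Matrix.GeneralLinearGroup ι F} :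
    g ∈ Cfsg.isometryGroup F Q ↔ ∀ v, Q ((g : Matrix ι ι F) *ᵥ v) = Q v :=
  ⟨fun h v => h v v, fun h u _ => h u⟩

theorem mem_of_mem (e : F ≃+* F') (Q : (ι → F) → F) (Q' : (ι → F') → F')
    (h : ∀ v, e (Q v) = Q' (fun i => e (v i))) {g : Matrix.GeneralLinearGroup ι F}
    (hg : g ∈ Cfsg.isometryGroup F Q) : glEquiv e g ∈ Cfsg.isometryGroup F' Q' := by
  rw [mem_iso] at hg ⊢
  intro v'
  obtain ⟨v, rfl⟩ : ∃ v : ι → F, v' = fun i => e (v i) :=
    ⟨fun i => e.symm (v' i), by funext i; simp⟩
  rw [glEquiv_mulVec, ← h, ← h, hg]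

omit [Fintype ι] [DecidableEq ι] in
theorem symm_compat (e : F ≃+* F') (Q : (ι → F) → F) (Q' : (ι → F') → F')
    (h : ∀ v, e (Q v) = Q' (fun i => e (v i))) :
    ∀ v', e.symm (Q' v') = Q (fun i => e.symm (v' i)) := by
  intro v'
  apply e.injective
  rw [h]
  simp

theorem glEquiv_symm (e : F ≃+* F') (g : Matrix.GeneralLinearGroup ι F') :
    (glEquiv e).symm g = glEquiv e.symm g := rfl

/-- transfer of isometry groups along a field isomorphism -/
def isoEquiv (e : F ≃+* F') (Q : (ι → F) → F) (Q' : (ι → F') → F')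
    (h : ∀ v, e (Q v) = Q' (fun i => e (v i))) :
    ↥(Cfsg.isometryGroup F Q) ≃* ↥(Cfsg.isometryGroup F' Q') where
  toFun g := ⟨glEquiv e g.1, mem_of_mem e Q Q' h g.2⟩
  invFun g := ⟨glEquiv e.symm g.1, mem_of_mem e.symm Q' Q (symm_compat e Q Q' h) g.2⟩
  left_inv g := Subtype.ext ((glEquiv e).symm_apply_apply g.1)
  right_inv g := Subtype.ext ((glEquiv e).apply_symm_apply g.1)
  map_mul' g g' := Subtype.ext (map_mul (glEquiv e) g.1 g'.1)

theorem coe_isoEquiv (e : F ≃+* F') (Q : (ι → F) → F) (Q' : (ι → F') → F')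
    (h : ∀ v, e (Q v) = Q' (fun i => e (v i))) (g : ↥(Cfsg.isometryGroup F Q)) :
    (((isoEquiv e Q Q' h g : ↥(Cfsg.isometryGroup F' Q')) : Matrix.GeneralLinearGroup ι F') :
      Matrix ι ι F') = ((g : Matrix.GeneralLinearGroup ι F) : Matrix ι ι F).map e := rfl

/-- transfer of special isometry groups along a field isomorphism -/
def specialIsoEquiv (e : F ≃+* F') (Q : (ι → F) → F) (Q' : (ι → F') → F')
    (h : ∀ v, e (Q v) = Q' (fun i => e (v i))) :
    ↥(Cfsg.specialIsometryGroup F Q) ≃* ↥(Cfsg.specialIsometryGroup F' Q') :=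
  ((isoEquiv e Q Q' h).subgroupMap (Cfsg.specialIsometryGroup F Q)).trans
    (MulEquiv.subgroupCongr (by
      ext g'
      simp only [Subgroup.mem_map]
      have key : ∀ g : ↥(Cfsg.isometryGroup F Q), g ∈ Cfsg.specialIsometryGroup F Q ↔
          isoEquiv e Q Q' h g ∈ Cfsg.specialIsometryGroup F' Q' := by
        intro g
        simp only [Cfsg.specialIsometryGroup, MonoidHom.mem_ker, MonoidHom.comp_apply,
          Subgroup.coe_subtype, Units.ext_iff, Matrix.GeneralLinearGroup.val_det_apply,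
          Units.val_one, coe_isoEquiv]
        have : (((g : Matrix.GeneralLinearGroup ι F) : Matrix ι ι F).map e).det
            = e ((g : Matrix.GeneralLinearGroup ι F) : Matrix ι ι F).det :=
          (RingHom.map_det (e : F →+* F') _).symm
        rw [this]
        constructor
        · intro h1; rw [h1, map_one]
        · intro h1; exact e.injective (by rw [h1, map_one])
      constructor
      · rintro ⟨g, hg, rfl⟩
        exact (key g).1 hg
      · intro hg'
        refine ⟨(isoEquiv e Q Q' h).symm g', ?_, by simp⟩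
        rw [key]
        simpa using hg'))

/-- a field with `p` elements is `ZMod p` -/
theorem exists_ringEquiv_zmod [Fintype F] (p : ℕ) [Fact p.Prime] (hF : Fintype.card F = p) :
    Nonempty (F ≃+* ZMod p) :=
  ⟨(ZMod.ringEquivOfPrime F (Fact.out) hF).symm⟩

end Cfsg.Agent.Lib.Helper18Transfer
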