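import Cfsg.Agent.Lib.Helper19Ratio
import Cfsg.Agent.Lib.Helper19Det
import Cfsg.Agent.S0187
import Mathlib

set_option autoImplicit false

namespace Cfsg.Agent.Lib.Helper19Chief

open Cfsg Cfsg.Agent.Lib.Helper19Ind Cfsg.Agent.Lib.Helper4Char Cfsg.Agent.Lib.Helper4Char2
  Cfsg.Agent.Lib.Helper4Char4 Cfsg.Agent.Lib.Helper19Cliff Cfsg.Agent.Lib.Helper19Gal
  Cfsg.Agent.Lib.Helper19Ratio Cfsg.Agent.Lib.Helper19Lin Cfsg.Agent.Lib.Helper19Det
open scoped ComplexConjugate

section

variable {K L : Type*} [Group K] [Group L] [Fintype K] [Fintype L]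
  (ι : L →* K) (hι : Function.Injective ι) (c : K →* MulAut L)
  (hc : ∀ (k : K) (l : L), ι (c k l) = k * ι l * k⁻¹)

omit [Fintype K] [Fintype L] in
include hι hc in
theorem c_ι (l₀ l : L) : c (ι l₀) l = l₀ * l * l₀⁻¹ := by
  apply hι
  rw [hc, map_mul, map_mul, map_inv]

omit [Fintype K] [Fintype L] in
include hι hc in
theorem range_le_inertia {φ : L → ℂ} (hφ : IsClassFunction L φ) : ι.range ≤ inertia c φ := by
  rintro _ ⟨l₀, rfl⟩ l
  rw [c_ι ι hι c hc]
  exact hφ l l₀

omit [Fintype K] [Fintype L] in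
theorem conj_eq_iff (φ : L → ℂ) (k k₀ : K) :
    ((fun l => φ (c k l)) = fun l => φ (c k₀ l)) ↔ k * k₀⁻¹ ∈ inertia c φ := by
  constructor
  · intro h l
    have h1 : φ (c k (c k₀⁻¹ l)) = φ (c k₀ (c k₀⁻¹ l)) := congrFun h (c k₀⁻¹ l)
    rw [map_mul, MulAut.mul_apply, h1, ← MulAut.mul_apply, ← map_mul, mul_inv_cancel, map_one,
      MulAut.one_apply]
  · intro h
    funext l
    have h1 := h (c k₀ l)
    rw [← MulAut.mul_apply, ← map_mul, inv_mul_cancel_right] at h1
    exact h1

omit [Fintype K] [Fintype L] in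
include hι in
theorem card_range [Finite L] : Nat.card ι.range = Nat.card L :=
  (Nat.card_congr (MonoidHom.ofInjective hι).toEquiv).symm

include hι hc in
theorem res_of_inertia_eq_range {ϑ : K → ℂ} (hϑ : IsIrrCharacter K ϑ) {φ : L → ℂ}
    (hφ : IsIrrCharacter L φ) (hcon : classInner (fun l => ϑ (ι l)) φ ≠ 0)
    (hI : inertia c φ = ι.range) :
    ind ι φ = ϑ ∧ ∃ F : Finset (L → ℂ), (∀ ψ ∈ F, IsIrrCharacter L ψ) ∧ F.card = ι.range.index ∧
      (fun l => ϑ (ι l)) = ∑ ψ ∈ F, ψ := by
  classical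
  obtain ⟨ψ, hψ, hind, hinner⟩ := clifford_corr ι hι (MonoidHom.id L) (fun _ _ h => h) c hc hφ
    (fun g => by rw [← hI]; rfl) hϑ hcon
  have hψφ : ψ = φ := by
    by_contra hne
    exact hcon (hinner.symm.trans (classInner_irr_ne hψ hφ hne))
  rw [hψφ] at hind
  have hfib : ∀ k₀ : K, (Finset.univ.filter fun k : K =>
      (fun l => φ (c k l)) = fun l => φ (c k₀ l)).card = Fintype.card L := by
    intro k₀
    have h1 : (Finset.univ.filter fun k : K => (fun l => φ (c k l)) = fun l => φ (c k₀ l))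
        = Finset.univ.image (fun l : L => ι l * k₀) := by
      ext k
      simp only [Finset.mem_filter, Finset.mem_univ, true_and, Finset.mem_image]
      rw [conj_eq_iff, hI]
      constructor
      · rintro ⟨l, hl⟩
        exact ⟨l, by rw [hl, inv_mul_cancel_right]⟩
      · rintro ⟨l, rfl⟩
        exact ⟨l, by rw [mul_inv_cancel_right]⟩
    rw [h1, Finset.card_image_of_injective _ (fun a b h => hι (mul_right_cancel h)), Finset.card_univ]
  have hfib' : ∀ b ∈ Finset.univ.image (fun k : K => fun l => φ (c k l)),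
      (Finset.univ.filter fun k : K => (fun l => φ (c k l)) = b).card = Fintype.card L := by
    intro b hb
    obtain ⟨k₀, -, rfl⟩ := Finset.mem_image.1 hb
    exact hfib k₀
  have hL0 : (Nat.card L : ℂ) ≠ 0 := card_ne_zero
  refine ⟨hind, Finset.univ.image (fun k : K => fun l => φ (c k l)), ?_, ?_, ?_⟩
  · intro ψ' hψ'
    obtain ⟨k, -, rfl⟩ := Finset.mem_image.1 hψ'
    exact conj_isIrr c hφ k
  · have h1 := Finset.card_eq_sum_card_image (fun k : K => fun l => φ (c k l)) Finset.univ
    rw [Finset.sum_congr rfl hfib', Finset.sum_const, smul_eq_mul, Finset.card_univ] at h1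
    have h2 := ι.range.index_mul_card
    rw [card_range ι hι, Nat.card_eq_fintype_card, Nat.card_eq_fintype_card, h1] at h2
    exact (Nat.eq_of_mul_eq_mul_right Fintype.card_pos h2).symm
  · rw [← hind, res_ind ι hι c hc]
    have h1 := Finset.sum_comp (s := Finset.univ) (fun b : L → ℂ => b) (fun k : K => fun l => φ (c k l))
    rw [h1, Finset.sum_congr rfl (fun b hb => by rw [hfib' b hb]), ← Finset.smul_sum,
      ← Nat.card_eq_fintype_card, ← Nat.cast_smul_eq_nsmul ℂ, smul_smul, inv_mul_cancel₀ hL0, one_smul]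

end

section

variable {K L A : Type*} [Group K] [Group L] [Group A] [Fintype K] [Fintype L]
  (ι : L →* K) (hι : Function.Injective ι) (c : K →* MulAut L)
  (hc : ∀ (k : K) (l : L), ι (c k l) = k * ι l * k⁻¹)
  (aK : A →* MulAut K) (aL : A →* MulAut L) (ha : ∀ a l, ι (aL a l) = aK a (ι l))
  (hchief : ∀ M : Subgroup K, ι.range ≤ M → (∀ a, ∀ m ∈ M, aK a m ∈ M) → M = ι.range ∨ M = ⊤)
  (hab : ∀ x y : K, x * y * x⁻¹ * y⁻¹ ∈ ι.range)
  {ϑ : K → ℂ} (hϑ : IsIrrCharacter K ϑ) (hinv : ∀ a k, ϑ (aK a k) = ϑ k)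

include hι hc ha hchief hab hϑ hinv in
theorem inertia_eq {φ : L → ℂ} (hφ : IsIrrCharacter L φ)
    (hcon : classInner (fun l => ϑ (ι l)) φ ≠ 0) :
    inertia c φ = ι.range ∨ inertia c φ = ⊤ := by
  have hle := range_le_inertia ι hι c hc (IsIrrCharacter.isClassFunction hφ)
  apply hchief _ hle
  intro a k hk
  -- `φ ∘ aL a` is a constituent as well
  have hφa : IsIrrCharacter L (fun l => φ (aL a l)) :=
    Cfsg.Agent.Lib.Helper82Quot.isIrrCharacter_comp hφ (aL a).toMonoidHom (aL a).surjective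
  have hcon' : classInner (fun l => ϑ (ι l)) (fun l => φ (aL a l)) ≠ 0 := by
    have h1 : classInner (fun l => ϑ (ι l)) (fun l => φ (aL a l)) = classInner (fun l => ϑ (ι l)) φ := by
      unfold classInner
      congr 1
      rw [← Equiv.sum_comp (aL a).toEquiv (fun m => ϑ (ι m) * conj (φ m))]
      refine Finset.sum_congr rfl fun l _ => ?_
      show _ = ϑ (ι (aL a l)) * conj (φ (aL a l))
      rw [ha, hinv]
    rw [h1]; exact hcon
  obtain ⟨k₀, hk₀⟩ := clifford_conj ι hι c hc hϑ hφ hφa hcon hcon'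
  have hcomm : ∀ l, aL a (c k l) = c (aK a k) (aL a l) := by
    intro l
    apply hι
    rw [ha, hc, hc, map_mul, map_mul, map_inv, ha]
  intro l'
  obtain ⟨l, rfl⟩ := (aL a).surjective l'
  rw [← hcomm]
  have h1 : φ (aL a (c k l)) = φ (c k₀ (c k l)) := congrFun hk₀ (c k l)
  have h2 : φ (aL a l) = φ (c k₀ l) := congrFun hk₀ l
  rw [h1, h2, ← MulAut.mul_apply, ← map_mul]
  have h3 : k₀ * k = (k₀ * k * k₀⁻¹ * k⁻¹) * k * k₀ := by group
  rw [h3, map_mul, map_mul, MulAut.mul_apply, MulAut.mul_apply, hle (hab k₀ k), hk]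

include hι hc ha hchief hab hϑ hinv in
theorem res_of_invariant {φ : L → ℂ} (hφ : IsIrrCharacter L φ)
    (hcon : classInner (fun l => ϑ (ι l)) φ ≠ 0) (hI : ∀ k l, φ (c k l) = φ l) :
    IsIrrCharacter L (fun l => ϑ (ι l)) ∨
      ∃ e : ℕ, (fun l => ϑ (ι l)) = (e : ℂ) • φ ∧ e ^ 2 = ι.range.index := by
  classical
  haveI := range_normal ι c hc
  have hϑc := IsIrrCharacter.isCharacter hϑ
  have hφc := IsIrrCharacter.isCharacter hφ
  have hresc : IsCharacter L (fun l => ϑ (ι l)) := IsCharacter.comp ι hϑc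
  have hres := clifford_invariant ι hι c hc hϑ hφ hI hcon
  obtain ⟨e, he⟩ : ∃ e : ℕ, classInner (fun l => ϑ (ι l)) φ = e := ⟨_, nip_spec hresc hφc⟩
  rw [he] at hres hcon
  have he0 : e ≠ 0 := by rintro rfl; exact hcon (by simp)
  have hidx : (ι.range.index : ℂ) * (Nat.card L : ℂ) = (Nat.card K : ℂ) := by
    have h2 := ι.range.index_mul_card
    rw [card_range ι hι] at h2
    exact_mod_cast h2
  have hL0 : (Nat.card L : ℂ) ≠ 0 := card_ne_zero
  have hK0 : (Nat.card K : ℂ) ≠ 0 := card_ne_zero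
  obtain ⟨U, hU⟩ : ∃ U : Subgroup K, U = Subgroup.closure {k | ϑ k ≠ 0} ⊔ ι.range := ⟨_, rfl⟩
  have hUinv : ∀ a, ∀ m ∈ U, aK a m ∈ U := by
    intro a
    have h1 : U ≤ U.comap (aK a).toMonoidHom := by
      conv_lhs => rw [hU]
      apply sup_le
      · rw [Subgroup.closure_le]
        intro k hk
        show aK a k ∈ U
        rw [hU]
        apply Subgroup.mem_sup_left
        apply Subgroup.subset_closure
        show ϑ (aK a k) ≠ 0
        rw [hinv]; exact hk
      · rintro _ ⟨l, rfl⟩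
        show aK a (ι l) ∈ U
        rw [hU, ← ha]
        exact Subgroup.mem_sup_right ⟨_, rfl⟩
    exact h1
  have hnormres : classInner (fun l => ϑ (ι l)) (fun l => ϑ (ι l)) = (e : ℂ) ^ 2 := by
    rw [hres, classInner_smul_left, classInner_smul_right, classInner_irr_self hφ,
      Complex.conj_natCast]
    ring
  rcases hchief U (by rw [hU]; exact le_sup_right) hUinv with hUL | hUtop
  · right
    refine ⟨e, hres, ?_⟩
    have hvan : ∀ k ∉ Set.range ι, ϑ k * conj (ϑ k) = 0 := by
      intro k hk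
      by_contra h0
      apply hk
      have h1 : ϑ k ≠ 0 := fun h => h0 (by rw [h, zero_mul])
      have h2 : k ∈ U := by
        rw [hU]
        exact Subgroup.mem_sup_left (Subgroup.subset_closure h1)
      rw [hUL] at h2
      exact h2
    have h1 := Fintype.sum_of_injective ι hι (fun l => ϑ (ι l) * conj (ϑ (ι l)))
      (fun k => ϑ k * conj (ϑ k)) hvan (fun _ => rfl)
    have h2 := classInner_irr_self hϑ
    unfold classInner at h2 hnormres
    rw [← h1] at h2
    have h3 : (∑ l : L, ϑ (ι l) * conj (ϑ (ι l))) = (Nat.card K : ℂ) := by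
      field_simp at h2
      exact h2
    rw [h3, ← hidx] at hnormres
    have h4 : (ι.range.index : ℂ) = (e : ℂ) ^ 2 := by
      rw [← hnormres]
      field_simp
    exact_mod_cast h4.symm
  · left
    have hQcomm : ∀ a b : K ⧸ ι.range, a * b = b * a := by
      intro a b
      obtain ⟨x, rfl⟩ := QuotientGroup.mk_surjective a
      obtain ⟨y, rfl⟩ := QuotientGroup.mk_surjective b
      have h1 := (QuotientGroup.eq_one_iff _).2 (hab x y)
      simp only [QuotientGroup.mk_mul, QuotientGroup.mk_inv] at h1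
      rw [mul_inv_eq_one, mul_inv_eq_iff_eq_mul] at h1
      exact h1
    have hlin := (Cfsg.Agent.S0187.result (G := K ⧸ ι.range)).1 hQcomm
    letI : Fintype (K ⧸ ι.range) := Fintype.ofFinite _
    have hcardQ : Fintype.card (IrrCharacter (K ⧸ ι.range)) = ι.range.index := by
      have h1 := sum_degree_sq (G := K ⧸ ι.range)
      simp only [hlin, one_pow, Finset.sum_const, Finset.card_univ, nsmul_eq_mul, mul_one] at h1
      rw [Subgroup.index_eq_card]
      exact_mod_cast h1
    choose f hf using fun lam : IrrCharacter (K ⧸ ι.range) =>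
      exists_hom_of_linear (IsIrrCharacter.isCharacter lam.2) (hlin lam)
    obtain ⟨j, hj⟩ : ∃ j : IrrCharacter (K ⧸ ι.range) → IrrCharacter K, ∀ lam,
        (j lam : K → ℂ) = homFun ((f lam).comp (QuotientGroup.mk' ι.range)) * ϑ :=
      ⟨fun lam => ⟨_, isIrr_homFun_mul _ hϑ⟩, fun _ => rfl⟩
    have hjinj : Function.Injective j := by
      intro lam mu h
      have h1 : ∀ k, homFun ((f lam).comp (QuotientGroup.mk' ι.range)) k * ϑ k
          = homFun ((f mu).comp (QuotientGroup.mk' ι.range)) k * ϑ k := by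
        intro k
        have h2 := congrFun (congrArg Subtype.val h) k
        rw [hj, hj] at h2
        exact h2
      have h2 : U ≤ ((f lam).comp (QuotientGroup.mk' ι.range)).eqLocus
          ((f mu).comp (QuotientGroup.mk' ι.range)) := by
        rw [hU]
        apply sup_le
        · rw [Subgroup.closure_le]
          intro k hk
          have h3 := mul_right_cancel₀ hk (h1 k)
          exact Units.ext h3
        · rintro _ ⟨l, rfl⟩
          show (f lam) (QuotientGroup.mk' ι.range (ι l)) = (f mu) (QuotientGroup.mk' ι.range (ι l))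
          have : QuotientGroup.mk' ι.range (ι l) = 1 := (QuotientGroup.eq_one_iff _).2 ⟨l, rfl⟩
          rw [this, map_one, map_one]
      rw [hUtop] at h2
      have h3 : f lam = f mu := by
        apply MonoidHom.ext
        intro q
        obtain ⟨x, rfl⟩ := QuotientGroup.mk_surjective q
        exact h2 (Subgroup.mem_top x)
      apply Subtype.ext
      rw [← hf, ← hf, h3]
    have hindc := ind_isCharacter ι hφc
    have hn : ∀ ξ : IrrCharacter K, classInner (ind ι φ) ξ = (nip (ind ι φ) ξ : ℂ) :=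
      fun ξ => nip_spec hindc (IsIrrCharacter.isCharacter ξ.2)
    have hnj : ∀ lam, nip (ind ι φ) (j lam) = e := by
      intro lam
      have h1 := hn (j lam)
      rw [frobenius ι _ _ (IsIrrCharacter.isClassFunction (j lam).2)] at h1
      have h2 : (fun l => (j lam : K → ℂ) (ι l)) = fun l => ϑ (ι l) := by
        funext l
        rw [hj, Pi.mul_apply, homFun_apply]
        have : QuotientGroup.mk' ι.range (ι l) = 1 := (QuotientGroup.eq_one_iff _).2 ⟨l, rfl⟩
        rw [MonoidHom.comp_apply, this, map_one]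
        simp
      rw [h2, ← classInner_conj_symm, he, Complex.conj_natCast] at h1
      exact_mod_cast h1.symm
    have hnorm := norm_ind_invariant ι hι c hc hφ hI
    rw [classInner_eq_sum _ _ (ind_isClassFunction ι φ)] at hnorm
    have h5 : ∀ ξ : IrrCharacter K, classInner (ind ι φ) ξ * classInner (ξ : K → ℂ) (ind ι φ)
        = ((nip (ind ι φ) ξ ^ 2 : ℕ) : ℂ) := by
      intro ξ
      rw [← classInner_conj_symm (ind ι φ) (ξ : K → ℂ), hn, Complex.conj_natCast]
      push_cast; ring
    rw [Finset.sum_congr rfl (fun ξ _ => h5 ξ), ← hidx, mul_div_assoc, div_self hL0, mul_one] at hnorm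
    have h6 : ∑ ξ : IrrCharacter K, nip (ind ι φ) ξ ^ 2 = ι.range.index := by exact_mod_cast hnorm
    have h7 : ∑ ξ ∈ Finset.univ.image j, nip (ind ι φ) ξ ^ 2 ≤ ∑ ξ : IrrCharacter K, nip (ind ι φ) ξ ^ 2 :=
      Finset.sum_le_sum_of_subset (Finset.subset_univ _)
    rw [Finset.sum_image (fun a _ b _ h => hjinj h), Finset.sum_congr rfl (fun lam _ => by rw [hnj lam]),
      Finset.sum_const, Finset.card_univ, hcardQ, h6, smul_eq_mul] at h7
    have hidx0 : 0 < ι.range.index := Nat.pos_of_ne_zero Subgroup.index_ne_zero_of_finite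
    have h8 : e ^ 2 ≤ 1 := by
      by_contra hcon2
      push Not at hcon2
      nlinarith
    have h9 : e = 1 := by
      rcases Nat.lt_or_ge e 2 with h | h
      · omega
      · nlinarith
    rw [hres, h9]
    simpa using hφ

end

end Cfsg.Agent.Lib.Helper19Chief
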