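import Mathlib

set_option autoImplicit false

namespace Cfsg.Agent.Lib.Helper19Solv

variable {G : Type*} [Group G]

theorem derivedSeries_le_of_solvable_quotient (R : Subgroup G) [R.Normal]
    (h : Group.IsSolvable (G ⧸ R)) : ∃ j, derivedSeries G j ≤ R := by
  obtain ⟨j, hj⟩ := h
  refine ⟨j, ?_⟩
  rw [← map_derivedSeries_eq (f := QuotientGroup.mk' R) (QuotientGroup.mk'_surjective R) j,
    Subgroup.map_eq_bot_iff, QuotientGroup.ker_mk'] at hj
  exact hj

theorem solvable_quotient_of_derivedSeries_le (R : Subgroup G) [R.Normal]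
    (h : ∃ j, derivedSeries G j ≤ R) : Group.IsSolvable (G ⧸ R) := by
  obtain ⟨j, hj⟩ := h
  refine ⟨j, ?_⟩
  rw [← map_derivedSeries_eq (f := QuotientGroup.mk' R) (QuotientGroup.mk'_surjective R) j,
    Subgroup.map_eq_bot_iff, QuotientGroup.ker_mk']
  exact hj

theorem derivedSeries_subgroup_le (M : Subgroup G) (j : ℕ) :
    (derivedSeries M j).map M.subtype ≤ derivedSeries G j :=
  map_derivedSeries_le_derivedSeries M.subtype j

/-- A proper normal subgroup with solvable quotient lies in a proper normal subgroup with cyclic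
quotient. -/
theorem exists_normal_cyclic_quotient [Finite G] (R : Subgroup G) [R.Normal] (hR : R ≠ ⊤)
    (hsol : ∃ j, derivedSeries G j ≤ R) :
    ∃ (M : Subgroup G) (_ : M.Normal), R ≤ M ∧ M ≠ ⊤ ∧ IsCyclic (G ⧸ M) := by
  haveI := solvable_quotient_of_derivedSeries_le R hsol
  haveI : Nontrivial (G ⧸ R) := by
    rw [← not_subsingleton_iff_nontrivial]
    intro hs
    exact hR (QuotientGroup.subgroup_eq_top_of_subsingleton R hs)
  have hK : commutator (G ⧸ R) < ⊤ := Group.IsSolvable.commutator_lt_top_of_nontrivial (G ⧸ R)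
  obtain ⟨Mb, hMb, hKM⟩ := (eq_top_or_exists_le_coatom (commutator (G ⧸ R))).resolve_left hK.ne
  haveI hMbn : Mb.Normal := by
    rw [← Subgroup.commutator_top_left_le_iff]
    exact (Subgroup.commutator_mono le_rfl le_top).trans hKM
  refine ⟨Mb.comap (QuotientGroup.mk' R), inferInstance, ?_, ?_, ?_⟩
  · conv_lhs => rw [← QuotientGroup.ker_mk' R]
    exact MonoidHom.ker_le_comap _ _
  · intro h
    apply hMb.1
    apply Subgroup.comap_injective (QuotientGroup.mk'_surjective R)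
    rw [h, Subgroup.comap_top]
  · obtain ⟨xb, hxb⟩ : ∃ x, x ∉ Mb := by
      by_contra hcon
      push Not at hcon
      exact hMb.1 (eq_top_iff.2 fun x _ => hcon x)
    obtain ⟨x, rfl⟩ := QuotientGroup.mk_surjective xb
    have htop : Mb ⊔ Subgroup.zpowers (x : G ⧸ R) = ⊤ := by
      apply hMb.2
      rw [lt_iff_le_and_ne]
      refine ⟨le_sup_left, fun h => hxb ?_⟩
      rw [h]
      exact (le_sup_right : Subgroup.zpowers (x : G ⧸ R) ≤ _) (Subgroup.mem_zpowers _)
    refine ⟨⟨(x : G ⧸ Mb.comap (QuotientGroup.mk' R)), fun q => ?_⟩⟩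
    obtain ⟨g, rfl⟩ := QuotientGroup.mk_surjective q
    have hg : (g : G ⧸ R) ∈ Mb ⊔ Subgroup.zpowers (x : G ⧸ R) := by rw [htop]; trivial
    rw [← SetLike.mem_coe, Subgroup.normal_mul] at hg
    obtain ⟨m, hm, y, hy, hmy⟩ := hg
    obtain ⟨k, rfl⟩ := Subgroup.mem_zpowers_iff.1 hy
    refine ⟨k, ?_⟩
    show (x : G ⧸ Mb.comap (QuotientGroup.mk' R)) ^ k = _
    rw [← QuotientGroup.mk_zpow, QuotientGroup.eq, Subgroup.mem_comap]
    have h1 : QuotientGroup.mk' R ((x ^ k)⁻¹ * g) = ((x : G ⧸ R) ^ k)⁻¹ * (g : G ⧸ R) := by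
      simp
    rw [h1, ← hmy]
    have h2 : ((x : G ⧸ R) ^ k)⁻¹ * (m * (x : G ⧸ R) ^ k)
        = ((x : G ⧸ R) ^ k)⁻¹ * m * (((x : G ⧸ R) ^ k)⁻¹)⁻¹ := by group
    show ((x : G ⧸ R) ^ k)⁻¹ * (m * (x : G ⧸ R) ^ k) ∈ Mb
    rw [h2]
    exact hMbn.conj_mem m hm _

end Cfsg.Agent.Lib.Helper19Solv
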