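import Cfsg.Agent.Lib.Helper19Det
import Cfsg.Agent.Lib.Helper19Solv
import Cfsg.Agent.S0886
import Mathlib

set_option autoImplicit false

namespace Cfsg.Agent.Lib.Helper19Det2

open Cfsg Cfsg.Agent.Lib.Helper19Lin Cfsg.Agent.Lib.Helper4Char Cfsg.Agent.Lib.Helper19Det
  Cfsg.Agent.Lib.Helper19Solv

universe u v

/-- Isaacs 6.25 (the nontrivial direction) in the homomorphism setting. -/
theorem ext_of_det_solvable {N : Type v} [Group N] [Finite N] {ϑ : N → ℂ}
    (hϑ : IsIrrCharacter N ϑ) (d : ℕ) (hd : ϑ 1 = d) :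
    ∀ (k : ℕ) (G : Type u) [Group G] [Finite G] (ι : N →* G) (_ : Function.Injective ι)
      (c : G →* MulAut N) (_ : ∀ (g : G) (n : N), ι (c g n) = g * ι n * g⁻¹)
      (_ : ∃ j, derivedSeries G j ≤ ι.range) (_ : ∀ g n, ϑ (c g n) = ϑ n)
      (_ : Nat.Coprime ι.range.index d) (μ : G →* ℂˣ)
      (_ : ∀ n, homFun μ (ι n) = detChar ϑ n), Nat.card G = k →
      ∃ χ : G → ℂ, IsIrrCharacter G χ ∧ ∀ n, χ (ι n) = ϑ n := by
  intro k
  induction k using Nat.strong_induction_on with
  | _ k ih =>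
  intro G _ _ ι hι c hc hsol hinv hcop μ hμ hk
  classical
  haveI := range_normal ι c hc
  by_cases htop : ι.range = ⊤
  · have hsurj : Function.Surjective ι := MonoidHom.range_eq_top.1 htop
    obtain ⟨e, he⟩ : ∃ e : N ≃* G, ∀ n, e n = ι n := ⟨MulEquiv.ofBijective ι ⟨hι, hsurj⟩, fun _ => rfl⟩
    refine ⟨ϑ ∘ e.symm.toMonoidHom,
      Cfsg.Agent.Lib.Helper82Quot.isIrrCharacter_comp hϑ _ e.symm.surjective, fun n => ?_⟩
    show ϑ (e.symm (ι n)) = ϑ n
    rw [← he, e.symm_apply_apply]
  · obtain ⟨M, hMn, hRM, hMtop, hcyc⟩ := exists_normal_cyclic_quotient ι.range htop hsol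
    obtain ⟨ι', hι'⟩ : ∃ ι' : N →* M, ∀ n, (ι' n : G) = ι n :=
      ⟨ι.codRestrict M (fun n => hRM ⟨n, rfl⟩), fun _ => rfl⟩
    have hι'inj : Function.Injective ι' := by
      intro a b hab
      apply hι
      rw [← hι', ← hι', hab]
    have hc' : ∀ (g : M) (n : N), ι' ((c.comp M.subtype) g n) = g * ι' n * g⁻¹ := by
      intro g n
      apply Subtype.ext
      rw [hι']
      simp only [MonoidHom.comp_apply, Subgroup.subtype_apply, Subgroup.coe_mul, Subgroup.coe_inv,
        hι']
      exact hc g n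
    have hrange : ι'.range = ι.range.subgroupOf M := by
      ext x
      rw [Subgroup.mem_subgroupOf]
      constructor
      · rintro ⟨n, rfl⟩
        exact ⟨n, (hι' n).symm⟩
      · rintro ⟨n, hn⟩
        exact ⟨n, Subtype.ext ((hι' n).trans hn)⟩
    have hsol' : ∃ j, derivedSeries M j ≤ ι'.range := by
      obtain ⟨j, hj⟩ := hsol
      refine ⟨j, fun x hx => ?_⟩
      rw [hrange, Subgroup.mem_subgroupOf]
      exact hj (derivedSeries_subgroup_le M j ⟨x, hx, rfl⟩)
    have hcop' : Nat.Coprime ι'.range.index d := by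
      rw [hrange]
      exact Nat.Coprime.coprime_dvd_left (Subgroup.relIndex_dvd_index_of_normal ι.range M) hcop
    have hcard : Nat.card M < k := by
      rw [← hk]
      have h1 := Subgroup.card_mul_index M
      have h2 : M.index ≠ 1 := fun h => hMtop (Subgroup.index_eq_one.1 h)
      have h3 : M.index ≠ 0 := Subgroup.index_ne_zero_of_finite
      have h4 : 0 < Nat.card M := Nat.card_pos
      nlinarith [show 2 ≤ M.index by omega]
    obtain ⟨ψ₀, hψ₀, hψ₀N⟩ := ih _ hcard M ι' hι'inj (c.comp M.subtype) hc' hsol'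
      (fun g n => hinv g n) hcop' (μ.comp M.subtype)
      (fun n => by rw [← hμ n, ← hι' n]; rfl) rfl
    letI : Fintype M := Fintype.ofFinite M
    letI : Fintype N := Fintype.ofFinite N
    obtain ⟨ψ, ⟨hψ, hψN, hψdet⟩, huniq⟩ := det_unique_ext ι' hι'inj _ hc' hϑ d hd hcop'
      ⟨ψ₀, hψ₀, hψ₀N⟩ (μ.comp M.subtype) (fun n => by rw [← hμ n, ← hι' n]; rfl)
    have hψinv : ∀ (g : G) (m : M), ψ ⟨g * m * g⁻¹, hMn.conj_mem m m.2 g⟩ = ψ m := by
      intro g m
      have h1 : (fun m => ψ ((MulAut.conjNormal g : MulAut M).toMonoidHom m)) = ψ := by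
        apply huniq
        refine ⟨Cfsg.Agent.Lib.Helper82Quot.isIrrCharacter_comp hψ _
          (MulAut.conjNormal g : MulAut M).surjective, ?_, ?_⟩
        · intro n
          have h2 : (MulAut.conjNormal g : MulAut M).toMonoidHom (ι' n) = ι' (c g n) := by
            apply Subtype.ext
            rw [hι', hc, ← hι']
            exact MulAut.conjNormal_apply g _
          rw [h2, hψN, hinv]
        · rw [detChar_comp _ (IsIrrCharacter.isCharacter hψ), hψdet]
          funext m
          rw [homFun_apply, homFun_apply]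
          congr 1
          show μ ((MulAut.conjNormal g m : M) : G) = μ (m : G)
          rw [MulAut.conjNormal_apply, map_mul, map_mul, map_inv, mul_comm, inv_mul_cancel_left]
      exact congrFun h1 m
    obtain ⟨χ, hχ, hχM⟩ := Cfsg.Agent.S0886.result M hcyc ψ hψ hψinv
    exact ⟨χ, hχ, fun n => by rw [← hψN n, ← hι' n]; exact hχM (ι' n)⟩

end Cfsg.Agent.Lib.Helper19Det2
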