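import Cfsg.Agent.Lib.Helper32Virt
import Cfsg.Agent.Lib.Helper82Quot
import Cfsg.Agent.Lib.Helper4Char3
import Mathlib

set_option autoImplicit false

namespace Cfsg.Agent.Lib.Helper19TIFN

open Cfsg Cfsg.Agent.Lib.Helper4Char Cfsg.Agent.Lib.Helper4Char2 Cfsg.Agent.Lib.Helper4Char3
  Cfsg.Agent.Lib.Helper4Char4 Cfsg.Agent.Lib.Helper32Virt Cfsg.Agent.Lib.Helper82Quot
open scoped ComplexConjugate

section

variable {G : Type*} [Group G] [Fintype G] (K : Subgroup G) [K.Normal]

/-- An irreducible character whose kernel does not contain the normal subgroup `K` vanishes at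
each element whose centralizer meets `K` trivially. -/
theorem vanish (x : G) (hx : ∀ k ∈ K, k * x = x * k → k = 1) (χ : IrrCharacter G)
    (hχ : ∃ k ∈ K, (χ : G → ℂ) k ≠ (χ : G → ℂ) 1) : (χ : G → ℂ) x = 0 := by
  classical
  letI : Fintype (G ⧸ K) := Fintype.ofFinite _
  set F : IrrCharacter G → ℝ := fun η => ‖(η : G → ℂ) x‖ ^ 2 with hF
  have hFc : ∀ η : IrrCharacter G, (F η : ℂ) = (η : G → ℂ) x * conj ((η : G → ℂ) x) := by
    intro η
    rw [Complex.mul_conj, Complex.normSq_eq_norm_sq]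
  have h1 : ∑ η : IrrCharacter G, F η = (Nat.card (Subgroup.centralizer ({x} : Set G)) : ℝ) := by
    have := col_orth x x
    rw [if_pos (IsConj.refl x), ← Finset.sum_congr rfl (fun η _ => hFc η)] at this
    exact_mod_cast this
  have h2 : ∑ ψ : IrrCharacter (G ⧸ K), F (inflate K ψ)
      = (Nat.card (Subgroup.centralizer ({(x : G ⧸ K)} : Set (G ⧸ K))) : ℝ) := by
    have := col_orth (x : G ⧸ K) (x : G ⧸ K)
    rw [if_pos (IsConj.refl _)] at this
    have h3 : ∀ ψ : IrrCharacter (G ⧸ K), (F (inflate K ψ) : ℂ)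
        = (ψ : G ⧸ K → ℂ) (x : G ⧸ K) * conj ((ψ : G ⧸ K → ℂ) (x : G ⧸ K)) := by
      intro ψ
      rw [hFc, inflate_apply]
    rw [← Finset.sum_congr rfl (fun η _ => h3 η)] at this
    exact_mod_cast this
  have h3 : Nat.card (Subgroup.centralizer ({x} : Set G))
      ≤ Nat.card (Subgroup.centralizer ({(x : G ⧸ K)} : Set (G ⧸ K))) := by
    apply Nat.card_le_card_of_injective (fun g : Subgroup.centralizer ({x} : Set G) =>
      (⟨((g : G) : G ⧸ K), by
        have hg := Subgroup.mem_centralizer_singleton_iff.1 g.2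
        rw [Subgroup.mem_centralizer_singleton_iff, ← QuotientGroup.mk_mul, ← QuotientGroup.mk_mul,
          hg]⟩ : Subgroup.centralizer ({(x : G ⧸ K)} : Set (G ⧸ K))))
    intro g h hgh
    have h4 : ((g : G) : G ⧸ K) = ((h : G) : G ⧸ K) := congrArg Subtype.val hgh
    rw [QuotientGroup.eq] at h4
    have hg := Subgroup.mem_centralizer_singleton_iff.1 g.2
    have hh := Subgroup.mem_centralizer_singleton_iff.1 h.2
    have h5 := hx _ h4 (by
      rw [mul_assoc, hh, ← mul_assoc, ← mul_assoc]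
      congr 1
      rw [inv_mul_eq_iff_eq_mul, ← mul_assoc, hg, mul_assoc, mul_inv_cancel, mul_one])
    apply Subtype.ext
    exact (inv_mul_eq_one.1 h5)
  have hnot : χ ∉ Finset.univ.image (inflate K) := by
    intro hmem
    obtain ⟨ψ, -, rfl⟩ := Finset.mem_image.1 hmem
    obtain ⟨k, hk, hne⟩ := hχ
    exact hne (inflate_ker K ψ hk)
  have h4 : ∑ η ∈ insert χ (Finset.univ.image (inflate K)), F η ≤ ∑ η : IrrCharacter G, F η :=
    Finset.sum_le_sum_of_subset_of_nonneg (Finset.subset_univ _) (fun _ _ _ => by positivity)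
  rw [Finset.sum_insert hnot, Finset.sum_image (fun a _ b _ h => inflate_injective K h), h1, h2] at h4
  have h5 : F χ ≤ 0 := by
    have : (Nat.card (Subgroup.centralizer ({x} : Set G)) : ℝ)
      ≤ (Nat.card (Subgroup.centralizer ({(x : G ⧸ K)} : Set (G ⧸ K))) : ℝ) := by exact_mod_cast h3
    linarith
  have h6 : ‖(χ : G → ℂ) x‖ ^ 2 = 0 := le_antisymm h5 (by positivity)
  exact norm_eq_zero.1 (pow_eq_zero_iff (two_ne_zero)|>.1 h6)

open scoped Classical in
theorem sum_deg_sq_ker :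
    ∑ η ∈ Finset.univ.filter (fun η : IrrCharacter G => ∀ k ∈ K, (η : G → ℂ) k = (η : G → ℂ) 1),
      (η : G → ℂ) 1 ^ 2 = (K.index : ℂ) := by
  letI : Fintype (G ⧸ K) := Fintype.ofFinite _
  have h1 : Finset.univ.filter (fun η : IrrCharacter G => ∀ k ∈ K, (η : G → ℂ) k = (η : G → ℂ) 1)
      = Finset.univ.image (inflate K) := by
    ext η
    simp only [Finset.mem_filter, Finset.mem_univ, true_and, Finset.mem_image]
    constructor
    · intro h
      exact exists_deflate K η h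
    · rintro ⟨ψ, rfl⟩ k hk
      exact inflate_ker K ψ hk
  rw [h1, Finset.sum_image (fun a _ b _ h => inflate_injective K h)]
  have h2 := sum_degree_sq (G := G ⧸ K)
  rw [Subgroup.index_eq_card, ← h2]
  rfl

open scoped Classical in
theorem const_formula {D : G → ℂ} (hD : IsClassFunction G D) (c : ℂ)
    (hc : ∀ η : IrrCharacter G, (∃ k ∈ K, (η : G → ℂ) k ≠ (η : G → ℂ) 1) →
      classInner D η = c * (η : G → ℂ) 1) (k : G) (hk : k ∈ K) (hk1 : k ≠ 1) :
    D k = - c * (K.index : ℂ) +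
      ∑ η ∈ Finset.univ.filter (fun η : IrrCharacter G => ∀ k ∈ K, (η : G → ℂ) k = (η : G → ℂ) 1),
        classInner D η * (η : G → ℂ) 1 := by
  have h1 : D k = ∑ η : IrrCharacter G, classInner D η * (η : G → ℂ) k := by
    conv_lhs => rw [classFunction_eq_sum D hD]
    simp [Finset.sum_apply]
  have h2 := sum_degree_mul k
  rw [if_neg hk1] at h2
  rw [← Finset.sum_filter_add_sum_filter_not Finset.univ
    (fun η : IrrCharacter G => ∀ k ∈ K, (η : G → ℂ) k = (η : G → ℂ) 1)] at h1 h2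
  have h3 : ∑ η ∈ Finset.univ.filter
      (fun η : IrrCharacter G => ∀ k ∈ K, (η : G → ℂ) k = (η : G → ℂ) 1),
      (η : G → ℂ) 1 * (η : G → ℂ) k = (K.index : ℂ) := by
    rw [← sum_deg_sq_ker K]
    apply Finset.sum_congr rfl
    intro η hη
    rw [(Finset.mem_filter.1 hη).2 k hk]; ring
  have h4 : ∑ η ∈ Finset.univ.filter
      (fun η : IrrCharacter G => ¬ ∀ k ∈ K, (η : G → ℂ) k = (η : G → ℂ) 1),
      classInner D η * (η : G → ℂ) k = c * ∑ η ∈ Finset.univ.filter
      (fun η : IrrCharacter G => ¬ ∀ k ∈ K, (η : G → ℂ) k = (η : G → ℂ) 1),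
      (η : G → ℂ) 1 * (η : G → ℂ) k := by
    rw [Finset.mul_sum]
    apply Finset.sum_congr rfl
    intro η hη
    have := (Finset.mem_filter.1 hη).2
    push Not at this
    obtain ⟨k', hk', hne⟩ := this
    rw [hc η ⟨k', hk', hne⟩]; ring
  rw [h3] at h2
  rw [h1, h4, eq_neg_of_add_eq_zero_right h2]
  have h5 : ∑ η ∈ Finset.univ.filter
      (fun η : IrrCharacter G => ∀ k ∈ K, (η : G → ℂ) k = (η : G → ℂ) 1),
      classInner D η * (η : G → ℂ) k = ∑ η ∈ Finset.univ.filter
      (fun η : IrrCharacter G => ∀ k ∈ K, (η : G → ℂ) k = (η : G → ℂ) 1),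
      classInner D η * (η : G → ℂ) 1 := by
    apply Finset.sum_congr rfl
    intro η hη
    rw [(Finset.mem_filter.1 hη).2 k hk]
  rw [h5]; ring

end

end Cfsg.Agent.Lib.Helper19TIFN
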