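import Cfsg.Agent.Lib.Helper23CT5
import Cfsg.Agent.Lib.Helper23Un4

set_option autoImplicit false
set_option linter.unusedSectionVars false

/-! Project 230 (Curtis-Tits), piece X6: the homomorphism from the Steinberg cover. -/

namespace Cfsg.Agent.Lib.Helper1CTX6

open Subgroup Cfsg.Lie Cfsg.Lie.ChevalleyDatum Cfsg.Agent.Lib.Helper22ChevBasic Cfsg.Agent.Lib.Helper23Grp
  Cfsg.Agent.Lib.Helper23St Cfsg.Agent.Lib.Helper23To Cfsg.Agent.Lib.Helper23RG Cfsg.Agent.Lib.Helper23All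
  Cfsg.Agent.Lib.Helper22ChevTabs Cfsg.Agent.Lib.Helper23CT

variable {D : ChevalleyDatum} {hD : Std D} {K : Type*} [Field K] {𝔾 : Type*} [Group 𝔾]

/-- X6 -/
theorem hom_of_allRel {T : PS hD K 𝔾} (h : AllRel T) :
    ∃ τ : D.SteinbergCover K →* 𝔾, ∀ r t, r < D.nroots → τ (D.scGen K r t) = T.X r t := by
  classical
  set Y1 : ℕ → K → 𝔾 := fun r t => if r < D.nroots then T.X r t else 1 with hY1
  have Y1in : ∀ r, r < D.nroots → ∀ t, Y1 r t = T.X r t := fun r hr t => if_pos hr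
  obtain ⟨τ, hτ⟩ := Cfsg.Agent.Lib.Helper23Un.exists_hom_of_rel D K Y1 (fun r t hr => if_neg hr)
    (fun r t u hr => by rw [Y1in r hr, Y1in r hr, Y1in r hr]; exact T.add r hr t u)
    (by
      intro r s t u hr hs h1 h2
      rw [Y1in r hr, Y1in s hs, h r s hr hs h1 h2 t u]
      congr 2
      apply List.map_congr_left
      intro p hp
      symm
      apply Y1in
      unfold commWord at hp
      obtain ⟨e, he, rfl⟩ := List.mem_map.1 hp
      exact Cfsg.Agent.Lib.Helper23StV.commTerms_lt_nroots hD r s e he)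
  exact ⟨τ, fun r t hr => by rw [hτ, Y1in r hr]⟩

end Cfsg.Agent.Lib.Helper1CTX6
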