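import Mathlib
import Cfsg.Agent.S0013
import Cfsg.Agent.Lib.Helper3PGroup
import Cfsg.Agent.Lib.Helper39Trace

set_option autoImplicit false

namespace Cfsg.Agent.Lib.Helper1Sep

open Finset
open scoped commutatorElement

/-- In a finite `p`-group, a subgroup `B` containing all commutators and `p`-th powers can be separated from
any element outside it by a normal subgroup of index `p`. -/
theorem exists_index_p_not_mem {P : Type*} [Group P] [Finite P] {p : ℕ} [Fact p.Prime] (hP : IsPGroup p P)
    (B : Subgroup P) (hcomm : commutator P ≤ B) (hpow : ∀ x : P, x ^ p ∈ B) {y : P} (hy : y ∉ B) :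
    ∃ M : Subgroup P, B ≤ M ∧ y ∉ M ∧ M.Normal ∧ M.index = p := by
  have hBn : B.Normal := by
    constructor
    intro b hb g
    have h1 : g * b * g⁻¹ = ⁅g, b⁆ * b := by rw [commutatorElement_def]; group
    rw [h1]
    exact B.mul_mem (hcomm (Subgroup.commutator_mem_commutator (Subgroup.mem_top g) (Subgroup.mem_top b))) hb
  have hQ : IsPGroup p (P ⧸ B) := hP.to_quotient B
  have hfr : frattini (P ⧸ B) ≤ ⊥ := by
    apply Cfsg.Agent.S0013.result p hQ ⊥
    · rw [← Subgroup.Normal.quotient_commutative_iff_commutator_le] at hcomm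
      rw [commutator_def, Subgroup.commutator_le]
      intro a _ b _
      rw [Subgroup.mem_bot, commutatorElement_eq_one_iff_mul_comm]
      exact hcomm.is_comm.comm a b
    · intro x
      obtain ⟨x, rfl⟩ := QuotientGroup.mk_surjective x
      rw [Subgroup.mem_bot, ← QuotientGroup.mk_pow, QuotientGroup.eq_one_iff]
      exact hpow x
  have hy1 : (QuotientGroup.mk y : P ⧸ B) ∉ frattini (P ⧸ B) := by
    intro h
    have := hfr h
    rw [Subgroup.mem_bot, QuotientGroup.eq_one_iff] at this
    exact hy this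
  have hex : ∃ M : Subgroup (P ⧸ B), IsCoatom M ∧ (QuotientGroup.mk y : P ⧸ B) ∉ M := by
    by_contra hcon
    push Not at hcon
    apply hy1
    have h2 : Subgroup.zpowers (QuotientGroup.mk y : P ⧸ B) ≤ frattini (P ⧸ B) := by
      rw [Cfsg.Agent.Lib.Helper3PGroup.le_frattini_iff]
      intro M hM
      rw [Subgroup.zpowers_le]
      exact hcon M hM
    exact h2 (Subgroup.mem_zpowers _)
  obtain ⟨M, hM, hyM⟩ := hex
  have hMn := Cfsg.Agent.Lib.Helper3PGroup.coatom_normal hQ hM
  refine ⟨M.comap (QuotientGroup.mk' B), ?_, ?_, inferInstance, ?_⟩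
  · intro b hb
    rw [Subgroup.mem_comap]
    have : (QuotientGroup.mk' B) b = 1 := by
      rw [QuotientGroup.mk'_apply, QuotientGroup.eq_one_iff]; exact hb
    rw [this]; exact M.one_mem
  · intro h
    exact hyM h
  · rw [Subgroup.index_comap_of_surjective _ (QuotientGroup.mk'_surjective B)]
    exact Cfsg.Agent.Lib.Helper3PGroup.coatom_index hQ hM

theorem norm_eq_add {A : Type*} [AddCommGroup A] (ε : A →ₗ[ℤ] A) {p : ℕ} (hp : p.Prime)
    (hpA : ∀ u : A, p • u = 0) (u : A) :
    ∑ i ∈ range p, (ε ^ i) u = ((ε - 1) ^ (p - 1)) u := by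
  have key := Cfsg.Agent.Lib.Helper39Trace.geom_sum_add_one (ε - 1) p
  rw [sub_add_cancel] at key
  have h1 : ∑ i ∈ range p, (ε ^ i) u = (∑ i ∈ range p, ε ^ i) u := by
    rw [LinearMap.sum_apply]
  rw [h1, key, LinearMap.sum_apply]
  rw [Finset.sum_eq_single (p - 1)]
  · have : p - 1 + 1 = p := Nat.sub_add_cancel hp.one_le
    rw [this, Nat.choose_self, one_smul]
  · intro j hj hj1
    rw [mem_range] at hj
    obtain ⟨c, hc⟩ := hp.dvd_choose_self (k := j + 1) (by omega) (by omega)
    rw [LinearMap.smul_apply, hc, mul_smul]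
    exact hpA _
  · intro h
    exfalso
    apply h
    rw [mem_range]
    have := hp.one_le
    omega

theorem norm_eq {V : Type*} [CommGroup V] (ε : V →* V) {p : ℕ} (hp : p.Prime)
    (hpV : ∀ u : V, u ^ p = 1) (u : V) :
    ∏ i ∈ range p, ε^[i] u = (fun w => ε w / w)^[p - 1] u := by
  set ε' : Additive V →ₗ[ℤ] Additive V := (MonoidHom.toAdditive ε).toIntLinearMap with hε'
  have e1 : ∀ (i : ℕ) (w : V), (ε' ^ i) (Additive.ofMul w) = Additive.ofMul (ε^[i] w) := by
    intro i
    induction i with
    | zero => intro w; simp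
    | succ i ih =>
      intro w
      rw [pow_succ, Module.End.mul_apply, Function.iterate_succ_apply]
      exact ih (ε w)
  have e2 : ∀ (i : ℕ) (w : V), ((ε' - 1) ^ i) (Additive.ofMul w)
      = Additive.ofMul ((fun w => ε w / w)^[i] w) := by
    intro i
    induction i with
    | zero => intro w; simp
    | succ i ih =>
      intro w
      rw [pow_succ, Module.End.mul_apply, Function.iterate_succ_apply]
      exact ih (ε w / w)
  have := norm_eq_add ε' hp (fun w => by
    have := hpV (Additive.toMul w)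
    exact congrArg Additive.ofMul this) (Additive.ofMul u)
  simp_rw [e1] at this
  rw [e2, ← ofMul_prod] at this
  exact Additive.ofMul.injective this

/-- strict inclusion of subgroups of a finite `p`-group multiplies the order by at least `p`. -/
theorem mul_card_le_of_lt {P : Type*} [Group P] [Finite P] {p : ℕ} [hp : Fact p.Prime] (hP : IsPGroup p P)
    {H K : Subgroup P} (h : H < K) : p * Nat.card H ≤ Nat.card K := by
  obtain ⟨a, ha⟩ := IsPGroup.iff_card.mp (hP.to_subgroup H)
  obtain ⟨b, hb⟩ := IsPGroup.iff_card.mp (hP.to_subgroup K)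
  have hlt : Nat.card H < Nat.card K := by
    rcases lt_or_eq_of_le (Subgroup.card_le_of_le h.le) with h1 | h1
    · exact h1
    · exact absurd (Subgroup.eq_of_le_of_card_ge h.le h1.ge) h.ne
  rw [ha, hb] at hlt ⊢
  have hab : a < b := (Nat.pow_lt_pow_iff_right hp.out.one_lt).mp hlt
  calc p * p ^ a = p ^ (a + 1) := by rw [pow_succ, mul_comm]
    _ ≤ p ^ b := Nat.pow_le_pow_right hp.out.pos hab

end Cfsg.Agent.Lib.Helper1Sep
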