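import Mathlib
import Cfsg.Agent.Lib.Helper1Sep

set_option autoImplicit false
set_option linter.unusedSectionVars false

/-! Partial transfers via cocycles; the orbit computation behind the Hall--Wielandt and Yoshida transfer theorems. -/

namespace Cfsg.Agent.Lib.Helper1HW

open Finset Cfsg.Agent.Lib.Helper1Sep

section abstract

variable {E Ω A : Type*} [Group E] [MulAction E Ω] [CommGroup A] [DecidableEq Ω]

/-- cocycle condition -/
def IsCoc (c : E → Ω → A) : Prop := ∀ e e' ω, c (e * e') ω = c e (e' • ω) * c e' ω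

/-- the finite set `X` is invariant under `e` -/
def Inv (e : E) (X : Finset Ω) : Prop := ∀ ω, e • ω ∈ X ↔ ω ∈ X

/-- partial transfer -/
def tau (c : E → Ω → A) (X : Finset Ω) (e : E) : A := ∏ ω ∈ X, c e ω

theorem inv_one (X : Finset Ω) : Inv (1 : E) X := fun ω => by rw [one_smul]

theorem Inv.mul {e e' : E} {X : Finset Ω} (h : Inv e X) (h' : Inv e' X) : Inv (e * e') X :=
  fun ω => by rw [mul_smul, h, h']

theorem Inv.inv {e : E} {X : Finset Ω} (h : Inv e X) : Inv e⁻¹ X :=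
  fun ω => by rw [← h (e⁻¹ • ω), smul_inv_smul]

theorem Inv.pow {e : E} {X : Finset Ω} (h : Inv e X) (n : ℕ) : Inv (e ^ n) X := by
  induction n with
  | zero => rw [pow_zero]; exact inv_one X
  | succ n ih => rw [pow_succ]; exact ih.mul h

theorem Inv.sdiff {e : E} {X Y : Finset Ω} (h : Inv e X) (h' : Inv e Y) : Inv e (X \ Y) :=
  fun ω => by rw [mem_sdiff, mem_sdiff, h, h']

theorem inv_of_mapsTo {e : E} {X : Finset Ω} (h : ∀ ω ∈ X, e • ω ∈ X) : Inv e X := by
  have himg : X.image (fun ω => e • ω) = X := by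
    apply Finset.eq_of_subset_of_card_le
    · intro ω hω
      obtain ⟨ω', hω', rfl⟩ := mem_image.1 hω
      exact h ω' hω'
    · rw [Finset.card_image_of_injective _ (MulAction.injective e)]
  intro ω
  constructor
  · intro hω
    rw [← himg] at hω
    obtain ⟨ω', hω', he⟩ := mem_image.1 hω
    rw [← MulAction.injective e he]; exact hω'
  · exact h ω

theorem prod_smul {e : E} {X : Finset Ω} (h : Inv e X) (f : Ω → A) :
    ∏ ω ∈ X, f (e • ω) = ∏ ω ∈ X, f ω := by
  apply Finset.prod_nbij' (fun ω => e • ω) (fun ω => e⁻¹ • ω)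
  · intro ω hω; exact (h ω).2 hω
  · intro ω hω; exact (h.inv ω).2 hω
  · intro ω _; simp
  · intro ω _; simp
  · intro ω _; rfl

variable {c : E → Ω → A}

theorem IsCoc.one (hc : IsCoc c) (ω : Ω) : c 1 ω = 1 := by
  have := hc 1 1 ω
  rw [one_smul, mul_one] at this
  exact (mul_eq_left.1 this.symm)

theorem tau_mul (hc : IsCoc c) {X : Finset Ω} (e : E) {e' : E} (h' : Inv e' X) :
    tau c X (e * e') = tau c X e * tau c X e' := by
  unfold tau
  simp_rw [hc e e']
  rw [Finset.prod_mul_distrib, prod_smul h' (fun ω => c e ω)]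

theorem tau_conj (hc : IsCoc c) {X : Finset Ω} (a : E) {v : E} (hv : Inv v X) :
    ∏ ω ∈ X, c (a * v * a⁻¹) (a • ω) = tau c X v := by
  have h1 : ∀ ω, c (a * v * a⁻¹) (a • ω) = c a (v • ω) * c v ω / c a ω := by
    intro ω
    have e1 := hc a v ω
    have e2 := hc (a * v * a⁻¹) a ω
    rw [inv_mul_cancel_right] at e2
    rw [← e1, e2, mul_div_cancel_right]
  simp_rw [h1]
  rw [Finset.prod_div_distrib, Finset.prod_mul_distrib, prod_smul hv (fun ω => c a ω)]
  unfold tau
  rw [mul_div_cancel_left]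

theorem coc_pow (hc : IsCoc c) (g : E) (ω : Ω) (n : ℕ) :
    c (g ^ n) ω = ∏ i ∈ range n, c g (g ^ i • ω) := by
  induction n with
  | zero => rw [pow_zero, hc.one]; simp
  | succ n ih => rw [pow_succ', hc, ih, Finset.prod_range_succ, mul_comm]

theorem tau_union {X Y : Finset Ω} (h : Disjoint X Y) (e : E) :
    tau c (X ∪ Y) e = tau c X e * tau c Y e := Finset.prod_union h

theorem tau_sdiff {X Y : Finset Ω} (h : Y ⊆ X) (e : E) :
    tau c X e = tau c (X \ Y) e * tau c Y e := (Finset.prod_sdiff h).symm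

/-- evaluation of a partial transfer through the cycles of `g` -/
theorem tau_eq_pow [Finite E] (hc : IsCoc c) (g : E) (b : A) : ∀ X : Finset Ω, Inv g X →
    (∀ ω ∈ X, ∀ n : ℕ, 0 < n → g ^ n • ω = ω → c (g ^ n) ω = b ^ n) → tau c X g = b ^ X.card := by
  intro X
  induction X using Finset.strongInduction with
  | _ X ih =>
  intro hX hb
  rcases X.eq_empty_or_nonempty with rfl | ⟨ω, hω⟩
  · simp [tau]
  set n := Function.minimalPeriod (fun x : Ω => g • x) ω with hn
  have hdvd : ∀ m : ℕ, g ^ m • ω = ω ↔ n ∣ m := fun m => MulAction.pow_smul_eq_iff_minimalPeriod_dvd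
  have hnpos : 0 < n := by
    have h1 : n ∣ orderOf g := (hdvd _).1 (by rw [pow_orderOf_eq_one, one_smul])
    exact Nat.pos_of_dvd_of_pos h1 (orderOf_pos g)
  have hinj : Set.InjOn (fun i : ℕ => g ^ i • ω) (range n : Set ℕ) := by
    have key : ∀ i j : ℕ, i ≤ j → j < n → g ^ i • ω = g ^ j • ω → i = j := by
      intro i j hij hj h
      obtain ⟨d, rfl⟩ := Nat.exists_eq_add_of_le hij
      rw [pow_add, mul_smul] at h
      have h2 : g ^ d • ω = ω := (MulAction.injective (g ^ i) h).symm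
      have h3 := (hdvd d).1 h2
      have : d = 0 := Nat.eq_zero_of_dvd_of_lt h3 (by omega)
      omega
    intro i hi j hj h
    rw [coe_range, Set.mem_Iio] at hi hj
    rcases le_total i j with hij | hij
    · exact key i j hij hj h
    · exact (key j i hij hi h.symm).symm
  set O := (range n).image (fun i : ℕ => g ^ i • ω) with hO
  have hOcard : O.card = n := by rw [hO, Finset.card_image_of_injOn hinj, card_range]
  have hOX : O ⊆ X := by
    intro ω' h'
    obtain ⟨i, -, rfl⟩ := mem_image.1 h'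
    exact (hX.pow i ω).2 hω
  have hOinv : Inv g O := by
    apply inv_of_mapsTo
    intro ω' h'
    obtain ⟨i, hi, rfl⟩ := mem_image.1 h'
    rw [mem_range] at hi
    rw [← mul_smul, ← pow_succ']
    by_cases h1 : i + 1 < n
    · exact mem_image.2 ⟨i + 1, mem_range.2 h1, rfl⟩
    · have h2 : i + 1 = n := by omega
      rw [h2, (hdvd n).2 dvd_rfl]
      exact mem_image.2 ⟨0, mem_range.2 hnpos, by simp⟩
  have hOtau : tau c O g = b ^ n := by
    unfold tau
    rw [hO, Finset.prod_image hinj, ← coc_pow hc]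
    exact hb ω hω n hnpos ((hdvd n).2 dvd_rfl)
  have hlt : X \ O ⊂ X := by
    apply Finset.sdiff_ssubset hOX
    exact ⟨ω, mem_image.2 ⟨0, mem_range.2 hnpos, by simp⟩⟩
  have h3 := ih (X \ O) hlt (hX.sdiff hOinv) (fun ω' h' => hb ω' (mem_sdiff.1 h').1)
  rw [tau_sdiff hOX, h3, hOtau, ← pow_add, Finset.card_sdiff_of_subset hOX, hOcard]
  congr 1
  have := Finset.card_le_card hOX
  omega

end abstract

section norm

variable {E A : Type*} [Group E] [CommGroup A]

/-- the shift endomorphism on sequences -/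
def shift : (ℕ → A) →* (ℕ → A) where
  toFun f := fun i => f (i + 1)
  map_one' := rfl
  map_mul' _ _ := rfl

theorem shift_iterate (f : ℕ → A) (i j : ℕ) : ((shift : (ℕ → A) →* (ℕ → A))^[i] f) j = f (j + i) := by
  induction i generalizing f with
  | zero => rfl
  | succ i ih =>
    rw [Function.iterate_succ_apply, ih]
    show f (j + i + 1) = _
    rw [add_assoc]

theorem prod_iterate_eq {M : Type*} [Group M] {p : ℕ} (hp : p.Prime) (hA : ∀ a : A, a ^ p = 1)
    (ν : M →* A) (κ : M →* M) (u : M) :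
    ∏ i ∈ range p, ν (κ^[i] u) = ν ((fun m => m⁻¹ * κ m)^[p - 1] u) := by
  let Ψ : M → (ℕ → A) := fun m i => ν (κ^[i] m)
  have h1 : ∀ m, (shift (Ψ m)) / Ψ m = Ψ (m⁻¹ * κ m) := by
    intro m
    funext i
    show ν (κ^[i + 1] m) / ν (κ^[i] m) = ν (κ^[i] (m⁻¹ * κ m))
    rw [iterate_map_mul, iterate_map_inv, map_mul, map_inv, Function.iterate_succ_apply, div_eq_inv_mul]
  have h2 : ∀ (k : ℕ) (m : M), (fun w : ℕ → A => shift w / w)^[k] (Ψ m) = Ψ ((fun m => m⁻¹ * κ m)^[k] m) := by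
    intro k
    induction k with
    | zero => intro m; rfl
    | succ k ih =>
      intro m
      rw [Function.iterate_succ_apply, Function.iterate_succ_apply, h1, ih]
  have h3 := norm_eq (shift : (ℕ → A) →* (ℕ → A)) hp (fun f => by funext i; exact hA (f i)) (Ψ u)
  rw [h2] at h3
  have h4 := congrFun h3 0
  rw [Finset.prod_apply] at h4
  simp_rw [shift_iterate] at h4
  simpa [Ψ] using h4

end norm

section orbit

variable {E Ω A : Type*} [Group E] [Finite E] [MulAction E Ω] [CommGroup A] [DecidableEq Ω] [Fintype Ω]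

open Classical in
/-- the orbit of `ω` under the subgroup `K`, as a finset -/
noncomputable def orb (K : Subgroup E) (ω : Ω) : Finset Ω := univ.filter (fun ω' => ∃ k ∈ K, k • ω = ω')

theorem mem_orb {K : Subgroup E} {ω ω' : Ω} : ω' ∈ orb K ω ↔ ∃ k ∈ K, k • ω = ω' := by
  unfold orb
  simp

theorem inv_orb {K : Subgroup E} {k : E} (hk : k ∈ K) (ω : Ω) : Inv k (orb K ω) := by
  apply inv_of_mapsTo
  intro ω' h'
  obtain ⟨a, ha, rfl⟩ := mem_orb.1 h'
  exact mem_orb.2 ⟨k * a, K.mul_mem hk ha, mul_smul _ _ _⟩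

variable {c : E → Ω → A}

/-- the partial transfer over an orbit of `M` is a homomorphism on `M` -/
noncomputable def nu (hc : IsCoc c) (M : Subgroup E) (ω : Ω) : M →* A where
  toFun m := tau c (orb M ω) m
  map_one' := by simp [tau, hc.one]
  map_mul' a b := tau_mul hc a (inv_orb b.2 ω)

theorem tau_orb_block (hc : IsCoc c) {p : ℕ} [hp : Fact p.Prime] (M : Subgroup E) [hM : M.Normal]
    (hidx : M.index = p) (ω : Ω) (hst : MulAction.stabilizer E ω ≤ M) {z : E} (hz : z ∉ M) {u : E}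
    (hu : u ∈ M) :
    tau c (orb (⊤ : Subgroup E) ω) u = ∏ i ∈ range p, tau c (orb M ω) ((z ^ i)⁻¹ * u * z ^ i) := by
  classical
  have hcard : Nat.card (E ⧸ M) = p := hidx
  have hne : (QuotientGroup.mk z : E ⧸ M) ≠ 1 := by rwa [Ne, QuotientGroup.eq_one_iff]
  have hord : orderOf (QuotientGroup.mk z : E ⧸ M) = p := by
    apply orderOf_eq_prime _ hne
    rw [← hcard]
    exact pow_card_eq_one'
  have hcover : ∀ e : E, ∃ i ∈ range p, (z ^ i)⁻¹ * e ∈ M := by
    intro e
    have h1 : (QuotientGroup.mk e : E ⧸ M) ∈ Submonoid.powers (QuotientGroup.mk z : E ⧸ M) :=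
      mem_powers_of_prime_card hcard hne
    have h2 := (mem_powers_iff_mem_range_orderOf (x := (QuotientGroup.mk z : E ⧸ M))).1 h1
    rw [mem_image] at h2
    obtain ⟨i, hi, hie⟩ := h2
    rw [hord] at hi
    refine ⟨i, hi, ?_⟩
    rw [← QuotientGroup.eq, QuotientGroup.mk_pow]
    exact hie
  have hY : orb (⊤ : Subgroup E) ω = (range p).biUnion (fun i => (orb M ω).image (fun x => z ^ i • x)) := by
    ext ω'
    rw [mem_orb, mem_biUnion]
    constructor
    · rintro ⟨e, -, rfl⟩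
      obtain ⟨i, hi, hie⟩ := hcover e
      refine ⟨i, hi, mem_image.2 ⟨((z ^ i)⁻¹ * e) • ω, mem_orb.2 ⟨_, hie, rfl⟩, ?_⟩⟩
      rw [← mul_smul, mul_inv_cancel_left]
    · rintro ⟨i, -, h⟩
      obtain ⟨x, hx, rfl⟩ := mem_image.1 h
      obtain ⟨m, -, rfl⟩ := mem_orb.1 hx
      exact ⟨z ^ i * m, Subgroup.mem_top _, mul_smul _ _ _⟩
  have hdisj : Set.PairwiseDisjoint (range p : Set ℕ) (fun i => (orb M ω).image (fun x => z ^ i • x)) := by
    intro i hi j hj hij
    rw [Function.onFun, Finset.disjoint_left]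
    intro ω' h1 h2
    apply hij
    obtain ⟨x, hx, rfl⟩ := mem_image.1 h1
    obtain ⟨y, hy, hxy⟩ := mem_image.1 h2
    obtain ⟨m, hm, rfl⟩ := mem_orb.1 hx
    obtain ⟨m', hm', rfl⟩ := mem_orb.1 hy
    have h3 : (z ^ i * m)⁻¹ * (z ^ j * m') ∈ MulAction.stabilizer E ω := by
      rw [MulAction.mem_stabilizer_iff, mul_smul, mul_smul, inv_smul_eq_iff, mul_smul]
      exact hxy
    have h4 := hst h3
    have h5 : (z ^ i)⁻¹ * z ^ j ∈ M := by
      have h6 : (z ^ i)⁻¹ * z ^ j = m * ((z ^ i * m)⁻¹ * (z ^ j * m')) * m'⁻¹ := by group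
      rw [h6]
      exact M.mul_mem (M.mul_mem hm h4) (M.inv_mem hm')
    rw [← QuotientGroup.eq, QuotientGroup.mk_pow, QuotientGroup.mk_pow] at h5
    rw [coe_range, Set.mem_Iio, ← hord] at hi hj
    exact pow_injOn_Iio_orderOf hi hj h5
  unfold tau
  rw [hY, Finset.prod_biUnion hdisj]
  apply Finset.prod_congr rfl
  intro i _
  rw [Finset.prod_image (fun x _ y _ h => MulAction.injective (z ^ i) h)]
  have hv : (z ^ i)⁻¹ * u * z ^ i ∈ M := by
    have := hM.conj_mem u hu (z ^ i)⁻¹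
    rwa [inv_inv] at this
  have h7 := tau_conj hc (z ^ i) (inv_orb hv ω)
  have h8 : z ^ i * ((z ^ i)⁻¹ * u * z ^ i) * (z ^ i)⁻¹ = u := by group
  rw [h8] at h7
  exact h7

theorem tau_orb_eq (hc : IsCoc c) {p : ℕ} [hp : Fact p.Prime] (hE : IsPGroup p E) (hA : ∀ a : A, a ^ p = 1)
    (ω : Ω) (u : E) (hu : u • ω = ω) (W : Subgroup E) (hgen : W ⊔ Subgroup.zpowers u = ⊤)
    (hW : ∃ w ∈ W, w • ω ≠ ω) :
    ∃ (M : Subgroup E) (z : E) (ν : M →* A) (h : (fun y => y⁻¹ * z⁻¹ * y * z)^[p - 1] u ∈ M),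
      M.Normal ∧ M.index = p ∧ u ∈ M ∧ z ∈ W ∧ z ∉ M ∧ tau c (orb (⊤ : Subgroup E) ω) u = ν ⟨_, h⟩ := by
  have hF : MulAction.stabilizer E ω ≠ ⊤ := by
    intro h
    obtain ⟨w, -, hw⟩ := hW
    apply hw
    have : w ∈ MulAction.stabilizer E ω := by rw [h]; trivial
    exact this
  obtain ⟨M, hle, hnorm, hidx⟩ := Cfsg.Agent.Lib.Helper39Trace.exists_normal_index_p hE _ hF
  have huM : u ∈ M := hle hu
  have hex : ∃ z ∈ W, z ∉ M := by
    by_contra hcon
    push Not at hcon
    have h2 : W ⊔ Subgroup.zpowers u ≤ M := sup_le hcon (by rw [Subgroup.zpowers_le]; exact huM)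
    rw [hgen, top_le_iff] at h2
    rw [h2, Subgroup.index_top] at hidx
    exact hp.out.one_lt.ne hidx
  obtain ⟨z, hzW, hzM⟩ := hex
  set κ : M →* M := (MulAut.conjNormal z⁻¹ : MulAut M).toMonoidHom with hκ
  have hκv : ∀ a : M, ((κ a : M) : E) = z⁻¹ * a * z := by
    intro a
    simp [hκ]
  have hκi : ∀ (i : ℕ) (a : M), ((κ^[i] a : M) : E) = (z ^ i)⁻¹ * a * z ^ i := by
    intro i
    induction i with
    | zero => intro a; simp
    | succ i ih =>
      intro a
      rw [Function.iterate_succ_apply', hκv, ih, pow_succ]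
      group
  have hδ : ∀ (k : ℕ) (a : M), (((fun m : M => m⁻¹ * κ m)^[k] a : M) : E)
      = (fun y => y⁻¹ * z⁻¹ * y * z)^[k] (a : E) := by
    intro k
    induction k with
    | zero => intro a; rfl
    | succ k ih =>
      intro a
      rw [Function.iterate_succ_apply, Function.iterate_succ_apply, ih]
      congr 1
      rw [Subgroup.coe_mul, hκv, Subgroup.coe_inv]
      group
  have hmem : (fun y => y⁻¹ * z⁻¹ * y * z)^[p - 1] u ∈ M := by
    rw [← hδ (p - 1) ⟨u, huM⟩]
    exact Subtype.property _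
  refine ⟨M, z, nu hc M ω, hmem, hnorm, hidx, huM, hzW, hzM, ?_⟩
  rw [tau_orb_block hc M hidx ω hle hzM huM]
  have h9 := prod_iterate_eq hp.out hA (nu hc M ω) κ ⟨u, huM⟩
  have h10 : (⟨(fun y => y⁻¹ * z⁻¹ * y * z)^[p - 1] u, hmem⟩ : M) = (fun m : M => m⁻¹ * κ m)^[p - 1] ⟨u, huM⟩ :=
    Subtype.ext (hδ (p - 1) ⟨u, huM⟩).symm
  rw [h10, ← h9]
  apply Finset.prod_congr rfl
  intro i _
  show _ = tau c (orb M ω) ((κ^[i] ⟨u, huM⟩ : M) : E)
  rw [hκi]

end orbit

end Cfsg.Agent.Lib.Helper1HW
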