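import Mathlib
import Cfsg.Prelude.Def_Transfer
import Cfsg.Agent.Lib.Helper1HW

set_option autoImplicit false
set_option linter.unusedSectionVars false

/-! The transfer cocycle of a homomorphism `P →* A` on the coset space `G ⧸ P`. -/

namespace Cfsg.Agent.Lib.Helper1HWb

open Finset Cfsg.Agent.Lib.Helper1Sep Cfsg.Agent.Lib.Helper1HW

section concrete

variable {G A : Type*} [Group G] [CommGroup A] (P : Subgroup G) (lam : P →* A)

open Classical in
/-- extension of `lam` by `1` -/
noncomputable def ext (g : G) : A := if h : g ∈ P then lam ⟨g, h⟩ else 1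

variable {P lam}

theorem ext_mem {g : G} (h : g ∈ P) : ext P lam g = lam ⟨g, h⟩ := dif_pos h

theorem ext_coe (x : P) : ext P lam (x : G) = lam x := ext_mem x.2

theorem ext_mul {a b : G} (ha : a ∈ P) (hb : b ∈ P) :
    ext P lam (a * b) = ext P lam a * ext P lam b := by
  rw [ext_mem ha, ext_mem hb, ext_mem (P.mul_mem ha hb), ← map_mul]
  rfl

theorem ext_one : ext P lam 1 = 1 := by
  rw [ext_mem P.one_mem]
  exact map_one lam

theorem ext_inv {a : G} (ha : a ∈ P) : ext P lam a⁻¹ = (ext P lam a)⁻¹ := by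
  rw [ext_mem ha, ext_mem (P.inv_mem ha), ← map_inv]
  rfl

theorem ext_pow {a : G} (ha : a ∈ P) (n : ℕ) : ext P lam (a ^ n) = ext P lam a ^ n := by
  rw [ext_mem ha, ext_mem (P.pow_mem ha n), ← map_pow]
  rfl

theorem ext_conj {a s : G} (ha : a ∈ P) (hs : s ∈ P) : ext P lam (s⁻¹ * a * s) = ext P lam a := by
  rw [ext_mul (P.mul_mem (P.inv_mem hs) ha) hs, ext_mul (P.inv_mem hs) ha, ext_inv hs]
  rw [mul_comm, mul_inv_cancel_left]

variable (P lam)

/-- the transfer cocycle -/
noncomputable def coc (g : G) (ω : G ⧸ P) : A := ext P lam (((g • ω).out)⁻¹ * g * ω.out)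

variable {P lam}

theorem coc_mem (g : G) (ω : G ⧸ P) : ((g • ω).out)⁻¹ * g * ω.out ∈ P := by
  rw [mul_assoc, ← QuotientGroup.eq, QuotientGroup.out_eq']
  conv_lhs => rw [← QuotientGroup.out_eq' ω]
  rfl

theorem isCoc : IsCoc (coc P lam) := by
  intro e e' ω
  unfold coc
  rw [← ext_mul (coc_mem _ _) (coc_mem _ _), mul_smul]
  congr 1
  group

theorem smul_mk_eq_iff {g t : G} : g • (t : G ⧸ P) = (t : G ⧸ P) ↔ t⁻¹ * g * t ∈ P := by
  rw [mul_assoc, ← QuotientGroup.eq, eq_comm]
  rfl

theorem coc_fixed {g t : G} (h : g • (t : G ⧸ P) = (t : G ⧸ P)) :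
    coc P lam g (t : G ⧸ P) = ext P lam (t⁻¹ * g * t) := by
  unfold coc
  rw [h]
  have h1 : t⁻¹ * ((t : G ⧸ P).out) ∈ P := by
    rw [← QuotientGroup.eq, QuotientGroup.out_eq']
  have h2 := smul_mk_eq_iff.1 h
  rw [← ext_conj (lam := lam) h2 h1]
  congr 1
  group

end concrete

section core

variable {G A : Type*} [Group G] [CommGroup A]

/-- `lam` is invariant under conjugation by elements of `V`. -/
def Stab (P : Subgroup G) (lam : P →* A) (V : Subgroup G) : Prop :=
  ∀ u ∈ P, ∀ g ∈ V, g * u * g⁻¹ ∈ P → ext P lam (g * u * g⁻¹) = ext P lam u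

open Classical in
/-- the cosets `tP` with `t ∈ N` -/
noncomputable def omega0 [Finite G] (P N : Subgroup G) : Finset (G ⧸ P) :=
  haveI : Fintype (G ⧸ P) := Fintype.ofFinite _
  univ.filter (fun ω => ∃ t ∈ N, (t : G ⧸ P) = ω)

theorem mem_omega0 [Finite G] {P N : Subgroup G} {ω : G ⧸ P} :
    ω ∈ omega0 P N ↔ ∃ t ∈ N, (t : G ⧸ P) = ω := by
  unfold omega0
  simp

theorem card_omega0 [Finite G] {P N : Subgroup G} : (omega0 P N).card = P.relIndex N := by
  classical
  have h1 : MulAction.stabilizer N ((1 : G) : G ⧸ P) = P.subgroupOf N := by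
    ext n
    rw [MulAction.mem_stabilizer_iff, Subgroup.mem_subgroupOf]
    have : n • ((1 : G) : G ⧸ P) = (n : G) • ((1 : G) : G ⧸ P) := rfl
    rw [this, smul_mk_eq_iff]
    simp
  have h2 := MulAction.index_stabilizer (G := N) (x := ((1 : G) : G ⧸ P))
  rw [h1] at h2
  rw [Subgroup.relIndex, h2, ← Set.ncard_coe_finset]
  congr 1
  ext ω
  rw [Finset.mem_coe, mem_omega0, MulAction.mem_orbit_iff]
  constructor
  · rintro ⟨t, ht, rfl⟩
    refine ⟨⟨t, ht⟩, ?_⟩
    show ((t * 1 : G) : G ⧸ P) = _
    rw [mul_one]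
  · rintro ⟨t, rfl⟩
    refine ⟨t, t.2, ?_⟩
    show _ = (((t : G) * 1 : G) : G ⧸ P)
    rw [mul_one]

theorem inv_omega0 [Finite G] {P N : Subgroup G} [DecidableEq (G ⧸ P)] {g : G} (hg : g ∈ N) : Inv g (omega0 P N) := by
  apply inv_of_mapsTo
  intro ω hω
  obtain ⟨t, ht, rfl⟩ := mem_omega0.1 hω
  exact mem_omega0.2 ⟨g * t, N.mul_mem hg ht, rfl⟩

theorem exists_not_fixed [Finite G] {P W : Subgroup G} (hW : Cfsg.IsWeaklyClosed W P) {ω : G ⧸ P}
    (hω : ω ∉ omega0 P (Subgroup.normalizer (W : Set G))) : ∃ w ∈ W, w • ω ≠ ω := by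
  by_contra hcon
  push Not at hcon
  apply hω
  induction ω using QuotientGroup.induction_on with
  | H t =>
  refine mem_omega0.2 ⟨t, ?_, rfl⟩
  have h1 : W.map (MulAut.conj t⁻¹).toMonoidHom ≤ P := by
    rintro _ ⟨w, hw, rfl⟩
    have := smul_mk_eq_iff.1 (hcon w hw)
    simpa using this
  have h2 := hW.2 _ h1
  have h3 : t⁻¹ ∈ Subgroup.normalizer (W : Set G) := Subgroup.mem_normalizer_iff_map_conj_eq.2 h2
  simpa using Subgroup.inv_mem _ h3

theorem le_normalizer_of_weaklyClosed {P W : Subgroup G} (hW : Cfsg.IsWeaklyClosed W P) :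
    P ≤ Subgroup.normalizer (W : Set G) := by
  intro g hg
  apply Subgroup.mem_normalizer_iff_map_conj_eq.2
  apply hW.2
  rintro _ ⟨w, hw, rfl⟩
  exact P.mul_mem (P.mul_mem hg (hW.1 hw)) (P.inv_mem hg)

theorem tau_univ_conj [Finite G] {P : Subgroup G} [Fintype (G ⧸ P)] [DecidableEq (G ⧸ P)] (lam : P →* A) (g u : G) :
    tau (coc P lam) univ (g * u * g⁻¹) = tau (coc P lam) univ u := by
  have hi : ∀ e : G, Inv e (univ : Finset (G ⧸ P)) := fun e ω => by simp
  have h1 : tau (coc P lam) univ (g * g⁻¹) = tau (coc P lam) univ g * tau (coc P lam) univ g⁻¹ :=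
    tau_mul isCoc _ (hi _)
  rw [mul_inv_cancel] at h1
  have h2 : tau (coc P lam) (univ : Finset (G ⧸ P)) 1 = 1 := by
    unfold tau
    apply Finset.prod_eq_one
    intro ω _
    exact isCoc.one ω
  rw [h2] at h1
  rw [tau_mul isCoc _ (hi _), tau_mul isCoc _ (hi _), mul_right_comm, ← h1, one_mul]

/-- the Hall--Wielandt / Yoshida evaluation -/
theorem core [Finite G] {p : ℕ} [hp : Fact p.Prime] (P : Sylow p G) (W : Subgroup G)
    (hW : Cfsg.IsWeaklyClosed W (P : Subgroup G))
    (hA : ∀ a : A, a ^ p = 1) (lam : (P : Subgroup G) →* A)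
    (hN : Stab (P : Subgroup G) lam (Subgroup.normalizer (W : Set G)))
    (H : ∀ (E : Subgroup G) (u z : E) (M : Subgroup E) (ν : M →* A)
      (h : (fun y : E => y⁻¹ * z⁻¹ * y * z)^[p - 1] u ∈ M),
      E = W ⊔ Subgroup.zpowers (u : G) → (u : G) ∈ (P : Subgroup G) → M.Normal → M.index = p → u ∈ M →
      (z : G) ∈ W → z ∉ M → ν ⟨_, h⟩ = 1) :
    Stab (P : Subgroup G) lam ⊤ := by
  classical
  haveI : Fintype (G ⧸ (P : Subgroup G)) := Fintype.ofFinite _
  have hc : IsCoc (coc (P : Subgroup G) lam) := isCoc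
  set N := Subgroup.normalizer (W : Set G) with hNdef
  have hPN : (P : Subgroup G) ≤ N := le_normalizer_of_weaklyClosed hW
  set Ω₀ := omega0 (P : Subgroup G) N with hΩ₀
  have hcard : Nat.Coprime Ω₀.card p := by
    rw [Nat.coprime_comm, Nat.Prime.coprime_iff_not_dvd hp.out, hΩ₀, card_omega0]
    intro hdvd
    apply P.not_dvd_index
    rw [← Subgroup.relIndex_mul_index hPN]
    exact Dvd.dvd.mul_right hdvd _
  have claim : ∀ k : ℕ, ∀ u ∈ (P : Subgroup G), u ^ (p ^ k) = 1 → ∀ g : G, g * u * g⁻¹ ∈ (P : Subgroup G) →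
      ext (P : Subgroup G) lam (g * u * g⁻¹) = ext (P : Subgroup G) lam u := by
    intro k
    induction k with
    | zero =>
      intro u _ hu1 g _
      rw [pow_zero, pow_one] at hu1
      subst hu1
      simp
    | succ k ih =>
      have eval : ∀ u ∈ (P : Subgroup G), u ^ (p ^ (k + 1)) = 1 →
          tau (coc (P : Subgroup G) lam) univ u = ext (P : Subgroup G) lam u ^ Ω₀.card := by
        intro u hu hu1
        have e0 : tau (coc (P : Subgroup G) lam) Ω₀ u = ext (P : Subgroup G) lam u ^ Ω₀.card := by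
          apply tau_eq_pow hc u _ Ω₀ (inv_omega0 (hPN hu))
          intro ω hω n _ hfix
          obtain ⟨t, ht, rfl⟩ := mem_omega0.1 hω
          rw [coc_fixed hfix, ← ext_pow hu]
          have h1 := smul_mk_eq_iff.1 hfix
          have h2 := hN (u ^ n) (Subgroup.pow_mem _ hu n) t⁻¹ (N.inv_mem ht)
          rw [inv_inv] at h2
          exact h2 h1
        set E : Subgroup G := W ⊔ Subgroup.zpowers u with hE
        have huE : u ∈ E := (le_sup_right : Subgroup.zpowers u ≤ E) (Subgroup.mem_zpowers u)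
        have hEP : E ≤ (P : Subgroup G) := sup_le hW.1 (by rw [Subgroup.zpowers_le]; exact hu)
        have hEp : IsPGroup p E := P.2.to_le hEP
        have e1 : ∀ X : Finset (G ⧸ (P : Subgroup G)), (∀ ω ∈ X, ω ∉ Ω₀) → (∀ e ∈ E, Inv e X) →
            tau (coc (P : Subgroup G) lam) X u = 1 := by
          intro X
          induction X using Finset.strongInduction with
          | _ X ihX =>
          intro hX0 hXinv
          by_cases hfix : ∃ ω ∈ X, u • ω = ω
          · obtain ⟨ω, hωX, hω⟩ := hfix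
            have hc' : IsCoc (fun (e : E) (ω : G ⧸ (P : Subgroup G)) => coc (P : Subgroup G) lam (e : G) ω) :=
              fun e e' ω => hc e e' ω
            have hgen : W.subgroupOf E ⊔ Subgroup.zpowers (⟨u, huE⟩ : E) = ⊤ := by
              apply Subgroup.map_injective E.subtype_injective
              rw [Subgroup.map_sup, Subgroup.subgroupOf_map_subtype, MonoidHom.map_zpowers,
                ← MonoidHom.range_eq_map, Subgroup.range_subtype, inf_of_le_left le_sup_left]
              rfl
            obtain ⟨w, hw, hwω⟩ := exists_not_fixed hW (hX0 ω hωX)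
            obtain ⟨M, z, ν, h, hMn, hMi, huM, hzW, hzM, hval⟩ := tau_orb_eq hc' hEp hA ω (⟨u, huE⟩ : E) hω
              (W.subgroupOf E) hgen ⟨⟨w, (le_sup_left : W ≤ E) hw⟩, Subgroup.mem_subgroupOf.2 hw, hwω⟩
            have hone := H E ⟨u, huE⟩ z M ν h hE hu hMn hMi huM (Subgroup.mem_subgroupOf.1 hzW) hzM
            rw [hone] at hval
            set Y := orb (⊤ : Subgroup E) ω with hY
            have hYX : Y ⊆ X := by
              intro ω' h'
              obtain ⟨e, -, rfl⟩ := mem_orb.1 h'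
              exact (hXinv e e.2 ω).2 hωX
            have hYinv : ∀ e ∈ E, Inv e Y := fun e he => inv_orb (K := (⊤ : Subgroup E)) (k := ⟨e, he⟩) trivial ω
            have hlt : X \ Y ⊂ X := by
              apply Finset.sdiff_ssubset hYX
              exact ⟨ω, mem_orb.2 ⟨1, trivial, one_smul _ _⟩⟩
            have h3 := ihX (X \ Y) hlt (fun ω' h' => hX0 ω' (mem_sdiff.1 h').1)
              (fun e he => (hXinv e he).sdiff (hYinv e he))
            rw [tau_sdiff hYX, h3, one_mul]
            exact hval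
          · push Not at hfix
            have h4 := tau_eq_pow hc u 1 X (hXinv u huE) (by
              intro ω hω n _ hn
              rw [one_pow]
              have hpn : p ∣ n := by
                by_contra hpn
                have hcop : Nat.Coprime n (orderOf u) := by
                  apply Nat.Coprime.coprime_dvd_right (orderOf_dvd_of_pow_eq_one hu1)
                  apply Nat.Coprime.pow_right
                  exact ((Nat.Prime.coprime_iff_not_dvd hp.out).2 hpn).symm
                obtain ⟨m, hm⟩ := exists_pow_eq_self_of_coprime hcop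
                apply hfix ω hω
                have h5 : u ^ n ∈ MulAction.stabilizer G ω := hn
                have h6 := Subgroup.pow_mem _ h5 m
                rw [hm] at h6
                exact h6
              obtain ⟨n', rfl⟩ := hpn
              induction ω using QuotientGroup.induction_on with
              | H t =>
              rw [coc_fixed hn]
              have h7 := ih (u ^ (p * n')) (Subgroup.pow_mem _ hu _) (by
                rw [← pow_mul, mul_right_comm, ← pow_succ', pow_mul, hu1, one_pow]) t⁻¹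
              rw [inv_inv] at h7
              rw [h7 (smul_mk_eq_iff.1 hn), ext_pow hu, pow_mul, hA, one_pow])
            rw [h4, one_pow]
        rw [tau_sdiff (Finset.subset_univ Ω₀), e0, e1 _ (fun ω h' => (mem_sdiff.1 h').2)
          (fun e he => Inv.sdiff (fun ω => by simp) (inv_omega0 (hPN (hEP he)))), one_mul]
      intro u hu hu1 g hg
      have h1 := eval u hu hu1
      have h2 := eval (g * u * g⁻¹) hg (by rw [conj_pow, hu1]; simp)
      rw [tau_univ_conj, h1] at h2
      -- cancel the exponent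
      obtain ⟨a, b, hab⟩ : ∃ a b : ℕ, a * Ω₀.card = b * p + 1 := by
        have := Nat.exists_mul_mod_eq_one_of_coprime hcard hp.out.one_lt
        obtain ⟨m, -, hm⟩ := this
        refine ⟨m, (Ω₀.card * m) / p, ?_⟩
        have := Nat.div_add_mod (Ω₀.card * m) p
        rw [hm] at this
        rw [mul_comm m, mul_comm _ p]
        exact this.symm
      have h3 : ∀ x : A, x = (x ^ Ω₀.card) ^ a := by
        intro x
        rw [← pow_mul, mul_comm, hab, pow_succ, mul_comm b, pow_mul, hA, one_pow, one_mul]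
      rw [h3 (ext (P : Subgroup G) lam (g * u * g⁻¹)), ← h2, ← h3]
  intro u hu g _ hg
  obtain ⟨k, hk⟩ := P.2 ⟨u, hu⟩
  exact claim k u hu (by simpa using congrArg Subtype.val hk) g hg

end core

end Cfsg.Agent.Lib.Helper1HWb
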