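import Mathlib
import Cfsg.Prelude.Def_Transfer
import Cfsg.Agent.Lib.Helper1HWb

set_option autoImplicit false
set_option linter.unusedSectionVars false

/-! From characters of order `p` to the focal subgroup (a transfer form of Tate's theorem). -/

namespace Cfsg.Agent.Lib.Helper1HWc

open Finset Cfsg.Agent.Lib.Helper1Sep Cfsg.Agent.Lib.Helper1HW Cfsg.Agent.Lib.Helper1HWb
open scoped commutatorElement

variable {G A : Type*} [Group G] [CommGroup A]

theorem ext_comp {B : Type*} [CommGroup B] {P : Subgroup G} (lam : P →* A) (π : A →* B) (g : G) :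
    ext P (π.comp lam) g = π (ext P lam g) := by
  by_cases h : g ∈ P
  · rw [ext_mem h, ext_mem h]; rfl
  · unfold Helper1HWb.ext
    rw [dif_neg h, dif_neg h, map_one]

theorem tau_comp {B : Type*} [CommGroup B] {P : Subgroup G} (lam : P →* A) (π : A →* B)
    (X : Finset (G ⧸ P)) (g : G) :
    tau (coc P (π.comp lam)) X g = π (tau (coc P lam) X g) := by
  unfold tau coc
  rw [map_prod]
  apply Finset.prod_congr rfl
  intro ω _
  exact ext_comp lam π _

/-- evaluation of the transfer of a stable homomorphism -/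
theorem tau_univ_eq_pow [Finite G] {P : Subgroup G} [Fintype (G ⧸ P)] [DecidableEq (G ⧸ P)] (lam : P →* A)
    (h : Stab P lam ⊤) {u : G} (hu : u ∈ P) :
    tau (coc P lam) univ u = ext P lam u ^ P.index := by
  have h1 := tau_eq_pow (isCoc (P := P) (lam := lam)) u (ext P lam u) univ (fun ω => by simp) (by
    intro ω _ n _ hfix
    induction ω using QuotientGroup.induction_on with
    | H t =>
    rw [coc_fixed hfix, ← ext_pow hu]
    have h2 := h (u ^ n) (P.pow_mem hu n) t⁻¹ trivial
    rw [inv_inv] at h2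
    exact h2 (smul_mk_eq_iff.1 hfix))
  rw [h1, Finset.card_univ, Subgroup.index, Nat.card_eq_fintype_card]

/-- the transfer as a homomorphism -/
noncomputable def tr [Finite G] (P : Subgroup G) [Fintype (G ⧸ P)] [DecidableEq (G ⧸ P)] (lam : P →* A) : G →* A where
  toFun g := tau (coc P lam) univ g
  map_one' := by
    unfold tau
    apply Finset.prod_eq_one
    intro ω _
    exact isCoc.one ω
  map_mul' a b := tau_mul isCoc a (fun ω => by simp)

theorem focal_le_ker [Finite G] {p : ℕ} [Fact p.Prime] (P : Sylow p G) (lam : (P : Subgroup G) →* A)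
    (h : Stab (P : Subgroup G) lam ⊤) {x : G} (hx : x ∈ (P : Subgroup G) ⊓ commutator G) :
    ext (P : Subgroup G) lam x = 1 := by
  rw [inf_comm, Subgroup.commutator_inf_eq_focalSubgroup, Subgroup.focalSubgroup_def] at hx
  have hle : Subgroup.closure { g | g ∈ (P : Subgroup G) ∧ ∃ x ∈ (P : Subgroup G), ∃ u : G, g = ⁅x, u⁆ }
      ≤ (lam.ker).map (P : Subgroup G).subtype := by
    rw [Subgroup.closure_le]
    rintro g ⟨hg, x, hx, u, rfl⟩
    refine ⟨⟨_, hg⟩, ?_, rfl⟩
    rw [SetLike.mem_coe, MonoidHom.mem_ker, ← ext_mem (lam := lam) hg]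
    have h1 : u * x⁻¹ * u⁻¹ ∈ (P : Subgroup G) := by
      have h2 : u * x⁻¹ * u⁻¹ = x⁻¹ * ⁅x, u⁆ := by rw [commutatorElement_def]; group
      rw [h2]
      exact Subgroup.mul_mem _ (Subgroup.inv_mem _ hx) hg
    have h3 : ⁅x, u⁆ = x * (u * x⁻¹ * u⁻¹) := by rw [commutatorElement_def]; group
    rw [h3, ext_mul hx h1, h x⁻¹ (Subgroup.inv_mem _ hx) u trivial h1, ext_inv hx, mul_inv_cancel]
  obtain ⟨y, hy, rfl⟩ := hle hx
  rw [Subgroup.coe_subtype, ext_coe]
  exact hy

/-- if every `V`-stable character of order `p` of the Sylow subgroup `P ≤ V` is `G`-stable, then `V` controls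
transfer. -/
theorem tate_lite [Finite G] {p : ℕ} [hp : Fact p.Prime] (P : Sylow p G) (V : Subgroup G)
    (hPV : (P : Subgroup G) ≤ V)
    (h : ∀ lam : (P : Subgroup G) →* Multiplicative (ZMod p),
      Stab (P : Subgroup G) lam V → Stab (P : Subgroup G) lam ⊤) :
    (P : Subgroup G) ⊓ commutator G ≤ ⁅V, V⁆ := by
  classical
  haveI : Fintype (G ⧸ (P : Subgroup G)) := Fintype.ofFinite _
  set lam0 : (P : Subgroup G) →* Abelianization V :=
    Abelianization.of.comp (Subgroup.inclusion hPV) with hlam0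
  have hker : ∀ y : (P : Subgroup G), lam0 y = 1 ↔ (y : G) ∈ ⁅V, V⁆ := by
    intro y
    rw [hlam0, MonoidHom.comp_apply, ← MonoidHom.mem_ker, Abelianization.ker_of,
      ← Subgroup.map_subtype_commutator]
    constructor
    · intro hy; exact ⟨_, hy, rfl⟩
    · rintro ⟨v, hv, hvy⟩
      have : v = Subgroup.inclusion hPV y := Subtype.ext hvy
      rwa [← this]
  have hVG : ⁅V, V⁆ ≤ commutator G := by
    rw [commutator_def]
    exact Subgroup.commutator_mono le_top le_top
  set X : Subgroup (P : Subgroup G) := (commutator G).subgroupOf P with hX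
  set C : Subgroup (Abelianization V) := X.map lam0 with hC
  set m := (P : Subgroup G).index with hm
  have hmp : Nat.Coprime m p := by
    rw [Nat.coprime_comm, Nat.Prime.coprime_iff_not_dvd hp.out]
    exact P.not_dvd_index
  have hstep1 : ∀ x ∈ X, ∃ u : (P : Subgroup G), lam0 x = lam0 u ^ p := by
    intro x hx
    by_contra hcon
    set B : Subgroup (P : Subgroup G) := (((powMonoidHom p).comp lam0).range).comap lam0 with hB
    have hkB : lam0.ker ≤ B := Subgroup.ker_le_comap _ _
    have hxB : x ∉ B := by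
      rintro ⟨u, hu⟩
      exact hcon ⟨u, hu.symm⟩
    obtain ⟨M, hBM, hxM, hMn, hMi⟩ := exists_index_p_not_mem P.2 B
      ((Abelianization.commutator_subset_ker lam0).trans hkB)
      (fun y => ⟨y, by simp⟩) hxB
    have hcardZ : Nat.card (Multiplicative (ZMod p)) = p := by
      rw [Nat.card_eq_fintype_card, Fintype.card_multiplicative, ZMod.card]
    let e := mulEquivOfPrimeCardEq (p := p) (G := (P : Subgroup G) ⧸ M) hMi hcardZ
    set lam' : (P : Subgroup G) →* Multiplicative (ZMod p) := e.toMonoidHom.comp (QuotientGroup.mk' M) with hlam'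
    have hker' : ∀ y, lam' y = 1 ↔ y ∈ M := by
      intro y
      rw [hlam', MonoidHom.comp_apply]
      show e _ = 1 ↔ _
      rw [EmbeddingLike.map_eq_one_iff, QuotientGroup.mk'_apply, QuotientGroup.eq_one_iff]
    have hst : Stab (P : Subgroup G) lam' V := by
      intro u hu g hg hgu
      rw [ext_mem hgu, ext_mem hu, ← mul_inv_eq_one, ← map_inv, ← map_mul, hker']
      apply hBM
      apply hkB
      rw [MonoidHom.mem_ker, hker]
      exact Subgroup.commutator_mem_commutator hg (hPV hu)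
    have h1 := focal_le_ker P lam' (h lam' hst) (x := x) ⟨x.2, hx⟩
    rw [ext_coe, hker'] at h1
    exact hxM h1
  have hst1 : Stab (P : Subgroup G) ((QuotientGroup.mk' C).comp lam0) ⊤ := by
    intro u hu g _ hgu
    rw [ext_mem hgu, ext_mem hu]
    show ((lam0 ⟨g * u * g⁻¹, hgu⟩ : Abelianization V) : Abelianization V ⧸ C) = ((lam0 ⟨u, hu⟩ : Abelianization V) : Abelianization V ⧸ C)
    rw [eq_comm, QuotientGroup.eq, ← map_inv, ← map_mul]
    refine ⟨_, ?_, rfl⟩
    rw [SetLike.mem_coe, hX, Subgroup.mem_subgroupOf]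
    show u⁻¹ * (g * u * g⁻¹) ∈ commutator G
    have h2 : u⁻¹ * (g * u * g⁻¹) = ⁅u⁻¹, g⁆ := by rw [commutatorElement_def]; group
    rw [h2, commutator_def]
    exact Subgroup.commutator_mem_commutator trivial trivial
  have hstep2 : ∀ u : (P : Subgroup G), (tr (P : Subgroup G) lam0 u)⁻¹ * lam0 u ^ m ∈ C := by
    intro u
    have h1 := tau_univ_eq_pow _ hst1 u.2
    rw [tau_comp, ext_comp, ext_coe, ← map_pow, QuotientGroup.mk'_apply, QuotientGroup.mk'_apply,
      QuotientGroup.eq] at h1
    exact h1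
  have hstep3 : ∀ x ∈ commutator G, tr (P : Subgroup G) lam0 x = 1 := fun x hx =>
    Abelianization.commutator_subset_ker (tr (P : Subgroup G) lam0) hx
  have hstep4 : ∀ c ∈ C, ∃ c' ∈ C, c ^ m = c' ^ p := by
    rintro _ ⟨x, hx, rfl⟩
    obtain ⟨u, hu⟩ := hstep1 x hx
    refine ⟨_, hstep2 u, ?_⟩
    have h1 : ((u ^ p : (P : Subgroup G)) : G) ∈ commutator G := by
      have h2 : lam0 (u ^ p * x⁻¹) = 1 := by rw [map_mul, map_pow, map_inv, ← hu, mul_inv_cancel]
      rw [hker] at h2
      have h3 := Subgroup.mul_mem _ (hVG h2) (Subgroup.mem_subgroupOf.1 hx)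
      simpa using h3
    have h4 := hstep3 _ h1
    rw [Subgroup.coe_pow, map_pow] at h4
    rw [mul_pow, inv_pow, h4, _root_.inv_one, one_mul, hu, ← pow_mul, ← pow_mul, mul_comm]
  have hdesc : ∀ j : ℕ, (∀ c ∈ C, c ^ (p ^ j) = 1) → ∀ c ∈ C, c = 1 := by
    intro j
    induction j with
    | zero => intro hj c hc; simpa using hj c hc
    | succ j ih =>
      intro hj
      apply ih
      intro c hc
      obtain ⟨c', hc', hcc⟩ := hstep4 c hc
      have h1 : (c ^ (p ^ j)) ^ m = 1 := by
        rw [← pow_mul, mul_comm, pow_mul, hcc, ← pow_mul, ← pow_succ']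
        exact hj c' hc'
      have h2 : (c ^ (p ^ j)) ^ p = 1 := by
        rw [← pow_mul, ← pow_succ]
        exact hj c hc
      have h3 := Nat.dvd_gcd (orderOf_dvd_of_pow_eq_one h1) (orderOf_dvd_of_pow_eq_one h2)
      rw [hmp.gcd_eq_one, Nat.dvd_one, orderOf_eq_one_iff] at h3
      exact h3
  obtain ⟨n, hn⟩ := IsPGroup.iff_card.1 P.2
  have hbase : ∀ c ∈ C, c ^ (p ^ n) = 1 := by
    rintro _ ⟨x, -, rfl⟩
    rw [← map_pow, ← hn, pow_card_eq_one', map_one]
  intro x hx
  have h1 := hdesc n hbase (lam0 ⟨x, hx.1⟩) ⟨⟨x, hx.1⟩, Subgroup.mem_subgroupOf.2 hx.2, rfl⟩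
  exact (hker _).1 h1

end Cfsg.Agent.Lib.Helper1HWc
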