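import Cfsg.Agent.Lib.Helper2Tate
import Mathlib.GroupTheory.Focal

set_option autoImplicit false
open Pointwise
open scoped commutatorElement

namespace Cfsg.Agent.Lib.Helper2TateB

open Subgroup Cfsg.Agent.Lib.Helper2Tate Cfsg.Agent.Lib.Helper2Residual

variable {G : Type*} [Group G]

/-- `[A ⊔ B, C] ≤ T` as soon as `[A, C], [B, C] ≤ T` and `A`, `B` normalise `T`. -/
theorem sup_commutator_le {A B C T : Subgroup G} (hA : A ≤ normalizer (T : Set G))
    (hB : B ≤ normalizer (T : Set G)) (h1 : ⁅A, C⁆ ≤ T) (h2 : ⁅B, C⁆ ≤ T) : ⁅A ⊔ B, C⁆ ≤ T := by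
  let S : Subgroup G :=
    { carrier := {x | x ∈ normalizer (T : Set G) ∧ ∀ c ∈ C, ⁅x, c⁆ ∈ T}
      one_mem' := ⟨one_mem _, fun c _ => by rw [commutatorElement_one_left]; exact one_mem _⟩
      mul_mem' := by
        rintro a b ⟨ha1, ha2⟩ ⟨hb1, hb2⟩
        refine ⟨mul_mem ha1 hb1, fun c hc => ?_⟩
        rw [commutatorElement_mul_left_eq_conj_mul]
        exact mul_mem ((mem_normalizer_iff.1 ha1 _).1 (hb2 c hc)) (ha2 c hc)
      inv_mem' := by
        rintro a ⟨ha1, ha2⟩
        refine ⟨inv_mem ha1, fun c hc => ?_⟩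
        rw [commutatorElement_inv_left]
        have h3 : ⁅c, a⁆ ∈ T := by
          rw [← commutatorElement_inv]; exact inv_mem (ha2 c hc)
        have := (mem_normalizer_iff.1 (inv_mem ha1) _).1 h3
        simpa using this }
  have hAS : A ≤ S := fun a ha => ⟨hA ha, fun c hc => h1 (commutator_mem_commutator ha hc)⟩
  have hBS : B ≤ S := fun b hb => ⟨hB hb, fun c hc => h2 (commutator_mem_commutator hb hc)⟩
  rw [commutator_le]
  intro x hx c hc
  exact ((sup_le hAS hBS) hx).2 c hc

/-- A Nakayama-type lemma for nilpotent groups. -/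
theorem le_of_le_sup_commutator {P D M : Subgroup G} (hP : Group.IsNilpotent P) (hDP : D ≤ P)
    (hMP : M ≤ P) (hM : P ≤ normalizer (M : Set G)) (h : D ≤ M ⊔ ⁅D, P⁆) : D ≤ M := by
  have key : ∀ n : ℕ, D ≤ M ⊔ P.lowerCentralSeries n := by
    intro n
    induction n with
    | zero => exact hDP.trans le_sup_right
    | succ n ih =>
      refine h.trans (sup_le le_sup_left ?_)
      refine (commutator_mono ih le_rfl).trans ?_
      have hN : P ≤ normalizer ((M ⊔ P.lowerCentralSeries (n + 1) : Subgroup G) : Set G) :=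
        (le_inf hM (P.self_le_normalizer_lowerCentralSeries (n + 1))).trans
          (normalizer_inf_normalizer_le_normalizer_sup _ _)
      apply sup_commutator_le (hMP.trans hN)
        (((P.lowerCentralSeries_antitone (Nat.zero_le n))).trans hN)
      · exact (le_normalizer_iff_commutator_le_left.1 hM).trans le_sup_left
      · exact le_sup_right
  obtain ⟨n, hn⟩ := (isNilpotent_iff_lowerCentralSeries P).1 hP
  have := key n
  rwa [hn, sup_bot_eq] at this

theorem sylow_sup_closure_coprime [Finite G] {p : ℕ} [Fact p.Prime] (P : Sylow p G)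
    (V : Subgroup G) (hPV : (P : Subgroup G) ≤ V) :
    (P : Subgroup G) ⊔ closure {g : G | g ∈ V ∧ (orderOf g).Coprime p} = V := by
  have h1 := sylow_sup_pResidual_eq_top (P.subtype hPV)
  have h2 := congrArg (Subgroup.map V.subtype) h1
  rwa [Subgroup.map_sup, map_pResidual, Sylow.coe_subtype, subgroupOf_map_subtype,
    inf_of_le_left hPV, ← MonoidHom.range_eq_map, range_subtype] at h2

/-- Tate's theorem: if `P ≤ V` and `P ∩ G' ≤ V'`, then `P ∩ O^p(G) ≤ O^p(V)`. -/
theorem tate_general [Finite G] {p : ℕ} [Fact p.Prime] (P : Sylow p G) (V : Subgroup G)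
    (hPV : (P : Subgroup G) ≤ V) (h : (P : Subgroup G) ⊓ commutator G ≤ ⁅V, V⁆) :
    (P : Subgroup G) ⊓ Cfsg.pResidual p G ≤ closure {g : G | g ∈ V ∧ (orderOf g).Coprime p} := by
  set K : Subgroup G := Cfsg.pResidual p G with hKdef
  have hKn : K.Normal := pResidual_normal p
  have hK : K ≤ closure {g : G | g ∈ K ∧ (orderOf g).Coprime p} :=
    closure_mono (fun g hg => ⟨subset_closure hg, hg⟩)
  set L : Subgroup G := closure {g : G | g ∈ V ∧ (orderOf g).Coprime p} with hLdef
  have hLK : L ≤ K := closure_mono (fun g hg => hg.2)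
  have hVL : V ≤ normalizer (L : Set G) :=
    le_normalizer.trans (normalizer_le_normalizer_closure_coprime p V)
  have hPL : (P : Subgroup G) ≤ normalizer (L : Set G) := hPV.trans hVL
  set D : Subgroup G := (P : Subgroup G) ⊓ K with hD
  set DL : Subgroup G := (P : Subgroup G) ⊓ L with hDL
  have hPD : (P : Subgroup G) ≤ normalizer (D : Set G) :=
    (le_inf le_normalizer le_normalizer_of_normal).trans inf_normalizer_le_normalizer_inf
  have hPDL : (P : Subgroup G) ≤ normalizer (DL : Set G) :=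
    (le_inf le_normalizer hPL).trans inf_normalizer_le_normalizer_inf
  have hDPD : ⁅D, (P : Subgroup G)⁆ ≤ D := le_normalizer_iff_commutator_le_left.1 hPD
  obtain ⟨T, hT1, hT2, hT3, hT4⟩ := tate_concrete P K hK (DL ⊔ ⁅D, (P : Subgroup G)⁆)
    (sup_le (inf_le_inf_left _ hLK) hDPD)
    ((le_inf hPDL ((le_inf hPD le_normalizer).trans
      (normalizer_inf_le_normalizer_commutator D P))).trans
      (normalizer_inf_normalizer_le_normalizer_sup _ _))
    ((commutator_mono le_rfl inf_le_left).trans le_sup_right)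
  have hDLT : DL ≤ T := le_sup_left.trans hT1
  have hDPT : ⁅D, (P : Subgroup G)⁆ ≤ T := le_sup_right.trans hT1
  have hDnT : D ≤ normalizer (T : Set G) :=
    le_normalizer_iff_commutator_le_right.2 ((commutator_mono le_rfl hT2).trans hDPT)
  have hPnT : (P : Subgroup G) ≤ normalizer (T : Set G) := by
    rw [← hT4]; exact sup_le le_normalizer hDnT
  have hPPT : ⁅(P : Subgroup G), (P : Subgroup G)⁆ ≤ T := by
    have h1 : ⁅T, (P : Subgroup G)⁆ ≤ T := le_normalizer_iff_commutator_le_left.1 hPnT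
    -- first `[P, T] ≤ T`, `[P, D] ≤ T`, then `[T ⊔ D, T ⊔ D] ≤ T`
    have h2 : ⁅(P : Subgroup G), T ⊔ D⁆ ≤ T := by
      rw [commutator_comm]
      apply sup_commutator_le le_normalizer hDnT
      · -- `[T, P] ≤ T`
        exact h1
      · exact hDPT
    rwa [hT4] at h2
  -- `V' ≤ T ⊔ L`
  have hVV : ⁅V, V⁆ ≤ T ⊔ L := by
    have hPW : (P : Subgroup G) ≤ normalizer ((T ⊔ L : Subgroup G) : Set G) :=
      (le_inf hPnT hPL).trans (normalizer_inf_normalizer_le_normalizer_sup _ _)
    have hLW : L ≤ normalizer ((T ⊔ L : Subgroup G) : Set G) := le_sup_right.trans le_normalizer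
    have hV : (P : Subgroup G) ⊔ L = V := sylow_sup_closure_coprime P V hPV
    have hLV : L ≤ V := closure_coprime_le p V
    have h1 : ⁅(P : Subgroup G), V⁆ ≤ T ⊔ L := by
      rw [commutator_comm]
      conv_lhs => rw [← hV]
      apply sup_commutator_le hPW hLW
      · exact hPPT.trans le_sup_left
      · exact (le_normalizer_iff_commutator_le_left.1 hPL).trans le_sup_right
    have h2 : ⁅L, V⁆ ≤ T ⊔ L := (le_normalizer_iff_commutator_le_left.1 hVL).trans le_sup_right
    conv_lhs => rw [← hV]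
    rw [hV]
    conv_lhs => arg 1; rw [← hV]
    exact sup_commutator_le hPW hLW h1 h2
  have hDT : D ≤ T := by
    intro x hx
    have hxP : x ∈ (P : Subgroup G) := (mem_inf.1 hx).1
    have h1 : x ∈ (P : Subgroup G).focalSubgroup := sylow_inf_pResidual_le_focal P hx
    have h2 : x ∈ commutator G := focalSubgroup_le_commutator _ h1
    have h3 : x ∈ T ⊔ L := hVV (h (mem_inf.2 ⟨hxP, h2⟩))
    have h4 : x ∈ ((T ⊔ L : Subgroup G) : Set G) := h3
    rw [coe_mul_of_left_le_normalizer_right T L (hT2.trans hPL)] at h4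
    obtain ⟨t, ht, l, hl, rfl⟩ := Set.mem_mul.1 h4
    have hlP : l ∈ (P : Subgroup G) := by
      have := mul_mem (inv_mem (hT2 ht)) hxP
      simpa using this
    exact mul_mem ht (hDLT (mem_inf.2 ⟨hlP, hl⟩))
  have hTP : T = P := by
    rw [← hT4, sup_of_le_left hDT]
  rw [hTP] at hT3
  have hfin : D ≤ DL := by
    apply le_of_le_sup_commutator (P := (P : Subgroup G)) P.2.isNilpotent inf_le_left inf_le_left
      hPDL
    exact hT3.le
  exact hfin.trans inf_le_right

end Cfsg.Agent.Lib.Helper2TateB
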