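import Mathlib
import Cfsg.Prelude.Def_Transfer
import Cfsg.Prelude.Def_BaumannBlocks
import Cfsg.Agent.Lib.Helper1HWc
import Cfsg.Agent.Lib.Helper2TateB

set_option autoImplicit false
set_option linter.unusedSectionVars false

/-! The Hall--Wielandt transfer theorem in a form from which its variants follow. -/

namespace Cfsg.Agent.Lib.Helper1HWd

open Cfsg.Agent.Lib.Helper1Sep Cfsg.Agent.Lib.Helper1HW Cfsg.Agent.Lib.Helper1HWb Cfsg.Agent.Lib.Helper1HWc
open scoped commutatorElement

variable {G : Type*} [Group G]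

theorem card_mult_zmod (p : ℕ) [Fact p.Prime] : Nat.card (Multiplicative (ZMod p)) = p := by
  rw [Nat.card_eq_fintype_card, Fintype.card_multiplicative, ZMod.card]

theorem isCoatom_of_index_prime {H : Subgroup G} {p : ℕ} (hp : p.Prime) (h : H.index = p) : IsCoatom H := by
  constructor
  · intro htop
    rw [htop, Subgroup.index_top] at h
    exact hp.one_lt.ne h
  · intro K hK
    have h1 := Subgroup.relIndex_mul_index hK.le
    rw [h] at h1
    have h2 : K.index ∣ p := Dvd.intro_left _ h1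
    rcases (Nat.dvd_prime hp).1 h2 with h3 | h3
    · exact Subgroup.index_eq_one.1 h3
    · exfalso
      rw [h3] at h1
      have h4 : H.relIndex K = 1 := by
        have := Nat.eq_of_mul_eq_mul_right hp.pos (h1.trans (one_mul p).symm)
        exact this
      exact (not_le_of_gt hK) (Subgroup.relIndex_eq_one.1 h4)

theorem coe_iterate (E : Subgroup G) (z : E) (k : ℕ) (u : E) :
    (((fun y : E => y⁻¹ * z⁻¹ * y * z)^[k] u : E) : G) = (fun y : G => y⁻¹ * (z : G)⁻¹ * y * z)^[k] (u : G) := by
  induction k generalizing u with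
  | zero => rfl
  | succ k ih =>
    rw [Function.iterate_succ_apply, Function.iterate_succ_apply, ih]
    rfl

/-- **Hall--Wielandt**, general form. -/
theorem hw_main [Finite G] {p : ℕ} [hp : Fact p.Prime] (P : Sylow p G) (W : Subgroup G)
    (hW : Cfsg.IsWeaklyClosed W (P : Subgroup G))
    (H : ∀ (E : Subgroup G) (u z : E) (M : Subgroup E) (ν : M →* Multiplicative (ZMod p))
      (h : (fun y : E => y⁻¹ * z⁻¹ * y * z)^[p - 1] u ∈ M),
      E = W ⊔ Subgroup.zpowers (u : G) → (u : G) ∈ (P : Subgroup G) → M.Normal → M.index = p → u ∈ M →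
      (z : G) ∈ W → z ∉ M → ν ⟨_, h⟩ = 1) :
    (P : Subgroup G) ⊓ commutator G ≤ ⁅Subgroup.normalizer (W : Set G), Subgroup.normalizer (W : Set G)⁆ := by
  apply tate_lite P _ (le_normalizer_of_weaklyClosed hW)
  intro lam hst
  apply core P W hW _ lam hst H
  intro a
  have h1 : a ^ Nat.card (Multiplicative (ZMod p)) = 1 := pow_card_eq_one'
  rwa [card_mult_zmod p] at h1

/-- existence form -/
theorem hw_exists [Finite G] {p : ℕ} [hp : Fact p.Prime] (P : Sylow p G) (W : Subgroup G)
    (hW : Cfsg.IsWeaklyClosed W (P : Subgroup G))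
    (hne : (P : Subgroup G) ⊓ commutator G ≠
      (P : Subgroup G) ⊓ ⁅Subgroup.normalizer (W : Set G), Subgroup.normalizer (W : Set G)⁆) :
    ∃ (E : Subgroup G) (u z : E) (M : Subgroup E) (ν : M →* Multiplicative (ZMod p))
      (h : (fun y : E => y⁻¹ * z⁻¹ * y * z)^[p - 1] u ∈ M),
      E = W ⊔ Subgroup.zpowers (u : G) ∧ (u : G) ∈ (P : Subgroup G) ∧ M.Normal ∧ M.index = p ∧ u ∈ M ∧
      (z : G) ∈ W ∧ z ∉ M ∧ ν ⟨_, h⟩ ≠ 1 := by
  by_contra hcon
  push Not at hcon
  apply hne
  apply le_antisymm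
  · exact le_inf inf_le_left (hw_main P W hW hcon)
  · apply inf_le_inf_left
    rw [commutator_def]
    exact Subgroup.commutator_mono le_top le_top

open Cfsg.Agent.Lib.Helper2Tate Cfsg.Agent.Lib.Helper2TateB Cfsg.Agent.Lib.Helper2Residual in
/-- control of transfer gives `O^p(V) = O^p(G) ∩ V`. -/
theorem residual_eq [Finite G] {p : ℕ} [hp : Fact p.Prime] (P : Sylow p G) (V : Subgroup G)
    (hPV : (P : Subgroup G) ≤ V) (h : (P : Subgroup G) ⊓ commutator G ≤ ⁅V, V⁆) :
    Cfsg.pResidualOf p V = Cfsg.pResidual p G ⊓ V := by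
  have h1 := tate_general P V hPV h
  unfold Cfsg.pResidualOf
  rw [map_pResidual]
  set L := Subgroup.closure {g : G | g ∈ V ∧ (orderOf g).Coprime p} with hL
  have hLK : L ≤ Cfsg.pResidual p G := Subgroup.closure_mono (fun g hg => hg.2)
  apply le_antisymm
  · exact le_inf hLK (closure_coprime_le p V)
  · intro x hx
    have hVL : V ≤ Subgroup.normalizer (L : Set G) :=
      Subgroup.le_normalizer.trans (normalizer_le_normalizer_closure_coprime p V)
    have h2 : x ∈ (((P : Subgroup G) ⊔ L : Subgroup G) : Set G) := by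
      rw [SetLike.mem_coe, sylow_sup_closure_coprime P V hPV]
      exact hx.2
    rw [Subgroup.coe_mul_of_left_le_normalizer_right _ L (hPV.trans hVL)] at h2
    obtain ⟨a, ha, b, hb, rfl⟩ := Set.mem_mul.1 h2
    have h3 : a ∈ Cfsg.pResidual p G := by
      have := Subgroup.mul_mem _ hx.1 (Subgroup.inv_mem _ (hLK hb))
      simpa using this
    exact L.mul_mem (h1 ⟨ha, h3⟩) hb

end Cfsg.Agent.Lib.Helper1HWd
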