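import Cfsg.Agent.Lib.Helper43SpDefs
import Cfsg.Agent.Lib.Helper43StHubF

set_option autoImplicit false
set_option linter.unusedVariables false

/-! Project 243, piece `cd1s`. -/

namespace Cfsg.Agent.Lib.Helper1SpCd1s

open Matrix Cfsg.Agent.Lib.Helper43St Cfsg.Agent.Lib.Helper43Sp Cfsg.Agent.Lib.Helper43P3

variable {m : ℕ} {F : Type*} [Field F] {P : Type*} [Group P] (S : CSys m F P)

variable {Sg : Type*} [Group Sg] (A : StSys m F Sg) (ι : Sg →* P)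

-- piece `cd1s`
theorem d1_short (hm : 3 ≤ m) (hι : ∀ i j t, i ≠ j → ι (A.x i j t) = S.x (Sum.inl i) (Sum.inl j) t)
    (i j : Fin m) (hij : j.val = i.val + 1) (y : P) (hy : y ∈ S.U)
    (U_dec : ∀ y ∈ S.U, ∃ u ∈ A.U, ∃ q ∈ S.Q, y = ι u * q)
    (LQ : ∀ (g : Sg), ∀ q ∈ S.Q, ι g * q * (ι g)⁻¹ ∈ S.Q)
    (iota_U_le : ∀ u ∈ A.U, ι u ∈ S.U)
    (Q_le_U : S.Q ≤ S.U) :
    ∃ a y', y = S.x (Sum.inl i) (Sum.inl j) a * y' ∧
      (S.w (Sum.inl i) (Sum.inl j) 1)⁻¹ * y' * S.w (Sum.inl i) (Sum.inl j) 1 ∈ S.U := by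
  have hne : i ≠ j := fun h => by rw [h] at hij; omega
  obtain ⟨u, hu, q, hq, rfl⟩ := U_dec y hy
  obtain ⟨a, u', hu', rfl⟩ := Cfsg.Agent.Lib.Helper43StHubF.d1a A hm i j hij u hu
  have hw : S.w (Sum.inl i) (Sum.inl j) 1 = ι (A.w i j 1) := by
    unfold CSys.w StSys.w
    rw [map_mul, map_mul, hι i j _ hne, hι j i _ hne.symm]
  refine ⟨a, ι u' * q, ?_, ?_⟩
  · rw [map_mul, hι i j a hne, mul_assoc]
  · rw [hw]
    have e : (ι (A.w i j 1))⁻¹ * (ι u' * q) * ι (A.w i j 1)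
        = ι ((A.w i j 1)⁻¹ * u' * A.w i j 1) * (ι (A.w i j 1)⁻¹ * q * (ι (A.w i j 1)⁻¹)⁻¹) := by
      simp only [map_mul, map_inv]
      group
    rw [e]
    exact S.U.mul_mem (iota_U_le _ (Cfsg.Agent.Lib.Helper43StHubF.d1b A hm i j hij u' hu'))
      (Q_le_U (LQ _ q hq))

end Cfsg.Agent.Lib.Helper1SpCd1s
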