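import Cfsg.Agent.Lib.Helper43R1Defs
import Cfsg.Agent.Lib.Helper43StHubF
import Cfsg.Agent.Lib.Helper43P3G
import Cfsg.Agent.Lib.Helper6SL

set_option autoImplicit false

/-! Project 143, piece `st3iso`: `St_3(K) ≃ SL_3(K)`.  The unlanded pieces (`stpres`, `sS3`, `st3gen`) are extra
hypotheses at the end; `cc T` is written out. -/

namespace Cfsg.Agent.Lib.Helper1StSt3iso

open Matrix Cfsg.Agent.Lib.Helper43R1 Cfsg.Agent.Lib.Helper43P3 Cfsg.Agent.Lib.Helper43St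

variable {K : Type*} [Field K]

theorem tv01 (a : K) : ((tv 0 1 a : SpecialLinearGroup (Fin 3) K) : Matrix (Fin 3) (Fin 3) K)
    = !![1, a, 0; 0, 1, 0; 0, 0, 1] := by
  rw [tv_val _ _ (by decide)]
  ext i j
  fin_cases i <;> fin_cases j <;> simp

theorem tv10 (a : K) : ((tv 1 0 a : SpecialLinearGroup (Fin 3) K) : Matrix (Fin 3) (Fin 3) K)
    = !![1, 0, 0; a, 1, 0; 0, 0, 1] := by
  rw [tv_val _ _ (by decide)]
  ext i j
  fin_cases i <;> fin_cases j <;> simp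

theorem tv12 (a : K) : ((tv 1 2 a : SpecialLinearGroup (Fin 3) K) : Matrix (Fin 3) (Fin 3) K)
    = !![1, 0, 0; 0, 1, a; 0, 0, 1] := by
  rw [tv_val _ _ (by decide)]
  ext i j
  fin_cases i <;> fin_cases j <;> simp

theorem tv21 (a : K) : ((tv 2 1 a : SpecialLinearGroup (Fin 3) K) : Matrix (Fin 3) (Fin 3) K)
    = !![1, 0, 0; 0, 1, 0; 0, a, 1] := by
  rw [tv_val _ _ (by decide)]
  ext i j
  fin_cases i <;> fin_cases j <;> simp

theorem w01 (a : K) (ha : a ≠ 0) :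
    ((tv 0 1 a * tv 1 0 (-a⁻¹) * tv 0 1 a : SpecialLinearGroup (Fin 3) K) :
      Matrix (Fin 3) (Fin 3) K) = !![0, a, 0; -a⁻¹, 0, 0; 0, 0, 1] := by
  rw [Matrix.SpecialLinearGroup.coe_mul, Matrix.SpecialLinearGroup.coe_mul, tv01, tv10]
  ext i j
  fin_cases i <;> fin_cases j <;> simp [Matrix.mul_apply, Fin.sum_univ_three, ha]

theorem w12 (a : K) (ha : a ≠ 0) :
    ((tv 1 2 a * tv 2 1 (-a⁻¹) * tv 1 2 a : SpecialLinearGroup (Fin 3) K) :
      Matrix (Fin 3) (Fin 3) K) = !![1, 0, 0; 0, 0, a; 0, -a⁻¹, 0] := by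
  rw [Matrix.SpecialLinearGroup.coe_mul, Matrix.SpecialLinearGroup.coe_mul, tv12, tv21]
  ext i j
  fin_cases i <;> fin_cases j <;> simp [Matrix.mul_apply, Fin.sum_univ_three, ha]

theorem w21 (a : K) (ha : a ≠ 0) :
    ((tv 2 1 a * tv 1 2 (-a⁻¹) * tv 2 1 a : SpecialLinearGroup (Fin 3) K) :
      Matrix (Fin 3) (Fin 3) K) = !![1, 0, 0; 0, 0, -a⁻¹; 0, a, 0] := by
  rw [Matrix.SpecialLinearGroup.coe_mul, Matrix.SpecialLinearGroup.coe_mul, tv12, tv21]
  ext i j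
  fin_cases i <;> fin_cases j <;> simp [Matrix.mul_apply, Fin.sum_univ_three, ha]

/-- the images of the `w`. -/
def W (i j : Fin 3) (a : K) : SpecialLinearGroup (Fin 3) K := tv i j a * tv j i (-a⁻¹) * tv i j a

theorem st3_iso (K : Type*) [Field K] [Finite K]
    (st_StR : ∃ S : StR 3 K (StG 3 K), ∀ (a : Ix 3) (t : K),
      S.x a.1.1 a.1.2 t = PresentedGroup.of (a, t))
    (st_lift : ∀ S : StR 3 K (SpecialLinearGroup (Fin 3) K),
      ∃ f : StG 3 K →* SpecialLinearGroup (Fin 3) K, ∀ (a : Ix 3) (t : K),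
        f (PresentedGroup.of (a, t)) = S.x a.1.1 a.1.2 t)
    (sl_StR : ∃ S : StR 3 K (SpecialLinearGroup (Fin 3) K), ∀ i j t, i ≠ j → S.x i j t = tv i j t)
    (s_S3 : ∀ (T : StR 3 K (StG 3 K)) (ζ : K) (_ : ζ ≠ 0) (e : ℕ) (_ : ζ ^ e = -1),
      S3 (T.x 0 1) (T.hh 2 1 ζ) (T.w 0 1 1) (T.w 0 1 1 * T.w 1 2 1 * T.hh 0 1 (-1)) ζ e)
    (st3_gen : ∀ (T : StR 3 K (StG 3 K))
      (_ : Subgroup.closure {g | ∃ i j t, i ≠ j ∧ g = T.x i j t} = ⊤)
      (ζ : K) (_ : ∀ b : K, b ≠ 0 → ∃ j : ℕ, ζ ^ j = b),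
      Subgroup.closure ({T.x 0 1 1, T.hh 2 1 ζ, T.w 0 1 1,
        T.w 0 1 1 * T.w 1 2 1 * T.hh 0 1 (-1)} : Set (StG 3 K)) = ⊤) :
    ∃ e : StG 3 K ≃* SpecialLinearGroup (Fin 3) K,
      ∀ (a : Ix 3) (t : K), e (PresentedGroup.of (a, t)) = tv a.1.1 a.1.2 t := by
  obtain ⟨T, hT⟩ := st_StR
  obtain ⟨Sl, hSl⟩ := sl_StR
  obtain ⟨π, hπ⟩ := st_lift Sl
  have hπ' : ∀ (a : Ix 3) (t : K), π (PresentedGroup.of (a, t)) = tv a.1.1 a.1.2 t := by
    intro a t
    rw [hπ, hSl _ _ _ a.2]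
  have hx : ∀ (i j : Fin 3) (t : K), i ≠ j → π (T.x i j t) = tv i j t := by
    intro i j t hij
    have := hT ⟨(i, j), hij⟩ t
    simp only at this
    rw [this]
    exact hπ' ⟨(i, j), hij⟩ t
  have hw : ∀ (i j : Fin 3) (a : K), i ≠ j →
      π (T.w i j a) = W i j a := by
    intro i j a hij
    unfold StR.w W
    rw [map_mul, map_mul, hx _ _ _ hij, hx _ _ _ hij.symm]
  -- a generator of the multiplicative group
  obtain ⟨z, hz⟩ := IsCyclic.exists_monoid_generator (α := Kˣ)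
  have hgen : ∀ b : K, b ≠ 0 → ∃ j : ℕ, (z : K) ^ j = b := by
    intro b hb
    obtain ⟨j, hj⟩ := hz (Units.mk0 b hb)
    refine ⟨j, ?_⟩
    have := congrArg (fun u : Kˣ => (u : K)) hj
    simpa using this
  obtain ⟨e, he⟩ := hgen (-1) (neg_ne_zero.mpr one_ne_zero)
  have hz0 : (z : K) ≠ 0 := z.ne_zero
  have hcl : Subgroup.closure {g | ∃ i j t, i ≠ j ∧ g = T.x i j t} = ⊤ := by
    rw [eq_top_iff, ← PresentedGroup.closure_range_of (stRels 3 K)]
    apply Subgroup.closure_mono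
    rintro _ ⟨⟨a, t⟩, rfl⟩
    exact ⟨a.1.1, a.1.2, t, a.2, (hT a t).symm⟩
  have hinj : Function.Injective π := by
    refine S3.injective (s_S3 T z hz0 e he) hgen z rfl (st3_gen T hcl z hgen) π ?_ ?_ ?_ ?_
    · intro a
      rw [hx _ _ _ (by decide)]
      apply Subtype.ext
      exact tv01 a
    · unfold StR.hh
      rw [map_mul, map_inv, mul_inv_eq_iff_eq_mul, hw _ _ _ (by decide), hw _ _ _ (by decide)]
      apply Subtype.ext
      rw [Matrix.SpecialLinearGroup.coe_mul]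
      have e1 : ((W 2 1 (z : K) : SpecialLinearGroup (Fin 3) K) : Matrix (Fin 3) (Fin 3) K) = _ :=
        w21 _ hz0
      have e2 : ((W 2 1 (1 : K) : SpecialLinearGroup (Fin 3) K) : Matrix (Fin 3) (Fin 3) K) = _ :=
        w21 _ one_ne_zero
      rw [e1, e2]
      show _ = mD _ _ _ * _
      ext i j
      fin_cases i <;> fin_cases j <;> simp [mD, Matrix.mul_apply, Fin.sum_univ_three]
    · rw [hw _ _ _ (by decide)]
      apply Subtype.ext
      have e1 : ((W 0 1 (1 : K) : SpecialLinearGroup (Fin 3) K) : Matrix (Fin 3) (Fin 3) K) = _ :=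
        w01 _ one_ne_zero
      rw [e1]
      show _ = mT
      simp [mT]
    · unfold StR.hh
      rw [map_mul, map_mul, map_mul, map_inv, ← mul_assoc, mul_inv_eq_iff_eq_mul,
        hw _ _ _ (by decide), hw _ _ _ (by decide), hw _ _ _ (by decide)]
      apply Subtype.ext
      rw [Matrix.SpecialLinearGroup.coe_mul, Matrix.SpecialLinearGroup.coe_mul,
        Matrix.SpecialLinearGroup.coe_mul]
      have e1 : ((W 0 1 (1 : K) : SpecialLinearGroup (Fin 3) K) : Matrix (Fin 3) (Fin 3) K) = _ :=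
        w01 _ one_ne_zero
      have e2 : ((W 1 2 (1 : K) : SpecialLinearGroup (Fin 3) K) : Matrix (Fin 3) (Fin 3) K) = _ :=
        w12 _ one_ne_zero
      have e3 : ((W 0 1 (-1 : K) : SpecialLinearGroup (Fin 3) K) : Matrix (Fin 3) (Fin 3) K) = _ :=
        w01 _ (neg_ne_zero.mpr one_ne_zero)
      rw [e1, e2, e3]
      show _ = mC * _
      ext i j
      fin_cases i <;> fin_cases j <;> simp [mC, Matrix.mul_apply, Fin.sum_univ_three]
  have hsurj : Function.Surjective π := by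
    rw [← MonoidHom.range_eq_top, eq_top_iff]
    intro A _
    refine Helper6SL.transvection_induction (fun A => A ∈ π.range) ?_ (fun _ _ => mul_mem) A
    intro i j hij c
    refine ⟨PresentedGroup.of (⟨(i, j), hij⟩, c), ?_⟩
    rw [hπ']
    unfold tv
    rw [dif_pos hij]
  exact ⟨MulEquiv.ofBijective π ⟨hinj, hsurj⟩, hπ'⟩

end Cfsg.Agent.Lib.Helper1StSt3iso
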