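import Cfsg.Agent.Lib.Helper1StR1Wire
import Cfsg.Agent.Lib.Helper72StSwx
import Cfsg.Agent.Lib.Helper57StSww
import Cfsg.Agent.Lib.Helper57StShx
import Cfsg.Agent.Lib.Helper9StShom
import Cfsg.Agent.Lib.Helper7StSrk1
import Cfsg.Agent.Lib.Helper9StShh
import Cfsg.Agent.Lib.Helper77StAux
import Cfsg.Agent.Lib.Helper77StScx
import Cfsg.Agent.Lib.Helper77StSc3
import Cfsg.Agent.Lib.Helper77StStc
import Cfsg.Agent.Lib.Helper77StSt3gen
import Cfsg.Agent.Lib.Helper36StSS3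
import Cfsg.Agent.Lib.Helper1StSt3iso
import Cfsg.Agent.Lib.Helper7StStpres
import Cfsg.Agent.Lib.Helper7StStsys

set_option autoImplicit false

/-! Project 143: the wiring of all pieces of part S, without extra hypotheses. -/

namespace Cfsg.Agent.Lib.Helper36StSWire

open Matrix Cfsg.Agent.Lib.Helper43R1 Cfsg.Agent.Lib.Helper43P3 Cfsg.Agent.Lib.Helper43St

variable {n : ℕ} {K : Type*} [Field K] {Γ : Type*} [Group Γ] (S : StR n K Γ)

theorem sHom [Finite K] : Helper7StSrk1.SHom S := fun i j k hij hik hjk =>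
  Helper9StShom.s_hom S i j k hij hik hjk (Helper77StAux.w_ij S)
    (fun R => Helper1StR1Wire.r1_hom R)

theorem hh_w_jk (i j k : Fin n) (hij : i ≠ j) (hik : i ≠ k) (hjk : j ≠ k) (a u : K) (ha : a ≠ 0)
    (hu : u ≠ 0) : S.hh i j a * S.w j k u * (S.hh i j a)⁻¹ = S.w j k (a⁻¹ * u) :=
  Helper57StSww.hh_w_jk S i j k hij hik hjk a u ha hu (Helper72StSwx.w_ik S) (Helper72StSwx.w_jk S)
    (Helper72StSwx.w_ki S) (Helper72StSwx.w_kj S)

theorem w_w_ik (i j k : Fin n) (hij : i ≠ j) (hik : i ≠ k) (hjk : j ≠ k) (u : K) (hu : u ≠ 0) :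
    S.w j k 1 * S.w i k u * (S.w j k 1)⁻¹ = S.w i j u :=
  Helper57StSww.w_w_ik S i j k hij hik hjk u hu (Helper72StSwx.w_jk S) (Helper72StSwx.w_kj S)

theorem hh_mul [Finite K] (i j k : Fin n) (hij : i ≠ j) (hik : i ≠ k) (hjk : j ≠ k) (a b : K)
    (ha : a ≠ 0) (hb : b ≠ 0) : S.hh i j (a * b) = S.hh i j a * S.hh i j b :=
  Helper7StSrk1.hh_mul S i j k hij hik hjk a b ha hb (sHom S)

theorem w_hh_self [Finite K] (i j k : Fin n) (hij : i ≠ j) (hik : i ≠ k) (hjk : j ≠ k) (a : K)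
    (ha : a ≠ 0) : S.w i j 1 * S.hh i j a * (S.w i j 1)⁻¹ = (S.hh i j a)⁻¹ :=
  Helper7StSrk1.w_hh_self S i j k hij hik hjk a ha (sHom S)

theorem hh_comm [Finite K] (i j k : Fin n) (hij : i ≠ j) (hik : i ≠ k) (hjk : j ≠ k) (a b : K)
    (ha : a ≠ 0) (hb : b ≠ 0) : Commute (S.hh i j a) (S.hh j k b) :=
  Helper9StShh.hh_comm S i j k hij hik hjk a b ha hb (hh_w_jk S) (hh_mul S)

theorem hh_chain [Finite K] (i j k : Fin n) (hij : i ≠ j) (hik : i ≠ k) (hjk : j ≠ k) (a : K)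
    (ha : a ≠ 0) : S.hh i k a = S.hh i j a * S.hh j k a :=
  Helper9StShh.hh_chain S i j k hij hik hjk a ha (w_w_ik S) (hh_w_jk S) (w_hh_self S)

theorem w_pow4 [Finite K] (i j k : Fin n) (hij : i ≠ j) (hik : i ≠ k) (hjk : j ≠ k) :
    S.w i j 1 ^ 4 = 1 :=
  Helper7StSrk1.w_pow4 S i j k hij hik hjk (sHom S)

theorem s_S3 [Finite K] (T : StR 3 K Γ) (ζ : K) (hζ : ζ ≠ 0) (e : ℕ) (he : ζ ^ e = -1) :
    S3 (T.x 0 1) (T.hh 2 1 ζ) (T.w 0 1 1) (Helper36StSS3.cc T) ζ e :=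
  Helper36StSS3.s_S3 T ζ hζ e he (Helper77StAux.w_ij T) (hh_mul T)
    (fun i j k hij hik hjk a ha => Helper7StSrk1.hh_symm T i j k hij hik hjk a ha (sHom T))
    (w_hh_self T)
    (fun i j k hij hik hjk a u ha => Helper7StSrk1.hh_ij T i j k hij hik hjk a u ha (sHom T))
    (fun i j k hij hik hjk => Helper7StSrk1.x_w_x T i j k hij hik hjk (sHom T))
    (fun i j k hij hik hjk a u ha => Helper57StShx.hh_kj T i j k hij hik hjk a u ha
      (Helper72StSwx.w_ki T) (Helper72StSwx.w_kj T))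
    (hh_comm T) (hh_chain T) (Helper77StScx.cc_x T) (Helper77StSc3.cc_cube T (w_pow4 T))
    (Helper77StStc.t_cc T (w_pow4 T))

theorem st3_iso (K : Type*) [Field K] [Finite K] :
    ∃ e : StG 3 K ≃* SpecialLinearGroup (Fin 3) K,
      ∀ (a : Ix 3) (t : K), e (PresentedGroup.of (a, t)) = tv a.1.1 a.1.2 t :=
  Helper1StSt3iso.st3_iso K (Helper7StStpres.st_StR 3 K) (fun S => Helper7StStpres.st_lift S)
    (Helper7StStpres.sl_StR 3 K) (fun T ζ hζ e he => s_S3 T ζ hζ e he)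
    (fun T hgen ζ hζ => Helper77StSt3gen.st3_gen T hgen ζ hζ)

theorem st_sys (n : ℕ) (hn : 3 ≤ n) (K : Type*) [Field K] [Finite K] :
    ∃ S : StSys n K (StG n K), ∀ (a : Ix n) (t : K), S.x a.1.1 a.1.2 t = PresentedGroup.of (a, t) :=
  Helper7StStsys.st_sys n hn K (st3_iso K)

end Cfsg.Agent.Lib.Helper36StSWire
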