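import Cfsg.Agent.Lib.Helper43SpDefs
import Cfsg.Agent.Lib.Helper43R1Defs
import Cfsg.Agent.Lib.Helper7StStpres
import Cfsg.Agent.Lib.Helper36StSWire

set_option autoImplicit false
set_option linter.unusedVariables false

/-! Project 243, piece `ciota`. -/

namespace Cfsg.Agent.Lib.Helper1SpCiota

open Matrix Cfsg.Agent.Lib.Helper43St Cfsg.Agent.Lib.Helper43Sp Cfsg.Agent.Lib.Helper43P3
open Cfsg.Agent.Lib.Helper43R1 (StG StR Ix)

variable {m : ℕ} {F : Type*} [Field F] {P : Type*} [Group P] (S : CSys m F P)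

-- piece `ciota`
theorem exists_iota [Finite F] (hm : 3 ≤ m)
    (x_add : ∀ (a b : I m), a ≠ b → ∀ s t : F, S.x a b (s + t) = S.x a b s * S.x a b t)
    (x_comm : ∀ (a b c d : I m), a ≠ b → c ≠ d → b ≠ c → a ≠ d → b ≠ ng d → a ≠ ng c →
      ∀ s t : F, Commute (S.x a b s) (S.x c d t))
    (x_chain : ∀ (a b c : I m), ab a ≠ ab b → ab b ≠ ab c → ab a ≠ ab c → ∀ s t : F,
      S.x a b s * S.x b c t * (S.x a b s)⁻¹ * (S.x b c t)⁻¹ = S.x a c (s * t)) :
    ∃ (A : StSys m F (StG m F)) (ι : StG m F →* P),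
      ∀ i j t, i ≠ j → ι (A.x i j t) = S.x (Sum.inl i) (Sum.inl j) t := by
  let R : StR m F P :=
    { x := fun i j t => S.x (Sum.inl i) (Sum.inl j) t
      add := fun i j hij s t => x_add _ _ (fun h => hij (Sum.inl.inj h)) s t
      comm := fun i j k l hij hkl hil hjk s t =>
        x_comm _ _ _ _ (fun h => hij (Sum.inl.inj h)) (fun h => hkl (Sum.inl.inj h))
          (fun h => hjk (Sum.inl.inj h)) (fun h => hil (Sum.inl.inj h)) (by simp [ng])
          (by simp [ng]) s t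
      chain := fun i j k hij hjk hik s t =>
        x_chain (Sum.inl i) (Sum.inl j) (Sum.inl k) hij hjk hik s t }
  obtain ⟨A, hA⟩ := Cfsg.Agent.Lib.Helper36StSWire.st_sys m hm F
  obtain ⟨f, hf⟩ := Cfsg.Agent.Lib.Helper7StStpres.st_lift R
  refine ⟨A, f, fun i j t hij => ?_⟩
  have h1 := hA ⟨(i, j), hij⟩ t
  have h2 := hf ⟨(i, j), hij⟩ t
  simp only at h1 h2
  rw [h1, h2]

end Cfsg.Agent.Lib.Helper1SpCiota
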