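import Cfsg.Agent.Lib.Helper43SpDefs
import Cfsg.Agent.Lib.Helper43StHubF

set_option autoImplicit false
set_option linter.unusedVariables false

/-! Project 243, piece `cncox`. -/

namespace Cfsg.Agent.Lib.Helper1SpCncox

open Matrix Cfsg.Agent.Lib.Helper43St Cfsg.Agent.Lib.Helper43Sp Cfsg.Agent.Lib.Helper43P3

variable {m : ℕ} {F : Type*} [Field F] {P : Type*} [Group P] (S : CSys m F P)

variable {Sg : Type*} [Group Sg] (A : StSys m F Sg) (ι : Sg →* P)
  (κ : (Fin m → SpecialLinearGroup (Fin 2) F) →* P)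

-- piece `cncox`
theorem n_cox (hm : 3 ≤ m) (hι : ∀ i j t, i ≠ j → ι (A.x i j t) = S.x (Sum.inl i) (Sum.inl j) t)
    (hκ : ∀ i t, κ (Pi.mulSingle i (tv 0 1 t)) = S.x (Sum.inl i) (Sum.inr i) t ∧
        κ (Pi.mulSingle i (tv 1 0 t)) = S.x (Sum.inr i) (Sum.inl i) t)
    (ν : P) (hν : ν ∈ S.N) (h : ∀ a b, rk b < rk a → (S.π ν).1 a b = 0)
    (n_form : ∀ ν ∈ S.N, ∃ n ∈ A.N, ∃ z : Fin m → SpecialLinearGroup (Fin 2) F,
      (∀ i, (z i 0 1 = 0 ∧ z i 1 0 = 0) ∨ (z i 0 0 = 0 ∧ z i 1 1 = 0)) ∧ ν = ι n * κ z)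
    (pi_iota : ∀ g : Sg, ((S.π (ι g) : Sp m F) : Matrix (I m) (I m) F) =
      Matrix.fromBlocks (A.π g).1 0 0 ((A.π g)⁻¹).1ᵀ)
    (pi_kap : ∀ z : Fin m → SpecialLinearGroup (Fin 2) F,
      ((S.π (κ z) : Sp m F) : Matrix (I m) (I m) F) = Km z)
    (k_diag : ∀ z : Fin m → SpecialLinearGroup (Fin 2) F, (∀ i, z i 0 1 = 0 ∧ z i 1 0 = 0) →
      κ z ∈ S.H)
    (iota_H : ∀ n ∈ A.H, ι n ∈ S.H) : ν ∈ S.H := by
  obtain ⟨n, hn, z, hz, rfl⟩ := n_form ν hν
  have hval : ((S.π (ι n * κ z) : Sp m F) : Matrix (I m) (I m) F) =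
      Matrix.fromBlocks ((A.π n).1 * Matrix.diagonal fun i => z i 0 0)
        ((A.π n).1 * Matrix.diagonal fun i => z i 0 1)
        (((A.π n)⁻¹).1ᵀ * Matrix.diagonal fun i => z i 1 0)
        (((A.π n)⁻¹).1ᵀ * Matrix.diagonal fun i => z i 1 1) := by
    rw [map_mul, Submonoid.coe_mul, pi_iota, pi_kap, Km, Matrix.fromBlocks_multiply]
    simp
  -- the lower left block vanishes
  have hll : ((A.π n)⁻¹).1ᵀ * (Matrix.diagonal fun i => z i 1 0) = 0 := by
    ext i j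
    have h1 := h (Sum.inr i) (Sum.inl j) (by
      simp only [rk, Sum.elim_inl, Sum.elim_inr]
      have := i.2
      have := j.2
      omega)
    rw [show (S.π (ι n * κ z)).1 = ((S.π (ι n * κ z) : Sp m F) : Matrix (I m) (I m) F) from rfl,
      hval, Matrix.fromBlocks_apply₂₁] at h1
    exact h1
  have hinv : (A.π n).1ᵀ * ((A.π n)⁻¹).1ᵀ = 1 := by
    rw [← Matrix.transpose_mul, ← Matrix.SpecialLinearGroup.coe_mul, inv_mul_cancel]
    simp
  have hDc : (Matrix.diagonal fun i => z i 1 0) = (0 : Matrix (Fin m) (Fin m) F) := by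
    have h1 : (A.π n).1ᵀ * (((A.π n)⁻¹).1ᵀ * (Matrix.diagonal fun i => z i 1 0)) = 0 := by
      rw [hll, mul_zero]
    rwa [← mul_assoc, hinv, one_mul] at h1
  have hz10 : ∀ i, z i 1 0 = 0 := by
    intro i
    have := congrFun (congrFun hDc i) i
    simpa using this
  have hdet : ∀ i, z i 0 0 * z i 1 1 - z i 0 1 * z i 1 0 = 1 := by
    intro i
    have := (z i).2
    rw [Matrix.det_fin_two] at this
    exact this
  have hzd : ∀ i, z i 0 1 = 0 ∧ z i 1 0 = 0 := by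
    intro i
    rcases hz i with h1 | h1
    · exact h1
    · exfalso
      have := hdet i
      rw [h1.1, hz10 i] at this
      simp at this
  have hz00 : ∀ i, z i 0 0 ≠ 0 := by
    intro i h0
    have := hdet i
    rw [h0, hz10 i] at this
    simp at this
  have hut : ∀ i j, j < i → (A.π n).1 i j = 0 := by
    intro i j hij
    have h1 := h (Sum.inl i) (Sum.inl j) (by
      simp only [rk, Sum.elim_inl]
      exact hij)
    rw [show (S.π (ι n * κ z)).1 = ((S.π (ι n * κ z) : Sp m F) : Matrix (I m) (I m) F) from rfl,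
      hval, Matrix.fromBlocks_apply₁₁, Matrix.mul_diagonal] at h1
    exact (mul_eq_zero.mp h1).resolve_right (hz00 j)
  have hnH : n ∈ A.H := Cfsg.Agent.Lib.Helper43StHubF.n_cox A hm n hn hut
  exact S.H.mul_mem (iota_H n hnH) (k_diag z hzd)

end Cfsg.Agent.Lib.Helper1SpCncox
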