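import Mathlib

/-!
Definitions for S2202 (finite groups in which the centralizer of every involution is abelian).
-/

set_option autoImplicit false

namespace Cfsg.Agent.Lib.Helper20AbCent

/-- centralizers of involutions are abelian (elementwise form). -/
def AC (G : Type*) [Group G] : Prop :=
  ∀ t : G, orderOf t = 2 → ∀ a b : G, a * t = t * a → b * t = t * b → a * b = b * a

/-- the subgroup of the elements commuting with every involution. -/
def NI (G : Type*) [Group G] : Subgroup G := Subgroup.centralizer {t : G | orderOf t = 2}

theorem mem_NI {G : Type*} [Group G] {g : G} :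
    g ∈ NI G ↔ ∀ t : G, orderOf t = 2 → g * t = t * g := by
  unfold NI
  rw [Subgroup.mem_centralizer_iff]
  constructor
  · intro h t ht
    exact (h t ht).symm
  · intro h t ht
    exact (h t ht).symm

theorem ac_of_isMulCommutative {G : Type*} [Group G]
    (h : ∀ t : G, orderOf t = 2 → IsMulCommutative ↥(Subgroup.centralizer ({t} : Set G))) : AC G := by
  intro t ht a b ha hb
  have h1 := (h t ht).is_comm.comm
    (⟨a, Subgroup.mem_centralizer_singleton_iff.2 ha⟩ : Subgroup.centralizer ({t} : Set G))
    ⟨b, Subgroup.mem_centralizer_singleton_iff.2 hb⟩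
  exact congrArg Subtype.val h1

end Cfsg.Agent.Lib.Helper20AbCent
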