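import Mathlib
import Cfsg.Agent.Lib.Helper20AbCent
import Cfsg.Agent.Lib.Helper26ElemCentB

/-!
S2202, basic layer: the subgroup `HH s = N(C(s))`, it is strongly embedded, and the dictionary between
points of `G ⧸ HH s` and involutions.
-/

set_option autoImplicit false

namespace Cfsg.Agent.Lib.Helper20AbCentA

open Cfsg.Agent.Lib.Helper20AbCent Cfsg.Agent.Lib.Helper26StrEmb Cfsg.Agent.Lib.Helper26ElemCentB

variable {G : Type*} [Group G]

theorem comm_iff (h : AC G) {s t : G} (hs : orderOf s = 2) (ht : orderOf t = 2)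
    (hst : s * t = t * s) (a : G) : a * s = s * a ↔ a * t = t * a :=
  ⟨fun ha => h s hs a t ha hst.symm, fun ha => h t ht a s ha hst⟩

theorem conj_comm {a b : G} (g : G) (hab : a * b = b * a) :
    (g * a * g⁻¹) * (g * b * g⁻¹) = (g * b * g⁻¹) * (g * a * g⁻¹) := by
  calc (g * a * g⁻¹) * (g * b * g⁻¹) = g * (a * b) * g⁻¹ := by group
    _ = g * (b * a) * g⁻¹ := by rw [hab]
    _ = _ := by group

theorem conj_comm_iff {a b : G} (g : G) :
    (g * a * g⁻¹) * (g * b * g⁻¹) = (g * b * g⁻¹) * (g * a * g⁻¹) ↔ a * b = b * a := by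
  refine ⟨fun hh => ?_, conj_comm g⟩
  have := conj_comm g⁻¹ hh
  simpa [mul_assoc] using this

/-- `N(C(s))`. -/
def HH (s : G) : Subgroup G := Subgroup.normalizer (Subgroup.centralizer ({s} : Set G) : Set G)

theorem mem_HH (h : AC G) {s : G} (hs : orderOf s = 2) (g : G) :
    g ∈ HH s ↔ (g * s * g⁻¹) * s = s * (g * s * g⁻¹) := by
  unfold HH
  rw [Subgroup.mem_normalizer_iff]
  constructor
  · intro hg
    have h1 := (hg s).1 (Subgroup.mem_centralizer_singleton_iff.2 rfl)
    exact Subgroup.mem_centralizer_singleton_iff.1 h1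
  · intro hg x
    have hs' : orderOf (g * s * g⁻¹) = 2 := by rw [orderOf_conj, hs]
    rw [Subgroup.mem_centralizer_singleton_iff, Subgroup.mem_centralizer_singleton_iff,
      comm_iff h hs hs' hg.symm (g * x * g⁻¹), conj_comm_iff]

/-- an involution of `N(C(s))` commutes with `s`. -/
theorem invol_comm_of_mem (h : AC G) {s j : G} (hs : orderOf s = 2) (hj : orderOf j = 2)
    (hjH : j ∈ HH s) : j * s = s * j := by
  rw [mem_HH h hs] at hjH
  have hji := inv_eq_self_of_orderOf hj
  have hj2 := sq_eq_one_of_orderOf hj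
  have hs2 := sq_eq_one_of_orderOf hs
  rw [hji] at hjH
  by_cases he : s * (j * s * j) = 1
  · have h1 : j * s * j = s := by
      have : s * (j * s * j) = s * s := by rw [he, hs2]
      exact mul_left_cancel this
    calc j * s = (j * s * j) * j := by rw [mul_assoc (j * s), hj2, mul_one]
      _ = s * j := by rw [h1]
  · have he2 : (s * (j * s * j)) * (s * (j * s * j)) = 1 := by
      calc (s * (j * s * j)) * (s * (j * s * j)) = s * ((j * s * j) * s) * (j * s * j) := by group
        _ = s * (s * (j * s * j)) * (j * s * j) := by rw [hjH]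
        _ = (s * s) * (j * (s * (j * j) * s) * j) := by group
        _ = 1 := by rw [hs2, hj2, mul_one, hs2, mul_one, hj2, one_mul]
    have heo := orderOf_eq_two_of he2 he
    have h1 : j * (s * (j * s * j)) = (s * (j * s * j)) * j := by
      calc j * (s * (j * s * j)) = (j * s * j) * s * j := by group
        _ = s * (j * s * j) * j := by rw [hjH]
    have h2 : s * (s * (j * s * j)) = (s * (j * s * j)) * s := by
      calc s * (s * (j * s * j)) = s * ((j * s * j) * s) := by rw [hjH]
        _ = _ := by group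
    exact h _ heo j s h1 h2

theorem self_mem_HH (s : G) : s ∈ HH s :=
  Subgroup.le_normalizer (Subgroup.mem_centralizer_singleton_iff.2 rfl)

theorem stronglyEmbedded [Finite G] (h : AC G) {s : G} (hs : orderOf s = 2)
    (hne : ∃ g : G, g ∉ HH s) : Cfsg.IsStronglyEmbedded (HH s) := by
  have : Fact (Nat.Prime 2) := ⟨Nat.prime_two⟩
  refine ⟨?_, ?_, ?_⟩
  · intro htop
    obtain ⟨g, hg⟩ := hne
    exact hg (by rw [htop]; trivial)
  · rw [even_iff_two_dvd]
    have := orderOf_dvd_natCard (⟨s, self_mem_HH s⟩ : HH s)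
    rwa [← Subgroup.orderOf_coe, hs] at this
  · intro g hg
    rw [← Nat.not_even_iff_odd, even_iff_two_dvd]
    intro hdvd
    obtain ⟨j, hj⟩ := exists_prime_orderOf_dvd_card' 2 hdvd
    have hj' : orderOf (j : G) = 2 := by rw [Subgroup.orderOf_coe, hj]
    have h1 : (j : G) * s = s * j := invol_comm_of_mem h hs hj' j.2.1
    have h2 : g⁻¹ * (j : G) * g ∈ HH s := (mem_map_conj _ g _).1 j.2.2
    have hj'' : orderOf (g⁻¹ * (j : G) * g) = 2 := by
      have := orderOf_conj (j : G) g⁻¹
      rw [inv_inv] at this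
      rw [this, hj']
    have h3 := invol_comm_of_mem h hs hj'' h2
    have h4 : (j : G) * (g * s * g⁻¹) = (g * s * g⁻¹) * j := by
      have := conj_comm g h3
      simpa [mul_assoc] using this
    apply hg
    rw [mem_HH h hs]
    exact h j hj' _ _ h4.symm h1.symm

section points

variable [Finite G] (h : AC G) {s : G} (hs : orderOf s = 2)
include h hs

/-- an involution fixes the point `g H` iff it commutes with `g s g⁻¹`. -/
theorem invol_fix_iff {u : G} (hu : orderOf u = 2) (g : G) :
    u • (QuotientGroup.mk g : G ⧸ HH s) = QuotientGroup.mk g ↔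
      u * (g * s * g⁻¹) = (g * s * g⁻¹) * u := by
  rw [smul_mk_eq_iff]
  have hu' : orderOf (g⁻¹ * u * g) = 2 := by
    have := orderOf_conj u g⁻¹
    rw [inv_inv] at this
    rw [this, hu]
  constructor
  · intro hm
    have := conj_comm g (invol_comm_of_mem h hs hu' hm)
    simpa [mul_assoc] using this
  · intro hc
    have h1 : (g⁻¹ * u * g) * s = s * (g⁻¹ * u * g) := by
      have := conj_comm g⁻¹ hc
      simpa [mul_assoc] using this
    exact Subgroup.le_normalizer (Subgroup.mem_centralizer_singleton_iff.2 h1)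

/-- two involutions with a common fixed point commute. -/
theorem comm_of_fix {u v : G} (hu : orderOf u = 2) (hv : orderOf v = 2) {x : G ⧸ HH s}
    (hux : u • x = x) (hvx : v • x = x) : u * v = v * u := by
  obtain ⟨g, rfl⟩ := QuotientGroup.mk_surjective x
  rw [invol_fix_iff h hs hu] at hux
  rw [invol_fix_iff h hs hv] at hvx
  exact h _ (by rw [orderOf_conj, hs]) u v hux hvx

end points

section emb

variable [Finite G] (h : AC G) {s : G} (hs : orderOf s = 2) (hH : Cfsg.IsStronglyEmbedded (HH s))
include h hs hH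

omit [Finite G] h hs in
/-- an element commuting with an involution fixes its point. -/
theorem cent_fix' {r c : G} {x : G ⧸ HH s} (hr : orderOf r = 2) (hrx : r • x = x)
    (hc : c * r = r * c) : c • x = x := by
  apply fixed_unique hH hr _ hrx
  rw [← mul_smul, ← hc, mul_smul, hrx]

/-- the dictionary: `a` fixes the point of the involution `r` iff `a r a⁻¹` commutes with `r`. -/
theorem fix_iff {r : G} {x : G ⧸ HH s} (hr : orderOf r = 2) (hrx : r • x = x) (a : G) :
    a • x = x ↔ (a * r * a⁻¹) * r = r * (a * r * a⁻¹) := by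
  have hr' : orderOf (a * r * a⁻¹) = 2 := by rw [orderOf_conj, hr]
  have hfix : (a * r * a⁻¹) • (a • x) = a • x := by
    rw [← mul_smul]
    simp [mul_smul, hrx]
  constructor
  · intro hax
    rw [hax] at hfix
    exact comm_of_fix h hs hr' hr hfix hrx
  · intro hc
    have h1 := cent_fix' hH hr hrx hc
    exact fixed_unique hH hr' hfix h1

/-- commuting involutions have the same point. -/
theorem fix_of_comm {r r' : G} {x : G ⧸ HH s} (hr : orderOf r = 2) (hrx : r • x = x)
    (hc : r' * r = r * r') : r' • x = x := cent_fix' hH hr hrx hc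

omit h hs in
/-- an element fixing two points has odd order. -/
theorem odd_of_fix_two {d : G} {x y : G ⧸ HH s} (hxy : x ≠ y) (hdx : d • x = x) (hdy : d • y = y) :
    Odd (orderOf d) := by
  rw [← Nat.not_even_iff_odd, even_iff_two_dvd]
  intro hdvd
  have h1 : orderOf (d ^ (orderOf d / 2)) = 2 :=
    orderOf_pow_orderOf_div (orderOf_pos d).ne' hdvd
  have hp : ∀ (n : ℕ) (z : G ⧸ HH s), d • z = z → d ^ n • z = z := by
    intro n z hz
    induction n with
    | zero => simp
    | succ n ih => rw [pow_succ, mul_smul, hz, ih]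
  exact hxy (fixed_unique hH h1 (hp _ x hdx) (hp _ y hdy))

omit h hs in
theorem exists_ne (x : G ⧸ HH s) : ∃ y : G ⧸ HH s, y ≠ x := by
  by_contra hcon
  push Not at hcon
  apply hH.1
  rw [eq_top_iff]
  intro g _
  have h1 := hcon (QuotientGroup.mk g)
  have h2 := hcon (QuotientGroup.mk 1)
  rw [← h2, eq_comm, QuotientGroup.eq] at h1
  simpa using h1

/-- the kernel of the action is `NI G`. -/
theorem mem_NI_of_triv {g : G} (hg : ∀ w : G ⧸ HH s, g • w = w) : g ∈ NI G := by
  rw [mem_NI]
  intro t ht
  obtain ⟨x, hx⟩ := exists_fixed hH ht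
  have hc := (fix_iff h hs hH ht hx g).1 (hg x)
  have ht2 := sq_eq_one_of_orderOf ht
  have hti := inv_eq_self_of_orderOf ht
  have hj2 : ((g * t * g⁻¹) * t) * ((g * t * g⁻¹) * t) = 1 := by
    calc ((g * t * g⁻¹) * t) * ((g * t * g⁻¹) * t)
        = (g * t * g⁻¹) * (t * (g * t * g⁻¹)) * t := by group
      _ = (g * t * g⁻¹) * ((g * t * g⁻¹) * t) * t := by rw [hc]
      _ = g * (t * t) * g⁻¹ * (t * t) := by group
      _ = 1 := by rw [ht2]; group
  by_cases hj1 : (g * t * g⁻¹) * t = 1
  · have : g * t * g⁻¹ = t := by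
      have h1 : (g * t * g⁻¹) * t = t * t := by rw [hj1, ht2]
      exact mul_right_cancel h1
    calc g * t = (g * t * g⁻¹) * g := by group
      _ = t * g := by rw [this]
  · exfalso
    have hjo := orderOf_eq_two_of hj2 hj1
    have hg' : ∀ w : G ⧸ HH s, g⁻¹ • w = w := fun w => by rw [inv_smul_eq_iff, hg]
    have hjt : ∀ w : G ⧸ HH s, ((g * t * g⁻¹) * t) • w = w := by
      intro w
      rw [mul_smul, mul_smul, mul_smul, hg', hg, ← mul_smul, ht2, one_smul]
    obtain ⟨y, hy⟩ := exists_ne hH x
    exact hy (fixed_unique hH hjo (hjt y) (hjt x))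

omit h hs in
theorem triv_of_mem_NI {g : G} (hg : g ∈ NI G) (w : G ⧸ HH s) : g • w = w := by
  obtain ⟨r, hr, hrw⟩ := exists_invol_fix hH w
  exact cent_fix' hH hr hrw ((mem_NI.1 hg) r hr)

end emb

section intrinsic

/-- `g` fixes the class of the involution `r`, i.e. `g r g⁻¹` commutes with `r`. -/
def Fx (g r : G) : Prop := (g * r * g⁻¹) * r = r * (g * r * g⁻¹)

/-- hypothesis (Q): an element of `C(r)` fixing a second class commutes with all involutions. -/
def QQ (G : Type*) [Group G] : Prop :=
  ∀ k r r' : G, orderOf r = 2 → orderOf r' = 2 → r * r' ≠ r' * r → k * r = r * k → Fx k r' →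
    k ∈ NI G

theorem Fx_iff_mem (h : AC G) {r : G} (hr : orderOf r = 2) (g : G) : Fx g r ↔ g ∈ HH r :=
  (mem_HH h hr g).symm

theorem Fx_of_comm {g r : G} (hg : g * r = r * g) : Fx g r := by
  have : g * r * g⁻¹ = r := by rw [hg]; group
  unfold Fx
  rw [this]

/-- non commuting involutions are conjugate under an involution. -/
theorem exists_conj [Finite G] (h : AC G) {r r' : G} (hr : orderOf r = 2) (hr' : orderOf r' = 2)
    (hne : r * r' ≠ r' * r) : ∃ u : G, orderOf u = 2 ∧ u * r * u⁻¹ = r' := by
  rcases dihedral_dichotomy hr hr' with ⟨i, hi, h1, h2⟩ | hw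
  · exact absurd (h i hi r r' h1.symm h2.symm) hne
  · exact hw

theorem odd_of_Fx_two [Finite G] (h : AC G) {k r r' : G} (hr : orderOf r = 2)
    (hr' : orderOf r' = 2) (hne : r * r' ≠ r' * r) (h1 : Fx k r) (h2 : Fx k r') :
    Odd (orderOf k) := by
  rw [← Nat.not_even_iff_odd, even_iff_two_dvd]
  intro hdvd
  have hj : orderOf (k ^ (orderOf k / 2)) = 2 :=
    orderOf_pow_orderOf_div (orderOf_pos k).ne' hdvd
  rw [Fx_iff_mem h hr] at h1
  rw [Fx_iff_mem h hr'] at h2
  have h3 := invol_comm_of_mem h hr hj (Subgroup.pow_mem _ h1 _)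
  have h4 := invol_comm_of_mem h hr' hj (Subgroup.pow_mem _ h2 _)
  exact hne (h _ hj r r' h3.symm h4.symm)

/-- if some class of involutions has two elements, all have. -/
theorem exists_comm_ne [Finite G] (h : AC G) {a b : G} (ha : orderOf a = 2) (hb : orderOf b = 2)
    (hab : a ≠ b) (hc : a * b = b * a) {r : G} (hr : orderOf r = 2) :
    ∃ r₁ : G, orderOf r₁ = 2 ∧ r₁ ≠ r ∧ r₁ * r = r * r₁ := by
  by_cases hra : a * r = r * a
  · by_cases h1 : a = r
    · exact ⟨b, hb, fun h2 => hab (h1.trans h2.symm), by rw [← h1]; exact hc.symm⟩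
    · exact ⟨a, ha, h1, hra⟩
  · obtain ⟨u, hu, hur⟩ := exists_conj h ha hr hra
    refine ⟨u * b * u⁻¹, by rw [orderOf_conj, hb], ?_, ?_⟩
    · intro h2
      apply hab
      rw [← hur] at h2
      have := congrArg (fun w => u⁻¹ * w * u) h2
      simpa [mul_assoc] using this.symm
    · rw [← hur]
      exact conj_comm u hc.symm

/-- an element of odd order whose square commutes with `r` commutes with `r`. -/
theorem comm_of_sq_comm {y r : G} (hy : Odd (orderOf y)) (h2 : (y * y) * r = r * (y * y)) :
    y * r = r * y := by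
  obtain ⟨m, hm⟩ := hy
  have h3 : y = (y * y) ^ (m + 1) := by
    rw [← pow_two, ← pow_mul, show 2 * (m + 1) = orderOf y + 1 by omega, pow_succ,
      pow_orderOf_eq_one, one_mul]
  have h4 : Commute (y * y) r := h2
  have h5 : Commute ((y * y) ^ (m + 1)) r := h4.pow_left _
  rw [← h3] at h5
  exact h5

/-- an element of odd order with trivial square is trivial. -/
theorem eq_one_of_odd_of_sq {y : G} (hy : Odd (orderOf y)) (h2 : y * y = 1) : y = 1 := by
  have h3 : orderOf y ∣ 2 := orderOf_dvd_of_pow_eq_one (by rw [pow_two, h2])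
  have h4 : orderOf y = 1 := by
    rcases (Nat.dvd_prime Nat.prime_two).1 h3 with h5 | h5
    · exact h5
    · rw [h5] at hy; exact absurd hy (by decide)
  exact orderOf_eq_one_iff.1 h4

end intrinsic

end Cfsg.Agent.Lib.Helper20AbCentA
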