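import Mathlib
import Cfsg.Agent.Lib.Helper20AbCentA

/-!
S2202, Zassenhaus layer: under hypothesis `QQ`, the action of `G` on `G ⧸ N(C(s))` has, modulo its kernel `NI G`,
abelian two point stabilisers inverted by swapping involutions, trivial three point stabilisers, and `C(r)` is
transitive on the points different from the point of `r`.
-/

set_option autoImplicit false

namespace Cfsg.Agent.Lib.Helper20AbCentD

open Cfsg.Agent.Lib.Helper20AbCent Cfsg.Agent.Lib.Helper20AbCentA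
open Cfsg.Agent.Lib.Helper26StrEmb Cfsg.Agent.Lib.Helper26ElemCentB

variable {G : Type*} [Group G]

/-- the permutation representation on the cosets of `N(C(s))`. -/
def P (s : G) : G →* Equiv.Perm (G ⧸ HH s) := MulAction.toPermHom G (G ⧸ HH s)

theorem P_apply (s g : G) (w : G ⧸ HH s) : P s g w = g • w := rfl

theorem P_inv_apply {s g : G} {w : G ⧸ HH s} (hg : g • w = w) : (P s g)⁻¹ w = w := by
  rw [Equiv.Perm.inv_eq_iff_eq, P_apply, hg]

variable [Finite G] (h : AC G) {s : G} (hs : orderOf s = 2)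
  (hH : Cfsg.IsStronglyEmbedded (HH s))
include h hs hH

theorem P_eq_one_iff (g : G) : P s g = 1 ↔ g ∈ NI G := by
  constructor
  · intro hg
    apply mem_NI_of_triv h hs hH
    intro w
    rw [← P_apply, hg]; rfl
  · intro hg
    ext w
    rw [P_apply, triv_of_mem_NI hH hg]; rfl

/-- the stabiliser of the point of `r` normalizes `C(r)`. -/
theorem norm_cent {r g c : G} {x : G ⧸ HH s} (hr : orderOf r = 2) (hrx : r • x = x)
    (hgx : g • x = x) (hc : c * r = r * c) : (g * c * g⁻¹) * r = r * (g * c * g⁻¹) := by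
  have h1 := (fix_iff h hs hH hr hrx g).1 hgx
  have hr' : orderOf (g * r * g⁻¹) = 2 := by rw [orderOf_conj, hr]
  rw [comm_iff h hr hr' h1.symm]
  exact conj_comm g hc

omit h hs in
theorem ne_of_points {r r' : G} {x y : G ⧸ HH s} (hr : orderOf r = 2) (hr' : orderOf r' = 2)
    (hrx : r • x = x) (hry : r' • y = y) (hxy : x ≠ y) : r * r' ≠ r' * r := by
  intro hc
  exact hxy (fixed_unique hH hr' (cent_fix' hH hr hrx hc.symm) hry)

variable (hQ : QQ G)
include hQ

theorem cent_triv {r c : G} {x y : G ⧸ HH s} (hr : orderOf r = 2) (hrx : r • x = x)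
    (hc : c * r = r * c) (hxy : x ≠ y) (hcy : c • y = y) : c ∈ NI G := by
  obtain ⟨r', hr', hry⟩ := exists_invol_fix hH y
  exact hQ c r r' hr hr' (ne_of_points hH hr hr' hrx hry hxy) hc
    ((fix_iff h hs hH hr' hry c).1 hcy)

theorem factor {x y : G ⧸ HH s} (hxy : x ≠ y) {r : G} (hr : orderOf r = 2) (hrx : r • x = x)
    {g : G} (hgx : g • x = x) :
    ∃ d c : G, d • x = x ∧ d • y = y ∧ c * r = r * c ∧ g = d * c := by
  obtain ⟨u, hu, hux, _⟩ := exists_swap' hH hxy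
  have ht : orderOf (g * r * g⁻¹) = 2 := by rw [orderOf_conj, hr]
  have hgx' : g⁻¹ • x = x := by rw [inv_smul_eq_iff, hgx]
  have htx : (g * r * g⁻¹) • x = x := by
    rw [mul_smul, mul_smul, hgx', hrx, hgx]
  obtain ⟨w, hw, h1, h2, h3⟩ := trans_invol hH hxy hu hux hr hrx ht htx
  have hcomm : ((w * u)⁻¹ * g) * r = r * ((w * u)⁻¹ * g) := by
    have : (w * u) * r = g * r * g⁻¹ * (w * u) := by
      rw [← h3]; group
    calc ((w * u)⁻¹ * g) * r = (w * u)⁻¹ * (g * r * g⁻¹) * g := by group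
      _ = (w * u)⁻¹ * (g * r * g⁻¹ * (w * u)) * (w * u)⁻¹ * g := by group
      _ = (w * u)⁻¹ * ((w * u) * r) * (w * u)⁻¹ * g := by rw [this]
      _ = r * ((w * u)⁻¹ * g) := by group
  exact ⟨w * u, (w * u)⁻¹ * g, h1, h2, hcomm, by group⟩

theorem invert {x y : G ⧸ HH s} (hxy : x ≠ y) {u d : G} (hu : orderOf u = 2) (hux : u • x = y)
    (hdx : d • x = x) (hdy : d • y = y) : P s u * P s d * (P s u)⁻¹ = (P s d)⁻¹ := by
  obtain ⟨r, hr, hrx⟩ := exists_invol_fix hH x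
  have ht : orderOf (d * r * d⁻¹) = 2 := by rw [orderOf_conj, hr]
  have hdx' : d⁻¹ • x = x := by rw [inv_smul_eq_iff, hdx]
  have htx : (d * r * d⁻¹) • x = x := by
    rw [mul_smul, mul_smul, hdx', hrx, hdx]
  obtain ⟨w, hw, h1, h2, h3⟩ := trans_invol hH hxy hu hux hr hrx ht htx
  have hcomm : ((w * u)⁻¹ * d) * r = r * ((w * u)⁻¹ * d) := by
    have : (w * u) * r = d * r * d⁻¹ * (w * u) := by
      rw [← h3]; group
    calc ((w * u)⁻¹ * d) * r = (w * u)⁻¹ * (d * r * d⁻¹) * d := by group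
      _ = (w * u)⁻¹ * (d * r * d⁻¹ * (w * u)) * (w * u)⁻¹ * d := by group
      _ = (w * u)⁻¹ * ((w * u) * r) * (w * u)⁻¹ * d := by rw [this]
      _ = r * ((w * u)⁻¹ * d) := by group
  have hfy : ((w * u)⁻¹ * d) • y = y := by
    rw [mul_smul, hdy, inv_smul_eq_iff, h2]
  have hk := (P_eq_one_iff h hs hH _).2 (cent_triv h hs hH hQ hr hrx hcomm hxy hfy)
  have hd : P s d = P s w * P s u := by
    rw [map_mul, map_inv, inv_mul_eq_one, map_mul] at hk
    exact hk.symm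
  have hu2 : P s u * P s u = 1 := by rw [← map_mul, sq_eq_one_of_orderOf hu, map_one]
  have hw2 : P s w * P s w = 1 := by rw [← map_mul, sq_eq_one_of_orderOf hw, map_one]
  have hui : (P s u)⁻¹ = P s u := inv_eq_of_mul_eq_one_left hu2
  have hwi : (P s w)⁻¹ = P s w := inv_eq_of_mul_eq_one_left hw2
  rw [hd, mul_inv_rev, hui, hwi]
  calc P s u * (P s w * P s u) * P s u = P s u * P s w * (P s u * P s u) := by group
    _ = P s u * P s w := by rw [hu2, mul_one]

theorem stab_comm {x y : G ⧸ HH s} (hxy : x ≠ y) {d e : G} (hdx : d • x = x) (hdy : d • y = y)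
    (hex : e • x = x) (hey : e • y = y) : P s d * P s e = P s e * P s d := by
  obtain ⟨u, hu, hux, _⟩ := exists_swap' hH hxy
  have h1 := invert h hs hH hQ hxy hu hux hdx hdy
  have h2 := invert h hs hH hQ hxy hu hux hex hey
  have h3 := invert h hs hH hQ hxy hu hux (d := d * e) (by rw [mul_smul, hex, hdx])
    (by rw [mul_smul, hey, hdy])
  have h4 : P s u * P s (d * e) * (P s u)⁻¹ =
      (P s u * P s d * (P s u)⁻¹) * (P s u * P s e * (P s u)⁻¹) := by rw [map_mul]; group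
  rw [h4, h1, h2, map_mul, mul_inv_rev] at h3
  have := congrArg (fun z => z⁻¹) h3
  simpa using this.symm

theorem three_fixed {x y z : G ⧸ HH s} (hxy : x ≠ y) (hxz : x ≠ z) (hyz : y ≠ z) {d : G}
    (hdx : d • x = x) (hdy : d • y = y) (hdz : d • z = z) : d ∈ NI G := by
  obtain ⟨u, hu, hux, huy⟩ := exists_swap' hH hxy
  obtain ⟨i, hi, hiy, hiz⟩ := exists_swap' hH hyz
  obtain ⟨i', hi', hi'x, hi'z⟩ := exists_swap' hH hxz
  have h1 := invert h hs hH hQ hxy hu hux hdx hdy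
  have h2 := invert h hs hH hQ hyz hi hiy hdy hdz
  have h3 := invert h hs hH hQ hxz hi' hi'x hdx hdz
  have hez : (i' * u * i) • z = z := by
    rw [mul_smul, mul_smul, hiz, huy, hi'x]
  have hed : P s (i' * u * i) * P s d * (P s (i' * u * i))⁻¹ = (P s d)⁻¹ := by
    rw [map_mul, map_mul]
    calc P s i' * P s u * P s i * P s d * (P s i' * P s u * P s i)⁻¹
        = P s i' * (P s u * (P s i * P s d * (P s i)⁻¹) * (P s u)⁻¹) * (P s i')⁻¹ := by group
      _ = P s i' * (P s u * P s d * (P s u)⁻¹)⁻¹ * (P s i')⁻¹ := by rw [h2]; group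
      _ = P s i' * P s d * (P s i')⁻¹ := by rw [h1, inv_inv]
      _ = (P s d)⁻¹ := h3
  obtain ⟨r, hr, hrz⟩ := exists_invol_fix hH z
  obtain ⟨d', t, hd'z, hd'x, htr, hfac⟩ := factor h hs hH hQ hxz.symm hr hrz hez
  have hcomm := stab_comm h hs hH hQ hxz.symm hd'z hd'x hdz hdx
  have htd : P s t * P s d * (P s t)⁻¹ = (P s d)⁻¹ := by
    have ht : P s t = (P s d')⁻¹ * P s (i' * u * i) := by rw [hfac, map_mul]; group
    calc P s t * P s d * (P s t)⁻¹
        = (P s d')⁻¹ * (P s (i' * u * i) * P s d * (P s (i' * u * i))⁻¹) * P s d' := by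
          rw [ht]; group
      _ = (P s d')⁻¹ * (P s d)⁻¹ * P s d' := by rw [hed]
      _ = (P s d * P s d')⁻¹ * P s d' := by group
      _ = (P s d' * P s d)⁻¹ * P s d' := by rw [hcomm]
      _ = (P s d)⁻¹ := by group
  have hti : t⁻¹ * r = r * t⁻¹ := by
    have : Commute t r := htr
    exact this.inv_left
  have hm1 := norm_cent h hs hH hr hrz hdz hti
  have hm : (t * (d * t⁻¹ * d⁻¹)) * r = r * (t * (d * t⁻¹ * d⁻¹)) := by
    have a1 : Commute t r := htr
    have a2 : Commute (d * t⁻¹ * d⁻¹) r := hm1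
    exact a1.mul_left a2
  have hPm : P s (t * (d * t⁻¹ * d⁻¹)) = (P s d)⁻¹ * (P s d)⁻¹ := by
    rw [← htd]
    simp only [map_mul, map_inv]
    rw [htd]
    calc P s t * (P s d * (P s t)⁻¹ * (P s d)⁻¹) = (P s t * P s d * (P s t)⁻¹) * (P s d)⁻¹ := by
          group
      _ = _ := by rw [htd]
  have hmx : (t * (d * t⁻¹ * d⁻¹)) • x = x := by
    rw [← P_apply, hPm, Equiv.Perm.mul_apply, P_inv_apply hdx, P_inv_apply hdx]
  have hmN := (P_eq_one_iff h hs hH _).2 (cent_triv h hs hH hQ hr hrz hm hxz.symm hmx)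
  rw [hPm] at hmN
  have hdd : d * d ∈ NI G := by
    rw [← P_eq_one_iff h hs hH, map_mul]
    have := congrArg (fun w => w⁻¹) hmN
    simpa using this
  have hodd := odd_of_fix_two hH hxy hdx hdy
  rw [mem_NI]
  intro j hj
  exact comm_of_sq_comm hodd ((mem_NI.1 hdd) j hj)

theorem comm_surj {x y : G ⧸ HH s} (hxy : x ≠ y) {r : G} (hr : orderOf r = 2) (hrx : r • x = x)
    {d : G} (hdx : d • x = x) (hdy : d • y = y) (hd : d ∉ NI G) (c₀ : G) (hc₀ : c₀ * r = r * c₀) :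
    ∃ c : G, c * r = r * c ∧ P s (c * d * c⁻¹ * d⁻¹) = P s c₀ := by
  have hmem : ∀ γ : {γ : Equiv.Perm (G ⧸ HH s) // ∃ c : G, c * r = r * c ∧ P s c = γ},
      ∃ c : G, c * r = r * c ∧ P s c = γ.1 * P s d * γ.1⁻¹ * (P s d)⁻¹ := by
    rintro ⟨γ, c, hc, rfl⟩
    refine ⟨c * (d * c⁻¹ * d⁻¹), ?_, ?_⟩
    · have a1 : Commute c r := hc
      have a2 : Commute (d * c⁻¹ * d⁻¹) r := norm_cent h hs hH hr hrx hdx a1.inv_left
      exact a1.mul_left a2
    · simp only [map_mul, map_inv]; group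
  let f : {γ : Equiv.Perm (G ⧸ HH s) // ∃ c : G, c * r = r * c ∧ P s c = γ} →
      {γ : Equiv.Perm (G ⧸ HH s) // ∃ c : G, c * r = r * c ∧ P s c = γ} :=
    fun γ => ⟨γ.1 * P s d * γ.1⁻¹ * (P s d)⁻¹, hmem γ⟩
  have hinj : Function.Injective f := by
    rintro ⟨γ₁, c₁, hc₁, rfl⟩ ⟨γ₂, c₂, hc₂, rfl⟩ h12
    have e1 : P s c₁ * P s d * (P s c₁)⁻¹ * (P s d)⁻¹ = P s c₂ * P s d * (P s c₂)⁻¹ * (P s d)⁻¹ :=
      congrArg Subtype.val h12
    have e2 : P s c₁ * P s d * (P s c₁)⁻¹ = P s c₂ * P s d * (P s c₂)⁻¹ := mul_right_cancel e1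
    have e3 : P s d * P s (c₂⁻¹ * c₁) = P s (c₂⁻¹ * c₁) * P s d := by
      rw [map_mul, map_inv]
      calc P s d * ((P s c₂)⁻¹ * P s c₁)
          = (P s c₂)⁻¹ * (P s c₂ * P s d * (P s c₂)⁻¹) * P s c₁ := by group
        _ = (P s c₂)⁻¹ * (P s c₁ * P s d * (P s c₁)⁻¹) * P s c₁ := by rw [e2]
        _ = _ := by group
    have hq : (c₂⁻¹ * c₁) * r = r * (c₂⁻¹ * c₁) := by
      have a1 : Commute c₁ r := hc₁
      have a2 : Commute c₂ r := hc₂
      exact a2.inv_left.mul_left a1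
    have hqx : (c₂⁻¹ * c₁) • x = x := cent_fix' hH hr hrx hq
    have hfix : d • ((c₂⁻¹ * c₁) • y) = (c₂⁻¹ * c₁) • y := by
      have := congrArg (fun σ => σ y) e3
      simp only [Equiv.Perm.mul_apply, P_apply, hdy] at this
      exact this
    have hqy : (c₂⁻¹ * c₁) • y = y := by
      by_contra hne
      apply hd
      refine three_fixed h hs hH hQ hxy ?_ (Ne.symm hne) hdx hdy hfix
      intro hx
      apply hxy
      have : (c₂⁻¹ * c₁) • x = (c₂⁻¹ * c₁) • y := by rw [hqx]; exact hx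
      exact smul_left_cancel _ this
    have hqN := (P_eq_one_iff h hs hH _).2 (cent_triv h hs hH hQ hr hrx hq hxy hqy)
    rw [map_mul, map_inv, inv_mul_eq_one] at hqN
    exact Subtype.ext hqN.symm
  have hsurj := Finite.surjective_of_injective hinj
  obtain ⟨⟨γ, c, hc, rfl⟩, hγ⟩ := hsurj ⟨P s c₀, c₀, hc₀, rfl⟩
  refine ⟨c, hc, ?_⟩
  have := congrArg Subtype.val hγ
  simp only [map_mul, map_inv]
  exact this

theorem exists_stab_not_mem {x y : G ⧸ HH s} (hxy : x ≠ y) {r r₁ : G} (hr : orderOf r = 2)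
    (hrx : r • x = x) (hr₁ : orderOf r₁ = 2) (hne : r₁ ≠ r) (hc : r₁ * r = r * r₁) :
    ∃ d : G, d • x = x ∧ d • y = y ∧ d * r * d⁻¹ = r₁ ∧ d ∉ NI G := by
  obtain ⟨u, hu, hux, _⟩ := exists_swap' hH hxy
  obtain ⟨w, _, h1, h2, h3⟩ := trans_invol hH hxy hu hux hr hrx hr₁ (cent_fix' hH hr hrx hc)
  refine ⟨w * u, h1, h2, h3, ?_⟩
  intro hN
  apply hne
  rw [← h3, (mem_NI.1 hN) r hr]
  group

theorem C_trans {x y z : G ⧸ HH s} (hy : y ≠ x) (hz : z ≠ x) {r r₁ : G} (hr : orderOf r = 2)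
    (hrx : r • x = x) (hr₁ : orderOf r₁ = 2) (hne : r₁ ≠ r) (hc : r₁ * r = r * r₁) :
    ∃ c : G, c * r = r * c ∧ c • y = z := by
  obtain ⟨d, hdx, hdy, _, hdN⟩ := exists_stab_not_mem h hs hH hQ hy.symm hr hrx hr₁ hne hc
  obtain ⟨e, t', hex, hez, ht', hfac⟩ := factor h hs hH hQ hz.symm hr hrx hdx
  have heN : e ∉ NI G := by
    intro heN
    apply hdN
    have a1 : Commute e r := (mem_NI.1 heN) r hr
    have a2 : Commute t' r := ht'
    have hdr : d * r = r * d := by rw [hfac]; exact a1.mul_left a2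
    exact cent_triv h hs hH hQ hr hrx hdr hy.symm hdy
  have htarget : (e * d⁻¹) * r = r * (e * d⁻¹) := by
    have heq : e * d⁻¹ = e * t'⁻¹ * e⁻¹ := by rw [hfac]; group
    rw [heq]
    have a2 : Commute t' r := ht'
    exact norm_cent h hs hH hr hrx hex a2.inv_left
  obtain ⟨c, hcr, hPc⟩ := comm_surj h hs hH hQ hy.symm hr hrx hdx hdy hdN _ htarget
  have hPe : P s (c * d * c⁻¹) = P s e := by
    have : P s (c * d * c⁻¹) * (P s d)⁻¹ = P s e * (P s d)⁻¹ := by
      rw [← map_inv, ← map_mul, ← map_mul]; exact hPc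
    exact mul_right_cancel this
  refine ⟨c, hcr, ?_⟩
  by_contra hcon
  have hfix : e • (c • y) = c • y := by
    rw [← P_apply s e, ← hPe, P_apply, ← mul_smul]
    simp [mul_smul, hdy]
  have hne2 : x ≠ c • y := by
    intro hx
    apply hy
    have h3 : c • x = c • y := by rw [cent_fix' hH hr hrx hcr]; exact hx
    exact (smul_left_cancel _ h3).symm
  exact heN (three_fixed h hs hH hQ hz.symm hne2 (Ne.symm hcon) hex hez hfix)

theorem second_fix {x : G ⧸ HH s} {r : G} (hr : orderOf r = 2) (hrx : r • x = x) {g : G}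
    (hgx : g • x = x) (hgr : g * r ≠ r * g) : ∃ z : G ⧸ HH s, z ≠ x ∧ g • z = z := by
  obtain ⟨w, hw⟩ := exists_ne hH x
  obtain ⟨d, c, hdx, hdw, hcr, hfac⟩ := factor h hs hH hQ hw.symm hr hrx hgx
  have hdN : d ∉ NI G := by
    intro hdN
    apply hgr
    have a1 : Commute d r := (mem_NI.1 hdN) r hr
    have a2 : Commute c r := hcr
    rw [hfac]; exact a1.mul_left a2
  obtain ⟨c', hc'r, hPc⟩ := comm_surj h hs hH hQ hw.symm hr hrx hdx hdw hdN _
    (norm_cent h hs hH hr hrx hdx hcr)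
  have hPg : P s (c' * d * c'⁻¹) = P s g := by
    have : P s (c' * d * c'⁻¹) * (P s d)⁻¹ = P s g * (P s d)⁻¹ := by
      rw [← map_inv, ← map_mul, ← map_mul, hPc, hfac]
    exact mul_right_cancel this
  refine ⟨c' • w, ?_, ?_⟩
  · intro hx
    apply hw
    have h3 : c' • w = c' • x := by rw [cent_fix' hH hr hrx hc'r]; exact hx
    exact smul_left_cancel _ h3
  · rw [← P_apply s g, ← hPg, P_apply, ← mul_smul]
    simp [mul_smul, hdw]

end Cfsg.Agent.Lib.Helper20AbCentD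

namespace Cfsg.Agent.Lib.Helper20AbCentD

open Cfsg.Agent.Lib.Helper20AbCent Cfsg.Agent.Lib.Helper20AbCentA
open Cfsg.Agent.Lib.Helper26StrEmb Cfsg.Agent.Lib.Helper26ElemCentB

/-- intrinsic form of `second_fix`. -/
theorem second {X : Type*} [Group X] [Finite X] (h : AC X) (hQ : QQ X)
    (hNN : ∃ a b : X, orderOf a = 2 ∧ orderOf b = 2 ∧ a * b ≠ b * a)
    {y r : X} (hr : orderOf r = 2) (hy : Fx y r) (hyr : y * r ≠ r * y) :
    ∃ r' : X, orderOf r' = 2 ∧ r * r' ≠ r' * r ∧ Fx y r' := by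
  have hne : ∃ g : X, g ∉ HH r := by
    by_contra hcon
    push Not at hcon
    obtain ⟨a, b, ha, hb, hab⟩ := hNN
    exact hab (h r hr a b (invol_comm_of_mem h hr ha (hcon a)) (invol_comm_of_mem h hr hb (hcon b)))
  have hH := stronglyEmbedded h hr hne
  obtain ⟨x, hx⟩ := exists_fixed hH hr
  have hyx : y • x = x := (fix_iff h hr hH hr hx y).2 hy
  obtain ⟨z, hz, hyz⟩ := second_fix h hr hH hQ hr hx hyx hyr
  obtain ⟨r', hr', hr'z⟩ := exists_invol_fix hH z
  exact ⟨r', hr', ne_of_points hH hr hr' hx hr'z hz.symm, (fix_iff h hr hH hr' hr'z y).1 hyz⟩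

/-- intrinsic form of `invert`. -/
theorem invert' {X : Type*} [Group X] [Finite X] (h : AC X) (hQ : QQ X)
    {u y r : X} (hu : orderOf u = 2) (hr : orderOf r = 2)
    (hur : r * (u * r * u⁻¹) ≠ (u * r * u⁻¹) * r) (hy : Fx y r) (hy' : Fx y (u * r * u⁻¹)) :
    (u * y * u⁻¹) * y ∈ NI X := by
  have hne : ∃ g : X, g ∉ HH r := ⟨u, fun hu' => hur ((mem_HH h hr u).1 hu').symm⟩
  have hH := stronglyEmbedded h hr hne
  obtain ⟨x, hx⟩ := exists_fixed hH hr
  have hr' : orderOf (u * r * u⁻¹) = 2 := by rw [orderOf_conj, hr]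
  have hx' : (u * r * u⁻¹) • (u • x) = u • x := by
    rw [← mul_smul]
    simp [mul_smul, hx]
  have hxx : x ≠ u • x := by
    intro hxx
    exact hur ((fix_iff h hr hH hr hx u).1 hxx.symm).symm
  have hyx : y • x = x := (fix_iff h hr hH hr hx y).2 hy
  have hyx' : y • (u • x) = u • x := (fix_iff h hr hH hr' hx' y).2 hy'
  have h1 := invert h hr hH hQ hxx hu rfl hyx hyx'
  rw [← P_eq_one_iff h hr hH]
  simp only [map_mul, map_inv]
  rw [h1, inv_mul_cancel]

end Cfsg.Agent.Lib.Helper20AbCentD
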