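import Mathlib
import Cfsg.Agent.Lib.Helper16FeitC
import Cfsg.Agent.Lib.Helper26Sh3

/-!
# Piece `feit` of project 20 (S2202)
-/

set_option autoImplicit false
universe u v

namespace Cfsg.Agent.Lib.Helper26AbCentFeit

open Cfsg.Agent.Lib.Helper61Feit Cfsg.Agent.Lib.Helper61Feit2

theorem core {G : Type u} {Γ Ω : Type v} [Group G] [Finite G] [MulAction G Ω] [Finite Ω]
    [Group Γ] [Finite Γ] [MulAction Γ Ω] [FaithfulSMul Γ Ω]
    (π : G →* Γ) (hπ : Function.Surjective π) (hact : ∀ (g : G) (x : Ω), π g • x = g • x)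
    (hinv : ∀ u : G, orderOf u = 2 → ∃! x : Ω, u • x = x)
    (a b : Ω) (hab : a ≠ b) (C : Subgroup G)
    (hCa : ∀ c ∈ C, c • a = a)
    (hCn : ∀ h : G, h • a = a → ∀ c ∈ C, h * c * h⁻¹ ∈ C)
    (hCab : ∀ c ∈ C, ∀ c' ∈ C, c * c' = c' * c)
    (hCtr : ∀ y z : Ω, y ≠ a → z ≠ a → ∃ c ∈ C, c • y = z)
    (htr : ∀ y : Ω, ∃ g : G, g • a = y)
    (h3 : ∀ (g : G) (x y z : Ω), x ≠ y → y ≠ z → x ≠ z → g • x = x → g • y = y → g • z = z →
      ∀ w : Ω, g • w = w)
    (s t : G) (hs : orderOf s = 2) (ht : orderOf t = 2) (hst : s ≠ t) (hsC : s ∈ C) (htC : t ∈ C)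
    (d₀ : G) (hd₀a : d₀ • a = a) (hd₀b : d₀ • b = b) (hd₀ : ∃ w : Ω, d₀ • w ≠ w)
    (J : Finset G) (hJ : ∀ d : G, d • a = a → d • b = b → d * s * d⁻¹ ∈ J)
    (hJinj : ∀ d d' : G, d • a = a → d • b = b → d' • a = a → d' • b = b →
      d * s * d⁻¹ = d' * s * d'⁻¹ → ∀ w : Ω, d • w = d' • w) :
    Nat.card Ω ≤ 2 * J.card + 2 := by
  classical
  have : Fact (Nat.Prime 2) := ⟨Nat.prime_two⟩
  have hπeq : ∀ g g' : G, (∀ w : Ω, g • w = g' • w) → π g = π g' := by
    intro g g' hg
    apply FaithfulSMul.eq_of_smul_eq_smul (α := Ω)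
    intro w
    rw [hact, hact, hg]
  have hπ1 : ∀ g : G, (∀ w : Ω, g • w = w) → π g = 1 := by
    intro g hg
    rw [← map_one π]
    exact hπeq g 1 (fun w => by rw [hg, one_smul])
  -- involutions fix only one point
  have hinv1 : ∀ u : G, orderOf u = 2 → ∀ x y : Ω, u • x = x → u • y = y → x = y := by
    intro u hu x y hx hy
    obtain ⟨z, -, hz⟩ := hinv u hu
    rw [hz x hx, hz y hy]
  -- semiregularity of `C`
  have hsemi : ∀ c ∈ C, ∀ y : Ω, y ≠ a → c • y = y → ∀ w : Ω, c • w = w := by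
    intro c hc y hy hcy w
    by_cases hw : w = a
    · rw [hw]; exact hCa c hc
    · obtain ⟨c', hc', hc'y⟩ := hCtr y w hy hw
      rw [← hc'y, ← mul_smul, hCab c hc c' hc', mul_smul, hcy]
  have h2t : MulAction.IsMultiplyPretransitive Γ Ω 2 := by
    rw [MulAction.is_two_pretransitive_iff]
    intro x y x' y' hxy hxy'
    obtain ⟨g₁, hg₁⟩ := htr x
    obtain ⟨g₂, hg₂⟩ := htr x'
    have h1 : g₁⁻¹ • y ≠ a := by
      intro h
      apply hxy
      rw [← hg₁, ← h, smul_inv_smul]
    have h2 : g₂⁻¹ • y' ≠ a := by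
      intro h
      apply hxy'
      rw [← hg₂, ← h, smul_inv_smul]
    obtain ⟨c, hc, hcy⟩ := hCtr _ _ h1 h2
    refine ⟨π (g₂ * c * g₁⁻¹), ?_, ?_⟩
    · rw [hact, mul_smul, mul_smul, ← hg₁, inv_smul_smul, hCa c hc, hg₂]
    · rw [hact, mul_smul, mul_smul, hcy, smul_inv_smul]
  have hs2 : s * s = 1 := by rw [← pow_two, ← hs]; exact pow_orderOf_eq_one s
  have ht2 : t * t = 1 := by rw [← pow_two, ← ht]; exact pow_orderOf_eq_one t
  have hstc : s * t = t * s := hCab s hsC t htC
  have hst2 : (s * t) * (s * t) = 1 := by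
    calc (s * t) * (s * t) = s * (t * s) * t := by group
      _ = s * (s * t) * t := by rw [hstc]
      _ = (s * s) * (t * t) := by group
      _ = 1 := by rw [hs2, ht2, one_mul]
  have hst1 : s * t ≠ 1 := by
    intro h
    apply hst
    have : s * t = s * s := by rw [h, hs2]
    exact (mul_left_cancel this).symm
  have hsto : orderOf (s * t) = 2 := orderOf_eq_prime (by rw [pow_two]; exact hst2) hst1
  have hZ : Cfsg.IsZassenhausGroup Γ Ω := by
    refine ⟨inferInstance, h2t, ?_, ?_, ?_⟩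
    · intro γ x y z hxy hyz hxz hx hy hz
      obtain ⟨g, rfl⟩ := hπ γ
      rw [hact] at hx hy hz
      exact hπ1 g (h3 g x y z hxy hyz hxz hx hy hz)
    · refine ⟨π d₀, ?_, a, b, hab, by rw [hact, hd₀a], by rw [hact, hd₀b]⟩
      intro h
      obtain ⟨w, hw⟩ := hd₀
      apply hw
      rw [← hact, h, one_smul]
    · intro N hN hNt
      by_contra hcon
      push Not at hcon
      -- `N` is regular
      have hreg : ∀ r ∈ N, ∀ x : Ω, r • x = x → r = 1 := by
        intro r hr x hx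
        have h1 : (⟨r, hr⟩ : N) ∈ MulAction.stabilizer N x := by
          rw [MulAction.mem_stabilizer_iff]
          exact hx
        rw [hcon x, Subgroup.mem_bot] at h1
        exact congrArg Subtype.val h1
      have hinvert : ∀ u : G, orderOf u = 2 → u • a = a → ∀ r ∈ N, π u * r * (π u)⁻¹ = r⁻¹ := by
        intro u hu hua
        have hu2 : u * u = 1 := by rw [← pow_two, ← hu]; exact pow_orderOf_eq_one u
        apply Cfsg.Agent.Lib.Helper26Sh3.inv_of_fpf
        · rw [← map_mul, hu2, map_one]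
        · intro r hr
          exact hN.conj_mem r hr _
        · intro r hr hfix
          apply hreg r hr a
          have h1 : π u * r = r * π u := by rwa [mul_inv_eq_iff_eq_mul] at hfix
          have h2 : u • (r • a) = r • a := by
            rw [← hact, ← mul_smul, h1, mul_smul, hact, hua]
          exact hinv1 u hu _ _ h2 hua
      have hall : ∀ r ∈ N, r = 1 := by
        intro r hr
        have e1 := hinvert s hs (hCa s hsC) r hr
        have e2 := hinvert t ht (hCa t htC) r hr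
        have e3 := hinvert (s * t) hsto (by rw [mul_smul, hCa t htC, hCa s hsC]) r hr
        have e4 : π (s * t) * r * (π (s * t))⁻¹ = r := by
          rw [map_mul]
          calc π s * π t * r * (π s * π t)⁻¹ = π s * (π t * r * (π t)⁻¹) * (π s)⁻¹ := by group
            _ = π s * r⁻¹ * (π s)⁻¹ := by rw [e2]
            _ = (π s * r * (π s)⁻¹)⁻¹ := by group
            _ = r := by rw [e1, inv_inv]
        have e5 : r⁻¹ = r := by rw [← e3, e4]
        rw [e5] at e1
        apply hreg r hr a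
        have h1 : π s * r = r * π s := by rwa [mul_inv_eq_iff_eq_mul] at e1
        have h2 : s • (r • a) = r • a := by
          rw [← hact, ← mul_smul, h1, mul_smul, hact, hCa s hsC]
        exact hinv1 s hs _ _ h2 (hCa s hsC)
      obtain ⟨r, hr⟩ := hNt.exists_smul_eq a b
      apply hab
      have h1 := hall r r.2
      have h2 : (r : Γ) • a = b := hr
      rw [h1, one_smul] at h2
      exact h2
  -- the kernel
  have hfix : ∀ u ∈ C.map π, u ≠ 1 → ∀ c : Ω, u • c = c → c = a := by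
    rintro _ ⟨c, hc, rfl⟩ hne x hx
    by_contra hxa
    rw [hact] at hx
    exact hne (hπ1 c (hsemi c hc x hxa hx))
  have hCa' : ∀ u ∈ C.map π, u • a = a := by
    rintro _ ⟨c, hc, rfl⟩
    rw [hact]; exact hCa c hc
  have hcard : Nat.card Ω = Nat.card (C.map π) + 1 := by
    rw [← Finite.card_option]
    symm
    apply Nat.card_congr
    refine Equiv.ofBijective (fun o : Option (C.map π) => o.elim a (fun γ => (γ : Γ) • b)) ⟨?_, ?_⟩
    · have hne : ∀ γ : C.map π, (γ : Γ) • b ≠ a := by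
        intro γ h
        apply hab
        have h1 : (γ : Γ) • b = (γ : Γ) • a := by rw [h, hCa' γ γ.2]
        exact (smul_left_cancel _ h1).symm
      intro o o' hoo
      cases o with
      | none =>
        cases o' with
        | none => rfl
        | some γ' => exact absurd hoo.symm (hne γ')
      | some γ =>
        cases o' with
        | none => exact absurd hoo (hne γ)
        | some γ' =>
          have h1 : (γ : Γ) • b = (γ' : Γ) • b := hoo
          have h2 : ((γ' : Γ)⁻¹ * (γ : Γ)) • b = b := by rw [mul_smul, h1, inv_smul_smul]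
          have h3 : (γ' : Γ)⁻¹ * (γ : Γ) = 1 := by
            by_contra hne1
            exact hab (hfix _ ((C.map π).mul_mem ((C.map π).inv_mem γ'.2) γ.2) hne1 b h2).symm
          have h4 : (γ : Γ) = (γ' : Γ) := (inv_mul_eq_one.1 h3).symm
          rw [Subtype.ext h4]
    · intro y
      by_cases hy : y = a
      · exact ⟨none, hy.symm⟩
      · obtain ⟨c, hc, hcy⟩ := hCtr b y hab.symm hy
        exact ⟨some ⟨π c, Subgroup.mem_map_of_mem π hc⟩, by
          show π c • b = y
          rw [hact, hcy]⟩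
  have hK : KData Γ Ω a (Nat.card (C.map π)) (C.map π) :=
    { le := by
        intro u hu
        rw [MulAction.mem_stabilizer_iff]
        exact hCa' u hu
      card := rfl
      fix := hfix }
  have hab' : ∀ x ∈ C.map π, ∀ y ∈ C.map π, x * y = y * x := by
    rintro _ ⟨c, hc, rfl⟩ _ ⟨c', hc', rfl⟩
    rw [← map_mul, ← map_mul, hCab c hc c' hc']
  have hodd : Odd (Nat.card (stab2 Γ a b)) := by
    rw [← Nat.not_even_iff_odd, even_iff_two_dvd]
    intro hdvd
    obtain ⟨γ, hγ⟩ := exists_prime_orderOf_dvd_card' (G := stab2 Γ a b) 2 hdvd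
    have hγ2 : orderOf (γ : Γ) = 2 := by rw [Subgroup.orderOf_coe, hγ]
    obtain ⟨hγa, hγb⟩ := mem_stab2.1 γ.2
    obtain ⟨g, hg⟩ := hπ (γ : Γ)
    have hkodd : Odd (Nat.card π.ker) := by
      rw [← Nat.not_even_iff_odd, even_iff_two_dvd]
      intro hd
      obtain ⟨u, hu⟩ := exists_prime_orderOf_dvd_card' (G := π.ker) 2 hd
      have hu2 : orderOf (u : G) = 2 := by rw [Subgroup.orderOf_coe, hu]
      have hu1 : π (u : G) = 1 := u.2
      apply hab
      apply hinv1 u hu2 a b <;> rw [← hact, hu1, one_smul]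
    obtain ⟨k, hk⟩ := hkodd
    have hγsq : (γ : Γ) ^ 2 = 1 := by rw [← hγ2]; exact pow_orderOf_eq_one _
    have hg2 : g ^ 2 ∈ π.ker := by rw [MonoidHom.mem_ker, map_pow, hg, hγsq]
    have hπu : π (g ^ (2 * k + 1)) = (γ : Γ) := by
      rw [map_pow, hg, pow_succ, pow_mul, hγsq, one_pow, one_mul]
    have hu2 : (g ^ (2 * k + 1)) ^ 2 = 1 := by
      rw [← pow_mul, mul_comm, pow_mul, ← hk]
      have h5 := pow_card_eq_one' (x := (⟨g ^ 2, hg2⟩ : π.ker))
      have h6 := congrArg Subtype.val h5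
      rw [Subgroup.coe_pow, Subgroup.coe_one] at h6
      exact h6
    have hu1 : g ^ (2 * k + 1) ≠ 1 := by
      intro h
      rw [h, map_one] at hπu
      rw [← hπu] at hγ2
      simp at hγ2
    have huo : orderOf (g ^ (2 * k + 1)) = 2 := orderOf_eq_prime hu2 hu1
    apply hab
    exact hinv1 _ huo a b (by rw [← hact, hπu]; exact hγa) (by rw [← hact, hπu]; exact hγb)
  have hfeit := Cfsg.Agent.Helper16Feit.feit_ab hcard hab (Nat.card Γ) Γ hZ hodd (C.map π) hK hab' rfl
  have hle : Nat.card (stab2 Γ a b) ≤ J.card := by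
    choose lift hlift using hπ
    have hla : ∀ δ : stab2 Γ a b, lift δ • a = a := fun δ => by
      rw [← hact, hlift]; exact (mem_stab2.1 δ.2).1
    have hlb : ∀ δ : stab2 Γ a b, lift δ • b = b := fun δ => by
      rw [← hact, hlift]; exact (mem_stab2.1 δ.2).2
    have hmem : ∀ δ : stab2 Γ a b, lift δ * s * (lift δ)⁻¹ ∈ J := fun δ => hJ _ (hla δ) (hlb δ)
    have h1 := Nat.card_le_card_of_injective
      (fun δ : stab2 Γ a b => (⟨lift δ * s * (lift δ)⁻¹, hmem δ⟩ : J)) (by
        intro δ δ' hδ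
        have h2 : lift δ * s * (lift δ)⁻¹ = lift δ' * s * (lift δ')⁻¹ := congrArg Subtype.val hδ
        have h3 := hπeq _ _ (hJinj _ _ (hla δ) (hlb δ) (hla δ') (hlb δ') h2)
        rw [hlift, hlift] at h3
        exact Subtype.ext h3)
    have h4 : Nat.card J = J.card := by rw [Nat.card_eq_fintype_card, Fintype.card_coe]
    rwa [h4] at h1
  omega

theorem feit_bound {G Ω : Type*} [Group G] [Finite G] [MulAction G Ω] [Finite Ω]
    (hinv : ∀ u : G, orderOf u = 2 → ∃! x : Ω, u • x = x)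
    (a b : Ω) (hab : a ≠ b) (C : Subgroup G)
    (hCa : ∀ c ∈ C, c • a = a)
    (hCn : ∀ h : G, h • a = a → ∀ c ∈ C, h * c * h⁻¹ ∈ C)
    (hCab : ∀ c ∈ C, ∀ c' ∈ C, c * c' = c' * c)
    (hCtr : ∀ y z : Ω, y ≠ a → z ≠ a → ∃ c ∈ C, c • y = z)
    (htr : ∀ y : Ω, ∃ g : G, g • a = y)
    (h3 : ∀ (g : G) (x y z : Ω), x ≠ y → y ≠ z → x ≠ z → g • x = x → g • y = y → g • z = z →
      ∀ w : Ω, g • w = w)
    (s t : G) (hs : orderOf s = 2) (ht : orderOf t = 2) (hst : s ≠ t) (hsC : s ∈ C) (htC : t ∈ C)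
    (d₀ : G) (hd₀a : d₀ • a = a) (hd₀b : d₀ • b = b) (hd₀ : ∃ w : Ω, d₀ • w ≠ w)
    (J : Finset G) (hJ : ∀ d : G, d • a = a → d • b = b → d * s * d⁻¹ ∈ J)
    (hJinj : ∀ d d' : G, d • a = a → d • b = b → d' • a = a → d' • b = b →
      d * s * d⁻¹ = d' * s * d'⁻¹ → ∀ w : Ω, d • w = d' • w) :
    Nat.card Ω ≤ 2 * J.card + 2 :=
  core (Γ := (MulAction.toPermHom G Ω).range) (MulAction.toPermHom G Ω).rangeRestrict
    (MulAction.toPermHom G Ω).rangeRestrict_surjective (fun _ _ => rfl)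
    hinv a b hab C hCa hCn hCab hCtr htr h3 s t hs ht hst hsC htC d₀ hd₀a hd₀b hd₀ J hJ hJinj

end Cfsg.Agent.Lib.Helper26AbCentFeit
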