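import Mathlib
import Cfsg.Agent.Lib.Helper20AbCentD
import Cfsg.Agent.Lib.Helper26AbCentFeit

/-!
S2202: under `QQ`, Feit's bound forces `C(r) = E_r × (NI ∩ C(r))`.
-/

set_option autoImplicit false

namespace Cfsg.Agent.Lib.Helper20AbCentE

open Cfsg.Agent.Lib.Helper20AbCent Cfsg.Agent.Lib.Helper20AbCentA Cfsg.Agent.Lib.Helper20AbCentD
open Cfsg.Agent.Lib.Helper26StrEmb Cfsg.Agent.Lib.Helper26ElemCentB

variable {G : Type*} [Group G]

theorem NI_sq (h : AC G) (hNN : ∃ a b : G, orderOf a = 2 ∧ orderOf b = 2 ∧ a * b ≠ b * a) {n : G}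
    (hn : n ∈ NI G) (h2 : n * n = 1) : n = 1 := by
  by_contra hne
  obtain ⟨a, b, ha, hb, hab⟩ := hNN
  exact hab (h n (orderOf_eq_two_of h2 hne) a b ((mem_NI.1 hn) a ha).symm ((mem_NI.1 hn) b hb).symm)

theorem hC_of_QQ [Finite G] (h : AC G) (hQ : QQ G)
    (hNC : ∃ a b : G, orderOf a = 2 ∧ orderOf b = 2 ∧ a ≠ b ∧ a * b = b * a)
    (hNN : ∃ a b : G, orderOf a = 2 ∧ orderOf b = 2 ∧ a * b ≠ b * a) :
    ∀ r c : G, orderOf r = 2 → c * r = r * c → ∃ e n : G, e * e = 1 ∧ n ∈ NI G ∧ c = e * n := by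
  classical
  intro r c hr hcr
  by_contra hcon
  push Not at hcon
  have hne : ∃ g : G, g ∉ HH r := by
    by_contra hcon'
    push Not at hcon'
    obtain ⟨a, b, ha, hb, hab⟩ := hNN
    exact hab (h r hr a b (invol_comm_of_mem h hr ha (hcon' a))
      (invol_comm_of_mem h hr hb (hcon' b)))
  have hH := stronglyEmbedded h hr hne
  obtain ⟨a, ha⟩ := exists_fixed hH hr
  obtain ⟨b, hb⟩ := exists_ne hH a
  obtain ⟨a₀, b₀, ha₀, hb₀, hab₀, hc₀⟩ := hNC
  obtain ⟨r₁, hr₁, hne₁, hc₁⟩ := exists_comm_ne h ha₀ hb₀ hab₀ hc₀ hr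
  obtain ⟨d₀, hd₀a, hd₀b, _, hd₀N⟩ := exists_stab_not_mem h hr hH hQ hb.symm hr ha hr₁ hne₁ hc₁
  let J : Finset G := (Set.toFinite {j : G | orderOf j = 2 ∧ j * r = r * j}).toFinset
  have hJmem : ∀ j : G, j ∈ J ↔ orderOf j = 2 ∧ j * r = r * j := by
    intro j
    simp [J]
  have hbound : Nat.card (G ⧸ HH r) ≤ 2 * J.card + 2 := by
    refine Cfsg.Agent.Lib.Helper26AbCentFeit.feit_bound ?_ a b hb.symm
      (Subgroup.centralizer ({r} : Set G)) ?_ ?_ ?_ ?_ ?_ ?_ r r₁ hr hr₁ hne₁.symm ?_ ?_
      d₀ hd₀a hd₀b ?_ J ?_ ?_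
    · intro u hu
      obtain ⟨x, hx⟩ := exists_fixed hH hu
      exact ⟨x, hx, fun y hy => fixed_unique hH hu hy hx⟩
    · intro c' hc'
      exact cent_fix' hH hr ha (Subgroup.mem_centralizer_singleton_iff.1 hc')
    · intro g hg c' hc'
      rw [Subgroup.mem_centralizer_singleton_iff] at hc' ⊢
      exact norm_cent h hr hH hr ha hg hc'
    · intro c₁ hc₁' c₂ hc₂'
      rw [Subgroup.mem_centralizer_singleton_iff] at hc₁' hc₂'
      exact h r hr c₁ c₂ hc₁' hc₂'
    · intro y z hy hz
      obtain ⟨c', hc', hyz⟩ := C_trans h hr hH hQ hy hz hr ha hr₁ hne₁ hc₁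
      exact ⟨c', Subgroup.mem_centralizer_singleton_iff.2 hc', hyz⟩
    · intro y
      exact MulAction.exists_smul_eq G a y
    · intro g x y z hxy hyz hxz hgx hgy hgz w
      exact triv_of_mem_NI hH (three_fixed h hr hH hQ hxy hxz hyz hgx hgy hgz) w
    · exact Subgroup.mem_centralizer_singleton_iff.2 rfl
    · exact Subgroup.mem_centralizer_singleton_iff.2 hc₁
    · by_contra hcon'
      push Not at hcon'
      exact hd₀N (mem_NI_of_triv h hr hH hcon')
    · intro d hda _
      rw [hJmem]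
      exact ⟨by rw [orderOf_conj, hr], (fix_iff h hr hH hr ha d).1 hda⟩
    · intro d d' hda hdb hd'a hd'b heq w
      have hq : (d'⁻¹ * d) * r = r * (d'⁻¹ * d) := by
        calc (d'⁻¹ * d) * r = d'⁻¹ * (d * r * d⁻¹) * d := by group
          _ = d'⁻¹ * (d' * r * d'⁻¹) * d := by rw [heq]
          _ = _ := by group
      have hqb : (d'⁻¹ * d) • b = b := by rw [mul_smul, hdb, inv_smul_eq_iff, hd'b]
      have hqN := cent_triv h hr hH hQ hr ha hq hb.symm hqb
      have := triv_of_mem_NI hH hqN w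
      rw [mul_smul, inv_smul_eq_iff] at this
      exact this
  -- the counting
  have h1J : (1 : G) ∉ J := by
    rw [hJmem]
    rintro ⟨h1, _⟩
    rw [orderOf_one] at h1
    omega
  have hE : ∀ e ∈ insert (1 : G) J, e * e = 1 ∧ e * r = r * e := by
    intro e he
    rw [Finset.mem_insert] at he
    rcases he with rfl | he
    · simp
    · rw [hJmem] at he
      exact ⟨sq_eq_one_of_orderOf he.1, he.2⟩
  have hEE : ∀ e ∈ insert (1 : G) J, ∀ e' ∈ insert (1 : G) J,
      (e'⁻¹ * e) * (e'⁻¹ * e) = 1 ∧ (e'⁻¹ * e) * r = r * (e'⁻¹ * e) := by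
    intro e he e' he'
    obtain ⟨h1, h2⟩ := hE e he
    obtain ⟨h3, h4⟩ := hE e' he'
    have hi : e'⁻¹ = e' := inv_eq_of_mul_eq_one_left h3
    have hc := h r hr e e' h2 h4
    rw [hi]
    refine ⟨?_, ?_⟩
    · calc (e' * e) * (e' * e) = e' * (e * e') * e := by group
        _ = e' * (e' * e) * e := by rw [hc]
        _ = (e' * e') * (e * e) := by group
        _ = 1 := by rw [h1, h3, one_mul]
    · have a1 : Commute e r := h2
      have a2 : Commute e' r := h4
      exact a2.mul_left a1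
  let ψ : Option (↥(insert (1 : G) J) × Bool) → G ⧸ HH r := fun o =>
    match o with
    | none => a
    | some (e, i) => (e.1 * (if i then c else 1)) • b
  have hci : ∀ i : Bool, (if i then c else 1) * r = r * (if i then c else 1) := by
    intro i
    cases i
    · simp
    · simpa using hcr
  have hψ : Function.Injective ψ := by
    have key : ∀ (e e' : ↥(insert (1 : G) J)) (i i' : Bool),
        (e.1 * (if i then c else 1)) • b = (e'.1 * (if i' then c else 1)) • b →
        e = e' ∧ i = i' := by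
      intro e e' i i' heq
      have hq : ((e'.1 * (if i' then c else 1))⁻¹ * (e.1 * (if i then c else 1))) ∈ NI G := by
        apply cent_triv h hr hH hQ hr ha _ hb.symm
        · rw [mul_smul, heq, inv_smul_smul]
        · have a1 : Commute e.1 r := (hE e.1 e.2).2
          have a2 : Commute e'.1 r := (hE e'.1 e'.2).2
          have a3 : Commute (if i then c else 1) r := hci i
          have a4 : Commute (if i' then c else 1) r := hci i'
          exact (a2.mul_left a4).inv_left.mul_left (a1.mul_left a3)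
      obtain ⟨g1, g2⟩ := hEE e.1 e.2 e'.1 e'.2
      obtain ⟨g3, g4⟩ := hEE e'.1 e'.2 e.1 e.2
      cases i <;> cases i'
      · simp only [Bool.false_eq_true, if_false, mul_one] at hq
        have := NI_sq h hNN hq g1
        rw [inv_mul_eq_one] at this
        exact ⟨Subtype.ext this.symm, rfl⟩
      · exfalso
        simp only [Bool.false_eq_true, if_false, if_true, mul_one] at hq
        refine hcon (e'.1⁻¹ * e.1) _ g1 (Subgroup.inv_mem _ hq) ?_
        group
      · exfalso
        simp only [Bool.false_eq_true, if_false, if_true, mul_one] at hq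
        refine hcon (e.1⁻¹ * e'.1) _ g3 hq ?_
        group
      · simp only [if_true] at hq
        have hcc : c⁻¹ * (e'.1⁻¹ * e.1) = (e'.1⁻¹ * e.1) * c⁻¹ := by
          have a1 : Commute c r := hcr
          exact h r hr _ _ a1.inv_left g2
        have hq' : (e'.1 * c)⁻¹ * (e.1 * c) = e'.1⁻¹ * e.1 := by
          calc (e'.1 * c)⁻¹ * (e.1 * c) = (c⁻¹ * (e'.1⁻¹ * e.1)) * c := by group
            _ = _ := by rw [hcc]; group
        rw [hq'] at hq
        have := NI_sq h hNN hq g1
        rw [inv_mul_eq_one] at this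
        exact ⟨Subtype.ext this.symm, rfl⟩
    have hane : ∀ (e : ↥(insert (1 : G) J)) (i : Bool),
        a ≠ (e.1 * (if i then c else 1)) • b := by
      intro e i heq
      apply hb
      have a1 : Commute e.1 r := (hE e.1 e.2).2
      have a3 : Commute (if i then c else 1) r := hci i
      have hfa := cent_fix' hH hr ha (a1.mul_left a3 : _ * r = r * _)
      rw [← hfa] at heq
      exact (smul_left_cancel _ heq).symm
    intro o o' hoo
    rcases o with _ | ⟨e, i⟩ <;> rcases o' with _ | ⟨e', i'⟩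
    · rfl
    · exact absurd hoo (hane e' i')
    · exact absurd hoo.symm (hane e i)
    · obtain ⟨h1, h2⟩ := key e e' i i' hoo
      rw [h1, h2]
  have hcard := Nat.card_le_card_of_injective ψ hψ
  rw [Finite.card_option, Nat.card_prod, Nat.card_eq_fintype_card, Fintype.card_coe,
    Finset.card_insert_of_notMem h1J, Nat.card_eq_fintype_card, Fintype.card_bool] at hcard
  omega

end Cfsg.Agent.Lib.Helper20AbCentE
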