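import Mathlib
import Cfsg.Agent.Lib.Helper20AbCentA

set_option autoImplicit false

namespace Cfsg.Agent.Lib.Helper32AbCentQq
open Cfsg.Agent.Lib.Helper20AbCent Cfsg.Agent.Lib.Helper20AbCentA

variable {G : Type*} [Group G]

theorem conj_cent {s g c : G} (hg : g ∈ HH s) (hc : c * s = s * c) :
    (g * c * g⁻¹) * s = s * (g * c * g⁻¹) := by
  unfold HH at hg
  rw [Subgroup.mem_normalizer_iff] at hg
  exact Subgroup.mem_centralizer_singleton_iff.1
    ((hg c).1 (Subgroup.mem_centralizer_singleton_iff.2 hc))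

theorem inv_comm {a s : G} (h : a * s = s * a) : a⁻¹ * s = s * a⁻¹ := by
  have : Commute a s := h
  exact this.inv_left.eq

theorem mul_comm' {a b s : G} (ha : a * s = s * a) (hb : b * s = s * b) :
    (a * b) * s = s * (a * b) := by
  have h1 : Commute a s := ha
  have h2 : Commute b s := hb
  exact (h1.mul_left h2).eq

/-- PIECE qq. -/
theorem qq_of_T [Finite G] (h : AC G)
    (hT : ∀ z s s' : G, Odd (orderOf z) → orderOf s = 2 → orderOf s' = 2 → z * s = s * z →
      z * s' = s' * z → s * s' ≠ s' * s → z ∈ NI G) : QQ G := by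
  intro x s s' hs hs' hnc hxs hxs'
  have hxHs : x ∈ HH s := (Fx_iff_mem h hs x).1 (Fx_of_comm hxs)
  have hxHs' : x ∈ HH s' := (Fx_iff_mem h hs' x).1 hxs'
  have hodd : ∀ g : G, g ∈ HH s → g ∈ HH s' → Odd (orderOf g) := fun g h1 h2 =>
    odd_of_Fx_two h hs hs' hnc ((Fx_iff_mem h hs g).2 h1) ((Fx_iff_mem h hs' g).2 h2)
  have hxodd : Odd (orderOf x) := hodd x hxHs hxHs'
  obtain ⟨v, hv, hvs⟩ := exists_conj h hs hs' hnc
  have hv2 : v * v = 1 := by rw [← pow_two, ← hv, pow_orderOf_eq_one]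
  have hvi : v⁻¹ = v := inv_eq_of_mul_eq_one_left hv2
  have hvs' : v * s' * v⁻¹ = s := by
    rw [← hvs, hvi]
    calc v * (v * s * v) * v = (v * v) * s * (v * v) := by group
      _ = s := by rw [hv2]; group
  set x' := v * x * v⁻¹ with hx'
  have hvx' : v * x' * v⁻¹ = x := by
    rw [hx', hvi]
    calc v * (v * x * v) * v = (v * v) * x * (v * v) := by group
      _ = x := by rw [hv2]; group
  have hx's' : x' * s' = s' * x' := by
    rw [hx', ← hvs]
    exact conj_comm v hxs
  have hx'Hs' : x' ∈ HH s' := (Fx_iff_mem h hs' x').1 (Fx_of_comm hx's')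
  have hx'Hs : x' ∈ HH s := by
    rw [← Fx_iff_mem h hs]
    unfold Fx at hxs' ⊢
    have h1 := conj_comm v hxs'
    rw [hvs'] at h1
    have h2 : v * (x * s' * x⁻¹) * v⁻¹ = x' * s * x'⁻¹ := by
      rw [hx', ← hvs']
      group
    rw [h2] at h1
    exact h1
  set n := x'⁻¹ * x⁻¹ * x' * x with hn
  have hns : n * s = s * n := by
    have h1 := conj_cent ((HH s).inv_mem hx'Hs) (inv_comm hxs)
    rw [inv_inv] at h1
    exact mul_comm' h1 hxs
  have hns' : n * s' = s' * n := by
    have h1 := conj_cent ((HH s').inv_mem hxHs') hx's'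
    rw [inv_inv] at h1
    have h2 := mul_comm' (inv_comm hx's') h1
    have h3 : x'⁻¹ * (x⁻¹ * x' * x) = n := by rw [hn]; group
    rw [h3] at h2
    exact h2
  have hnodd : Odd (orderOf n) := odd_of_Fx_two h hs hs' hnc (Fx_of_comm hns) (Fx_of_comm hns')
  have hnNI : n ∈ NI G := hT n s s' hnodd hs hs' hns hns' hnc
  have hnv : v * n * v⁻¹ = n := by
    rw [← (mem_NI.1 hnNI) v hv]; group
  have e1 : x' * x = x * x' * n := by rw [hn]; group
  have e2 : x * x' = x' * x * n := by
    have h1 : v * (x' * x) * v⁻¹ = v * (x * x' * n) * v⁻¹ := by rw [e1]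
    have h2 : v * (x' * x) * v⁻¹ = (v * x' * v⁻¹) * (v * x * v⁻¹) := by group
    have h3 : v * (x * x' * n) * v⁻¹ = (v * x * v⁻¹) * (v * x' * v⁻¹) * (v * n * v⁻¹) := by group
    rw [h2, h3, hvx', hnv] at h1
    exact h1
  have hn1 : n = 1 := by
    apply eq_one_of_odd_of_sq hnodd
    have h1 : x * x' = x * x' * (n * n) := by
      conv_lhs => rw [e2, e1]
      group
    exact (mul_eq_left.1 h1.symm)
  have hcomm : x' * x = x * x' := by rw [e1, hn1, mul_one]
  set z := x * x' with hz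
  have hzHs : z ∈ HH s := (HH s).mul_mem hxHs hx'Hs
  have hzHs' : z ∈ HH s' := (HH s').mul_mem hxHs' hx'Hs'
  have hzodd : Odd (orderOf z) := hodd z hzHs hzHs'
  have hzv : z * v = v * z := by
    have h1 : v * z * v⁻¹ = z := by
      have h2 : v * z * v⁻¹ = (v * x * v⁻¹) * (v * x' * v⁻¹) := by rw [hz]; group
      rw [h2, hvx', ← hx', hcomm]
    calc z * v = (v * z * v⁻¹) * v := by rw [h1]
      _ = v * z := by group
  by_cases hzNI : z ∈ NI G
  · have h1 : x * s' = s' * x := by
      have h2 : x = z * x'⁻¹ := by rw [hz]; group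
      rw [h2]
      exact mul_comm' ((mem_NI.1 hzNI) s' hs') (inv_comm hx's')
    exact hT x s s' hxodd hs hs' hxs h1 hnc
  · set v' := x * v * x⁻¹ with hv'
    have hv'o : orderOf v' = 2 := by rw [hv', Cfsg.Agent.Lib.Helper26StrEmb.orderOf_conj, hv]
    have hzx : x * z * x⁻¹ = z := by
      rw [hz]
      calc x * (x * x') * x⁻¹ = x * (x * x' * x⁻¹) := by group
        _ = x * (x' * x * x⁻¹) := by rw [hcomm]
        _ = x * x' := by group
    have hzv' : z * v' = v' * z := by
      have h1 := conj_comm x hzv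
      rw [hzx] at h1
      exact h1
    have hvv' : v * v' = v' * v := by
      by_contra hne
      exact hzNI (hT z v v' hzodd hv hv'o hzv hzv' hne)
    have hv'2 : v' * v' = 1 := by rw [← pow_two, ← hv'o, pow_orderOf_eq_one]
    have hj : v * v' = x' * x⁻¹ := by
      rw [hv', hx']
      calc v * (x * v * x⁻¹) = v * x * v * x⁻¹ := by group
        _ = v * x * v⁻¹ * x⁻¹ := by rw [hvi]
    have hj2 : (x' * x⁻¹) * (x' * x⁻¹) = 1 := by
      rw [← hj]
      calc v * v' * (v * v') = v * (v' * v) * v' := by group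
        _ = v * (v * v') * v' := by rw [hvv']
        _ = (v * v) * (v' * v') := by group
        _ = 1 := by rw [hv2, hv'2, one_mul]
    have hjodd : Odd (orderOf (x' * x⁻¹)) :=
      hodd _ ((HH s).mul_mem hx'Hs ((HH s).inv_mem hxHs))
        ((HH s').mul_mem hx'Hs' ((HH s').inv_mem hxHs'))
    have hj1 := eq_one_of_odd_of_sq hjodd hj2
    have hxx' : x' = x := mul_inv_eq_one.1 hj1
    rw [hxx'] at hx's'
    exact hT x s s' hxodd hs hs' hxs hx's' hnc

end Cfsg.Agent.Lib.Helper32AbCentQq
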