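import Mathlib
import Cfsg.Agent.Lib.Helper20AbCentA
import Cfsg.Agent.Lib.Helper32AbCentQq

set_option autoImplicit false

namespace Cfsg.Agent.Lib.Helper32AbCentOddCore
open Cfsg.Agent.Lib.Helper20AbCent Cfsg.Agent.Lib.Helper20AbCentA Cfsg.Agent.Lib.Helper32AbCentQq

variable {X : Type*} [Group X]

theorem NI_normal' : (NI X).Normal := ⟨fun n hn g => by
  rw [mem_NI] at hn ⊢
  intro t ht
  have h1 : orderOf (g⁻¹ * t * g⁻¹⁻¹) = 2 := by
    rw [Cfsg.Agent.Lib.Helper26StrEmb.orderOf_conj, ht]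
  have h2 := conj_comm g (hn _ h1)
  have h3 : g * (g⁻¹ * t * g⁻¹⁻¹) * g⁻¹ = t := by group
  rw [h3] at h2
  exact h2⟩

theorem qq_of_P [Finite X] (h : AC X)
    (hP : ∀ k r r' : X, Odd (orderOf k) → orderOf r = 2 → orderOf r' = 2 → k * r = r * k →
      k * r' = r' * k) : QQ X := by
  intro k r r' hr hr' hne hkr hk'
  have hodd := odd_of_Fx_two h hr hr' hne (Fx_of_comm hkr) hk'
  rw [mem_NI]
  intro t ht
  exact hP k r t hodd hr ht hkr

/-- in a group: `a b a⁻¹ = b⁻¹` with `a ^ (2m+1) = 1` forces `b * b = 1`. -/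
theorem sq_eq_one_of_inverted {Q : Type*} [Group Q] {a b : Q} (hab : a * b * a⁻¹ = b⁻¹) {m : ℕ}
    (ha : a ^ (2 * m + 1) = 1) : b * b = 1 := by
  have h1 : Commute (a ^ 2) b := by
    have h2 : a ^ 2 * b * (a ^ 2)⁻¹ = b := by
      calc a ^ 2 * b * (a ^ 2)⁻¹ = a * (a * b * a⁻¹) * a⁻¹ := by rw [pow_two]; group
        _ = a * b⁻¹ * a⁻¹ := by rw [hab]
        _ = (a * b * a⁻¹)⁻¹ := by group
        _ = b := by rw [hab, inv_inv]
    calc a ^ 2 * b = (a ^ 2 * b * (a ^ 2)⁻¹) * a ^ 2 := by group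
      _ = b * a ^ 2 := by rw [h2]
  have h3 : (a ^ 2) ^ (m + 1) = a := by
    rw [← pow_mul, show 2 * (m + 1) = (2 * m + 1) + 1 by ring, pow_succ, ha, one_mul]
  have h4 : Commute a b := h3 ▸ h1.pow_left (m + 1)
  have h5 : a * b * a⁻¹ = b := by rw [h4.eq]; group
  rw [h5] at hab
  calc b * b = b * b⁻¹ := by rw [← hab]
    _ = 1 := mul_inv_cancel b

theorem no_odd_transitive_core [Finite X] (h : AC X)
    (hsecond : ∀ {y r : X}, orderOf r = 2 → Fx y r → y * r ≠ r * y →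
      ∃ r' : X, orderOf r' = 2 ∧ r * r' ≠ r' * r ∧ Fx y r')
    (hinvert : ∀ {u y r : X}, orderOf u = 2 → orderOf r = 2 →
      r * (u * r * u⁻¹) ≠ (u * r * u⁻¹) * r → Fx y r → Fx y (u * r * u⁻¹) →
      (u * y * u⁻¹) * y ∈ NI X)
    (hP : ∀ k r r' : X, Odd (orderOf k) → orderOf r = 2 → orderOf r' = 2 → k * r = r * k →
      k * r' = r' * k)
    (D : Subgroup X) (hD : ∀ d ∈ D, Odd (orderOf d))
    (htr : ∀ a b : X, orderOf a = 2 → orderOf b = 2 → ∃ d ∈ D, d * a * d⁻¹ = b)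
    (s s₁ : X) (hs : orderOf s = 2) (hs₁ : orderOf s₁ = 2)
    (hne : s ≠ s₁) (hc : s * s₁ = s₁ * s) : False := by
  obtain ⟨y, hyD, hys⟩ := htr s s₁ hs hs₁
  have hyFx : Fx y s := by
    unfold Fx
    rw [hys]; exact hc.symm
  have hyns : y * s ≠ s * y := by
    intro hh
    apply hne
    rw [← hys, hh]; group
  obtain ⟨r', hr', hsr', hyr'⟩ := hsecond hs hyFx hyns
  obtain ⟨u, hu, hus⟩ := exists_conj h hs hr' hsr'
  obtain ⟨g, hgD, hgs⟩ := htr s r' hs hr'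
  set c := u⁻¹ * g with hcdef
  have hcs : c * s = s * c := by
    have h1 : c * s * c⁻¹ = s := by
      have h2 : c * s * c⁻¹ = u⁻¹ * (g * s * g⁻¹) * u := by rw [hcdef]; group
      rw [h2, hgs, ← hus]; group
    calc c * s = (c * s * c⁻¹) * c := by group
      _ = s * c := by rw [h1]
  have h1 : (y * c⁻¹ * y⁻¹) * s = s * (y * c⁻¹ * y⁻¹) := by
    rw [comm_iff h hs hs₁ hc, ← hys]
    exact conj_comm y (inv_comm hcs)
  set m := c * (y * c⁻¹ * y⁻¹) with hm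
  have hms : m * s = s * m := Helper32AbCentQq.mul_comm' hcs h1
  have hinv := hinvert (y := y) hu hs (by rw [hus]; exact hsr') hyFx (by rw [hus]; exact hyr')
  have hz : (g * y * g⁻¹) * y = (u * m * u⁻¹) * ((u * y * u⁻¹) * y) := by
    rw [hm, hcdef]; group
  have hzr' : ((g * y * g⁻¹) * y) * r' = r' * ((g * y * g⁻¹) * y) := by
    rw [hz]
    apply Helper32AbCentQq.mul_comm'
    · rw [← hus]
      exact conj_comm u hms
    · exact (mem_NI.1 hinv) r' hr'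
  have hzD : (g * y * g⁻¹) * y ∈ D := D.mul_mem (D.mul_mem (D.mul_mem hgD hyD) (D.inv_mem hgD)) hyD
  have hzNI : (g * y * g⁻¹) * y ∈ NI X := by
    rw [mem_NI]
    intro t ht
    exact hP _ r' t (hD _ hzD) hr' ht hzr'
  have : (NI X).Normal := NI_normal'
  obtain ⟨k, hk⟩ := hD g hgD
  have hq : (QuotientGroup.mk' (NI X) y) * (QuotientGroup.mk' (NI X) y) = 1 := by
    apply sq_eq_one_of_inverted (a := QuotientGroup.mk' (NI X) g) (m := k)
    · rw [eq_inv_iff_mul_eq_one, ← map_inv, ← map_mul, ← map_mul, ← map_mul]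
      exact (QuotientGroup.eq_one_iff _).2 hzNI
    · rw [← map_pow, ← hk, pow_orderOf_eq_one, map_one]
  rw [← map_mul] at hq
  have hyy : y * y ∈ NI X := (QuotientGroup.eq_one_iff _).1 hq
  exact hyns (comm_of_sq_comm (hD y hyD) ((mem_NI.1 hyy) s hs))

end Cfsg.Agent.Lib.Helper32AbCentOddCore
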