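import Mathlib
import Cfsg.Agent.Lib.Helper20AbCentA

/-! Project 20 (S2202), piece `caseA`, core (the piece `odd` enters as a hypothesis). -/

set_option autoImplicit false

namespace Cfsg.Agent.Lib.Helper90AbCentCaseACore

open Cfsg.Agent.Lib.Helper20AbCent Cfsg.Agent.Lib.Helper20AbCentA Cfsg.Agent.Lib.Helper26StrEmb

/-- the statement of the piece `odd` for the group `X`. -/
def NoOddTrans (X : Type*) [Group X] : Prop :=
  AC X →
    (∀ k r r' : X, Odd (orderOf k) → orderOf r = 2 → orderOf r' = 2 → k * r = r * k →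
      k * r' = r' * k) →
    ∀ D : Subgroup X, (∀ d ∈ D, Odd (orderOf d)) →
    (∀ a b : X, orderOf a = 2 → orderOf b = 2 → ∃ d ∈ D, d * a * d⁻¹ = b) →
    ∀ s s₁ s' : X, orderOf s = 2 → orderOf s₁ = 2 → orderOf s' = 2 →
    s ≠ s₁ → s * s₁ = s₁ * s → s * s' ≠ s' * s → False

/-- the induction hypothesis, in relative form. -/
def IHrel (G : Type*) [Group G] : Prop :=
  ∀ L : Subgroup G, L ≠ ⊤ →
    (∃ a ∈ L, ∃ b ∈ L, orderOf a = 2 ∧ orderOf b = 2 ∧ a ≠ b ∧ a * b = b * a) →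
    ∀ k ∈ L, ∀ r ∈ L, ∀ r' ∈ L, Odd (orderOf k) → orderOf r = 2 → orderOf r' = 2 →
      k * r = r * k → k * r' = r' * k

variable {G : Type*} [Group G]

/-- the odd order elements of `C(s)`. -/
def KK (h : AC G) {s : G} (hs : orderOf s = 2) : Subgroup G where
  carrier := {k | k * s = s * k ∧ Odd (orderOf k)}
  one_mem' := ⟨by simp, by simp⟩
  mul_mem' := by
    rintro a b ⟨ha, ha'⟩ ⟨hb, hb'⟩
    refine ⟨by rw [mul_assoc, hb, ← mul_assoc, ha, mul_assoc], ?_⟩
    have hab : Commute a b := h s hs a b ha hb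
    exact Odd.of_dvd_nat (ha'.mul hb') hab.orderOf_mul_dvd_mul_orderOf
  inv_mem' := by
    rintro a ⟨ha, ha'⟩
    refine ⟨?_, by rw [orderOf_inv]; exact ha'⟩
    have h1 : Commute a s := ha
    exact h1.inv_left

theorem mem_KK (h : AC G) {s : G} (hs : orderOf s = 2) (k : G) :
    k ∈ KK h hs ↔ k * s = s * k ∧ Odd (orderOf k) := Iff.rfl

/-- an element centralizing a subgroup normalizes it -/
theorem mem_normalizer_of_comm {K : Subgroup G} {x : G} (hx : ∀ k ∈ K, x * k = k * x) :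
    x ∈ Subgroup.normalizer (K : Set G) := by
  rw [Subgroup.mem_normalizer_iff]
  intro k
  constructor
  · intro hk
    rw [hx k hk, mul_inv_cancel_right]; exact hk
  · intro hk
    have h1 := hx _ hk
    have h2 : x * k * x⁻¹ = k := by
      have h3 : x * (x * k * x⁻¹) = x * k := by
        rw [h1]; group
      exact mul_left_cancel h3
    rw [← h2]; exact hk

theorem ac_subgroup (h : AC G) (M : Subgroup G) : AC M := by
  intro t ht a b ha hb
  apply Subtype.ext
  have ht' : orderOf (t : G) = 2 := by rw [Subgroup.orderOf_coe]; exact ht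
  exact h t ht' a b (congrArg Subtype.val ha) (congrArg Subtype.val hb)

theorem caseA_core [Finite G] (hodd : ∀ M : Subgroup G, NoOddTrans M) (h : AC G) (IH : IHrel G)
    (hNC : ∃ a b : G, orderOf a = 2 ∧ orderOf b = 2 ∧ a ≠ b ∧ a * b = b * a)
    {z s s' : G} (hz : Odd (orderOf z)) (hs : orderOf s = 2) (hs' : orderOf s' = 2)
    (hzs : z * s = s * z) (hzs' : z * s' = s' * z) (hnc : s * s' ≠ s' * s) : z ∈ NI G := by
  by_contra hzN
  obtain ⟨a₀, b₀, ha₀, hb₀, hab₀, hc₀⟩ := hNC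
  obtain ⟨s₁, hs₁, hs₁ne, hs₁c⟩ := exists_comm_ne h ha₀ hb₀ hab₀ hc₀ hs
  -- Step 1
  have hL : Subgroup.centralizer ({z} : Set G) ≠ ⊤ := by
    intro htop
    apply hzN
    rw [mem_NI]
    intro t _
    have : t ∈ Subgroup.centralizer ({z} : Set G) := htop ▸ Subgroup.mem_top t
    exact (Subgroup.mem_centralizer_singleton_iff.mp this).symm
  have hCL : ∀ c : G, c * s = s * c → c ∈ Subgroup.centralizer ({z} : Set G) := by
    intro c hc
    rw [Subgroup.mem_centralizer_singleton_iff]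
    exact h s hs c z hc hzs
  have hs'L : s' ∈ Subgroup.centralizer ({z} : Set G) := by
    rw [Subgroup.mem_centralizer_singleton_iff]; exact hzs'.symm
  have hK1 : ∀ k : G, k * s = s * k → Odd (orderOf k) → k * s' = s' * k := by
    intro k hk hko
    exact IH _ hL ⟨s, hCL s rfl, s₁, hCL s₁ hs₁c, hs, hs₁, hs₁ne.symm, hs₁c.symm⟩ k (hCL k hk) s
      (hCL s rfl) s' hs'L hko hs hs' hk
  -- Step 2
  set K := KK h hs with hKdef
  have hzK : z ∈ K := ⟨hzs, hz⟩
  set M := Subgroup.normalizer (K : Set G) with hMdef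
  have hM : M ≠ ⊤ := by
    intro htop
    apply hzN
    rw [mem_NI]
    intro t ht
    by_cases hts : s * t = t * s
    · exact h s hs z t hzs hts.symm
    · obtain ⟨u, hu, hut⟩ := exists_conj h hs ht hts
      have huM : u⁻¹ ∈ M := htop ▸ Subgroup.mem_top _
      have h1 : u⁻¹ * z * u⁻¹⁻¹ ∈ K := (Subgroup.mem_normalizer_iff.mp huM z).mp hzK
      have h2 : (u⁻¹ * z * u⁻¹⁻¹) * s = s * (u⁻¹ * z * u⁻¹⁻¹) := h1.1
      have h3 := conj_comm u h2
      rw [hut] at h3
      simpa [mul_assoc] using h3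
  -- Step 3
  have hcentM : ∀ x : G, (∀ k ∈ K, x * k = k * x) → x ∈ M := fun x hx => mem_normalizer_of_comm hx
  have hCM : ∀ c : G, c * s = s * c → c ∈ M := by
    intro c hc
    apply hcentM
    intro k hk
    exact h s hs c k hc hk.1
  have hsM : s ∈ M := hCM s rfl
  have hs₁M : s₁ ∈ M := hCM s₁ hs₁c
  have hs'M : s' ∈ M := by
    apply hcentM
    intro k hk
    exact (hK1 k hk.1 hk.2).symm
  have hKM : K ≤ M := Subgroup.le_normalizer
  have IHM := IH M hM ⟨s, hsM, s₁, hs₁M, hs, hs₁, hs₁ne.symm, hs₁c.symm⟩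
  -- Step 4
  have hKj : ∀ j ∈ M, orderOf j = 2 → ∀ k : G, k ∈ K ↔ (k * j = j * k ∧ Odd (orderOf k)) := by
    intro j hjM hj k
    have hsub : ∀ k ∈ K, k * j = j * k := fun k hk => IHM k (hKM hk) s hsM j hjM hk.2 hs hj hk.1
    constructor
    · intro hk
      exact ⟨hsub k hk, hk.2⟩
    · rintro ⟨hkj, hko⟩
      have hkM : k ∈ M := by
        apply hcentM
        intro k' hk'
        exact h j hj k k' hkj (hsub k' hk')
      exact ⟨IHM k hkM j hjM s hsM hko hj hs hkj, hko⟩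
  -- Step 5
  have hstar : ∀ g a : G, a ∈ M → orderOf a = 2 → g * a * g⁻¹ ∈ M → g ∈ M := by
    intro g a haM ha hbM
    have hb : orderOf (g * a * g⁻¹) = 2 := by rw [orderOf_conj, ha]
    rw [hMdef, Subgroup.mem_normalizer_iff]
    intro k
    rw [hKj a haM ha k, hKj _ hbM hb (g * k * g⁻¹), conj_comm_iff, orderOf_conj]
  -- Step 6
  obtain ⟨v, hv, hvM⟩ : ∃ v : G, orderOf v = 2 ∧ v ∉ M := by
    by_contra hcon
    push Not at hcon
    apply hzN
    rw [mem_NI]
    intro t ht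
    exact ((hKj t (hcon t ht) ht z).mp hzK).1
  -- Step 7
  have hnocomm : ∀ a a' : G, a ∈ M → orderOf a = 2 → a' ∉ M → a' * a ≠ a * a' := by
    intro a a' haM ha ha'M hc
    apply ha'M
    apply hcentM
    intro k hk
    exact h a ha a' k hc ((hKj a haM ha k).mp hk).1
  -- Step 8
  obtain ⟨u, hu, huv⟩ := exists_conj h hs hv (fun hc => hnocomm s v hsM hs hvM hc.symm)
  have huM : u ∉ M := by
    intro huM
    apply hvM
    rw [← huv]
    exact M.mul_mem (M.mul_mem huM hsM) (M.inv_mem huM)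
  have hui := inv_eq_self_of_orderOf hu
  have hu2 := sq_eq_one_of_orderOf hu
  let D : Subgroup M := (M.comap (MulAut.conj u).toMonoidHom).subgroupOf M
  have hmemD : ∀ d : M, d ∈ D ↔ u * (d : G) * u⁻¹ ∈ M := by
    intro d
    show (d : G) ∈ M.comap (MulAut.conj u).toMonoidHom ↔ _
    rw [Subgroup.mem_comap]
    rfl
  have hDodd : ∀ d ∈ D, Odd (orderOf d) := by
    intro d hd
    rw [← Nat.not_even_iff_odd, even_iff_two_dvd]
    intro hdvd
    have hj : orderOf (d ^ (orderOf d / 2)) = 2 :=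
      orderOf_pow_orderOf_div (orderOf_pos d).ne' hdvd
    have hjD : d ^ (orderOf d / 2) ∈ D := D.pow_mem hd _
    set j := d ^ (orderOf d / 2) with hjdef
    have hj' : orderOf (j : G) = 2 := by rw [Subgroup.orderOf_coe]; exact hj
    exact huM (hstar u j j.2 hj' ((hmemD j).mp hjD))
  have htr : ∀ a b : M, orderOf a = 2 → orderOf b = 2 → ∃ d ∈ D, d * a * d⁻¹ = b := by
    intro a b ha hb
    have ha' : orderOf (a : G) = 2 := by rw [Subgroup.orderOf_coe]; exact ha
    have hb' : orderOf (b : G) = 2 := by rw [Subgroup.orderOf_coe]; exact hb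
    have h1 : u * (a : G) * u⁻¹ ∉ M := fun hc => huM (hstar u a a.2 ha' hc)
    have h1o : orderOf (u * (a : G) * u⁻¹) = 2 := by rw [orderOf_conj, ha']
    obtain ⟨w, hw, hwb⟩ := exists_conj h h1o hb' (hnocomm b _ b.2 hb' h1)
    have hwi := inv_eq_self_of_orderOf hw
    have hd1 : (w * u) * (a : G) * (w * u)⁻¹ = b := by
      rw [← hwb]; group
    have hdM : w * u ∈ M := hstar (w * u) a a.2 ha' (by rw [hd1]; exact b.2)
    refine ⟨⟨w * u, hdM⟩, ?_, Subtype.ext hd1⟩
    rw [hmemD]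
    have h2 : u * (w * u) * u⁻¹ = (w * u)⁻¹ := by
      rw [mul_inv_rev, hui, hwi]
      calc u * (w * u) * u = u * w * (u * u) := by group
        _ = u * w := by rw [hu2, mul_one]
    show u * (w * u) * u⁻¹ ∈ M
    rw [h2]
    exact M.inv_mem hdM
  -- Step 9
  refine hodd M (ac_subgroup h M) ?_ D hDodd htr ⟨s, hsM⟩ ⟨s₁, hs₁M⟩ ⟨s', hs'M⟩ ?_ ?_ ?_ ?_ ?_ ?_
  · intro k r r' hk hr hr' hkr
    apply Subtype.ext
    rw [← Subgroup.orderOf_coe] at hk hr hr'
    exact IHM k k.2 r r.2 r' r'.2 hk hr hr' (congrArg Subtype.val hkr)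
  · rw [← Subgroup.orderOf_coe]; exact hs
  · rw [← Subgroup.orderOf_coe]; exact hs₁
  · rw [← Subgroup.orderOf_coe]; exact hs'
  · intro hc
    exact hs₁ne (congrArg Subtype.val hc).symm
  · exact Subtype.ext hs₁c.symm
  · intro hc
    exact hnc (congrArg Subtype.val hc)

end Cfsg.Agent.Lib.Helper90AbCentCaseACore
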