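import Mathlib
import Cfsg.Agent.Lib.Helper20AbCentE
import Cfsg.Agent.Lib.Helper90AbCentCaseACore
import Cfsg.Agent.Lib.Helper32AbCentQq
import Cfsg.Agent.Lib.Helper32AbCentOddCore

/-!
S2202: the induction.
-/

set_option autoImplicit false
universe u

namespace Cfsg.Agent.Lib.Helper20AbCentF

open Cfsg.Agent.Lib.Helper20AbCent Cfsg.Agent.Lib.Helper20AbCentA Cfsg.Agent.Lib.Helper20AbCentE
open Cfsg.Agent.Lib.Helper90AbCentCaseACore Cfsg.Agent.Lib.Helper32AbCentQq
open Cfsg.Agent.Lib.Helper32AbCentOddCore Cfsg.Agent.Lib.Helper20AbCentD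

theorem no_odd_transitive {X : Type*} [Group X] [Finite X] (h : AC X)
    (hP : ∀ k r r' : X, Odd (orderOf k) → orderOf r = 2 → orderOf r' = 2 → k * r = r * k →
      k * r' = r' * k)
    (D : Subgroup X) (hD : ∀ d ∈ D, Odd (orderOf d))
    (htr : ∀ a b : X, orderOf a = 2 → orderOf b = 2 → ∃ d ∈ D, d * a * d⁻¹ = b)
    (s s₁ s' : X) (hs : orderOf s = 2) (hs₁ : orderOf s₁ = 2) (hs' : orderOf s' = 2)
    (hne : s ≠ s₁) (hc : s * s₁ = s₁ * s) (hnc : s * s' ≠ s' * s) : False :=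
  no_odd_transitive_core h
    (fun hr hy hyr => second h (qq_of_P h hP) ⟨s, s', hs, hs', hnc⟩ hr hy hyr)
    (fun hu hr hur hy hy' => invert' h (qq_of_P h hP) hu hr hur hy hy') hP D hD htr s s₁ hs hs₁
    hne hc

theorem caseA {G : Type*} [Group G] [Finite G] (h : AC G) (IH : IHrel G)
    (hNC : ∃ a b : G, orderOf a = 2 ∧ orderOf b = 2 ∧ a ≠ b ∧ a * b = b * a)
    {z s s' : G} (hz : Odd (orderOf z)) (hs : orderOf s = 2) (hs' : orderOf s' = 2)
    (hzs : z * s = s * z) (hzs' : z * s' = s' * z) (hnc : s * s' ≠ s' * s) : z ∈ NI G :=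
  caseA_core (fun _ hAC hP D hD htr s s1 s2 a b c d e f =>
    no_odd_transitive hAC hP D hD htr s s1 s2 a b c d e f) h IH hNC hz hs hs' hzs hzs' hnc

/-- odd order elements of involution centralizers commute with all involutions. -/
def P1 (X : Type*) [Group X] : Prop :=
  (∃ a b : X, orderOf a = 2 ∧ orderOf b = 2 ∧ a ≠ b ∧ a * b = b * a) →
    ∀ k r r' : X, Odd (orderOf k) → orderOf r = 2 → orderOf r' = 2 → k * r = r * k →
      k * r' = r' * k

theorem ihrel_of {G : Type*} [Group G] (hP : ∀ L : Subgroup G, L ≠ ⊤ → P1 ↥L) : IHrel G := by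
  intro L hL hNC k hk r hr r' hr' hko hro hro' hkr
  obtain ⟨a, ha, b, hb, hao, hbo, hab, hc⟩ := hNC
  have := hP L hL ⟨⟨a, ha⟩, ⟨b, hb⟩, by rw [← Subgroup.orderOf_coe]; exact hao,
    by rw [← Subgroup.orderOf_coe]; exact hbo, fun h => hab (congrArg Subtype.val h),
    Subtype.ext hc⟩ ⟨k, hk⟩ ⟨r, hr⟩ ⟨r', hr'⟩ (by rw [← Subgroup.orderOf_coe]; exact hko)
    (by rw [← Subgroup.orderOf_coe]; exact hro) (by rw [← Subgroup.orderOf_coe]; exact hro')
    (Subtype.ext hkr)
  exact congrArg Subtype.val this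

theorem step {G : Type*} [Group G] [Finite G] (h : AC G) (IH : IHrel G)
    (hNC : ∃ a b : G, orderOf a = 2 ∧ orderOf b = 2 ∧ a ≠ b ∧ a * b = b * a)
    (hNN : ∃ a b : G, orderOf a = 2 ∧ orderOf b = 2 ∧ a * b ≠ b * a) :
    ∀ r c : G, orderOf r = 2 → c * r = r * c → ∃ e n : G, e * e = 1 ∧ n ∈ NI G ∧ c = e * n :=
  hC_of_QQ h (qq_of_T h (fun _ _ _ hz hs hs' h1 h2 h3 => caseA h IH hNC hz hs hs' h1 h2 h3)) hNC hNN

theorem P1_all : ∀ (n : ℕ) (X : Type u) [Group X] [Finite X], Nat.card X = n → AC X → P1 X := by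
  intro n
  induction n using Nat.strong_induction_on with
  | _ n ih =>
    intro X _ _ hn h hNC k r r' hk hr hr' hkr
    by_cases hrr : r * r' = r' * r
    · exact (comm_iff h hr hr' hrr k).1 hkr
    · have IH : IHrel X := by
        apply ihrel_of
        intro L hL
        have hlt : Nat.card ↥L < n := by
          rw [← hn]
          refine lt_of_le_of_ne (Subgroup.card_le_card_group L) ?_
          intro he
          exact hL (Subgroup.eq_top_of_card_eq L he)
        exact ih _ hlt ↥L rfl (ac_subgroup h L)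
      obtain ⟨e, m, he, hm, hkem⟩ := step h IH hNC ⟨r, r', hr, hr', hrr⟩ r k hr hkr
      have hem : m * e = e * m := by
        by_cases he1 : e = 1
        · rw [he1]; simp
        · exact (mem_NI.1 hm) e (Cfsg.Agent.Lib.Helper26StrEmb.orderOf_eq_two_of he he1)
      have hkk : k * k = m * m := by
        calc k * k = e * (m * e) * m := by rw [hkem]; group
          _ = (e * e) * (m * m) := by rw [hem]; group
          _ = m * m := by rw [he, one_mul]
      apply comm_of_sq_comm hk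
      rw [hkk]
      exact (mem_NI.1 (Subgroup.mul_mem _ hm hm)) r' hr'

theorem hC_all {G : Type u} [Group G] [Finite G] (h : AC G)
    (hNC : ∃ a b : G, orderOf a = 2 ∧ orderOf b = 2 ∧ a ≠ b ∧ a * b = b * a)
    (hNN : ∃ a b : G, orderOf a = 2 ∧ orderOf b = 2 ∧ a * b ≠ b * a) :
    ∀ r c : G, orderOf r = 2 → c * r = r * c → ∃ e n : G, e * e = 1 ∧ n ∈ NI G ∧ c = e * n :=
  step h (ihrel_of fun L _ => P1_all _ ↥L rfl (ac_subgroup h L)) hNC hNN

end Cfsg.Agent.Lib.Helper20AbCentF
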