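import Mathlib
import Cfsg.Prelude.Def_Blocks
import Cfsg.Agent.Lib.Helper20Major
import Cfsg.Agent.Lib.Helper80Transport

set_option autoImplicit false
set_option linter.unusedSectionVars false
set_option linter.unusedVariables false

namespace Cfsg.Agent.Lib.Helper20Tower

open Cfsg
open Cfsg.Agent.Lib.Helper4Char Cfsg.Agent.Lib.Helper4Char2 Cfsg.Agent.Lib.Helper20Local
open Cfsg.Agent.Lib.Helper20Center Cfsg.Agent.Lib.Helper20Block Cfsg.Agent.Lib.Helper20Induced
open Cfsg.Agent.Lib.Helper20Avg Cfsg.Agent.Lib.Helper20Defect Cfsg.Agent.Lib.Helper87Sylow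
open Cfsg.Agent.Lib.Helper20Syl Cfsg.Agent.Lib.Helper20DefCard Cfsg.Agent.Lib.Helper20Height
open Cfsg.Agent.Lib.Helper20Conj Cfsg.Agent.Lib.Helper20BrMap Cfsg.Agent.Lib.Helper20Ideal
open Cfsg.Agent.Lib.Helper20ModHom Cfsg.Agent.Lib.Helper20Brauer Cfsg.Agent.Lib.Helper20First
open Cfsg.Agent.Lib.Helper20Sub Cfsg.Agent.Lib.Helper20Sub2 Cfsg.Agent.Lib.Helper20Major
open Cfsg.Agent.Lib.Helper80Transport Cfsg.Agent.Lib.Helper82Quot

variable {G : Type*} [Group G] [Fintype G] {M : Ideal Cfsg.AlgInt} {p : ℕ} [Fact p.Prime]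

section Abstract

variable {K K' : Type*} [Group K] [Group K'] [Fintype K] [Fintype K'] (σ : K ≃* K')

theorem om_irrCongr (ξ : IrrCharacter K) (a : K → ℂ) :
    om ((irrCongr σ ξ : IrrCharacter K') : K' → ℂ) (a ∘ σ.symm) = om (ξ : K → ℂ) a := by
  unfold om
  rw [irrCongr_apply, map_one]
  congr 1
  refine Fintype.sum_equiv σ.symm.toEquiv _ _ (fun x => ?_)
  rw [irrCongr_apply]
  rfl

end Abstract

variable {K H : Subgroup G} (hKH : K ≤ H)

/-- a block of `K ≤ H`, seen as a block of the subgroup `K.subgroupOf H` of the group `H`. -/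
noncomputable def down (e : Set (IrrCharacter K)) : Set (IrrCharacter (K.subgroupOf H)) :=
  mapBlk (Subgroup.subgroupOfEquivOfLe hKH).symm e

theorem isPBlock_down {e : Set (IrrCharacter K)} (he : IsPBlock M e) :
    IsPBlock M (down hKH e) := isPBlock_mapBlk _ he

/-- transitivity of block induction. -/
theorem induced_trans (hM : M.IsPrime) [Fintype K] [Fintype H] [Fintype (K.subgroupOf H)]
    {e : Set (IrrCharacter K)} {f : Set (IrrCharacter H)} {B : Set (IrrCharacter G)}
    (he : IsPBlock M e) (h1 : IsInducedBlock M (K.subgroupOf H) (down hKH e) f)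
    (h2 : IsInducedBlock M H f B) : IsInducedBlock M K e B := by
  refine ⟨he, h2.2.1, fun ξ hξ χ hχ g => ?_⟩
  obtain ⟨φ, hφ⟩ := IsPBlock.nonempty hM h2.1
  have ha := isSC_classInd (M := M) hM g
  have hξ' : irrCongr (Subgroup.subgroupOfEquivOfLe hKH).symm ξ ∈ down hKH e :=
    (mem_mapBlk _).mpr hξ
  have A1 := isInducedBlock_om (K.subgroupOf H) hM h1 hξ' hφ (res_isSC H ha)
  have A2 := isInducedBlock_om H hM h2 hφ hχ ha
  have e1 : res (K.subgroupOf H) (res H (classInd g))
      = (res K (classInd g)) ∘ (Subgroup.subgroupOfEquivOfLe hKH).symm.symm := by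
    funext x
    rfl
  rw [e1, om_irrCongr] at A1
  rw [inducedCentralChar_eq, ← om_classInd (IsIrrCharacter.isClassFunction χ.2)]
  have := liAdd hM A1 A2
  rwa [sub_add_sub_cancel] at this

end Cfsg.Agent.Lib.Helper20Tower
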