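import Mathlib
import Cfsg.Prelude.Def_Blocks
import Cfsg.Agent.Lib.Helper21FR
import Cfsg.Agent.Lib.Helper81Defect
import Cfsg.Agent.S0908

set_option autoImplicit false
set_option linter.unusedSectionVars false

/-! Fong–Reynolds: heights and defect groups. -/

namespace Cfsg.Agent.Lib.Helper21FR2

open Cfsg
open Cfsg.Agent.Lib.Helper81Local Cfsg.Agent.Lib.Helper81Base Cfsg.Agent.Lib.Helper81BB
  Cfsg.Agent.Lib.Helper81Block Cfsg.Agent.Lib.Helper81Defect
  Cfsg.Agent.Lib.Helper19Ind Cfsg.Agent.Lib.Helper21Cover Cfsg.Agent.Lib.Helper21FR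

variable {G : Type*} [Group G] [Fintype G] {T : Subgroup G} [Fintype T] {M : Ideal AlgInt} {p : ℕ}

theorem charDegree_ind {ψ : IrrCharacter T} {χ : IrrCharacter G}
    (e : (χ : G → ℂ) = indFun T (ψ : T → ℂ)) :
    charDegree (χ : G → ℂ) = T.index * charDegree (ψ : T → ℂ) := by
  have h1 := charDegree_eq χ
  have h2 : (χ : G → ℂ) 1 = (T.index : ℂ) * (ψ : T → ℂ) 1 := by
    rw [e, Helper82Mult.indFun_one]
  rw [h2, ← charDegree_eq ψ] at h1
  exact_mod_cast h1

theorem factorization_ind {ψ : IrrCharacter T} {χ : IrrCharacter G}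
    (e : (χ : G → ℂ) = indFun T (ψ : T → ℂ)) :
    (charDegree (χ : G → ℂ)).factorization p
      = T.index.factorization p + (charDegree (ψ : T → ℂ)).factorization p := by
  rw [charDegree_ind e, Nat.factorization_mul Subgroup.index_ne_zero_of_finite
    (charDegree_pos ψ).ne']
  rfl

/-- if `B` consists of the characters induced from `B'`, the minimal valuations differ by the
valuation of the index. -/
theorem minVal_ind {B' : Set (IrrCharacter T)} {B : Set (IrrCharacter G)} (hne : ∃ ψ, ψ ∈ B')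
    (h1 : ∀ χ ∈ B, ∃ ψ ∈ B', (χ : G → ℂ) = indFun T (ψ : T → ℂ))
    (h2 : ∀ ψ ∈ B', ∃ χ ∈ B, (χ : G → ℂ) = indFun T (ψ : T → ℂ)) :
    minVal p B = T.index.factorization p + minVal p B' := by
  apply le_antisymm
  · obtain ⟨ψ, hψ, hm⟩ := exists_minVal (p := p) hne
    obtain ⟨χ, hχ, e⟩ := h2 ψ hψ
    rw [← hm, ← factorization_ind e]
    exact minVal_le hχ
  · obtain ⟨ψ₀, hψ₀⟩ := hne
    obtain ⟨χ₀, hχ₀, _⟩ := h2 ψ₀ hψ₀
    obtain ⟨χ, hχ, hm⟩ := exists_minVal (p := p) ⟨χ₀, hχ₀⟩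
    obtain ⟨ψ, hψ, e⟩ := h1 χ hχ
    rw [← hm, factorization_ind e]
    exact Nat.add_le_add_left (minVal_le hψ) _

theorem blockHeight_ind {B' : Set (IrrCharacter T)} {B : Set (IrrCharacter G)} (hne : ∃ ψ, ψ ∈ B')
    (h1 : ∀ χ ∈ B, ∃ ψ ∈ B', (χ : G → ℂ) = indFun T (ψ : T → ℂ))
    (h2 : ∀ ψ ∈ B', ∃ χ ∈ B, (χ : G → ℂ) = indFun T (ψ : T → ℂ))
    {ψ : IrrCharacter T} {χ : IrrCharacter G} (e : (χ : G → ℂ) = indFun T (ψ : T → ℂ)) :
    blockHeight p B (χ : G → ℂ) = blockHeight p B' (ψ : T → ℂ) := by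
  rw [blockHeight_def, blockHeight_def, minVal_ind hne h1 h2, factorization_ind e]
  omega

theorem blockDefect_ind {B' : Set (IrrCharacter T)} {B : Set (IrrCharacter G)} (hne : ∃ ψ, ψ ∈ B')
    (h1 : ∀ χ ∈ B, ∃ ψ ∈ B', (χ : G → ℂ) = indFun T (ψ : T → ℂ))
    (h2 : ∀ ψ ∈ B', ∃ χ ∈ B, (χ : G → ℂ) = indFun T (ψ : T → ℂ)) :
    blockDefect p B = blockDefect p B' := by
  rw [blockDefect_def, blockDefect_def, minVal_ind hne h1 h2, ← Subgroup.card_mul_index T,
    Nat.factorization_mul Nat.card_pos.ne' Subgroup.index_ne_zero_of_finite]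
  simp only [Finsupp.coe_add, Pi.add_apply]
  omega

theorem isInducedBlock_unique [M.IsPrime] {B' : Set (IrrCharacter T)}
    {B B₁ : Set (IrrCharacter G)} (h : IsInducedBlock M T B' B) (h₁ : IsInducedBlock M T B' B₁) :
    B₁ = B := by
  obtain ⟨ξ, hξ⟩ := isPBlock_nonempty h.1
  obtain ⟨χ, hχ⟩ := isPBlock_nonempty h.2.1
  obtain ⟨χ₁, hχ₁⟩ := isPBlock_nonempty h₁.2.1
  have hs : SameBlock M (χ : G → ℂ) (χ₁ : G → ℂ) := by
    intro g
    have := memLocalIdeal_sub (h₁.2.2 ξ hξ χ₁ hχ₁ g) (h.2.2 ξ hξ χ hχ g)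
    simpa using this
  rw [isPBlock_eq_blockOf h.2.1 (isPBlock_mem_of_sameBlock h.2.1 hχ hs),
    isPBlock_eq_blockOf h₁.2.1 hχ₁]

/-- an induced block of the same defect has the same defect groups. -/
theorem isDefectGroup_map_of_defect_eq (hM : IsPModular p M) {B' : Set (IrrCharacter T)}
    {B : Set (IrrCharacter G)} (hind : IsInducedBlock M T B' B)
    (hd : blockDefect p B = blockDefect p B') {D : Subgroup T} (hD : IsDefectGroup p M B' D) :
    IsDefectGroup p M B (D.map T.subtype) := by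
  have : Fact p.Prime := ⟨hM.1⟩
  obtain ⟨E, hE, hle⟩ := Helper20Induced.defectGroup_le_of_induced T hM hind hD
  have c1 := S0908.result p M hM B hind.2.1 E hE
  have c2 := S0908.result p M hM B' hind.1 D hD
  have c3 : Nat.card (D.map T.subtype) = Nat.card D :=
    Subgroup.card_map_of_injective T.subtype_injective
  have : D.map T.subtype = E := by
    apply Subgroup.eq_of_le_of_card_ge hle
    rw [c1, c3, c2, hd]
  rw [this]
  exact hE

end Cfsg.Agent.Lib.Helper21FR2
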