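import Mathlib
import Cfsg.Prelude.Def_Blocks
import Cfsg.Agent.Lib.Helper20Fong
import Cfsg.Agent.Lib.Helper20Tower
import Cfsg.Agent.Lib.Helper21FR2

set_option autoImplicit false
set_option linter.unusedSectionVars false
set_option linter.unusedVariables false

/-! Transport of blocks to intermediate subgroups, and Fong's theorem for non-stable blocks. -/

namespace Cfsg.Agent.Lib.Helper20Down

open Cfsg
open Cfsg.Agent.Lib.Helper20Local Cfsg.Agent.Lib.Helper20Center Cfsg.Agent.Lib.Helper20Block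
open Cfsg.Agent.Lib.Helper20Ideal Cfsg.Agent.Lib.Helper20Defect
open Cfsg.Agent.Lib.Helper19Ind Cfsg.Agent.Lib.Helper20First Cfsg.Agent.Lib.Helper20Induced
open Cfsg.Agent.Lib.Helper4Char Cfsg.Agent.Lib.Helper4Char2
open Cfsg.Agent.Lib.Helper87Sylow Cfsg.Agent.Lib.Helper20Sub
open Cfsg.Agent.Lib.Helper20Conj Cfsg.Agent.Lib.Helper20DefCard Cfsg.Agent.Lib.Helper20Height
open Cfsg.Agent.Lib.Helper21Cover Cfsg.Agent.Lib.Helper21Cover4 Cfsg.Agent.Lib.Helper20Cov
open Cfsg.Agent.Lib.Helper20Fong Cfsg.Agent.Lib.Helper20Tower Cfsg.Agent.Lib.Helper80Transport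
open Cfsg.Agent.Lib.Helper82Quot Cfsg.Agent.Lib.Helper21FR Cfsg.Agent.Lib.Helper21FR2
open scoped ComplexConjugate

section Abstract

variable {K K' : Type*} [Group K] [Group K'] (σ : K ≃* K') {M : Ideal Cfsg.AlgInt} {p : ℕ}

theorem coe_irrCongr (χ : IrrCharacter K) :
    ((irrCongr σ χ : IrrCharacter K') : K' → ℂ) = (χ : K → ℂ) ∘ σ.symm :=
  funext (fun x => irrCongr_apply σ χ x)

theorem blockDefect_mapBlk (f : Set (IrrCharacter K)) :
    blockDefect p (mapBlk σ f) = blockDefect p f := by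
  unfold blockDefect
  rw [Nat.card_congr σ.toEquiv]
  congr 2
  unfold mapBlk
  rw [Set.image_image]
  apply Set.image_congr
  intro χ _
  unfold charDegree
  rw [irrCongr_apply, map_one]

theorem classInner_comp [Fintype K] [Fintype K'] (φ ψ : K → ℂ) :
    classInner (φ ∘ σ.symm) (ψ ∘ σ.symm) = classInner φ ψ := by
  unfold classInner
  rw [Nat.card_congr σ.toEquiv]
  congr 1
  exact Fintype.sum_equiv σ.symm.toEquiv _ _ (fun x => rfl)

theorem mapBlk_symm (f : Set (IrrCharacter K)) : mapBlk σ.symm (mapBlk σ f) = f := by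
  unfold mapBlk
  rw [Set.image_image]
  convert Set.image_id f using 1
  apply Set.image_congr
  intro χ _
  apply Subtype.ext
  funext x
  rw [irrCongr_apply, irrCongr_apply]
  simp

theorem card_centralizer_equiv [Finite K] (k : K) :
    Nat.card (Subgroup.centralizer ({σ k} : Set K')) = Nat.card (Subgroup.centralizer ({k} : Set K)) := by
  have : Finite K' := Finite.of_equiv K σ.toEquiv
  have h1 := Subgroup.card_mul_index (Subgroup.centralizer ({σ k} : Set K'))
  have h2 := Subgroup.card_mul_index (Subgroup.centralizer ({k} : Set K))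
  rw [index_centralizer_equiv, ← Nat.card_congr σ.toEquiv, ← h2] at h1
  exact Nat.eq_of_mul_eq_mul_right (Nat.pos_of_ne_zero Subgroup.index_ne_zero_of_finite) h1

theorem isDefectGroup_mapBlk [Fintype K] [Fintype K'] [Fact p.Prime] {f : Set (IrrCharacter K)}
    {D : Subgroup K}
    (h : IsDefectGroup p M f D) : IsDefectGroup p M (mapBlk σ f) (D.map σ.toMonoidHom) := by
  obtain ⟨g, hg, hS⟩ := isDefectGroup_iff.1 h
  rw [isDefectGroup_iff]
  refine ⟨σ g, ⟨?_, ?_, ?_⟩, ?_, ?_⟩
  · rw [blockCoeff_mapBlk]; exact hg.1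
  · rw [blockCoeff_mapBlk]; exact hg.2.1
  · rintro _ ⟨χ, hχ, rfl⟩
    rw [coe_irrCongr, centralChar_comp]
    exact hg.2.2 χ hχ
  · rintro _ ⟨x, hx, rfl⟩
    have := hS.1 hx
    rw [Subgroup.mem_centralizer_singleton_iff] at this ⊢
    have h2 := congrArg σ this
    simpa using h2
  · rw [Subgroup.card_map_of_injective (show Function.Injective σ.toMonoidHom from σ.injective),
      card_centralizer_equiv]
    exact hS.2

end Abstract

section Down

variable {G : Type*} [Group G] [Fintype G] {N T : Subgroup G} [Fintype N] [Fintype T]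
  [Fintype (N.subgroupOf T)] {M : Ideal Cfsg.AlgInt} {p : ℕ}

theorem cv_down_iff (hNT : N ≤ T) (B' : Set (IrrCharacter T)) (b : Set (IrrCharacter N)) :
    Cv B' (down hNT b) ↔ ∃ ψ ∈ B', ∃ θ ∈ b, OverT hNT ψ θ := by
  have key : ∀ (ψ : IrrCharacter T) (θ : IrrCharacter N),
      classInner (fun n : N.subgroupOf T => (ψ : T → ℂ) n)
        ((irrCongr (Subgroup.subgroupOfEquivOfLe hNT).symm θ : IrrCharacter _) : _ → ℂ)
      = classInner (fun n : N => (ψ : T → ℂ) ⟨(n : G), hNT n.2⟩) (θ : N → ℂ) := by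
    intro ψ θ
    rw [coe_irrCongr, ← classInner_comp (Subgroup.subgroupOfEquivOfLe hNT).symm]
    rfl
  constructor
  · rintro ⟨ψ, hψ, _, ⟨θ, hθ, rfl⟩, h⟩
    rw [key] at h
    exact ⟨ψ, hψ, θ, hθ, h⟩
  · rintro ⟨ψ, hψ, θ, hθ, h⟩
    refine ⟨ψ, hψ, _, ⟨θ, hθ, rfl⟩, ?_⟩
    rw [key]
    exact h

theorem cjI_down (hN : N.Normal) (hN' : (N.subgroupOf T).Normal) (hNT : N ≤ T)
    (θ : IrrCharacter N) (t : T) :
    cjI hN' (irrCongr (Subgroup.subgroupOfEquivOfLe hNT).symm θ) t
      = irrCongr (Subgroup.subgroupOfEquivOfLe hNT).symm (cjI hN θ (t : G)) := by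
  apply Subtype.ext
  funext n
  rw [cjI_apply, irrCongr_apply, irrCongr_apply, cjI_apply]
  rfl

theorem stable_down (hN : N.Normal) (hN' : (N.subgroupOf T).Normal) (hNT : N ≤ T)
    {b : Set (IrrCharacter N)} (h : ∀ t ∈ T, ∀ θ ∈ b, cjI hN θ t ∈ b) :
    Stable hN' (down hNT b) := by
  rintro _ ⟨θ, hθ, rfl⟩ t
  rw [cjI_down hN hN' hNT]
  exact ⟨_, h t t.2 θ hθ, rfl⟩

theorem blockDefect_down (hNT : N ≤ T) (b : Set (IrrCharacter N)) :
    blockDefect p (down hNT b) = blockDefect p b := blockDefect_mapBlk _ b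

variable [Fact p.Prime]

/-- Fong's theorem for a block covered by a unique block. -/
theorem defect_of_unique_covering (hM : IsPModular p M) [hN : N.Normal]
    {b : Set (IrrCharacter N)} (hb : IsPBlock M b) (hNT : N ≤ T) (hT : IsStab hN b T)
    {B : Set (IrrCharacter G)} (hB : IsPBlock M B) (hcov : Cv B b)
    (huniq : ∀ B' : Set (IrrCharacter G), IsPBlock M B' → Cv B' b → B' = B) :
    blockDefect p B = blockDefect p b + (N.relIndex T).factorization p := by
  have hP := IsPModular.isPrime hM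
  have := hP
  have hN' : (N.subgroupOf T).Normal := inferInstance
  obtain ⟨B', hB', hcov', hind⟩ := fr_surjective hNT hT hb hB hcov
  have hst : Stable hN' (down hNT b) :=
    stable_down hN hN' hNT (fun t ht θ hθ => (hT t).1 ht θ hθ)
  have hb' := isPBlock_down (M := M) hNT hb
  -- equality of defects
  have hdef : blockDefect p B = blockDefect p B' := by
    obtain ⟨B₁, hi, _, _, hiff⟩ := fr_induce hNT hT hb hB' hcov'
    have hBB : B₁ = B := isInducedBlock_unique hind hi
    subst hBB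
    have hall := all_over hNT hT hb hB' hcov'
    exact blockDefect_ind (IsPBlock.nonempty hP hB') (fun χ hχ => (hiff χ).1 hχ) (by
      intro ψ hψ
      obtain ⟨θ, hθ, h⟩ := hall ψ hψ
      exact ⟨indI hNT hT hb hθ h, (hiff _).2 ⟨ψ, hψ, rfl⟩, rfl⟩)
  obtain ⟨B'', hB'', hcv'', hd''⟩ := exists_covering_defect (G := T) hM hb' hst
  have hcv2 := (cv_down_iff hNT B'' b).1 hcv''
  obtain ⟨B₂, hi₂, hc₂, _, _⟩ := fr_induce hNT hT hb hB'' hcv2
  have hB₂ : B₂ = B := huniq B₂ hi₂.2.1 hc₂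
  rw [hB₂] at hi₂
  have hBB' : B'' = B' := fr_injective hNT hT hb hB'' hB' hcv2 hcov' hi₂ hind
  rw [hBB'] at hd''
  obtain ⟨D, hD⟩ := exists_defectGroup hM hB'
  have h3 := defect_add_index hM hb' hB' ((cv_down_iff hNT B' b).2 hcov') hD
  rw [blockDefect_down] at hd'' h3
  have h4 : (N.subgroupOf T).index = N.relIndex T := rfl
  rw [h4] at hd'' h3
  omega

end Down

end Cfsg.Agent.Lib.Helper20Down
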