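import Mathlib
import Cfsg.Prelude.Def_Blocks
import Cfsg.Agent.Lib.Helper20Tower
import Cfsg.Agent.S0964
import Cfsg.Agent.S0965

set_option autoImplicit false
set_option linter.unusedSectionVars false
set_option linter.unusedVariables false

namespace Cfsg.Agent.Lib.Helper20Ext

open Cfsg
open Cfsg.Agent.Lib.Helper4Char Cfsg.Agent.Lib.Helper4Char2 Cfsg.Agent.Lib.Helper20Local
open Cfsg.Agent.Lib.Helper20Center Cfsg.Agent.Lib.Helper20Block Cfsg.Agent.Lib.Helper20Induced
open Cfsg.Agent.Lib.Helper20Avg Cfsg.Agent.Lib.Helper20Defect Cfsg.Agent.Lib.Helper87Sylow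
open Cfsg.Agent.Lib.Helper20Syl Cfsg.Agent.Lib.Helper20DefCard Cfsg.Agent.Lib.Helper20Height
open Cfsg.Agent.Lib.Helper20Conj Cfsg.Agent.Lib.Helper20BrMap Cfsg.Agent.Lib.Helper20Ideal
open Cfsg.Agent.Lib.Helper20ModHom Cfsg.Agent.Lib.Helper20Brauer Cfsg.Agent.Lib.Helper20First
open Cfsg.Agent.Lib.Helper20Sub Cfsg.Agent.Lib.Helper20Sub2 Cfsg.Agent.Lib.Helper20Major
open Cfsg.Agent.Lib.Helper80Transport Cfsg.Agent.Lib.Helper82Quot Cfsg.Agent.Lib.Helper20Tower

variable {G : Type*} [Group G] [Fintype G] {M : Ideal Cfsg.AlgInt} {p : ℕ} [Fact p.Prime]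

/-- variant of `exists_block_induced_defectGroup` only assuming `P ≤ D ≤ H`. -/
theorem exists_block_induced_defectGroup' (hM : IsPModular p M) {P H : Subgroup G} [Fintype H]
    (hP : IsPGroup p P) (hPH : P ≤ H) (hCH : Subgroup.centralizer (P : Set G) ≤ H)
    (hHN : H ≤ Subgroup.normalizer (P : Set G))
    {B : Set (IrrCharacter G)} (hB : IsPBlock M B) {D : Subgroup G}
    (hD : IsDefectGroup p M B D) (hPD : P ≤ D) (hDH : D ≤ H) :
    ∃ b : Set (IrrCharacter H), IsInducedBlock M H b B ∧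
      IsDefectGroup p M b (D.subgroupOf H) := by
  have hPr := IsPModular.isPrime hM
  obtain ⟨y₀, hy₀, hS⟩ := isDefectGroup_iff.mp hD
  have hyC : y₀ ∈ Subgroup.centralizer (P : Set G) :=
    le_centralizer_singleton_iff.mp (hPD.trans hS.1)
  obtain ⟨b, hb, hby⟩ := exists_block_induced_coeff hM hP hPH hCH hHN hB hyC hy₀.2.1
  refine ⟨b, hb, ?_⟩
  obtain ⟨Q, hQ⟩ := exists_defectGroup hM hb.1
  obtain ⟨y₁, hy₁, hS₁⟩ := isDefectGroup_iff.mp hQ
  obtain ⟨ξ, hξ⟩ := IsPBlock.nonempty hPr hb.1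
  have hDp : IsPGroup p (D.subgroupOf H) :=
    hS.isPGroup.of_equiv (Subgroup.subgroupOfEquivOfLe hDH).symm
  have hDle : D.subgroupOf H ≤ Subgroup.centralizer ({(⟨y₀, hCH hyC⟩ : H)} : Set H) := by
    rw [centralizer_singleton_subgroupOf]
    intro d hd
    exact hS.1 hd
  obtain ⟨x, hx⟩ := cSub_of_blockCoeff hM hb.1 hξ (hy₁.2.2 ξ hξ) hS₁ hby _ hDp hDle
  have hcard : Nat.card (cj x Q) ≤ Nat.card (D.subgroupOf H) := by
    rw [card_cj, card_subgroupOf_of_le hDH, card_defectGroup hM hb.1 hQ, card_defectGroup hM hB hD]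
    exact pow_le_pow_iff'.mpr (blockDefect_le_of_induced hM H hb)
  rw [Subgroup.eq_of_le_of_card_ge hx hcard]
  exact isDefectGroup_cj hQ x

theorem sup_centralizer_le_normalizer (P : Subgroup G) :
    P ⊔ Subgroup.centralizer (P : Set G) ≤ Subgroup.normalizer (P : Set G) :=
  sup_le Subgroup.le_normalizer (centralizer_le_normalizer' P)

theorem normalizer_le_normalizer_sup (P : Subgroup G) :
    Subgroup.normalizer (P : Set G)
      ≤ Subgroup.normalizer ((P ⊔ Subgroup.centralizer (P : Set G) : Subgroup G) : Set G) := by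
  intro n hn
  apply mem_normalizer_of_cj_le
  have h1 : cj n P = P := cj_eq_of_mem_normalizer hn
  have h2 : cj n (Subgroup.centralizer (P : Set G)) = Subgroup.centralizer (P : Set G) := by
    rw [cj_centralizer, h1]
  have h3 : cj n (P ⊔ Subgroup.centralizer (P : Set G))
      = cj n P ⊔ cj n (Subgroup.centralizer (P : Set G)) := Subgroup.map_sup _ _ _
  rw [h3, h1, h2]

/-- a block of `P C(P)` inducing `B` induces a block of `N(P)` inducing `B`. -/
theorem exists_middle (hM : IsPModular p M) {P : Subgroup G} (hPp : IsPGroup p P)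
    {B : Set (IrrCharacter G)}
    {e : Set (IrrCharacter ↥(P ⊔ Subgroup.centralizer (P : Set G)))}
    (he : IsInducedBlock M (P ⊔ Subgroup.centralizer (P : Set G)) e B) :
    ∃ β : Set (IrrCharacter (Subgroup.normalizer (P : Set G))),
      IsInducedBlock M ((P ⊔ Subgroup.centralizer (P : Set G)).subgroupOf
        (Subgroup.normalizer (P : Set G))) (down (sup_centralizer_le_normalizer P) e) β ∧
      IsInducedBlock M (Subgroup.normalizer (P : Set G)) β B := by
  classical
  have hPr := IsPModular.isPrime hM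
  have hP' : IsPGroup p (P.subgroupOf (Subgroup.normalizer (P : Set G))) :=
    hPp.of_equiv (Subgroup.subgroupOfEquivOfLe Subgroup.le_normalizer).symm
  obtain ⟨β, hβ⟩ := Cfsg.Agent.S0919.result p M hM (P.subgroupOf (Subgroup.normalizer (P : Set G)))
    ((P ⊔ Subgroup.centralizer (P : Set G)).subgroupOf (Subgroup.normalizer (P : Set G))) hP'
    (by
      intro x hx
      exact (le_sup_left : P ≤ P ⊔ Subgroup.centralizer (P : Set G)) hx)
    (by
      intro x hx
      exact (le_sup_right : Subgroup.centralizer (P : Set G) ≤ P ⊔ Subgroup.centralizer (P : Set G))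
        ((mem_centralizer_subgroupOf_iff Subgroup.le_normalizer x).mp hx))
    (by
      have : Subgroup.normalizer ((P.subgroupOf (Subgroup.normalizer (P : Set G)) :
          Subgroup (Subgroup.normalizer (P : Set G))) : Set (Subgroup.normalizer (P : Set G))) = ⊤ :=
        Subgroup.normalizer_eq_top _
      rw [this]
      exact le_top)
    (down (sup_centralizer_le_normalizer P) e) (isPBlock_down _ he.1)
  obtain ⟨B₁, hB₁⟩ := Cfsg.Agent.S0919.result p M hM P (Subgroup.normalizer (P : Set G)) hPp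
    Subgroup.le_normalizer (centralizer_le_normalizer' P) le_rfl β hβ.2.1
  have h1 := induced_trans (sup_centralizer_le_normalizer P) hPr he.1 hβ hB₁
  rw [induced_block_unique hPr he h1]
  exact ⟨β, hβ, hB₁⟩

/-- the conjugacy part of the extended first main theorem. -/
theorem induced_conj (hM : IsPModular p M) {P : Subgroup G} {B : Set (IrrCharacter G)}
    (hP : IsDefectGroup p M B P)
    {b b' : Set (IrrCharacter ↥(P ⊔ Subgroup.centralizer (P : Set G)))}
    (hb : IsInducedBlock M (P ⊔ Subgroup.centralizer (P : Set G)) b B)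
    (hb' : IsInducedBlock M (P ⊔ Subgroup.centralizer (P : Set G)) b' B) :
    ∃ n ∈ Subgroup.normalizer (P : Set G), ∀ θ ∈ b, ∃ θ' ∈ b',
      ∀ x : ↥(P ⊔ Subgroup.centralizer (P : Set G)),
      ∀ hx : n * (x : G) * n⁻¹ ∈ P ⊔ Subgroup.centralizer (P : Set G),
        (θ' : ↥(P ⊔ Subgroup.centralizer (P : Set G)) → ℂ) x
          = (θ : ↥(P ⊔ Subgroup.centralizer (P : Set G)) → ℂ) ⟨n * (x : G) * n⁻¹, hx⟩ := by
  classical
  have hPr := IsPModular.isPrime hM
  have hPp : IsPGroup p P := by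
    obtain ⟨y, hy, hS⟩ := isDefectGroup_iff.mp hP
    exact hS.isPGroup
  obtain ⟨β, hβ1, hβ2⟩ := exists_middle hM hPp hb
  obtain ⟨β', hβ1', hβ2'⟩ := exists_middle hM hPp hb'
  have hEq : β = β' := induced_unique hM hPp hβ2 hβ2' (defectGroup_of_induced hM hPp hβ2 hP)
  subst hEq
  have hn : ((P ⊔ Subgroup.centralizer (P : Set G)).subgroupOf
      (Subgroup.normalizer (P : Set G))).Normal :=
    (Subgroup.normal_subgroupOf_iff_le_normalizer (sup_centralizer_le_normalizer P)).mpr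
      (normalizer_le_normalizer_sup P)
  have cov : ∀ {e : Set (IrrCharacter ↥(P ⊔ Subgroup.centralizer (P : Set G)))},
      IsInducedBlock M ((P ⊔ Subgroup.centralizer (P : Set G)).subgroupOf
        (Subgroup.normalizer (P : Set G))) (down (sup_centralizer_le_normalizer P) e) β →
      ∃ χ ∈ β, ∃ θ ∈ down (sup_centralizer_le_normalizer P) e,
        classInner (fun n : ((P ⊔ Subgroup.centralizer (P : Set G)).subgroupOf
          (Subgroup.normalizer (P : Set G))) => (χ : Subgroup.normalizer (P : Set G) → ℂ) n)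
          (θ : ((P ⊔ Subgroup.centralizer (P : Set G)).subgroupOf
          (Subgroup.normalizer (P : Set G))) → ℂ) ≠ 0 := by
    intro e he
    apply (Cfsg.Agent.S0965.result p M hM _ β he.2.1 _ he.1).mpr
    intro χ hχ θ hθ n
    have := liNeg (he.2.2 θ hθ χ hχ n)
    rwa [neg_sub] at this
  obtain ⟨χ, hχ, θ, hθ, hcon⟩ := cov hβ1
  obtain ⟨χ', hχ', ψ, hψ, hcon'⟩ := cov hβ1'
  obtain ⟨g, θ', hθ', hg⟩ := Cfsg.Agent.S0964.result p M hM _ β hβ1.2.1 _ hβ1.1 χ hχ θ hθ hcon
    χ' hχ' ψ hcon'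
  obtain ⟨θ₁, hθ₁, rfl⟩ := hθ'
  obtain ⟨θ₂, hθ₂, rfl⟩ := hψ
  have hgH : ∀ y : G, y ∈ P ⊔ Subgroup.centralizer (P : Set G) ↔
      (g : G) * y * (g : G)⁻¹ ∈ P ⊔ Subgroup.centralizer (P : Set G) :=
    Subgroup.mem_normalizer_iff.mp (normalizer_le_normalizer_sup P g.2)
  have hrel : ∀ x : ↥(P ⊔ Subgroup.centralizer (P : Set G)),
      (θ₂ : ↥(P ⊔ Subgroup.centralizer (P : Set G)) → ℂ) x
        = (θ₁ : ↥(P ⊔ Subgroup.centralizer (P : Set G)) → ℂ)
          ⟨(g : G) * x * (g : G)⁻¹, (hgH x).mp x.2⟩ := by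
    intro x
    exact hg ((Subgroup.subgroupOfEquivOfLe (sup_centralizer_le_normalizer P)).symm x)
  refine ⟨g, g.2, fun θ hθb => ?_⟩
  set c := cjEquiv (g : G) _ _ hgH with hc
  refine ⟨irrCongr c.symm θ, ?_, fun x hx => rfl⟩
  have h2 : θ₂ = irrCongr c.symm θ₁ := by
    apply Subtype.ext
    funext x
    exact hrel x
  rw [IsPBlock.eq_blockOf hPr hb'.1 hθ₂, h2]
  exact sameBlock_comp c.symm (IsPBlock.sameBlock hPr hb.1 hθ₁ hθb)

end Cfsg.Agent.Lib.Helper20Ext
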