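import Mathlib
import Cfsg.Prelude.Def_Blocks
import Cfsg.Agent.Lib.Helper20Down

set_option autoImplicit false
set_option linter.unusedSectionVars false
set_option linter.unusedVariables false

/-! Fong--Reynolds combined with the theorem of Knörr: defect groups inside the stabilizer. -/

namespace Cfsg.Agent.Lib.Helper20FRK

open Cfsg
open Cfsg.Agent.Lib.Helper20Local Cfsg.Agent.Lib.Helper20Center Cfsg.Agent.Lib.Helper20Block
open Cfsg.Agent.Lib.Helper20Ideal Cfsg.Agent.Lib.Helper20Defect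
open Cfsg.Agent.Lib.Helper19Ind Cfsg.Agent.Lib.Helper20First Cfsg.Agent.Lib.Helper20Induced
open Cfsg.Agent.Lib.Helper4Char Cfsg.Agent.Lib.Helper4Char2
open Cfsg.Agent.Lib.Helper87Sylow Cfsg.Agent.Lib.Helper20Sub
open Cfsg.Agent.Lib.Helper20Conj Cfsg.Agent.Lib.Helper20DefCard Cfsg.Agent.Lib.Helper20Height
open Cfsg.Agent.Lib.Helper21Cover Cfsg.Agent.Lib.Helper21Cover4 Cfsg.Agent.Lib.Helper20Cov
open Cfsg.Agent.Lib.Helper20Fong Cfsg.Agent.Lib.Helper20Tower Cfsg.Agent.Lib.Helper80Transport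
open Cfsg.Agent.Lib.Helper82Quot Cfsg.Agent.Lib.Helper21FR Cfsg.Agent.Lib.Helper21FR2
open Cfsg.Agent.Lib.Helper20Down

variable {G : Type*} [Group G] [Fintype G] {N : Subgroup G} [Fintype N]
  {M : Ideal Cfsg.AlgInt} {p : ℕ}

/-- the stabilizer of a set of characters of a normal subgroup. -/
def stabSub (hN : N.Normal) (b : Set (IrrCharacter N)) : Subgroup G where
  carrier := {g | (fun θ => cjI hN θ g) '' b = b}
  one_mem' := by
    change (fun θ => cjI hN θ 1) '' b = b
    simp only [cjI_one, Set.image_id']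
  mul_mem' := by
    intro x y hx hy
    change (fun θ => cjI hN θ (x * y)) '' b = b
    have hx' : (fun θ => cjI hN θ x) '' b = b := hx
    have hy' : (fun θ => cjI hN θ y) '' b = b := hy
    conv_rhs => rw [← hy', ← hx']
    rw [Set.image_image]
    simp only [cjI_cjI]
  inv_mem' := by
    intro x hx
    change (fun θ => cjI hN θ x⁻¹) '' b = b
    have hx' : (fun θ => cjI hN θ x) '' b = b := hx
    conv_lhs => rw [← hx']
    rw [Set.image_image]
    simp only [cjI_cjI, mul_inv_cancel, cjI_one, Set.image_id']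

theorem mem_stabSub (hN : N.Normal) (b : Set (IrrCharacter N)) (g : G) :
    g ∈ stabSub hN b ↔ (fun θ => cjI hN θ g) '' b = b := Iff.rfl

theorem isStab_stabSub (hM : M.IsPrime) (hN : N.Normal) {b : Set (IrrCharacter N)}
    (hb : IsPBlock M b) : IsStab hN b (stabSub hN b) := by
  intro g
  rw [mem_stabSub]
  constructor
  · intro h θ hθ
    rw [← h]
    exact ⟨θ, hθ, rfl⟩
  · intro h
    obtain ⟨θ, hθ⟩ := IsPBlock.nonempty hM hb
    have h1 := isPBlock_image hN hb g
    have := hM
    rw [Helper81Block.isPBlock_eq_blockOf h1 ⟨θ, hθ, rfl⟩, Helper81Block.isPBlock_eq_blockOf hb (h θ hθ)]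

theorem le_stabSub (hN : N.Normal) (b : Set (IrrCharacter N)) : N ≤ stabSub hN b := by
  intro x hx
  rw [mem_stabSub]
  have : ∀ θ : IrrCharacter N, cjI hN θ x = θ := by
    intro θ
    apply Subtype.ext
    funext n
    rw [cjI_apply]
    exact IsIrrCharacter.isClassFunction θ.2 n ⟨x, hx⟩
  simp only [this, Set.image_id']

variable [Fact p.Prime]

/-- Fong--Reynolds and Knörr: a defect group of `B` inside the stabilizer of the covered block `b`
meeting `N` in a defect group of `b`. -/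
theorem exists_defect_in_stab (hM : IsPModular p M) [hN : N.Normal]
    {b : Set (IrrCharacter N)} (hb : IsPBlock M b)
    {B : Set (IrrCharacter G)} (hB : IsPBlock M B) (hcov : Cv B b) :
    ∃ D : Subgroup G, IsDefectGroup p M B D ∧ D ≤ stabSub hN b ∧
      IsDefectGroup p M b ((D ⊓ N).subgroupOf N) := by
  classical
  have hP := IsPModular.isPrime hM
  have := hP
  set T := stabSub hN b with hTdef
  have hNT : N ≤ T := le_stabSub hN b
  have hT : IsStab hN b T := isStab_stabSub hP hN hb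
  have hN' : (N.subgroupOf T).Normal := inferInstance
  obtain ⟨B', hB', hcov', hind⟩ := fr_surjective hNT hT hb hB hcov
  have hst : Stable hN' (down hNT b) :=
    stable_down hN hN' hNT (fun t ht θ hθ => (hT t).1 ht θ hθ)
  have hb' := isPBlock_down (M := M) hNT hb
  have hdef : blockDefect p B = blockDefect p B' := by
    obtain ⟨B₁, hi, _, _, hiff⟩ := fr_induce hNT hT hb hB' hcov'
    have hBB : B₁ = B := isInducedBlock_unique hind hi
    subst hBB
    have hall := all_over hNT hT hb hB' hcov'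
    exact blockDefect_ind (IsPBlock.nonempty hP hB') (fun χ hχ => (hiff χ).1 hχ) (by
      intro ψ hψ
      obtain ⟨θ, hθ, h⟩ := hall ψ hψ
      exact ⟨indI hNT hT hb hθ h, (hiff _).2 ⟨ψ, hψ, rfl⟩, rfl⟩)
  obtain ⟨D', hD'⟩ := exists_defectGroup hM hB'
  refine ⟨D'.map T.subtype, isDefectGroup_map_of_defect_eq hM hind hdef hD',
    Subgroup.map_subtype_le D', ?_⟩
  obtain ⟨Q₀, hQ₀⟩ := exists_defectGroup hM hb'
  have hQ₁ : (Q₀.map (N.subgroupOf T).subtype).subgroupOf (N.subgroupOf T) = Q₀ :=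
    Subgroup.comap_map_eq_self_of_injective (Subgroup.subtype_injective _) Q₀
  have hQle : Q₀.map (N.subgroupOf T).subtype ≤ N.subgroupOf T := Subgroup.map_subtype_le Q₀
  rw [← hQ₁] at hQ₀
  obtain ⟨x, hx⟩ := knorr hM hb' hB' ((cv_down_iff hNT B' b).2 hcov') hQle hQ₀ hD'
  have h1 := isDefectGroup_cj_of_stable hst hQle hQ₀ x
  rw [← hx] at h1
  have h2 := isDefectGroup_mapBlk (Subgroup.subgroupOfEquivOfLe hNT).symm.symm h1
  have h3 : mapBlk (Subgroup.subgroupOfEquivOfLe hNT).symm.symm (down hNT b) = b :=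
    mapBlk_symm _ b
  rw [h3] at h2
  convert h2 using 1
  ext n
  simp only [Subgroup.mem_subgroupOf, Subgroup.mem_inf, Subgroup.mem_map]
  constructor
  · rintro ⟨⟨t, ht, hte⟩, hn⟩
    have htN : t ∈ N.subgroupOf T := by
      rw [Subgroup.mem_subgroupOf]
      have : (t : G) = n := hte
      rw [this]; exact n.2
    refine ⟨⟨t, htN⟩, ⟨ht, htN⟩, ?_⟩
    apply Subtype.ext
    exact hte
  · rintro ⟨y, ⟨hy1, hy2⟩, rfl⟩
    exact ⟨⟨y, hy1, rfl⟩, Subtype.property _⟩

end Cfsg.Agent.Lib.Helper20FRK
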