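import Mathlib

set_option autoImplicit false

/-! A graded nilpotency lemma: words in the homogeneous components of an element. -/

namespace Cfsg.Agent.Lib.Helper20GrNil

variable {X : Type*} [Group X]

/-- closed segments between successive visits of the same partial product. -/
theorem exists_segments (l : List X) (x : X) (f : ℕ → ℕ) :
    ∀ K : ℕ, (∀ i < K, f i < f (i + 1)) →
      (∀ i ≤ K, f i ≤ l.length ∧ (l.take (f i)).prod = x) →
      ∃ L : List (List X), L.length = K ∧ (∀ c ∈ L, c ≠ [] ∧ c.prod = 1) ∧
        l.take (f K) = l.take (f 0) ++ L.flatten := by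
  intro K
  induction K with
  | zero =>
    intro _ _
    exact ⟨[], rfl, by simp, by simp⟩
  | succ K ih =>
    intro h1 h2
    obtain ⟨L, hL1, hL2, hL3⟩ := ih (fun i hi => h1 i (by omega)) (fun i hi => h2 i (by omega))
    have hlt := h1 K (by omega)
    have hsplit : l.take (f (K + 1)) = l.take (f K) ++ (l.take (f (K + 1))).drop (f K) := by
      have := (List.take_append_drop (f K) (l.take (f (K + 1)))).symm
      rwa [List.take_take, min_eq_left hlt.le] at this
    refine ⟨L ++ [(l.take (f (K + 1))).drop (f K)], by simp [hL1], ?_, ?_⟩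
    · intro c hc
      rw [List.mem_append, List.mem_singleton] at hc
      rcases hc with hc | rfl
      · exact hL2 c hc
      · constructor
        · intro h0
          have := congrArg List.length h0
          rw [List.length_drop, List.length_take, min_eq_left (h2 (K + 1) le_rfl).1] at this
          simp at this
          omega
        · have e := congrArg List.prod hsplit
          rw [List.prod_append, (h2 (K + 1) le_rfl).2, (h2 K (by omega)).2] at e
          exact (mul_eq_left.mp e.symm)
    · rw [List.flatten_append, ← List.append_assoc, ← hL3]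
      simpa using hsplit

theorem exists_decomp [Fintype X] (K : ℕ) (l : List X) (hl : K * Fintype.card X ≤ l.length) :
    ∃ (l0 : List X) (L : List (List X)) (r : List X), L.length = K ∧
      (∀ c ∈ L, c ≠ [] ∧ c.prod = 1) ∧ l = l0 ++ L.flatten ++ r := by
  classical
  obtain ⟨x, _, hx⟩ := Finset.exists_lt_card_fiber_of_mul_lt_card_of_maps_to
    (s := Finset.range (l.length + 1)) (t := (Finset.univ : Finset X))
    (f := fun i => (l.take i).prod) (n := K) (fun _ _ => Finset.mem_univ _)
    (by rw [Finset.card_univ, Finset.card_range, mul_comm]; omega)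
  set F := (Finset.range (l.length + 1)).filter (fun i => (l.take i).prod = x) with hF
  set f : ℕ → ℕ := fun i => if h : i < F.card then F.orderEmbOfFin rfl ⟨i, h⟩ else 0 with hf
  have hmem : ∀ i ≤ K, f i ∈ F := by
    intro i hi
    have : i < F.card := by omega
    simp only [hf, dif_pos this]
    exact Finset.orderEmbOfFin_mem F rfl _
  obtain ⟨L, hL1, hL2, hL3⟩ := exists_segments l x f K (by
      intro i hi
      have h1 : i < F.card := by omega
      have h2 : i + 1 < F.card := by omega
      simp only [hf, dif_pos h1, dif_pos h2]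
      apply (F.orderEmbOfFin rfl).strictMono
      exact Fin.mk_lt_mk.2 (Nat.lt_succ_self i)) (by
      intro i hi
      have := hmem i hi
      rw [hF, Finset.mem_filter, Finset.mem_range] at this
      exact ⟨by omega, this.2⟩)
  refine ⟨l.take (f 0), L, l.drop (f K), hL1, hL2, ?_⟩
  rw [← hL3, List.take_append_drop]

theorem pow_sum_mem {A : Type*} [Ring A] [Fintype X] (z : X → A) (m : ℕ) :
    (∑ t, z t) ^ m ∈
      AddSubmonoid.closure {a : A | ∃ l : List X, l.length = m ∧ a = (l.map z).prod} := by
  induction m with
  | zero =>
    apply AddSubmonoid.subset_closure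
    exact ⟨[], rfl, by simp⟩
  | succ m ih =>
    rw [pow_succ, Finset.mul_sum]
    apply AddSubmonoid.sum_mem
    intro t _
    generalize (∑ t, z t) ^ m = y at ih
    induction ih using AddSubmonoid.closure_induction with
    | mem a ha =>
      obtain ⟨l, hl, rfl⟩ := ha
      apply AddSubmonoid.subset_closure
      exact ⟨l ++ [t], by simp [hl], by simp⟩
    | zero => rw [zero_mul]; exact AddSubmonoid.zero_mem _
    | add a b _ _ ha hb => rw [add_mul]; exact AddSubmonoid.add_mem _ ha hb

/-- The graded nilpotency lemma. -/
theorem graded_nil {A : Type*} [Ring A] [Fintype X] (z : X → A) (Zr Rg : A → Prop)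
    (h0 : Zr 0) (hadd : ∀ a b, Zr a → Zr b → Zr (a + b))
    (hl : ∀ a b, Rg a → Zr b → Zr (a * b)) (hr : ∀ a b, Zr a → Rg b → Zr (a * b))
    (hR1 : Rg 1) (hRm : ∀ a b, Rg a → Rg b → Rg (a * b)) (hz : ∀ t, Rg (z t)) (K : ℕ)
    (hK : ∀ L : List (List X), L.length = K → (∀ c ∈ L, c ≠ [] ∧ c.prod = 1) →
      Zr ((L.map (fun c => (c.map z).prod)).prod)) :
    Zr ((∑ t, z t) ^ (K * Fintype.card X)) := by
  have hword : ∀ l : List X, Rg ((l.map z).prod) := by
    intro l
    induction l with
    | nil => simpa using hR1
    | cons t l ih => rw [List.map_cons, List.prod_cons]; exact hRm _ _ (hz t) ih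
  have := pow_sum_mem z (K * Fintype.card X)
  generalize (∑ t, z t) ^ (K * Fintype.card X) = y at this ⊢
  induction this using AddSubmonoid.closure_induction with
  | mem a ha =>
    obtain ⟨l, hlen, rfl⟩ := ha
    obtain ⟨l0, L, r, hL1, hL2, rfl⟩ := exists_decomp K l hlen.ge
    rw [List.map_append, List.map_append, List.prod_append, List.prod_append]
    apply hr _ _ _ (hword r)
    apply hl _ _ (hword l0)
    have e : (L.flatten.map z).prod = (L.map (fun c => (c.map z).prod)).prod := by
      rw [List.map_flatten, List.prod_flatten, List.map_map]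
      rfl
    rw [e]
    exact hK L hL1 hL2
  | zero => exact h0
  | add a b _ _ ha hb => exact hadd a b ha hb

end Cfsg.Agent.Lib.Helper20GrNil
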