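import Mathlib
import Cfsg.Prelude.Def_Blocks
import Cfsg.Agent.Lib.Helper20FRK

set_option autoImplicit false
set_option linter.unusedSectionVars false
set_option linter.unusedVariables false

/-! Intermediate subgroups and covering. -/

namespace Cfsg.Agent.Lib.Helper20Mid

open Cfsg
open Cfsg.Agent.Lib.Helper20Local Cfsg.Agent.Lib.Helper20Center Cfsg.Agent.Lib.Helper20Block
open Cfsg.Agent.Lib.Helper20Ideal Cfsg.Agent.Lib.Helper20Defect
open Cfsg.Agent.Lib.Helper19Ind Cfsg.Agent.Lib.Helper20First Cfsg.Agent.Lib.Helper20Induced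
open Cfsg.Agent.Lib.Helper4Char Cfsg.Agent.Lib.Helper4Char2
open Cfsg.Agent.Lib.Helper87Sylow Cfsg.Agent.Lib.Helper20Sub
open Cfsg.Agent.Lib.Helper20Conj Cfsg.Agent.Lib.Helper20DefCard Cfsg.Agent.Lib.Helper20Height
open Cfsg.Agent.Lib.Helper21Cover Cfsg.Agent.Lib.Helper21Cover4 Cfsg.Agent.Lib.Helper20Cov
open Cfsg.Agent.Lib.Helper20Fong Cfsg.Agent.Lib.Helper20Tower Cfsg.Agent.Lib.Helper80Transport
open Cfsg.Agent.Lib.Helper82Quot Cfsg.Agent.Lib.Helper21FR Cfsg.Agent.Lib.Helper21FR2
open Cfsg.Agent.Lib.Helper20Down Cfsg.Agent.Lib.Helper20FRK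

variable {G : Type*} [Group G] [Fintype G] {N L : Subgroup G} [Fintype N] [Fintype L]
  {M : Ideal Cfsg.AlgInt} {p : ℕ}

/-- a constituent of the restriction to `N` lies under a constituent of the restriction to an
intermediate subgroup. -/
theorem exists_middle_over (hNL : N ≤ L) {χ : IrrCharacter G} {θ : IrrCharacter N}
    (h : Over χ θ) : ∃ ψ : IrrCharacter L, Over χ ψ ∧ OverT hNL ψ θ := by
  classical
  by_contra hne
  push Not at hne
  apply h
  have hcf : IsClassFunction L (fun l : L => (χ : G → ℂ) l) := by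
    intro l m
    exact IsIrrCharacter.isClassFunction χ.2 (l : G) (m : G)
  have h1 := classFunction_eq_sum _ hcf
  have h2 : (fun n : N => (χ : G → ℂ) n)
      = ∑ ψ : IrrCharacter L, classInner (fun l : L => (χ : G → ℂ) l) (ψ : L → ℂ) •
        (fun n : N => (ψ : L → ℂ) ⟨(n : G), hNL n.2⟩) := by
    funext n
    have := congrFun h1 ⟨(n : G), hNL n.2⟩
    simp only [Finset.sum_apply, Pi.smul_apply] at this ⊢
    exact this
  rw [h2, classInner_sum_left]
  apply Finset.sum_eq_zero
  intro ψ _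
  rw [classInner_smul_left]
  by_cases h3 : Over χ ψ
  · have := hne ψ h3
    unfold OverT at this
    push Not at this
    rw [this, mul_zero]
  · unfold Over at h3
    push Not at h3
    rw [h3, zero_mul]

end Cfsg.Agent.Lib.Helper20Mid
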