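import Mathlib
import Cfsg.Prelude.Def_Blocks
import Cfsg.Prelude.Def_BlockLocal
import Cfsg.Agent.Lib.Helper20Mid
import Cfsg.Agent.Lib.Helper20Ext
import Cfsg.Agent.S0919

set_option autoImplicit false
set_option linter.unusedSectionVars false
set_option linter.unusedVariables false

/-! Relative versions (for a tower `K ≤ H ≤ G`) of block induction, defect groups and the first
main theorem. -/

namespace Cfsg.Agent.Lib.Helper20Rel

open Cfsg
open Cfsg.Agent.Lib.Helper20Local Cfsg.Agent.Lib.Helper20Center Cfsg.Agent.Lib.Helper20Block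
open Cfsg.Agent.Lib.Helper20Ideal Cfsg.Agent.Lib.Helper20Defect
open Cfsg.Agent.Lib.Helper19Ind Cfsg.Agent.Lib.Helper20First Cfsg.Agent.Lib.Helper20Induced
open Cfsg.Agent.Lib.Helper4Char Cfsg.Agent.Lib.Helper4Char2
open Cfsg.Agent.Lib.Helper87Sylow Cfsg.Agent.Lib.Helper20Sub
open Cfsg.Agent.Lib.Helper20Conj Cfsg.Agent.Lib.Helper20DefCard Cfsg.Agent.Lib.Helper20Height
open Cfsg.Agent.Lib.Helper21Cover Cfsg.Agent.Lib.Helper21Cover4 Cfsg.Agent.Lib.Helper20Cov
open Cfsg.Agent.Lib.Helper20Fong Cfsg.Agent.Lib.Helper20Tower Cfsg.Agent.Lib.Helper80Transport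
open Cfsg.Agent.Lib.Helper82Quot Cfsg.Agent.Lib.Helper21FR Cfsg.Agent.Lib.Helper21FR2
open Cfsg.Agent.Lib.Helper20Down Cfsg.Agent.Lib.Helper20FRK Cfsg.Agent.Lib.Helper20Mid
open Cfsg.Agent.Lib.Helper20Major Cfsg.Agent.Lib.Helper20Ext Cfsg.Agent.Lib.Helper20Brauer

variable {G : Type*} [Group G] [Fintype G] {M : Ideal Cfsg.AlgInt} {p : ℕ}

section Tower

variable {K H : Subgroup G} [Fintype K] [Fintype H] [Fintype (K.subgroupOf H)] (hKH : K ≤ H)

/-- restriction of a function on `H` to `K ≤ H`. -/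
def resIn (a : H → ℂ) : K → ℂ := fun k => a ⟨(k : G), hKH k.2⟩

theorem inducedCentralCharIn_eq (ξ : K → ℂ) (h : H) :
    inducedCentralCharIn H K ξ (h : G) = om ξ (resIn hKH (classInd h)) := by
  classical
  rw [inducedCentralCharIn, finsum_mem_eq_sum_ite, om, Finset.sum_div]
  apply Finset.sum_congr rfl
  intro k _
  have hiff : (k ∈ {k : K | ∃ x : H, (x : G) * (k : G) * (x : G)⁻¹ = (h : G)}) ↔
      IsConj h (⟨(k : G), hKH k.2⟩ : H) := by
    rw [Set.mem_ofPred_eq, isConj_comm, isConj_iff]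
    constructor
    · rintro ⟨x, hx⟩
      exact ⟨x, Subtype.ext hx⟩
    · rintro ⟨x, hx⟩
      exact ⟨x, congrArg Subtype.val hx⟩
  simp only [resIn, classInd]
  by_cases hc : IsConj h (⟨(k : G), hKH k.2⟩ : H)
  · rw [if_pos (hiff.2 hc), if_pos hc, one_mul]
  · rw [if_neg (fun h' => hc (hiff.1 h')), if_neg hc, zero_mul, zero_div]

theorem res_eq_resIn_comp (a : H → ℂ) :
    res (K.subgroupOf H) a = (resIn hKH a) ∘ (Subgroup.subgroupOfEquivOfLe hKH).symm.symm := by
  funext x
  rfl

theorem om_down (ξ : IrrCharacter K) (a : H → ℂ) :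
    om ((irrCongr (Subgroup.subgroupOfEquivOfLe hKH).symm ξ : IrrCharacter _) : _ → ℂ)
      (res (K.subgroupOf H) a) = om (ξ : K → ℂ) (resIn hKH a) := by
  rw [res_eq_resIn_comp hKH, om_irrCongr]

/-- the relative induction of the prelude is induction inside the group `H`. -/
theorem isInducedBlockIn_iff (e : Set (IrrCharacter K)) (f : Set (IrrCharacter H)) :
    IsInducedBlockIn M H K e f ↔ IsInducedBlock M (K.subgroupOf H) (down hKH e) f := by
  constructor
  · rintro ⟨he, hf, h⟩
    refine ⟨isPBlock_down hKH he, hf, ?_⟩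
    rintro _ ⟨ξ, hξ, rfl⟩ χ hχ g
    have := h ξ hξ χ hχ g
    rwa [inducedCentralCharIn_eq hKH, ← om_down hKH, ← inducedCentralChar_eq] at this
  · rintro ⟨he, hf, h⟩
    refine ⟨?_, hf, ?_⟩
    · have := isPBlock_mapBlk (M := M) (Subgroup.subgroupOfEquivOfLe hKH).symm.symm he
      rwa [show mapBlk (Subgroup.subgroupOfEquivOfLe hKH).symm.symm (down hKH e) = e from
        mapBlk_symm _ e] at this
    · intro ξ hξ χ hχ g
      have := h _ ⟨ξ, hξ, rfl⟩ χ hχ g
      rwa [inducedCentralCharIn_eq hKH, ← om_down hKH, ← inducedCentralChar_eq]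

theorem down_injective {e e' : Set (IrrCharacter K)} (h : down hKH e = down hKH e') : e = e' := by
  have := congrArg (mapBlk (Subgroup.subgroupOfEquivOfLe hKH).symm.symm) h
  rwa [show mapBlk (Subgroup.subgroupOfEquivOfLe hKH).symm.symm (down hKH e) = e from
    mapBlk_symm _ e, show mapBlk (Subgroup.subgroupOfEquivOfLe hKH).symm.symm (down hKH e') = e'
    from mapBlk_symm _ e'] at this

/-- every block of `K.subgroupOf H` comes from `K`. -/
theorem exists_down (b : Set (IrrCharacter (K.subgroupOf H))) :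
    ∃ e : Set (IrrCharacter K), down hKH e = b :=
  ⟨mapBlk (Subgroup.subgroupOfEquivOfLe hKH) b, mapBlk_symm (Subgroup.subgroupOfEquivOfLe hKH) b⟩

theorem isPBlock_of_down {e : Set (IrrCharacter K)} (h : IsPBlock M (down hKH e)) :
    IsPBlock M e := by
  have := isPBlock_mapBlk (M := M) (Subgroup.subgroupOfEquivOfLe hKH).symm.symm h
  rwa [show mapBlk (Subgroup.subgroupOfEquivOfLe hKH).symm.symm (down hKH e) = e from
    mapBlk_symm _ e] at this

variable [Fact p.Prime]

theorem isDefectGroup_down_iff {e : Set (IrrCharacter K)} (D : Subgroup G) :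
    IsDefectGroup p M (down hKH e) ((D.subgroupOf H).subgroupOf (K.subgroupOf H)) ↔
      IsDefectGroup p M e (D.subgroupOf K) := by
  have e1 : (D.subgroupOf K).map (Subgroup.subgroupOfEquivOfLe hKH).symm.toMonoidHom
      = (D.subgroupOf H).subgroupOf (K.subgroupOf H) := by
    ext x
    simp only [Subgroup.mem_map, Subgroup.mem_subgroupOf]
    constructor
    · rintro ⟨k, hk, rfl⟩
      exact hk
    · intro hx
      exact ⟨Subgroup.subgroupOfEquivOfLe hKH x, hx, by simp⟩
  constructor
  · intro h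
    have h2 := isDefectGroup_mapBlk (Subgroup.subgroupOfEquivOfLe hKH).symm.symm h
    rw [show mapBlk (Subgroup.subgroupOfEquivOfLe hKH).symm.symm (down hKH e) = e from
      mapBlk_symm _ e, ← e1] at h2
    convert h2 using 1
    ext x
    simp only [Subgroup.mem_map]
    constructor
    · intro hx
      exact ⟨_, ⟨x, hx, rfl⟩, by simp⟩
    · rintro ⟨_, ⟨y, hy, rfl⟩, rfl⟩
      simpa using hy
  · intro h
    have h2 := isDefectGroup_mapBlk (Subgroup.subgroupOfEquivOfLe hKH).symm h
    rwa [e1] at h2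

end Tower

section FMT

variable [Fact p.Prime]

/-- versions of the first main theorem for a subgroup equal to the normalizer. -/
theorem induced_unique' {X : Type*} [Group X] [Fintype X] {D K : Subgroup X} [Fintype K]
    (hK : K = Subgroup.normalizer (D : Set X)) (hM : IsPModular p M) (hD : IsPGroup p D)
    {b₁ b₂ : Set (IrrCharacter K)} {B : Set (IrrCharacter X)}
    (h1 : IsInducedBlock M K b₁ B) (h2 : IsInducedBlock M K b₂ B)
    (hd1 : IsDefectGroup p M b₁ (D.subgroupOf K)) : b₁ = b₂ := by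
  subst hK
  exact induced_unique hM hD h1 h2 hd1

theorem exists_block_induced' {X : Type*} [Group X] [Fintype X] {D K : Subgroup X} [Fintype K]
    (hK : K = Subgroup.normalizer (D : Set X)) (hM : IsPModular p M) (hD : IsPGroup p D)
    {B : Set (IrrCharacter X)} (hB : IsPBlock M B) (hBD : IsDefectGroup p M B D) :
    ∃ b : Set (IrrCharacter K), IsInducedBlock M K b B ∧ IsDefectGroup p M b (D.subgroupOf K) := by
  subst hK
  obtain ⟨b, hb⟩ := exists_block_induced hM hD hB hBD
  exact ⟨b, hb, defectGroup_of_induced hM hD hb hBD⟩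

theorem normalizer_subgroupOf {P H : Subgroup G} (hPH : P ≤ H) :
    (Subgroup.normalizer (P : Set G)).subgroupOf H
      = Subgroup.normalizer ((P.subgroupOf H : Subgroup H) : Set H) := by
  ext x
  rw [Subgroup.mem_subgroupOf, Subgroup.mem_normalizer_iff, Subgroup.mem_normalizer_iff]
  constructor
  · intro h y
    exact h (y : G)
  · intro h y
    constructor
    · intro hy
      exact (h ⟨y, hPH hy⟩).1 hy
    · intro hy
      have hyH : y ∈ H := by
        have h1 := hPH hy
        have h2 := H.mul_mem (H.mul_mem (H.inv_mem x.2) h1) x.2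
        have e : (x : G)⁻¹ * ((x : G) * y * (x : G)⁻¹) * (x : G) = y := by group
        rwa [e] at h2
      exact (h ⟨y, hyH⟩).2 hy

/-- a block of `H ⊇ N_G(P)` with defect group `P` is induced from a block of `N_G(P)` with defect
group `P`. -/
theorem exists_normalizer_block (hM : IsPModular p M) {P H : Subgroup G} [Fintype H]
    (hP : IsPGroup p P) (hNH : Subgroup.normalizer (P : Set G) ≤ H)
    {c : Set (IrrCharacter H)} (hc : IsPBlock M c)
    (hcP : IsDefectGroup p M c (P.subgroupOf H)) :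
    ∃ γ : Set (IrrCharacter (Subgroup.normalizer (P : Set G))), IsPBlock M γ ∧
      IsDefectGroup p M γ (P.subgroupOf (Subgroup.normalizer (P : Set G))) ∧
      IsInducedBlock M ((Subgroup.normalizer (P : Set G)).subgroupOf H) (down hNH γ) c := by
  classical
  have hPH : P ≤ H := Subgroup.le_normalizer.trans hNH
  have hP' : IsPGroup p (P.subgroupOf H) :=
    hP.of_equiv (Subgroup.subgroupOfEquivOfLe hPH).symm
  obtain ⟨b, hb, hbD⟩ := exists_block_induced' (normalizer_subgroupOf hPH) hM hP' hc hcP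
  obtain ⟨γ, rfl⟩ := exists_down hNH b
  exact ⟨γ, isPBlock_of_down hNH hb.1, (isDefectGroup_down_iff hNH P).1 hbD, hb⟩

/-- the first main theorem over `H ⊇ N_G(P)`: defect groups. -/
theorem induced_defectGroup_of_le (hM : IsPModular p M) {P H : Subgroup G} [Fintype H]
    (hP : IsPGroup p P) (hNH : Subgroup.normalizer (P : Set G) ≤ H)
    {c : Set (IrrCharacter H)} (hcP : IsDefectGroup p M c (P.subgroupOf H))
    {B : Set (IrrCharacter G)} (hind : IsInducedBlock M H c B) : IsDefectGroup p M B P := by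
  classical
  have hPr := IsPModular.isPrime hM
  obtain ⟨γ, hγ, hγP, hγc⟩ := exists_normalizer_block hM hP hNH hind.1 hcP
  exact induced_defectGroup hM hP hγP (induced_trans hNH hPr hγ hγc hind)

/-- the first main theorem over `H ⊇ N_G(P)`: injectivity. -/
theorem induced_unique_of_le (hM : IsPModular p M) {P H : Subgroup G} [Fintype H]
    (hP : IsPGroup p P) (hNH : Subgroup.normalizer (P : Set G) ≤ H)
    {c₁ c₂ : Set (IrrCharacter H)} (hc₁ : IsDefectGroup p M c₁ (P.subgroupOf H))
    (hc₂ : IsDefectGroup p M c₂ (P.subgroupOf H))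
    {B : Set (IrrCharacter G)} (h₁ : IsInducedBlock M H c₁ B) (h₂ : IsInducedBlock M H c₂ B) :
    c₁ = c₂ := by
  classical
  have hPr := IsPModular.isPrime hM
  obtain ⟨γ₁, hγ₁, hγP₁, hγc₁⟩ := exists_normalizer_block hM hP hNH h₁.1 hc₁
  obtain ⟨γ₂, hγ₂, hγP₂, hγc₂⟩ := exists_normalizer_block hM hP hNH h₂.1 hc₂
  have e : γ₁ = γ₂ := induced_unique hM hP (induced_trans hNH hPr hγ₁ hγc₁ h₁)
    (induced_trans hNH hPr hγ₂ hγc₂ h₂) hγP₁
  subst e
  exact induced_block_unique hPr hγc₁ hγc₂

end FMT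

end Cfsg.Agent.Lib.Helper20Rel
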