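import Mathlib
import Cfsg.Agent.Lib.Helper20SNDefs
import Cfsg.Agent.S0183

set_option autoImplicit false

namespace Cfsg.Agent.Lib.Helper29SNOdd

open Cfsg.Agent.Lib.Helper20SNDefs

/-- piece `odd` (S0183) -/
theorem CA.solvable_of_odd {G : Type*} [Group G] [Finite G] (h : CA G) (hodd : Odd (Nat.card G)) :
    Group.IsSolvable G := by
  apply Cfsg.Agent.S0183.result hodd
  intro g hg
  have hab := h.ab_centralizer hg
  let _ : CommGroup (Subgroup.centralizer ({g} : Set G)) :=
    { (inferInstance : Group (Subgroup.centralizer ({g} : Set G))) with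
      mul_comm := fun a b => Subtype.ext (hab a a.2 b b.2) }
  infer_instance

end Cfsg.Agent.Lib.Helper29SNOdd
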