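import Mathlib
import Cfsg.Agent.Lib.Helper20SNDefs
import Cfsg.Agent.Lib.Helper29SNOdd

set_option autoImplicit false

namespace Cfsg.Agent.Lib.Helper29SNCyc

open Cfsg.Agent.Lib.Helper20SNDefs

/-- piece `cyc` -/
theorem CA.solvable_of_cyclic {G : Type*} [Group G] [Finite G] (h : CA G)
    (hc : ∀ P : Sylow 2 G, IsCyclic P) : Group.IsSolvable G := by
  have : Fact (Nat.Prime 2) := ⟨Nat.prime_two⟩
  by_cases hodd : Odd (Nat.card G)
  · exact Cfsg.Agent.Lib.Helper29SNOdd.CA.solvable_of_odd h hodd
  have heven : 2 ∣ Nat.card G := by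
    rw [← even_iff_two_dvd, ← Nat.not_odd_iff_even]
    exact hodd
  have hmin : (Nat.card G).minFac = 2 := (Nat.minFac_eq_two_iff _).2 heven
  obtain ⟨P⟩ : Nonempty (Sylow 2 G) := inferInstance
  have hP := IsCyclic.normalizer_le_centralizer hmin (hc P)
  set f := MonoidHom.transferSylow P hP with hf
  have hker : ¬ 2 ∣ Nat.card f.ker := MonoidHom.not_dvd_card_ker_transferSylow P hP
  have hKs : Group.IsSolvable f.ker := by
    apply Cfsg.Agent.Lib.Helper29SNOdd.CA.solvable_of_odd (h.subgroup f.ker)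
    rw [← Nat.not_even_iff_odd, even_iff_two_dvd]
    exact hker
  have hPs : Group.IsSolvable (P : Subgroup G) := by
    have : Group.IsNilpotent (P : Subgroup G) := P.2.isNilpotent
    infer_instance
  exact Group.isSolvable_of_ker_le_range f.ker.subtype f (by rw [Subgroup.range_subtype])

end Cfsg.Agent.Lib.Helper29SNCyc
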