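import Mathlib
import Cfsg.Agent.Lib.Helper20SNDefs
import Cfsg.Agent.Lib.Helper29SNOdd

set_option autoImplicit false

namespace Cfsg.Agent.Lib.Helper29SNNor

open Cfsg.Agent.Lib.Helper20SNDefs

/-- piece `nor` -/
theorem CA.solvable_of_normal {G : Type*} [Group G] [Finite G] (h : CA G)
    (hc : ∀ P : Sylow 2 G, (P : Subgroup G).Normal) : Group.IsSolvable G := by
  have : Fact (Nat.Prime 2) := ⟨Nat.prime_two⟩
  obtain ⟨P⟩ : Nonempty (Sylow 2 G) := inferInstance
  have hPn : (P : Subgroup G).Normal := hc P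
  have hcop : Nat.Coprime (Nat.card (P : Subgroup G)) (P : Subgroup G).index :=
    P.card_coprime_index
  obtain ⟨K, hK⟩ := Subgroup.exists_right_complement'_of_coprime hcop
  -- `K` has odd order
  have hKcard : Nat.card K = (P : Subgroup G).index := by
    have h1 := hK.card_mul_card
    have h2 := Subgroup.card_mul_index (P : Subgroup G)
    have hpos : 0 < Nat.card (P : Subgroup G) := Nat.card_pos
    exact Nat.eq_of_mul_eq_mul_left hpos (h1.trans h2.symm)
  have hKodd : Odd (Nat.card K) := by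
    rw [hKcard, ← Nat.not_even_iff_odd, even_iff_two_dvd]
    exact P.not_dvd_index
  have hKs : Group.IsSolvable K := Cfsg.Agent.Lib.Helper29SNOdd.CA.solvable_of_odd (h.subgroup K) hKodd
  have hPs : Group.IsSolvable (P : Subgroup G) := by
    have : Group.IsNilpotent (P : Subgroup G) := P.2.isNilpotent
    infer_instance
  -- `G ⧸ P` is a quotient of `K`
  have hQs : Group.IsSolvable (G ⧸ (P : Subgroup G)) := by
    let f : K →* G ⧸ (P : Subgroup G) := (QuotientGroup.mk' (P : Subgroup G)).comp K.subtype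
    apply Group.isSolvable_of_surjective (f := f)
    intro x
    obtain ⟨g, rfl⟩ := QuotientGroup.mk'_surjective _ x
    obtain ⟨⟨⟨a, ha⟩, ⟨b, hb⟩⟩, hab⟩ := hK.2 g
    refine ⟨⟨b, hb⟩, ?_⟩
    show (QuotientGroup.mk b : G ⧸ (P : Subgroup G)) = QuotientGroup.mk g
    have hab' : a * b = g := hab
    rw [QuotientGroup.eq, ← hab']
    have := hPn.conj_mem a ha b⁻¹
    simpa [mul_assoc] using this
  exact (Group.isSolvable_iff_subgroup_quotient (P : Subgroup G)).2 ⟨hPs, hQs⟩

end Cfsg.Agent.Lib.Helper29SNNor
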