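import Mathlib.GroupTheory.Sylow
import Mathlib.GroupTheory.PGroup
import Mathlib.GroupTheory.Coset.Basic
import Mathlib.GroupTheory.OrderOfElement
import Mathlib.GroupTheory.Perm.Cycle.Type
import Cfsg.Prelude.Def_Involutions

set_option autoImplicit false

namespace Cfsg.Agent.Lib.Helper26StrEmb

open MulAction

variable {G : Type*} [Group G]

theorem mem_map_conj (X : Subgroup G) (a x : G) :
    x ∈ X.map (MulAut.conj a).toMonoidHom ↔ a⁻¹ * x * a ∈ X := by
  constructor
  · rintro ⟨y, hy, rfl⟩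
    simpa [mul_assoc] using hy
  · intro h
    exact ⟨_, h, by simp [mul_assoc]⟩

theorem smul_mk_eq_iff (H : Subgroup G) (a g : G) :
    a • (QuotientGroup.mk g : G ⧸ H) = QuotientGroup.mk g ↔ g⁻¹ * a * g ∈ H := by
  rw [MulAction.Quotient.smul_mk, eq_comm, QuotientGroup.eq, smul_eq_mul, mul_assoc]

theorem smul_mk_one_eq_iff (H : Subgroup G) (a : G) :
    a • (QuotientGroup.mk 1 : G ⧸ H) = QuotientGroup.mk 1 ↔ a ∈ H := by
  rw [smul_mk_eq_iff]; simp

theorem orderOf_conj (a g : G) : orderOf (g * a * g⁻¹) = orderOf a := by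
  have := orderOf_injective (MulAut.conj g).toMonoidHom (MulAut.conj g).injective a
  simpa using this

theorem sq_eq_one_of_orderOf {t : G} (ht : orderOf t = 2) : t * t = 1 := by
  rw [← pow_two, ← ht]; exact pow_orderOf_eq_one t

theorem inv_eq_self_of_orderOf {t : G} (ht : orderOf t = 2) : t⁻¹ = t :=
  inv_eq_of_mul_eq_one_left (sq_eq_one_of_orderOf ht)

theorem ne_one_of_orderOf {t : G} (ht : orderOf t = 2) : t ≠ 1 := by
  rintro rfl
  simp at ht

theorem orderOf_eq_two_of {t : G} (h1 : t * t = 1) (h2 : t ≠ 1) : orderOf t = 2 := by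
  apply orderOf_eq_prime
  · rw [pow_two]; exact h1
  · exact h2

/-- An involution fixes at most one coset of a strongly embedded subgroup. -/
theorem fixed_unique {H : Subgroup G} (hH : Cfsg.IsStronglyEmbedded H) {t : G}
    (ht : orderOf t = 2) {x y : G ⧸ H} (hx : t • x = x) (hy : t • y = y) : x = y := by
  induction x using QuotientGroup.induction_on with
  | H a =>
  induction y using QuotientGroup.induction_on with
  | H b =>
  rw [smul_mk_eq_iff] at hx hy
  rw [QuotientGroup.eq]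
  by_contra hg
  have hodd := hH.2.2 _ hg
  have hmem : a⁻¹ * t * a ∈ H ⊓ H.map (MulAut.conj (a⁻¹ * b)).toMonoidHom := by
    refine ⟨hx, ?_⟩
    show _ ∈ H.map (MulAut.conj (a⁻¹ * b)).toMonoidHom
    rw [mem_map_conj]
    simpa [mul_assoc] using hy
  have hord : orderOf (a⁻¹ * t * a) = 2 := by
    have := orderOf_conj t a⁻¹
    rw [inv_inv] at this
    rw [this, ht]
  have hdvd : 2 ∣ Nat.card ↥(H ⊓ H.map (MulAut.conj (a⁻¹ * b)).toMonoidHom) := by
    have h1 := orderOf_dvd_natCard (⟨_, hmem⟩ : ↥(H ⊓ H.map (MulAut.conj (a⁻¹ * b)).toMonoidHom))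
    rwa [← Subgroup.orderOf_coe, hord] at h1
  exact (Nat.not_even_iff_odd.2 hodd) (even_iff_two_dvd.2 hdvd)

theorem exists_invol_mem [Finite G] {H : Subgroup G} (hH : Cfsg.IsStronglyEmbedded H) :
    ∃ s ∈ H, orderOf s = 2 := by
  have : Fact (Nat.Prime 2) := ⟨Nat.prime_two⟩
  obtain ⟨s, hs⟩ := exists_prime_orderOf_dvd_card' (G := H) 2 (even_iff_two_dvd.1 hH.2.1)
  exact ⟨s, s.2, by rw [Subgroup.orderOf_coe, hs]⟩

theorem isPGroup_zpowers {t : G} (ht : orderOf t = 2) : IsPGroup 2 (Subgroup.zpowers t) := by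
  rintro ⟨g, hg⟩
  obtain ⟨n, rfl⟩ := Subgroup.mem_zpowers_iff.1 hg
  refine ⟨1, ?_⟩
  ext
  have h2 : t ^ (2 : ℤ) = 1 := by
    rw [zpow_ofNat, pow_two]; exact sq_eq_one_of_orderOf ht
  show (t ^ n) ^ 2 ^ 1 = 1
  rw [pow_one, ← zpow_ofNat, ← zpow_mul, mul_comm, zpow_mul, h2, one_zpow]

theorem mem_fixedPoints_zpowers {H : Subgroup G} (t : G) (x : G ⧸ H) :
    x ∈ fixedPoints (Subgroup.zpowers t) (G ⧸ H) ↔ t • x = x := by
  constructor
  · intro h
    exact h ⟨t, Subgroup.mem_zpowers t⟩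
  · rintro h ⟨g, hg⟩
    obtain ⟨n, rfl⟩ := Subgroup.mem_zpowers_iff.1 hg
    show t ^ n • x = x
    exact zpow_smul_eq_iff_minimalPeriod_dvd.2 (by
      have : Function.minimalPeriod (t • ·) x = 1 := by
        rw [Function.minimalPeriod_eq_one_iff_isFixedPt]; exact h
      rw [this]; simp)

theorem not_two_dvd_card_quot [Finite G] {H : Subgroup G} (hH : Cfsg.IsStronglyEmbedded H) :
    ¬ 2 ∣ Nat.card (G ⧸ H) := by
  have : Fact (Nat.Prime 2) := ⟨Nat.prime_two⟩
  obtain ⟨s, hsH, hs⟩ := exists_invol_mem hH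
  intro hdvd
  have hfix : (QuotientGroup.mk 1 : G ⧸ H) ∈ fixedPoints (Subgroup.zpowers s) (G ⧸ H) := by
    rw [mem_fixedPoints_zpowers, smul_mk_one_eq_iff]; exact hsH
  obtain ⟨b, hb, hne⟩ :=
    (isPGroup_zpowers hs).exists_fixed_point_of_prime_dvd_card_of_fixed_point (G ⧸ H) hdvd hfix
  rw [mem_fixedPoints_zpowers] at hb hfix
  exact hne (fixed_unique hH hs hfix hb)

/-- Every involution fixes a coset of a strongly embedded subgroup. -/
theorem exists_fixed [Finite G] {H : Subgroup G} (hH : Cfsg.IsStronglyEmbedded H) {t : G}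
    (ht : orderOf t = 2) : ∃ x : G ⧸ H, t • x = x := by
  have : Fact (Nat.Prime 2) := ⟨Nat.prime_two⟩
  obtain ⟨x, hx⟩ := (isPGroup_zpowers ht).nonempty_fixed_point_of_prime_not_dvd_card (G ⧸ H)
    (not_two_dvd_card_quot hH)
  exact ⟨x, (mem_fixedPoints_zpowers t x).1 hx⟩

/-- The dihedral dichotomy for two involutions. -/
theorem dihedral_dichotomy [Finite G] {a b : G} (ha : orderOf a = 2) (hb : orderOf b = 2) :
    (∃ i : G, orderOf i = 2 ∧ i * a = a * i ∧ i * b = b * i) ∨
    (∃ w : G, orderOf w = 2 ∧ w * a * w⁻¹ = b) := by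
  have ha2 := sq_eq_one_of_orderOf ha
  have hb2 := sq_eq_one_of_orderOf hb
  have hai := inv_eq_self_of_orderOf ha
  have hbi := inv_eq_self_of_orderOf hb
  set c := a * b with hc
  have hcinv : c⁻¹ = b * a := by rw [hc, mul_inv_rev, hai, hbi]
  have hac : ∀ n : ℕ, a * c ^ n * a = (c ^ n)⁻¹ := by
    intro n
    have h1 : a * c * a⁻¹ = c⁻¹ := by
      rw [hcinv, hc, hai]
      calc a * (a * b) * a = (a * a) * b * a := by group
        _ = b * a := by rw [ha2, one_mul]
    have h2 : a * c ^ n * a⁻¹ = (a * c * a⁻¹) ^ n := (conj_pow).symm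
    rw [h1, hai, inv_pow] at h2
    exact h2
  have hbc : ∀ n : ℕ, b * c ^ n * b = (c ^ n)⁻¹ := by
    intro n
    have h1 : b * c * b⁻¹ = c⁻¹ := by
      rw [hcinv, hc, hbi]
      calc b * (a * b) * b = b * a * (b * b) := by group
        _ = b * a := by rw [hb2, mul_one]
    have h2 : b * c ^ n * b⁻¹ = (b * c * b⁻¹) ^ n := (conj_pow).symm
    rw [h1, hbi, inv_pow] at h2
    exact h2
  rcases Nat.even_or_odd' (orderOf c) with ⟨m, hm | hm⟩
  · left
    have hpos : 0 < orderOf c := orderOf_pos c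
    have hm0 : 0 < m := by omega
    have hi2 : c ^ m * c ^ m = 1 := by
      rw [← pow_add, ← two_mul, ← hm]; exact pow_orderOf_eq_one c
    have hi1 : c ^ m ≠ 1 := by
      intro h
      have := orderOf_le_of_pow_eq_one hm0 h
      omega
    have hinv : (c ^ m)⁻¹ = c ^ m := inv_eq_of_mul_eq_one_left hi2
    refine ⟨c ^ m, orderOf_eq_two_of hi2 hi1, ?_, ?_⟩
    · have := hac m
      rw [hinv] at this
      calc c ^ m * a = (a * c ^ m * a) * a := by rw [this]
        _ = a * c ^ m * (a * a) := by group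
        _ = a * c ^ m := by rw [ha2, mul_one]
    · have := hbc m
      rw [hinv] at this
      calc c ^ m * b = (b * c ^ m * b) * b := by rw [this]
        _ = b * c ^ m * (b * b) := by group
        _ = b * c ^ m := by rw [hb2, mul_one]
  · right
    have hpow : c ^ (m + 1) * c ^ (m + 1) = c := by
      rw [← pow_add]
      have : m + 1 + (m + 1) = orderOf c + 1 := by omega
      rw [this, pow_add, pow_orderOf_eq_one, one_mul, pow_one]
    set w := a * c ^ (m + 1) with hw
    have hw2 : w * w = 1 := by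
      calc w * w = (a * c ^ (m + 1) * a) * c ^ (m + 1) := by rw [hw]; group
        _ = 1 := by rw [hac]; group
    have hwinv : w⁻¹ = w := inv_eq_of_mul_eq_one_left hw2
    have hconj : w * a * w⁻¹ = b := by
      rw [hwinv]
      calc w * a * w = (a * c ^ (m + 1) * a) * (a * c ^ (m + 1) * a) * a := by
            rw [hw]
            calc a * c ^ (m + 1) * a * (a * c ^ (m + 1))
                = a * c ^ (m + 1) * a * (a * c ^ (m + 1)) * (a * a) := by rw [ha2, mul_one]
              _ = _ := by group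
        _ = (c ^ (m + 1) * c ^ (m + 1))⁻¹ * a := by rw [hac]; group
        _ = b := by rw [hpow, hcinv, mul_assoc, ha2, mul_one]
    refine ⟨w, orderOf_eq_two_of hw2 ?_, hconj⟩
    intro h1
    rw [h1] at hconj
    have hab : a = b := by simpa using hconj
    have hc1 : c = 1 := by rw [hc, ← hab, ha2]
    rw [hw, hc1, one_pow, mul_one] at h1
    exact ne_one_of_orderOf ha h1

/-- Involutions with distinct fixed points are swapped by an involution. -/
theorem exists_swap [Finite G] {H : Subgroup G} (hH : Cfsg.IsStronglyEmbedded H) {s s' : G}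
    (hs : orderOf s = 2) (hs' : orderOf s' = 2) {x y : G ⧸ H} (hx : s • x = x) (hy : s' • y = y)
    (hxy : x ≠ y) : ∃ w : G, orderOf w = 2 ∧ w * s * w⁻¹ = s' ∧ w • x = y ∧ w • y = x := by
  rcases dihedral_dichotomy hs hs' with ⟨i, hi, his, his'⟩ | ⟨w, hw, hconj⟩
  · exfalso
    have h1 : i • x = x := by
      apply fixed_unique hH hs _ hx
      rw [← mul_smul, ← his, mul_smul, hx]
    have h2 : i • y = y := by
      apply fixed_unique hH hs' _ hy
      rw [← mul_smul, ← his', mul_smul, hy]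
    exact hxy (fixed_unique hH hi h1 h2)
  · have h1 : w • x = y := by
      apply fixed_unique hH hs' _ hy
      rw [← hconj, ← mul_smul]
      simp [mul_smul, hx]
    refine ⟨w, hw, hconj, h1, ?_⟩
    rw [← h1, ← mul_smul, sq_eq_one_of_orderOf hw, one_smul]

end Cfsg.Agent.Lib.Helper26StrEmb
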