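import Mathlib.GroupTheory.Sylow
import Mathlib.GroupTheory.Subgroup.Centralizer
import Mathlib.GroupTheory.SpecificGroups.Cyclic
import Cfsg.Agent.Lib.Helper26StrEmb

set_option autoImplicit false

namespace Cfsg.Agent.Lib.Helper26ElemCent

open Cfsg.Agent.Lib.Helper26StrEmb

variable {G : Type*} [Group G]

/-- The standing hypothesis: centralizers of involutions are elementary abelian 2-groups. -/
def ElemCent (G : Type*) [Group G] : Prop :=
  ∀ t : G, orderOf t = 2 → IsMulCommutative (Subgroup.centralizer ({t} : Set G)) ∧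
    ∀ c ∈ Subgroup.centralizer ({t} : Set G), c ^ 2 = 1

theorem isPGroup_of_sq {K : Subgroup G} (h : ∀ c ∈ K, c ^ 2 = 1) : IsPGroup 2 K := by
  intro x
  refine ⟨1, ?_⟩
  ext
  simpa using h x x.2

/-- An involution of the normalizer of a Sylow 2-subgroup lies in it. -/
theorem invol_mem_of_mem_normalizer (T : Sylow 2 G) {s : G} (hs : orderOf s = 2)
    (hsN : s ∈ Subgroup.normalizer ((T : Subgroup G) : Set G)) : s ∈ (T : Subgroup G) := by
  have h1 : IsPGroup 2 (Subgroup.zpowers s ⊔ (T : Subgroup G) : Subgroup G) :=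
    (isPGroup_zpowers hs).to_sup_of_normal_right' T.2 (by rwa [Subgroup.zpowers_le])
  have h2 := T.3 h1 le_sup_right
  rw [← h2]
  exact (le_sup_left : Subgroup.zpowers s ≤ _) (Subgroup.mem_zpowers s)

theorem exists_central_invol [Finite G] (T : Sylow 2 G) (hT : (T : Subgroup G) ≠ ⊥) :
    ∃ z ∈ (T : Subgroup G), orderOf z = 2 ∧ ∀ a ∈ (T : Subgroup G), a * z = z * a := by
  have : Fact (Nat.Prime 2) := ⟨Nat.prime_two⟩
  have hnt : Nontrivial (T : Subgroup G) := (Subgroup.nontrivial_iff_ne_bot _).2 hT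
  have hc : Nontrivial (Subgroup.center (T : Subgroup G)) := T.2.center_nontrivial
  have hcp : IsPGroup 2 (Subgroup.center (T : Subgroup G)) := T.2.to_subgroup _
  obtain ⟨n, hn0, hn⟩ := hcp.nontrivial_iff_card.1 hc
  have hdvd : 2 ∣ Nat.card (Subgroup.center (T : Subgroup G)) := by
    rw [hn]; exact dvd_pow_self 2 hn0.ne'
  obtain ⟨z, hz⟩ := exists_prime_orderOf_dvd_card' (G := Subgroup.center (T : Subgroup G)) 2 hdvd
  refine ⟨((z : (T : Subgroup G)) : G), (z : (T : Subgroup G)).2, ?_, ?_⟩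
  · rw [Subgroup.orderOf_coe, Subgroup.orderOf_coe, hz]
  · intro a ha
    have := (Subgroup.mem_center_iff.1 z.2) ⟨a, ha⟩
    simpa using congrArg Subtype.val this

/-- Under `ElemCent`, the centralizer of an involution of `T` is `T`. -/
theorem centralizer_eq [Finite G] (hC : ElemCent G) (T : Sylow 2 G) {t : G} (ht : orderOf t = 2)
    (htT : t ∈ (T : Subgroup G)) : Subgroup.centralizer ({t} : Set G) = (T : Subgroup G) := by
  have hT : (T : Subgroup G) ≠ ⊥ := by
    intro h
    rw [h, Subgroup.mem_bot] at htT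
    exact ne_one_of_orderOf ht htT
  obtain ⟨z, hzT, hz, hzc⟩ := exists_central_invol T hT
  have h1 : (T : Subgroup G) ≤ Subgroup.centralizer ({z} : Set G) := by
    intro a ha
    rw [Subgroup.mem_centralizer_singleton_iff]
    exact hzc a ha
  have h2 : Subgroup.centralizer ({z} : Set G) = (T : Subgroup G) :=
    T.3 (isPGroup_of_sq (hC z hz).2) h1
  have hcomm : ∀ a ∈ (T : Subgroup G), ∀ b ∈ (T : Subgroup G), a * b = b * a := by
    intro a ha b hb
    rw [← h2] at ha hb
    have := (hC z hz).1.is_comm.comm ⟨a, ha⟩ ⟨b, hb⟩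
    simpa using congrArg Subtype.val this
  apply T.3 (isPGroup_of_sq (hC t ht).2)
  intro a ha
  rw [Subgroup.mem_centralizer_singleton_iff]
  exact hcomm a ha t htT

theorem sq_eq_one_of_mem [Finite G] (hC : ElemCent G) (T : Sylow 2 G) {a : G}
    (ha : a ∈ (T : Subgroup G)) : a ^ 2 = 1 := by
  by_cases hT : (T : Subgroup G) = ⊥
  · rw [hT, Subgroup.mem_bot] at ha
    rw [ha, one_pow]
  · obtain ⟨z, hzT, hz, hzc⟩ := exists_central_invol T hT
    rw [← centralizer_eq hC T hz hzT] at ha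
    exact (hC z hz).2 a ha

theorem comm_of_mem [Finite G] (hC : ElemCent G) (T : Sylow 2 G) {a b : G}
    (ha : a ∈ (T : Subgroup G)) (hb : b ∈ (T : Subgroup G)) : a * b = b * a := by
  by_cases hT : (T : Subgroup G) = ⊥
  · rw [hT, Subgroup.mem_bot] at ha
    rw [ha, one_mul, mul_one]
  · obtain ⟨z, hzT, hz, hzc⟩ := exists_central_invol T hT
    rw [← centralizer_eq hC T hz hzT] at ha hb
    have := (hC z hz).1.is_comm.comm ⟨a, ha⟩ ⟨b, hb⟩
    simpa using congrArg Subtype.val this

theorem ne_bot_of_not_cyclic (T : Sylow 2 G) (hnc : ¬ IsCyclic (T : Subgroup G)) :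
    (T : Subgroup G) ≠ ⊥ := by
  intro h
  apply hnc
  rw [h]
  infer_instance

theorem mem_smul_sylow {p : ℕ} (a x : G) (T : Sylow p G) :
    x ∈ ((a • T : Sylow p G) : Subgroup G) ↔ a⁻¹ * x * a ∈ (T : Subgroup G) := by
  rw [Sylow.coe_subgroup_smul, Subgroup.mem_pointwise_smul_iff_inv_smul_mem]
  simp [MulAut.smul_def, mul_assoc]

/-- `N_G(T)` is strongly embedded. -/
theorem stronglyEmbedded_normalizer [Finite G] (hC : ElemCent G) (T : Sylow 2 G)
    (hnc : ¬ IsCyclic (T : Subgroup G)) (hnn : ¬ (T : Subgroup G).Normal) :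
    Cfsg.IsStronglyEmbedded (Subgroup.normalizer ((T : Subgroup G) : Set G)) := by
  have : Fact (Nat.Prime 2) := ⟨Nat.prime_two⟩
  have hT := ne_bot_of_not_cyclic T hnc
  refine ⟨?_, ?_, ?_⟩
  · intro h
    exact hnn (Subgroup.normalizer_eq_top_iff.1 h)
  · obtain ⟨z, hzT, hz, _⟩ := exists_central_invol T hT
    rw [even_iff_two_dvd]
    have := orderOf_dvd_natCard (⟨z, Subgroup.le_normalizer hzT⟩ :
      Subgroup.normalizer ((T : Subgroup G) : Set G))
    rwa [← Subgroup.orderOf_coe, hz] at this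
  · intro g hg
    rw [← Nat.not_even_iff_odd, even_iff_two_dvd]
    intro hdvd
    obtain ⟨s, hs⟩ := exists_prime_orderOf_dvd_card' 2 hdvd
    have hs' : orderOf (s : G) = 2 := by rw [Subgroup.orderOf_coe, hs]
    have h1 : (s : G) ∈ (T : Subgroup G) := invol_mem_of_mem_normalizer T hs' s.2.1
    have h2 : g⁻¹ * (s : G) * g ∈ Subgroup.normalizer ((T : Subgroup G) : Set G) :=
      (mem_map_conj _ g _).1 s.2.2
    have hs'' : orderOf (g⁻¹ * (s : G) * g) = 2 := by
      have := orderOf_conj (s : G) g⁻¹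
      rw [inv_inv] at this
      rw [this, hs']
    have h3 : g⁻¹ * (s : G) * g ∈ (T : Subgroup G) := invol_mem_of_mem_normalizer T hs'' h2
    have h4 : (s : G) ∈ ((g • T : Sylow 2 G) : Subgroup G) := (mem_smul_sylow g _ T).2 h3
    have h5 := centralizer_eq hC T hs' h1
    have h6 := centralizer_eq hC (g • T) hs' h4
    have h7 : g • T = T := Sylow.ext (h6.symm.trans h5)
    exact hg (Sylow.smul_eq_iff_mem_normalizer.1 h7)

end Cfsg.Agent.Lib.Helper26ElemCent
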