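import Cfsg.Prelude.Def_Transfer
import Cfsg.Agent.Lib.Helper26StrEmb
import Cfsg.Agent.Lib.Helper26ElemCent

/-!
# An involution whose centralizer is a four-group: fusion analysis
-/

set_option autoImplicit false

namespace Cfsg.Agent.Lib.Helper26V4a

open Subgroup

variable {G : Type*} [Group G]

theorem comm_of_sq {K : Subgroup G} (h : ∀ c ∈ K, c ^ 2 = 1) {a b : G} (ha : a ∈ K) (hb : b ∈ K) :
    a * b = b * a := by
  have h1 := h a ha
  have h2 := h b hb
  have h3 := h (a * b) (K.mul_mem ha hb)
  have ha' : a⁻¹ = a := by rw [inv_eq_iff_mul_eq_one, ← pow_two]; exact h1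
  have hb' : b⁻¹ = b := by rw [inv_eq_iff_mul_eq_one, ← pow_two]; exact h2
  have : (a * b)⁻¹ = a * b := by rw [inv_eq_iff_mul_eq_one, ← pow_two]; exact h3
  rw [← this, mul_inv_rev, ha', hb']

theorem conj_mem_centralizer {g x c : G} (hc : c ∈ centralizer ({x} : Set G)) :
    g * c * g⁻¹ ∈ centralizer ({g * x * g⁻¹} : Set G) := by
  rw [mem_centralizer_singleton_iff] at hc ⊢
  calc g * c * g⁻¹ * (g * x * g⁻¹) = g * (c * x) * g⁻¹ := by group
    _ = g * (x * c) * g⁻¹ := by rw [hc]
    _ = g * x * g⁻¹ * (g * c * g⁻¹) := by group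

theorem conj_mem_centralizer' {g x c : G} (hc : c ∈ centralizer ({g * x * g⁻¹} : Set G)) :
    g⁻¹ * c * g ∈ centralizer ({x} : Set G) := by
  have h := conj_mem_centralizer (g := g⁻¹) hc
  have e : g⁻¹ * (g * x * g⁻¹) * g⁻¹⁻¹ = x := by group
  rw [e, inv_inv] at h
  exact h

theorem card_centralizer_conj (g x : G) :
    Nat.card (centralizer ({g * x * g⁻¹} : Set G)) = Nat.card (centralizer ({x} : Set G)) := by
  apply Nat.card_congr
  refine ⟨fun c => ⟨g⁻¹ * c * g, conj_mem_centralizer' c.2⟩,
    fun c => ⟨g * c * g⁻¹, conj_mem_centralizer c.2⟩, ?_, ?_⟩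
  · intro c
    ext
    simp only
    group
  · intro c
    ext
    simp only
    group

theorem mem_four {V : Subgroup G} (h4 : Nat.card V = 4) {x a : G} (hx : x ∈ V) (ha : a ∈ V)
    (hx2 : x * x = 1) (hx1 : x ≠ 1) (ha1 : a ≠ 1) (hax : a ≠ x) {c : G} (hc : c ∈ V) :
    c = 1 ∨ c = x ∨ c = a ∨ c = x * a := by
  classical
  have hfin : Finite V := Nat.finite_of_card_ne_zero (by omega)
  have hxa1 : x * a ≠ 1 := by
    intro h
    apply hax
    have : x * a = x * x := by rw [h, hx2]
    exact mul_left_cancel this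
  have hcard : ({1, x, a, x * a} : Finset G).card = 4 := by
    rw [Finset.card_insert_of_notMem, Finset.card_insert_of_notMem, Finset.card_insert_of_notMem,
      Finset.card_singleton]
    · simp [hx1]
    · simp only [Finset.mem_insert, Finset.mem_singleton, not_or]
      exact ⟨hax.symm, by simpa using ha1⟩
    · simp only [Finset.mem_insert, Finset.mem_singleton, not_or]
      exact ⟨hx1.symm, ha1.symm, hxa1.symm⟩
  have hsub : ((({1, x, a, x * a} : Finset G) : Set G)) ⊆ (V : Set G) := by
    intro y hy
    simp only [Finset.coe_insert, Finset.coe_singleton, Set.mem_insert_iff,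
      Set.mem_singleton_iff] at hy
    rcases hy with rfl | rfl | rfl | rfl
    · exact V.one_mem
    · exact hx
    · exact ha
    · exact V.mul_mem hx ha
  have heq := Set.eq_of_subset_of_ncard_le hsub (by
    rw [Set.ncard_coe_finset, hcard]
    have : (V : Set G).ncard = Nat.card V := rfl
    omega) (Set.toFinite _)
  have : c ∈ ((({1, x, a, x * a} : Finset G) : Set G)) := by rw [heq]; exact hc
  simpa using this


theorem centralizer_eq_of_conj [Finite G] {x t g : G}
    (hCe : ∀ c ∈ centralizer ({x} : Set G), c ^ 2 = 1)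
    (ht : t ∈ centralizer ({x} : Set G)) (hg : g * x * g⁻¹ = t) :
    centralizer ({t} : Set G) = centralizer ({x} : Set G) := by
  symm
  apply Subgroup.eq_of_le_of_card_ge
  · intro c hc
    rw [mem_centralizer_singleton_iff]
    exact comm_of_sq hCe hc ht
  · rw [← hg, card_centralizer_conj]

theorem orderOf_conj' (g a : G) : orderOf (g * a * g⁻¹) = orderOf a := by
  have := (MulAut.conj g).orderOf_eq a
  rwa [MulAut.conj_apply] at this

/-- Commuting conjugates. -/
theorem conj_comm [Finite G] {x a : G} (hx : orderOf x = 2)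
    (hC4 : Nat.card (centralizer ({x} : Set G)) = 4)
    (hCe : ∀ c ∈ centralizer ({x} : Set G), c ^ 2 = 1)
    (ha : a ∈ centralizer ({x} : Set G)) (ha1 : a ≠ 1) (hax : a ≠ x)
    (hnconj : ∀ g : G, g * x * g⁻¹ ≠ a) (hconj : ∃ g : G, g * x * g⁻¹ = x * a) (h : G) :
    (h * a * h⁻¹) * a = a * (h * a * h⁻¹) := by
  have hxV : x ∈ centralizer ({x} : Set G) := by rw [mem_centralizer_singleton_iff]
  have hx2 : x * x = 1 := by rw [← pow_two, ← hx]; exact pow_orderOf_eq_one x
  have hx1 : x ≠ 1 := by
    rintro rfl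
    simp at hx
  have ha2 : orderOf a = 2 := orderOf_eq_prime (hCe a ha) ha1
  have hz : orderOf (h * a * h⁻¹) = 2 := by rw [orderOf_conj', ha2]
  rcases Cfsg.Agent.Lib.Helper26StrEmb.dihedral_dichotomy hx hz with ⟨i, hi, hix, hiz⟩ | ⟨w, -, hw⟩
  · have hiV : i ∈ centralizer ({x} : Set G) := by
      rw [mem_centralizer_singleton_iff]; exact hix
    have hi1 : i ≠ 1 := by
      rintro rfl
      simp at hi
    have hzV : ∀ t g : G, t ∈ centralizer ({x} : Set G) → g * x * g⁻¹ = t → i = t →
        (h * a * h⁻¹) * a = a * (h * a * h⁻¹) := by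
      intro t g ht hg hit
      have h1 : h * a * h⁻¹ ∈ centralizer ({t} : Set G) := by
        rw [mem_centralizer_singleton_iff, ← hit]; exact hiz.symm
      rw [centralizer_eq_of_conj hCe ht hg] at h1
      exact comm_of_sq hCe h1 ha
    rcases mem_four hC4 hxV ha hx2 hx1 ha1 hax hiV with h1 | h1 | h1 | h1
    · exact absurd h1 hi1
    · exact hzV x 1 hxV (by simp) h1
    · have h2 := hiz.symm
      rw [h1] at h2
      exact h2
    · obtain ⟨g, hg⟩ := hconj
      exact hzV (x * a) g (mul_mem hxV ha) hg h1
  · exfalso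
    apply hnconj (h⁻¹ * w)
    calc h⁻¹ * w * x * (h⁻¹ * w)⁻¹ = h⁻¹ * (w * x * w⁻¹) * h := by group
      _ = a := by rw [hw]; group

theorem key [Finite G] {x a : G} (hx : orderOf x = 2)
    (hC4 : Nat.card (centralizer ({x} : Set G)) = 4)
    (hCe : ∀ c ∈ centralizer ({x} : Set G), c ^ 2 = 1)
    (ha : a ∈ centralizer ({x} : Set G)) (ha1 : a ≠ 1) (hax : a ≠ x)
    (hnconj : ∀ g : G, g * x * g⁻¹ ≠ a) (hconj : ∃ g : G, g * x * g⁻¹ = x * a) :
    ∃ E : Subgroup G, E.Normal ∧ Cfsg.IsElementaryAbelian 2 E ∧
      (Nat.card E = 2 ∨ Nat.card E = 4) := by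
  classical
  have hxV : x ∈ centralizer ({x} : Set G) := by rw [mem_centralizer_singleton_iff]
  have hx2 : x * x = 1 := by rw [← pow_two, ← hx]; exact pow_orderOf_eq_one x
  have hxi : x⁻¹ = x := by rw [inv_eq_iff_mul_eq_one]; exact hx2
  have hx1 : x ≠ 1 := by
    rintro rfl
    simp at hx
  have ha2 : a * a = 1 := by rw [← pow_two]; exact hCe a ha
  have hcc := conj_comm hx hC4 hCe ha ha1 hax hnconj hconj
  set S : Set G := Group.conjugatesOfSet {a} with hS
  have hSmem : ∀ s ∈ S, ∃ h : G, h * a * h⁻¹ = s := by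
    intro s hs
    rw [hS, Group.mem_conjugatesOfSet_iff] at hs
    obtain ⟨b, hb, hbs⟩ := hs
    rw [Set.mem_singleton_iff] at hb
    subst hb
    exact isConj_iff.1 hbs
  have hScomm : ∀ s ∈ S, ∀ t ∈ S, s * t = t * s := by
    intro s hs t ht
    obtain ⟨h, rfl⟩ := hSmem s hs
    obtain ⟨k, rfl⟩ := hSmem t ht
    have := hcc (k⁻¹ * h)
    calc h * a * h⁻¹ * (k * a * k⁻¹) = k * ((k⁻¹ * h) * a * (k⁻¹ * h)⁻¹ * a) * k⁻¹ := by group
      _ = k * (a * ((k⁻¹ * h) * a * (k⁻¹ * h)⁻¹)) * k⁻¹ := by rw [this]
      _ = k * a * k⁻¹ * (h * a * h⁻¹) := by group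
  set E : Subgroup G := normalClosure {a} with hE
  have hEcl : E = closure S := rfl
  have hEn : E.Normal := normalClosure_normal
  have haE : a ∈ E := subset_normalClosure (Set.mem_singleton a)
  have h1 : closure S ≤ centralizer S := (closure_le _).2 (fun s hs =>
    mem_centralizer_iff.2 (fun t ht => hScomm t ht s hs))
  have hEcomm : ∀ e ∈ E, ∀ f ∈ E, e * f = f * e := by
    have h2 : closure S ≤ centralizer (closure S : Set G) := (closure_le _).2 (fun s hs =>
      mem_centralizer_iff.2 (fun t ht => (mem_centralizer_iff.1 (h1 ht) s hs).symm))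
    intro e he f hf
    rw [hEcl] at he hf
    exact mem_centralizer_iff.1 (h2 hf) e he
  have hEsq : ∀ e ∈ E, e ^ 2 = 1 := by
    intro e he
    rw [hEcl] at he
    induction he using closure_induction with
    | mem s hs =>
      obtain ⟨h, rfl⟩ := hSmem s hs
      rw [pow_two]
      calc h * a * h⁻¹ * (h * a * h⁻¹) = h * (a * a) * h⁻¹ := by group
        _ = 1 := by rw [ha2]; group
    | one => simp
    | mul u v hu hv ihu ihv =>
      have := hEcomm u hu v hv
      rw [pow_two] at ihu ihv ⊢
      calc u * v * (u * v) = u * (v * u) * v := by group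
        _ = u * (u * v) * v := by rw [this]
        _ = (u * u) * (v * v) := by group
        _ = 1 := by rw [ihu, ihv, one_mul]
    | inv u hu ihu => rw [inv_pow, ihu, inv_one]
  have hEinv : ∀ e ∈ E, e⁻¹ = e := by
    intro e he
    rw [inv_eq_iff_mul_eq_one, ← pow_two]
    exact hEsq e he
  refine ⟨E, hEn, ⟨⟨⟨fun e f => Subtype.ext (hEcomm e e.2 f f.2)⟩⟩, hEsq⟩, ?_⟩
  have hpow : ∃ k, Nat.card E = 2 ^ k :=
    (Cfsg.Agent.Lib.Helper26ElemCent.isPGroup_of_sq hEsq).exists_card_eq
  have hne1 : Nat.card E ≠ 1 := by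
    intro h
    rw [Subgroup.card_eq_one] at h
    rw [h, mem_bot] at haE
    exact ha1 haE
  have hle4 : Nat.card E ≤ 4 := by
    by_cases hxE : x ∈ E
    · have : E ≤ centralizer ({x} : Set G) := by
        intro e he
        rw [mem_centralizer_singleton_iff]
        exact hEcomm e he x hxE
      rw [← hC4]
      exact Nat.le_of_dvd Nat.card_pos (Subgroup.card_dvd_of_le this)
    · have hW : ∀ e ∈ E, e * x = x * e → e = 1 ∨ e = a := by
        intro e he hex
        have heV : e ∈ centralizer ({x} : Set G) := by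
          rw [mem_centralizer_singleton_iff]; exact hex
        rcases mem_four hC4 hxV ha hx2 hx1 ha1 hax heV with h | h | h | h
        · exact Or.inl h
        · exact absurd (h ▸ he) hxE
        · exact Or.inr h
        · exfalso
          apply hxE
          have : x = e * a⁻¹ := by rw [h]; group
          rw [this]
          exact E.mul_mem he (E.inv_mem haE)
      have hphi : ∀ e ∈ E, x * e * x⁻¹ = e ∨ x * e * x⁻¹ = e * a := by
        intro e he
        have hc : x * e * x⁻¹ ∈ E := hEn.conj_mem e he x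
        have hf : e * (x * e * x⁻¹) ∈ E := E.mul_mem he hc
        have hfx : e * (x * e * x⁻¹) * x = x * (e * (x * e * x⁻¹)) := by
          have h3 := hEcomm e he _ hc
          calc e * (x * e * x⁻¹) * x = (x * e * x⁻¹ * e) * x := by rw [h3]
            _ = x * e * x * e * x := by rw [hxi]
            _ = x * (e * (x * e * x)) := by group
            _ = x * (e * (x * e * x⁻¹)) := by rw [hxi]
        rcases hW _ hf hfx with h | h
        · left
          have : x * e * x⁻¹ = e⁻¹ := eq_inv_of_mul_eq_one_right h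
          rw [this, hEinv e he]
        · right
          have : x * e * x⁻¹ = e⁻¹ * a := by rw [← h]; group
          rw [this, hEinv e he]
      obtain ⟨e₁, he₁⟩ : ∃ e₁ : G, ∀ e ∈ E, e = 1 ∨ e = a ∨ e = e₁ ∨ e = e₁ * a := by
        by_cases hall : ∀ e ∈ E, e = 1 ∨ e = a
        · refine ⟨1, fun e he => ?_⟩
          rcases hall e he with h | h
          · exact Or.inl h
          · exact Or.inr (Or.inl h)
        · push Not at hall
          obtain ⟨e₁, he₁E, he₁1, he₁a⟩ := hall
          have hfix : ∀ e ∈ E, x * e * x⁻¹ = e → e = 1 ∨ e = a := by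
            intro e he h
            apply hW e he
            rw [mul_inv_eq_iff_eq_mul] at h
            exact h.symm
          have h₁ : x * e₁ * x⁻¹ = e₁ * a := by
            rcases hphi e₁ he₁E with h | h
            · rcases hfix e₁ he₁E h with h' | h'
              · exact absurd h' he₁1
              · exact absurd h' he₁a
            · exact h
          refine ⟨e₁, fun e he => ?_⟩
          rcases hphi e he with h | h
          · rcases hfix e he h with h' | h'
            · exact Or.inl h'
            · exact Or.inr (Or.inl h')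
          · have hee : x * (e * e₁) * x⁻¹ = e * e₁ := by
              calc x * (e * e₁) * x⁻¹ = (x * e * x⁻¹) * (x * e₁ * x⁻¹) := by group
                _ = e * a * (e₁ * a) := by rw [h, h₁]
                _ = e * (a * e₁) * a := by group
                _ = e * (e₁ * a) * a := by rw [hEcomm a haE e₁ he₁E]
                _ = e * e₁ * (a * a) := by group
                _ = e * e₁ := by rw [ha2, mul_one]
            rcases hfix _ (E.mul_mem he he₁E) hee with h' | h'
            · right; right; left
              rw [← hEinv e₁ he₁E]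
              exact eq_inv_of_mul_eq_one_left h'
            · right; right; right
              have : e = a * e₁⁻¹ := by rw [← h']; group
              rw [this, hEinv e₁ he₁E, hEcomm a haE e₁ he₁E]
      have hsub : (E : Set G) ⊆ ((({1, a, e₁, e₁ * a} : Finset G) : Set G)) := by
        intro e he
        have := he₁ e he
        simpa using this
      have h5 : (E : Set G).ncard ≤ ((({1, a, e₁, e₁ * a} : Finset G) : Set G)).ncard :=
        Set.ncard_le_ncard hsub (Finset.finite_toSet _)
      rw [Set.ncard_coe_finset] at h5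
      have h6 : (E : Set G).ncard = Nat.card E := rfl
      have h7 := Finset.card_le_four (a := (1 : G)) (b := a) (c := e₁) (d := e₁ * a)
      omega
  obtain ⟨k, hk⟩ := hpow
  have hk2 : k ≤ 2 := by
    by_contra hcon
    have : 2 ^ 3 ≤ 2 ^ k := Nat.pow_le_pow_right (by norm_num) (by omega)
    omega
  interval_cases k
  · exact absurd hk hne1
  · left; simpa using hk
  · right; simpa using hk

end Cfsg.Agent.Lib.Helper26V4a
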