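import Mathlib
import Cfsg.Agent.Lib.Helper20AbCent
import Cfsg.Agent.Lib.Helper26StrEmb
import Cfsg.Agent.Lib.Helper26ElemCent
import Cfsg.Agent.Lib.Helper26Sh3
import Cfsg.Agent.Lib.Helper26V4a
import Cfsg.Agent.S1230

/-!
# Piece `quot` of project 20 (S2202)
-/

set_option autoImplicit false
universe u

namespace Cfsg.Agent.Lib.Helper26AbCentQuot

open Cfsg.Agent.Lib.Helper20AbCent Cfsg.Agent.Lib.Helper26ElemCent Subgroup

section aux

variable {G : Type u} [Group G]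

theorem exists_conj [Finite G] (h : AC G) {a b : G} (ha : orderOf a = 2) (hb : orderOf b = 2)
    (hab : a * b ≠ b * a) : ∃ w, orderOf w = 2 ∧ w * a * w⁻¹ = b := by
  rcases Cfsg.Agent.Lib.Helper26StrEmb.dihedral_dichotomy ha hb with ⟨i, hi, hia, hib⟩ | ⟨w, hw, hwa⟩
  · exact absurd (h i hi a b hia.symm hib.symm) hab
  · exact ⟨w, hw, hwa⟩

theorem NI_normal : (NI G).Normal := ⟨fun n hn g => by
  rw [mem_NI] at hn ⊢
  intro t ht
  have h1 := hn (g⁻¹ * t * g) (by
    have := Cfsg.Agent.Lib.Helper26V4a.orderOf_conj' g⁻¹ t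
    rw [inv_inv] at this
    rw [this, ht])
  calc g * n * g⁻¹ * t = g * (n * (g⁻¹ * t * g)) * g⁻¹ := by group
    _ = g * ((g⁻¹ * t * g) * n) * g⁻¹ := by rw [h1]
    _ = t * (g * n * g⁻¹) := by group⟩

theorem ne_one_of_order {x : G} (hx : orderOf x = 2) : x ≠ 1 := by
  rintro rfl
  simp at hx

theorem sq_of_order {x : G} (hx : orderOf x = 2) : x * x = 1 := by
  rw [← pow_two, ← hx]; exact pow_orderOf_eq_one x

end aux

theorem quot_iso {G : Type u} [Group G] [Finite G] (h : AC G)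
    (s t s' : G) (hs : orderOf s = 2) (ht : orderOf t = 2) (hs' : orderOf s' = 2)
    (hst : s ≠ t) (hcomm : s * t = t * s) (hnc : s * s' ≠ s' * s)
    (hC : ∀ r c : G, orderOf r = 2 → c * r = r * c → ∃ e n : G, e * e = 1 ∧ n ∈ NI G ∧ c = e * n) :
    NI G ≤ Subgroup.center G ∧ Odd (Nat.card (NI G)) ∧
    ∃ (_ : (NI G).Normal) (F : Type) (_ : Field F) (_ : Fintype F), CharP F 2 ∧ 4 ≤ Fintype.card F ∧
      Nonempty (G ⧸ NI G ≃* Matrix.ProjectiveSpecialLinearGroup (Fin 2) F) := by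
  classical
  have : Fact (Nat.Prime 2) := ⟨Nat.prime_two⟩
  -- (2) no involution in `NI`
  have hnoinv : ∀ u ∈ NI G, orderOf u ≠ 2 := by
    intro u hu hu2
    rw [mem_NI] at hu
    exact hnc (h u hu2 s s' (hu s hs).symm (hu s' hs').symm)
  have hodd : Odd (Nat.card (NI G)) := by
    rw [← Nat.not_even_iff_odd, even_iff_two_dvd]
    intro hdvd
    obtain ⟨u, hu⟩ := exists_prime_orderOf_dvd_card' (G := NI G) 2 hdvd
    exact hnoinv u u.2 (by rw [Subgroup.orderOf_coe, hu])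
  have hsq1 : ∀ n ∈ NI G, n * n = 1 → n = 1 := by
    intro n hn hn2
    by_contra hn1
    exact hnoinv n hn (orderOf_eq_prime (by rw [pow_two]; exact hn2) hn1)
  -- `NI` is abelian
  have hNab : ∀ n ∈ NI G, ∀ n' ∈ NI G, n * n' = n' * n := by
    intro n hn n' hn'
    rw [mem_NI] at hn hn'
    exact h s hs n n' (hn s hs) (hn' s hs)
  -- (3) `NI` is central
  have hcenter : NI G ≤ Subgroup.center G := by
    intro n hn
    rw [Subgroup.mem_center_iff]
    intro g
    have hn' := mem_NI.1 hn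
    have hr : orderOf (g * s * g⁻¹) = 2 := by
      rw [Cfsg.Agent.Lib.Helper26V4a.orderOf_conj', hs]
    obtain ⟨w, hwn, hw⟩ : ∃ w : G, n * w = w * n ∧ w * s * w⁻¹ = g * s * g⁻¹ := by
      by_cases hsr : s * (g * s * g⁻¹) = (g * s * g⁻¹) * s
      · have h1 : s' * (g * s * g⁻¹) ≠ (g * s * g⁻¹) * s' := by
          intro hc
          exact hnc (h _ hr s s' hsr hc)
        obtain ⟨w₁, hw₁, hw₁s⟩ := exists_conj h hs hs' hnc
        obtain ⟨w₂, hw₂, hw₂s⟩ := exists_conj h hs' hr h1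
        refine ⟨w₂ * w₁, ?_, ?_⟩
        · calc n * (w₂ * w₁) = (n * w₂) * w₁ := by group
            _ = (w₂ * n) * w₁ := by rw [hn' w₂ hw₂]
            _ = w₂ * (n * w₁) := by group
            _ = w₂ * (w₁ * n) := by rw [hn' w₁ hw₁]
            _ = w₂ * w₁ * n := by group
        · calc w₂ * w₁ * s * (w₂ * w₁)⁻¹ = w₂ * (w₁ * s * w₁⁻¹) * w₂⁻¹ := by group
            _ = g * s * g⁻¹ := by rw [hw₁s, hw₂s]
      · obtain ⟨w, hw2, hw⟩ := exists_conj h hs hr hsr
        exact ⟨w, hn' w hw2, hw⟩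
    have hc : (w⁻¹ * g) * s = s * (w⁻¹ * g) := by
      calc (w⁻¹ * g) * s = w⁻¹ * (g * s * g⁻¹) * g := by group
        _ = w⁻¹ * (w * s * w⁻¹) * g := by rw [hw]
        _ = s * (w⁻¹ * g) := by group
    obtain ⟨e, n', he, hn'N, hen⟩ := hC s _ hs hc
    have hne : n * e = e * n := by
      by_cases he1 : e = 1
      · rw [he1]; simp
      · exact hn' e (orderOf_eq_prime (by rw [pow_two]; exact he) he1)
    have hg : g = w * (e * n') := by rw [← hen]; group
    rw [hg]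
    calc w * (e * n') * n = w * e * (n' * n) := by group
      _ = w * e * (n * n') := by rw [hNab n' hn'N n hn]
      _ = w * (e * n) * n' := by group
      _ = w * (n * e) * n' := by rw [hne]
      _ = (w * n) * e * n' := by group
      _ = (n * w) * e * n' := by rw [hwn]
      _ = n * (w * (e * n')) := by group
  have hN : (NI G).Normal := NI_normal
  refine ⟨hcenter, hodd, hN, ?_⟩
  -- (4a) lifting involutions
  have hlift : ∀ g : G, orderOf (g : G ⧸ NI G) = 2 →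
      ∃ t₀ : G, orderOf t₀ = 2 ∧ (t₀ : G ⧸ NI G) = (g : G ⧸ NI G) := by
    intro g hg
    obtain ⟨k, hk⟩ := hodd
    have hg2 : (g : G ⧸ NI G) ^ 2 = 1 := by rw [← hg]; exact pow_orderOf_eq_one _
    have hg2N : g ^ 2 ∈ NI G := by
      rw [← QuotientGroup.eq_one_iff]
      exact hg2
    have hcoe : ((g ^ (2 * k + 1) : G) : G ⧸ NI G) = (g : G ⧸ NI G) := by
      rw [QuotientGroup.mk_pow, pow_succ, pow_mul, hg2, one_pow, one_mul]
    refine ⟨g ^ (2 * k + 1), ?_, hcoe⟩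
    apply orderOf_eq_prime
    · rw [← pow_mul, mul_comm, pow_mul, ← hk]
      have h5 := pow_card_eq_one' (x := (⟨g ^ 2, hg2N⟩ : NI G))
      have h6 := congrArg Subtype.val h5
      rw [Subgroup.coe_pow, Subgroup.coe_one] at h6
      exact h6
    · intro h1
      rw [h1] at hcoe
      rw [← hcoe] at hg
      simp at hg
  -- (4b) lifting commutation
  have hcl : ∀ t₀ c : G, orderOf t₀ = 2 →
      (c : G ⧸ NI G) * (t₀ : G ⧸ NI G) = (t₀ : G ⧸ NI G) * (c : G ⧸ NI G) → c * t₀ = t₀ * c := by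
    intro t₀ c ht₀ hct
    have ht₀2 := sq_of_order ht₀
    have hnN : c * t₀ * c⁻¹ * t₀⁻¹ ∈ NI G := by
      rw [← QuotientGroup.eq_one_iff]
      rw [QuotientGroup.mk_mul, QuotientGroup.mk_mul, QuotientGroup.mk_mul, QuotientGroup.mk_inv,
        QuotientGroup.mk_inv, hct]
      group
    set n := c * t₀ * c⁻¹ * t₀⁻¹ with hn
    have hnc' : ∀ y : G, y * n = n * y := fun y => Subgroup.mem_center_iff.1 (hcenter hnN) y
    have h1 : c * t₀ * c⁻¹ = n * t₀ := by rw [hn]; group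
    have h2 : (c * t₀ * c⁻¹) * (c * t₀ * c⁻¹) = 1 := by
      calc (c * t₀ * c⁻¹) * (c * t₀ * c⁻¹) = c * (t₀ * t₀) * c⁻¹ := by group
        _ = 1 := by rw [ht₀2]; group
    rw [h1] at h2
    have h3 : n * n = 1 := by
      calc n * n = n * n * (t₀ * t₀) := by rw [ht₀2, mul_one]
        _ = n * (n * t₀) * t₀ := by group
        _ = n * (t₀ * n) * t₀ := by rw [hnc' t₀]
        _ = n * t₀ * (n * t₀) := by group
        _ = 1 := h2
    have h4 := hsq1 n hnN h3
    rw [h4, one_mul, mul_inv_eq_iff_eq_mul] at h1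
    exact h1
  -- images of involutions
  have himg : ∀ r : G, orderOf r = 2 → orderOf (r : G ⧸ NI G) = 2 := by
    intro r hr
    apply orderOf_eq_prime
    · rw [← QuotientGroup.mk_pow, pow_two, sq_of_order hr]; rfl
    · intro h1
      rw [QuotientGroup.eq_one_iff] at h1
      exact hnoinv r h1 hr
  -- (4) elementary centralizers
  have hC' : ElemCent (G ⧸ NI G) := by
    intro τ hτ
    obtain ⟨g, rfl⟩ := QuotientGroup.mk_surjective τ
    obtain ⟨t₀, ht₀, hcoe⟩ := hlift g hτ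
    have hcoe' : (QuotientGroup.mk g : G ⧸ NI G) = (t₀ : G ⧸ NI G) := hcoe.symm
    rw [hcoe']
    have hmem : ∀ γ ∈ centralizer ({(t₀ : G ⧸ NI G)} : Set (G ⧸ NI G)),
        ∃ c : G, c * t₀ = t₀ * c ∧ (c : G ⧸ NI G) = γ := by
      intro γ hγ
      obtain ⟨c, rfl⟩ := QuotientGroup.mk_surjective γ
      rw [mem_centralizer_singleton_iff] at hγ
      exact ⟨c, hcl t₀ c ht₀ hγ, rfl⟩
    refine ⟨⟨⟨fun γ δ => ?_⟩⟩, ?_⟩
    · obtain ⟨c, hc, hcγ⟩ := hmem γ γ.2
      obtain ⟨d, hd, hdδ⟩ := hmem δ δ.2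
      apply Subtype.ext
      show (γ : G ⧸ NI G) * δ = δ * γ
      rw [← hcγ, ← hdδ, ← QuotientGroup.mk_mul, ← QuotientGroup.mk_mul, h t₀ ht₀ c d hc hd]
    · intro γ hγ
      obtain ⟨c, hc, rfl⟩ := hmem γ hγ
      obtain ⟨e, n, he, hn, hcen⟩ := hC t₀ c ht₀ hc
      have h1 : (c : G ⧸ NI G) = (e : G ⧸ NI G) := by
        rw [hcen, QuotientGroup.mk_mul, (QuotientGroup.eq_one_iff n).2 hn, mul_one]
      rw [h1, ← QuotientGroup.mk_pow, pow_two, he]
      rfl
  -- (5) the Sylow subgroup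
  obtain ⟨T, hT⟩ := (Cfsg.Agent.Lib.Helper26StrEmb.isPGroup_zpowers (himg s hs)).exists_le_sylow
  have hsT : (s : G ⧸ NI G) ∈ (T : Subgroup (G ⧸ NI G)) := hT (mem_zpowers _)
  have hcent := centralizer_eq hC' T (himg s hs) hsT
  have htT : (t : G ⧸ NI G) ∈ (T : Subgroup (G ⧸ NI G)) := by
    rw [← hcent, mem_centralizer_singleton_iff, ← QuotientGroup.mk_mul, ← QuotientGroup.mk_mul,
      hcomm]
  have hst' : (s : G ⧸ NI G) ≠ (t : G ⧸ NI G) := by
    intro h1
    rw [QuotientGroup.eq] at h1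
    have h2 : (s⁻¹ * t) * (s⁻¹ * t) = 1 := by
      have hsi : s⁻¹ = s := inv_eq_of_mul_eq_one_left (sq_of_order hs)
      rw [hsi]
      calc s * t * (s * t) = s * (t * s) * t := by group
        _ = s * (s * t) * t := by rw [hcomm]
        _ = (s * s) * (t * t) := by group
        _ = 1 := by rw [sq_of_order hs, sq_of_order ht, one_mul]
    have h3 := hsq1 _ h1 h2
    exact hst (inv_mul_eq_one.1 h3)
  have hcard3 : 3 ≤ Nat.card (T : Subgroup (G ⧸ NI G)) := by
    have e1 : (1 : G ⧸ NI G) ≠ (s : G ⧸ NI G) := (ne_one_of_order (himg s hs)).symm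
    have e2 : (1 : G ⧸ NI G) ≠ (t : G ⧸ NI G) := (ne_one_of_order (himg t ht)).symm
    have hc3 : ({1, (s : G ⧸ NI G), (t : G ⧸ NI G)} : Finset (G ⧸ NI G)).card = 3 :=
      Finset.card_eq_three.2 ⟨_, _, _, e1, e2, hst', rfl⟩
    have hsub : (({1, (s : G ⧸ NI G), (t : G ⧸ NI G)} : Finset (G ⧸ NI G)) : Set (G ⧸ NI G)) ⊆
        ((T : Subgroup (G ⧸ NI G)) : Set (G ⧸ NI G)) := by
      intro y hy
      rw [Finset.mem_coe, Finset.mem_insert, Finset.mem_insert, Finset.mem_singleton] at hy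
      rcases hy with rfl | rfl | rfl
      · exact one_mem _
      · exact hsT
      · exact htT
    have h5 := Set.ncard_le_ncard hsub (Set.toFinite _)
    rw [Set.ncard_coe_finset, hc3] at h5
    exact h5
  have hncyc : ¬ IsCyclic (T : Subgroup (G ⧸ NI G)) := by
    intro hcyc
    obtain ⟨γ, hγ⟩ := IsCyclic.exists_ofOrder_eq_natCard (α := (T : Subgroup (G ⧸ NI G)))
    have h1 : (γ : G ⧸ NI G) ^ 2 = 1 := sq_eq_one_of_mem hC' T γ.2
    have h2 : γ ^ 2 = 1 := by
      ext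
      simpa using h1
    have := orderOf_le_of_pow_eq_one (by norm_num) h2
    omega
  have hnn : ¬ (T : Subgroup (G ⧸ NI G)).Normal := by
    intro hn
    obtain ⟨T', hT'⟩ :=
      (Cfsg.Agent.Lib.Helper26StrEmb.isPGroup_zpowers (himg s' hs')).exists_le_sylow
    have hTT : T' = T := by
      have := Sylow.unique_of_normal T hn
      exact Subsingleton.elim _ _
    have hs'T : (s' : G ⧸ NI G) ∈ (T : Subgroup (G ⧸ NI G)) := by
      rw [← hTT]; exact hT' (mem_zpowers _)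
    exact hnc (hcl s' s hs' (comm_of_mem hC' T hsT hs'T))
  obtain ⟨F, iF, iFt, hF, hiso⟩ := Cfsg.Agent.S1230.result T hncyc hnn hC'
  obtain ⟨k, hk⟩ := T.2.exists_card_eq
  have hk' : Nat.card (T : Subgroup (G ⧸ NI G)) = 2 ^ k := hk
  have hFk : Fintype.card F = 2 ^ k := by rw [hF]; exact hk
  refine ⟨F, iF, iFt, ?_, ?_, hiso⟩
  · have := Cfsg.Agent.Lib.Helper26Sh3.ringChar_eq_two hFk
    rw [← this]
    exact ringChar.charP F
  · rw [hFk]
    rw [hk'] at hcard3
    have hk2 : 2 ≤ k := by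
      by_contra hcon
      have : k ≤ 1 := by omega
      interval_cases k <;> omega
    calc 4 = 2 ^ 2 := by norm_num
      _ ≤ 2 ^ k := Nat.pow_le_pow_right (by norm_num) hk2

end Cfsg.Agent.Lib.Helper26AbCentQuot
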