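import Mathlib
import Cfsg.Agent.Lib.Helper20AbCent
import Cfsg.Agent.Lib.Helper26ElemCent

/-! Project 20 (S2202), piece `nor`. -/

set_option autoImplicit false

namespace Cfsg.Agent.Lib.Helper90AbCentNor

open Cfsg.Agent.Lib.Helper20AbCent

/-- PIECE nor. -/
theorem normal_case {G : Type*} [Group G] [Finite G] (h : AC G)
    (h1 : ∀ s t : G, orderOf s = 2 → orderOf t = 2 → s * t = t * s) (P : Sylow 2 G) :
    (P : Subgroup G).Normal := by
  by_cases hP : (P : Subgroup G) = ⊥
  · rw [hP]; infer_instance
  obtain ⟨z, hzP, hz2, hzc⟩ := Cfsg.Agent.Lib.Helper26ElemCent.exists_central_invol P hP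
  -- the centralizer of `z` is abelian and contains all conjugates of `P`
  have hconj : ∀ g : G, ∀ a ∈ (P : Subgroup G), (g * a * g⁻¹) * z = z * (g * a * g⁻¹) := by
    intro g a ha
    have hz' : orderOf (g * z * g⁻¹) = 2 := by
      have := (MulAut.conj g).orderOf_eq z
      rw [MulAut.conj_apply] at this
      rw [this]; exact hz2
    -- `g a g⁻¹` and `z` both commute with `g z g⁻¹`
    have e1 : (g * a * g⁻¹) * (g * z * g⁻¹) = (g * z * g⁻¹) * (g * a * g⁻¹) := by
      have := hzc a ha
      calc (g * a * g⁻¹) * (g * z * g⁻¹) = g * (a * z) * g⁻¹ := by group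
        _ = g * (z * a) * g⁻¹ := by rw [this]
        _ = _ := by group
    have e2 : z * (g * z * g⁻¹) = (g * z * g⁻¹) * z := h1 _ _ hz2 hz'
    exact h _ hz' _ _ e1 e2
  have hab : ∀ x y : G, x * z = z * x → y * z = z * y → x * y = y * x := h z hz2
  constructor
  intro a ha g
  -- `P ⊔ ⟨g a g⁻¹⟩` is a 2-group
  set b := g * a * g⁻¹ with hb
  have hbz : b * z = z * b := hconj g a ha
  have hbP : ∀ x ∈ (P : Subgroup G), x * b = b * x := fun x hx => hab x b (hzc x hx) hbz
  have hbn : Subgroup.zpowers b ≤ Subgroup.normalizer ((P : Subgroup G) : Set G) := by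
    rw [Subgroup.zpowers_le, Subgroup.mem_normalizer_iff]
    intro x
    constructor
    · intro hx
      rw [← hbP x hx, mul_inv_cancel_right]; exact hx
    · intro hx
      have := hbP _ hx
      have h2 : x = b * x * b⁻¹ := by
        have h3 : b * x * b⁻¹ * b = b * x := by group
        rw [h3] at this
        have h4 : x = b * x * b⁻¹ * 1 := by
          have := mul_left_cancel this
          rw [mul_one]; exact this
        rw [mul_one] at h4; exact h4
      rw [h2]; exact hx
  have hbp : IsPGroup 2 (Subgroup.zpowers b) := by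
    have ha2 : IsPGroup 2 (Subgroup.zpowers a) := P.2.to_le (Subgroup.zpowers_le.mpr ha)
    have hmap : Subgroup.zpowers b = (Subgroup.zpowers a).map (MulAut.conj g).toMonoidHom := by
      rw [MonoidHom.map_zpowers]; rfl
    rw [hmap]
    exact ha2.map _
  have hsup : IsPGroup 2 ((Subgroup.zpowers b ⊔ (P : Subgroup G) : Subgroup G)) :=
    IsPGroup.to_sup_of_normal_right' hbp P.2 hbn
  have heq : (Subgroup.zpowers b ⊔ (P : Subgroup G) : Subgroup G) = P := P.3 hsup le_sup_right
  rw [← heq]
  exact (le_sup_left : Subgroup.zpowers b ≤ _) (Subgroup.mem_zpowers b)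

end Cfsg.Agent.Lib.Helper90AbCentNor
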