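import Mathlib
import Cfsg.Agent.Lib.Helper20AbCent
import Cfsg.Agent.Lib.Helper44LawNC
import Cfsg.Agent.S0262

/-! Project 20 (S2202), piece `split`: a central extension of `PSL₂(2ⁿ)` by a group of odd order
splits. -/

set_option autoImplicit false
universe u

namespace Cfsg.Agent.Lib.Helper90AbCentSplit

open Subgroup

/-- the centre of `SL₂` in characteristic 2 is trivial -/
theorem center_eq_bot (F : Type*) [Field F] [CharP F 2] :
    center (Matrix.SpecialLinearGroup (Fin 2) F) = ⊥ := by
  rw [eq_bot_iff]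
  intro A hA
  rw [Matrix.SpecialLinearGroup.mem_center_iff] at hA
  obtain ⟨r, hr, hA⟩ := hA
  have h1 : r = 1 := by
    have h2 : (2 : F) = 0 := CharTwo.two_eq_zero
    have h3 : (r - 1) ^ 2 = 0 := by
      simp only [Fintype.card_fin] at hr
      linear_combination hr + (1 - r) * h2
    have h4 : r - 1 = 0 := by simpa using h3
    exact sub_eq_zero.mp h4
  subst h1
  rw [mem_bot]
  apply Subtype.ext
  rw [← hA]
  simp

/-- Sylow subgroups for the primes dividing the order of a central kernel are abelian if their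
images are cyclic. -/
theorem sylow_comm {G : Type*} [Group G] [Finite G] {S : Type*} [Group S] (f : G →* S)
    (hf : Function.Surjective f) (hK : f.ker ≤ center G) (r : ℕ) [Fact r.Prime]
    (hcyc : ∀ R : Sylow r S, IsCyclic R) (R : Sylow r G) : IsMulCommutative R := by
  have h1 : IsCyclic ((R : Subgroup G).map f) := hcyc (R.mapSurjective hf)
  apply (f.subgroupMap (R : Subgroup G)).isMulCommutative_of_isCyclic_of_ker_le_center
  intro x hx
  rw [MonoidHom.mem_ker] at hx
  have h2 : f (x : G) = 1 := congrArg Subtype.val hx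
  have h3 : (x : G) ∈ center G := hK (MonoidHom.mem_ker.mpr h2)
  rw [mem_center_iff]
  intro y
  apply Subtype.ext
  exact mem_center_iff.mp h3 (y : G)

open scoped IsMulCommutative in
theorem inf_eq_bot {G : Type*} [Group G] [Finite G] {S : Type*} [Group S] (f : G →* S)
    (hf : Function.Surjective f) (hK : f.ker ≤ center G)
    (hcyc : ∀ r : ℕ, ∀ _ : Fact r.Prime, r ∣ Nat.card f.ker → ∀ R : Sylow r S, IsCyclic R) :
    commutator G ⊓ f.ker = ⊥ := by
  rw [eq_bot_iff]
  intro z hz
  rw [mem_bot]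
  by_contra hz1
  obtain ⟨hzc, hzk⟩ := mem_inf.mp hz
  have ho : orderOf z ≠ 1 := fun h => hz1 (orderOf_eq_one_iff.mp h)
  obtain ⟨r, hr, hrd⟩ := Nat.exists_prime_and_dvd ho
  have : Fact r.Prime := ⟨hr⟩
  have hrK : r ∣ Nat.card f.ker := by
    have h1 : orderOf (⟨z, hzk⟩ : f.ker) = orderOf z := by
      rw [← Subgroup.orderOf_coe]
    exact hrd.trans (h1 ▸ orderOf_dvd_natCard _)
  obtain ⟨R⟩ : Nonempty (Sylow r G) := inferInstance
  have hcomm : IsMulCommutative R := sylow_comm f hf hK r (hcyc r this hrK) R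
  have hzcen : z ∈ center G := hK hzk
  have key : ∀ (k : ℕ) (g₀ : G), g₀⁻¹ * z ^ k * g₀ ∈ (R : Subgroup G) →
      g₀⁻¹ * z ^ k * g₀ = z ^ k := by
    intro k g₀ _
    have h1 : z ^ k ∈ center G := Subgroup.pow_mem _ hzcen k
    have h2 := mem_center_iff.mp h1 g₀
    rw [mul_assoc, ← h2, inv_mul_cancel_left]
  have h1 := MonoidHom.transfer_eq_pow (MonoidHom.id (R : Subgroup G)) z key
  have h2 : MonoidHom.transfer (MonoidHom.id (R : Subgroup G)) z = 1 :=
    MonoidHom.mem_ker.mp (Abelianization.commutator_subset_ker _ hzc)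
  rw [h2] at h1
  have h3 : z ^ (R : Subgroup G).index = 1 := by
    have := congrArg Subtype.val h1
    simpa using this.symm
  exact R.not_dvd_index (hrd.trans (orderOf_dvd_of_pow_eq_one h3))

theorem exists_mul {G : Type*} [Group G] {S : Type*} [Group S] (f : G →* S)
    (hf : Function.Surjective f) (hperf : commutator S = ⊤) (g : G) :
    ∃ c ∈ commutator G, ∃ k ∈ f.ker, g = c * k := by
  have h1 : (commutator G).map f = ⊤ := by
    rw [commutator_def, map_commutator, ← MonoidHom.range_eq_map, MonoidHom.range_eq_top.mpr hf,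
      ← commutator_def, hperf]
  have h2 : f g ∈ (commutator G).map f := h1 ▸ mem_top _
  obtain ⟨c, hc, hcg⟩ := h2
  refine ⟨c, hc, c⁻¹ * g, ?_, by group⟩
  rw [MonoidHom.mem_ker, map_mul, map_inv, hcg, inv_mul_cancel]

theorem split_abstract {G : Type*} [Group G] [Finite G] {S : Type*} [Group S] (f : G →* S)
    (hf : Function.Surjective f) (hK : f.ker ≤ center G) (hperf : commutator S = ⊤)
    (hcyc : ∀ r : ℕ, ∀ _ : Fact r.Prime, r ∣ Nat.card f.ker → ∀ R : Sylow r S, IsCyclic R) :
    Function.Bijective (f.prod (Abelianization.of (G := G))) ∧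
      Nat.card (Abelianization G) ∣ Nat.card f.ker := by
  have hinf := inf_eq_bot f hf hK hcyc
  have hsurj : Function.Surjective (Abelianization.of (G := G)) := QuotientGroup.mk_surjective
  constructor
  · constructor
    · rw [injective_iff_map_eq_one]
      intro g hg
      rw [MonoidHom.prod_apply, Prod.mk_eq_one] at hg
      have h1 : g ∈ commutator G ⊓ f.ker := by
        refine mem_inf.mpr ⟨?_, MonoidHom.mem_ker.mpr hg.1⟩
        rw [← Abelianization.ker_of]
        exact MonoidHom.mem_ker.mpr hg.2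
      rw [hinf] at h1
      exact mem_bot.mp h1
    · rintro ⟨s, a⟩
      obtain ⟨g₁, rfl⟩ := hf s
      obtain ⟨g₂, rfl⟩ := hsurj a
      obtain ⟨c₁, hc₁, k₁, hk₁, rfl⟩ := exists_mul f hf hperf g₁
      obtain ⟨c₂, hc₂, k₂, hk₂, rfl⟩ := exists_mul f hf hperf g₂
      refine ⟨c₁ * k₂, ?_⟩
      rw [← Abelianization.ker_of] at hc₁ hc₂
      rw [MonoidHom.mem_ker] at hc₁ hc₂ hk₁ hk₂
      rw [MonoidHom.prod_apply]
      simp [hc₁, hc₂, hk₁, hk₂]
  · apply Subgroup.card_dvd_of_surjective ((Abelianization.of (G := G)).comp f.ker.subtype)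
    intro a
    obtain ⟨g, rfl⟩ := hsurj a
    obtain ⟨c, hc, k, hk, rfl⟩ := exists_mul f hf hperf g
    refine ⟨⟨k, hk⟩, ?_⟩
    rw [← Abelianization.ker_of, MonoidHom.mem_ker] at hc
    simp [hc]

/-- PIECE split. -/
theorem split_central {G : Type u} [Group G] [Finite G] (K : Subgroup G) [K.Normal]
    (hK : K ≤ Subgroup.center G) (hodd : Odd (Nat.card K))
    (F : Type) [Field F] [Fintype F] (h2 : CharP F 2) (h4 : 4 ≤ Fintype.card F)
    (e : G ⧸ K ≃* Matrix.ProjectiveSpecialLinearGroup (Fin 2) F) :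
    ∃ (A : Type) (_ : CommGroup A) (_ : Finite A), Odd (Nat.card A) ∧
      Nonempty (G ≃* Matrix.SpecialLinearGroup (Fin 2) F × A) := by
  -- `PSL₂ ≃ SL₂`
  let e₁ : Matrix.ProjectiveSpecialLinearGroup (Fin 2) F ≃* Matrix.SpecialLinearGroup (Fin 2) F :=
    (QuotientGroup.quotientMulEquivOfEq (center_eq_bot F)).trans QuotientGroup.quotientBot
  let f : G →* Matrix.SpecialLinearGroup (Fin 2) F :=
    ((e.trans e₁).toMonoidHom).comp (QuotientGroup.mk' K)
  have hf : Function.Surjective f :=
    (e.trans e₁).surjective.comp (QuotientGroup.mk'_surjective K)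
  have hker : f.ker = K := by
    ext g
    rw [MonoidHom.mem_ker]
    show (e.trans e₁) (QuotientGroup.mk' K g) = 1 ↔ _
    rw [map_eq_one_iff _ (e.trans e₁).injective, QuotientGroup.mk'_apply, QuotientGroup.eq_one_iff]
  have hmain := split_abstract f hf (hker ▸ hK)
    (Cfsg.Agent.Lib.Helper44LawNC.sl2_perfect F h4) (by
      intro r hr hrd R
      have hr2 : r ≠ 2 := by
        rintro rfl
        rw [hker] at hrd
        exact (Nat.not_even_iff_odd.mpr hodd) (even_iff_two_dvd.mpr hrd)
      exact Cfsg.Agent.S0262.result 2 r hr2 hr2 R)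
  obtain ⟨hbij, hdvd⟩ := hmain
  rw [hker] at hdvd
  -- transport the abelianization to `Type`
  have hfin : Finite (Abelianization G) := inferInstance
  have hsm : Small.{0} (Abelianization G) := inferInstance
  refine ⟨Shrink.{0} (Abelianization G), inferInstance, inferInstance, ?_, ?_⟩
  · rw [Nat.card_congr (equivShrink (Abelianization G)).symm]
    exact Odd.of_dvd_nat hodd hdvd
  · exact ⟨(MulEquiv.ofBijective _ hbij).trans
      (MulEquiv.prodCongr (MulEquiv.refl _) (Shrink.mulEquiv).symm)⟩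

end Cfsg.Agent.Lib.Helper90AbCentSplit
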