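import Mathlib
import Cfsg.Prelude.Def_Blocks
import Cfsg.Agent.Lib.Helper21Cover4
import Cfsg.Agent.Lib.Helper81Orth2
import Cfsg.Agent.Lib.Helper81Defect
import Cfsg.Agent.Lib.Helper20Conj
import Cfsg.Agent.Lib.Helper4Char2
import Cfsg.Agent.S0908
import Cfsg.Agent.S0924

set_option autoImplicit false
set_option linter.unusedSectionVars false

/-! Blocks of `G = D C_G(D)` with defect group `D`. -/

namespace Cfsg.Agent.Lib.Helper21DC

open Cfsg
open Cfsg.Agent.Lib.Helper81Local Cfsg.Agent.Lib.Helper81Base Cfsg.Agent.Lib.Helper81BB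
  Cfsg.Agent.Lib.Helper81Block Cfsg.Agent.Lib.Helper81Orth Cfsg.Agent.Lib.Helper5Clifford
  Cfsg.Agent.Lib.Helper19Ind Cfsg.Agent.Lib.Helper32Ind Cfsg.Agent.Lib.Helper21Cover
  Cfsg.Agent.Lib.Helper21CoverQ Cfsg.Agent.Lib.Helper21Cover2 Cfsg.Agent.Lib.Helper82Quot
  Cfsg.Agent.Lib.Helper21Cover3 Cfsg.Agent.Lib.Helper21Cover4
open scoped ComplexConjugate

section grp

variable {G : Type*} [Group G] {D : Subgroup G}

theorem normal_of_sup (hG : D ⊔ Subgroup.centralizer (D : Set G) = ⊤) : D.Normal := by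
  rw [← Subgroup.normalizer_eq_top_iff, eq_top_iff, ← hG]
  exact sup_le Subgroup.le_normalizer (Subgroup.centralizer_le_normalizer _)

theorem exists_mul_of_sup (hG : D ⊔ Subgroup.centralizer (D : Set G) = ⊤) (g : G) :
    ∃ d ∈ D, ∃ c ∈ Subgroup.centralizer (D : Set G), g = d * c := by
  have := normal_of_sup hG
  have h : g ∈ D ⊔ Subgroup.centralizer (D : Set G) := by rw [hG]; trivial
  rw [Subgroup.mem_sup_of_normal_left] at h
  obtain ⟨d, hd, c, hc, e⟩ := h
  exact ⟨d, hd, c, hc, e.symm⟩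

theorem index_centralizer [Finite G] {p : ℕ} [Fact p.Prime] (hD : IsPGroup p D)
    (hG : D ⊔ Subgroup.centralizer (D : Set G) = ⊤) :
    ∃ k : ℕ, (Subgroup.centralizer (D : Set G)).index = p ^ k := by
  have := normal_of_sup hG
  have h1 := Subgroup.relIndex_sup_right D (Subgroup.centralizer (D : Set G))
  rw [hG, Subgroup.relIndex_top_right] at h1
  rw [h1]
  exact hD.index _

/-- conjugation in `G = D C_G(D)` of an element of `D` is conjugation in `D`. -/
theorem conj_eq_of_sup (hG : D ⊔ Subgroup.centralizer (D : Set G) = ⊤) (g : G) :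
    ∃ d ∈ D, ∀ y ∈ D, g * y * g⁻¹ = d * y * d⁻¹ := by
  obtain ⟨d, hd, c, hc, rfl⟩ := exists_mul_of_sup hG g
  refine ⟨d, hd, fun y hy => ?_⟩
  have := (Subgroup.mem_centralizer_iff.1 hc) y hy
  rw [mul_inv_rev, mul_assoc d c y, ← this]
  group

end grp

section chars

variable {G : Type*} [Group G] [Fintype G] {D : Subgroup G} [Fintype D]

theorem cjI_eq_of_sup (hG : D ⊔ Subgroup.centralizer (D : Set G) = ⊤) (hN : D.Normal)
    (ζ : IrrCharacter D) (g : G) : cjI hN ζ g = ζ := by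
  apply Subtype.ext
  funext n
  rw [cjI_apply]
  obtain ⟨d, hd, h⟩ := conj_eq_of_sup hG g
  have e : (⟨g * n * g⁻¹, hN.conj_mem n n.2 g⟩ : D) = ⟨d, hd⟩ * n * ⟨d, hd⟩⁻¹ := by
    apply Subtype.ext
    simpa using h n n.2
  rw [e, irr_conj]

/-- the restriction of `θ` to `D` is a multiple of an irreducible character. -/
theorem res_eq_of_over (hG : D ⊔ Subgroup.centralizer (D : Set G) = ⊤) {θ : IrrCharacter G}
    {ζ : IrrCharacter D} (h : Over θ ζ) (y : D) :
    (θ : G → ℂ) y = (θ : G → ℂ) 1 / (ζ : D → ℂ) 1 * (ζ : D → ℂ) y := by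
  classical
  have hN := normal_of_sup hG
  have hcf : IsClassFunction D (fun n : D => (θ : G → ℂ) n) := by
    intro n m
    have := irr_conj θ (n : G) (m : G)
    simpa using this
  have h1 := Helper4Char.classFunction_eq_sum _ hcf
  have h2 : ∀ ψ : IrrCharacter D, ψ ≠ ζ →
      classInner (fun n : D => (θ : G → ℂ) n) (ψ : D → ℂ) = 0 := by
    intro ψ hψ
    by_contra hne
    obtain ⟨g, hg⟩ := over_conj hN h (show Over θ ψ from hne)
    rw [cjI_eq_of_sup hG] at hg
    exact hψ hg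
  have h3 : ∀ n : D, (θ : G → ℂ) n
      = classInner (fun n : D => (θ : G → ℂ) n) (ζ : D → ℂ) * (ζ : D → ℂ) n := by
    intro n
    have := congrFun h1 n
    rw [Finset.sum_apply, Finset.sum_eq_single ζ] at this
    · simpa using this
    · intro ψ _ hψ
      rw [h2 ψ hψ]
      simp
    · intro hh
      exact absurd (Finset.mem_univ _) hh
  have h4 := h3 1
  have hζ := irr_one_ne_zero ζ
  rw [h3 y]
  have h5 : (θ : G → ℂ) 1 = classInner (fun n : D => (θ : G → ℂ) n) (ζ : D → ℂ) * (ζ : D → ℂ) 1 := by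
    simpa using h4
  rw [h5]
  field_simp

/-- product formula -/
theorem irr_mul_of_sup (hG : D ⊔ Subgroup.centralizer (D : Set G) = ⊤) (θ : IrrCharacter G)
    {y x : G} (hy : y ∈ D) (hx : x ∈ Subgroup.centralizer (D : Set G)) :
    (θ : G → ℂ) (y * x) = (θ : G → ℂ) y * (θ : G → ℂ) x / (θ : G → ℂ) 1 := by
  classical
  have h1 := irr_sum_classfn θ (fun g => if IsConj y g then 1 else 0) (classInd_classfn y) x
  have h2 : ∀ h : G, (if IsConj y h then (1 : ℂ) else 0) * (θ : G → ℂ) (h * x)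
      = (if IsConj y h then (1 : ℂ) else 0) * (θ : G → ℂ) (y * x) := by
    intro h
    split_ifs with hc
    · obtain ⟨g, hg⟩ := isConj_iff.1 hc
      obtain ⟨d, hd, hd'⟩ := conj_eq_of_sup hG g
      rw [← hg, hd' y hy]
      have e : d * y * d⁻¹ * x = d * (y * x) * d⁻¹ := by
        have := (Subgroup.mem_centralizer_iff.1 hx) d⁻¹ (D.inv_mem hd)
        rw [mul_assoc (d * y), this]
        group
      rw [e, irr_conj]
    · simp
  have h3 : ∀ h : G, (if IsConj y h then (1 : ℂ) else 0) * (θ : G → ℂ) h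
      = (if IsConj y h then (1 : ℂ) else 0) * (θ : G → ℂ) y := by
    intro h
    split_ifs with hc
    · obtain ⟨g, hg⟩ := isConj_iff.1 hc
      rw [← hg, irr_conj]
    · simp
  rw [Finset.sum_congr rfl fun h _ => h2 h, Finset.sum_congr rfl fun h _ => h3 h,
    ← Finset.sum_mul, ← Finset.sum_mul] at h1
  have h4 : (∑ h : G, if IsConj y h then (1 : ℂ) else 0) ≠ 0 := by
    rw [Finset.sum_boole]
    have : 0 < (Finset.univ.filter fun h => IsConj y h).card :=
      Finset.card_pos.2 ⟨y, Finset.mem_filter.2 ⟨Finset.mem_univ _, IsConj.refl y⟩⟩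
    exact_mod_cast this.ne'
  have h5 : (∑ h : G, if IsConj y h then (1 : ℂ) else 0) * (θ : G → ℂ) (y * x)
      = (∑ h : G, if IsConj y h then (1 : ℂ) else 0)
        * ((θ : G → ℂ) y * (θ : G → ℂ) x / (θ : G → ℂ) 1) := by
    rw [h1]; ring
  exact mul_left_cancel₀ h4 h5

end chars

section blocks

variable {G : Type*} [Group G] [Fintype G] {D : Subgroup G} {M : Ideal AlgInt} {p : ℕ}
  {B : Set (IrrCharacter G)}

/-- the degree of a canonical character -/
theorem deg_canonical [Fact p.Prime] (hM : IsPModular p M) (hB : IsPBlock M B) [hN : D.Normal]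
    (hBD : IsDefectGroup p M B D) {χ : IrrCharacter G} (hχ : χ ∈ B)
    (hχD : ∀ y ∈ D, (χ : G → ℂ) y = (χ : G → ℂ) 1) :
    (charDegree (χ : G → ℂ)).factorization p = D.index.factorization p := by
  have hp : p.Prime := hM.1
  have h1 := S0908.result p M hM B hB D hBD
  have h2 := Helper81Defect.blockDefect_def (p := p) B
  have h3 := Helper81Defect.minVal_le (p := p) hχ
  have h4 := Helper81Defect.minVal_le_card (p := p) (B := B) ⟨χ, hχ⟩
  have h5 : (Nat.card G).factorization p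
      = (Nat.card D).factorization p + D.index.factorization p := by
    rw [← D.card_mul_index, Nat.factorization_mul Nat.card_pos.ne' D.index_ne_zero_of_finite]
    rfl
  have h6 : (Nat.card D).factorization p = blockDefect p B := by
    rw [h1, hp.factorization_pow]
    simp
  obtain ⟨χ', rfl⟩ := exists_deflate D χ hχD
  have h7 : charDegree (inflate D χ' : G → ℂ) = charDegree (χ' : G ⧸ D → ℂ) := rfl
  have h8 : (charDegree (χ' : G ⧸ D → ℂ)).factorization p ≤ D.index.factorization p := by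
    have := Helper81Defect.factorization_deg_le (p := p) χ'
    rwa [← Subgroup.index_eq_card] at this
  rw [h7] at h3 ⊢
  omega

theorem canonical_block [Fact p.Prime] (hM : IsPModular p M) (hB : IsPBlock M B) [hN : D.Normal]
    (hBD : IsDefectGroup p M B D) {χ : IrrCharacter (G ⧸ D)} (hχ : inflate D χ ∈ B) :
    blockOf M (χ : G ⧸ D → ℂ) = {χ} := by
  let _ := Fintype.ofFinite (G ⧸ D)
  rw [← Helper81Orth2.defect_zero_iff hM, Helper81Defect.not_dvd_div_iff hM.1,
    ← Subgroup.index_eq_card]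
  exact deg_canonical hM hB hBD hχ (fun y hy => inflate_ker D χ hy)

theorem canonical_unique [Fact p.Prime] (hM : IsPModular p M) (hB : IsPBlock M B)
    (hD : IsPGroup p D) (hG : D ⊔ Subgroup.centralizer (D : Set G) = ⊤)
    (hBD : IsDefectGroup p M B D) {χ χ' : IrrCharacter G} (hχ : χ ∈ B)
    (hχD : ∀ y ∈ D, (χ : G → ℂ) y = (χ : G → ℂ) 1) (hχ' : χ' ∈ B)
    (hχD' : ∀ y ∈ D, (χ' : G → ℂ) y = (χ' : G → ℂ) 1) : χ' = χ := by
  have := IsPModular.isPrime hM
  have hN := normal_of_sup hG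
  let _ := Fintype.ofFinite (G ⧸ D)
  obtain ⟨ψ, rfl⟩ := exists_deflate D χ hχD
  obtain ⟨ψ', rfl⟩ := exists_deflate D χ' hχD'
  have h1 := sameBlock_of_inflate_pgroup hM hD (index_centralizer hD hG)
    (isPBlock_sameBlock hB hχ hχ')
  have h2 : ψ' ∈ blockOf M (ψ : G ⧸ D → ℂ) := h1
  rw [canonical_block hM hB hBD hχ] at h2
  rw [Set.mem_singleton_iff.1 h2]

/-- a `p`-regular coset of `D` contains exactly one `p`-regular element. -/
theorem push_regular (hp : p.Prime) (hD : IsPGroup p D) [hN : D.Normal] [Fintype (G ⧸ D)]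
    (hC : ∃ k : ℕ, (Subgroup.centralizer (D : Set G)).index = p ^ k)
    {α : G → ℂ} (hα : ∀ g, p ∣ orderOf g → α g = 0) {x : G} (hx : ¬ p ∣ orderOf x) :
    push D α (x : G ⧸ D) = α x := by
  classical
  unfold push
  rw [Finset.sum_eq_single x]
  · rw [if_pos rfl]
  · intro g _ hgx
    split_ifs with h1
    · by_cases h2 : p ∣ orderOf g
      · exact hα g h2
      · exfalso
        apply hgx
        have hxC : x ∈ Subgroup.centralizer (D : Set G) := by
          by_contra hne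
          exact hx (singular_of_not_mem hp hC hne)
        have hu : x⁻¹ * g ∈ D := by
          rw [← QuotientGroup.eq, h1]
        have hcomm : Commute x (x⁻¹ * g) :=
          ((Subgroup.mem_centralizer_iff.1 hxC) _ hu).symm
        have hpow : ∃ k : ℕ, (x⁻¹ * g) ^ p ^ k = 1 := by
          obtain ⟨k, hk⟩ := hD ⟨_, hu⟩
          refine ⟨k, ?_⟩
          have := congrArg Subtype.val hk
          simpa using this
        have h3 := eq_of_regular_of_commute hp hcomm hpow hx (by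
          rw [mul_inv_cancel_left]; exact h2)
        exact (inv_mul_eq_one.1 h3).symm
    · rfl
  · intro hh
    exact absurd (Finset.mem_univ _) hh

/-- all characters in `B` are proportional on `p`-regular elements. -/
theorem regular_prop [Fact p.Prime] (hM : IsPModular p M) (hB : IsPBlock M B)
    (hD : IsPGroup p D) (hG : D ⊔ Subgroup.centralizer (D : Set G) = ⊤)
    (hBD : IsDefectGroup p M B D) {χ θ : IrrCharacter G} (hχ : χ ∈ B)
    (hχD : ∀ y ∈ D, (χ : G → ℂ) y = (χ : G → ℂ) 1) (hθ : θ ∈ B) {x : G}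
    (hx : ¬ p ∣ orderOf x) :
    (θ : G → ℂ) x * (χ : G → ℂ) 1 = (θ : G → ℂ) 1 * (χ : G → ℂ) x := by
  classical
  have := IsPModular.isPrime hM
  have hN := normal_of_sup hG
  let _ := Fintype.ofFinite (G ⧸ D)
  have hC := index_centralizer hD hG
  obtain ⟨ψ, rfl⟩ := exists_deflate D χ hχD
  set α : G → ℂ := fun g => if p ∣ orderOf g then 0 else conj ((θ : G → ℂ) g) with hα
  have ord_conj : ∀ g k : G, orderOf (k * g * k⁻¹) = orderOf g := by
    intro g k
    have := (MulAut.conj k).orderOf_eq g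
    simpa using this
  have hαcf : IsClassFunction G α := by
    intro g k
    simp only [hα]
    rw [ord_conj, irr_conj]
  have hα0 : ∀ g, p ∣ orderOf g → α g = 0 := by
    intro g hg
    simp only [hα]
    rw [if_pos hg]
  have h1 : ∀ ψ' : IrrCharacter (G ⧸ D), ψ' ≠ ψ → om (push D α) ψ' = 0 := by
    intro ψ' hne
    rw [← om_inflate]
    have hns : ¬ SameBlock M (inflate D ψ' : G → ℂ) (θ : G → ℂ) := by
      intro hs
      apply hne
      have h2 : inflate D ψ' ∈ B := isPBlock_mem_of_sameBlock hB hθ (sameBlock_symm hs)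
      have h3 := canonical_unique hM hB hD hG hBD hχ hχD h2 (fun y hy => inflate_ker D ψ' hy)
      exact inflate_injective D h3
    have h4 := Helper81Orth2.regular_orth hM hns
    unfold om
    rw [← Finset.sum_div]
    have h5 : ∑ g : G, α g * (inflate D ψ' : G → ℂ) g = 0 := by
      rw [← h4]
      apply Finset.sum_congr rfl
      intro g _
      simp only [hα]
      by_cases hg : p ∣ orderOf g
      · rw [if_pos hg, if_neg (not_not.2 hg), zero_mul]
      · rw [if_neg hg, if_pos hg, mul_comm]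
    rw [h5, zero_div]
  have h2 : ∀ y : G ⧸ D, push D α y = (Nat.card (G ⧸ D) : ℂ)⁻¹ *
      ((ψ : G ⧸ D → ℂ) 1 * conj ((ψ : G ⧸ D → ℂ) y) * om (push D α) ψ) := by
    intro y
    rw [inversion (push_classfn hαcf) y, Finset.sum_eq_single ψ]
    · intro ψ' _ hne
      rw [h1 ψ' hne, mul_zero]
    · intro hh
      exact absurd (Finset.mem_univ _) hh
  have h3 := h2 (x : G ⧸ D)
  have h4 := h2 ((1 : G) : G ⧸ D)
  have h11 : ¬ p ∣ orderOf (1 : G) := by
    rw [orderOf_one]
    exact hM.1.one_lt.ne' ∘ Nat.dvd_one.1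
  rw [push_regular hM.1 hD hC hα0 hx] at h3
  rw [push_regular hM.1 hD hC hα0 h11] at h4
  simp only [hα] at h3 h4
  rw [if_neg hx] at h3
  rw [if_neg h11] at h4
  have h5 : conj ((θ : G → ℂ) x) * conj ((inflate D ψ : G → ℂ) 1)
      = conj ((θ : G → ℂ) 1) * conj ((inflate D ψ : G → ℂ) x) := by
    rw [h3, h4, inflate_apply, inflate_apply]
    ring
  have h6 := congrArg conj h5
  simpa using h6

theorem vanish [Fact p.Prime] (hM : IsPModular p M) (hB : IsPBlock M B) [hN : D.Normal]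
    (hBD : IsDefectGroup p M B D) {θ : IrrCharacter G} (hθ : θ ∈ B) {z y : G}
    (hy : IsPPart p z y) (hyD : y ∉ D) : (θ : G → ℂ) z = 0 := by
  have := IsPModular.isPrime hM
  apply S0924.result p M hM θ z y hy
  intro D' hD'
  rw [← isPBlock_eq_blockOf hB hθ] at hD'
  obtain ⟨t, rfl⟩ := Helper20Conj.defectGroup_conj hM hB hBD hD'
  intro hmem
  apply hyD
  rw [Helper87Sylow.mem_cj] at hmem
  have := hN.conj_mem _ hmem t
  simpa [mul_assoc] using this

/-- summation over the `p`-sections of the elements of `D`. -/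
theorem sum_sections [Fintype D] (hp : p.Prime) (hD : IsPGroup p D) [hN : D.Normal]
    (hC : ∃ k : ℕ, (Subgroup.centralizer (D : Set G)).index = p ^ k)
    {F : G → ℂ} (hF : ∀ z y, IsPPart p z y → y ∉ D → F z = 0) :
    ∑ z, F z = ∑ y : D, ∑ x : G, if p ∣ orderOf x then 0 else F (y * x) := by
  classical
  have h1 : ∀ y : D, (∑ x : G, if p ∣ orderOf x then 0 else F (y * x))
      = ∑ x ∈ Finset.univ.filter (fun x : G => ¬ p ∣ orderOf x), F (y * x) := by
    intro y
    rw [Finset.sum_filter]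
    apply Finset.sum_congr rfl
    intro x _
    by_cases hx : p ∣ orderOf x
    · rw [if_pos hx, if_neg (not_not.2 hx)]
    · rw [if_neg hx, if_pos hx]
  rw [Finset.sum_congr rfl fun y _ => h1 y, ← Finset.sum_product']
  symm
  apply Finset.sum_of_injOn (fun q : D × G => (q.1 : G) * q.2)
  · rintro ⟨y, x⟩ hq ⟨y', x'⟩ hq' he
    simp only [Finset.coe_product, Finset.coe_univ, Finset.coe_filter, Finset.mem_univ, true_and,
      Set.mem_prod, Set.mem_univ, Set.mem_ofPred_eq] at hq hq'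
    dsimp only at he
    have hxC : x ∈ Subgroup.centralizer (D : Set G) := by
      by_contra hne
      exact hq (singular_of_not_mem hp hC hne)
    have hu : (y' : G)⁻¹ * y ∈ D := D.mul_mem (D.inv_mem y'.2) y.2
    have hcomm : Commute x ((y' : G)⁻¹ * y) :=
      ((Subgroup.mem_centralizer_iff.1 hxC) _ hu).symm
    have hpow : ∃ k : ℕ, ((y' : G)⁻¹ * y) ^ p ^ k = 1 := by
      obtain ⟨k, hk⟩ := hD ⟨_, hu⟩
      refine ⟨k, ?_⟩
      have := congrArg Subtype.val hk
      simpa using this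
    have e1 : x * ((y' : G)⁻¹ * y) = x' := by
      rw [hcomm.eq, mul_assoc, he, inv_mul_cancel_left]
    have h3 := eq_of_regular_of_commute hp hcomm hpow hq (by rw [e1]; exact hq')
    have h4 : (y' : G) = y := inv_mul_eq_one.1 h3
    have h5 : y = y' := Subtype.ext h4.symm
    subst h5
    rw [Prod.mk.injEq]
    exact ⟨rfl, mul_left_cancel he⟩
  · intro q _
    exact Finset.mem_coe.2 (Finset.mem_univ _)
  · intro z _ hz
    obtain ⟨y, hy⟩ := exists_ppart hp z
    apply hF z y hy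
    intro hyD
    apply hz
    obtain ⟨x, hx, _, _, hxr⟩ := hy
    refine ⟨(⟨y, hyD⟩, x), ?_, hx⟩
    simp only [Finset.coe_product, Finset.coe_univ, Finset.coe_filter, Finset.mem_univ, true_and,
      Set.mem_prod, Set.mem_univ, Set.mem_ofPred_eq]
    exact hxr
  · intro q _
    rfl

/-- first form of the formula, with an undetermined constant. -/
theorem formula_aux [Fintype D] [Fact p.Prime] (hM : IsPModular p M) (hB : IsPBlock M B)
    (hD : IsPGroup p D) (hG : D ⊔ Subgroup.centralizer (D : Set G) = ⊤)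
    (hBD : IsDefectGroup p M B D) {χ θ : IrrCharacter G} (hχ : χ ∈ B)
    (hχD : ∀ y ∈ D, (χ : G → ℂ) y = (χ : G → ℂ) 1) (hθ : θ ∈ B) {ζ : IrrCharacter D}
    (ho : Over θ ζ) (y : D) {x : G} (hx : ¬ p ∣ orderOf x) :
    (θ : G → ℂ) (y * x) = (θ : G → ℂ) 1 / ((ζ : D → ℂ) 1 * (χ : G → ℂ) 1)
      * ((ζ : D → ℂ) y * (χ : G → ℂ) x) := by
  classical
  have hN := normal_of_sup hG
  have hC := index_centralizer hD hG
  have hxC : x ∈ Subgroup.centralizer (D : Set G) := by
    by_contra hne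
    exact hx (singular_of_not_mem hM.1 hC hne)
  rw [irr_mul_of_sup hG θ y.2 hxC, res_eq_of_over hG ho y]
  have h1 := regular_prop hM hB hD hG hBD hχ hχD hθ hx
  have hχ1 := irr_one_ne_zero χ
  have hθ1 := irr_one_ne_zero θ
  have hζ1 := irr_one_ne_zero ζ
  have h2 : (θ : G → ℂ) x = (θ : G → ℂ) 1 * (χ : G → ℂ) x / (χ : G → ℂ) 1 := by
    rw [← h1]; field_simp
  rw [h2]
  field_simp

theorem norm_aux [Fintype D] [Fact p.Prime] (hM : IsPModular p M) (hB : IsPBlock M B)
    (hD : IsPGroup p D) (hG : D ⊔ Subgroup.centralizer (D : Set G) = ⊤)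
    (hBD : IsDefectGroup p M B D) {χ θ : IrrCharacter G} (hχ : χ ∈ B)
    (hχD : ∀ y ∈ D, (χ : G → ℂ) y = (χ : G → ℂ) 1) (hθ : θ ∈ B) {ζ : IrrCharacter D}
    (ho : Over θ ζ) :
    (Nat.card G : ℂ) = ((θ : G → ℂ) 1 / ((ζ : D → ℂ) 1 * (χ : G → ℂ) 1)) ^ 2 * ((Nat.card D : ℂ)
      * ∑ x : G, if p ∣ orderOf x then 0 else (χ : G → ℂ) x * conj ((χ : G → ℂ) x)) := by
  classical
  have hN := normal_of_sup hG
  have hC := index_centralizer hD hG
  have h1 := irr_orth θ θ
  rw [if_pos rfl] at h1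
  rw [← h1, sum_sections hM.1 hD hC (F := fun z => (θ : G → ℂ) z * conj ((θ : G → ℂ) z))
    (fun z y hy hyD => by
      rw [vanish hM hB hBD hθ hy hyD, zero_mul])]
  have h2 := irr_orth ζ ζ
  rw [if_pos rfl] at h2
  rw [← h2, Finset.sum_mul, Finset.mul_sum]
  apply Finset.sum_congr rfl
  intro y _
  rw [Finset.mul_sum, Finset.mul_sum]
  apply Finset.sum_congr rfl
  intro x _
  split_ifs with hx
  · simp
  · rw [formula_aux hM hB hD hG hBD hχ hχD hθ ho y hx]
    obtain ⟨a, _, ha⟩ := irr_one θ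
    obtain ⟨b, _, hb⟩ := irr_one ζ
    obtain ⟨c, _, hc⟩ := irr_one χ
    rw [ha, hb, hc]
    simp only [map_mul, map_div₀, Complex.conj_natCast]
    ring

/-- the degree formula -/
theorem deg_formula [Fintype D] [Fact p.Prime] (hM : IsPModular p M) (hB : IsPBlock M B)
    (hD : IsPGroup p D) (hG : D ⊔ Subgroup.centralizer (D : Set G) = ⊤)
    (hBD : IsDefectGroup p M B D) {χ θ : IrrCharacter G} (hχ : χ ∈ B)
    (hχD : ∀ y ∈ D, (χ : G → ℂ) y = (χ : G → ℂ) 1) (hθ : θ ∈ B) {ζ : IrrCharacter D}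
    (ho : Over θ ζ) : (θ : G → ℂ) 1 = (ζ : D → ℂ) 1 * (χ : G → ℂ) 1 := by
  have h1 := norm_aux hM hB hD hG hBD hχ hχD hθ ho
  have h2 := norm_aux hM hB hD hG hBD hχ hχD hχ (over_one_of_ker hχD)
  have h3 : (Helper82Linear.irrOne D : D → ℂ) 1 = 1 := rfl
  have hχ1 := irr_one_ne_zero χ
  rw [h3, one_mul, div_self hχ1, one_pow, one_mul] at h2
  rw [← h2] at h1
  have h0 := Helper81Base.card_ne_zero (G := G)
  have h4 : ((θ : G → ℂ) 1 / ((ζ : D → ℂ) 1 * (χ : G → ℂ) 1)) ^ 2 = 1 := by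
    have : ((θ : G → ℂ) 1 / ((ζ : D → ℂ) 1 * (χ : G → ℂ) 1)) ^ 2 * (Nat.card G : ℂ)
        = 1 * (Nat.card G : ℂ) := by rw [← h1, one_mul]
    exact mul_right_cancel₀ h0 this
  obtain ⟨a, ha0, ha⟩ := irr_one θ
  obtain ⟨b, hb0, hb⟩ := irr_one ζ
  obtain ⟨c, hc0, hc⟩ := irr_one χ
  rw [ha, hb, hc] at h4 ⊢
  have hbc : ((b : ℂ) * c) ≠ 0 := by
    have : b * c ≠ 0 := (Nat.mul_pos hb0 hc0).ne'
    exact_mod_cast this
  rw [div_pow, div_eq_one_iff_eq (pow_ne_zero 2 hbc)] at h4
  have h5 : a ^ 2 = (b * c) ^ 2 := by exact_mod_cast h4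
  have h6 : a = b * c := Nat.pow_left_injective (n := 2) (by norm_num) h5
  exact_mod_cast h6

/-- the character formula -/
theorem formula [Fintype D] [Fact p.Prime] (hM : IsPModular p M) (hB : IsPBlock M B)
    (hD : IsPGroup p D) (hG : D ⊔ Subgroup.centralizer (D : Set G) = ⊤)
    (hBD : IsDefectGroup p M B D) {χ θ : IrrCharacter G} (hχ : χ ∈ B)
    (hχD : ∀ y ∈ D, (χ : G → ℂ) y = (χ : G → ℂ) 1) (hθ : θ ∈ B) {ζ : IrrCharacter D}
    (ho : Over θ ζ) (y : D) {x : G} (hx : ¬ p ∣ orderOf x) :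
    (θ : G → ℂ) (y * x) = (ζ : D → ℂ) y * (χ : G → ℂ) x := by
  rw [formula_aux hM hB hD hG hBD hχ hχD hθ ho y hx, deg_formula hM hB hD hG hBD hχ hχD hθ ho,
    div_self (mul_ne_zero (irr_one_ne_zero ζ) (irr_one_ne_zero χ)), one_mul]

/-- converse -/
theorem mem_of_formula [Fintype D] (hM : IsPModular p M) (hB : IsPBlock M B)
    {χ θ : IrrCharacter G} (hχ : χ ∈ B) {ζ : IrrCharacter D}
    (h : ∀ x : G, ¬ p ∣ orderOf x → (θ : G → ℂ) x = (ζ : D → ℂ) 1 * (χ : G → ℂ) x) : θ ∈ B := by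
  have := IsPModular.isPrime hM
  apply isPBlock_mem_of_sameBlock hB hχ
  apply sameBlock_of_regular hM
  intro g hg
  have h11 : ¬ p ∣ orderOf (1 : G) := by
    rw [orderOf_one]
    exact hM.1.one_lt.ne' ∘ Nat.dvd_one.1
  have e : centralChar (χ : G → ℂ) g - centralChar (θ : G → ℂ) g = 0 := by
    unfold centralChar
    rw [h g hg, h 1 h11]
    have hχ1 := irr_one_ne_zero χ
    have hζ1 := irr_one_ne_zero ζ
    field_simp
    ring
  rw [e]
  exact memLocalIdeal_zero

/-- `θ` is determined by `ζ`. -/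
theorem eq_of_over [Fintype D] [Fact p.Prime] (hM : IsPModular p M) (hB : IsPBlock M B)
    (hD : IsPGroup p D) (hG : D ⊔ Subgroup.centralizer (D : Set G) = ⊤)
    (hBD : IsDefectGroup p M B D) {θ θ' : IrrCharacter G} (hθ : θ ∈ B) (hθ' : θ' ∈ B)
    {ζ : IrrCharacter D} (ho : Over θ ζ) (ho' : Over θ' ζ) : θ = θ' := by
  have hN := normal_of_sup hG
  obtain ⟨χ, hχ, hχD⟩ := exists_mem_ker hM hB hD
  apply Subtype.ext
  funext z
  obtain ⟨y, hy⟩ := exists_ppart hM.1 z
  by_cases hyD : y ∈ D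
  · obtain ⟨x, hx, _, _, hxr⟩ := hy
    have h1 := formula hM hB hD hG hBD hχ hχD hθ ho ⟨y, hyD⟩ hxr
    have h2 := formula hM hB hD hG hBD hχ hχD hθ' ho' ⟨y, hyD⟩ hxr
    rw [← hx]
    exact h1.trans h2.symm
  · rw [vanish hM hB hBD hθ hy hyD, vanish hM hB hBD hθ' hy hyD]

theorem card_block [Fact p.Prime] (hM : IsPModular p M) (hB : IsPBlock M B)
    (hD : IsPGroup p D) (hG : D ⊔ Subgroup.centralizer (D : Set G) = ⊤)
    (hBD : IsDefectGroup p M B D) : Nat.card B = Nat.card (ConjClasses D) := by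
  classical
  have hN := normal_of_sup hG
  let _ := Fintype.ofFinite D
  rw [← Helper4Char2.card_irr_eq_card_conjClasses]
  choose f hf using fun θ : IrrCharacter G => exists_under (N := D) θ
  apply Nat.card_congr
  apply Equiv.ofBijective (fun θ : B => f θ.1)
  constructor
  · intro θ θ' h
    dsimp only at h
    apply Subtype.ext
    have h1 := hf θ.1
    have h2 := hf θ'.1
    rw [← h] at h2
    exact eq_of_over hM hB hD hG hBD θ.2 θ'.2 h1 h2
  · intro ζ
    obtain ⟨θ, hθ, ho⟩ := exists_over_of_pgroup hM hB hD ζ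
    refine ⟨⟨θ, hθ⟩, ?_⟩
    obtain ⟨g, hg⟩ := over_conj hN ho (hf θ)
    rw [cjI_eq_of_sup hG] at hg
    exact hg

end blocks

end Cfsg.Agent.Lib.Helper21DC
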