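import Mathlib
import Cfsg.Prelude.Def_Blocks
import Cfsg.Agent.Lib.Helper81Reg2
import Cfsg.Agent.Lib.Helper32Ind
import Cfsg.Agent.Lib.Helper82TISolv
import Cfsg.Agent.Lib.Helper82Linear
import Cfsg.Agent.S0148

set_option autoImplicit false

namespace Cfsg.Agent.Lib.Helper21Ext

open Cfsg
open Cfsg.Agent.Lib.Helper20Center (om)
open Cfsg.Agent.Lib.Helper81Local Cfsg.Agent.Lib.Helper81Base Cfsg.Agent.Lib.Helper81BB
  Cfsg.Agent.Lib.Helper81Block Cfsg.Agent.Lib.Helper81Defect Cfsg.Agent.Lib.Helper81Reg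
  Cfsg.Agent.Lib.Helper81Reg2 Cfsg.Agent.Lib.Helper82Linear
open scoped ComplexConjugate

variable {G : Type*} [Group G] {p : ℕ} {M : Ideal AlgInt}

theorem mem_of_reg (hp : p.Prime) {N : Subgroup G} [N.Normal] {P : Subgroup G} (hP : IsPGroup p P)
    {h : G} (hh : h ∈ N ⊔ P) (hr : ¬ p ∣ orderOf h) : h ∈ N := by
  have h1 : (QuotientGroup.mk' N) h ∈ (N ⊔ P).map (QuotientGroup.mk' N) :=
    Subgroup.mem_map_of_mem _ hh
  rw [Subgroup.map_sup, QuotientGroup.map_mk'_self, bot_sup_eq] at h1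
  obtain ⟨x, hx, hxe⟩ := h1
  obtain ⟨k, hk⟩ := hP ⟨x, hx⟩
  have hk' : x ^ (p ^ k) = 1 := by
    have := congrArg Subtype.val hk
    simpa using this
  have h2 : ((QuotientGroup.mk' N) h) ^ (p ^ k) = 1 := by
    rw [← hxe, ← map_pow, hk', map_one]
  have h3 : orderOf ((QuotientGroup.mk' N) h) ∣ p ^ k := orderOf_dvd_of_pow_eq_one h2
  have h4 : orderOf ((QuotientGroup.mk' N) h) ∣ orderOf h := orderOf_map_dvd _ _
  have h5 : Nat.Coprime (p ^ k) (orderOf h) :=
    Nat.Coprime.pow_left _ ((Nat.Prime.coprime_iff_not_dvd hp).2 hr)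
  have h6 : orderOf ((QuotientGroup.mk' N) h) = 1 := Nat.eq_one_of_dvd_coprimes h5 h3 h4
  rw [orderOf_eq_one_iff] at h6
  exact (QuotientGroup.eq_one_iff h).1 h6

variable [Fintype G]

open scoped Classical in
theorem creg_one_eq (ψ : G → ℂ) :
    creg p (fun _ : G => (1 : ℂ)) ψ = ∑ g : G, (if ¬ p ∣ orderOf g then conj (ψ g) else 0) := by
  unfold creg Cfsg.Agent.Lib.Helper20Center.om areg
  simp

open scoped Classical in
theorem creg_one_ind (H : Subgroup G) [Fintype H] (η : H → ℂ) :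
    creg p (fun _ : G => (1 : ℂ)) (indFun H η)
      = (H.index : ℂ) * creg p (fun _ : H => (1 : ℂ)) η := by
  have hcl : IsClassFunction G (fun g : G => if ¬ p ∣ orderOf g then (1 : ℂ) else 0) := by
    intro g h
    have ho : orderOf (h * g * h⁻¹) = orderOf g := (MulAut.conj h).orderOf_eq g
    simp only [ho]
  have h1 := Cfsg.Agent.Lib.Helper32Ind.frobenius H η _ hcl
  unfold classInner at h1
  have hG : (Nat.card G : ℂ) ≠ 0 := by exact_mod_cast Nat.card_pos.ne'
  have hH : (Nat.card H : ℂ) ≠ 0 := by exact_mod_cast Nat.card_pos.ne'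
  have hidx : (Nat.card G : ℂ) = (H.index : ℂ) * (Nat.card H : ℂ) := by
    rw [← Nat.cast_mul, mul_comm, Subgroup.card_mul_index]
  rw [creg_one_eq, creg_one_eq]
  have e1 : ∑ g : G, (if ¬ p ∣ orderOf g then conj (indFun H η g) else 0)
      = conj (∑ g : G, indFun H η g * conj (if ¬ p ∣ orderOf g then (1 : ℂ) else 0)) := by
    rw [map_sum]
    apply Finset.sum_congr rfl
    intro g _
    split_ifs <;> simp
  have e2 : ∑ g : H, (if ¬ p ∣ orderOf g then conj (η g) else 0)
      = conj (∑ g : H, η g * conj (if ¬ p ∣ orderOf (g : G) then (1 : ℂ) else 0)) := by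
    rw [map_sum]
    apply Finset.sum_congr rfl
    intro g _
    rw [Subgroup.orderOf_coe]
    split_ifs <;> simp
  rw [e1, e2]
  have h2 : ∑ g : G, indFun H η g * conj (if ¬ p ∣ orderOf g then (1 : ℂ) else 0)
      = (H.index : ℂ) * ∑ g : H, η g * conj (if ¬ p ∣ orderOf (g : G) then (1 : ℂ) else 0) := by
    rw [hidx] at h1
    have hi : (H.index : ℂ) ≠ 0 := by
      intro h0
      rw [h0, zero_mul] at hidx
      exact hG hidx
    field_simp at h1
    linear_combination h1
  rw [h2, map_mul, Complex.conj_natCast]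

theorem height_one_eq_zero : blockHeight p (principalBlock M G) (fun _ : G => (1 : ℂ)) = 0 := by
  rw [blockHeight_def]
  have : charDegree (fun _ : G => (1 : ℂ)) = 1 := by
    simp [charDegree]
  rw [this]
  simp

theorem irrOne_mem [M.IsPrime] : irrOne G ∈ principalBlock M G := by
  show SameBlock M _ _
  exact sameBlock_refl _

theorem isPBlock_principal : IsPBlock M (principalBlock M G) := ⟨irrOne G, rfl⟩

open scoped Classical in
theorem exists_over_ext (hM : IsPModular p M) (N : Subgroup G) [N.Normal] [Fintype N]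
    (P : Subgroup G) (hP : IsPGroup p P) (hidx : ¬ p ∣ (N ⊔ P).index)
    (θ : IrrCharacter N) (hθ : θ ∈ principalBlock M N) (hdeg : ¬ p ∣ charDegree (θ : N → ℂ))
    (η : IrrCharacter ↥(N ⊔ P))
    (hη : ∀ n : N, (η : ↥(N ⊔ P) → ℂ) (Subgroup.inclusion le_sup_left n) = (θ : N → ℂ) n) :
    ∃ χ : IrrCharacter G, χ ∈ principalBlock M G ∧ ¬ p ∣ charDegree (χ : G → ℂ) ∧
      classInner (fun n : N => (χ : G → ℂ) n) (θ : N → ℂ) ≠ 0 := by
  have hMp := hM.2.1.isPrime
  have hp := hM.1
  let _ : Fintype ↥(N ⊔ P) := Fintype.ofFinite _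
  -- the pairing in N
  have hN : ¬ MemLocalIdeal M (creg p (fun _ : N => (1 : ℂ)) (θ : N → ℂ)) := by
    have h1 := creg_symm (p := p) (irrOne N) θ
    have h2 : ¬ MemLocalIdeal M (creg p (irrOne N : N → ℂ) (irrOne N : N → ℂ)) :=
      creg_self_unit hM isPBlock_principal irrOne_mem height_one_eq_zero
    have h3 := creg_congr (p := p) (M := M) (τ := irrOne N) (τ' := θ) (irrOne N) hθ
    have h4 : ¬ MemLocalIdeal M (creg p (θ : N → ℂ) (irrOne N : N → ℂ)) := by
      intro h
      apply h2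
      have := memLocalIdeal_add h3 h
      simpa using this
    have h5 : ¬ MemLocalIdeal M ((θ : N → ℂ) 1) := by
      rw [← charDegree_eq, memLocalIdeal_natCast_iff hM]
      exact hdeg
    intro h
    have h6 : MemLocalIdeal M ((θ : N → ℂ) 1 * creg p (θ : N → ℂ) (irrOne N : N → ℂ)) := by
      rw [← h1]
      have : (irrOne N : N → ℂ) 1 = 1 := rfl
      rw [this, one_mul]
      exact h
    rcases memLocalIdeal_or_of_mul (by rw [← charDegree_eq]; exact memLocalRing_natCast _)
      (creg_mem θ (irrOne N)) h6 with h7 | h7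
    · exact h5 h7
    · exact h4 h7
  -- the pairing in H
  have hH : creg p (fun _ : ↥(N ⊔ P) => (1 : ℂ)) (η : ↥(N ⊔ P) → ℂ)
      = creg p (fun _ : N => (1 : ℂ)) (θ : N → ℂ) := by
    rw [creg_one_eq, creg_one_eq]
    symm
    apply Fintype.sum_of_injective (Subgroup.inclusion le_sup_left)
      (Subgroup.inclusion_injective _)
    · intro h hh
      rw [if_neg]
      intro hr
      apply hh
      rw [← Subgroup.orderOf_coe] at hr
      exact ⟨⟨(h : G), mem_of_reg hp hP h.2 hr⟩, rfl⟩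
    · intro n
      rw [hη]
      have : orderOf (Subgroup.inclusion (le_sup_left : N ≤ N ⊔ P) n) = orderOf n :=
        orderOf_injective _ (Subgroup.inclusion_injective _) n
      rw [this]
  have hG : ¬ MemLocalIdeal M (creg p (irrOne G : G → ℂ) (indFun (N ⊔ P) (η : ↥(N ⊔ P) → ℂ))) := by
    have : creg p (irrOne G : G → ℂ) (indFun (N ⊔ P) (η : ↥(N ⊔ P) → ℂ))
        = ((N ⊔ P).index : ℂ) * creg p (fun _ : N => (1 : ℂ)) (θ : N → ℂ) := by
      rw [← hH]
      exact creg_one_ind _ _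
    rw [this]
    intro h
    rcases memLocalIdeal_or_of_mul (memLocalRing_natCast _) (creg_mem (irrOne N) θ) h with h7 | h7
    · exact hidx ((memLocalIdeal_natCast_iff hM).1 h7)
    · exact hN h7
  obtain ⟨χ, hχ, hh, n, hn, hpn⟩ := exists_height_zero_constituent hM isPBlock_principal
    irrOne_mem height_one_eq_zero
    (Cfsg.Agent.S0148.result (N ⊔ P) (η : ↥(N ⊔ P) → ℂ) (Cfsg.Agent.Lib.Helper82Irr.irr_isCharacter η)) hG
  refine ⟨χ, hχ, ?_, ?_⟩
  · rw [blockHeight_def] at hh
    have h1 := minVal_le (p := p) (irrOne_mem (G := G) (M := M))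
    have h2 : charDegree (irrOne G : G → ℂ) = 1 := by
      show charDegree (fun _ : G => (1 : ℂ)) = 1
      simp [charDegree]
    rw [h2] at h1
    simp only [Nat.factorization_one, Finsupp.coe_zero, Pi.zero_apply, nonpos_iff_eq_zero] at h1
    rw [h1, Nat.sub_zero] at hh
    rcases (Nat.factorization_eq_zero_iff _ _).1 hh with h | h | h
    · exact absurd hp h
    · exact h
    · exact absurd h (charDegree_pos χ).ne'
  · have hn0 : (n : ℂ) ≠ 0 := by
      intro h0
      have : n = 0 := by exact_mod_cast h0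
      rw [this] at hpn
      exact hpn (dvd_zero p)
    rw [Cfsg.Agent.Lib.Helper32Ind.frobenius _ _ _ (fun g h => irr_conj χ g h)] at hn
    have h1 : classInner (fun h : ↥(N ⊔ P) => (χ : G → ℂ) h) (η : ↥(N ⊔ P) → ℂ) ≠ 0 := by
      rw [← Cfsg.Agent.Lib.Helper4Char.classInner_conj_symm, hn]
      simpa using hn0
    have h2 : classInner (fun d : N => (η : ↥(N ⊔ P) → ℂ) (Subgroup.inclusion le_sup_left d))
        (θ : N → ℂ) ≠ 0 := by
      have : (fun d : N => (η : ↥(N ⊔ P) → ℂ) (Subgroup.inclusion le_sup_left d)) = (θ : N → ℂ) :=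
        funext hη
      rw [this]
      unfold classInner
      rw [irr_orth, if_pos rfl]
      simp
    exact Cfsg.Agent.Lib.Helper82TISolv.constituent_trans (Subgroup.inclusion le_sup_left)
      (Cfsg.Agent.Lib.Helper4Char4.IsCharacter.restrict (N ⊔ P)
        (Cfsg.Agent.Lib.Helper82Irr.irr_isCharacter χ)) η h1 θ h2

end Cfsg.Agent.Lib.Helper21Ext
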