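import Mathlib
import Cfsg.Prelude.Def_Blocks
import Cfsg.Agent.Lib.Helper20Conj
import Cfsg.Agent.Lib.Helper20Induced
import Cfsg.Agent.Lib.Helper21Cover3
import Cfsg.Agent.Lib.Helper14CoreB

set_option autoImplicit false
set_option linter.unusedSectionVars false
set_option linter.unusedVariables false

/-! Defect groups of blocks of quotient groups. -/

namespace Cfsg.Agent.Lib.Helper21Quot

open Cfsg
open Cfsg.Agent.Lib.Helper20Local Cfsg.Agent.Lib.Helper20Center Cfsg.Agent.Lib.Helper20Block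
open Cfsg.Agent.Lib.Helper20Induced Cfsg.Agent.Lib.Helper20Conj
open Cfsg.Agent.Lib.Helper87Sylow Cfsg.Agent.Lib.Helper20Defect
open Cfsg.Agent.Lib.Helper82Quot

section grp

variable {G : Type*} [Group G] [Finite G] {p : ℕ} [Fact p.Prime]

theorem sylIn_iff_relIndex {X N : Subgroup G} :
    SylIn p X N ↔ X ≤ N ∧ IsPGroup p X ∧ ¬ p ∣ X.relIndex N := by
  have hp : p.Prime := Fact.out
  constructor
  · intro h
    refine ⟨h.1, h.isPGroup, fun hdvd => ?_⟩
    have h1 := Helper14CoreB.card_mul_relIndex h.1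
    have h0 : X.relIndex N ≠ 0 := by
      intro h0
      rw [h0, mul_zero] at h1
      exact Nat.card_pos.ne' h1.symm
    have h2 : (Nat.card N).factorization p
        = (Nat.card X).factorization p + (X.relIndex N).factorization p := by
      rw [← h1, Nat.factorization_mul Nat.card_pos.ne' h0]
      rfl
    rw [h.2, hp.factorization_pow, Finsupp.single_eq_same] at h2
    have h3 : 1 ≤ (X.relIndex N).factorization p := (hp.dvd_iff_one_le_factorization h0).1 hdvd
    omega
  · rintro ⟨h1, h2, h3⟩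
    refine ⟨h1, ?_⟩
    obtain ⟨k, hk⟩ := IsPGroup.iff_card.1 h2
    have h4 := Helper14CoreB.card_mul_relIndex h1
    have h0 : X.relIndex N ≠ 0 := by
      intro h0
      rw [h0, mul_zero] at h4
      exact Nat.card_pos.ne' h4.symm
    rw [← h4, Nat.factorization_mul Nat.card_pos.ne' h0, Finsupp.add_apply,
      Nat.factorization_eq_zero_of_not_dvd h3, add_zero, hk, hp.factorization_pow,
      Finsupp.single_eq_same]

/-- the image of a Sylow subgroup of a full preimage is a Sylow subgroup. -/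
theorem sylIn_map (N : Subgroup G) [N.Normal] {Q : Subgroup G} {Y : Subgroup (G ⧸ N)}
    (h : SylIn p Q (Y.comap (QuotientGroup.mk' N))) :
    SylIn p (Q.map (QuotientGroup.mk' N)) Y := by
  rw [sylIn_iff_relIndex] at h ⊢
  obtain ⟨h1, h2, h3⟩ := h
  refine ⟨Subgroup.map_le_iff_le_comap.2 h1, h2.map _, fun hdvd => h3 ?_⟩
  have e1 : (Q.map (QuotientGroup.mk' N)).relIndex Y
      = ((Q.map (QuotientGroup.mk' N)).comap (QuotientGroup.mk' N)).relIndex
          (Y.comap (QuotientGroup.mk' N)) := by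
    rw [Subgroup.relIndex_comap,
      Subgroup.map_comap_eq_self_of_surjective (QuotientGroup.mk'_surjective N)]
  rw [e1] at hdvd
  exact hdvd.trans (Subgroup.relIndex_dvd_of_le_left _ (Subgroup.le_comap_map _ _))

theorem map_cj (N : Subgroup G) [N.Normal] (t : G) (Q : Subgroup G) :
    (cj t Q).map (QuotientGroup.mk' N) = cj (t : G ⧸ N) (Q.map (QuotientGroup.mk' N)) := by
  ext y
  constructor
  · rintro ⟨_, ⟨q, hq, rfl⟩, rfl⟩
    exact ⟨_, ⟨q, hq, rfl⟩, by simp⟩
  · rintro ⟨_, ⟨q, hq, rfl⟩, rfl⟩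
    exact ⟨_, ⟨q, hq, rfl⟩, by simp⟩

end grp

variable {G : Type*} [Group G] [Fintype G] {M : Ideal Cfsg.AlgInt} {p : ℕ} [Fact p.Prime]

/-- the preimage of the centralizer of the image of `g`. -/
abbrev preC (N : Subgroup G) [N.Normal] (g : G) : Subgroup G :=
  (Subgroup.centralizer ({(g : G ⧸ N)} : Set (G ⧸ N))).comap (QuotientGroup.mk' N)

theorem centralizer_le_preC (N : Subgroup G) [N.Normal] (g : G) :
    Subgroup.centralizer ({g} : Set G) ≤ preC N g := by
  intro x hx
  rw [Subgroup.mem_comap, Subgroup.mem_centralizer_singleton_iff]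
  rw [Subgroup.mem_centralizer_singleton_iff] at hx
  have := congrArg (QuotientGroup.mk' N) hx
  simpa using this

theorem centralChar_inflate (N : Subgroup G) [N.Normal] (χ : IrrCharacter (G ⧸ N)) (g : G) :
    centralChar (inflate N χ : G → ℂ) g
      = ((Subgroup.centralizer ({g} : Set G)).relIndex (preC N g) : ℂ)
        * centralChar (χ : G ⧸ N → ℂ) (g : G ⧸ N) := by
  unfold centralChar
  rw [← Subgroup.relIndex_mul_index (centralizer_le_preC N g),
    Subgroup.index_comap_of_surjective _ (QuotientGroup.mk'_surjective N)]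
  rw [inflate_apply, inflate_apply]
  push_cast
  have : ((1 : G) : G ⧸ N) = 1 := rfl
  rw [this]
  ring

/-- there is a class on which both the idempotent and the central character are units. -/
theorem exists_unit (hM : M.IsPrime) {B : Set (IrrCharacter G)} (hB : IsPBlock M B)
    {χ : IrrCharacter G} (hχ : χ ∈ B) :
    ∃ g : G, ¬ MemLocalIdeal M (blockCoeff B g) ∧ ¬ MemLocalIdeal M (centralChar (χ : G → ℂ) g) := by
  classical
  have h1 : om (χ : G → ℂ) (blockCoeff B) = 1 := by rw [om_blockCoeff, if_pos hχ]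
  rw [om_eq_sum_classes (Helper4Char.IsIrrCharacter.isClassFunction χ.2)
    (blockCoeff_isClassFunction B)] at h1
  by_contra hcon
  push Not at hcon
  apply not_memLocalIdeal_one hM
  rw [← h1]
  apply liSum hM
  intro C _
  by_cases h : MemLocalIdeal M (blockCoeff B (Helper4Char2.rep C))
  · exact liMulRight hM h (centralChar_mem hM χ.2 _)
  · exact liMulLeft hM ((isSC_blockCoeff hM hB).2 _) (hcon _ h)

theorem defect_quotient_le (hM : IsPModular p M) (N : Subgroup G) [N.Normal] [Fintype (G ⧸ N)]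
    {Bbar : Set (IrrCharacter (G ⧸ N))} (hBbar : IsPBlock M Bbar)
    {B : Set (IrrCharacter G)} (hB : IsPBlock M B)
    {χ : IrrCharacter (G ⧸ N)} (hχ : χ ∈ Bbar) (hχB : inflate N χ ∈ B)
    {Dbar : Subgroup (G ⧸ N)} (hDbar : IsDefectGroup p M Bbar Dbar) :
    ∃ P : Subgroup G, IsDefectGroup p M B P ∧ Dbar ≤ P.map (QuotientGroup.mk' N) := by
  classical
  have hP := IsPModular.isPrime hM
  obtain ⟨g, he, hω⟩ := exists_unit hP hB hχB
  rw [centralChar_inflate] at hω
  have hr : ¬ p ∣ (Subgroup.centralizer ({g} : Set G)).relIndex (preC N g) := by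
    intro h
    exact hω (liMulRight hP ((memLocalIdeal_natCast_iff hM _).2 h) (centralChar_mem hP χ.2 _))
  have hωb : ¬ MemLocalIdeal M (centralChar (χ : G ⧸ N → ℂ) (g : G ⧸ N)) :=
    fun h => hω (liMulLeft hP (memLocalRing_natCast hP _) h)
  obtain ⟨Q, hQ⟩ := exists_sylIn (p := p) (Subgroup.centralizer ({g} : Set G))
  have hQ' : SylIn p Q (preC N g) := by
    rw [sylIn_iff_relIndex] at hQ ⊢
    refine ⟨hQ.1.trans (centralizer_le_preC N g), hQ.2.1, ?_⟩
    rw [← Subgroup.relIndex_mul_relIndex _ _ _ hQ.1 (centralizer_le_preC N g)]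
    intro h
    rcases (Fact.out : p.Prime).dvd_mul.1 h with h | h
    · exact hQ.2.2 h
    · exact hr h
  have hQm := sylIn_map N hQ'
  obtain ⟨t, ht⟩ := defectGroup_le_of_centralChar hM hBbar hDbar hχ hωb hQm
  obtain ⟨t0, rfl⟩ := QuotientGroup.mk_surjective t
  obtain ⟨D, hD⟩ := exists_defectGroup hM hB
  obtain ⟨y, hy, hS⟩ := isDefectGroup_iff.mp hD
  obtain ⟨x, hx⟩ := cSub_of_blockCoeff hM hB hχB (hy.2.2 _ hχB) hS he Q hQ.isPGroup hQ.1
  refine ⟨cj t0 (cj x D), isDefectGroup_cj (isDefectGroup_cj hD x) t0, ht.trans ?_⟩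
  rw [← map_cj]
  exact Subgroup.map_mono (cj_mono hx)

end Cfsg.Agent.Lib.Helper21Quot
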