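import Mathlib
import Cfsg.Prelude.Def_Blocks
import Cfsg.Agent.Lib.Helper21Quot
import Cfsg.Agent.Lib.Helper20Cov

set_option autoImplicit false
set_option linter.unusedSectionVars false
set_option linter.unusedVariables false

/-! Blocks of `G/N` for a normal `p`-subgroup `N`: a dominated block with defect groups `D N / N`. -/

namespace Cfsg.Agent.Lib.Helper21Quot2

open Cfsg
open Cfsg.Agent.Lib.Helper20Local Cfsg.Agent.Lib.Helper20Center Cfsg.Agent.Lib.Helper20Block
open Cfsg.Agent.Lib.Helper20Induced Cfsg.Agent.Lib.Helper20Conj Cfsg.Agent.Lib.Helper20DefCard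
open Cfsg.Agent.Lib.Helper87Sylow Cfsg.Agent.Lib.Helper20Defect Cfsg.Agent.Lib.Helper20Cov
open Cfsg.Agent.Lib.Helper82Quot Cfsg.Agent.Lib.Helper21Quot Cfsg.Agent.Lib.Helper21Cover3
open Cfsg.Agent.Lib.Helper21Cover4

variable {G : Type*} [Group G] [Fintype G] {M : Ideal Cfsg.AlgInt} {p : ℕ} [Fact p.Prime]

/-- the characters of `G/N` whose inflation lies in `B`. -/
def dom (N : Subgroup G) [N.Normal] (B : Set (IrrCharacter G)) : Set (IrrCharacter (G ⧸ N)) :=
  {χ | inflate N χ ∈ B}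

theorem push_blockCoeff (N : Subgroup G) [N.Normal] [Fintype (G ⧸ N)] (B : Set (IrrCharacter G)) :
    push N (blockCoeff B) = blockCoeff (dom N B) := by
  classical
  apply omVec_injective (push_classfn (blockCoeff_isClassFunction B))
    (blockCoeff_isClassFunction _)
  funext χ
  rw [omVec_blockCoeff]
  simp only [omVec]
  rw [← om81_eq, ← om_inflate, om81_eq, om_blockCoeff]
  rfl

theorem push_eq_of_regular (hM : IsPModular p M) (N : Subgroup G) [N.Normal] (hN : IsPGroup p N)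
    {B : Set (IrrCharacter G)} (hB : IsPBlock M B) {g : G} (hg : ¬ p ∣ orderOf g)
    (hgN : g ∈ Subgroup.centralizer (N : Set G)) :
    push N (blockCoeff B) (g : G ⧸ N) = blockCoeff B g := by
  classical
  unfold push
  rw [Finset.sum_eq_single g]
  · rw [if_pos rfl]
  · intro x _ hxg
    split_ifs with h1
    · by_cases h2 : p ∣ orderOf x
      · exact Helper81Orth.blockCoeff_eq_zero_of_singular hM hB h2
      · exfalso
        apply hxg
        have h3 : g⁻¹ * x ∈ N := QuotientGroup.eq.1 h1.symm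
        have hc : Commute g (g⁻¹ * x) := (Subgroup.mem_centralizer_iff.1 hgN _ h3).symm
        obtain ⟨k, hk⟩ := hN ⟨_, h3⟩
        have hk' : (g⁻¹ * x) ^ p ^ k = 1 := by
          have := congrArg Subtype.val hk
          simpa using this
        have h4 := eq_of_regular_of_commute (Fact.out : p.Prime) hc ⟨k, hk'⟩ hg
          (by rwa [mul_inv_cancel_left])
        exact (inv_mul_eq_one.1 h4).symm
    · rfl
  · intro h; exact absurd (Finset.mem_univ _) h

theorem exists_dominated (hM : IsPModular p M) (N : Subgroup G) [N.Normal] [Fintype (G ⧸ N)]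
    (hN : IsPGroup p N) {B : Set (IrrCharacter G)} (hB : IsPBlock M B) :
    ∃ Bbar : Set (IrrCharacter (G ⧸ N)), IsPBlock M Bbar ∧ (∀ χ ∈ Bbar, inflate N χ ∈ B) ∧
      ∀ Dbar : Subgroup (G ⧸ N), IsDefectGroup p M Bbar Dbar ↔
        ∃ P : Subgroup G, IsDefectGroup p M B P ∧ Dbar = P.map (QuotientGroup.mk' N) := by
  classical
  have hP := IsPModular.isPrime hM
  obtain ⟨D, hD⟩ := exists_defectGroup hM hB
  obtain ⟨g, hg, hS⟩ := isDefectGroup_iff.mp hD
  have hg0 : blockCoeff B g ≠ 0 := by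
    intro h0
    apply hg.2.1
    rw [h0]
    exact memLocalIdeal_zero hP
  have hreg : ¬ p ∣ orderOf g := not_dvd_orderOf_of_blockCoeff hM hB hg0
  have hgN : g ∈ Subgroup.centralizer (N : Set G) := by
    by_contra h
    exact hg0 (blockCoeff_eq_zero_of_not_mem_centralizer hM hN hB h)
  have h1 := push_eq_of_regular hM N hN hB hreg hgN
  rw [push_blockCoeff, blockCoeff_eq_sum_inter hP] at h1
  obtain ⟨β, hβ⟩ : ∃ β : Helper80Pairs.Blk M (G ⧸ N),
      ¬ MemLocalIdeal M (blockCoeff (dom N B ∩ β.1) (g : G ⧸ N)) := by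
    by_contra hcon
    push Not at hcon
    apply hg.2.1
    rw [← h1]
    exact liSum hP _ _ (fun β _ => hcon β)
  have hne : ∃ χ, χ ∈ dom N B ∩ β.1 := by
    by_contra hcon
    push Not at hcon
    apply hβ
    have : dom N B ∩ β.1 = ∅ := Set.eq_empty_iff_forall_notMem.2 hcon
    rw [this]
    have : blockCoeff (∅ : Set (IrrCharacter (G ⧸ N))) (g : G ⧸ N) = 0 := by
      unfold blockCoeff
      simp
    rw [this]
    exact memLocalIdeal_zero hP
  obtain ⟨χ0, hχ0B, hχ0β⟩ := hne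
  have hsub : ∀ χ ∈ β.1, inflate N χ ∈ B := by
    intro χ hχ
    have := hP
    exact IsPBlock.mem_of_sameBlock hP hB hχ0B
      (sameBlock_inflate (IsPBlock.sameBlock hP β.2 hχ0β hχ))
  have hinter : dom N B ∩ β.1 = β.1 := Set.inter_eq_right.2 hsub
  rw [hinter] at hβ
  -- cardinalities
  have hcardmap : ∀ P : Subgroup G, IsDefectGroup p M B P →
      Nat.card (P.map (QuotientGroup.mk' N)) = Nat.card (D.map (QuotientGroup.mk' N)) := by
    intro P hP'
    obtain ⟨t, rfl⟩ := defectGroup_conj hM hB hD hP'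
    rw [map_cj, card_cj]
  have hle : ∀ Dbar : Subgroup (G ⧸ N), IsDefectGroup p M β.1 Dbar →
      Nat.card (D.map (QuotientGroup.mk' N)) ≤ Nat.card Dbar := by
    intro Dbar hDbar
    obtain ⟨y, hy, hS'⟩ := isDefectGroup_iff.mp hDbar
    have hDC : D.map (QuotientGroup.mk' N)
        ≤ Subgroup.centralizer ({(g : G ⧸ N)} : Set (G ⧸ N)) :=
      Subgroup.map_le_iff_le_comap.2 (hS.1.trans (centralizer_le_preC N g))
    obtain ⟨x, hx⟩ := cSub_of_blockCoeff hM β.2 hχ0β (hy.2.2 _ hχ0β) hS' hβ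
      (D.map (QuotientGroup.mk' N)) (hS.isPGroup.map _) hDC
    rw [← card_cj x Dbar]
    exact Subgroup.card_le_of_le hx
  have hfwd : ∀ Dbar : Subgroup (G ⧸ N), IsDefectGroup p M β.1 Dbar →
      ∃ P : Subgroup G, IsDefectGroup p M B P ∧ Dbar = P.map (QuotientGroup.mk' N) := by
    intro Dbar hDbar
    obtain ⟨P, hP1, hP2⟩ := defect_quotient_le hM N β.2 hB hχ0β hχ0B hDbar
    refine ⟨P, hP1, Subgroup.eq_of_le_of_card_ge hP2 ?_⟩
    rw [hcardmap P hP1]
    exact hle Dbar hDbar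
  refine ⟨β.1, β.2, hsub, fun Dbar => ⟨hfwd Dbar, ?_⟩⟩
  rintro ⟨P, hP1, rfl⟩
  obtain ⟨D', hD'⟩ := exists_defectGroup hM β.2
  obtain ⟨P', hP1', rfl⟩ := hfwd D' hD'
  obtain ⟨t, rfl⟩ := defectGroup_conj hM hB hP1' hP1
  rw [map_cj]
  exact isDefectGroup_cj hD' _

end Cfsg.Agent.Lib.Helper21Quot2
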