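import Mathlib
import Cfsg.Prelude.Def_Blocks
import Cfsg.Prelude.Def_BlockRank
import Cfsg.Agent.Lib.Helper21DC
import Cfsg.Agent.Lib.Helper81Rank

set_option autoImplicit false
set_option linter.unusedSectionVars false
set_option linter.unusedVariables false

/-! `l(B) = l(B̄)` for `G = Q C_G(Q)`, `Q` a `p`-group. -/

namespace Cfsg.Agent.Lib.Helper21Rank

open Cfsg
open Cfsg.Agent.Lib.Helper81Local Cfsg.Agent.Lib.Helper81Base Cfsg.Agent.Lib.Helper81BB
  Cfsg.Agent.Lib.Helper81Block Cfsg.Agent.Lib.Helper81Orth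
  Cfsg.Agent.Lib.Helper21Cover Cfsg.Agent.Lib.Helper21Cover2 Cfsg.Agent.Lib.Helper82Quot
  Cfsg.Agent.Lib.Helper21Cover3 Cfsg.Agent.Lib.Helper21Cover4 Cfsg.Agent.Lib.Helper21DC
  Cfsg.Agent.Lib.Helper81Rank
open scoped ComplexConjugate

variable {G : Type*} [Group G] [Fintype G] {M : Ideal Cfsg.AlgInt} {p : ℕ}

theorem reg_of_not (χ : G → ℂ) {g : G} (h : ¬ p ∣ orderOf g) : pRegularPart p χ g = χ g := by
  classical
  rw [pRegularPart_apply, if_pos h]

theorem reg_of_dvd (χ : G → ℂ) {g : G} (h : p ∣ orderOf g) : pRegularPart p χ g = 0 := by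
  classical
  rw [pRegularPart_apply, if_neg (not_not.2 h)]

variable (Q : Subgroup G) [hQn : Q.Normal] [Fintype (G ⧸ Q)]

open scoped Classical in
/-- pull back to `G`, cutting off the `p`-singular elements. -/
noncomputable def Phi (p : ℕ) : (G ⧸ Q → ℂ) →ₗ[ℂ] (G → ℂ) where
  toFun f := fun g => if p ∣ orderOf g then 0 else f (g : G ⧸ Q)
  map_add' a b := by
    funext g
    simp only [Pi.add_apply]
    split_ifs <;> simp
  map_smul' c a := by
    funext g
    simp only [Pi.smul_apply, RingHom.id_apply, smul_eq_mul]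
    split_ifs <;> simp

/-- push forward to `G/Q`. -/
noncomputable def Psi : (G → ℂ) →ₗ[ℂ] (G ⧸ Q → ℂ) where
  toFun α := push Q α
  map_add' a b := by
    classical
    funext y
    simp only [push, Pi.add_apply]
    rw [← Finset.sum_add_distrib]
    apply Finset.sum_congr rfl
    intro g _
    split_ifs <;> simp
  map_smul' c a := by
    classical
    funext y
    simp only [push, Pi.smul_apply, RingHom.id_apply, smul_eq_mul]
    rw [Finset.mul_sum]
    apply Finset.sum_congr rfl
    intro g _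
    split_ifs <;> simp

theorem dvd_orderOf_of_mk {g : G} (h : p ∣ orderOf (g : G ⧸ Q)) : p ∣ orderOf g :=
  h.trans (orderOf_map_dvd (QuotientGroup.mk' Q) g)

theorem Phi_reg (χ : IrrCharacter (G ⧸ Q)) :
    Phi Q p (pRegularPart p (χ : G ⧸ Q → ℂ)) = pRegularPart p (inflate Q χ : G → ℂ) := by
  classical
  funext g
  simp only [Phi, LinearMap.coe_mk, AddHom.coe_mk]
  by_cases hg : p ∣ orderOf g
  · rw [if_pos hg, reg_of_dvd _ hg]
  · rw [if_neg hg, reg_of_not _ hg, reg_of_not _ (fun h => hg (dvd_orderOf_of_mk Q h))]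
    rfl

theorem Psi_reg (hp : p.Prime) (hQ : IsPGroup p Q)
    (hC : ∃ k : ℕ, (Subgroup.centralizer (Q : Set G)).index = p ^ k)
    (χ : IrrCharacter (G ⧸ Q)) :
    Psi Q (pRegularPart p (inflate Q χ : G → ℂ)) = pRegularPart p (χ : G ⧸ Q → ℂ) := by
  classical
  funext y
  simp only [Psi, LinearMap.coe_mk, AddHom.coe_mk]
  by_cases hy : p ∣ orderOf y
  · rw [reg_of_dvd _ hy]
    unfold push
    apply Finset.sum_eq_zero
    intro g _
    split_ifs with h1
    · exact reg_of_dvd _ (dvd_orderOf_of_mk Q (h1 ▸ hy))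
    · rfl
  · obtain ⟨x, rfl, hx⟩ := exists_regular_lift hp Q hy
    rw [push_regular hp hQ hC (fun g hg => reg_of_dvd _ hg) hx, reg_of_not _ hx, reg_of_not _ hy]
    rfl

/-- the `p`-regular part of `θ` is a combination of those of the inflated characters in its
block. -/
theorem reg_mem_span [Fact p.Prime] (hM : IsPModular p M) (hQ : IsPGroup p Q)
    (hC : ∃ k : ℕ, (Subgroup.centralizer (Q : Set G)).index = p ^ k) (θ : IrrCharacter G) :
    pRegularPart p (θ : G → ℂ) ∈ Submodule.span ℂ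
      ((fun χ : IrrCharacter (G ⧸ Q) => pRegularPart p (inflate Q χ : G → ℂ)) ''
        {χ | SameBlock M (inflate Q χ : G → ℂ) (θ : G → ℂ)}) := by
  classical
  have := IsPModular.isPrime hM
  set α : G → ℂ := fun g => if p ∣ orderOf g then 0 else conj ((θ : G → ℂ) g) with hα
  have ord_conj : ∀ g k : G, orderOf (k * g * k⁻¹) = orderOf g := by
    intro g k
    have := (MulAut.conj k).orderOf_eq g
    simpa using this
  have hαcf : IsClassFunction G α := by
    intro g k
    simp only [hα]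
    rw [ord_conj, irr_conj]
  have hα0 : ∀ g, p ∣ orderOf g → α g = 0 := by
    intro g hg
    simp only [hα]
    rw [if_pos hg]
  have h1 : ∀ ψ' : IrrCharacter (G ⧸ Q), ¬ SameBlock M (inflate Q ψ' : G → ℂ) (θ : G → ℂ) →
      om (push Q α) ψ' = 0 := by
    intro ψ' hns
    rw [← om_inflate]
    have h4 := Helper81Orth2.regular_orth hM hns
    unfold om
    rw [← Finset.sum_div]
    have h5 : ∑ g : G, α g * (inflate Q ψ' : G → ℂ) g = 0 := by
      rw [← h4]
      apply Finset.sum_congr rfl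
      intro g _
      simp only [hα]
      by_cases hg : p ∣ orderOf g
      · rw [if_pos hg, if_neg (not_not.2 hg), zero_mul]
      · rw [if_neg hg, if_pos hg, mul_comm]
    rw [h5, zero_div]
  have h2 : pRegularPart p (θ : G → ℂ) = ∑ ψ : IrrCharacter (G ⧸ Q),
      (conj ((Nat.card (G ⧸ Q) : ℂ)⁻¹ * ((ψ : G ⧸ Q → ℂ) 1 * om (push Q α) ψ))) •
        pRegularPart p (inflate Q ψ : G → ℂ) := by
    funext x
    rw [Finset.sum_apply]
    by_cases hx : p ∣ orderOf x
    · rw [reg_of_dvd _ hx]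
      symm
      apply Finset.sum_eq_zero
      intro ψ _
      rw [Pi.smul_apply, reg_of_dvd _ hx, smul_zero]
    · rw [reg_of_not _ hx]
      have h3 := inversion (push_classfn (N := Q) hαcf) (x : G ⧸ Q)
      rw [push_regular hM.1 hQ hC hα0 hx] at h3
      simp only [hα] at h3
      rw [if_neg hx] at h3
      have h4 := congrArg conj h3
      rw [Complex.conj_conj] at h4
      rw [h4, map_mul, map_sum, Finset.mul_sum]
      apply Finset.sum_congr rfl
      intro ψ _
      rw [Pi.smul_apply, reg_of_not _ hx, smul_eq_mul, inflate_apply]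
      simp only [map_mul, Complex.conj_conj]
      ring
  rw [h2]
  apply Submodule.sum_mem
  intro ψ _
  by_cases hs : SameBlock M (inflate Q ψ : G → ℂ) (θ : G → ℂ)
  · exact Submodule.smul_mem _ _ (Submodule.subset_span ⟨ψ, hs, rfl⟩)
  · rw [h1 ψ hs]
    simp

theorem blockRank_inflate [Fact p.Prime] (hM : IsPModular p M) (hQ : IsPGroup p Q)
    (hsup : Q ⊔ Subgroup.centralizer (Q : Set G) = ⊤) (χ0 : IrrCharacter (G ⧸ Q)) :
    blockRank p (blockOf M (inflate Q χ0 : G → ℂ)) = blockRank p (blockOf M (χ0 : G ⧸ Q → ℂ)) := by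
  classical
  have := IsPModular.isPrime hM
  have hC := index_centralizer hQ hsup
  set S' : Submodule ℂ (G → ℂ) := Submodule.span ℂ
    ((fun χ : IrrCharacter (G ⧸ Q) => pRegularPart p (inflate Q χ : G → ℂ)) ''
      (blockOf M (χ0 : G ⧸ Q → ℂ))) with hS'
  set Sbar : Submodule ℂ (G ⧸ Q → ℂ) := Submodule.span ℂ
    ((fun χ : IrrCharacter (G ⧸ Q) => pRegularPart p (χ : G ⧸ Q → ℂ)) ''
      (blockOf M (χ0 : G ⧸ Q → ℂ))) with hSbar
  have e1 : Sbar.map (Phi Q p) = S' := by
    rw [hSbar, Submodule.map_span, Set.image_image]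
    simp only [Phi_reg]
    rfl
  have e2 : S'.map (Psi Q) = Sbar := by
    rw [hS', Submodule.map_span, Set.image_image]
    simp only [Psi_reg Q hM.1 hQ hC]
    rfl
  have e3 : Submodule.span ℂ ((fun χ : IrrCharacter G => pRegularPart p (χ : G → ℂ)) ''
      (blockOf M (inflate Q χ0 : G → ℂ))) = S' := by
    apply le_antisymm
    · rw [Submodule.span_le]
      rintro _ ⟨θ, hθ, rfl⟩
      have h1 := reg_mem_span Q hM hQ hC θ
      refine Submodule.span_mono ?_ h1
      rintro _ ⟨χ, hχ, rfl⟩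
      refine ⟨χ, ?_, rfl⟩
      have h2 : SameBlock M (inflate Q χ0 : G → ℂ) (inflate Q χ : G → ℂ) :=
        sameBlock_trans hθ (sameBlock_symm hχ)
      exact sameBlock_of_inflate_pgroup hM hQ hC h2
    · rw [hS', Submodule.span_le]
      rintro _ ⟨χ, hχ, rfl⟩
      exact Submodule.subset_span ⟨inflate Q χ, sameBlock_inflate hχ, rfl⟩
  unfold blockRank
  rw [e3]
  apply le_antisymm
  · rw [← e1]
    exact Submodule.finrank_map_le _ _
  · have : Module.finrank ℂ ↥(S'.map (Psi Q)) ≤ Module.finrank ℂ ↥S' :=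
      Submodule.finrank_map_le _ _
    rwa [e2] at this

end Cfsg.Agent.Lib.Helper21Rank
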