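import Cfsg.Agent.Lib.Helper8BN

set_option autoImplicit false

/-! PROJECT 1098: a normal subgroup of a group with an irreducible BN-pair lies in `B` or supplements `B`
(the first half of the proof of S0319, helper8). -/

namespace Cfsg.Agent.Lib.Helper22GrBN

open Cfsg.Agent.Lib.Helper8BN

theorem sup_eq_top {G : Type*} [Group G] (P : Cfsg.BNPair G) (hirr : P.Irreducible) (H : Subgroup G) (hH : H.Normal)
    (hHB : ¬ H ≤ P.B) : P.B ⊔ H = ⊤ := by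
  set M : Subgroup G := P.B ⊔ H with hMdef
  have hBM : P.B ≤ M := le_sup_left
  have hHM : H ≤ M := le_sup_right
  have hMX := eq_parabolic hBM
  have claim : ∀ s₁ ∈ P.S ∩ (M : Set G), ∀ s₂ ∈ P.S \ (P.S ∩ (M : Set G)),
      s₁ * s₂ * s₁⁻¹ * s₂⁻¹ ∈ P.B := by
    rintro s₁ ⟨hs₁, hs₁M⟩ s₂ ⟨hs₂, hs₂M⟩
    have hs₂M' : s₂ ∉ M := fun h => hs₂M ⟨hs₂, h⟩
    by_contra hcomm
    obtain ⟨b, hb, h, hh, e⟩ := Subgroup.mem_sup_of_normal_right.1 hs₁M
    have hU1 : Up P s₂ s₁ := by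
      by_contra hU
      have h1 : ¬ Up P s₂ (1 * s₁) := by rwa [one_mul]
      have h2 := Up_exchange hs₂ hs₁ P.N.one_mem (Up_T P.B.one_mem) h1
      rw [mul_one, one_mul] at h2
      have := P.inj s₂ hs₂ s₁ hs₁ h2
      exact hs₂M' (this ▸ hs₁M)
    have hU2 : Up P s₂ (s₁ * s₂) := by
      by_contra hU
      have h2 := Up_exchange hs₂ hs₂ (S_mem_N hs₁) hU1 hU
      have hN12 := P.N.mul_mem (S_mem_N hs₁) (S_mem_N hs₂)
      have hN21 := P.N.mul_mem (S_mem_N hs₂) (S_mem_N hs₁)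
      have h3 := (conj_mem_T hN12 ⟨h2, P.N.mul_mem (P.N.inv_mem hN21) hN12⟩).1
      apply hcomm
      have e2 : s₁ * s₂ * ((s₂ * s₁)⁻¹ * (s₁ * s₂)) * (s₁ * s₂)⁻¹ = s₁ * s₂ * s₁⁻¹ * s₂⁻¹ := by
        group
      rwa [e2] at h3
    have hN12 := P.N.mul_mem (S_mem_N hs₁) (S_mem_N hs₂)
    have hnN : s₂ * (s₁ * s₂) ∈ P.N := P.N.mul_mem (S_mem_N hs₂) hN12
    have hU3 : ¬ Up P s₂ (s₂ * (s₁ * s₂)) := fun hU => not_Up_both hs₂ hN12 hU2 hU
    have hg : s₂ * h * s₂⁻¹ ∈ H := hH.conj_mem h hh s₂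
    have hR := hU2 b⁻¹ (P.B.inv_mem hb)
    have e3 : s₂ * b⁻¹ * (s₁ * s₂) = (s₂ * h * s₂⁻¹) * (s₂ * s₂) := by
      rw [← e]; group
    have hmem : s₂ * b⁻¹ * (s₁ * s₂) ∈ M := by
      rw [e3]
      exact M.mul_mem (hHM hg) (hBM (P.sq_mem s₂ hs₂))
    have hnM : s₂ * (s₁ * s₂) ∈ M := by
      obtain ⟨x, hx, y, hy, e4⟩ := hR.symm
      rw [e4]
      exact M.mul_mem (M.mul_mem (hBM hx) hmem) (hBM hy)
    exact hs₂M' (S_mem_of_not_Up hBM hs₂ hnN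
      (fun c hc => M.mul_mem (M.mul_mem hnM (hBM hc)) (M.inv_mem hnM)) hU3)
  have hXne : (P.S ∩ (M : Set G)).Nonempty := by
    by_contra hemp
    rw [Set.not_nonempty_iff_eq_empty] at hemp
    rw [hemp] at hMX
    have h2 : P.parabolic ∅ = P.B := by
      unfold Cfsg.BNPair.parabolic
      simp
    rw [h2] at hMX
    exact hHB (hMX ▸ hHM)
  have hXS : P.S \ (P.S ∩ (M : Set G)) = ∅ := by
    by_contra hne
    have hne' : (P.S \ (P.S ∩ (M : Set G))).Nonempty := Set.nonempty_iff_ne_empty.2 hne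
    obtain ⟨s, hs, s', hs', hn⟩ := hirr _ Set.inter_subset_left hXne hne'
    exact hn (claim s hs s' hs')
  have hMtop : M = ⊤ := by
    rw [hMX]
    have : P.S ∩ (M : Set G) = P.S := by
      apply Set.Subset.antisymm Set.inter_subset_left
      exact Set.sdiff_eq_empty.1 hXS
    rw [this, parabolic_S]
  exact hMtop

end Cfsg.Agent.Lib.Helper22GrBN
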