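import Cfsg.Agent.Lib.Helper22TwAbs3

set_option autoImplicit false
set_option linter.unusedSectionVars false
set_option linter.unusedVariables false

/-! Twisted groups, abstractly: `N¹/H¹` as a Coxeter group. -/

namespace Cfsg.Agent.Lib.Helper22TwAbs

open Subgroup Cfsg.Agent.Lib.Helper23Grp Cfsg.Agent.Lib.Helper23Weyl Cfsg.Agent.Lib.Helper23RG
  Cfsg.Agent.Lib.Helper23RG.RG Cfsg.Agent.Lib.Helper22TwP Cfsg.Agent.Lib.Helper22TwSB

variable {𝔾 F R I I1 : Type*} [Group 𝔾] [Field F]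

namespace TD

variable {S : RG 𝔾 F R I} {T : TD S I1}
variable (ok : S.Ok) (hBV : ∀ g ∈ S.B, g ∈ S.V → g = 1) (hUN : ∀ g ∈ S.U, g ∈ S.N → g = 1) (tk : T.Ok)

include hBV hUN tk in
theorem exists_permHom1 :
    ∃ ψ : ↥(S.N ⊓ T.G1) →* Equiv.Perm R, (∀ n : ↥(S.N ⊓ T.G1), S.Mon n.1 (ψ n)) ∧
      ψ.ker = (S.H ⊓ T.G1).subgroupOf (S.N ⊓ T.G1) ∧ ψ.range = (sb ok T).W1 := by
  classical
  have sk := sb_ok ok hBV hUN tk
  have hex : ∀ n : ↥(S.N ⊓ T.G1), ∃ π, S.Mon n.1 π := fun n => Mon_N ok n.1 n.2.1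
  choose f hf using hex
  let ψ : ↥(S.N ⊓ T.G1) →* Equiv.Perm R :=
    { toFun := f
      map_one' := Mon_unique ok hBV (hf 1) Mon.one
      map_mul' := fun a b => Mon_unique ok hBV (hf (a * b)) ((hf a).mul (hf b)) }
  refine ⟨ψ, hf, ?_, ?_⟩
  · ext n
    rw [MonoidHom.mem_ker, mem_subgroupOf]
    constructor
    · intro h
      have h1 := hf n
      have h2 : f n = 1 := h
      rw [h2] at h1
      exact ⟨mem_H_of_Mon_one ok hBV hUN n.2.1 h1, n.2.2⟩
    · intro h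
      exact Mon_unique ok hBV (hf n) (Mon_H ok _ h.1)
  · ext π
    constructor
    · rintro ⟨n, rfl⟩
      have hn : n.1 ∈ (sb ok T).N0 := by rw [N0_eq ok hBV hUN tk]; exact n.2
      obtain ⟨π', h1, h2⟩ := SB.Mon_N0 ok sk n.1 hn
      have : f n = π' := Mon_unique ok hBV (hf n) h2
      show f n ∈ _
      rw [this]; exact h1
    · intro hπ
      obtain ⟨n, hn, hM⟩ := SB.exists_Mon_of_mem_W1 sk hπ
      have hn' : n ∈ S.N ⊓ T.G1 := by
        rw [← N0_eq ok hBV hUN tk]; exact mem_sup_right hn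
      exact ⟨⟨n, hn'⟩, Mon_unique ok hBV (hf ⟨n, hn'⟩) hM⟩

include hBV hUN tk in
theorem cox {B : Type*} (M : CoxeterMatrix B) (f : B → I1) (hf : Function.Surjective f)
    (hlift : M.IsLiftable (fun i => (sb ok T).wJ (f i)))
    (hcard : Nat.card M.Group = Nat.card (sb ok T).W1) (hne : Nat.card M.Group ≠ 0) :
    ∃ θ : ↥(S.N ⊓ T.G1) →* M.Group, Function.Surjective θ ∧
      θ.ker = (S.H ⊓ T.G1).subgroupOf (S.N ⊓ T.G1) := by
  classical
  set cs := M.toCoxeterSystem with hcs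
  set φ := cs.lift ⟨fun i => (sb ok T).wJ (f i), hlift⟩ with hφ
  have hφs : ∀ i, φ (M.simple i) = (sb ok T).wJ (f i) := fun i => cs.lift_apply_simple hlift i
  have hrange : φ.range = (sb ok T).W1 := by
    rw [MonoidHom.range_eq_map, ← cs.subgroup_closure_range_simple, MonoidHom.map_closure, SB.W1]
    congr 1
    ext g
    constructor
    · rintro ⟨_, ⟨i, rfl⟩, rfl⟩
      exact ⟨f i, (hφs i).symm⟩
    · rintro ⟨j, rfl⟩
      obtain ⟨i, rfl⟩ := hf j
      exact ⟨_, ⟨i, rfl⟩, hφs i⟩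
  have hfin : Finite M.Group := Nat.finite_of_card_ne_zero hne
  have hbij : Function.Bijective φ.rangeRestrict := by
    rw [Nat.bijective_iff_surjective_and_card]
    exact ⟨φ.rangeRestrict_surjective, by rw [hcard, hrange]⟩
  have hinj : Function.Injective φ := by
    intro x y hxy
    apply hbij.1
    exact Subtype.ext hxy
  obtain ⟨ψ, hψM, hψk, hψr⟩ := exists_permHom1 ok hBV hUN tk
  rw [← hrange] at hψr
  have hmem : ∀ x, ψ x ∈ φ.range := fun x => by rw [← hψr]; exact ⟨x, rfl⟩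
  let φ' := MonoidHom.ofInjective hinj
  let θ : ↥(S.N ⊓ T.G1) →* M.Group := φ'.symm.toMonoidHom.comp (ψ.codRestrict φ.range hmem)
  have hθ : ∀ x, φ (θ x) = ψ x := by
    intro x
    have h1 : φ' (θ x) = ψ.codRestrict φ.range hmem x := φ'.apply_symm_apply _
    have h2 := congrArg Subtype.val h1
    exact h2
  refine ⟨θ, ?_, ?_⟩
  · intro x
    have : φ x ∈ ψ.range := by rw [hψr]; exact ⟨x, rfl⟩
    obtain ⟨y, hy⟩ := this
    exact ⟨y, hinj ((hθ y).trans hy)⟩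
  · rw [← hψk]
    ext x
    rw [MonoidHom.mem_ker, MonoidHom.mem_ker, ← hθ x]
    constructor
    · intro h; rw [h, map_one]
    · intro h; exact hinj (h.trans (map_one φ).symm)

end TD

end Cfsg.Agent.Lib.Helper22TwAbs
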