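import Cfsg.Agent.Lib.Helper22TwEnum2

set_option autoImplicit false

/-! generated by scripts/gen_tww1.py : enumeration of the twisted Weyl group of type D4 -/

namespace Cfsg.Agent.Lib.Helper22TwEnumD4

open Cfsg.Agent.Lib.Helper22TwEnum

def GV : ℕ := 0x170e0f101105131415160a0b0c0d01020304120607080900161715141213110d0c09100f08070e0b0a06040503020001
def TT : List ℕ := [0x90008071206040d0c1603021514010b0a131105100f170e, 0xe010b0a130605100f17030215140008071211040d0c1609, 0x10002030504060a0b0e07080f10090c0d11131214151716, 0x16090c0d11041214151707080f100002030513060a0b0e01, 0x102030405060708090a0b0c0d0e0f1011121314151617, 0x170e0f101105131415160a0b0c0d01020304120607080900, 0x908070612040302010d0c0b0a161514130511100f0e17, 0x17161514131211100f0e0d0c0b0a09080706050403020100, 0x10e0b0a061305030200100f08071715141204110d0c0916, 0x161715141213110d0c09100f08070e0b0a06040503020001, 0x9160c0d04111207080014150203170f100506130a0b010e, 0xe170f100511130a0b0114150203160c0d04061207080009]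
def NX : ℕ := 0x1000500000003000300070002000100050009000400000007000b000600020009000a00080004000b0008000a0006
def PG : ℕ := 0x40000050500000301000007080000010000000009000000030100070c010006040100090b0100080701000b0801000a
def fl : List ℕ := [18, 14, 13, 12]

set_option maxRecDepth 1000000 in
theorem chk_eq : chk 24 12 2 7 GV TT NX PG fl = true := by decide +kernel

def cs : List ℕ := [1, 1, 0, 1, 2, 1, 0, 1, 2, 1, 0, 1, 1]

set_option maxRecDepth 1000000 in
theorem cs_eq : Cfsg.Agent.Lib.Helper22ChevEngine.allLt 13 (fun d => Nat.beq (cntLt 12 (fun k => Nat.beq (depT PG k) d)) (cs.getD d 0)) = true := by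
  decide +kernel

end Cfsg.Agent.Lib.Helper22TwEnumD4
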