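import Cfsg.Agent.Lib.Helper23Cox
import Cfsg.Agent.Lib.Helper23FastE8

set_option autoImplicit false
set_option maxRecDepth 1000000

/-! The Coxeter group of type E8: coset enumeration certificate and consequences. -/

namespace Cfsg.Agent.Lib.Helper23CoxE8

open Cfsg.Agent.Lib.Helper23Fast Cfsg.Agent.Lib.Helper23TC Cfsg.Agent.Lib.Helper23Cox
open Cfsg.Agent.Lib.Helper23FastE8 Cfsg.Agent.Lib.Helper23Weyl

def mT : ℕ := 0x1030202020202020301030202020202020301030202020202020301030202020202020301030302020202020301020302020202030201020202020202030201

def G : List ℕ := [0x706050403020101030405060700000000000000020202020203030303040404050506010101010101010101010303030303030404040502020202020202020202030303030401010101010302000000000000000000000000000000020202020203000000000000010101010103030303040404050506070606050505040404040303030303020202020202010101010101010101010103030303040404050506000000000000000000000000000000000000000000000202020202020202020203030303030304040405010101010101010101010303030304020202020203010000000000000200010304050607, 0x6000005000000040000000003000000000002000000000001000000000100000003000004000506000000000000000000000000000000000000000000000000000200000200020200000300030300040405000001000101000101010003030304000202020203010000000000000200010304050600,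 0x200000000000300000405000000000001000001010000030304000002020203010000000000000200010304050000, 0x504030201010304050000, 0x4030201010304000000, 0x203010000000000000000000000000000, 0x10300000000, 0x300000000]

theorem tc : tcChain P mT L G = true := by decide +kernel

theorem br : brChk P mT = true := by decide +kernel

/-- the Coxeter matrix, indexed by `Fin P.l` -/
def M : CoxeterMatrix (Fin P.l) := show CoxeterMatrix (Fin 8) from CoxeterMatrix.E₈

theorem hM : ∀ i j : Fin P.l, M i j = byte mT (P.l * i.val + j.val) := by
  have h : ∀ i : Fin P.l, ∀ j : Fin P.l, Nat.beq (M.M i j) (byte mT (P.l * i.val + j.val)) = true := by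
    decide +kernel
  intro i j
  exact Nat.eq_of_beq_eq_true (h i j)

theorem val : P.chainVal 1 L = 696729600 := by decide +kernel

theorem cox : coxChk P (List.range P.l) 30 = true := by decide +kernel

theorem main : ∃ φ : (CoxeterMatrix.E₈).Group →* Equiv.Perm (Fin P.n), Function.Injective φ ∧
    φ.range = (FT.W valid).WJ Set.univ ∧ (∀ i : Fin 8, φ ((CoxeterMatrix.E₈).simple i) = (FT.W valid).s i) ∧
    Nat.card (CoxeterMatrix.E₈).Group = 696729600 := by
  have h := cox_main valid M mT hM L G _ chain top tc br
  rw [val] at h
  exact h

theorem card : Nat.card (CoxeterMatrix.E₈).Group = 696729600 := by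
  obtain ⟨_, _, _, _, h⟩ := main
  exact h

theorem order : orderOf ((List.finRange 8).map (CoxeterMatrix.E₈).simple).prod = 30 := by
  obtain ⟨φ, h1, _, h2, _⟩ := main
  exact cox_order valid M φ h1 h2 30 cox

end Cfsg.Agent.Lib.Helper23CoxE8
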