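import Mathlib
import Cfsg.Prelude.Def_SteinbergCover
import Cfsg.Prelude.Def_LieTypes

set_option autoImplicit false

/-! Tables identifying the root elements of `D₄` with Eichler transformations of the hyperbolic form in dimension 8. -/

namespace Cfsg.Agent.Lib.Helper23D4T

open Cfsg.Lie Cfsg.Lie.ChevalleyDatum

abbrev I8 := Fin 4 ⊕ Fin 4

def ta (r : ℕ) : I8 := ([.inr 0, .inr 0, .inl 3, .inr 0, .inl 2, .inl 1, .inr 1, .inl 3, .inr 1, .inl 2, .inl 3, .inr 2, .inl 2, .inl 2, .inl 1, .inl 1, .inl 1, .inl 1, .inl 0, .inl 0, .inl 0, .inl 0, .inl 0, .inl 0] : List I8).getD r (.inl 0)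
def tc (r : ℕ) : I8 := ([.inr 1, .inr 2, .inr 0, .inr 3, .inr 0, .inr 0, .inr 2, .inr 1, .inr 3, .inr 1, .inr 2, .inr 3, .inl 3, .inr 3, .inr 2, .inl 3, .inr 3, .inl 2, .inr 1, .inr 2, .inl 3, .inr 3, .inl 2, .inl 1] : List I8).getD r (.inl 1)
def te (r : ℕ) : ℤ := ([-1, -1, 1, -1, -1, 1, 1, -1, 1, 1, 1, -1, 1, 1, 1, -1, -1, -1, 1, -1, 1, 1, 1, 1] : List ℤ).getD r 0

/-- the integral root vectors -/
def Mz (r : ℕ) : Matrix I8 I8 ℤ :=
  te r • (Matrix.single (ta r) (tc r).swap 1 - Matrix.single (tc r) (ta r).swap 1)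

def hc (r s : ℕ) : ℕ := ((chevD4.commTerms r s).headD (0, 0, 0, 0)).1
def hN (r s : ℕ) : ℤ := ((chevD4.commTerms r s).headD (0, 0, 0, 0)).2.1

set_option maxRecDepth 100000 in
theorem chk : ∀ r s : Fin 24, s ≠ r → s.val ≠ chevD4.neg r.val →
    (chevD4.commTerms r.val s.val = [] ∧ Mz s.val * Mz r.val = Mz r.val * Mz s.val) ∨
    (chevD4.commTerms r.val s.val = [(hc r.val s.val, hN r.val s.val, 1, 1)] ∧ hc r.val s.val < 24 ∧
      Mz s.val * Mz r.val = Mz r.val * Mz s.val - hN r.val s.val • Mz (hc r.val s.val) ∧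
      Mz r.val * Mz (hc r.val s.val) = 0 ∧ Mz s.val * Mz (hc r.val s.val) = 0) := by
  decide +kernel

end Cfsg.Agent.Lib.Helper23D4T
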