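import Cfsg.Agent.Lib.Helper23To13
import Cfsg.Agent.Lib.Helper23ToB2

set_option autoImplicit false
set_option linter.unusedSectionVars false
set_option linter.unusedVariables false
set_option maxRecDepth 100000

/-! Type B2 over the field with three elements. -/

namespace Cfsg.Agent.Lib.Helper23ToB23

open Subgroup Cfsg.Lie Cfsg.Lie.ChevalleyDatum Cfsg.Agent.Lib.Helper22ChevBasic Cfsg.Agent.Lib.Helper23Grp
  Cfsg.Agent.Lib.Helper23St Cfsg.Agent.Lib.Helper23Un Cfsg.Agent.Lib.Helper23To Cfsg.Agent.Lib.Helper23ToB2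
open scoped commutatorElement

def lg (r : ℕ) : Prop := r ∈ [0, 3, 4, 7]
instance (r : ℕ) : Decidable (lg r) := by unfold lg; infer_instance

def dA (s : ℕ) : ℕ := [1, 0, 0, 1, 2, 0, 0, 5].getD s 0
def dB (s : ℕ) : ℕ := [2, 0, 0, 5, 6, 0, 0, 6].getD s 0
def dM (s : ℕ) : ℤ := [2, 0, 0, -2, -2, 0, 0, 2].getD s 0

/-- facts on the chosen decomposition of a long root -/
def DOK (s : ℕ) : Prop :=
  dA s < chevB2.nroots ∧ dB s < chevB2.nroots ∧ dB s ≠ dA s ∧ dB s ≠ chevB2.neg (dA s) ∧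
  chevB2.commTerms (dA s) (dB s) = [(s, dM s, 1, 1)] ∧ chevB2.commTerms (dB s) (dA s) = [(s, -dM s, 1, 1)] ∧
  (dM s).natAbs ∈ [1, 2] ∧ ¬ lg (dA s) ∧ ¬ lg (dB s) ∧ CommNil chevB2 s (dA s) ∧ CommNil chevB2 s (dB s) ∧
  dA s ≠ chevB2.neg (dB s)

instance (s : ℕ) : Decidable (DOK s) := by unfold DOK; infer_instance

theorem dok : ∀ s < chevB2.nroots, lg s → DOK s := by decide +kernel

/-- a long and a short root which commute are separated by the torus -/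
def LSOK (r s : ℕ) : Prop := pairL chevB2 (tbl r s).mu r = 0 ∧ (pairL chevB2 (tbl r s).mu s).natAbs ∈ [1]
instance (r s : ℕ) : Decidable (LSOK r s) := by unfold LSOK; infer_instance

theorem lsok : ∀ r < chevB2.nroots, ∀ s < chevB2.nroots, lg r → ¬ lg s → LSOK r s := by decide +kernel

theorem par : ∀ r < chevB2.nroots, (lg r → pairL chevB2 [0, 1] r % 2 = 0) ∧ (¬ lg r → pairL chevB2 [0, 1] r % 2 = 1) := by
  decide +kernel

variable {K : Type*} [Field K] (h3 : ∀ t : K, t = 0 ∨ t = 1 ∨ t = -1) (h2 : (2 : K) ≠ 0)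
  {E : Type*} [Group E] {π : E →* ↥(chevB2.group K)} (hπ : Function.Surjective π) (hc : π.ker ≤ center E)

include h2 in
theorem hM1 : ∀ m : ℤ, m.natAbs ∈ [1] → ∃ v : Kˣ, v ^ m ≠ 1 := by
  intro m hm
  have n1 : (-1 : Kˣ) ≠ 1 := by
    intro e
    have := congrArg Units.val e
    simp only [Units.val_neg, Units.val_one] at this
    apply h2
    linear_combination -this
  refine ⟨-1, ?_⟩
  simp only [List.mem_cons, List.not_mem_nil, or_false] at hm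
  rcases Int.natAbs_eq m with e | e <;> rw [e, hm]
  · simpa using n1
  · simpa using n1

/-- the torus parameter -/
def c0 : Fin chevB2.rank → Kˣ := cpow (D := chevB2) (-1 : Kˣ) (fun i => ([0, 1] : List ℤ).getD i.val 0)

theorem chi_c0 {r : ℕ} (hr : r < chevB2.nroots) :
    (lg r → chi (c0 (K := K)) r = 1) ∧ (¬ lg r → chi (c0 (K := K)) r = -1) := by
  have e : chi (c0 (K := K)) r = (((-1 : Kˣ) ^ pairL chevB2 [0, 1] r : Kˣ) : K) := chi_mu _ _ hr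
  constructor
  · intro h
    have := (par r hr).1 h
    rw [e, Even.neg_one_zpow (Int.even_iff.2 this), Units.val_one]
  · intro h
    have := (par r hr).2 h
    rw [e, Odd.neg_one_zpow (Int.odd_iff.2 this), Units.val_neg, Units.val_one]

include hc h2 in
theorem brLS {r s : ℕ} (hr : r < chevB2.nroots) (hs : s < chevB2.nroots) (h1 : lg r) (h2' : ¬ lg s)
    (hcm : CommNil chevB2 r s) : ∀ t u : K, br hπ (xq hD r t) (xq hD s u) = 1 :=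
  br_of_mu hD hπ hc (hM1 h2) hr hs (hcm.comm hD hr) _ (lsok r hr s hs h1 h2').1 (lsok r hr s hs h1 h2').2

/-- the lifts -/
noncomputable def YY (r : ℕ) (t : K) : E :=
  if lg r then br hπ (xq hD (dB r) 1) (xq hD (dA r) (-(t / (dM r : K))))
  else Helper23To.Y hD hπ (fun _ => c0 (K := K)) r t

include h2 in
theorem dM_ne {s : ℕ} (hs : s < chevB2.nroots) (hl : lg s) : (dM s : K) ≠ 0 := two_ne h2 (dok s hs hl).2.2.2.2.2.2.1

include h2 in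
theorem π_YY {r : ℕ} (hr : r < chevB2.nroots) (t : K) : π (YY hπ r t) = xq hD r t := by
  unfold YY
  split_ifs with hl
  · obtain ⟨a1, a2, a3, a4, a5, -⟩ := dok r hr hl
    rw [π_br, comm_xq hD a1 a2 a3 a4 a5]
    congr 1
    have := dM_ne (K := K) h2 hr hl
    field_simp
  · unfold Helper23To.Y
    rw [π_br, commutatorElement_def, tq_conj hD _ hr, xq_inv, xq_add, (chi_c0 hr).2 hl]
    congr 1
    have : (-1 - 1 : K) ≠ 0 := by
      intro e; apply h2; linear_combination -e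
    field_simp
    ring

include hc h2 in
theorem hsa {s : ℕ} (hs : s < chevB2.nroots) (hl : lg s) : ∀ t u : K, br hπ (xq hD s t) (xq hD (dA s) u) = 1 := by
  obtain ⟨a1, a2, a3, a4, a5, a6, a7, a8, a9, a10, a11, a12⟩ := dok s hs hl
  exact brLS h2 hπ hc hs a1 hl a8 a10

include hc h2 in
theorem hsb {s : ℕ} (hs : s < chevB2.nroots) (hl : lg s) : ∀ t u : K, br hπ (xq hD s t) (xq hD (dB s) u) = 1 := by
  obtain ⟨a1, a2, a3, a4, a5, a6, a7, a8, a9, a10, a11, a12⟩ := dok s hs hl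
  exact brLS h2 hπ hc hs a2 hl a9 a11

include hc h2 h3 in
theorem YY_add {r : ℕ} (hr : r < chevB2.nroots) (t u : K) : YY hπ r t * YY hπ r u = YY hπ r (t + u) := by
  unfold YY
  split_ifs with hl
  · obtain ⟨a1, a2, a3, a4, a5, -⟩ := dok r hr hl
    rw [← beta_add_right hD hπ hc a1 a2 a3 a4 a5 (hsa h2 hπ hc hr hl)]
    congr 2
    ring
  · exact Helper23To.Y_add hD hπ hc (fun r _ => self_of_three hD hπ hc h3 r) hr t u

/-- the structure -/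
noncomputable def TT : PS hD K E where
  X := YY hπ
  θ := (chevB2.group K).subtype.comp π
  θX r hr t := by rw [MonoidHom.comp_apply, π_YY h2 hπ hr]; rfl
  add r hr t u := YY_add h3 h2 hπ hc hr t u

include hc h2 h3 in
theorem YY_conj {g : E} (hg : π g = tq hD (c0 (K := K))) {r : ℕ} (hr : r < chevB2.nroots) (t : K) :
    g * YY hπ r t * g⁻¹ = YY hπ r (chi (c0 (K := K)) r * t) := by
  unfold YY
  split_ifs with hl
  · obtain ⟨a1, a2, a3, a4, a5, a6, a7, a8, a9, -⟩ := dok r hr hl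
    rw [br_conj hπ hc, hg, tq_conj hD _ a2, tq_conj hD _ a1, (chi_c0 a2).2 a9, (chi_c0 a1).2 a8, (chi_c0 hr).1 hl,
      beta_bal hD hπ hc a1 a2 a3 a4 a5 (hsa h2 hπ hc hr hl) (hsb h2 hπ hc hr hl) h3]
    congr 2
    ring
  · exact Y_conj hD hπ hc hg hr t

/-- data for a pair of orthogonal long roots -/
def g1L : List (List (ℕ × ℕ × ℤ × ℤ × ℤ)) := [
  [(0,0,0,0,0), (0,0,0,0,0), (0,0,0,0,0), (1,5,-2,-1,-1), (2,6,-2,1,1), (0,0,0,0,0), (0,0,0,0,0), (0,0,0,0,0)],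
  [],
  [],
  [(1,2,2,1,-1), (0,0,0,0,0), (0,0,0,0,0), (0,0,0,0,0), (0,0,0,0,0), (0,0,0,0,0), (0,0,0,0,0), (5,6,2,-1,1)],
  [(2,1,-2,1,1), (0,0,0,0,0), (0,0,0,0,0), (0,0,0,0,0), (0,0,0,0,0), (0,0,0,0,0), (0,0,0,0,0), (6,5,-2,-1,-1)],
  [],
  [],
  [(0,0,0,0,0), (0,0,0,0,0), (0,0,0,0,0), (5,1,2,-1,1), (6,2,2,1,-1), (0,0,0,0,0), (0,0,0,0,0), (0,0,0,0,0)]]

def g1 (r s : ℕ) : ℕ × ℕ × ℤ × ℤ × ℤ := (g1L.getD r []).getD s (0,0,0,0,0)

def G1OK (r s : ℕ) (d : ℕ × ℕ × ℤ × ℤ × ℤ) : Prop :=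
  d.1 < chevB2.nroots ∧ d.2.1 < chevB2.nroots ∧ d.2.1 ≠ d.1 ∧ d.2.1 ≠ chevB2.neg d.1 ∧
  chevB2.commTerms d.1 d.2.1 = [(s, d.2.2.1, 1, 1)] ∧ d.2.2.1.natAbs ∈ [1, 2] ∧ r ≠ d.2.1 ∧ r ≠ chevB2.neg d.2.1 ∧
  chevB2.commTerms d.2.1 r = [(d.1, d.2.2.2.1, 1, 1), (s, d.2.2.2.2, 2, 1)] ∧
  CommNil chevB2 r d.1 ∧ CommNil chevB2 r s ∧ CommNil chevB2 s d.1 ∧ ¬ lg d.1

instance (r s : ℕ) (d : ℕ × ℕ × ℤ × ℤ × ℤ) : Decidable (G1OK r s d) := by unfold G1OK; infer_instance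

/-- classification of the pairs of roots -/
def Cls (r s : ℕ) : Prop :=
  (lg r ∧ lg s ∧ G1OK r s (g1 r s)) ∨ (lg r ∧ ¬ lg s ∧ CommNil chevB2 r s) ∨
  (¬ lg r ∧ lg s ∧ CommNil chevB2 s r ∧ chevB2.commTerms r s = []) ∨
  (∃ c ∈ [0, 3, 4, 7], (r = dA c ∧ s = dB c) ∨ (r = dB c ∧ s = dA c)) ∨
  (lg r ∧ ¬ lg s ∧ (chevB2.commTerms r s).length = 2) ∨
  (¬ lg r ∧ lg s ∧ (chevB2.commTerms s r).length = 2 ∧ r ≠ chevB2.neg s ∧ r ≠ s ∧
    (∀ e ∈ chevB2.commTerms r s, e.1 ∈ r :: (tbl s r).L))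

instance (r s : ℕ) : Decidable (Cls r s) := by unfold Cls; infer_instance

theorem cls : ∀ r < chevB2.nroots, ∀ s < chevB2.nroots, s ≠ r → s ≠ chevB2.neg r → Cls r s := by decide +kernel

include hc h2 h3 in
theorem brLL {r s : ℕ} (hr : r < chevB2.nroots) (hs : s < chevB2.nroots) (hl : lg s) (h : G1OK r s (g1 r s)) :
    ∀ t u : K, br hπ (xq hD r t) (xq hD s u) = 1 := by
  obtain ⟨a1, a2, a3, a4, a5, a6, a7, a8, a9, a10, a11, a12, a13⟩ := h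
  exact br_of_G1 hD hπ hc hr a1 a2 a3 a4 a5 (two_ne h2 a6) a7 a8 a9 (a10.comm hD hr) (a11.comm hD hr) (a12.comm hD hs)
    (brLS h2 hπ hc hs a1 hl a13 a12) (self_of_three hD hπ hc h3 _)

theorem hθ (x : E) : (TT h3 h2 hπ hc).θ x = (π x : GL chevB2.Idx K) := rfl

theorem TX (r : ℕ) (t : K) : (TT h3 h2 hπ hc).X r t = YY hπ r t := rfl

theorem relAB {c : ℕ} (hc' : c < chevB2.nroots) (hl : lg c) : (TT h3 h2 hπ hc).Rel (dA c) (dB c) := by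
  obtain ⟨a1, a2, a3, a4, a5, a6, a7, a8, a9, a10, a11, a12⟩ := dok c hc' hl
  intro t u
  unfold commWord
  rw [a5]
  simp only [List.map_cons, List.map_nil, List.prod_cons, List.prod_nil, mul_one, pow_one]
  set T := TT h3 h2 hπ hc with hT
  have e : T.X c ((dM c : K) * -t * u) = ⁅(T.X (dB c) u)⁻¹, (T.X (dA c) t)⁻¹⁆ := by
    rw [br_eq hπ hc (g := xq hD (dB c) (-u)) (h := xq hD (dA c) (-t))
      (by rw [map_inv, πX' T (hθ h3 h2 hπ hc) a2, xq_inv]) (by rw [map_inv, πX' T (hθ h3 h2 hπ hc) a1, xq_inv]),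
      beta_bal hD hπ hc a1 a2 a3 a4 a5 (hsa h2 hπ hc hc' hl) (hsb h2 hπ hc hc' hl) h3, hT, TX]
    unfold YY
    rw [if_pos hl]
    congr 2
    have := dM_ne (K := K) h2 hc' hl
    field_simp
  rw [e]
  group

theorem relBA {c : ℕ} (hc' : c < chevB2.nroots) (hl : lg c) : (TT h3 h2 hπ hc).Rel (dB c) (dA c) := by
  obtain ⟨a1, a2, a3, a4, a5, a6, a7, a8, a9, a10, a11, a12⟩ := dok c hc' hl
  intro t u
  unfold commWord
  rw [a6]
  simp only [List.map_cons, List.map_nil, List.prod_cons, List.prod_nil, mul_one, pow_one]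
  set T := TT h3 h2 hπ hc with hT
  have e : T.X c (((-dM c : ℤ) : K) * -t * u) = ⁅(T.X (dA c) u)⁻¹, (T.X (dB c) t)⁻¹⁆ := by
    rw [br_eq hπ hc (g := xq hD (dA c) (-u)) (h := xq hD (dB c) (-t))
      (by rw [map_inv, πX' T (hθ h3 h2 hπ hc) a1, xq_inv]) (by rw [map_inv, πX' T (hθ h3 h2 hπ hc) a2, xq_inv]),
      br_symm, beta_bal hD hπ hc a1 a2 a3 a4 a5 (hsa h2 hπ hc hc' hl) (hsb h2 hπ hc hc' hl) h3,
      ← beta_neg_right hD hπ hc a1 a2 a3 a4 a5 (hsa h2 hπ hc hc' hl), hT, TX]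
    unfold YY
    rw [if_pos hl]
    congr 2
    have := dM_ne (K := K) h2 hc' hl
    push_cast
    field_simp
  rw [e]
  group

theorem lg_lt {c : ℕ} (h : c ∈ [0, 3, 4, 7]) : c < chevB2.nroots ∧ lg c := by
  refine ⟨?_, h⟩
  have : ∀ c ∈ [0, 3, 4, 7], c < chevB2.nroots := by decide +kernel
  exact this c h

theorem rel_small {r s : ℕ} (hr : r < chevB2.nroots) (hs : s < chevB2.nroots) (n1 : s ≠ r) (n2 : s ≠ chevB2.neg r)
    (hlen : (chevB2.commTerms r s).length < 2) : (TT h3 h2 hπ hc).Rel r s := by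
  rcases cls r hr s hs n1 n2 with ⟨l1, l2, h⟩ | ⟨l1, l2, h⟩ | ⟨l1, l2, h, h0⟩ | ⟨c, hc', ⟨rfl, rfl⟩ | ⟨rfl, rfl⟩⟩ |
    ⟨l1, l2, h⟩ | ⟨l1, l2, h, -⟩
  · exact rel_of_br' hπ hc _ (hθ h3 h2 hπ hc) hr hs h.2.2.2.2.2.2.2.2.2.2.1.2.2.2 (brLL h3 h2 hπ hc hr hs l2 h)
  · exact rel_of_br' hπ hc _ (hθ h3 h2 hπ hc) hr hs h.2.2.2 (brLS h2 hπ hc hr hs l1 l2 h)
  · refine rel_of_br' hπ hc _ (hθ h3 h2 hπ hc) hr hs h0 (fun t u => ?_)
    rw [br_symm, brLS h2 hπ hc hs hr l2 l1 h, inv_one]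
  · exact relAB h3 h2 hπ hc (lg_lt hc').1 (lg_lt hc').2
  · exact relBA h3 h2 hπ hc (lg_lt hc').1 (lg_lt hc').2
  · omega
  · exfalso
    have : ∀ r < chevB2.nroots, ∀ s < chevB2.nroots, (chevB2.commTerms s r).length = 2 →
        ¬ (chevB2.commTerms r s).length < 2 := by decide +kernel
    exact this r hr s hs h hlen

theorem pw_small {r s : ℕ} (hr : r < chevB2.nroots) (hs : s < chevB2.nroots) (n1 : s ≠ r) (n2 : s ≠ chevB2.neg r)
    (hlen : (chevB2.commTerms r s).length = 2) :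
    (s :: (tbl r s).L).Pairwise (fun a b => (TT h3 h2 hπ hc).Rel a b) := by
  obtain ⟨c1, c2, c3, c4, c5, c6, c7, c8, c9⟩ := ok r hr s hs n1 n2
  have := List.Pairwise.and_mem.1 c6
  refine this.imp ?_
  rintro a b ⟨ha, hb, m1, m2, hlt⟩
  exact rel_small h3 h2 hπ hc (c4 a ha) (c4 b hb) m1 m2 (hlen ▸ hlt)

theorem relLS {r s : ℕ} (hr : r < chevB2.nroots) (hs : s < chevB2.nroots) (n1 : s ≠ r) (n2 : s ≠ chevB2.neg r)
    (l1 : lg r) (l2 : ¬ lg s) (hlen : (chevB2.commTerms r s).length = 2) : (TT h3 h2 hπ hc).Rel r s := by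
  obtain ⟨c1, c2, c3, c4, c5, c6, c7, c8, c9⟩ := ok r hr s hs n1 n2
  obtain ⟨g, hg⟩ := hπ (tq hD (c0 (K := K)))
  refine rel_step' hc _ (hθ h3 h2 hπ hc) (g := g) (χ := chi (c0 (K := K)))
    (fun a ha v => YY_conj h3 h2 hπ hc hg ha v) hr hs n1 n2 ((chi_c0 hr).1 l1) ?_ (tbl r s).L c3 c4
    (IndL_word (tbl r s).w c7 _ c4 (IndL_pos _ c8 c9)) (pw_small h3 h2 hπ hc hr hs n1 n2 hlen) c5
  rw [(chi_c0 hs).2 l2]
  intro e
  apply h2
  linear_combination -e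

theorem relSL {r s : ℕ} (hr : r < chevB2.nroots) (hs : s < chevB2.nroots) (n1 : s ≠ r) (n2 : s ≠ chevB2.neg r)
    (l1 : ¬ lg r) (l2 : lg s) (hlen : (chevB2.commTerms s r).length = 2) (m2 : r ≠ chevB2.neg s)
    (hm : ∀ e ∈ chevB2.commTerms r s, e.1 ∈ r :: (tbl s r).L) : (TT h3 h2 hπ hc).Rel r s := by
  obtain ⟨c1, c2, c3, c4, c5, c6, c7, c8, c9⟩ := ok s hs r hr (Ne.symm n1) m2
  refine rel_symm _ (hθ h3 h2 hπ hc) hr hs n1 n2 m2 (relLS h3 h2 hπ hc hs hr (Ne.symm n1) m2 l2 l1 hlen)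
    (r :: (tbl s r).L) c4 ?_ hm (fun e he => List.mem_cons_of_mem _ (c5 e he))
  exact PS.Inj_list _ _ c3 c4 (IndL_word (tbl s r).w c7 _ c4 (IndL_pos _ c8 c9))
    (pw_small h3 h2 hπ hc hs hr (Ne.symm n1) m2 hlen)

theorem rel_all {r s : ℕ} (hr : r < chevB2.nroots) (hs : s < chevB2.nroots) (n1 : s ≠ r) (n2 : s ≠ chevB2.neg r) :
    (TT h3 h2 hπ hc).Rel r s := by
  rcases cls r hr s hs n1 n2 with ⟨l1, l2, h⟩ | ⟨l1, l2, h⟩ | ⟨l1, l2, h, h0⟩ | ⟨c, hc', ⟨rfl, rfl⟩ | ⟨rfl, rfl⟩⟩ |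
    ⟨l1, l2, h⟩ | ⟨l1, l2, h, m2, -, hm⟩
  · exact rel_small h3 h2 hπ hc hr hs n1 n2 (by rw [h.2.2.2.2.2.2.2.2.2.2.1.2.2.2]; simp)
  · exact rel_small h3 h2 hπ hc hr hs n1 n2 (by rw [h.2.2.2]; simp)
  · exact rel_small h3 h2 hπ hc hr hs n1 n2 (by rw [h0]; simp)
  · exact relAB h3 h2 hπ hc (lg_lt hc').1 (lg_lt hc').2
  · exact relBA h3 h2 hπ hc (lg_lt hc').1 (lg_lt hc').2
  · exact relLS h3 h2 hπ hc hr hs n1 n2 l1 l2 h
  · exact relSL h3 h2 hπ hc hr hs n1 n2 l1 l2 h m2 hm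

include h3 h2 hπ hc in
theorem lift3 : ∃ τ : chevB2.SteinbergCover K →* E, ∀ r t, r < chevB2.nroots → π (τ (chevB2.scGen K r t)) = xq hD r t :=
  exists_lift_of_rel' (TT h3 h2 hπ hc) (hθ h3 h2 hπ hc) (fun r s hr hs n1 n2 => rel_all h3 h2 hπ hc hr hs n1 n2)

end Cfsg.Agent.Lib.Helper23ToB23
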