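import Cfsg.Agent.Lib.Helper23To10

set_option autoImplicit false
set_option maxRecDepth 1000000

/-! Certificates for type D4 (fields with more than two elements). -/

namespace Cfsg.Agent.Lib.Helper23ToD4

open Subgroup Cfsg.Lie Cfsg.Agent.Lib.Helper23To Cfsg.Agent.Lib.Helper22ChevBasic

def tblL : List (List Cert) := [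
  [⟨[], [], []⟩, ⟨[-1, 0, 0, 0], [], [3, 1, 2, 0]⟩, ⟨[-1, 0, 0, 0], [], [2, 1, 0]⟩, ⟨[-1, 0, 0, 0], [], [3, 1, 0]⟩, ⟨[-1, 0, 0, 0], [], [1, 0]⟩, ⟨[-1, 0, 0, 0], [], [0]⟩, ⟨[-1, 0, 0, 0], [], [3, 1, 2]⟩, ⟨[-1, 0, 0, 0], [], [2, 1]⟩, ⟨[-1, 0, 0, 0], [], [3, 1]⟩, ⟨[-1, 0, 0, 0], [], [1]⟩, ⟨[0, 0, -1, 0], [], [2]⟩, ⟨[0, 0, 0, -1], [], [3]⟩, ⟨[0, 0, 0, -1], [], []⟩, ⟨[0, 0, -1, 0], [], []⟩, ⟨[-1, 0, 0, 0], [1], [0, 1, 3, 2, 1, 0]⟩, ⟨[-1, 0, 0, 0], [2], [3, 1, 2, 0, 1]⟩, ⟨[-1, 0, 0, 0], [3], [2, 1, 3, 0, 1]⟩, ⟨[-1, 0, 0, 0], [4], [3, 1, 2, 0, 1]⟩, ⟨[-1, 0, 0, 0], [], []⟩, ⟨[-1, 0, 0, 0], [6], [0, 1, 3, 2, 1]⟩, ⟨[-1, 0, 0, 0], [7], [3, 1,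 2, 0, 1]⟩, ⟨[-1, 0, 0, 0], [8], [1, 3, 2, 0, 1]⟩, ⟨[-1, 0, 0, 0], [9], [3, 1, 2, 0, 1]⟩, ⟨[], [], []⟩],
  [⟨[-1, -1, 0, 0], [], [3, 1, 2, 0, 1]⟩, ⟨[], [], []⟩, ⟨[-1, -1, 0, 0], [], [2, 1, 0]⟩, ⟨[-1, -1, 0, 0], [], [3, 1, 0]⟩, ⟨[-1, -1, 0, 0], [], [1, 0]⟩, ⟨[-1, -1, 0, 0], [], [0]⟩, ⟨[-1, -1, 0, 0], [], [3, 1, 2]⟩, ⟨[-1, 0, 1, 0], [], [2, 1]⟩, ⟨[-1, 0, 0, 1], [], [3, 1]⟩, ⟨[-1, -1, 0, 0], [0], [0, 1, 3, 2, 0, 1, 0]⟩, ⟨[-1, -1, 0, 0], [], [2]⟩, ⟨[-1, -1, 0, 0], [], [3]⟩, ⟨[-1, -1, 0, 0], [2], [3, 1, 2, 0]⟩, ⟨[-1, -1, 0, 0], [3], [2, 1, 3, 0]⟩, ⟨[-1, -1, 0, 0], [], []⟩, ⟨[-1, 0, 0, 1], [], []⟩, ⟨[-1, 0, 1, 0], [], []⟩, ⟨[-1, -1, 0, 0],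 [5], [3, 1, 2, 0]⟩, ⟨[-1, -1, 0, 0], [6], [0, 1, 3, 2]⟩, ⟨[-1, -1, 0, 0], [], []⟩, ⟨[-1, -1, 0, 0], [10], [3, 1, 2, 0]⟩, ⟨[-1, -1, 0, 0], [11], [1, 3, 2, 0]⟩, ⟨[], [], []⟩, ⟨[-1, -1, 0, 0], [14], [3, 1, 2, 0]⟩],
  [⟨[0, -1, 0, 0], [], [3, 1, 2, 0, 1]⟩, ⟨[0, -1, 0, 0], [], [3, 1, 2, 0]⟩, ⟨[], [], []⟩, ⟨[-1, 0, 0, -1], [], [3, 1, 0]⟩, ⟨[0, -1, 0, 0], [], [1, 0]⟩, ⟨[0, -1, 0, 0], [], [0]⟩, ⟨[-1, 0, 1, 0], [], [3, 1, 2]⟩, ⟨[0, -1, 0, 0], [], [2, 1]⟩, ⟨[0, -1, 0, 0], [0], [1, 3, 1, 2, 0, 1]⟩, ⟨[0, -1, 0, 0], [], [1]⟩, ⟨[0, -1, 0, 0], [], [2]⟩, ⟨[0, -1, 0, 0], [1], [1, 3, 1, 2, 0]⟩, ⟨[0, -1, 0, 0], [], []⟩, ⟨[0, -1, 0, 0], [4], [2, 1, 0]⟩,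 ⟨[0, -1, 0, 0], [], []⟩, ⟨[0, -1, 0, 0], [], []⟩, ⟨[0, -1, 0, 0], [5], [2, 1, 0]⟩, ⟨[-1, 0, 1, 0], [], []⟩, ⟨[0, -1, 0, 0], [7], [0, 1, 2]⟩, ⟨[0, -1, 0, 0], [10], [1, 2, 0]⟩, ⟨[-1, 0, 0, -1], [], []⟩, ⟨[], [], []⟩, ⟨[0, -1, 0, 0], [12], [2, 1, 0]⟩, ⟨[0, -1, 0, 0], [15], [2, 1, 0]⟩],
  [⟨[0, -1, 0, 0], [], [3, 1, 2, 0, 1]⟩, ⟨[0, -1, 0, 0], [], [3, 1, 2, 0]⟩, ⟨[-1, 0, -1, 0], [], [2, 1, 0]⟩, ⟨[], [], []⟩, ⟨[0, -1, 0, 0], [], [1, 0]⟩, ⟨[0, -1, 0, 0], [], [0]⟩, ⟨[-1, 0, 0, 1], [], [3, 1, 2]⟩, ⟨[0, -1, 0, 0], [0], [2, 1, 3, 2, 0, 1]⟩, ⟨[0, -1, 0, 0], [], [3, 1]⟩, ⟨[0, -1, 0, 0], [], [1]⟩, ⟨[0, -1, 0, 0], [1], [2, 1, 3, 2, 0]⟩, ⟨[0, -1,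 0, 0], [], [3]⟩, ⟨[0, -1, 0, 0], [4], [3, 1, 0]⟩, ⟨[0, -1, 0, 0], [], []⟩, ⟨[0, -1, 0, 0], [], []⟩, ⟨[0, -1, 0, 0], [5], [3, 1, 0]⟩, ⟨[0, -1, 0, 0], [], []⟩, ⟨[-1, 0, 0, 1], [], []⟩, ⟨[0, -1, 0, 0], [8], [0, 1, 3]⟩, ⟨[0, -1, 0, 0], [11], [1, 3, 0]⟩, ⟨[], [], []⟩, ⟨[-1, 0, -1, 0], [], []⟩, ⟨[0, -1, 0, 0], [13], [3, 1, 0]⟩, ⟨[0, -1, 0, 0], [16], [3, 1, 0]⟩],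
  [⟨[-1, 1, 0, 0], [], [3, 1, 2, 0, 1]⟩, ⟨[-1, 0, -1, 0], [], [3, 1, 2, 0]⟩, ⟨[-1, 1, 0, 0], [], [2, 1, 0]⟩, ⟨[-1, 1, 0, 0], [], [3, 1, 0]⟩, ⟨[], [], []⟩, ⟨[0, -1, -1, 0], [], [0]⟩, ⟨[-1, 1, 0, 0], [0], [0, 1, 3, 2, 0, 1]⟩, ⟨[-1, 0, 0, -1], [], [2, 1]⟩, ⟨[-1, 0, -1, 0], [], [3, 1]⟩, ⟨[0, -1, -1, 0], [], [1]⟩, ⟨[-1, 1, 0, 0], [2], [1, 2, 1, 0]⟩, ⟨[-1, 1, 0, 0], [3], [1, 3, 1, 0]⟩, ⟨[-1, 1, 0, 0], [], []⟩, ⟨[-1, 1, 0, 0], [], []⟩, ⟨[0, -1, -1, 0], [5], [1, 0]⟩, ⟨[-1, 0, -1, 0], [], []⟩, ⟨[-1, 0, 0, -1], [], []⟩, ⟨[-1, 1, 0, 0], [], []⟩, ⟨[0, -1, -1, 0], [9], [0, 1]⟩, ⟨[], [], []⟩, ⟨[-1, 1, 0, 0], [12], [1, 0]⟩, ⟨[-1, 1, 0, 0], [13],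 [1, 0]⟩, ⟨[-1, 0, -1, 0], [], []⟩, ⟨[-1, 1, 0, 0], [17], [1, 0]⟩],
  [⟨[-1, -2, 0, 0], [], [3, 1, 2, 0, 1]⟩, ⟨[0, 0, -1, 0], [], [3, 1, 2, 0]⟩, ⟨[0, 0, -1, 0], [], [2, 1, 0]⟩, ⟨[0, 0, -1, 0], [], [3, 1, 0]⟩, ⟨[0, 0, -1, 0], [], [1, 0]⟩, ⟨[], [], []⟩, ⟨[0, 0, -1, 0], [1], [0, 1, 3, 2, 0]⟩, ⟨[0, 0, -1, 0], [2], [0, 1, 2, 0]⟩, ⟨[0, 0, -1, 0], [3], [0, 1, 3, 0]⟩, ⟨[0, 0, -1, 0], [4], [0, 1, 0]⟩, ⟨[0, 0, -1, 0], [], [2]⟩, ⟨[0, 0, 0, -1], [], [3]⟩, ⟨[0, 0, 0, -1], [], []⟩, ⟨[0, 0, -1, 0], [], []⟩, ⟨[0, 0, -1, 0], [], []⟩, ⟨[0, 0, -1, 0], [], []⟩, ⟨[0, 0, -1, 0], [], []⟩, ⟨[0, 0, -1, 0], [], []⟩, ⟨[], [], []⟩, ⟨[0, 0, -1, 0], [14], [0]⟩,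 ⟨[0, 0, -1, 0], [15], [0]⟩, ⟨[0, 0, -1, 0], [16], [0]⟩, ⟨[0, 0, -1, 0], [17], [0]⟩, ⟨[-1, -2, 0, 0], [], []⟩],
  [⟨[0, -1, 0, 0], [], [3, 1, 2, 0, 1]⟩, ⟨[0, -1, 0, 0], [], [3, 1, 2, 0]⟩, ⟨[-1, 0, -1, 0], [], [2, 1, 0]⟩, ⟨[-1, 0, 0, -1], [], [3, 1, 0]⟩, ⟨[0, -1, 0, 0], [0], [0, 1, 3, 2, 0, 1]⟩, ⟨[0, -1, 0, 0], [1], [0, 1, 3, 2, 0]⟩, ⟨[], [], []⟩, ⟨[0, -1, 0, 0], [], [2, 1]⟩, ⟨[0, -1, 0, 0], [], [3, 1]⟩, ⟨[0, -1, 0, 0], [], [1]⟩, ⟨[0, -1, 0, 0], [], [2]⟩, ⟨[0, -1, 0, 0], [], [3]⟩, ⟨[0, -1, 0, 0], [7], [3, 1, 2]⟩, ⟨[0, -1, 0, 0], [8], [2, 1, 3]⟩, ⟨[0, -1, 0, 0], [], []⟩, ⟨[0, -1, 0, 0], [10], [3, 1, 2]⟩, ⟨[0, -1, 0, 0], [11], [1, 3, 2]⟩,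 ⟨[], [], []⟩, ⟨[0, -1, 0, 0], [], []⟩, ⟨[0, -1, 0, 0], [], []⟩, ⟨[-1, 0, 0, -1], [], []⟩, ⟨[-1, 0, -1, 0], [], []⟩, ⟨[0, -1, 0, 0], [18], [3, 1, 2]⟩, ⟨[0, -1, 0, 0], [19], [3, 1, 2]⟩],
  [⟨[-1, -1, 0, 0], [], [3, 1, 2, 0, 1]⟩, ⟨[-1, 0, -1, 0], [], [3, 1, 2, 0]⟩, ⟨[-1, -1, 0, 0], [], [2, 1, 0]⟩, ⟨[-1, -1, 0, 0], [0], [2, 1, 3, 2, 0, 1]⟩, ⟨[-1, -1, 0, 0], [], [1, 0]⟩, ⟨[-1, -1, 0, 0], [2], [0, 1, 2, 0]⟩, ⟨[-1, -1, 0, 0], [], [3, 1, 2]⟩, ⟨[], [], []⟩, ⟨[-1, 0, -1, 0], [], [3, 1]⟩, ⟨[-1, -1, 0, 0], [], [1]⟩, ⟨[-1, -1, 0, 0], [], [2]⟩, ⟨[-1, -1, 0, 0], [6], [1, 3, 1, 2]⟩, ⟨[-1, -1, 0, 0], [], []⟩, ⟨[-1, -1, 0, 0], [9], [2, 1]⟩, ⟨[-1, -1,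 0, 0], [10], [1, 2]⟩, ⟨[-1, 0, -1, 0], [], []⟩, ⟨[], [], []⟩, ⟨[-1, -1, 0, 0], [12], [2, 1]⟩, ⟨[-1, -1, 0, 0], [], []⟩, ⟨[-1, -1, 0, 0], [], []⟩, ⟨[-1, -1, 0, 0], [], []⟩, ⟨[-1, -1, 0, 0], [18], [2, 1]⟩, ⟨[-1, 0, -1, 0], [], []⟩, ⟨[-1, -1, 0, 0], [20], [2, 1]⟩],
  [⟨[-1, -1, 0, 0], [], [3, 1, 2, 0, 1]⟩, ⟨[-1, 0, 0, -1], [], [3, 1, 2, 0]⟩, ⟨[-1, -1, 0, 0], [0], [1, 3, 1, 2, 0, 1]⟩, ⟨[-1, -1, 0, 0], [], [3, 1, 0]⟩, ⟨[-1, -1, 0, 0], [], [1, 0]⟩, ⟨[-1, -1, 0, 0], [3], [0, 1, 3, 0]⟩, ⟨[-1, -1, 0, 0], [], [3, 1, 2]⟩, ⟨[-1, 0, 0, -1], [], [2, 1]⟩, ⟨[], [], []⟩, ⟨[-1, -1, 0, 0], [], [1]⟩, ⟨[-1, -1, 0, 0], [6], [2, 1, 3, 2]⟩, ⟨[-1, -1, 0, 0],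 [], [3]⟩, ⟨[-1, -1, 0, 0], [9], [3, 1]⟩, ⟨[-1, -1, 0, 0], [], []⟩, ⟨[-1, -1, 0, 0], [11], [1, 3]⟩, ⟨[], [], []⟩, ⟨[-1, 0, 0, -1], [], []⟩, ⟨[-1, -1, 0, 0], [13], [3, 1]⟩, ⟨[-1, -1, 0, 0], [], []⟩, ⟨[-1, -1, 0, 0], [], []⟩, ⟨[-1, -1, 0, 0], [18], [3, 1]⟩, ⟨[-1, -1, 0, 0], [], []⟩, ⟨[-1, 0, 0, -1], [], []⟩, ⟨[-1, -1, 0, 0], [21], [3, 1]⟩],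
  [⟨[-2, -1, 0, 0], [], [3, 1, 2, 0, 1]⟩, ⟨[-2, -1, 0, 0], [0], [0, 1, 3, 2, 0, 1, 0]⟩, ⟨[-1, 0, 0, 1], [], [2, 1, 0]⟩, ⟨[-1, 0, 1, 0], [], [3, 1, 0]⟩, ⟨[-1, -1, -1, 0], [], [1, 0]⟩, ⟨[-1, -1, -1, 0], [4], [0, 1, 0]⟩, ⟨[-1, 0, 0, 1], [], [3, 1, 2]⟩, ⟨[-2, -1, 0, 0], [], [2, 1]⟩, ⟨[-2, -1, 0, 0], [], [3, 1]⟩, ⟨[], [], []⟩, ⟨[-2, -1, 0, 0], [7], [1, 2, 1]⟩, ⟨[-2, -1, 0, 0], [8], [1, 3, 1]⟩, ⟨[-2, -1, 0, 0], [], []⟩, ⟨[-2, -1, 0, 0], [], []⟩, ⟨[], [], []⟩, ⟨[-2, -1, 0, 0], [12], [1]⟩, ⟨[-2, -1, 0, 0], [13], [1]⟩, ⟨[-1, 0, 0, 1], [], []⟩, ⟨[-1, -1, -1, 0], [], []⟩, ⟨[-1, -1, -1, 0], [18], [1]⟩, ⟨[-1, 0, 1, 0], [], []⟩, ⟨[-1, 0, 0, 1],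 [], []⟩, ⟨[-2, -1, 0, 0], [], []⟩, ⟨[-2, -1, 0, 0], [22], [1]⟩],
  [⟨[0, -2, -1, 0], [], [3, 1, 2, 0, 1]⟩, ⟨[-1, 0, 0, 0], [], [3, 1, 2, 0]⟩, ⟨[-1, 0, 0, 0], [], [2, 1, 0]⟩, ⟨[-1, 0, 0, 0], [1], [2, 1, 3, 2, 0]⟩, ⟨[-1, 0, 0, 0], [2], [1, 2, 1, 0]⟩, ⟨[-1, 0, 0, 0], [], [0]⟩, ⟨[-1, 0, 0, 0], [], [3, 1, 2]⟩, ⟨[-1, 0, 0, 0], [], [2, 1]⟩, ⟨[-1, 0, 0, 0], [6], [2, 1, 3, 2]⟩, ⟨[-1, 0, 0, 0], [7], [1, 2, 1]⟩, ⟨[], [], []⟩, ⟨[0, 0, 0, -1], [], [3]⟩, ⟨[0, 0, 0, -1], [], []⟩, ⟨[], [], []⟩, ⟨[-1, 0, 0, 0], [], []⟩, ⟨[-1, 0, 0, 0], [], []⟩, ⟨[-1, 0, 0, 0], [14], [2]⟩, ⟨[-1, 0, 0, 0], [15], [2]⟩, ⟨[-1, 0, 0, 0], [], []⟩, ⟨[-1, 0, 0, 0], [], []⟩,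 ⟨[-1, 0, 0, 0], [], []⟩, ⟨[-1, 0, 0, 0], [19], [2]⟩, ⟨[-1, 0, 0, 0], [20], [2]⟩, ⟨[0, -2, -1, 0], [], []⟩],
  [⟨[0, -2, 0, -1], [], [3, 1, 2, 0, 1]⟩, ⟨[-1, 0, 0, 0], [], [3, 1, 2, 0]⟩, ⟨[-1, 0, 0, 0], [1], [1, 3, 1, 2, 0]⟩, ⟨[-1, 0, 0, 0], [], [3, 1, 0]⟩, ⟨[-1, 0, 0, 0], [3], [1, 3, 1, 0]⟩, ⟨[-1, 0, 0, 0], [], [0]⟩, ⟨[-1, 0, 0, 0], [], [3, 1, 2]⟩, ⟨[-1, 0, 0, 0], [6], [1, 3, 1, 2]⟩, ⟨[-1, 0, 0, 0], [], [3, 1]⟩, ⟨[-1, 0, 0, 0], [8], [1, 3, 1]⟩, ⟨[0, 0, -1, 0], [], [2]⟩, ⟨[], [], []⟩, ⟨[], [], []⟩, ⟨[0, 0, -1, 0], [], []⟩, ⟨[-1, 0, 0, 0], [], []⟩, ⟨[-1, 0, 0, 0], [14], [3]⟩, ⟨[-1, 0, 0, 0], [], []⟩, ⟨[-1, 0, 0, 0], [16], [3]⟩, ⟨[-1,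 0, 0, 0], [], []⟩, ⟨[-1, 0, 0, 0], [], []⟩, ⟨[-1, 0, 0, 0], [19], [3]⟩, ⟨[-1, 0, 0, 0], [], []⟩, ⟨[-1, 0, 0, 0], [21], [3]⟩, ⟨[0, -2, 0, -1], [], []⟩],
  [⟨[0, -2, 0, -1], [], [3, 1, 2, 0, 1]⟩, ⟨[-1, 0, 0, 0], [2], [3, 1, 2, 0]⟩, ⟨[-1, 0, 0, 0], [], [2, 1, 0]⟩, ⟨[-1, 0, 0, 0], [4], [3, 1, 0]⟩, ⟨[-1, 0, 0, 0], [], [1, 0]⟩, ⟨[-1, 0, 0, 0], [], [0]⟩, ⟨[-1, 0, 0, 0], [7], [3, 1, 2]⟩, ⟨[-1, 0, 0, 0], [], [2, 1]⟩, ⟨[-1, 0, 0, 0], [9], [3, 1]⟩, ⟨[-1, 0, 0, 0], [], [1]⟩, ⟨[0, 0, -1, 0], [], [2]⟩, ⟨[], [], []⟩, ⟨[], [], []⟩, ⟨[0, 0, -1, 0], [], []⟩, ⟨[-1, 0, 0, 0], [15], []⟩, ⟨[-1, 0, 0, 0], [], []⟩, ⟨[-1, 0, 0, 0], [17], []⟩, ⟨[-1, 0, 0, 0],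 [], []⟩, ⟨[-1, 0, 0, 0], [], []⟩, ⟨[-1, 0, 0, 0], [20], []⟩, ⟨[-1, 0, 0, 0], [], []⟩, ⟨[-1, 0, 0, 0], [22], []⟩, ⟨[-1, 0, 0, 0], [], []⟩, ⟨[0, -2, 0, -1], [], []⟩],
  [⟨[0, -2, -1, 0], [], [3, 1, 2, 0, 1]⟩, ⟨[-1, 0, 0, 0], [3], [2, 1, 3, 0]⟩, ⟨[-1, 0, 0, 0], [4], [2, 1, 0]⟩, ⟨[-1, 0, 0, 0], [], [3, 1, 0]⟩, ⟨[-1, 0, 0, 0], [], [1, 0]⟩, ⟨[-1, 0, 0, 0], [], [0]⟩, ⟨[-1, 0, 0, 0], [8], [2, 1, 3]⟩, ⟨[-1, 0, 0, 0], [9], [2, 1]⟩, ⟨[-1, 0, 0, 0], [], [3, 1]⟩, ⟨[-1, 0, 0, 0], [], [1]⟩, ⟨[], [], []⟩, ⟨[0, 0, 0, -1], [], [3]⟩, ⟨[0, 0, 0, -1], [], []⟩, ⟨[], [], []⟩, ⟨[-1, 0, 0, 0], [16], []⟩, ⟨[-1, 0, 0, 0], [17], []⟩, ⟨[-1, 0, 0, 0], [], []⟩,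 ⟨[-1, 0, 0, 0], [], []⟩, ⟨[-1, 0, 0, 0], [], []⟩, ⟨[-1, 0, 0, 0], [21], []⟩, ⟨[-1, 0, 0, 0], [22], []⟩, ⟨[-1, 0, 0, 0], [], []⟩, ⟨[-1, 0, 0, 0], [], []⟩, ⟨[0, -2, -1, 0], [], []⟩],
  [⟨[-2, -1, 0, 0], [1], [0, 1, 3, 2, 1, 0]⟩, ⟨[-2, -1, 0, 0], [], [3, 1, 2, 0]⟩, ⟨[-1, 0, 0, 1], [], [2, 1, 0]⟩, ⟨[-1, 0, 1, 0], [], [3, 1, 0]⟩, ⟨[-1, -1, -1, 0], [5], [1, 0]⟩, ⟨[-1, -1, -1, 0], [], [0]⟩, ⟨[-1, 0, 0, 1], [], [3, 1, 2]⟩, ⟨[-2, -1, 0, 0], [10], [1, 2]⟩, ⟨[-2, -1, 0, 0], [11], [1, 3]⟩, ⟨[], [], []⟩, ⟨[-2, -1, 0, 0], [], [2]⟩, ⟨[-2, -1, 0, 0], [], [3]⟩, ⟨[-2, -1, 0, 0], [15], []⟩, ⟨[-2, -1, 0, 0], [16], []⟩, ⟨[], [], []⟩, ⟨[-2, -1, 0, 0], [],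 []⟩, ⟨[-2, -1, 0, 0], [], []⟩, ⟨[-1, 0, 0, 1], [], []⟩, ⟨[-1, -1, -1, 0], [19], []⟩, ⟨[-1, -1, -1, 0], [], []⟩, ⟨[-1, 0, 1, 0], [], []⟩, ⟨[-1, 0, 0, 1], [], []⟩, ⟨[-2, -1, 0, 0], [23], []⟩, ⟨[-2, -1, 0, 0], [], []⟩],
  [⟨[-1, -1, 0, 0], [2], [3, 1, 2, 0, 1]⟩, ⟨[-1, 0, 0, -1], [], [3, 1, 2, 0]⟩, ⟨[-1, -1, 0, 0], [], [2, 1, 0]⟩, ⟨[-1, -1, 0, 0], [5], [3, 1, 0]⟩, ⟨[-1, -1, 0, 0], [], [1, 0]⟩, ⟨[-1, -1, 0, 0], [], [0]⟩, ⟨[-1, -1, 0, 0], [10], [3, 1, 2]⟩, ⟨[-1, 0, 0, -1], [], [2, 1]⟩, ⟨[], [], []⟩, ⟨[-1, -1, 0, 0], [12], [1]⟩, ⟨[-1, -1, 0, 0], [], [2]⟩, ⟨[-1, -1, 0, 0], [14], [3]⟩, ⟨[-1, -1, 0, 0], [], []⟩, ⟨[-1, -1, 0, 0], [17], []⟩, ⟨[-1,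 -1, 0, 0], [], []⟩, ⟨[], [], []⟩, ⟨[-1, 0, 0, -1], [], []⟩, ⟨[-1, -1, 0, 0], [], []⟩, ⟨[-1, -1, 0, 0], [20], []⟩, ⟨[-1, -1, 0, 0], [], []⟩, ⟨[-1, -1, 0, 0], [], []⟩, ⟨[-1, -1, 0, 0], [23], []⟩, ⟨[-1, 0, 0, -1], [], []⟩, ⟨[-1, -1, 0, 0], [], []⟩],
  [⟨[-1, -1, 0, 0], [3], [2, 1, 3, 0, 1]⟩, ⟨[-1, 0, -1, 0], [], [3, 1, 2, 0]⟩, ⟨[-1, -1, 0, 0], [5], [2, 1, 0]⟩, ⟨[-1, -1, 0, 0], [], [3, 1, 0]⟩, ⟨[-1, -1, 0, 0], [], [1, 0]⟩, ⟨[-1, -1, 0, 0], [], [0]⟩, ⟨[-1, -1, 0, 0], [11], [1, 3, 2]⟩, ⟨[], [], []⟩, ⟨[-1, 0, -1, 0], [], [3, 1]⟩, ⟨[-1, -1, 0, 0], [13], [1]⟩, ⟨[-1, -1, 0, 0], [14], [2]⟩, ⟨[-1, -1, 0, 0], [], [3]⟩, ⟨[-1, -1, 0, 0], [17], []⟩,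 ⟨[-1, -1, 0, 0], [], []⟩, ⟨[-1, -1, 0, 0], [], []⟩, ⟨[-1, 0, -1, 0], [], []⟩, ⟨[], [], []⟩, ⟨[-1, -1, 0, 0], [], []⟩, ⟨[-1, -1, 0, 0], [21], []⟩, ⟨[-1, -1, 0, 0], [], []⟩, ⟨[-1, -1, 0, 0], [23], []⟩, ⟨[-1, -1, 0, 0], [], []⟩, ⟨[-1, 0, -1, 0], [], []⟩, ⟨[-1, -1, 0, 0], [], []⟩],
  [⟨[0, -1, 0, 0], [4], [3, 1, 2, 0, 1]⟩, ⟨[0, -1, 0, 0], [5], [3, 1, 2, 0]⟩, ⟨[-1, 0, -1, 0], [], [2, 1, 0]⟩, ⟨[-1, 0, 0, -1], [], [3, 1, 0]⟩, ⟨[0, -1, 0, 0], [], [1, 0]⟩, ⟨[0, -1, 0, 0], [], [0]⟩, ⟨[], [], []⟩, ⟨[0, -1, 0, 0], [12], [2, 1]⟩, ⟨[0, -1, 0, 0], [13], [3, 1]⟩, ⟨[0, -1, 0, 0], [], [1]⟩, ⟨[0, -1, 0, 0], [15], [2]⟩, ⟨[0, -1, 0, 0], [16], [3]⟩, ⟨[0,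 -1, 0, 0], [], []⟩, ⟨[0, -1, 0, 0], [], []⟩, ⟨[0, -1, 0, 0], [], []⟩, ⟨[0, -1, 0, 0], [], []⟩, ⟨[0, -1, 0, 0], [], []⟩, ⟨[], [], []⟩, ⟨[0, -1, 0, 0], [22], []⟩, ⟨[0, -1, 0, 0], [23], []⟩, ⟨[-1, 0, 0, -1], [], []⟩, ⟨[-1, 0, -1, 0], [], []⟩, ⟨[0, -1, 0, 0], [], []⟩, ⟨[0, -1, 0, 0], [], []⟩],
  [⟨[-1, -2, 0, 0], [], [3, 1, 2, 0, 1]⟩, ⟨[0, 0, -1, 0], [6], [0, 1, 3, 2]⟩, ⟨[0, 0, -1, 0], [7], [0, 1, 2]⟩, ⟨[0, 0, -1, 0], [8], [0, 1, 3]⟩, ⟨[0, 0, -1, 0], [9], [0, 1]⟩, ⟨[], [], []⟩, ⟨[0, 0, -1, 0], [], [3, 1, 2]⟩, ⟨[0, 0, -1, 0], [], [2, 1]⟩, ⟨[0, 0, -1, 0], [], [3, 1]⟩, ⟨[0, 0, -1, 0], [], [1]⟩, ⟨[0, 0, -1, 0], [], [2]⟩, ⟨[0, 0, 0, -1], [],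 [3]⟩, ⟨[0, 0, 0, -1], [], []⟩, ⟨[0, 0, -1, 0], [], []⟩, ⟨[0, 0, -1, 0], [19], []⟩, ⟨[0, 0, -1, 0], [20], []⟩, ⟨[0, 0, -1, 0], [21], []⟩, ⟨[0, 0, -1, 0], [22], []⟩, ⟨[], [], []⟩, ⟨[0, 0, -1, 0], [], []⟩, ⟨[0, 0, -1, 0], [], []⟩, ⟨[0, 0, -1, 0], [], []⟩, ⟨[0, 0, -1, 0], [], []⟩, ⟨[-1, -2, 0, 0], [], []⟩],
  [⟨[-1, 1, 0, 0], [6], [0, 1, 3, 2, 1]⟩, ⟨[-1, 0, -1, 0], [], [3, 1, 2, 0]⟩, ⟨[-1, 1, 0, 0], [10], [1, 2, 0]⟩, ⟨[-1, 1, 0, 0], [11], [1, 3, 0]⟩, ⟨[], [], []⟩, ⟨[0, -1, -1, 0], [14], [0]⟩, ⟨[-1, 1, 0, 0], [], [3, 1, 2]⟩, ⟨[-1, 0, 0, -1], [], [2, 1]⟩, ⟨[-1, 0, -1, 0], [], [3, 1]⟩, ⟨[0, -1, -1, 0], [18], [1]⟩, ⟨[-1, 1, 0, 0], [], [2]⟩,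 ⟨[-1, 1, 0, 0], [], [3]⟩, ⟨[-1, 1, 0, 0], [20], []⟩, ⟨[-1, 1, 0, 0], [21], []⟩, ⟨[0, -1, -1, 0], [], []⟩, ⟨[-1, 0, -1, 0], [], []⟩, ⟨[-1, 0, 0, -1], [], []⟩, ⟨[-1, 1, 0, 0], [23], []⟩, ⟨[0, -1, -1, 0], [], []⟩, ⟨[], [], []⟩, ⟨[-1, 1, 0, 0], [], []⟩, ⟨[-1, 1, 0, 0], [], []⟩, ⟨[-1, 0, -1, 0], [], []⟩, ⟨[-1, 1, 0, 0], [], []⟩],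
  [⟨[0, -1, 0, 0], [7], [3, 1, 2, 0, 1]⟩, ⟨[0, -1, 0, 0], [10], [3, 1, 2, 0]⟩, ⟨[-1, 0, -1, 0], [], [2, 1, 0]⟩, ⟨[], [], []⟩, ⟨[0, -1, 0, 0], [12], [1, 0]⟩, ⟨[0, -1, 0, 0], [15], [0]⟩, ⟨[-1, 0, 0, 1], [], [3, 1, 2]⟩, ⟨[0, -1, 0, 0], [], [2, 1]⟩, ⟨[0, -1, 0, 0], [18], [3, 1]⟩, ⟨[0, -1, 0, 0], [], [1]⟩, ⟨[0, -1, 0, 0], [], [2]⟩, ⟨[0, -1, 0, 0], [19], [3]⟩, ⟨[0, -1, 0, 0], [], []⟩, ⟨[0, -1, 0, 0], [22], []⟩, ⟨[0, -1, 0, 0], [], []⟩, ⟨[0, -1, 0, 0], [], []⟩, ⟨[0, -1, 0, 0], [23], []⟩, ⟨[-1, 0, 0, 1], [], []⟩, ⟨[0, -1, 0, 0], [], []⟩, ⟨[0, -1, 0, 0], [], []⟩, ⟨[], [], []⟩, ⟨[-1, 0, -1, 0], [], []⟩, ⟨[0, -1, 0, 0], [], []⟩, ⟨[0, -1, 0, 0],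 [], []⟩],
  [⟨[0, -1, 0, 0], [8], [1, 3, 2, 0, 1]⟩, ⟨[0, -1, 0, 0], [11], [1, 3, 2, 0]⟩, ⟨[], [], []⟩, ⟨[-1, 0, 0, -1], [], [3, 1, 0]⟩, ⟨[0, -1, 0, 0], [13], [1, 0]⟩, ⟨[0, -1, 0, 0], [16], [0]⟩, ⟨[-1, 0, 1, 0], [], [3, 1, 2]⟩, ⟨[0, -1, 0, 0], [18], [2, 1]⟩, ⟨[0, -1, 0, 0], [], [3, 1]⟩, ⟨[0, -1, 0, 0], [], [1]⟩, ⟨[0, -1, 0, 0], [19], [2]⟩, ⟨[0, -1, 0, 0], [], [3]⟩, ⟨[0, -1, 0, 0], [22], []⟩, ⟨[0, -1, 0, 0], [], []⟩, ⟨[0, -1, 0, 0], [], []⟩, ⟨[0, -1, 0, 0], [23], []⟩, ⟨[0, -1, 0, 0], [], []⟩, ⟨[-1, 0, 1, 0], [], []⟩, ⟨[0, -1, 0, 0], [], []⟩, ⟨[0, -1, 0, 0], [], []⟩, ⟨[-1, 0, 0, -1], [], []⟩, ⟨[], [], []⟩, ⟨[0, -1, 0, 0], [], []⟩, ⟨[0,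 -1, 0, 0], [], []⟩],
  [⟨[-1, -1, 0, 0], [9], [3, 1, 2, 0, 1]⟩, ⟨[], [], []⟩, ⟨[-1, -1, 0, 0], [12], [2, 1, 0]⟩, ⟨[-1, -1, 0, 0], [13], [3, 1, 0]⟩, ⟨[-1, -1, 0, 0], [], [1, 0]⟩, ⟨[-1, -1, 0, 0], [17], [0]⟩, ⟨[-1, -1, 0, 0], [18], [3, 1, 2]⟩, ⟨[-1, 0, 1, 0], [], [2, 1]⟩, ⟨[-1, 0, 0, 1], [], [3, 1]⟩, ⟨[-1, -1, 0, 0], [], [1]⟩, ⟨[-1, -1, 0, 0], [20], [2]⟩, ⟨[-1, -1, 0, 0], [21], [3]⟩, ⟨[-1, -1, 0, 0], [], []⟩, ⟨[-1, -1, 0, 0], [], []⟩, ⟨[-1, -1, 0, 0], [23], []⟩, ⟨[-1, 0, 0, 1], [], []⟩, ⟨[-1, 0, 1, 0], [], []⟩, ⟨[-1, -1, 0, 0], [], []⟩, ⟨[-1, -1, 0, 0], [], []⟩, ⟨[-1, -1, 0, 0], [], []⟩, ⟨[-1, -1, 0, 0], [], []⟩, ⟨[-1, -1, 0, 0], [],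 []⟩, ⟨[], [], []⟩, ⟨[-1, -1, 0, 0], [], []⟩],
  [⟨[], [], []⟩, ⟨[-1, 0, 0, 0], [14], [3, 1, 2, 0]⟩, ⟨[-1, 0, 0, 0], [15], [2, 1, 0]⟩, ⟨[-1, 0, 0, 0], [16], [3, 1, 0]⟩, ⟨[-1, 0, 0, 0], [17], [1, 0]⟩, ⟨[-1, 0, 0, 0], [], [0]⟩, ⟨[-1, 0, 0, 0], [19], [3, 1, 2]⟩, ⟨[-1, 0, 0, 0], [20], [2, 1]⟩, ⟨[-1, 0, 0, 0], [21], [3, 1]⟩, ⟨[-1, 0, 0, 0], [22], [1]⟩, ⟨[0, 0, -1, 0], [], [2]⟩, ⟨[0, 0, 0, -1], [], [3]⟩, ⟨[0, 0, 0, -1], [], []⟩, ⟨[0, 0, -1, 0], [], []⟩, ⟨[-1, 0, 0, 0], [], []⟩, ⟨[-1, 0, 0, 0], [], []⟩, ⟨[-1, 0, 0, 0], [], []⟩, ⟨[-1, 0, 0, 0], [], []⟩, ⟨[-1, 0, 0, 0], [], []⟩, ⟨[-1, 0, 0, 0], [], []⟩, ⟨[-1, 0, 0, 0], [], []⟩, ⟨[-1, 0, 0, 0],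 [], []⟩, ⟨[-1, 0, 0, 0], [], []⟩, ⟨[], [], []⟩]]

def tbl (r s : ℕ) : Cert := (tblL.getD r []).getD s ⟨[], [], []⟩

def mu1L : List (List ℤ) := [[0, -1, 0, 0], [-1, 0, 0, 0], [-1, 0, 0, 0], [-1, 0, 0, 0], [-1, 0, 0, 0], [0, 1, 0, 0], [0, 0, -1, 0], [0, -1, 0, 0], [0, -1, 0, 0], [0, 0, 0, 1], [0, 1, 0, 0], [0, 1, 0, 0], [0, -1, 0, 0], [0, -1, 0, 0], [-1, 0, 0, 0], [-1, 0, 0, 0], [-1, 0, 0, 0], [-1, 0, 0, 0], [0, -1, 0, 0], [0, 0, -1, 0], [0, 0, -1, 0], [0, 0, 0, -1], [0, -1, 0, 0], [0, 1, 0, 0]]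

def mu1 (r : ℕ) : List ℤ := mu1L.getD r []

def dec1L : List (ℕ × ℕ × ℤ) := [(1, 9, 1), (0, 14, 1), (0, 15, -1), (0, 16, -1), (0, 17, 1), (1, 17, 1), (0, 19, -1), (0, 20, 1), (0, 21, 1), (0, 22, -1), (1, 20, -1), (1, 21, -1), (2, 22, -1), (3, 22, -1), (1, 23, -1), (2, 23, 1), (3, 23, 1), (4, 23, -1), (6, 22, 1), (6, 23, 1), (7, 23, -1), (8, 23, -1), (9, 23, 1), (14, 22, 1)]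

def dec1 (r : ℕ) : ℕ × ℕ × ℤ := dec1L.getD r (0, 0, 0)

def orthL : List (List OrthD) := [
  [⟨0, 0, 0, 0, 0, 0, 0, 0, [], []⟩, ⟨0, 0, 0, 0, 0, 0, 0, 0, [], []⟩, ⟨0, 0, 0, 0, 0, 0, 0, 0, [], []⟩, ⟨0, 0, 0, 0, 0, 0, 0, 0, [], []⟩, ⟨0, 0, 0, 0, 0, 0, 0, 0, [], []⟩, ⟨1, 17, 4, 14, 1, -1, 1, -1, [0, 0, -1, 0], [0, 0, -1, 0]⟩, ⟨0, 0, 0, 0, 0, 0, 0, 0, [], []⟩, ⟨0, 0, 0, 0, 0, 0, 0, 0, [], []⟩, ⟨0, 0, 0, 0, 0, 0, 0, 0, [], []⟩, ⟨0, 0, 0, 0, 0, 0, 0, 0, [], []⟩, ⟨1, 20, 7, 14, -1, -1, -1, -1, [-1, 0, 0, 0], [-1, 0, 0, 0]⟩, ⟨1, 21, 8, 14, -1, -1, -1, -1, [-1, 0, 0, 0], [-1, 0, 0, 0]⟩, ⟨2, 22, 9, 15, -1, 1, -1, 1, [-1, 0, 0, 0], [-1, 0, 0,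 0]⟩, ⟨3, 22, 9, 16, -1, 1, -1, 1, [-1, 0, 0, 0], [-1, 0, 0, 0]⟩, ⟨0, 0, 0, 0, 0, 0, 0, 0, [], []⟩, ⟨0, 0, 0, 0, 0, 0, 0, 0, [], []⟩, ⟨0, 0, 0, 0, 0, 0, 0, 0, [], []⟩, ⟨0, 0, 0, 0, 0, 0, 0, 0, [], []⟩, ⟨6, 22, 9, 19, 1, 1, 1, 1, [0, 0, -1, 0], [0, 0, -1, 0]⟩, ⟨0, 0, 0, 0, 0, 0, 0, 0, [], []⟩, ⟨0, 0, 0, 0, 0, 0, 0, 0, [], []⟩, ⟨0, 0, 0, 0, 0, 0, 0, 0, [], []⟩, ⟨0, 0, 0, 0, 0, 0, 0, 0, [], []⟩, ⟨0, 0, 0, 0, 0, 0, 0, 0, [], []⟩],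
  [⟨0, 0, 0, 0, 0, 0, 0, 0, [], []⟩, ⟨0, 0, 0, 0, 0, 0, 0, 0, [], []⟩, ⟨0, 0, 0, 0, 0, 0, 0, 0, [], []⟩, ⟨0, 0, 0, 0, 0, 0, 0, 0, [], []⟩, ⟨0, 17, 5, 9, 1, -1, 1, -1, [0, -1, -1, 0], [-1, 1, 0, 0]⟩, ⟨0, 0, 0, 0, 0, 0, 0, 0, [], []⟩, ⟨0, 0, 0, 0, 0, 0, 0, 0, [], []⟩, ⟨0, 20, 10, 9, 1, 1, -1, -1, [-1, -1, 0, 0], [-1, -1, 0, 0]⟩, ⟨0, 21, 11, 9, 1, 1, -1, -1, [-1, -1, 0, 0], [-1, -1, 0, 0]⟩, ⟨0, 0, 0, 0, 0, 0, 0, 0, [], []⟩, ⟨0, 0, 0, 0, 0, 0, 0, 0, [], []⟩, ⟨0, 0, 0, 0, 0, 0, 0, 0, [], []⟩, ⟨0, 0, 0, 0, 0, 0, 0, 0, [], []⟩, ⟨0, 0, 0, 0, 0, 0, 0, 0, [], []⟩, ⟨0, 0, 0, 0, 0, 0, 0, 0, [], []⟩, ⟨2, 23, 14, 12, 1, 1, -1, -1, [-1, -1, 0, 0],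 [-1, -1, 0, 0]⟩, ⟨3, 23, 14, 13, 1, 1, -1, -1, [-1, -1, 0, 0], [-1, -1, 0, 0]⟩, ⟨0, 0, 0, 0, 0, 0, 0, 0, [], []⟩, ⟨0, 0, 0, 0, 0, 0, 0, 0, [], []⟩, ⟨6, 23, 14, 18, 1, 1, 1, 1, [0, -1, -1, 0], [-1, 1, 0, 0]⟩, ⟨0, 0, 0, 0, 0, 0, 0, 0, [], []⟩, ⟨0, 0, 0, 0, 0, 0, 0, 0, [], []⟩, ⟨0, 0, 0, 0, 0, 0, 0, 0, [], []⟩, ⟨0, 0, 0, 0, 0, 0, 0, 0, [], []⟩],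
  [⟨0, 0, 0, 0, 0, 0, 0, 0, [], []⟩, ⟨0, 0, 0, 0, 0, 0, 0, 0, [], []⟩, ⟨0, 0, 0, 0, 0, 0, 0, 0, [], []⟩, ⟨0, 16, 5, 8, -1, -1, 1, 1, [0, -1, 0, 0], [0, -1, 0, 0]⟩, ⟨0, 0, 0, 0, 0, 0, 0, 0, [], []⟩, ⟨0, 0, 0, 0, 0, 0, 0, 0, [], []⟩, ⟨0, 19, 10, 8, -1, 1, -1, 1, [0, -1, 0, 0], [0, -1, 0, 0]⟩, ⟨0, 0, 0, 0, 0, 0, 0, 0, [], []⟩, ⟨0, 0, 0, 0, 0, 0, 0, 0, [], []⟩, ⟨0, 22, 12, 8, -1, 1, -1, 1, [-2, -1, 0, 0], [-2, -1, 0, 0]⟩, ⟨0, 0, 0, 0, 0, 0, 0, 0, [], []⟩, ⟨0, 0, 0, 0, 0, 0, 0, 0, [], []⟩, ⟨0, 0, 0, 0, 0, 0, 0, 0, [], []⟩, ⟨0, 0, 0, 0, 0, 0, 0, 0, [], []⟩, ⟨1, 23, 15, 11, -1, -1, -1, -1, [-2, -1, 0, 0], [-2, -1, 0, 0]⟩, ⟨0, 0, 0, 0, 0,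 0, 0, 0, [], []⟩, ⟨0, 0, 0, 0, 0, 0, 0, 0, [], []⟩, ⟨4, 23, 15, 13, -1, -1, -1, -1, [0, -1, 0, 0], [0, -1, 0, 0]⟩, ⟨0, 0, 0, 0, 0, 0, 0, 0, [], []⟩, ⟨0, 0, 0, 0, 0, 0, 0, 0, [], []⟩, ⟨7, 23, 15, 18, -1, -1, 1, 1, [0, -1, 0, 0], [0, -1, 0, 0]⟩, ⟨0, 0, 0, 0, 0, 0, 0, 0, [], []⟩, ⟨0, 0, 0, 0, 0, 0, 0, 0, [], []⟩, ⟨0, 0, 0, 0, 0, 0, 0, 0, [], []⟩],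
  [⟨0, 0, 0, 0, 0, 0, 0, 0, [], []⟩, ⟨0, 0, 0, 0, 0, 0, 0, 0, [], []⟩, ⟨0, 15, 5, 7, -1, -1, 1, 1, [0, -1, 0, 0], [0, -1, 0, 0]⟩, ⟨0, 0, 0, 0, 0, 0, 0, 0, [], []⟩, ⟨0, 0, 0, 0, 0, 0, 0, 0, [], []⟩, ⟨0, 0, 0, 0, 0, 0, 0, 0, [], []⟩, ⟨0, 19, 11, 7, -1, 1, -1, 1, [0, -1, 0, 0], [0, -1, 0, 0]⟩, ⟨0, 0, 0, 0, 0, 0, 0, 0, [], []⟩, ⟨0, 0, 0, 0, 0, 0, 0, 0, [], []⟩, ⟨0, 22, 13, 7, -1, 1, -1, 1, [-2, -1, 0, 0], [-2, -1, 0, 0]⟩, ⟨0, 0, 0, 0, 0, 0, 0, 0, [], []⟩, ⟨0, 0, 0, 0, 0, 0, 0, 0, [], []⟩, ⟨0, 0, 0, 0, 0, 0, 0, 0, [], []⟩, ⟨0, 0, 0, 0, 0, 0, 0, 0, [], []⟩, ⟨1, 23, 16, 10, -1, -1, -1, -1, [-2, -1, 0, 0], [-2, -1, 0, 0]⟩, ⟨0, 0, 0, 0, 0,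 0, 0, 0, [], []⟩, ⟨0, 0, 0, 0, 0, 0, 0, 0, [], []⟩, ⟨4, 23, 16, 12, -1, -1, -1, -1, [0, -1, 0, 0], [0, -1, 0, 0]⟩, ⟨0, 0, 0, 0, 0, 0, 0, 0, [], []⟩, ⟨0, 0, 0, 0, 0, 0, 0, 0, [], []⟩, ⟨0, 0, 0, 0, 0, 0, 0, 0, [], []⟩, ⟨8, 23, 16, 18, -1, -1, 1, 1, [0, -1, 0, 0], [0, -1, 0, 0]⟩, ⟨0, 0, 0, 0, 0, 0, 0, 0, [], []⟩, ⟨0, 0, 0, 0, 0, 0, 0, 0, [], []⟩],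
  [⟨0, 0, 0, 0, 0, 0, 0, 0, [], []⟩, ⟨0, 14, 5, 6, 1, -1, 1, -1, [-1, -1, 0, 0], [-1, -1, 0, 0]⟩, ⟨0, 0, 0, 0, 0, 0, 0, 0, [], []⟩, ⟨0, 0, 0, 0, 0, 0, 0, 0, [], []⟩, ⟨0, 0, 0, 0, 0, 0, 0, 0, [], []⟩, ⟨0, 0, 0, 0, 0, 0, 0, 0, [], []⟩, ⟨0, 0, 0, 0, 0, 0, 0, 0, [], []⟩, ⟨0, 20, 12, 6, 1, 1, -1, -1, [-1, -1, 0, 0], [-1, -1, 0, 0]⟩, ⟨0, 21, 13, 6, 1, 1, -1, -1, [-1, -1, 0, 0], [-1, -1, 0, 0]⟩, ⟨0, 0, 0, 0, 0, 0, 0, 0, [], []⟩, ⟨0, 0, 0, 0, 0, 0, 0, 0, [], []⟩, ⟨0, 0, 0, 0, 0, 0, 0, 0, [], []⟩, ⟨0, 0, 0, 0, 0, 0, 0, 0, [], []⟩, ⟨0, 0, 0, 0, 0, 0, 0, 0, [], []⟩, ⟨0, 0, 0, 0, 0, 0, 0, 0, [], []⟩, ⟨2, 23, 17, 10, 1, 1, -1, -1, [-1, -1, 0, 0],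 [-1, -1, 0, 0]⟩, ⟨3, 23, 17, 11, 1, 1, -1, -1, [-1, -1, 0, 0], [-1, -1, 0, 0]⟩, ⟨0, 0, 0, 0, 0, 0, 0, 0, [], []⟩, ⟨0, 0, 0, 0, 0, 0, 0, 0, [], []⟩, ⟨0, 0, 0, 0, 0, 0, 0, 0, [], []⟩, ⟨0, 0, 0, 0, 0, 0, 0, 0, [], []⟩, ⟨0, 0, 0, 0, 0, 0, 0, 0, [], []⟩, ⟨9, 23, 17, 18, 1, 1, 1, 1, [-1, -1, 0, 0], [-1, -1, 0, 0]⟩, ⟨0, 0, 0, 0, 0, 0, 0, 0, [], []⟩],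
  [⟨1, 9, 4, 6, 1, -1, 1, -1, [-1, 0, 0, 0], [-1, 0, 0, 0]⟩, ⟨0, 0, 0, 0, 0, 0, 0, 0, [], []⟩, ⟨0, 0, 0, 0, 0, 0, 0, 0, [], []⟩, ⟨0, 0, 0, 0, 0, 0, 0, 0, [], []⟩, ⟨0, 0, 0, 0, 0, 0, 0, 0, [], []⟩, ⟨0, 0, 0, 0, 0, 0, 0, 0, [], []⟩, ⟨0, 0, 0, 0, 0, 0, 0, 0, [], []⟩, ⟨0, 0, 0, 0, 0, 0, 0, 0, [], []⟩, ⟨0, 0, 0, 0, 0, 0, 0, 0, [], []⟩, ⟨0, 0, 0, 0, 0, 0, 0, 0, [], []⟩, ⟨1, 20, 15, 6, -1, 1, 1, -1, [-1, 0, 0, 0], [-1, 0, 0, 0]⟩, ⟨1, 21, 16, 6, -1, 1, 1, -1, [-1, 0, 0, 0], [-1, 0, 0, 0]⟩, ⟨2, 22, 17, 7, -1, 1, 1, -1, [-1, 0, 0, 0], [-1, 0, 0, 0]⟩, ⟨3, 22, 17, 8, -1, 1, 1, -1, [-1, 0, 0, 0], [-1, 0, 0, 0]⟩, ⟨0, 0, 0, 0, 0, 0, 0, 0, [], []⟩,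 ⟨0, 0, 0, 0, 0, 0, 0, 0, [], []⟩, ⟨0, 0, 0, 0, 0, 0, 0, 0, [], []⟩, ⟨0, 0, 0, 0, 0, 0, 0, 0, [], []⟩, ⟨0, 0, 0, 0, 0, 0, 0, 0, [], []⟩, ⟨0, 0, 0, 0, 0, 0, 0, 0, [], []⟩, ⟨0, 0, 0, 0, 0, 0, 0, 0, [], []⟩, ⟨0, 0, 0, 0, 0, 0, 0, 0, [], []⟩, ⟨0, 0, 0, 0, 0, 0, 0, 0, [], []⟩, ⟨14, 22, 17, 19, 1, 1, 1, 1, [-1, 0, 0, 0], [-1, 0, 0, 0]⟩],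
  [⟨0, 0, 0, 0, 0, 0, 0, 0, [], []⟩, ⟨0, 0, 0, 0, 0, 0, 0, 0, [], []⟩, ⟨0, 15, 10, 4, -1, 1, -1, 1, [0, -1, 0, 0], [0, -1, 0, 0]⟩, ⟨0, 16, 11, 4, -1, 1, -1, 1, [0, -1, 0, 0], [0, -1, 0, 0]⟩, ⟨0, 0, 0, 0, 0, 0, 0, 0, [], []⟩, ⟨0, 0, 0, 0, 0, 0, 0, 0, [], []⟩, ⟨0, 0, 0, 0, 0, 0, 0, 0, [], []⟩, ⟨0, 0, 0, 0, 0, 0, 0, 0, [], []⟩, ⟨0, 0, 0, 0, 0, 0, 0, 0, [], []⟩, ⟨0, 22, 18, 4, -1, -1, 1, 1, [-1, -1, -1, 0], [-2, -1, 0, 0]⟩, ⟨0, 0, 0, 0, 0, 0, 0, 0, [], []⟩, ⟨0, 0, 0, 0, 0, 0, 0, 0, [], []⟩, ⟨0, 0, 0, 0, 0, 0, 0, 0, [], []⟩, ⟨0, 0, 0, 0, 0, 0, 0, 0, [], []⟩, ⟨1, 23, 19, 5, -1, -1, 1, 1, [-1, -1, -1, 0], [-2, -1, 0, 0]⟩, ⟨0, 0, 0, 0, 0,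 0, 0, 0, [], []⟩, ⟨0, 0, 0, 0, 0, 0, 0, 0, [], []⟩, ⟨0, 0, 0, 0, 0, 0, 0, 0, [], []⟩, ⟨0, 0, 0, 0, 0, 0, 0, 0, [], []⟩, ⟨0, 0, 0, 0, 0, 0, 0, 0, [], []⟩, ⟨7, 23, 19, 12, -1, -1, -1, -1, [0, -1, 0, 0], [0, -1, 0, 0]⟩, ⟨8, 23, 19, 13, -1, -1, -1, -1, [0, -1, 0, 0], [0, -1, 0, 0]⟩, ⟨0, 0, 0, 0, 0, 0, 0, 0, [], []⟩, ⟨0, 0, 0, 0, 0, 0, 0, 0, [], []⟩],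
  [⟨0, 0, 0, 0, 0, 0, 0, 0, [], []⟩, ⟨0, 14, 10, 3, 1, 1, -1, -1, [-1, -1, 0, 0], [-1, -1, 0, 0]⟩, ⟨0, 0, 0, 0, 0, 0, 0, 0, [], []⟩, ⟨0, 0, 0, 0, 0, 0, 0, 0, [], []⟩, ⟨0, 17, 12, 3, 1, 1, -1, -1, [-1, 1, 0, 0], [-1, 1, 0, 0]⟩, ⟨0, 0, 0, 0, 0, 0, 0, 0, [], []⟩, ⟨0, 0, 0, 0, 0, 0, 0, 0, [], []⟩, ⟨0, 0, 0, 0, 0, 0, 0, 0, [], []⟩, ⟨0, 21, 18, 3, 1, -1, 1, -1, [-1, -1, 0, 0], [-1, -1, 0, 0]⟩, ⟨0, 0, 0, 0, 0, 0, 0, 0, [], []⟩, ⟨0, 0, 0, 0, 0, 0, 0, 0, [], []⟩, ⟨0, 0, 0, 0, 0, 0, 0, 0, [], []⟩, ⟨0, 0, 0, 0, 0, 0, 0, 0, [], []⟩, ⟨0, 0, 0, 0, 0, 0, 0, 0, [], []⟩, ⟨0, 0, 0, 0, 0, 0, 0, 0, [], []⟩, ⟨2, 23, 20, 5, 1, 1, 1, 1, [-1, -1, 0, 0], [-1,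 -1, 0, 0]⟩, ⟨0, 0, 0, 0, 0, 0, 0, 0, [], []⟩, ⟨0, 0, 0, 0, 0, 0, 0, 0, [], []⟩, ⟨0, 0, 0, 0, 0, 0, 0, 0, [], []⟩, ⟨6, 23, 20, 11, 1, 1, -1, -1, [-1, 1, 0, 0], [-1, 1, 0, 0]⟩, ⟨0, 0, 0, 0, 0, 0, 0, 0, [], []⟩, ⟨0, 0, 0, 0, 0, 0, 0, 0, [], []⟩, ⟨9, 23, 20, 13, 1, 1, -1, -1, [-1, -1, 0, 0], [-1, -1, 0, 0]⟩, ⟨0, 0, 0, 0, 0, 0, 0, 0, [], []⟩],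
  [⟨0, 0, 0, 0, 0, 0, 0, 0, [], []⟩, ⟨0, 14, 11, 2, 1, 1, -1, -1, [-1, -1, 0, 0], [-1, -1, 0, 0]⟩, ⟨0, 0, 0, 0, 0, 0, 0, 0, [], []⟩, ⟨0, 0, 0, 0, 0, 0, 0, 0, [], []⟩, ⟨0, 17, 13, 2, 1, 1, -1, -1, [-1, 1, 0, 0], [-1, 1, 0, 0]⟩, ⟨0, 0, 0, 0, 0, 0, 0, 0, [], []⟩, ⟨0, 0, 0, 0, 0, 0, 0, 0, [], []⟩, ⟨0, 20, 18, 2, 1, -1, 1, -1, [-1, -1, 0, 0], [-1, -1, 0, 0]⟩, ⟨0, 0, 0, 0, 0, 0, 0, 0, [], []⟩, ⟨0, 0, 0, 0, 0, 0, 0, 0, [], []⟩, ⟨0, 0, 0, 0, 0, 0, 0, 0, [], []⟩, ⟨0, 0, 0, 0, 0, 0, 0, 0, [], []⟩, ⟨0, 0, 0, 0, 0, 0, 0, 0, [], []⟩, ⟨0, 0, 0, 0, 0, 0, 0, 0, [], []⟩, ⟨0, 0, 0, 0, 0, 0, 0, 0, [], []⟩, ⟨0, 0, 0, 0, 0, 0, 0, 0, [], []⟩, ⟨3, 23, 21,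 5, 1, 1, 1, 1, [-1, -1, 0, 0], [-1, -1, 0, 0]⟩, ⟨0, 0, 0, 0, 0, 0, 0, 0, [], []⟩, ⟨0, 0, 0, 0, 0, 0, 0, 0, [], []⟩, ⟨6, 23, 21, 10, 1, 1, -1, -1, [-1, 1, 0, 0], [-1, 1, 0, 0]⟩, ⟨0, 0, 0, 0, 0, 0, 0, 0, [], []⟩, ⟨0, 0, 0, 0, 0, 0, 0, 0, [], []⟩, ⟨9, 23, 21, 12, 1, 1, -1, -1, [-1, -1, 0, 0], [-1, -1, 0, 0]⟩, ⟨0, 0, 0, 0, 0, 0, 0, 0, [], []⟩],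
  [⟨0, 0, 0, 0, 0, 0, 0, 0, [], []⟩, ⟨0, 0, 0, 0, 0, 0, 0, 0, [], []⟩, ⟨0, 15, 12, 1, -1, 1, -1, 1, [0, -1, 0, 0], [0, -1, 0, 0]⟩, ⟨0, 16, 13, 1, -1, 1, -1, 1, [0, -1, 0, 0], [0, -1, 0, 0]⟩, ⟨0, 0, 0, 0, 0, 0, 0, 0, [], []⟩, ⟨0, 0, 0, 0, 0, 0, 0, 0, [], []⟩, ⟨0, 19, 18, 1, -1, -1, 1, 1, [0, -1, 0, 0], [0, -1, 0, 0]⟩, ⟨0, 0, 0, 0, 0, 0, 0, 0, [], []⟩, ⟨0, 0, 0, 0, 0, 0, 0, 0, [], []⟩, ⟨0, 0, 0, 0, 0, 0, 0, 0, [], []⟩, ⟨0, 0, 0, 0, 0, 0, 0, 0, [], []⟩, ⟨0, 0, 0, 0, 0, 0, 0, 0, [], []⟩, ⟨0, 0, 0, 0, 0, 0, 0, 0, [], []⟩, ⟨0, 0, 0, 0, 0, 0, 0, 0, [], []⟩, ⟨0, 0, 0, 0, 0, 0, 0, 0, [], []⟩, ⟨0, 0, 0, 0, 0, 0, 0, 0, [], []⟩, ⟨0, 0, 0, 0, 0,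 0, 0, 0, [], []⟩, ⟨4, 23, 22, 5, -1, -1, 1, 1, [0, -1, 0, 0], [0, -1, 0, 0]⟩, ⟨0, 0, 0, 0, 0, 0, 0, 0, [], []⟩, ⟨0, 0, 0, 0, 0, 0, 0, 0, [], []⟩, ⟨7, 23, 22, 10, -1, -1, -1, -1, [0, -1, 0, 0], [0, -1, 0, 0]⟩, ⟨8, 23, 22, 11, -1, -1, -1, -1, [0, -1, 0, 0], [0, -1, 0, 0]⟩, ⟨0, 0, 0, 0, 0, 0, 0, 0, [], []⟩, ⟨0, 0, 0, 0, 0, 0, 0, 0, [], []⟩],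
  [⟨1, 9, 7, 3, 1, 1, 1, 1, [-1, 0, 0, 0], [-1, 0, 0, 0]⟩, ⟨0, 0, 0, 0, 0, 0, 0, 0, [], []⟩, ⟨0, 0, 0, 0, 0, 0, 0, 0, [], []⟩, ⟨0, 0, 0, 0, 0, 0, 0, 0, [], []⟩, ⟨0, 0, 0, 0, 0, 0, 0, 0, [], []⟩, ⟨1, 17, 15, 3, 1, -1, -1, 1, [0, 0, -1, 0], [0, 0, -1, 0]⟩, ⟨0, 0, 0, 0, 0, 0, 0, 0, [], []⟩, ⟨0, 0, 0, 0, 0, 0, 0, 0, [], []⟩, ⟨0, 0, 0, 0, 0, 0, 0, 0, [], []⟩, ⟨0, 0, 0, 0, 0, 0, 0, 0, [], []⟩, ⟨0, 0, 0, 0, 0, 0, 0, 0, [], []⟩, ⟨1, 21, 19, 3, -1, -1, 1, 1, [-1, 0, 0, 0], [-1, 0, 0, 0]⟩, ⟨2, 22, 20, 4, -1, -1, 1, 1, [-1, 0, 0, 0], [-1, 0, 0, 0]⟩, ⟨0, 0, 0, 0, 0, 0, 0, 0, [], []⟩, ⟨0, 0, 0, 0, 0, 0, 0, 0, [], []⟩, ⟨0, 0, 0, 0, 0, 0, 0, 0, [],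 []⟩, ⟨0, 0, 0, 0, 0, 0, 0, 0, [], []⟩, ⟨0, 0, 0, 0, 0, 0, 0, 0, [], []⟩, ⟨6, 22, 20, 8, 1, -1, -1, 1, [0, 0, -1, 0], [0, 0, -1, 0]⟩, ⟨0, 0, 0, 0, 0, 0, 0, 0, [], []⟩, ⟨0, 0, 0, 0, 0, 0, 0, 0, [], []⟩, ⟨0, 0, 0, 0, 0, 0, 0, 0, [], []⟩, ⟨0, 0, 0, 0, 0, 0, 0, 0, [], []⟩, ⟨14, 22, 20, 16, 1, -1, 1, -1, [-1, 0, 0, 0], [-1, 0, 0, 0]⟩],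
  [⟨1, 9, 8, 2, 1, 1, 1, 1, [-1, 0, 0, 0], [-1, 0, 0, 0]⟩, ⟨0, 0, 0, 0, 0, 0, 0, 0, [], []⟩, ⟨0, 0, 0, 0, 0, 0, 0, 0, [], []⟩, ⟨0, 0, 0, 0, 0, 0, 0, 0, [], []⟩, ⟨0, 0, 0, 0, 0, 0, 0, 0, [], []⟩, ⟨1, 17, 16, 2, 1, -1, -1, 1, [0, 0, -1, 0], [0, 0, -1, 0]⟩, ⟨0, 0, 0, 0, 0, 0, 0, 0, [], []⟩, ⟨0, 0, 0, 0, 0, 0, 0, 0, [], []⟩, ⟨0, 0, 0, 0, 0, 0, 0, 0, [], []⟩, ⟨0, 0, 0, 0, 0, 0, 0, 0, [], []⟩, ⟨1, 20, 19, 2, -1, -1, 1, 1, [-1, 0, 0, 0], [-1, 0, 0, 0]⟩, ⟨0, 0, 0, 0, 0, 0, 0, 0, [], []⟩, ⟨0, 0, 0, 0, 0, 0, 0, 0, [], []⟩, ⟨3, 22, 21, 4, -1, -1, 1, 1, [-1, 0, 0, 0], [-1, 0, 0, 0]⟩, ⟨0, 0, 0, 0, 0, 0, 0, 0, [], []⟩, ⟨0, 0, 0, 0, 0, 0, 0, 0, [],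 []⟩, ⟨0, 0, 0, 0, 0, 0, 0, 0, [], []⟩, ⟨0, 0, 0, 0, 0, 0, 0, 0, [], []⟩, ⟨6, 22, 21, 7, 1, -1, -1, 1, [0, 0, -1, 0], [0, 0, -1, 0]⟩, ⟨0, 0, 0, 0, 0, 0, 0, 0, [], []⟩, ⟨0, 0, 0, 0, 0, 0, 0, 0, [], []⟩, ⟨0, 0, 0, 0, 0, 0, 0, 0, [], []⟩, ⟨0, 0, 0, 0, 0, 0, 0, 0, [], []⟩, ⟨14, 22, 21, 15, 1, -1, 1, -1, [-1, 0, 0, 0], [-1, 0, 0, 0]⟩],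
  [⟨2, 8, 9, 1, -1, 1, -1, 1, [-1, 0, 0, 0], [-1, 0, 0, 0]⟩, ⟨0, 0, 0, 0, 0, 0, 0, 0, [], []⟩, ⟨0, 0, 0, 0, 0, 0, 0, 0, [], []⟩, ⟨0, 0, 0, 0, 0, 0, 0, 0, [], []⟩, ⟨0, 0, 0, 0, 0, 0, 0, 0, [], []⟩, ⟨2, 16, 17, 1, 1, -1, -1, 1, [0, 0, -1, 0], [0, 0, -1, 0]⟩, ⟨0, 0, 0, 0, 0, 0, 0, 0, [], []⟩, ⟨0, 0, 0, 0, 0, 0, 0, 0, [], []⟩, ⟨0, 0, 0, 0, 0, 0, 0, 0, [], []⟩, ⟨0, 0, 0, 0, 0, 0, 0, 0, [], []⟩, ⟨2, 19, 20, 1, -1, -1, 1, 1, [-1, 0, 0, 0], [-1, 0, 0, 0]⟩, ⟨0, 0, 0, 0, 0, 0, 0, 0, [], []⟩, ⟨0, 0, 0, 0, 0, 0, 0, 0, [], []⟩, ⟨4, 21, 22, 3, -1, -1, 1, 1, [-1, 0, 0, 0], [-1, 0, 0, 0]⟩, ⟨0, 0, 0, 0, 0, 0, 0, 0, [], []⟩, ⟨0, 0, 0, 0, 0, 0, 0, 0,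 [], []⟩, ⟨0, 0, 0, 0, 0, 0, 0, 0, [], []⟩, ⟨0, 0, 0, 0, 0, 0, 0, 0, [], []⟩, ⟨7, 21, 22, 6, 1, -1, -1, 1, [0, 0, -1, 0], [0, 0, -1, 0]⟩, ⟨0, 0, 0, 0, 0, 0, 0, 0, [], []⟩, ⟨0, 0, 0, 0, 0, 0, 0, 0, [], []⟩, ⟨0, 0, 0, 0, 0, 0, 0, 0, [], []⟩, ⟨0, 0, 0, 0, 0, 0, 0, 0, [], []⟩, ⟨15, 21, 22, 14, -1, -1, -1, -1, [-1, 0, 0, 0], [-1, 0, 0, 0]⟩],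
  [⟨3, 7, 9, 1, -1, 1, -1, 1, [-1, 0, 0, 0], [-1, 0, 0, 0]⟩, ⟨0, 0, 0, 0, 0, 0, 0, 0, [], []⟩, ⟨0, 0, 0, 0, 0, 0, 0, 0, [], []⟩, ⟨0, 0, 0, 0, 0, 0, 0, 0, [], []⟩, ⟨0, 0, 0, 0, 0, 0, 0, 0, [], []⟩, ⟨3, 15, 17, 1, 1, -1, -1, 1, [0, 0, -1, 0], [0, 0, -1, 0]⟩, ⟨0, 0, 0, 0, 0, 0, 0, 0, [], []⟩, ⟨0, 0, 0, 0, 0, 0, 0, 0, [], []⟩, ⟨0, 0, 0, 0, 0, 0, 0, 0, [], []⟩, ⟨0, 0, 0, 0, 0, 0, 0, 0, [], []⟩, ⟨0, 0, 0, 0, 0, 0, 0, 0, [], []⟩, ⟨3, 19, 21, 1, -1, -1, 1, 1, [-1, 0, 0, 0], [-1, 0, 0, 0]⟩, ⟨4, 20, 22, 2, -1, -1, 1, 1, [-1, 0, 0, 0], [-1, 0, 0, 0]⟩, ⟨0, 0, 0, 0, 0, 0, 0, 0, [], []⟩, ⟨0, 0, 0, 0, 0, 0, 0, 0, [], []⟩, ⟨0, 0, 0, 0, 0, 0, 0, 0,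 [], []⟩, ⟨0, 0, 0, 0, 0, 0, 0, 0, [], []⟩, ⟨0, 0, 0, 0, 0, 0, 0, 0, [], []⟩, ⟨8, 20, 22, 6, 1, -1, -1, 1, [0, 0, -1, 0], [0, 0, -1, 0]⟩, ⟨0, 0, 0, 0, 0, 0, 0, 0, [], []⟩, ⟨0, 0, 0, 0, 0, 0, 0, 0, [], []⟩, ⟨0, 0, 0, 0, 0, 0, 0, 0, [], []⟩, ⟨0, 0, 0, 0, 0, 0, 0, 0, [], []⟩, ⟨16, 20, 22, 14, -1, -1, -1, -1, [-1, 0, 0, 0], [-1, 0, 0, 0]⟩],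
  [⟨0, 0, 0, 0, 0, 0, 0, 0, [], []⟩, ⟨0, 0, 0, 0, 0, 0, 0, 0, [], []⟩, ⟨1, 12, 15, 0, 1, 1, 1, 1, [0, -1, 0, 0], [0, -1, 0, 0]⟩, ⟨1, 13, 16, 0, 1, 1, 1, 1, [0, -1, 0, 0], [0, -1, 0, 0]⟩, ⟨0, 0, 0, 0, 0, 0, 0, 0, [], []⟩, ⟨0, 0, 0, 0, 0, 0, 0, 0, [], []⟩, ⟨1, 18, 19, 0, -1, -1, 1, 1, [0, -1, 0, 0], [0, -1, 0, 0]⟩, ⟨0, 0, 0, 0, 0, 0, 0, 0, [], []⟩, ⟨0, 0, 0, 0, 0, 0, 0, 0, [], []⟩, ⟨0, 0, 0, 0, 0, 0, 0, 0, [], []⟩, ⟨0, 0, 0, 0, 0, 0, 0, 0, [], []⟩, ⟨0, 0, 0, 0, 0, 0, 0, 0, [], []⟩, ⟨0, 0, 0, 0, 0, 0, 0, 0, [], []⟩, ⟨0, 0, 0, 0, 0, 0, 0, 0, [], []⟩, ⟨0, 0, 0, 0, 0, 0, 0, 0, [], []⟩, ⟨0, 0, 0, 0, 0, 0, 0, 0, [], []⟩, ⟨0, 0, 0, 0, 0, 0,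 0, 0, [], []⟩, ⟨5, 22, 23, 4, -1, -1, 1, 1, [0, -1, 0, 0], [0, -1, 0, 0]⟩, ⟨0, 0, 0, 0, 0, 0, 0, 0, [], []⟩, ⟨0, 0, 0, 0, 0, 0, 0, 0, [], []⟩, ⟨10, 22, 23, 7, 1, -1, 1, -1, [0, -1, 0, 0], [0, -1, 0, 0]⟩, ⟨11, 22, 23, 8, 1, -1, 1, -1, [0, -1, 0, 0], [0, -1, 0, 0]⟩, ⟨0, 0, 0, 0, 0, 0, 0, 0, [], []⟩, ⟨0, 0, 0, 0, 0, 0, 0, 0, [], []⟩],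
  [⟨0, 0, 0, 0, 0, 0, 0, 0, [], []⟩, ⟨2, 11, 14, 0, 1, 1, -1, -1, [-1, -1, 0, 0], [-1, -1, 0, 0]⟩, ⟨0, 0, 0, 0, 0, 0, 0, 0, [], []⟩, ⟨0, 0, 0, 0, 0, 0, 0, 0, [], []⟩, ⟨2, 13, 17, 0, 1, 1, -1, -1, [-1, 1, 0, 0], [-1, 1, 0, 0]⟩, ⟨0, 0, 0, 0, 0, 0, 0, 0, [], []⟩, ⟨0, 0, 0, 0, 0, 0, 0, 0, [], []⟩, ⟨2, 18, 20, 0, -1, -1, -1, -1, [-1, -1, 0, 0], [-1, -1, 0, 0]⟩, ⟨0, 0, 0, 0, 0, 0, 0, 0, [], []⟩, ⟨0, 0, 0, 0, 0, 0, 0, 0, [], []⟩, ⟨0, 0, 0, 0, 0, 0, 0, 0, [], []⟩, ⟨0, 0, 0, 0, 0, 0, 0, 0, [], []⟩, ⟨0, 0, 0, 0, 0, 0, 0, 0, [], []⟩, ⟨0, 0, 0, 0, 0, 0, 0, 0, [], []⟩, ⟨0, 0, 0, 0, 0, 0, 0, 0, [], []⟩, ⟨0, 0, 0, 0, 0, 0, 0, 0, [], []⟩, ⟨5, 21,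 23, 3, -1, 1, -1, 1, [-1, -1, 0, 0], [-1, -1, 0, 0]⟩, ⟨0, 0, 0, 0, 0, 0, 0, 0, [], []⟩, ⟨0, 0, 0, 0, 0, 0, 0, 0, [], []⟩, ⟨10, 21, 23, 6, 1, 1, -1, -1, [-1, 1, 0, 0], [-1, 1, 0, 0]⟩, ⟨0, 0, 0, 0, 0, 0, 0, 0, [], []⟩, ⟨0, 0, 0, 0, 0, 0, 0, 0, [], []⟩, ⟨12, 21, 23, 9, 1, 1, -1, -1, [-1, -1, 0, 0], [-1, -1, 0, 0]⟩, ⟨0, 0, 0, 0, 0, 0, 0, 0, [], []⟩],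
  [⟨0, 0, 0, 0, 0, 0, 0, 0, [], []⟩, ⟨3, 10, 14, 0, 1, 1, -1, -1, [-1, -1, 0, 0], [-1, -1, 0, 0]⟩, ⟨0, 0, 0, 0, 0, 0, 0, 0, [], []⟩, ⟨0, 0, 0, 0, 0, 0, 0, 0, [], []⟩, ⟨3, 12, 17, 0, 1, 1, -1, -1, [-1, 1, 0, 0], [-1, 1, 0, 0]⟩, ⟨0, 0, 0, 0, 0, 0, 0, 0, [], []⟩, ⟨0, 0, 0, 0, 0, 0, 0, 0, [], []⟩, ⟨0, 0, 0, 0, 0, 0, 0, 0, [], []⟩, ⟨3, 18, 21, 0, -1, -1, -1, -1, [-1, -1, 0, 0], [-1, -1, 0, 0]⟩, ⟨0, 0, 0, 0, 0, 0, 0, 0, [], []⟩, ⟨0, 0, 0, 0, 0, 0, 0, 0, [], []⟩, ⟨0, 0, 0, 0, 0, 0, 0, 0, [], []⟩, ⟨0, 0, 0, 0, 0, 0, 0, 0, [], []⟩, ⟨0, 0, 0, 0, 0, 0, 0, 0, [], []⟩, ⟨0, 0, 0, 0, 0, 0, 0, 0, [], []⟩, ⟨5, 20, 23, 2, -1, 1, -1, 1, [-1, -1, 0, 0],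 [-1, -1, 0, 0]⟩, ⟨0, 0, 0, 0, 0, 0, 0, 0, [], []⟩, ⟨0, 0, 0, 0, 0, 0, 0, 0, [], []⟩, ⟨0, 0, 0, 0, 0, 0, 0, 0, [], []⟩, ⟨11, 20, 23, 6, 1, 1, -1, -1, [-1, 1, 0, 0], [-1, 1, 0, 0]⟩, ⟨0, 0, 0, 0, 0, 0, 0, 0, [], []⟩, ⟨0, 0, 0, 0, 0, 0, 0, 0, [], []⟩, ⟨13, 20, 23, 9, 1, 1, -1, -1, [-1, -1, 0, 0], [-1, -1, 0, 0]⟩, ⟨0, 0, 0, 0, 0, 0, 0, 0, [], []⟩],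
  [⟨0, 0, 0, 0, 0, 0, 0, 0, [], []⟩, ⟨0, 0, 0, 0, 0, 0, 0, 0, [], []⟩, ⟨4, 10, 15, 0, 1, 1, 1, 1, [0, -1, 0, 0], [0, -1, 0, 0]⟩, ⟨4, 11, 16, 0, 1, 1, 1, 1, [0, -1, 0, 0], [0, -1, 0, 0]⟩, ⟨0, 0, 0, 0, 0, 0, 0, 0, [], []⟩, ⟨0, 0, 0, 0, 0, 0, 0, 0, [], []⟩, ⟨0, 0, 0, 0, 0, 0, 0, 0, [], []⟩, ⟨0, 0, 0, 0, 0, 0, 0, 0, [], []⟩, ⟨0, 0, 0, 0, 0, 0, 0, 0, [], []⟩, ⟨4, 18, 22, 0, -1, -1, 1, 1, [-2, -1, 0, 0], [-1, -1, -1, 0]⟩, ⟨0, 0, 0, 0, 0, 0, 0, 0, [], []⟩, ⟨0, 0, 0, 0, 0, 0, 0, 0, [], []⟩, ⟨0, 0, 0, 0, 0, 0, 0, 0, [], []⟩, ⟨0, 0, 0, 0, 0, 0, 0, 0, [], []⟩, ⟨5, 19, 23, 1, -1, -1, 1, 1, [-2, -1, 0, 0], [-1, -1, -1, 0]⟩, ⟨0, 0, 0, 0, 0, 0, 0,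 0, [], []⟩, ⟨0, 0, 0, 0, 0, 0, 0, 0, [], []⟩, ⟨0, 0, 0, 0, 0, 0, 0, 0, [], []⟩, ⟨0, 0, 0, 0, 0, 0, 0, 0, [], []⟩, ⟨0, 0, 0, 0, 0, 0, 0, 0, [], []⟩, ⟨12, 19, 23, 7, 1, -1, 1, -1, [0, -1, 0, 0], [0, -1, 0, 0]⟩, ⟨13, 19, 23, 8, 1, -1, 1, -1, [0, -1, 0, 0], [0, -1, 0, 0]⟩, ⟨0, 0, 0, 0, 0, 0, 0, 0, [], []⟩, ⟨0, 0, 0, 0, 0, 0, 0, 0, [], []⟩],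
  [⟨6, 4, 9, 1, -1, -1, -1, -1, [-1, 0, 0, 0], [-1, 0, 0, 0]⟩, ⟨0, 0, 0, 0, 0, 0, 0, 0, [], []⟩, ⟨0, 0, 0, 0, 0, 0, 0, 0, [], []⟩, ⟨0, 0, 0, 0, 0, 0, 0, 0, [], []⟩, ⟨0, 0, 0, 0, 0, 0, 0, 0, [], []⟩, ⟨0, 0, 0, 0, 0, 0, 0, 0, [], []⟩, ⟨0, 0, 0, 0, 0, 0, 0, 0, [], []⟩, ⟨0, 0, 0, 0, 0, 0, 0, 0, [], []⟩, ⟨0, 0, 0, 0, 0, 0, 0, 0, [], []⟩, ⟨0, 0, 0, 0, 0, 0, 0, 0, [], []⟩, ⟨6, 15, 20, 1, -1, 1, 1, -1, [-1, 0, 0, 0], [-1, 0, 0, 0]⟩, ⟨6, 16, 21, 1, -1, 1, 1, -1, [-1, 0, 0, 0], [-1, 0, 0, 0]⟩, ⟨7, 17, 22, 2, -1, 1, 1, -1, [-1, 0, 0, 0], [-1, 0, 0, 0]⟩, ⟨8, 17, 22, 3, -1, 1, 1, -1, [-1, 0, 0, 0], [-1, 0, 0, 0]⟩, ⟨0, 0, 0, 0, 0, 0, 0, 0, [], []⟩,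 ⟨0, 0, 0, 0, 0, 0, 0, 0, [], []⟩, ⟨0, 0, 0, 0, 0, 0, 0, 0, [], []⟩, ⟨0, 0, 0, 0, 0, 0, 0, 0, [], []⟩, ⟨0, 0, 0, 0, 0, 0, 0, 0, [], []⟩, ⟨0, 0, 0, 0, 0, 0, 0, 0, [], []⟩, ⟨0, 0, 0, 0, 0, 0, 0, 0, [], []⟩, ⟨0, 0, 0, 0, 0, 0, 0, 0, [], []⟩, ⟨0, 0, 0, 0, 0, 0, 0, 0, [], []⟩, ⟨19, 17, 22, 14, -1, 1, -1, 1, [-1, 0, 0, 0], [-1, 0, 0, 0]⟩],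
  [⟨0, 0, 0, 0, 0, 0, 0, 0, [], []⟩, ⟨6, 5, 14, 0, -1, -1, -1, -1, [-1, -1, 0, 0], [-1, -1, 0, 0]⟩, ⟨0, 0, 0, 0, 0, 0, 0, 0, [], []⟩, ⟨0, 0, 0, 0, 0, 0, 0, 0, [], []⟩, ⟨0, 0, 0, 0, 0, 0, 0, 0, [], []⟩, ⟨0, 0, 0, 0, 0, 0, 0, 0, [], []⟩, ⟨0, 0, 0, 0, 0, 0, 0, 0, [], []⟩, ⟨6, 12, 20, 0, 1, 1, -1, -1, [-1, -1, 0, 0], [-1, -1, 0, 0]⟩, ⟨6, 13, 21, 0, 1, 1, -1, -1, [-1, -1, 0, 0], [-1, -1, 0, 0]⟩, ⟨0, 0, 0, 0, 0, 0, 0, 0, [], []⟩, ⟨0, 0, 0, 0, 0, 0, 0, 0, [], []⟩, ⟨0, 0, 0, 0, 0, 0, 0, 0, [], []⟩, ⟨0, 0, 0, 0, 0, 0, 0, 0, [], []⟩, ⟨0, 0, 0, 0, 0, 0, 0, 0, [], []⟩, ⟨0, 0, 0, 0, 0, 0, 0, 0, [], []⟩, ⟨10, 17, 23, 2, 1, 1, -1, -1, [-1, -1, 0,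 0], [-1, -1, 0, 0]⟩, ⟨11, 17, 23, 3, 1, 1, -1, -1, [-1, -1, 0, 0], [-1, -1, 0, 0]⟩, ⟨0, 0, 0, 0, 0, 0, 0, 0, [], []⟩, ⟨0, 0, 0, 0, 0, 0, 0, 0, [], []⟩, ⟨0, 0, 0, 0, 0, 0, 0, 0, [], []⟩, ⟨0, 0, 0, 0, 0, 0, 0, 0, [], []⟩, ⟨0, 0, 0, 0, 0, 0, 0, 0, [], []⟩, ⟨18, 17, 23, 9, -1, 1, -1, 1, [-1, -1, 0, 0], [-1, -1, 0, 0]⟩, ⟨0, 0, 0, 0, 0, 0, 0, 0, [], []⟩],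
  [⟨0, 0, 0, 0, 0, 0, 0, 0, [], []⟩, ⟨0, 0, 0, 0, 0, 0, 0, 0, [], []⟩, ⟨7, 5, 15, 0, -1, -1, 1, 1, [0, -1, 0, 0], [0, -1, 0, 0]⟩, ⟨0, 0, 0, 0, 0, 0, 0, 0, [], []⟩, ⟨0, 0, 0, 0, 0, 0, 0, 0, [], []⟩, ⟨0, 0, 0, 0, 0, 0, 0, 0, [], []⟩, ⟨7, 11, 19, 0, 1, 1, 1, 1, [0, -1, 0, 0], [0, -1, 0, 0]⟩, ⟨0, 0, 0, 0, 0, 0, 0, 0, [], []⟩, ⟨0, 0, 0, 0, 0, 0, 0, 0, [], []⟩, ⟨7, 13, 22, 0, 1, 1, 1, 1, [-2, -1, 0, 0], [-2, -1, 0, 0]⟩, ⟨0, 0, 0, 0, 0, 0, 0, 0, [], []⟩, ⟨0, 0, 0, 0, 0, 0, 0, 0, [], []⟩, ⟨0, 0, 0, 0, 0, 0, 0, 0, [], []⟩, ⟨0, 0, 0, 0, 0, 0, 0, 0, [], []⟩, ⟨10, 16, 23, 1, 1, -1, 1, -1, [-2, -1, 0, 0], [-2, -1, 0, 0]⟩, ⟨0, 0, 0, 0, 0, 0, 0,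 0, [], []⟩, ⟨0, 0, 0, 0, 0, 0, 0, 0, [], []⟩, ⟨12, 16, 23, 4, 1, -1, 1, -1, [0, -1, 0, 0], [0, -1, 0, 0]⟩, ⟨0, 0, 0, 0, 0, 0, 0, 0, [], []⟩, ⟨0, 0, 0, 0, 0, 0, 0, 0, [], []⟩, ⟨0, 0, 0, 0, 0, 0, 0, 0, [], []⟩, ⟨18, 16, 23, 8, -1, -1, 1, 1, [0, -1, 0, 0], [0, -1, 0, 0]⟩, ⟨0, 0, 0, 0, 0, 0, 0, 0, [], []⟩, ⟨0, 0, 0, 0, 0, 0, 0, 0, [], []⟩],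
  [⟨0, 0, 0, 0, 0, 0, 0, 0, [], []⟩, ⟨0, 0, 0, 0, 0, 0, 0, 0, [], []⟩, ⟨0, 0, 0, 0, 0, 0, 0, 0, [], []⟩, ⟨8, 5, 16, 0, -1, -1, 1, 1, [0, -1, 0, 0], [0, -1, 0, 0]⟩, ⟨0, 0, 0, 0, 0, 0, 0, 0, [], []⟩, ⟨0, 0, 0, 0, 0, 0, 0, 0, [], []⟩, ⟨8, 10, 19, 0, 1, 1, 1, 1, [0, -1, 0, 0], [0, -1, 0, 0]⟩, ⟨0, 0, 0, 0, 0, 0, 0, 0, [], []⟩, ⟨0, 0, 0, 0, 0, 0, 0, 0, [], []⟩, ⟨8, 12, 22, 0, 1, 1, 1, 1, [-2, -1, 0, 0], [-2, -1, 0, 0]⟩, ⟨0, 0, 0, 0, 0, 0, 0, 0, [], []⟩, ⟨0, 0, 0, 0, 0, 0, 0, 0, [], []⟩, ⟨0, 0, 0, 0, 0, 0, 0, 0, [], []⟩, ⟨0, 0, 0, 0, 0, 0, 0, 0, [], []⟩, ⟨11, 15, 23, 1, 1, -1, 1, -1, [-2, -1, 0, 0], [-2, -1, 0, 0]⟩, ⟨0, 0, 0, 0, 0, 0, 0,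 0, [], []⟩, ⟨0, 0, 0, 0, 0, 0, 0, 0, [], []⟩, ⟨13, 15, 23, 4, 1, -1, 1, -1, [0, -1, 0, 0], [0, -1, 0, 0]⟩, ⟨0, 0, 0, 0, 0, 0, 0, 0, [], []⟩, ⟨0, 0, 0, 0, 0, 0, 0, 0, [], []⟩, ⟨18, 15, 23, 7, -1, -1, 1, 1, [0, -1, 0, 0], [0, -1, 0, 0]⟩, ⟨0, 0, 0, 0, 0, 0, 0, 0, [], []⟩, ⟨0, 0, 0, 0, 0, 0, 0, 0, [], []⟩, ⟨0, 0, 0, 0, 0, 0, 0, 0, [], []⟩],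
  [⟨0, 0, 0, 0, 0, 0, 0, 0, [], []⟩, ⟨0, 0, 0, 0, 0, 0, 0, 0, [], []⟩, ⟨0, 0, 0, 0, 0, 0, 0, 0, [], []⟩, ⟨0, 0, 0, 0, 0, 0, 0, 0, [], []⟩, ⟨9, 5, 17, 0, -1, -1, -1, -1, [-1, 1, 0, 0], [0, -1, -1, 0]⟩, ⟨0, 0, 0, 0, 0, 0, 0, 0, [], []⟩, ⟨0, 0, 0, 0, 0, 0, 0, 0, [], []⟩, ⟨9, 10, 20, 0, 1, 1, -1, -1, [-1, -1, 0, 0], [-1, -1, 0, 0]⟩, ⟨9, 11, 21, 0, 1, 1, -1, -1, [-1, -1, 0, 0], [-1, -1, 0, 0]⟩, ⟨0, 0, 0, 0, 0, 0, 0, 0, [], []⟩, ⟨0, 0, 0, 0, 0, 0, 0, 0, [], []⟩, ⟨0, 0, 0, 0, 0, 0, 0, 0, [], []⟩, ⟨0, 0, 0, 0, 0, 0, 0, 0, [], []⟩, ⟨0, 0, 0, 0, 0, 0, 0, 0, [], []⟩, ⟨0, 0, 0, 0, 0, 0, 0, 0, [], []⟩, ⟨12, 14, 23, 2, 1, 1, -1, -1, [-1, -1, 0,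 0], [-1, -1, 0, 0]⟩, ⟨13, 14, 23, 3, 1, 1, -1, -1, [-1, -1, 0, 0], [-1, -1, 0, 0]⟩, ⟨0, 0, 0, 0, 0, 0, 0, 0, [], []⟩, ⟨0, 0, 0, 0, 0, 0, 0, 0, [], []⟩, ⟨18, 14, 23, 6, -1, 1, -1, 1, [-1, 1, 0, 0], [0, -1, -1, 0]⟩, ⟨0, 0, 0, 0, 0, 0, 0, 0, [], []⟩, ⟨0, 0, 0, 0, 0, 0, 0, 0, [], []⟩, ⟨0, 0, 0, 0, 0, 0, 0, 0, [], []⟩, ⟨0, 0, 0, 0, 0, 0, 0, 0, [], []⟩],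
  [⟨0, 0, 0, 0, 0, 0, 0, 0, [], []⟩, ⟨0, 0, 0, 0, 0, 0, 0, 0, [], []⟩, ⟨0, 0, 0, 0, 0, 0, 0, 0, [], []⟩, ⟨0, 0, 0, 0, 0, 0, 0, 0, [], []⟩, ⟨0, 0, 0, 0, 0, 0, 0, 0, [], []⟩, ⟨14, 4, 17, 1, -1, -1, -1, -1, [0, 0, -1, 0], [0, 0, -1, 0]⟩, ⟨0, 0, 0, 0, 0, 0, 0, 0, [], []⟩, ⟨0, 0, 0, 0, 0, 0, 0, 0, [], []⟩, ⟨0, 0, 0, 0, 0, 0, 0, 0, [], []⟩, ⟨0, 0, 0, 0, 0, 0, 0, 0, [], []⟩, ⟨14, 7, 20, 1, 1, -1, 1, -1, [-1, 0, 0, 0], [-1, 0, 0, 0]⟩, ⟨14, 8, 21, 1, 1, -1, 1, -1, [-1, 0, 0, 0], [-1, 0, 0, 0]⟩, ⟨15, 9, 22, 2, 1, 1, 1, 1, [-1, 0, 0, 0], [-1, 0, 0, 0]⟩, ⟨16, 9, 22, 3, 1, 1, 1, 1, [-1, 0, 0, 0], [-1, 0, 0, 0]⟩, ⟨0, 0, 0, 0, 0, 0, 0, 0, [], []⟩,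 ⟨0, 0, 0, 0, 0, 0, 0, 0, [], []⟩, ⟨0, 0, 0, 0, 0, 0, 0, 0, [], []⟩, ⟨0, 0, 0, 0, 0, 0, 0, 0, [], []⟩, ⟨19, 9, 22, 6, -1, 1, -1, 1, [0, 0, -1, 0], [0, 0, -1, 0]⟩, ⟨0, 0, 0, 0, 0, 0, 0, 0, [], []⟩, ⟨0, 0, 0, 0, 0, 0, 0, 0, [], []⟩, ⟨0, 0, 0, 0, 0, 0, 0, 0, [], []⟩, ⟨0, 0, 0, 0, 0, 0, 0, 0, [], []⟩, ⟨0, 0, 0, 0, 0, 0, 0, 0, [], []⟩]]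

def orth (r s : ℕ) : OrthD := (orthL.getD r []).getD s ⟨0, 0, 0, 0, 0, 0, 0, 0, [], []⟩

theorem ok : ∀ r < chevD4.nroots, ∀ s < chevD4.nroots, s ≠ r → s ≠ chevD4.neg r →
    CertOK chevD4 [1, 2] r s (tbl r s) := by decide +kernel

def AltO (r s : ℕ) : Prop := (pairL chevD4 (tbl r s).mu s).natAbs ∈ [1] ∨ OrthOK chevD4 r s (orth r s)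

instance (r s : ℕ) : Decidable (AltO r s) := by unfold AltO; infer_instance

theorem ok' : ∀ r < chevD4.nroots, ∀ s < chevD4.nroots, s ≠ r → s ≠ chevD4.neg r → AltO r s := by decide +kernel

theorem ok1 : ∀ r < chevD4.nroots, pairL chevD4 (mu1 r) r = 1 := by decide +kernel

theorem okd : ∀ r < chevD4.nroots, DecOK chevD4 [1] r r (dec1 r) := by decide +kernel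

theorem hD : Std chevD4 := by simp [Std]

theorem lift {K : Type*} [Field K] (hK : ∃ s : Finset K, 2 < s.card) {E : Type*} [Group E]
    {π : E →* ↥(chevD4.group K)} (hπ : Function.Surjective π) (hc : π.ker ≤ center E) :
    ∃ τ : chevD4.SteinbergCover K →* E, ∀ r t, r < chevD4.nroots → π (τ (chevD4.scGen K r t)) = xq hD r t := by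
  have hself : ∀ r, r < chevD4.nroots → ∀ t u : K, Helper23Un.br hπ (xq hD r t) (xq hD r u) = 1 :=
    fun r hr => br_of_DecOK hD hπ hc (fun e he => one_ne he) hr (okd r hr)
  have hM1 : ∀ m : ℤ, m.natAbs ∈ [1] → ∃ v : Kˣ, v ^ m ≠ 1 := by
    intro m hm
    apply exists_unit_pow_ne (N := 1) hK m
    · rintro rfl; simp at hm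
    · simp only [List.mem_cons, List.not_mem_nil, or_false] at hm
      omega
  by_cases h2 : (2 : K) = 0
  · refine lift_main hD hπ hc [1, 2] (hM_char_two h2 hK) mu1 (fun r hr => by rw [ok1 r hr]; decide) hself tbl
      (fun r s hr hs h1 h2 => Or.inr (ok r hr s hs h1 h2))
  · refine lift_main hD hπ hc [1] hM1 mu1 (fun r hr => by rw [ok1 r hr]; decide) hself tbl ?_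
    intro r s hr hs n1 n2
    rcases ok' r hr s hs n1 n2 with h | h
    · exact Or.inr ((ok r hr s hs n1 n2).mono h)
    · exact Or.inl ⟨h.1.2.2.2, br_of_OrthOK hD hπ hc h2 hM1 hr h⟩

end Cfsg.Agent.Lib.Helper23ToD4
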