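import Cfsg.Agent.Lib.Helper23To7

set_option autoImplicit false
set_option maxRecDepth 1000000

/-! Certificates for type F4 (fields with more than two elements). -/

namespace Cfsg.Agent.Lib.Helper23ToF4

open Subgroup Cfsg.Lie Cfsg.Agent.Lib.Helper23To Cfsg.Agent.Lib.Helper22ChevBasic

def tblL : List (List Cert) := [
  [⟨[], [], []⟩, ⟨[0, 0, -1, 0], [], [3, 2, 1, 2, 0, 1, 2]⟩, ⟨[0, 0, -1, 0], [], [3, 2, 1, 2, 0, 1]⟩, ⟨[-1, 0, 0, 0], [], [1, 2, 3, 0, 1, 2, 1, 0]⟩, ⟨[0, 0, -1, 0], [], [3, 2, 1, 2, 0]⟩, ⟨[0, 0, -1, 0], [], [3, 2, 1, 0]⟩, ⟨[-1, 0, 0, 0], [], [2, 1, 0]⟩, ⟨[-1, 0, 0, 0], [], [1, 2, 3, 0, 1, 2, 1]⟩, ⟨[0, -1, 0, 0], [], [1, 2, 3, 0, 1, 2]⟩, ⟨[0, -1,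 0, 0], [], [1, 2, 3, 0, 1]⟩, ⟨[0, -1, 0, 0], [], [1, 2, 0, 1]⟩, ⟨[-1, 0, 0, 0], [], [1, 2, 3, 0]⟩, ⟨[-1, 0, 0, 0], [], [1, 2, 0]⟩, ⟨[-1, 0, 0, 0], [], [1, 0]⟩, ⟨[0, -1, 0, 0], [], [0]⟩, ⟨[0, 0, -1, 0], [], [3, 2, 1, 2]⟩, ⟨[0, 0, -1, 0], [], [3, 2, 1]⟩, ⟨[-1, 0, 0, 0], [], [2, 1]⟩, ⟨[-1, 0, 0, 0], [], [1, 2, 3]⟩, ⟨[-1, 0, 0, 0], [], [1, 2]⟩, ⟨[-1, 0, 0, 0], [], [1]⟩, ⟨[0, 0, -1, 0], [], [3, 2]⟩, ⟨[0, -1, 0, 0], [], [2]⟩, ⟨[0, 0, -1, 0], [], [3]⟩, ⟨[0, 0, -1, 0], [1], [2, 3, 1, 2, 0, 1, 2, 3, 0, 1, 2]⟩, ⟨[0, -1, 0, 0], [], []⟩, ⟨[0, 0, -1, 0], [2], [2, 3, 1, 2, 0, 1, 2, 3, 0, 1]⟩, ⟨[-1, 0, 0, 0], [], []⟩, ⟨[-1, 0, 0, 0], [], []⟩, ⟨[-1, 0, 0, 0], [3, 6], [3, 2,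 1, 2, 0, 1, 2, 3, 2, 1, 0]⟩, ⟨[-1, 0, 0, 0], [], []⟩, ⟨[0, 0, -1, 0], [4], [2, 3, 1, 2, 0, 1, 2, 3, 0]⟩, ⟨[0, 0, -1, 0], [5], [3, 2, 1, 2, 0, 1, 2, 3]⟩, ⟨[0, -1, 0, 0], [], []⟩, ⟨[-1, 0, 0, 0], [], []⟩, ⟨[-1, 0, 0, 0], [], []⟩, ⟨[-1, 0, 0, 0], [7, 17], [3, 2, 1, 2, 0, 1, 2, 3, 2, 1]⟩, ⟨[0, -1, 0, 0], [], []⟩, ⟨[0, -1, 0, 0], [8, 22], [3, 2, 1, 2, 0, 1, 2, 3, 2]⟩, ⟨[0, -1, 0, 0], [9, 25], [3, 2, 1, 2, 0, 1, 2, 3]⟩, ⟨[-1, 0, 0, 0], [11, 30], [3, 2, 1, 2, 0, 1, 2, 3]⟩, ⟨[-1, 0, 0, 0], [], []⟩, ⟨[0, 0, -1, 0], [15], [2, 3, 1, 2, 0, 1, 2, 3]⟩, ⟨[0, 0, -1, 0], [16], [3, 2, 1, 2, 0, 1, 2, 3]⟩, ⟨[-1, 0, 0, 0], [18, 41], [3, 2, 1, 2, 0, 1, 2, 3]⟩, ⟨[0, 0, -1, 0], [21],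 [3, 2, 1, 2, 0, 1, 2, 3]⟩, ⟨[0, 0, -1, 0], [23], [3, 2, 1, 2, 0, 1, 2, 3]⟩, ⟨[], [], []⟩],
  [⟨[0, 0, -1, -1], [], [3, 2, 1, 2, 0, 1, 2, 3]⟩, ⟨[], [], []⟩, ⟨[0, 0, -1, -1], [], [3, 2, 1, 2, 0, 1]⟩, ⟨[-1, 0, 0, 0], [], [1, 2, 3, 0, 1, 2, 1, 0]⟩, ⟨[0, 0, -1, -1], [], [3, 2, 1, 2, 0]⟩, ⟨[-1, 0, 0, 0], [], [3, 2, 1, 0]⟩, ⟨[0, 0, -1, -1], [], [2, 1, 0]⟩, ⟨[-1, 0, 0, 0], [], [1, 2, 3, 0, 1, 2, 1]⟩, ⟨[0, -1, 0, 0], [], [1, 2, 3, 0, 1, 2]⟩, ⟨[0, -1, 0, 0], [], [1, 2, 3, 0, 1]⟩, ⟨[0, -1, 0, 0], [], [1, 2, 0, 1]⟩, ⟨[-1, 0, 0, 0], [], [1, 2, 3, 0]⟩, ⟨[-1, 0, 0, 0], [], [1, 2, 0]⟩, ⟨[-1, 0, 0, 0], [], [1, 0]⟩, ⟨[0, -1, 0, 0], [], [0]⟩, ⟨[0, 0, -1, -1], [], [3, 2, 1, 2]⟩,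 ⟨[-1, 0, 0, 0], [], [3, 2, 1]⟩, ⟨[0, 0, -1, -1], [], [2, 1]⟩, ⟨[-1, 0, 0, 0], [], [1, 2, 3]⟩, ⟨[-1, 0, 0, 0], [], [1, 2]⟩, ⟨[-1, 0, 0, 0], [], [1]⟩, ⟨[0, -1, 0, 0], [], [3, 2]⟩, ⟨[0, 0, -1, -1], [], [2]⟩, ⟨[0, 0, -1, -1], [0], [2, 3, 2, 1, 2, 0, 1, 2, 3, 0, 1, 2]⟩, ⟨[0, 0, -1, -1], [], []⟩, ⟨[0, 0, -1, -1], [2], [2, 3, 1, 2, 0, 1, 2, 0, 1]⟩, ⟨[0, -1, 0, 0], [], []⟩, ⟨[-1, 0, 0, 0], [], []⟩, ⟨[-1, 0, 0, 0], [3, 5], [2, 1, 2, 3, 2, 0, 1, 2, 1, 0]⟩, ⟨[-1, 0, 0, 0], [], []⟩, ⟨[0, 0, -1, -1], [4], [2, 3, 1, 2, 0, 1, 2, 0]⟩, ⟨[-1, 0, 0, 0], [], []⟩, ⟨[0, 0, -1, -1], [6], [3, 2, 1, 2, 0, 1, 2]⟩, ⟨[0, -1, 0, 0], [], []⟩, ⟨[-1, 0, 0, 0], [], []⟩, ⟨[-1, 0, 0, 0], [7, 16],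 [2, 1, 2, 3, 2, 0, 1, 2, 1]⟩, ⟨[-1, 0, 0, 0], [], []⟩, ⟨[0, -1, 0, 0], [8, 21], [2, 1, 2, 3, 2, 0, 1, 2]⟩, ⟨[0, -1, 0, 0], [], []⟩, ⟨[0, -1, 0, 0], [10, 26], [3, 2, 1, 2, 0, 1, 2]⟩, ⟨[-1, 0, 0, 0], [12, 31], [3, 2, 1, 2, 0, 1, 2]⟩, ⟨[0, 0, -1, -1], [15], [2, 3, 1, 2, 0, 1, 2]⟩, ⟨[-1, 0, 0, 0], [], []⟩, ⟨[0, 0, -1, -1], [17], [3, 2, 1, 2, 0, 1, 2]⟩, ⟨[-1, 0, 0, 0], [19, 42], [3, 2, 1, 2, 0, 1, 2]⟩, ⟨[0, 0, -1, -1], [22], [3, 2, 1, 2, 0, 1, 2]⟩, ⟨[], [], []⟩, ⟨[0, 0, -1, -1], [24], [3, 2, 1, 2, 0, 1, 2]⟩],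
  [⟨[0, 0, 0, -1], [], [3, 2, 1, 2, 0, 1, 2, 3]⟩, ⟨[0, 0, 0, -1], [], [3, 2, 1, 2, 0, 1, 2]⟩, ⟨[], [], []⟩, ⟨[-1, 0, 0, 0], [], [1, 2, 3, 0, 1, 2, 1, 0]⟩, ⟨[-1, 0, 0, 0], [], [3, 2, 1, 2, 0]⟩, ⟨[0, 0, 0, -1], [], [3, 2, 1, 0]⟩, ⟨[0, 0, 0, -1], [], [2, 1, 0]⟩, ⟨[-1, 0, 0, 0], [], [1, 2, 3, 0, 1, 2, 1]⟩, ⟨[0, -1, -2, 0], [], [1, 2, 3, 0, 1, 2]⟩, ⟨[0, 0, 0, -1], [], [1, 2, 3, 0, 1]⟩, ⟨[0, 0, 0, -1], [], [1, 2, 0, 1]⟩, ⟨[-1, 0, 0, 0], [], [1, 2, 3, 0]⟩, ⟨[-1, 0, 0, 0], [], [1, 2, 0]⟩, ⟨[-1, 0, 0, 0], [], [1, 0]⟩, ⟨[0, -1, -2, 0], [], [0]⟩, ⟨[-1, 0, 0, 0], [], [3, 2, 1, 2]⟩, ⟨[0, 0, 0, -1], [], [3, 2, 1]⟩, ⟨[0, 0, 0, -1], [], [2, 1]⟩, ⟨[-1, 0, 0, 0], [], [1, 2, 3]⟩,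 ⟨[-1, 0, 0, 0], [], [1, 2]⟩, ⟨[-1, 0, 0, 0], [], [1]⟩, ⟨[0, 0, 0, -1], [0], [2, 3, 2, 1, 2, 0, 1, 2, 3, 0, 1]⟩, ⟨[0, 0, 0, -1], [1], [2, 3, 2, 1, 2, 0, 1, 2, 0, 1]⟩, ⟨[0, 0, 0, -1], [], [3]⟩, ⟨[0, 0, 0, -1], [], []⟩, ⟨[0, 0, 0, -1], [], []⟩, ⟨[0, 0, 0, -1], [], []⟩, ⟨[-1, 0, 0, 0], [3, 4], [2, 1, 2, 3, 0, 1, 2, 1, 0]⟩, ⟨[-1, 0, 0, 0], [], []⟩, ⟨[-1, 0, 0, 0], [], []⟩, ⟨[0, 0, 0, -1], [5], [2, 3, 1, 2, 0, 1, 0]⟩, ⟨[0, 0, 0, -1], [6], [3, 2, 1, 2, 0, 1]⟩, ⟨[-1, 0, 0, 0], [], []⟩, ⟨[0, -1, -2, 0], [], []⟩, ⟨[-1, 0, 0, 0], [7, 15], [2, 1, 2, 3, 0, 1, 2, 1]⟩, ⟨[-1, 0, 0, 0], [], []⟩, ⟨[-1, 0, 0, 0], [], []⟩, ⟨[0, 0, 0, -1], [9, 23], [2, 1, 2, 3, 2, 0, 1]⟩, ⟨[0, 0,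 0, -1], [10, 24], [3, 2, 1, 2, 0, 1]⟩, ⟨[0, -1, -2, 0], [], []⟩, ⟨[-1, 0, 0, 0], [13, 32], [3, 2, 1, 2, 0, 1]⟩, ⟨[0, 0, 0, -1], [16], [2, 3, 1, 2, 0, 1]⟩, ⟨[0, 0, 0, -1], [17], [3, 2, 1, 2, 0, 1]⟩, ⟨[-1, 0, 0, 0], [], []⟩, ⟨[-1, 0, 0, 0], [20, 43], [3, 2, 1, 2, 0, 1]⟩, ⟨[], [], []⟩, ⟨[0, 0, 0, -1], [25], [3, 2, 1, 2, 0, 1]⟩, ⟨[0, 0, 0, -1], [26], [3, 2, 1, 2, 0, 1]⟩],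
  [⟨[0, 0, 0, -1], [], [3, 2, 1, 2, 0, 1, 2, 3]⟩, ⟨[0, 0, -1, 0], [], [3, 2, 1, 2, 0, 1, 2]⟩, ⟨[0, 0, -1, 0], [], [3, 2, 1, 2, 0, 1]⟩, ⟨[], [], []⟩, ⟨[0, 0, -1, 0], [], [3, 2, 1, 2, 0]⟩, ⟨[0, 0, -1, 0], [], [3, 2, 1, 0]⟩, ⟨[0, 0, 0, -1], [], [2, 1, 0]⟩, ⟨[0, -1, 0, 0], [], [1, 2, 3, 0, 1, 2, 1]⟩, ⟨[0, -1, 0, 0], [], [1, 2, 3, 0, 1, 2]⟩, ⟨[0, -1, 0, 0], [], [1, 2, 3, 0, 1]⟩, ⟨[0, -1, 0, 0], [], [1, 2, 0, 1]⟩, ⟨[0, -1, 0, 0], [], [1, 2, 3, 0]⟩, ⟨[0, -1, 0, 0], [], [1, 2, 0]⟩, ⟨[0, -1, 0, 0], [], [1, 0]⟩, ⟨[0, -1, 0, 0], [], [0]⟩, ⟨[0, 0, -1, 0], [], [3, 2, 1, 2]⟩, ⟨[0, 0, -1, 0], [], [3, 2, 1]⟩, ⟨[0, 0, 0, -1], [], [2, 1]⟩, ⟨[0, 0, 0, -1], [0], [1, 2, 3, 1, 2,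 0, 1, 2, 3, 1, 0]⟩, ⟨[0, 0, -1, 0], [1], [1, 2, 3, 1, 2, 0, 1, 2, 1, 0]⟩, ⟨[0, 0, -1, 0], [2], [1, 2, 3, 0, 1, 2, 0, 1, 0]⟩, ⟨[0, 0, -1, 0], [], [3, 2]⟩, ⟨[0, 0, 0, -1], [], [2]⟩, ⟨[0, 0, -1, 0], [], [3]⟩, ⟨[0, 0, -1, 0], [], []⟩, ⟨[0, 0, 0, -1], [], []⟩, ⟨[0, 0, -1, 0], [], []⟩, ⟨[0, 0, -1, 0], [4], [1, 2, 3, 0, 1, 2, 1, 0]⟩, ⟨[0, 0, -1, 0], [5], [1, 2, 3, 0, 1, 2, 1, 0]⟩, ⟨[0, 0, 0, -1], [6], [1, 2, 3, 0, 1, 2, 1, 0]⟩, ⟨[0, 0, 0, -1], [], []⟩, ⟨[0, 0, -1, 0], [], []⟩, ⟨[0, 0, -1, 0], [], []⟩, ⟨[0, -1, 0, 0], [7], [0, 1, 2, 3, 1, 2, 0, 1, 2, 0, 1]⟩, ⟨[0, -1, 0, 0], [8], [0, 1, 2, 3, 1, 2, 0, 1, 2, 0]⟩, ⟨[0, -1, 0, 0], [9], [0, 1, 2, 3, 1, 2, 0, 1, 0]⟩, ⟨[0,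 -1, 0, 0], [10], [1, 2, 3, 0, 1, 2, 1, 0]⟩, ⟨[0, -1, 0, 0], [11], [0, 1, 2, 3, 1, 2, 1, 0]⟩, ⟨[0, -1, 0, 0], [12], [1, 2, 3, 0, 1, 2, 1, 0]⟩, ⟨[0, -1, 0, 0], [13], [1, 2, 3, 0, 1, 2, 1, 0]⟩, ⟨[0, -1, 0, 0], [14], [1, 2, 3, 0, 1, 2, 1, 0]⟩, ⟨[0, 0, 0, -1], [18, 0], [1, 2, 3, 1, 2, 0, 1, 2, 3, 1, 0]⟩, ⟨[0, 0, -1, 0], [19, 1], [1, 2, 3, 1, 2, 0, 1, 2, 1, 0]⟩, ⟨[0, 0, -1, 0], [20, 2], [1, 2, 3, 0, 1, 2, 0, 1, 0]⟩, ⟨[], [], []⟩, ⟨[0, 0, -1, 0], [27, 4], [1, 2, 3, 0, 1, 2, 1, 0]⟩, ⟨[0, 0, -1, 0], [28, 5], [1, 2, 3, 0, 1, 2, 1, 0]⟩, ⟨[0, 0, 0, -1], [29, 6], [1, 2, 3, 0, 1, 2, 1, 0]⟩],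
  [⟨[0, 0, 0, -1], [], [3, 2, 1, 2, 0, 1, 2, 3]⟩, ⟨[0, 0, 0, -1], [], [3, 2, 1, 2, 0, 1, 2]⟩, ⟨[-1, -1, 0, 0], [], [3, 2, 1, 2, 0, 1]⟩, ⟨[-1, -1, 0, 0], [], [1, 2, 3, 0, 1, 2, 1, 0]⟩, ⟨[], [], []⟩, ⟨[0, 0, 0, -1], [], [3, 2, 1, 0]⟩, ⟨[0, 0, 0, -1], [], [2, 1, 0]⟩, ⟨[-1, 0, 2, 0], [], [1, 2, 3, 0, 1, 2, 1]⟩, ⟨[-1, -1, 0, 0], [], [1, 2, 3, 0, 1, 2]⟩, ⟨[0, 0, 0, -1], [], [1, 2, 3, 0, 1]⟩, ⟨[0, 0, 0, -1], [], [1, 2, 0, 1]⟩, ⟨[0, 0, 0, -1], [], [1, 2, 3, 0]⟩, ⟨[0, 0, 0, -1], [], [1, 2, 0]⟩, ⟨[0, -1, -2, 0], [], [1, 0]⟩, ⟨[-1, -1, 0, 0], [], [0]⟩, ⟨[-1, -1, 0, 0], [], [3, 2, 1, 2]⟩, ⟨[0, 0, 0, -1], [0], [2, 3, 2, 1, 2, 0, 1, 2, 3, 0]⟩, ⟨[0, 0, 0, -1], [1], [2, 3, 2,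 1, 2, 0, 1, 2, 0]⟩, ⟨[0, 0, 0, -1], [], [1, 2, 3]⟩, ⟨[0, 0, 0, -1], [], [1, 2]⟩, ⟨[-1, -1, 0, 0], [3, 2], [2, 1, 2, 3, 0, 1, 2, 0, 1, 0]⟩, ⟨[0, 0, 0, -1], [], [3, 2]⟩, ⟨[0, 0, 0, -1], [], [2]⟩, ⟨[0, 0, 0, -1], [], [3]⟩, ⟨[0, 0, 0, -1], [], []⟩, ⟨[0, 0, 0, -1], [5], [2, 3, 1, 2, 1, 0]⟩, ⟨[0, 0, 0, -1], [6], [3, 2, 1, 2, 0]⟩, ⟨[-1, -1, 0, 0], [], []⟩, ⟨[0, 0, 0, -1], [], []⟩, ⟨[0, 0, 0, -1], [], []⟩, ⟨[0, 0, 0, -1], [], []⟩, ⟨[0, 0, 0, -1], [], []⟩, ⟨[-1, -1, 0, 0], [], []⟩, ⟨[-1, -1, 0, 0], [8, 15], [2, 1, 2, 3, 0, 1, 2]⟩, ⟨[0, -1, -2, 0], [], []⟩, ⟨[0, 0, 0, -1], [11, 23], [2, 1, 2, 3, 2, 0]⟩, ⟨[0, 0, 0, -1], [12, 24], [3, 2, 1, 2, 0]⟩, ⟨[0, 0, 0, -1], [], []⟩,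 ⟨[0, 0, 0, -1], [], []⟩, ⟨[-1, -1, 0, 0], [14, 32], [3, 2, 1, 2, 0]⟩, ⟨[-1, 0, 2, 0], [], []⟩, ⟨[0, 0, 0, -1], [21], [2, 3, 1, 2, 0]⟩, ⟨[0, 0, 0, -1], [22], [3, 2, 1, 2, 0]⟩, ⟨[], [], []⟩, ⟨[-1, -1, 0, 0], [27, 45], [3, 2, 1, 2, 0]⟩, ⟨[-1, -1, 0, 0], [], []⟩, ⟨[0, 0, 0, -1], [30], [3, 2, 1, 2, 0]⟩, ⟨[0, 0, 0, -1], [31], [3, 2, 1, 2, 0]⟩],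
  [⟨[0, 0, -1, -1], [], [3, 2, 1, 2, 0, 1, 2, 3]⟩, ⟨[-1, 0, -2, 0], [], [3, 2, 1, 2, 0, 1, 2]⟩, ⟨[0, 0, -1, -1], [], [3, 2, 1, 2, 0, 1]⟩, ⟨[-1, 0, -2, 0], [], [1, 2, 3, 0, 1, 2, 1, 0]⟩, ⟨[0, 0, -1, -1], [], [3, 2, 1, 2, 0]⟩, ⟨[], [], []⟩, ⟨[0, 0, -1, -1], [], [2, 1, 0]⟩, ⟨[0, -1, 0, 0], [], [1, 2, 3, 0, 1, 2, 1]⟩, ⟨[0, -1, 0, 0], [], [1, 2, 3, 0, 1, 2]⟩, ⟨[0, -1, 0, 0], [], [1, 2, 3, 0, 1]⟩, ⟨[0, -1, 0, 0], [], [1, 2, 0, 1]⟩, ⟨[0, -1, 0, 0], [], [1, 2, 3, 0]⟩, ⟨[0, -1, 0, 0], [], [1, 2, 0]⟩, ⟨[0, -1, 0, 0], [], [1, 0]⟩, ⟨[0, -1, 0, 0], [], [0]⟩, ⟨[0, 0, -1, -1], [0], [2, 3, 2, 1, 2, 0, 1, 2, 3]⟩, ⟨[0, -1, 0, 0], [], [3, 2, 1]⟩, ⟨[0, 0, -1, -1], [2], [2, 3, 2,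 1, 2, 0, 1, 0]⟩, ⟨[0, 0, -1, -1], [], [1, 2, 3]⟩, ⟨[-1, 0, -2, 0], [3, 1], [2, 1, 2, 3, 1, 2, 0, 1, 2, 1, 0]⟩, ⟨[0, 0, -1, -1], [], [1]⟩, ⟨[0, -1, 0, 0], [], [3, 2]⟩, ⟨[0, 0, -1, -1], [4], [2, 3, 2, 1, 2, 1, 0]⟩, ⟨[0, 0, -1, -1], [], [3]⟩, ⟨[0, 0, -1, -1], [6], [3, 2, 1, 0]⟩, ⟨[0, 0, -1, -1], [], []⟩, ⟨[0, -1, 0, 0], [], []⟩, ⟨[0, 0, -1, -1], [], []⟩, ⟨[-1, 0, -2, 0], [], []⟩, ⟨[0, 0, -1, -1], [], []⟩, ⟨[0, 0, -1, -1], [], []⟩, ⟨[0, -1, 0, 0], [], []⟩, ⟨[0, 0, -1, -1], [], []⟩, ⟨[0, -1, 0, 0], [9, 16], [2, 1, 2, 3, 0, 1]⟩, ⟨[0, -1, 0, 0], [11, 21], [2, 1, 2, 3, 0]⟩, ⟨[0, -1, 0, 0], [], []⟩, ⟨[0, -1, 0, 0], [13, 26], [3, 2, 1, 0]⟩, ⟨[0, -1, 0, 0], [], []⟩, ⟨[0,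 -1, 0, 0], [14, 31], [3, 2, 1, 0]⟩, ⟨[0, -1, 0, 0], [], []⟩, ⟨[0, -1, 0, 0], [], []⟩, ⟨[0, 0, -1, -1], [23], [2, 3, 1, 0]⟩, ⟨[], [], []⟩, ⟨[0, 0, -1, -1], [25], [3, 2, 1, 0]⟩, ⟨[-1, 0, -2, 0], [28, 46], [3, 2, 1, 0]⟩, ⟨[0, 0, -1, -1], [30], [3, 2, 1, 0]⟩, ⟨[-1, 0, -2, 0], [], []⟩, ⟨[0, 0, -1, -1], [32], [3, 2, 1, 0]⟩],
  [⟨[-1, 0, 0, -2], [], [3, 2, 1, 2, 0, 1, 2, 3]⟩, ⟨[0, 0, -1, 0], [], [3, 2, 1, 2, 0, 1, 2]⟩, ⟨[0, 0, -1, 0], [], [3, 2, 1, 2, 0, 1]⟩, ⟨[-1, 0, 0, -2], [], [1, 2, 3, 0, 1, 2, 1, 0]⟩, ⟨[0, 0, -1, 0], [], [3, 2, 1, 2, 0]⟩, ⟨[0, 0, -1, 0], [], [3, 2, 1, 0]⟩, ⟨[], [], []⟩, ⟨[0, -1, 0, 0], [], [1, 2, 3, 0, 1, 2, 1]⟩, ⟨[0, -1, 0, 0], [], [1, 2, 3, 0,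 1, 2]⟩, ⟨[0, -1, 0, 0], [], [1, 2, 3, 0, 1]⟩, ⟨[0, -1, 0, 0], [], [1, 2, 0, 1]⟩, ⟨[0, -1, 0, 0], [], [1, 2, 3, 0]⟩, ⟨[0, -1, 0, 0], [], [1, 2, 0]⟩, ⟨[0, -1, 0, 0], [], [1, 0]⟩, ⟨[0, -1, 0, 0], [], [0]⟩, ⟨[0, 0, -1, 0], [1], [2, 3, 2, 1, 2, 0, 1, 2]⟩, ⟨[0, 0, -1, 0], [2], [2, 3, 2, 1, 2, 0, 1]⟩, ⟨[0, -1, 0, 0], [], [2, 1]⟩, ⟨[-1, 0, 0, -2], [3, 0], [1, 2, 3, 1, 2, 0, 1, 2, 3, 2, 1, 0]⟩, ⟨[0, 0, -1, 0], [], [1, 2]⟩, ⟨[0, 0, -1, 0], [], [1]⟩, ⟨[0, 0, -1, 0], [4], [2, 3, 2, 1, 2, 0]⟩, ⟨[0, -1, 0, 0], [], [2]⟩, ⟨[0, 0, -1, 0], [5], [2, 3, 2, 1, 0]⟩, ⟨[0, 0, -1, 0], [], []⟩, ⟨[0, -1, 0, 0], [], []⟩, ⟨[0, 0, -1, 0], [], []⟩, ⟨[0, 0, -1, 0], [], []⟩, ⟨[0, 0, -1, 0],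 [], []⟩, ⟨[-1, 0, 0, -2], [], []⟩, ⟨[0, -1, 0, 0], [], []⟩, ⟨[0, 0, -1, 0], [], []⟩, ⟨[0, 0, -1, 0], [], []⟩, ⟨[0, -1, 0, 0], [10, 17], [2, 1, 2, 0, 1]⟩, ⟨[0, -1, 0, 0], [12, 22], [2, 1, 2, 0]⟩, ⟨[0, -1, 0, 0], [13, 25], [2, 1, 0]⟩, ⟨[0, -1, 0, 0], [], []⟩, ⟨[0, -1, 0, 0], [14, 30], [2, 1, 0]⟩, ⟨[0, -1, 0, 0], [], []⟩, ⟨[0, -1, 0, 0], [], []⟩, ⟨[0, -1, 0, 0], [], []⟩, ⟨[], [], []⟩, ⟨[0, 0, -1, 0], [24], [2, 1, 0]⟩, ⟨[0, 0, -1, 0], [26], [2, 1, 0]⟩, ⟨[-1, 0, 0, -2], [29, 47], [2, 1, 0]⟩, ⟨[0, 0, -1, 0], [31], [2, 1, 0]⟩, ⟨[0, 0, -1, 0], [32], [2, 1, 0]⟩, ⟨[-1, 0, 0, -2], [], []⟩],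
  [⟨[0, 0, 0, -1], [], [3, 2, 1, 2, 0, 1, 2, 3]⟩, ⟨[0, 0, -1, 0], [], [3, 2, 1, 2, 0, 1, 2]⟩, ⟨[0, 0, -1, 0], [], [3, 2, 1, 2, 0, 1]⟩, ⟨[-1, -1, 0, 0], [], [1, 2, 3, 0, 1, 2, 1, 0]⟩, ⟨[0, 0, -1, 0], [], [3, 2, 1, 2, 0]⟩, ⟨[0, 0, -1, 0], [], [3, 2, 1, 0]⟩, ⟨[0, 0, 0, -1], [], [2, 1, 0]⟩, ⟨[], [], []⟩, ⟨[0, 0, -1, 0], [], [1, 2, 3, 0, 1, 2]⟩, ⟨[0, 0, -1, 0], [], [1, 2, 3, 0, 1]⟩, ⟨[0, 0, 0, -1], [], [1, 2, 0, 1]⟩, ⟨[0, 0, 0, -1], [0], [1, 2, 3, 1, 2, 0, 1, 2, 3, 1]⟩, ⟨[0, 0, -1, 0], [1], [1, 2, 3, 1, 2, 0, 1, 2, 1]⟩, ⟨[0, 0, -1, 0], [2], [1, 2, 3, 0, 1, 2, 0, 1]⟩, ⟨[-1, -1, 0, 0], [3], [0, 1, 2, 3, 1, 2, 0, 1, 2, 0, 1, 0]⟩, ⟨[0, 0, -1, 0], [], [3, 2, 1, 2]⟩, ⟨[0,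 0, -1, 0], [], [3, 2, 1]⟩, ⟨[0, 0, 0, -1], [], [2, 1]⟩, ⟨[0, 0, 0, -1], [], [1, 2, 3]⟩, ⟨[0, 0, -1, 0], [], [1, 2]⟩, ⟨[0, 0, -1, 0], [], [1]⟩, ⟨[0, 0, -1, 0], [], [3, 2]⟩, ⟨[0, 0, 0, -1], [], [2]⟩, ⟨[0, 0, -1, 0], [], [3]⟩, ⟨[0, 0, -1, 0], [], []⟩, ⟨[0, 0, 0, -1], [], []⟩, ⟨[0, 0, -1, 0], [], []⟩, ⟨[0, 0, -1, 0], [8], [0, 1, 2, 3, 1, 2, 0, 1, 2]⟩, ⟨[0, 0, -1, 0], [9], [0, 1, 2, 3, 1, 2, 0, 1]⟩, ⟨[0, 0, 0, -1], [10], [1, 2, 3, 0, 1, 2, 1]⟩, ⟨[0, 0, 0, -1], [11, 0], [1, 2, 3, 1, 2, 0, 1, 2, 3, 1]⟩, ⟨[0, 0, -1, 0], [12, 1], [1, 2, 3, 1, 2, 0, 1, 2, 1]⟩, ⟨[0, 0, -1, 0], [13, 2], [1, 2, 3, 0, 1, 2, 0, 1]⟩, ⟨[-1, -1, 0, 0], [], []⟩, ⟨[0, 0, -1, 0], [15], [1, 2, 3,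 0, 1, 2, 1]⟩, ⟨[0, 0, -1, 0], [16], [1, 2, 3, 0, 1, 2, 1]⟩, ⟨[0, 0, 0, -1], [17], [1, 2, 3, 0, 1, 2, 1]⟩, ⟨[0, 0, 0, -1], [18], [0, 1, 2, 3, 1, 2, 1]⟩, ⟨[0, 0, -1, 0], [19], [1, 2, 3, 0, 1, 2, 1]⟩, ⟨[0, 0, -1, 0], [20], [1, 2, 3, 0, 1, 2, 1]⟩, ⟨[], [], []⟩, ⟨[0, 0, 0, -1], [], []⟩, ⟨[0, 0, -1, 0], [], []⟩, ⟨[0, 0, -1, 0], [], []⟩, ⟨[-1, -1, 0, 0], [33], [1, 2, 3, 0, 1, 2, 1]⟩, ⟨[0, 0, -1, 0], [34, 15], [1, 2, 3, 0, 1, 2, 1]⟩, ⟨[0, 0, -1, 0], [35, 16], [1, 2, 3, 0, 1, 2, 1]⟩, ⟨[0, 0, 0, -1], [36, 17], [1, 2, 3, 0, 1, 2, 1]⟩],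
  [⟨[0, 0, 0, -1], [], [3, 2, 1, 2, 0, 1, 2, 3]⟩, ⟨[0, 0, 0, -1], [], [3, 2, 1, 2, 0, 1, 2]⟩, ⟨[0, -1, -1, 0], [], [3, 2, 1, 2, 0, 1]⟩, ⟨[-1, 0, 0, 0], [], [1, 2, 3, 0, 1, 2, 1, 0]⟩, ⟨[0, -1, -1, 0], [], [3, 2, 1, 2, 0]⟩, ⟨[0, 0, 0, -1], [], [3, 2, 1, 0]⟩, ⟨[0, 0, 0, -1], [], [2, 1, 0]⟩, ⟨[-1, 0, 0, 0], [], [1, 2, 3, 0, 1, 2, 1]⟩, ⟨[], [], []⟩, ⟨[0, 0, 0, -1], [0], [1, 2, 3, 1, 2, 0, 1, 2, 3]⟩, ⟨[0, 0, 0, -1], [1], [1, 2, 3, 1, 2, 0, 1, 2]⟩, ⟨[-1, 0, 0, 0], [], [1, 2, 3, 0]⟩, ⟨[-1, 0, 0, 0], [], [1, 2, 0]⟩, ⟨[-1, 0, 0, 0], [3], [0, 1, 2, 3, 1, 2, 0, 1, 2, 1, 0]⟩, ⟨[0, -1, -1, 0], [4], [1, 2, 3, 0, 1, 2, 0]⟩, ⟨[0, -1, -1, 0], [], [3, 2, 1, 2]⟩, ⟨[0, 0, 0, -1],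 [], [3, 2, 1]⟩, ⟨[0, 0, 0, -1], [], [2, 1]⟩, ⟨[-1, 0, 0, 0], [], [1, 2, 3]⟩, ⟨[-1, 0, 0, 0], [], [1, 2]⟩, ⟨[-1, 0, 0, 0], [7], [0, 1, 2, 3, 1, 2, 0, 1, 2, 1]⟩, ⟨[0, 0, 0, -1], [], [3, 2]⟩, ⟨[0, 0, 0, -1], [], [2]⟩, ⟨[0, -1, -1, 0], [], [3]⟩, ⟨[0, -1, -1, 0], [], []⟩, ⟨[0, 0, 0, -1], [9, 0], [1, 2, 3, 1, 2, 0, 1, 2, 3]⟩, ⟨[0, 0, 0, -1], [10, 1], [1, 2, 3, 1, 2, 0, 1, 2]⟩, ⟨[-1, 0, 0, 0], [], []⟩, ⟨[-1, 0, 0, 0], [11], [0, 1, 2, 3, 1, 2, 0]⟩, ⟨[-1, 0, 0, 0], [12], [1, 2, 3, 0, 1, 2]⟩, ⟨[0, 0, 0, -1], [], []⟩, ⟨[0, 0, 0, -1], [], []⟩, ⟨[0, -1, -1, 0], [14, 4], [1, 2, 3, 0, 1, 2, 0]⟩, ⟨[0, -1, -1, 0], [15], [1, 2, 3, 0, 1, 2]⟩, ⟨[-1, 0, 0, 0], [], []⟩, ⟨[-1, 0, 0,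 0], [18], [0, 1, 2, 3, 1, 2]⟩, ⟨[-1, 0, 0, 0], [19], [1, 2, 3, 0, 1, 2]⟩, ⟨[0, 0, 0, -1], [21], [1, 2, 3, 0, 1, 2]⟩, ⟨[0, 0, 0, -1], [22], [1, 2, 3, 0, 1, 2]⟩, ⟨[], [], []⟩, ⟨[-1, 0, 0, 0], [27], [1, 2, 3, 0, 1, 2]⟩, ⟨[0, 0, 0, -1], [], []⟩, ⟨[0, 0, 0, -1], [], []⟩, ⟨[0, -1, -1, 0], [33, 15], [1, 2, 3, 0, 1, 2]⟩, ⟨[-1, 0, 0, 0], [34], [1, 2, 3, 0, 1, 2]⟩, ⟨[0, -1, -1, 0], [], []⟩, ⟨[0, 0, 0, -1], [37, 21], [1, 2, 3, 0, 1, 2]⟩, ⟨[0, 0, 0, -1], [38, 22], [1, 2, 3, 0, 1, 2]⟩],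
  [⟨[0, -1, 0, 1], [], [3, 2, 1, 2, 0, 1, 2, 3]⟩, ⟨[0, -1, -1, 0], [], [3, 2, 1, 2, 0, 1, 2]⟩, ⟨[0, -1, -1, 0], [], [3, 2, 1, 2, 0, 1]⟩, ⟨[-1, 0, 0, 0], [], [1, 2, 3, 0, 1, 2, 1, 0]⟩, ⟨[0, -1, -1, 0], [], [3, 2, 1, 2, 0]⟩, ⟨[0, -1, -1, 0], [], [3, 2, 1, 0]⟩, ⟨[0, -1, 0, 1], [], [2, 1, 0]⟩, ⟨[-1, 0, 0, 0], [], [1, 2, 3, 0, 1, 2, 1]⟩, ⟨[0, -1, 0, 1], [0], [1, 2, 3, 1, 2, 0, 1, 2, 3]⟩, ⟨[], [], []⟩, ⟨[0, -1, -1, 0], [2], [1, 2, 3, 1, 2, 0, 1]⟩, ⟨[-1, 0, 0, 0], [], [1, 2, 3, 0]⟩, ⟨[-1, 0, 0, 0], [3], [0, 1, 2, 3, 0, 1, 2, 0, 1, 0]⟩, ⟨[-1, 0, 0, 0], [], [1, 0]⟩, ⟨[0, -1, -1, 0], [5], [1, 2, 3, 0, 1, 0]⟩, ⟨[0, -1, -1, 0], [], [3, 2, 1, 2]⟩, ⟨[0, -1, -1, 0], [], [3,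 2, 1]⟩, ⟨[0, 0, -1, -1], [], [2, 1]⟩, ⟨[-1, 0, 0, 0], [], [1, 2, 3]⟩, ⟨[-1, 0, 0, 0], [7], [0, 1, 2, 3, 0, 1, 2, 0, 1]⟩, ⟨[-1, 0, 0, 0], [], [1]⟩, ⟨[0, -1, -1, 0], [], [3, 2]⟩, ⟨[0, -1, 0, 1], [8, 0], [1, 2, 3, 1, 2, 0, 1, 2, 3, 2]⟩, ⟨[0, -1, -1, 0], [], [3]⟩, ⟨[0, -1, -1, 0], [10, 2], [1, 2, 3, 1, 2, 0, 1]⟩, ⟨[0, -1, 0, 1], [], []⟩, ⟨[0, -1, -1, 0], [], []⟩, ⟨[-1, 0, 0, 0], [11], [0, 1, 2, 3, 1, 0]⟩, ⟨[-1, 0, 0, 0], [], []⟩, ⟨[-1, 0, 0, 0], [13], [1, 2, 3, 0, 1]⟩, ⟨[0, 0, -1, -1], [], []⟩, ⟨[0, -1, -1, 0], [14, 5], [1, 2, 3, 0, 1, 0]⟩, ⟨[0, -1, -1, 0], [], []⟩, ⟨[0, -1, -1, 0], [16], [1, 2, 3, 0, 1]⟩, ⟨[-1, 0, 0, 0], [18], [0, 1, 2, 3, 1]⟩, ⟨[-1, 0, 0, 0], [],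 []⟩, ⟨[-1, 0, 0, 0], [20], [1, 2, 3, 0, 1]⟩, ⟨[0, -1, -1, 0], [23], [1, 2, 3, 0, 1]⟩, ⟨[], [], []⟩, ⟨[0, -1, 0, 1], [25], [1, 2, 3, 0, 1]⟩, ⟨[-1, 0, 0, 0], [28], [1, 2, 3, 0, 1]⟩, ⟨[0, -1, 0, 1], [], []⟩, ⟨[0, -1, -1, 0], [33, 16], [1, 2, 3, 0, 1]⟩, ⟨[0, -1, -1, 0], [], []⟩, ⟨[-1, 0, 0, 0], [35], [1, 2, 3, 0, 1]⟩, ⟨[0, -1, -1, 0], [37, 23], [1, 2, 3, 0, 1]⟩, ⟨[0, -1, -1, 0], [], []⟩, ⟨[0, -1, 0, 1], [39, 25], [1, 2, 3, 0, 1]⟩],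
  [⟨[0, -1, 0, -1], [], [3, 2, 1, 2, 0, 1, 2, 3]⟩, ⟨[0, 0, -1, 0], [], [3, 2, 1, 2, 0, 1, 2]⟩, ⟨[0, 0, -1, 0], [], [3, 2, 1, 2, 0, 1]⟩, ⟨[-1, 0, 0, 0], [], [1, 2, 3, 0, 1, 2, 1, 0]⟩, ⟨[0, 0, -1, 0], [], [3, 2, 1, 2, 0]⟩, ⟨[0, 0, -1, 0], [], [3, 2, 1, 0]⟩, ⟨[0, -1, 0, -1], [], [2, 1, 0]⟩, ⟨[-1, 0, 0, 0], [], [1, 2, 3, 0, 1, 2, 1]⟩, ⟨[0, 0, -1, 0], [1], [1, 2, 3, 1, 2, 0, 1, 2]⟩, ⟨[0, 0, -1, 0], [2], [1, 2, 3, 1, 2, 0, 1]⟩, ⟨[], [], []⟩, ⟨[-1, 0, 0, 0], [3], [0, 1, 2, 3, 0, 1, 2, 1, 0]⟩, ⟨[-1, 0, 0, 0], [], [1, 2, 0]⟩, ⟨[-1, 0, 0, 0], [], [1, 0]⟩, ⟨[0, -1, 0, -1], [6], [1, 2, 0, 1, 0]⟩, ⟨[0, 0, -1, 0], [], [3, 2, 1, 2]⟩, ⟨[0, 0, -1, 0], [], [3, 2, 1]⟩, ⟨[0, -1,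 0, -1], [], [2, 1]⟩, ⟨[-1, 0, 0, 0], [7], [0, 1, 2, 3, 0, 1, 2, 1]⟩, ⟨[-1, 0, 0, 0], [], [1, 2]⟩, ⟨[-1, 0, 0, 0], [], [1]⟩, ⟨[0, 0, -1, 0], [8, 1], [2, 1, 2, 3, 1, 2, 0, 1, 2]⟩, ⟨[0, -1, -1, -1], [], [2]⟩, ⟨[0, 0, -1, 0], [9, 2], [2, 1, 2, 3, 1, 2, 0, 1]⟩, ⟨[0, 0, -1, 0], [], []⟩, ⟨[0, -1, -1, -1], [], []⟩, ⟨[0, 0, -1, 0], [], []⟩, ⟨[-1, 0, 0, 0], [12], [0, 1, 2, 1, 0]⟩, ⟨[-1, 0, 0, 0], [13], [1, 2, 0, 1]⟩, ⟨[-1, 0, 0, 0], [], []⟩, ⟨[0, -1, 0, -1], [14, 6], [1, 2, 0, 1, 0]⟩, ⟨[0, 0, -1, 0], [], []⟩, ⟨[0, 0, -1, 0], [], []⟩, ⟨[0, -1, 0, -1], [17], [1, 2, 0, 1]⟩, ⟨[-1, 0, 0, 0], [19], [0, 1, 2, 1]⟩, ⟨[-1, 0, 0, 0], [20], [1, 2, 0, 1]⟩, ⟨[-1, 0, 0, 0], [], []⟩,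 ⟨[], [], []⟩, ⟨[0, 0, -1, 0], [24], [1, 2, 0, 1]⟩, ⟨[0, 0, -1, 0], [26], [1, 2, 0, 1]⟩, ⟨[-1, 0, 0, 0], [29], [1, 2, 0, 1]⟩, ⟨[0, -1, 0, -1], [33, 17], [1, 2, 0, 1]⟩, ⟨[0, 0, -1, 0], [], []⟩, ⟨[0, 0, -1, 0], [], []⟩, ⟨[-1, 0, 0, 0], [36], [1, 2, 0, 1]⟩, ⟨[0, 0, -1, 0], [38, 24], [1, 2, 0, 1]⟩, ⟨[0, 0, -1, 0], [39, 26], [1, 2, 0, 1]⟩, ⟨[0, -1, 0, -1], [], []⟩],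
  [⟨[-1, 0, 0, 1], [], [3, 2, 1, 2, 0, 1, 2, 3]⟩, ⟨[0, 0, -1, 0], [], [3, 2, 1, 2, 0, 1, 2]⟩, ⟨[0, 0, -1, 0], [], [3, 2, 1, 2, 0, 1]⟩, ⟨[-1, -1, 0, 0], [], [1, 2, 3, 0, 1, 2, 1, 0]⟩, ⟨[0, 0, -1, 0], [], [3, 2, 1, 2, 0]⟩, ⟨[0, 0, -1, 0], [], [3, 2, 1, 0]⟩, ⟨[0, -1, 0, -1], [], [2, 1, 0]⟩, ⟨[-1, 0, 0, 1], [0], [1, 2, 3, 1, 2, 0, 1, 2, 3, 1]⟩, ⟨[0, 0, -1, 0], [], [1, 2, 3, 0, 1, 2]⟩, ⟨[0, 0, -1, 0], [], [1, 2, 3, 0, 1]⟩, ⟨[-1, -1, 0, 0], [3], [0, 1, 2, 3, 0, 1, 2, 1, 0]⟩, ⟨[], [], []⟩, ⟨[0, 0, -1, 0], [4], [1, 2, 3, 1, 2, 0]⟩, ⟨[0, 0, -1, 0], [5], [1, 2, 3, 1, 0]⟩, ⟨[-1, -1, 0, 0], [], [0]⟩, ⟨[0, 0, -1, 0], [], [3, 2, 1, 2]⟩, ⟨[0, 0, -1, 0], [], [3, 2, 1]⟩, ⟨[-1,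 0, 0, 1], [7, 0], [1, 2, 3, 1, 2, 0, 1, 2, 3, 2, 1]⟩, ⟨[-1, -1, 0, 0], [], [1, 2, 3]⟩, ⟨[0, 0, -1, 0], [8], [0, 1, 2, 3, 0, 1, 2, 0]⟩, ⟨[0, 0, -1, 0], [9], [0, 1, 2, 3, 0, 1, 0]⟩, ⟨[0, 0, -1, 0], [], [3, 2]⟩, ⟨[-1, 0, 0, 1], [], [2]⟩, ⟨[0, 0, -1, 0], [], [3]⟩, ⟨[0, 0, -1, 0], [12, 4], [1, 2, 3, 1, 2, 0]⟩, ⟨[-1, 0, 0, 1], [], []⟩, ⟨[0, 0, -1, 0], [13, 5], [1, 2, 3, 1, 0]⟩, ⟨[0, 0, -1, 0], [], []⟩, ⟨[0, 0, -1, 0], [], []⟩, ⟨[-1, -1, 0, 0], [14], [1, 2, 3, 0]⟩, ⟨[-1, 0, 0, 1], [], []⟩, ⟨[0, 0, -1, 0], [], []⟩, ⟨[0, 0, -1, 0], [], []⟩, ⟨[-1, -1, 0, 0], [18], [0, 1, 2, 3]⟩, ⟨[0, 0, -1, 0], [21], [1, 2, 3, 0]⟩, ⟨[0, 0, -1, 0], [23], [1, 2, 3, 0]⟩, ⟨[], [], []⟩, ⟨[-1,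 -1, 0, 0], [], []⟩, ⟨[0, 0, -1, 0], [27], [1, 2, 3, 0]⟩, ⟨[0, 0, -1, 0], [28], [1, 2, 3, 0]⟩, ⟨[-1, 0, 0, 1], [30], [1, 2, 3, 0]⟩, ⟨[0, -1, 0, -1], [], []⟩, ⟨[0, 0, -1, 0], [34, 21], [1, 2, 3, 0]⟩, ⟨[0, 0, -1, 0], [35, 23], [1, 2, 3, 0]⟩, ⟨[-1, -1, 0, 0], [37], [1, 2, 3, 0]⟩, ⟨[0, 0, -1, 0], [], []⟩, ⟨[0, 0, -1, 0], [], []⟩, ⟨[-1, 0, 0, 1], [40, 30], [1, 2, 3, 0]⟩],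
  [⟨[-1, 0, 0, -1], [], [3, 2, 1, 2, 0, 1, 2, 3]⟩, ⟨[-1, 0, 0, -1], [], [3, 2, 1, 2, 0, 1, 2]⟩, ⟨[-1, 0, 1, 0], [], [3, 2, 1, 2, 0, 1]⟩, ⟨[-1, -1, 0, 0], [], [1, 2, 3, 0, 1, 2, 1, 0]⟩, ⟨[-1, 0, 1, 0], [], [3, 2, 1, 2, 0]⟩, ⟨[0, -1, -1, 0], [], [3, 2, 1, 0]⟩, ⟨[-1, 0, 0, -1], [], [2, 1, 0]⟩, ⟨[-1, 0, 0, -1], [1], [1, 2, 3, 1, 2, 0, 1, 2, 1]⟩, ⟨[-1, -1, 0, 0], [], [1, 2, 3, 0, 1, 2]⟩, ⟨[-1, -1, 0, 0], [3], [0, 1, 2, 3, 0, 1, 2, 0, 1, 0]⟩, ⟨[-1, -1, 0, 0], [], [1, 2, 0, 1]⟩, ⟨[-1, 0, 1, 0], [4], [1, 2, 3, 1, 2, 0]⟩, ⟨[], [], []⟩, ⟨[-1, 0, 0, -1], [6], [1, 2, 1, 0]⟩, ⟨[-1, -1, 0, 0], [], [0]⟩, ⟨[0, -1, -1, 0], [], [3, 2, 1, 2]⟩, ⟨[-1, 0, 0, -1], [7, 1], [2, 1, 2,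 3, 1, 2, 0, 1, 2, 1]⟩, ⟨[0, 0, -1, -1], [], [2, 1]⟩, ⟨[-1, -1, 0, 0], [8], [0, 1, 2, 3, 0, 1, 2]⟩, ⟨[-1, -1, 0, 0], [], [1, 2]⟩, ⟨[-1, -1, 0, 0], [10], [0, 1, 2, 0, 1, 0]⟩, ⟨[-1, 0, 0, -1], [], [3, 2]⟩, ⟨[-1, 0, 0, -1], [], [2]⟩, ⟨[-1, 0, 1, 0], [11, 4], [2, 1, 2, 3, 1, 2, 0]⟩, ⟨[-1, 0, 1, 0], [], []⟩, ⟨[-1, 0, 0, -1], [13, 6], [1, 2, 1, 0]⟩, ⟨[-1, 0, 0, -1], [], []⟩, ⟨[-1, -1, 0, 0], [], []⟩, ⟨[-1, -1, 0, 0], [14], [1, 2, 0]⟩, ⟨[-1, -1, 0, 0], [], []⟩, ⟨[0, 0, -1, -1], [], []⟩, ⟨[-1, 0, 0, -1], [], []⟩, ⟨[0, -1, -1, 0], [], []⟩, ⟨[-1, -1, 0, 0], [19], [0, 1, 2]⟩, ⟨[-1, 0, 0, -1], [22], [1, 2, 0]⟩, ⟨[], [], []⟩, ⟨[-1, 0, 1, 0], [24], [1, 2, 0]⟩, ⟨[-1, -1, 0,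 0], [27], [1, 2, 0]⟩, ⟨[-1, -1, 0, 0], [], []⟩, ⟨[-1, -1, 0, 0], [29], [1, 2, 0]⟩, ⟨[-1, 0, 0, -1], [31], [1, 2, 0]⟩, ⟨[-1, 0, 0, -1], [34, 22], [1, 2, 0]⟩, ⟨[0, -1, -1, 0], [], []⟩, ⟨[-1, 0, 1, 0], [36, 24], [1, 2, 0]⟩, ⟨[-1, -1, 0, 0], [38], [1, 2, 0]⟩, ⟨[-1, 0, 1, 0], [], []⟩, ⟨[-1, 0, 0, -1], [40, 31], [1, 2, 0]⟩, ⟨[-1, 0, 0, -1], [], []⟩],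
  [⟨[0, 0, 0, -1], [], [3, 2, 1, 2, 0, 1, 2, 3]⟩, ⟨[0, 0, 0, -1], [], [3, 2, 1, 2, 0, 1, 2]⟩, ⟨[-1, 0, -1, 0], [], [3, 2, 1, 2, 0, 1]⟩, ⟨[-1, 0, -1, 0], [], [1, 2, 3, 0, 1, 2, 1, 0]⟩, ⟨[0, -1, -1, 0], [], [3, 2, 1, 2, 0]⟩, ⟨[0, 0, 0, -1], [], [3, 2, 1, 0]⟩, ⟨[0, 0, 0, -1], [], [2, 1, 0]⟩, ⟨[-1, 0, -1, 0], [2], [1, 2, 3, 0, 1, 2, 0, 1]⟩, ⟨[-1, 0, -1, 0], [3], [0, 1, 2, 3, 1, 2, 0, 1, 2, 1, 0]⟩, ⟨[0, 0, 0, -1], [], [1, 2, 3, 0, 1]⟩, ⟨[0, 0, 0, -1], [], [1, 2, 0, 1]⟩, ⟨[0, 0, 0, -1], [5], [1, 2, 3, 1, 0]⟩, ⟨[0, 0, 0, -1], [6], [1, 2, 1, 0]⟩, ⟨[], [], []⟩, ⟨[0, -1, -1, 0], [], [0]⟩, ⟨[-1, 0, -1, 0], [7, 2], [2, 1, 2, 3, 0, 1, 2, 0, 1]⟩, ⟨[0, 0, 0, -1], [], [3, 2,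 1]⟩, ⟨[0, 0, 0, -1], [], [2, 1]⟩, ⟨[0, 0, 0, -1], [9], [0, 1, 2, 3, 0, 1]⟩, ⟨[0, 0, 0, -1], [10], [0, 1, 2, 0, 1]⟩, ⟨[0, -1, -1, 0], [], [1]⟩, ⟨[0, 0, 0, -1], [11, 5], [2, 1, 2, 3, 1, 0]⟩, ⟨[0, 0, 0, -1], [12, 6], [2, 1, 2, 1, 0]⟩, ⟨[-1, 0, -1, 0], [], [3]⟩, ⟨[-1, 0, -1, 0], [], []⟩, ⟨[0, 0, 0, -1], [], []⟩, ⟨[0, 0, 0, -1], [], []⟩, ⟨[0, -1, -1, 0], [14], [1, 0]⟩, ⟨[0, 0, 0, -1], [], []⟩, ⟨[0, 0, 0, -1], [], []⟩, ⟨[0, 0, 0, -1], [], []⟩, ⟨[0, 0, 0, -1], [], []⟩, ⟨[-1, 0, -1, 0], [], []⟩, ⟨[0, -1, -1, 0], [20], [0, 1]⟩, ⟨[], [], []⟩, ⟨[0, 0, 0, -1], [25], [1, 0]⟩, ⟨[0, 0, 0, -1], [26], [1, 0]⟩, ⟨[0, 0, 0, -1], [28], [1, 0]⟩, ⟨[0, 0, 0, -1], [29], [1, 0]⟩, ⟨[-1,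 0, -1, 0], [], []⟩, ⟨[-1, 0, -1, 0], [32], [1, 0]⟩, ⟨[0, 0, 0, -1], [35, 25], [1, 0]⟩, ⟨[0, 0, 0, -1], [36, 26], [1, 0]⟩, ⟨[0, -1, -1, 0], [], []⟩, ⟨[-1, 0, -1, 0], [39], [1, 0]⟩, ⟨[-1, 0, -1, 0], [40, 32], [1, 0]⟩, ⟨[0, 0, 0, -1], [], []⟩, ⟨[0, 0, 0, -1], [], []⟩],
  [⟨[0, 0, 0, -1], [], [3, 2, 1, 2, 0, 1, 2, 3]⟩, ⟨[0, 0, -1, 0], [], [3, 2, 1, 2, 0, 1, 2]⟩, ⟨[0, 0, -1, 0], [], [3, 2, 1, 2, 0, 1]⟩, ⟨[-1, -2, 0, 0], [], [1, 2, 3, 0, 1, 2, 1, 0]⟩, ⟨[0, 0, -1, 0], [], [3, 2, 1, 2, 0]⟩, ⟨[0, 0, -1, 0], [], [3, 2, 1, 0]⟩, ⟨[0, 0, 0, -1], [], [2, 1, 0]⟩, ⟨[-1, -2, 0, 0], [3], [0, 1, 2, 3, 1, 2, 0, 1, 2, 0, 1, 0]⟩, ⟨[0, 0, -1, 0], [4], [1, 2, 3, 0, 1, 2, 0]⟩, ⟨[0, 0,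 -1, 0], [5], [1, 2, 3, 0, 1, 0]⟩, ⟨[0, 0, 0, -1], [6], [1, 2, 0, 1, 0]⟩, ⟨[0, 0, 0, -1], [], [1, 2, 3, 0]⟩, ⟨[0, 0, -1, 0], [], [1, 2, 0]⟩, ⟨[0, 0, -1, 0], [], [1, 0]⟩, ⟨[], [], []⟩, ⟨[0, 0, -1, 0], [8, 4], [2, 1, 2, 3, 0, 1, 2, 0]⟩, ⟨[0, 0, -1, 0], [9, 5], [2, 1, 2, 3, 0, 1, 0]⟩, ⟨[0, 0, 0, -1], [10, 6], [2, 1, 2, 0, 1, 0]⟩, ⟨[0, 0, 0, -1], [11], [0, 1, 2, 3, 0]⟩, ⟨[0, 0, -1, 0], [12], [0, 1, 2, 0]⟩, ⟨[0, 0, -1, 0], [13], [0, 1, 0]⟩, ⟨[0, 0, -1, 0], [], [3, 2]⟩, ⟨[0, 0, 0, -1], [], [2]⟩, ⟨[0, 0, -1, 0], [], [3]⟩, ⟨[0, 0, -1, 0], [], []⟩, ⟨[0, 0, 0, -1], [], []⟩, ⟨[0, 0, -1, 0], [], []⟩, ⟨[0, 0, -1, 0], [], []⟩, ⟨[0, 0, -1, 0], [], []⟩, ⟨[0, 0, 0, -1], [], []⟩,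 ⟨[0, 0, 0, -1], [], []⟩, ⟨[0, 0, -1, 0], [], []⟩, ⟨[0, 0, -1, 0], [], []⟩, ⟨[], [], []⟩, ⟨[0, 0, -1, 0], [27], [0]⟩, ⟨[0, 0, -1, 0], [28], [0]⟩, ⟨[0, 0, 0, -1], [29], [0]⟩, ⟨[0, 0, 0, -1], [30], [0]⟩, ⟨[0, 0, -1, 0], [31], [0]⟩, ⟨[0, 0, -1, 0], [32], [0]⟩, ⟨[-1, -2, 0, 0], [], []⟩, ⟨[0, 0, 0, -1], [37, 30], [0]⟩, ⟨[0, 0, -1, 0], [38, 31], [0]⟩, ⟨[0, 0, -1, 0], [39, 32], [0]⟩, ⟨[-1, -2, 0, 0], [40], [0]⟩, ⟨[0, 0, -1, 0], [], []⟩, ⟨[0, 0, -1, 0], [], []⟩, ⟨[0, 0, 0, -1], [], []⟩],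
  [⟨[0, 0, 0, -1], [], [3, 2, 1, 2, 0, 1, 2, 3]⟩, ⟨[0, 0, 0, -1], [], [3, 2, 1, 2, 0, 1, 2]⟩, ⟨[0, -1, 0, 0], [], [3, 2, 1, 2, 0, 1]⟩, ⟨[-1, 0, -2, 0], [], [1, 2, 3, 0, 1, 2, 1, 0]⟩, ⟨[0, -1, 0, 0], [], [3, 2, 1, 2, 0]⟩, ⟨[0, 0, 0, -1], [0], [2, 3, 2, 1, 2, 0, 1, 2, 3]⟩, ⟨[0, 0, 0, -1], [1], [2, 3, 2, 1, 2, 0, 1, 2]⟩, ⟨[0, -1, 0, 0], [], [1, 2, 3, 0, 1, 2, 1]⟩, ⟨[0, -1, 0, 0], [], [1, 2, 3, 0, 1, 2]⟩, ⟨[0, -1, 0, 0], [], [1, 2, 3, 0, 1]⟩, ⟨[0, -1, 0, 0], [], [1, 2, 0, 1]⟩, ⟨[0, -1, 0, 0], [], [1, 2, 3, 0]⟩, ⟨[0, -1, 0, 0], [], [1, 2, 0]⟩, ⟨[0, -1, 0, 0], [7, 2], [2, 1, 2, 3, 0, 1, 2, 0, 1]⟩, ⟨[0, -1, 0, 0], [8, 4], [2, 1, 2, 3, 0, 1, 2, 0]⟩, ⟨[], [], []⟩, ⟨[0,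 0, 0, -1], [], [3, 2, 1]⟩, ⟨[0, 0, 0, -1], [], [2, 1]⟩, ⟨[0, 0, 0, -1], [], [1, 2, 3]⟩, ⟨[0, 0, 0, -1], [], [1, 2]⟩, ⟨[-1, -1, -2, 0], [], [1]⟩, ⟨[0, 0, 0, -1], [], [3, 2]⟩, ⟨[0, 0, 0, -1], [], [2]⟩, ⟨[0, 0, 0, -1], [], [3]⟩, ⟨[0, 0, 0, -1], [], []⟩, ⟨[0, 0, 0, -1], [16], [2, 3, 1, 2, 1]⟩, ⟨[0, 0, 0, -1], [17], [3, 2, 1, 2]⟩, ⟨[-1, -1, -2, 0], [], []⟩, ⟨[0, 0, 0, -1], [18, 23], [2, 1, 2, 3, 2]⟩, ⟨[0, 0, 0, -1], [19, 24], [3, 2, 1, 2]⟩, ⟨[0, 0, 0, -1], [21], [2, 3, 1, 2]⟩, ⟨[0, 0, 0, -1], [22], [3, 2, 1, 2]⟩, ⟨[], [], []⟩, ⟨[0, -1, 0, 0], [], []⟩, ⟨[0, -1, 0, 0], [], []⟩, ⟨[0, -1, 0, 0], [], []⟩, ⟨[0, -1, 0, 0], [], []⟩, ⟨[0, -1, 0, 0], [], []⟩, ⟨[0, -1, 0, 0],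 [], []⟩, ⟨[0, -1, 0, 0], [33, 43], [3, 2, 1, 2]⟩, ⟨[0, -1, 0, 0], [34, 45], [3, 2, 1, 2]⟩, ⟨[0, 0, 0, -1], [], []⟩, ⟨[0, 0, 0, -1], [], []⟩, ⟨[0, -1, 0, 0], [], []⟩, ⟨[-1, 0, -2, 0], [], []⟩, ⟨[0, -1, 0, 0], [], []⟩, ⟨[0, 0, 0, -1], [41], [3, 2, 1, 2]⟩, ⟨[0, 0, 0, -1], [42], [3, 2, 1, 2]⟩],
  [⟨[0, 0, -1, -1], [], [3, 2, 1, 2, 0, 1, 2, 3]⟩, ⟨[-1, 0, 0, -2], [], [3, 2, 1, 2, 0, 1, 2]⟩, ⟨[0, 0, -1, -1], [], [3, 2, 1, 2, 0, 1]⟩, ⟨[-1, -1, 0, 0], [], [1, 2, 3, 0, 1, 2, 1, 0]⟩, ⟨[0, 0, -1, -1], [0], [2, 3, 2, 1, 2, 0, 1, 2, 3, 0]⟩, ⟨[-1, -1, 0, 0], [], [3, 2, 1, 0]⟩, ⟨[0, 0, -1, -1], [2], [2, 3, 2, 1, 2, 0, 1]⟩, ⟨[-1, 0, 0, -2], [], [1, 2, 3, 0, 1, 2, 1]⟩, ⟨[-1, -1,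 0, 0], [], [1, 2, 3, 0, 1, 2]⟩, ⟨[-1, -1, 0, 0], [], [1, 2, 3, 0, 1]⟩, ⟨[-1, -1, 0, 0], [], [1, 2, 0, 1]⟩, ⟨[0, 0, -1, -1], [], [1, 2, 3, 0]⟩, ⟨[-1, 0, 0, -2], [7, 1], [2, 1, 2, 3, 1, 2, 0, 1, 2, 1]⟩, ⟨[0, 0, -1, -1], [], [1, 0]⟩, ⟨[-1, -1, 0, 0], [9, 5], [2, 1, 2, 3, 0, 1, 0]⟩, ⟨[0, 0, -1, -1], [], [3, 2, 1, 2]⟩, ⟨[], [], []⟩, ⟨[0, 0, -1, -1], [], [2, 1]⟩, ⟨[-1, -1, 0, 0], [], [1, 2, 3]⟩, ⟨[-1, -1, 0, 0], [], [1, 2]⟩, ⟨[-1, -1, 0, 0], [], [1]⟩, ⟨[-1, -1, 0, 0], [], [3, 2]⟩, ⟨[0, 0, -1, -1], [15], [2, 3, 2, 1, 2, 1]⟩, ⟨[0, 0, -1, -1], [], [3]⟩, ⟨[0, 0, -1, -1], [17], [3, 2, 1]⟩, ⟨[0, 0, -1, -1], [], []⟩, ⟨[-1, -1, 0, 0], [], []⟩, ⟨[-1, -1, 0, 0], [18, 21], [2,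 1, 2, 3]⟩, ⟨[-1, -1, 0, 0], [], []⟩, ⟨[-1, -1, 0, 0], [20, 26], [3, 2, 1]⟩, ⟨[0, 0, -1, -1], [23], [2, 3, 1]⟩, ⟨[], [], []⟩, ⟨[0, 0, -1, -1], [25], [3, 2, 1]⟩, ⟨[-1, -1, 0, 0], [], []⟩, ⟨[0, 0, -1, -1], [], []⟩, ⟨[-1, 0, 0, -2], [], []⟩, ⟨[0, 0, -1, -1], [], []⟩, ⟨[-1, -1, 0, 0], [], []⟩, ⟨[-1, -1, 0, 0], [33, 42], [3, 2, 1]⟩, ⟨[-1, -1, 0, 0], [], []⟩, ⟨[-1, 0, 0, -2], [35, 46], [3, 2, 1]⟩, ⟨[0, 0, -1, -1], [], []⟩, ⟨[-1, -1, 0, 0], [], []⟩, ⟨[0, 0, -1, -1], [], []⟩, ⟨[-1, -1, 0, 0], [], []⟩, ⟨[0, 0, -1, -1], [41], [3, 2, 1]⟩, ⟨[-1, 0, 0, -2], [], []⟩, ⟨[0, 0, -1, -1], [43], [3, 2, 1]⟩],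
  [⟨[-1, 0, 0, 2], [], [3, 2, 1, 2, 0, 1, 2, 3]⟩, ⟨[0, 0, -1, 0], [], [3, 2, 1, 2, 0, 1, 2]⟩, ⟨[0, 0, -1, 0], [], [3, 2, 1, 2, 0, 1]⟩, ⟨[-1, -1, 0, 0], [], [1, 2, 3, 0, 1, 2, 1, 0]⟩, ⟨[0, 0, -1, 0], [1], [2, 3, 2, 1, 2, 0, 1, 2, 0]⟩, ⟨[0, 0, -1, 0], [2], [2, 3, 2, 1, 2, 0, 1, 0]⟩, ⟨[-1, -1, 0, 0], [], [2, 1, 0]⟩, ⟨[-1, 0, 0, 2], [], [1, 2, 3, 0, 1, 2, 1]⟩, ⟨[0, 0, -1, 0], [], [1, 2, 3, 0, 1, 2]⟩, ⟨[0, 0, -1, 0], [], [1, 2, 3, 0, 1]⟩, ⟨[-1, -1, 0, 0], [], [1, 2, 0, 1]⟩, ⟨[-1, 0, 0, 2], [7, 0], [1, 2, 3, 1, 2, 0, 1, 2, 3, 2, 1]⟩, ⟨[0, 0, -1, 0], [], [1, 2, 0]⟩, ⟨[0, 0, -1, 0], [], [1, 0]⟩, ⟨[-1, -1, 0, 0], [10, 6], [2, 1, 2, 0, 1, 0]⟩, ⟨[0, 0, -1, 0], [], [3, 2,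 1, 2]⟩, ⟨[0, 0, -1, 0], [], [3, 2, 1]⟩, ⟨[], [], []⟩, ⟨[-1, -1, 0, 0], [], [1, 2, 3]⟩, ⟨[0, 0, -1, 0], [], [1, 2]⟩, ⟨[0, 0, -1, 0], [], [1]⟩, ⟨[0, 0, -1, 0], [15], [2, 3, 2, 1, 2]⟩, ⟨[0, 0, -1, 0], [], [2]⟩, ⟨[0, 0, -1, 0], [16], [2, 3, 2, 1]⟩, ⟨[0, 0, -1, 0], [], []⟩, ⟨[0, 0, -1, 0], [], []⟩, ⟨[0, 0, -1, 0], [], []⟩, ⟨[0, 0, -1, 0], [19, 22], [2, 1, 2]⟩, ⟨[0, 0, -1, 0], [20, 25], [2, 1]⟩, ⟨[-1, -1, 0, 0], [], []⟩, ⟨[], [], []⟩, ⟨[0, 0, -1, 0], [24], [2, 1]⟩, ⟨[0, 0, -1, 0], [26], [2, 1]⟩, ⟨[-1, -1, 0, 0], [], []⟩, ⟨[0, 0, -1, 0], [], []⟩, ⟨[0, 0, -1, 0], [], []⟩, ⟨[-1, 0, 0, 2], [], []⟩, ⟨[-1, -1, 0, 0], [33, 41], [2, 1]⟩, ⟨[0, 0, -1, 0], [], []⟩, ⟨[0, 0, -1,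 0], [], []⟩, ⟨[-1, 0, 0, 2], [36, 47], [2, 1]⟩, ⟨[-1, -1, 0, 0], [], []⟩, ⟨[0, 0, -1, 0], [], []⟩, ⟨[0, 0, -1, 0], [], []⟩, ⟨[-1, -1, 0, 0], [], []⟩, ⟨[0, 0, -1, 0], [42], [2, 1]⟩, ⟨[0, 0, -1, 0], [43], [2, 1]⟩, ⟨[-1, 0, 0, 2], [], []⟩],
  [⟨[-1, 0, 0, -1], [], [3, 2, 1, 2, 0, 1, 2, 3]⟩, ⟨[0, 0, -1, 0], [], [3, 2, 1, 2, 0, 1, 2]⟩, ⟨[0, 0, -1, 0], [], [3, 2, 1, 2, 0, 1]⟩, ⟨[-1, 0, 0, -1], [0], [1, 2, 3, 1, 2, 0, 1, 2, 3, 1, 0]⟩, ⟨[0, 0, -1, 0], [], [3, 2, 1, 2, 0]⟩, ⟨[0, 0, -1, 0], [], [3, 2, 1, 0]⟩, ⟨[-1, 0, 0, -1], [3, 0], [1, 2, 3, 1, 2, 0, 1, 2, 3, 2, 1, 0]⟩, ⟨[0, -1, 0, 0], [], [1, 2, 3, 0, 1, 2, 1]⟩, ⟨[0, -1, 0, 0], [], [1, 2, 3, 0, 1, 2]⟩, ⟨[0, -1, 0, 0],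 [], [1, 2, 3, 0, 1]⟩, ⟨[0, -1, 0, 0], [7], [0, 1, 2, 3, 0, 1, 2, 1]⟩, ⟨[0, -1, 0, 0], [], [1, 2, 3, 0]⟩, ⟨[0, -1, 0, 0], [8], [0, 1, 2, 3, 0, 1, 2]⟩, ⟨[0, -1, 0, 0], [9], [0, 1, 2, 3, 0, 1]⟩, ⟨[0, -1, 0, 0], [11], [0, 1, 2, 3, 0]⟩, ⟨[0, 0, -1, 0], [], [3, 2, 1, 2]⟩, ⟨[0, 0, -1, 0], [], [3, 2, 1]⟩, ⟨[-1, -1, 0, -1], [], [2, 1]⟩, ⟨[], [], []⟩, ⟨[0, 0, -1, 0], [15], [1, 2, 3, 1, 2]⟩, ⟨[0, 0, -1, 0], [16], [1, 2, 3, 1]⟩, ⟨[0, 0, -1, 0], [], [3, 2]⟩, ⟨[-1, 0, 0, -1], [], [2]⟩, ⟨[0, 0, -1, 0], [], [3]⟩, ⟨[0, 0, -1, 0], [19, 15], [1, 2, 3, 1, 2]⟩, ⟨[-1, 0, 0, -1], [], []⟩, ⟨[0, 0, -1, 0], [20, 16], [1, 2, 3, 1]⟩, ⟨[0, 0, -1, 0], [21], [1, 2, 3]⟩, ⟨[0, 0, -1, 0], [23],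 [1, 2, 3]⟩, ⟨[], [], []⟩, ⟨[-1, -1, 0, -1], [], []⟩, ⟨[0, 0, -1, 0], [27, 21], [1, 2, 3]⟩, ⟨[0, 0, -1, 0], [28, 23], [1, 2, 3]⟩, ⟨[0, -1, 0, 0], [], []⟩, ⟨[0, -1, 0, 0], [], []⟩, ⟨[0, -1, 0, 0], [], []⟩, ⟨[0, -1, 0, 0], [33], [1, 2, 3]⟩, ⟨[0, -1, 0, 0], [], []⟩, ⟨[0, -1, 0, 0], [34], [1, 2, 3]⟩, ⟨[0, -1, 0, 0], [35], [1, 2, 3]⟩, ⟨[0, -1, 0, 0], [37], [1, 2, 3]⟩, ⟨[-1, 0, 0, -1], [], []⟩, ⟨[0, 0, -1, 0], [], []⟩, ⟨[0, 0, -1, 0], [], []⟩, ⟨[-1, 0, 0, -1], [41], [1, 2, 3]⟩, ⟨[0, 0, -1, 0], [], []⟩, ⟨[0, 0, -1, 0], [], []⟩, ⟨[-1, 0, 0, -1], [44, 41], [1, 2, 3]⟩],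
  [⟨[-1, 0, 0, 1], [], [3, 2, 1, 2, 0, 1, 2, 3]⟩, ⟨[-1, 0, -1, 0], [], [3, 2, 1, 2, 0, 1, 2]⟩, ⟨[-1, 0, -1, 0], [], [3, 2, 1, 2, 0, 1]⟩, ⟨[-1, 0, -1, 0], [1], [1, 2, 3, 1, 2, 0, 1, 2, 1, 0]⟩, ⟨[0, 0, -1, -1], [], [3, 2, 1, 2, 0]⟩, ⟨[-1, 0, -1, 0], [3, 1], [2, 1, 2, 3, 1, 2, 0, 1, 2, 1, 0]⟩, ⟨[0, 0, -1, -1], [], [2, 1, 0]⟩, ⟨[0, -1, 0, 0], [], [1, 2, 3, 0, 1, 2, 1]⟩, ⟨[0, -1, 0, 0], [], [1, 2, 3, 0, 1, 2]⟩, ⟨[0, -1, 0, 0], [7], [0, 1, 2, 3, 0, 1, 2, 0, 1]⟩, ⟨[0, -1, 0, 0], [], [1, 2, 0, 1]⟩, ⟨[0, -1, 0, 0], [8], [0, 1, 2, 3, 0, 1, 2, 0]⟩, ⟨[0, -1, 0, 0], [], [1, 2, 0]⟩, ⟨[0, -1, 0, 0], [10], [0, 1, 2, 0, 1]⟩, ⟨[0, -1, 0, 0], [12], [0, 1, 2, 0]⟩, ⟨[-1, 0, -1, 0],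 [], [3, 2, 1, 2]⟩, ⟨[-1, -1, -1, 0], [], [3, 2, 1]⟩, ⟨[-1, 0, 0, 1], [], [2, 1]⟩, ⟨[-1, 0, -1, 0], [15], [1, 2, 3, 1, 2]⟩, ⟨[], [], []⟩, ⟨[-1, 0, 0, 1], [17], [1, 2, 1]⟩, ⟨[-1, 0, -1, 0], [], [3, 2]⟩, ⟨[-1, 0, 0, 1], [], [2]⟩, ⟨[-1, 0, -1, 0], [18, 15], [2, 1, 2, 3, 1, 2]⟩, ⟨[-1, 0, -1, 0], [], []⟩, ⟨[-1, 0, 0, 1], [20, 17], [1, 2, 1]⟩, ⟨[-1, 0, -1, 0], [], []⟩, ⟨[-1, 0, 0, 1], [22], [1, 2]⟩, ⟨[], [], []⟩, ⟨[-1, 0, -1, 0], [24], [1, 2]⟩, ⟨[-1, 0, 0, 1], [27, 22], [1, 2]⟩, ⟨[-1, -1, -1, 0], [], []⟩, ⟨[-1, 0, -1, 0], [29, 24], [1, 2]⟩, ⟨[0, -1, 0, 0], [], []⟩, ⟨[0, -1, 0, 0], [], []⟩, ⟨[0, -1, 0, 0], [33], [1, 2]⟩, ⟨[0, -1, 0, 0], [], []⟩, ⟨[0, -1, 0, 0], [34],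 [1, 2]⟩, ⟨[0, -1, 0, 0], [], []⟩, ⟨[0, -1, 0, 0], [36], [1, 2]⟩, ⟨[0, -1, 0, 0], [38], [1, 2]⟩, ⟨[0, 0, -1, -1], [], []⟩, ⟨[-1, 0, -1, 0], [], []⟩, ⟨[0, 0, -1, -1], [], []⟩, ⟨[-1, 0, -1, 0], [42], [1, 2]⟩, ⟨[-1, 0, -1, 0], [], []⟩, ⟨[-1, 0, -1, 0], [44, 42], [1, 2]⟩, ⟨[-1, 0, 0, 1], [], []⟩],
  [⟨[0, 0, 0, -1], [], [3, 2, 1, 2, 0, 1, 2, 3]⟩, ⟨[0, 0, 0, -1], [], [3, 2, 1, 2, 0, 1, 2]⟩, ⟨[-1, 0, 1, 0], [], [3, 2, 1, 2, 0, 1]⟩, ⟨[-1, 0, 1, 0], [2], [1, 2, 3, 0, 1, 2, 0, 1, 0]⟩, ⟨[-1, 0, 1, 0], [3, 2], [2, 1, 2, 3, 0, 1, 2, 0, 1, 0]⟩, ⟨[0, 0, 0, -1], [], [3, 2, 1, 0]⟩, ⟨[0, 0, 0, -1], [], [2, 1, 0]⟩, ⟨[-1, 0, 1, 0], [], [1, 2, 3, 0, 1, 2, 1]⟩, ⟨[-1, 0, 1, 0], [7],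 [0, 1, 2, 3, 1, 2, 0, 1, 2, 1]⟩, ⟨[0, 0, 0, -1], [], [1, 2, 3, 0, 1]⟩, ⟨[0, 0, 0, -1], [], [1, 2, 0, 1]⟩, ⟨[0, 0, 0, -1], [9], [0, 1, 2, 3, 0, 1, 0]⟩, ⟨[0, 0, 0, -1], [10], [0, 1, 2, 0, 1, 0]⟩, ⟨[-1, -1, -1, 0], [], [1, 0]⟩, ⟨[-1, -1, -1, 0], [13], [0, 1, 0]⟩, ⟨[-1, -1, -1, 0], [], [3, 2, 1, 2]⟩, ⟨[0, 0, 0, -1], [], [3, 2, 1]⟩, ⟨[0, 0, 0, -1], [], [2, 1]⟩, ⟨[0, 0, 0, -1], [16], [1, 2, 3, 1]⟩, ⟨[0, 0, 0, -1], [17], [1, 2, 1]⟩, ⟨[], [], []⟩, ⟨[0, 0, 0, -1], [18, 16], [2, 1, 2, 3, 1]⟩, ⟨[0, 0, 0, -1], [19, 17], [2, 1, 2, 1]⟩, ⟨[-1, 0, 1, 0], [], [3]⟩, ⟨[-1, 0, 1, 0], [], []⟩, ⟨[0, 0, 0, -1], [], []⟩, ⟨[0, 0, 0, -1], [], []⟩, ⟨[], [], []⟩, ⟨[0, 0, 0, -1], [25], [1]⟩,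 ⟨[0, 0, 0, -1], [26], [1]⟩, ⟨[0, 0, 0, -1], [28, 25], [1]⟩, ⟨[0, 0, 0, -1], [29, 26], [1]⟩, ⟨[-1, -1, -1, 0], [], []⟩, ⟨[-1, -1, -1, 0], [], []⟩, ⟨[-1, -1, -1, 0], [33], [1]⟩, ⟨[0, 0, 0, -1], [], []⟩, ⟨[0, 0, 0, -1], [], []⟩, ⟨[0, 0, 0, -1], [35], [1]⟩, ⟨[0, 0, 0, -1], [36], [1]⟩, ⟨[-1, 0, 1, 0], [], []⟩, ⟨[-1, 0, 1, 0], [39], [1]⟩, ⟨[0, 0, 0, -1], [], []⟩, ⟨[0, 0, 0, -1], [], []⟩, ⟨[-1, 0, 1, 0], [], []⟩, ⟨[-1, 0, 1, 0], [43], [1]⟩, ⟨[-1, 0, 1, 0], [44, 43], [1]⟩, ⟨[0, 0, 0, -1], [], []⟩, ⟨[0, 0, 0, -1], [], []⟩],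
  [⟨[0, 0, -1, 1], [], [3, 2, 1, 2, 0, 1, 2, 3]⟩, ⟨[0, 0, -1, 1], [], [3, 2, 1, 2, 0, 1, 2]⟩, ⟨[0, 0, -1, 1], [0], [2, 3, 2, 1, 2, 0, 1, 2, 3, 0, 1]⟩, ⟨[-1, 0, 0, 0], [], [1, 2, 3, 0, 1, 2, 1, 0]⟩, ⟨[0, 0, -1, 1], [], [3, 2, 1, 2, 0]⟩, ⟨[-1, 0, 0, 0], [], [3, 2, 1, 0]⟩, ⟨[0, 0, -1, 1], [4], [2, 3, 2, 1, 2, 0]⟩, ⟨[-1, 0, 0, 0], [], [1, 2, 3, 0, 1, 2, 1]⟩, ⟨[0, 0, -1, 1], [], [1, 2, 3, 0, 1, 2]⟩, ⟨[0, -1, -2, 0], [], [1, 2, 3, 0, 1]⟩, ⟨[0, 0, -1, 1], [8, 1], [2, 1, 2, 3, 1, 2, 0, 1, 2]⟩, ⟨[-1, 0, 0, 0], [], [1, 2, 3, 0]⟩, ⟨[-1, 0, 0, 0], [], [1, 2, 0]⟩, ⟨[-1, 0, 0, 0], [11, 5], [2, 1, 2, 3, 1, 0]⟩, ⟨[0, -1, -2, 0], [], [0]⟩, ⟨[0, 0, -1, 1], [], [3, 2, 1, 2]⟩, ⟨[-1,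 0, 0, 0], [], [3, 2, 1]⟩, ⟨[0, 0, -1, 1], [15], [2, 3, 2, 1, 2]⟩, ⟨[-1, 0, 0, 0], [], [1, 2, 3]⟩, ⟨[-1, 0, 0, 0], [], [1, 2]⟩, ⟨[-1, 0, 0, 0], [18, 16], [2, 1, 2, 3, 1]⟩, ⟨[], [], []⟩, ⟨[0, -1, -1, -1], [], [2]⟩, ⟨[0, -1, -1, -1], [], [3]⟩, ⟨[0, -1, -1, -1], [22], [3, 2]⟩, ⟨[0, -1, -1, -1], [23], [2, 3]⟩, ⟨[], [], []⟩, ⟨[-1, 0, 0, 0], [], []⟩, ⟨[-1, 0, 0, 0], [], []⟩, ⟨[-1, 0, 0, 0], [27, 31], [3, 2]⟩, ⟨[0, 0, -1, 1], [], []⟩, ⟨[-1, 0, 0, 0], [], []⟩, ⟨[0, 0, -1, 1], [30], [3, 2]⟩, ⟨[0, -1, -2, 0], [], []⟩, ⟨[-1, 0, 0, 0], [], []⟩, ⟨[-1, 0, 0, 0], [], []⟩, ⟨[-1, 0, 0, 0], [34, 42], [3, 2]⟩, ⟨[0, 0, -1, 1], [], []⟩, ⟨[0, -1, -2, 0], [], []⟩, ⟨[0, 0, -1, 1], [37,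 46], [3, 2]⟩, ⟨[-1, 0, 0, 0], [], []⟩, ⟨[0, 0, -1, 1], [], []⟩, ⟨[-1, 0, 0, 0], [], []⟩, ⟨[0, 0, -1, 1], [41], [3, 2]⟩, ⟨[-1, 0, 0, 0], [], []⟩, ⟨[0, 0, -1, 1], [], []⟩, ⟨[0, 0, -1, 1], [], []⟩, ⟨[0, 0, -1, 1], [45], [3, 2]⟩],
  [⟨[0, -1, 0, 2], [], [3, 2, 1, 2, 0, 1, 2, 3]⟩, ⟨[0, -1, -1, 0], [], [3, 2, 1, 2, 0, 1, 2]⟩, ⟨[0, -1, -1, 0], [1], [2, 3, 2, 1, 2, 0, 1, 2, 0, 1]⟩, ⟨[-1, 0, 0, 0], [], [1, 2, 3, 0, 1, 2, 1, 0]⟩, ⟨[0, -1, -1, 0], [], [3, 2, 1, 2, 0]⟩, ⟨[0, -1, -1, 0], [4], [2, 3, 2, 1, 2, 1, 0]⟩, ⟨[-1, 0, 0, 0], [], [2, 1, 0]⟩, ⟨[-1, 0, 0, 0], [], [1, 2, 3, 0, 1, 2, 1]⟩, ⟨[0, -1, 0, 2], [], [1, 2, 3, 0, 1, 2]⟩, ⟨[0, -1, 0, 2], [8, 0], [1, 2, 3, 1, 2, 0,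 1, 2, 3, 2]⟩, ⟨[0, -1, -1, 0], [], [1, 2, 0, 1]⟩, ⟨[-1, 0, 0, 0], [], [1, 2, 3, 0]⟩, ⟨[-1, 0, 0, 0], [], [1, 2, 0]⟩, ⟨[-1, 0, 0, 0], [12, 6], [2, 1, 2, 1, 0]⟩, ⟨[0, -1, -1, 0], [], [0]⟩, ⟨[0, -1, -1, 0], [], [3, 2, 1, 2]⟩, ⟨[0, -1, -1, 0], [15], [2, 3, 2, 1, 2, 1]⟩, ⟨[-1, 0, 0, 0], [], [2, 1]⟩, ⟨[-1, 0, 0, 0], [], [1, 2, 3]⟩, ⟨[-1, 0, 0, 0], [], [1, 2]⟩, ⟨[-1, 0, 0, 0], [19, 17], [2, 1, 2, 1]⟩, ⟨[0, -1, -1, 0], [], [3, 2]⟩, ⟨[], [], []⟩, ⟨[0, -1, -1, 0], [21], [2, 3, 2]⟩, ⟨[0, -1, -1, 0], [], []⟩, ⟨[], [], []⟩, ⟨[0, -1, -1, 0], [24], [2]⟩, ⟨[-1, 0, 0, 0], [], []⟩, ⟨[-1, 0, 0, 0], [27, 30], [2]⟩, ⟨[-1, 0, 0, 0], [], []⟩, ⟨[-1, 0, 0, 0], [], []⟩, ⟨[0, -1, -1, 0],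 [], []⟩, ⟨[0, -1, -1, 0], [31], [2]⟩, ⟨[0, -1, -1, 0], [], []⟩, ⟨[-1, 0, 0, 0], [], []⟩, ⟨[-1, 0, 0, 0], [34, 41], [2]⟩, ⟨[-1, 0, 0, 0], [], []⟩, ⟨[0, -1, -1, 0], [], []⟩, ⟨[0, -1, 0, 2], [], []⟩, ⟨[0, -1, 0, 2], [38, 47], [2]⟩, ⟨[-1, 0, 0, 0], [], []⟩, ⟨[-1, 0, 0, 0], [], []⟩, ⟨[0, -1, -1, 0], [], []⟩, ⟨[0, -1, -1, 0], [42], [2]⟩, ⟨[-1, 0, 0, 0], [], []⟩, ⟨[0, -1, -1, 0], [], []⟩, ⟨[0, -1, -1, 0], [45], [2]⟩, ⟨[0, -1, 0, 2], [], []⟩],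
  [⟨[0, 0, -2, -1], [], [3, 2, 1, 2, 0, 1, 2, 3]⟩, ⟨[0, 0, -2, -1], [0], [2, 3, 2, 1, 2, 0, 1, 2, 3, 0, 1, 2]⟩, ⟨[0, -1, 0, 0], [], [3, 2, 1, 2, 0, 1]⟩, ⟨[-1, 0, 0, 0], [], [1, 2, 3, 0, 1, 2, 1, 0]⟩, ⟨[-1, 0, 0, 0], [], [3, 2, 1, 2, 0]⟩, ⟨[0, 0, -2, -1], [], [3, 2, 1, 0]⟩, ⟨[0, 0, -2, -1], [5], [2, 3, 2, 1, 0]⟩, ⟨[-1, 0, 0, 0], [], [1, 2, 3, 0, 1, 2, 1]⟩, ⟨[0, -1, 0, 0], [], [1, 2, 3, 0, 1, 2]⟩, ⟨[0, -1, 0, 0], [], [1, 2, 3, 0, 1]⟩, ⟨[0, -1, 0, 0], [9, 2], [2, 1, 2, 3, 1, 2, 0, 1]⟩, ⟨[-1, 0, 0, 0], [], [1, 2, 3, 0]⟩, ⟨[-1, 0, 0, 0], [11, 4], [2, 1, 2, 3, 1, 2, 0]⟩, ⟨[-1, 0, 0, 0], [], [1, 0]⟩, ⟨[0, -1, 0, 0], [], [0]⟩, ⟨[-1, 0, 0, 0], [], [3, 2, 1, 2]⟩, ⟨[0,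 0, -2, -1], [], [3, 2, 1]⟩, ⟨[0, 0, -2, -1], [16], [2, 3, 2, 1]⟩, ⟨[-1, 0, 0, 0], [], [1, 2, 3]⟩, ⟨[-1, 0, 0, 0], [18, 15], [2, 1, 2, 3, 1, 2]⟩, ⟨[-1, 0, 0, 0], [], [1]⟩, ⟨[0, -1, -2, -1], [], [3, 2]⟩, ⟨[0, -1, -2, -1], [21], [2, 3, 2]⟩, ⟨[], [], []⟩, ⟨[], [], []⟩, ⟨[0, -1, -2, -1], [], []⟩, ⟨[0, -1, -2, -1], [25], [3]⟩, ⟨[-1, 0, 0, 0], [], []⟩, ⟨[-1, 0, 0, 0], [], []⟩, ⟨[-1, 0, 0, 0], [28, 32], [3]⟩, ⟨[0, 0, -2, -1], [], []⟩, ⟨[0, 0, -2, -1], [30], [3]⟩, ⟨[-1, 0, 0, 0], [], []⟩, ⟨[0, -1, 0, 0], [], []⟩, ⟨[-1, 0, 0, 0], [], []⟩, ⟨[-1, 0, 0, 0], [], []⟩, ⟨[-1, 0, 0, 0], [35, 43], [3]⟩, ⟨[0, -1, 0, 0], [], []⟩, ⟨[0, -1, 0, 0], [37, 45], [3]⟩, ⟨[0, -1, 0, 0], [],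 []⟩, ⟨[-1, 0, 0, 0], [], []⟩, ⟨[0, 0, -2, -1], [], []⟩, ⟨[0, 0, -2, -1], [41], [3]⟩, ⟨[-1, 0, 0, 0], [], []⟩, ⟨[-1, 0, 0, 0], [], []⟩, ⟨[0, -1, 0, 0], [], []⟩, ⟨[0, 0, -2, -1], [], []⟩, ⟨[0, 0, -2, -1], [46], [3]⟩],
  [⟨[0, 0, -2, -1], [1], [2, 3, 1, 2, 0, 1, 2, 3, 0, 1, 2]⟩, ⟨[0, 0, -2, -1], [], [3, 2, 1, 2, 0, 1, 2]⟩, ⟨[0, -1, 0, 0], [], [3, 2, 1, 2, 0, 1]⟩, ⟨[-1, 0, 0, 0], [], [1, 2, 3, 0, 1, 2, 1, 0]⟩, ⟨[-1, 0, 0, 0], [], [3, 2, 1, 2, 0]⟩, ⟨[0, 0, -2, -1], [6], [3, 2, 1, 0]⟩, ⟨[0, 0, -2, -1], [], [2, 1, 0]⟩, ⟨[-1, 0, 0, 0], [], [1, 2, 3, 0, 1, 2, 1]⟩, ⟨[0, -1, 0, 0], [], [1, 2, 3, 0, 1, 2]⟩, ⟨[0, -1, 0, 0], [10, 2], [1, 2, 3, 1, 2, 0, 1]⟩, ⟨[0, -1, 0, 0],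 [], [1, 2, 0, 1]⟩, ⟨[-1, 0, 0, 0], [12, 4], [1, 2, 3, 1, 2, 0]⟩, ⟨[-1, 0, 0, 0], [], [1, 2, 0]⟩, ⟨[-1, 0, 0, 0], [], [1, 0]⟩, ⟨[0, -1, 0, 0], [], [0]⟩, ⟨[-1, 0, 0, 0], [], [3, 2, 1, 2]⟩, ⟨[0, 0, -2, -1], [17], [3, 2, 1]⟩, ⟨[0, 0, -2, -1], [], [2, 1]⟩, ⟨[-1, 0, 0, 0], [19, 15], [1, 2, 3, 1, 2]⟩, ⟨[-1, 0, 0, 0], [], [1, 2]⟩, ⟨[-1, 0, 0, 0], [], [1]⟩, ⟨[0, -1, -2, -1], [22], [3, 2]⟩, ⟨[0, -1, -2, -1], [], [2]⟩, ⟨[], [], []⟩, ⟨[], [], []⟩, ⟨[0, -1, -2, -1], [26], []⟩, ⟨[0, -1, -2, -1], [], []⟩, ⟨[-1, 0, 0, 0], [], []⟩, ⟨[-1, 0, 0, 0], [29, 32], []⟩, ⟨[-1, 0, 0, 0], [], []⟩, ⟨[0, 0, -2, -1], [31], []⟩, ⟨[0, 0, -2, -1], [], []⟩, ⟨[-1, 0, 0, 0], [], []⟩, ⟨[0, -1, 0,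 0], [], []⟩, ⟨[-1, 0, 0, 0], [], []⟩, ⟨[-1, 0, 0, 0], [36, 43], []⟩, ⟨[-1, 0, 0, 0], [], []⟩, ⟨[0, -1, 0, 0], [38, 45], []⟩, ⟨[0, -1, 0, 0], [], []⟩, ⟨[0, -1, 0, 0], [], []⟩, ⟨[-1, 0, 0, 0], [], []⟩, ⟨[0, 0, -2, -1], [42], []⟩, ⟨[0, 0, -2, -1], [], []⟩, ⟨[-1, 0, 0, 0], [], []⟩, ⟨[-1, 0, 0, 0], [], []⟩, ⟨[0, -1, 0, 0], [], []⟩, ⟨[0, 0, -2, -1], [47], []⟩, ⟨[0, 0, -2, -1], [], []⟩],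
  [⟨[0, -1, 0, 2], [], [3, 2, 1, 2, 0, 1, 2, 3]⟩, ⟨[0, -1, -1, 0], [2], [2, 3, 1, 2, 0, 1, 2, 0, 1]⟩, ⟨[0, -1, -1, 0], [], [3, 2, 1, 2, 0, 1]⟩, ⟨[-1, 0, 0, 0], [], [1, 2, 3, 0, 1, 2, 1, 0]⟩, ⟨[0, -1, -1, 0], [5], [2, 3, 1, 2, 1, 0]⟩, ⟨[0, -1, -1, 0], [], [3, 2, 1, 0]⟩, ⟨[-1, 0, 0, 0], [], [2, 1, 0]⟩, ⟨[-1, 0, 0, 0], [], [1, 2, 3, 0, 1, 2, 1]⟩, ⟨[0, -1, 0, 2], [9, 0], [1, 2, 3, 1, 2, 0, 1, 2, 3]⟩, ⟨[0, -1, 0, 2], [], [1, 2, 3, 0, 1]⟩, ⟨[0, -1, -1, 0], [], [1, 2, 0, 1]⟩, ⟨[-1, 0, 0, 0], [], [1, 2, 3, 0]⟩, ⟨[-1, 0, 0, 0], [13, 6], [1, 2, 1, 0]⟩, ⟨[-1, 0, 0, 0], [], [1, 0]⟩, ⟨[0, -1, -1, 0], [], [0]⟩, ⟨[0, -1, -1, 0], [16], [2, 3, 1, 2, 1]⟩, ⟨[0, -1, -1, 0], [],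 [3, 2, 1]⟩, ⟨[-1, 0, 0, 0], [], [2, 1]⟩, ⟨[-1, 0, 0, 0], [], [1, 2, 3]⟩, ⟨[-1, 0, 0, 0], [20, 17], [1, 2, 1]⟩, ⟨[-1, 0, 0, 0], [], [1]⟩, ⟨[0, -1, -1, 0], [23], [2, 3]⟩, ⟨[], [], []⟩, ⟨[0, -1, -1, 0], [], [3]⟩, ⟨[0, -1, -1, 0], [26], []⟩, ⟨[], [], []⟩, ⟨[0, -1, -1, 0], [], []⟩, ⟨[-1, 0, 0, 0], [28, 30], []⟩, ⟨[-1, 0, 0, 0], [], []⟩, ⟨[-1, 0, 0, 0], [], []⟩, ⟨[-1, 0, 0, 0], [], []⟩, ⟨[0, -1, -1, 0], [32], []⟩, ⟨[0, -1, -1, 0], [], []⟩, ⟨[0, -1, -1, 0], [], []⟩, ⟨[-1, 0, 0, 0], [35, 41], []⟩, ⟨[-1, 0, 0, 0], [], []⟩, ⟨[-1, 0, 0, 0], [], []⟩, ⟨[0, -1, -1, 0], [], []⟩, ⟨[0, -1, 0, 2], [39, 47], []⟩, ⟨[0, -1, 0, 2], [], []⟩, ⟨[-1, 0, 0, 0], [], []⟩, ⟨[-1, 0, 0, 0],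 [], []⟩, ⟨[0, -1, -1, 0], [43], []⟩, ⟨[0, -1, -1, 0], [], []⟩, ⟨[-1, 0, 0, 0], [], []⟩, ⟨[0, -1, -1, 0], [46], []⟩, ⟨[0, -1, -1, 0], [], []⟩, ⟨[0, -1, 0, 2], [], []⟩],
  [⟨[0, 0, -1, 1], [2], [2, 3, 1, 2, 0, 1, 2, 3, 0, 1]⟩, ⟨[0, 0, -1, 1], [], [3, 2, 1, 2, 0, 1, 2]⟩, ⟨[0, 0, -1, 1], [], [3, 2, 1, 2, 0, 1]⟩, ⟨[-1, 0, 0, 0], [], [1, 2, 3, 0, 1, 2, 1, 0]⟩, ⟨[0, 0, -1, 1], [6], [3, 2, 1, 2, 0]⟩, ⟨[-1, 0, 0, 0], [], [3, 2, 1, 0]⟩, ⟨[0, 0, -1, 1], [], [2, 1, 0]⟩, ⟨[-1, 0, 0, 0], [], [1, 2, 3, 0, 1, 2, 1]⟩, ⟨[0, 0, -1, 1], [10, 1], [1, 2, 3, 1, 2, 0, 1, 2]⟩, ⟨[0, -1, -2, 0], [], [1, 2, 3, 0, 1]⟩, ⟨[0, 0, -1, 1], [], [1, 2, 0, 1]⟩, ⟨[-1, 0, 0, 0], [13, 5], [1, 2, 3,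 1, 0]⟩, ⟨[-1, 0, 0, 0], [], [1, 2, 0]⟩, ⟨[-1, 0, 0, 0], [], [1, 0]⟩, ⟨[0, -1, -2, 0], [], [0]⟩, ⟨[0, 0, -1, 1], [17], [3, 2, 1, 2]⟩, ⟨[-1, 0, 0, 0], [], [3, 2, 1]⟩, ⟨[0, 0, -1, 1], [], [2, 1]⟩, ⟨[-1, 0, 0, 0], [20, 16], [1, 2, 3, 1]⟩, ⟨[-1, 0, 0, 0], [], [1, 2]⟩, ⟨[-1, 0, 0, 0], [], [1]⟩, ⟨[], [], []⟩, ⟨[0, -1, -1, -1], [24], [2]⟩, ⟨[0, -1, -1, -1], [25], [3]⟩, ⟨[0, -1, -1, -1], [], []⟩, ⟨[0, -1, -1, -1], [], []⟩, ⟨[], [], []⟩, ⟨[-1, 0, 0, 0], [29, 31], []⟩, ⟨[-1, 0, 0, 0], [], []⟩, ⟨[-1, 0, 0, 0], [], []⟩, ⟨[0, 0, -1, 1], [32], []⟩, ⟨[-1, 0, 0, 0], [], []⟩, ⟨[0, 0, -1, 1], [], []⟩, ⟨[0, -1, -2, 0], [], []⟩, ⟨[-1, 0, 0, 0], [36, 42], []⟩, ⟨[-1, 0, 0, 0], [],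 []⟩, ⟨[-1, 0, 0, 0], [], []⟩, ⟨[0, 0, -1, 1], [39, 46], []⟩, ⟨[0, -1, -2, 0], [], []⟩, ⟨[0, 0, -1, 1], [], []⟩, ⟨[-1, 0, 0, 0], [], []⟩, ⟨[0, 0, -1, 1], [43], []⟩, ⟨[-1, 0, 0, 0], [], []⟩, ⟨[0, 0, -1, 1], [], []⟩, ⟨[-1, 0, 0, 0], [], []⟩, ⟨[0, 0, -1, 1], [47], []⟩, ⟨[0, 0, -1, 1], [], []⟩, ⟨[0, 0, -1, 1], [], []⟩],
  [⟨[0, 0, 0, -1], [], [3, 2, 1, 2, 0, 1, 2, 3]⟩, ⟨[0, 0, 0, -1], [], [3, 2, 1, 2, 0, 1, 2]⟩, ⟨[-1, 0, 1, 0], [3, 4], [2, 1, 2, 3, 0, 1, 2, 1, 0]⟩, ⟨[-1, 0, 1, 0], [4], [1, 2, 3, 0, 1, 2, 1, 0]⟩, ⟨[-1, 0, 1, 0], [], [3, 2, 1, 2, 0]⟩, ⟨[0, 0, 0, -1], [], [3, 2, 1, 0]⟩, ⟨[0, 0, 0, -1], [], [2, 1, 0]⟩, ⟨[-1, 0, 1, 0], [8], [0, 1, 2, 3, 1, 2, 0, 1, 2]⟩,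 ⟨[-1, 0, 1, 0], [], [1, 2, 3, 0, 1, 2]⟩, ⟨[0, 0, 0, -1], [11], [0, 1, 2, 3, 1, 0]⟩, ⟨[0, 0, 0, -1], [12], [0, 1, 2, 1, 0]⟩, ⟨[0, 0, 0, -1], [], [1, 2, 3, 0]⟩, ⟨[0, 0, 0, -1], [], [1, 2, 0]⟩, ⟨[-1, -1, -1, 0], [14], [1, 0]⟩, ⟨[-1, -1, -1, 0], [], [0]⟩, ⟨[-1, -1, -1, 0], [], [3, 2, 1, 2]⟩, ⟨[0, 0, 0, -1], [18, 21], [2, 1, 2, 3]⟩, ⟨[0, 0, 0, -1], [19, 22], [2, 1, 2]⟩, ⟨[0, 0, 0, -1], [21], [1, 2, 3]⟩, ⟨[0, 0, 0, -1], [22], [1, 2]⟩, ⟨[], [], []⟩, ⟨[0, 0, 0, -1], [], [3, 2]⟩, ⟨[0, 0, 0, -1], [], [2]⟩, ⟨[-1, 0, 1, 0], [], [3]⟩, ⟨[-1, 0, 1, 0], [], []⟩, ⟨[0, 0, 0, -1], [28, 30], []⟩, ⟨[0, 0, 0, -1], [29, 31], []⟩, ⟨[], [], []⟩, ⟨[0, 0, 0, -1], [30], []⟩, ⟨[0, 0, 0,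 -1], [31], []⟩, ⟨[0, 0, 0, -1], [], []⟩, ⟨[0, 0, 0, -1], [], []⟩, ⟨[-1, -1, -1, 0], [], []⟩, ⟨[-1, -1, -1, 0], [34], []⟩, ⟨[-1, -1, -1, 0], [], []⟩, ⟨[0, 0, 0, -1], [37], []⟩, ⟨[0, 0, 0, -1], [38], []⟩, ⟨[0, 0, 0, -1], [], []⟩, ⟨[0, 0, 0, -1], [], []⟩, ⟨[-1, 0, 1, 0], [40], []⟩, ⟨[-1, 0, 1, 0], [], []⟩, ⟨[0, 0, 0, -1], [], []⟩, ⟨[0, 0, 0, -1], [], []⟩, ⟨[-1, 0, 1, 0], [44, 45], []⟩, ⟨[-1, 0, 1, 0], [45], []⟩, ⟨[-1, 0, 1, 0], [], []⟩, ⟨[0, 0, 0, -1], [], []⟩, ⟨[0, 0, 0, -1], [], []⟩],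
  [⟨[-1, 0, 0, 1], [], [3, 2, 1, 2, 0, 1, 2, 3]⟩, ⟨[-1, 0, -1, 0], [3, 5], [2, 1, 2, 3, 2, 0, 1, 2, 1, 0]⟩, ⟨[-1, 0, -1, 0], [], [3, 2, 1, 2, 0, 1]⟩, ⟨[-1, 0, -1, 0], [5], [1, 2, 3, 0, 1, 2, 1, 0]⟩, ⟨[0, 0, -1, -1], [], [3, 2, 1, 2, 0]⟩, ⟨[-1, 0, -1, 0], [], [3, 2, 1, 0]⟩, ⟨[0, 0, -1, -1], [], [2, 1, 0]⟩, ⟨[0, -1, 0, 0], [9], [0, 1, 2, 3, 1, 2, 0, 1]⟩, ⟨[0, -1, 0, 0], [11], [0, 1, 2, 3, 1, 2, 0]⟩, ⟨[0, -1, 0, 0], [], [1, 2, 3, 0, 1]⟩, ⟨[0, -1, 0, 0], [13], [1, 2, 0, 1]⟩, ⟨[0, -1, 0, 0], [], [1, 2, 3, 0]⟩, ⟨[0, -1, 0, 0], [14], [1, 2, 0]⟩, ⟨[0, -1, 0, 0], [], [1, 0]⟩, ⟨[0, -1, 0, 0], [], [0]⟩, ⟨[-1, 0, -1, 0], [18, 23], [2, 1, 2, 3, 2]⟩, ⟨[-1, -1, -1, 0], [],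 [3, 2, 1]⟩, ⟨[-1, 0, 0, 1], [20, 25], [2, 1]⟩, ⟨[-1, 0, -1, 0], [23], [1, 2, 3]⟩, ⟨[], [], []⟩, ⟨[-1, 0, 0, 1], [25], [1]⟩, ⟨[-1, 0, -1, 0], [], [3, 2]⟩, ⟨[-1, 0, 0, 1], [27, 30], [2]⟩, ⟨[-1, 0, -1, 0], [], [3]⟩, ⟨[-1, 0, -1, 0], [29, 32], []⟩, ⟨[-1, 0, 0, 1], [], []⟩, ⟨[-1, 0, -1, 0], [], []⟩, ⟨[-1, 0, 0, 1], [30], []⟩, ⟨[], [], []⟩, ⟨[-1, 0, -1, 0], [32], []⟩, ⟨[-1, 0, 0, 1], [], []⟩, ⟨[-1, -1, -1, 0], [], []⟩, ⟨[-1, 0, -1, 0], [], []⟩, ⟨[0, -1, 0, 0], [35], []⟩, ⟨[0, -1, 0, 0], [37], []⟩, ⟨[0, -1, 0, 0], [], []⟩, ⟨[0, -1, 0, 0], [39], []⟩, ⟨[0, -1, 0, 0], [], []⟩, ⟨[0, -1, 0, 0], [40], []⟩, ⟨[0, -1, 0, 0], [], []⟩, ⟨[0, -1, 0, 0], [], []⟩, ⟨[0, 0, -1, -1],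 [], []⟩, ⟨[-1, 0, -1, 0], [44, 46], []⟩, ⟨[0, 0, -1, -1], [], []⟩, ⟨[-1, 0, -1, 0], [46], []⟩, ⟨[-1, 0, -1, 0], [], []⟩, ⟨[-1, 0, -1, 0], [], []⟩, ⟨[-1, 0, 0, 1], [], []⟩],
  [⟨[-1, 0, 0, -1], [3, 6], [3, 2, 1, 2, 0, 1, 2, 3, 2, 1, 0]⟩, ⟨[0, 0, -1, 0], [], [3, 2, 1, 2, 0, 1, 2]⟩, ⟨[0, 0, -1, 0], [], [3, 2, 1, 2, 0, 1]⟩, ⟨[-1, 0, 0, -1], [6], [1, 2, 3, 0, 1, 2, 1, 0]⟩, ⟨[0, 0, -1, 0], [], [3, 2, 1, 2, 0]⟩, ⟨[0, 0, -1, 0], [], [3, 2, 1, 0]⟩, ⟨[-1, 0, 0, -1], [], [2, 1, 0]⟩, ⟨[0, -1, 0, 0], [10], [1, 2, 3, 0, 1, 2, 1]⟩, ⟨[0, -1, 0, 0], [12], [1, 2, 3, 0, 1, 2]⟩, ⟨[0, -1, 0, 0], [13], [1, 2, 3, 0, 1]⟩, ⟨[0, -1, 0, 0], [], [1, 2, 0, 1]⟩, ⟨[0, -1, 0, 0], [14], [1,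 2, 3, 0]⟩, ⟨[0, -1, 0, 0], [], [1, 2, 0]⟩, ⟨[0, -1, 0, 0], [], [1, 0]⟩, ⟨[0, -1, 0, 0], [], [0]⟩, ⟨[0, 0, -1, 0], [19, 24], [3, 2, 1, 2]⟩, ⟨[0, 0, -1, 0], [20, 26], [3, 2, 1]⟩, ⟨[-1, -1, 0, -1], [], [2, 1]⟩, ⟨[], [], []⟩, ⟨[0, 0, -1, 0], [24], [1, 2]⟩, ⟨[0, 0, -1, 0], [26], [1]⟩, ⟨[0, 0, -1, 0], [27, 31], [3, 2]⟩, ⟨[-1, 0, 0, -1], [], [2]⟩, ⟨[0, 0, -1, 0], [28, 32], [3]⟩, ⟨[0, 0, -1, 0], [], []⟩, ⟨[-1, 0, 0, -1], [], []⟩, ⟨[0, 0, -1, 0], [], []⟩, ⟨[0, 0, -1, 0], [31], []⟩, ⟨[0, 0, -1, 0], [32], []⟩, ⟨[], [], []⟩, ⟨[-1, -1, 0, -1], [], []⟩, ⟨[0, 0, -1, 0], [], []⟩, ⟨[0, 0, -1, 0], [], []⟩, ⟨[0, -1, 0, 0], [36], []⟩, ⟨[0, -1, 0, 0], [38], []⟩, ⟨[0, -1, 0, 0], [39],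 []⟩, ⟨[0, -1, 0, 0], [], []⟩, ⟨[0, -1, 0, 0], [40], []⟩, ⟨[0, -1, 0, 0], [], []⟩, ⟨[0, -1, 0, 0], [], []⟩, ⟨[0, -1, 0, 0], [], []⟩, ⟨[-1, 0, 0, -1], [44, 47], []⟩, ⟨[0, 0, -1, 0], [], []⟩, ⟨[0, 0, -1, 0], [], []⟩, ⟨[-1, 0, 0, -1], [47], []⟩, ⟨[0, 0, -1, 0], [], []⟩, ⟨[0, 0, -1, 0], [], []⟩, ⟨[-1, 0, 0, -1], [], []⟩],
  [⟨[-1, 0, 0, 2], [], [3, 2, 1, 2, 0, 1, 2, 3]⟩, ⟨[0, 0, -1, 0], [4], [2, 3, 1, 2, 0, 1, 2, 0]⟩, ⟨[0, 0, -1, 0], [5], [2, 3, 1, 2, 0, 1, 0]⟩, ⟨[-1, -1, 0, 0], [], [1, 2, 3, 0, 1, 2, 1, 0]⟩, ⟨[0, 0, -1, 0], [], [3, 2, 1, 2, 0]⟩, ⟨[0, 0, -1, 0], [], [3, 2, 1, 0]⟩, ⟨[-1, -1, 0, 0], [], [2, 1, 0]⟩, ⟨[-1, 0, 0, 2], [11, 0], [1, 2, 3, 1, 2, 0, 1, 2, 3,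 1]⟩, ⟨[0, 0, -1, 0], [], [1, 2, 3, 0, 1, 2]⟩, ⟨[0, 0, -1, 0], [], [1, 2, 3, 0, 1]⟩, ⟨[-1, -1, 0, 0], [14, 6], [1, 2, 0, 1, 0]⟩, ⟨[-1, 0, 0, 2], [], [1, 2, 3, 0]⟩, ⟨[0, 0, -1, 0], [], [1, 2, 0]⟩, ⟨[0, 0, -1, 0], [], [1, 0]⟩, ⟨[-1, -1, 0, 0], [], [0]⟩, ⟨[0, 0, -1, 0], [21], [2, 3, 1, 2]⟩, ⟨[0, 0, -1, 0], [23], [2, 3, 1]⟩, ⟨[], [], []⟩, ⟨[-1, -1, 0, 0], [], [1, 2, 3]⟩, ⟨[0, 0, -1, 0], [27, 22], [1, 2]⟩, ⟨[0, 0, -1, 0], [28, 25], [1]⟩, ⟨[0, 0, -1, 0], [], [3, 2]⟩, ⟨[0, 0, -1, 0], [], [2]⟩, ⟨[0, 0, -1, 0], [], [3]⟩, ⟨[0, 0, -1, 0], [31], []⟩, ⟨[0, 0, -1, 0], [], []⟩, ⟨[0, 0, -1, 0], [32], []⟩, ⟨[0, 0, -1, 0], [], []⟩, ⟨[0, 0, -1, 0], [], []⟩, ⟨[-1, -1, 0, 0], [],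 []⟩, ⟨[], [], []⟩, ⟨[0, 0, -1, 0], [], []⟩, ⟨[0, 0, -1, 0], [], []⟩, ⟨[-1, -1, 0, 0], [37, 41], []⟩, ⟨[0, 0, -1, 0], [], []⟩, ⟨[0, 0, -1, 0], [], []⟩, ⟨[-1, 0, 0, 2], [40, 47], []⟩, ⟨[-1, -1, 0, 0], [], []⟩, ⟨[0, 0, -1, 0], [], []⟩, ⟨[0, 0, -1, 0], [], []⟩, ⟨[-1, 0, 0, 2], [], []⟩, ⟨[-1, -1, 0, 0], [], []⟩, ⟨[0, 0, -1, 0], [45], []⟩, ⟨[0, 0, -1, 0], [46], []⟩, ⟨[-1, -1, 0, 0], [], []⟩, ⟨[0, 0, -1, 0], [], []⟩, ⟨[0, 0, -1, 0], [], []⟩, ⟨[-1, 0, 0, 2], [], []⟩],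
  [⟨[0, 0, -1, -1], [4], [2, 3, 1, 2, 0, 1, 2, 3, 0]⟩, ⟨[-1, 0, 0, -2], [], [3, 2, 1, 2, 0, 1, 2]⟩, ⟨[0, 0, -1, -1], [6], [3, 2, 1, 2, 0, 1]⟩, ⟨[-1, -1, 0, 0], [], [1, 2, 3, 0, 1, 2, 1, 0]⟩, ⟨[0, 0, -1, -1], [], [3, 2, 1, 2, 0]⟩, ⟨[-1, -1, 0, 0], [], [3, 2, 1, 0]⟩, ⟨[0, 0, -1, -1], [], [2, 1, 0]⟩, ⟨[-1, 0, 0, -2], [12, 1], [1, 2, 3, 1, 2, 0, 1, 2, 1]⟩, ⟨[-1, -1, 0, 0], [], [1, 2, 3, 0, 1, 2]⟩, ⟨[-1, -1, 0, 0], [14, 5], [1, 2, 3, 0, 1, 0]⟩, ⟨[-1, -1, 0, 0], [], [1, 2, 0, 1]⟩, ⟨[0, 0, -1, -1], [], [1, 2, 3, 0]⟩, ⟨[-1, 0, 0, -2], [], [1, 2, 0]⟩, ⟨[0, 0, -1, -1], [], [1, 0]⟩, ⟨[-1, -1, 0, 0], [], [0]⟩, ⟨[0, 0, -1, -1], [22], [3, 2, 1, 2]⟩, ⟨[], [], []⟩, ⟨[0, 0, -1,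 -1], [24], [2, 1]⟩, ⟨[-1, -1, 0, 0], [27, 21], [1, 2, 3]⟩, ⟨[-1, -1, 0, 0], [], [1, 2]⟩, ⟨[-1, -1, 0, 0], [29, 26], [1]⟩, ⟨[-1, -1, 0, 0], [], [3, 2]⟩, ⟨[0, 0, -1, -1], [], [2]⟩, ⟨[0, 0, -1, -1], [30], [3]⟩, ⟨[0, 0, -1, -1], [], []⟩, ⟨[0, 0, -1, -1], [32], []⟩, ⟨[-1, -1, 0, 0], [], []⟩, ⟨[-1, -1, 0, 0], [], []⟩, ⟨[-1, -1, 0, 0], [], []⟩, ⟨[-1, -1, 0, 0], [], []⟩, ⟨[0, 0, -1, -1], [], []⟩, ⟨[], [], []⟩, ⟨[0, 0, -1, -1], [], []⟩, ⟨[-1, -1, 0, 0], [38, 42], []⟩, ⟨[0, 0, -1, -1], [], []⟩, ⟨[-1, 0, 0, -2], [40, 46], []⟩, ⟨[0, 0, -1, -1], [], []⟩, ⟨[-1, -1, 0, 0], [], []⟩, ⟨[-1, -1, 0, 0], [], []⟩, ⟨[-1, -1, 0, 0], [], []⟩, ⟨[-1, 0, 0, -2], [], []⟩, ⟨[0, 0, -1, -1],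 [45], []⟩, ⟨[-1, -1, 0, 0], [], []⟩, ⟨[0, 0, -1, -1], [47], []⟩, ⟨[-1, -1, 0, 0], [], []⟩, ⟨[0, 0, -1, -1], [], []⟩, ⟨[-1, 0, 0, -2], [], []⟩, ⟨[0, 0, -1, -1], [], []⟩],
  [⟨[0, 0, 0, -1], [5], [3, 2, 1, 2, 0, 1, 2, 3]⟩, ⟨[0, 0, 0, -1], [6], [3, 2, 1, 2, 0, 1, 2]⟩, ⟨[0, -1, 0, 0], [], [3, 2, 1, 2, 0, 1]⟩, ⟨[-1, 0, -2, 0], [], [1, 2, 3, 0, 1, 2, 1, 0]⟩, ⟨[0, -1, 0, 0], [], [3, 2, 1, 2, 0]⟩, ⟨[0, 0, 0, -1], [], [3, 2, 1, 0]⟩, ⟨[0, 0, 0, -1], [], [2, 1, 0]⟩, ⟨[0, -1, 0, 0], [13, 2], [1, 2, 3, 0, 1, 2, 0, 1]⟩, ⟨[0, -1, 0, 0], [14, 4], [1, 2, 3, 0, 1, 2, 0]⟩, ⟨[0, -1, 0, 0], [], [1, 2, 3, 0, 1]⟩, ⟨[0, -1, 0, 0], [], [1, 2, 0, 1]⟩, ⟨[0, -1, 0, 0], [], [1, 2, 3, 0]⟩,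 ⟨[0, -1, 0, 0], [], [1, 2, 0]⟩, ⟨[0, -1, 0, 0], [], [1, 0]⟩, ⟨[0, -1, 0, 0], [], [0]⟩, ⟨[], [], []⟩, ⟨[0, 0, 0, -1], [25], [3, 2, 1]⟩, ⟨[0, 0, 0, -1], [26], [2, 1]⟩, ⟨[0, 0, 0, -1], [28, 23], [1, 2, 3]⟩, ⟨[0, 0, 0, -1], [29, 24], [1, 2]⟩, ⟨[-1, -1, -2, 0], [], [1]⟩, ⟨[0, 0, 0, -1], [30], [3, 2]⟩, ⟨[0, 0, 0, -1], [31], [2]⟩, ⟨[0, 0, 0, -1], [], [3]⟩, ⟨[0, 0, 0, -1], [], []⟩, ⟨[0, 0, 0, -1], [], []⟩, ⟨[0, 0, 0, -1], [], []⟩, ⟨[-1, -1, -2, 0], [], []⟩, ⟨[0, 0, 0, -1], [], []⟩, ⟨[0, 0, 0, -1], [], []⟩, ⟨[0, 0, 0, -1], [], []⟩, ⟨[0, 0, 0, -1], [], []⟩, ⟨[], [], []⟩, ⟨[0, -1, 0, 0], [39, 43], []⟩, ⟨[0, -1, 0, 0], [40, 45], []⟩, ⟨[0, -1, 0, 0], [], []⟩, ⟨[0, -1, 0,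 0], [], []⟩, ⟨[0, -1, 0, 0], [], []⟩, ⟨[0, -1, 0, 0], [], []⟩, ⟨[0, -1, 0, 0], [], []⟩, ⟨[0, -1, 0, 0], [], []⟩, ⟨[0, 0, 0, -1], [46], []⟩, ⟨[0, 0, 0, -1], [47], []⟩, ⟨[0, -1, 0, 0], [], []⟩, ⟨[-1, 0, -2, 0], [], []⟩, ⟨[0, -1, 0, 0], [], []⟩, ⟨[0, 0, 0, -1], [], []⟩, ⟨[0, 0, 0, -1], [], []⟩],
  [⟨[0, 0, 0, -1], [], [3, 2, 1, 2, 0, 1, 2, 3]⟩, ⟨[0, 0, -1, 0], [], [3, 2, 1, 2, 0, 1, 2]⟩, ⟨[0, 0, -1, 0], [], [3, 2, 1, 2, 0, 1]⟩, ⟨[-1, -2, 0, 0], [7], [0, 1, 2, 3, 1, 2, 0, 1, 2, 0, 1]⟩, ⟨[0, 0, -1, 0], [8, 15], [2, 1, 2, 3, 0, 1, 2]⟩, ⟨[0, 0, -1, 0], [9, 16], [2, 1, 2, 3, 0, 1]⟩, ⟨[0, 0, 0, -1], [10, 17], [2, 1, 2, 0, 1]⟩, ⟨[-1, -2, 0, 0], [], [1, 2, 3, 0, 1, 2, 1]⟩,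 ⟨[0, 0, -1, 0], [15], [1, 2, 3, 0, 1, 2]⟩, ⟨[0, 0, -1, 0], [16], [1, 2, 3, 0, 1]⟩, ⟨[0, 0, 0, -1], [17], [1, 2, 0, 1]⟩, ⟨[0, 0, 0, -1], [18], [0, 1, 2, 3]⟩, ⟨[0, 0, -1, 0], [19], [0, 1, 2]⟩, ⟨[0, 0, -1, 0], [20], [0, 1]⟩, ⟨[], [], []⟩, ⟨[0, 0, -1, 0], [], [3, 2, 1, 2]⟩, ⟨[0, 0, -1, 0], [], [3, 2, 1]⟩, ⟨[0, 0, 0, -1], [], [2, 1]⟩, ⟨[0, 0, 0, -1], [], [1, 2, 3]⟩, ⟨[0, 0, -1, 0], [], [1, 2]⟩, ⟨[0, 0, -1, 0], [], [1]⟩, ⟨[0, 0, -1, 0], [], [3, 2]⟩, ⟨[0, 0, 0, -1], [], [2]⟩, ⟨[0, 0, -1, 0], [], [3]⟩, ⟨[0, 0, -1, 0], [], []⟩, ⟨[0, 0, 0, -1], [], []⟩, ⟨[0, 0, -1, 0], [], []⟩, ⟨[0, 0, -1, 0], [34], []⟩, ⟨[0, 0, -1, 0], [35], []⟩, ⟨[0, 0, 0, -1], [36], []⟩, ⟨[0, 0, 0,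 -1], [37, 41], []⟩, ⟨[0, 0, -1, 0], [38, 42], []⟩, ⟨[0, 0, -1, 0], [39, 43], []⟩, ⟨[], [], []⟩, ⟨[0, 0, -1, 0], [], []⟩, ⟨[0, 0, -1, 0], [], []⟩, ⟨[0, 0, 0, -1], [], []⟩, ⟨[0, 0, 0, -1], [41], []⟩, ⟨[0, 0, -1, 0], [42], []⟩, ⟨[0, 0, -1, 0], [43], []⟩, ⟨[-1, -2, 0, 0], [44], []⟩, ⟨[0, 0, 0, -1], [], []⟩, ⟨[0, 0, -1, 0], [], []⟩, ⟨[0, 0, -1, 0], [], []⟩, ⟨[-1, -2, 0, 0], [], []⟩, ⟨[0, 0, -1, 0], [], []⟩, ⟨[0, 0, -1, 0], [], []⟩, ⟨[0, 0, 0, -1], [], []⟩],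
  [⟨[0, 0, 0, -1], [], [3, 2, 1, 2, 0, 1, 2, 3]⟩, ⟨[0, 0, 0, -1], [], [3, 2, 1, 2, 0, 1, 2]⟩, ⟨[-1, 0, -1, 0], [7, 15], [2, 1, 2, 3, 0, 1, 2, 1]⟩, ⟨[-1, 0, -1, 0], [8], [0, 1, 2, 3, 1, 2, 0, 1, 2, 0]⟩, ⟨[0, -1, -1, 0], [], [3, 2, 1, 2, 0]⟩, ⟨[0, 0, 0, -1], [11, 21], [2, 1, 2, 3, 0]⟩, ⟨[0, 0, 0, -1], [12, 22], [2, 1, 2, 0]⟩, ⟨[-1, 0, -1, 0], [15], [1, 2, 3, 0, 1, 2, 1]⟩, ⟨[-1, 0, -1, 0], [], [1, 2, 3, 0, 1, 2]⟩, ⟨[0, 0, 0, -1], [18], [0, 1, 2, 3, 1]⟩, ⟨[0, 0, 0, -1], [19], [0, 1, 2, 1]⟩, ⟨[0, 0, 0, -1], [21], [1, 2, 3, 0]⟩, ⟨[0, 0, 0, -1], [22], [1, 2, 0]⟩, ⟨[], [], []⟩, ⟨[0, -1, -1, 0], [27], [0]⟩, ⟨[-1, 0, -1, 0], [], [3, 2, 1, 2]⟩, ⟨[0, 0, 0, -1], [], [3, 2,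 1]⟩, ⟨[0, 0, 0, -1], [], [2, 1]⟩, ⟨[0, 0, 0, -1], [], [1, 2, 3]⟩, ⟨[0, 0, 0, -1], [], [1, 2]⟩, ⟨[0, -1, -1, 0], [33], [1]⟩, ⟨[0, 0, 0, -1], [], [3, 2]⟩, ⟨[0, 0, 0, -1], [], [2]⟩, ⟨[-1, 0, -1, 0], [], [3]⟩, ⟨[-1, 0, -1, 0], [], []⟩, ⟨[0, 0, 0, -1], [35, 41], []⟩, ⟨[0, 0, 0, -1], [36, 42], []⟩, ⟨[0, -1, -1, 0], [], []⟩, ⟨[0, 0, 0, -1], [37], []⟩, ⟨[0, 0, 0, -1], [38], []⟩, ⟨[0, 0, 0, -1], [], []⟩, ⟨[0, 0, 0, -1], [], []⟩, ⟨[-1, 0, -1, 0], [40, 45], []⟩, ⟨[0, -1, -1, 0], [], []⟩, ⟨[], [], []⟩, ⟨[0, 0, 0, -1], [41], []⟩, ⟨[0, 0, 0, -1], [42], []⟩, ⟨[0, 0, 0, -1], [], []⟩, ⟨[0, 0, 0, -1], [], []⟩, ⟨[-1, 0, -1, 0], [44], []⟩, ⟨[-1, 0, -1, 0], [45], []⟩, ⟨[0, 0, 0,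 -1], [], []⟩, ⟨[0, 0, 0, -1], [], []⟩, ⟨[0, -1, -1, 0], [], []⟩, ⟨[-1, 0, -1, 0], [], []⟩, ⟨[-1, 0, -1, 0], [], []⟩, ⟨[0, 0, 0, -1], [], []⟩, ⟨[0, 0, 0, -1], [], []⟩],
  [⟨[-1, 0, 0, -1], [], [3, 2, 1, 2, 0, 1, 2, 3]⟩, ⟨[-1, 0, 0, -1], [7, 16], [2, 1, 2, 3, 2, 0, 1, 2, 1]⟩, ⟨[-1, 0, 1, 0], [], [3, 2, 1, 2, 0, 1]⟩, ⟨[-1, -1, 0, 0], [9], [0, 1, 2, 3, 1, 2, 0, 1, 0]⟩, ⟨[-1, 0, 1, 0], [11, 23], [2, 1, 2, 3, 2, 0]⟩, ⟨[0, -1, -1, 0], [], [3, 2, 1, 0]⟩, ⟨[-1, 0, 0, -1], [13, 25], [2, 1, 0]⟩, ⟨[-1, 0, 0, -1], [16], [1, 2, 3, 0, 1, 2, 1]⟩, ⟨[-1, -1, 0, 0], [18], [0, 1, 2, 3, 1, 2]⟩, ⟨[-1, -1, 0, 0], [], [1, 2, 3, 0, 1]⟩, ⟨[-1, -1, 0, 0], [20], [1, 2, 0, 1]⟩, ⟨[-1, 0,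 1, 0], [23], [1, 2, 3, 0]⟩, ⟨[], [], []⟩, ⟨[-1, 0, 0, -1], [25], [1, 0]⟩, ⟨[-1, -1, 0, 0], [28], [0]⟩, ⟨[0, -1, -1, 0], [], [3, 2, 1, 2]⟩, ⟨[-1, 0, 0, -1], [], [3, 2, 1]⟩, ⟨[0, 0, -1, -1], [], [2, 1]⟩, ⟨[-1, -1, 0, 0], [], [1, 2, 3]⟩, ⟨[-1, -1, 0, 0], [33], [1, 2]⟩, ⟨[-1, -1, 0, 0], [], [1]⟩, ⟨[-1, 0, 0, -1], [], [3, 2]⟩, ⟨[-1, 0, 0, -1], [34, 41], [2]⟩, ⟨[-1, 0, 1, 0], [], [3]⟩, ⟨[-1, 0, 1, 0], [36, 43], []⟩, ⟨[-1, 0, 0, -1], [], []⟩, ⟨[-1, 0, 0, -1], [], []⟩, ⟨[-1, -1, 0, 0], [37], []⟩, ⟨[-1, -1, 0, 0], [], []⟩, ⟨[-1, -1, 0, 0], [39], []⟩, ⟨[0, 0, -1, -1], [], []⟩, ⟨[-1, 0, 0, -1], [40, 46], []⟩, ⟨[0, -1, -1, 0], [], []⟩, ⟨[-1, -1, 0, 0], [], []⟩, ⟨[-1, 0,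 0, -1], [41], []⟩, ⟨[], [], []⟩, ⟨[-1, 0, 1, 0], [43], []⟩, ⟨[-1, -1, 0, 0], [], []⟩, ⟨[-1, -1, 0, 0], [44], []⟩, ⟨[-1, -1, 0, 0], [], []⟩, ⟨[-1, 0, 0, -1], [46], []⟩, ⟨[-1, 0, 0, -1], [], []⟩, ⟨[0, -1, -1, 0], [], []⟩, ⟨[-1, 0, 1, 0], [], []⟩, ⟨[-1, -1, 0, 0], [], []⟩, ⟨[-1, 0, 1, 0], [], []⟩, ⟨[-1, 0, 0, -1], [], []⟩, ⟨[-1, 0, 0, -1], [], []⟩],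
  [⟨[-1, 0, 0, 1], [7, 17], [3, 2, 1, 2, 0, 1, 2, 3, 2, 1]⟩, ⟨[0, 0, -1, 0], [], [3, 2, 1, 2, 0, 1, 2]⟩, ⟨[0, 0, -1, 0], [], [3, 2, 1, 2, 0, 1]⟩, ⟨[-1, -1, 0, 0], [10], [1, 2, 3, 0, 1, 2, 1, 0]⟩, ⟨[0, 0, -1, 0], [12, 24], [3, 2, 1, 2, 0]⟩, ⟨[0, 0, -1, 0], [13, 26], [3, 2, 1, 0]⟩, ⟨[0, -1, 0, -1], [], [2, 1, 0]⟩, ⟨[-1, 0, 0, 1], [17], [1, 2, 3, 0, 1, 2, 1]⟩, ⟨[0, 0, -1, 0], [19], [1, 2, 3, 0, 1, 2]⟩, ⟨[0, 0, -1, 0], [20], [1, 2, 3, 0, 1]⟩, ⟨[-1, -1, 0, 0], [], [1, 2, 0, 1]⟩, ⟨[], [], []⟩, ⟨[0, 0, -1, 0], [24], [1, 2, 0]⟩, ⟨[0, 0, -1, 0], [26], [1, 0]⟩, ⟨[-1, -1, 0, 0], [29], [0]⟩, ⟨[0, 0, -1, 0], [], [3, 2, 1, 2]⟩, ⟨[0, 0, -1, 0], [], [3, 2, 1]⟩, ⟨[-1, 0, 0, 1],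 [], [2, 1]⟩, ⟨[-1, -1, 0, 0], [33], [1, 2, 3]⟩, ⟨[0, 0, -1, 0], [], [1, 2]⟩, ⟨[0, 0, -1, 0], [], [1]⟩, ⟨[0, 0, -1, 0], [34, 42], [3, 2]⟩, ⟨[-1, 0, 0, 1], [], [2]⟩, ⟨[0, 0, -1, 0], [35, 43], [3]⟩, ⟨[0, 0, -1, 0], [], []⟩, ⟨[-1, 0, 0, 1], [], []⟩, ⟨[0, 0, -1, 0], [], []⟩, ⟨[0, 0, -1, 0], [38], []⟩, ⟨[0, 0, -1, 0], [39], []⟩, ⟨[-1, -1, 0, 0], [], []⟩, ⟨[-1, 0, 0, 1], [40, 47], []⟩, ⟨[0, 0, -1, 0], [], []⟩, ⟨[0, 0, -1, 0], [], []⟩, ⟨[-1, -1, 0, 0], [], []⟩, ⟨[0, 0, -1, 0], [42], []⟩, ⟨[0, 0, -1, 0], [43], []⟩, ⟨[], [], []⟩, ⟨[-1, -1, 0, 0], [44], []⟩, ⟨[0, 0, -1, 0], [], []⟩, ⟨[0, 0, -1, 0], [], []⟩, ⟨[-1, 0, 0, 1], [47], []⟩, ⟨[0, -1, 0, -1], [], []⟩, ⟨[0, 0, -1,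 0], [], []⟩, ⟨[0, 0, -1, 0], [], []⟩, ⟨[-1, -1, 0, 0], [], []⟩, ⟨[0, 0, -1, 0], [], []⟩, ⟨[0, 0, -1, 0], [], []⟩, ⟨[-1, 0, 0, 1], [], []⟩],
  [⟨[0, -1, 0, -1], [], [3, 2, 1, 2, 0, 1, 2, 3]⟩, ⟨[0, 0, -1, 0], [8, 21], [2, 1, 2, 3, 2, 0, 1, 2]⟩, ⟨[0, 0, -1, 0], [9, 23], [2, 1, 2, 3, 2, 0, 1]⟩, ⟨[-1, 0, 0, 0], [11], [0, 1, 2, 3, 1, 2, 1, 0]⟩, ⟨[0, 0, -1, 0], [], [3, 2, 1, 2, 0]⟩, ⟨[0, 0, -1, 0], [], [3, 2, 1, 0]⟩, ⟨[0, -1, 0, -1], [14, 30], [2, 1, 0]⟩, ⟨[-1, 0, 0, 0], [18], [0, 1, 2, 3, 1, 2, 1]⟩, ⟨[0, 0, -1, 0], [21], [1, 2, 3, 0, 1, 2]⟩, ⟨[0, 0, -1, 0], [23], [1, 2, 3, 0, 1]⟩, ⟨[], [], []⟩, ⟨[-1, 0, 0, 0], [], [1, 2, 3, 0]⟩, ⟨[-1, 0, 0, 0], [27], [1, 2, 0]⟩, ⟨[-1,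 0, 0, 0], [28], [1, 0]⟩, ⟨[0, -1, 0, -1], [30], [0]⟩, ⟨[0, 0, -1, 0], [], [3, 2, 1, 2]⟩, ⟨[0, 0, -1, 0], [], [3, 2, 1]⟩, ⟨[0, -1, 0, -1], [33, 41], [2, 1]⟩, ⟨[-1, 0, 0, 0], [], [1, 2, 3]⟩, ⟨[-1, 0, 0, 0], [34], [1, 2]⟩, ⟨[-1, 0, 0, 0], [35], [1]⟩, ⟨[0, 0, -1, 0], [], [3, 2]⟩, ⟨[0, -1, -1, -1], [], [2]⟩, ⟨[0, 0, -1, 0], [], [3]⟩, ⟨[0, 0, -1, 0], [38, 45], []⟩, ⟨[0, -1, -1, -1], [], []⟩, ⟨[0, 0, -1, 0], [39, 46], []⟩, ⟨[-1, 0, 0, 0], [], []⟩, ⟨[-1, 0, 0, 0], [], []⟩, ⟨[-1, 0, 0, 0], [40], []⟩, ⟨[0, -1, 0, -1], [], []⟩, ⟨[0, 0, -1, 0], [], []⟩, ⟨[0, 0, -1, 0], [], []⟩, ⟨[0, -1, 0, -1], [41], []⟩, ⟨[-1, 0, 0, 0], [], []⟩, ⟨[-1, 0, 0, 0], [], []⟩, ⟨[-1, 0, 0, 0],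 [44], []⟩, ⟨[], [], []⟩, ⟨[0, 0, -1, 0], [45], []⟩, ⟨[0, 0, -1, 0], [46], []⟩, ⟨[-1, 0, 0, 0], [], []⟩, ⟨[0, -1, 0, -1], [], []⟩, ⟨[0, 0, -1, 0], [], []⟩, ⟨[0, 0, -1, 0], [], []⟩, ⟨[-1, 0, 0, 0], [], []⟩, ⟨[0, 0, -1, 0], [], []⟩, ⟨[0, 0, -1, 0], [], []⟩, ⟨[0, -1, 0, -1], [], []⟩],
  [⟨[0, -1, 0, 1], [8, 22], [3, 2, 1, 2, 0, 1, 2, 3, 2]⟩, ⟨[0, -1, -1, 0], [], [3, 2, 1, 2, 0, 1, 2]⟩, ⟨[0, -1, -1, 0], [10, 24], [3, 2, 1, 2, 0, 1]⟩, ⟨[-1, 0, 0, 0], [12], [1, 2, 3, 0, 1, 2, 1, 0]⟩, ⟨[0, -1, -1, 0], [], [3, 2, 1, 2, 0]⟩, ⟨[0, -1, -1, 0], [14, 31], [3, 2, 1, 0]⟩, ⟨[0, -1, 0, 1], [], [2, 1, 0]⟩, ⟨[-1, 0, 0, 0], [19], [1, 2, 3, 0, 1, 2, 1]⟩, ⟨[0, -1, 0, 1], [22], [1,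 2, 3, 0, 1, 2]⟩, ⟨[], [], []⟩, ⟨[0, -1, -1, 0], [24], [1, 2, 0, 1]⟩, ⟨[-1, 0, 0, 0], [27], [1, 2, 3, 0]⟩, ⟨[-1, 0, 0, 0], [], [1, 2, 0]⟩, ⟨[-1, 0, 0, 0], [29], [1, 0]⟩, ⟨[0, -1, -1, 0], [31], [0]⟩, ⟨[0, -1, -1, 0], [], [3, 2, 1, 2]⟩, ⟨[0, -1, -1, 0], [33, 42], [3, 2, 1]⟩, ⟨[0, 0, -1, -1], [], [2, 1]⟩, ⟨[-1, 0, 0, 0], [34], [1, 2, 3]⟩, ⟨[-1, 0, 0, 0], [], [1, 2]⟩, ⟨[-1, 0, 0, 0], [36], [1]⟩, ⟨[0, -1, -1, 0], [], [3, 2]⟩, ⟨[0, -1, 0, 1], [], [2]⟩, ⟨[0, -1, -1, 0], [37, 45], [3]⟩, ⟨[0, -1, -1, 0], [], []⟩, ⟨[0, -1, 0, 1], [39, 47], []⟩, ⟨[0, -1, -1, 0], [], []⟩, ⟨[-1, 0, 0, 0], [], []⟩, ⟨[-1, 0, 0, 0], [40], []⟩, ⟨[-1, 0, 0, 0], [], []⟩, ⟨[0, 0, -1, -1], [], []⟩,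 ⟨[0, -1, -1, 0], [], []⟩, ⟨[0, -1, -1, 0], [], []⟩, ⟨[0, -1, -1, 0], [42], []⟩, ⟨[-1, 0, 0, 0], [], []⟩, ⟨[-1, 0, 0, 0], [44], []⟩, ⟨[-1, 0, 0, 0], [], []⟩, ⟨[0, -1, -1, 0], [45], []⟩, ⟨[], [], []⟩, ⟨[0, -1, 0, 1], [47], []⟩, ⟨[-1, 0, 0, 0], [], []⟩, ⟨[0, -1, 0, 1], [], []⟩, ⟨[0, -1, -1, 0], [], []⟩, ⟨[0, -1, -1, 0], [], []⟩, ⟨[-1, 0, 0, 0], [], []⟩, ⟨[0, -1, -1, 0], [], []⟩, ⟨[0, -1, -1, 0], [], []⟩, ⟨[0, -1, 0, 1], [], []⟩],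
  [⟨[0, 0, 0, -1], [9, 25], [3, 2, 1, 2, 0, 1, 2, 3]⟩, ⟨[0, 0, 0, -1], [10, 26], [3, 2, 1, 2, 0, 1, 2]⟩, ⟨[0, -1, -1, 0], [], [3, 2, 1, 2, 0, 1]⟩, ⟨[-1, 0, 0, 0], [13], [1, 2, 3, 0, 1, 2, 1, 0]⟩, ⟨[0, -1, -1, 0], [14, 32], [3, 2, 1, 2, 0]⟩, ⟨[0, 0, 0, -1], [], [3, 2, 1, 0]⟩, ⟨[0, 0, 0, -1], [], [2, 1, 0]⟩, ⟨[-1, 0, 0, 0], [20], [1, 2, 3, 0, 1, 2, 1]⟩, ⟨[], [], []⟩, ⟨[0, 0, 0, -1], [25], [1, 2, 3, 0, 1]⟩, ⟨[0, 0, 0, -1], [26], [1, 2, 0, 1]⟩, ⟨[-1, 0, 0, 0], [28], [1, 2, 3, 0]⟩, ⟨[-1, 0, 0, 0], [29], [1, 2, 0]⟩, ⟨[-1, 0, 0, 0], [], [1, 0]⟩, ⟨[0, -1, -1, 0], [32], [0]⟩, ⟨[0, -1, -1, 0], [33, 43], [3, 2, 1, 2]⟩, ⟨[0, 0, 0, -1], [], [3, 2, 1]⟩, ⟨[0, 0, 0, -1], [],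 [2, 1]⟩, ⟨[-1, 0, 0, 0], [35], [1, 2, 3]⟩, ⟨[-1, 0, 0, 0], [36], [1, 2]⟩, ⟨[-1, 0, 0, 0], [], [1]⟩, ⟨[0, 0, 0, -1], [37, 46], [3, 2]⟩, ⟨[0, 0, 0, -1], [38, 47], [2]⟩, ⟨[0, -1, -1, 0], [], [3]⟩, ⟨[0, -1, -1, 0], [], []⟩, ⟨[0, 0, 0, -1], [], []⟩, ⟨[0, 0, 0, -1], [], []⟩, ⟨[-1, 0, 0, 0], [40], []⟩, ⟨[-1, 0, 0, 0], [], []⟩, ⟨[-1, 0, 0, 0], [], []⟩, ⟨[0, 0, 0, -1], [], []⟩, ⟨[0, 0, 0, -1], [], []⟩, ⟨[0, -1, -1, 0], [], []⟩, ⟨[0, -1, -1, 0], [43], []⟩, ⟨[-1, 0, 0, 0], [44], []⟩, ⟨[-1, 0, 0, 0], [], []⟩, ⟨[-1, 0, 0, 0], [], []⟩, ⟨[0, 0, 0, -1], [46], []⟩, ⟨[0, 0, 0, -1], [47], []⟩, ⟨[], [], []⟩, ⟨[-1, 0, 0, 0], [], []⟩, ⟨[0, 0, 0, -1], [], []⟩, ⟨[0, 0, 0, -1], [], []⟩,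 ⟨[0, -1, -1, 0], [], []⟩, ⟨[-1, 0, 0, 0], [], []⟩, ⟨[0, -1, -1, 0], [], []⟩, ⟨[0, 0, 0, -1], [], []⟩, ⟨[0, 0, 0, -1], [], []⟩],
  [⟨[0, 0, 0, -1], [11, 30], [3, 2, 1, 2, 0, 1, 2, 3]⟩, ⟨[0, 0, -1, 0], [12, 31], [3, 2, 1, 2, 0, 1, 2]⟩, ⟨[0, 0, -1, 0], [13, 32], [3, 2, 1, 2, 0, 1]⟩, ⟨[-1, -1, 0, 0], [14], [1, 2, 3, 0, 1, 2, 1, 0]⟩, ⟨[0, 0, -1, 0], [], [3, 2, 1, 2, 0]⟩, ⟨[0, 0, -1, 0], [], [3, 2, 1, 0]⟩, ⟨[0, 0, 0, -1], [], [2, 1, 0]⟩, ⟨[], [], []⟩, ⟨[0, 0, -1, 0], [27], [1, 2, 3, 0, 1, 2]⟩, ⟨[0, 0, -1, 0], [28], [1, 2, 3, 0, 1]⟩, ⟨[0, 0, 0, -1], [29], [1, 2, 0, 1]⟩, ⟨[0, 0, 0, -1], [30], [1, 2, 3, 0]⟩, ⟨[0, 0, -1, 0], [31], [1, 2, 0]⟩, ⟨[0, 0, -1, 0], [32], [1,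 0]⟩, ⟨[-1, -1, 0, 0], [], [0]⟩, ⟨[0, 0, -1, 0], [34, 45], [3, 2, 1, 2]⟩, ⟨[0, 0, -1, 0], [35, 46], [3, 2, 1]⟩, ⟨[0, 0, 0, -1], [36, 47], [2, 1]⟩, ⟨[0, 0, 0, -1], [37], [1, 2, 3]⟩, ⟨[0, 0, -1, 0], [38], [1, 2]⟩, ⟨[0, 0, -1, 0], [39], [1]⟩, ⟨[0, 0, -1, 0], [], [3, 2]⟩, ⟨[0, 0, 0, -1], [], [2]⟩, ⟨[0, 0, -1, 0], [], [3]⟩, ⟨[0, 0, -1, 0], [], []⟩, ⟨[0, 0, 0, -1], [], []⟩, ⟨[0, 0, -1, 0], [], []⟩, ⟨[0, 0, -1, 0], [], []⟩, ⟨[0, 0, -1, 0], [], []⟩, ⟨[0, 0, 0, -1], [], []⟩, ⟨[0, 0, 0, -1], [], []⟩, ⟨[0, 0, -1, 0], [], []⟩, ⟨[0, 0, -1, 0], [], []⟩, ⟨[-1, -1, 0, 0], [44], []⟩, ⟨[0, 0, -1, 0], [45], []⟩, ⟨[0, 0, -1, 0], [46], []⟩, ⟨[0, 0, 0, -1], [47], []⟩, ⟨[0, 0, 0, -1],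 [], []⟩, ⟨[0, 0, -1, 0], [], []⟩, ⟨[0, 0, -1, 0], [], []⟩, ⟨[], [], []⟩, ⟨[0, 0, 0, -1], [], []⟩, ⟨[0, 0, -1, 0], [], []⟩, ⟨[0, 0, -1, 0], [], []⟩, ⟨[-1, -1, 0, 0], [], []⟩, ⟨[0, 0, -1, 0], [], []⟩, ⟨[0, 0, -1, 0], [], []⟩, ⟨[0, 0, 0, -1], [], []⟩],
  [⟨[-1, 0, 0, -2], [], [3, 2, 1, 2, 0, 1, 2, 3]⟩, ⟨[0, 0, -1, 0], [15], [2, 3, 1, 2, 0, 1, 2]⟩, ⟨[0, 0, -1, 0], [16], [2, 3, 1, 2, 0, 1]⟩, ⟨[-1, 0, 0, -2], [18, 0], [1, 2, 3, 1, 2, 0, 1, 2, 3, 1, 0]⟩, ⟨[0, 0, -1, 0], [21], [2, 3, 1, 2, 0]⟩, ⟨[0, 0, -1, 0], [23], [2, 3, 1, 0]⟩, ⟨[], [], []⟩, ⟨[0, -1, 0, 0], [], [1, 2, 3, 0, 1, 2, 1]⟩, ⟨[0, -1, 0, 0], [], [1, 2, 3, 0, 1, 2]⟩, ⟨[0, -1, 0, 0], [], [1, 2, 3, 0, 1]⟩, ⟨[0,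 -1, 0, 0], [33, 17], [1, 2, 0, 1]⟩, ⟨[0, -1, 0, 0], [], [1, 2, 3, 0]⟩, ⟨[0, -1, 0, 0], [34, 22], [1, 2, 0]⟩, ⟨[0, -1, 0, 0], [35, 25], [1, 0]⟩, ⟨[0, -1, 0, 0], [37, 30], [0]⟩, ⟨[0, 0, -1, 0], [], [3, 2, 1, 2]⟩, ⟨[0, 0, -1, 0], [], [3, 2, 1]⟩, ⟨[0, -1, 0, 0], [], [2, 1]⟩, ⟨[-1, 0, 0, -2], [], [1, 2, 3]⟩, ⟨[0, 0, -1, 0], [], [1, 2]⟩, ⟨[0, 0, -1, 0], [], [1]⟩, ⟨[0, 0, -1, 0], [], [3, 2]⟩, ⟨[0, -1, 0, 0], [], [2]⟩, ⟨[0, 0, -1, 0], [], [3]⟩, ⟨[0, 0, -1, 0], [42], []⟩, ⟨[0, -1, 0, 0], [], []⟩, ⟨[0, 0, -1, 0], [43], []⟩, ⟨[0, 0, -1, 0], [], []⟩, ⟨[0, 0, -1, 0], [], []⟩, ⟨[-1, 0, 0, -2], [44, 47], []⟩, ⟨[0, -1, 0, 0], [], []⟩, ⟨[0, 0, -1, 0], [45], []⟩, ⟨[0, 0, -1, 0],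 [46], []⟩, ⟨[0, -1, 0, 0], [], []⟩, ⟨[0, -1, 0, 0], [], []⟩, ⟨[0, -1, 0, 0], [], []⟩, ⟨[0, -1, 0, 0], [], []⟩, ⟨[0, -1, 0, 0], [], []⟩, ⟨[0, -1, 0, 0], [], []⟩, ⟨[0, -1, 0, 0], [], []⟩, ⟨[0, -1, 0, 0], [], []⟩, ⟨[], [], []⟩, ⟨[0, 0, -1, 0], [], []⟩, ⟨[0, 0, -1, 0], [], []⟩, ⟨[-1, 0, 0, -2], [], []⟩, ⟨[0, 0, -1, 0], [], []⟩, ⟨[0, 0, -1, 0], [], []⟩, ⟨[-1, 0, 0, -2], [], []⟩],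
  [⟨[0, 0, -1, -1], [15], [2, 3, 1, 2, 0, 1, 2, 3]⟩, ⟨[-1, 0, -2, 0], [], [3, 2, 1, 2, 0, 1, 2]⟩, ⟨[0, 0, -1, -1], [17], [3, 2, 1, 2, 0, 1]⟩, ⟨[-1, 0, -2, 0], [19, 1], [1, 2, 3, 1, 2, 0, 1, 2, 1, 0]⟩, ⟨[0, 0, -1, -1], [22], [3, 2, 1, 2, 0]⟩, ⟨[], [], []⟩, ⟨[0, 0, -1, -1], [24], [2, 1, 0]⟩, ⟨[0, -1, 0, 0], [], [1, 2, 3, 0, 1, 2, 1]⟩, ⟨[0, -1, 0, 0], [], [1, 2, 3, 0, 1, 2]⟩, ⟨[0, -1, 0, 0], [33, 16], [1, 2, 3, 0, 1]⟩, ⟨[0, -1, 0, 0], [], [1, 2, 0, 1]⟩, ⟨[0, -1, 0, 0], [34, 21], [1, 2, 3, 0]⟩, ⟨[0, -1, 0, 0], [], [1, 2, 0]⟩, ⟨[0, -1, 0, 0], [36, 26], [1, 0]⟩, ⟨[0, -1, 0, 0], [38, 31], [0]⟩, ⟨[0, 0, -1, -1], [], [3, 2, 1, 2]⟩, ⟨[0, -1, 0, 0], [], [3, 2, 1]⟩, ⟨[0,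 0, -1, -1], [], [2, 1]⟩, ⟨[0, 0, -1, -1], [], [1, 2, 3]⟩, ⟨[-1, 0, -2, 0], [], [1, 2]⟩, ⟨[0, 0, -1, -1], [], [1]⟩, ⟨[0, -1, 0, 0], [], [3, 2]⟩, ⟨[0, 0, -1, -1], [], [2]⟩, ⟨[0, 0, -1, -1], [41], [3]⟩, ⟨[0, 0, -1, -1], [], []⟩, ⟨[0, 0, -1, -1], [43], []⟩, ⟨[0, -1, 0, 0], [], []⟩, ⟨[0, 0, -1, -1], [], []⟩, ⟨[-1, 0, -2, 0], [44, 46], []⟩, ⟨[0, 0, -1, -1], [], []⟩, ⟨[0, 0, -1, -1], [45], []⟩, ⟨[0, -1, 0, 0], [], []⟩, ⟨[0, 0, -1, -1], [47], []⟩, ⟨[0, -1, 0, 0], [], []⟩, ⟨[0, -1, 0, 0], [], []⟩, ⟨[0, -1, 0, 0], [], []⟩, ⟨[0, -1, 0, 0], [], []⟩, ⟨[0, -1, 0, 0], [], []⟩, ⟨[0, -1, 0, 0], [], []⟩, ⟨[0, -1, 0, 0], [], []⟩, ⟨[0, -1, 0, 0], [], []⟩, ⟨[0, 0, -1, -1], [], []⟩,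 ⟨[], [], []⟩, ⟨[0, 0, -1, -1], [], []⟩, ⟨[-1, 0, -2, 0], [], []⟩, ⟨[0, 0, -1, -1], [], []⟩, ⟨[-1, 0, -2, 0], [], []⟩, ⟨[0, 0, -1, -1], [], []⟩],
  [⟨[0, 0, 0, -1], [16], [3, 2, 1, 2, 0, 1, 2, 3]⟩, ⟨[0, 0, 0, -1], [17], [3, 2, 1, 2, 0, 1, 2]⟩, ⟨[-1, -1, 0, 0], [], [3, 2, 1, 2, 0, 1]⟩, ⟨[-1, -1, 0, 0], [20, 2], [1, 2, 3, 0, 1, 2, 0, 1, 0]⟩, ⟨[], [], []⟩, ⟨[0, 0, 0, -1], [25], [3, 2, 1, 0]⟩, ⟨[0, 0, 0, -1], [26], [2, 1, 0]⟩, ⟨[-1, 0, 2, 0], [], [1, 2, 3, 0, 1, 2, 1]⟩, ⟨[-1, -1, 0, 0], [33, 15], [1, 2, 3, 0, 1, 2]⟩, ⟨[0, 0, 0, -1], [], [1, 2, 3, 0, 1]⟩, ⟨[0, 0, 0, -1], [], [1, 2, 0, 1]⟩, ⟨[0, 0, 0, -1], [35, 23], [1, 2, 3, 0]⟩, ⟨[0, 0, 0, -1], [36, 24], [1, 2, 0]⟩,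 ⟨[0, -1, -2, 0], [], [1, 0]⟩, ⟨[-1, -1, 0, 0], [39, 32], [0]⟩, ⟨[-1, -1, 0, 0], [], [3, 2, 1, 2]⟩, ⟨[0, 0, 0, -1], [], [3, 2, 1]⟩, ⟨[0, 0, 0, -1], [], [2, 1]⟩, ⟨[0, 0, 0, -1], [], [1, 2, 3]⟩, ⟨[0, 0, 0, -1], [], [1, 2]⟩, ⟨[-1, -1, 0, 0], [], [1]⟩, ⟨[0, 0, 0, -1], [41], [3, 2]⟩, ⟨[0, 0, 0, -1], [42], [2]⟩, ⟨[0, 0, 0, -1], [], [3]⟩, ⟨[0, 0, 0, -1], [], []⟩, ⟨[0, 0, 0, -1], [], []⟩, ⟨[0, 0, 0, -1], [], []⟩, ⟨[-1, -1, 0, 0], [44, 45], []⟩, ⟨[0, 0, 0, -1], [], []⟩, ⟨[0, 0, 0, -1], [], []⟩, ⟨[0, 0, 0, -1], [46], []⟩, ⟨[0, 0, 0, -1], [47], []⟩, ⟨[-1, -1, 0, 0], [], []⟩, ⟨[-1, -1, 0, 0], [], []⟩, ⟨[0, -1, -2, 0], [], []⟩, ⟨[0, 0, 0, -1], [], []⟩, ⟨[0, 0, 0, -1], [],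 []⟩, ⟨[0, 0, 0, -1], [], []⟩, ⟨[0, 0, 0, -1], [], []⟩, ⟨[-1, -1, 0, 0], [], []⟩, ⟨[-1, 0, 2, 0], [], []⟩, ⟨[0, 0, 0, -1], [], []⟩, ⟨[0, 0, 0, -1], [], []⟩, ⟨[], [], []⟩, ⟨[-1, -1, 0, 0], [], []⟩, ⟨[-1, -1, 0, 0], [], []⟩, ⟨[0, 0, 0, -1], [], []⟩, ⟨[0, 0, 0, -1], [], []⟩],
  [⟨[0, 0, 0, -1], [18, 41], [3, 2, 1, 2, 0, 1, 2, 3]⟩, ⟨[0, 0, -1, 0], [19, 42], [3, 2, 1, 2, 0, 1, 2]⟩, ⟨[0, 0, -1, 0], [20, 43], [3, 2, 1, 2, 0, 1]⟩, ⟨[], [], []⟩, ⟨[0, 0, -1, 0], [27, 45], [3, 2, 1, 2, 0]⟩, ⟨[0, 0, -1, 0], [28, 46], [3, 2, 1, 0]⟩, ⟨[0, 0, 0, -1], [29, 47], [2, 1, 0]⟩, ⟨[0, -1, 0, 0], [33], [1, 2, 3, 0, 1, 2, 1]⟩, ⟨[0, -1, 0, 0], [34], [1, 2, 3, 0, 1, 2]⟩, ⟨[0, -1, 0, 0],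 [35], [1, 2, 3, 0, 1]⟩, ⟨[0, -1, 0, 0], [36], [1, 2, 0, 1]⟩, ⟨[0, -1, 0, 0], [37], [1, 2, 3, 0]⟩, ⟨[0, -1, 0, 0], [38], [1, 2, 0]⟩, ⟨[0, -1, 0, 0], [39], [1, 0]⟩, ⟨[0, -1, 0, 0], [40], [0]⟩, ⟨[0, 0, -1, 0], [], [3, 2, 1, 2]⟩, ⟨[0, 0, -1, 0], [], [3, 2, 1]⟩, ⟨[0, 0, 0, -1], [], [2, 1]⟩, ⟨[0, 0, 0, -1], [41], [1, 2, 3]⟩, ⟨[0, 0, -1, 0], [42], [1, 2]⟩, ⟨[0, 0, -1, 0], [43], [1]⟩, ⟨[0, 0, -1, 0], [], [3, 2]⟩, ⟨[0, 0, 0, -1], [], [2]⟩, ⟨[0, 0, -1, 0], [], [3]⟩, ⟨[0, 0, -1, 0], [], []⟩, ⟨[0, 0, 0, -1], [], []⟩, ⟨[0, 0, -1, 0], [], []⟩, ⟨[0, 0, -1, 0], [45], []⟩, ⟨[0, 0, -1, 0], [46], []⟩, ⟨[0, 0, 0, -1], [47], []⟩, ⟨[0, 0, 0, -1], [], []⟩, ⟨[0, 0, -1, 0], [], []⟩,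 ⟨[0, 0, -1, 0], [], []⟩, ⟨[0, -1, 0, 0], [], []⟩, ⟨[0, -1, 0, 0], [], []⟩, ⟨[0, -1, 0, 0], [], []⟩, ⟨[0, -1, 0, 0], [], []⟩, ⟨[0, -1, 0, 0], [], []⟩, ⟨[0, -1, 0, 0], [], []⟩, ⟨[0, -1, 0, 0], [], []⟩, ⟨[0, -1, 0, 0], [], []⟩, ⟨[0, 0, 0, -1], [], []⟩, ⟨[0, 0, -1, 0], [], []⟩, ⟨[0, 0, -1, 0], [], []⟩, ⟨[], [], []⟩, ⟨[0, 0, -1, 0], [], []⟩, ⟨[0, 0, -1, 0], [], []⟩, ⟨[0, 0, 0, -1], [], []⟩],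
  [⟨[0, 0, 0, -1], [21], [3, 2, 1, 2, 0, 1, 2, 3]⟩, ⟨[0, 0, 0, -1], [22], [3, 2, 1, 2, 0, 1, 2]⟩, ⟨[], [], []⟩, ⟨[-1, 0, 0, 0], [27, 4], [1, 2, 3, 0, 1, 2, 1, 0]⟩, ⟨[-1, 0, 0, 0], [], [3, 2, 1, 2, 0]⟩, ⟨[0, 0, 0, -1], [30], [3, 2, 1, 0]⟩, ⟨[0, 0, 0, -1], [31], [2, 1, 0]⟩, ⟨[-1, 0, 0, 0], [34, 15], [1, 2, 3, 0, 1, 2, 1]⟩, ⟨[0, -1, -2, 0], [], [1, 2, 3, 0, 1, 2]⟩, ⟨[0, 0, 0, -1], [37, 23], [1, 2, 3, 0, 1]⟩, ⟨[0, 0, 0, -1], [38, 24], [1, 2, 0, 1]⟩, ⟨[-1, 0, 0, 0], [], [1, 2, 3, 0]⟩, ⟨[-1, 0, 0, 0], [], [1, 2, 0]⟩, ⟨[-1, 0, 0, 0], [40, 32], [1, 0]⟩, ⟨[0, -1, -2, 0], [], [0]⟩, ⟨[-1, 0, 0, 0], [], [3, 2, 1, 2]⟩, ⟨[0, 0, 0, -1], [41], [3, 2, 1]⟩, ⟨[0, 0, 0, -1], [42],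 [2, 1]⟩, ⟨[-1, 0, 0, 0], [], [1, 2, 3]⟩, ⟨[-1, 0, 0, 0], [], [1, 2]⟩, ⟨[-1, 0, 0, 0], [44, 43], [1]⟩, ⟨[0, 0, 0, -1], [], [3, 2]⟩, ⟨[0, 0, 0, -1], [], [2]⟩, ⟨[0, 0, 0, -1], [], [3]⟩, ⟨[0, 0, 0, -1], [], []⟩, ⟨[0, 0, 0, -1], [46], []⟩, ⟨[0, 0, 0, -1], [47], []⟩, ⟨[-1, 0, 0, 0], [], []⟩, ⟨[-1, 0, 0, 0], [], []⟩, ⟨[-1, 0, 0, 0], [], []⟩, ⟨[0, 0, 0, -1], [], []⟩, ⟨[0, 0, 0, -1], [], []⟩, ⟨[-1, 0, 0, 0], [], []⟩, ⟨[0, -1, -2, 0], [], []⟩, ⟨[-1, 0, 0, 0], [], []⟩, ⟨[-1, 0, 0, 0], [], []⟩, ⟨[-1, 0, 0, 0], [], []⟩, ⟨[0, 0, 0, -1], [], []⟩, ⟨[0, 0, 0, -1], [], []⟩, ⟨[0, -1, -2, 0], [], []⟩, ⟨[-1, 0, 0, 0], [], []⟩, ⟨[0, 0, 0, -1], [], []⟩, ⟨[0, 0, 0, -1], [], []⟩, ⟨[-1,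 0, 0, 0], [], []⟩, ⟨[-1, 0, 0, 0], [], []⟩, ⟨[], [], []⟩, ⟨[0, 0, 0, -1], [], []⟩, ⟨[0, 0, 0, -1], [], []⟩],
  [⟨[0, 0, -1, -1], [23], [3, 2, 1, 2, 0, 1, 2, 3]⟩, ⟨[], [], []⟩, ⟨[0, 0, -1, -1], [25], [3, 2, 1, 2, 0, 1]⟩, ⟨[-1, 0, 0, 0], [28, 5], [1, 2, 3, 0, 1, 2, 1, 0]⟩, ⟨[0, 0, -1, -1], [30], [3, 2, 1, 2, 0]⟩, ⟨[-1, 0, 0, 0], [], [3, 2, 1, 0]⟩, ⟨[0, 0, -1, -1], [32], [2, 1, 0]⟩, ⟨[-1, 0, 0, 0], [35, 16], [1, 2, 3, 0, 1, 2, 1]⟩, ⟨[0, -1, 0, 0], [37, 21], [1, 2, 3, 0, 1, 2]⟩, ⟨[0, -1, 0, 0], [], [1, 2, 3, 0, 1]⟩, ⟨[0, -1, 0, 0], [39, 26], [1, 2, 0, 1]⟩, ⟨[-1, 0, 0, 0], [], [1, 2, 3, 0]⟩, ⟨[-1, 0, 0, 0], [40, 31], [1, 2, 0]⟩, ⟨[-1, 0, 0, 0], [], [1, 0]⟩, ⟨[0, -1,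 0, 0], [], [0]⟩, ⟨[0, 0, -1, -1], [41], [3, 2, 1, 2]⟩, ⟨[-1, 0, 0, 0], [], [3, 2, 1]⟩, ⟨[0, 0, -1, -1], [43], [2, 1]⟩, ⟨[-1, 0, 0, 0], [], [1, 2, 3]⟩, ⟨[-1, 0, 0, 0], [44, 42], [1, 2]⟩, ⟨[-1, 0, 0, 0], [], [1]⟩, ⟨[0, -1, 0, 0], [], [3, 2]⟩, ⟨[0, 0, -1, -1], [45], [2]⟩, ⟨[0, 0, -1, -1], [], [3]⟩, ⟨[0, 0, -1, -1], [47], []⟩, ⟨[0, 0, -1, -1], [], []⟩, ⟨[0, -1, 0, 0], [], []⟩, ⟨[-1, 0, 0, 0], [], []⟩, ⟨[-1, 0, 0, 0], [], []⟩, ⟨[-1, 0, 0, 0], [], []⟩, ⟨[0, 0, -1, -1], [], []⟩, ⟨[-1, 0, 0, 0], [], []⟩, ⟨[0, 0, -1, -1], [], []⟩, ⟨[0, -1, 0, 0], [], []⟩, ⟨[-1, 0, 0, 0], [], []⟩, ⟨[-1, 0, 0, 0], [], []⟩, ⟨[-1, 0, 0, 0], [], []⟩, ⟨[0, -1, 0, 0], [], []⟩, ⟨[0, -1, 0, 0],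 [], []⟩, ⟨[0, -1, 0, 0], [], []⟩, ⟨[-1, 0, 0, 0], [], []⟩, ⟨[0, 0, -1, -1], [], []⟩, ⟨[-1, 0, 0, 0], [], []⟩, ⟨[0, 0, -1, -1], [], []⟩, ⟨[-1, 0, 0, 0], [], []⟩, ⟨[0, 0, -1, -1], [], []⟩, ⟨[], [], []⟩, ⟨[0, 0, -1, -1], [], []⟩],
  [⟨[], [], []⟩, ⟨[0, 0, -1, 0], [24], [3, 2, 1, 2, 0, 1, 2]⟩, ⟨[0, 0, -1, 0], [26], [3, 2, 1, 2, 0, 1]⟩, ⟨[-1, 0, 0, 0], [29, 6], [1, 2, 3, 0, 1, 2, 1, 0]⟩, ⟨[0, 0, -1, 0], [31], [3, 2, 1, 2, 0]⟩, ⟨[0, 0, -1, 0], [32], [3, 2, 1, 0]⟩, ⟨[-1, 0, 0, 0], [], [2, 1, 0]⟩, ⟨[-1, 0, 0, 0], [36, 17], [1, 2, 3, 0, 1, 2, 1]⟩, ⟨[0, -1, 0, 0], [38, 22], [1, 2, 3, 0, 1, 2]⟩, ⟨[0, -1, 0, 0], [39, 25], [1, 2, 3, 0, 1]⟩, ⟨[0, -1, 0, 0], [], [1, 2, 0, 1]⟩,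 ⟨[-1, 0, 0, 0], [40, 30], [1, 2, 3, 0]⟩, ⟨[-1, 0, 0, 0], [], [1, 2, 0]⟩, ⟨[-1, 0, 0, 0], [], [1, 0]⟩, ⟨[0, -1, 0, 0], [], [0]⟩, ⟨[0, 0, -1, 0], [42], [3, 2, 1, 2]⟩, ⟨[0, 0, -1, 0], [43], [3, 2, 1]⟩, ⟨[-1, 0, 0, 0], [], [2, 1]⟩, ⟨[-1, 0, 0, 0], [44, 41], [1, 2, 3]⟩, ⟨[-1, 0, 0, 0], [], [1, 2]⟩, ⟨[-1, 0, 0, 0], [], [1]⟩, ⟨[0, 0, -1, 0], [45], [3, 2]⟩, ⟨[0, -1, 0, 0], [], [2]⟩, ⟨[0, 0, -1, 0], [46], [3]⟩, ⟨[0, 0, -1, 0], [], []⟩, ⟨[0, -1, 0, 0], [], []⟩, ⟨[0, 0, -1, 0], [], []⟩, ⟨[-1, 0, 0, 0], [], []⟩, ⟨[-1, 0, 0, 0], [], []⟩, ⟨[-1, 0, 0, 0], [], []⟩, ⟨[-1, 0, 0, 0], [], []⟩, ⟨[0, 0, -1, 0], [], []⟩, ⟨[0, 0, -1, 0], [], []⟩, ⟨[0, -1, 0, 0], [], []⟩, ⟨[-1, 0, 0,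 0], [], []⟩, ⟨[-1, 0, 0, 0], [], []⟩, ⟨[-1, 0, 0, 0], [], []⟩, ⟨[0, -1, 0, 0], [], []⟩, ⟨[0, -1, 0, 0], [], []⟩, ⟨[0, -1, 0, 0], [], []⟩, ⟨[-1, 0, 0, 0], [], []⟩, ⟨[-1, 0, 0, 0], [], []⟩, ⟨[0, 0, -1, 0], [], []⟩, ⟨[0, 0, -1, 0], [], []⟩, ⟨[-1, 0, 0, 0], [], []⟩, ⟨[0, 0, -1, 0], [], []⟩, ⟨[0, 0, -1, 0], [], []⟩, ⟨[], [], []⟩]]

def tbl (r s : ℕ) : Cert := (tblL.getD r []).getD s ⟨[], [], []⟩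

def mu1L : List (List ℤ) := [[0, 0, 0, -1], [0, 0, -1, 0], [0, 0, 1, 0], [-1, 0, 0, 0], [0, 0, -1, 0], [0, 0, 0, -1], [0, 0, 0, 1], [0, -1, 0, 0], [0, 0, -1, 0], [0, -1, 0, 0], [0, -1, 0, 0], [-1, 0, 0, 0], [-1, 0, 0, 0], [-1, 0, 0, 0], [0, 1, 0, 0], [0, 0, -1, 0], [0, 0, 0, -1], [0, 0, 0, 1], [0, 0, 0, -1], [0, 0, -1, 0], [0, 0, 1, 0], [0, 0, -1, 0], [0, 0, 0, 1], [0, 0, 1, 0], [0, 0, -1, 0], [0, 0, 0, -1], [0, 0, 0, 1], [-1, 0, 0, 0], [-1, 0, 0, 0], [-1, 0, 0, 0], [0, 0, 0, -1], [0, 0, -1, 0], [0, 0, 1, 0], [0, -1, 0, 0], [0, 0, -1, 0], [0, -1, 0, 0], [0, -1, 0, 0], [0, 0, 0, -1], [0, 0, -1, 0], [0, -1, 0, 0], [-1, 0, 0, 0], [0, 0, 0, -1], [0, 0, -1, 0], [0,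 0, 1, 0], [1, 0, 0, 0], [0, 0, -1, 0], [0, 0, 0, -1], [0, 0, 0, 1]]

def mu1 (r : ℕ) : List ℤ := mu1L.getD r []

def dec1L : List (ℕ × ℕ × ℤ) := [(1, 23, 1), (0, 24, 1), (0, 26, 1), (7, 14, 1), (0, 31, -1), (0, 32, 1), (1, 32, 1), (3, 33, 1), (3, 34, 1), (3, 35, -1), (3, 36, 1), (3, 37, -1), (3, 38, 1), (3, 39, -1), (3, 40, -1), (0, 42, -1), (0, 43, 1), (1, 43, 1), (7, 37, -1), (7, 38, 1), (7, 39, -1), (0, 45, -1), (1, 45, -1), (0, 46, -1), (1, 47, -1), (2, 46, -1), (2, 47, -1), (8, 40, -1), (9, 40, 1), (10, 40, -1), (4, 46, 1), (4, 47, 1), (5, 47, -1), (7, 44, -1), (8, 44, -1), (9, 44, 1), (10, 44, -1), (11, 44, 1), (12, 44, -1), (13, 44, 1), (14, 44, 1), (15,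 46, 1), (15, 47, 1), (16, 47, -1), (33, 40, 1), (21, 47, 1), (23, 47, 1), (24, 46, 1)]

def dec1 (r : ℕ) : ℕ × ℕ × ℤ := dec1L.getD r (0, 0, 0)

def dec2L : List (List (ℕ × ℕ × ℤ)) := [
  [(0, 0, 0), (0, 0, 0), (0, 0, 0), (0, 0, 0), (0, 0, 0), (0, 0, 0), (10, 14, 2), (0, 0, 0), (0, 0, 0), (0, 0, 0), (0, 0, 0), (0, 0, 0), (0, 0, 0), (0, 0, 0), (0, 0, 0), (0, 0, 0), (0, 0, 0), (10, 33, -2), (0, 0, 0), (0, 0, 0), (0, 0, 0), (0, 0, 0), (12, 34, -2), (0, 0, 0), (0, 0, 0), (13, 35, -2), (0, 0, 0), (0, 0, 0), (0, 0, 0), (0, 0, 0), (14, 37, -2), (0, 0, 0), (0, 0, 0), (0, 0, 0), (0, 0, 0), (0, 0, 0), (0, 0, 0), (0, 0, 0), (0, 0, 0), (0, 0, 0), (0, 0, 0), (33, 37, 2), (0,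 0, 0), (0, 0, 0), (0, 0, 0), (0, 0, 0), (0, 0, 0), (0, 0, 0)],
  [(0, 0, 0), (0, 0, 0), (0, 0, 0), (0, 0, 0), (0, 0, 0), (9, 14, 2), (0, 0, 0), (0, 0, 0), (0, 0, 0), (0, 0, 0), (0, 0, 0), (0, 0, 0), (0, 0, 0), (0, 0, 0), (0, 0, 0), (0, 0, 0), (9, 33, -2), (0, 0, 0), (0, 0, 0), (0, 0, 0), (0, 0, 0), (11, 34, -2), (0, 0, 0), (0, 0, 0), (0, 0, 0), (0, 0, 0), (13, 36, -2), (0, 0, 0), (0, 0, 0), (0, 0, 0), (0, 0, 0), (14, 38, -2), (0, 0, 0), (0, 0, 0), (0, 0, 0), (0, 0, 0), (0, 0, 0), (0, 0, 0), (0, 0, 0), (0, 0, 0), (0, 0, 0), (0, 0, 0), (33, 38, 2), (0, 0, 0), (0, 0, 0), (0, 0, 0), (0, 0, 0), (0, 0, 0)],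
  [(0, 0, 0), (0, 0, 0), (0, 0, 0), (0, 0, 0), (8, 14, 2), (0, 0, 0), (0, 0, 0), (0, 0, 0), (0, 0, 0), (0, 0, 0), (0, 0, 0), (0, 0, 0), (0, 0, 0), (0, 0, 0), (0, 0, 0), (8, 33, -2), (0, 0, 0), (0, 0, 0), (0, 0, 0), (0, 0, 0), (0, 0, 0), (0, 0, 0), (0, 0, 0), (11, 35, -2), (12, 36, -2), (0, 0, 0), (0, 0, 0), (0, 0, 0), (0, 0, 0), (0, 0, 0), (0, 0, 0), (0, 0, 0), (14, 39, -2), (0, 0, 0), (0, 0, 0), (0, 0, 0), (0, 0, 0), (0, 0, 0), (0, 0, 0), (0, 0, 0), (0, 0, 0), (0, 0, 0), (0, 0, 0), (33, 39, 2), (0, 0, 0), (0, 0, 0), (0, 0, 0), (0, 0, 0)],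
  [(0, 0, 0), (0, 0, 0), (0, 0, 0), (0, 0, 0), (0, 0, 0), (0, 0, 0), (0, 0, 0), (0, 0, 0), (0, 0, 0), (0, 0, 0), (0, 0, 0), (0, 0, 0), (0, 0, 0), (0, 0, 0), (0, 0, 0), (0, 0, 0), (0, 0, 0), (0, 0, 0), (0, 0, 0), (0, 0, 0), (0, 0, 0), (0, 0, 0), (0, 0, 0), (0, 0, 0), (0, 0, 0), (0, 0, 0), (0, 0, 0), (0, 0, 0), (0, 0, 0), (0, 0, 0), (0, 0, 0), (0, 0, 0), (0, 0, 0), (0, 0, 0), (0, 0, 0), (0, 0, 0), (0, 0, 0), (0, 0, 0), (0, 0, 0), (0, 0, 0), (0, 0, 0), (0, 0, 0), (0, 0, 0), (0, 0, 0), (0, 0, 0), (0, 0, 0), (0, 0, 0), (0, 0, 0)],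
  [(0, 0, 0), (0, 0, 0), (7, 13, 2), (0, 0, 0), (0, 0, 0), (0, 0, 0), (0, 0, 0), (0, 0, 0), (0, 0, 0), (0, 0, 0), (0, 0, 0), (0, 0, 0), (0, 0, 0), (0, 0, 0), (0, 0, 0), (7, 34, -2), (0, 0, 0), (0, 0, 0), (0, 0, 0), (0, 0, 0), (0, 0, 0), (0, 0, 0), (0, 0, 0), (9, 37, -2), (10, 38, -2), (0, 0, 0), (0, 0, 0), (0, 0, 0), (0, 0, 0), (0, 0, 0), (0, 0, 0), (0, 0, 0), (13, 40, -2), (0, 0, 0), (0, 0, 0), (0, 0, 0), (0, 0, 0), (0, 0, 0), (0, 0, 0), (0, 0, 0), (0, 0, 0), (0, 0, 0), (0, 0, 0), (0, 0, 0), (0, 0, 0), (34, 40, 2), (0, 0, 0), (0, 0, 0)],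
  [(0, 0, 0), (7, 12, 2), (0, 0, 0), (0, 0, 0), (0, 0, 0), (0, 0, 0), (0, 0, 0), (0, 0, 0), (0, 0, 0), (0, 0, 0), (0, 0, 0), (0, 0, 0), (0, 0, 0), (0, 0, 0), (0, 0, 0), (0, 0, 0), (7, 35, 2), (0, 0, 0), (0, 0, 0), (0, 0, 0), (0, 0, 0), (8, 37, 2), (0, 0, 0), (0, 0, 0), (0, 0, 0), (0, 0, 0), (10, 39, 2), (0, 0, 0), (0, 0, 0), (0, 0, 0), (0, 0, 0), (12, 40, 2), (0, 0, 0), (0, 0, 0), (0, 0, 0), (0, 0, 0), (0, 0, 0), (0, 0, 0), (0, 0, 0), (0, 0, 0), (0, 0, 0), (0, 0, 0), (0, 0, 0), (0, 0, 0), (0, 0, 0), (0, 0, 0), (35, 40, 2), (0, 0, 0)],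
  [(7, 11, 2), (0, 0, 0), (0, 0, 0), (0, 0, 0), (0, 0, 0), (0, 0, 0), (0, 0, 0), (0, 0, 0), (0, 0, 0), (0, 0, 0), (0, 0, 0), (0, 0, 0), (0, 0, 0), (0, 0, 0), (0, 0, 0), (0, 0, 0), (0, 0, 0), (7, 36, -2), (0, 0, 0), (0, 0, 0), (0, 0, 0), (0, 0, 0), (8, 38, -2), (0, 0, 0), (0, 0, 0), (9, 39, -2), (0, 0, 0), (0, 0, 0), (0, 0, 0), (0, 0, 0), (11, 40, -2), (0, 0, 0), (0, 0, 0), (0, 0, 0), (0, 0, 0), (0, 0, 0), (0, 0, 0), (0, 0, 0), (0, 0, 0), (0, 0, 0), (0, 0, 0), (0, 0, 0), (0, 0, 0), (0, 0, 0), (0, 0, 0), (0, 0, 0), (0, 0, 0), (36, 40, 2)],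
  [(0, 0, 0), (0, 0, 0), (0, 0, 0), (0, 0, 0), (0, 0, 0), (0, 0, 0), (0, 0, 0), (0, 0, 0), (0, 0, 0), (0, 0, 0), (0, 0, 0), (0, 0, 0), (0, 0, 0), (0, 0, 0), (0, 0, 0), (0, 0, 0), (0, 0, 0), (0, 0, 0), (0, 0, 0), (0, 0, 0), (0, 0, 0), (0, 0, 0), (0, 0, 0), (0, 0, 0), (0, 0, 0), (0, 0, 0), (0, 0, 0), (0, 0, 0), (0, 0, 0), (0, 0, 0), (0, 0, 0), (0, 0, 0), (0, 0, 0), (0, 0, 0), (0, 0, 0), (0, 0, 0), (0, 0, 0), (0, 0, 0), (0, 0, 0), (0, 0, 0), (0, 0, 0), (0, 0, 0), (0, 0, 0), (0, 0, 0), (0, 0, 0), (0, 0, 0), (0, 0, 0), (0, 0, 0)],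
  [(0, 0, 0), (0, 0, 0), (0, 0, 0), (0, 0, 0), (0, 0, 0), (0, 0, 0), (0, 0, 0), (0, 0, 0), (0, 0, 0), (0, 0, 0), (0, 0, 0), (0, 0, 0), (0, 0, 0), (0, 0, 0), (0, 0, 0), (0, 0, 0), (0, 0, 0), (0, 0, 0), (0, 0, 0), (0, 0, 0), (0, 0, 0), (0, 0, 0), (0, 0, 0), (0, 0, 0), (0, 0, 0), (0, 0, 0), (0, 0, 0), (0, 0, 0), (0, 0, 0), (0, 0, 0), (0, 0, 0), (0, 0, 0), (0, 0, 0), (0, 0, 0), (0, 0, 0), (0, 0, 0), (0, 0, 0), (0, 0, 0), (0, 0, 0), (0, 0, 0), (0, 0, 0), (0, 0, 0), (0, 0, 0), (0, 0, 0), (0, 0, 0), (0, 0, 0), (0, 0, 0), (0, 0, 0)],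
  [(0, 0, 0), (0, 0, 0), (0, 0, 0), (0, 0, 0), (0, 0, 0), (0, 0, 0), (0, 0, 0), (0, 0, 0), (0, 0, 0), (0, 0, 0), (0, 0, 0), (0, 0, 0), (0, 0, 0), (0, 0, 0), (0, 0, 0), (0, 0, 0), (0, 0, 0), (0, 0, 0), (0, 0, 0), (0, 0, 0), (0, 0, 0), (0, 0, 0), (0, 0, 0), (0, 0, 0), (0, 0, 0), (0, 0, 0), (0, 0, 0), (0, 0, 0), (0, 0, 0), (0, 0, 0), (0, 0, 0), (0, 0, 0), (0, 0, 0), (0, 0, 0), (0, 0, 0), (0, 0, 0), (0, 0, 0), (0, 0, 0), (0, 0, 0), (0, 0, 0), (0, 0, 0), (0, 0, 0), (0, 0, 0), (0, 0, 0), (0, 0, 0), (0, 0, 0), (0, 0, 0), (0, 0, 0)],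
  [(0, 0, 0), (0, 0, 0), (0, 0, 0), (0, 0, 0), (0, 0, 0), (0, 0, 0), (0, 0, 0), (0, 0, 0), (0, 0, 0), (0, 0, 0), (0, 0, 0), (0, 0, 0), (0, 0, 0), (0, 0, 0), (0, 0, 0), (0, 0, 0), (0, 0, 0), (0, 0, 0), (0, 0, 0), (0, 0, 0), (0, 0, 0), (0, 0, 0), (0, 0, 0), (0, 0, 0), (0, 0, 0), (0, 0, 0), (0, 0, 0), (0, 0, 0), (0, 0, 0), (0, 0, 0), (0, 0, 0), (0, 0, 0), (0, 0, 0), (0, 0, 0), (0, 0, 0), (0, 0, 0), (0, 0, 0), (0, 0, 0), (0, 0, 0), (0, 0, 0), (0, 0, 0), (0, 0, 0), (0, 0, 0), (0, 0, 0), (0, 0, 0), (0, 0, 0), (0, 0, 0), (0, 0, 0)],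
  [(0, 0, 0), (0, 0, 0), (0, 0, 0), (0, 0, 0), (0, 0, 0), (0, 0, 0), (0, 0, 0), (0, 0, 0), (0, 0, 0), (0, 0, 0), (0, 0, 0), (0, 0, 0), (0, 0, 0), (0, 0, 0), (0, 0, 0), (0, 0, 0), (0, 0, 0), (0, 0, 0), (0, 0, 0), (0, 0, 0), (0, 0, 0), (0, 0, 0), (0, 0, 0), (0, 0, 0), (0, 0, 0), (0, 0, 0), (0, 0, 0), (0, 0, 0), (0, 0, 0), (0, 0, 0), (0, 0, 0), (0, 0, 0), (0, 0, 0), (0, 0, 0), (0, 0, 0), (0, 0, 0), (0, 0, 0), (0, 0, 0), (0, 0, 0), (0, 0, 0), (0, 0, 0), (0, 0, 0), (0, 0, 0), (0, 0, 0), (0, 0, 0), (0, 0, 0), (0, 0, 0), (0, 0, 0)],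
  [(0, 0, 0), (0, 0, 0), (0, 0, 0), (0, 0, 0), (0, 0, 0), (0, 0, 0), (0, 0, 0), (0, 0, 0), (0, 0, 0), (0, 0, 0), (0, 0, 0), (0, 0, 0), (0, 0, 0), (0, 0, 0), (0, 0, 0), (0, 0, 0), (0, 0, 0), (0, 0, 0), (0, 0, 0), (0, 0, 0), (0, 0, 0), (0, 0, 0), (0, 0, 0), (0, 0, 0), (0, 0, 0), (0, 0, 0), (0, 0, 0), (0, 0, 0), (0, 0, 0), (0, 0, 0), (0, 0, 0), (0, 0, 0), (0, 0, 0), (0, 0, 0), (0, 0, 0), (0, 0, 0), (0, 0, 0), (0, 0, 0), (0, 0, 0), (0, 0, 0), (0, 0, 0), (0, 0, 0), (0, 0, 0), (0, 0, 0), (0, 0, 0), (0, 0, 0), (0, 0, 0), (0, 0, 0)],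
  [(0, 0, 0), (0, 0, 0), (0, 0, 0), (0, 0, 0), (0, 0, 0), (0, 0, 0), (0, 0, 0), (0, 0, 0), (0, 0, 0), (0, 0, 0), (0, 0, 0), (0, 0, 0), (0, 0, 0), (0, 0, 0), (0, 0, 0), (0, 0, 0), (0, 0, 0), (0, 0, 0), (0, 0, 0), (0, 0, 0), (0, 0, 0), (0, 0, 0), (0, 0, 0), (0, 0, 0), (0, 0, 0), (0, 0, 0), (0, 0, 0), (0, 0, 0), (0, 0, 0), (0, 0, 0), (0, 0, 0), (0, 0, 0), (0, 0, 0), (0, 0, 0), (0, 0, 0), (0, 0, 0), (0, 0, 0), (0, 0, 0), (0, 0, 0), (0, 0, 0), (0, 0, 0), (0, 0, 0), (0, 0, 0), (0, 0, 0), (0, 0, 0), (0, 0, 0), (0, 0, 0), (0, 0, 0)],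
  [(0, 0, 0), (0, 0, 0), (0, 0, 0), (0, 0, 0), (0, 0, 0), (0, 0, 0), (0, 0, 0), (0, 0, 0), (0, 0, 0), (0, 0, 0), (0, 0, 0), (0, 0, 0), (0, 0, 0), (0, 0, 0), (0, 0, 0), (0, 0, 0), (0, 0, 0), (0, 0, 0), (0, 0, 0), (0, 0, 0), (0, 0, 0), (0, 0, 0), (0, 0, 0), (0, 0, 0), (0, 0, 0), (0, 0, 0), (0, 0, 0), (0, 0, 0), (0, 0, 0), (0, 0, 0), (0, 0, 0), (0, 0, 0), (0, 0, 0), (0, 0, 0), (0, 0, 0), (0, 0, 0), (0, 0, 0), (0, 0, 0), (0, 0, 0), (0, 0, 0), (0, 0, 0), (0, 0, 0), (0, 0, 0), (0, 0, 0), (0, 0, 0), (0, 0, 0), (0, 0, 0), (0, 0, 0)],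
  [(0, 0, 0), (0, 0, 0), (3, 20, 2), (0, 0, 0), (3, 27, 2), (0, 0, 0), (0, 0, 0), (0, 0, 0), (0, 0, 0), (0, 0, 0), (0, 0, 0), (0, 0, 0), (0, 0, 0), (0, 0, 0), (0, 0, 0), (0, 0, 0), (0, 0, 0), (0, 0, 0), (0, 0, 0), (0, 0, 0), (0, 0, 0), (0, 0, 0), (0, 0, 0), (9, 37, -2), (10, 38, -2), (0, 0, 0), (0, 0, 0), (0, 0, 0), (0, 0, 0), (0, 0, 0), (0, 0, 0), (0, 0, 0), (0, 0, 0), (0, 0, 0), (0, 0, 0), (0, 0, 0), (0, 0, 0), (0, 0, 0), (0, 0, 0), (0, 0, 0), (0, 0, 0), (0, 0, 0), (0, 0, 0), (20, 44, 2), (0, 0, 0), (27, 44, 2), (0, 0, 0), (0, 0, 0)],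
  [(0, 0, 0), (3, 19, 2), (0, 0, 0), (0, 0, 0), (0, 0, 0), (3, 28, -2), (0, 0, 0), (0, 0, 0), (0, 0, 0), (0, 0, 0), (0, 0, 0), (0, 0, 0), (0, 0, 0), (0, 0, 0), (0, 0, 0), (0, 0, 0), (0, 0, 0), (0, 0, 0), (0, 0, 0), (0, 0, 0), (0, 0, 0), (8, 37, 2), (0, 0, 0), (0, 0, 0), (0, 0, 0), (0, 0, 0), (10, 39, 2), (0, 0, 0), (0, 0, 0), (0, 0, 0), (0, 0, 0), (0, 0, 0), (0, 0, 0), (0, 0, 0), (0, 0, 0), (0, 0, 0), (0, 0, 0), (0, 0, 0), (0, 0, 0), (0, 0, 0), (0, 0, 0), (0, 0, 0), (19, 44, -2), (0, 0, 0), (0, 0, 0), (0, 0, 0), (28, 44, 2), (0, 0, 0)],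
  [(3, 18, 2), (0, 0, 0), (0, 0, 0), (0, 0, 0), (0, 0, 0), (0, 0, 0), (3, 29, 2), (0, 0, 0), (0, 0, 0), (0, 0, 0), (0, 0, 0), (0, 0, 0), (0, 0, 0), (0, 0, 0), (0, 0, 0), (0, 0, 0), (0, 0, 0), (0, 0, 0), (0, 0, 0), (0, 0, 0), (0, 0, 0), (0, 0, 0), (8, 38, -2), (0, 0, 0), (0, 0, 0), (9, 39, -2), (0, 0, 0), (0, 0, 0), (0, 0, 0), (0, 0, 0), (0, 0, 0), (0, 0, 0), (0, 0, 0), (0, 0, 0), (0, 0, 0), (0, 0, 0), (0, 0, 0), (0, 0, 0), (0, 0, 0), (0, 0, 0), (0, 0, 0), (18, 44, 2), (0, 0, 0), (0, 0, 0), (0, 0, 0), (0, 0, 0), (0, 0, 0), (29, 44, 2)],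
  [(0, 0, 0), (0, 0, 0), (0, 0, 0), (0, 0, 0), (0, 0, 0), (0, 0, 0), (0, 0, 0), (0, 0, 0), (0, 0, 0), (0, 0, 0), (0, 0, 0), (0, 0, 0), (0, 0, 0), (0, 0, 0), (0, 0, 0), (0, 0, 0), (0, 0, 0), (0, 0, 0), (0, 0, 0), (0, 0, 0), (0, 0, 0), (0, 0, 0), (0, 0, 0), (0, 0, 0), (0, 0, 0), (0, 0, 0), (0, 0, 0), (0, 0, 0), (0, 0, 0), (0, 0, 0), (0, 0, 0), (0, 0, 0), (0, 0, 0), (0, 0, 0), (0, 0, 0), (0, 0, 0), (0, 0, 0), (0, 0, 0), (0, 0, 0), (0, 0, 0), (0, 0, 0), (0, 0, 0), (0, 0, 0), (0, 0, 0), (0, 0, 0), (0, 0, 0), (0, 0, 0), (0, 0, 0)],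
  [(0, 0, 0), (0, 0, 0), (0, 0, 0), (0, 0, 0), (0, 0, 0), (0, 0, 0), (0, 0, 0), (0, 0, 0), (0, 0, 0), (0, 0, 0), (0, 0, 0), (0, 0, 0), (0, 0, 0), (0, 0, 0), (0, 0, 0), (0, 0, 0), (0, 0, 0), (0, 0, 0), (0, 0, 0), (0, 0, 0), (0, 0, 0), (0, 0, 0), (0, 0, 0), (0, 0, 0), (0, 0, 0), (0, 0, 0), (0, 0, 0), (0, 0, 0), (0, 0, 0), (0, 0, 0), (0, 0, 0), (0, 0, 0), (0, 0, 0), (0, 0, 0), (0, 0, 0), (0, 0, 0), (0, 0, 0), (0, 0, 0), (0, 0, 0), (0, 0, 0), (0, 0, 0), (0, 0, 0), (0, 0, 0), (0, 0, 0), (0, 0, 0), (0, 0, 0), (0, 0, 0), (0, 0, 0)],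
  [(0, 0, 0), (0, 0, 0), (0, 0, 0), (0, 0, 0), (0, 0, 0), (0, 0, 0), (0, 0, 0), (0, 0, 0), (0, 0, 0), (0, 0, 0), (0, 0, 0), (0, 0, 0), (0, 0, 0), (0, 0, 0), (0, 0, 0), (0, 0, 0), (0, 0, 0), (0, 0, 0), (0, 0, 0), (0, 0, 0), (0, 0, 0), (0, 0, 0), (0, 0, 0), (0, 0, 0), (0, 0, 0), (0, 0, 0), (0, 0, 0), (0, 0, 0), (0, 0, 0), (0, 0, 0), (0, 0, 0), (0, 0, 0), (0, 0, 0), (0, 0, 0), (0, 0, 0), (0, 0, 0), (0, 0, 0), (0, 0, 0), (0, 0, 0), (0, 0, 0), (0, 0, 0), (0, 0, 0), (0, 0, 0), (0, 0, 0), (0, 0, 0), (0, 0, 0), (0, 0, 0), (0, 0, 0)],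
  [(0, 0, 0), (3, 19, 2), (0, 0, 0), (0, 0, 0), (0, 0, 0), (3, 28, -2), (0, 0, 0), (0, 0, 0), (0, 0, 0), (0, 0, 0), (0, 0, 0), (0, 0, 0), (0, 0, 0), (0, 0, 0), (0, 0, 0), (0, 0, 0), (7, 35, 2), (0, 0, 0), (0, 0, 0), (0, 0, 0), (0, 0, 0), (0, 0, 0), (0, 0, 0), (0, 0, 0), (0, 0, 0), (0, 0, 0), (0, 0, 0), (0, 0, 0), (0, 0, 0), (0, 0, 0), (0, 0, 0), (12, 40, 2), (0, 0, 0), (0, 0, 0), (0, 0, 0), (0, 0, 0), (0, 0, 0), (0, 0, 0), (0, 0, 0), (0, 0, 0), (0, 0, 0), (0, 0, 0), (19, 44, -2), (0, 0, 0), (0, 0, 0), (0, 0, 0), (28, 44, 2), (0, 0, 0)],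
  [(3, 18, 2), (0, 0, 0), (0, 0, 0), (0, 0, 0), (0, 0, 0), (0, 0, 0), (3, 29, 2), (0, 0, 0), (0, 0, 0), (0, 0, 0), (0, 0, 0), (0, 0, 0), (0, 0, 0), (0, 0, 0), (0, 0, 0), (0, 0, 0), (0, 0, 0), (7, 36, -2), (0, 0, 0), (0, 0, 0), (0, 0, 0), (0, 0, 0), (0, 0, 0), (0, 0, 0), (0, 0, 0), (0, 0, 0), (0, 0, 0), (0, 0, 0), (0, 0, 0), (0, 0, 0), (11, 40, -2), (0, 0, 0), (0, 0, 0), (0, 0, 0), (0, 0, 0), (0, 0, 0), (0, 0, 0), (0, 0, 0), (0, 0, 0), (0, 0, 0), (0, 0, 0), (18, 44, 2), (0, 0, 0), (0, 0, 0), (0, 0, 0), (0, 0, 0), (0, 0, 0), (29, 44, 2)],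
  [(0, 0, 0), (0, 0, 0), (3, 20, 2), (0, 0, 0), (3, 27, 2), (0, 0, 0), (0, 0, 0), (0, 0, 0), (0, 0, 0), (0, 0, 0), (0, 0, 0), (0, 0, 0), (0, 0, 0), (0, 0, 0), (0, 0, 0), (7, 34, -2), (0, 0, 0), (0, 0, 0), (0, 0, 0), (0, 0, 0), (0, 0, 0), (0, 0, 0), (0, 0, 0), (0, 0, 0), (0, 0, 0), (0, 0, 0), (0, 0, 0), (0, 0, 0), (0, 0, 0), (0, 0, 0), (0, 0, 0), (0, 0, 0), (13, 40, -2), (0, 0, 0), (0, 0, 0), (0, 0, 0), (0, 0, 0), (0, 0, 0), (0, 0, 0), (0, 0, 0), (0, 0, 0), (0, 0, 0), (0, 0, 0), (20, 44, 2), (0, 0, 0), (27, 44, 2), (0, 0, 0), (0, 0, 0)],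
  [(0, 0, 0), (0, 0, 0), (3, 20, 2), (0, 0, 0), (3, 27, 2), (0, 0, 0), (0, 0, 0), (0, 0, 0), (0, 0, 0), (0, 0, 0), (0, 0, 0), (0, 0, 0), (0, 0, 0), (0, 0, 0), (0, 0, 0), (7, 34, -2), (0, 0, 0), (0, 0, 0), (0, 0, 0), (0, 0, 0), (0, 0, 0), (0, 0, 0), (0, 0, 0), (0, 0, 0), (0, 0, 0), (0, 0, 0), (0, 0, 0), (0, 0, 0), (0, 0, 0), (0, 0, 0), (0, 0, 0), (0, 0, 0), (13, 40, -2), (0, 0, 0), (0, 0, 0), (0, 0, 0), (0, 0, 0), (0, 0, 0), (0, 0, 0), (0, 0, 0), (0, 0, 0), (0, 0, 0), (0, 0, 0), (20, 44, 2), (0, 0, 0), (27, 44, 2), (0, 0, 0), (0, 0, 0)],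
  [(3, 18, 2), (0, 0, 0), (0, 0, 0), (0, 0, 0), (0, 0, 0), (0, 0, 0), (3, 29, 2), (0, 0, 0), (0, 0, 0), (0, 0, 0), (0, 0, 0), (0, 0, 0), (0, 0, 0), (0, 0, 0), (0, 0, 0), (0, 0, 0), (0, 0, 0), (7, 36, -2), (0, 0, 0), (0, 0, 0), (0, 0, 0), (0, 0, 0), (0, 0, 0), (0, 0, 0), (0, 0, 0), (0, 0, 0), (0, 0, 0), (0, 0, 0), (0, 0, 0), (0, 0, 0), (11, 40, -2), (0, 0, 0), (0, 0, 0), (0, 0, 0), (0, 0, 0), (0, 0, 0), (0, 0, 0), (0, 0, 0), (0, 0, 0), (0, 0, 0), (0, 0, 0), (18, 44, 2), (0, 0, 0), (0, 0, 0), (0, 0, 0), (0, 0, 0), (0, 0, 0), (29, 44, 2)],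
  [(0, 0, 0), (3, 19, 2), (0, 0, 0), (0, 0, 0), (0, 0, 0), (3, 28, -2), (0, 0, 0), (0, 0, 0), (0, 0, 0), (0, 0, 0), (0, 0, 0), (0, 0, 0), (0, 0, 0), (0, 0, 0), (0, 0, 0), (0, 0, 0), (7, 35, 2), (0, 0, 0), (0, 0, 0), (0, 0, 0), (0, 0, 0), (0, 0, 0), (0, 0, 0), (0, 0, 0), (0, 0, 0), (0, 0, 0), (0, 0, 0), (0, 0, 0), (0, 0, 0), (0, 0, 0), (0, 0, 0), (12, 40, 2), (0, 0, 0), (0, 0, 0), (0, 0, 0), (0, 0, 0), (0, 0, 0), (0, 0, 0), (0, 0, 0), (0, 0, 0), (0, 0, 0), (0, 0, 0), (19, 44, -2), (0, 0, 0), (0, 0, 0), (0, 0, 0), (28, 44, 2), (0, 0, 0)],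
  [(0, 0, 0), (0, 0, 0), (0, 0, 0), (0, 0, 0), (0, 0, 0), (0, 0, 0), (0, 0, 0), (0, 0, 0), (0, 0, 0), (0, 0, 0), (0, 0, 0), (0, 0, 0), (0, 0, 0), (0, 0, 0), (0, 0, 0), (0, 0, 0), (0, 0, 0), (0, 0, 0), (0, 0, 0), (0, 0, 0), (0, 0, 0), (0, 0, 0), (0, 0, 0), (0, 0, 0), (0, 0, 0), (0, 0, 0), (0, 0, 0), (0, 0, 0), (0, 0, 0), (0, 0, 0), (0, 0, 0), (0, 0, 0), (0, 0, 0), (0, 0, 0), (0, 0, 0), (0, 0, 0), (0, 0, 0), (0, 0, 0), (0, 0, 0), (0, 0, 0), (0, 0, 0), (0, 0, 0), (0, 0, 0), (0, 0, 0), (0, 0, 0), (0, 0, 0), (0, 0, 0), (0, 0, 0)],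
  [(0, 0, 0), (0, 0, 0), (0, 0, 0), (0, 0, 0), (0, 0, 0), (0, 0, 0), (0, 0, 0), (0, 0, 0), (0, 0, 0), (0, 0, 0), (0, 0, 0), (0, 0, 0), (0, 0, 0), (0, 0, 0), (0, 0, 0), (0, 0, 0), (0, 0, 0), (0, 0, 0), (0, 0, 0), (0, 0, 0), (0, 0, 0), (0, 0, 0), (0, 0, 0), (0, 0, 0), (0, 0, 0), (0, 0, 0), (0, 0, 0), (0, 0, 0), (0, 0, 0), (0, 0, 0), (0, 0, 0), (0, 0, 0), (0, 0, 0), (0, 0, 0), (0, 0, 0), (0, 0, 0), (0, 0, 0), (0, 0, 0), (0, 0, 0), (0, 0, 0), (0, 0, 0), (0, 0, 0), (0, 0, 0), (0, 0, 0), (0, 0, 0), (0, 0, 0), (0, 0, 0), (0, 0, 0)],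
  [(0, 0, 0), (0, 0, 0), (0, 0, 0), (0, 0, 0), (0, 0, 0), (0, 0, 0), (0, 0, 0), (0, 0, 0), (0, 0, 0), (0, 0, 0), (0, 0, 0), (0, 0, 0), (0, 0, 0), (0, 0, 0), (0, 0, 0), (0, 0, 0), (0, 0, 0), (0, 0, 0), (0, 0, 0), (0, 0, 0), (0, 0, 0), (0, 0, 0), (0, 0, 0), (0, 0, 0), (0, 0, 0), (0, 0, 0), (0, 0, 0), (0, 0, 0), (0, 0, 0), (0, 0, 0), (0, 0, 0), (0, 0, 0), (0, 0, 0), (0, 0, 0), (0, 0, 0), (0, 0, 0), (0, 0, 0), (0, 0, 0), (0, 0, 0), (0, 0, 0), (0, 0, 0), (0, 0, 0), (0, 0, 0), (0, 0, 0), (0, 0, 0), (0, 0, 0), (0, 0, 0), (0, 0, 0)],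
  [(3, 18, 2), (0, 0, 0), (0, 0, 0), (0, 0, 0), (0, 0, 0), (0, 0, 0), (3, 29, 2), (0, 0, 0), (0, 0, 0), (0, 0, 0), (0, 0, 0), (0, 0, 0), (0, 0, 0), (0, 0, 0), (0, 0, 0), (0, 0, 0), (0, 0, 0), (0, 0, 0), (0, 0, 0), (0, 0, 0), (0, 0, 0), (0, 0, 0), (8, 38, -2), (0, 0, 0), (0, 0, 0), (9, 39, -2), (0, 0, 0), (0, 0, 0), (0, 0, 0), (0, 0, 0), (0, 0, 0), (0, 0, 0), (0, 0, 0), (0, 0, 0), (0, 0, 0), (0, 0, 0), (0, 0, 0), (0, 0, 0), (0, 0, 0), (0, 0, 0), (0, 0, 0), (18, 44, 2), (0, 0, 0), (0, 0, 0), (0, 0, 0), (0, 0, 0), (0, 0, 0), (29, 44, 2)],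
  [(0, 0, 0), (3, 19, 2), (0, 0, 0), (0, 0, 0), (0, 0, 0), (3, 28, -2), (0, 0, 0), (0, 0, 0), (0, 0, 0), (0, 0, 0), (0, 0, 0), (0, 0, 0), (0, 0, 0), (0, 0, 0), (0, 0, 0), (0, 0, 0), (0, 0, 0), (0, 0, 0), (0, 0, 0), (0, 0, 0), (0, 0, 0), (8, 37, 2), (0, 0, 0), (0, 0, 0), (0, 0, 0), (0, 0, 0), (10, 39, 2), (0, 0, 0), (0, 0, 0), (0, 0, 0), (0, 0, 0), (0, 0, 0), (0, 0, 0), (0, 0, 0), (0, 0, 0), (0, 0, 0), (0, 0, 0), (0, 0, 0), (0, 0, 0), (0, 0, 0), (0, 0, 0), (0, 0, 0), (19, 44, -2), (0, 0, 0), (0, 0, 0), (0, 0, 0), (28, 44, 2), (0, 0, 0)],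
  [(0, 0, 0), (0, 0, 0), (3, 20, 2), (0, 0, 0), (3, 27, 2), (0, 0, 0), (0, 0, 0), (0, 0, 0), (0, 0, 0), (0, 0, 0), (0, 0, 0), (0, 0, 0), (0, 0, 0), (0, 0, 0), (0, 0, 0), (0, 0, 0), (0, 0, 0), (0, 0, 0), (0, 0, 0), (0, 0, 0), (0, 0, 0), (0, 0, 0), (0, 0, 0), (9, 37, -2), (10, 38, -2), (0, 0, 0), (0, 0, 0), (0, 0, 0), (0, 0, 0), (0, 0, 0), (0, 0, 0), (0, 0, 0), (0, 0, 0), (0, 0, 0), (0, 0, 0), (0, 0, 0), (0, 0, 0), (0, 0, 0), (0, 0, 0), (0, 0, 0), (0, 0, 0), (0, 0, 0), (0, 0, 0), (20, 44, 2), (0, 0, 0), (27, 44, 2), (0, 0, 0), (0, 0, 0)],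
  [(0, 0, 0), (0, 0, 0), (0, 0, 0), (0, 0, 0), (0, 0, 0), (0, 0, 0), (0, 0, 0), (0, 0, 0), (0, 0, 0), (0, 0, 0), (0, 0, 0), (0, 0, 0), (0, 0, 0), (0, 0, 0), (0, 0, 0), (0, 0, 0), (0, 0, 0), (0, 0, 0), (0, 0, 0), (0, 0, 0), (0, 0, 0), (0, 0, 0), (0, 0, 0), (0, 0, 0), (0, 0, 0), (0, 0, 0), (0, 0, 0), (0, 0, 0), (0, 0, 0), (0, 0, 0), (0, 0, 0), (0, 0, 0), (0, 0, 0), (0, 0, 0), (0, 0, 0), (0, 0, 0), (0, 0, 0), (0, 0, 0), (0, 0, 0), (0, 0, 0), (0, 0, 0), (0, 0, 0), (0, 0, 0), (0, 0, 0), (0, 0, 0), (0, 0, 0), (0, 0, 0), (0, 0, 0)],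
  [(0, 0, 0), (0, 0, 0), (0, 0, 0), (0, 0, 0), (0, 0, 0), (0, 0, 0), (0, 0, 0), (0, 0, 0), (0, 0, 0), (0, 0, 0), (0, 0, 0), (0, 0, 0), (0, 0, 0), (0, 0, 0), (0, 0, 0), (0, 0, 0), (0, 0, 0), (0, 0, 0), (0, 0, 0), (0, 0, 0), (0, 0, 0), (0, 0, 0), (0, 0, 0), (0, 0, 0), (0, 0, 0), (0, 0, 0), (0, 0, 0), (0, 0, 0), (0, 0, 0), (0, 0, 0), (0, 0, 0), (0, 0, 0), (0, 0, 0), (0, 0, 0), (0, 0, 0), (0, 0, 0), (0, 0, 0), (0, 0, 0), (0, 0, 0), (0, 0, 0), (0, 0, 0), (0, 0, 0), (0, 0, 0), (0, 0, 0), (0, 0, 0), (0, 0, 0), (0, 0, 0), (0, 0, 0)],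
  [(0, 0, 0), (0, 0, 0), (0, 0, 0), (0, 0, 0), (0, 0, 0), (0, 0, 0), (0, 0, 0), (0, 0, 0), (0, 0, 0), (0, 0, 0), (0, 0, 0), (0, 0, 0), (0, 0, 0), (0, 0, 0), (0, 0, 0), (0, 0, 0), (0, 0, 0), (0, 0, 0), (0, 0, 0), (0, 0, 0), (0, 0, 0), (0, 0, 0), (0, 0, 0), (0, 0, 0), (0, 0, 0), (0, 0, 0), (0, 0, 0), (0, 0, 0), (0, 0, 0), (0, 0, 0), (0, 0, 0), (0, 0, 0), (0, 0, 0), (0, 0, 0), (0, 0, 0), (0, 0, 0), (0, 0, 0), (0, 0, 0), (0, 0, 0), (0, 0, 0), (0, 0, 0), (0, 0, 0), (0, 0, 0), (0, 0, 0), (0, 0, 0), (0, 0, 0), (0, 0, 0), (0, 0, 0)],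
  [(0, 0, 0), (0, 0, 0), (0, 0, 0), (0, 0, 0), (0, 0, 0), (0, 0, 0), (0, 0, 0), (0, 0, 0), (0, 0, 0), (0, 0, 0), (0, 0, 0), (0, 0, 0), (0, 0, 0), (0, 0, 0), (0, 0, 0), (0, 0, 0), (0, 0, 0), (0, 0, 0), (0, 0, 0), (0, 0, 0), (0, 0, 0), (0, 0, 0), (0, 0, 0), (0, 0, 0), (0, 0, 0), (0, 0, 0), (0, 0, 0), (0, 0, 0), (0, 0, 0), (0, 0, 0), (0, 0, 0), (0, 0, 0), (0, 0, 0), (0, 0, 0), (0, 0, 0), (0, 0, 0), (0, 0, 0), (0, 0, 0), (0, 0, 0), (0, 0, 0), (0, 0, 0), (0, 0, 0), (0, 0, 0), (0, 0, 0), (0, 0, 0), (0, 0, 0), (0, 0, 0), (0, 0, 0)],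
  [(0, 0, 0), (0, 0, 0), (0, 0, 0), (0, 0, 0), (0, 0, 0), (0, 0, 0), (0, 0, 0), (0, 0, 0), (0, 0, 0), (0, 0, 0), (0, 0, 0), (0, 0, 0), (0, 0, 0), (0, 0, 0), (0, 0, 0), (0, 0, 0), (0, 0, 0), (0, 0, 0), (0, 0, 0), (0, 0, 0), (0, 0, 0), (0, 0, 0), (0, 0, 0), (0, 0, 0), (0, 0, 0), (0, 0, 0), (0, 0, 0), (0, 0, 0), (0, 0, 0), (0, 0, 0), (0, 0, 0), (0, 0, 0), (0, 0, 0), (0, 0, 0), (0, 0, 0), (0, 0, 0), (0, 0, 0), (0, 0, 0), (0, 0, 0), (0, 0, 0), (0, 0, 0), (0, 0, 0), (0, 0, 0), (0, 0, 0), (0, 0, 0), (0, 0, 0), (0, 0, 0), (0, 0, 0)],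
  [(0, 0, 0), (0, 0, 0), (0, 0, 0), (0, 0, 0), (0, 0, 0), (0, 0, 0), (0, 0, 0), (0, 0, 0), (0, 0, 0), (0, 0, 0), (0, 0, 0), (0, 0, 0), (0, 0, 0), (0, 0, 0), (0, 0, 0), (0, 0, 0), (0, 0, 0), (0, 0, 0), (0, 0, 0), (0, 0, 0), (0, 0, 0), (0, 0, 0), (0, 0, 0), (0, 0, 0), (0, 0, 0), (0, 0, 0), (0, 0, 0), (0, 0, 0), (0, 0, 0), (0, 0, 0), (0, 0, 0), (0, 0, 0), (0, 0, 0), (0, 0, 0), (0, 0, 0), (0, 0, 0), (0, 0, 0), (0, 0, 0), (0, 0, 0), (0, 0, 0), (0, 0, 0), (0, 0, 0), (0, 0, 0), (0, 0, 0), (0, 0, 0), (0, 0, 0), (0, 0, 0), (0, 0, 0)],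
  [(0, 0, 0), (0, 0, 0), (0, 0, 0), (0, 0, 0), (0, 0, 0), (0, 0, 0), (0, 0, 0), (0, 0, 0), (0, 0, 0), (0, 0, 0), (0, 0, 0), (0, 0, 0), (0, 0, 0), (0, 0, 0), (0, 0, 0), (0, 0, 0), (0, 0, 0), (0, 0, 0), (0, 0, 0), (0, 0, 0), (0, 0, 0), (0, 0, 0), (0, 0, 0), (0, 0, 0), (0, 0, 0), (0, 0, 0), (0, 0, 0), (0, 0, 0), (0, 0, 0), (0, 0, 0), (0, 0, 0), (0, 0, 0), (0, 0, 0), (0, 0, 0), (0, 0, 0), (0, 0, 0), (0, 0, 0), (0, 0, 0), (0, 0, 0), (0, 0, 0), (0, 0, 0), (0, 0, 0), (0, 0, 0), (0, 0, 0), (0, 0, 0), (0, 0, 0), (0, 0, 0), (0, 0, 0)],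
  [(0, 0, 0), (0, 0, 0), (0, 0, 0), (0, 0, 0), (0, 0, 0), (0, 0, 0), (0, 0, 0), (0, 0, 0), (0, 0, 0), (0, 0, 0), (0, 0, 0), (0, 0, 0), (0, 0, 0), (0, 0, 0), (0, 0, 0), (0, 0, 0), (0, 0, 0), (0, 0, 0), (0, 0, 0), (0, 0, 0), (0, 0, 0), (0, 0, 0), (0, 0, 0), (0, 0, 0), (0, 0, 0), (0, 0, 0), (0, 0, 0), (0, 0, 0), (0, 0, 0), (0, 0, 0), (0, 0, 0), (0, 0, 0), (0, 0, 0), (0, 0, 0), (0, 0, 0), (0, 0, 0), (0, 0, 0), (0, 0, 0), (0, 0, 0), (0, 0, 0), (0, 0, 0), (0, 0, 0), (0, 0, 0), (0, 0, 0), (0, 0, 0), (0, 0, 0), (0, 0, 0), (0, 0, 0)],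
  [(7, 11, 2), (0, 0, 0), (0, 0, 0), (0, 0, 0), (0, 0, 0), (0, 0, 0), (0, 0, 0), (0, 0, 0), (0, 0, 0), (0, 0, 0), (0, 0, 0), (0, 0, 0), (0, 0, 0), (0, 0, 0), (0, 0, 0), (0, 0, 0), (0, 0, 0), (7, 36, -2), (0, 0, 0), (0, 0, 0), (0, 0, 0), (0, 0, 0), (8, 38, -2), (0, 0, 0), (0, 0, 0), (9, 39, -2), (0, 0, 0), (0, 0, 0), (0, 0, 0), (0, 0, 0), (11, 40, -2), (0, 0, 0), (0, 0, 0), (0, 0, 0), (0, 0, 0), (0, 0, 0), (0, 0, 0), (0, 0, 0), (0, 0, 0), (0, 0, 0), (0, 0, 0), (0, 0, 0), (0, 0, 0), (0, 0, 0), (0, 0, 0), (0, 0, 0), (0, 0, 0), (36, 40, 2)],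
  [(0, 0, 0), (7, 12, 2), (0, 0, 0), (0, 0, 0), (0, 0, 0), (0, 0, 0), (0, 0, 0), (0, 0, 0), (0, 0, 0), (0, 0, 0), (0, 0, 0), (0, 0, 0), (0, 0, 0), (0, 0, 0), (0, 0, 0), (0, 0, 0), (7, 35, 2), (0, 0, 0), (0, 0, 0), (0, 0, 0), (0, 0, 0), (8, 37, 2), (0, 0, 0), (0, 0, 0), (0, 0, 0), (0, 0, 0), (10, 39, 2), (0, 0, 0), (0, 0, 0), (0, 0, 0), (0, 0, 0), (12, 40, 2), (0, 0, 0), (0, 0, 0), (0, 0, 0), (0, 0, 0), (0, 0, 0), (0, 0, 0), (0, 0, 0), (0, 0, 0), (0, 0, 0), (0, 0, 0), (0, 0, 0), (0, 0, 0), (0, 0, 0), (0, 0, 0), (35, 40, 2), (0, 0, 0)],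
  [(0, 0, 0), (0, 0, 0), (7, 13, 2), (0, 0, 0), (0, 0, 0), (0, 0, 0), (0, 0, 0), (0, 0, 0), (0, 0, 0), (0, 0, 0), (0, 0, 0), (0, 0, 0), (0, 0, 0), (0, 0, 0), (0, 0, 0), (7, 34, -2), (0, 0, 0), (0, 0, 0), (0, 0, 0), (0, 0, 0), (0, 0, 0), (0, 0, 0), (0, 0, 0), (9, 37, -2), (10, 38, -2), (0, 0, 0), (0, 0, 0), (0, 0, 0), (0, 0, 0), (0, 0, 0), (0, 0, 0), (0, 0, 0), (13, 40, -2), (0, 0, 0), (0, 0, 0), (0, 0, 0), (0, 0, 0), (0, 0, 0), (0, 0, 0), (0, 0, 0), (0, 0, 0), (0, 0, 0), (0, 0, 0), (0, 0, 0), (0, 0, 0), (34, 40, 2), (0, 0, 0), (0, 0, 0)],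
  [(0, 0, 0), (0, 0, 0), (0, 0, 0), (0, 0, 0), (0, 0, 0), (0, 0, 0), (0, 0, 0), (0, 0, 0), (0, 0, 0), (0, 0, 0), (0, 0, 0), (0, 0, 0), (0, 0, 0), (0, 0, 0), (0, 0, 0), (0, 0, 0), (0, 0, 0), (0, 0, 0), (0, 0, 0), (0, 0, 0), (0, 0, 0), (0, 0, 0), (0, 0, 0), (0, 0, 0), (0, 0, 0), (0, 0, 0), (0, 0, 0), (0, 0, 0), (0, 0, 0), (0, 0, 0), (0, 0, 0), (0, 0, 0), (0, 0, 0), (0, 0, 0), (0, 0, 0), (0, 0, 0), (0, 0, 0), (0, 0, 0), (0, 0, 0), (0, 0, 0), (0, 0, 0), (0, 0, 0), (0, 0, 0), (0, 0, 0), (0, 0, 0), (0, 0, 0), (0, 0, 0), (0, 0, 0)],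
  [(0, 0, 0), (0, 0, 0), (0, 0, 0), (0, 0, 0), (8, 14, 2), (0, 0, 0), (0, 0, 0), (0, 0, 0), (0, 0, 0), (0, 0, 0), (0, 0, 0), (0, 0, 0), (0, 0, 0), (0, 0, 0), (0, 0, 0), (8, 33, -2), (0, 0, 0), (0, 0, 0), (0, 0, 0), (0, 0, 0), (0, 0, 0), (0, 0, 0), (0, 0, 0), (11, 35, -2), (12, 36, -2), (0, 0, 0), (0, 0, 0), (0, 0, 0), (0, 0, 0), (0, 0, 0), (0, 0, 0), (0, 0, 0), (14, 39, -2), (0, 0, 0), (0, 0, 0), (0, 0, 0), (0, 0, 0), (0, 0, 0), (0, 0, 0), (0, 0, 0), (0, 0, 0), (0, 0, 0), (0, 0, 0), (33, 39, 2), (0, 0, 0), (0, 0, 0), (0, 0, 0), (0, 0, 0)],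
  [(0, 0, 0), (0, 0, 0), (0, 0, 0), (0, 0, 0), (0, 0, 0), (9, 14, 2), (0, 0, 0), (0, 0, 0), (0, 0, 0), (0, 0, 0), (0, 0, 0), (0, 0, 0), (0, 0, 0), (0, 0, 0), (0, 0, 0), (0, 0, 0), (9, 33, -2), (0, 0, 0), (0, 0, 0), (0, 0, 0), (0, 0, 0), (11, 34, -2), (0, 0, 0), (0, 0, 0), (0, 0, 0), (0, 0, 0), (13, 36, -2), (0, 0, 0), (0, 0, 0), (0, 0, 0), (0, 0, 0), (14, 38, -2), (0, 0, 0), (0, 0, 0), (0, 0, 0), (0, 0, 0), (0, 0, 0), (0, 0, 0), (0, 0, 0), (0, 0, 0), (0, 0, 0), (0, 0, 0), (33, 38, 2), (0, 0, 0), (0, 0, 0), (0, 0, 0), (0, 0, 0), (0, 0, 0)],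
  [(0, 0, 0), (0, 0, 0), (0, 0, 0), (0, 0, 0), (0, 0, 0), (0, 0, 0), (10, 14, 2), (0, 0, 0), (0, 0, 0), (0, 0, 0), (0, 0, 0), (0, 0, 0), (0, 0, 0), (0, 0, 0), (0, 0, 0), (0, 0, 0), (0, 0, 0), (10, 33, -2), (0, 0, 0), (0, 0, 0), (0, 0, 0), (0, 0, 0), (12, 34, -2), (0, 0, 0), (0, 0, 0), (13, 35, -2), (0, 0, 0), (0, 0, 0), (0, 0, 0), (0, 0, 0), (14, 37, -2), (0, 0, 0), (0, 0, 0), (0, 0, 0), (0, 0, 0), (0, 0, 0), (0, 0, 0), (0, 0, 0), (0, 0, 0), (0, 0, 0), (0, 0, 0), (33, 37, 2), (0, 0, 0), (0, 0, 0), (0, 0, 0), (0, 0, 0), (0, 0, 0), (0, 0, 0)]]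

def dec2 (r s : ℕ) : ℕ × ℕ × ℤ := (dec2L.getD r []).getD s (0, 0, 0)

theorem ok : ∀ r < chevF4.nroots, ∀ s < chevF4.nroots, s ≠ r → s ≠ chevF4.neg r →
    CertOK chevF4 [1, 2] r s (tbl r s) := by decide +kernel

theorem ok' : ∀ r < chevF4.nroots, ∀ s < chevF4.nroots, s ≠ r → s ≠ chevF4.neg r →
    AltOK chevF4 [1, 2] r s (tbl r s) (dec2 r s) := by decide +kernel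

theorem ok1 : ∀ r < chevF4.nroots, pairL chevF4 (mu1 r) r = 1 := by decide +kernel

theorem okd : ∀ r < chevF4.nroots, DecOK chevF4 [1] r r (dec1 r) := by decide +kernel

theorem hD : Std chevF4 := by simp [Std]

theorem lift {K : Type*} [Field K] (hK : ∃ s : Finset K, 2 < s.card) {E : Type*} [Group E]
    {π : E →* ↥(chevF4.group K)} (hπ : Function.Surjective π) (hc : π.ker ≤ center E) :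
    ∃ τ : chevF4.SteinbergCover K →* E, ∀ r t, r < chevF4.nroots → π (τ (chevF4.scGen K r t)) = xq hD r t := by
  have hself : ∀ r, r < chevF4.nroots → ∀ t u : K, Helper23Un.br hπ (xq hD r t) (xq hD r u) = 1 :=
    fun r hr => br_of_DecOK hD hπ hc (fun e he => one_ne he) hr (okd r hr)
  by_cases h2 : (2 : K) = 0
  · refine lift_main hD hπ hc [1, 2] ?_ mu1 (fun r hr => by rw [ok1 r hr]; decide) hself tbl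
      (fun r s hr hs h1 h2 => Or.inr (ok r hr s hs h1 h2))
    intro m hm
    obtain ⟨v, hv⟩ := exists_unit_pow_ne (N := 1) hK 1 one_ne_zero (by decide)
    rw [zpow_one] at hv
    have hv2 : v ^ 2 ≠ 1 := by
      intro e
      apply hv
      have e' : (v : K) ^ 2 = 1 := by
        have := congrArg Units.val e
        simpa using this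
      have : ((v : K) - 1) ^ 2 = 0 := by
        have : ((v : K) - 1) ^ 2 = (v : K) ^ 2 - 2 * v + 1 := by ring
        rw [this, e', h2]; 
        have h11 : (1 : K) + 1 = 0 := by rw [one_add_one_eq_two, h2]
        linear_combination h11
      have := pow_eq_zero_iff (two_ne_zero) |>.1 this
      exact Units.ext (sub_eq_zero.1 this)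
    refine ⟨v, ?_⟩
    simp only [List.mem_cons, List.not_mem_nil, or_false] at hm
    rcases hm with hm | hm <;> rcases Int.natAbs_eq m with e | e <;> rw [e, hm]
    · simpa using hv
    · simpa using hv
    · exact_mod_cast hv2
    · rw [zpow_neg, ne_eq, inv_eq_one]; exact_mod_cast hv2
  · refine lift_main hD hπ hc [1] ?_ mu1 (fun r hr => by rw [ok1 r hr]; decide) hself tbl ?_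
    · intro m hm
      apply exists_unit_pow_ne (N := 1) hK m
      · rintro rfl; simp at hm
      · simp only [List.mem_cons, List.not_mem_nil, or_false] at hm
        omega
    · intro r s hr hs n1 n2
      rcases ok' r hr s hs n1 n2 with h | ⟨h0, h⟩
      · exact Or.inr ((ok r hr s hs n1 n2).mono h)
      · exact Or.inl ⟨h0, br_of_DecOK hD hπ hc (fun e he => two_ne h2 he) hr h⟩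

end Cfsg.Agent.Lib.Helper23ToF4
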