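import Cfsg.Agent.Lib.Helper23To6

set_option autoImplicit false
set_option maxRecDepth 1000000

/-! Certificates for type G2 (fields with more than four elements). -/

namespace Cfsg.Agent.Lib.Helper23ToG2

open Subgroup Cfsg.Lie Cfsg.Agent.Lib.Helper23To Cfsg.Agent.Lib.Helper22ChevBasic

def tblL : List (List Cert) := [
  [⟨[], [], []⟩, ⟨[-1, 0], [], [1, 0]⟩, ⟨[-1, 0], [], [0, 1, 0]⟩, ⟨[-1, 0], [], [0, 1]⟩, ⟨[-1, 0], [], [0]⟩, ⟨[-1, 0], [], [1]⟩, ⟨[-1, 0], [1], [1, 0, 1, 0]⟩, ⟨[-1, 0], [], []⟩, ⟨[-1, 0], [2, 4, 6, 1], [1, 0, 1, 0]⟩, ⟨[-1, 0], [3, 7, 10, 5], [1, 0, 1]⟩, ⟨[-1, 0], [5], [1, 0, 1]⟩, ⟨[], [], []⟩],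
  [⟨[-1, -3], [], [1, 0, 1]⟩, ⟨[], [], []⟩, ⟨[-1, -3], [], [0, 1, 0]⟩, ⟨[-1, -3], [], [0, 1]⟩, ⟨[-1, -3], [], [0]⟩, ⟨[-1, -3], [0], [1, 0, 1, 0, 1]⟩, ⟨[-1, -3], [], []⟩, ⟨[-1, -3], [2, 3, 5, 0], [1, 0, 1, 0, 1]⟩, ⟨[-1, -3], [], []⟩, ⟨[-1, -3], [4, 8, 11, 6], [1, 0]⟩, ⟨[], [], []⟩, ⟨[-1, -3], [6], [1, 0]⟩],
  [⟨[0, -1], [], [1, 0, 1]⟩, ⟨[0, -1], [], [1, 0]⟩, ⟨[], [], []⟩, ⟨[0, -1], [0], [0, 1, 0, 1]⟩, ⟨[0, -1], [1], [0, 1, 0]⟩, ⟨[0, -1], [], [1]⟩, ⟨[0, -1], [], []⟩, ⟨[0, -1], [3, 0, 5], [0, 1, 0, 1]⟩, ⟨[0, -1], [4, 1, 6], [0, 1, 0]⟩, ⟨[], [], []⟩, ⟨[0, -1], [7, 3, 0, 5], [0, 1, 0, 1]⟩, ⟨[0, -1], [8, 4, 1, 6], [0, 1, 0]⟩],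
  [⟨[-1, -1], [], [1, 0, 1]⟩, ⟨[-1, -1], [], [1, 0]⟩, ⟨[-1, -1], [0], [0, 1, 0, 1]⟩, ⟨[], [], []⟩, ⟨[-1, -1], [2, 0, 1], [0, 1, 0, 1, 0]⟩, ⟨[-1, -1], [], [1]⟩, ⟨[-1, -1], [4, 2, 0, 1], [0, 1, 0, 1, 0]⟩, ⟨[-1, -1], [5], [0, 1]⟩, ⟨[], [], []⟩, ⟨[-1, -1], [7, 5, 10], [0, 1]⟩, ⟨[-1, -1], [], []⟩, ⟨[-1, -1], [9, 7, 5, 10], [0, 1]⟩],
  [⟨[-1, -2], [], [1, 0, 1]⟩, ⟨[-1, -2], [], [1, 0]⟩, ⟨[-1, -2], [1], [0, 1, 0]⟩, ⟨[-1, -2], [2, 0, 1], [0, 1, 0, 1, 0]⟩, ⟨[], [], []⟩, ⟨[-1, -2], [3, 2, 1, 0], [1, 0, 1, 0, 1, 0]⟩, ⟨[-1, -2], [], []⟩, ⟨[], [], []⟩, ⟨[-1, -2], [6], [0]⟩, ⟨[-1, -2], [8, 6, 11], [0]⟩, ⟨[-1, -2], [9, 8, 6, 11], [0]⟩, ⟨[-1, -2], [], []⟩],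
  [⟨[-2, -3], [], [1, 0, 1]⟩, ⟨[-2, -3], [0], [1, 0, 1, 0, 1]⟩, ⟨[-2, -3], [], [0, 1, 0]⟩, ⟨[-2, -3], [], [0, 1]⟩, ⟨[-2, -3], [3, 2, 1, 0], [1, 0, 1, 0, 1, 0]⟩, ⟨[], [], []⟩, ⟨[], [], []⟩, ⟨[-2, -3], [], []⟩, ⟨[-2, -3], [7, 9, 11, 10], [1]⟩, ⟨[-2, -3], [], []⟩, ⟨[-2, -3], [], []⟩, ⟨[-2, -3], [10], [1]⟩],
  [⟨[-2, -3], [1], [1, 0, 1, 0]⟩, ⟨[-2, -3], [], [1, 0]⟩, ⟨[-2, -3], [], [0, 1, 0]⟩, ⟨[-2, -3], [4, 2, 0, 1], [0, 1, 0, 1, 0]⟩, ⟨[-2, -3], [], [0]⟩, ⟨[], [], []⟩, ⟨[], [], []⟩, ⟨[-2, -3], [8, 9, 10, 11], []⟩, ⟨[-2, -3], [], []⟩, ⟨[-2, -3], [], []⟩, ⟨[-2, -3], [11], []⟩, ⟨[-2, -3], [], []⟩],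
  [⟨[-1, -2], [], [1, 0, 1]⟩, ⟨[-1, -2], [2, 3, 5, 0], [1, 0, 1, 0, 1]⟩, ⟨[-1, -2], [3, 0, 5], [0, 1, 0, 1]⟩, ⟨[-1, -2], [5], [0, 1]⟩, ⟨[], [], []⟩, ⟨[-1, -2], [], [1]⟩, ⟨[-1, -2], [8, 9, 10, 11], []⟩, ⟨[], [], []⟩, ⟨[-1, -2], [9, 10, 11], []⟩, ⟨[-1, -2], [10], []⟩, ⟨[-1, -2], [], []⟩, ⟨[-1, -2], [], []⟩],
  [⟨[-1, -1], [2, 4, 6, 1], [1, 0, 1, 0]⟩, ⟨[-1, -1], [], [1, 0]⟩, ⟨[-1, -1], [4, 1, 6], [0, 1, 0]⟩, ⟨[], [], []⟩, ⟨[-1, -1], [6], [0]⟩, ⟨[-1, -1], [7, 9, 11, 10], [1]⟩, ⟨[-1, -1], [], []⟩, ⟨[-1, -1], [9, 10, 11], []⟩, ⟨[], [], []⟩, ⟨[-1, -1], [11], []⟩, ⟨[-1, -1], [], []⟩, ⟨[-1, -1], [], []⟩],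
  [⟨[0, -1], [3, 7, 10, 5], [1, 0, 1]⟩, ⟨[0, -1], [4, 8, 11, 6], [1, 0]⟩, ⟨[], [], []⟩, ⟨[0, -1], [7, 5, 10], [0, 1]⟩, ⟨[0, -1], [8, 6, 11], [0]⟩, ⟨[0, -1], [], [1]⟩, ⟨[0, -1], [], []⟩, ⟨[0, -1], [10], []⟩, ⟨[0, -1], [11], []⟩, ⟨[], [], []⟩, ⟨[0, -1], [], []⟩, ⟨[0, -1], [], []⟩],
  [⟨[-1, -3], [5], [1, 0, 1]⟩, ⟨[], [], []⟩, ⟨[-1, -3], [7, 3, 0, 5], [0, 1, 0, 1]⟩, ⟨[-1, -3], [], [0, 1]⟩, ⟨[-1, -3], [9, 8, 6, 11], [0]⟩, ⟨[-1, -3], [], [1]⟩, ⟨[-1, -3], [11], []⟩, ⟨[-1, -3], [], []⟩, ⟨[-1, -3], [], []⟩, ⟨[-1, -3], [], []⟩, ⟨[], [], []⟩, ⟨[-1, -3], [], []⟩],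
  [⟨[], [], []⟩, ⟨[-1, 0], [6], [1, 0]⟩, ⟨[-1, 0], [8, 4, 1, 6], [0, 1, 0]⟩, ⟨[-1, 0], [9, 7, 5, 10], [0, 1]⟩, ⟨[-1, 0], [], [0]⟩, ⟨[-1, 0], [10], [1]⟩, ⟨[-1, 0], [], []⟩, ⟨[-1, 0], [], []⟩, ⟨[-1, 0], [], []⟩, ⟨[-1, 0], [], []⟩, ⟨[-1, 0], [], []⟩, ⟨[], [], []⟩]]

def tbl (r s : ℕ) : Cert := (tblL.getD r []).getD s ⟨[], [], []⟩

def mu1L : List (List ℤ) := [[0, -1], [0, 1], [-1, 0], [0, -1], [0, 1], [1, 1], [-1, -1], [0, -1], [-1, 0], [1, 0], [0, -1], [0, 1]]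

def mu1 (r : ℕ) : List ℤ := mu1L.getD r []

theorem ok : ∀ r < chevG2.nroots, ∀ s < chevG2.nroots, s ≠ r → s ≠ chevG2.neg r →
    CertOK chevG2 [1, 2, 3] r s (tbl r s) := by decide +kernel

theorem ok1 : ∀ r < chevG2.nroots, pairL chevG2 (mu1 r) r = 1 := by decide +kernel

theorem hD : Std chevG2 := by simp [Std]

theorem lift {K : Type*} [Field K] (hK : ∃ s : Finset K, 4 < s.card) {E : Type*} [Group E]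
    {π : E →* ↥(chevG2.group K)} (hπ : Function.Surjective π) (hc : π.ker ≤ center E) :
    ∃ τ : chevG2.SteinbergCover K →* E, ∀ r t, r < chevG2.nroots → π (τ (chevG2.scGen K r t)) = xq hD r t := by
  refine lift_main hD hπ hc [1, 2, 3] ?_ mu1 (fun r hr => by rw [ok1 r hr]; decide)
    (fun r hr => self_of_torus hD hπ hc hK hr (mu1 r) (ok1 r hr)) tbl
    (fun r s hr hs h1 h2 => Or.inr (ok r hr s hs h1 h2))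
  intro m hm
  apply exists_unit_pow_ne (N := 3) hK m
  · rintro rfl; simp at hm
  · simp only [List.mem_cons, List.not_mem_nil, or_false] at hm
    omega

end Cfsg.Agent.Lib.Helper23ToG2
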