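import Cfsg.Agent.Lib.Helper23Un4
import Cfsg.Agent.Lib.Helper23Un5
import Cfsg.Agent.S2395

set_option autoImplicit false
set_option linter.unusedSectionVars false
set_option linter.unusedVariables false

/-! The Schur multiplier of a simply laced Chevalley group over a finite field is the kernel of the covering map. -/

namespace Cfsg.Agent.Lib.Helper23Un

open Subgroup Cfsg.Lie Cfsg.Lie.ChevalleyDatum Cfsg.Agent.Lib.Helper22ChevEngine Cfsg.Agent.Lib.Helper22ChevFast
  Cfsg.Agent.Lib.Helper22ChevBasic Cfsg.Agent.Lib.Helper23St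

universe u v

theorem schur_main {D : ChevalleyDatum} {P : FD} (hA : Agree D P) {T : Tb} (h : chkAll P T = true) (hD : Std D)
    {F : Type u} [Field F] [Finite F] (hp : commutator (D.SteinbergCover F) = ⊤)
    {A : Type v} [CommGroup A] (e : (scG hD F).θ.ker ≃* A) : Cfsg.HasSchurMultiplier ↥(D.group F) A := by
  have hG := scG_G hD F
  have hr := (scG hD F).range_θ hG
  set θ : D.SteinbergCover F →* ↥(D.group F) :=
    (scG hD F).θ.codRestrict (D.group F) (fun g => by rw [← hr]; exact ⟨g, rfl⟩) with hθ
  have hker : θ.ker = (scG hD F).θ.ker := MonoidHom.ker_codRestrict _ _ _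
  have hs : Function.Surjective θ := by
    rintro ⟨g, hg⟩
    rw [← hr] at hg
    obtain ⟨x, rfl⟩ := hg
    exact ⟨x, rfl⟩
  have hfk : Finite θ.ker := by
    rw [hker, St.ker_eq ((scG hD F).R3_of_finite hG) hG]
    exact Set.Finite.image _ (Set.toFinite _)
  have hfin : Finite (D.SteinbergCover F) := by
    have e1 := Subgroup.groupEquivQuotientProdSubgroup (s := θ.ker)
    have e2 := QuotientGroup.quotientKerEquivOfSurjective θ hs
    have : Finite (D.SteinbergCover F ⧸ θ.ker) := Finite.of_equiv _ e2.symm.toEquiv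
    exact Finite.of_equiv _ e1.symm
  refine schur_of_universal θ hs (hker ▸ (scG hD F).ker_le_center hG) hp ?_ ((MulEquiv.subgroupCongr hker).trans e)
  intro Γ _ σ hσ hc
  exact exists_lift hA h hD σ hσ hc θ

end Cfsg.Agent.Lib.Helper23Un
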