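import Mathlib
import Cfsg.Agent.Lib.Helper24BGCoverHyp
import Cfsg.Agent.Lib.Helper24BGCover3
import Cfsg.Agent.Lib.Helper37BG14kbasic
import Cfsg.Agent.S1425
import Cfsg.Agent.S1430
import Cfsg.Agent.S1432
import Cfsg.Agent.S1366
import Cfsg.Agent.S1367
import Cfsg.Agent.S1369

/-! The hypotheses `Hyp2 G`, `Hyp3 G` of `Helper24BGCover3` hold in a minimal simple group of odd
order. -/

set_option autoImplicit false

namespace Cfsg.Agent.Lib.Helper24BGCoverHyp3

open Cfsg Cfsg.Agent.Lib.Helper24BGCover Cfsg.Agent.Lib.Helper24BGCover3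

theorem hyp2 {G : Type*} [Group G] [Finite G] (hG : IsMinSimpleOddOrder G) : Hyp2 G :=
  { Cfsg.Agent.Lib.Helper24BGCoverHyp.hyp hG with
    h25 := fun M hM Y hY1 hY => Cfsg.Agent.S1425.result hG M hM Y hY1 hY
    h32 := fun M hM x hx hx1 x' hx' hx'1 hσ => Cfsg.Agent.S1432.result hG M hM x hx hx1 x' hx' hx'1 hσ
    h30 := fun M hM K hK hK1 => (Cfsg.Agent.S1430.result hG M hM K hK hK1).1
    khall_ge := fun M hM Y hYM hY =>
      Cfsg.Agent.Lib.Helper37BG14kbasic.exists_kappa_hall_ge hG hM hYM hY }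

theorem hyp3 {G : Type*} [Group G] [Finite G] (hG : IsMinSimpleOddOrder G) : Hyp3 G :=
  { hyp2 hG with
    h66 := fun M hM K U hKU hK1 => (Cfsg.Agent.S1366.result hG M hM K U hKU hK1).exists
    h67 := fun M hM K U hKU hK1 Ms hMs h1 h2 => Cfsg.Agent.S1367.result hG M hM K U hKU hK1 Ms hMs h1 h2
    h69 := fun M hM K U hKU hK1 Ms hMs h1 h2 =>
      (Cfsg.Agent.S1369.result hG M hM K U hKU hK1 Ms hMs h1 h2).2
    kcj := fun M g => Cfsg.Agent.Lib.Helper37BG14kbasic.kappa_cj M g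
    khall_conj := fun M hM K K' hK hK' =>
      Cfsg.Agent.Lib.Helper37BG14kbasic.kappa_hall_conj hG hM hK hK' }

end Cfsg.Agent.Lib.Helper24BGCoverHyp3
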