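import Mathlib
import Cfsg.Prelude.Def_KGroupFacts

set_option autoImplicit false

/-! PROJECT 34, piece `Hom`. -/

namespace Cfsg.Agent.Lib.Helper24L34Hom

open Cfsg

universe u

/-- the additive hom `ZMod n →+ Additive K` sending `1` to `x`, when `x ^ n = 1`. -/
noncomputable def cyc {K : Type*} [CommGroup K] (n : ℕ) (x : K) (hx : x ^ n = 1) :
    ZMod n →+ Additive K :=
  ZMod.lift n ⟨zmultiplesHom (Additive K) (Additive.ofMul x), by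
    rw [zmultiplesHom_apply, natCast_zsmul, ← ofMul_pow, hx, ofMul_one]⟩

theorem cyc_coe {K : Type*} [CommGroup K] (n : ℕ) (x : K) (hx : x ^ n = 1) (i : ℤ) :
    cyc n x hx (i : ZMod n) = Additive.ofMul (x ^ i) := by
  unfold cyc
  rw [ZMod.lift_coe]
  simp only [zmultiplesHom_apply]
  rfl

theorem surj_comm {K : Type*} [CommGroup K] (c₁ c₂ : K) (h₁ : c₁ ^ 4 = 1) (h₂ : c₂ ^ 12 = 1)
    (hg : ∀ k : K, ∃ i j : ℤ, k = c₁ ^ i * c₂ ^ j) :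
    ∃ π : Multiplicative (ZMod 3 × ZMod 4 × ZMod 4) →* K, Function.Surjective π := by
  have h3 : (c₂ ^ 4) ^ 3 = 1 := by rw [← pow_mul]; exact h₂
  have h4 : (c₂ ^ 3) ^ 4 = 1 := by rw [← pow_mul]; exact h₂
  let f : ZMod 3 × ZMod 4 × ZMod 4 →+ Additive K :=
    (cyc 3 (c₂ ^ 4) h3).coprod ((cyc 4 c₁ h₁).coprod (cyc 4 (c₂ ^ 3) h4))
  refine ⟨AddMonoidHom.toMultiplicativeLeft f, ?_⟩
  intro k
  obtain ⟨i, j, rfl⟩ := hg k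
  refine ⟨Multiplicative.ofAdd (((j : ℤ) : ZMod 3), ((i : ℤ) : ZMod 4), ((-j : ℤ) : ZMod 4)), ?_⟩
  change Additive.toMul (f (((j : ℤ) : ZMod 3), ((i : ℤ) : ZMod 4), ((-j : ℤ) : ZMod 4))) = _
  simp only [f, AddMonoidHom.coprod_apply, cyc_coe, toMul_add, toMul_ofMul]
  have e : c₂ ^ j = (c₂ ^ 4) ^ j * (c₂ ^ 3) ^ (-j) := by
    rw [← zpow_natCast c₂ 4, ← zpow_natCast c₂ 3, ← zpow_mul, ← zpow_mul, ← zpow_add]
    congr 1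
    push_cast
    ring
  rw [e, mul_left_comm]

theorem surj_of_comm {K : Type*} [Group K] (hc : ∀ a b : K, a * b = b * a) (c₁ c₂ : K)
    (h₁ : c₁ ^ 4 = 1) (h₂ : c₂ ^ 12 = 1) (hg : ∀ k : K, ∃ i j : ℤ, k = c₁ ^ i * c₂ ^ j) :
    ∃ π : Multiplicative (ZMod 3 × ZMod 4 × ZMod 4) →* K, Function.Surjective π := by
  letI : CommGroup K := { (inferInstance : Group K) with mul_comm := hc }
  exact surj_comm c₁ c₂ h₁ h₂ hg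

theorem surj_ker {G : Type*} {Γ : Type*} [Group G] [Group Γ] (σ : Γ →* G) (hσ : IsStemExtension σ)
    (h : ∃ b₁ b₂ : Γ, b₁ ∈ σ.ker ∧ b₂ ∈ σ.ker ∧ b₁ ^ 4 = 1 ∧ b₂ ^ 12 = 1 ∧
      ∀ k ∈ σ.ker, ∃ i j : ℤ, k = b₁ ^ i * b₂ ^ j) :
    ∃ π : Multiplicative (ZMod 3 × ZMod 4 × ZMod 4) →* σ.ker, Function.Surjective π := by
  obtain ⟨b₁, b₂, m₁, m₂, e₁, e₂, hg⟩ := h
  refine surj_of_comm (fun a b => ?_) ⟨b₁, m₁⟩ ⟨b₂, m₂⟩ (Subtype.ext (by simpa using e₁))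
    (Subtype.ext (by simpa using e₂)) (fun k => ?_)
  · exact Subtype.ext (Subgroup.mem_center_iff.1 (hσ.2.1 b.2) a.1)
  · obtain ⟨i, j, hk⟩ := hg k.1 k.2
    exact ⟨i, j, Subtype.ext (by simpa using hk)⟩

theorem hasMult {G : Type u} [Group G]
    (hb : ∀ (Γ : Type u) [Group Γ] [Finite Γ] (σ : Γ →* G), IsStemExtension σ →
      ∃ b₁ b₂ : Γ, b₁ ∈ σ.ker ∧ b₂ ∈ σ.ker ∧ b₁ ^ 4 = 1 ∧ b₂ ^ 12 = 1 ∧ ∀ k ∈ σ.ker, ∃ i j : ℤ, k = b₁ ^ i * b₂ ^ j)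
    (hex : ∃ (Γ : Type u) (_ : Group Γ) (_ : Finite Γ) (σ : Γ →* G), IsStemExtension σ ∧ Nat.card σ.ker = 48) :
    HasSchurMultiplier G (Multiplicative (ZMod 3 × ZMod 4 × ZMod 4)) := by
  refine ⟨?_, fun Γ _ _ σ hσ => surj_ker σ hσ (hb Γ σ hσ)⟩
  obtain ⟨Γ, i1, i2, σ, hσ, hcard⟩ := hex
  refine ⟨Γ, i1, i2, σ, hσ, ?_⟩
  obtain ⟨π, hπ⟩ := surj_ker σ hσ (hb Γ σ hσ)
  have hA : Nat.card (Multiplicative (ZMod 3 × ZMod 4 × ZMod 4)) = 48 := by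
    rw [Nat.card_eq_fintype_card]
    simp [Fintype.card_prod, ZMod.card]
  have hbij : Function.Bijective π :=
    (Nat.bijective_iff_surjective_and_card π).2 ⟨hπ, by rw [hA, hcard]⟩
  exact ⟨(MulEquiv.ofBijective π hbij).symm⟩

end Cfsg.Agent.Lib.Helper24L34Hom
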