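import Mathlib
import Cfsg.Prelude.Def_KGroupFacts
import Cfsg.Agent.Lib.Helper69Schur

set_option autoImplicit false

/-! PROJECT 34, piece `Uniq`. -/

namespace Cfsg.Agent.Lib.Helper24L34Uniq

open Cfsg Cfsg.Agent.Lib.Helper69Schur

universe u v w

theorem zpow_of_sq {Γ : Type*} [Group Γ] {b : Γ} (hb : b * b = 1) (i : ℤ) : b ^ i = 1 ∨ b ^ i = b := by
  have h2 : b ^ (2 : ℤ) = 1 := by
    rw [zpow_two]; exact hb
  obtain ⟨m, rfl | rfl⟩ := Int.even_or_odd' i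
  · left
    rw [zpow_mul, h2, one_zpow]
  · right
    rw [zpow_add, zpow_mul, h2, one_zpow, one_mul, zpow_one]

/-- a subgroup of exponent two all of whose elements are `b₁ ^ i * b₂ ^ j` with `b₁ b₂` in it has
at most four elements -/
theorem card_le_four {Γ : Type*} [Group Γ] (K : Subgroup Γ) (he : ∀ k ∈ K, k * k = 1)
    (b₁ b₂ : Γ) (h₁ : b₁ ∈ K) (h₂ : b₂ ∈ K) (hg : ∀ k ∈ K, ∃ i j : ℤ, k = b₁ ^ i * b₂ ^ j) :
    Nat.card K ≤ 4 := by
  classical
  have hsub : (K : Set Γ) ⊆ (({1, b₁, b₂, b₁ * b₂} : Finset Γ) : Set Γ) := by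
    intro k hk
    obtain ⟨i, j, rfl⟩ := hg k hk
    rcases zpow_of_sq (he _ h₁) i with h | h <;> rcases zpow_of_sq (he _ h₂) j with h' | h' <;>
      rw [h, h'] <;> simp
  have h1 : Nat.card K ≤ Nat.card (({1, b₁, b₂, b₁ * b₂} : Finset Γ) : Set Γ) :=
    Nat.card_mono (Finset.finite_toSet _) hsub
  have h2 : Nat.card (({1, b₁, b₂, b₁ * b₂} : Finset Γ) : Set Γ) ≤ 4 := by
    rw [Nat.card_coe_set_eq, Set.ncard_coe_finset]
    exact Finset.card_le_four
  exact h1.trans h2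

/-- version of `uniq` where the two generators are known to lie in the kernel. -/
theorem uniq' {G : Type w} [Group G] [Finite G]
    (hb : ∀ {Γ : Type (max u v)} [Group Γ] [Finite Γ] (σ : Γ →* G), IsStemExtension σ →
      ∃ b₁ b₂ : Γ, b₁ ∈ σ.ker ∧ b₂ ∈ σ.ker ∧ ∀ k ∈ σ.ker, ∃ i j : ℤ, k = b₁ ^ i * b₂ ^ j)
    {L₁ : Type u} {L₂ : Type v} [Group L₁] [Finite L₁] [Group L₂] [Finite L₂]
    (σ₁ : L₁ →* G) (σ₂ : L₂ →* G) (h₁ : IsStemExtension σ₁) (h₂ : IsStemExtension σ₂)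
    (p₁ : commutator L₁ = ⊤) (p₂ : commutator L₂ = ⊤)
    (c₁ : Nat.card σ₁.ker = 4) (c₂ : Nat.card σ₂.ker = 4)
    (e₁ : ∀ x ∈ σ₁.ker, x * x = 1) (e₂ : ∀ x ∈ σ₂.ker, x * x = 1) : Nonempty (L₁ ≃* L₂) := by
  let D : Subgroup (pb σ₁ σ₂) := commutator (pb σ₁ σ₂)
  let π₁ : D →* L₁ := (pb1 σ₁ σ₂).comp D.subtype
  let π₂ : D →* L₂ := (pb2 σ₁ σ₂).comp D.subtype
  let σ : D →* G := σ₁.comp π₁
  have hσ2 : ∀ d : D, σ d = σ₂ (π₂ d) := fun d => pb_comm σ₁ σ₂ d.1
  have s₁ : Function.Surjective π₁ := by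
    intro l
    have : l ∈ commutator L₁ := by rw [p₁]; trivial
    obtain ⟨p, hp, rfl⟩ := commutator_le_map_of_surjective _ (pb1_surjective σ₁ σ₂ h₂.1) this
    exact ⟨⟨p, hp⟩, rfl⟩
  have s₂ : Function.Surjective π₂ := by
    intro l
    have : l ∈ commutator L₂ := by rw [p₂]; trivial
    obtain ⟨p, hp, rfl⟩ := commutator_le_map_of_surjective _ (pb2_surjective σ₁ σ₂ h₁.1) this
    exact ⟨⟨p, hp⟩, rfl⟩
  have hperf : commutator D = ⊤ := by
    have h := commutator_le_map (D.subtype) (fun a => by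
      obtain ⟨e, he⟩ := s₁ (pb1 σ₁ σ₂ a)
      refine ⟨e, ker_pb1_le_center σ₁ σ₂ h₂.2.1 ?_⟩
      rw [MonoidHom.mem_ker, map_mul, map_inv]
      have : pb1 σ₁ σ₂ (D.subtype e) = pb1 σ₁ σ₂ a := he
      rw [this, inv_mul_cancel])
    rw [eq_top_iff]
    intro d _
    obtain ⟨d', hd', hdd⟩ := h d.2
    have : d' = d := Subtype.ext hdd
    rwa [this] at hd'
  have hstem : IsStemExtension σ := by
    refine ⟨h₁.1.comp s₁, ?_, ?_⟩
    · intro k hk
      have hk' : k.1 ∈ (σ₁.comp (pb1 σ₁ σ₂)).ker := hk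
      have hc := Subgroup.mem_center_iff.1 (ker_comp_pb1_le_center σ₁ σ₂ h₁.2.1 h₂.2.1 hk')
      rw [Subgroup.mem_center_iff]
      intro d
      exact Subtype.ext (hc d.1)
    · rw [hperf]; exact le_top
  have hexp : ∀ k ∈ σ.ker, k * k = 1 := by
    intro k hk
    have hk1 : π₁ k ∈ σ₁.ker := hk
    have hk2 : π₂ k ∈ σ₂.ker := by
      rw [MonoidHom.mem_ker, ← hσ2]; exact hk
    apply Subtype.ext
    apply pb_ext
    · have := e₁ _ hk1
      simpa [π₁] using this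
    · have := e₂ _ hk2
      simpa [π₂] using this
  obtain ⟨b₁, b₂, hb₁, hb₂, hgen⟩ := hb σ hstem
  have hcard : Nat.card σ.ker ≤ 4 := card_le_four σ.ker hexp b₁ b₂ hb₁ hb₂ hgen
  have i₁ : Function.Injective π₁ := by
    let g : σ.ker →* σ₁.ker := (π₁.comp σ.ker.subtype).codRestrict _ (fun k => k.2)
    have hg : Function.Surjective g := by
      rintro ⟨x, hx⟩
      obtain ⟨d, rfl⟩ := s₁ x
      exact ⟨⟨d, hx⟩, rfl⟩
    have hbij : Function.Bijective g :=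
      (Nat.bijective_iff_surjective_and_card g).2
        ⟨hg, le_antisymm (by rw [c₁]; exact hcard) (Nat.card_le_card_of_surjective g hg)⟩
    rw [injective_iff_map_eq_one]
    intro d hd
    have hdk : d ∈ σ.ker := by
      rw [MonoidHom.mem_ker]
      change σ₁ (π₁ d) = 1
      rw [hd, map_one]
    have : g ⟨d, hdk⟩ = 1 := Subtype.ext hd
    have h3 := (injective_iff_map_eq_one g).1 hbij.1 _ this
    exact congrArg Subtype.val h3
  have i₂ : Function.Injective π₂ := by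
    let g : σ.ker →* σ₂.ker := (π₂.comp σ.ker.subtype).codRestrict _ (fun k => by
      rw [MonoidHom.mem_ker]
      change σ₂ (π₂ k.1) = 1
      rw [← hσ2]; exact k.2)
    have hg : Function.Surjective g := by
      rintro ⟨x, hx⟩
      obtain ⟨d, rfl⟩ := s₂ x
      refine ⟨⟨d, ?_⟩, rfl⟩
      rw [MonoidHom.mem_ker, hσ2]; exact hx
    have hbij : Function.Bijective g :=
      (Nat.bijective_iff_surjective_and_card g).2
        ⟨hg, le_antisymm (by rw [c₂]; exact hcard) (Nat.card_le_card_of_surjective g hg)⟩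
    rw [injective_iff_map_eq_one]
    intro d hd
    have hdk : d ∈ σ.ker := by
      rw [MonoidHom.mem_ker, hσ2, hd, map_one]
    have : g ⟨d, hdk⟩ = 1 := Subtype.ext hd
    have h3 := (injective_iff_map_eq_one g).1 hbij.1 _ this
    exact congrArg Subtype.val h3
  exact ⟨(MulEquiv.ofBijective π₁ ⟨i₁, s₁⟩).symm.trans (MulEquiv.ofBijective π₂ ⟨i₂, s₂⟩)⟩

end Cfsg.Agent.Lib.Helper24L34Uniq
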