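import Mathlib
import Cfsg.Prelude.Def_KGroupFacts
import Cfsg.Prelude.Def_CaseTheorems
import Cfsg.Agent.Lib.Helper24L34Uniq

set_option autoImplicit false

/-! PROJECT 34, piece `Row`: the row S5387 from `uniq'` and the certificate `ker_gen` (hypothesis). -/

namespace Cfsg.Agent.Lib.Helper24L34Row

open Cfsg Cfsg.Agent.Lib.Helper24L34Uniq

universe u v w

/-- general form: `G` any finite group such that kernels of stem extensions are generated by two of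
their elements. -/
theorem row_gen {G : Type w} [Group G] [Finite G]
    (hb : ∀ {Γ : Type (max u v)} [Group Γ] [Finite Γ] (σ : Γ →* G), IsStemExtension σ →
      ∃ b₁ b₂ : Γ, b₁ ∈ σ.ker ∧ b₂ ∈ σ.ker ∧ ∀ k ∈ σ.ker, ∃ i j : ℤ, k = b₁ ^ i * b₂ ^ j)
    {L₁ : Type u} {L₂ : Type v} [Group L₁] [Finite L₁] [Group L₂] [Finite L₂]
    (h₁ : Cfsg.IsQuasisimple L₁) (h₂ : Cfsg.IsQuasisimple L₂)
    (hc₁ : Nat.card (Subgroup.center L₁) = 4) (hc₂ : Nat.card (Subgroup.center L₂) = 4)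
    (he₁ : ∀ x ∈ Subgroup.center L₁, x * x = 1) (he₂ : ∀ x ∈ Subgroup.center L₂, x * x = 1)
    (e₁ : L₁ ⧸ Subgroup.center L₁ ≃* G) (e₂ : L₂ ⧸ Subgroup.center L₂ ≃* G) :
    Nonempty (L₁ ≃* L₂) := by
  have p₁ : commutator L₁ = ⊤ := h₁.1.commutator_eq_top
  have p₂ : commutator L₂ = ⊤ := h₂.1.commutator_eq_top
  let σ₁ : L₁ →* G := e₁.toMonoidHom.comp (QuotientGroup.mk' (Subgroup.center L₁))
  let σ₂ : L₂ →* G := e₂.toMonoidHom.comp (QuotientGroup.mk' (Subgroup.center L₂))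
  have k₁ : σ₁.ker = Subgroup.center L₁ := by
    ext x
    rw [MonoidHom.mem_ker]
    change e₁ (QuotientGroup.mk' _ x) = 1 ↔ _
    rw [EmbeddingLike.map_eq_one_iff, QuotientGroup.mk'_apply, QuotientGroup.eq_one_iff]
  have k₂ : σ₂.ker = Subgroup.center L₂ := by
    ext x
    rw [MonoidHom.mem_ker]
    change e₂ (QuotientGroup.mk' _ x) = 1 ↔ _
    rw [EmbeddingLike.map_eq_one_iff, QuotientGroup.mk'_apply, QuotientGroup.eq_one_iff]
  have s₁ : IsStemExtension σ₁ :=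
    ⟨e₁.surjective.comp (QuotientGroup.mk'_surjective _), k₁.le, by rw [p₁]; exact le_top⟩
  have s₂ : IsStemExtension σ₂ :=
    ⟨e₂.surjective.comp (QuotientGroup.mk'_surjective _), k₂.le, by rw [p₂]; exact le_top⟩
  exact uniq' hb σ₁ σ₂ s₁ s₂ p₁ p₂ (by rw [k₁]; exact hc₁) (by rw [k₂]; exact hc₂)
    (by rw [k₁]; exact he₁) (by rw [k₂]; exact he₂)

/-- the row S5387, with the certificate `ker_gen` as a hypothesis. -/
theorem row {L₁ : Type u} {L₂ : Type v} [Group L₁] [Finite L₁] [Group L₂] [Finite L₂] (F : Type)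
    [Field F] [Fintype F]
    (ker_gen : ∀ {Γ : Type (max u v)} [Group Γ] [Finite Γ]
      (σ : Γ →* Matrix.ProjectiveSpecialLinearGroup (Fin 3) F), IsStemExtension σ →
      ∃ b₁ b₂ : Γ, b₁ ∈ σ.ker ∧ b₂ ∈ σ.ker ∧ b₁ ^ 4 = 1 ∧ b₂ ^ 12 = 1 ∧
        ∀ k ∈ σ.ker, ∃ i j : ℤ, k = b₁ ^ i * b₂ ^ j)
    (h₁ : Cfsg.IsQuasisimple L₁) (h₂ : Cfsg.IsQuasisimple L₂)
    (hc₁ : Nat.card (Subgroup.center L₁) = 4) (hc₂ : Nat.card (Subgroup.center L₂) = 4)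
    (he₁ : ∀ x ∈ Subgroup.center L₁, x * x = 1) (he₂ : ∀ x ∈ Subgroup.center L₂, x * x = 1)
    (e₁ : L₁ ⧸ Subgroup.center L₁ ≃* Matrix.ProjectiveSpecialLinearGroup (Fin 3) F)
    (e₂ : L₂ ⧸ Subgroup.center L₂ ≃* Matrix.ProjectiveSpecialLinearGroup (Fin 3) F) :
    Nonempty (L₁ ≃* L₂) := by
  refine row_gen (G := Matrix.ProjectiveSpecialLinearGroup (Fin 3) F) ?_ h₁ h₂ hc₁ hc₂ he₁ he₂ e₁ e₂
  intro Γ _ _ σ hσ
  obtain ⟨b₁, b₂, m₁, m₂, -, -, hg⟩ := ker_gen σ hσ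
  exact ⟨b₁, b₂, m₁, m₂, hg⟩

end Cfsg.Agent.Lib.Helper24L34Row
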