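import Cfsg.Agent.Lib.Helper52FF2b
import Cfsg.Agent.Lib.Helper30Gen

set_option autoImplicit false

namespace Cfsg.Agent.Lib.Helper52FF3

open Subgroup
open Cfsg.Agent.Lib.Helper52FF2

/-- common eigen-element for an elementary abelian `2`-group acting nontrivially on a group of odd
order (not necessarily abelian). -/
theorem exists_eigen' {Γ : Type*} [Group Γ] [Finite Γ] (B Y : Subgroup Γ)
    (hB : ∀ b ∈ B, b * b = 1) (hYodd : Odd (Nat.card Y))
    (hBY : B ≤ normalizer (Y : Set Γ)) (hne : ¬ B ≤ centralizer (Y : Set Γ)) :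
    ∃ y ∈ Y, y ≠ 1 ∧ ∃ b₀ ∈ B, b₀ * y * b₀⁻¹ = y⁻¹ ∧
      ∀ b ∈ B, b * y * b⁻¹ = y ∨ b * y * b⁻¹ = y⁻¹ := by
  have : Fact (Nat.Prime 2) := ⟨Nat.prime_two⟩
  have hBc : ∀ a ∈ B, ∀ b ∈ B, a * b = b * a := by
    intro a ha b hb
    have h2 := hB a ha
    have h3 := hB b hb
    calc a * b = (b * b) * (a * b) * (a * a) := by rw [h2, h3]; group
      _ = b * ((b * a) * (b * a)) * a := by group
      _ = b * a := by rw [hB (b * a) (B.mul_mem hb ha)]; group
  let 𝒮 : Set (Subgroup Γ) :=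
    {B₁ | B₁ ≤ B ∧ ¬ B ≤ centralizer ((Y ⊓ centralizer (B₁ : Set Γ) : Subgroup Γ) : Set Γ)}
  have hne𝒮 : 𝒮.Nonempty := by
    refine ⟨⊥, bot_le, ?_⟩
    have : Y ⊓ centralizer (((⊥ : Subgroup Γ) : Subgroup Γ) : Set Γ) = Y := by
      rw [inf_eq_left]
      intro y _
      rw [mem_centralizer_iff]
      intro x hx
      have : x = 1 := hx
      rw [this]; simp
    rw [this]; exact hne
  obtain ⟨B₁, ⟨hB₁B, hB₁⟩, hmax⟩ :=
    WellFounded.has_min (wellFounded_gt (α := Subgroup Γ)) 𝒮 hne𝒮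
  set Y₁ : Subgroup Γ := Y ⊓ centralizer (B₁ : Set Γ) with hY₁
  have hBY₁ : B ≤ normalizer (Y₁ : Set Γ) := by
    refine le_trans ?_ inf_normalizer_le_normalizer_inf
    apply le_inf hBY
    refine le_trans ?_ (Cfsg.Agent.Lib.Helper52Basic.normalizer_le_normalizer_centralizer _)
    refine le_trans ?_ (centralizer_le_normalizer _)
    intro b hb
    rw [mem_centralizer_iff]
    intro x hx
    exact hBc x (hB₁B hx) b hb
  obtain ⟨b₁, hb₁B, hb₁⟩ := SetLike.not_le_iff_exists.mp hB₁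
  have hb₁B₁ : b₁ ∉ B₁ := by
    intro h
    apply hb₁
    rw [mem_centralizer_iff]
    intro y hy
    exact ((mem_centralizer_iff.mp hy.2) b₁ h).symm
  have hcent : ∀ x ∈ B, x ∉ B₁ →
      B ≤ centralizer ((Y₁ ⊓ centralizer {x} : Subgroup Γ) : Set Γ) := by
    intro x hx hxB₁
    by_contra hcon
    have hlt : B₁ < B₁ ⊔ zpowers x := by
      apply lt_of_le_of_ne le_sup_left
      intro h
      apply hxB₁
      rw [h]
      exact le_sup_right (a := B₁) (mem_zpowers x)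
    apply hmax (B₁ ⊔ zpowers x) ⟨sup_le hB₁B (zpowers_le.mpr hx), ?_⟩ hlt
    intro h
    apply hcon
    refine h.trans (centralizer_le ?_)
    intro y hy
    refine ⟨hy.1.1, ?_⟩
    change y ∈ centralizer _
    rw [Cfsg.Agent.Lib.Helper28Util.mem_centralizer_subgroup_iff_le]
    apply sup_le
    · exact Cfsg.Agent.Lib.Helper28Util.mem_centralizer_subgroup_iff_le.mp hy.1.2
    · rw [zpowers_le, mem_centralizer_singleton_iff]
      exact (mem_centralizer_singleton_iff.mp hy.2).symm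
  have hdich : ∀ b ∈ B, b ∈ B₁ ∨ b * b₁ ∈ B₁ := by
    intro b hb
    by_contra hcon
    push Not at hcon
    obtain ⟨hbB₁, hbb₁⟩ := hcon
    apply hB₁
    have hgen := Cfsg.Agent.Lib.Helper30Gen.le_gen (K := Y₁) (r := 2) (w := b) (z := b₁)
      (hBc b hb b₁ hb₁B) (by rw [pow_two]; exact hB b hb) (by rw [pow_two]; exact hB b₁ hb₁B)
      (by
        have h1 : Nat.card Y₁ ∣ Nat.card Y := card_dvd_of_le inf_le_left
        exact (Nat.coprime_two_right).mpr (Odd.of_dvd_nat hYodd h1))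
      (hBY₁ hb) (hBY₁ hb₁B)
    rw [le_centralizer_iff]
    refine hgen.trans ?_
    unfold Cfsg.Agent.Lib.Helper30Gen.gen
    apply sup_le
    · exact le_centralizer_iff.mp (hcent b hb hbB₁)
    · apply iSup_le
      intro j
      apply le_centralizer_iff.mp
      have hpow : b ^ j = 1 ∨ b ^ j = b := by
        induction j with
        | zero => left; simp
        | succ j ih =>
          rcases ih with h | h
          · right; rw [pow_succ, h, one_mul]
          · left; rw [pow_succ, h]; exact hB b hb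
      rcases hpow with h | h
      · rw [h, mul_one]; exact hcent b₁ hb₁B hb₁B₁
      · rw [h, hBc b₁ hb₁B b hb]
        exact hcent _ (B.mul_mem hb hb₁B) hbb₁
  obtain ⟨y₀, hy₀, hy₀b⟩ : ∃ y₀ ∈ Y₁, b₁ * y₀ * b₁⁻¹ ≠ y₀ := by
    by_contra hcon
    push Not at hcon
    apply hb₁
    rw [mem_centralizer_iff]
    intro y hy
    have := hcon y hy
    calc y * b₁ = b₁ * y * b₁⁻¹ * b₁ := by rw [this]
      _ = b₁ * y := by group
  have hb₁inv : b₁⁻¹ = b₁ := inv_eq_of_mul_eq_one_left (hB b₁ hb₁B)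
  have hconjmem : b₁ * y₀ * b₁⁻¹ ∈ Y₁ := (mem_normalizer_iff.mp (hBY₁ hb₁B) y₀).mp hy₀
  set y := y₀⁻¹ * (b₁ * y₀ * b₁⁻¹) with hy
  have hyY₁ : y ∈ Y₁ := Y₁.mul_mem (Y₁.inv_mem hy₀) hconjmem
  have hyinv : b₁ * y * b₁⁻¹ = y⁻¹ := by
    rw [hy, hb₁inv]
    calc b₁ * (y₀⁻¹ * (b₁ * y₀ * b₁)) * b₁ = b₁ * y₀⁻¹ * (b₁ * y₀ * (b₁ * b₁)) := by group
      _ = b₁ * y₀⁻¹ * (b₁ * y₀) := by rw [hB b₁ hb₁B, mul_one]
      _ = b₁⁻¹ * y₀⁻¹ * (b₁⁻¹ * y₀) := by rw [hb₁inv]
      _ = (y₀⁻¹ * (b₁ * y₀ * b₁))⁻¹ := by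
        rw [mul_inv_rev, mul_inv_rev, mul_inv_rev, inv_inv]; group
  have hcentB₁ : ∀ b ∈ B₁, ∀ u ∈ Y₁, b * u * b⁻¹ = u := by
    intro b hb u hu
    have := (mem_centralizer_iff.mp hu.2) b hb
    rw [this]; group
  refine ⟨y, hyY₁.1, ?_, b₁, hb₁B, hyinv, ?_⟩
  · intro h
    apply hy₀b
    rw [hy] at h
    exact (inv_mul_eq_one.mp h).symm
  · intro b hb
    rcases hdich b hb with h | h
    · left; exact hcentB₁ b h y hyY₁
    · right
      have h1 : b = (b * b₁) * b₁ := by rw [mul_assoc, hB b₁ hb₁B, mul_one]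
      calc b * y * b⁻¹ = ((b * b₁) * b₁) * y * ((b * b₁) * b₁)⁻¹ := by rw [← h1]
        _ = (b * b₁) * (b₁ * y * b₁⁻¹) * (b * b₁)⁻¹ := by group
        _ = y⁻¹ := by rw [hyinv]; exact hcentB₁ _ h _ (Y₁.inv_mem hyY₁)

section Core

variable {V : Type*} [CommGroup V]

theorem core' [Finite V] (hV : ∀ v : V, v * v = 1) (B Y : Subgroup (MulAut V))
    (hB : ∀ b ∈ B, b * b = 1)
    (hYodd : Odd (Nat.card Y)) (hBY : ∀ b ∈ B, ∀ y ∈ Y, b * y * b⁻¹ ∈ Y)
    (hne : ∃ b ∈ B, ∃ y ∈ Y, b * y * b⁻¹ ≠ y)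
    (hbest : ∀ B' ≤ B, B'.relIndex B = 2 → Nat.card (fix B') ≤ 2 * Nat.card (fix B)) :
    ∃ W : Subgroup V, Nat.card W = 4 ∧ ∃ y ∈ Y, ∃ b ∈ B, (∀ w ∈ W, y w ∈ W) ∧
      (∀ w ∈ W, b w ∈ W) ∧ (∃ w ∈ W, y w ≠ w) ∧ (∃ w ∈ W, b w ≠ w) := by
  classical
  have : Fact (Nat.Prime 2) := ⟨Nat.prime_two⟩
  have hBY' : B ≤ normalizer (Y : Set (MulAut V)) := fun b hb =>
    mem_normalizer_of_forall_conj_mem (hBY b hb)
  have hne' : ¬ B ≤ centralizer (Y : Set (MulAut V)) := by
    obtain ⟨b₀, hb₀, y₀, hy₀, hne⟩ := hne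
    intro h
    apply hne
    have := (mem_centralizer_iff.mp (h hb₀)) y₀ hy₀
    rw [← this]; group
  obtain ⟨y, hyY, hy1, b₀, hb₀, hyb₀, heig⟩ := exists_eigen' B Y hB hYodd hBY' hne'
  have hyn : y ^ Nat.card Y = 1 := by
    have := pow_card_eq_one' (G := Y) (x := ⟨y, hyY⟩)
    have h3 := congrArg Subtype.val this
    rwa [Subgroup.coe_pow] at h3
  have hyinv : y⁻¹ ≠ y := by
    intro h
    apply hy1
    apply eq_one_of_sq_of_odd hYodd hyY
    rw [pow_two]
    nth_rewrite 1 [← h]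
    exact inv_mul_cancel y
  have hBc : ∀ a ∈ B, ∀ b ∈ B, a * b = b * a := by
    intro a ha b hb
    have h2 := hB a ha
    have h3 := hB b hb
    calc a * b = (b * b) * (a * b) * (a * a) := by rw [h2, h3]; group
      _ = b * ((b * a) * (b * a)) * a := by group
      _ = b * a := by rw [hB (b * a) (B.mul_mem hb ha)]; group
  set B₁ : Subgroup (MulAut V) := B ⊓ centralizer {y} with hB₁
  have hB₁B : B₁ ≤ B := inf_le_left
  have memB₁ : ∀ b, b ∈ B₁ ↔ b ∈ B ∧ b * y * b⁻¹ = y := by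
    intro b
    rw [hB₁, mem_inf, mem_centralizer_singleton_iff]
    constructor
    · rintro ⟨h1, h2⟩
      exact ⟨h1, by rw [h2]; group⟩
    · rintro ⟨h1, h2⟩
      refine ⟨h1, ?_⟩
      calc b * y = b * y * b⁻¹ * b := by group
        _ = y * b := by rw [h2]
  have hidx : B₁.relIndex B = 2 := by
    rw [relIndex_eq_two_iff]
    refine ⟨b₀, hb₀, fun b hb => ?_⟩
    have hconj : (b * b₀) * y * (b * b₀)⁻¹ = (b * y * b⁻¹)⁻¹ := by
      calc (b * b₀) * y * (b * b₀)⁻¹ = b * (b₀ * y * b₀⁻¹) * b⁻¹ := by group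
        _ = (b * y * b⁻¹)⁻¹ := by rw [hyb₀]; group
    rcases heig b hb with h | h
    · right
      refine ⟨(memB₁ b).mpr ⟨hb, h⟩, fun h2 => ?_⟩
      have := ((memB₁ _).mp h2).2
      rw [hconj, h] at this
      exact hyinv this
    · left
      refine ⟨(memB₁ _).mpr ⟨B.mul_mem hb hb₀, ?_⟩, fun h2 => ?_⟩
      · rw [hconj, h, inv_inv]
      · have := ((memB₁ _).mp h2).2
        rw [h] at this
        exact hyinv this
  have hfixle : Nat.card (fix B₁) ≤ 2 * Nat.card (fix B) := hbest B₁ hB₁B hidx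
  have hfixB : ∀ v, v ∈ fix B ↔ v ∈ fix B₁ ∧ b₀ v = v := by
    intro v
    constructor
    · intro h
      exact ⟨fix_anti hB₁B h, h b₀ hb₀⟩
    · rintro ⟨h1, h2⟩ b hb
      rcases heig b hb with h | h
      · exact h1 b ((memB₁ b).mpr ⟨hb, h⟩)
      · have h3 : b * b₀ ∈ B₁ := by
          refine (memB₁ _).mpr ⟨B.mul_mem hb hb₀, ?_⟩
          calc (b * b₀) * y * (b * b₀)⁻¹ = b * (b₀ * y * b₀⁻¹) * b⁻¹ := by group
            _ = (b * y * b⁻¹)⁻¹ := by rw [hyb₀]; group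
            _ = y := by rw [h, inv_inv]
        have h4 := h1 _ h3
        rw [MulAut.mul_apply, h2] at h4
        exact h4
  set X : Subgroup V := (delta y).range with hX
  set W : Subgroup V := X ⊓ fix B₁ with hW
  have hb₀y : ∀ v, b₀ (y v) = y⁻¹ (b₀ v) := by
    intro v
    have h1 : b₀ * y = y⁻¹ * b₀ := by
      calc b₀ * y = b₀ * y * b₀⁻¹ * b₀ := by group
        _ = y⁻¹ * b₀ := by rw [hyb₀]
    have := congrArg (fun f : MulAut V => f v) h1
    simpa [MulAut.mul_apply] using this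
  have hyW : ∀ w ∈ W, y w ∈ W := by
    rintro w ⟨⟨u, rfl⟩, hw2⟩
    refine ⟨⟨y u, ?_⟩, ?_⟩
    · rw [delta_apply, delta_apply, map_mul, map_inv]
    · intro b hb
      have h1 : b * y = y * b := by
        have := ((memB₁ b).mp hb).2
        calc b * y = b * y * b⁻¹ * b := by group
          _ = y * b := by rw [this]
      have h2 := congrArg (fun f : MulAut V => f (delta y u)) h1
      simp only [MulAut.mul_apply] at h2
      rw [h2, hw2 b hb]
  have hbW : ∀ w ∈ W, b₀ w ∈ W := by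
    rintro w ⟨⟨u, rfl⟩, hw2⟩
    refine ⟨⟨(y⁻¹ (b₀ u))⁻¹, ?_⟩, ?_⟩
    · rw [delta_apply, delta_apply, map_mul, map_inv, map_inv, hb₀y, inv_inv]
      have : y (y⁻¹ (b₀ u)) = b₀ u := by
        rw [← MulAut.mul_apply, mul_inv_cancel, MulAut.one_apply]
      rw [this, mul_comm]
    · intro b hb
      have h1 : b * b₀ = b₀ * b := hBc b (hB₁B hb) b₀ hb₀
      have h2 := congrArg (fun f : MulAut V => f (delta y u)) h1
      simp only [MulAut.mul_apply] at h2
      rw [h2, hw2 b hb]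
  have hWy : ∀ w ∈ W, y w = w → w = 1 := fun w hw h =>
    eq_one_of_mem_range_delta_of_fixed hV hYodd hyn hw.1 h
  have h2grp : ∀ U : Subgroup V, IsPGroup 2 U := by
    intro U g
    refine ⟨1, ?_⟩
    apply Subtype.ext
    rw [pow_one, pow_two]
    exact hV g
  -- `W` is nontrivial
  obtain ⟨w₁, hw₁W, hw₁⟩ : ∃ w ∈ W, w ≠ 1 := by
    have hXne : X ≠ ⊥ := by
      intro h
      apply hy1
      ext u
      have h1 : delta y u ∈ X := ⟨u, rfl⟩
      rw [h, mem_bot, delta_apply, mul_inv_eq_one] at h1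
      rw [h1, MulAut.one_apply]
    have hXinv : ∀ b ∈ B₁, ∀ x ∈ X, b x ∈ X := by
      rintro b hb _ ⟨u, rfl⟩
      refine ⟨b u, ?_⟩
      have h1 : b * y = y * b := by
        have := ((memB₁ b).mp hb).2
        calc b * y = b * y * b⁻¹ * b := by group
          _ = y * b := by rw [this]
      have h2 := congrArg (fun f : MulAut V => f u) h1
      simp only [MulAut.mul_apply] at h2
      rw [delta_apply, delta_apply, map_mul, map_inv, h2]
    let _ : MulAction B₁ X :=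
      { smul := fun b x => ⟨b.1 x.1, hXinv b.1 b.2 x.1 x.2⟩
        one_smul := fun x => Subtype.ext rfl
        mul_smul := fun a b x => Subtype.ext rfl }
    have hB₁p : IsPGroup 2 B₁ := by
      intro g
      refine ⟨1, ?_⟩
      apply Subtype.ext
      rw [pow_one, pow_two]
      exact hB g (hB₁B g.2)
    have hdvd : 2 ∣ Nat.card X := by
      obtain ⟨k, hk⟩ := IsPGroup.iff_card.mp (h2grp X)
      rcases Nat.eq_zero_or_pos k with h0 | h0
      · rw [h0, pow_zero] at hk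
        exact absurd (card_eq_one.mp hk) hXne
      · rw [hk]; exact dvd_pow_self 2 h0.ne'
    have hfix1 : (1 : X) ∈ MulAction.fixedPoints B₁ X := by
      intro b
      apply Subtype.ext
      change b.1 (1 : V) = 1
      exact map_one _
    obtain ⟨x, hx, hx1⟩ := hB₁p.exists_fixed_point_of_prime_dvd_card_of_fixed_point X hdvd hfix1
    refine ⟨x.1, ⟨x.2, ?_⟩, fun h => hx1 (Subtype.ext h.symm)⟩
    intro b hb
    exact congrArg Subtype.val (hx ⟨b, hb⟩)
  set W₀ : Subgroup V := fix B ⊓ W with hW₀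
  have hW₀W : W₀ ≤ W := inf_le_right
  have hcardW : Nat.card W ≤ 2 * Nat.card W₀ := by
    have h1 : (fix B).relIndex (fix B₁) ≤ 2 := by
      have h2 := relIndex_mul_card (fix_anti hB₁B : fix B ≤ fix B₁)
      rw [← h2] at hfixle
      exact Nat.le_of_mul_le_mul_right hfixle Nat.card_pos
    have h3 : (fix B).relIndex W ≤ (fix B).relIndex (fix B₁) :=
      relIndex_le_of_le_right inf_le_right (by
        intro h
        have h2 := relIndex_mul_card (fix_anti hB₁B : fix B ≤ fix B₁)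
        rw [h, zero_mul] at h2
        exact Nat.card_pos.ne h2)
    rw [← relIndex_mul_card hW₀W, hW₀, inf_relIndex_right]
    exact Nat.mul_le_mul_right _ (h3.trans h1)
  set W₀' : Subgroup V := W₀.map y.toMonoidHom with hW₀'
  have hW₀'W : W₀' ≤ W := by
    rintro _ ⟨w, hw, rfl⟩
    exact hyW w (hW₀W hw)
  have hdisj : Disjoint W₀ W₀' := by
    rw [disjoint_iff, eq_bot_iff]
    rintro v ⟨hv1, ⟨v₀, hv₀, rfl⟩⟩
    have hv₀' : v₀ ∈ W₀ := hv₀
    have e1 : b₀ (y v₀) = y v₀ := ((hfixB _).mp hv1.1).2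
    have e2 : b₀ v₀ = v₀ := ((hfixB _).mp hv₀'.1).2
    rw [hb₀y, e2] at e1
    -- y⁻¹ v₀ = y v₀
    have e3 : (y ^ 2) v₀ = v₀ := by
      rw [pow_two, MulAut.mul_apply, ← e1, ← MulAut.mul_apply, mul_inv_cancel, MulAut.one_apply]
    have e4 : y v₀ = v₀ := by
      obtain ⟨m, hm⟩ := hYodd
      have h5 : ∀ i : ℕ, ((y ^ 2) ^ i) v₀ = v₀ := by
        intro i
        induction i with
        | zero => simp
        | succ i ih => rw [pow_succ, MulAut.mul_apply, e3, ih]
      have h6 : y * (y ^ 2) ^ m = 1 := by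
        rw [← pow_mul, ← pow_succ', ← hm]; exact hyn
      have h7 := congrArg (fun f : MulAut V => f v₀) h6
      simp only [MulAut.mul_apply, MulAut.one_apply] at h7
      rwa [h5 m] at h7
    have e5 : v₀ = 1 := hWy v₀ (hW₀W hv₀') e4
    rw [mem_bot]
    change y v₀ = 1
    rw [e5, map_one]
  have hprod : Nat.card W₀ * Nat.card W₀ ≤ Nat.card W := by
    have h1 : Nat.card W₀' = Nat.card W₀ := card_map_of_injective y.injective
    have hinj := mul_injective_of_disjoint hdisj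
    let f : W₀ × W₀' → W := fun g => ⟨g.1 * g.2, W.mul_mem (hW₀W g.1.2) (hW₀'W g.2.2)⟩
    have hf : Function.Injective f := by
      intro a b hab
      exact hinj (congrArg Subtype.val hab)
    have := Nat.card_le_card_of_injective f hf
    rwa [Nat.card_prod, h1] at this
  have hW4 : Nat.card W = 4 := by
    have hc : Nat.card W₀ ≤ 2 := by
      have h1 : Nat.card W₀ * Nat.card W₀ ≤ 2 * Nat.card W₀ := hprod.trans hcardW
      exact Nat.le_of_mul_le_mul_right h1 Nat.card_pos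
    have hle : Nat.card W ≤ 4 := by omega
    obtain ⟨k, hk⟩ := IsPGroup.iff_card.mp (h2grp W)
    have hk2 : k ≤ 2 := by
      by_contra h
      have : 2 ^ 3 ≤ 2 ^ k := Nat.pow_le_pow_right (by norm_num) (by omega)
      omega
    interval_cases k
    · exfalso
      rw [pow_zero] at hk
      have := card_eq_one.mp hk
      rw [this, mem_bot] at hw₁W
      exact hw₁ hw₁W
    · exfalso
      rw [pow_one] at hk
      obtain ⟨z, -, hz⟩ := (Nat.card_eq_two_iff' (1 : W)).mp hk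
      have h1 : (⟨w₁, hw₁W⟩ : W) = z := hz _ (fun h => hw₁ (congrArg Subtype.val h))
      have h2 : (⟨y w₁, hyW _ hw₁W⟩ : W) = z := hz _ (fun h => hw₁ (by
        have := congrArg Subtype.val h
        exact (map_eq_one_iff y y.injective).mp this))
      have h3 : y w₁ = w₁ := congrArg Subtype.val (h2.trans h1.symm)
      exact hw₁ (hWy _ hw₁W h3)
    · rw [hk]; norm_num
  refine ⟨W, hW4, y, hyY, b₀, hb₀, hyW, hbW, ⟨w₁, hw₁W, fun h => hw₁ (hWy _ hw₁W h)⟩, ?_⟩
  by_contra hcon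
  push Not at hcon
  have h1 : W ≤ W₀ := by
    intro w hw
    exact ⟨(hfixB w).mpr ⟨hw.2, hcon w hw⟩, hw⟩
  have h2 : y w₁ ∈ W₀ ⊓ W₀' := ⟨h1 (hyW _ hw₁W), ⟨w₁, h1 hw₁W, rfl⟩⟩
  rw [hdisj.eq_bot, mem_bot] at h2
  exact hw₁ ((map_eq_one_iff y y.injective).mp h2)

end Core

section Ambient

open scoped IsMulCommutative
open scoped commutatorElement
open Cfsg.Agent.Lib.Helper52FF2b

variable {G : Type*} [Group G]

/-- Failure of factorization for `p = 2` with a group `Y` of odd order (everything modulo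
`C(V)`): the symmetric group of degree four is involved. -/
theorem ff2' [Finite G] (V B Y : Subgroup G) (hV : Cfsg.IsElementaryAbelian 2 V)
    (hBV : B ≤ normalizer (V : Set G)) (hYV : Y ≤ normalizer (V : Set G)) (hB2 : IsPGroup 2 B)
    (hBsq : ∀ b ∈ B, b * b ∈ centralizer (V : Set G))
    (hYodd : Odd (Nat.card Y))
    (hBY : ∀ b ∈ B, ∀ y ∈ Y, ∃ y' ∈ Y, y'⁻¹ * (b * y * b⁻¹) ∈ centralizer (V : Set G))
    (hne : ∃ b ∈ B, ∃ y ∈ Y, y⁻¹ * (b * y * b⁻¹) ∉ centralizer (V : Set G))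
    (hbest : ∀ B' ≤ B, Nat.card B' * Nat.card ↥(V ⊓ centralizer (B' : Set G)) ≤
      Nat.card B * Nat.card ↥(V ⊓ centralizer (B : Set G))) :
    Cfsg.Involves (Equiv.Perm (Fin 4)) G := by
  obtain ⟨hVc, hVe⟩ := hV
  set N := normalizer (V : Set G) with hN
  let ρ : N →* MulAut V := V.normalizerMonoidHom
  have hρ : ∀ (x : N) (v : V), ((ρ x v : V) : G) = x * v * (x : G)⁻¹ := by
    intro x v
    exact normalizerMonoidHom_apply_apply_coe V x v
  have hρ1 : ∀ x : N, ρ x = 1 ↔ (x : G) ∈ centralizer (V : Set G) := by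
    intro x
    rw [← MonoidHom.mem_ker, normalizerMonoidHom_ker, mem_subgroupOf]
  have hρeq : ∀ x x' : N, ρ x = ρ x' ↔ (x' : G)⁻¹ * x ∈ centralizer (V : Set G) := by
    intro x x'
    have := hρ1 (x'⁻¹ * x)
    rw [map_mul, map_inv, inv_mul_eq_one] at this
    rw [eq_comm, this]
    rfl
  let fB : B →* MulAut V := ρ.comp (inclusion hBV)
  let fY : Y →* MulAut V := ρ.comp (inclusion hYV)
  have hfix : ∀ B' ≤ fB.range, Nat.card (fix B') =
      Nat.card ↥(V ⊓ centralizer (((B'.comap fB).map B.subtype : Subgroup G) : Set G)) := by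
    intro B' hB'
    rw [← card_map_of_injective V.subtype_injective]
    congr 2
    ext v
    constructor
    · rintro ⟨v, hv, rfl⟩
      refine ⟨v.2, ?_⟩
      change (v : G) ∈ centralizer _
      rw [mem_centralizer_iff]
      rintro _ ⟨b, hb, rfl⟩
      have h1 : fB b v = v := hv _ hb
      have h2 := congrArg Subtype.val h1
      have h3 : ((fB b v : V) : G) = b * v * (b : G)⁻¹ := hρ _ v
      rw [h3] at h2
      change (b : G) * v = v * b
      calc (b : G) * v = b * v * (b : G)⁻¹ * b := by group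
        _ = v * b := by rw [h2]
    · rintro ⟨hvV, hvc⟩
      refine ⟨⟨v, hvV⟩, ?_, rfl⟩
      intro s hs
      obtain ⟨b, rfl⟩ := hB' hs
      apply Subtype.ext
      have h3 : ((fB b ⟨v, hvV⟩ : V) : G) = b * v * (b : G)⁻¹ := hρ _ _
      rw [h3]
      have h4 : (b : G) * v = v * b := (mem_centralizer_iff.mp hvc) b ⟨b, hs, rfl⟩
      rw [h4]; group
  have hcore := core' (V := V) (fun v => by
      apply Subtype.ext
      have := hVe v v.2
      rw [pow_two] at this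
      exact this) fB.range fY.range ?_ ?_ ?_ ?_ ?_
  · obtain ⟨W, hW4, _, ⟨y, rfl⟩, _, ⟨b, rfl⟩, hyW, hbW, ⟨w₁, hw₁, hyw₁⟩, ⟨w₂, hw₂, hbw₂⟩⟩ := hcore
    have hfYa : ∀ v : V, ((fY y v : V) : G) = y * v * (y : G)⁻¹ := fun v => hρ _ v
    have hfBa : ∀ v : V, ((fB b v : V) : G) = b * v * (b : G)⁻¹ := fun v => hρ _ v
    refine Cfsg.Agent.Lib.Helper52S4.involves_S4 (W.map V.subtype)
      (by rw [card_map_of_injective V.subtype_injective, hW4]) y b ?_ ?_ ?_ ?_ ?_ ?_
    · apply mem_normalizer_of_forall_conj_mem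
      rintro _ ⟨w, hw, rfl⟩
      exact ⟨_, hyW w hw, hfYa w⟩
    · apply mem_normalizer_of_forall_conj_mem
      rintro _ ⟨w, hw, rfl⟩
      exact ⟨_, hbW w hw, hfBa w⟩
    · refine ⟨Nat.card Y, hYodd, ?_⟩
      have := pow_card_eq_one' (G := Y) (x := y)
      have h3 := congrArg Subtype.val this
      rwa [Subgroup.coe_pow] at h3
    · intro h
      apply hyw₁
      apply Subtype.ext
      rw [hfYa]
      have := (mem_centralizer_iff.mp h) w₁ ⟨w₁, hw₁, rfl⟩
      change (w₁ : G) * y = y * w₁ at this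
      rw [← this]; group
    · obtain ⟨k, hk⟩ := hB2 b
      refine ⟨k, ?_⟩
      have h3 := congrArg Subtype.val hk
      rwa [Subgroup.coe_pow] at h3
    · intro h
      apply hbw₂
      apply Subtype.ext
      rw [hfBa]
      have := (mem_centralizer_iff.mp h) w₂ ⟨w₂, hw₂, rfl⟩
      change (w₂ : G) * b = b * w₂ at this
      rw [← this]; group
  · rintro _ ⟨b, rfl⟩
    rw [← map_mul]
    exact (hρ1 _).mpr (hBsq b b.2)
  · exact Odd.of_dvd_nat hYodd (card_range_dvd fY)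
  · rintro _ ⟨b, rfl⟩ _ ⟨y, rfl⟩
    obtain ⟨y', hy', h⟩ := hBY b b.2 y y.2
    refine ⟨⟨y', hy'⟩, ?_⟩
    change ρ _ = ρ _ * ρ _ * (ρ _)⁻¹
    rw [← map_inv, ← map_mul, ← map_mul, eq_comm]
    exact (hρeq _ _).mpr h
  · obtain ⟨b, hb, y, hy, h⟩ := hne
    refine ⟨_, ⟨⟨b, hb⟩, rfl⟩, _, ⟨⟨y, hy⟩, rfl⟩, ?_⟩
    intro h2
    apply h
    change ρ _ * ρ _ * (ρ _)⁻¹ = ρ _ at h2
    rw [← map_inv, ← map_mul, ← map_mul] at h2
    exact (hρeq _ _).mp h2
  · intro B' hB' hidx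
    rw [hfix B' hB', hfix _ le_rfl]
    have htop : ((fB.range.comap fB).map B.subtype : Subgroup G) = B := by
      have : fB.range.comap fB = ⊤ := by
        rw [eq_top_iff]
        intro x _
        exact ⟨x, rfl⟩
      rw [this, ← MonoidHom.range_eq_map, range_subtype]
    rw [htop]
    set B'' : Subgroup G := (B'.comap fB).map B.subtype with hB''
    have hB''B : B'' ≤ B := map_subtype_le _
    have h1 : (B'.comap fB).index = 2 := by rw [index_comap, hidx]
    have h2 : Nat.card B'' = Nat.card (B'.comap fB) := card_map_of_injective B.subtype_injective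
    have h3 : Nat.card B = Nat.card B'' * 2 := by
      rw [h2, ← h1, card_mul_index]
    have h4 := hbest B'' hB''B
    rw [h3] at h4
    have hpos : 0 < Nat.card B'' := Nat.card_pos
    have h5 : Nat.card B'' * Nat.card ↥(V ⊓ centralizer (B'' : Set G)) ≤
        Nat.card B'' * (2 * Nat.card ↥(V ⊓ centralizer (B : Set G))) := by
      calc _ ≤ Nat.card B'' * 2 * Nat.card ↥(V ⊓ centralizer (B : Set G)) := h4
        _ = _ := by ring
    exact Nat.le_of_mul_le_mul_left h5 hpos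

/-- `ff2` for an arbitrary best offender `A` (abelian modulo `C(V)`) acting faithfully on `Y`
modulo `C(V)`. -/
theorem ff2_of_best' [Finite G] (V A Y : Subgroup G) (hV : Cfsg.IsElementaryAbelian 2 V)
    (hAV : A ≤ normalizer (V : Set G)) (hYV : Y ≤ normalizer (V : Set G)) (hA2 : IsPGroup 2 A)
    (hAc : ⁅A, A⁆ ≤ centralizer (V : Set G)) (hAne : ¬ A ≤ centralizer (V : Set G))
    (hYodd : Odd (Nat.card Y))
    (hAY : ∀ a ∈ A, ∀ y ∈ Y, ∃ y' ∈ Y, y'⁻¹ * (a * y * a⁻¹) ∈ centralizer (V : Set G))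
    (hfaith : ∀ a ∈ A, (∀ y ∈ Y, y⁻¹ * (a * y * a⁻¹) ∈ centralizer (V : Set G)) →
      a ∈ centralizer (V : Set G))
    (hbest : ∀ B' ≤ A, Nat.card B' * Nat.card ↥(V ⊓ centralizer (B' : Set G)) ≤
      Nat.card A * Nat.card ↥(V ⊓ centralizer (A : Set G))) :
    Cfsg.Involves (Equiv.Perm (Fin 4)) G := by
  have : Fact (Nat.Prime 2) := ⟨Nat.prime_two⟩
  obtain ⟨B, hBA, hBne, hBq, -, hBbest⟩ := exists_quadratic_best V A hV hAV hA2 hAc hAne hbest
  refine ff2' V B Y hV (hBA.trans hAV) hYV (hA2.to_le hBA)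
    (fun b hb => sq_mem_centralizer V A hV hAV (hBA hb) (hBq hb)) hYodd
    (fun b hb => hAY b (hBA hb)) ?_ hBbest
  obtain ⟨b, hb, hbC⟩ := SetLike.not_le_iff_exists.mp hBne
  by_contra hcon
  push Not at hcon
  exact hbC (hfaith b (hBA hb) (fun y hy => hcon b hb y hy))

end Ambient

end Cfsg.Agent.Lib.Helper52FF3
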