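import Mathlib
import Cfsg.Prelude.Def_BaumannBlocks
import Cfsg.Agent.Lib.Helper56CD

set_option autoImplicit false

namespace Cfsg.Agent.Lib.Helper56CD2

open scoped Pointwise
open Cfsg.Agent.Lib.Helper56CD

variable {G : Type*} [Group G]

section abelian

theorem comm_iff {A : Subgroup G} : IsMulCommutative A ↔ A ≤ Subgroup.centralizer (A : Set G) :=
  Subgroup.le_centralizer_iff_isMulCommutative.symm

theorem comm_sup {X Y : Subgroup G} (hX : IsMulCommutative X) (hY : IsMulCommutative Y)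
    (hXY : X ≤ Subgroup.centralizer (Y : Set G)) : IsMulCommutative (X ⊔ Y : Subgroup G) := by
  rw [comm_iff, centralizer_sup]
  exact sup_le (le_inf (comm_iff.1 hX) hXY)
    (le_inf (Subgroup.le_centralizer_iff.1 hXY) (comm_iff.1 hY))

theorem comm_of_le {X Y : Subgroup G} (hY : IsMulCommutative Y) (h : X ≤ Y) :
    IsMulCommutative X := by
  rw [comm_iff] at hY ⊢
  exact h.trans (hY.trans (centralizer_anti h))

theorem coe_sup_of_le_centralizer {X Y : Subgroup G} (h : X ≤ Subgroup.centralizer (Y : Set G)) :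
    ((X ⊔ Y : Subgroup G) : Set G) = (X : Set G) * (Y : Set G) :=
  Subgroup.coe_mul_of_left_le_normalizer_right X Y
    (h.trans (Subgroup.centralizer_le_normalizer _))

variable [Finite G]

theorem exists_maxAbelian : ∃ A : Subgroup G, A ∈ Cfsg.maxAbelianSubgroups G := by
  have hfin : {A : Subgroup G | IsMulCommutative A}.Finite := Set.toFinite _
  obtain ⟨A, hA, hmax⟩ := Set.exists_max_image _ (fun A : Subgroup G => Nat.card A) hfin
    ⟨⊥, by
      show IsMulCommutative (⊥ : Subgroup G)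
      rw [comm_iff]; exact bot_le⟩
  exact ⟨A, hA, fun B hB => hmax B hB⟩

/-- an abelian subgroup of largest order is self-centralizing -/
theorem centralizer_maxAbelian {A : Subgroup G} (hA : A ∈ Cfsg.maxAbelianSubgroups G) :
    Subgroup.centralizer (A : Set G) = A := by
  apply le_antisymm _ (comm_iff.1 hA.1)
  intro x hx
  have h1 : IsMulCommutative (A ⊔ Subgroup.zpowers x : Subgroup G) := by
    apply comm_sup hA.1 inferInstance
    rw [Subgroup.le_centralizer_iff, Subgroup.zpowers_le]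
    exact hx
  have h2 := hA.2 _ h1
  have h3 : A = A ⊔ Subgroup.zpowers x := Subgroup.eq_of_le_of_card_ge le_sup_left h2
  rw [h3]
  exact (le_sup_right : Subgroup.zpowers x ≤ _) (Subgroup.mem_zpowers x)

omit [Finite G] in
theorem f_of_comm [Finite G] {B : Subgroup G} (hB : IsMulCommutative B) : f B = Nat.card B * Nat.card B := by
  unfold f
  rw [inf_eq_left.2 (comm_iff.1 hB)]

end abelian

section s3006

variable [Finite G]

/-- the main computation for a centrally large `Q` and an abelian `A` of largest order -/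
theorem cl_sup_maxAbelian {Q A : Subgroup G} (hQ : Cfsg.IsCentrallyLarge Q)
    (hA : A ∈ Cfsg.maxAbelianSubgroups G) :
    ((Q ⊔ A : Subgroup G) : Set G) = (Q : Set G) * (A : Set G) ∧ Cfsg.IsCentrallyLarge (Q ⊔ A) ∧
      ((A ⊓ Q) ⊔ Subgroup.centralizer (Q : Set G)) ∈ Cfsg.maxAbelianSubgroups G := by
  obtain ⟨hQ1, hQ2⟩ := cl_iff.1 hQ
  have hCA := centralizer_maxAbelian hA
  set CQ := Subgroup.centralizer (Q : Set G) with hCQ
  have hCQcomm : IsMulCommutative CQ := by
    rw [comm_iff]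
    exact hQ2.trans (le_cc Q)
  have hAQcomm : IsMulCommutative (A ⊓ Q : Subgroup G) := comm_of_le hA.1 inf_le_left
  have hAQC : A ⊓ Q ≤ Subgroup.centralizer (CQ : Set G) := inf_le_right.trans (le_cc Q)
  have hstar : IsMulCommutative ((A ⊓ Q) ⊔ CQ : Subgroup G) := comm_sup hAQcomm hCQcomm hAQC
  have hstar_le := hA.2 _ hstar
  have hinf : (A ⊓ Q) ⊓ CQ = Subgroup.centralizer ((Q ⊔ A : Subgroup G) : Set G) := by
    rw [centralizer_sup, hCA, inf_assoc, inf_eq_right.2 hQ2, inf_comm]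
  have h1 := card_mul_le (A ⊓ Q) CQ
  rw [hinf] at h1
  have h2 := card_mul_le Q A
  set cQA := Nat.card (Subgroup.centralizer ((Q ⊔ A : Subgroup G) : Set G)) with hcQA
  have hcpos : 0 < cQA := Nat.card_pos
  have hipos : 0 < Nat.card (Q ⊓ A : Subgroup G) := Nat.card_pos
  have hQpos : 0 < Nat.card Q := Nat.card_pos
  have hcomm : Nat.card (A ⊓ Q : Subgroup G) = Nat.card (Q ⊓ A : Subgroup G) := by rw [inf_comm]
  rw [hcomm] at h1
  have hmQ : m Q = Nat.card Q * Nat.card CQ := rfl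
  have hmQA : m (Q ⊔ A) = Nat.card (Q ⊔ A : Subgroup G) * cQA := rfl
  have hle : m (Q ⊔ A) ≤ m Q := by
    rw [isCentralizerLarge_iff.1 hQ1]; exact m_le_max _
  -- chain of inequalities
  have c1 : Nat.card Q * (Nat.card (Q ⊓ A : Subgroup G) * Nat.card CQ) ≤
      Nat.card Q * (Nat.card ((A ⊓ Q) ⊔ CQ : Subgroup G) * cQA) := Nat.mul_le_mul_left _ h1
  have c2 : Nat.card Q * (Nat.card ((A ⊓ Q) ⊔ CQ : Subgroup G) * cQA) ≤
      Nat.card Q * (Nat.card A * cQA) :=
    Nat.mul_le_mul_left _ (Nat.mul_le_mul_right _ hstar_le)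
  have c3 : Nat.card Q * (Nat.card A * cQA) ≤
      (Nat.card (Q ⊔ A : Subgroup G) * Nat.card (Q ⊓ A : Subgroup G)) * cQA := by
    rw [← mul_assoc]
    exact Nat.mul_le_mul_right _ h2
  have c4 : (Nat.card (Q ⊔ A : Subgroup G) * Nat.card (Q ⊓ A : Subgroup G)) * cQA ≤
      Nat.card Q * (Nat.card (Q ⊓ A : Subgroup G) * Nat.card CQ) := by
    have : (Nat.card (Q ⊔ A : Subgroup G) * Nat.card (Q ⊓ A : Subgroup G)) * cQA =
        m (Q ⊔ A) * Nat.card (Q ⊓ A : Subgroup G) := by rw [hmQA]; ring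
    rw [this]
    have : Nat.card Q * (Nat.card (Q ⊓ A : Subgroup G) * Nat.card CQ) =
        m Q * Nat.card (Q ⊓ A : Subgroup G) := by rw [hmQ]; ring
    rw [this]
    exact Nat.mul_le_mul_right _ hle
  have e3 : (Nat.card (Q ⊔ A : Subgroup G) * Nat.card (Q ⊓ A : Subgroup G)) * cQA ≤
      Nat.card Q * (Nat.card A * cQA) := c4.trans (c1.trans c2)
  have e3' : Nat.card (Q ⊔ A : Subgroup G) * Nat.card (Q ⊓ A : Subgroup G) ≤
      Nat.card Q * Nat.card A := by
    rw [← mul_assoc] at e3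
    exact Nat.le_of_mul_le_mul_right e3 hcpos
  have e2 : Nat.card Q * (Nat.card A * cQA) ≤
      Nat.card Q * (Nat.card ((A ⊓ Q) ⊔ CQ : Subgroup G) * cQA) := c3.trans (c4.trans c1)
  have e2' : Nat.card A ≤ Nat.card ((A ⊓ Q) ⊔ CQ : Subgroup G) :=
    Nat.le_of_mul_le_mul_right (Nat.le_of_mul_le_mul_left e2 hQpos) hcpos
  have e4 : m Q * Nat.card (Q ⊓ A : Subgroup G) ≤ m (Q ⊔ A) * Nat.card (Q ⊓ A : Subgroup G) := by
    have t1 : (Nat.card (Q ⊔ A : Subgroup G) * Nat.card (Q ⊓ A : Subgroup G)) * cQA =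
        m (Q ⊔ A) * Nat.card (Q ⊓ A : Subgroup G) := by rw [hmQA]; ring
    have t2 : Nat.card Q * (Nat.card (Q ⊓ A : Subgroup G) * Nat.card CQ) =
        m Q * Nat.card (Q ⊓ A : Subgroup G) := by rw [hmQ]; ring
    rw [← t1, ← t2]
    exact c1.trans (c2.trans c3)
  have e4' : m Q ≤ m (Q ⊔ A) := Nat.le_of_mul_le_mul_right e4 hipos
  refine ⟨coe_sup_eq_mul_of_card e3', cl_iff.2 ⟨?_, ?_⟩, hstar, ?_⟩
  · exact (le_antisymm hle e4').trans (isCentralizerLarge_iff.1 hQ1)
  · exact (centralizer_anti le_sup_left).trans (hQ2.trans le_sup_left)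
  · intro B hB
    exact (hA.2 B hB).trans e2'

theorem centralizer_inf_maxAbelian {Q A : Subgroup G} (hQ : Cfsg.IsCentrallyLarge Q)
    (hA : A ∈ Cfsg.maxAbelianSubgroups G) :
    (Q ⊔ A) ⊓ Subgroup.centralizer ((Q ⊓ A : Subgroup G) : Set G) =
        (Q ⊓ Subgroup.centralizer (Q : Set G)) ⊔ A ∧
      (((Q ⊓ Subgroup.centralizer (Q : Set G)) ⊔ A : Subgroup G) : Set G) =
        ((Q ⊓ Subgroup.centralizer (Q : Set G) : Subgroup G) : Set G) * (A : Set G) := by
  obtain ⟨hQ1, hQ2⟩ := cl_iff.1 hQ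
  obtain ⟨h1, -, h3⟩ := cl_sup_maxAbelian hQ hA
  have hCA := centralizer_maxAbelian hA
  have hCstar := centralizer_maxAbelian h3
  rw [inf_eq_right.2 hQ2]
  set CQ := Subgroup.centralizer (Q : Set G) with hCQ
  have hAQC : A ⊓ Q ≤ Subgroup.centralizer (CQ : Set G) := inf_le_right.trans (le_cc Q)
  have key : ∀ x ∈ (Q ⊔ A) ⊓ Subgroup.centralizer ((Q ⊓ A : Subgroup G) : Set G),
      x ∈ (CQ : Set G) * (A : Set G) := by
    intro x hx
    have hx1 : x ∈ (Q : Set G) * (A : Set G) := by rw [← h1]; exact hx.1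
    obtain ⟨q, hq, a, ha, rfl⟩ := Set.mem_mul.1 hx1
    have haC : a ∈ Subgroup.centralizer ((Q ⊓ A : Subgroup G) : Set G) :=
      centralizer_anti inf_le_right (hCA.ge ha)
    have hqC : q ∈ Subgroup.centralizer ((Q ⊓ A : Subgroup G) : Set G) := by
      have : q = q * a * a⁻¹ := by group
      rw [this]
      exact Subgroup.mul_mem _ hx.2 (Subgroup.inv_mem _ haC)
    have hq2 : q ∈ (A ⊓ Q) ⊔ CQ := by
      rw [← hCstar, centralizer_sup, inf_comm A Q]
      exact ⟨hqC, le_cc Q hq⟩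
    have hq3 : q ∈ ((A ⊓ Q : Subgroup G) : Set G) * (CQ : Set G) := by
      rw [← coe_sup_of_le_centralizer hAQC]; exact hq2
    obtain ⟨b, hb, c, hc, rfl⟩ := Set.mem_mul.1 hq3
    have hbc : b * c = c * b := by
      have := (Subgroup.mem_centralizer_iff.1 (hAQC hb)) c hc
      exact this.symm
    refine Set.mem_mul.2 ⟨c, hc, b * a, A.mul_mem hb.1 ha, ?_⟩
    rw [hbc]; group
  have hle : CQ ⊔ A ≤ (Q ⊔ A) ⊓ Subgroup.centralizer ((Q ⊓ A : Subgroup G) : Set G) := by
    apply sup_le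
    · exact le_inf (hQ2.trans le_sup_left) (centralizer_anti inf_le_left)
    · exact le_inf le_sup_right ((hCA.ge).trans (centralizer_anti inf_le_right))
  constructor
  · apply le_antisymm _ hle
    intro x hx
    exact mul_subset_sup CQ A (key x hx)
  · apply Set.Subset.antisymm _ (mul_subset_sup CQ A)
    intro x hx
    exact key x (hle hx)

/-- a centrally large subgroup containing `J(P)` contains `C_P(Z(J(P)))` -/
theorem centralizer_center_thompson_le {T : Subgroup G} (hT : Cfsg.IsCentrallyLarge T)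
    (hJ : Cfsg.thompsonSubgroupA G ≤ T) :
    Subgroup.centralizer ((Cfsg.thompsonSubgroupA G ⊓
      Subgroup.centralizer (Cfsg.thompsonSubgroupA G : Set G) : Subgroup G) : Set G) ≤ T := by
  obtain ⟨hT1, -⟩ := cl_iff.1 hT
  obtain ⟨-, h2⟩ := cd_centralizer m_le_max hT1
  obtain ⟨A, hA⟩ := exists_maxAbelian (G := G)
  have hAJ : A ≤ Cfsg.thompsonSubgroupA G := le_sSup hA
  have h3 : Subgroup.centralizer (T : Set G) ≤ Cfsg.thompsonSubgroupA G ⊓
      Subgroup.centralizer (Cfsg.thompsonSubgroupA G : Set G) := by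
    apply le_inf _ (centralizer_anti hJ)
    calc Subgroup.centralizer (T : Set G) ≤ Subgroup.centralizer (A : Set G) :=
          centralizer_anti (hAJ.trans hJ)
      _ = A := centralizer_maxAbelian hA
      _ ≤ _ := hAJ
  calc _ ≤ Subgroup.centralizer ((Subgroup.centralizer (T : Set G) : Subgroup G) : Set G) :=
        centralizer_anti h3
    _ = T := h2.symm

/-- for centrally large `Q`, the join `Q J(P)` is centrally large -/
theorem cl_sup_thompson {Q : Subgroup G} (hQ : Cfsg.IsCentrallyLarge Q) :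
    Cfsg.IsCentrallyLarge (Q ⊔ Cfsg.thompsonSubgroupA G) := by
  have hs : SupClosed {R : Subgroup G | Cfsg.IsCentrallyLarge R} := supClosed_cl
  have h1 : Q ⊔ Cfsg.thompsonSubgroupA G =
      sSup ((fun A => Q ⊔ A) '' Cfsg.maxAbelianSubgroups G) := by
    obtain ⟨A, hA⟩ := exists_maxAbelian (G := G)
    apply le_antisymm
    · apply sup_le
      · exact le_sup_left.trans (le_sSup ⟨A, hA, rfl⟩)
      · apply sSup_le
        intro B hB
        exact le_sup_right.trans (le_sSup ⟨B, hB, rfl⟩)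
    · apply sSup_le
      rintro _ ⟨B, hB, rfl⟩
      exact sup_le_sup_left (le_sSup hB) Q
  rw [h1]
  obtain ⟨A, hA⟩ := exists_maxAbelian (G := G)
  refine hs.sSup_mem_of_nonempty (Set.toFinite _) ⟨Q ⊔ A, ⟨A, hA, rfl⟩⟩ ?_
  rintro _ ⟨B, hB, rfl⟩
  exact (cl_sup_maxAbelian hQ hB).2.1

theorem thompson_le_centrallyLargeJoin :
    Cfsg.thompsonSubgroupA G ≤ Cfsg.centrallyLargeJoin G :=
  le_sup_right.trans (le_sSup (cl_sup_thompson cl_centrallyLargeJoin))

end s3006

end Cfsg.Agent.Lib.Helper56CD2
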