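import Mathlib
import Cfsg.Agent.Lib.Helper24ThompsonOdd
import Cfsg.Agent.Lib.Helper24Section
import Cfsg.Agent.Lib.Helper52FF3
import Cfsg.Agent.Lib.Helper13Offender
import Cfsg.Agent.Lib.Helper56CD2

set_option autoImplicit false

/-! Thompson's normal `p`-complement theorem for `p = 2` in `S₄`-free groups. -/

namespace Cfsg.Agent.Lib.Helper24ThompsonTwo

open Subgroup Cfsg
open scoped commutatorElement
open Cfsg.Agent.Lib.Helper11Frobenius Cfsg.Agent.Lib.Helper24NPC Cfsg.Agent.Lib.Helper24Functor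
open Cfsg.Agent.Lib.Helper24Star Cfsg.Agent.Lib.Helper24PStable Cfsg.Agent.Lib.Helper14ZJ
open Cfsg.Agent.Lib.Helper24ThompsonFinal

universe u

section
variable {X : Type*} [Group X] [Finite X] {p : ℕ} [Fact p.Prime]

theorem thompson_final' (𝔉 : Subgroup X → Set (Subgroup X))
    (_F1 : ∀ P A : Subgroup X, A ∈ 𝔉 P → A ≤ P ∧ IsMulCommutative A)
    (F2 : ∀ (φ : X ≃* X) (P A : Subgroup X), A ∈ 𝔉 P →
      A.map φ.toMonoidHom ∈ 𝔉 (P.map φ.toMonoidHom))
    (F3 : ∀ P T A : Subgroup X, A ∈ 𝔉 P → A ≤ T → T ≤ P → 𝔉 T ⊆ 𝔉 P)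
    (F3' : ∀ P T A : Subgroup X, A ∈ 𝔉 P → A ≤ T → T ≤ P → A ∈ 𝔉 T)
    (F4 : ∀ P : Subgroup X, (𝔉 P).Nonempty)
    (hc : centralizer (pCore p X : Set X) ≤ pCore p X) (K : Subgroup X)
    (hK : Star p (pCore p X) K)
    (T : Sylow p X)
    (hq : ∀ (V : Subgroup X) [V.Normal], IsElementaryAbelian p V → V ≤ pCore p X →
      centralizer (V : Set X) = pCore p X → ∀ A ∈ 𝔉 T, A ≤ pCore p X)
    (h1 : HasNPC p (normalizer ((sSup (𝔉 T) : Subgroup X) : Set X)))
    (h2 : HasNPC p (centralizer (((T : Subgroup X) ⊓ centralizer (T : Set X) : Subgroup X) : Set X))) :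
    HasNPC p X := by
  have hpp : p.Prime := Fact.out
  set H := pCore p X with hH
  have hHn : H.Normal := hK.hnormal
  have hKn : K.Normal := hK.normal
  have hHp : IsPGroup p H := hK.hp
  have hHT : H ≤ T := Helper40Cores.pCore_le_sylow T
  set Z := (T : Subgroup X) ⊓ centralizer (T : Set X) with hZ
  have hZHn : (H ⊓ centralizer (H : Set X)).Normal := inferInstance
  have hZZH : Z ≤ H ⊓ centralizer (H : Set X) := by
    intro z hz
    have h3 : z ∈ centralizer (H : Set X) := Subgroup.centralizer_le hHT hz.2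
    exact ⟨hc h3, h3⟩
  set U := normalClosure (Z : Set X) with hU
  have hUn : U.Normal := normalClosure_normal
  have hUZH : U ≤ H ⊓ centralizer (H : Set X) := normalClosure_le_normal hZZH
  have hUc : ∀ u ∈ U, ∀ w ∈ U, u * w = w * u := by
    intro u hu w hw
    exact (hUZH hw).2 u (hUZH hu).1
  let V : Subgroup X :=
    { carrier := {u | u ∈ U ∧ u ^ p = 1}
      mul_mem' := by
        rintro a b ⟨ha, ha1⟩ ⟨hb, hb1⟩
        refine ⟨U.mul_mem ha hb, ?_⟩
        rw [(show Commute a b from hUc a ha b hb).mul_pow, ha1, hb1, one_mul]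
      one_mem' := ⟨U.one_mem, one_pow _⟩
      inv_mem' := by
        rintro a ⟨ha, ha1⟩
        exact ⟨U.inv_mem ha, by rw [inv_pow, ha1, inv_one]⟩ }
  have hVmem : ∀ u, u ∈ V ↔ u ∈ U ∧ u ^ p = 1 := fun u => Iff.rfl
  have hVU : V ≤ U := fun u hu => hu.1
  have hVn : V.Normal := by
    constructor
    intro v hv g
    exact ⟨hUn.conj_mem v hv.1 g, by rw [conj_pow, hv.2]; group⟩
  have hVH : V ≤ H := fun v hv => (hUZH hv.1).1
  have hVp : IsPGroup p V := hHp.to_le hVH
  have hVe : IsElementaryAbelian p V :=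
    ⟨IsMulCommutative.of_setLike_mul_comm fun a ha b hb => hUc a ha.1 b hb.1, fun a ha => ha.2⟩
  set C := centralizer (V : Set X) with hC
  have hCn : C.Normal := inferInstance
  have hHC : H ≤ C := by
    intro h hh v hv
    exact ((hUZH hv.1).2 h hh).symm
  have hHCU : H ≤ centralizer (U : Set X) := by
    intro h hh v hv
    exact ((hUZH hv).2 h hh).symm
  obtain ⟨k, hk⟩ := hK.index
  by_cases hKC : K ≤ C
  · -- `K` centralises `Z(T)`
    have hKU : K ≤ centralizer (U : Set X) := by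
      intro x hx
      obtain ⟨j, hj⟩ := exists_pow_coprime (p := p) x
      have h3 : x ^ (p ^ j) ∈ centralizer (U : Set X) := by
        intro u hu
        obtain ⟨i, hi⟩ := (hHp.to_le (hUZH.trans inf_le_left)) ⟨u, hu⟩
        have hi' : u ^ (p ^ i) = 1 := congrArg Subtype.val hi
        refine (cf U hUc _ hj ?_ i u hu hi').symm
        intro w hw hw1
        exact ((hKC (K.pow_mem hx _)) w ⟨hw, hw1⟩).symm
      have h4 : x ^ (H.relIndex K) ∈ centralizer (U : Set X) := by
        apply hHCU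
        have h5 : (H.subgroupOf K).Normal := inferInstance
        exact Subgroup.pow_index_mem (H.subgroupOf K) (⟨x, hx⟩ : K)
      exact mem_of_pow_mem_coprime _ x (Nat.Coprime.pow_left j hK.coprime.symm) h3 h4
    have htop : centralizer (Z : Set X) = ⊤ := by
      rw [eq_top_iff, ← sup_sylow_eq_top K hK.index T]
      apply sup_le
      · exact hKU.trans (Subgroup.centralizer_le (Subgroup.subset_normalClosure))
      · intro t ht z hz
        exact (hz.2 t ht).symm
    have h3 : HasNPC p (⊤ : Subgroup X) := htop ▸ h2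
    exact HasNPC.of_equiv Subgroup.topEquiv h3
  · have hCK : C ⊓ K = H := by
      rcases hK.irred (C ⊓ K) inferInstance (le_inf hHC hK.le) inf_le_right with h | h
      · exact h
      · exact absurd (h ▸ inf_le_left) hKC
    have hCp : IsPGroup p C := by
      intro c
      have h3 : (c : X) ^ (p ^ k) ∈ K := by
        rw [← hk]
        exact Subgroup.pow_index_mem K c
      have h4 : (c : X) ^ (p ^ k) ∈ H := hCK ▸ (⟨C.pow_mem c.2 _, h3⟩ : (c : X) ^ (p ^ k) ∈ C ⊓ K)
      obtain ⟨j, hj⟩ := hHp ⟨_, h4⟩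
      refine ⟨k + j, ?_⟩
      apply Subtype.ext
      have := congrArg Subtype.val hj
      simpa [pow_add, pow_mul] using this
    have hCH : C = H := le_antisymm (Helper40Cores.le_pCore inferInstance hCp) hHC
    have claim : ∀ A ∈ 𝔉 T, A ≤ H := hq V hVe hVH hCH
    obtain ⟨A₀, hA₀⟩ := F4 T
    have hFH : 𝔉 H ⊆ 𝔉 T := F3 T H A₀ hA₀ (claim A₀ hA₀) hHT
    have hJn : (sSup (𝔉 T)).Normal := by
      constructor
      intro n hn g
      have h3 : sSup (𝔉 T) ≤ (sSup (𝔉 T)).comap (MulAut.conj g).toMonoidHom := by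
        apply sSup_le
        intro A hA
        rw [← Subgroup.map_le_iff_le_comap]
        apply le_sSup
        apply hFH
        have h4 := F2 (MulAut.conj g) H A (F3' T H A hA (claim A hA) hHT)
        have h5 : H.map (MulAut.conj g).toMonoidHom = H := by
          have : g ∈ normalizer (H : Set X) := by rw [normalizer_eq_top]; trivial
          exact Helper40Sylow.mem_normalizer_iff_cj.mp this
        rwa [h5] at h4
      exact h3 hn
    have htop : normalizer ((sSup (𝔉 T) : Subgroup X) : Set X) = ⊤ := normalizer_eq_top_iff.mpr hJn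
    have h3 : HasNPC p (⊤ : Subgroup X) := htop ▸ h1
    exact HasNPC.of_equiv Subgroup.topEquiv h3

end

open Cfsg.Agent.Lib.Helper14Family Cfsg.Agent.Lib.Helper14FamProps
open Cfsg.Agent.Lib.Helper24Reduce Cfsg.Agent.Lib.Helper24Thompson
open Cfsg.Agent.Lib.Helper24ThompsonOdd Cfsg.Agent.Lib.Helper24Section

theorem famA_best {X : Type*} [Group X] [Finite X] {S A V : Subgroup X} (hA : A ∈ famA S)
    (hVS : V ≤ S) (hVc : IsMulCommutative V) :
    ∀ B' ≤ A, Nat.card B' * Nat.card ↥(V ⊓ centralizer (B' : Set X)) ≤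
      Nat.card A * Nat.card ↥(V ⊓ centralizer (A : Set X)) := by
  intro B' hB'
  have hAc := hA.2.1
  have hB'c : IsMulCommutative B' := Helper56CD2.comm_of_le hAc hB'
  have hCc : IsMulCommutative (V ⊓ centralizer (B' : Set X) : Subgroup X) :=
    Helper56CD2.comm_of_le hVc inf_le_left
  have hE : IsMulCommutative (B' ⊔ (V ⊓ centralizer (B' : Set X)) : Subgroup X) :=
    Helper56CD2.comm_sup hB'c hCc (by
      rw [Subgroup.le_centralizer_iff]
      exact inf_le_right)
  have h1 := hA.2.2 _ (sup_le (hB'.trans hA.1) (inf_le_left.trans hVS)) hE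
  have h2 := Helper13Offender.card_mul_card_le B' (V ⊓ centralizer (B' : Set X))
  have h3 : B' ⊓ (V ⊓ centralizer (B' : Set X)) ≤ V ⊓ centralizer (A : Set X) := by
    intro x hx
    refine ⟨hx.2.1, ?_⟩
    exact (Helper56CD2.comm_iff.mp hAc) (hB' hx.1)
  calc _ ≤ _ := h2
    _ ≤ Nat.card A * Nat.card ↥(V ⊓ centralizer (A : Set X)) :=
      Nat.mul_le_mul h1 (Subgroup.card_le_of_le h3)

/-- a `p`-element of `T` centralising `K / H` lies in `H = O_p(X)` -/
theorem mem_pCore_of_centralizes {X : Type*} [Group X] [Finite X] {p : ℕ} [Fact p.Prime]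
    (K : Subgroup X) (hK : Star p (pCore p X) K) (T : Sylow p X) (a : X) (haT : a ∈ T)
    (ha : ∀ k ∈ K, k * a * k⁻¹ * a⁻¹ ∈ pCore p X) : a ∈ pCore p X := by
  have hHn : (pCore p X).Normal := hK.hnormal
  have hKn : K.Normal := hK.normal
  have hHT : pCore p X ≤ T := Helper40Cores.pCore_le_sylow T
  let π := QuotientGroup.mk' (pCore p X)
  let D : Subgroup X := (centralizer ((K.map π : Subgroup _) : Set (X ⧸ pCore p X))).comap π
  have hDmem : ∀ x, x ∈ D ↔ ∀ k ∈ K, k * x * k⁻¹ * x⁻¹ ∈ pCore p X := by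
    intro x
    constructor
    · intro hx k hk
      have h1 : π k * π x = π x * π k := hx (π k) ⟨k, hk, rfl⟩
      rw [← QuotientGroup.eq_one_iff]
      show π (k * x * k⁻¹ * x⁻¹) = 1
      rw [map_mul, map_mul, map_mul, h1, map_inv, map_inv]
      group
    · intro hx
      rintro _ ⟨k, hk, rfl⟩
      have h1 := hx k hk
      rw [← QuotientGroup.eq_one_iff] at h1
      have h2 : π (k * x * k⁻¹ * x⁻¹) = 1 := h1
      rw [map_mul, map_mul, map_mul, map_inv, map_inv] at h2
      calc π k * π x = (π k * π x * (π k)⁻¹ * (π x)⁻¹) * (π x * π k) := by group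
        _ = π x * π k := by rw [h2, one_mul]
  have hDn : D.Normal := by
    have : (K.map π).Normal := hKn.map π (QuotientGroup.mk'_surjective _)
    exact Subgroup.Normal.comap inferInstance π
  have hRn : (D ⊓ (T : Subgroup X)).Normal := by
    rw [← normalizer_eq_top_iff, eq_top_iff, ← sup_sylow_eq_top K hK.index T]
    apply sup_le
    · intro k hk
      apply Helper52FF2.mem_normalizer_of_forall_conj_mem
      intro r hr
      refine ⟨hDn.conj_mem r hr.1 k, ?_⟩
      have h1 : k * r * k⁻¹ * r⁻¹ ∈ (T : Subgroup X) := hHT ((hDmem r).mp hr.1 k hk)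
      have h2 : k * r * k⁻¹ = (k * r * k⁻¹ * r⁻¹) * r := by group
      rw [h2]
      exact (T : Subgroup X).mul_mem h1 hr.2
    · intro t ht
      apply Helper52FF2.mem_normalizer_of_forall_conj_mem
      intro r hr
      exact ⟨hDn.conj_mem r hr.1 t,
        (T : Subgroup X).mul_mem ((T : Subgroup X).mul_mem ht hr.2) ((T : Subgroup X).inv_mem ht)⟩
  have hRp : IsPGroup p (D ⊓ (T : Subgroup X) : Subgroup X) := T.2.to_le inf_le_right
  exact Helper40Cores.le_pCore hRn hRp ⟨(hDmem a).mpr ha, haT⟩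

theorem claim_two {X : Type*} [Group X] [Finite X] (hS4 : ¬ Involves (Equiv.Perm (Fin 4)) X)
    (K : Subgroup X) (hK : Star 2 (pCore 2 X) K) (T : Sylow 2 X) (V : Subgroup X) [hVn : V.Normal]
    (hV : IsElementaryAbelian 2 V) (hVH : V ≤ pCore 2 X)
    (hC : centralizer (V : Set X) = pCore 2 X) (A : Subgroup X) (hA : A ∈ famA (T : Subgroup X)) :
    A ≤ pCore 2 X := by
  have : Fact (Nat.Prime 2) := ⟨Nat.prime_two⟩
  by_contra hAH
  apply hS4
  have hHn : (pCore 2 X).Normal := hK.hnormal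
  have hKn : K.Normal := hK.normal
  have hHT : pCore 2 X ≤ T := Helper40Cores.pCore_le_sylow T
  have hcop : Nat.Coprime (Nat.card ((pCore 2 X).subgroupOf K)) ((pCore 2 X).subgroupOf K).index := by
    obtain ⟨n, hn⟩ := IsPGroup.iff_card.mp hK.hp
    rw [card_subgroupOf hK.le, hn]
    exact Nat.Coprime.pow_left n hK.coprime.symm
  obtain ⟨Y₀, hY₀⟩ := Subgroup.exists_left_complement'_of_coprime hcop
  have hYK : Y₀.map K.subtype ≤ K := by
    rintro _ ⟨y, _, rfl⟩
    exact y.2
  have hYodd : Odd (Nat.card (Y₀.map K.subtype)) := by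
    rw [Subgroup.card_map_of_injective K.subtype_injective, ← hY₀.index_eq_card]
    exact (Nat.coprime_two_right.mp hK.coprime)
  have hdec : ∀ k ∈ K, ∃ y ∈ Y₀.map K.subtype, y⁻¹ * k ∈ pCore 2 X := by
    intro k hk
    obtain ⟨⟨y, n⟩, h, -⟩ := hY₀.existsUnique ⟨k, hk⟩
    refine ⟨y, ⟨y, y.2, rfl⟩, ?_⟩
    have h1 : ((y : K) : X) * ((n : K) : X) = k := congrArg Subtype.val h
    rw [← h1, inv_mul_cancel_left]
    exact n.2
  have htop : normalizer (V : Set X) = ⊤ := normalizer_eq_top_iff.mpr hVn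
  refine Helper52FF3.ff2_of_best' V A (Y₀.map K.subtype) hV (htop ▸ le_top) (htop ▸ le_top)
    (T.2.to_le hA.1) ?_ ?_ hYodd ?_ ?_ (famA_best hA (hVH.trans hHT) hV.1)
  · have := hA.2.1
    rw [(Subgroup.commutator_eq_bot_iff_le_centralizer).mpr (Helper56CD2.comm_iff.mp hA.2.1)]
    exact bot_le
  · rw [hC]; exact hAH
  · intro a _ y hy
    rw [hC]
    exact hdec _ (hKn.conj_mem y (hYK hy) a)
  · intro a ha hay
    rw [hC] at hay ⊢
    apply mem_pCore_of_centralizes K hK T a (hA.1 ha)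
    intro k hk
    obtain ⟨y, hy, hyk⟩ := hdec k hk
    have h1 := hay y hy
    -- k = y * h
    have h2 : k * a * k⁻¹ * a⁻¹ =
        y * ((y⁻¹ * k) * ((a * (y⁻¹ * k)⁻¹ * a⁻¹) * (y⁻¹ * (a * y * a⁻¹))⁻¹)) * y⁻¹ := by
      group
    rw [h2]
    apply hHn.conj_mem
    exact (pCore 2 X).mul_mem hyk ((pCore 2 X).mul_mem
      (hHn.conj_mem _ ((pCore 2 X).inv_mem hyk) a) ((pCore 2 X).inv_mem h1))

/-- **Thompson**, `p = 2`: an `S₄`-free group in which `N(J(S))` and `C(Z(S))` have normal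
`2`-complements has a normal `2`-complement. -/
theorem thompson_two_A (G : Type u) [Group G] [Finite G]
    (hS4 : ¬ Involves (Equiv.Perm (Fin 4)) G) (P : Sylow 2 G)
    (h1 : HasNPC 2 (normalizer (thompsonSubgroupAOf (P : Subgroup G) : Set G)))
    (h2 : HasNPC 2 (centralizer (((P : Subgroup G) ⊓ centralizer (P : Set G) : Subgroup G) : Set G))) :
    HasNPC 2 G := by
  have : Fact (Nat.Prime 2) := ⟨Nat.prime_two⟩
  have h𝒲 : ∀ w ∈ ({(true, fJA), (false, fZ)} :
      Set (Bool × (∀ (Q : Type u) [Group Q], Subgroup Q))), IsCharPFunctor.{u} 2 w.2 := by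
    rintro w (rfl | rfl)
    · exact isChar_fJA 2
    · exact isChar_fZ 2
  refine reduction (𝒲 := {(true, fJA), (false, fZ)}) (p := 2) h𝒲
    (fun X _ => ¬ Involves (Equiv.Perm (Fin 4)) X) ?_ ?_ ?_ G hS4 ?_
  · intro X _ _ Y hX hY
    exact hX (Involves.trans hY (involves_subgroup Y))
  · intro X _ _ N _ hX hY
    exact hX (Involves.trans hY (involves_quotient N))
  · intro X _ _ hX hHyp _ _ hc hq hT
    obtain ⟨T⟩ : Nonempty (Sylow 2 X) := inferInstance
    obtain ⟨K, hK⟩ := exists_star (pCore 2 X) Helper40Cores.pCore_isPGroup hq hT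
    apply thompson_final' famA (fun P A hA => ⟨hA.1, hA.2.1⟩) famA_F2 famA_F3 famA_F3'
      famA_F4 hc K hK T
      (fun V _ hV hVH hC A hA => claim_two hX K hK T V hV hVH hC A hA)
    · rw [← thompsonSubgroupAOf_eq]
      exact hHyp T (true, fJA) (Or.inl rfl)
    · have := hHyp T (false, fZ) (Or.inr rfl)
      rw [ind_fZ] at this
      exact this
  · apply hyp_of_one h𝒲 P
    rintro w (rfl | rfl)
    · exact h1
    · show HasNPC 2 (centralizer ((inducedFunctor fZ (P : Subgroup G) : Subgroup G) : Set G))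
      rw [ind_fZ]
      exact h2

end Cfsg.Agent.Lib.Helper24ThompsonTwo
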