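import Mathlib

set_option autoImplicit false

/-! Arithmetic for the Brauer-Suzuki theorem (quaternion Sylow 2-subgroup of order 8). -/

namespace Cfsg.Agent.Lib.Helper25BSArith

theorem even_of_zmod4 {m : ℤ} (h : (m : ZMod 4) = 0 ∨ (m : ZMod 4) = 2) : ∃ a : ℤ, m = 2 * a := by
  rcases h with h | h
  · rw [ZMod.intCast_zmod_eq_zero_iff_dvd] at h
    obtain ⟨c, hc⟩ := h
    exact ⟨2 * c, by push_cast at hc; linarith⟩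
  · have h2 : ((m - 2 : ℤ) : ZMod 4) = 0 := by push_cast; rw [h]; ring
    rw [ZMod.intCast_zmod_eq_zero_iff_dvd] at h2
    obtain ⟨c, hc⟩ := h2
    exact ⟨2 * c + 1, by push_cast at hc; linarith⟩

theorem par3 : ∀ x y : ZMod 4, (y * 3 - x * 3) ^ 2 = x ^ 2 * 3 + y ^ 2 * 3 →
    (x = 0 ∨ x = 2) ∧ (y = 0 ∨ y = 2) := by decide

theorem par2 : ∀ x y : ZMod 4,
    (y * (2 * x + 3) - x * (2 * y + 3)) ^ 2 = x ^ 2 * (2 * y + 3) + y ^ 2 * (2 * x + 3) →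
    (x = 0 ∨ x = 2) ∧ (y = 0 ∨ y = 2) := by decide

theorem descent (f₂ f₃ c₂ c₃ : ℤ) (h2 : f₂ = 4 * c₂ + 3) (h3 : f₃ = 4 * c₃ + 3) :
    ∀ (N : ℕ) (m₂ m₃ : ℤ), m₂.natAbs + m₃.natAbs ≤ N →
      (m₃ * f₂ - m₂ * f₃) ^ 2 = m₂ ^ 2 * f₃ + m₃ ^ 2 * f₂ → m₂ = 0 ∧ m₃ = 0 := by
  intro N
  induction N with
  | zero =>
    intro m₂ m₃ hN _
    constructor <;> omega
  | succ N ih =>
    intro m₂ m₃ hN heq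
    have hz : ((m₃ : ZMod 4) * 3 - (m₂ : ZMod 4) * 3) ^ 2
        = (m₂ : ZMod 4) ^ 2 * 3 + (m₃ : ZMod 4) ^ 2 * 3 := by
      have h := congrArg (Int.cast : ℤ → ZMod 4) heq
      rw [h2, h3] at h
      push_cast at h
      have h4 : (4 : ZMod 4) = 0 := by decide
      rw [h4] at h
      simpa using h
    obtain ⟨e2, e3⟩ := par3 _ _ hz
    obtain ⟨a, rfl⟩ := even_of_zmod4 e2
    obtain ⟨b, rfl⟩ := even_of_zmod4 e3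
    by_cases hab : a = 0 ∧ b = 0
    · obtain ⟨rfl, rfl⟩ := hab
      simp
    · have hlt : a.natAbs + b.natAbs ≤ N := by omega
      have heq' : (b * f₂ - a * f₃) ^ 2 = a ^ 2 * f₃ + b ^ 2 * f₂ := by
        have : 4 * ((b * f₂ - a * f₃) ^ 2) = 4 * (a ^ 2 * f₃ + b ^ 2 * f₂) := by
          linear_combination heq
        linarith
      obtain ⟨rfl, rfl⟩ := ih a b hlt heq'
      simp

/-- sign pattern `(+,-,-)` -/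
theorem typeB (f₁ f₂ f₃ m₁ m₂ m₃ k₂ k₃ : ℤ)
    (hk2 : f₂ = 2 * m₂ + 4 * k₂ + 3) (hk3 : f₃ = 2 * m₃ + 4 * k₃ + 3)
    (E1 : 1 + f₁ - f₂ - f₃ = 0) (L : m₁ - m₂ - m₃ = 0)
    (Q : m₁ ^ 2 * f₂ * f₃ - m₂ ^ 2 * f₁ * f₃ - m₃ ^ 2 * f₁ * f₂ = 0) :
    m₁ = 0 ∧ m₂ = 0 ∧ m₃ = 0 := by
  have hf1 : f₁ = f₂ + f₃ - 1 := by linarith
  have hm1 : m₁ = m₂ + m₃ := by linarith
  subst hf1 hm1
  have heq : (m₃ * f₂ - m₂ * f₃) ^ 2 = m₂ ^ 2 * f₃ + m₃ ^ 2 * f₂ := by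
    linear_combination -Q
  have hz : ((m₃ : ZMod 4) * (2 * (m₂ : ZMod 4) + 3) - (m₂ : ZMod 4) * (2 * (m₃ : ZMod 4) + 3)) ^ 2
      = (m₂ : ZMod 4) ^ 2 * (2 * (m₃ : ZMod 4) + 3) + (m₃ : ZMod 4) ^ 2 * (2 * (m₂ : ZMod 4) + 3) := by
    have h := congrArg (Int.cast : ℤ → ZMod 4) heq
    rw [hk2, hk3] at h
    push_cast at h
    have h4 : (4 : ZMod 4) = 0 := by decide
    rw [h4] at h
    simpa using h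
  obtain ⟨e2, e3⟩ := par2 _ _ hz
  obtain ⟨a, ha⟩ := even_of_zmod4 e2
  obtain ⟨b, hb⟩ := even_of_zmod4 e3
  obtain ⟨h2, h3⟩ := descent f₂ f₃ (a + k₂) (b + k₃) (by rw [hk2, ha]; ring) (by rw [hk3, hb]; ring)
    _ m₂ m₃ le_rfl heq
  subst h2 h3
  simp

/-- sign pattern `(+,+,-)` -/
theorem typeC (f₁ f₂ f₃ m₁ m₂ m₃ : ℤ) (hf1 : 0 < f₁) (hf2 : 0 < f₂)
    (E1 : 1 + f₁ + f₂ - f₃ = 0) (L : m₁ + m₂ - m₃ = 0)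
    (Q : m₁ ^ 2 * f₂ * f₃ + m₂ ^ 2 * f₁ * f₃ - m₃ ^ 2 * f₁ * f₂ = 0) :
    m₁ = 0 ∧ m₂ = 0 ∧ m₃ = 0 := by
  have hf3 : f₃ = 1 + f₁ + f₂ := by linarith
  have hm3 : m₃ = m₁ + m₂ := by linarith
  subst hf3 hm3
  have key : m₁ ^ 2 * f₂ + m₂ ^ 2 * f₁ + (m₁ * f₂ - m₂ * f₁) ^ 2 = 0 := by
    linear_combination Q
  have a1 : 0 ≤ m₁ ^ 2 * f₂ := by positivity
  have a2 : 0 ≤ m₂ ^ 2 * f₁ := by positivity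
  have a3 : 0 ≤ (m₁ * f₂ - m₂ * f₁) ^ 2 := by positivity
  have b1 : m₁ ^ 2 * f₂ = 0 := by linarith
  have b2 : m₂ ^ 2 * f₁ = 0 := by linarith
  have c1 : m₁ = 0 := by
    rcases mul_eq_zero.mp b1 with h | h
    · exact pow_eq_zero_iff (by norm_num) |>.mp h
    · omega
  have c2 : m₂ = 0 := by
    rcases mul_eq_zero.mp b2 with h | h
    · exact pow_eq_zero_iff (by norm_num) |>.mp h
    · omega
  subst c1 c2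
  simp

/-- The arithmetic heart of the Brauer-Suzuki theorem for `Q₈`. -/
theorem arith (f₁ f₂ f₃ t₁ t₂ t₃ δ₁ δ₂ δ₃ m₁ m₂ m₃ k₁ k₂ k₃ : ℤ)
    (hf1 : 0 < f₁) (hf2 : 0 < f₂) (hf3 : 0 < f₃)
    (hδ1 : δ₁ = 1 ∨ δ₁ = -1) (hδ2 : δ₂ = 1 ∨ δ₂ = -1) (hδ3 : δ₃ = 1 ∨ δ₃ = -1)
    (hm1 : f₁ - t₁ = 4 * m₁) (hm2 : f₂ - t₂ = 4 * m₂) (hm3 : f₃ - t₃ = 4 * m₃)
    (h01 : 0 ≤ m₁) (h02 : 0 ≤ m₂) (h03 : 0 ≤ m₃)
    (hk1 : f₁ + t₁ + 6 * δ₁ = 8 * k₁) (hk2 : f₂ + t₂ + 6 * δ₂ = 8 * k₂)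
    (hk3 : f₃ + t₃ + 6 * δ₃ = 8 * k₃)
    (E1 : 1 + δ₁ * f₁ + δ₂ * f₂ + δ₃ * f₃ = 0) (E2 : 1 + δ₁ * t₁ + δ₂ * t₂ + δ₃ * t₃ = 0)
    (E3 : f₁ * f₂ * f₃ + δ₁ * t₁ ^ 2 * f₂ * f₃ + δ₂ * t₂ ^ 2 * f₁ * f₃ + δ₃ * t₃ ^ 2 * f₁ * f₂ = 0) :
    m₁ = 0 ∧ m₂ = 0 ∧ m₃ = 0 := by
  have ht1 : t₁ = f₁ - 4 * m₁ := by linarith
  have ht2 : t₂ = f₂ - 4 * m₂ := by linarith
  have ht3 : t₃ = f₃ - 4 * m₃ := by linarith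
  subst ht1 ht2 ht3
  have L : δ₁ * m₁ + δ₂ * m₂ + δ₃ * m₃ = 0 := by
    have : 4 * (δ₁ * m₁ + δ₂ * m₂ + δ₃ * m₃) = 0 := by linear_combination E1 - E2
    linarith
  have Q : δ₁ * m₁ ^ 2 * f₂ * f₃ + δ₂ * m₂ ^ 2 * f₁ * f₃ + δ₃ * m₃ ^ 2 * f₁ * f₂ = 0 := by
    have : 16 * (δ₁ * m₁ ^ 2 * f₂ * f₃ + δ₂ * m₂ ^ 2 * f₁ * f₃ + δ₃ * m₃ ^ 2 * f₁ * f₂) = 0 := by
      linear_combination E3 - f₁ * f₂ * f₃ * E1 + 8 * f₁ * f₂ * f₃ * L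
    linarith
  rcases hδ1 with rfl | rfl <;> rcases hδ2 with rfl | rfl <;> rcases hδ3 with rfl | rfl
  · exfalso; linarith
  · exact typeC f₁ f₂ f₃ m₁ m₂ m₃ hf1 hf2 (by linarith) (by linarith) (by linear_combination Q)
  · obtain ⟨a, b, c⟩ := typeC f₁ f₃ f₂ m₁ m₃ m₂ hf1 hf3 (by linarith) (by linarith)
      (by linear_combination Q)
    exact ⟨a, c, b⟩
  · exact typeB f₁ f₂ f₃ m₁ m₂ m₃ k₂ k₃ (by linarith) (by linarith) (by linarith)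
      (by linarith) (by linear_combination Q)
  · obtain ⟨a, b, c⟩ := typeC f₂ f₃ f₁ m₂ m₃ m₁ hf2 hf3 (by linarith) (by linarith)
      (by linear_combination Q)
    exact ⟨c, a, b⟩
  · obtain ⟨a, b, c⟩ := typeB f₂ f₁ f₃ m₂ m₁ m₃ k₁ k₃ (by linarith) (by linarith)
      (by linarith) (by linarith) (by linear_combination Q)
    exact ⟨b, a, c⟩
  · obtain ⟨a, b, c⟩ := typeB f₃ f₁ f₂ m₃ m₁ m₂ k₁ k₂ (by linarith) (by linarith)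
      (by linarith) (by linarith) (by linear_combination Q)
    exact ⟨b, c, a⟩
  · refine ⟨?_, ?_, ?_⟩ <;> linarith

end Cfsg.Agent.Lib.Helper25BSArith
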