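import Mathlib

/-!
# Moebius permutations of the projective line `OnePoint F`

`MG F` : the image of `PGL₂(F)` in `Perm (OnePoint F)`; `MS F` : the image of `PSL₂(F)`.
-/

set_option autoImplicit false

namespace Cfsg.Agent.Lib.Helper26Mob

open Matrix MatrixGroups OnePoint

variable {F : Type*} [Field F] [DecidableEq F]

/-- The action homomorphism of `GL₂(F)` on the projective line. -/
noncomputable def mu : GL (Fin 2) F →* Equiv.Perm (OnePoint F) := MulAction.toPermHom _ _

theorem mu_apply (g : GL (Fin 2) F) (x : OnePoint F) : mu g x = g • x := rfl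

omit [DecidableEq F] in
theorem mem_center_iff (g : GL (Fin 2) F) :
    g ∈ Subgroup.center (GL (Fin 2) F) ↔ g 0 1 = 0 ∧ g 1 0 = 0 ∧ g 0 0 = g 1 1 := by
  rw [GeneralLinearGroup.mem_center_iff_val_mem_range_scalar]
  constructor
  · rintro ⟨a, ha⟩
    have h := fun i j => congrFun (congrFun ha i) j
    refine ⟨?_, ?_, ?_⟩
    · simpa using (h 0 1).symm
    · simpa using (h 1 0).symm
    · have h0 := h 0 0
      have h1 := h 1 1
      simp at h0 h1
      change (g.val 0 0) = g.val 1 1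
      rw [← h0, ← h1]
  · rintro ⟨h01, h10, h00⟩
    refine ⟨g 0 0, ?_⟩
    ext i j
    fin_cases i <;> fin_cases j <;> simp [h01, h10, h00]

omit [DecidableEq F] in
theorem det_upper (g : GL (Fin 2) F) (h : g 1 0 = 0) : g 0 0 ≠ 0 ∧ g 1 1 ≠ 0 := by
  have hd := g.det_ne_zero
  rw [det_fin_two] at hd
  have h' : g.val 1 0 = 0 := h
  rw [h', mul_zero, sub_zero] at hd
  exact ⟨left_ne_zero_of_mul hd, right_ne_zero_of_mul hd⟩

theorem smul_coe_upper (g : GL (Fin 2) F) (h : g 1 0 = 0) (t : F) :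
    g • (t : OnePoint F) = ((g 0 0 / g 1 1 * t + g 0 1 / g 1 1 : F) : OnePoint F) := by
  have h1 := (det_upper g h).2
  rw [smul_some_eq_ite, h, zero_mul, zero_add, if_neg h1]
  congr 1
  field_simp

theorem mu_ker : (mu : GL (Fin 2) F →* _).ker = Subgroup.center (GL (Fin 2) F) := by
  ext g
  rw [MonoidHom.mem_ker, mem_center_iff]
  constructor
  · intro h
    have hx : ∀ x : OnePoint F, g • x = x := fun x => by
      rw [← mu_apply, h]; rfl
    have h10 : g 1 0 = 0 := smul_infty_eq_self_iff.1 (hx ∞)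
    have h11 := (det_upper g h10).2
    have h0 := hx ((0 : F) : OnePoint F)
    have h1 := hx ((1 : F) : OnePoint F)
    rw [smul_coe_upper g h10, coe_eq_coe] at h0 h1
    have h01 : g 0 1 = 0 := by
      rw [mul_zero, zero_add, div_eq_zero_iff] at h0
      exact h0.resolve_right h11
    refine ⟨h01, h10, ?_⟩
    rw [h01, zero_div, add_zero, mul_one, div_eq_one_iff_eq h11] at h1
    exact h1
  · rintro ⟨h01, h10, h00⟩
    ext x
    rw [mu_apply]
    cases x with
    | infty => simpa using smul_infty_eq_self_iff.2 h10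
    | coe t =>
      have h11 := (det_upper g h10).2
      rw [smul_coe_upper g h10, h01, h00, div_self h11]
      simp

/-- `PGL₂(F) → Perm (OnePoint F)`. -/
noncomputable def pglHom : ProjGenLinGroup (Fin 2) F →* Equiv.Perm (OnePoint F) :=
  QuotientGroup.lift _ mu (le_of_eq mu_ker.symm)

theorem pglHom_mk (g : GL (Fin 2) F) : pglHom (ProjGenLinGroup.mk g) = mu g := rfl

theorem pglHom_injective : Function.Injective (pglHom : ProjGenLinGroup (Fin 2) F →* _) :=
  (QuotientGroup.injective_lift_iff _ _ _).2 mu_ker.symm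

/-- `PSL₂(F) → Perm (OnePoint F)`. -/
noncomputable def pslHom : ProjectiveSpecialLinearGroup (Fin 2) F →* Equiv.Perm (OnePoint F) :=
  pglHom.comp ProjectiveSpecialLinearGroup.toPGL

theorem pslHom_injective :
    Function.Injective (pslHom : ProjectiveSpecialLinearGroup (Fin 2) F →* _) :=
  pglHom_injective.comp ProjectiveSpecialLinearGroup.toPGL_injective

/-- The group of all Moebius permutations. -/
noncomputable def MG (F : Type*) [Field F] [DecidableEq F] : Subgroup (Equiv.Perm (OnePoint F)) :=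
  (pglHom : ProjGenLinGroup (Fin 2) F →* _).range

/-- The group of Moebius permutations of determinant one. -/
noncomputable def MS (F : Type*) [Field F] [DecidableEq F] : Subgroup (Equiv.Perm (OnePoint F)) :=
  (pslHom : ProjectiveSpecialLinearGroup (Fin 2) F →* _).range

theorem mem_MG {π : Equiv.Perm (OnePoint F)} : π ∈ MG F ↔ ∃ g : GL (Fin 2) F, mu g = π := by
  constructor
  · rintro ⟨x, rfl⟩
    induction x using ProjGenLinGroup.induction_on with | mk g => exact ⟨g, rfl⟩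
  · rintro ⟨g, rfl⟩
    exact ⟨ProjGenLinGroup.mk g, rfl⟩

theorem mem_MS {π : Equiv.Perm (OnePoint F)} :
    π ∈ MS F ↔ ∃ g : SpecialLinearGroup (Fin 2) F, mu (SpecialLinearGroup.toGL g) = π := by
  constructor
  · rintro ⟨x, rfl⟩
    induction x using QuotientGroup.induction_on with | H g => exact ⟨g, rfl⟩
  · rintro ⟨g, rfl⟩
    exact ⟨QuotientGroup.mk g, rfl⟩

theorem MS_le_MG : MS F ≤ MG F := by
  intro π h
  obtain ⟨g, rfl⟩ := mem_MS.1 h
  exact mem_MG.2 ⟨_, rfl⟩

theorem nonempty_equiv_MG : Nonempty (MG F ≃* ProjGenLinGroup (Fin 2) F) :=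
  ⟨(MonoidHom.ofInjective pglHom_injective).symm⟩

theorem nonempty_equiv_MS : Nonempty (MS F ≃* ProjectiveSpecialLinearGroup (Fin 2) F) :=
  ⟨(MonoidHom.ofInjective pslHom_injective).symm⟩


/-! ### Elementary Moebius permutations -/

omit [DecidableEq F] in
/-- `GL₂` element from four entries. -/
noncomputable def mkGL (a b c d : F) (h : a * d - b * c ≠ 0) : GL (Fin 2) F :=
  GeneralLinearGroup.mkOfDetNeZero !![a, b; c, d] (by rwa [det_fin_two_of])

omit [DecidableEq F] in
@[simp] theorem mkGL_00 (a b c d : F) (h) : (mkGL a b c d h) 0 0 = a := rfl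
omit [DecidableEq F] in
@[simp] theorem mkGL_01 (a b c d : F) (h) : (mkGL a b c d h) 0 1 = b := rfl
omit [DecidableEq F] in
@[simp] theorem mkGL_10 (a b c d : F) (h) : (mkGL a b c d h) 1 0 = c := rfl
omit [DecidableEq F] in
@[simp] theorem mkGL_11 (a b c d : F) (h) : (mkGL a b c d h) 1 1 = d := rfl

omit [DecidableEq F] in
/-- `SL₂` element from four entries. -/
def mkSL (a b c d : F) (h : a * d - b * c = 1) : SpecialLinearGroup (Fin 2) F :=
  ⟨!![a, b; c, d], by rwa [det_fin_two_of]⟩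

omit [DecidableEq F] in
@[simp] theorem mkSL_00 (a b c d : F) (h) : (SpecialLinearGroup.toGL (mkSL a b c d h)) 0 0 = a := rfl
omit [DecidableEq F] in
@[simp] theorem mkSL_01 (a b c d : F) (h) : (SpecialLinearGroup.toGL (mkSL a b c d h)) 0 1 = b := rfl
omit [DecidableEq F] in
@[simp] theorem mkSL_10 (a b c d : F) (h) : (SpecialLinearGroup.toGL (mkSL a b c d h)) 1 0 = c := rfl
omit [DecidableEq F] in
@[simp] theorem mkSL_11 (a b c d : F) (h) : (SpecialLinearGroup.toGL (mkSL a b c d h)) 1 1 = d := rfl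

/-- Translation `x ↦ x + b`. -/
noncomputable def T (b : F) : Equiv.Perm (OnePoint F) := mu (mkGL 1 b 0 1 (by simp))

/-- Dilation `x ↦ a x`. -/
noncomputable def M (a : Fˣ) : Equiv.Perm (OnePoint F) := mu (mkGL a 0 0 1 (by simp))

/-- `x ↦ c / x`. -/
noncomputable def W (c : Fˣ) : Equiv.Perm (OnePoint F) := mu (mkGL 0 c 1 0 (by simp))

@[simp] theorem T_infty (b : F) : T b (∞ : OnePoint F) = ∞ := by
  simp [T, mu_apply, smul_infty_eq_ite]

@[simp] theorem T_coe (b x : F) : T b (x : OnePoint F) = ((x + b : F) : OnePoint F) := by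
  simp [T, mu_apply, smul_some_eq_ite]

@[simp] theorem M_infty (a : Fˣ) : M a (∞ : OnePoint F) = ∞ := by
  simp [M, mu_apply, smul_infty_eq_ite]

@[simp] theorem M_coe (a : Fˣ) (x : F) : M a (x : OnePoint F) = ((a * x : F) : OnePoint F) := by
  simp [M, mu_apply, smul_some_eq_ite]

@[simp] theorem W_infty (c : Fˣ) : W c (∞ : OnePoint F) = ((0 : F) : OnePoint F) := by
  simp [W, mu_apply, smul_infty_eq_ite]

@[simp] theorem W_zero (c : Fˣ) : W c ((0 : F) : OnePoint F) = ∞ := by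
  simp [W, mu_apply, smul_some_eq_ite]

theorem W_coe (c : Fˣ) {x : F} (hx : x ≠ 0) :
    W c (x : OnePoint F) = ((c / x : F) : OnePoint F) := by
  simp [W, mu_apply, smul_some_eq_ite, hx]

theorem perm_ext {π ρ : Equiv.Perm (OnePoint F)} (h1 : π ∞ = ρ ∞)
    (h2 : ∀ x : F, π (x : OnePoint F) = ρ x) : π = ρ := by
  ext x
  cases x with
  | infty => exact h1
  | coe t => exact h2 t

theorem T_mem_MS (b : F) : T b ∈ MS F :=
  mem_MS.2 ⟨mkSL 1 b 0 1 (by simp), by
    apply perm_ext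
    · simp [mu_apply, smul_infty_eq_ite]
    · intro x; simp [mu_apply, smul_some_eq_ite]⟩

theorem M_mem_MG (a : Fˣ) : M a ∈ MG F := mem_MG.2 ⟨_, rfl⟩

theorem W_mem_MG (c : Fˣ) : W c ∈ MG F := mem_MG.2 ⟨_, rfl⟩

theorem M_sq_mem_MS (s : Fˣ) : M (s ^ 2) ∈ MS F :=
  mem_MS.2 ⟨mkSL s 0 0 (s⁻¹ : Fˣ) (by simp), by
    apply perm_ext
    · simp [mu_apply, smul_infty_eq_ite]
    · intro x
      simp [mu_apply, smul_some_eq_ite]
      ring⟩

theorem W_mem_MS (c s : Fˣ) (h : -c = s ^ 2) : W c ∈ MS F := by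
  have hc : (c : F) = - (s : F) ^ 2 := by
    have := congrArg (fun u : Fˣ => (u : F)) h
    simp at this
    rw [← this]; ring
  refine mem_MS.2 ⟨mkSL 0 (c / s) (1 / s) 0 (by rw [hc]; field_simp; ring), ?_⟩
  apply perm_ext
  · simp [mu_apply, smul_infty_eq_ite]
  · intro x
    by_cases hx : x = 0
    · subst hx
      simp [mu_apply, smul_some_eq_ite]
    · rw [W_coe c hx]
      simp [mu_apply, smul_some_eq_ite, hx]
      field_simp

theorem fix_MG {π : Equiv.Perm (OnePoint F)} (h : π ∈ MG F) (h1 : π ∞ = ∞)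
    (h0 : π ((0 : F) : OnePoint F) = ((0 : F) : OnePoint F)) : ∃ a : Fˣ, π = M a := by
  obtain ⟨g, rfl⟩ := mem_MG.1 h
  have h10 : g 1 0 = 0 := smul_infty_eq_self_iff.1 h1
  obtain ⟨h00, h11⟩ := det_upper g h10
  rw [mu_apply, smul_coe_upper g h10, coe_eq_coe, mul_zero, zero_add] at h0
  refine ⟨Units.mk0 (g 0 0 / g 1 1) (div_ne_zero h00 h11), ?_⟩
  apply perm_ext
  · rw [h1, M_infty]
  · intro x
    rw [mu_apply, smul_coe_upper g h10, h0, M_coe]
    simp

theorem fix_MS {π : Equiv.Perm (OnePoint F)} (h : π ∈ MS F) (h1 : π ∞ = ∞)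
    (h0 : π ((0 : F) : OnePoint F) = ((0 : F) : OnePoint F)) : ∃ s : Fˣ, π = M (s ^ 2) := by
  obtain ⟨g', rfl⟩ := mem_MS.1 h
  set g := SpecialLinearGroup.toGL g' with hg
  have h10 : g 1 0 = 0 := smul_infty_eq_self_iff.1 h1
  obtain ⟨h00, h11⟩ := det_upper g h10
  have hdet : g 0 0 * g 1 1 = 1 := by
    have := g'.det_coe
    rw [det_fin_two] at this
    have h10' : g'.val 1 0 = 0 := h10
    rw [h10', mul_zero, sub_zero] at this
    exact this
  rw [mu_apply, smul_coe_upper g h10, coe_eq_coe, mul_zero, zero_add] at h0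
  refine ⟨Units.mk0 (g 0 0) h00, ?_⟩
  apply perm_ext
  · rw [h1, M_infty]
  · intro x
    rw [mu_apply, smul_coe_upper g h10, h0, M_coe]
    have : g 0 0 / g 1 1 = g 0 0 ^ 2 := by
      rw [div_eq_iff h11, pow_two, mul_assoc, hdet, mul_one]
    simp [this]

/-- Two groups of permutations of the line containing the translations and a common element
moving `0` to `∞`, with the same stabiliser of `0` and `∞`, are equal. -/
theorem le_of_stab (Γ Δ : Subgroup (Equiv.Perm (OnePoint F))) (hΓ : ∀ b : F, T b ∈ Γ)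
    (hΔ : ∀ b : F, T b ∈ Δ) (w : Equiv.Perm (OnePoint F)) (hwΓ : w ∈ Γ) (hwΔ : w ∈ Δ)
    (hw : w ((0 : F) : OnePoint F) = ∞)
    (hst : ∀ π ∈ Γ, π ∞ = ∞ → π ((0 : F) : OnePoint F) = ((0 : F) : OnePoint F) → π ∈ Δ) :
    Γ ≤ Δ := by
  have key : ∀ π ∈ Γ, π ∞ = ∞ → π ∈ Δ := by
    intro π hπ h1
    have hne : π ((0 : F) : OnePoint F) ≠ ∞ := by
      intro h
      have := π.injective (h.trans h1.symm)
      exact coe_ne_infty _ this
    obtain ⟨y, hy⟩ := ne_infty_iff_exists.1 hne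
    have h2 : T (-y) * π ∈ Δ := by
      apply hst _ (Γ.mul_mem (hΓ _) hπ)
      · simp [h1]
      · simp [← hy]
    have := Δ.mul_mem (Δ.inv_mem (hΔ (-y))) h2
    simpa using this
  intro π hπ
  by_cases h1 : π ∞ = ∞
  · exact key π hπ h1
  · obtain ⟨y, hy⟩ := ne_infty_iff_exists.1 h1
    have h2 : w * T (-y) * π ∈ Δ := by
      apply key _ (Γ.mul_mem (Γ.mul_mem hwΓ (hΓ _)) hπ)
      simp [← hy, hw]
    have := Δ.mul_mem (Δ.inv_mem (Δ.mul_mem hwΔ (hΔ (-y)))) h2
    simpa [mul_assoc] using this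

end Cfsg.Agent.Lib.Helper26Mob
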