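import Mathlib
import Cfsg.Agent.Lib.Helper26Fld

/-!
# A numerical restriction on regular groups of automorphisms
-/

set_option autoImplicit false

namespace Cfsg.Agent.Lib.Helper26NFb

open Cfsg.Agent.Lib.Helper26Fld

universe u v

variable {H : Type u} [Group H] {A : Type v} [AddCommGroup A] [Finite A] [DistribMulAction H A]

/-- If `H` acts regularly on the non-zero elements of `A` and is not commutative, then the centre
of `H` is small: it embeds in the multiplicative group of a field `K` over which `A` is a vector
space of dimension at least two. -/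
theorem exists_kappa (free : ∀ (h : H) (x : A), x ≠ 0 → h • x = x → h = 1)
    (trans : ∀ x y : A, x ≠ 0 → y ≠ 0 → ∃ h : H, h • x = y) (e : A) (he : e ≠ 0)
    (hnc : ¬ ∀ h h' : H, h * h' = h' * h) :
    ∃ κ : ℕ, Nat.card (Subgroup.center H) + 1 ≤ κ ∧ κ ∣ Nat.card A ∧ κ * κ ≤ Nat.card A := by
  have : Finite H := finite_of_semireg free he
  let ρ : H →* AddMonoid.End A := DistribMulAction.toAddMonoidEnd H A
  have hρ : ∀ (h : H) (a : A), ρ h a = h • a := fun h a => rfl
  have hfinEnd : Finite (AddMonoid.End A) :=
    Finite.of_injective (fun f : AddMonoid.End A => (f : A → A)) DFunLike.coe_injective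
  let C : Subring (AddMonoid.End A) := Subring.centralizer (Set.range ρ)
  let K : Subring (AddMonoid.End A) := C ⊓ Subring.centralizer (C : Set (AddMonoid.End A))
  have hKρ : ∀ k ∈ K, ∀ (h : H) (x : A), k (h • x) = h • k x := by
    intro k hk h x
    have h1 : ρ h * k = k * ρ h := (Subring.mem_centralizer_iff.1 hk.1) (ρ h) ⟨h, rfl⟩
    exact (congrArg (fun f : AddMonoid.End A => f x) h1).symm
  have hKcomm : ∀ k ∈ K, ∀ l ∈ K, k * l = l * k := by
    intro k hk l hl
    exact (Subring.mem_centralizer_iff.1 hl.2) k hk.1
  have hker : ∀ k ∈ K, k ≠ 0 → ∀ x : A, k x = 0 → x = 0 := by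
    intro k hk hk0 x hx
    by_contra hx0
    apply hk0
    ext y
    by_cases hy : y = 0
    · rw [hy]; simp
    · obtain ⟨h, rfl⟩ := trans x y hx0 hy
      rw [hKρ k hk, hx, smul_zero]; rfl
  have hZ : ∀ z ∈ Subgroup.center H, ρ z ∈ K := by
    intro z hz
    constructor
    · apply Subring.mem_centralizer_iff.2
      rintro _ ⟨h, rfl⟩
      rw [← map_mul, ← map_mul, (Subgroup.mem_center_iff.1 hz) h]
    · apply Subring.mem_centralizer_iff.2
      intro c hc
      exact ((Subring.mem_centralizer_iff.1 hc) (ρ z) ⟨z, rfl⟩).symm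
  let ev : A → (K →+ A) := fun x =>
    { toFun := fun k => (k : AddMonoid.End A) x
      map_zero' := rfl
      map_add' := fun _ _ => rfl }
  have hev : ∀ x : A, x ≠ 0 → Function.Injective (ev x) := by
    intro x hx
    rw [injective_iff_map_eq_zero]
    intro k hk
    by_contra hk0
    exact hx (hker k k.2 (fun h => hk0 (Subtype.ext h)) x hk)
  refine ⟨Nat.card K, ?_, ?_, ?_⟩
  · rw [← Finite.card_option]
    apply Nat.card_le_card_of_injective
      (fun o : Option (Subgroup.center H) => (o.elim (0 : K) (fun z => ⟨ρ z, hZ z z.2⟩)))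
    have hne : ∀ z : Subgroup.center H, (⟨ρ z, hZ z z.2⟩ : K) ≠ 0 := by
      intro z h
      have h1 : ρ (z : H) e = 0 := by
        have := congrArg (fun k : K => (k : AddMonoid.End A) e) h
        exact this
      rw [hρ] at h1
      exact he ((smul_eq_zero_iff_eq (z : H)).1 h1)
    intro o o' h
    cases o with
    | none =>
      cases o' with
      | none => rfl
      | some z' => exact absurd h.symm (hne z')
    | some z =>
      cases o' with
      | none => exact absurd h (hne z)
      | some z' =>
        have h1 : (z : H) • e = (z' : H) • e := by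
          have := congrArg (fun k : K => (k : AddMonoid.End A) e) h
          exact this
        rw [Subtype.ext (smul_injective_of_semireg free he h1)]
  · rw [Nat.card_congr (AddMonoidHom.ofInjective (hev e he)).toEquiv]
    exact AddSubgroup.card_addSubgroup_dvd_card _
  · obtain ⟨x, hx⟩ : ∃ x : A, ∀ k : K, (k : AddMonoid.End A) e ≠ x := by
      by_contra hc
      push Not at hc
      apply hnc
      intro h h'
      obtain ⟨k, hk⟩ := hc (h • e)
      obtain ⟨k', hk'⟩ := hc (h' • e)
      apply smul_injective_of_semireg free he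
      change (h * h') • e = (h' * h) • e
      rw [mul_smul, mul_smul, ← hk', ← hKρ _ k'.2, ← hk, ← hKρ _ k.2, ← hk']
      have := hKcomm k' k'.2 k k.2
      exact congrArg (fun f : AddMonoid.End A => f e) this
    have hx0 : x ≠ 0 := by
      rintro rfl
      exact hx 0 rfl
    rw [← Nat.card_prod]
    apply Nat.card_le_card_of_injective
      (fun kl : K × K => (kl.1 : AddMonoid.End A) e + (kl.2 : AddMonoid.End A) x)
    have key : ∀ k l : K, (k : AddMonoid.End A) e + (l : AddMonoid.End A) x = 0 → l = 0 := by
      intro k l hkl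
      by_contra hl
      have hinj : Function.Injective (fun m : K => m * l) := by
        intro m m' hmm
        have h1 : ((m - m' : K) : AddMonoid.End A) ((l : AddMonoid.End A) x) = 0 := by
          have h2 : (m - m') * l = 0 := by rw [sub_mul]; exact sub_eq_zero.2 hmm
          have := congrArg (fun k : K => (k : AddMonoid.End A) x) h2
          exact this
        by_contra hne
        have h3 := hker _ (m - m').2 (fun h => hne (sub_eq_zero.1 (Subtype.ext h))) _ h1
        exact hx0 (hker _ l.2 (fun h => hl (Subtype.ext h)) _ h3)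
      obtain ⟨l', hl'⟩ := (Finite.injective_iff_surjective.1 hinj) 1
      apply hx (-(l' * k))
      have h1 : (l : AddMonoid.End A) x = -((k : AddMonoid.End A) e) :=
        eq_neg_of_add_eq_zero_right hkl
      have h2 : ((l' * l : K) : AddMonoid.End A) x = x := by
        have h3 : l' * l = 1 := hl'
        rw [h3]; rfl
      have h4 : ((l' * l : K) : AddMonoid.End A) x
          = (l' : AddMonoid.End A) ((l : AddMonoid.End A) x) := rfl
      rw [h4, h1, map_neg] at h2
      rw [← h2]
      rfl
    intro kl kl' h
    have h1 : ((kl.1 - kl'.1 : K) : AddMonoid.End A) e + ((kl.2 - kl'.2 : K) : AddMonoid.End A) x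
        = 0 := by
      have h2 : (kl.1 : AddMonoid.End A) e + (kl.2 : AddMonoid.End A) x
        = (kl'.1 : AddMonoid.End A) e + (kl'.2 : AddMonoid.End A) x := h
      have h3 : ((kl.1 - kl'.1 : K) : AddMonoid.End A) e
          = (kl.1 : AddMonoid.End A) e - (kl'.1 : AddMonoid.End A) e := rfl
      have h4 : ((kl.2 - kl'.2 : K) : AddMonoid.End A) x
          = (kl.2 : AddMonoid.End A) x - (kl'.2 : AddMonoid.End A) x := rfl
      rw [h3, h4]
      have h5 : (kl.1 : AddMonoid.End A) e - (kl'.1 : AddMonoid.End A) e
          + ((kl.2 : AddMonoid.End A) x - (kl'.2 : AddMonoid.End A) x)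
          = ((kl.1 : AddMonoid.End A) e + (kl.2 : AddMonoid.End A) x)
            - ((kl'.1 : AddMonoid.End A) e + (kl'.2 : AddMonoid.End A) x) := by abel
      rw [h5, h2, sub_self]
    have h2 := key _ _ h1
    rw [h2] at h1
    have h3 : ((kl.1 - kl'.1 : K) : AddMonoid.End A) e = 0 := by
      have : ((0 : K) : AddMonoid.End A) x = 0 := rfl
      rw [this, add_zero] at h1
      exact h1
    have h4 : kl.1 - kl'.1 = 0 := by
      by_contra hne
      exact he (hker _ (kl.1 - kl'.1).2 (fun h => hne (Subtype.ext h)) _ h3)
    exact Prod.ext (sub_eq_zero.1 h4) (sub_eq_zero.1 h2)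

end Cfsg.Agent.Lib.Helper26NFb
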