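import Cfsg.Agent.Lib.Helper26Mob

/-!
# Recognition of `PGL₂(F)` and `PSL₂(F)` among the groups of permutations of the projective line
-/

set_option autoImplicit false

namespace Cfsg.Agent.Lib.Helper26Rec

open OnePoint Cfsg.Agent.Lib.Helper26Mob

variable {F : Type*} [Field F] [DecidableEq F]

/-- The hypotheses on a group `Γ` of permutations of the line. -/
structure Cond (Γ : Subgroup (Equiv.Perm (OnePoint F))) (S : Subgroup Fˣ)
    (v : Equiv.Perm (OnePoint F)) : Prop where
  T_mem : ∀ b : F, T b ∈ Γ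
  stab : ∀ π : Equiv.Perm (OnePoint F), π ∞ = ∞ →
    π ((0 : F) : OnePoint F) = ((0 : F) : OnePoint F) → (π ∈ Γ ↔ ∃ a ∈ S, π = M a)
  v_mem : v ∈ Γ
  v_infty : v ∞ = ((0 : F) : OnePoint F)
  v_zero : v ((0 : F) : OnePoint F) = ∞
  v_inv : ∀ a ∈ S, v * M a * v⁻¹ = M a⁻¹

variable {Γ : Subgroup (Equiv.Perm (OnePoint F))} {S : Subgroup Fˣ}
  {v : Equiv.Perm (OnePoint F)}

theorem Cond.exists_tau (h : Cond Γ S v) (x : Fˣ) :
    ∃ y : Fˣ, v ((x : F) : OnePoint F) = ((y : F) : OnePoint F) := by
  have h1 : v ((x : F) : OnePoint F) ≠ ∞ := by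
    intro h'
    have := v.injective (h'.trans h.v_zero.symm)
    rw [coe_eq_coe] at this
    exact x.ne_zero this
  obtain ⟨y, hy⟩ := ne_infty_iff_exists.1 h1
  have hy0 : y ≠ 0 := by
    rintro rfl
    have := v.injective (hy.symm.trans h.v_infty.symm)
    exact coe_ne_infty _ this
  exact ⟨Units.mk0 y hy0, hy.symm⟩

theorem Cond.tau_mul (h : Cond Γ S v) {a : Fˣ} (ha : a ∈ S) {x y : Fˣ}
    (hxy : v ((x : F) : OnePoint F) = ((y : F) : OnePoint F)) :
    v (((a * x : Fˣ) : F) : OnePoint F) = (((a⁻¹ * y : Fˣ) : F) : OnePoint F) := by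
  have h1 := congrArg (fun π : Equiv.Perm (OnePoint F) => π (v ((x : F) : OnePoint F))) (h.v_inv a ha)
  have h2 : v⁻¹ (v ((x : F) : OnePoint F)) = ((x : F) : OnePoint F) := by simp
  simp only [Equiv.Perm.mul_apply] at h1
  rw [h2, M_coe, hxy, M_coe] at h1
  simpa using h1

/-- If the stabiliser of `0` and `∞` consists of all dilations, then `Γ` is the full Moebius group. -/
theorem Cond.eq_MG (h : Cond Γ S v) (hS : S = ⊤) : Γ = MG F := by
  obtain ⟨c, hc⟩ := h.exists_tau 1
  have hv : v = W c := by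
    apply perm_ext
    · rw [h.v_infty, W_infty]
    · intro x
      by_cases hx : x = 0
      · subst hx; rw [h.v_zero, W_zero]
      · have := h.tau_mul (a := Units.mk0 x hx) (hS ▸ Subgroup.mem_top _) hc
        rw [W_coe c hx]
        simpa [div_eq_inv_mul] using this
  apply le_antisymm
  · apply le_of_stab Γ (MG F) h.T_mem (fun b => MS_le_MG (T_mem_MS b)) v h.v_mem
      (hv ▸ W_mem_MG c) h.v_zero
    intro π hπ h1 h0
    obtain ⟨a, -, rfl⟩ := (h.stab π h1 h0).1 hπ
    exact M_mem_MG a
  · apply le_of_stab (MG F) Γ (fun b => MS_le_MG (T_mem_MS b)) h.T_mem v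
      (hv ▸ W_mem_MG c) h.v_mem h.v_zero
    intro π hπ h1 h0
    obtain ⟨a, rfl⟩ := fix_MG hπ h1 h0
    exact (h.stab _ h1 h0).2 ⟨a, hS ▸ Subgroup.mem_top _, rfl⟩


section Odd

variable [Fintype F]

open Polynomial in
theorem exists_sq_add_one (hF : ringChar F ≠ 2) :
    ∃ w : F, quadraticChar F w = 1 ∧ quadraticChar F (w + 1) = -1 := by
  obtain ⟨n, hn⟩ := quadraticChar_exists_neg_one hF
  have hodd : Fintype.card F % 2 = 1 := FiniteField.odd_card_of_char_ne_two hF
  obtain ⟨a, b, hab⟩ : ∃ a b : F, (X ^ 2 : F[X]).eval a + (X ^ 2 - C n : F[X]).eval b = 0 :=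
    FiniteField.exists_root_sum_quadratic (degree_X_pow 2)
      (degree_X_pow_sub_C (by decide) _) hodd
  have hab' : n = a ^ 2 + b ^ 2 := by
    simp only [eval_C, eval_X, eval_pow, eval_sub] at hab
    linear_combination -hab
  have hnsq := quadraticChar_neg_one_iff_not_isSquare.1 hn
  have ha : a ≠ 0 := by
    rintro rfl
    exact hnsq ⟨b, by rw [hab']; ring⟩
  have hb : b ≠ 0 := by
    rintro rfl
    exact hnsq ⟨a, by rw [hab']; ring⟩
  refine ⟨(a / b) ^ 2, quadraticChar_sq_one' (div_ne_zero ha hb), ?_⟩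
  have h1 : (a / b) ^ 2 + 1 = n * (b⁻¹) ^ 2 := by
    rw [hab']; field_simp
  rw [h1, map_mul, hn, quadraticChar_sq_one' (inv_ne_zero hb)]
  norm_num

omit [Fintype F] in
theorem T_T (a b : F) (x : OnePoint F) : T a (T b x) = T (b + a) x := by
  cases x with
  | infty => simp
  | coe t => simp [add_assoc]

omit [Fintype F] in
theorem T_zero (x : OnePoint F) : T (0 : F) x = x := by
  cases x with
  | infty => simp
  | coe t => simp

/-- If the stabiliser of `0` and `∞` consists of the dilations by squares (odd characteristic),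
then `Γ` is the group of Moebius permutations of determinant one. -/
theorem Cond.eq_MS (h : Cond Γ S v) (hF : ringChar F ≠ 2)
    (hS : ∀ a : Fˣ, a ∈ S ↔ quadraticChar F (a : F) = 1) : Γ = MS F := by
  obtain ⟨c₁, hc₁⟩ := h.exists_tau 1
  obtain ⟨n, hn⟩ := quadraticChar_exists_neg_one' hF
  obtain ⟨t, ht⟩ := h.exists_tau n
  obtain ⟨C1, hC1⟩ : ∃ C1 : F, C1 = c₁ := ⟨_, rfl⟩
  obtain ⟨C2, hC2⟩ : ∃ C2 : F, C2 = n * t := ⟨_, rfl⟩
  have hC1ne : C1 ≠ 0 := hC1 ▸ c₁.ne_zero
  have hC2ne : C2 ≠ 0 := hC2 ▸ mul_ne_zero n.ne_zero t.ne_zero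
  obtain ⟨cc, hcc⟩ : ∃ cc : F → F, ∀ x, cc x = if quadraticChar F x = 1 then C1 else C2 :=
    ⟨_, fun _ => rfl⟩
  have hcc1 : ∀ x, quadraticChar F x = 1 → cc x = C1 := fun x hx => by rw [hcc, if_pos hx]
  have hcc2 : ∀ x, quadraticChar F x = -1 → cc x = C2 := fun x hx => by
    rw [hcc, if_neg (by rw [hx]; decide)]
  have hv : ∀ x : F, x ≠ 0 → v (x : OnePoint F) = ((cc x / x : F) : OnePoint F) := by
    intro x hx
    rcases quadraticChar_dichotomy hx with h1 | h1
    · have := h.tau_mul (a := Units.mk0 x hx) ((hS _).2 h1) hc₁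
      rw [hcc1 x h1, hC1]
      simpa [div_eq_inv_mul] using this
    · have hxn : quadraticChar F (x / n) = 1 := by
        have h2 : quadraticChar F (x / n) * quadraticChar F (n : F) = quadraticChar F x := by
          rw [← map_mul, div_mul_cancel₀ _ n.ne_zero]
        rw [hn, h1] at h2
        linarith
      have hxn0 : x / n ≠ 0 := div_ne_zero hx n.ne_zero
      have := h.tau_mul (a := Units.mk0 (x / n) hxn0) ((hS _).2 hxn) ht
      rw [hcc2 x h1, hC2]
      have e1 : (((Units.mk0 (x / n) hxn0 * n : Fˣ) : F)) = x := by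
        simp
      have e2 : ((((Units.mk0 (x / n) hxn0)⁻¹ * t : Fˣ) : F)) = n * t / x := by
        simp only [Units.val_mul, Units.val_inv_eq_inv_val, Units.val_mk0]
        field_simp
      rw [e1, e2] at this
      exact this
  have hv1 : v ((1 : F) : OnePoint F) = (C1 : OnePoint F) := by
    rw [hC1]; simpa using hc₁
  -- the square of `v`
  obtain ⟨s, hsS, hs⟩ : ∃ s ∈ S, v * v = M s := by
    apply (h.stab (v * v) _ _).1 (Γ.mul_mem h.v_mem h.v_mem)
    · rw [Equiv.Perm.mul_apply, h.v_infty, h.v_zero]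
    · rw [Equiv.Perm.mul_apply, h.v_zero, h.v_infty]
  have hsχ : quadraticChar F (s : F) = 1 := (hS s).1 hsS
  have hvv : ∀ x : F, v (v (x : OnePoint F)) = ((s * x : F) : OnePoint F) := by
    intro x
    rw [← M_coe, ← hs, Equiv.Perm.mul_apply]
  have hA1 : cc C1 = s * C1 := by
    have := hvv 1
    rw [hv1, hv C1 hC1ne, coe_eq_coe, mul_one, div_eq_iff hC1ne] at this
    exact this
  have hA2 : cc (t : F) = s * C2 := by
    have := hvv n
    rw [ht, hv t t.ne_zero, coe_eq_coe, div_eq_iff t.ne_zero] at this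
    rw [this, hC2]; ring
  have hχt : quadraticChar F C2 = - quadraticChar F (t : F) := by
    rw [hC2, map_mul, hn]; ring
  have hγ : quadraticChar F C1 = quadraticChar F C2 ∧
      (quadraticChar F C1 = -1 → C2 = s * C1 ∧ C1 = s * C2) := by
    rcases quadraticChar_dichotomy hC1ne with g1 | g1
    · rcases quadraticChar_dichotomy hC2ne with g2 | g2
      · exact ⟨g1.trans g2.symm, fun h' => by rw [g1] at h'; exact absurd h' (by decide)⟩
      · exfalso
        have ht1 : quadraticChar F (t : F) = 1 := by rw [g2] at hχt; linarith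
        rw [hcc1 _ ht1] at hA2
        have := congrArg (quadraticChar F) hA2
        rw [map_mul, g1, hsχ, g2] at this
        exact absurd this (by decide)
    · rw [hcc2 _ g1] at hA1
      have g2 : quadraticChar F C2 = -1 := by rw [hA1, map_mul, hsχ, g1]; rfl
      have ht1 : quadraticChar F (t : F) = 1 := by rw [g2] at hχt; linarith
      rw [hcc1 _ ht1] at hA2
      exact ⟨g1.trans g2.symm, fun _ => ⟨hA1, hA2⟩⟩
  have hχcc : ∀ x, quadraticChar F (cc x) = quadraticChar F C1 := by
    intro x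
    rw [hcc]
    split_ifs
    · rfl
    · exact hγ.1.symm
  -- the main relation
  have hvi1 : v⁻¹ (∞ : OnePoint F) = ((0 : F) : OnePoint F) := by
    rw [Equiv.Perm.inv_eq_iff_eq]; exact h.v_zero.symm
  have hvi0 : v⁻¹ ((0 : F) : OnePoint F) = ∞ := by
    rw [Equiv.Perm.inv_eq_iff_eq]; exact h.v_infty.symm
  obtain ⟨β, hβ0, hβ⟩ : ∃ β : F, β ≠ 0 ∧ v (β : OnePoint F) = ((-1 : F) : OnePoint F) := by
    obtain ⟨β', hβ'⟩ := v.surjective ((-1 : F) : OnePoint F)
    cases β' with
    | infty =>
      rw [h.v_infty, coe_eq_coe] at hβ'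
      exact absurd hβ' (by simp)
    | coe β =>
      refine ⟨β, ?_, hβ'⟩
      rintro rfl
      rw [h.v_zero] at hβ'
      exact absurd hβ' (infty_ne_coe _)
  obtain ⟨r, hrS, hr⟩ : ∃ r ∈ S, T (-C1) * (v * T 1 * v) * T β * v⁻¹ = M r := by
    apply (h.stab _ _ _).1
    · exact Γ.mul_mem (Γ.mul_mem (Γ.mul_mem (h.T_mem _)
        (Γ.mul_mem (Γ.mul_mem h.v_mem (h.T_mem _)) h.v_mem)) (h.T_mem _)) (Γ.inv_mem h.v_mem)
    · simp only [Equiv.Perm.mul_apply, hvi1, T_coe, zero_add, hβ, neg_add_cancel, h.v_zero, T_infty]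
    · simp only [Equiv.Perm.mul_apply, hvi0, T_infty, h.v_infty, T_coe, zero_add, hv1,
        add_neg_cancel]
  have hrχ : quadraticChar F (r : F) = 1 := (hS r).1 hrS
  have hE : ∀ x : OnePoint F, T (-C1) (v (T 1 (v x))) = M r (v (T (-β) x)) := by
    intro x
    have := congrArg (fun π : Equiv.Perm (OnePoint F) => π (v (T (-β) x))) hr
    have h2 : v⁻¹ (v (T (-β) x)) = T (-β) x := by simp
    simp only [Equiv.Perm.mul_apply] at this
    rw [h2, T_T, neg_add_cancel, T_zero] at this
    exact this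
  have hE1 : cc β = -β := by
    have := hβ
    rw [hv β hβ0, coe_eq_coe, div_eq_iff hβ0] at this
    rw [this]; ring
  have hE0 : C1 * β = r * cc (-β) := by
    have := hE ((0 : F) : OnePoint F)
    rw [h.v_zero, T_infty, h.v_infty, T_coe, T_coe, zero_add, zero_add,
      hv (-β) (neg_ne_zero.2 hβ0), M_coe, coe_eq_coe] at this
    field_simp at this
    linear_combination -this
  have hγne : quadraticChar F C1 ≠ 0 := by
    rw [Ne, quadraticChar_eq_zero_iff]; exact hC1ne
  have hχβ : quadraticChar F β = 1 := by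
    have := congrArg (quadraticChar F) hE0
    rw [map_mul, map_mul, hrχ, hχcc, one_mul] at this
    exact mul_left_cancel₀ hγne (this.trans (mul_one _).symm)
  have hε : quadraticChar F C1 = quadraticChar F (-1 : F) := by
    have := congrArg (quadraticChar F) hE1
    rw [hχcc, neg_eq_neg_one_mul, map_mul, hχβ, mul_one] at this
    exact this
  have hβC : β = -C1 := by
    rw [hcc1 β hχβ] at hE1
    rw [hE1]; ring
  have hCC : C1 = C2 := by
    rcases quadraticChar_dichotomy hC1ne with g1 | g1
    · -- `-1` is a square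
      have hm1 : quadraticChar F (-1 : F) = 1 := hε ▸ g1
      have hχnβ : quadraticChar F (-β) = 1 := by
        rw [neg_eq_neg_one_mul, map_mul, hm1, hχβ]; rfl
      rw [hcc1 _ hχnβ] at hE0
      have hrβ : (r : F) = β := by
        have : C1 * β = C1 * r := by rw [hE0]; ring
        exact (mul_left_cancel₀ hC1ne this).symm
      obtain ⟨w, hw1, hw2⟩ := exists_sq_add_one hF
      have hw0 : w ≠ 0 := by
        rintro rfl
        rw [quadraticChar_zero] at hw1
        exact absurd hw1 (by decide)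
      have hw10 : w + 1 ≠ 0 := by
        intro h0
        rw [h0, quadraticChar_zero] at hw2
        exact absurd hw2 (by decide)
      obtain ⟨x, hx⟩ : ∃ x : F, x = -C1 * (w + 1) := ⟨_, rfl⟩
      have hx0 : x ≠ 0 := hx ▸ mul_ne_zero (neg_ne_zero.2 hC1ne) hw10
      have hχx : quadraticChar F x = -1 := by
        rw [hx, neg_mul, neg_eq_neg_one_mul, map_mul, map_mul, hm1, g1, hw2]; rfl
      have hxβ : x + -β = -C1 * w := by rw [hx, hβC]; ring
      have hxβ0 : -C1 * w ≠ 0 := mul_ne_zero (neg_ne_zero.2 hC1ne) hw0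
      have hχxβ : quadraticChar F (-C1 * w) = 1 := by
        rw [neg_mul, neg_eq_neg_one_mul, map_mul, map_mul, hm1, g1, hw1]; rfl
      have hEx := hE (x : OnePoint F)
      rw [hv x hx0, hcc2 x hχx, T_coe, T_coe, hxβ, hv _ hxβ0, hcc1 _ hχxβ, M_coe, hrβ, hβC] at hEx
      by_cases hy : C2 / x + 1 = 0
      · rw [hy, h.v_zero, T_infty] at hEx
        exact absurd hEx (infty_ne_coe _)
      · rw [hv _ hy, T_coe, coe_eq_coe] at hEx
        have hval : cc (C2 / x + 1) / (C2 / x + 1) = C1 * (w + 1) / w := by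
          have : cc (C2 / x + 1) / (C2 / x + 1) = -C1 * (C1 / (-C1 * w)) + C1 := by
            linear_combination hEx
          rw [this]; field_simp; ring
        have hχy : quadraticChar F (C2 / x + 1) = -1 := by
          have h3 : cc (C2 / x + 1) * w = C1 * (w + 1) * (C2 / x + 1) := by
            rw [div_eq_div_iff hy hw0] at hval
            exact hval
          have := congrArg (quadraticChar F) h3
          rw [map_mul, map_mul, map_mul, hχcc, g1, hw1, hw2] at this
          linarith
        rw [hcc2 _ hχy] at hval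
        rw [div_eq_div_iff hy hw0] at hval
        have h4 : C2 * w * x = C1 * (w + 1) * (C2 + x) := by
          have : C2 / x + 1 = (C2 + x) / x := by field_simp
          rw [this] at hval
          field_simp at hval
          linear_combination hval
        rw [hx] at h4
        have h5 : C1 * (w + 1) * ((C1 - C2) * (w + 1)) = 0 := by linear_combination h4
        have h6 := (mul_eq_zero.1 h5).resolve_left (mul_ne_zero hC1ne hw10)
        have h7 := (mul_eq_zero.1 h6).resolve_right hw10
        exact sub_eq_zero.1 h7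
    · obtain ⟨e1, e2⟩ := hγ.2 g1
      have hss : ((s : F) - 1) * ((s : F) + 1) = 0 := by
        have : C1 * (((s : F) - 1) * ((s : F) + 1)) = 0 := by
          have e3 : C1 = s * (s * C1) := by rw [← e1]; exact e2
          linear_combination -e3
        exact (mul_eq_zero.1 this).resolve_left hC1ne
      rcases mul_eq_zero.1 hss with h1 | h1
      · rw [sub_eq_zero.1 h1, one_mul] at e1
        exact e1.symm
      · exfalso
        have : (s : F) = -1 := by linear_combination h1
        rw [this, ← hε, g1] at hsχ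
        exact absurd hsχ (by decide)
  have hccC : ∀ x, cc x = C1 := by
    intro x
    rw [hcc]; split_ifs
    · rfl
    · exact hCC.symm
  have hvW : v = W c₁ := by
    apply perm_ext
    · rw [h.v_infty, W_infty]
    · intro x
      by_cases hx : x = 0
      · subst hx; rw [h.v_zero, W_zero]
      · rw [hv x hx, W_coe c₁ hx, hccC, hC1]
  have hnegc : quadraticChar F (-C1) = 1 := by
    rw [neg_eq_neg_one_mul, map_mul, ← hε]
    rcases quadraticChar_dichotomy hC1ne with g1 | g1 <;> rw [g1] <;> rfl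
  obtain ⟨y, hy⟩ := (quadraticChar_one_iff_isSquare (neg_ne_zero.2 hC1ne)).1 hnegc
  have hy0 : y ≠ 0 := by
    rintro rfl
    rw [mul_zero] at hy
    exact neg_ne_zero.2 hC1ne hy
  have hWmem : W c₁ ∈ MS F := by
    apply W_mem_MS c₁ (Units.mk0 y hy0)
    ext
    simp only [Units.val_neg, Units.val_pow_eq_pow_val, Units.val_mk0]
    rw [← hC1, hy]; ring
  apply le_antisymm
  · apply le_of_stab Γ (MS F) h.T_mem T_mem_MS v h.v_mem (hvW ▸ hWmem) h.v_zero
    intro π hπ h1 h0
    obtain ⟨a, haS, rfl⟩ := (h.stab π h1 h0).1 hπ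
    obtain ⟨z, hz⟩ := (quadraticChar_one_iff_isSquare a.ne_zero).1 ((hS a).1 haS)
    have hz0 : z ≠ 0 := by
      rintro rfl
      rw [mul_zero] at hz
      exact a.ne_zero hz
    have : a = (Units.mk0 z hz0) ^ 2 := by
      ext
      simp only [Units.val_pow_eq_pow_val, Units.val_mk0]
      rw [hz]; ring
    rw [this]
    exact M_sq_mem_MS _
  · apply le_of_stab (MS F) Γ T_mem_MS h.T_mem v (hvW ▸ hWmem) h.v_mem h.v_zero
    intro π hπ h1 h0
    obtain ⟨z, rfl⟩ := fix_MS hπ h1 h0
    refine (h.stab _ h1 h0).2 ⟨z ^ 2, (hS _).2 ?_, rfl⟩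
    rw [Units.val_pow_eq_pow_val]
    exact quadraticChar_sq_one' z.ne_zero

/-- The dichotomy: the stabiliser of two points contains all dilations by squares. -/
theorem Cond.main (h : Cond Γ S v) (hS2 : ∀ a : Fˣ, a ^ 2 ∈ S) :
    (S = ⊤ ∧ Γ = MG F) ∨ (S ≠ ⊤ ∧ ringChar F ≠ 2 ∧ Γ = MS F) := by
  by_cases hS : S = ⊤
  · exact Or.inl ⟨hS, h.eq_MG hS⟩
  · have hsq : ∀ a : Fˣ, IsSquare (a : F) → a ∈ S := by
      rintro a ⟨z, hz⟩
      have hz0 : z ≠ 0 := by
        rintro rfl
        rw [mul_zero] at hz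
        exact a.ne_zero hz
      have : a = (Units.mk0 z hz0) ^ 2 := by
        ext
        simp only [Units.val_pow_eq_pow_val, Units.val_mk0]
        rw [hz]; ring
      rw [this]
      exact hS2 _
    have hF : ringChar F ≠ 2 := by
      intro hF
      apply hS
      rw [eq_top_iff]
      intro a _
      exact hsq a (FiniteField.isSquare_of_char_two hF _)
    refine Or.inr ⟨hS, hF, h.eq_MS hF ?_⟩
    intro a
    constructor
    · intro ha
      by_contra hne
      have ha1 : quadraticChar F (a : F) = -1 :=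
        (quadraticChar_dichotomy a.ne_zero).resolve_left hne
      apply hS
      rw [eq_top_iff]
      intro u _
      rcases quadraticChar_dichotomy u.ne_zero with h1 | h1
      · exact hsq u ((quadraticChar_one_iff_isSquare u.ne_zero).1 h1)
      · have h2 : quadraticChar F ((u * a⁻¹ : Fˣ) : F) = 1 := by
          have h3 : quadraticChar F ((u * a⁻¹ : Fˣ) : F) * quadraticChar F (a : F)
              = quadraticChar F (u : F) := by
            rw [← map_mul, ← Units.val_mul, inv_mul_cancel_right]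
          rw [ha1, h1] at h3
          linarith
        have h4 := S.mul_mem (hsq _ ((quadraticChar_one_iff_isSquare (Units.ne_zero _)).1 h2)) ha
        rwa [inv_mul_cancel_right] at h4
    · intro ha
      exact hsq a ((quadraticChar_one_iff_isSquare a.ne_zero).1 ha)

end Odd

section CharTwo

open Matrix MatrixGroups

variable (F)

omit [DecidableEq F] in
theorem nonempty_PGL_equiv_PSL [Fintype F] (hF : ringChar F = 2) :
    Nonempty (ProjGenLinGroup (Fin 2) F ≃* ProjectiveSpecialLinearGroup (Fin 2) F) := by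
  refine ⟨(MulEquiv.ofBijective ProjectiveSpecialLinearGroup.toPGL
    ⟨ProjectiveSpecialLinearGroup.toPGL_injective,
      ProjectiveSpecialLinearGroup.toPGL_surj_of_roots ?_⟩).symm⟩
  intro r
  obtain ⟨z, hz⟩ := FiniteField.isSquare_of_char_two hF (r : F)
  have hz0 : z ≠ 0 := by
    rintro rfl
    rw [mul_zero] at hz
    exact r.ne_zero hz
  refine ⟨Units.mk0 z hz0, ?_⟩
  ext
  simp only [Fintype.card_fin, Units.val_pow_eq_pow_val, Units.val_mk0]
  rw [hz]; ring

omit [DecidableEq F] in
theorem nonempty_PSL_equiv_SL (hF : ringChar F = 2) :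
    Nonempty (ProjectiveSpecialLinearGroup (Fin 2) F ≃* SpecialLinearGroup (Fin 2) F) := by
  have hc : Subgroup.center (SpecialLinearGroup (Fin 2) F) = ⊥ := by
    rw [eq_bot_iff]
    intro A hA
    obtain ⟨r, hr, hrA⟩ := Matrix.SpecialLinearGroup.mem_center_iff.1 hA
    haveI : CharP F 2 := ringChar.of_eq hF
    have hr1 : r = 1 := by
      rw [Fintype.card_fin] at hr
      have h1 : (r + 1) * (r + 1) = 0 := by
        have h2 : (2 : F) = 0 := CharTwo.two_eq_zero
        linear_combination hr + (r + 1) * h2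
      have h3 : r + 1 = 0 := mul_self_eq_zero.1 h1
      have h2 : (2 : F) = 0 := CharTwo.two_eq_zero
      linear_combination h3 - h2
    rw [Subgroup.mem_bot]
    ext i j
    rw [← hrA, hr1]
    simp
  exact ⟨(QuotientGroup.quotientMulEquivOfEq hc).trans QuotientGroup.quotientBot⟩

end CharTwo

end Cfsg.Agent.Lib.Helper26Rec
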