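import Mathlib
import Cfsg.Agent.S4343
import Cfsg.Agent.S4304
import Cfsg.Agent.Lib.Helper63SylowNum3

set_option autoImplicit false
set_option linter.style.haveILetI false
set_option linter.unusedSectionVars false

namespace Cfsg.Agent.Lib.Helper63Syl22a

open Subgroup MulAction Cfsg.Agent.Lib.Helper63SylowNum Cfsg.Agent.Lib.Helper63SylowNum2
  Cfsg.Agent.Lib.Helper63SylowNum3 Cfsg.Agent.Lib.Helper76SylowCount

instance fact5 : Fact (Nat.Prime 5) := ⟨by norm_num⟩
instance fact7 : Fact (Nat.Prime 7) := ⟨by norm_num⟩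
instance fact11 : Fact (Nat.Prime 11) := ⟨by norm_num⟩

section General

/-- if all orbits of `R` on an invariant set have length divisible by `m`, so has the set -/
theorem dvd_card_of_relIndex {G α : Type*} [Group G] [MulAction G α] [Finite α] (R : Subgroup G)
    (s : Set α) (hs : ∀ a ∈ R, ∀ x ∈ s, a • x ∈ s) (m : ℕ)
    (hm : ∀ x ∈ s, m ∣ (stabilizer G x).relIndex R) : m ∣ Nat.card s := by
  classical
  let S : SubMulAction R α := { carrier := s, smul_mem' := fun a x hx => hs a a.2 x hx }
  have h1 : Nat.card S = Nat.card (Σ ω : orbitRel.Quotient R S, orbit R ω.out) :=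
    Nat.card_congr (selfEquivSigmaOrbits R S)
  haveI : Fintype (orbitRel.Quotient R S) := Fintype.ofFinite _
  rw [Nat.card_sigma] at h1
  change m ∣ Nat.card S
  rw [h1]
  apply Finset.dvd_sum
  intro ω _
  have h2 := index_stabilizer R (ω.out)
  rw [Nat.card_coe_set_eq, ← h2]
  have h3 : stabilizer R ω.out = (stabilizer G (ω.out : α)).subgroupOf R := by
    ext r
    rw [mem_stabilizer_iff, mem_subgroupOf, mem_stabilizer_iff, Subtype.ext_iff]
    rfl
  rw [h3]
  exact hm _ ω.out.2

variable {G : Type*} [Group G]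

theorem le_normalizer_of_conj_mem (H K : Subgroup G)
    (h : ∀ n ∈ K, ∀ x ∈ H, n * x * n⁻¹ ∈ H) : K ≤ normalizer (H : Set G) := by
  intro n hn
  rw [mem_normalizer_iff]
  intro x
  constructor
  · exact h n hn x
  · intro hx
    have := h n⁻¹ (K.inv_mem hn) _ hx
    simpa [mul_assoc] using this

variable [Finite G] {p : ℕ} [Fact p.Prime]

theorem sylow_eq_of_le (P Q : Sylow p G) (h : (P : Subgroup G) ≤ Q) : P = Q :=
  (Sylow.ext (P.3 Q.2 h)).symm

/-- Sylow's theorem inside a subgroup. -/
theorem exists_smul_eq_of_le (H : Subgroup G) (P Q : Sylow p G) (hP : (P : Subgroup G) ≤ H)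
    (hQ : (Q : Subgroup G) ≤ H) : ∃ h ∈ H, h • P = Q := by
  obtain ⟨n, hn⟩ := MulAction.exists_smul_eq H (P.subtype hP) (Q.subtype hQ)
  refine ⟨n, n.2, ?_⟩
  apply sylow_eq_of_le
  intro x hx
  have hx' : (n : G)⁻¹ * x * n ∈ P := (mem_smul_sylow _ _ _).mp hx
  have hxH : x ∈ H := by
    have h1 := H.mul_mem (H.mul_mem n.2 (hP hx')) (H.inv_mem n.2)
    simpa [mul_assoc] using h1
  have h2 : (⟨x, hxH⟩ : H) ∈ n • (P.subtype hP) := by
    rw [mem_smul_sylow]
    exact Subgroup.mem_subgroupOf.mpr hx'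
  rw [hn] at h2
  exact Subgroup.mem_subgroupOf.mp h2

/-- an invariant set of Sylow subgroups of `G` lying in `H` has size dividing `|H|` -/
theorem card_dvd_of_le (H : Subgroup G) (s : Set (Sylow p G))
    (hs : ∀ Q ∈ s, (Q : Subgroup G) ≤ H) (hinv : ∀ h ∈ H, ∀ Q ∈ s, h • Q ∈ s)
    (hne : s.Nonempty) : Nat.card s ∣ Nat.card H := by
  obtain ⟨P, hP⟩ := hne
  have h1 : s = orbit H P := by
    ext Q
    constructor
    · intro hQ
      obtain ⟨h, hh, rfl⟩ := exists_smul_eq_of_le H P Q (hs P hP) (hs Q hQ)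
      exact ⟨⟨h, hh⟩, rfl⟩
    · rintro ⟨h, rfl⟩
      exact hinv h h.2 P hP
  rw [h1, Nat.card_coe_set_eq, ← index_stabilizer]
  exact Subgroup.index_dvd_card _

theorem relIndex_normalizer (A : Subgroup G) (hA : IsPGroup p A) (Q : Sylow p G) :
    (normalizer ((Q : Subgroup G) : Set G)).relIndex A = (Q : Subgroup G).relIndex A := by
  have h' : A ⊓ normalizer ((Q : Subgroup G) : Set G) = A ⊓ Q := hA.inf_normalizer_sylow Q
  rw [← Subgroup.inf_relIndex_left, h', Subgroup.inf_relIndex_left]

theorem relIndex_stabilizer (A : Subgroup G) (hA : IsPGroup p A) (Q : Sylow p G) :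
    (stabilizer G Q).relIndex A = (Q : Subgroup G).relIndex A := by
  have h : stabilizer G Q = normalizer ((Q : Subgroup G) : Set G) :=
    Sylow.stabilizer_eq_normalizer Q
  rw [h, relIndex_normalizer A hA Q]

theorem card_orbit (A : Subgroup G) (hA : IsPGroup p A) (Q : Sylow p G) :
    Nat.card (orbit A Q) = (Q : Subgroup G).relIndex A := by
  rw [Nat.card_coe_set_eq, ← index_stabilizer, ← relIndex_stabilizer A hA Q, Subgroup.relIndex]
  rfl

theorem relIndex_pow (A : Subgroup G) (hA : IsPGroup p A) (B : Subgroup G) :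
    ∃ n, B.relIndex A = p ^ n := hA.index (B.subgroupOf A)

theorem d_eq_one_iff (P Q : Sylow p G) : (Q : Subgroup G).relIndex P = 1 ↔ P = Q := by
  rw [Subgroup.relIndex_eq_one]
  constructor
  · exact sylow_eq_of_le P Q
  · rintro rfl; exact le_rfl

theorem card_sylow_eq (P Q : Sylow p G) : Nat.card P = Nat.card Q := by
  rw [P.card_eq_multiplicity, Q.card_eq_multiplicity]

theorem d_symm (P Q : Sylow p G) : (Q : Subgroup G).relIndex P = (P : Subgroup G).relIndex Q := by
  have h1 := card_mul_relIndex' ((P : Subgroup G) ⊓ Q) P inf_le_left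
  have h2 := card_mul_relIndex' ((P : Subgroup G) ⊓ Q) Q inf_le_right
  rw [Subgroup.inf_relIndex_left] at h1
  rw [Subgroup.inf_relIndex_right] at h2
  have h3 : Nat.card (P : Subgroup G) = Nat.card (Q : Subgroup G) := card_sylow_eq P Q
  rw [← h1, ← h2] at h3
  exact Nat.eq_of_mul_eq_mul_left Nat.card_pos h3

theorem d_smul (g : G) (P Q : Sylow p G) :
    ((g • Q : Sylow p G) : Subgroup G).relIndex (g • P : Sylow p G) =
      (Q : Subgroup G).relIndex P := by
  rw [Sylow.coe_subgroup_smul, Sylow.coe_subgroup_smul, Subgroup.relIndex_pointwise_smul]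

theorem smul_eq_self_of_mem (Q : Sylow p G) (g : G) (hg : g ∈ Q) : g • Q = Q :=
  Sylow.smul_eq_iff_mem_normalizer.mpr (Subgroup.le_normalizer hg)

end General

section Parity

variable {G : Type*} [Group G] [Finite G] [IsSimpleGroup G]

theorem parity_involution {α : Type*} [MulAction G α] [Finite α]
    (hfaith : ∀ g : G, (∀ x : α, g • x = x) → g = 1) (hnc : ¬ IsMulCommutative G) (g : G)
    (hg : orderOf g = 2) : (Nat.card α - Nat.card (fixedBy α g)) % 4 = 0 := by
  classical
  haveI : Fintype α := Fintype.ofFinite _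
  have hinj : Function.Injective (MulAction.toPermHom G α) := by
    rw [injective_iff_map_eq_one]
    intro g hg
    apply hfaith
    intro Q
    have := congrArg (fun τ : Equiv.Perm α => τ Q) hg
    simpa using this
  have hf2 := card_modEq_card_fixedBy (α := α) g hg
  have hle : Nat.card (fixedBy α g) ≤ Nat.card α :=
    Nat.card_le_card_of_injective _ Subtype.val_injective
  set σ : Equiv.Perm α := MulAction.toPerm g with hσ
  have hord : orderOf σ = 2 := by
    have := orderOf_injective (MulAction.toPermHom G α) hinj g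
    rw [hg] at this
    exact this
  have hs := sign_involution σ hord
  rw [sign_eq_one hnc] at hs
  have hfix : Fintype.card (Function.fixedPoints σ) = Nat.card (fixedBy α g) := by
    rw [← Nat.card_eq_fintype_card]
    rfl
  rw [hfix, ← Nat.card_eq_fintype_card] at hs
  have hf2' : Nat.card α % 2 = Nat.card (fixedBy α g) % 2 := hf2
  have heven : Even ((Nat.card α - Nat.card (fixedBy α g)) / 2) := by
    by_contra hodd
    rw [Nat.not_even_iff_odd] at hodd
    rw [hodd.neg_one_pow] at hs
    exact absurd hs (by decide)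
  obtain ⟨m, hm⟩ := heven
  omega

end Parity

section
variable {G : Type*} [Group G] [Finite G]

/-- number of fixed Sylow 3-subgroups -/
noncomputable def fx (g : G) : ℕ := Nat.card (fixedBy (Sylow 3 G) g)

theorem fx_le (h : Nat.card (Sylow 3 G) = 22) (g : G) : fx g ≤ 22 := by
  rw [← h]
  exact Nat.card_le_card_of_injective _ Subtype.val_injective

theorem fx_le_pow (g : G) (n : ℕ) : fx g ≤ fx (g ^ n) := by
  apply Nat.card_mono (Set.toFinite _)
  intro x hx
  have : g ∈ stabilizer G x := hx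
  exact (stabilizer G x).pow_mem this n

theorem fx_conj (x g : G) : fx (x * g * x⁻¹) = fx g := by
  symm
  refine Nat.card_congr ⟨fun Q => ⟨x • Q.1, ?_⟩, fun Q => ⟨x⁻¹ • Q.1, ?_⟩, ?_, ?_⟩
  · have h1 : g • Q.1 = Q.1 := Q.2
    change (x * g * x⁻¹) • x • Q.1 = x • Q.1
    rw [smul_smul, inv_mul_cancel_right, mul_smul, h1]
  · have h1 : (x * g * x⁻¹) • Q.1 = Q.1 := Q.2
    change g • x⁻¹ • Q.1 = x⁻¹ • Q.1
    conv_rhs => rw [← h1]
    simp only [smul_smul]
    congr 1
    group
  · intro Q; simp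
  · intro Q; simp

theorem card_normalizer (h : Nat.card (Sylow 3 G) = 22) (P : Sylow 3 G) :
    Nat.card (normalizer ((P : Subgroup G) : Set G)) * 22 = Nat.card G := by
  rw [← h, P.card_eq_index_normalizer]
  exact (normalizer ((P : Subgroup G) : Set G)).card_mul_index

theorem mem_fixedBy_iff (g : G) (Q : Sylow 3 G) :
    Q ∈ fixedBy (Sylow 3 G) g ↔ g ∈ normalizer ((Q : Subgroup G) : Set G) :=
  Sylow.smul_eq_iff_mem_normalizer

theorem maximal (h : Nat.card (Sylow 3 G) = 22) (P : Sylow 3 G) (L : Subgroup G)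
    (hL : normalizer ((P : Subgroup G) : Set G) ≤ L) :
    L = normalizer ((P : Subgroup G) : Set G) ∨ L = ⊤ := by
  have h1 := card_sylow_subgroup L P (Subgroup.le_normalizer.trans hL)
  have h2 : Nat.card (Sylow 3 L) % 3 = 1 := card_sylow_modEq_one 3 L
  have h3 := Subgroup.relIndex_mul_index hL
  have h0 : (normalizer ((P : Subgroup G) : Set G)).index = 22 := by
    rw [← h]; exact P.card_eq_index_normalizer.symm
  rw [h0, ← h1] at h3
  have h4 : Nat.card (Sylow 3 L) ∣ 22 := Dvd.intro _ h3
  have h5 : Nat.card (Sylow 3 L) ≤ 22 := Nat.le_of_dvd (by norm_num) h4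
  rw [h1] at h2 h3 h4 h5
  generalize hk : (normalizer ((P : Subgroup G) : Set G)).relIndex L = k at *
  have h6 : k = 1 ∨ k = 22 := by
    interval_cases k <;> simp_all
  rcases h6 with rfl | rfl
  · left
    exact le_antisymm (Subgroup.relIndex_eq_one.mp hk) hL
  · right
    rw [← Subgroup.index_eq_one]
    omega

theorem gen_top (h : Nat.card (Sylow 3 G) = 22) (P Q : Sylow 3 G) (hne : Q ≠ P) (L : Subgroup G)
    (hL : normalizer ((P : Subgroup G) : Set G) ≤ L) (hQ : (Q : Subgroup G) ≤ L) : L = ⊤ := by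
  rcases maximal h P L hL with h1 | h1
  · exfalso
    apply hne
    apply sylow_eq_of_le
    have h2 : (Q : Subgroup G) ⊓ normalizer ((P : Subgroup G) : Set G) = (Q : Subgroup G) ⊓ P :=
      Q.2.inf_normalizer_sylow P
    rw [h1] at hQ
    rw [inf_of_le_left hQ] at h2
    rw [h2]
    exact inf_le_right
  · exact h1

variable [IsSimpleGroup G]

theorem eq_bot_of_normalizer (h : Nat.card (Sylow 3 G) = 22) (P : Sylow 3 G) (D : Subgroup G)
    (hD : D ≤ P) (hN : normalizer (D : Set G) = ⊤) : D = ⊥ := by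
  have hn : D.Normal := Subgroup.normalizer_eq_top_iff.mp hN
  rcases hn.eq_bot_or_eq_top with h0 | h1
  · exact h0
  · exfalso
    have hP : (P : Subgroup G) = ⊤ := top_le_iff.mp (h1 ▸ hD)
    have : Nat.card (Sylow 3 G) = 1 := by
      rw [P.card_eq_index_normalizer]
      rw [Subgroup.index_eq_one]
      apply top_le_iff.mp
      rw [← hP]
      exact Subgroup.le_normalizer
    omega

theorem ne_one (h : Nat.card (Sylow 3 G) = 22) : Nat.card (Sylow 3 G) ≠ 1 := by rw [h]; norm_num

theorem fx_ne (h : Nat.card (Sylow 3 G) = 22) (g : G) (hg : g ≠ 1) : fx g ≠ 22 := by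
  intro h21
  have hall : fixedBy (Sylow 3 G) g = Set.univ := by
    apply Set.eq_of_subset_of_ncard_le (Set.subset_univ _)
    rw [Set.ncard_univ, h, ← Nat.card_coe_set_eq]
    exact h21.ge
  apply hg
  apply faithful (ne_one h)
  intro Q
  have : Q ∈ fixedBy (Sylow 3 G) g := by rw [hall]; trivial
  exact this

theorem fx_inv (h : Nat.card (Sylow 3 G) = 22) (g : G) (hg : orderOf g = 2) : fx g % 4 = 2 := by
  have h1 := parity_involution (α := Sylow 3 G) (faithful (ne_one h))
    (not_comm_of_card_sylow (ne_one h)) g hg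
  rw [h] at h1
  have h2 := fx_le h g
  change (22 - fx g) % 4 = 0 at h1
  omega

theorem fx_mod (h : Nat.card (Sylow 3 G) = 22) (g : G) (r j : ℕ) [Fact r.Prime]
    (hg : orderOf g = r ^ j) : 22 % r = fx g % r := by
  have h1 := card_modEq_card_fixedBy_pow (α := Sylow 3 G) g hg
  rw [h] at h1
  exact h1

theorem fx_mod3 (P : Sylow 3 G) (g : G) (hg : g ∈ centralizer ((P : Subgroup G) : Set G)) :
    fx g % 3 = 1 := card_fixedBy_modEq_one P g hg

end

section LemmaS
variable {G : Type*} [Group G] [Finite G] [IsSimpleGroup G]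

theorem exists_fixed (g : G) (h0 : fx g ≠ 0) :
    ∃ Q : Sylow 3 G, g ∈ normalizer ((Q : Subgroup G) : Set G) := by
  have hpos : 0 < fx g := Nat.pos_of_ne_zero h0
  obtain ⟨⟨Q, hQ⟩⟩ : Nonempty (fixedBy (Sylow 3 G) g) := (Nat.card_pos_iff.mp hpos).1
  exact ⟨Q, (mem_fixedBy_iff g Q).mp hQ⟩

theorem card_normalizer_eq (h : Nat.card (Sylow 3 G) = 22) (P Q : Sylow 3 G) :
    Nat.card (normalizer ((Q : Subgroup G) : Set G)) =
      Nat.card (normalizer ((P : Subgroup G) : Set G)) := by
  have h5 := card_normalizer h P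
  have h6 := card_normalizer h Q
  omega

theorem fx_eleven (h : Nat.card (Sylow 3 G) = 22) (P : Sylow 3 G)
    (h11 : ¬ 11 ∣ Nat.card (normalizer ((P : Subgroup G) : Set G))) (g : G)
    (hg : orderOf g = 11) : fx g = 0 := by
  by_contra h0
  obtain ⟨Q, hQ⟩ := exists_fixed g h0
  have h4 : 11 ∣ Nat.card (normalizer ((Q : Subgroup G) : Set G)) := by
    rw [← hg]; exact Subgroup.orderOf_dvd_natCard _ hQ
  rw [card_normalizer_eq h P Q] at h4
  exact h11 h4

theorem lemmaS (h : Nat.card (Sylow 3 G) = 22) (P : Sylow 3 G)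
    (h11 : ¬ 11 ∣ Nat.card (normalizer ((P : Subgroup G) : Set G)))
    (h5 : ¬ 5 ∣ Nat.card (normalizer ((P : Subgroup G) : Set G))) (S : Sylow 11 G) :
    Nat.card S = 11 ∧ centralizer ((S : Subgroup G) : Set G) = S ∧
      Nat.card (normalizer ((S : Subgroup G) : Set G)) = 22 ∧
      Nat.card (Sylow 11 G) = Nat.card (normalizer ((P : Subgroup G) : Set G)) := by
  set m := Nat.card (normalizer ((P : Subgroup G) : Set G)) with hm
  have hG : m * 22 = Nat.card G := card_normalizer h P
  have hmpos : 0 < m := Nat.card_pos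
  have hS : Nat.card S = 11 := card_sylow_eq_prime S (m := 2 * m) (by rw [← hG]; ring) (by
    intro hd
    exact h11 (Nat.Coprime.dvd_of_dvd_mul_left (by norm_num) hd))
  haveI : IsCyclic (S : Subgroup G) := isCyclic_of_prime_card hS
  haveI : IsMulCommutative (S : Subgroup G) := ⟨⟨fun a b => IsCyclic.commGroup.mul_comm a b⟩⟩
  have hSC : (S : Subgroup G) ≤ centralizer ((S : Subgroup G) : Set G) := Subgroup.le_centralizer _
  obtain ⟨s0, hs0⟩ := exists_prime_orderOf_dvd_card' (G := (S : Subgroup G)) 11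
    (by rw [show Nat.card (S : Subgroup G) = 11 from hS])
  have hs0' : orderOf (s0 : G) = 11 := by rw [Subgroup.orderOf_coe, hs0]
  have hfs0 := fx_eleven h P h11 _ hs0'
  set C := centralizer ((S : Subgroup G) : Set G) with hC
  have hprime : ∀ {r : ℕ}, r.Prime → r ∣ Nat.card C → r = 11 := by
    intro r hr hrC
    haveI : Fact r.Prime := ⟨hr⟩
    obtain ⟨c, hc⟩ := exists_prime_orderOf_dvd_card' r hrC
    have hc' : orderOf (c : G) = r := by rw [Subgroup.orderOf_coe, hc]
    have hc1 : (c : G) ≠ 1 := by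
      intro h1; rw [h1, orderOf_one] at hc'; exact hr.one_lt.ne hc'
    have h1 := card_inv_set_modEq (α := Sylow 3 G) (p := 11) (S : Subgroup G) S.2
      (fixedBy (Sylow 3 G) (c : G)) (by
        intro a ha x hx
        have hcomm : a * c = c * a := (mem_centralizer_iff.mp c.2) a ha
        have hx' : (c : G) • x = x := hx
        change (c : G) • a • x = a • x
        rw [smul_smul, ← hcomm, mul_smul, hx'])
    have h2 : Nat.card {x : Sylow 3 G | x ∈ fixedBy (Sylow 3 G) (c : G) ∧
        ∀ a ∈ (S : Subgroup G), a • x = x} = 0 := by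
      rw [Nat.card_eq_zero]
      left
      constructor
      rintro ⟨x, -, hx⟩
      have h3 : x ∈ fixedBy (Sylow 3 G) (s0 : G) := hx s0 s0.2
      have h4 : 0 < fx (s0 : G) := Nat.card_pos_iff.mpr ⟨⟨⟨x, h3⟩⟩, inferInstance⟩
      omega
    rw [h2] at h1
    have h3 : fx (c : G) % 11 = 0 := h1
    have h4 := fx_le h (c : G)
    have h4' := fx_ne h (c : G) hc1
    have h5 := fx_mod h (c : G) r 1 (by rw [hc', pow_one])
    have h6 : fx (c : G) = 0 ∨ fx (c : G) = 11 := by omega
    rcases h6 with h6 | h6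
    · rw [h6] at h5
      have h7 : r ∣ 2 * 11 := Nat.dvd_of_mod_eq_zero (by simpa using h5)
      rcases (Nat.Prime.dvd_mul hr).mp h7 with h7 | h7
      · have : r = 2 := (Nat.prime_dvd_prime_iff_eq hr (by norm_num)).mp h7
        subst this
        have := fx_inv h (c : G) hc'
        omega
      · exact (Nat.prime_dvd_prime_iff_eq hr (by norm_num)).mp h7
    · rw [h6] at h5
      have h7 : r ∣ 22 - 11 := (Nat.modEq_iff_dvd' (by norm_num)).mp (Eq.symm h5)
      exact (Nat.prime_dvd_prime_iff_eq hr (by norm_num)).mp h7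
  have hCS : C = S := by
    have h1 := Nat.eq_prime_pow_of_unique_prime_dvd (Nat.card_pos (α := C)).ne' hprime
    exact S.3 (IsPGroup.of_card h1) hSC
  have hCcard : Nat.card C = 11 := by rw [hCS]; exact hS
  set M := normalizer ((S : Subgroup G) : Set G) with hM
  have hrel := relIndex_centralizer_normalizer_dvd (p := 11) (S : Subgroup G) hS
  rw [← hC, ← hM] at hrel
  have hMcard : Nat.card C * C.relIndex M = Nat.card M :=
    card_mul_relIndex' C M (Subgroup.centralizer_le_normalizer _)
  have hk1 : C.relIndex M ≠ 1 := by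
    intro h1
    have hNC : M ≤ C := Subgroup.relIndex_eq_one.mp h1
    have := card_eq_of_normalizer_le_centralizer 11 S (by rw [hS]; norm_num) hNC
    rw [hS] at this
    omega
  have hk5 : ¬ 5 ∣ C.relIndex M := by
    intro hd
    have h1 : 5 ∣ Nat.card G :=
      hd.trans ((Subgroup.relIndex_dvd_card _ _).trans (Subgroup.card_subgroup_dvd_card _))
    rw [← hG] at h1
    exact h5 (Nat.Coprime.dvd_of_dvd_mul_right (by norm_num) h1)
  have hk2 : C.relIndex M = 2 := by
    have hk10 : C.relIndex M ∣ 10 := hrel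
    have hkle : C.relIndex M ≤ 10 := Nat.le_of_dvd (by norm_num) hk10
    clear hMcard hrel
    generalize C.relIndex M = k at hk1 hk5 hk10 hkle ⊢
    clear hM hCcard hCS hprime hC hfs0 hs0' hSC
    interval_cases k <;> first | rfl | omega | (exfalso; revert hk10; norm_num) | (exfalso; revert hk5; norm_num)
  have hM22 : Nat.card M = 22 := by rw [← hMcard, hCcard, hk2]
  refine ⟨hS, hCS, hM22, ?_⟩
  have h1 := M.card_mul_index
  have h2 : M.index = Nat.card (Sylow 11 G) := S.card_eq_index_normalizer.symm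
  rw [h2, hM22, ← hG] at h1
  omega

end LemmaS

end Cfsg.Agent.Lib.Helper63Syl22a
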