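import Cfsg.Agent.Lib.Helper26Zas

/-!
# Zassenhaus groups with `2 d = n - 1`, `d` even: the datum, and cyclicity of the torus
-/

set_option autoImplicit false

namespace Cfsg.Agent.Lib.Helper26Zas2

open MulAction Cfsg.Agent.Lib.Helper26Dat Cfsg.Agent.Lib.Helper26Sh3 Cfsg.Agent.Lib.Helper26Zas

variable {G Ω : Type*} [Group G] [MulAction G Ω]

theorem Zas.exists_datum [Finite G] [Finite Ω] (h : Zas G Ω) {a b : Ω} (hab : a ≠ b)
    (heven : Even (Nat.card (stabilizer G a ⊓ stabilizer G b : Subgroup G)))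
    (hcard : 2 * Nat.card (stabilizer G a ⊓ stabilizer G b : Subgroup G) + 2 = Nat.card Ω) :
    ∃ (U : Subgroup G) (v : G), v * v = 1 ∧ Datum b a U (stabilizer G a ⊓ stabilizer G b) v := by
  obtain ⟨x, hx⟩ := exists_prime_orderOf_dvd_card' (G := (stabilizer G a ⊓ stabilizer G b : Subgroup G))
    2 heven.two_dvd
  obtain ⟨j, hjdef⟩ : ∃ j : G, j = x := ⟨_, rfl⟩
  have hjo : orderOf j = 2 := by rw [hjdef, Subgroup.orderOf_coe, hx]
  have hj : j * j = 1 := by rw [← pow_two, ← hjo]; exact pow_orderOf_eq_one j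
  have hj1 : j ≠ 1 := by
    rintro rfl
    rw [orderOf_one] at hjo
    omega
  have hja : j • a = a := hjdef ▸ (Subgroup.mem_inf.1 x.2).1
  have hjb : j • b = b := hjdef ▸ (Subgroup.mem_inf.1 x.2).2
  obtain ⟨U, hUcard, hUfix, hUfree, hUtrans, hUnorm⟩ := h.exists_kernel hab ⟨j, hj1, hja, hjb⟩
  have hjinv : ∀ u ∈ U, j * u * j⁻¹ = u⁻¹ := by
    apply inv_of_fpf hj (fun u hu => hUnorm j hja u hu)
    intro u hu hru
    by_contra hu1
    have h1 : u • b ≠ b := fun hh => hu1 (hUfree u hu b hab.symm hh)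
    have h2 : u • b ≠ a := by
      intro hh
      have h3 : u • a = a := hUfix u hu
      exact hab (smul_left_cancel u (hh.trans h3.symm)).symm
    have h3 : j • (u • b) = u • b := by
      have h4 : j * u = u * j := by
        have := congrArg (· * j) hru
        simpa [mul_assoc] using this
      rw [← mul_smul, h4, mul_smul, hjb]
    exact hj1 (h.three j a b (u • b) hab h2.symm h1.symm hja hjb h3)
  have hsq := h.swap_sq hab hj hj1 hja hjb hcard
  obtain ⟨v, hva, hvb⟩ := h.two a b b a hab hab.symm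
  have hvv : v * v = 1 := hsq v hva hvb
  have hvi : v⁻¹ = v := inv_eq_of_mul_eq_one_left hvv
  have hDmem : ∀ g : G, g ∈ stabilizer G a ⊓ stabilizer G b ↔ g • b = b ∧ g • a = a := by
    intro g
    rw [Subgroup.mem_inf, mem_stabilizer_iff, mem_stabilizer_iff, and_comm]
  have hinv : ∀ d ∈ stabilizer G a ⊓ stabilizer G b, v * d * v⁻¹ = d⁻¹ := by
    intro d hd
    obtain ⟨hdb, hda⟩ := (hDmem d).1 hd
    have h1 : (v * d) * (v * d) = 1 := by
      apply hsq
      · rw [mul_smul, hda, hva]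
      · rw [mul_smul, hdb, hvb]
    rw [hvi]
    apply eq_inv_of_mul_eq_one_left
    rw [← h1]; group
  have hDpos : 0 < Nat.card (stabilizer G a ⊓ stabilizer G b : Subgroup G) := Nat.card_pos
  exact ⟨U, v, hvv,
    { faithful := h.faithful
      ne := hab.symm
      U_fix := hUfix
      U_trans := hUtrans
      U_free := fun u hu hub => hUfree u hu b hab.symm hub
      U_comm := comm_of_inv hjinv
      U_ne := by
        intro hU
        rw [hU, Subgroup.card_bot] at hUcard
        omega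
      D_iff := hDmem
      D_norm := fun d hd u hu => hUnorm d ((hDmem d).1 hd).2 u hu
      D_comm := comm_of_inv hinv
      D_free := fun d hd x hxb hxa hdx =>
        h.three d a b x hab (Ne.symm hxa) (Ne.symm hxb) ((hDmem d).1 hd).2 ((hDmem d).1 hd).1 hdx
      v_o := hvb
      v_i := hva
      v_inv := hinv
      card := by omega }⟩

theorem Datum.isCyclic {o i : Ω} {U D : Subgroup G} {v : G} [Finite U] (h : Datum o i U D v) :
    IsCyclic D := by
  obtain ⟨F, iF, iFt, uu, χ, huU, hadd, hsurj, hinj, hconj⟩ := h.exists_coord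
  apply isCyclic_of_injective χ
  rw [injective_iff_map_eq_one]
  intro d hd
  obtain ⟨u₀, hu₀U, hu₀⟩ : ∃ u ∈ U, u ≠ 1 := by
    by_contra hc
    push Not at hc
    exact h.U_ne ((Subgroup.eq_bot_iff_forall _).2 hc)
  obtain ⟨k, rfl⟩ := hsurj u₀ hu₀U
  apply Subtype.ext
  apply h.conj_free d.2 hu₀U hu₀
  rw [hconj, hd]
  simp

end Cfsg.Agent.Lib.Helper26Zas2
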