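import Mathlib
import Cfsg.Agent.Lib.Helper31BGS
import Cfsg.Agent.S1429

/-! PROJECT 76, piece `nil`. -/

set_option autoImplicit false

namespace Cfsg.Agent.Lib.Helper27BG76nil

open Cfsg Subgroup

variable {G : Type*} [Group G] [Finite G]

theorem nil (hG : IsMinSimpleOddOrder G) {M D : Subgroup G} (hM : IsCoatom M)
    (hc : IsComplIn D (sigmaCore M) M) (hD : D ≠ ⊥) (hk : kappa M = ∅) :
    Group.IsNilpotent (sigmaCore M) := by
  have h1 : Nat.card D ≠ 1 := fun h => hD (card_eq_one.mp h)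
  obtain ⟨t, ht, htD⟩ := Nat.exists_prime_and_dvd h1
  have htM : t ∣ Nat.card M := htD.trans (card_dvd_of_le hc.1)
  have htσ : t ∉ sigma M := Cfsg.Agent.Lib.Helper31BGS.not_mem_sigma_of_dvd_compl hG hM hc ht htD
  have htκ : t ∉ kappa M := by rw [hk]; exact Set.notMem_empty t
  haveI := Fact.mk ht
  obtain ⟨S⟩ : Nonempty (Sylow t M) := inferInstance
  exact (Cfsg.Agent.S1429.result hG M hM (fun h => htκ (h t ht htM htσ)) t htM
    (fun h => h.elim htσ htκ) S).2.2

end Cfsg.Agent.Lib.Helper27BG76nil
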