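import Mathlib
import Cfsg.Agent.Lib.Helper24BG
import Cfsg.Agent.Lib.Helper30BG2
import Cfsg.Agent.Lib.Helper27BG16fhall

/-! PROJECT 76, piece `notTI`. -/

set_option autoImplicit false

namespace Cfsg.Agent.Lib.Helper27BG76notTI

open Cfsg Subgroup
open Cfsg.Agent.Lib.Helper30Trans Cfsg.Agent.Lib.Helper24BG

variable {G : Type*} [Group G] [Finite G]

theorem notTI (hG : IsMinSimpleOddOrder G) {M : Subgroup G} (hM : IsCoatom M) {x : G}
    (hx : x ∈ sigmaCore M) (hx1 : x ≠ 1) (hxM : ¬ centralizer ({x} : Set G) ≤ M)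
    (hnil : Group.IsNilpotent (sigmaCore M)) : ¬ IsTISubset (fittingHallOf M : Set G) := by
  intro hTI
  rw [(Cfsg.Agent.Lib.Helper27BG16fhall.fittingHallOf_eq_sigmaCore_iff hG hM).mpr hnil] at hTI
  obtain ⟨c, hc, hcM⟩ := SetLike.not_le_iff_exists.mp hxM
  have hS1 : sigmaCore M ≠ ⊥ := by
    intro h0
    rw [h0, mem_bot] at hx
    exact hx1 hx
  have hN : normalizer (sigmaCore M : Set G) = M :=
    norm_eq hG hM hS1 (Cfsg.Agent.Lib.Helper30BG2.sigmaCore_le M)
      (Cfsg.Agent.Lib.Helper30BG2.le_normalizer_sigmaCore M)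
  apply hx1
  apply hTI c (by rw [hN]; exact hcM) x hx
  have h1 : c * x = x * c := by
    have := mem_centralizer_singleton_iff.mp hc
    exact this
  have h2 : c * x * c⁻¹ = x := by rw [h1]; group
  rw [h2]
  exact hx

end Cfsg.Agent.Lib.Helper27BG76notTI
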