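import Mathlib
import Cfsg.Agent.Lib.Helper24BG
import Cfsg.Agent.Lib.Helper30BG2
import Cfsg.Agent.Lib.Helper31BGS
import Cfsg.Agent.Lib.Helper37BG14kbasic
import Cfsg.Agent.Lib.Helper38BG13classify

/-! PROJECT 76, piece `reg`. -/

set_option autoImplicit false

namespace Cfsg.Agent.Lib.Helper27BG76reg

open Cfsg Subgroup
open Cfsg.Agent.Lib.Helper30Trans Cfsg.Agent.Lib.Helper24BG

variable {G : Type*} [Group G] [Finite G]

theorem reg (hG : IsMinSimpleOddOrder G) {M D : Subgroup G} (hM : IsCoatom M)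
    (hc : IsComplIn D (sigmaCore M) M) (hk : kappa M = ∅) (ht : tau2 M = ∅) :
    ∀ d ∈ D, d ≠ 1 → sigmaCore M ⊓ centralizer ({d} : Set G) = ⊥ := by
  intro d hd hd1
  by_contra hne
  have ho : orderOf d ≠ 1 := fun h => hd1 (orderOf_eq_one_iff.mp h)
  obtain ⟨t, htp, htd⟩ := Nat.exists_prime_and_dvd ho
  set d' : G := d ^ (orderOf d / t) with hd'
  have hod' : orderOf d' = t := orderOf_pow_orderOf_div (orderOf_pos d).ne' htd
  have hd'D : d' ∈ D := D.pow_mem hd _
  have hXD : zpowers d' ≤ D := zpowers_le.mpr hd'D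
  have hXc : Nat.card (zpowers d') = t := by rw [Nat.card_zpowers, hod']
  have htD : t ∣ Nat.card D := by
    rw [← hXc]
    exact card_dvd_of_le hXD
  have htσ : t ∉ sigma M := Cfsg.Agent.Lib.Helper31BGS.not_mem_sigma_of_dvd_compl hG hM hc htp htD
  have htM : t ∣ Nat.card M := htD.trans (card_dvd_of_le hc.1)
  have hne' : sigmaCore M ⊓ centralizer ((zpowers d' : Subgroup G) : Set G) ≠ ⊥ := by
    intro h
    apply hne
    rw [eq_bot_iff, ← h]
    apply inf_le_inf_left
    intro y hy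
    rw [mem_centralizer_iff]
    intro z hz
    obtain ⟨k, rfl⟩ := mem_zpowers_iff.mp hz
    have h1 : y * d = d * y := mem_centralizer_singleton_iff.mp hy
    have h2 : Commute y d := h1
    exact (((h2.pow_right _).zpow_right k).eq).symm
  have hκ : t ∉ kappa M := by rw [hk]; exact Set.notMem_empty t
  rcases Cfsg.Agent.Lib.Helper38BG13classify.mem_tau_cases hG hM htp htM with h | h | h | h
  · exact htσ h
  · exact hκ (Cfsg.Agent.Lib.Helper37BG14kbasic.mem_kappa_of hG (Or.inl h) (hXD.trans hc.1) hXc hne')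
  · rw [ht] at h
    exact h
  · exact hκ (Cfsg.Agent.Lib.Helper37BG14kbasic.mem_kappa_of hG (Or.inr h) (hXD.trans hc.1) hXc hne')

end Cfsg.Agent.Lib.Helper27BG76reg
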