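import Mathlib
import Cfsg.Agent.S0035
import Cfsg.Agent.S0042

/-! PROJECT 4064, piece `FR`. -/

set_option autoImplicit false

namespace Cfsg.Agent.Lib.Helper27TiFR

open Cfsg

variable {G : Type*} [Group G] [Finite G]

theorem solvable_of_complement {G : Type*} [Group G] {N H : Subgroup G} [N.Normal]
    (hc : Subgroup.IsComplement' N H)
    (hN : Group.IsSolvable N) (hH : Group.IsSolvable H) : Group.IsSolvable G := by
  have hsurj : Function.Surjective ((QuotientGroup.mk' N).comp H.subtype) := by
    intro x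
    obtain ⟨g, rfl⟩ := QuotientGroup.mk'_surjective N x
    obtain ⟨⟨n, h⟩, hnh⟩ := hc.2 g
    refine ⟨h, ?_⟩
    have h1 : (n : G) * (h : G) = g := hnh
    show (QuotientGroup.mk (h : G) : G ⧸ N) = QuotientGroup.mk g
    rw [QuotientGroup.eq, ← h1]
    have : (h : G)⁻¹ * ((n : G) * (h : G)) = (h : G)⁻¹ * (n : G) * ((h : G)⁻¹)⁻¹ := by group
    rw [this]
    exact ‹N.Normal›.conj_mem _ n.2 _
  have hq : Group.IsSolvable (G ⧸ N) := Group.isSolvable_of_surjective hsurj
  exact Group.isSolvable_of_ker_le_range N.subtype (QuotientGroup.mk' N) (by simp)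

theorem solv_of_frob (H : Subgroup G) (hH : Cfsg.IsFrobeniusComplement H)
    (hs : Group.IsSolvable H) : Group.IsSolvable G := by
  obtain ⟨N, hN, hNn, hnil⟩ := Cfsg.Agent.S0042.result H hH
  obtain ⟨N', hN', -, hc⟩ := Cfsg.Agent.S0035.result H hH
  have : N' = N := SetLike.coe_injective (hN'.trans hN.symm)
  subst this
  exact solvable_of_complement hc inferInstance hs

end Cfsg.Agent.Lib.Helper27TiFR
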