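import Mathlib
import Cfsg.Agent.S0183

/-! PROJECT 4064, piece `SZ`. -/

set_option autoImplicit false

namespace Cfsg.Agent.Lib.Helper27TiSZ

open Cfsg

variable {G : Type*} [Group G] [Finite G]

theorem solvable_of_complement {G : Type*} [Group G] {N H : Subgroup G} [N.Normal]
    (hc : Subgroup.IsComplement' N H)
    (hN : Group.IsSolvable N) (hH : Group.IsSolvable H) : Group.IsSolvable G := by
  have hsurj : Function.Surjective ((QuotientGroup.mk' N).comp H.subtype) := by
    intro x
    obtain ⟨g, rfl⟩ := QuotientGroup.mk'_surjective N x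
    obtain ⟨⟨n, h⟩, hnh⟩ := hc.2 g
    refine ⟨h, ?_⟩
    have h1 : (n : G) * (h : G) = g := hnh
    show (QuotientGroup.mk (h : G) : G ⧸ N) = QuotientGroup.mk g
    rw [QuotientGroup.eq, ← h1]
    have : (h : G)⁻¹ * ((n : G) * (h : G)) = (h : G)⁻¹ * (n : G) * ((h : G)⁻¹)⁻¹ := by group
    rw [this]
    exact ‹N.Normal›.conj_mem _ n.2 _
  have hq : Group.IsSolvable (G ⧸ N) := Group.isSolvable_of_surjective hsurj
  exact Group.isSolvable_of_ker_le_range N.subtype (QuotientGroup.mk' N) (by simp)

theorem cn_subgroup (hCN : Cfsg.IsCNGroup G) (K : Subgroup G) : Cfsg.IsCNGroup K := by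
  intro g hg
  have hg' : (g : G) ≠ 1 := fun h => hg (Subtype.ext h)
  haveI := hCN (g : G) hg'
  let f : ↥(Subgroup.centralizer ({g} : Set K)) →* ↥(Subgroup.centralizer ({(g : G)} : Set G)) :=
    { toFun := fun x => ⟨((x : K) : G), by
        rw [Subgroup.mem_centralizer_singleton_iff]
        have := Subgroup.mem_centralizer_singleton_iff.mp x.2
        exact congrArg Subtype.val this⟩
      map_one' := rfl
      map_mul' := fun _ _ => rfl }
  have hf : Function.Injective f := by
    intro x y hxy
    apply Subtype.ext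
    apply Subtype.ext
    exact congrArg (fun z : ↥(Subgroup.centralizer ({(g : G)} : Set G)) => (z : G)) hxy
  exact Group.nilpotent_of_mulEquiv (MonoidHom.ofInjective hf).symm

theorem solv_of_normal_sylow2 (hCN : Cfsg.IsCNGroup G) (P : Sylow 2 G)
    (hP : (P : Subgroup G).Normal) : Group.IsSolvable G := by
  haveI := hP
  have hidx : ¬ 2 ∣ (P : Subgroup G).index := P.not_dvd_index
  have hcop : Nat.Coprime (Nat.card (P : Subgroup G)) (P : Subgroup G).index := by
    obtain ⟨k, hk⟩ := IsPGroup.iff_card.mp P.2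
    rw [hk]
    exact Nat.Coprime.pow_left k ((Nat.Prime.coprime_iff_not_dvd Nat.prime_two).mpr hidx)
  obtain ⟨K, hK⟩ := Subgroup.exists_right_complement'_of_coprime hcop
  have hKc : Nat.card K = (P : Subgroup G).index := hK.symm.index_eq_card.symm
  have hKodd : Odd (Nat.card K) := by
    rw [hKc, ← Nat.not_even_iff_odd, even_iff_two_dvd]
    exact hidx
  have hKs : Group.IsSolvable K := Cfsg.Agent.S0183.result hKodd (cn_subgroup hCN K)
  have hPn : Group.IsNilpotent (P : Subgroup G) := P.2.isNilpotent
  exact solvable_of_complement hK inferInstance hKs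

end Cfsg.Agent.Lib.Helper27TiSZ
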