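import Cfsg.Agent.Lib.Helper32Feit5

set_option autoImplicit false
set_option linter.unusedSectionVars false
open Cfsg

namespace Cfsg.Agent.Lib.Helper32Feit6

open Cfsg.Agent.Lib.Helper32SeqInd Cfsg.Agent.Lib.Helper32FrobGrp
open Cfsg.Agent.Lib.Helper32Feit Cfsg.Agent.Lib.Helper32EqDeg Cfsg.Agent.Lib.Helper32Feit2
open Cfsg.Agent.Lib.Helper32Feit3 Cfsg.Agent.Lib.Helper32Nil Cfsg.Agent.Lib.Helper32Nil2
open Cfsg.Agent.Lib.Helper32Feit4 Cfsg.Agent.Lib.Helper32Feit5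

variable {L : Type*} [Group L] [Fintype L] {G : Type*} [Group G] [Fintype G]
variable {τ : (L → ℂ) → (G → ℂ)}

/-- Feit's coherence theorem for a non-abelian nilpotent Frobenius kernel. -/
theorem feit_nonab (K : Subgroup L) [hK : K.Normal] (hnil : Group.IsNilpotent K) (hS : FSys K τ)
    (hK1 : K ≠ ⊥) :
    IsCoherent (inducedIrrAbove K ⊥) {1}ᶜ τ ∨
      ∃ p : ℕ, p.Prime ∧ (∃ m : ℕ, Nat.card K = p ^ m) ∧
        (∃ i : ℕ, (⁅K, K⁆ : Subgroup L).relIndex K = p ^ i) ∧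
        (⁅K, K⁆ : Subgroup L).relIndex K ≤ 4 * K.index ^ 2 + 1 := by
  have hnil' : Group.IsNilpotent (↥K ⧸ (⊥ : Subgroup L).subgroupOf K) := inferInstance
  have hH₁K : ⁅K, K⁆ < K := by
    have := Cfsg.Agent.S1520.comm_lt ⊥ K K (bot_lt_iff_ne_bot.2 hK1) le_rfl hnil'
    rwa [sup_bot_eq] at this
  have hne1 : (⁅K, K⁆ : Subgroup L).relIndex K ≠ 1 := fun h =>
    absurd (Subgroup.relIndex_eq_one.1 h) (not_le_of_gt hH₁K)
  by_cases hbig : 4 * K.index ^ 2 + 1 < (⁅K, K⁆ : Subgroup L).relIndex K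
  · exact Or.inl (large K hnil hS hK1 hbig)
  by_cases hpp : ∃ p i : ℕ, p.Prime ∧ (⁅K, K⁆ : Subgroup L).relIndex K = p ^ i
  · right
    obtain ⟨p, i, hp, hi⟩ := hpp
    obtain ⟨m, hm⟩ := relIndex_pow K ⊥ bot_le hnil' p i hp (by rw [sup_bot_eq]; exact hi)
    rw [Subgroup.relIndex_bot_left] at hm
    exact ⟨p, hp, ⟨m, hm⟩, ⟨i, hi⟩, not_lt.1 hbig⟩
  · left
    obtain ⟨r, hr, hrd⟩ := Nat.exists_prime_and_dvd hne1
    have : ∃ p : ℕ, p.Prime ∧ p ∣ (⁅K, K⁆ : Subgroup L).relIndex K ∧ p ≠ r := by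
      by_contra hc
      push Not at hc
      apply hpp
      exact ⟨r, _, hr, Nat.eq_prime_pow_of_unique_prime_dvd Subgroup.index_ne_zero_of_finite
        (fun {d} hd hdd => hc d hd hdd)⟩
    obtain ⟨p, hp, hpd, hne⟩ := this
    exact nonpp K hnil hS p r hp hr hne hpd hrd

end Cfsg.Agent.Lib.Helper32Feit6
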