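import Cfsg.Agent.Lib.Helper61Feit12
import Cfsg.Agent.Lib.Helper61Feit6
import Cfsg.Agent.S0878
import Cfsg.Agent.S0884
import Cfsg.Agent.S1534
import Mathlib

set_option autoImplicit false

/-! Feit's theorem on Zassenhaus groups with two point stabilisers of odd order: simple case. -/

namespace Cfsg.Agent.Lib.Helper61Feit13

open Cfsg Cfsg.Agent.Lib.Helper61Feit Cfsg.Agent.Lib.Helper61Feit2 Cfsg.Agent.Lib.Helper61Feit3

section Basic

variable {G : Type*} [Group G] [Finite G] {O : Type*} [Finite O] [MulAction G O] {h : ℕ}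

theorem decomp (D : TData G O h) {a b : O} (hab : a ≠ b) {H : Subgroup G} (K : KData G O a h H)
    {x : G} (hx : x • a = a) : ∃ u ∈ H, ∃ y ∈ stab2 G a b, x = u * y := by
  have hc : Subgroup.IsComplement' (H.subgroupOf (MulAction.stabilizer G a)) (E' G a b) := by
    apply Subgroup.isComplement'_of_card_mul_and_disjoint
    · rw [card_E', card_stab D hab,
        Nat.card_congr (Subgroup.subgroupOfEquivOfLe K.le).toEquiv, K.card]
    · rw [Subgroup.disjoint_def]
      intro y hy1 hy2
      by_contra hne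
      have h1 := K.fix y (Subgroup.mem_subgroupOf.1 hy1) (fun h => hne (Subtype.ext h)) b
        (mem_E'.1 hy2)
      exact hab h1.symm
  obtain ⟨⟨u, y⟩, huy, -⟩ := hc.existsUnique (⟨x, hx⟩ : MulAction.stabilizer G a)
  refine ⟨u, Subgroup.mem_subgroupOf.1 u.2, y, Subgroup.mem_subgroupOf.1 y.2, ?_⟩
  exact (congrArg Subtype.val huy).symm

theorem cent_le (D : TData G O h) {a b : O} (hab : a ≠ b)
    (he : 2 ≤ Nat.card (stab2 G a b)) (hh : 2 ≤ h) {H : Subgroup G} (K : KData G O a h H) :
    ∀ k ∈ H, k ≠ 1 → Subgroup.centralizer ({k} : Set G) ≤ H := by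
  intro k hk hk1 x hx
  rw [Subgroup.mem_centralizer_singleton_iff] at hx
  have hka : k • a = a := K.le hk
  have hxa : x • a = a := by
    apply K.fix k hk hk1
    rw [← mul_smul, ← hx, mul_smul, hka]
  rw [K.mem_iff D hab he hh]
  refine ⟨hxa, ?_⟩
  by_cases hx1 : x = 1
  · exact Or.inl hx1
  · right
    intro c hc
    by_contra hca
    apply hx1
    have h1 : k • c ≠ c := fun h => hca (K.fix k hk hk1 c h)
    have h2 : k • c ≠ a := by
      intro h
      apply hca
      rw [← hka] at h
      exact MulAction.injective k h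
    have h3 : x • (k • c) = k • c := by
      rw [← mul_smul, hx, mul_smul, hc]
    exact D.three_point x a c (k • c) (Ne.symm hca) (Ne.symm h1) (Ne.symm h2) hxa hc h3

end Basic

section Simple

open Cfsg.Agent.Lib.Helper61Feit8

variable {G : Type*} [Group G] [Fintype G] {O : Type*} [Fintype O] [MulAction G O] {h : ℕ}
  (hZ : Cfsg.IsZassenhausGroup G O) [IsSimpleGroup G] (hh : Nat.card O = h + 1)
  {a b : O} (hab : a ≠ b) (hodd : Odd (Nat.card (stab2 G a b)))

include hZ hh hab hodd

theorem hX_wrap {H : Subgroup G} (K : KData G O a h H) (B : Subgroup G)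
    (hB : B = MulAction.stabilizer G a) :
    ∀ μ : B → ℂ, IsIrrCharacter B μ → μ 1 = 1 → (∀ u : B, (u : G) ∈ H → μ u = 1) →
      μ ≠ (fun _ => 1) →
      IsIrrCharacter G (indFun B μ) ∧ ∀ u ∈ H, u ≠ 1 → indFun B μ u = 1 := by
  subst hB
  intro μ h1 h2 h3 h4
  exact ⟨Cfsg.Agent.Lib.Helper61Feit6.irr_ind hZ hh hab hodd ⟨μ, h1⟩ h2 K h3 h4,
    fun u hu hu1 => Cfsg.Agent.Lib.Helper61Feit6.ind_value_kernel hZ hh hab hodd ⟨μ, h1⟩ h2 K h3 hu hu1⟩

theorem not_coherent {H : Subgroup G} (K : KData G O a h H)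
    [Fintype ↥(Subgroup.normalizer (H : Set G))]
    (h2e : 2 * Nat.card (stab2 G a b) < h - 1) :
    ¬ IsCoherent (relS H) {1}ᶜ (fun α => indFun (Subgroup.normalizer (H : Set G)) α) := by
  rintro ⟨-, star, hstar, hext⟩
  have D := tdata_of_zass hZ hh
  have he3 := three_le_e hZ hh hab hodd
  have h4 := four_le_h hZ hh hab hodd
  have hhF : Fintype.card O = h + 1 := by rw [← Nat.card_eq_fintype_card, hh]
  obtain ⟨hTI0, hN⟩ := Cfsg.Agent.S0878.result hZ a H K.le (by rw [K.card, hhF]) K.fix
  have hC := cent_le D hab (by omega) (by omega) K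
  have hcN : Nat.card ↥(Subgroup.normalizer (H : Set G)) = h * Nat.card (stab2 G a b) := by
    rw [hN, card_stab D hab]
  have hidx : (KN H).index = Nat.card (stab2 G a b) := by
    have h1 := (KN H).card_mul_index
    rw [Cfsg.Agent.Lib.Helper61Feit9.card_KN, K.card, hcN] at h1
    exact Nat.eq_of_mul_eq_mul_left (by omega) h1
  have hlt : H < Subgroup.normalizer (H : Set G) := by
    refine lt_of_le_of_ne Subgroup.le_normalizer ?_
    intro heq
    have h1 : Nat.card ↥(Subgroup.normalizer (H : Set G)) = Nat.card H := by rw [← heq]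
    rw [hcN, K.card] at h1
    nlinarith
  have hcomm := comm hZ hh hab hodd
  have hab' : ∀ x y : ↥(Subgroup.normalizer (H : Set G)), x * y * x⁻¹ * y⁻¹ ∈ KN H := by
    have hdec : ∀ x : ↥(Subgroup.normalizer (H : Set G)),
        ∃ y : ↥(Subgroup.normalizer (H : Set G)), (y : G) ∈ stab2 G a b ∧
          QuotientGroup.mk' (KN H) x = QuotientGroup.mk' (KN H) y := by
      intro x
      have hx : (x : G) • a = a := by
        have h0 : ∀ g : G, g ∈ Subgroup.normalizer (H : Set G) → g • a = a := by
          intro g hg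
          rw [hN] at hg
          exact hg
        exact h0 x x.2
      obtain ⟨u, hu, y, hy, hxy⟩ := decomp D hab K hx
      have hyN : y ∈ Subgroup.normalizer (H : Set G) := by
        rw [hN]; exact (mem_stab2.1 hy).1
      refine ⟨⟨y, hyN⟩, hy, ?_⟩
      have h1 : x = (⟨u, Subgroup.le_normalizer hu⟩ : ↥(Subgroup.normalizer (H : Set G)))
          * ⟨y, hyN⟩ := Subtype.ext hxy
      rw [h1, map_mul]
      have h2 : QuotientGroup.mk' (KN H)
          (⟨u, Subgroup.le_normalizer hu⟩ : ↥(Subgroup.normalizer (H : Set G))) = 1 :=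
        (QuotientGroup.eq_one_iff _).2 (Subgroup.mem_subgroupOf.2 hu)
      rw [h2, one_mul]
    intro x y
    obtain ⟨x', hx', ex⟩ := hdec x
    obtain ⟨y', hy', ey⟩ := hdec y
    rw [← QuotientGroup.eq_one_iff]
    have h1 : ((x * y * x⁻¹ * y⁻¹ : ↥(Subgroup.normalizer (H : Set G))) :
        ↥(Subgroup.normalizer (H : Set G)) ⧸ KN H)
        = QuotientGroup.mk' (KN H) (x * y * x⁻¹ * y⁻¹) := rfl
    rw [h1, map_mul, map_mul, map_mul, map_inv, map_inv, ex, ey, ← map_inv, ← map_inv, ← map_mul,
      ← map_mul, ← map_mul]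
    have h2 : x' * y' * x'⁻¹ * y'⁻¹ = 1 := by
      have h3 : x' * y' = y' * x' := Subtype.ext (hcomm x' hx' y' hy')
      rw [h3]; group
    rw [h2, map_one]
  obtain ⟨H', rfl⟩ : ∃ H', h = H' + 1 := ⟨h - 1, by omega⟩
  refine Cfsg.Agent.Lib.Helper61Feit12.main H hC hab' (hX_wrap hZ hh hab hodd K _ hN)
    (fun g hg => hTI0 g (by rw [← hN]; exact hg)) hlt
    (K.nilpotent D hab (by omega) (by omega)) star hstar hext H' (Nat.card (stab2 G a b)) K.card hidx
    (by rw [card_G D hab]) ?_ (by omega) (by omega)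
  exact Cfsg.Agent.S0884.result hZ hab (H' + 1) _ hhF rfl hodd h2e H K.le (by rw [K.card, hhF]) K.fix

theorem simple_case {H : Subgroup G} (K : KData G O a h H) :
    h - 1 ≤ 2 * Nat.card (stab2 G a b) ∨
      (IsPGroup 2 H ∧ (∃ u v : H, u * v ≠ v * u) ∧
        (commutator H).index ≤ 4 * Nat.card (stab2 G a b) ^ 2 + 1) := by
  classical
  by_cases h2e : h - 1 ≤ 2 * Nat.card (stab2 G a b)
  · exact Or.inl h2e
  right
  rw [not_le] at h2e
  haveI : Fintype ↥(Subgroup.normalizer (H : Set G)) := Fintype.ofFinite _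
  have hnc := not_coherent hZ hh hab hodd K h2e
  have D := tdata_of_zass hZ hh
  have he3 := three_le_e hZ hh hab hodd
  have h4 := four_le_h hZ hh hab hodd
  have hhF : Fintype.card O = h + 1 := by rw [← Nat.card_eq_fintype_card, hh]
  obtain ⟨hTI0, hN⟩ := Cfsg.Agent.S0878.result hZ a H K.le (by rw [K.card, hhF]) K.fix
  have hC := cent_le D hab (by omega) (by omega) K
  have hcN : Nat.card ↥(Subgroup.normalizer (H : Set G)) = h * Nat.card (stab2 G a b) := by
    rw [hN, card_stab D hab]
  have hidx : (KN H).index = Nat.card (stab2 G a b) := by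
    have h1 := (KN H).card_mul_index
    rw [Cfsg.Agent.Lib.Helper61Feit9.card_KN, K.card, hcN] at h1
    exact Nat.eq_of_mul_eq_mul_left (by omega) h1
  have hlt : H < Subgroup.normalizer (H : Set G) := by
    refine lt_of_le_of_ne Subgroup.le_normalizer ?_
    intro heq
    have h1 : Nat.card ↥(Subgroup.normalizer (H : Set G)) = Nat.card H := by rw [← heq]
    rw [hcN, K.card] at h1
    nlinarith
  have hTI : IsTISubset (H : Set G) := fun g hg => hTI0 g (by rw [← hN]; exact hg)
  have hK1 : H ≠ ⊥ := by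
    intro h0
    have := K.card
    rw [h0, Subgroup.card_bot] at this
    omega
  by_cases habel : ∀ x ∈ H, ∀ y ∈ H, x * y = y * x
  · exfalso
    rcases Cfsg.Agent.Lib.Helper32Feit2.tifn_abelian H hK1 hTI hlt hC habel with h1 | h1
    · have h2 := h1.2.1
      rw [K.card] at h2
      have h3 : (H.subgroupOf (Subgroup.normalizer (H : Set G))).index
          = Nat.card (stab2 G a b) := hidx
      omega
    · exact hnc h1
  · rcases Cfsg.Agent.S1534.result H hK1 (K.nilpotent D hab (by omega) (by omega)) hTI hlt hC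
      with h1 | h1 | h1
    · exfalso
      have h2 := h1.2.1
      rw [K.card] at h2
      have h3 : (H.subgroupOf (Subgroup.normalizer (H : Set G))).index
          = Nat.card (stab2 G a b) := hidx
      omega
    · refine ⟨IsPGroup.of_card h1.1, ?_, ?_⟩
      · push Not at habel
        obtain ⟨x, hx, y, hy, hxy⟩ := habel
        exact ⟨⟨x, hx⟩, ⟨y, hy⟩, fun h => hxy (congrArg Subtype.val h)⟩
      · have h2 := h1.2
        have h3 : (H.subgroupOf (Subgroup.normalizer (H : Set G))).index
            = Nat.card (stab2 G a b) := hidx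
        rw [h3] at h2
        have h5 : (⁅H, H⁆ : Subgroup G).subgroupOf H = commutator H := by
          rw [← Subgroup.map_subtype_commutator]
          exact Subgroup.comap_map_eq_self_of_injective H.subtype_injective _
        rw [h5] at h2
        omega
    · exact absurd h1 hnc

end Simple

end Cfsg.Agent.Lib.Helper61Feit13
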