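import Cfsg.Agent.Lib.Helper61Feit12
import Mathlib

/-!
PROJECT 61, PART C (characters of ZT-groups), vocabulary.

`ZT K Z q h` : `G` simple, `K` a T.I. non-abelian 2-subgroup of order `h` and exponent 4 with Frobenius normaliser
`N = N_G(K)` of index `h + 1`, `|N : K| = q - 1`, `N / K` abelian; `Z` = the set of `u ∈ K` with `u * u = 1`, of order `q`,
its non-identity elements are conjugate under `N`; every element of `G` is conjugate into `K` or has odd order;
the non-principal linear characters of `N / K` induce irreducibly to `G`, with value `1` on `K \ 1`.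
-/

set_option autoImplicit false

namespace Cfsg.Agent.Lib.Helper61ZTDefs

open Cfsg
open scoped ComplexConjugate Classical

variable {G : Type*} [Group G] [Fintype G]

structure ZT (K Z : Subgroup G) (q h : ℕ) : Prop where
  simple : IsSimpleGroup G
  hTI : ∀ g : G, g ∉ Subgroup.normalizer (K : Set G) → ∀ k ∈ K, g * k * g⁻¹ ∈ K → k = 1
  hC : ∀ k ∈ K, k ≠ 1 → Subgroup.centralizer ({k} : Set G) ≤ K
  hab : ∀ x y : ↥(Subgroup.normalizer (K : Set G)),
    x * y * x⁻¹ * y⁻¹ ∈ K.subgroupOf (Subgroup.normalizer (K : Set G))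
  hX : ∀ μ : ↥(Subgroup.normalizer (K : Set G)) → ℂ,
    IsIrrCharacter ↥(Subgroup.normalizer (K : Set G)) μ → μ 1 = 1 →
    (∀ u : ↥(Subgroup.normalizer (K : Set G)), (u : G) ∈ K → μ u = 1) → μ ≠ (fun _ => 1) →
    IsIrrCharacter G (indFun (Subgroup.normalizer (K : Set G)) μ) ∧
      ∀ u ∈ K, u ≠ 1 → indFun (Subgroup.normalizer (K : Set G)) μ u = 1
  hidx : (Subgroup.normalizer (K : Set G)).index = Nat.card K + 1
  hK : Nat.card K = h
  he : (K.subgroupOf (Subgroup.normalizer (K : Set G))).index = q - 1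
  hq : 4 ≤ q
  hq2 : ∃ n : ℕ, q = 2 ^ n
  part : ∀ g : G, (∃ x : G, x * g * x⁻¹ ∈ K) ∨ Odd (orderOf g)
  two : IsPGroup 2 K
  hZ : ∀ u : G, u ∈ Z ↔ u ∈ K ∧ u * u = 1
  cardZ : Nat.card Z = q
  sq : ∀ u ∈ K, u * u ∈ Z
  tr : ∀ z ∈ Z, ∀ z' ∈ Z, z ≠ 1 → z' ≠ 1 → ∃ n ∈ Subgroup.normalizer (K : Set G), n * z * n⁻¹ = z'
  na : ∃ u ∈ K, ∃ v ∈ K, u * v ≠ v * u

variable (K Z : Subgroup G)

/-- restriction of a function on `G` to the normaliser of `K` -/
def rs (χ : G → ℂ) : ↥(Subgroup.normalizer (K : Set G)) → ℂ := fun x => χ x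

/-- indicator of the identity, on the normaliser of `K` -/
noncomputable def d1 : ↥(Subgroup.normalizer (K : Set G)) → ℂ := fun x => if x = 1 then 1 else 0

/-- indicator of `Z`, on the normaliser of `K` -/
noncomputable def dZ : ↥(Subgroup.normalizer (K : Set G)) → ℂ := fun x => if (x : G) ∈ Z then 1 else 0

/-- indicator of `K`, on the normaliser of `K` -/
noncomputable def dK : ↥(Subgroup.normalizer (K : Set G)) → ℂ := fun x => if (x : G) ∈ K then 1 else 0

/-- conjugation action of a subgroup `E` on a subgroup `U` which it normalises -/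
noncomputable def conjAct {G : Type*} [Group G] (U E : Subgroup G)
    (hE : ∀ e ∈ E, ∀ u ∈ U, e * u * e⁻¹ ∈ U) : E →* MulAut U where
  toFun e :=
    { toFun := fun u => ⟨e * u * e⁻¹, hE e e.2 u u.2⟩
      invFun := fun u => ⟨e⁻¹ * u * e, by simpa using hE e⁻¹ (E.inv_mem e.2) u u.2⟩
      left_inv := fun u => Subtype.ext (by simp [mul_assoc])
      right_inv := fun u => Subtype.ext (by simp [mul_assoc])
      map_mul' := fun u v => Subtype.ext (by simp [mul_assoc]) }
  map_one' := by ext u; simp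
  map_mul' a b := by ext u; simp [mul_assoc]

@[simp] theorem conjAct_apply {G : Type*} [Group G] (U E : Subgroup G)
    (hE : ∀ e ∈ E, ∀ u ∈ U, e * u * e⁻¹ ∈ U) (e : E) (u : U) :
    ((conjAct U E hE e u : U) : G) = e * u * e⁻¹ := rfl

end Cfsg.Agent.Lib.Helper61ZTDefs
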