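import Mathlib
import Cfsg.Agent.Lib.Helper61ZTDefs
import Cfsg.Agent.Lib.Helper61HigDefs
import Cfsg.Agent.Lib.Helper61Feit13
import Cfsg.Prelude.Def_LieExceptional

/-!
PROJECT 61, PART C, piece `instH`: the kernel of a point stabiliser of a simple Zassenhaus group,
when it is a non-abelian 2-group, satisfies `HS` for the conjugation action of the two point stabiliser.
-/

set_option autoImplicit false

namespace Cfsg.Agent.Lib.Helper28ZTInstH

open Cfsg Cfsg.Agent.Lib.Helper61ZTDefs Cfsg.Agent.Lib.Helper61HigDefs Cfsg.Agent.Lib.Helper61Feit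

variable {G Ω : Type*} [Group G] [Finite G] [MulAction G Ω] [Finite Ω]

theorem card_omega (x y : Ω) (hxy : x ≠ y) (U : Subgroup G) (hUle : U ≤ MulAction.stabilizer G x)
    (hreg : ∀ y z : Ω, y ≠ x → z ≠ x → ∃! u : U, (u : G) • y = z) :
    Nat.card Ω = Nat.card U + 1 := by
  classical
  have hmem : ∀ u : U, (u : G) • y ≠ x := by
    intro u hu
    have h1 : (u : G) • x = x := hUle u.2
    have : (u : G) • y = (u : G) • x := by rw [hu, h1]
    exact hxy (smul_left_cancel _ this).symm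
  have hbij : Function.Bijective (fun u : U => (⟨(u : G) • y, hmem u⟩ : {z : Ω // z ≠ x})) := by
    constructor
    · intro u v huv
      have h1 : (u : G) • y = (v : G) • y := congrArg Subtype.val huv
      obtain ⟨w, _, hw⟩ := hreg y ((v : G) • y) hxy.symm (hmem v)
      rw [hw u h1, hw v rfl]
    · rintro ⟨z, hz⟩
      obtain ⟨w, hw, _⟩ := hreg y z hxy.symm hz
      exact ⟨w, Subtype.ext hw⟩
  have h1 : Nat.card U = Nat.card {z : Ω // z ≠ x} := Nat.card_congr (Equiv.ofBijective _ hbij)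
  have := Fintype.ofFinite Ω
  have h2 : Fintype.card {z : Ω // z ≠ x} = Fintype.card Ω - 1 := by
    rw [Fintype.card_subtype_compl, Fintype.card_subtype_eq]
  have h3 : 0 < Fintype.card Ω := Fintype.card_pos_iff.2 ⟨x⟩
  rw [h1, Nat.card_eq_fintype_card, Nat.card_eq_fintype_card, h2]
  omega

theorem kdata (x : Ω) (U : Subgroup G) (hUle : U ≤ MulAction.stabilizer G x)
    (hreg : ∀ y z : Ω, y ≠ x → z ≠ x → ∃! u : U, (u : G) • y = z) :
    Cfsg.Agent.Lib.Helper61Feit2.KData G Ω x (Nat.card U) U := by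
  refine ⟨hUle, rfl, ?_⟩
  intro u hu hu1 c hc
  by_contra hcx
  obtain ⟨w, _, hw⟩ := hreg c c hcx hcx
  have h1 := hw ⟨u, hu⟩ hc
  have h2 := hw 1 (by simp)
  apply hu1
  have : (⟨u, hu⟩ : U) = 1 := by rw [h1, h2]
  exact congrArg Subtype.val this

theorem instH (hZ : Cfsg.IsZassenhausGroup G Ω) [IsSimpleGroup G]
    (x y : Ω) (hxy : x ≠ y) (U : Subgroup G) (hUle : U ≤ MulAction.stabilizer G x)
    (hUn : (U.subgroupOf (MulAction.stabilizer G x)).Normal)
    (hU2 : IsPGroup 2 U) (hUna : ∃ u v : U, u * v ≠ v * u)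
    (hreg : ∀ y z : Ω, y ≠ x → z ≠ x → ∃! u : U, (u : G) • y = z) :
    Cfsg.Agent.Lib.Helper61Feit2.KData G Ω x (Nat.card U) U ∧ Nat.card Ω = Nat.card U + 1 ∧
      Odd (Nat.card (stab2 G x y)) ∧ IsCyclic (stab2 G x y) ∧
      ∃ hE : ∀ e ∈ stab2 G x y, ∀ u ∈ U, e * u * e⁻¹ ∈ U, HS (conjAct U (stab2 G x y) hE) := by
  classical
  have K := kdata x U hUle hreg
  have hh := card_omega x y hxy U hUle hreg
  have D := tdata_of_zass hZ hh
  have he : 2 ≤ Nat.card (stab2 G x y) := two_le_card_stab2 hZ hh hxy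
  obtain ⟨k, hk⟩ := hU2.exists_card_eq
  have hh2 : 2 ≤ Nat.card U := by
    obtain ⟨u, v, huv⟩ := hUna
    have : Nontrivial U := ⟨⟨u * v, v * u, huv⟩⟩
    exact Finite.one_lt_card
  have hk0 : k ≠ 0 := by
    rintro rfl
    rw [hk] at hh2
    omega
  have hev : Even (Nat.card U) := by
    rw [hk]
    exact (Nat.even_pow.2 ⟨even_two, hk0⟩)
  have hdvd := Cfsg.Agent.Lib.Helper61Feit3.dvd_sub_one D hxy he hh2
  have hodd : Odd (Nat.card (stab2 G x y)) := by
    have h1 : Odd (Nat.card U - 1) := by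
      obtain ⟨r, hr⟩ := hev
      exact ⟨r - 1, by omega⟩
    exact Odd.of_dvd_nat h1 hdvd
  have hcomm := Cfsg.Agent.Lib.Helper61Feit3.comm hZ hh hxy hodd
  have hcyc : IsCyclic (stab2 G x y) := by
    have hz : IsZGroup (stab2 G x y) := Cfsg.Agent.Lib.Helper61Feit3.isZGroup_stab2 D hxy he hh2 hodd
    have hc : ∀ a b : stab2 G x y, a * b = b * a := fun a b =>
      Subtype.ext (hcomm a a.2 b b.2)
    letI : CommGroup (stab2 G x y) := { (inferInstance : Group (stab2 G x y)) with mul_comm := hc }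
    infer_instance
  have hE : ∀ e ∈ stab2 G x y, ∀ u ∈ U, e * u * e⁻¹ ∈ U := by
    intro e hee u hu
    exact K.conj_mem D hxy he hh2 (mem_stab2.1 hee).1 hu
  refine ⟨K, hh, hodd, hcyc, hE, ?_⟩
  -- the set of involutions
  have hcardI : Nat.card {s : U // s ≠ 1 ∧ s * s = 1} = Nat.card (stab2 G x y) := by
    rw [← Cfsg.Agent.Lib.Helper61Feit5.card_invol_fix hZ hh hxy hodd hev x]
    refine Nat.card_congr
      { toFun := fun s => ⟨(s.1 : G), ?_, hUle s.1.2⟩
        invFun := fun s => ⟨⟨s.1, Cfsg.Agent.Lib.Helper61Feit5.invol_mem_kernel hZ hh hxy hodd K s.2.1 s.2.2⟩, ?_, ?_⟩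
        left_inv := fun s => rfl
        right_inv := fun s => rfl }
    · rw [orderOf_eq_iff (by norm_num)]
      refine ⟨?_, ?_⟩
      · rw [pow_two]; exact congrArg Subtype.val s.2.2
      · intro m hm hm0
        have : m = 1 := by omega
        subst this
        rw [pow_one]
        intro h1
        exact s.2.1 (Subtype.ext h1)
    · intro h1
      exact Cfsg.Agent.Lib.Helper61Feit4.ne_one_of_order_two s.2.1 (congrArg Subtype.val h1)
    · exact Subtype.ext (Cfsg.Agent.Lib.Helper61Feit4.sq_of_order_two s.2.1)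
  -- freeness
  have hfree : ∀ (s : U), s ≠ 1 → ∀ a b : stab2 G x y,
      conjAct U (stab2 G x y) hE a s = conjAct U (stab2 G x y) hE b s → a = b := by
    intro s hs a b hab
    have h1 : (a : G) * s * (a : G)⁻¹ = (b : G) * s * (b : G)⁻¹ := congrArg Subtype.val hab
    have hs1 : (s : G) ≠ 1 := fun h => hs (Subtype.ext h)
    have h2 : (b : G)⁻¹ * a ∈ Subgroup.centralizer ({(s : G)} : Set G) := by
      rw [Subgroup.mem_centralizer_singleton_iff]
      calc (b : G)⁻¹ * a * s = (b : G)⁻¹ * ((a : G) * s * (a : G)⁻¹) * a := by group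
        _ = (b : G)⁻¹ * ((b : G) * s * (b : G)⁻¹) * a := by rw [h1]
        _ = s * ((b : G)⁻¹ * a) := by group
    have h3 : (b : G)⁻¹ * a ∈ U :=
      Cfsg.Agent.Lib.Helper61Feit13.cent_le D hxy he hh2 K s s.2 hs1 h2
    have h4 : (b : G)⁻¹ * a ∈ stab2 G x y := (stab2 G x y).mul_mem ((stab2 G x y).inv_mem b.2) a.2
    have h5 : (b : G)⁻¹ * a = 1 := by
      by_contra hne
      exact hxy (K.fix _ h3 hne y (mem_stab2.1 h4).2).symm
    apply Subtype.ext
    have : (a : G) = b := by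
      have := congrArg (fun t => (b : G) * t) h5
      simpa using this
    exact this
  have hpres : ∀ (s : U), (s ≠ 1 ∧ s * s = 1) → ∀ a : stab2 G x y,
      (conjAct U (stab2 G x y) hE a s ≠ 1 ∧
        conjAct U (stab2 G x y) hE a s * conjAct U (stab2 G x y) hE a s = 1) := by
    intro s hs a
    refine ⟨?_, ?_⟩
    · intro h1
      apply hs.1
      have := (conjAct U (stab2 G x y) hE a).injective (h1.trans (map_one _).symm)
      exact this
    · rw [← map_mul, hs.2, map_one]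
  refine ⟨inferInstance, hU2, hcyc, ?_, ?_⟩
  · intro s t hs1 hs2 ht1 ht2
    have hinj : Function.Injective (fun a : stab2 G x y =>
        (⟨conjAct U (stab2 G x y) hE a s, hpres s ⟨hs1, hs2⟩ a⟩ : {s : U // s ≠ 1 ∧ s * s = 1})) := by
      intro a b hab
      exact hfree s hs1 a b (congrArg Subtype.val hab)
    have hbij := (Nat.bijective_iff_injective_and_card _).2 ⟨hinj, hcardI.symm⟩
    obtain ⟨a, ha⟩ := hbij.2 ⟨t, ht1, ht2⟩
    refine ⟨a, congrArg Subtype.val ha, ?_⟩
    intro b hb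
    exact hfree s hs1 b a (hb.trans (congrArg Subtype.val ha).symm)
  · have h3 := Cfsg.Agent.Lib.Helper61Feit3.three_le_e hZ hh hxy hodd
    rw [← hcardI] at h3
    have : Nontrivial {s : U // s ≠ 1 ∧ s * s = 1} := by
      apply Finite.one_lt_card_iff_nontrivial.1
      omega
    obtain ⟨s, t, hst⟩ := this
    exact ⟨s.1, t.1, fun h => hst (Subtype.ext h), s.2.1, s.2.2, t.2.1, t.2.2⟩

end Cfsg.Agent.Lib.Helper28ZTInstH
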