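import Mathlib
import Cfsg.Agent.Lib.Helper28ZTInstH
import Cfsg.Agent.Lib.Helper3HigBasic
import Cfsg.Prelude.Def_LieRecognition

/-!
PROJECT 61, PART C: preparation of row S1147.
`suzuki_of_hs`: a non-abelian group with `HS` is a Suzuki 2-group.
-/

set_option autoImplicit false

namespace Cfsg.Agent.Lib.Helper28ZTRow

open Cfsg Cfsg.Agent.Lib.Helper61ZTDefs Cfsg.Agent.Lib.Helper61HigDefs Cfsg.Agent.Lib.Helper61Feit

theorem suzuki_of_hs {P A : Type*} [Group P] [Group A] {f : A →* MulAut P} (h : HS f)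
    (hna : ∃ x y : P, x * y ≠ y * x) : Cfsg.IsSuzukiTwoGroup P := by
  refine ⟨h.fin, h.two, hna, h.many, f.range, ?_, ?_⟩
  · have := h.cyc
    exact isCyclic_of_surjective f.rangeRestrict f.rangeRestrict_surjective
  · intro x y hx1 hx2 hy1 hy2
    obtain ⟨a, ha, hu⟩ := h.reg x y hx1 hx2 hy1 hy2
    refine ⟨⟨f a, a, rfl⟩, ha, ?_⟩
    rintro ⟨_, b, rfl⟩ hb
    have := hu b hb
    subst this
    rfl

/-- the order of the centre, given the conclusion of S1137 -/
theorem card_center {P A : Type*} [Group P] [Group A] {f : A →* MulAut P} (h : HS f)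
    (h1137 : (∀ x : P, (x ≠ 1 ∧ x * x = 1) ↔ (x ∈ Subgroup.center P ∧ x ≠ 1)) ∧
      ∀ z ∈ Subgroup.center P, z * z = 1) :
    Nat.card (Subgroup.center P) = Nat.card A + 1 := by
  rw [← Cfsg.Agent.Lib.Helper3HigBasic.card_invol h]
  refine Nat.card_congr (Equiv.subtypeEquivRight ?_)
  intro x
  constructor
  · intro hx
    exact h1137.2 x hx
  · intro hx
    by_cases hx1 : x = 1
    · rw [hx1]; exact Subgroup.one_mem _
    · exact ((h1137.1 x).1 ⟨hx1, hx⟩).1

/-- conversion of the hypotheses of S1147 to those of the pieces -/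
theorem normal_of {G Ω : Type*} [Group G] [MulAction G Ω] {a : Ω} (U : Subgroup G)
    (hUn : ∀ h ∈ MulAction.stabilizer G a, ∀ u ∈ U, h * u * h⁻¹ ∈ U) :
    (U.subgroupOf (MulAction.stabilizer G a)).Normal := by
  constructor
  intro n hn g
  rw [Subgroup.mem_subgroupOf] at hn ⊢
  exact hUn g g.2 n hn

theorem na_of {G : Type*} [Group G] (U : Subgroup G) (hUna : ∃ u ∈ U, ∃ v ∈ U, u * v ≠ v * u) :
    ∃ u v : U, u * v ≠ v * u := by
  obtain ⟨u, hu, v, hv, huv⟩ := hUna
  exact ⟨⟨u, hu⟩, ⟨v, hv⟩, fun h => huv (congrArg Subtype.val h)⟩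

end Cfsg.Agent.Lib.Helper28ZTRow
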