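import Mathlib
import Cfsg.Agent.Lib.Helper71ZaDefs

set_option autoImplicit false

namespace Cfsg.Agent.Lib.Helper76ZaTR

open Cfsg.Agent.Lib.Helper71ZaDefs Subgroup

/-! ## TR : transfer -/
theorem pow_index_mem_commutator {G : Type*} [Group G] [Finite G] (hperf : commutator G = ⊤)
    (P : Subgroup G) (g : G) (hg : g ∈ center G) : g ^ P.index ∈ ⁅P, P⁆ := by
  have key : ∀ (k : ℕ) (g₀ : G), g₀⁻¹ * g ^ k * g₀ ∈ P → g₀⁻¹ * g ^ k * g₀ = g ^ k := by
    intro k g₀ _
    have hk : g ^ k ∈ center G := Subgroup.pow_mem _ hg k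
    rw [mul_assoc, (Subgroup.mem_center_iff.mp hk g₀).symm, inv_mul_cancel_left]
  have h1 := MonoidHom.transfer_eq_pow (Abelianization.of : P →* Abelianization P) g key
  have h2 : MonoidHom.transfer (Abelianization.of : P →* Abelianization P) g = 1 := by
    have : g ∈ commutator G := by rw [hperf]; exact Subgroup.mem_top g
    exact Abelianization.commutator_subset_ker _ this
  rw [h2] at h1
  have h3 : (⟨g ^ P.index, MonoidHom.transfer_eq_pow_aux g key⟩ : P) ∈ commutator P := by
    rw [← Abelianization.ker_of]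
    exact h1.symm
  rw [← Subgroup.map_subtype_commutator]
  exact ⟨_, h3, rfl⟩

theorem hom_eq_one_of_perfect {G S : Type*} [Group G] [Group S] (hperf : commutator G = ⊤)
    (hS : Group.IsSolvable S) (f : G →* S) (g : G) : f g = 1 := by
  have hd : ∀ n, derivedSeries G n = ⊤ := by
    intro n
    induction n with
    | zero => rfl
    | succ n ih =>
      rw [derivedSeries_succ, ih]
      exact hperf
  obtain ⟨n, hn⟩ := hS.solvable
  have := map_derivedSeries_le_derivedSeries f n
  rw [hd n, hn] at this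
  exact (Subgroup.mem_bot).mp (this ⟨g, Subgroup.mem_top g, rfl⟩)

end Cfsg.Agent.Lib.Helper76ZaTR
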