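import Mathlib
import Cfsg.Agent.Lib.Helper71ZaDefs
import Cfsg.Agent.Lib.Helper76ZaTR
import Cfsg.Agent.Lib.Helper7SL
import Cfsg.Agent.Lib.Helper6DkMin2
import Cfsg.Agent.S0253

set_option autoImplicit false
set_option linter.unusedSectionVars false

/-! Zassenhaus project, piece G8: a perfect double cover of `A₅` is `SL(2,5)`. -/

namespace Cfsg.Agent.Lib.Helper28ZaG8

open Subgroup
open scoped commutatorElement

theorem eq_of_ne_one {G A : Type*} [Group G] [Group A] (f : G →* A) (hk : Nat.card f.ker = 2)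
    {x y : G} (hx : x ∈ f.ker) (hy : y ∈ f.ker) (hx1 : x ≠ 1) (hy1 : y ≠ 1) : x = y := by
  obtain ⟨w, -, huniq⟩ := (Nat.card_eq_two_iff' (1 : f.ker)).mp hk
  have h1 : (⟨x, hx⟩ : f.ker) = w := huniq _ (fun h => hx1 (congrArg Subtype.val h))
  have h2 : (⟨y, hy⟩ : f.ker) = w := huniq _ (fun h => hy1 (congrArg Subtype.val h))
  exact congrArg Subtype.val (h1.trans h2.symm)

/-- a normal subgroup of order `2` is central -/
theorem ker_le_center_of_card_two {G A : Type*} [Group G] [Group A] (f : G →* A)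
    (hk : Nat.card f.ker = 2) : f.ker ≤ center G := by
  intro k hk1
  rw [mem_center_iff]
  intro g
  by_cases hne : k = 1
  · rw [hne]; simp
  · have hc : g * k * g⁻¹ ∈ f.ker := f.normal_ker.conj_mem k hk1 g
    have h3 : g * k * g⁻¹ = k := eq_of_ne_one f hk hc hk1 (by simpa using hne) hne
    calc g * k = (g * k * g⁻¹) * g := by group
      _ = k * g := by rw [h3]

theorem mul_self_of_mem_ker {G A : Type*} [Group G] [Group A] (f : G →* A)
    (hk : Nat.card f.ker = 2) {k : G} (hk1 : k ∈ f.ker) : k * k = 1 := by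
  have h1 : (⟨k, hk1⟩ : f.ker) ^ 2 = 1 := hk ▸ pow_card_eq_one'
  have h3 := congrArg Subtype.val h1
  simpa [pow_two] using h3

theorem card_ker_le_two {P A : Type*} [Group P] [Finite P] [Group A] (hperf : commutator P = ⊤)
    (φ : P →* A) (hφ : Function.Surjective φ) (hc : φ.ker ≤ center P)
    (h2 : ∀ z ∈ φ.ker, z * z = 1)
    (u v : A) (huv : u * v = v * u) (hodd : Odd (closure {u, v}).index) :
    Nat.card φ.ker ≤ 2 := by
  obtain ⟨a, rfl⟩ := hφ u
  obtain ⟨b, rfl⟩ := hφ v
  obtain ⟨c, hcdef⟩ : ∃ c : P, c = ⁅a, b⁆ := ⟨_, rfl⟩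
  have hcker : c ∈ φ.ker := by
    rw [MonoidHom.mem_ker, hcdef, map_commutatorElement, commutatorElement_eq_one_iff_mul_comm]
    exact huv
  obtain ⟨R, hR⟩ : ∃ R : Subgroup P, R = closure ({a, b} ∪ (φ.ker : Set P)) := ⟨_, rfl⟩
  have hRker : φ.ker ≤ R := fun x hx => hR ▸ subset_closure (Or.inr hx)
  have hRmap : R.map φ = closure {φ a, φ b} := by
    rw [hR, MonoidHom.map_closure, Set.image_union, Set.image_pair]
    apply le_antisymm
    · rw [closure_le]
      rintro x (hx | ⟨k, hk, rfl⟩)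
      · exact subset_closure hx
      · rw [MonoidHom.mem_ker.mp hk]; exact one_mem _
    · exact closure_mono Set.subset_union_left
  have hRidx : R.index = (closure {φ a, φ b}).index := by
    rw [← hRmap, index_map_eq _ hφ hRker]
  have hN : (zpowers c).Normal := by
    constructor
    intro n hn g
    have h1 : n ∈ center P := (zpowers_le.mpr (hc hcker)) hn
    have h3 : g * n * g⁻¹ = n := by
      rw [mem_center_iff.mp h1 g]; group
    rwa [h3]
  have hqc : (QuotientGroup.mk c : P ⧸ zpowers c) = 1 :=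
    (QuotientGroup.eq_one_iff _).mpr (mem_zpowers c)
  have hab : (QuotientGroup.mk a : P ⧸ zpowers c) * QuotientGroup.mk b =
      QuotientGroup.mk b * QuotientGroup.mk a := by
    have h1 : a * b = c * (b * a) := by rw [hcdef, commutatorElement_def]; group
    rw [← QuotientGroup.mk_mul, h1, QuotientGroup.mk_mul, hqc, one_mul, QuotientGroup.mk_mul]
  have hgens : ∀ x ∈ (QuotientGroup.mk' (zpowers c)) '' ({a, b} ∪ (φ.ker : Set P)),
      ∀ y ∈ (QuotientGroup.mk' (zpowers c)) '' ({a, b} ∪ (φ.ker : Set P)), x * y = y * x := by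
    rintro _ ⟨x, hx, rfl⟩ _ ⟨y, hy, rfl⟩
    rcases hx with hx | hx
    · rcases hy with hy | hy
      · rcases hx with rfl | rfl <;> rcases hy with rfl | rfl
        · rfl
        · exact hab
        · exact hab.symm
        · rfl
      · rw [← map_mul, ← map_mul, mem_center_iff.mp (hc hy) x]
    · rw [← map_mul, ← map_mul, mem_center_iff.mp (hc hx) y]
  have hcomm := Subgroup.isMulCommutative_closure hgens
  have hRq : ∀ x ∈ R, QuotientGroup.mk' (zpowers c) x ∈
      closure ((QuotientGroup.mk' (zpowers c)) '' ({a, b} ∪ (φ.ker : Set P))) := by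
    intro x hx
    rw [← MonoidHom.map_closure, ← hR]
    exact ⟨x, hx, rfl⟩
  have hRR : ⁅R, R⁆ ≤ zpowers c := by
    rw [commutator_le]
    intro x hx y hy
    rw [← QuotientGroup.eq_one_iff]
    show QuotientGroup.mk' (zpowers c) ⁅x, y⁆ = 1
    rw [map_commutatorElement, commutatorElement_eq_one_iff_mul_comm]
    exact congrArg Subtype.val (hcomm.is_comm.comm ⟨_, hRq x hx⟩ ⟨_, hRq y hy⟩)
  have hle : φ.ker ≤ zpowers c := by
    intro z hz
    have h1 := Helper76ZaTR.pow_index_mem_commutator hperf R z (hc hz)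
    obtain ⟨m, hm⟩ := hRidx ▸ hodd
    rw [hm, pow_succ, pow_mul, pow_two, h2 z hz, one_pow, one_mul] at h1
    exact hRR h1
  calc Nat.card φ.ker ≤ Nat.card (zpowers c) := card_le_of_le hle
    _ = orderOf c := Nat.card_zpowers c
    _ ≤ 2 := Nat.le_of_dvd (by norm_num)
        (orderOf_dvd_of_pow_eq_one (by rw [pow_two, h2 c hcker]))

theorem card_eq_two_mul {G A : Type*} [Group G] [Group A] (f : G →* A)
    (hf : Function.Surjective f) (hk : Nat.card f.ker = 2) : Nat.card G = Nat.card A * 2 := by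
  have h1 := Subgroup.card_eq_card_quotient_mul_card_subgroup f.ker
  rwa [Nat.card_congr (QuotientGroup.quotientKerEquivOfSurjective f hf).toEquiv, hk] at h1

theorem equiv_of_double_covers {G S A : Type*} [Group G] [Finite G] [Group S] [Finite S] [Group A]
    (hG : commutator G = ⊤) (hS : commutator S = ⊤)
    (f : G →* A) (hf : Function.Surjective f) (hkf : Nat.card f.ker = 2)
    (π : S →* A) (hπ : Function.Surjective π) (hkπ : Nat.card π.ker = 2)
    (u v : A) (huv : u * v = v * u) (hodd : Odd (closure {u, v}).index) :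
    Nonempty (G ≃* S) := by
  obtain ⟨P, hP⟩ : ∃ P : Subgroup (G × S),
    P = (f.comp (MonoidHom.fst G S)).eqLocus (π.comp (MonoidHom.snd G S)) := ⟨_, rfl⟩
  have hPmem : ∀ x : G × S, x ∈ P ↔ f x.1 = π x.2 := fun x => by rw [hP]; exact Iff.rfl
  obtain ⟨D, hD⟩ : ∃ D : Subgroup (G × S), D = ⁅P, P⁆ := ⟨_, rfl⟩
  have hDP : D ≤ P := by
    rw [hD, commutator_le]
    intro x hx y hy
    exact mul_mem (mul_mem (mul_mem hx hy) (inv_mem hx)) (inv_mem hy)
  have hP1 : P.map (MonoidHom.fst G S) = ⊤ := by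
    rw [eq_top_iff]
    intro g _
    obtain ⟨s, hs⟩ := hπ (f g)
    exact ⟨(g, s), (hPmem _).mpr hs.symm, rfl⟩
  have hP2 : P.map (MonoidHom.snd G S) = ⊤ := by
    rw [eq_top_iff]
    intro s _
    obtain ⟨g, hg⟩ := hf (π s)
    exact ⟨(g, s), (hPmem _).mpr hg, rfl⟩
  have hD1 : D.map (MonoidHom.fst G S) = ⊤ := by
    rw [hD, map_commutator, hP1, ← commutator_def, hG]
  have hD2 : D.map (MonoidHom.snd G S) = ⊤ := by
    rw [hD, map_commutator, hP2, ← commutator_def, hS]
  by_cases hinj : ∀ x ∈ D, x.1 = 1 → x = 1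
  · let p₁ : D →* G := (MonoidHom.fst G S).comp D.subtype
    have hb1 : Function.Bijective p₁ := by
      constructor
      · exact (injective_iff_map_eq_one p₁).mpr (fun x hx => Subtype.ext (hinj x x.2 hx))
      · intro g
        obtain ⟨x, hx, rfl⟩ : g ∈ D.map (MonoidHom.fst G S) := hD1 ▸ mem_top g
        exact ⟨⟨x, hx⟩, rfl⟩
    let p₂ : D →* S := (MonoidHom.snd G S).comp D.subtype
    have hs2 : Function.Surjective p₂ := by
      intro s
      obtain ⟨x, hx, rfl⟩ : s ∈ D.map (MonoidHom.snd G S) := hD2 ▸ mem_top s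
      exact ⟨⟨x, hx⟩, rfl⟩
    have hcard : Nat.card D ≤ Nat.card S := by
      rw [Nat.card_congr (Equiv.ofBijective p₁ hb1), card_eq_two_mul f hf hkf,
        card_eq_two_mul π hπ hkπ]
    have hb2 := hs2.bijective_of_nat_card_le hcard
    exact ⟨(MulEquiv.ofBijective p₁ hb1).symm.trans (MulEquiv.ofBijective p₂ hb2)⟩
  · exfalso
    push Not at hinj
    obtain ⟨x, hxD, hx1, hxne⟩ := hinj
    have hx2ker : x.2 ∈ π.ker := by
      have := (hPmem x).mp (hDP hxD)
      rw [hx1, map_one] at this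
      exact this.symm
    have hx2ne : x.2 ≠ 1 := fun h => hxne (Prod.ext hx1 h)
    have hPD : P ≤ D := by
      intro y hy
      obtain ⟨d, hd, hdy⟩ : y.1 ∈ D.map (MonoidHom.fst G S) := hD1 ▸ mem_top _
      have hdy' : d.1 = y.1 := hdy
      have h1 : f d.1 = π d.2 := (hPmem d).mp (hDP hd)
      have h3 : f y.1 = π y.2 := (hPmem y).mp hy
      have h4 : d.2⁻¹ * y.2 ∈ π.ker := by
        rw [MonoidHom.mem_ker, map_mul, map_inv, ← h1, ← h3, hdy', inv_mul_cancel]
      by_cases h5 : d.2⁻¹ * y.2 = 1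
      · have : y = d := Prod.ext hdy'.symm (inv_mul_eq_one.mp h5).symm
        rwa [this]
      · have h6 := eq_of_ne_one π hkπ h4 hx2ker h5 hx2ne
        have : y = d * x := by
          apply Prod.ext
          · rw [Prod.fst_mul, hx1, mul_one, hdy']
          · rw [Prod.snd_mul, ← h6]; group
        rw [this]
        exact mul_mem hd hxD
    have hPP : ⁅P, P⁆ = P := le_antisymm (hD ▸ hDP) (hD ▸ hPD)
    have hperf : commutator P = ⊤ := (Subgroup.isPerfect_iff.mpr hPP).commutator_eq_top
    let φ : P →* A := (f.comp (MonoidHom.fst G S)).comp P.subtype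
    have hφ : Function.Surjective φ := by
      intro a
      obtain ⟨g, rfl⟩ := hf a
      obtain ⟨y, hy, rfl⟩ : g ∈ P.map (MonoidHom.fst G S) := hP1 ▸ mem_top g
      exact ⟨⟨y, hy⟩, rfl⟩
    have hker : ∀ y : P, y ∈ φ.ker ↔ (y : G × S).1 ∈ f.ker ∧ (y : G × S).2 ∈ π.ker := by
      intro y
      have h1 : f (y : G × S).1 = π (y : G × S).2 := (hPmem y).mp y.2
      constructor
      · intro hy
        have h3 : f (y : G × S).1 = 1 := hy
        exact ⟨h3, by rw [MonoidHom.mem_ker, ← h1, h3]⟩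
      · intro hy
        exact hy.1
    have h2 := card_ker_le_two hperf φ hφ
      (by
        intro y hy
        obtain ⟨h1, h3⟩ := (hker y).mp hy
        rw [mem_center_iff]
        intro g
        apply Subtype.ext
        apply Prod.ext
        · exact mem_center_iff.mp (ker_le_center_of_card_two f hkf h1) _
        · exact mem_center_iff.mp (ker_le_center_of_card_two π hkπ h3) _)
      (by
        intro y hy
        obtain ⟨h1, h3⟩ := (hker y).mp hy
        apply Subtype.ext
        apply Prod.ext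
        · exact mul_self_of_mem_ker f hkf h1
        · exact mul_self_of_mem_ker π hkπ h3)
      u v huv hodd
    have h4 : Nat.card (f.ker × π.ker) ≤ Nat.card φ.ker := by
      apply Nat.card_le_card_of_injective
        (fun k : f.ker × π.ker => (⟨⟨((k.1 : G), (k.2 : S)), (hPmem _).mpr (by
          rw [MonoidHom.mem_ker.mp k.1.2, MonoidHom.mem_ker.mp k.2.2])⟩,
          (hker _).mpr ⟨k.1.2, k.2.2⟩⟩ : φ.ker))
      intro k k' hkk
      have h5 := congrArg (fun y : φ.ker => ((y : P) : G × S)) hkk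
      simp only [Prod.mk.injEq] at h5
      exact Prod.ext (Subtype.ext h5.1) (Subtype.ext h5.2)
    rw [Nat.card_prod, hkf, hkπ] at h4
    omega

def u5 : alternatingGroup (Fin 5) :=
  ⟨Equiv.swap 0 1 * Equiv.swap 2 3, by rw [Equiv.Perm.mem_alternatingGroup]; decide⟩

def v5 : alternatingGroup (Fin 5) :=
  ⟨Equiv.swap 0 2 * Equiv.swap 1 3, by rw [Equiv.Perm.mem_alternatingGroup]; decide⟩

theorem u5_mul_v5 : u5 * v5 = v5 * u5 := by decide

def W5 : Subgroup (alternatingGroup (Fin 5)) where
  carrier := {x | x = 1 ∨ x = u5 ∨ x = v5 ∨ x = u5 * v5}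
  mul_mem' := by
    rintro a b (rfl | rfl | rfl | rfl) (rfl | rfl | rfl | rfl) <;>
      simp only [Set.mem_ofPred_eq] <;> decide
  one_mem' := Or.inl rfl
  inv_mem' := by
    rintro a (rfl | rfl | rfl | rfl) <;> simp only [Set.mem_ofPred_eq] <;> decide

theorem card_W5 : Nat.card W5 = 4 := by
  have h1 : (W5 : Set (alternatingGroup (Fin 5))) =
      (({1, u5, v5, u5 * v5} : Finset (alternatingGroup (Fin 5))) : Set _) := by
    ext x
    simp [W5]
  have h2 : Nat.card W5 = Nat.card (W5 : Set (alternatingGroup (Fin 5))) := rfl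
  rw [h2, h1, Nat.card_coe_set_eq, Set.ncard_coe_finset]
  decide

theorem odd_index : Odd (closure {u5, v5}).index := by
  have h1 : W5 ≤ closure {u5, v5} := by
    have hu : u5 ∈ closure {u5, v5} := subset_closure (by simp)
    have hv : v5 ∈ closure {u5, v5} := subset_closure (by simp)
    rintro x (rfl | rfl | rfl | rfl)
    · exact one_mem _
    · exact hu
    · exact hv
    · exact mul_mem hu hv
  have h2 : W5.index = 15 := by
    have h3 := W5.card_mul_index
    rw [card_W5, nat_card_alternatingGroup] at h3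
    simp [Nat.factorial] at h3
    omega
  have h3 := index_dvd_of_le h1
  rw [h2] at h3
  exact Odd.of_dvd_nat (by decide) h3

theorem equiv_SL25 {G : Type*} [Group G] [Finite G] (hperf : commutator G = ⊤)
    (f : G →* alternatingGroup (Fin 5)) (hf : Function.Surjective f) (hk : Nat.card f.ker = 2) :
    Nonempty (G ≃* Matrix.SpecialLinearGroup (Fin 2) (ZMod 5)) := by
  have : Fact (Nat.Prime 5) := ⟨by norm_num⟩
  obtain ⟨e⟩ := Cfsg.Agent.S0253.result (F := ZMod 5) (ZMod.card 5)
  let π : Matrix.SpecialLinearGroup (Fin 2) (ZMod 5) →* alternatingGroup (Fin 5) :=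
    e.toMonoidHom.comp (QuotientGroup.mk' (center (Matrix.SpecialLinearGroup (Fin 2) (ZMod 5))))
  have hπ : Function.Surjective π := e.surjective.comp (QuotientGroup.mk'_surjective _)
  have hker : π.ker = center (Matrix.SpecialLinearGroup (Fin 2) (ZMod 5)) := by
    ext x
    rw [MonoidHom.mem_ker]
    show e (QuotientGroup.mk x) = 1 ↔ _
    rw [MulEquiv.map_eq_one_iff, QuotientGroup.eq_one_iff]
  have hkπ : Nat.card π.ker = 2 := by
    rw [hker]
    exact Helper7SL.card_center_SL_two (by rw [ZMod.card]; decide)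
  have hS : commutator (Matrix.SpecialLinearGroup (Fin 2) (ZMod 5)) = ⊤ :=
    (Helper6DkCor.perfect_SL2 (K := ZMod 5) (by rw [ZMod.card]; norm_num)).commutator_eq_top
  exact equiv_of_double_covers hperf hS f hf hk π hπ hkπ u5 v5 u5_mul_v5 odd_index

end Cfsg.Agent.Lib.Helper28ZaG8
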