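import Mathlib
import Cfsg.Agent.S0254

/-!
# The field with nine elements: a finite check used to recognise `PSL₂(9)`
-/

set_option autoImplicit false

namespace Cfsg.Agent.Lib.Helper29A6a

abbrev F9 := Cfsg.Agent.S0254.F9

def I9 : F9 := ⟨0, 1⟩
def W9 : F9 := ⟨1, 1⟩

def tab (j p q : F9) : Option F9 → Option F9
  | none => some 0
  | some y => (![![none, some (j * p), some (j * (j * (j * p)))],
      ![some p, some q, some (j * (j * (j * q)))],
      ![some (j * (j * p)), some (j * q), some (j * (j * q))]] : Fin 3 → Fin 3 → Option F9) y.re y.im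

def addO (y : Option F9) (b : F9) : Option F9 := y.map (· + b)
def mulO (c : F9) (y : Option F9) : Option F9 := y.map (c * ·)

def unit4 (c : F9) : Prop := c = 1 ∨ c = I9 ∨ c = -1 ∨ c = -I9

instance (c : F9) : Decidable (unit4 c) := by unfold unit4; infer_instance

set_option maxRecDepth 100000 in
theorem bf : ∀ j p q : F9, unit4 j → p ≠ 0 → q ≠ 0 →
    (∃ b c : F9, unit4 c ∧ ∀ y : Option F9,
      tab j p q (addO (tab j p q y) 1) = addO (tab j p q (addO (mulO c y) b)) p) →
    unit4 p ∧ j = -I9 ∧ q * W9 = p := by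
  decide +kernel

set_option maxRecDepth 100000 in
theorem tab_inv : ∀ p q : F9, unit4 p → q * W9 = p → ∀ y : F9, y ≠ 0 →
    ∃ z : F9, tab (-I9) p q (some y) = some z ∧ z * y = p := by
  decide +kernel

theorem exists_sq : ∀ p : F9, unit4 p → ∃ e : F9, e * e = -p := by
  decide +kernel

theorem unit4_ne : ∀ p : F9, unit4 p → p ≠ 0 := by
  decide +kernel

theorem unit4_mul : ∀ p : F9, unit4 p → unit4 (I9 * p) := by
  decide +kernel

theorem unit4_pow (k : ℕ) : unit4 (I9 ^ k) := by
  induction k with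
  | zero => left; rfl
  | succ n ih => rw [pow_succ']; exact unit4_mul _ ih

theorem cover : ∀ y : F9, y = 0 ∨ y = 1 ∨ y = I9 * 1 ∨ y = I9 * (I9 * 1) ∨ y = I9 * (I9 * (I9 * 1)) ∨
    y = W9 ∨ y = I9 * W9 ∨ y = I9 * (I9 * W9) ∨ y = I9 * (I9 * (I9 * W9)) := by
  decide +kernel

theorem I9_mul (y : F9) : I9 * y = ⟨-y.im, y.re⟩ := by
  revert y
  decide +kernel

end Cfsg.Agent.Lib.Helper29A6a
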