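import Mathlib
import Cfsg.Agent.Lib.Helper63SylowNum3

/-!
# Labelling the points of a permutation group of degree `q + 1` by the projective line over `ZMod q`
-/

set_option autoImplicit false

namespace Cfsg.Agent.Lib.Helper63RecA

open MulAction Subgroup OnePoint

variable {G Ω : Type*} [Group G] [MulAction G Ω] {q : ℕ} [Fact q.Prime]

/-- the point with label `i` -/
def lab (x : G) (o : Ω) (i : ZMod q) : Ω := x ^ i.val • o

omit [Fact q.Prime] in
theorem pow_mod' (x : G) (hx : x ^ q = 1) (n : ℕ) : x ^ (n % q) = x ^ n := by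
  conv_rhs => rw [← Nat.mod_add_div n q, pow_add, pow_mul, hx, one_pow, mul_one]

theorem lab_natCast (x : G) (hx : x ^ q = 1) (o : Ω) (n : ℕ) :
    lab x o (n : ZMod q) = x ^ n • o := by
  unfold lab
  rw [ZMod.val_natCast, pow_mod' x hx]

theorem pow_smul_lab (x : G) (hx : x ^ q = 1) (o : Ω) (n : ℕ) (i : ZMod q) :
    x ^ n • lab x o i = lab x o (i + (n : ZMod q)) := by
  have h1 : i + (n : ZMod q) = ((i.val + n : ℕ) : ZMod q) := by
    rw [Nat.cast_add, ZMod.natCast_zmod_val]
  rw [h1, lab_natCast x hx, add_comm, pow_add, mul_smul]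
  rfl

theorem conj_lab (x : G) (hx : x ^ q = 1) (o : Ω) (h : G) (ho : h • o = o) (a : ℕ)
    (ha : h * x * h⁻¹ = x ^ a) (i : ZMod q) : h • lab x o i = lab x o ((a : ZMod q) * i) := by
  have h1 : (a : ZMod q) * i = ((a * i.val : ℕ) : ZMod q) := by
    rw [Nat.cast_mul, ZMod.natCast_zmod_val]
  rw [h1, lab_natCast x hx, pow_mul, ← ha, conj_pow]
  unfold lab
  rw [mul_smul, mul_smul, inv_smul_eq_iff.mpr ho.symm]

theorem lab_zero (x : G) (o : Ω) : lab (q := q) x o 0 = o := by
  unfold lab; simp

theorem lab_injective (x : G) (o : Ω) (hxo : orderOf x = q) (ho : x • o ≠ o) :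
    Function.Injective (lab (q := q) x o) := by
  intro i j hij
  have hper : period x o = q := by
    have h1 := period_dvd_orderOf x o
    rw [hxo] at h1
    rcases (Nat.dvd_prime (Fact.out)).mp h1 with h | h
    · exfalso; apply ho
      have := pow_period_smul x o
      rwa [h, pow_one] at this
    · exact h
  unfold lab at hij
  have h2 : x ^ (-(j.val : ℤ) + (i.val : ℤ)) • o = o := by
    rw [zpow_add, mul_smul, zpow_natCast, hij, zpow_neg, zpow_natCast, inv_smul_smul]
  rw [zpow_smul_eq_iff_period_dvd, hper] at h2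
  have h3 := (ZMod.intCast_zmod_eq_zero_iff_dvd _ q).mpr h2
  push_cast at h3
  rw [ZMod.natCast_zmod_val, ZMod.natCast_zmod_val] at h3
  exact (neg_add_eq_zero.mp h3).symm

theorem lab_ne_inf (x : G) (o inf : Ω) (hinf : x • inf = inf) (ho : o ≠ inf) (i : ZMod q) :
    lab x o i ≠ inf := by
  intro h
  apply ho
  unfold lab at h
  have h1 : x ^ i.val • inf = inf := by
    induction i.val with
    | zero => simp
    | succ n ih => rw [pow_succ, mul_smul, hinf, ih]
  rw [← h1] at h
  exact smul_left_cancel _ h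

theorem exists_equiv [Finite Ω] (hΩ : Nat.card Ω = q + 1) (x : G) (o inf : Ω)
    (hxo : orderOf x = q) (hinf : x • inf = inf) (ho : x • o ≠ o) :
    ∃ E : OnePoint (ZMod q) ≃ Ω, E ∞ = inf ∧ ∀ i : ZMod q, E (i : OnePoint (ZMod q)) = lab x o i := by
  have hne : o ≠ inf := fun h => ho (h ▸ hinf)
  let f : OnePoint (ZMod q) → Ω := fun y => y.elim inf (lab x o)
  have hf : Function.Injective f := by
    intro y z hyz
    cases y with
    | infty =>
      cases z with
      | infty => rfl
      | coe z => exact absurd hyz.symm (lab_ne_inf x o inf hinf hne z)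
    | coe y =>
      cases z with
      | infty => exact absurd hyz (lab_ne_inf x o inf hinf hne y)
      | coe z => exact congrArg _ (lab_injective x o hxo ho hyz)
  have hcard : Nat.card (OnePoint (ZMod q)) = q + 1 := by
    have : Nat.card (Option (ZMod q)) = Nat.card (ZMod q) + 1 := Finite.card_option
    rw [Nat.card_zmod] at this
    exact this
  have hb : Function.Bijective f := hf.bijective_of_nat_card_le (by rw [hΩ, hcard])
  exact ⟨Equiv.ofBijective f hb, rfl, fun i => rfl⟩

/-- order of a point stabiliser in a transitive group -/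
theorem card_stabilizer [Finite G] [IsPretransitive G Ω] (ω : Ω) :
    Nat.card (stabilizer G ω) * Nat.card Ω = Nat.card G := by
  have h1 := index_stabilizer G ω
  rw [orbit_eq_univ, Set.ncard_univ] at h1
  rw [← h1]
  exact Subgroup.card_mul_index _

/-- order of a two point stabiliser -/
theorem card_two_stabilizer [Finite G] [Finite Ω] (inf o : Ω)
    (htr : ∀ ω, ω ≠ inf → ∃ g : G, g • inf = inf ∧ g • o = ω) (ho : o ≠ inf) :
    Nat.card (stabilizer G inf ⊓ stabilizer G o : Subgroup G) * (Nat.card Ω - 1)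
      = Nat.card (stabilizer G inf) := by
  have h1 := index_stabilizer (stabilizer G inf) o
  have h2 : orbit (stabilizer G inf) o = {inf}ᶜ := by
    ext ω
    constructor
    · rintro ⟨g, rfl⟩ h
      apply ho
      have h3 : (g : G) • o = inf := h
      have h4 : (g : G) • inf = inf := g.2
      exact smul_left_cancel _ (h3.trans h4.symm)
    · intro h
      obtain ⟨g, hg1, hg2⟩ := htr ω h
      exact ⟨⟨g, hg1⟩, hg2⟩
  have h3 : ({inf}ᶜ : Set Ω).ncard = Nat.card Ω - 1 := by
    have := Set.ncard_add_ncard_compl ({inf} : Set Ω)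
    rw [Set.ncard_singleton] at this
    omega
  rw [h2, h3] at h1
  have h4 : stabilizer (stabilizer G inf) o = (stabilizer G o).subgroupOf (stabilizer G inf) := by
    ext g
    rw [mem_stabilizer_iff, Subgroup.mem_subgroupOf, mem_stabilizer_iff]
    rfl
  rw [h4] at h1
  have h5 := Subgroup.card_mul_index ((stabilizer G o).subgroupOf (stabilizer G inf))
  rw [h1] at h5
  rw [← h5]
  congr 1
  rw [inf_comm, ← Subgroup.inf_subgroupOf_right]
  exact (Nat.card_congr (Subgroup.subgroupOfEquivOfLe inf_le_right).toEquiv).symm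


/-- the multiplier homomorphism of the two point stabiliser -/
theorem exists_mult (hfaith : ∀ g : G, (∀ ω : Ω, g • ω = ω) → g = 1) (x : G) (o inf : Ω)
    (hx : x ^ q = 1) (E : OnePoint (ZMod q) ≃ Ω) (hE1 : E ∞ = inf)
    (hE2 : ∀ i : ZMod q, E (i : OnePoint (ZMod q)) = lab x o i)
    (hnorm : ∀ g : G, g • inf = inf → ∃ a : ℕ, g * x * g⁻¹ = x ^ a) :
    ∃ μ : (stabilizer G inf ⊓ stabilizer G o : Subgroup G) →* ZMod q, Function.Injective μ ∧
      ∀ (h : (stabilizer G inf ⊓ stabilizer G o : Subgroup G)) (i : ZMod q),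
        (h : G) • lab x o i = lab x o (μ h * i) := by
  have hinj : Function.Injective (lab (q := q) x o) := by
    intro i j hij
    rw [← hE2, ← hE2] at hij
    exact OnePoint.coe_injective (E.injective hij)
  have hex : ∀ h : (stabilizer G inf ⊓ stabilizer G o : Subgroup G), ∃ a : ZMod q,
      ∀ i : ZMod q, (h : G) • lab x o i = lab x o (a * i) := by
    intro h
    obtain ⟨a, ha⟩ := hnorm h (Subgroup.mem_inf.mp h.2).1
    exact ⟨a, fun i => conj_lab x hx o h (Subgroup.mem_inf.mp h.2).2 a ha i⟩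
  choose mu hmu using hex
  have h1 : mu 1 = 1 := by
    have := hmu 1 1
    rw [Subgroup.coe_one, one_smul, mul_one] at this
    exact (hinj this).symm
  have hm : ∀ a b, mu (a * b) = mu a * mu b := by
    intro a b
    have := hmu (a * b) 1
    rw [Subgroup.coe_mul, mul_smul, hmu b, hmu a, mul_one, mul_one] at this
    exact (hinj this).symm
  refine ⟨{ toFun := mu, map_one' := h1, map_mul' := hm }, ?_, hmu⟩
  rw [injective_iff_map_eq_one]
  intro h hh
  have hh' : mu h = 1 := hh
  apply Subtype.ext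
  apply hfaith
  intro ω
  obtain ⟨y, rfl⟩ := E.surjective ω
  cases y with
  | infty => rw [hE1]; exact (Subgroup.mem_inf.mp h.2).1
  | coe y => rw [hE2, hmu, hh', one_mul]

/-- an injective homomorphism from a group of order `m` to a field hits all `m`-th roots of unity -/
theorem exists_of_root {H : Type*} [Group H] [Finite H] {K : Type*} [Field K] (μ : H →* K)
    (hμ : Function.Injective μ) (s : K) (hs : s ^ Nat.card H = 1) : ∃ h : H, μ h = s := by
  classical
  haveI := Fintype.ofFinite H
  have hpos : 0 < Nat.card H := Nat.card_pos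
  have hsub : Finset.image μ Finset.univ ⊆ Polynomial.nthRootsFinset (Nat.card H) (1 : K) := by
    intro y hy
    obtain ⟨h, -, rfl⟩ := Finset.mem_image.mp hy
    rw [Polynomial.mem_nthRootsFinset hpos, ← map_pow, pow_card_eq_one', map_one]
  have hc1 : (Finset.image μ Finset.univ).card = Nat.card H := by
    rw [Finset.card_image_of_injective _ hμ, Finset.card_univ, Nat.card_eq_fintype_card]
  have hc2 : (Polynomial.nthRootsFinset (Nat.card H) (1 : K)).card ≤ Nat.card H :=
    (Multiset.toFinset_card_le _).trans (Polynomial.card_nthRoots _ _)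
  have heq := Finset.eq_of_subset_of_card_le hsub (by rw [hc1]; exact hc2)
  have : s ∈ Finset.image μ Finset.univ := by
    rw [heq, Polynomial.mem_nthRootsFinset hpos]; exact hs
  obtain ⟨h, -, hh⟩ := Finset.mem_image.mp this
  exact ⟨h, hh⟩

/-- an automorphism of order two of a cyclic group of odd prime power order is trivial or the
inversion -/
theorem fix_or_invert {H : Subgroup G} [IsCyclic H] {r k : ℕ} [Fact r.Prime] (hr2 : r ≠ 2)
    (hH : Nat.card H = r ^ k) (t : G) (ht : t * t = 1) (hn : ∀ h ∈ H, t * h * t⁻¹ ∈ H) :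
    (∀ h ∈ H, t * h * t⁻¹ = h) ∨ (∀ h ∈ H, t * h * t⁻¹ = h⁻¹) := by
  obtain ⟨h0, hgen⟩ := IsCyclic.exists_generator (α := H)
  have hord : orderOf (h0 : G) = r ^ k := by
    rw [Subgroup.orderOf_coe, orderOf_eq_card_of_forall_mem_zpowers hgen, hH]
  have hgen' : ∀ h ∈ H, ∃ n : ℤ, h = (h0 : G) ^ n := by
    intro h hh
    obtain ⟨n, hn⟩ := Subgroup.mem_zpowers_iff.mp (hgen ⟨h, hh⟩)
    exact ⟨n, by have := congrArg Subtype.val hn; simpa using this.symm⟩
  obtain ⟨j, hj⟩ := hgen' _ (hn h0 h0.2)
  have hconj : ∀ n : ℤ, t * (h0 : G) ^ n * t⁻¹ = ((h0 : G) ^ j) ^ n := by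
    intro n
    rw [← hj, conj_zpow]
  have hjj : (h0 : G) ^ (j * j - 1) = 1 := by
    have h1 := hconj j
    rw [← hj] at h1
    have h2 : t * (t * (h0 : G) * t⁻¹) * t⁻¹ = h0 := by
      have : t * (t * (h0 : G) * t⁻¹) * t⁻¹ = (t * t) * h0 * (t * t)⁻¹ := by group
      rw [this, ht]; simp
    rw [h2, hj, ← zpow_mul] at h1
    rw [zpow_sub, ← h1, zpow_one, mul_inv_cancel]
  have hdvd : ((r ^ k : ℕ) : ℤ) ∣ (j - 1) * (j + 1) := by
    rw [← hord]
    have := orderOf_dvd_iff_zpow_eq_one.mpr hjj
    have e : (j - 1) * (j + 1) = j * j - 1 := by ring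
    rwa [e]
  have hrp : Prime (r : ℤ) := Nat.prime_iff_prime_int.mp Fact.out
  by_cases hr1 : (r : ℤ) ∣ j + 1
  · -- then `r ∤ j - 1`
    right
    have hr3 : ¬ (r : ℤ) ∣ j - 1 := by
      intro h
      have h2 : (r : ℤ) ∣ 2 := by
        have := dvd_sub hr1 h
        have e : j + 1 - (j - 1) = 2 := by ring
        rwa [e] at this
      have h3 : r ∣ 2 := by exact_mod_cast h2
      exact hr2 ((Nat.prime_dvd_prime_iff_eq Fact.out Nat.prime_two).mp h3)
    have hcop : IsCoprime ((r ^ k : ℕ) : ℤ) (j - 1) := by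
      push_cast
      exact IsCoprime.pow_left ((Prime.coprime_iff_not_dvd hrp).mpr hr3)
    have h4 : ((r ^ k : ℕ) : ℤ) ∣ j + 1 := hcop.dvd_of_dvd_mul_left hdvd
    rw [← hord] at h4
    have h5 : (h0 : G) ^ j = (h0 : G)⁻¹ := by
      have := orderOf_dvd_iff_zpow_eq_one.mp h4
      rw [zpow_add, zpow_one] at this
      exact eq_inv_of_mul_eq_one_left this
    intro h hh
    obtain ⟨n, rfl⟩ := hgen' h hh
    rw [hconj, h5, inv_zpow]
  · left
    have hcop : IsCoprime ((r ^ k : ℕ) : ℤ) (j + 1) := by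
      push_cast
      exact IsCoprime.pow_left ((Prime.coprime_iff_not_dvd hrp).mpr hr1)
    have h4 : ((r ^ k : ℕ) : ℤ) ∣ j - 1 := hcop.dvd_of_dvd_mul_right hdvd
    rw [← hord] at h4
    have h5 : (h0 : G) ^ j = (h0 : G) := by
      have := orderOf_dvd_iff_zpow_eq_one.mp h4
      rw [zpow_sub, zpow_one] at this
      exact mul_inv_eq_one.mp this
    intro h hh
    obtain ⟨n, rfl⟩ := hgen' h hh
    rw [hconj, h5]

end Cfsg.Agent.Lib.Helper63RecA
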