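import Mathlib
import Cfsg.Agent.Lib.Helper6SL2Hom

/-!
# Recognising `PSL₂(F)` from a permutation action on the projective line

`iso_of_data`: a finite group acting faithfully on a set labelled by `OnePoint F`, containing all
translations `y ↦ y + b` and one map `y ↦ c / y` with `-c` a square, and of order at most
`|PSL₂(F)|`, is isomorphic to `PSL₂(F)`.
-/

set_option autoImplicit false

namespace Cfsg.Agent.Lib.Helper63RecB

open Matrix MatrixGroups OnePoint Cfsg.Agent.Lib.Helper6SL2Hom

variable {F : Type*} [Field F] [DecidableEq F]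

theorem sl_smul_coe (A : SpecialLinearGroup (Fin 2) F) (y : F) :
    (SpecialLinearGroup.toGL A) • (y : OnePoint F) =
      if A 1 0 * y + A 1 1 = 0 then ∞
      else (((A 0 0 * y + A 0 1) / (A 1 0 * y + A 1 1) : F) : OnePoint F) := by
  rw [smul_some_eq_ite]; rfl

theorem sl_smul_infty (A : SpecialLinearGroup (Fin 2) F) :
    (SpecialLinearGroup.toGL A) • (∞ : OnePoint F) =
      if A 1 0 = 0 then ∞ else ((A 0 0 / A 1 0 : F) : OnePoint F) := by
  rw [smul_infty_eq_ite]; rfl

theorem T01_00 (b : F) : (SpecialLinearGroup.transvection (zero_ne_one : (0 : Fin 2) ≠ 1) b) 0 0 = 1 := by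
  have := congrFun (congrFun (T01_entries b) 0) 0
  simpa using this
theorem T01_01 (b : F) : (SpecialLinearGroup.transvection (zero_ne_one : (0 : Fin 2) ≠ 1) b) 0 1 = b := by
  have := congrFun (congrFun (T01_entries b) 0) 1
  simpa using this
theorem T01_10 (b : F) : (SpecialLinearGroup.transvection (zero_ne_one : (0 : Fin 2) ≠ 1) b) 1 0 = 0 := by
  have := congrFun (congrFun (T01_entries b) 1) 0
  simpa using this
theorem T01_11 (b : F) : (SpecialLinearGroup.transvection (zero_ne_one : (0 : Fin 2) ≠ 1) b) 1 1 = 1 := by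
  have := congrFun (congrFun (T01_entries b) 1) 1
  simpa using this

/-- the matrix of `y ↦ c / y`, where `e ^ 2 = - c`. -/
def wMat (c e : F) (he : e ^ 2 = - c) (hc : c ≠ 0) : SpecialLinearGroup (Fin 2) F :=
  ⟨!![0, c / e; 1 / e, 0], by
    have he0 : e ≠ 0 := by
      rintro rfl
      apply hc
      have : (0 : F) = - c := by simpa using he
      exact neg_eq_zero.mp this.symm
    rw [det_fin_two_of]
    field_simp
    linear_combination (-1 : F) * he⟩

theorem eq_of_act {G Ω : Type*} [Group G] [MulAction G Ω]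
    (hfaith : ∀ g : G, (∀ ω : Ω, g • ω = ω) → g = 1) (g₁ g₂ : G)
    (h : ∀ ω : Ω, g₁ • ω = g₂ • ω) : g₁ = g₂ := by
  have : g₂⁻¹ * g₁ = 1 := hfaith _ (fun ω => by rw [mul_smul, h ω, inv_smul_smul])
  exact (inv_mul_eq_one.mp this).symm

theorem iso_of_data [Finite F] (hF : 4 ≤ Nat.card F) {G Ω : Type*} [Group G] [Finite G]
    [MulAction G Ω]
    (hfaith : ∀ g : G, (∀ ω : Ω, g • ω = ω) → g = 1)
    (E : OnePoint F ≃ Ω)
    (hx : ∀ b : F, ∃ g : G, g • E ∞ = E ∞ ∧ ∀ y : F, g • E (y : OnePoint F) = E ((y + b : F) : OnePoint F))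
    (t : G) (c e : F) (he : e ^ 2 = - c) (hc : c ≠ 0)
    (ht1 : t • E ∞ = E ((0 : F) : OnePoint F)) (ht2 : t • E ((0 : F) : OnePoint F) = E ∞)
    (ht3 : ∀ y : F, y ≠ 0 → t • E (y : OnePoint F) = E ((c / y : F) : OnePoint F))
    (hcard : Nat.card G ≤ Nat.card (ProjectiveSpecialLinearGroup (Fin 2) F)) :
    Nonempty (G ≃* ProjectiveSpecialLinearGroup (Fin 2) F) := by
  classical
  have he0 : e ≠ 0 := by
    rintro rfl
    apply hc
    have : (0 : F) = - c := by simpa using he
    exact neg_eq_zero.mp this.symm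
  let S : Subgroup (SpecialLinearGroup (Fin 2) F) :=
    { carrier := {A | ∃ g : G, ∀ y : OnePoint F, g • E y = E (SpecialLinearGroup.toGL A • y)}
      one_mem' := ⟨1, fun y => by simp⟩
      mul_mem' := by
        rintro A B ⟨g, hg⟩ ⟨k, hk⟩
        exact ⟨g * k, fun y => by rw [mul_smul, hk, hg, map_mul, mul_smul]⟩
      inv_mem' := by
        rintro A ⟨g, hg⟩
        refine ⟨g⁻¹, fun y => ?_⟩
        rw [inv_smul_eq_iff, hg, map_inv, smul_inv_smul] }
  have hT01 : ∀ b : F, SpecialLinearGroup.transvection (zero_ne_one : (0 : Fin 2) ≠ 1) b ∈ S := by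
    intro b
    obtain ⟨g, hg1, hg2⟩ := hx b
    refine ⟨g, fun y => ?_⟩
    cases y with
    | infty => rw [hg1, sl_smul_infty, T01_10]; simp
    | coe y => rw [hg2, sl_smul_coe, T01_10, T01_11, T01_00, T01_01]; simp
  have hw : wMat c e he hc ∈ S := by
    refine ⟨t, fun y => ?_⟩
    have e00 : (wMat c e he hc) 0 0 = 0 := rfl
    have e01 : (wMat c e he hc) 0 1 = c / e := rfl
    have e10 : (wMat c e he hc) 1 0 = 1 / e := rfl
    have e11 : (wMat c e he hc) 1 1 = 0 := rfl
    cases y with
    | infty =>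
      rw [ht1, sl_smul_infty, e10, e00, if_neg (by simpa using he0)]
      simp
    | coe y =>
      rw [sl_smul_coe, e00, e01, e10, e11]
      by_cases hy : y = 0
      · subst hy
        rw [ht2]; simp
      · rw [ht3 y hy, if_neg (by simp [he0, hy])]
        congr 2
        rw [zero_mul, zero_add, add_zero]
        field_simp
  have hT10 : ∀ b : F, SpecialLinearGroup.transvection (one_ne_zero : (1 : Fin 2) ≠ 0) b ∈ S := by
    intro b
    have hmul : SpecialLinearGroup.transvection (one_ne_zero : (1 : Fin 2) ≠ 0) b * wMat c e he hc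
        = wMat c e he hc * SpecialLinearGroup.transvection (zero_ne_one : (0 : Fin 2) ≠ 1) (b * c) := by
      have hm : !![1, 0; b, 1] * !![0, c / e; 1 / e, 0]
          = !![0, c / e; 1 / e, 0] * !![1, b * c; 0, 1] := by
        ext i j
        fin_cases i <;> fin_cases j <;> simp [Matrix.mul_apply, Fin.sum_univ_two] <;> field_simp
      apply Matrix.SpecialLinearGroup.ext
      intro i j
      have h1 := Matrix.SpecialLinearGroup.coe_mul
        (SpecialLinearGroup.transvection (one_ne_zero : (1 : Fin 2) ≠ 0) b) (wMat c e he hc)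
      have h2 := Matrix.SpecialLinearGroup.coe_mul (wMat c e he hc)
        (SpecialLinearGroup.transvection (zero_ne_one : (0 : Fin 2) ≠ 1) (b * c))
      rw [T10_entries] at h1
      rw [T01_entries] at h2
      rw [h1, h2]
      exact congrFun (congrFun hm i) j
    rw [eq_mul_inv_of_mul_eq hmul]
    exact S.mul_mem (S.mul_mem hw (hT01 _)) (S.inv_mem hw)
  have hS : S = ⊤ := by
    rw [eq_top_iff, ← closure_transvections, Subgroup.closure_le]
    rintro A (⟨b, rfl⟩ | ⟨b, rfl⟩)
    · exact hT01 b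
    · exact hT10 b
  have hall : ∀ A : SpecialLinearGroup (Fin 2) F,
      ∃ g : G, ∀ y : OnePoint F, g • E y = E (SpecialLinearGroup.toGL A • y) := by
    intro A
    have : A ∈ S := by rw [hS]; trivial
    exact this
  choose ψ hψ using hall
  have hEs : ∀ ω : Ω, ∃ y, E y = ω := E.surjective
  let Ψ : SpecialLinearGroup (Fin 2) F →* G := MonoidHom.mk' ψ (by
    intro A B
    apply eq_of_act hfaith
    intro ω
    obtain ⟨y, rfl⟩ := hEs ω
    rw [hψ, mul_smul, hψ, hψ, map_mul, mul_smul])
  have hΨ : ∀ A y, Ψ A • E y = E (SpecialLinearGroup.toGL A • y) := hψ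
  obtain ⟨θ, hθ⟩ := exists_injective_hom_PSL hF Ψ (by
    intro g h00 h01 h10 h11
    apply hfaith
    intro ω
    obtain ⟨y, rfl⟩ := hEs ω
    rw [hΨ]
    cases y with
    | infty => rw [sl_smul_infty, h10]; simp
    | coe y => rw [sl_smul_coe, h00, h01, h10, h11]; simp) (by
    refine ⟨SpecialLinearGroup.transvection (zero_ne_one : (0 : Fin 2) ≠ 1) 1, fun h => ?_⟩
    have h1 := hΨ (SpecialLinearGroup.transvection (zero_ne_one : (0 : Fin 2) ≠ 1) 1) ((0 : F) : OnePoint F)
    rw [h, one_smul, sl_smul_coe, T01_10, T01_11, T01_00, T01_01] at h1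
    have h2 := E.injective h1
    simp at h2)
  have hfin : Finite (ProjectiveSpecialLinearGroup (Fin 2) F) := Finite.of_injective θ hθ
  have hb : Function.Bijective θ := hθ.bijective_of_nat_card_le hcard
  exact ⟨(MulEquiv.ofBijective θ hb).symm⟩

end Cfsg.Agent.Lib.Helper63RecB
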