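import Mathlib
import Cfsg.Agent.Lib.Helper29A6a
import Cfsg.Agent.Lib.Helper63RecA
import Cfsg.Agent.Lib.Helper63RecB

/-!
# Coordinates by the field with nine elements
-/

set_option autoImplicit false

namespace Cfsg.Agent.Lib.Helper29A6b

open MulAction Subgroup Cfsg.Agent.Lib.Helper29A6a

variable {G Ω : Type*} [Group G] [MulAction G Ω]

theorem pow_val_add (x : G) (hx : x ^ 3 = 1) (a b : ZMod 3) :
    x ^ (a + b).val = x ^ a.val * x ^ b.val := by
  rw [ZMod.val_add, ← pow_add, Cfsg.Agent.Lib.Helper63RecA.pow_mod' x hx]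

theorem pow_val_neg (x : G) (hx : x ^ 3 = 1) (a : ZMod 3) :
    x ^ (-a).val = (x ^ a.val)⁻¹ := by
  rw [eq_inv_iff_mul_eq_one, ← pow_val_add x hx, neg_add_cancel, ZMod.val_zero, pow_zero]

def eps (u v : G) (y : F9) : G := u ^ y.re.val * v ^ y.im.val

theorem eps_zero (u v : G) : eps u v 0 = 1 := by
  unfold eps
  simp

theorem eps_add (u v : G) (hu3 : u ^ 3 = 1) (hv3 : v ^ 3 = 1) (huv : u * v = v * u) (y y' : F9) :
    eps u v (y + y') = eps u v y * eps u v y' := by
  unfold eps
  have hc : Commute u v := huv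
  rw [QuadraticAlgebra.re_add, QuadraticAlgebra.im_add, pow_val_add u hu3, pow_val_add v hv3]
  have h1 : Commute (v ^ y.im.val) (u ^ y'.re.val) := (hc.pow_pow _ _).symm
  calc u ^ y.re.val * u ^ y'.re.val * (v ^ y.im.val * v ^ y'.im.val)
      = u ^ y.re.val * (u ^ y'.re.val * v ^ y.im.val) * v ^ y'.im.val := by simp only [mul_assoc]
    _ = u ^ y.re.val * (v ^ y.im.val * u ^ y'.re.val) * v ^ y'.im.val := by rw [h1.eq]
    _ = _ := by simp only [mul_assoc]

theorem eps_conj (u v hh : G) (hu3 : u ^ 3 = 1) (huv : u * v = v * u)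
    (hhu : hh * u * hh⁻¹ = v) (hhv : hh * v * hh⁻¹ = u⁻¹) (y : F9) :
    hh * eps u v y * hh⁻¹ = eps u v (I9 * y) := by
  have hc : Commute u v := huv
  rw [I9_mul]
  unfold eps
  simp only
  rw [pow_val_neg u hu3]
  have h1 : hh * (u ^ y.re.val * v ^ y.im.val) * hh⁻¹
      = (hh * u * hh⁻¹) ^ y.re.val * (hh * v * hh⁻¹) ^ y.im.val := by
    rw [conj_pow, conj_pow]; group
  rw [h1, hhu, hhv, inv_pow]
  exact ((hc.pow_pow _ _).symm.inv_right).eq


def Efun (u v : G) (inf o : Ω) : Option F9 → Ω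
  | none => inf
  | some y => eps u v y • o

theorem card_option_F9 : Nat.card (Option F9) = 10 := by
  rw [Nat.card_eq_fintype_card, Fintype.card_option, Cfsg.Agent.S0254.card_F9]

theorem pow_fix (x : G) (inf : Ω) (hx : x • inf = inf) (n : ℕ) : x ^ n • inf = inf := by
  induction n with
  | zero => simp
  | succ n ih => rw [pow_succ, mul_smul, hx, ih]

theorem eps_fix (u v : G) (inf : Ω) (hui : u • inf = inf) (hvi : v • inf = inf) (y : F9) :
    eps u v y • inf = inf := by
  unfold eps
  rw [mul_smul, pow_fix v inf hvi, pow_fix u inf hui]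

theorem Efun_injective (u v : G) (inf o : Ω) (ho : o ≠ inf)
    (hu3 : u ^ 3 = 1) (hv3 : v ^ 3 = 1) (huv : u * v = v * u)
    (hui : u • inf = inf) (hvi : v • inf = inf)
    (hreg : ∀ a b : ZMod 3, (u ^ a.val * v ^ b.val) • o = o → a = 0 ∧ b = 0) :
    Function.Injective (Efun u v inf o) := by
  have hne : ∀ y : F9, eps u v y • o ≠ inf := by
    intro y hy
    apply ho
    have := eps_fix u v inf hui hvi y
    rw [← this] at hy
    exact smul_left_cancel _ hy
  rintro (_ | y) (_ | y') hyy
  · rfl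
  · exact absurd hyy.symm (hne y')
  · exact absurd hyy (hne y)
  · have h1 : y = y' + (y - y') := by ring
    have h2 : eps u v y • o = eps u v y' • o := hyy
    rw [h1, eps_add u v hu3 hv3 huv, mul_smul] at h2
    have h3 := smul_left_cancel _ h2
    obtain ⟨h4, h5⟩ := hreg _ _ h3
    have h6 : y - y' = 0 := QuadraticAlgebra.ext h4 h5
    rw [sub_eq_zero.mp h6]


theorem card_psl : Nat.card (Matrix.ProjectiveSpecialLinearGroup (Fin 2) F9) = 360 := by
  have hcard := Cfsg.Agent.S0243.result (F := F9) Cfsg.Agent.S0254.card_F9 2 le_rfl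
  simp only [Fin.prod_univ_two] at hcard
  set N := Nat.card (Matrix.ProjectiveSpecialLinearGroup (Fin 2) F9) with hN
  norm_num at hcard
  omega

theorem iso_of_struct [Finite G] [Finite Ω]
    (hfaith : ∀ g : G, (∀ ω : Ω, g • ω = ω) → g = 1) (hΩ : Nat.card Ω = 10)
    (hG : Nat.card G ≤ 360) (inf o : Ω) (ho : o ≠ inf) (u v hh t : G)
    (hu3 : u ^ 3 = 1) (hv3 : v ^ 3 = 1) (huv : u * v = v * u)
    (hui : u • inf = inf) (hvi : v • inf = inf)
    (hreg : ∀ a b : ZMod 3, (u ^ a.val * v ^ b.val) • o = o → a = 0 ∧ b = 0)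
    (hhi : hh • inf = inf) (hho : hh • o = o)
    (hhu : hh * u * hh⁻¹ = v) (hhv : hh * v * hh⁻¹ = u⁻¹)
    (hstab : ∀ g : G, g • inf = inf → g • o = o → ∃ k : ℕ, g = hh ^ k)
    (ht1 : t • inf = o) (ht2 : t • o = inf) :
    Nonempty (G ≃* Matrix.ProjectiveSpecialLinearGroup (Fin 2) F9) := by
  classical
  have hinj := Efun_injective u v inf o ho hu3 hv3 huv hui hvi hreg
  have hbij : Function.Bijective (Efun u v inf o) := by
    have := Fintype.ofFinite Ω
    rw [Fintype.bijective_iff_injective_and_card]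
    refine ⟨hinj, ?_⟩
    rw [← Nat.card_eq_fintype_card, ← Nat.card_eq_fintype_card, card_option_F9, hΩ]
  let E : Option F9 ≃ Ω := Equiv.ofBijective _ hbij
  have hEn : E none = inf := rfl
  have hEs : ∀ y, E (some y) = eps u v y • o := fun y => rfl
  have hE0 : E (some 0) = o := by rw [hEs, eps_zero, one_smul]
  have htr : ∀ (b : F9) (y : Option F9), eps u v b • E y = E (addO y b) := by
    rintro b (_ | y)
    · exact eps_fix u v inf hui hvi b
    · show eps u v b • eps u v y • o = eps u v (y + b) • o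
      rw [add_comm, eps_add u v hu3 hv3 huv, mul_smul]
  have hmul : ∀ y : Option F9, hh • E y = E (mulO I9 y) := by
    rintro (_ | y)
    · exact hhi
    · show hh • eps u v y • o = eps u v (I9 * y) • o
      rw [← eps_conj u v hh hu3 huv hhu hhv, mul_smul, mul_smul, inv_smul_eq_iff.mpr hho.symm]
  have hmulk : ∀ (k : ℕ) (y : Option F9), hh ^ k • E y = E (mulO (I9 ^ k) y) := by
    intro k
    induction k with
    | zero => intro y; cases y <;> simp [mulO]
    | succ n ih =>
      intro y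
      rw [pow_succ', mul_smul, ih, hmul]
      cases y <;> simp [mulO, pow_succ', mul_assoc]
  let T : Option F9 → Option F9 := fun y => E.symm (t • E y)
  have hT : ∀ y, t • E y = E (T y) := fun y => (E.apply_symm_apply _).symm
  have hTinj : Function.Injective T := by
    intro y y' hyy
    have h1 : t • E y = t • E y' := by rw [hT, hT, hyy]
    exact E.injective (smul_left_cancel _ h1)
  have hTn : T none = some 0 := by apply E.injective; rw [← hT, hEn, ht1, hE0]
  have hT0 : T (some 0) = none := by apply E.injective; rw [← hT, hE0, ht2, hEn]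
  have hti1 : t⁻¹ • o = inf := by rw [inv_smul_eq_iff, ht1]
  have hti2 : t⁻¹ • inf = o := by rw [inv_smul_eq_iff, ht2]
  obtain ⟨k', hk'⟩ := hstab (t * hh * t⁻¹)
    (by rw [mul_smul, mul_smul, hti2, hho, ht2]) (by rw [mul_smul, mul_smul, hti1, hhi, ht1])
  have hTj : ∀ y, T (mulO I9 y) = mulO (I9 ^ k') (T y) := by
    intro y
    apply E.injective
    rw [← hT, ← hmul, ← hmulk, ← hk', ← hT]
    simp [mul_smul]
  -- values at 1 and W9
  have hsome : ∀ y : F9, y ≠ 0 → ∃ z : F9, z ≠ 0 ∧ T (some y) = some z := by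
    intro y hy
    rcases hTy : T (some y) with _ | z
    · exact absurd (hTinj (hTy.trans hT0.symm)) (by simpa using hy)
    · refine ⟨z, ?_, rfl⟩
      rintro rfl
      exact absurd (hTinj (hTy.trans hTn.symm)) (by simp)
  obtain ⟨p, hp0, hp⟩ := hsome 1 (by decide +kernel)
  obtain ⟨q, hq0, hq⟩ := hsome W9 (by decide +kernel)
  set j := I9 ^ k' with hj
  have hTj' : ∀ y z : F9, T (some y) = some z → T (some (I9 * y)) = some (j * z) := by
    intro y z hyz
    have := hTj (some y)
    rw [hyz] at this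
    exact this
  have htab : ∀ y, T y = tab j p q y := by
    rintro (_ | y)
    · exact hTn
    · rcases cover y with rfl | rfl | rfl | rfl | rfl | rfl | rfl | rfl | rfl
      · exact hT0
      · exact hp
      · exact hTj' _ _ hp
      · exact hTj' _ _ (hTj' _ _ hp)
      · exact hTj' _ _ (hTj' _ _ (hTj' _ _ hp))
      · exact hq
      · exact hTj' _ _ hq
      · exact hTj' _ _ (hTj' _ _ hq)
      · exact hTj' _ _ (hTj' _ _ (hTj' _ _ hq))
  -- the Bruhat form of `t * eps 1 * t`
  set g := t * eps u v 1 * t with hg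
  have hgE : ∀ y, g • E y = E (T (addO (T y) 1)) := by
    intro y
    rw [hg, mul_smul, mul_smul, hT, htr, hT]
  have hginf : g • inf = eps u v p • o := by
    rw [← hEn, hgE, hTn, ← hEs]
    have : addO (some (0 : F9)) 1 = some 1 := by simp [addO]
    rw [this, hp]
  set w := (eps u v p * t)⁻¹ * g with hw
  have hwinf : w • inf = inf := by
    rw [hw, mul_smul, hginf, mul_inv_rev, mul_smul, inv_smul_smul, hti1]
  obtain ⟨b, hb⟩ : ∃ b : F9, w • o = eps u v b • o := by
    rcases hy : E.symm (w • o) with _ | b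
    · exfalso
      have h1 : w • o = inf := by rw [← hEn, ← hy, E.apply_symm_apply]
      rw [← hwinf] at h1
      exact ho (smul_left_cancel _ h1)
    · refine ⟨b, ?_⟩
      rw [← hEs, ← hy, E.apply_symm_apply]
  obtain ⟨k, hk⟩ := hstab ((eps u v b)⁻¹ * w)
    (by rw [mul_smul, hwinf, inv_smul_eq_iff, eps_fix u v inf hui hvi])
    (by rw [mul_smul, hb, inv_smul_smul])
  have hgform : g = eps u v p * t * eps u v b * hh ^ k := by
    rw [← hk, hw]; group
  have hbru : ∀ y : Option F9,
      T (addO (T y) 1) = addO (T (addO (mulO (I9 ^ k) y) b)) p := by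
    intro y
    apply E.injective
    rw [← hgE, hgform, mul_smul, mul_smul, mul_smul, hmulk, htr, hT, htr]
  obtain ⟨hpu, hjI, hqW⟩ := bf j p q (unit4_pow k') hp0 hq0 ⟨b, I9 ^ k, unit4_pow k, by
    intro y
    rw [← htab, ← htab, ← htab]
    exact hbru y⟩
  obtain ⟨e, he⟩ := exists_sq p hpu
  have hfin : ∀ y : F9, y ≠ 0 → t • E (some y) = E (some (p / y)) := by
    intro y hy
    obtain ⟨z, hz1, hz2⟩ := tab_inv p q hpu hqW y hy
    rw [hT, htab, hjI, hz1, eq_div_of_mul_eq hy hz2]
  exact Cfsg.Agent.Lib.Helper63RecB.iso_of_data (F := F9)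
    (by rw [Nat.card_eq_fintype_card, Cfsg.Agent.S0254.card_F9]; norm_num) hfaith
    (E : OnePoint F9 ≃ Ω)
    (fun b => ⟨eps u v b, eps_fix u v inf hui hvi b, fun y => htr b (some y)⟩)
    t p e (by rw [pow_two, he]) hp0 (ht1.trans hE0.symm) ((congrArg (t • ·) hE0).trans ht2) hfin
    (by rw [card_psl]; exact hG)

end Cfsg.Agent.Lib.Helper29A6b
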