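import Mathlib
import Cfsg.Agent.S2119

set_option autoImplicit false

/-! PROJECT 29, piece `aut6a`: an automorphism of `A_n` preserving 3-cycles is induced by a permutation
(the proof of `Cfsg.Agent.S2119.surj` with `preserve` replaced by the hypothesis). -/

namespace Cfsg.Agent.Lib.Helper29P29aut6a

open Equiv Equiv.Perm Cfsg.Agent.S2119

theorem surj_of_preserve (n : ℕ) (hn : 4 ≤ n) (φ : MulAut (alternatingGroup (Fin n)))
    (hφ : ∀ g : alternatingGroup (Fin n), (g : Perm (Fin n)).IsThreeCycle →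
      ((φ g : alternatingGroup (Fin n)) : Perm (Fin n)).IsThreeCycle) :
    ∃ σ : Perm (Fin n), (MulAut.conjNormal σ : MulAut (alternatingGroup (Fin n))) = φ := by
  have : Nontrivial (Fin n) := Fin.nontrivial_iff_two_le.mpr (by omega)
  obtain ⟨u, v, i0, j0, uv, i0u, i0v, j0u, j0v, ij0⟩ : ∃ u v i0 j0 : Fin n, u ≠ v ∧ i0 ≠ u ∧ i0 ≠ v ∧
      j0 ≠ u ∧ j0 ≠ v ∧ i0 ≠ j0 := by
    obtain ⟨u, v, uv⟩ := exists_pair_ne (Fin n)
    obtain ⟨c, d, h⟩ := exists_two n hn u v
    exact ⟨u, v, c, d, uv, h⟩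
  let t : {i : Fin n // i ≠ u ∧ i ≠ v} → alternatingGroup (Fin n) := fun i =>
    ⟨cyc u v i, (cyc_three uv i.2.1.symm i.2.2.symm).mem_alternatingGroup⟩
  let X : {i : Fin n // i ≠ u ∧ i ≠ v} → Perm (Fin n) := fun i => ((φ (t i) : alternatingGroup (Fin n)) : Perm (Fin n))
  have h3 : ∀ i, (X i).IsThreeCycle := fun i =>
    hφ (t i) (cyc_three uv i.2.1.symm i.2.2.symm)
  have tne : ∀ i j, i ≠ j → t i ≠ t j := by
    intro i j hij h
    have h1 := congrArg (fun f : alternatingGroup (Fin n) => (f : Perm (Fin n)) v) h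
    simp only [t, cyc_apply] at h1
    have := i.2; have := j.2
    have : (i : Fin n) ≠ j := fun h => hij (Subtype.ext h)
    grind
  have hinj : ∀ i j, i ≠ j → X i ≠ X j := by
    intro i j hij h
    exact tne i j hij (φ.injective (Subtype.ext h))
  have hrel : ∀ i j, i ≠ j → X i * X j * (X i * X j) = 1 := by
    intro i j hij
    have : t i * t j * (t i * t j) = 1 := by
      apply Subtype.ext
      exact cyc_rel uv i.2.1.symm j.2.1.symm i.2.2.symm j.2.2.symm (fun h => hij (Subtype.ext h))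
    have h2 := congrArg (fun f : alternatingGroup (Fin n) => ((φ f : alternatingGroup (Fin n)) : Perm (Fin n))) this
    simpa [X] using h2
  have hne1 : ∀ i j, i ≠ j → X i * X j ≠ 1 := by
    intro i j hij h
    have h1 : φ (t i * t j) = 1 := by
      apply Subtype.ext
      simpa [X] using h
    have h2 : t i * t j = 1 := by
      apply φ.injective
      rw [h1, map_one]
    have h4 := congrArg (fun f : alternatingGroup (Fin n) => (f : Perm (Fin n)) u) h2
    simp only [t, Subgroup.coe_mul, Perm.mul_apply, cyc_apply, Subgroup.coe_one, Perm.one_apply] at h4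
    have := i.2; have := j.2
    grind
  obtain ⟨a, b, hab, hX⟩ := common_arc X h3 hinj hrel hne1 ⟨i0, i0u, i0v⟩ ⟨j0, j0u, j0v⟩
    (fun h => ij0 (congrArg Subtype.val h))
  have hXa : ∀ i, X i a ≠ a := fun i => by rw [hX]; exact hab.symm
  have f1 : ∀ i, X i b ≠ a := fun i => by
    have := (three (h3 i) (hXa i)).2.1
    rwa [hX] at this
  have f2 : ∀ i, X i b ≠ b := fun i => by
    have := (three (h3 i) (hXa i)).2.2.1
    rwa [hX] at this
  have f3 : ∀ i j, i ≠ j → X i b ≠ X j b := by
    intro i j hij h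
    apply hinj i j hij
    apply eq_of_arc (h3 i) (h3 j) (hXa i)
    · rw [hX, hX]
    · rw [hX, hX, h]
  let σ0 : Fin n → Fin n := fun w =>
    if h : w ≠ u ∧ w ≠ v then X ⟨w, h⟩ b else if w = u then a else b
  have s1 : σ0 u = a := by simp [σ0]
  have s2 : σ0 v = b := by simp [σ0, uv.symm]
  have s3 : ∀ i : {i : Fin n // i ≠ u ∧ i ≠ v}, σ0 i = X i b := by
    intro i
    simp only [σ0]
    rw [dif_pos i.2]
  have σinj : Function.Injective σ0 := by
    intro w w' hw
    by_cases h1 : w ≠ u ∧ w ≠ v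
    · by_cases h2 : w' ≠ u ∧ w' ≠ v
      · by_contra hne
        have := f3 ⟨w, h1⟩ ⟨w', h2⟩ (fun h => hne (congrArg Subtype.val h))
        rw [← s3, ← s3] at this
        exact this hw
      · have e1 := s3 ⟨w, h1⟩
        have g1 := f1 ⟨w, h1⟩
        have g2 := f2 ⟨w, h1⟩
        simp only at e1
        by_cases h3 : w' = u
        · subst h3; rw [s1, e1] at hw; exact absurd hw g1
        · have : w' = v := by
            by_contra h4; exact h2 ⟨h3, h4⟩
          subst this; rw [s2, e1] at hw; exact absurd hw g2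
    · by_cases h2 : w' ≠ u ∧ w' ≠ v
      · have e1 := s3 ⟨w', h2⟩
        have g1 := f1 ⟨w', h2⟩
        have g2 := f2 ⟨w', h2⟩
        simp only at e1
        by_cases h3 : w = u
        · subst h3; rw [s1, e1] at hw; exact absurd hw.symm g1
        · have : w = v := by
            by_contra h4; exact h1 ⟨h3, h4⟩
          subst this; rw [s2, e1] at hw; exact absurd hw.symm g2
      · grind
  let σ : Perm (Fin n) := Equiv.ofBijective σ0 (Finite.injective_iff_bijective.mp σinj)
  have hσ : ∀ w, σ w = σ0 w := fun w => rfl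
  have key : ∀ i : {i : Fin n // i ≠ u ∧ i ≠ v}, σ * cyc u v i * σ⁻¹ = X i := by
    intro i
    rw [cyc_conj, hσ, hσ, hσ, s1, s2, s3]
    have := eq_cyc (h3 i) (hXa i)
    rw [hX] at this
    exact this.symm
  refine ⟨σ, ?_⟩
  let L : Subgroup (alternatingGroup (Fin n)) :=
    MonoidHom.eqLocus (MulAut.conjNormal σ : MulAut (alternatingGroup (Fin n))).toMonoidHom
      φ.toMonoidHom
  have hL : L = ⊤ := by
    rw [eq_top_iff, ← alternatingGroup.closure_isThreeCycles_eq_top, Subgroup.closure_le]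
    intro g hg
    have H1 : ∀ i, i ≠ u → i ≠ v → cyc u v i ∈ L.map (alternatingGroup (Fin n)).subtype := by
      intro i iu iv
      refine ⟨t ⟨i, iu, iv⟩, ?_, rfl⟩
      show (MulAut.conjNormal σ : MulAut (alternatingGroup (Fin n))) (t ⟨i, iu, iv⟩) = φ (t ⟨i, iu, iv⟩)
      apply Subtype.ext
      rw [MulAut.conjNormal_apply]
      exact key ⟨i, iu, iv⟩
    obtain ⟨g', hg', e⟩ := gen (L.map (alternatingGroup (Fin n)).subtype) uv H1 g hg
    have : g' = g := Subtype.ext e
    rwa [this] at hg'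
  ext g : 1
  have : g ∈ L := hL ▸ Subgroup.mem_top g
  exact this

/-- piece `aut6a` -/
theorem aut6_of_preserve (φ : MulAut (alternatingGroup (Fin 6)))
    (hφ : ∀ g : alternatingGroup (Fin 6), (g : Equiv.Perm (Fin 6)).IsThreeCycle →
      ((φ g : alternatingGroup (Fin 6)) : Equiv.Perm (Fin 6)).IsThreeCycle) :
    ∃ σ : Equiv.Perm (Fin 6), (MulAut.conjNormal σ : MulAut (alternatingGroup (Fin 6))) = φ :=
  surj_of_preserve 6 (by norm_num) φ hφ

end Cfsg.Agent.Lib.Helper29P29aut6a
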