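import Mathlib

set_option autoImplicit false

/-! PROJECT 29, piece `aut6b`: an automorphism of `A6` fixing an element of order three preserves
the 3-cycles. -/

namespace Cfsg.Agent.Lib.Helper75P29aut6b

open Equiv Equiv.Perm

/-- the standard element of type `{3,3}` -/
def x0 : Perm (Fin 6) := c[0, 1, 2] * c[3, 4, 5]

/-- an odd permutation commuting with it -/
def t0 : Perm (Fin 6) := swap 0 3 * swap 1 4 * swap 2 5

theorem x0_type : x0.cycleType = {3, 3} := by decide +kernel

theorem t0_comm : t0 * x0 = x0 * t0 := by decide +kernel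

theorem t0_sign : sign t0 = -1 := by decide +kernel

theorem type_of_order {g : Perm (Fin 6)} (hg : orderOf g = 3) :
    g.cycleType = {3} ∨ g.cycleType = {3, 3} := by
  obtain ⟨n, hn⟩ := cycleType_prime_order (σ := g) (by rw [hg]; exact Nat.prime_three)
  rw [hg] at hn
  have h1 := g.sum_cycleType
  rw [hn, Multiset.sum_replicate] at h1
  have h2 : g.support.card ≤ 6 := by
    have := Finset.card_le_univ g.support
    simpa using this
  have h3 : n = 0 ∨ n = 1 := by
    simp only [smul_eq_mul] at h1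
    omega
  rcases h3 with rfl | rfl
  · left; rw [hn]; rfl
  · right; rw [hn]; rfl

/-- elements of type `{3,3}` are conjugate in `A6` -/
theorem conj33 (x y : alternatingGroup (Fin 6)) (hx : (x : Perm (Fin 6)).cycleType = {3, 3})
    (hy : (y : Perm (Fin 6)).cycleType = {3, 3}) :
    ∃ h : alternatingGroup (Fin 6), h * x * h⁻¹ = y := by
  obtain ⟨c, hc⟩ := isConj_iff.1 ((isConj_iff_cycleType_eq (σ := (x : Perm (Fin 6)))
    (τ := (y : Perm (Fin 6)))).2 (by rw [hx, hy]))
  obtain ⟨d, hd⟩ := isConj_iff.1 ((isConj_iff_cycleType_eq (σ := x0)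
    (τ := (x : Perm (Fin 6)))).2 (by rw [hx, x0_type]))
  rcases Int.units_eq_one_or (sign c) with h | h
  · exact ⟨⟨c, mem_alternatingGroup.2 h⟩, Subtype.ext hc⟩
  · refine ⟨⟨c * (d * t0 * d⁻¹), mem_alternatingGroup.2 ?_⟩, Subtype.ext ?_⟩
    · simp only [map_mul, map_inv, h, t0_sign]
      rw [mul_comm (sign d), mul_assoc (-1 : ℤˣ), mul_inv_cancel]
      rfl
    · change c * (d * t0 * d⁻¹) * (x : Perm (Fin 6)) * (c * (d * t0 * d⁻¹))⁻¹ = y
      rw [← hc, ← hd]
      have h1 : t0 * x0 * t0⁻¹ = x0 := by rw [t0_comm]; group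
      calc c * (d * t0 * d⁻¹) * (d * x0 * d⁻¹) * (c * (d * t0 * d⁻¹))⁻¹
          = c * (d * (t0 * x0 * t0⁻¹) * d⁻¹) * c⁻¹ := by group
        _ = c * (d * x0 * d⁻¹) * c⁻¹ := by rw [h1]

/-- piece `aut6b` -/
theorem preserve_of_fix (φ : MulAut (alternatingGroup (Fin 6))) (x : alternatingGroup (Fin 6))
    (hx : orderOf x = 3) (hφx : φ x = x) (g : alternatingGroup (Fin 6))
    (hg : (g : Equiv.Perm (Fin 6)).IsThreeCycle) :
    ((φ g : alternatingGroup (Fin 6)) : Equiv.Perm (Fin 6)).IsThreeCycle := by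
  have hx' : orderOf (x : Perm (Fin 6)) = 3 := by rw [Subgroup.orderOf_coe, hx]
  have hgo : orderOf g = 3 := by rw [← Subgroup.orderOf_coe]; exact hg.orderOf
  have hφg : orderOf ((φ g : alternatingGroup (Fin 6)) : Perm (Fin 6)) = 3 := by
    rw [Subgroup.orderOf_coe, φ.orderOf_eq, hgo]
  rcases type_of_order hx' with h | h
  · -- `x` is a 3-cycle
    obtain ⟨c, hc⟩ := isConj_iff.1 (alternatingGroup.isThreeCycle_isConj (by simp)
      (show (x : Perm (Fin 6)).IsThreeCycle from h) hg)
    have h1 : φ g = φ c * x * (φ c)⁻¹ := by rw [← hc, map_mul, map_mul, map_inv, hφx]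
    rw [h1]
    change ((φ c : Perm (Fin 6)) * x * (φ c : Perm (Fin 6))⁻¹).IsThreeCycle
    have h2 : ((φ c : Perm (Fin 6)) * x * (φ c : Perm (Fin 6))⁻¹).cycleType = {3} := by
      rw [cycleType_conj]; exact h
    exact h2
  · rcases type_of_order hφg with h' | h'
    · exact h'
    · exfalso
      obtain ⟨k, hk⟩ := conj33 x (φ g) h h'
      obtain ⟨k', rfl⟩ := φ.surjective k
      have h1 : φ (k' * x * k'⁻¹) = φ g := by rw [map_mul, map_mul, map_inv, hφx, hk]
      have h2 := φ.injective h1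
      have h3 : (g : Perm (Fin 6)).cycleType = {3, 3} := by
        rw [← h2, ← h]
        exact cycleType_conj
      rw [hg] at h3
      exact absurd h3 (by decide)

end Cfsg.Agent.Lib.Helper75P29aut6b
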