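import Mathlib
import Cfsg.Agent.S2119
import Cfsg.Agent.Lib.Helper29P29aut6a
import Cfsg.Agent.Lib.Helper75P29aut6b

set_option autoImplicit false

/-! Tools for S4231: `r`-subgroups of `Aut(A_n)` are abelian for `n < r ^ 2`; elements of order `p q`. -/

namespace Cfsg.Agent.Lib.Helper29AltPQ

open Equiv Equiv.Perm

/-- an `r`-group of permutations of fewer than `r ^ 2` points is abelian -/
theorem perm_pgroup_comm {α : Type*} [Fintype α] [DecidableEq α] (r : ℕ) [Fact r.Prime]
    (hα : Fintype.card α < r ^ 2) (X : Subgroup (Perm α)) (hX : IsPGroup r X)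
    (a b : Perm α) (ha : a ∈ X) (hb : b ∈ X) : a * b = b * a := by
  have hr : r.Prime := Fact.out
  have key : ∀ x : α, commutator X ≤ MulAction.stabilizer X x := by
    intro x
    obtain ⟨k, hk⟩ := hX.index (MulAction.stabilizer X x)
    have h1 : (MulAction.stabilizer X x).index ≤ Fintype.card α := by
      rw [MulAction.index_stabilizer, ← Nat.card_eq_fintype_card, ← Set.ncard_univ]
      exact Set.ncard_le_ncard (Set.subset_univ _) Set.finite_univ
    have hk1 : k < 2 := by
      rw [hk] at h1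
      exact (Nat.pow_lt_pow_iff_right hr.one_lt).1 (lt_of_le_of_lt h1 hα)
    rcases Nat.lt_succ_iff_lt_or_eq.1 hk1 with h0 | h0
    · have hk0 : k = 0 := by omega
      rw [hk0, pow_zero, Subgroup.index_eq_one] at hk
      rw [hk]
      exact le_top
    · rw [h0, pow_one] at hk
      obtain ⟨m, hm⟩ := (IsPGroup.iff_card (p := r)).1 hX
      have hm0 : m ≠ 0 := by
        rintro rfl
        have h2 := Subgroup.index_dvd_card (MulAction.stabilizer X x)
        rw [hk, hm, pow_zero] at h2
        exact hr.one_lt.ne' (Nat.dvd_one.1 h2)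
      have hN : (MulAction.stabilizer X x).Normal := by
        apply Subgroup.normal_of_index_eq_minFac_card
        rw [hk, hm, hr.pow_minFac hm0]
      have hc : Nat.card (X ⧸ MulAction.stabilizer X x) = r := hk
      have hcyc : IsCyclic (X ⧸ MulAction.stabilizer X x) := isCyclic_of_prime_card hc
      rw [← Subgroup.Normal.quotient_commutative_iff_commutator_le]
      exact IsCyclic.isMulCommutative
  have h2 : (⟨a, ha⟩ : X) * ⟨b, hb⟩ * (⟨a, ha⟩ : X)⁻¹ * (⟨b, hb⟩ : X)⁻¹ ∈ commutator X := by
    rw [commutator_def]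
    exact Subgroup.commutator_mem_commutator (Subgroup.mem_top _) (Subgroup.mem_top _)
  have h3 : a * b * a⁻¹ * b⁻¹ = 1 := by
    ext x
    have h4 := key x h2
    rw [MulAction.mem_stabilizer_iff] at h4
    exact h4
  calc a * b = (a * b * a⁻¹ * b⁻¹) * (b * a) := by group
    _ = b * a := by rw [h3, one_mul]

/-- an automorphism of `A_6` of odd order preserves the class of 3-cycles -/
theorem preserve_of_odd (φ : MulAut (alternatingGroup (Fin 6))) (m : ℕ) (hm : Odd m)
    (hφ : φ ^ m = 1) (g0 : alternatingGroup (Fin 6)) (hg0 : (g0 : Perm (Fin 6)).IsThreeCycle) :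
    ((φ g0 : alternatingGroup (Fin 6)) : Perm (Fin 6)).IsThreeCycle := by
  by_contra hcon
  have ho : ∀ (ψ : MulAut (alternatingGroup (Fin 6))) (g : alternatingGroup (Fin 6)),
      orderOf g = 3 → orderOf (ψ g) = 3 := fun ψ g hg => by rw [ψ.orderOf_eq, hg]
  have hty : ∀ g : alternatingGroup (Fin 6), orderOf g = 3 → ¬ (g : Perm (Fin 6)).IsThreeCycle →
      (g : Perm (Fin 6)).cycleType = {3, 3} := by
    intro g hg h3
    rcases Helper75P29aut6b.type_of_order (g := (g : Perm (Fin 6)))
      (by rw [Subgroup.orderOf_coe, hg]) with h | h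
    · exact absurd h h3
    · exact h
  have hg0o : orderOf g0 = 3 := by rw [← Subgroup.orderOf_coe]; exact hg0.orderOf
  have hsw : ∀ g : alternatingGroup (Fin 6), orderOf g = 3 →
      (((φ g : alternatingGroup (Fin 6)) : Perm (Fin 6)).IsThreeCycle ↔
        ¬ (g : Perm (Fin 6)).IsThreeCycle) := by
    intro g hg
    constructor
    · intro h1 h2
      obtain ⟨c, hc⟩ := isConj_iff.1 (alternatingGroup.isThreeCycle_isConj (by simp) h2 hg0)
      apply hcon
      have h3 : φ g0 = φ c * φ g * (φ c)⁻¹ := by rw [← hc, map_mul, map_mul, map_inv]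
      rw [h3]
      change ((φ c : Perm (Fin 6)) * (φ g : Perm (Fin 6)) * (φ c : Perm (Fin 6))⁻¹).cycleType = {3}
      rw [cycleType_conj]
      exact h1
    · intro h2
      by_contra h1
      obtain ⟨k, hk⟩ := Helper75P29aut6b.conj33 (φ g0) (φ g) (hty _ (ho φ g0 hg0o) hcon)
        (hty _ (ho φ g hg) h1)
      obtain ⟨k', rfl⟩ := φ.surjective k
      have h3 : φ (k' * g0 * k'⁻¹) = φ g := by rw [map_mul, map_mul, map_inv, hk]
      have h4 := φ.injective h3
      apply h2
      rw [← h4]
      change ((k' : Perm (Fin 6)) * (g0 : Perm (Fin 6)) * (k' : Perm (Fin 6))⁻¹).cycleType = {3}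
      rw [cycleType_conj]
      exact hg0
  have hpr : ∀ (k : ℕ) (g : alternatingGroup (Fin 6)), orderOf g = 3 →
      (((((φ * φ) ^ k) g : alternatingGroup (Fin 6)) : Perm (Fin 6)).IsThreeCycle ↔
        (g : Perm (Fin 6)).IsThreeCycle) := by
    intro k
    induction k with
    | zero => intro g _; simp
    | succ k ih =>
      intro g hg
      rw [pow_succ, MulAut.mul_apply, MulAut.mul_apply, ih _ (ho φ _ (ho φ g hg)),
        hsw _ (ho φ g hg), hsw g hg, not_not]
  obtain ⟨k, rfl⟩ := hm
  have h5 : φ ^ (2 * k + 1) = (φ * φ) ^ k * φ := by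
    rw [pow_succ, pow_mul, pow_two]
  have h6 := hpr k (φ g0) (ho φ g0 hg0o)
  rw [← MulAut.mul_apply, ← h5, hφ, MulAut.one_apply] at h6
  exact hcon (h6.1 hg0)

theorem conjNormal_injective (n : ℕ) (hn : 4 ≤ n) : Function.Injective
    (MulAut.conjNormal : Perm (Fin n) →* MulAut (alternatingGroup (Fin n))) :=
  (injective_iff_map_eq_one _).2 (fun σ h => Cfsg.Agent.S2119.inj n hn σ h)

/-- `r`-subgroups of `Aut(A_n)` are abelian for `r` odd and `n < r ^ 2` -/
theorem aut_pgroup_comm (n : ℕ) (hn : 5 ≤ n) (r : ℕ) [Fact r.Prime] (hr : n < r ^ 2) (hodd : r ≠ 2)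
    (X : Subgroup (MulAut (alternatingGroup (Fin n)))) (hX : IsPGroup r X)
    (a b : MulAut (alternatingGroup (Fin n))) (ha : a ∈ X) (hb : b ∈ X) : a * b = b * a := by
  have hrp : r.Prime := Fact.out
  have hsurj : ∀ φ ∈ X, ∃ σ : Perm (Fin n),
      (MulAut.conjNormal σ : MulAut (alternatingGroup (Fin n))) = φ := by
    intro φ hφ
    by_cases h6 : n = 6
    · subst h6
      obtain ⟨k, hk⟩ := hX ⟨φ, hφ⟩
      have hk' : φ ^ r ^ k = 1 := by simpa using congrArg Subtype.val hk
      exact Helper29P29aut6a.aut6_of_preserve φ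
        (preserve_of_odd φ (r ^ k) ((hrp.odd_of_ne_two hodd).pow) hk')
    · exact Cfsg.Agent.S2119.surj n (by omega) h6 φ
  obtain ⟨σ, rfl⟩ := hsurj a ha
  obtain ⟨τ, rfl⟩ := hsurj b hb
  have hY := hX.comap_of_injective _ (conjNormal_injective n (by omega))
  have h1 := perm_pgroup_comm r (by simpa using hr) _ hY σ τ ha hb
  rw [← map_mul, ← map_mul, h1]

/-- elements of order `p q` in `A_n` -/
theorem exists_order (n p q : ℕ) (hp : p.Prime) (hq : q.Prime) (hpq : p < q) (hn : q ^ 2 ≤ n) :
    ∃ g : alternatingGroup (Fin n), orderOf g = p * q := by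
  have hq3 : 3 ≤ q := by have := hp.two_le; omega
  have hqodd : Odd q := hq.odd_of_ne_two (by omega)
  have hcop : Nat.Coprime p q := (Nat.coprime_primes hp hq).2 hpq.ne
  by_cases h2 : p = 2
  · subst h2
    obtain ⟨g, hg⟩ := (exists_with_cycleType_iff (Fin n) (m := {2, 2, q})).2 ⟨by
      simp only [Multiset.insert_eq_cons, Multiset.sum_cons, Multiset.sum_singleton,
        Fintype.card_fin]
      nlinarith, by
      intro a ha
      simp only [Multiset.insert_eq_cons, Multiset.mem_cons, Multiset.mem_singleton] at ha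
      rcases ha with rfl | rfl | rfl <;> omega⟩
    have hs : sign g = 1 := by
      rw [sign_of_cycleType, hg]
      simp only [Multiset.insert_eq_cons, Multiset.sum_cons, Multiset.sum_singleton,
        Multiset.card_cons, Multiset.card_singleton]
      obtain ⟨k, rfl⟩ := hqodd
      exact Even.neg_one_pow ⟨k + 4, by ring⟩
    refine ⟨⟨g, mem_alternatingGroup.2 hs⟩, ?_⟩
    rw [Subgroup.orderOf_mk, ← lcm_cycleType, hg]
    simp only [Multiset.insert_eq_cons, Multiset.lcm_cons, Multiset.lcm_singleton, normalize_eq]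
    have h3 : lcm 2 q = 2 * q := hcop.lcm_eq_mul
    rw [h3]
    exact Nat.lcm_eq_right (Dvd.intro _ rfl)
  · have hpodd : Odd p := hp.odd_of_ne_two h2
    obtain ⟨g, hg⟩ := (exists_with_cycleType_iff (Fin n) (m := {p, q})).2 ⟨by
      simp only [Multiset.insert_eq_cons, Multiset.sum_cons, Multiset.sum_singleton,
        Fintype.card_fin]
      nlinarith, by
      intro a ha
      simp only [Multiset.insert_eq_cons, Multiset.mem_cons, Multiset.mem_singleton] at ha
      have := hp.two_le
      rcases ha with rfl | rfl <;> omega⟩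
    have hs : sign g = 1 := by
      rw [sign_of_cycleType, hg]
      simp only [Multiset.insert_eq_cons, Multiset.sum_cons, Multiset.sum_singleton,
        Multiset.card_cons, Multiset.card_singleton]
      obtain ⟨k, rfl⟩ := hqodd
      obtain ⟨l, rfl⟩ := hpodd
      exact Even.neg_one_pow ⟨k + l + 2, by ring⟩
    refine ⟨⟨g, mem_alternatingGroup.2 hs⟩, ?_⟩
    rw [Subgroup.orderOf_mk, ← lcm_cycleType, hg]
    simp only [Multiset.insert_eq_cons, Multiset.lcm_cons, Multiset.lcm_singleton, normalize_eq]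
    exact hcop.lcm_eq_mul

end Cfsg.Agent.Lib.Helper29AltPQ
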