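import Cfsg.Agent.S0848

/-!
# Groups with an involution whose centralizer is dihedral of order 8
-/

set_option autoImplicit false

namespace Cfsg.Agent.Lib.Helper29D8a

open Cfsg Cfsg.Agent.S0848
open Cfsg.Agent.Lib.Helper25Exp Cfsg.Agent.Lib.Helper29DihF Cfsg.Agent.Lib.Helper29DihH
open Subgroup DihedralGroup

theorem sylow_of_cent {G : Type*} [Group G] [Finite G] (t : G) (ht : orderOf t = 2)
    (e : centralizer ({t} : Set G) ≃* DihedralGroup 4) :
    ∃ P : Sylow 2 G, (P : Subgroup G) = centralizer ({t} : Set G) := by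
  classical
  have : Fact (Nat.Prime 2) := ⟨Nat.prime_two⟩
  have := Fintype.ofFinite G
  set C := centralizer ({t} : Set G) with hC
  have hcardC : Nat.card C = 8 := by rw [Nat.card_congr e.toEquiv, DihedralGroup.nat_card]
  have hCp : IsPGroup 2 C := IsPGroup.of_card (n := 3) (by rw [hcardC]; norm_num)
  obtain ⟨P, hCP⟩ := hCp.exists_le_sylow
  have htC : t ∈ C := mem_centralizer_singleton_iff.mpr rfl
  have ht1 : t ≠ 1 := by
    rintro rfl
    rw [orderOf_one] at ht
    omega
  have hcen : ∀ z : C, (∀ c : C, z * c = c * z) → z ≠ 1 → e z = r 2 := by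
    intro z hz hz1
    rcases center_d4 (e z) (fun y => by
      rw [← e.apply_symm_apply y, ← map_mul, ← map_mul, hz]) with h | h
    · exact absurd ((MulEquiv.map_eq_one_iff e).mp h) hz1
    · exact h
  have het : e ⟨t, htC⟩ = r 2 := by
    apply hcen
    · intro c
      exact Subtype.ext (mem_centralizer_singleton_iff.mp c.2).symm
    · intro h
      exact ht1 (congrArg Subtype.val h)
  have hPC : (P : Subgroup G) = C := by
    refine le_antisymm ?_ hCP
    have hnt : Nontrivial (P : Subgroup G) :=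
      ⟨⟨⟨t, hCP htC⟩, 1, fun h => ht1 (congrArg Subtype.val h)⟩⟩
    have hcnt := P.2.center_nontrivial
    obtain ⟨z, hz1⟩ := exists_ne (1 : center (P : Subgroup G))
    have hzc : ∀ p : (P : Subgroup G), p * z.1 = z.1 * p := fun p => mem_center_iff.mp z.2 p
    have hzC : ((z.1 : (P : Subgroup G)) : G) ∈ C := by
      rw [hC, mem_centralizer_singleton_iff]
      exact (congrArg Subtype.val (hzc ⟨t, hCP htC⟩)).symm
    have hez : e ⟨_, hzC⟩ = r 2 := by
      apply hcen
      · intro c
        exact Subtype.ext (congrArg Subtype.val (hzc ⟨c, hCP c.2⟩)).symm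
      · intro h
        apply hz1
        apply Subtype.ext
        apply Subtype.ext
        exact congrArg (Subtype.val : C → G) h
    have hzt : ((z.1 : (P : Subgroup G)) : G) = t := by
      have := e.injective (hez.trans het.symm)
      exact congrArg Subtype.val this
    intro p hp
    rw [hC, mem_centralizer_singleton_iff, ← hzt]
    exact congrArg Subtype.val (hzc ⟨p, hp⟩)
  exact ⟨P, hPC⟩

theorem order_of_residual {G : Type*} [Group G] [Finite G] (hres : Cfsg.pResidual 2 G = ⊤) (t : G)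
    (ht : orderOf t = 2) (e : centralizer ({t} : Set G) ≃* DihedralGroup 4) :
    Nat.card G = 168 ∨ Nat.card G = 360 := by
  classical
  have : Fact (Nat.Prime 2) := ⟨Nat.prime_two⟩
  have := Fintype.ofFinite G
  set C := centralizer ({t} : Set G) with hC
  have hcardC : Nat.card C = 8 := by rw [Nat.card_congr e.toEquiv, DihedralGroup.nat_card]
  have hCp : IsPGroup 2 C := IsPGroup.of_card (n := 3) (by rw [hcardC]; norm_num)
  obtain ⟨P, hCP⟩ := hCp.exists_le_sylow
  have htC : t ∈ C := mem_centralizer_singleton_iff.mpr rfl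
  have ht1 : t ≠ 1 := by
    rintro rfl
    rw [orderOf_one] at ht
    omega
  have hcen : ∀ z : C, (∀ c : C, z * c = c * z) → z ≠ 1 → e z = r 2 := by
    intro z hz hz1
    rcases center_d4 (e z) (fun y => by
      rw [← e.apply_symm_apply y, ← map_mul, ← map_mul, hz]) with h | h
    · exact absurd ((MulEquiv.map_eq_one_iff e).mp h) hz1
    · exact h
  have het : e ⟨t, htC⟩ = r 2 := by
    apply hcen
    · intro c
      exact Subtype.ext (mem_centralizer_singleton_iff.mp c.2).symm
    · intro h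
      exact ht1 (congrArg Subtype.val h)
  have hPC : (P : Subgroup G) = C := by
    refine le_antisymm ?_ hCP
    have hnt : Nontrivial (P : Subgroup G) :=
      ⟨⟨⟨t, hCP htC⟩, 1, fun h => ht1 (congrArg Subtype.val h)⟩⟩
    have hcnt := P.2.center_nontrivial
    obtain ⟨z, hz1⟩ := exists_ne (1 : center (P : Subgroup G))
    have hzc : ∀ p : (P : Subgroup G), p * z.1 = z.1 * p := fun p => mem_center_iff.mp z.2 p
    have hzC : ((z.1 : (P : Subgroup G)) : G) ∈ C := by
      rw [hC, mem_centralizer_singleton_iff]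
      exact (congrArg Subtype.val (hzc ⟨t, hCP htC⟩)).symm
    have hez : e ⟨_, hzC⟩ = r 2 := by
      apply hcen
      · intro c
        exact Subtype.ext (congrArg Subtype.val (hzc ⟨c, hCP c.2⟩)).symm
      · intro h
        apply hz1
        apply Subtype.ext
        apply Subtype.ext
        exact congrArg (Subtype.val : C → G) h
    have hzt : ((z.1 : (P : Subgroup G)) : G) = t := by
      have := e.injective (hez.trans het.symm)
      exact congrArg Subtype.val this
    intro p hp
    rw [hC, mem_centralizer_singleton_iff, ← hzt]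
    exact congrArg Subtype.val (hzc ⟨p, hp⟩)
  let e' : (P : Subgroup G) ≃* DihedralGroup 4 := (MulEquiv.subgroupCongr hPC).trans e
  set σ : G := ((e.symm (r 1) : C) : G) with hσdef
  set τ : G := ((e.symm (sr 0) : C) : G) with hτdef
  have hσP : σ ∈ (P : Subgroup G) := by rw [hPC]; exact (e.symm (r 1)).2
  have hτP : τ ∈ (P : Subgroup G) := by rw [hPC]; exact (e.symm (sr 0)).2
  have hσo : orderOf σ = 4 := by
    rw [hσdef, Subgroup.orderOf_coe, MulEquiv.orderOf_eq, orderOf_r_one]
  have hτo : orderOf τ = 2 := by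
    rw [hτdef, Subgroup.orderOf_coe, MulEquiv.orderOf_eq, orderOf_sr]
  have hτ2 : τ * τ = 1 := by rw [← pow_two, ← hτo, pow_orderOf_eq_one]
  have hrel : τ * σ * τ⁻¹ = σ⁻¹ := by
    have h1 := Cfsg.Agent.Lib.Helper29DihC.sr_conj_r 4 1
    have h2 := congrArg (fun x => ((e.symm x : C) : G)) h1
    simp only [map_mul, map_inv] at h2
    exact h2
  have hgen : closure ({σ, τ} : Set G) = (P : Subgroup G) := by
    apply Subgroup.eq_of_le_of_card_ge
    · rw [closure_le]
      rintro x (rfl | rfl)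
      · exact hσP
      · exact hτP
    · rw [← dihHom_range σ τ (pow_of_order hσo) hτ2 hrel,
        ← Nat.card_congr (MonoidHom.ofInjective
          (dihHom_injective (by norm_num) σ τ hσo hτ2 hrel)).toEquiv, DihedralGroup.nat_card,
        hPC, hcardC]
  have hJ : σ ^ 2 = t := by
    have h1 : (e.symm (r 1)) ^ 2 = (⟨t, htC⟩ : C) := by
      apply e.injective
      rw [map_pow, MulEquiv.apply_symm_apply, het, r_pow]
      rfl
    exact congrArg Subtype.val h1
  have hστo : orderOf (σ * τ) = 2 := by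
    have h1 : σ * τ = ((e.symm (r 1 * sr 0) : C) : G) := by rw [map_mul]; rfl
    rw [h1, Subgroup.orderOf_coe, MulEquiv.orderOf_eq, r_mul_sr, orderOf_sr]
  have hconj : IsConj t τ ∧ IsConj t (σ * τ) := by
    constructor
    · exact isConj_iff.mpr (Cfsg.Agent.S0107.result P 2 le_rfl ⟨e'⟩ hres t τ ht hτo)
    · exact isConj_iff.mpr (Cfsg.Agent.S0107.result P 2 le_rfl ⟨e'⟩ hres t (σ * τ) ht hστo)
  obtain ⟨M, hM⟩ := Cfsg.Agent.Lib.Helper81ClassMul.exists_modular Nat.prime_two
  have hζ := Complex.isPrimitiveRoot_exp 4 (by norm_num)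
  obtain ⟨-, χ₁, χ₂, χ₃, χ', δ₁, δ₂, δ₃, hδ₁, -, -, -, hne1, -, -, -, -, -, -, hset, hvals, -⟩ :=
    Cfsg.Agent.S4481.result M hM 3 le_rfl P ⟨e'⟩ σ hσP hσo _ hζ
  have hmem : χ₁ ∈ Cfsg.principalBlock M G := by
    rw [hset]
    exact Or.inr (Or.inl rfl)
  obtain ⟨hxne, Hmain⟩ := Cfsg.Agent.S4482.result M hM 3 le_rfl P σ τ hσP hτP hσo hτo hrel hgen
    (by
      have : σ ^ 2 ^ (3 - 2) = t := hJ
      rw [this]; exact hconj) χ₁ hmem hne1 δ₁ hδ₁ (fun l h0 hl => (hvals l h0 hl).1)
  have hJ' : σ ^ 2 ^ (3 - 2) = t := hJ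
  rw [hJ'] at Hmain
  have hc1 : Nat.card (centralizer ({t, τ} : Set G)) = 4 := by
    rw [← card_cent_pair (J := t) (e.symm (sr 0)).2, card_cent_equiv e]
    have : e ⟨τ, (e.symm (sr 0)).2⟩ = sr 0 := e.apply_symm_apply _
    rw [this, card_cent_d4]
  have hc2 : Nat.card (centralizer ({t, σ * τ} : Set G)) = 4 := by
    have h1 : σ * τ = ((e.symm (sr (-1)) : C) : G) := by
      have : (sr (-1) : DihedralGroup 4) = r 1 * sr 0 := by rw [r_mul_sr, zero_sub]
      rw [this, map_mul]; rfl
    rw [h1, ← card_cent_pair (J := t) (e.symm (sr (-1))).2, card_cent_equiv e]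
    have : e ⟨((e.symm (sr (-1)) : C) : G), (e.symm (sr (-1))).2⟩ = sr (-1) :=
      e.apply_symm_apply _
    rw [this, card_cent_d4]
  rw [hc1, hc2] at Hmain
  have hc0 : Nat.card (centralizer ({t} : Set G)) = 8 := hcardC
  rw [hc0] at Hmain
  obtain ⟨x, hxpos, hx⟩ := Cfsg.Agent.Lib.Helper81Base.irr_one χ₁
  have hdeg : Cfsg.charDegree (χ₁ : G → ℂ) = x := by
    unfold Cfsg.charDegree
    rw [hx]
    simp
  rw [hdeg] at Hmain hxne
  have hidx : ¬ 2 ∣ (P : Subgroup G).index := P.not_dvd_index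
  have hcard : Nat.card G = 8 * (P : Subgroup G).index := by
    rw [← (P : Subgroup G).card_mul_index, hPC, hcardC]
  obtain ⟨k, hk⟩ : ∃ k, (P : Subgroup G).index = 2 * k + 1 := ⟨(P : Subgroup G).index / 2, by omega⟩
  apply arith (Nat.card G) x δ₁ hδ₁ hxpos hxne k (by rw [hcard, hk])
  have H2 : (Nat.card G : ℚ) * ((x : ℚ) - δ₁) ^ 2 = 256 * x * ((x : ℚ) + δ₁) := by
    rw [Hmain]
    push_cast
    ring
  exact_mod_cast H2


end Cfsg.Agent.Lib.Helper29D8a
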