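import Mathlib
import Cfsg.Prelude.Def_Blocks
import Cfsg.Agent.Lib.Helper29BSa

set_option autoImplicit false
set_option linter.unusedSectionVars false
open Cfsg

namespace Cfsg.Agent.Lib.Helper29DihA

open Cfsg.Agent.Lib.Helper25Exp Cfsg.Agent.Lib.Helper29BSa
open scoped ComplexConjugate

variable {q : ℕ} [NeZero q]

/-- the additive character `x ↦ w ^ x` of `ZMod q` -/
noncomputable def ee (w : ℂˣ) (x : ZMod q) : ℂ := ((E q w x : ℂˣ) : ℂ)

variable {w : ℂˣ}

theorem ee_zero : ee w (0 : ZMod q) = 1 := by simp [ee, E_zero]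

theorem ee_add (hw : w ^ q = 1) (a b : ZMod q) : ee w (a + b) = ee w a * ee w b := by
  simp [ee, E_add hw]

theorem ee_neg_mul (hw : w ^ q = 1) (a : ZMod q) : ee w a * ee w (-a) = 1 := by
  rw [← ee_add hw, add_neg_cancel, ee_zero]

theorem ee_pow (hw : w ^ q = 1) (a : ZMod q) : (ee w a) ^ q = 1 := by
  have h1 : (E q w a) ^ q = 1 := by
    rw [E_pow hw]; simp [E_zero]
  have := congrArg (fun u : ℂˣ => (u : ℂ)) h1
  simpa [ee] using this

theorem conj_ee (hw : w ^ q = 1) (a : ZMod q) : conj (ee w a) = ee w (-a) := by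
  have hn : ‖ee w a‖ = 1 := Complex.norm_eq_one_of_pow_eq_one (ee_pow hw a) (NeZero.ne q)
  have h1 : ee w a * conj (ee w a) = 1 := by
    rw [Complex.mul_conj, Complex.normSq_eq_norm_sq, hn]; simp
  have h2 := ee_neg_mul hw a
  have h0 : ee w a ≠ 0 := by
    intro h; rw [h, zero_mul] at h2; exact zero_ne_one h2
  exact mul_left_cancel₀ h0 (h1.trans h2.symm)

theorem ee_eq_one_iff (hw : orderOf w = q) (a : ZMod q) : ee w a = 1 ↔ a = 0 := by
  rw [← E_eq_one hw]
  unfold ee
  exact Units.val_eq_one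

theorem sum_ee (hw : orderOf w = q) (c : ZMod q) :
    ∑ l : ZMod q, ee w (c * l) = if c = 0 then (q : ℂ) else 0 := by
  have hwq := pow_of_order hw
  split_ifs with hc
  · subst hc
    simp [ee_zero]
  · apply sum_eq_zero_of_mul (fun l => ee w (c * l))
    · intro a b
      simp only [mul_add, ee_add hwq]
    · simp only [mul_one]
      rw [Ne, ee_eq_one_iff hw]
      exact hc

theorem sum_ee' (hw : orderOf w = q) (c : ZMod q) :
    ∑ l : ZMod q, ee w (l * c) = if c = 0 then (q : ℂ) else 0 := by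
  simp only [mul_comm _ c]
  exact sum_ee hw c

variable {G : Type*} [Group G]

/-- multiplicity of the trivial character minus the multiplicity of `λ_j` in `ζ` restricted to
`⟨α⟩`. -/
noncomputable def aa (w : ℂˣ) (α : G) (ζ : G → ℂ) (j : ZMod q) : ℂ :=
  (q : ℂ)⁻¹ * ∑ l : ZMod q, (1 - ee w (-(j * l))) * ζ (E q α l)

theorem aa_one (hw : orderOf w = q) (α : G) {j : ZMod q} (hj : j ≠ 0) :
    aa w α (fun _ => 1) j = 1 := by
  unfold aa
  have h1 : ∑ l : ZMod q, ee w (-(j * l)) = 0 := by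
    have := sum_ee hw (-j)
    rw [if_neg (neg_ne_zero.mpr hj)] at this
    simpa [neg_mul] using this
  simp only [mul_one, Finset.sum_sub_distrib, h1, sub_zero, Finset.sum_const,
    Finset.card_univ, ZMod.card, nsmul_eq_mul]
  exact inv_mul_cancel₀ (Nat.cast_ne_zero.mpr (NeZero.ne q))

theorem aa_int (hw : w ^ q = 1) {α : G} (hα : α ^ q = 1) {ζ : G → ℂ} (hζ : IsCharacter G ζ)
    (j : ZMod q) : ∃ z : ℤ, aa w α ζ j = z := by
  classical
  let ι : Multiplicative (ZMod q) →* G :=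
    MonoidHom.mk' (fun a => E q α (Multiplicative.toAdd a)) (fun a b => by
      rw [toAdd_mul, E_add hα])
  let f : Multiplicative (ZMod q) →* ℂˣ :=
    MonoidHom.mk' (fun a => E q w (j * (Multiplicative.toAdd a))) (fun a b => by
      rw [toAdd_mul, mul_add, E_add hw])
  have h1 : IsCharacter (Multiplicative (ZMod q)) (fun a => ζ (ι a)) :=
    Cfsg.Agent.Lib.Helper4Char4.IsCharacter.comp ι hζ
  have h2 : IsCharacter (Multiplicative (ZMod q)) (fun _ => (1 : ℂ)) :=
    Cfsg.Agent.Lib.Helper4Char.IsIrrCharacter.isCharacter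
      Cfsg.Agent.Lib.Helper82Linear.isIrrCharacter_one
  have h3 : IsCharacter (Multiplicative (ZMod q)) (fun a => ((f a : ℂˣ) : ℂ)) :=
    Cfsg.Agent.Lib.Helper4Char.IsIrrCharacter.isCharacter
      (Cfsg.Agent.Lib.Helper82Linear.isIrrCharacter_of_hom f)
  obtain ⟨n1, hn1⟩ := Cfsg.Agent.Lib.Helper4Char4.IsCharacter.classInner_nat h1 h2
  obtain ⟨n2, hn2⟩ := Cfsg.Agent.Lib.Helper4Char4.IsCharacter.classInner_nat h1 h3
  refine ⟨(n1 : ℤ) - n2, ?_⟩
  push_cast
  rw [← hn1, ← hn2]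
  unfold aa classInner
  have hcard : (Nat.card (Multiplicative (ZMod q)) : ℂ) = q := by
    rw [Nat.card_eq_fintype_card, Fintype.card_multiplicative, ZMod.card]
  rw [hcard, ← mul_sub, ← Finset.sum_sub_distrib]
  congr 1
  rw [← Equiv.sum_comp (Multiplicative.toAdd : Multiplicative (ZMod q) ≃ ZMod q)]
  refine Finset.sum_congr rfl fun a _ => ?_
  have e1 : conj (((f a : ℂˣ) : ℂ)) = ee w (-(j * Multiplicative.toAdd a)) := by
    have : ((f a : ℂˣ) : ℂ) = ee w (j * (Multiplicative.toAdd a)) := rfl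
    rw [this, conj_ee hw]
  rw [e1, map_one]
  show _ = ζ (E q α (Multiplicative.toAdd a)) * 1 - ζ (E q α (Multiplicative.toAdd a)) * _
  ring

theorem conj_aa (hw : w ^ q = 1) (α : G) (ζ : G → ℂ) (k : ZMod q) :
    conj (aa w α ζ k) = (q : ℂ)⁻¹ * ∑ l : ZMod q, (1 - ee w (k * l)) * conj (ζ (E q α l)) := by
  unfold aa
  simp only [map_mul, map_inv₀, map_natCast, map_sum, map_sub, map_one, conj_ee hw, neg_neg]

theorem aa_neg {α : G} {ζ : G → ℂ} (hs : ∀ l : ZMod q, ζ (E q α (-l)) = ζ (E q α l))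
    (j : ZMod q) : aa w α ζ (-j) = aa w α ζ j := by
  unfold aa
  congr 1
  rw [← Equiv.sum_comp (Equiv.neg (ZMod q))]
  refine Finset.sum_congr rfl fun l _ => ?_
  simp only [Equiv.neg_apply, hs, neg_mul_neg]

theorem gram (hw : orderOf w = q) (α : G) (Bf : Finset (IrrCharacter G))
    (hΦ : ∀ l l' : ZMod q, l ≠ 0 → l' ≠ 0 →
      ∑ ζ ∈ Bf, (ζ : G → ℂ) (E q α l) * conj ((ζ : G → ℂ) (E q α l')) =
        (if l' = l then (q : ℂ) else 0) + (if l' = -l then (q : ℂ) else 0))
    {j k : ZMod q} (hj : j ≠ 0) (hk : k ≠ 0) :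
    ∑ ζ ∈ Bf, aa w α (ζ : G → ℂ) j * conj (aa w α (ζ : G → ℂ) k) =
      2 + (if k = j then 1 else 0) + (if k = -j then 1 else 0) := by
  classical
  have hwq := pow_of_order hw
  have hq0 : (q : ℂ) ≠ 0 := Nat.cast_ne_zero.mpr (NeZero.ne q)
  have key : ∀ ζ : IrrCharacter G, aa w α (ζ : G → ℂ) j * conj (aa w α (ζ : G → ℂ) k) =
      (q : ℂ)⁻¹ * (q : ℂ)⁻¹ * ∑ l : ZMod q, ∑ l' : ZMod q,
        (1 - ee w (-(j * l))) * (1 - ee w (k * l')) *
        ((ζ : G → ℂ) (E q α l) * conj ((ζ : G → ℂ) (E q α l'))) := by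
    intro ζ
    rw [conj_aa hwq]
    unfold aa
    rw [mul_mul_mul_comm, Finset.sum_mul_sum]
    congr 1
    refine Finset.sum_congr rfl fun l _ => Finset.sum_congr rfl fun l' _ => ?_
    ring
  simp only [key]
  rw [← Finset.mul_sum, Finset.sum_comm]
  have inner : ∀ l : ZMod q, ∑ ζ ∈ Bf, ∑ l' : ZMod q,
        (1 - ee w (-(j * l))) * (1 - ee w (k * l')) *
        ((ζ : G → ℂ) (E q α l) * conj ((ζ : G → ℂ) (E q α l'))) =
      (q : ℂ) * (2 - ee w (k * l) - ee w ((-k) * l) - 2 * ee w ((-j) * l) + ee w ((k - j) * l)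
        + ee w ((-(k + j)) * l)) := by
    intro l
    rw [Finset.sum_comm]
    simp only [← Finset.mul_sum]
    by_cases hl : l = 0
    · subst hl
      simp only [mul_zero, neg_zero, ee_zero, sub_self, zero_mul, Finset.sum_const_zero]
      ring
    · have hk' : ∀ l' : ZMod q, (1 - ee w (-(j * l))) * (1 - ee w (k * l')) *
          ∑ ζ ∈ Bf, (ζ : G → ℂ) (E q α l) * conj ((ζ : G → ℂ) (E q α l')) =
          (if l' = l then (1 - ee w (-(j * l))) * (1 - ee w (k * l')) * (q : ℂ) else 0) +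
          (if l' = -l then (1 - ee w (-(j * l))) * (1 - ee w (k * l')) * (q : ℂ) else 0) := by
        intro l'
        by_cases hl' : l' = 0
        · subst hl'
          have h1 : (0 : ZMod q) ≠ l := fun h => hl h.symm
          have h2 : (0 : ZMod q) ≠ -l := fun h => hl (neg_eq_zero.mp h.symm)
          simp [ee_zero, h1, h2]
        · rw [hΦ l l' hl hl']
          split_ifs <;> ring
      simp only [hk']
      rw [Finset.sum_add_distrib, Finset.sum_ite_eq' Finset.univ l,
        Finset.sum_ite_eq' Finset.univ (-l)]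
      simp only [Finset.mem_univ, if_true]
      have e1 : ee w ((k - j) * l) = ee w (k * l) * ee w (-(j * l)) := by
        rw [← ee_add hwq]; congr 1; ring
      have e2 : ee w ((-(k + j)) * l) = ee w (k * -l) * ee w (-(j * l)) := by
        rw [← ee_add hwq]; congr 1; ring
      have e3 : ee w ((-k) * l) = ee w (k * -l) := by congr 1; ring
      have e4 : ee w ((-j) * l) = ee w (-(j * l)) := by congr 1; ring
      rw [e1, e2, e3, e4]
      ring
  simp only [inner]
  rw [← Finset.mul_sum]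
  simp only [Finset.sum_add_distrib, Finset.sum_sub_distrib, ← Finset.mul_sum, sum_ee hw,
    Finset.sum_const, Finset.card_univ, ZMod.card, nsmul_eq_mul]
  have c1 : (-k = 0) = False := by simp [hk]
  have c2 : (-j = 0) = False := by simp [hj]
  have c3 : (k - j = 0) = (k = j) := by rw [sub_eq_zero]
  have c4 : (-(k + j) = 0) = (k = -j) := by
    rw [neg_eq_zero, add_eq_zero_iff_eq_neg]
  simp only [c1, c2, c3, c4, hk, if_false]
  split_ifs <;> field_simp <;> ring

theorem inversion (hw : orderOf w = q) (α : G) (ζ : G → ℂ) {l : ZMod q} (hl : l ≠ 0) :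
    ζ (E q α l) = - ∑ j : ZMod q, aa w α ζ j * ee w (j * l) := by
  classical
  have hwq := pow_of_order hw
  have hq0 : (q : ℂ) ≠ 0 := Nat.cast_ne_zero.mpr (NeZero.ne q)
  unfold aa
  have h1 : ∀ j : ZMod q, (q : ℂ)⁻¹ * (∑ l' : ZMod q, (1 - ee w (-(j * l'))) * ζ (E q α l')) *
      ee w (j * l) = (q : ℂ)⁻¹ * ∑ l' : ZMod q, ζ (E q α l') *
        (ee w (j * l) - ee w (j * (l - l'))) := by
    intro j
    rw [mul_assoc, Finset.sum_mul]
    congr 1
    refine Finset.sum_congr rfl fun l' _ => ?_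
    have : ee w (j * (l - l')) = ee w (j * l) * ee w (-(j * l')) := by
      rw [← ee_add hwq]; congr 1; ring
    rw [this]; ring
  simp only [h1]
  rw [← Finset.mul_sum, Finset.sum_comm]
  simp only [← Finset.mul_sum, Finset.sum_sub_distrib, sum_ee' hw, hl, if_false, zero_sub,
    sub_eq_zero]
  have h2 : ∀ l' : ZMod q, ζ (E q α l') * -(if l = l' then (q : ℂ) else 0) =
      if l' = l then -(ζ (E q α l') * q) else 0 := by
    intro l'
    by_cases h : l = l'
    · subst h; simp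
    · have h' : l' ≠ l := fun e => h e.symm
      simp [h, h']
  simp only [h2]
  rw [Finset.sum_ite_eq' Finset.univ l]
  simp only [Finset.mem_univ, if_true]
  field_simp

theorem sum_aa_mul (α : G) (Bf : Finset (IrrCharacter G)) (g : G)
    (hΨ : ∀ l : ZMod q, l ≠ 0 → ∑ ζ ∈ Bf, (ζ : G → ℂ) (E q α l) * (ζ : G → ℂ) g = 0)
    (j : ZMod q) :
    ∑ ζ ∈ Bf, aa w α (ζ : G → ℂ) j * (ζ : G → ℂ) g = 0 := by
  unfold aa
  simp only [mul_assoc, Finset.sum_mul, ← Finset.mul_sum]
  rw [Finset.sum_comm]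
  rw [Finset.sum_eq_zero, mul_zero]
  intro l _
  rw [← Finset.mul_sum]
  by_cases hl : l = 0
  · subst hl
    simp [ee_zero]
  · rw [hΨ l hl, mul_zero]

end Cfsg.Agent.Lib.Helper29DihA
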