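import Mathlib

set_option autoImplicit false
set_option linter.unusedSectionVars false

namespace Cfsg.Agent.Lib.Helper29DihB

variable {ι : Type*} [DecidableEq ι]

theorem sq_one_cases {x : ℤ} (h : x ^ 2 = 1) : x = 1 ∨ x = -1 := by
  have h2 : (x - 1) * (x + 1) = 0 := by linear_combination h
  rcases mul_eq_zero.mp h2 with h3 | h3
  · left; omega
  · right; omega

theorem sq_eq_one_of_le {x : ℤ} (h0 : x ≠ 0) (h : x ^ 2 ≤ 3) : x ^ 2 = 1 := by
  have h2 : x ≤ 1 := by nlinarith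
  have h3 : -1 ≤ x := by nlinarith
  interval_cases x <;> simp_all

theorem support_card (T : Finset ι) (f : ι → ℤ) (N : ℕ) (hN : N ≤ 3)
    (h : ∑ i ∈ T, f i ^ 2 = N) :
    (T.filter (fun i => f i ≠ 0)).card = N ∧ ∀ i ∈ T, f i ≠ 0 → f i ^ 2 = 1 := by
  have hle : ∀ i ∈ T, f i ^ 2 ≤ 3 := by
    intro i hi
    have := Finset.single_le_sum (f := fun i => f i ^ 2) (fun i _ => sq_nonneg (f i)) hi
    rw [h] at this
    have : (N : ℤ) ≤ 3 := by exact_mod_cast hN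
    omega
  have hone : ∀ i ∈ T, f i ≠ 0 → f i ^ 2 = 1 := fun i hi h0 => sq_eq_one_of_le h0 (hle i hi)
  refine ⟨?_, hone⟩
  have h1 : ∑ i ∈ T, f i ^ 2 = ∑ i ∈ T.filter (fun i => f i ≠ 0), f i ^ 2 := by
    rw [Finset.sum_filter_of_ne]
    intro i _ hne h0
    exact hne (by rw [h0]; rfl)
  have h2 : ∑ i ∈ T.filter (fun i => f i ≠ 0), f i ^ 2 =
      ∑ i ∈ T.filter (fun i => f i ≠ 0), (1 : ℤ) :=
    Finset.sum_congr rfl fun i hi =>
      hone i (Finset.mem_filter.mp hi).1 (Finset.mem_filter.mp hi).2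
  rw [h1, h2] at h
  simp at h
  exact_mod_cast h

theorem two_support (T : Finset ι) (f : ι → ℤ) (h : ∑ i ∈ T, f i ^ 2 = 2) :
    ∃ b c, b ∈ T ∧ c ∈ T ∧ b ≠ c ∧ f b ^ 2 = 1 ∧ f c ^ 2 = 1 ∧
      ∀ i ∈ T, i ≠ b → i ≠ c → f i = 0 := by
  obtain ⟨h1, h2⟩ := support_card T f 2 (by norm_num) (by exact_mod_cast h)
  obtain ⟨b, c, hbc, hS⟩ := Finset.card_eq_two.mp h1
  have hb : b ∈ T.filter (fun i => f i ≠ 0) := by rw [hS]; simp
  have hc : c ∈ T.filter (fun i => f i ≠ 0) := by rw [hS]; simp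
  rw [Finset.mem_filter] at hb hc
  refine ⟨b, c, hb.1, hc.1, hbc, h2 b hb.1 hb.2, h2 c hc.1 hc.2, ?_⟩
  intro i hi hib hic
  by_contra h0
  have : i ∈ T.filter (fun i => f i ≠ 0) := Finset.mem_filter.mpr ⟨hi, h0⟩
  rw [hS] at this
  simp at this
  tauto

theorem three_support (T : Finset ι) (f : ι → ℤ) (h : ∑ i ∈ T, f i ^ 2 = 3) :
    ∃ b c e, b ∈ T ∧ c ∈ T ∧ e ∈ T ∧ b ≠ c ∧ b ≠ e ∧ c ≠ e ∧ f b ^ 2 = 1 ∧ f c ^ 2 = 1 ∧
      f e ^ 2 = 1 ∧ ∀ i ∈ T, i ≠ b → i ≠ c → i ≠ e → f i = 0 := by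
  obtain ⟨h1, h2⟩ := support_card T f 3 (by norm_num) (by exact_mod_cast h)
  obtain ⟨b, c, e, hbc, hbe, hce, hS⟩ := Finset.card_eq_three.mp h1
  have hb : b ∈ T.filter (fun i => f i ≠ 0) := by rw [hS]; simp
  have hc : c ∈ T.filter (fun i => f i ≠ 0) := by rw [hS]; simp
  have he : e ∈ T.filter (fun i => f i ≠ 0) := by rw [hS]; simp
  rw [Finset.mem_filter] at hb hc he
  refine ⟨b, c, e, hb.1, hc.1, he.1, hbc, hbe, hce, h2 b hb.1 hb.2, h2 c hc.1 hc.2,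
    h2 e he.1 he.2, ?_⟩
  intro i hi hib hic hie
  by_contra h0
  have : i ∈ T.filter (fun i => f i ≠ 0) := Finset.mem_filter.mpr ⟨hi, h0⟩
  rw [hS] at this
  simp at this
  tauto

theorem sum_two {T : Finset ι} {b c : ι} (hb : b ∈ T) (hc : c ∈ T) (hbc : b ≠ c) (g : ι → ℤ)
    (h : ∀ i ∈ T, i ≠ b → i ≠ c → g i = 0) : ∑ i ∈ T, g i = g b + g c := by
  rw [← Finset.sum_pair hbc]
  symm
  apply Finset.sum_subset
  · intro i hi
    simp at hi
    rcases hi with rfl | rfl <;> assumption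
  · intro i hi hn
    simp at hn
    exact h i hi hn.1 hn.2

theorem sum_three {T : Finset ι} {b c e : ι} (hb : b ∈ T) (hc : c ∈ T) (he : e ∈ T)
    (hbc : b ≠ c) (hbe : b ≠ e) (hce : c ≠ e) (g : ι → ℤ)
    (h : ∀ i ∈ T, i ≠ b → i ≠ c → i ≠ e → g i = 0) : ∑ i ∈ T, g i = g b + g c + g e := by
  have h1 : ∑ i ∈ ({b, c, e} : Finset ι), g i = g b + g c + g e := by
    rw [Finset.sum_insert (by simp [hbc, hbe]), Finset.sum_pair hce]; ring
  rw [← h1]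
  symm
  apply Finset.sum_subset
  · intro i hi
    simp at hi
    rcases hi with rfl | rfl | rfl <;> assumption
  · intro i hi hn
    simp at hn
    exact h i hi hn.1 hn.2.1 hn.2.2

variable {q : ℕ} [NeZero q]

structure Data (T : Finset ι) (a : ι → ZMod q → ℤ) (d : ι → ℤ) (h : ZMod q) : Prop where
  hh0 : h ≠ 0
  hneg : -h = h
  honly : ∀ j : ZMod q, -j = j → j = 0 ∨ j = h
  one0 : (1 : ZMod q) ≠ 0
  oneh : (1 : ZMod q) ≠ h
  dpos : ∀ i ∈ T, 0 < d i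
  sym : ∀ i j, a i (-j) = a i j
  gram : ∀ j k, j ≠ 0 → k ≠ 0 → ∑ i ∈ T, a i j * a i k =
    1 + (if k = j then 1 else 0) + (if k = -j then 1 else 0)
  deg : ∀ j, j ≠ 0 → ∑ i ∈ T, a i j * d i = -1
  third : ∀ j k : ZMod q, j ≠ 0 → j ≠ h → k ≠ 0 → k ≠ h → k ≠ j → k ≠ -j →
    ∃ l, l ≠ 0 ∧ l ≠ h ∧ l ≠ j ∧ l ≠ -j ∧ l ≠ k ∧ l ≠ -k

/-- the local shape at a good index -/
def Shape (T : Finset ι) (a : ι → ZMod q → ℤ) (h j : ZMod q) (x y : ι) : Prop :=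
  x ∈ T ∧ y ∈ T ∧ x ≠ y ∧ a x j = a x h ∧ (a x h) ^ 2 = 1 ∧ (a y j) ^ 2 = 1 ∧ a y h = 0 ∧
    ∀ i ∈ T, i ≠ x → i ≠ y → a i j = 0

variable {T : Finset ι} {a : ι → ZMod q → ℤ} {d : ι → ℤ} {h : ZMod q}

theorem Data.norm_good (D : Data T a d h) {j : ZMod q} (hj : j ≠ 0) (hjh : j ≠ h) :
    ∑ i ∈ T, a i j ^ 2 = 2 := by
  have := D.gram j j hj hj
  have h1 : j ≠ -j := by
    intro e
    rcases D.honly j e.symm with h2 | h2
    · exact hj h2
    · exact hjh h2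
  rw [if_pos rfl, if_neg h1] at this
  simp only [pow_two]
  rw [this]; norm_num

theorem Data.norm_h (D : Data T a d h) : ∑ i ∈ T, a i h ^ 2 = 3 := by
  have := D.gram h h D.hh0 D.hh0
  rw [if_pos rfl, if_pos D.hneg.symm] at this
  simp only [pow_two]
  rw [this]; norm_num

theorem Data.ent_h (D : Data T a d h) {i : ι} (hi : i ∈ T) :
    a i h = 0 ∨ a i h = 1 ∨ a i h = -1 := by
  by_cases h0 : a i h = 0
  · exact Or.inl h0
  · right
    exact sq_one_cases ((support_card T (fun i => a i h) 3 (by norm_num)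
      (by exact_mod_cast D.norm_h)).2 i hi h0)

theorem Data.exists_shape (D : Data T a d h) {j : ZMod q} (hj : j ≠ 0) (hjh : j ≠ h) :
    ∃ x y, Shape T a h j x y := by
  obtain ⟨b, c, hb, hc, hbc, hb1, hc1, hz⟩ := two_support T (fun i => a i j) (D.norm_good hj hjh)
  have hg := D.gram j h hj D.hh0
  have h1 : h ≠ j := fun e => hjh e.symm
  have h2 : h ≠ -j := by
    intro e
    apply hjh
    have : -h = j := by rw [e, neg_neg]
    rw [← this, D.hneg]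
  rw [if_neg h1, if_neg h2, sum_two hb hc hbc (fun i => a i j * a i h) (by
    intro i hi h3 h4
    rw [hz i hi h3 h4, zero_mul])] at hg
  rcases sq_one_cases hb1 with e1 | e1 <;> rcases sq_one_cases hc1 with e2 | e2 <;>
    rcases D.ent_h hb with e3 | e3 | e3 <;> rcases D.ent_h hc with e4 | e4 | e4 <;>
    rw [e1, e2, e3, e4] at hg <;> first
    | (exfalso; revert hg; norm_num; done)
    | exact ⟨b, c, hb, hc, hbc, by rw [e1, e3], by rw [e3]; norm_num, by rw [e2]; norm_num, e4, hz⟩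
    | exact ⟨c, b, hc, hb, hbc.symm, by rw [e2, e4], by rw [e4]; norm_num, by rw [e1]; norm_num, e3,
        fun i hi h5 h6 => hz i hi h6 h5⟩

theorem Data.neg_good (D : Data T a d h) {j : ZMod q} (hj : j ≠ 0) (hjh : j ≠ h) :
    -j ≠ 0 ∧ -j ≠ h := by
  refine ⟨neg_ne_zero.mpr hj, ?_⟩
  intro e
  apply hjh
  have : j = -h := by rw [← e, neg_neg]
  rw [this, D.hneg]

section main

variable (D : Data T a d h) (x y : ZMod q → ι)
  (hxy : ∀ j, j ≠ 0 → j ≠ h → Shape T a h j (x j) (y j))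

include hxy in
theorem x_ne_y {j k : ZMod q} (hj : j ≠ 0) (hjh : j ≠ h) (hk : k ≠ 0) (hkh : k ≠ h) :
    x j ≠ y k := by
  intro e
  have h1 := (hxy j hj hjh).2.2.2.2.1
  have h2 := (hxy k hk hkh).2.2.2.2.2.2.1
  rw [e, h2] at h1
  norm_num at h1

include hxy in
theorem ax {j k : ZMod q} (hj : j ≠ 0) (hjh : j ≠ h) (hk : k ≠ 0) (hkh : k ≠ h) :
    a (x j) k = if x j = x k then a (x j) h else 0 := by
  by_cases e : x j = x k
  · rw [if_pos e, e]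
    exact (hxy k hk hkh).2.2.2.1
  · rw [if_neg e]
    exact (hxy k hk hkh).2.2.2.2.2.2.2 (x j) (hxy j hj hjh).1 e (x_ne_y x y hxy hj hjh hk hkh)

include hxy in
theorem ay {j k : ZMod q} (hj : j ≠ 0) (hjh : j ≠ h) (hk : k ≠ 0) (hkh : k ≠ h)
    (e : y j ≠ y k) : a (y j) k = 0 :=
  (hxy k hk hkh).2.2.2.2.2.2.2 (y j) (hxy j hj hjh).2.1
    (x_ne_y x y hxy hk hkh hj hjh).symm e

include D hxy in
theorem dich {j k : ZMod q} (hj : j ≠ 0) (hjh : j ≠ h) (hk : k ≠ 0) (hkh : k ≠ h)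
    (h1 : k ≠ j) (h2 : k ≠ -j) :
    (x j = x k ∧ y j ≠ y k) ∨ (x j ≠ x k ∧ y j = y k ∧ a (y j) j = a (y k) k) := by
  obtain ⟨m1, m2, m3, m4, m5, m6, m7, m8⟩ := hxy j hj hjh
  have hg := D.gram j k hj hk
  rw [if_neg h1, if_neg h2, sum_two m1 m2 m3 (fun i => a i j * a i k) (by
    intro i hi h3 h4
    rw [m8 i hi h3 h4, zero_mul])] at hg
  rw [ax x y hxy hj hjh hk hkh, m4] at hg
  have k6 := (hxy k hk hkh).2.2.2.2.2.1
  by_cases e : x j = x k
  · left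
    refine ⟨e, ?_⟩
    intro e2
    rw [if_pos e, e2] at hg
    rw [e2] at m6
    rcases sq_one_cases m5 with e3 | e3 <;> rcases sq_one_cases m6 with e4 | e4 <;>
      rcases sq_one_cases k6 with e5 | e5 <;> rw [e3, e4, e5] at hg <;> revert hg <;> norm_num
  · right
    rw [if_neg e] at hg
    have e2 : y j = y k := by
      by_contra e2
      rw [ay x y hxy hj hjh hk hkh e2] at hg
      norm_num at hg
    refine ⟨e, e2, ?_⟩
    rw [e2] at hg m6 ⊢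
    rcases sq_one_cases m6 with e4 | e4 <;>
      rcases sq_one_cases k6 with e5 | e5 <;> rw [e4, e5] at hg ⊢ <;> revert hg <;> norm_num

include D hxy in
theorem deg_shape {j : ZMod q} (hj : j ≠ 0) (hjh : j ≠ h) :
    a (x j) h * d (x j) + a (y j) j * d (y j) = -1 := by
  obtain ⟨m1, m2, m3, m4, m5, m6, m7, m8⟩ := hxy j hj hjh
  have hg := D.deg j hj
  rw [sum_two m1 m2 m3 (fun i => a i j * d i) (by
    intro i hi h3 h4
    rw [m8 i hi h3 h4, zero_mul]), m4] at hg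
  exact hg

include D hxy in
theorem x_const_aux {j k : ZMod q} (hj : j ≠ 0) (hjh : j ≠ h) (hk : k ≠ 0) (hkh : k ≠ h)
    (h1 : k ≠ j) (h2 : k ≠ -j) : x j = x k := by
  by_contra hne
  obtain ⟨l, hl, hlh, l1, l2, l3, l4⟩ := D.third j k hj hjh hk hkh h1 h2
  have d1 := dich D x y hxy hj hjh hk hkh h1 h2
  have d2 := dich D x y hxy hj hjh hl hlh l1 l2
  have d3 := dich D x y hxy hk hkh hl hlh l3 l4
  rcases d1 with d1 | ⟨-, e1, s1⟩
  · exact hne d1.1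
  have hjl : x j ≠ x l ∧ y j = y l ∧ a (y j) j = a (y l) l := by
    rcases d2 with ⟨e2, n2⟩ | d2
    · exfalso
      rcases d3 with ⟨e3, -⟩ | ⟨-, e3, -⟩
      · exact hne (e2.trans e3.symm)
      · exact n2 (e1.trans e3)
    · exact d2
  have hkl : x k ≠ x l := by
    rcases d3 with ⟨-, n3⟩ | d3
    · exact absurd (e1.symm.trans hjl.2.1) n3
    · exact d3.1
  have g1 := deg_shape D x y hxy hj hjh
  have g2 := deg_shape D x y hxy hk hkh
  have g3 := deg_shape D x y hxy hl hlh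
  rw [← s1, ← e1] at g2
  rw [← hjl.2.2, ← hjl.2.1] at g3
  have mj := (hxy j hj hjh)
  have mk := (hxy k hk hkh)
  have ml := (hxy l hl hlh)
  -- the three exhaust the support at h
  have hz : ∀ i ∈ T, i ≠ x j → i ≠ x k → i ≠ x l → a i h = 0 := by
    intro i hi n1 n2 n3
    by_contra h0
    have hsub : ({x j, x k, x l, i} : Finset ι) ⊆ T := by
      intro u hu
      simp at hu
      rcases hu with rfl | rfl | rfl | rfl
      · exact mj.1
      · exact mk.1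
      · exact ml.1
      · exact hi
    have hle := Finset.sum_le_sum_of_subset_of_nonneg (f := fun i => a i h ^ 2) hsub
      (fun i _ _ => sq_nonneg _)
    rw [D.norm_h, Finset.sum_insert (by simp [hne, hjl.1, Ne.symm n1]),
      Finset.sum_insert (by simp [hkl, Ne.symm n2]), Finset.sum_pair (Ne.symm n3),
      mj.2.2.2.2.1, mk.2.2.2.2.1, ml.2.2.2.2.1] at hle
    have : 0 < a i h ^ 2 := by positivity
    omega
  have hg := D.deg h D.hh0
  rw [sum_three mj.1 mk.1 ml.1 hne hjl.1 hkl (fun i => a i h * d i) (by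
    intro i hi n1 n2 n3
    rw [hz i hi n1 n2 n3, zero_mul])] at hg
  omega

include D hxy in
theorem x_neg {j : ZMod q} (hj : j ≠ 0) (hjh : j ≠ h) : x (-j) = x j := by
  obtain ⟨n1, n2⟩ := D.neg_good hj hjh
  have m := hxy (-j) n1 n2
  by_contra hne
  have := (hxy j hj hjh).2.2.2.2.2.2.2 (x (-j)) m.1 hne (x_ne_y x y hxy n1 n2 hj hjh)
  have h3 := m.2.2.2.1
  rw [D.sym, this] at h3
  have h4 := m.2.2.2.2.1
  rw [← h3] at h4
  norm_num at h4

include D hxy in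
theorem x_const {j k : ZMod q} (hj : j ≠ 0) (hjh : j ≠ h) (hk : k ≠ 0) (hkh : k ≠ h) :
    x j = x k := by
  by_cases h1 : k = j
  · rw [h1]
  by_cases h2 : k = -j
  · rw [h2, x_neg D x y hxy hj hjh]
  exact x_const_aux D x y hxy hj hjh hk hkh h1 h2

include D hxy in
theorem y_neg {j : ZMod q} (hj : j ≠ 0) (hjh : j ≠ h) : y (-j) = y j := by
  obtain ⟨n1, n2⟩ := D.neg_good hj hjh
  have m := hxy (-j) n1 n2
  by_contra hne
  have := (hxy j hj hjh).2.2.2.2.2.2.2 (y (-j)) m.2.1 (x_ne_y x y hxy hj hjh n1 n2).symm hne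
  have h4 := m.2.2.2.2.2.1
  rw [D.sym, this] at h4
  norm_num at h4

end main

theorem Data.main (D : Data T a d h) :
    ∃ (x1 x2 x3 : ι) (δ1 δ2 δ3 : ℤ) (y : ZMod q → ι),
      x1 ∈ T ∧ x2 ∈ T ∧ x3 ∈ T ∧ x1 ≠ x2 ∧ x1 ≠ x3 ∧ x2 ≠ x3 ∧
      (δ1 = 1 ∨ δ1 = -1) ∧ (δ2 = 1 ∨ δ2 = -1) ∧ (δ3 = 1 ∨ δ3 = -1) ∧
      (∀ j, j ≠ 0 → a x1 j = δ1) ∧
      (∀ j, j ≠ 0 → a x2 j = if j = h then δ2 else 0) ∧
      (∀ j, j ≠ 0 → a x3 j = if j = h then δ3 else 0) ∧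
      (∀ k, k ≠ 0 → k ≠ h → y k ∈ T ∧ y k ≠ x1 ∧ y k ≠ x2 ∧ y k ≠ x3 ∧
        ∀ j, j ≠ 0 → a (y k) j = if j = k ∨ j = -k then -δ1 else 0) ∧
      (∀ k k', k ≠ 0 → k ≠ h → k' ≠ 0 → k' ≠ h → y k = y k' → k' = k ∨ k' = -k) ∧
      (∀ k, k ≠ 0 → k ≠ h → y (-k) = y k) ∧
      (∀ i ∈ T, i ≠ x1 → i ≠ x2 → i ≠ x3 → (∀ k, k ≠ 0 → k ≠ h → i ≠ y k) →
        ∀ j, j ≠ 0 → a i j = 0) := by
  classical
  obtain ⟨x₀, y₀, h₀⟩ := D.exists_shape D.one0 D.oneh
  have hex : ∀ j : ZMod q, ∃ x y, j ≠ 0 → j ≠ h → Shape T a h j x y := by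
    intro j
    by_cases hj : j = 0
    · exact ⟨x₀, y₀, fun h => absurd hj h⟩
    by_cases hjh : j = h
    · exact ⟨x₀, y₀, fun _ h => absurd hjh h⟩
    obtain ⟨x, y, hs⟩ := D.exists_shape hj hjh
    exact ⟨x, y, fun _ _ => hs⟩
  choose x y hxy using hex
  set x1 := x 1 with hx1
  have hxc : ∀ j, j ≠ 0 → j ≠ h → x j = x1 := fun j hj hjh =>
    x_const D x y hxy hj hjh D.one0 D.oneh
  have m1 := hxy 1 D.one0 D.oneh
  obtain ⟨b, c, e, hb, hc, he, hbc, hbe, hce, sb, sc, se, hz⟩ :=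
    three_support T (fun i => a i h) D.norm_h
  -- pick the other two
  have hother : ∃ x2 x3, x2 ∈ T ∧ x3 ∈ T ∧ x1 ≠ x2 ∧ x1 ≠ x3 ∧ x2 ≠ x3 ∧ a x2 h ^ 2 = 1 ∧
      a x3 h ^ 2 = 1 ∧ ∀ i ∈ T, i ≠ x1 → i ≠ x2 → i ≠ x3 → a i h = 0 := by
    have hmem : x1 = b ∨ x1 = c ∨ x1 = e := by
      by_contra hcon
      rw [not_or, not_or] at hcon
      have := hz x1 m1.1 hcon.1 hcon.2.1 hcon.2.2
      have h4 := m1.2.2.2.2.1
      rw [this] at h4
      norm_num at h4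
    rcases hmem with e1 | e1 | e1
    · exact ⟨c, e, hc, he, e1 ▸ hbc, e1 ▸ hbe, hce, sc, se, fun i hi n1 n2 n3 =>
        hz i hi (e1 ▸ n1) n2 n3⟩
    · exact ⟨b, e, hb, he, e1 ▸ hbc.symm, e1 ▸ hce, hbe, sb, se, fun i hi n1 n2 n3 =>
        hz i hi n2 (e1 ▸ n1) n3⟩
    · exact ⟨b, c, hb, hc, e1 ▸ hbe.symm, e1 ▸ hce.symm, hbc, sb, sc, fun i hi n1 n2 n3 =>
        hz i hi n2 n3 (e1 ▸ n1)⟩
  obtain ⟨x2, x3, hx2, hx3, n12, n13, n23, s2, s3, hz'⟩ := hother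
  have hyh : ∀ k, k ≠ 0 → k ≠ h → a (y k) h = 0 := fun k hk hkh => (hxy k hk hkh).2.2.2.2.2.2.1
  have hoff : ∀ u ∈ T, u ≠ x1 → a u h ^ 2 = 1 → ∀ j, j ≠ 0 → a u j = if j = h then a u h else 0 := by
    intro u hu hu1 su j hj
    by_cases hjh : j = h
    · rw [if_pos hjh, hjh]
    · rw [if_neg hjh]
      apply (hxy j hj hjh).2.2.2.2.2.2.2 u hu (by rw [hxc j hj hjh]; exact hu1)
      intro e1
      rw [e1, hyh j hj hjh] at su
      norm_num at su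
  have hδ : ∀ k, k ≠ 0 → k ≠ h → a (y k) k = -a x1 h := by
    intro k hk hkh
    have g := deg_shape D x y hxy hk hkh
    rw [hxc k hk hkh] at g
    have p1 := D.dpos x1 m1.1
    have p2 := D.dpos (y k) (hxy k hk hkh).2.1
    rcases sq_one_cases m1.2.2.2.2.1 with e1 | e1 <;>
      rcases sq_one_cases (hxy k hk hkh).2.2.2.2.2.1 with e2 | e2 <;>
      rw [e1, e2] at g ⊢ <;> first | rfl | (exfalso; omega) | norm_num
  refine ⟨x1, x2, x3, a x1 h, a x2 h, a x3 h, y, m1.1, hx2, hx3, n12, n13, n23,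
    sq_one_cases m1.2.2.2.2.1, sq_one_cases s2, sq_one_cases s3, ?_, hoff x2 hx2 n12.symm s2,
    hoff x3 hx3 n13.symm s3, ?_, ?_, fun k hk hkh => y_neg D x y hxy hk hkh, ?_⟩
  · intro j hj
    by_cases hjh : j = h
    · rw [hjh]
    · have := (hxy j hj hjh).2.2.2.1
      rw [hxc j hj hjh] at this
      exact this
  · intro k hk hkh
    have mk := hxy k hk hkh
    refine ⟨mk.2.1, ?_, ?_, ?_, ?_⟩
    · rw [← hxc k hk hkh]; exact mk.2.2.1.symm
    · intro e1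
      rw [← e1, hyh k hk hkh] at s2
      norm_num at s2
    · intro e1
      rw [← e1, hyh k hk hkh] at s3
      norm_num at s3
    · intro j hj
      by_cases hjh : j = h
      · have c1 : ¬ (j = k ∨ j = -k) := by
          rintro (e1 | e1)
          · exact hkh (e1.symm.trans hjh)
          · exact (D.neg_good hk hkh).2 (e1.symm.trans hjh)
        rw [if_neg c1, hjh, hyh k hk hkh]
      by_cases e1 : j = k
      · rw [if_pos (Or.inl e1), e1, hδ k hk hkh]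
      by_cases e2 : j = -k
      · rw [if_pos (Or.inr e2), e2, D.sym, hδ k hk hkh]
      rw [if_neg (by tauto)]
      rcases dich D x y hxy hk hkh hj hjh e1 e2 with ⟨-, n⟩ | ⟨n, -, -⟩
      · exact ay x y hxy hk hkh hj hjh n
      · exact absurd ((hxc k hk hkh).trans (hxc j hj hjh).symm) n
  · intro k k' hk hkh hk' hkh' e1
    by_contra hcon
    rw [not_or] at hcon
    rcases dich D x y hxy hk hkh hk' hkh' hcon.1 hcon.2 with ⟨-, n⟩ | ⟨n, -, -⟩
    · exact n e1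
    · exact absurd ((hxc k hk hkh).trans (hxc k' hk' hkh').symm) n
  · intro i hi n1 n2 n3 hy j hj
    by_cases hjh : j = h
    · rw [hjh]; exact hz' i hi n1 n2 n3
    · exact (hxy j hj hjh).2.2.2.2.2.2.2 i hi (by rw [hxc j hj hjh]; exact n1) (hy j hj hjh)

end Cfsg.Agent.Lib.Helper29DihB
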