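import Mathlib
import Cfsg.Agent.Lib.Helper29BSc
import Cfsg.Agent.Lib.Helper11OddAut
import Cfsg.Agent.S0514

set_option autoImplicit false
set_option linter.unusedSectionVars false
open Cfsg

namespace Cfsg.Agent.Lib.Helper29DihC

open Cfsg.Agent.Lib.Helper25Exp Cfsg.Agent.Lib.Helper29BSc
open Subgroup DihedralGroup

section dih

variable (q : ℕ) [NeZero q]

theorem elt_order (hq : 3 ≤ q) (x : DihedralGroup q) (hx : orderOf x = q) : ∃ i, x = r i := by
  rcases x with i | i
  · exact ⟨i, rfl⟩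
  · rw [orderOf_sr] at hx; omega

theorem conj_r (x : DihedralGroup q) (i : ZMod q) :
    x * r i * x⁻¹ = r i ∨ x * r i * x⁻¹ = (r i)⁻¹ := by
  rcases x with j | j
  · left
    simp only [inv_r, r_mul_r]
    congr 1
    ring
  · right
    simp only [inv_r, inv_sr, sr_mul_r, sr_mul_sr]
    congr 1
    ring

theorem sr_conj_r (i : ZMod q) :
    (sr 0 : DihedralGroup q) * r i * (sr 0)⁻¹ = (r i)⁻¹ := by
  simp only [inv_r, inv_sr, sr_mul_r, sr_mul_sr]
  congr 1
  ring

theorem comm_r (x : DihedralGroup q) (k : ZMod q) (hk : (r k : DihedralGroup q) * r k ≠ 1)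
    (h : x * r k = r k * x) : ∃ j, x = r j := by
  rcases x with j | j
  · exact ⟨j, rfl⟩
  · exfalso
    apply hk
    simp only [sr_mul_r, r_mul_sr, sr.injEq] at h
    simp only [r_mul_r, one_def, r.injEq]
    linear_combination h

theorem r_mem_zpowers (i : ZMod q) (hi : orderOf (r i : DihedralGroup q) = q) (j : ZMod q) :
    (r j : DihedralGroup q) ∈ zpowers (r i : DihedralGroup q) := by
  have h1 : zpowers (r i : DihedralGroup q) ≤ zpowers (r 1 : DihedralGroup q) := by
    rw [zpowers_le]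
    exact Cfsg.Agent.Lib.Helper11OddAut.r_mem_rot q i
  have h2 : zpowers (r i : DihedralGroup q) = zpowers (r 1 : DihedralGroup q) := by
    apply Subgroup.eq_of_le_of_card_ge h1
    rw [Nat.card_zpowers, Nat.card_zpowers, hi, orderOf_r_one]
  rw [h2]
  exact Cfsg.Agent.Lib.Helper11OddAut.r_mem_rot q j

end dih

variable {G : Type*} [Group G]

theorem setup {q : ℕ} [NeZero q] (hq : 3 ≤ q) (P : Subgroup G)
    (e : P ≃* DihedralGroup q) (σ : G) (hσ : σ ∈ P) (hσo : orderOf σ = q) :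
    (∃ β ∈ P, β * σ * β⁻¹ = σ⁻¹) ∧ (∀ s ∈ P, s * σ * s⁻¹ = σ ∨ s * σ * s⁻¹ = σ⁻¹) ∧
    (∀ l : ZMod q, l ≠ -l → ∀ s ∈ P, s * E q σ l = E q σ l * s → s ∈ zpowers σ) := by
  let f : DihedralGroup q →* G := P.subtype.comp e.symm.toMonoidHom
  have hf : Function.Injective f := (Subgroup.subtype_injective _).comp e.symm.injective
  have hrange : f.range = P := by
    ext x; constructor
    · rintro ⟨y, rfl⟩; exact (e.symm y).2
    · intro hx; exact ⟨e ⟨x, hx⟩, by simp [f]⟩
  have hmemS : ∀ y, f y ∈ P := fun y => (e.symm y).2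
  have hσ' : σ ∈ f.range := by rw [hrange]; exact hσ
  obtain ⟨x, rfl⟩ := hσ'
  rw [orderOf_injective f hf] at hσo
  obtain ⟨i, rfl⟩ := elt_order q hq x hσo
  have hσq : (f (r i)) ^ q = 1 := by
    rw [← map_pow, pow_of_order hσo, map_one]
  refine ⟨⟨f (sr 0), hmemS _, ?_⟩, ?_, ?_⟩
  · rw [← map_inv, ← map_mul, ← map_mul, sr_conj_r, map_inv]
  · intro s hs
    have hs' : s ∈ f.range := by rw [hrange]; exact hs
    obtain ⟨y, rfl⟩ := hs'
    rcases conj_r q y i with h | h
    · left; rw [← map_inv, ← map_mul, ← map_mul, h]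
    · right; rw [← map_inv, ← map_mul, ← map_mul, h, map_inv]
  · intro l hl s hs hc
    have hs' : s ∈ f.range := by rw [hrange]; exact hs
    obtain ⟨y, rfl⟩ := hs'
    have hE : E q (f (r i)) l = f (r (i * (l.val : ZMod q))) := by
      unfold E
      rw [← map_pow, r_pow]
    rw [hE, ← map_mul, ← map_mul] at hc
    have hc' := hf hc
    have hne : (r (i * (l.val : ZMod q)) : DihedralGroup q) * r (i * (l.val : ZMod q)) ≠ 1 := by
      intro h
      have h1 := congrArg f h
      rw [map_mul, map_one, ← hE, ← E_add hσq,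
        E_eq_one (by rw [orderOf_injective f hf]; exact hσo)] at h1
      exact hl (eq_neg_of_add_eq_zero_left h1)
    obtain ⟨j, rfl⟩ := comm_r q y _ hne hc'
    rw [← MonoidHom.map_zpowers]
    exact mem_map_of_mem f (r_mem_zpowers q i hσo j)

theorem exists_conj_mem {K : Type*} [Group K] [Finite K] {p : ℕ} [Fact p.Prime] (S : Sylow p K)
    (Q : Subgroup K) (hQ : IsPGroup p Q) : ∃ n : K, ∀ y ∈ Q, n * y * n⁻¹ ∈ S := by
  obtain ⟨Q', hQ'⟩ := hQ.exists_le_sylow
  obtain ⟨a, ha⟩ := MulAction.exists_smul_eq K Q' S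
  refine ⟨a, fun y hy => ?_⟩
  have h1 : a * y * a⁻¹ ∈ ((a • Q' : Sylow p K) : Subgroup K) := by
    rw [Sylow.coe_subgroup_smul]
    exact ⟨y, hQ' hy, by simp⟩
  rw [ha] at h1
  exact h1

theorem ord_conj (a z : G) : orderOf (a * z * a⁻¹) = orderOf z := by
  have : a * z * a⁻¹ = MulAut.conj a z := by simp
  rw [this, MulEquiv.orderOf_eq]

theorem conj_E' {q : ℕ} (g σ : G) (l : ZMod q) : E q (g * σ * g⁻¹) l = g * E q σ l * g⁻¹ := by
  unfold E
  rw [conj_pow]

theorem zpowers_le_cent {q : ℕ} [NeZero q] {σ : G} (hσq : σ ^ q = 1) (l : ZMod q) :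
    zpowers σ ≤ centralizer ({E q σ l} : Set G) := by
  intro x hx
  obtain ⟨b, rfl⟩ := (mem_zpowers_iff hσq).mp hx
  rw [mem_centralizer_singleton_iff]
  exact E_comm hσq _ _

section main

variable [Finite G] {q : ℕ} [NeZero q] {m : ℕ} (hq2 : q = 2 ^ m) (hq : 3 ≤ q) (P : Sylow 2 G)
  (e : (P : Subgroup G) ≃* DihedralGroup q) (σ : G) (hσ : σ ∈ P) (hσo : orderOf σ = q)

include hq2 hq e hσ hσo

theorem sylow_cent (l : ZMod q) (hl : l ≠ -l) :
    ∃ S : Sylow 2 (centralizer ({E q σ l} : Set G)),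
      (S : Subgroup (centralizer ({E q σ l} : Set G))) = (zpowers σ).subgroupOf _ := by
  have : Fact (Nat.Prime 2) := ⟨Nat.prime_two⟩
  have hσq : σ ^ q = 1 := pow_of_order hσo
  set H := centralizer ({E q σ l} : Set G) with hH
  have hAH : zpowers σ ≤ H := zpowers_le_cent hσq l
  have hA₀ : IsPGroup 2 ((zpowers σ).subgroupOf H) := by
    apply IsPGroup.of_card (n := m)
    rw [Nat.card_congr (Subgroup.subgroupOfEquivOfLe hAH).toEquiv, Nat.card_zpowers, hσo, hq2]
  obtain ⟨S, hS⟩ := hA₀.exists_le_sylow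
  refine ⟨S, le_antisymm ?_ hS⟩
  intro s hs
  have hQ : IsPGroup 2 ((S : Subgroup H).map H.subtype) := IsPGroup.map S.2 _
  obtain ⟨g, hg⟩ := exists_conj_mem P _ hQ
  have hσQ : σ ∈ (S : Subgroup H).map H.subtype := by
    refine ⟨⟨σ, hAH (mem_zpowers σ)⟩, hS ?_, rfl⟩
    rw [mem_subgroupOf]
    exact mem_zpowers σ
  have hsQ : (s : G) ∈ (S : Subgroup H).map H.subtype := ⟨s, hs, rfl⟩
  obtain ⟨-, -, h3⟩ := setup hq (P : Subgroup G) e (g * σ * g⁻¹) (hg _ hσQ)
    (by rw [ord_conj]; exact hσo)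
  have h4 := h3 l hl (g * s * g⁻¹) (hg _ hsQ) (by
    rw [conj_E']
    have : (s : G) * E q σ l = E q σ l * s := mem_centralizer_singleton_iff.mp s.2
    calc g * s * g⁻¹ * (g * E q σ l * g⁻¹) = g * (s * E q σ l) * g⁻¹ := by group
      _ = g * (E q σ l * s) * g⁻¹ := by rw [this]
      _ = _ := by group)
  obtain ⟨k, hk⟩ := mem_zpowers_iff.mp h4
  rw [mem_subgroupOf]
  refine mem_zpowers_iff.mpr ⟨k, ?_⟩
  rw [conj_zpow] at hk
  exact mul_left_cancel (mul_right_cancel hk)

theorem cent_facts (l : ZMod q) (hl : l ≠ -l) :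
    (∃ k : ℕ, (pPrimeCore 2 (centralizer ({E q σ l} : Set G))).index = 2 ^ k) ∧
      2 ^ (Nat.card (centralizer ({E q σ l} : Set G))).factorization 2 = q := by
  have : Fact (Nat.Prime 2) := ⟨Nat.prime_two⟩
  have hσq : σ ^ q = 1 := pow_of_order hσo
  have hex := sylow_cent hq2 hq P e σ hσ hσo l hl
  set H := centralizer ({E q σ l} : Set G) with hH
  obtain ⟨S, hS⟩ := hex
  have hAH : zpowers σ ≤ H := zpowers_le_cent hσq l
  have hcard : Nat.card (S : Subgroup H) = q := by
    rw [hS, Nat.card_congr (Subgroup.subgroupOfEquivOfLe hAH).toEquiv, Nat.card_zpowers, hσo]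
  have hcyc : IsCyclic (S : Subgroup H) := by
    rw [hS]
    exact isCyclic_of_surjective (Subgroup.subgroupOfEquivOfLe hAH).symm
      (Subgroup.subgroupOfEquivOfLe hAH).symm.surjective
  have h2 : (Nat.card H).minFac = 2 := by
    rw [Nat.minFac_eq_two_iff]
    have h1 : q ∣ Nat.card H := hcard ▸ Subgroup.card_subgroup_dvd_card _
    refine Dvd.dvd.trans ?_ h1
    rw [hq2]
    apply dvd_pow_self
    rintro rfl
    omega
  have hcompl := IsCyclic.isComplement' h2 hcyc
  have hnd := MonoidHom.not_dvd_card_ker_transferSylow S (hcyc.normalizer_le_centralizer h2)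
  have hidx := hcompl.symm.index_eq_card
  rw [hcard, hq2] at hidx
  have := core_facts _ (Nat.odd_iff.mpr (by omega)) hidx
  rw [hq2]
  exact this

theorem cent_facts_J (l : ZMod q) (hl0 : l ≠ 0) (hl : l = -l) :
    (∃ k : ℕ, (pPrimeCore 2 (centralizer ({E q σ l} : Set G))).index = 2 ^ k) ∧
      2 ^ (Nat.card (centralizer ({E q σ l} : Set G))).factorization 2 = 2 * q ∧
      ¬ 2 ∣ (centralizer ({E q σ l} : Set G)).index := by
  have : Fact (Nat.Prime 2) := ⟨Nat.prime_two⟩
  have hσq : σ ^ q = 1 := pow_of_order hσo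
  have hinv : (E q σ l)⁻¹ = E q σ l := by rw [← E_neg hσq, ← hl]
  have ht : orderOf (E q σ l) = 2 := by
    apply orderOf_eq_prime
    · rw [pow_two]
      nth_rewrite 1 [← hinv]
      exact inv_mul_cancel _
    · rw [Ne, E_eq_one hσo]
      exact hl0
  obtain ⟨N, hN, hodd, k, hidx⟩ := Cfsg.Agent.S0514.result P q (by omega) ⟨e⟩ _ ht
  obtain ⟨-, h2, -⟩ := setup hq (P : Subgroup G) e σ hσ hσo
  have hPC : (P : Subgroup G) ≤ centralizer ({E q σ l} : Set G) := by
    intro s hs
    rw [mem_centralizer_singleton_iff]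
    have h3 : s * E q σ l * s⁻¹ = E q σ l := by
      rw [← conj_E']
      rcases h2 s hs with h | h
      · rw [h]
      · rw [h]
        unfold E
        rw [inv_pow]
        exact hinv
    calc s * E q σ l = s * E q σ l * s⁻¹ * s := by group
      _ = _ := by rw [h3]
  refine ⟨(core_facts N hodd hidx).1, ?_, ?_⟩
  · have hcP : Nat.card (P : Subgroup G) = 2 * q := by
      rw [Nat.card_congr e.toEquiv, DihedralGroup.nat_card]
    have h3 := P.card_eq_multiplicity
    have h4 : Nat.card (P : Subgroup G) ∣ Nat.card (centralizer ({E q σ l} : Set G)) :=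
      Subgroup.card_dvd_of_le hPC
    have h5 : Nat.card (centralizer ({E q σ l} : Set G)) ∣ Nat.card G :=
      Subgroup.card_subgroup_dvd_card _
    have h6 := (Nat.factorization_le_iff_dvd Nat.card_pos.ne' Nat.card_pos.ne').mpr h4 2
    have h7 := (Nat.factorization_le_iff_dvd Nat.card_pos.ne' Nat.card_pos.ne').mpr h5 2
    rw [h3, Nat.Prime.factorization_pow Nat.prime_two] at h6
    simp only [Finsupp.single_eq_same] at h6
    rw [← hcP, h3, le_antisymm h7 h6]
  · intro h
    exact P.not_dvd_index (h.trans (Subgroup.index_dvd_of_le hPC))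

theorem norm_act (g : G) (u : ZMod q) (h : g * σ * g⁻¹ = E q σ u) : u = 1 ∨ u = -1 := by
  have : Fact (Nat.Prime 2) := ⟨Nat.prime_two⟩
  have hσq : σ ^ q = 1 := pow_of_order hσo
  obtain ⟨-, h2, -⟩ := setup hq (P : Subgroup G) e σ hσ hσo
  have actE : ∀ (g : G) (u : ZMod q), g * σ * g⁻¹ = E q σ u →
      ∀ x : ZMod q, g * E q σ x * g⁻¹ = E q σ (u * x) := by
    intro g u hg x
    rw [← conj_E', hg]
    show (E q σ u) ^ x.val = _
    rw [E_pow hσq, ZMod.natCast_zmod_val, mul_comm]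
  have actMul : ∀ (g g' : G) (u u' : ZMod q), g * σ * g⁻¹ = E q σ u → g' * σ * g'⁻¹ = E q σ u' →
      (g * g') * σ * (g * g')⁻¹ = E q σ (u * u') := by
    intro g g' u u' hg hg'
    rw [← actE g u hg, ← hg']
    group
  set A := zpowers σ with hA
  have hnorm : ∀ (g : G) (u : ZMod q), g * σ * g⁻¹ = E q σ u → g ∈ normalizer (A : Set G) := by
    intro g u hg
    apply Cfsg.Agent.Lib.Helper11OddAut.mem_normalizer_of_conj_mem A g (isOfFinOrder_of_finite g)
    intro z hz
    obtain ⟨b, rfl⟩ := (mem_zpowers_iff hσq).mp hz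
    rw [actE g u hg]
    exact E_mem _
  have hact : ∀ n ∈ normalizer (A : Set G), ∃ a : ZMod q, n * σ * n⁻¹ = E q σ a := by
    intro n hn
    exact (mem_zpowers_iff hσq).mp ((mem_normalizer_iff.mp hn σ).mp (mem_zpowers σ))
  have hgN := hnorm g u h
  have hPN : (P : Subgroup G) ≤ normalizer (A : Set G) := by
    intro s hs
    rcases h2 s hs with h | h
    · exact hnorm s 1 (by rw [h, E_one hσq])
    · exact hnorm s (-1) (by rw [h, E_neg hσq, E_one hσq])
  obtain ⟨y, hy⟩ := Cfsg.Agent.Lib.Helper81Orth.exists_ppart (p := 2) Nat.prime_two g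
  obtain ⟨i, hi⟩ := Cfsg.Agent.Lib.Helper20Fusion.isPPart_pow hy
  obtain ⟨z, hyz, -, ⟨k, hk⟩, hz⟩ := hy
  have hyN : y ∈ normalizer (A : Set G) := hi ▸ pow_mem hgN i
  have hzN : z ∈ normalizer (A : Set G) := by
    have : z = y⁻¹ * g := by rw [← hyz]; group
    rw [this]
    exact mul_mem (inv_mem hyN) hgN
  have hA2 : IsPGroup 2 A := IsPGroup.of_card (n := m) (by rw [hA, Nat.card_zpowers, hσo, hq2])
  have hzC := Cfsg.Agent.Lib.Helper11OddAut.mem_centralizer_of_isCyclic A hA2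
    (by rw [hA]; infer_instance) z (Nat.odd_iff.mpr (by omega)) hzN
  have hz1 : z * σ * z⁻¹ = E q σ 1 := by
    rw [E_one hσq]
    have : σ * z = z * σ := hzC σ (mem_zpowers σ)
    rw [← this]
    group
  obtain ⟨uy, huy⟩ := hact y hyN
  have hu : u = uy := by
    have := actMul y z uy 1 huy hz1
    rw [hyz, h, mul_one, E_inj hσo] at this
    exact this
  have hQ : IsPGroup 2 (zpowers (⟨y, hyN⟩ : normalizer (A : Set G))) :=
    IsPGroup.of_card (n := k) (by rw [Nat.card_zpowers, Subgroup.orderOf_mk, hk])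
  obtain ⟨n, hn⟩ := exists_conj_mem (P.subtype hPN) _ hQ
  have hn1 := hn _ (mem_zpowers _)
  have hn2 : (n : G) * y * (n : G)⁻¹ ∈ P := hn1
  obtain ⟨a, ha⟩ := hact n n.2
  obtain ⟨a', ha'⟩ := hact (n : G)⁻¹ (inv_mem n.2)
  have haa : a * a' = 1 := by
    have := actMul _ _ a a' ha ha'
    rw [mul_inv_cancel, one_mul, inv_one, mul_one] at this
    nth_rewrite 1 [← E_one hσq] at this
    exact ((E_inj hσo).mp this).symm
  have h3 := actMul _ _ _ _ (actMul _ _ _ _ ha huy) ha'
  have h4 : a * uy * a' = uy := by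
    calc a * uy * a' = (a * a') * uy := by ring
      _ = uy := by rw [haa, one_mul]
  rw [h4] at h3
  rw [hu]
  rcases h2 _ hn2 with h5 | h5
  · left
    rw [h3] at h5
    nth_rewrite 2 [← E_one hσq] at h5
    exact (E_inj hσo).mp h5
  · right
    rw [h3] at h5
    nth_rewrite 2 [← E_one hσq] at h5
    rw [← E_neg hσq] at h5
    exact (E_inj hσo).mp h5

end main

theorem zmod_half {q h' : ℕ} [NeZero q] (hq : q = 2 * h') (x : ZMod q) (hx : x = -x) :
    x = 0 ∨ x = (h' : ZMod q) := by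
  have h1 : ((2 * x.val : ℕ) : ZMod q) = 0 := by
    push_cast
    rw [ZMod.natCast_zmod_val]
    linear_combination hx
  rw [ZMod.natCast_eq_zero_iff] at h1
  have h1' : 2 * h' ∣ 2 * x.val := hq ▸ h1
  have h2 : h' ∣ x.val := Nat.dvd_of_mul_dvd_mul_left (by norm_num) h1'
  obtain ⟨c, hc⟩ := h2
  have h3 : x.val < q := ZMod.val_lt x
  have hpos : 0 < h' := by
    have := NeZero.ne q
    omega
  have hc2 : c < 2 := by
    by_contra hcc
    have : h' * 2 ≤ h' * c := Nat.mul_le_mul_left h' (by omega)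
    omega
  interval_cases c
  · left
    rw [← ZMod.val_eq_zero, hc, mul_zero]
  · right
    rw [← ZMod.natCast_zmod_val x, hc, mul_one]

theorem fusion [Finite G] {q : ℕ} [NeZero q] {m : ℕ} (hq2 : q = 2 ^ m) (hq : 3 ≤ q) (P : Sylow 2 G)
    (e : (P : Subgroup G) ≃* DihedralGroup q) (σ : G) (hσ : σ ∈ P) (hσo : orderOf σ = q)
    (j k : ZMod q) (hj : j ≠ 0) (hc : IsConj (E q σ j) (E q σ k)) : k = j ∨ k = -j := by
  have : Fact (Nat.Prime 2) := ⟨Nat.prime_two⟩
  have hσq : σ ^ q = 1 := pow_of_order hσo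
  obtain ⟨c, hc⟩ := isConj_iff.mp hc
  by_cases hk : k = -k
  · left
    have hk0 : k ≠ 0 := by
      rintro rfl
      rw [E_zero] at hc
      apply hj
      rw [← E_eq_one hσo]
      have : E q σ j = c⁻¹ * (c * E q σ j * c⁻¹) * c := by group
      rw [this, hc]
      group
    have hjj : j = -j := by
      have h1 : E q σ k * E q σ k = 1 := by
        rw [← E_add hσq, E_eq_one hσo]
        linear_combination hk
      rw [← hc] at h1
      have h2 : E q σ j * E q σ j = 1 := by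
        have : E q σ j * E q σ j = c⁻¹ * (c * E q σ j * c⁻¹ * (c * E q σ j * c⁻¹)) * c := by group
        rw [this, h1]
        group
      rw [← E_add hσq, E_eq_one hσo] at h2
      exact eq_neg_of_add_eq_zero_left h2
    obtain ⟨m', rfl⟩ : ∃ m', m = m' + 1 := ⟨m - 1, by
      rcases m with _ | m
      · omega
      · rfl⟩
    have hq' : q = 2 * 2 ^ m' := by rw [hq2]; ring
    rcases zmod_half hq' k hk with h | h
    · exact absurd h hk0
    · rcases zmod_half hq' j hjj with h' | h'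
      · exact absurd h' hj
      · rw [h, h']
  · have hex := sylow_cent hq2 hq P e σ hσ hσo k hk
    set H := centralizer ({E q σ k} : Set G) with hH
    obtain ⟨S, hS⟩ := hex
    have hσ'H : c * σ * c⁻¹ ∈ H := by
      rw [hH, mem_centralizer_singleton_iff, ← hc, ← conj_E']
      show c * σ * c⁻¹ * (c * σ * c⁻¹) ^ j.val = (c * σ * c⁻¹) ^ j.val * (c * σ * c⁻¹)
      rw [← pow_succ, ← pow_succ']
    have hQ : IsPGroup 2 (zpowers (⟨c * σ * c⁻¹, hσ'H⟩ : H)) :=
      IsPGroup.of_card (n := m) (by rw [Nat.card_zpowers, Subgroup.orderOf_mk, ord_conj, hσo, hq2])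
    obtain ⟨d, hd⟩ := exists_conj_mem S _ hQ
    have hd1 := hd _ (mem_zpowers _)
    have hd1' : d * ⟨c * σ * c⁻¹, hσ'H⟩ * d⁻¹ ∈ (S : Subgroup H) := hd1
    rw [hS, mem_subgroupOf] at hd1'
    have hd2 : (d : G) * (c * σ * c⁻¹) * (d : G)⁻¹ ∈ zpowers σ := hd1'
    obtain ⟨u, hu⟩ := (mem_zpowers_iff hσq).mp hd2
    have hu' : ((d : G) * c) * σ * ((d : G) * c)⁻¹ = E q σ u := by
      rw [← hu]; group
    have h1 := norm_act hq2 hq P e σ hσ hσo _ u hu'
    have h2 : ((d : G) * c) * E q σ j * ((d : G) * c)⁻¹ = E q σ (u * j) := by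
      rw [← conj_E', hu']
      show (E q σ u) ^ j.val = _
      rw [E_pow hσq, ZMod.natCast_zmod_val, mul_comm]
    have h3 : ((d : G) * c) * E q σ j * ((d : G) * c)⁻¹ = E q σ k := by
      have hdk : (d : G) * E q σ k = E q σ k * d := mem_centralizer_singleton_iff.mp d.2
      calc ((d : G) * c) * E q σ j * ((d : G) * c)⁻¹ = d * (c * E q σ j * c⁻¹) * (d : G)⁻¹ := by
            group
        _ = d * E q σ k * (d : G)⁻¹ := by rw [hc]
        _ = _ := by rw [hdk]; group
    rw [h2, E_inj hσo] at h3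
    rcases h1 with rfl | rfl
    · left; rw [← h3, one_mul]
    · right; rw [← h3]; ring

end Cfsg.Agent.Lib.Helper29DihC
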