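import Mathlib
import Cfsg.Agent.Lib.Helper29DihA
import Cfsg.Agent.Lib.Helper29DihB
import Cfsg.Agent.Lib.Helper29DihC
import Cfsg.Agent.Lib.Helper29BSb
import Cfsg.Agent.Lib.Helper67Kazarin

set_option autoImplicit false
set_option linter.unusedSectionVars false
open Cfsg

namespace Cfsg.Agent.Lib.Helper29DihD

open Cfsg.Agent.Lib.Helper25Exp Cfsg.Agent.Lib.Helper29BSa Cfsg.Agent.Lib.Helper29DihA
  Cfsg.Agent.Lib.Helper29DihB Cfsg.Agent.Lib.Helper29DihC Cfsg.Agent.Lib.Helper82Linear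
open scoped ComplexConjugate

variable {G : Type*} [Group G] [Finite G] {q : ℕ} [NeZero q] {m : ℕ}

theorem isPPart_E (hq2 : q = 2 ^ m) {σ : G} (hσq : σ ^ q = 1) (j : ZMod q) :
    IsPPart 2 (E q σ j) (E q σ j) := by
  have h1 : orderOf (E q σ j) ∣ 2 ^ m := hq2 ▸ orderOf_E_dvd hσq j
  obtain ⟨k, -, hk⟩ := (Nat.dvd_prime_pow Nat.prime_two).mp h1
  exact ⟨1, mul_one _, Commute.one_right _, ⟨k, hk⟩, by rw [orderOf_one]; decide⟩

/-- the finite set of characters in the principal block -/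
noncomputable def Bf (M : Ideal AlgInt) (G : Type*) [Group G] [Finite G] :
    Finset (IrrCharacter G) := (Set.toFinite (principalBlock M G)).toFinset

theorem mem_Bf {M : Ideal AlgInt} {χ : IrrCharacter G} : χ ∈ Bf M G ↔ χ ∈ principalBlock M G :=
  (Set.toFinite (principalBlock M G)).mem_toFinset

theorem one_mem_Bf {M : Ideal AlgInt} (hM : IsPModular 2 M) : irrOne G ∈ Bf M G := by
  rw [mem_Bf]
  have := hM.2.1.isPrime
  exact Cfsg.Agent.Lib.Helper81Block.self_mem_blockOf (M := M) (irrOne G)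

theorem aa_zero (w : ℂˣ) (α : G) (ζ : G → ℂ) : aa w α ζ (0 : ZMod q) = 0 := by
  unfold aa
  simp [ee_zero]

theorem four_aux : ∀ (h j k : ZMod 4), ¬ (h ≠ 0 ∧ -h = h ∧ j ≠ 0 ∧ j ≠ h ∧ k ≠ 0 ∧
    k ≠ h ∧ k ≠ j ∧ k ≠ -j) := by
  decide

theorem third_aux (hq2 : q = 2 ^ m) (hq : 3 ≤ q) (h : ZMod q) (hh0 : h ≠ 0) (hneg : -h = h) :
    ∀ j k : ZMod q, j ≠ 0 → j ≠ h → k ≠ 0 → k ≠ h → k ≠ j → k ≠ -j →
      ∃ l, l ≠ 0 ∧ l ≠ h ∧ l ≠ j ∧ l ≠ -j ∧ l ≠ k ∧ l ≠ -k := by
  classical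
  intro j k h1 h2 h3 h4 h5 h6
  by_cases h8 : q < 8
  · exfalso
    have hm : m = 2 := by
      have h1 : m < 3 := by
        by_contra hc
        have : 2 ^ 3 ≤ 2 ^ m := Nat.pow_le_pow_right (by norm_num) (by omega)
        omega
      interval_cases m <;> omega
    subst hm
    obtain rfl : q = 4 := by rw [hq2]; norm_num
    exact four_aux h j k ⟨hh0, hneg, h1, h2, h3, h4, h5, h6⟩
  · by_contra hcon
    have hsub : (Finset.univ : Finset (ZMod q)) ⊆ {0, h, j, -j, k, -k} := by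
      intro l _
      by_contra hl
      simp only [Finset.mem_insert, Finset.mem_singleton, not_or] at hl
      exact hcon ⟨l, hl.1, hl.2.1, hl.2.2.1, hl.2.2.2.1, hl.2.2.2.2.1, hl.2.2.2.2.2⟩
    have h7 := Finset.card_le_card hsub
    rw [Finset.card_univ, ZMod.card] at h7
    have h9 : ({0, h, j, -j, k, -k} : Finset (ZMod q)).card ≤ 6 := Finset.card_le_six
    omega

theorem val_const {w : ℂˣ} (hw : orderOf w = q) (α : G) (ζ : G → ℂ) (δ : ℂ)
    (hc : ∀ j : ZMod q, j ≠ 0 → aa w α ζ j = δ) {l : ZMod q} (hl : l ≠ 0) :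
    ζ (E q α l) = δ := by
  classical
  rw [inversion hw α ζ hl]
  have h1 : ∀ j : ZMod q, aa w α ζ j * ee w (j * l) =
      δ * ee w (j * l) - (if j = 0 then δ else 0) := by
    intro j
    by_cases hj : j = 0
    · subst hj
      simp [aa_zero, ee_zero]
    · rw [hc j hj, if_neg hj, sub_zero]
  simp only [h1]
  rw [Finset.sum_sub_distrib, ← Finset.mul_sum, sum_ee' hw, if_neg hl,
    Finset.sum_ite_eq' Finset.univ (0 : ZMod q)]
  simp

theorem val_single {w : ℂˣ} (hw : orderOf w = q) (α : G) (ζ : G → ℂ) (δ : ℂ) (h : ZMod q)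
    (hh : h ≠ 0) (hc : ∀ j : ZMod q, j ≠ 0 → aa w α ζ j = if j = h then δ else 0) {l : ZMod q} (hl : l ≠ 0) :
    ζ (E q α l) = -δ * ee w (h * l) := by
  classical
  rw [inversion hw α ζ hl]
  have h1 : ∀ j : ZMod q, aa w α ζ j * ee w (j * l) =
      (if j = h then δ * ee w (h * l) else 0) := by
    intro j
    by_cases hj : j = 0
    · subst hj
      rw [aa_zero, zero_mul, if_neg (fun e => hh e.symm)]
    · rw [hc j hj]
      by_cases hjh : j = h
      · rw [if_pos hjh, if_pos hjh, hjh]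
      · rw [if_neg hjh, if_neg hjh, zero_mul]
  simp only [h1]
  rw [Finset.sum_ite_eq' Finset.univ h]
  simp

theorem val_pair {w : ℂˣ} (hw : orderOf w = q) (α : G) (ζ : G → ℂ) (δ : ℂ) (k : ZMod q)
    (hk : k ≠ 0) (hkk : k ≠ -k)
    (hc : ∀ j : ZMod q, j ≠ 0 → aa w α ζ j = if j = k ∨ j = -k then -δ else 0) {l : ZMod q}
    (hl : l ≠ 0) :
    ζ (E q α l) = δ * (ee w (k * l) + ee w (-(k * l))) := by
  classical
  rw [inversion hw α ζ hl]
  have h1 : ∀ j : ZMod q, aa w α ζ j * ee w (j * l) =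
      (if j = k then -δ * ee w (k * l) else 0) + (if j = -k then -δ * ee w (-(k * l)) else 0) := by
    intro j
    by_cases hj : j = 0
    · subst hj
      rw [aa_zero, zero_mul, if_neg (fun e => hk e.symm),
        if_neg (fun e => hk (neg_eq_zero.mp e.symm)), add_zero]
    · rw [hc j hj]
      by_cases hjk : j = k
      · rw [if_pos (Or.inl hjk), if_pos hjk, if_neg (by rw [hjk]; exact hkk), hjk, add_zero]
      · by_cases hjk' : j = -k
        · rw [if_pos (Or.inr hjk'), if_neg hjk, if_pos hjk', hjk', zero_add, neg_mul k l]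
        · rw [if_neg (by tauto), if_neg hjk, if_neg hjk', zero_mul, add_zero]
  simp only [h1]
  rw [Finset.sum_add_distrib, Finset.sum_ite_eq' Finset.univ k, Finset.sum_ite_eq' Finset.univ (-k)]
  simp
  ring

theorem val_zero {w : ℂˣ} (hw : orderOf w = q) (α : G) (ζ : G → ℂ)
    (hc : ∀ j : ZMod q, j ≠ 0 → aa w α ζ j = 0) {l : ZMod q} (hl : l ≠ 0) :
    ζ (E q α l) = 0 := val_const hw α ζ 0 hc hl

section main

variable (hq2 : q = 2 ^ m) (hq : 3 ≤ q) (P : Sylow 2 G)
  (e : (P : Subgroup G) ≃* DihedralGroup q) (σ : G) (hσ : σ ∈ P) (hσo : orderOf σ = q)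
  (M : Ideal AlgInt) (hM : IsPModular 2 M)

include hq2 hq e hσ hσo hM

theorem val_neg (ζ : IrrCharacter G) (l : ZMod q) :
    (ζ : G → ℂ) (E q σ (-l)) = (ζ : G → ℂ) (E q σ l) := by
  have hσq : σ ^ q = 1 := pow_of_order hσo
  obtain ⟨⟨β, -, hβ⟩, -, -⟩ := setup hq (P : Subgroup G) e σ hσ hσo
  have : E q σ (-l) = β * E q σ l * β⁻¹ := by
    rw [E_neg hσq]
    unfold E
    rw [← conj_pow, hβ, inv_pow]
  rw [this, Cfsg.Agent.Lib.Helper81Base.irr_conj]

theorem Phi (l l' : ZMod q) (hl : l ≠ 0) (hl' : l' ≠ 0) :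
    ∑ ζ ∈ Bf M G, (ζ : G → ℂ) (E q σ l) * conj ((ζ : G → ℂ) (E q σ l')) =
      (if l' = l then (q : ℂ) else 0) + (if l' = -l then (q : ℂ) else 0) := by
  classical
  have : Fact (Nat.Prime 2) := ⟨Nat.prime_two⟩
  have := Fintype.ofFinite G
  have hσq : σ ^ q = 1 := pow_of_order hσo
  have hBb : IsPBlock M (principalBlock M G) :=
    Cfsg.Agent.Lib.Helper81Subsec2.isPBlock_principalBlock
  have hBfin : (principalBlock M G).Finite := Set.toFinite _
  by_cases hjk : l' = l ∨ l' = -l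
  · have hval : ∀ ζ : IrrCharacter G, (ζ : G → ℂ) (E q σ l') = (ζ : G → ℂ) (E q σ l) := by
      intro ζ
      rcases hjk with rfl | rfl
      · rfl
      · exact val_neg hq2 hq P e σ hσ hσo M hM ζ l
    simp only [hval]
    have hne1 : E q σ l ≠ 1 := by
      rw [Ne, E_eq_one hσo]; exact hl
    obtain ⟨y, -, -, hord, -⟩ := isPPart_E hq2 hσq l
    have h2 : ∀ ζ : IrrCharacter G, (ζ : G → ℂ) (E q σ l) * conj ((ζ : G → ℂ) (E q σ l)) =
        ((‖(ζ : G → ℂ) (E q σ l)‖ ^ 2 : ℝ) : ℂ) := by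
      intro ζ
      rw [Complex.mul_conj, Complex.normSq_eq_norm_sq]
    simp only [h2]
    rw [← Complex.ofReal_sum]
    by_cases hll : l = -l
    · obtain ⟨hc1, hc2, -⟩ := cent_facts_J hq2 hq P e σ hσ hσo l hl hll
      have h1 := (Cfsg.Agent.S0947.result 2 M hM (E q σ l) hord hne1 1
        (by rw [orderOf_one]; decide)).2 hc1
      rw [hc2, finsum_mem_eq_finite_toFinset_sum _ hBfin] at h1
      simp only [Subgroup.coe_one, mul_one] at h1
      have h3 : l' = l := by
        rcases hjk with h | h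
        · exact h
        · rw [h, ← hll]
      have h4 : l' = -l := by rw [h3]; exact hll
      rw [if_pos h3, if_pos h4]
      unfold Bf
      rw [h1]
      push_cast
      ring
    · obtain ⟨hc1, hc2⟩ := cent_facts hq2 hq P e σ hσ hσo l hll
      have h1 := (Cfsg.Agent.S0947.result 2 M hM (E q σ l) hord hne1 1
        (by rw [orderOf_one]; decide)).2 hc1
      rw [hc2, finsum_mem_eq_finite_toFinset_sum _ hBfin] at h1
      simp only [Subgroup.coe_one, mul_one] at h1
      unfold Bf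
      rw [h1]
      rcases hjk with h | h
      · rw [if_pos h, if_neg (by rw [h]; exact hll)]
        simp
      · rw [if_pos h, if_neg (by rw [h]; exact fun h' => hll h'.symm)]
        simp
  · have hnc : ¬ IsConj (E q σ l) (E q σ l') :=
      fun h => hjk (fusion hq2 hq P e σ hσ hσo l l' hl h)
    have := (Cfsg.Agent.S0925.result (G := G) 2 M hM).2 (E q σ l) (E q σ l') (E q σ l) (E q σ l')
      (isPPart_E hq2 hσq l) (isPPart_E hq2 hσq l') hnc _ hBb
    rw [finsum_mem_eq_finite_toFinset_sum _ hBfin] at this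
    simp only [Cfsg.Agent.Lib.Helper81Base.irr_inv] at this
    rw [not_or] at hjk
    rw [if_neg hjk.1, if_neg hjk.2, add_zero]
    exact this

theorem Psi (ρ : G) (hρ : Odd (orderOf ρ)) (l : ZMod q) (hl : l ≠ 0) :
    ∑ ζ ∈ Bf M G, (ζ : G → ℂ) (E q σ l) * (ζ : G → ℂ) ρ = 0 := by
  classical
  have : Fact (Nat.Prime 2) := ⟨Nat.prime_two⟩
  have := Fintype.ofFinite G
  have hσq : σ ^ q = 1 := pow_of_order hσo
  have hBb : IsPBlock M (principalBlock M G) :=
    Cfsg.Agent.Lib.Helper81Subsec2.isPBlock_principalBlock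
  have hBfin : (principalBlock M G).Finite := Set.toFinite _
  have hy : IsPPart 2 ρ⁻¹ 1 :=
    ⟨ρ⁻¹, one_mul _, Commute.one_left _, ⟨0, by simp⟩, by
      rw [orderOf_inv]
      intro h
      exact (Nat.not_even_iff_odd.mpr hρ) (even_iff_two_dvd.mpr h)⟩
  have hnc : ¬ IsConj (E q σ l) 1 := by
    intro hc
    rw [isConj_one_left] at hc
    exact hl ((E_eq_one hσo).mp hc)
  have := (Cfsg.Agent.S0925.result (G := G) 2 M hM).2 (E q σ l) ρ⁻¹ (E q σ l) 1
    (isPPart_E hq2 hσq l) hy hnc _ hBb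
  rw [inv_inv, finsum_mem_eq_finite_toFinset_sum _ hBfin] at this
  exact this

theorem block_struct (w : ℂˣ) (hw : orderOf w = q) (h : ZMod q) (hh0 : h ≠ 0) (hneg : -h = h) :
    ∃ (x1 x2 x3 : IrrCharacter G) (δ1 δ2 δ3 : ℤ) (y : ZMod q → IrrCharacter G),
      (x1 ∈ Bf M G ∧ x2 ∈ Bf M G ∧ x3 ∈ Bf M G) ∧
      (x1 ≠ irrOne G ∧ x2 ≠ irrOne G ∧ x3 ≠ irrOne G) ∧
      (x1 ≠ x2 ∧ x1 ≠ x3 ∧ x2 ≠ x3) ∧
      ((δ1 = 1 ∨ δ1 = -1) ∧ (δ2 = 1 ∨ δ2 = -1) ∧ (δ3 = 1 ∨ δ3 = -1)) ∧
      (∀ l, l ≠ 0 → (x1 : G → ℂ) (E q σ l) = δ1 ∧ (x2 : G → ℂ) (E q σ l) = -δ2 * ee w (h * l) ∧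
        (x3 : G → ℂ) (E q σ l) = -δ3 * ee w (h * l)) ∧
      (∀ k, k ≠ 0 → k ≠ h → y k ∈ Bf M G ∧ y k ≠ irrOne G ∧ y k ≠ x1 ∧ y k ≠ x2 ∧ y k ≠ x3 ∧
        ∀ l, l ≠ 0 → (y k : G → ℂ) (E q σ l) = δ1 * (ee w (k * l) + ee w (-(k * l)))) ∧
      (∀ k k', k ≠ 0 → k ≠ h → k' ≠ 0 → k' ≠ h → y k = y k' → k' = k ∨ k' = -k) ∧
      (∀ k, k ≠ 0 → k ≠ h → y (-k) = y k) ∧
      (∀ χ ∈ Bf M G, χ = irrOne G ∨ χ = x1 ∨ χ = x2 ∨ χ = x3 ∨ ∃ k, k ≠ 0 ∧ k ≠ h ∧ χ = y k) ∧
      (∀ ρ : G, Odd (orderOf ρ) →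
        1 + δ1 * (x1 : G → ℂ) ρ + δ2 * (x2 : G → ℂ) ρ + δ3 * (x3 : G → ℂ) ρ = 0 ∧
        ∀ k, k ≠ 0 → k ≠ h → 1 + δ1 * (x1 : G → ℂ) ρ - δ1 * (y k : G → ℂ) ρ = 0) := by
  classical
  have hσq : σ ^ q = 1 := pow_of_order hσo
  have hwq : w ^ q = 1 := pow_of_order hw
  have hchar : ∀ χ : IrrCharacter G, IsCharacter G (χ : G → ℂ) := fun χ =>
    Cfsg.Agent.Lib.Helper4Char.IsIrrCharacter.isCharacter χ.2
  choose a ha using fun (χ : IrrCharacter G) (j : ZMod q) => aa_int hwq hσq (hchar χ) j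
  choose d hdpos hd using fun (χ : IrrCharacter G) => Cfsg.Agent.Lib.Helper81Base.irr_one χ
  have hone : ∀ j : ZMod q, j ≠ 0 → a (irrOne G) j = 1 := by
    intro j hj
    have h1 := ha (irrOne G) j
    have h2 : aa w σ ((irrOne G : IrrCharacter G) : G → ℂ) j = 1 := aa_one hw σ hj
    rw [h2] at h1
    exact_mod_cast h1.symm
  have hmem1 := one_mem_Bf (G := G) hM
  have hq1 : Fact (1 < q) := ⟨by omega⟩
  obtain ⟨m', rfl⟩ : ∃ m', m = m' + 1 := ⟨m - 1, by
    rcases m with _ | m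
    · omega
    · rfl⟩
  have hq' : q = 2 * 2 ^ m' := by rw [hq2]; ring
  have hhval : h = ((2 ^ m' : ℕ) : ZMod q) := by
    rcases zmod_half hq' h hneg.symm with e1 | e1
    · exact absurd e1 hh0
    · exact e1
  have hgram : ∀ j k : ZMod q, j ≠ 0 → k ≠ 0 → ∑ i ∈ Bf M G, a i j * a i k =
      2 + (if k = j then 1 else 0) + (if k = -j then 1 else 0) := by
    intro j k hj hk
    have h1 := gram hw σ (Bf M G) (Phi hq2 hq P e σ hσ hσo M hM) hj hk
    simp only [ha, map_intCast] at h1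
    have h2 : ((∑ i ∈ Bf M G, a i j * a i k : ℤ) : ℂ) =
        ((2 + (if k = j then 1 else 0) + (if k = -j then 1 else 0) : ℤ) : ℂ) := by
      push_cast
      rw [h1]
    exact_mod_cast h2
  have hrel : ∀ (ρ : G), Odd (orderOf ρ) → ∀ j : ZMod q,
      ∑ i ∈ Bf M G, (a i j : ℂ) * (i : G → ℂ) ρ = 0 := by
    intro ρ hρ j
    have h1 := sum_aa_mul (w := w) σ (Bf M G) ρ (Psi hq2 hq P e σ hσ hσo M hM ρ hρ) j
    simpa only [ha] using h1
  have D : Data ((Bf M G).erase (irrOne G)) a (fun χ => (d χ : ℤ)) h := by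
    refine ⟨hh0, hneg, ?_, one_ne_zero, ?_, ?_, ?_, ?_, ?_, third_aux hq2 hq h hh0 hneg⟩
    · intro j hj
      rcases zmod_half hq' j hj.symm with e1 | e1
      · exact Or.inl e1
      · exact Or.inr (e1.trans hhval.symm)
    · intro e1
      rw [← e1] at hneg
      have h2 : ((2 : ℕ) : ZMod q) = 0 := by
        push_cast
        linear_combination -hneg
      rw [ZMod.natCast_eq_zero_iff] at h2
      have := Nat.le_of_dvd (by norm_num) h2
      omega
    · intro i _
      exact_mod_cast hdpos i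
    · intro i j
      have h1 := aa_neg (w := w) (α := σ) (ζ := (i : G → ℂ))
        (fun l => val_neg hq2 hq P e σ hσ hσo M hM i l) j
      rw [ha, ha] at h1
      exact_mod_cast h1
    · intro j k hj hk
      have h1 := hgram j k hj hk
      rw [← Finset.add_sum_erase _ _ hmem1, hone j hj, hone k hk] at h1
      linarith
    · intro j hj
      have h1 := hrel 1 (by simp) j
      simp only [hd] at h1
      have h2 : ∑ i ∈ Bf M G, a i j * (d i : ℤ) = 0 := by exact_mod_cast h1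
      rw [← Finset.add_sum_erase _ _ hmem1, hone j hj] at h2
      have h3 : d (irrOne G) = 1 := by
        have := hd (irrOne G)
        have h4 : ((irrOne G : IrrCharacter G) : G → ℂ) 1 = 1 := rfl
        rw [h4] at this
        exact_mod_cast this.symm
      rw [h3] at h2
      push_cast at h2
      linarith
  obtain ⟨x1, x2, x3, δ1, δ2, δ3, y, m1, m2, m3, n12, n13, n23, s1, s2, s3, a1, a2, a3, hy, hinj,
    hyneg, hrest⟩ := D.main
  have hkk : ∀ k : ZMod q, k ≠ 0 → k ≠ h → k ≠ -k := by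
    intro k hk hkh e1
    rcases D.honly k e1.symm with e2 | e2
    · exact hk e2
    · exact hkh e2
  have hclass : ∀ χ ∈ Bf M G, χ = irrOne G ∨ χ = x1 ∨ χ = x2 ∨ χ = x3 ∨
      ∃ k, k ≠ 0 ∧ k ≠ h ∧ χ = y k := by
    intro χ hχ
    by_contra hcon
    simp only [not_or, not_exists, not_and] at hcon
    obtain ⟨c0, c1, c2, c3, c4⟩ := hcon
    have h1 := hrest χ (Finset.mem_erase.mpr ⟨c0, hχ⟩) c1 c2 c3 c4
    have h2 : (χ : G → ℂ) (E q σ h) = 0 := by
      apply val_zero hw σ _ _ hh0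
      intro j hj
      rw [ha, h1 j hj]
      simp
    exact Cfsg.Agent.Lib.Helper67Kazarin.ne_zero_of_mem_principalBlock hM _
      (cent_facts_J hq2 hq P e σ hσ hσo h hh0 hneg.symm).2.2 χ (mem_Bf.mp hχ) h2
  refine ⟨x1, x2, x3, δ1, δ2, δ3, y, ⟨(Finset.mem_erase.mp m1).2, (Finset.mem_erase.mp m2).2,
    (Finset.mem_erase.mp m3).2⟩, ⟨(Finset.mem_erase.mp m1).1, (Finset.mem_erase.mp m2).1,
    (Finset.mem_erase.mp m3).1⟩, ⟨n12, n13, n23⟩, ⟨s1, s2, s3⟩, ?_, ?_, hinj, hyneg, hclass, ?_⟩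
  · intro l hl
    refine ⟨?_, ?_, ?_⟩
    · apply val_const hw σ _ _ _ hl
      intro j hj
      rw [ha, a1 j hj]
    · apply val_single hw σ _ _ h hh0 _ hl
      intro j hj
      rw [ha, a2 j hj]
      split_ifs <;> simp
    · apply val_single hw σ _ _ h hh0 _ hl
      intro j hj
      rw [ha, a3 j hj]
      split_ifs <;> simp
  · intro k hk hkh
    obtain ⟨h1, h2, h3, h4, h5⟩ := hy k hk hkh
    refine ⟨(Finset.mem_erase.mp h1).2, (Finset.mem_erase.mp h1).1, h2, h3, h4, ?_⟩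
    intro l hl
    apply val_pair hw σ _ _ k hk (hkk k hk hkh) _ hl
    intro j hj
    rw [ha, h5 j hj]
    split_ifs <;> simp
  · intro ρ hρ
    constructor
    · have h1 := hrel ρ hρ h
      have hsub : ({irrOne G, x1, x2, x3} : Finset (IrrCharacter G)) ⊆ Bf M G := by
        intro χ hχ
        simp only [Finset.mem_insert, Finset.mem_singleton] at hχ
        rcases hχ with rfl | rfl | rfl | rfl
        · exact hmem1
        · exact (Finset.mem_erase.mp m1).2
        · exact (Finset.mem_erase.mp m2).2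
        · exact (Finset.mem_erase.mp m3).2
      rw [← Finset.sum_subset hsub] at h1
      · rw [Finset.sum_insert, Finset.sum_insert, Finset.sum_insert, Finset.sum_singleton,
          hone h hh0, a1 h hh0, a2 h hh0, a3 h hh0, if_pos rfl, if_pos rfl] at h1
        · have h4 : ((irrOne G : IrrCharacter G) : G → ℂ) ρ = 1 := rfl
          rw [h4] at h1
          push_cast at h1
          linear_combination h1
        · simp [n23]
        · simp [n12, n13]
        · simp only [Finset.mem_insert, Finset.mem_singleton, not_or]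
          exact ⟨(Finset.mem_erase.mp m1).1.symm, (Finset.mem_erase.mp m2).1.symm,
            (Finset.mem_erase.mp m3).1.symm⟩
      · intro χ hχ hχn
        simp only [Finset.mem_insert, Finset.mem_singleton, not_or] at hχn
        rcases hclass χ hχ with e1 | e1 | e1 | e1 | ⟨k, hk, hkh, e1⟩
        · exact absurd e1 hχn.1
        · exact absurd e1 hχn.2.1
        · exact absurd e1 hχn.2.2.1
        · exact absurd e1 hχn.2.2.2
        · rw [e1, (hy k hk hkh).2.2.2.2 h hh0, if_neg]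
          · simp
          · rintro (e2 | e2)
            · exact hkh e2.symm
            · exact (D.neg_good hk hkh).2 e2.symm
    · intro k hk hkh
      have h1 := hrel ρ hρ k
      obtain ⟨y1, y2, y3, y4, y5⟩ := hy k hk hkh
      have hsub : ({irrOne G, x1, y k} : Finset (IrrCharacter G)) ⊆ Bf M G := by
        intro χ hχ
        simp only [Finset.mem_insert, Finset.mem_singleton] at hχ
        rcases hχ with rfl | rfl | rfl
        · exact hmem1
        · exact (Finset.mem_erase.mp m1).2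
        · exact (Finset.mem_erase.mp y1).2
      rw [← Finset.sum_subset hsub] at h1
      · rw [Finset.sum_insert, Finset.sum_insert, Finset.sum_singleton,
          hone k hk, a1 k hk, y5 k hk, if_pos (Or.inl rfl)] at h1
        · have h4 : ((irrOne G : IrrCharacter G) : G → ℂ) ρ = 1 := rfl
          rw [h4] at h1
          push_cast at h1
          linear_combination h1
        · simp [y2.symm]
        · simp only [Finset.mem_insert, Finset.mem_singleton, not_or]
          exact ⟨(Finset.mem_erase.mp m1).1.symm, (Finset.mem_erase.mp y1).1.symm⟩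
      · intro χ hχ hχn
        simp only [Finset.mem_insert, Finset.mem_singleton, not_or] at hχn
        rcases hclass χ hχ with e1 | e1 | e1 | e1 | ⟨k', hk', hkh', e1⟩
        · exact absurd e1 hχn.1
        · exact absurd e1 hχn.2.1
        · rw [e1, a2 k hk, if_neg hkh]; simp
        · rw [e1, a3 k hk, if_neg hkh]; simp
        · rw [e1, (hy k' hk' hkh').2.2.2.2 k hk, if_neg]
          · simp
          · rintro (e2 | e2)
            · exact hχn.2.2 (by rw [e1, e2])
            · apply hχn.2.2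
              rw [e1, e2, hyneg k' hk' hkh']

end main

end Cfsg.Agent.Lib.Helper29DihD
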