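import Mathlib
import Cfsg.Prelude.Def_Blocks
import Cfsg.Agent.Lib.Helper81BB
import Cfsg.Agent.Lib.Helper81Orth

set_option autoImplicit false
set_option linter.unusedSectionVars false
open Cfsg

namespace Cfsg.Agent.Lib.Helper29DihE

open Cfsg.Agent.Lib.Helper81Base Cfsg.Agent.Lib.Helper81BB Cfsg.Agent.Lib.Helper81Orth
open scoped ComplexConjugate

variable {G : Type*} [Group G] [Fintype G] [DecidableEq G]

/-- the number of elements conjugating `g` to `h` -/
theorem card_conjugators (g h : G) [Decidable (IsConj g h)] :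
    (Finset.univ.filter fun x : G => x * g * x⁻¹ = h).card =
      if IsConj g h then Nat.card (Subgroup.centralizer ({g} : Set G)) else 0 := by
  split_ifs with hc
  · obtain ⟨c, hc⟩ := isConj_iff.mp hc
    rw [← Fintype.card_subtype, ← Nat.card_eq_fintype_card]
    apply Nat.card_congr
    refine ⟨fun x => ⟨c⁻¹ * x.1, ?_⟩, fun y => ⟨c * y.1, ?_⟩, ?_, ?_⟩
    · rw [Subgroup.mem_centralizer_singleton_iff]
      have h1 : x.1 * g * x.1⁻¹ = c * g * c⁻¹ := x.2.trans hc.symm
      have h2 : x.1 * g = c * g * c⁻¹ * x.1 := by rw [← h1]; group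
      calc c⁻¹ * x.1 * g = c⁻¹ * (x.1 * g) := by group
        _ = c⁻¹ * (c * g * c⁻¹ * x.1) := by rw [h2]
        _ = g * (c⁻¹ * x.1) := by group
    · have h1 : y.1 * g = g * y.1 := Subgroup.mem_centralizer_singleton_iff.mp y.2
      rw [← hc]
      calc c * y.1 * g * (c * y.1)⁻¹ = c * (y.1 * g) * y.1⁻¹ * c⁻¹ := by group
        _ = c * (g * y.1) * y.1⁻¹ * c⁻¹ := by rw [h1]
        _ = c * g * c⁻¹ := by group
    · intro x
      apply Subtype.ext
      simp
    · intro y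
      apply Subtype.ext
      simp
  · rw [Finset.card_eq_zero, Finset.filter_eq_empty_iff]
    intro x _ hx
    exact hc (isConj_iff.mpr ⟨x, hx⟩)

theorem orth2 (g h : G) :
    ∑ χ : IrrCharacter G, (χ : G → ℂ) g * conj ((χ : G → ℂ) h) =
      ((Finset.univ.filter fun x : G => x * g * x⁻¹ = h).card : ℂ) := by
  classical
  rw [irr_orth2, card_conjugators]
  split_ifs <;> simp

theorem reg (g : G) :
    ∑ χ : IrrCharacter G, (χ : G → ℂ) 1 * (χ : G → ℂ) g = if g = 1 then (Nat.card G : ℂ) else 0 := by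
  have h1 := orth2 g 1
  have h2 : ∀ χ : IrrCharacter G, (χ : G → ℂ) g * conj ((χ : G → ℂ) 1) =
      (χ : G → ℂ) 1 * (χ : G → ℂ) g := by
    intro χ
    obtain ⟨n, -, hn⟩ := irr_one χ
    rw [hn, Complex.conj_natCast, mul_comm]
  simp only [h2] at h1
  rw [h1]
  split_ifs with hg
  · subst hg
    simp [Nat.card_eq_fintype_card]
  · rw [Nat.cast_eq_zero, Finset.card_eq_zero, Finset.filter_eq_empty_iff]
    intro x _ hx
    apply hg
    have : g = x⁻¹ * (x * g * x⁻¹) * x := by group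
    rw [this, hx]
    group

/-- the number of pairs of conjugators `(s,t)` with `J^s J^t ∈ W` -/
noncomputable def TT (J : G) (W : Finset G) : ℂ :=
  ∑ s : G, ∑ t : G, if s * J * s⁻¹ * (t * J * t⁻¹) ∈ W then (1 : ℂ) else 0

theorem TT_eq (J : G) (W : Finset G) :
    TT J W = (Nat.card G : ℂ) * ∑ χ : IrrCharacter G,
      (χ : G → ℂ) J ^ 2 / (χ : G → ℂ) 1 * ∑ w ∈ W, conj ((χ : G → ℂ) w) := by
  have h0 : (Nat.card G : ℂ) ≠ 0 := Nat.cast_ne_zero.mpr Nat.card_pos.ne'
  have h1 : ∀ g : G, (if g ∈ W then (1 : ℂ) else 0) =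
      ∑ w ∈ W, (Nat.card G : ℂ)⁻¹ * ∑ χ : IrrCharacter G, (χ : G → ℂ) 1 * (χ : G → ℂ) (g * w⁻¹) := by
    intro g
    simp only [reg, mul_inv_eq_one]
    simp only [mul_ite, mul_zero, inv_mul_cancel₀ h0]
    rw [Finset.sum_ite_eq]
  unfold TT
  simp only [h1]
  have h2 : ∀ (χ : IrrCharacter G) (w : G), ∑ s : G, ∑ t : G,
      (χ : G → ℂ) (s * J * s⁻¹ * (t * J * t⁻¹) * w⁻¹) =
      (Nat.card G : ℂ) ^ 2 * (χ : G → ℂ) J ^ 2 * conj ((χ : G → ℂ) w) / (χ : G → ℂ) 1 ^ 2 := by
    intro χ w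
    rw [Finset.sum_comm]
    have h3 : ∀ t : G, ∑ s : G, (χ : G → ℂ) (s * J * s⁻¹ * (t * J * t⁻¹) * w⁻¹) =
        (Nat.card G : ℂ) * (χ : G → ℂ) J * (χ : G → ℂ) (t * J * t⁻¹ * w⁻¹) / (χ : G → ℂ) 1 := by
      intro t
      simp only [mul_assoc (_ * J * _⁻¹) (t * J * t⁻¹) w⁻¹]
      exact irr_avg χ J _
    simp only [h3]
    rw [← Finset.sum_div, ← Finset.mul_sum, irr_avg, irr_inv]
    ring
  calc ∑ s : G, ∑ t : G, ∑ w ∈ W, (Nat.card G : ℂ)⁻¹ * ∑ χ : IrrCharacter G,
        (χ : G → ℂ) 1 * (χ : G → ℂ) (s * J * s⁻¹ * (t * J * t⁻¹) * w⁻¹)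
      = ∑ w ∈ W, (Nat.card G : ℂ)⁻¹ * ∑ χ : IrrCharacter G, (χ : G → ℂ) 1 *
          ∑ s : G, ∑ t : G, (χ : G → ℂ) (s * J * s⁻¹ * (t * J * t⁻¹) * w⁻¹) := by
        simp only [Finset.mul_sum]
        rw [Finset.sum_congr rfl fun s _ => Finset.sum_comm]
        rw [Finset.sum_comm]
        refine Finset.sum_congr rfl fun w _ => ?_
        rw [Finset.sum_congr rfl fun s _ => Finset.sum_comm]
        rw [Finset.sum_comm]
    _ = _ := by
        simp only [h2]
        simp only [Finset.mul_sum]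
        rw [Finset.sum_comm]
        refine Finset.sum_congr rfl fun χ _ => Finset.sum_congr rfl fun w _ => ?_
        have := irr_one_ne_zero χ
        field_simp

/-- the norm argument: characters outside `B` have vanishing sum on `W` -/
theorem norm_lemma (B : Finset (IrrCharacter G)) (W : Finset G) (u : G) (R : ℕ) (S : ℂ)
    (hα : ∀ χ ∈ B, ∀ w ∈ W, (χ : G → ℂ) w = (χ : G → ℂ) u)
    (hβ : ∀ w ∈ W, (Finset.univ.filter fun x : G => x * w * x⁻¹ ∈ W).card = R)
    (hγ : ∑ χ ∈ B, (χ : G → ℂ) u * conj ((χ : G → ℂ) u) = S)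
    (hδ : (R : ℂ) = W.card * S) (χ : IrrCharacter G) (hχ : χ ∉ B) :
    ∑ w ∈ W, (χ : G → ℂ) w = 0 := by
  classical
  set A : IrrCharacter G → ℂ := fun χ => ∑ w ∈ W, (χ : G → ℂ) w with hA
  have htot : ∑ χ : IrrCharacter G, A χ * conj (A χ) = W.card * (R : ℂ) := by
    have h1 : ∀ χ : IrrCharacter G, A χ * conj (A χ) =
        ∑ w ∈ W, ∑ w' ∈ W, (χ : G → ℂ) w * conj ((χ : G → ℂ) w') := by
      intro χ
      rw [hA, map_sum, Finset.sum_mul_sum]
    simp only [h1]
    rw [Finset.sum_comm]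
    have h2 : ∀ w ∈ W, ∑ χ : IrrCharacter G, ∑ w' ∈ W,
        (χ : G → ℂ) w * conj ((χ : G → ℂ) w') = (R : ℂ) := by
      intro w hw
      rw [Finset.sum_comm]
      simp only [orth2]
      rw [← Nat.cast_sum, ← hβ w hw]
      congr 1
      rw [Finset.card_eq_sum_card_fiberwise (f := fun x : G => x * w * x⁻¹) (t := W)]
      · refine Finset.sum_congr rfl fun w' hw' => ?_
        congr 1
        ext x
        simp only [Finset.mem_filter, Finset.mem_univ, true_and]
        constructor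
        · intro h; exact ⟨h ▸ hw', h⟩
        · intro h; exact h.2
      · intro x hx
        exact (Finset.mem_filter.mp hx).2
    rw [Finset.sum_congr rfl h2]
    simp
  have hB : ∑ χ ∈ B, A χ * conj (A χ) = W.card * (R : ℂ) := by
    have h1 : ∀ χ ∈ B, A χ * conj (A χ) =
        (W.card : ℂ) * W.card * ((χ : G → ℂ) u * conj ((χ : G → ℂ) u)) := by
      intro χ hχ
      have : A χ = W.card * (χ : G → ℂ) u := by
        rw [hA]
        simp only
        rw [Finset.sum_congr rfl (hα χ hχ)]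
        simp
      rw [this, map_mul, Complex.conj_natCast]
      ring
    rw [Finset.sum_congr rfl h1, ← Finset.mul_sum, hγ, hδ]
    ring
  have hrest : ∑ χ ∈ Finset.univ \ B, A χ * conj (A χ) = 0 := by
    have := Finset.sum_sdiff (Finset.subset_univ B) (f := fun χ => A χ * conj (A χ))
    rw [htot, hB] at this
    exact add_eq_right.mp this
  have h3 : ∀ χ : IrrCharacter G, A χ * conj (A χ) = ((Complex.normSq (A χ) : ℝ) : ℂ) := fun χ =>
    Complex.mul_conj _
  simp only [h3] at hrest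
  rw [← Complex.ofReal_sum, Complex.ofReal_eq_zero] at hrest
  have h4 := (Finset.sum_eq_zero_iff_of_nonneg (fun χ _ => Complex.normSq_nonneg (A χ))).mp hrest χ
    (Finset.mem_sdiff.mpr ⟨Finset.mem_univ _, hχ⟩)
  exact Complex.normSq_eq_zero.mp h4

theorem TT_block (J : G) (B : Finset (IrrCharacter G)) (W : Finset G) (u : G) (R : ℕ) (S : ℂ)
    (hα : ∀ χ ∈ B, ∀ w ∈ W, (χ : G → ℂ) w = (χ : G → ℂ) u)
    (hβ : ∀ w ∈ W, (Finset.univ.filter fun x : G => x * w * x⁻¹ ∈ W).card = R)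
    (hγ : ∑ χ ∈ B, (χ : G → ℂ) u * conj ((χ : G → ℂ) u) = S)
    (hδ : (R : ℂ) = W.card * S) :
    TT J W = (Nat.card G : ℂ) * W.card * ∑ χ ∈ B,
      (χ : G → ℂ) J ^ 2 * conj ((χ : G → ℂ) u) / (χ : G → ℂ) 1 := by
  classical
  rw [TT_eq, mul_assoc]
  congr 1
  rw [← Finset.sum_subset (Finset.subset_univ B)]
  · rw [Finset.mul_sum]
    refine Finset.sum_congr rfl fun χ hχ => ?_
    have : ∑ w ∈ W, conj ((χ : G → ℂ) w) = W.card * conj ((χ : G → ℂ) u) := by
      rw [Finset.sum_congr rfl fun w hw => by rw [hα χ hχ w hw]]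
      simp
    rw [this]
    ring
  · intro χ _ hχ
    have := norm_lemma B W u R S hα hβ hγ hδ χ hχ
    rw [← map_sum, this]
    simp

/-- summing over conjugators versus summing over the class -/
theorem sum_conj (J : G) (f : G → ℂ) :
    ∑ s : G, f (s * J * s⁻¹) =
      (Nat.card (Subgroup.centralizer ({J} : Set G)) : ℂ) *
        ∑ a : G, if IsConj J a then f a else 0 := by
  classical
  have h1 : ∀ s : G, f (s * J * s⁻¹) = ∑ a : G, if s * J * s⁻¹ = a then f a else 0 := by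
    intro s
    rw [Finset.sum_ite_eq]
    simp
  simp only [h1]
  rw [Finset.sum_comm, Finset.mul_sum]
  refine Finset.sum_congr rfl fun a _ => ?_
  rw [← Finset.sum_filter, Finset.sum_const, card_conjugators]
  split_ifs <;> simp

theorem TT_class (J : G) (W : Finset G) :
    TT J W = (Nat.card (Subgroup.centralizer ({J} : Set G)) : ℂ) ^ 2 *
      ((Finset.univ.filter fun p : G × G => IsConj J p.1 ∧ IsConj J p.2 ∧ p.1 * p.2 ∈ W).card : ℂ) := by
  classical
  unfold TT
  have h1 : ∀ s : G, ∑ t : G, (if s * J * s⁻¹ * (t * J * t⁻¹) ∈ W then (1 : ℂ) else 0) =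
      (Nat.card (Subgroup.centralizer ({J} : Set G)) : ℂ) *
        ∑ b : G, if IsConj J b then (if s * J * s⁻¹ * b ∈ W then (1 : ℂ) else 0) else 0 := fun s =>
    sum_conj J (fun b => if s * J * s⁻¹ * b ∈ W then (1 : ℂ) else 0)
  simp only [h1]
  rw [← Finset.mul_sum]
  rw [sum_conj J (fun a => ∑ b : G, if IsConj J b then (if a * b ∈ W then (1 : ℂ) else 0) else 0)]
  rw [pow_two, mul_assoc]
  congr 2
  rw [Finset.card_filter, Nat.cast_sum, Fintype.sum_prod_type]
  refine Finset.sum_congr rfl fun a _ => ?_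
  by_cases ha : IsConj J a
  · rw [if_pos ha]
    refine Finset.sum_congr rfl fun b _ => ?_
    by_cases hb : IsConj J b <;> by_cases hw : a * b ∈ W <;>
      simp only [ha, hb, hw, true_and, and_true, if_true, if_false, and_false, false_and,
        Nat.cast_one, Nat.cast_zero, and_self]
  · rw [if_neg ha]
    simp only [ha, false_and, if_false, Nat.cast_zero, Finset.sum_const_zero]

end Cfsg.Agent.Lib.Helper29DihE
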