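import Mathlib
import Cfsg.Agent.Lib.Helper29DihC

set_option autoImplicit false
set_option linter.unusedSectionVars false
open Cfsg

namespace Cfsg.Agent.Lib.Helper29DihF

open Cfsg.Agent.Lib.Helper25Exp Cfsg.Agent.Lib.Helper29BSc Cfsg.Agent.Lib.Helper29DihC
open Subgroup DihedralGroup

variable {G : Type*} [Group G] {q : ℕ} [NeZero q]

/-- the underlying map of the homomorphism from the dihedral group given by `σ`, `τ` -/
noncomputable def dihFun (σ τ : G) : DihedralGroup q → G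
  | r i => E q σ i
  | sr i => τ * E q σ i

theorem conj_tau {σ τ : G} (hσq : σ ^ q = 1) (hrel : τ * σ * τ⁻¹ = σ⁻¹) (i : ZMod q) :
    E q σ i * τ = τ * E q σ (-i) := by
  have h1 : τ * E q σ (-i) * τ⁻¹ = E q σ i := by
    rw [← conj_E', hrel]
    show (σ⁻¹) ^ (-i).val = _
    rw [inv_pow]
    have : σ ^ (-i).val = E q σ (-i) := rfl
    rw [this, E_neg hσq, inv_inv]
  rw [← h1]
  group

noncomputable def dihHom (σ τ : G) (hσq : σ ^ q = 1) (hτ : τ * τ = 1)
    (hrel : τ * σ * τ⁻¹ = σ⁻¹) : DihedralGroup q →* G :=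
  MonoidHom.mk' (dihFun σ τ) (by
    intro x y
    rcases x with i | i <;> rcases y with j | j
    · show E q σ (i + j) = E q σ i * E q σ j
      exact E_add hσq i j
    · show τ * E q σ (j - i) = E q σ i * (τ * E q σ j)
      rw [← mul_assoc, conj_tau hσq hrel, mul_assoc, ← E_add hσq]
      congr 2
      ring
    · show τ * E q σ (i + j) = τ * E q σ i * E q σ j
      rw [E_add hσq, mul_assoc]
    · show E q σ (j - i) = τ * E q σ i * (τ * E q σ j)
      rw [mul_assoc, ← mul_assoc (E q σ i), conj_tau hσq hrel, mul_assoc, ← mul_assoc, hτ, one_mul,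
        ← E_add hσq]
      congr 1
      ring)

theorem dihHom_r (σ τ : G) (hσq : σ ^ q = 1) (hτ : τ * τ = 1) (hrel : τ * σ * τ⁻¹ = σ⁻¹)
    (i : ZMod q) : dihHom σ τ hσq hτ hrel (r i) = E q σ i := rfl

theorem dihHom_sr (σ τ : G) (hσq : σ ^ q = 1) (hτ : τ * τ = 1) (hrel : τ * σ * τ⁻¹ = σ⁻¹)
    (i : ZMod q) : dihHom σ τ hσq hτ hrel (sr i) = τ * E q σ i := rfl

theorem dihHom_injective (hq : 3 ≤ q) (σ τ : G) (hσo : orderOf σ = q) (hτ : τ * τ = 1)
    (hrel : τ * σ * τ⁻¹ = σ⁻¹) :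
    Function.Injective (dihHom σ τ (pow_of_order hσo) hτ hrel) := by
  have hσq := pow_of_order hσo
  rw [injective_iff_map_eq_one]
  intro x hx
  rcases x with i | i
  · rw [dihHom_r, E_eq_one hσo] at hx
    rw [hx]; rfl
  · exfalso
    rw [dihHom_sr] at hx
    have h1 : τ = E q σ (-i) := by
      rw [E_neg hσq]
      exact eq_inv_of_mul_eq_one_left hx
    have h2 : τ * σ * τ⁻¹ = σ := by
      have h3 : τ * σ = σ * τ := by
        nth_rewrite 2 [← E_one hσq]
        nth_rewrite 1 [← E_one hσq]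
        rw [h1]
        exact E_comm hσq _ _
      rw [h3]; group
    rw [hrel] at h2
    have h4 : σ ^ 2 = 1 := by
      rw [pow_two]
      nth_rewrite 1 [← h2]
      exact inv_mul_cancel σ
    have := orderOf_le_of_pow_eq_one (by norm_num) h4
    omega

theorem dihHom_range (σ τ : G) (hσq : σ ^ q = 1) (hτ : τ * τ = 1) (hrel : τ * σ * τ⁻¹ = σ⁻¹) :
    (dihHom σ τ hσq hτ hrel).range = closure ({σ, τ} : Set G) := by
  apply le_antisymm
  · rintro _ ⟨x, rfl⟩
    have h1 : σ ∈ closure ({σ, τ} : Set G) := subset_closure (by simp)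
    have h2 : τ ∈ closure ({σ, τ} : Set G) := subset_closure (by simp)
    rcases x with i | i
    · rw [dihHom_r]; exact pow_mem h1 _
    · rw [dihHom_sr]; exact mul_mem h2 (pow_mem h1 _)
  · rw [closure_le]
    rintro x (rfl | rfl)
    · exact ⟨r 1, by rw [dihHom_r, E_one hσq]⟩
    · exact ⟨sr 0, by rw [dihHom_sr, E_zero, mul_one]⟩

/-- the normalised isomorphism -/
theorem exists_equiv (hq : 3 ≤ q) (P : Subgroup G) (σ τ : G) (hσo : orderOf σ = q) (hτ : τ * τ = 1)
    (hrel : τ * σ * τ⁻¹ = σ⁻¹) (hgen : closure ({σ, τ} : Set G) = P) :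
    ∃ e : P ≃* DihedralGroup q, ∀ x : DihedralGroup q,
      ((e.symm x : P) : G) = dihHom σ τ (pow_of_order hσo) hτ hrel x := by
  have hσq := pow_of_order hσo
  have hinj := dihHom_injective hq σ τ hσo hτ hrel
  have hr : (dihHom σ τ hσq hτ hrel).range = P := (dihHom_range σ τ hσq hτ hrel).trans hgen
  refine ⟨((MonoidHom.ofInjective hinj).trans (MulEquiv.subgroupCongr hr)).symm, ?_⟩
  intro x
  rfl

theorem exists_phi [Finite G] {m : ℕ} (hq2 : q = 2 ^ m) (hq : 3 ≤ q) (P : Sylow 2 G)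
    (e : (P : Subgroup G) ≃* DihedralGroup q) (σ : G) (hσ : σ ∈ P) (hσo : orderOf σ = q)
    (l : ZMod q) (hl0 : l ≠ 0) (hl : l = -l) :
    ∃ (hPC : (P : Subgroup G) ≤ centralizer ({E q σ l} : Set G))
      (φ : centralizer ({E q σ l} : Set G) →* DihedralGroup q),
      Odd (Nat.card φ.ker) ∧ ∀ (p : G) (hp : p ∈ P), φ ⟨p, hPC hp⟩ = e ⟨p, hp⟩ := by
  have : Fact (Nat.Prime 2) := ⟨Nat.prime_two⟩
  have hσq : σ ^ q = 1 := pow_of_order hσo
  have hinv : (E q σ l)⁻¹ = E q σ l := by rw [← E_neg hσq, ← hl]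
  have ht : orderOf (E q σ l) = 2 := by
    apply orderOf_eq_prime
    · rw [pow_two]
      nth_rewrite 1 [← hinv]
      exact inv_mul_cancel _
    · rw [Ne, E_eq_one hσo]
      exact hl0
  have hex := Cfsg.Agent.S0514.result P q (by omega) ⟨e⟩ _ ht
  have hcf := (cent_facts_J hq2 hq P e σ hσ hσo l hl0 hl).2.1
  obtain ⟨-, h2, -⟩ := setup hq (P : Subgroup G) e σ hσ hσo
  have hPC : (P : Subgroup G) ≤ centralizer ({E q σ l} : Set G) := by
    intro s hs
    rw [mem_centralizer_singleton_iff]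
    have h3 : s * E q σ l * s⁻¹ = E q σ l := by
      rw [← conj_E']
      rcases h2 s hs with h | h
      · rw [h]
      · rw [h]
        unfold E
        rw [inv_pow]
        exact hinv
    calc s * E q σ l = s * E q σ l * s⁻¹ * s := by group
      _ = _ := by rw [h3]
  set C := centralizer ({E q σ l} : Set G) with hC
  obtain ⟨N, hN, hodd, k, hidx⟩ := hex
  have hk : 2 ^ k = 2 * q := by
    rw [← (core_facts N hodd hidx).2]
    exact hcf
  have hcP : Nat.card ((P : Subgroup G).subgroupOf C) = 2 * q := by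
    rw [Nat.card_congr (Subgroup.subgroupOfEquivOfLe hPC).toEquiv, Nat.card_congr e.toEquiv,
      DihedralGroup.nat_card]
  have hcompl : IsComplement' ((P : Subgroup G).subgroupOf C) N := by
    apply isComplement'_of_coprime
    · rw [hcP, ← hk, ← hidx, mul_comm]
      exact N.card_mul_index
    · rw [hcP, ← hk]
      exact Nat.Coprime.pow_left _ (Nat.coprime_two_left.mpr hodd)
  let Q := hcompl.QuotientMulEquiv
  let φ : C →* DihedralGroup q :=
    (e.toMonoidHom.comp (Subgroup.subgroupOfEquivOfLe hPC).toMonoidHom).comp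
      (Q.toMonoidHom.comp (QuotientGroup.mk' N))
  have hker : φ.ker = N := by
    ext x
    rw [MonoidHom.mem_ker]
    show e ((Subgroup.subgroupOfEquivOfLe hPC) (Q (QuotientGroup.mk' N x))) = 1 ↔ _
    rw [MulEquiv.map_eq_one_iff, MulEquiv.map_eq_one_iff, MulEquiv.map_eq_one_iff]
    exact QuotientGroup.eq_one_iff x
  refine ⟨hPC, φ, by rw [hker]; exact hodd, ?_⟩
  intro p hp
  show e ((Subgroup.subgroupOfEquivOfLe hPC) (Q (QuotientGroup.mk' N ⟨p, hPC hp⟩))) = _
  have h3 : Q (QuotientGroup.mk' N ⟨p, hPC hp⟩) = ⟨⟨p, hPC hp⟩, by rw [mem_subgroupOf]; exact hp⟩ := by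
    rw [← MulEquiv.eq_symm_apply]
    rfl
  rw [h3]
  rfl

end Cfsg.Agent.Lib.Helper29DihF
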