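import Mathlib
import Cfsg.Agent.Lib.Helper29DihC
import Cfsg.Agent.Lib.Helper29DihE
import Cfsg.Agent.Lib.Helper58OddInv

set_option autoImplicit false
set_option linter.unusedSectionVars false
open Cfsg

namespace Cfsg.Agent.Lib.Helper29DihG

open Cfsg.Agent.Lib.Helper29DihC Cfsg.Agent.Lib.Helper29DihE
open Subgroup DihedralGroup

variable {C : Type*} [Group C] [Fintype C] [DecidableEq C] {q : ℕ} [NeZero q]
  (φ : C →* DihedralGroup q)

/-- index of an element of the dihedral group -/
def idx : DihedralGroup q → ZMod q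
  | r i => i
  | sr i => i

theorem odd_orderOf_ker (hodd : Odd (Nat.card φ.ker)) {x : C} (hx : φ x = 1) : Odd (orderOf x) := by
  have h1 : orderOf x ∣ Nat.card φ.ker := by
    have := orderOf_dvd_natCard (⟨x, MonoidHom.mem_ker.mpr hx⟩ : φ.ker)
    rwa [Subgroup.orderOf_mk] at this
  exact Odd.of_dvd_nat hodd h1

theorem eq_one_of_sq (hodd : Odd (Nat.card φ.ker)) {x : C} (hx : φ x = 1) (h2 : x * x = 1) :
    x = 1 := by
  have h1 := odd_orderOf_ker φ hodd hx
  have h3 : orderOf x ∣ 2 := orderOf_dvd_of_pow_eq_one (by rw [pow_two]; exact h2)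
  rcases (Nat.dvd_prime Nat.prime_two).mp h3 with h | h
  · exact orderOf_eq_one_iff.mp h
  · rw [h] at h1
    exact absurd h1 (by decide)

theorem card_fiber (hsurj : Function.Surjective φ) (y : DihedralGroup q) :
    (Finset.univ.filter fun x : C => φ x = y).card = Nat.card φ.ker := by
  obtain ⟨c, hc⟩ := hsurj y
  rw [← Fintype.card_subtype, ← Nat.card_eq_fintype_card]
  apply Nat.card_congr
  refine ⟨fun x => ⟨c⁻¹ * x.1, ?_⟩, fun n => ⟨c * n.1, ?_⟩, ?_, ?_⟩
  · rw [MonoidHom.mem_ker, map_mul, map_inv, hc, x.2, inv_mul_cancel]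
  · rw [map_mul, hc, MonoidHom.mem_ker.mp n.2, mul_one]
  · intro x
    apply Subtype.ext
    simp
  · intro n
    apply Subtype.ext
    simp

theorem card_preimage (hsurj : Function.Surjective φ) (Z : Finset (DihedralGroup q)) :
    (Finset.univ.filter fun x : C => φ x ∈ Z).card = Z.card * Nat.card φ.ker := by
  rw [Finset.card_eq_sum_card_fiberwise (f := φ) (t := Z)]
  · have : ∀ y ∈ Z, ((Finset.univ.filter fun x : C => φ x ∈ Z).filter fun x => φ x = y).card =
        Nat.card φ.ker := by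
      intro y hy
      rw [← card_fiber φ hsurj y]
      congr 1
      ext x
      simp only [Finset.mem_filter, Finset.mem_univ, true_and]
      constructor
      · intro h; exact h.2
      · intro h; exact ⟨h ▸ hy, h⟩
    rw [Finset.sum_congr rfl this]
    simp
  · intro x hx
    exact (Finset.mem_filter.mp hx).2

/-- involutions above the reflection `sr i` -/
def AA (i : ZMod q) : Finset C := Finset.univ.filter fun a : C => a * a = 1 ∧ φ a = sr i

theorem mem_AA {i : ZMod q} {a : C} : a ∈ AA φ i ↔ a * a = 1 ∧ φ a = sr i := by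
  simp [AA]

/-- pairs of involutions whose product lies above the rotation `r d` -/
def SS (d : ZMod q) : Finset (C × C) :=
  Finset.univ.filter fun p : C × C => (p.1 * p.1 = 1 ∧ p.1 ≠ 1) ∧ (p.2 * p.2 = 1 ∧ p.2 ≠ 1) ∧
    φ (p.1 * p.2) = r d

theorem card_SS (hodd : Odd (Nat.card φ.ker)) {N : ℕ} (hqN : q = 2 * N) (d : ZMod q) (hd : d ≠ 0) :
    (SS φ d).card = ∑ i : ZMod q, (AA φ i).card * (AA φ (i + d)).card := by
  rw [Finset.card_eq_sum_card_fiberwise (f := fun p : C × C => idx (φ p.1)) (t := Finset.univ)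
    (fun _ _ => Finset.mem_univ _)]
  refine Finset.sum_congr rfl fun i _ => ?_
  rw [← Finset.card_product]
  congr 1
  ext ⟨a, b⟩
  simp only [SS, Finset.mem_filter, Finset.mem_univ, true_and, Finset.mem_product, mem_AA]
  constructor
  · rintro ⟨⟨⟨ha, ha1⟩, ⟨hb, hb1⟩, hab⟩, hi⟩
    rw [map_mul] at hab
    have hφa2 : φ a * φ a = 1 := by rw [← map_mul, ha, map_one]
    have hφb2 : φ b * φ b = 1 := by rw [← map_mul, hb, map_one]
    rcases hφa : φ a with j | j
    · exfalso
      rw [hφa] at hab hφa2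
      have hφb : φ b = r (d - j) := by
        have : φ b = (r j)⁻¹ * (r j * φ b) := by group
        rw [this, hab, inv_r, r_mul_r]
        congr 1
        ring
      rw [hφb] at hφb2
      simp only [r_mul_r, one_def, r.injEq] at hφa2 hφb2
      have hj0 : j ≠ 0 := by
        rintro rfl
        exact ha1 (eq_one_of_sq φ hodd hφa ha)
      have hdj0 : d - j ≠ 0 := by
        intro h0
        rw [h0] at hφb
        exact hb1 (eq_one_of_sq φ hodd hφb hb)
      rcases zmod_half hqN j (eq_neg_of_add_eq_zero_left hφa2) with h | h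
      · exact hj0 h
      rcases zmod_half hqN (d - j) (eq_neg_of_add_eq_zero_left hφb2) with h' | h'
      · exact hdj0 h'
      apply hd
      have : d = (d - j) + j := by ring
      rw [this, h', ← h]
      exact hφa2
    · rw [hφa] at hi hab
      have hji : j = i := hi
      subst hji
      refine ⟨⟨ha, rfl⟩, hb, ?_⟩
      have : φ b = (sr j)⁻¹ * (sr j * φ b) := by group
      rw [this, hab, inv_sr, sr_mul_r]
  · rintro ⟨⟨ha, hφa⟩, hb, hφb⟩
    refine ⟨⟨⟨ha, ?_⟩, ⟨hb, ?_⟩, ?_⟩, ?_⟩
    · rintro rfl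
      rw [map_one] at hφa
      rw [one_def] at hφa
      cases hφa
    · rintro rfl
      rw [map_one] at hφb
      rw [one_def] at hφb
      cases hφb
    · rw [map_mul, hφa, hφb, sr_mul_sr]
      congr 1
      ring
    · rw [hφa]
      rfl

theorem card_AA_shift {σ : C} (hσ : φ σ = r 1) (i : ZMod q) :
    (AA φ (i + 2)).card = (AA φ i).card := by
  apply Finset.card_bijective (MulAut.conj σ) (MulAut.conj σ).bijective
  intro a
  rw [mem_AA, mem_AA, MulAut.conj_apply]
  constructor
  · rintro ⟨h1, h2⟩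
    refine ⟨?_, ?_⟩
    · calc σ * a * σ⁻¹ * (σ * a * σ⁻¹) = σ * (a * a) * σ⁻¹ := by group
        _ = 1 := by rw [h1]; group
    · rw [map_mul, map_mul, map_inv, hσ, h2, inv_r, r_mul_sr, sr_mul_r]
      congr 1
      ring
  · rintro ⟨h1, h2⟩
    refine ⟨?_, ?_⟩
    · calc a * a = σ⁻¹ * (σ * a * σ⁻¹ * (σ * a * σ⁻¹)) * σ := by group
        _ = 1 := by rw [h1]; group
    · have : φ a = (r 1)⁻¹ * (φ (σ * a * σ⁻¹)) * r 1 := by
        rw [map_mul, map_mul, map_inv, hσ]; group
      rw [this, h2, inv_r, r_mul_sr, sr_mul_r]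
      congr 1
      ring

theorem count_aux (ν : ZMod q → ℕ) (hν : ∀ i, ν (i + 2) = ν i) (N' : ℕ) :
    2 * (∑ i : ZMod q, ν i * ν (i + ((2 * N' : ℕ) : ZMod q)) + ∑ i : ZMod q, ν i * ν (i + 1)) =
      q * (ν 0 + ν 1) ^ 2 := by
  have h1 : ∀ (t : ℕ) (i : ZMod q), ν (i + ((2 * t : ℕ) : ZMod q)) = ν i := by
    intro t
    induction t with
    | zero => intro i; simp
    | succ t ih =>
      intro i
      have : i + ((2 * (t + 1) : ℕ) : ZMod q) = (i + ((2 * t : ℕ) : ZMod q)) + 2 := by
        push_cast; ring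
      rw [this, hν, ih]
  have h2 : ∀ t : ℕ, ν ((t : ℕ) : ZMod q) + ν (((t : ℕ) : ZMod q) + 1) = ν 0 + ν 1 := by
    intro t
    induction t with
    | zero => simp
    | succ t ih =>
      have e1 : (((t + 1 : ℕ) : ZMod q) + 1) = ((t : ℕ) : ZMod q) + 2 := by push_cast; ring
      have e2 : ((t + 1 : ℕ) : ZMod q) = ((t : ℕ) : ZMod q) + 1 := by push_cast; ring
      rw [e1, hν, e2, add_comm, ih]
  have h3 : ∀ i : ZMod q, ν i + ν (i + 1) = ν 0 + ν 1 := by
    intro i
    have := h2 i.val
    rwa [ZMod.natCast_zmod_val] at this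
  have h4 : ∑ i : ZMod q, (ν i + ν (i + 1)) ^ 2 = q * (ν 0 + ν 1) ^ 2 := by
    simp only [h3]
    simp
  have h5 : ∑ i : ZMod q, ν (i + 1) ^ 2 = ∑ i : ZMod q, ν i ^ 2 :=
    Equiv.sum_comp (Equiv.addRight (1 : ZMod q)) (fun i => ν i ^ 2)
  rw [← h4]
  simp only [h1]
  have h6 : ∀ i : ZMod q, (ν i + ν (i + 1)) ^ 2 = ν i ^ 2 + 2 * (ν i * ν (i + 1)) + ν (i + 1) ^ 2 := by
    intro i; ring
  simp only [h6, Finset.sum_add_distrib, h5, ← Finset.mul_sum]
  have h7 : ∀ i : ZMod q, ν i * ν i = ν i ^ 2 := fun i => (pow_two _).symm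
  simp only [h7]
  ring

theorem card_AA_mul (hodd : Odd (Nat.card φ.ker)) (hsurj : Function.Surjective φ) {N : ℕ}
    (hqN : q = 2 * N) (hN : 0 < N) {s : C} (hs : s * s = 1) {i : ZMod q} (hφs : φ s = sr i) :
    (AA φ i).card * Nat.card (centralizer ({s} : Set C)) = 4 * Nat.card φ.ker := by
  classical
  set Z : Finset (DihedralGroup q) := {r 0, r (N : ZMod q), sr i, sr (i + (N : ZMod q))} with hZ
  have hN0 : ((N : ℕ) : ZMod q) ≠ 0 := by
    intro h
    rw [ZMod.natCast_eq_zero_iff] at h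
    have := Nat.le_of_dvd hN h
    omega
  have hNN : ((N : ℕ) : ZMod q) + (N : ZMod q) = 0 := by
    have : ((2 * N : ℕ) : ZMod q) = 0 := by rw [← hqN]; exact ZMod.natCast_self q
    push_cast at this
    linear_combination this
  have hZc : Z.card = 4 := by
    rw [hZ, Finset.card_insert_of_notMem, Finset.card_insert_of_notMem,
      Finset.card_insert_of_notMem, Finset.card_singleton]
    · simp only [Finset.mem_singleton, sr.injEq]
      intro h
      exact hN0 (by linear_combination -h)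
    · simp
    · simp only [Finset.mem_insert, Finset.mem_singleton, r.injEq, not_or]
      refine ⟨fun h => hN0 h.symm, ?_, ?_⟩
      · intro h; cases h
      · intro h; cases h
  have hZmem : ∀ y : DihedralGroup q, y ∈ Z ↔ y * sr i * y⁻¹ = sr i := by
    intro y
    rw [hZ]
    simp only [Finset.mem_insert, Finset.mem_singleton]
    rcases y with j | j
    · simp only [inv_r, r_mul_sr, sr_mul_r, sr.injEq, r.injEq, reduceCtorEq, or_false]
      constructor
      · rintro (rfl | rfl)
        · ring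
        · linear_combination -hNN
      · intro h
        exact zmod_half hqN j (by linear_combination -h)
    · simp only [inv_sr, sr_mul_sr, r_mul_sr, sr.injEq, reduceCtorEq, false_or]
      constructor
      · rintro (rfl | rfl)
        · ring
        · linear_combination hNN
      · intro h
        rcases zmod_half hqN (j - i) (by linear_combination h) with h' | h'
        · left; linear_combination h'
        · right; linear_combination h'
  have h1 := card_preimage φ hsurj Z
  rw [hZc] at h1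
  rw [← h1]
  rw [Finset.card_eq_sum_card_fiberwise (s := Finset.univ.filter fun x : C => φ x ∈ Z)
    (f := fun x : C => x * s * x⁻¹) (t := AA φ i)]
  · have : ∀ a ∈ AA φ i, ((Finset.univ.filter fun x : C => φ x ∈ Z).filter
        fun x => x * s * x⁻¹ = a).card = Nat.card (centralizer ({s} : Set C)) := by
      intro a ha
      obtain ⟨ha2, hφa⟩ := (mem_AA φ).mp ha
      have hconj : IsConj s a := by
        have hsi : s⁻¹ = s := inv_eq_of_mul_eq_one_left hs
        have hai : a⁻¹ = a := inv_eq_of_mul_eq_one_left ha2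
        have hw : s * (s * a) * s⁻¹ = (s * a)⁻¹ := by
          rw [mul_inv_rev, hsi, hai, ← mul_assoc, hs, one_mul]
        have hφw : φ (s * a) = 1 := by
          rw [map_mul, hφs, hφa, sr_mul_sr, sub_self]; rfl
        obtain ⟨y, -, hy⟩ := Cfsg.Agent.Lib.Helper58OddInv.exists_conj_of_inverted hs hw
          (odd_orderOf_ker φ hodd hφw)
        rw [← mul_assoc, hs, one_mul] at hy
        exact isConj_iff.mpr ⟨y⁻¹, by rw [hy, inv_inv]⟩
      have h2 := card_conjugators s a
      rw [if_pos hconj] at h2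
      rw [← h2]
      congr 1
      ext x
      simp only [Finset.mem_filter, Finset.mem_univ, true_and]
      constructor
      · intro h; exact h.2
      · intro h
        refine ⟨?_, h⟩
        rw [hZmem, ← hφs, ← map_inv, ← map_mul, ← map_mul, h, hφa, hφs]
    rw [Finset.sum_congr rfl this]
    simp
  · intro x hx
    have hx' := (hZmem _).mp (Finset.mem_filter.mp hx).2
    show x * s * x⁻¹ ∈ AA φ i
    rw [mem_AA]
    refine ⟨?_, ?_⟩
    · calc x * s * x⁻¹ * (x * s * x⁻¹) = x * (s * s) * x⁻¹ := by group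
        _ = 1 := by rw [hs]; group
    · rw [map_mul, map_mul, map_inv, hφs, hx']

theorem card_total (hsurj : Function.Surjective φ) :
    Fintype.card C = 2 * q * Nat.card φ.ker := by
  have h1 := card_preimage φ hsurj Finset.univ
  simp only [Finset.mem_univ, Finset.filter_true, Finset.card_univ, DihedralGroup.card] at h1
  exact h1

theorem card_stab_central (hsurj : Function.Surjective φ) {d : ZMod q} (hd : d = -d) {w : C}
    (hw : φ w = r d) :
    (Finset.univ.filter fun x : C => φ (x * w * x⁻¹) = r d).card = 2 * q * Nat.card φ.ker := by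
  rw [← card_total φ hsurj, ← Finset.card_univ]
  congr 1
  ext x
  simp only [Finset.mem_filter, Finset.mem_univ, true_and, iff_true]
  rw [map_mul, map_mul, map_inv, hw]
  rcases conj_r q (φ x) d with h | h
  · exact h
  · rw [h, inv_r, ← hd]

theorem card_stab_rot (hsurj : Function.Surjective φ) {d : ZMod q} (hd : d ≠ -d) {w : C}
    (hw : φ w = r d) :
    (Finset.univ.filter fun x : C => φ (x * w * x⁻¹) = r d).card = q * Nat.card φ.ker := by
  classical
  have h1 := card_preimage φ hsurj (Finset.univ.image (r : ZMod q → DihedralGroup q))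
  rw [Finset.card_image_of_injective _ (fun a b h => by cases h; rfl), Finset.card_univ,
    ZMod.card] at h1
  rw [← h1]
  congr 1
  ext x
  simp only [Finset.mem_filter, Finset.mem_univ, true_and, Finset.mem_image]
  rw [map_mul, map_mul, map_inv, hw]
  rcases hx : φ x with j | j
  · simp only [inv_r, r_mul_r, r.injEq]
    constructor
    · intro _; exact ⟨j, rfl⟩
    · intro _; ring
  · simp only [inv_sr, sr_mul_r, sr_mul_sr, r.injEq, reduceCtorEq, exists_false, iff_false]
    intro h
    apply hd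
    linear_combination -h

/-- a power of every element above `r d` is the central involution -/
theorem pow_eq_central (hodd : Odd (Nat.card φ.ker)) {J : C} (hJ : J * J = 1)
    (hJc : ∀ x : C, x * J = J * x) {d : ZMod q} {t : ℕ} (ht : φ J = r (d * (t : ZMod q))) {w : C}
    (hw : φ w = r d) : w ^ (t * Nat.card φ.ker) = J := by
  have h1 : φ (J⁻¹ * w ^ t) = 1 := by
    rw [map_mul, map_inv, map_pow, hw, ht, r_pow, inv_mul_cancel]
  have h2 : w ^ t = J * (J⁻¹ * w ^ t) := by group
  rw [pow_mul, h2, (show Commute J (J⁻¹ * w ^ t) from (hJc _).symm).mul_pow]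
  have h3 : (J⁻¹ * w ^ t) ^ Nat.card φ.ker = 1 := by
    have := pow_card_eq_one' (G := φ.ker) (x := ⟨_, MonoidHom.mem_ker.mpr h1⟩)
    exact congrArg Subtype.val this
  rw [h3, mul_one]
  obtain ⟨k, hk⟩ := hodd
  rw [hk, pow_succ, pow_mul, pow_two, hJ, one_pow, one_mul]

theorem conj_to_sigma (hodd : Odd (Nat.card φ.ker)) {m : ℕ} (hq2 : q = 2 ^ m) (S : Sylow 2 C)
    {σ τ : C} (hσS : σ ∈ S) (hτS : τ ∈ S) (hσ : φ σ = r 1) (hτ : φ τ = sr 0) {w : C}
    (hw : φ w = r 1) : ∃ x k : C, φ k = 1 ∧ σ * k = k * σ ∧ x * w * x⁻¹ = σ * k := by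
  have : Fact (Nat.Prime 2) := ⟨Nat.prime_two⟩
  obtain ⟨y, z, hyz, hcomm, ⟨k, hk⟩, hz⟩ :=
    Cfsg.Agent.Lib.Helper81Orth.exists_ppart (p := 2) Nat.prime_two w
  have hφz : φ z = 1 := by
    have h1 : orderOf (φ z) ∣ orderOf z := orderOf_map_dvd φ z
    have h2 : orderOf (φ z) ∣ 2 ^ (m + 1) := by
      have := orderOf_dvd_natCard (φ z)
      rw [DihedralGroup.nat_card] at this
      have e1 : 2 * q = 2 ^ (m + 1) := by rw [hq2]; ring
      exact e1 ▸ this
    have h3 : Nat.Coprime (orderOf z) (2 ^ (m + 1)) :=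
      Nat.Coprime.pow_right _ ((Nat.Prime.coprime_iff_not_dvd Nat.prime_two).mpr hz).symm
    exact orderOf_eq_one_iff.mp (Nat.eq_one_of_dvd_coprimes h3 h1 h2)
  have hφy : φ y = r 1 := by
    rw [← hw, ← hyz, map_mul, hφz, mul_one]
  have hQ : IsPGroup 2 (zpowers y) := IsPGroup.of_card (n := k) (by rw [Nat.card_zpowers, hk])
  obtain ⟨x₁, hx₁⟩ := exists_conj_mem S _ hQ
  have hp := hx₁ y (mem_zpowers y)
  have huniq : ∀ p ∈ S, φ p = r 1 → p = σ := by
    intro p hp hφp
    have h1 : φ (p * σ⁻¹) = 1 := by rw [map_mul, map_inv, hφp, hσ, mul_inv_cancel]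
    have h2 := odd_orderOf_ker φ hodd h1
    have h3 : p * σ⁻¹ ∈ S := mul_mem hp (inv_mem hσS)
    obtain ⟨j, hj⟩ := (IsPGroup.iff_orderOf.mp S.2) ⟨_, h3⟩
    rw [Subgroup.orderOf_mk] at hj
    have h4 : j = 0 := by
      by_contra hj0
      rw [hj] at h2
      exact (Nat.not_even_iff_odd.mpr h2) ((Nat.even_pow).mpr ⟨by decide, hj0⟩)
    rw [h4, pow_zero, orderOf_eq_one_iff] at hj
    exact mul_inv_eq_one.mp hj
  obtain ⟨x, hx⟩ : ∃ x : C, x * y * x⁻¹ = σ := by
    have h1 : φ (x₁ * y * x₁⁻¹) = φ x₁ * r 1 * (φ x₁)⁻¹ := by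
      rw [map_mul, map_mul, map_inv, hφy]
    rcases conj_r q (φ x₁) 1 with h | h
    · exact ⟨x₁, huniq _ hp (h1.trans h)⟩
    · refine ⟨τ * x₁, ?_⟩
      have h2 : τ * x₁ * y * (τ * x₁)⁻¹ = τ * (x₁ * y * x₁⁻¹) * τ⁻¹ := by group
      rw [h2]
      apply huniq _ (mul_mem (mul_mem hτS hp) (inv_mem hτS))
      rw [map_mul, map_mul, map_inv, h1, h, hτ, inv_r, inv_sr, sr_mul_r, sr_mul_sr]
      congr 1
      ring
  refine ⟨x, x * z * x⁻¹, ?_, ?_, ?_⟩
  · rw [map_mul, map_mul, map_inv, hφz, mul_one, mul_inv_cancel]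
  · rw [← hx]
    calc x * y * x⁻¹ * (x * z * x⁻¹) = x * (y * z) * x⁻¹ := by group
      _ = x * (z * y) * x⁻¹ := by rw [hcomm.eq]
      _ = _ := by group
  · rw [← hx, ← hyz]
    group

end Cfsg.Agent.Lib.Helper29DihG
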