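import Mathlib
import Cfsg.Agent.Lib.Helper29DihD
import Cfsg.Agent.Lib.Helper29DihF
import Cfsg.Agent.Lib.Helper29DihG
import Cfsg.Agent.S0942

set_option autoImplicit false
set_option linter.unusedSectionVars false
open Cfsg

namespace Cfsg.Agent.Lib.Helper29DihH

open Cfsg.Agent.Lib.Helper25Exp Cfsg.Agent.Lib.Helper29DihC Cfsg.Agent.Lib.Helper29DihD
  Cfsg.Agent.Lib.Helper29DihE Cfsg.Agent.Lib.Helper29DihF Cfsg.Agent.Lib.Helper29DihG
open Subgroup DihedralGroup
open scoped ComplexConjugate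

variable {G : Type*} [Group G] [Fintype G] [DecidableEq G] {q : ℕ} [NeZero q]

section W

variable {J : G} [Fintype (centralizer ({J} : Set G))]
  (φ : centralizer ({J} : Set G) →* DihedralGroup q)

/-- the elements of `G` above the rotation `r d` -/
def WW (d : ZMod q) : Finset G :=
  (Finset.univ.filter fun x : centralizer ({J} : Set G) => φ x = r d).map
    ⟨Subtype.val, Subtype.val_injective⟩

theorem mem_WW {d : ZMod q} {g : G} :
    g ∈ WW φ d ↔ ∃ hg : g ∈ centralizer ({J} : Set G), φ ⟨g, hg⟩ = r d := by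
  simp only [WW, Finset.mem_map, Finset.mem_filter, Finset.mem_univ, true_and,
    Function.Embedding.coeFn_mk]
  constructor
  · rintro ⟨x, hx, rfl⟩
    exact ⟨x.2, hx⟩
  · rintro ⟨hg, hx⟩
    exact ⟨⟨g, hg⟩, hx, rfl⟩

theorem card_WW (hsurj : Function.Surjective φ) (d : ZMod q) :
    (WW φ d).card = Nat.card φ.ker := by
  rw [WW, Finset.card_map, card_fiber φ hsurj]

theorem card_stab {d : ZMod q} {ε : ℕ} (hε : ∀ w ∈ WW φ d, w ^ ε = J) {w : G}
    (hw : w ∈ centralizer ({J} : Set G)) (hwd : φ ⟨w, hw⟩ = r d) :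
    (Finset.univ.filter fun x : G => x * w * x⁻¹ ∈ WW φ d).card =
      (Finset.univ.filter fun x : centralizer ({J} : Set G) =>
        φ (x * ⟨w, hw⟩ * x⁻¹) = r d).card := by
  symm
  apply Finset.card_bij (fun (x : centralizer ({J} : Set G)) _ => (x : G))
  · intro x hx
    simp only [Finset.mem_filter, Finset.mem_univ, true_and] at hx ⊢
    rw [mem_WW]
    exact ⟨(x * ⟨w, hw⟩ * x⁻¹).2, hx⟩
  · intro x _ y _ h
    exact Subtype.ext h
  · intro g hg
    simp only [Finset.mem_filter, Finset.mem_univ, true_and] at hg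
    have h1 := hε _ hg
    have h2 := hε w ((mem_WW φ).mpr ⟨hw, hwd⟩)
    rw [conj_pow, h2] at h1
    have hgC : g ∈ centralizer ({J} : Set G) := by
      rw [mem_centralizer_singleton_iff]
      calc g * J = g * J * g⁻¹ * g := by group
        _ = J * g := by rw [h1]
    obtain ⟨h3, h4⟩ := (mem_WW φ).mp hg
    refine ⟨⟨g, hgC⟩, ?_, rfl⟩
    simp only [Finset.mem_filter, Finset.mem_univ, true_and]
    exact h4

theorem card_pairs {d : ZMod q} {ε : ℕ} (hε : ∀ w ∈ WW φ d, w ^ ε = J) (hJ : J * J = 1)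
    (hinv : ∀ a : G, IsConj J a ↔ (a * a = 1 ∧ a ≠ 1)) [DecidablePred fun a : G => IsConj J a] :
    (Finset.univ.filter fun p : G × G => IsConj J p.1 ∧ IsConj J p.2 ∧ p.1 * p.2 ∈ WW φ d).card =
      (SS φ d).card := by
  symm
  apply Finset.card_bij (fun (p : centralizer ({J} : Set G) × centralizer ({J} : Set G)) _ =>
    ((p.1 : G), (p.2 : G)))
  · rintro ⟨a, b⟩ hp
    simp only [SS, Finset.mem_filter, Finset.mem_univ, true_and] at hp ⊢
    obtain ⟨⟨h1, h2⟩, ⟨h3, h4⟩, h5⟩ := hp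
    refine ⟨(hinv _).mpr ⟨congrArg Subtype.val h1, fun h => h2 (Subtype.ext h)⟩,
      (hinv _).mpr ⟨congrArg Subtype.val h3, fun h => h4 (Subtype.ext h)⟩, ?_⟩
    rw [mem_WW]
    exact ⟨(a * b).2, h5⟩
  · rintro ⟨a, b⟩ _ ⟨a', b'⟩ _ h
    simp only [Prod.mk.injEq] at h
    exact Prod.ext (Subtype.ext h.1) (Subtype.ext h.2)
  · rintro ⟨a, b⟩ hp
    simp only [Finset.mem_filter, Finset.mem_univ, true_and] at hp
    obtain ⟨h1, h2, h3⟩ := hp
    obtain ⟨ha2, ha1⟩ := (hinv a).mp h1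
    obtain ⟨hb2, hb1⟩ := (hinv b).mp h2
    have hai : a⁻¹ = a := inv_eq_of_mul_eq_one_left ha2
    have hbi : b⁻¹ = b := inv_eq_of_mul_eq_one_left hb2
    have hJi : J⁻¹ = J := inv_eq_of_mul_eq_one_left hJ
    have h4 := hε _ h3
    have h5 : a * (a * b) * a⁻¹ = (a * b)⁻¹ := by
      rw [mul_inv_rev, hai, hbi, ← mul_assoc, ha2, one_mul]
    have h6 : a * J * a⁻¹ = J := by
      rw [← h4, ← conj_pow, h5, inv_pow, h4, hJi]
    have haC : a ∈ centralizer ({J} : Set G) := by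
      rw [mem_centralizer_singleton_iff]
      calc a * J = a * J * a⁻¹ * a := by group
        _ = J * a := by rw [h6]
    obtain ⟨h7, h8⟩ := (mem_WW φ).mp h3
    have hbC : b ∈ centralizer ({J} : Set G) := by
      have : b = a⁻¹ * (a * b) := by group
      rw [this]
      exact mul_mem (inv_mem haC) h7
    refine ⟨(⟨a, haC⟩, ⟨b, hbC⟩), ?_, rfl⟩
    simp only [SS, Finset.mem_filter, Finset.mem_univ, true_and]
    exact ⟨⟨Subtype.ext ha2, fun h => ha1 (congrArg Subtype.val h)⟩,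
      ⟨Subtype.ext hb2, fun h => hb1 (congrArg Subtype.val h)⟩, h8⟩

end W

theorem all_invol {m : ℕ} (hq2 : q = 2 ^ m) {N : ℕ} (hqN : q = 2 * N) (hq : 3 ≤ q) (P : Sylow 2 G)
    (σ τ : G) (hσo : orderOf σ = q) (hτ : τ * τ = 1)
    (hrel : τ * σ * τ⁻¹ = σ⁻¹) (hgen : closure ({σ, τ} : Set G) = (P : Subgroup G))
    (hconj : IsConj (E q σ (N : ZMod q)) τ ∧ IsConj (E q σ (N : ZMod q)) (σ * τ)) (a : G) :
    IsConj (E q σ (N : ZMod q)) a ↔ (a * a = 1 ∧ a ≠ 1) := by
  have : Fact (Nat.Prime 2) := ⟨Nat.prime_two⟩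
  have hσq : σ ^ q = 1 := pow_of_order hσo
  set J := E q σ (N : ZMod q) with hJ
  have hNN : ((N : ℕ) : ZMod q) + (N : ZMod q) = 0 := by
    have : ((2 * N : ℕ) : ZMod q) = 0 := by rw [← hqN]; exact ZMod.natCast_self q
    push_cast at this
    linear_combination this
  have hN0 : ((N : ℕ) : ZMod q) ≠ 0 := by
    intro h
    rw [ZMod.natCast_eq_zero_iff] at h
    have := Nat.le_of_dvd (by omega) h
    omega
  have hJ2 : J * J = 1 := by rw [hJ, ← E_add hσq, hNN, E_zero]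
  have hJ1 : J ≠ 1 := by rw [hJ, Ne, E_eq_one hσo]; exact hN0
  constructor
  · intro h
    obtain ⟨c, rfl⟩ := isConj_iff.mp h
    constructor
    · calc c * J * c⁻¹ * (c * J * c⁻¹) = c * (J * J) * c⁻¹ := by group
        _ = 1 := by rw [hJ2]; group
    · intro h1
      apply hJ1
      calc J = c⁻¹ * (c * J * c⁻¹) * c := by group
        _ = 1 := by rw [h1]; group
  · rintro ⟨ha2, ha1⟩
    obtain ⟨e, he⟩ := exists_equiv hq (P : Subgroup G) σ τ hσo hτ hrel hgen
    have hao : orderOf a = 2 := orderOf_eq_prime (by rw [pow_two]; exact ha2) ha1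
    have hQ : IsPGroup 2 (zpowers a) :=
      IsPGroup.of_card (n := 1) (by rw [Nat.card_zpowers, hao, pow_one])
    obtain ⟨n, hn⟩ := exists_conj_mem P _ hQ
    have hp := hn a (mem_zpowers a)
    set p := n * a * n⁻¹ with hpdef
    have hpa : IsConj p a := isConj_iff.mpr ⟨n⁻¹, by rw [hpdef]; group⟩
    have hp2 : p * p = 1 := by
      calc p * p = n * (a * a) * n⁻¹ := by rw [hpdef]; group
        _ = 1 := by rw [ha2]; group
    have hp1 : p ≠ 1 := by
      intro h1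
      apply ha1
      calc a = n⁻¹ * p * n := by rw [hpdef]; group
        _ = 1 := by rw [h1]; group
    have hpe : p = dihHom σ τ hσq hτ hrel (e ⟨p, hp⟩) := by
      rw [← he, MulEquiv.symm_apply_apply]
    refine IsConj.trans ?_ hpa
    rcases hx : e ⟨p, hp⟩ with j | j
    · rw [hx, dihHom_r] at hpe
      rw [hpe, ← E_add hσq, E_eq_one hσo] at hp2
      rw [hpe, Ne, E_eq_one hσo] at hp1
      rcases zmod_half hqN j (eq_neg_of_add_eq_zero_left hp2) with h | h
      · exact absurd h hp1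
      · rw [hpe, h]
    · rw [hx, dihHom_sr] at hpe
      rcases Nat.even_or_odd' j.val with ⟨t, ht | ht⟩
      · have hj : j = (t : ZMod q) + t := by
          rw [← ZMod.natCast_zmod_val j, ht]; push_cast; ring
        refine hconj.1.trans (isConj_iff.mpr ⟨E q σ (-(t : ZMod q)), ?_⟩)
        rw [conj_tau hσq hrel, neg_neg, E_neg hσq, inv_inv, mul_assoc, ← E_add hσq, ← hj, hpe]
      · have hj : j = ((t : ZMod q) + 1) + (-1) + ((t : ZMod q) + 1) := by
          rw [← ZMod.natCast_zmod_val j, ht]; push_cast; ring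
        refine hconj.2.trans (isConj_iff.mpr ⟨E q σ (-((t : ZMod q) + 1)), ?_⟩)
        have h1 : σ * τ = τ * E q σ (-1) := by
          have := conj_tau hσq hrel (1 : ZMod q)
          rwa [E_one hσq] at this
        have h2 : (E q σ (-((t : ZMod q) + 1)))⁻¹ = E q σ ((t : ZMod q) + 1) := by
          rw [E_neg hσq, inv_inv]
        rw [h1, h2, ← mul_assoc, conj_tau hσq hrel, neg_neg, mul_assoc, mul_assoc,
          ← E_add hσq, ← E_add hσq, ← add_assoc, ← hj, hpe]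

theorem const_J (M : Ideal AlgInt) (hM : IsPModular 2 M) {J : G} (hJo : orderOf J = 2)
    [Fintype (centralizer ({J} : Set G))] (φ : centralizer ({J} : Set G) →* DihedralGroup q)
    (hodd : Odd (Nat.card φ.ker)) {d : ZMod q}
    (hφJ : φ ⟨J, mem_centralizer_singleton_iff.mpr rfl⟩ = r d)
    (χ : IrrCharacter G) (hχ : χ ∈ principalBlock M G) (w : G) (hw : w ∈ WW φ d) :
    (χ : G → ℂ) w = (χ : G → ℂ) J := by
  have : Fact (Nat.Prime 2) := ⟨Nat.prime_two⟩
  obtain ⟨hwC, hφw⟩ := (mem_WW φ).mp hw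
  set J' : centralizer ({J} : Set G) := ⟨J, mem_centralizer_singleton_iff.mpr rfl⟩ with hJ'
  have h1 : J'⁻¹ * ⟨w, hwC⟩ ∈ φ.ker := by
    rw [MonoidHom.mem_ker, map_mul, map_inv, hφJ, hφw, inv_mul_cancel]
  have h2 : φ.ker ≤ pPrimeCore 2 (centralizer ({J} : Set G)) :=
    Cfsg.Agent.Lib.Helper14CoreB.le_pPrimeCore (MonoidHom.normal_ker φ)
      (Nat.Coprime.symm (Nat.coprime_two_left.mpr hodd))
  have h3 : J⁻¹ * w ∈ centralizerPPrimeCore 2 J := ⟨_, h2 h1, rfl⟩
  have h4 := Cfsg.Agent.S0942.result 2 M hM J ⟨1, by rw [hJo, pow_one]⟩ _ h3 χ hχ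
  rw [← h4]
  group

theorem const_sigma (M : Ideal AlgInt) (hM : IsPModular 2 M) {m : ℕ} (hq2 : q = 2 ^ m) {J σ τ : G}
    [Fintype (centralizer ({J} : Set G))] (φ : centralizer ({J} : Set G) →* DihedralGroup q)
    (hodd : Odd (Nat.card φ.ker)) (P : Sylow 2 G) (hPC : (P : Subgroup G) ≤ centralizer ({J} : Set G))
    (hσ : σ ∈ P) (hτ : τ ∈ P) (hσo : orderOf σ = q)
    (hle : centralizer ({σ} : Set G) ≤ centralizer ({J} : Set G))
    (hφσ : φ ⟨σ, hPC hσ⟩ = r 1) (hφτ : φ ⟨τ, hPC hτ⟩ = sr 0)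
    (χ : IrrCharacter G) (hχ : χ ∈ principalBlock M G) (w : G) (hw : w ∈ WW φ 1) :
    (χ : G → ℂ) w = (χ : G → ℂ) σ := by
  have : Fact (Nat.Prime 2) := ⟨Nat.prime_two⟩
  obtain ⟨hwC, hφw⟩ := (mem_WW φ).mp hw
  obtain ⟨x, k, hφk, hcomm, hx⟩ := conj_to_sigma φ hodd hq2 (P.subtype hPC)
    (σ := ⟨σ, hPC hσ⟩) (τ := ⟨τ, hPC hτ⟩) hσ hτ hφσ hφτ hφw
  have hx' : (x : G) * w * (x : G)⁻¹ = σ * (k : G) := congrArg Subtype.val hx
  have hcomm' : σ * (k : G) = (k : G) * σ := congrArg Subtype.val hcomm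
  let ι := Subgroup.inclusion hle
  set L := (φ.comp ι).ker with hL
  have hLodd : Odd (Nat.card L) := by
    let f : L →* φ.ker := (ι.comp L.subtype).codRestrict φ.ker (fun y => y.2)
    have hf : Function.Injective f := by
      intro a b hab
      have h1 : ι (a : centralizer ({σ} : Set G)) = ι (b : centralizer ({σ} : Set G)) :=
        congrArg Subtype.val hab
      exact Subtype.ext (Subgroup.inclusion_injective hle h1)
    exact Odd.of_dvd_nat hodd (Subgroup.card_dvd_of_injective f hf)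
  have h2 : L ≤ pPrimeCore 2 (centralizer ({σ} : Set G)) :=
    Cfsg.Agent.Lib.Helper14CoreB.le_pPrimeCore (MonoidHom.normal_ker _)
      (Nat.Coprime.symm (Nat.coprime_two_left.mpr hLodd))
  have hkσ : (k : G) ∈ centralizer ({σ} : Set G) := mem_centralizer_singleton_iff.mpr hcomm'.symm
  have h3 : (⟨(k : G), hkσ⟩ : centralizer ({σ} : Set G)) ∈ L := by
    rw [hL, MonoidHom.mem_ker]
    exact hφk
  have h4 : (k : G) ∈ centralizerPPrimeCore 2 σ := ⟨_, h2 h3, rfl⟩
  have h5 := Cfsg.Agent.S0942.result 2 M hM σ ⟨m, by rw [hσo, hq2]⟩ _ h4 χ hχ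
  rw [← h5, ← hx', Cfsg.Agent.Lib.Helper81Base.irr_conj]

theorem card_cent_pair {J s : G} (hs : s ∈ centralizer ({J} : Set G)) :
    Nat.card (centralizer ({(⟨s, hs⟩ : centralizer ({J} : Set G))} : Set (centralizer ({J} : Set G))))
      = Nat.card (centralizer ({J, s} : Set G)) := by
  apply Nat.card_congr
  refine ⟨fun x => ⟨((x : centralizer ({J} : Set G)) : G), ?_⟩,
    fun y => ⟨⟨(y : G), ?_⟩, ?_⟩, ?_, ?_⟩
  · rw [mem_centralizer_iff]
    rintro z (rfl | rfl)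
    · exact (mem_centralizer_singleton_iff.mp x.1.2).symm
    · have := mem_centralizer_singleton_iff.mp x.2
      exact (congrArg Subtype.val this).symm
  · rw [mem_centralizer_singleton_iff]
    exact ((mem_centralizer_iff.mp y.2) J (by simp)).symm
  · rw [mem_centralizer_singleton_iff]
    apply Subtype.ext
    exact ((mem_centralizer_iff.mp y.2) s (by simp)).symm
  · intro x; rfl
  · intro y; rfl

theorem core_formula (M : Ideal AlgInt) (hM : IsPModular 2 M) {m : ℕ} (hq2 : q = 2 ^ m) {N' : ℕ}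
    (hq4 : q = 2 * (2 * N')) (hN' : 0 < N') (P : Sylow 2 G) (σ τ : G) (hσ : σ ∈ P) (hτP : τ ∈ P)
    (hσo : orderOf σ = q) (hτ : τ * τ = 1)
    (hrel : τ * σ * τ⁻¹ = σ⁻¹) (hgen : closure ({σ, τ} : Set G) = (P : Subgroup G))
    (hconj : IsConj (E q σ ((2 * N' : ℕ) : ZMod q)) τ ∧
      IsConj (E q σ ((2 * N' : ℕ) : ZMod q)) (σ * τ)) :
    ∃ κ ν0 ν1 : ℕ, 0 < κ ∧
      Nat.card (centralizer ({E q σ ((2 * N' : ℕ) : ZMod q)} : Set G)) = 2 * q * κ ∧
      ν0 * Nat.card (centralizer ({E q σ ((2 * N' : ℕ) : ZMod q), τ} : Set G)) = 4 * κ ∧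
      ν1 * Nat.card (centralizer ({E q σ ((2 * N' : ℕ) : ZMod q), σ * τ} : Set G)) = 4 * κ ∧
      (Nat.card (centralizer ({E q σ ((2 * N' : ℕ) : ZMod q)} : Set G)) : ℂ) ^ 2 *
        ((q : ℂ) * ((ν0 : ℂ) + ν1) ^ 2) = 2 * ((Nat.card G : ℂ) * κ *
        (∑ χ ∈ Bf M G, (χ : G → ℂ) (E q σ ((2 * N' : ℕ) : ZMod q)) ^ 2 *
            conj ((χ : G → ℂ) (E q σ ((2 * N' : ℕ) : ZMod q))) / (χ : G → ℂ) 1 +
         ∑ χ ∈ Bf M G, (χ : G → ℂ) (E q σ ((2 * N' : ℕ) : ZMod q)) ^ 2 *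
            conj ((χ : G → ℂ) σ) / (χ : G → ℂ) 1)) := by
  classical
  have hq : 3 ≤ q := by omega
  have hσq : σ ^ q = 1 := pow_of_order hσo
  set h : ZMod q := ((2 * N' : ℕ) : ZMod q) with hh
  have hhh : h + h = 0 := by
    have : ((2 * (2 * N') : ℕ) : ZMod q) = 0 := by rw [← hq4]; exact ZMod.natCast_self q
    rw [Nat.cast_mul] at this
    rw [hh]
    linear_combination this
  have hh0 : h ≠ 0 := by
    intro h0
    rw [hh, ZMod.natCast_eq_zero_iff] at h0
    have := Nat.le_of_dvd (by omega) h0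
    omega
  have hneg : h = -h := eq_neg_of_add_eq_zero_left hhh
  have h11 : (1 : ZMod q) ≠ -1 := by
    intro e1
    have h2 : ((2 : ℕ) : ZMod q) = 0 := by
      push_cast
      linear_combination e1
    rw [ZMod.natCast_eq_zero_iff] at h2
    have := Nat.le_of_dvd (by norm_num) h2
    omega
  have h10 : (1 : ZMod q) ≠ 0 := by
    have : Fact (1 < q) := ⟨by omega⟩
    exact one_ne_zero
  obtain ⟨e, he⟩ := exists_equiv hq (P : Subgroup G) σ τ hσo hτ hrel hgen
  have hinv := all_invol hq2 hq4 hq P σ τ hσo hτ hrel hgen hconj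
  have hex := exists_phi hq2 hq P e σ hσ hσo h hh0 hneg
  set J := E q σ h with hJ
  obtain ⟨hPC, φ, hodd, hφ⟩ := hex
  have hJ2 : J * J = 1 := by rw [hJ, ← E_add hσq, hhh, E_zero]
  have hJ1 : J ≠ 1 := by rw [hJ, Ne, E_eq_one hσo]; exact hh0
  have hJo : orderOf J = 2 := orderOf_eq_prime (by rw [pow_two]; exact hJ2) hJ1
  have := Fintype.ofFinite (centralizer ({J} : Set G))
  have hφe : ∀ (x : DihedralGroup q) (hx : dihHom σ τ hσq hτ hrel x ∈ centralizer ({J} : Set G)),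
      φ ⟨dihHom σ τ hσq hτ hrel x, hx⟩ = x := by
    intro x hx
    have h1 : dihHom σ τ hσq hτ hrel x ∈ (P : Subgroup G) := by rw [← he]; exact (e.symm x).2
    have h2 := hφ _ h1
    have h3 : (⟨dihHom σ τ hσq hτ hrel x, h1⟩ : (P : Subgroup G)) = e.symm x :=
      Subtype.ext (he x).symm
    rw [h3, MulEquiv.apply_symm_apply] at h2
    exact h2
  have hsurj : Function.Surjective φ := by
    intro x
    have h1 : dihHom σ τ hσq hτ hrel x ∈ (P : Subgroup G) := by rw [← he]; exact (e.symm x).2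
    exact ⟨_, hφe x (hPC h1)⟩
  have hφσ : φ ⟨σ, hPC hσ⟩ = r 1 := by
    have h1 : dihHom σ τ hσq hτ hrel (r 1) = σ := by rw [dihHom_r, E_one hσq]
    have := hφe (r 1) (by rw [h1]; exact hPC hσ)
    simpa only [h1] using this
  have hφτ : φ ⟨τ, hPC hτP⟩ = sr 0 := by
    have h1 : dihHom σ τ hσq hτ hrel (sr 0) = τ := by rw [dihHom_sr, E_zero, mul_one]
    have := hφe (sr 0) (by rw [h1]; exact hPC hτP)
    simpa only [h1] using this
  have hφJ : φ ⟨J, mem_centralizer_singleton_iff.mpr rfl⟩ = r h :=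
    hφe (r h) (mem_centralizer_singleton_iff.mpr rfl)
  set κ := Nat.card φ.ker with hκ
  have hκpos : 0 < κ := Nat.card_pos
  have hc : Nat.card (centralizer ({J} : Set G)) = 2 * q * κ := by
    rw [Nat.card_eq_fintype_card]
    exact card_total φ hsurj
  set ν : ZMod q → ℕ := fun i => (AA φ i).card with hν
  have hshift : ∀ i, ν (i + 2) = ν i := fun i => card_AA_shift φ hφσ i
  have hν0 : ν 0 * Nat.card (centralizer ({J, τ} : Set G)) = 4 * κ := by
    rw [← card_cent_pair (hPC hτP)]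
    exact card_AA_mul φ hodd hsurj hq4 (by omega) (Subtype.ext hτ) hφτ
  have hστ2 : σ * τ * (σ * τ) = 1 := by
    have h1 : τ * σ = σ⁻¹ * τ := by
      calc τ * σ = τ * σ * τ⁻¹ * τ := by group
        _ = σ⁻¹ * τ := by rw [hrel]
    calc σ * τ * (σ * τ) = σ * (τ * σ) * τ := by group
      _ = σ * (σ⁻¹ * τ) * τ := by rw [h1]
      _ = τ * τ := by group
      _ = 1 := hτ
  have hν1 : ν 1 * Nat.card (centralizer ({J, σ * τ} : Set G)) = 4 * κ := by
    rw [← card_cent_pair (hPC (mul_mem hσ hτP))]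
    have h1 : ν 1 = ν (-1) := by
      have := hshift (-1)
      rw [← this]
      congr 1
      ring
    rw [h1]
    apply card_AA_mul φ hodd hsurj hq4 (by omega) (Subtype.ext hστ2)
    have h2 : (⟨σ * τ, hPC (mul_mem hσ hτP)⟩ : centralizer ({J} : Set G)) =
        ⟨σ, hPC hσ⟩ * ⟨τ, hPC hτP⟩ := rfl
    rw [h2, map_mul, hφσ, hφτ, r_mul_sr, zero_sub]
  refine ⟨κ, ν 0, ν 1, hκpos, hc, hν0, hν1, ?_⟩
  have hJc : ∀ x : centralizer ({J} : Set G),
      x * ⟨J, mem_centralizer_singleton_iff.mpr rfl⟩ = ⟨J, mem_centralizer_singleton_iff.mpr rfl⟩ * x := by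
    intro x
    exact Subtype.ext (mem_centralizer_singleton_iff.mp x.2)
  have hεh : ∀ w ∈ WW φ h, w ^ (1 * κ) = J := by
    intro w hw
    obtain ⟨hwC, hφw⟩ := (mem_WW φ).mp hw
    have := pow_eq_central φ hodd (J := ⟨J, mem_centralizer_singleton_iff.mpr rfl⟩)
      (Subtype.ext hJ2) hJc (d := h) (t := 1) (by rw [hφJ]; simp) hφw
    exact congrArg Subtype.val this
  have hε1 : ∀ w ∈ WW φ 1, w ^ ((2 * N') * κ) = J := by
    intro w hw
    obtain ⟨hwC, hφw⟩ := (mem_WW φ).mp hw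
    have := pow_eq_central φ hodd (J := ⟨J, mem_centralizer_singleton_iff.mpr rfl⟩)
      (Subtype.ext hJ2) hJc (d := 1) (t := 2 * N') (by rw [hφJ, one_mul]) hφw
    exact congrArg Subtype.val this
  have hle : centralizer ({σ} : Set G) ≤ centralizer ({J} : Set G) := by
    intro g hg
    rw [mem_centralizer_singleton_iff] at hg ⊢
    exact (Commute.pow_right (show Commute g σ from hg) _).eq
  -- the block side
  have hTh : TT J (WW φ h) = (Nat.card G : ℂ) * κ * ∑ χ ∈ Bf M G,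
      (χ : G → ℂ) J ^ 2 * conj ((χ : G → ℂ) J) / (χ : G → ℂ) 1 := by
    have := TT_block J (Bf M G) (WW φ h) J (2 * q * κ) (2 * q)
      (fun χ hχ w hw => const_J M hM hJo φ hodd hφJ χ (mem_Bf.mp hχ) w hw)
      (fun w hw => by
        obtain ⟨hwC, hφw⟩ := (mem_WW φ).mp hw
        rw [card_stab φ hεh hwC hφw]
        exact card_stab_central φ hsurj hneg hφw)
      (by
        rw [Phi hq2 hq P e σ hσ hσo M hM h h hh0 hh0, if_pos rfl, if_pos hneg]
        ring)
      (by rw [card_WW φ hsurj]; push_cast; ring)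
    rw [this, card_WW φ hsurj]
  have hT1 : TT J (WW φ 1) = (Nat.card G : ℂ) * κ * ∑ χ ∈ Bf M G,
      (χ : G → ℂ) J ^ 2 * conj ((χ : G → ℂ) σ) / (χ : G → ℂ) 1 := by
    have := TT_block J (Bf M G) (WW φ 1) σ (q * κ) q
      (fun χ hχ w hw => const_sigma M hM hq2 φ hodd P hPC hσ hτP hσo hle hφσ hφτ χ
        (mem_Bf.mp hχ) w hw)
      (fun w hw => by
        obtain ⟨hwC, hφw⟩ := (mem_WW φ).mp hw
        rw [card_stab φ hε1 hwC hφw]
        exact card_stab_rot φ hsurj h11 hφw)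
      (by
        have := Phi hq2 hq P e σ hσ hσo M hM 1 1 h10 h10
        rw [E_one hσq, if_pos rfl, if_neg h11, add_zero] at this
        exact this)
      (by rw [card_WW φ hsurj]; push_cast; ring)
    rw [this, card_WW φ hsurj]
  -- the counting side
  have hCh : TT J (WW φ h) = (Nat.card (centralizer ({J} : Set G)) : ℂ) ^ 2 *
      ((∑ i : ZMod q, ν i * ν (i + h) : ℕ) : ℂ) := by
    rw [TT_class, card_pairs φ hεh hJ2 hinv, card_SS φ hodd hq4 h hh0]
  have hC1 : TT J (WW φ 1) = (Nat.card (centralizer ({J} : Set G)) : ℂ) ^ 2 *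
      ((∑ i : ZMod q, ν i * ν (i + 1) : ℕ) : ℂ) := by
    rw [TT_class, card_pairs φ hε1 hJ2 hinv, card_SS φ hodd hq4 1 h10]
  have hcount := count_aux ν hshift N'
  have hcount' : (2 : ℂ) * (((∑ i : ZMod q, ν i * ν (i + h) : ℕ) : ℂ) +
      ((∑ i : ZMod q, ν i * ν (i + 1) : ℕ) : ℂ)) = (q : ℂ) * ((ν 0 : ℂ) + ν 1) ^ 2 := by
    exact_mod_cast hcount
  have eh := hTh.symm.trans hCh
  have e1 := hT1.symm.trans hC1
  linear_combination (-(Nat.card (centralizer ({J} : Set G)) : ℂ) ^ 2) * hcount' - 2 * eh - 2 * e1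

end Cfsg.Agent.Lib.Helper29DihH
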