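import Mathlib
import Cfsg.Agent.Lib.Helper29DihH

set_option autoImplicit false
set_option linter.unusedSectionVars false
open Cfsg

namespace Cfsg.Agent.Lib.Helper29DihI

open Cfsg.Agent.Lib.Helper25Exp Cfsg.Agent.Lib.Helper29DihA Cfsg.Agent.Lib.Helper29DihC
  Cfsg.Agent.Lib.Helper29DihD Cfsg.Agent.Lib.Helper82Linear
open Subgroup
open scoped ComplexConjugate

variable {G : Type*} [Group G] [Finite G] {q : ℕ} [NeZero q]

theorem exists_root : ∃ w : ℂˣ, orderOf w = q := by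
  have h := Complex.isPrimitiveRoot_exp q (NeZero.ne q)
  refine ⟨Units.mk0 _ (h.ne_zero (NeZero.ne q)), ?_⟩
  rw [← orderOf_units]
  exact h.eq_orderOf.symm

theorem F_sum (M : Ideal AlgInt) (hM : IsPModular 2 M) {m : ℕ} (hq2 : q = 2 ^ m) {N' : ℕ}
    (hq4 : q = 2 * (2 * N')) (hN' : 0 < N') (P : Sylow 2 G)
    (e : (P : Subgroup G) ≃* DihedralGroup q) (σ : G) (hσ : σ ∈ P)
    (hσo : orderOf σ = q) (χ₁ : IrrCharacter G) (hχ₁ : χ₁ ∈ principalBlock M G)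
    (h1 : χ₁ ≠ irrOne G) (δ₁ : ℤ) (hδ₁ : δ₁ = 1 ∨ δ₁ = -1)
    (hval : ∀ l : ZMod q, l ≠ 0 → (χ₁ : G → ℂ) (E q σ l) = δ₁) :
    ∃ x : ℕ, 0 < x ∧ (χ₁ : G → ℂ) 1 = x ∧ 0 < (x : ℤ) + δ₁ ∧
      (∑ χ ∈ Bf M G, (χ : G → ℂ) (E q σ ((2 * N' : ℕ) : ZMod q)) ^ 2 *
            conj ((χ : G → ℂ) (E q σ ((2 * N' : ℕ) : ZMod q))) / (χ : G → ℂ) 1 +
         ∑ χ ∈ Bf M G, (χ : G → ℂ) (E q σ ((2 * N' : ℕ) : ZMod q)) ^ 2 *
            conj ((χ : G → ℂ) σ) / (χ : G → ℂ) 1) =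
        2 + 2 * (δ₁ : ℂ) / x - 8 * (δ₁ : ℂ) / ((x : ℂ) + δ₁) := by
  classical
  have := Fintype.ofFinite G
  have hq : 3 ≤ q := by omega
  have hσq : σ ^ q = 1 := pow_of_order hσo
  obtain ⟨w, hw⟩ := exists_root (q := q)
  have hwq : w ^ q = 1 := pow_of_order hw
  set h : ZMod q := ((2 * N' : ℕ) : ZMod q) with hh
  have hhh : h + h = 0 := by
    have : ((2 * (2 * N') : ℕ) : ZMod q) = 0 := by rw [← hq4]; exact ZMod.natCast_self q
    rw [Nat.cast_mul] at this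
    rw [hh]
    linear_combination this
  have hh0 : h ≠ 0 := by
    intro h0
    rw [hh, ZMod.natCast_eq_zero_iff] at h0
    have := Nat.le_of_dvd (by omega) h0
    omega
  have hneg : -h = h := (eq_neg_of_add_eq_zero_left hhh).symm
  have h10 : (1 : ZMod q) ≠ 0 := by
    have : Fact (1 < q) := ⟨by omega⟩
    exact one_ne_zero
  have h20 : (2 : ZMod q) ≠ 0 := by
    intro e1
    have h2 : ((2 : ℕ) : ZMod q) = 0 := by
      push_cast
      exact e1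
    rw [ZMod.natCast_eq_zero_iff] at h2
    have := Nat.le_of_dvd (by norm_num) h2
    omega
  have h1h : (1 : ZMod q) ≠ h := by
    intro e1
    apply h20
    rw [← e1] at hhh
    linear_combination hhh
  have heeh : ee w h = -1 := by
    have h1 : ee w h * ee w h = 1 := by
      have := ee_neg_mul hwq h
      rwa [hneg] at this
    have h2 : ee w h ≠ 1 := by
      rw [Ne, ee_eq_one_iff hw]
      exact hh0
    have h3 : (ee w h - 1) * (ee w h + 1) = 0 := by linear_combination h1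
    rcases mul_eq_zero.mp h3 with h4 | h4
    · exact absurd (sub_eq_zero.mp h4) h2
    · exact eq_neg_of_add_eq_zero_left h4
  have hkh : ∀ k : ZMod q, ee w (k * h) * ee w (k * h) = 1 := by
    intro k
    rw [← ee_add hwq, ← mul_add, hhh, mul_zero, ee_zero]
  have hhh2 : h * h = 0 := by
    have : h * h = (N' : ZMod q) * (h + h) := by
      rw [hh]; push_cast; ring
    rw [this, hhh, mul_zero]
  obtain ⟨x1, x2, x3, δ1, δ2, δ3, y, ⟨m1, m2, m3⟩, ⟨o1, o2, o3⟩, ⟨n12, n13, n23⟩, ⟨s1, s2, s3⟩,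
    hv, hy, hinj, hyneg, hclass, hrel⟩ :=
    block_struct hq2 hq P e σ hσ hσo M hM w hw h hh0 hneg
  have sq1 : ∀ δ : ℤ, (δ = 1 ∨ δ = -1) → ((δ : ℂ)) * δ = 1 := by
    rintro δ (rfl | rfl) <;> norm_num
  have hyJ : ∀ k, k ≠ 0 → k ≠ h → (y k : G → ℂ) (E q σ h) = 2 * δ1 * ee w (k * h) := by
    intro k hk hkh'
    rw [(hy k hk hkh').2.2.2.2.2 h hh0]
    have e1 : ee w (-(k * h)) = ee w (k * h) := by
      have a := ee_neg_mul hwq (k * h)
      have b := hkh k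
      have c : ee w (k * h) ≠ 0 := by
        intro h0; rw [h0, zero_mul] at b; exact zero_ne_one b
      exact mul_left_cancel₀ c (a.trans b.symm)
    rw [e1]; ring
  have hid : χ₁ = x1 ∧ δ₁ = δ1 := by
    rcases hclass χ₁ (mem_Bf.mpr hχ₁) with e1 | e1 | e1 | e1 | ⟨k, hk, hkh', e1⟩
    · exact absurd e1 h1
    · refine ⟨e1, ?_⟩
      have a := hval 1 h10
      rw [e1, (hv 1 h10).1] at a
      exact_mod_cast a.symm
    · exfalso
      have a := hval 1 h10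
      have b := hval 2 h20
      have e2 : h * 2 = 0 := by linear_combination hhh
      rw [e1, (hv 1 h10).2.1, mul_one, heeh] at a
      rw [e1, (hv 2 h20).2.1, e2, ee_zero] at b
      have c : (δ2 : ℂ) = 0 := by linear_combination (a - b) / 2
      have d := sq1 δ2 s2
      rw [c] at d
      norm_num at d
    · exfalso
      have a := hval 1 h10
      have b := hval 2 h20
      have e2 : h * 2 = 0 := by linear_combination hhh
      rw [e1, (hv 1 h10).2.2, mul_one, heeh] at a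
      rw [e1, (hv 2 h20).2.2, e2, ee_zero] at b
      have c : (δ3 : ℂ) = 0 := by linear_combination (a - b) / 2
      have d := sq1 δ3 s3
      rw [c] at d
      norm_num at d
    · exfalso
      have a := hval h hh0
      rw [e1, hyJ k hk hkh'] at a
      have b := sq1 δ₁ hδ₁
      rw [← a] at b
      have c := sq1 δ1 s1
      have d := hkh k
      have : (4 : ℂ) = 1 := by
        calc (4 : ℂ) = 4 * ((δ1 : ℂ) * δ1) * (ee w (k * h) * ee w (k * h)) := by rw [c, d]; ring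
          _ = 2 * δ1 * ee w (k * h) * (2 * δ1 * ee w (k * h)) := by ring
          _ = 1 := b
      norm_num at this
  obtain ⟨rfl, rfl⟩ := hid
  obtain ⟨x, hxpos, hx⟩ := Cfsg.Agent.Lib.Helper81Base.irr_one χ₁
  obtain ⟨d2, hd2pos, hd2⟩ := Cfsg.Agent.Lib.Helper81Base.irr_one x2
  obtain ⟨d3, hd3pos, hd3⟩ := Cfsg.Agent.Lib.Helper81Base.irr_one x3
  obtain ⟨r1, r2⟩ := hrel 1 (by simp)
  have hδδ := sq1 δ₁ s1
  have hydeg : ∀ k, k ≠ 0 → k ≠ h → (y k : G → ℂ) 1 = (x : ℂ) + δ₁ := by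
    intro k hk hkh'
    have a := r2 k hk hkh'
    rw [hx] at a
    calc (y k : G → ℂ) 1 = ((δ₁ : ℂ) * δ₁) * (y k : G → ℂ) 1 := by rw [hδδ, one_mul]
      _ = (δ₁ : ℂ) * (1 + δ₁ * x) := by linear_combination (-(δ₁ : ℂ)) * a
      _ = (x : ℂ) + δ₁ := by linear_combination (x : ℂ) * hδδ
  have hxpos' : 0 < (x : ℤ) + δ₁ := by
    obtain ⟨n', hn'pos, hn'⟩ := Cfsg.Agent.Lib.Helper81Base.irr_one (y 1)
    have a := hydeg 1 h10 h1h
    rw [hn'] at a
    have b : (n' : ℤ) = (x : ℤ) + δ₁ := by exact_mod_cast a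
    omega
  have hx'0 : (x : ℂ) + δ₁ ≠ 0 := by
    have : ((x : ℤ) + δ₁ : ℤ) ≠ 0 := by omega
    exact_mod_cast this
  have hx0 : (x : ℂ) ≠ 0 := by exact_mod_cast hxpos.ne'
  refine ⟨x, hxpos, hx, hxpos', ?_⟩
  have hreal : ∀ (χ : IrrCharacter G) (l : ZMod q),
      conj ((χ : G → ℂ) (E q σ l)) = (χ : G → ℂ) (E q σ l) := by
    intro χ l
    rw [← Cfsg.Agent.Lib.Helper81Base.irr_inv, ← E_neg hσq,
      val_neg hq2 hq P e σ hσ hσo M hM χ l]
  have hσ1 : E q σ 1 = σ := E_one hσq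
  have hrealσ : ∀ χ : IrrCharacter G, conj ((χ : G → ℂ) σ) = (χ : G → ℂ) σ := by
    intro χ
    have := hreal χ 1
    rwa [hσ1] at this
  simp only [hreal, hrealσ]
  set S4 : Finset (IrrCharacter G) := {irrOne G, χ₁, x2, x3} with hS4
  have hsub : S4 ⊆ Bf M G := by
    intro χ hχ
    simp only [hS4, Finset.mem_insert, Finset.mem_singleton] at hχ
    rcases hχ with rfl | rfl | rfl | rfl
    · exact one_mem_Bf hM
    · exact m1
    · exact m2
    · exact m3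
  have hsplit : ∀ f : IrrCharacter G → ℂ, ∑ χ ∈ Bf M G, f χ =
      ∑ χ ∈ Bf M G \ S4, f χ + (f (irrOne G) + f χ₁ + f x2 + f x3) := by
    intro f
    rw [← Finset.sum_sdiff hsub]
    congr 1
    rw [hS4, Finset.sum_insert, Finset.sum_insert, Finset.sum_insert, Finset.sum_singleton]
    · ring
    · simp [n23]
    · simp [n12, n13]
    · simp only [Finset.mem_insert, Finset.mem_singleton, not_or]
      exact ⟨o1.symm, o2.symm, o3.symm⟩
  have hY : ∀ χ ∈ Bf M G \ S4, ∃ k, k ≠ 0 ∧ k ≠ h ∧ χ = y k := by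
    intro χ hχ
    obtain ⟨hχB, hχS⟩ := Finset.mem_sdiff.mp hχ
    simp only [hS4, Finset.mem_insert, Finset.mem_singleton, not_or] at hχS
    rcases hclass χ hχB with e1 | e1 | e1 | e1 | e1
    · exact absurd e1 hχS.1
    · exact absurd e1 hχS.2.1
    · exact absurd e1 hχS.2.2.1
    · exact absurd e1 hχS.2.2.2
    · exact e1
  have hone : ∀ g : G, ((irrOne G : IrrCharacter G) : G → ℂ) g = 1 := fun _ => rfl
  obtain ⟨vJ1, vJ2, vJ3⟩ := hv h hh0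
  obtain ⟨vσ1, vσ2, vσ3⟩ := hv 1 h10
  rw [hhh2, ee_zero, mul_one] at vJ2 vJ3
  rw [mul_one, heeh, hσ1] at vσ2 vσ3
  rw [hσ1] at vσ1
  -- the two orthogonality relations
  have pJ := Psi hq2 hq P e σ hσ hσo M hM 1 (by simp) h hh0
  have pσ := Psi hq2 hq P e σ hσ hσo M hM 1 (by simp) 1 h10
  rw [hσ1] at pσ
  rw [hsplit] at pJ pσ
  rw [hone, hone, vJ1, vJ2, vJ3, hx, hd2, hd3] at pJ
  rw [hone, hone, vσ1, vσ2, vσ3, hx, hd2, hd3] at pσ
  rw [hx, hd2, hd3] at r1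
  have hYJ : ∑ χ ∈ Bf M G \ S4, (χ : G → ℂ) (E q σ h) * (χ : G → ℂ) 1 =
      ((x : ℂ) + δ₁) * ∑ χ ∈ Bf M G \ S4, (χ : G → ℂ) (E q σ h) := by
    rw [Finset.mul_sum]
    refine Finset.sum_congr rfl fun χ hχ => ?_
    obtain ⟨k, hk, hkh', rfl⟩ := hY χ hχ
    rw [hydeg k hk hkh']; ring
  have hYσ : ∑ χ ∈ Bf M G \ S4, (χ : G → ℂ) σ * (χ : G → ℂ) 1 =
      ((x : ℂ) + δ₁) * ∑ χ ∈ Bf M G \ S4, (χ : G → ℂ) σ := by
    rw [Finset.mul_sum]
    refine Finset.sum_congr rfl fun χ hχ => ?_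
    obtain ⟨k, hk, hkh', rfl⟩ := hY χ hχ
    rw [hydeg k hk hkh']; ring
  rw [hYJ] at pJ
  rw [hYσ] at pσ
  rw [← Finset.sum_add_distrib, hsplit]
  have hYg : ∑ χ ∈ Bf M G \ S4, ((χ : G → ℂ) (E q σ h) ^ 2 * (χ : G → ℂ) (E q σ h) / (χ : G → ℂ) 1 +
      (χ : G → ℂ) (E q σ h) ^ 2 * (χ : G → ℂ) σ / (χ : G → ℂ) 1) =
      4 / ((x : ℂ) + δ₁) * (∑ χ ∈ Bf M G \ S4, (χ : G → ℂ) (E q σ h) +
        ∑ χ ∈ Bf M G \ S4, (χ : G → ℂ) σ) := by
    rw [← Finset.sum_add_distrib, Finset.mul_sum]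
    refine Finset.sum_congr rfl fun χ hχ => ?_
    obtain ⟨k, hk, hkh', rfl⟩ := hY χ hχ
    have e1 : (y k : G → ℂ) (E q σ h) ^ 2 = 4 := by
      rw [hyJ k hk hkh']
      have d := hkh k
      calc (2 * (δ₁ : ℂ) * ee w (k * h)) ^ 2 =
          4 * ((δ₁ : ℂ) * δ₁) * (ee w (k * h) * ee w (k * h)) := by ring
        _ = 4 := by rw [hδδ, d]; ring
    rw [e1, hydeg k hk hkh']
    ring
  rw [hYg, hone, hone, hone, vJ1, vJ2, vJ3, vσ1, vσ2, vσ3, hx, hd2, hd3]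
  set A := ∑ χ ∈ Bf M G \ S4, (χ : G → ℂ) (E q σ h) with hA
  set B := ∑ χ ∈ Bf M G \ S4, (χ : G → ℂ) σ with hB
  have hAB : ((x : ℂ) + δ₁) * (A + B) = -2 * δ₁ * ((x : ℂ) + δ₁) := by
    linear_combination pJ + pσ + 2 * hδδ
  have hAB' : A + B = -2 * δ₁ := by
    have := mul_left_cancel₀ hx'0 (hAB.trans (by ring : -2 * (δ₁ : ℂ) * ((x : ℂ) + δ₁) =
      ((x : ℂ) + δ₁) * (-2 * δ₁)))
    exact this
  rw [hAB']
  have hd20 : (d2 : ℂ) ≠ 0 := by exact_mod_cast hd2pos.ne'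
  have hd30 : (d3 : ℂ) ≠ 0 := by exact_mod_cast hd3pos.ne'
  field_simp
  linear_combination (2 * (x : ℂ) * δ₁ * d2 * d3 + 2 * (δ₁ : ℂ) ^ 2 * d2 * d3) * hδδ

end Cfsg.Agent.Lib.Helper29DihI
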