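import Mathlib
import Cfsg.Agent.Lib.Helper61HigDefs
import Cfsg.Prelude.Def_LieRecognition

set_option autoImplicit false
set_option linter.unusedVariables false

/-! PROJECT 61, piece `cexp`. -/

namespace Cfsg.Agent.Lib.Helper29HigCexp

open Subgroup
open Cfsg.Agent.Lib.Helper61HigDefs

universe u v

variable {P : Type u} {A : Type v} [Group P] [Group A] {f : A →* MulAut P}

/-- piece `cexp`; the statement `T` is the extra hypothesis `hT`. -/
theorem center_exp (h : HS f) (hna : ∃ x y : P, x * y ≠ y * x)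
    (hT : (∃ c ∈ center P, orderOf c = 4) → ∀ x y : P, x * y = y * x) :
    ∀ z ∈ center P, z * z = 1 := by
  intro z hz
  by_contra hzz
  have hfin := h.fin
  obtain ⟨x, y, hxy⟩ := hna
  apply hxy
  apply hT
  have : Fact (Nat.Prime 2) := ⟨Nat.prime_two⟩
  obtain ⟨k, hk⟩ := (IsPGroup.iff_orderOf.mp h.two) z
  have hk2 : 2 ≤ k := by
    by_contra hlt
    have hk1 : k ≤ 1 := by omega
    apply hzz
    rw [← pow_two]
    apply orderOf_dvd_iff_pow_eq_one.mp
    rw [hk]
    calc 2 ^ k ∣ 2 ^ 1 := pow_dvd_pow 2 hk1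
      _ = 2 := by norm_num
  refine ⟨z ^ (2 ^ (k - 2)), Subgroup.pow_mem _ hz _, ?_⟩
  rw [orderOf_pow_of_dvd (by positivity) (by rw [hk]; exact pow_dvd_pow 2 (by omega)), hk,
    Nat.pow_div (by omega) (by norm_num)]
  have : k - (k - 2) = 2 := by omega
  rw [this]

end Cfsg.Agent.Lib.Helper29HigCexp
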