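import Mathlib
import Cfsg.Agent.Lib.Helper61HigDefs
import Cfsg.Prelude.Def_LieRecognition

set_option autoImplicit false
set_option linter.unusedVariables false

/-! PROJECT 61, piece `facta`. -/

namespace Cfsg.Agent.Lib.Helper29HigFactA

open Subgroup
open Cfsg.Agent.Lib.Helper61HigDefs

universe u v

variable {P : Type u} {A : Type v} [Group P] [Group A] {f : A →* MulAut P}

/-- piece `factA`; the statements `zcoord`, `coordM` are the extra hypotheses. -/
theorem factA (h : HS f) {D M : Subgroup P} (hD : DH f D)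
    (hM : RegOver f (centralizer (D : Set P)) M)
    (h_zcoord : ∃ (F : Type) (_ : Field F) (_ : Fintype F) (_ : CharP F 2), Nonempty (ZCoord f F))
    (h_coordM : ∀ {F : Type} [Field F] [Fintype F] [CharP F 2] (c : ZCoord f F),
      ∃ (iM : M → F) (τ : F ≃+* F), τ ≠ RingEquiv.refl F ∧ Function.Surjective iM ∧
      (∀ g g' : M, iM (g * g') = iM g + iM g') ∧
      (∀ g : M, iM g = 0 ↔ (g : P) ∈ centralizer (D : Set P)) ∧
      ∀ (g : M), ∀ d ∈ D, c.i (d⁻¹ * (g : P)⁻¹ * d * g) = iM g * τ (c.i (d * d))) :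
    ∀ g ∈ M, g ∉ centralizer (D : Set P) → ∀ d ∈ D, d * d ≠ 1 → d * g ≠ g * d := by
  intro g hgM hgC d hd hdd hcomm
  obtain ⟨F, _, _, _, ⟨c⟩⟩ := h_zcoord
  obtain ⟨iM, τ, -, -, -, h0, hform⟩ := h_coordM c
  have h1 := hform ⟨g, hgM⟩ d hd
  have h2 : d⁻¹ * g⁻¹ * d * g = 1 := by
    rw [mul_assoc, hcomm]; group
  have h3 : c.i 1 = 0 := by
    have := c.add 1 1 (by simp) (by simp)
    rw [mul_one] at this
    exact left_eq_add.mp this
  simp only [h2, h3] at h1
  rcases mul_eq_zero.mp h1.symm with h4 | h4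
  · exact hgC ((h0 ⟨g, hgM⟩).mp h4)
  · have h5 : c.i (d * d) = 0 := by
      have := congrArg τ.symm h4
      simpa using this
    exact hdd (c.inj _ (hD.sq d hd) h5)

end Cfsg.Agent.Lib.Helper29HigFactA
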