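import Mathlib

set_option autoImplicit false

/-! PROJECT 29 (S3222): common definitions. -/

namespace Cfsg.Agent.Lib.Helper29S6

open MulAction Subgroup

/-- the model of the centralizer -/
abbrev A := Multiplicative (ZMod 2) × Equiv.Perm (Fin 4)

/-- the nontrivial element of `Multiplicative (ZMod 2)` -/
abbrev a1 : Multiplicative (ZMod 2) := Multiplicative.ofAdd 1

section
variable {G : Type*} [Group G] (t : G) (T : Sylow 2 G)
  (e : centralizer ({t} : Set G) ≃* A)

/-- the complement `L` of `⟨t⟩` in `C_G(t)` given by `e`, as a subgroup of `G` -/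
def Lsub : Subgroup G :=
  ((MonoidHom.fst (Multiplicative (ZMod 2)) (Equiv.Perm (Fin 4))).comp e.toMonoidHom).ker.map
    (centralizer ({t} : Set G)).subtype

/-- the properties of the element `z` -/
structure IsZ (z : G) : Prop where
  order : orderOf z = 2
  cent : centralizer ({z} : Set G) = (T : Subgroup G)
  mem : z ∈ centralizer ({t} : Set G)
  fst : ∀ h : z ∈ centralizer ({t} : Set G), (e ⟨z, h⟩).1 = 1
  snd : ∀ h : z ∈ centralizer ({t} : Set G), (e ⟨z, h⟩).2.cycleType = {2, 2}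

/-- membership in `Lsub` -/
theorem mem_Lsub_iff (x : G) :
    x ∈ Lsub t e ↔ ∃ h : x ∈ centralizer ({t} : Set G), (e ⟨x, h⟩).1 = 1 := by
  unfold Lsub
  constructor
  · rintro ⟨c, hc, rfl⟩
    exact ⟨c.2, hc⟩
  · rintro ⟨h, h1⟩
    exact ⟨⟨x, h⟩, h1, rfl⟩

/-- the elements of `Lsub` -/
theorem symm_mem_Lsub (σ : Equiv.Perm (Fin 4)) :
    ((e.symm (1, σ) : centralizer ({t} : Set G)) : G) ∈ Lsub t e := by
  rw [mem_Lsub_iff]
  exact ⟨(e.symm (1, σ)).2, by simp⟩

end

end Cfsg.Agent.Lib.Helper29S6
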