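import Mathlib
import Cfsg.Agent.S4337
import Cfsg.Agent.Lib.Helper29S6def

set_option autoImplicit false
set_option linter.unusedSectionVars false

/-! PROJECT 29, pieces `solv`, `et`, `cardT`, `memT`, `x3`, `zL`. -/

namespace Cfsg.Agent.Lib.Helper29P29a

open MulAction Subgroup Cfsg.Agent.Lib.Helper29S6

/-- piece `solv` -/
theorem solvable_A : Group.IsSolvable A := by
  have := Cfsg.Agent.S4337.solvS4
  infer_instance

theorem card_A : Nat.card A = 48 := by
  rw [Nat.card_prod, Nat.card_eq_fintype_card, Nat.card_eq_fintype_card, Fintype.card_perm,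
    Fintype.card_fin]
  rfl

theorem center_S4 : ∀ σ : Equiv.Perm (Fin 4), (∀ τ, σ * τ = τ * σ) → σ = 1 := by decide

theorem z2_cases : ∀ a : Multiplicative (ZMod 2), a = 1 ∨ a = a1 := by decide

section
variable {G : Type*} [Group G] [Finite G] (t : G) (ht : orderOf t = 2) (T : Sylow 2 G)
  (htT : t ∈ (T : Subgroup G)) (htc : ∀ s ∈ (T : Subgroup G), s * t = t * s)
  (e : centralizer ({t} : Set G) ≃* A)

include ht in
/-- piece `et` -/
theorem e_t : e ⟨t, mem_centralizer_singleton_iff.mpr rfl⟩ = (a1, 1) := by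
  set t' : centralizer ({t} : Set G) := ⟨t, mem_centralizer_singleton_iff.mpr rfl⟩ with ht'
  have hc : ∀ c : centralizer ({t} : Set G), t' * c = c * t' := by
    intro c
    apply Subtype.ext
    exact (mem_centralizer_singleton_iff.mp c.2).symm
  have h2 : (e t').2 = 1 := by
    apply center_S4
    intro τ
    have := congrArg (fun x => (e x).2) (hc (e.symm (1, τ)))
    simpa using this
  have h1 : (e t').1 ≠ 1 := by
    intro h1
    have : e t' = 1 := Prod.ext h1 h2
    have h3 : t' = 1 := by simpa using this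
    have h4 : t = 1 := congrArg Subtype.val h3
    rw [h4, orderOf_one] at ht
    omega
  rcases z2_cases (e t').1 with h | h
  · exact absurd h h1
  · exact Prod.ext h h2

include htc in
theorem T_le : (T : Subgroup G) ≤ centralizer ({t} : Set G) := by
  intro s hs
  exact mem_centralizer_singleton_iff.mpr (htc s hs)

include htc e in
/-- piece `cardT` -/
theorem card_T : Nat.card (T : Subgroup G) = 16 := by
  have hC : Nat.card (centralizer ({t} : Set G)) = 48 := by
    rw [Nat.card_congr e.toEquiv, card_A]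
  have h1 : Nat.card (T : Subgroup G) ∣ 48 := hC ▸ Subgroup.card_dvd_of_le (T_le t T htc)
  have h2 : 48 ∣ Nat.card G := hC ▸ Subgroup.card_subgroup_dvd_card _
  have h3 : 2 ^ 4 ∣ Nat.card (T : Subgroup G) := by
    rw [Sylow.card_eq_multiplicity]
    apply pow_dvd_pow
    have : 2 ^ 4 ∣ Nat.card G := Dvd.dvd.trans (by norm_num) h2
    exact (Nat.Prime.pow_dvd_iff_le_factorization Nat.prime_two Nat.card_pos.ne').mp this
  obtain ⟨k, hk⟩ := h3
  rw [hk] at h1 ⊢
  have hk3 : k ∣ 3 := by
    have : 2 ^ 4 * k ∣ 2 ^ 4 * 3 := by simpa using h1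
    exact Nat.dvd_of_mul_dvd_mul_left (by norm_num) this
  have hk' : k = 1 ∨ k = 3 := (Nat.dvd_prime Nat.prime_three).mp hk3
  rcases hk' with rfl | rfl
  · norm_num
  · exfalso
    obtain ⟨n, hn⟩ := (IsPGroup.iff_card.mp T.isPGroup')
    rw [hk] at hn
    have : 3 ∣ 2 ^ n := ⟨2 ^ 4, by rw [← hn]; ring⟩
    have := Nat.Prime.dvd_of_dvd_pow Nat.prime_three this
    omega

include htc in
/-- piece `memT` -/
theorem mem_T_iff (z : G) (hz : IsZ t T e z) (c : centralizer ({t} : Set G)) :
    (c : G) ∈ (T : Subgroup G) ↔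
      (e c).2 * (e ⟨z, hz.mem⟩).2 = (e ⟨z, hz.mem⟩).2 * (e c).2 := by
  rw [← hz.cent, mem_centralizer_singleton_iff]
  constructor
  · intro h
    have h' : c * ⟨z, hz.mem⟩ = ⟨z, hz.mem⟩ * c := Subtype.ext h
    have := congrArg (fun x => (e x).2) h'
    simpa using this
  · intro h
    have h' : c * ⟨z, hz.mem⟩ = ⟨z, hz.mem⟩ * c := by
      apply e.injective
      rw [map_mul, map_mul]
      exact Prod.ext (mul_comm _ _) h
    exact congrArg Subtype.val h'

/-- piece `x3` -/
theorem exists_order_three : ∃ x ∈ Lsub t e, orderOf x = 3 ∧ t * x = x * t := by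
  let σ : Equiv.Perm (Fin 4) := Equiv.swap 0 1 * Equiv.swap 1 2
  refine ⟨_, symm_mem_Lsub t e σ, ?_, ?_⟩
  · rw [Subgroup.orderOf_coe, MulEquiv.orderOf_eq e.symm]
    have h3 : ((1, σ) : A) ^ 3 = 1 := by decide
    have h1 : ((1, σ) : A) ≠ 1 := by decide
    exact orderOf_eq_prime h3 h1
  · exact (mem_centralizer_singleton_iff.mp (e.symm (1, σ)).2).symm

/-- piece `zL` -/
theorem z_mem_L (z : G) (hz : IsZ t T e z) : z ∈ Lsub t e := by
  rw [mem_Lsub_iff]
  exact ⟨hz.mem, hz.fst hz.mem⟩

end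

end Cfsg.Agent.Lib.Helper29P29a
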