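import Mathlib
import Cfsg.Agent.Lib.Helper29P29a

set_option autoImplicit false
set_option linter.unusedSectionVars false

/-! PROJECT 29, pieces `zexA`, `zex`, `nt`, `nonconj`. -/

namespace Cfsg.Agent.Lib.Helper29P29b

open MulAction Subgroup Cfsg.Agent.Lib.Helper29S6 Cfsg.Agent.Lib.Helper29P29a

abbrev v0 : Equiv.Perm (Fin 4) := Equiv.swap 0 1 * Equiv.swap 2 3

set_option maxRecDepth 100000 in
theorem comm_cases : ∀ v x y : Equiv.Perm (Fin 4), v.cycleType = {2, 2} → x * v = v * x → y * v = v * y →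
    x * y * x⁻¹ * y⁻¹ = 1 ∨ x * y * x⁻¹ * y⁻¹ = v := by decide +kernel

set_option maxRecDepth 100000 in
theorem comm_ex : ∀ v : Equiv.Perm (Fin 4), v.cycleType = {2, 2} → ∃ x y : Equiv.Perm (Fin 4),
    x * v = v * x ∧ y * v = v * y ∧ x * y * x⁻¹ * y⁻¹ = v := by decide +kernel

set_option maxRecDepth 100000 in
theorem sq_cases : ∀ v x : Equiv.Perm (Fin 4), v.cycleType = {2, 2} → x * v = v * x →
    x * x = 1 ∨ x * x = v := by decide +kernel

set_option maxRecDepth 100000 in
theorem sq_ex : ∀ v : Equiv.Perm (Fin 4), v.cycleType = {2, 2} → ∃ x : Equiv.Perm (Fin 4),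
    x * x = v := by decide +kernel

set_option maxRecDepth 100000 in
theorem card_cent0 : Fintype.card {x : A // x * (1, v0) = (1, v0) * x} = 16 := by decide +kernel

theorem fact48 : (48 : ℕ).factorization 2 = 4 := by
  rw [show (48 : ℕ) = 2 ^ 4 * 3 by norm_num, Nat.factorization_mul (by norm_num) (by norm_num),
    Nat.Prime.factorization_pow Nat.prime_two]
  simp [Nat.factorization_eq_zero_of_not_dvd]

/-- a subgroup of order 16 of `A` is the centralizer of some `(1, v)` -/
theorem sylow_A (P : Subgroup A) (hP : Nat.card P = 16) :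
    ∃ v : Equiv.Perm (Fin 4), v.cycleType = {2, 2} ∧ ∀ x : A, x ∈ P ↔ x.2 * v = v * x.2 := by
  let P0 : Subgroup A := centralizer {((1, v0) : A)}
  have hP0 : Nat.card P0 = 16 := by
    rw [← card_cent0, ← Nat.card_eq_fintype_card]
    apply Nat.card_congr
    exact Equiv.subtypeEquivRight (fun x => mem_centralizer_singleton_iff)
  let S0 : Sylow 2 A := Sylow.ofCard P0 (by rw [hP0, card_A, fact48]; norm_num)
  let S : Sylow 2 A := Sylow.ofCard P (by rw [hP, card_A, fact48]; norm_num)
  obtain ⟨g, hg⟩ := MulAction.exists_smul_eq A S0 S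
  refine ⟨g.2 * v0 * g.2⁻¹, ?_, ?_⟩
  · rw [Equiv.Perm.cycleType_conj]; decide
  · intro x
    have h1 : x ∈ P ↔ x ∈ ((g • S0 : Sylow 2 A) : Subgroup A) := by rw [hg]; rfl
    rw [h1, Sylow.coe_subgroup_smul, Subgroup.mem_pointwise_smul_iff_inv_smul_mem]
    rw [← map_inv, MulAut.smul_def, MulAut.conj_apply]
    show (g⁻¹ * x * g⁻¹⁻¹) ∈ centralizer {((1, v0) : A)} ↔ _
    rw [mem_centralizer_singleton_iff, Prod.ext_iff]
    simp only [Prod.fst_mul, Prod.snd_mul, Prod.fst_inv, Prod.snd_inv, inv_inv, mul_one, one_mul,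
      true_and]
    constructor
    · intro h
      calc x.2 * (g.2 * v0 * g.2⁻¹) = g.2 * (g.2⁻¹ * x.2 * g.2 * v0) * g.2⁻¹ := by group
        _ = g.2 * (v0 * (g.2⁻¹ * x.2 * g.2)) * g.2⁻¹ := by rw [h]
        _ = _ := by group
    · intro h
      calc g.2⁻¹ * x.2 * g.2 * v0 = g.2⁻¹ * (x.2 * (g.2 * v0 * g.2⁻¹)) * g.2 := by group
        _ = g.2⁻¹ * ((g.2 * v0 * g.2⁻¹) * x.2) * g.2 := by rw [h]
        _ = _ := by group

/-- piece `zexA` -/
theorem comm_sylow_A (P : Subgroup A) (hP : Nat.card P = 16) :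
    ∃ v : Equiv.Perm (Fin 4), v.cycleType = {2, 2} ∧ ∀ x : A, x ∈ ⁅P, P⁆ ↔ x = 1 ∨ x = (1, v) := by
  obtain ⟨v, hv, hmem⟩ := sylow_A P hP
  refine ⟨v, hv, ?_⟩
  have hvv : v * v = 1 := by
    have : ∀ v : Equiv.Perm (Fin 4), v.cycleType = {2, 2} → v * v = 1 := by decide +kernel
    exact this v hv
  let K : Subgroup A :=
    { carrier := {x | x = 1 ∨ x = (1, v)}
      one_mem' := Or.inl rfl
      mul_mem' := by
        rintro a b (rfl | rfl) (rfl | rfl)
        · left; simp
        · right; simp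
        · right; simp
        · left; exact Prod.ext (by simp) hvv
      inv_mem' := by
        rintro a (rfl | rfl)
        · left; simp
        · right; exact Prod.ext (by simp) (inv_eq_of_mul_eq_one_left hvv) }
  have hle : ⁅P, P⁆ ≤ K := by
    rw [Subgroup.commutator_le]
    intro x hx y hy
    rcases comm_cases v x.2 y.2 hv ((hmem x).mp hx) ((hmem y).mp hy) with h | h
    · left
      exact Prod.ext (by simp [commutatorElement_def]) h
    · right
      exact Prod.ext (by simp [commutatorElement_def]) h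
  intro x
  constructor
  · exact fun h => hle h
  · rintro (rfl | rfl)
    · exact one_mem _
    · obtain ⟨x, y, hx, hy, hxy⟩ := comm_ex v hv
      have h := Subgroup.commutator_mem_commutator ((hmem (1, x)).mpr hx) ((hmem (1, y)).mpr hy)
      rw [commutatorElement_def] at h
      convert h using 1
      exact Prod.ext (by simp) hxy.symm

theorem v_ne_one : ∀ v : Equiv.Perm (Fin 4), v.cycleType = {2, 2} → v ≠ 1 := by decide +kernel

theorem v_sq : ∀ v : Equiv.Perm (Fin 4), v.cycleType = {2, 2} → v * v = 1 := by decide +kernel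

section
variable {G : Type*} [Group G] [Finite G] (t : G) (ht : orderOf t = 2) (T : Sylow 2 G)
  (htT : t ∈ (T : Subgroup G)) (htc : ∀ s ∈ (T : Subgroup G), s * t = t * s)
  (e : centralizer ({t} : Set G) ≃* A)

set_option quotPrecheck false in
local notation "C" => centralizer (Singleton.singleton t : Set G)

include ht htT htc in
/-- piece `zex` -/
theorem exists_z
    (h2 : centralizer ((⁅(T : Subgroup G), (T : Subgroup G)⁆ : Subgroup G) : Set G) =
      (T : Subgroup G)) : ∃ z : G, IsZ t T e z := by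
  have hle := T_le t T htc
  set T' : Subgroup C := (T : Subgroup G).subgroupOf C with hT'
  let P : Subgroup A := T'.map e.toMonoidHom
  have hP : Nat.card P = 16 := by
    rw [Subgroup.card_map_of_injective e.injective, ← card_T t T htc e]
    exact Nat.card_congr (Subgroup.subgroupOfEquivOfLe hle).toEquiv
  obtain ⟨v, hv, hmem⟩ := comm_sylow_A P hP
  have hPP : ⁅P, P⁆ = (⁅T', T'⁆).map e.toMonoidHom := (Subgroup.map_commutator _ _ _).symm
  have hTT : ⁅(T : Subgroup G), (T : Subgroup G)⁆ = (⁅T', T'⁆).map (Subgroup.subtype C) := by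
    rw [Subgroup.map_commutator, hT', Subgroup.map_subgroupOf_eq_of_le hle]
  let z' : C := e.symm (1, v)
  have hmem' : ∀ x : C, x ∈ ⁅T', T'⁆ ↔ x = 1 ∨ x = z' := by
    intro x
    have h1 : x ∈ ⁅T', T'⁆ ↔ e x ∈ ⁅P, P⁆ := by
      rw [hPP]
      constructor
      · intro h; exact ⟨x, h, rfl⟩
      · rintro ⟨y, hy, hyx⟩
        have : y = x := e.injective hyx
        rwa [← this]
    rw [h1, hmem]
    constructor
    · rintro (h | h)
      · left; simpa using h
      · right; apply e.injective; rw [h]; simp [z']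
    · rintro (h | h)
      · left; simp [h]
      · right; rw [h]; simp [z']
  have hmemG : ∀ g : G, g ∈ ⁅(T : Subgroup G), (T : Subgroup G)⁆ ↔ g = 1 ∨ g = (z' : G) := by
    intro g
    rw [hTT]
    constructor
    · rintro ⟨x, hx, rfl⟩
      rcases (hmem' x).mp hx with h | h
      · left; rw [h]; rfl
      · right; rw [h]; rfl
    · rintro (h | h)
      · rw [h]; exact one_mem _
      · exact ⟨z', (hmem' z').mpr (Or.inr rfl), h.symm⟩
  have hez : ∀ h : (z' : G) ∈ C, e ⟨(z' : G), h⟩ = (1, v) := by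
    intro h
    show e z' = (1, v)
    simp [z']
  refine ⟨z', ?_, ?_, z'.2, ?_, ?_⟩
  · rw [Subgroup.orderOf_coe, MulEquiv.orderOf_eq e.symm]
    apply orderOf_eq_prime
    · rw [pow_two]; exact Prod.ext (by simp) (v_sq v hv)
    · intro h
      exact v_ne_one v hv (congrArg Prod.snd h)
  · rw [← h2]
    ext g
    rw [mem_centralizer_singleton_iff, mem_centralizer_iff]
    constructor
    · intro h x hx
      rcases (hmemG x).mp hx with rfl | rfl
      · simp
      · exact h.symm
    · intro h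
      exact (h _ ((hmemG _).mpr (Or.inr rfl))).symm
  · intro h; rw [hez h]
  · intro h; rw [hez h]; exact hv

theorem e_z (z : G) (hz : IsZ t T e z) : e ⟨z, hz.mem⟩ = (1, (e ⟨z, hz.mem⟩).2) :=
  Prod.ext (hz.fst hz.mem) rfl

theorem z_ne_one (z : G) (hz : IsZ t T e z) : z ≠ 1 := by
  intro h
  have := hz.order
  rw [h, orderOf_one] at this
  omega

include htc in
/-- squares of elements of `T` -/
theorem sq_T (z : G) (hz : IsZ t T e z) (x : G) (hx : x ∈ (T : Subgroup G)) :
    x * x = 1 ∨ x * x = z := by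
  have hxC : x ∈ C := T_le t T htc hx
  have h1 := (mem_T_iff t T htc e z hz ⟨x, hxC⟩).mp hx
  have h0 : (e ⟨x, hxC⟩).1 * (e ⟨x, hxC⟩).1 = 1 := by
    generalize (e ⟨x, hxC⟩).1 = a
    revert a; decide
  rcases sq_cases _ _ (hz.snd hz.mem) h1 with h | h
  · left
    have : (⟨x, hxC⟩ : C) * ⟨x, hxC⟩ = 1 := by
      apply e.injective
      rw [map_mul, map_one]
      exact Prod.ext h0 h
    exact congrArg Subtype.val this
  · right
    have : (⟨x, hxC⟩ : C) * ⟨x, hxC⟩ = ⟨z, hz.mem⟩ := by
      apply e.injective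
      rw [map_mul, e_z t T e z hz]
      exact Prod.ext h0 h
    exact congrArg Subtype.val this

include htc in
/-- piece `nt` -/
theorem normalizer_T (z : G) (hz : IsZ t T e z) :
    normalizer ((T : Subgroup G) : Set G) = (T : Subgroup G) := by
  apply le_antisymm _ Subgroup.le_normalizer
  intro n hn
  obtain ⟨σ, hσ⟩ := sq_ex _ (hz.snd hz.mem)
  let s : C := e.symm (1, σ)
  have hs2 : (s : G) * s = z := by
    have : s * s = ⟨z, hz.mem⟩ := by
      apply e.injective
      rw [map_mul, e_z t T e z hz]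
      simp only [s, MulEquiv.apply_symm_apply]
      exact Prod.ext (by simp) hσ
    exact congrArg Subtype.val this
  have hsT : (s : G) ∈ (T : Subgroup G) := by
    rw [mem_T_iff t T htc e z hz s]
    simp only [s, MulEquiv.apply_symm_apply]
    rw [← hσ, mul_assoc]
  have hnsT : n * s * n⁻¹ ∈ (T : Subgroup G) := (mem_normalizer_iff.mp hn s).mp hsT
  have hconj : n * s * n⁻¹ * (n * s * n⁻¹) = n * z * n⁻¹ := by rw [← hs2]; group
  rcases sq_T t T htc e z hz _ hnsT with h | h
  · exfalso
    rw [hconj] at h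
    apply z_ne_one t T e z hz
    calc z = n⁻¹ * (n * z * n⁻¹) * n := by group
      _ = 1 := by rw [h]; group
  · rw [hconj] at h
    rw [← hz.cent, mem_centralizer_singleton_iff]
    calc n * z = (n * z * n⁻¹) * n := by group
      _ = z * n := by rw [h]

include ht htT htc in
/-- piece `nonconj` -/
theorem not_conj (z : G) (hz : IsZ t T e z) (g : G) :
    g * t * g⁻¹ ≠ z ∧ g * t * g⁻¹ ≠ t * z ∧ g * (t * z) * g⁻¹ ≠ z := by
  have hN := normalizer_T t T htc e z hz
  have htz : t ≠ z := by
    intro h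
    have h1 := e_t t ht e
    have h2 := hz.fst hz.mem
    have h3 : (⟨t, mem_centralizer_singleton_iff.mpr rfl⟩ : C) = ⟨z, hz.mem⟩ := Subtype.ext h
    rw [h3] at h1
    rw [h1] at h2
    exact absurd h2 (by decide)
  have ht1 : t ≠ 1 := by
    intro h
    rw [h, orderOf_one] at ht
    omega
  have hcT : ∀ x : G, (∀ s ∈ (T : Subgroup G), s * x = x * s) →
      x ∈ centralizer ((T : Subgroup G) : Set G) := by
    intro x hx
    rw [mem_centralizer_iff]
    exact fun s hs => hx s hs
  have hzc : ∀ s ∈ (T : Subgroup G), s * z = z * s := by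
    intro s hs
    rw [← hz.cent] at hs
    exact mem_centralizer_singleton_iff.mp hs
  have htzc : ∀ s ∈ (T : Subgroup G), s * (t * z) = (t * z) * s := by
    intro s hs
    rw [← mul_assoc, htc s hs, mul_assoc, hzc s hs, mul_assoc]
  have key : ∀ x y : G, (∀ s ∈ (T : Subgroup G), s * x = x * s) →
      (∀ s ∈ (T : Subgroup G), s * y = y * s) → g * x * g⁻¹ = y → x = y := by
    intro x y hx hy hxy
    have h1 : g⁻¹⁻¹ * x * g⁻¹ ∈ centralizer ((T : Subgroup G) : Set G) := by
      rw [inv_inv, hxy]; exact hcT y hy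
    obtain ⟨n, hn, hn'⟩ := Sylow.conj_eq_normalizer_conj_of_mem_centralizer T x g⁻¹ (hcT x hx) h1
    have hn : n ∈ (T : Subgroup G) := by rw [← hN]; exact hn
    rw [inv_inv, hxy] at hn'
    rw [hn', mul_assoc, ← hx n hn, inv_mul_cancel_left]
  refine ⟨fun h => htz (key t z htc hzc h), fun h => ?_, fun h => ?_⟩
  · have := key t (t * z) htc htzc h
    apply z_ne_one t T e z hz
    exact (mul_eq_left.mp this.symm)
  · have := key (t * z) z htzc hzc h
    exact ht1 (mul_eq_right.mp this)

end

end Cfsg.Agent.Lib.Helper29P29b
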