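import Mathlib
import Cfsg.Agent.S0111
import Cfsg.Agent.Lib.Helper29P29b

set_option autoImplicit false
set_option linter.unusedSectionVars false

/-! PROJECT 29, pieces `invcl`, `invL`, `relidx`, `twist`, `idx2`. -/

namespace Cfsg.Agent.Lib.Helper29P29c

open MulAction Subgroup Cfsg.Agent.Lib.Helper29S6 Cfsg.Agent.Lib.Helper29P29a
  Cfsg.Agent.Lib.Helper29P29b

set_option maxRecDepth 100000 in
theorem inv_cases : ∀ v σ : Equiv.Perm (Fin 4), v.cycleType = {2, 2} → σ * σ = 1 →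
    σ = 1 ∨ (∃ c : Equiv.Perm (Fin 4), c * σ * c⁻¹ = v) ∨
      ∃ x y : Fin 4, x ≠ y ∧ σ = Equiv.swap x y := by decide +kernel

set_option maxRecDepth 100000 in
theorem swap_conj : ∀ x y : Fin 4, x ≠ y →
    ∃ c : Equiv.Perm (Fin 4), c * Equiv.swap x y * c⁻¹ = Equiv.swap 0 1 := by decide +kernel

/-- the sign with values in `Multiplicative (ZMod 2)` -/
def sg : Equiv.Perm (Fin 4) →* Multiplicative (ZMod 2) where
  toFun σ := if Equiv.Perm.sign σ = 1 then 1 else a1
  map_one' := by decide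
  map_mul' := by decide +kernel

theorem sg_sq : ∀ σ : Equiv.Perm (Fin 4), sg σ * sg σ = 1 := by decide +kernel

theorem sg_swap : ∀ x y : Fin 4, x ≠ y → sg (Equiv.swap x y) = a1 := by decide +kernel

theorem sg_v : ∀ v : Equiv.Perm (Fin 4), v.cycleType = {2, 2} → sg v = 1 := by decide +kernel

/-- the twisting automorphism of `A` -/
def tw : A ≃* A where
  toFun x := (x.1 * sg x.2, x.2)
  invFun x := (x.1 * sg x.2, x.2)
  left_inv x := by
    apply Prod.ext
    · show x.1 * sg x.2 * sg x.2 = x.1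
      rw [mul_assoc, sg_sq, mul_one]
    · rfl
  right_inv x := by
    apply Prod.ext
    · show x.1 * sg x.2 * sg x.2 = x.1
      rw [mul_assoc, sg_sq, mul_one]
    · rfl
  map_mul' x y := by
    apply Prod.ext
    · show x.1 * y.1 * sg (x.2 * y.2) = x.1 * sg x.2 * (y.1 * sg y.2)
      rw [map_mul, mul_mul_mul_comm]
    · rfl

section
variable {G : Type*} [Group G] [Finite G] (t : G) (ht : orderOf t = 2) (T : Sylow 2 G)
  (htT : t ∈ (T : Subgroup G)) (htc : ∀ s ∈ (T : Subgroup G), s * t = t * s)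
  (e : centralizer ({t} : Set G) ≃* A)

set_option quotPrecheck false in
local notation "C" => centralizer (Singleton.singleton t : Set G)

/-- conjugation inside `C` by an element of `L` -/
theorem conj_symm (y : C) (c : Equiv.Perm (Fin 4)) :
    ((e.symm (1, c) : C) : G) * y * ((e.symm (1, c) : C) : G)⁻¹ =
      ((e.symm ((e y).1, c * (e y).2 * c⁻¹) : C) : G) := by
  have : (e.symm (1, c) : C) * y * (e.symm (1, c) : C)⁻¹ = e.symm ((e y).1, c * (e y).2 * c⁻¹) := by
    apply e.injective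
    rw [map_mul, map_mul, map_inv]
    simp only [MulEquiv.apply_symm_apply]
    exact Prod.ext (by simp) (by simp)
  exact congrArg Subtype.val this

theorem sq_of_order (y : C) (hy : orderOf y = 2) : (e y).2 * (e y).2 = 1 := by
  have h1 : y * y = 1 := by rw [← pow_two, ← hy, pow_orderOf_eq_one]
  have := congrArg (fun x => (e x).2) h1
  simpa using this

include ht in
theorem symm_a1 (σ : Equiv.Perm (Fin 4)) :
    ((e.symm (a1, σ) : C) : G) = t * ((e.symm (1, σ) : C) : G) := by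
  have : (e.symm (a1, σ) : C) = ⟨t, mem_centralizer_singleton_iff.mpr rfl⟩ * e.symm (1, σ) := by
    apply e.injective
    rw [map_mul, e_t t ht e]
    simp
  exact congrArg Subtype.val this

theorem symm_z (z : G) (hz : IsZ t T e z) : ((e.symm (1, (e ⟨z, hz.mem⟩).2) : C) : G) = z := by
  rw [← e_z t T e z hz]
  simp

include ht htT htc in
/-- piece `invcl` -/
theorem invol_class (z : G) (hz : IsZ t T e z) (y : centralizer ({t} : Set G))
    (hy : orderOf y = 2) :
    (y : G) = t ∨ (∃ c : G, c * y * c⁻¹ = z) ∨ (∃ c : G, c * y * c⁻¹ = t * z) ∨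
      (e y).2.IsSwap := by
  rcases inv_cases _ _ (hz.snd hz.mem) (sq_of_order t e y hy) with h | ⟨c, hc⟩ | hsw
  · left
    rcases z2_cases (e y).1 with h1 | h1
    · exfalso
      have : e y = 1 := Prod.ext h1 h
      have h2 : y = 1 := by simpa using this
      rw [h2, orderOf_one] at hy
      omega
    · have : y = ⟨t, mem_centralizer_singleton_iff.mpr rfl⟩ := by
        apply e.injective
        rw [e_t t ht e]
        exact Prod.ext h1 h
      exact congrArg Subtype.val this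
  · have h0 := conj_symm t e y c
    rw [hc] at h0
    rcases z2_cases (e y).1 with h1 | h1
    · right; left
      refine ⟨_, h0.trans ?_⟩
      rw [h1, symm_z t T e z hz]
    · right; right; left
      refine ⟨_, h0.trans ?_⟩
      rw [h1, symm_a1 t ht e, symm_z t T e z hz]
  · exact Or.inr (Or.inr (Or.inr hsw))

/-- piece `invL` -/
theorem invol_L (z : G) (hz : IsZ t T e z) (q : G) (hq : q ∈ Lsub t e) (hq2 : orderOf q = 2) :
    (∃ c : G, c * q * c⁻¹ = z) ∨
      ∃ c : G, c * q * c⁻¹ = ((e.symm (1, Equiv.swap 0 1) : centralizer ({t} : Set G)) : G) := by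
  obtain ⟨hqC, h1⟩ := (mem_Lsub_iff t e q).mp hq
  have hy : orderOf (⟨q, hqC⟩ : C) = 2 := by rw [← Subgroup.orderOf_coe]; exact hq2
  rcases inv_cases _ _ (hz.snd hz.mem) (sq_of_order t e ⟨q, hqC⟩ hy) with h | ⟨c, hc⟩ | ⟨x, y, hxy, hsw⟩
  · exfalso
    have : e ⟨q, hqC⟩ = 1 := Prod.ext h1 h
    have h2 : (⟨q, hqC⟩ : C) = 1 := by simpa using this
    rw [h2, orderOf_one] at hy
    omega
  · left
    have h0 := conj_symm t e ⟨q, hqC⟩ c
    rw [hc, h1, symm_z t T e z hz] at h0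
    exact ⟨_, h0⟩
  · right
    obtain ⟨c, hc⟩ := swap_conj x y hxy
    have h0 := conj_symm t e ⟨q, hqC⟩ c
    rw [hsw, hc, h1] at h0
    exact ⟨_, h0⟩

include ht htT htc in
/-- piece `relidx` -/
theorem relIndex_Q : ((T : Subgroup G) ⊓ Lsub t e).relIndex (T : Subgroup G) = 2 := by
  have hle := T_le t T htc
  let f : (T : Subgroup G) →* Multiplicative (ZMod 2) :=
    ((MonoidHom.fst (Multiplicative (ZMod 2)) (Equiv.Perm (Fin 4))).comp e.toMonoidHom).comp
      (Subgroup.inclusion hle)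
  have hker : ((T : Subgroup G) ⊓ Lsub t e).subgroupOf (T : Subgroup G) = f.ker := by
    ext x
    rw [mem_subgroupOf, MonoidHom.mem_ker, mem_inf, mem_Lsub_iff]
    constructor
    · rintro ⟨-, h, h1⟩
      exact h1
    · intro h
      exact ⟨x.2, hle x.2, h⟩
  have hsurj : Function.Surjective f := by
    intro a
    rcases z2_cases a with rfl | rfl
    · exact ⟨1, map_one f⟩
    · refine ⟨⟨t, htT⟩, ?_⟩
      show (e ⟨t, _⟩).1 = a1
      rw [e_t t ht e]
  rw [Subgroup.relIndex, hker, Subgroup.index_ker, MonoidHom.range_eq_top.mpr hsurj]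
  rw [Nat.card_congr Subgroup.topEquiv.toEquiv]
  simp

include ht htT htc in
/-- piece `twist` -/
theorem exists_twist (z : G) (hz : IsZ t T e z) (g : G) (hg : Commute t (g * t * g⁻¹))
    (hne : g * t * g⁻¹ ≠ t) :
    ∃ (e' : centralizer ({t} : Set G) ≃* A) (y : centralizer ({t} : Set G)),
      (y : G) = g * t * g⁻¹ ∧ (e' y).1 = a1 ∧ (e' y).2.IsSwap ∧ IsZ t T e' z := by
  have hyC : g * t * g⁻¹ ∈ C := mem_centralizer_singleton_iff.mpr hg.eq.symm
  have hy : orderOf (⟨g * t * g⁻¹, hyC⟩ : C) = 2 := by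
    rw [← Subgroup.orderOf_coe]
    show orderOf (g * t * g⁻¹) = 2
    rw [← ht]
    exact (MulEquiv.orderOf_eq (MulAut.conj g) t)
  have hsw : (e ⟨g * t * g⁻¹, hyC⟩).2.IsSwap := by
    rcases invol_class t ht T htT htc e z hz ⟨g * t * g⁻¹, hyC⟩ hy with h | ⟨c, hc⟩ | ⟨c, hc⟩ | h
    · exact absurd h hne
    · exfalso
      apply (not_conj t ht T htT htc e z hz (c * g)).1
      rw [← hc]; group
    · exfalso
      apply (not_conj t ht T htT htc e z hz (c * g)).2.1
      rw [← hc]; group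
    · exact h
  rcases z2_cases (e ⟨g * t * g⁻¹, hyC⟩).1 with h1 | h1
  · obtain ⟨x, y, hxy, hs⟩ := hsw
    refine ⟨e.trans tw, ⟨g * t * g⁻¹, hyC⟩, rfl, ?_, ⟨x, y, hxy, hs⟩, ?_⟩
    · show (e ⟨g * t * g⁻¹, hyC⟩).1 * sg (e ⟨g * t * g⁻¹, hyC⟩).2 = a1
      rw [h1, hs, sg_swap x y hxy, one_mul]
    · refine ⟨hz.order, hz.cent, hz.mem, ?_, ?_⟩
      · intro h
        show (e ⟨z, h⟩).1 * sg (e ⟨z, h⟩).2 = 1
        rw [hz.fst h, sg_v _ (hz.snd h), one_mul]
      · intro h
        exact hz.snd h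
  · exact ⟨e, ⟨g * t * g⁻¹, hyC⟩, rfl, h1, hsw, hz⟩

include ht htT htc in
/-- piece `idx2` -/
theorem exists_index_two (z : G) (hz : IsZ t T e z) :
    ∃ M : Subgroup G, M.Normal ∧ M.index = 2 := by
  have hrel := relIndex_Q t ht T htT htc e
  have htL : t ∉ Lsub t e := by
    rw [mem_Lsub_iff]
    rintro ⟨h, h1⟩
    rw [e_t t ht e] at h1
    exact absurd h1 (by decide)
  have hzL := z_mem_L t T e z hz
  have htzL : t * z ∉ Lsub t e := by
    intro h
    apply htL
    have := mul_mem h (inv_mem hzL)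
    rwa [mul_inv_cancel_right] at this
  have hzT : z ∈ (T : Subgroup G) := by
    rw [← hz.cent]; exact mem_centralizer_singleton_iff.mpr rfl
  have hcomm : t * z = z * t := (htc z hzT).symm
  have htz2 : orderOf (t * z) = 2 := by
    apply orderOf_eq_prime
    · have h1 : t * t = 1 := by rw [← pow_two, ← ht, pow_orderOf_eq_one]
      have h2 : z * z = 1 := by rw [← pow_two, ← hz.order, pow_orderOf_eq_one]
      calc (t * z) ^ 2 = t * (z * t) * z := by rw [pow_two]; group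
        _ = (t * t) * (z * z) := by rw [← hcomm]; group
        _ = 1 := by rw [h1, h2, one_mul]
    · intro h
      apply htzL
      rw [h]; exact one_mem _
  rcases Cfsg.Agent.S0111.result T ((T : Subgroup G) ⊓ Lsub t e) inf_le_left hrel t ht htT
    (fun h => htL h.2) with ⟨M, hMn, hM, -⟩ | ⟨g1, hg1⟩
  · exact ⟨M, hMn, hM⟩
  rcases Cfsg.Agent.S0111.result T ((T : Subgroup G) ⊓ Lsub t e) inf_le_left hrel (t * z) htz2
    (mul_mem htT hzT) (fun h => htzL h.2) with ⟨M, hMn, hM, -⟩ | ⟨g2, hg2⟩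
  · exact ⟨M, hMn, hM⟩
  exfalso
  have ho1 : orderOf (g1 * t * g1⁻¹) = 2 := by
    rw [← ht]; exact (MulEquiv.orderOf_eq (MulAut.conj g1) t)
  have ho2 : orderOf (g2 * (t * z) * g2⁻¹) = 2 := by
    rw [← htz2]; exact (MulEquiv.orderOf_eq (MulAut.conj g2) (t * z))
  rcases invol_L t T e z hz _ hg1.2 ho1 with ⟨c, hc⟩ | ⟨c1, hc1⟩
  · apply (not_conj t ht T htT htc e z hz (c * g1)).1
    rw [← hc]; group
  rcases invol_L t T e z hz _ hg2.2 ho2 with ⟨c, hc⟩ | ⟨c2, hc2⟩
  · apply (not_conj t ht T htT htc e z hz (c * g2)).2.2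
    have : c * g2 * (t * z) * (c * g2)⁻¹ = c * (g2 * (t * z) * g2⁻¹) * c⁻¹ := by group
    rw [this, hc]
  apply (not_conj t ht T htT htc e z hz (g2⁻¹ * c2⁻¹ * c1 * g1)).2.1
  calc g2⁻¹ * c2⁻¹ * c1 * g1 * t * (g2⁻¹ * c2⁻¹ * c1 * g1)⁻¹
      = g2⁻¹ * c2⁻¹ * (c1 * (g1 * t * g1⁻¹) * c1⁻¹) * c2 * g2 := by group
    _ = g2⁻¹ * c2⁻¹ * (c2 * (g2 * (t * z) * g2⁻¹) * c2⁻¹) * c2 * g2 := by rw [hc1, hc2]
    _ = t * z := by group

end

end Cfsg.Agent.Lib.Helper29P29c
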