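import Mathlib
import Cfsg.Agent.S0215
import Cfsg.Agent.Lib.Helper29P29c

set_option autoImplicit false
set_option linter.unusedSectionVars false

/-! PROJECT 29, pieces `oddtriv`, `isol`, `Lle`, `cent1`. -/

namespace Cfsg.Agent.Lib.Helper29P29d

open MulAction Subgroup Cfsg.Agent.Lib.Helper29S6 Cfsg.Agent.Lib.Helper29P29a
  Cfsg.Agent.Lib.Helper29P29b Cfsg.Agent.Lib.Helper29P29c

set_option maxRecDepth 100000 in
theorem v_triple : ∀ v : Equiv.Perm (Fin 4), v.cycleType = {2, 2} →
    ∃ c c' : Equiv.Perm (Fin 4), (c * v * c⁻¹) * v = c' * v * c'⁻¹ := by decide +kernel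

/-- a fixed point free involution inverts -/
theorem inverts {G : Type*} [Group G] [Finite G] (N : Subgroup G) (hN : N.Normal) (u : G)
    (hu : u * u = 1) (hfix : ∀ x ∈ N, u * x = x * u → x = 1) (x : G) (hx : x ∈ N) :
    u * x * u⁻¹ = x⁻¹ := by
  let φ : MulAut N := MulAut.conjNormal u
  have hφ : MonoidHom.FixedPointFree φ := by
    intro g hg
    have h1 : u * g * u⁻¹ = g := by
      have := congrArg Subtype.val hg
      rwa [MulAut.conjNormal_apply] at this
    have h2 : (g : G) = 1 := hfix g g.2 (by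
      calc u * (g : G) = (u * g * u⁻¹) * u := by group
        _ = g * u := by rw [h1])
    exact Subtype.ext h2
  have hinv : Function.Involutive φ := by
    intro g
    apply Subtype.ext
    rw [MulAut.conjNormal_apply, MulAut.conjNormal_apply]
    calc u * (u * g * u⁻¹) * u⁻¹ = (u * u) * g * (u * u)⁻¹ := by group
      _ = g := by rw [hu]; simp
  have h := congrFun (hφ.coe_eq_inv_of_involutive hinv) ⟨x, hx⟩
  have h' := congrArg Subtype.val h
  rwa [MulAut.conjNormal_apply] at h'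

section
variable {G : Type*} [Group G] [Finite G] (t : G) (ht : orderOf t = 2) (T : Sylow 2 G)
  (htT : t ∈ (T : Subgroup G)) (htc : ∀ s ∈ (T : Subgroup G), s * t = t * s)
  (e : centralizer ({t} : Set G) ≃* A)

set_option quotPrecheck false in
local notation "C" => centralizer (Singleton.singleton t : Set G)

include htc in
/-- piece `oddtriv` -/
theorem odd_normal_eq_bot (z : G) (hz : IsZ t T e z) (N : Subgroup G) (hN : N.Normal)
    (hodd : Odd (Nat.card N)) : N = ⊥ := by
  have hcop : ∀ y ∈ N, y ∈ (T : Subgroup G) → y = 1 := by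
    intro y hyN hyT
    have h1 : orderOf y ∣ Nat.card N := by
      have := orderOf_dvd_natCard (⟨y, hyN⟩ : N)
      rwa [Subgroup.orderOf_mk] at this
    have h2 : orderOf y ∣ 16 := by
      have := orderOf_dvd_natCard (⟨y, hyT⟩ : (T : Subgroup G))
      rwa [Subgroup.orderOf_mk, card_T t T htc e] at this
    have h3 : Nat.Coprime (Nat.card N) 16 := by
      have : Nat.Coprime (Nat.card N) 2 := (Nat.coprime_two_right).mpr hodd
      exact Nat.Coprime.pow_right 4 this
    have := Nat.eq_one_of_dvd_coprimes h3 h1 h2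
    exact orderOf_eq_one_iff.mp this
  have hzz : z * z = 1 := by rw [← pow_two, ← hz.order, pow_orderOf_eq_one]
  have hfix : ∀ c : G, ∀ x ∈ N, (c * z * c⁻¹) * x = x * (c * z * c⁻¹) → x = 1 := by
    intro c x hx hcomm
    have h1 : c⁻¹ * x * c ∈ N := by
      have := hN.conj_mem x hx c⁻¹
      rwa [inv_inv] at this
    have h2 : c⁻¹ * x * c ∈ (T : Subgroup G) := by
      rw [← hz.cent, mem_centralizer_singleton_iff]
      calc c⁻¹ * x * c * z = c⁻¹ * (x * (c * z * c⁻¹)) * c := by group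
        _ = c⁻¹ * ((c * z * c⁻¹) * x) * c := by rw [hcomm]
        _ = z * (c⁻¹ * x * c) := by group
    have h3 := hcop _ h1 h2
    calc x = c * (c⁻¹ * x * c) * c⁻¹ := by group
      _ = 1 := by rw [h3]; group
  have hinv : ∀ c : G, ∀ x ∈ N, (c * z * c⁻¹) * x * (c * z * c⁻¹)⁻¹ = x⁻¹ := by
    intro c x hx
    apply inverts N hN _ _ (hfix c) x hx
    calc c * z * c⁻¹ * (c * z * c⁻¹) = c * (z * z) * c⁻¹ := by group
      _ = 1 := by rw [hzz]; group
  obtain ⟨c, c', hcc⟩ := v_triple _ (hz.snd hz.mem)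
  have h1 := conj_symm t e ⟨z, hz.mem⟩ c
  have h2 := conj_symm t e ⟨z, hz.mem⟩ c'
  rw [hz.fst hz.mem] at h1 h2
  set l : G := ((e.symm (1, c) : C) : G) with hl
  set l' : G := ((e.symm (1, c') : C) : G) with hl'
  have h3 : (l * z * l⁻¹) * z = l' * z * l'⁻¹ := by
    have h1' : l * z * l⁻¹ = _ := h1
    have h2' : l' * z * l'⁻¹ = _ := h2
    rw [h1', h2', ← hcc]
    have : (e.symm (1, c * (e ⟨z, hz.mem⟩).2 * c⁻¹) : C) * ⟨z, hz.mem⟩ =
        e.symm (1, c * (e ⟨z, hz.mem⟩).2 * c⁻¹ * (e ⟨z, hz.mem⟩).2) := by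
      apply e.injective
      rw [map_mul]
      simp only [MulEquiv.apply_symm_apply]
      exact Prod.ext (by simp [hz.fst hz.mem]) (by simp)
    exact congrArg Subtype.val this
  rw [eq_bot_iff]
  intro x hx
  rw [mem_bot]
  have e1 : z * x * z⁻¹ = x⁻¹ := by
    have := hinv 1 x hx
    simpa using this
  have e2 : (l * z * l⁻¹) * x⁻¹ * (l * z * l⁻¹)⁻¹ = x := by
    have := hinv l x⁻¹ (inv_mem hx)
    rwa [inv_inv] at this
  have e3 := hinv l' x hx
  rw [← h3] at e3
  have e4 : x = x⁻¹ := by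
    rw [← e3]
    calc x = (l * z * l⁻¹) * x⁻¹ * (l * z * l⁻¹)⁻¹ := e2.symm
      _ = (l * z * l⁻¹) * (z * x * z⁻¹) * (l * z * l⁻¹)⁻¹ := by rw [e1]
      _ = _ := by group
  have e5 : x ^ 2 = 1 := by
    rw [pow_two]
    nth_rw 1 [e4]
    exact inv_mul_cancel x
  have h4 : orderOf x ∣ 2 := orderOf_dvd_of_pow_eq_one e5
  have h5 : orderOf x ∣ Nat.card N := by
    have := orderOf_dvd_natCard (⟨x, hx⟩ : N)
    rwa [Subgroup.orderOf_mk] at this
  have h6 : Nat.Coprime (Nat.card N) 2 := (Nat.coprime_two_right).mpr hodd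
  exact orderOf_eq_one_iff.mp (Nat.eq_one_of_dvd_coprimes h6 h5 h4)

include ht htT htc in
/-- piece `isol` -/
theorem top_of_isolated (z : G) (hz : IsZ t T e z)
    (hiso : ∀ g : G, Commute t (g * t * g⁻¹) → g * t * g⁻¹ = t) :
    centralizer ({t} : Set G) = ⊤ := by
  obtain ⟨N, hN, hodd, hcomm⟩ := Cfsg.Agent.S0215.result T t ht htT
    (fun g hg => hiso g (htc _ hg).symm)
  have hbot := odd_normal_eq_bot t T htc e z hz N hN hodd
  rw [eq_top_iff]
  intro g _
  rw [mem_centralizer_singleton_iff]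
  have := hcomm g
  rw [hbot, mem_bot] at this
  calc g * t = (t * g * t⁻¹ * g⁻¹)⁻¹ * (t * g) := by group
    _ = t * g := by rw [this]; simp

/-- every element of `C` is `t ^ ? * l` -/
theorem symm_e (c : C) : ((e.symm ((e c).1, (e c).2) : C) : G) = c := by
  simp

include ht htT htc in
/-- piece `Lle` -/
theorem L_le (y : centralizer ({t} : Set G)) (g : G) (hyg : (y : G) = g * t * g⁻¹)
    (hy1 : (e y).1 = a1) (hy2 : (e y).2.IsSwap) (M : Subgroup G) (hMn : M.Normal)
    (hM : M.index = 2) : Lsub t e ≤ M ∧ t ∉ M := by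
  have hyw : (y : G) = t * ((e.symm (1, (e y).2) : C) : G) := by
    rw [← symm_a1 t ht e, ← hy1, symm_e]
  have h1 : (y : G) ∈ M ↔ t ∈ M := by
    rw [hyg]
    constructor
    · intro h
      have := hMn.conj_mem _ h g⁻¹
      have h2 : g⁻¹ * (g * t * g⁻¹) * g⁻¹⁻¹ = t := by group
      rwa [h2] at this
    · intro h
      exact hMn.conj_mem _ h g
  have hw : ((e.symm (1, (e y).2) : C) : G) ∈ M := by
    have h2 := Subgroup.mul_mem_iff_of_index_two hM (a := t) (b := ((e.symm (1, (e y).2) : C) : G))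
    rw [← hyw] at h2
    tauto
  let f : Equiv.Perm (Fin 4) →* G :=
    ((Subgroup.subtype C).comp e.symm.toMonoidHom).comp
      (MonoidHom.inr (Multiplicative (ZMod 2)) (Equiv.Perm (Fin 4)))
  have hf : ∀ σ, f σ = ((e.symm (1, σ) : C) : G) := fun σ => rfl
  have hKn : (M.comap f).Normal := hMn.comap f
  have hK : M.comap f = ⊤ := by
    rw [eq_top_iff, ← Equiv.Perm.closure_isSwap, Subgroup.closure_le]
    rintro σ ⟨a, b, hab, rfl⟩
    obtain ⟨a', b', hab', hs⟩ := hy2
    obtain ⟨c, hc⟩ := isConj_iff.mp (Equiv.Perm.isConj_swap hab' hab)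
    rw [← hc]
    apply hKn.conj_mem
    rw [← hs]
    exact hw
  have hL : Lsub t e ≤ M := by
    intro x hx
    obtain ⟨hxC, hx1⟩ := (mem_Lsub_iff t e x).mp hx
    have h2 : (e ⟨x, hxC⟩).2 ∈ M.comap f := by rw [hK]; exact mem_top _
    have h3 : f (e ⟨x, hxC⟩).2 = x := by
      rw [hf, ← hx1, symm_e]
    rw [mem_comap, h3] at h2
    exact h2
  refine ⟨hL, fun htM => ?_⟩
  have hCM : C ≤ M := by
    intro x hxC
    have h0 := symm_e t e ⟨x, hxC⟩
    rcases z2_cases (e ⟨x, hxC⟩).1 with h | h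
    · apply hL
      rw [mem_Lsub_iff]
      exact ⟨hxC, h⟩
    · rw [h, symm_a1 t ht e] at h0
      have h0' : t * ((e.symm (1, (e ⟨x, hxC⟩).2) : C) : G) = x := h0
      rw [← h0']
      exact mul_mem htM (hL (symm_mem_Lsub t e _))
  have hTM : (T : Subgroup G) ≤ M := (T_le t T htc).trans hCM
  have h2 : 2 ∣ (T : Subgroup G).index := by
    have := Subgroup.index_dvd_of_le hTM
    rwa [hM] at this
  have h3 := T.card_coprime_index
  rw [card_T t T htc e] at h3
  have h4 : Nat.Coprime 2 (T : Subgroup G).index := Nat.Coprime.coprime_dvd_left (by norm_num) h3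
  have := Nat.eq_one_of_dvd_coprimes h4 (dvd_refl 2) h2
  omega

include ht htT htc in
/-- piece `cent1` -/
theorem cent_eq_bot (z : G) (hz : IsZ t T e z) (M : Subgroup G) (hM : M.index = 2)
    (hL : Lsub t e ≤ M) (htM : t ∉ M) (hcard : Nat.card G = 720) :
    centralizer (M : Set G) = ⊥ := by
  rw [eq_bot_iff]
  intro c hc
  rw [mem_bot]
  rw [mem_centralizer_iff] at hc
  have hcT : c ∈ (T : Subgroup G) := by
    rw [← hz.cent, mem_centralizer_singleton_iff]
    exact (hc z (hL (z_mem_L t T e z hz))).symm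
  have hcC : c ∈ C := T_le t T htc hcT
  have h2 : (e ⟨c, hcC⟩).2 = 1 := by
    apply center_S4
    intro τ
    have h3 := hc _ (hL (symm_mem_Lsub t e τ))
    have h4 : (e.symm (1, τ) : C) * ⟨c, hcC⟩ = ⟨c, hcC⟩ * e.symm (1, τ) := Subtype.ext h3
    have := congrArg (fun x => (e x).2) h4
    simpa using this.symm
  rcases z2_cases (e ⟨c, hcC⟩).1 with h | h
  · have : e ⟨c, hcC⟩ = 1 := Prod.ext h h2
    have h3 : (⟨c, hcC⟩ : C) = 1 := by simpa using this
    exact congrArg Subtype.val h3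
  · exfalso
    have h3 : (⟨c, hcC⟩ : C) = ⟨t, mem_centralizer_singleton_iff.mpr rfl⟩ := by
      apply e.injective
      rw [e_t t ht e]
      exact Prod.ext h h2
    have h4 : c = t := congrArg Subtype.val h3
    have hMC : M ≤ C := by
      intro m hm
      rw [mem_centralizer_singleton_iff, ← h4]
      exact hc m hm
    have h5 := Subgroup.card_le_of_le hMC
    have h6 : Nat.card C = 48 := by rw [Nat.card_congr e.toEquiv, card_A]
    have h7 := M.card_mul_index
    rw [hM, hcard] at h7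
    omega

end

end Cfsg.Agent.Lib.Helper29P29d
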