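import Mathlib
import Cfsg.Prelude.Def_Transfer
import Cfsg.Prelude.Def_CaseTheorems
import Cfsg.Agent.S0107
import Cfsg.Agent.Lib.Helper92Basic

set_option autoImplicit false
set_option linter.unusedSectionVars false

/-! PROJECT 8 (D8), piece `simp`: `O^2(G) = G` and `C(t) ≅ D8` imply that `G` is simple. -/

namespace Cfsg.Agent.Lib.Helper40P8simp

open MulAction Subgroup DihedralGroup

theorem center_d4 : ∀ x : DihedralGroup 4, (∀ y, x * y = y * x) → x = 1 ∨ x = r 2 := by
  decide

/-- every element of `D8` is a product of two elements of square one which are involutions or trivial -/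
theorem d4_prod (x : DihedralGroup 4) :
    ∃ a b : DihedralGroup 4, (a = 1 ∨ orderOf a = 2) ∧ (b = 1 ∨ orderOf b = 2) ∧ x = a * b := by
  rcases x with k | k
  · exact ⟨sr 0, sr k, Or.inr (orderOf_sr 0), Or.inr (orderOf_sr k), by rw [sr_mul_sr, sub_zero]⟩
  · exact ⟨sr k, 1, Or.inr (orderOf_sr k), Or.inl rfl, by rw [mul_one]⟩

section

variable {G : Type*} [Group G] [Finite G] (t : G) (ht : orderOf t = 2)
  (e : centralizer ({t} : Set G) ≃* DihedralGroup 4)

include ht in
theorem t_ne_one : t ≠ 1 := by
  rintro rfl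
  rw [orderOf_one] at ht
  omega

theorem t_mem : t ∈ centralizer ({t} : Set G) := mem_centralizer_singleton_iff.mpr rfl

/-- central elements of `C(t)` -/
theorem central_eq (z : centralizer ({t} : Set G)) (hz : ∀ c : centralizer ({t} : Set G), z * c = c * z)
    (hz1 : z ≠ 1) : e z = r 2 := by
  rcases center_d4 (e z) (fun y => by
    rw [← e.apply_symm_apply y, ← map_mul, ← map_mul, hz]) with h | h
  · exact absurd ((MulEquiv.map_eq_one_iff e).mp h) hz1
  · exact h

include ht in
theorem e_t : e ⟨t, t_mem t⟩ = r 2 := by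
  apply central_eq
  · intro c
    exact Subtype.ext (mem_centralizer_singleton_iff.mp c.2).symm
  · intro h
    exact t_ne_one t ht (congrArg Subtype.val h)

include ht e in
/-- piece `syl` (after S0848) -/
theorem sylow_of_cent' : ∃ P : Sylow 2 G, (P : Subgroup G) = centralizer ({t} : Set G) := by
  have : Fact (Nat.Prime 2) := ⟨Nat.prime_two⟩
  set C := centralizer ({t} : Set G) with hC
  have hcardC : Nat.card C = 8 := by rw [Nat.card_congr e.toEquiv, DihedralGroup.nat_card]
  have hCp : IsPGroup 2 C := IsPGroup.of_card (n := 3) (by rw [hcardC]; norm_num)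
  obtain ⟨P, hCP⟩ := hCp.exists_le_sylow
  have htC : t ∈ C := t_mem t
  have ht1 := t_ne_one t ht
  refine ⟨P, le_antisymm ?_ hCP⟩
  have hnt : Nontrivial (P : Subgroup G) :=
    ⟨⟨⟨t, hCP htC⟩, 1, fun h => ht1 (congrArg Subtype.val h)⟩⟩
  have hcnt := P.2.center_nontrivial
  obtain ⟨z, hz1⟩ := exists_ne (1 : center (P : Subgroup G))
  have hzc : ∀ p : (P : Subgroup G), p * z.1 = z.1 * p := fun p => mem_center_iff.mp z.2 p
  have hzC : ((z.1 : (P : Subgroup G)) : G) ∈ C := by
    rw [hC, mem_centralizer_singleton_iff]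
    exact (congrArg Subtype.val (hzc ⟨t, hCP htC⟩)).symm
  have hez : e ⟨_, hzC⟩ = r 2 := by
    apply central_eq
    · intro c
      exact Subtype.ext (congrArg Subtype.val (hzc ⟨c, hCP c.2⟩)).symm
    · intro h
      apply hz1
      apply Subtype.ext
      apply Subtype.ext
      exact congrArg (Subtype.val : C → G) h
  have hzt : ((z.1 : (P : Subgroup G)) : G) = t := by
    have := e.injective (hez.trans (e_t t ht e).symm)
    exact congrArg Subtype.val this
  intro p hp
  rw [hC, mem_centralizer_singleton_iff, ← hzt]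
  exact congrArg Subtype.val (hzc ⟨p, hp⟩)

end

/-- piece `simp` -/
theorem simple_of_residual {G : Type*} [Group G] [Finite G] (hres : Cfsg.pResidual 2 G = ⊤) (t : G)
    (ht : orderOf t = 2) (e : centralizer ({t} : Set G) ≃* DihedralGroup 4) :
    IsSimpleGroup G := by
  classical
  have : Fact (Nat.Prime 2) := ⟨Nat.prime_two⟩
  obtain ⟨P, hPC⟩ := sylow_of_cent' t ht e
  set C := centralizer ({t} : Set G) with hC
  let e' : (P : Subgroup G) ≃* DihedralGroup 4 := (MulEquiv.subgroupCongr hPC).trans e
  have hconj : ∀ x y : G, orderOf x = 2 → orderOf y = 2 → ∃ g, g * x * g⁻¹ = y :=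
    fun x y hx hy => Cfsg.Agent.S0107.result P 2 le_rfl ⟨e'⟩ hres x y hx hy
  have ht1 := t_ne_one t ht
  have htC : t ∈ C := t_mem t
  have hcardC : Nat.card C = 8 := by rw [Nat.card_congr e.toEquiv, DihedralGroup.nat_card]
  refine { exists_pair_ne := ⟨t, 1, ht1⟩, eq_bot_or_eq_top_of_normal := ?_ }
  intro N hN
  by_cases hinv : ∃ j ∈ N, orderOf j = 2
  · right
    obtain ⟨j, hjN, hj⟩ := hinv
    have hall : ∀ x, orderOf x = 2 → x ∈ N := by
      intro x hx
      obtain ⟨g, hg⟩ := hconj j x hj hx
      rw [← hg]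
      exact hN.conj_mem j hjN g
    have hCN : C ≤ N := by
      intro c hc
      obtain ⟨a, b, ha, hb, hab⟩ := d4_prod (e ⟨c, hc⟩)
      have hc' : (⟨c, hc⟩ : C) = e.symm a * e.symm b := by
        apply e.injective
        rw [map_mul, MulEquiv.apply_symm_apply, MulEquiv.apply_symm_apply, hab]
      have hmem : ∀ a : DihedralGroup 4, (a = 1 ∨ orderOf a = 2) → ((e.symm a : C) : G) ∈ N := by
        intro a ha
        rcases ha with rfl | ha
        · simp [N.one_mem]
        · apply hall
          rw [Subgroup.orderOf_coe, MulEquiv.orderOf_eq, ha]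
      have h2 : c = ((e.symm a : C) : G) * ((e.symm b : C) : G) := congrArg Subtype.val hc'
      rw [h2]
      exact N.mul_mem (hmem a ha) (hmem b hb)
    have hPN : (P : Subgroup G) ≤ N := hPC ▸ hCN
    have hfr := Sylow.normalizer_sup_eq_top' P hPN
    have hNP : normalizer ((P : Subgroup G) : Set G) ≤ C := by
      intro g hg
      have hgt : g * t * g⁻¹ ∈ C := by
        rw [← hPC]
        exact (mem_normalizer_iff.1 hg t).1 (hPC ▸ htC)
      have h1 : e ⟨g * t * g⁻¹, hgt⟩ = r 2 := by
        apply central_eq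
        · intro c
          apply Subtype.ext
          change g * t * g⁻¹ * c = c * (g * t * g⁻¹)
          have hc' : g⁻¹ * c * g ∈ C := by
            rw [← hPC]
            have := (mem_normalizer_iff.1 (inv_mem hg) c).1 (hPC ▸ c.2)
            rwa [inv_inv] at this
          have h3 : g⁻¹ * c * g * t = t * (g⁻¹ * c * g) := mem_centralizer_singleton_iff.1 hc'
          calc g * t * g⁻¹ * c = g * (t * (g⁻¹ * c * g)) * g⁻¹ := by group
            _ = g * (g⁻¹ * c * g * t) * g⁻¹ := by rw [h3]
            _ = c * (g * t * g⁻¹) := by group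
        · intro h
          apply ht1
          have h4 : g * t * g⁻¹ = 1 := congrArg Subtype.val h
          have : t = g⁻¹ * (g * t * g⁻¹) * g := by group
          rw [this, h4]
          group
      have h2 : g * t * g⁻¹ = t := congrArg Subtype.val (e.injective (h1.trans (e_t t ht e).symm))
      rw [hC, mem_centralizer_singleton_iff]
      calc g * t = g * t * g⁻¹ * g := by group
        _ = t * g := by rw [h2]
    rw [eq_top_iff, ← hfr]
    exact sup_le (hNP.trans hCN) le_rfl
  · left
    push Not at hinv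
    -- no non-trivial element of `N` has order a power of two
    have hodd : ∀ x ∈ N, ∀ k : ℕ, x ^ 2 ^ k = 1 → x = 1 := by
      intro x hx k
      induction k generalizing x with
      | zero => intro h; simpa using h
      | succ k ih =>
        intro h
        have h1 : (x ^ 2) ^ 2 ^ k = 1 := by rw [← pow_mul, ← pow_succ']; exact h
        have h2 := ih (x ^ 2) (N.pow_mem hx 2) h1
        by_contra hx1
        exact hinv x hx (orderOf_eq_prime h2 hx1)
    have hfpf : ∀ j : G, orderOf j = 2 → ∀ k ∈ N, j * k * j⁻¹ = k → k = 1 := by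
      intro j hj k hk hjk
      obtain ⟨g, hg⟩ := hconj j t hj ht
      -- `g k g⁻¹` centralizes `t`
      have h1 : g * k * g⁻¹ ∈ C := by
        rw [hC, mem_centralizer_singleton_iff, ← hg]
        calc g * k * g⁻¹ * (g * j * g⁻¹) = g * (k * j) * g⁻¹ := by group
          _ = g * (j * k * j⁻¹ * j) * g⁻¹ := by rw [hjk]
          _ = g * j * g⁻¹ * (g * k * g⁻¹) := by group
      have h2 : (⟨g * k * g⁻¹, h1⟩ : C) ^ 2 ^ 3 = 1 := by
        have := pow_card_eq_one' (G := C) (x := ⟨g * k * g⁻¹, h1⟩)
        rw [hcardC] at this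
        exact this
      have h3 : (g * k * g⁻¹) ^ 2 ^ 3 = 1 := congrArg Subtype.val h2
      have h4 := hodd _ (hN.conj_mem k hk g) 3 h3
      have : k = g⁻¹ * (g * k * g⁻¹) * g := by group
      rw [this, h4]
      group
    have hinvert : ∀ j : G, orderOf j = 2 → ∀ k ∈ N, j * k * j⁻¹ = k⁻¹ := by
      intro j hj
      apply Cfsg.Agent.Lib.Helper92Basic.inverts_of_fixedPointFree N j
      · rw [← pow_two, ← hj, pow_orderOf_eq_one]
      · intro k hk
        exact hN.conj_mem k hk j
      · exact hfpf j hj
    set s : G := ((e.symm (sr 0) : C) : G) with hs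
    have hso : orderOf s = 2 := by
      rw [hs, Subgroup.orderOf_coe, MulEquiv.orderOf_eq, orderOf_sr]
    have htso : orderOf (t * s) = 2 := by
      have h1 : t * s = ((e.symm (r 2 * sr 0) : C) : G) := by
        rw [map_mul, ← e_t t ht e, MulEquiv.symm_apply_apply]
        rfl
      rw [h1, Subgroup.orderOf_coe, MulEquiv.orderOf_eq, r_mul_sr, orderOf_sr]
    rw [eq_bot_iff]
    intro n hn
    rw [mem_bot]
    have h1 := hinvert s hso n hn
    have h2 := hinvert t ht n⁻¹ (N.inv_mem hn)
    have h3 := hinvert (t * s) htso n hn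
    have h4 : t * s * n * (t * s)⁻¹ = n := by
      calc t * s * n * (t * s)⁻¹ = t * (s * n * s⁻¹) * t⁻¹ := by group
        _ = n := by rw [h1, h2, inv_inv]
    have h5 : n = n⁻¹ := h4.symm.trans h3
    apply hodd n hn 1
    rw [pow_one, pow_two]
    nth_rewrite 1 [h5]
    exact inv_mul_cancel n

end Cfsg.Agent.Lib.Helper40P8simp
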