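import Mathlib
import Cfsg.Agent.Lib.Helper40P8simp

set_option autoImplicit false
set_option linter.unusedSectionVars false

namespace Cfsg.Agent.Lib.Helper40P8b

open MulAction Subgroup DihedralGroup
open Cfsg.Agent.Lib.Helper40P8simp

/-- piece `mapc` -/
theorem map_cent {G : Type*} [Group G] (H : Subgroup G) (x : H) :
    (centralizer ({x} : Set H)).map H.subtype = centralizer ({(x : G)} : Set G) ⊓ H := by
  ext g
  constructor
  · rintro ⟨c, hc, rfl⟩
    refine ⟨?_, c.2⟩
    have h := mem_centralizer_singleton_iff.1 hc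
    exact mem_centralizer_singleton_iff.2 (congrArg Subtype.val h)
  · rintro ⟨h1, h2⟩
    refine ⟨⟨g, h2⟩, ?_, rfl⟩
    have h := mem_centralizer_singleton_iff.1 h1
    exact mem_centralizer_singleton_iff.2 (Subtype.ext h)

/-- piece `c4` -/
theorem cyclic_of_card_four {A : Type*} [Group A] (h : Nat.card A = 4) (c : A) (hc : c ^ 2 ≠ 1) :
    IsCyclic A := by
  have : Finite A := Nat.finite_of_card_ne_zero (by omega)
  apply isCyclic_of_orderOf_eq_card c
  rw [h]
  have hd : orderOf c ∣ 4 := h ▸ orderOf_dvd_natCard c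
  have h4 : (4 : ℕ) = 2 ^ 2 := by norm_num
  rw [h4, Nat.dvd_prime_pow Nat.prime_two] at hd
  obtain ⟨k, hk, hk'⟩ := hd
  interval_cases k
  · exfalso; apply hc
    have : c = 1 := by rw [← orderOf_eq_one_iff]; simpa using hk'
    rw [this, one_pow]
  · exfalso; apply hc
    have : orderOf c = 2 := by simpa using hk'
    rw [← this, pow_orderOf_eq_one]
  · simpa using hk'

section
variable {G : Type*} [Group G] [Finite G] (z : G) (hz : orderOf z = 2)
  (e : centralizer ({z} : Set G) ≃* DihedralGroup 4) (H : Subgroup G) (hH : H.index = 2)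
include hz e hH

/-- piece `memH` -/
theorem mem_of_index_two : z ∈ H := by
  have h1 : (e.symm (r 1)) ^ 2 = (⟨z, t_mem z⟩ : centralizer ({z} : Set G)) := by
    apply e.injective
    rw [map_pow, MulEquiv.apply_symm_apply, e_t z hz e]
    decide
  have h2 : ((e.symm (r 1) : centralizer ({z} : Set G)) : G) ^ 2 = z := congrArg Subtype.val h1
  rw [← h2]
  exact Subgroup.sq_mem_of_index_two hH _

theorem card_C : Nat.card (centralizer ({z} : Set G)) = 8 := by
  rw [Nat.card_congr e.toEquiv, DihedralGroup.nat_card]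

theorem not_le : ¬ centralizer ({z} : Set G) ≤ H := by
  have : Fact (Nat.Prime 2) := ⟨Nat.prime_two⟩
  obtain ⟨P, hP⟩ := sylow_of_cent' z hz e
  intro hle
  have h1 := Subgroup.relIndex_mul_index hle
  rw [hH, ← hP] at h1
  exact P.not_dvd_index ⟨_, (h1.symm.trans (mul_comm _ _))⟩

/-- piece `inf4` -/
theorem card_inf : Nat.card (centralizer ({z} : Set G) ⊓ H : Subgroup G) = 4 := by
  have hn : H.Normal := Subgroup.normal_of_index_eq_two hH
  have h1 : H.relIndex (centralizer ({z} : Set G)) ∣ 2 := hH ▸ Subgroup.relIndex_dvd_index_of_normal H _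
  have h2 : H.relIndex (centralizer ({z} : Set G)) ≠ 1 := by
    intro h
    exact not_le z hz e H hH (Subgroup.relIndex_eq_one.1 h)
  have h3 : H.relIndex (centralizer ({z} : Set G)) = 2 := by
    rcases (Nat.dvd_prime Nat.prime_two).1 h1 with h | h
    · exact absurd h h2
    · exact h
  have h4 := ((centralizer ({z} : Set G) ⊓ H).subgroupOf (centralizer ({z} : Set G))).card_mul_index
  have h5 : ((centralizer ({z} : Set G) ⊓ H).subgroupOf (centralizer ({z} : Set G))).index = 2 := by
    rw [← h3, inf_comm, Subgroup.inf_subgroupOf_right]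
    rfl
  rw [h5, card_C z hz e H hH, Nat.card_congr (Subgroup.subgroupOfEquivOfLe inf_le_left).toEquiv] at h4
  omega

theorem card_centH (hzH : z ∈ H) : Nat.card (centralizer ({(⟨z, hzH⟩ : H)} : Set H)) = 4 := by
  rw [← Subgroup.card_map_of_injective H.subtype_injective, map_cent]
  exact card_inf z hz e H hH

theorem fact_H : (Nat.card H).factorization 2 = 2 := by
  have : Fact (Nat.Prime 2) := ⟨Nat.prime_two⟩
  obtain ⟨P, hP⟩ := sylow_of_cent' z hz e
  have h1 := P.card_eq_multiplicity
  rw [hP, card_C z hz e H hH] at h1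
  have h2 : (Nat.card G).factorization 2 = 3 := by
    have h8 : (8 : ℕ) = 2 ^ 3 := by norm_num
    rw [h8] at h1
    exact (Nat.pow_right_injective le_rfl h1).symm
  have h3 := H.card_mul_index
  rw [hH] at h3
  rw [← h3, Nat.factorization_mul Nat.card_pos.ne' (by norm_num)] at h2
  simp only [Finsupp.coe_add, Pi.add_apply, Nat.Prime.factorization_self Nat.prime_two] at h2
  omega

/-- piece `sylH` -/
theorem exists_sylow_sub (hzH : z ∈ H) :
    ∃ Q : Sylow 2 H, (Q : Subgroup H) = centralizer ({(⟨z, hzH⟩ : H)} : Set H) := by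
  have : Fact (Nat.Prime 2) := ⟨Nat.prime_two⟩
  refine ⟨Sylow.ofCard (centralizer ({(⟨z, hzH⟩ : H)} : Set H)) ?_, rfl⟩
  rw [card_centH z hz e H hH hzH, fact_H z hz e H hH]; norm_num

theorem exists_not_mem : ∃ s ∈ centralizer ({z} : Set G), s ∉ H := by
  have := not_le z hz e H hH
  rw [SetLike.not_le_iff_exists] at this
  exact this

/-- piece `e4` -/
theorem normal_inf_of_E4 (E : Subgroup H) (hE : E.Normal) (hE4 : Nat.card E = 4) :
    (centralizer ({z} : Set G) ⊓ H : Subgroup G).Normal := by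
  have : Fact (Nat.Prime 2) := ⟨Nat.prime_two⟩
  have hn : H.Normal := Subgroup.normal_of_index_eq_two hH
  have hzH := mem_of_index_two z hz e H hH
  obtain ⟨Q, hQ⟩ := exists_sylow_sub z hz e H hH hzH
  let E' : Sylow 2 H := Sylow.ofCard E (by rw [hE4, fact_H z hz e H hH]; norm_num)
  have hE' : (E' : Subgroup H) = E := rfl
  have huniq : Subsingleton (Sylow 2 H) := by
    have := Sylow.unique_of_normal E' (hE' ▸ hE)
    infer_instance
  have hQE : Q = E' := Subsingleton.elim _ _
  have hcn : (centralizer ({(⟨z, hzH⟩ : H)} : Set H)).Normal := by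
    rw [← hQ, hQE, hE']; exact hE
  have hmap := map_cent H ⟨z, hzH⟩
  obtain ⟨s, hsC, hsH⟩ := exists_not_mem z hz e H hH
  -- conjugation by H
  have hcH : ∀ h ∈ H, ∀ v ∈ (centralizer ({z} : Set G) ⊓ H : Subgroup G),
      h * v * h⁻¹ ∈ (centralizer ({z} : Set G) ⊓ H : Subgroup G) := by
    intro h hh v hv
    rw [← hmap] at hv ⊢
    obtain ⟨c, hc, rfl⟩ := hv
    exact ⟨⟨h, hh⟩ * c * ⟨h, hh⟩⁻¹, hcn.conj_mem c hc _, rfl⟩
  have hcC : ∀ h ∈ centralizer ({z} : Set G), ∀ v ∈ (centralizer ({z} : Set G) ⊓ H : Subgroup G),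
      h * v * h⁻¹ ∈ (centralizer ({z} : Set G) ⊓ H : Subgroup G) := by
    intro h hh v hv
    exact ⟨Subgroup.mul_mem _ (Subgroup.mul_mem _ hh hv.1) (Subgroup.inv_mem _ hh), hn.conj_mem v hv.2 h⟩
  constructor
  intro v hv g
  by_cases hg : g ∈ H
  · exact hcH g hg v hv
  · have h1 : s⁻¹ * g ∈ H := by
      rw [Subgroup.mul_mem_iff_of_index_two hH]
      simp [hsH, hg]
    have h2 : g * v * g⁻¹ = s * ((s⁻¹ * g) * v * (s⁻¹ * g)⁻¹) * s⁻¹ := by group
    rw [h2]
    exact hcC s hsC _ (hcH _ h1 v hv)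

/-- a central element of `G` is `1` or `z` -/
theorem central_cases (c : G) (hc : ∀ g : G, g * c = c * g) : c = 1 ∨ c = z := by
  by_cases h1 : c = 1
  · exact Or.inl h1
  · right
    have hcC : c ∈ centralizer ({z} : Set G) := mem_centralizer_singleton_iff.2 (hc z).symm
    have h2 : e ⟨c, hcC⟩ = r 2 := by
      apply central_eq
      · intro d
        exact Subtype.ext (hc d).symm
      · intro h
        exact h1 (congrArg Subtype.val h)
    have := e.injective (h2.trans (e_t z hz e).symm)
    exact congrArg Subtype.val this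

/-- an element commuting with `H` and with one element outside `H` is central. -/
theorem central_of_comm (c s : G) (hs : s ∉ H) (hcH : ∀ h ∈ H, h * c = c * h) (hcs : s * c = c * s) :
    ∀ g : G, g * c = c * g := by
  intro g
  by_cases hg : g ∈ H
  · exact hcH g hg
  · have h1 : s⁻¹ * g ∈ H := by
      rw [Subgroup.mul_mem_iff_of_index_two hH]
      simp [hs, hg]
    have h2 := hcH _ h1
    calc g * c = s * (s⁻¹ * g * c) := by group
      _ = s * (c * (s⁻¹ * g)) := by rw [h2]
      _ = (s * c) * (s⁻¹ * g) := by group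
      _ = (c * s) * (s⁻¹ * g) := by rw [hcs]
      _ = c * g := by group

/-- piece `a5` -/
theorem cent_eq_bot_of_A5 (f : H ≃* alternatingGroup (Fin 5)) : centralizer (H : Set G) = ⊥ := by
  have hzH := mem_of_index_two z hz e H hH
  rw [eq_bot_iff]
  intro c hc
  rw [mem_centralizer_iff] at hc
  rw [Subgroup.mem_bot]
  by_cases hcH : c ∈ H
  · have h1 : f ⟨c, hcH⟩ ∈ Subgroup.center (alternatingGroup (Fin 5)) := by
      rw [Subgroup.mem_center_iff]
      intro y
      rw [← f.apply_symm_apply y, ← map_mul, ← map_mul]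
      congr 1
      exact Subtype.ext (hc _ (f.symm y).2)
    rw [alternatingGroup.center_eq_bot (by simp), Subgroup.mem_bot, MulEquiv.map_eq_one_iff] at h1
    exact congrArg Subtype.val h1
  · exfalso
    have h1 := central_of_comm z hz e H hH c c hcH hc rfl
    rcases central_cases z hz e H hH c h1 with h | h
    · exact hcH (h ▸ H.one_mem)
    · exact hcH (h ▸ hzH)

theorem top_of_comm (h : ∀ h ∈ H, h * z = z * h) : centralizer ({z} : Set G) = ⊤ := by
  have hle : H ≤ centralizer ({z} : Set G) := fun x hx => mem_centralizer_singleton_iff.2 (h x hx)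
  have h1 := card_inf z hz e H hH
  rw [inf_eq_right.2 hle] at h1
  have h2 := H.card_mul_index
  rw [hH, h1] at h2
  apply Subgroup.eq_top_of_card_eq
  rw [card_C z hz e H hH, ← h2]

/-- piece `e2` -/
theorem case_E2 (E : Subgroup H) (hE : E.Normal) (hE2 : Nat.card E = 2) :
    centralizer ({z} : Set G) = ⊤ := by
  have hn : H.Normal := Subgroup.normal_of_index_eq_two hH
  have hzH := mem_of_index_two z hz e H hH
  obtain ⟨a, ha1, hau⟩ := (Nat.card_eq_two_iff' (1 : E)).1 hE2
  have hacH : ∀ h : H, h * (a : H) * h⁻¹ = a := by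
    intro h
    have h1 : h * (a : H) * h⁻¹ ∈ E := hE.conj_mem a a.2 h
    have h2 := hau ⟨_, h1⟩ (by
      intro h3
      apply ha1
      have h4 : h * (a : H) * h⁻¹ = 1 := congrArg Subtype.val h3
      have h5 : (a : H) = 1 := by
        have : (a : H) = h⁻¹ * (h * (a : H) * h⁻¹) * h := by group
        rw [this, h4]; group
      exact Subtype.ext h5)
    exact congrArg Subtype.val h2
  set a' : G := ((a : H) : G) with ha'
  have ha'1 : a' ≠ 1 := by
    intro h
    apply ha1
    apply Subtype.ext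
    apply Subtype.ext
    exact h
  have hac : ∀ h ∈ H, h * a' = a' * h := by
    intro h hh
    have h1 := hacH ⟨h, hh⟩
    have h2 : h * a' * h⁻¹ = a' := congrArg Subtype.val h1
    calc h * a' = (h * a' * h⁻¹) * h := by group
      _ = a' * h := by rw [h2]
  have haC : a' ∈ centralizer ({z} : Set G) := mem_centralizer_singleton_iff.2 (hac z hzH).symm
  obtain ⟨s, hsC, hsH⟩ := exists_not_mem z hz e H hH
  apply top_of_comm z hz e H hH
  have hcomm : ∀ x y : DihedralGroup 4, x * y * x⁻¹ * y⁻¹ = 1 ∨ x * y * x⁻¹ * y⁻¹ = r 2 := by decide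
  rcases hcomm (e ⟨s, hsC⟩) (e ⟨a', haC⟩) with h | h
  · -- `a'` central
    have h1 : (⟨s, hsC⟩ : centralizer ({z} : Set G)) * ⟨a', haC⟩ * ⟨s, hsC⟩⁻¹ * ⟨a', haC⟩⁻¹ = 1 := by
      apply e.injective
      rw [map_mul, map_mul, map_mul, map_inv, map_inv, h, map_one]
    have h2 : s * a' * s⁻¹ * a'⁻¹ = 1 := congrArg Subtype.val h1
    have h3 : s * a' = a' * s := by
      calc s * a' = (s * a' * s⁻¹ * a'⁻¹) * (a' * s) := by group
        _ = a' * s := by rw [h2, one_mul]
    rcases central_cases z hz e H hH a' (central_of_comm z hz e H hH a' s hsH hac h3) with h4 | h4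
    · exact absurd h4 ha'1
    · rw [← h4]; exact hac
  · have h1 : (⟨s, hsC⟩ : centralizer ({z} : Set G)) * ⟨a', haC⟩ * ⟨s, hsC⟩⁻¹ * ⟨a', haC⟩⁻¹ = ⟨z, t_mem z⟩ := by
      apply e.injective
      rw [map_mul, map_mul, map_mul, map_inv, map_inv, h, e_t z hz e]
    have h2 : s * a' * s⁻¹ * a'⁻¹ = z := congrArg Subtype.val h1
    intro h hh
    have h3 : s⁻¹ * h * s ∈ H := by
      have := hn.conj_mem h hh s⁻¹
      rwa [inv_inv] at this
    have h4 := hac _ h3
    have h5 := hac h hh
    have h6 : h * a'⁻¹ = a'⁻¹ * h := by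
      calc h * a'⁻¹ = a'⁻¹ * (a' * h) * a'⁻¹ := by group
        _ = a'⁻¹ * (h * a') * a'⁻¹ := by rw [h5]
        _ = a'⁻¹ * h := by group
    rw [← h2]
    calc h * (s * a' * s⁻¹ * a'⁻¹) = s * (s⁻¹ * h * s * a') * s⁻¹ * a'⁻¹ := by group
      _ = s * (a' * (s⁻¹ * h * s)) * s⁻¹ * a'⁻¹ := by rw [h4]
      _ = s * a' * s⁻¹ * (h * a'⁻¹) := by group
      _ = s * a' * s⁻¹ * (a'⁻¹ * h) := by rw [h6]
      _ = s * a' * s⁻¹ * a'⁻¹ * h := by group

theorem exists_third : ∃ s ∈ (centralizer ({z} : Set G) ⊓ H : Subgroup G), s ≠ 1 ∧ s ≠ z := by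
  by_contra hcon
  push Not at hcon
  have hsub : ((centralizer ({z} : Set G) ⊓ H : Subgroup G) : Set G) ⊆ {1, z} := by
    intro x hx
    by_cases h1 : x = 1
    · exact Or.inl h1
    · exact Or.inr (hcon x hx h1)
  have h1 := Set.ncard_le_ncard hsub (Set.toFinite _)
  have h2 : ((centralizer ({z} : Set G) ⊓ H : Subgroup G) : Set G).ncard = 4 := by
    rw [← card_inf z hz e H hH]
    exact (Nat.card_coe_set_eq _).symm
  have h3 : ({1, z} : Set G).ncard = 2 := Set.ncard_pair (t_ne_one z hz).symm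
  omega

/-- piece `v4` -/
theorem case_normal_v4 (hN : (centralizer ({z} : Set G) ⊓ H : Subgroup G).Normal)
    (h2 : ∀ v ∈ (centralizer ({z} : Set G) ⊓ H : Subgroup G), v ^ 2 = 1) :
    centralizer ({z} : Set G) = ⊤ ∨ (Nat.card G = 24 ∧
      centralizer ((centralizer ({z} : Set G) ⊓ H : Subgroup G) : Set G) ≤
        centralizer ({z} : Set G) ⊓ H) := by
  have : Fact (Nat.Prime 2) := ⟨Nat.prime_two⟩
  have hzH := mem_of_index_two z hz e H hH
  have hzV : z ∈ (centralizer ({z} : Set G) ⊓ H : Subgroup G) := ⟨t_mem z, hzH⟩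
  -- the index
  let φ : G ⧸ centralizer ({z} : Set G) → (centralizer ({z} : Set G) ⊓ H : Subgroup G) := fun q =>
    Quotient.liftOn' q (fun g => ⟨g * z * g⁻¹, hN.conj_mem z hzV g⟩) (by
      intro a b hab
      rw [QuotientGroup.leftRel_apply, mem_centralizer_singleton_iff] at hab
      apply Subtype.ext
      change a * z * a⁻¹ = b * z * b⁻¹
      calc a * z * a⁻¹ = a * (z * (a⁻¹ * b)) * b⁻¹ := by group
        _ = a * (a⁻¹ * b * z) * b⁻¹ := by rw [hab]
        _ = b * z * b⁻¹ := by group)
  have hφ : Function.Injective φ := by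
    intro p q
    refine Quotient.inductionOn₂' p q ?_
    intro a b hab
    have h1 : a * z * a⁻¹ = b * z * b⁻¹ := congrArg Subtype.val hab
    apply QuotientGroup.eq.2
    rw [mem_centralizer_singleton_iff]
    calc a⁻¹ * b * z = a⁻¹ * (b * z * b⁻¹) * b := by group
      _ = a⁻¹ * (a * z * a⁻¹) * b := by rw [h1]
      _ = z * (a⁻¹ * b) := by group
  have hidx : (centralizer ({z} : Set G)).index ≤ 4 := by
    have := Nat.card_le_card_of_injective φ hφ
    rwa [card_inf z hz e H hH] at this
  obtain ⟨P, hP⟩ := sylow_of_cent' z hz e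
  have hodd : ¬ 2 ∣ (centralizer ({z} : Set G)).index := hP ▸ P.not_dvd_index
  have hpos : (centralizer ({z} : Set G)).index ≠ 0 := Subgroup.index_ne_zero_of_finite
  have hcases : (centralizer ({z} : Set G)).index = 1 ∨ (centralizer ({z} : Set G)).index = 3 := by
    omega
  rcases hcases with h | h
  · exact Or.inl (Subgroup.index_eq_one.1 h)
  · right
    constructor
    · rw [← (centralizer ({z} : Set G)).card_mul_index, h, card_C z hz e H hH]
    · intro c hc
      rw [mem_centralizer_iff] at hc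
      obtain ⟨s, hsV, hs1, hsz⟩ := exists_third z hz e H hH
      have hcC : c ∈ centralizer ({z} : Set G) := mem_centralizer_singleton_iff.2 (hc z hzV).symm
      have hdec : ∀ x y : DihedralGroup 4, x ^ 2 = 1 → x ≠ 1 → x ≠ r 2 → y * x = x * y →
          y = 1 ∨ y = r 2 ∨ y = x ∨ y = r 2 * x := by decide
      have hes2 : (e ⟨s, hsV.1⟩) ^ 2 = 1 := by
        rw [← map_pow]
        have : (⟨s, hsV.1⟩ : centralizer ({z} : Set G)) ^ 2 = 1 := Subtype.ext (h2 s hsV)
        rw [this, map_one]
      have hes1 : e ⟨s, hsV.1⟩ ≠ 1 := by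
        intro h
        exact hs1 (congrArg Subtype.val ((MulEquiv.map_eq_one_iff e).1 h))
      have hesz : e ⟨s, hsV.1⟩ ≠ r 2 := by
        intro h
        exact hsz (congrArg Subtype.val (e.injective (h.trans (e_t z hz e).symm)))
      have hcs : e ⟨c, hcC⟩ * e ⟨s, hsV.1⟩ = e ⟨s, hsV.1⟩ * e ⟨c, hcC⟩ := by
        rw [← map_mul, ← map_mul]
        congr 1
        exact Subtype.ext (hc s hsV).symm
      rcases hdec _ _ hes2 hes1 hesz hcs with h | h | h | h
      · have := congrArg Subtype.val ((MulEquiv.map_eq_one_iff e).1 h)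
        have h' : c = 1 := this
        rw [h']; exact Subgroup.one_mem _
      · have := congrArg Subtype.val (e.injective (h.trans (e_t z hz e).symm))
        have h' : c = z := this
        rw [h']; exact hzV
      · have := congrArg Subtype.val (e.injective h)
        have h' : c = s := this
        rw [h']; exact hsV
      · rw [← e_t z hz e, ← map_mul] at h
        have := congrArg Subtype.val (e.injective h)
        have h' : c = z * s := this
        rw [h']; exact Subgroup.mul_mem _ hzV hsV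

end

end Cfsg.Agent.Lib.Helper40P8b
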