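import Mathlib
import Cfsg.Agent.S0206

set_option autoImplicit false

namespace Cfsg.Agent.Lib.Helper51Abs

/-- Pushing a surjection along a homomorphism with smaller kernel. -/
theorem exists_hom {X Y A : Type*} [Group X] [Group Y] [Group A] (c : X →* Y) (ψ : X →* A)
    (hψ : Function.Surjective ψ) (hker : c.ker ≤ ψ.ker) :
    ∃ φ : ↥c.range →* A, Function.Surjective φ ∧ φ.ker = (ψ.ker.map c).subgroupOf c.range := by
  let φ : ↥c.range →* A := (QuotientGroup.lift c.ker ψ hker).comp
    (QuotientGroup.quotientKerEquivRange c).symm.toMonoidHom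
  have hφ : ∀ x, φ (c.rangeRestrict x) = ψ x := by
    intro x
    have : (QuotientGroup.quotientKerEquivRange c).symm (c.rangeRestrict x) = QuotientGroup.mk x := by
      rw [MulEquiv.symm_apply_eq]
      rfl
    show (QuotientGroup.lift c.ker ψ hker) ((QuotientGroup.quotientKerEquivRange c).symm
      (c.rangeRestrict x)) = ψ x
    rw [this]
    rfl
  refine ⟨φ, ?_, ?_⟩
  · intro a
    obtain ⟨x, rfl⟩ := hψ a
    exact ⟨_, hφ x⟩
  · ext ⟨y, x, rfl⟩
    rw [MonoidHom.mem_ker, Subgroup.mem_subgroupOf]
    have e : (⟨c x, x, rfl⟩ : ↥c.range) = c.rangeRestrict x := rfl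
    rw [e, hφ]
    constructor
    · intro h
      exact ⟨x, h, rfl⟩
    · rintro ⟨x', hx', hxx⟩
      have hxx' : c x' = c x := hxx
      have : x'⁻¹ * x ∈ c.ker := by
        rw [MonoidHom.mem_ker, map_mul, map_inv, hxx', inv_mul_cancel]
      have h2 := hker this
      rw [MonoidHom.mem_ker, map_mul, map_inv, MonoidHom.mem_ker.1 hx', inv_one, one_mul] at h2
      exact h2

/-- Recognition of the dihedral group of order eight. -/
theorem dihedral_four {K : Type*} [Group K] (hK : Nat.card K = 8) (a b : K) (ha : a * a = 1)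
    (hb : b * b = 1) (hab : a * b ≠ b * a) : Nonempty (K ≃* DihedralGroup 4) := by
  have : Finite K := Nat.finite_of_card_ne_zero (by rw [hK]; norm_num)
  have ha1 : a ≠ 1 := by rintro rfl; simp at hab
  have hb1 : b ≠ 1 := by rintro rfl; simp at hab
  have hne : a ≠ b := by rintro rfl; exact hab rfl
  have oa : orderOf a = 2 := orderOf_eq_prime (by rw [pow_two, ha]) ha1
  have ob : orderOf b = 2 := orderOf_eq_prime (by rw [pow_two, hb]) hb1
  obtain ⟨φ⟩ := Cfsg.Agent.S0206.result a b oa ob hne
  have hcard : Nat.card ↥(Subgroup.closure ({a, b} : Set K)) = 2 * orderOf (a * b) := by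
    rw [Nat.card_congr φ.toEquiv, DihedralGroup.nat_card]
  have hdvd : 2 * orderOf (a * b) ∣ 8 := by
    rw [← hcard, ← hK]
    exact Subgroup.card_subgroup_dvd_card _
  have hdvd4 : orderOf (a * b) ∣ 4 := by
    have : 2 * orderOf (a * b) ∣ 2 * 4 := by simpa using hdvd
    exact Nat.dvd_of_mul_dvd_mul_left (by norm_num) this
  have hle : orderOf (a * b) ≤ 4 := Nat.le_of_dvd (by norm_num) hdvd4
  have h1 : orderOf (a * b) ≠ 1 := by
    intro h
    rw [orderOf_eq_one_iff] at h
    apply hne
    calc a = a * (b * b) := by rw [hb, mul_one]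
      _ = (a * b) * b := by rw [mul_assoc]
      _ = b := by rw [h, one_mul]
  have h2 : orderOf (a * b) ≠ 2 := by
    intro h
    have h3 : (a * b) * (a * b) = 1 := by
      have := pow_orderOf_eq_one (a * b)
      rwa [h, pow_two] at this
    apply hab
    calc a * b = a * b * ((a * b) * (b * a)) := by
          have : (a * b) * (b * a) = 1 := by
            rw [mul_assoc, ← mul_assoc b b a, hb, one_mul, ha]
          rw [this, mul_one]
      _ = ((a * b) * (a * b)) * (b * a) := by simp only [mul_assoc]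
      _ = b * a := by rw [h3, one_mul]
  have h0 : orderOf (a * b) ≠ 0 := (orderOf_pos _).ne'
  have h3 : orderOf (a * b) ≠ 3 := by
    intro h
    rw [h] at hdvd4
    norm_num at hdvd4
  have h4 : orderOf (a * b) = 4 := by omega
  rw [h4] at φ hcard
  have htop : Subgroup.closure ({a, b} : Set K) = ⊤ := by
    apply Subgroup.eq_top_of_card_eq
    rw [hcard, hK]
  exact ⟨(Subgroup.topEquiv.symm.trans (MulEquiv.subgroupCongr htop.symm)).trans φ⟩

/-- The Klein four group `ℤˣ × ℤˣ`. -/
theorem klein_equiv : Nonempty (ℤˣ × ℤˣ ≃* Multiplicative (ZMod 2 × ZMod 2)) := by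
  have : IsKleinFour (ℤˣ × ℤˣ) :=
    { card_four := by rw [Nat.card_eq_fintype_card]; rfl
      exponent_two := by
        apply Nat.dvd_antisymm
        · apply Monoid.exponent_dvd_of_forall_pow_eq_one
          decide
        · have h := Monoid.order_dvd_exponent ((-1, 1) : ℤˣ × ℤˣ)
          have h2 : orderOf ((-1, 1) : ℤˣ × ℤˣ) = 2 := orderOf_eq_prime (by decide) (by decide)
          rwa [h2] at h }
  exact IsKleinFour.nonempty_mulEquiv

end Cfsg.Agent.Lib.Helper51Abs
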