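import Mathlib
import Cfsg.Prelude.Def_CaseTheorems
import Cfsg.Agent.Lib.Helper51Abs
import Cfsg.Agent.Lib.Helper40P8b
import Cfsg.Agent.Lib.Helper14PConstr
import Cfsg.Agent.Lib.Helper29P29d

set_option autoImplicit false
set_option linter.unusedSectionVars false

/-! PROJECT 29, pieces `d8`, `nocompl`, `cls8`. -/

namespace Cfsg.Agent.Lib.Helper29P29e

open MulAction Subgroup Cfsg.Agent.Lib.Helper29S6 Cfsg.Agent.Lib.Helper29P29a
  Cfsg.Agent.Lib.Helper29P29b Cfsg.Agent.Lib.Helper29P29c Cfsg.Agent.Lib.Helper29P29d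

set_option maxRecDepth 100000 in
theorem v_invs : ∀ v : Equiv.Perm (Fin 4), v.cycleType = {2, 2} →
    ∃ a b : Equiv.Perm (Fin 4), a * v = v * a ∧ b * v = v * b ∧ a * a = 1 ∧ b * b = 1 ∧
      a * b ≠ b * a := by decide +kernel

section
variable {G : Type*} [Group G] [Finite G] (t : G) (ht : orderOf t = 2) (T : Sylow 2 G)
  (htT : t ∈ (T : Subgroup G)) (htc : ∀ s ∈ (T : Subgroup G), s * t = t * s)
  (e : centralizer ({t} : Set G) ≃* A)

set_option quotPrecheck false in
local notation "C" => centralizer (Singleton.singleton t : Set G)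

include ht htT htc in
/-- piece `d8` -/
theorem cent_d8 (z : G) (hz : IsZ t T e z) (M : Subgroup G) (hM : M.index = 2)
    (hL : Lsub t e ≤ M) (htM : t ∉ M) (hzM : z ∈ M) :
    Nonempty (centralizer ({(⟨z, hzM⟩ : M)} : Set M) ≃* DihedralGroup 4) := by
  have hmap := Cfsg.Agent.Lib.Helper40P8b.map_cent M ⟨z, hzM⟩
  have hMn : M.Normal := Subgroup.normal_of_index_eq_two hM
  have hcard : Nat.card (centralizer ({(⟨z, hzM⟩ : M)} : Set M)) = 8 := by
    rw [← Subgroup.card_map_of_injective M.subtype_injective, hmap, hz.cent]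
    have h1 : M.relIndex (T : Subgroup G) = 2 := by
      have h2 : M.relIndex (T : Subgroup G) ∣ 2 := by
        have := Subgroup.relIndex_dvd_index_of_normal M (T : Subgroup G)
        rwa [hM] at this
      rcases (Nat.dvd_prime Nat.prime_two).mp h2 with h | h
      · exact absurd (Subgroup.relIndex_eq_one.mp h htT) htM
      · exact h
    have h3 := Subgroup.relIndex_mul_relIndex (H := ⊥) (K := (T : Subgroup G) ⊓ M)
      (L := (T : Subgroup G)) bot_le inf_le_left
    rw [Subgroup.relIndex_bot_left, Subgroup.relIndex_bot_left, Subgroup.inf_relIndex_left, h1,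
      card_T t T htc e] at h3
    omega
  obtain ⟨a, b, ha, hb, haa, hbb, hab⟩ := v_invs _ (hz.snd hz.mem)
  have hmem : ∀ σ : Equiv.Perm (Fin 4), σ * (e ⟨z, hz.mem⟩).2 = (e ⟨z, hz.mem⟩).2 * σ →
      (⟨((e.symm (1, σ) : C) : G), hL (symm_mem_Lsub t e σ)⟩ : M) ∈
        centralizer ({(⟨z, hzM⟩ : M)} : Set M) := by
    intro σ hσ
    rw [mem_centralizer_singleton_iff]
    apply Subtype.ext
    have h1 : ((e.symm (1, σ) : C) : G) ∈ (T : Subgroup G) := by
      rw [mem_T_iff t T htc e z hz]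
      simpa using hσ
    rw [← hz.cent] at h1
    exact mem_centralizer_singleton_iff.mp h1
  have hmul : ∀ σ τ : Equiv.Perm (Fin 4), ((e.symm (1, σ) : C) : G) * ((e.symm (1, τ) : C) : G) =
      ((e.symm (1, σ * τ) : C) : G) := by
    intro σ τ
    have : (e.symm (1, σ) : C) * e.symm (1, τ) = e.symm (1, σ * τ) := by
      rw [← map_mul]; simp
    exact congrArg Subtype.val this
  have hinj : ∀ σ τ : Equiv.Perm (Fin 4), ((e.symm (1, σ) : C) : G) = ((e.symm (1, τ) : C) : G) →
      σ = τ := by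
    intro σ τ h
    have := e.symm.injective (Subtype.ext h)
    exact congrArg Prod.snd this
  apply Cfsg.Agent.Lib.Helper51Abs.dihedral_four hcard ⟨_, hmem a ha⟩ ⟨_, hmem b hb⟩
  · apply Subtype.ext; apply Subtype.ext
    show ((e.symm (1, a) : C) : G) * ((e.symm (1, a) : C) : G) = 1
    rw [hmul, haa]
    simp
  · apply Subtype.ext; apply Subtype.ext
    show ((e.symm (1, b) : C) : G) * ((e.symm (1, b) : C) : G) = 1
    rw [hmul, hbb]
    simp
  · intro h
    have h1 := congrArg (fun x : centralizer ({(⟨z, hzM⟩ : M)} : Set M) => ((x : M) : G)) h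
    have h2 : ((e.symm (1, a) : C) : G) * ((e.symm (1, b) : C) : G) =
      ((e.symm (1, b) : C) : G) * ((e.symm (1, a) : C) : G) := h1
    rw [hmul, hmul] at h2
    exact hab (hinj _ _ h2)

/-- piece `nocompl` -/
theorem no_compl (M : Subgroup G) (hL : Lsub t e ≤ M) (D : Subgroup M) (hD : Nat.card D = 8)
    (h : D ⊔ Cfsg.oddCore M = ⊤) : False := by
  have hOc : (Nat.card (Cfsg.oddCore M)).Coprime 2 :=
    Cfsg.Agent.Lib.Helper14CoreB.card_pPrimeCore_coprime 2
  have hOn : (Cfsg.oddCore M).Normal := inferInstance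
  have h8 : ∀ m : M, m ^ 8 ∈ Cfsg.oddCore M := by
    intro m
    have hm : m ∈ D ⊔ Cfsg.oddCore M := by rw [h]; exact mem_top m
    rw [← SetLike.mem_coe, Subgroup.mul_normal] at hm
    obtain ⟨d, hd, o, ho, rfl⟩ := Set.mem_mul.mp hm
    rw [← QuotientGroup.eq_one_iff, QuotientGroup.mk_pow, QuotientGroup.mk_mul,
      (QuotientGroup.eq_one_iff o).mpr ho, mul_one, ← QuotientGroup.mk_pow]
    have : d ^ 8 = 1 := by
      have h1 : (⟨d, hd⟩ : D) ^ Nat.card D = 1 := pow_card_eq_one'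
      rw [hD] at h1
      exact congrArg Subtype.val h1
    rw [this]
    rfl
  let f : Equiv.Perm (Fin 4) →* M :=
    (((Subgroup.subtype C).comp e.symm.toMonoidHom).comp
      (MonoidHom.inr (Multiplicative (ZMod 2)) (Equiv.Perm (Fin 4)))).codRestrict M
      (fun σ => hL (symm_mem_Lsub t e σ))
  have hfinj : Function.Injective f := by
    intro σ τ hst
    have h1 : ((e.symm (1, σ) : C) : G) = ((e.symm (1, τ) : C) : G) :=
      congrArg (Subtype.val : M → G) hst
    have := e.symm.injective (Subtype.ext h1)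
    exact congrArg Prod.snd this
  have h3 : ∀ σ : Equiv.Perm (Fin 4), σ ^ 3 = 1 → f σ ∈ Cfsg.oddCore M := by
    intro σ hσ
    have h1 := h8 (f σ)
    have h2 : f σ = ((f σ) ^ 8)⁻¹ := by
      rw [eq_inv_iff_mul_eq_one, ← pow_succ', ← map_pow]
      have : σ ^ (8 + 1) = 1 := by
        rw [show 8 + 1 = 3 * 3 by norm_num, pow_mul, hσ, one_pow]
      rw [this, map_one]
    rw [h2]
    exact inv_mem h1
  obtain ⟨c1, c2, h1, h2, h4, h5⟩ : ∃ c1 c2 : Equiv.Perm (Fin 4), c1 ^ 3 = 1 ∧ c2 ^ 3 = 1 ∧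
      (c1 * c2) ^ 2 = 1 ∧ c1 * c2 ≠ 1 := by decide +kernel
  have h6 : f (c1 * c2) ∈ Cfsg.oddCore M := by
    rw [map_mul]; exact mul_mem (h3 c1 h1) (h3 c2 h2)
  have h7 : orderOf (f (c1 * c2)) ∣ 2 := by
    apply orderOf_dvd_of_pow_eq_one
    rw [← map_pow, h4, map_one]
  have h8' : orderOf (f (c1 * c2)) ∣ Nat.card (Cfsg.oddCore M) := by
    have := orderOf_dvd_natCard (⟨_, h6⟩ : Cfsg.oddCore M)
    rwa [Subgroup.orderOf_mk] at this
  have h9 := orderOf_eq_one_iff.mp (Nat.eq_one_of_dvd_coprimes hOc h8' h7)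
  apply h5
  apply hfinj
  rw [h9, map_one]

/-- the seven obvious conjugates of `t` in `C` -/
def F7 : Finset A :=
  Finset.univ.filter (fun x : A => x.1 = a1 ∧ (x.2 = 1 ∨ ∃ i j : Fin 4, i ≠ j ∧ x.2 = Equiv.swap i j))

set_option maxRecDepth 100000 in
theorem card_F7 : F7.card = 7 := by decide +kernel

include ht in
/-- piece `cls8` -/
theorem card_ge (y : centralizer ({t} : Set G)) (g : G) (hyg : (y : G) = g * t * g⁻¹)
    (hy1 : (e y).1 = a1) (hy2 : (e y).2.IsSwap) : 384 ≤ Nat.card G := by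
  classical
  let X : Set G := Set.range (fun g : G => g * t * g⁻¹)
  have hXidx : Nat.card X ≤ (centralizer ({t} : Set G)).index := by
    let ψ : G ⧸ (centralizer ({t} : Set G)) → X :=
      Quotient.lift (fun g : G => (⟨g * t * g⁻¹, g, rfl⟩ : X)) (by
        intro a b hab
        have h1 : a⁻¹ * b ∈ centralizer ({t} : Set G) := QuotientGroup.leftRel_apply.mp hab
        have h2 := mem_centralizer_singleton_iff.mp h1
        apply Subtype.ext
        show a * t * a⁻¹ = b * t * b⁻¹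
        calc a * t * a⁻¹ = a * (t * (a⁻¹ * b)) * b⁻¹ := by group
          _ = a * ((a⁻¹ * b) * t) * b⁻¹ := by rw [h2]
          _ = b * t * b⁻¹ := by group)
    have hψ : Function.Surjective ψ := by
      rintro ⟨_, a, rfl⟩
      exact ⟨QuotientGroup.mk a, rfl⟩
    exact Nat.card_le_card_of_surjective ψ hψ
  let ι : A → G := fun x => ((e.symm x : C) : G)
  have hι : Function.Injective ι := fun a b hab => e.symm.injective (Subtype.ext hab)
  have hsw : ∀ i j : Fin 4, i ≠ j → ι (a1, Equiv.swap i j) ∈ X := by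
    intro i j hij
    obtain ⟨a', b', hab', hs⟩ := hy2
    obtain ⟨c, hc⟩ := isConj_iff.mp (Equiv.Perm.isConj_swap hab' hij)
    have h0 := conj_symm t e y c
    rw [hy1, hs, hc, hyg] at h0
    refine ⟨((e.symm (1, c) : C) : G) * g, ?_⟩
    show _ = ((e.symm (a1, Equiv.swap i j) : C) : G)
    rw [← h0]
    group
  have hFX : ι '' (F7 : Set A) ⊆ X := by
    rintro _ ⟨x, hx, rfl⟩
    have hx' := (Finset.mem_filter.mp (Finset.mem_coe.mp hx)).2
    obtain ⟨h1, h2 | ⟨i, j, hij, h2⟩⟩ := hx'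
    · refine ⟨1, ?_⟩
      have : x = (a1, 1) := Prod.ext h1 h2
      show 1 * t * 1⁻¹ = ((e.symm x : C) : G)
      rw [this, ← e_t t ht e]
      simp
    · have : x = (a1, Equiv.swap i j) := Prod.ext h1 h2
      rw [this]
      exact hsw i j hij
  obtain ⟨x0, hx0X, hx0C⟩ : ∃ x0 ∈ X, x0 ∉ C := by
    by_contra hcon
    push Not at hcon
    have hcomm : ∀ x ∈ X, ∀ x' ∈ X, x * x' = x' * x := by
      rintro _ ⟨a, rfl⟩ _ ⟨b, rfl⟩
      have h1 : (a⁻¹ * b) * t * (a⁻¹ * b)⁻¹ ∈ C := hcon _ ⟨a⁻¹ * b, rfl⟩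
      have h2 := mem_centralizer_singleton_iff.mp h1
      show a * t * a⁻¹ * (b * t * b⁻¹) = b * t * b⁻¹ * (a * t * a⁻¹)
      calc a * t * a⁻¹ * (b * t * b⁻¹) = a * (t * ((a⁻¹ * b) * t * (a⁻¹ * b)⁻¹)) * a⁻¹ := by group
        _ = a * (((a⁻¹ * b) * t * (a⁻¹ * b)⁻¹) * t) * a⁻¹ := by rw [h2]
        _ = _ := by group
    have h3 := hcomm _ (hsw 0 1 (by decide)) _ (hsw 1 2 (by decide))
    have h4 : (e.symm (a1, Equiv.swap 0 1) : C) * e.symm (a1, Equiv.swap 1 2) =
        e.symm (a1, Equiv.swap 1 2) * e.symm (a1, Equiv.swap 0 1) := Subtype.ext h3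
    rw [← map_mul, ← map_mul] at h4
    have h5 := e.symm.injective h4
    revert h5
    decide
  have h8 : 8 ≤ Nat.card X := by
    have h1 : insert x0 (ι '' (F7 : Set A)) ⊆ X := Set.insert_subset hx0X hFX
    have h2 : x0 ∉ ι '' (F7 : Set A) := by
      rintro ⟨x, -, rfl⟩
      exact hx0C (e.symm x).2
    have h3 : (insert x0 (ι '' (F7 : Set A))).ncard = 8 := by
      rw [Set.ncard_insert_of_notMem h2 (Set.toFinite _), Set.ncard_image_of_injective _ hι,
        Set.ncard_coe_finset, card_F7]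
    have h4 := Set.ncard_le_ncard h1 (Set.toFinite _)
    rw [h3] at h4
    exact h4
  have h48 : Nat.card C = 48 := by rw [Nat.card_congr e.toEquiv, card_A]
  have := (centralizer ({t} : Set G)).card_mul_index
  rw [h48] at this
  nlinarith

end

end Cfsg.Agent.Lib.Helper29P29e
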