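import Mathlib
import Cfsg.Agent.Lib.Helper20SNDefs
import Cfsg.Agent.Lib.Helper53SNFree

set_option autoImplicit false

namespace Cfsg.Agent.Lib.Helper29SNKk

open Cfsg.Agent.Lib.Helper20SNDefs

/-- piece `kk2` : `KK` at an element whose normalizer-conjugates are `x, x⁻¹` -/
theorem kk_of_inv {G : Type*} [Group G] (x : G)
    (h : ∀ w : G, (w * x * w⁻¹) * x = x * (w * x * w⁻¹) → w * x * w⁻¹ = x ∨ w * x * w⁻¹ = x⁻¹)
    (U : Subgroup G) (h1 : Subgroup.centralizer ({x} : Set G) ≤ U)
    (h2 : U ≤ Subgroup.normalizer (Subgroup.centralizer ({x} : Set G) : Set G)) :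
    U = Subgroup.centralizer ({x} : Set G) ∨
      U = Subgroup.normalizer (Subgroup.centralizer ({x} : Set G) : Set G) := by
  by_cases hUC : U ≤ Subgroup.centralizer ({x} : Set G)
  · exact Or.inl (le_antisymm hUC h1)
  right
  obtain ⟨w1, hw1U, hw1C⟩ := SetLike.not_le_iff_exists.1 hUC
  have hxC : x ∈ Subgroup.centralizer ({x} : Set G) := Subgroup.mem_centralizer_singleton_iff.2 rfl
  have key : ∀ w ∈ Subgroup.normalizer (Subgroup.centralizer ({x} : Set G) : Set G),
      w * x * w⁻¹ = x ∨ w * x * w⁻¹ = x⁻¹ := by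
    intro w hw
    apply h
    have := ((Subgroup.mem_normalizer_iff).1 hw x).1 hxC
    exact Subgroup.mem_centralizer_singleton_iff.1 this
  have hw1 : w1 * x * w1⁻¹ = x⁻¹ := by
    rcases key w1 (h2 hw1U) with h3 | h3
    · exfalso
      apply hw1C
      rw [Subgroup.mem_centralizer_singleton_iff]
      exact mul_inv_eq_iff_eq_mul.1 h3
    · exact h3
  apply le_antisymm h2
  intro w hw
  rcases key w hw with h3 | h3
  · apply h1
    rw [Subgroup.mem_centralizer_singleton_iff]
    exact mul_inv_eq_iff_eq_mul.1 h3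
  · have h4 : w1⁻¹ * w ∈ U := by
      apply h1
      rw [Subgroup.mem_centralizer_singleton_iff]
      have h5 : w * x = x⁻¹ * w := mul_inv_eq_iff_eq_mul.1 h3
      have h6 : w1 * x = x⁻¹ * w1 := mul_inv_eq_iff_eq_mul.1 hw1
      have h7 : w1⁻¹ * x⁻¹ = x * w1⁻¹ := by
        rw [inv_mul_eq_iff_eq_mul, ← mul_assoc, h6, mul_inv_cancel_right]
      rw [mul_assoc, h5, ← mul_assoc, h7, mul_assoc]
    have := U.mul_mem hw1U h4
    simpa using this

/-- piece `kk1` : `KK` at an element whose centralizer has order `q`, `q - 1` prime -/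
theorem kk_of_card {G : Type*} [Group G] [Finite G] (hCA : CA G) (x : G) (hx : x ≠ 1)
    (h : (Nat.card (Subgroup.centralizer ({x} : Set G)) - 1).Prime)
    (U : Subgroup G) (h1 : Subgroup.centralizer ({x} : Set G) ≤ U)
    (h2 : U ≤ Subgroup.normalizer (Subgroup.centralizer ({x} : Set G) : Set G)) :
    U = Subgroup.centralizer ({x} : Set G) ∨
      U = Subgroup.normalizer (Subgroup.centralizer ({x} : Set G) : Set G) := by
  set C := Subgroup.centralizer ({x} : Set G) with hC
  set N := Subgroup.normalizer (C : Set G) with hN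
  have hab : Ab C := hCA.ab_centralizer hx
  have hn : ∀ g ∈ N, ∀ u ∈ C, g * u * g⁻¹ ∈ C := fun g hg u hu =>
    ((Subgroup.mem_normalizer_iff).1 hg u).1 hu
  have hfree : ∀ g ∈ N, g ∉ C → ∀ u ∈ C, g * u = u * g → u = 1 := by
    intro g _ hgC u hu hgu
    by_contra hu1
    apply hgC
    rw [hC, Subgroup.mem_centralizer_singleton_iff]
    have hxu : x * u = u * x := (Subgroup.mem_centralizer_singleton_iff.1 hu).symm
    exact hCA.trans hu1 hgu hxu
  obtain ⟨e, he, hed⟩ := Cfsg.Agent.Lib.Helper53SNFree.free_dvd C N (le_trans h1 h2) hab hn hfree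
  obtain ⟨e', he', hed'⟩ := Cfsg.Agent.Lib.Helper53SNFree.free_dvd C U h1 hab
    (fun g hg => hn g (h2 hg)) (fun g hg => hfree g (h2 hg))
  have hCpos : 0 < Nat.card C := Nat.card_pos
  rcases (Nat.dvd_prime h).1 hed' with h3 | h3
  · left
    symm
    apply Subgroup.eq_of_le_of_card_ge h1
    rw [he', h3, one_mul]
  · right
    apply Subgroup.eq_of_le_of_card_ge h2
    have hdvd : Nat.card U ∣ Nat.card N := Subgroup.card_dvd_of_le h2
    rw [he, he'] at hdvd
    have hdvd' : e' ∣ e := Nat.dvd_of_mul_dvd_mul_right hCpos hdvd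
    rcases (Nat.dvd_prime h).1 hed with h4 | h4
    · exfalso
      rw [h4, h3, Nat.dvd_one] at hdvd'
      exact h.one_lt.ne' hdvd'
    · rw [he, he', h3, h4]

end Cfsg.Agent.Lib.Helper29SNKk
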