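import Mathlib.GroupTheory.Sylow
import Mathlib.GroupTheory.Transfer

set_option autoImplicit false

namespace Cfsg.Agent.Lib.Helper2Automizer

open Subgroup

theorem exists_fixed_subgroup {P : Type*} [Group P] [Finite P] (φ : MulAut P) (q : ℕ)
    [Fact q.Prime] (hφ : orderOf φ = q) :
    ∃ F : Subgroup P, F ≠ ⊤ ∧ Nat.card P ≡ Nat.card F [MOD q] := by
  have hpg : IsPGroup q (Subgroup.zpowers φ) :=
    IsPGroup.of_card (n := 1) (by rw [Nat.card_zpowers, hφ, pow_one])
  refine ⟨FixedPoints.subgroup (Subgroup.zpowers φ) P, ?_, hpg.card_modEq_card_fixedPoints P⟩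
  intro htop
  have : φ = 1 := by
    ext x
    have hx : x ∈ FixedPoints.subgroup (Subgroup.zpowers φ) P := htop ▸ Subgroup.mem_top x
    exact hx ⟨φ, Subgroup.mem_zpowers φ⟩
  rw [this, orderOf_one] at hφ
  exact (Fact.out : q.Prime).one_lt.ne hφ

/-- If no prime `q ≠ p` dividing `|G|` can act nontrivially on the abelian Sylow subgroup `P`
for counting reasons, then `N(P) ≤ C(P)`. -/
theorem normalizer_le_centralizer_of_modEq {G : Type*} [Group G] [Finite G] {p : ℕ} [Fact p.Prime]
    (P : Sylow p G) [IsMulCommutative P]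
    (H : ∀ q : ℕ, q.Prime → q ∣ Nat.card G → q ≠ p → ∀ d, d ∣ Nat.card P → d ≠ Nat.card P →
      ¬ Nat.card P ≡ d [MOD q]) :
    normalizer (P : Set G) ≤ centralizer (P : Set G) := by
  have hp : p.Prime := Fact.out
  refine relIndex_eq_one.mp ?_
  by_contra hne
  set m := (centralizer (P : Set G)).relIndex (normalizer (P : Set G)) with hm
  have hq : m.minFac.Prime := Nat.minFac_prime hne
  have hqm : m.minFac ∣ m := Nat.minFac_dvd m
  have := Fact.mk hq
  have hcard : Nat.card (normalizer (P : Set G) ⧸ (P : Subgroup G).normalizerMonoidHom.ker) = m := by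
    rw [normalizerMonoidHom_ker]; rfl
  obtain ⟨x, hx⟩ := exists_prime_orderOf_dvd_card' (G := normalizer (P : Set G) ⧸ (P : Subgroup G).normalizerMonoidHom.ker) m.minFac (hcard ▸ hqm)
  have hφ : orderOf (QuotientGroup.kerLift (P : Subgroup G).normalizerMonoidHom x) = m.minFac := by
    rw [orderOf_injective _ (QuotientGroup.kerLift_injective _), hx]
  obtain ⟨F, hF, hmod⟩ := exists_fixed_subgroup _ m.minFac hφ
  have hmG : m ∣ Nat.card G := (relIndex_dvd_card ..).trans (card_subgroup_dvd_card _)
  have hmp : Nat.Coprime m p := by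
    apply Nat.Coprime.coprime_dvd_left (relIndex_dvd_of_le_left _ P.le_centralizer)
    apply Nat.Coprime.coprime_dvd_left (relIndex_dvd_index_of_le P.le_normalizer)
    rw [Nat.coprime_comm, Nat.Prime.coprime_iff_not_dvd hp]
    exact P.not_dvd_index
  refine H m.minFac hq (hqm.trans hmG) ?_ (Nat.card F) (card_subgroup_dvd_card F) ?_ hmod
  · intro h
    have : p ∣ m := h ▸ hqm
    exact (Nat.Prime.coprime_iff_not_dvd hp).1 hmp.symm this
  · intro h
    exact hF (eq_top_of_card_eq F h)

end Cfsg.Agent.Lib.Helper2Automizer
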