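import Cfsg.Agent.Lib.Helper61Feit7
import Cfsg.Agent.Lib.Helper32Feit2
import Cfsg.Agent.S0850
import Cfsg.Agent.S0852
import Cfsg.Agent.S0853
import Mathlib

set_option autoImplicit false

/-! A T.I. subgroup `K` with Frobenius normaliser: class counting. -/

namespace Cfsg.Agent.Lib.Helper61Feit8

open Cfsg Cfsg.Agent.Lib.Helper4Char Cfsg.Agent.Lib.Helper4Char2 Cfsg.Agent.Lib.Helper4Char4
  Cfsg.Agent.Lib.Helper61Feit7
open scoped ComplexConjugate Classical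

variable {G : Type*} [Group G] [Fintype G] (K : Subgroup G)
  [Fintype ↥(Subgroup.normalizer (K : Set G))]

/-- `K` inside its normaliser -/
abbrev KN : Subgroup ↥(Subgroup.normalizer (K : Set G)) :=
  K.subgroupOf (Subgroup.normalizer (K : Set G))

instance : (KN K).Normal := Cfsg.Agent.Lib.Helper32Feit.normal_in K

/-- the relevant characters -/
abbrev relS : Set (↥(Subgroup.normalizer (K : Set G)) → ℂ) :=
  {χ | IsIrrCharacter ↥(Subgroup.normalizer (K : Set G)) χ ∧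
    ∃ k : ↥(Subgroup.normalizer (K : Set G)), (k : G) ∈ K ∧ χ k ≠ χ 1}

omit [Fintype G] in
theorem mem_SF_iff (χ : IrrCharacter ↥(Subgroup.normalizer (K : Set G))) :
    χ ∈ SF (KN K) ↔ (χ : ↥(Subgroup.normalizer (K : Set G)) → ℂ) ∈ relS K := by
  rw [mem_SF]
  constructor
  · rintro ⟨k, hk, h⟩
    exact ⟨χ.2, k, Subgroup.mem_subgroupOf.1 hk, h⟩
  · rintro ⟨-, k, hk, h⟩
    exact ⟨k, Subgroup.mem_subgroupOf.2 hk, h⟩

variable (hTI : ∀ g : G, g ∉ Subgroup.normalizer (K : Set G) → ∀ k ∈ K, g * k * g⁻¹ ∈ K → k = 1)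
  (hC : ∀ k ∈ K, k ≠ 1 → Subgroup.centralizer ({k} : Set G) ≤ K)

omit [Fintype G] in
include hC in
theorem hv : ∀ χ ∈ SF (KN K), ∀ x : ↥(Subgroup.normalizer (K : Set G)), x ∉ KN K →
    (χ : ↥(Subgroup.normalizer (K : Set G)) → ℂ) x = 0 := by
  intro χ hχ x hx
  exact Cfsg.Agent.Lib.Helper19TIFN2.vanish_off K _ hC (relS K) rfl ((mem_SF_iff K χ).1 hχ) x
    (fun h => hx (Subgroup.mem_subgroupOf.2 h))

omit [Fintype ↥(Subgroup.normalizer (K : Set G))] in
include hTI in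
theorem card_classes_le :
    Nat.card {C : ConjClasses ↥(Subgroup.normalizer (K : Set G)) //
        ∃ x : ↥(Subgroup.normalizer (K : Set G)), ConjClasses.mk x = C ∧ x ∈ KN K ∧ x ≠ 1}
      ≤ Nat.card {C : ConjClasses G // ∃ u ∈ K, u ≠ 1 ∧ ConjClasses.mk u = C} := by
  apply Nat.card_le_card_of_injective
    (fun C => (⟨ConjClasses.map (Subgroup.normalizer (K : Set G)).subtype C.1, by
      obtain ⟨x, hx, hxK, hx1⟩ := C.2
      refine ⟨x, Subgroup.mem_subgroupOf.1 hxK, fun h => hx1 (Subtype.ext h), ?_⟩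
      rw [← hx]
      rfl⟩ : {C : ConjClasses G // ∃ u ∈ K, u ≠ 1 ∧ ConjClasses.mk u = C}))
  rintro ⟨C₁, x₁, hx₁, hxK₁, hx1₁⟩ ⟨C₂, x₂, hx₂, hxK₂, hx1₂⟩ h
  have h' := congrArg Subtype.val h
  simp only at h'
  apply Subtype.ext
  simp only
  rw [← hx₁, ← hx₂] at h' ⊢
  have h2 : ConjClasses.mk (x₁ : G) = ConjClasses.mk (x₂ : G) := h'
  rw [ConjClasses.mk_eq_mk_iff_isConj, isConj_iff] at h2 ⊢
  obtain ⟨g, hg⟩ := h2
  have hgN : g ∈ Subgroup.normalizer (K : Set G) := by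
    by_contra hcon
    apply hx1₁
    apply Subtype.ext
    apply hTI g hcon x₁ (Subgroup.mem_subgroupOf.1 hxK₁)
    rw [hg]
    exact Subgroup.mem_subgroupOf.1 hxK₂
  exact ⟨⟨g, hgN⟩, Subtype.ext hg⟩

omit [Fintype ↥(Subgroup.normalizer (K : Set G))] in
theorem card_conjClasses_ge :
    Nat.card {C : ConjClasses G // ∃ u ∈ K, u ≠ 1 ∧ ConjClasses.mk u = C}
      + Nat.card {C : ConjClasses G // ∀ g : G, ConjClasses.mk g = C → g ∉ K} + 1
      ≤ Nat.card (ConjClasses G) := by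
  rw [Nat.card_eq_fintype_card, Nat.card_eq_fintype_card, Nat.card_eq_fintype_card,
    Fintype.card_subtype, Fintype.card_subtype]
  have hd1 : Disjoint (Finset.univ.filter (fun C : ConjClasses G => ∃ u ∈ K, u ≠ 1 ∧ ConjClasses.mk u = C))
      (Finset.univ.filter (fun C : ConjClasses G => ∀ g : G, ConjClasses.mk g = C → g ∉ K)) := by
    rw [Finset.disjoint_filter]
    rintro C - ⟨u, hu, -, huC⟩ h
    exact h u huC hu
  have hd2 : Disjoint ((Finset.univ.filter (fun C : ConjClasses G => ∃ u ∈ K, u ≠ 1 ∧ ConjClasses.mk u = C))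
      ∪ (Finset.univ.filter (fun C : ConjClasses G => ∀ g : G, ConjClasses.mk g = C → g ∉ K)))
      {ConjClasses.mk (1 : G)} := by
    rw [Finset.disjoint_singleton_right, Finset.mem_union, Finset.mem_filter, Finset.mem_filter]
    rintro (⟨-, u, -, hu1, hu⟩ | ⟨-, h⟩)
    · rw [ConjClasses.mk_eq_mk_iff_isConj, isConj_iff] at hu
      obtain ⟨c, hc⟩ := hu
      apply hu1
      have : u = c⁻¹ * (c * u * c⁻¹) * c := by group
      rw [this, hc]; group
    · exact h 1 rfl K.one_mem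
  rw [← Finset.card_union_of_disjoint hd1, ← Finset.card_singleton (ConjClasses.mk (1 : G)),
    ← Finset.card_union_of_disjoint hd2]
  exact Finset.card_le_univ _

include hTI hC in
/-- lower bound for the number of irreducible characters -/
theorem card_irr_ge :
    (SF (KN K)).card + Nat.card {C : ConjClasses G // ∀ g : G, ConjClasses.mk g = C → g ∉ K} + 1
      ≤ Fintype.card (IrrCharacter G) := by
  rw [← Nat.card_eq_fintype_card, card_irr_eq_card_conjClasses, ← card_classes (KN K) (hv K hC)]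
  have h1 := card_classes_le K hTI
  have h2 := card_conjClasses_ge K
  omega

section Star

open Cfsg.Agent.Lib.Helper32Virt

variable (hlt : K < Subgroup.normalizer (K : Set G))
  (star : (↥(Subgroup.normalizer (K : Set G)) → ℂ) → (G → ℂ))
  (hstar : IsLinearIsometryOn (zspan (relS K)) star)
  (hext : ∀ α ∈ zspanOn (relS K) ({1}ᶜ : Set ↥(Subgroup.normalizer (K : Set G))),
    star α = indFun (Subgroup.normalizer (K : Set G)) α)
  (htwo : ∃ χ ∈ relS K, ∃ ξ ∈ relS K, χ ≠ ξ)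

omit [Fintype G] in
theorem mem_zspan {χ : IrrCharacter ↥(Subgroup.normalizer (K : Set G))} (hχ : χ ∈ SF (KN K)) :
    (χ : ↥(Subgroup.normalizer (K : Set G)) → ℂ) ∈ zspan (relS K) :=
  Submodule.subset_span ((mem_SF_iff K χ).1 hχ)

include hstar in
theorem star_inner {χ χ' : IrrCharacter ↥(Subgroup.normalizer (K : Set G))}
    (hχ : χ ∈ SF (KN K)) (hχ' : χ' ∈ SF (KN K)) :
    classInner (star χ) (star χ') = if χ = χ' then 1 else 0 := by
  rw [hstar.2.2.1 _ (mem_zspan K hχ) _ (mem_zspan K hχ'), classInner_irr χ.2 χ'.2]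
  by_cases h : χ = χ'
  · rw [if_pos h, if_pos (congrArg Subtype.val h)]
  · rw [if_neg h, if_neg (fun h' => h (Subtype.ext h'))]

include hstar in
theorem exists_phi (χ : IrrCharacter ↥(Subgroup.normalizer (K : Set G))) :
    ∃ ψ : IrrCharacter G, χ ∈ SF (KN K) → ∃ s : ℂ, (s = 1 ∨ s = -1) ∧ star χ = s • (ψ : G → ℂ) := by
  by_cases hχ : χ ∈ SF (KN K)
  · have h1 : SIrr G (star χ) := by
      apply gen_norm_one (hstar.2.2.2 _ (mem_zspan K hχ))
      rw [star_inner K star hstar hχ hχ, if_pos rfl]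
    obtain ⟨s, α, hs, hα, h⟩ := h1.exists_sign
    exact ⟨⟨α, hα⟩, fun _ => ⟨s, hs, h⟩⟩
  · exact ⟨⟨_, Cfsg.Agent.Lib.Helper83Char.isIrr_one⟩, fun h => absurd h hχ⟩

variable (φ : IrrCharacter ↥(Subgroup.normalizer (K : Set G)) → IrrCharacter G)
  (hφ : ∀ χ, χ ∈ SF (KN K) → ∃ s : ℂ, (s = 1 ∨ s = -1) ∧ star χ = s • (φ χ : G → ℂ))

include hstar hφ in
theorem phi_injOn : Set.InjOn φ (SF (KN K) : Set (IrrCharacter ↥(Subgroup.normalizer (K : Set G)))) := by
  intro χ hχ χ' hχ' h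
  by_contra hne
  have h1 := star_inner K star hstar hχ hχ'
  rw [if_neg hne] at h1
  obtain ⟨s, hs, e1⟩ := hφ χ hχ
  obtain ⟨s', hs', e2⟩ := hφ χ' hχ'
  rw [e1, e2, h, classInner_smul_left, classInner_smul_right, classInner_irr_self (φ χ').2] at h1
  rcases hs with rfl | rfl <;> rcases hs' with rfl | rfl <;> simp at h1

omit [Fintype G] [Fintype ↥(Subgroup.normalizer (K : Set G))] in
theorem irr_ne_neg (ψ ψ' : IrrCharacter G) : (ψ : G → ℂ) ≠ - (ψ' : G → ℂ) := by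
  intro h
  obtain ⟨n, hn0, hn⟩ := IsIrrCharacter.exists_degree ψ.2
  obtain ⟨m, hm0, hm⟩ := IsIrrCharacter.exists_degree ψ'.2
  have h1 := congrFun h 1
  rw [Pi.neg_apply, hn, hm] at h1
  have h2 : ((n + m : ℕ) : ℂ) = 0 := by push_cast; linear_combination h1
  have h3 : n + m = 0 := by exact_mod_cast h2
  omega

include hTI hC hlt hstar hext htwo hφ in
theorem const_of_not_mem {ψ : IrrCharacter G} (hψ : ψ ∉ (SF (KN K)).image φ) :
    ∀ a ∈ K, ∀ b ∈ K, a ≠ 1 → b ≠ 1 → (ψ : G → ℂ) a = (ψ : G → ℂ) b := by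
  intro a ha b hb ha1 hb1
  by_contra hne
  obtain ⟨χ, hχ, h⟩ := (Cfsg.Agent.S0852.result K hTI hlt hC (relS K) rfl htwo star hstar hext ψ ψ.2).2
    ⟨a, ha, b, hb, ha1, hb1, hne⟩
  have hχ' : (⟨χ, hχ.1⟩ : IrrCharacter ↥(Subgroup.normalizer (K : Set G))) ∈ SF (KN K) :=
    (mem_SF_iff K _).2 hχ
  obtain ⟨s, hs, e⟩ := hφ _ hχ'
  simp only at e
  apply hψ
  rw [Finset.mem_image]
  refine ⟨_, hχ', ?_⟩
  apply Subtype.ext
  rw [e] at h
  rcases hs with rfl | rfl <;> rcases h with h | h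
  · rw [h, one_smul]
  · exfalso; apply irr_ne_neg ψ (φ ⟨χ, hχ.1⟩); rw [h, one_smul]
  · exfalso; apply irr_ne_neg ψ (φ ⟨χ, hχ.1⟩); rw [h, neg_smul, one_smul]
  · rw [h, neg_smul, one_smul, neg_neg]

include hTI hC hlt hstar hext htwo hφ in
theorem nonconst_of_mem {ψ : IrrCharacter G} (hψ : ψ ∈ (SF (KN K)).image φ) :
    ∃ a ∈ K, ∃ b ∈ K, a ≠ 1 ∧ b ≠ 1 ∧ (ψ : G → ℂ) a ≠ (ψ : G → ℂ) b := by
  rw [Finset.mem_image] at hψ
  obtain ⟨χ, hχ, rfl⟩ := hψ
  apply (Cfsg.Agent.S0852.result K hTI hlt hC (relS K) rfl htwo star hstar hext _ (φ χ).2).1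
  refine ⟨χ, (mem_SF_iff K χ).1 hχ, ?_⟩
  obtain ⟨s, hs, e⟩ := hφ χ hχ
  rw [e]
  rcases hs with rfl | rfl
  · left; rw [one_smul]
  · right; rw [neg_smul, one_smul, neg_neg]

end Star

end Cfsg.Agent.Lib.Helper61Feit8
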