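import Mathlib
import Cfsg.Agent.Lib.Helper61ZTDefs
import Cfsg.Agent.Lib.Helper61Feit8
import Cfsg.Agent.Lib.Helper82Cod
import Cfsg.Agent.Lib.Helper82Linear
import Cfsg.Agent.Lib.Helper82Mult
import Cfsg.Agent.Lib.Helper32Feit

/-!
PROJECT 61, PART C, piece `edvd`: degrees of the characters of `N` not trivial on `K`.
-/

set_option autoImplicit false

namespace Cfsg.Agent.Lib.Helper32ZTEdvd

open Cfsg Cfsg.Agent.Lib.Helper4Char Cfsg.Agent.Lib.Helper4Char2 Cfsg.Agent.Lib.Helper4Char4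
  Cfsg.Agent.Lib.Helper61Feit7 Cfsg.Agent.Lib.Helper61Feit8 Cfsg.Agent.Lib.Helper61ZTDefs
open scoped ComplexConjugate Classical

variable {G : Type*} [Group G] [Fintype G] {K Z : Subgroup G}
  [Fintype ↥(Subgroup.normalizer (K : Set G))] {q h : ℕ}

/-- a linear character of `K` is trivial on `Z` -/
theorem linear_Z (hz : ZT K Z q h) (θ : IrrCharacter ↥(KN K)) (h1 : (θ : ↥(KN K) → ℂ) 1 = 1)
    (z : ↥(KN K)) (hzZ : ((z : ↥(Subgroup.normalizer (K : Set G))) : G) ∈ Z) :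
    (θ : ↥(KN K) → ℂ) z = 1 := by
  by_cases hz1 : ((z : ↥(Subgroup.normalizer (K : Set G))) : G) = 1
  · have : z = 1 := Subtype.ext (Subtype.ext hz1)
    rw [this, h1]
  have hcomm : ∀ a b : ↥(KN K), (θ : ↥(KN K) → ℂ) (a * b * a⁻¹ * b⁻¹) = 1 := by
    intro a b
    apply Cfsg.Agent.Lib.Helper82Linear.irr_linear_eq_one_of_mem_commutator θ h1
    rw [commutator_def, ← commutatorElement_def]
    exact Subgroup.commutator_mem_commutator (Subgroup.mem_top a) (Subgroup.mem_top b)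
  obtain ⟨u, hu, v, hv, huv⟩ := hz.na
  set c : G := u * v * u⁻¹ * v⁻¹ with hc
  have hcK : c ∈ K := K.mul_mem (K.mul_mem (K.mul_mem hu hv) (K.inv_mem hu)) (K.inv_mem hv)
  have hc1 : c ≠ 1 := by
    intro h0
    apply huv
    have : u * v = c * (v * u) := by rw [hc]; group
    rw [this, h0, one_mul]
  -- conjugation into `KN K`
  have hconj : ∀ n ∈ Subgroup.normalizer (K : Set G), ∀ k ∈ K, n * k * n⁻¹ ∈ K := by
    intro n hn k hk
    exact (Subgroup.mem_normalizer_iff.1 hn k).1 hk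
  have key : ∀ n ∈ Subgroup.normalizer (K : Set G), ∃ c' : ↥(KN K),
      ((c' : ↥(Subgroup.normalizer (K : Set G))) : G) = n * c * n⁻¹ ∧
        (θ : ↥(KN K) → ℂ) c' = 1 := by
    intro n hn
    let a : ↥(KN K) := ⟨⟨n * u * n⁻¹, Subgroup.le_normalizer (hconj n hn u hu)⟩,
      Subgroup.mem_subgroupOf.2 (hconj n hn u hu)⟩
    let b : ↥(KN K) := ⟨⟨n * v * n⁻¹, Subgroup.le_normalizer (hconj n hn v hv)⟩,
      Subgroup.mem_subgroupOf.2 (hconj n hn v hv)⟩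
    refine ⟨a * b * a⁻¹ * b⁻¹, ?_, hcomm a b⟩
    show (n * u * n⁻¹) * (n * v * n⁻¹) * (n * u * n⁻¹)⁻¹ * (n * v * n⁻¹)⁻¹ = n * c * n⁻¹
    rw [hc]; group
  by_cases hcc : c * c = 1
  · have hcZ : c ∈ Z := (hz.hZ c).2 ⟨hcK, hcc⟩
    obtain ⟨n, hn, hnz⟩ := hz.tr c hcZ _ hzZ hc1 hz1
    obtain ⟨c', hc', hθ⟩ := key n hn
    have : z = c' := Subtype.ext (Subtype.ext (by rw [hc', hnz]))
    rw [this, hθ]
  · have hcZ : c * c ∈ Z := hz.sq c hcK
    obtain ⟨n, hn, hnz⟩ := hz.tr (c * c) hcZ _ hzZ hcc hz1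
    obtain ⟨c', hc', hθ⟩ := key n hn
    have : z = c' * c' := by
      apply Subtype.ext
      apply Subtype.ext
      show _ = ((c' : ↥(Subgroup.normalizer (K : Set G))) : G) *
        ((c' : ↥(Subgroup.normalizer (K : Set G))) : G)
      rw [hc', ← hnz]; group
    rw [this, Cfsg.Agent.Lib.Helper82Linear.irr_linear_mul θ h1, hθ, one_mul]

theorem edvd (hz : ZT K Z q h) {ψ : IrrCharacter ↥(Subgroup.normalizer (K : Set G))}
    (hψ : ψ ∈ SF (KN K)) :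
    ∃ d : ℕ, (ψ : ↥(Subgroup.normalizer (K : Set G)) → ℂ) 1 = ((q - 1) * d : ℕ) ∧ (∃ j : ℕ, d = 2 ^ j) ∧
      (d = 1 → ∀ x : ↥(Subgroup.normalizer (K : Set G)), (x : G) ∈ Z →
        (ψ : ↥(Subgroup.normalizer (K : Set G)) → ℂ) x = (ψ : ↥(Subgroup.normalizer (K : Set G)) → ℂ) 1) := by
  have h1 : (ψ : ↥(Subgroup.normalizer (K : Set G)) → ℂ) ∈ relS K := (mem_SF_iff K ψ).1 hψ
  have h2 : (ψ : ↥(Subgroup.normalizer (K : Set G)) → ℂ) ∈ inducedIrrAbove (KN K) ⊥ := by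
    rw [← Cfsg.Agent.Lib.Helper32Feit.set_eq K hz.hC]; exact h1
  obtain ⟨θ, hθ, hθ1, -, hψθ⟩ := h2
  set θ' : IrrCharacter ↥(KN K) := ⟨θ, hθ⟩ with hθ'
  set d := charDegree θ with hd0
  have hd : (d : ℂ) = θ 1 := Cfsg.Agent.Lib.Helper82Irr.irr_charDegree_cast θ'
  have hdvd : d ∣ Nat.card ↥(KN K) := Cfsg.Agent.Lib.Helper82Cod.irr_degree_dvd_card θ'
  have hcard : Nat.card ↥(KN K) = Nat.card K :=
    Nat.card_congr (Subgroup.subgroupOfEquivOfLe Subgroup.le_normalizer).toEquiv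
  obtain ⟨n, hn⟩ := hz.two.exists_card_eq
  refine ⟨d, ?_, ?_, ?_⟩
  · rw [hψθ, Cfsg.Agent.Lib.Helper82Mult.indFun_one, hz.he, ← hd]
    push_cast
    ring
  · rw [hcard, hn] at hdvd
    obtain ⟨j, -, hj⟩ := (Nat.dvd_prime_pow Nat.prime_two).1 hdvd
    exact ⟨j, hj⟩
  · intro hd1 x hx
    have hθone : θ 1 = 1 := by rw [← hd, hd1]; simp
    rw [hψθ, Cfsg.Agent.Lib.Helper19Ind.indFun_apply, Cfsg.Agent.Lib.Helper19Ind.indFun_apply]
    congr 1
    apply Finset.sum_congr rfl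
    intro y _
    have hxK : (x : G) ∈ K := ((hz.hZ _).1 hx).1
    have hxx : (x : G) * x = 1 := ((hz.hZ _).1 hx).2
    have hyK : ((y⁻¹ * x * y : ↥(Subgroup.normalizer (K : Set G))) : G) ∈ K := by
      have := (Subgroup.mem_normalizer_iff.1 (y⁻¹).2 (x : G)).1 hxK
      simpa using this
    have hyZ : ((y⁻¹ * x * y : ↥(Subgroup.normalizer (K : Set G))) : G) ∈ Z := by
      refine (hz.hZ _).2 ⟨hyK, ?_⟩
      show ((y : G)⁻¹ * x * y) * ((y : G)⁻¹ * x * y) = 1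
      calc ((y : G)⁻¹ * x * y) * ((y : G)⁻¹ * x * y) = (y : G)⁻¹ * ((x : G) * x) * y := by group
        _ = 1 := by rw [hxx]; group
    have hmem : (y⁻¹ * x * y) ∈ KN K := Subgroup.mem_subgroupOf.2 hyK
    rw [Cfsg.Agent.Lib.Helper19Ind.extendByZero_of_mem _ _ hmem]
    have e1 : y⁻¹ * 1 * y = ((1 : ↥(KN K)) : ↥(Subgroup.normalizer (K : Set G))) := by simp
    rw [e1, Cfsg.Agent.Lib.Helper19Ind.extendByZero_coe, hθone]
    exact linear_Z hz θ' hθone ⟨_, hmem⟩ hyZ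

end Cfsg.Agent.Lib.Helper32ZTEdvd
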