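import Mathlib
import Cfsg.Agent.Lib.Helper32ZTEdvd

/-!
PROJECT 61, PART C, pieces `psiirr` and `Beven`.
Both take the statement of the piece `Rgen` (for `h = q ^ 2`) as the extra hypothesis `hR`.
-/

set_option autoImplicit false

namespace Cfsg.Agent.Lib.Helper32ZTPsiirr

open Cfsg Cfsg.Agent.Lib.Helper4Char Cfsg.Agent.Lib.Helper4Char2 Cfsg.Agent.Lib.Helper4Char4
  Cfsg.Agent.Lib.Helper61Feit7 Cfsg.Agent.Lib.Helper61Feit8 Cfsg.Agent.Lib.Helper61ZTDefs
open Cfsg.Agent.Lib.Helper32ZTEdvd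
open scoped ComplexConjugate Classical

variable {G : Type*} [Group G] [Fintype G] {K Z : Subgroup G}
  [Fintype ↥(Subgroup.normalizer (K : Set G))] {q h : ℕ}

/-- the irreducible characters of `N` trivial on `Z` -/
noncomputable abbrev NZ (K Z : Subgroup G) [Fintype ↥(Subgroup.normalizer (K : Set G))] :
    Finset (IrrCharacter ↥(Subgroup.normalizer (K : Set G))) :=
  Finset.univ.filter (fun ν : IrrCharacter ↥(Subgroup.normalizer (K : Set G)) =>
          ∀ x : ↥(Subgroup.normalizer (K : Set G)), (x : G) ∈ Z →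
            (ν : ↥(Subgroup.normalizer (K : Set G)) → ℂ) x = (ν : ↥(Subgroup.normalizer (K : Set G)) → ℂ) 1)

theorem Z_le_K (hz : ZT K Z q h) : Z ≤ K := fun u hu => ((hz.hZ u).1 hu).1

theorem NS_subset (hz : ZT K Z q h) : NS (KN K) ⊆ NZ K Z := by
  intro ν hν
  rw [Finset.mem_filter]
  refine ⟨Finset.mem_univ _, fun x hx => ?_⟩
  exact (mem_NS (KN K)).1 hν x (Subgroup.mem_subgroupOf.2 (Z_le_K hz hx))

theorem one_le_q (hz : ZT K Z q h) : 1 ≤ q := le_trans (by norm_num) hz.hq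

theorem e_ne_zero (hz : ZT K Z q h) : ((q : ℂ) - 1) ≠ 0 := by
  have h4 : (4 : ℝ) ≤ (q : ℝ) := by exact_mod_cast hz.hq
  intro h0
  have h1 : (q : ℂ) = 1 := by linear_combination h0
  have h2 : (q : ℕ) = 1 := by exact_mod_cast h1
  have := hz.hq
  omega

theorem R_eq (hz : ZT K Z q h) : R (KN K) = ((q : ℂ) - 1) • dK K := by
  funext x
  rw [R_apply (KN K) (hv K hz.hC) x, hz.he, Nat.cast_sub (one_le_q hz)]
  simp only [Pi.smul_apply, dK, smul_eq_mul, Subgroup.mem_subgroupOf, Nat.cast_one]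
  split_ifs <;> simp

/-- the number `d` of `edvd` -/
noncomputable def dd (hz : ZT K Z q h) (ν : IrrCharacter ↥(Subgroup.normalizer (K : Set G))) : ℕ :=
  if hν : ν ∈ SF (KN K) then (edvd hz hν).choose else 0

theorem dd_spec (hz : ZT K Z q h) {ν : IrrCharacter ↥(Subgroup.normalizer (K : Set G))}
    (hν : ν ∈ SF (KN K)) :
    (ν : ↥(Subgroup.normalizer (K : Set G)) → ℂ) 1 = ((q : ℂ) - 1) * (dd hz ν : ℂ) ∧
      (∃ j : ℕ, dd hz ν = 2 ^ j) ∧ (dd hz ν = 1 → ν ∈ NZ K Z) := by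
  have h0 := (edvd hz hν).choose_spec
  have h1 : dd hz ν = (edvd hz hν).choose := by rw [dd, dif_pos hν]
  rw [← h1] at h0
  refine ⟨?_, h0.2.1, fun hd => ?_⟩
  · rw [h0.1]; push_cast [Nat.cast_sub (one_le_q hz)]; ring
  · rw [Finset.mem_filter]
    exact ⟨Finset.mem_univ _, h0.2.2 hd⟩

theorem mem_SF_of_not_NS {ν : IrrCharacter ↥(Subgroup.normalizer (K : Set G))}
    (hν : ν ∉ NS (KN K)) : ν ∈ SF (KN K) := by
  rw [SF, Finset.mem_filter]
  refine ⟨Finset.mem_univ _, fun hall => hν ?_⟩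
  rw [NS, Finset.mem_filter]
  exact ⟨Finset.mem_univ _, hall⟩

theorem sum_ind (S : Subgroup G) (hS : S ≤ Subgroup.normalizer (K : Set G)) :
    ∑ x : ↥(Subgroup.normalizer (K : Set G)), (if (x : G) ∈ S then (1 : ℂ) else 0) = Nat.card S := by
  rw [Finset.sum_boole]
  congr 1
  rw [← Nat.card_congr (Subgroup.subgroupOfEquivOfLe hS).toEquiv, Nat.card_eq_fintype_card,
    Fintype.card_subtype]
  rfl

theorem cardL' (hz : ZT K Z q h) :
    (Nat.card ↥(Subgroup.normalizer (K : Set G)) : ℂ) = (h : ℂ) * ((q : ℂ) - 1) := by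
  have h1 := (KN K).card_mul_index
  rw [hz.he, Nat.card_congr (Subgroup.subgroupOfEquivOfLe Subgroup.le_normalizer).toEquiv,
    hz.hK] at h1
  rw [← h1]
  push_cast [Nat.cast_sub (one_le_q hz)]
  ring

theorem div_eq (hq : 0 < q) : q ^ 2 * (q - 1) / q = q * (q - 1) := by
  have : q ^ 2 * (q - 1) = q * (q * (q - 1)) := by ring
  rw [this, Nat.mul_div_cancel_left _ hq]

/-- the statement of the piece `Rgen` -/
def RgenStmt (K Z : Subgroup G) [Fintype ↥(Subgroup.normalizer (K : Set G))] (q h : ℕ) : Prop :=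
    (((h * (q - 1) / q : ℕ) : ℂ)) • dZ K Z
      = ∑ ν ∈ Finset.univ.filter (fun ν : IrrCharacter ↥(Subgroup.normalizer (K : Set G)) =>
          ∀ x : ↥(Subgroup.normalizer (K : Set G)), (x : G) ∈ Z →
            (ν : ↥(Subgroup.normalizer (K : Set G)) → ℂ) x = (ν : ↥(Subgroup.normalizer (K : Set G)) → ℂ) 1),
        (ν : ↥(Subgroup.normalizer (K : Set G)) → ℂ) 1 • (ν : ↥(Subgroup.normalizer (K : Set G)) → ℂ)

theorem RZ_eq (hz : ZT K Z q (q ^ 2)) (hR : RgenStmt K Z q (q ^ 2)) :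
    ∑ ν ∈ NZ K Z, (ν : ↥(Subgroup.normalizer (K : Set G)) → ℂ) 1 •
      (ν : ↥(Subgroup.normalizer (K : Set G)) → ℂ) = ((q : ℂ) * ((q : ℂ) - 1)) • dZ K Z := by
  have h1 := hR
  rw [RgenStmt, div_eq (lt_of_lt_of_le (by norm_num) hz.hq)] at h1
  rw [← h1]
  push_cast [Nat.cast_sub (one_le_q hz)]
  rfl

theorem psi_decomp (hz : ZT K Z q (q ^ 2)) (hR : RgenStmt K Z q (q ^ 2)) :
    (q : ℂ) • dZ K Z - dK K = ∑ ν ∈ NZ K Z \ NS (KN K), (dd hz ν : ℂ) •
      (ν : ↥(Subgroup.normalizer (K : Set G)) → ℂ) := by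
  have h1 := Finset.sum_sdiff (NS_subset hz) (f := fun ν : IrrCharacter _ =>
    (ν : ↥(Subgroup.normalizer (K : Set G)) → ℂ) 1 • (ν : ↥(Subgroup.normalizer (K : Set G)) → ℂ))
  rw [RZ_eq hz hR] at h1
  have h2 : ∑ ν ∈ NS (KN K), (ν : ↥(Subgroup.normalizer (K : Set G)) → ℂ) 1 •
      (ν : ↥(Subgroup.normalizer (K : Set G)) → ℂ) = ((q : ℂ) - 1) • dK K := R_eq hz
  rw [h2] at h1
  have h3 : ∑ ν ∈ NZ K Z \ NS (KN K), (ν : ↥(Subgroup.normalizer (K : Set G)) → ℂ) 1 •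
      (ν : ↥(Subgroup.normalizer (K : Set G)) → ℂ) = ((q : ℂ) - 1) • ∑ ν ∈ NZ K Z \ NS (KN K),
        (dd hz ν : ℂ) • (ν : ↥(Subgroup.normalizer (K : Set G)) → ℂ) := by
    rw [Finset.smul_sum]
    apply Finset.sum_congr rfl
    intro ν hν
    rw [(dd_spec hz (mem_SF_of_not_NS (Finset.mem_sdiff.1 hν).2)).1, smul_smul]
  rw [h3] at h1
  funext x
  have h4 := congrFun h1 x
  simp only [Pi.add_apply, Pi.smul_apply, smul_eq_mul, Pi.sub_apply] at h4 ⊢
  apply mul_left_cancel₀ (e_ne_zero hz)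
  linear_combination -h4

/-! ### piece `psiirr` -/

theorem psi_irr_of (hz : ZT K Z q (q ^ 2)) (hR : RgenStmt K Z q (q ^ 2)) :
    IsIrrCharacter ↥(Subgroup.normalizer (K : Set G)) ((q : ℂ) • dZ K Z - dK K) := by
  rw [isIrrCharacter_iff]
  constructor
  · rw [psi_decomp hz hR]
    apply IsCharacter.sum
    intro ν _
    exact IsCharacter.natCast_smul _ (IsIrrCharacter.isCharacter ν.2)
  · rw [classInner]
    have h1 : ∀ x : ↥(Subgroup.normalizer (K : Set G)),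
        ((q : ℂ) • dZ K Z - dK K) x * conj (((q : ℂ) • dZ K Z - dK K) x)
          = ((q : ℂ) ^ 2 - 2 * q) * (if (x : G) ∈ Z then (1 : ℂ) else 0)
            + (if (x : G) ∈ K then (1 : ℂ) else 0) := by
      intro x
      simp only [Pi.sub_apply, Pi.smul_apply, smul_eq_mul, dZ, dK]
      by_cases hxZ : (x : G) ∈ Z
      · rw [if_pos hxZ, if_pos (Z_le_K hz hxZ)]
        simp only [map_sub, map_mul, map_one, Complex.conj_natCast]
        ring
      · rw [if_neg hxZ]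
        by_cases hxK : (x : G) ∈ K
        · rw [if_pos hxK]; simp
        · rw [if_neg hxK]; simp
    rw [Finset.sum_congr rfl (fun x _ => h1 x), Finset.sum_add_distrib, ← Finset.mul_sum,
      sum_ind Z ((Z_le_K hz).trans Subgroup.le_normalizer), sum_ind K Subgroup.le_normalizer,
      hz.cardZ, hz.hK, cardL' hz]
    have hq0 : (q : ℂ) ≠ 0 := by
      have := one_le_q hz
      exact_mod_cast (by omega : q ≠ 0)
    have he := e_ne_zero hz
    push_cast
    field_simp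
    ring

/-! ### piece `Beven` -/

theorem phi_decomp (hz : ZT K Z q (q ^ 2)) (hR : RgenStmt K Z q (q ^ 2)) :
    ((q : ℂ) ^ 2) • d1 K - (q : ℂ) • dZ K Z = ∑ ν ∈ Finset.univ \ NZ K Z, (dd hz ν : ℂ) •
      (ν : ↥(Subgroup.normalizer (K : Set G)) → ℂ) := by
  have h1 := Finset.sum_sdiff (Finset.subset_univ (NZ K Z)) (f := fun ν : IrrCharacter _ =>
    (ν : ↥(Subgroup.normalizer (K : Set G)) → ℂ) 1 • (ν : ↥(Subgroup.normalizer (K : Set G)) → ℂ))
  rw [RZ_eq hz hR] at h1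
  have h3 : ∑ ν ∈ Finset.univ \ NZ K Z, (ν : ↥(Subgroup.normalizer (K : Set G)) → ℂ) 1 •
      (ν : ↥(Subgroup.normalizer (K : Set G)) → ℂ) = ((q : ℂ) - 1) • ∑ ν ∈ Finset.univ \ NZ K Z,
        (dd hz ν : ℂ) • (ν : ↥(Subgroup.normalizer (K : Set G)) → ℂ) := by
    rw [Finset.smul_sum]
    apply Finset.sum_congr rfl
    intro ν hν
    have hν' : ν ∉ NS (KN K) := fun hh => (Finset.mem_sdiff.1 hν).2 (NS_subset hz hh)
    rw [(dd_spec hz (mem_SF_of_not_NS hν')).1, smul_smul]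
  rw [h3] at h1
  funext x
  have h4 := congrFun h1 x
  have h5 := sum_degree_mul x
  simp only [Pi.add_apply, Pi.smul_apply, smul_eq_mul, Pi.sub_apply, Finset.sum_apply] at h4 ⊢
  rw [h5, cardL' hz] at h4
  apply mul_left_cancel₀ (e_ne_zero hz)
  simp only [d1]
  push_cast at h4
  by_cases hx : x = 1
  · rw [if_pos hx] at h4 ⊢
    linear_combination -h4
  · rw [if_neg hx] at h4 ⊢
    linear_combination -h4

theorem B_even_of (hz : ZT K Z q (q ^ 2)) (hR : RgenStmt K Z q (q ^ 2)) (χ : IrrCharacter G) :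
    ∃ b : ℕ, classInner (rs K χ) (((q : ℂ) ^ 2) • d1 K - (q : ℂ) • dZ K Z) = b ∧ Even b := by
  have hχ : IsCharacter ↥(Subgroup.normalizer (K : Set G)) (rs K χ) :=
    IsCharacter.restrict _ (IsIrrCharacter.isCharacter χ.2)
  choose n hn using fun ν : IrrCharacter ↥(Subgroup.normalizer (K : Set G)) =>
    IsCharacter.classInner_nat hχ (IsIrrCharacter.isCharacter ν.2)
  refine ⟨∑ ν ∈ Finset.univ \ NZ K Z, dd hz ν * n ν, ?_, ?_⟩
  · rw [phi_decomp hz hR, classInner_sum_right]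
    push_cast
    apply Finset.sum_congr rfl
    intro ν _
    rw [classInner_smul_right, hn, Complex.conj_natCast]
  · rw [even_iff_two_dvd]
    apply Finset.dvd_sum
    intro ν hν
    have hν' : ν ∉ NS (KN K) := fun hh => (Finset.mem_sdiff.1 hν).2 (NS_subset hz hh)
    obtain ⟨-, ⟨j, hj⟩, h1⟩ := dd_spec hz (mem_SF_of_not_NS hν')
    have hj0 : j ≠ 0 := by
      rintro rfl
      exact (Finset.mem_sdiff.1 hν).2 (h1 (by rw [hj, pow_zero]))
    apply Dvd.dvd.mul_right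
    rw [hj]
    exact dvd_pow_self 2 hj0

end Cfsg.Agent.Lib.Helper32ZTPsiirr
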