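import Mathlib
import Cfsg.Agent.Lib.Helper61ZTDefs
import Cfsg.Agent.Lib.Helper61HigDefs
import Cfsg.Agent.Lib.Helper61Feit13

set_option autoImplicit false
set_option linter.unusedSectionVars false

/-! PROJECT 61, PART C, piece `CardG`. -/

namespace Cfsg.Agent.Lib.Helper70ZTCardG

open Cfsg Cfsg.Agent.Lib.Helper4Char Cfsg.Agent.Lib.Helper4Char2 Cfsg.Agent.Lib.Helper4Char4
  Cfsg.Agent.Lib.Helper61Feit7 Cfsg.Agent.Lib.Helper61Feit8 Cfsg.Agent.Lib.Helper61ZTDefs
open scoped ComplexConjugate Classical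

variable {G : Type*} [Group G] [Fintype G] {K Z : Subgroup G}
  [Fintype ↥(Subgroup.normalizer (K : Set G))] {q h : ℕ}


theorem cardL (hz : ZT K Z q h) : Nat.card ↥(Subgroup.normalizer (K : Set G)) = h * (q - 1) := by
  have h1 := Subgroup.card_mul_index (K.subgroupOf (Subgroup.normalizer (K : Set G)))
  rw [hz.he] at h1
  have h2 : Nat.card (K.subgroupOf (Subgroup.normalizer (K : Set G))) = Nat.card K :=
    Nat.card_congr (Subgroup.subgroupOfEquivOfLe Subgroup.le_normalizer).toEquiv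
  rw [h2, hz.hK] at h1
  exact h1.symm

theorem cardG (hz : ZT K Z q h) : Nat.card G = (h + 1) * h * (q - 1) := by
  have h1 := Subgroup.card_mul_index (Subgroup.normalizer (K : Set G))
  rw [hz.hidx, hz.hK, cardL hz] at h1
  rw [← h1]
  ring

end Cfsg.Agent.Lib.Helper70ZTCardG
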