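import Mathlib
import Cfsg.Agent.Lib.Helper61ZTDefs
import Cfsg.Agent.Lib.Helper61HigDefs
import Cfsg.Agent.Lib.Helper61Feit13
import Cfsg.Agent.Lib.Helper70ZTCardG
import Cfsg.Agent.Lib.Helper82Quot
set_option autoImplicit false
set_option linter.unusedSectionVars false

/-! PROJECT 61, PART C, piece `Rgen`. -/

namespace Cfsg.Agent.Lib.Helper70ZTRgen

open Cfsg Cfsg.Agent.Lib.Helper4Char Cfsg.Agent.Lib.Helper4Char2 Cfsg.Agent.Lib.Helper4Char4
  Cfsg.Agent.Lib.Helper61Feit7 Cfsg.Agent.Lib.Helper61Feit8 Cfsg.Agent.Lib.Helper61ZTDefs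
open scoped ComplexConjugate Classical

variable {G : Type*} [Group G] [Fintype G] {K Z : Subgroup G}
  [Fintype ↥(Subgroup.normalizer (K : Set G))] {q h : ℕ}


/-- the regular character of a quotient, in general -/
theorem sum_NS_mul {L : Type*} [Group L] [Fintype L] (Z₁ : Subgroup L) [Z₁.Normal] (x : L) :
    ∑ ν ∈ NS Z₁, (ν : L → ℂ) 1 * (ν : L → ℂ) x = if x ∈ Z₁ then (Z₁.index : ℂ) else 0 := by
  letI : Fintype (L ⧸ Z₁) := Fintype.ofFinite _
  have h1 : NS Z₁ = Finset.univ.image (Cfsg.Agent.Lib.Helper82Quot.inflate Z₁) := by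
    ext η
    simp only [NS, Finset.mem_filter, Finset.mem_univ, true_and, Finset.mem_image]
    constructor
    · intro h
      exact Cfsg.Agent.Lib.Helper82Quot.exists_deflate Z₁ η h
    · rintro ⟨ψ, rfl⟩ k hk
      exact Cfsg.Agent.Lib.Helper82Quot.inflate_ker Z₁ ψ hk
  rw [h1, Finset.sum_image (fun a _ b _ h => Cfsg.Agent.Lib.Helper82Quot.inflate_injective Z₁ h)]
  have h2 := sum_degree_mul (G := L ⧸ Z₁) (x : L ⧸ Z₁)
  rw [QuotientGroup.eq_one_iff] at h2
  rw [Subgroup.index_eq_card]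
  exact h2

theorem Z_normal (hz : ZT K Z q h) : (Z.subgroupOf (Subgroup.normalizer (K : Set G))).Normal := by
  constructor
  intro u hu n
  rw [Subgroup.mem_subgroupOf] at hu ⊢
  rw [hz.hZ] at hu ⊢
  have hn := n.2
  rw [Subgroup.mem_normalizer_iff] at hn
  refine ⟨?_, ?_⟩
  · have := (hn (u : G)).mp hu.1
    simpa using this
  · have : ((n * u * n⁻¹ : ↥(Subgroup.normalizer (K : Set G))) : G)
        * ((n * u * n⁻¹ : ↥(Subgroup.normalizer (K : Set G))) : G)
        = (n : G) * ((u : G) * (u : G)) * (n : G)⁻¹ := by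
      simp only [Subgroup.coe_mul, Subgroup.coe_inv]
      group
    rw [this, hu.2]
    simp

theorem Z_le_K (hz : ZT K Z q h) : Z ≤ K := fun u hu => ((hz.hZ u).mp hu).1

theorem Z_index (hz : ZT K Z q h) :
    (Z.subgroupOf (Subgroup.normalizer (K : Set G))).index = h * (q - 1) / q := by
  have h1 := Subgroup.card_mul_index (Z.subgroupOf (Subgroup.normalizer (K : Set G)))
  have h2 : Nat.card (Z.subgroupOf (Subgroup.normalizer (K : Set G))) = Nat.card Z :=
    Nat.card_congr (Subgroup.subgroupOfEquivOfLe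
      ((Z_le_K hz).trans Subgroup.le_normalizer)).toEquiv
  rw [h2, hz.cardZ, Cfsg.Agent.Lib.Helper70ZTCardG.cardL hz] at h1
  have hq : 0 < q := by have := hz.hq; omega
  exact (Nat.div_eq_of_eq_mul_right hq h1.symm).symm

/-! ### piece `Rgen` : the regular character of `N / Z` -/

theorem Rgen (hz : ZT K Z q h) :
    (((h * (q - 1) / q : ℕ) : ℂ)) • dZ K Z
      = ∑ ν ∈ Finset.univ.filter (fun ν : IrrCharacter ↥(Subgroup.normalizer (K : Set G)) =>
          ∀ x : ↥(Subgroup.normalizer (K : Set G)), (x : G) ∈ Z →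
            (ν : ↥(Subgroup.normalizer (K : Set G)) → ℂ) x = (ν : ↥(Subgroup.normalizer (K : Set G)) → ℂ) 1),
        (ν : ↥(Subgroup.normalizer (K : Set G)) → ℂ) 1 • (ν : ↥(Subgroup.normalizer (K : Set G)) → ℂ) := by
  haveI := Z_normal hz
  funext x
  have h1 := sum_NS_mul (Z.subgroupOf (Subgroup.normalizer (K : Set G))) x
  rw [Z_index hz] at h1
  rw [Finset.sum_apply]
  simp only [Pi.smul_apply, smul_eq_mul, dZ]
  have h2 : ∑ ν ∈ Finset.univ.filter (fun ν : IrrCharacter ↥(Subgroup.normalizer (K : Set G)) =>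
          ∀ x : ↥(Subgroup.normalizer (K : Set G)), (x : G) ∈ Z →
            (ν : ↥(Subgroup.normalizer (K : Set G)) → ℂ) x = (ν : ↥(Subgroup.normalizer (K : Set G)) → ℂ) 1),
        (ν : ↥(Subgroup.normalizer (K : Set G)) → ℂ) 1 * (ν : ↥(Subgroup.normalizer (K : Set G)) → ℂ) x
      = ∑ ν ∈ NS (Z.subgroupOf (Subgroup.normalizer (K : Set G))),
        (ν : ↥(Subgroup.normalizer (K : Set G)) → ℂ) 1 * (ν : ↥(Subgroup.normalizer (K : Set G)) → ℂ) x := rfl
  rw [h2, h1]
  by_cases hx : (x : G) ∈ Z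
  · rw [if_pos hx, if_pos (Subgroup.mem_subgroupOf.mpr hx), mul_one]
  · rw [if_neg hx, if_neg (fun hc => hx (Subgroup.mem_subgroupOf.mp hc)), mul_zero]

end Cfsg.Agent.Lib.Helper70ZTRgen
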