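import Mathlib
import Cfsg.Agent.Lib.Helper32ZTPsiirr
import Cfsg.Agent.Lib.Helper70ZTRgen

/-!
PROJECT 61, PART C, pieces `psiirr` and `Beven`: the exact statements of the skeleton.
-/

set_option autoImplicit false

namespace Cfsg.Agent.Lib.Helper32ZTBeven

open Cfsg Cfsg.Agent.Lib.Helper4Char Cfsg.Agent.Lib.Helper4Char2 Cfsg.Agent.Lib.Helper4Char4
  Cfsg.Agent.Lib.Helper61Feit7 Cfsg.Agent.Lib.Helper61Feit8 Cfsg.Agent.Lib.Helper61ZTDefs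
open scoped ComplexConjugate Classical

variable {G : Type*} [Group G] [Fintype G] {K Z : Subgroup G}
  [Fintype ↥(Subgroup.normalizer (K : Set G))] {q h : ℕ}

theorem psi_irr (hz : ZT K Z q (q ^ 2)) :
    IsIrrCharacter ↥(Subgroup.normalizer (K : Set G)) ((q : ℂ) • dZ K Z - dK K) :=
  Cfsg.Agent.Lib.Helper32ZTPsiirr.psi_irr_of hz (Cfsg.Agent.Lib.Helper70ZTRgen.Rgen hz)

theorem B_even (hz : ZT K Z q (q ^ 2)) (χ : IrrCharacter G) :
    ∃ b : ℕ, classInner (rs K χ) (((q : ℂ) ^ 2) • d1 K - (q : ℂ) • dZ K Z) = b ∧ Even b :=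
  Cfsg.Agent.Lib.Helper32ZTPsiirr.B_even_of hz (Cfsg.Agent.Lib.Helper70ZTRgen.Rgen hz) χ

end Cfsg.Agent.Lib.Helper32ZTBeven
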