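import Mathlib
import Cfsg.Prelude.Def_Characters
import Cfsg.Agent.Lib.Helper4Char4

set_option autoImplicit false

namespace Cfsg.Agent.Lib.Helper4Perm

open Module Representation
open scoped ComplexConjugate
open Cfsg.Agent.Lib.Helper4Eigen Cfsg.Agent.Lib.Helper4Char Cfsg.Agent.Lib.Helper4Char2
  Cfsg.Agent.Lib.Helper4Char3 Cfsg.Agent.Lib.Helper4Char4

variable {G : Type*} [Group G] [Fintype G]

/-- Brauer's permutation lemma, abstract form: compatible self-maps of the rows and the columns
of the character table have the same number of fixed points. -/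
theorem card_fixed_eq (σ : Cfsg.IrrCharacter G → Cfsg.IrrCharacter G)
    (τ : ConjClasses G → ConjClasses G)
    (h : ∀ χ C, ((σ χ : Cfsg.IrrCharacter G) : G → ℂ) (rep C) = (χ : G → ℂ) (rep (τ C))) :
    Nat.card {χ // σ χ = χ} = Nat.card {C // τ C = C} := by
  classical
  let P : Matrix (Cfsg.IrrCharacter G) (Cfsg.IrrCharacter G) ℂ :=
    fun χ ψ => if σ χ = ψ then 1 else 0
  let Q : Matrix (ConjClasses G) (ConjClasses G) ℂ := fun D C => if τ C = D then 1 else 0
  have h1 : P * table G = table G * Q := by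
    ext χ C
    rw [Matrix.mul_apply, Matrix.mul_apply]
    simp only [P, Q, ite_mul, one_mul, zero_mul, mul_ite, mul_one, mul_zero,
      Finset.sum_ite_eq, Finset.mem_univ, if_true]
    exact h χ C
  have h2 : P = table G * Q * tableInv G := by
    rw [← h1, Matrix.mul_assoc, table_mul_tableInv, Matrix.mul_one]
  have h3 : P.trace = Q.trace := by
    rw [h2, Matrix.trace_mul_comm, ← Matrix.mul_assoc, tableInv_mul_table, Matrix.one_mul]
  have h4 : P.trace = (Nat.card {χ // σ χ = χ} : ℂ) := by
    have : P.trace = ∑ χ, if σ χ = χ then (1 : ℂ) else 0 := rfl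
    rw [this, Finset.sum_boole, Nat.card_eq_fintype_card, Fintype.card_subtype]
  have h5 : Q.trace = (Nat.card {C // τ C = C} : ℂ) := by
    have : Q.trace = ∑ C, if τ C = C then (1 : ℂ) else 0 := rfl
    rw [this, Finset.sum_boole, Nat.card_eq_fintype_card, Fintype.card_subtype]
  rw [h4, h5] at h3
  exact_mod_cast h3

theorem IsIrrCharacter.comp_mulEquiv (α : G ≃* G) {χ : G → ℂ} (h : Cfsg.IsIrrCharacter G χ) :
    Cfsg.IsIrrCharacter G (χ ∘ α) := by
  rw [isIrrCharacter_iff] at h ⊢
  refine ⟨IsCharacter.comp α.toMonoidHom h.1, ?_⟩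
  rw [← h.2]
  simp only [Cfsg.classInner, Function.comp_apply]
  congr 1
  exact Fintype.sum_equiv α.toEquiv _ _ (fun g => rfl)

theorem card_fixed_classes_eq_card_fixed_irr (α : G ≃* G) :
    Nat.card {C : ConjClasses G // ConjClasses.map α.toMonoidHom C = C}
      = Nat.card {χ : Cfsg.IrrCharacter G // (χ : G → ℂ) ∘ α = (χ : G → ℂ)} := by
  have h := card_fixed_eq (G := G) (fun χ => ⟨(χ : G → ℂ) ∘ α, IsIrrCharacter.comp_mulEquiv α χ.2⟩)
    (fun C => ConjClasses.map α.toMonoidHom C) (by
      intro χ C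
      simp only [Function.comp_apply]
      apply IsClassFunction.eq_of_isConj (IsIrrCharacter.isClassFunction χ.2)
      rw [isConj_comm, ← mk_eq_iff_isConj_rep]
      conv_rhs => rw [← mk_rep C]
      rfl)
  rw [← h]
  apply Nat.card_congr
  apply Equiv.subtypeEquivRight
  intro χ
  exact Subtype.ext_iff

theorem card_real_irr_eq_card_real_classes :
    Nat.card {χ : Cfsg.IrrCharacter G // ∀ g : G, ((χ : G → ℂ) g).im = 0}
      = Nat.card {C : ConjClasses G // ∀ g : G, ConjClasses.mk g = C → IsConj g g⁻¹} := by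
  have h := card_fixed_eq (G := G) (fun χ => ⟨fun g => conj ((χ : G → ℂ) g), IsIrrCharacter.conj χ.2⟩)
    (fun C => ConjClasses.mk (rep C)⁻¹) (by
      intro χ C
      simp only
      rw [← IsCharacter.apply_inv (IsIrrCharacter.isCharacter χ.2)]
      apply IsClassFunction.eq_of_isConj (IsIrrCharacter.isClassFunction χ.2)
      exact (isConj_rep_mk _).symm)
  have e1 : {χ : Cfsg.IrrCharacter G // ∀ g : G, ((χ : G → ℂ) g).im = 0} ≃
      {χ : Cfsg.IrrCharacter G // (⟨fun g => conj ((χ : G → ℂ) g), IsIrrCharacter.conj χ.2⟩ :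
        Cfsg.IrrCharacter G) = χ} := by
    apply Equiv.subtypeEquivRight
    intro χ
    rw [Subtype.ext_iff, funext_iff]
    exact forall_congr' (fun g => Complex.conj_eq_iff_im.symm)
  have e2 : {C : ConjClasses G // ∀ g : G, ConjClasses.mk g = C → IsConj g g⁻¹} ≃
      {C : ConjClasses G // ConjClasses.mk (rep C)⁻¹ = C} := by
    apply Equiv.subtypeEquivRight
    intro C
    constructor
    · intro h1
      have h2 := h1 (rep C) (mk_rep C)
      rw [← ConjClasses.mk_eq_mk_iff_isConj, mk_rep] at h2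
      exact h2.symm
    · intro h1 g hg
      have h2 : IsConj (rep C) g := (mk_eq_iff_isConj_rep C g).mp hg
      have h3 : IsConj (rep C) (rep C)⁻¹ := (mk_eq_iff_isConj_rep C _).mp h1
      have h4 : IsConj (rep C)⁻¹ g⁻¹ := by
        obtain ⟨c, hc⟩ := isConj_iff.mp h2
        exact isConj_iff.mpr ⟨c, by rw [← hc]; group⟩
      exact h2.symm.trans (h3.trans h4)
  rw [Nat.card_congr e1, Nat.card_congr e2]
  exact h

end Cfsg.Agent.Lib.Helper4Perm
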