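import Mathlib
import Cfsg.Prelude.Def_Characters
import Cfsg.Agent.Lib.Helper4Char4
import Cfsg.Agent.Lib.Helper82Quot
import Cfsg.Agent.Lib.Helper82Mult
import Cfsg.Agent.Lib.Helper82Cod
import Cfsg.Agent.Lib.Helper63Derange
import Cfsg.Agent.Lib.Helper71Solv
import Cfsg.Agent.Lib.Helper83Char
import Cfsg.Agent.S0133
import Cfsg.Agent.S0146
import Cfsg.Agent.S0148
import Cfsg.Agent.S0173
import Cfsg.Agent.S0187
import Cfsg.Agent.S0887

set_option autoImplicit false

/-! The Ito-Michler theorem for classes of groups with `p`- or `p'`- normal subgroups. -/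

namespace Cfsg.Agent.Lib.Helper83Ito

open Cfsg.Agent.Lib.Helper4Char Cfsg.Agent.Lib.Helper4Char2 Cfsg.Agent.Lib.Helper4Char4
open scoped ComplexConjugate

section basics

variable {G : Type*} [Group G] [Fintype G]

theorem exists_constituent {φ : G → ℂ} (hφ : Cfsg.IsCharacter G φ) (h1 : φ 1 ≠ 0) :
    ∃ χ : Cfsg.IrrCharacter G, Cfsg.classInner φ (χ : G → ℂ) ≠ 0 := by
  obtain ⟨m, hm, hsum⟩ := Cfsg.Agent.Lib.Helper82Mult.exists_mult hφ
  by_contra hno
  push Not at hno
  apply h1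
  rw [hsum]
  simp only [Finset.sum_apply, Pi.smul_apply, smul_eq_mul]
  refine Finset.sum_eq_zero fun χ _ => ?_
  rw [← hm χ, hno χ, zero_mul]

theorem exists_over (N : Subgroup G) [Fintype N] {θ : N → ℂ} (hθ : Cfsg.IsIrrCharacter N θ) :
    ∃ χ : Cfsg.IrrCharacter G, Cfsg.classInner (fun n : N => (χ : G → ℂ) n) θ ≠ 0 := by
  have hc := Cfsg.Agent.S0148.result N θ (IsIrrCharacter.isCharacter hθ)
  have h1 : Cfsg.indFun N θ 1 ≠ 0 := by
    rw [Cfsg.Agent.Lib.Helper82Mult.indFun_one]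
    refine mul_ne_zero ?_ (Cfsg.Agent.Lib.Helper83Char.irr_one_ne_zero hθ)
    exact_mod_cast Subgroup.index_ne_zero_of_finite
  obtain ⟨χ, hχ⟩ := exists_constituent hc h1
  refine ⟨χ, ?_⟩
  rw [Cfsg.Agent.S0146.result N θ _ (IsIrrCharacter.isClassFunction χ.2),
    ← classInner_conj_symm] at hχ
  intro h0
  rw [h0, map_zero] at hχ
  exact hχ rfl

theorem exists_under (N : Subgroup G) [Fintype N] {χ : G → ℂ} (hχ : Cfsg.IsIrrCharacter G χ) :
    ∃ θ : Cfsg.IrrCharacter N, Cfsg.classInner (fun n : N => χ n) (θ : N → ℂ) ≠ 0 :=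
  exists_constituent (IsCharacter.restrict N (IsIrrCharacter.isCharacter hχ))
    (Cfsg.Agent.Lib.Helper83Char.irr_one_ne_zero hχ)

theorem degree_facts (N : Subgroup G) [N.Normal] [Fintype N] {χ : G → ℂ}
    (hχ : Cfsg.IsIrrCharacter G χ) {θ : N → ℂ} (hθ : Cfsg.IsIrrCharacter N θ)
    (hcon : Cfsg.classInner (fun n : N => χ n) θ ≠ 0) :
    Cfsg.charDegree θ ∣ Cfsg.charDegree χ ∧ Cfsg.charDegree χ / Cfsg.charDegree θ ∣ N.index :=
  Cfsg.Agent.S0887.result N χ hχ θ hθ hcon _ _
    (Cfsg.Agent.Lib.Helper83Char.charDegree_cast hχ).symm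
    (Cfsg.Agent.Lib.Helper83Char.charDegree_cast hθ).symm

theorem not_dvd_normal (p : ℕ) (N : Subgroup G) [N.Normal]
    (h : ∀ χ : Cfsg.IrrCharacter G, ¬ p ∣ Cfsg.charDegree (χ : G → ℂ))
    (θ : Cfsg.IrrCharacter N) : ¬ p ∣ Cfsg.charDegree (θ : N → ℂ) := by
  have : Fintype N := Fintype.ofFinite _
  obtain ⟨χ, hχ⟩ := exists_over N θ.2
  intro hd
  exact h χ (hd.trans (degree_facts N χ.2 θ.2 hχ).1)

omit [Fintype G] in
theorem not_dvd_quotient (p : ℕ) (N : Subgroup G) [N.Normal]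
    (h : ∀ χ : Cfsg.IrrCharacter G, ¬ p ∣ Cfsg.charDegree (χ : G → ℂ))
    (θ : Cfsg.IrrCharacter (G ⧸ N)) : ¬ p ∣ Cfsg.charDegree (θ : G ⧸ N → ℂ) := by
  have := h (Cfsg.Agent.Lib.Helper82Quot.inflate N θ)
  rw [Cfsg.charDegree, Cfsg.Agent.Lib.Helper82Quot.inflate_apply] at this
  exact this

omit [Fintype G] in
theorem eq_top_of_conj_cover [Finite G] (C : Subgroup G) (h : ∀ n : G, ∃ x : G, x⁻¹ * n * x ∈ C) :
    C = ⊤ := by
  have h1 := (Cfsg.Agent.Lib.Helper63Derange.counting (G := G) (Ω := G ⧸ C) ⊥ (by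
    intro g _
    obtain ⟨x, hx⟩ := h g
    refine ⟨(x : G ⧸ C), ?_⟩
    rw [MulAction.Quotient.smul_coe, smul_eq_mul, QuotientGroup.eq]
    have : (g * x)⁻¹ * x = (x⁻¹ * g * x)⁻¹ := by group
    rw [this]
    exact C.inv_mem hx)).1
  rw [Nat.card_eq_one_iff_unique] at h1
  obtain ⟨hs, -⟩ := h1
  rw [eq_top_iff]
  intro g _
  have h2 : (Quotient.mk'' ((g : G ⧸ C)) : MulAction.orbitRel.Quotient (⊥ : Subgroup G) (G ⧸ C)) =
      Quotient.mk'' (((1 : G) : G ⧸ C)) := hs.elim _ _
  rw [Quotient.eq''] at h2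
  obtain ⟨⟨b, hb⟩, hb2⟩ := h2
  rw [Subgroup.mem_bot] at hb
  subst hb
  have h3 : (((1 : G) : G ⧸ C)) = (g : G ⧸ C) := by
    rw [← hb2]
    exact (one_smul _ _).symm
  rw [QuotientGroup.eq] at h3
  simpa using h3

end basics

section lemmaX

variable {M : Type*} [Group M] [Finite M] (p : ℕ) [Fact p.Prime] (N : Subgroup M) [hN : N.Normal]

/-- If `N` has `p`-power index and all degrees of `M` are prime to `p`, every irreducible
character of `N` is invariant. -/
theorem invariant_of_not_dvd (hidx : ∃ k : ℕ, N.index = p ^ k)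
    (h : ∀ χ : Cfsg.IrrCharacter M, ¬ p ∣ Cfsg.charDegree (χ : M → ℂ))
    (θ : Cfsg.IrrCharacter N) (x : M) (n : N) :
    (θ : N → ℂ) (MulAut.conjNormal x n) = (θ : N → ℂ) n := by
  have := Fintype.ofFinite M
  have : Fintype N := Fintype.ofFinite _
  have hp : p.Prime := Fact.out
  obtain ⟨χ, hχ⟩ := exists_over N θ.2
  obtain ⟨h1, h2⟩ := degree_facts N χ.2 θ.2 hχ
  obtain ⟨k, hk⟩ := hidx
  rw [hk] at h2
  obtain ⟨j, -, hj⟩ := (Nat.dvd_prime_pow hp).1 h2
  have hj0 : j = 0 := by
    by_contra hne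
    apply h χ
    have : p ∣ Cfsg.charDegree (χ : M → ℂ) / Cfsg.charDegree (θ : N → ℂ) := by
      rw [hj]; exact dvd_pow_self p hne
    exact this.trans (Nat.div_dvd_of_dvd h1)
  rw [hj0, pow_zero] at hj
  have hdeg : Cfsg.charDegree (χ : M → ℂ) = Cfsg.charDegree (θ : N → ℂ) := by
    have := Nat.div_mul_cancel h1
    rw [hj, one_mul] at this
    exact this.symm
  have hres := Cfsg.Agent.Lib.Helper82Mult.eq_of_degree_le
    (IsCharacter.restrict N (IsIrrCharacter.isCharacter χ.2)) θ hχ (le_of_eq hdeg)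
  rw [← hres]
  show (χ : M → ℂ) ((MulAut.conjNormal x n : N) : M) = (χ : M → ℂ) n
  rw [MulAut.conjNormal_apply, IsIrrCharacter.isClassFunction χ.2]

theorem classes_fixed (hinv : ∀ (θ : Cfsg.IrrCharacter N) (x : M) (n : N),
    (θ : N → ℂ) (MulAut.conjNormal x n) = (θ : N → ℂ) n) (x : M) (C : ConjClasses N) :
    ConjClasses.map (MulAut.conjNormal x : N ≃* N).toMonoidHom C = C := by
  classical
  have h1 := Cfsg.Agent.S0173.result (MulAut.conjNormal x : N ≃* N)
  have h2 : Nat.card {χ : Cfsg.IrrCharacter N //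
      (χ : N → ℂ) ∘ (MulAut.conjNormal x : N ≃* N) = (χ : N → ℂ)} =
      Nat.card (Cfsg.IrrCharacter N) := by
    apply Nat.card_congr
    exact Equiv.subtypeUnivEquiv (fun χ => funext fun n => hinv χ x n)
  rw [h2, Cfsg.Agent.S0133.result] at h1
  by_contra hne
  have : Fintype (ConjClasses N) := Fintype.ofFinite _
  have h3 := Fintype.card_subtype_lt (p := fun C : ConjClasses N =>
    ConjClasses.map (MulAut.conjNormal x : N ≃* N).toMonoidHom C = C) hne
  rw [Nat.card_eq_fintype_card, Nat.card_eq_fintype_card] at h1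
  omega

/-- the conjugation action of `P` on a class of `N` -/
@[instance_reducible] def classAction (P : Subgroup M)
    (hfix : ∀ (x : M) (C : ConjClasses N),
      ConjClasses.map (MulAut.conjNormal x : N ≃* N).toMonoidHom C = C) (n₀ : N) :
    MulAction P {k : N // IsConj n₀ k} where
  smul x k := ⟨MulAut.conjNormal (x : M) k.1, by
    have h1 := hfix x (ConjClasses.mk k.1)
    have h2 : ConjClasses.mk (MulAut.conjNormal (x : M) k.1) = ConjClasses.mk k.1 := h1
    exact k.2.trans (ConjClasses.mk_eq_mk_iff_isConj.1 h2).symm⟩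
  one_smul k := by
    apply Subtype.ext
    show MulAut.conjNormal ((1 : P) : M) k.1 = k.1
    simp
  mul_smul x y k := by
    apply Subtype.ext
    show MulAut.conjNormal ((x * y : P) : M) k.1 =
      MulAut.conjNormal (x : M) (MulAut.conjNormal (y : M) k.1)
    rw [Subgroup.coe_mul, map_mul, MulAut.mul_apply]

theorem lemmaX (hcop : (Nat.card N).Coprime p) (P : Sylow p M)
    (hsup : N ⊔ (P : Subgroup M) = ⊤)
    (h : ∀ χ : Cfsg.IrrCharacter M, ¬ p ∣ Cfsg.charDegree (χ : M → ℂ)) :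
    (P : Subgroup M).Normal := by
  have hp : p.Prime := Fact.out
  have hidx : ∃ k : ℕ, N.index = p ^ k := by
    have h1 : N.index = N.relIndex (P : Subgroup M) := by
      rw [← Subgroup.relIndex_sup_left, hsup, Subgroup.relIndex_top_right]
    obtain ⟨n, hn⟩ := P.2.exists_card_eq
    have h2 := Subgroup.relIndex_dvd_card N (P : Subgroup M)
    rw [hn, ← h1] at h2
    obtain ⟨j, -, hj⟩ := (Nat.dvd_prime_pow hp).1 h2
    exact ⟨j, hj⟩
  have hfix := classes_fixed N (invariant_of_not_dvd p N hidx h)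
  have hC : (Subgroup.centralizer ((P : Subgroup M) : Set M)).subgroupOf N = ⊤ := by
    apply eq_top_of_conj_cover
    intro n₀
    let _ := classAction N (P : Subgroup M) hfix n₀
    have hnd : ¬ p ∣ Nat.card {k : N // IsConj n₀ k} := by
      intro hd
      have h1 := Cfsg.Agent.Lib.Helper83Char.card_isConj_mul_card_centralizer n₀
      have h2 : p ∣ Nat.card N := by rw [← h1]; exact hd.mul_right _
      exact (Nat.Prime.coprime_iff_not_dvd hp).1 hcop.symm h2
    obtain ⟨k, hk⟩ := P.2.nonempty_fixed_point_of_prime_not_dvd_card _ hnd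
    obtain ⟨c, hc⟩ := isConj_iff.1 k.2
    refine ⟨c⁻¹, ?_⟩
    rw [inv_inv, hc, Subgroup.mem_subgroupOf, Subgroup.mem_centralizer_iff]
    intro y hy
    have h1 := congrArg (fun z => ((z.1 : N) : M)) (hk ⟨y, hy⟩)
    have h2 : ((MulAut.conjNormal y k.1 : N) : M) = (k.1 : M) := h1
    rw [MulAut.conjNormal_apply] at h2
    exact mul_inv_eq_iff_eq_mul.1 h2
  rw [← Subgroup.normalizer_eq_top_iff, eq_top_iff, ← hsup]
  refine sup_le ?_ Subgroup.le_normalizer
  refine le_trans ?_ (Subgroup.centralizer_le_normalizer _)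
  intro n hn
  have : (⟨n, hn⟩ : N) ∈ (Subgroup.centralizer ((P : Subgroup M) : Set M)).subgroupOf N := by
    rw [hC]; trivial
  exact this

end lemmaX

universe u

theorem normal_sylow_aux (p : ℕ) [Fact p.Prime] (𝒞 : ∀ (G : Type u) [Group G], Prop)
    (hq : ∀ (G : Type u) [Group G] [Finite G] (N : Subgroup G) [N.Normal], 𝒞 G → 𝒞 (G ⧸ N))
    (hn : ∀ (G : Type u) [Group G] [Finite G] [Nontrivial G], 𝒞 G →
      ∃ N : Subgroup G, N.Normal ∧ N ≠ ⊥ ∧ (IsPGroup p N ∨ (Nat.card N).Coprime p)) :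
    ∀ (n : ℕ) (G : Type u) [Group G] [Finite G], Nat.card G = n → 𝒞 G →
      (∀ χ : Cfsg.IrrCharacter G, ¬ p ∣ Cfsg.charDegree (χ : G → ℂ)) →
      ∀ P : Sylow p G, (P : Subgroup G).Normal := by
  intro n
  induction n using Nat.strong_induction_on with
  | _ n ih =>
    intro G _ _ hcard hC hdeg P
    rcases subsingleton_or_nontrivial G with hs | hnt
    · exact ⟨fun a ha g => by rw [Subsingleton.elim (g * a * g⁻¹) a]; exact ha⟩
    obtain ⟨N, hN, hN1, hcase⟩ := hn G hC
    have := hN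
    have hlt : Nat.card (G ⧸ N) < n := by
      rw [← hcard, ← Subgroup.index_eq_card, ← N.card_mul_index]
      have h1 : 1 < Nat.card N := (Subgroup.one_lt_card_iff_ne_bot N).2 hN1
      have hi : 0 < N.index := Nat.pos_of_ne_zero Subgroup.index_ne_zero_of_finite
      nlinarith
    have hPbar := ih _ hlt (G ⧸ N) rfl (hq G N hC) (not_dvd_quotient p N hdeg)
      (P.mapSurjective (QuotientGroup.mk'_surjective N))
    rw [Sylow.coe_mapSurjective] at hPbar
    have hPN : ((P : Subgroup G) ⊔ N).Normal := by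
      have := hPbar.comap (QuotientGroup.mk' N)
      rwa [Subgroup.comap_map_eq, QuotientGroup.ker_mk'] at this
    rcases hcase with hp | hcop
    · have h1 : IsPGroup p ((P : Subgroup G) ⊔ N : Subgroup G) :=
        IsPGroup.to_sup_of_normal_right P.2 hp
      have h2 := P.3 h1 le_sup_left
      rwa [h2] at hPN
    · have := Fintype.ofFinite G
      have hle : (P : Subgroup G) ≤ (P : Subgroup G) ⊔ N := le_sup_left
      have hNle : N ≤ (P : Subgroup G) ⊔ N := le_sup_right
      have hcop' : (Nat.card (N.subgroupOf ((P : Subgroup G) ⊔ N))).Coprime p := by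
        rw [Nat.card_congr (Subgroup.subgroupOfEquivOfLe hNle).toEquiv]
        exact hcop
      have hsup' : N.subgroupOf ((P : Subgroup G) ⊔ N) ⊔
          ((P.subtype hle : Sylow p ((P : Subgroup G) ⊔ N : Subgroup G)) :
            Subgroup ((P : Subgroup G) ⊔ N : Subgroup G)) = ⊤ := by
        rw [Sylow.coe_subtype, ← Subgroup.subgroupOf_sup hNle hle, sup_comm,
          Subgroup.subgroupOf_self]
      have hX := lemmaX p (N.subgroupOf ((P : Subgroup G) ⊔ N)) hcop' (P.subtype hle) hsup'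
        (not_dvd_normal p _ hdeg)
      have hchar := Sylow.characteristic_of_normal (P.subtype hle) hX
      have hfin := ConjAct.normal_of_characteristic_of_normal (hH := hPN) (h := hchar)
      rwa [Sylow.coe_subtype, Subgroup.map_subgroupOf_eq_of_le hle] at hfin

/-- Commutativity of a normal Sylow subgroup when all degrees are prime to `p`. -/
theorem comm_of_normal {G : Type*} [Group G] [Finite G] (p : ℕ) [Fact p.Prime]
    (hdeg : ∀ χ : Cfsg.IrrCharacter G, ¬ p ∣ Cfsg.charDegree (χ : G → ℂ))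
    (P : Subgroup G) (hP : IsPGroup p P) (hPn : P.Normal) : ∀ a b : P, a * b = b * a := by
  have := Fintype.ofFinite G
  have := hPn
  have hp : p.Prime := Fact.out
  rw [Cfsg.Agent.S0187.result]
  intro θ
  have h1 := not_dvd_normal p P hdeg θ
  have h2 := Cfsg.Agent.Lib.Helper82Cod.irr_degree_dvd_card θ
  obtain ⟨n, hn⟩ := hP.exists_card_eq
  rw [hn] at h2
  obtain ⟨j, -, hj⟩ := (Nat.dvd_prime_pow hp).1 h2
  have hj0 : j = 0 := by
    by_contra hne
    apply h1
    rw [hj]; exact dvd_pow_self p hne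
  rw [hj0, pow_zero] at hj
  rw [← Cfsg.Agent.Lib.Helper83Char.charDegree_cast θ.2, hj, Nat.cast_one]

/-- Ito: a normal abelian subgroup has index divisible by every irreducible degree. -/
theorem ito {G : Type*} [Group G] [Finite G] (A : Subgroup G) [A.Normal]
    (hA : ∀ a b : A, a * b = b * a) (χ : Cfsg.IrrCharacter G) :
    Cfsg.charDegree (χ : G → ℂ) ∣ A.index := by
  have := Fintype.ofFinite G
  have : Fintype A := Fintype.ofFinite _
  obtain ⟨θ, hθ⟩ := exists_under A χ.2
  have h1 := (degree_facts A χ.2 θ.2 hθ).2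
  have h2 : Cfsg.charDegree (θ : A → ℂ) = 1 := by
    have h3 := (Cfsg.Agent.S0187.result (G := A)).1 hA θ
    have h4 := Cfsg.Agent.Lib.Helper83Char.charDegree_cast θ.2
    rw [h3] at h4
    exact_mod_cast h4
  rwa [h2, Nat.div_one] at h1

theorem exists_normal_of_solvable (p : ℕ) [Fact p.Prime] (G : Type*) [Group G] [Finite G]
    [Nontrivial G] (h : Group.IsSolvable G) :
    ∃ N : Subgroup G, N.Normal ∧ N ≠ ⊥ ∧ (IsPGroup p N ∨ (Nat.card N).Coprime p) := by
  obtain ⟨A, hchar, hne, hcomm⟩ := Cfsg.Agent.Lib.Helper71Solv.exists_abelian_normal (G := G)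
  have hA1 : Nat.card A ≠ 1 := fun h1 => hne ((Subgroup.card_eq_one).1 h1)
  have hq : (Nat.card A).minFac.Prime := Nat.minFac_prime hA1
  have : Fact (Nat.card A).minFac.Prime := ⟨hq⟩
  set q := (Nat.card A).minFac with hqdef
  obtain ⟨Q⟩ : Nonempty (Sylow q A) := inferInstance
  have hQn : (Q : Subgroup A).Normal := by
    refine ⟨fun n hn g => ?_⟩
    have : g * n * g⁻¹ = n := by
      have h1 : g * n = n * g := Subtype.ext (hcomm g g.2 n n.2)
      rw [h1, mul_inv_cancel_right]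
    rwa [this]
  have hQc := Sylow.characteristic_of_normal Q hQn
  have hAn : A.Normal := inferInstance
  have hN := ConjAct.normal_of_characteristic_of_normal (hH := hAn) (h := hQc)
  have hcard : Nat.card ((Q : Subgroup A).map A.subtype) = Nat.card (Q : Subgroup A) :=
    Subgroup.card_map_of_injective A.subtype_injective
  have hQcard := Q.card_eq_multiplicity
  have hfac : (Nat.card A).factorization q ≠ 0 := by
    have hd : q ∣ Nat.card A := Nat.minFac_dvd _
    exact (Nat.Prime.factorization_pos_of_dvd hq Nat.card_pos.ne' hd).ne'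
  refine ⟨(Q : Subgroup A).map A.subtype, hN, ?_, ?_⟩
  · intro hbot
    rw [hbot, Subgroup.card_bot, hQcard] at hcard
    have : 1 < q ^ (Nat.card A).factorization q := Nat.one_lt_pow hfac hq.one_lt
    omega
  · by_cases hpq : q = p
    · left
      have h5 := Q.2.map A.subtype
      intro g
      obtain ⟨k, hk⟩ := h5 g
      exact ⟨k, hpq ▸ hk⟩
    · right
      rw [hcard, hQcard]
      apply Nat.Coprime.pow_left
      exact (Nat.coprime_primes hq Fact.out).2 hpq

end Cfsg.Agent.Lib.Helper83Ito
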