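import Mathlib
import Cfsg.Agent.Lib.Helper61ZTDefs
import Cfsg.Agent.Lib.Helper61Feit13
import Cfsg.Agent.Lib.Helper83Ito

/-!
PROJECT 61, PART C, piece `D1`.
-/

set_option autoImplicit false

namespace Cfsg.Agent.Lib.Helper36ZTD1

open Cfsg Cfsg.Agent.Lib.Helper4Char Cfsg.Agent.Lib.Helper4Char2 Cfsg.Agent.Lib.Helper4Char4
  Cfsg.Agent.Lib.Helper61Feit7 Cfsg.Agent.Lib.Helper61Feit8 Cfsg.Agent.Lib.Helper61ZTDefs
open scoped ComplexConjugate Classical

variable {G : Type*} [Group G] [Fintype G] {K Z : Subgroup G}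
  [Fintype ↥(Subgroup.normalizer (K : Set G))] {q h : ℕ}

/-- `Z` inside the normaliser of `K` -/
abbrev ZN (K Z : Subgroup G) : Subgroup ↥(Subgroup.normalizer (K : Set G)) :=
  Z.subgroupOf (Subgroup.normalizer (K : Set G))

omit [Fintype ↥(Subgroup.normalizer (K : Set G))] in
theorem ZN_normal (hz : ZT K Z q h) : (ZN K Z).Normal := by
  constructor
  intro z hzz n
  rw [Subgroup.mem_subgroupOf] at hzz ⊢
  obtain ⟨h1, h2⟩ := (hz.hZ _).1 hzz
  rw [hz.hZ]
  constructor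
  · have := (Subgroup.mem_normalizer_iff.1 n.2 (z : G)).1 h1
    simpa using this
  · have e : ((n * z * n⁻¹ : ↥(Subgroup.normalizer (K : Set G))) : G)
        * ((n * z * n⁻¹ : ↥(Subgroup.normalizer (K : Set G))) : G)
        = (n : G) * ((z : G) * (z : G)) * (n : G)⁻¹ := by
      push_cast; group
    rw [e, h2]; group

omit [Fintype ↥(Subgroup.normalizer (K : Set G))] in
theorem ZN_le (hz : ZT K Z q h) : ZN K Z ≤ KN K := by
  intro z hzz
  rw [Subgroup.mem_subgroupOf] at hzz ⊢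
  exact ((hz.hZ _).1 hzz).1

/-- an irreducible character of the normaliser with `Z` in its kernel has degree dividing `q - 1` -/
theorem deg_dvd (hz : ZT K Z q h) (ψ : IrrCharacter ↥(Subgroup.normalizer (K : Set G)))
    (hψ : ∀ x : ↥(Subgroup.normalizer (K : Set G)), (x : G) ∈ Z →
      (ψ : ↥(Subgroup.normalizer (K : Set G)) → ℂ) x = (ψ : ↥(Subgroup.normalizer (K : Set G)) → ℂ) 1) :
    ∃ n : ℕ, (ψ : ↥(Subgroup.normalizer (K : Set G)) → ℂ) 1 = n ∧ n ∣ q - 1 := by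
  haveI := ZN_normal hz
  obtain ⟨ψ', hψ'⟩ := Cfsg.Agent.Lib.Helper82Quot.exists_deflate (ZN K Z) ψ
    (fun n hn => hψ n (Subgroup.mem_subgroupOf.1 hn))
  let A : Subgroup (↥(Subgroup.normalizer (K : Set G)) ⧸ ZN K Z) :=
    (KN K).map (QuotientGroup.mk' (ZN K Z))
  haveI : A.Normal := Subgroup.Normal.map inferInstance _ (QuotientGroup.mk'_surjective _)
  have hsq : ∀ a : A, a * a = 1 := by
    rintro ⟨a, k, hk, rfl⟩
    apply Subtype.ext
    show (QuotientGroup.mk' (ZN K Z)) k * (QuotientGroup.mk' (ZN K Z)) k = 1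
    rw [← map_mul, QuotientGroup.mk'_apply, QuotientGroup.eq_one_iff, Subgroup.mem_subgroupOf]
    exact hz.sq _ (Subgroup.mem_subgroupOf.1 hk)
  have hA : ∀ a b : A, a * b = b * a := by
    intro a b
    have h1 := hsq (a * b)
    have h2 := hsq a
    have h3 := hsq b
    calc a * b = b * b * (a * b) * (a * a) := by rw [h2, h3]; group
      _ = b * ((b * a) * (b * a)) * a := by group
      _ = b * a := by rw [hsq (b * a)]; group
  have hidx : A.index = q - 1 := by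
    rw [← hz.he]
    apply Subgroup.index_map_eq _ (QuotientGroup.mk'_surjective _)
    rw [QuotientGroup.ker_mk']
    exact ZN_le hz
  have h1 := Cfsg.Agent.Lib.Helper83Ito.ito A hA ψ'
  rw [hidx] at h1
  refine ⟨_, ?_, h1⟩
  rw [Cfsg.Agent.Lib.Helper83Char.charDegree_cast ψ'.2, ← hψ']
  rfl

/-- an irreducible character of the normaliser with `Z` in its kernel is real on `K` -/
theorem real_on (hz : ZT K Z q h) (ψ : IrrCharacter ↥(Subgroup.normalizer (K : Set G)))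
    (hψ : ∀ x : ↥(Subgroup.normalizer (K : Set G)), (x : G) ∈ Z →
      (ψ : ↥(Subgroup.normalizer (K : Set G)) → ℂ) x = (ψ : ↥(Subgroup.normalizer (K : Set G)) → ℂ) 1)
    (x : ↥(Subgroup.normalizer (K : Set G))) (hx : (x : G) ∈ K) :
    conj ((ψ : ↥(Subgroup.normalizer (K : Set G)) → ℂ) x)
      = (ψ : ↥(Subgroup.normalizer (K : Set G)) → ℂ) x := by
  haveI := ZN_normal hz
  obtain ⟨ψ', hψ'⟩ := Cfsg.Agent.Lib.Helper82Quot.exists_deflate (ZN K Z) ψ
    (fun n hn => hψ n (Subgroup.mem_subgroupOf.1 hn))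
  rw [← IsCharacter.apply_inv (IsIrrCharacter.isCharacter ψ.2), ← hψ',
    Cfsg.Agent.Lib.Helper82Quot.inflate_apply, Cfsg.Agent.Lib.Helper82Quot.inflate_apply]
  have e : ((x⁻¹ : ↥(Subgroup.normalizer (K : Set G))) : ↥(Subgroup.normalizer (K : Set G)) ⧸ ZN K Z)
      = (x : ↥(Subgroup.normalizer (K : Set G)) ⧸ ZN K Z) := by
    rw [QuotientGroup.eq, inv_inv, Subgroup.mem_subgroupOf]
    exact hz.sq _ hx
  rw [e]

/-- `D1`, with the pieces `Rgen` and `edvd` as hypotheses -/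
theorem D1_of (hz : ZT K Z q (q ^ 3))
    (hR : (((q ^ 3 * (q - 1) / q : ℕ) : ℂ)) • dZ K Z
      = ∑ ν ∈ Finset.univ.filter (fun ν : IrrCharacter ↥(Subgroup.normalizer (K : Set G)) =>
          ∀ x : ↥(Subgroup.normalizer (K : Set G)), (x : G) ∈ Z →
            (ν : ↥(Subgroup.normalizer (K : Set G)) → ℂ) x = (ν : ↥(Subgroup.normalizer (K : Set G)) → ℂ) 1),
        (ν : ↥(Subgroup.normalizer (K : Set G)) → ℂ) 1 • (ν : ↥(Subgroup.normalizer (K : Set G)) → ℂ))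
    (hE : ∀ ψ : IrrCharacter ↥(Subgroup.normalizer (K : Set G)), ψ ∈ SF (KN K) →
      ∃ d : ℕ, (ψ : ↥(Subgroup.normalizer (K : Set G)) → ℂ) 1 = ((q - 1) * d : ℕ)) :
    ∃ I : Finset (IrrCharacter ↥(Subgroup.normalizer (K : Set G))), I.card = q + 1 ∧ I ⊆ SF (KN K) ∧
      (∀ ψ ∈ I, (ψ : ↥(Subgroup.normalizer (K : Set G)) → ℂ) 1 = (q : ℂ) - 1) ∧
      (∀ ψ ∈ I, ∀ x, conj ((ψ : ↥(Subgroup.normalizer (K : Set G)) → ℂ) x)
        = (ψ : ↥(Subgroup.normalizer (K : Set G)) → ℂ) x) ∧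
      ∑ ψ ∈ I, (ψ : ↥(Subgroup.normalizer (K : Set G)) → ℂ) = ((q : ℂ) ^ 2) • dZ K Z - dK K := by
  have hq := hz.hq
  have hq1 : (1 : ℕ) ≤ q := by omega
  have hqc : ((q - 1 : ℕ) : ℂ) = (q : ℂ) - 1 := by push_cast [Nat.cast_sub hq1]; ring
  have hqne : (q : ℂ) - 1 ≠ 0 := by
    rw [← hqc]; exact Nat.cast_ne_zero.2 (by omega)
  set NZ := Finset.univ.filter (fun ν : IrrCharacter ↥(Subgroup.normalizer (K : Set G)) =>
          ∀ x : ↥(Subgroup.normalizer (K : Set G)), (x : G) ∈ Z →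
            (ν : ↥(Subgroup.normalizer (K : Set G)) → ℂ) x = (ν : ↥(Subgroup.normalizer (K : Set G)) → ℂ) 1)
    with hNZ
  set I := NZ.filter (fun ν : IrrCharacter ↥(Subgroup.normalizer (K : Set G)) => ¬ ∀ k ∈ KN K, (ν : ↥(Subgroup.normalizer (K : Set G)) → ℂ) k
    = (ν : ↥(Subgroup.normalizer (K : Set G)) → ℂ) 1) with hI
  have hISF : I ⊆ SF (KN K) := by
    intro ψ hψ
    rw [hI, Finset.mem_filter] at hψ
    simp only [SF, Finset.mem_filter, Finset.mem_univ, true_and]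
    exact hψ.2
  have hIZ : ∀ ψ ∈ I, ∀ x : ↥(Subgroup.normalizer (K : Set G)), (x : G) ∈ Z →
      (ψ : ↥(Subgroup.normalizer (K : Set G)) → ℂ) x = (ψ : ↥(Subgroup.normalizer (K : Set G)) → ℂ) 1 := by
    intro ψ hψ
    rw [hI, Finset.mem_filter, hNZ, Finset.mem_filter] at hψ
    exact hψ.1.2
  have hNS : NZ.filter (fun ν : IrrCharacter ↥(Subgroup.normalizer (K : Set G)) => ∀ k ∈ KN K, (ν : ↥(Subgroup.normalizer (K : Set G)) → ℂ) k
      = (ν : ↥(Subgroup.normalizer (K : Set G)) → ℂ) 1) = NS (KN K) := by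
    ext ν
    simp only [hNZ, NS, Finset.mem_filter, Finset.mem_univ, true_and]
    constructor
    · exact fun h => h.2
    · intro h
      exact ⟨fun x hx => h x (ZN_le hz (Subgroup.mem_subgroupOf.2 hx)), h⟩
  have hdeg : ∀ ψ ∈ I, (ψ : ↥(Subgroup.normalizer (K : Set G)) → ℂ) 1 = (q : ℂ) - 1 := by
    intro ψ hψ
    obtain ⟨n, hn, hnd⟩ := deg_dvd hz ψ (hIZ ψ hψ)
    obtain ⟨d, hd⟩ := hE ψ (hISF hψ)
    have h1 : n = (q - 1) * d := by
      have : (n : ℂ) = ((q - 1) * d : ℕ) := by rw [← hn, hd]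
      exact_mod_cast this
    have h2 : n ≤ q - 1 := Nat.le_of_dvd (by omega) hnd
    have h3 : n ≠ 0 := by
      rintro rfl
      rw [Nat.zero_dvd] at hnd
      omega
    have h4 : d = 1 := by
      rcases Nat.lt_or_ge d 2 with h5 | h5
      · interval_cases d
        · simp at h1; exact absurd h1 h3
        · rfl
      · exfalso
        have : (q - 1) * 2 ≤ (q - 1) * d := Nat.mul_le_mul_left _ h5
        omega
    rw [hn, h1, h4, mul_one, hqc]
  have hRK : R (KN K) = ((q : ℂ) - 1) • dK K := by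
    funext x
    rw [R_apply (KN K) (hv K hz.hC) x, hz.he, hqc]
    simp only [dK, Pi.smul_apply, smul_eq_mul, Subgroup.mem_subgroupOf]
    split_ifs <;> simp
  have hnat : q ^ 3 * (q - 1) / q = q ^ 2 * (q - 1) := by
    have : q ^ 3 * (q - 1) = q * (q ^ 2 * (q - 1)) := by ring
    rw [this, Nat.mul_div_cancel_left _ (by omega)]
  have hsum : ∑ ψ ∈ I, (ψ : ↥(Subgroup.normalizer (K : Set G)) → ℂ) 1
        • (ψ : ↥(Subgroup.normalizer (K : Set G)) → ℂ)
      = ((q : ℂ) - 1) • (((q : ℂ) ^ 2) • dZ K Z - dK K) := by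
    have h1 := Finset.sum_filter_add_sum_filter_not NZ
      (fun ν : IrrCharacter ↥(Subgroup.normalizer (K : Set G)) =>
        ∀ k ∈ KN K, (ν : ↥(Subgroup.normalizer (K : Set G)) → ℂ) k
        = (ν : ↥(Subgroup.normalizer (K : Set G)) → ℂ) 1)
      (fun ν : IrrCharacter ↥(Subgroup.normalizer (K : Set G)) =>
        (ν : ↥(Subgroup.normalizer (K : Set G)) → ℂ) 1
        • (ν : ↥(Subgroup.normalizer (K : Set G)) → ℂ))
    rw [hNS, ← hR, hnat] at h1
    have h2 : ∑ ν ∈ NS (KN K), (ν : ↥(Subgroup.normalizer (K : Set G)) → ℂ) 1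
        • (ν : ↥(Subgroup.normalizer (K : Set G)) → ℂ) = ((q : ℂ) - 1) • dK K := hRK
    rw [h2] at h1
    have h3 := eq_sub_of_add_eq' h1
    rw [← hI] at h3
    rw [h3]
    push_cast [hqc]
    rw [smul_sub, smul_smul]
    ring_nf
  have hsum2 : ∑ ψ ∈ I, (ψ : ↥(Subgroup.normalizer (K : Set G)) → ℂ)
      = ((q : ℂ) ^ 2) • dZ K Z - dK K := by
    have h1 : ∑ ψ ∈ I, (ψ : ↥(Subgroup.normalizer (K : Set G)) → ℂ) 1
        • (ψ : ↥(Subgroup.normalizer (K : Set G)) → ℂ)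
        = ((q : ℂ) - 1) • ∑ ψ ∈ I, (ψ : ↥(Subgroup.normalizer (K : Set G)) → ℂ) := by
      rw [Finset.smul_sum]
      exact Finset.sum_congr rfl (fun ψ hψ => by rw [hdeg ψ hψ])
    rw [h1] at hsum
    exact smul_right_injective _ hqne hsum
  refine ⟨I, ?_, hISF, hdeg, ?_, hsum2⟩
  · have h1 := congrFun hsum2 1
    rw [Finset.sum_apply, Finset.sum_congr rfl hdeg, Finset.sum_const, nsmul_eq_mul] at h1
    simp only [dZ, dK, Pi.sub_apply, Pi.smul_apply, smul_eq_mul, Subgroup.coe_one, Z.one_mem,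
      K.one_mem, if_true, mul_one] at h1
    have h2 : ((I.card : ℂ) - ((q : ℂ) + 1)) * ((q : ℂ) - 1) = 0 := by linear_combination h1
    rcases mul_eq_zero.1 h2 with h3 | h3
    · have : (I.card : ℂ) = ((q + 1 : ℕ) : ℂ) := by push_cast; linear_combination h3
      exact_mod_cast this
    · exact absurd h3 hqne
  · intro ψ hψ x
    by_cases hx : (x : G) ∈ K
    · exact real_on hz ψ (hIZ ψ hψ) x hx
    · rw [hv K hz.hC ψ (hISF hψ) x (fun h => hx (Subgroup.mem_subgroupOf.1 h)), map_zero]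

end Cfsg.Agent.Lib.Helper36ZTD1
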