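import Mathlib
import Cfsg.Agent.Lib.Helper61ZTDefs

/-!
PROJECT 61, PART C, piece `nu` (Frobenius-Schur indicator formula).
-/

set_option autoImplicit false

namespace Cfsg.Agent.Lib.Helper3ZTNu

open Cfsg Cfsg.Agent.Lib.Helper4Char Cfsg.Agent.Lib.Helper61ZTDefs
open scoped ComplexConjugate Classical

section Pure

variable {G : Type*} [Group G] [Fintype G]

/-- squaring permutes the elements of odd order -/
theorem sum_odd_sq (F : G → ℂ) :
    ∑ g ∈ Finset.univ.filter (fun g : G => Odd (orderOf g)), F (g * g)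
      = ∑ g ∈ Finset.univ.filter (fun g : G => Odd (orderOf g)), F g := by
  have hord : ∀ g : G, Odd (orderOf g) → orderOf (g * g) = orderOf g := by
    intro g hg
    have hc : Nat.gcd (orderOf g) 2 = 1 := Nat.coprime_two_right.2 hg
    rw [← pow_two, orderOf_pow, hc, Nat.div_one]
  have hhalf : ∀ g : G, Odd (orderOf g) → g ^ ((orderOf g + 1) / 2) * g ^ ((orderOf g + 1) / 2) = g := by
    intro g hg
    obtain ⟨k, hk⟩ := hg
    rw [← pow_add, show (orderOf g + 1) / 2 + (orderOf g + 1) / 2 = orderOf g + 1 by omega, pow_succ,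
      pow_orderOf_eq_one, one_mul]
  refine Finset.sum_nbij' (fun g => g * g) (fun g => g ^ ((orderOf g + 1) / 2)) ?_ ?_ ?_ ?_ ?_
  · intro g hg
    rw [Finset.mem_filter] at hg ⊢
    exact ⟨Finset.mem_univ _, by rw [hord g hg.2]; exact hg.2⟩
  · intro g hg
    rw [Finset.mem_filter] at hg ⊢
    exact ⟨Finset.mem_univ _, Odd.of_dvd_nat hg.2 (orderOf_pow_dvd _)⟩
  · intro g hg
    rw [Finset.mem_filter] at hg
    show (g * g) ^ ((orderOf (g * g) + 1) / 2) = g
    rw [hord g hg.2, (Commute.refl g).mul_pow]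
    exact hhalf g hg.2
  · intro g hg
    rw [Finset.mem_filter] at hg
    exact hhalf g hg.2
  · intro g _
    rfl

/-- number of conjugating elements -/
theorem card_conj_into (K : Subgroup G)
    (hTI : ∀ g : G, g ∉ Subgroup.normalizer (K : Set G) → ∀ k ∈ K, g * k * g⁻¹ ∈ K → k = 1)
    {g x₀ : G} (hg : g ≠ 1) (hx₀ : x₀ * g * x₀⁻¹ ∈ K) :
    (Finset.univ.filter (fun x : G => x * g * x⁻¹ ∈ K)).card
      = Nat.card ↥(Subgroup.normalizer (K : Set G)) := by
  have hu1 : x₀ * g * x₀⁻¹ ≠ 1 := by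
    intro hh
    apply hg
    have : g = x₀⁻¹ * (x₀ * g * x₀⁻¹) * x₀ := by group
    rw [this, hh]; group
  rw [← Nat.card_eq_finsetCard]
  symm
  refine Nat.card_congr (Equiv.ofBijective
    (fun n : ↥(Subgroup.normalizer (K : Set G)) => ⟨(n : G) * x₀, ?_⟩) ⟨?_, ?_⟩)
  · rw [Finset.mem_filter]
    refine ⟨Finset.mem_univ _, ?_⟩
    have e : (n : G) * x₀ * g * ((n : G) * x₀)⁻¹ = n * (x₀ * g * x₀⁻¹) * (n : G)⁻¹ := by group
    rw [e]
    exact (Subgroup.mem_normalizer_iff.1 n.2 _).1 hx₀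
  · intro a b hab
    have := congrArg Subtype.val hab
    exact Subtype.ext (mul_right_cancel this)
  · rintro ⟨x, hx⟩
    rw [Finset.mem_filter] at hx
    have hmem : x * x₀⁻¹ ∈ Subgroup.normalizer (K : Set G) := by
      by_contra hn
      apply hu1
      apply hTI _ hn _ hx₀
      have e : x * x₀⁻¹ * (x₀ * g * x₀⁻¹) * (x * x₀⁻¹)⁻¹ = x * g * x⁻¹ := by group
      rw [e]
      exact hx.2
    refine ⟨⟨x * x₀⁻¹, hmem⟩, Subtype.ext ?_⟩
    show x * x₀⁻¹ * x₀ = x
    group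

/-- sum of a class function over the conjugates of `K \ 1` -/
theorem sum_conj (K : Subgroup G)
    (hTI : ∀ g : G, g ∉ Subgroup.normalizer (K : Set G) → ∀ k ∈ K, g * k * g⁻¹ ∈ K → k = 1)
    (F : G → ℂ) (hF : ∀ g x : G, F (x * g * x⁻¹) = F g) :
    (Nat.card ↥(Subgroup.normalizer (K : Set G)) : ℂ) *
        ∑ g ∈ Finset.univ.filter (fun g : G => g ≠ 1 ∧ ∃ x : G, x * g * x⁻¹ ∈ K), F g
      = (Nat.card G : ℂ) * ∑ u ∈ Finset.univ.filter (fun u : G => u ≠ 1 ∧ u ∈ K), F u := by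
  have h1 : ∑ x : G, ∑ g : G, (if g ≠ 1 ∧ x * g * x⁻¹ ∈ K then F g else 0)
      = (Nat.card G : ℂ) * ∑ u ∈ Finset.univ.filter (fun u : G => u ≠ 1 ∧ u ∈ K), F u := by
    have : ∀ x : G, ∑ g : G, (if g ≠ 1 ∧ x * g * x⁻¹ ∈ K then F g else 0)
        = ∑ u ∈ Finset.univ.filter (fun u : G => u ≠ 1 ∧ u ∈ K), F u := by
      intro x
      rw [Finset.sum_filter]
      refine Fintype.sum_equiv (MulAut.conj x).toEquiv _ _ ?_
      intro g
      show _ = if x * g * x⁻¹ ≠ 1 ∧ x * g * x⁻¹ ∈ K then F (x * g * x⁻¹) else 0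
      have e : x * g * x⁻¹ ≠ 1 ↔ g ≠ 1 := by
        rw [Ne, Ne, conj_eq_one_iff]
      rw [hF]
      simp only [e]
    rw [Finset.sum_congr rfl (fun x _ => this x), Finset.sum_const, Finset.card_univ, nsmul_eq_mul,
      Nat.card_eq_fintype_card]
  rw [← h1, Finset.sum_comm, Finset.sum_filter, Finset.mul_sum]
  refine Finset.sum_congr rfl ?_
  intro g _
  split_ifs with hg
  · obtain ⟨hg1, x₀, hx₀⟩ := hg
    rw [← card_conj_into K hTI hg1 hx₀]
    simp only [hg1, ne_eq, not_false_eq_true, true_and]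
    rw [← Finset.sum_filter, Finset.sum_const, nsmul_eq_mul]
  · rw [mul_zero]
    symm
    apply Finset.sum_eq_zero
    intro x _
    rw [if_neg]
    rintro ⟨h2, h3⟩
    exact hg ⟨h2, x, h3⟩

theorem sum_sub (L H : Subgroup G) [Fintype L] (hHL : H ≤ L) (F : G → ℂ) :
    ∑ x : L, F x * (if (x : G) ∈ H then 1 else 0)
      = ∑ g ∈ Finset.univ.filter (fun g : G => g ∈ H), F g := by
  rw [← Finset.sum_subtype (Finset.univ.filter (fun g : G => g ∈ L)) (by simp)
    (fun g => F g * (if g ∈ H then 1 else 0))]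
  rw [Finset.sum_filter, Finset.sum_filter]
  refine Finset.sum_congr rfl fun g _ => ?_
  by_cases hg : g ∈ H
  · simp [hg, hHL hg]
  · simp [hg]

end Pure

variable {G : Type*} [Group G] [Fintype G] {K Z : Subgroup G}
  [Fintype ↥(Subgroup.normalizer (K : Set G))] {q h : ℕ}

omit [Fintype ↥(Subgroup.normalizer (K : Set G))] in
theorem even_iff (hz : ZT K Z q h) (g : G) :
    (g ≠ 1 ∧ ∃ x : G, x * g * x⁻¹ ∈ K) ↔ ¬ Odd (orderOf g) := by
  constructor
  · rintro ⟨hg, x, hx⟩ hodd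
    obtain ⟨k, hk⟩ := (IsPGroup.iff_orderOf.mp hz.two) ⟨x * g * x⁻¹, hx⟩
    rw [Subgroup.orderOf_mk] at hk
    have e : orderOf (x * g * x⁻¹) = orderOf g := by
      have := (MulAut.conj x).orderOf_eq g
      simpa using this
    rw [e] at hk
    rcases Nat.eq_zero_or_pos k with rfl | hk0
    · rw [pow_zero, orderOf_eq_one_iff] at hk
      exact hg hk
    · rw [hk] at hodd
      have : Even (2 ^ k) := (Nat.even_pow.2 ⟨even_two, hk0.ne'⟩)
      exact (Nat.not_even_iff_odd.2 hodd) this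
  · intro hodd
    refine ⟨?_, ?_⟩
    · rintro rfl
      apply hodd
      rw [orderOf_one]
      exact odd_one
    · rcases hz.part g with hx | ho
      · exact hx
      · exact absurd ho hodd

omit [Fintype ↥(Subgroup.normalizer (K : Set G))] in
theorem sum_sq (hz : ZT K Z q h) (r : ℕ) (hr : h = q + (q - 1) * r) (F : G → ℂ) :
    ∑ u ∈ Finset.univ.filter (fun u : G => u ∈ K), F (u * u)
      = ((q : ℂ) - r) * F 1 + r * ∑ z ∈ Finset.univ.filter (fun z : G => z ∈ Z), F z := by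
  set KF := Finset.univ.filter (fun u : G => u ∈ K) with hKF
  set ZF := Finset.univ.filter (fun u : G => u ∈ Z) with hZF
  have hq := hz.hq
  have memK : ∀ u, u ∈ KF ↔ u ∈ K := fun u => by rw [hKF, Finset.mem_filter]; simp
  have memZ : ∀ u, u ∈ ZF ↔ u ∈ Z := fun u => by rw [hZF, Finset.mem_filter]; simp
  have cardK : KF.card = h := by
    rw [← hz.hK, Nat.card_eq_fintype_card, Fintype.card_subtype]
  have cardZ : ZF.card = q := by
    rw [← hz.cardZ, Nat.card_eq_fintype_card, Fintype.card_subtype]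
  have hmaps : ∀ u ∈ KF, u * u ∈ ZF := fun u hu => (memZ _).2 (hz.sq u ((memK u).1 hu))
  let N : G → ℕ := fun z => (KF.filter (fun u => u * u = z)).card
  have h1 : ∑ u ∈ KF, F (u * u) = ∑ z ∈ ZF, (N z : ℂ) * F z := by
    rw [← Finset.sum_fiberwise_of_maps_to hmaps]
    refine Finset.sum_congr rfl fun z _ => ?_
    rw [Finset.sum_congr rfl (g := fun _ => F z), Finset.sum_const, nsmul_eq_mul]
    intro u hu
    rw [(Finset.mem_filter.1 hu).2]
  have hN1 : N 1 = q := by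
    rw [← cardZ]
    show (KF.filter (fun u => u * u = 1)).card = ZF.card
    apply congrArg Finset.card
    ext u
    rw [Finset.mem_filter, memK, memZ, hz.hZ]
  have hle : ∀ z ∈ Z, ∀ z' ∈ Z, z ≠ 1 → z' ≠ 1 → N z ≤ N z' := by
    intro z hzZ z' hz'Z hz1 hz'1
    obtain ⟨n, hn, hnz⟩ := hz.tr z hzZ z' hz'Z hz1 hz'1
    refine Finset.card_le_card_of_injOn (fun u => n * u * n⁻¹) ?_ ?_
    · intro u hu
      rw [Finset.mem_coe, Finset.mem_filter, memK] at hu ⊢
      refine ⟨(Subgroup.mem_normalizer_iff.1 hn u).1 hu.1, ?_⟩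
      rw [← hnz, ← hu.2]
      group
    · intro a _ b _ hab
      exact (MulAut.conj n).injective hab
  have hsum : ∑ z ∈ ZF, N z = h := by
    rw [← cardK]
    exact (Finset.card_eq_sum_card_fiberwise hmaps).symm
  have h1Z : (1 : G) ∈ ZF := (memZ 1).2 (one_mem Z)
  have hNr : ∀ z ∈ ZF.erase 1, N z = r := by
    intro z hzE
    rw [Finset.mem_erase, memZ] at hzE
    have h2 : ∑ z' ∈ ZF.erase 1, N z' = (q - 1) * N z := by
      rw [Finset.sum_congr rfl (g := fun _ => N z), Finset.sum_const, Finset.card_erase_of_mem h1Z, cardZ,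
        smul_eq_mul]
      intro z' hz'
      rw [Finset.mem_erase, memZ] at hz'
      exact le_antisymm (hle z' hz'.2 z hzE.2 hz'.1 hzE.1) (hle z hzE.2 z' hz'.2 hzE.1 hz'.1)
    have h3 : N 1 + ∑ z' ∈ ZF.erase 1, N z' = h := by
      rw [Finset.add_sum_erase ZF N h1Z, hsum]
    rw [hN1, h2, hr] at h3
    have h4 : (q - 1) * N z = (q - 1) * r := by omega
    exact Nat.eq_of_mul_eq_mul_left (by omega) h4
  rw [h1, ← Finset.add_sum_erase ZF _ h1Z, ← Finset.add_sum_erase ZF F h1Z, hN1,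
    Finset.sum_congr rfl (g := fun z => (r : ℂ) * F z) (fun z hzE => by rw [hNr z hzE]), ← Finset.mul_sum]
  ring

theorem nu (hz : ZT K Z q h) (r : ℕ) (hr : h = q + (q - 1) * r) (χ : IrrCharacter G) :
    (Nat.card G : ℂ)⁻¹ * ∑ g : G, (χ : G → ℂ) (g * g)
      = classInner (χ : G → ℂ) (fun _ => 1)
        + classInner (rs K χ) ((((q : ℂ) - r) • d1 K + (r : ℂ) • dZ K Z) - dK K) := by
  obtain ⟨F, hχ⟩ := χ
  show (Nat.card G : ℂ)⁻¹ * ∑ g : G, F (g * g)
      = classInner F (fun _ => 1)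
        + classInner (rs K F) ((((q : ℂ) - r) • d1 K + (r : ℂ) • dZ K Z) - dK K)
  have hcl : ∀ g x : G, F (x * g * x⁻¹) = F g := fun g x => (IsIrrCharacter.isClassFunction hχ) g x
  have hcl2 : ∀ g x : G, F ((x * g * x⁻¹) * (x * g * x⁻¹)) = F (g * g) := by
    intro g x
    rw [show x * g * x⁻¹ * (x * g * x⁻¹) = x * (g * g) * x⁻¹ by group]
    exact hcl _ _
  have split : ∀ Φ : G → ℂ, ∑ g, Φ g = ∑ g ∈ Finset.univ.filter (fun g : G => Odd (orderOf g)), Φ g
      + ∑ g ∈ Finset.univ.filter (fun g : G => g ≠ 1 ∧ ∃ x : G, x * g * x⁻¹ ∈ K), Φ g := by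
    intro Φ
    rw [← Finset.sum_filter_add_sum_filter_not Finset.univ (fun g : G => Odd (orderOf g))]
    congr 1
    refine Finset.sum_congr ?_ (fun _ _ => rfl)
    ext g
    rw [Finset.mem_filter, Finset.mem_filter, even_iff hz]
  have A1 := sum_conj K hz.hTI (fun g => F (g * g)) hcl2
  have A2 := sum_conj K hz.hTI F hcl
  have hers : ∀ Φ : G → ℂ, ∑ u ∈ Finset.univ.filter (fun u : G => u ≠ 1 ∧ u ∈ K), Φ u
      = ∑ u ∈ Finset.univ.filter (fun u : G => u ∈ K), Φ u - Φ 1 := by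
    intro Φ
    have h1K : (1 : G) ∈ Finset.univ.filter (fun u : G => u ∈ K) := by simp [one_mem]
    rw [← Finset.add_sum_erase _ Φ h1K, add_sub_cancel_left]
    refine Finset.sum_congr ?_ (fun _ _ => rfl)
    ext g
    simp
  rw [hers] at A1 A2
  rw [sum_sq hz r hr F, mul_one] at A1
  have hZK : Z ≤ K := fun u hu => ((hz.hZ u).1 hu).1
  have hKL : K ≤ Subgroup.normalizer (K : Set G) := Subgroup.le_normalizer
  have T : ∑ x : ↥(Subgroup.normalizer (K : Set G)),
      rs K F x * conj (((((q : ℂ) - r) • d1 K + (r : ℂ) • dZ K Z) - dK K) x)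
      = ((q : ℂ) - r) * F 1 + r * ∑ z ∈ Finset.univ.filter (fun z : G => z ∈ Z), F z
        - ∑ u ∈ Finset.univ.filter (fun u : G => u ∈ K), F u := by
    rw [← sum_sub _ Z (hZK.trans hKL) F, ← sum_sub _ K hKL F]
    have e1 : F 1 = ∑ x : ↥(Subgroup.normalizer (K : Set G)), F x * (if x = 1 then 1 else 0) := by
      simp
    rw [e1, Finset.mul_sum, Finset.mul_sum, ← Finset.sum_add_distrib, ← Finset.sum_sub_distrib]
    refine Finset.sum_congr rfl fun x _ => ?_
    simp only [rs, d1, dZ, dK, Pi.sub_apply, Pi.add_apply, Pi.smul_apply, smul_eq_mul, map_sub, map_add,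
      map_mul, Complex.conj_natCast, apply_ite conj, map_one, map_zero]
    ring
  have hG0 : (Nat.card G : ℂ) ≠ 0 := by
    exact_mod_cast Nat.card_pos.ne'
  have hL0 : (Nat.card ↥(Subgroup.normalizer (K : Set G)) : ℂ) ≠ 0 := by
    exact_mod_cast Nat.card_pos.ne'
  rw [classInner, classInner, T, split (fun g => F (g * g)), sum_odd_sq]
  simp only [map_one, mul_one]
  rw [split F]
  field_simp
  linear_combination A1 - A2

end Cfsg.Agent.Lib.Helper3ZTNu
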