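import Mathlib
import Cfsg.Agent.Lib.Helper61ZTDefs

/-!
PROJECT 61, PART C: inner products of the indicator functions `d1`, `dZ`, `dK` on `N_G(K)`
(common tools of the pieces `main2`, `main3`).
-/

set_option autoImplicit false

namespace Cfsg.Agent.Lib.Helper53ZTBasic

open Cfsg Cfsg.Agent.Lib.Helper4Char Cfsg.Agent.Lib.Helper4Char2 Cfsg.Agent.Lib.Helper4Char4
  Cfsg.Agent.Lib.Helper61Feit7 Cfsg.Agent.Lib.Helper61Feit8 Cfsg.Agent.Lib.Helper61ZTDefs
open scoped ComplexConjugate Classical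

variable {G : Type*} [Group G] [Fintype G] {K Z : Subgroup G}
  [Fintype ↥(Subgroup.normalizer (K : Set G))] {q h : ℕ}

omit [Fintype G] in
theorem inner_d1 (f : ↥(Subgroup.normalizer (K : Set G)) → ℂ) :
    classInner f (d1 K) = (Nat.card ↥(Subgroup.normalizer (K : Set G)) : ℂ)⁻¹ * f 1 := by
  unfold classInner d1
  congr 1
  rw [Finset.sum_eq_single 1]
  · simp
  · intro b _ hb; simp [hb]
  · simp

omit [Fintype G] in
theorem sum_ind (Y : Subgroup G) (hY : Y ≤ Subgroup.normalizer (K : Set G)) :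
    ∑ x : ↥(Subgroup.normalizer (K : Set G)), (if (x : G) ∈ Y then (1 : ℂ) else 0) = Nat.card Y := by
  rw [Finset.sum_boole]
  congr 1
  have h1 := Nat.subtype_card (p := fun x : ↥(Subgroup.normalizer (K : Set G)) => (x : G) ∈ Y)
    (Finset.univ.filter (fun x : ↥(Subgroup.normalizer (K : Set G)) => (x : G) ∈ Y)) (by simp)
  rw [← h1]
  exact Nat.card_congr (Subgroup.subgroupOfEquivOfLe hY).toEquiv

omit [Fintype G] in
theorem inner_ind (f : ↥(Subgroup.normalizer (K : Set G)) → ℂ) (Y : Subgroup G) :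
    classInner f (fun x => if (x : G) ∈ Y then (1 : ℂ) else 0) =
      (Nat.card ↥(Subgroup.normalizer (K : Set G)) : ℂ)⁻¹ *
        ∑ x : ↥(Subgroup.normalizer (K : Set G)), (if (x : G) ∈ Y then f x else 0) := by
  unfold classInner
  congr 1
  apply Finset.sum_congr rfl
  intro x _
  by_cases hx : (x : G) ∈ Y <;> simp [hx]

theorem Z_le_K (hz : ZT K Z q h) : Z ≤ K := fun u hu => ((hz.hZ u).1 hu).1

theorem d1_dZ (hz : ZT K Z q h) :
    classInner (d1 K) (dZ K Z) = (Nat.card ↥(Subgroup.normalizer (K : Set G)) : ℂ)⁻¹ := by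
  have h1 := inner_ind (K := K) (d1 K) Z
  have h2 : (fun x : ↥(Subgroup.normalizer (K : Set G)) => if (x : G) ∈ Z then (1 : ℂ) else 0) = dZ K Z := rfl
  rw [h2] at h1
  rw [h1, Finset.sum_eq_single 1]
  · simp [d1, Z.one_mem]
  · intro b _ hb; simp [d1, hb]
  · simp

omit [Fintype G] in
theorem d1_dK :
    classInner (d1 K) (dK K) = (Nat.card ↥(Subgroup.normalizer (K : Set G)) : ℂ)⁻¹ := by
  have h1 := inner_ind (K := K) (d1 K) K
  have h2 : (fun x : ↥(Subgroup.normalizer (K : Set G)) => if (x : G) ∈ K then (1 : ℂ) else 0) = dK K := rfl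
  rw [h2] at h1
  rw [h1, Finset.sum_eq_single 1]
  · simp [d1, K.one_mem]
  · intro b _ hb; simp [d1, hb]
  · simp

theorem dZ_dZ (hz : ZT K Z q h) :
    classInner (dZ K Z) (dZ K Z) = (Nat.card ↥(Subgroup.normalizer (K : Set G)) : ℂ)⁻¹ * q := by
  have h1 := inner_ind (K := K) (dZ K Z) Z
  have h2 : (fun x : ↥(Subgroup.normalizer (K : Set G)) => if (x : G) ∈ Z then (1 : ℂ) else 0) = dZ K Z := rfl
  rw [h2] at h1
  rw [h1, ← hz.cardZ, ← sum_ind (K := K) Z ((Z_le_K hz).trans Subgroup.le_normalizer)]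
  congr 1
  apply Finset.sum_congr rfl
  intro x _
  by_cases hx : (x : G) ∈ Z <;> simp [hx, dZ]

theorem dZ_dK (hz : ZT K Z q h) :
    classInner (dZ K Z) (dK K) = (Nat.card ↥(Subgroup.normalizer (K : Set G)) : ℂ)⁻¹ * q := by
  have h1 := inner_ind (K := K) (dZ K Z) K
  have h2 : (fun x : ↥(Subgroup.normalizer (K : Set G)) => if (x : G) ∈ K then (1 : ℂ) else 0) = dK K := rfl
  rw [h2] at h1
  rw [h1, ← hz.cardZ, ← sum_ind (K := K) Z ((Z_le_K hz).trans Subgroup.le_normalizer)]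
  congr 1
  apply Finset.sum_congr rfl
  intro x _
  by_cases hx : (x : G) ∈ Z
  · simp [hx, dZ, Z_le_K hz hx]
  · simp [hx, dZ]

theorem one_dK (hz : ZT K Z q h) :
    classInner (rs K (fun _ => (1 : ℂ))) (dK K) =
      (Nat.card ↥(Subgroup.normalizer (K : Set G)) : ℂ)⁻¹ * h := by
  have h1 := inner_ind (K := K) (rs K (fun _ => (1 : ℂ))) K
  have h2 : (fun x : ↥(Subgroup.normalizer (K : Set G)) => if (x : G) ∈ K then (1 : ℂ) else 0) = dK K := rfl
  rw [h2] at h1
  rw [h1, ← hz.hK, ← sum_ind (K := K) K Subgroup.le_normalizer]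
  rfl

omit [Fintype G] [Fintype ↥(Subgroup.normalizer (K : Set G))] in
theorem cf_d1 : IsClassFunction ↥(Subgroup.normalizer (K : Set G)) (d1 K) := by
  intro g x
  unfold d1
  have : x * g * x⁻¹ = 1 ↔ g = 1 := by
    constructor
    · intro h1
      have := congrArg (fun y => x⁻¹ * y * x) h1
      simpa [mul_assoc] using this
    · rintro rfl; simp
  simp [this]

omit [Fintype G] [Fintype ↥(Subgroup.normalizer (K : Set G))] in
theorem conj_mem_K_iff (g x : ↥(Subgroup.normalizer (K : Set G))) :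
    ((x * g * x⁻¹ : ↥(Subgroup.normalizer (K : Set G))) : G) ∈ K ↔ (g : G) ∈ K := by
  have h1 := (Subgroup.mem_normalizer_iff.1 x.2 (g : G))
  simpa using h1.symm

omit [Fintype G] [Fintype ↥(Subgroup.normalizer (K : Set G))] in
theorem cf_dK : IsClassFunction ↥(Subgroup.normalizer (K : Set G)) (dK K) := by
  intro g x
  unfold dK
  simp only [conj_mem_K_iff]

omit [Fintype ↥(Subgroup.normalizer (K : Set G))] in
theorem cf_dZ (hz : ZT K Z q h) : IsClassFunction ↥(Subgroup.normalizer (K : Set G)) (dZ K Z) := by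
  intro g x
  unfold dZ
  have : ((x * g * x⁻¹ : ↥(Subgroup.normalizer (K : Set G))) : G) ∈ Z ↔ (g : G) ∈ Z := by
    rw [hz.hZ, hz.hZ, conj_mem_K_iff]
    apply and_congr_right
    intro _
    constructor
    · intro h1
      have h2 : (x : G) * ((g : G) * g) * (x : G)⁻¹ = 1 := by
        rw [← h1]; simp [mul_assoc]
      have := congrArg (fun y => (x : G)⁻¹ * y * x) h2
      simpa [mul_assoc] using this
    · intro h1
      have h2 : ((x * g * x⁻¹ : ↥(Subgroup.normalizer (K : Set G))) : G) *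
          ((x * g * x⁻¹ : ↥(Subgroup.normalizer (K : Set G))) : G) =
          (x : G) * ((g : G) * g) * (x : G)⁻¹ := by simp [mul_assoc]
      rw [h2, h1]; simp
  simp only [this]

omit [Fintype G] [Fintype ↥(Subgroup.normalizer (K : Set G))] in
theorem d1_off {x : ↥(Subgroup.normalizer (K : Set G))} (hx : (x : G) ∉ K) : d1 K x = 0 := by
  unfold d1
  rw [if_neg]
  rintro rfl
  exact hx K.one_mem

omit [Fintype ↥(Subgroup.normalizer (K : Set G))] in
theorem dZ_off (hz : ZT K Z q h) {x : ↥(Subgroup.normalizer (K : Set G))} (hx : (x : G) ∉ K) :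
    dZ K Z x = 0 := by
  unfold dZ
  rw [if_neg]
  exact fun h1 => hx (Z_le_K hz h1)

omit [Fintype G] [Fintype ↥(Subgroup.normalizer (K : Set G))] in
theorem dK_off {x : ↥(Subgroup.normalizer (K : Set G))} (hx : (x : G) ∉ K) : dK K x = 0 := by
  unfold dK
  rw [if_neg hx]

/-- a character containing the irreducible character `ψ` and of the same degree is `ψ` -/
theorem eq_of_inner_one {L : Type*} [Group L] [Fintype L] {θ : L → ℂ} (hθ : IsCharacter L θ)
    (ψ : IrrCharacter L) (h1 : classInner θ ψ = 1) (hd : θ 1 = (ψ : L → ℂ) 1) :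
    θ = (ψ : L → ℂ) := by
  obtain ⟨m, hm, hm'⟩ := IsCharacter.eq_sum_nat hθ
  choose deg hdeg0 hdeg using fun ν : IrrCharacter L => IsIrrCharacter.exists_degree ν.2
  have hmψ : m ψ = 1 := by
    have := hm' ψ
    rw [h1] at this
    exact_mod_cast this.symm
  have h2 : deg ψ = ∑ ν : IrrCharacter L, m ν * deg ν := by
    have h3 : θ 1 = ∑ ν : IrrCharacter L, (m ν : ℂ) * (deg ν : ℂ) := by
      conv_lhs => rw [hm]
      simp only [Finset.sum_apply, Pi.smul_apply, smul_eq_mul, hdeg]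
    rw [hd, hdeg] at h3
    exact_mod_cast h3
  rw [← Finset.add_sum_erase _ _ (Finset.mem_univ ψ), hmψ, one_mul] at h2
  have h4 : ∑ ν ∈ Finset.univ.erase ψ, m ν * deg ν = 0 := by omega
  have h5 : ∀ ν : IrrCharacter L, ν ≠ ψ → m ν = 0 := by
    intro ν hν
    have h6 := (Finset.sum_eq_zero_iff.1 h4) ν (Finset.mem_erase.2 ⟨hν, Finset.mem_univ _⟩)
    rcases Nat.mul_eq_zero.1 h6 with h7 | h7
    · exact h7
    · exact absurd h7 (hdeg0 ν).ne'
  rw [hm, Finset.sum_eq_single ψ]
  · rw [hmψ]; simp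
  · intro ν _ hν
    rw [h5 ν hν]; simp
  · simp

end Cfsg.Agent.Lib.Helper53ZTBasic
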