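import Mathlib
import Cfsg.Agent.Lib.Helper61ZTDefs
import Cfsg.Agent.Lib.Helper53ZTBasic
import Cfsg.Agent.Lib.Helper82Cod

/-!
PROJECT 61, PART C, piece `main2` (the unlanded pieces `gram nu fs lcount psi_irr B_even cardG cardL ARITH2`
are hypotheses).
-/

set_option autoImplicit false

namespace Cfsg.Agent.Lib.Helper53ZTMain2

open Cfsg Cfsg.Agent.Lib.Helper4Char Cfsg.Agent.Lib.Helper4Char2 Cfsg.Agent.Lib.Helper4Char4
  Cfsg.Agent.Lib.Helper61Feit7 Cfsg.Agent.Lib.Helper61Feit8 Cfsg.Agent.Lib.Helper61ZTDefs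
  Cfsg.Agent.Lib.Helper53ZTBasic
open scoped ComplexConjugate Classical

variable {G : Type*} [Group G] [Fintype G] {K Z : Subgroup G}
  [Fintype ↥(Subgroup.normalizer (K : Set G))] {q h : ℕ}

theorem main2 (hz : ZT K Z q (q ^ 2))
    (gram : ∀ (α β : ↥(Subgroup.normalizer (K : Set G)) → ℂ),
      IsClassFunction ↥(Subgroup.normalizer (K : Set G)) α →
      IsClassFunction ↥(Subgroup.normalizer (K : Set G)) β →
      (∀ x : ↥(Subgroup.normalizer (K : Set G)), (x : G) ∉ K → α x = 0) →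
      (∀ x : ↥(Subgroup.normalizer (K : Set G)), (x : G) ∉ K → β x = 0) →
      ∑ χ : IrrCharacter G, classInner (rs K χ) α * conj (classInner (rs K χ) β)
        = classInner β α + β 1 * conj (α 1) / ((q : ℂ) - 1))
    (cardG : Nat.card G = (q ^ 2 + 1) * q ^ 2 * (q - 1))
    (cardL : Nat.card ↥(Subgroup.normalizer (K : Set G)) = q ^ 2 * (q - 1))
    (nu : ∀ (r : ℕ), q ^ 2 = q + (q - 1) * r → ∀ χ : IrrCharacter G,
      (Nat.card G : ℂ)⁻¹ * ∑ g : G, (χ : G → ℂ) (g * g)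
        = classInner (χ : G → ℂ) (fun _ => 1)
          + classInner (rs K χ) ((((q : ℂ) - r) • d1 K + (r : ℂ) • dZ K Z) - dK K))
    (fs : ∀ χ : IrrCharacter G,
      ((Nat.card G : ℂ)⁻¹ * ∑ g : G, (χ : G → ℂ) (g * g) = 0 ∨
        (Nat.card G : ℂ)⁻¹ * ∑ g : G, (χ : G → ℂ) (g * g) = 1 ∨
        (Nat.card G : ℂ)⁻¹ * ∑ g : G, (χ : G → ℂ) (g * g) = -1) ∧
      ((Nat.card G : ℂ)⁻¹ * ∑ g : G, (χ : G → ℂ) (g * g) = 0 ↔ ∃ g : G, ((χ : G → ℂ) g).im ≠ 0))
    (lcount : ∃ l : IrrCharacter G → ℕ,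
      (∀ χ : IrrCharacter G, classInner (rs K χ) (((q : ℂ) - 1) • dK K) = l χ) ∧
      (Finset.univ.filter (fun χ => l χ ≠ 0)).card ≤ q / 2 + 1 ∧
      (Finset.univ.filter (fun χ => l χ = 1)).card ≤ 2 ∧
      ∑ χ, l χ ^ 2 = 2 * (q - 1) ∧
      l ⟨fun _ => 1, Cfsg.Agent.Lib.Helper83Char.isIrr_one⟩ = 1)
    (psi_irr : IsIrrCharacter ↥(Subgroup.normalizer (K : Set G)) ((q : ℂ) • dZ K Z - dK K))
    (B_even : ∀ χ : IrrCharacter G,
      ∃ b : ℕ, classInner (rs K χ) (((q : ℂ) ^ 2) • d1 K - (q : ℂ) • dZ K Z) = b ∧ Even b)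
    (ARITH2 : ∀ (x₁ : IrrCharacter G) (m B l deg : IrrCharacter G → ℕ), m x₁ = 0 → (∀ x, m x ≤ 1) →
      ∑ x, m x ^ 2 = q → ∑ x, B x ^ 2 = q + q ^ 2 * (q - 1) →
      ∑ x, m x * B x = q * (q - 1) →
      (Finset.univ.filter (fun x => l x ≠ 0)).card ≤ q / 2 + 1 → l x₁ ≠ 0 →
      (∀ x, deg x = (q - 1) * B x + (q - 1) * m x + l x) →
      (∀ x, deg x ∣ (q ^ 2 + 1) * q ^ 2 * (q - 1)) → (∀ x, Even (B x)) →
      ∃ r : ℕ, r ^ 2 = 2 * q) :
    ∃ r : ℕ, r ^ 2 = 2 * q := by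
  have hq := hz.hq
  have hq1 : 1 ≤ q := by omega
  have hc : ((q - 1 : ℕ) : ℂ) = (q : ℂ) - 1 := by push_cast [Nat.cast_sub hq1]; ring
  have hq0 : (q : ℂ) ≠ 0 := Nat.cast_ne_zero.2 (by omega)
  have hqe : (q : ℂ) - 1 ≠ 0 := by
    rw [← hc]; exact Nat.cast_ne_zero.2 (by omega)
  have hn : (Nat.card ↥(Subgroup.normalizer (K : Set G)) : ℂ) = (q : ℂ) ^ 2 * ((q : ℂ) - 1) := by
    rw [cardL]; push_cast [hc]; ring
  obtain ⟨l, hl, hlc, -, -, hl1⟩ := lcount
  choose B hB hBe using B_even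
  have hres : ∀ χ : IrrCharacter G, IsCharacter ↥(Subgroup.normalizer (K : Set G)) (rs K χ) :=
    fun χ => IsCharacter.restrict _ (IsIrrCharacter.isCharacter χ.2)
  choose m hm using fun χ : IrrCharacter G =>
    IsCharacter.classInner_nat (hres χ) (IsIrrCharacter.isCharacter psi_irr)
  -- class functions vanishing off `K`
  have cfΨ : IsClassFunction ↥(Subgroup.normalizer (K : Set G)) ((q : ℂ) • dZ K Z - dK K) :=
    IsClassFunction.sub (IsClassFunction.smul _ (cf_dZ hz)) cf_dK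
  have cfΦ : IsClassFunction ↥(Subgroup.normalizer (K : Set G))
      (((q : ℂ) ^ 2) • d1 K - (q : ℂ) • dZ K Z) :=
    IsClassFunction.sub (IsClassFunction.smul _ cf_d1) (IsClassFunction.smul _ (cf_dZ hz))
  have offΨ : ∀ x : ↥(Subgroup.normalizer (K : Set G)), (x : G) ∉ K →
      ((q : ℂ) • dZ K Z - dK K) x = 0 := by
    intro x hx
    simp [dZ_off hz hx, dK_off hx]
  have offΦ : ∀ x : ↥(Subgroup.normalizer (K : Set G)), (x : G) ∉ K →
      (((q : ℂ) ^ 2) • d1 K - (q : ℂ) • dZ K Z) x = 0 := by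
    intro x hx
    simp [dZ_off hz hx, d1_off hx]
  have Ψ1 : ((q : ℂ) • dZ K Z - dK K) 1 = (q : ℂ) - 1 := by
    simp [dZ, dK, Z.one_mem, K.one_mem]
  have Φ1 : (((q : ℂ) ^ 2) • d1 K - (q : ℂ) • dZ K Z) 1 = (q : ℂ) ^ 2 - q := by
    simp [dZ, d1, Z.one_mem]
  have cq : conj (q : ℂ) = q := Complex.conj_natCast q
  -- inner products
  have d1d1 : classInner (d1 K) (d1 K) = ((q : ℂ) ^ 2 * ((q : ℂ) - 1))⁻¹ := by
    rw [inner_d1, hn]; simp [d1]
  have dZd1 : classInner (dZ K Z) (d1 K) = ((q : ℂ) ^ 2 * ((q : ℂ) - 1))⁻¹ := by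
    rw [inner_d1, hn]; simp [dZ, Z.one_mem]
  have d1dZ := d1_dZ hz
  have dZdZ := dZ_dZ hz
  have dZdK := dZ_dK hz
  have d1dK := d1_dK (K := K)
  rw [hn] at d1dZ dZdZ dZdK d1dK
  have ΦΦ : classInner (((q : ℂ) ^ 2) • d1 K - (q : ℂ) • dZ K Z)
      (((q : ℂ) ^ 2) • d1 K - (q : ℂ) • dZ K Z) = q := by
    simp only [classInner_sub_left, classInner_sub_right, classInner_smul_left,
      classInner_smul_right, d1d1, dZd1, d1dZ, dZdZ, map_pow, cq]
    field_simp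
    ring
  have ΦΨ : classInner (((q : ℂ) ^ 2) • d1 K - (q : ℂ) • dZ K Z) ((q : ℂ) • dZ K Z - dK K) = 0 := by
    simp only [classInner_sub_left, classInner_sub_right, classInner_smul_left,
      classInner_smul_right, d1dZ, dZdZ, dZdK, d1dK, map_pow, cq]
    field_simp
    ring
  have ΨΨ : classInner ((q : ℂ) • dZ K Z - dK K) ((q : ℂ) • dZ K Z - dK K) = 1 :=
    classInner_irr_self psi_irr
  -- the three sums
  have hmm : ∑ x, m x ^ 2 = q := by
    have h1 := gram _ _ cfΨ cfΨ offΨ offΨ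
    simp only [hm, Complex.conj_natCast, ΨΨ, Ψ1, map_sub, map_one, cq] at h1
    have h2 : (1 : ℂ) + ((q : ℂ) - 1) * ((q : ℂ) - 1) / ((q : ℂ) - 1) = q := by
      field_simp; ring
    rw [h2] at h1
    have h3 : ((∑ x, m x ^ 2 : ℕ) : ℂ) = (q : ℂ) := by
      rw [← h1]; push_cast
      exact Finset.sum_congr rfl (fun x _ => by ring)
    exact_mod_cast h3
  have hBB : ∑ x, B x ^ 2 = q + q ^ 2 * (q - 1) := by
    have h1 := gram _ _ cfΦ cfΦ offΦ offΦ
    simp only [hB, Complex.conj_natCast, ΦΦ, Φ1, map_sub, map_pow, cq] at h1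
    have h2 : (q : ℂ) + ((q : ℂ) ^ 2 - q) * ((q : ℂ) ^ 2 - q) / ((q : ℂ) - 1) =
        q + (q : ℂ) ^ 2 * ((q : ℂ) - 1) := by
      field_simp
    rw [h2] at h1
    have h3 : ((∑ x, B x ^ 2 : ℕ) : ℂ) = ((q + q ^ 2 * (q - 1) : ℕ) : ℂ) := by
      push_cast [hc]
      rw [← h1]
      exact Finset.sum_congr rfl (fun x _ => by ring)
    exact_mod_cast h3
  have hmB : ∑ x, m x * B x = q * (q - 1) := by
    have h1 := gram _ _ cfΨ cfΦ offΨ offΦ
    simp only [hB, hm, Complex.conj_natCast, ΦΨ, Φ1, Ψ1, map_sub, map_one, cq] at h1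
    have h2 : (0 : ℂ) + ((q : ℂ) ^ 2 - q) * ((q : ℂ) - 1) / ((q : ℂ) - 1) = q * ((q : ℂ) - 1) := by
      field_simp; ring
    rw [h2] at h1
    have h3 : ((∑ x, m x * B x : ℕ) : ℂ) = ((q * (q - 1) : ℕ) : ℂ) := by
      push_cast [hc]
      rw [← h1]
    exact_mod_cast h3
  -- degrees
  have hdeg : ∀ x : IrrCharacter G,
      charDegree (x : G → ℂ) = (q - 1) * B x + (q - 1) * m x + l x := by
    intro χ
    have ha1 := inner_d1 (K := K) (rs K χ)
    rw [hn] at ha1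
    have hχ1 : rs K χ 1 = (χ : G → ℂ) 1 := rfl
    rw [hχ1, ← Cfsg.Agent.Lib.Helper82Irr.irr_charDegree_cast χ] at ha1
    have e1 := hB χ
    have e2 := hm χ
    have e3 := hl χ
    rw [classInner_sub_right, classInner_smul_right, classInner_smul_right, ha1] at e1
    rw [classInner_sub_right, classInner_smul_right] at e2
    rw [classInner_smul_right] at e3
    simp only [map_pow, map_sub, map_one, cq] at e1 e2 e3
    have h3 : ((charDegree (χ : G → ℂ) : ℕ) : ℂ) =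
        (((q - 1) * B χ + (q - 1) * m χ + l χ : ℕ) : ℂ) := by
      push_cast [hc]
      rw [← e1, ← e2, ← e3]
      field_simp
      ring
    exact_mod_cast h3
  have hdvd : ∀ x : IrrCharacter G, charDegree (x : G → ℂ) ∣ (q ^ 2 + 1) * q ^ 2 * (q - 1) := by
    intro χ
    rw [← cardG]
    exact Cfsg.Agent.Lib.Helper82Cod.irr_degree_dvd_card χ
  -- the indicator
  have hr : q ^ 2 = q + (q - 1) * q := by
    obtain ⟨e, rfl⟩ : ∃ e, q = e + 1 := ⟨q - 1, by omega⟩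
    simp only [Nat.add_sub_cancel]
    ring
  have hν : ∀ χ : IrrCharacter G, (Nat.card G : ℂ)⁻¹ * ∑ g : G, (χ : G → ℂ) (g * g)
      = classInner (χ : G → ℂ) (fun _ => 1) + m χ := by
    intro χ
    rw [nu q hr χ, ← hm χ]
    congr 2
    rw [sub_self, zero_smul, zero_add]
  have hm1 : m ⟨fun _ => 1, Cfsg.Agent.Lib.Helper83Char.isIrr_one⟩ = 0 := by
    have h1 := hν ⟨fun _ => 1, Cfsg.Agent.Lib.Helper83Char.isIrr_one⟩
    have h2 : classInner (fun _ : G => (1 : ℂ)) (fun _ => 1) = 1 :=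
      classInner_irr_self Cfsg.Agent.Lib.Helper83Char.isIrr_one
    simp only [h2] at h1
    rcases (fs ⟨fun _ => 1, Cfsg.Agent.Lib.Helper83Char.isIrr_one⟩).1 with h0 | h0 | h0
    · simp only [] at h0
      rw [h1] at h0
      have : ((1 + m ⟨fun _ => 1, Cfsg.Agent.Lib.Helper83Char.isIrr_one⟩ : ℕ) : ℂ) = ((0 : ℕ) : ℂ) := by
        push_cast; exact h0
      have := Nat.cast_injective this
      omega
    · rw [h1] at h0
      have : ((1 + m ⟨fun _ => 1, Cfsg.Agent.Lib.Helper83Char.isIrr_one⟩ : ℕ) : ℂ) = ((1 : ℕ) : ℂ) := by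
        push_cast; exact h0
      have := Nat.cast_injective this
      omega
    · rw [h1] at h0
      have : ((2 + m ⟨fun _ => 1, Cfsg.Agent.Lib.Helper83Char.isIrr_one⟩ : ℕ) : ℂ) = ((0 : ℕ) : ℂ) := by
        push_cast; linear_combination h0
      have := Nat.cast_injective this
      omega
  have hmle : ∀ x, m x ≤ 1 := by
    intro χ
    by_cases hχ : χ = ⟨fun _ => 1, Cfsg.Agent.Lib.Helper83Char.isIrr_one⟩
    · rw [hχ, hm1]; omega
    have hne : (χ : G → ℂ) ≠ fun _ => 1 := fun he => hχ (Subtype.ext he)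
    have h1 := hν χ
    rw [classInner_irr_ne χ.2 Cfsg.Agent.Lib.Helper83Char.isIrr_one hne, zero_add] at h1
    rcases (fs χ).1 with h0 | h0 | h0
    · rw [h1] at h0
      have : ((m χ : ℕ) : ℂ) = ((0 : ℕ) : ℂ) := by push_cast; exact h0
      have := Nat.cast_injective this
      omega
    · rw [h1] at h0
      have : ((m χ : ℕ) : ℂ) = ((1 : ℕ) : ℂ) := by push_cast; exact h0
      have := Nat.cast_injective this
      omega
    · rw [h1] at h0
      have : ((m χ + 1 : ℕ) : ℂ) = ((0 : ℕ) : ℂ) := by push_cast; linear_combination h0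
      have := Nat.cast_injective this
      omega
  exact ARITH2 ⟨fun _ => 1, Cfsg.Agent.Lib.Helper83Char.isIrr_one⟩ m B l
    (fun x => charDegree (x : G → ℂ)) hm1 hmle hmm hBB hmB hlc (by rw [hl1]; omega) hdeg hdvd hBe

end Cfsg.Agent.Lib.Helper53ZTMain2
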