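import Mathlib
import Cfsg.Agent.Lib.Helper61ZTDefs
import Cfsg.Agent.Lib.Helper53ZTBasic
import Cfsg.Agent.Lib.Helper82Cod

/-!
PROJECT 61, PART C, piece `main3` (the unlanded pieces `chi0 nu fs cardG cardL` are hypotheses).
-/

set_option autoImplicit false

namespace Cfsg.Agent.Lib.Helper53ZTMain3

open Cfsg Cfsg.Agent.Lib.Helper4Char Cfsg.Agent.Lib.Helper4Char2 Cfsg.Agent.Lib.Helper4Char4
  Cfsg.Agent.Lib.Helper61Feit7 Cfsg.Agent.Lib.Helper61Feit8 Cfsg.Agent.Lib.Helper61ZTDefs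
  Cfsg.Agent.Lib.Helper53ZTBasic
open scoped ComplexConjugate Classical

variable {G : Type*} [Group G] [Fintype G] {K Z : Subgroup G}
  [Fintype ↥(Subgroup.normalizer (K : Set G))] {q h : ℕ}

theorem arith_neg {q : ℕ} (hq : 4 ≤ q) (hd : (q - 1) * (2 * q + 1) ∣ (q ^ 3 + 1) * q ^ 3 * (q - 1)) :
    False := by
  have h1 : (q - 1) * (2 * q + 1) ∣ (q - 1) * ((q ^ 3 + 1) * q ^ 3) := by
    rwa [mul_comm (q - 1) ((q ^ 3 + 1) * q ^ 3)]
  have h2 : 2 * q + 1 ∣ (q ^ 3 + 1) * q ^ 3 := Nat.dvd_of_mul_dvd_mul_left (by omega) h1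
  have hc : Nat.Coprime (2 * q + 1) q := by
    rw [add_comm]
    exact (Nat.coprime_add_mul_right_left 1 q 2).2 (Nat.coprime_one_left q)
  have h3 : 2 * q + 1 ∣ q ^ 3 + 1 := (hc.pow_right 3).dvd_of_dvd_mul_right h2
  have h4 : ((2 * q + 1 : ℕ) : ℤ) ∣ ((q ^ 3 + 1 : ℕ) : ℤ) := Int.natCast_dvd_natCast.2 h3
  push_cast at h4
  have h5 : (2 * (q : ℤ) + 1) ∣ 7 := by
    have h6 := dvd_sub (h4.mul_left 8) (dvd_mul_right (2 * (q : ℤ) + 1) (4 * (q : ℤ) ^ 2 - 2 * q + 1))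
    have h7 : 8 * ((q : ℤ) ^ 3 + 1) - (2 * (q : ℤ) + 1) * (4 * (q : ℤ) ^ 2 - 2 * q + 1) = 7 := by ring
    rwa [h7] at h6
  have h8 := Int.le_of_dvd (by norm_num) h5
  omega

theorem main3 (hz : ZT K Z q (q ^ 3))
    (chi0 : ∃ (ψ : IrrCharacter ↥(Subgroup.normalizer (K : Set G))) (χ : IrrCharacter G), ψ ∈ SF (KN K) ∧
      (ψ : ↥(Subgroup.normalizer (K : Set G)) → ℂ) 1 = (q : ℂ) - 1 ∧
      classInner (rs K χ) ψ = 1 ∧
      classInner (rs K χ) (((q : ℂ) ^ 2) • dZ K Z - dK K) = 1 ∧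
      classInner (rs K χ) (dK K) = 0 ∧
      (∀ g : G, conj ((χ : G → ℂ) g) = (χ : G → ℂ) g))
    (nu : ∀ (r : ℕ), q ^ 3 = q + (q - 1) * r → ∀ χ : IrrCharacter G,
      (Nat.card G : ℂ)⁻¹ * ∑ g : G, (χ : G → ℂ) (g * g)
        = classInner (χ : G → ℂ) (fun _ => 1)
          + classInner (rs K χ) ((((q : ℂ) - r) • d1 K + (r : ℂ) • dZ K Z) - dK K))
    (fs : ∀ χ : IrrCharacter G,
      ((Nat.card G : ℂ)⁻¹ * ∑ g : G, (χ : G → ℂ) (g * g) = 0 ∨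
        (Nat.card G : ℂ)⁻¹ * ∑ g : G, (χ : G → ℂ) (g * g) = 1 ∨
        (Nat.card G : ℂ)⁻¹ * ∑ g : G, (χ : G → ℂ) (g * g) = -1) ∧
      ((Nat.card G : ℂ)⁻¹ * ∑ g : G, (χ : G → ℂ) (g * g) = 0 ↔ ∃ g : G, ((χ : G → ℂ) g).im ≠ 0))
    (cardG : Nat.card G = (q ^ 3 + 1) * q ^ 3 * (q - 1))
    (cardL : Nat.card ↥(Subgroup.normalizer (K : Set G)) = q ^ 3 * (q - 1)) : False := by
  obtain ⟨ψ, χ, hψ, hψ1, h1, h2, h3, hreal⟩ := chi0
  have hq := hz.hq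
  have hq1 : 1 ≤ q := by omega
  have hc : ((q - 1 : ℕ) : ℂ) = (q : ℂ) - 1 := by push_cast [Nat.cast_sub hq1]; ring
  have hq0 : (q : ℂ) ≠ 0 := Nat.cast_ne_zero.2 (by omega)
  have hqe : (q : ℂ) - 1 ≠ 0 := by
    rw [← hc]; exact Nat.cast_ne_zero.2 (by omega)
  have hn : (Nat.card ↥(Subgroup.normalizer (K : Set G)) : ℂ) = (q : ℂ) ^ 3 * ((q : ℂ) - 1) := by
    rw [cardL]; push_cast [hc]; ring
  -- the three basic inner products
  have ha1 := inner_d1 (K := K) (rs K χ)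
  rw [hn] at ha1
  have hχ1 : rs K χ 1 = (χ : G → ℂ) 1 := rfl
  rw [hχ1, ← Cfsg.Agent.Lib.Helper82Irr.irr_charDegree_cast χ] at ha1
  set d := charDegree (χ : G → ℂ) with hd
  rw [classInner_sub_right, classInner_smul_right, h3] at h2
  have haZ : (q : ℂ) ^ 2 * classInner (rs K χ) (dZ K Z) = 1 := by
    simpa using h2
  -- `χ` is not principal
  have hne : (χ : G → ℂ) ≠ fun _ => 1 := by
    intro he
    rw [he, one_dK hz, hn] at h3
    have : ((q : ℂ) ^ 3 * ((q : ℂ) - 1))⁻¹ * ((q ^ 3 : ℕ) : ℂ) ≠ 0 := by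
      apply mul_ne_zero
      · exact inv_ne_zero (mul_ne_zero (pow_ne_zero 3 hq0) hqe)
      · push_cast; exact pow_ne_zero 3 hq0
    exact this h3
  have hχ0 : classInner (χ : G → ℂ) (fun _ => 1) = 0 :=
    classInner_irr_ne χ.2 Cfsg.Agent.Lib.Helper83Char.isIrr_one hne
  have hr : q ^ 3 = q + (q - 1) * (q ^ 2 + q) := by
    obtain ⟨e, rfl⟩ : ∃ e, q = e + 1 := ⟨q - 1, by omega⟩
    simp only [Nat.add_sub_cancel]
    ring
  have hν := nu (q ^ 2 + q) hr χ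
  rw [hχ0, zero_add, classInner_sub_right, classInner_add_right, classInner_smul_right,
    classInner_smul_right, h3, ha1] at hν
  have hconj1 : conj ((q : ℂ) - ((q ^ 2 + q : ℕ) : ℂ)) = - (q : ℂ) ^ 2 := by
    push_cast
    simp only [map_sub, map_add, map_pow, Complex.conj_natCast]
    ring
  have hconj2 : conj (((q ^ 2 + q : ℕ) : ℂ)) = (q : ℂ) ^ 2 + q := by
    rw [Complex.conj_natCast]; push_cast; ring
  rw [hconj1, hconj2] at hν
  have haZ' : classInner (rs K χ) (dZ K Z) = ((q : ℂ) ^ 2)⁻¹ := by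
    field_simp
    rw [mul_comm]; exact haZ
  rw [haZ'] at hν
  have hνval : (Nat.card G : ℂ)⁻¹ * ∑ g : G, (χ : G → ℂ) (g * g) =
      ((q : ℂ) + 1) / q - (d : ℂ) / (q * ((q : ℂ) - 1)) := by
    rw [hν]; field_simp; ring
  obtain ⟨hfs1, hfs2⟩ := fs χ
  have hν0 : (Nat.card G : ℂ)⁻¹ * ∑ g : G, (χ : G → ℂ) (g * g) ≠ 0 := by
    intro h0
    obtain ⟨g, hg⟩ := hfs2.1 h0
    exact hg (Complex.conj_eq_iff_im.1 (hreal g))
  rcases hfs1 with h0 | h0 | h0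
  · exact hν0 h0
  · -- degree `q - 1`
    rw [hνval] at h0
    have hdq : (d : ℂ) = (q : ℂ) - 1 := by
      field_simp at h0
      linear_combination -h0
    have hres : rs K χ = (ψ : ↥(Subgroup.normalizer (K : Set G)) → ℂ) := by
      apply eq_of_inner_one (IsCharacter.restrict _ (IsIrrCharacter.isCharacter χ.2)) ψ h1
      rw [hψ1]
      show (χ : G → ℂ) 1 = (q : ℂ) - 1
      rw [← Cfsg.Agent.Lib.Helper82Irr.irr_charDegree_cast χ]
      exact hdq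
    have h16 : 16 ≤ q ^ 2 := by nlinarith
    have h16' : 16 * q ≤ q ^ 3 := by nlinarith
    exact Cfsg.Agent.Lib.Helper61Feit12.final K hz.hC hz.hab hz.hX (q ^ 3 - 1) (q - 1)
      (by rw [hz.hK]; omega) hz.he hz.hidx (by omega) (by omega) hψ
      (by rw [hψ1, hz.he, hc]) χ hres
  · rw [hνval] at h0
    have hdq : (d : ℂ) = (((q - 1) * (2 * q + 1) : ℕ) : ℂ) := by
      push_cast [hc]
      field_simp at h0
      linear_combination -h0
    have hdq' : d = (q - 1) * (2 * q + 1) := by exact_mod_cast hdq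
    have hdvd := Cfsg.Agent.Lib.Helper82Cod.irr_degree_dvd_card χ
    rw [← hd, hdq', cardG] at hdvd
    exact arith_neg hq hdvd

end Cfsg.Agent.Lib.Helper53ZTMain3
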