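import Mathlib
import Cfsg.Agent.Lib.Helper61HigDefs
import Cfsg.Agent.Lib.Helper3HigBasic
import Cfsg.Agent.Lib.Helper3CW

/-!
PROJECT 61, piece `cwgroup`.
-/

set_option autoImplicit false

namespace Cfsg.Agent.Lib.Helper3HigCwgroup

open Subgroup
open Cfsg.Agent.Lib.Helper61HigDefs Cfsg.Agent.Lib.Helper3HigBasic

universe u v

variable {P : Type u} {A : Type v} [Group P] [Group A] {f : A →* MulAut P}

theorem card_le_cube (h : HS f) (hexp : ∀ x : P, x ^ 4 = 1) : Nat.card P ≤ (Nat.card A + 1) ^ 3 := by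
  have := h.fin
  by_contra hcon
  rw [not_le] at hcon
  obtain ⟨n, -, hn⟩ := exists_q h
  obtain ⟨x, hx, hx2⟩ := Cfsg.Agent.Lib.Helper3CW.exists_involution (Z0 h) (Z0 h) le_rfl
    (fun e he x => invol_central h he x) (fun e he => he)
    (fun x => by
      show x * x * (x * x) = 1
      have h4 := hexp x
      rw [show (4 : ℕ) = 2 + 2 from rfl, pow_add, pow_two] at h4
      exact h4) n (by rw [card_Z0, hn])
    (by
      rw [card_Z0, hn]
      rw [hn] at hcon
      calc 2 ^ (2 * n) * 2 ^ n = (2 ^ n) ^ 3 := by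
            rw [← pow_add, ← pow_mul]; congr 1; ring
        _ < Nat.card P := hcon)
  exact hx hx2

end Cfsg.Agent.Lib.Helper3HigCwgroup
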