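import Mathlib
import Cfsg.Agent.Lib.Helper61HigDefs
import Cfsg.Agent.Lib.Helper3HigBasic

/-!
PROJECT 61, piece `dcs` (construction of `D`).
-/

set_option autoImplicit false

namespace Cfsg.Agent.Lib.Helper3HigDcs

open Subgroup
open scoped commutatorElement
open Cfsg.Agent.Lib.Helper61HigDefs Cfsg.Agent.Lib.Helper3HigBasic

universe u v

variable {P : Type u} {A : Type v} [Group P] [Group A] {f : A →* MulAut P}

/-- elements which are central modulo the involutions -/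
def Z2 (h : HS f) : Subgroup P where
  carrier := {d | ∀ g : P, d⁻¹ * g⁻¹ * d * g ∈ Z0 h}
  mul_mem' := by
    intro a b ha hb g
    have e : (a * b)⁻¹ * g⁻¹ * (a * b) * g = (a⁻¹ * g⁻¹ * a * g) * (b⁻¹ * g⁻¹ * b * g) := by
      have hc := invol_central h (ha g) b⁻¹
      calc (a * b)⁻¹ * g⁻¹ * (a * b) * g = (b⁻¹ * (a⁻¹ * g⁻¹ * a * g)) * (g⁻¹ * b * g) := by group
        _ = ((a⁻¹ * g⁻¹ * a * g) * b⁻¹) * (g⁻¹ * b * g) := by rw [hc]
        _ = _ := by group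
    rw [e]
    exact mul_mem (ha g) (hb g)
  one_mem' := by
    intro g
    have e : (1 : P)⁻¹ * g⁻¹ * 1 * g = 1 := by group
    rw [e]
    exact one_mem _
  inv_mem' := by
    intro a ha g
    have h1 : (a⁻¹ * g⁻¹ * a * g)⁻¹ ∈ Z0 h := inv_mem (ha g)
    have hc := invol_central h h1 a⁻¹
    have e : a⁻¹⁻¹ * g⁻¹ * a⁻¹ * g = (a⁻¹ * g⁻¹ * a * g)⁻¹ := by
      calc a⁻¹⁻¹ * g⁻¹ * a⁻¹ * g = a * ((a⁻¹ * g⁻¹ * a * g)⁻¹ * a⁻¹) := by group
        _ = a * (a⁻¹ * (a⁻¹ * g⁻¹ * a * g)⁻¹) := by rw [hc]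
        _ = _ := by group
    rw [e]
    exact h1

theorem mem_Z2 (h : HS f) {d : P} : d ∈ Z2 h ↔ ∀ g : P, d⁻¹ * g⁻¹ * d * g ∈ Z0 h := Iff.rfl

/-- the subgroup generated by the squares -/
def Sq (P : Type u) [Group P] : Subgroup P := closure {x : P | ∃ g : P, x = g * g}

theorem sq_mem_Sq (g : P) : g * g ∈ Sq P := subset_closure ⟨g, rfl⟩

theorem map_mem_Sq (φ : P →* P) {s : P} (hs : s ∈ Sq P) : φ s ∈ Sq P := by
  have : Sq P ≤ (Sq P).comap φ := by
    refine (closure_le _).2 ?_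
    rintro x ⟨g, rfl⟩
    show φ (g * g) ∈ Sq P
    rw [map_mul]
    exact sq_mem_Sq _
  exact this hs

theorem sq_comm_of_mem_Z2 (h : HS f) {d : P} (hd : d ∈ Z2 h) (g : P) : (g * g) * d = d * (g * g) := by
  have h1 : (d⁻¹ * g⁻¹ * d * g) * (d⁻¹ * g⁻¹ * d * g) = 1 := hd g
  have hc := invol_central h h1 g
  -- `d g = g d c`
  have e1 : d * g = g * d * (d⁻¹ * g⁻¹ * d * g) := by group
  calc (g * g) * d = g * g * d * ((d⁻¹ * g⁻¹ * d * g) * (d⁻¹ * g⁻¹ * d * g)) := by rw [h1, mul_one]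
    _ = g * (g * d * (d⁻¹ * g⁻¹ * d * g)) * (d⁻¹ * g⁻¹ * d * g) := by group
    _ = g * (d * g) * (d⁻¹ * g⁻¹ * d * g) := by rw [← e1]
    _ = g * d * (g * (d⁻¹ * g⁻¹ * d * g)) := by group
    _ = g * d * ((d⁻¹ * g⁻¹ * d * g) * g) := by rw [hc]
    _ = (g * d * (d⁻¹ * g⁻¹ * d * g)) * g := by group
    _ = d * g * g := by rw [← e1]
    _ = d * (g * g) := by group

theorem comm_of_mem_Z2 (h : HS f) {d : P} (hd : d ∈ Z2 h) {s : P} (hs : s ∈ Sq P) : s * d = d * s := by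
  have : Sq P ≤ centralizer {d} := by
    refine (closure_le _).2 ?_
    rintro x ⟨g, rfl⟩
    rw [SetLike.mem_coe, mem_centralizer_iff]
    intro y hy
    rw [Set.mem_singleton_iff] at hy
    subst hy
    exact (sq_comm_of_mem_Z2 h hd g).symm
  have h2 := mem_centralizer_iff.1 (this hs) d rfl
  exact h2.symm

theorem map_mem_Z0 (h : HS f) (a : A) {z : P} (hz : z ∈ Z0 h) : f a z ∈ Z0 h := by
  show f a z * f a z = 1
  rw [← map_mul, show z * z = 1 from hz, map_one]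

theorem map_mem_Z2 (h : HS f) (a : A) {d : P} (hd : d ∈ Z2 h) : f a d ∈ Z2 h := by
  intro g
  have e : (f a d)⁻¹ * g⁻¹ * f a d * g = f a (d⁻¹ * (f a⁻¹ g)⁻¹ * d * f a⁻¹ g) := by
    simp only [map_mul, map_inv (f a), apply_inv]
  rw [e]
  exact map_mem_Z0 h a (hd _)

theorem exists_mem_Z2 (h : HS f) {s : P} (hs : s ∈ Sq P) (hs0 : s ∉ Z0 h) :
    ∃ t ∈ Sq P, t ∈ Z2 h ∧ t ∉ Z0 h := by
  have := h.fin
  have hnil : Group.IsNilpotent P := h.two.isNilpotent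
  obtain ⟨n, hn⟩ := Subgroup.nilpotent_iff_lowerCentralSeries.1 hnil
  have key : ∀ m k : ℕ, n ≤ k + m → ∀ s ∈ Sq P, s ∈ Subgroup.lowerCentralSeries (⊤ : Subgroup P) k → s ∉ Z0 h →
      ∃ t ∈ Sq P, t ∈ Z2 h ∧ t ∉ Z0 h := by
    intro m
    induction m with
    | zero =>
      intro k hk s _ hsk hs0
      exfalso
      have h1 : s ∈ Subgroup.lowerCentralSeries (⊤ : Subgroup P) n := Subgroup.lowerCentralSeries_antitone _ (by omega) hsk
      rw [hn, mem_bot] at h1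
      exact hs0 (h1 ▸ one_mem _)
    | succ m ih =>
      intro k hk s hs hsk hs0
      by_cases h2 : s ∈ Z2 h
      · exact ⟨s, hs, h2, hs0⟩
      · rw [mem_Z2] at h2
        push Not at h2
        obtain ⟨g, hg⟩ := h2
        refine ih (k + 1) (by omega) _ ?_ ?_ hg
        · have h3 : g⁻¹ * s * g ∈ Sq P := by
            have := map_mem_Sq (MulAut.conj g⁻¹).toMonoidHom hs
            simpa using this
          have e : s⁻¹ * g⁻¹ * s * g = s⁻¹ * (g⁻¹ * s * g) := by group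
          rw [e]
          exact mul_mem (inv_mem hs) h3
        · have h3 : ⁅s⁻¹, g⁻¹⁆ ∈ ⁅Subgroup.lowerCentralSeries (⊤ : Subgroup P) k, (⊤ : Subgroup P)⁆ :=
            commutator_mem_commutator (inv_mem hsk) (mem_top _)
          have e : s⁻¹ * g⁻¹ * s * g = ⁅s⁻¹, g⁻¹⁆ := by
            rw [commutatorElement_def, inv_inv, inv_inv]
          rw [e]
          exact h3
  exact key n 0 (by omega) s hs (by simp) hs0

theorem exists_D (h : HS f) (_hZ : ∀ z ∈ center P, z * z = 1) (hx : ∃ x : P, x ^ 4 ≠ 1) :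
    ∃ D : Subgroup P, DH f D := by
  obtain ⟨x, hx⟩ := hx
  have hcomm : ∀ d ∈ Sq P, d ∈ Z2 h → ∀ d' ∈ Sq P, d' ∈ Z2 h → d * d' = d' * d :=
    fun d hd _ d' _ hd' => comm_of_mem_Z2 h hd' hd
  have e4 : ∀ d : P, (d * d) * (d * d) = d ^ 4 := by
    intro d
    rw [show (4:ℕ) = 2 + 2 from rfl, pow_add, pow_two]
  let D : Subgroup P :=
    { carrier := {d | d ∈ Sq P ∧ d ∈ Z2 h ∧ (d * d) * (d * d) = 1}
      mul_mem' := by
        rintro a b ⟨ha, ha2, ha4⟩ ⟨hb, hb2, hb4⟩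
        refine ⟨mul_mem ha hb, mul_mem ha2 hb2, ?_⟩
        rw [e4] at ha4 hb4 ⊢
        have hc : Commute a b := hcomm a ha ha2 b hb hb2
        rw [hc.mul_pow, ha4, hb4, one_mul]
      one_mem' := ⟨one_mem _, one_mem _, by simp⟩
      inv_mem' := by
        rintro a ⟨ha, ha2, ha4⟩
        refine ⟨inv_mem ha, inv_mem ha2, ?_⟩
        rw [e4] at ha4 ⊢
        rw [inv_pow, ha4, inv_one] }
  have hSinv : Inv f (Sq P) := fun a s hs => map_mem_Sq (f a).toMonoidHom hs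
  have hxx : x * x ∈ Sq P := sq_mem_Sq x
  have hxx0 : x * x ∉ Z0 h := by
    intro hh
    apply hx
    rw [← e4]
    exact hh
  have hSne : Sq P ≠ ⊥ := by
    intro hbot
    rw [hbot, mem_bot] at hxx
    exact hxx0 (hxx ▸ one_mem _)
  refine ⟨D, ?_, ?_, ?_, ?_, ?_, ?_, ?_⟩
  · rintro a d ⟨hd, hd2, hd4⟩
    refine ⟨hSinv a d hd, map_mem_Z2 h a hd2, ?_⟩
    rw [← map_mul, ← map_mul, hd4, map_one]
  · rintro d ⟨hd, hd2, -⟩ d' ⟨hd', hd2', -⟩
    exact hcomm d hd hd2 d' hd' hd2'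
  · rintro d ⟨-, -, hd4⟩
    exact hd4
  · rintro d ⟨-, hd2, -⟩ g
    exact hd2 g
  · obtain ⟨t, ht, ht2, ht0⟩ := exists_mem_Z2 h hxx hxx0
    obtain ⟨k, hk⟩ := (IsPGroup.iff_orderOf.mp h.two) t
    have hk2 : 2 ≤ k := by
      by_contra hlt
      apply ht0
      show t * t = 1
      have : k = 0 ∨ k = 1 := by omega
      rcases this with rfl | rfl
      · rw [pow_zero, orderOf_eq_one_iff] at hk
        rw [hk, one_mul]
      · rw [pow_one] at hk
        rw [← pow_two, ← hk]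
        exact pow_orderOf_eq_one t
    obtain ⟨j, rfl⟩ : ∃ j, k = j + 2 := ⟨k - 2, by omega⟩
    refine ⟨t ^ (2 ^ j), ⟨pow_mem ht _, pow_mem ht2 _, ?_⟩, ?_⟩
    · rw [e4, ← pow_mul, show 2 ^ j * 4 = 2 ^ (j + 2) by ring, ← hk]
      exact pow_orderOf_eq_one t
    · rw [← pow_two, ← pow_mul]
      apply pow_ne_one_of_lt_orderOf
      · positivity
      · rw [hk, pow_add]
        have : 0 < 2 ^ j := by positivity
        omega
  · rintro d ⟨-, hd2, -⟩ g
    exact sq_comm_of_mem_Z2 h hd2 g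
  · intro z hz
    refine ⟨invol_mem h hSinv hSne hz, ?_, ?_⟩
    · intro g
      have hc := invol_central h hz g⁻¹
      have e : z⁻¹ * g⁻¹ * z * g = 1 := by
        calc z⁻¹ * g⁻¹ * z * g = z⁻¹ * (g⁻¹ * z) * g := by group
          _ = z⁻¹ * (z * g⁻¹) * g := by rw [hc]
          _ = 1 := by group
      rw [e]
      exact one_mem _
    · rw [hz, one_mul]

end Cfsg.Agent.Lib.Helper3HigDcs
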