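import Mathlib
import Cfsg.Agent.Lib.Helper61HigDefs
import Cfsg.Agent.Lib.Helper3HigBasic

/-!
PROJECT 61, piece `sqcen` (with an own copy of `step1`).
-/

set_option autoImplicit false

namespace Cfsg.Agent.Lib.Helper3HigSqcen

open Subgroup
open Cfsg.Agent.Lib.Helper61HigDefs Cfsg.Agent.Lib.Helper3HigBasic

universe u v

variable {P : Type u} {A : Type v} [Group P] [Group A] {f : A →* MulAut P}

theorem map_mem_center (a : A) {c : P} (hc : c ∈ center P) : f a c ∈ center P := by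
  rw [mem_center_iff]
  intro y
  have h1 := mem_center_iff.mp hc (f a⁻¹ y)
  have h2 := congrArg (f a) h1
  rwa [map_mul, map_mul, apply_inv] at h2

theorem central_of_pow_aux (h : HS f) (k : ℕ) : ∀ c : P, c ∈ center P → orderOf c = 2 ^ k →
    ∀ x : P, x ^ (2 ^ k) = 1 → x ∈ center P := by
  induction k with
  | zero =>
    intro c _ _ x hx
    rw [pow_zero, pow_one] at hx
    rw [hx]; exact one_mem _
  | succ k ih =>
    intro c hc hck x hx
    have hc2 : orderOf (c ^ 2) = 2 ^ k := by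
      rw [orderOf_pow_of_dvd (by norm_num) (by rw [hck, pow_succ]; exact Dvd.intro_left _ rfl), hck,
        pow_succ, Nat.mul_div_cancel _ (by norm_num)]
    have hc2c : c ^ 2 ∈ center P := (center P).pow_mem hc 2
    by_cases hxk : x ^ (2 ^ k) = 1
    · exact ih _ hc2c hc2 x hxk
    have hu2 : x ^ (2 ^ k) * x ^ (2 ^ k) = 1 := by
      rw [← pow_add, ← two_mul, ← pow_succ', hx]
    have hw1 : c ^ (2 ^ k) ≠ 1 := by
      apply pow_ne_one_of_lt_orderOf (by positivity)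
      rw [hck]
      exact Nat.pow_lt_pow_right (by norm_num) (Nat.lt_succ_self k)
    have hw2 : c ^ (2 ^ k) * c ^ (2 ^ k) = 1 := by
      rw [← pow_add, ← two_mul, ← pow_succ', ← hck, pow_orderOf_eq_one]
    obtain ⟨a, ha, -⟩ := h.reg _ _ hw1 hw2 hxk hu2
    have hc' : f a c ∈ center P := map_mem_center a hc
    have hcomm : Commute x (f a c)⁻¹ :=
      ((mem_center_iff.mp ((center P).inv_mem hc') x))
    have h1 : (x * (f a c)⁻¹) ^ (2 ^ k) = 1 := by
      rw [hcomm.mul_pow, inv_pow, ← map_pow, ha, mul_inv_cancel]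
    have h2 := ih _ hc2c hc2 _ h1
    have h3 : x = (x * (f a c)⁻¹) * f a c := by group
    rw [h3]
    exact (center P).mul_mem h2 hc'

theorem central_of_pow (h : HS f) {c : P} (hc : c ∈ center P) {k : ℕ} (hck : orderOf c = 2 ^ k)
    {x : P} (hx : x ^ (2 ^ k) = 1) : x ∈ center P :=
  central_of_pow_aux h k c hc hck x hx

theorem comm_invol_of_sq_central (h : HS f) {c : P} (hc : c ∈ center P) (hc4 : orderOf c = 4)
    {x : P} (hx : x * x ∈ center P) (g : P) :
    (x⁻¹ * g⁻¹ * x * g) * (x⁻¹ * g⁻¹ * x * g) = 1 := by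
  obtain ⟨t, ht⟩ : ∃ t, t = x⁻¹ * g⁻¹ * x * g := ⟨_, rfl⟩
  rw [← ht]
  have hxg : g * (x * x) = (x * x) * g := mem_center_iff.mp hx g
  have h1 : t * x * t = x := by
    rw [ht]
    calc x⁻¹ * g⁻¹ * x * g * x * (x⁻¹ * g⁻¹ * x * g) = x⁻¹ * g⁻¹ * ((x * x) * g) := by group
      _ = x⁻¹ * g⁻¹ * (g * (x * x)) := by rw [hxg]
      _ = x := by group
  have h2 : x⁻¹ * t * x = t⁻¹ := by
    calc x⁻¹ * t * x = x⁻¹ * (t * x * t) * t⁻¹ := by group
      _ = t⁻¹ := by rw [h1]; group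
  by_contra htt
  obtain ⟨m, hm⟩ := (IsPGroup.iff_orderOf.mp h.two) t
  have hm2 : 2 ≤ m := by
    by_contra hlt
    have h3 : orderOf t ∣ 2 := by
      rw [hm]
      have : m = 0 ∨ m = 1 := by omega
      rcases this with rfl | rfl <;> norm_num
    apply htt
    rw [← pow_two]
    exact orderOf_dvd_iff_pow_eq_one.mp h3
  obtain ⟨j, rfl⟩ : ∃ j, m = j + 2 := ⟨m - 2, by omega⟩
  have ho : orderOf (t ^ (2 ^ j)) = 4 := by
    rw [orderOf_pow_of_dvd (by positivity) (by rw [hm, pow_add]; exact Dvd.intro _ rfl), hm, pow_add,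
      Nat.mul_div_cancel_left _ (by positivity)]
    norm_num
  have hcen : t ^ (2 ^ j) ∈ center P := by
    apply central_of_pow h hc (k := 2) (by rw [hc4]; norm_num)
    rw [show (2 : ℕ) ^ 2 = 4 by norm_num, ← ho, pow_orderOf_eq_one]
  have h3 : x⁻¹ * t ^ (2 ^ j) * x = (t ^ (2 ^ j))⁻¹ := by
    have h4 := conj_pow (a := x⁻¹) (b := t) (i := 2 ^ j)
    rw [inv_inv, h2, inv_pow] at h4
    exact h4.symm
  have h5 : x⁻¹ * t ^ (2 ^ j) * x = t ^ (2 ^ j) := by
    rw [mul_assoc, ← mem_center_iff.mp hcen x]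
    group
  have h6 : (t ^ (2 ^ j)) ^ 2 = 1 := by
    rw [pow_two]
    nth_rewrite 1 [← h5]
    rw [h3, inv_mul_cancel]
  have h7 := orderOf_dvd_of_pow_eq_one h6
  rw [ho] at h7
  norm_num at h7

end Cfsg.Agent.Lib.Helper3HigSqcen
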