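import Mathlib
import Cfsg.Agent.Lib.Helper61HigDefs
import Cfsg.Agent.Lib.Helper3HigBasic
import Cfsg.Agent.Lib.Helper3HigSqcen

/-!
PROJECT 61, piece `quot`.
-/

set_option autoImplicit false

namespace Cfsg.Agent.Lib.Helper3HigQuot

open Subgroup
open Cfsg.Agent.Lib.Helper61HigDefs Cfsg.Agent.Lib.Helper3HigBasic Cfsg.Agent.Lib.Helper3HigSqcen

universe u v

variable {P : Type u} {A : Type v} [Group P] [Group A] {f : A →* MulAut P}

/-- a central element of maximal order -/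
theorem exists_max_central (h : HS f) {c : P} (hc : c ∈ center P) (hc4 : orderOf c = 4) :
    ∃ (c₀ : P) (m : ℕ), c₀ ∈ center P ∧ 1 ≤ m ∧ orderOf c₀ = 2 ^ (m + 1) ∧
      ∀ z ∈ center P, z ^ (2 ^ (m + 1)) = 1 := by
  have := h.fin
  obtain ⟨c₀, hmax⟩ := Finite.exists_max (fun z : center P => orderOf (z : P))
  obtain ⟨k, hk⟩ := (IsPGroup.iff_orderOf.mp h.two) (c₀ : P)
  have h4 : 4 ≤ 2 ^ k := by
    have := hmax ⟨c, hc⟩
    simp only [hc4, hk] at this
    exact this
  have hk2 : 2 ≤ k := by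
    by_contra hlt
    have : k = 0 ∨ k = 1 := by omega
    rcases this with rfl | rfl <;> norm_num at h4
  obtain ⟨m, rfl⟩ : ∃ m, k = m + 1 := ⟨k - 1, by omega⟩
  refine ⟨c₀, m, c₀.2, by omega, hk, ?_⟩
  intro z hz
  obtain ⟨j, hj⟩ := (IsPGroup.iff_orderOf.mp h.two) z
  have h1 := hmax ⟨z, hz⟩
  simp only [hj, hk] at h1
  have h2 : j ≤ m + 1 := (Nat.pow_le_pow_iff_right (by norm_num)).mp h1
  apply orderOf_dvd_iff_pow_eq_one.mp
  rw [hj]
  exact pow_dvd_pow 2 h2

/-- an element outside the centre whose square is central -/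
theorem exists_sq_central (h : HS f) (hna : ∃ x y : P, x * y ≠ y * x) :
    ∃ w : P, w ∉ center P ∧ w * w ∈ center P := by
  classical
  obtain ⟨x, y, hxy⟩ := hna
  have hx : x ∉ center P := fun hh => hxy (mem_center_iff.mp hh y).symm
  have hex : ∃ j : ℕ, x ^ (2 ^ j) ∈ center P := by
    obtain ⟨k, hk⟩ := h.two x
    exact ⟨k, by rw [hk]; exact one_mem _⟩
  have hj0 : Nat.find hex ≠ 0 := by
    intro h0
    have := Nat.find_spec hex
    rw [h0, pow_zero, pow_one] at this
    exact hx this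
  obtain ⟨j, hj⟩ : ∃ j, Nat.find hex = j + 1 := ⟨Nat.find hex - 1, by omega⟩
  refine ⟨x ^ (2 ^ j), Nat.find_min hex (by omega), ?_⟩
  have := Nat.find_spec hex
  rw [hj] at this
  rwa [← pow_add, ← two_mul, ← pow_succ']

theorem exists_quot (h : HS f) {c : P} (hc : c ∈ center P) (hc4 : orderOf c = 4)
    (hna : ∃ x y : P, x * y ≠ y * x) :
    ∃ (Y : Subgroup P) (_ : Y.Normal) (hY : Inv f Y), Y ≤ center P ∧ Y ≠ ⊥ ∧ HS (quo f Y hY) ∧
      ∃ d : P ⧸ Y, d ∈ center (P ⧸ Y) ∧ orderOf d = 4 := by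
  have hfin := h.fin
  obtain ⟨c₀, m, hc₀, hm, ho, hexpZ⟩ := exists_max_central h hc hc4
  have hcommZ : ∀ z ∈ center P, ∀ x : P, Commute z x := fun z hz x => (mem_center_iff.mp hz x).symm
  let Y : Subgroup P :=
    { carrier := {y | y ∈ center P ∧ y ^ (2 ^ m) = 1}
      mul_mem' := by
        rintro a b ⟨ha, ha2⟩ ⟨hb, hb2⟩
        exact ⟨mul_mem ha hb, by rw [(hcommZ a ha b).mul_pow, ha2, hb2, one_mul]⟩
      one_mem' := ⟨one_mem _, one_pow _⟩
      inv_mem' := by
        rintro a ⟨ha, ha2⟩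
        exact ⟨inv_mem ha, by rw [inv_pow, ha2, inv_one]⟩ }
  have memY : ∀ y : P, y ∈ Y ↔ y ∈ center P ∧ y ^ (2 ^ m) = 1 := fun y => Iff.rfl
  have hYn : Y.Normal := by
    constructor
    intro y hy g
    have : g * y * g⁻¹ = y := by
      rw [← (hcommZ y hy.1 g).eq, mul_inv_cancel_right]
    rw [this]; exact hy
  have hY : Inv f Y := by
    intro a y hy
    exact ⟨map_mem_center a hy.1, by rw [← map_pow, hy.2, map_one]⟩
  have hZ0Y : ∀ z : P, z * z = 1 → z ∈ Y := by
    intro z hz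
    refine ⟨mem_center_iff.mpr (fun x => (invol_central h hz x).symm), ?_⟩
    obtain ⟨m', rfl⟩ : ∃ m', m = m' + 1 := ⟨m - 1, by omega⟩
    rw [pow_succ', pow_mul, pow_two, hz, one_pow]
  -- the key facts on involutions of the quotient
  have hsqY : ∀ x : P, x * x ∈ Y → x ∈ center P := by
    intro x hx
    apply central_of_pow h hc₀ ho
    rw [pow_succ', pow_mul, pow_two]
    exact hx.2
  have hθ2 : ∀ x ∈ center P, x ^ (2 ^ m) * x ^ (2 ^ m) = 1 := by
    intro x hx
    rw [← pow_add, ← two_mul, ← pow_succ']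
    exact hexpZ x hx
  have hmk : ∀ x ∈ center P, ∀ y ∈ center P,
      ((QuotientGroup.mk x : P ⧸ Y) = QuotientGroup.mk y ↔ x ^ (2 ^ m) = y ^ (2 ^ m)) := by
    intro x hx y hy
    rw [QuotientGroup.eq, memY]
    constructor
    · rintro ⟨-, h2⟩
      rw [(hcommZ _ (inv_mem hx) y).mul_pow, inv_pow] at h2
      exact (inv_mul_eq_one.mp h2)
    · intro h2
      refine ⟨mul_mem (inv_mem hx) hy, ?_⟩
      rw [(hcommZ _ (inv_mem hx) y).mul_pow, inv_pow, h2, inv_mul_cancel]
  have hinvol : ∀ x : P, (QuotientGroup.mk x : P ⧸ Y) ≠ 1 →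
      (QuotientGroup.mk x : P ⧸ Y) * QuotientGroup.mk x = 1 →
      x ∈ center P ∧ x ^ (2 ^ m) ≠ 1 := by
    intro x hx1 hx2
    rw [← QuotientGroup.mk_mul, QuotientGroup.eq_one_iff] at hx2
    have hxc := hsqY x hx2
    refine ⟨hxc, fun hh => hx1 ?_⟩
    rw [QuotientGroup.eq_one_iff]
    exact ⟨hxc, hh⟩
  have hc₀1 : c₀ ^ (2 ^ m) ≠ 1 := by
    apply pow_ne_one_of_lt_orderOf (by positivity)
    rw [ho]
    exact Nat.pow_lt_pow_right (by norm_num) (Nat.lt_succ_self m)
  have hHS : HS (quo f Y hY) := by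
    refine ⟨inferInstance, h.two.to_quotient Y, h.cyc, ?_, ?_⟩
    · intro X X' hX1 hX2 hX'1 hX'2
      obtain ⟨x, rfl⟩ := QuotientGroup.mk_surjective X
      obtain ⟨y, rfl⟩ := QuotientGroup.mk_surjective X'
      obtain ⟨hxc, hx1⟩ := hinvol x hX1 hX2
      obtain ⟨hyc, hy1⟩ := hinvol y hX'1 hX'2
      obtain ⟨a, ha, hu⟩ := h.reg _ _ hx1 (hθ2 x hxc) hy1 (hθ2 y hyc)
      refine ⟨a, ?_, ?_⟩
      · show quo f Y hY a (QuotientGroup.mk x) = QuotientGroup.mk y
        rw [quo_mk, hmk _ (map_mem_center a hxc) _ hyc, ← map_pow]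
        exact ha
      · intro b hb
        apply hu b
        have hb' : quo f Y hY b (QuotientGroup.mk x) = QuotientGroup.mk y := hb
        rw [quo_mk, hmk _ (map_mem_center b hxc) _ hyc, ← map_pow] at hb'
        exact hb'
    · obtain ⟨n, hn2, hn⟩ := exists_q h
      have hA := finite_A h
      have hcardA : 1 < Nat.card A := by
        have : 4 ≤ 2 ^ n := by
          calc 4 = 2 ^ 2 := by norm_num
            _ ≤ 2 ^ n := Nat.pow_le_pow_right (by norm_num) hn2
        omega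
      have hnt : Nontrivial A := Finite.one_lt_card_iff_nontrivial.mp hcardA
      obtain ⟨a, ha⟩ := exists_ne (1 : A)
      have hone : ∀ x ∈ center P, x ^ (2 ^ m) ≠ 1 → (QuotientGroup.mk x : P ⧸ Y) ≠ 1 ∧
          (QuotientGroup.mk x : P ⧸ Y) * QuotientGroup.mk x = 1 := by
        intro x hx hx1
        constructor
        · intro hh
          rw [QuotientGroup.eq_one_iff] at hh
          exact hx1 hh.2
        · rw [← QuotientGroup.mk_mul, QuotientGroup.eq_one_iff]
          refine ⟨mul_mem hx hx, ?_⟩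
          rw [(hcommZ x hx x).mul_pow]
          exact hθ2 x hx
      have hac : f a c₀ ∈ center P := map_mem_center a hc₀
      have hac1 : (f a c₀) ^ (2 ^ m) ≠ 1 := by
        rw [← map_pow]
        intro hh
        exact hc₀1 ((map_eq_one_iff (f a) (f a).injective).mp hh)
      refine ⟨QuotientGroup.mk c₀, QuotientGroup.mk (f a c₀), ?_, (hone c₀ hc₀ hc₀1).1,
        (hone c₀ hc₀ hc₀1).2, (hone _ hac hac1).1, (hone _ hac hac1).2⟩
      rw [Ne, hmk _ hc₀ _ hac, ← map_pow]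
      intro hh
      exact ha (fpf h hc₀1 hh.symm)
  refine ⟨Y, hYn, hY, fun y hy => hy.1, ?_, hHS, ?_⟩
  · intro hbot
    obtain ⟨x, -, -, hx1, hx2, -, -⟩ := h.many
    have := hZ0Y x hx2
    rw [hbot, mem_bot] at this
    exact hx1 this
  · obtain ⟨w, hw, hww⟩ := exists_sq_central h hna
    refine ⟨QuotientGroup.mk w, ?_, ?_⟩
    · rw [mem_center_iff]
      intro G
      obtain ⟨g, rfl⟩ := QuotientGroup.mk_surjective G
      rw [← QuotientGroup.mk_mul, ← QuotientGroup.mk_mul, QuotientGroup.eq]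
      have h1 : (g * w)⁻¹ * (w * g) = w⁻¹ * g⁻¹ * w * g := by group
      rw [h1]
      exact hZ0Y _ (comm_invol_of_sq_central h hc hc4 hww g)
    · have hw1 : w ^ (2 ^ (m + 1)) ≠ 1 := fun hh => hw (central_of_pow h hc₀ ho hh)
      have hw2 : (w * w) ^ (2 ^ (m + 1)) = 1 := hexpZ _ hww
      have := Fact.mk Nat.prime_two
      have h4 : orderOf (QuotientGroup.mk w : P ⧸ Y) = 2 ^ (1 + 1) := by
        apply orderOf_eq_prime_pow
        · rw [pow_one, ← QuotientGroup.mk_pow, QuotientGroup.eq_one_iff]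
          rintro ⟨-, hh⟩
          apply hw1
          rw [pow_succ', pow_mul]
          exact hh
        · rw [← QuotientGroup.mk_pow, QuotientGroup.eq_one_iff]
          have e1 : w ^ 2 ^ (1 + 1) = (w * w) * (w * w) := by
            show w ^ 4 = _
            rw [show (4:ℕ) = 2 + 2 from rfl, pow_add, pow_two]
          rw [e1]
          refine ⟨mul_mem hww hww, ?_⟩
          rw [← pow_two, ← pow_mul, ← pow_succ']
          exact hw2
      rw [h4]; norm_num

end Cfsg.Agent.Lib.Helper3HigQuot
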