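import Mathlib

/-!
PROJECT 61, PART H, piece `SS` (semisimplicity of an operator with `ξ^(2^n) = ξ` over `ZMod 2`).
-/

set_option autoImplicit false

namespace Cfsg.Agent.Lib.Helper6HigSS

open Polynomial

universe u

theorem pow_two_pow_eq_expand (p : (ZMod 2)[X]) (n : ℕ) : p ^ (2 ^ n) = expand (ZMod 2) (2 ^ n) p := by
  induction n with
  | zero => simp
  | succ k ih =>
    have h1 : expand (ZMod 2) (2 ^ (k + 1)) p = expand (ZMod 2) 2 (expand (ZMod 2) (2 ^ k) p) := by
      rw [← expand_mul, pow_succ']
    have h2 : expand (ZMod 2) 2 (expand (ZMod 2) (2 ^ k) p) = (expand (ZMod 2) (2 ^ k) p) ^ 2 :=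
      ZMod.expand_card _
    rw [h1, h2, ← ih, ← pow_mul, pow_succ]

theorem card_le_of_pow_eq {D : Type*} [CommRing D] [IsDomain D] (N : ℕ) (hN : 1 < N)
    (h : ∀ y : D, y ^ N = y) : Finite D ∧ Nat.card D ≤ N := by
  classical
  have hdeg : (X ^ N - X : D[X]).natDegree = N := by
    rw [natDegree_sub_eq_left_of_natDegree_lt, natDegree_X_pow]
    rw [natDegree_X_pow, natDegree_X]; exact hN
  have hP : (X ^ N - X : D[X]) ≠ 0 := by
    intro h0
    rw [h0, natDegree_zero] at hdeg
    omega
  have hall : ∀ y : D, y ∈ (X ^ N - X : D[X]).roots.toFinset := by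
    intro y
    rw [Multiset.mem_toFinset, mem_roots hP, IsRoot.def]
    simp [h y]
  have hfin : Finite D := by
    have hsub : (Set.univ : Set D) ⊆ ↑((X ^ N - X : D[X]).roots.toFinset) := fun y _ => hall y
    exact Set.finite_univ_iff.1 ((Finset.finite_toSet _).subset hsub)
  refine ⟨hfin, ?_⟩
  have := Fintype.ofFinite D
  rw [Nat.card_eq_fintype_card]
  calc Fintype.card D = (Finset.univ : Finset D).card := rfl
    _ ≤ (X ^ N - X : D[X]).roots.toFinset.card := Finset.card_le_card (fun y _ => hall y)
    _ ≤ Multiset.card (X ^ N - X : D[X]).roots := Multiset.toFinset_card_le _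
    _ ≤ (X ^ N - X : D[X]).natDegree := card_roots' _
    _ = N := hdeg

section

variable {V : Type u} [AddCommGroup V] [Module (ZMod 2) V]

/-- `p ↦ p(T) w` -/
noncomputable def phi (T : Module.End (ZMod 2) V) (w : V) : (ZMod 2)[X] →+ V where
  toFun p := aeval T p w
  map_zero' := by simp
  map_add' p q := by simp

theorem phi_apply (T : Module.End (ZMod 2) V) (w : V) (p : (ZMod 2)[X]) :
    phi T w p = aeval T p w := rfl

theorem aeval_mul_apply (T : Module.End (ZMod 2) V) (w : V) (p q : (ZMod 2)[X]) :
    aeval T (p * q) w = aeval T p (aeval T q w) := by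
  rw [map_mul, Module.End.mul_apply]

theorem aeval_pow_eq (T : Module.End (ZMod 2) V) (n : ℕ) (hT : T ^ (2 ^ n) = T) (p : (ZMod 2)[X]) :
    aeval T (p ^ (2 ^ n)) = aeval T p := by
  rw [pow_two_pow_eq_expand, expand_aeval (R := ZMod 2) (2 ^ n) p T, hT]

theorem mem_cyc (T : Module.End (ZMod 2) V) (w u : V) :
    u ∈ (phi T w).range ↔ ∃ p : (ZMod 2)[X], aeval T p w = u := Iff.rfl

theorem self_mem_cyc (T : Module.End (ZMod 2) V) (w : V) : w ∈ (phi T w).range :=
  ⟨1, by simp [phi_apply]⟩

theorem cyc_le (T : Module.End (ZMod 2) V) (w : V) (s : (ZMod 2)[X]) :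
    (phi T (aeval T s w)).range ≤ (phi T w).range := by
  rintro _ ⟨p, rfl⟩
  exact ⟨p * s, by rw [phi_apply, phi_apply, aeval_mul_apply]⟩

theorem SS_mod [Finite V] (T : Module.End (ZMod 2) V) (n : ℕ) (hn : 0 < n)
    (hT : T ^ (2 ^ n) = T) : ∀ (k : ℕ) (w : V), Nat.card (phi T w).range ≤ k →
    w ∈ AddSubgroup.closure {w : V | ∃ U : AddSubgroup V, w ∈ U ∧ (∀ u ∈ U, T u ∈ U) ∧
      Nat.card U ≤ 2 ^ n} := by
  have hN : 2 ≤ 2 ^ n := by
    calc 2 = 2 ^ 1 := by norm_num
      _ ≤ 2 ^ n := Nat.pow_le_pow_right (by norm_num) hn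
  intro k
  induction k with
  | zero =>
    intro w hw
    have : 0 < Nat.card (phi T w).range := Nat.card_pos
    omega
  | succ k ih =>
    intro w hw
    by_cases h : ∃ p r : (ZMod 2)[X], aeval T p w ≠ 0 ∧ aeval T r w ≠ 0 ∧
        aeval T p (aeval T r w) = 0
    · obtain ⟨p, r, hp, hr, hpr⟩ := h
      have hlt : ∀ s : (ZMod 2)[X], w ∉ (phi T (aeval T s w)).range →
          Nat.card (phi T (aeval T s w)).range ≤ k := by
        intro s hs
        by_contra hcon
        have h1 : Nat.card (phi T w).range ≤ Nat.card (phi T (aeval T s w)).range := by omega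
        have h2 := AddSubgroup.eq_of_le_of_card_ge (cyc_le T w s) h1
        exact hs (h2 ▸ self_mem_cyc T w)
      have h1 : w ∉ (phi T (aeval T (p ^ (2 ^ n - 1)) w)).range := by
        rintro ⟨s, hs⟩
        rw [phi_apply] at hs
        apply hr
        rw [← hs, ← aeval_mul_apply, ← aeval_mul_apply]
        have e : r * s * p ^ (2 ^ n - 1) = (s * p ^ (2 ^ n - 2)) * (p * r) := by
          have : 2 ^ n - 1 = (2 ^ n - 2) + 1 := by omega
          rw [this, pow_succ]; ring
        rw [e, aeval_mul_apply, aeval_mul_apply T w p r, hpr, map_zero]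
      have h2 : w ∉ (phi T (aeval T (1 - p ^ (2 ^ n - 1)) w)).range := by
        rintro ⟨s, hs⟩
        rw [phi_apply] at hs
        apply hp
        rw [← hs, ← aeval_mul_apply, ← aeval_mul_apply]
        have e : p * s * (1 - p ^ (2 ^ n - 1)) = s * (p - p ^ (2 ^ n)) := by
          have : 2 ^ n = (2 ^ n - 1) + 1 := by omega
          conv_rhs => rw [this, pow_succ]
          ring
        rw [e, aeval_mul_apply, map_sub, aeval_pow_eq T n hT, sub_self]
        simp
      have e : w = aeval T (p ^ (2 ^ n - 1)) w + aeval T (1 - p ^ (2 ^ n - 1)) w := by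
        rw [← LinearMap.add_apply, ← map_add]
        simp
      rw [e]
      exact add_mem (ih _ (hlt _ h1)) (ih _ (hlt _ h2))
    · push Not at h
      by_cases hw0 : w = 0
      · rw [hw0]; exact zero_mem _
      apply AddSubgroup.subset_closure
      refine ⟨(phi T w).range, self_mem_cyc T w, ?_, ?_⟩
      · rintro _ ⟨p, rfl⟩
        exact ⟨X * p, by rw [phi_apply, phi_apply, aeval_mul_apply, aeval_X]⟩
      · let I : Ideal (ZMod 2)[X] :=
          { carrier := {p | aeval T p w = 0}
            add_mem' := fun {a b} ha hb => by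
              show aeval T (a + b) w = 0
              rw [map_add, LinearMap.add_apply, ha, hb, add_zero]
            zero_mem' := by simp
            smul_mem' := fun c x hx => by
              show aeval T (c * x) w = 0
              rw [aeval_mul_apply, hx, map_zero] }
        have hI : ∀ p, p ∈ I ↔ aeval T p w = 0 := fun _ => Iff.rfl
        have hprime : I.IsPrime := by
          constructor
          · intro htop
            have : (1 : (ZMod 2)[X]) ∈ I := htop ▸ Submodule.mem_top
            rw [hI] at this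
            apply hw0
            simpa using this
          · intro a b hab
            rw [hI, aeval_mul_apply] at hab
            by_contra hcon
            push Not at hcon
            exact h a b hcon.1 hcon.2 hab
        have hpow : ∀ y : (ZMod 2)[X] ⧸ I, y ^ (2 ^ n) = y := by
          intro y
          obtain ⟨p, rfl⟩ := Ideal.Quotient.mk_surjective y
          rw [← map_pow, Ideal.Quotient.eq, hI, map_sub, aeval_pow_eq T n hT, sub_self]
          simp
        obtain ⟨hfin, hcard⟩ := card_le_of_pow_eq (2 ^ n) (by omega) hpow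
        refine le_trans ?_ hcard
        apply Nat.card_le_card_of_injective
          (fun u : (phi T w).range => Ideal.Quotient.mk I u.2.choose)
        intro u u' huu
        have h3 : aeval T u.2.choose w = u := u.2.choose_spec
        have h4 : aeval T u'.2.choose w = u' := u'.2.choose_spec
        have h5 : u.2.choose - u'.2.choose ∈ I := Ideal.Quotient.eq.1 huu
        rw [hI, map_sub, LinearMap.sub_apply, h3, h4, sub_eq_zero] at h5
        exact Subtype.ext h5

end

theorem SS {V : Type u} [AddCommGroup V] [Finite V] (h2 : ∀ v : V, v + v = 0) (ξ : V ≃+ V) (n : ℕ)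
    (hn : 0 < n) (hξ : ∀ w : V, (⇑ξ)^[2 ^ n - 1] w = w) (v : V) :
    v ∈ AddSubgroup.closure {w : V | ∃ U : AddSubgroup V, w ∈ U ∧ (∀ u ∈ U, ξ u ∈ U) ∧
      Nat.card U ≤ 2 ^ n} := by
  let _ : Module (ZMod 2) V :=
    AddCommGroup.zmodModule (n := 2) (fun x => by rw [two_nsmul]; exact h2 x)
  have hT : (ξ.toAddMonoidHom.toZModLinearMap 2 : Module.End (ZMod 2) V) ^ (2 ^ n) =
      ξ.toAddMonoidHom.toZModLinearMap 2 := by
    ext w
    rw [Module.End.pow_apply]
    have : 2 ^ n = (2 ^ n - 1) + 1 := by
      have : 0 < 2 ^ n := by positivity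
      omega
    rw [this, Function.iterate_succ_apply]
    exact hξ (ξ w)
  exact SS_mod (ξ.toAddMonoidHom.toZModLinearMap 2) n hn hT _ v le_rfl

end Cfsg.Agent.Lib.Helper6HigSS
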