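import Mathlib
import Cfsg.Agent.Lib.Helper61HigDefs

/-!
PROJECT 61, piece `AL` (alternating lemma).  Self-contained (re-proves the two facts of `basic` it needs
under primed names).
-/

set_option autoImplicit false

namespace Cfsg.Agent.Lib.Helper72HigAL

open Subgroup
open Cfsg.Agent.Lib.Helper61HigDefs

universe u v

variable {P : Type u} {A : Type v} [Group P] [Group A] {f : A →* MulAut P}

theorem comm_A (h : HS f) (a b : A) : a * b = b * a := by
  obtain ⟨g, hg⟩ := h.cyc.exists_generator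
  obtain ⟨i, rfl⟩ := Subgroup.mem_zpowers_iff.mp (hg a)
  obtain ⟨j, rfl⟩ := Subgroup.mem_zpowers_iff.mp (hg b)
  exact zpow_mul_comm g i j

theorem f_comm (h : HS f) (a b : A) (x : P) : f a (f b x) = f b (f a x) := by
  rw [← MulAut.mul_apply, ← MulAut.mul_apply, ← map_mul, ← map_mul, comm_A h a b]

/-- a nontrivial element of a 2-group has a power which is an involution -/
theorem exists_pow_invol (h : HS f) {x : P} (hx : x ≠ 1) :
    ∃ k : ℕ, x ^ k ≠ 1 ∧ x ^ k * x ^ k = 1 := by
  have : Fact (Nat.Prime 2) := ⟨Nat.prime_two⟩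
  obtain ⟨m, hm⟩ := IsPGroup.iff_orderOf.mp h.two x
  cases m with
  | zero =>
    rw [pow_zero, orderOf_eq_one_iff] at hm
    exact absurd hm hx
  | succ m =>
    refine ⟨2 ^ m, ?_, ?_⟩
    · intro h1
      have h2 := orderOf_dvd_of_pow_eq_one h1
      rw [hm] at h2
      have h3 := Nat.le_of_dvd (by positivity) h2
      rw [pow_succ] at h3
      have : 0 < 2 ^ m := by positivity
      omega
    · rw [← pow_add, ← two_mul, mul_comm, ← pow_succ, ← hm, pow_orderOf_eq_one]

theorem invol_central' (h : HS f) {z : P} (hz : z * z = 1) (x : P) : z * x = x * z := by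
  by_cases hz1 : z = 1
  · rw [hz1, one_mul, mul_one]
  have := h.fin
  have : Nontrivial P := ⟨⟨z, 1, hz1⟩⟩
  have : Fact (Nat.Prime 2) := ⟨Nat.prime_two⟩
  have hc := h.two.center_nontrivial
  obtain ⟨⟨c, hc⟩, hc1⟩ := exists_ne (1 : center P)
  have hc1' : c ≠ 1 := fun h0 => hc1 (Subtype.ext h0)
  obtain ⟨k, hk1, hk2⟩ := exists_pow_invol h hc1'
  have hkc : c ^ k ∈ center P := (center P).pow_mem hc k
  obtain ⟨a, ha, -⟩ := h.reg (c ^ k) z hk1 hk2 hz1 hz
  have h1 : c ^ k * f a⁻¹ x = f a⁻¹ x * c ^ k := (mem_center_iff.mp hkc (f a⁻¹ x)).symm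
  have h2 := congrArg (f a) h1
  rw [map_mul, map_mul, ha, apply_inv] at h2
  exact h2

theorem inv_eq_self {z : P} (hz : z * z = 1) : z⁻¹ = z := inv_eq_of_mul_eq_one_left hz

theorem eq_of_mul_eq_one {u v : P} (hv : v * v = 1) (huv : u * v = 1) : u = v := by
  rw [← inv_eq_self hv]; exact eq_inv_of_mul_eq_one_left huv

theorem mul_invol (h : HS f) {u v : P} (hu : u * u = 1) (hv : v * v = 1) :
    (u * v) * (u * v) = 1 := by
  calc (u * v) * (u * v) = u * (v * u) * v := by group
    _ = u * (u * v) * v := by rw [invol_central' h hv u]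
    _ = (u * u) * (v * v) := by group
    _ = 1 := by rw [hu, hv, one_mul]

/-- every element of `A` is a square -/
theorem exists_sq (h : HS f) (c : A) : ∃ a : A, a * a = c := by
  obtain ⟨w, -, -, hw1, hw2, -, -⟩ := h.many
  have := h.fin
  have hinj : Function.Injective (fun a : A => f a w) := by
    intro a b hab
    have hab' : f a w = f b w := hab
    have h1 : f b w ≠ 1 := by
      intro h0
      apply hw1
      have := congrArg (f b⁻¹) h0
      rwa [inv_apply, map_one] at this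
    have h2 : f b w * f b w = 1 := by rw [← map_mul, hw2, map_one]
    exact (h.reg w (f b w) hw1 hw2 h1 h2).unique hab' rfl
  have : Finite A := Finite.of_injective _ hinj
  -- no element of order two
  have hno : ∀ a : A, a * a = 1 → a = 1 := by
    intro a ha
    have hfa : f a (f a w) = w := by
      rw [← MulAut.mul_apply, ← map_mul, ha, map_one, MulAut.one_apply]
    have hfw2 : f a w * f a w = 1 := by rw [← map_mul, hw2, map_one]
    by_cases h1 : w * f a w = 1
    · have h2 : f a w = w := (inv_eq_of_mul_eq_one_right h1).symm.trans (inv_eq_self hw2)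
      exact (h.reg w w hw1 hw2 hw1 hw2).unique h2 (by rw [map_one, MulAut.one_apply])
    · have h2 : (w * f a w) * (w * f a w) = 1 := mul_invol h hw2 hfw2
      have h3 : f a (w * f a w) = w * f a w := by
        rw [map_mul, hfa, invol_central' h hw2 (f a w)]
      exact (h.reg _ _ h1 h2 h1 h2).unique h3 (by rw [map_one, MulAut.one_apply])
  have hodd : Odd (orderOf c) := by
    by_contra hev
    rw [Nat.not_odd_iff_even] at hev
    obtain ⟨t, ht⟩ := hev
    have hpos : 0 < orderOf c := orderOf_pos c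
    have h1 : c ^ t * c ^ t = 1 := by rw [← pow_add, ← ht, pow_orderOf_eq_one]
    have h2 := hno _ h1
    have h3 := Nat.le_of_dvd (by omega) (orderOf_dvd_of_pow_eq_one h2)
    omega
  obtain ⟨t, ht⟩ := hodd
  refine ⟨c ^ (t + 1), ?_⟩
  rw [← pow_add]
  have : t + 1 + (t + 1) = orderOf c + 1 := by omega
  rw [this, pow_succ, pow_orderOf_eq_one, one_mul]

theorem key1 (h : HS f) (a : A) (ha : a ≠ 1) :
    ∃ b : A, ∀ w : P, w * w = 1 → w * f a w = f b w := by
  obtain ⟨w₀, -, -, hw1, hw2, -, -⟩ := h.many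
  have hfw2 : f a w₀ * f a w₀ = 1 := by rw [← map_mul, hw2, map_one]
  have h1 : w₀ * f a w₀ ≠ 1 := by
    intro h1
    apply ha
    have h2 : f a w₀ = w₀ := (inv_eq_of_mul_eq_one_right h1).symm.trans (inv_eq_self hw2)
    exact (h.reg w₀ w₀ hw1 hw2 hw1 hw2).unique h2 (by rw [map_one, MulAut.one_apply])
  have h2 : (w₀ * f a w₀) * (w₀ * f a w₀) = 1 := mul_invol h hw2 hfw2
  obtain ⟨b, hb, -⟩ := h.reg w₀ _ hw1 hw2 h1 h2
  refine ⟨b, ?_⟩
  intro w hw
  by_cases hw0 : w = 1
  · rw [hw0, map_one, map_one, one_mul]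
  obtain ⟨c, hc, -⟩ := h.reg w₀ w hw1 hw2 hw0 hw
  rw [← hc, f_comm h a c, ← map_mul, ← hb, f_comm h b c]

theorem AL (h : HS f) (π : P → P) (β : P → P → P)
    (hπm : ∀ x y, π (x * y) = π x * π y) (hπ2 : ∀ x, π x * π x = 1)
    (hπe : ∀ a x, π (f a x) = f a (π x))
    (hβ2 : ∀ x y, β x y * β x y = 1)
    (hβl : ∀ x x' y, β (x * x') y = β x y * β x' y) (hβr : ∀ x y y', β x (y * y') = β x y * β x y')
    (hβe : ∀ a x y, β (f a x) (f a y) = f a (β x y))
    (hβd : ∀ x, β x x = 1)
    (hβk : ∀ x y, π x = 1 → β x y = 1) : ∀ x y, β x y = 1 := by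
  have hsym : ∀ x y, β x y = β y x := by
    intro x y
    have h1 := hβd (x * y)
    rw [hβl, hβr, hβr, hβd, hβd, one_mul, mul_one] at h1
    exact eq_of_mul_eq_one (hβ2 y x) h1
  have hπ1 : π 1 = 1 := by
    have h1 := hπm 1 1
    rw [mul_one] at h1
    exact (mul_eq_left.mp h1.symm)
  have hB : ∀ x x' y, π x = π x' → β x y = β x' y := by
    intro x x' y hxx
    have h1 : π (x'⁻¹ * x) = 1 := by
      rw [hπm, hxx, ← hπm, inv_mul_cancel, hπ1]
    have h2 : β x y = β (x' * (x'⁻¹ * x)) y := by rw [mul_inv_cancel_left]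
    rw [h2, hβl, hβk _ _ h1, mul_one]
  have hC : ∀ x y y', π y = π y' → β x y = β x y' := by
    intro x y y' hyy
    rw [hsym x y, hsym x y']
    exact hB y y' x hyy
  have h2 : ∀ a x y, β x (f a y) = β (f a x) y := by
    intro a x y
    by_cases ha : a = 1
    · rw [ha, map_one, MulAut.one_apply, MulAut.one_apply]
    obtain ⟨b, hb⟩ := key1 h a ha
    have e1 : π (x * f a x) = π (f b x) := by rw [hπm, hπe, hπe, hb _ (hπ2 x)]
    have e2 : π (y * f a y) = π (f b y) := by rw [hπm, hπe, hπe, hb _ (hπ2 y)]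
    have e3 : β (x * f a x) (y * f a y) = β x y * f a (β x y) := by
      rw [hB _ _ _ e1, hC _ _ _ e2, hβe, hb _ (hβ2 x y)]
    rw [hβl, hβr, hβr, hβe, mul_assoc, mul_right_inj, ← mul_assoc, mul_eq_right] at e3
    exact eq_of_mul_eq_one (hβ2 _ _) e3
  intro x y
  by_cases hx : π x = 1
  · exact hβk x y hx
  by_cases hy : π y = 1
  · rw [hsym]; exact hβk y x hy
  obtain ⟨c, hc, -⟩ := h.reg (π x) (π y) hx (hπ2 x) hy (hπ2 y)
  obtain ⟨a, rfl⟩ := exists_sq h c
  have h3 : π y = π (f (a * a) x) := by rw [hπe, hc]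
  rw [hC x y _ h3, map_mul, MulAut.mul_apply, h2, hβd]

end Cfsg.Agent.Lib.Helper72HigAL
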