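import Mathlib
import Cfsg.Agent.Lib.Helper61HigDefs

/-!
PROJECT 61, piece `step1` (`central_of_pow`).  Self-contained.
-/

set_option autoImplicit false

namespace Cfsg.Agent.Lib.Helper72HigStep1

open Subgroup
open Cfsg.Agent.Lib.Helper61HigDefs

universe u v

variable {P : Type u} {A : Type v} [Group P] [Group A] {f : A →* MulAut P}

theorem map_mem_center (a : A) {c : P} (hc : c ∈ center P) : f a c ∈ center P := by
  rw [mem_center_iff]
  intro g
  have h1 : f a⁻¹ g * c = c * f a⁻¹ g := mem_center_iff.mp hc (f a⁻¹ g)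
  have h2 := congrArg (f a) h1
  rwa [map_mul, map_mul, apply_inv] at h2

theorem central_of_pow_aux (h : HS f) (k : ℕ) : ∀ (c : P), c ∈ center P → orderOf c = 2 ^ k →
    ∀ x : P, x ^ (2 ^ k) = 1 → x ∈ center P := by
  induction k with
  | zero =>
    intro c _ _ x hx
    rw [pow_zero, pow_one] at hx
    rw [hx]
    exact (center P).one_mem
  | succ k ih =>
    intro c hc hck x hx
    have hc2 : c ^ 2 ∈ center P := (center P).pow_mem hc 2
    have hc2o : orderOf (c ^ 2) = 2 ^ k := by
      rw [orderOf_pow_of_dvd two_ne_zero (by rw [hck, pow_succ]; exact dvd_mul_left 2 _), hck,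
        pow_succ, Nat.mul_div_cancel _ two_pos]
    by_cases hxk : x ^ (2 ^ k) = 1
    · exact ih _ hc2 hc2o x hxk
    · have hu2 : x ^ (2 ^ k) * x ^ (2 ^ k) = 1 := by
        rw [← pow_add, ← two_mul, mul_comm, ← pow_succ, hx]
      have hv1 : c ^ (2 ^ k) ≠ 1 := by
        intro h1
        have h2 := orderOf_dvd_of_pow_eq_one h1
        rw [hck] at h2
        have h3 := Nat.le_of_dvd (by positivity) h2
        rw [pow_succ] at h3
        have : 0 < 2 ^ k := by positivity
        omega
      have hv2 : c ^ (2 ^ k) * c ^ (2 ^ k) = 1 := by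
        rw [← pow_add, ← two_mul, mul_comm, ← pow_succ, ← hck, pow_orderOf_eq_one]
      obtain ⟨a, ha, -⟩ := h.reg _ _ hv1 hv2 hxk hu2
      have hc' : f a c ∈ center P := map_mem_center a hc
      have hcomm : Commute x (f a c)⁻¹ :=
        (mem_center_iff.mp ((center P).inv_mem hc') x)
      have h1 : (x * (f a c)⁻¹) ^ (2 ^ k) = 1 := by
        rw [hcomm.mul_pow, inv_pow, ← map_pow, ha, mul_inv_cancel]
      have h2 := ih _ hc2 hc2o _ h1
      have h3 := (center P).mul_mem h2 hc'
      rwa [inv_mul_cancel_right] at h3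

theorem central_of_pow (h : HS f) {c : P} (hc : c ∈ center P) {k : ℕ} (hck : orderOf c = 2 ^ k)
    {x : P} (hx : x ^ (2 ^ k) = 1) : x ∈ center P :=
  central_of_pow_aux h k c hc hck x hx

end Cfsg.Agent.Lib.Helper72HigStep1
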