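import Mathlib
import Cfsg.Agent.Lib.Helper61HigDefs
import Cfsg.Agent.Lib.Helper72HigAL
import Cfsg.Agent.Lib.Helper72HigStep1

/-!
PROJECT 61, piece `class2` (`abelian_of_class_two`).
-/

set_option autoImplicit false

namespace Cfsg.Agent.Lib.Helper72HigClass2

open Subgroup
open Cfsg.Agent.Lib.Helper61HigDefs

universe u v

variable {P : Type u} {A : Type v} [Group P] [Group A] {f : A →* MulAut P}

/-- the commutator `x⁻¹ y⁻¹ x y` -/
def cm (x y : P) : P := x⁻¹ * y⁻¹ * x * y

theorem cm_self (x : P) : cm x x = 1 := by unfold cm; group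

theorem cm_one_left (y : P) : cm 1 y = 1 := by unfold cm; group

theorem cm_eq_one_iff {x y : P} : cm x y = 1 ↔ x * y = y * x := by
  unfold cm
  constructor
  · intro h
    have : x * y = y * x * (x⁻¹ * y⁻¹ * x * y) := by group
    rw [this, h, mul_one]
  · intro h
    have : x⁻¹ * y⁻¹ * x * y = x⁻¹ * y⁻¹ * (x * y) := by group
    rw [this, h]; group

theorem cm_of_central {z : P} (hz : z ∈ center P) (y : P) : cm z y = 1 :=
  cm_eq_one_iff.mpr (mem_center_iff.mp hz y).symm

section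
variable (hcl : ∀ x y : P, cm x y ∈ center P)
include hcl

theorem cm_mul_left (x x' y : P) : cm (x * x') y = cm x y * cm x' y := by
  have h1 : cm (x * x') y = x'⁻¹ * cm x y * (y⁻¹ * x' * y) := by unfold cm; group
  have h2 : x'⁻¹ * cm x y = cm x y * x'⁻¹ := mem_center_iff.mp (hcl x y) x'⁻¹
  rw [h1, h2]
  unfold cm; group

theorem cm_mul_right (x y y' : P) : cm x (y * y') = cm x y * cm x y' := by
  have h1 : cm x (y * y') = x⁻¹ * y'⁻¹ * x * cm x y * y' := by unfold cm; group
  have h2 : x⁻¹ * y'⁻¹ * x * cm x y = cm x y * (x⁻¹ * y'⁻¹ * x) :=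
    mem_center_iff.mp (hcl x y) _
  rw [h1, h2]
  unfold cm; group

theorem cm_pow_left (x y : P) (k : ℕ) : cm (x ^ k) y = cm x y ^ k := by
  induction k with
  | zero => rw [pow_zero, pow_zero, cm_one_left]
  | succ k ih => rw [pow_succ, pow_succ, cm_mul_left hcl, ih]

theorem mul_pow_class_two (x y : P) (n : ℕ) :
    (x * y) ^ n = x ^ n * y ^ n * cm y x ^ (n.choose 2) := by
  induction n with
  | zero => simp
  | succ n ih =>
    have hc : ∀ (k : ℕ) (g : P), g * cm y x ^ k = cm y x ^ k * g := fun k g =>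
      mem_center_iff.mp ((center P).pow_mem (hcl y x) k) g
    have h1 : y ^ n * x = x * y ^ n * cm y x ^ n := by
      rw [← cm_pow_left hcl]; unfold cm; group
    have h2 : (n + 1).choose 2 = n + n.choose 2 := by
      rw [Nat.choose_succ_succ' n 1, Nat.choose_one_right]
    rw [pow_succ, ih, h2]
    calc x ^ n * y ^ n * cm y x ^ n.choose 2 * (x * y)
        = x ^ n * (y ^ n * x) * y * cm y x ^ n.choose 2 := by
          rw [mul_assoc (x ^ n * y ^ n), ← hc (n.choose 2) (x * y)]; group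
      _ = x ^ n * (x * y ^ n * cm y x ^ n) * y * cm y x ^ n.choose 2 := by rw [h1]
      _ = x ^ n * x * y ^ n * (cm y x ^ n * y) * cm y x ^ n.choose 2 := by group
      _ = x ^ n * x * y ^ n * (y * cm y x ^ n) * cm y x ^ n.choose 2 := by rw [hc n y]
      _ = x ^ (n + 1) * y ^ (n + 1) * cm y x ^ (n + n.choose 2) := by
          rw [pow_succ x, pow_succ y, pow_add]; group

end

theorem dvd_choose_two_pow (i : ℕ) : 2 ^ i ∣ (2 ^ (i + 1)).choose 2 := by
  rw [Nat.choose_two_right, pow_succ, mul_comm (2 ^ i) 2, mul_assoc,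
    Nat.mul_div_cancel_left _ two_pos]
  exact dvd_mul_right _ _

theorem abelian_of_class_two (h : HS f) {c : P} (hc : c ∈ center P) (hc4 : orderOf c = 4)
    (hcl : ∀ x y : P, x⁻¹ * y⁻¹ * x * y ∈ center P) : ∀ x y : P, x * y = y * x := by
  have hcl' : ∀ x y : P, cm x y ∈ center P := hcl
  by_contra hna
  have := h.fin
  have : Fact (Nat.Prime 2) := ⟨Nat.prime_two⟩
  obtain ⟨n, hn⟩ := IsPGroup.iff_card.mp h.two
  have hpn : ∀ x : P, x ^ (2 ^ n) = 1 := fun x => by rw [← hn]; exact pow_card_eq_one'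
  -- the minimal `j`
  have hE : ∃ j : ℕ, ∀ x : P, x ^ (2 ^ j) ∈ center P :=
    ⟨n, fun x => by rw [hpn x]; exact (center P).one_mem⟩
  classical
  obtain ⟨j, hj1, hj0⟩ : ∃ j : ℕ, (∀ x : P, x ^ (2 ^ (j + 1)) ∈ center P) ∧
      ¬ ∀ x : P, x ^ (2 ^ j) ∈ center P := by
    have h0 : Nat.find hE ≠ 0 := by
      intro h0
      have h1 := Nat.find_spec hE
      rw [h0] at h1
      apply hna
      intro x y
      have := h1 x
      rw [pow_zero, pow_one] at this
      exact (mem_center_iff.mp this y).symm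
    obtain ⟨j, hj⟩ := Nat.exists_eq_succ_of_ne_zero h0
    refine ⟨j, ?_, ?_⟩
    · have h1 := Nat.find_spec hE
      rwa [hj] at h1
    · exact Nat.find_min hE (by omega)
  -- the exponent of the centre
  have hM : ∃ m : ℕ, ∀ z ∈ center P, z ^ (2 ^ m) = 1 := ⟨n, fun z _ => hpn z⟩
  obtain ⟨m, hm1, hmz, c', hc', hco⟩ : ∃ m : ℕ, 1 ≤ m ∧ (∀ z ∈ center P, z ^ (2 ^ (m + 1)) = 1) ∧
      ∃ c' ∈ center P, orderOf c' = 2 ^ (m + 1) := by
    have h0 : 2 ≤ Nat.find hM := by
      by_contra hlt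
      have h1 := Nat.find_spec hM c hc
      have h2 := orderOf_dvd_of_pow_eq_one h1
      rw [hc4] at h2
      have h3 : 2 ^ Nat.find hM ≤ 2 ^ 1 := Nat.pow_le_pow_right two_pos (by omega)
      have h4 := Nat.le_of_dvd (by positivity) h2
      omega
    obtain ⟨m, hm⟩ : ∃ m, Nat.find hM = m + 1 := ⟨Nat.find hM - 1, by omega⟩
    refine ⟨m, by omega, ?_, ?_⟩
    · have h1 := Nat.find_spec hM
      rwa [hm] at h1
    · have h1 := Nat.find_min hM (m := m) (by omega)
      push Not at h1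
      obtain ⟨c', hc', hne⟩ := h1
      refine ⟨c', hc', orderOf_eq_prime_pow hne ?_⟩
      have h2 := Nat.find_spec hM c' hc'
      rwa [hm] at h2
  -- commutators are killed by `2 ^ (j + 1)`
  have hk : ∀ x y : P, cm x y ^ (2 ^ (j + 1)) = 1 := by
    intro x y
    rw [← cm_pow_left hcl']
    exact cm_of_central (hj1 x) y
  have hAL := Cfsg.Agent.Lib.Helper72HigAL.AL h (fun x => x ^ (2 ^ (j + (m + 1))))
    (fun x y => cm x y ^ (2 ^ j))
    (by
      intro x y
      show (x * y) ^ (2 ^ (j + (m + 1))) = _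
      rw [mul_pow_class_two hcl']
      have h1 : 2 ^ (j + 1) ∣ (2 ^ (j + (m + 1))).choose 2 :=
        (pow_dvd_pow 2 (by omega)).trans (dvd_choose_two_pow (j + m))
      obtain ⟨e, he⟩ := h1
      rw [he, pow_mul, hk, one_pow, mul_one])
    (by
      intro x
      show x ^ (2 ^ (j + (m + 1))) * x ^ (2 ^ (j + (m + 1))) = 1
      have h1 := hmz _ (hj1 x)
      rw [← pow_mul] at h1
      rw [← pow_add, ← h1]
      congr 1
      ring)
    (by
      intro a x
      exact (map_pow (f a) x _).symm)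
    (by
      intro x y
      show cm x y ^ (2 ^ j) * cm x y ^ (2 ^ j) = 1
      rw [← pow_add, ← two_mul, mul_comm, ← pow_succ, hk])
    (by
      intro x x' y
      show cm (x * x') y ^ (2 ^ j) = cm x y ^ (2 ^ j) * cm x' y ^ (2 ^ j)
      rw [cm_mul_left hcl']
      exact Commute.mul_pow (mem_center_iff.mp (hcl' x' y) _) _)
    (by
      intro x y y'
      show cm x (y * y') ^ (2 ^ j) = cm x y ^ (2 ^ j) * cm x y' ^ (2 ^ j)
      rw [cm_mul_right hcl']
      exact Commute.mul_pow (mem_center_iff.mp (hcl' x y') _) _)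
    (by
      intro a x y
      show cm (f a x) (f a y) ^ (2 ^ j) = f a (cm x y ^ (2 ^ j))
      rw [map_pow]
      unfold cm
      rw [map_mul, map_mul, map_mul, map_inv, map_inv])
    (by
      intro x
      show cm x x ^ (2 ^ j) = 1
      rw [cm_self, one_pow])
    (by
      intro x y hx
      show cm x y ^ (2 ^ j) = 1
      have hx' : x ^ (2 ^ (j + (m + 1))) = 1 := hx
      rw [← cm_pow_left hcl']
      apply cm_of_central
      apply Cfsg.Agent.Lib.Helper72HigStep1.central_of_pow h hc' hco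
      rw [← pow_mul, ← pow_add, hx'])
  apply hj0
  intro x
  rw [mem_center_iff]
  intro y
  have h1 : cm x y ^ (2 ^ j) = 1 := hAL x y
  rw [← cm_pow_left hcl'] at h1
  exact (cm_eq_one_iff.mp h1).symm

end Cfsg.Agent.Lib.Helper72HigClass2
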