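import Mathlib
import Cfsg.Agent.Lib.Helper61HigDefs

set_option autoImplicit false

namespace Cfsg.Agent.Lib.Helper73HigSplit

open Subgroup
open Cfsg.Agent.Lib.Helper61HigDefs

universe u v

variable {P : Type u} {A : Type v} [Group P] [Group A] {f : A →* MulAut P}

theorem normal_of_sq {C : Subgroup P} (hsq : ∀ g : P, g * g ∈ C) : C.Normal := by
  constructor
  intro c hc g
  have : g * c * g⁻¹ = (g * c) * (g * c) * c⁻¹ * (g⁻¹ * g⁻¹) := by group
  rw [this]
  exact C.mul_mem (C.mul_mem (hsq _) (C.inv_mem hc)) (hsq _)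

theorem quot_sq (C : Subgroup P) [C.Normal] (hsq : ∀ g : P, g * g ∈ C) (x : P ⧸ C) : x * x = 1 := by
  induction x using QuotientGroup.induction_on with
  | H x =>
    rw [← QuotientGroup.mk_mul, QuotientGroup.eq_one_iff]
    exact hsq x

/-- the quotient by a subgroup containing all squares is commutative -/
@[reducible] def commQ (C : Subgroup P) [C.Normal] (hsq : ∀ g : P, g * g ∈ C) : CommGroup (P ⧸ C) :=
  { (inferInstance : Group (P ⧸ C)) with
    mul_comm := by
      intro x y
      have h2 := quot_sq C hsq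
      calc x * y = (x * y)⁻¹ := eq_inv_of_mul_eq_one_left (h2 (x * y))
        _ = y⁻¹ * x⁻¹ := mul_inv_rev x y
        _ = y * x := by
          rw [← eq_inv_of_mul_eq_one_left (h2 x), ← eq_inv_of_mul_eq_one_left (h2 y)] }

theorem split_aux (h : HS f) {C : Subgroup P} (hC : Inv f C) (hne : C ≠ ⊤)
    {Q : Type u} [CommGroup Q] (π : P →* Q) (hπ : Function.Surjective π)
    (hker : ∀ x, π x = 1 ↔ x ∈ C) (h2 : ∀ y : Q, y * y = 1) (η : A →* MulAut Q)
    (hη : ∀ a x, η a (π x) = π (f a x)) (g : P)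
    (hexq : ∃ n : ℕ, 2 ≤ n ∧ Nat.card A + 1 = 2 ^ n)
    (hfc : ∀ {C : Subgroup P} (_ : Inv f C) {a : A} {g : P} (_ : g ∉ C) (_ : g⁻¹ * f a g ∈ C), a = 1)
    (hSS : ∀ {V : Type u} [AddCommGroup V] [Finite V] (_ : ∀ v : V, v + v = 0) (ξ : V ≃+ V) (n : ℕ)
      (_ : 0 < n) (_ : ∀ w : V, (⇑ξ)^[2 ^ n - 1] w = w) (v : V),
      v ∈ AddSubgroup.closure {w : V | ∃ U : AddSubgroup V, w ∈ U ∧ (∀ u ∈ U, ξ u ∈ U) ∧
        Nat.card U ≤ 2 ^ n}) :
    g ∈ closure {x : P | ∃ M : Subgroup P, RegOver f C M ∧ x ∈ M} := by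
  haveI := h.fin
  haveI : Finite Q := Finite.of_surjective π hπ
  obtain ⟨n, hn2, hn⟩ := hexq
  haveI := h.cyc
  obtain ⟨a₀, ha₀⟩ := IsCyclic.exists_generator (α := A)
  have hpow4 : 4 ≤ 2 ^ n := by
    calc 4 = 2 ^ 2 := by norm_num
      _ ≤ 2 ^ n := Nat.pow_le_pow_right (by norm_num) hn2
  haveI : Finite A := Nat.finite_of_card_ne_zero (by omega)
  have hgen : ∀ a : A, ∃ k : ℕ, a₀ ^ k = a := by
    intro a
    have := (mem_powers_iff_mem_zpowers).2 (ha₀ a)
    exact Submonoid.mem_powers_iff _ _ |>.1 this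
  let ξ : Additive Q ≃+ Additive Q := MulEquiv.toAdditive (η a₀)
  have hξ1 : ∀ y : Q, ξ (Additive.ofMul y) = Additive.ofMul (η a₀ y) := fun _ => rfl
  have hξk : ∀ (k : ℕ) (y : Q), (⇑ξ)^[k] (Additive.ofMul y) = Additive.ofMul (η (a₀ ^ k) y) := by
    intro k
    induction k with
    | zero => intro y; simp
    | succ k ih =>
      intro y
      rw [Function.iterate_succ_apply', ih, hξ1, pow_succ', map_mul]
      rfl
  have hξ : ∀ w : Additive Q, (⇑ξ)^[2 ^ n - 1] w = w := by
    intro w
    have e : 2 ^ n - 1 = Nat.card A := by omega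
    have := hξk (2 ^ n - 1) (Additive.toMul w)
    rw [e, pow_card_eq_one', map_one] at this
    rw [e]
    exact this
  have hSS := hSS (V := Additive Q) (fun v => h2 (Additive.toMul v)) ξ n (by omega) hξ
  -- the subgroup attached to `U`
  have hA : ∀ (U : AddSubgroup (Additive Q)) (w : Additive Q), w ∈ U → w ≠ 0 →
      (∀ u ∈ U, ξ u ∈ U) → Nat.card U ≤ 2 ^ n →
      ∃ M : Subgroup P, RegOver f C M ∧ ∀ x, Additive.ofMul (π x) ∈ U → x ∈ M := by
    intro U w hwU hw0 hstab hcard
    let M : Subgroup P :=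
      { carrier := {x | Additive.ofMul (π x) ∈ U}
        one_mem' := by
          change Additive.ofMul (π 1) ∈ U
          rw [map_one]; exact U.zero_mem
        mul_mem' := by
          intro x y hx hy
          change Additive.ofMul (π (x * y)) ∈ U
          rw [map_mul]; exact U.add_mem hx hy
        inv_mem' := by
          intro x hx
          change Additive.ofMul (π x⁻¹) ∈ U
          rw [map_inv]; exact U.neg_mem hx }
    have hMmem : ∀ x, x ∈ M ↔ Additive.ofMul (π x) ∈ U := fun _ => Iff.rfl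
    have hstabk : ∀ (k : ℕ), ∀ u ∈ U, (⇑ξ)^[k] u ∈ U := by
      intro k
      induction k with
      | zero => intro u hu; exact hu
      | succ k ih =>
        intro u hu
        rw [Function.iterate_succ_apply']
        exact hstab _ (ih u hu)
    have hMinv : Inv f M := by
      intro a x hx
      obtain ⟨k, rfl⟩ := hgen a
      rw [hMmem, ← hη, ← hξk]
      exact hstabk k _ hx
    have hnotC : ∀ (a : A) (x : P), x ∉ C → f a x ∉ C := by
      intro a x hx hax
      apply hx
      have := hC a⁻¹ _ hax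
      rwa [inv_apply] at this
    refine ⟨M, ⟨hMinv, ?_, ?_, ?_⟩, fun x hx => hx⟩
    · intro c hc
      rw [hMmem, (hker c).2 hc]
      exact U.zero_mem
    · obtain ⟨x, hx⟩ := hπ (Additive.toMul w)
      refine ⟨x, ?_, ?_⟩
      · rw [hMmem, hx]; exact hwU
      · intro hxC
        apply hw0
        rw [(hker x).2 hxC] at hx
        exact (congrArg Additive.ofMul hx).symm
    · intro g hg g' hg' hgC hg'C
      let φ : A → {u : Additive Q // u ∈ U ∧ u ≠ 0} := fun a =>
        ⟨Additive.ofMul (π (f a g)), hMinv a g hg, fun h0 =>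
          hnotC a g hgC ((hker _).1 (congrArg Additive.toMul h0))⟩
      have hφinj : Function.Injective φ := by
        intro a b hab
        have h1 : π (f a g) = π (f b g) := congrArg (fun t => Additive.toMul t.1) hab
        have h3 : (f b g)⁻¹ * f a g ∈ C := by
          rw [← hker, map_mul, map_inv, h1, inv_mul_cancel]
        have h4 := hC b⁻¹ _ h3
        rw [map_mul, map_inv, inv_apply] at h4
        have h5 : f b⁻¹ (f a g) = f (b⁻¹ * a) g := by rw [map_mul]; rfl
        rw [h5] at h4
        have h6 := hfc hC hgC h4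
        exact (inv_mul_eq_one.1 h6).symm
      have hcard2 : Nat.card {u : Additive Q // u ∈ U ∧ u ≠ 0} ≤ Nat.card A := by
        let ψ : Option {u : Additive Q // u ∈ U ∧ u ≠ 0} → U := fun o =>
          match o with
          | none => 0
          | some t => ⟨t.1, t.2.1⟩
        have hψ : Function.Injective ψ := by
          rintro (_ | ⟨s, hs⟩) (_ | ⟨t, ht⟩) hst
          · rfl
          · exact absurd (congrArg Subtype.val hst).symm ht.2
          · exact absurd (congrArg Subtype.val hst) hs.2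
          · have : s = t := congrArg Subtype.val hst
            subst this
            rfl
        have := Nat.card_le_card_of_injective ψ hψ
        rw [Finite.card_option] at this
        omega
      obtain ⟨a, ha⟩ := (hφinj.bijective_of_nat_card_le hcard2).2
        ⟨Additive.ofMul (π g'), hg', fun h0 => hg'C ((hker _).1 (congrArg Additive.toMul h0))⟩
      refine ⟨a, ?_⟩
      have h1 : π (f a g) = π g' := congrArg (fun t => Additive.toMul t.1) ha
      rw [← hker, map_mul, map_inv, h1, inv_mul_cancel]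
  set K := closure {x : P | ∃ M : Subgroup P, RegOver f C M ∧ x ∈ M} with hK
  -- `C ≤ K`
  have hCK : C ≤ K := by
    obtain ⟨g₀, hg₀⟩ : ∃ g₀, g₀ ∉ C := by
      by_contra hh
      push Not at hh
      exact hne (eq_top_iff.2 fun x _ => hh x)
    by_contra hCK
    have hall : ∀ w ∈ {w : Additive Q | ∃ U : AddSubgroup (Additive Q), w ∈ U ∧
        (∀ u ∈ U, ξ u ∈ U) ∧ Nat.card U ≤ 2 ^ n}, w = 0 := by
      rintro w ⟨U, hwU, hstab, hcard⟩
      by_contra hw0
      obtain ⟨M, hM, _⟩ := hA U w hwU hw0 hstab hcard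
      apply hCK
      intro c hc
      exact subset_closure ⟨M, hM, hM.le hc⟩
    have h1 : AddSubgroup.closure {w : Additive Q | ∃ U : AddSubgroup (Additive Q), w ∈ U ∧
        (∀ u ∈ U, ξ u ∈ U) ∧ Nat.card U ≤ 2 ^ n} ≤ ⊥ := by
      rw [AddSubgroup.closure_le]
      intro w hw
      exact hall w hw
    have h3 := h1 (hSS (Additive.ofMul (π g₀)))
    rw [AddSubgroup.mem_bot] at h3
    exact hg₀ ((hker _).1 (congrArg Additive.toMul h3))
  have main : ∀ v ∈ AddSubgroup.closure {w : Additive Q | ∃ U : AddSubgroup (Additive Q), w ∈ U ∧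
        (∀ u ∈ U, ξ u ∈ U) ∧ Nat.card U ≤ 2 ^ n}, ∀ x : P, Additive.ofMul (π x) = v → x ∈ K := by
    intro v hv
    induction hv using AddSubgroup.closure_induction with
    | mem w hw =>
      intro x hx
      obtain ⟨U, hwU, hstab, hcard⟩ := hw
      by_cases hw0 : w = 0
      · apply hCK
        rw [hw0] at hx
        exact (hker _).1 (congrArg Additive.toMul hx)
      · obtain ⟨M, hM, hMx⟩ := hA U w hwU hw0 hstab hcard
        exact subset_closure ⟨M, hM, hMx x (hx ▸ hwU)⟩
    | zero =>
      intro x hx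
      exact hCK ((hker _).1 (congrArg Additive.toMul hx))
    | add v v' _ _ ih ih' =>
      intro x hx
      obtain ⟨y, hy⟩ := hπ (Additive.toMul v)
      have h1 : y ∈ K := ih y (congrArg Additive.ofMul hy)
      have h3 : y⁻¹ * x ∈ K := by
        apply ih'
        rw [map_mul, map_inv, hy]
        have : π x = Additive.toMul v * Additive.toMul v' := congrArg Additive.toMul hx
        rw [this]
        simp
      have : x = y * (y⁻¹ * x) := by group
      rw [this]
      exact K.mul_mem h1 h3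
    | neg v _ ih =>
      intro x hx
      have h1 : x⁻¹ ∈ K := by
        apply ih
        rw [map_inv]
        have : π x = (Additive.toMul v)⁻¹ := congrArg Additive.toMul hx
        rw [this]
        simp
      simpa using K.inv_mem h1
  exact main _ (hSS (Additive.ofMul (π g))) g rfl

/-- piece `split`; the extra hypotheses are `exists_q`, `fpf_coset` (piece `basic`) and `SS` -/
theorem split (h : HS f) {C : Subgroup P} (hC : Inv f C) (hne : C ≠ ⊤) (hsq : ∀ g : P, g * g ∈ C) (g : P)
    (hexq : ∃ n : ℕ, 2 ≤ n ∧ Nat.card A + 1 = 2 ^ n)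
    (hfc : ∀ {C : Subgroup P} (_ : Inv f C) {a : A} {g : P} (_ : g ∉ C) (_ : g⁻¹ * f a g ∈ C), a = 1)
    (hSS : ∀ {V : Type u} [AddCommGroup V] [Finite V] (_ : ∀ v : V, v + v = 0) (ξ : V ≃+ V) (n : ℕ)
      (_ : 0 < n) (_ : ∀ w : V, (⇑ξ)^[2 ^ n - 1] w = w) (v : V),
      v ∈ AddSubgroup.closure {w : V | ∃ U : AddSubgroup V, w ∈ U ∧ (∀ u ∈ U, ξ u ∈ U) ∧
        Nat.card U ≤ 2 ^ n}) :
    g ∈ closure {x : P | ∃ M : Subgroup P, RegOver f C M ∧ x ∈ M} := by
  haveI := normal_of_sq hsq
  letI := commQ C hsq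
  exact split_aux h hC hne (QuotientGroup.mk' C) (QuotientGroup.mk'_surjective C)
    (fun x => QuotientGroup.eq_one_iff x) (quot_sq C hsq) (quo f C hC) (fun a x => rfl) g hexq hfc hSS

end Cfsg.Agent.Lib.Helper73HigSplit
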