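import Mathlib

set_option autoImplicit false

/-! # Project 61 (Higman's theorem on Suzuki 2-groups), piece `ABL` -/

namespace Cfsg.Agent.Lib.Helper90HigABL

theorem ABL {F : Type*} [Field F] [Finite F] [CharP F 2] {X₁ X₂ : Type*} [Group X₁] [Group X₂]
    (i₁ : X₁ → F) (i₂ : X₂ → F) (hs₁ : Function.Surjective i₁) (hs₂ : Function.Surjective i₂)
    (hi₁ : ∀ x x', i₁ (x * x') = i₁ x + i₁ x') (hi₂ : ∀ g g', i₂ (g * g') = i₂ g + i₂ g')
    (τ₁ τ₂ : F ≃+* F) (h₁ : τ₁ ≠ RingEquiv.refl F) (h₂ : τ₂ ≠ RingEquiv.refl F)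
    (Γ : X₁ → X₂ → F) (hΓ₁ : ∀ x x' g, Γ (x * x') g = Γ x g + Γ x' g)
    (hΓ₂ : ∀ x g g', Γ x (g * g') = Γ x g + Γ x g')
    (hne : ∃ x g, Γ x g ≠ 0) (hstar : ∀ x g, i₁ x * τ₁ (Γ x g) = i₂ g * τ₂ (Γ x g)) : False := by
  have h2 : (2 : F) = 0 := CharTwo.two_eq_zero
  obtain ⟨y₁, hy₁⟩ := hs₁ 1
  obtain ⟨g₁, hg₁⟩ := hs₂ 1
  have hA : ∀ x g, τ₁ (Γ x g) = i₁ x * τ₁ (Γ y₁ g) := by
    intro x g
    have := hstar (x * y₁) g
    rw [hi₁, hΓ₁, map_add, map_add, hy₁] at this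
    have e1 := hstar x g
    have e2 := hstar y₁ g
    rw [hy₁] at e2
    linear_combination this - e1 - e2 - (i₁ x * τ₁ (Γ y₁ g)) * h2
  have hB : ∀ x g, τ₂ (Γ x g) = i₂ g * τ₂ (Γ x g₁) := by
    intro x g
    have := hstar x (g * g₁)
    rw [hi₂, hΓ₂, map_add, map_add, hg₁] at this
    have e1 := hstar x g
    have e2 := hstar x g₁
    rw [hg₁] at e2
    linear_combination -this + e1 + e2 - (i₂ g * τ₂ (Γ x g₁)) * h2
  set κ := Γ y₁ g₁ with hκ
  have hκ0 : κ ≠ 0 := by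
    intro h0
    obtain ⟨x, g, hxg⟩ := hne
    apply hxg
    have e1 : Γ y₁ g = 0 := by
      have := hB y₁ g
      rw [← hκ, h0, map_zero, mul_zero] at this
      exact (map_eq_zero τ₂).1 this
    have := hA x g
    rw [e1, map_zero, mul_zero] at this
    exact (map_eq_zero τ₁).1 this
  have hκ12 : τ₂ κ = τ₁ κ := by
    have := hstar y₁ g₁
    rw [hy₁, hg₁, one_mul, one_mul] at this
    exact this.symm
  have hκ' : τ₁ κ ≠ 0 := fun h => hκ0 ((map_eq_zero τ₁).1 h)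
  -- `τ₂ v = (τ₁ v)²`
  have hC : ∀ v, τ₂ v = τ₁ v * τ₁ v := by
    intro v
    obtain ⟨x, hx⟩ := hs₁ (τ₁ v)
    have e1 : τ₁ (Γ x g₁) = τ₁ v * τ₁ κ := by rw [hA x g₁, hx]
    have e2 : Γ x g₁ = v * κ := by
      apply τ₁.injective
      rw [e1, map_mul]
    have e3 := hstar x g₁
    rw [hg₁, one_mul, e2, hx, map_mul, map_mul, hκ12] at e3
    have : (τ₂ v - τ₁ v * τ₁ v) * τ₁ κ = 0 := by linear_combination -e3
    rcases mul_eq_zero.1 this with h | h
    · exact sub_eq_zero.1 h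
    · exact absurd h hκ'
  have hDD : ∀ v, τ₁ v = τ₂ v * τ₂ v := by
    intro v
    obtain ⟨g, hg⟩ := hs₂ (τ₂ v)
    have e1 : τ₂ (Γ y₁ g) = τ₂ v * τ₂ κ := by rw [hB y₁ g, hg]
    have e2 : Γ y₁ g = v * κ := by
      apply τ₂.injective
      rw [e1, map_mul]
    have e3 := hstar y₁ g
    rw [hy₁, one_mul, e2, hg, map_mul, map_mul, hκ12] at e3
    have : (τ₁ v - τ₂ v * τ₂ v) * τ₁ κ = 0 := by linear_combination e3
    rcases mul_eq_zero.1 this with h | h
    · exact sub_eq_zero.1 h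
    · exact absurd h hκ'
  have hfour : ∀ X : F, X * X * (X * X) = X := by
    intro X
    obtain ⟨v, rfl⟩ := τ₁.surjective X
    conv_rhs => rw [hDD v, hC v]
  have hroot : ∀ X : F, X = 0 ∨ X = 1 ∨ X * X = X + 1 := by
    intro X
    have : X * ((X - 1) * (X * X - (X + 1))) = 0 := by
      linear_combination hfour X - (X * X * X) * h2 + X * h2
    rcases mul_eq_zero.1 this with h | h
    · exact Or.inl h
    · rcases mul_eq_zero.1 h with h | h
      · exact Or.inr (Or.inl (sub_eq_zero.1 h))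
      · exact Or.inr (Or.inr (sub_eq_zero.1 h))
  obtain ⟨ω, hω⟩ : ∃ ω, τ₁ ω ≠ ω := by
    by_contra hcon
    push Not at hcon
    exact h₁ (RingEquiv.ext hcon)
  have hω0 : ω ≠ 0 := by
    rintro rfl
    exact hω (map_zero _)
  have hω1 : ω ≠ 1 := by
    rintro rfl
    exact hω (map_one _)
  have hωω : ω * ω = ω + 1 := by
    rcases hroot ω with h | h | h
    · exact absurd h hω0
    · exact absurd h hω1
    · exact h
  have hpair : ∀ t : F, t * t = t + 1 → t = ω ∨ t = ω + 1 := by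
    intro t ht
    have : (t - ω) * (t - (ω + 1)) = 0 := by
      linear_combination ht + hωω + (1 + ω - t * ω) * h2
    rcases mul_eq_zero.1 this with h | h
    · exact Or.inl (sub_eq_zero.1 h)
    · exact Or.inr (sub_eq_zero.1 h)
  have ht1 : τ₁ ω = ω + 1 := by
    have : τ₁ ω * τ₁ ω = τ₁ ω + 1 := by
      rw [← map_mul, hωω, map_add, map_one]
    rcases hpair _ this with h | h
    · exact absurd h hω
    · exact h
  have ht2 : τ₂ ω = ω := by
    rw [hC, ht1]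
    linear_combination hωω + (ω + 1) * h2
  apply h₂
  apply RingEquiv.ext
  intro X
  rw [RingEquiv.refl_apply]
  rcases hroot X with h | h | h
  · rw [h, map_zero]
  · rw [h, map_one]
  · rcases hpair X h with h | h
    · rw [h, ht2]
    · rw [h, map_add, map_one, ht2]

end Cfsg.Agent.Lib.Helper90HigABL
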