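import Mathlib

set_option autoImplicit false

/-! PROJECT 61, piece `IL`: a field from a transitive cyclic action. -/

namespace Cfsg.Agent.Lib.Helper40HigIL

universe u

open Polynomial Module

theorem IL {Z : Type u} [AddCommGroup Z] [Finite Z] [Nontrivial Z] (ξ : Z ≃+ Z)
    (h2 : ∀ z : Z, z + z = 0)
    (htr : ∀ z w : Z, z ≠ 0 → w ≠ 0 → ∃ i : ℕ, (⇑ξ)^[i] z = w) :
    ∃ (F : Type) (_ : Field F) (_ : Fintype F) (_ : CharP F 2) (i : Z ≃+ F) (l : F),
      ∀ z, i (ξ z) = l * i z := by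
  classical
  let _ : Module (ZMod 2) Z := AddCommGroup.zmodModule (n := 2) (fun x => by rw [two_nsmul]; exact h2 x)
  let φ : Z →ₗ[ZMod 2] Z := AddMonoidHom.toZModLinearMap 2 ξ.toAddMonoidHom
  have hφ : ∀ z, φ z = ξ z := fun z => rfl
  have hφpow : ∀ (i : ℕ) (z : Z), (φ ^ i) z = (⇑ξ)^[i] z := by
    intro i
    induction i with
    | zero => intro z; rfl
    | succ n ih =>
      intro z
      rw [pow_succ, Module.End.mul_apply, ih, hφ, Function.iterate_succ_apply]
  have hsimple : IsSimpleModule (ZMod 2)[X] (AEval' φ) := by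
    rw [isSimpleModule_iff_toSpanSingleton_surjective]
    refine ⟨(AEval'.of φ).injective.nontrivial, ?_⟩
    intro x hx w
    obtain ⟨z, rfl⟩ := (AEval'.of φ).surjective x
    obtain ⟨w, rfl⟩ := (AEval'.of φ).surjective w
    have hz : z ≠ 0 := by
      rintro rfl
      exact hx (map_zero _)
    by_cases hw : w = 0
    · refine ⟨0, ?_⟩
      rw [hw, map_zero, map_zero]
    · obtain ⟨i, hi⟩ := htr z w hz hw
      refine ⟨X ^ i, ?_⟩
      rw [LinearMap.toSpanSingleton_apply, AEval'.X_pow_smul_of, Module.End.smul_def, hφpow, hi]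
  obtain ⟨I, hI, ⟨e⟩⟩ := isSimpleModule_iff_quot_maximal.mp hsimple
  let _ : Field ((ZMod 2)[X] ⧸ I) := Ideal.Quotient.field I
  let i : Z ≃+ ((ZMod 2)[X] ⧸ I) := (AEval'.of φ).toAddEquiv.trans e.toAddEquiv
  have : Finite ((ZMod 2)[X] ⧸ I) := Finite.of_equiv Z i.toEquiv
  have hchar : CharP ((ZMod 2)[X] ⧸ I) 2 := by
    apply CharTwo.of_one_ne_zero_of_two_eq_zero one_ne_zero
    have : (2 : (ZMod 2)[X]) = 0 := CharTwo.two_eq_zero
    have h3 := congrArg (Ideal.Quotient.mk I) this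
    rw [map_zero, map_ofNat] at h3
    exact h3
  refine ⟨(ZMod 2)[X] ⧸ I, inferInstance, Fintype.ofFinite _, hchar, i, Ideal.Quotient.mk I X, ?_⟩
  intro z
  show e (AEval'.of φ (ξ z)) = Ideal.Quotient.mk I X * e (AEval'.of φ z)
  rw [← hφ, ← AEval'.X_smul_of, map_smul]
  rfl

end Cfsg.Agent.Lib.Helper40HigIL
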