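import Cfsg.Agent.Lib.Helper3HigBasic
import Cfsg.Agent.Lib.Helper40HigIL

set_option autoImplicit false

/-! Project 61, piece `zcoord`. -/

namespace Cfsg.Agent.Lib.Helper97HigZcoord

open Subgroup
open Cfsg.Agent.Lib.Helper61HigDefs Cfsg.Agent.Lib.Helper3HigBasic

universe u v

variable {P : Type u} {A : Type v} [Group P] [Group A] {f : A →* MulAut P}

theorem Z0_inv (h : HS f) : Inv f (Z0 h) := by
  intro a z hz
  rw [mem_Z0] at hz ⊢
  rw [← map_mul, hz, map_one]

/-- every element of `A` is a natural power of a generator -/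
theorem exists_npow (h : HS f) {a₀ : A} (hgen : ∀ a : A, a ∈ Subgroup.zpowers a₀) (a : A) :
    ∃ k : ℕ, a₀ ^ k = a := by
  have := finite_A h
  have h1 := hgen a
  rw [← mem_powers_iff_mem_zpowers] at h1
  exact h1

/-- the commutative group structure on `Z₀` -/
@[reducible] def commZ0 (h : HS f) : CommGroup (Z0 h) :=
  { (inferInstance : Group (Z0 h)) with
    mul_comm := fun a b => Subtype.ext (invol_central h a.2 b) }

theorem zcoord (h : HS f) :
    ∃ (F : Type) (_ : Field F) (_ : Fintype F) (_ : CharP F 2), Nonempty (ZCoord f F) := by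
  classical
  letI := commZ0 h
  have hfin := h.fin
  obtain ⟨a₀, hgen⟩ := h.cyc.exists_generator
  let ξ : Additive (Z0 h) ≃+ Additive (Z0 h) := MulEquiv.toAdditive (res f (Z0 h) (Z0_inv h) a₀)
  have hξ : ∀ z : Z0 h, ξ (Additive.ofMul z) = Additive.ofMul (res f (Z0 h) (Z0_inv h) a₀ z) := fun z => rfl
  have hξi : ∀ (k : ℕ) (z : Z0 h),
      (⇑ξ)^[k] (Additive.ofMul z) = Additive.ofMul (res f (Z0 h) (Z0_inv h) (a₀ ^ k) z) := by
    intro k
    induction k with
    | zero => intro z; simp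
    | succ k ih =>
      intro z
      rw [Function.iterate_succ_apply', ih, hξ, pow_succ', map_mul]
      rfl
  have hnt : Nontrivial (Additive (Z0 h)) := by
    obtain ⟨x, y, hxy, -, hx, -, hy⟩ := h.many
    exact ⟨⟨Additive.ofMul ⟨x, hx⟩, Additive.ofMul ⟨y, hy⟩, fun hh => hxy (congrArg (fun t => ((Additive.toMul t : Z0 h) : P)) hh)⟩⟩
  have h2 : ∀ z : Additive (Z0 h), z + z = 0 := by
    intro z
    have : (Additive.toMul z : Z0 h) * Additive.toMul z = 1 := Subtype.ext (Additive.toMul z).2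
    exact congrArg Additive.ofMul this
  have htr : ∀ z w : Additive (Z0 h), z ≠ 0 → w ≠ 0 → ∃ i : ℕ, (⇑ξ)^[i] z = w := by
    intro z w hz hw
    have hz1 : ((Additive.toMul z : Z0 h) : P) ≠ 1 := by
      intro hh
      apply hz
      have : (Additive.toMul z : Z0 h) = 1 := Subtype.ext hh
      exact congrArg Additive.ofMul this
    have hw1 : ((Additive.toMul w : Z0 h) : P) ≠ 1 := by
      intro hh
      apply hw
      have : (Additive.toMul w : Z0 h) = 1 := Subtype.ext hh
      exact congrArg Additive.ofMul this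
    obtain ⟨a, ha, -⟩ := h.reg _ _ hz1 (Additive.toMul z).2 hw1 (Additive.toMul w).2
    obtain ⟨k, rfl⟩ := exists_npow h hgen a
    refine ⟨k, ?_⟩
    have := hξi k (Additive.toMul z)
    rw [ofMul_toMul] at this
    rw [this]
    have e : res f (Z0 h) (Z0_inv h) (a₀ ^ k) (Additive.toMul z) = Additive.toMul w := Subtype.ext ha
    rw [e, ofMul_toMul]
  obtain ⟨F, iF, iFt, iC, i, l, hil⟩ := Cfsg.Agent.Lib.Helper40HigIL.IL ξ h2 htr
  refine ⟨F, iF, iFt, iC, ⟨?_⟩⟩
  have hi : ∀ (z : P) (hz : z * z = 1),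
      (if hz : z * z = 1 then i (Additive.ofMul (⟨z, hz⟩ : Z0 h)) else 0) =
        i (Additive.ofMul (⟨z, hz⟩ : Z0 h)) := fun z hz => dif_pos hz
  refine
    { i := fun z => if hz : z * z = 1 then i (Additive.ofMul (⟨z, hz⟩ : Z0 h)) else 0
      a₀ := a₀
      l := l
      gen := hgen
      add := ?_
      inj := ?_
      surj := ?_
      equi := ?_ }
  · intro z z' hz hz'
    have hzz : (z * z') * (z * z') = 1 := (Z0 h).mul_mem hz hz'
    rw [hi z hz, hi z' hz', hi _ hzz, ← map_add]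
    rfl
  · intro z hz h0
    rw [hi z hz] at h0
    have h1 : Additive.ofMul (⟨z, hz⟩ : Z0 h) = 0 := by
      rwa [map_eq_zero_iff i i.injective] at h0
    exact congrArg (fun t => ((Additive.toMul t : Z0 h) : P)) h1
  · intro t
    refine ⟨((Additive.toMul (i.symm t) : Z0 h) : P), (Additive.toMul (i.symm t)).2, ?_⟩
    rw [hi _ (Additive.toMul (i.symm t)).2]
    exact i.apply_symm_apply t
  · intro z hz
    have hz' : f a₀ z * f a₀ z = 1 := Z0_inv h a₀ z hz
    rw [hi z hz, hi _ hz', ← hil]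
    rfl

section
variable {F : Type} [Field F] [Fintype F]

theorem i_one (c : ZCoord f F) : c.i 1 = 0 := by
  have := c.add 1 1 (one_mul 1) (one_mul 1)
  rw [one_mul] at this
  exact left_eq_add.1 this

theorem i_pow (h : HS f) (c : ZCoord f F) (k : ℕ) {z : P} (hz : z * z = 1) :
    c.i (f (c.a₀ ^ k) z) = c.l ^ k * c.i z := by
  induction k with
  | zero => simp
  | succ k ih =>
    rw [pow_succ', map_mul, MulAut.mul_apply, c.equi _ (Z0_inv h _ z hz), ih, pow_succ', mul_assoc]

theorem zcoord_gen (h : HS f) (c : ZCoord f F) :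
    ∀ t : F, t ≠ 0 → ∃ i : ℕ, c.l ^ i = t := by
  intro t ht
  obtain ⟨z, hz, hzt⟩ := c.surj t
  obtain ⟨z₁, hz₁, hzt₁⟩ := c.surj 1
  have hz1 : z ≠ 1 := by
    rintro rfl
    exact ht (hzt ▸ i_one c)
  have hz11 : z₁ ≠ 1 := by
    rintro rfl
    exact one_ne_zero (hzt₁ ▸ i_one c)
  obtain ⟨a, ha, -⟩ := h.reg z₁ z hz11 hz₁ hz1 hz
  obtain ⟨k, rfl⟩ := exists_npow h c.gen a
  refine ⟨k, ?_⟩
  have := i_pow h c k hz₁
  rw [ha, hzt, hzt₁, mul_one] at this
  exact this.symm

theorem zcoord_card (h : HS f) (c : ZCoord f F) :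
    Fintype.card F = Nat.card A + 1 := by
  rw [← card_invol h, ← Nat.card_eq_fintype_card]
  symm
  refine Nat.card_congr (Equiv.ofBijective (fun z : {z : P // z * z = 1} => c.i z) ⟨?_, ?_⟩)
  · rintro ⟨z, hz⟩ ⟨z', hz'⟩ hzz
    simp only at hzz
    have h1 : c.i (z * z') = 0 := by
      rw [c.add z z' hz hz', ← hzz, ← c.add z z hz hz, hz, i_one]
    have h2 := c.inj _ ((Z0 h).mul_mem hz hz') h1
    apply Subtype.ext
    show z = z'
    calc z = z * (z' * z') := by rw [hz', mul_one]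
      _ = (z * z') * z' := by group
      _ = z' := by rw [h2, one_mul]
  · intro t
    obtain ⟨z, hz, hzt⟩ := c.surj t
    exact ⟨⟨z, hz⟩, hzt⟩

end

end Cfsg.Agent.Lib.Helper97HigZcoord
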