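import Cfsg.Agent.Lib.Helper90HigCaseBadd
import Cfsg.Agent.Lib.Helper90HigABL
import Cfsg.Agent.Lib.Helper97HigZcoord

set_option autoImplicit false

/-! # Project 61 (Higman's theorem on Suzuki 2-groups), piece `caseB` -/

namespace Cfsg.Agent.Lib.Helper90HigCaseB

open Subgroup
open Cfsg.Agent.Lib.Helper61HigDefs Cfsg.Agent.Lib.Helper90HigCaseBadd Cfsg.Agent.Lib.Helper90HigABL

universe u v

variable {P : Type u} {A : Type v} [Group P] [Group A] {f : A →* MulAut P}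

/-- a subgroup containing all squares is normal -/
lemma normal_of_sq {M : Subgroup P} (hM : ∀ y : P, y * y ∈ M) : M.Normal := by
  constructor
  intro m hm y
  have : y * m * y⁻¹ = ((y * m) * (y * m)) * (m⁻¹ * (y⁻¹ * y⁻¹)) := by group
  rw [this]
  exact M.mul_mem (hM _) (M.mul_mem (M.inv_mem hm) (hM _))

/-- `caseB`, with the pieces `basic` (`invol_central`), `caseBadd`, `zcoord`, `coordM` as hypotheses -/
theorem caseB_core {D M₁ M₂ : Subgroup P} (hD : DH f D)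
    (hM₁ : RegOver f (centralizer (D : Set P)) M₁) (hM₂ : RegOver f (centralizer (D : Set P)) M₂)
    (hsup : M₁ ⊔ M₂ = ⊤)
    (hic : ∀ z : P, z * z = 1 → ∀ x, z * x = x * z)
    (hadd : (∀ x ∈ M₁, ∀ g ∈ M₂, (x * g) ^ 2 ∈ D) ∧
      (∀ x ∈ M₁, ∀ x' ∈ M₁, ∀ g ∈ M₂, (x * x' * g) ^ 4 = (x * g) ^ 4 * (x' * g) ^ 4) ∧
      (∀ x ∈ M₁, ∀ g ∈ M₂, ∀ g' ∈ M₂, (x * (g * g')) ^ 4 = (x * g) ^ 4 * (x * g') ^ 4))
    {F : Type} [Field F] [Fintype F] [CharP F 2] (c : ZCoord f F)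
    (hco : ∀ M : Subgroup P, RegOver f (centralizer (D : Set P)) M →
      ∃ (iM : M → F) (τ : F ≃+* F), τ ≠ RingEquiv.refl F ∧ Function.Surjective iM ∧
      (∀ g g' : M, iM (g * g') = iM g + iM g') ∧
      (∀ g : M, iM g = 0 ↔ (g : P) ∈ centralizer (D : Set P)) ∧
      ∀ (g : M), ∀ d ∈ D, c.i (d⁻¹ * (g : P)⁻¹ * d * g) = iM g * τ (c.i (d * d))) :
    ∀ x : P, x ^ 4 = 1 := by
  obtain ⟨hsq, hadd₁, hadd₂⟩ := hadd
  obtain ⟨i₁, τ₁, hτ₁, hs₁, hi₁, -, hc₁⟩ := hco M₁ hM₁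
  obtain ⟨i₂, τ₂, hτ₂, hs₂, hi₂, -, hc₂⟩ := hco M₂ hM₂
  have hsqC : ∀ y : P, y * y ∈ centralizer (D : Set P) :=
    fun y => mem_centralizer_iff.2 (fun d hd => (hD.sqc d hd y).symm)
  have : M₁.Normal := normal_of_sq (fun y => hM₁.le (hsqC y))
  have hinv : ∀ x ∈ M₁, ∀ g ∈ M₂, (x * g) ^ 4 * (x * g) ^ 4 = 1 := by
    intro x hx g hg
    have := hD.sq _ (hsq x hx g hg)
    rw [pow_four_eq, ← pow_two (x * g)]
    exact this
  let Γ : M₁ → M₂ → F := fun x g => c.i (((x : P) * (g : P)) ^ 4)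
  have hΓ0 : ∀ x g, Γ x g = 0 := by
    by_contra hne
    push Not at hne
    refine ABL i₁ i₂ hs₁ hs₂ hi₁ hi₂ τ₁ τ₂ hτ₁ hτ₂ Γ ?_ ?_ hne ?_
    · intro x x' g
      show c.i ((((x * x' : M₁) : P) * (g : P)) ^ 4) = _
      rw [Subgroup.coe_mul, hadd₁ x x.2 x' x'.2 g g.2,
        c.add _ _ (hinv x x.2 g g.2) (hinv x' x'.2 g g.2)]
    · intro x g g'
      show c.i (((x : P) * ((g * g' : M₂) : P)) ^ 4) = _
      rw [Subgroup.coe_mul, hadd₂ x x.2 g g.2 g' g'.2,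
        c.add _ _ (hinv x x.2 g g.2) (hinv x x.2 g' g'.2)]
    · intro x g
      set d : P := ((x : P) * (g : P)) ^ 2 with hd
      have hdD : d ∈ D := hsq x x.2 g g.2
      have hdd : d * d = ((x : P) * (g : P)) ^ 4 := by
        rw [hd, pow_four_eq, pow_two]
      have e1 := hc₁ x d hdD
      have e2 := hc₂ g d hdD
      rw [hdd] at e1 e2
      show i₁ x * τ₁ (c.i (((x : P) * (g : P)) ^ 4)) = i₂ g * τ₂ (c.i (((x : P) * (g : P)) ^ 4))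
      rw [← e1, ← e2]
      congr 1
      -- `[d,x] = [d,g]`
      have hz1 := hD.cen d hdD (x : P)
      have hz2 := hD.cen d hdD (g : P)
      have hcomm : d * ((x : P) * g) = ((x : P) * g) * d := by
        rw [hd, pow_two]
        group
      have hprod : (d⁻¹ * (g : P)⁻¹ * d * g) * (d⁻¹ * (x : P)⁻¹ * d * x) = 1 := by
        have hzc := hic _ hz1
        calc (d⁻¹ * (g : P)⁻¹ * d * g) * (d⁻¹ * (x : P)⁻¹ * d * x)
            = d⁻¹ * (g : P)⁻¹ * d * (g * (d⁻¹ * (x : P)⁻¹ * d * x)) := by group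
          _ = d⁻¹ * (g : P)⁻¹ * d * ((d⁻¹ * (x : P)⁻¹ * d * x) * g) := by rw [hzc]
          _ = d⁻¹ * (g : P)⁻¹ * (x : P)⁻¹ * (d * ((x : P) * g)) := by group
          _ = d⁻¹ * (g : P)⁻¹ * (x : P)⁻¹ * (((x : P) * g) * d) := by rw [hcomm]
          _ = 1 := by group
      calc d⁻¹ * (x : P)⁻¹ * d * x
          = ((d⁻¹ * (g : P)⁻¹ * d * g) * (d⁻¹ * (g : P)⁻¹ * d * g)) * (d⁻¹ * (x : P)⁻¹ * d * x) := by
            rw [hz2, one_mul]
        _ = (d⁻¹ * (g : P)⁻¹ * d * g) * ((d⁻¹ * (g : P)⁻¹ * d * g) * (d⁻¹ * (x : P)⁻¹ * d * x)) := by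
            rw [mul_assoc]
        _ = d⁻¹ * (g : P)⁻¹ * d * g := by rw [hprod, mul_one]
  intro y
  have hy : y ∈ ((M₁ ⊔ M₂ : Subgroup P) : Set P) := by
    rw [hsup]
    trivial
  rw [Subgroup.normal_mul] at hy
  obtain ⟨x, hx, g, hg, rfl⟩ := hy
  exact c.inj _ (hinv x hx g hg) (hΓ0 ⟨x, hx⟩ ⟨g, hg⟩)

/-- piece `caseB`, with the statement of the piece `coordM` as an extra last hypothesis -/
theorem caseB (h : HS f) {D M₁ M₂ : Subgroup P} (hD : DH f D)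
    (hM₁ : RegOver f (centralizer (D : Set P)) M₁) (hM₂ : RegOver f (centralizer (D : Set P)) M₂)
    (hsup : M₁ ⊔ M₂ = ⊤) (he₁ : ∀ x ∈ M₁, x ^ 4 = 1) (he₂ : ∀ x ∈ M₂, x ^ 4 = 1)
    (coordM : ∀ {F : Type} [Field F] [Fintype F] [CharP F 2] (c : ZCoord f F)
      {M : Subgroup P} (_ : RegOver f (centralizer (D : Set P)) M),
      ∃ (iM : M → F) (τ : F ≃+* F), τ ≠ RingEquiv.refl F ∧ Function.Surjective iM ∧
      (∀ g g' : M, iM (g * g') = iM g + iM g') ∧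
      (∀ g : M, iM g = 0 ↔ (g : P) ∈ centralizer (D : Set P)) ∧
      ∀ (g : M), ∀ d ∈ D, c.i (d⁻¹ * (g : P)⁻¹ * d * g) = iM g * τ (c.i (d * d))) :
    ∀ x : P, x ^ 4 = 1 := by
  obtain ⟨F, _, _, _, ⟨c⟩⟩ := Cfsg.Agent.Lib.Helper97HigZcoord.zcoord h
  exact caseB_core hD hM₁ hM₂ hsup
    (fun _ hz x => Cfsg.Agent.Lib.Helper3HigBasic.invol_central h hz x)
    (caseB_add h hD hM₁.le hM₂.le he₁ he₂) c (fun _ hM => coordM c hM)

end Cfsg.Agent.Lib.Helper90HigCaseB
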