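import Cfsg.Agent.Lib.Helper3HigBasic

set_option autoImplicit false

/-! Project 61, piece `caseA` (the pieces `factA`, `ordfour` enter as the two last hypotheses). -/

namespace Cfsg.Agent.Lib.Helper97HigCaseA

open Subgroup
open Cfsg.Agent.Lib.Helper61HigDefs Cfsg.Agent.Lib.Helper3HigBasic

universe u v

variable {P : Type u} {A : Type v} [Group P] [Group A] {f : A →* MulAut P}

theorem cent_inv {D : Subgroup P} (hD : Inv f D) : Inv f (centralizer (D : Set P)) := by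
  intro a c hc
  rw [mem_centralizer_iff] at hc ⊢
  intro d hd
  have h1 := hc (f a⁻¹ d) (hD a⁻¹ d hd)
  have h2 := congrArg (f a) h1
  rwa [map_mul, map_mul, apply_inv] at h2

/-- an element with `c * c ≠ 1` has a power of order four -/
theorem exists_pow_four (h : HS f) {c : P} (hc : c * c ≠ 1) :
    ∃ k : ℕ, (c ^ k) ^ 4 = 1 ∧ c ^ k * c ^ k ≠ 1 := by
  obtain ⟨m, hm⟩ := IsPGroup.iff_orderOf.1 h.two c
  have hm2 : 2 ≤ m := by
    by_contra hlt
    apply hc
    have h1 : orderOf c ∣ 2 := by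
      rw [hm]
      have : m ≤ 1 := by omega
      calc 2 ^ m ∣ 2 ^ 1 := pow_dvd_pow 2 this
        _ = 2 := by norm_num
    rw [← pow_two]
    exact orderOf_dvd_iff_pow_eq_one.1 h1
  obtain ⟨j, rfl⟩ : ∃ j, m = j + 2 := ⟨m - 2, by omega⟩
  refine ⟨2 ^ j, ?_, ?_⟩
  · rw [← pow_mul, show 2 ^ j * 4 = 2 ^ (j + 2) by ring, ← hm, pow_orderOf_eq_one]
  · rw [← pow_add]
    apply pow_ne_one_of_lt_orderOf
    · positivity
    · rw [hm]
      have : 0 < 2 ^ j := by positivity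
      calc 2 ^ j + 2 ^ j < 2 ^ j * 4 := by omega
        _ = 2 ^ (j + 2) := by ring

theorem caseA (h : HS f) {D : Subgroup P} (hD : DH f D)
    (hreg : RegOver f (centralizer (D : Set P)) ⊤)
    (hfactA : ∀ g ∈ (⊤ : Subgroup P), g ∉ centralizer (D : Set P) → ∀ d ∈ D, d * d ≠ 1 → d * g ≠ g * d)
    (hord : ∀ {c : P}, c ∈ centralizer (D : Set P) → c ^ 4 = 1 → c ∈ D) : ∀ x : P, x ^ 4 = 1 := by
  have hDC : D ≤ centralizer (D : Set P) :=
    fun d hd => mem_centralizer_iff.2 (fun d' hd' => hD.comm d' hd' d hd)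
  have hZC : Z0 h ≤ centralizer (D : Set P) := fun z hz => hDC (hD.invol z hz)
  have hsq : ∀ g : P, g * g ∈ centralizer (D : Set P) :=
    fun g => mem_centralizer_iff.2 (fun d hd => (hD.sqc d hd g).symm)
  have hCinv := cent_inv (f := f) hD.inv
  -- claim 1
  have c1 : ∀ g, g ∉ centralizer (D : Set P) → ∀ c ∈ centralizer (D : Set P), c * g = g * c →
      c * c = 1 := by
    intro g hg c hc hcg
    by_contra hcc
    obtain ⟨k, hk4, hk2⟩ := exists_pow_four h hcc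
    have hkC : c ^ k ∈ centralizer (D : Set P) := pow_mem hc k
    have hcomm : c ^ k * g = g * c ^ k := (Commute.pow_left (show Commute c g from hcg) k)
    exact hfactA g (mem_top g) hg (c ^ k) (hord hkC hk4) hk2 hcomm
  -- claim 2
  have c2 : ∀ g, g ∉ centralizer (D : Set P) → g * g ∈ Z0 h := by
    intro g hg
    exact c1 g hg (g * g) (hsq g) (by group)
  -- claim 3
  have c3 : ∀ g, g ∉ centralizer (D : Set P) → ∀ c ∈ centralizer (D : Set P),
      (g⁻¹ * c * g) * c ∈ Z0 h := by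
    intro g hg c hc
    have hgc : g * c ∉ centralizer (D : Set P) := by
      intro hh
      apply hg
      have := mul_mem hh (inv_mem hc)
      rwa [mul_inv_cancel_right] at this
    have e : (g⁻¹ * c * g) * c = (g * g)⁻¹ * ((g * c) * (g * c)) := by group
    rw [e]
    exact mul_mem (inv_mem (c2 g hg)) (c2 _ hgc)
  -- claim 4
  have c4 : ∀ g, g ∉ centralizer (D : Set P) → ∀ c ∈ centralizer (D : Set P),
      g⁻¹ * c * g ∈ centralizer (D : Set P) := by
    intro g hg c hc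
    have := mul_mem (hZC (c3 g hg c hc)) (inv_mem hc)
    rwa [mul_inv_cancel_right] at this
  -- three cosets
  obtain ⟨g, -, hg⟩ := hreg.ne
  obtain ⟨a, ha⟩ : ∃ a : A, a ≠ 1 := by
    have := finite_A h
    obtain ⟨n, hn, hq⟩ := exists_q h
    have h4 : 2 ^ 2 ≤ 2 ^ n := Nat.pow_le_pow_right (by norm_num) hn
    have : 1 < Nat.card A := by omega
    rw [Finite.one_lt_card_iff_nontrivial] at this
    exact exists_ne 1
  have hg1 : g⁻¹ ∉ centralizer (D : Set P) := fun hh => hg (by simpa using inv_mem hh)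
  have hh1 : f a g ∉ centralizer (D : Set P) := by
    intro hh
    apply hg
    have := hCinv a⁻¹ _ hh
    rwa [inv_apply] at this
  have hgh : g⁻¹ * f a g ∉ centralizer (D : Set P) := fun hh => ha (fpf_coset h hCinv hg hh)
  have hC4 : ∀ c ∈ centralizer (D : Set P), c * c ∈ Z0 h := by
    intro c hc
    obtain ⟨g₁, hg₁, h₁, hh₁, hgh₁⟩ : ∃ g₁, g₁ ∉ centralizer (D : Set P) ∧ ∃ h₁,
        h₁ ∉ centralizer (D : Set P) ∧ g₁ * h₁ ∉ centralizer (D : Set P) := ⟨_, hg1, _, hh1, hgh⟩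
    have z1 := c3 g₁ hg₁ c hc
    have z2 := c3 h₁ hh₁ _ (c4 g₁ hg₁ c hc)
    have z3 := c3 _ hgh₁ c hc
    have hcen := invol_central h ((mem_Z0 h).1 z1) (g₁⁻¹ * c * g₁)⁻¹
    have e : c * c = (g₁⁻¹ * c * g₁ * c) *
        ((h₁⁻¹ * (g₁⁻¹ * c * g₁) * h₁ * (g₁⁻¹ * c * g₁))⁻¹ * ((g₁ * h₁)⁻¹ * c * (g₁ * h₁) * c)) := by
      have e1 : (h₁⁻¹ * (g₁⁻¹ * c * g₁) * h₁ * (g₁⁻¹ * c * g₁))⁻¹ * ((g₁ * h₁)⁻¹ * c * (g₁ * h₁) * c)
          = (g₁⁻¹ * c * g₁)⁻¹ * c := by group
      rw [e1, ← mul_assoc, hcen]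
      group
    rw [e]
    exact mul_mem z1 (mul_mem (inv_mem z2) z3)
  intro x
  have hx : x * x ∈ Z0 h := by
    by_cases hxC : x ∈ centralizer (D : Set P)
    · exact hC4 x hxC
    · exact c2 x hxC
  rw [mem_Z0] at hx
  rw [← hx]; simp only [pow_succ, pow_zero, one_mul, mul_assoc]

end Cfsg.Agent.Lib.Helper97HigCaseA
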