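import Cfsg.Agent.Lib.Helper3HigBasic

set_option autoImplicit false

/-! Project 61, piece `gen4`. -/

namespace Cfsg.Agent.Lib.Helper97HigGen4

open Subgroup
open Cfsg.Agent.Lib.Helper61HigDefs Cfsg.Agent.Lib.Helper3HigBasic

universe u v

variable {P : Type u} {A : Type v} [Group P] [Group A] {f : A →* MulAut P}

theorem Z0_normal (h : HS f) : (Z0 h).Normal := ⟨fun z hz g => by
  rw [mem_Z0] at hz ⊢
  have h1 := invol_central h hz g
  have e : g * z * g⁻¹ = z := by rw [← h1]; group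
  rw [e]; exact hz⟩

theorem sq_eq_one_of_closure {Q : Type*} [Group Q] {Y : Set Q} (hsq : ∀ u ∈ Y, u * u = 1)
    (hcomm : ∀ u ∈ Y, ∀ v ∈ Y, u * v = v * u) : ∀ t ∈ closure Y, t * t = 1 := by
  have hc := isMulCommutative_closure hcomm
  have hcc : ∀ s ∈ closure Y, ∀ t ∈ closure Y, s * t = t * s := by
    intro s hs t ht
    exact setLike_mul_comm hs ht
  intro t ht
  induction ht using closure_induction with
  | mem x hx => exact hsq x hx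
  | one => simp
  | mul x y hx hy ihx ihy =>
    calc x * y * (x * y) = x * (y * x) * y := by group
      _ = x * (x * y) * y := by rw [hcc y hy x hx]
      _ = (x * x) * (y * y) := by group
      _ = 1 := by rw [ihx, ihy, one_mul]
  | inv x hx ih =>
    rw [← mul_inv_rev, ih, inv_one]

theorem gen4 (h : HS f) (S : Set (Subgroup P))
    (hS : ∀ M₁ ∈ S, ∀ M₂ ∈ S, ∀ x ∈ M₁ ⊔ M₂, x ^ 4 = 1) :
    ∀ x ∈ closure {x : P | ∃ M ∈ S, x ∈ M}, x ^ 4 = 1 := by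
  intro x hx
  have := Z0_normal h
  have hq : ∀ y : P, y ^ 4 = 1 → (QuotientGroup.mk' (Z0 h)) y * (QuotientGroup.mk' (Z0 h)) y = 1 := by
    intro y hy
    rw [← map_mul, QuotientGroup.mk'_apply, QuotientGroup.eq_one_iff, mem_Z0]
    rw [← hy]; simp only [pow_succ, pow_zero, one_mul, mul_assoc]
  have hsq : ∀ u ∈ (QuotientGroup.mk' (Z0 h)) '' {x : P | ∃ M ∈ S, x ∈ M}, u * u = 1 := by
    rintro _ ⟨u, ⟨M, hM, hu⟩, rfl⟩
    exact hq u (hS M hM M hM u ((le_sup_left : M ≤ M ⊔ M) hu))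
  have hcomm : ∀ u ∈ (QuotientGroup.mk' (Z0 h)) '' {x : P | ∃ M ∈ S, x ∈ M},
      ∀ v ∈ (QuotientGroup.mk' (Z0 h)) '' {x : P | ∃ M ∈ S, x ∈ M}, u * v = v * u := by
    rintro _ ⟨u, ⟨M₁, hM₁, hu⟩, rfl⟩ _ ⟨v, ⟨M₂, hM₂, hv⟩, rfl⟩
    have h1 := hq u (hS M₁ hM₁ M₁ hM₁ u ((le_sup_left : M₁ ≤ M₁ ⊔ M₁) hu))
    have h2 := hq v (hS M₂ hM₂ M₂ hM₂ v ((le_sup_left : M₂ ≤ M₂ ⊔ M₂) hv))
    have h3 := hq (u * v) (hS M₁ hM₁ M₂ hM₂ (u * v)
      (mul_mem ((le_sup_left : M₁ ≤ M₁ ⊔ M₂) hu) ((le_sup_right : M₂ ≤ M₁ ⊔ M₂) hv)))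
    rw [map_mul] at h3
    have e3 := eq_inv_of_mul_eq_one_left h3
    rw [mul_inv_rev, ← eq_inv_of_mul_eq_one_left h1, ← eq_inv_of_mul_eq_one_left h2] at e3
    exact e3
  have hmem : (QuotientGroup.mk' (Z0 h)) x ∈
      closure ((QuotientGroup.mk' (Z0 h)) '' {x : P | ∃ M ∈ S, x ∈ M}) := by
    rw [← MonoidHom.map_closure]
    exact ⟨x, hx, rfl⟩
  have h4 := sq_eq_one_of_closure hsq hcomm _ hmem
  rw [← map_mul, QuotientGroup.mk'_apply, QuotientGroup.eq_one_iff, mem_Z0] at h4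
  rw [← h4]; simp only [pow_succ, pow_zero, one_mul, mul_assoc]

end Cfsg.Agent.Lib.Helper97HigGen4
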