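import Cfsg.Agent.Lib.Helper61HigDefs
import Cfsg.Agent.Lib.Helper3HigBasic
import Cfsg.Agent.Lib.Helper3HigQuot
import Cfsg.Agent.Lib.Helper3HigDcs
import Cfsg.Agent.Lib.Helper3HigCwgroup
import Cfsg.Agent.Lib.Helper6HigSS
import Cfsg.Agent.Lib.Helper15HigCab
import Cfsg.Agent.Lib.Helper15HigOrdfour
import Cfsg.Agent.Lib.Helper15HigPowq
import Cfsg.Agent.Lib.Helper29HigCexp
import Cfsg.Agent.Lib.Helper29HigFactA
import Cfsg.Agent.Lib.Helper72HigClass2
import Cfsg.Agent.Lib.Helper73HigCoordM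
import Cfsg.Agent.Lib.Helper73HigSplit
import Cfsg.Agent.Lib.Helper90HigCaseB
import Cfsg.Agent.Lib.Helper97HigCaseA
import Cfsg.Agent.Lib.Helper97HigGen4
import Cfsg.Agent.Lib.Helper97HigZcoord
import Mathlib

/-!
PROJECT 61, PART H, hub: Higman's theorem on Suzuki 2-groups in `HS` form.
`T` : a central element of order 4 forces `P` abelian; `center_exp` : `Z(P)` has exponent 2 if `P` is not abelian;
`HC` : a non-abelian `P` has exponent 4.  Restated: the `basic` lemmas, `card_eq_pow`, `card_le_cube`.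
-/

set_option autoImplicit false

namespace Cfsg.Agent.Lib.Helper61HigMain

open Subgroup
open Cfsg.Agent.Lib.Helper61HigDefs

universe u v

variable {P : Type u} {A : Type v} [Group P] [Group A] {f : A →* MulAut P}

theorem T_aux (n : ℕ) : ∀ (P : Type u) [Group P] (f : A →* MulAut P), Nat.card P = n → HS f →
    (∃ c ∈ center P, orderOf c = 4) → ∀ x y : P, x * y = y * x := by
  induction n using Nat.strong_induction_on with
  | _ n ih =>
    intro P _ f hn h ⟨c, hc, hc4⟩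
    by_contra hna
    push Not at hna
    obtain ⟨Y, hYn, hY, hYc, hYne, hQ, d, hd, hd4⟩ :=
      Cfsg.Agent.Lib.Helper3HigQuot.exists_quot h hc hc4 hna
    have := h.fin
    have hlt : Nat.card (P ⧸ Y) < n := by
      rw [← hn, Subgroup.card_eq_card_quotient_mul_card_subgroup Y]
      have h1 : 1 < Nat.card Y := by
        rw [Finite.one_lt_card_iff_nontrivial]
        exact (Subgroup.nontrivial_iff_ne_bot Y).2 hYne
      have h2 : 0 < Nat.card (P ⧸ Y) := Nat.card_pos
      nlinarith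
    have hab := ih _ hlt (P ⧸ Y) (quo f Y hY) rfl hQ ⟨d, hd, hd4⟩
    have hcl : ∀ x y : P, x⁻¹ * y⁻¹ * x * y ∈ center P := by
      intro x y
      apply hYc
      rw [← QuotientGroup.eq_one_iff]
      have := hab (QuotientGroup.mk x) (QuotientGroup.mk y)
      simp only [QuotientGroup.mk_mul, QuotientGroup.mk_inv]
      rw [mul_assoc, this]
      group
    obtain ⟨x, y, hxy⟩ := hna
    exact hxy (Cfsg.Agent.Lib.Helper72HigClass2.abelian_of_class_two h hc hc4 hcl x y)

theorem T (h : HS f) (hc : ∃ c ∈ center P, orderOf c = 4) : ∀ x y : P, x * y = y * x :=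
  T_aux _ P f rfl h hc

theorem center_exp (h : HS f) (hna : ∃ x y : P, x * y ≠ y * x) : ∀ z ∈ center P, z * z = 1 :=
  Cfsg.Agent.Lib.Helper29HigCexp.center_exp h hna (T h)

theorem inv_sup {M₁ M₂ : Subgroup P} (h₁ : Inv f M₁) (h₂ : Inv f M₂) : Inv f (M₁ ⊔ M₂) := by
  intro a x hx
  have h3 : (M₁ ⊔ M₂).map ((f a : P ≃* P) : P →* P) ≤ M₁ ⊔ M₂ := by
    rw [Subgroup.map_sup, map_eq_of_inv h₁, map_eq_of_inv h₂]
  exact h3 ⟨x, hx, rfl⟩

theorem factA (h : HS f) {D M : Subgroup P} (hD : DH f D)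
    (hM : RegOver f (centralizer (D : Set P)) M) :
    ∀ g ∈ M, g ∉ centralizer (D : Set P) → ∀ d ∈ D, d * d ≠ 1 → d * g ≠ g * d :=
  Cfsg.Agent.Lib.Helper29HigFactA.factA h hD hM (Cfsg.Agent.Lib.Helper97HigZcoord.zcoord h)
    (fun c => Cfsg.Agent.Lib.Helper73HigCoordM.coordM h c hD hM)

theorem HC_aux (n : ℕ) : ∀ (P : Type u) [Group P] (f : A →* MulAut P), Nat.card P = n → HS f →
    (∃ x y : P, x * y ≠ y * x) → ∀ x : P, x ^ 4 = 1 := by
  induction n using Nat.strong_induction_on with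
  | _ n ih =>
    intro P _ f hn h hna
    by_contra hx
    push Not at hx
    have hfin := h.fin
    have hZ := center_exp h hna
    obtain ⟨D, hD⟩ := Cfsg.Agent.Lib.Helper3HigDcs.exists_D h hZ hx
    have hCinv : Inv f (centralizer (D : Set P)) :=
      Cfsg.Agent.Lib.Helper15HigCab.centralizer_inv hD.inv
    have hCne : centralizer (D : Set P) ≠ ⊤ :=
      Cfsg.Agent.Lib.Helper15HigCab.centralizer_ne_top h hZ hD
    have hsq : ∀ g : P, g * g ∈ centralizer (D : Set P) :=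
      fun g => mem_centralizer_iff.2 (fun d hd => (hD.sqc d hd g).symm)
    have hDC : D ≤ centralizer (D : Set P) :=
      fun d hd => mem_centralizer_iff.2 (fun d' hd' => hD.comm d' hd' d hd)
    have key : ∀ M : Subgroup P, Inv f M → centralizer (D : Set P) ≤ M →
        (∃ g ∈ M, g ∉ centralizer (D : Set P)) → M ≠ ⊤ → ∀ x ∈ M, x ^ 4 = 1 := by
      intro M hM hCM ⟨g, hgM, hgC⟩ hMtop x hxM
      have hMbot : M ≠ ⊥ := by
        rintro rfl
        exact hgC ((Subgroup.mem_bot.1 hgM) ▸ Subgroup.one_mem _)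
      have hlt : Nat.card M < n := by
        rw [← hn]
        by_contra hle
        exact hMtop (Subgroup.eq_top_of_le_card M (not_lt.1 hle))
      have hnaM : ∃ x y : M, x * y ≠ y * x := by
        rw [mem_centralizer_iff] at hgC
        push Not at hgC
        obtain ⟨d, hd, hdg⟩ := hgC
        refine ⟨⟨d, hCM (hDC hd)⟩, ⟨g, hgM⟩, fun hh => hdg ?_⟩
        exact congrArg Subtype.val hh
      have := ih _ hlt M (res f M hM) rfl (Cfsg.Agent.Lib.Helper3HigBasic.res_HS h hM hMbot) hnaM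
        ⟨x, hxM⟩
      exact congrArg Subtype.val this
    by_cases htop : RegOver f (centralizer (D : Set P)) ⊤
    · obtain ⟨x, hx⟩ := hx
      exact hx (Cfsg.Agent.Lib.Helper97HigCaseA.caseA h hD htop (factA h hD htop)
        (fun hc h4 => Cfsg.Agent.Lib.Helper15HigOrdfour.mem_D_of_pow_four h hD hc h4) x)
    have hprop : ∀ M : Subgroup P, RegOver f (centralizer (D : Set P)) M → M ≠ ⊤ := by
      rintro M hM rfl
      exact htop hM
    have hexp : ∀ M : Subgroup P, RegOver f (centralizer (D : Set P)) M → ∀ x ∈ M, x ^ 4 = 1 :=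
      fun M hM => key M hM.inv hM.le hM.ne (hprop M hM)
    by_cases hpair : ∃ M₁ M₂ : Subgroup P, RegOver f (centralizer (D : Set P)) M₁ ∧
        RegOver f (centralizer (D : Set P)) M₂ ∧ M₁ ⊔ M₂ = ⊤
    · obtain ⟨M₁, M₂, h₁, h₂, hsup⟩ := hpair
      obtain ⟨x, hx⟩ := hx
      exact hx (Cfsg.Agent.Lib.Helper90HigCaseB.caseB h hD h₁ h₂ hsup (hexp M₁ h₁) (hexp M₂ h₂)
        (fun c _ hM => Cfsg.Agent.Lib.Helper73HigCoordM.coordM h c hD hM) x)
    · push Not at hpair
      obtain ⟨x, hx⟩ := hx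
      apply hx
      apply Cfsg.Agent.Lib.Helper97HigGen4.gen4 h {M | RegOver f (centralizer (D : Set P)) M} _ x
        (Cfsg.Agent.Lib.Helper73HigSplit.split h hCinv hCne hsq x
          (Cfsg.Agent.Lib.Helper3HigBasic.exists_q h)
          (fun hC => Cfsg.Agent.Lib.Helper3HigBasic.fpf_coset h hC)
          (fun h2 ξ n hn hξ v => Cfsg.Agent.Lib.Helper6HigSS.SS h2 ξ n hn hξ v))
      intro M₁ h₁ M₂ h₂
      obtain ⟨g, hg, hgC⟩ := h₁.ne
      exact key (M₁ ⊔ M₂) (inv_sup h₁.inv h₂.inv) (h₁.le.trans le_sup_left)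
        ⟨g, (le_sup_left : M₁ ≤ M₁ ⊔ M₂) hg, hgC⟩ (hpair M₁ M₂ h₁ h₂)

/-- **Higman**: a non-abelian 2-group with a cyclic group of automorphisms regular on its involutions (more than one)
has exponent 4. -/
theorem HC (h : HS f) (hna : ∃ x y : P, x * y ≠ y * x) : ∀ x : P, x ^ 4 = 1 :=
  HC_aux _ P f rfl h hna

theorem card_eq_pow (h : HS f) : ∃ j : ℕ, Nat.card P = (Nat.card A + 1) ^ j :=
  Cfsg.Agent.Lib.Helper15HigPowq.card_eq_pow h

theorem card_le_cube (h : HS f) (hexp : ∀ x : P, x ^ 4 = 1) : Nat.card P ≤ (Nat.card A + 1) ^ 3 :=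
  Cfsg.Agent.Lib.Helper3HigCwgroup.card_le_cube h hexp

end Cfsg.Agent.Lib.Helper61HigMain
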