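import Mathlib

set_option autoImplicit false

namespace Cfsg.Agent.Lib.Helper66ZTARITH2

open Finset

theorem key (q B : ℕ) (hq : 4 ≤ q) (hq2 : ∃ n : ℕ, q = 2 ^ n) (hB : Even B)
    (hd : (q - 1) * (B + 1) ∣ (q ^ 2 + 1) * q ^ 2 * (q - 1)) :
    (∃ r : ℕ, r ^ 2 = 2 * q) ∨ 2 * (q : ℤ) + 3 ≤ ((B : ℤ) - q) ^ 2 := by
  obtain ⟨n, hn⟩ := hq2
  have hq1 : 0 < q - 1 := by omega
  have h1 : B + 1 ∣ (q ^ 2 + 1) * q ^ 2 := by
    rw [mul_comm (q - 1) (B + 1)] at hd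
    exact Nat.dvd_of_mul_dvd_mul_right hq1 hd
  have hodd : Odd (B + 1) := hB.add_one
  have hcop : Nat.Coprime (B + 1) (q ^ 2) := by
    rw [hn, ← pow_mul]
    exact Nat.Coprime.pow_right _ (Nat.coprime_two_right.mpr hodd)
  have h2 : B + 1 ∣ q ^ 2 + 1 := hcop.dvd_of_dvd_mul_right h1
  obtain ⟨M', hM'⟩ := h2
  have hqe : Even q := by
    rw [hn]
    have : n ≠ 0 := by
      rintro rfl
      omega
    exact (Nat.even_pow.mpr ⟨even_two, this⟩)
  have hoddq : Odd (q ^ 2 + 1) := (hqe.pow_of_ne_zero two_ne_zero).add_one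
  have hM'odd : Odd M' := by
    rw [hM'] at hoddq
    exact (Nat.odd_mul.mp hoddq).2
  obtain ⟨b, hb⟩ := hodd
  obtain ⟨b', hb'⟩ := hM'odd
  -- integers
  have hZ : ((B : ℤ) + 1) * (M' : ℤ) = (q : ℤ) ^ 2 + 1 := by exact_mod_cast hM'.symm
  have hbZ : (B : ℤ) + 1 = 2 * b + 1 := by exact_mod_cast hb
  have hb'Z : (M' : ℤ) = 2 * b' + 1 := by exact_mod_cast hb'
  have hqZ : (4 : ℤ) ≤ q := by exact_mod_cast hq
  have hb0 : (0 : ℤ) ≤ b := by positivity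
  have hb'0 : (0 : ℤ) ≤ b' := by positivity
  -- `b + b' ≥ q`
  have hsum : (q : ℤ) ≤ b + b' := by
    by_contra hcon
    push Not at hcon
    have h3 : (b : ℤ) + b' + 1 ≤ q := by omega
    rw [hbZ, hb'Z] at hZ
    nlinarith [sq_nonneg ((b : ℤ) - b')]
  have hy : ((B : ℤ) - q) ^ 2 = 2 * q + ((B : ℤ) + 1) * (2 * ((b : ℤ) + b' - q)) := by
    have h4 : (2 * ((b : ℤ) + b' - q)) = ((B : ℤ) + 1) + M' - 2 * q - 2 := by
      rw [hbZ, hb'Z]; ring
    rw [h4]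
    have : ((B : ℤ) + 1) * (((B : ℤ) + 1) + M' - 2 * q - 2)
        = ((B : ℤ) + 1) ^ 2 + ((B : ℤ) + 1) * M' - ((B : ℤ) + 1) * (2 * q + 2) := by ring
    rw [this, hZ]
    ring
  rcases eq_or_lt_of_le hsum with h | h
  · left
    refine ⟨((B : ℤ) - q).natAbs, ?_⟩
    have h5 : ((B : ℤ) - q) ^ 2 = 2 * q := by
      rw [hy, ← h]; ring
    have h6 : ((((B : ℤ) - q).natAbs ^ 2 : ℕ) : ℤ) = ((2 * q : ℕ) : ℤ) := by
      push_cast
      rw [sq_abs, h5]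
    exact_mod_cast h6
  · right
    have h5 : (1 : ℤ) ≤ (b : ℤ) + b' - q := by omega
    have hB0 : (0 : ℤ) ≤ (B : ℤ) + 1 := by positivity
    have h6 : ((B : ℤ) + 1) * 2 ≤ ((B : ℤ) + 1) * (2 * ((b : ℤ) + b' - q)) :=
      mul_le_mul_of_nonneg_left (by linarith) hB0
    by_contra hcon
    push Not at hcon
    have h7 : (B : ℤ) - q ≤ -q := by linarith
    nlinarith

/-- piece `ARITH2` -/
theorem ARITH2 {X : Type*} [Fintype X] (q : ℕ) (hq : 4 ≤ q) (hq2 : ∃ n : ℕ, q = 2 ^ n) (x₁ : X)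
    (m B l deg : X → ℕ) (hm1 : m x₁ = 0) (hm : ∀ x, m x ≤ 1)
    (hmm : ∑ x, m x ^ 2 = q) (hBB : ∑ x, B x ^ 2 = q + q ^ 2 * (q - 1))
    (hmB : ∑ x, m x * B x = q * (q - 1))
    (hl : (Finset.univ.filter (fun x => l x ≠ 0)).card ≤ q / 2 + 1) (hl1 : l x₁ ≠ 0)
    (hdeg : ∀ x, deg x = (q - 1) * B x + (q - 1) * m x + l x)
    (hdvd : ∀ x, deg x ∣ (q ^ 2 + 1) * q ^ 2 * (q - 1)) (hB : ∀ x, Even (B x)) :
    ∃ r : ℕ, r ^ 2 = 2 * q := by
  classical
  by_contra hcon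
  have hkey : ∀ x, m x = 1 → l x = 0 → 2 * (q : ℤ) + 3 ≤ ((B x : ℤ) - q) ^ 2 := by
    intro x hx1 hx2
    have h1 := hdvd x
    rw [hdeg x, hx1, hx2, add_zero, ← Nat.mul_add] at h1
    rcases key q (B x) hq hq2 (hB x) h1 with h | h
    · exact absurd h hcon
    · exact h
  -- `q` is even
  obtain ⟨n, hn⟩ := hq2
  have hn0 : n ≠ 0 := by
    rintro rfl
    omega
  obtain ⟨h, hh⟩ : ∃ h, q = 2 * h := by
    obtain ⟨n', rfl⟩ := Nat.exists_eq_succ_of_ne_zero hn0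
    exact ⟨2 ^ n', by rw [hn, pow_succ]; ring⟩
  have hq2' : q / 2 = h := by omega
  -- cardinalities
  have hcardA : (univ.filter (fun x => m x = 1)).card = q := by
    rw [Finset.card_filter, ← hmm]
    apply Finset.sum_congr rfl
    intro x _
    have := hm x
    interval_cases (m x) <;> simp
  have hsplit := Finset.card_filter_add_card_filter_not (s := univ.filter (fun x => m x = 1))
    (fun x => l x = 0)
  have hcardN : ((univ.filter (fun x => m x = 1)).filter (fun x => ¬ l x = 0)).card ≤ h := by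
    have hsub : (univ.filter (fun x => m x = 1)).filter (fun x => ¬ l x = 0)
        ⊆ (univ.filter (fun x => l x ≠ 0)).erase x₁ := by
      intro x hx
      rw [Finset.mem_filter, Finset.mem_filter] at hx
      rw [Finset.mem_erase, Finset.mem_filter]
      refine ⟨?_, mem_univ x, hx.2⟩
      rintro rfl
      rw [hm1] at hx
      exact absurd hx.1.2 (by norm_num)
    have h1 := Finset.card_le_card hsub
    rw [Finset.card_erase_of_mem (by rw [Finset.mem_filter]; exact ⟨mem_univ _, hl1⟩)] at h1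
    omega
  obtain ⟨S, hS⟩ : ∃ S : Finset X, S = (univ.filter (fun x => m x = 1)).filter (fun x => l x = 0) :=
    ⟨_, rfl⟩
  rw [← hS, hcardA] at hsplit
  have hcardS : h ≤ S.card := by omega
  -- the sums
  have hqZ : (q : ℤ) = 2 * h := by exact_mod_cast hh
  have hq1 : ((q - 1 : ℕ) : ℤ) = (q : ℤ) - 1 := by
    rw [Nat.cast_sub (by omega)]; norm_num
  have hmmZ : ∑ x, (m x : ℤ) = q := by
    have h1 : ∀ x, (m x : ℤ) = ((m x ^ 2 : ℕ) : ℤ) := by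
      intro x
      have := hm x
      interval_cases (m x) <;> simp
    simp only [h1]
    rw [← Nat.cast_sum, hmm]
  have hBBZ : ∑ x, (B x : ℤ) ^ 2 = q + (q : ℤ) ^ 2 * ((q : ℤ) - 1) := by
    have := congrArg (Nat.cast : ℕ → ℤ) hBB
    push_cast at this
    rw [hq1] at this
    exact this
  have hmBZ : ∑ x, (m x : ℤ) * (B x : ℤ) = q * ((q : ℤ) - 1) := by
    have := congrArg (Nat.cast : ℕ → ℤ) hmB
    push_cast at this
    rw [hq1] at this
    exact this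
  have hmBB : ∑ x, (m x : ℤ) * (B x : ℤ) ^ 2 ≤ ∑ x, (B x : ℤ) ^ 2 := by
    apply Finset.sum_le_sum
    intro x _
    have h1 : (m x : ℤ) ≤ 1 := by exact_mod_cast hm x
    nlinarith [sq_nonneg (B x : ℤ)]
  have htot : ∑ x, (m x : ℤ) * ((B x : ℤ) - q) ^ 2 ≤ (q : ℤ) ^ 2 + q := by
    have h1 : ∀ x, (m x : ℤ) * ((B x : ℤ) - q) ^ 2
        = (m x : ℤ) * (B x : ℤ) ^ 2 - 2 * q * ((m x : ℤ) * (B x : ℤ)) + (q : ℤ) ^ 2 * (m x : ℤ) := by
      intro x; ring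
    simp only [h1, Finset.sum_add_distrib, Finset.sum_sub_distrib, ← Finset.mul_sum, hmmZ, hmBZ]
    nlinarith
  have hlow : ∑ x ∈ S, (2 * (q : ℤ) + 3) ≤ ∑ x, (m x : ℤ) * ((B x : ℤ) - q) ^ 2 := by
    calc ∑ x ∈ S, (2 * (q : ℤ) + 3) ≤ ∑ x ∈ S, (m x : ℤ) * ((B x : ℤ) - q) ^ 2 := by
          apply Finset.sum_le_sum
          intro x hx
          rw [hS, Finset.mem_filter, Finset.mem_filter] at hx
          rw [hx.1.2]
          simpa using hkey x hx.1.2 hx.2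
      _ ≤ ∑ x, (m x : ℤ) * ((B x : ℤ) - q) ^ 2 :=
          Finset.sum_le_univ_sum_of_nonneg (fun x => by positivity)
  rw [Finset.sum_const, nsmul_eq_mul] at hlow
  have hcardSZ : (h : ℤ) ≤ S.card := by exact_mod_cast hcardS
  have hh0 : (2 : ℤ) ≤ h := by
    have : 2 ≤ h := by omega
    exact_mod_cast this
  have h9 : (h : ℤ) * (2 * (q : ℤ) + 3) ≤ (S.card : ℤ) * (2 * (q : ℤ) + 3) :=
    mul_le_mul_of_nonneg_right hcardSZ (by positivity)
  rw [hqZ] at h9 hlow htot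
  nlinarith

end Cfsg.Agent.Lib.Helper66ZTARITH2
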