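import Mathlib

set_option autoImplicit false

namespace Cfsg.Agent.Lib.Helper66ZTCOH

open Finset

/-- an integer vector of norm `2` orthogonal to a positive vector is `e_x - e_y` -/
theorem vec_lemma {X : Type*} [Fintype X] [DecidableEq X] (v d : X → ℤ) (hd : ∀ x, 0 < d x)
    (h2 : ∑ x, v x ^ 2 = 2) (h0 : ∑ x, v x * d x = 0) :
    ∃ x y : X, x ≠ y ∧ ∀ z, v z = (if z = x then 1 else 0) - (if z = y then 1 else 0) := by
  have hne : ¬ ∀ x, v x = 0 := by
    intro h
    simp [h] at h2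
  have hpos : ∃ x, 0 < v x := by
    by_contra hcon
    push Not at hcon
    apply hne
    have h1 : ∀ x ∈ (univ : Finset X), v x * d x ≤ 0 :=
      fun x _ => mul_nonpos_of_nonpos_of_nonneg (hcon x) (hd x).le
    have h3 := (Finset.sum_eq_zero_iff_of_nonpos h1).mp h0
    intro x
    rcases mul_eq_zero.mp (h3 x (mem_univ x)) with h | h
    · exact h
    · exact absurd h (hd x).ne'
  have hneg : ∃ y, v y < 0 := by
    by_contra hcon
    push Not at hcon
    apply hne
    have h1 : ∀ x ∈ (univ : Finset X), 0 ≤ v x * d x :=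
      fun x _ => mul_nonneg (hcon x) (hd x).le
    have h3 := (Finset.sum_eq_zero_iff_of_nonneg h1).mp h0
    intro x
    rcases mul_eq_zero.mp (h3 x (mem_univ x)) with h | h
    · exact h
    · exact absurd h (hd x).ne'
  obtain ⟨x, hx⟩ := hpos
  obtain ⟨y, hy⟩ := hneg
  have hxy : x ≠ y := by
    rintro rfl
    omega
  have hsub : ∀ s : Finset X, ∑ z ∈ s, v z ^ 2 ≤ 2 := by
    intro s
    rw [← h2]
    exact Finset.sum_le_univ_sum_of_nonneg (fun z => sq_nonneg _)
  have h2' : v x ^ 2 + v y ^ 2 ≤ 2 := by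
    have := hsub {x, y}
    rwa [Finset.sum_pair hxy] at this
  have hvx : v x = 1 := by nlinarith
  have hvy : v y = -1 := by nlinarith
  refine ⟨x, y, hxy, ?_⟩
  intro z
  by_cases hzx : z = x
  · subst hzx
    rw [if_pos rfl, if_neg hxy, hvx]; norm_num
  · by_cases hzy : z = y
    · subst hzy
      rw [if_neg hzx, if_pos rfl, hvy]; norm_num
    · rw [if_neg hzx, if_neg hzy]
      have := hsub {z, x, y}
      rw [Finset.sum_insert (by simp [hzx, hzy]), Finset.sum_pair hxy, hvx, hvy] at this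
      have h3 : v z ^ 2 ≤ 0 := by linarith
      have h4 : v z ^ 2 = 0 := le_antisymm h3 (sq_nonneg _)
      simpa using h4

theorem pair_sum {X : Type*} [Fintype X] [DecidableEq X] (x y : X) (w : X → ℤ) :
    ∑ z, ((if z = x then 1 else 0) - (if z = y then 1 else 0) : ℤ) * w z = w x - w y := by
  simp [sub_mul, Finset.sum_sub_distrib]

/-- sum over an injective family is bounded by the total sum -/
theorem sum_inj_le {X I : Type*} [Fintype X] [Fintype I] [DecidableEq X] (φ : I → X)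
    (hφ : Function.Injective φ) (f : X → ℤ) (hf : ∀ x, 0 ≤ f x) :
    ∑ i, f (φ i) ≤ ∑ x, f x := by
  rw [← Finset.sum_image (s := univ) (g := φ) (f := f) (fun a _ b _ h => hφ h)]
  exact Finset.sum_le_univ_sum_of_nonneg hf

theorem supp_lemma {X I : Type*} [Fintype X] [Fintype I] [DecidableEq X] (φ : I → X)
    (hφ : Function.Injective φ) (f : X → ℤ) (hf : ∀ x, 0 ≤ f x)
    (heq : ∑ x, f x ≤ ∑ i, f (φ i)) : ∀ z, (∀ i, φ i ≠ z) → f z = 0 := by
  intro z hz
  have h1 : ∑ i, f (φ i) = ∑ x ∈ univ.image φ, f x :=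
    (Finset.sum_image (s := univ) (g := φ) (f := f) (fun a _ b _ h => hφ h)).symm
  have h2 := Finset.sum_add_sum_compl (univ.image φ) f
  have h3 : ∑ x ∈ (univ.image φ)ᶜ, f x = 0 := by
    have h4 : 0 ≤ ∑ x ∈ (univ.image φ)ᶜ, f x := Finset.sum_nonneg (fun x _ => hf x)
    linarith
  have h5 := (Finset.sum_eq_zero_iff_of_nonneg (fun x _ => hf x)).mp h3
  apply h5
  rw [Finset.mem_compl, Finset.mem_image]
  rintro ⟨i, -, hi⟩
  exact hz i hi

theorem sum_eq_of_supp {X I : Type*} [Fintype X] [Fintype I] [DecidableEq X] (φ : I → X)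
    (hφ : Function.Injective φ) (g : X → ℤ) (hg : ∀ z, (∀ i, φ i ≠ z) → g z = 0) :
    ∑ x, g x = ∑ i, g (φ i) := by
  rw [← Finset.sum_image (s := univ) (g := φ) (f := g) (fun a _ b _ h => hφ h)]
  symm
  apply Finset.sum_subset (Finset.subset_univ _)
  intro x _ hx
  apply hg
  intro i hi
  exact hx (Finset.mem_image.mpr ⟨i, mem_univ i, hi⟩)

theorem COH' {X I : Type*} [Fintype X] [Fintype I] [DecidableEq I] (e : ℕ) (he : 3 ≤ e)
    (hI : Fintype.card I = e + 2) (a : I → X → ℕ) (l deg : X → ℕ) (Dg : ℕ)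
    (hgram : ∀ i j, ∑ x, a i x * a j x = (if i = j then 1 else 0) + e)
    (hdeg0 : ∀ x, 0 < deg x) (hdeg : ∀ i, ∑ x, a i x * deg x = Dg)
    (hl : ∀ i, ∑ x, a i x * l x = e)
    (hl1 : (Finset.univ.filter (fun x => l x = 1)).card ≤ 2)
    (hl2 : ∑ x, l x ^ 2 = 2 * e) (i₀ : I) :
    ∃ x₀ : X, a i₀ x₀ = 1 ∧ (∀ j, j ≠ i₀ → a j x₀ = 0) ∧ l x₀ = 0 ∧
      ∀ x, (∀ j, a j x = a j x₀) → x = x₀ := by
  classical
  obtain ⟨A, hAdef⟩ : ∃ A : I → X → ℤ, ∀ i x, A i x = (a i x : ℤ) := ⟨_, fun _ _ => rfl⟩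
  obtain ⟨L, hLdef⟩ : ∃ L : X → ℤ, ∀ x, L x = (l x : ℤ) := ⟨_, fun _ => rfl⟩
  obtain ⟨D, hDdef⟩ : ∃ D : X → ℤ, ∀ x, D x = (deg x : ℤ) := ⟨_, fun _ => rfl⟩
  have hA0 : ∀ i x, 0 ≤ A i x := fun i x => by rw [hAdef]; positivity
  have hL0 : ∀ x, 0 ≤ L x := fun x => by rw [hLdef]; positivity
  have hD0 : ∀ x, 0 < D x := fun x => by rw [hDdef]; exact_mod_cast hdeg0 x
  have hA : ∀ i j, ∑ x, A i x * A j x = (if i = j then 1 else 0) + (e : ℤ) := by
    intro i j
    have := congrArg (Nat.cast : ℕ → ℤ) (hgram i j)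
    simp only [hAdef]
    push_cast at this
    exact this
  have hAD : ∀ i, ∑ x, A i x * D x = (Dg : ℤ) := by
    intro i
    have := congrArg (Nat.cast : ℕ → ℤ) (hdeg i)
    simp only [hAdef, hDdef]
    push_cast at this
    exact this
  have hAL : ∀ i, ∑ x, A i x * L x = (e : ℤ) := by
    intro i
    have := congrArg (Nat.cast : ℕ → ℤ) (hl i)
    simp only [hAdef, hLdef]
    push_cast at this
    exact this
  have hLL : ∑ x, L x ^ 2 = 2 * (e : ℤ) := by
    have := congrArg (Nat.cast : ℕ → ℤ) hl2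
    simp only [hLdef]
    push_cast at this
    exact this
  have hAii : ∀ i, ∑ x, A i x * A i x = 1 + (e : ℤ) := by
    intro i
    rw [hA, if_pos rfl]
  have hAij : ∀ i j, i ≠ j → ∑ x, A i x * A j x = (e : ℤ) := by
    intro i j hij
    rw [hA, if_neg hij, zero_add]
  have hv : ∀ j, j ≠ i₀ → ∃ x y : X, x ≠ y ∧
      ∀ z, A i₀ z - A j z = (if z = x then 1 else 0) - (if z = y then 1 else 0) := by
    intro j hj
    apply vec_lemma (fun z => A i₀ z - A j z) D hD0
    · have h1 : ∀ z, (A i₀ z - A j z) ^ 2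
          = A i₀ z * A i₀ z - 2 * (A i₀ z * A j z) + A j z * A j z := by intro z; ring
      simp only [h1, Finset.sum_add_distrib, Finset.sum_sub_distrib, ← Finset.mul_sum, hAii,
        hAij i₀ j (Ne.symm hj)]
      ring
    · simp only [sub_mul, Finset.sum_sub_distrib, hAD]
      ring
  -- two further indices
  have hcardE : (univ.erase i₀).card = e + 1 := by
    rw [Finset.card_erase_of_mem (mem_univ i₀), Finset.card_univ, hI]; rfl
  obtain ⟨j₁, hj₁, j₂, hj₂, hj₁₂⟩ := Finset.one_lt_card.mp (by rw [hcardE]; omega :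
    1 < (univ.erase i₀).card)
  have hj₁' : j₁ ≠ i₀ := (Finset.mem_erase.mp hj₁).1
  have hj₂' : j₂ ≠ i₀ := (Finset.mem_erase.mp hj₂).1
  have hne : Nonempty X := by
    obtain ⟨x, -⟩ := hv j₁ hj₁'
    exact ⟨x⟩
  choose! xx yy hxy hvv using hv
  have hpair : ∀ j, j ≠ i₀ → ∀ w : X → ℤ,
      ∑ z, (A i₀ z - A j z) * w z = w (xx j) - w (yy j) := by
    intro j hj w
    simp only [hvv j hj]
    exact pair_sum _ _ w
  have hP1 : ∀ j, j ≠ i₀ → A i₀ (xx j) - A i₀ (yy j) = 1 := by
    intro j hj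
    rw [← hpair j hj (A i₀)]
    simp only [sub_mul, Finset.sum_sub_distrib, hAii, hAij j i₀ hj]
    ring
  have hP2 : ∀ j, j ≠ i₀ → L (xx j) = L (yy j) := by
    intro j hj
    have := hpair j hj L
    simp only [sub_mul, Finset.sum_sub_distrib, hAL] at this
    linarith
  have hP3 : ∀ j k, j ≠ i₀ → k ≠ i₀ → j ≠ k →
      (xx j = xx k ∧ yy j ≠ yy k) ∨ (xx j ≠ xx k ∧ yy j = yy k) := by
    intro j k hj hk hjk
    have h1 := hpair j hj (fun z => A i₀ z - A k z)
    have h2 : ∑ z, (A i₀ z - A j z) * (A i₀ z - A k z) = 1 := by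
      have h3 : ∀ z, (A i₀ z - A j z) * (A i₀ z - A k z)
          = A i₀ z * A i₀ z - A i₀ z * A k z - A j z * A i₀ z + A j z * A k z := by intro z; ring
      simp only [h3, Finset.sum_add_distrib, Finset.sum_sub_distrib, hAii, hAij i₀ k (Ne.symm hk),
        hAij j i₀ hj, hAij j k hjk]
      ring
    rw [h2] at h1
    simp only [hvv k hk] at h1
    have hxj := hxy j hj
    have hxk := hxy k hk
    by_cases e1 : xx j = xx k
    · left
      refine ⟨e1, ?_⟩
      intro e2
      rw [if_pos e1, if_pos e2, if_neg (by rw [e1]; exact hxk), if_neg (by rw [← e1]; exact hxj.symm)] at h1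
      omega
    · right
      refine ⟨e1, ?_⟩
      by_contra e2
      rw [if_neg e1, if_neg e2] at h1
      split_ifs at h1 <;> omega
  have hbig : ∀ φ : I → X, Function.Injective φ → ¬ ∀ i, 1 ≤ A i₀ (φ i) := by
    intro φ hφ hall
    have h1 := sum_inj_le φ hφ (fun x => A i₀ x * A i₀ x) (fun x => mul_self_nonneg _)
    rw [hAii] at h1
    have h2 : ∑ i : I, (1 : ℤ) ≤ ∑ i, A i₀ (φ i) * A i₀ (φ i) := by
      apply Finset.sum_le_sum
      intro i _
      nlinarith [hall i]
    rw [Finset.sum_const, Finset.card_univ, hI] at h2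
    simp only [nsmul_eq_mul, mul_one] at h2
    push_cast at h2
    linarith
  have hcount : ∑ i : I, (if i = i₀ then (0 : ℤ) else 1) = (e : ℤ) + 1 := by
    have h1 : ∀ i : I, (if i = i₀ then (0 : ℤ) else 1) = 1 - (if i = i₀ then 1 else 0) := by
      intro i; split_ifs <;> simp
    simp only [h1, Finset.sum_sub_distrib, Finset.sum_const, Finset.card_univ, hI,
      Finset.sum_ite_eq', mem_univ, if_true, nsmul_eq_mul, mul_one]
    push_cast
    ring
  rcases hP3 j₁ j₂ hj₁' hj₂' hj₁₂ with ⟨hx12, hy12⟩ | ⟨hx12, hy12⟩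
  · -- case (+)
    obtain ⟨x, hx⟩ : ∃ x, x = xx j₁ := ⟨_, rfl⟩
    have hxall : ∀ k, k ≠ i₀ → xx k = x := by
      intro k hk
      rw [hx]
      by_cases h1 : k = j₁
      · rw [h1]
      by_cases h2 : k = j₂
      · rw [h2, hx12]
      rcases hP3 j₁ k hj₁' hk (Ne.symm h1) with ⟨h, -⟩ | ⟨-, h3⟩
      · exact h.symm
      · rcases hP3 j₂ k hj₂' hk (Ne.symm h2) with ⟨h, -⟩ | ⟨-, h4⟩
        · rw [← h, hx12]
        · exact absurd (h3.trans h4.symm) hy12
    have hyinj : ∀ j k, j ≠ i₀ → k ≠ i₀ → j ≠ k → yy j ≠ yy k := by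
      intro j k hj hk hjk
      rcases hP3 j k hj hk hjk with ⟨-, h⟩ | ⟨h, -⟩
      · exact h
      · exact absurd ((hxall j hj).trans (hxall k hk).symm) h
    have hxy' : ∀ j, j ≠ i₀ → x ≠ yy j := by
      intro j hj
      rw [← hxall j hj]; exact hxy j hj
    obtain ⟨φ, hφdef⟩ : ∃ φ : I → X, ∀ i, φ i = if i = i₀ then x else yy i := ⟨_, fun _ => rfl⟩
    have hφ : Function.Injective φ := by
      intro i k hik
      rw [hφdef, hφdef] at hik
      by_cases hi : i = i₀ <;> by_cases hk : k = i₀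
      · rw [hi, hk]
      · rw [if_pos hi, if_neg hk] at hik
        exact absurd hik (hxy' k hk)
      · rw [if_neg hi, if_pos hk] at hik
        exact absurd hik.symm (hxy' i hi)
      · rw [if_neg hi, if_neg hk] at hik
        by_contra hne'
        exact hyinj i k hi hk hne' hik
    have hAy : ∀ j, j ≠ i₀ → A i₀ (yy j) = A i₀ x - 1 := by
      intro j hj
      have := hP1 j hj
      rw [hxall j hj] at this
      linarith
    have hAx : A i₀ x = 1 := by
      have h1 : 1 ≤ A i₀ x := by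
        have h2 := hAy j₁ hj₁'
        have h3 := hA0 i₀ (yy j₁)
        linarith
      by_contra hne'
      have h2 : 2 ≤ A i₀ x := by omega
      apply hbig φ hφ
      intro i
      rw [hφdef]
      split_ifs with hi
      · linarith
      · rw [hAy i hi]; linarith
    have hLφ : ∀ i, L (φ i) = L x := by
      intro i
      rw [hφdef]
      split_ifs with hi
      · rfl
      · rw [← hP2 i hi, hxall i hi]
    have hLx : L x = 0 := by
      by_contra hne'
      have h1 : 1 ≤ L x := by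
        have := hL0 x
        omega
      rcases eq_or_lt_of_le h1 with h | h
      · have h3 : (univ.image φ) ⊆ univ.filter (fun x => l x = 1) := by
          intro z hz
          obtain ⟨i, -, rfl⟩ := Finset.mem_image.mp hz
          rw [Finset.mem_filter]
          refine ⟨mem_univ _, ?_⟩
          have h4 := hLφ i
          rw [← h, hLdef] at h4
          exact_mod_cast h4
        have h4 := Finset.card_le_card h3
        rw [Finset.card_image_of_injective _ hφ, Finset.card_univ, hI] at h4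
        omega
      · have h3 := sum_inj_le φ hφ (fun x => L x ^ 2) (fun x => sq_nonneg _)
        rw [hLL] at h3
        simp only [hLφ, Finset.sum_const, Finset.card_univ, hI, nsmul_eq_mul] at h3
        push_cast at h3
        have h5 : 4 ≤ L x ^ 2 := by nlinarith
        have h6 : ((e : ℤ) + 2) * 4 ≤ ((e : ℤ) + 2) * L x ^ 2 :=
          mul_le_mul_of_nonneg_left h5 (by positivity)
        linarith
    have hAjx : ∀ j, j ≠ i₀ → A j x = 0 := by
      intro j hj
      have h1 := hvv j hj x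
      rw [hxall j hj, if_pos rfl, if_neg (hxy' j hj), hAx] at h1
      linarith
    refine ⟨x, ?_, ?_, ?_, ?_⟩
    · rw [hAdef] at hAx
      exact_mod_cast hAx
    · intro j hj
      have := hAjx j hj
      rw [hAdef] at this
      exact_mod_cast this
    · rw [hLdef] at hLx
      exact_mod_cast hLx
    · intro z hz
      by_contra hzx
      have h1 := hvv j₁ hj₁' z
      have h2 : A i₀ z = 1 := by rw [hAdef, hz i₀, ← hAdef, hAx]
      have h3 : A j₁ z = 0 := by rw [hAdef, hz j₁, ← hAdef, hAjx j₁ hj₁']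
      rw [h2, h3, hxall j₁ hj₁', if_neg hzx] at h1
      split_ifs at h1 <;> omega
  · -- case (-)
    exfalso
    obtain ⟨y, hy⟩ : ∃ y, y = yy j₁ := ⟨_, rfl⟩
    have hyall : ∀ k, k ≠ i₀ → yy k = y := by
      intro k hk
      rw [hy]
      by_cases h1 : k = j₁
      · rw [h1]
      by_cases h2 : k = j₂
      · rw [h2, hy12]
      rcases hP3 j₁ k hj₁' hk (Ne.symm h1) with ⟨h3, -⟩ | ⟨-, h⟩
      · rcases hP3 j₂ k hj₂' hk (Ne.symm h2) with ⟨h4, -⟩ | ⟨-, h⟩
        · exact absurd (h3.trans h4.symm) hx12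
        · rw [← h, hy12]
      · exact h.symm
    have hxinj : ∀ j k, j ≠ i₀ → k ≠ i₀ → j ≠ k → xx j ≠ xx k := by
      intro j k hj hk hjk
      rcases hP3 j k hj hk hjk with ⟨-, h⟩ | ⟨h, -⟩
      · exact absurd ((hyall j hj).trans (hyall k hk).symm) h
      · exact h
    have hxy' : ∀ j, j ≠ i₀ → xx j ≠ y := by
      intro j hj
      rw [← hyall j hj]; exact hxy j hj
    obtain ⟨φ, hφdef⟩ : ∃ φ : I → X, ∀ i, φ i = if i = i₀ then y else xx i := ⟨_, fun _ => rfl⟩
    have hφ : Function.Injective φ := by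
      intro i k hik
      rw [hφdef, hφdef] at hik
      by_cases hi : i = i₀ <;> by_cases hk : k = i₀
      · rw [hi, hk]
      · rw [if_pos hi, if_neg hk] at hik
        exact absurd hik.symm (hxy' k hk)
      · rw [if_neg hi, if_pos hk] at hik
        exact absurd hik (hxy' i hi)
      · rw [if_neg hi, if_neg hk] at hik
        by_contra hne'
        exact hxinj i k hi hk hne' hik
    have hAx : ∀ j, j ≠ i₀ → A i₀ (xx j) = A i₀ y + 1 := by
      intro j hj
      have := hP1 j hj
      rw [hyall j hj] at this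
      linarith
    have hAy : A i₀ y = 0 := by
      by_contra hne'
      have h1 : 1 ≤ A i₀ y := by
        have := hA0 i₀ y
        omega
      apply hbig φ hφ
      intro i
      rw [hφdef]
      split_ifs with hi
      · exact h1
      · rw [hAx i hi]; linarith
    have hAφ : ∀ i, A i₀ (φ i) = if i = i₀ then 0 else 1 := by
      intro i
      rw [hφdef]
      split_ifs with hi
      · exact hAy
      · rw [hAx i hi, hAy]; norm_num
    have hLφ : ∀ i, L (φ i) = L y := by
      intro i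
      rw [hφdef]
      split_ifs with hi
      · rfl
      · rw [hP2 i hi, hyall i hi]
    have hsupp := supp_lemma φ hφ (fun x => A i₀ x * A i₀ x) (fun x => mul_self_nonneg _) (by
      rw [hAii]
      have h1 : ∀ i, A i₀ (φ i) * A i₀ (φ i) = if i = i₀ then 0 else 1 := by
        intro i
        rw [hAφ]
        split_ifs <;> simp
      simp only [h1, hcount]
      linarith)
    have hsum := sum_eq_of_supp φ hφ (fun x => A i₀ x * L x) (by
      intro z hz
      have h1 := hsupp z hz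
      have h2 : A i₀ z = 0 := mul_self_eq_zero.mp h1
      simp only [h2, zero_mul])
    rw [hAL] at hsum
    simp only [hAφ, hLφ, ← Finset.sum_mul, hcount] at hsum
    have h0 := hL0 y
    rcases eq_or_lt_of_le h0 with h | h
    · rw [← h] at hsum
      have : (e : ℤ) = 0 := by linarith
      have : e = 0 := by exact_mod_cast this
      omega
    · nlinarith

/-- piece `COH` -/
theorem COH {X I : Type*} [Fintype X] [Fintype I] [DecidableEq I] (q : ℕ) (hq : 4 ≤ q)
    (hI : Fintype.card I = q + 1) (a : I → X → ℕ) (l deg : X → ℕ) (Dg : ℕ)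
    (hgram : ∀ i j, ∑ x, a i x * a j x = (if i = j then 1 else 0) + (q - 1))
    (hdeg0 : ∀ x, 0 < deg x) (hdeg : ∀ i, ∑ x, a i x * deg x = Dg)
    (hl : ∀ i, ∑ x, a i x * l x = q - 1)
    (hl1 : (Finset.univ.filter (fun x => l x = 1)).card ≤ 2)
    (hl2 : ∑ x, l x ^ 2 = 2 * (q - 1)) (i₀ : I) :
    ∃ x₀ : X, a i₀ x₀ = 1 ∧ (∀ j, j ≠ i₀ → a j x₀ = 0) ∧ l x₀ = 0 ∧
      ∀ x, (∀ j, a j x = a j x₀) → x = x₀ := by
  obtain ⟨e, rfl⟩ : ∃ e, q = e + 1 := ⟨q - 1, by omega⟩
  simp only [Nat.add_sub_cancel] at hgram hl hl2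
  exact COH' e (by omega) hI a l deg Dg hgram hdeg0 hdeg hl hl1 hl2 i₀

end Cfsg.Agent.Lib.Helper66ZTCOH
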