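import Mathlib
import Cfsg.Agent.Lib.Helper61ZTDefs
import Cfsg.Agent.Lib.Helper61HigDefs
import Cfsg.Agent.Lib.Helper61Feit13
import Cfsg.Prelude.Def_LieExceptional
import Cfsg.Prelude.Def_Exceptional
import Cfsg.Prelude.Def_LieRecognition

/-!
PROJECT 61, PART C, piece `core` (the unlanded dependencies `instZT`, `main2`, `main3`, `cardG` enter as
hypotheses `hinst`, `hmain2`, `hmain3`, `hcardG`).
-/

set_option autoImplicit false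

namespace Cfsg.Agent.Lib.Helper6ZTCore

open Cfsg Cfsg.Agent.Lib.Helper61ZTDefs
open Cfsg.Agent.Lib.Helper61HigDefs Cfsg.Agent.Lib.Helper61Feit

/-- arithmetic: `q = 2^n ≥ 4` with `2 q` a square is `2^(2m+1)`, `m ≥ 1` -/
theorem arith {q : ℕ} (hq : 4 ≤ q) (hq2 : ∃ n : ℕ, q = 2 ^ n) (hr : ∃ r : ℕ, r ^ 2 = 2 * q) :
    ∃ m : ℕ, 1 ≤ m ∧ q = 2 ^ (2 * m + 1) := by
  obtain ⟨n, rfl⟩ := hq2
  obtain ⟨r, hr⟩ := hr
  have h1 : r ^ 2 = 2 ^ (n + 1) := by rw [hr, pow_succ]; ring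
  have h2 : r ∣ 2 ^ (n + 1) := by rw [← h1]; exact Dvd.intro_left (r ^ 1) (by ring)
  obtain ⟨k, -, rfl⟩ := (Nat.dvd_prime_pow Nat.prime_two).1 h2
  rw [← pow_mul] at h1
  have h3 : k * 2 = n + 1 := Nat.pow_right_injective (le_refl 2) h1
  have h4 : 2 ≤ n := by
    by_contra hlt
    have : n ≤ 1 := by omega
    have := Nat.pow_le_pow_right (show 0 < 2 by norm_num) this
    omega
  refine ⟨k - 1, by omega, ?_⟩
  congr 1
  omega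

theorem core {G Ω : Type*} [Group G] [Finite G] [MulAction G Ω] [Finite Ω]
    (x y : Ω) (U : Subgroup G)
    (hinst : ∃ (Z : Subgroup G) (q : ℕ), Nat.card (stab2 G x y) = q - 1 ∧
      ((∃ _ : Fintype G, ZT U Z q (q ^ 2)) ∨ (∃ _ : Fintype G, ZT U Z q (q ^ 3))))
    (hmain2 : ∀ (_ : Fintype G) (Z : Subgroup G) (q : ℕ), ZT U Z q (q ^ 2) → ∃ r : ℕ, r ^ 2 = 2 * q)
    (hmain3 : ∀ (_ : Fintype G) (Z : Subgroup G) (q : ℕ), ZT U Z q (q ^ 3) → False)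
    (hcardG : ∀ (_ : Fintype G) (Z : Subgroup G) (q h : ℕ), ZT U Z q h →
      Nat.card G = (h + 1) * h * (q - 1)) :
    ∃ m : ℕ, 1 ≤ m ∧ Nat.card U = (2 ^ (2 * m + 1)) ^ 2 ∧ Nat.card (stab2 G x y) = 2 ^ (2 * m + 1) - 1 ∧
      Nat.card G = (2 ^ (2 * m + 1)) ^ 2 * ((2 ^ (2 * m + 1)) ^ 2 + 1) * (2 ^ (2 * m + 1) - 1) := by
  obtain ⟨Z, q, hst, ⟨i, hz⟩ | ⟨i, hz⟩⟩ := hinst
  · obtain ⟨m, hm, rfl⟩ := arith hz.hq hz.hq2 (hmain2 i Z q hz)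
    refine ⟨m, hm, hz.hK, hst, ?_⟩
    rw [hcardG i Z _ _ hz]
    ring
  · exact (hmain3 i Z q hz).elim

end Cfsg.Agent.Lib.Helper6ZTCore
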