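import Mathlib
import Cfsg.Agent.Lib.Helper61ZTDefs
import Cfsg.Agent.Lib.Helper61HigDefs
import Cfsg.Agent.Lib.Helper61Feit13
import Cfsg.Agent.S0158
set_option autoImplicit false
set_option linter.unusedSectionVars false

/-! PROJECT 61, PART C, piece `Fs`. -/

namespace Cfsg.Agent.Lib.Helper70ZTFs

open Cfsg Cfsg.Agent.Lib.Helper4Char Cfsg.Agent.Lib.Helper4Char2 Cfsg.Agent.Lib.Helper4Char4
  Cfsg.Agent.Lib.Helper61Feit7 Cfsg.Agent.Lib.Helper61Feit8 Cfsg.Agent.Lib.Helper61ZTDefs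
open scoped ComplexConjugate Classical

variable {G : Type*} [Group G] [Fintype G] {K Z : Subgroup G}
  [Fintype ↥(Subgroup.normalizer (K : Set G))] {q h : ℕ}


theorem fs {G : Type*} [Group G] [Fintype G] (χ : IrrCharacter G) :
    ((Nat.card G : ℂ)⁻¹ * ∑ g : G, (χ : G → ℂ) (g * g) = 0 ∨
      (Nat.card G : ℂ)⁻¹ * ∑ g : G, (χ : G → ℂ) (g * g) = 1 ∨
      (Nat.card G : ℂ)⁻¹ * ∑ g : G, (χ : G → ℂ) (g * g) = -1) ∧
    ((Nat.card G : ℂ)⁻¹ * ∑ g : G, (χ : G → ℂ) (g * g) = 0 ↔ ∃ g : G, ((χ : G → ℂ) g).im ≠ 0) := by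
  obtain ⟨χ, n, ρ, hirr, rfl⟩ := χ
  exact Cfsg.Agent.S0158.result ρ

end Cfsg.Agent.Lib.Helper70ZTFs
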