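import Cfsg.Agent.Lib.Helper5Ind
import Cfsg.Agent.Lib.Helper82Irr
import Cfsg.Agent.Lib.Helper82Schur
import Cfsg.Agent.Lib.Helper32Ind
import Cfsg.Agent.S0138
import Cfsg.Agent.S0148
import Mathlib

set_option autoImplicit false

namespace Cfsg.Agent.Lib.Helper5Ker

open Cfsg Cfsg.Agent.Lib.Helper19Ind Cfsg.Agent.Lib.Helper4Char Cfsg.Agent.Lib.Helper4Char2
  Cfsg.Agent.Lib.Helper4Char4 Cfsg.Agent.Lib.Helper5Ind Cfsg.Agent.Lib.Helper82Quot
open scoped ComplexConjugate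

variable {G : Type*} [Group G]

theorem irr_re_le [Finite G] (φ : IrrCharacter G) (g : G) :
    ((φ : G → ℂ) g).re ≤ ((φ : G → ℂ) 1).re := by
  obtain ⟨n, -, hn⟩ := IsIrrCharacter.exists_degree φ.2
  have hnorm : ‖(φ : G → ℂ) 1‖ = ((φ : G → ℂ) 1).re := by rw [hn]; simp
  rw [← hnorm]
  exact (Complex.re_le_norm _).trans (Helper82Irr.irr_norm_le φ g)

theorem irr_eq_of_re_eq [Finite G] (φ : IrrCharacter G) (g : G)
    (h : ((φ : G → ℂ) g).re = ((φ : G → ℂ) 1).re) : (φ : G → ℂ) g = (φ : G → ℂ) 1 := by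
  obtain ⟨n, -, hn⟩ := IsIrrCharacter.exists_degree φ.2
  have hnorm : ‖(φ : G → ℂ) 1‖ = ((φ : G → ℂ) 1).re := by rw [hn]; simp
  have h5 : ‖(φ : G → ℂ) g‖ ≤ ((φ : G → ℂ) 1).re := by
    rw [← hnorm]; exact Helper82Irr.irr_norm_le φ g
  have h6 : ‖(φ : G → ℂ) g‖ ^ 2 = ((φ : G → ℂ) g).re ^ 2 + ((φ : G → ℂ) g).im ^ 2 := by
    rw [Complex.sq_norm, Complex.normSq_apply]; ring
  have h7 : ((φ : G → ℂ) g).im = 0 := by
    have h8 : ‖(φ : G → ℂ) g‖ ^ 2 ≤ ((φ : G → ℂ) 1).re ^ 2 :=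
      pow_le_pow_left₀ (norm_nonneg _) h5 2
    rw [h6, h] at h8
    have : ((φ : G → ℂ) g).im ^ 2 ≤ 0 := by linarith
    have h9 : ((φ : G → ℂ) g).im ^ 2 = 0 := le_antisymm this (sq_nonneg _)
    exact pow_eq_zero_iff (two_ne_zero) |>.mp h9
  apply Complex.ext
  · exact h
  · rw [h7, hn]; simp

/-- the kernel of a character is contained in the kernel of each irreducible constituent -/
theorem constituent_ker [Fintype G] {α : G → ℂ} (hα : IsCharacter G α) (φ : IrrCharacter G)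
    (hφ : classInner α (φ : G → ℂ) ≠ 0) {b : G} (hb : α b = α 1) :
    (φ : G → ℂ) b = (φ : G → ℂ) 1 := by
  classical
  obtain ⟨m, hm, hm'⟩ := IsCharacter.eq_sum_nat hα
  have h1 : ∑ ξ : IrrCharacter G, (m ξ : ℝ) * ((ξ : G → ℂ) b).re =
      ∑ ξ : IrrCharacter G, (m ξ : ℝ) * ((ξ : G → ℂ) 1).re := by
    have h2 := congrArg Complex.re hb
    rw [hm] at h2
    simpa [Finset.sum_apply, Complex.re_sum] using h2
  have h3 := (Finset.sum_eq_sum_iff_of_le (fun ξ _ =>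
    mul_le_mul_of_nonneg_left (irr_re_le ξ b) (Nat.cast_nonneg (m ξ)))).mp h1 φ (Finset.mem_univ φ)
  have h4 : (m φ : ℝ) ≠ 0 := by
    intro h0
    apply hφ
    rw [hm' φ]
    have : m φ = 0 := by exact_mod_cast h0
    rw [this, Nat.cast_zero]
  exact irr_eq_of_re_eq φ b (mul_left_cancel₀ h4 h3)

/-- elements central modulo the kernel have character values of maximal absolute value -/
theorem norm_eq_of_central_mod_ker [Finite G] (φ : IrrCharacter G) (d : G)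
    (h : ∀ c : G, (φ : G → ℂ) (d * c * d⁻¹ * c⁻¹) = (φ : G → ℂ) 1) :
    ‖(φ : G → ℂ) d‖ = ‖(φ : G → ℂ) 1‖ := by
  obtain ⟨n, ρ, hρ, hχ⟩ := φ.2
  have hcomm : ∀ c : G, ρ d ∘ₗ ρ c = ρ c ∘ₗ ρ d := by
    intro c
    have h1 : ρ (d * c * d⁻¹ * c⁻¹) = 1 := by
      rw [rep_eq_one_iff, hχ]
      exact h c
    have h2 : ρ (d * c) = ρ (d * c * d⁻¹ * c⁻¹) * ρ (c * d) := by
      rw [← map_mul]; congr 1; group
    rw [h1, one_mul, map_mul, map_mul] at h2
    exact h2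
  obtain ⟨ω, hω⟩ := Helper82Schur.schur_scalar ρ (ρ d) hcomm
  have h3 := (Cfsg.Agent.S0138.result ρ d).mpr ⟨ω, hω⟩
  rw [← hχ, h3, Representation.char_one]
  simp

/-- `φ(1)² |D| ≤ |G|` when `D` is central modulo the kernel of `φ`. -/
theorem central_bound [Fintype G] (φ : IrrCharacter G) (D : Subgroup G)
    (h : ∀ d ∈ D, ∀ c : G, (φ : G → ℂ) (d * c * d⁻¹ * c⁻¹) = (φ : G → ℂ) 1) :
    ‖(φ : G → ℂ) 1‖ ^ 2 * (Nat.card D : ℝ) ≤ (Nat.card G : ℝ) := by
  classical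
  have h1 := classInner_irr_self φ.2
  unfold classInner at h1
  have h2 : ∑ g : G, (φ : G → ℂ) g * conj ((φ : G → ℂ) g) = (Nat.card G : ℂ) := by
    have := congrArg (fun z => (Nat.card G : ℂ) * z) h1
    simp only [← mul_assoc, mul_inv_cancel₀ Helper4Char.card_ne_zero, one_mul, mul_one] at this
    exact this
  have h3 : ∑ g : G, ‖(φ : G → ℂ) g‖ ^ 2 = (Nat.card G : ℝ) := by
    have h4 : ((∑ g : G, ‖(φ : G → ℂ) g‖ ^ 2 : ℝ) : ℂ) = (Nat.card G : ℂ) := by
      rw [← h2]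
      push_cast
      apply Finset.sum_congr rfl
      intro g _
      rw [Complex.mul_conj, Complex.normSq_eq_norm_sq]
      push_cast
      rfl
    exact_mod_cast h4
  rw [← h3]
  calc ‖(φ : G → ℂ) 1‖ ^ 2 * (Nat.card D : ℝ)
      = ∑ g ∈ Finset.univ.filter (fun g : G => g ∈ D), ‖(φ : G → ℂ) g‖ ^ 2 := by
        rw [Finset.sum_congr rfl (g := fun _ => ‖(φ : G → ℂ) 1‖ ^ 2), Finset.sum_const,
          nsmul_eq_mul, mul_comm]
        · congr 2
          rw [Nat.card_eq_fintype_card, Fintype.card_subtype]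
        · intro g hg
          rw [norm_eq_of_central_mod_ker φ g (h g (Finset.mem_filter.mp hg).2)]
    _ ≤ ∑ g : G, ‖(φ : G → ℂ) g‖ ^ 2 :=
        Finset.sum_le_sum_of_subset_of_nonneg (Finset.subset_univ _)
          (fun _ _ _ => sq_nonneg _)

/-- value at `1` of an induced function. -/
theorem indFun_one [Fintype G] (H : Subgroup G) (θ : H → ℂ) :
    indFun H θ 1 = (H.index : ℂ) * θ 1 := by
  rw [indFun_apply]
  have : ∀ x : G, extendByZero H θ (x⁻¹ * 1 * x) = θ 1 := by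
    intro x
    have h1 : x⁻¹ * 1 * x = ((1 : H) : G) := by simp
    rw [h1, extendByZero_coe]
  rw [Finset.sum_congr rfl (fun x _ => this x), Finset.sum_const, Finset.card_univ, nsmul_eq_mul,
    ← Nat.card_eq_fintype_card, ← mul_assoc, card_div_card_eq_index]

/-- the degree of `ψ` is at most `|G:C|` times the degree of a constituent of its restriction. -/
theorem degree_le_index_mul [Fintype G] (C : Subgroup G) [Fintype C] (ψ : IrrCharacter G)
    (φ : IrrCharacter C) (h : classInner (fun c : C => (ψ : G → ℂ) c) (φ : C → ℂ) ≠ 0) :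
    ‖(ψ : G → ℂ) 1‖ ≤ (C.index : ℝ) * ‖(φ : C → ℂ) 1‖ := by
  classical
  have hind : IsCharacter G (indFun C (φ : C → ℂ)) :=
    Cfsg.Agent.S0148.result C _ (IsIrrCharacter.isCharacter φ.2)
  obtain ⟨m, hm, hm'⟩ := IsCharacter.eq_sum_nat hind
  have hmψ : m ψ ≠ 0 := by
    intro h0
    have h1 := hm' ψ
    rw [h0, Helper32Ind.frobenius C _ _ (IsIrrCharacter.isClassFunction ψ.2),
      ← classInner_conj_symm] at h1
    apply h
    simpa using h1
  have hdeg : ∀ ξ : IrrCharacter G, ∃ d : ℕ, (ξ : G → ℂ) 1 = d := fun ξ => by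
    obtain ⟨d, -, hd⟩ := IsIrrCharacter.exists_degree ξ.2
    exact ⟨d, hd⟩
  choose d hd using hdeg
  obtain ⟨dφ, -, hdφ⟩ := IsIrrCharacter.exists_degree φ.2
  have h1 := congrFun hm 1
  rw [indFun_one, hdφ] at h1
  simp only [Finset.sum_apply, Pi.smul_apply, smul_eq_mul, hd] at h1
  have h2 : C.index * dφ = ∑ ξ : IrrCharacter G, m ξ * d ξ := by exact_mod_cast h1
  have h3 : d ψ ≤ C.index * dφ := by
    rw [h2]
    calc d ψ ≤ m ψ * d ψ := Nat.le_mul_of_pos_left _ (Nat.pos_of_ne_zero hmψ)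
      _ ≤ ∑ ξ : IrrCharacter G, m ξ * d ξ :=
        Finset.single_le_sum (f := fun ξ => m ξ * d ξ) (fun _ _ => Nat.zero_le _)
          (Finset.mem_univ ψ)
  rw [hd, hdφ]
  simp only [Complex.norm_natCast]
  exact_mod_cast h3

end Cfsg.Agent.Lib.Helper5Ker
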