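import Mathlib
import Cfsg.Agent.Lib.Helper61ZTDefs
import Cfsg.Agent.Lib.Helper61HigDefs
import Cfsg.Agent.Lib.Helper61Feit13
import Cfsg.Agent.Lib.Helper70ZTCardG
import Cfsg.Agent.Lib.Helper32Ind
import Cfsg.Agent.Lib.Helper19Ind
import Cfsg.Agent.Lib.Helper5Ker
set_option autoImplicit false
set_option linter.unusedSectionVars false

/-! PROJECT 61, PART C, piece `Gram`. -/

namespace Cfsg.Agent.Lib.Helper70ZTGram

open Cfsg Cfsg.Agent.Lib.Helper4Char Cfsg.Agent.Lib.Helper4Char2 Cfsg.Agent.Lib.Helper4Char4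
  Cfsg.Agent.Lib.Helper61Feit7 Cfsg.Agent.Lib.Helper61Feit8 Cfsg.Agent.Lib.Helper61ZTDefs
open scoped ComplexConjugate Classical

variable {G : Type*} [Group G] [Fintype G] {K Z : Subgroup G}
  [Fintype ↥(Subgroup.normalizer (K : Set G))] {q h : ℕ}


/-! ### piece `gram` -/

theorem gram (hz : ZT K Z q h) (α β : ↥(Subgroup.normalizer (K : Set G)) → ℂ)
    (hα : IsClassFunction ↥(Subgroup.normalizer (K : Set G)) α)
    (hβ : IsClassFunction ↥(Subgroup.normalizer (K : Set G)) β)
    (hα0 : ∀ x : ↥(Subgroup.normalizer (K : Set G)), (x : G) ∉ K → α x = 0)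
    (hβ0 : ∀ x : ↥(Subgroup.normalizer (K : Set G)), (x : G) ∉ K → β x = 0) :
    ∑ χ : IrrCharacter G, classInner (rs K χ) α * conj (classInner (rs K χ) β)
      = classInner β α + β 1 * conj (α 1) / ((q : ℂ) - 1) := by
  have hterm : ∀ χ : IrrCharacter G, classInner (rs K χ) α * conj (classInner (rs K χ) β)
      = classInner (indFun (Subgroup.normalizer (K : Set G)) β) χ * classInner (χ : G → ℂ) (indFun (Subgroup.normalizer (K : Set G)) α) := by
    intro χ
    have hχ := IsIrrCharacter.isClassFunction χ.2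
    rw [classInner_conj_symm, ← classInner_conj_symm (indFun (Subgroup.normalizer (K : Set G)) α) χ,
      Cfsg.Agent.Lib.Helper32Ind.frobenius (Subgroup.normalizer (K : Set G)) α χ hχ, Cfsg.Agent.Lib.Helper32Ind.frobenius (Subgroup.normalizer (K : Set G)) β χ hχ,
      classInner_conj_symm]
    exact mul_comm _ _
  rw [Finset.sum_congr rfl (fun χ _ => hterm χ),
    ← classInner_eq_sum _ _ (Cfsg.Agent.Lib.Helper19Ind.indFun_isClassFunction (Subgroup.normalizer (K : Set G)) β),
    Cfsg.Agent.Lib.Helper32Ind.frobenius (Subgroup.normalizer (K : Set G)) β _ (Cfsg.Agent.Lib.Helper19Ind.indFun_isClassFunction (Subgroup.normalizer (K : Set G)) α)]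
  have hval : ∀ x : (Subgroup.normalizer (K : Set G)), β x * conj (indFun (Subgroup.normalizer (K : Set G)) α x)
      = β x * conj (α x) + (if x = 1 then (h : ℂ) * (β 1 * conj (α 1)) else 0) := by
    intro x
    by_cases hx1 : x = 1
    · subst hx1
      rw [if_pos rfl]
      have : indFun (Subgroup.normalizer (K : Set G)) α ((1 : (Subgroup.normalizer (K : Set G))) : G) = ((h : ℂ) + 1) * α 1 := by
        rw [Subgroup.coe_one, Cfsg.Agent.Lib.Helper5Ker.indFun_one, hz.hidx, hz.hK]
        push_cast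
        ring
      rw [this, map_mul, map_add, map_one, Complex.conj_natCast]
      ring
    · rw [if_neg hx1, add_zero]
      by_cases hxK : (x : G) ∈ K
      · rw [Cfsg.Agent.Lib.Helper32Ind.indFun_eq_of_TI (Subgroup.normalizer (K : Set G)) (K : Set G) hz.hTI α hα hα0 x hxK hx1]
      · rw [hβ0 x hxK, zero_mul, zero_mul]
  unfold classInner
  rw [Finset.sum_congr rfl (fun x _ => hval x), Finset.sum_add_distrib, Finset.sum_ite_eq',
    if_pos (Finset.mem_univ _), mul_add]
  congr 1
  rw [Cfsg.Agent.Lib.Helper70ZTCardG.cardL hz]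
  have hq : 4 ≤ q := hz.hq
  have hh : (h : ℂ) ≠ 0 := by
    have : 0 < h := by rw [← hz.hK]; exact Nat.card_pos
    exact_mod_cast this.ne'
  have hq1 : ((q : ℂ) - 1) ≠ 0 := by
    have : (q : ℂ) ≠ 1 := by
      have : q ≠ 1 := by omega
      exact_mod_cast this
    exact sub_ne_zero.mpr this
  rw [Nat.cast_mul, Nat.cast_sub (by omega : 1 ≤ q), Nat.cast_one]
  field_simp

end Cfsg.Agent.Lib.Helper70ZTGram
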