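import Mathlib
import Cfsg.Agent.Lib.Helper61ZTDefs
import Cfsg.Agent.Lib.Helper61Feit9

/-!
PROJECT 61, PART C, piece `lcount` (the unlanded dependency `gram` is an extra hypothesis).
-/

set_option autoImplicit false

namespace Cfsg.Agent.Lib.Helper73ZTLcount

open Cfsg Cfsg.Agent.Lib.Helper4Char Cfsg.Agent.Lib.Helper4Char2 Cfsg.Agent.Lib.Helper4Char4
  Cfsg.Agent.Lib.Helper61Feit7 Cfsg.Agent.Lib.Helper61Feit8 Cfsg.Agent.Lib.Helper61Feit9
  Cfsg.Agent.Lib.Helper61ZTDefs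
open scoped ComplexConjugate Classical

variable {G : Type*} [Group G] [Fintype G] {K Z : Subgroup G}
  [Fintype ↥(Subgroup.normalizer (K : Set G))] {q h : ℕ}

/-- the statement of the piece `gram` -/
def Gram (K : Subgroup G) [Fintype ↥(Subgroup.normalizer (K : Set G))] (q : ℕ) : Prop :=
  ∀ (α β : ↥(Subgroup.normalizer (K : Set G)) → ℂ),
    IsClassFunction ↥(Subgroup.normalizer (K : Set G)) α →
    IsClassFunction ↥(Subgroup.normalizer (K : Set G)) β →
    (∀ x : ↥(Subgroup.normalizer (K : Set G)), (x : G) ∉ K → α x = 0) →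
    (∀ x : ↥(Subgroup.normalizer (K : Set G)), (x : G) ∉ K → β x = 0) →
    ∑ χ : IrrCharacter G, classInner (rs K χ) α * conj (classInner (rs K χ) β)
      = classInner β α + β 1 * conj (α 1) / ((q : ℂ) - 1)

theorem cast_e (hz : ZT K Z q h) : (((q - 1 : ℕ)) : ℂ) = (q : ℂ) - 1 := by
  have := hz.hq
  rw [Nat.cast_sub (by omega)]; simp

theorem e_ne (hz : ZT K Z q h) : (q : ℂ) - 1 ≠ 0 := by
  rw [← cast_e hz]
  have := hz.hq
  exact Nat.cast_ne_zero.2 (by omega)

theorem edK_eq (hz : ZT K Z q h) : ((q : ℂ) - 1) • dK K = R (KN K) := by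
  funext x
  rw [R_apply (KN K) (hv K hz.hC) x, hz.he, cast_e hz]
  by_cases hx : (x : G) ∈ K
  · rw [if_pos (Subgroup.mem_subgroupOf.2 hx)]
    simp [dK, hx]
  · rw [if_neg (fun h' => hx (Subgroup.mem_subgroupOf.1 h'))]
    simp [dK, hx]

theorem dK_class : IsClassFunction ↥(Subgroup.normalizer (K : Set G)) (dK K) := by
  intro g y
  have h1 : ((y * g * y⁻¹ : ↥(Subgroup.normalizer (K : Set G))) : G) ∈ K ↔ (g : G) ∈ K := by
    have := (Subgroup.mem_normalizer_iff.1 y.2 (g : G))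
    simpa using this.symm
  unfold dK
  simp only [h1]

theorem cardL' (hz : ZT K Z q h) :
    (Nat.card ↥(Subgroup.normalizer (K : Set G)) : ℂ) = (h : ℂ) * ((q : ℂ) - 1) := by
  rw [← (KN K).card_mul_index, card_KN, hz.hK, hz.he, Nat.cast_mul, cast_e hz]

theorem h_ne (hz : ZT K Z q h) : (h : ℂ) ≠ 0 := by
  rw [← hz.hK]
  exact Nat.cast_ne_zero.2 Nat.card_pos.ne'

theorem sum_dK (hz : ZT K Z q h) :
    ∑ x : ↥(Subgroup.normalizer (K : Set G)), dK K x = (h : ℂ) := by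
  have h1 := sum_ite_mem (KN K) (fun _ => (1 : ℂ)) 1 (fun _ _ _ => rfl)
  rw [card_KN, hz.hK] at h1
  have h2 : ∀ x : ↥(Subgroup.normalizer (K : Set G)),
      dK K x = if x ∈ KN K then (1 : ℂ) else 0 := by
    intro x
    unfold dK
    simp only [Subgroup.mem_subgroupOf]
  rw [Finset.sum_congr rfl (fun x _ => h2 x), h1]
  ring

theorem inner_dK_dK (hz : ZT K Z q h) :
    classInner (dK K) (dK K) = ((q : ℂ) - 1)⁻¹ := by
  unfold classInner
  have h1 : ∀ x : ↥(Subgroup.normalizer (K : Set G)), dK K x * conj (dK K x) = dK K x := by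
    intro x
    unfold dK
    by_cases hx : (x : G) ∈ K <;> simp [hx]
  rw [Finset.sum_congr rfl (fun x _ => h1 x), sum_dK hz, cardL' hz]
  have := h_ne hz
  have := e_ne hz
  field_simp

theorem pure_count {X : Type*} [Fintype X] (l : X → ℕ) (T : Finset X) (x₁ : X) (q : ℕ)
    (hq : 4 ≤ q) (hq2 : Even q) (hT : ∀ x ∈ T, l x = 2) (h1 : l x₁ = 1)
    (hcT : q - 1 - 1 ≤ 2 * T.card) (hsum : ∑ x, l x ^ 2 = 2 * (q - 1)) :
    (Finset.univ.filter (fun x => l x ≠ 0)).card ≤ q / 2 + 1 ∧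
    (Finset.univ.filter (fun x => l x = 1)).card ≤ 2 := by
  obtain ⟨m, hm⟩ := hq2
  have hx₁ : x₁ ∉ T := fun hx => by
    have := hT x₁ hx
    omega
  have hsplit : ∑ x, l x ^ 2 = ∑ x ∈ T, l x ^ 2 + ∑ x ∈ Tᶜ, l x ^ 2 :=
    (Finset.sum_add_sum_compl T _).symm
  have hTs : ∑ x ∈ T, l x ^ 2 = 4 * T.card := by
    rw [Finset.sum_congr rfl (fun x hx => by rw [hT x hx]), Finset.sum_const, smul_eq_mul]
    ring
  have hge : 1 ≤ ∑ x ∈ Tᶜ, l x ^ 2 := by
    have : l x₁ ^ 2 ≤ ∑ x ∈ Tᶜ, l x ^ 2 :=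
      Finset.single_le_sum (f := fun x => l x ^ 2) (fun _ _ => Nat.zero_le _)
        (Finset.mem_compl.2 hx₁)
    rw [h1] at this
    simpa using this
  have hc2 : ∑ x ∈ Tᶜ, l x ^ 2 = 2 ∧ T.card = m - 1 := by
    omega
  have hcnt : ((Tᶜ).filter (fun x => l x ≠ 0)).card ≤ 2 := by
    rw [← hc2.1, Finset.card_eq_sum_ones, Finset.sum_filter]
    apply Finset.sum_le_sum
    intro x _
    by_cases hx : l x = 0
    · simp [hx]
    · simp only [ne_eq, hx, not_false_eq_true, if_true]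
      exact Nat.one_le_iff_ne_zero.2 (pow_ne_zero 2 hx)
  constructor
  · have hsub : Finset.univ.filter (fun x => l x ≠ 0) ⊆ T ∪ (Tᶜ).filter (fun x => l x ≠ 0) := by
      intro x hx
      rw [Finset.mem_filter] at hx
      by_cases hxT : x ∈ T
      · exact Finset.mem_union_left _ hxT
      · exact Finset.mem_union_right _ (Finset.mem_filter.2 ⟨Finset.mem_compl.2 hxT, hx.2⟩)
    have := (Finset.card_le_card hsub).trans (Finset.card_union_le _ _)
    omega
  · have hsub : Finset.univ.filter (fun x => l x = 1) ⊆ (Tᶜ).filter (fun x => l x ≠ 0) := by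
      intro x hx
      rw [Finset.mem_filter] at hx
      refine Finset.mem_filter.2 ⟨Finset.mem_compl.2 (fun hxT => ?_), by omega⟩
      have := hT x hxT
      omega
    exact (Finset.card_le_card hsub).trans hcnt

theorem lcount (hz : ZT K Z q h) (hgram : Gram K q) : ∃ l : IrrCharacter G → ℕ,
    (∀ χ : IrrCharacter G, classInner (rs K χ) (((q : ℂ) - 1) • dK K) = l χ) ∧
    (Finset.univ.filter (fun χ => l χ ≠ 0)).card ≤ q / 2 + 1 ∧
    (Finset.univ.filter (fun χ => l χ = 1)).card ≤ 2 ∧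
    ∑ χ, l χ ^ 2 = 2 * (q - 1) ∧
    l ⟨fun _ => 1, Cfsg.Agent.Lib.Helper83Char.isIrr_one⟩ = 1 := by
  have hres : ∀ χ : IrrCharacter G, IsCharacter ↥(Subgroup.normalizer (K : Set G)) (rs K χ) :=
    fun χ => IsCharacter.restrict _ (IsIrrCharacter.isCharacter χ.2)
  choose l hl using fun χ : IrrCharacter G => IsCharacter.classInner_nat (hres χ) (R_char (KN K))
  have hl' : ∀ χ : IrrCharacter G, classInner (rs K χ) (((q : ℂ) - 1) • dK K) = l χ := by
    intro χ
    rw [edK_eq hz]; exact hl χ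
  have h5 : (Nat.card K : ℂ) ≠ 0 := Nat.cast_ne_zero.2 Nat.card_pos.ne'
  have hone : l ⟨fun _ => 1, Cfsg.Agent.Lib.Helper83Char.isIrr_one⟩ = 1 := by
    have h2 := inner_R (KN K) (hv K hz.hC)
      (rs K (fun _ => 1)) 1 (fun _ _ _ => rfl)
    rw [card_KN] at h2
    have h3 : classInner (rs K (fun _ => 1)) (R (KN K)) = 1 := by
      apply mul_right_cancel₀ h5
      rw [h2]
      simp [rs]
    have h4 := hl ⟨fun _ => 1, Cfsg.Agent.Lib.Helper83Char.isIrr_one⟩
    rw [h3] at h4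
    exact_mod_cast h4.symm
  have hT : ∀ χ ∈ (M K).image (X K), l χ = 2 := by
    intro χ hχ
    obtain ⟨μ₀, hμ₀, rfl⟩ := Finset.mem_image.1 hχ
    have h2 := inner_R (KN K) (hv K hz.hC)
      (rs K (X K μ₀ : G → ℂ)) 1 (by
        intro x hx hx1
        exact (X_spec K hz.hab hz.hX hμ₀).2 x (Subgroup.mem_subgroupOf.1 hx)
          (fun h => hx1 (Subtype.ext h)))
    have h2' : rs K (X K μ₀ : G → ℂ) 1 = (X K μ₀ : G → ℂ) 1 := rfl
    rw [h2', X_one K hz.hab hz.hX hμ₀, hz.hidx, card_KN] at h2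
    have h3 : classInner (rs K (X K μ₀ : G → ℂ)) (R (KN K)) = 2 := by
      apply mul_right_cancel₀ h5
      rw [h2]; push_cast; ring
    have h4 := hl (X K μ₀)
    rw [h3] at h4
    exact_mod_cast h4.symm
  have hsum : ∑ χ, l χ ^ 2 = 2 * (q - 1) := by
    have hcl : IsClassFunction ↥(Subgroup.normalizer (K : Set G)) (((q : ℂ) - 1) • dK K) :=
      IsClassFunction.smul _ dK_class
    have h0 : ∀ x : ↥(Subgroup.normalizer (K : Set G)), (x : G) ∉ K →
        (((q : ℂ) - 1) • dK K) x = 0 := by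
      intro x hx
      simp [dK, hx]
    have hg := hgram _ _ hcl hcl h0 h0
    rw [classInner_smul_left, classInner_smul_right, inner_dK_dK hz] at hg
    have h1 : (((q : ℂ) - 1) • dK K) 1 = (q : ℂ) - 1 := by
      simp [dK, K.one_mem]
    rw [h1] at hg
    have h2 : conj ((q : ℂ) - 1) = (q : ℂ) - 1 := by simp
    rw [h2] at hg
    have h3 : ∑ χ : IrrCharacter G, classInner (rs K χ) (((q : ℂ) - 1) • dK K)
        * conj (classInner (rs K χ) (((q : ℂ) - 1) • dK K)) = ((∑ χ, l χ ^ 2 : ℕ) : ℂ) := by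
      push_cast
      apply Finset.sum_congr rfl
      intro χ _
      rw [hl' χ]
      simp [sq]
    rw [h3] at hg
    have he := e_ne hz
    have h4 : ((∑ χ, l χ ^ 2 : ℕ) : ℂ) = ((2 * (q - 1) : ℕ) : ℂ) := by
      rw [hg, Nat.cast_mul, cast_e hz]
      field_simp
      ring
    exact_mod_cast h4
  have hcT := card_T K hz.hC hz.hab hz.hX hz.hidx
  rw [hz.he] at hcT
  have hq2 : Even q := by
    obtain ⟨n, hn⟩ := hz.hq2
    have hq := hz.hq
    rcases n with _ | n
    · simp at hn; omega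
    · rw [hn, pow_succ]; exact even_two.mul_left _
  obtain ⟨hA, hB⟩ := pure_count l ((M K).image (X K)) _ q hz.hq hq2 hT hone hcT hsum
  exact ⟨l, hl', hA, hB, hsum, hone⟩

end Cfsg.Agent.Lib.Helper73ZTLcount
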