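import Mathlib
import Cfsg.Agent.Lib.Helper61ZTDefs
import Cfsg.Agent.Lib.Helper61Feit9
import Cfsg.Agent.Lib.Helper73ZTLcount

/-!
PROJECT 61, PART C, piece `chi0` (the unlanded dependencies `gram`, `D1`, `COH` are extra
hypotheses; `lcount` is `Helper73ZTLcount.lcount`).
-/

set_option autoImplicit false

namespace Cfsg.Agent.Lib.Helper73ZTChi0

open Cfsg Cfsg.Agent.Lib.Helper4Char Cfsg.Agent.Lib.Helper4Char2 Cfsg.Agent.Lib.Helper4Char4
  Cfsg.Agent.Lib.Helper61Feit7 Cfsg.Agent.Lib.Helper61Feit8 Cfsg.Agent.Lib.Helper61Feit9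
  Cfsg.Agent.Lib.Helper61ZTDefs Cfsg.Agent.Lib.Helper73ZTLcount
open scoped ComplexConjugate Classical

/-- the statement of the piece `COH` for given types -/
def COHStmt (X I : Type*) [Fintype X] [Fintype I] [DecidableEq I] (q : ℕ) : Prop :=
  4 ≤ q → Fintype.card I = q + 1 → ∀ (a : I → X → ℕ) (l deg : X → ℕ) (Dg : ℕ),
    (∀ i j, ∑ x, a i x * a j x = (if i = j then 1 else 0) + (q - 1)) →
    (∀ x, 0 < deg x) → (∀ i, ∑ x, a i x * deg x = Dg) →
    (∀ i, ∑ x, a i x * l x = q - 1) →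
    ((Finset.univ.filter (fun x => l x = 1)).card ≤ 2) →
    (∑ x, l x ^ 2 = 2 * (q - 1)) → ∀ i₀ : I,
    ∃ x₀ : X, a i₀ x₀ = 1 ∧ (∀ j, j ≠ i₀ → a j x₀ = 0) ∧ l x₀ = 0 ∧
      ∀ x, (∀ j, a j x = a j x₀) → x = x₀

variable {G : Type*} [Group G] [Fintype G] {K Z : Subgroup G}
  [Fintype ↥(Subgroup.normalizer (K : Set G))] {q h : ℕ}

/-- the statement of the piece `D1` -/
def D1Stmt (K Z : Subgroup G) [Fintype ↥(Subgroup.normalizer (K : Set G))] (q : ℕ) : Prop :=
  ∃ I : Finset (IrrCharacter ↥(Subgroup.normalizer (K : Set G))), I.card = q + 1 ∧ I ⊆ SF (KN K) ∧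
      (∀ ψ ∈ I, (ψ : ↥(Subgroup.normalizer (K : Set G)) → ℂ) 1 = (q : ℂ) - 1) ∧
      (∀ ψ ∈ I, ∀ x, conj ((ψ : ↥(Subgroup.normalizer (K : Set G)) → ℂ) x)
        = (ψ : ↥(Subgroup.normalizer (K : Set G)) → ℂ) x) ∧
      ∑ ψ ∈ I, (ψ : ↥(Subgroup.normalizer (K : Set G)) → ℂ) = ((q : ℂ) ^ 2) • dZ K Z - dK K

theorem d1_class : IsClassFunction ↥(Subgroup.normalizer (K : Set G)) (d1 K) := by
  intro g y
  have h1 : y * g * y⁻¹ = 1 ↔ g = 1 := by
    constructor
    · intro h
      have : g = y⁻¹ * (y * g * y⁻¹) * y := by group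
      rw [this, h]; group
    · rintro rfl; group
  unfold d1
  simp only [h1]

theorem inner_d1_right (f : ↥(Subgroup.normalizer (K : Set G)) → ℂ) :
    classInner f (d1 K) = (Nat.card ↥(Subgroup.normalizer (K : Set G)) : ℂ)⁻¹ * f 1 := by
  unfold classInner
  congr 1
  have h1 : ∀ x : ↥(Subgroup.normalizer (K : Set G)),
      f x * conj (d1 K x) = if x = 1 then f 1 else 0 := by
    intro x
    unfold d1
    by_cases hx : x = 1
    · subst hx; simp
    · simp [hx]
  rw [Finset.sum_congr rfl (fun x _ => h1 x), Finset.sum_ite_eq', if_pos (Finset.mem_univ _)]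

theorem inner_d1_left (f : ↥(Subgroup.normalizer (K : Set G)) → ℂ) :
    classInner (d1 K) f = (Nat.card ↥(Subgroup.normalizer (K : Set G)) : ℂ)⁻¹ * conj (f 1) := by
  rw [← classInner_conj_symm, inner_d1_right]
  simp

theorem inner_dK_SF (hz : ZT K Z q h) {ψ : IrrCharacter ↥(Subgroup.normalizer (K : Set G))}
    (hψ : ψ ∈ SF (KN K)) : classInner (dK K) ψ = 0 := by
  unfold classInner
  have h1 : ∀ x : ↥(Subgroup.normalizer (K : Set G)),
      dK K x * conj ((ψ : ↥(Subgroup.normalizer (K : Set G)) → ℂ) x)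
        = conj ((ψ : ↥(Subgroup.normalizer (K : Set G)) → ℂ) x) := by
    intro x
    by_cases hx : (x : G) ∈ K
    · simp [dK, hx]
    · rw [hv K hz.hC ψ hψ x (fun h' => hx (Subgroup.mem_subgroupOf.1 h'))]
      simp
  rw [Finset.sum_congr rfl (fun x _ => h1 x), ← map_sum,
    Cfsg.Agent.Lib.Helper83Char.irr_sum_eq_zero ψ.2 (ne_one_of_mem_SF (KN K) hψ)]
  simp

theorem chi0 (hz : ZT K Z q (q ^ 3)) (hgram : Gram K q) (hD1 : D1Stmt K Z q)
    (hCOH : ∀ I : Finset (IrrCharacter ↥(Subgroup.normalizer (K : Set G))),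
      COHStmt (IrrCharacter G) ↥I q) :
    ∃ (ψ : IrrCharacter ↥(Subgroup.normalizer (K : Set G))) (χ : IrrCharacter G), ψ ∈ SF (KN K) ∧
      (ψ : ↥(Subgroup.normalizer (K : Set G)) → ℂ) 1 = (q : ℂ) - 1 ∧
      classInner (rs K χ) ψ = 1 ∧
      classInner (rs K χ) (((q : ℂ) ^ 2) • dZ K Z - dK K) = 1 ∧
      classInner (rs K χ) (dK K) = 0 ∧
      (∀ g : G, conj ((χ : G → ℂ) g) = (χ : G → ℂ) g) := by
  obtain ⟨I, hIc, hIS, hI1, hIr, hIsum⟩ := hD1
  obtain ⟨l, hl, -, hl1, hl2, -⟩ := lcount hz hgram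
  have he := e_ne hz
  have hconj_e : conj ((q : ℂ) - 1) = (q : ℂ) - 1 := by simp
  have hres : ∀ χ : IrrCharacter G, IsCharacter ↥(Subgroup.normalizer (K : Set G)) (rs K χ) :=
    fun χ => IsCharacter.restrict _ (IsIrrCharacter.isCharacter χ.2)
  choose a ha using fun (i : ↥I) (χ : IrrCharacter G) =>
    IsCharacter.classInner_nat (hres χ) (IsIrrCharacter.isCharacter i.1.2)
  choose deg hdeg0 hdeg using fun χ : IrrCharacter G => IsIrrCharacter.exists_degree χ.2
  have hcl : ∀ i : ↥I, IsClassFunction ↥(Subgroup.normalizer (K : Set G))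
      (i.1 : ↥(Subgroup.normalizer (K : Set G)) → ℂ) :=
    fun i => IsIrrCharacter.isClassFunction i.1.2
  have hoff : ∀ i : ↥I, ∀ x : ↥(Subgroup.normalizer (K : Set G)), (x : G) ∉ K →
      (i.1 : ↥(Subgroup.normalizer (K : Set G)) → ℂ) x = 0 := by
    intro i x hx
    exact hv K hz.hC i.1 (hIS i.2) x (fun h' => hx (Subgroup.mem_subgroupOf.1 h'))
  have hG1 : ∀ i j : ↥I, ∑ χ, a i χ * a j χ = (if i = j then 1 else 0) + (q - 1) := by
    intro i j
    have hg := hgram _ _ (hcl i) (hcl j) (hoff i) (hoff j)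
    rw [classInner_irr j.1.2 i.1.2, hI1 _ i.2, hI1 _ j.2, hconj_e] at hg
    have h3 : ∑ χ : IrrCharacter G,
        classInner (rs K χ) (i.1 : ↥(Subgroup.normalizer (K : Set G)) → ℂ)
        * conj (classInner (rs K χ) (j.1 : ↥(Subgroup.normalizer (K : Set G)) → ℂ))
          = ((∑ χ, a i χ * a j χ : ℕ) : ℂ) := by
      push_cast
      apply Finset.sum_congr rfl
      intro χ _
      rw [ha i χ, ha j χ]
      simp
    rw [h3] at hg
    have h4 : ((∑ χ, a i χ * a j χ : ℕ) : ℂ) = (((if i = j then 1 else 0) + (q - 1) : ℕ) : ℂ) := by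
      rw [hg, Nat.cast_add, cast_e hz]
      congr 1
      · by_cases hij : i = j
        · subst hij; simp
        · rw [if_neg hij, if_neg]
          · simp
          · intro h'
            exact hij (Subtype.ext (Subtype.ext h'.symm))
      · field_simp
    exact_mod_cast h4
  have hcardL := cardL' hz
  have hLne : (Nat.card ↥(Subgroup.normalizer (K : Set G)) : ℂ) ≠ 0 :=
    Nat.cast_ne_zero.2 Nat.card_pos.ne'
  have hG2 : ∀ i : ↥I, ∑ χ, a i χ * deg χ = (q ^ 3 + 1) * (q - 1) := by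
    intro i
    have hclb : IsClassFunction ↥(Subgroup.normalizer (K : Set G))
        ((Nat.card ↥(Subgroup.normalizer (K : Set G)) : ℂ) • d1 K) :=
      IsClassFunction.smul _ d1_class
    have h0 : ∀ x : ↥(Subgroup.normalizer (K : Set G)), (x : G) ∉ K →
        ((Nat.card ↥(Subgroup.normalizer (K : Set G)) : ℂ) • d1 K) x = 0 := by
      intro x hx
      have hx1 : x ≠ 1 := by
        rintro rfl
        exact hx K.one_mem
      simp [d1, hx1]
    have hg := hgram _ _ (hcl i) hclb (hoff i) h0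
    rw [classInner_smul_left, inner_d1_left, hI1 _ i.2, hconj_e] at hg
    have h1 : ((Nat.card ↥(Subgroup.normalizer (K : Set G)) : ℂ) • d1 K) 1
        = (Nat.card ↥(Subgroup.normalizer (K : Set G)) : ℂ) := by
      simp [d1]
    rw [h1] at hg
    have h3 : ∑ χ : IrrCharacter G,
        classInner (rs K χ) (i.1 : ↥(Subgroup.normalizer (K : Set G)) → ℂ)
        * conj (classInner (rs K χ) ((Nat.card ↥(Subgroup.normalizer (K : Set G)) : ℂ) • d1 K))
          = ((∑ χ, a i χ * deg χ : ℕ) : ℂ) := by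
      push_cast
      apply Finset.sum_congr rfl
      intro χ _
      rw [ha i χ, classInner_smul_right, inner_d1_right]
      have : rs K (χ : G → ℂ) 1 = (deg χ : ℂ) := hdeg χ
      rw [this]
      simp only [map_mul, map_inv₀, Complex.conj_natCast]
      field_simp
    rw [h3] at hg
    have h4 : ((∑ χ, a i χ * deg χ : ℕ) : ℂ) = (((q ^ 3 + 1) * (q - 1) : ℕ) : ℂ) := by
      have e1 : (Nat.card ↥(Subgroup.normalizer (K : Set G)) : ℂ)
          * ((Nat.card ↥(Subgroup.normalizer (K : Set G)) : ℂ)⁻¹ * ((q : ℂ) - 1)) = (q : ℂ) - 1 := by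
        field_simp
      have e2 : (Nat.card ↥(Subgroup.normalizer (K : Set G)) : ℂ) * ((q : ℂ) - 1) / ((q : ℂ) - 1)
          = (Nat.card ↥(Subgroup.normalizer (K : Set G)) : ℂ) := by
        field_simp
      rw [hg, e1, e2, Nat.cast_mul, cast_e hz, hcardL]
      push_cast
      ring
    exact_mod_cast h4
  have hG3 : ∀ i : ↥I, ∑ χ, a i χ * l χ = q - 1 := by
    intro i
    have hclb : IsClassFunction ↥(Subgroup.normalizer (K : Set G)) (((q : ℂ) - 1) • dK K) :=
      IsClassFunction.smul _ dK_class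
    have h0 : ∀ x : ↥(Subgroup.normalizer (K : Set G)), (x : G) ∉ K →
        (((q : ℂ) - 1) • dK K) x = 0 := by
      intro x hx
      simp [dK, hx]
    have hg := hgram _ _ (hcl i) hclb (hoff i) h0
    rw [classInner_smul_left, inner_dK_SF hz (hIS i.2), hI1 _ i.2, hconj_e] at hg
    have h1 : (((q : ℂ) - 1) • dK K) 1 = (q : ℂ) - 1 := by
      simp [dK, K.one_mem]
    rw [h1] at hg
    have h3 : ∑ χ : IrrCharacter G,
        classInner (rs K χ) (i.1 : ↥(Subgroup.normalizer (K : Set G)) → ℂ)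
        * conj (classInner (rs K χ) (((q : ℂ) - 1) • dK K))
          = ((∑ χ, a i χ * l χ : ℕ) : ℂ) := by
      push_cast
      apply Finset.sum_congr rfl
      intro χ _
      rw [ha i χ, hl χ]
      simp
    rw [h3] at hg
    have h4 : ((∑ χ, a i χ * l χ : ℕ) : ℂ) = ((q - 1 : ℕ) : ℂ) := by
      rw [hg, cast_e hz]
      field_simp
      ring
    exact_mod_cast h4
  have hIne : I.Nonempty := by
    rw [← Finset.card_pos, hIc]; omega
  obtain ⟨ψ₀, hψ₀⟩ := hIne
  obtain ⟨χ₀, h1, h2, h3, h4⟩ := hCOH I hz.hq (by rw [Fintype.card_coe, hIc]) a l deg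
    ((q ^ 3 + 1) * (q - 1)) hG1 hdeg0 hG2 hG3 hl1 hl2 ⟨ψ₀, hψ₀⟩
  refine ⟨ψ₀, χ₀, hIS hψ₀, hI1 _ hψ₀, ?_, ?_, ?_, ?_⟩
  · have := ha ⟨ψ₀, hψ₀⟩ χ₀
    rw [h1] at this
    simpa using this
  · rw [← hIsum, classInner_sum_right, ← Finset.sum_coe_sort I
      (fun ψ => classInner (rs K χ₀) (ψ : ↥(Subgroup.normalizer (K : Set G)) → ℂ))]
    rw [Finset.sum_eq_single (⟨ψ₀, hψ₀⟩ : ↥I)]
    · have := ha ⟨ψ₀, hψ₀⟩ χ₀
      rw [h1] at this
      simpa using this
    · intro j _ hj
      rw [ha j χ₀, h2 j hj]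
      simp
    · intro hn
      exact absurd (Finset.mem_univ _) hn
  · have := hl χ₀
    rw [h3, classInner_smul_right, hconj_e] at this
    simpa [he] using this
  · have hx := h4 ⟨fun g => conj ((χ₀ : G → ℂ) g), IsIrrCharacter.conj χ₀.2⟩ (by
      intro j
      have h5 : classInner (rs K (fun g => conj ((χ₀ : G → ℂ) g)))
          (j.1 : ↥(Subgroup.normalizer (K : Set G)) → ℂ)
          = conj (classInner (rs K χ₀) (j.1 : ↥(Subgroup.normalizer (K : Set G)) → ℂ)) := by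
        unfold classInner
        rw [map_mul, map_sum]
        congr 1
        · simp
        · apply Finset.sum_congr rfl
          intro x _
          rw [map_mul, hIr _ j.2 x, hIr _ j.2 x]
          rfl
      have h6 := ha j ⟨fun g => conj ((χ₀ : G → ℂ) g), IsIrrCharacter.conj χ₀.2⟩
      rw [h5, ha j χ₀] at h6
      simp only [Complex.conj_natCast] at h6
      exact_mod_cast h6.symm)
    intro g
    exact congrFun (congrArg Subtype.val hx) g

end Cfsg.Agent.Lib.Helper73ZTChi0
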