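import Mathlib
import Cfsg.Agent.Lib.Helper61ZTDefs
import Cfsg.Agent.Lib.Helper61HigDefs
import Cfsg.Agent.Lib.Helper61Feit13
import Cfsg.Agent.Lib.Helper3HigBasic
import Cfsg.Agent.Lib.Helper15HigPowq
import Cfsg.Agent.Lib.Helper3HigCwgroup
import Cfsg.Prelude.Def_LieExceptional

/-!
PROJECT 61, PART C, piece `instZT`: a simple Zassenhaus group whose point stabiliser has a non-abelian
regular normal 2-subgroup `U` gives a `ZT` configuration.

Two extra hypotheses at the end: `hinstH` = the conclusion of piece `instH`, `hHC` = assembly `HC` of part H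
for the action of the two point stabiliser on `U`.
-/

set_option autoImplicit false

namespace Cfsg.Agent.Lib.Helper95ZTInstZT

open Cfsg Cfsg.Agent.Lib.Helper61ZTDefs Cfsg.Agent.Lib.Helper61HigDefs Cfsg.Agent.Lib.Helper61Feit
  Cfsg.Agent.Lib.Helper61Feit2 Cfsg.Agent.Lib.Helper61Feit3 Cfsg.Agent.Lib.Helper61Feit8
  Cfsg.Agent.Lib.Helper61Feit13

/-- every element of even order is conjugate into the kernel -/
theorem part_aux {G Ω : Type*} [Group G] [Finite G] [MulAction G Ω] [Finite Ω] {h : ℕ}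
    (hZ : Cfsg.IsZassenhausGroup G Ω) [IsSimpleGroup G] (hh : Nat.card Ω = h + 1)
    {x y : Ω} (hxy : x ≠ y) (hodd : Odd (Nat.card (stab2 G x y))) (hhe : Even h)
    {U : Subgroup G} (K : KData G Ω x h U) (g : G) :
    (∃ w : G, w * g * w⁻¹ ∈ U) ∨ Odd (orderOf g) := by
  have D := tdata_of_zass hZ hh
  have he3 := three_le_e hZ hh hxy hodd
  have h4 := four_le_h hZ hh hxy hodd
  have hC := cent_le D hxy (by omega) (by omega) K
  by_cases hg : Odd (orderOf g)
  · exact Or.inr hg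
  left
  rw [Nat.not_odd_iff_even] at hg
  obtain ⟨m, hm⟩ := hg
  have hpos : 0 < orderOf g := orderOf_pos g
  have hm0 : m ≠ 0 := by omega
  have ht : orderOf (g ^ m) = 2 := by
    rw [orderOf_pow_of_dvd hm0 ⟨2, by omega⟩, hm]
    have : m + m = 2 * m := by ring
    rw [this]
    exact Nat.mul_div_cancel _ (by omega)
  obtain ⟨c, hc⟩ := Cfsg.Agent.Lib.Helper61Feit4.invol_fix_of_even hZ hh hhe ht
  have := trans D
  obtain ⟨w, hw⟩ := MulAction.exists_smul_eq G c x
  refine ⟨w, ?_⟩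
  have ht' : orderOf (w * g ^ m * w⁻¹) = 2 := by rw [Cfsg.Agent.Lib.Helper61Feit4.orderOf_conj]; exact ht
  have hfix : (w * g ^ m * w⁻¹) • x = x := by
    rw [mul_smul, mul_smul, ← hw, inv_smul_smul, hc]
  have hmem := Cfsg.Agent.Lib.Helper61Feit5.invol_mem_kernel hZ hh hxy hodd K ht' hfix
  have hne : w * g ^ m * w⁻¹ ≠ 1 := by
    intro h1
    rw [h1, orderOf_one] at ht'
    omega
  apply hC _ hmem hne
  rw [Subgroup.mem_centralizer_singleton_iff]
  have e1 : w * g ^ m * w⁻¹ = (w * g * w⁻¹) ^ m := (conj_pow).symm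
  rw [e1, ← pow_succ, ← pow_succ']

theorem instZT {G Ω : Type*} [Group G] [Fintype G] [MulAction G Ω] [Finite Ω]
    (hZ : Cfsg.IsZassenhausGroup G Ω) [IsSimpleGroup G]
    (x y : Ω) (hxy : x ≠ y) (U : Subgroup G) (hUle : U ≤ MulAction.stabilizer G x)
    (hUn : (U.subgroupOf (MulAction.stabilizer G x)).Normal)
    (hU2 : IsPGroup 2 U) (hUna : ∃ u v : U, u * v ≠ v * u)
    (hreg : ∀ y z : Ω, y ≠ x → z ≠ x → ∃! u : U, (u : G) • y = z)
    (hinstH : Cfsg.Agent.Lib.Helper61Feit2.KData G Ω x (Nat.card U) U ∧ Nat.card Ω = Nat.card U + 1 ∧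
      Odd (Nat.card (stab2 G x y)) ∧ IsCyclic (stab2 G x y) ∧
      ∃ hE : ∀ e ∈ stab2 G x y, ∀ u ∈ U, e * u * e⁻¹ ∈ U, HS (conjAct U (stab2 G x y) hE))
    (hHC : ∀ hE : ∀ e ∈ stab2 G x y, ∀ u ∈ U, e * u * e⁻¹ ∈ U, HS (conjAct U (stab2 G x y) hE) →
      (∃ u v : U, u * v ≠ v * u) → ∀ u : U, u ^ 4 = 1) :
    ∃ (Z : Subgroup G) (q : ℕ), Nat.card (stab2 G x y) = q - 1 ∧
      (ZT U Z q (q ^ 2) ∨ ZT U Z q (q ^ 3)) := by
  classical
  have : Fintype Ω := Fintype.ofFinite Ω
  obtain ⟨K, hh, hodd, hcyc, hE, hHS⟩ := hinstH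
  have hexp := hHC hE hHS hUna
  have D := tdata_of_zass hZ hh
  have he3 := three_le_e hZ hh hxy hodd
  have h4 := four_le_h hZ hh hxy hodd
  have hhF : Fintype.card Ω = Nat.card U + 1 := by rw [← Nat.card_eq_fintype_card, hh]
  obtain ⟨hTI0, hN⟩ := Cfsg.Agent.S0878.result hZ x U K.le (by rw [hhF]) K.fix
  have hC := cent_le D hxy (by omega) (by omega) K
  have hcN : Nat.card ↥(Subgroup.normalizer (U : Set G)) = Nat.card U * Nat.card (stab2 G x y) := by
    rw [hN, card_stab D hxy]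
  have hidx : (KN U).index = Nat.card (stab2 G x y) := by
    have h1 := (KN U).card_mul_index
    rw [Cfsg.Agent.Lib.Helper61Feit9.card_KN, hcN] at h1
    exact Nat.eq_of_mul_eq_mul_left (by omega) h1
  have hcomm := comm hZ hh hxy hodd
  have hab' : ∀ a b : ↥(Subgroup.normalizer (U : Set G)), a * b * a⁻¹ * b⁻¹ ∈ KN U := by
    have hdec : ∀ a : ↥(Subgroup.normalizer (U : Set G)),
        ∃ b : ↥(Subgroup.normalizer (U : Set G)), (b : G) ∈ stab2 G x y ∧
          QuotientGroup.mk' (KN U) a = QuotientGroup.mk' (KN U) b := by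
      intro a
      have hx : (a : G) • x = x := by
        have h0 : ∀ g : G, g ∈ Subgroup.normalizer (U : Set G) → g • x = x := by
          intro g hg
          rw [hN] at hg
          exact hg
        exact h0 a a.2
      obtain ⟨u, hu, b, hb, hab⟩ := decomp D hxy K hx
      have hbN : b ∈ Subgroup.normalizer (U : Set G) := by
        rw [hN]; exact (mem_stab2.1 hb).1
      refine ⟨⟨b, hbN⟩, hb, ?_⟩
      have h1 : a = (⟨u, Subgroup.le_normalizer hu⟩ : ↥(Subgroup.normalizer (U : Set G)))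
          * ⟨b, hbN⟩ := Subtype.ext hab
      rw [h1, map_mul]
      have h2 : QuotientGroup.mk' (KN U)
          (⟨u, Subgroup.le_normalizer hu⟩ : ↥(Subgroup.normalizer (U : Set G))) = 1 :=
        (QuotientGroup.eq_one_iff _).2 (Subgroup.mem_subgroupOf.2 hu)
      rw [h2, one_mul]
    intro a b
    obtain ⟨a', ha', ea⟩ := hdec a
    obtain ⟨b', hb', eb⟩ := hdec b
    rw [← QuotientGroup.eq_one_iff]
    have h1 : ((a * b * a⁻¹ * b⁻¹ : ↥(Subgroup.normalizer (U : Set G))) :
        ↥(Subgroup.normalizer (U : Set G)) ⧸ KN U)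
        = QuotientGroup.mk' (KN U) (a * b * a⁻¹ * b⁻¹) := rfl
    rw [h1, map_mul, map_mul, map_mul, map_inv, map_inv, ea, eb, ← map_inv, ← map_inv, ← map_mul,
      ← map_mul, ← map_mul]
    have h2 : a' * b' * a'⁻¹ * b'⁻¹ = 1 := by
      have h3 : a' * b' = b' * a' := Subtype.ext (hcomm a' ha' b' hb')
      rw [h3]; group
    rw [h2, map_one]
  -- the subgroup of involutions
  set e := Nat.card (stab2 G x y) with he
  have hmemZ : ∀ u : G, u ∈ (Cfsg.Agent.Lib.Helper3HigBasic.Z0 hHS).map U.subtype ↔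
      u ∈ U ∧ u * u = 1 := by
    intro u
    constructor
    · rintro ⟨v, hv, rfl⟩
      refine ⟨v.2, ?_⟩
      have : v * v = 1 := hv
      exact congrArg Subtype.val this
    · rintro ⟨hu, huu⟩
      exact ⟨⟨u, hu⟩, Subtype.ext huu, rfl⟩
  have hcardZ : Nat.card ((Cfsg.Agent.Lib.Helper3HigBasic.Z0 hHS).map U.subtype) = e + 1 := by
    rw [Subgroup.card_map_of_injective U.subtype_injective,
      Cfsg.Agent.Lib.Helper3HigBasic.card_Z0 hHS]
  obtain ⟨n, hn2, hn⟩ := Cfsg.Agent.Lib.Helper3HigBasic.exists_q hHS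
  obtain ⟨j, hj⟩ := Cfsg.Agent.Lib.Helper15HigPowq.card_eq_pow hHS
  have hcube := Cfsg.Agent.Lib.Helper3HigCwgroup.card_le_cube hHS hexp
  rw [← he] at hn hj hcube
  have hj3 : j ≤ 3 := by
    rw [hj] at hcube
    exact (Nat.pow_le_pow_iff_right (by omega)).1 hcube
  have hj2 : 2 ≤ j := by
    by_contra hcon
    have hle : Nat.card U ≤ Nat.card (Cfsg.Agent.Lib.Helper3HigBasic.Z0 hHS) := by
      rw [Cfsg.Agent.Lib.Helper3HigBasic.card_Z0 hHS, ← he, hj]
      calc (e + 1) ^ j ≤ (e + 1) ^ 1 := Nat.pow_le_pow_right (by omega) (by omega)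
        _ = e + 1 := pow_one _
    have htop := Subgroup.eq_top_of_le_card _ hle
    obtain ⟨u, v, huv⟩ := hUna
    apply huv
    have hu : u ∈ Cfsg.Agent.Lib.Helper3HigBasic.Z0 hHS := by rw [htop]; exact Subgroup.mem_top u
    exact Cfsg.Agent.Lib.Helper3HigBasic.invol_central hHS hu v
  have hhe : Even (Nat.card U) := by
    rw [hj, Nat.even_pow]
    refine ⟨?_, by omega⟩
    obtain ⟨k, hk⟩ := hodd
    exact ⟨k + 1, by omega⟩
  have main : ∀ h' : ℕ, Nat.card U = h' →
      ZT U ((Cfsg.Agent.Lib.Helper3HigBasic.Z0 hHS).map U.subtype) (e + 1) h' := by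
    intro h' hh'
    refine
      { simple := inferInstance
        hTI := fun g hg => hTI0 g (by rw [← hN]; exact hg)
        hC := hC
        hab := hab'
        hX := hX_wrap hZ hh hxy hodd K _ hN
        hidx := ?_
        hK := hh'
        he := by rw [Nat.add_sub_cancel]; exact hidx
        hq := by omega
        hq2 := ⟨n, hn⟩
        part := part_aux hZ hh hxy hodd hhe K
        two := hU2
        hZ := hmemZ
        cardZ := hcardZ
        sq := ?_
        tr := ?_
        na := ?_ }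
    · rw [hN]
      have := trans D
      rw [MulAction.index_stabilizer_of_transitive G x, hh]
    · intro u hu
      rw [hmemZ]
      refine ⟨U.mul_mem hu hu, ?_⟩
      have := congrArg Subtype.val (hexp ⟨u, hu⟩)
      simp only [Subgroup.coe_pow, Subgroup.coe_one] at this
      rw [← this, pow_succ, pow_succ, pow_succ, pow_one, mul_assoc, mul_assoc, mul_assoc]
    · intro z hz z' hz' hz1 hz1'
      rw [hmemZ] at hz hz'
      obtain ⟨a, ha, -⟩ := hHS.reg ⟨z, hz.1⟩ ⟨z', hz'.1⟩ (fun h => hz1 (congrArg Subtype.val h))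
        (Subtype.ext hz.2) (fun h => hz1' (congrArg Subtype.val h)) (Subtype.ext hz'.2)
      refine ⟨a, ?_, ?_⟩
      · rw [hN]; exact (mem_stab2.1 a.2).1
      · exact congrArg Subtype.val ha
    · obtain ⟨u, v, huv⟩ := hUna
      exact ⟨u, u.2, v, v.2, fun h => huv (Subtype.ext h)⟩
  refine ⟨(Cfsg.Agent.Lib.Helper3HigBasic.Z0 hHS).map U.subtype, e + 1, by omega, ?_⟩
  have : j = 2 ∨ j = 3 := by omega
  rcases this with rfl | rfl
  · exact Or.inl (main _ hj)
  · exact Or.inr (main _ hj)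

end Cfsg.Agent.Lib.Helper95ZTInstZT
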