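import Mathlib
import Cfsg.Agent.Lib.Helper61ZTDefs
import Cfsg.Agent.Lib.Helper61HigDefs
import Cfsg.Agent.Lib.Helper61HigMain
import Cfsg.Agent.Lib.Helper61Feit13
import Cfsg.Agent.Lib.Helper70ZTCardG
import Cfsg.Agent.Lib.Helper70ZTGram
import Cfsg.Agent.Lib.Helper70ZTFs
import Cfsg.Agent.Lib.Helper70ZTRgen
import Cfsg.Agent.Lib.Helper3ZTNu
import Cfsg.Agent.Lib.Helper73ZTLcount
import Cfsg.Agent.Lib.Helper73ZTChi0
import Cfsg.Agent.Lib.Helper32ZTEdvd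
import Cfsg.Agent.Lib.Helper32ZTBeven
import Cfsg.Agent.Lib.Helper66ZTARITH2
import Cfsg.Agent.Lib.Helper66ZTCOH
import Cfsg.Agent.Lib.Helper36ZTD1
import Cfsg.Agent.Lib.Helper53ZTMain2
import Cfsg.Agent.Lib.Helper53ZTMain3
import Cfsg.Agent.Lib.Helper28ZTInstH
import Cfsg.Agent.Lib.Helper95ZTInstZT
import Cfsg.Agent.Lib.Helper6ZTCore
import Cfsg.Prelude.Def_LieExceptional
import Cfsg.Prelude.Def_Exceptional
import Cfsg.Prelude.Def_LieRecognition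

/-!
PROJECT 61, PART C : hub (assembly of the pieces): `main2`, `main3`, `instZT`, `core` in the exact form of
the skeleton.
-/

set_option autoImplicit false

namespace Cfsg.Agent.Lib.Helper6ZTMain

open Cfsg Cfsg.Agent.Lib.Helper4Char Cfsg.Agent.Lib.Helper4Char2 Cfsg.Agent.Lib.Helper4Char4
  Cfsg.Agent.Lib.Helper61Feit7 Cfsg.Agent.Lib.Helper61Feit8 Cfsg.Agent.Lib.Helper61ZTDefs
open scoped ComplexConjugate Classical

section Chars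

variable {G : Type*} [Group G] [Fintype G] {K Z : Subgroup G}
  [Fintype ↥(Subgroup.normalizer (K : Set G))] {q h : ℕ}

theorem main2 (hz : ZT K Z q (q ^ 2)) : ∃ r : ℕ, r ^ 2 = 2 * q :=
  Cfsg.Agent.Lib.Helper53ZTMain2.main2 hz
    (fun α β hα hβ hα0 hβ0 => Cfsg.Agent.Lib.Helper70ZTGram.gram hz α β hα hβ hα0 hβ0)
    (Cfsg.Agent.Lib.Helper70ZTCardG.cardG hz) (Cfsg.Agent.Lib.Helper70ZTCardG.cardL hz)
    (fun r hr χ => Cfsg.Agent.Lib.Helper3ZTNu.nu hz r hr χ)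
    (fun χ => Cfsg.Agent.Lib.Helper70ZTFs.fs χ)
    (Cfsg.Agent.Lib.Helper73ZTLcount.lcount hz
      (fun α β hα hβ hα0 hβ0 => Cfsg.Agent.Lib.Helper70ZTGram.gram hz α β hα hβ hα0 hβ0))
    (Cfsg.Agent.Lib.Helper32ZTBeven.psi_irr hz)
    (fun χ => Cfsg.Agent.Lib.Helper32ZTBeven.B_even hz χ)
    (fun x₁ m B l deg hm1 hm hmm hBB hmB hl hl1 hdeg hdvd hB =>
      Cfsg.Agent.Lib.Helper66ZTARITH2.ARITH2 q hz.hq hz.hq2 x₁ m B l deg hm1 hm hmm hBB hmB hl hl1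
        hdeg hdvd hB)

theorem D1 (hz : ZT K Z q (q ^ 3)) :
    ∃ I : Finset (IrrCharacter ↥(Subgroup.normalizer (K : Set G))), I.card = q + 1 ∧ I ⊆ SF (KN K) ∧
      (∀ ψ ∈ I, (ψ : ↥(Subgroup.normalizer (K : Set G)) → ℂ) 1 = (q : ℂ) - 1) ∧
      (∀ ψ ∈ I, ∀ x, conj ((ψ : ↥(Subgroup.normalizer (K : Set G)) → ℂ) x)
        = (ψ : ↥(Subgroup.normalizer (K : Set G)) → ℂ) x) ∧
      ∑ ψ ∈ I, (ψ : ↥(Subgroup.normalizer (K : Set G)) → ℂ) = ((q : ℂ) ^ 2) • dZ K Z - dK K :=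
  Cfsg.Agent.Lib.Helper36ZTD1.D1_of hz (Cfsg.Agent.Lib.Helper70ZTRgen.Rgen hz)
    (fun ψ hψ => by
      obtain ⟨d, hd, -⟩ := Cfsg.Agent.Lib.Helper32ZTEdvd.edvd hz hψ
      exact ⟨d, hd⟩)

theorem chi0 (hz : ZT K Z q (q ^ 3)) :
    ∃ (ψ : IrrCharacter ↥(Subgroup.normalizer (K : Set G))) (χ : IrrCharacter G), ψ ∈ SF (KN K) ∧
      (ψ : ↥(Subgroup.normalizer (K : Set G)) → ℂ) 1 = (q : ℂ) - 1 ∧
      classInner (rs K χ) ψ = 1 ∧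
      classInner (rs K χ) (((q : ℂ) ^ 2) • dZ K Z - dK K) = 1 ∧
      classInner (rs K χ) (dK K) = 0 ∧
      (∀ g : G, conj ((χ : G → ℂ) g) = (χ : G → ℂ) g) :=
  Cfsg.Agent.Lib.Helper73ZTChi0.chi0 hz
    (fun α β hα hβ hα0 hβ0 => Cfsg.Agent.Lib.Helper70ZTGram.gram hz α β hα hβ hα0 hβ0)
    (D1 hz)
    (fun I hq hI a l deg Dg hgram hdeg0 hdeg hl hl1 hl2 i₀ =>
      Cfsg.Agent.Lib.Helper66ZTCOH.COH q hq hI a l deg Dg hgram hdeg0 hdeg hl hl1 hl2 i₀)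

theorem main3 (hz : ZT K Z q (q ^ 3)) : False :=
  Cfsg.Agent.Lib.Helper53ZTMain3.main3 hz (chi0 hz)
    (fun r hr χ => Cfsg.Agent.Lib.Helper3ZTNu.nu hz r hr χ)
    (fun χ => Cfsg.Agent.Lib.Helper70ZTFs.fs χ)
    (Cfsg.Agent.Lib.Helper70ZTCardG.cardG hz) (Cfsg.Agent.Lib.Helper70ZTCardG.cardL hz)

end Chars

section Inst

open Cfsg.Agent.Lib.Helper61HigDefs Cfsg.Agent.Lib.Helper61Feit

theorem instZT {G Ω : Type*} [Group G] [Fintype G] [MulAction G Ω] [Finite Ω]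
    (hZ : Cfsg.IsZassenhausGroup G Ω) [IsSimpleGroup G]
    (x y : Ω) (hxy : x ≠ y) (U : Subgroup G) (hUle : U ≤ MulAction.stabilizer G x)
    (hUn : (U.subgroupOf (MulAction.stabilizer G x)).Normal)
    (hU2 : IsPGroup 2 U) (hUna : ∃ u v : U, u * v ≠ v * u)
    (hreg : ∀ y z : Ω, y ≠ x → z ≠ x → ∃! u : U, (u : G) • y = z) :
    ∃ (Z : Subgroup G) (q : ℕ), Nat.card (stab2 G x y) = q - 1 ∧
      (ZT U Z q (q ^ 2) ∨ ZT U Z q (q ^ 3)) :=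
  Cfsg.Agent.Lib.Helper95ZTInstZT.instZT hZ x y hxy U hUle hUn hU2 hUna hreg
    (Cfsg.Agent.Lib.Helper28ZTInstH.instH hZ x y hxy U hUle hUn hU2 hUna hreg)
    (fun _ hHS hna => Cfsg.Agent.Lib.Helper61HigMain.HC hHS hna)

theorem core {G Ω : Type*} [Group G] [Finite G] [MulAction G Ω] [Finite Ω]
    (hZ : Cfsg.IsZassenhausGroup G Ω) [IsSimpleGroup G]
    (x y : Ω) (hxy : x ≠ y) (U : Subgroup G) (hUle : U ≤ MulAction.stabilizer G x)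
    (hUn : (U.subgroupOf (MulAction.stabilizer G x)).Normal)
    (hU2 : IsPGroup 2 U) (hUna : ∃ u v : U, u * v ≠ v * u)
    (hreg : ∀ y z : Ω, y ≠ x → z ≠ x → ∃! u : U, (u : G) • y = z) :
    ∃ m : ℕ, 1 ≤ m ∧ Nat.card U = (2 ^ (2 * m + 1)) ^ 2 ∧ Nat.card (stab2 G x y) = 2 ^ (2 * m + 1) - 1 ∧
      Nat.card G = (2 ^ (2 * m + 1)) ^ 2 * ((2 ^ (2 * m + 1)) ^ 2 + 1) * (2 ^ (2 * m + 1) - 1) := by
  apply Cfsg.Agent.Lib.Helper6ZTCore.core x y U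
  · let i : Fintype G := Fintype.ofFinite G
    obtain ⟨Z, q, h1, h2 | h2⟩ := instZT hZ x y hxy U hUle hUn hU2 hUna hreg
    · exact ⟨Z, q, h1, Or.inl ⟨i, h2⟩⟩
    · exact ⟨Z, q, h1, Or.inr ⟨i, h2⟩⟩
  · intro i Z q hz
    have : Fintype ↥(Subgroup.normalizer (U : Set G)) := Fintype.ofFinite _
    exact main2 hz
  · intro i Z q hz
    have : Fintype ↥(Subgroup.normalizer (U : Set G)) := Fintype.ofFinite _
    exact main3 hz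
  · intro i Z q h hz
    exact Cfsg.Agent.Lib.Helper70ZTCardG.cardG hz

end Inst

end Cfsg.Agent.Lib.Helper6ZTMain
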