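import Mathlib
import Cfsg.Agent.Lib.Helper61SzDegData2
import Cfsg.Agent.Lib.Helper81ClassMul

/-!
PROJECT 61, PART E (row S2457 : squares of classes in the Suzuki groups), vocabulary.

`q = 2 d ^ 2`, `r = 2 d`, `e = q - 1`, `n₁ = q + r + 1`, `n₂ = q - r + 1`.
The irreducible characters of `Sz(q)` : `1`, `St` (degree `q²`), `W₁ W₂` (degree `e d`), the families `T` (degree `q² + 1`),
`P` (degree `e n₁`), `M` (degree `e n₂`).  `Tab` = degrees and sizes of the families; `ColS ColR ColH ColA1 ColA2` = what is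
known of the column of an involution, an element of order 4, an element of order dividing `q - 1`, `n₁`, `n₂`.
-/

set_option autoImplicit false

namespace Cfsg.Agent.Lib.Helper61SzCovDefs

open Cfsg Cfsg.Agent.Lib.Helper81ClassMul Cfsg.Agent.Lib.Helper81Base
open scoped ComplexConjugate Classical

/-- the principal character -/
noncomputable abbrev one₁ (G : Type*) [Group G] [Fintype G] : IrrCharacter G :=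
  Cfsg.Agent.Lib.Helper61SzDegData2.one₁ G

/-- names for the irreducible characters -/
structure Fam (G : Type*) [Group G] where
  St : IrrCharacter G
  W₁ : IrrCharacter G
  W₂ : IrrCharacter G
  T : Finset (IrrCharacter G)
  P : Finset (IrrCharacter G)
  M : Finset (IrrCharacter G)

variable {G : Type*} [Group G] [Fintype G]

/-- degrees and sizes of the families -/
structure Tab (d : ℕ) (F : Fam G) : Prop where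
  hd : 2 ≤ d
  split : ∀ f : IrrCharacter G → ℂ, ∑ χ, f χ = f (one₁ G) + f F.St + f F.W₁ + f F.W₂
      + ∑ χ ∈ F.T, f χ + ∑ χ ∈ F.P, f χ + ∑ χ ∈ F.M, f χ
  mem : ∀ χ : IrrCharacter G, χ = one₁ G ∨ χ = F.St ∨ χ = F.W₁ ∨ χ = F.W₂ ∨ χ ∈ F.T ∨ χ ∈ F.P ∨ χ ∈ F.M
  ne : F.W₁ ≠ F.W₂
  dSt : (F.St : G → ℂ) 1 = (2 * (d : ℂ) ^ 2) ^ 2
  dW₁ : (F.W₁ : G → ℂ) 1 = (2 * (d : ℂ) ^ 2 - 1) * d
  dW₂ : (F.W₂ : G → ℂ) 1 = (2 * (d : ℂ) ^ 2 - 1) * d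
  dT : ∀ χ ∈ F.T, (χ : G → ℂ) 1 = (2 * (d : ℂ) ^ 2) ^ 2 + 1
  dP : ∀ χ ∈ F.P, (χ : G → ℂ) 1 = (2 * (d : ℂ) ^ 2 - 1) * (2 * (d : ℂ) ^ 2 + 2 * d + 1)
  dM : ∀ χ ∈ F.M, (χ : G → ℂ) 1 = (2 * (d : ℂ) ^ 2 - 1) * (2 * (d : ℂ) ^ 2 - 2 * d + 1)
  cT : (F.T.card : ℂ) = (d : ℂ) ^ 2 - 1
  cP : 2 * (F.P.card : ℂ) = (d : ℂ) ^ 2 - d
  cM : 2 * (F.M.card : ℂ) = (d : ℂ) ^ 2 + d

/-- column of an involution -/
structure ColS (d : ℕ) (F : Fam G) (g : G) : Prop where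
  St : (F.St : G → ℂ) g = 0
  W₁ : (F.W₁ : G → ℂ) g = -(d : ℂ)
  W₂ : (F.W₂ : G → ℂ) g = -(d : ℂ)
  T : ∀ χ ∈ F.T, (χ : G → ℂ) g = 1
  P : ∀ χ ∈ F.P, (χ : G → ℂ) g = -(2 * (d : ℂ) + 1)
  M : ∀ χ ∈ F.M, (χ : G → ℂ) g = 2 * (d : ℂ) - 1

/-- column of an element of order 4 -/
structure ColR (d : ℕ) (F : Fam G) (g : G) : Prop where
  St : (F.St : G → ℂ) g = 0
  W₁ : ((F.W₁ : G → ℂ) g) ^ 2 = -(d : ℂ) ^ 2
  W₂ : (F.W₂ : G → ℂ) g = -(F.W₁ : G → ℂ) g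
  T : ∀ χ ∈ F.T, (χ : G → ℂ) g = 1
  P : ∀ χ ∈ F.P, (χ : G → ℂ) g = -1
  M : ∀ χ ∈ F.M, (χ : G → ℂ) g = -1

/-- column of an element with centraliser of order `q - 1` -/
structure ColH (d : ℕ) (F : Fam G) (g : G) : Prop where
  W₁ : (F.W₁ : G → ℂ) g = 0
  W₂ : (F.W₂ : G → ℂ) g = 0
  P : ∀ χ ∈ F.P, (χ : G → ℂ) g = 0
  M : ∀ χ ∈ F.M, (χ : G → ℂ) g = 0
  norm : ∑ χ : IrrCharacter G, (χ : G → ℂ) g * conj ((χ : G → ℂ) g) = 2 * (d : ℂ) ^ 2 - 1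

/-- column of an element with centraliser of order `n₁ = q + r + 1` -/
structure ColA1 (d : ℕ) (F : Fam G) (g : G) : Prop where
  St : (F.St : G → ℂ) g = -1
  W₁ : (F.W₁ : G → ℂ) g = 1
  W₂ : (F.W₂ : G → ℂ) g = 1
  T : ∀ χ ∈ F.T, (χ : G → ℂ) g = 0
  P : ∀ χ ∈ F.P, (χ : G → ℂ) g = 0
  real : ∀ χ ∈ F.M, conj ((χ : G → ℂ) g) = (χ : G → ℂ) g
  sum : ∑ χ ∈ F.M, (χ : G → ℂ) g = 1
  norm : ∑ χ ∈ F.M, ((χ : G → ℂ) g) ^ 2 = 2 * (d : ℂ) ^ 2 + 2 * d - 3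

/-- column of an element with centraliser of order `n₂ = q - r + 1` -/
structure ColA2 (d : ℕ) (F : Fam G) (g : G) : Prop where
  St : (F.St : G → ℂ) g = -1
  W₁ : (F.W₁ : G → ℂ) g = -1
  W₂ : (F.W₂ : G → ℂ) g = -1
  T : ∀ χ ∈ F.T, (χ : G → ℂ) g = 0
  M : ∀ χ ∈ F.M, (χ : G → ℂ) g = 0
  real : ∀ χ ∈ F.P, conj ((χ : G → ℂ) g) = (χ : G → ℂ) g
  sum : ∑ χ ∈ F.P, (χ : G → ℂ) g = 1
  norm : ∑ χ ∈ F.P, ((χ : G → ℂ) g) ^ 2 = 2 * (d : ℂ) ^ 2 - 2 * d - 3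

/-- the elements of order 4 of `K` -/
noncomputable def KZ (K Z : Subgroup G) : Finset G := Finset.univ.filter (fun u : G => u ∈ K ∧ u ∉ Z)

/-- sums of the characters over the elements of order 4 of `K` -/
structure Avg (K Z : Subgroup G) (d : ℕ) (F : Fam G) : Prop where
  St : ∑ u ∈ KZ K Z, (F.St : G → ℂ) u = 0
  W₁ : ∑ u ∈ KZ K Z, (F.W₁ : G → ℂ) u = 0
  W₂ : ∑ u ∈ KZ K Z, (F.W₂ : G → ℂ) u = 0
  T : ∀ χ ∈ F.T, ∑ u ∈ KZ K Z, (χ : G → ℂ) u = 2 * (d : ℂ) ^ 2 * (2 * (d : ℂ) ^ 2 - 1)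
  P : ∀ χ ∈ F.P, ∑ u ∈ KZ K Z, (χ : G → ℂ) u = -(2 * (d : ℂ) ^ 2 * (2 * (d : ℂ) ^ 2 - 1))
  M : ∀ χ ∈ F.M, ∑ u ∈ KZ K Z, (χ : G → ℂ) u = -(2 * (d : ℂ) ^ 2 * (2 * (d : ℂ) ^ 2 - 1))

theorem one₁_apply (g : G) : ((one₁ G : IrrCharacter G) : G → ℂ) g = 1 := rfl

/-- the class multiplication function, split along the families -/
theorem theta_split {d : ℕ} {F : Fam G} (tab : Tab d F) (x g : G) :
    theta x x g = 1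
      + ((F.St : G → ℂ) x) ^ 2 * conj ((F.St : G → ℂ) g) / (2 * (d : ℂ) ^ 2) ^ 2
      + ((F.W₁ : G → ℂ) x) ^ 2 * conj ((F.W₁ : G → ℂ) g) / ((2 * (d : ℂ) ^ 2 - 1) * d)
      + ((F.W₂ : G → ℂ) x) ^ 2 * conj ((F.W₂ : G → ℂ) g) / ((2 * (d : ℂ) ^ 2 - 1) * d)
      + (∑ χ ∈ F.T, ((χ : G → ℂ) x) ^ 2 * conj ((χ : G → ℂ) g)) / ((2 * (d : ℂ) ^ 2) ^ 2 + 1)
      + (∑ χ ∈ F.P, ((χ : G → ℂ) x) ^ 2 * conj ((χ : G → ℂ) g))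
          / ((2 * (d : ℂ) ^ 2 - 1) * (2 * (d : ℂ) ^ 2 + 2 * d + 1))
      + (∑ χ ∈ F.M, ((χ : G → ℂ) x) ^ 2 * conj ((χ : G → ℂ) g))
          / ((2 * (d : ℂ) ^ 2 - 1) * (2 * (d : ℂ) ^ 2 - 2 * d + 1)) := by
  unfold theta
  rw [tab.split, tab.dSt, tab.dW₁, tab.dW₂, Finset.sum_div, Finset.sum_div, Finset.sum_div]
  have hT : ∑ χ ∈ F.T, (χ : G → ℂ) x * (χ : G → ℂ) x * conj ((χ : G → ℂ) g) / (χ : G → ℂ) 1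
      = ∑ χ ∈ F.T, ((χ : G → ℂ) x) ^ 2 * conj ((χ : G → ℂ) g) / ((2 * (d : ℂ) ^ 2) ^ 2 + 1) :=
    Finset.sum_congr rfl (fun χ hχ => by rw [tab.dT χ hχ, sq ((χ : G → ℂ) x)])
  have hP : ∑ χ ∈ F.P, (χ : G → ℂ) x * (χ : G → ℂ) x * conj ((χ : G → ℂ) g) / (χ : G → ℂ) 1
      = ∑ χ ∈ F.P, ((χ : G → ℂ) x) ^ 2 * conj ((χ : G → ℂ) g)
          / ((2 * (d : ℂ) ^ 2 - 1) * (2 * (d : ℂ) ^ 2 + 2 * d + 1)) :=
    Finset.sum_congr rfl (fun χ hχ => by rw [tab.dP χ hχ, sq ((χ : G → ℂ) x)])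
  have hM : ∑ χ ∈ F.M, (χ : G → ℂ) x * (χ : G → ℂ) x * conj ((χ : G → ℂ) g) / (χ : G → ℂ) 1
      = ∑ χ ∈ F.M, ((χ : G → ℂ) x) ^ 2 * conj ((χ : G → ℂ) g)
          / ((2 * (d : ℂ) ^ 2 - 1) * (2 * (d : ℂ) ^ 2 - 2 * d + 1)) :=
    Finset.sum_congr rfl (fun χ hχ => by rw [tab.dM χ hχ, sq ((χ : G → ℂ) x)])
  rw [hT, hP, hM]
  simp only [one₁_apply, map_one, mul_one, div_one, sq]

theorem ColS.conj {d : ℕ} {F : Fam G} {g : G} (c : G) (h : ColS d F (c * g * c⁻¹)) : ColS d F g := by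
  obtain ⟨h1, h2, h3, h4, h5, h6⟩ := h
  simp only [irr_conj] at h1 h2 h3 h4 h5 h6
  exact ⟨h1, h2, h3, h4, h5, h6⟩

theorem ColR.conj {d : ℕ} {F : Fam G} {g : G} (c : G) (h : ColR d F (c * g * c⁻¹)) : ColR d F g := by
  obtain ⟨h1, h2, h3, h4, h5, h6⟩ := h
  simp only [irr_conj] at h1 h2 h3 h4 h5 h6
  exact ⟨h1, h2, h3, h4, h5, h6⟩

end Cfsg.Agent.Lib.Helper61SzCovDefs
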