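import Mathlib
import Cfsg.Agent.Lib.Helper61SzCovDefs

/-!
PROJECT 61, PART E (row S2457): pieces `caseA1A1`, `caseA2A2`.
-/

set_option autoImplicit false

namespace Cfsg.Agent.Lib.Helper2SzCovCaseAA

open Cfsg Cfsg.Agent.Lib.Helper81ClassMul Cfsg.Agent.Lib.Helper81Base
  Cfsg.Agent.Lib.Helper61SzCovDefs
open scoped ComplexConjugate Classical

theorem real_sum {ι : Type*} (s : Finset ι) (u v : ι → ℂ) (N c : ℝ)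
    (hu : ∀ i ∈ s, conj (u i) = u i) (hv : ∀ i ∈ s, conj (v i) = v i)
    (hun : ∑ i ∈ s, (u i) ^ 2 = (N : ℂ)) (hvn : ∑ i ∈ s, (v i) ^ 2 = (N : ℂ))
    (hc : 0 ≤ c) (hN : N ≤ c ^ 2) :
    ∃ R : ℝ, ∑ i ∈ s, (u i) ^ 2 * conj (v i) = (R : ℂ) ∧ -(c * N) ≤ R := by
  have hur : ∀ i ∈ s, ((u i).re : ℂ) = u i := fun i hi => Complex.conj_eq_iff_re.mp (hu i hi)
  have hvr : ∀ i ∈ s, ((v i).re : ℂ) = v i := fun i hi => Complex.conj_eq_iff_re.mp (hv i hi)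
  have hun' : ∑ i ∈ s, (u i).re ^ 2 = N := by
    apply Complex.ofReal_injective
    rw [← hun, Complex.ofReal_sum]
    refine Finset.sum_congr rfl fun i hi => ?_
    rw [Complex.ofReal_pow, hur i hi]
  have hvn' : ∑ i ∈ s, (v i).re ^ 2 = N := by
    apply Complex.ofReal_injective
    rw [← hvn, Complex.ofReal_sum]
    refine Finset.sum_congr rfl fun i hi => ?_
    rw [Complex.ofReal_pow, hvr i hi]
  refine ⟨∑ i ∈ s, (u i).re ^ 2 * (v i).re, ?_, ?_⟩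
  · rw [Complex.ofReal_sum]
    refine Finset.sum_congr rfl fun i hi => ?_
    rw [hv i hi, Complex.ofReal_mul, Complex.ofReal_pow, hur i hi, hvr i hi]
  · have hb : ∀ i ∈ s, -c ≤ (v i).re := by
      intro i hi
      have h1 : (v i).re ^ 2 ≤ ∑ j ∈ s, (v j).re ^ 2 :=
        Finset.single_le_sum (f := fun j => (v j).re ^ 2) (fun j _ => sq_nonneg _) hi
      rw [hvn'] at h1
      exact (abs_le_of_sq_le_sq' (h1.trans hN) hc).1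
    have h2 : ∑ i ∈ s, (u i).re ^ 2 * (-c) ≤ ∑ i ∈ s, (u i).re ^ 2 * (v i).re :=
      Finset.sum_le_sum fun i hi => mul_le_mul_of_nonneg_left (hb i hi) (sq_nonneg _)
    rw [← Finset.sum_mul, hun'] at h2
    linarith

theorem ineqA1 (D R : ℝ) (hD : 2 ≤ D) (hR : -((2 * D - 1) * (2 * D ^ 2 + 2 * D - 3)) ≤ R) :
    0 < 1 - 1 / (2 * D ^ 2) ^ 2 + 2 / ((2 * D ^ 2 - 1) * D)
      + R / ((2 * D ^ 2 - 1) * (2 * D ^ 2 - 2 * D + 1)) := by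
  have h1 : 0 < 2 * D ^ 2 - 1 := by nlinarith
  have h2 : 0 < 2 * D ^ 2 - 2 * D + 1 := by nlinarith
  have hA : 0 < (2 * D ^ 2 - 1) * (2 * D ^ 2 - 2 * D + 1) := mul_pos h1 h2
  have hD0 : 0 < D := by linarith
  have h1' := h1.ne'
  have h2' := h2.ne'
  have hD0' := hD0.ne'
  have h3 : 0 < 2 / ((2 * D ^ 2 - 1) * D) := by positivity
  have h4 : -((2 * D - 1) * (2 * D ^ 2 + 2 * D - 3)) / ((2 * D ^ 2 - 1) * (2 * D ^ 2 - 2 * D + 1))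
      ≤ R / ((2 * D ^ 2 - 1) * (2 * D ^ 2 - 2 * D + 1)) :=
    div_le_div_of_nonneg_right hR hA.le
  have h5 : 0 < 1 - 1 / (2 * D ^ 2) ^ 2
      + -((2 * D - 1) * (2 * D ^ 2 + 2 * D - 3)) / ((2 * D ^ 2 - 1) * (2 * D ^ 2 - 2 * D + 1)) := by
    have e : ∀ X B : ℝ, X ≠ 0 → 1 - 1 / (2 * D ^ 2) ^ 2 + -B / X
        = (4 * D ^ 4 * (X - B) - X) / (4 * D ^ 4 * X) := by
      intro X B hX
      field_simp
      ring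
    rw [e _ _ hA.ne']
    apply div_pos _ (by positivity)
    obtain ⟨t, ht, rfl⟩ : ∃ t : ℝ, 0 ≤ t ∧ D = t + 2 := ⟨D - 2, by linarith, by ring⟩
    ring_nf
    positivity
  linarith

theorem ineqA2 (D R : ℝ) (hD : 2 ≤ D) (hR : -((2 * D - 1) * (2 * D ^ 2 - 2 * D - 3)) ≤ R) :
    0 < 1 - 1 / (2 * D ^ 2) ^ 2 - 2 / ((2 * D ^ 2 - 1) * D)
      + R / ((2 * D ^ 2 - 1) * (2 * D ^ 2 + 2 * D + 1)) := by
  have h1 : 0 < 2 * D ^ 2 - 1 := by nlinarith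
  have h2 : 0 < 2 * D ^ 2 + 2 * D + 1 := by nlinarith
  have hA : 0 < (2 * D ^ 2 - 1) * (2 * D ^ 2 + 2 * D + 1) := mul_pos h1 h2
  have hD0 : 0 < D := by linarith
  have h1' := h1.ne'
  have h2' := h2.ne'
  have hD0' := hD0.ne'
  have h4 : -((2 * D - 1) * (2 * D ^ 2 - 2 * D - 3)) / ((2 * D ^ 2 - 1) * (2 * D ^ 2 + 2 * D + 1))
      ≤ R / ((2 * D ^ 2 - 1) * (2 * D ^ 2 + 2 * D + 1)) :=
    div_le_div_of_nonneg_right hR hA.le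
  have h5 : 0 < 1 - 1 / (2 * D ^ 2) ^ 2 - 2 / ((2 * D ^ 2 - 1) * D)
      + -((2 * D - 1) * (2 * D ^ 2 - 2 * D - 3)) / ((2 * D ^ 2 - 1) * (2 * D ^ 2 + 2 * D + 1)) := by
    have e : 1 - 1 / (2 * D ^ 2) ^ 2 - 2 / ((2 * D ^ 2 - 1) * D)
      + -((2 * D - 1) * (2 * D ^ 2 - 2 * D - 3)) / ((2 * D ^ 2 - 1) * (2 * D ^ 2 + 2 * D + 1))
      = (4 * D ^ 4 * ((2 * D ^ 2 - 1) * (2 * D ^ 2 + 2 * D + 1))
          - (2 * D ^ 2 - 1) * (2 * D ^ 2 + 2 * D + 1) - 8 * D ^ 3 * (2 * D ^ 2 + 2 * D + 1)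
          - 4 * D ^ 4 * ((2 * D - 1) * (2 * D ^ 2 - 2 * D - 3)))
        / (4 * D ^ 4 * ((2 * D ^ 2 - 1) * (2 * D ^ 2 + 2 * D + 1))) := by
      field_simp
      ring
    rw [e]
    apply div_pos _ (by positivity)
    obtain ⟨t, ht, rfl⟩ : ∃ t : ℝ, 0 ≤ t ∧ D = t + 2 := ⟨D - 2, by linarith, by ring⟩
    ring_nf
    positivity
  linarith

variable {G : Type*} [Group G] [Fintype G] {d : ℕ} {F : Fam G} {x g : G}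

theorem caseA1A1 (tab : Tab d F) (hx : ColA1 d F x) (hg : ColA1 d F g) : theta x x g ≠ 0 := by
  have hD : (2 : ℝ) ≤ (d : ℝ) := by exact_mod_cast tab.hd
  obtain ⟨R, hR, hRb⟩ := real_sum F.M (fun χ => (χ : G → ℂ) x) (fun χ => (χ : G → ℂ) g)
    (2 * (d : ℝ) ^ 2 + 2 * d - 3) (2 * (d : ℝ) - 1) hx.real hg.real
    (by rw [hx.norm]; push_cast; ring) (by rw [hg.norm]; push_cast; ring) (by linarith)
    (by nlinarith)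
  have hT0 : ∑ χ ∈ F.T, ((χ : G → ℂ) x) ^ 2 * conj ((χ : G → ℂ) g) = 0 :=
    Finset.sum_eq_zero fun χ hχ => by rw [hx.T χ hχ]; simp
  have hP0 : ∑ χ ∈ F.P, ((χ : G → ℂ) x) ^ 2 * conj ((χ : G → ℂ) g) = 0 :=
    Finset.sum_eq_zero fun χ hχ => by rw [hx.P χ hχ]; simp
  rw [theta_split tab, hx.St, hx.W₁, hx.W₂, hg.St, hg.W₁, hg.W₂, hT0, hP0, hR]
  have e : (1 : ℂ) + (-1) ^ 2 * conj (-1 : ℂ) / (2 * (d : ℂ) ^ 2) ^ 2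
      + 1 ^ 2 * conj (1 : ℂ) / ((2 * (d : ℂ) ^ 2 - 1) * d)
      + 1 ^ 2 * conj (1 : ℂ) / ((2 * (d : ℂ) ^ 2 - 1) * d)
      + 0 / ((2 * (d : ℂ) ^ 2) ^ 2 + 1)
      + 0 / ((2 * (d : ℂ) ^ 2 - 1) * (2 * (d : ℂ) ^ 2 + 2 * d + 1))
      + (R : ℂ) / ((2 * (d : ℂ) ^ 2 - 1) * (2 * (d : ℂ) ^ 2 - 2 * d + 1))
      = ((1 - 1 / (2 * (d : ℝ) ^ 2) ^ 2 + 2 / ((2 * (d : ℝ) ^ 2 - 1) * d)
      + R / ((2 * (d : ℝ) ^ 2 - 1) * (2 * (d : ℝ) ^ 2 - 2 * d + 1)) : ℝ) : ℂ) := by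
    push_cast
    simp only [map_neg, map_one]
    ring
  rw [e]
  exact_mod_cast (ineqA1 (d : ℝ) R hD hRb).ne'

theorem caseA2A2 (tab : Tab d F) (hx : ColA2 d F x) (hg : ColA2 d F g) : theta x x g ≠ 0 := by
  have hD : (2 : ℝ) ≤ (d : ℝ) := by exact_mod_cast tab.hd
  obtain ⟨R, hR, hRb⟩ := real_sum F.P (fun χ => (χ : G → ℂ) x) (fun χ => (χ : G → ℂ) g)
    (2 * (d : ℝ) ^ 2 - 2 * d - 3) (2 * (d : ℝ) - 1) hx.real hg.real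
    (by rw [hx.norm]; push_cast; ring) (by rw [hg.norm]; push_cast; ring) (by linarith)
    (by nlinarith)
  have hT0 : ∑ χ ∈ F.T, ((χ : G → ℂ) x) ^ 2 * conj ((χ : G → ℂ) g) = 0 :=
    Finset.sum_eq_zero fun χ hχ => by rw [hx.T χ hχ]; simp
  have hM0 : ∑ χ ∈ F.M, ((χ : G → ℂ) x) ^ 2 * conj ((χ : G → ℂ) g) = 0 :=
    Finset.sum_eq_zero fun χ hχ => by rw [hx.M χ hχ]; simp
  rw [theta_split tab, hx.St, hx.W₁, hx.W₂, hg.St, hg.W₁, hg.W₂, hT0, hM0, hR]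
  have e : (1 : ℂ) + (-1) ^ 2 * conj (-1 : ℂ) / (2 * (d : ℂ) ^ 2) ^ 2
      + (-1) ^ 2 * conj (-1 : ℂ) / ((2 * (d : ℂ) ^ 2 - 1) * d)
      + (-1) ^ 2 * conj (-1 : ℂ) / ((2 * (d : ℂ) ^ 2 - 1) * d)
      + 0 / ((2 * (d : ℂ) ^ 2) ^ 2 + 1)
      + (R : ℂ) / ((2 * (d : ℂ) ^ 2 - 1) * (2 * (d : ℂ) ^ 2 + 2 * d + 1))
      + 0 / ((2 * (d : ℂ) ^ 2 - 1) * (2 * (d : ℂ) ^ 2 - 2 * d + 1))
      = ((1 - 1 / (2 * (d : ℝ) ^ 2) ^ 2 - 2 / ((2 * (d : ℝ) ^ 2 - 1) * d)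
      + R / ((2 * (d : ℝ) ^ 2 - 1) * (2 * (d : ℝ) ^ 2 + 2 * d + 1)) : ℝ) : ℂ) := by
    push_cast
    simp only [map_neg, map_one]
    ring
  rw [e]
  exact_mod_cast (ineqA2 (d : ℝ) R hD hRb).ne'

end Cfsg.Agent.Lib.Helper2SzCovCaseAA
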