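import Mathlib
import Cfsg.Agent.Lib.Helper61SzCovDefs

/-!
PROJECT 61, PART E (row S2457): piece `colRpure`.
-/

set_option autoImplicit false

namespace Cfsg.Agent.Lib.Helper2SzCovColRpure

open Cfsg Cfsg.Agent.Lib.Helper81ClassMul Cfsg.Agent.Lib.Helper81Base
  Cfsg.Agent.Lib.Helper61SzCovDefs
open scoped ComplexConjugate Classical

theorem re_of_add_conj (z : ℂ) (c : ℝ) (h : z + conj z = 2 * (c : ℂ)) : z.re = c := by
  rw [Complex.add_conj] at h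
  have h1 : ((2 * z.re : ℝ) : ℂ) = ((2 * c : ℝ) : ℂ) := by
    rw [h]; push_cast; ring
  have h2 := Complex.ofReal_injective h1
  linarith

theorem sq_le_normSq (z : ℂ) (c : ℝ) (h : z + conj z = 2 * (c : ℂ)) :
    0 ≤ Complex.normSq z - c ^ 2 := by
  rw [Complex.normSq_apply, re_of_add_conj z c h]
  nlinarith [mul_self_nonneg z.im]

theorem eq_of_normSq (z : ℂ) (c : ℝ) (h : z + conj z = 2 * (c : ℂ))
    (hn : Complex.normSq z - c ^ 2 = 0) : z = (c : ℂ) := by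
  have hre := re_of_add_conj z c h
  rw [Complex.normSq_apply, hre] at hn
  have him : z.im = 0 := by
    have : z.im * z.im = 0 := by nlinarith
    exact mul_self_eq_zero.mp this
  apply Complex.ext
  · simpa using hre
  · simpa using him

variable {G : Type*} [Group G] [Fintype G] {d : ℕ}

theorem colRpure {F : Fam G} (tab : Tab d F) (ρ : G)
    (hn : ∑ χ : IrrCharacter G, (χ : G → ℂ) ρ * conj ((χ : G → ℂ) ρ) = 4 * (d : ℂ) ^ 2)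
    (ho : ∑ χ : IrrCharacter G, (χ : G → ℂ) ρ * conj ((χ : G → ℂ) 1) = 0)
    (hW₁ : (d : ℝ) ^ 2 ≤ ‖(F.W₁ : G → ℂ) ρ‖ ^ 2) (hW₂ : (d : ℝ) ^ 2 ≤ ‖(F.W₂ : G → ℂ) ρ‖ ^ 2)
    (rW₁ : (F.W₁ : G → ℂ) ρ + conj ((F.W₁ : G → ℂ) ρ) = 0)
    (rT : ∀ χ ∈ F.T, (χ : G → ℂ) ρ + conj ((χ : G → ℂ) ρ) = 2)
    (rP : ∀ χ ∈ F.P, (χ : G → ℂ) ρ + conj ((χ : G → ℂ) ρ) = -2)
    (rM : ∀ χ ∈ F.M, (χ : G → ℂ) ρ + conj ((χ : G → ℂ) ρ) = -2) : ColR d F ρ := by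
  have hD : (2 : ℝ) ≤ (d : ℝ) := by exact_mod_cast tab.hd
  have rT' : ∀ χ ∈ F.T, (χ : G → ℂ) ρ + conj ((χ : G → ℂ) ρ) = 2 * ((1 : ℝ) : ℂ) := by
    intro χ hχ; rw [rT χ hχ]; push_cast; ring
  have rP' : ∀ χ ∈ F.P, (χ : G → ℂ) ρ + conj ((χ : G → ℂ) ρ) = 2 * ((-1 : ℝ) : ℂ) := by
    intro χ hχ; rw [rP χ hχ]; push_cast; ring
  have rM' : ∀ χ ∈ F.M, (χ : G → ℂ) ρ + conj ((χ : G → ℂ) ρ) = 2 * ((-1 : ℝ) : ℂ) := by
    intro χ hχ; rw [rM χ hχ]; push_cast; ring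
  have cT : (F.T.card : ℝ) = (d : ℝ) ^ 2 - 1 := by exact_mod_cast tab.cT
  have cP : 2 * (F.P.card : ℝ) = (d : ℝ) ^ 2 - d := by exact_mod_cast tab.cP
  have cM : 2 * (F.M.card : ℝ) = (d : ℝ) ^ 2 + d := by exact_mod_cast tab.cM
  -- the real norm equation
  have hnR : 1 + Complex.normSq ((F.St : G → ℂ) ρ) + Complex.normSq ((F.W₁ : G → ℂ) ρ)
      + Complex.normSq ((F.W₂ : G → ℂ) ρ) + ∑ χ ∈ F.T, Complex.normSq ((χ : G → ℂ) ρ)
      + ∑ χ ∈ F.P, Complex.normSq ((χ : G → ℂ) ρ) + ∑ χ ∈ F.M, Complex.normSq ((χ : G → ℂ) ρ)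
      = 4 * (d : ℝ) ^ 2 := by
    have h1 := hn
    rw [tab.split] at h1
    simp only [Complex.mul_conj, one₁_apply, map_one, mul_one] at h1
    exact_mod_cast h1
  have eT : ∑ χ ∈ F.T, Complex.normSq ((χ : G → ℂ) ρ)
      = ∑ χ ∈ F.T, (Complex.normSq ((χ : G → ℂ) ρ) - (1 : ℝ) ^ 2) + F.T.card := by
    rw [Finset.sum_sub_distrib, Finset.sum_const, nsmul_eq_mul]; ring
  have eP : ∑ χ ∈ F.P, Complex.normSq ((χ : G → ℂ) ρ)
      = ∑ χ ∈ F.P, (Complex.normSq ((χ : G → ℂ) ρ) - (-1 : ℝ) ^ 2) + F.P.card := by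
    rw [Finset.sum_sub_distrib, Finset.sum_const, nsmul_eq_mul]; ring
  have eM : ∑ χ ∈ F.M, Complex.normSq ((χ : G → ℂ) ρ)
      = ∑ χ ∈ F.M, (Complex.normSq ((χ : G → ℂ) ρ) - (-1 : ℝ) ^ 2) + F.M.card := by
    rw [Finset.sum_sub_distrib, Finset.sum_const, nsmul_eq_mul]; ring
  have pT : 0 ≤ ∑ χ ∈ F.T, (Complex.normSq ((χ : G → ℂ) ρ) - (1 : ℝ) ^ 2) :=
    Finset.sum_nonneg fun χ hχ => sq_le_normSq _ _ (rT' χ hχ)
  have pP : 0 ≤ ∑ χ ∈ F.P, (Complex.normSq ((χ : G → ℂ) ρ) - (-1 : ℝ) ^ 2) :=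
    Finset.sum_nonneg fun χ hχ => sq_le_normSq _ _ (rP' χ hχ)
  have pM : 0 ≤ ∑ χ ∈ F.M, (Complex.normSq ((χ : G → ℂ) ρ) - (-1 : ℝ) ^ 2) :=
    Finset.sum_nonneg fun χ hχ => sq_le_normSq _ _ (rM' χ hχ)
  have pS : 0 ≤ Complex.normSq ((F.St : G → ℂ) ρ) := Complex.normSq_nonneg _
  rw [← Complex.normSq_eq_norm_sq] at hW₁ hW₂
  rw [eT, eP, eM] at hnR
  have zS : Complex.normSq ((F.St : G → ℂ) ρ) = 0 := by linarith
  have zW₁ : Complex.normSq ((F.W₁ : G → ℂ) ρ) = (d : ℝ) ^ 2 := by linarith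
  have zT : ∑ χ ∈ F.T, (Complex.normSq ((χ : G → ℂ) ρ) - (1 : ℝ) ^ 2) = 0 := by linarith
  have zP : ∑ χ ∈ F.P, (Complex.normSq ((χ : G → ℂ) ρ) - (-1 : ℝ) ^ 2) = 0 := by linarith
  have zM : ∑ χ ∈ F.M, (Complex.normSq ((χ : G → ℂ) ρ) - (-1 : ℝ) ^ 2) = 0 := by linarith
  have hSt : (F.St : G → ℂ) ρ = 0 := Complex.normSq_eq_zero.mp zS
  have hT : ∀ χ ∈ F.T, (χ : G → ℂ) ρ = 1 := by
    intro χ hχ
    have h1 := (Finset.sum_eq_zero_iff_of_nonneg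
      (fun χ hχ => sq_le_normSq _ _ (rT' χ hχ))).mp zT χ hχ
    have h2 := eq_of_normSq _ _ (rT' χ hχ) h1
    simpa using h2
  have hP : ∀ χ ∈ F.P, (χ : G → ℂ) ρ = -1 := by
    intro χ hχ
    have h1 := (Finset.sum_eq_zero_iff_of_nonneg
      (fun χ hχ => sq_le_normSq _ _ (rP' χ hχ))).mp zP χ hχ
    have h2 := eq_of_normSq _ _ (rP' χ hχ) h1
    simpa using h2
  have hM : ∀ χ ∈ F.M, (χ : G → ℂ) ρ = -1 := by
    intro χ hχ
    have h1 := (Finset.sum_eq_zero_iff_of_nonneg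
      (fun χ hχ => sq_le_normSq _ _ (rM' χ hχ))).mp zM χ hχ
    have h2 := eq_of_normSq _ _ (rM' χ hχ) h1
    simpa using h2
  refine ⟨hSt, ?_, ?_, hT, hP, hM⟩
  · have hre : ((F.W₁ : G → ℂ) ρ).re = 0 :=
      re_of_add_conj _ 0 (by rw [rW₁]; simp)
    rw [Complex.normSq_apply, hre] at zW₁
    apply Complex.ext
    · rw [sq, Complex.mul_re, hre]
      have : (-(d : ℂ) ^ 2).re = -(d : ℝ) ^ 2 := by
        rw [Complex.neg_re, ← Complex.ofReal_natCast, ← Complex.ofReal_pow, Complex.ofReal_re]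
      rw [this]
      linarith
    · rw [sq, Complex.mul_im, hre]
      have : (-(d : ℂ) ^ 2).im = 0 := by
        rw [Complex.neg_im, ← Complex.ofReal_natCast, ← Complex.ofReal_pow, Complex.ofReal_im,
          neg_zero]
      rw [this]
      ring
  · have h1 := ho
    rw [tab.split] at h1
    have sT : ∑ χ ∈ F.T, (χ : G → ℂ) ρ * conj ((χ : G → ℂ) 1)
        = F.T.card * ((2 * (d : ℂ) ^ 2) ^ 2 + 1) := by
      rw [Finset.sum_congr rfl (fun χ hχ => by rw [hT χ hχ, tab.dT χ hχ]), Finset.sum_const,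
        nsmul_eq_mul]
      simp [Complex.conj_ofNat]
    have sP : ∑ χ ∈ F.P, (χ : G → ℂ) ρ * conj ((χ : G → ℂ) 1)
        = F.P.card * (-((2 * (d : ℂ) ^ 2 - 1) * (2 * (d : ℂ) ^ 2 + 2 * d + 1))) := by
      rw [Finset.sum_congr rfl (fun χ hχ => by rw [hP χ hχ, tab.dP χ hχ]), Finset.sum_const,
        nsmul_eq_mul]
      simp [Complex.conj_ofNat]
    have sM : ∑ χ ∈ F.M, (χ : G → ℂ) ρ * conj ((χ : G → ℂ) 1)
        = F.M.card * (-((2 * (d : ℂ) ^ 2 - 1) * (2 * (d : ℂ) ^ 2 - 2 * d + 1))) := by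
      rw [Finset.sum_congr rfl (fun χ hχ => by rw [hM χ hχ, tab.dM χ hχ]), Finset.sum_const,
        nsmul_eq_mul]
      simp [Complex.conj_ofNat]
    rw [sT, sP, sM, hSt, tab.dW₁, tab.dW₂] at h1
    simp only [one₁_apply, map_one, map_mul, map_sub, map_pow, Complex.conj_natCast,
      Complex.conj_ofNat, zero_mul, mul_one, add_zero] at h1
    have hne : ((2 * (d : ℂ) ^ 2 - 1) * d) ≠ 0 := by
      have : ((2 * (d : ℝ) ^ 2 - 1) * d : ℝ) ≠ 0 := by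
        have h3 : 0 < 2 * (d : ℝ) ^ 2 - 1 := by nlinarith
        have h4 : 0 < (d : ℝ) := by linarith
        positivity
      exact_mod_cast this
    have h5 : ((F.W₁ : G → ℂ) ρ + (F.W₂ : G → ℂ) ρ) * ((2 * (d : ℂ) ^ 2 - 1) * d) = 0 := by
      linear_combination h1 - ((2 * (d : ℂ) ^ 2) ^ 2 + 1) * tab.cT
        + ((2 * (d : ℂ) ^ 2 - 1) * (2 * (d : ℂ) ^ 2 + 2 * d + 1)) / 2 * tab.cP
        + ((2 * (d : ℂ) ^ 2 - 1) * (2 * (d : ℂ) ^ 2 - 2 * d + 1)) / 2 * tab.cM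
    rcases mul_eq_zero.mp h5 with h6 | h6
    · linear_combination h6
    · exact absurd h6 hne

end Cfsg.Agent.Lib.Helper2SzCovColRpure
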