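import Mathlib
import Cfsg.Agent.Lib.Helper61SzCovDefs
import Cfsg.Agent.Lib.Helper70ZTCardG

/-!
PROJECT 61, PART E (row S2457): piece `orbits`.
-/

set_option autoImplicit false

namespace Cfsg.Agent.Lib.Helper2SzCovOrbits

open Cfsg Cfsg.Agent.Lib.Helper61ZTDefs Cfsg.Agent.Lib.Helper61SzCovDefs
open scoped ComplexConjugate Classical

variable {G : Type*} [Group G] [Fintype G]

/-- the `N`-class of `ρ` -/
noncomputable def cls (N : Subgroup G) (ρ : G) : Finset G :=
  Finset.univ.filter (fun u : G => ∃ n ∈ N, n * ρ * n⁻¹ = u)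

theorem card_cls (N : Subgroup G) (ρ : G) (hC : Subgroup.centralizer ({ρ} : Set G) ≤ N) :
    Nat.card (Subgroup.centralizer ({ρ} : Set G)) * (cls N ρ).card = Nat.card N := by
  let _ : MulAction ↥N G := MulAction.compHom G ((MulAut.conj : G →* MulAut G).comp N.subtype)
  have hsmul : ∀ (n : ↥N) (g : G), n • g = (n : G) * g * (n : G)⁻¹ := fun n g => rfl
  have h1 : (MulAction.stabilizer ↥N ρ) = (Subgroup.centralizer ({ρ} : Set G)).subgroupOf N := by
    ext n
    rw [MulAction.mem_stabilizer_iff, hsmul, Subgroup.mem_subgroupOf,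
      Subgroup.mem_centralizer_singleton_iff, mul_inv_eq_iff_eq_mul]
  have h2 : Nat.card (MulAction.stabilizer ↥N ρ) = Nat.card (Subgroup.centralizer ({ρ} : Set G)) := by
    rw [h1]
    exact Nat.card_congr (Subgroup.subgroupOfEquivOfLe hC).toEquiv
  have h3 : (MulAction.stabilizer ↥N ρ).index = (cls N ρ).card := by
    rw [MulAction.index_stabilizer, ← Set.ncard_coe_finset]
    congr 1
    ext u
    simp only [cls, Finset.coe_filter, Finset.mem_univ, true_and, Set.mem_ofPred_eq,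
      MulAction.mem_orbit_iff]
    constructor
    · rintro ⟨n, hn⟩
      exact ⟨n, n.2, hn⟩
    · rintro ⟨n, hn, hnu⟩
      exact ⟨⟨n, hn⟩, hnu⟩
  rw [← h2, ← h3]
  exact Subgroup.card_mul_index _

theorem card_filter_mem (H : Subgroup G) : (Finset.univ.filter (fun u : G => u ∈ H)).card = Nat.card H := by
  rw [Nat.card_eq_fintype_card, Fintype.card_subtype]

variable {K Z : Subgroup G} {q : ℕ}

theorem orbits (hz : ZT K Z q (q ^ 2))
    (hcent : ∀ u ∈ K, u ∉ Z → Nat.card (Subgroup.centralizer ({u} : Set G)) = 2 * q)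
    (hnr : ∀ u ∈ K, u ∉ Z → ¬ IsConj u u⁻¹)
    (f : G → ℂ) (hf : ∀ g h : G, f (h * g * h⁻¹) = f g) (ρ : G) (hρ : ρ ∈ K) (hρZ : ρ ∉ Z) :
    ∑ u ∈ KZ K Z, f u = (q : ℂ) * ((q : ℂ) - 1) / 2 * (f ρ + f ρ⁻¹) := by
  have hq0 : 0 < q := by have := hz.hq; omega
  have hZK : Z ≤ K := fun u hu => ((hz.hZ u).mp hu).1
  have hcardN := Cfsg.Agent.Lib.Helper70ZTCardG.cardL hz
  have key : ∀ r ∈ K, r ∉ Z → cls (Subgroup.normalizer (K : Set G)) r ⊆ KZ K Z ∧
      2 * (cls (Subgroup.normalizer (K : Set G)) r).card = q * (q - 1) := by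
    intro r hr hrZ
    have hr1 : r ≠ 1 := fun h => hrZ (h ▸ Z.one_mem)
    constructor
    · intro u hu
      simp only [cls, Finset.mem_filter, Finset.mem_univ, true_and] at hu
      obtain ⟨n, hn, rfl⟩ := hu
      simp only [KZ, Finset.mem_filter, Finset.mem_univ, true_and]
      refine ⟨(Subgroup.mem_normalizer_iff.mp hn r).mp hr, fun hZ' => hrZ ?_⟩
      rw [hz.hZ]
      refine ⟨hr, ?_⟩
      have h1 := ((hz.hZ _).mp hZ').2
      have h2 : n * (r * r) * n⁻¹ = 1 := by
        rw [← h1]; group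
      have h3 : r * r = n⁻¹ * (n * (r * r) * n⁻¹) * n := by group
      rw [h3, h2]; group
    · have h1 := card_cls (Subgroup.normalizer (K : Set G)) r
        ((hz.hC r hr hr1).trans Subgroup.le_normalizer)
      rw [hcent r hr hrZ, hcardN] at h1
      have h2 : q * (2 * (cls (Subgroup.normalizer (K : Set G)) r).card) = q * (q * (q - 1)) := by
        rw [← mul_assoc q q, ← sq, ← h1]; ring
      exact Nat.eq_of_mul_eq_mul_left hq0 h2
  have hρi : ρ⁻¹ ∈ K := K.inv_mem hρ
  have hρiZ : ρ⁻¹ ∉ Z := fun h => hρZ (by simpa using Z.inv_mem h)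
  obtain ⟨s1, c1⟩ := key ρ hρ hρZ
  obtain ⟨s2, c2⟩ := key ρ⁻¹ hρi hρiZ
  have hdisj : Disjoint (cls (Subgroup.normalizer (K : Set G)) ρ)
      (cls (Subgroup.normalizer (K : Set G)) ρ⁻¹) := by
    rw [Finset.disjoint_left]
    intro u hu hu'
    simp only [cls, Finset.mem_filter, Finset.mem_univ, true_and] at hu hu'
    obtain ⟨n, -, hn⟩ := hu
    obtain ⟨m, -, hm⟩ := hu'
    apply hnr ρ hρ hρZ
    rw [isConj_iff]
    refine ⟨m⁻¹ * n, ?_⟩
    have : (m⁻¹ * n) * ρ * (m⁻¹ * n)⁻¹ = m⁻¹ * (n * ρ * n⁻¹) * m := by group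
    rw [this, hn, ← hm]; group
  have hKZcard : (KZ K Z).card = q ^ 2 - q := by
    have e : KZ K Z = (Finset.univ.filter (fun u : G => u ∈ K)) \
        (Finset.univ.filter (fun u : G => u ∈ Z)) := by
      ext u
      simp [KZ]
    rw [e, Finset.card_sdiff_of_subset, card_filter_mem, card_filter_mem, hz.hK, hz.cardZ]
    intro u hu
    simp only [Finset.mem_filter, Finset.mem_univ, true_and] at hu ⊢
    exact hZK hu
  have hunion : (cls (Subgroup.normalizer (K : Set G)) ρ) ∪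
      (cls (Subgroup.normalizer (K : Set G)) ρ⁻¹) = KZ K Z := by
    apply Finset.eq_of_subset_of_card_le (Finset.union_subset s1 s2)
    rw [Finset.card_union_of_disjoint hdisj, hKZcard]
    have : q ^ 2 - q = q * (q - 1) := by
      rw [Nat.mul_sub, mul_one, sq]
    omega
  have hconst : ∀ r : G, ∑ u ∈ cls (Subgroup.normalizer (K : Set G)) r, f u
      = ((cls (Subgroup.normalizer (K : Set G)) r).card : ℂ) * f r := by
    intro r
    rw [Finset.sum_congr rfl (g := fun _ => f r), Finset.sum_const, nsmul_eq_mul]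
    intro u hu
    simp only [cls, Finset.mem_filter, Finset.mem_univ, true_and] at hu
    obtain ⟨n, -, rfl⟩ := hu
    exact hf r n
  have cc : ∀ r : G, 2 * (cls (Subgroup.normalizer (K : Set G)) r).card = q * (q - 1) →
      ((cls (Subgroup.normalizer (K : Set G)) r).card : ℂ) = (q : ℂ) * ((q : ℂ) - 1) / 2 := by
    intro r hr
    have h1 : (2 : ℂ) * ((cls (Subgroup.normalizer (K : Set G)) r).card : ℂ)
        = (q : ℂ) * ((q : ℂ) - 1) := by
      have := congrArg (fun t : ℕ => (t : ℂ)) hr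
      simp only [Nat.cast_mul, Nat.cast_ofNat] at this
      rw [this, Nat.cast_sub hq0, Nat.cast_one]
    rw [← h1]; ring
  rw [← hunion, Finset.sum_union hdisj, hconst, hconst, cc ρ c1, cc ρ⁻¹ c2]
  ring

end Cfsg.Agent.Lib.Helper2SzCovOrbits
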