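import Mathlib
import Cfsg.Agent.Lib.Helper61SzCovDefs
import Cfsg.Agent.Lib.Helper81BB
import Cfsg.Agent.Lib.Helper2SzCovOrbits
import Cfsg.Agent.Lib.Helper2SzCovColRpure

/-!
PROJECT 61, PART E (row S2457): pieces `reRho` and `colR`
(`colR` takes the statements of the pieces `Wnorm`, `offK`, `vanH` as extra hypotheses at the end).
-/

set_option autoImplicit false

namespace Cfsg.Agent.Lib.Helper2SzCovColR

open Cfsg Cfsg.Agent.Lib.Helper61ZTDefs Cfsg.Agent.Lib.Helper61SzCovDefs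
  Cfsg.Agent.Lib.Helper81ClassMul Cfsg.Agent.Lib.Helper81Base Cfsg.Agent.Lib.Helper81BB
  Cfsg.Agent.Lib.Helper2SzCovOrbits Cfsg.Agent.Lib.Helper2SzCovColRpure
open scoped ComplexConjugate Classical

variable {G : Type*} [Group G] [Fintype G] {K Z : Subgroup G} {q d : ℕ}

theorem reRho (hz : ZT K Z q (q ^ 2))
    (hcent : ∀ u ∈ K, u ∉ Z → Nat.card (Subgroup.centralizer ({u} : Set G)) = 2 * q)
    (hnr : ∀ u ∈ K, u ∉ Z → ¬ IsConj u u⁻¹) (hd : 2 * d ^ 2 = q) (χ : IrrCharacter G) (c : ℂ)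
    (hc : ∑ u ∈ KZ K Z, (χ : G → ℂ) u = c * (2 * (d : ℂ) ^ 2 * (2 * (d : ℂ) ^ 2 - 1)))
    (ρ : G) (hρ : ρ ∈ K) (hρZ : ρ ∉ Z) :
    (χ : G → ℂ) ρ + conj ((χ : G → ℂ) ρ) = 2 * c := by
  have h1 := orbits hz hcent hnr (fun g => (χ : G → ℂ) g) (fun g h => irr_conj χ g h) ρ hρ hρZ
  rw [hc, irr_inv] at h1
  have hq : (q : ℂ) = 2 * (d : ℂ) ^ 2 := by
    rw [← hd]; push_cast; ring
  rw [hq] at h1
  have hqR : (4 : ℝ) ≤ 2 * (d : ℝ) ^ 2 := by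
    have := hz.hq
    rw [← hd] at this
    exact_mod_cast this
  have hne : (2 * (d : ℂ) ^ 2 * (2 * (d : ℂ) ^ 2 - 1)) ≠ 0 := by
    have : (2 * (d : ℝ) ^ 2 * (2 * (d : ℝ) ^ 2 - 1) : ℝ) ≠ 0 := by
      have h3 : 0 < 2 * (d : ℝ) ^ 2 := by linarith
      have h4 : 0 < 2 * (d : ℝ) ^ 2 - 1 := by linarith
      positivity
    exact_mod_cast this
  apply mul_left_cancel₀ hne
  linear_combination (-2 : ℂ) * h1

theorem colR (hz : ZT K Z q (q ^ 2))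
    (hcent : ∀ u ∈ K, u ∉ Z → Nat.card (Subgroup.centralizer ({u} : Set G)) = 2 * q)
    (hnr : ∀ u ∈ K, u ∉ Z → ¬ IsConj u u⁻¹) (hd : 2 * d ^ 2 = q) {F : Fam G} (tab : Tab d F)
    (hS : ∀ σ ∈ Z, σ ≠ 1 → ColS d F σ) (avg : Avg K Z d F) (ρ : G) (hρ : ρ ∈ K) (hρZ : ρ ∉ Z)
    (hWnorm : ∀ W : IrrCharacter G, (W : G → ℂ) 1 = (2 * (d : ℂ) ^ 2 - 1) * d →
      (∀ σ ∈ Z, σ ≠ 1 → (W : G → ℂ) σ = -(d : ℂ)) →
      (∀ x ∈ Subgroup.normalizer (K : Set G), x ∉ K → (W : G → ℂ) x = 0) →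
      ∀ ρ : G, ρ ∈ K → ρ ∉ Z → (d : ℝ) ^ 2 ≤ ‖(W : G → ℂ) ρ‖ ^ 2)
    (hoffK : ∀ x : G, x ∈ Subgroup.normalizer (K : Set G) → x ∉ K →
      ∃ p : ℕ, p.Prime ∧ p ∣ q - 1 ∧ p ∣ orderOf x)
    (hvanH : ∀ (g : G) (p : ℕ), p.Prime → p ∣ q - 1 → p ∣ orderOf g →
      (F.W₁ : G → ℂ) g = 0 ∧ (F.W₂ : G → ℂ) g = 0 ∧ (∀ χ ∈ F.P, (χ : G → ℂ) g = 0) ∧
      ∀ χ ∈ F.M, (χ : G → ℂ) g = 0) :
    ColR d F ρ := by
  have hρ1 : ρ ≠ 1 := fun h => hρZ (h ▸ Z.one_mem)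
  have hn : ∑ χ : IrrCharacter G, (χ : G → ℂ) ρ * conj ((χ : G → ℂ) ρ) = 4 * (d : ℂ) ^ 2 := by
    rw [irr_orth2 ρ ρ, if_pos (IsConj.refl ρ), hcent ρ hρ hρZ, ← hd]
    push_cast
    ring
  have ho : ∑ χ : IrrCharacter G, (χ : G → ℂ) ρ * conj ((χ : G → ℂ) 1) = 0 := by
    rw [irr_orth2 ρ 1, if_neg]
    intro h
    exact hρ1 (isConj_one_left.mp h)
  have hoff : ∀ x ∈ Subgroup.normalizer (K : Set G), x ∉ K →
      (F.W₁ : G → ℂ) x = 0 ∧ (F.W₂ : G → ℂ) x = 0 := by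
    intro x hx hxK
    obtain ⟨p, hp, hpq, hpx⟩ := hoffK x hx hxK
    have := hvanH x p hp hpq hpx
    exact ⟨this.1, this.2.1⟩
  refine colRpure tab ρ hn ho
    (hWnorm F.W₁ tab.dW₁ (fun σ hσ h1 => (hS σ hσ h1).W₁) (fun x hx hxK => (hoff x hx hxK).1)
      ρ hρ hρZ)
    (hWnorm F.W₂ tab.dW₂ (fun σ hσ h1 => (hS σ hσ h1).W₂) (fun x hx hxK => (hoff x hx hxK).2)
      ρ hρ hρZ) ?_ ?_ ?_ ?_
  · have := reRho hz hcent hnr hd F.W₁ 0 (by rw [avg.W₁, zero_mul]) ρ hρ hρZ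
    rw [this, mul_zero]
  · intro χ hχ
    have := reRho hz hcent hnr hd χ 1 (by rw [avg.T χ hχ, one_mul]) ρ hρ hρZ
    rw [this, mul_one]
  · intro χ hχ
    have := reRho hz hcent hnr hd χ (-1) (by rw [avg.P χ hχ]; ring) ρ hρ hρZ
    rw [this]; ring
  · intro χ hχ
    have := reRho hz hcent hnr hd χ (-1) (by rw [avg.M χ hχ]; ring) ρ hρ hρZ
    rw [this]; ring

end Cfsg.Agent.Lib.Helper2SzCovColR
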