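import Cfsg.Agent.Lib.Helper30Thompson
import Cfsg.Agent.Lib.Helper60Core
import Cfsg.Agent.Lib.Helper37Sylow

/-! solvable groups are `p`-constrained; self-centralizing normal subgroups of Sylow subgroups. -/

set_option autoImplicit false

namespace Cfsg.Agent.Lib.Helper30Constrained

open Subgroup Cfsg
open Cfsg.Agent.Lib.Helper30SZ Cfsg.Agent.Lib.Helper30Coprime Cfsg.Agent.Lib.Helper30Trans
open Cfsg.Agent.Lib.Helper30Thompson

variable {G : Type*} [Group G]

open Cfsg.Agent.Lib.Helper31PLength in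
/-- `S ∩ O_{p',p}(H)` maps onto `O_p(H / O_{p'}(H))`. -/
theorem exists_mem_sylow_inf {H : Type*} [Group H] [Finite H] {p : ℕ} [Fact p.Prime]
    (S : Sylow p H) :
    ∀ xb ∈ pCore p (H ⧸ pPrimeCore p H), ∃ x ∈ (S : Subgroup H) ⊓ pPrimePCore p H,
      QuotientGroup.mk' (pPrimeCore p H) x = xb := by
  intro xb hxb
  obtain ⟨x, rfl⟩ := QuotientGroup.mk'_surjective (pPrimeCore p H) xb
  have hxM : x ∈ pPrimePCore p H := hxb
  have h1 := pPrimePCore_le_sup p H S hxM
  rw [mem_sup_iff (by rw [normalizer_eq_top]; exact le_top)] at h1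
  obtain ⟨l, hl, s, hs, rfl⟩ := h1
  refine ⟨s, Subgroup.mem_inf.mpr ⟨hs, ?_⟩, ?_⟩
  · have h2 : l⁻¹ * (l * s) ∈ pPrimePCore p H :=
      mul_mem (inv_mem (pPrimeCore_le_pPrimePCore p H hl)) hxM
    simpa using h2
  · have h3 : QuotientGroup.mk' (pPrimeCore p H) l = 1 := (QuotientGroup.eq_one_iff l).mpr hl
    rw [map_mul, h3, one_mul]

/-- every Sylow `p`-subgroup of `O_{p',p}(H)` is of the form `S ∩ O_{p',p}(H)`. -/
theorem exists_sylow_inf_eq {H : Type*} [Group H] [Finite H] {p : ℕ} [Fact p.Prime]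
    (P : Sylow p ↥(pPrimePCore p H)) :
    ∃ S : Sylow p H, (P : Subgroup ↥(pPrimePCore p H)).map (pPrimePCore p H).subtype =
      (S : Subgroup H) ⊓ pPrimePCore p H := by
  obtain ⟨S, hS⟩ := (P.2.map (pPrimePCore p H).subtype).exists_le_sylow
  refine ⟨S, ?_⟩
  have h1 : IsPGroup p ((S : Subgroup H).subgroupOf (pPrimePCore p H)) := S.2.comap_subtype
  have h2 : (P : Subgroup ↥(pPrimePCore p H)) ≤ (S : Subgroup H).subgroupOf (pPrimePCore p H) := by
    intro x hx
    rw [mem_subgroupOf]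
    exact hS ⟨x, hx, rfl⟩
  have h3 := P.3 h1 h2
  rw [← h3, subgroupOf_map_subtype]

/-- solvable groups are `p`-constrained -/
theorem isPConstrained_of_isSolvable {H : Type*} [Group H] [Finite H] [Group.IsSolvable H]
    (p : ℕ) [Fact p.Prime] : IsPConstrained p H := by
  intro P x hx
  obtain ⟨S, hS⟩ := exists_sylow_inf_eq P
  rw [hS] at hx
  show QuotientGroup.mk' (pPrimeCore p H) x ∈ pCore p (H ⧸ pPrimeCore p H)
  apply Cfsg.Agent.Lib.Helper60Core.centralizer_pCore_le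
    (Cfsg.Agent.Lib.Helper60Core.pPrimeCore_quotient_eq_bot p)
  rw [mem_centralizer_iff]
  intro yb hyb
  obtain ⟨y, hy, rfl⟩ := exists_mem_sylow_inf S yb hyb
  have := (mem_centralizer_iff.mp hx) y hy
  rw [← map_mul, this, map_mul]

/-- a self-centralizing normal subgroup of a Sylow `p`-subgroup contains all `p`-elements of its
centralizer -/
theorem scn_full [Finite G] {p : ℕ} [Fact p.Prime] (P : Sylow p G) {B : Subgroup G}
    (hBn : (P : Subgroup G) ≤ normalizer (B : Set G))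
    (hBc : (P : Subgroup G) ⊓ centralizer (B : Set G) = B) :
    ∀ x ∈ centralizer (B : Set G), IsPGroup p (zpowers x) → x ∈ B := by
  intro x hx hxp
  obtain ⟨h, hh, hconj⟩ := Cfsg.Agent.Lib.Helper37Sylow.exists_conj_mem P (normalizer (B : Set G)) hBn
    (zpowers x) hxp (by
      rw [zpowers_le]; exact centralizer_le_normalizer _ hx)
  have h1 : h * x * h⁻¹ ∈ (P : Subgroup G) := hconj x (mem_zpowers x)
  have h2 : h * x * h⁻¹ ∈ centralizer (B : Set G) := by
    rw [mem_centralizer_iff]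
    intro b hb
    have hb' : h⁻¹ * b * h ∈ B := (mem_normalizer_iff''.mp hh b).mp hb
    have h3 := (mem_centralizer_iff.mp hx) _ hb'
    calc b * (h * x * h⁻¹) = h * ((h⁻¹ * b * h) * x) * h⁻¹ := by group
      _ = h * (x * (h⁻¹ * b * h)) * h⁻¹ := by rw [h3]
      _ = h * x * h⁻¹ * b := by group
  have h4 : h * x * h⁻¹ ∈ B := hBc ▸ Subgroup.mem_inf.mpr ⟨h1, h2⟩
  exact (mem_normalizer_iff.mp hh x).mpr h4

end Cfsg.Agent.Lib.Helper30Constrained
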