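import Cfsg.Agent.Lib.Helper43SpDefs
import Cfsg.Agent.Lib.Helper43StHubF
import Cfsg.Agent.Lib.Helper43GlDefs
import Cfsg.Agent.Lib.Helper43R1Defs
import Cfsg.Agent.Lib.Helper10BPSlgen

set_option autoImplicit false

/-! Project 243, piece `ckap` (the piece `clam` is an extra hypothesis at the end). -/

namespace Cfsg.Agent.Lib.Helper30SpCkap

open Matrix Cfsg.Agent.Lib.Helper43St Cfsg.Agent.Lib.Helper43Sp Cfsg.Agent.Lib.Helper43P3
open Cfsg.Agent.Lib.Helper43Gl (wv hv)
open Cfsg.Agent.Lib.Helper43R1 (StG)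

variable {m : ℕ} {F : Type*} [Field F] {P : Type*} [Group P] (S : CSys m F P)

/-- two homs from `SL_2(F)` whose values on the transvections commute have commuting images -/
theorem commute_of_gen (φ ψ : SpecialLinearGroup (Fin 2) F →* P)
    (h : ∀ p q s p' q' t, p ≠ q → p' ≠ q' → Commute (φ (tv p q s)) (ψ (tv p' q' t))) (x y) :
    Commute (φ x) (ψ y) := by
  have gen2 := Cfsg.Agent.Lib.Helper10BPSlgen.sl_gen (le_refl 2) F
  have h1 : ∀ p q s, p ≠ q → ∀ y, Commute (φ (tv p q s)) (ψ y) := by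
    intro p q s hpq y
    have hle : (⊤ : Subgroup (SpecialLinearGroup (Fin 2) F)) ≤
        (Subgroup.centralizer {φ (tv p q s)}).comap ψ := by
      rw [← gen2, Subgroup.closure_le]
      rintro g ⟨p', q', t, hpq', rfl⟩
      rw [SetLike.mem_coe, Subgroup.mem_comap, Subgroup.mem_centralizer_iff]
      intro z hz
      rw [Set.mem_singleton_iff] at hz
      subst hz
      exact (h p q s p' q' t hpq hpq').eq
    have := hle (Subgroup.mem_top y)
    rw [Subgroup.mem_comap, Subgroup.mem_centralizer_iff] at this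
    exact this _ rfl
  have hle : (⊤ : Subgroup (SpecialLinearGroup (Fin 2) F)) ≤
      (Subgroup.centralizer {ψ y}).comap φ := by
    rw [← gen2, Subgroup.closure_le]
    rintro g ⟨p, q, s, hpq, rfl⟩
    rw [SetLike.mem_coe, Subgroup.mem_comap, Subgroup.mem_centralizer_iff]
    intro z hz
    rw [Set.mem_singleton_iff] at hz
    subst hz
    exact (h1 p q s hpq y).eq.symm
  have := hle (Subgroup.mem_top x)
  rw [Subgroup.mem_comap, Subgroup.mem_centralizer_iff] at this
  exact (this _ rfl).symm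

-- piece `ckap`
theorem exists_kap (hm : 2 ≤ m)
    (h_lam : ∀ i : Fin m, ∃ f : SpecialLinearGroup (Fin 2) F →* P,
      (∀ t, f (tv 0 1 t) = S.x (Sum.inl i) (Sum.inr i) t) ∧
      (∀ t, f (tv 1 0 t) = S.x (Sum.inr i) (Sum.inl i) t)) :
    ∃ κ : (Fin m → SpecialLinearGroup (Fin 2) F) →* P,
      ∀ i t, κ (Pi.mulSingle i (tv 0 1 t)) = S.x (Sum.inl i) (Sum.inr i) t ∧
        κ (Pi.mulSingle i (tv 1 0 t)) = S.x (Sum.inr i) (Sum.inl i) t := by
  choose f hf1 hf2 using h_lam
  have hval : ∀ (i : Fin m) (p q : Fin 2) (s : F), p ≠ q →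
      ∃ a b : I m, a ≠ b ∧ ab a = i ∧ ab b = i ∧ f i (tv p q s) = S.x a b s := by
    intro i p q s hpq
    fin_cases p <;> fin_cases q
    · exact absurd rfl hpq
    · exact ⟨Sum.inl i, Sum.inr i, by simp, rfl, rfl, hf1 i s⟩
    · exact ⟨Sum.inr i, Sum.inl i, by simp, rfl, rfl, hf2 i s⟩
    · exact absurd rfl hpq
  have hcomm : Pairwise fun i j => ∀ x y, Commute (f i x) (f j y) := by
    intro i j hij x y
    apply commute_of_gen
    intro p q s p' q' t hpq hpq'
    obtain ⟨a, b, hab, ha, hb, e⟩ := hval i p q s hpq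
    obtain ⟨c, d, hcd, hc, hd, e'⟩ := hval j p' q' t hpq'
    rw [e, e']
    exact S.dis a b c d hab hcd (by rw [ha, hc]; exact hij) (by rw [ha, hd]; exact hij)
      (by rw [hb, hc]; exact hij) (by rw [hb, hd]; exact hij) s t
  refine ⟨MonoidHom.noncommPiCoprod f hcomm, fun i t => ⟨?_, ?_⟩⟩
  · rw [MonoidHom.noncommPiCoprod_mulSingle, hf1]
  · rw [MonoidHom.noncommPiCoprod_mulSingle, hf2]

end Cfsg.Agent.Lib.Helper30SpCkap
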