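import Cfsg.Agent.Lib.Helper43SpDefs
import Cfsg.Agent.Lib.Helper43StHubF
import Cfsg.Agent.Lib.Helper43GlDefs
import Cfsg.Agent.Lib.Helper43R1Defs
import Cfsg.Agent.Lib.Helper10BPSlgen

set_option autoImplicit false

/-! Project 243, piece `ckconj` (the piece `cwlong` is an extra hypothesis at the end). -/

namespace Cfsg.Agent.Lib.Helper30SpCkconj

open Matrix Cfsg.Agent.Lib.Helper43St Cfsg.Agent.Lib.Helper43Sp Cfsg.Agent.Lib.Helper43P3
open Cfsg.Agent.Lib.Helper43Gl (wv hv)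
open Cfsg.Agent.Lib.Helper43R1 (StG)

variable {m : ℕ} {F : Type*} [Field F] {P : Type*} [Group P] (S : CSys m F P)
  (κ : (Fin m → SpecialLinearGroup (Fin 2) F) →* P)

theorem perm_single (i j k : Fin m) (g : SpecialLinearGroup (Fin 2) F) :
    (fun k' => (Pi.mulSingle k g : Fin m → SpecialLinearGroup (Fin 2) F) (Equiv.swap i j k')) =
      Pi.mulSingle (Equiv.swap i j k) g := by
  funext k'
  by_cases h : k' = Equiv.swap i j k
  · subst h
    rw [Equiv.swap_apply_self, Pi.mulSingle_eq_same, Pi.mulSingle_eq_same]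
  · rw [Pi.mulSingle_eq_of_ne h, Pi.mulSingle_eq_of_ne]
    intro h'
    apply h
    rw [← h', Equiv.swap_apply_self]

theorem conj_aux (hκ : ∀ i t, κ (Pi.mulSingle i (tv 0 1 t)) = S.x (Sum.inl i) (Sum.inr i) t ∧
        κ (Pi.mulSingle i (tv 1 0 t)) = S.x (Sum.inr i) (Sum.inl i) t)
    (i j : Fin m) (W : P)
    (hW : ∀ (a : I m) (t : F), W * S.x a (ng a) t * W⁻¹ =
      S.x (pmI (Equiv.swap i j) a) (ng (pmI (Equiv.swap i j) a)) t)
    (z : Fin m → SpecialLinearGroup (Fin 2) F) :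
    W * κ z * W⁻¹ = κ (fun k => z (Equiv.swap i j k)) := by
  let pH : (Fin m → SpecialLinearGroup (Fin 2) F) →* (Fin m → SpecialLinearGroup (Fin 2) F) :=
    { toFun := fun z k => z (Equiv.swap i j k), map_one' := rfl, map_mul' := fun _ _ => rfl }
  have key : (MulAut.conj W).toMonoidHom.comp κ = κ.comp pH := by
    apply MonoidHom.pi_ext
    intro k g
    have h2 : ((MulAut.conj W).toMonoidHom.comp κ).comp (MonoidHom.mulSingle _ k) =
        (κ.comp pH).comp (MonoidHom.mulSingle _ k) := by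
      apply MonoidHom.eq_of_eqOn_dense (Cfsg.Agent.Lib.Helper10BPSlgen.sl_gen (le_refl 2) F)
      rintro g ⟨p, q, t, hpq, rfl⟩
      show W * κ (Pi.mulSingle k (tv p q t)) * W⁻¹ =
        κ (fun k' => (Pi.mulSingle k (tv p q t) : Fin m → SpecialLinearGroup (Fin 2) F) (Equiv.swap i j k'))
      rw [perm_single]
      fin_cases p <;> fin_cases q
      · exact absurd rfl hpq
      · show W * κ (Pi.mulSingle k (tv 0 1 t)) * W⁻¹ = κ (Pi.mulSingle (Equiv.swap i j k) (tv 0 1 t))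
        rw [(hκ k t).1, (hκ _ t).1]
        exact hW (Sum.inl k) t
      · show W * κ (Pi.mulSingle k (tv 1 0 t)) * W⁻¹ = κ (Pi.mulSingle (Equiv.swap i j k) (tv 1 0 t))
        rw [(hκ k t).2, (hκ _ t).2]
        exact hW (Sum.inr k) t
      · exact absurd rfl hpq
    exact DFunLike.congr_fun h2 g
  exact DFunLike.congr_fun key z

-- piece `ckconj`
theorem k_conj (hκ : ∀ i t, κ (Pi.mulSingle i (tv 0 1 t)) = S.x (Sum.inl i) (Sum.inr i) t ∧
        κ (Pi.mulSingle i (tv 1 0 t)) = S.x (Sum.inr i) (Sum.inl i) t)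
    (i j : Fin m) (hij : i ≠ j) (z : Fin m → SpecialLinearGroup (Fin 2) F)
    (h_wl : ∀ (i j : Fin m), i ≠ j → ∀ (a : I m) (t : F),
      S.w (Sum.inl i) (Sum.inl j) 1 * S.x a (ng a) t * (S.w (Sum.inl i) (Sum.inl j) 1)⁻¹ =
        S.x (pmI (Equiv.swap i j) a) (ng (pmI (Equiv.swap i j) a)) t ∧
      (S.w (Sum.inl i) (Sum.inl j) 1)⁻¹ * S.x a (ng a) t * S.w (Sum.inl i) (Sum.inl j) 1 =
        S.x (pmI (Equiv.swap i j) a) (ng (pmI (Equiv.swap i j) a)) t) :
    S.w (Sum.inl i) (Sum.inl j) 1 * κ z * (S.w (Sum.inl i) (Sum.inl j) 1)⁻¹ =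
      κ (fun k => z (Equiv.swap i j k)) ∧
    (S.w (Sum.inl i) (Sum.inl j) 1)⁻¹ * κ z * S.w (Sum.inl i) (Sum.inl j) 1 =
      κ (fun k => z (Equiv.swap i j k)) := by
  constructor
  · exact conj_aux S κ hκ i j _ (fun a t => (h_wl i j hij a t).1) z
  · have := conj_aux S κ hκ i j (S.w (Sum.inl i) (Sum.inl j) 1)⁻¹
      (fun a t => by rw [inv_inv]; exact (h_wl i j hij a t).2) z
    rwa [inv_inv] at this

end Cfsg.Agent.Lib.Helper30SpCkconj
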