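import Cfsg.Agent.Lib.Helper43SpDefs
import Cfsg.Agent.Lib.Helper43StHubF
import Cfsg.Agent.Lib.Helper43GlDefs
import Cfsg.Agent.Lib.Helper43R1Defs

set_option autoImplicit false

/-! Project 243, piece `ckdiag` (hypothesis free). -/

namespace Cfsg.Agent.Lib.Helper30SpCkdiag

open Matrix Cfsg.Agent.Lib.Helper43St Cfsg.Agent.Lib.Helper43Sp Cfsg.Agent.Lib.Helper43P3
open Cfsg.Agent.Lib.Helper43Gl (wv hv)
open Cfsg.Agent.Lib.Helper43R1 (StG)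

variable {m : ℕ} {F : Type*} [Field F] {P : Type*} [Group P] (S : CSys m F P)
  (κ : (Fin m → SpecialLinearGroup (Fin 2) F) →* P)

theorem eq_hv (g : SpecialLinearGroup (Fin 2) F) (h1 : g 0 1 = 0) (h2 : g 1 0 = 0) :
    g 0 0 ≠ 0 ∧ g = hv 0 1 (g 0 0) := by
  have hdet := g.2
  rw [Matrix.det_fin_two] at hdet
  have hdet' : g 0 0 * g 1 1 - g 0 1 * g 1 0 = 1 := hdet
  rw [h1, h2, mul_zero, sub_zero] at hdet'
  have hu : g 0 0 ≠ 0 := left_ne_zero_of_mul_eq_one hdet'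
  have h11 : g 1 1 = (g 0 0)⁻¹ := eq_inv_of_mul_eq_one_right hdet'
  refine ⟨hu, ?_⟩
  unfold hv wv
  apply eq_mul_inv_of_mul_eq
  ext i j
  fin_cases i <;> fin_cases j <;>
    simp [Matrix.mul_apply, Fin.sum_univ_two, tv_apply, h1, h2, h11, hu]

theorem hl_eq (hκ : ∀ i t, κ (Pi.mulSingle i (tv 0 1 t)) = S.x (Sum.inl i) (Sum.inr i) t ∧
        κ (Pi.mulSingle i (tv 1 0 t)) = S.x (Sum.inr i) (Sum.inl i) t) (i : Fin m) (u : F) :
    κ (Pi.mulSingle i (hv 0 1 u)) = S.hl i u := by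
  have hw : ∀ v : F, κ (Pi.mulSingle i (wv 0 1 v)) = S.w (Sum.inl i) (Sum.inr i) v := by
    intro v
    unfold wv CSys.w
    rw [Pi.mulSingle_mul, Pi.mulSingle_mul, map_mul, map_mul, (hκ i v).1, (hκ i _).2]
  unfold hv CSys.hl CSys.hh
  rw [Pi.mulSingle_mul, Pi.mulSingle_inv, map_mul, map_inv, hw, hw]

-- piece `ckdiag` (both)
theorem k_diag (hκ : ∀ i t, κ (Pi.mulSingle i (tv 0 1 t)) = S.x (Sum.inl i) (Sum.inr i) t ∧
        κ (Pi.mulSingle i (tv 1 0 t)) = S.x (Sum.inr i) (Sum.inl i) t)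
    (z : Fin m → SpecialLinearGroup (Fin 2) F) (hz : ∀ i, z i 0 1 = 0 ∧ z i 1 0 = 0) : κ z ∈ S.H := by
  have : z ∈ S.H.comap κ := by
    rw [← Finset.noncommProd_mulSingle z]
    apply Subgroup.noncommProd_mem
    intro i _
    rw [Subgroup.mem_comap]
    obtain ⟨hu, e⟩ := eq_hv (z i) (hz i).1 (hz i).2
    rw [e, hl_eq S κ hκ]
    exact Subgroup.subset_closure ⟨i, _, hu, rfl⟩
  exact this

theorem h_form (hκ : ∀ i t, κ (Pi.mulSingle i (tv 0 1 t)) = S.x (Sum.inl i) (Sum.inr i) t ∧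
        κ (Pi.mulSingle i (tv 1 0 t)) = S.x (Sum.inr i) (Sum.inl i) t)
    (η : P) (hη : η ∈ S.H) : ∃ z, η = κ z := by
  have hle : S.H ≤ κ.range := by
    unfold CSys.H
    rw [Subgroup.closure_le]
    rintro g ⟨i, u, _, rfl⟩
    exact ⟨_, hl_eq S κ hκ i u⟩
  obtain ⟨z, hz⟩ := hle hη
  exact ⟨z, hz.symm⟩

end Cfsg.Agent.Lib.Helper30SpCkdiag
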