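import Cfsg.Agent.Lib.Helper30Constrained

/-! Criteria for the transitivity hypothesis. -/

set_option autoImplicit false

namespace Cfsg.Agent.Lib.Helper30TransHyp

open Subgroup Cfsg
open Cfsg.Agent.Lib.Helper30SZ Cfsg.Agent.Lib.Helper30Coprime Cfsg.Agent.Lib.Helper30Trans
open Cfsg.Agent.Lib.Helper30Thompson Cfsg.Agent.Lib.Helper30Constrained

variable {G : Type*} [Group G]

open Cfsg.Agent.Lib.Helper1Fitting Cfsg.Agent.Lib.Helper31PLength in
/-- In a `p`-constrained group a `p'`-subgroup centralizing `O_p(H / O_{p'}(H))` lies in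
`O_{p'}(H)`. -/
theorem le_pPrimeCore_of_centralizes {H : Type*} [Group H] [Finite H] {p : ℕ} [Fact p.Prime]
    (hc : IsPConstrained p H) (K : Subgroup H) (hK : (Nat.card K).Coprime p)
    (hKR : K.map (QuotientGroup.mk' (pPrimeCore p H)) ≤
      centralizer (pCore p (H ⧸ pPrimeCore p H) : Set (H ⧸ pPrimeCore p H))) :
    K ≤ pPrimeCore p H := by
  set L := pPrimeCore p H with hL
  set π := QuotientGroup.mk' L with hπ
  set Rb := pCore p (H ⧸ L) with hRbdef
  set M := pPrimePCore p H with hM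
  have hπL : ∀ x : H, π x = 1 ↔ x ∈ L := fun x => QuotientGroup.eq_one_iff x
  obtain ⟨S⟩ : Nonempty (Sylow p H) := inferInstance
  set R := (S : Subgroup H) ⊓ M with hR
  have hRp : IsPGroup p R := S.2.to_le inf_le_left
  have hMn : M.Normal := pPrimePCore_normal p H
  have hLn : L.Normal := Cfsg.Agent.Lib.Helper1Fitting.pPrimeCore_normal p
  have hcopL : (Nat.card L).Coprime p := card_pPrimeCore_coprime p
  have hcopRL : (Nat.card R).Coprime (Nat.card L) := by
    obtain ⟨k, hk⟩ := IsPGroup.iff_card.mp hRp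
    rw [hk]; exact (hcopL.pow_right k).symm
  have hRM : ∀ x ∈ R, π x ∈ Rb := fun x hx => (Subgroup.mem_inf.mp hx).2
  set Kb := K.map π with hKbdef
  have hKb : (Nat.card Kb).Coprime p := Nat.Coprime.coprime_dvd_left (card_map_dvd _ _) hK
  have hRbp : IsPGroup p Rb := pCore_isPGroup p
  have hcopKR : (Nat.card Kb).Coprime (Nat.card Rb) := by
    obtain ⟨k, hk⟩ := IsPGroup.iff_card.mp hRbp
    rw [hk]; exact hKb.pow_right k
  intro k hk
  have hsolv : Group.IsSolvable R := by
    have := hRp.isNilpotent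
    infer_instance
  have hkb : π k ∈ Kb := ⟨k, hk, rfl⟩
  obtain ⟨n, hn, hkn⟩ := exists_mul_mem_centralizer (N := L) (A := R)
    (by rw [normalizer_eq_top]; exact le_top) hcopRL (Or.inl hsolv) (k := k) (by
      intro a ha
      rw [← hπL]
      have h3 : π a * π k = π k * π a := (mem_centralizer_iff.mp (hKR hkb)) _ (hRM a ha)
      simp only [map_mul, map_inv]
      calc (π k)⁻¹ * π a * π k * (π a)⁻¹ = (π k)⁻¹ * (π a * π k) * (π a)⁻¹ := by group
        _ = 1 := by rw [h3]; group)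
  let R' : Sylow p M := Cfsg.Agent.Lib.Helper67Basic.sylowInfNormal S M
  have hR' : (R' : Subgroup M).map M.subtype = R :=
    Cfsg.Agent.Lib.Helper67Basic.sylowInfNormal_map S M
  have h5 := hc R'
  rw [hR'] at h5
  have h6 : π (k * n) ∈ Rb := h5 hkn
  rw [map_mul, (hπL n).mpr hn, mul_one] at h6
  exact (hπL k).mp (eq_one_of_mem_of_mem hcopKR h6 hkb)

open Cfsg.Agent.Lib.Helper1Fitting Cfsg.Agent.Lib.Helper31PLength in
/-- the `p`-length one version of the key lemma -/
theorem key_lemma_plength {H : Type*} [Group H] [Finite H] {p : ℕ} [Fact p.Prime] (hp2 : p ≠ 2)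
    (hc : IsPConstrained p H) (hl : PLengthLE p 1 H)
    (E : Subgroup H) (hEp : IsPGroup p E)
    (hEfull : ∀ x ∈ centralizer (E : Set H), x ^ p = 1 → x ∈ E)
    (K : Subgroup H) (hK : (Nat.card K).Coprime p) (hEK : E ≤ normalizer (K : Set H)) :
    K ≤ pPrimeCore p H := by
  apply le_pPrimeCore_of_centralizes hc K hK
  set L := pPrimeCore p H with hL
  set π := QuotientGroup.mk' L with hπ
  set Rb := pCore p (H ⧸ L) with hRbdef
  set M := pPrimePCore p H with hM
  have hπL : ∀ x : H, π x = 1 ↔ x ∈ L := fun x => QuotientGroup.eq_one_iff x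
  obtain ⟨S, hES⟩ := hEp.exists_le_sylow
  set R := (S : Subgroup H) ⊓ M with hR
  have hRS : R ≤ S := inf_le_left
  have hRp : IsPGroup p R := S.2.to_le hRS
  have hMn : M.Normal := pPrimePCore_normal p H
  have hRbn : Rb.Normal := Cfsg.Agent.Lib.Helper1Fitting.pCore_normal p
  have hER : E ≤ normalizer (R : Set H) := by
    refine le_trans (le_inf (le_trans hES le_normalizer) ?_) inf_normalizer_le_normalizer_inf
    rw [normalizer_eq_top]; exact le_top
  have hcopL : (Nat.card L).Coprime p := card_pPrimeCore_coprime p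
  have hcopRL : (Nat.card R).Coprime (Nat.card L) := by
    obtain ⟨k, hk⟩ := IsPGroup.iff_card.mp hRp
    rw [hk]; exact (hcopL.pow_right k).symm
  have hmapR : ∀ xb ∈ Rb, ∃ x ∈ R, π x = xb := exists_mem_sylow_inf S
  have hEM : E ≤ M := pgroup_le_of_index_coprime M ((pLengthLE_one_iff p H).mp hl) E hEp
  set Eb := E.map π with hEbdef
  set Kb := K.map π with hKbdef
  have hEb : IsPGroup p Eb := hEp.map π
  have hKb : (Nat.card Kb).Coprime p := Nat.Coprime.coprime_dvd_left (card_map_dvd _ _) hK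
  have hRbp : IsPGroup p Rb := pCore_isPGroup p
  have hcopKR : (Nat.card Kb).Coprime (Nat.card Rb) := by
    obtain ⟨k, hk⟩ := IsPGroup.iff_card.mp hRbp
    rw [hk]; exact hKb.pow_right k
  have hEbR : Eb ≤ Rb := by
    rintro _ ⟨e, he, rfl⟩
    exact hEM he
  have hNRb : normalizer (Rb : Set (H ⧸ L)) = ⊤ := normalizer_eq_top Rb
  -- `Kb` centralizes `Eb`
  have hKE : ∀ k ∈ Kb, ∀ e ∈ Eb, k * e * k⁻¹ = e := by
    rintro _ ⟨k, hk, rfl⟩ _ ⟨e, he, rfl⟩
    have h1 : e * k * e⁻¹ * k⁻¹ ∈ K :=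
      K.mul_mem ((mem_normalizer_iff.mp (hEK he) k).mp hk) (K.inv_mem hk)
    have h2 : π (e * k * e⁻¹ * k⁻¹) ∈ Kb := ⟨_, h1, rfl⟩
    have h3 : π (e * k * e⁻¹ * k⁻¹) ∈ Rb := by
      have e' : π (e * k * e⁻¹ * k⁻¹) = π e * (π k * (π e)⁻¹ * (π k)⁻¹) := by
        simp only [map_mul, map_inv]; group
      rw [e']
      exact Rb.mul_mem (hEM he) (hRbn.conj_mem _ (Rb.inv_mem (hEM he)) _)
    have h4 := eq_one_of_mem_of_mem hcopKR h3 h2
    simp only [map_mul, map_inv] at h4
    calc π k * π e * (π k)⁻¹ = (π e * π k * (π e)⁻¹ * (π k)⁻¹)⁻¹ * π e := by group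
      _ = π e := by rw [h4]; group
  have hKEc : Kb ≤ centralizer (Eb : Set (H ⧸ L)) := le_centralizer_iff_conj.mpr hKE
  set Tb := Rb ⊓ centralizer (Eb : Set (H ⧸ L)) with hTb
  have hKT : Kb ≤ normalizer (Tb : Set (H ⧸ L)) := by
    refine le_trans (le_inf (hNRb ▸ le_top) ?_) inf_normalizer_le_normalizer_inf
    -- Kb centralizes Eb hence normalizes its centralizer
    rw [le_normalizer_iff]
    intro k hk x hx
    rw [mem_centralizer_iff] at hx ⊢
    intro e he
    have h1 := hKE k hk e he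
    have h2 : k⁻¹ * e * k = e := by
      calc k⁻¹ * e * k = k⁻¹ * (k * e * k⁻¹) * k := by rw [h1]
        _ = e := by group
    have h3 := hx e he
    calc e * (k * x * k⁻¹) = k * ((k⁻¹ * e * k) * x) * k⁻¹ := by group
      _ = k * (e * x) * k⁻¹ := by rw [h2]
      _ = k * (x * e) * k⁻¹ := by rw [h3]
      _ = k * x * (k⁻¹ * e * k) * k⁻¹ := by rw [h2]; group
      _ = k * x * k⁻¹ * e := by group
  have hfix : ∀ k ∈ Kb, ∀ x ∈ Tb, x ^ p = 1 → k * x * k⁻¹ = x := by
    intro k hk xb hxb hxp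
    obtain ⟨hxR, hxE⟩ := Subgroup.mem_inf.mp hxb
    obtain ⟨x, hx, rfl⟩ := hmapR xb hxR
    have hxcE : x ∈ centralizer (E : Set H) := by
      rw [mem_centralizer_iff]
      intro e he
      have h1 : e * x * e⁻¹ * x⁻¹ ∈ R :=
        R.mul_mem ((mem_normalizer_iff.mp (hER he) x).mp hx) (R.inv_mem hx)
      have h2 : e * x * e⁻¹ * x⁻¹ ∈ L := by
        rw [← hπL]
        have h3 : π e * π x = π x * π e := (mem_centralizer_iff.mp hxE) _ ⟨e, he, rfl⟩
        simp only [map_mul, map_inv]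
        rw [h3]; group
      have h4 := eq_one_of_mem_of_mem hcopRL h2 h1
      calc e * x = (e * x * e⁻¹ * x⁻¹) * x * e := by group
        _ = x * e := by rw [h4]; group
    have hxp' : x ^ p = 1 := by
      apply eq_one_of_mem_of_mem hcopRL _ (R.pow_mem hx p)
      rw [← hπL, map_pow]; exact hxp
    exact hKE k hk _ ⟨x, hEfull x hxcE hxp', rfl⟩
  have hKTc := centralizes_of_fix_order_p p hp2 Kb hKb Tb (hRbp.to_le inf_le_left) hKT hfix
  apply Cfsg.Agent.S0028.result p Eb Kb Rb hEb hKb hRbp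
  · rw [le_centralizer_iff]; exact hKEc
  · exact hNRb ▸ le_top
  · exact hNRb ▸ le_top
  · rw [le_centralizer_iff]
    exact le_centralizer_iff_conj.mpr hKTc

theorem key_lemma_plength_ambient [Finite G] {p : ℕ} [Fact p.Prime] (hp2 : p ≠ 2) {H : Subgroup G}
    (hc : IsPConstrained p H) (hl : PLengthLE p 1 H)
    {E : Subgroup G} (hEH : E ≤ H) (hEp : IsPGroup p E)
    (hEfull : ∀ x ∈ centralizer (E : Set G), x ^ p = 1 → x ∈ E)
    {K : Subgroup G} (hKH : K ≤ H) (hK : (Nat.card K).Coprime p)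
    (hEK : E ≤ normalizer (K : Set G)) :
    K ≤ (pPrimeCore p H).map H.subtype := by
  have h1 : K.subgroupOf H ≤ pPrimeCore p H := by
    apply key_lemma_plength hp2 hc hl (E.subgroupOf H) (hEp.comap_subtype) ?_ (K.subgroupOf H)
      (by rw [card_subgroupOf_of_le hKH]; exact hK) ?_
    · intro x hx hk
      rw [mem_subgroupOf]
      apply hEfull
      · rw [mem_centralizer_iff]
        intro e he
        have := (mem_centralizer_iff.mp hx) ⟨e, hEH he⟩ (mem_subgroupOf.mpr he)
        exact congrArg Subtype.val this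
      · exact congrArg Subtype.val hk
    · rw [le_normalizer_iff]
      intro e he k hk
      rw [mem_subgroupOf] at he hk ⊢
      exact (mem_normalizer_iff.mp (hEK he) _).mp hk
  intro k hk
  exact ⟨⟨k, hKH hk⟩, h1 (mem_subgroupOf.mpr hk), rfl⟩

/-- the transitivity hypothesis for a `p`-group from the key property -/
theorem transHyp_of_key [Finite G] {p : ℕ} [Fact p.Prime] {A : Subgroup G} (hAp : IsPGroup p A)
    (hA1 : A ≠ ⊥) (hAtop : A ≠ ⊤)
    (key : ∀ X : Subgroup G, X ≠ ⊤ → A ≤ X → ∀ K : Subgroup G, K ≤ X → (Nat.card K).Coprime p →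
      A ≤ normalizer (K : Set G) → K ≤ (pPrimeCore p X).map X.subtype) :
    TransitivityHypothesis A := by
  have hp : p.Prime := Fact.out
  obtain ⟨k, hk⟩ := IsPGroup.iff_card.mp hAp
  have hk0 : k ≠ 0 := by
    rintro rfl
    exact hA1 (card_eq_one.mp (by simpa using hk))
  refine ⟨hA1, hAtop, ?_⟩
  intro X hX hAX
  apply le_antisymm
  · apply sSup_le
    intro Y hY
    have hYp : (Nat.card Y).Coprime p := by
      rw [Nat.coprime_comm, Nat.Prime.coprime_iff_not_dvd hp]
      intro h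
      exact (hY.2.1 p hp h).2 (hk ▸ dvd_pow_self p hk0)
    refine le_trans (key X hX hAX Y hY.1 hYp hY.2.2) ?_
    apply le_piCoreOf (map_subtype_le _) (le_normalizer_coreIn p X)
    intro r hr hdvd
    refine ⟨hr, fun h => ?_⟩
    rw [hk] at h
    have hrp : r = p := (Nat.prime_dvd_prime_iff_eq hr hp).mp (hr.dvd_of_dvd_pow h)
    rw [hrp] at hdvd
    exact (Nat.Prime.coprime_iff_not_dvd hp).mp (card_coreIn_coprime p X).symm hdvd
  · apply le_sSup
    exact ⟨piCoreOf_le _ _, card_piCoreOf _ _, le_trans hAX (le_normalizer_piCoreOf _ _)⟩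

end Cfsg.Agent.Lib.Helper30TransHyp
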