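import Cfsg.Agent.S0649
import Cfsg.Agent.S0650
import Cfsg.Agent.Lib.Helper14FamProps
import Cfsg.Agent.Lib.Helper57Replace
import Cfsg.Agent.Lib.Helper39Rel
import Cfsg.Agent.Lib.Helper39CoreOf

set_option autoImplicit false
set_option linter.unusedSectionVars false

/-! The abelian Thompson subgroup as a conjugacy functor, and the local analysis
(Thompson replacement) needed for Glauberman's theorem on weakly closed elements. -/

namespace Cfsg.Agent.Lib.Helper30WC1

open Cfsg Subgroup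
open Cfsg.Agent.Lib.Helper14Family Cfsg.Agent.Lib.Helper14FamProps
open Cfsg.Agent.Lib.Helper39Sylow Cfsg.Agent.Lib.Helper39CoreOf Cfsg.Agent.Lib.Helper39WellPlaced
open scoped commutatorElement

universe u

variable {G : Type u} [Group G]

theorem relIndex_mul_card' {H K : Subgroup G} (h : H ≤ K) :
    H.relIndex K * Nat.card H = Nat.card K := by
  rw [← relIndex_bot_left, ← relIndex_bot_left, mul_comm]
  exact relIndex_mul_relIndex ⊥ H K bot_le h

theorem mem_of_mem_centralizer [Finite G] {P A : Subgroup G} (hA : A ∈ famA P) {x : G} (hxP : x ∈ P)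
    (hx : x ∈ centralizer (A : Set G)) : x ∈ A := by
  have h1 := hA.2.2 (A ⊔ zpowers x) (sup_le hA.1 (by rwa [zpowers_le]))
    (comm_sup_zpowers A hA.2.1 x hx)
  have h2 : A = A ⊔ zpowers x := eq_of_le_of_card_ge le_sup_left h1
  rw [h2]
  exact (le_sup_right : zpowers x ≤ A ⊔ zpowers x) (mem_zpowers x)

theorem center_le_JA [Finite G] (P : Subgroup G) :
    P ⊓ centralizer (P : Set G) ≤ thompsonSubgroupAOf P := by
  obtain ⟨A, hA⟩ := famA_F4 P
  rw [thompsonSubgroupAOf_eq]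
  refine le_trans ?_ (le_sSup hA)
  intro x hx
  exact mem_of_mem_centralizer hA hx.1 (centralizer_le hA.1 hx.2)

theorem JA_cj (P : Subgroup G) (g : G) :
    thompsonSubgroupAOf (cj g P) = cj g (thompsonSubgroupAOf P) := by
  rw [thompsonSubgroupAOf_eq, thompsonSubgroupAOf_eq]
  apply le_antisymm
  · apply sSup_le
    intro A hA
    have h1 := famA_F2 (MulAut.conj g⁻¹) (cj g P) A hA
    have h2 : (cj g P).map (MulAut.conj g⁻¹).toMonoidHom = P := cj_inv_cj g P
    rw [h2] at h1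
    have h3 : cj g⁻¹ A ≤ sSup (famA P) := le_sSup h1
    rw [cj_le_iff, inv_inv] at h3
    exact h3
  · rw [cj_le_iff]
    apply sSup_le
    intro A hA
    have h1 : cj g A ≤ sSup (famA (cj g P)) := le_sSup (famA_F2 (MulAut.conj g) P A hA)
    rwa [cj_le_iff] at h1

theorem isConjugacyFunctor_JA [Finite G] (p : ℕ) :
    IsConjugacyFunctor p (thompsonSubgroupAOf : Subgroup G → Subgroup G) := by
  intro P _
  refine ⟨map_subtype_le _, ?_, fun g => JA_cj P g⟩
  intro hne hbot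
  obtain ⟨A, hA⟩ := famA_F4 P
  have hAbot : A = ⊥ := by
    rw [eq_bot_iff, ← hbot, thompsonSubgroupAOf_eq]
    exact le_sSup hA
  apply hne
  rw [eq_bot_iff]
  intro x hx
  have h1 := hA.2.2 (zpowers x) (zpowers_le.2 hx) inferInstance
  rw [hAbot, card_bot] at h1
  have h2 : zpowers x = ⊥ := (card_le_one_iff_eq_bot _).mp h1
  rw [zpowers_eq_bot] at h2
  rw [h2]
  exact one_mem _

/-- Thompson's replacement theorem (all primes), for an abelian normal subgroup `B` of `P`. -/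
theorem replace_abelian [Finite G] {p : ℕ} [Fact p.Prime] (P : Subgroup G) (hP : IsPGroup p P)
    (B : Subgroup G) (hBP : B ≤ P) (hPB : P ≤ normalizer (B : Set G)) (hBc : IsMulCommutative B)
    (A : Subgroup G) (hA : A ∈ famA P) (hnot : ¬ B ≤ normalizer (A : Set G)) :
    ∃ K ∈ famA P, A ⊓ B < K ⊓ B ∧ K ≤ normalizer (A : Set G) := by
  have hAP := hA.1
  have hAc := hA.2.1
  have hBn : (B.subgroupOf P).Normal := (normal_subgroupOf_iff_le_normalizer hBP).mpr hPB
  have hBc' : IsMulCommutative (B.subgroupOf P) := inferInstance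
  have hAc' : IsMulCommutative (A.subgroupOf P) := inferInstance
  have h1 : ⁅B.subgroupOf P, B.subgroupOf P⁆ ≤ A.subgroupOf P := by
    rw [commutator_self_eq_bot_iff.mpr hBc']
    exact bot_le
  have h2 : ¬ B.subgroupOf P ≤ normalizer ((A.subgroupOf P : Subgroup P) : Set P) := by
    intro h
    apply hnot
    rw [le_normalizer_iff] at h ⊢
    intro b hb a ha
    exact h ⟨b, hBP hb⟩ hb ⟨a, hAP ha⟩ ha
  obtain ⟨b, hb, hbN, hbA⟩ :=
    Cfsg.Agent.S0649.result hP (B.subgroupOf P) (fun _ => hBc') (A.subgroupOf P) hAc' h1 h2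
  obtain ⟨k1, k2, -, k4, -, -, k7, -⟩ :=
    Cfsg.Agent.S0650.result hP (B.subgroupOf P) (fun _ => hBc') (A.subgroupOf P) hAc' h1 h2 b hb hbN hbA
  set K := ((A.subgroupOf P ⊓ (A.subgroupOf P).map (MulAut.conj (b⁻¹)).toMonoidHom) ⊔
    closure {g : P | ∃ a ∈ A.subgroupOf P, g = a * b⁻¹ * a⁻¹ * b}) with hK
  refine ⟨K.map P.subtype, ⟨map_subtype_le K, inferInstance, ?_⟩, ?_, ?_⟩
  · intro B' hB' hB'c
    rw [card_map_subtype, k1, card_subgroupOf hAP]
    exact hA.2.2 B' hB' hB'c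
  · have := (map_lt_map_iff_of_injective P.subtype_injective).mpr k4
    rwa [map_inf _ _ _ P.subtype_injective, map_inf _ _ _ P.subtype_injective,
      map_subgroupOf hAP, map_subgroupOf hBP] at this
  · rw [le_normalizer_iff] at k7 ⊢
    rintro _ ⟨k, hk, rfl⟩ a ha
    exact k7 k hk ⟨a, hAP ha⟩ ha

section local_analysis

variable [Finite G] {p : ℕ} [Fact p.Prime] {H T : Subgroup G}

theorem exists_not_le_core (hT : IsSyl p T H)
    (hn : ¬ H ≤ normalizer ((thompsonSubgroupAOf T : Subgroup G) : Set G)) :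
    ∃ B ∈ famA T, ¬ B ≤ pCoreOf p H := by
  by_contra hcon
  push Not at hcon
  apply hn
  have hRT : pCoreOf p H ≤ T := pCoreOf_le_isSyl hT
  obtain ⟨A, hA⟩ := famA_F4 T
  have h1 : famA T = famA (pCoreOf p H) := by
    apply Set.Subset.antisymm
    · intro B hB
      exact famA_F3' T _ B hB (hcon B hB) hRT
    · exact famA_F3 T _ A hA (hcon A hA) hRT
  have h2 : thompsonSubgroupAOf T = thompsonSubgroupAOf (pCoreOf p H) := by
    rw [thompsonSubgroupAOf_eq, thompsonSubgroupAOf_eq, h1]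
  rw [h2]
  exact (le_normalizer_pCoreOf H).trans
    (normalizer_le_normalizer_W (isConjugacyFunctor_JA p) (pCoreOf_isPGroup H))

theorem zcore_comm (H : Subgroup G) :
    IsMulCommutative ↥(pCoreOf p H ⊓ centralizer (pCoreOf p H : Set G)) :=
  le_centralizer_iff_isMulCommutative.mp (inf_le_right.trans (centralizer_le inf_le_left))

theorem le_normalizer_zcore (H : Subgroup G) :
    H ≤ normalizer ((pCoreOf p H ⊓ centralizer (pCoreOf p H : Set G) : Subgroup G) : Set G) := by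
  intro k hk
  have hk' := mem_normalizer_iff_cj.1 (le_normalizer_pCoreOf (p := p) H hk)
  rw [mem_normalizer_iff_cj, cj_inf, ← centralizer_cj, hk']

theorem exists_extremal (hT : IsSyl p T H)
    (hn : ¬ H ≤ normalizer ((thompsonSubgroupAOf T : Subgroup G) : Set G)) :
    ∃ B ∈ famA T, ¬ B ≤ pCoreOf p H ∧
      (pCoreOf p H ⊓ centralizer (pCoreOf p H : Set G)) ≤ normalizer (B : Set G) ∧
      ∀ K ∈ famA T, ¬ K ≤ pCoreOf p H →
        Nat.card (K ⊓ (pCoreOf p H ⊓ centralizer (pCoreOf p H : Set G)) : Subgroup G) ≤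
          Nat.card (B ⊓ (pCoreOf p H ⊓ centralizer (pCoreOf p H : Set G)) : Subgroup G) := by
  set R := pCoreOf p H with hR
  set V := R ⊓ centralizer (R : Set G) with hV
  have hRT : R ≤ T := pCoreOf_le_isSyl hT
  obtain ⟨B0, hB0, hB0R⟩ := exists_not_le_core hT hn
  have hne : Nonempty {B : Subgroup G // B ∈ famA T ∧ ¬ B ≤ R} := ⟨⟨B0, hB0, hB0R⟩⟩
  obtain ⟨⟨B, hB, hBR⟩, hmax⟩ := Finite.exists_max
    (fun B : {B : Subgroup G // B ∈ famA T ∧ ¬ B ≤ R} => Nat.card ((B : Subgroup G) ⊓ V : Subgroup G))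
  refine ⟨B, hB, hBR, ?_, fun K hK hKR => hmax ⟨K, hK, hKR⟩⟩
  by_contra hnot
  obtain ⟨K, hK, hlt, hKN⟩ := replace_abelian T hT.2.1 V (inf_le_left.trans hRT)
    (hT.1.trans (le_normalizer_zcore H)) (zcore_comm H) B hB hnot
  have hKR : K ≤ R := by
    by_contra hKR
    have h1 := hmax ⟨K, hK, hKR⟩
    exact absurd h1 (not_le.mpr (card_lt_of_lt hlt))
  apply hnot
  refine le_trans ?_ hKN
  intro v hv
  exact mem_of_mem_centralizer hK (hRT hv.1) (centralizer_le hKR hv.2)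

theorem quad_of_le_normalizer {B V : Subgroup G} (hBc : IsMulCommutative B)
    (hVB : V ≤ normalizer (B : Set G)) :
    ∀ a ∈ B, ∀ b ∈ B, ∀ u ∈ V, a * (b * u * b⁻¹ * u⁻¹) * a⁻¹ = b * u * b⁻¹ * u⁻¹ := by
  intro a ha b hb u hu
  have h1 : u * b⁻¹ * u⁻¹ ∈ B := (le_normalizer_iff.mp hVB) u hu b⁻¹ (B.inv_mem hb)
  have h2 : b * u * b⁻¹ * u⁻¹ ∈ B := by
    have := B.mul_mem hb h1
    have e : b * (u * b⁻¹ * u⁻¹) = b * u * b⁻¹ * u⁻¹ := by group
    rwa [e] at this
  have h3 : a * (b * u * b⁻¹ * u⁻¹) = (b * u * b⁻¹ * u⁻¹) * a := setLike_mul_comm (s := B) ha h2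
  rw [h3, mul_inv_cancel_right]

/-- some element of `T` outside `O_p(H)` acts quadratically on `Z(O_p(H))` -/
theorem exists_quad_element (hT : IsSyl p T H)
    (hn : ¬ H ≤ normalizer ((thompsonSubgroupAOf T : Subgroup G) : Set G)) :
    ∃ g : G, g ∈ T ∧ g ∉ pCoreOf p H ∧
      ⁅⁅pCoreOf p H ⊓ centralizer (pCoreOf p H : Set G), zpowers g⁆, zpowers g⁆ = ⊥ := by
  obtain ⟨B, hB, hBR, hVB, -⟩ := exists_extremal hT hn
  obtain ⟨g, hgB, hgR⟩ := SetLike.not_le_iff_exists.mp hBR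
  refine ⟨g, hB.1 hgB, hgR, ?_⟩
  have hgB' : zpowers g ≤ B := zpowers_le.mpr hgB
  have h1 : ⁅pCoreOf p H ⊓ centralizer (pCoreOf p H : Set G), zpowers g⁆ ≤ B := by
    rw [commutator_le]
    intro v hv x hx
    have h2 : v * x * v⁻¹ ∈ B := (le_normalizer_iff.mp hVB) v hv x (hgB' hx)
    rw [commutatorElement_def]
    exact B.mul_mem h2 (B.inv_mem (hgB' hx))
  rw [eq_bot_iff]
  refine (commutator_mono h1 hgB').trans ?_
  rw [commutator_self_eq_bot_iff.mpr hB.2.1]

end local_analysis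

section two

open Cfsg.Agent.Lib.Helper57Replace

variable [Finite G] {H T B : Subgroup G}

theorem conj_eq_iff_mem (b y : G) : b * y * b⁻¹ = y ↔ b ∈ centralizer ({y} : Set G) := by
  rw [mem_centralizer_singleton_iff, mul_inv_eq_iff_eq_mul]

/-- An extremal member of `𝒜(T)` either has no orbit of length two on `Z(O_2(H))`, or there is a
"transvection" in `T` outside `O_2(H)`. -/
theorem good_or_transvection (hT : IsSyl 2 T H) (hB : B ∈ famA T) (hBR : ¬ B ≤ pCoreOf 2 H)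
    (hmax : ∀ K ∈ famA T, ¬ K ≤ pCoreOf 2 H →
      Nat.card (K ⊓ (pCoreOf 2 H ⊓ centralizer (pCoreOf 2 H : Set G)) : Subgroup G) ≤
        Nat.card (B ⊓ (pCoreOf 2 H ⊓ centralizer (pCoreOf 2 H : Set G)) : Subgroup G)) :
    (∀ y ∈ pCoreOf 2 H ⊓ centralizer (pCoreOf 2 H : Set G), ∀ e ∈ B,
      (∀ b ∈ B, b * y * b⁻¹ = y ∨ (e⁻¹ * b) * y * (e⁻¹ * b)⁻¹ = y) → e * y * e⁻¹ = y) ∨
    ∃ a ∈ T, a ∉ pCoreOf 2 H ∧ ∀ v ∈ pCoreOf 2 H ⊓ centralizer (pCoreOf 2 H : Set G),
      ∀ w ∈ pCoreOf 2 H ⊓ centralizer (pCoreOf 2 H : Set G),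
        a * v * a⁻¹ = v ∨ a * w * a⁻¹ = w ∨ a * (v * w) * a⁻¹ = v * w := by
  have hp : Fact (Nat.Prime 2) := ⟨Nat.prime_two⟩
  set R := pCoreOf 2 H with hR
  set V := R ⊓ centralizer (R : Set G) with hV
  have hRT : R ≤ T := pCoreOf_le_isSyl hT
  have hVc : IsMulCommutative V := zcore_comm H
  have hBc := hB.2.1
  by_cases hgood : ∀ y ∈ V, ∀ e ∈ B,
      (∀ b ∈ B, b * y * b⁻¹ = y ∨ (e⁻¹ * b) * y * (e⁻¹ * b)⁻¹ = y) → e * y * e⁻¹ = y
  · exact Or.inl hgood
  right
  push Not at hgood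
  obtain ⟨y, hy, e, he, hall, hey⟩ := hgood
  simp only [conj_eq_iff_mem] at hall
  rw [Ne, conj_eq_iff_mem] at hey
  set C := centralizer ({y} : Set G) with hC
  set B1 := B ⊓ C with hB1
  have hB1B : B1 ≤ B := inf_le_left
  have hidx : B1.relIndex B = 2 := by
    rw [relIndex_eq_two_iff]
    refine ⟨e⁻¹, B.inv_mem he, fun b hb => ?_⟩
    by_cases hbC : b ∈ C
    · refine Or.inr ⟨⟨hb, hbC⟩, fun h => hey ?_⟩
      have h1 : b⁻¹ * (b * e⁻¹) ∈ C := C.mul_mem (C.inv_mem hbC) h.2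
      rw [inv_mul_cancel_left] at h1
      exact (inv_mem_iff).mp h1
    · refine Or.inl ⟨⟨B.mul_mem hb (B.inv_mem he), ?_⟩, fun h => hbC h.2⟩
      have h1 := (hall b hb).resolve_left hbC
      have h2 : b * e⁻¹ = e⁻¹ * b := setLike_mul_comm (s := B) hb (B.inv_mem he)
      rw [h2]
      exact h1
  have hcard : Nat.card B = 2 * Nat.card B1 := by rw [← relIndex_mul_card' hB1B, hidx]
  have hyB : y ∉ B := by
    intro h
    apply hey
    rw [hC, mem_centralizer_singleton_iff]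
    exact setLike_mul_comm (s := B) he h
  set Bs := B1 ⊔ zpowers y with hBs
  have hB1c : IsMulCommutative B1 := isMulCommutative_of_le hB1B hBc
  have hBsc : IsMulCommutative Bs := by
    apply comm_sup_zpowers B1 hB1c y
    rw [mem_centralizer_iff]
    intro h hh
    exact mem_centralizer_singleton_iff.mp hh.2
  have hyT : y ∈ T := hRT hy.1
  have hBsT : Bs ≤ T := sup_le (hB1B.trans hB.1) (zpowers_le.mpr hyT)
  have hyBs : y ∈ Bs := (le_sup_right : zpowers y ≤ Bs) (mem_zpowers y)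
  have hlt : B1 < Bs := by
    refine lt_of_le_of_ne le_sup_left ?_
    intro h
    apply hyB
    apply hB1B
    rw [h]
    exact hyBs
  have hcard2 : 2 * Nat.card B1 ≤ Nat.card Bs := by
    obtain ⟨k, hk⟩ := card_dvd_of_le hlt.le
    have h1 := card_lt_of_lt hlt
    have hpos : 0 < Nat.card B1 := Nat.card_pos
    rw [hk] at h1 ⊢
    have h2 : 1 < k := by
      by_contra h3
      have h4 : k ≤ 1 := not_lt.mp h3
      have h5 : Nat.card B1 * k ≤ Nat.card B1 * 1 := Nat.mul_le_mul_left _ h4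
      omega
    calc 2 * Nat.card B1 = Nat.card B1 * 2 := by ring
      _ ≤ Nat.card B1 * k := Nat.mul_le_mul_left _ h2
  have hBsfam : Bs ∈ famA T :=
    ⟨hBsT, hBsc, fun B' hB' hc => (hB.2.2 B' hB' hc).trans (by omega)⟩
  have hVlt : Nat.card (B ⊓ V : Subgroup G) < Nat.card (Bs ⊓ V : Subgroup G) := by
    apply card_lt_of_lt
    rw [SetLike.lt_iff_le_and_exists]
    refine ⟨?_, y, ⟨hyBs, hy⟩, fun h => hyB h.1⟩
    intro x hx
    have hxC : x ∈ C := by
      rw [hC, mem_centralizer_singleton_iff]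
      exact setLike_mul_comm (s := V) hx.2 hy
    exact ⟨le_sup_left (a := B1) ⟨hx.1, hxC⟩, hx.2⟩
  have hBsR : Bs ≤ R := by
    by_contra h
    have := hmax Bs hBsfam h
    omega
  have hB1R : B1 ≤ R := le_sup_left.trans hBsR
  obtain ⟨a, haB, haR⟩ := SetLike.not_le_iff_exists.mp hBR
  refine ⟨a, hB.1 haB, haR, ?_⟩
  set D := V ⊔ B1 with hD
  have hDc : IsMulCommutative D := by
    apply comm_sup V B1 hVc hB1c
    intro v hv b hb
    exact ((mem_centralizer_iff.mp hv.2) b (hB1R hb)).symm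
  have hDT : D ≤ T := sup_le (inf_le_left.trans hRT) (hB1B.trans hB.1)
  have hDcard : Nat.card D ≤ 2 * Nat.card B1 := by
    rw [← hcard]
    exact hB.2.2 D hDT hDc
  have hB1D : B1 ≤ D := le_sup_right
  have hrel : B1.relIndex D ≤ 2 := by
    have h1 := relIndex_mul_card' hB1D
    rw [← h1] at hDcard
    exact Nat.le_of_mul_le_mul_right hDcard Nat.card_pos
  have hrel0 : B1.relIndex D ≠ 0 := by
    intro h0
    have h1 := relIndex_mul_card' hB1D
    rw [h0, zero_mul] at h1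
    exact (Nat.card_pos (α := D)).ne h1
  have key : ∀ v ∈ V, ∀ w ∈ V, v ∈ B1 ∨ w ∈ B1 ∨ v * w ∈ B1 := by
    intro v hv w hw
    have hvD : v ∈ D := le_sup_left (a := V) hv
    have hwD : w ∈ D := le_sup_left (a := V) hw
    have h12 : B1.relIndex D = 1 ∨ B1.relIndex D = 2 := by omega
    rcases h12 with h1 | h2
    · left
      exact (relIndex_eq_one.mp h1) hvD
    · have h3 := mul_mem_iff_of_index_two (H := B1.subgroupOf D) h2 (a := ⟨v, hvD⟩) (b := ⟨w, hwD⟩)
      simp only [mem_subgroupOf] at h3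
      by_cases hv1 : v ∈ B1
      · exact Or.inl hv1
      · by_cases hw1 : w ∈ B1
        · exact Or.inr (Or.inl hw1)
        · exact Or.inr (Or.inr (h3.mpr ⟨fun h => absurd h hv1, fun h => absurd h hw1⟩))
  have hfix : ∀ x ∈ B1, a * x * a⁻¹ = x := by
    intro x hx
    have h1 : a * x = x * a := setLike_mul_comm (s := B) haB (hB1B hx)
    rw [h1, mul_inv_cancel_right]
  intro v hv w hw
  rcases key v hv w hw with h | h | h
  · exact Or.inl (hfix v h)
  · exact Or.inr (Or.inl (hfix w h))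
  · exact Or.inr (Or.inr (hfix _ h))

end two

end Cfsg.Agent.Lib.Helper30WC1
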