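import Cfsg.Agent.Lib.Helper30WC1
import Cfsg.Agent.Lib.Helper30WC2
import Cfsg.Agent.Lib.Helper30WC3

set_option autoImplicit false
set_option linter.unusedSectionVars false

/-! Glauberman: in an `S₄`-free group, elements of `S ∩ Z(N(J(S)))` are weakly closed (`p = 2`). -/

namespace Cfsg.Agent.Lib.Helper30WC4

open Cfsg Subgroup
open Cfsg.Agent.Lib.Helper14Family Cfsg.Agent.Lib.Helper14FamProps
open Cfsg.Agent.Lib.Helper39Sylow Cfsg.Agent.Lib.Helper39Fusion Cfsg.Agent.Lib.Helper39WellPlaced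
  Cfsg.Agent.Lib.Helper39Rel Cfsg.Agent.Lib.Helper39CoreOf
open Cfsg.Agent.Lib.Helper30WC1 Cfsg.Agent.Lib.Helper30WC2 Cfsg.Agent.Lib.Helper30WC3

universe u

variable {G : Type u} [Group G]

/-- `e` centralizes every chief factor of `H` inside `V` -/
def G1 (H V : Subgroup G) (e : G) : Prop :=
  ∀ e' : H, (e' : G) = e → ∀ U V' : Subgroup ↥H, IsChiefFactor U V' → U.map H.subtype ≤ V →
    ∀ u ∈ U, e' * u * e'⁻¹ * u⁻¹ ∈ V'

/-- `B` is abelian, normalized by `V`, without orbits of length two on `V` -/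
def G2 (V B : Subgroup G) : Prop :=
  IsMulCommutative B ∧ V ≤ normalizer (B : Set G) ∧
    ∀ y ∈ V, ∀ e ∈ B, (∀ b ∈ B, b * y * b⁻¹ = y ∨ (e⁻¹ * b) * y * (e⁻¹ * b)⁻¹ = y) → e * y * e⁻¹ = y

theorem G1.conj {H V : Subgroup G} {e : G} (h : G1 H V e) {k : G} (hk : k ∈ H) :
    G1 H V (k * e * k⁻¹) := by
  intro e'' he'' U V' hch hUV u hu
  set k' : H := ⟨k, hk⟩ with hk'
  have h1 : ((k'⁻¹ * e'' * k' : H) : G) = e := by
    change k⁻¹ * (e'' : G) * k = e
    rw [he'']; group
  have h2 := h _ h1 U V' hch hUV (k'⁻¹ * u * k'⁻¹⁻¹) (hch.2.1.conj_mem u hu _)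
  have h3 := hch.2.2.1.conj_mem _ h2 k'
  have h4 : k' * (k'⁻¹ * e'' * k' * (k'⁻¹ * u * k'⁻¹⁻¹) * (k'⁻¹ * e'' * k')⁻¹ * (k'⁻¹ * u * k'⁻¹⁻¹)⁻¹) * k'⁻¹
      = e'' * u * e''⁻¹ * u⁻¹ := by group
  rwa [h4] at h3

theorem G2.conj {V B : Subgroup G} (h : G2 V B) {k : G} (hk : k ∈ normalizer (V : Set G)) :
    G2 V (cj k B) := by
  obtain ⟨hc, hn, hβ⟩ := h
  have hkV : cj k V = V := mem_normalizer_iff_cj.1 hk
  refine ⟨inferInstance, ?_, ?_⟩
  · rw [normalizer_cj, ← hkV]
    exact cj_mono hn
  · rintro y hy _ ⟨e, he, rfl⟩ hall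
    change k * e * k⁻¹ * y * (k * e * k⁻¹)⁻¹ = y
    have hy' : k⁻¹ * y * k ∈ V := by
      rw [← hkV] at hy
      exact mem_cj.mp hy
    have h1 := hβ (k⁻¹ * y * k) hy' e he (by
      intro b hb
      rcases hall (k * b * k⁻¹) (conj_mem_cj hb) with h | h
      · left
        calc b * (k⁻¹ * y * k) * b⁻¹ = k⁻¹ * (k * b * k⁻¹ * y * (k * b * k⁻¹)⁻¹) * k := by group
          _ = k⁻¹ * y * k := by rw [h]
      · right
        change (k * e * k⁻¹)⁻¹ * (k * b * k⁻¹) * y * ((k * e * k⁻¹)⁻¹ * (k * b * k⁻¹))⁻¹ = y at h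
        calc e⁻¹ * b * (k⁻¹ * y * k) * (e⁻¹ * b)⁻¹
            = k⁻¹ * ((k * e * k⁻¹)⁻¹ * (k * b * k⁻¹) * y * ((k * e * k⁻¹)⁻¹ * (k * b * k⁻¹))⁻¹) * k := by
              group
          _ = k⁻¹ * y * k := by rw [h])
    calc k * e * k⁻¹ * y * (k * e * k⁻¹)⁻¹ = k * (e * (k⁻¹ * y * k) * e⁻¹) * k⁻¹ := by group
      _ = y := by rw [h1]; group

theorem claim2 [Finite G] (hS4 : ¬ Involves (Equiv.Perm (Fin 4)) G) :
    ∀ (n : ℕ) (H : Subgroup G), Nat.card H = n → ∀ T : Subgroup G, IsSyl 2 T H → ∀ A : Subgroup G,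
      A ≤ T ⊓ centralizer (T : Set G) →
      H ⊓ normalizer ((thompsonSubgroupAOf T : Subgroup G) : Set G) ≤ centralizer (A : Set G) →
      ∀ h ∈ H, cj h A ≤ T → h ∈ centralizer (A : Set G) := by
  have hp : Fact (Nat.Prime 2) := ⟨Nat.prime_two⟩
  have hW : IsConjugacyFunctor 2 (thompsonSubgroupAOf : Subgroup G → Subgroup G) :=
    isConjugacyFunctor_JA 2
  have hWZ : ∀ P : Subgroup G, IsPGroup 2 ↥P →
      P ⊓ centralizer ((P : Subgroup G) : Set G) ≤ thompsonSubgroupAOf P := fun P _ => center_le_JA P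
  intro n
  induction n using Nat.strong_induction_on with
  | _ n ih =>
  intro H hHn T hT A hAZ hND h hh hhA
  by_contra hhD
  set D := centralizer (A : Set G) with hD
  have hDN : D ≤ normalizer (A : Set G) := centralizer_le_normalizer _
  obtain ⟨U, hUT, hAU, hsyl, hN', x, hx, hxD⟩ :=
    exists_wp_witness hT hW hWZ hAZ hDN hND ⟨h, hh, hhA, hhD⟩
  have hcardle : Nat.card (H ⊓ normalizer (U : Set G) : Subgroup G) ≤ Nat.card H :=
    card_le_of_le inf_le_left
  rcases Nat.lt_or_ge (Nat.card (H ⊓ normalizer (U : Set G) : Subgroup G)) (Nat.card H) with hlt | hge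
  · apply hxD
    apply ih _ (by omega) (H ⊓ normalizer (U : Set G)) rfl (T ⊓ normalizer (U : Set G)) hsyl
      A _ ((inf_le_inf_right _ inf_le_left).trans hN') x hx
    · have h1 : cj x A ≤ U := by
        have := cj_mono (g := x) hAU
        rwa [mem_normalizer_iff_cj.1 hx.2] at this
      exact h1.trans (le_inf hUT le_normalizer)
    · intro z hz
      have hz' := hAZ hz
      refine ⟨⟨hz'.1, ?_⟩, centralizer_le inf_le_left hz'.2⟩
      exact centralizer_le_normalizer _ (centralizer_le hUT hz'.2)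
  · have hHeq : H ⊓ normalizer (U : Set G) = H := eq_of_le_of_card_ge inf_le_left hge
    have hHN : H ≤ normalizer (U : Set G) := inf_eq_left.1 hHeq
    set R := pCoreOf 2 H with hR
    have hUR : U ≤ R := le_pCoreOf (hUT.trans hT.1) (hT.2.1.to_le hUT) hHN
    have hAR : A ≤ R := hAU.trans hUR
    have hRT : R ≤ T := pCoreOf_le_isSyl hT
    have hRN : H ≤ normalizer (R : Set G) := le_normalizer_pCoreOf H
    have hnotN : ¬ H ≤ normalizer ((thompsonSubgroupAOf T : Subgroup G) : Set G) :=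
      fun hle => hhD (hND ⟨hh, hle hh⟩)
    set V := R ⊓ centralizer (R : Set G) with hV
    have hAV : A ≤ V := le_inf hAR ((hAZ.trans inf_le_right).trans (centralizer_le hRT))
    have hVN : H ≤ normalizer (V : Set G) := le_normalizer_zcore H
    have hVH : V ≤ H := inf_le_left.trans (hRT.trans hT.1)
    have hVc : IsMulCommutative V := zcore_comm H
    have hVp : IsPGroup 2 V := (pCoreOf_isPGroup H).to_le inf_le_left
    let 𝓢 : Set G := {e | e ∈ T ∧ (G1 H V e ∨ ∃ B : Subgroup G, B ≤ T ∧ e ∈ B ∧ G2 V B)}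
    set E := closure 𝓢 with hE
    have hET : E ≤ T := by
      rw [hE, closure_le]
      exact fun e he => he.1
    have hBE : ∀ B : Subgroup G, B ≤ T → G2 V B → ∀ b ∈ B, b ∈ 𝓢 :=
      fun B hBT hB b hb => ⟨hBT hb, Or.inr ⟨B, hBT, hb, hB⟩⟩
    have hwc : ∀ k ∈ H, cj k E ≤ T → cj k E = E := by
      intro k hk hle
      apply cj_eq_of_le_of_finite
      have h1 : cj k E = closure ((MulAut.conj k).toMonoidHom '' 𝓢) := by
        rw [cj, hE, MonoidHom.map_closure]
      rw [h1, closure_le]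
      rintro _ ⟨s, hs, rfl⟩
      apply Subgroup.subset_closure
      refine ⟨hle (conj_mem_cj (Subgroup.subset_closure hs)), ?_⟩
      rcases hs.2 with h2 | ⟨B, hBT, hsB, hB⟩
      · left
        exact h2.conj hk
      · right
        refine ⟨cj k B, ?_, conj_mem_cj hsB, hB.conj (hVN hk)⟩
        refine le_trans (cj_mono ?_) hle
        intro b hb
        exact Subgroup.subset_closure (hBE B hBT hB b hb)
    -- an element of `𝓢` outside `R`
    obtain ⟨g, hg𝓢, hgR⟩ : ∃ g ∈ 𝓢, g ∉ R := by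
      obtain ⟨B0, hB0, hB0R, hVB0, hmax⟩ := exists_extremal hT hnotN
      rcases good_or_transvection hT hB0 hB0R hmax with hgood | ⟨a, haT, haR, htr⟩
      · obtain ⟨g, hgB, hgR⟩ := SetLike.not_le_iff_exists.mp hB0R
        exact ⟨g, hBE B0 hB0.1 ⟨hB0.2.1, hVB0, hgood⟩ g hgB, hgR⟩
      · refine ⟨a, ⟨haT, Or.inl ?_⟩, haR⟩
        rintro a' ha' X Y hch hXV
        have hXV' : ∀ u ∈ X, (u : G) ∈ V := fun u hu => hXV ⟨u, hu, rfl⟩
        apply chief_centralized_of_transvection
          (fun hinv => hS4 (Cfsg.Agent.Lib.Helper24Section.Involves.trans hinv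
            (Cfsg.Agent.Lib.Helper24Section.involves_subgroup H))) hch
        · intro u hu w hw
          exact Subtype.ext (setLike_mul_comm (s := V) (hXV' u hu) (hXV' w hw))
        · have h1 : IsPGroup 2 (V.subgroupOf H) :=
            hVp.comap_of_injective H.subtype H.subtype_injective
          exact h1.to_le (fun u hu => hXV' u hu)
        · obtain ⟨k, hk⟩ := hT.2.1 ⟨a, haT⟩
          refine ⟨k, Subtype.ext ?_⟩
          have h2 := congrArg Subtype.val hk
          simp only [Subgroup.coe_pow, Subgroup.coe_one] at h2 ⊢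
          rw [ha']
          exact h2
        · intro v hv w hw
          rcases htr v (hXV' v hv) w (hXV' w hw) with h3 | h3 | h3
          · left
            apply Subtype.ext
            change (a' : G) * v * (a' : G)⁻¹ = v
            rw [ha']; exact h3
          · right; left
            apply Subtype.ext
            change (a' : G) * w * (a' : G)⁻¹ = w
            rw [ha']; exact h3
          · right; right
            apply Subtype.ext
            change (a' : G) * ((v : G) * w) * (a' : G)⁻¹ = (v : G) * w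
            rw [ha']; exact h3
    have hgE : g ∈ E := Subgroup.subset_closure hg𝓢
    have hlt2 : Nat.card (H ⊓ normalizer (E : Set G) : Subgroup G) < Nat.card H := by
      by_contra hcon
      have hHeq2 : H ⊓ normalizer (E : Set G) = H :=
        eq_of_le_of_card_ge inf_le_left (not_lt.1 hcon)
      have : E ≤ R := le_pCoreOf (hET.trans hT.1) (hT.2.1.to_le hET) (inf_eq_left.1 hHeq2)
      exact hgR (this hgE)
    have hTN : T ≤ normalizer (E : Set G) := by
      intro k hk
      rw [mem_normalizer_iff_cj]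
      apply hwc k (hT.1 hk)
      have := cj_mono (g := k) hET
      rwa [cj_eq_of_mem hk] at this
    have hT2 : IsSyl 2 T (H ⊓ normalizer (E : Set G)) := hT.of_le (le_inf hT.1 hTN) inf_le_left
    have hH2D : H ⊓ normalizer (E : Set G) ≤ D := by
      intro y hy
      apply ih _ (by omega) _ rfl T hT2 A hAZ ((inf_le_inf_right _ inf_le_left).trans hND) y hy
      have := cj_mono (g := y) hAR
      rw [mem_normalizer_iff_cj.1 (hRN hy.1)] at this
      exact this.trans hRT
    have hTD : T ≤ D := by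
      rw [hD, le_centralizer_iff]
      exact hAZ.trans inf_le_right
    have hTM : IsSyl 2 T (H ⊓ D) := hT.of_le (le_inf hT.1 hTD) inf_le_left
    have hfix : ∀ k ∈ H, (∀ a ∈ 𝓢, k⁻¹ * a * k ∈ D) → k ∈ D := by
      intro k hk hka
      have h1 : cj k⁻¹ E ≤ H ⊓ D := by
        have h2 : cj k⁻¹ E = closure ((MulAut.conj k⁻¹).toMonoidHom '' 𝓢) := by
          rw [cj, hE, MonoidHom.map_closure]
        rw [h2, closure_le]
        rintro _ ⟨s, hs, rfl⟩
        have h3 := hka s hs
        refine ⟨?_, by simpa using h3⟩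
        have : k⁻¹ * s * k ∈ H := H.mul_mem (H.mul_mem (H.inv_mem hk) (hT.1 hs.1)) hk
        simpa using this
      obtain ⟨m, hm, hmle⟩ := hTM.exists_conj_le h1 (isPGroup_cj (hT.2.1.to_le hET))
      rw [← cj_mul] at hmle
      have h4 : m * k⁻¹ ∈ H := H.mul_mem hm.1 (H.inv_mem hk)
      have h5 := hwc _ h4 hmle
      have h6 : m * k⁻¹ ∈ D := hH2D ⟨h4, mem_normalizer_iff_cj.2 h5⟩
      have h7 : k = (m * k⁻¹)⁻¹ * m := by group
      rw [h7]
      exact D.mul_mem (D.inv_mem h6) hm.2
    -- apply the abstract theorem in `↥H`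
    have hAn : (V.subgroupOf H).Normal := (normal_subgroupOf_iff_le_normalizer hVH).2 hVN
    have key := central2 (L := ↥H) (V.subgroupOf H)
      (fun a ha b hb => Subtype.ext ((hb.2 a ha.1)))
      (hVp.comap_of_injective H.subtype H.subtype_injective)
      (D.subgroupOf H) (Subtype.val ⁻¹' 𝓢) (fun a ha => hTD ha.1) ?_ ?_ ?_
    · apply hhD
      rw [hD, mem_centralizer_iff]
      intro a ha
      have h1 := key ⟨a, hVH (hAV ha)⟩ (hAV ha) (fun c hc => by
        apply Subtype.ext
        have h2 : a * (c : G) = c * a := hc a ha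
        show (c : G) * a * (c : G)⁻¹ = a
        rw [← h2]; group) ⟨h, hh⟩
      have h3 : h * a * h⁻¹ = a := congrArg Subtype.val h1
      calc a * h = (h * a * h⁻¹) * h := by rw [h3]
        _ = h * a := by group
    · have hle : closure (Subtype.val ⁻¹' 𝓢 : Set ↥H) ≤ T.subgroupOf H := by
        rw [closure_le]
        exact fun a ha => ha.1
      exact (hT.2.1.comap_of_injective H.subtype H.subtype_injective).to_le hle
    · intro l hl
      exact hfix l l.2 (fun a ha => hl ⟨a, hT.1 ha.1⟩ ha)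
    · intro e he
      rcases he.2 with h1 | ⟨B, hBT, heB, hB⟩
      · left
        intro U' V' hch hU' u hu
        exact h1 e rfl U' V' hch (by rw [map_le_iff_le_comap]; exact hU') u hu
      · right
        refine ⟨B.subgroupOf H, heB, fun b hb => hBE B hBT hB b hb, ?_, ?_, ?_⟩
        · intro a ha b hb
          have := hB.1
          exact Subtype.ext (setLike_mul_comm (s := B) ha hb)
        · intro a ha b hb u hu
          exact Subtype.ext (quad_of_le_normalizer hB.1 hB.2.1 a ha b hb u hu)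
        · intro l e' he' hall
          change (l : G)⁻¹ * e' * l ∈ D
          rw [hD, mem_centralizer_iff]
          intro a ha
          have hy : (l : G) * a * (l : G)⁻¹ ∈ V := by
            have h2 := conj_mem_cj (g := (l : G)) (hAV ha)
            rwa [mem_normalizer_iff_cj.1 (hVN l.2)] at h2
          have hconv : ∀ b : G, (l : G)⁻¹ * b * l ∈ D →
              b * ((l : G) * a * (l : G)⁻¹) * b⁻¹ = (l : G) * a * (l : G)⁻¹ := by
            intro b hb
            have h3 : a * ((l : G)⁻¹ * b * l) = (l : G)⁻¹ * b * l * a := hb a ha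
            calc b * ((l : G) * a * (l : G)⁻¹) * b⁻¹
                = (l : G) * (((l : G)⁻¹ * b * l) * a) * (l : G)⁻¹ * b⁻¹ := by group
              _ = (l : G) * (a * ((l : G)⁻¹ * b * l)) * (l : G)⁻¹ * b⁻¹ := by rw [h3]
              _ = (l : G) * a * (l : G)⁻¹ := by group
          have h4 := hB.2.2 _ hy e' he' (by
            intro b hb
            rcases hall ⟨b, hT.1 (hBT hb)⟩ hb with h5 | h5
            · exact Or.inl (hconv b h5)
            · exact Or.inr (hconv _ h5))
          calc a * ((l : G)⁻¹ * e' * l)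
              = (l : G)⁻¹ * ((l : G) * a * (l : G)⁻¹) * e' * l := by group
            _ = (l : G)⁻¹ * ((e' : G) * ((l : G) * a * (l : G)⁻¹) * (e' : G)⁻¹) * e' * l := by rw [h4]
            _ = (l : G)⁻¹ * e' * l * a := by group

end Cfsg.Agent.Lib.Helper30WC4
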