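import Mathlib
import Cfsg.Agent.Lib.Helper31PStable
import Cfsg.Agent.S0044
import Cfsg.Agent.S0009

set_option autoImplicit false

namespace Cfsg.Agent.Lib.Helper31PConstr
open scoped commutatorElement
open Cfsg Cfsg.Agent.Lib.Helper1Fitting

theorem fitting_eq_pCore {G : Type*} [Group G] [Finite G] (p : ℕ) [Fact p.Prime]
    (hO : Cfsg.pPrimeCore p G = ⊥) : Cfsg.fittingSubgroup G = Cfsg.pCore p G := by
  rw [Cfsg.Agent.S0009.result]
  apply le_antisymm
  · apply iSup_le
    intro q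
    by_cases hq : (q : ℕ) = p
    · rw [hq]
    · have h1 : Cfsg.pCore (q : ℕ) G ≤ Cfsg.pPrimeCore p G := by
        apply le_pPrimeCore (Cfsg.Agent.Lib.Helper1Fitting.pCore_normal _)
        have : Fact (q : ℕ).Prime := ⟨q.2⟩
        obtain ⟨n, hn⟩ := (IsPGroup.iff_card).1 (Cfsg.Agent.Lib.Helper1Fitting.pCore_isPGroup (G := G) (q : ℕ))
        rw [hn]
        apply Nat.Coprime.pow_left
        exact (Nat.coprime_primes q.2 Fact.out).2 hq
      rw [hO] at h1
      exact h1.trans bot_le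
  · exact le_iSup (fun q : Nat.Primes => Cfsg.pCore (q : ℕ) G) ⟨p, Fact.out⟩

/-- Hall–Higman 1.2.3 for solvable groups. -/
theorem centralizer_pCore_le {G : Type*} [Group G] [Finite G] [Group.IsSolvable G] (p : ℕ)
    [Fact p.Prime] (hO : Cfsg.pPrimeCore p G = ⊥) :
    Subgroup.centralizer (Cfsg.pCore p G : Set G) ≤ Cfsg.pCore p G := by
  have := Cfsg.Agent.S0044.result (G := G)
  rwa [fitting_eq_pCore p hO] at this

/-- If `c = [k,t]` commutes with `k`, `c ^ n = 1` and `n` is prime to the order of `k` then `k`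
commutes with `t`. -/
theorem commute_of_coprime_comm {G : Type*} [Group G] {k t : G} {n : ℕ}
    (hkc : Commute k (k * t * k⁻¹ * t⁻¹)) (hc : (k * t * k⁻¹ * t⁻¹) ^ n = 1)
    (hn : (orderOf k).Coprime n) : k * t = t * k := by
  set c := k * t * k⁻¹ * t⁻¹ with hcdef
  have hconj : ∀ m : ℕ, k ^ m * t * (k ^ m)⁻¹ = c ^ m * t := by
    intro m
    induction m with
    | zero => simp
    | succ m ihm =>
      have e1 : k ^ (m + 1) * t * (k ^ (m + 1))⁻¹ = k * (k ^ m * t * (k ^ m)⁻¹) * k⁻¹ := by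
        rw [pow_succ']; group
      rw [e1, ihm, ← mul_assoc, (hkc.pow_right m).eq, pow_succ, mul_assoc (c ^ m),
        mul_assoc (c ^ m), mul_assoc (c ^ m)]
      congr 1
      rw [hcdef]; group
  have h1 := hconj (orderOf k)
  rw [pow_orderOf_eq_one] at h1
  have h2 : c ^ orderOf k = 1 := by
    have : c ^ orderOf k * t = 1 * t := by rw [← h1]; group
    exact mul_right_cancel this
  have h3 : c = 1 := by
    have d1 := orderOf_dvd_of_pow_eq_one h2
    have d2 := orderOf_dvd_of_pow_eq_one hc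
    have := Nat.dvd_gcd d1 d2
    rw [Nat.Coprime.gcd_eq_one hn] at this
    exact orderOf_eq_one_iff.1 (Nat.dvd_one.1 this)
  rw [hcdef, mul_inv_eq_one, mul_inv_eq_iff_eq_mul] at h3
  exact h3

/-- A subgroup all of whose `p'`-elements are trivial is a `p`-group. -/
theorem isPGroup_of_no_pPrime {G : Type*} [Group G] [Finite G] (p : ℕ) [Fact p.Prime]
    (C : Subgroup G) (h : ∀ k ∈ C, (orderOf k).Coprime p → k = 1) : IsPGroup p C := by
  intro g
  have hp := (Fact.out : p.Prime)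
  obtain ⟨e, m, hm, hn⟩ := Nat.exists_eq_pow_mul_and_not_dvd (orderOf_pos (g : G)).ne' p hp.ne_one
  refine ⟨e, Subtype.ext ?_⟩
  have h1 : ((g : G) ^ p ^ e) ^ m = 1 := by rw [← pow_mul, ← hn, pow_orderOf_eq_one]
  exact h _ (Subgroup.pow_mem _ g.2 _) (Nat.Coprime.coprime_dvd_left (orderOf_dvd_of_pow_eq_one h1)
    ((Nat.Prime.coprime_iff_not_dvd hp).2 hm).symm)

end Cfsg.Agent.Lib.Helper31PConstr
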