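import Cfsg.Agent.Lib.Helper24BG2
import Cfsg.Agent.S0118
import Mathlib.GroupTheory.Focal

/-!
Towards B-G 9.5 (`A ∈ SCN_3(P)` lies in a unique maximal subgroup), part A: the transfer step.
In a minimal simple group of odd order, a Sylow `p`-subgroup `P` lies in `N(Z(J(P)))'`, and every
abelian normal subgroup `A` of `P` lies in a subgroup `T ≤ P` with `T ≤ N(T)'`.
-/

set_option autoImplicit false
open Cfsg

namespace Cfsg.Agent.Lib.Helper31UniqA

open Subgroup
open scoped commutatorElement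
open Cfsg.Agent.Lib.Helper30Trans
open Cfsg.Agent.Lib.Helper24BG
open Cfsg.Agent.Lib.Helper37Cores
open Cfsg.Agent.Lib.Helper31ZJe

universe u
variable {G : Type u} [Group G]

/-- a group of odd order has no section isomorphic to `SL(2,p)`, `p` odd. -/
theorem no_sl2_section [Finite G] (hodd : Odd (Nat.card G)) {p : ℕ} [Fact p.Prime] (hp : p ≠ 2) :
    ¬ ∃ (H K : Subgroup G) (hK : (K.subgroupOf H).Normal),
      Nonempty ((H ⧸ K.subgroupOf H) ≃* Matrix.SpecialLinearGroup (Fin 2) (ZMod p)) := by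
  rintro ⟨H, K, hK, ⟨e⟩⟩
  have h1 : (-1 : Matrix.SpecialLinearGroup (Fin 2) (ZMod p)) ≠ 1 := by
    intro h
    have h2 := congrArg (fun M : Matrix.SpecialLinearGroup (Fin 2) (ZMod p) => (M : Matrix (Fin 2) (Fin 2) (ZMod p)) 0 0) h
    simp at h2
    have h3 : (2 : ZMod p) = 0 := by
      have : (1 : ZMod p) + 1 = 0 := by
        nth_rewrite 1 [← h2]
        ring
      rw [← this]; norm_num
    have h4 : ((2 : ℕ) : ZMod p) = 0 := by exact_mod_cast h3
    rw [ZMod.natCast_eq_zero_iff] at h4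
    exact hp ((Nat.prime_dvd_prime_iff_eq Fact.out Nat.prime_two).mp h4)
  have h2 : (-1 : Matrix.SpecialLinearGroup (Fin 2) (ZMod p)) ^ 2 = 1 := by
    rw [sq]; simp
  have h3 : orderOf (e.symm (-1)) = 2 := by
    apply orderOf_eq_prime
    · rw [← map_pow, h2, map_one]
    · intro h
      apply h1
      have := congrArg e h
      simpa using this
  have h4 : 2 ∣ Nat.card (H ⧸ K.subgroupOf H) := h3 ▸ orderOf_dvd_natCard _
  have h5 : Nat.card (H ⧸ K.subgroupOf H) ∣ Nat.card H := by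
    rw [← Subgroup.index_eq_card]
    exact Subgroup.index_dvd_card _
  have h6 : 2 ∣ Nat.card G := (h4.trans h5).trans (card_subgroup_dvd_card H)
  exact (Nat.not_even_iff_odd.mpr hodd) (even_iff_two_dvd.mpr h6)

theorem commutator_eq_top (hG : IsMinSimpleOddOrder G) : _root_.commutator G = ⊤ := by
  have hs := hG.2.1
  rcases hs.eq_bot_or_eq_top_of_normal (_root_.commutator G) inferInstance with h | h
  · exfalso
    apply hG.2.2.1
    refine ⟨⟨fun x y => ?_⟩⟩
    have h1 : ⁅x, y⁆ ∈ _root_.commutator G :=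
      commutator_mem_commutator (mem_top x) (mem_top y)
    rw [h, mem_bot] at h1
    exact commutatorElement_eq_one_iff_mul_comm.mp h1
  · exact h

variable [Finite G] {p : ℕ} [Fact p.Prime]

/-- `P ≤ N(Z(J(P)))'`. -/
theorem sylow_le_derived (hG : IsMinSimpleOddOrder G) (hp2 : p ≠ 2) (P : Sylow p G) :
    (P : Subgroup G) ≤ ⁅normalizer (ZE p (P : Subgroup G) : Set G),
      normalizer (ZE p (P : Subgroup G) : Set G)⁆ := by
  have h1 : (P : Subgroup G) = (P : Subgroup G).focalSubgroup := by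
    rw [← commutator_inf_eq_focalSubgroup, commutator_eq_top hG, top_inf_eq]
  have hPN : (P : Subgroup G) ≤ normalizer (ZE p (P : Subgroup G) : Set G) :=
    le_normalizer.trans (norm_le_norm_ZE p (P : Subgroup G))
  rw [h1] 
  conv_lhs => rw [focalSubgroup_def]
  rw [← h1, closure_le]
  rintro g ⟨hgP, x, hx, u, rfl⟩
  have hux : u * x * u⁻¹ ∈ (P : Subgroup G) := by
    have : u * x * u⁻¹ = (x⁻¹ * ⁅x, u⁆)⁻¹ := by rw [commutatorElement_def]; group
    rw [this]
    exact inv_mem (mul_mem (inv_mem hx) hgP)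
  obtain ⟨n, hn, hna⟩ := Cfsg.Agent.S0118.result hp2 (no_sl2_section hG.1 hp2) P {x}
    (by rintro _ rfl; exact hx) u⁻¹ (by
      rintro _ ⟨_, rfl, rfl⟩
      show u⁻¹⁻¹ * _ * u⁻¹ ∈ (P : Subgroup G)
      rw [inv_inv]; exact hux)
  have h2 : n⁻¹ * x * n = u * x * u⁻¹ := by simpa using hna x rfl
  rw [centerThompsonOf_eq] at hn
  have h3 : ⁅x, u⁆ = ⁅x, n⁻¹⁆ := by
    rw [commutatorElement_def, commutatorElement_def]
    have : x * u * x⁻¹ * u⁻¹ = x * (u * x * u⁻¹)⁻¹ := by group
    rw [this, ← h2]; group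
  rw [SetLike.mem_coe, h3]
  exact commutator_mem_commutator (hPN hx) (inv_mem hn)


omit [Finite G] [Fact p.Prime] in
/-- `(d y)^m ∈ D y^m` when `y` normalizes `D ∋ d`. -/
theorem mul_pow_mem {D : Subgroup G} {d y : G} (hd : d ∈ D) (hy : y ∈ normalizer (D : Set G)) (m : ℕ) :
    (d * y) ^ m * (y ^ m)⁻¹ ∈ D := by
  induction m with
  | zero => simp
  | succ m ih =>
    have h1 : (d * y) ^ (m + 1) * (y ^ (m + 1))⁻¹ =
        ((d * y) ^ m * (y ^ m)⁻¹) * (y ^ m * d * (y ^ m)⁻¹) := by
      rw [pow_succ, pow_succ]; group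
    rw [h1]
    exact D.mul_mem ih ((mem_normalizer_iff.mp (pow_mem hy m) d).mp hd)

section abstract
variable {H : Type*} [Group H] [Finite H]

open Cfsg.Agent.Lib.Helper31PLength Cfsg.Agent.Lib.Helper30Constrained in
/-- Frattini argument for `T = S ∩ O_{p',p}(H)`. -/
theorem frattini_T (S : Sylow p H) :
    normalizer (((S : Subgroup H) ⊓ pPrimePCore p H : Subgroup H) : Set H) ⊔ pPrimeCore p H = ⊤ := by
  set O := pPrimePCore p H with hO
  have hOn : O.Normal := by rw [hO]; unfold pPrimePCore; infer_instance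
  set T := (S : Subgroup H) ⊓ O with hT
  obtain ⟨PO, hPO⟩ := (S.2.to_le (inf_le_left : T ≤ S)).comap_subtype (K := O) |>.exists_le_sylow
  obtain ⟨S', hS'⟩ := exists_sylow_inf_eq PO
  obtain ⟨g, rfl⟩ := MulAction.exists_smul_eq H S S'
  have hle : T ≤ (PO : Subgroup O).map O.subtype := by
    intro x hx
    exact ⟨⟨x, hx.2⟩, hPO (mem_subgroupOf.mpr hx), rfl⟩
  have hcard : Nat.card ((PO : Subgroup O).map O.subtype) ≤ Nat.card T := by
    rw [hS']
    have h1 : (((g • S : Sylow p H) : Subgroup H) ⊓ O) = T.map (MulAut.conj g).toMonoidHom := by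
      ext x
      rw [mem_inf, Sylow.coe_subgroup_smul, mem_map]
      constructor
      · rintro ⟨h1, h2⟩
        rw [Subgroup.mem_pointwise_smul_iff_inv_smul_mem] at h1
        refine ⟨g⁻¹ * x * g, ⟨by simp [MulAut.smul_def] at h1; exact h1, ?_⟩, by simp [mul_assoc]⟩
        have := hOn.conj_mem x h2 g⁻¹
        simpa using this
      · rintro ⟨y, ⟨hy1, hy2⟩, rfl⟩
        refine ⟨?_, by simpa using hOn.conj_mem y hy2 g⟩
        rw [Subgroup.mem_pointwise_smul_iff_inv_smul_mem]
        simp [MulAut.smul_def, mul_assoc]; exact hy1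
    rw [h1, card_map_of_injective (MulAut.conj g).injective]
  have hTeq : T = (PO : Subgroup O).map O.subtype := eq_of_le_of_card_ge hle hcard
  have h2 := Sylow.normalizer_sup_eq_top PO
  rw [← hTeq] at h2
  have h3 : O ≤ normalizer (T : Set H) ⊔ pPrimeCore p H := by
    intro o ho
    have h4 := pPrimePCore_le_sup p H S ho
    rw [Cfsg.Agent.Lib.Helper30SZ.mem_sup_iff (by rw [normalizer_eq_top]; exact le_top)] at h4
    obtain ⟨l, hl, s, hs, rfl⟩ := h4
    have hsO : s ∈ O := by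
      have : l⁻¹ * (l * s) ∈ O := mul_mem (inv_mem (pPrimeCore_le_pPrimePCore p H hl)) ho
      simpa using this
    exact mul_mem (mem_sup_right hl) (mem_sup_left (le_normalizer (⟨hs, hsO⟩ : s ∈ T)))
  rw [eq_top_iff, ← h2]
  exact sup_le le_sup_left h3

/-- if `S ≤ H'` then `S ≤ N_H(T)'` for `T = S ∩ O_{p',p}(H)`. -/
theorem le_derived_normalizer (S : Sylow p H) (hS : (S : Subgroup H) ≤ _root_.commutator H) :
    (S : Subgroup H) ≤ ⁅normalizer (((S : Subgroup H) ⊓ pPrimePCore p H : Subgroup H) : Set H),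
      normalizer (((S : Subgroup H) ⊓ pPrimePCore p H : Subgroup H) : Set H)⁆ := by
  set O := pPrimePCore p H with hO
  have hOn : O.Normal := by rw [hO]; unfold pPrimePCore; infer_instance
  set T := (S : Subgroup H) ⊓ O with hT
  set N2 := normalizer (T : Set H) with hN2
  set Y := pPrimeCore p H with hY
  have hfr : N2 ⊔ Y = ⊤ := frattini_T S
  have hSN : (S : Subgroup H) ≤ N2 := by
    refine le_trans (le_inf le_normalizer ?_) inf_normalizer_le_normalizer_inf
    rw [normalizer_eq_top]; exact le_top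
  have hmap : N2.map (QuotientGroup.mk' Y) = ⊤ := by
    have h1 : (N2 ⊔ Y).map (QuotientGroup.mk' Y) = ⊤ := by
      rw [hfr]; exact map_top_of_surjective _ (QuotientGroup.mk'_surjective Y)
    rw [Subgroup.map_sup] at h1
    have h2 : Y.map (QuotientGroup.mk' Y) = ⊥ := QuotientGroup.map_mk'_self Y
    rwa [h2, sup_bot_eq] at h1
  intro x hx
  have h1 : QuotientGroup.mk' Y x ∈ (⁅N2, N2⁆).map (QuotientGroup.mk' Y) := by
    rw [map_commutator, hmap]
    have h2 : x ∈ ⁅(⊤ : Subgroup H), ⊤⁆ := hS hx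
    have h3 := mem_map_of_mem (QuotientGroup.mk' Y) h2
    rw [map_commutator, map_top_of_surjective _ (QuotientGroup.mk'_surjective Y)] at h3
    exact h3
  obtain ⟨d, hd, hdx⟩ := h1
  have hy : d⁻¹ * x ∈ Y := by
    rw [← QuotientGroup.eq_one_iff]
    show QuotientGroup.mk' Y (d⁻¹ * x) = 1
    rw [map_mul, map_inv, hdx]; group
  set y := d⁻¹ * x with hydef
  have hdN : d ∈ N2 := commutator_le_self N2 hd
  have hyN : y ∈ N2 := mul_mem (inv_mem hdN) (hSN hx)
  have hnD : N2 ≤ normalizer ((⁅N2, N2⁆ : Subgroup H) : Set H) :=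
    Cfsg.Agent.Lib.Helper30SZ.le_normalizer_commutator le_normalizer le_normalizer
  have hxdy : x = d * y := by rw [hydef]; group
  obtain ⟨k, hk⟩ := S.2 ⟨x, hx⟩
  have hk' : x ^ p ^ k = 1 := congrArg Subtype.val hk
  have hym : y ^ Nat.card Y = 1 := by
    have := pow_card_eq_one' (x := (⟨y, hy⟩ : Y))
    exact congrArg Subtype.val this
  apply Cfsg.Agent.Lib.Helper30Gen.mem_of_pow_mem hk'
    (Nat.Coprime.pow_left k (card_pPrimeCore_coprime p).symm : (p ^ k).Coprime (Nat.card Y))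
  have := mul_pow_mem hd (hnD hyN) (Nat.card Y)
  rwa [hym, inv_one, mul_one, ← hxdy] at this

end abstract


theorem ZE_ne_bot {P : Subgroup G} (hP : IsPGroup p P) (h1 : P ≠ ⊥) : ZE p P ≠ ⊥ := by
  have hpp : p.Prime := Fact.out
  have hnt : Nontrivial P := (nontrivial_iff_ne_bot _).mpr h1
  have hc : Nontrivial (center P) := hP.center_nontrivial
  have hcp : IsPGroup p (center P) := hP.to_subgroup _
  obtain ⟨k, hk⟩ := IsPGroup.iff_card.mp hcp
  have hk0 : k ≠ 0 := by
    rintro rfl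
    rw [pow_zero] at hk
    have := (Nat.card_eq_one_iff_unique.mp hk).1
    exact not_subsingleton _ this
  obtain ⟨z, hz⟩ := exists_prime_orderOf_dvd_card' (G := center P) p (hk ▸ dvd_pow_self p hk0)
  have hz1 : ((z : P) : G) ≠ 1 := by
    intro h
    have : z = 1 := Subtype.ext (Subtype.ext h)
    rw [this, orderOf_one] at hz
    exact hpp.one_lt.ne hz
  have hzp : ((z : P) : G) ^ p = 1 := by
    have := pow_orderOf_eq_one z
    rw [hz] at this
    exact congrArg (fun t : center P => ((t : P) : G)) this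
  have hzc : ∀ X : Subgroup G, X ≤ P → ((z : P) : G) ∈ centralizer (X : Set G) := by
    intro X hX
    rw [mem_centralizer_iff]
    intro x hx
    have := (mem_center_iff.mp z.2) ⟨x, hX hx⟩
    exact congrArg Subtype.val this
  obtain ⟨A, hA⟩ := Cfsg.Agent.Lib.Helper14FamProps.famE_F4 p P
  have hzA : ((z : P) : G) ∈ A := mem_of_centralizes hA (z : P).2 (hzc A hA.1) hzp
  intro hbot
  apply hz1
  have : ((z : P) : G) ∈ ZE p P := ⟨le_JE hA hzA, hzc _ (JE_le p P)⟩
  rwa [hbot, mem_bot] at this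

/-- **The transfer step.**  Every abelian normal subgroup `A` of a Sylow `p`-subgroup `P` lies in a
subgroup `T ≤ P` with `T ≤ N(T)'`. -/
theorem exists_T (hG : IsMinSimpleOddOrder G) (P : Sylow p G) (hP1 : (P : Subgroup G) ≠ ⊥)
    {A : Subgroup G} (hAP : A ≤ P) (hAc : IsMulCommutative A)
    (hPA : (P : Subgroup G) ≤ normalizer (A : Set G)) :
    ∃ T : Subgroup G, A ≤ T ∧ T ≤ P ∧
      T ≤ ⁅normalizer (T : Set G), normalizer (T : Set G)⁆ := by
  have hp2 : p ≠ 2 := ne_two hG P.2 hP1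
  set N1 := normalizer (ZE p (P : Subgroup G) : Set G) with hN1
  have hPN : (P : Subgroup G) ≤ N1 := le_normalizer.trans (norm_le_norm_ZE p (P : Subgroup G))
  have hN1top : N1 ≠ ⊤ := norm_ne_top hG (ZE_ne_bot P.2 hP1)
    (pgroup_ne_top hG (P.2.to_le (ZE_le p _)))
  have hs := sol hG hN1top
  have hodd := odd_sub hG N1
  have hPs : IsSyl p (P : Subgroup G) N1 := (isSyl_top P).mono hPN le_top
  have hA1 : A ≤ ppOf p N1 := ab_le_ppOf hs hodd hPs hAP hAc hPA
  have hder := sylow_le_derived hG hp2 P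
  rw [← hN1] at hder
  have hS : ((hPs.toSylow : Sylow p N1) : Subgroup N1) ≤ _root_.commutator N1 := by
    intro x hx
    have hx' : (x : G) ∈ (P : Subgroup G) := mem_subgroupOf.mp hx
    have h1 := hder hx'
    rw [← map_subtype_commutator] at h1
    obtain ⟨y, hy, hyx⟩ := h1
    have : y = x := Subtype.ext hyx
    exact this ▸ hy
  have key := le_derived_normalizer hPs.toSylow hS
  set T' : Subgroup N1 := ((hPs.toSylow : Sylow p N1) : Subgroup N1) ⊓ pPrimePCore p N1 with hT'
  refine ⟨T'.map N1.subtype, ?_, ?_, ?_⟩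
  · intro a ha
    obtain ⟨b, hb, hba⟩ := hA1 ha
    refine ⟨b, ⟨?_, hb⟩, hba⟩
    show b ∈ (P : Subgroup G).subgroupOf N1
    rw [mem_subgroupOf]
    have : (b : G) = a := hba
    rw [this]
    exact hAP ha
  · rintro _ ⟨x, hx, rfl⟩
    exact mem_subgroupOf.mp hx.1
  · rintro _ ⟨x, hx, rfl⟩
    have h1 := key hx.1
    have h2 := mem_map_of_mem N1.subtype h1
    rw [map_commutator] at h2
    exact commutator_mono (le_normalizer_map _) (le_normalizer_map _) h2

end Cfsg.Agent.Lib.Helper31UniqA
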