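import Mathlib
import Cfsg.Agent.S0058
import Cfsg.Agent.Lib.Helper71Solv
import Cfsg.Agent.Lib.Helper3NarrowAut

/-!
Structure lemma for solvable groups in which `p`-elements commute only with `p`-elements:
every `p`-element of the derived subgroup lies in `O_p`.
-/

set_option autoImplicit false
open Cfsg

namespace Cfsg.Agent.Lib.Helper32CN1

/-- `x` is a `p`-element. -/
def PEl {M : Type*} [Monoid M] (p : ℕ) (x : M) : Prop := ∃ k : ℕ, x ^ p ^ k = 1

/-- non-identity `p`-elements commute only with `p`-elements. -/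
def Iso (p : ℕ) (M : Type*) [Group M] : Prop :=
  ∀ x y : M, x ≠ 1 → PEl p x → x * y = y * x → PEl p y

theorem eq_one_of_PEl {M : Type*} [Group M] {p q : ℕ} (hpq : Nat.Coprime p q) {x : M}
    (hp : PEl p x) (hq : PEl q x) : x = 1 := by
  obtain ⟨k, hk⟩ := hp
  obtain ⟨j, hj⟩ := hq
  have h1 := orderOf_dvd_of_pow_eq_one hk
  have h2 := orderOf_dvd_of_pow_eq_one hj
  have h3 : Nat.Coprime (p ^ k) (q ^ j) := Nat.Coprime.pow k j hpq
  have h4 : orderOf x = 1 := Nat.eq_one_of_dvd_coprimes h3 h1 h2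
  exact orderOf_eq_one_iff.1 h4

section
variable {M : Type*} [Group M]

/-- the elements of order dividing `q` in an abelian normal subgroup. -/
def omegaSub (A : Subgroup M) (hA : ∀ a ∈ A, ∀ b ∈ A, a * b = b * a) (q : ℕ) : Subgroup M where
  carrier := {a | a ∈ A ∧ a ^ q = 1}
  mul_mem' := by
    rintro a b ⟨ha, ha1⟩ ⟨hb, hb1⟩
    refine ⟨A.mul_mem ha hb, ?_⟩
    have : Commute a b := hA a ha b hb
    rw [this.mul_pow, ha1, hb1, one_mul]
  one_mem' := ⟨A.one_mem, one_pow _⟩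
  inv_mem' := by
    rintro a ⟨ha, ha1⟩
    exact ⟨A.inv_mem ha, by rw [inv_pow, ha1, inv_one]⟩

theorem omegaSub_normal (A : Subgroup M) [hn : A.Normal] (hA : ∀ a ∈ A, ∀ b ∈ A, a * b = b * a)
    (q : ℕ) : (omegaSub A hA q).Normal := by
  constructor
  rintro a ⟨ha, ha1⟩ g
  refine ⟨hn.conj_mem a ha g, ?_⟩
  rw [conj_pow, ha1, mul_one, mul_inv_cancel]

end

theorem PEl_of_mem {M : Type*} [Group M] {p : ℕ} {H : Subgroup M} (hH : IsPGroup p H) {x : M}
    (hx : x ∈ H) : PEl p x := by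
  obtain ⟨k, hk⟩ := hH ⟨x, hx⟩
  exact ⟨k, congrArg Subtype.val hk⟩

theorem structure_lemma {M : Type*} [Group M] [Finite M] [Group.IsSolvable M] {p : ℕ}
    [hp : Fact p.Prime] (hiso : Iso p M) (R : Subgroup M) [hRn : R.Normal] (hRp : IsPGroup p R)
    (hR1 : R ≠ ⊥) (hRmax : ∀ D : Subgroup M, D.Normal → IsPGroup p D → D ≤ R)
    (t : M) (ht : t ∈ commutator M) (htp : PEl p t) : t ∈ R := by
  classical
  by_cases htriv : Subsingleton (M ⧸ R)
  · have : (QuotientGroup.mk t : M ⧸ R) = 1 := Subsingleton.elim _ _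
    exact (QuotientGroup.eq_one_iff t).1 this
  haveI : Nontrivial (M ⧸ R) := not_subsingleton_iff_nontrivial.1 htriv
  obtain ⟨A, hAc, hA1, hAcomm⟩ := Cfsg.Agent.Lib.Helper71Solv.exists_abelian_normal (G := M ⧸ R)
  haveI : A.Normal := inferInstance
  have hcardA : Nat.card A ≠ 1 := by rw [Ne, Subgroup.card_eq_one]; exact hA1
  obtain ⟨q, hq, hqd⟩ := Nat.exists_prime_and_dvd hcardA
  haveI : Fact q.Prime := ⟨hq⟩
  obtain ⟨a0, ha0⟩ := exists_prime_orderOf_dvd_card' q hqd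
  have ha01 : (a0 : M ⧸ R) ≠ 1 := by
    intro h1
    have : a0 = 1 := Subtype.ext h1
    rw [this, orderOf_one] at ha0
    exact hq.one_lt.ne ha0
  have ha0q : (a0 : M ⧸ R) ^ q = 1 := by
    have := pow_orderOf_eq_one a0
    rw [ha0] at this
    exact congrArg Subtype.val this
  have hQbn : (omegaSub A hAcomm q).Normal := omegaSub_normal A hAcomm q
  obtain ⟨Qb, hQb⟩ : ∃ Qb : Subgroup (M ⧸ R), Qb = omegaSub A hAcomm q := ⟨_, rfl⟩
  haveI : Qb.Normal := hQb ▸ hQbn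
  have hQbmem : ∀ a, a ∈ Qb ↔ a ∈ A ∧ a ^ q = 1 := by
    intro a; rw [hQb]; exact Iff.rfl
  obtain ⟨X, hX⟩ : ∃ X : Subgroup M, X = Qb.comap (QuotientGroup.mk' R) := ⟨_, rfl⟩
  haveI : X.Normal := by rw [hX]; infer_instance
  have hXmem : ∀ x, x ∈ X ↔ (QuotientGroup.mk x : M ⧸ R) ∈ Qb := by
    intro x; rw [hX]; exact Iff.rfl
  have hRX : R ≤ X := by
    intro r hr
    rw [hXmem, (QuotientGroup.eq_one_iff r).2 hr]
    exact Qb.one_mem
  have hXq : ∀ x ∈ X, x ^ q ∈ R := by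
    intro x hx
    have := ((hQbmem _).1 ((hXmem x).1 hx)).2
    rw [← QuotientGroup.mk_pow] at this
    exact (QuotientGroup.eq_one_iff _).1 this
  obtain ⟨x0, hx0⟩ := QuotientGroup.mk_surjective (a0 : M ⧸ R)
  have hx0X : x0 ∈ X := by
    rw [hXmem, hx0, hQbmem]
    exact ⟨a0.2, ha0q⟩
  have hx0R : x0 ∉ R := by
    intro h
    apply ha01
    rw [← hx0]
    exact (QuotientGroup.eq_one_iff x0).2 h
  have hqp : q ≠ p := by
    intro hqp
    have hXp : IsPGroup p X := by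
      rintro ⟨x, hx⟩
      obtain ⟨k, hk⟩ := hRp ⟨x ^ q, hXq x hx⟩
      refine ⟨k + 1, Subtype.ext ?_⟩
      have h1 : (x ^ q) ^ p ^ k = 1 := congrArg Subtype.val hk
      show x ^ p ^ (k + 1) = 1
      rw [pow_succ, mul_comm, pow_mul, ← hqp]
      rw [← hqp] at h1
      exact h1
    exact hx0R (hRmax X inferInstance hXp hx0X)
  have hcop : Nat.Coprime p q := (Nat.coprime_primes hp.out hq).2 (Ne.symm hqp)
  obtain ⟨Q⟩ : Nonempty (Sylow q X) := inferInstance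
  obtain ⟨Qm, hQm⟩ : ∃ Qm : Subgroup M, Qm = (Q : Subgroup X).map X.subtype := ⟨_, rfl⟩
  have hQmq : IsPGroup q Qm := by rw [hQm]; exact Q.2.map _
  have hQmX : Qm ≤ X := by
    rw [hQm]; exact Subgroup.map_subtype_le _
  have hQR : ∀ s ∈ Qm, s ∈ R → s = 1 := fun s hs hsR =>
    eq_one_of_PEl hcop (PEl_of_mem hRp hsR) (PEl_of_mem hQmq hs)
  -- `X = R Q`
  have hsup : (R.subgroupOf X) ⊔ (Q : Subgroup X) = ⊤ := by
    rw [← Subgroup.index_eq_one]
    have h1 : ((R.subgroupOf X) ⊔ (Q : Subgroup X)).index ∣ (R.subgroupOf X).index :=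
      Subgroup.index_dvd_of_le le_sup_left
    have h2 : ((R.subgroupOf X) ⊔ (Q : Subgroup X)).index ∣ (Q : Subgroup X).index :=
      Subgroup.index_dvd_of_le le_sup_right
    have h3 : IsPGroup q (X ⧸ R.subgroupOf X) := by
      intro g
      obtain ⟨x, rfl⟩ := QuotientGroup.mk_surjective g
      refine ⟨1, ?_⟩
      rw [pow_one, ← QuotientGroup.mk_pow, QuotientGroup.eq_one_iff, Subgroup.mem_subgroupOf]
      exact hXq x x.2
    obtain ⟨n, hn⟩ := h3.exists_card_eq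
    rw [← Subgroup.index_eq_card] at hn
    have h4 : Nat.Coprime (q ^ n) (Q : Subgroup X).index :=
      Nat.Coprime.pow_left n ((Nat.Prime.coprime_iff_not_dvd hq).2 Q.not_dvd_index)
    rw [hn] at h1
    exact Nat.eq_one_of_dvd_coprimes h4 h1 h2
  have hdecomp : ∀ x ∈ X, ∃ r ∈ R, ∃ s ∈ Qm, x = r * s := by
    intro x hx
    have h1 : (⟨x, hx⟩ : X) ∈ (R.subgroupOf X) ⊔ (Q : Subgroup X) := by rw [hsup]; trivial
    rw [Subgroup.mem_sup_of_normal_left] at h1
    obtain ⟨r, hr, s, hs, hrs⟩ := h1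
    refine ⟨r, Subgroup.mem_subgroupOf.1 hr, s, ?_, ?_⟩
    · rw [hQm]; exact ⟨s, hs, rfl⟩
    · exact (congrArg Subtype.val hrs).symm
  obtain ⟨s1, hs1, hs11⟩ : ∃ s ∈ Qm, s ≠ 1 := by
    obtain ⟨r, hr, s, hs, hrs⟩ := hdecomp x0 hx0X
    refine ⟨s, hs, ?_⟩
    rintro rfl
    apply hx0R
    rw [hrs, mul_one]
    exact hr
  have hmk : ∀ s ∈ Qm, (QuotientGroup.mk s : M ⧸ R) ∈ Qb := fun s hs => (hXmem s).1 (hQmX hs)
  have hQmcomm : ∀ a ∈ Qm, ∀ b ∈ Qm, a * b = b * a := by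
    intro a ha b hb
    have h1 : (QuotientGroup.mk a : M ⧸ R) * QuotientGroup.mk b
        = QuotientGroup.mk b * QuotientGroup.mk a :=
      hAcomm _ ((hQbmem _).1 (hmk a ha)).1 _ ((hQbmem _).1 (hmk b hb)).1
    have h2 : a * b * a⁻¹ * b⁻¹ ∈ R := by
      rw [← QuotientGroup.eq_one_iff]
      simp only [QuotientGroup.mk_mul, QuotientGroup.mk_inv]
      rw [h1]
      group
    have h3 : a * b * a⁻¹ * b⁻¹ ∈ Qm :=
      Qm.mul_mem (Qm.mul_mem (Qm.mul_mem ha hb) (Qm.inv_mem ha)) (Qm.inv_mem hb)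
    have h4 := hQR _ h3 h2
    have h5 : a * b * a⁻¹ * b⁻¹ * (b * a) = 1 * (b * a) := by rw [h4]
    simpa [mul_assoc] using h5
  haveI : IsMulCommutative Qm := ⟨⟨fun a b => Subtype.ext (hQmcomm a a.2 b b.2)⟩⟩
  have hcyc : IsCyclic Qm := by
    by_contra hnc
    have h1 := Cfsg.Agent.S0058.result Qm R hnc
      (by rw [Subgroup.normalizer_eq_top]; exact le_top)
      (IsPGroup.coprime_card_of_ne q p hqp Qm R hQmq hRp)
    apply hR1
    rw [← h1]
    simp only [iSup_eq_bot]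
    intro a ha
    rw [eq_bot_iff]
    intro x hx
    rw [Subgroup.mem_bot]
    by_contra hx1
    have hxa : x * a = a * x := by
      have := Subgroup.mem_centralizer_singleton_iff.1 hx.2
      exact this
    exact ha.2 (eq_one_of_PEl hcop (hiso x a hx1 (PEl_of_mem hRp hx.1) hxa) (PEl_of_mem hQmq ha.1))
  have hQbmap : Qb = Qm.map (QuotientGroup.mk' R) := by
    ext a
    constructor
    · intro ha
      obtain ⟨x, rfl⟩ := QuotientGroup.mk_surjective a
      obtain ⟨r, hr, s, hs, hrs⟩ := hdecomp x ((hXmem x).2 ha)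
      refine ⟨s, hs, ?_⟩
      rw [hrs, QuotientGroup.mk_mul, (QuotientGroup.eq_one_iff r).2 hr, one_mul]
      rfl
    · rintro ⟨s, hs, rfl⟩
      exact hmk s hs
  haveI hQbcyc : IsCyclic Qb := by
    rw [hQbmap]
    exact isCyclic_of_surjective ((QuotientGroup.mk' R).subgroupMap Qm)
      (MonoidHom.subgroupMap_surjective _ _)
  have hker : commutator M ≤
      ((MulAut.conjNormal : (M ⧸ R) →* MulAut Qb).comp (QuotientGroup.mk' R)).ker := by
    rw [commutator_eq_closure, Subgroup.closure_le]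
    rintro _ ⟨a, b, rfl⟩
    rw [SetLike.mem_coe, MonoidHom.mem_ker, map_commutatorElement,
      commutatorElement_eq_one_iff_mul_comm]
    exact Cfsg.Agent.Lib.Helper3NarrowAut.mulAut_comm_of_isCyclic _ _
  have htc : ∀ b ∈ Qb, (QuotientGroup.mk t : M ⧸ R) * b * (QuotientGroup.mk t : M ⧸ R)⁻¹ = b := by
    intro b hb
    have h1 := MonoidHom.mem_ker.1 (hker ht)
    have h2 := congrArg (fun f : MulAut Qb => ((f ⟨b, hb⟩ : Qb) : M ⧸ R)) h1
    simpa using h2
  have hfr := Sylow.normalizer_sup_eq_top Q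
  rw [← hQm] at hfr
  have htm : t ∈ Subgroup.normalizer (Qm : Set M) ⊔ X := by rw [hfr]; trivial
  rw [Subgroup.mem_sup_of_normal_right] at htm
  obtain ⟨n, hn, x, hx, hnx⟩ := htm
  obtain ⟨r, hr, s, hs, hrs⟩ := hdecomp x hx
  have hn' : n * s ∈ Subgroup.normalizer (Qm : Set M) :=
    Subgroup.mul_mem _ hn (Subgroup.le_normalizer hs)
  have hr' : s⁻¹ * r * s ∈ R := by
    have := hRn.conj_mem r hr s⁻¹
    simpa using this
  have ht' : t = (n * s) * (s⁻¹ * r * s) := by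
    rw [← hnx, hrs]; group
  have hmkn : (QuotientGroup.mk (n * s) : M ⧸ R) = QuotientGroup.mk t := by
    have h1 : (QuotientGroup.mk t : M ⧸ R)
        = QuotientGroup.mk (n * s) * QuotientGroup.mk (s⁻¹ * r * s) := by
      rw [← QuotientGroup.mk_mul, ← ht']
    rw [h1, (QuotientGroup.eq_one_iff _).2 hr', mul_one]
  have hnp : PEl p (n * s) := by
    obtain ⟨k, hk⟩ := htp
    have h1 : (n * s) ^ p ^ k ∈ R := by
      rw [← QuotientGroup.eq_one_iff, QuotientGroup.mk_pow, hmkn, ← QuotientGroup.mk_pow, hk]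
      rfl
    obtain ⟨j, hj⟩ := PEl_of_mem hRp h1
    exact ⟨k + j, by rw [pow_add, pow_mul, hj]⟩
  have hcomm : (n * s) * s1 = s1 * (n * s) := by
    have h1 : (n * s) * s1 * (n * s)⁻¹ ∈ Qm := (Subgroup.mem_normalizer_iff.1 hn' s1).1 hs1
    have h2 : (n * s) * s1 * (n * s)⁻¹ * s1⁻¹ ∈ Qm := Qm.mul_mem h1 (Qm.inv_mem hs1)
    have h3 : (n * s) * s1 * (n * s)⁻¹ * s1⁻¹ ∈ R := by
      rw [← QuotientGroup.eq_one_iff]
      have e1 : (QuotientGroup.mk ((n * s) * s1 * (n * s)⁻¹ * s1⁻¹) : M ⧸ R)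
          = QuotientGroup.mk (n * s) * QuotientGroup.mk s1 * (QuotientGroup.mk (n * s))⁻¹
            * (QuotientGroup.mk s1)⁻¹ := rfl
      rw [e1, hmkn, htc _ (hmk s1 hs1), mul_inv_cancel]
    have h4 := hQR _ h2 h3
    have h5 : (n * s) * s1 * (n * s)⁻¹ * s1⁻¹ * (s1 * (n * s)) = 1 * (s1 * (n * s)) := by rw [h4]
    simpa [mul_assoc] using h5
  have hn1 : n * s = 1 := by
    by_contra hne
    exact hs11 (eq_one_of_PEl hcop (hiso _ _ hne hnp hcomm) (PEl_of_mem hQmq hs1))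
  rw [ht', hn1, one_mul]
  exact hr'

end Cfsg.Agent.Lib.Helper32CN1
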