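import Cfsg.Agent.Lib.Helper32CN1
import Cfsg.Agent.S0658
import Cfsg.Agent.S1464
import Cfsg.Agent.Lib.Helper30Constrained
import Cfsg.Agent.Lib.Helper14WBasic
import Cfsg.Agent.Lib.Helper60Core

/-!
In a minimal simple group of odd order, a Sylow `p`-subgroup for an "isolated" prime `p`
(non-identity `p`-elements commute only with `p`-elements) is a TI-subgroup.
-/

set_option autoImplicit false
open Cfsg
open Cfsg.Agent.Lib.Helper32CN1

namespace Cfsg.Agent.Lib.Helper32CN2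

/-- minimal non-solvable simple group of odd order. -/
structure MinS (G : Type*) [Group G] : Prop where
  odd : Odd (Nat.card G)
  simple : IsSimpleGroup G
  nsol : ¬ Group.IsSolvable G
  sol : ∀ H : Subgroup G, H ≠ ⊤ → Group.IsSolvable H

variable {G : Type*} [Group G] [Finite G]

theorem pgroup_ne_top (h : MinS G) {p : ℕ} [Fact p.Prime] {Q : Subgroup G} (hQp : IsPGroup p Q) :
    Q ≠ ⊤ := by
  rintro rfl
  apply h.nsol
  have h1 : IsPGroup p G := hQp.of_equiv Subgroup.topEquiv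
  haveI := h1.isNilpotent
  infer_instance

theorem normalizer_ne_top (h : MinS G) {Q : Subgroup G} (hQ1 : Q ≠ ⊥) (hQ2 : Q ≠ ⊤) :
    Subgroup.normalizer (Q : Set G) ≠ ⊤ := by
  intro htop
  have hn : Q.Normal := Subgroup.normalizer_eq_top_iff.1 htop
  haveI := h.simple
  rcases hn.eq_bot_or_eq_top with h1 | h1
  · exact hQ1 h1
  · exact hQ2 h1

theorem eq_one_of_coprime {M : Type*} [Group M] {p : ℕ} {K : Subgroup M} [Finite K]
    (hK : (Nat.card K).Coprime p) {y : M} (hy : y ∈ K) (hyp : PEl p y) : y = 1 := by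
  obtain ⟨k, hk⟩ := hyp
  have h1 : orderOf y ∣ p ^ k := orderOf_dvd_of_pow_eq_one hk
  have h2 : orderOf y ∣ Nat.card K := by
    have := orderOf_dvd_natCard (⟨y, hy⟩ : K)
    rwa [Subgroup.orderOf_mk] at this
  have h3 : orderOf y = 1 := Nat.eq_one_of_dvd_coprimes (Nat.Coprime.pow_right k hK) h2 h1
  exact orderOf_eq_one_iff.1 h3

theorem Iso.subgroup {p : ℕ} (hiso : Iso p G) (N : Subgroup G) : Iso p N := by
  intro x y hx hxp hxy
  obtain ⟨k, hk⟩ := hxp
  obtain ⟨j, hj⟩ := hiso x y (fun h => hx (Subtype.ext h)) ⟨k, congrArg Subtype.val hk⟩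
    (congrArg Subtype.val hxy)
  exact ⟨j, Subtype.ext hj⟩

theorem hloc (h : MinS G) {p : ℕ} [hp : Fact p.Prime] (hiso : Iso p G) (Q : Subgroup G)
    (hQp : IsPGroup p Q) (hQ1 : Q ≠ ⊥) :
    Cfsg.pPrimeCore p ↥(Subgroup.normalizer (Q : Set G)) = ⊥ ∧
      Cfsg.IsPConstrained p ↥(Subgroup.normalizer (Q : Set G)) ∧
      Cfsg.IsPStable p ↥(Subgroup.normalizer (Q : Set G)) := by
  have hne := normalizer_ne_top h hQ1 (pgroup_ne_top h hQp)
  haveI := h.sol _ hne
  have hoddN : Odd (Nat.card ↥(Subgroup.normalizer (Q : Set G))) :=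
    Odd.of_dvd_nat h.odd (Subgroup.card_subgroup_dvd_card _)
  obtain ⟨x, hxQ, hx1⟩ : ∃ x ∈ Q, x ≠ 1 := by
    by_contra hcon
    push Not at hcon
    exact hQ1 ((Subgroup.eq_bot_iff_forall _).2 hcon)
  have hpG : p ∣ Nat.card G := by
    obtain ⟨k, hk⟩ := PEl_of_mem hQp hxQ
    have h1 : orderOf x ∣ p ^ k := orderOf_dvd_of_pow_eq_one hk
    obtain ⟨j, hj, hj2⟩ := (Nat.dvd_prime_pow hp.out).1 h1
    have hj0 : j ≠ 0 := by
      rintro rfl
      rw [pow_zero, orderOf_eq_one_iff] at hj2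
      exact hx1 hj2
    have h2 : p ∣ orderOf x := by rw [hj2]; exact dvd_pow_self p hj0
    exact h2.trans (orderOf_dvd_natCard x)
  have hpodd : Odd p := Odd.of_dvd_nat h.odd hpG
  have hp2 : p ≠ 2 := by
    rintro rfl
    exact absurd hpodd (by decide)
  have hQ'p : IsPGroup p (Q.subgroupOf (Subgroup.normalizer (Q : Set G))) := hQp.comap_subtype
  refine ⟨?_, Cfsg.Agent.Lib.Helper30Constrained.isPConstrained_of_isSolvable p, hpodd, ?_, ?_⟩
  · rw [eq_bot_iff]
    intro k hk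
    rw [Subgroup.mem_bot]
    have hcop := Cfsg.Agent.Lib.Helper60Core.card_pPrimeCore_coprime
      (G := ↥(Subgroup.normalizer (Q : Set G))) p
    let x' : ↥(Subgroup.normalizer (Q : Set G)) := ⟨x, Subgroup.le_normalizer hxQ⟩
    have hx'Q : x' ∈ Q.subgroupOf (Subgroup.normalizer (Q : Set G)) := Subgroup.mem_subgroupOf.2 hxQ
    have h1 : k * x' * k⁻¹ * x'⁻¹ ∈ Cfsg.pPrimeCore p ↥(Subgroup.normalizer (Q : Set G)) := by
      have h2 := (Cfsg.pPrimeCore_normal p ↥(Subgroup.normalizer (Q : Set G))).conj_mem k⁻¹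
        (Subgroup.inv_mem _ hk) x'
      have h3 := Subgroup.mul_mem _ hk h2
      simpa [mul_assoc] using h3
    have h2 : k * x' * k⁻¹ * x'⁻¹ ∈ Q.subgroupOf (Subgroup.normalizer (Q : Set G)) := by
      have h3 := (Subgroup.normal_in_normalizer (H := Q)).conj_mem x' hx'Q k
      exact Subgroup.mul_mem _ h3 (Subgroup.inv_mem _ hx'Q)
    have h3 := eq_one_of_coprime hcop h1 (PEl_of_mem hQ'p h2)
    have h4 : x' * k = k * x' := by
      have h5 : k * x' * k⁻¹ * x'⁻¹ * (x' * k) = 1 * (x' * k) := by rw [h3]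
      simpa [mul_assoc] using h5.symm
    have h5 := (Iso.subgroup hiso _) x' k (fun h => hx1 (congrArg Subtype.val h))
      (PEl_of_mem hQ'p hx'Q) h4
    exact eq_one_of_coprime hcop hk h5
  · intro hb
    have h1 := Cfsg.Agent.Lib.Helper60Core.le_pCore (Subgroup.normal_in_normalizer (H := Q)) hQ'p
    rw [hb, le_bot_iff] at h1
    have h2 : (⟨x, Subgroup.le_normalizer hxQ⟩ : ↥(Subgroup.normalizer (Q : Set G)))
        ∈ Q.subgroupOf (Subgroup.normalizer (Q : Set G)) := Subgroup.mem_subgroupOf.2 hxQ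
    rw [h1, Subgroup.mem_bot] at h2
    exact hx1 (congrArg Subtype.val h2)
  · intro A P hA hP hnorm _ hn hq
    exact Cfsg.Agent.S1464.result hoddN p hp2 P A hP hn hA (Subgroup.le_normalizer_iff.2 hnorm) hq

/-- an element conjugating a finite subgroup into itself normalises it. -/
theorem mem_normalizer_of_conj_le (H : Subgroup G) (g : G) (hg : ∀ x ∈ H, g * x * g⁻¹ ∈ H) :
    g ∈ Subgroup.normalizer (H : Set G) := by
  have hz : Subgroup.zpowers g ≤ Subgroup.normalizer (H : Set G) := by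
    rw [Subgroup.le_normalizer_iff]
    intro a ha
    rw [← mem_powers_iff_mem_zpowers] at ha
    obtain ⟨n, rfl⟩ := ha
    induction n with
    | zero => intro k hk; simpa using hk
    | succ n ih =>
      intro k hk
      have h1 := hg _ (ih k hk)
      have e : g ^ (n + 1) * k * (g ^ (n + 1))⁻¹ = g * (g ^ n * k * (g ^ n)⁻¹) * g⁻¹ := by
        rw [pow_succ']; group
      rw [e]
      exact h1
  exact hz (Subgroup.mem_zpowers g)

/-- Sylow's theorem inside a subgroup containing a Sylow subgroup of `G`. -/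
theorem conj_into {p : ℕ} [Fact p.Prime] (P : Sylow p G) (M : Subgroup G)
    (hPM : (P : Subgroup G) ≤ M) (D : Subgroup G) (hD : IsPGroup p D) (hDM : D ≤ M) :
    ∃ m ∈ M, ∀ d ∈ D, m * d * m⁻¹ ∈ (P : Subgroup G) := by
  have hD' : IsPGroup p (D.subgroupOf M) := hD.comap_subtype
  obtain ⟨P', hP'⟩ := hD'.exists_le_sylow
  obtain ⟨m, hm⟩ := MulAction.exists_smul_eq M P' (P.subtype hPM)
  refine ⟨m, m.2, fun d hd => ?_⟩
  have h1 : (⟨d, hDM hd⟩ : M) ∈ (P' : Subgroup M) := hP' (Subgroup.mem_subgroupOf.2 hd)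
  have h2 : m * ⟨d, hDM hd⟩ * m⁻¹ ∈ ((P.subtype hPM : Sylow p M) : Subgroup M) := by
    rw [← hm, Sylow.coe_subgroup_smul, Subgroup.mem_pointwise_smul_iff_inv_smul_mem]
    simpa [MulAut.smul_def, mul_assoc] using h1
  rw [Sylow.coe_subtype, Subgroup.mem_subgroupOf] at h2
  exact h2

theorem cent_mem_normalizer_zpowers {y c : G} (hc : c * y = y * c) :
    c ∈ Subgroup.normalizer ((Subgroup.zpowers y : Subgroup G) : Set G) := by
  apply Subgroup.centralizer_le_normalizer
  rw [Subgroup.zpowers_eq_closure, Subgroup.centralizer_closure,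
    Subgroup.mem_centralizer_singleton_iff]
  exact hc

theorem conj_ne_one {x g : G} (hx : x ≠ 1) : g * x * g⁻¹ ≠ 1 := by
  intro h
  apply hx
  have : g⁻¹ * (g * x * g⁻¹) * g = g⁻¹ * 1 * g := by rw [h]
  simpa [mul_assoc] using this

theorem zpowers_isPGroup {p : ℕ} {y : G} (hy : PEl p y) : IsPGroup p (Subgroup.zpowers y) := by
  obtain ⟨k, hk⟩ := hy
  rintro ⟨a, ha⟩
  obtain ⟨n, rfl⟩ := Subgroup.mem_zpowers_iff.1 ha
  refine ⟨k, Subtype.ext ?_⟩
  show (y ^ n) ^ p ^ k = 1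
  rw [← zpow_natCast, ← zpow_mul, mul_comm, zpow_mul, zpow_natCast, hk, one_zpow]

section main
variable {p : ℕ} [hp : Fact p.Prime]

theorem star (h : MinS G) (hp2 : p ≠ 2) (hiso : Iso p G) (P : Sylow p G) (Q : Subgroup G)
    (hQP : Q ≤ (P : Subgroup G)) (hQ1 : Q ≠ ⊥) :
    Subgroup.normalizer (Q : Set G)
      ≤ Subgroup.normalizer (Cfsg.centerThompsonAOf (P : Subgroup G) : Set G) :=
  Cfsg.Agent.S0658.result hp2 (fun Q hQp hQ1 => hloc h hiso Q hQp hQ1) P Q hQP hQ1

theorem star_el (h : MinS G) (hp2 : p ≠ 2) (hiso : Iso p G) (P : Sylow p G) {y c : G}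
    (hy : y ∈ (P : Subgroup G)) (hy1 : y ≠ 1) (hc : c * y = y * c) :
    c ∈ Subgroup.normalizer (Cfsg.centerThompsonAOf (P : Subgroup G) : Set G) := by
  apply star h hp2 hiso P (Subgroup.zpowers y) (by rw [Subgroup.zpowers_le]; exact hy)
    (by rw [Ne, Subgroup.zpowers_eq_bot]; exact hy1)
  exact cent_mem_normalizer_zpowers hc

theorem fusion (h : MinS G) (hp2 : p ≠ 2) (hiso : Iso p G) (P : Sylow p G) {x u : G}
    (hx : x ∈ (P : Subgroup G)) (hx1 : x ≠ 1) (hux : u * x * u⁻¹ ∈ (P : Subgroup G)) :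
    u ∈ Subgroup.normalizer (Cfsg.centerThompsonAOf (P : Subgroup G) : Set G) := by
  have hP1 : (P : Subgroup G) ≠ ⊥ := by
    intro hb
    rw [hb, Subgroup.mem_bot] at hx
    exact hx1 hx
  have hPM : (P : Subgroup G)
      ≤ Subgroup.normalizer (Cfsg.centerThompsonAOf (P : Subgroup G) : Set G) :=
    Subgroup.le_normalizer.trans (star h hp2 hiso P P le_rfl hP1)
  obtain ⟨z, hz, hz1⟩ : ∃ z ∈ (P : Subgroup G) ⊓ Subgroup.centralizer ((P : Subgroup G) : Set G),
      z ≠ 1 := by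
    by_contra hcon
    push Not at hcon
    exact Cfsg.Agent.Lib.Helper14WBasic.inf_centralizer_ne_bot P.2 hP1
      ((Subgroup.eq_bot_iff_forall _).2 hcon)
  have hzc : ∀ w ∈ (P : Subgroup G), w * z = z * w := fun w hw =>
    Subgroup.mem_centralizer_iff.1 hz.2 w hw
  -- `z' = u z u⁻¹` commutes with `y = u x u⁻¹`
  have h1 : (u * z * u⁻¹) * (u * x * u⁻¹) = (u * x * u⁻¹) * (u * z * u⁻¹) := by
    have := hzc x hx
    calc (u * z * u⁻¹) * (u * x * u⁻¹) = u * (z * x) * u⁻¹ := by group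
      _ = u * (x * z) * u⁻¹ := by rw [this]
      _ = _ := by group
  have h2 := star_el h hp2 hiso P hux (conj_ne_one hx1) h1
  have hzp : PEl p (u * z * u⁻¹) := by
    obtain ⟨k, hk⟩ := PEl_of_mem P.2 hz.1
    exact ⟨k, by rw [conj_pow, hk, mul_one, mul_inv_cancel]⟩
  obtain ⟨m, hm, hmz⟩ := conj_into P _ hPM (Subgroup.zpowers (u * z * u⁻¹))
    (zpowers_isPGroup hzp) (by rw [Subgroup.zpowers_le]; exact h2)
  have h3 := hmz _ (Subgroup.mem_zpowers _)
  -- `v = m u`
  have e3 : m * (u * z * u⁻¹) * m⁻¹ = (m * u) * z * (m * u)⁻¹ := by group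
  rw [e3] at h3
  have h4 : ∀ w ∈ (P : Subgroup G), (m * u) * w * (m * u)⁻¹
      ∈ Subgroup.normalizer (Cfsg.centerThompsonAOf (P : Subgroup G) : Set G) := by
    intro w hw
    apply star_el h hp2 hiso P h3 (conj_ne_one hz1)
    have := hzc w hw
    calc ((m * u) * w * (m * u)⁻¹) * ((m * u) * z * (m * u)⁻¹)
        = (m * u) * (w * z) * (m * u)⁻¹ := by group
      _ = (m * u) * (z * w) * (m * u)⁻¹ := by rw [this]
      _ = _ := by group
  obtain ⟨m', hm', hm'P⟩ := conj_into P _ hPM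
    ((P : Subgroup G).map (MulAut.conj (m * u)).toMonoidHom) (P.2.map _) (by
      rintro _ ⟨w, hw, rfl⟩
      exact h4 w hw)
  have h5 : m' * (m * u) ∈ Subgroup.normalizer ((P : Subgroup G) : Set G) := by
    apply mem_normalizer_of_conj_le
    intro w hw
    have := hm'P _ ⟨w, hw, rfl⟩
    have e : m' * (m * u) * w * (m' * (m * u))⁻¹ = m' * ((m * u) * w * (m * u)⁻¹) * m'⁻¹ := by
      group
    rw [e]
    exact this
  have h6 := star h hp2 hiso P P le_rfl hP1 h5
  have h7 := Subgroup.mul_mem _ (Subgroup.inv_mem _ (Subgroup.mul_mem _ hm' hm)) h6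
  have e7 : (m' * m)⁻¹ * (m' * (m * u)) = u := by group
  rwa [e7] at h7

omit [Finite G] in
theorem commutator_eq_top (h : MinS G) : commutator G = ⊤ := by
  haveI := h.simple
  rcases (inferInstance : (commutator G).Normal).eq_bot_or_eq_top with h1 | h1
  · exfalso
    apply h.nsol
    exact ⟨⟨1, by rw [derivedSeries_one, h1]⟩⟩
  · exact h1

theorem le_commutator (h : MinS G) (hp2 : p ≠ 2) (hiso : Iso p G) (P : Sylow p G) :
    (P : Subgroup G) ≤
      ⁅Subgroup.normalizer (Cfsg.centerThompsonAOf (P : Subgroup G) : Set G),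
        Subgroup.normalizer (Cfsg.centerThompsonAOf (P : Subgroup G) : Set G)⁆ := by
  have h1 := Subgroup.commutator_inf_eq_focalSubgroup P
  rw [commutator_eq_top h, top_inf_eq] at h1
  by_cases hP1 : (P : Subgroup G) = ⊥
  · rw [hP1]; exact bot_le
  have hPM : (P : Subgroup G)
      ≤ Subgroup.normalizer (Cfsg.centerThompsonAOf (P : Subgroup G) : Set G) :=
    Subgroup.le_normalizer.trans (star h hp2 hiso P P le_rfl hP1)
  conv_lhs => rw [h1]
  rw [Subgroup.focalSubgroup_def, Subgroup.closure_le]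
  rintro g ⟨hg, x, hx, u, rfl⟩
  by_cases hx1 : x = 1
  · subst hx1
    simp
  · have h2 : u * x⁻¹ * u⁻¹ ∈ (P : Subgroup G) := by
      have h3 := Subgroup.mul_mem _ (Subgroup.inv_mem _ hx) hg
      rw [commutatorElement_def] at h3
      simpa [mul_assoc] using h3
    have h3 := fusion h hp2 hiso P (Subgroup.inv_mem _ hx) (inv_ne_one.2 hx1) h2
    exact Subgroup.commutator_mem_commutator (hPM hx) h3

theorem le_normalizer_sylow (h : MinS G) (hp2 : p ≠ 2) (hiso : Iso p G) (P : Sylow p G)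
    (hP1 : (P : Subgroup G) ≠ ⊥) :
    Subgroup.normalizer (Cfsg.centerThompsonAOf (P : Subgroup G) : Set G)
      ≤ Subgroup.normalizer ((P : Subgroup G) : Set G) := by
  obtain ⟨M, hM⟩ : ∃ M : Subgroup G,
    M = Subgroup.normalizer (Cfsg.centerThompsonAOf (P : Subgroup G) : Set G) := ⟨_, rfl⟩
  have hZ1 := Cfsg.Agent.Lib.Helper14WBasic.centerThompsonAOf_ne_bot P.2 hP1
  have hZP := Cfsg.Agent.Lib.Helper14WBasic.centerThompsonAOf_le (P : Subgroup G)
  have hZp : IsPGroup p (Cfsg.centerThompsonAOf (P : Subgroup G)) := P.2.to_le hZP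
  have hMtop : M ≠ ⊤ := hM ▸ normalizer_ne_top h hZ1 (pgroup_ne_top h hZp)
  have hPM : (P : Subgroup G) ≤ M :=
    hM ▸ Subgroup.le_normalizer.trans (star h hp2 hiso P P le_rfl hP1)
  have hcomm : (P : Subgroup G) ≤ ⁅M, M⁆ := hM ▸ le_commutator h hp2 hiso P
  have hZn : ((Cfsg.centerThompsonAOf (P : Subgroup G)).subgroupOf M).Normal := by
    rw [hM]; exact Subgroup.normal_in_normalizer
  rw [← hM]
  haveI := h.sol M hMtop
  have hR1 : Cfsg.pCore p M ≠ ⊥ := by
    intro hb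
    have h1 := Cfsg.Agent.Lib.Helper60Core.le_pCore hZn hZp.comap_subtype
    rw [hb, le_bot_iff, Subgroup.subgroupOf_eq_bot, disjoint_iff,
      inf_of_le_left (hZP.trans hPM)] at h1
    exact hZ1 h1
  have hle : (P : Subgroup G).subgroupOf M ≤ Cfsg.pCore p M := by
    intro t ht
    apply structure_lemma (Iso.subgroup hiso M) (Cfsg.pCore p M)
      (Cfsg.Agent.Lib.Helper60Core.pCore_isPGroup p) hR1
      (fun D hD hDp => Cfsg.Agent.Lib.Helper60Core.le_pCore hD hDp) t
    · have h1 : (t : G) ∈ ⁅M, M⁆ := hcomm (Subgroup.mem_subgroupOf.1 ht)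
      rw [← Subgroup.map_subtype_commutator] at h1
      obtain ⟨t', ht', he⟩ := h1
      have : t' = t := Subtype.ext he
      rw [← this]
      exact ht'
    · exact PEl_of_mem (P.2.comap_subtype (K := M)) ht
  have heq : Cfsg.pCore p M = (P : Subgroup G).subgroupOf M := by
    have := (P.subtype hPM).3 (Cfsg.Agent.Lib.Helper60Core.pCore_isPGroup (G := M) p)
      (by rw [Sylow.coe_subtype]; exact hle)
    rw [this, Sylow.coe_subtype]
  rw [← Subgroup.normal_subgroupOf_iff_le_normalizer hPM, ← heq]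
  infer_instance

/-- **TI**: a Sylow subgroup for an isolated prime is a TI-subgroup. -/
theorem sylow_TI (h : MinS G) (hiso : Iso p G) (P : Sylow p G) {g x : G}
    (hx : x ∈ (P : Subgroup G)) (hx1 : x ≠ 1) (hgx : g * x * g⁻¹ ∈ (P : Subgroup G)) :
    g ∈ Subgroup.normalizer ((P : Subgroup G) : Set G) := by
  have hP1 : (P : Subgroup G) ≠ ⊥ := by
    intro hb
    rw [hb, Subgroup.mem_bot] at hx
    exact hx1 hx
  have hpG : p ∣ Nat.card G := by
    by_contra hnd
    apply hP1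
    have h1 := P.card_eq_multiplicity
    rw [Nat.factorization_eq_zero_of_not_dvd hnd, pow_zero, Subgroup.card_eq_one] at h1
    exact h1
  have hp2 : p ≠ 2 := by
    rintro rfl
    exact absurd (Odd.of_dvd_nat h.odd hpG) (by decide)
  exact le_normalizer_sylow h hp2 hiso P hP1 (fusion h hp2 hiso P hx hx1 hgx)

end main

end Cfsg.Agent.Lib.Helper32CN2
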