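import Cfsg.Agent.Lib.Helper32Virt
import Mathlib

set_option autoImplicit false
open Cfsg

namespace Cfsg.Agent.Lib.Helper32Coh

open Cfsg.Agent.Lib.Helper4Char Cfsg.Agent.Lib.Helper4Char2 Cfsg.Agent.Lib.Helper4Char4
open Cfsg.Agent.Lib.Helper32Virt
open scoped ComplexConjugate

section Span

variable {X : Type*} {S T : Set (X → ℂ)} {A : Set X}

theorem zspan_of_mem {χ : X → ℂ} (h : χ ∈ S) : χ ∈ zspan S := Submodule.subset_span h

theorem zspan_zero : (0 : X → ℂ) ∈ zspan S := Submodule.zero_mem _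

theorem zspan_add {a b : X → ℂ} (ha : a ∈ zspan S) (hb : b ∈ zspan S) : a + b ∈ zspan S :=
  Submodule.add_mem _ ha hb

theorem zspan_neg {a : X → ℂ} (ha : a ∈ zspan S) : -a ∈ zspan S := Submodule.neg_mem _ ha

theorem zspan_sub {a b : X → ℂ} (ha : a ∈ zspan S) (hb : b ∈ zspan S) : a - b ∈ zspan S :=
  Submodule.sub_mem _ ha hb

theorem zspan_zsmul {a : X → ℂ} (n : ℤ) (ha : a ∈ zspan S) : n • a ∈ zspan S :=
  Submodule.smul_mem _ n ha

theorem zspan_mono (h : S ⊆ T) : zspan S ⊆ zspan T := Submodule.span_mono h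

theorem zspan_sum {ι : Type*} (s : Finset ι) {f : ι → X → ℂ} (h : ∀ i ∈ s, f i ∈ zspan S) :
    ∑ i ∈ s, f i ∈ zspan S := Submodule.sum_mem _ h

theorem intCast_smul_eq (n : ℤ) (a : X → ℂ) : (n : ℂ) • a = n • a := by
  funext x; simp

theorem natCast_smul_eq (n : ℕ) (a : X → ℂ) : (n : ℂ) • a = (n : ℤ) • a := by
  funext x; simp

theorem zspanOn_zero : (0 : X → ℂ) ∈ zspanOn S A := ⟨zspan_zero, fun _ _ => rfl⟩

theorem zspanOn_add {a b : X → ℂ} (ha : a ∈ zspanOn S A) (hb : b ∈ zspanOn S A) :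
    a + b ∈ zspanOn S A :=
  ⟨zspan_add ha.1 hb.1, fun x hx => by rw [Pi.add_apply, ha.2 x hx, hb.2 x hx, add_zero]⟩

theorem zspanOn_neg {a : X → ℂ} (ha : a ∈ zspanOn S A) : -a ∈ zspanOn S A :=
  ⟨zspan_neg ha.1, fun x hx => by rw [Pi.neg_apply, ha.2 x hx, neg_zero]⟩

theorem zspanOn_sub {a b : X → ℂ} (ha : a ∈ zspanOn S A) (hb : b ∈ zspanOn S A) :
    a - b ∈ zspanOn S A :=
  ⟨zspan_sub ha.1 hb.1, fun x hx => by rw [Pi.sub_apply, ha.2 x hx, hb.2 x hx, sub_zero]⟩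

theorem zspanOn_zsmul {a : X → ℂ} (n : ℤ) (ha : a ∈ zspanOn S A) : n • a ∈ zspanOn S A :=
  ⟨zspan_zsmul n ha.1, fun x hx => by rw [Pi.smul_apply, ha.2 x hx, smul_zero]⟩

theorem zspanOn_mono (h : S ⊆ T) : zspanOn S A ⊆ zspanOn T A :=
  fun _ ha => ⟨zspan_mono h ha.1, ha.2⟩

theorem mem_zspanOn_one {X : Type*} [One X] {S : Set (X → ℂ)} {a : X → ℂ} :
    a ∈ zspanOn S {1}ᶜ ↔ a ∈ zspan S ∧ a 1 = 0 := by
  constructor
  · intro h
    exact ⟨h.1, h.2 1 (by simp)⟩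
  · intro h
    refine ⟨h.1, fun x hx => ?_⟩
    have : x = 1 := by simpa using hx
    rw [this, h.2]

/-- sets closed under the `ℤ`-module operations -/
structure Closed (E : Set (X → ℂ)) : Prop where
  zero : (0 : X → ℂ) ∈ E
  add : ∀ a ∈ E, ∀ b ∈ E, a + b ∈ E
  zsmul : ∀ (n : ℤ), ∀ a ∈ E, n • a ∈ E

theorem closed_zspan : Closed (zspan S) :=
  ⟨zspan_zero, fun _ ha _ hb => zspan_add ha hb, fun n _ ha => zspan_zsmul n ha⟩

theorem closed_zspanOn : Closed (zspanOn S A) :=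
  ⟨zspanOn_zero, fun _ ha _ hb => zspanOn_add ha hb, fun n _ ha => zspanOn_zsmul n ha⟩

theorem Closed.neg {E : Set (X → ℂ)} (hE : Closed E) {a : X → ℂ} (ha : a ∈ E) : -a ∈ E := by
  have := hE.zsmul (-1) a ha
  simpa using this

theorem Closed.sub {E : Set (X → ℂ)} (hE : Closed E) {a b : X → ℂ} (ha : a ∈ E) (hb : b ∈ E) :
    a - b ∈ E := by
  rw [sub_eq_add_neg]; exact hE.add a ha _ (hE.neg hb)

end Span

section Iso

variable {L : Type*} [Group L] [Fintype L] {G : Type*} [Group G] [Fintype G]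
variable {E : Set (L → ℂ)} {τ : (L → ℂ) → (G → ℂ)}

theorem iso_add (hτ : IsLinearIsometryOn E τ) {a b : L → ℂ} (ha : a ∈ E) (hb : b ∈ E) :
    τ (a + b) = τ a + τ b := hτ.1 a ha b hb

theorem iso_zsmul (hτ : IsLinearIsometryOn E τ) (n : ℤ) {a : L → ℂ} (ha : a ∈ E) :
    τ (n • a) = n • τ a := hτ.2.1 a ha n

theorem iso_inner (hτ : IsLinearIsometryOn E τ) {a b : L → ℂ} (ha : a ∈ E) (hb : b ∈ E) :
    classInner (τ a) (τ b) = classInner a b := hτ.2.2.1 a ha b hb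

theorem iso_gen (hτ : IsLinearIsometryOn E τ) {a : L → ℂ} (ha : a ∈ E) :
    IsGeneralizedCharacter G (τ a) := hτ.2.2.2 a ha

theorem iso_zero (hE : Closed E) (hτ : IsLinearIsometryOn E τ) : τ 0 = 0 := by
  have := iso_zsmul hτ 0 hE.zero
  simpa using this

theorem iso_neg (hτ : IsLinearIsometryOn E τ) {a : L → ℂ} (ha : a ∈ E) :
    τ (-a) = - τ a := by
  have := iso_zsmul hτ (-1) ha
  simpa using this

theorem iso_sub (hE : Closed E) (hτ : IsLinearIsometryOn E τ) {a b : L → ℂ} (ha : a ∈ E)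
    (hb : b ∈ E) : τ (a - b) = τ a - τ b := by
  rw [sub_eq_add_neg, iso_add hτ ha (hE.neg hb), iso_neg hτ hb, sub_eq_add_neg]

theorem iso_mono {E' : Set (L → ℂ)} (h : E' ⊆ E) (hτ : IsLinearIsometryOn E τ) :
    IsLinearIsometryOn E' τ :=
  ⟨fun a ha b hb => hτ.1 a (h ha) b (h hb), fun a ha n => hτ.2.1 a (h ha) n,
    fun a ha b hb => hτ.2.2.1 a (h ha) b (h hb), fun a ha => hτ.2.2.2 a (h ha)⟩

theorem iso_congr {τ' : (L → ℂ) → (G → ℂ)} (hE : Closed E) (h : ∀ a ∈ E, τ' a = τ a)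
    (hτ : IsLinearIsometryOn E τ) : IsLinearIsometryOn E τ' := by
  refine ⟨fun a ha b hb => ?_, fun a ha n => ?_, fun a ha b hb => ?_, fun a ha => ?_⟩
  · rw [h _ (hE.add a ha b hb), h a ha, h b hb, hτ.1 a ha b hb]
  · rw [h _ (hE.zsmul n a ha), h a ha, hτ.2.1 a ha n]
  · rw [h a ha, h b hb, hτ.2.2.1 a ha b hb]
  · rw [h a ha]; exact hτ.2.2.2 a ha

end Iso

section Ext

variable {L : Type*} [Group L] [Fintype L] {G : Type*} [Group G] [Fintype G]

/-- pairwise orthogonal family of non-isotropic functions -/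
structure Orth (s : Finset (L → ℂ)) : Prop where
  ne : ∀ χ ∈ s, classInner χ χ ≠ 0
  orth : ∀ χ ∈ s, ∀ φ ∈ s, χ ≠ φ → classInner χ φ = 0

/-- the coefficient of `χ` in `θ` -/
noncomputable def coef (θ χ : L → ℂ) : ℂ := classInner θ χ / classInner χ χ

theorem coef_add (a b χ : L → ℂ) : coef (a + b) χ = coef a χ + coef b χ := by
  unfold coef; rw [classInner_add_left, add_div]

theorem coef_smul (c : ℂ) (a χ : L → ℂ) : coef (c • a) χ = c * coef a χ := by
  unfold coef; rw [classInner_smul_left, mul_div_assoc]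

theorem coef_zsmul (n : ℤ) (a χ : L → ℂ) : coef (n • a) χ = n * coef a χ := by
  rw [← intCast_smul_eq, coef_smul]

theorem coef_zero (χ : L → ℂ) : coef 0 χ = 0 := by
  unfold coef; rw [classInner_zero_left, zero_div]

theorem coef_neg (a χ : L → ℂ) : coef (-a) χ = - coef a χ := by
  unfold coef; rw [classInner_neg_left, neg_div]

theorem coef_sub (a b χ : L → ℂ) : coef (a - b) χ = coef a χ - coef b χ := by
  unfold coef; rw [classInner_sub_left, sub_div]

open scoped Classical in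
theorem coef_mem {s : Finset (L → ℂ)} (hs : Orth s) {χ₀ χ : L → ℂ} (h0 : χ₀ ∈ s) (h : χ ∈ s) :
    coef χ₀ χ = if χ₀ = χ then 1 else 0 := by
  unfold coef
  split_ifs with e
  · rw [e, div_self (hs.ne χ h)]
  · rw [hs.orth χ₀ h0 χ h e, zero_div]

theorem coef_int {s : Finset (L → ℂ)} (hs : Orth s) {θ : L → ℂ} (hθ : θ ∈ zspan (↑s : Set (L → ℂ)))
    {χ : L → ℂ} (hχ : χ ∈ s) : ∃ n : ℤ, coef θ χ = n := by
  classical
  induction hθ using Submodule.span_induction with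
  | mem x hx =>
    rw [coef_mem hs hx hχ]
    split_ifs
    · exact ⟨1, by simp⟩
    · exact ⟨0, by simp⟩
  | zero => exact ⟨0, by rw [coef_zero]; simp⟩
  | add x y _ _ hx hy =>
    obtain ⟨n, hn⟩ := hx
    obtain ⟨m, hm⟩ := hy
    exact ⟨n + m, by rw [coef_add, hn, hm]; simp⟩
  | smul a x _ hx =>
    obtain ⟨n, hn⟩ := hx
    exact ⟨a * n, by rw [coef_zsmul, hn]; simp⟩

theorem expand {s : Finset (L → ℂ)} (hs : Orth s) {θ : L → ℂ}
    (hθ : θ ∈ zspan (↑s : Set (L → ℂ))) : θ = ∑ χ ∈ s, coef θ χ • χ := by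
  classical
  induction hθ using Submodule.span_induction with
  | mem x hx =>
    rw [Finset.sum_eq_single x]
    · rw [coef_mem hs hx hx, if_pos rfl, one_smul]
    · intro b hb hne
      rw [coef_mem hs hx hb, if_neg (Ne.symm hne), zero_smul]
    · intro h; exact absurd hx h
  | zero => simp [coef_zero]
  | add x y _ _ hx hy =>
    simp only [coef_add, add_smul, Finset.sum_add_distrib]
    rw [← hx, ← hy]
  | smul a x _ hx =>
    simp only [coef_zsmul, mul_smul]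
    rw [← Finset.smul_sum, ← hx, intCast_smul_eq]

/-- the linear extension of `v` from `s` -/
noncomputable def ext (s : Finset (L → ℂ)) (v : (L → ℂ) → (G → ℂ)) (θ : L → ℂ) : G → ℂ :=
  ∑ χ ∈ s, coef θ χ • v χ

theorem ext_add (s : Finset (L → ℂ)) (v : (L → ℂ) → (G → ℂ)) (a b : L → ℂ) :
    ext s v (a + b) = ext s v a + ext s v b := by
  unfold ext
  simp only [coef_add, add_smul, Finset.sum_add_distrib]

theorem ext_zsmul (s : Finset (L → ℂ)) (v : (L → ℂ) → (G → ℂ)) (n : ℤ) (a : L → ℂ) :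
    ext s v (n • a) = n • ext s v a := by
  unfold ext
  simp only [coef_zsmul, mul_smul]
  rw [← Finset.smul_sum, intCast_smul_eq]

theorem ext_mem {s : Finset (L → ℂ)} (hs : Orth s) (v : (L → ℂ) → (G → ℂ)) {χ : L → ℂ}
    (hχ : χ ∈ s) : ext s v χ = v χ := by
  classical
  unfold ext
  rw [Finset.sum_eq_single χ]
  · rw [coef_mem hs hχ hχ, if_pos rfl, one_smul]
  · intro b hb hne
    rw [coef_mem hs hχ hb, if_neg (Ne.symm hne), zero_smul]
  · intro h; exact absurd hχ h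

theorem ext_inner {s : Finset (L → ℂ)} (hs : Orth s) (v : (L → ℂ) → (G → ℂ))
    (hv : ∀ χ ∈ s, ∀ φ ∈ s, classInner (v χ) (v φ) = classInner χ φ) {a b : L → ℂ}
    (ha : a ∈ zspan (↑s : Set (L → ℂ))) (hb : b ∈ zspan (↑s : Set (L → ℂ))) :
    classInner (ext s v a) (ext s v b) = classInner a b := by
  conv_rhs => rw [expand hs ha, expand hs hb]
  unfold ext
  rw [classInner_sum_left, classInner_sum_left]
  apply Finset.sum_congr rfl
  intro χ hχ
  rw [classInner_sum_right, classInner_sum_right]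
  apply Finset.sum_congr rfl
  intro φ hφ
  rw [classInner_smul_left, classInner_smul_right, classInner_smul_left, classInner_smul_right,
    hv χ hχ φ hφ]

theorem ext_gen {s : Finset (L → ℂ)} (hs : Orth s) (v : (L → ℂ) → (G → ℂ))
    (hv : ∀ χ ∈ s, IsGeneralizedCharacter G (v χ)) {a : L → ℂ}
    (ha : a ∈ zspan (↑s : Set (L → ℂ))) : IsGeneralizedCharacter G (ext s v a) := by
  unfold ext
  apply gen_sum
  intro χ hχ
  obtain ⟨n, hn⟩ := coef_int hs ha hχ
  rw [hn]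
  exact gen_intCast_smul n (hv χ hχ)

theorem ext_iso {s : Finset (L → ℂ)} (hs : Orth s) (v : (L → ℂ) → (G → ℂ))
    (hv : ∀ χ ∈ s, ∀ φ ∈ s, classInner (v χ) (v φ) = classInner χ φ)
    (hv' : ∀ χ ∈ s, IsGeneralizedCharacter G (v χ)) :
    IsLinearIsometryOn (zspan (↑s : Set (L → ℂ))) (ext s v) :=
  ⟨fun a _ b _ => ext_add s v a b, fun a _ n => ext_zsmul s v n a,
    fun _ ha _ hb => ext_inner hs v hv ha hb, fun _ ha => ext_gen hs v hv' ha⟩

/-- a linear isometry on `ℤ[s]` is the linear extension of its values on `s`. -/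
theorem eq_ext {s : Finset (L → ℂ)} (hs : Orth s) {τ₁ : (L → ℂ) → (G → ℂ)}
    (hτ : IsLinearIsometryOn (zspan (↑s : Set (L → ℂ))) τ₁) {θ : L → ℂ}
    (hθ : θ ∈ zspan (↑s : Set (L → ℂ))) : τ₁ θ = ext s τ₁ θ := by
  induction hθ using Submodule.span_induction with
  | mem x hx => rw [ext_mem hs τ₁ hx]
  | zero =>
    rw [iso_zero closed_zspan hτ]
    unfold ext
    simp [coef_zero]
  | add x y hx hy ihx ihy => rw [iso_add hτ hx hy, ext_add, ihx, ihy]
  | smul a x hx ih => rw [iso_zsmul hτ a hx, ext_zsmul, ih]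

end Ext

section Signs

variable {L : Type*} [Group L] [Fintype L] {G : Type*} [Group G] [Fintype G]

theorem irr_one_pos {X : Type*} [Group X] {α : X → ℂ} (h : IsIrrCharacter X α) :
    0 < (α 1).re := by
  obtain ⟨n, hn, h1⟩ := IsIrrCharacter.exists_degree h
  rw [h1]; simpa using hn

theorem SIrr.irr_of_pos {X : Type*} [Group X] {α : X → ℂ} (h : SIrr X α) (hp : 0 < (α 1).re) :
    IsIrrCharacter X α := by
  rcases h with h | h
  · exact h
  · have := irr_one_pos h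
    simp only [Pi.neg_apply, Complex.neg_re] at this
    linarith

theorem iso_sirr {S : Set (L → ℂ)} (hirr : ∀ χ ∈ S, IsIrrCharacter L χ)
    {τ₁ : (L → ℂ) → (G → ℂ)} (hτ₁ : IsLinearIsometryOn (zspan S) τ₁) {χ : L → ℂ} (hχ : χ ∈ S) :
    SIrr G (τ₁ χ) := by
  apply gen_norm_one (iso_gen hτ₁ (zspan_of_mem hχ))
  rw [iso_inner hτ₁ (zspan_of_mem hχ) (zspan_of_mem hχ), classInner_irr_self (hirr χ hχ)]

/-- degree proportionality -/
theorem iso_degree {S : Set (L → ℂ)}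
    {τ₁ : (L → ℂ) → (G → ℂ)} (hτ₁ : IsLinearIsometryOn (zspan S) τ₁)
    (h0 : ∀ α ∈ zspan S, α 1 = 0 → τ₁ α 1 = 0) {χ ψ : L → ℂ} (hχ : χ ∈ S) (hψ : ψ ∈ S)
    (n m : ℕ) (hn : χ 1 = n) (hm : ψ 1 = m) : (m : ℂ) * τ₁ χ 1 = (n : ℂ) * τ₁ ψ 1 := by
  have hmem1 : (m : ℤ) • χ ∈ zspan S := zspan_zsmul _ (zspan_of_mem hχ)
  have hmem2 : (n : ℤ) • ψ ∈ zspan S := zspan_zsmul _ (zspan_of_mem hψ)
  have h1 := h0 ((m : ℤ) • χ - (n : ℤ) • ψ) (zspan_sub hmem1 hmem2) (by
    simp [hn, hm]; ring)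
  rw [iso_sub closed_zspan hτ₁ hmem1 hmem2, iso_zsmul hτ₁ _ (zspan_of_mem hχ),
    iso_zsmul hτ₁ _ (zspan_of_mem hψ)] at h1
  rw [Pi.sub_apply, Pi.smul_apply, Pi.smul_apply, zsmul_eq_mul, zsmul_eq_mul, Int.cast_natCast,
    Int.cast_natCast] at h1
  linear_combination h1

theorem signs_uniform {S : Set (L → ℂ)} (hirr : ∀ χ ∈ S, IsIrrCharacter L χ)
    {τ₁ : (L → ℂ) → (G → ℂ)} (hτ₁ : IsLinearIsometryOn (zspan S) τ₁)
    (h0 : ∀ α ∈ zspan S, α 1 = 0 → τ₁ α 1 = 0) :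
    ∃ ε : ℂ, (ε = 1 ∨ ε = -1) ∧ ∀ χ ∈ S, IsIrrCharacter G (ε • τ₁ χ) := by
  by_cases hS : S.Nonempty
  · obtain ⟨χ₀, hχ₀⟩ := hS
    have key : ∀ ε : ℂ, (ε = 1 ∨ ε = -1) → IsIrrCharacter G (ε • τ₁ χ₀) →
        ∀ χ ∈ S, IsIrrCharacter G (ε • τ₁ χ) := by
      intro ε hε h1 χ hχ
      have hs : SIrr G (ε • τ₁ χ) := by
        rcases hε with rfl | rfl
        · simpa using iso_sirr hirr hτ₁ hχ
        · simpa using (iso_sirr hirr hτ₁ hχ).neg
      apply SIrr.irr_of_pos hs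
      obtain ⟨n, hn, hn1⟩ := IsIrrCharacter.exists_degree (hirr χ hχ)
      obtain ⟨n₀, hn₀, hn₀1⟩ := IsIrrCharacter.exists_degree (hirr χ₀ hχ₀)
      obtain ⟨k, hk, hk1⟩ := IsIrrCharacter.exists_degree h1
      have h2 := iso_degree hτ₁ h0 hχ hχ₀ n n₀ hn1 hn₀1
      have h3 : (n₀ : ℂ) * (ε • τ₁ χ) 1 = (n : ℂ) * k := by
        rw [← hk1]
        simp only [Pi.smul_apply, smul_eq_mul]
        linear_combination ε * h2
      have h4 : (ε • τ₁ χ) 1 = (((n : ℝ) * k / n₀ : ℝ) : ℂ) := by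
        have hne : (n₀ : ℂ) ≠ 0 := by exact_mod_cast hn₀.ne'
        push_cast
        field_simp
        linear_combination h3
      rw [h4, Complex.ofReal_re]
      positivity
    rcases iso_sirr hirr hτ₁ hχ₀ with h | h
    · exact ⟨1, Or.inl rfl, key 1 (Or.inl rfl) (by simpa using h)⟩
    · exact ⟨-1, Or.inr rfl, key (-1) (Or.inr rfl) (by simpa using h)⟩
  · refine ⟨1, Or.inl rfl, fun χ hχ => absurd ⟨χ, hχ⟩ hS⟩

theorem iso_injOn {S : Set (L → ℂ)} (hirr : ∀ χ ∈ S, IsIrrCharacter L χ)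
    {τ₁ : (L → ℂ) → (G → ℂ)} (hτ₁ : IsLinearIsometryOn (zspan S) τ₁) {χ ψ : L → ℂ}
    (hχ : χ ∈ S) (hψ : ψ ∈ S) (h : τ₁ χ = τ₁ ψ) : χ = ψ := by
  by_contra hne
  have h1 := iso_inner hτ₁ (zspan_of_mem hχ) (zspan_of_mem hψ)
  rw [h, iso_inner hτ₁ (zspan_of_mem hψ) (zspan_of_mem hψ), classInner_irr_self (hirr ψ hψ),
    classInner_irr_ne (hirr χ hχ) (hirr ψ hψ) hne] at h1
  exact one_ne_zero h1

end Signs

section Bessel

variable {G : Type*} [Group G] [Fintype G]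

theorem bessel_orth {ι : Type*} [DecidableEq ι] (s : Finset ι) (e : ι → G → ℂ)
    (he : ∀ i ∈ s, ∀ j ∈ s, classInner (e i) (e j) = if i = j then 1 else 0) (v : G → ℂ)
    {i : ι} (hi : i ∈ s) :
    classInner (v - ∑ j ∈ s, classInner v (e j) • e j) (e i) = 0 := by
  rw [classInner_sub_left, classInner_sum_left, Finset.sum_eq_single i]
  · rw [classInner_smul_left, he i hi i hi, if_pos rfl, mul_one, sub_self]
  · intro j hj hne
    rw [classInner_smul_left, he j hj i hi, if_neg hne, mul_zero]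
  · intro h; exact absurd hi h

theorem bessel_norm {ι : Type*} [DecidableEq ι] (s : Finset ι) (e : ι → G → ℂ)
    (he : ∀ i ∈ s, ∀ j ∈ s, classInner (e i) (e j) = if i = j then 1 else 0) (v : G → ℂ) :
    classInner (v - ∑ j ∈ s, classInner v (e j) • e j) (v - ∑ j ∈ s, classInner v (e j) • e j) =
      classInner v v - ∑ j ∈ s, classInner v (e j) * conj (classInner v (e j)) := by
  set X := v - ∑ j ∈ s, classInner v (e j) • e j with hX
  have h1 : classInner X (∑ j ∈ s, classInner v (e j) • e j) = 0 := by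
    rw [classInner_sum_right]
    apply Finset.sum_eq_zero
    intro j hj
    rw [classInner_smul_right, hX, bessel_orth s e he v hj, mul_zero]
  conv_lhs => rw [hX]
  rw [classInner_sub_right, ← hX, h1, sub_zero, hX, classInner_sub_left, classInner_sum_left]
  congr 1
  apply Finset.sum_congr rfl
  intro j _
  rw [classInner_smul_left, classInner_conj_symm]

end Bessel

section Agree

variable {L : Type*} {M : Type*} [AddCommGroup M]

/-- two maps that are additive and `ℤ`-homogeneous on `ℤ[S]` and agree on `S` agree on `ℤ[S]`. -/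
theorem agree_on_zspan {S : Set (L → ℂ)} (f g : (L → ℂ) → M)
    (fadd : ∀ a ∈ zspan S, ∀ b ∈ zspan S, f (a + b) = f a + f b)
    (fsmul : ∀ a ∈ zspan S, ∀ n : ℤ, f (n • a) = n • f a)
    (gadd : ∀ a ∈ zspan S, ∀ b ∈ zspan S, g (a + b) = g a + g b)
    (gsmul : ∀ a ∈ zspan S, ∀ n : ℤ, g (n • a) = n • g a)
    (h : ∀ χ ∈ S, f χ = g χ) {θ : L → ℂ} (hθ : θ ∈ zspan S) : f θ = g θ := by
  induction hθ using Submodule.span_induction with
  | mem x hx => exact h x hx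
  | zero =>
    have h1 := fsmul 0 zspan_zero 0
    have h2 := gsmul 0 zspan_zero 0
    simp only [zero_smul] at h1 h2
    rw [h1, h2]
  | add x y hx hy ihx ihy => rw [fadd x hx y hy, gadd x hx y hy, ihx, ihy]
  | smul a x hx ih => rw [fsmul x hx a, gsmul x hx a, ih]

end Agree

section More

variable {L : Type*} [Group L] [Fintype L] {G : Type*}

theorem zsmul_apply' {X : Type*} (n : ℤ) (f : X → ℂ) (x : X) : (n • f) x = n * f x := by simp

theorem classInner_zsmul_left (n : ℤ) (a b : L → ℂ) :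
    classInner (n • a) b = n * classInner a b := by
  rw [← intCast_smul_eq, classInner_smul_left]

theorem classInner_zsmul_right (n : ℤ) (a b : L → ℂ) :
    classInner a (n • b) = n * classInner a b := by
  rw [← intCast_smul_eq, classInner_smul_right, map_intCast]

theorem ext_sub (s : Finset (L → ℂ)) (v : (L → ℂ) → (G → ℂ)) (a b : L → ℂ) :
    ext s v (a - b) = ext s v a - ext s v b := by
  unfold ext
  simp only [coef_sub, sub_smul, Finset.sum_sub_distrib]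

theorem orth_of_irr {s : Finset (L → ℂ)} (h : ∀ χ ∈ s, IsIrrCharacter L χ) : Orth s :=
  ⟨fun χ hχ => by rw [classInner_irr_self (h χ hχ)]; exact one_ne_zero,
    fun χ hχ φ hφ hne => classInner_irr_ne (h χ hχ) (h φ hφ) hne⟩

end More

end Cfsg.Agent.Lib.Helper32Coh
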