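import Cfsg.Agent.Lib.Helper32Sub

set_option autoImplicit false
set_option linter.unusedSectionVars false
open Cfsg

namespace Cfsg.Agent.Lib.Helper32Sub2

open Cfsg.Agent.Lib.Helper4Char Cfsg.Agent.Lib.Helper4Char2 Cfsg.Agent.Lib.Helper4Char4
open Cfsg.Agent.Lib.Helper32Virt Cfsg.Agent.Lib.Helper32Coh Cfsg.Agent.Lib.Helper32Sub
open scoped ComplexConjugate

theorem char_eq_zero_of_degree {X : Type*} [Group X] {χ : X → ℂ} (h : IsCharacter X χ)
    (h1 : χ 1 = 0) : χ = 0 := by
  obtain ⟨n, ρ, rfl⟩ := h
  rw [Representation.char_one] at h1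
  have hn : n = 0 := by
    have : (Module.finrank ℂ (Fin n → ℂ) : ℂ) = n := by simp
    rw [this] at h1
    exact_mod_cast h1
  subst hn
  funext g
  have : ρ g = 0 := LinearMap.ext (fun x => Subsingleton.elim _ _)
  show LinearMap.trace ℂ _ (ρ g) = 0
  rw [this, map_zero]

section

variable {L : Type*} [Group L] [Fintype L] {G : Type*} [Group G] [Fintype G]

theorem Closed.sum_mem {X : Type*} {E : Set (X → ℂ)} (hE : Closed E) {ι : Type*} (u : Finset ι)
    (n : ι → ℤ) (a : ι → X → ℂ) (ha : ∀ i ∈ u, a i ∈ E) : ∑ i ∈ u, n i • a i ∈ E := by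
  classical
  induction u using Finset.induction_on with
  | empty => simpa using hE.zero
  | insert i u hi ih =>
    rw [Finset.sum_insert hi]
    exact hE.add _ (hE.zsmul _ _ (ha i (Finset.mem_insert_self i u))) _
      (ih (fun j hj => ha j (Finset.mem_insert_of_mem hj)))

theorem iso_sum {E : Set (L → ℂ)} {τ : (L → ℂ) → (G → ℂ)} (hE : Closed E)
    (hτ : IsLinearIsometryOn E τ) {ι : Type*} (u : Finset ι)
    (n : ι → ℤ) (a : ι → L → ℂ) (ha : ∀ i ∈ u, a i ∈ E) :
    τ (∑ i ∈ u, n i • a i) = ∑ i ∈ u, n i • τ (a i) := by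
  classical
  induction u using Finset.induction_on with
  | empty => simpa using iso_zero hE hτ
  | insert i u hi ih =>
    rw [Finset.sum_insert hi, Finset.sum_insert hi,
      iso_add hτ (hE.zsmul _ _ (ha i (Finset.mem_insert_self i u)))
        (Closed.sum_mem hE u n a (fun j hj => ha j (Finset.mem_insert_of_mem hj))),
      iso_zsmul hτ _ (ha i (Finset.mem_insert_self i u)),
      ih (fun j hj => ha j (Finset.mem_insert_of_mem hj))]

variable {S : Set (L → ℂ)} {τ : (L → ℂ) → (G → ℂ)} {R : (L → ℂ) → Finset (G → ℂ)}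
variable (hS : IsCoherenceSystem S τ R)
include hS

theorem finite : S.Finite := by
  have hli : LinearIndependent ℂ (fun x : S => (x : L → ℂ)) := by
    rw [linearIndependent_iff']
    intro u c hc i hi
    have h1 := congrArg (fun f => classInner f (i : L → ℂ)) hc
    simp only [classInner_sum_left, classInner_smul_left, classInner_zero_left] at h1
    rw [Finset.sum_eq_single i] at h1
    · rcases mul_eq_zero.1 h1 with h | h
      · exact h
      · exfalso
        apply (norm_pos hS i.2).ne'
        have := inner_self_eq_ip (i : L → ℂ)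
        rw [h] at this
        exact_mod_cast this.symm
    · intro j _ hne
      rw [hS.orthogonal j j.2 i i.2 (fun e => hne (Subtype.ext e)), mul_zero]
    · intro h; exact absurd hi h
  exact hli.set_finite_of_isNoetherian

theorem degree_ne_zero {χ : L → ℂ} (hχ : χ ∈ S) : χ 1 ≠ 0 :=
  fun h => ne_zero hS hχ (char_eq_zero_of_degree (hS.isCharacter χ hχ) h)

end

end Cfsg.Agent.Lib.Helper32Sub2
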