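import Cfsg.Agent.Lib.Helper32SeqInd
import Cfsg.Agent.S1516

set_option autoImplicit false
set_option linter.unusedSectionVars false
open Cfsg

namespace Cfsg.Agent.Lib.Helper32Extend

open Cfsg.Agent.Lib.Helper4Char Cfsg.Agent.Lib.Helper4Char2 Cfsg.Agent.Lib.Helper4Char4
open Cfsg.Agent.Lib.Helper32Virt Cfsg.Agent.Lib.Helper32Coh Cfsg.Agent.Lib.Helper32Sub
open Cfsg.Agent.Lib.Helper32Sub2 Cfsg.Agent.Lib.Helper32SeqInd

variable {L : Type*} [Group L] [Fintype L] {G : Type*} [Group G] [Fintype G]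

theorem coherent_mono {T T' : Set (L → ℂ)} {τ : (L → ℂ) → (G → ℂ)} (h : T ⊆ T')
    (hcoh : IsCoherent T' {1}ᶜ τ) (hne : ∃ α ∈ zspanOn T {1}ᶜ, α ≠ 0) : IsCoherent T {1}ᶜ τ := by
  obtain ⟨-, τ₁, h1, h2⟩ := hcoh
  exact ⟨hne, τ₁, iso_mono (zspan_mono h) h1, fun α hα => h2 α (zspanOn_mono h hα)⟩

variable {S : Set (L → ℂ)} {τ : (L → ℂ) → (G → ℂ)} {R : (L → ℂ) → Finset (G → ℂ)}

/-- repeated application of Peterfalvi (5.6). -/
theorem extend_all (hS : IsCoherenceSystem S τ R) (d n : (L → ℂ) → ℕ)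
    (hd : ∀ φ ∈ S, φ 1 = (d φ : ℂ)) (hn : ∀ φ ∈ S, classInner φ φ = (n φ : ℂ))
    (sA sB : Finset (L → ℂ)) (hA : (↑sA : Set (L → ℂ)) ⊆ S) (hB : (↑sB : Set (L → ℂ)) ⊆ S)
    (hAc : ∀ φ ∈ sA, conjFun φ ∈ sA) (hBc : ∀ φ ∈ sB, conjFun φ ∈ sB)
    (hcoh : IsCoherent (↑sA : Set (L → ℂ)) {1}ᶜ τ) (ξ₁ : L → ℂ) (hξ₁ : ξ₁ ∈ sA)
    (hdvd : ∀ χ ∈ sB, d ξ₁ ∣ d χ)
    (hineq : ∀ χ ∈ sB, (2 * d χ * d ξ₁ : ℝ) < ∑ φ ∈ sA, ((d φ : ℝ) ^ 2 / (n φ : ℝ))) :
    IsCoherent (↑(sA ∪ sB) : Set (L → ℂ)) {1}ᶜ τ := by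
  classical
  have key : ∀ k : ℕ, ∀ S₁ : Finset (L → ℂ), sA ⊆ S₁ → S₁ ⊆ sA ∪ sB →
      (∀ φ ∈ S₁, conjFun φ ∈ S₁) → IsCoherent (↑S₁ : Set (L → ℂ)) {1}ᶜ τ → (sB \ S₁).card = k →
      IsCoherent (↑(sA ∪ sB) : Set (L → ℂ)) {1}ᶜ τ := by
    intro k
    induction k using Nat.strong_induction_on with
    | _ k ih =>
      intro S₁ h1 h2 h3 h4 h5
      by_cases h : sB ⊆ S₁
      · have : S₁ = sA ∪ sB := Finset.Subset.antisymm h2 (Finset.union_subset h1 h)
        rw [← this]; exact h4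
      · obtain ⟨χ, hχB, hχ₁⟩ := Finset.not_subset.1 h
        have hχ₂ : conjFun χ ∉ S₁ := by
          intro hc
          have := h3 _ hc
          rw [conjFun_conjFun] at this
          exact hχ₁ this
        have hS₁S : (↑S₁ : Set (L → ℂ)) ⊆ S := by
          intro φ hφ
          rcases Finset.mem_union.1 (h2 (Finset.mem_coe.1 hφ)) with hh | hh
          · exact hA hh
          · exact hB hh
        have hnew := Cfsg.Agent.S1516.result S τ R hS d n hd hn S₁ hS₁S h3 h4 χ (hB hχB) hχ₁ hχ₂ ξ₁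
          (h1 hξ₁) (hdvd χ hχB) (lt_of_lt_of_le (hineq χ hχB)
            (Finset.sum_le_sum_of_subset_of_nonneg h1 (fun φ _ _ => by positivity)))
        have hset : (↑S₁ ∪ {χ, conjFun χ} : Set (L → ℂ)) =
            (↑(insert χ (insert (conjFun χ) S₁)) : Set (L → ℂ)) := by
          ext x
          simp only [Set.mem_union, Finset.mem_coe, Set.mem_insert_iff, Set.mem_singleton_iff,
            Finset.coe_insert]
          tauto
        rw [hset] at hnew
        refine ih (sB \ insert χ (insert (conjFun χ) S₁)).card ?_ _ ?_ ?_ ?_ hnew rfl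
        · rw [← h5]
          apply Finset.card_lt_card
          rw [Finset.ssubset_iff_of_subset]
          · exact ⟨χ, Finset.mem_sdiff.2 ⟨hχB, hχ₁⟩, fun hh =>
              (Finset.mem_sdiff.1 hh).2 (Finset.mem_insert_self _ _)⟩
          · intro x hx
            rw [Finset.mem_sdiff] at hx ⊢
            exact ⟨hx.1, fun hh => hx.2 (Finset.mem_insert_of_mem (Finset.mem_insert_of_mem hh))⟩
        · intro x hx
          exact Finset.mem_insert_of_mem (Finset.mem_insert_of_mem (h1 hx))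
        · intro x hx
          rcases Finset.mem_insert.1 hx with e | hx2
          · rw [e]; exact Finset.mem_union_right _ hχB
          rcases Finset.mem_insert.1 hx2 with e | hx3
          · rw [e]; exact Finset.mem_union_right _ (hBc χ hχB)
          · exact h2 hx3
        · intro x hx
          rcases Finset.mem_insert.1 hx with e | hx2
          · rw [e]; exact Finset.mem_insert_of_mem (Finset.mem_insert_self _ _)
          rcases Finset.mem_insert.1 hx2 with e | hx3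
          · rw [e, conjFun_conjFun]; exact Finset.mem_insert_self _ _
          · exact Finset.mem_insert_of_mem (Finset.mem_insert_of_mem (h3 x hx3))
  exact key _ sA (Finset.Subset.refl _) Finset.subset_union_left hAc hcoh rfl

/-- the core of Peterfalvi (6.3). -/
theorem core (K : Subgroup L) [hK : K.Normal] (hsolv : Group.IsSolvable K)
    (hS : IsCoherenceSystem (inducedIrrAbove K ⊥) τ R) (A B : Subgroup L) [A.Normal] [B.Normal]
    (hAK : A < K) (hBK : B < K) (hA : IsCoherent (inducedIrrAbove K A) {1}ᶜ τ)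
    (hbound : ∀ θ : K → ℂ, IsIrrCharacter K θ → (∀ a : K, (a : L) ∈ B → θ a = θ 1) →
      2 * (K.index : ℝ) * ‖θ 1‖ < (A.relIndex K : ℝ) - 1) :
    IsCoherent (inducedIrrAbove K B) {1}ᶜ τ := by
  classical
  have hfin := finite hS
  have hdex : ∀ φ : L → ℂ, ∃ k : ℕ, φ ∈ inducedIrrAbove K ⊥ → φ 1 = k := by
    intro φ
    by_cases hφ : φ ∈ inducedIrrAbove K ⊥
    · obtain ⟨k, hk⟩ := IsCharacter.exists_degree (hS.isCharacter φ hφ)
      exact ⟨k, fun _ => hk⟩
    · exact ⟨0, fun h => absurd h hφ⟩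
  choose d hd using hdex
  have hnex : ∀ φ : L → ℂ, ∃ k : ℕ, φ ∈ inducedIrrAbove K ⊥ → classInner φ φ = k := by
    intro φ
    by_cases hφ : φ ∈ inducedIrrAbove K ⊥
    · obtain ⟨k, hk⟩ := IsCharacter.classInner_nat (hS.isCharacter φ hφ) (hS.isCharacter φ hφ)
      exact ⟨k, fun _ => hk⟩
    · exact ⟨0, fun h => absurd h hφ⟩
  choose n hn using hnex
  set sA : Finset (L → ℂ) := (hfin.subset (subset_bot (A := A))).toFinset with hsA
  set sB : Finset (L → ℂ) := (hfin.subset (subset_bot (A := B))).toFinset with hsB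
  have cA : (↑sA : Set (L → ℂ)) = inducedIrrAbove K A := by rw [hsA]; simp
  have cB : (↑sB : Set (L → ℂ)) = inducedIrrAbove K B := by rw [hsB]; simp
  have mA : ∀ {φ : L → ℂ}, φ ∈ sA ↔ φ ∈ inducedIrrAbove K A := by intro φ; rw [hsA]; simp
  have mB : ∀ {φ : L → ℂ}, φ ∈ sB ↔ φ ∈ inducedIrrAbove K B := by intro φ; rw [hsB]; simp
  have hAS : (↑sA : Set (L → ℂ)) ⊆ inducedIrrAbove K ⊥ := by rw [cA]; exact subset_bot
  have hBS : (↑sB : Set (L → ℂ)) ⊆ inducedIrrAbove K ⊥ := by rw [cB]; exact subset_bot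
  obtain ⟨ξ₁, hξ₁, hξ₁d⟩ := exists_linear_mem hsolv hAK
  obtain ⟨ξ₂, hξ₂, -⟩ := exists_linear_mem hsolv hBK
  have hdξ₁ : d ξ₁ = K.index := by
    have := hd ξ₁ (subset_bot hξ₁)
    rw [hξ₁d] at this
    exact_mod_cast this.symm
  have hepos : (0 : ℝ) < K.index := by
    have : K.index ≠ 0 := Subgroup.index_ne_zero_of_finite
    exact_mod_cast Nat.pos_of_ne_zero this
  have hsum : ∑ φ ∈ sA, ((d φ : ℝ) ^ 2 / (n φ : ℝ)) = (K.index : ℝ) * ((A.relIndex K : ℝ) - 1) := by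
    have h1 := sum_formula K A hAK.le sA cA (orth_finset hS hAS)
    have h2 : ∑ χ ∈ sA, χ 1 / classInner χ χ * χ 1 =
        ((∑ φ ∈ sA, ((d φ : ℝ) ^ 2 / (n φ : ℝ)) : ℝ) : ℂ) := by
      push_cast
      apply Finset.sum_congr rfl
      intro χ hχ
      rw [hd χ (hAS hχ), hn χ (hAS hχ)]
      ring
    rw [h2] at h1
    exact_mod_cast h1
  have hunion := extend_all hS d n hd hn sA sB hAS hBS
    (fun φ hφ => mA.2 (conj_mem (mA.1 hφ))) (fun φ hφ => mB.2 (conj_mem (mB.1 hφ)))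
    (by rw [cA]; exact hA) ξ₁ (mA.2 hξ₁)
    (by
      intro χ hχ
      obtain ⟨θ, h1, h2, h3, h4⟩ := mB.1 hχ
      obtain ⟨t, ht⟩ := IsCharacter.exists_degree (IsIrrCharacter.isCharacter h1)
      have h5 := hd χ (hBS hχ)
      have h5' : χ 1 = (K.index : ℂ) * t := by
        rw [h4, Cfsg.Agent.Lib.Helper82Mult.indFun_one, ht]
      rw [h5'] at h5
      rw [hdξ₁]
      exact ⟨t, by exact_mod_cast h5.symm⟩)
    (by
      intro χ hχ
      obtain ⟨θ, h1, h2, h3, h4⟩ := mB.1 hχ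
      obtain ⟨t, ht⟩ := IsCharacter.exists_degree (IsIrrCharacter.isCharacter h1)
      have h5 := hd χ (hBS hχ)
      have h5' : χ 1 = (K.index : ℂ) * t := by
        rw [h4, Cfsg.Agent.Lib.Helper82Mult.indFun_one, ht]
      rw [h5'] at h5
      have h6 : (d χ : ℝ) = (K.index : ℝ) * t := by exact_mod_cast h5.symm
      have h7 := hbound θ h1 h3
      rw [ht] at h7
      simp only [Complex.norm_natCast] at h7
      rw [hsum, hdξ₁, h6]
      nlinarith)
  apply coherent_mono (T' := (↑(sA ∪ sB) : Set (L → ℂ))) _ hunion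
  · refine ⟨ξ₂ - conjFun ξ₂, ?_, sub_ne_zero.2 (hS.conj_ne ξ₂ (subset_bot hξ₂)).symm⟩
    rw [mem_zspanOn_one]
    exact ⟨zspan_sub (zspan_of_mem hξ₂) (zspan_of_mem (conj_mem hξ₂)),
      by rw [Pi.sub_apply, conj_one hS (subset_bot hξ₂), sub_self]⟩
  · rw [Finset.coe_union, cB]
    exact Set.subset_union_right

end Cfsg.Agent.Lib.Helper32Extend
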