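import Cfsg.Agent.Lib.Helper32Feit2

set_option autoImplicit false
set_option linter.unusedSectionVars false
open Cfsg

namespace Cfsg.Agent.Lib.Helper32Feit3

open Cfsg.Agent.Lib.Helper4Char Cfsg.Agent.Lib.Helper4Char2 Cfsg.Agent.Lib.Helper4Char4
open Cfsg.Agent.Lib.Helper32Virt Cfsg.Agent.Lib.Helper32Coh Cfsg.Agent.Lib.Helper32Sub
open Cfsg.Agent.Lib.Helper32Sub2 Cfsg.Agent.Lib.Helper32SeqInd Cfsg.Agent.Lib.Helper32Extend
open Cfsg.Agent.Lib.Helper32Frob2 Cfsg.Agent.Lib.Helper32Ind Cfsg.Agent.Lib.Helper19Ind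
open Cfsg.Agent.Lib.Helper5Ind Cfsg.Agent.Lib.Helper32TI Cfsg.Agent.Lib.Helper32FrobGrp
open Cfsg.Agent.Lib.Helper32Link Cfsg.Agent.Lib.Helper32PartA Cfsg.Agent.Lib.Helper32PartB
open Cfsg.Agent.Lib.Helper32Feit Cfsg.Agent.Lib.Helper32EqDeg Cfsg.Agent.Lib.Helper32Feit2

variable {L : Type*} [Group L] [Fintype L] {G : Type*} [Group G] [Fintype G]

/-- repeated application of Feit's extension lemma. -/
theorem extend_irr (S : Set (L → ℂ)) (hirr : ∀ χ ∈ S, IsIrrCharacter L χ) (τ : (L → ℂ) → (G → ℂ))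
    (hτ : IsLinearIsometryOn (zspanOn S {1}ᶜ) τ) (hτ1 : ∀ α ∈ zspanOn S {1}ᶜ, τ α 1 = 0)
    (d : (L → ℂ) → ℕ) (hd : ∀ φ ∈ S, φ 1 = (d φ : ℂ))
    (sA sB : Finset (L → ℂ)) (hAB : sA ⊆ sB) (hB : (↑sB : Set (L → ℂ)) ⊆ S)
    (hcoh : IsCoherent (↑sA : Set (L → ℂ)) {1}ᶜ τ) (ξ₁ : L → ℂ) (hξ₁ : ξ₁ ∈ sA)
    (hdvd : ∀ χ ∈ sB, d ξ₁ ∣ d χ)
    (hineq : ∀ χ ∈ sB, 2 * d ξ₁ * d χ < ∑ φ ∈ sA, d φ ^ 2) :
    IsCoherent (↑sB : Set (L → ℂ)) {1}ᶜ τ := by
  classical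
  have key : ∀ k : ℕ, ∀ S₁ : Finset (L → ℂ), sA ⊆ S₁ → S₁ ⊆ sB →
      IsCoherent (↑S₁ : Set (L → ℂ)) {1}ᶜ τ → (sB \ S₁).card = k →
      IsCoherent (↑sB : Set (L → ℂ)) {1}ᶜ τ := by
    intro k
    induction k using Nat.strong_induction_on with
    | _ k ih =>
      intro S₁ h1 h2 h4 h5
      by_cases h : sB ⊆ S₁
      · have : S₁ = sB := Finset.Subset.antisymm h2 h
        rw [← this]; exact h4
      · obtain ⟨χ, hχB, hχ₁⟩ := Finset.not_subset.1 h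
        have hinsB : insert χ S₁ ⊆ sB := Finset.insert_subset hχB h2
        have hinsS : (↑(insert χ S₁) : Set (L → ℂ)) ⊆ S :=
          (Finset.coe_subset.2 hinsB).trans hB
        have hnew := Cfsg.Agent.S1530.feit S₁ χ (fun ξ hξ => hirr ξ (hB (h2 hξ)))
          (hirr χ (hB hχB)) hχ₁ d (fun ξ hξ => hd ξ (hinsS hξ)) τ
          (iso_mono (zspanOn_mono hinsS) hτ) (fun α hα => hτ1 α (zspanOn_mono hinsS hα)) h4 ξ₁
          (h1 hξ₁) (hdvd χ hχB) (lt_of_lt_of_le (hineq χ hχB)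
            (Finset.sum_le_sum_of_subset_of_nonneg h1 (fun φ _ _ => Nat.zero_le _)))
        refine ih (sB \ insert χ S₁).card ?_ _ ?_ hinsB hnew rfl
        · rw [← h5]
          apply Finset.card_lt_card
          rw [Finset.ssubset_iff_of_subset]
          · exact ⟨χ, Finset.mem_sdiff.2 ⟨hχB, hχ₁⟩, fun hh =>
              (Finset.mem_sdiff.1 hh).2 (Finset.mem_insert_self _ _)⟩
          · intro x hx
            rw [Finset.mem_sdiff] at hx ⊢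
            exact ⟨hx.1, fun hh => hx.2 (Finset.mem_insert_of_mem hh)⟩
        · intro x hx
          exact Finset.mem_insert_of_mem (h1 hx)
  exact key _ sA (Finset.Subset.refl _) hAB hcoh rfl

/-- the hypotheses on `τ`. -/
structure FSys (K : Subgroup L) (τ : (L → ℂ) → (G → ℂ)) : Prop where
  irr : ∀ χ ∈ inducedIrrAbove K ⊥, IsIrrCharacter L χ
  iso : IsLinearIsometryOn (zspanOn (inducedIrrAbove K ⊥) {1}ᶜ) τ
  one : ∀ α ∈ zspanOn (inducedIrrAbove K ⊥) {1}ᶜ, τ α 1 = 0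

variable {τ : (L → ℂ) → (G → ℂ)}

/-- the analogue of Peterfalvi (6.3) for irreducible characters. -/
theorem core' (K : Subgroup L) [hK : K.Normal] (hsolv : Group.IsSolvable K)
    (hS : FSys K τ) (A B : Subgroup L) [A.Normal] [B.Normal]
    (hAK : A < K) (hBA : B ≤ A) (hA : IsCoherent (inducedIrrAbove K A) {1}ᶜ τ)
    (hbound : ∀ θ : K → ℂ, IsIrrCharacter K θ → (∀ a : K, (a : L) ∈ B → θ a = θ 1) →
      2 * (K.index : ℝ) * ‖θ 1‖ < (A.relIndex K : ℝ) - 1) :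
    IsCoherent (inducedIrrAbove K B) {1}ᶜ τ := by
  classical
  have hfin : (inducedIrrAbove K ⊥).Finite := Cfsg.Agent.S1531.finite_of_irr _ hS.irr
  have hdeg : ∀ χ ∈ inducedIrrAbove K ⊥, ∃ k : ℕ, 0 < k ∧ χ 1 = ((K.index * k : ℕ) : ℂ) :=
    fun χ hχ => degree_mul K hχ
  choose! k hkpos hk using hdeg
  set sA : Finset (L → ℂ) := (hfin.subset (subset_bot (A := A))).toFinset with hsA
  set sB : Finset (L → ℂ) := (hfin.subset (subset_bot (A := B))).toFinset with hsB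
  have cA : (↑sA : Set (L → ℂ)) = inducedIrrAbove K A := by rw [hsA]; simp
  have cB : (↑sB : Set (L → ℂ)) = inducedIrrAbove K B := by rw [hsB]; simp
  have mA : ∀ {φ : L → ℂ}, φ ∈ sA ↔ φ ∈ inducedIrrAbove K A := by intro φ; rw [hsA]; simp
  have mB : ∀ {φ : L → ℂ}, φ ∈ sB ↔ φ ∈ inducedIrrAbove K B := by intro φ; rw [hsB]; simp
  have hBS : (↑sB : Set (L → ℂ)) ⊆ inducedIrrAbove K ⊥ := by rw [cB]; exact subset_bot
  obtain ⟨ξ₁, hξ₁, hξ₁d⟩ := exists_linear_mem hsolv hAK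
  have he0 : K.index ≠ 0 := Subgroup.index_ne_zero_of_finite
  have hkξ₁ : k ξ₁ = 1 := by
    have h1 := hk ξ₁ (subset_bot hξ₁)
    rw [hξ₁d] at h1
    have h2 : K.index = K.index * k ξ₁ := by exact_mod_cast h1
    have h3 : K.index * 1 = K.index * k ξ₁ := by rw [mul_one]; exact h2
    exact (Nat.eq_of_mul_eq_mul_left (Nat.pos_of_ne_zero he0) h3).symm
  have hsum := sum_sq K hS.irr A hAK.le sA cA k hk
  rw [← cB]
  apply extend_irr _ hS.irr τ hS.iso hS.one (fun φ => K.index * k φ) hk sA sB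
    (fun φ hφ => mB.2 (mono hBA (mA.1 hφ))) hBS (by rw [cA]; exact hA) ξ₁ (mA.2 hξ₁)
  · intro χ _
    simp only [hkξ₁, mul_one]
    exact Dvd.intro _ rfl
  · intro χ hχ
    obtain ⟨θ, h1, h2, h3, h4⟩ := mB.1 hχ
    obtain ⟨t, ht⟩ := IsCharacter.exists_degree (IsIrrCharacter.isCharacter h1)
    have h5 := hk χ (hBS hχ)
    have h5' : χ 1 = (K.index : ℂ) * t := by
      rw [h4, Cfsg.Agent.Lib.Helper82Mult.indFun_one, ht]
    rw [h5'] at h5
    have h6 : K.index * t = K.index * k χ := by exact_mod_cast h5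
    have h7 : t = k χ := Nat.eq_of_mul_eq_mul_left (Nat.pos_of_ne_zero he0) h6
    have h8 := hbound θ h1 h3
    rw [ht, h7] at h8
    simp only [Complex.norm_natCast] at h8
    simp only [hkξ₁, mul_one]
    have h9 : ∑ φ ∈ sA, (K.index * k φ) ^ 2 = K.index * (K.index * ∑ φ ∈ sA, k φ ^ 2) := by
      rw [Finset.mul_sum, Finset.mul_sum]
      apply Finset.sum_congr rfl
      intro φ _
      ring
    rw [h9]
    have h10 : (2 * (K.index : ℝ) * (k χ : ℝ)) < ((K.index * ∑ φ ∈ sA, k φ ^ 2 : ℕ) : ℝ) := by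
      have : ((K.index * ∑ φ ∈ sA, k φ ^ 2 : ℕ) : ℝ) = (A.relIndex K : ℝ) - 1 := by
        rw [← hsum]; push_cast; ring
      rw [this]; exact h8
    have h11 : 2 * K.index * k χ < K.index * ∑ φ ∈ sA, k φ ^ 2 := by exact_mod_cast h10
    calc 2 * K.index * (K.index * k χ) = K.index * (2 * K.index * k χ) := by ring
      _ < K.index * (K.index * ∑ φ ∈ sA, k φ ^ 2) :=
        Nat.mul_lt_mul_of_pos_left h11 (Nat.pos_of_ne_zero he0)

/-- the analogue of S1519. -/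
theorem step' (K : Subgroup L) [hK : K.Normal] (hsolv : Group.IsSolvable K) (hS : FSys K τ)
    (A B C D : Subgroup L) [A.Normal] [B.Normal] (hAK : A < K) (hBA : B ≤ A)
    (hBD : B ≤ D) (hDC : D ≤ C) (hCK : C ≤ K)
    (hcent : ∀ x ∈ D, ∀ y ∈ C, x * y * x⁻¹ * y⁻¹ ∈ B)
    (hA : IsCoherent (inducedIrrAbove K A) {1}ᶜ τ)
    (hlt : 4 * C.index ^ 2 * D.relIndex C < (A.relIndex K - 1) ^ 2) :
    IsCoherent (inducedIrrAbove K B) {1}ᶜ τ := by
  apply core' K hsolv hS A B hAK hBA hA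
  intro θ hθ hker
  have h1 := Cfsg.Agent.S1519.bound K B C D hBD hDC hCK hcent θ hθ hker
  have ha : 1 ≤ A.relIndex K := Nat.one_le_iff_ne_zero.2 Subgroup.index_ne_zero_of_finite
  have h2 : ((4 * C.index ^ 2 * D.relIndex C : ℕ) : ℝ) < (((A.relIndex K - 1) ^ 2 : ℕ) : ℝ) := by
    exact_mod_cast hlt
  have h3 : (((A.relIndex K - 1) ^ 2 : ℕ) : ℝ) = ((A.relIndex K : ℝ) - 1) ^ 2 := by
    push_cast [Nat.cast_sub ha]
    ring
  rw [h3] at h2
  have h4 : (0 : ℝ) ≤ (A.relIndex K : ℝ) - 1 := by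
    have : (1 : ℝ) ≤ A.relIndex K := by exact_mod_cast ha
    linarith
  exact lt_of_pow_lt_pow_left₀ 2 h4 (lt_of_le_of_lt h1 h2)

/-- descending along a central series. -/
theorem descend (K : Subgroup L) [hK : K.Normal] (hsolv : Group.IsSolvable K) (hS : FSys K τ)
    (M H₁ : Subgroup L) [M.Normal] [H₁.Normal] (hMH₁ : M ≤ H₁) (hH₁K : H₁ < K)
    [(M.subgroupOf K).Normal] (hnil : Group.IsNilpotent (↥K ⧸ M.subgroupOf K))
    (hcoh : IsCoherent (inducedIrrAbove K H₁) {1}ᶜ τ)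
    (hstep : ∀ B : Subgroup L, B.Normal → M < B → B ≤ H₁ → ∃ D : Subgroup L, B ≤ D ∧ D ≤ K ∧
      (∀ x ∈ D, ∀ y ∈ K, x * y * x⁻¹ * y⁻¹ ∈ ⁅B, K⁆ ⊔ M) ∧
      4 * K.index ^ 2 * D.relIndex K < (B.relIndex K - 1) ^ 2) :
    IsCoherent (inducedIrrAbove K M) {1}ᶜ τ := by
  have key : ∀ n : ℕ, ∀ B : Subgroup L, B.Normal → M ≤ B → B ≤ H₁ →
      IsCoherent (inducedIrrAbove K B) {1}ᶜ τ → Nat.card B = n →
      IsCoherent (inducedIrrAbove K M) {1}ᶜ τ := by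
    intro n
    induction n using Nat.strong_induction_on with
    | _ n ih =>
      intro B hBn hMB hBH₁ hB hcard
      haveI := hBn
      by_cases heq : M = B
      · rw [heq]; exact hB
      have hlt : M < B := lt_of_le_of_ne hMB heq
      have hBK : B < K := lt_of_le_of_lt hBH₁ hH₁K
      have hB₁ := Cfsg.Agent.S1520.comm_lt M B K hlt hBK.le hnil
      obtain ⟨D, hBD, hDK, hcent, hineq⟩ := hstep B hBn hlt hBH₁
      have hnew := step' K hsolv hS B (⁅B, K⁆ ⊔ M) K D hBK hB₁.le (hB₁.le.trans hBD) hDK le_rfl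
        hcent hB hineq
      refine ih (Nat.card ↥(⁅B, K⁆ ⊔ M)) ?_ (⁅B, K⁆ ⊔ M) inferInstance le_sup_right
        (hB₁.le.trans hBH₁) hnew rfl
      rw [← hcard]
      exact Set.ncard_lt_ncard (s := (↑(⁅B, K⁆ ⊔ M) : Set L)) (t := (↑B : Set L))
        (SetLike.coe_ssubset_coe.2 hB₁) (Set.toFinite _)
  exact key _ H₁ inferInstance hMH₁ le_rfl hcoh rfl

end Cfsg.Agent.Lib.Helper32Feit3
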