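import Cfsg.Agent.Lib.Helper32Feit3

set_option autoImplicit false
set_option linter.unusedSectionVars false
open Cfsg

namespace Cfsg.Agent.Lib.Helper32Feit4

open Cfsg.Agent.Lib.Helper4Char Cfsg.Agent.Lib.Helper4Char2 Cfsg.Agent.Lib.Helper4Char4
open Cfsg.Agent.Lib.Helper32Virt Cfsg.Agent.Lib.Helper32Coh Cfsg.Agent.Lib.Helper32Sub
open Cfsg.Agent.Lib.Helper32Sub2 Cfsg.Agent.Lib.Helper32SeqInd Cfsg.Agent.Lib.Helper32Extend
open Cfsg.Agent.Lib.Helper32Frob2 Cfsg.Agent.Lib.Helper32FrobGrp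
open Cfsg.Agent.Lib.Helper32Feit Cfsg.Agent.Lib.Helper32EqDeg Cfsg.Agent.Lib.Helper32Feit2
open Cfsg.Agent.Lib.Helper32Feit3 Cfsg.Agent.Lib.Helper32Nil Cfsg.Agent.Lib.Helper32Nil2

variable {L : Type*} [Group L] [Fintype L] {G : Type*} [Group G] [Fintype G]
variable {τ : (L → ℂ) → (G → ℂ)}

theorem cong_top (K : Subgroup L) [hK : K.Normal]
    (hirr : ∀ χ ∈ inducedIrrAbove K ⊥, IsIrrCharacter L χ) (A : Subgroup L) [A.Normal]
    (hAK : A ≤ K) : ∃ n : ℕ, K.index * n + 1 = A.relIndex K := by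
  classical
  have hfin : (inducedIrrAbove K ⊥).Finite := Cfsg.Agent.S1531.finite_of_irr _ hirr
  have hdeg : ∀ χ ∈ inducedIrrAbove K ⊥, ∃ k : ℕ, 0 < k ∧ χ 1 = ((K.index * k : ℕ) : ℂ) :=
    fun χ hχ => degree_mul K hχ
  choose! k hkpos hk using hdeg
  exact ⟨_, sum_sq K hirr A hAK (hfin.subset (subset_bot (A := A))).toFinset (by simp) k hk⟩

theorem cong (K : Subgroup L) [hK : K.Normal]
    (hirr : ∀ χ ∈ inducedIrrAbove K ⊥, IsIrrCharacter L χ) (A A' : Subgroup L) [A.Normal]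
    [A'.Normal] (hAA' : A < A') (hA'K : A' ≤ K) : K.index + 1 ≤ A.relIndex A' := by
  obtain ⟨n, hn⟩ := cong_top K hirr A (hAA'.le.trans hA'K)
  obtain ⟨n', hn'⟩ := cong_top K hirr A' hA'K
  have h1 := Subgroup.relIndex_mul_relIndex A A' K hAA'.le hA'K
  set u := A.relIndex A' with hu
  have hu0 : u ≠ 0 := Subgroup.index_ne_zero_of_finite
  have hu1 : u ≠ 1 := fun h => absurd (Subgroup.relIndex_eq_one.1 h) (not_le_of_gt hAA')
  rw [← hn, ← hn'] at h1
  have h2 : u ≡ 1 [MOD K.index] := by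
    have e1 : u * (K.index * n' + 1) ≡ u * 1 [MOD K.index] := by
      apply Nat.ModEq.mul_left
      have : K.index * n' + 1 ≡ 0 + 1 [MOD K.index] :=
        Nat.ModEq.add_right 1 ((Nat.modEq_zero_iff_dvd).2 (Dvd.intro _ rfl))
      simpa using this
    have e2 : K.index * n + 1 ≡ 0 + 1 [MOD K.index] :=
      Nat.ModEq.add_right 1 ((Nat.modEq_zero_iff_dvd).2 (Dvd.intro _ rfl))
    rw [h1, mul_one] at e1
    exact e1.symm.trans (by simpa using e2)
  have h3 : K.index ∣ u - 1 := (Nat.modEq_iff_dvd' (by omega)).1 h2.symm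
  have h4 := Nat.le_of_dvd (by omega) h3
  omega

/-- the characters of degree `|L:K|`. -/
theorem linear_coh (K : Subgroup L) [hK : K.Normal] (hS : FSys K τ) (H₁ : Subgroup L) [H₁.Normal]
    (hcomm : ⁅K, K⁆ ≤ H₁) (hle : H₁ ≤ K) (hbig : K.index + 1 < H₁.relIndex K) :
    IsCoherent (inducedIrrAbove K H₁) {1}ᶜ τ := by
  classical
  have hfin : (inducedIrrAbove K ⊥).Finite := Cfsg.Agent.S1531.finite_of_irr _ hS.irr
  set sA : Finset (L → ℂ) := (hfin.subset (subset_bot (A := H₁))).toFinset with hsA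
  have cA : (↑sA : Set (L → ℂ)) = inducedIrrAbove K H₁ := by rw [hsA]; simp
  have mA : ∀ {φ : L → ℂ}, φ ∈ sA ↔ φ ∈ inducedIrrAbove K H₁ := by intro φ; rw [hsA]; simp
  have hdeg : ∀ χ ∈ inducedIrrAbove K H₁, χ 1 = (K.index : ℂ) := fun χ hχ =>
    degree_of_mem K H₁ hcomm hχ
  have hdeg' : ∀ χ ∈ inducedIrrAbove K ⊥, ∃ k : ℕ, 0 < k ∧ χ 1 = ((K.index * k : ℕ) : ℂ) :=
    fun χ hχ => degree_mul K hχ
  choose! k hkpos hk using hdeg'
  have he0 : K.index ≠ 0 := Subgroup.index_ne_zero_of_finite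
  have hk1 : ∀ χ ∈ sA, k χ = 1 := by
    intro χ hχ
    have h1 := hk χ (subset_bot (mA.1 hχ))
    rw [hdeg χ (mA.1 hχ)] at h1
    have h2 : K.index = K.index * k χ := by exact_mod_cast h1
    have h3 : K.index * 1 = K.index * k χ := by rw [mul_one]; exact h2
    exact (Nat.eq_of_mul_eq_mul_left (Nat.pos_of_ne_zero he0) h3).symm
  have hsum := sum_sq K hS.irr H₁ hle sA cA k hk
  have hsum2 : ∑ χ ∈ sA, k χ ^ 2 = sA.card := by
    rw [Finset.sum_congr rfl (fun χ hχ => by rw [hk1 χ hχ, one_pow]), Finset.sum_const,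
      smul_eq_mul, mul_one]
  rw [hsum2] at hsum
  have h2 : 2 ≤ sA.card := by
    by_contra hc
    have h3 : sA.card ≤ 1 := by omega
    have h4 : K.index * sA.card ≤ K.index * 1 := Nat.mul_le_mul_left _ h3
    omega
  have hsub : zspanOn (↑sA : Set (L → ℂ)) {1}ᶜ ⊆ zspanOn (inducedIrrAbove K ⊥) {1}ᶜ := by
    rw [cA]; exact zspanOn_mono subset_bot
  rw [← cA]
  exact eqdeg sA (fun χ hχ => hS.irr χ (subset_bot (mA.1 hχ)))
    (fun χ hχ φ hφ => by rw [hdeg χ (mA.1 hχ), hdeg φ (mA.1 hφ)]) h2 τ (iso_mono hsub hS.iso)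
    (fun α hα => hS.one α (hsub hα))

/-- Feit's theorem: the case of a large abelianisation. -/
theorem large (K : Subgroup L) [hK : K.Normal] (hnil : Group.IsNilpotent K) (hS : FSys K τ)
    (hK1 : K ≠ ⊥) (hbig : 4 * K.index ^ 2 + 1 < (⁅K, K⁆ : Subgroup L).relIndex K) :
    IsCoherent (inducedIrrAbove K ⊥) {1}ᶜ τ := by
  have hsolv : Group.IsSolvable K := inferInstance
  have hnil' : Group.IsNilpotent (↥K ⧸ (⊥ : Subgroup L).subgroupOf K) := inferInstance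
  have hH₁K : ⁅K, K⁆ < K := by
    have := Cfsg.Agent.S1520.comm_lt ⊥ K K (bot_lt_iff_ne_bot.2 hK1) le_rfl hnil'
    rwa [sup_bot_eq] at this
  have he0 : 0 < K.index := Nat.pos_of_ne_zero Subgroup.index_ne_zero_of_finite
  have hlin := linear_coh K hS ⁅K, K⁆ le_rfl hH₁K.le (by nlinarith)
  apply descend K hsolv hS ⊥ ⁅K, K⁆ bot_le hH₁K hnil' hlin
  intro B hBn hMB hBH₁
  refine ⟨B, le_rfl, hBH₁.trans hH₁K.le, ?_, ?_⟩
  · intro x hx y hy
    exact Subgroup.mem_sup_left (Subgroup.commutator_mem_commutator hx hy)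
  · have h1 : (⁅K, K⁆ : Subgroup L).relIndex K ≤ B.relIndex K :=
      Nat.le_of_dvd (Nat.pos_of_ne_zero Subgroup.index_ne_zero_of_finite)
        (Subgroup.relIndex_dvd_of_le_left K hBH₁)
    have := Cfsg.Agent.S1520.arith K.index 1 (B.relIndex K) le_rfl (lt_of_lt_of_le hbig h1)
    simpa using this

theorem sup_central (B Y K W : Subgroup L) [W.Normal] (h1 : ⁅B, K⁆ ≤ W) (h2 : ⁅Y, K⁆ ≤ W) :
    ∀ x ∈ B ⊔ Y, ∀ y ∈ K, x * y * x⁻¹ * y⁻¹ ∈ W := by
  intro x hx y hy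
  have hle : B ⊔ Y ≤ (Subgroup.centralizer ({QuotientGroup.mk' W y} : Set (L ⧸ W))).comap
      (QuotientGroup.mk' W) := by
    apply sup_le
    · intro b hb
      rw [Subgroup.mem_comap, Subgroup.mem_centralizer_singleton_iff]
      exact (commute_mk' h1 hb hy).eq
    · intro b hb
      rw [Subgroup.mem_comap, Subgroup.mem_centralizer_singleton_iff]
      exact (commute_mk' h2 hb hy).eq
  have h3 := hle hx
  rw [Subgroup.mem_comap, Subgroup.mem_centralizer_singleton_iff] at h3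
  rw [← QuotientGroup.eq_one_iff, ← QuotientGroup.mk'_apply, map_mul, map_mul, map_mul, h3, map_inv,
    map_inv]
  group

theorem arith_np (e x b : ℕ) (he : 1 ≤ e) (hx : e + 1 ≤ x) (hb : e + 1 ≤ b) :
    4 * e ^ 2 * x < (b * x - 1) ^ 2 := by
  have h1 : e * (x + 1) ≤ b * x - 1 := by
    have : (e + 1) * x ≤ b * x := Nat.mul_le_mul_right _ hb
    have h2 : (e + 1) * x = e * x + x := by ring
    have h3 : e * (x + 1) = e * x + e := by ring
    omega
  have h2 : (e * (x + 1)) ^ 2 ≤ (b * x - 1) ^ 2 := Nat.pow_le_pow_left h1 2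
  refine lt_of_lt_of_le ?_ h2
  obtain ⟨j, rfl⟩ : ∃ j, x = j + 2 := ⟨x - 2, by omega⟩
  have he2 : 0 < e ^ 2 := by positivity
  calc 4 * e ^ 2 * (j + 2) = e ^ 2 * (4 * (j + 2)) := by ring
    _ < e ^ 2 * (j + 2 + 1) ^ 2 := Nat.mul_lt_mul_of_pos_left (by nlinarith) he2
    _ = (e * (j + 2 + 1)) ^ 2 := by ring

/-- descending with the help of an auxiliary subgroup `Y` central modulo `M`. -/
theorem descendY (K : Subgroup L) [hK : K.Normal] (hsolv : Group.IsSolvable K) (hS : FSys K τ)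
    (M H₁ Y : Subgroup L) [M.Normal] [H₁.Normal] [Y.Normal] (hMH₁ : M ≤ H₁) (hH₁K : H₁ < K)
    [(M.subgroupOf K).Normal] (hnil : Group.IsNilpotent (↥K ⧸ M.subgroupOf K))
    (hcoh : IsCoherent (inducedIrrAbove K H₁) {1}ᶜ τ) (hYK : Y ≤ K) (hYM : ⁅Y, K⁆ ≤ M)
    (hYH₁ : ¬ Y ≤ H₁) (hlt : H₁ ⊔ Y < K) : IsCoherent (inducedIrrAbove K M) {1}ᶜ τ := by
  apply descend K hsolv hS M H₁ hMH₁ hH₁K hnil hcoh
  intro B hBn hMB hBH₁
  have hBK : B ≤ K := hBH₁.trans hH₁K.le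
  refine ⟨B ⊔ Y, le_sup_left, sup_le hBK hYK,
    sup_central B Y K _ le_sup_left (hYM.trans le_sup_right), ?_⟩
  have hBD : B < B ⊔ Y := by
    refine lt_of_le_of_ne le_sup_left ?_
    intro e
    apply hYH₁
    have : Y ≤ B := by rw [e]; exact le_sup_right
    exact this.trans hBH₁
  have hDK : B ⊔ Y < K := lt_of_le_of_lt (sup_le_sup_right hBH₁ Y) hlt
  have h1 := cong K hS.irr B (B ⊔ Y) hBD hDK.le
  have h2 := cong K hS.irr (B ⊔ Y) K hDK le_rfl
  rw [← Subgroup.relIndex_mul_relIndex B (B ⊔ Y) K hBD.le hDK.le]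
  exact arith_np K.index _ _ (Nat.pos_of_ne_zero Subgroup.index_ne_zero_of_finite) h2 h1

end Cfsg.Agent.Lib.Helper32Feit4
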