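import Cfsg.Agent.Lib.Helper32Feit4

set_option autoImplicit false
set_option linter.unusedSectionVars false
open Cfsg

namespace Cfsg.Agent.Lib.Helper32Feit5

open Cfsg.Agent.Lib.Helper4Char Cfsg.Agent.Lib.Helper4Char2 Cfsg.Agent.Lib.Helper4Char4
open Cfsg.Agent.Lib.Helper32Virt Cfsg.Agent.Lib.Helper32Coh Cfsg.Agent.Lib.Helper32Sub
open Cfsg.Agent.Lib.Helper32Sub2 Cfsg.Agent.Lib.Helper32SeqInd Cfsg.Agent.Lib.Helper32Extend
open Cfsg.Agent.Lib.Helper32Frob2 Cfsg.Agent.Lib.Helper32FrobGrp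
open Cfsg.Agent.Lib.Helper32Feit Cfsg.Agent.Lib.Helper32EqDeg Cfsg.Agent.Lib.Helper32Feit2
open Cfsg.Agent.Lib.Helper32Feit3 Cfsg.Agent.Lib.Helper32Nil Cfsg.Agent.Lib.Helper32Nil2
open Cfsg.Agent.Lib.Helper32Feit4

variable {L : Type*} [Group L] [Fintype L] {G : Type*} [Group G] [Fintype G]
variable {τ : (L → ℂ) → (G → ℂ)}

/-- the Sylow `p`-subgroup of the nilpotent normal subgroup `K`, as a normal subgroup of `L`. -/
theorem exists_sylow (K : Subgroup L) [hK : K.Normal] (hnil : Group.IsNilpotent K) (p : ℕ)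
    (hp : p.Prime) :
    ∃ P : Subgroup L, P.Normal ∧ P ≤ K ∧ (∃ a, Nat.card P = p ^ a) ∧ ¬ p ∣ P.relIndex K := by
  have := Fact.mk hp
  obtain ⟨P₀⟩ : Nonempty (Sylow p K) := inferInstance
  have htf : Group.IsNilpotent K ↔ ∀ (p : ℕ), Fact (Nat.Prime p) →
      ∀ (P : Sylow p K), (P : Subgroup K).Normal :=
    (Group.isNilpotent_of_finite_tfae (G := K)).out 0 3
  have hPn : (P₀ : Subgroup K).Normal := htf.1 hnil p inferInstance P₀
  have hch : (P₀ : Subgroup K).Characteristic := Sylow.characteristic_of_normal P₀ hPn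
  refine ⟨(P₀ : Subgroup K).map K.subtype, inferInstance, Subgroup.map_subtype_le _, ?_, ?_⟩
  · rw [Subgroup.card_map_of_injective K.subtype_injective]
    exact IsPGroup.iff_card.1 P₀.isPGroup'
  · have : ((P₀ : Subgroup K).map K.subtype).relIndex K = (P₀ : Subgroup K).index := by
      have h1 := Subgroup.relIndex_map_map_of_injective (P₀ : Subgroup K) ⊤ K.subtype_injective
      rw [Subgroup.relIndex_top_right, ← MonoidHom.range_eq_map, Subgroup.range_subtype] at h1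
      exact h1
    rw [this]
    exact P₀.not_dvd_index

theorem sup_lt (K R : Subgroup L) [hK : K.Normal] (hRK : R ≤ K) (r s a : ℕ) (hr : r.Prime)
    (hs : s.Prime) (hne : s ≠ r) (hcard : Nat.card R = r ^ a)
    (hsd : s ∣ (⁅K, K⁆ : Subgroup L).relIndex K) : ⁅K, K⁆ ⊔ R < K := by
  refine lt_of_le_of_ne (sup_le (Subgroup.commutator_le_left K K) hRK) ?_
  intro e
  have h1 : (⁅K, K⁆ : Subgroup L).relIndex (⁅K, K⁆ ⊔ R) = (⁅K, K⁆ : Subgroup L).relIndex R :=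
    Subgroup.relIndex_sup_left _ _
  rw [e] at h1
  rw [h1] at hsd
  have h2 := hsd.trans (Subgroup.relIndex_dvd_card _ R)
  rw [hcard] at h2
  exact hne ((Nat.prime_dvd_prime_iff_eq hs hr).1 (hs.dvd_of_dvd_pow h2))

/-- Feit's theorem: the kernel is not of prime power order. -/
theorem nonpp (K : Subgroup L) [hK : K.Normal] (hnil : Group.IsNilpotent K) (hS : FSys K τ)
    (p q : ℕ) (hp : p.Prime) (hq : q.Prime) (hne : p ≠ q)
    (hpd : p ∣ (⁅K, K⁆ : Subgroup L).relIndex K) (hqd : q ∣ (⁅K, K⁆ : Subgroup L).relIndex K) :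
    IsCoherent (inducedIrrAbove K ⊥) {1}ᶜ τ := by
  have hsolv : Group.IsSolvable K := inferInstance
  have hnil' : Group.IsNilpotent (↥K ⧸ (⊥ : Subgroup L).subgroupOf K) := inferInstance
  obtain ⟨P, hPn, hPK, ⟨a, hPa⟩, hPi⟩ := exists_sylow K hnil p hp
  obtain ⟨Q, hQn, hQK, ⟨b, hQb⟩, hQi⟩ := exists_sylow K hnil q hq
  have hK'K : (⁅K, K⁆ : Subgroup L) ≤ K := Subgroup.commutator_le_left K K
  have hQK' : ¬ Q ≤ ⁅K, K⁆ := fun h => hQi (hqd.trans (Subgroup.relIndex_dvd_of_le_left K h))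
  have hQlt : ⁅K, K⁆ ⊔ Q < K := sup_lt K Q hQK q p b hq hp hne hQb hpd
  have hPlt : ⁅K, K⁆ ⊔ P < K := sup_lt K P hPK p q a hp hq hne.symm hPa hqd
  have hK'lt : (⁅K, K⁆ : Subgroup L) < K := lt_of_le_of_lt le_sup_left hQlt
  have hK'Q : (⁅K, K⁆ : Subgroup L) < ⁅K, K⁆ ⊔ Q := by
    refine lt_of_le_of_ne le_sup_left ?_
    intro e
    apply hQK'
    rw [e]; exact le_sup_right
  have he0 : 0 < K.index := Nat.pos_of_ne_zero Subgroup.index_ne_zero_of_finite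
  have hlin : IsCoherent (inducedIrrAbove K ⁅K, K⁆) {1}ᶜ τ := by
    apply linear_coh K hS ⁅K, K⁆ le_rfl hK'K
    have h1 := cong K hS.irr ⁅K, K⁆ (⁅K, K⁆ ⊔ Q) hK'Q hQlt.le
    have h2 := cong K hS.irr (⁅K, K⁆ ⊔ Q) K hQlt le_rfl
    rw [← Subgroup.relIndex_mul_relIndex ⁅K, K⁆ (⁅K, K⁆ ⊔ Q) K hK'Q.le hQlt.le]
    calc K.index + 1 < (K.index + 1) * (K.index + 1) := by nlinarith
      _ ≤ _ := Nat.mul_le_mul h1 h2
  have hM₁K' : (⁅Q, K⁆ : Subgroup L) ≤ ⁅K, K⁆ := Subgroup.commutator_mono hQK le_rfl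
  have hst1 : IsCoherent (inducedIrrAbove K ⁅Q, K⁆) {1}ᶜ τ :=
    descendY K hsolv hS ⁅Q, K⁆ ⁅K, K⁆ Q hM₁K' hK'lt inferInstance hlin hQK le_rfl hQK' hQlt
  have hP1 : P ≠ ⊥ := by
    rintro rfl
    apply hPi
    rw [Subgroup.relIndex_bot_left]
    exact hpd.trans (Subgroup.relIndex_dvd_card _ K)
  have hY1 : P ⊓ Subgroup.centralizer (K : Set L) ≠ ⊥ := exists_central K hnil' _ P hPn rfl hP1 hPK
  have hPQ : P ⊓ Q = ⊥ := by
    apply (Subgroup.disjoint_of_coprime_natCard _).eq_bot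
    rw [hPa, hQb]
    exact Nat.Coprime.pow _ _ ((Nat.coprime_primes hp hq).2 hne)
  apply descendY K hsolv hS ⊥ ⁅Q, K⁆ (P ⊓ Subgroup.centralizer (K : Set L)) bot_le
    (lt_of_le_of_lt hM₁K' hK'lt) hnil' hst1 (inf_le_left.trans hPK)
  · rw [le_bot_iff, Subgroup.commutator_eq_bot_iff_le_centralizer]
    exact inf_le_right
  · intro h
    apply hY1
    rw [eq_bot_iff, ← hPQ]
    exact le_inf inf_le_left (h.trans (Subgroup.commutator_le_left Q K))
  · exact lt_of_le_of_lt (sup_le_sup hM₁K' inf_le_left) hPlt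

end Cfsg.Agent.Lib.Helper32Feit5
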