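import Cfsg.Agent.Lib.Helper4Frob

set_option autoImplicit false
open Cfsg

namespace Cfsg.Agent.Lib.Helper32Frob

open Module Representation
open scoped ComplexConjugate
open Cfsg.Agent.Lib.Helper4Eigen Cfsg.Agent.Lib.Helper4Char Cfsg.Agent.Lib.Helper4Char2
  Cfsg.Agent.Lib.Helper4Char3 Cfsg.Agent.Lib.Helper4Char4 Cfsg.Agent.Lib.Helper4Perm
  Cfsg.Agent.Lib.Helper4Burnside Cfsg.Agent.Lib.Helper19Ind Cfsg.Agent.Lib.Helper32Ind
  Cfsg.Agent.Lib.Helper4Frob

variable {G : Type*} [Group G] [Fintype G] (K : Subgroup G) [K.Normal]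

/-- if `x` centralises no non-identity element of the normal subgroup `K` modulo inner
automorphisms of `K`, then the only irreducible character of `K` fixed by `x` is the principal one. -/
theorem eq_one_of_fixed (x : G)
    (hx : ∀ k ∈ K, ∀ c ∈ K, (k * x) * c = c * (k * x) → c = 1) (τ : K → ℂ)
    (hτ : Cfsg.IsIrrCharacter K τ) (hfix : τ ∘ (MulAut.conjNormal x : K ≃* K) = τ) :
    τ = fun _ => 1 := by
  classical
  set α : K ≃* K := MulAut.conjNormal x with hα
  have h1 := card_fixed_classes_eq_card_fixed_irr α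
  have h2 : Subsingleton {C : ConjClasses K // ConjClasses.map α.toMonoidHom C = C} := by
    have hone : ∀ C : ConjClasses K, ConjClasses.map α.toMonoidHom C = C → C = ConjClasses.mk 1 := by
      intro C hC
      have h3 : ConjClasses.mk (α (rep C)) = C := by
        conv_rhs => rw [← hC, ← mk_rep C]
        rfl
      have h4 : IsConj (rep C) (α (rep C)) := (mk_eq_iff_isConj_rep C _).mp h3
      obtain ⟨k, hk⟩ := isConj_iff.mp h4
      have h5 : (k : G) * ((rep C : K) : G) * (k : G)⁻¹ = x * ((rep C : K) : G) * x⁻¹ := by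
        have := congrArg Subtype.val hk
        rw [hα, MulAut.conjNormal_apply] at this
        simpa using this
      have h6 : ((k : G)⁻¹ * x) * ((rep C : K) : G) = ((rep C : K) : G) * ((k : G)⁻¹ * x) := by
        have := congrArg (fun z => (k : G)⁻¹ * z * x) h5
        simp only [mul_assoc, inv_mul_cancel_left, inv_mul_cancel, mul_one] at this
        simpa [mul_assoc] using this.symm
      have h8 := hx _ (K.inv_mem k.2) _ (rep C).2 h6
      rw [← mk_rep C]
      congr 1
      exact Subtype.ext h8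
    constructor
    rintro ⟨C, hC⟩ ⟨D, hD⟩
    apply Subtype.ext
    change C = D
    rw [hone C hC, hone D hD]
  have h3 : Nat.card {χ : Cfsg.IrrCharacter K // (χ : K → ℂ) ∘ α = (χ : K → ℂ)} ≤ 1 := by
    rw [← h1]
    exact Finite.card_le_one_iff_subsingleton.mpr h2
  have h4 := Finite.card_le_one_iff_subsingleton.mp h3
  let one : Cfsg.IrrCharacter K := ⟨fun _ => 1, isIrrCharacter_one⟩
  have h5 := @Subsingleton.elim _ h4 ⟨⟨τ, hτ⟩, hfix⟩ ⟨one, rfl⟩
  exact congrArg (fun z => (z.1 : K → ℂ)) h5

/-- Frobenius-type kernels: if no element outside `K` commutes with a non-identity element of `K`,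
then non-principal irreducible characters of `K` induce irreducibly. -/
theorem indFun_irr_of_cent (hC : ∀ y : G, y ∉ K → ∀ c ∈ K, y * c = c * y → c = 1) (τ : K → ℂ)
    (hτ : Cfsg.IsIrrCharacter K τ) (hτ1 : τ ≠ fun _ => 1) :
    Cfsg.IsIrrCharacter G (Cfsg.indFun K τ) := by
  apply isIrrCharacter_indFun_of_inertia K hτ
  intro x hx
  by_contra hxK
  apply hτ1
  apply eq_one_of_fixed K x _ τ hτ hx
  intro k hk c hc hcomm
  apply hC (k * x) _ c hc hcomm
  intro hmem
  apply hxK
  have := K.mul_mem (K.inv_mem hk) hmem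
  simpa using this

end Cfsg.Agent.Lib.Helper32Frob
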