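import Cfsg.Agent.Lib.Helper32Extend
import Cfsg.Agent.Lib.Helper32Frob
import Cfsg.Agent.Lib.Helper5Abel
import Cfsg.Agent.S1517

set_option autoImplicit false
set_option linter.unusedSectionVars false
open Cfsg

namespace Cfsg.Agent.Lib.Helper32Frob2

open Cfsg.Agent.Lib.Helper4Char Cfsg.Agent.Lib.Helper4Char2 Cfsg.Agent.Lib.Helper4Char4
open Cfsg.Agent.Lib.Helper32Virt Cfsg.Agent.Lib.Helper32Coh Cfsg.Agent.Lib.Helper32Sub
open Cfsg.Agent.Lib.Helper32Sub2 Cfsg.Agent.Lib.Helper32SeqInd Cfsg.Agent.Lib.Helper32Extend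
open scoped commutatorElement

section Sub

variable {L : Type*} [Group L] [Fintype L] {G : Type*} [Group G] [Fintype G]
variable {S T : Set (L → ℂ)} {τ : (L → ℂ) → (G → ℂ)} {R : (L → ℂ) → Finset (G → ℂ)}

/-- a nonempty conjugation-closed subset of a coherence system is a coherence system. -/
theorem subsystem (hS : IsCoherenceSystem S τ R) (hT : T ⊆ S) (hne : T.Nonempty)
    (hc : ∀ χ ∈ T, conjFun χ ∈ T) : IsCoherenceSystem T τ R where
  nonempty := hne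
  isCharacter := fun χ h => hS.isCharacter χ (hT h)
  conj_mem := hc
  conj_ne := fun χ h => hS.conj_ne χ (hT h)
  isometry := iso_mono (zspanOn_mono hT) hS.isometry
  map_one := fun α h => hS.map_one α (zspanOn_mono hT h)
  orthogonal := fun χ h φ h' => hS.orthogonal χ (hT h) φ (hT h')
  orthonormal := fun χ h => hS.orthonormal χ (hT h)
  virtual := fun χ h => hS.virtual χ (hT h)
  sum_eq := fun χ h => hS.sum_eq χ (hT h)
  disjoint := fun χ h φ h' => hS.disjoint χ (hT h) φ (hT h')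

end Sub

/-- an irreducible character whose kernel contains all commutators is linear. -/
theorem linear_of_ker {X : Type*} [Group X] [Finite X] (N : Subgroup X) [N.Normal]
    (hab : ∀ x y : X, x * y * x⁻¹ * y⁻¹ ∈ N) {θ : X → ℂ} (hθ : IsIrrCharacter X θ)
    (hker : ∀ n ∈ N, θ n = θ 1) : θ 1 = 1 := by
  have := Cfsg.Agent.Lib.Helper5Abel.isMulCommutative_quotient N hab
  obtain ⟨ψ, hψ⟩ := Cfsg.Agent.Lib.Helper82Quot.exists_deflate N ⟨θ, hθ⟩ hker
  have h1 := Cfsg.Agent.Lib.Helper5Abel.irr_one_of_comm ψ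
  have h2 := Cfsg.Agent.Lib.Helper82Quot.inflate_apply N ψ 1
  rw [hψ] at h2
  change θ 1 = _ at h2
  rw [h2]
  exact h1

section Frob

variable {L : Type*} [Group L] [Fintype L] (K H₁ : Subgroup L) [hK : K.Normal] [hH : H₁.Normal]

theorem commute_mk {K H₁ : Subgroup L} [hH : H₁.Normal] (hcomm : ⁅K, K⁆ ≤ H₁) {a b : L}
    (ha : a ∈ K) (hb : b ∈ K) :
    Commute (QuotientGroup.mk' H₁ a) (QuotientGroup.mk' H₁ b) := by
  have h := hcomm (Subgroup.commutator_mem_commutator ha hb)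
  have h2 : QuotientGroup.mk' H₁ ⁅a, b⁆ = 1 := (QuotientGroup.eq_one_iff _).2 h
  rw [commutatorElement_def, map_mul, map_mul, map_mul, map_inv, map_inv] at h2
  unfold Commute SemiconjBy
  calc QuotientGroup.mk' H₁ a * QuotientGroup.mk' H₁ b
      = QuotientGroup.mk' H₁ a * QuotientGroup.mk' H₁ b * (QuotientGroup.mk' H₁ a)⁻¹ *
        (QuotientGroup.mk' H₁ b)⁻¹ * (QuotientGroup.mk' H₁ b * QuotientGroup.mk' H₁ a) := by group
    _ = QuotientGroup.mk' H₁ b * QuotientGroup.mk' H₁ a := by rw [h2, one_mul]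

/-- the commutator map with an element outside the Frobenius kernel is onto modulo `H₁`. -/
theorem surj_comm (hcomm : ⁅K, K⁆ ≤ H₁)
    (hfrob : ∀ k ∈ K, k ∉ H₁ → ∀ x : L, x * k * x⁻¹ * k⁻¹ ∈ H₁ → x ∈ K) (x : L) (hx : x ∉ K)
    (k' : L) (hk' : k' ∈ K) : ∃ k ∈ K, ∃ h ∈ H₁, k' = x * k * x⁻¹ * k⁻¹ * h := by
  have hmem : ∀ k : K, x * k * x⁻¹ * (k : L)⁻¹ ∈ K := fun k =>
    K.mul_mem (hK.conj_mem k k.2 x) (K.inv_mem k.2)
  let ψ : K →* L ⧸ H₁ := MonoidHom.mk' (fun k => QuotientGroup.mk' H₁ (x * k * x⁻¹ * (k : L)⁻¹)) (by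
    intro a b
    have hc := commute_mk hcomm (K.inv_mem a.2) (hmem b)
    have e1 : x * ((a * b : K) : L) * x⁻¹ * ((a * b : K) : L)⁻¹ =
        x * a * x⁻¹ * ((x * b * x⁻¹ * (b : L)⁻¹) * (a : L)⁻¹) := by
      simp only [Subgroup.coe_mul]; group
    have e2 : x * (a : L) * x⁻¹ * (a : L)⁻¹ * (x * b * x⁻¹ * (b : L)⁻¹) =
        x * a * x⁻¹ * ((a : L)⁻¹ * (x * b * x⁻¹ * (b : L)⁻¹)) := by group
    rw [e1, ← map_mul, e2, map_mul, map_mul _ (x * a * x⁻¹), map_mul _ (x * b * x⁻¹ * (b : L)⁻¹),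
      map_mul _ (a : L)⁻¹, hc.eq])
  let φ : K →* L ⧸ H₁ := (QuotientGroup.mk' H₁).comp K.subtype
  have hkφ : φ.ker = H₁.subgroupOf K := by
    ext k
    rw [MonoidHom.mem_ker, Subgroup.mem_subgroupOf]
    exact QuotientGroup.eq_one_iff _
  have hkψ : ψ.ker = H₁.subgroupOf K := by
    ext k
    rw [MonoidHom.mem_ker, Subgroup.mem_subgroupOf]
    change QuotientGroup.mk' H₁ (x * k * x⁻¹ * (k : L)⁻¹) = 1 ↔ _
    rw [QuotientGroup.mk'_apply, QuotientGroup.eq_one_iff]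
    constructor
    · intro h
      by_contra hk
      exact hx (hfrob k k.2 hk x h)
    · intro h
      exact H₁.mul_mem (hH.conj_mem _ h x) (H₁.inv_mem h)
  have hle : ψ.range ≤ φ.range := by
    rintro _ ⟨k, rfl⟩
    exact ⟨⟨_, hmem k⟩, rfl⟩
  have hcard : Nat.card φ.range = Nat.card ψ.range := by
    rw [← Subgroup.index_ker, ← Subgroup.index_ker, hkφ, hkψ]
  have heq : ψ.range = φ.range := Subgroup.eq_of_le_of_card_ge hle hcard.le
  have h1 : φ ⟨k', hk'⟩ ∈ ψ.range := by rw [heq]; exact ⟨_, rfl⟩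
  obtain ⟨k, hk⟩ := h1
  refine ⟨k, k.2, (x * k * x⁻¹ * (k : L)⁻¹)⁻¹ * k', ?_, by group⟩
  exact QuotientGroup.eq.1 hk

theorem degree_of_mem (hcomm : ⁅K, K⁆ ≤ H₁) {χ : L → ℂ} (hχ : χ ∈ inducedIrrAbove K H₁) :
    χ 1 = (K.index : ℂ) := by
  obtain ⟨θ, h1, h2, h3, rfl⟩ := hχ
  have hlin : θ 1 = 1 := by
    apply linear_of_ker (H₁.subgroupOf K) _ h1 (fun n hn => h3 n (Subgroup.mem_subgroupOf.1 hn))
    intro a b
    rw [Subgroup.mem_subgroupOf]
    exact hcomm (Subgroup.commutator_mem_commutator a.2 b.2)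
  rw [Cfsg.Agent.Lib.Helper82Mult.indFun_one, hlin, mul_one]

theorem irr_of_mem (hcomm : ⁅K, K⁆ ≤ H₁)
    (hfrob : ∀ k ∈ K, k ∉ H₁ → ∀ x : L, x * k * x⁻¹ * k⁻¹ ∈ H₁ → x ∈ K) {χ : L → ℂ}
    (hχ : χ ∈ inducedIrrAbove K H₁) : IsIrrCharacter L χ := by
  obtain ⟨θ, h1, h2, h3, rfl⟩ := hχ
  have hlin : θ 1 = 1 := by
    apply linear_of_ker (H₁.subgroupOf K) _ h1 (fun n hn => h3 n (Subgroup.mem_subgroupOf.1 hn))
    intro a b
    rw [Subgroup.mem_subgroupOf]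
    exact hcomm (Subgroup.commutator_mem_commutator a.2 b.2)
  obtain ⟨f, rfl⟩ := Cfsg.Agent.Lib.Helper19Lin.exists_hom_of_linear
    (IsIrrCharacter.isCharacter h1) hlin
  apply Cfsg.Agent.Lib.Helper4Frob.isIrrCharacter_indFun_of_inertia K h1
  intro x hx
  by_contra hxK
  apply h2
  funext k'
  obtain ⟨k, hk, h, hh, e⟩ := surj_comm K H₁ hcomm hfrob x hxK k' k'.2
  have hhK : h ∈ K := by
    have := K.mul_mem (K.inv_mem (K.mul_mem (hK.conj_mem k hk x) (K.inv_mem hk))) k'.2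
    rw [e] at this
    simpa [mul_assoc] using this
  have e1 : k' = (MulAut.conjNormal x : K ≃* K) ⟨k, hk⟩ * (⟨k, hk⟩ : K)⁻¹ * ⟨h, hhK⟩ := by
    apply Subtype.ext
    rw [e]
    simp [MulAut.conjNormal_apply]
  have e2 := congrFun hx ⟨k, hk⟩
  simp only [Function.comp_apply, Cfsg.Agent.Lib.Helper19Lin.homFun_apply] at e2
  have e3 := h3 ⟨h, hhK⟩ hh
  simp only [Cfsg.Agent.Lib.Helper19Lin.homFun_apply, map_one, Units.val_one] at e3
  rw [Cfsg.Agent.Lib.Helper19Lin.homFun_apply, e1, map_mul, map_mul, map_inv, Units.val_mul,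
    Units.val_mul, e3, e2, mul_one, ← Units.val_mul, mul_inv_cancel, Units.val_one]

end Frob

section Count

variable {L : Type*} [Group L] [Fintype L] {G : Type*} [Group G] [Fintype G]
variable {τ : (L → ℂ) → (G → ℂ)} {R : (L → ℂ) → Finset (G → ℂ)}
variable (K H₁ : Subgroup L) [hK : K.Normal] [hH : H₁.Normal]

theorem exists_card (hS : IsCoherenceSystem (inducedIrrAbove K ⊥) τ R) (hcomm : ⁅K, K⁆ ≤ H₁)
    (hfrob : ∀ k ∈ K, k ∉ H₁ → ∀ x : L, x * k * x⁻¹ * k⁻¹ ∈ H₁ → x ∈ K) (A : Subgroup L)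
    [A.Normal] (hHA : H₁ ≤ A) (hAK : A ≤ K) : ∃ n : ℕ, A.relIndex K = n * K.index + 1 := by
  classical
  have hfin : (inducedIrrAbove K A).Finite := (finite hS).subset subset_bot
  have hs : (↑hfin.toFinset : Set (L → ℂ)) = inducedIrrAbove K A := hfin.coe_toFinset
  have hirr : ∀ χ ∈ hfin.toFinset, IsIrrCharacter L χ := fun χ hχ =>
    irr_of_mem K H₁ hcomm hfrob (mono hHA (hfin.mem_toFinset.1 hχ))
  have h1 := sum_formula K A hAK hfin.toFinset hs (orth_of_irr hirr)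
  rw [Finset.sum_congr rfl (fun χ hχ => by
    rw [classInner_irr_self (hirr χ hχ), degree_of_mem K H₁ hcomm (mono hHA (hfin.mem_toFinset.1 hχ)),
      div_one]), Finset.sum_const, nsmul_eq_mul] at h1
  have he : (K.index : ℂ) ≠ 0 := Nat.cast_ne_zero.mpr (Subgroup.index_ne_zero_of_finite)
  refine ⟨hfin.toFinset.card, ?_⟩
  have h2 : (hfin.toFinset.card : ℂ) * (K.index : ℂ) = (A.relIndex K : ℂ) - 1 := by
    apply mul_left_cancel₀ he
    rw [← h1]; ring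
  have h3 : (A.relIndex K : ℂ) = ((hfin.toFinset.card * K.index + 1 : ℕ) : ℂ) := by
    push_cast
    rw [h2]; ring
  exact_mod_cast h3

theorem exists_card_odd (hS : IsCoherenceSystem (inducedIrrAbove K ⊥) τ R) (hcomm : ⁅K, K⁆ ≤ H₁)
    (hfrob : ∀ k ∈ K, k ∉ H₁ → ∀ x : L, x * k * x⁻¹ * k⁻¹ ∈ H₁ → x ∈ K)
    (hodd : Odd (Nat.card L)) (A : Subgroup L)
    [A.Normal] (hHA : H₁ ≤ A) (hAK : A ≤ K) : ∃ n : ℕ, A.relIndex K = 2 * n * K.index + 1 := by
  obtain ⟨n, hn⟩ := exists_card K H₁ hS hcomm hfrob A hHA hAK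
  have h1 : Odd (A.relIndex K) :=
    Odd.of_dvd_nat hodd ((Subgroup.relIndex_dvd_card A K).trans (Subgroup.card_subgroup_dvd_card K))
  have h2 : Odd K.index := Odd.of_dvd_nat hodd (Subgroup.index_dvd_card K)
  have h3 : Even n := by
    by_contra h
    rw [Nat.not_even_iff_odd] at h
    rw [hn] at h1
    have := (h.mul h2).add_odd odd_one
    exact (Nat.not_even_iff_odd.2 h1) this
  obtain ⟨m, rfl⟩ := h3
  exact ⟨m, by rw [hn]; ring⟩

/-- the set of characters induced from linear characters is coherent. -/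
theorem coherent_linear (hsolv : Group.IsSolvable K)
    (hS : IsCoherenceSystem (inducedIrrAbove K ⊥) τ R) (hcomm : ⁅K, K⁆ ≤ H₁) (hlt : H₁ < K) :
    IsCoherent (inducedIrrAbove K H₁) {1}ᶜ τ := by
  obtain ⟨ξ, hξ, -⟩ := exists_linear_mem hsolv hlt
  apply Cfsg.Agent.S1517.result _ τ R (subsystem hS subset_bot ⟨ξ, hξ⟩ (fun χ h => conj_mem h))
  intro φ hφ ψ hψ
  rw [degree_of_mem K H₁ hcomm hφ, degree_of_mem K H₁ hcomm hψ]

end Count

end Cfsg.Agent.Lib.Helper32Frob2
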