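import Mathlib
import Cfsg.Prelude.Def_Characters
import Cfsg.Agent.Lib.Helper4Perm
import Cfsg.Agent.Lib.Helper4Burnside

set_option autoImplicit false

namespace Cfsg.Agent.Lib.Helper4Odd

open Module Representation
open scoped ComplexConjugate
open Cfsg.Agent.Lib.Helper4Eigen Cfsg.Agent.Lib.Helper4Char Cfsg.Agent.Lib.Helper4Char2
  Cfsg.Agent.Lib.Helper4Char3 Cfsg.Agent.Lib.Helper4Char4 Cfsg.Agent.Lib.Helper4Perm
  Cfsg.Agent.Lib.Helper4Burnside

variable {G : Type*} [Group G] [Finite G]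

omit [Finite G] in
theorem eq_one_of_isConj_inv_of_odd (hodd : Odd (Nat.card G)) (g : G) (h : IsConj g g⁻¹) :
    g = 1 := by
  obtain ⟨x, hx⟩ := isConj_iff.mp h
  have h1 : Commute (x ^ 2) g := by
    have h2 : x * g⁻¹ * x⁻¹ = g := by
      have := congrArg (fun y => y⁻¹) hx
      simp only [mul_inv_rev, inv_inv] at this
      rw [mul_assoc]; exact this
    change x ^ 2 * g = g * x ^ 2
    calc x ^ 2 * g = x * (x * g * x⁻¹) * x⁻¹ * x ^ 2 := by
          simp only [pow_two, mul_assoc, inv_mul_cancel_left, inv_mul_cancel, mul_one]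
      _ = g * x ^ 2 := by rw [hx, h2]
  have hox : Odd (orderOf x) := Odd.of_dvd_nat hodd (orderOf_dvd_natCard x)
  obtain ⟨m, hm⟩ := hox
  have h3 : x = (x ^ 2) ^ (m + 1) := by
    rw [← pow_mul]
    have : 2 * (m + 1) = orderOf x + 1 := by omega
    rw [this, pow_succ, pow_orderOf_eq_one, one_mul]
  have h4 : Commute x g := by
    rw [h3]; exact h1.pow_left _
  have h5 : g = g⁻¹ := by
    rw [← hx, h4.eq, mul_inv_cancel_right]
  have h6 : g ^ 2 = 1 := by
    rw [pow_two]
    nth_rewrite 1 [h5]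
    exact inv_mul_cancel g
  have h7 : orderOf g ∣ 2 := orderOf_dvd_of_pow_eq_one h6
  have h8 : Odd (orderOf g) := Odd.of_dvd_nat hodd (orderOf_dvd_natCard g)
  have h9 : orderOf g = 1 := by
    rcases (Nat.dvd_prime Nat.prime_two).mp h7 with h | h
    · exact h
    · rw [h] at h8; exact absurd h8 (by decide)
  exact orderOf_eq_one_iff.mp h9

theorem real_irr_eq_one_of_odd (hodd : Odd (Nat.card G)) (χ : Cfsg.IrrCharacter G)
    (hreal : ∀ g : G, ((χ : G → ℂ) g).im = 0) : (χ : G → ℂ) = fun _ => 1 := by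
  cases nonempty_fintype G
  have h1 := card_real_irr_eq_card_real_classes (G := G)
  have h2 : Subsingleton {C : ConjClasses G // ∀ g : G, ConjClasses.mk g = C → IsConj g g⁻¹} := by
    constructor
    rintro ⟨C, hC⟩ ⟨D, hD⟩
    apply Subtype.ext
    have hc := eq_one_of_isConj_inv_of_odd hodd _ (hC (rep C) (mk_rep C))
    have hd := eq_one_of_isConj_inv_of_odd hodd _ (hD (rep D) (mk_rep D))
    change C = D
    rw [← mk_rep C, ← mk_rep D, hc, hd]
  have h3 : Nat.card {χ : Cfsg.IrrCharacter G // ∀ g : G, ((χ : G → ℂ) g).im = 0} ≤ 1 := by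
    rw [h1]
    exact Finite.card_le_one_iff_subsingleton.mpr h2
  have h4 := Finite.card_le_one_iff_subsingleton.mp h3
  let one : Cfsg.IrrCharacter G := ⟨fun _ => 1, isIrrCharacter_one⟩
  have h5 := @Subsingleton.elim _ h4 ⟨χ, hreal⟩ ⟨one, fun g => by simp [one]⟩
  have h6 : χ = one := congrArg Subtype.val h5
  rw [h6]


theorem irr_degree_dvd_card (χ : Cfsg.IrrCharacter G) (n : ℕ) (h : (χ : G → ℂ) 1 = n) :
    n ∣ Nat.card G := by
  obtain ⟨m, ρ, hirr, hχ⟩ := χ.2
  have h1 := finrank_dvd_card ρ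
  have h2 : (χ : G → ℂ) 1 = m := by rw [← hχ]; simp
  have h3 : n = m := by
    rw [h] at h2; exact_mod_cast h2
  rw [h3]
  simpa using h1

theorem sq_mod_eight_of_odd (d : ℕ) (h : Odd d) : d ^ 2 % 8 = 1 := by
  have h1 : d % 8 = 1 ∨ d % 8 = 3 ∨ d % 8 = 5 ∨ d % 8 = 7 := by
    obtain ⟨m, rfl⟩ := h
    omega
  rcases h1 with h | h | h | h <;> simp [Nat.pow_mod, h]

theorem card_modEq_card_conjClasses_of_odd (hodd : Odd (Nat.card G)) :
    Nat.card G ≡ Nat.card (ConjClasses G) [MOD 16] := by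
  classical
  cases nonempty_fintype G
  choose d hdpos hd using fun χ : Cfsg.IrrCharacter G => IsIrrCharacter.exists_degree χ.2
  have hdodd : ∀ χ, Odd (d χ) := fun χ =>
    Odd.of_dvd_nat hodd (irr_degree_dvd_card χ (d χ) (hd χ))
  have hsum : ∑ χ, d χ ^ 2 = Nat.card G := by
    have := sum_degree_sq (G := G)
    simp only [hd] at this
    exact_mod_cast this
  have hk : Nat.card (ConjClasses G) = ∑ _χ : Cfsg.IrrCharacter G, 1 := by
    rw [← card_irr_eq_card_conjClasses, Nat.card_eq_fintype_card]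
    simp
  let t : Cfsg.IrrCharacter G → ℕ := fun χ => d χ ^ 2 / 8
  have ht : ∀ χ, d χ ^ 2 = 8 * t χ + 1 := by
    intro χ
    have h1 := Nat.div_add_mod (d χ ^ 2) 8
    rw [sq_mod_eight_of_odd _ (hdodd χ)] at h1
    exact h1.symm
  let σ : Cfsg.IrrCharacter G → Cfsg.IrrCharacter G :=
    fun χ => ⟨fun g => conj ((χ : G → ℂ) g), IsIrrCharacter.conj χ.2⟩
  have hdσ : ∀ χ, d (σ χ) = d χ := by
    intro χ
    have h1 : ((σ χ : Cfsg.IrrCharacter G) : G → ℂ) 1 = conj ((χ : G → ℂ) 1) := rfl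
    rw [hd, hd, Complex.conj_natCast] at h1
    exact_mod_cast h1
  have heven : (∑ χ, (t χ : ZMod 2)) = 0 := by
    apply Finset.sum_involution (fun χ _ => σ χ)
    · intro χ _
      have : t (σ χ) = t χ := by simp only [t, hdσ]
      rw [this]
      exact CharTwo.add_self_eq_zero _
    · intro χ _ hne hfix
      apply hne
      have hreal : ∀ g : G, ((χ : G → ℂ) g).im = 0 := by
        intro g
        have := congrFun (congrArg Subtype.val hfix) g
        exact Complex.conj_eq_iff_im.mp this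
      have h1 := real_irr_eq_one_of_odd hodd χ hreal
      have h2 : (d χ : ℂ) = 1 := by rw [← hd, h1]
      have h3 : d χ = 1 := by exact_mod_cast h2
      simp [t, h3]
    · intro χ _; exact Finset.mem_univ _
    · intro χ _
      apply Subtype.ext
      ext g
      simp [σ]
  have heven' : 2 ∣ ∑ χ, t χ := by
    rw [← ZMod.natCast_eq_zero_iff]
    push_cast
    exact heven
  obtain ⟨m, hm⟩ := heven'
  have hfinal : Nat.card G = Nat.card (ConjClasses G) + 16 * m := by
    rw [← hsum, hk]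
    simp only [ht]
    rw [Finset.sum_add_distrib, ← Finset.mul_sum, hm]
    ring
  rw [hfinal]
  exact (Nat.modEq_iff_dvd' (by omega)).mpr (by simp) |>.symm

end Cfsg.Agent.Lib.Helper4Odd
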