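import Cfsg.Agent.Lib.Helper32TI
import Cfsg.Agent.Lib.Helper4Odd

set_option autoImplicit false
set_option linter.unusedSectionVars false
open Cfsg

namespace Cfsg.Agent.Lib.Helper32FrobGrp

open Cfsg.Agent.Lib.Helper4Char Cfsg.Agent.Lib.Helper4Char2 Cfsg.Agent.Lib.Helper4Char4
open Cfsg.Agent.Lib.Helper32Virt Cfsg.Agent.Lib.Helper32Coh Cfsg.Agent.Lib.Helper32Sub
open Cfsg.Agent.Lib.Helper32Sub2 Cfsg.Agent.Lib.Helper32SeqInd Cfsg.Agent.Lib.Helper32Extend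
open Cfsg.Agent.Lib.Helper32Frob2 Cfsg.Agent.Lib.Helper32Ind Cfsg.Agent.Lib.Helper19Ind
open Cfsg.Agent.Lib.Helper5Ind Cfsg.Agent.Lib.Helper32TI

section Const

variable {L : Type*} [Group L] [Fintype L]

/-- a class function whose multiplicities are proportional to the degrees on all irreducible
characters not containing `z` in their kernel. -/
theorem const_of_prop {Θ : L → ℂ} (hΘ : IsClassFunction L Θ) (t : ℂ) (z : L) (hz1 : z ≠ 1)
    (h : ∀ φ : IrrCharacter L, (φ : L → ℂ) z ≠ (φ : L → ℂ) 1 →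
      classInner Θ φ = t * (φ : L → ℂ) 1) : Θ 1 - Θ z = t * (Nat.card L : ℂ) := by
  classical
  have h1 := congrFun (classFunction_eq_sum Θ hΘ) 1
  have h2 := congrFun (classFunction_eq_sum Θ hΘ) z
  simp only [Finset.sum_apply, Pi.smul_apply, smul_eq_mul] at h1 h2
  have h3 := sum_degree_mul (1 : L)
  have h4 := sum_degree_mul z
  rw [if_pos rfl] at h3
  rw [if_neg hz1] at h4
  have h5 : (Nat.card L : ℂ) = ∑ χ : IrrCharacter L,
      ((χ : L → ℂ) 1 * (χ : L → ℂ) 1 - (χ : L → ℂ) 1 * (χ : L → ℂ) z) := by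
    rw [Finset.sum_sub_distrib, h3, h4, sub_zero]
  rw [h1, h2, ← Finset.sum_sub_distrib, h5, Finset.mul_sum]
  apply Finset.sum_congr rfl
  intro φ _
  by_cases hφ : (φ : L → ℂ) z = (φ : L → ℂ) 1
  · rw [hφ]; ring
  · rw [h φ hφ]; ring

end Const

section Frob

variable {L : Type*} [Group L] [Fintype L] (K : Subgroup L) [hK : K.Normal]

theorem quot_frob (hC : ∀ y : L, y ∉ K → ∀ c ∈ K, y * c = c * y → c = 1) (N : Subgroup L)
    [hN : N.Normal] (hNK : N ≤ K) :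
    ∀ k ∈ K, k ∉ N → ∀ x : L, x * k * x⁻¹ * k⁻¹ ∈ N → x ∈ K := by
  classical
  intro k hk hkN x hx
  by_contra hxK
  set A : Finset L := Finset.univ.filter (fun k => k ∈ K ∧ x * k * x⁻¹ * k⁻¹ ∈ N) with hA
  set B : Finset L := Finset.univ.filter (fun k => k ∈ N) with hB
  have hBA : B ⊆ A := by
    intro n hn
    rw [hB, Finset.mem_filter] at hn
    rw [hA, Finset.mem_filter]
    exact ⟨Finset.mem_univ _, hNK hn.2, N.mul_mem (hN.conj_mem n hn.2 x) (N.inv_mem hn.2)⟩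
  have hcard : A.card ≤ B.card := by
    apply Finset.card_le_card_of_injOn (fun k => x * k * x⁻¹ * k⁻¹)
    · intro a ha
      have ha' := (Finset.mem_filter.1 (Finset.mem_coe.1 ha)).2
      exact Finset.mem_coe.2 (Finset.mem_filter.2 ⟨Finset.mem_univ _, ha'.2⟩)
    · intro a ha b hb hab
      have ha' := (Finset.mem_filter.1 (Finset.mem_coe.1 ha)).2
      have hb' := (Finset.mem_filter.1 (Finset.mem_coe.1 hb)).2
      simp only at hab
      have h1 : x * (b⁻¹ * a) = (b⁻¹ * a) * x := by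
        have h2 : a * x⁻¹ * a⁻¹ = b * x⁻¹ * b⁻¹ := by
          have := congrArg (fun w => x⁻¹ * w) hab
          simpa [mul_assoc] using this
        have h3 : b⁻¹ * a * x⁻¹ = x⁻¹ * (b⁻¹ * a) := by
          calc b⁻¹ * a * x⁻¹ = b⁻¹ * (a * x⁻¹ * a⁻¹) * a := by group
            _ = x⁻¹ * (b⁻¹ * a) := by rw [h2]; group
        calc x * (b⁻¹ * a) = x * (b⁻¹ * a * x⁻¹) * x := by group
          _ = (b⁻¹ * a) * x := by rw [h3]; group
      have h4 := hC x hxK _ (K.mul_mem (K.inv_mem hb'.1) ha'.1) h1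
      exact (inv_mul_eq_one.1 h4).symm
  have heq := Finset.eq_of_subset_of_card_le hBA hcard
  have hkA : k ∈ A := Finset.mem_filter.2 ⟨Finset.mem_univ _, hk, hx⟩
  rw [← heq] at hkA
  exact hkN (Finset.mem_filter.1 hkA).2

theorem all_irr (hC : ∀ y : L, y ∉ K → ∀ c ∈ K, y * c = c * y → c = 1) :
    ∀ χ ∈ inducedIrrAbove K ⊥, IsIrrCharacter L χ := by
  rintro χ ⟨θ, h1, h2, -, rfl⟩
  exact Cfsg.Agent.Lib.Helper32Frob.indFun_irr_of_cent K hC θ h1 h2

theorem not_real (hC : ∀ y : L, y ∉ K → ∀ c ∈ K, y * c = c * y → c = 1)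
    (hodd : Odd (Nat.card L)) (hKL : K < ⊤) :
    ∀ χ ∈ inducedIrrAbove K ⊥, conjFun χ ≠ χ := by
  intro χ hχ hreal
  have hirr := all_irr K hC χ hχ
  have h1 := Cfsg.Agent.Lib.Helper4Odd.real_irr_eq_one_of_odd hodd ⟨χ, hirr⟩ (by
    intro g
    have := congrFun hreal g
    exact Complex.conj_eq_iff_im.1 this)
  obtain ⟨x, -, hx⟩ := SetLike.exists_of_lt hKL
  have h2 := zspan_vanish K ⊥ (zspan_of_mem hχ) x hx
  have h3 := congrFun h1 x
  change χ x = 1 at h3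
  rw [h2] at h3
  exact zero_ne_one h3

theorem degree_mul {χ : L → ℂ} (hχ : χ ∈ inducedIrrAbove K ⊥) :
    ∃ k : ℕ, 0 < k ∧ χ 1 = ((K.index * k : ℕ) : ℂ) := by
  obtain ⟨θ, h1, -, -, rfl⟩ := hχ
  obtain ⟨k, hk0, hk⟩ := IsIrrCharacter.exists_degree h1
  refine ⟨k, hk0, ?_⟩
  rw [Cfsg.Agent.Lib.Helper82Mult.indFun_one, hk]
  push_cast; ring

/-- in a Frobenius group `|K:A| ≡ 1` modulo `|L:K|`, with the sum of squares of the degrees. -/
theorem sum_sq (hirr : ∀ χ ∈ inducedIrrAbove K ⊥, IsIrrCharacter L χ) (A : Subgroup L)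
    [A.Normal] (hAK : A ≤ K) (sA : Finset (L → ℂ))
    (hsA : (↑sA : Set (L → ℂ)) = inducedIrrAbove K A) (k : (L → ℂ) → ℕ)
    (hk : ∀ χ ∈ inducedIrrAbove K ⊥, χ 1 = ((K.index * k χ : ℕ) : ℂ)) :
    K.index * ∑ χ ∈ sA, k χ ^ 2 + 1 = A.relIndex K := by
  have hmem : ∀ χ ∈ sA, χ ∈ inducedIrrAbove K ⊥ := fun χ hχ => by
    apply subset_bot (A := A); rw [← hsA]; exact hχ
  have h1 := sum_formula K A hAK sA hsA (orth_of_irr (fun χ hχ => hirr χ (hmem χ hχ)))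
  have he : (K.index : ℂ) ≠ 0 := Nat.cast_ne_zero.mpr Subgroup.index_ne_zero_of_finite
  have h2 : ∑ χ ∈ sA, χ 1 / classInner χ χ * χ 1 =
      (K.index : ℂ) * ((K.index * ∑ χ ∈ sA, k χ ^ 2 : ℕ) : ℂ) := by
    push_cast
    rw [Finset.mul_sum, Finset.mul_sum]
    apply Finset.sum_congr rfl
    intro χ hχ
    rw [classInner_irr_self (hirr χ (hmem χ hχ)), hk χ (hmem χ hχ)]
    push_cast; ring
  rw [h2] at h1
  have h3 := mul_left_cancel₀ he h1
  have h4 : ((K.index * ∑ χ ∈ sA, k χ ^ 2 + 1 : ℕ) : ℂ) = (A.relIndex K : ℂ) := by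
    rw [Nat.cast_add, h3]; simp
  exact_mod_cast h4

end Frob

end Cfsg.Agent.Lib.Helper32FrobGrp
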